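import Mathlib
import Cfsg.Prelude.Def_SolvableStructure
import Cfsg.Prelude.Def_Transfer
import Cfsg.Agent.S0046
import Cfsg.Agent.Lib.HallCore
import Cfsg.Agent.Lib.HallSolvable
import Cfsg.Agent.Lib.HallNilpotentConj
import Cfsg.Agent.Lib.CoprimeAction
import Cfsg.Agent.Lib.PGroupsBasic

/-!
# Minimal non-nilpotent and minimal non-abelian groups
-/

set_option autoImplicit false

namespace Cfsg.Agent.HallSchmidt

open scoped Pointwise commutatorElement
open Subgroup Cfsg.Agent.HallCore Cfsg.Agent.HallSolvable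

variable {G : Type*} [Group G]

/-- Subgroups of coprime order inside a nilpotent subgroup commute. -/
theorem le_centralizer_of_nilpotent [Finite G] {U A B : Subgroup G} (hU : Group.IsNilpotent U)
    (hA : A ≤ U) (hB : B ≤ U) (h : (Nat.card A).Coprime (Nat.card B)) :
    A ≤ Subgroup.centralizer (B : Set G) := by
  intro a ha b hb
  have := hU
  refine congrArg Subtype.val (Cfsg.Agent.HallNilpotentConj.commute_of_coprime_orderOf U
    ⟨b, hB hb⟩ ⟨a, hA ha⟩ ?_).eq
  rw [← Subgroup.orderOf_coe, ← Subgroup.orderOf_coe]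
  exact ((h.coprime_dvd_left (Subgroup.orderOf_dvd_natCard A ha)).coprime_dvd_right
    (Subgroup.orderOf_dvd_natCard B hb)).symm

/-- A nilpotent group with abelian Sylow subgroups is abelian. -/
theorem isMulCommutative_of_sylow [Finite G] [Group.IsNilpotent G]
    (h : ∀ p : ℕ, p.Prime → ∀ P : Sylow p G, IsMulCommutative P) : IsMulCommutative G := by
  let e := Sylow.directProductOfNormal (G := G) (fun P => inferInstance)
  refine ⟨⟨fun a b => ?_⟩⟩
  obtain ⟨x, rfl⟩ := e.surjective a
  obtain ⟨y, rfl⟩ := e.surjective b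
  rw [← map_mul, ← map_mul]
  congr 1
  funext p P
  exact (h p (Nat.prime_of_mem_primeFactors p.2) P).is_comm.comm _ _

/-- A subgroup containing a Sylow subgroup for every prime is everything. -/
theorem eq_top_of_sylow_le [Finite G] {U : Subgroup G}
    (h : ∀ p : ℕ, p.Prime → ∃ P : Sylow p G, (P : Subgroup G) ≤ U) : U = ⊤ := by
  rw [← Subgroup.index_eq_one]
  refine Nat.eq_one_iff_not_exists_prime_dvd.mpr fun p hp hd => ?_
  have : Fact p.Prime := ⟨hp⟩
  obtain ⟨P, hP⟩ := h p hp
  exact P.not_dvd_index (hd.trans (Subgroup.index_dvd_of_le hP))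

/-- Schmidt: structure of minimal non-nilpotent groups. -/
theorem structure_minimalNonNilpotent [Finite G] (hG : Cfsg.IsMinimalNonNilpotent G) :
    ∃ p q : ℕ, p.Prime ∧ q.Prime ∧ p ≠ q ∧ ∃ (P : Sylow p G) (Q : Sylow q G), IsCyclic P ∧
      (Q : Subgroup G).Normal ∧ (P : Subgroup G) ⊔ Q = ⊤ ∧ ¬ (P : Subgroup G).Normal := by
  have hsolv : Group.IsSolvable G := Cfsg.Agent.S0046.result (fun M hM => hG.2 M hM.1)
  have : Nontrivial G := by
    by_contra h
    have : Subsingleton G := not_nontrivial_iff_subsingleton.mp h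
    exact hG.1 inferInstance
  obtain ⟨M, hMt, hMc⟩ :=
    (eq_top_or_exists_le_coatom (commutator G)).resolve_left
      (Group.IsSolvable.commutator_lt_top_of_nontrivial (G := G)).ne
  have hMn : M.Normal := by
    refine ⟨fun a ha g => ?_⟩
    have h1 : g * a * g⁻¹ * a⁻¹ ∈ M :=
      hMc (Subgroup.commutator_mem_commutator (Subgroup.mem_top g) (Subgroup.mem_top a))
    simpa using M.mul_mem h1 ha
  have hq : Nontrivial (G ⧸ M) := QuotientGroup.nontrivial_iff.mpr hMt.1
  obtain ⟨L, hL⟩ := exists_minNormal (G := G ⧸ M)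
  have := hL.normal
  obtain ⟨p, e, hp, he, hLc, -⟩ := hL.card_eq_pow
  have hLt : L = ⊤ := by
    have h1 : M < L.comap (QuotientGroup.mk' M) := by
      refine lt_of_le_of_ne (QuotientGroup.le_comap_mk' M L) fun heq => hL.ne_bot ?_
      rw [← Subgroup.map_comap_eq_self_of_surjective (QuotientGroup.mk'_surjective M) L, ← heq,
        QuotientGroup.map_mk'_self]
    rw [← Subgroup.map_comap_eq_self_of_surjective (QuotientGroup.mk'_surjective M) L,
      hMt.2 _ h1, Subgroup.map_top_of_surjective _ (QuotientGroup.mk'_surjective M)]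
  have hidx : M.index = p ^ e := by
    rw [Subgroup.index_eq_card, ← hLc, hLt, Subgroup.card_top]
  have hpf : Fact p.Prime := ⟨hp⟩
  have hMnil := hG.2 M hMt.1
  have hnormal : ∀ r : ℕ, r.Prime → r ≠ p → ∀ R : Sylow r G, (R : Subgroup G).Normal := by
    intro r hr hrp R
    have : Fact r.Prime := ⟨hr⟩
    have hRM : (R : Subgroup G) ≤ M := by
      intro x hx
      obtain ⟨k, hk⟩ := IsPGroup.iff_orderOf.mp R.2 ⟨x, hx⟩
      rw [← Subgroup.orderOf_coe] at hk
      refine (QuotientGroup.eq_one_iff x).mp (orderOf_eq_one_iff.mp ?_)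
      refine Nat.eq_one_of_dvd_coprimes (((Nat.coprime_primes hr hp).mpr hrp).pow k e)
        (hk ▸ orderOf_map_dvd (QuotientGroup.mk' M) x) ?_
      rw [← hidx, Subgroup.index_eq_card]
      exact orderOf_dvd_natCard _
    have : Group.IsNilpotent M := hMnil
    have : ((R.subtype hRM : Sylow r M) : Subgroup M).Characteristic :=
      Sylow.characteristic_of_normal _ inferInstance
    have h3 := ConjAct.normal_of_characteristic_of_normal
      (K := ((R.subtype hRM : Sylow r M) : Subgroup M))
    rwa [Sylow.coe_subtype, Subgroup.map_subgroupOf_eq_of_le hRM] at h3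
  obtain ⟨P⟩ : Nonempty (Sylow p G) := inferInstance
  have hPn : ¬ (P : Subgroup G).Normal := by
    intro h
    refine hG.1 ((Group.isNilpotent_of_finite_tfae (G := G).out 0 3 rfl rfl).mpr ?_)
    intro r hr R
    by_cases hrp : r = p
    · subst hrp
      obtain ⟨g, rfl⟩ := MulAction.exists_smul_eq G P R
      rw [Sylow.smul_eq_of_normal]
      exact h
    · exact hnormal r hr.out hrp R
  obtain ⟨q, hq', hqp, Q, hQ⟩ : ∃ q : ℕ, q.Prime ∧ q ≠ p ∧ ∃ Q : Sylow q G,
      ¬ (Q : Subgroup G) ≤ Subgroup.normalizer ((P : Subgroup G) : Set G) := by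
    by_contra hno
    push Not at hno
    refine hPn (Subgroup.normalizer_eq_top_iff.mp (eq_top_of_sylow_le fun r hr => ?_))
    by_cases hrp : r = p
    · subst hrp; exact ⟨P, Subgroup.le_normalizer⟩
    · obtain ⟨R⟩ : Nonempty (Sylow r G) := inferInstance
      exact ⟨R, hno r hr hrp R⟩
  have : Fact q.Prime := ⟨hq'⟩
  have hcop : (Nat.card (P : Subgroup G)).Coprime (Nat.card (Q : Subgroup G)) := by
    rw [P.card_eq_multiplicity, Q.card_eq_multiplicity]
    exact ((Nat.coprime_primes hp hq').mpr (Ne.symm hqp)).pow _ _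
  have htop : (P : Subgroup G) ⊔ Q = ⊤ := by
    by_contra hne
    refine hQ fun x hx => ?_
    have h1 := le_centralizer_of_nilpotent (hG.2 _ hne) (A := (Q : Subgroup G))
      (B := (P : Subgroup G)) le_sup_right le_sup_left hcop.symm
    exact Subgroup.centralizer_le_normalizer _ (h1 hx)
  refine ⟨p, q, hp, hq', Ne.symm hqp, P, Q, ?_, hnormal q hq' hqp Q, htop, hPn⟩
  rw [isCyclic_iff_exists_zpowers_eq_top]
  by_contra hno
  push Not at hno
  refine hQ fun y hy => Subgroup.centralizer_le_normalizer _ ?_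
  intro x hx
  have := hnormal q hq' hqp Q
  have hlt : Subgroup.zpowers x ⊔ (Q : Subgroup G) ≠ ⊤ := by
    intro h
    refine hno ⟨x, hx⟩ (Subgroup.map_injective (P : Subgroup G).subtype_injective ?_)
    rw [MonoidHom.map_zpowers, ← MonoidHom.range_eq_map, Subgroup.range_subtype]
    refine Subgroup.eq_of_le_of_card_ge (Subgroup.zpowers_le.mpr hx) ?_
    refine Nat.le_of_dvd Nat.card_pos ?_
    have h1 : Nat.card (P : Subgroup G) ∣
        Nat.card (Subgroup.zpowers x) * Nat.card (Q : Subgroup G) := by
      refine dvd_trans (Subgroup.card_subgroup_dvd_card _) ?_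
      rw [← Subgroup.card_top (G := G), ← h]
      exact card_sup_dvd _ _
    exact hcop.dvd_of_dvd_mul_right h1
  have hc : (Nat.card (Subgroup.zpowers x)).Coprime (Nat.card (Q : Subgroup G)) :=
    hcop.coprime_dvd_left (Subgroup.card_dvd_of_le (Subgroup.zpowers_le.mpr hx))
  exact le_centralizer_of_nilpotent (hG.2 _ hlt) (A := (Q : Subgroup G))
    (B := Subgroup.zpowers x) le_sup_right le_sup_left hc.symm hy x (Subgroup.mem_zpowers x)

/-- Structure of minimal non-abelian groups. -/
theorem structure_minimalNonAbelian [Finite G] (hna : ¬ IsMulCommutative G)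
    (h : ∀ H : Subgroup G, H ≠ ⊤ → IsMulCommutative H) :
    (∃ p : ℕ, p.Prime ∧ IsPGroup p G) ∨ ∃ p q : ℕ, p.Prime ∧ q.Prime ∧ p ≠ q ∧
      ∃ (P : Sylow p G) (Q : Sylow q G), IsCyclic P ∧ (Q : Subgroup G).Normal ∧
        Cfsg.IsElementaryAbelian q (Q : Subgroup G) ∧ (P : Subgroup G) ⊔ Q = ⊤ := by
  have hnilsub : ∀ H : Subgroup G, H ≠ ⊤ → Group.IsNilpotent H := fun H hH => by
    have hc := h H hH
    let _ : CommGroup H := { (inferInstance : Group H) with mul_comm := hc.is_comm.comm }
    infer_instance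
  by_cases hnil : Group.IsNilpotent G
  · left
    by_contra hno
    push Not at hno
    have := hnil
    refine hna (isMulCommutative_of_sylow fun p hp P => h _ fun ht => hno p hp ?_)
    have := P.2
    rw [ht] at this
    exact this.of_equiv Subgroup.topEquiv
  · right
    obtain ⟨p, q, hp, hq, hpq, P, Q, hPc, hQn, htop, hPn⟩ :=
      structure_minimalNonNilpotent ⟨hnil, hnilsub⟩
    have : Fact p.Prime := ⟨hp⟩
    have : Fact q.Prime := ⟨hq⟩
    refine ⟨p, q, hp, hq, hpq, P, Q, hPc, hQn, ?_, htop⟩
    have hcop : (Nat.card (P : Subgroup G)).Coprime (Nat.card (Q : Subgroup G)) := by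
      rw [P.card_eq_multiplicity, Q.card_eq_multiplicity]
      exact ((Nat.coprime_primes hp hq).mpr hpq).pow _ _
    have hQt : (Q : Subgroup G) ≠ ⊤ := by
      intro e
      refine hnil ?_
      have := Q.2
      rw [e] at this
      exact (this.of_equiv Subgroup.topEquiv).isNilpotent
    have hQab := h _ hQt
    refine ⟨hQab, fun y hy => ?_⟩
    by_contra hyp
    -- `P` centralizes every element of order `q` of `Q`
    have hcent : ∀ v ∈ (Q : Subgroup G), (orderOf v).Prime →
        ∀ a ∈ (P : Subgroup G), a * v = v * a := by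
      intro v hv hvp a ha
      have hvq : orderOf v = q := by
        obtain ⟨k, hk⟩ := IsPGroup.iff_orderOf.mp Q.2 ⟨v, hv⟩
        rw [← Subgroup.orderOf_coe] at hk
        have hdvd : orderOf v ∣ q ^ k := hk ▸ dvd_rfl
        exact (Nat.prime_dvd_prime_iff_eq hvp hq).mp (hvp.dvd_of_dvd_pow hdvd)
      let Q₁ : Subgroup (Q : Subgroup G) :=
        { carrier := {x | x ^ q = 1}
          mul_mem' := fun {a b} ha hb => by
            have hc : Commute a b := hQab.is_comm.comm a b
            simp only [Set.mem_ofPred_eq] at ha hb ⊢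
            rw [hc.mul_pow, ha, hb, one_mul]
          one_mem' := by simp
          inv_mem' := fun {a} ha => by
            simp only [Set.mem_ofPred_eq] at ha ⊢
            rw [inv_pow, ha, inv_one] }
      have hQ₁ : Q₁.Characteristic := by
        refine Subgroup.characteristic_iff_comap_le.mpr fun e x hx => ?_
        have hx' : e x ^ q = 1 := hx
        exact e.injective (show e (x ^ q) = e 1 by rw [map_pow, hx', map_one])
      set T := Q₁.map (Q : Subgroup G).subtype
      have hTn : T.Normal := inferInstance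
      have hlt : (P : Subgroup G) ⊔ T ≠ ⊤ := by
        intro ht
        have h1 : Nat.card (Q : Subgroup G) ∣ Nat.card T := by
          refine hcop.symm.dvd_of_dvd_mul_left ?_
          refine (Subgroup.card_subgroup_dvd_card _).trans ?_
          rw [← Subgroup.card_top (G := G), ← ht]
          exact card_sup_dvd _ _
        have h2 : T = (Q : Subgroup G) := Subgroup.eq_of_le_of_card_ge (Subgroup.map_subtype_le _)
          (Nat.le_of_dvd Nat.card_pos h1)
        have h3 : y ∈ T := h2.ge hy
        obtain ⟨z, hz, hzy⟩ := h3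
        exact hyp (hzy ▸ congrArg Subtype.val hz)
      have hvT : v ∈ T := ⟨⟨v, hv⟩, Subtype.ext (by
        show v ^ q = 1
        rw [← hvq, pow_orderOf_eq_one]), rfl⟩
      exact congrArg Subtype.val ((h _ hlt).is_comm.comm
        (⟨a, Subgroup.mem_sup_left ha⟩ : ↥((P : Subgroup G) ⊔ T))
        ⟨v, Subgroup.mem_sup_right hvT⟩)
    have := hQab
    have hPQ := Cfsg.Agent.CoprimeAction.le_centralizer_of_prime_order_fixed
      (A := (P : Subgroup G)) (V := (Q : Subgroup G)) Subgroup.le_normalizer_of_normal hcop hcent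
    refine hPn (Subgroup.normalizer_eq_top_iff.mp (top_le_iff.mp ?_))
    rw [← htop, sup_le_iff]
    refine ⟨Subgroup.le_normalizer, ?_⟩
    rw [Subgroup.le_centralizer_iff] at hPQ
    exact hPQ.trans (Subgroup.centralizer_le_normalizer _)

theorem quotient_commutator_minimalNonNilpotent [Finite G] (hG : Cfsg.IsMinimalNonNilpotent G)
    (q : ℕ) [hqf : Fact q.Prime] (hq : q ∣ Nat.card G) (Q : Sylow q G)
    (hQ : (Q : Subgroup G).Normal) (D : Subgroup G) [D.Normal]
    (hD : D = (commutator ↥(Q : Subgroup G)).map (Q : Subgroup G).subtype) :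
    ¬ IsMulCommutative (G ⧸ D) ∧ ∀ K : Subgroup (G ⧸ D), K ≠ ⊤ → IsMulCommutative K := by
  obtain ⟨p, q', hp, hq', hpq, P, Q', hPc, hQn, htop, hPn⟩ := structure_minimalNonNilpotent hG
  have : Fact p.Prime := ⟨hp⟩
  have : Fact q'.Prime := ⟨hq'⟩
  have hcop : (Nat.card (P : Subgroup G)).Coprime (Nat.card (Q' : Subgroup G)) := by
    rw [P.card_eq_multiplicity, Q'.card_eq_multiplicity]
    exact ((Nat.coprime_primes hp hq').mpr hpq).pow _ _
  have hqq : q = q' := by
    by_contra hne
    by_cases hqp : q = p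
    · subst hqp
      apply hPn
      obtain ⟨g, rfl⟩ := MulAction.exists_smul_eq G Q P
      rw [Sylow.smul_eq_of_normal]
      exact hQ
    · have h1 : Nat.card G ∣ Nat.card (P : Subgroup G) * Nat.card (Q' : Subgroup G) := by
        rw [← Subgroup.card_top (G := G), ← htop]
        exact card_sup_dvd _ _
      rw [P.card_eq_multiplicity, Q'.card_eq_multiplicity] at h1
      rcases (Nat.Prime.dvd_mul hqf.out).mp (hq.trans h1) with h2 | h2
      · exact hqp ((Nat.prime_dvd_prime_iff_eq hqf.out hp).mp (hqf.out.dvd_of_dvd_pow h2))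
      · exact hne ((Nat.prime_dvd_prime_iff_eq hqf.out hq').mp (hqf.out.dvd_of_dvd_pow h2))
  subst hqq
  obtain rfl : Q' = Q := by
    obtain ⟨g, rfl⟩ := MulAction.exists_smul_eq G Q' Q
    rw [Sylow.smul_eq_of_normal]
  set π := QuotientGroup.mk' D
  have hπs : Function.Surjective π := QuotientGroup.mk'_surjective D
  have hDQ : D ≤ (Q' : Subgroup G) := hD ▸ Subgroup.map_subtype_le _
  constructor
  · intro hab
    refine hPn (Subgroup.normalizer_eq_top_iff.mp (top_le_iff.mp ?_))
    rw [← htop, sup_le_iff]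
    refine ⟨Subgroup.le_normalizer, le_trans ?_ (Subgroup.centralizer_le_normalizer _)⟩
    rw [Subgroup.le_centralizer_iff]
    refine Cfsg.Agent.CoprimeAction.le_centralizer_of_frattini Subgroup.le_normalizer_of_normal
      (hcop.coprime_dvd_right ((Subgroup.card_subgroup_dvd_card _))) ?_
    intro a _ k _
    have h1 : a * k * a⁻¹ * k⁻¹ ∈ D := by
      refine (QuotientGroup.eq_one_iff _).mp ?_
      show π (a * k * a⁻¹ * k⁻¹) = 1
      rw [map_mul, map_mul, map_mul, map_inv, map_inv, hab.is_comm.comm (π a) (π k),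
        mul_inv_cancel_right, mul_inv_cancel]
    rw [hD] at h1
    refine Subgroup.map_mono ?_ h1
    exact Cfsg.Agent.PGroupsBasic.commutator_le_frattini Q'.2
  · intro K hK
    have hcK : K.comap π ≠ ⊤ := fun e => hK (by
      rw [← Subgroup.map_comap_eq_self_of_surjective hπs K, e,
        Subgroup.map_top_of_surjective π hπs])
    have hmap : (K.comap π).map π = K := Subgroup.map_comap_eq_self_of_surjective hπs K
    have := hG.2 _ hcK
    have hKnil : Group.IsNilpotent K := by
      rw [← hmap]
      exact Group.nilpotent_of_surjective (π.subgroupMap _) (π.subgroupMap_surjective _)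
    refine isMulCommutative_of_sylow fun r hr R => ?_
    have : Fact r.Prime := ⟨hr⟩
    obtain ⟨S, hS⟩ := (R.2.map K.subtype).exists_le_sylow
    suffices hSab : IsMulCommutative (S : Subgroup (G ⧸ D)) by
      refine ⟨⟨fun a b => ?_⟩⟩
      have := congrArg Subtype.val (hSab.is_comm.comm
        (⟨((a : K) : G ⧸ D), hS ⟨a, a.2, rfl⟩⟩ : (S : Subgroup (G ⧸ D)))
        ⟨((b : K) : G ⧸ D), hS ⟨b, b.2, rfl⟩⟩)
      simp only [Subgroup.coe_mul] at this
      exact Subtype.ext (Subtype.ext this)
    obtain ⟨S', rfl⟩ := Sylow.mapSurjective_surjective hπs r S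
    rw [Sylow.coe_mapSurjective]
    by_cases hrq : r = q
    · subst hrq
      obtain ⟨g, rfl⟩ := MulAction.exists_smul_eq G Q' S'
      rw [Sylow.smul_eq_of_normal]
      refine ⟨⟨?_⟩⟩
      rintro ⟨_, a, ha, rfl⟩ ⟨_, b, hb, rfl⟩
      refine Subtype.ext ?_
      show π a * π b = π b * π a
      rw [← commutatorElement_eq_one_iff_mul_comm, ← map_commutatorElement]
      refine (QuotientGroup.eq_one_iff _).mpr ?_
      rw [hD]
      exact ⟨⁅(⟨a, ha⟩ : (Q' : Subgroup G)), ⟨b, hb⟩⁆,
        Subgroup.commutator_mem_commutator (Subgroup.mem_top _) (Subgroup.mem_top _), rfl⟩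
    · have : IsCyclic ↥(S' : Subgroup G) := by
        by_cases hrp : r = p
        · subst hrp
          obtain ⟨g, rfl⟩ := MulAction.exists_smul_eq G P S'
          exact isCyclic_of_surjective (Sylow.equivSMul P g).toMonoidHom
            (Sylow.equivSMul P g).surjective
        · have hb : (S' : Subgroup G) = ⊥ := by
            rw [← Subgroup.card_eq_one, S'.card_eq_multiplicity,
              Nat.factorization_eq_zero_of_not_dvd, pow_zero]
            intro hd
            have h1 : Nat.card G ∣ Nat.card (P : Subgroup G) * Nat.card (Q' : Subgroup G) := by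
              rw [← Subgroup.card_top (G := G), ← htop]
              exact card_sup_dvd _ _
            rw [P.card_eq_multiplicity, Q'.card_eq_multiplicity] at h1
            rcases (Nat.Prime.dvd_mul hr).mp (hd.trans h1) with h2 | h2
            · exact hrp ((Nat.prime_dvd_prime_iff_eq hr hp).mp (hr.dvd_of_dvd_pow h2))
            · exact hrq ((Nat.prime_dvd_prime_iff_eq hr hq').mp (hr.dvd_of_dvd_pow h2))
          rw [hb]
          exact inferInstance
      have := isCyclic_of_surjective (π.subgroupMap (S' : Subgroup G))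
        (π.subgroupMap_surjective (S' : Subgroup G))
      exact IsCyclic.isMulCommutative

end Cfsg.Agent.HallSchmidt
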