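import Mathlib
import Cfsg.Prelude.Def_HallClasses
import Cfsg.Agent.Lib.HallSymBasic76

/-!
Elementary facts on Hall subgroups.
-/

set_option autoImplicit false

namespace Cfsg.Agent.HallSymDom76

open Cfsg Cfsg.Agent.HallSymBasic76

variable {G : Type*} [Group G] [Finite G] {π : Set ℕ}

theorem hall_iff (H : Subgroup G) : IsPiHall π H ↔ (∀ p : ℕ, p.Prime → p ∣ Nat.card H → p ∈ π) ∧
    ∀ p : ℕ, p.Prime → p ∈ π → (Nat.card G).factorization p ≤ (Nat.card H).factorization p := by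
  refine and_congr Iff.rfl ⟨fun h p hp hpπ => ?_, fun h p hp hpπ hd => ?_⟩
  · have := Nat.factorization_eq_zero_of_not_dvd (h p hp hpπ)
    rw [← H.card_mul_index, fact_mul Nat.card_pos.ne' Subgroup.index_ne_zero_of_finite]
    omega
  · have h1 := h p hp hpπ
    rw [← H.card_mul_index, fact_mul Nat.card_pos.ne' Subgroup.index_ne_zero_of_finite] at h1
    have := hp.factorization_pos_of_dvd Subgroup.index_ne_zero_of_finite hd
    omega

/-- A Hall subgroup is a maximal π-subgroup. -/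
theorem hall_eq_of_le {H K : Subgroup G} (hH : IsPiHall π H) (hK : IsPiSubgroup π K) (hle : H ≤ K) :
    H = K := by
  apply Subgroup.eq_of_le_of_card_ge hle
  apply Nat.le_of_dvd Nat.card_pos
  rw [← Nat.factorization_le_iff_dvd Nat.card_pos.ne' Nat.card_pos.ne']
  intro p
  by_cases hp : p.Prime
  · by_cases hpK : p ∣ Nat.card K
    · exact (fact_le_of_dvd Nat.card_pos.ne' K.card_subgroup_dvd_card).trans
        (((hall_iff H).1 hH).2 p hp (hK p hp hpK))
    · rw [Nat.factorization_eq_zero_of_not_dvd hpK]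
      exact Nat.zero_le _
  · rw [Nat.factorization_eq_zero_of_not_prime _ hp]
    exact Nat.zero_le _

theorem map_conj_le {H K : Subgroup G} {g : G} (h : H ≤ K) :
    H.map (MulAut.conj g).toMonoidHom ≤ K.map (MulAut.conj g).toMonoidHom :=
  Subgroup.map_mono h

theorem card_map_conj (H : Subgroup G) (g : G) :
    Nat.card ↥(H.map (MulAut.conj g).toMonoidHom) = Nat.card H :=
  Subgroup.card_map_of_injective (MulAut.conj g).injective

theorem piSubgroup_conj {H : Subgroup G} (h : IsPiSubgroup π H) (g : G) :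
    IsPiSubgroup π (H.map (MulAut.conj g).toMonoidHom) := by
  intro p hp hd
  rw [card_map_conj] at hd
  exact h p hp hd

theorem hall_conj {H : Subgroup G} (h : IsPiHall π H) (g : G) :
    IsPiHall π (H.map (MulAut.conj g).toMonoidHom) := by
  rw [hall_iff] at h ⊢
  rw [card_map_conj]
  exact h

/-- Hall subgroups exist, are conjugate and contain all π-subgroups up to conjugacy. -/
structure Dom (π : Set ℕ) (G : Type*) [Group G] : Prop where
  cpi : IsCPiGroup π G
  dom : ∀ T : Subgroup G, IsPiSubgroup π T → ∃ H : Subgroup G, IsPiHall π H ∧ T ≤ H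

theorem Dom.dpi (h : Dom π G) : IsDPiGroup π G := by
  intro H K hH hK
  obtain ⟨H', hH', hle⟩ := h.dom H hH.1
  obtain ⟨K', hK', hle'⟩ := h.dom K hK.1
  have e1 : H = H' := le_antisymm hle (hH.2 hH'.1 hle)
  have e2 : K = K' := le_antisymm hle' (hK.2 hK'.1 hle')
  exact e1 ▸ e2 ▸ h.cpi.2 H' K' hH' hK'

theorem dom_of_all (h : ∀ p : ℕ, p.Prime → p ∣ Nat.card G → p ∈ π) : Dom π G := by
  have hu : ∀ H : Subgroup G, IsPiHall π H → H = ⊤ := fun H hH =>
    hall_eq_of_le hH (fun p hp hd => h p hp (by rwa [Subgroup.card_top] at hd)) le_top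
  have htop : IsPiHall π (⊤ : Subgroup G) := by
    rw [hall_iff, Subgroup.card_top]
    exact ⟨h, fun _ _ _ => le_rfl⟩
  exact ⟨⟨⟨_, htop⟩, fun H K hH hK => ⟨1, by rw [hu H hH, hu K hK]; simp⟩⟩,
    fun T _ => ⟨⊤, htop, le_top⟩⟩

theorem dom_of_one (h : ∀ r s : ℕ, r.Prime → s.Prime → r ∈ π → s ∈ π → r ∣ Nat.card G →
    s ∣ Nat.card G → r = s) : Dom π G := by
  by_cases hex : ∃ p : ℕ, p.Prime ∧ p ∈ π ∧ p ∣ Nat.card G
  · obtain ⟨p, hp, hpπ, hpG⟩ := hex
    have : Fact p.Prime := ⟨hp⟩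
    have honly : ∀ q : ℕ, q.Prime → q ∈ π → q ∣ Nat.card G → q = p := fun q hq hqπ hqG =>
      h q p hq hp hqπ hpπ hqG hpG
    have hpgrp : ∀ T : Subgroup G, IsPiSubgroup π T → IsPGroup p T := fun T hT =>
      IsPGroup.of_card (n := (Nat.card T).primeFactorsList.length)
        (Nat.eq_prime_pow_of_unique_prime_dvd Nat.card_pos.ne' fun {q} hq hd =>
          honly q hq (hT q hq hd) (hd.trans T.card_subgroup_dvd_card))
    have hsyl : ∀ P : Sylow p G, IsPiHall π (P : Subgroup G) := by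
      intro P
      rw [hall_iff, Sylow.card_eq_multiplicity]
      refine ⟨fun q hq hd => ?_, fun q hq hqπ => ?_⟩
      · rw [(Nat.prime_dvd_prime_iff_eq hq hp).1 (hq.dvd_of_dvd_pow hd)]
        exact hpπ
      · by_cases hqG : q ∣ Nat.card G
        · rw [honly q hq hqπ hqG, hp.factorization_pow, Finsupp.single_eq_same]
        · rw [Nat.factorization_eq_zero_of_not_dvd hqG]
          exact Nat.zero_le _
    have hdom : ∀ T : Subgroup G, IsPiSubgroup π T → ∃ P : Sylow p G, T ≤ P := fun T hT =>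
      (hpgrp T hT).exists_le_sylow
    refine ⟨⟨⟨_, hsyl default⟩, fun H K hH hK => ?_⟩, fun T hT => ?_⟩
    · obtain ⟨P, hP⟩ := hdom H hH.1
      obtain ⟨Q, hQ⟩ := hdom K hK.1
      obtain ⟨g, hg⟩ := MulAction.exists_smul_eq G P Q
      refine ⟨g, ?_⟩
      rw [hall_eq_of_le hK (hsyl Q).1 hQ, hall_eq_of_le hH (hsyl P).1 hP, ← hg, Sylow.smul_def]
      rfl
    · obtain ⟨P, hP⟩ := hdom T hT
      exact ⟨_, hsyl P, hP⟩
  · push Not at hex
    have hu : ∀ H : Subgroup G, IsPiSubgroup π H → H = ⊥ := by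
      intro H hH
      rw [← Subgroup.card_eq_one]
      by_contra hne
      obtain ⟨q, hq, hqd⟩ := Nat.exists_prime_and_dvd hne
      exact hex q hq (hH q hq hqd) (hqd.trans H.card_subgroup_dvd_card)
    have hbot : IsPiHall π (⊥ : Subgroup G) := by
      rw [hall_iff, Subgroup.card_bot]
      refine ⟨fun q hq hd => absurd (Nat.dvd_one.1 hd) hq.ne_one, fun q hq hqπ => ?_⟩
      rw [Nat.factorization_eq_zero_of_not_dvd (hex q hq hqπ)]
      exact Nat.zero_le _
    exact ⟨⟨⟨_, hbot⟩, fun H K hH hK => ⟨1, by rw [hu H hH.1, hu K hK.1]; simp⟩⟩,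
      fun T hT => ⟨⊥, hbot, (hu T hT).le⟩⟩

/-- In a `D_π`-group every π-subgroup lies in a Hall subgroup. -/
theorem dom_of_dpi (h : IsDPiGroup π G) (T : Subgroup G) (hT : IsPiSubgroup π T) :
    ∃ H : Subgroup G, IsPiHall π H ∧ T ≤ H := by
  obtain ⟨H, hle, hmax⟩ := Finite.exists_le_maximal (p := IsPiSubgroup π) hT
  refine ⟨H, ?_, hle⟩
  rw [hall_iff]
  refine ⟨hmax.1, fun p hp hpπ => ?_⟩
  have : Fact p.Prime := ⟨hp⟩
  let P : Sylow p G := default
  have hP : IsPiSubgroup π (P : Subgroup G) := by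
    intro q hq hd
    rw [Sylow.card_eq_multiplicity] at hd
    rw [(Nat.prime_dvd_prime_iff_eq hq hp).1 (hq.dvd_of_dvd_pow hd)]
    exact hpπ
  obtain ⟨K, hPK, hKmax⟩ := Finite.exists_le_maximal (p := IsPiSubgroup π) hP
  obtain ⟨g, hg⟩ := h H K hmax hKmax
  have hc : Nat.card K = Nat.card H := by rw [hg, card_map_conj]
  rw [← hc]
  have := fact_le_of_dvd (p := p) (Nat.card_pos (α := K)).ne' (Subgroup.card_dvd_of_le hPK)
  rwa [Sylow.card_eq_multiplicity, hp.factorization_pow, Finsupp.single_eq_same] at this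

end Cfsg.Agent.HallSymDom76
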