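import Mathlib
import Cfsg.Prelude.Def_HallClasses
import Cfsg.Agent.Lib.HallSymCore76
import Cfsg.Agent.Lib.HallSymDom76

/-!
The Hall subgroups of symmetric and alternating groups.
-/

set_option autoImplicit false

open Equiv Equiv.Perm

namespace Cfsg.Agent.HallSymMain76

open Cfsg Cfsg.Agent.HallSymBasic76 Cfsg.Agent.HallSymCore76 Cfsg.Agent.HallSymDom76

variable {n : ℕ} {π : Set ℕ}

/-- Two primes of `π` are at most `n`. -/
def Two (π : Set ℕ) (n : ℕ) : Prop :=
  ∃ r s : ℕ, r.Prime ∧ s.Prime ∧ r < s ∧ r ∈ π ∧ s ∈ π ∧ s ≤ n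

/-- All primes up to `n` lie in `π`. -/
def Full (π : Set ℕ) (n : ℕ) : Prop := ∀ p : ℕ, p.Prime → p ≤ n → p ∈ π

/-- The condition for `n = 7, 8`. -/
def Is23 (π : Set ℕ) (n : ℕ) : Prop :=
  ∀ p : ℕ, p.Prime → p ≤ n → (p ∈ π ↔ (p = 2 ∨ p = 3))

theorem Two.five_le (h2 : Two π n) (hF : ¬ Full π n) : 5 ≤ n := by
  obtain ⟨r, s, hr, hs, hrs, hrπ, hsπ, hsn⟩ := h2
  by_contra hlt
  apply hF
  intro p hp hpn
  have := hr.two_le
  have := hp.two_le
  have hp4 : p ≠ 4 := fun h => by rw [h] at hp; norm_num at hp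
  have hs4 : s ≠ 4 := fun h => by rw [h] at hs; norm_num at hs
  rcases (show p = r ∨ p = s by omega) with h | h <;> subst h <;> assumption

/-- The setwise stabiliser. -/
def setStab (A : Finset (Fin n)) : Subgroup (Perm (Fin n)) where
  carrier := {g | ∀ x, g x ∈ A ↔ x ∈ A}
  mul_mem' {a b} ha hb x := (ha (b x)).trans (hb x)
  one_mem' _ := Iff.rfl
  inv_mem' {a} ha x := by
    have := ha (a⁻¹ x)
    simpa using this.symm

/-- The stabiliser of the partition into `A` and its complement. -/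
def pairStab (A : Finset (Fin n)) : Subgroup (Perm (Fin n)) where
  carrier := {g | (∀ x, g x ∈ A ↔ x ∈ A) ∨ ∀ x, g x ∈ A ↔ x ∉ A}
  mul_mem' {a b} ha hb := by
    rcases ha with ha | ha <;> rcases hb with hb | hb
    · exact Or.inl fun x => (ha (b x)).trans (hb x)
    · exact Or.inr fun x => (ha (b x)).trans (hb x)
    · exact Or.inr fun x => (ha (b x)).trans (not_congr (hb x))
    · exact Or.inl fun x => ((ha (b x)).trans (not_congr (hb x))).trans not_not
  one_mem' := Or.inl fun _ => Iff.rfl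
  inv_mem' {a} ha := by
    rcases ha with ha | ha
    · exact Or.inl fun x => by simpa using (ha (a⁻¹ x)).symm
    · refine Or.inr fun x => ?_
      have := ha (a⁻¹ x)
      rw [show a (a⁻¹ x) = x by simp] at this
      tauto

theorem setStab_le_pairStab (A : Finset (Fin n)) : setStab A ≤ pairStab A := fun _ h => Or.inl h

theorem card_setStab (A : Finset (Fin n)) :
    Nat.card (setStab A) = A.card.factorial * (n - A.card).factorial := by
  have hr : (Perm.subtypeCongrHom (· ∈ A)).range = setStab A := by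
    apply le_antisymm
    · rintro _ ⟨⟨a, b⟩, rfl⟩ x
      show Perm.subtypeCongr a b x ∈ A ↔ x ∈ A
      rw [Perm.subtypeCongr.apply]
      split_ifs with h
      · simp [h]
      · simpa [h] using (b ⟨x, h⟩).2
    · intro g hg
      refine ⟨(g.subtypePerm hg, g.subtypePerm fun x => not_congr (hg x)), ?_⟩
      refine Equiv.ext fun x => ?_
      show Perm.subtypeCongr (g.subtypePerm hg) (g.subtypePerm fun x => not_congr (hg x)) x = g x
      rw [Perm.subtypeCongr.apply]
      split_ifs <;> rfl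
  rw [← hr, ← Nat.card_congr (MonoidHom.ofInjective (Perm.subtypeCongrHom_injective _)).toEquiv,
    Nat.card_prod, Nat.card_perm, Nat.card_perm, Nat.card_eq_fintype_card, Fintype.card_coe,
    Nat.card_eq_fintype_card, Fintype.card_subtype_compl, Fintype.card_coe, Fintype.card_fin]

theorem exists_map_set (A B : Finset (Fin n)) (h : A.card = B.card) :
    ∃ g : Perm (Fin n), ∀ x, g x ∈ B ↔ x ∈ A := by
  let e : {x // x ∈ A} ≃ {x // x ∈ B} := Fintype.equivOfCardEq (by simpa using h)
  exact ⟨e.extendSubtype, fun x => ⟨fun hx => by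
    by_contra hxA
    exact Equiv.extendSubtype_not_mem e x hxA hx, Equiv.extendSubtype_mem e x⟩⟩

theorem card_pairStab (A : Finset (Fin n)) (hA : A.card + A.card = n) (hpos : 0 < A.card) :
    Nat.card (pairStab A) = 2 * (A.card.factorial * A.card.factorial) := by
  obtain ⟨x₀, hx₀⟩ := Finset.card_pos.1 hpos
  obtain ⟨τ, hτ⟩ := exists_map_set A Aᶜ (by rw [Finset.card_compl, Fintype.card_fin]; omega)
  have hτ' : ∀ x, τ x ∈ A ↔ x ∉ A := fun x => by
    have := hτ x
    rw [Finset.mem_compl] at this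
    tauto
  have h2 : ((setStab A).subgroupOf (pairStab A)).index = 2 := by
    rw [Subgroup.index_eq_two_iff]
    refine ⟨⟨τ, Or.inr hτ'⟩, fun b => ?_⟩
    simp only [Subgroup.mem_subgroupOf, Subgroup.coe_mul]
    rcases b.2 with hb | hb
    · refine Or.inr ⟨hb, fun hc => ?_⟩
      have h := hc x₀
      rw [Perm.mul_apply, hb, hτ'] at h
      tauto
    · refine Or.inl ⟨fun x => ?_, fun hc => ?_⟩
      · rw [Perm.mul_apply, hb, hτ']
        tauto
      · have h1 := hc x₀
        have h2 := hb x₀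
        tauto
  rw [← ((setStab A).subgroupOf (pairStab A)).card_mul_index, h2,
    Nat.card_congr (Subgroup.subgroupOfEquivOfLe (setStab_le_pairStab A)).toEquiv, card_setStab,
    show n - A.card = A.card by omega, mul_comm]

/-- The standard Hall subgroups. -/
def IsStd (π : Set ℕ) (n : ℕ) (K : Subgroup (Perm (Fin n))) : Prop :=
  (n.Prime ∧ (∀ p : ℕ, p.Prime → p ≤ n → (p ∈ π ↔ p < n)) ∧
    ∃ x : Fin n, K = MulAction.stabilizer (Perm (Fin n)) x) ∨
  (n = 7 ∧ Is23 π n ∧ ∃ A : Finset (Fin n), A.card = 4 ∧ K = setStab A) ∨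
  (n = 8 ∧ Is23 π n ∧ ∃ A : Finset (Fin n), A.card = 4 ∧ K = pairStab A)

theorem mem_setStab {A : Finset (Fin n)} {g : Perm (Fin n)} :
    g ∈ setStab A ↔ ∀ x, g x ∈ A ↔ x ∈ A := Iff.rfl

theorem fact_perm (p : ℕ) :
    (Nat.card (Perm (Fin n))).factorization p = n.factorial.factorization p := by
  rw [Nat.card_perm, Nat.card_fin]

theorem prime_le_of_dvd_factorial_mul {p a b : ℕ} (hp : p.Prime)
    (h : p ∣ a.factorial * b.factorial) : p ≤ max a b := by
  rcases (hp.dvd_mul).1 h with h | h <;> have := (hp.dvd_factorial).1 h <;> omega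

theorem hall_of_card {K : Subgroup (Perm (Fin n))} {d : ℕ}
    (hcard : Nat.card K * d = n.factorial)
    (hpi : ∀ p : ℕ, p.Prime → p ∣ Nat.card K → p ∈ π)
    (hd : ∀ p : ℕ, p.Prime → p ∈ π → ¬ p ∣ d) : IsPiHall π K := by
  refine ⟨hpi, fun p hp hpπ => ?_⟩
  have h : K.index = d := by
    have := K.card_mul_index
    rw [Nat.card_perm, Nat.card_fin, ← hcard] at this
    exact Nat.eq_of_mul_eq_mul_left Nat.card_pos this
  rw [h]
  exact hd p hp hpπ

theorem IsStd.hall {K : Subgroup (Perm (Fin n))} (hK : IsStd π n K) : IsPiHall π K := by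
  rcases hK with ⟨hn, hiff, x, rfl⟩ | ⟨rfl, hiff, A, hA, rfl⟩ | ⟨rfl, hiff, A, hA, rfl⟩
  · have hidx : (MulAction.stabilizer (Perm (Fin n)) x).index = n := by
      rw [MulAction.index_stabilizer_of_transitive, Nat.card_fin]
    refine ⟨fun p hp hd => ?_, fun p hp hpπ hd => ?_⟩
    · have hmul := (MulAction.stabilizer (Perm (Fin n)) x).card_mul_index
      rw [hidx, Nat.card_perm, Nat.card_fin,
        ← Nat.mul_factorial_pred hn.ne_zero, mul_comm] at hmul
      rw [Nat.eq_of_mul_eq_mul_left hn.pos hmul] at hd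
      have := (hp.dvd_factorial).1 hd
      have := hn.one_lt
      exact (hiff p hp (by omega)).2 (by omega)
    · rw [hidx] at hd
      have := (Nat.prime_dvd_prime_iff_eq hp hn).1 hd
      subst this
      exact lt_irrefl _ ((hiff p hp le_rfl).1 hpπ)
  · refine hall_of_card (d := 35) (by rw [card_setStab, hA]; rfl) ?_ ?_
    · intro p hp hd
      rw [card_setStab, hA] at hd
      have := prime_le_of_dvd_factorial_mul hp hd
      have := hp.two_le
      have hp4 : p ≠ 4 := fun h => by rw [h] at hp; norm_num at hp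
      exact (hiff p hp (by omega)).2 (by omega)
    · intro p hp hpπ hd
      have hle : p ≤ 7 := by
        rcases (hp.dvd_mul).1 (show p ∣ 5 * 7 from hd) with h | h <;>
          have := Nat.le_of_dvd (by norm_num) h <;> omega
      rcases (hiff p hp hle).1 hpπ with rfl | rfl <;> norm_num at hd
  · have hc : Nat.card (pairStab A) = 2 * (Nat.factorial 4 * Nat.factorial 4) := by
      rw [card_pairStab A (by omega) (by omega), hA]
    refine hall_of_card (d := 35) (by rw [hc]; rfl) ?_ ?_
    · intro p hp hd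
      rw [hc] at hd
      have hp4 : p ≠ 4 := fun h => by rw [h] at hp; norm_num at hp
      have hle : p ≤ 4 := by
        rcases (hp.dvd_mul).1 hd with h | h
        · have := Nat.le_of_dvd (by norm_num) h
          omega
        · have := prime_le_of_dvd_factorial_mul hp h
          omega
      have := hp.two_le
      exact (hiff p hp (by omega)).2 (by omega)
    · intro p hp hpπ hd
      have hle : p ≤ 7 := by
        rcases (hp.dvd_mul).1 (show p ∣ 5 * 7 from hd) with h | h <;>
          have := Nat.le_of_dvd (by norm_num) h <;> omega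
      rcases (hiff p hp (by omega)).1 hpπ with rfl | rfl <;> norm_num at hd

theorem exists_two_ne (A : Finset (Fin n)) (h : 2 ≤ A.card) :
    ∃ a b, a ∈ A ∧ b ∈ A ∧ a ≠ b := by
  obtain ⟨a, ha, b, hb, hab⟩ := Finset.one_lt_card.1 (show 1 < A.card by omega)
  exact ⟨a, b, ha, hb, hab⟩

theorem swap_mem_setStab {A : Finset (Fin n)} {a b : Fin n} (ha : a ∈ A) (hb : b ∈ A) :
    swap a b ∈ setStab A := fun x => by
  rcases eq_or_ne x a with rfl | hxa
  · rw [swap_apply_left]; tauto
  rcases eq_or_ne x b with rfl | hxb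
  · rw [swap_apply_right]; tauto
  · rw [swap_apply_of_ne_of_ne hxa hxb]

theorem IsStd.odd {K : Subgroup (Perm (Fin n))} (hK : IsStd π n K) (hn : 3 ≤ n) :
    ∃ k ∈ K, sign k = -1 := by
  rcases hK with ⟨-, -, x, rfl⟩ | ⟨-, -, A, hA, rfl⟩ | ⟨-, -, A, hA, rfl⟩
  · obtain ⟨a, b, ha, hb, hab⟩ := exists_two_ne (Finset.univ.erase x) (by
      rw [Finset.card_erase_of_mem (Finset.mem_univ x), Finset.card_univ, Fintype.card_fin]; omega)
    refine ⟨swap a b, ?_, sign_swap hab⟩
    rw [MulAction.mem_stabilizer_iff, Perm.smul_def]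
    exact swap_apply_of_ne_of_ne (Finset.ne_of_mem_erase ha).symm (Finset.ne_of_mem_erase hb).symm
  · obtain ⟨a, b, ha, hb, hab⟩ := exists_two_ne A (by omega)
    exact ⟨swap a b, swap_mem_setStab ha hb, sign_swap hab⟩
  · obtain ⟨a, b, ha, hb, hab⟩ := exists_two_ne A (by omega)
    exact ⟨swap a b, setStab_le_pairStab A (swap_mem_setStab ha hb), sign_swap hab⟩

theorem map_conj_eq {G : Type*} [Group G] {K K' : Subgroup G} (g : G)
    (h : ∀ y, g⁻¹ * y * g ∈ K ↔ y ∈ K') : K.map (MulAut.conj g).toMonoidHom = K' := by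
  ext y
  rw [Subgroup.mem_map_equiv, MulAut.conj_symm_apply, h]

theorem IsStd.conj {K K' : Subgroup (Perm (Fin n))} (hK : IsStd π n K) (hK' : IsStd π n K') :
    ∃ g : Perm (Fin n), K.map (MulAut.conj g).toMonoidHom = K' := by
  rcases hK with ⟨hn, hiff, x, rfl⟩ | ⟨hn, hiff, A, hA, rfl⟩ | ⟨hn, hiff, A, hA, rfl⟩ <;>
    rcases hK' with ⟨hn', hiff', x', rfl⟩ | ⟨hn', hiff', A', hA', rfl⟩ | ⟨hn', hiff', A', hA', rfl⟩
  · exact ⟨swap x x', map_conj_eq _ fun y => by
      simp only [MulAction.mem_stabilizer_iff, Perm.smul_def, Perm.mul_apply, swap_inv,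
        swap_apply_left]
      constructor
      · intro h
        have := congrArg (swap x x') h
        simpa using this
      · intro h
        simp [h]⟩
  · exact absurd ((hiff 5 (by norm_num) (by omega)).2 (by omega))
      (fun h => by rcases (hiff' 5 (by norm_num) (by omega)).1 h with h | h <;> omega)
  · exact absurd hn (by subst hn'; norm_num)
  · exact absurd ((hiff' 5 (by norm_num) (by omega)).2 (by omega))
      (fun h => by rcases (hiff 5 (by norm_num) (by omega)).1 h with h | h <;> omega)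
  · obtain ⟨g, hg⟩ := exists_map_set A A' (hA.trans hA'.symm)
    have hg' : ∀ y, g⁻¹ y ∈ A ↔ y ∈ A' := fun y => by simpa using (hg (g⁻¹ y)).symm
    refine ⟨g, map_conj_eq _ fun y => ⟨fun h x => ?_, fun h x => ?_⟩⟩
    · have := h (g⁻¹ x)
      rw [← hg', ← hg']; simpa using this
    · show g⁻¹ (y (g x)) ∈ A ↔ x ∈ A
      rw [hg', h, hg]
  · omega
  · exact absurd hn' (by subst hn; norm_num)
  · omega
  · obtain ⟨g, hg⟩ := exists_map_set A A' (hA.trans hA'.symm)
    have hg' : ∀ y, g⁻¹ y ∈ A ↔ y ∈ A' := fun y => by simpa using (hg (g⁻¹ y)).symm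
    refine ⟨g, map_conj_eq _ fun y => ⟨fun h => ?_, fun h => ?_⟩⟩
    · rcases h with h | h
      · refine Or.inl fun x => ?_
        have := h (g⁻¹ x)
        rw [← hg', ← hg']; simpa using this
      · refine Or.inr fun x => ?_
        have := h (g⁻¹ x)
        rw [← hg', ← hg']; simpa using this
    · rcases h with h | h
      · refine Or.inl fun x => ?_
        show g⁻¹ (y (g x)) ∈ A ↔ x ∈ A
        rw [hg', h, hg]
      · refine Or.inr fun x => ?_
        show g⁻¹ (y (g x)) ∈ A ↔ x ∉ A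
        rw [hg', h, hg]

/-- Every π-subgroup containing a Hall subgroup of the alternating group lies in a standard one. -/
theorem exists_std (h2 : Two π n) (hF : ¬ Full π n) {H : Subgroup (Perm (Fin n))} (hH : Near π H) :
    ∃ K, IsStd π n K ∧ H ≤ K := by
  have hcard : Fintype.card (Fin n) = n := Fintype.card_fin n
  rcases concl n hcard hH h2 with h | ⟨hp, hiff, x, hx⟩ | ⟨h7, hiff, A, hA, hH'⟩ |
      ⟨h8, hiff, A, hA, hH'⟩
  · exact absurd (fun p hp hpn => h p hp (by rwa [hcard])) hF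
  · rw [hcard] at hp hiff
    exact ⟨MulAction.stabilizer (Perm (Fin n)) x, Or.inl ⟨hp, hiff, x, rfl⟩, fun h hh => hx h hh⟩
  · rw [hcard] at h7 hiff
    exact ⟨setStab A, Or.inr (Or.inl ⟨h7, hiff, A, hA, rfl⟩), fun h hh => hH' h hh⟩
  · rw [hcard] at h8 hiff
    exact ⟨pairStab A, Or.inr (Or.inr ⟨h8, hiff, A, hA, rfl⟩), fun h hh => hH' h hh⟩

theorem near_of_hall_perm {H : Subgroup (Perm (Fin n))} (hH : IsPiHall π H) : Near π H := by
  obtain ⟨h1, h2⟩ := (hall_iff H).1 hH
  refine near_of_card h1 (fun p hp hpπ _ => ?_) fun h2π => Or.inl ?_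
  · rw [Fintype.card_fin, ← fact_perm]
    exact h2 p hp hpπ
  · rw [Fintype.card_fin, ← fact_perm]
    exact h2 2 Nat.prime_two h2π

theorem fact_alt (hn : 2 ≤ n) (p : ℕ) (hp : p.Prime) :
    n.factorial.factorization p = (Nat.card (alternatingGroup (Fin n))).factorization p +
      (if p = 2 then 1 else 0) := by
  have : Nontrivial (Fin n) := Fin.nontrivial_iff_two_le.2 hn
  have h := two_mul_card_alternatingGroup (α := Fin n)
  rw [Fintype.card_perm, Fintype.card_fin, ← Nat.card_eq_fintype_card] at h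
  rw [← h, fact_mul two_ne_zero Nat.card_pos.ne', Nat.Prime.factorization Nat.prime_two,
    Finsupp.single_apply]
  by_cases hp2 : p = 2
  · subst hp2; simp; omega
  · rw [if_neg (Ne.symm hp2), if_neg hp2]; omega

theorem card_map_alt (M : Subgroup (alternatingGroup (Fin n))) :
    Nat.card ↥(M.map (alternatingGroup (Fin n)).subtype) = Nat.card M :=
  Subgroup.card_map_of_injective (alternatingGroup (Fin n)).subtype_injective

theorem near_of_hall_alt (hn : 2 ≤ n) {M : Subgroup (alternatingGroup (Fin n))}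
    (hM : IsPiHall π M) : Near π (M.map (alternatingGroup (Fin n)).subtype) := by
  obtain ⟨h1, h2⟩ := (hall_iff M).1 hM
  refine near_of_card (by rw [card_map_alt]; exact h1) (fun p hp hpπ hp2 => ?_)
    fun h2π => Or.inr ⟨Subgroup.map_subtype_le M, ?_⟩
  · rw [Fintype.card_fin, card_map_alt, fact_alt hn p hp, if_neg hp2, add_zero]
    exact h2 p hp hpπ
  · rw [Fintype.card_fin, card_map_alt, fact_alt hn 2 Nat.prime_two, if_pos rfl]
    have := h2 2 Nat.prime_two h2π
    omega

/-- The trace of a Hall subgroup of `S_n` is a Hall subgroup of `A_n`. -/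
theorem hall_subgroupOf_alt {H : Subgroup (Perm (Fin n))} (hH : IsPiHall π H) :
    IsPiHall π (H.subgroupOf (alternatingGroup (Fin n))) := by
  rcases Nat.lt_or_ge n 2 with hn | hn
  · have hsub : Subsingleton (Fin n) := Fin.subsingleton_iff_le_one.2 (by omega)
    have hs : Nat.card (alternatingGroup (Fin n)) = 1 := Nat.card_unique
    refine ⟨fun p hp hd => ?_, fun p hp _ hd => ?_⟩
    · have h1 := hd.trans (Subgroup.card_subgroup_dvd_card _)
      rw [hs, Nat.dvd_one] at h1
      exact absurd h1 hp.ne_one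
    · have h1 := hd.trans (Subgroup.index_dvd_card _)
      rw [hs, Nat.dvd_one] at h1
      exact hp.ne_one h1
  have hc : Nat.card (H.subgroupOf (alternatingGroup (Fin n))) =
      Nat.card ↥(H ⊓ alternatingGroup (Fin n)) := by
    rw [← Subgroup.inf_subgroupOf_right,
      Nat.card_congr (Subgroup.subgroupOfEquivOfLe inf_le_right).toEquiv]
  rw [hall_iff, hc]
  refine ⟨fun p hp hd => hH.1 p hp (hd.trans (Subgroup.card_dvd_of_le inf_le_left)),
    fun p hp hpπ => ?_⟩
  have h1 := (near_of_hall_perm hH).big p hp hpπ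
  rw [Fintype.card_fin, fact_alt hn p hp] at h1
  omega

theorem card_alt_dvd_le {p : ℕ} (hp : p.Prime) (hd : p ∣ Nat.card (alternatingGroup (Fin n))) :
    p ≤ n := by
  have h := hd.trans (alternatingGroup (Fin n)).card_subgroup_dvd_card
  rw [Nat.card_perm, Nat.card_fin] at h
  exact (hp.dvd_factorial).1 h

theorem card_perm_dvd_le {p : ℕ} (hp : p.Prime) (hd : p ∣ Nat.card (Perm (Fin n))) : p ≤ n := by
  rw [Nat.card_perm, Nat.card_fin] at hd
  exact (hp.dvd_factorial).1 hd

theorem eq_of_not_two (h : ¬ Two π n) {r s : ℕ} (hr : r.Prime) (hs : s.Prime) (hrπ : r ∈ π)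
    (hsπ : s ∈ π) (hrn : r ≤ n) (hsn : s ≤ n) : r = s := by
  rcases lt_trichotomy r s with h' | h' | h'
  · exact absurd ⟨r, s, hr, hs, h', hrπ, hsπ, hsn⟩ h
  · exact h'
  · exact absurd ⟨s, r, hs, hr, h', hsπ, hrπ, hrn⟩ h

theorem dom_perm (h : ¬ Two π n ∨ Full π n) : Dom π (Perm (Fin n)) := by
  rcases h with h | h
  · exact dom_of_one fun r s hr hs hrπ hsπ hrd hsd =>
      eq_of_not_two h hr hs hrπ hsπ (card_perm_dvd_le hr hrd) (card_perm_dvd_le hs hsd)
  · exact dom_of_all fun p hp hd => h p hp (card_perm_dvd_le hp hd)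

theorem dom_alt (h : ¬ Two π n ∨ Full π n) : Dom π (alternatingGroup (Fin n)) := by
  rcases h with h | h
  · exact dom_of_one fun r s hr hs hrπ hsπ hrd hsd =>
      eq_of_not_two h hr hs hrπ hsπ (card_alt_dvd_le hr hrd) (card_alt_dvd_le hs hsd)
  · exact dom_of_all fun p hp hd => h p hp (card_alt_dvd_le hp hd)

theorem hall_alt_eq_trace {M : Subgroup (alternatingGroup (Fin n))} (hM : IsPiHall π M)
    {K : Subgroup (Perm (Fin n))} (hK : IsPiHall π K)
    (hle : M.map (alternatingGroup (Fin n)).subtype ≤ K) :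
    M = K.subgroupOf (alternatingGroup (Fin n)) :=
  hall_eq_of_le hM (hall_subgroupOf_alt hK).1 fun x hx =>
    Subgroup.mem_subgroupOf.2 (hle (Subgroup.mem_map_of_mem _ hx))

/-- A Hall subgroup of `A_n` is the trace of one of `S_n`. -/
theorem exists_hall_perm {M : Subgroup (alternatingGroup (Fin n))} (hM : IsPiHall π M) :
    ∃ K : Subgroup (Perm (Fin n)), IsPiHall π K ∧ M = K.subgroupOf (alternatingGroup (Fin n)) := by
  obtain ⟨K, hK, hle⟩ : ∃ K : Subgroup (Perm (Fin n)), IsPiHall π K ∧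
      M.map (alternatingGroup (Fin n)).subtype ≤ K := by
    by_cases h : ¬ Two π n ∨ Full π n
    · exact (dom_perm h).dom _ fun p hp hd => hM.1 p hp (by rwa [card_map_alt] at hd)
    · push Not at h
      obtain ⟨K, hK, hle⟩ := exists_std h.1 h.2
        (near_of_hall_alt (by have := h.1.five_le h.2; omega) hM)
      exact ⟨K, hK.hall, hle⟩
  exact ⟨K, hK, hall_alt_eq_trace hM hK hle⟩

theorem cpi_perm (hE : IsEPiGroup π (Perm (Fin n))) : IsCPiGroup π (Perm (Fin n)) := by
  by_cases h : ¬ Two π n ∨ Full π n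
  · exact (dom_perm h).cpi
  · push Not at h
    refine ⟨hE, fun H H' hH hH' => ?_⟩
    obtain ⟨K, hK, hle⟩ := exists_std h.1 h.2 (near_of_hall_perm hH)
    obtain ⟨K', hK', hle'⟩ := exists_std h.1 h.2 (near_of_hall_perm hH')
    obtain ⟨g, hg⟩ := hK.conj hK'
    refine ⟨g, ?_⟩
    rw [hall_eq_of_le hH hK.hall.1 hle, hall_eq_of_le hH' hK'.hall.1 hle', hg]

theorem cpi_alt (hE : IsEPiGroup π (alternatingGroup (Fin n))) :
    IsCPiGroup π (alternatingGroup (Fin n)) := by
  by_cases h : ¬ Two π n ∨ Full π n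
  · exact (dom_alt h).cpi
  · push Not at h
    have hn5 := h.1.five_le h.2
    refine ⟨hE, fun M M' hM hM' => ?_⟩
    obtain ⟨K, hK, hle⟩ := exists_std h.1 h.2 (near_of_hall_alt (by omega) hM)
    obtain ⟨K', hK', hle'⟩ := exists_std h.1 h.2 (near_of_hall_alt (by omega) hM')
    obtain ⟨g, hg⟩ := hK.conj hK'
    obtain ⟨k, hk, hks⟩ := hK.odd (by omega)
    have heven : ∀ c : Perm (Fin n), c ∈ alternatingGroup (Fin n) →
        K.map (MulAut.conj c).toMonoidHom = K' → ∃ a : alternatingGroup (Fin n),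
          M' = M.map (MulAut.conj a).toMonoidHom := by
      intro c hc hcK
      refine ⟨⟨c, hc⟩, (hall_eq_of_le (hall_conj hM _) hM'.1 ?_).symm⟩
      rintro _ ⟨x, hx, rfl⟩
      rw [hall_alt_eq_trace hM' hK'.hall hle', Subgroup.mem_subgroupOf, ← hcK]
      exact ⟨x, hle (Subgroup.mem_map_of_mem _ hx), rfl⟩
    rcases Int.units_eq_one_or (sign g) with hs | hs
    · exact heven g (mem_alternatingGroup.2 hs) hg
    · refine heven (g * k) (mem_alternatingGroup.2 (by rw [map_mul, hs, hks]; simp)) ?_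
      rw [← hg]
      refine map_conj_eq _ fun y => ?_
      rw [Subgroup.mem_map_equiv, MulAut.conj_symm_apply,
        show (g * k)⁻¹ * y * (g * k) = k⁻¹ * (g⁻¹ * y * g) * k by group]
      constructor
      · intro hy
        have := K.mul_mem (K.mul_mem hk hy) (K.inv_mem hk)
        rwa [show k * (k⁻¹ * (g⁻¹ * y * g) * k) * k⁻¹ = g⁻¹ * y * g by group] at this
      · intro hy
        exact K.mul_mem (K.mul_mem (K.inv_mem hk) hy) hk

end Cfsg.Agent.HallSymMain76
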