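import Mathlib
import Cfsg.Agent.Lib.BrauerBlocksBasic

/-!
# The group algebra along a subgroup, conjugation, and the square norm
-/

set_option autoImplicit false

open scoped ComplexConjugate

namespace Cfsg.Agent.HaradaNorm83

open Cfsg Cfsg.Agent.BrauerBlocksCentral Cfsg.Agent.BrauerBlocksBasic

universe u

variable {G : Type u} [Group G] [Fintype G]

/-- The coefficients vanish outside `H`. -/
def Supp (H : Subgroup G) (a : A G) : Prop := ∀ g : G, g ∉ H → a.coeff g = 0

/-- The coefficients vanish at the `p`-singular elements. -/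
def RegSupp (p : ℕ) (a : A G) : Prop := ∀ g : G, p ∣ orderOf g → a.coeff g = 0

/-- Extension by zero from a subgroup. -/
noncomputable def ext (H : Subgroup G) (b : A H) : A G :=
  mkA fun g => by classical exact if h : g ∈ H then b.coeff ⟨g, h⟩ else 0

/-- Restriction of the coefficients to a subgroup. -/
noncomputable def res (H : Subgroup G) [Fintype H] (a : A G) : A H := mkA fun h => a.coeff (h : G)

theorem ext_coe (H : Subgroup G) (b : A H) (h : H) : (ext H b).coeff (h : G) = b.coeff h := by
  simp [ext, h.2]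

theorem ext_mem (H : Subgroup G) (b : A H) {g : G} (hg : g ∈ H) :
    (ext H b).coeff g = b.coeff ⟨g, hg⟩ := ext_coe H b ⟨g, hg⟩

theorem supp_ext (H : Subgroup G) (b : A H) : Supp H (ext H b) := fun g hg => by simp [ext, hg]

theorem res_coeff (H : Subgroup G) [Fintype H] (a : A G) (h : H) :
    (res H a).coeff h = a.coeff (h : G) := by simp [res]

theorem res_ext (H : Subgroup G) [Fintype H] (b : A H) : res H (ext H b) = b := by
  ext h; rw [res_coeff, ext_coe]

theorem ext_res (H : Subgroup G) [Fintype H] {a : A G} (ha : Supp H a) : ext H (res H a) = a := by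
  ext g
  by_cases hg : g ∈ H
  · rw [ext_mem H _ hg, res_coeff]
  · rw [supp_ext H _ g hg, ha g hg]

omit [Fintype G] in
theorem supp_top (a : A G) : Supp (⊤ : Subgroup G) a := fun g hg => absurd (Subgroup.mem_top g) hg

theorem Supp.mul {H : Subgroup G} {a b : A G} (ha : Supp H a) (hb : Supp H b) :
    Supp H (a * b) := fun g hg => by
  rw [mul_coeff]
  refine Finset.sum_eq_zero fun h _ => ?_
  by_cases hh : h ∈ H
  · rw [hb _ fun hc => hg (by simpa using H.mul_mem hh hc), mul_zero]
  · rw [ha h hh, zero_mul]

theorem sum_supp (H : Subgroup G) [Fintype H] (f : G → ℂ) (hf : ∀ g, g ∉ H → f g = 0) :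
    ∑ g : G, f g = ∑ h : H, f (h : G) := by
  classical
  rw [← Finset.sum_subset (Finset.subset_univ (Finset.univ.filter (· ∈ H)))
    (fun g _ hg => hf g (fun hc => hg (Finset.mem_filter.2 ⟨Finset.mem_univ _, hc⟩)))]
  exact Finset.sum_subtype _ (by simp) f

theorem res_mul (H : Subgroup G) [Fintype H] {a : A G} (ha : Supp H a) (b : A G) :
    res H (a * b) = res H a * res H b := by
  ext h
  rw [res_coeff, mul_coeff, mul_coeff, sum_supp H _ fun g hg => by rw [ha g hg, zero_mul]]
  simp [res_coeff]

theorem ext_mul (H : Subgroup G) [Fintype H] (b c : A H) :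
    ext H (b * c) = ext H b * ext H c := by
  conv_lhs => rw [← res_ext H b, ← res_ext H c, ← res_mul H (supp_ext H b)]
  exact ext_res H ((supp_ext H b).mul (supp_ext H c))

theorem ext_add (H : Subgroup G) (b c : A H) : ext H (b + c) = ext H b + ext H c := by
  ext g
  by_cases hg : g ∈ H <;> simp [ext, hg]

theorem ext_zero (H : Subgroup G) : ext H (0 : A H) = 0 := by
  ext g
  by_cases hg : g ∈ H <;> simp [ext, hg]

theorem ext_one (H : Subgroup G) [Fintype H] : ext H (1 : A H) = 1 := by
  classical
  ext g
  by_cases hg : g ∈ H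
  · rw [ext_mem H _ hg, BrauerBlocksCentral.coeff_one, BrauerBlocksCentral.coeff_one]
    simp [Subtype.ext_iff]
  · rw [supp_ext H _ g hg, BrauerBlocksCentral.coeff_one, if_neg]
    rintro rfl
    exact hg H.one_mem

theorem ext_sum (H : Subgroup G) {ι : Type*} (s : Finset ι) (f : ι → A H) :
    ext H (∑ i ∈ s, f i) = ∑ i ∈ s, ext H (f i) := by
  classical
  induction s using Finset.induction with
  | empty => simp [ext_zero]
  | insert i s hi ih => simp [Finset.sum_insert hi, ext_add, ih]

/-- Conjugation by a group element. -/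
noncomputable def cj (u : G) (a : A G) : A G :=
  MonoidAlgebra.single u 1 * a * MonoidAlgebra.single u⁻¹ 1

omit [Fintype G] in
theorem cj_mul (u : G) (a b : A G) : cj u (a * b) = cj u a * cj u b := by
  simp only [cj, mul_assoc]
  rw [← mul_assoc (MonoidAlgebra.single u⁻¹ (1 : ℂ)) (MonoidAlgebra.single u 1),
    MonoidAlgebra.single_mul_single, inv_mul_cancel, mul_one, ← MonoidAlgebra.one_def, one_mul]

omit [Fintype G] in
theorem coeff_cj (u : G) (a : A G) (g : G) : (cj u a).coeff g = a.coeff (u⁻¹ * g * u) := by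
  have h1 : ∀ (x : A G) (v k : G), (x * MonoidAlgebra.single v 1).coeff k = x.coeff (k * v⁻¹) := by
    intro x v k
    rw [MonoidAlgebra.coeff_mul_single_eq_coeff_mul (k * v⁻¹) (fun m _ => eq_mul_inv_iff_mul_eq.symm),
      mul_one]
  have h2 : ∀ (x : A G) (v k : G), (MonoidAlgebra.single v 1 * x).coeff k = x.coeff (v⁻¹ * k) := by
    intro x v k
    rw [MonoidAlgebra.coeff_single_mul_eq_mul_coeff (v⁻¹ * k) (fun m _ => eq_inv_mul_iff_mul_eq.symm),
      one_mul]
  rw [cj, h1, h2, inv_inv, mul_assoc]

omit [Fintype G] in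
theorem isC_iff_cj (a : A G) : IsC a ↔ ∀ u, cj u a = a := by
  constructor
  · intro h u
    ext g
    rw [coeff_cj]
    have := h g u⁻¹
    rwa [inv_inv] at this
  · intro h g u
    have := congrArg (fun x : A G => x.coeff (u * g * u⁻¹)) (h u)
    simp only [coeff_cj] at this
    rw [← this]
    congr 1
    group

omit [Fintype G] in
theorem single_mul_eq_cj (u : G) (a : A G) :
    MonoidAlgebra.single u 1 * a = cj u a * MonoidAlgebra.single u 1 := by
  rw [cj, mul_assoc, MonoidAlgebra.single_mul_single, inv_mul_cancel, mul_one,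
    ← MonoidAlgebra.one_def, mul_one]

/-- If single elements of `H` commute with `a`, so does everything supported in `H`. -/
theorem commute_of_supp {H : Subgroup G} {a b : A G} (hb : Supp H b)
    (h : ∀ g ∈ H, cj g a = a) : Commute a b := by
  rw [sum_single_coeff b]
  refine Commute.sum_right _ _ _ fun g _ => ?_
  by_cases hg : g ∈ H
  · have e : MonoidAlgebra.single g (b.coeff g) =
        b.coeff g • (MonoidAlgebra.single g (1 : ℂ) : A G) := by simp
    rw [e]
    refine Commute.smul_right (Eq.symm ?_) _
    rw [single_mul_eq_cj g a, h g hg]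
  · rw [hb g hg, MonoidAlgebra.single_zero]
    exact Commute.zero_right a

/-- The square norm. -/
noncomputable def nn (a : A G) : ℝ := ∑ g : G, Complex.normSq (a.coeff g)

theorem nn_nonneg (a : A G) : 0 ≤ nn a := Finset.sum_nonneg fun _ _ => Complex.normSq_nonneg _

theorem eq_zero_of_nn {a : A G} (h : nn a = 0) : a = 0 := by
  ext g
  have := (Finset.sum_eq_zero_iff_of_nonneg fun g _ => Complex.normSq_nonneg _).1 h g
    (Finset.mem_univ g)
  simpa using Complex.normSq_eq_zero.1 this

/-- The adjoint. -/
noncomputable def star' (a : A G) : A G := mkA fun g => conj (a.coeff g⁻¹)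

theorem star'_coeff (a : A G) (g : G) : (star' a).coeff g = conj (a.coeff g⁻¹) := by simp [star']

theorem star'_mul (a b : A G) : star' (a * b) = star' b * star' a := by
  ext g
  rw [star'_coeff, mul_coeff, mul_coeff, map_sum]
  refine Fintype.sum_equiv (Equiv.mulLeft g) _ _ fun h => ?_
  simp only [map_mul, star'_coeff, Equiv.coe_mulLeft]
  rw [mul_comm]
  congr 3 <;> group

theorem nn_eq (a : A G) : (nn a : ℂ) = (star' a * a).coeff 1 := by
  rw [mul_coeff, nn]
  push_cast
  refine Fintype.sum_equiv (Equiv.inv G) _ _ fun g => ?_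
  simp [star'_coeff, Complex.normSq_eq_conj_mul_self]

/-- A central idempotent is self-adjoint. -/
theorem star'_idem (S : Set (IrrCharacter G)) : star' (idem S) = idem S := by
  classical
  ext g
  rw [star'_coeff, idem, coeff_ofVals, coeff_ofVals, map_mul, map_sum, map_inv₀, map_natCast]
  congr 1
  refine Finset.sum_congr rfl fun χ _ => ?_
  rw [map_mul, map_mul, Complex.conj_conj, ← conj_irr χ g, apply_ite conj, map_one, map_zero,
    conj_irr χ 1, inv_one]

theorem star'_eq_self {a : A G} (hC : IsC a) (h : a * a = a) : star' a = a := by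
  rw [eq_idem_of_idempotent hC h, star'_idem]

theorem nn_idem {a : A G} (hC : IsC a) (h : a * a = a) : (nn a : ℂ) = a.coeff 1 := by
  rw [nn_eq, star'_eq_self hC h, h]

theorem isC_star' {a : A G} (hC : IsC a) : IsC (star' a) := fun g h => by
  rw [star'_coeff, star'_coeff, ← hC g⁻¹ h]
  congr 2
  group

end Cfsg.Agent.HaradaNorm83
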