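import Mathlib
import Cfsg.Agent.Lib.HaradaNorm83Alg
import Cfsg.Agent.Lib.CharExtension
import Cfsg.Agent.Lib.ClassAlgebraOmega
import Cfsg.Agent.Lib.HallHigmanLinear

/-!
# The idempotent of the canonical extension of an invariant character, coprime case
-/

set_option autoImplicit false

open scoped ComplexConjugate

namespace Cfsg.Agent.HaradaNorm83

open Cfsg Cfsg.Agent.BrauerBlocksCentral Cfsg.Agent.BrauerBlocksBasic Cfsg.Agent.CharExtension

universe u

variable {G : Type u} [Group G] [Fintype G]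

omit [Fintype G] in
theorem irreducible_comp {H : Type*} [Group H] {d : ℕ} (ρ : G →* GU' d) (e : H ≃* G)
    (h : (toRep ρ).IsIrreducible) : (toRep (ρ.comp e.toMonoidHom)).IsIrreducible := by
  have : Nontrivial (Subrepresentation (toRep (ρ.comp e.toMonoidHom))) := by
    have := CharBasic.nontrivial_of_irreducible (toRep ρ)
    exact ⟨⟨⊥, ⊤, fun h => bot_ne_top (α := Submodule ℂ (Fin d → ℂ))
      (congrArg Subrepresentation.toSubmodule h)⟩⟩
  refine ⟨fun W => ?_⟩
  let W' : Subrepresentation (toRep ρ) := ⟨W.toSubmodule, fun g v hv => by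
    have := W.apply_mem_toSubmodule (e.symm g) hv
    simpa [toRep] using this⟩
  rcases eq_bot_or_eq_top W' with h | h
  · exact Or.inl (Subrepresentation.toSubmodule_injective
      (congrArg Subrepresentation.toSubmodule h :))
  · exact Or.inr (Subrepresentation.toSubmodule_injective
      (congrArg Subrepresentation.toSubmodule h :))

omit [Fintype G] in
/-- The group algebra maps onto the endomorphisms of an irreducible representation. -/
theorem asAlgebraHom_surj {n : ℕ} (σ : Representation ℂ G (Fin n → ℂ))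
    (hσ : σ.IsIrreducible) : Function.Surjective σ.asAlgebraHom := by
  have := CharBasic.nontrivial_of_irreducible σ
  have h := HallHigman.adjoin_eq_top_of_irreducible (Set.range σ) fun U hU => by
    let W : Subrepresentation σ := ⟨U, fun g v hv => hU _ ⟨g, rfl⟩ v hv⟩
    rcases eq_bot_or_eq_top W with h | h
    · exact Or.inl (congrArg Subrepresentation.toSubmodule h :)
    · exact Or.inr (congrArg Subrepresentation.toSubmodule h :)
  intro f
  have hle : Algebra.adjoin ℂ (Set.range σ) ≤ σ.asAlgebraHom.range := by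
    rw [Algebra.adjoin_le_iff]
    rintro _ ⟨g, rfl⟩
    exact ⟨MonoidAlgebra.single g 1, by simp [Representation.asAlgebraHom_single]⟩
  obtain ⟨b, hb⟩ := hle (h ▸ Algebra.mem_top : f ∈ Algebra.adjoin ℂ (Set.range σ))
  exact ⟨b, hb⟩

theorem coeff_idem_singleton (χ : IrrCharacter G) (x : G) :
    (idem ({χ} : Set (IrrCharacter G))).coeff x =
      (Nat.card G : ℂ)⁻¹ * ((χ : G → ℂ) 1 * (χ : G → ℂ) x⁻¹) := by
  classical
  rw [idem, coeff_ofVals, Finset.sum_eq_single χ]
  · simp [conj_irr]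
  · intro ψ _ h; simp [h]
  · simp

/-- The idempotent of the canonical extension. -/
theorem exists_ext_idem (N L : Subgroup G) [N.Normal] [hL : L.Normal] (hNL : N ≤ L)
    [Fintype N] [Fintype L]
    (hcop : (N.relIndex L).Coprime (Nat.card N)) (θ : IrrCharacter N)
    (hinv : ∀ (g : G) (n : N), (θ : N → ℂ) (cn g n) = (θ : N → ℂ) n) :
    ∃ ε : A G, IsC ε ∧ ε * ε = ε ∧ Supp L ε ∧
      (∀ m ∈ N, (ext N (idem ({θ} : Set (IrrCharacter N)))).coeff m =
        (N.relIndex L : ℂ) * ε.coeff m) ∧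
      ∀ u ∈ L, ∃ a : A G, Supp N a ∧ MonoidAlgebra.single u 1 * ε = a * ε := by
  classical
  obtain ⟨d, ρ, hd, hθ1, hρθ, S, hint, hirr⟩ := exists_setup θ.2 hinv
  set N' : Subgroup L := N.subgroupOf L with hN'
  let e : N' ≃* N := Subgroup.subgroupOfEquivOfLe hNL
  let ρ' : N' →* GU' d := ρ.comp e.toMonoidHom
  have hρ' : ∀ n : N', ρ' n = ρ ⟨((n : L) : G), n.2⟩ := fun n => rfl
  have hidx : N'.index = N.relIndex L := rfl
  have S' : SchurData (scal d) ρ' := ⟨S.inj, S.central, fun u hu => S.schur u fun n => by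
    simpa [ρ'] using hu (e.symm n)⟩
  have hinv' : ∀ g : L, ∃ u, Impl ρ' u g := fun g => by
    obtain ⟨u, hu⟩ := hint (g : G)
    refine ⟨u, fun n => ?_⟩
    rw [hρ', hρ']
    exact hu ⟨((n : L) : G), n.2⟩
  have hdN : d ∣ Nat.card N := by
    have h := ClassAlgebraOmega.charDegree_dvd_card θ
    have h2 : (charDegree (θ : N → ℂ) : ℂ) = (d : ℂ) := by
      rw [← ClassAlgebraVal.apply_one_eq_charDegree]; exact hθ1
    rwa [Nat.cast_injective (R := ℂ) h2] at h
  have hcopd : Nat.Coprime N'.index d := by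
    rw [hidx]; exact hcop.coprime_dvd_right hdN
  let lam : N' →* ℂˣ := (detU d).comp ρ'
  have hlam : ∀ (g : L) (n : N'), lam (cn g n) = lam n := fun g n => by
    obtain ⟨u, hu⟩ := hinv' g
    simp only [lam, MonoidHom.comp_apply]
    rw [← hu n, map_mul, map_mul, map_inv, mul_inv_cancel_comm]
  have hlo : orderOf lam ∣ Nat.card N := by
    refine orderOf_dvd_of_pow_eq_one (MonoidHom.ext fun n => ?_)
    rw [MonoidHom.pow_apply, ← map_pow, ← Nat.card_congr e.toEquiv, pow_card_eq_one']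
    simp
  obtain ⟨μ, hμ, hμo, hμu⟩ := linear_ext_coprime lam hlam (by
    rw [hidx]; exact hcop.coprime_dvd_right hlo)
  obtain ⟨η, hη, hDη⟩ := exists_ext_det S' hinv' (detU d) d (detU_scal d)
    (fun a => exists_root d a hd) hcopd μ (fun n => hμ n)
  -- invariance of the extension
  have hconj : ∀ (g : G) (l : L), chr η ⟨g * l * g⁻¹, hL.conj_mem _ l.2 g⟩ = chr η l := by
    intro g l
    obtain ⟨u, hu⟩ := hint g
    let c : L →* L := MonoidHom.mk' (fun x => ⟨g * x * g⁻¹, hL.conj_mem _ x.2 g⟩)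
      (fun x y => Subtype.ext (by simp [mul_assoc]))
    let η' : L →* GU' d := (MulAut.conj u⁻¹).toMonoidHom.comp (η.comp c)
    have hη'N : ∀ n : N', η' n = ρ' n := by
      intro n
      have hm : g * ((n : L) : G) * g⁻¹ ∈ N := Subgroup.Normal.conj_mem ‹N.Normal› _ n.2 g
      have h1 : c (n : L) = ((⟨c (n : L), hm⟩ : N') : L) := rfl
      have h2 := hu ⟨((n : L) : G), n.2⟩
      simp only [η', MonoidHom.comp_apply, MulEquiv.coe_toMonoidHom, MulAut.conj_apply, inv_inv]
      rw [h1, hη, hρ', hρ']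
      change u⁻¹ * ρ (cn g ⟨((n : L) : G), n.2⟩) * u = _
      rw [← h2]
      group
    have hdet : ∀ x, detU d (η' x) = (μ.comp c) x := fun x => by
      simp only [η', MonoidHom.comp_apply, MulEquiv.coe_toMonoidHom, MulAut.conj_apply, inv_inv]
      rw [map_mul, map_mul, map_inv, inv_mul_cancel_comm, hDη]
    have hμ' : μ.comp c = μ := by
      refine hμu _ (fun n => ?_) ?_
      · rw [← hdet, hη'N]; rfl
      · rw [hidx]
        refine (hcop.coprime_dvd_right (hμo ▸ hlo)).coprime_dvd_right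
          (orderOf_dvd_of_pow_eq_one ?_)
        ext x
        rw [MonoidHom.pow_apply, MonoidHom.comp_apply, ← MonoidHom.pow_apply, pow_orderOf_eq_one]
        simp
    have h := ext_eq_of_det S' (detU d) d (detU_scal d) hcopd hη hη'N
      (fun x => by rw [hDη, hdet, hμ'])
    conv_rhs => rw [h]
    simp only [η', c, chr_apply, MonoidHom.comp_apply, MulEquiv.coe_toMonoidHom,
      MulAut.conj_apply, inv_inv, Units.val_mul, MonoidHom.mk'_apply]
    rw [LinearMap.trace_mul_comm, ← mul_assoc, Units.mul_inv, one_mul]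
  have hirr' : IsIrrCharacter L (chr η) :=
    (ext_to_char_top (N := N') (ρ := ρ') (irreducible_comp ρ e hirr) η hη).1
  let θL : IrrCharacter L := ⟨chr η, hirr'⟩
  have hval : ∀ m (hm : m ∈ N), chr η ⟨m, hNL hm⟩ = (θ : N → ℂ) ⟨m, hm⟩ := fun m hm => by
    have h : η ⟨m, hNL hm⟩ = ρ' ⟨⟨m, hNL hm⟩, hm⟩ := hη ⟨⟨m, hNL hm⟩, hm⟩
    rw [chr_apply, h, hρ', ← hρθ, chr_apply]
  refine ⟨ext L (idem ({θL} : Set (IrrCharacter L))), ?_, ?_, supp_ext L _, ?_, ?_⟩
  · intro x g
    by_cases hx : x ∈ L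
    · rw [ext_mem L _ (hL.conj_mem _ hx g), ext_mem L _ hx, coeff_idem_singleton,
        coeff_idem_singleton]
      congr 2
      have := hconj g ⟨x⁻¹, L.inv_mem hx⟩
      change chr η _ = chr η _
      rw [show (⟨g * x * g⁻¹, hL.conj_mem _ hx g⟩ : L)⁻¹ =
        ⟨g * (x⁻¹) * g⁻¹, hL.conj_mem _ (L.inv_mem hx) g⟩ from Subtype.ext (by simp [mul_assoc])]
      exact this
    · rw [supp_ext L _ x hx, supp_ext L _ _ fun h => hx (by
        simpa [mul_assoc] using hL.conj_mem _ h g⁻¹)]
  · rw [← ext_mul, idem_idem]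
  · intro m hm
    rw [ext_mem N _ hm, ext_mem L _ (hNL hm), coeff_idem_singleton, coeff_idem_singleton]
    have h1 : (θL : L → ℂ) 1 = (θ : N → ℂ) 1 := hval 1 N.one_mem
    have h2 : (θL : L → ℂ) (⟨m, hNL hm⟩ : L)⁻¹ = (θ : N → ℂ) (⟨m, hm⟩ : N)⁻¹ :=
      hval m⁻¹ (N.inv_mem hm)
    rw [h1, h2]
    have hc : (Nat.card L : ℂ) = (Nat.card N : ℂ) * (N.relIndex L : ℂ) := by
      rw [← hidx, ← Nat.card_congr e.toEquiv]
      exact_mod_cast N'.card_mul_index.symm
    have h0 : (Nat.card N : ℂ) ≠ 0 := Nat.cast_ne_zero.2 Nat.card_pos.ne'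
    have h0' : (N.relIndex L : ℂ) ≠ 0 := by
      rw [← hidx]; exact Nat.cast_ne_zero.2 N'.index_ne_zero_of_finite
    rw [hc]
    field_simp
  · intro u hu
    obtain ⟨b, hb⟩ := asAlgebraHom_surj (toRep ρ) hirr ((η ⟨u, hu⟩ : GU' d) : Module.End ℂ _)
    refine ⟨ext N b, supp_ext N b, ?_⟩
    ext g
    rw [mul_coeff, mul_coeff]
    conv_rhs => rw [sum_supp N _ fun x hx => by rw [supp_ext N b x hx, zero_mul]]
    rw [Finset.sum_eq_single u]
    · simp only [MonoidAlgebra.coeff_single, Finsupp.single_eq_same, one_mul]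
      by_cases hg : g ∈ L
      · simp only [ext_coe]
        rw [ext_mem L _ (L.mul_mem (L.inv_mem hu) hg), coeff_idem_singleton]
        rw [Finset.sum_congr rfl (g := fun m : N => b.coeff m *
          ((Nat.card L : ℂ)⁻¹ * ((θL : L → ℂ) 1 *
            chr η (⟨g, hg⟩⁻¹ * ⟨(m : G), hNL m.2⟩)))) fun m _ => by
          rw [ext_mem L _ (L.mul_mem (L.inv_mem (hNL m.2)) hg), coeff_idem_singleton]
          congr 4
          exact congrArg (chr η) (Subtype.ext (by simp))]
        have key : chr η (⟨g, hg⟩⁻¹ * ⟨u, hu⟩) =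
            ∑ m : N, b.coeff m * chr η (⟨g, hg⟩⁻¹ * ⟨(m : G), hNL m.2⟩) := by
          have hm : ∀ m : N, ((η ⟨(m : G), hNL m.2⟩ : GU' d) : Module.End ℂ _) = toRep ρ m :=
            fun m => by
              have h : η ⟨(m : G), hNL m.2⟩ = ρ' ⟨⟨(m : G), hNL m.2⟩, m.2⟩ :=
                hη ⟨⟨(m : G), hNL m.2⟩, m.2⟩
              rw [h, hρ']
              rfl
          simp only [chr_apply, map_mul, Units.val_mul, hm]
          rw [← hb]
          conv_lhs => rw [sum_single_coeff b]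
          simp [map_sum, Finset.mul_sum, Representation.asAlgebraHom_single]
        rw [show (θL : L → ℂ) (⟨u⁻¹ * g, L.mul_mem (L.inv_mem hu) hg⟩ : L)⁻¹ =
            chr η (⟨g, hg⟩⁻¹ * ⟨u, hu⟩) from congrArg (chr η) (Subtype.ext (by simp)), key,
          Finset.mul_sum, Finset.mul_sum]
        exact Finset.sum_congr rfl fun m _ => by ring
      · rw [supp_ext L _ _ fun h => hg (by simpa using L.mul_mem hu h), Finset.sum_eq_zero]
        intro m _
        rw [supp_ext L _ _ fun h => hg (by simpa using L.mul_mem (hNL m.2) h), mul_zero]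
    · intro x _ hx
      simp [MonoidAlgebra.coeff_single, Ne.symm hx]
    · simp

end Cfsg.Agent.HaradaNorm83
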