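import Mathlib
import Cfsg.Agent.Lib.HaradaNorm83Ext
import Cfsg.Agent.Lib.HallSolvable
import Cfsg.Agent.Lib.CoprimeSZ

/-!
# Central idempotents supported on `p`-regular elements in `p`-solvable groups
-/

set_option autoImplicit false

open scoped ComplexConjugate

namespace Cfsg.Agent.HaradaNorm83

open Cfsg Cfsg.Agent.BrauerBlocksCentral Cfsg.Agent.BrauerBlocksBasic Cfsg.Agent.BrauerBlocksVal
  Cfsg.Agent.CharExtension

universe u

variable {G : Type u} [Group G] [Fintype G]

/-- The part of `a` on a coset. -/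
noncomputable def part (N : Subgroup G) (q : G ⧸ N) (a : A G) : A G :=
  mkA fun g => by classical exact if (g : G ⧸ N) = q then a.coeff g else 0

theorem part_coeff_self (N : Subgroup G) (a : A G) (g : G) :
    (part N (g : G ⧸ N) a).coeff g = a.coeff g := by simp [part]

theorem part_coeff_ne (N : Subgroup G) {q : G ⧸ N} (a : A G) {g : G} (h : (g : G ⧸ N) ≠ q) :
    (part N q a).coeff g = 0 := by simp [part, h]

theorem sum_part (N : Subgroup G) [Fintype (G ⧸ N)] (a : A G) : ∑ q : G ⧸ N, part N q a = a := by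
  classical
  ext g
  rw [MonoidAlgebra.coeff_sum, Finset.sum_apply', Finset.sum_eq_single (g : G ⧸ N)]
  · exact part_coeff_self N a g
  · exact fun q _ hq => part_coeff_ne N a (Ne.symm hq)
  · simp

variable (N : Subgroup G) [hN : N.Normal]

theorem mk_eq_of_inv_mul_mem {g h : G} (hm : h⁻¹ * g ∈ N) : (g : G ⧸ N) = h :=
  (QuotientGroup.eq.2 hm).symm

theorem part_mul_right (q : G ⧸ N) (a : A G) {b : A G} (hb : Supp N b) :
    part N q (a * b) = part N q a * b := by
  ext g
  rw [mul_coeff]
  by_cases hg : (g : G ⧸ N) = q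
  · subst hg
    rw [part_coeff_self, mul_coeff]
    refine Finset.sum_congr rfl fun h _ => ?_
    by_cases hm : h⁻¹ * g ∈ N
    · rw [mk_eq_of_inv_mul_mem N hm, part_coeff_self]
    · rw [hb _ hm, mul_zero, mul_zero]
  · rw [part_coeff_ne N _ hg, Finset.sum_eq_zero]
    intro h _
    by_cases hm : h⁻¹ * g ∈ N
    · rw [part_coeff_ne N _ (mk_eq_of_inv_mul_mem N hm ▸ hg), zero_mul]
    · rw [hb _ hm, mul_zero]

theorem part_mul_left (q : G ⧸ N) (a : A G) {b : A G} (hb : Supp N b) :
    part N q (b * a) = b * part N q a := by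
  ext g
  rw [mul_coeff]
  have key : ∀ h ∈ N, ((h⁻¹ * g : G) : G ⧸ N) = (g : G ⧸ N) := fun h hh => by
    rw [QuotientGroup.mk_mul, (QuotientGroup.eq_one_iff _).2 (N.inv_mem hh), one_mul]
  by_cases hg : (g : G ⧸ N) = q
  · subst hg
    rw [part_coeff_self, mul_coeff]
    refine Finset.sum_congr rfl fun h _ => ?_
    by_cases hm : h ∈ N
    · rw [← key h hm, part_coeff_self]
    · rw [hb _ hm, zero_mul, zero_mul]
  · rw [part_coeff_ne N _ hg, Finset.sum_eq_zero]
    intro h _
    by_cases hm : h ∈ N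
    · rw [part_coeff_ne N _ (key h hm ▸ hg), mul_zero]
    · rw [hb _ hm, zero_mul]

theorem cj_part (u : G) (q : G ⧸ N) (a : A G) :
    cj u (part N q a) = part N ((u : G ⧸ N) * q * (u : G ⧸ N)⁻¹) (cj u a) := by
  ext g
  rw [coeff_cj]
  by_cases hg : (g : G ⧸ N) = (u : G ⧸ N) * q * (u : G ⧸ N)⁻¹
  · rw [← hg, part_coeff_self, coeff_cj]
    have : ((u⁻¹ * g * u : G) : G ⧸ N) = q := by
      rw [QuotientGroup.mk_mul, QuotientGroup.mk_mul, QuotientGroup.mk_inv, hg]
      group
    rw [← this, part_coeff_self]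
  · rw [part_coeff_ne N _ hg, part_coeff_ne]
    intro h
    apply hg
    rw [← h, QuotientGroup.mk_mul, QuotientGroup.mk_mul, QuotientGroup.mk_inv]
    group

theorem cj_part_mem {x : A G} (hx : IsC x) (q : G ⧸ N) {m : G} (hm : m ∈ N) :
    cj m (part N q x) = part N q x := by
  rw [cj_part, (isC_iff_cj x).1 hx, (QuotientGroup.eq_one_iff m).2 hm, inv_one, one_mul, mul_one]

/-- Elements of order prime to `p` congruent modulo a normal `p`-subgroup are conjugate under it. -/
theorem exists_conj_regular {H : Type*} [Group H] [Finite H] {p : ℕ} [Fact p.Prime]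
    {P : Subgroup H} [P.Normal] (hP : IsPGroup p P) {q q' : H} (hq : ¬ p ∣ orderOf q)
    (hq' : ¬ p ∣ orderOf q') (hqq : q⁻¹ * q' ∈ P) : ∃ u ∈ P, u * q * u⁻¹ = q' := by
  have hco : ∀ x : H, ¬ p ∣ orderOf x → (Nat.card (Subgroup.zpowers x)).Coprime (Nat.card P) :=
    fun x hx => by
      obtain ⟨k, hk⟩ := IsPGroup.iff_card.1 hP
      rw [hk, Nat.card_zpowers]
      exact (((Fact.out : p.Prime).coprime_iff_not_dvd.2 hx).symm).pow_right k
  have hmeet : ∀ x : H, ¬ p ∣ orderOf x → ∀ y ∈ Subgroup.zpowers x, y ∈ P → y = 1 :=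
    fun x hx y hy hyP => by
      have := Subgroup.inf_eq_bot_of_coprime (hco x hx)
      exact Subgroup.mem_bot.1 (this ▸ (Subgroup.mem_inf.2 ⟨hy, hyP⟩))
  have hmk : (QuotientGroup.mk' P) q = (QuotientGroup.mk' P) q' := QuotientGroup.eq.2 hqq
  have hord : ∀ x : H, ¬ p ∣ orderOf x → orderOf ((QuotientGroup.mk' P) x) = orderOf x :=
    fun x hx => Nat.dvd_antisymm (orderOf_map_dvd _ x) (orderOf_dvd_of_pow_eq_one
      (hmeet x hx _ (Subgroup.pow_mem _ (Subgroup.mem_zpowers x) _) (by
        rw [← QuotientGroup.eq_one_iff]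
        change (QuotientGroup.mk' P) (x ^ _) = 1
        rw [map_pow, pow_orderOf_eq_one])))
  have hord' : orderOf q' = orderOf q := by rw [← hord q hq, ← hord q' hq', hmk]
  obtain ⟨u, hu, he⟩ := CoprimeSZ.exists_conj_of_card_eq (N := P) (A := Subgroup.zpowers q)
    (B := Subgroup.zpowers q') (by rw [Subgroup.normalizer_eq_top_iff.2 inferInstance]; exact le_top)
    (hco q hq) (Or.inl inferInstance) (by
      rw [Subgroup.zpowers_le, show q' = q * (q⁻¹ * q') by group]
      exact Subgroup.mul_mem _ (Subgroup.mem_sup_right (Subgroup.mem_zpowers q))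
        (Subgroup.mem_sup_left hqq))
    (by rw [Nat.card_zpowers, Nat.card_zpowers, hord'])
  refine ⟨u, hu, ?_⟩
  have h1 : u * q * u⁻¹ ∈ Subgroup.zpowers q' :=
    he ▸ CoprimeSZ.conj_mul_mem_conj_smul (Subgroup.mem_zpowers q)
  have h2 : q'⁻¹ * (u * q * u⁻¹) ∈ P := by
    rw [← QuotientGroup.eq_one_iff]
    change (QuotientGroup.mk' P) _ = 1
    have hu' : (QuotientGroup.mk' P) u = 1 := (QuotientGroup.eq_one_iff u).2 hu
    rw [map_mul, map_mul, map_mul, map_inv, map_inv, hu', ← hmk]
    group
  have := hmeet q' hq' _ (Subgroup.mul_mem _ (Subgroup.inv_mem _ (Subgroup.mem_zpowers q')) h1) h2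
  exact (inv_mul_eq_one.1 this).symm

theorem not_singular_of_pGroup {H : Type*} [Group H] [Finite H] {p : ℕ} [Fact p.Prime]
    {P : Subgroup H} (hP : IsPGroup p P) {q : H} (hq : q ∈ P) (h : ¬ p ∣ orderOf q) : q = 1 := by
  obtain ⟨k, hk⟩ := IsPGroup.iff_orderOf.1 hP ⟨q, hq⟩
  rw [Subgroup.orderOf_mk] at hk
  rcases k with _ | k
  · exact orderOf_eq_one_iff.1 (by simpa using hk)
  · exact absurd (by rw [hk]; exact dvd_pow_self p k.succ_ne_zero) h

theorem eθ_mul_self [Fintype N] (θ : IrrCharacter N) :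
    ext N (idem ({θ} : Set (IrrCharacter N))) * ext N (idem {θ}) = ext N (idem {θ}) := by
  rw [← ext_mul, idem_idem]

/-- An invariant constituent forces the support into `O_{p'}`. -/
theorem supp_of_invariant {p : ℕ} [Fact p.Prime] [Fintype N] (hG : IsPSolvable p G)
    (hNp : (Nat.card N).Coprime p) (hQ : pPrimeCore p (G ⧸ N) = ⊥)
    (θ : IrrCharacter N) (hinv : ∀ (g : G) (n : N), (θ : N → ℂ) (cn g n) = (θ : N → ℂ) n)
    {x : A G} (hx : IsC x) (hxx : x * x = x) (hreg : RegSupp p x)
    (hxe : x * ext N (idem ({θ} : Set (IrrCharacter N))) = x) : Supp N x := by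
  classical
  set P := pCore p (G ⧸ N) with hPdef
  have hPp : IsPGroup p P := HallCore.isPGroup_pCore p _
  have hHH : Subgroup.centralizer (P : Set (G ⧸ N)) ≤ P :=
    HallSolvable.centralizer_pCore_le (HallSolvable.isPSolvable_quotient hG N) hQ
  set L : Subgroup G := P.comap (QuotientGroup.mk' N) with hLdef
  have : L.Normal := Subgroup.Normal.comap inferInstance _
  have hNL : N ≤ L := fun n hn => by
    rw [hLdef, Subgroup.mem_comap]
    change (n : G ⧸ N) ∈ P
    rw [(QuotientGroup.eq_one_iff n).2 hn]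
    exact P.one_mem
  have hk : N.relIndex L = Nat.card P := by
    rw [HallSolvable.relIndex_eq_card_map,
      Subgroup.map_comap_eq_self_of_surjective (QuotientGroup.mk'_surjective N)]
  have hcop : (N.relIndex L).Coprime (Nat.card N) := by
    obtain ⟨a, ha⟩ := IsPGroup.iff_card.1 hPp
    rw [hk, ha]
    exact hNp.symm.pow_left a
  obtain ⟨ε, hεC, hεε, hεL, hεN, hεu⟩ := exists_ext_idem N L hNL hcop θ hinv
  set eθ := ext N (idem ({θ} : Set (IrrCharacter N))) with heθ
  set k : ℂ := (N.relIndex L : ℂ) with hkdef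
  have hk0 : (N.relIndex L : ℝ) ≠ 0 := by
    rw [hk]; exact Nat.cast_ne_zero.2 Nat.card_pos.ne'
  -- evaluation at one
  have hone : ∀ b : A G, Supp N b → k * (b * ε).coeff 1 = (b * eθ).coeff 1 := by
    intro b hb
    rw [mul_coeff, mul_coeff, Finset.mul_sum]
    refine Finset.sum_congr rfl fun h _ => ?_
    rw [mul_one]
    by_cases hh : h ∈ N
    · rw [hεN _ (N.inv_mem hh)]; ring
    · rw [hb h hh]; ring
  have hy1 : k * (x * ε).coeff 1 = x.coeff 1 := by
    conv_rhs => rw [← hxe]
    rw [mul_coeff, mul_coeff, Finset.mul_sum]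
    refine Finset.sum_congr rfl fun h _ => ?_
    rw [mul_one]
    by_cases hh : h ∈ N
    · rw [hεN _ (N.inv_mem hh)]; ring
    · rw [supp_ext N _ _ (fun hc => hh (by simpa using N.inv_mem hc))]
      by_cases hL' : h ∈ L
      · have : p ∣ orderOf h := by
          by_contra hr
          apply hh
          have hr' : ¬ p ∣ orderOf (h : G ⧸ N) :=
            fun hd => hr (hd.trans (orderOf_map_dvd (QuotientGroup.mk' N) h))
          exact (QuotientGroup.eq_one_iff h).1 (not_singular_of_pGroup hPp hL' hr')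
        rw [hreg h this]; ring
      · rw [hεL _ (fun hc => hL' (by simpa using L.inv_mem hc))]; ring
  let z : G ⧸ N → A G := fun q => part N q x * ε
  have hzsum : ∑ q, z q = x * ε := by
    simp only [z]
    rw [← Finset.sum_mul, sum_part]
  have hzsupp : ∀ q g, (z q).coeff g ≠ 0 → q⁻¹ * (g : G ⧸ N) ∈ P := by
    intro q g h
    simp only [z] at h
    rw [mul_coeff] at h
    obtain ⟨h', -, hne⟩ := Finset.exists_ne_zero_of_sum_ne_zero h
    have h1 : (h' : G ⧸ N) = q := by
      by_contra hc; exact hne (by rw [part_coeff_ne N x hc, zero_mul])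
    have h2 : h'⁻¹ * g ∈ L := by
      by_contra hc; exact hne (by rw [hεL _ hc, mul_zero])
    rw [← h1]
    exact h2
  have hpartreg : ∀ q : G ⧸ N, p ∣ orderOf q → part N q x = 0 := by
    intro q hq
    ext g
    by_cases hg : (g : G ⧸ N) = q
    · rw [← hg, part_coeff_self, hreg g (hq.trans (hg ▸ orderOf_map_dvd (QuotientGroup.mk' N) g))]
      simp
    · rw [part_coeff_ne N x hg]; simp
  -- conjugation
  have hzconj : ∀ (q : G ⧸ N) (u : G), u ∈ L →
      z ((u : G ⧸ N) * q * (u : G ⧸ N)⁻¹) = z q := by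
    intro q u hu
    have h1 : cj u (z q) = z ((u : G ⧸ N) * q * (u : G ⧸ N)⁻¹) := by
      simp only [z]
      rw [cj_mul, cj_part, (isC_iff_cj x).1 hx, (isC_iff_cj ε).1 hεC]
    obtain ⟨a, ha, hae⟩ := hεu u hu
    have hca : Commute (part N q x) a := commute_of_supp ha fun m hm => cj_part_mem N hx q hm
    have h2 : MonoidAlgebra.single u 1 * z q = z q * MonoidAlgebra.single u 1 := by
      simp only [z]
      calc MonoidAlgebra.single u 1 * (part N q x * ε)
          = (MonoidAlgebra.single u 1 * ε) * part N q x := by rw [mul_assoc, hεC.comm]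
        _ = a * (part N q x * ε) := by rw [hae, mul_assoc, hεC.comm]
        _ = part N q x * (a * ε) := by rw [← mul_assoc, ← hca.eq, mul_assoc]
        _ = part N q x * ε * MonoidAlgebra.single u 1 := by
          rw [← hae, ← hεC.comm, mul_assoc]
    rw [← h1, cj, h2, mul_assoc, MonoidAlgebra.single_mul_single, mul_inv_cancel, mul_one,
      ← MonoidAlgebra.one_def, mul_one]
  have hnz : ∀ q, (k : ℂ) * (nn (z q) : ℂ) = (nn (part N q x) : ℂ) := by
    intro q
    set c := part N q x with hc
    have hcs : Supp N (star' c * c) := by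
      intro g hg
      rw [mul_coeff]
      refine Finset.sum_eq_zero fun h _ => ?_
      by_contra hne
      apply hg
      have h1 : ((h⁻¹ : G) : G ⧸ N) = q := by
        by_contra h'
        exact hne (by rw [star'_coeff, hc, part_coeff_ne N x h', map_zero, zero_mul])
      have h2 : ((h⁻¹ * g : G) : G ⧸ N) = q := by
        by_contra h'
        exact hne (by rw [hc, part_coeff_ne N x h', mul_zero])
      rw [← QuotientGroup.eq_one_iff]
      rw [QuotientGroup.mk_mul, h1] at h2
      simpa using h2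
    have hce : c * eθ = c := by rw [hc, ← part_mul_right N q x (supp_ext N _), hxe]
    rw [nn_eq, nn_eq]
    simp only [z]
    rw [← hc, star'_mul, star'_eq_self hεC hεε]
    have : ε * star' c * (c * ε) = star' c * c * ε := by
      rw [hεC.comm, mul_assoc, ← mul_assoc ε c ε, hεC.comm c, mul_assoc c ε ε, hεε, mul_assoc]
    rw [this, hone _ hcs, mul_assoc, hce]
  -- the two norms of the product
  have hyC : IsC (x * ε) := hx.mul hεC
  have hyy : x * ε * (x * ε) = x * ε := by
    rw [mul_assoc, ← mul_assoc ε x ε, hεC.comm x, mul_assoc x ε ε, hεε, ← mul_assoc, hxx]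
  have hnx : (∑ q, nn (part N q x)) = nn x := by
    simp only [nn]
    rw [Finset.sum_comm]
    refine Finset.sum_congr rfl fun g _ => ?_
    rw [Finset.sum_eq_single (g : G ⧸ N)]
    · rw [part_coeff_self]
    · exact fun q _ hq => by rw [part_coeff_ne N x (Ne.symm hq), map_zero]
    · simp
  have hsum : nn (x * ε) = ∑ q, nn (z q) := by
    have h1 : k * (nn (x * ε) : ℂ) = k * ((∑ q, nn (z q) : ℝ) : ℂ) := by
      rw [nn_idem hyC hyy, hy1, ← nn_idem hx hxx, ← hnx]
      push_cast
      rw [Finset.mul_sum]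
      exact (Finset.sum_congr rfl fun q _ => hnz q).symm
    have hkc : k ≠ 0 := by rw [hkdef]; exact_mod_cast hk0
    exact_mod_cast mul_left_cancel₀ hkc h1
  have hregz : ∀ q g, (z q).coeff g ≠ 0 → ¬ p ∣ orderOf q := fun q g h hd => h (by
    simp [z, hpartreg q hd])
  have hequal : ∀ q q' g, (z q).coeff g ≠ 0 → (z q').coeff g ≠ 0 → z q = z q' := by
    intro q q' g h h'
    have hm : q⁻¹ * q' ∈ P := by
      have := P.mul_mem (hzsupp q g h) (P.inv_mem (hzsupp q' g h'))
      simpa [mul_assoc] using this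
    obtain ⟨v, hv, rfl⟩ := exists_conj_regular hPp (hregz q g h) (hregz q' g h') hm
    obtain ⟨u, rfl⟩ := QuotientGroup.mk_surjective v
    exact (hzconj q u hv).symm
  -- at most one part meets a given element
  have huniq : ∀ q q' g, (z q).coeff g ≠ 0 → (z q').coeff g ≠ 0 → q = q' := by
    have hle : ∀ g, ∑ q, Complex.normSq ((z q).coeff g) ≤
        Complex.normSq ((x * ε).coeff g) := by
      intro g
      set R := Finset.univ.filter (fun q => (z q).coeff g ≠ 0) with hR
      rw [← hzsum, MonoidAlgebra.coeff_sum, Finset.sum_apply',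
        ← Finset.sum_filter_ne_zero (f := fun q => (z q).coeff g),
        ← Finset.sum_subset (Finset.subset_univ R) (fun q _ hq => by
          simp only [hR, Finset.mem_filter, Finset.mem_univ, true_and, not_not] at hq
          rw [hq, map_zero])]
      rcases R.eq_empty_or_nonempty with h | ⟨q₀, hq₀⟩
      · simp only [h, Finset.sum_empty]
        exact Complex.normSq_nonneg _
      · have hv : ∀ q ∈ R, (z q).coeff g = (z q₀).coeff g := fun q hq => by
          rw [hequal q q₀ g (Finset.mem_filter.1 hq).2 (Finset.mem_filter.1 hq₀).2]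
        rw [← hR, Finset.sum_congr rfl hv, Finset.sum_congr rfl fun q hq => by rw [hv q hq],
          Finset.sum_const, Finset.sum_const, nsmul_eq_mul, nsmul_eq_mul, map_mul,
          Complex.normSq_natCast]
        have h1 : (1 : ℝ) ≤ (R.card : ℝ) := by exact_mod_cast Finset.card_pos.2 ⟨q₀, hq₀⟩
        have h0 := Complex.normSq_nonneg ((z q₀).coeff g)
        exact mul_le_mul_of_nonneg_right (le_mul_of_one_le_left (by linarith) h1) h0
    have heq : ∀ g, ∑ q, Complex.normSq ((z q).coeff g) = Complex.normSq ((x * ε).coeff g) := by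
      refine fun g => (Finset.sum_eq_sum_iff_of_le fun g _ => hle g).1 ?_ g (Finset.mem_univ g)
      simp only [nn] at hsum
      rw [hsum, Finset.sum_comm]
    intro q q' g h h'
    by_contra hne
    set R := Finset.univ.filter (fun q => (z q).coeff g ≠ 0) with hR
    have h2 : 2 ≤ R.card :=
      Finset.one_lt_card.2 ⟨q, by simp [hR, h], q', by simp [hR, h'], hne⟩
    have hv : ∀ r ∈ R, (z r).coeff g = (z q).coeff g := fun r hr => by
      rw [hequal r q g (Finset.mem_filter.1 hr).2 h]
    have := heq g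
    rw [← hzsum, MonoidAlgebra.coeff_sum, Finset.sum_apply',
      ← Finset.sum_filter_ne_zero (f := fun q => (z q).coeff g),
      ← Finset.sum_subset (Finset.subset_univ R) (fun r _ hr => by
        simp only [hR, Finset.mem_filter, Finset.mem_univ, true_and, not_not] at hr
        rw [hr, map_zero]), ← hR, Finset.sum_congr rfl hv,
      Finset.sum_congr rfl fun r hr => by rw [hv r hr],
      Finset.sum_const, Finset.sum_const, nsmul_eq_mul, nsmul_eq_mul, map_mul,
      Complex.normSq_natCast] at this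
    have h0 := Complex.normSq_pos.2 h
    have h2' : (2 : ℝ) ≤ (R.card : ℝ) := by exact_mod_cast h2
    have h3 : (0 : ℝ) < ((R.card : ℝ) - 1) * R.card * Complex.normSq ((z q).coeff g) := by
      refine mul_pos (mul_pos ?_ ?_) h0 <;> linarith
    nlinarith
  -- conclusion
  intro g hg
  by_contra hne
  set q := (g : G ⧸ N) with hq
  have hpne : part N q x ≠ 0 := fun h => hne (by rw [← part_coeff_self N x g, ← hq, h]; simp)
  obtain ⟨g₀, hg₀⟩ : ∃ g₀, (z q).coeff g₀ ≠ 0 := by
    by_contra hall
    push Not at hall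
    have h := hnz q
    have hz0 : z q = 0 := by ext a; simp [hall a]
    rw [hz0] at h
    simp [nn] at h
    exact hpne (eq_zero_of_nn (by simp only [nn]; exact_mod_cast h.symm))
  have hqP : q ∈ P := by
    refine hHH (Subgroup.mem_centralizer_iff.2 fun v hv => ?_)
    obtain ⟨u, rfl⟩ := QuotientGroup.mk_surjective v
    have h := hzconj q u hv
    have := huniq _ q g₀ (by rw [h]; exact hg₀) hg₀
    exact mul_inv_eq_iff_eq_mul.1 this
  exact hg ((QuotientGroup.eq_one_iff g).1 (not_singular_of_pGroup hPp hqP (hregz q g₀ hg₀)))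

end Cfsg.Agent.HaradaNorm83
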