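import Mathlib
import Cfsg.Agent.Lib.HaradaNorm83Main

/-!
# Integrality of central idempotents supported on `p`-regular elements
-/

set_option autoImplicit false

open scoped ComplexConjugate

namespace Cfsg.Agent.HaradaNorm83

open Cfsg Cfsg.Agent.BrauerBlocksCentral Cfsg.Agent.BrauerBlocksBasic Cfsg.Agent.BrauerBlocksVal
  Cfsg.Agent.CharExtension

universe u

theorem intA_idem_of_coprime {H : Type u} [Group H] [Fintype H] {p : ℕ} {M : Ideal AlgInt}
    (hM : IsPModular p M) (h : ¬ p ∣ Nat.card H) (S : Set (IrrCharacter H)) : IntA M (idem S) := by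
  classical
  intro g
  rw [idem, coeff_ofVals]
  refine (int'_inv_natCast hM h).mul (int'_sum _ fun χ _ => ?_)
  refine Int'.mul ?_ ((int'_of_isIntegral hM (isIntegral_irr χ 1)).mul
    (int'_of_isIntegral hM (isIntegral_conj (isIntegral_irr χ g))))
  split_ifs
  · exact int'_one
  · exact int'_zero

theorem sum_idem_singleton {H : Type u} [Group H] [Fintype H] :
    ∑ θ : IrrCharacter H, idem ({θ} : Set (IrrCharacter H)) = 1 := by
  classical
  refine eq_of_om (isC_sum _ fun θ _ => isC_idem _) isC_one fun χ => ?_
  rw [om_sum, om_one χ.2, Finset.sum_eq_single χ]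
  · simp [om_idem]
  · intro θ _ h; simp [om_idem, Ne.symm h]
  · simp

theorem intA_of_regSupp_aux : ∀ (n : ℕ) (G : Type u) [Group G] [Fintype G], Nat.card G = n →
    ∀ (p : ℕ) [Fact p.Prime] (M : Ideal AlgInt), IsPModular p M → IsPSolvable p G →
    ∀ e : A G, IsC e → e * e = e → RegSupp p e → IntA M e := by
  intro n
  induction n using Nat.strong_induction_on with
  | _ n ih =>
    intro G _ _ hn p _ M hM hG e hC he hreg
    classical
    set N := pPrimeCore p G with hNdef
    have hNp : (Nat.card N).Coprime p := HallCore.coprime_card_pPrimeCore p G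
    have hndvd : ¬ p ∣ Nat.card N := (Fact.out : p.Prime).coprime_iff_not_dvd.1 hNp.symm
    suffices hθ : ∀ θ : IrrCharacter N,
        IntA M (e * ext N (idem ({θ} : Set (IrrCharacter N)))) by
      intro g
      have he' : e = ∑ θ : IrrCharacter N, e * ext N (idem ({θ} : Set (IrrCharacter N))) := by
        rw [← Finset.mul_sum, ← ext_sum, sum_idem_singleton, ext_one, mul_one]
      rw [he', MonoidAlgebra.coeff_sum, Finset.sum_apply']
      exact int'_sum _ fun θ _ => hθ θ g
    intro θ
    set eθ := ext N (idem ({θ} : Set (IrrCharacter N))) with heθ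
    set x := e * eθ with hx
    have hxreg : RegSupp p x := by
      intro g hg
      rw [hx, mul_coeff]
      refine Finset.sum_eq_zero fun h _ => ?_
      by_cases hm : h⁻¹ * g ∈ N
      · rw [hreg h ?_, zero_mul]
        have hgh : (g : G ⧸ N) = h := mk_eq_of_inv_mul_mem N hm
        have h1 : orderOf g ∣ orderOf (g : G ⧸ N) * Nat.card N := by
          refine orderOf_dvd_of_pow_eq_one ?_
          rw [pow_mul]
          have : g ^ orderOf (g : G ⧸ N) ∈ N :=
            (QuotientGroup.eq_one_iff _).1 (pow_orderOf_eq_one (g : G ⧸ N))
          have h2 : ((⟨_, this⟩ : N) : G) ^ Nat.card N = 1 := by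
            rw [← Subgroup.coe_pow, pow_card_eq_one', Subgroup.coe_one]
          exact h2
        rcases (Fact.out : p.Prime).dvd_mul.1 (hg.trans h1) with h2 | h2
        · rw [hgh] at h2
          exact h2.trans (orderOf_map_dvd (QuotientGroup.mk' N) h)
        · exact absurd h2 hndvd
      · rw [supp_ext N _ _ hm, mul_zero]
    have hxx : x * x = x := by
      rw [hx, mul_assoc, ← mul_assoc eθ e eθ, ← hC.comm eθ, mul_assoc e eθ eθ, eθ_mul_self,
        ← mul_assoc, he]
    have hxe : x * eθ = x := by rw [hx, mul_assoc, eθ_mul_self]
    have hcj : ∀ u v : G, cj (u * v) eθ = cj u (cj v eθ) := fun u v => by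
      ext g
      simp only [coeff_cj]
      congr 1
      group
    let T : Subgroup G :=
      { carrier := {u | cj u eθ = eθ}
        one_mem' := by
          change cj 1 eθ = eθ
          ext g; simp [coeff_cj]
        mul_mem' := fun {a b} ha hb => by
          change cj (a * b) eθ = eθ
          rw [hcj, hb, ha]
        inv_mem' := fun {a} ha => by
          change cj a⁻¹ eθ = eθ
          conv_lhs => rw [← ha, ← hcj, inv_mul_cancel]
          ext g; simp [coeff_cj] }
    have hcjx : ∀ u ∈ T, cj u x = x := fun u hu => by
      rw [hx, cj_mul, (isC_iff_cj e).1 hC, hu]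
    by_cases hT : T = ⊤
    · have hTu : ∀ u : G, cj u eθ = eθ := fun u => (hT ▸ Subgroup.mem_top u : u ∈ T)
      have hinv : ∀ (g : G) (m : N), (θ : N → ℂ) (cn g m) = (θ : N → ℂ) m := by
        intro g m
        have hm := Subgroup.Normal.conj_mem (H := N) inferInstance _ (m⁻¹).2 g
        have h := congrArg (fun y : A G => y.coeff (g * (((m⁻¹ : N)) : G) * g⁻¹)) (hTu g)
        simp only [coeff_cj] at h
        rw [show g⁻¹ * (g * (((m⁻¹ : N)) : G) * g⁻¹) * g = (((m⁻¹ : N)) : G) by group] at h
        rw [heθ, ext_coe, ext_mem N _ hm, coeff_idem_singleton, coeff_idem_singleton,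
          inv_inv] at h
        have h0 : (Nat.card N : ℂ)⁻¹ ≠ 0 := inv_ne_zero (Nat.cast_ne_zero.2 Nat.card_pos.ne')
        have h1 := CharBasic.isIrrCharacter_apply_one_ne_zero θ.2
        rw [mul_right_inj' h0, mul_right_inj' h1] at h
        rw [h]
        exact congrArg (θ : N → ℂ) (Subtype.ext (by simp [mul_assoc]))
      have hxC : IsC x := (isC_iff_cj x).2 fun u => hcjx u (hT ▸ Subgroup.mem_top u)
      have hQ : pPrimeCore p (G ⧸ N) = ⊥ := HallCore.pPrimeCore_quotient_self p G
      have hs := supp_of_invariant N hG hNp hQ θ hinv hxC hxx hxreg hxe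
      have hrC : IsC (res N x) := fun a b => by
        rw [res_coeff, res_coeff]
        simpa using hxC (a : G) (b : G)
      have hri : res N x * res N x = res N x := by rw [← res_mul N hs, hxx]
      intro g
      by_cases hg : g ∈ N
      · have := intA_idem_of_coprime hM hndvd
          {χ : IrrCharacter N | om (χ : N → ℂ) (res N x) = 1} ⟨g, hg⟩
        rw [← eq_idem_of_idempotent hrC hri, res_coeff] at this
        exact this
      · rw [hs g hg]; exact int'_zero
    · -- the support lies in the stabiliser
      have hs : Supp T x := by
        intro g hg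
        set q := (g : G ⧸ N) with hq
        set c := part N q e with hc
        have h1 : part N q x = c * eθ := part_mul_right N q e (supp_ext N _)
        have h2 : part N q x = eθ * c := by
          rw [hx, hC.comm, part_mul_left N q e (supp_ext N _)]
        have hswap : c * eθ = cj g eθ * c := by
          set a := MonoidAlgebra.single g⁻¹ (1 : ℂ) * c with ha
          have hca : c = MonoidAlgebra.single g 1 * a := by
            rw [ha, ← mul_assoc, MonoidAlgebra.single_mul_single, mul_inv_cancel, mul_one,
              ← MonoidAlgebra.one_def, one_mul]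
          have has : Supp N a := by
            intro h hh
            rw [ha, mul_coeff, Finset.sum_eq_single g⁻¹]
            · rw [inv_inv, hc, part_coeff_ne N e, mul_zero]
              intro h'
              apply hh
              rw [hq, QuotientGroup.mk_mul, mul_eq_left] at h'
              exact (QuotientGroup.eq_one_iff h).1 h'
            · intro y _ hy
              simp [MonoidAlgebra.coeff_single, Ne.symm hy]
            · simp
          have hcom : Commute eθ a := commute_of_supp has fun m hm => by
            ext y
            rw [coeff_cj]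
            by_cases hy : y ∈ N
            · have hy' : m⁻¹ * y * m ∈ N := N.mul_mem (N.mul_mem (N.inv_mem hm) hy) hm
              rw [heθ, ext_mem N _ hy', ext_mem N _ hy]
              have := isC_idem ({θ} : Set (IrrCharacter N)) ⟨y, hy⟩ ⟨m, hm⟩⁻¹
              convert this using 3
              simp
            · rw [heθ, supp_ext N _ y hy, supp_ext N _ _ fun h => hy (by
                simpa [mul_assoc] using N.mul_mem (N.mul_mem hm h) (N.inv_mem hm))]
          calc c * eθ = MonoidAlgebra.single g 1 * a * eθ := by rw [← hca]
            _ = MonoidAlgebra.single g 1 * eθ * a := by rw [mul_assoc, ← hcom.eq, ← mul_assoc]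
            _ = cj g eθ * (MonoidAlgebra.single g 1 * a) := by
              rw [single_mul_eq_cj g eθ, mul_assoc]
            _ = cj g eθ * c := by rw [← hca]
        let e' : N →* N := MonoidHom.mk' (cn g⁻¹) fun a b => Subtype.ext (by simp [mul_assoc])
        have he's : Function.Surjective e' := fun m => ⟨cn g m, by
          simp [e', ← cn_mul]⟩
        let θ' : IrrCharacter N := ⟨fun m => (θ : N → ℂ) (e' m),
          CharBasic.isIrrCharacter_comap e' he's θ.2⟩
        have hcje : cj g eθ = ext N (idem ({θ'} : Set (IrrCharacter N))) := by
          ext y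
          rw [coeff_cj]
          by_cases hy : y ∈ N
          · have hy' : g⁻¹ * y * g ∈ N := by
              simpa using Subgroup.Normal.conj_mem (H := N) inferInstance _ hy g⁻¹
            rw [heθ, ext_mem N _ hy', ext_mem N _ hy, coeff_idem_singleton, coeff_idem_singleton]
            have h1 : (θ' : N → ℂ) 1 = (θ : N → ℂ) 1 := congrArg (θ : N → ℂ) (map_one e')
            rw [h1]
            congr 2
            exact congrArg (θ : N → ℂ) (Subtype.ext (by simp [e', mul_assoc]))
          · rw [supp_ext N _ y hy, heθ, supp_ext N _ _ fun h => hy (by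
              simpa [mul_assoc] using Subgroup.Normal.conj_mem (H := N) inferInstance _ h g)]
        have hne : θ' ≠ θ := fun h => hg (show cj g eθ = eθ by rw [hcje, h])
        have h3 : part N q x = 0 := by
          calc part N q x = eθ * (c * eθ) := by
                rw [← mul_assoc, ← h2, h1, mul_assoc, eθ_mul_self]
            _ = (eθ * cj g eθ) * c := by rw [hswap, mul_assoc]
            _ = 0 := by
                rw [hcje, heθ, ← ext_mul, idem_mul,
                  Set.singleton_inter_eq_empty.2 (fun h => hne (Set.mem_singleton_iff.1 h).symm),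
                  idem_empty, ext_zero, zero_mul]
        rw [← part_coeff_self N x g, ← hq, h3]
        simp
      have hlt : Nat.card T < n := by
        rw [← hn]
        refine lt_of_le_of_ne (Subgroup.card_le_card_group T) fun h => hT ?_
        exact Subgroup.eq_top_of_card_eq T h
      have hint := ih _ hlt T rfl p M hM (HallSolvable.isPSolvable_subgroup hG T) (res T x)
        (fun a b => by
          rw [res_coeff, res_coeff]
          have := congrArg (fun y : A G => y.coeff ((b : G) * a * (b : G)⁻¹)) (hcjx b b.2)
          simp only [coeff_cj] at this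
          rw [show ((b * a * b⁻¹ : T) : G) = (b : G) * a * (b : G)⁻¹ from rfl, ← this]
          congr 1
          group)
        (by rw [← res_mul T hs, hxx])
        (fun g hg => by rw [res_coeff, hxreg _ (by rwa [Subgroup.orderOf_coe])])
      intro g
      by_cases hg : g ∈ T
      · have := hint ⟨g, hg⟩
        rwa [res_coeff] at this
      · rw [hs g hg]; exact int'_zero

/-- In a `p`-solvable group a central idempotent vanishing at all `p`-singular elements has
locally integral coefficients. -/
theorem intA_of_regSupp {G : Type u} [Group G] [Fintype G] {p : ℕ} [Fact p.Prime]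
    {M : Ideal AlgInt} (hM : IsPModular p M) (hG : IsPSolvable p G) {e : A G} (hC : IsC e)
    (he : e * e = e) (hreg : RegSupp p e) : IntA M e :=
  intA_of_regSupp_aux _ G rfl p M hM hG e hC he hreg

end Cfsg.Agent.HaradaNorm83
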