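import Cfsg.Agent.Lib.BlockFirstMain32
import Cfsg.Agent.Lib.BlockFirstMainOver
import Cfsg.Agent.Lib.BlockTheoryFirstMain
import Cfsg.Agent.Lib.BrauerPairs81Induced
import Cfsg.Agent.Lib.BlockTheoryMeet
import Cfsg.Agent.Lib.FongReynolds78

/-!
# The Harris–Knörr correspondence

`N` is normal in `G`, `d` a block of `N` with defect group `Q`, `H` the normaliser of `Q`,
`L = H ⊓ N`, and `e` the block of `L` inducing `d`. Induction is a bijection from the blocks of
`H` over `e` to the blocks of `G` over `d`.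
-/

set_option autoImplicit false
set_option linter.unusedSectionVars false

namespace Cfsg.Agent.HarrisKnorr78

open Cfsg Cfsg.Agent.BlockTheoryLocalRing Cfsg.Agent.BlockTheoryCentre
open Cfsg.Agent.BlockTheoryIdem Cfsg.Agent.BlockTheoryBrauer Cfsg.Agent.BlockTheoryDefect
open Cfsg.Agent.BlockTheoryInduced
open Cfsg.Agent.BrauerPairs81Base Cfsg.Agent.BrauerPairs81Pairs Cfsg.Agent.BrauerPairs81Conj
open Cfsg.Agent.BrauerBlocksCovering

attribute [local instance] Classical.propDecidable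

variable {p : ℕ} [Fact p.Prime] {M : Ideal AlgInt}

theorem omega_comp_equiv {A B : Type*} [Group A] [Fintype A] [Group B] [Fintype B] (τ : A ≃* B)
    {z : MonoidAlgebra ℂ A} {w : MonoidAlgebra ℂ B} (h : ∀ a, w.coeff (τ a) = z.coeff a)
    (ξ : B → ℂ) : omega ξ w = omega (ξ ∘ τ) z := by
  rw [omega_apply, omega_apply, chiSum_apply, chiSum_apply]
  simp only [Function.comp_apply, map_one]
  congr 1
  exact (Fintype.sum_equiv τ.toEquiv _ _ fun a => by simp [h]).symm

variable {G : Type*} [Group G] [Fintype G] {N H L Q : Subgroup G}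

/-- The standing assumptions. -/
structure Setting (N H L Q : Subgroup G) (p : ℕ) : Prop where
  normal : N.Normal
  pgroup : IsPGroup p Q
  le_N : Q ≤ N
  hH : H = Subgroup.normalizer (Q : Set G)
  hL : L = H ⊓ N

namespace Setting

variable (S : Setting N H L Q p)
include S

theorem mem_H {g : G} : g ∈ H ↔ g ∈ Subgroup.normalizer (Q : Set G) := by rw [S.hH]

theorem L_le_H : L ≤ H := S.hL ▸ inf_le_left

theorem L_le_N : L ≤ N := S.hL ▸ inf_le_right

theorem Q_le_H : Q ≤ H := S.hH ▸ Subgroup.le_normalizer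

theorem cen_le_H : Subgroup.centralizer (Q : Set G) ≤ H :=
  S.hH ▸ Subgroup.centralizer_le_normalizer _

theorem Q_le_L : Q ≤ L := S.hL ▸ le_inf S.Q_le_H S.le_N

theorem H_le_norm : H ≤ Subgroup.normalizer (Q : Set G) := S.hH.le

theorem mem_L {x : G} (hH : x ∈ H) (hN : x ∈ N) : x ∈ L := S.hL ▸ ⟨hH, hN⟩

theorem normal_Q_L : (Q.subgroupOf L).Normal :=
  Subgroup.normal_subgroupOf_of_le_normalizer (S.L_le_H.trans S.H_le_norm)

theorem conj_cen {u x : G} (hu : u ∈ H) :
    u * x * u⁻¹ ∈ Subgroup.centralizer (Q : Set G) ↔ x ∈ Subgroup.centralizer (Q : Set G) := by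
  refine ⟨fun h => ?_, conj_mem_centralizer (S.mem_H.1 hu)⟩
  simpa [mul_assoc] using conj_mem_centralizer (inv_mem (S.mem_H.1 hu)) h

theorem invBy_cut {K : Subgroup G} (hK : K ≤ H) {z : MonoidAlgebra ℂ G} (hz : InvBy K z) :
    InvBy K (cut Q z) := fun u hu x => by
  simp only [coeff_cut]
  rw [hz u hu x]
  exact if_congr (S.conj_cen (hK hu)) rfl rfl

theorem cut_cjA {h : G} (hh : h ∈ H) (z : MonoidAlgebra ℂ G) :
    cut Q (cjA h z) = cjA h (cut Q z) := by
  refine MonoidAlgebra.ext ?_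
  ext x
  simp only [coeff_cut, coeff_cjA]
  have := S.conj_cen (x := x) (inv_mem hh)
  rw [inv_inv] at this
  exact if_congr this.symm rfl rfl

/-- Coefficients away from the centraliser of `Q` do not matter on `L`. -/
theorem omega_res_sub_cut (hM : IsPModular p M) [Fintype L] {z : MonoidAlgebra ℂ G}
    (hz : InvBy L z) (hzi : IsInt M z) (ξ : IrrCharacter L) :
    MemLocalIdeal M (omega (ξ : L → ℂ) (res L z) - omega (ξ : L → ℂ) (res L (cut Q z))) := by
  haveI := S.normal_Q_L
  rw [← map_sub, ← map_sub]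
  refine omega_ideal_of_vanish hM (Q.subgroupOf L) S.pgroup.comap_subtype
    (isCen_res_of_invBy (invBy_sub hz (S.invBy_cut S.L_le_H hz)))
    (isInt_res L (IsInt.sub hM hzi (isInt_cut hM Q hzi))) (fun x hx => ?_) ξ
  have : (x : G) ∈ Subgroup.centralizer (Q : Set G) :=
    Subgroup.mem_centralizer_iff.mpr fun u hu => congrArg Subtype.val
      (Subgroup.mem_centralizer_iff.mp hx ⟨u, S.Q_le_L hu⟩ (Subgroup.mem_subgroupOf.mpr hu))
  simp [coeff_cut, this]

end Setting

/-- `incl` as a linear map. -/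
noncomputable def inclLin (N : Subgroup G) : MonoidAlgebra ℂ N →ₗ[ℂ] MonoidAlgebra ℂ G where
  toFun := incl N
  map_add' := map_add _
  map_smul' c z := by
    refine MonoidAlgebra.ext ?_
    ext x
    by_cases hx : x ∈ N
    · obtain ⟨y, rfl⟩ : ∃ y : N, (y : G) = x := ⟨⟨x, hx⟩, rfl⟩
      simp [coeff_incl_coe]
    · simp [coeff_incl_of_notMem N _ hx]

/-- The congruence of induction inside `N` on integral central elements. -/
theorem indIn_congr (hM : IsPModular p M) [Fintype N] [Fintype L] (hLN : L ≤ N)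
    {e : Set (IrrCharacter L)} {d : Set (IrrCharacter N)} (hed : IsInducedBlockIn M N L e d)
    {ξ : IrrCharacter L} (hξ : ξ ∈ e) {θ : IrrCharacter N} (hθ : θ ∈ d)
    {z : MonoidAlgebra ℂ N} (hz : IsCen z) (hzi : IsInt M z) :
    MemLocalIdeal M (omega (ξ : L → ℂ) (res L (incl N z)) - omega (θ : N → ℂ) z) := by
  refine ideal_linear_of_classSum hM
    ((omega (ξ : L → ℂ)).comp ((res L).comp (inclLin N)) - omega (θ : N → ℂ)) (fun n => ?_) hz hzi
  rw [LinearMap.sub_apply, omega_classSum (irr_classFun θ)]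
  show MemLocalIdeal M (omega (ξ : L → ℂ) (res L (incl N (classSum n))) - _)
  have h1 := hed.2.2 ξ hξ θ hθ n
  rw [BrauerPairs81Induced.inducedCentralCharIn_eq hLN] at h1
  convert h1 using 1
  congr!

section Agree

variable [Fintype N] [Fintype L]

/-- First main theorem inside `N`: the idempotent of `d` restricts to that of `e`. -/
theorem small_agree (S : Setting N H L Q p) (hM : IsPModular p M) {d : Set (IrrCharacter N)}
    (hd : IsPBlock M d) {e : Set (IrrCharacter L)} (he : IsPBlock M e)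
    (heQ : IsDefectGroup p M e (Q.subgroupOf L)) (hed : IsInducedBlockIn M N L e d) :
    Small M (res L (cut Q (eb N d)) - idem e) := by
  haveI := S.normal
  haveI := S.normal_Q_L
  set P := Q.subgroupOf N with hPdef
  set K := Subgroup.normalizer (P : Set N) with hK
  have hmem : ∀ n : N, n ∈ K ↔ (n : G) ∈ H := by
    intro n
    rw [hK, S.mem_H, Subgroup.mem_normalizer_iff, Subgroup.mem_normalizer_iff]
    constructor
    · intro h y
      constructor
      · intro hy
        exact Subgroup.mem_subgroupOf.mp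
          ((h ⟨y, S.le_N hy⟩).mp (Subgroup.mem_subgroupOf.mpr hy))
      · intro hy
        have hyN : y ∈ N := by
          have := S.normal.conj_mem _ (S.le_N hy) (n : G)⁻¹
          simpa [mul_assoc] using this
        exact Subgroup.mem_subgroupOf.mp ((h ⟨y, hyN⟩).mpr (Subgroup.mem_subgroupOf.mpr hy))
    · intro h y
      simp only [hPdef, Subgroup.mem_subgroupOf]
      exact h (y : G)
  let φ : L ≃* K :=
    { toFun := fun x => ⟨⟨x, S.L_le_N x.2⟩, (hmem _).mpr (S.L_le_H x.2)⟩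
      invFun := fun k => ⟨((k : N) : G), S.mem_L ((hmem _).mp k.2) (k : N).2⟩
      left_inv := fun _ => rfl
      right_inv := fun _ => rfl
      map_mul' := fun _ _ => rfl }
  haveI : Fintype K := Fintype.ofFinite K
  have hPp : IsPGroup p P := S.pgroup.comap_subtype
  have he' : IsPBlock M (pushSet φ e) := isPBlock_push φ he
  have heP : IsDefectGroup p M (pushSet φ e) (P.subgroupOf K) := by
    have := isDefectGroup_push φ heQ
    convert this using 1
    ext k
    constructor
    · intro hk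
      exact ⟨φ.symm k, hk, φ.apply_symm_apply k⟩
    · rintro ⟨x, hx, rfl⟩
      exact hx
  obtain ⟨B, hB, -, hag⟩ := BlockFirstMain32.induce_agree hM hPp he' heP
  have hsm : Small M (res L (cut Q (eb N B)) - idem e) := by
    intro x
    simp only [MonoidAlgebra.coeff_sub, Finsupp.coe_sub, Pi.sub_apply, coeff_res, coeff_cut,
      coeff_idem]
    split_ifs with hx
    · have hxc : (⟨x, S.L_le_N x.2⟩ : N) ∈ Subgroup.centralizer (P : Set N) :=
        Subgroup.mem_centralizer_iff.mpr fun u hu => Subtype.ext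
          (Subgroup.mem_centralizer_iff.mp hx (u : G) (Subgroup.mem_subgroupOf.mp hu))
      have h1 := hag _ hxc
      rw [subgroupBlockCoeff, dif_pos (Subgroup.centralizer_le_normalizer _ hxc)] at h1
      rw [show (x : G) = ((⟨x, S.L_le_N x.2⟩ : N) : G) from rfl, coeff_eb_coe,
        ← blockCoeff_push φ e x]
      exact h1
    · rw [BlockNormalP81.blockCoeff_eq_zero hM (Q.subgroupOf L) S.pgroup.comap_subtype he,
        sub_zero]
      · exact ideal_zero hM
      · refine fun hc => hx (Subgroup.mem_centralizer_iff.mpr fun u hu => ?_)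
        exact congrArg Subtype.val
          (Subgroup.mem_centralizer_iff.mp hc ⟨u, S.Q_le_L hu⟩ (Subgroup.mem_subgroupOf.mpr hu))
  suffices hBd : B = d by rwa [hBd] at hsm
  obtain ⟨ξ, hξ⟩ := block_nonempty hM he
  obtain ⟨θ, hθ⟩ := block_nonempty hM hd
  have hinv : InvBy L (eb N B) := invBy_mono S.L_le_N (invBy_eb_self N B)
  have h1 := indIn_congr hM S.L_le_N hed hξ hθ (isCen_idem B) (isInt_idem hM hB)
  rw [show incl N (idem B) = eb N B from (eb_eq_incl N B).symm] at h1
  have h2 := S.omega_res_sub_cut hM hinv (isInt_eb hM hB) ξ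
  have h3 := omega_ideal_of_small hM ξ
    ((isCen_res_of_invBy (S.invBy_cut S.L_le_H hinv)).sub (isCen_idem e)) hsm
  rw [map_sub] at h3
  rw [omega_idem] at h1 h3
  rw [if_pos hξ] at h3
  by_contra hne
  rw [if_neg fun h => hne (block_eq_of_mem hM hB hd h hθ), sub_zero] at h1
  refine one_not_ideal hM ?_
  have := ideal_sub hM h1 (ideal_add hM h2 h3)
  convert this using 1
  rw [eq_comm]
  ring_nf
  rw [add_sub_assoc, add_eq_left, sub_eq_zero]
  congr!

variable [hN : N.Normal]

/-- The orbit idempotent of `d`. -/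
noncomputable def orbit (d : Set (IrrCharacter N)) : MonoidAlgebra ℂ G := liftIdem N (orb N d)

theorem isCen_orbit (d : Set (IrrCharacter N)) : IsCen (orbit d) :=
  isCen_liftIdem N fun ξ a => conjIrr_mem_orb_iff N a

theorem isInt_orbit (hM : IsPModular p M) {d : Set (IrrCharacter N)} (hd : IsPBlock M d) :
    IsInt M (orbit d) :=
  isInt_liftIdem N hM (isInt_idem_of_closed hM (orb_closed N hM hd))

/-- The image of the orbit idempotent on `L` is one at the members of `e`. -/
theorem omega_orbit_of_mem (S : Setting N H L Q p) (hM : IsPModular p M)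
    {d : Set (IrrCharacter N)} (hd : IsPBlock M d) {e : Set (IrrCharacter L)}
    (he : IsPBlock M e) (hed : IsInducedBlockIn M N L e d) {ξ : IrrCharacter L} (hξ : ξ ∈ e) :
    MemLocalIdeal M (omega (ξ : L → ℂ) (res L (cut Q (orbit d))) - 1) := by
  obtain ⟨θ, hθ⟩ := block_nonempty hM hd
  have hinc : orbit d = incl N (idem (orb N d)) := by
    refine MonoidAlgebra.ext ?_
    ext x
    by_cases hx : x ∈ N
    · rw [show x = ((⟨x, hx⟩ : N) : G) from rfl, coeff_incl_coe, coeff_idem, orbit]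
      simp only [liftIdem, coeff_ofFun]
      rw [dif_pos hx]
    · rw [coeff_incl_of_notMem N _ hx, orbit, liftIdem_supp N _ x hx]
  have h1 := indIn_congr hM S.L_le_N hed hξ hθ (isCen_idem (orb N d))
    (isInt_idem_of_closed hM (orb_closed N hM hd))
  rw [← hinc, omega_idem, if_pos (mem_orb_of_mem N hθ)] at h1
  have h2 := S.omega_res_sub_cut hM (IsCen.invBy (isCen_orbit d) L) (isInt_orbit hM hd) ξ
  have := ideal_sub hM h1 h2
  convert this using 1
  ring

/-- If the image of the orbit idempotent on `L` does not vanish at `ξ`, a conjugate of `ξ`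
under `H` lies in `e`. -/
theorem exists_conj_mem (S : Setting N H L Q p) (hM : IsPModular p M)
    {d : Set (IrrCharacter N)} (hd : IsPBlock M d) (hdQ : IsDefectGroup p M d (Q.subgroupOf N))
    {e : Set (IrrCharacter L)} (he : IsPBlock M e)
    (heQ : IsDefectGroup p M e (Q.subgroupOf L)) (hed : IsInducedBlockIn M N L e d)
    {ξ : IrrCharacter L}
    (hne : ¬ MemLocalIdeal M (omega (ξ : L → ℂ) (res L (cut Q (orbit d))))) :
    ∃ η ∈ e, ∃ h, h ∈ H ∧ ∀ x y : L, (x : G) = h * y * h⁻¹ → (η : L → ℂ) y = (ξ : L → ℂ) x := by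
  obtain ⟨b', hb', hb'ne⟩ : ∃ b' ∈ BlockTheoryMeet.orbBlocks N M d,
      ¬ MemLocalIdeal M (omega (ξ : L → ℂ) (res L (cut Q (eb N b')))) := by
    by_contra! hcon
    refine hne ?_
    rw [orbit, BlockTheoryMeet.incl_orb N hM hd, map_sum, map_sum, map_sum]
    exact ideal_sum hM hcon
  obtain ⟨hb'b, hsub⟩ := Finset.mem_filter.mp hb'
  obtain ⟨g, hg⟩ := BlockTheoryMeet.exists_conj_of_mem_orb N hM hd (mem_blockSet.mp hb'b) hsub
  obtain ⟨x, hxC, hx⟩ : ∃ x, x ∈ Subgroup.centralizer (Q : Set G) ∧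
      ¬ MemLocalIdeal M ((eb N d).coeff (g⁻¹ * x * g)) := by
    by_contra! hcon
    refine hb'ne (omega_ideal_of_small hM ξ (isCen_res_of_invBy (S.invBy_cut S.L_le_H
      (invBy_mono S.L_le_N (invBy_eb_self N b')))) fun y => ?_)
    rw [coeff_res, coeff_cut]
    split_ifs with hy
    · rw [hg, coeff_cjA]; exact hcon _ hy
    · exact ideal_zero hM
  have hyN : g⁻¹ * x * g ∈ N := by
    by_contra hn
    exact hx (by rw [coeff_eb_of_notMem N d hn]; exact ideal_zero hM)
  rw [show g⁻¹ * x * g = ((⟨_, hyN⟩ : N) : G) from rfl, coeff_eb_coe] at hx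
  set R := cjS g⁻¹ Q
  have hRN : R ≤ N := fun u hu => by
    have h2 := S.le_N (mem_cjS.mp hu)
    simpa [mul_assoc] using hN.conj_mem _ h2 g⁻¹
  obtain ⟨n, hn⟩ := conjLe_defect_of_coeff hM hd hdQ hx (IsConj.refl _)
    (Q := R.subgroupOf N) ((S.pgroup.map _).comap_subtype)
    (Subgroup.mem_centralizer_iff.mpr fun u hu => Subtype.ext (by
      have h4 := Subgroup.mem_centralizer_iff.mp (conj_mem_centralizer_map (Q := Q) hxC g⁻¹)
        (u : G) (Subgroup.mem_subgroupOf.mp hu)
      simpa using h4))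
  have hle : cjS ((n : G) * g⁻¹) Q ≤ Q := by
    intro y hy
    rw [← cjS_cjS] at hy
    obtain ⟨u, hu, rfl⟩ := hy
    exact Subgroup.mem_subgroupOf.mp
      (hn ⟨(⟨u, hRN hu⟩ : N), Subgroup.mem_subgroupOf.mpr hu, rfl⟩)
  have heq : cjS ((n : G) * g⁻¹) Q = Q :=
    Subgroup.eq_of_le_of_card_ge hle (card_cjS _ Q).ge
  have hnH : (n : G) * g⁻¹ ∈ H := S.mem_H.2 (Subgroup.mem_normalizer_iff.mpr fun y => by
    conv_rhs => rw [← heq, mem_cjS]
    simp [mul_assoc])
  set h := g * (n : G)⁻¹ with hh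
  have hhH : h ∈ H := by simpa [hh] using inv_mem hnH
  have hb'eq : eb N b' = cjA h (eb N d) := by
    conv_lhs => rw [hg]
    conv_rhs => rw [hh, cjA_mul, invBy_iff.mp (invBy_eb_self N d) _ (inv_mem n.2)]
  have hiff : ∀ y, y ∈ L ↔ h * y * h⁻¹ ∈ L := by
    intro y
    rw [S.hL, Subgroup.mem_inf, Subgroup.mem_inf]
    refine and_congr ⟨fun hy => mul_mem (mul_mem hhH hy) (inv_mem hhH), fun hy => ?_⟩
      (BlockTheoryMeet.conj_mem_iff N h y)
    simpa [mul_assoc] using mul_mem (mul_mem (inv_mem hhH) hy) hhH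
  set τ := conjEquiv h L L hiff
  have hsm := small_agree S hM hd he heQ hed
  have hval : omega (ξ : L → ℂ) (res L (cut Q (eb N b'))) =
      omega ((pushChar τ).symm ξ : L → ℂ) (res L (cut Q (eb N d))) := by
    refine (omega_comp_equiv τ (fun a => ?_) (ξ : L → ℂ)).trans rfl
    rw [coeff_res, coeff_res, hb'eq, S.cut_cjA hhH, coeff_cjA]
    congr 1
    show h⁻¹ * (h * (a : G) * h⁻¹) * h = a
    group
  set η := (pushChar τ).symm ξ
  have h3 := omega_ideal_of_small hM η ((isCen_res_of_invBy (S.invBy_cut S.L_le_H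
    (invBy_mono S.L_le_N (invBy_eb_self N d)))).sub (isCen_idem e)) hsm
  rw [map_sub, omega_idem] at h3
  have hη : η ∈ e := by
    by_contra hn'
    rw [if_neg hn', sub_zero] at h3
    refine hb'ne ?_
    rw [hval]
    exact h3
  refine ⟨η, hη, h, hhH, fun a y hay => ?_⟩
  show (ξ : L → ℂ) (τ y) = _
  exact congrArg (ξ : L → ℂ) (Subtype.ext hay.symm)

end Agree

section OverH

variable [Fintype N] [Fintype L] [Fintype H] [hN : N.Normal]

/-- A character of `H` lies over `e`. -/
def Over (hLH : L ≤ H) (e : Set (IrrCharacter L)) (ψ : IrrCharacter H) : Prop :=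
  ∃ ξ ∈ e, classInner (fun l : L => (ψ : H → ℂ) (Subgroup.inclusion hLH l)) (ξ : L → ℂ) ≠ 0

theorem classInner_conj (hLH : L ≤ H) (ψ : IrrCharacter H) {ξ η : IrrCharacter L} {h : G}
    (hh : h ∈ H) (hiff : ∀ y, y ∈ L ↔ h * y * h⁻¹ ∈ L)
    (he : ∀ x y : L, (x : G) = h * y * h⁻¹ → (η : L → ℂ) y = (ξ : L → ℂ) x) :
    classInner (fun l : L => (ψ : H → ℂ) (Subgroup.inclusion hLH l)) (η : L → ℂ) =
      classInner (fun l : L => (ψ : H → ℂ) (Subgroup.inclusion hLH l)) (ξ : L → ℂ) := by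
  rw [classInner, classInner]
  congr 1
  refine Fintype.sum_equiv (conjEquiv h L L hiff).toEquiv _ _ fun y => ?_
  rw [he (conjEquiv h L L hiff y) y rfl]
  congr 1
  exact (irr_classFun ψ (Subgroup.inclusion hLH y) ⟨h, hh⟩).symm.trans
    (congrArg _ (Subtype.ext rfl))

/-- The central character at the image of the orbit idempotent is read off on a constituent. -/
theorem omega_eq_constituent (S : Setting N H L Q p) (d : Set (IrrCharacter N))
    (ψ : IrrCharacter H) (ξ : IrrCharacter L)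
    (hm : classInner (fun l : L => (ψ : H → ℂ) (Subgroup.inclusion S.L_le_H l)) (ξ : L → ℂ) ≠ 0) :
    omega (ψ : H → ℂ) (res H (cut Q (orbit d))) =
      omega (ξ : L → ℂ) (res L (cut Q (orbit d))) := by
  set ι := Subgroup.inclusion S.L_le_H
  have hιinj : Function.Injective ι := Subgroup.inclusion_injective S.L_le_H
  set U := res L (cut Q (orbit d))
  set UH := res H (cut Q (orbit d))
  have hUH : UH = MonoidAlgebra.mapDomainRingHom ℂ ι U := by
    refine MonoidAlgebra.ext ?_
    ext x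
    show _ = (Finsupp.mapDomain ι U.coeff) x
    by_cases hx : (x : G) ∈ L
    · rw [show x = ι ⟨x, hx⟩ from Subtype.ext rfl, Finsupp.mapDomain_apply hιinj]
      rfl
    · rw [Finsupp.mapDomain_notin_range _ x fun ⟨l, hl⟩ => hx (hl ▸ l.2)]
      show (cut Q (orbit d)).coeff (x : G) = 0
      rw [coeff_cut]
      split_ifs with hc
      · exact liftIdem_supp N _ _ fun hn => hx (S.mem_L x.2 hn)
      · rfl
  have hUc : IsCen U :=
    isCen_res_of_invBy (S.invBy_cut S.L_le_H (IsCen.invBy (isCen_orbit d) L))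
  have hUHc : IsCen UH :=
    isCen_res_of_invBy (S.invBy_cut le_rfl (IsCen.invBy (isCen_orbit d) H))
  have hf : IsCharacter L (fun l : L => (ψ : H → ℂ) (ι l)) :=
    CharBasic.isCharacter_comap ι (CharBasic.isCharacter_of_isIrrCharacter ψ.2)
  set m := classInner (fun l : L => (ψ : H → ℂ) (ι l)) (ξ : L → ℂ)
  have h1 : ∀ V : MonoidAlgebra ℂ L, IsCen V →
      chiSum (ψ : H → ℂ) (MonoidAlgebra.mapDomainRingHom ℂ ι (V * idem {ξ})) =
        m * (omega (ξ : L → ℂ) V * (ξ : L → ℂ) 1) := by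
    intro V hV
    rw [FongReynolds78.chiSum_mapDomain ι hιinj, FongReynolds78.chiSum_eq_sum_constituents hf,
      Finset.sum_eq_single ξ]
    · rw [chiSum_mul ξ hV, FongReynolds78.chiSum_idem_self, if_pos (Set.mem_singleton ξ)]
    · intro η _ hη
      rw [chiSum_mul η hV, FongReynolds78.chiSum_idem_self, if_neg (by simpa using hη), mul_zero,
        mul_zero]
    · simp
  have h2 := h1 1 isCen_one
  rw [one_mul, omega_one, one_mul] at h2
  have h3 := chiSum_mul ψ hUHc (MonoidAlgebra.mapDomainRingHom ℂ ι (idem {ξ}))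
  rw [h2, hUH, ← map_mul, h1 U hUc, ← hUH] at h3
  have h4 := irr_one_ne_zero ξ
  apply mul_left_cancel₀ (mul_ne_zero hm h4)
  linear_combination -h3

theorem omega_of_over (S : Setting N H L Q p) (hM : IsPModular p M) {d : Set (IrrCharacter N)}
    (hd : IsPBlock M d) {e : Set (IrrCharacter L)} (he : IsPBlock M e)
    (hed : IsInducedBlockIn M N L e d) {ψ : IrrCharacter H} (hψ : Over S.L_le_H e ψ) :
    MemLocalIdeal M (omega (ψ : H → ℂ) (res H (cut Q (orbit d))) - 1) := by
  obtain ⟨ξ, hξ, hm⟩ := hψ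
  rw [omega_eq_constituent S d ψ ξ hm]
  exact omega_orbit_of_mem S hM hd he hed hξ

theorem over_of_omega (S : Setting N H L Q p) (hM : IsPModular p M) {d : Set (IrrCharacter N)}
    (hd : IsPBlock M d) (hdQ : IsDefectGroup p M d (Q.subgroupOf N)) {e : Set (IrrCharacter L)}
    (he : IsPBlock M e) (heQ : IsDefectGroup p M e (Q.subgroupOf L))
    (hed : IsInducedBlockIn M N L e d) {ψ : IrrCharacter H}
    (h : ¬ MemLocalIdeal M (omega (ψ : H → ℂ) (res H (cut Q (orbit d))))) :
    Over S.L_le_H e ψ := by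
  obtain ⟨ξ, hξ⟩ := exists_constituent (G := L)
    (f := fun l : L => (ψ : H → ℂ) (Subgroup.inclusion S.L_le_H l))
    (CharBasic.isCharacter_comap _ (CharBasic.isCharacter_of_isIrrCharacter ψ.2))
    (by rw [map_one]; exact irr_one_ne_zero ψ)
  rw [omega_eq_constituent S d ψ ξ hξ] at h
  obtain ⟨η, hη, g, hg, hconj⟩ := exists_conj_mem S hM hd hdQ he heQ hed h
  refine ⟨η, hη, ?_⟩
  rw [classInner_conj S.L_le_H ψ hg (fun y => ?_) hconj]
  · exact hξ
  rw [S.hL, Subgroup.mem_inf, Subgroup.mem_inf]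
  refine and_congr ⟨fun hy => mul_mem (mul_mem hg hy) (inv_mem hg), fun hy => ?_⟩
    (BlockTheoryMeet.conj_mem_iff N g y)
  simpa [mul_assoc] using mul_mem (mul_mem (inv_mem hg) hy) hg

/-- The value at the orbit idempotent of the induced block. -/
theorem omega_induced (S : Setting N H L Q p) (hM : IsPModular p M) {d : Set (IrrCharacter N)}
    (hd : IsPBlock M d) {c : Set (IrrCharacter H)} {B : Set (IrrCharacter G)}
    (hind : IsInducedBlock M H c B) {ψ : IrrCharacter H} (hψ : ψ ∈ c) {χ : IrrCharacter G}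
    (hχ : χ ∈ B) :
    MemLocalIdeal M (omega (ψ : H → ℂ) (res H (cut Q (orbit d))) -
      omega (χ : G → ℂ) (orbit d)) := by
  have h1 := inducedBlock_congr H hM hind hψ hχ (isCen_orbit d) (isInt_orbit hM hd)
  have h2 := omega_res_sub_br H hM S.pgroup S.Q_le_H S.H_le_norm ψ (isCen_orbit d)
    (isInt_orbit hM hd)
  have := ideal_sub hM h1 h2
  convert this using 1
  ring

/-- A block over `e` induces exactly one block, and it lies over `d`. -/
theorem exists_up (S : Setting N H L Q p) (hM : IsPModular p M) {d : Set (IrrCharacter N)}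
    (hd : IsPBlock M d) {e : Set (IrrCharacter L)} (he : IsPBlock M e)
    (hed : IsInducedBlockIn M N L e d) {c : Set (IrrCharacter H)} (hc : IsPBlock M c)
    (hcov : ∃ ψ ∈ c, Over S.L_le_H e ψ) :
    ∃ B, IsInducedBlock M H c B ∧
      ∃ χ ∈ B, ∃ θ ∈ d, classInner (fun n : N => (χ : G → ℂ) n) (θ : N → ℂ) ≠ 0 := by
  obtain ⟨B, hind⟩ := inducedBlockDefined H hM S.pgroup S.Q_le_H S.cen_le_H S.H_le_norm hc
  refine ⟨B, hind, ?_⟩
  obtain ⟨χ, hχ⟩ := block_nonempty hM hind.2.1
  obtain ⟨ψ, hψ, hov⟩ := hcov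
  obtain ⟨φ, hφ⟩ := exists_constituent (G := N) (f := fun n : N => (χ : G → ℂ) n)
    (CharInduced.isCharacter_res N (CharBasic.isCharacter_of_isIrrCharacter χ.2))
    (irr_one_ne_zero χ)
  refine ⟨χ, hχ, exists_constituent_mem N hφ ?_⟩
  by_contra hn
  have h1 := omega_induced S hM hd hind hψ hχ
  rw [orbit, omega_lift N χ hφ, if_neg hn, sub_zero] at h1
  have h2 := omega_of_over S hM hd he hed hov
  exact one_not_ideal hM (by simpa [orbit] using ideal_sub hM h1 h2)

/-- The facts forced by defect theory on a block of `H` inducing a block over `d`. -/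
theorem exists_defect (S : Setting N H L Q p) (hM : IsPModular p M) {d : Set (IrrCharacter N)}
    (hd : IsPBlock M d) (hdQ : IsDefectGroup p M d (Q.subgroupOf N))
    {B : Set (IrrCharacter G)}
    (hcov : ∃ χ ∈ B, ∃ θ ∈ d, classInner (fun n : N => (χ : G → ℂ) n) (θ : N → ℂ) ≠ 0)
    {c : Set (IrrCharacter H)} (hind : IsInducedBlock M H c B) :
    ∃ D : Subgroup G, D ≤ H ∧ IsPGroup p D ∧ D ⊓ N = Q ∧ Subgroup.normalizer (D : Set G) ≤ H ∧
      IsDefectGroup p M c (D.subgroupOf H) := by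
  obtain ⟨E, hE⟩ := exists_defectGroup (p := p) hM hind.1
  haveI : (Q.subgroupOf H).Normal := Subgroup.normal_subgroupOf_of_le_normalizer S.H_le_norm
  have hQE : Q.subgroupOf H ≤ E :=
    normal_le_defectGroup hM hind.1 hE _ S.pgroup.comap_subtype
  set D := E.map H.subtype
  have hDH : D ≤ H := Subgroup.map_subtype_le _
  have hQD : Q ≤ D := fun u hu =>
    ⟨⟨u, S.Q_le_H hu⟩, hQE (Subgroup.mem_subgroupOf.mpr hu), rfl⟩
  obtain ⟨P, hP, hPN⟩ := BlockTheoryMeet.exists_defectGroup_inf_eq N hM hd S.le_N hdQ hind.2.1 hcov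
  obtain ⟨x, hx⟩ := inducedBlock_defect_le hM H hind hE hP
  have hinf : D ⊓ N = Q := by
    refine (Subgroup.eq_of_le_of_card_ge (le_inf hQD S.le_N) ?_).symm
    rw [← hPN, ← card_cjS x (D ⊓ N)]
    refine Subgroup.card_le_of_le (le_inf ((cjS_mono inf_le_left).trans hx) ?_)
    rintro _ ⟨u, hu, rfl⟩
    exact hN.conj_mem u hu.2 x
  refine ⟨D, hDH, (isPGroup_of_isDefectGroup hE).map _, hinf, ?_, ?_⟩
  · intro g hg
    refine S.mem_H.2 (Subgroup.mem_normalizer_iff.mpr fun u => ?_)
    rw [← hinf, Subgroup.mem_inf, Subgroup.mem_inf]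
    exact and_congr (Subgroup.mem_normalizer_iff.mp hg u) (BlockTheoryMeet.conj_mem_iff N g u)
  · rwa [show D.subgroupOf H = E from
      Subgroup.comap_map_eq_self_of_injective H.subtype_injective E]

/-- A block of `H` inducing `B` with defect group `D`, `N(D) ≤ H`: `B` has defect group `D` and
agrees on `C(D)`. -/
theorem congr_of_induced (hM : IsPModular p M) {B : Set (IrrCharacter G)}
    {c : Set (IrrCharacter H)} (hind : IsInducedBlock M H c B) {D : Subgroup G} (hDH : D ≤ H)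
    (hDp : IsPGroup p D) (hND : Subgroup.normalizer (D : Set G) ≤ H)
    (hD : IsDefectGroup p M c (D.subgroupOf H)) :
    IsDefectGroup p M B D ∧ ∀ x : G, x ∈ Subgroup.centralizer (D : Set G) →
      MemLocalIdeal M (blockCoeff B x - subgroupBlockCoeff H c x) := by
  have hc := hind.1
  have hB := hind.2.1
  have hC := BlockFirstMainOver.cen_le hND
  have hns : ¬ Small M (cut D (eb H c)) := fun hs => not_small_cut_defect hM hc hD fun z => by
    rw [coeff_cut]
    split_ifs with hz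
    · have hzP : (z : G) ∈ Cen D := Subgroup.mem_centralizer_iff.mpr fun a ha =>
        congrArg Subtype.val
          (Subgroup.mem_centralizer_iff.mp hz ⟨a, hDH ha⟩ (Subgroup.mem_subgroupOf.mpr ha))
      have h1 := hs z
      rwa [coeff_cut, if_pos hzP, coeff_eb_coe] at h1
    · exact ideal_zero hM
  obtain ⟨f, hfb, hfc⟩ := exists_occ_of_not_small hM hDp (invBy_mono hDH (invBy_eb_self H c))
    (invBy_mono hC (invBy_eb_self H c)) (isInt_eb hM hc) (eb_sq H c) hns
  obtain ⟨θ, hθ⟩ := block_nonempty hM hc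
  obtain ⟨χ, hχ⟩ := block_nonempty hM hB
  have h2 := inducedBlock_congr H hM hind hθ hχ (isCen_idem B) (isInt_idem hM hB)
  rw [omega_idem, if_pos hχ] at h2
  have hocc : Occ M D f (idem B) := fun ξ hξ => by
    have h1 := BlockFirstMainOver.phi_incl_eq_omega hM hDp hDH hND hc
      (isCen_res H (isCen_idem B)) (isInt_res H (isInt_idem hM hB)) hθ (hfc ξ hξ)
    have hval : phi D (incl H (res H (idem B))) ξ = phi D (idem B) ξ := by
      rw [phi, phi]
      congr 1
      refine MonoidAlgebra.ext ?_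
      ext x
      rw [coeff_res, coeff_res, show (x : G) = ((⟨x, hC x.2⟩ : H) : G) from rfl, coeff_incl_coe,
        coeff_res]
    rw [hval] at h1
    exact cast (congrArg (MemLocalIdeal M) (by ring)) (ideal_add hM h1 h2)
  have hpair : IsBrauerPairOf p M B D f := isBrauerPairOf_iff.mpr ⟨⟨hDp, hfb⟩, hB, hocc⟩
  have hmax := BlockFirstMainOver.maximal_of_occ hM hDH hND hpair hc hD hfc
  exact ⟨BrauerPairs81Max.isDefectGroup_of_maximal hM hmax,
    (BlockFirstMainOver.congr_iff (M := M) B c).mpr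
      (BlockFirstMainOver.small_of_shared hM hDp hDH hND hmax hc hfc)⟩

/-- Two blocks of `H` inducing the same block over `d` are equal. -/
theorem unique_down (S : Setting N H L Q p) (hM : IsPModular p M) {d : Set (IrrCharacter N)}
    (hd : IsPBlock M d) (hdQ : IsDefectGroup p M d (Q.subgroupOf N))
    {B : Set (IrrCharacter G)}
    (hcov : ∃ χ ∈ B, ∃ θ ∈ d, classInner (fun n : N => (χ : G → ℂ) n) (θ : N → ℂ) ≠ 0)
    {c₁ c₂ : Set (IrrCharacter H)} (h₁ : IsInducedBlock M H c₁ B)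
    (h₂ : IsInducedBlock M H c₂ B) : c₁ = c₂ := by
  obtain ⟨D₁, hD₁H, hD₁p, hD₁N, hN₁, hD₁⟩ := exists_defect S hM hd hdQ hcov h₁
  obtain ⟨D₂, hD₂H, hD₂p, hD₂N, hN₂, hD₂⟩ := exists_defect S hM hd hdQ hcov h₂
  obtain ⟨hB₁, hcg₁⟩ := congr_of_induced hM h₁ hD₁H hD₁p hN₁ hD₁
  obtain ⟨hB₂, -⟩ := congr_of_induced hM h₂ hD₂H hD₂p hN₂ hD₂
  obtain ⟨g, hg⟩ := defectGroup_conj hM h₁.2.1 hB₂ hB₁
  have hgH : g ∈ H := by
    refine S.mem_H.2 (Subgroup.mem_normalizer_iff.mpr fun u => ?_)
    conv_lhs => rw [← hD₂N]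
    conv_rhs => rw [← hD₁N, ← hg]
    rw [Subgroup.mem_inf, Subgroup.mem_inf,
      show D₂.map (MulAut.conj g).toMonoidHom = cjS g D₂ from rfl, mem_cjS]
    exact and_congr (by simp [mul_assoc]) (BlockTheoryMeet.conj_mem_iff N g u)
  have hD₂' : IsDefectGroup p M c₂ (D₁.subgroupOf H) := by
    have := isDefectGroup_map hD₂ ⟨g, hgH⟩
    convert this using 1
    ext u
    rw [Subgroup.mem_subgroupOf]
    conv_lhs => rw [← hg, show D₂.map (MulAut.conj g).toMonoidHom = cjS g D₂ from rfl, mem_cjS]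
    rw [show (D₂.subgroupOf H).map (MulAut.conj (⟨g, hgH⟩ : H)).toMonoidHom =
      cjS (⟨g, hgH⟩ : H) (D₂.subgroupOf H) from rfl, mem_cjS, Subgroup.mem_subgroupOf]
    rfl
  obtain ⟨-, hcg₂⟩ := congr_of_induced hM h₂ hD₁H hD₁p hN₁ hD₂'
  obtain ⟨c, -, huniq⟩ := BlockFirstMainOver.existsUnique_down hM hD₁p hN₁ h₁.2.1 hB₁
  rw [huniq c₁ ⟨h₁.1, hD₁, hcg₁⟩, huniq c₂ ⟨h₂.1, hD₂', hcg₂⟩]

/-- A block over `d` is induced by a block over `e`. -/
theorem exists_down (S : Setting N H L Q p) (hM : IsPModular p M) {d : Set (IrrCharacter N)}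
    (hd : IsPBlock M d) (hdQ : IsDefectGroup p M d (Q.subgroupOf N)) {e : Set (IrrCharacter L)}
    (he : IsPBlock M e) (heQ : IsDefectGroup p M e (Q.subgroupOf L))
    (hed : IsInducedBlockIn M N L e d) {B : Set (IrrCharacter G)} (hB : IsPBlock M B)
    (hcov : ∃ χ ∈ B, ∃ θ ∈ d, classInner (fun n : N => (χ : G → ℂ) n) (θ : N → ℂ) ≠ 0) :
    ∃ c, (IsPBlock M c ∧ ∃ ψ ∈ c, Over S.L_le_H e ψ) ∧ IsInducedBlock M H c B := by
  obtain ⟨c, hind⟩ := BlockTheoryFirstMain.exists_inducing hM hB S.pgroup H S.Q_le_H S.cen_le_H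
    S.H_le_norm
    (BlockTheoryMeet.not_small_cut_covered N hM hd S.le_N hdQ S.pgroup hB hcov)
  obtain ⟨ψ, hψ⟩ := block_nonempty hM hind.1
  obtain ⟨χ, hχ, θ, hθ, hm⟩ := hcov
  refine ⟨c, ⟨hind.1, ψ, hψ, over_of_omega S hM hd hdQ he heQ hed fun h => ?_⟩, hind⟩
  have h1 := omega_induced S hM hd hind hψ hχ
  rw [orbit, omega_lift N χ hm, if_pos (mem_orb_of_mem N hθ)] at h1
  exact one_not_ideal hM (by simpa [orbit] using ideal_sub hM h h1)

end OverH

end Cfsg.Agent.HarrisKnorr78
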