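import Cfsg.Agent.Lib.HeMult76Checks
import Cfsg.Agent.Lib.HeMult76P3Data

/-!
Checks of the certificate for the multiplier of He, part 3.
-/

set_option autoImplicit false
set_option maxRecDepth 100000

namespace Cfsg.Agent.HeMult76P3

open Cfsg.Agent.SplitVoltageCert Cfsg.Agent.HeMult76P3Data Cfsg.Agent.HeMult76Bound Cfsg.Agent.HeMult76Checks
open Cfsg.Agent.CosetCertCore (Tbl)

/-- The tables of the generators. -/
noncomputable def Ts : List Tbl := [t0, t1]

/-- The tables of their inverses. -/
noncomputable def Us : List Tbl := [u0, u1]

theorem cert_core : cert.Core where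
  hm := by decide +kernel
  hn := by decide +kernel
  hN := by decide +kernel
  hnpow := by decide +kernel
  hK := by decide +kernel
  table := by decide +kernel
  tree := by decide +kernel
  rel := by decide +kernel
  edge := by decide +kernel

theorem cert_ok : cert.OK where
  toCore := cert_core
  fin := by decide +kernel

theorem tables_check : tablesOK gensW Ts Us = true := by decide +kernel

theorem gens_check : gensOK cert gensW Ts Us ords = true := by decide +kernel

theorem fus_check : ((List.range cert.npow).all fun r => Nat.blt r cert.n ||
    (Nat.beq cert.m 2 && fusOK cert Ts Us r (fus.getD (r - cert.n) ([], [], [])))) = true := by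
  decide +kernel

theorem objs_check : objsOK cert Ts sz ptsT keyT = true := by decide +kernel

theorem inj_check : injOK cert.N keyT posT srtT = true := by decide +kernel

theorem coprime_check : Nat.Coprime (4030387200 / cert.N) cert.m := by decide +kernel

/-- Characters with values killed by 3 are trivial. -/
theorem bound {Γ : Type} [Group Γ] [Finite Γ] (σ : Γ →* G) (hσ : Cfsg.IsStemExtension σ)
    {A : Type} [CommGroup A] (hA : ∀ a : A, a ^ 3 = 1) (χ : σ.ker →* A) :
    ∀ z : σ.ker, χ z = 1 :=
  bound_checked cert cert_ok (by decide +kernel) gensW (by decide +kernel) Ts Us ords tables_check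
    gens_check fus fus_check objs_check inj_check
    (by rw [show Nat.card G = 4030387200 from CosetCertHeSimple.card_and_faithful.1]; exact coprime_check)
    σ hσ hA χ

end Cfsg.Agent.HeMult76P3
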