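import Cfsg.Agent.Lib.HeMult76P2
import Cfsg.Agent.Lib.HeMult76P3
import Cfsg.Agent.Lib.HeMult76P5
import Cfsg.Agent.Lib.HeMult76P7
import Cfsg.Prelude.Def_KGroupFacts

/-!
The multiplier of He is trivial.
-/

set_option autoImplicit false

namespace Cfsg.Agent.HeMult76

open Cfsg Cfsg.Agent.SplitVoltage Cfsg.Agent.HeMult76Checks

theorem ker_trivial {Γ : Type} [Group Γ] [Finite Γ] {σ : Γ →* G}
    (hσ : Cfsg.IsStemExtension σ) : Nat.card σ.ker = 1 := by
  by_contra hne
  obtain ⟨p, hp, hd⟩ := Nat.exists_prime_and_dvd hne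
  haveI := Fact.mk hp
  haveI : Finite G := CosetCertHeSimple.upper.1
  have hcardG : Nat.card G = 4030387200 := CosetCertHeSimple.card_and_faithful.1
  obtain ⟨M, hM⟩ := trivial_multiplier.exists_index_eq_prime hσ.2.1 hd
  haveI : M.Normal := by
    constructor
    intro a ha g
    have : g * a = a * g := Subtype.ext (Subgroup.mem_center_iff.1 (hσ.2.1 a.2) g)
    rwa [this, mul_inv_cancel_right]
  have hcard : Nat.card (σ.ker ⧸ M) = p := hM
  haveI : IsCyclic (σ.ker ⧸ M) := isCyclic_of_prime_card hcard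
  have hfalse : ∀ (A : Type) [CommGroup A] (χ : σ.ker →* A), χ.ker = M → (∀ z, χ z = 1) → False := by
    intro A _ χ hk hz
    have : M = ⊤ := by
      rw [← hk, eq_top_iff]
      exact fun z _ => hz z
    rw [this, Subgroup.index_top] at hM
    exact hp.one_lt.ne hM
  let e : σ.ker ⧸ M ≃* Multiplicative (ZMod p) := mulEquivOfCyclicCardEq (by simp [hcard])
  let χ : σ.ker →* Multiplicative (ZMod p) := e.toMonoidHom.comp (QuotientGroup.mk' M)
  have hk : χ.ker = M := by
    ext z
    simp [χ, MonoidHom.mem_ker]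
  have hA : ∀ a : Multiplicative (ZMod p), a ^ p = 1 := fun a =>
    Multiplicative.toAdd.injective (by simp)
  by_cases h2 : p = 2
  · subst h2; exact hfalse _ χ hk (HeMult76P2.bound σ hσ hA χ)
  by_cases h3 : p = 3
  · subst h3; exact hfalse _ χ hk (HeMult76P3.bound σ hσ hA χ)
  by_cases h5 : p = 5
  · subst h5; exact hfalse _ χ hk (HeMult76P5.bound σ hσ hA χ)
  by_cases h7 : p = 7
  · subst h7; exact hfalse _ χ hk (HeMult76P7.bound σ hσ hA χ)
  obtain ⟨z, hz⟩ := exists_prime_orderOf_dvd_card' (G := σ.ker) p hd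
  have hzo : orderOf (z : Γ) = p := (Subgroup.orderOf_coe z).trans hz
  by_cases hdvd : p ∣ Nat.card G
  · have h17 : p = 17 := by
      rw [hcardG, show (4030387200 : ℕ) = 2 ^ 10 * 3 ^ 3 * 5 ^ 2 * 7 ^ 3 * 17 by norm_num,
        hp.dvd_mul, hp.dvd_mul, hp.dvd_mul, hp.dvd_mul] at hdvd
      have hq : ∀ q k : ℕ, q.Prime → p ∣ q ^ k → p = q := fun q k hq h =>
        (Nat.prime_dvd_prime_iff_eq hp hq).1 (hp.dvd_of_dvd_pow h)
      rcases hdvd with (((h | h) | h) | h) | h
      · exact absurd (hq 2 10 Nat.prime_two h) h2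
      · exact absurd (hq 3 3 Nat.prime_three h) h3
      · exact absurd (hq 5 2 Nat.prime_five h) h5
      · exact absurd (hq 7 3 (by norm_num) h) h7
      · exact (Nat.prime_dvd_prime_iff_eq hp (by norm_num)).1 h
    obtain ⟨a, ha⟩ := exists_prime_orderOf_dvd_card' (G := G) p hdvd
    have hidx : (Subgroup.zpowers a).index = 237081600 := by
      have := (Subgroup.zpowers a).card_mul_index
      rw [Nat.card_zpowers, ha, hcardG, h17] at this
      omega
    have h1 := StemBasic.eq_one_of_kerFree hσ (StemBasic.kerFree_zpowers σ hσ.2.1 a) z.2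
      (by rw [hzo, hidx, h17]; norm_num)
    rw [h1, orderOf_one] at hzo
    exact hp.one_lt.ne hzo
  · obtain ⟨ψ, hψ⟩ := censplit_of_coprime ((Nat.Coprime.symm) ((hp.coprime_iff_not_dvd).2 hdvd))
      Γ σ hσ.1 hσ.2.1 χ
    exact hfalse _ χ hk fun w => by rw [← hψ w, eq_one_of_mem_commutator ψ (hσ.2.2 w.2)]

/-- The multiplier of He is trivial. -/
theorem multiplier_He : Cfsg.HasCyclicSchurMultiplier Cfsg.Spor.He 1 := by
  haveI : Finite G := CosetCertHeSimple.upper.1
  refine ⟨⟨G, inferInstance, inferInstance, MonoidHom.id G, ?_, ?_⟩, fun Γ _ _ σ hσ => ?_⟩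
  · exact ⟨Function.surjective_id,
      (show (MonoidHom.id G).ker ≤ Subgroup.center G from MonoidHom.ker_id.le.trans bot_le),
      (show (MonoidHom.id G).ker ≤ commutator G from MonoidHom.ker_id.le.trans bot_le)⟩
  · exact (⟨(MulEquiv.subgroupCongr (MonoidHom.ker_id : (MonoidHom.id G).ker = ⊥)).trans
      MulEquiv.ofUnique⟩ : Nonempty ((MonoidHom.id G).ker ≃* Multiplicative (ZMod 1)))
  · have h1 : Nat.card σ.ker = 1 := ker_trivial (σ := σ) hσ
    haveI : Subsingleton σ.ker := (Nat.card_eq_one_iff_unique.1 h1).1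
    exact ⟨1, fun z => ⟨1, Subsingleton.elim _ _⟩⟩

end Cfsg.Agent.HeMult76
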