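import Cfsg.Agent.Lib.HeMult76Bound
import Cfsg.Agent.Lib.CosetCertHeSimple

/-!
Checks for voltage certificates in the Held group acting on 2058 points.
-/

set_option autoImplicit false
set_option maxRecDepth 100000

namespace Cfsg.Agent.HeMult76Checks

open Cfsg.Agent.CosetCertCore (Tbl entry force force_eq val val_cons val_nil)
open Cfsg.Agent.CosetCertTable Cfsg.Agent.CosetCertPres
  Cfsg.Agent.SplitVoltage Cfsg.Agent.SplitVoltageCert Cfsg.Agent.HeMult76Bound
  Cfsg.Agent.VoltageFus76
open scoped Pointwise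

/-- The presented group. -/
abbrev G : Type := CosetCertHeHData.pres.Grp

/-- The table of the 2058 points. -/
noncomputable abbrev TH : Table := CosetCertHeHData.table

/-- The action. -/
noncomputable abbrev act : G →* Equiv.Perm (Fin TH.N) := rho CosetCertHeH.enumerated

/-- The element acting as a word read from left to right. -/
def elW (w : List ℕ) : G := val CosetCertHeHData.pres.gg w.reverse

/-- Two elements with the same action agree. -/
theorem act_inj : Function.Injective act := CosetCertHeSimple.card_and_faithful.2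

/-- `a` acts as the function `f`. -/
def Rep (f : ℕ → ℕ) (a : G) : Prop := ∀ j : Fin TH.N, (act a j : ℕ) = f j

theorem rep_one : Rep (fun j => j) 1 := fun j => by simp [map_one]

theorem rep_mul {f g : ℕ → ℕ} {a b : G} (ha : Rep f a) (hb : Rep g b) :
    Rep (fun j => f (g j)) (a * b) := fun j => by
  rw [map_mul, Equiv.Perm.mul_apply, ha, hb]

theorem rep_elW (w : List ℕ) (hw : ∀ x ∈ w, x < TH.NG) : Rep (fun j => TH.run w j) (elW w) := by
  induction w with
  | nil => intro j; simp [elW, val, map_one, Table.run_nil]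
  | cons x w ih =>
    intro j
    have hx := hw x List.mem_cons_self
    have hrw : elW (x :: w) = elW w * CosetCertHeHData.pres.gg x := by
      simp only [elW, List.reverse_cons, val_append, val_cons, val_nil, mul_one]
    rw [hrw, map_mul, Equiv.Perm.mul_apply, ih (fun y hy => hw y (List.mem_cons_of_mem _ hy))]
    show TH.run w _ = TH.run (x :: w) j
    rw [Table.run_cons, rho_gg _ x hx, perm_apply _ hx]

theorem eq_of_rep {f g : ℕ → ℕ} {a b : G} (ha : Rep f a) (hb : Rep g b)
    (h : ∀ j < TH.N, f j = g j) : a = b :=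
  act_inj <| Equiv.ext fun j => Fin.ext <| by rw [ha, hb, h j j.2]

/-- Two functions agree on all points. -/
noncomputable def sameOK (f g : ℕ → ℕ) : Bool :=
  allFrom (fun j => Nat.beq (f j) (g j)) TH.N 0

theorem same_spec {f g : ℕ → ℕ} (h : sameOK f g = true) : ∀ j < TH.N, f j = g j := fun j hj =>
  Nat.eq_of_beq_eq_true ((allFrom_iff _ _ _).1 h j (Nat.zero_le _) (by omega))

/-- The image under a table. -/
noncomputable def tabF (T : Tbl) (j : ℕ) : ℕ := entry T 12 j

/-- Check the tables of the generators against their words, and their inverse tables. -/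
noncomputable def tablesOK (ws : List (List ℕ)) (Ts Us : List Tbl) : Bool :=
  (List.range ws.length).all fun i =>
    (ws.getD i []).all (fun x => Nat.blt x TH.NG) &&
      sameOK (fun j => TH.run (ws.getD i []) j) (tabF (Ts.getD i (.leaf 0))) &&
      sameOK (fun j => tabF (Ts.getD i (.leaf 0)) (tabF (Us.getD i (.leaf 0)) j)) (fun j => j) &&
      allFrom (fun j => Nat.blt (tabF (Us.getD i (.leaf 0)) j) TH.N) TH.N 0

/-- The generators. -/
def gens (ws : List (List ℕ)) (i : ℕ) : G := elW (ws.getD i [])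

theorem rep_gens {ws : List (List ℕ)} {Ts Us : List Tbl} (h : tablesOK ws Ts Us = true) {i : ℕ}
    (hi : i < ws.length) :
    Rep (tabF (Ts.getD i (.leaf 0))) (gens ws i) ∧
      Rep (tabF (Us.getD i (.leaf 0))) (gens ws i)⁻¹ := by
  simp only [tablesOK, List.all_eq_true, List.mem_range, Bool.and_eq_true, Nat.blt_eq] at h
  obtain ⟨⟨⟨h1, h2⟩, h3⟩, h4⟩ := h i hi
  have hT : Rep (tabF (Ts.getD i (.leaf 0))) (gens ws i) := fun j => by
    rw [gens, rep_elW _ h1 j]; exact same_spec h2 j j.2
  refine ⟨hT, fun j => ?_⟩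
  have hu : tabF (Us.getD i (.leaf 0)) j < TH.N :=
    Nat.blt_eq ▸ (allFrom_iff _ _ _).1 h4 j (Nat.zero_le _) (by omega)
  have h5 : act (gens ws i) ⟨_, hu⟩ = j := Fin.ext (by rw [hT]; exact same_spec h3 j j.2)
  have h6 : act (gens ws i)⁻¹ j = ⟨_, hu⟩ := by
    rw [map_inv, Equiv.Perm.inv_eq_iff_eq]; exact h5.symm
  rw [h6]

/-- The function of a word. -/
noncomputable def wfun (Ts Us : List Tbl) (l : List (ℕ × Bool)) : ℕ → ℕ :=
  List.rec (motive := fun _ => ℕ → ℕ) (fun j => j)
    (fun t _ ih j => force (tabF ((cond t.2 Ts Us).getD t.1 (.leaf 0)) j) ih) l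

theorem rep_word {ws : List (List ℕ)} {Ts Us : List Tbl} (h : tablesOK ws Ts Us = true) :
    ∀ l : List (ℕ × Bool), (∀ t ∈ l, t.1 < ws.length) →
      Rep (wfun Ts Us l) (wprod (gens ws) l)
  | [], _ => rep_one
  | (i, b) :: l, hl => by
    intro j
    obtain ⟨h1, h2⟩ := rep_gens h (hl (i, b) List.mem_cons_self)
    have h3 := rep_word h l fun t ht => hl t (List.mem_cons_of_mem _ ht)
    cases b with
    | true =>
      simp only [wprod, if_true]
      rw [rep_mul h3 h1 j]
      simp only [wfun, force_eq, cond_true]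
    | false =>
      simp only [wprod, Bool.false_eq_true, if_false]
      rw [rep_mul h3 h2 j]
      simp only [wfun, force_eq, cond_false]

/-- The checks of generators and relations. -/
noncomputable def gensOK (C : Cert) (ws : List (List ℕ)) (Ts Us : List Tbl) (ords : List ℕ) :
    Bool :=
  decide (ws.length = C.n) && (List.range C.n).all (fun i =>
    decide (0 < ords.getD i 0) && decide (Nat.gcd (ords.getD i 0) C.m = 1) &&
    (C.rels.getD i [] == List.replicate (ords.getD i 0) (i, true)) &&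
    (List.range (ords.getD i 0)).all fun k => Nat.beq k 0 ||
      !sameOK (wfun Ts Us (List.replicate k (i, true))) (fun j => j)) &&
  C.rels.all fun l => sameOK (wfun Ts Us l) (fun j => j)

theorem gens_spec (C : Cert) (h : C.Core) (ws : List (List ℕ)) (Ts Us : List Tbl) (ords : List ℕ)
    (ht : tablesOK ws Ts Us = true) (hchk : gensOK C ws Ts Us ords = true) :
    (∀ i < C.n, orderOf (gens ws i) = ords.getD i 0 ∧ Nat.Coprime (ords.getD i 0) C.m ∧
      C.rels.getD i [] = List.replicate (ords.getD i 0) (i, true)) ∧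
    ∀ l ∈ C.rels, wprod (gens ws) l = 1 := by
  simp only [gensOK, Bool.and_eq_true, List.all_eq_true, List.mem_range, decide_eq_true_eq,
    beq_iff_eq, Bool.or_eq_true, Bool.not_eq_true'] at hchk
  obtain ⟨⟨hn, hg⟩, hr⟩ := hchk
  have hrel : ∀ l ∈ C.rels, wprod (gens ws) l = 1 := fun l hl =>
    eq_of_rep (rep_word ht l (hn ▸ (Cert.rel_spec h hl).1)) rep_one (same_spec (hr l hl))
  refine ⟨fun i hi => ⟨?_, (hg i hi).1.1.2, (hg i hi).1.2⟩, hrel⟩
  have hl : C.rels.getD i [] ∈ C.rels := by
    have hlt : i < C.rels.length := by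
      by_contra hlt
      have h0 := (hg i hi).1.2
      rw [List.getD_eq_default _ _ (not_lt.1 hlt)] at h0
      have := congrArg List.length h0
      have := (hg i hi).1.1.1
      simp at *; omega
    rw [List.getD_eq_getElem (hn := hlt)]; exact List.getElem_mem _
  have h1 := hrel _ hl
  rw [(hg i hi).1.2, wprod_replicate] at h1
  rw [orderOf_eq_iff (hg i hi).1.1.1]
  refine ⟨h1, fun k hk hk0 he => ?_⟩
  rcases (hg i hi).2 k hk with h0 | h0
  · exact hk0.ne' (Nat.eq_of_beq_eq_true h0)
  · have hrep := rep_word ht (List.replicate k (i, true)) fun t ht' => by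
      rw [List.eq_of_mem_replicate ht', hn]; exact hi
    rw [wprod_replicate, he] at hrep
    have : sameOK (wfun Ts Us (List.replicate k (i, true))) (fun j => j) = true :=
      (allFrom_iff _ _ _).2 fun j _ hj => by
        have := hrep ⟨j, by omega⟩
        rw [map_one, Equiv.Perm.one_apply] at this
        rw [Nat.beq_eq]; exact this.symm
    exact Bool.false_ne_true (h0.symm.trans this)

/-- The check of a fusion relation at position `r`. -/
noncomputable def fusOK (C : Cert) (Ts Us : List Tbl) (r : ℕ)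
    (t : List (ℕ × Bool) × List (ℕ × Bool) × List ℕ) : Bool :=
  (C.rels.getD r [] == t.1 ++ t.1 ++ winv (t.2.1 ++ t.2.1)) &&
    t.1.all (fun p => Nat.blt p.1 C.n) && t.2.1.all (fun p => Nat.blt p.1 C.n) &&
    t.2.2.all (fun x => Nat.blt x TH.NG) &&
    sameOK (fun j => wfun Ts Us t.1 (wfun Ts Us t.1 j)) (fun j => j) &&
    sameOK (fun j => TH.run t.2.2 (wfun Ts Us t.1 j)) (fun j => wfun Ts Us t.2.1 (TH.run t.2.2 j))

theorem fus_spec (C : Cert) (ws : List (List ℕ)) (hn : ws.length = C.n) (Ts Us : List Tbl)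
    (ht : tablesOK ws Ts Us = true) (r : ℕ) (t : List (ℕ × Bool) × List (ℕ × Bool) × List ℕ)
    (h : fusOK C Ts Us r t = true) :
    ∃ (w w' : List (ℕ × Bool)) (g : G),
      C.rels.getD r [] = w ++ w ++ winv (w' ++ w') ∧
      wprod (gens ws) w * wprod (gens ws) w = 1 ∧
      g * wprod (gens ws) w * g⁻¹ = wprod (gens ws) w' := by
  simp only [fusOK, Bool.and_eq_true, List.all_eq_true, beq_iff_eq, Nat.blt_eq] at h
  obtain ⟨⟨⟨⟨⟨h1, h2⟩, h3⟩, h4⟩, h5⟩, h6⟩ := h
  have hw := rep_word ht t.1 (hn ▸ h2)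
  have hw' := rep_word ht t.2.1 (hn ▸ h3)
  refine ⟨t.1, t.2.1, elW t.2.2, h1, eq_of_rep (rep_mul hw hw) rep_one (same_spec h5), ?_⟩
  rw [mul_inv_eq_iff_eq_mul]
  exact eq_of_rep (rep_mul (rep_elW _ h4) hw) (rep_mul hw' (rep_elW _ h4)) (same_spec h6)

/-! ### sets of points as bit masks -/

/-- Sets of points. -/
structure PSet where
  /-- the points -/
  val : Set (Fin TH.N)

noncomputable instance instPSetAct : MulAction G PSet where
  smul a s := ⟨act a '' s.val⟩
  one_smul s := by
    show PSet.mk _ = s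
    simp
  mul_smul a b s := by
    show PSet.mk _ = PSet.mk _
    rw [map_mul, Equiv.Perm.coe_mul, Set.image_comp]
    rfl

/-- The mask of the images of a list of points. -/
noncomputable def maskOf (f : ℕ → ℕ) (l : List ℕ) : ℕ :=
  List.rec (motive := fun _ => ℕ) 0 (fun a _ ih => Nat.lor (Nat.shiftLeft 1 (f a)) ih) l

theorem testBit_maskOf (f : ℕ → ℕ) (i : ℕ) :
    ∀ l : List ℕ, (maskOf f l).testBit i = true ↔ ∃ a ∈ l, f a = i
  | [] => by simp [maskOf]
  | a :: l => by
    have h := testBit_maskOf f i l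
    show (Nat.lor (Nat.shiftLeft 1 (f a)) (maskOf f l)).testBit i = true ↔ _
    change ((1 <<< f a) ||| maskOf f l).testBit i = true ↔ _
    rw [Nat.testBit_lor, Bool.or_eq_true, h, Nat.one_shiftLeft, Nat.testBit_two_pow,
      decide_eq_true_eq]
    simp

/-- The points of object `c`: `sz` numbers of 12 bits. -/
noncomputable def ptsOf (sz : ℕ) (P : Tr) (c : ℕ) : List ℕ :=
  (List.range sz).map fun k => Nat.land (Nat.shiftRight (get P c) (12 * k)) 4095

/-- The objects. -/
noncomputable def obj (sz : ℕ) (P : Tr) (c : ℕ) : PSet :=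
  ⟨{j | ∃ a ∈ ptsOf sz P c, a = (j : ℕ)}⟩

/-- The checks of the objects. -/
noncomputable def objsOK (C : Cert) (Ts : List Tbl) (sz : ℕ) (P key : Tr) : Bool :=
  (List.range C.N).all fun c =>
    (ptsOf sz P c).all (fun a => Nat.blt a TH.N) &&
      Nat.beq (maskOf (fun a => a) (ptsOf sz P c)) (get key c) &&
      (List.range C.n).all fun i =>
        Nat.beq (maskOf (tabF (Ts.getD i (.leaf 0))) (ptsOf sz P c)) (get key (C.nxF i c))

theorem objs_spec (C : Cert) (h : C.Core) {ws : List (List ℕ)} (hn : ws.length = C.n)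
    {Ts Us : List Tbl} (ht : tablesOK ws Ts Us = true) {sz : ℕ} {P key pos srt : Tr}
    (hchk : objsOK C Ts sz P key = true) (hinj : injOK C.N key pos srt = true) :
    (∀ c < C.N, ∀ d < C.N, obj sz P c = obj sz P d → c = d) ∧
      ∀ i < C.n, ∀ c < C.N, gens ws i • obj sz P c = obj sz P (C.nxF i c) := by
  simp only [objsOK, List.all_eq_true, List.mem_range, Bool.and_eq_true, Nat.blt_eq,
    Nat.beq_eq] at hchk
  have hmem : ∀ c < C.N, ∀ j : Fin TH.N, j ∈ (obj sz P c).val ↔ (get key c).testBit j = true := by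
    intro c hc j
    rw [← (hchk c hc).1.2, testBit_maskOf]
    rfl
  have hbig : ∀ c < C.N, ∀ i, TH.N ≤ i → (get key c).testBit i = false := by
    intro c hc i hi
    rw [← Bool.not_eq_true, ← (hchk c hc).1.2, testBit_maskOf]
    rintro ⟨a, ha, rfl⟩
    have := (hchk c hc).1.1 a ha
    omega
  refine ⟨fun c hc d hd e => inj_of_injOK hinj hc hd ?_, fun i hi c hc => ?_⟩
  · refine Nat.eq_of_testBit_eq fun j => ?_
    rcases Nat.lt_or_ge j TH.N with hj | hj
    · rw [Bool.eq_iff_iff, ← hmem c hc ⟨j, hj⟩, ← hmem d hd ⟨j, hj⟩, e]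
    · rw [hbig c hc j hj, hbig d hd j hj]
  · have hd : C.nxF i c < C.N := (Cert.nxF_lt h hi hc).1
    have hrep := (rep_gens ht (hn ▸ hi)).1
    have key2 := (hchk c hc).2 i hi
    show PSet.mk _ = PSet.mk _
    congr 1
    ext j
    refine Iff.trans ?_ (hmem _ hd j).symm
    rw [← key2, testBit_maskOf]
    constructor
    · rintro ⟨k, ⟨a, ha, hak⟩, rfl⟩
      exact ⟨a, ha, by rw [hak, hrep]⟩
    · rintro ⟨a, ha, haj⟩
      exact ⟨⟨a, (hchk c hc).1.1 a ha⟩, ⟨a, ha, rfl⟩, Fin.ext (by rw [hrep]; exact haj)⟩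

/-- The combined bound from the checks. -/
theorem bound_checked (C : Cert) (h : C.OK) (hnp : C.n ≤ C.npow) (ws : List (List ℕ))
    (hn : ws.length = C.n) (Ts Us : List Tbl) (ords : List ℕ)
    (ht : tablesOK ws Ts Us = true) (hg : gensOK C ws Ts Us ords = true)
    (F : List (List (ℕ × Bool) × List (ℕ × Bool) × List ℕ))
    (hF : ((List.range C.npow).all fun r => Nat.blt r C.n ||
      (Nat.beq C.m 2 && fusOK C Ts Us r (F.getD (r - C.n) ([], [], [])))) = true)
    {sz : ℕ} {P key pos srt : Tr} (ho : objsOK C Ts sz P key = true)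
    (hinj : injOK C.N key pos srt = true)
    (hcop : Nat.Coprime (Nat.card G / C.N) C.m)
    {Γ : Type} [Group Γ] [Finite Γ] (σ : Γ →* G) (hσ : Cfsg.IsStemExtension σ)
    {A : Type} [CommGroup A] (hA : ∀ a : A, a ^ C.m = 1) (χ : σ.ker →* A) :
    ∀ z : σ.ker, χ z = 1 := by
  haveI : Finite G := CosetCertHeSimple.upper.1
  obtain ⟨h1, h2⟩ := gens_spec C h.toCore ws Ts Us ords ht hg
  obtain ⟨h3, h4⟩ := objs_spec C h.toCore hn ht ho hinj
  obtain ⟨u, hu, hz⟩ := bound_fus C h.toCore hnp (gens ws) ords h1 h2 (obj sz P) h3 h4 hcop hA 1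
    (fun r hr hrn => by
      have := List.all_eq_true.1 hF r (List.mem_range.2 hr)
      simp only [Bool.or_eq_true, Bool.and_eq_true, Nat.blt_eq, Nat.beq_eq] at this
      rcases this with h' | ⟨hm, h'⟩
      · omega
      · exact ⟨hm, fus_spec C ws hn Ts Us ht r _ h'⟩)
    (fun v e a b c => ⟨0, by simp, fun i hi d hd => by
      rw [Cert.solution_zero h (A := Additive A)
        (fun a => Additive.toMul.injective (by rw [toMul_nsmul, toMul_zero]; exact hA a.toMul))
        v e a b c i hi d hd]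
      exact zero_mem _⟩) σ hσ χ
  intro z
  have := hz z
  rw [pow_one] at hu
  simpa [hu] using this

end Cfsg.Agent.HeMult76Checks
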