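import Cfsg.Agent.Lib.GolayOutGen

/-!
Normal forms of automorphisms of a group with a self-centralising element of prime Sylow order, and
the outer automorphism group under isomorphisms.
-/

set_option autoImplicit false

namespace Cfsg.Agent.LeechOutCrit

open Cfsg Cfsg.Agent.GolayOutGen

universe u v

variable {G : Type u} [Group G]

theorem rel_sign {ψ : MulAut G} {x y : G} {r : ℕ} (hψ : ψ x = x ∨ ψ x = x⁻¹)
    (hr : y * x = x ^ r * y) : ψ y * x = x ^ r * ψ y := by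
  have h := congrArg ψ hr
  rw [map_mul, map_mul, map_pow] at h
  rcases hψ with e | e
  · rwa [e] at h
  · rw [e, inv_pow] at h
    calc ψ y * x = x ^ r * ((x ^ r)⁻¹ * ψ y) * x := by group
      _ = x ^ r * (ψ y * x⁻¹) * x := by rw [h]
      _ = x ^ r * ψ y := by group

variable [Finite G] {p m : ℕ}

theorem exists_sign (hp : p.Prime) (hm : ¬ p ∣ m) (hG : Nat.card G = p * m) {x y : G}
    (hx : orderOf x = p) {r : ℕ} (hr : y * x = x ^ r * y)
    (hjs : ∀ j < p, 0 < j → ∃ k < p, (j * r ^ k) % p = 1 ∨ (j * r ^ k) % p = p - 1)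
    (φ : MulAut G) : ∃ ψ, Sim φ ψ ∧ (ψ x = x ∨ ψ x = x⁻¹) := by
  obtain ⟨ψ, hψ, j, hj, hj0, hjx⟩ := exists_sim_pow hp hm hG hx φ
  obtain ⟨k, -, hk⟩ := hjs j hj hj0
  obtain ⟨χ, hχ, hχx⟩ := sim_conj ψ (y ^ k)
  refine ⟨χ, sim_trans hψ hχ, ?_⟩
  have hyk : ∀ k : ℕ, ∀ i : ℕ, y ^ k * x ^ i * (y ^ k)⁻¹ = x ^ (i * r ^ k) := by
    intro k
    induction k with
    | zero => intro i; simp
    | succ k ih =>
      intro i
      have h1 : y * x ^ i * y⁻¹ = x ^ (i * r) := by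
        rw [(SemiconjBy.pow_right hr i : y * x ^ i = (x ^ r) ^ i * y), mul_inv_cancel_right,
          mul_comm i r, pow_mul]
      rw [pow_succ, show y ^ k * y * x ^ i * (y ^ k * y)⁻¹ = y ^ k * (y * x ^ i * y⁻¹) * (y ^ k)⁻¹ by
        group, h1, ih]
      congr 1
      ring
  have hxp : x ^ p = 1 := by rw [← hx]; exact pow_orderOf_eq_one x
  rw [hχx, hjx, hyk, pow_eq_pow_mod _ hxp]
  rcases hk with h | h
  · left; rw [h, pow_one]
  · right
    rw [h, eq_inv_iff_mul_eq_one, ← pow_succ, show p - 1 + 1 = p by have := hp.two_le; omega, hxp]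

/-- The images of three generators, up to inner automorphisms. -/
theorem normal_form (hp : p.Prime) (hm : ¬ p ∣ m) (hG : Nat.card G = p * m) {x y z : G}
    (hx : orderOf x = p) {r r' a : ℕ} (hr : y * x = x ^ r * y) (hr' : x * y = y * x ^ r')
    (ha : z * y = y ^ a * z)
    (hjs : ∀ j < p, 0 < j → ∃ k < p, (j * r ^ k) % p = 1 ∨ (j * r ^ k) % p = p - 1)
    (hks : ∀ k < p, ∃ j < p, (j * r' + k) % p = j)
    (hC : ∀ g : G, Commute g x → ∃ k : ℕ, g = x ^ k) (φ : MulAut G) :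
    ∃ ψ, Sim φ ψ ∧ (ψ x = x ∨ ψ x = x⁻¹) ∧ ψ y = y ∧ ∃ c, Commute c y ∧ ψ z = z * c := by
  obtain ⟨ψ, hψ, hs⟩ := exists_sign hp hm hG hx hr hjs φ
  have hrel := rel_sign hs hr
  have hu : Commute (y⁻¹ * ψ y) x := by
    show y⁻¹ * ψ y * x = x * (y⁻¹ * ψ y)
    calc y⁻¹ * ψ y * x = y⁻¹ * (x ^ r * ψ y) := by rw [mul_assoc, hrel]
      _ = y⁻¹ * (x ^ r * y) * (y⁻¹ * ψ y) := by group
      _ = x * (y⁻¹ * ψ y) := by rw [← hr, inv_mul_cancel_left]
  obtain ⟨k, hk⟩ := hC _ hu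
  have hxp : x ^ p = 1 := by rw [← hx]; exact pow_orderOf_eq_one x
  obtain ⟨j, -, hj⟩ := hks (k % p) (Nat.mod_lt _ hp.pos)
  obtain ⟨χ, hχ, hχe⟩ := sim_conj ψ (x ^ j)
  have hyx : ∀ j : ℕ, x ^ j * y = y * x ^ (j * r') := by
    intro j
    induction j with
    | zero => simp
    | succ j ih =>
      rw [pow_succ, mul_assoc, hr', ← mul_assoc, ih, mul_assoc, ← pow_add]
      congr 2
      ring
  have hy : χ y = y := by
    rw [hχe, show ψ y = y * x ^ k by rw [← hk, mul_inv_cancel_left], ← mul_assoc, hyx, mul_assoc,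
      mul_assoc, ← mul_assoc (x ^ (j * r')), ← pow_add, pow_eq_pow_mod (j * r' + k) hxp,
      show (j * r' + k) % p = j by rw [← Nat.add_mod_mod]; exact hj, mul_inv_cancel, mul_one]
  refine ⟨χ, sim_trans hψ hχ, ?_, hy, z⁻¹ * χ z, ?_, (mul_inv_cancel_left _ _).symm⟩
  · rcases hs with e | e <;> rw [hχe, e]
    · left; group
    · right; group
  · have h := congrArg χ ha
    rw [map_mul, map_mul, map_pow, hy] at h
    show z⁻¹ * χ z * y = y * (z⁻¹ * χ z)
    calc z⁻¹ * χ z * y = z⁻¹ * (y ^ a * χ z) := by rw [mul_assoc, h]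
      _ = z⁻¹ * (y ^ a * z) * (z⁻¹ * χ z) := by group
      _ = y * (z⁻¹ * χ z) := by rw [← ha, inv_mul_cancel_left]

omit [Finite G] in
/-- An isomorphism carries outer automorphism groups. -/
theorem card_out_congr {H : Type v} [Group H] (e : G ≃* H) : Nat.card (Out G) = Nat.card (Out H) := by
  refine Nat.card_congr (QuotientGroup.congr (Inn G) (Inn H) (MulAut.congr e) ?_).toEquiv
  ext φ
  constructor
  · rintro ⟨ψ, ⟨g, rfl⟩, rfl⟩
    exact ⟨e g, MulEquiv.ext fun x => by simp [MulAut.congr]⟩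
  · rintro ⟨h, rfl⟩
    exact ⟨MulAut.conj (e.symm h), ⟨_, rfl⟩, MulEquiv.ext fun x => by simp [MulAut.congr]⟩

end Cfsg.Agent.LeechOutCrit
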