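import Cfsg.Agent.Lib.HeOutChecks76
import Cfsg.Agent.Lib.LeechOutCrit

/-!
The outer automorphism group of He has order two.
-/

set_option autoImplicit false
set_option maxRecDepth 100000

namespace Cfsg.Agent.HeOut76

open Cfsg Cfsg.Agent.GolayOutGen
open Cfsg.Agent.CosetCertCore (Tbl entry)
open Cfsg.Agent.CosetCertTable Cfsg.Agent.CosetCertPres Cfsg.Agent.SplitVoltage Cfsg.Agent.SplitVoltageCert
  Cfsg.Agent.VoltageFus76 Cfsg.Agent.HeMult76Checks Cfsg.Agent.HeSift76 Cfsg.Agent.HeOutData76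
  Cfsg.Agent.HeOutChecks76 Cfsg.Agent.HeOutCentX76 Cfsg.Agent.HeOutCentT76

/-- The first generator. -/
noncomputable def X : G := el ws wx
/-- The second generator. -/
noncomputable def Y : G := el ws (base 1)
/-- The third generator. -/
noncomputable def Z : G := el ws (base 2)

theorem ws_len : ws.length = 25 := Nat.eq_of_beq_eq_true small.2.1

theorem el_single (i : ℕ) : el ws [(i, true)] = gens ws i := by simp [el, wprod]

theorem el_pow (i n : ℕ) : el ws (List.replicate n (i, true)) = el ws [(i, true)] ^ n := by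
  rw [el, wprod_replicate, ← el_single]

theorem el_nil : el ws [] = 1 := rfl

theorem el_one {w : List (ℕ × Bool)} (hw : ∀ t ∈ w, t.1 < ws.length)
    (h : sameOK (wfun Ts Us w) (fun j => j) = true) : el ws w = 1 :=
  el_eq tables hw (w := []) (by simp) h

theorem lt_of (w : List (ℕ × Bool)) (h : w.all (fun t => Nat.blt t.1 25) = true) :
    ∀ t ∈ w, t.1 < ws.length := by
  rw [ws_len]; simpa [List.all_eq_true] using h

theorem X_pow : X ^ 17 = 1 := by
  rw [X, wx, ← el_pow]
  exact el_one (lt_of _ (by decide +kernel)) small.2.2.2.2.2.2.1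

theorem X_ne_one : X ≠ 1 := fun h =>
  el_ne tables (v := wx) (w := []) (lt_of _ (by decide +kernel)) (by simp) small.2.2.2.2.2.2.2 h

theorem X_order : orderOf X = 17 := by
  haveI : Fact (Nat.Prime 17) := ⟨by norm_num⟩
  exact orderOf_eq_prime X_pow X_ne_one

theorem rel_yx : Y * X = X ^ 2 * Y := by
  have h := el_eq tables (lt_of _ (by decide +kernel)) (lt_of _ (by decide +kernel))
    small.2.2.2.1
  rw [el_app, el_app, el_app] at h
  rw [sq]
  exact h

theorem rel_xy : X * Y = Y * X ^ 9 := by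
  have h := el_eq tables (lt_of _ (by decide +kernel)) (lt_of _ (by decide +kernel))
    small.2.2.2.2.1
  rw [el_app, el_app, el_pow] at h
  exact h

theorem rel_zt : Z * el ws wt = el ws wt * Z := by
  have h := el_eq tables (lt_of _ (by decide +kernel)) (lt_of _ (by decide +kernel))
    small.2.2.2.2.2.1
  rw [el_app, el_app] at h
  exact h

theorem cent_X (g : G) (hg : Commute g X) : ∃ k : ℕ, g = X ^ k := by
  obtain ⟨h1, h2, h3, h4⟩ := x_side
  obtain ⟨k, hk, rfl⟩ := cent tables chain_x h1 h2 h3 h4 cent_x_check g hg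
  refine ⟨k, ?_⟩
  simp only [centX, List.length_map, List.length_range] at hk
  rw [show centX.getD k [] = List.replicate k (7, true) by simp [centX, List.getD, hk], el_pow]
  rfl

theorem cent_T (g : G) (hg : Commute g (el ws wt)) : ∃ k < 128, g = el ws (centT.getD k []) := by
  obtain ⟨h1, h2, h3, h4⟩ := t_side
  obtain ⟨k, hk, rfl⟩ := cent tables chain_t h1 h2 h3 h4 cent_t_check g hg
  exact ⟨k, Nat.eq_of_beq_eq_true small.1 ▸ hk, rfl⟩

theorem el_sub (f : ℕ → List (ℕ × Bool)) :
    ∀ l : List ℕ, el ws (sub f l) = wprod (fun i => el ws (f i)) (l.map fun i => (i, true))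
  | [] => rfl
  | i :: l => by
    rw [sub, List.flatMap_cons, el_app, List.map_cons, wprod, if_pos rfl]
    exact congrArg (· * _) (el_sub f l)

theorem closure_gens : Subgroup.closure ({X, Y, Z} : Set G) = ⊤ := by
  set K := Subgroup.closure ({X, Y, Z} : Set G)
  have h3 : ∀ i < 3, el ws [(7 + i, true)] ∈ K := by
    intro i hi
    interval_cases i <;> exact Subgroup.subset_closure (by simp [X, Y, Z, wx, base])
  have hmem : ∀ w : List (ℕ × Bool), (∀ t ∈ w, t.1 < 3) →
      el ws (w.map fun t => (7 + t.1, t.2)) ∈ K := by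
    intro w
    induction w with
    | nil => intro _; exact one_mem _
    | cons t w ih =>
      intro hw
      obtain ⟨i, b⟩ := t
      have hi : i < 3 := hw _ List.mem_cons_self
      rw [List.map_cons, ← List.singleton_append, el_app]
      refine mul_mem (ih fun t ht => hw t (List.mem_cons_of_mem _ ht)) ?_
      cases b
      · rw [show [(7 + i, false)] = winv [(7 + i, true)] from rfl, el_winv]
        exact inv_mem (h3 i hi)
      · exact h3 i hi
  have hchk := gen_check
  simp only [genOK, List.all_eq_true, List.mem_range, Bool.and_eq_true, Nat.blt_eq, beq_iff_eq] at hchk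
  rw [eq_top_iff, ← closure_gg CosetCertHeSimple.good]
  refine (Subgroup.closure_le _).2 ?_
  rintro _ ⟨j, hj, rfl⟩
  have hj7 : j < 7 := hj
  obtain ⟨⟨h1, h2⟩, h4⟩ := hchk j hj7
  have he := el_eq tables (w := [(j, true)]) (fun t ht => by
    obtain ⟨u, hu, rfl⟩ := List.mem_map.1 ht
    have := h1 u hu
    rw [ws_len]; omega) (by simp [ws_len]; omega) h2
  have hg : el ws [(j, true)] = CosetCertHeHData.pres.gg j := by
    rw [el_single, gens, h4, elW]
    simp [CosetCertCore.val]
  rw [SetLike.mem_coe, ← hg, ← he]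
  exact hmem _ h1

/-! ### The outer permutation -/

theorem pi_lt (j : ℕ) (hj : j < TH.N) : tabF piT j < TH.N ∧ tabF piU j < TH.N := by
  have h := pi_check
  simp only [piOK, Bool.and_eq_true] at h
  have := (allFrom_iff _ _ _).1 h.1.1.1.1.2 j (Nat.zero_le _) (by omega)
  simpa [Bool.and_eq_true, Nat.blt_eq] using this

/-- The outer permutation. -/
noncomputable def pi : Equiv.Perm (Fin TH.N) where
  toFun j := ⟨tabF piT j, (pi_lt j j.2).1⟩
  invFun j := ⟨tabF piU j, (pi_lt j j.2).2⟩
  left_inv j := Fin.ext (by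
    have h := pi_check
    simp only [piOK, Bool.and_eq_true] at h
    exact same_spec h.1.1.1.1.1.2 j j.2)
  right_inv j := Fin.ext (by
    have h := pi_check
    simp only [piOK, Bool.and_eq_true] at h
    exact same_spec h.1.1.1.1.1.1 j j.2)

theorem pi_apply (j : Fin TH.N) : (pi j : ℕ) = tabF piT j := rfl

theorem pi_gens (i : ℕ) (hi : i < 7) :
    pi * act (CosetCertHeHData.pres.gg i) = act (elW (piW.getD i [])) * pi := by
  have h := pi_check
  simp only [piOK, Bool.and_eq_true, List.all_eq_true, List.mem_range, Nat.blt_eq] at h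
  obtain ⟨h1, h2⟩ := h.1.1.1.2 i hi
  refine Equiv.ext fun j => Fin.ext ?_
  rw [Equiv.Perm.mul_apply, Equiv.Perm.mul_apply, rep_elW _ h1, pi_apply, pi_apply,
    show act (CosetCertHeHData.pres.gg i) = perm _ i from rho_gg CosetCertHeH.enumerated i hi,
    perm_apply _ hi]
  exact same_spec h2 j j.2

theorem pi_conj : act.range.map (MulAut.conj pi).toMonoidHom = act.range := by
  haveI : Finite G := CosetCertHeSimple.upper.1
  refine Subgroup.eq_of_le_of_card_ge ?_ (le_of_eq ?_)
  · rw [MonoidHom.range_eq_map, Subgroup.map_map, ← closure_gg CosetCertHeSimple.good,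
      MonoidHom.map_closure, Subgroup.closure_le]
    rintro _ ⟨_, ⟨i, hi, rfl⟩, rfl⟩
    refine ⟨elW (piW.getD i []), ?_, ?_⟩
    · rw [closure_gg CosetCertHeSimple.good]; exact Subgroup.mem_top _
    · show _ = pi * act _ * pi⁻¹
      rw [pi_gens i hi, mul_inv_cancel_right]
  · exact Nat.card_congr
      (Subgroup.equivMapOfInjective _ _ (MulAut.conj pi).injective).toEquiv

/-- The automorphism. -/
noncomputable def alpha : MulAut G :=
  ((MonoidHom.ofInjective act_inj).trans
    ((act.range.equivMapOfInjective _ (MulAut.conj pi).injective).trans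
      (MulEquiv.subgroupCongr pi_conj))).trans (MonoidHom.ofInjective act_inj).symm

theorem alpha_spec (g : G) : act (alpha g) = pi * act g * pi⁻¹ :=
  (congrArg Subtype.val ((MonoidHom.ofInjective act_inj).apply_symm_apply _)).trans rfl

theorem alpha_eq {u v : List (ℕ × Bool)} (hu : ∀ t ∈ u, t.1 < ws.length)
    (hv : ∀ t ∈ v, t.1 < ws.length)
    (h : sameOK (fun j => tabF piT (wfun Ts Us u j)) (fun j => wfun Ts Us v (tabF piT j)) = true) :
    alpha (el ws u) = el ws v := by
  refine act_inj ?_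
  rw [alpha_spec, mul_inv_eq_iff_eq_mul]
  refine Equiv.ext fun j => Fin.ext ?_
  rw [Equiv.Perm.mul_apply, Equiv.Perm.mul_apply, act_el tables hv, pi_apply, pi_apply, act_el tables hu]
  exact same_spec h j j.2

theorem alpha_vals : alpha X = X ^ 3 ∧ alpha Y = Y ∧ alpha Z = el ws (centT.getD 2 []) := by
  have h := pi_check
  simp only [piOK, Bool.and_eq_true] at h
  refine ⟨?_, ?_, ?_⟩
  · rw [X, wx, ← el_pow]
    exact alpha_eq (lt_of _ (by decide +kernel)) (lt_of _ (by decide +kernel)) h.1.1.2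
  · exact alpha_eq (lt_of _ (by decide +kernel)) (lt_of _ (by decide +kernel)) h.1.2
  · exact alpha_eq (lt_of _ (by decide +kernel)) (lt_of _ (by decide +kernel)) h.2

theorem alpha_outer : alpha ∉ Inn G := by
  rintro ⟨h, hh⟩
  have hx : h * X * h⁻¹ = X ^ 3 := by
    rw [← alpha_vals.1, ← hh]; rfl
  have hy : h * Y * h⁻¹ = Y := by
    nth_rw 2 [← alpha_vals.2.1]
    rw [← hh]; rfl
  have ht : Commute h (el ws wt) := by
    rw [show el ws wt = Y * Y from rfl]
    have hc : Commute h Y := mul_inv_eq_iff_eq_mul.1 hy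
    exact hc.mul_right hc
  obtain ⟨k, hk, rfl⟩ := cent_T h ht
  have hchk := inner_check
  simp only [innerOK, List.all_eq_true, List.mem_range, Bool.not_eq_true'] at hchk
  have hlt : k < centT.length := (Nat.eq_of_beq_eq_true small.1).symm ▸ hk
  have hck : ∀ t ∈ centT.getD k [], t.1 < ws.length := inRange_spec (List.all_eq_true.1 t_side.2.2.2 _
    (by rw [List.getD_eq_getElem (hn := hlt)]; exact List.getElem_mem _))
  refine el_ne tables ?_ ?_ (hchk k hlt) ?_
  · simp only [List.forall_mem_append]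
    exact ⟨lt_of _ (by decide +kernel), hck⟩
  · simp only [List.forall_mem_append]
    exact ⟨hck, lt_of _ (by decide +kernel)⟩
  · rw [el_app, el_app, el_pow]
    exact mul_inv_eq_iff_eq_mul.1 hx

/-- Normal form of an automorphism. -/
theorem normal (φ : MulAut G) : ∃ ψ, Sim φ ψ ∧ ∃ j, (j = 1 ∨ j = 3) ∧ ψ X = X ^ j ∧ ψ Y = Y := by
  haveI : Finite G := CosetCertHeSimple.upper.1
  obtain ⟨ψ, hψ, i, hi, hi0, hix⟩ := exists_sim_pow (p := 17) (m := 237081600) (by norm_num)
    (by norm_num) (by rw [CosetCertHeSimple.card_and_faithful.1]) X_order φ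
  have key : ∀ k : ℕ, ∀ e : ℕ, Y ^ k * X ^ e * (Y ^ k)⁻¹ = X ^ (e * 2 ^ k) := by
    intro k
    induction k with
    | zero => intro e; simp
    | succ k ih =>
      intro e
      have h1 : Y * X ^ e * Y⁻¹ = X ^ (e * 2) := by
        rw [(SemiconjBy.pow_right rel_yx e : Y * X ^ e = (X ^ 2) ^ e * Y), mul_inv_cancel_right,
          ← pow_mul, mul_comm]
      rw [pow_succ, show Y ^ k * Y * X ^ e * (Y ^ k * Y)⁻¹ = Y ^ k * (Y * X ^ e * Y⁻¹) * (Y ^ k)⁻¹ by
        group, h1, ih]
      congr 1; ring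
  obtain ⟨k, -, hk⟩ := (by decide +kernel : ∀ i < 17, i = 0 ∨ ∃ k < 8, (i * 2 ^ k) % 17 = 1 ∨
    (i * 2 ^ k) % 17 = 3) i hi |>.resolve_left (by omega)
  obtain ⟨χ, hχ, hχe⟩ := sim_conj ψ (Y ^ k)
  set j := (i * 2 ^ k) % 17 with hj
  have hχx : χ X = X ^ j := by
    rw [hχe, hix, key, hj, ← pow_eq_pow_mod _ X_pow]
  have h2 : χ Y * X ^ j = X ^ (j * 2) * χ Y := by
    have := congrArg χ rel_yx
    rw [map_mul, map_mul, map_pow, hχx, ← pow_mul] at this
    exact this
  have hYj : Y * X ^ j = X ^ (j * 2) * Y := by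
    rw [(SemiconjBy.pow_right rel_yx j : Y * X ^ j = (X ^ 2) ^ j * Y), ← pow_mul, mul_comm 2 j]
  have hu : Commute (Y⁻¹ * χ Y) (X ^ j) := by
    show Y⁻¹ * χ Y * X ^ j = X ^ j * (Y⁻¹ * χ Y)
    rw [mul_assoc, h2, ← mul_assoc (X ^ j)]
    have : X ^ j * Y⁻¹ = Y⁻¹ * X ^ (j * 2) := by
      rw [eq_comm, inv_mul_eq_iff_eq_mul, ← mul_assoc, eq_mul_inv_iff_mul_eq]
      exact hYj.symm
    rw [this, mul_assoc]
  have hux : Commute (Y⁻¹ * χ Y) X := by
    obtain ⟨e, -, he⟩ := (by decide +kernel : ∀ j < 17, j = 0 ∨ ∃ e < 17, (j * e) % 17 = 1) j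
      (Nat.mod_lt _ (by norm_num)) |>.resolve_left (by omega)
    have := hu.pow_right e
    rwa [← pow_mul, pow_eq_pow_mod _ X_pow, he, pow_one] at this
  obtain ⟨l, hl⟩ := cent_X _ hux
  obtain ⟨i', -, hi'⟩ := (by decide +kernel : ∀ l < 17, ∃ i < 17, (i * 9 + l) % 17 = i) (l % 17)
    (Nat.mod_lt _ (by norm_num))
  obtain ⟨θ, hθ, hθe⟩ := sim_conj χ (X ^ i')
  refine ⟨θ, sim_trans (sim_trans hψ hχ) hθ, j, hk, ?_, ?_⟩
  · rw [hθe, hχx, ← pow_add, add_comm, pow_add, mul_inv_cancel_right]
  · have hxy : ∀ n : ℕ, X ^ n * Y = Y * X ^ (n * 9) := by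
      intro n
      induction n with
      | zero => simp
      | succ n ih =>
        rw [pow_succ, mul_assoc, rel_xy, ← mul_assoc, ih, mul_assoc, ← pow_add]
        congr 2; ring
    rw [hθe, show χ Y = Y * X ^ l by rw [← hl, mul_inv_cancel_left], ← mul_assoc, hxy, mul_assoc,
      mul_assoc, ← mul_assoc (X ^ (i' * 9)), ← pow_add, pow_eq_pow_mod (i' * 9 + l) X_pow,
      show (i' * 9 + l) % 17 = i' by rw [← Nat.add_mod_mod]; exact hi', mul_inv_cancel, mul_one]

theorem images {ψ : MulAut G} {j : ℕ} (hj : j = 1 ∨ j = 3) (hX : ψ X = X ^ j) (hY : ψ Y = Y) :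
    (j = 1 ∧ ψ Z = Z) ∨ (j = 3 ∧ ψ Z = el ws (centT.getD 2 [])) := by
  have ht : Commute (ψ Z) (el ws wt) := by
    have h := congrArg ψ rel_zt
    rw [show el ws wt = Y * Y from rfl] at h ⊢
    simp only [map_mul, hY] at h
    exact h
  obtain ⟨k, hk, hZ⟩ := cent_T _ ht
  have hlt : k < centT.length := (Nat.eq_of_beq_eq_true small.1).symm ▸ hk
  have hck : ∀ t ∈ centT.getD k [], t.1 < ws.length := inRange_spec (List.all_eq_true.1 t_side.2.2.2 _
    (by rw [List.getD_eq_getElem (hn := hlt)]; exact List.getElem_mem _))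
  obtain ⟨b, hb, rfl⟩ : ∃ b, (b = 0 ∨ b = 1) ∧ j = [1, 3].getD b 0 := by
    rcases hj with rfl | rfl
    exacts [⟨0, Or.inl rfl, rfl⟩, ⟨1, Or.inr rfl, rfl⟩]
  have hs := sep_check
  simp only [sepOK, List.all_eq_true, List.mem_range, Bool.or_eq_true, Bool.and_eq_true,
    Nat.beq_eq, Nat.blt_eq, Bool.not_eq_true'] at hs
  rcases hs b (by rcases hb with rfl | rfl <;> simp) k hlt with hka | ⟨hr, hne⟩
  · rcases hb with rfl | rfl
    · left
      refine ⟨rfl, ?_⟩
      rw [hZ, show k = 3 from hka]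
      exact el_eq tables (lt_of _ (by decide +kernel)) (lt_of _ (by decide +kernel)) small.2.2.1
    · exact Or.inr ⟨rfl, by rw [hZ, show k = 2 from hka]⟩
  exfalso
  set p := relsW.getD (get sepT (b * 128 + k)) ([], 0) with hp
  have hpm : p ∈ relsW := by rw [hp, List.getD_eq_getElem (hn := hr)]; exact List.getElem_mem _
  have hreal := real_check
  simp only [realOK, List.all_eq_true, Bool.and_eq_true, Nat.blt_eq] at hreal
  obtain ⟨hlet, hrel⟩ := hreal p hpm
  have hletL : ∀ i ∈ relL p, i < 3 := by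
    intro i hi
    simp only [relL, List.mem_flatten] at hi
    obtain ⟨l, hl, hil⟩ := hi
    rw [List.eq_of_mem_replicate hl] at hil
    exact hlet i hil
  have hsubR : ∀ f : ℕ → List (ℕ × Bool), (∀ i < 3, ∀ t ∈ f i, t.1 < ws.length) →
      ∀ t ∈ sub f (relL p), t.1 < ws.length := by
    intro f hf t ht'
    simp only [sub, List.mem_flatMap] at ht'
    obtain ⟨i, hi, hit⟩ := ht'
    exact hf i (hletL i hi) t hit
  have himg : ∀ i < 3, ∀ t ∈ img ([1, 3].getD b 0) k i, t.1 < ws.length := by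
    intro i hi t hti
    simp only [img] at hti
    split at hti
    · rw [List.eq_of_mem_replicate hti, ws_len]; norm_num
    · split at hti
      · rw [List.mem_singleton.1 hti, ws_len]; norm_num
      · exact hck t hti
  have e1 := el_one (hsubR base fun i hi t ht' => by
    rw [List.mem_singleton.1 ht', ws_len]; show 7 + i < 25; omega) hrel
  have e2 : el ws (sub (img ([1, 3].getD b 0) k) (relL p)) = 1 := by
    rw [el_sub] at e1 ⊢
    have h3 : ∀ i < 3, ψ.toMonoidHom (el ws (base i)) = el ws (img ([1, 3].getD b 0) k i) := by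
      intro i hi
      show ψ (el ws (base i)) = _
      interval_cases i
      · show ψ X = _
        rw [hX, show img ([1, 3].getD b 0) k 0 = List.replicate _ (7, true) from rfl, el_pow]
        rfl
      · exact hY
      · exact hZ
    rw [← map_wprod ψ.toMonoidHom _ _ h3 _ (by
      intro t ht'
      obtain ⟨i, hi, rfl⟩ := List.mem_map.1 ht'
      exact hletL i hi), e1, map_one]
  exact el_ne tables (hsubR _ himg) (w := []) (by simp) hne (e2.trans el_nil.symm)

theorem card_out : Nat.card (Out G) = 2 := by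
  refine card_out_eq_two closure_gens alpha (fun φ => ?_) alpha alpha_outer
  obtain ⟨ψ, hψ, j, hj, hX, hY⟩ := normal φ
  refine ⟨ψ, hψ, ?_⟩
  rcases images hj hX hY with ⟨rfl, hZ⟩ | ⟨rfl, hZ⟩
  · left
    rintro t (rfl | rfl | rfl)
    exacts [by rw [hX, pow_one], hY, hZ]
  · right
    rintro t (rfl | rfl | rfl)
    exacts [hX.trans alpha_vals.1.symm, hY.trans alpha_vals.2.1.symm, hZ.trans alpha_vals.2.2.symm]

end Cfsg.Agent.HeOut76
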