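import Cfsg.Agent.Lib.HeOutData76

/-!
Checks for the automorphisms of He.
-/

set_option autoImplicit false
set_option maxRecDepth 100000
set_option Elab.async false

namespace Cfsg.Agent.HeOutCentT76

open Cfsg.Agent.CosetCertCore (Tbl entry)
open Cfsg.Agent.CosetCertTable Cfsg.Agent.SplitVoltage Cfsg.Agent.SplitVoltageCert
  Cfsg.Agent.VoltageFus76 Cfsg.Agent.HeMult76Checks Cfsg.Agent.HeSift76 Cfsg.Agent.HeOutData76

/-- The square of the second element. -/
def wt : List (ℕ × Bool) := [(8, true), (8, true)]

theorem cent_t_0 : AllBelow (centOK ws.length Ts Us chainT wt centT tabT) 0 := AllBelow.zero _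

theorem cent_t_1 : AllBelow (centOK ws.length Ts Us chainT wt centT tabT) 128 :=
  AllBelow.step cent_t_0 128 (by decide +kernel)

theorem cent_t_2 : AllBelow (centOK ws.length Ts Us chainT wt centT tabT) 256 :=
  AllBelow.step cent_t_1 128 (by decide +kernel)

theorem cent_t_3 : AllBelow (centOK ws.length Ts Us chainT wt centT tabT) 384 :=
  AllBelow.step cent_t_2 128 (by decide +kernel)

theorem cent_t_4 : AllBelow (centOK ws.length Ts Us chainT wt centT tabT) 512 :=
  AllBelow.step cent_t_3 128 (by decide +kernel)

theorem cent_t_5 : AllBelow (centOK ws.length Ts Us chainT wt centT tabT) 640 :=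
  AllBelow.step cent_t_4 128 (by decide +kernel)

theorem cent_t_6 : AllBelow (centOK ws.length Ts Us chainT wt centT tabT) 768 :=
  AllBelow.step cent_t_5 128 (by decide +kernel)

theorem cent_t_7 : AllBelow (centOK ws.length Ts Us chainT wt centT tabT) 896 :=
  AllBelow.step cent_t_6 128 (by decide +kernel)

theorem cent_t_8 : AllBelow (centOK ws.length Ts Us chainT wt centT tabT) 1024 :=
  AllBelow.step cent_t_7 128 (by decide +kernel)

theorem cent_t_9 : AllBelow (centOK ws.length Ts Us chainT wt centT tabT) 1152 :=
  AllBelow.step cent_t_8 128 (by decide +kernel)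

theorem cent_t_10 : AllBelow (centOK ws.length Ts Us chainT wt centT tabT) 1280 :=
  AllBelow.step cent_t_9 128 (by decide +kernel)

theorem cent_t_11 : AllBelow (centOK ws.length Ts Us chainT wt centT tabT) 1408 :=
  AllBelow.step cent_t_10 128 (by decide +kernel)

theorem cent_t_12 : AllBelow (centOK ws.length Ts Us chainT wt centT tabT) 1536 :=
  AllBelow.step cent_t_11 128 (by decide +kernel)

theorem cent_t_13 : AllBelow (centOK ws.length Ts Us chainT wt centT tabT) 1664 :=
  AllBelow.step cent_t_12 128 (by decide +kernel)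

theorem cent_t_14 : AllBelow (centOK ws.length Ts Us chainT wt centT tabT) 1792 :=
  AllBelow.step cent_t_13 128 (by decide +kernel)

theorem cent_t_15 : AllBelow (centOK ws.length Ts Us chainT wt centT tabT) 1920 :=
  AllBelow.step cent_t_14 128 (by decide +kernel)

theorem cent_t_16 : AllBelow (centOK ws.length Ts Us chainT wt centT tabT) 2048 :=
  AllBelow.step cent_t_15 128 (by decide +kernel)

theorem cent_t_17 : AllBelow (centOK ws.length Ts Us chainT wt centT tabT) 2058 :=
  AllBelow.step cent_t_16 10 (by decide +kernel)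

theorem cent_t_check : allFrom (centOK ws.length Ts Us chainT wt centT tabT) TH.N 0 = true :=
  (allFrom_iff _ _ _).2 fun i _ h => cent_t_17 i (lt_of_lt_of_eq h ((Nat.zero_add _).trans (by decide +kernel)))


end Cfsg.Agent.HeOutCentT76
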