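import Cfsg.Agent.Lib.HeOutData76

/-!
Checks for the automorphisms of He.
-/

set_option autoImplicit false
set_option maxRecDepth 100000
set_option Elab.async false

namespace Cfsg.Agent.HeOutCentX76

open Cfsg.Agent.CosetCertCore (Tbl entry)
open Cfsg.Agent.CosetCertTable Cfsg.Agent.SplitVoltage Cfsg.Agent.SplitVoltageCert
  Cfsg.Agent.VoltageFus76 Cfsg.Agent.HeMult76Checks Cfsg.Agent.HeSift76 Cfsg.Agent.HeOutData76

/-- The first element. -/
def wx : List (ℕ × Bool) := [(7, true)]

/-- The powers of the first element. -/
def centX : List (List (ℕ × Bool)) := (List.range 17).map fun k => List.replicate k (7, true)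

theorem cent_x_0 : AllBelow (centOK ws.length Ts Us chainX wx centX tabX) 0 := AllBelow.zero _

theorem cent_x_1 : AllBelow (centOK ws.length Ts Us chainX wx centX tabX) 128 :=
  AllBelow.step cent_x_0 128 (by decide +kernel)

theorem cent_x_2 : AllBelow (centOK ws.length Ts Us chainX wx centX tabX) 256 :=
  AllBelow.step cent_x_1 128 (by decide +kernel)

theorem cent_x_3 : AllBelow (centOK ws.length Ts Us chainX wx centX tabX) 384 :=
  AllBelow.step cent_x_2 128 (by decide +kernel)

theorem cent_x_4 : AllBelow (centOK ws.length Ts Us chainX wx centX tabX) 512 :=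
  AllBelow.step cent_x_3 128 (by decide +kernel)

theorem cent_x_5 : AllBelow (centOK ws.length Ts Us chainX wx centX tabX) 640 :=
  AllBelow.step cent_x_4 128 (by decide +kernel)

theorem cent_x_6 : AllBelow (centOK ws.length Ts Us chainX wx centX tabX) 768 :=
  AllBelow.step cent_x_5 128 (by decide +kernel)

theorem cent_x_7 : AllBelow (centOK ws.length Ts Us chainX wx centX tabX) 896 :=
  AllBelow.step cent_x_6 128 (by decide +kernel)

theorem cent_x_8 : AllBelow (centOK ws.length Ts Us chainX wx centX tabX) 1024 :=
  AllBelow.step cent_x_7 128 (by decide +kernel)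

theorem cent_x_9 : AllBelow (centOK ws.length Ts Us chainX wx centX tabX) 1152 :=
  AllBelow.step cent_x_8 128 (by decide +kernel)

theorem cent_x_10 : AllBelow (centOK ws.length Ts Us chainX wx centX tabX) 1280 :=
  AllBelow.step cent_x_9 128 (by decide +kernel)

theorem cent_x_11 : AllBelow (centOK ws.length Ts Us chainX wx centX tabX) 1408 :=
  AllBelow.step cent_x_10 128 (by decide +kernel)

theorem cent_x_12 : AllBelow (centOK ws.length Ts Us chainX wx centX tabX) 1536 :=
  AllBelow.step cent_x_11 128 (by decide +kernel)

theorem cent_x_13 : AllBelow (centOK ws.length Ts Us chainX wx centX tabX) 1664 :=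
  AllBelow.step cent_x_12 128 (by decide +kernel)

theorem cent_x_14 : AllBelow (centOK ws.length Ts Us chainX wx centX tabX) 1792 :=
  AllBelow.step cent_x_13 128 (by decide +kernel)

theorem cent_x_15 : AllBelow (centOK ws.length Ts Us chainX wx centX tabX) 1920 :=
  AllBelow.step cent_x_14 128 (by decide +kernel)

theorem cent_x_16 : AllBelow (centOK ws.length Ts Us chainX wx centX tabX) 2048 :=
  AllBelow.step cent_x_15 128 (by decide +kernel)

theorem cent_x_17 : AllBelow (centOK ws.length Ts Us chainX wx centX tabX) 2058 :=
  AllBelow.step cent_x_16 10 (by decide +kernel)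

theorem cent_x_check : allFrom (centOK ws.length Ts Us chainX wx centX tabX) TH.N 0 = true :=
  (allFrom_iff _ _ _).2 fun i _ h => cent_x_17 i (lt_of_lt_of_eq h ((Nat.zero_add _).trans (by decide +kernel)))


end Cfsg.Agent.HeOutCentX76
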