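import Cfsg.Agent.Lib.HeOutCentX76
import Cfsg.Agent.Lib.HeOutCentT76

/-!
Checks for the automorphisms of He.
-/

set_option autoImplicit false
set_option maxRecDepth 100000
set_option Elab.async false

namespace Cfsg.Agent.HeOutChecks76

open Cfsg.Agent.CosetCertCore (Tbl entry)
open Cfsg.Agent.CosetCertTable Cfsg.Agent.SplitVoltage Cfsg.Agent.SplitVoltageCert
  Cfsg.Agent.VoltageFus76 Cfsg.Agent.HeMult76Checks Cfsg.Agent.HeSift76 Cfsg.Agent.HeOutData76
  Cfsg.Agent.HeOutCentX76 Cfsg.Agent.HeOutCentT76

theorem tables : tablesOK ws Ts Us = true := by decide +kernel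

theorem chain_x : chainOK ws.length Ts Us chainX 1360 360 = true := by decide +kernel

theorem chain_t : chainOK ws.length Ts Us chainT 1360 360 = true := by decide +kernel

theorem x_side : inRange ws.length wx = true ∧ wfun Ts Us wx chainX.p = chainX.q ∧
    wfun Ts Us wx chainX.q = chainX.r ∧ centX.all (inRange ws.length) = true := by decide +kernel

theorem t_side : inRange ws.length wt = true ∧ wfun Ts Us wt chainT.p = chainT.q ∧
    wfun Ts Us wt chainT.q = chainT.r ∧ centT.all (inRange ws.length) = true := by decide +kernel

/-- The images of a word in three letters. -/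
def sub (img : ℕ → List (ℕ × Bool)) (l : List ℕ) : List (ℕ × Bool) := l.flatMap img

/-- The three elements. -/
def base (i : ℕ) : List (ℕ × Bool) := [(7 + i, true)]

/-- Candidate images. -/
def img (j k : ℕ) (i : ℕ) : List (ℕ × Bool) :=
  if i = 0 then List.replicate j (7, true) else if i = 1 then [(8, true)] else centT.getD k []

/-- A relation as a list of letters. -/
def relL (p : List ℕ × ℕ) : List ℕ := (List.replicate p.2 p.1).flatten

/-- Relations hold. -/
noncomputable def realOK : Bool :=
  relsW.all fun p => p.1.all (fun i => Nat.blt i 3) &&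
    sameOK (wfun Ts Us (sub base (relL p))) (fun j => j)

theorem real_check : realOK = true := by decide +kernel

/-- Every candidate is allowed or violates a relation. -/
noncomputable def sepOK : Bool :=
  [0, 1].all fun b => (List.range centT.length).all fun k =>
    Nat.beq k ([3, 2].getD b 0) ||
      (Nat.blt (get sepT (b * 128 + k)) relsW.length &&
        !sameOK (wfun Ts Us (sub (img ([1, 3].getD b 0) k)
          (relL (relsW.getD (get sepT (b * 128 + k)) ([], 0))))) (fun j => j))

theorem sep_check : sepOK = true := by decide +kernel

theorem small : Nat.beq centT.length 128 = true ∧ Nat.beq ws.length 25 = true ∧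
    sameOK (wfun Ts Us (centT.getD 3 [])) (wfun Ts Us (base 2)) = true ∧
    sameOK (wfun Ts Us (wx ++ base 1)) (wfun Ts Us (base 1 ++ wx ++ wx)) = true ∧
    sameOK (wfun Ts Us (base 1 ++ wx)) (wfun Ts Us (List.replicate 9 (7, true) ++ base 1)) = true ∧
    sameOK (wfun Ts Us (wt ++ base 2)) (wfun Ts Us (base 2 ++ wt)) = true ∧
    sameOK (wfun Ts Us (List.replicate 17 (7, true))) (fun j => j) = true ∧
    sameOK (wfun Ts Us wx) (fun j => j) = false := by decide +kernel

/-- Generators in terms of the three elements. -/
noncomputable def genOK : Bool :=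
  (List.range 7).all fun j => (genW.getD j []).all (fun t => Nat.blt t.1 3) &&
    sameOK (wfun Ts Us ((genW.getD j []).map fun t => (7 + t.1, t.2))) (wfun Ts Us [(j, true)]) &&
    (ws.getD j [] == [j])

theorem gen_check : genOK = true := by decide +kernel

/-- The outer permutation normalises. -/
noncomputable def piOK : Bool :=
  sameOK (fun j => tabF piT (tabF piU j)) (fun j => j) &&
    sameOK (fun j => tabF piU (tabF piT j)) (fun j => j) &&
    allFrom (fun j => Nat.blt (tabF piT j) TH.N && Nat.blt (tabF piU j) TH.N) TH.N 0 &&
    (List.range 7).all (fun i => (piW.getD i []).all (fun x => Nat.blt x TH.NG) &&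
      sameOK (fun j => tabF piT (TH.img i j)) (fun j => TH.run (piW.getD i []) (tabF piT j))) &&
    sameOK (fun j => tabF piT (wfun Ts Us wx j))
      (fun j => wfun Ts Us (List.replicate 3 (7, true)) (tabF piT j)) &&
    sameOK (fun j => tabF piT (wfun Ts Us (base 1) j))
      (fun j => wfun Ts Us (base 1) (tabF piT j)) &&
    sameOK (fun j => tabF piT (wfun Ts Us (base 2) j))
      (fun j => wfun Ts Us (centT.getD 2 []) (tabF piT j))

theorem pi_check : piOK = true := by decide +kernel

/-- No element of the centraliser conjugates the first element to its cube. -/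
noncomputable def innerOK : Bool :=
  (List.range centT.length).all fun k =>
    !sameOK (wfun Ts Us (wx ++ centT.getD k []))
      (wfun Ts Us (centT.getD k [] ++ List.replicate 3 (7, true)))

theorem inner_check : innerOK = true := by decide +kernel

end Cfsg.Agent.HeOutChecks76
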