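import Cfsg.Agent.Lib.HeSift76

/-!
Data for the automorphisms of He: elements, factorisations and centraliser tables.
The data only feeds checkers; nothing here is assumed.
-/

set_option autoImplicit false
set_option maxRecDepth 100000

namespace Cfsg.Agent.HeOutData76

open Cfsg.Agent.SplitVoltageCert Cfsg.Agent.HeSift76
open Cfsg.Agent.CosetCertCore (Tbl)

/-- images -/
noncomputable def t0 : Tbl :=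
  (.node (.node (.node (.node (.leaf 0x10016816715216616516416316215e15d15c16116015f1150a30a20a10a009f09e09d09b09c0e60e50e40e30e20e10dd0900de0e00dc0db0da0d90d80d70d60d50d40cd0d10d212e14112c0d312b12a12912812712612512412308308208108007f07e07d07c07b0b90ba10d10c10b10a1090ae10e06f0710700b30ad0ac0ab0aa0a90a80a70a60a40a50ef0ee0ed0ec0eb0ea0e90e70e806005f05e05d05c0950940930920910df08f08e08d08c08b08a0890880870860840850c30c20c10c00bf0be0bd0bc0bb04c04b04a0490480750740720730b00af0b104104003f06b06a06906806706606506406306206109a09909809709603503405905805705605505405305205105004f04e04d07a07907807707602b02a04504404304206e06d06c02302203c03b03a03903803703605b05a01c03203103002f02e02d02c04704601702802702602502403e03d01202001f01e01d03301b01a01901802901601501401302101101000f00e00d00c00b00a009008007006005004003002001000)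
 (.leaf 0x8077d88097a67bd7f27907be7b97e0))
 (.node (.leaf 0x5006334d36344fb4fa4c46314c24b24b163062f62e62d62c62b62a4a569b3d23d13d03cf43543451651462862762651562562462349f6824894474485d562162061f4fd61e61d61c61b5b64a65dd61a4c94ca4a84a444f41f4f96194f73ad6184b64b05bf6176166156146136124bf61161060f4f64f54be49e49d6524ab4ac31a3184c85474cd4ed4c76086076066054dc4af4ae36336236135f35e35c35735635535034d34c34b34a3473443433423414da33d33c33b33a33933833733633332b32932832632532432332232132031f31e31d31c60a4686092eb31531431231131047051246546646346460044b5a95a845d45e5a75a65a55a45a35a25f645445544350543659a4c656039d39c46141e5984d84d958c5bd59745359633f39a3993983975dc5db5da5d93315494514e74e643042f3344334322b82b72b32b23e63e33e13e040e5a059f59e5b25b159b4c544a5b03e53e435b3e259d58d59c5af58e5ae5ad56e5ac5134265b55b45b32962a52a329c29b2993652de2dd2dc2db)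
 (.leaf 0x0)))
 (.node (.node (.leaf 0x1f71f53401f31f21f11f01ef1ee1ec1eb1e91e81e71e61e51e41e31e21e146e1df1de1dd1dc1db1da2e22df2e42e02e12e34034024014002542b62b53fe3fd3fc3f93f83f732e3f53f43f33f23f13f02463083ef3ee3ed3df3ec3d73eb3ea24524424324224124023f36842e42d2d92d81ed42c42b2b02b11ac1ab1a92052752072722702973fb4093f64082742732713063fa3074074063cd4053692a740a19b1a31a119e19d19c2131c31c21c11c01bf2771bd1a41a219f1bc1bb1ba1b91b81b71b51b41b31b21b11b03e728918b2ab2a22a12a92a02a826d26a26f26632726e38f38e38d26c34938c38b3ca3893883c237c37b37a3793783773763753723712da23c38638538438338238138037f37e37d3743732ca2c02bf2be2bd2bc2bb2ba39139025316918218118017d17c17b17a17917317217117016f16e17817717617516d17422622520322222322122021f21c14e21e1f620021520e21421221921728f21630e30d30c21830b30a3091b61d53592aa3582ac14222430520121a)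
 (.leaf 0x0))
 (.node (.leaf 0x57c5f873374a5735c27047e17026c76f46f56ef7ce7de7386f37bb6e17dc7077535565d16e46d35526e774970b6ed7467d97307c054858a58957f6a47c957a57855d6e671a71853956256155a5596c478652b5546f656f56a6cb5505645636c069168e7705ba5be54070171e71f6b077f6af77e77d79f6b66b47146ac6ad73f67d67c6325e36a666a6d877b74377a77964e7987817a44ec58755858658558455b5837b85de6bf6845df6be7717757747737726426446437806907994db5ed76f76e5316aa6a976d7a976c66776b73472372465073c64d7a565164f64a5cf65a6a565976967865e75c76876776676476376566676172b76066b66964164063e65363f6554ad66f67366e69f67178e5f566d75875775675575468768668865865765465650e50d50c50b5095085075045034fc4fe6a84f84f44f34f24f14f04ef4ee7764e34e24e14df4de4dd7364d64d54d44d24d14d04cf4cb4c34c04bc4bb4ba4b94b84b74b54b44b360460375a75947146f4a34a24a14a060e60d601602462)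
 (.leaf 0x0))))
 (.node (.node (.node (.leaf 0x30430330230130017e1f81f92ff21b2fe33e2fc2fb2fa2f92f82f72b42f62f532d2f42f32f22f12f02ef2ee2ed2ec3172ea2e92e82e72e62e514714614514420913f13d13c13b13913813713613513413313213113012f1c41c528e28d28c28b28a1aa28828428328228128027f20a27e27d27c27b27a27916c16b16a2af2ae1be2ad11418a18918728729428629318828529229129029511111010f12011f11e11d11211c11b11a1191181171162761a71a61a01a517f18518318423a2392381861fa23723623523423322c22b22a22922723223123022f22e22d2281af1ae1ad23b0fe0fd0fb0fa0f90f80f70f30f20f10f60f50f414015a1591581571551561541530fc15115014f21d14d14c13a13e1481491d91d81d71d612d2040cf15b1d414a1d31d21d114b1d01cf1ce1cd1cc1cb1ca1c91c81c71c60d01430ce0cc0cb0ca0c90c80c70c60c50c412112219719619519419219119018f18e18d18c0f01a810819319a1991980b20b80b70b60b50b41131071061051041031021010ff)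
 (.leaf 0x0))
 (.node (.leaf 0x5f05ef5fc5fd55371d71c6fe57145664b5ce5c05c354f5ff5fe57968155f54d72954c54b54a73b5cd73a6a77397285cc68f6924cc43c43b43a43955154e5904d75bc5b95bb6e857266c5f45e55e059259158f71771070c7117125f26fa7205f34bd6bb4455d45d26bc5d37227214ce40d40c40b42242141d41541341241051050f46045f45c45b45a4594584577194254244234184164204505934494444427153e95995cb5ca5d65c94144174465886db6da58b69a69869769669456c70556d6d956b5116ff3cb6d65ee6d55665025015676fb5d05f73c36c641158058257e6c555c55e5745775576c26c16cf6ce44e5ec5686d45696956cd6cc6995656e93a66c85fb6e55d86c35f15d75eb5e95e85e74376dc4a73963953d63d53ce5226ba38a3c93c83c73c65206d03873b33b23b13b03af3ae67e3ac3aa3a93a83a76c93a53a43a33a23a13a03c13c05413be53a3bb3b93b839f39e3b65195185174e54e04e440f46757d5ab5aa63d63c63b63a50663963863750a4526366355765754ff)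
 (.leaf 0x0)))
 (.node (.node (.leaf 0x35d2d72d62d52a629e2d42d32d22a42d02cf2ce2cd2cc2cb2c82c72c62c42c22c159433527842a41c41b4294194284272c53dc3d93de3d33ba3dd3d42c35445433d83db4eb4ea4e94e854229a3bf57b26253e53d53c53b35a3bc57025f5245233cc5213ab3c451f3da51e51d39b51a3943935375365355345335324c15303bd52f52e52d52c55552a52952852752652551c51b44d44c3b744043f43e43d5465453b53b431623e23d26926826726426353f26126053825225125024f24e24d24c24b24a24925e25d25c25b25a25925825724824725625537036e36f36d34534f3522982b936636740436049c49b49a3644994983ff49741a3c520820649649549435432a36a32c49336b31b49249149048f26534648e34836c48d48c48b48a2fd4411f44884874864854844834824813e84314803304383323132d11ea35147f35347e47d26b47c47b47a47947847747647547447347234e4aa30f4a91e039246d46c32f46b46a46931921121020f20d20c20b2c929d29f2021ff1fe1fd1fc1fb)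
 (.leaf 0x0))
 (.node (.leaf 0x7cc7c17bf7ae79c7f97fa7777f57ec7f77f37f48047427aa7ee7ef79a7f67e57a37487e77e87447eb7037c77d56f88007456f17786ec7d27cd6df80870e7167e27c371b7db7ba7cf7d06f27da7ff73d7c46d77c67e37c87c57ca7d472a7fe6dd7fd8028057086ee7d180169370073e74070d78878b78a7a179e7fc79b7477a07f067a72779180667069c7ea72f7b07ab6b17af7897fb7ad7ed68369e78578378478277c78c7a780376a64c74b7927b27b179d7b37626ca79779579679469d6856b56b36b27936a36a16a07dd7f862968c68b68a68968d6bd68067f67b67967778f66866466366265f66166078765d65b75275174f66575060c60b6496486476466456ea75f75e75b75d74c70974e78d6fc6e37e97ac6e07df7e66a27f17327b56ab7b67cb6725e65e45e26f07266227256766fd7417136de7a272d72e70665c7c25ea5e17a87377356746755b85b75c16b76b85fa5f97d36d25a16d15c87d65956ae7315c45c55c770a7d77b45c66e270f74d7bc6eb72c5816f97e46f76b97b7)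
 (.leaf 0x0)))))

/-- images under the inverse -/
noncomputable def u0 : Tbl :=
  (.node (.node (.node (.node (.leaf 0x10016816715216616516416316215e15d15c16116015f1150a30a20a10a009f09e09d09b09c0e60e50e40e30e20e10dd0900de0e00dc0db0da0d90d80d70d60d50d40cd0d10d212e14112c0d312b12a12912812712612512412308308208108007f07e07d07c07b0b90ba10d10c10b10a1090ae10e06f0710700b30ad0ac0ab0aa0a90a80a70a60a40a50ef0ee0ed0ec0eb0ea0e90e70e806005f05e05d05c0950940930920910df08f08e08d08c08b08a0890880870860840850c30c20c10c00bf0be0bd0bc0bb04c04b04a0490480750740720730b00af0b104104003f06b06a06906806706606506406306206109a09909809709603503405905805705605505405305205105004f04e04d07a07907807707602b02a04504404304206e06d06c02302203c03b03a03903803703605b05a01c03203103002f02e02d02c04704601702802702602502403e03d01202001f01e01d03301b01a01901802901601501401302101101000f00e00d00c00b00a009008007006005004003002001000)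
 (.leaf 0x8077d88097a67bd7f27907be7b97e0))
 (.node (.leaf 0x5006334d36344fb4fa4c46314c24b24b163062f62e62d62c62b62a4a569b3d23d13d03cf43543451651462862762651562562462349f6824894474485d562162061f4fd61e61d61c61b5b64a65dd61a4c94ca4a84a444f41f4f96194f73ad6184b64b05bf6176166156146136124bf61161060f4f64f54be49e49d6524ab4ac31a3184c85474cd4ed4c76086076066054dc4af4ae36336236135f35e35c35735635535034d34c34b34a3473443433423414da33d33c33b33a33933833733633332b32932832632532432332232132031f31e31d31c60a4686092eb31531431231131047051246546646346460044b5a95a845d45e5a75a65a55a45a35a25f645445544350543659a4c656039d39c46141e5984d84d958c5bd59745359633f39a3993983975dc5db5da5d93315494514e74e643042f3344334322b82b72b32b23e63e33e13e040e5a059f59e5b25b159b4c544a5b03e53e435b3e259d58d59c5af58e5ae5ad56e5ac5134265b55b45b32962a52a329c29b2993652de2dd2dc2db)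
 (.leaf 0x0)))
 (.node (.node (.leaf 0x1f71f53401f31f21f11f01ef1ee1ec1eb1e91e81e71e61e51e41e31e21e146e1df1de1dd1dc1db1da2e22df2e42e02e12e34034024014002542b62b53fe3fd3fc3f93f83f732e3f53f43f33f23f13f02463083ef3ee3ed3df3ec3d73eb3ea24524424324224124023f36842e42d2d92d81ed42c42b2b02b11ac1ab1a92052752072722702973fb4093f64082742732713063fa3074074063cd4053692a740a19b1a31a119e19d19c2131c31c21c11c01bf2771bd1a41a219f1bc1bb1ba1b91b81b71b51b41b31b21b11b03e728918b2ab2a22a12a92a02a826d26a26f26632726e38f38e38d26c34938c38b3ca3893883c237c37b37a3793783773763753723712da23c38638538438338238138037f37e37d3743732ca2c02bf2be2bd2bc2bb2ba39139025316918218118017d17c17b17a17917317217117016f16e17817717617516d17422622520322222322122021f21c14e21e1f620021520e21421221921728f21630e30d30c21830b30a3091b61d53592aa3582ac14222430520121a)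
 (.leaf 0x0))
 (.node (.leaf 0x57c5f873374a5735c27047e17026c76f46f56ef7ce7de7386f37bb6e17dc7077535565d16e46d35526e774970b6ed7467d97307c054858a58957f6a47c957a57855d6e671a71853956256155a5596c478652b5546f656f56a6cb5505645636c069168e7705ba5be54070171e71f6b077f6af77e77d79f6b66b47146ac6ad73f67d67c6325e36a666a6d877b74377a77964e7987817a44ec58755858658558455b5837b85de6bf6845df6be7717757747737726426446437806907994db5ed76f76e5316aa6a976d7a976c66776b73472372465073c64d7a565164f64a5cf65a6a565976967865e75c76876776676476376566676172b76066b66964164063e65363f6554ad66f67366e69f67178e5f566d75875775675575468768668865865765465650e50d50c50b5095085075045034fc4fe6a84f84f44f34f24f14f04ef4ee7764e34e24e14df4de4dd7364d64d54d44d24d14d04cf4cb4c34c04bc4bb4ba4b94b84b74b54b44b360460375a75947146f4a34a24a14a060e60d601602462)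
 (.leaf 0x0))))
 (.node (.node (.node (.leaf 0x30430330230130017e1f81f92ff21b2fe33e2fc2fb2fa2f92f82f72b42f62f532d2f42f32f22f12f02ef2ee2ed2ec3172ea2e92e82e72e62e514714614514420913f13d13c13b13913813713613513413313213113012f1c41c528e28d28c28b28a1aa28828428328228128027f20a27e27d27c27b27a27916c16b16a2af2ae1be2ad11418a18918728729428629318828529229129029511111010f12011f11e11d11211c11b11a1191181171162761a71a61a01a517f18518318423a2392381861fa23723623523423322c22b22a22922723223123022f22e22d2281af1ae1ad23b0fe0fd0fb0fa0f90f80f70f30f20f10f60f50f414015a1591581571551561541530fc15115014f21d14d14c13a13e1481491d91d81d71d612d2040cf15b1d414a1d31d21d114b1d01cf1ce1cd1cc1cb1ca1c91c81c71c60d01430ce0cc0cb0ca0c90c80c70c60c50c412112219719619519419219119018f18e18d18c0f01a810819319a1991980b20b80b70b60b50b41131071061051041031021010ff)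
 (.leaf 0x0))
 (.node (.leaf 0x5f05ef5fc5fd55371d71c6fe57145664b5ce5c05c354f5ff5fe57968155f54d72954c54b54a73b5cd73a6a77397285cc68f6924cc43c43b43a43955154e5904d75bc5b95bb6e857266c5f45e55e059259158f71771070c7117125f26fa7205f34bd6bb4455d45d26bc5d37227214ce40d40c40b42242141d41541341241051050f46045f45c45b45a4594584577194254244234184164204505934494444427153e95995cb5ca5d65c94144174465886db6da58b69a69869769669456c70556d6d956b5116ff3cb6d65ee6d55665025015676fb5d05f73c36c641158058257e6c555c55e5745775576c26c16cf6ce44e5ec5686d45696956cd6cc6995656e93a66c85fb6e55d86c35f15d75eb5e95e85e74376dc4a73963953d63d53ce5226ba38a3c93c83c73c65206d03873b33b23b13b03af3ae67e3ac3aa3a93a83a76c93a53a43a33a23a13a03c13c05413be53a3bb3b93b839f39e3b65195185174e54e04e440f46757d5ab5aa63d63c63b63a50663963863750a4526366355765754ff)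
 (.leaf 0x0)))
 (.node (.node (.leaf 0x35d2d72d62d52a629e2d42d32d22a42d02cf2ce2cd2cc2cb2c82c72c62c42c22c159433527842a41c41b4294194284272c53dc3d93de3d33ba3dd3d42c35445433d83db4eb4ea4e94e854229a3bf57b26253e53d53c53b35a3bc57025f5245233cc5213ab3c451f3da51e51d39b51a3943935375365355345335324c15303bd52f52e52d52c55552a52952852752652551c51b44d44c3b744043f43e43d5465453b53b431623e23d26926826726426353f26126053825225125024f24e24d24c24b24a24925e25d25c25b25a25925825724824725625537036e36f36d34534f3522982b936636740436049c49b49a3644994983ff49741a3c520820649649549435432a36a32c49336b31b49249149048f26534648e34836c48d48c48b48a2fd4411f44884874864854844834824813e84314803304383323132d11ea35147f35347e47d26b47c47b47a47947847747647547447347234e4aa30f4a91e039246d46c32f46b46a46931921121020f20d20c20b2c929d29f2021ff1fe1fd1fc1fb)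
 (.leaf 0x0))
 (.node (.leaf 0x7cc7c17bf7ae79c7f97fa7777f57ec7f77f37f48047427aa7ee7ef79a7f67e57a37487e77e87447eb7037c77d56f88007456f17786ec7d27cd6df80870e7167e27c371b7db7ba7cf7d06f27da7ff73d7c46d77c67e37c87c57ca7d472a7fe6dd7fd8028057086ee7d180169370073e74070d78878b78a7a179e7fc79b7477a07f067a72779180667069c7ea72f7b07ab6b17af7897fb7ad7ed68369e78578378478277c78c7a780376a64c74b7927b27b179d7b37626ca79779579679469d6856b56b36b27936a36a16a07dd7f862968c68b68a68968d6bd68067f67b67967778f66866466366265f66166078765d65b75275174f66575060c60b6496486476466456ea75f75e75b75d74c70974e78d6fc6e37e97ac6e07df7e66a27f17327b56ab7b67cb6725e65e45e26f07266227256766fd7417136de7a272d72e70665c7c25ea5e17a87377356746755b85b75c16b76b85fa5f97d36d25a16d15c87d65956ae7315c45c55c770a7d77b45c66e270f74d7bc6eb72c5816f97e46f76b97b7)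
 (.leaf 0x0)))))

/-- images -/
noncomputable def t1 : Tbl :=
  (.node (.node (.node (.node (.leaf 0x13e13d0ab0a90a80fa0f90f80f70f60f50f40f30f20f116914a0ac0aa0a70a615e15d15c09615a15915b09514b15609109215508f14012c15315213b13a14e12a12909314114314208308d08a0a30890880c90c80c70c60c50c412d08e08c08b0870861241230760750741131121111101140710700b00b110806c0ad0ee0fd0ed0fc0fb0ec0eb06a0690cc06506406306209e09d09c09b0680670660610e70e30590d30df0e00560dd0c20ce0c10c00cd0cb0ca0bf0be0580570cf05205105004f04e07d07c07b05505405304d0bb0ba0b90430420b30b203f0450440ae06b0a50a409a0990980a20a10a009f09703b03803703605c03a03909408508409007a07907808208108007f07e07703102e02d02c04803002f06e06d07307202402506f02702602806005b05a05f05e05d01f01d01e03204c04704604b04a04901a01801903c03e03d04004101501301401603503303400f01b02b02902a00c02002302102200900b00a01c00e00d017011010012005007006008002003004000001)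
 (.leaf 0x7d48087a87a77a279179278c7bb77d))
 (.node (.leaf 0x6a66a86a735535635761d3d53d44f64f569a69969869769e69d69b69c34a34d34c34b69336f5f15ad6903ec39a3df68167d6856846833413453433426803da39958c59567a4d13d64cf6745f551a67044445c66c3333323304c44c338e3b04c06654be5434bc65865665765f6526534ab6556544b14b231b32031f31d31c4b532131e64b3b65cf64c31464163e64063f6423123104065af3fa4003ef5985195186323db3d23d13d062936e54f4125ed6222fe47a3d958e48135147f3d84855e74833dc3af4783014883d347c60a60e60d60960c60b2ee2ed2ec46a3ea54a60446e6032e52e34664655126002df5765755d85365b14c945a45b5f85f75f62d55623a34502d12cf4535f442d42c42b5a02c73675155165ec2c34ca3f72f536c5df5ea5dd2f65e52c52c45e12c22c02bf2be2bd2bc2bb2ba3723712c844e44d44c2dd50a5d45d32a82d72d65d02d42d32d25ce2d05cc2ce2cd36940a3615bf5c65065bd5bc48c5ba5b929e29b29a2995aa4194023f230d49c5ab2903fb409309499)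
 (.leaf 0x0)))
 (.node (.node (.leaf 0x2224891d02f02f33de2f72f42f943d4422f82fb3dd2ef2fc2f147147046f1c81ce1cd3971ca1c94682e44672e22e12e04623c542a2173313341c11c042542445642242142045241e45141c41b2af2ae2ad36842e44a36643b43a4454381cc4374364354344334324311b61b51b31b21b11b01af1ae1ad2272cc2cb2ca1c31c22193644261a51bd1bc1bb1ba1b91b829520e40f21536040e40d40c19f19d19c2a028d2801d930e4041982872943ff30b33519535a28e28130c3e63e53e428629327635e20b3e935d20d3e818d18c27f19219119021021336330335335230233c3041f133735034f3003cc3cb17b3c43c317925e3bf25c3bc25a2592582573b53b43161742522512503ad24e24d24c3a624a24924824723b39639534734439439339216c16b16a24632a36a36b34837c38a37a38737837737637537437316416216116015f2b01d42031583462ff36d22015414f15714c33e1682aa3582dc19e29d1b427135918727235b29f27a18e27d14414814714614519414922535413f183)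
 (.leaf 0x0))
 (.node (.leaf 0x72257a5785795fb7e17e256c7e05695685775667df56356155e7dc74355b55a6165597db55455355c55062776b6a27da54b7bd7315927b47d67d554257c7d37d253e53d53c53b6c55fd76e7d178652d52c52e7d05256ba6d051d7cf66f7cd6ad73573651456d7cc6c67c976950f5d66b56b46b37c75075c46af5036c07c57157b65d94fe4fd4ff7c45237c26e174d7bc7be4f04ef4ed4ee4f44f34f24f17ba7b97b84e87b763b4e474968273e7a070050c7b07607af7654de4dd4dc68e4e04d754e5344df5e27234d27ad58854d7757a94ce54c7a67a54cb6c27a47a34c866b7a166972454479f4bf79879679779c79b4b879379479579965965a4bb4b94ba4b44b34b64b75e956478e79078f4a54a878d78378178578278478878749f4a34a14a04a25ae5ac69171263956e77c5a771463363449458d58755858658577877777648f5c36e35c07715bb77048a53371153276d4f958b61976a61b6176186ea75f75e76275a75975c75b47647547347247747475375275175046b469602601463)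
 (.leaf 0x0))))
 (.node (.node (.node (.leaf 0x1821811801fc34913c15115017d34033f1391f31f22691f01ef1ee1bf32f32e1351e91e83271e61e51e431a3193181311df1de3131dc1db30f29230730630812e22618417e14d2fd1cb2ea2e92c11cf2e72e62eb1271251c51c42ac2ab2d92d81ed11e2a62a52a42a32a22a11a82b92b82142b72b62b52b42b32b22b11181171161151b712011f2a711d11c11b11a11929821629729610f19618f28f19319a28920519727527427319920c27827710910c10b10a2111051851d32001ff1fe1fd1041d21f717c26217a25f17817717617525317317217117016f16e16d23e23d23c0f021a10310116322c16522b22a2292280ea0e90e80e40e60e522421d0e10de21f0da0d91f91f821e0d61d121c0e20ef20420920820720620a0d10d00d20dc2010ff0fe1fa0d80d71f41381371361ea1341331321e013012f1d50c30db1000d50d41261c71281c60bd0bc1221211a71a61be1a41a31a21a11a01ac1ab1aa1a90b40b80b70b60b519b10d10e18a18918818b0af10710618617f16710216612b)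
 (.leaf 0x0))
 (.node (.leaf 0x5fe5ff6cf5286fb74b74a4594584574cd44f5db5da4e65a55a674848b44674743f65174548074143c5d273f67c4395b044073d43e5cd5f35f26a945f7386b67374284275e47334234a641f5dc41d5485b55b472e72d4167296b062872c72662641772a41441362441141070171f71e5ca5c97215a845d5e049b63d4e563c40540b59f5b26365ef5f071b71a7193fc44b5a971851371659a59b3ee4975045054d35603f56dc51150b5104866314d461c70d70c67863062e62d7077057063cf5087033ce3cd6d756f6fe6fc6fd6f44614603c93c83c63c756a57b6386bc6f83c05706f66f53bd6f33b86506f14556f05943ae6ef3ab6e56ec6eb6e962f3a83a73a96e76e63a03f96e448d67f6776736df46c39b5cb3983b73f46674bd6d838c38b5246d46d36d26d138938852152a45e52967e62161f3835275266c96cb6ca37f5375355fc53052f6c753f6a437b5383793863826c437e37d4cc4964955004474486bd59d46459158f6b73e13e068a5904295095806b14155965976ae3fe3fd517)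
 (.leaf 0x0)))
 (.node (.node (.leaf 0x28c5025015a140349a5513b24433f35935453f640830a3e749859935c4e335f46d27c2793f028428328236236550e50d4e12fa2f247e4934d648748233b4d04f84f747949249149058157e57d2642633c15745735715722de2612603be3ca56b25d3c256725b3bb3283b95655464a72562553b33f83b14c147d55f24f3ac55d3aa55555755624b3a53a44543a23a155239f39e3913905494e24d55472e824524424124023f39d39c3294c232354154023553a53923351f38438553151e38038152b51c51b23652223452023223123022f22e22d43042f3054e748e22144123823941a2c94492c63e22a92703e341829c3eb27e27b3ed20f2882122184fa4fb4fc20226e26d48426726634e4eb4ea4e94ec1fb2372432234da2424d94d84db1f61f521b33d26b3d733a33933826833628a2da4c74c62db4c51ec1eb31532c32b23a38f3ba1e732632532438d3224aa4af4ae4a94ad4ac4b01e31e21e131125432d4a41dd49e31749d1da29140728528b3f14011d61d81d737026a26f26c47b265)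
 (.leaf 0x0))
 (.node (.leaf 0x77b7d77fd76c79d7677587577567547667b174273c7f07f173072f7b372b72771d71c71771070f7c37047026f96fa6f76f27467686ee6e86e07ce7d87fe6da6d98096d66d56cd6c86c37d96c16bb7747726b97c86b27c66ac6a57e56a370e7137bf69f6de6a08016966956946926aa7ab6db7ed7647f468968776367970b7b578a67580780667267166e66d80566a68c66679a7fb66166079e65b66466266365c65d65e80380464e64d64f64a8027897aa78b6446436cc64764564964664873a77f77e8006377ff70970862c62b62a6767cb7257ca6256237206ce61e7fc6e261a6b87dd7fa7f56867b27ae61374f68861561475561060f6126117f97f87f775d7f660860760660576174e6a174c5fa5f968f5ee5eb7de5e870a6ed7f35e67345e368d5de7f27327807285d75d56be6bf7405d173b6dd7ef7ee5c85c75c27ec5be5c57397eb5c177366867b6ff5b376f5b75b67ea7e95a45a35a259e7e859c6ab6357c063a6207e77e67c158a5897ac74477a7795845825837e457f7e35b868b)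
 (.leaf 0x0)))))

/-- images under the inverse -/
noncomputable def u1 : Tbl :=
  (.node (.node (.node (.node (.leaf 0x13e13d0ab0a90a80fa0f90f80f70f60f50f40f30f20f116914a0ac0aa0a70a615e15d15c09615a15915b09514b15609109215508f14012c15315213b13a14e12a12909314114314208308d08a0a30890880c90c80c70c60c50c412d08e08c08b0870861241230760750741131121111101140710700b00b110806c0ad0ee0fd0ed0fc0fb0ec0eb06a0690cc06506406306209e09d09c09b0680670660610e70e30590d30df0e00560dd0c20ce0c10c00cd0cb0ca0bf0be0580570cf05205105004f04e07d07c07b05505405304d0bb0ba0b90430420b30b203f0450440ae06b0a50a409a0990980a20a10a009f09703b03803703605c03a03909408508409007a07907808208108007f07e07703102e02d02c04803002f06e06d07307202402506f02702602806005b05a05f05e05d01f01d01e03204c04704604b04a04901a01801903c03e03d04004101501301401603503303400f01b02b02902a00c02002302102200900b00a01c00e00d017011010012005007006008002003004000001)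
 (.leaf 0x7d48087a87a77a279179278c7bb77d))
 (.node (.leaf 0x6a66a86a735535635761d3d53d44f64f569a69969869769e69d69b69c34a34d34c34b69336f5f15ad6903ec39a3df68167d6856846833413453433426803da39958c59567a4d13d64cf6745f551a67044445c66c3333323304c44c338e3b04c06654be5434bc65865665765f6526534ab6556544b14b231b32031f31d31c4b532131e64b3b65cf64c31464163e64063f6423123104065af3fa4003ef5985195186323db3d23d13d062936e54f4125ed6222fe47a3d958e48135147f3d84855e74833dc3af4783014883d347c60a60e60d60960c60b2ee2ed2ec46a3ea54a60446e6032e52e34664655126002df5765755d85365b14c945a45b5f85f75f62d55623a34502d12cf4535f442d42c42b5a02c73675155165ec2c34ca3f72f536c5df5ea5dd2f65e52c52c45e12c22c02bf2be2bd2bc2bb2ba3723712c844e44d44c2dd50a5d45d32a82d72d65d02d42d32d25ce2d05cc2ce2cd36940a3615bf5c65065bd5bc48c5ba5b929e29b29a2995aa4194023f230d49c5ab2903fb409309499)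
 (.leaf 0x0)))
 (.node (.node (.leaf 0x2224891d02f02f33de2f72f42f943d4422f82fb3dd2ef2fc2f147147046f1c81ce1cd3971ca1c94682e44672e22e12e04623c542a2173313341c11c042542445642242142045241e45141c41b2af2ae2ad36842e44a36643b43a4454381cc4374364354344334324311b61b51b31b21b11b01af1ae1ad2272cc2cb2ca1c31c22193644261a51bd1bc1bb1ba1b91b829520e40f21536040e40d40c19f19d19c2a028d2801d930e4041982872943ff30b33519535a28e28130c3e63e53e428629327635e20b3e935d20d3e818d18c27f19219119021021336330335335230233c3041f133735034f3003cc3cb17b3c43c317925e3bf25c3bc25a2592582573b53b43161742522512503ad24e24d24c3a624a24924824723b39639534734439439339216c16b16a24632a36a36b34837c38a37a38737837737637537437316416216116015f2b01d42031583462ff36d22015414f15714c33e1682aa3582dc19e29d1b427135918727235b29f27a18e27d14414814714614519414922535413f183)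
 (.leaf 0x0))
 (.node (.leaf 0x72257a5785795fb7e17e256c7e05695685775667df56356155e7dc74355b55a6165597db55455355c55062776b6a27da54b7bd7315927b47d67d554257c7d37d253e53d53c53b6c55fd76e7d178652d52c52e7d05256ba6d051d7cf66f7cd6ad73573651456d7cc6c67c976950f5d66b56b46b37c75075c46af5036c07c57157b65d94fe4fd4ff7c45237c26e174d7bc7be4f04ef4ed4ee4f44f34f24f17ba7b97b84e87b763b4e474968273e7a070050c7b07607af7654de4dd4dc68e4e04d754e5344df5e27234d27ad58854d7757a94ce54c7a67a54cb6c27a47a34c866b7a166972454479f4bf79879679779c79b4b879379479579965965a4bb4b94ba4b44b34b64b75e956478e79078f4a54a878d78378178578278478878749f4a34a14a04a25ae5ac69171263956e77c5a771463363449458d58755858658577877777648f5c36e35c07715bb77048a53371153276d4f958b61976a61b6176186ea75f75e76275a75975c75b47647547347247747475375275175046b469602601463)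
 (.leaf 0x0))))
 (.node (.node (.node (.leaf 0x1821811801fc34913c15115017d34033f1391f31f22691f01ef1ee1bf32f32e1351e91e83271e61e51e431a3193181311df1de3131dc1db30f29230730630812e22618417e14d2fd1cb2ea2e92c11cf2e72e62eb1271251c51c42ac2ab2d92d81ed11e2a62a52a42a32a22a11a82b92b82142b72b62b52b42b32b22b11181171161151b712011f2a711d11c11b11a11929821629729610f19618f28f19319a28920519727527427319920c27827710910c10b10a2111051851d32001ff1fe1fd1041d21f717c26217a25f17817717617525317317217117016f16e16d23e23d23c0f021a10310116322c16522b22a2292280ea0e90e80e40e60e522421d0e10de21f0da0d91f91f821e0d61d121c0e20ef20420920820720620a0d10d00d20dc2010ff0fe1fa0d80d71f41381371361ea1341331321e013012f1d50c30db1000d50d41261c71281c60bd0bc1221211a71a61be1a41a31a21a11a01ac1ab1aa1a90b40b80b70b60b519b10d10e18a18918818b0af10710618617f16710216612b)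
 (.leaf 0x0))
 (.node (.leaf 0x5fe5ff6cf5286fb74b74a4594584574cd44f5db5da4e65a55a674848b44674743f65174548074143c5d273f67c4395b044073d43e5cd5f35f26a945f7386b67374284275e47334234a641f5dc41d5485b55b472e72d4167296b062872c72662641772a41441362441141070171f71e5ca5c97215a845d5e049b63d4e563c40540b59f5b26365ef5f071b71a7193fc44b5a971851371659a59b3ee4975045054d35603f56dc51150b5104866314d461c70d70c67863062e62d7077057063cf5087033ce3cd6d756f6fe6fc6fd6f44614603c93c83c63c756a57b6386bc6f83c05706f66f53bd6f33b86506f14556f05943ae6ef3ab6e56ec6eb6e962f3a83a73a96e76e63a03f96e448d67f6776736df46c39b5cb3983b73f46674bd6d838c38b5246d46d36d26d138938852152a45e52967e62161f3835275266c96cb6ca37f5375355fc53052f6c753f6a437b5383793863826c437e37d4cc4964955004474486bd59d46459158f6b73e13e068a5904295095806b14155965976ae3fe3fd517)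
 (.leaf 0x0)))
 (.node (.node (.leaf 0x28c5025015a140349a5513b24433f35935453f640830a3e749859935c4e335f46d27c2793f028428328236236550e50d4e12fa2f247e4934d648748233b4d04f84f747949249149058157e57d2642633c15745735715722de2612603be3ca56b25d3c256725b3bb3283b95655464a72562553b33f83b14c147d55f24f3ac55d3aa55555755624b3a53a44543a23a155239f39e3913905494e24d55472e824524424124023f39d39c3294c232354154023553a53923351f38438553151e38038152b51c51b23652223452023223123022f22e22d43042f3054e748e22144123823941a2c94492c63e22a92703e341829c3eb27e27b3ed20f2882122184fa4fb4fc20226e26d48426726634e4eb4ea4e94ec1fb2372432234da2424d94d84db1f61f521b33d26b3d733a33933826833628a2da4c74c62db4c51ec1eb31532c32b23a38f3ba1e732632532438d3224aa4af4ae4a94ad4ac4b01e31e21e131125432d4a41dd49e31749d1da29140728528b3f14011d61d81d737026a26f26c47b265)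
 (.leaf 0x0))
 (.node (.leaf 0x77b7d77fd76c79d7677587577567547667b174273c7f07f173072f7b372b72771d71c71771070f7c37047026f96fa6f76f27467686ee6e86e07ce7d87fe6da6d98096d66d56cd6c86c37d96c16bb7747726b97c86b27c66ac6a57e56a370e7137bf69f6de6a08016966956946926aa7ab6db7ed7647f468968776367970b7b578a67580780667267166e66d80566a68c66679a7fb66166079e65b66466266365c65d65e80380464e64d64f64a8027897aa78b6446436cc64764564964664873a77f77e8006377ff70970862c62b62a6767cb7257ca6256237206ce61e7fc6e261a6b87dd7fa7f56867b27ae61374f68861561475561060f6126117f97f87f775d7f660860760660576174e6a174c5fa5f968f5ee5eb7de5e870a6ed7f35e67345e368d5de7f27327807285d75d56be6bf7405d173b6dd7ef7ee5c85c75c27ec5be5c57397eb5c177366867b6ff5b376f5b75b67ea7e95a45a35a259e7e859c6ab6357c063a6207e77e67c158a5897ac74477a7795845825837e457f7e35b868b)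
 (.leaf 0x0)))))

/-- images -/
noncomputable def t2 : Tbl :=
  (.node (.node (.node (.node (.leaf 0xa40fe0fd17e17d0a217b0a11790a009f17416c16b16a09b09a16516315e15d0990981150970db0dc09515815715014314114d12d0e50e608d0890a814f0880a914c14a08508414409013f13e08013c13908213508113107f07e07a12812612b12412307907807712212111e11811711607007210f06e06d1090731050aa1020ac0d50d80670661000ff0600fa0f80f60f505f05e05d0f00ef0ea0e90e705a0e40940680580570cf05508c0da08e06a0690d90d60540530d20d104c0c90c70cc0c50c404b04a0490c30bd0bc0bb0460750740ae0b30400b40410b10b003d03c08b08a0930a70a60650640630620390a309e09d09c03403e09603209209103108f08708605205103b04f04e02f08307d07c07b02a04707604404502602506f07102205b06c06b05002006103803703602305c02105905601b04d02e02d02c02b04802902801604304201303503f03303a01101001d01203000e00d01801702700b00a02401c01f01e00801a01900601501400500f00400c009007001002003000)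
 (.leaf 0x7d57c07e27da7a47df7de7d97817e1))
 (.node (.leaf 0x6a83564863576a63546a56a347f4744724a34bb66464834d34c34b46c6936966956943494376926913455e268b68a68e3443433424696805ae3e03e133f53167d67c33b33a6796766753366716723334c94ca66e66d3f33f666a66832b4c161232661165e6104f365f66131f61847c4b061765b31e31c4b54af6566534a93184aa4ac64f64e64d31464a4f464264464331049e63e63b63963763663549763463330548862c62b62a30048e6256246232fe4134932fb4fd61e3023042f85b661a4f72f347d4b634f3522f031d2f12ef6134f63224f560446e46f4702e94ed2e72e64dc2eb4674495982e12e04625794575fc4022dd59b5fb5f92d72d64605d04554543eb5ce5cc5972ce5323743735ee5e54664284272c45e159a2c23e55d55d72bd5e83ea2b85e45e32b73314e75e05495de42c42b2f72b32b25dc5d94334325374294484475d25d156a2a63a43a55a72a45cd2a35965cb2a25c95c85c729e4155c348929b5c25c05be5bb5b85b72965b351f5b02935ad2995aa53c45e28e2d2)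
 (.leaf 0x0)))
 (.node (.node (.leaf 0x1d148a21c3034871cf3e84824311cd1eb35347e1cb4774794761ca1c934e46839246d1c746b46a1c62c61c53ed4644631c43c745d1c33f72da2193644594581bd2d42d34001bb2c81ba44f2441b91b82281c22d01b52e42a84461b34433972323f223043f22e22d27920e43c4392153601ce43042f2ad1a93692122b12043581a71a62c51be4233bb41f41d41a3591a01a44161a21a14123cd4051ac1aa40b1a81d540719a19919c28940130819719628a28f3fc30630719328432e3f43f13f018f3ee1923d71911902ba21021330e20635b2081891883df3d33d83db18326b3d42692682671843cf17c38b26217a3c525f3c11783be17736e3ba3b73b81761752542533b23b03af1723ab3a93a81703a33a039d39c16d1732cd17139916f16e1b023e23d23c23b23a23923816638c1643891622c03832be37f2bc2bb37b3793723712ca15c15a15915b15615518515421f34033e2fd14b32c2d93681491ab2b61482772ae18b27835d2b91471461451941a327318a2751422ac140355153351)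
 (.leaf 0x0))
 (.node (.leaf 0x57b6fd6fe57374a56e56d7e056b7d05745676f35647907716ef5855eb7777dd5567535a06e77d36e56e45c573254d54c7be54a7d85455445435427d45405ef5f06d471b71871a7195355f169869a6c96586cb5267cf59159f52b51b7ce51a6c05165157377a85137c951167b5107c850b50a6ac50872e7c650659977e6b355f62061f4ff5da4fb4f97c34f878a6a17bf5477ba7b97bd7b86cc52c6cd7bb4eb4ea4e94ec4e64e563d7b64e07387b44e24e166960760660550d50e76176f7204db7006214d54d46b867a4d17ab7aa4d04cf6747a74cc4cd7a378c4c84c77a26604c46894c37a05bf6654f279c79e4b966b4ba4bd79979a4b37637726ca7964ae6527944ad6557927914a84a74a678d5fa4a47884f178b7877894a14a04a278678378249d69078049c77f49b77d49a49949849649550077b60861676875749249149058173977477348d48c48b5bc67e6aa6a948576c7347234807694b74b462f7657644754c04be4bc76060a75d60c60b60e60963068868768647174f74d709600)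
 (.leaf 0x0))))
 (.node (.node (.node (.leaf 0x3381f333913d34a15234834613b13a34114e1fe33c1383353373341371362f51ea32a32913432132332013313231b1e031631513031231112f30b30a30912e29412c30112a2ff1292fa2b42f61272f22ee2ed1252e82e52e32df2dc2c912011f1bf2a72d51bc2d12cf2cc2cb11911d2c711c2c311b11a23f16116015f2982162972b02952aa2a911329f20929d29c2a011211111029011429229110e28c28b10d20a28527d27b27a27f10c10b10a21120727227110818622126626c18218118017f0fc0fb2640f92610f725d25b2562550f424524f24324b2412402460f30f20f11691681672370ee2350ed2331af1ae1ad0ec0eb2272242262250e30e22232222202011fa1010e10d71f40de0d421b0d321721420d20c20b0d00e02050df2030ce0cd1fc0cb1f71f60ca1f11ed1ec0c81e71e31e20c61dd1da1d60dd1d40c01d21d00c21cc0c11c80bf0be0ba0b91c11c00b81b61b41b21b11b70b70b60b50e819b1a519f19e19d0b219819518e18d18c0af1871031040ad1061070ab1510a5)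
 (.leaf 0x0))
 (.node (.leaf 0x57857a5a845f45b64b45a73357057271d5055ac58e6ce6d56d644b5c173f6ed73d74643e73074244a43b43a4e344543673e43473c42e73a6a742d51c4405d644173673542642545672f45241e45141b56f41941841772a6e35c44144115ed41066640f72862240e72772540d40c48172272140a52952a4085af4da4065f371f4045a25fd42055371c3fe3fd5a95396e86c53fb7173fa45c4446ae46545041c3e97157143e46c65903e25f27103ec70f3d63d570a55955a6ee3d23d05236297043ce7027013cb6ff5fe4615ff51e3c83c66f56fc5f63c35f75ca6fa6f93c06f742452f5306f43b95656f23b63b154f3ae6ab3ac55d3aa3d15865873a75576ea5553a15a655239f39e56139a6e16e03986de43539569f5466dc6db6da6d953f6d75413a25024035015385a153a42a3866cf38538444e4d65685693813806996c45b15b237e3c96c837d37c58238a37a3874095773755d86c36c15185193706bf6be36c6bb5126b96b73656846853636b56b43626b23616af5f435f35e53d53b632)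
 (.leaf 0x0)))
 (.node (.node (.leaf 0x30c5a45a328859e59c3f93f82db4c53ef2824c62bf2812803f527e2e258c45343d5952f930d3b34425923e358f4d84d92703dd3de3d926d3773dc26e27c58a58926a26f58455b58326557f29a3cc57c3ca5275762de5752603c45713c225e56c3bf25c3823bc2a52595662572585633b53b43e62525622512505603ad55e24e55c24d24c5583a642142224a53e55424955155024824737654e24254b2c13965483943932ea39139038f38e38d23626352223435a5205365345332313bd52e52d22f52852552422c52122b36f3da39b51d44d44c22a22951737825a36d5143253242af21836736650f2d850c5095072b550450320f35c2743882a12ab4fc4fe2024fa2f447a20033d47b2ec4f04ef4ee1fb4e81f93471f84e44df4de4dd1f521e4d721d3501f24d34d21fd1ff1ef4ce1f01ee4cb33043833232f28332d21a4c21e91e83283274bf36b36a1e54731e61e44b84b24784b11e131a3194ab3171df1de4a53131dc1db49f30f2763e73ff1d91d81d728d2862874944832fc4841d348f)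
 (.leaf 0x0))
 (.node (.leaf 0x7e77fe7797c47677f67ec7dc75e7fa7517477ac74573b76b76a78f72b7f972c7a57d27cc7ff7407067c77038078006f88048036eb7f87488068026dd74c7938096d86e67e97986f66c76c27a67e87297ae6ba6b67e46b07c57fc6a470c7c18086a06df69c7bc69769e69d69b76e68f74468c7587567437b07667ca7ad7f36786777a96bc6737cd7ea80567066c7a166772d66275466379b65c65d7d17956577976547d66516506f17ee74b64c66f6476a264564964664178478564063f80163c63a6ad63871663177a7fd7076ec70570d6276266596f07266827b771e61d7f07ef61962e7fb7af61561465a75568360f7507f760d75c75275a7597b362d7b276279d6e975b7f575f60370e6027d778e6fb7117db7f45e97f27b57b15e670b7e65ec5df5ea5dd7f15db62868d6bd5d45d361c5f86e27315e75cf6b179f7eb7ed5c67cb5bd5ba7705b972461b5b55b46815ab76d5f55a56d36d16d06d259d77c59459371371274958d58b74e7757c27415886017087787e57765807e357e57d67f)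
 (.leaf 0x0)))))

/-- images under the inverse -/
noncomputable def u2 : Tbl :=
  (.node (.node (.node (.node (.leaf 0xa40fe0fd17e17d0a217b0a11790a009f17416c16b16a09b09a16516315e15d0990981150970db0dc09515815715014314114d12d0e50e608d0890a814f0880a914c14a08508414409013f13e08013c13908213508113107f07e07a12812612b12412307907807712212111e11811711607007210f06e06d1090731050aa1020ac0d50d80670661000ff0600fa0f80f60f505f05e05d0f00ef0ea0e90e705a0e40940680580570cf05508c0da08e06a0690d90d60540530d20d104c0c90c70cc0c50c404b04a0490c30bd0bc0bb0460750740ae0b30400b40410b10b003d03c08b08a0930a70a60650640630620390a309e09d09c03403e09603209209103108f08708605205103b04f04e02f08307d07c07b02a04707604404502602506f07102205b06c06b05002006103803703602305c02105905601b04d02e02d02c02b04802902801604304201303503f03303a01101001d01203000e00d01801702700b00a02401c01f01e00801a01900601501400500f00400c009007001002003000)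
 (.leaf 0x7d57c07e27da7a47df7de7d97817e1))
 (.node (.leaf 0x6a83564863576a63546a56a347f4744724a34bb66464834d34c34b46c6936966956943494376926913455e268b68a68e3443433424696805ae3e03e133f53167d67c33b33a6796766753366716723334c94ca66e66d3f33f666a66832b4c161232661165e6104f365f66131f61847c4b061765b31e31c4b54af6566534a93184aa4ac64f64e64d31464a4f464264464331049e63e63b63963763663549763463330548862c62b62a30048e6256246232fe4134932fb4fd61e3023042f85b661a4f72f347d4b634f3522f031d2f12ef6134f63224f560446e46f4702e94ed2e72e64dc2eb4674495982e12e04625794575fc4022dd59b5fb5f92d72d64605d04554543eb5ce5cc5972ce5323743735ee5e54664284272c45e159a2c23e55d55d72bd5e83ea2b85e45e32b73314e75e05495de42c42b2f72b32b25dc5d94334325374294484475d25d156a2a63a43a55a72a45cd2a35965cb2a25c95c85c729e4155c348929b5c25c05be5bb5b85b72965b351f5b02935ad2995aa53c45e28e2d2)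
 (.leaf 0x0)))
 (.node (.node (.leaf 0x1d148a21c3034871cf3e84824311cd1eb35347e1cb4774794761ca1c934e46839246d1c746b46a1c62c61c53ed4644631c43c745d1c33f72da2193644594581bd2d42d34001bb2c81ba44f2441b91b82281c22d01b52e42a84461b34433972323f223043f22e22d27920e43c4392153601ce43042f2ad1a93692122b12043581a71a62c51be4233bb41f41d41a3591a01a44161a21a14123cd4051ac1aa40b1a81d540719a19919c28940130819719628a28f3fc30630719328432e3f43f13f018f3ee1923d71911902ba21021330e20635b2081891883df3d33d83db18326b3d42692682671843cf17c38b26217a3c525f3c11783be17736e3ba3b73b81761752542533b23b03af1723ab3a93a81703a33a039d39c16d1732cd17139916f16e1b023e23d23c23b23a23923816638c1643891622c03832be37f2bc2bb37b3793723712ca15c15a15915b15615518515421f34033e2fd14b32c2d93681491ab2b61482772ae18b27835d2b91471461451941a327318a2751422ac140355153351)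
 (.leaf 0x0))
 (.node (.leaf 0x57b6fd6fe57374a56e56d7e056b7d05745676f35647907716ef5855eb7777dd5567535a06e77d36e56e45c573254d54c7be54a7d85455445435427d45405ef5f06d471b71871a7195355f169869a6c96586cb5267cf59159f52b51b7ce51a6c05165157377a85137c951167b5107c850b50a6ac50872e7c650659977e6b355f62061f4ff5da4fb4f97c34f878a6a17bf5477ba7b97bd7b86cc52c6cd7bb4eb4ea4e94ec4e64e563d7b64e07387b44e24e166960760660550d50e76176f7204db7006214d54d46b867a4d17ab7aa4d04cf6747a74cc4cd7a378c4c84c77a26604c46894c37a05bf6654f279c79e4b966b4ba4bd79979a4b37637726ca7964ae6527944ad6557927914a84a74a678d5fa4a47884f178b7877894a14a04a278678378249d69078049c77f49b77d49a49949849649550077b60861676875749249149058173977477348d48c48b5bc67e6aa6a948576c7347234807694b74b462f7657644754c04be4bc76060a75d60c60b60e60963068868768647174f74d709600)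
 (.leaf 0x0))))
 (.node (.node (.node (.leaf 0x3381f333913d34a15234834613b13a34114e1fe33c1383353373341371362f51ea32a32913432132332013313231b1e031631513031231112f30b30a30912e29412c30112a2ff1292fa2b42f61272f22ee2ed1252e82e52e32df2dc2c912011f1bf2a72d51bc2d12cf2cc2cb11911d2c711c2c311b11a23f16116015f2982162972b02952aa2a911329f20929d29c2a011211111029011429229110e28c28b10d20a28527d27b27a27f10c10b10a21120727227110818622126626c18218118017f0fc0fb2640f92610f725d25b2562550f424524f24324b2412402460f30f20f11691681672370ee2350ed2331af1ae1ad0ec0eb2272242262250e30e22232222202011fa1010e10d71f40de0d421b0d321721420d20c20b0d00e02050df2030ce0cd1fc0cb1f71f60ca1f11ed1ec0c81e71e31e20c61dd1da1d60dd1d40c01d21d00c21cc0c11c80bf0be0ba0b91c11c00b81b61b41b21b11b70b70b60b50e819b1a519f19e19d0b219819518e18d18c0af1871031040ad1061070ab1510a5)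
 (.leaf 0x0))
 (.node (.leaf 0x57857a5a845f45b64b45a73357057271d5055ac58e6ce6d56d644b5c173f6ed73d74643e73074244a43b43a4e344543673e43473c42e73a6a742d51c4405d644173673542642545672f45241e45141b56f41941841772a6e35c44144115ed41066640f72862240e72772540d40c48172272140a52952a4085af4da4065f371f4045a25fd42055371c3fe3fd5a95396e86c53fb7173fa45c4446ae46545041c3e97157143e46c65903e25f27103ec70f3d63d570a55955a6ee3d23d05236297043ce7027013cb6ff5fe4615ff51e3c83c66f56fc5f63c35f75ca6fa6f93c06f742452f5306f43b95656f23b63b154f3ae6ab3ac55d3aa3d15865873a75576ea5553a15a655239f39e56139a6e16e03986de43539569f5466dc6db6da6d953f6d75413a25024035015385a153a42a3866cf38538444e4d65685693813806996c45b15b237e3c96c837d37c58238a37a3874095773755d86c36c15185193706bf6be36c6bb5126b96b73656846853636b56b43626b23616af5f435f35e53d53b632)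
 (.leaf 0x0)))
 (.node (.node (.leaf 0x30c5a45a328859e59c3f93f82db4c53ef2824c62bf2812803f527e2e258c45343d5952f930d3b34425923e358f4d84d92703dd3de3d926d3773dc26e27c58a58926a26f58455b58326557f29a3cc57c3ca5275762de5752603c45713c225e56c3bf25c3823bc2a52595662572585633b53b43e62525622512505603ad55e24e55c24d24c5583a642142224a53e55424955155024824737654e24254b2c13965483943932ea39139038f38e38d23626352223435a5205365345332313bd52e52d22f52852552422c52122b36f3da39b51d44d44c22a22951737825a36d5143253242af21836736650f2d850c5095072b550450320f35c2743882a12ab4fc4fe2024fa2f447a20033d47b2ec4f04ef4ee1fb4e81f93471f84e44df4de4dd1f521e4d721d3501f24d34d21fd1ff1ef4ce1f01ee4cb33043833232f28332d21a4c21e91e83283274bf36b36a1e54731e61e44b84b24784b11e131a3194ab3171df1de4a53131dc1db49f30f2763e73ff1d91d81d728d2862874944832fc4841d348f)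
 (.leaf 0x0))
 (.node (.leaf 0x7e77fe7797c47677f67ec7dc75e7fa7517477ac74573b76b76a78f72b7f972c7a57d27cc7ff7407067c77038078006f88048036eb7f87488068026dd74c7938096d86e67e97986f66c76c27a67e87297ae6ba6b67e46b07c57fc6a470c7c18086a06df69c7bc69769e69d69b76e68f74468c7587567437b07667ca7ad7f36786777a96bc6737cd7ea80567066c7a166772d66275466379b65c65d7d17956577976547d66516506f17ee74b64c66f6476a264564964664178478564063f80163c63a6ad63871663177a7fd7076ec70570d6276266596f07266827b771e61d7f07ef61962e7fb7af61561465a75568360f7507f760d75c75275a7597b362d7b276279d6e975b7f575f60370e6027d778e6fb7117db7f45e97f27b57b15e670b7e65ec5df5ea5dd7f15db62868d6bd5d45d361c5f86e27315e75cf6b179f7eb7ed5c67cb5bd5ba7705b972461b5b55b46815ab76d5f55a56d36d16d06d259d77c59459371371274958d58b74e7757c27415886017087787e57765807e357e57d67f)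
 (.leaf 0x0)))))

/-- images -/
noncomputable def t3 : Tbl :=
  (.node (.node (.node (.node (.leaf 0x1830a30a20a009f0f809e0fa09d17817709c17217016d1091681670a115216616416209615c0e60e514d09409309115609808f1550d808e1540a70dc08a10408708614b14914808314208213a13d07f07e13807d13407c13012f12e12c08107812a12912712507607307207111210b11911511306f10e10d06c10806b1030650640630620d91010a40a50fe0fd0ed0fc0fb0f90f70f405c05b0990df05d0e80590e30e20660e105e0de0db0520510530d704f04e0d50d40840850d00ce0c104a0cb0ca0c80c60480470790c00490bb0430420ba0b90b803f0b206e0400af0ad06906a03a0670920ab0aa0a90a803603505f09009709b09a03309505705803703005408b08d08c02d08908802c02b04b08007707b07a02904502507507404106d07002302102001f06801e03805606106001c05a01b01a05501902e05004d04c01704601601501404402403e01203d03c03b03900f03403203102f00c02a02802702600902201101001d00e00d01800b00a013004007003002008006005001000)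
 (.leaf 0x8067d87a68097e77e57f97837b9797))
 (.node (.leaf 0x6ac6ab3556a75184fa35135067866b6696356a26a16a06644ba66e34a69c3d23d14e956c34642b51666a50467346234268d68c6893416833404126815d533c67767e49467b3393373385b35f442f67143a5da33032f64b66c32c32b6675ec33d6663253233243204ef4b76604b965e4a063731c65a65947b65831964065463f31a3173323b45ce48f31331264831d4b548a64130f30e30d30c30b30a3094963564d363134d34c4904a52ff39034351549f2fd6186212fa2f961d61b61c2f72f66195bd2f22f14b06175bf2ef2ee6162ed46a60660f60a60d2eb6095052e86084742e560343b6026015f35c04e13ee45e4504605a95f25f05a55fa5842d55f65283a35d831542c45f5f52cb2cf5f12c75a02dc5ed5ad3b03292c45512c133e5e95eb2bb5e75e64674ca5e22b55462b33482b23945dd2b13b54cc2af2ae4514e62ab2a95d65c92a741e4215684204244225cf4255b02a22a159d2a035b3d357929c3dc5c44d929a2992982975ba5b95b62952942935af2915ac28f28e28d59828b)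
 (.leaf 0x0)))
 (.node (.node (.leaf 0x48e1d04892e72f34864851ce4814801cc2ea2fb47d47c1ca4784774751c846f2f41cd46c2fc1c94692e22c52e42e12e03df1c31c24491c02273ff3312d02d34572d22d62d432d2d744d1b91b82c844e1b71b62cc44b1b42e344438f1b14423b71af2371ae24143e1ad3681ac1ab35d4381aa43643443133442e42d1a83c542a2394291a54261a41a31a21a141c41b41920619f26d41519d41141040f40e19b40a40940819e4061984044034021c14001953351943fb3f63fa1921911903f33f224618e3ed18d1b23eb18c3e93e823b3e63e53e43e33e218730723a29d2383da1823d73d63d518017e3ce17b3cb3c91793c317c3c017a3bd3bb1763b91753723b61743161733b13a43ae1713aa3a13a716f16e39f39e27f39b16c17d16b2bc39816a39534439227626e2aa26c2be37c38b37a38838616138216037e37d15e15d37737515f2da37015820336f36e22122015321c18621e36c14a36a1d73671d935236636514736336236114535f35e35c30814335918129f35a14122413f35413e)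
 (.leaf 0x0))
 (.node (.leaf 0x7b778d7455c66c76946d96936475735d05726d15d17d073871855b5587dc57160e5557ce7cd5526d37da5647116995507d27175487c07d771c6f954168b66d54b53a6e57d16f35385fd54e53c52e6c452b7865636fb5245216cb7467495545177737607c45b565c53f7cb50f7695d477f6b450976675c5bc6af5875004ff4fe7b67287154fc7c55145227544f34f24f16637986564ec7a47146e174d7bc5a37bb6fa6f872268a7a166f65b4df4de6d76914dd7367b16797a07b04db7994d873776e4d473e5e14d27236864f74d55bb7a97214e27a84cb7a568f4ee6d64c54f64e44f571f4c24bf79f4f069f77d79d4b879b4b66466bb68e4b24b14af65269d77c4ac7936575df62762a76761a6294c657a78c4a26f765d77b78a76c62249e4ad4ab78163a5ab50c63d77e57d4b46284f45e373f59549350374377a77976861564f64c63665060077177577264248776b53176d48448248364d47f48847a47662b6127636146055074726ea47075175b47146e46b757473611753468466465626)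
 (.leaf 0x0))))
 (.node (.node (.node (.leaf 0x30414634f34e13c3491f81f934734513933f1dc1e833b33a1373361be33313532e1df1f232832613332232131f1313181e91363141f313231021630321814412d30512b30015b2fe1282f82e92f51262f02e62ec1241231221212de2dd28c2db11e1ed11d11c11b11a2ce2cd2ca2c91182c611727b2c21162bf2bd2ba2b82b72b41142ad12019a2a82a62a52a42a311029e29229b10f2961a618829018a11f28a28810c28428328210a27e27c27916919711119927021d1021000ff26a20726614e26524325e26325c2600f60f52592572542520f324e0f224a2490f124424223f18b0ef0ee0eb1630ea1650e923122f22822c22b0e71d115a1592251050e00dd0da21f0ec15015114c17f0e414f0d321a0d20d12121fe20e1d62090cf20413b2022000cc1fb1400cd1f50c91ef1de1eb0c71e51db1e10c50c40c31d50c21d30bf0be1cf0bd1cb0bc1c71c61c51c41a71961bf1bd1bc1bb1ba0b51b51b31b00b41a90b30b71891a019c0b10b01930b618f0f00ae1071061570d60ac1850a6184)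
 (.leaf 0x0))
 (.node (.leaf 0x5a65ef6cf56252545958974b70745644f4cd46445c44c45b5fe59c4484c143f74744057843d43c74174063443967c5cc6515b843273b5124c97394535614284d76b65b47346f26f541f4a67325e073156d42773072f6fc70b4135a758372046347972b47e6b067640d40c5de72440b6bc5d34ce59b59f41d40771244740563c71e45d59a5c35ff45a71d6963fc71944a5b155e41a5ee5b25a85764013ec3ea6323e75027135803e13e03de3db5343d870e5f93d46ae7097084585c23cf7065917043cc6387003ca64a4165e83c65995363c46f66f46eb3c23c13cd5ca4e83bf3be3c84233bc53b5576e36c85fc5d73f03ad59e52053d6ee3c73a96ed5653a66e96c13a06e64436e039c6ce39939a6d53973966dd39343739138e38d38c6d838a6ba38955c6cd5666d43876d053057538558c3d938361f5373816cc51d37f6ca52738445552a3805fb6c637b6a46c555d37837652d3743733715194fb6c04e548b6a53695db50850d6b850b51063b50e3646b351161036046d4e36305933b26ad)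
 (.leaf 0x0)))
 (.node (.node (.leaf 0x2d93f53f85a22872853f73fd3f92863fe39d2812803ef5603f146127d59727a59627827759427527427327227159058f2df58e3af41458d26b53358b2692682675884174eb4ea3d058226456e57e26257b26156955a5772ac57425f57056f25d56b56a25b56725a3272583a82c02554304a73ac5012514463dd24f55f3b337924d5593b824b5563a22504543a524c5532482473f454f24554c54d24054a54923e43354723c54548d2c354454354223554053e23353923253552953223052f52652c22e22d2365232343ab51f22a51e22951c51b25651a22622322236d21b3022195132b921721421350a21121020f50620d20c2b620b4182052083063574954fd20132a2154f94f81fd1fc49249134b4ed1fa4351f74e71f623d48c4e04dc4da1f44414c04d61f11f04d14cf4d01ee2892b01ec4a82d84c84c71ea2d14c44c33534451e73ba1e64be4bc4bd1e41e34bb1e23114a14b33014aa4ae1e04a92534521dd4a44a331e1da49d49c49b49a49949849720a26f3581d41ff1d836b31b1d2)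
 (.leaf 0x0))
 (.node (.leaf 0x7847b47c678779c7908037527e37c27c77af79e7eb7ed7b372e72d7f172a7f271b7d67bd8057448047037f77d57b87857337cf7786ec7d96e47db8086db7e97e27a77a36df6d26f17de6e86e77956b97707747bf7f57fd6a66bd7917f670d6dc7c87967e869769571a8017e16ff6aa73a7fe7f078b6876847f47627657297807886756727d480767069b7d37106906856657f36617fb65f74268269e8007be7cc7826537587c37fa76a7766fe6497b26447647aa7fc6c97e07ff80279463e7ab6b563966265564562e62d7dd75f78e6247c96bf6236257ca72667f61e64362078f6b762c64e6b27ad7896137ae7556be77775a74f6b160b75e7507926077027616a36047f860c75975d74c69874e5f870c6c27165ea6c36fd7e662f79a5e55e463367d7017275dc7b55d96f06806887255d27df5cd5cb5c85c77ef7ee7055be7ec7ac6a973c76f7355b767a6926745c16685aa5a46da7ea7ba5a16ef6de7486a869a5925ae6e27a270a58a7c174a5c570f5865855f758172c57f7e475673d57c)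
 (.leaf 0x0)))))

/-- images under the inverse -/
noncomputable def u3 : Tbl :=
  (.node (.node (.node (.node (.leaf 0x1830a30a20a009f0f809e0fa09d17817709c17217016d1091681670a115216616416209615c0e60e514d09409309115609808f1550d808e1540a70dc08a10408708614b14914808314208213a13d07f07e13807d13407c13012f12e12c08107812a12912712507607307207111210b11911511306f10e10d06c10806b1030650640630620d91010a40a50fe0fd0ed0fc0fb0f90f70f405c05b0990df05d0e80590e30e20660e105e0de0db0520510530d704f04e0d50d40840850d00ce0c104a0cb0ca0c80c60480470790c00490bb0430420ba0b90b803f0b206e0400af0ad06906a03a0670920ab0aa0a90a803603505f09009709b09a03309505705803703005408b08d08c02d08908802c02b04b08007707b07a02904502507507404106d07002302102001f06801e03805606106001c05a01b01a05501902e05004d04c01704601601501404402403e01203d03c03b03900f03403203102f00c02a02802702600902201101001d00e00d01800b00a013004007003002008006005001000)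
 (.leaf 0x8067d87a68097e77e57f97837b9797))
 (.node (.leaf 0x6ac6ab3556a75184fa35135067866b6696356a26a16a06644ba66e34a69c3d23d14e956c34642b51666a50467346234268d68c6893416833404126815d533c67767e49467b3393373385b35f442f67143a5da33032f64b66c32c32b6675ec33d6663253233243204ef4b76604b965e4a063731c65a65947b65831964065463f31a3173323b45ce48f31331264831d4b548a64130f30e30d30c30b30a3094963564d363134d34c4904a52ff39034351549f2fd6186212fa2f961d61b61c2f72f66195bd2f22f14b06175bf2ef2ee6162ed46a60660f60a60d2eb6095052e86084742e560343b6026015f35c04e13ee45e4504605a95f25f05a55fa5842d55f65283a35d831542c45f5f52cb2cf5f12c75a02dc5ed5ad3b03292c45512c133e5e95eb2bb5e75e64674ca5e22b55462b33482b23945dd2b13b54cc2af2ae4514e62ab2a95d65c92a741e4215684204244225cf4255b02a22a159d2a035b3d357929c3dc5c44d929a2992982975ba5b95b62952942935af2915ac28f28e28d59828b)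
 (.leaf 0x0)))
 (.node (.node (.leaf 0x48e1d04892e72f34864851ce4814801cc2ea2fb47d47c1ca4784774751c846f2f41cd46c2fc1c94692e22c52e42e12e03df1c31c24491c02273ff3312d02d34572d22d62d432d2d744d1b91b82c844e1b71b62cc44b1b42e344438f1b14423b71af2371ae24143e1ad3681ac1ab35d4381aa43643443133442e42d1a83c542a2394291a54261a41a31a21a141c41b41920619f26d41519d41141040f40e19b40a40940819e4061984044034021c14001953351943fb3f63fa1921911903f33f224618e3ed18d1b23eb18c3e93e823b3e63e53e43e33e218730723a29d2383da1823d73d63d518017e3ce17b3cb3c91793c317c3c017a3bd3bb1763b91753723b61743161733b13a43ae1713aa3a13a716f16e39f39e27f39b16c17d16b2bc39816a39534439227626e2aa26c2be37c38b37a38838616138216037e37d15e15d37737515f2da37015820336f36e22122015321c18621e36c14a36a1d73671d935236636514736336236114535f35e35c30814335918129f35a14122413f35413e)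
 (.leaf 0x0))
 (.node (.leaf 0x7b778d7455c66c76946d96936475735d05726d15d17d073871855b5587dc57160e5557ce7cd5526d37da5647116995507d27175487c07d771c6f954168b66d54b53a6e57d16f35385fd54e53c52e6c452b7865636fb5245216cb7467495545177737607c45b565c53f7cb50f7695d477f6b450976675c5bc6af5875004ff4fe7b67287154fc7c55145227544f34f24f16637986564ec7a47146e174d7bc5a37bb6fa6f872268a7a166f65b4df4de6d76914dd7367b16797a07b04db7994d873776e4d473e5e14d27236864f74d55bb7a97214e27a84cb7a568f4ee6d64c54f64e44f571f4c24bf79f4f069f77d79d4b879b4b66466bb68e4b24b14af65269d77c4ac7936575df62762a76761a6294c657a78c4a26f765d77b78a76c62249e4ad4ab78163a5ab50c63d77e57d4b46284f45e373f59549350374377a77976861564f64c63665060077177577264248776b53176d48448248364d47f48847a47662b6127636146055074726ea47075175b47146e46b757473611753468466465626)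
 (.leaf 0x0))))
 (.node (.node (.node (.leaf 0x30414634f34e13c3491f81f934734513933f1dc1e833b33a1373361be33313532e1df1f232832613332232131f1313181e91363141f313231021630321814412d30512b30015b2fe1282f82e92f51262f02e62ec1241231221212de2dd28c2db11e1ed11d11c11b11a2ce2cd2ca2c91182c611727b2c21162bf2bd2ba2b82b72b41142ad12019a2a82a62a52a42a311029e29229b10f2961a618829018a11f28a28810c28428328210a27e27c27916919711119927021d1021000ff26a20726614e26524325e26325c2600f60f52592572542520f324e0f224a2490f124424223f18b0ef0ee0eb1630ea1650e923122f22822c22b0e71d115a1592251050e00dd0da21f0ec15015114c17f0e414f0d321a0d20d12121fe20e1d62090cf20413b2022000cc1fb1400cd1f50c91ef1de1eb0c71e51db1e10c50c40c31d50c21d30bf0be1cf0bd1cb0bc1c71c61c51c41a71961bf1bd1bc1bb1ba0b51b51b31b00b41a90b30b71891a019c0b10b01930b618f0f00ae1071061570d60ac1850a6184)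
 (.leaf 0x0))
 (.node (.leaf 0x5a65ef6cf56252545958974b70745644f4cd46445c44c45b5fe59c4484c143f74744057843d43c74174063443967c5cc6515b843273b5124c97394535614284d76b65b47346f26f541f4a67325e073156d42773072f6fc70b4135a758372046347972b47e6b067640d40c5de72440b6bc5d34ce59b59f41d40771244740563c71e45d59a5c35ff45a71d6963fc71944a5b155e41a5ee5b25a85764013ec3ea6323e75027135803e13e03de3db5343d870e5f93d46ae7097084585c23cf7065917043cc6387003ca64a4165e83c65995363c46f66f46eb3c23c13cd5ca4e83bf3be3c84233bc53b5576e36c85fc5d73f03ad59e52053d6ee3c73a96ed5653a66e96c13a06e64436e039c6ce39939a6d53973966dd39343739138e38d38c6d838a6ba38955c6cd5666d43876d053057538558c3d938361f5373816cc51d37f6ca52738445552a3805fb6c637b6a46c555d37837652d3743733715194fb6c04e548b6a53695db50850d6b850b51063b50e3646b351161036046d4e36305933b26ad)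
 (.leaf 0x0)))
 (.node (.node (.leaf 0x2d93f53f85a22872853f73fd3f92863fe39d2812803ef5603f146127d59727a59627827759427527427327227159058f2df58e3af41458d26b53358b2692682675884174eb4ea3d058226456e57e26257b26156955a5772ac57425f57056f25d56b56a25b56725a3272583a82c02554304a73ac5012514463dd24f55f3b337924d5593b824b5563a22504543a524c5532482473f454f24554c54d24054a54923e43354723c54548d2c354454354223554053e23353923253552953223052f52652c22e22d2365232343ab51f22a51e22951c51b25651a22622322236d21b3022195132b921721421350a21121020f50620d20c2b620b4182052083063574954fd20132a2154f94f81fd1fc49249134b4ed1fa4351f74e71f623d48c4e04dc4da1f44414c04d61f11f04d14cf4d01ee2892b01ec4a82d84c84c71ea2d14c44c33534451e73ba1e64be4bc4bd1e41e34bb1e23114a14b33014aa4ae1e04a92534521dd4a44a331e1da49d49c49b49a49949849720a26f3581d41ff1d836b31b1d2)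
 (.leaf 0x0))
 (.node (.leaf 0x7847b47c678779c7908037527e37c27c77af79e7eb7ed7b372e72d7f172a7f271b7d67bd8057448047037f77d57b87857337cf7786ec7d96e47db8086db7e97e27a77a36df6d26f17de6e86e77956b97707747bf7f57fd6a66bd7917f670d6dc7c87967e869769571a8017e16ff6aa73a7fe7f078b6876847f47627657297807886756727d480767069b7d37106906856657f36617fb65f74268269e8007be7cc7826537587c37fa76a7766fe6497b26447647aa7fc6c97e07ff80279463e7ab6b563966265564562e62d7dd75f78e6247c96bf6236257ca72667f61e64362078f6b762c64e6b27ad7896137ae7556be77775a74f6b160b75e7507926077027616a36047f860c75975d74c69874e5f870c6c27165ea6c36fd7e662f79a5e55e463367d7017275dc7b55d96f06806887255d27df5cd5cb5c85c77ef7ee7055be7ec7ac6a973c76f7355b767a6926745c16685aa5a46da7ea7ba5a16ef6de7486a869a5925ae6e27a270a58a7c174a5c570f5865855f758172c57f7e475673d57c)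
 (.leaf 0x0)))))

/-- images -/
noncomputable def t4 : Tbl :=
  (.node (.node (.node (.node (.leaf 0xa31801670fc1560f817c0fa17a09e09d16d16f16e09b16a1000ed0ee09909815e15d15f0960da0950dc1590d40a80900dd1010df0e408d0e60d915008814f0d50e20c00c308314514312c08013e0cb13a0c71360c913207d07c0d20c10c20d30790781241230760ba0b911911b11a07011606f1100ae06c10a0b11060aa1030ac0a90e106706609a0600ff0a10a205f05e0f60f505c0f10a50ec0eb05a0e70e509408b08f0560e009208c0db08e0930500890d705405307a04c0d10810820cd04b04a0c50c40480850bf0be0460bb07507406e04103f0b50b307303d0b006b06803b06a0a70a60640650380370390a40a009f03409c03509705905503109105808708605105208a02e02d02f08407f07e02a07b02b07704302604502407202207102306d03c06901f06106306201d05b05d01c03205701a04d04f04e01804704901702801504401304203e04001201103a00f03603300e03000c02c02900b02700902502102000801e01b00601901600501401000700d00a004003002001000)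
 (.leaf 0x8007d87e07be7a37907f27a67b9809))
 (.node (.leaf 0x3573556a96a83546a665a3613534be34e4f34f434d34c66464834a67169b69869734969454968f5db68e3e934434334568b68a3416866846813df33f3e167e67f33b67c66866961c33667546c66f66e43833133366c44232e66b33a32a3283266124f65133224a365d65c65b4b64b731e31d31f4b031b4b231a6546553184a949e4ab48065031464d5cf4bb6466453106434aa63f63c50663163642e35c50030563330362e62d30062a5466276262fe6235ed2fc2fa61f6193012f830461b4a82f42f23ad6183512f035261746b2ee60f6116102ec60e2eb60b4682e84cd4772e560546e5122e42e22e32df6005fe2de5fd2dd4022db4252d75f92d53c75f73f92d44505ce5454535965f23723715ef5992c64412c52c35ec2c259a4c64482bd5d75e92c15035162b75e34ca4353954375df2b32b22b442c42b4985da43042f5363e35d52a85d345b2a656a3a32a52d22d15935922ce4082aa5c93d529e5c75af3ae5c15c03ce29b5bf5b93cb2965b75b45b141b2925ac2905ab5a945d3085a7)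
 (.leaf 0x0)))
 (.node (.node (.leaf 0x34848b33e4881cf4872ea4831ce1cc33247f1cb47e2e747a1ca4761c84724702f91c746d2f11c646a4664644651c51c446346045e2c945c1bf2af2ae45a1bd4584541bc42041f3f53f441c3f21c11c02272dc3ef3ee4494471b344644443d2be2442c04401af1ae1b021435e43a1ac1ab4314334321a92ad2d92d82b02ab2ac41a3594272954244211bb3e41a71a61a520941719f19e41026319c21519b40c2a728719a40719840530e28d28e3f13f02542763fd2941933073f83f61ba1971961951b520a3ec18e18d23f20d18b28920518a1892081873e03db3d43d31842693d826b1821811833d017b29a3cc1793c63c41783c11773be25825125a24d39d39c28a23b3b32591723af3ac2571703a83a43a11761751742432bf24539a16c16b27939439316925338e38d16822216438c16238923038423238016116037c37a37437315c2ca20115820317d23722122021f14e21c21d1d036b3691493683602982b921136421314714614827835d14427d29f27235b14227535822435622634f)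
 (.leaf 0x0))
 (.node (.leaf 0x7226fc5736fe7336d956c7e27a87cf5675746d45637df72955d55b7417dc7077535565535527db6e46e554f54d73254b7da71d7c05cc70a7176fa6387015ee53d6f37d27195397185d871169652c52b7866c45257d059159e6c956951a7ce6c05e451473656b65e5117c976d50f50b7c85096b37c37c263a6395e56ad6ac7287b74fd4fc5d94fa76350850773b77a7797a77987817a54ec69969a4eb4ea6cd7bb4e87b87b673a6824e64e473d7b54df4de67976279d4dc50c4db7656904da50e4d54d67004d371e72468966776b7344ce7a954778c4ed7a44cc4cb7a24c74c46604d14d26785be75a4f066266379a66a7996bb4ba4b94b84f961d6417957944ad4ae6526535dd4a761a7914a578f5e772f6474ef6494a24a178949f78765878449d78276f49c7806b06af6d877b4995dc63249463449a62f63049249176875748f77659448d48c77477348a77053176e4867696594d048164f48547c47860876172b7604bf47447347547175b75c46f60475961675575446960a750601602462)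
 (.leaf 0x0))))
 (.node (.node (.node (.leaf 0x33735013d33934b1fa1d113b34613934234033d13833c1df33813733413533032f32b1343291dc32413332013131c3191f01303151e612f31130d30c12e30930613f3021d21f921b2fb2f71272f62f32ef1252ed2e92e62e12e01c21c32cc2cb2da1a82d62d32a428212011f11e1b427e1b62c41181172ba2bc2bb1152b62b51142b11be2a22a12a01a31a411211111329d29c10f29929729310e29128128027f19228619410c10b10d27b27a10927727427310827117f18526c2662682670fe18617e2230f92640f726125e25c24824724617125017324c0f30f20f42412400f023c2380fd15516323616523422e22d0e80ea0e92281401530e322514c0fb16615415a15214d0d80d621e15115712912b21820e21020f0d020b0cf20612d15b1d40cc1fd13c1f80ca1f61f21ee0c81ec1e81e40c61e21de1db1d71410ce14a12a14b1261cd1281c90bd0bc1221211b91b81b711c11d0b70b60b81b21b10b41ad1aa1a01a21a10b219d19918f1911900af18c1881020ad1041050ab1070de0ef)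
 (.leaf 0x0))
 (.node (.leaf 0x57646145f5a85d173045974a45657154a5055ad44e74950244b6d648944570b73843e74664b7436ae6bf43959573f54843473e6516354e542d6a76cf43f5904287374267355fb5704a44527146dc5b056f41958941672d56171256057f41341240f66655f72672557e40e57c40b72357b40a7215284095cb4157205f340640471f4035fc4005a03fe71c3fc53c71a5a63fb6c55437103f744344a3ed3eb44f5e262841e41d6c65d63e25323fa3d73d670f5c85445583d23d155a3cf7047055235c25ba5405b85b557957a3c83c95ff3c56f46fd3c35f65d05ca5423c06f96bc4236c33bd6f553e5553b66f25515c55c35bd3ab6ef5506ee5843a75873a66e95653a06e86e756255c6e33996e23986e05f54e75e067348e45158859d56e38a57d5225666d55a23883876d152038642a51c3da38358e62138251b51d37f6cc6cb51f37e5b251e37d6c837b58053f37953852a52752e53552f6c251737051943b36c6be4bd4676ba3656b76803636856b63626b46a46a349b5f435f43c5f035a496)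
 (.leaf 0x0)))
 (.node (.node (.leaf 0x30a5a52885a359f58d45528459b2832d02cf3e52cd28c28b2c82c759827c5973974e339230b3b23f32a342958f4d72704d93d93dc3dd26f5343de26a58c58b41826e26d58658526558341138b26240d3bf57757845726057525f5723bc25d56d3ca25b5683c23a53b03a23a936e5643913902523e639f3ba24f41447d24e55e39e3b824b5595573bb24a4223b92495543b13aa25625536f24254e54c3ea34743623e23d3e83b53b432723a2392353cd54123353b53a53737723153353037522f52d52952622c52422b52137638537838122a22944d44c51839b3b736d51521a32321921736636751021250d50a4f82165042b820c4972075012a92044ff2024fe4fb4f747947b1fe2004f54f24f11fb4ee4e92ff3961f74e04e24e11f54dd1f44d82fd1f31f14d44c31fc1ef1ff4cf3161ed4c82f54c91eb1ea4c53133251e94c21e74c138f4c032c1e536a4bc3121e34b34b54b41e14b14af1e04ac30f3351dd4a632d3211da4a031728f1d91d83e73ff1d64012851d54954824931d3484490)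
 (.leaf 0x0))
 (.node (.leaf 0x77c7c17bf7ca7af7f57f77777f97517fa7f37f480378a7aa74b78d76475e7e37bd71b7d671670d7c77067eb6f87d58076f17457786ec6e66df7cd80870e7e87e177d7486d37ba6c76f66c17d97937717fc6b96b57e577f7c57ae6b26b17fe6dd7fd8067ea7086957d18016936aa69268c7447b27b37427ad7fb7c47b07477a07f06746f769f80269c67080566d79b7ab72a79c68779e7a166165f69e7967976576567cc73c64e80464c76a7ee6727887f164478b6426ca78364078563e69d63b7c677e7d47ff6376a16a07dd7f862974062562476c7cb62263d6206b877267778e61e62c7667676837ed6a568861561374f7ec75260c60d66560975662b7586076066ea75d7f660375f74c70974e7ef5f85f17d37ac5e87de7b45e67b16ed7755e15de68d7926a26917155ea5d46bd5d26766fb6e17135fa64a70c5c670361479f6f06ab7025bc5bb67a5b66ff5b35ae5aa67b6de5a47e95a16d26d06da7e77395cd7315c46ce59c58a7d77e672e5eb6db74d7bc6eb7e458158272c7276d767d)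
 (.leaf 0x0)))))

/-- images under the inverse -/
noncomputable def u4 : Tbl :=
  (.node (.node (.node (.node (.leaf 0xa31801670fc1560f817c0fa17a09e09d16d16f16e09b16a1000ed0ee09909815e15d15f0960da0950dc1590d40a80900dd1010df0e408d0e60d915008814f0d50e20c00c308314514312c08013e0cb13a0c71360c913207d07c0d20c10c20d30790781241230760ba0b911911b11a07011606f1100ae06c10a0b11060aa1030ac0a90e106706609a0600ff0a10a205f05e0f60f505c0f10a50ec0eb05a0e70e509408b08f0560e009208c0db08e0930500890d705405307a04c0d10810820cd04b04a0c50c40480850bf0be0460bb07507406e04103f0b50b307303d0b006b06803b06a0a70a60640650380370390a40a009f03409c03509705905503109105808708605105208a02e02d02f08407f07e02a07b02b07704302604502407202207102306d03c06901f06106306201d05b05d01c03205701a04d04f04e01804704901702801504401304203e04001201103a00f03603300e03000c02c02900b02700902502102000801e01b00601901600501401000700d00a004003002001000)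
 (.leaf 0x8007d87e07be7a37907f27a67b9809))
 (.node (.leaf 0x3573556a96a83546a665a3613534be34e4f34f434d34c66464834a67169b69869734969454968f5db68e3e934434334568b68a3416866846813df33f3e167e67f33b67c66866961c33667546c66f66e43833133366c44232e66b33a32a3283266124f65133224a365d65c65b4b64b731e31d31f4b031b4b231a6546553184a949e4ab48065031464d5cf4bb6466453106434aa63f63c50663163642e35c50030563330362e62d30062a5466276262fe6235ed2fc2fa61f6193012f830461b4a82f42f23ad6183512f035261746b2ee60f6116102ec60e2eb60b4682e84cd4772e560546e5122e42e22e32df6005fe2de5fd2dd4022db4252d75f92d53c75f73f92d44505ce5454535965f23723715ef5992c64412c52c35ec2c259a4c64482bd5d75e92c15035162b75e34ca4353954375df2b32b22b442c42b4985da43042f5363e35d52a85d345b2a656a3a32a52d22d15935922ce4082aa5c93d529e5c75af3ae5c15c03ce29b5bf5b93cb2965b75b45b141b2925ac2905ab5a945d3085a7)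
 (.leaf 0x0)))
 (.node (.node (.leaf 0x34848b33e4881cf4872ea4831ce1cc33247f1cb47e2e747a1ca4761c84724702f91c746d2f11c646a4664644651c51c446346045e2c945c1bf2af2ae45a1bd4584541bc42041f3f53f441c3f21c11c02272dc3ef3ee4494471b344644443d2be2442c04401af1ae1b021435e43a1ac1ab4314334321a92ad2d92d82b02ab2ac41a3594272954244211bb3e41a71a61a520941719f19e41026319c21519b40c2a728719a40719840530e28d28e3f13f02542763fd2941933073f83f61ba1971961951b520a3ec18e18d23f20d18b28920518a1892081873e03db3d43d31842693d826b1821811833d017b29a3cc1793c63c41783c11773be25825125a24d39d39c28a23b3b32591723af3ac2571703a83a43a11761751742432bf24539a16c16b27939439316925338e38d16822216438c16238923038423238016116037c37a37437315c2ca20115820317d23722122021f14e21c21d1d036b3691493683602982b921136421314714614827835d14427d29f27235b14227535822435622634f)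
 (.leaf 0x0))
 (.node (.leaf 0x7226fc5736fe7336d956c7e27a87cf5675746d45637df72955d55b7417dc7077535565535527db6e46e554f54d73254b7da71d7c05cc70a7176fa6387015ee53d6f37d27195397185d871169652c52b7866c45257d059159e6c956951a7ce6c05e451473656b65e5117c976d50f50b7c85096b37c37c263a6395e56ad6ac7287b74fd4fc5d94fa76350850773b77a7797a77987817a54ec69969a4eb4ea6cd7bb4e87b87b673a6824e64e473d7b54df4de67976279d4dc50c4db7656904da50e4d54d67004d371e72468966776b7344ce7a954778c4ed7a44cc4cb7a24c74c46604d14d26785be75a4f066266379a66a7996bb4ba4b94b84f961d6417957944ad4ae6526535dd4a761a7914a578f5e772f6474ef6494a24a178949f78765878449d78276f49c7806b06af6d877b4995dc63249463449a62f63049249176875748f77659448d48c77477348a77053176e4867696594d048164f48547c47860876172b7604bf47447347547175b75c46f60475961675575446960a750601602462)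
 (.leaf 0x0))))
 (.node (.node (.node (.leaf 0x33735013d33934b1fa1d113b34613934234033d13833c1df33813733413533032f32b1343291dc32413332013131c3191f01303151e612f31130d30c12e30930613f3021d21f921b2fb2f71272f62f32ef1252ed2e92e62e12e01c21c32cc2cb2da1a82d62d32a428212011f11e1b427e1b62c41181172ba2bc2bb1152b62b51142b11be2a22a12a01a31a411211111329d29c10f29929729310e29128128027f19228619410c10b10d27b27a10927727427310827117f18526c2662682670fe18617e2230f92640f726125e25c24824724617125017324c0f30f20f42412400f023c2380fd15516323616523422e22d0e80ea0e92281401530e322514c0fb16615415a15214d0d80d621e15115712912b21820e21020f0d020b0cf20612d15b1d40cc1fd13c1f80ca1f61f21ee0c81ec1e81e40c61e21de1db1d71410ce14a12a14b1261cd1281c90bd0bc1221211b91b81b711c11d0b70b60b81b21b10b41ad1aa1a01a21a10b219d19918f1911900af18c1881020ad1041050ab1070de0ef)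
 (.leaf 0x0))
 (.node (.leaf 0x57646145f5a85d173045974a45657154a5055ad44e74950244b6d648944570b73843e74664b7436ae6bf43959573f54843473e6516354e542d6a76cf43f5904287374267355fb5704a44527146dc5b056f41958941672d56171256057f41341240f66655f72672557e40e57c40b72357b40a7215284095cb4157205f340640471f4035fc4005a03fe71c3fc53c71a5a63fb6c55437103f744344a3ed3eb44f5e262841e41d6c65d63e25323fa3d73d670f5c85445583d23d155a3cf7047055235c25ba5405b85b557957a3c83c95ff3c56f46fd3c35f65d05ca5423c06f96bc4236c33bd6f553e5553b66f25515c55c35bd3ab6ef5506ee5843a75873a66e95653a06e86e756255c6e33996e23986e05f54e75e067348e45158859d56e38a57d5225666d55a23883876d152038642a51c3da38358e62138251b51d37f6cc6cb51f37e5b251e37d6c837b58053f37953852a52752e53552f6c251737051943b36c6be4bd4676ba3656b76803636856b63626b46a46a349b5f435f43c5f035a496)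
 (.leaf 0x0)))
 (.node (.node (.leaf 0x30a5a52885a359f58d45528459b2832d02cf3e52cd28c28b2c82c759827c5973974e339230b3b23f32a342958f4d72704d93d93dc3dd26f5343de26a58c58b41826e26d58658526558341138b26240d3bf57757845726057525f5723bc25d56d3ca25b5683c23a53b03a23a936e5643913902523e639f3ba24f41447d24e55e39e3b824b5595573bb24a4223b92495543b13aa25625536f24254e54c3ea34743623e23d3e83b53b432723a2392353cd54123353b53a53737723153353037522f52d52952622c52422b52137638537838122a22944d44c51839b3b736d51521a32321921736636751021250d50a4f82165042b820c4972075012a92044ff2024fe4fb4f747947b1fe2004f54f24f11fb4ee4e92ff3961f74e04e24e11f54dd1f44d82fd1f31f14d44c31fc1ef1ff4cf3161ed4c82f54c91eb1ea4c53133251e94c21e74c138f4c032c1e536a4bc3121e34b34b54b41e14b14af1e04ac30f3351dd4a632d3211da4a031728f1d91d83e73ff1d64012851d54954824931d3484490)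
 (.leaf 0x0))
 (.node (.leaf 0x77c7c17bf7ca7af7f57f77777f97517fa7f37f480378a7aa74b78d76475e7e37bd71b7d671670d7c77067eb6f87d58076f17457786ec6e66df7cd80870e7e87e177d7486d37ba6c76f66c17d97937717fc6b96b57e577f7c57ae6b26b17fe6dd7fd8067ea7086957d18016936aa69268c7447b27b37427ad7fb7c47b07477a07f06746f769f80269c67080566d79b7ab72a79c68779e7a166165f69e7967976576567cc73c64e80464c76a7ee6727887f164478b6426ca78364078563e69d63b7c677e7d47ff6376a16a07dd7f862974062562476c7cb62263d6206b877267778e61e62c7667676837ed6a568861561374f7ec75260c60d66560975662b7586076066ea75d7f660375f74c70974e7ef5f85f17d37ac5e87de7b45e67b16ed7755e15de68d7926a26917155ea5d46bd5d26766fb6e17135fa64a70c5c670361479f6f06ab7025bc5bb67a5b66ff5b35ae5aa67b6de5a47e95a16d26d06da7e77395cd7315c46ce59c58a7d77e672e5eb6db74d7bc6eb7e458158272c7276d767d)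
 (.leaf 0x0)))))

/-- images -/
noncomputable def t5 : Tbl :=
  (.node (.node (.node (.node (.leaf 0x1431810fd15216609e1780f61700f809c17517309b16e16b1410990ec0ed09716509616015d0e60950dc1590d70de0a409a0e10a50e40db0da0a91510e214c08908808514a13e1460a30ce08408312a12907d1370c512f0c707b12b0790bf07a0c10771280761230ba0b911f11d07011a1170b11110b307110b06f1060670ab0a70d91010aa0610dd0e00cf05f0a00a105d0fa05c0f50f20df0ee05a0eb0e90e509405806806906006a05408d0870550570d50d408c04d0d30cd0cc04b07f04c0810490c90480c40c00c20460be0bc07507404106e0b00b60ae07204003f06b08f0910920ac0390380630640360a60900a203409f09d03309805909308a03b08b08e02f02e04f03105102c08608008202a07e07c02907804202502404507306d06c02102203c05601e06606501d06201c05e05b03205001905305201804e01704a04702801401304404301203d03e01000f03a03703500d00c03002d02b00a00902702602300802001f00601b01a00501601501100700e00b004003002001000)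
 (.leaf 0x8077d88097a57d978f78e7a47b87e0))
 (.node (.leaf 0x3566a86aa3556a63546595bf47e4c04bc34d4f24f334b4a334a64869f69d69a34969769543042d3456914e24e33425db59534168a6876855ad33f3df3e062133b67f67d4ce66b6774c34d267333367233233066f51a44445c6694cf3293ad4f66113266314f566466331f66131e4b54b631c65c61861747c49e65731865565331a65265131465064e3b64f06493106456444af64063d63a51345235e36730550063430263030062d62b3b55942fe6266244124843046204814882fb2fa4855dd2f34f73284b02f035134f31b2ee46b6146122ec61060a46e60c4703e85474762ed6062eb6004654662df2e35125ff5752dd5fd5fc4c52d74255fb56a3c65d03f82d341c4993952ce5975f139b2ca5f041e5982c54415d75ea4c63e52c24472c42c35e72ba5dc5155df5de2f52b35454332b74352b12f64e72b02b84e65492ad5d85d62a85d55d445a2d62d52a53a32a45a744a5cb4532a33583e229e3d55c85c45c529b4895235c13615bc5405ab5aa3655b23e42915ae29929635a5a828c2d1)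
 (.leaf 0x0)))
 (.node (.node (.leaf 0x34648c1f43014834822e91cf1cd4314381cb47f3531ca47b2e747746a4734681c72f93922ef1c91c82e24632e41c41c54643c545f1c132e32f2171be45b4244231bc4541bb4002c72444501ba2c91b744c2cc1b52d03ed44844043f4421b01af3f42bc1b32be1ad43d1ac42e4342141aa1cc4371a943242f3681a842b1a72a22041a54283641bd42242041b2ab1a035919f41820919d41338b40520e36040421228619919840719c1d919728140119532d30b3fb1932943063f93f73f228d18f3f03ef27b24227d18c3ea18b20d3e72742751881872083e11843dd1833db1823d92682691803d33d13c13cd3bf3a83c73a617c17b24d3b817625024817736e1743133b43b11722593b03a225c17a1793a539e25816d39c16c2cf24127c24316a39739616939339032716838d17d37c37b38037f16138522e16223015f16437537815c37337122615820322222315418536d21d21e14e1f636a1493692d919b1482b614729521021114529827714435d18e29d27114235b18a2aa224357201352)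
 (.leaf 0x0))
 (.node (.leaf 0x6b95736fc6fd5f856c6d97e177d7d06f46f56ef72f78d55f6f35836db5815567dd70771c6e571b6e75525c358b58a71d7bd54b7c05e06ed7106f96bc5b853d5ee55d7d353971971a53653252c69653a7d15385697cf5ca5a352052566c66d7c55145e47356d86375b56ff67b72150a5097c877e70272a5067c67146ac6ad7714fd7b74fe7b64fb7725ba66670d7c16a04ed6414ec7be7814eb6986994e96cc4e87bb7b95d94e463b5da73a73f7b15e24dd66a7b34dc79d4db50c7af7805f350d4d45314d37006b86746607ac4d07aa66867a4cd4cb7a77a64c878c6c16c24d16894c46757476a37594bb4ba65d4b867979c77b6624b379a61d4f97984ae7964ac7954ab4a94a84a67924a57917905e95634a24ee6466474a049f78978869e49d78478349c76f69049b77f56b6bb5ce5034946326334bd49262e62f49060848f75777762762848b71548a7735bb4d648676e5b665a76b61973c61b4b24b17687674757644744bf47272b60475e46f75c47175a62c75846975460e75174e74c467)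
 (.leaf 0x0))))
 (.node (.node (.node (.leaf 0x33c13d3501f334c17e13b1d134821b3432fd1fc3383371de1381361353343311bf13432b32a1333251dc32131131d30f1301f03161e413213128f12e30c30a3071d430313c1f81392f81272f72b42f42f12e62e52ea1252e02e11201b92dc11e1ea2d82a62d42d22cd1c21192cb1182c81b22bd1b41162c12c01152bb2b91142b52b22ae2ac1132a91121a21a31102a129f10f29c29021610e29329228e10d28b10c28719119210a28020a10927a27820510827327217f22026f26d26b0fe2671861fa23725e25d24c24b0f925725a0f42550f325116f0f71710f12472450f024023d2391670fb0ea22c15e22f2320e822d1630e722914015a0e322514f1551562211530fc0d814d15721c1500d613a0d22192152130d020f20c0ff2070ef15b13f0d11fe1d21f914b1d01ef0c81ee1ed1e91e61db1da1df0c61d810012c0c30cb0ca0bd1ce1241c61260bb1221211c30b81c00b711b11c0b51b81b60b41b11ae1ab1a61a40b21a119e19a1961940af19018d1891070ad1041051031020a812d)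
 (.leaf 0x0))
 (.node (.leaf 0x46157645e45d4597465d16fb57057254c50468174944e44b5026d55c073854444564b73043e7445cd6be73e68b73d6dc43a43948043c4e068f69242a4464294274267377365f94565646365e554841d6c658f41658972e4144156e35824105ed4f850772940e6226a47266d771f61e6ba51050f4095285927124064da72040c40b50140241f3fe5a05536c553b7185a53fd3fc3fa7173f63f359344944f3eb4df48d5995b056f3e35c971154354e6e26e15c770b3d25583d05596ee5c26ec3ce7045083cb7015113c85785795685fe4605676fe5f63c35f75913c05426fa6384586c857757455e3bc5cf64a3b23ae54f6f05666d45543cf3a75845863c46eb3c255c5a46e43e63a056058c3d65f56de39842c5cc46c3914365eb58d56d53f40d5413ab6d63885a26cb6d26c951c6cf3863833da6ce67e51e5265213896cd38737e51f5b138252f6c338c41138a52e6c452953037953737d4c737051751836c43b6bf49a46257b5b45b33636806843626b66b557e5be6b035f5f46355ef5a9495)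
 (.leaf 0x0)))
 (.node (.node (.leaf 0x3095a659f59e28859d28445528359b3ee2bf59a28230827f27e3f52c639a59627934446d2765514434085904192704d74d83d826e3d426c53326a3de39954d4173dc26658726558555b5802633ca57d3cc3bd57a2604572de55757155526456e2623a93c95653a43af3ac25b39d4a448e25339f56225224f3ba5614c13b953e3a13be26155a25f24a3bb42124e3aa5503b32493b724644d3ec3d754a23f23e45134723c2e854623b38e38f23852429a52252d53c52b53523137753452737a23423352a51b23623538151d22a38437422b37622836f22751937225621f51632321a2182af49735c40a2a750e50b40f29750549820b3662064032a041a2024ff4fc4fa2f220047a1fd4793224f41fb4f14ef4ea1f73942ff4e53e91f54e14de33e4d93403391ff4d533633d1f21f133a3151ec4cc4ca1eb4c92da2db28a3241e81e74c247d23a4be1e532c36b34e1e33124b94b71e14b44784aa3174ad3191dd3354a72543201e24a11e030d30e1d72891d63ff3f11d52854964871d34932fc491)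
 (.leaf 0x0))
 (.node (.leaf 0x79377a7fd7ae76575f75277675d75074f7a07ab76a7407347457df76075b7e57da7db7167d673b7eb7037c77d56f88007ee74b6ea7057e97ea8058087097e77e27a86d37486ca6f66c77a27a377c7287c47226b47e36af6c07ca72779f6a16dd7bf69c6df7bc6947866938016a96a774274368876268c7a16837fc79b6787f36767247d46716708068027cd7ce7b07f47c279968665f7ad65b79e6587946566547977ff64f64d64c8048036f166e78777564364278b7ba78263f63e78569b6826396b36f77cc65e7fe7797536297f878a7396236a56ab72563c61f71e76361c7f27236166157617fb61376c7b27667ed7fa60d7f760b7ec60966560762a7557566057787f96037f67f560270e6017de7335f27d26675fa7ef5e67b47b570a7f168d5e35e161a7e668e7745ec5d35d26bd7f074a70f7135e86f25c670c70660f6b15bd7cb7c35b97707a97697c96b75ac5b776d6e06e86e66d06d15a159c7e86256ae7315af58e6da73274d6a272d5887417d77086e972c7dc57f7e46b257c67c)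
 (.leaf 0x0)))))

/-- images under the inverse -/
noncomputable def u5 : Tbl :=
  (.node (.node (.node (.node (.leaf 0x1431810fd15216609e1780f61700f809c17517309b16e16b1410990ec0ed09716509616015d0e60950dc1590d70de0a409a0e10a50e40db0da0a91510e214c08908808514a13e1460a30ce08408312a12907d1370c512f0c707b12b0790bf07a0c10771280761230ba0b911f11d07011a1170b11110b307110b06f1060670ab0a70d91010aa0610dd0e00cf05f0a00a105d0fa05c0f50f20df0ee05a0eb0e90e509405806806906006a05408d0870550570d50d408c04d0d30cd0cc04b07f04c0810490c90480c40c00c20460be0bc07507404106e0b00b60ae07204003f06b08f0910920ac0390380630640360a60900a203409f09d03309805909308a03b08b08e02f02e04f03105102c08608008202a07e07c02907804202502404507306d06c02102203c05601e06606501d06201c05e05b03205001905305201804e01704a04702801401304404301203d03e01000f03a03703500d00c03002d02b00a00902702602300802001f00601b01a00501601501100700e00b004003002001000)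
 (.leaf 0x8077d88097a57d978f78e7a47b87e0))
 (.node (.leaf 0x3566a86aa3556a63546595bf47e4c04bc34d4f24f334b4a334a64869f69d69a34969769543042d3456914e24e33425db59534168a6876855ad33f3df3e062133b67f67d4ce66b6774c34d267333367233233066f51a44445c6694cf3293ad4f66113266314f566466331f66131e4b54b631c65c61861747c49e65731865565331a65265131465064e3b64f06493106456444af64063d63a51345235e36730550063430263030062d62b3b55942fe6266244124843046204814882fb2fa4855dd2f34f73284b02f035134f31b2ee46b6146122ec61060a46e60c4703e85474762ed6062eb6004654662df2e35125ff5752dd5fd5fc4c52d74255fb56a3c65d03f82d341c4993952ce5975f139b2ca5f041e5982c54415d75ea4c63e52c24472c42c35e72ba5dc5155df5de2f52b35454332b74352b12f64e72b02b84e65492ad5d85d62a85d55d445a2d62d52a53a32a45a744a5cb4532a33583e229e3d55c85c45c529b4895235c13615bc5405ab5aa3655b23e42915ae29929635a5a828c2d1)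
 (.leaf 0x0)))
 (.node (.node (.leaf 0x34648c1f43014834822e91cf1cd4314381cb47f3531ca47b2e747746a4734681c72f93922ef1c91c82e24632e41c41c54643c545f1c132e32f2171be45b4244231bc4541bb4002c72444501ba2c91b744c2cc1b52d03ed44844043f4421b01af3f42bc1b32be1ad43d1ac42e4342141aa1cc4371a943242f3681a842b1a72a22041a54283641bd42242041b2ab1a035919f41820919d41338b40520e36040421228619919840719c1d919728140119532d30b3fb1932943063f93f73f228d18f3f03ef27b24227d18c3ea18b20d3e72742751881872083e11843dd1833db1823d92682691803d33d13c13cd3bf3a83c73a617c17b24d3b817625024817736e1743133b43b11722593b03a225c17a1793a539e25816d39c16c2cf24127c24316a39739616939339032716838d17d37c37b38037f16138522e16223015f16437537815c37337122615820322222315418536d21d21e14e1f636a1493692d919b1482b614729521021114529827714435d18e29d27114235b18a2aa224357201352)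
 (.leaf 0x0))
 (.node (.leaf 0x6b95736fc6fd5f856c6d97e177d7d06f46f56ef72f78d55f6f35836db5815567dd70771c6e571b6e75525c358b58a71d7bd54b7c05e06ed7106f96bc5b853d5ee55d7d353971971a53653252c69653a7d15385697cf5ca5a352052566c66d7c55145e47356d86375b56ff67b72150a5097c877e70272a5067c67146ac6ad7714fd7b74fe7b64fb7725ba66670d7c16a04ed6414ec7be7814eb6986994e96cc4e87bb7b95d94e463b5da73a73f7b15e24dd66a7b34dc79d4db50c7af7805f350d4d45314d37006b86746607ac4d07aa66867a4cd4cb7a77a64c878c6c16c24d16894c46757476a37594bb4ba65d4b867979c77b6624b379a61d4f97984ae7964ac7954ab4a94a84a67924a57917905e95634a24ee6466474a049f78978869e49d78478349c76f69049b77f56b6bb5ce5034946326334bd49262e62f49060848f75777762762848b71548a7735bb4d648676e5b665a76b61973c61b4b24b17687674757644744bf47272b60475e46f75c47175a62c75846975460e75174e74c467)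
 (.leaf 0x0))))
 (.node (.node (.node (.leaf 0x33c13d3501f334c17e13b1d134821b3432fd1fc3383371de1381361353343311bf13432b32a1333251dc32131131d30f1301f03161e413213128f12e30c30a3071d430313c1f81392f81272f72b42f42f12e62e52ea1252e02e11201b92dc11e1ea2d82a62d42d22cd1c21192cb1182c81b22bd1b41162c12c01152bb2b91142b52b22ae2ac1132a91121a21a31102a129f10f29c29021610e29329228e10d28b10c28719119210a28020a10927a27820510827327217f22026f26d26b0fe2671861fa23725e25d24c24b0f925725a0f42550f325116f0f71710f12472450f024023d2391670fb0ea22c15e22f2320e822d1630e722914015a0e322514f1551562211530fc0d814d15721c1500d613a0d22192152130d020f20c0ff2070ef15b13f0d11fe1d21f914b1d01ef0c81ee1ed1e91e61db1da1df0c61d810012c0c30cb0ca0bd1ce1241c61260bb1221211c30b81c00b711b11c0b51b81b60b41b11ae1ab1a61a40b21a119e19a1961940af19018d1891070ad1041051031020a812d)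
 (.leaf 0x0))
 (.node (.leaf 0x46157645e45d4597465d16fb57057254c50468174944e44b5026d55c073854444564b73043e7445cd6be73e68b73d6dc43a43948043c4e068f69242a4464294274267377365f94565646365e554841d6c658f41658972e4144156e35824105ed4f850772940e6226a47266d771f61e6ba51050f4095285927124064da72040c40b50140241f3fe5a05536c553b7185a53fd3fc3fa7173f63f359344944f3eb4df48d5995b056f3e35c971154354e6e26e15c770b3d25583d05596ee5c26ec3ce7045083cb7015113c85785795685fe4605676fe5f63c35f75913c05426fa6384586c857757455e3bc5cf64a3b23ae54f6f05666d45543cf3a75845863c46eb3c255c5a46e43e63a056058c3d65f56de39842c5cc46c3914365eb58d56d53f40d5413ab6d63885a26cb6d26c951c6cf3863833da6ce67e51e5265213896cd38737e51f5b138252f6c338c41138a52e6c452953037953737d4c737051751836c43b6bf49a46257b5b45b33636806843626b66b557e5be6b035f5f46355ef5a9495)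
 (.leaf 0x0)))
 (.node (.node (.leaf 0x3095a659f59e28859d28445528359b3ee2bf59a28230827f27e3f52c639a59627934446d2765514434085904192704d74d83d826e3d426c53326a3de39954d4173dc26658726558555b5802633ca57d3cc3bd57a2604572de55757155526456e2623a93c95653a43af3ac25b39d4a448e25339f56225224f3ba5614c13b953e3a13be26155a25f24a3bb42124e3aa5503b32493b724644d3ec3d754a23f23e45134723c2e854623b38e38f23852429a52252d53c52b53523137753452737a23423352a51b23623538151d22a38437422b37622836f22751937225621f51632321a2182af49735c40a2a750e50b40f29750549820b3662064032a041a2024ff4fc4fa2f220047a1fd4793224f41fb4f14ef4ea1f73942ff4e53e91f54e14de33e4d93403391ff4d533633d1f21f133a3151ec4cc4ca1eb4c92da2db28a3241e81e74c247d23a4be1e532c36b34e1e33124b94b71e14b44784aa3174ad3191dd3354a72543201e24a11e030d30e1d72891d63ff3f11d52854964871d34932fc491)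
 (.leaf 0x0))
 (.node (.leaf 0x79377a7fd7ae76575f75277675d75074f7a07ab76a7407347457df76075b7e57da7db7167d673b7eb7037c77d56f88007ee74b6ea7057e97ea8058087097e77e27a86d37486ca6f66c77a27a377c7287c47226b47e36af6c07ca72779f6a16dd7bf69c6df7bc6947866938016a96a774274368876268c7a16837fc79b6787f36767247d46716708068027cd7ce7b07f47c279968665f7ad65b79e6587946566547977ff64f64d64c8048036f166e78777564364278b7ba78263f63e78569b6826396b36f77cc65e7fe7797536297f878a7396236a56ab72563c61f71e76361c7f27236166157617fb61376c7b27667ed7fa60d7f760b7ec60966560762a7557566057787f96037f67f560270e6017de7335f27d26675fa7ef5e67b47b570a7f168d5e35e161a7e668e7745ec5d35d26bd7f074a70f7135e86f25c670c70660f6b15bd7cb7c35b97707a97697c96b75ac5b776d6e06e86e66d06d15a159c7e86256ae7315af58e6da73274d6a272d5887417d77086e972c7dc57f7e46b257c67c)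
 (.leaf 0x0)))))

/-- images -/
noncomputable def t6 : Tbl :=
  (.node (.node (.node (.node (.leaf 0xef18217f15214e0f517209d17709c0fa17609b17116f16c0ff0eb0980970ee09616316115e0950da0db15a15114f0dd09014c0e008d0e40e50a90881500a808914d0cd0830c31471411400d312b12a13b0c413007c13307b0c90d10be0780800770c20761261240b90ba12007011c11b11807111206c0ae10c0b01070a61040660d90d60610ac06009a10009f05e05d0a205c0f80f60f30a405a0ed0ec0ea0e609408a05608f0df0910860dc0530500930d50d804d08e04c07a0d207e04a0c00490820480c70c50840460c10bf0bd07407506d0400b30b703f03d0730b106b03b0680690390aa0620370360650a70a50340a10a009e03509905903105509205702f08c04e02d08b02c05208708502a08107f07d02b07902604304402502207206f02306e03c06a01f06701d06406305b05f03303205801a05401805104f04704b02902801504504201303e04102101103a01e03801c00e03001902e01700b02701402401202001000f01b00d00c01600a009008003006005001007000004002)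
 (.leaf 0x7ff7bf7cc8027bd80380480678677c))
 (.node (.leaf 0x49663363b6325185174816a434f34e4be4f134c34b4f434a4bb66466e69e34969969869642b3455da6923433423e968f3415e268b68867d5f13ec39a39952268050d50c67933a67866b66a3335476714c94ca46c5f532e44233666936b3ca4bc4734f556b4c04ef31f66265f4b431d31c4b765d31b4b04b13196566534ab4ac3173183145dd48064f64b64831064764664230f63e48650a63835f5456004ff35635548730062f62e62c3902fe62862762554f2fb49349c61d2f83013024f94a647b3523cc47847f2f32f247c46a2ed6152ec4bf6112eb60e60960a2f64c82e54776076043662e12e044959835c2de5fe5fc45d45e4444242d62d55f957a5f82d43f92d25f442e4202d15f32ca36f4034084644402c442742645c3f74c52bd4485d53b63ea5e02b75165e43314322b82b236c2b14373922b05494515db2ad4e74095af5d74464452a645b5d15623b24505962a35cd2a45992a05ca5803ce5c23e329b5615c329e3ae5ba5bd2963cb5b85b542a44a30658e38b57d44b2dd3f03eb)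
 (.leaf 0x0)))
 (.node (.node (.leaf 0x1d048d2221cf4883031ce4842ea46d33035147a4792e61cb1c91c84764744712f71cd1cc1c62f146b1c52c61c44664653ed4614022cb2c22541be3681bd45a4594553f845344f1ba2c81bb3ee1b72dc44d1c02cf3f22e31b34472a82db3972bb1b51ae4411ad2c023f2b543643b1aa2b93e81a94354334301a821742c2a11a61a53582c32194253e641c41e1a02ac41a29c41119d29f41419c26319b21540d36919a2871d53073cd30c2801961953081bf3ff3fe2931991981bc3f33f518f28e3f124418d3df18c20a1b020b35d30a18918820520635b3d73de1833dc3d826718418118026b3d43d23af2993ad3be3c83bc2513ba17a17924717817524c1743b72da3b53a525e17c17b3aa1702573a939f3a216d25a39d24027e16b33f16a2452ba16934739439116838f38e33e38438337a37922d16416038115f23237716215c3763743721582011d43402fd22122021f15616615534832a2a73642ae1482971ab20f14914614521336014418b27827a19e14218727227335913f305225353)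
 (.leaf 0x0))
 (.node (.leaf 0x7215f657257157059c7177d665e5677cf7d06e77467455bc6e45596e15567057777dc59e6f36d055d6ef5ed70b6ed7ce7cd7a277963570f56c71063171f5a253b5525397487d26e65b25ae6947bb6c47b952b57757458f5536cb56854c54b6c05e373e73d5137a851050f7ca7c96b077f6396b35077c76b65095cb6ad6ac7256827806346915195b64f87c37436a17c06724ec6587a47986974ea4e969a4e852c6cd7ba4e46a77b74e07b67367404dd5956684dc7b276267c7007606aa7494d550e53f4db6857ae7ad4d24d07477ab6607a166f69f4cb7a56734ed71d54a4cf4ce4c368961c70260c4ee65c4b979e6754b86f74b366379961b61969d7974ae6527944ad6556506514a573c61a78e4a45fa6454a34a14a064978b78749f78178578249d76e61f4fd50b6b449a77d5046dc6a84fe4fc6d862d49149063048f61676877848c48b59448a73977477154176f63c76c48566765a64d65961761862b47576676561047261276147075f66575946e46f757469756755468752602601497)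
 (.leaf 0x0))))
 (.node (.node (.node (.leaf 0x13d1f133733834d17e14b13a13934634417d13833d1fe1373391df33531533231332c3243231db13413213132031e31a1ee13613512f1e631212e30e30d30b29222430413c1292ff2fc2f92e92e82f01252ef2ee1272e72e42e21b811f11e2c928a2d92d72842ce2d01191c32cc1b12bf1172c51161b62791152be2bc1142142b62b32af1132ab2aa1a11111101a42a210f20929d29a29829428628510d28d28c19010e10b10a19428110927d27b20c10827527420716718526a26e0fe2692680fd1fa1f425024f25c25b2590f70f425825616e0f90f224d0f11732480f024324123e23a18621d15d2310e922b0e823022e0e716522a12c0e315322610121e21c1541590fc0e20d70e10fb0d40de1f913e2122160d021121020d12d2080cf0ce20314a1ff1d20ca1f81f71f31f01de1dd1e50c61e41e30c81dc1d914315b0cc0cb1d11231c70bc1ca0bb1281211220b81c21c111a0b60b511d1b90b41b41b21af1ac1a70b21a31a219f1931970af19219118e18a0ad1021030ab1051061570a3)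
 (.leaf 0x0))
 (.node (.leaf 0x5754605a845f56a64a45845674a6fe4c745244e5ad4da5015a953c6e35d354d7375645635cf73b5b04396bf4de5d243c5155144a75cc42d4e573a5284285c443f7385ec5e14237335e750541d5dc6ae41956f70457f72c5c15d64124165c556057e72740e6f072840f55f40b57c6a540a57b7226cf5365e54296ce5f25325407015ef5fd59759f3fd3fc71c6d671b3fb5a66e856d6fa59a59b41b4635a741f68a6263e47143e27126c64065423e054470a5823d65853d05873cf55a5897074185c75bf4045b75b44573c73c66c83c55ff6c73c36fd6fc6fb5c93fa59d6da4bd5fb3bd6c36f65545575e95e84224135c05b95506e53ab3a75836ee3d15656ec3a65666c56d43a355e4893e15eb6c26c166c42f5034cc3b449858b3c058d6215ab67e3a03885ee6d55386d353a51f5b152952438c5ac38a51b38237f51d6956c93865355d837d51e3c95343d54d638938753752652d37e5303986a64fb4fa43a5df5de6bc3673656ba6b967f4d44d363a49b6af3616b23625ce63654835a5f0357)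
 (.leaf 0x0)))
 (.node (.node (.leaf 0x2892885a55a45a056e4542d34433e52823ef2832c727f4013f42cd2df4d940043d4e12b43092a53f659341559154e58c27c26f3d326d3d937b3db26c2705885232663dd26555858658441729047d40c4c15252605795785763c25733c43b054332826156925f3b325d3a13a825543e2535463bb4213a43c126441026239e55c24e24b3b855b5552523b15512493b953e24a3ac24636e3714d84d751a2c139335e23c39643123b48e23923832753340553152153d52052a37c23623552f22f37552e51c5273853da23423337322c22938022837822739b35444c39c36d4344c23292952d851246751121833b50650820e4993952774622715022042a950049549437020047e2f433c4f74f61fb4f34f24f04eb21b23d1f64e61f54e34e24df2232422371f23503634d11ef1fc1fd4c41ed3164cd1eb4382f532d4c632f1e932521a36a3bf38d32232b1e81e73263111e24ba1e14b64b54b21e04af4a94aa3341ec4a81ea1da3214a249e1d81d728f1d62763e728b2914072021d32fa482483492)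
 (.leaf 0x0))
 (.node (.leaf 0x8097c17d876d7ed7ec7f67537517f975e7aa7f07907427f37ee7ef7fb7fa72a7a371a7e27d57b47c272e79f7e87167937de7df7766e97187d97da7fd70e6f87e777b7196d17b86f46f56e06df8077706b86b77c66b17c87c571e6a37e57fe6a08087a68057136cc6936ca7d169068e7757e679d68778a72476467b67a76b6767f479b6bb78c7be67069c7ea6de6747347e36617b379a7a979c65b69b6577957966547e07917927f276a64c74b7a76447b178878964380164078378463f6416a96b577e6378007d477a6dd6296ea7dd7b56237157696227cb62063d7fc61e7ac78f77262a72b6146137af72368660f68360d7f575075a74f75c60b7546086066057587f86037f775d75b74c74d74e78d5f76816d26776f26f170d6a27f173268c7356be6bd64e5e65d96245d45ea68d73f7a05d074170872f7307e47035c67677eb7265bb5be7296ab7b07635b36ff7116d77c466d5a35a17e97d37db6f97e17735927bc5907206d96db7d77447066e258a70973158170c6eb5c872d6665aa684)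
 (.leaf 0x0)))))

/-- images under the inverse -/
noncomputable def u6 : Tbl :=
  (.node (.node (.node (.node (.leaf 0xef18217f15214e0f517209d17709c0fa17609b17116f16c0ff0eb0980970ee09616316115e0950da0db15a15114f0dd09014c0e008d0e40e50a90881500a808914d0cd0830c31471411400d312b12a13b0c413007c13307b0c90d10be0780800770c20761261240b90ba12007011c11b11807111206c0ae10c0b01070a61040660d90d60610ac06009a10009f05e05d0a205c0f80f60f30a405a0ed0ec0ea0e609408a05608f0df0910860dc0530500930d50d804d08e04c07a0d207e04a0c00490820480c70c50840460c10bf0bd07407506d0400b30b703f03d0730b106b03b0680690390aa0620370360650a70a50340a10a009e03509905903105509205702f08c04e02d08b02c05208708502a08107f07d02b07902604304402502207206f02306e03c06a01f06701d06406305b05f03303205801a05401805104f04704b02902801504504201303e04102101103a01e03801c00e03001902e01700b02701402401202001000f01b00d00c01600a009008003006005001007000004002)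
 (.leaf 0x7ff7bf7cc8027bd80380480678677c))
 (.node (.leaf 0x49663363b6325185174816a434f34e4be4f134c34b4f434a4bb66466e69e34969969869642b3455da6923433423e968f3415e268b68867d5f13ec39a39952268050d50c67933a67866b66a3335476714c94ca46c5f532e44233666936b3ca4bc4734f556b4c04ef31f66265f4b431d31c4b765d31b4b04b13196566534ab4ac3173183145dd48064f64b64831064764664230f63e48650a63835f5456004ff35635548730062f62e62c3902fe62862762554f2fb49349c61d2f83013024f94a647b3523cc47847f2f32f247c46a2ed6152ec4bf6112eb60e60960a2f64c82e54776076043662e12e044959835c2de5fe5fc45d45e4444242d62d55f957a5f82d43f92d25f442e4202d15f32ca36f4034084644402c442742645c3f74c52bd4485d53b63ea5e02b75165e43314322b82b236c2b14373922b05494515db2ad4e74095af5d74464452a645b5d15623b24505962a35cd2a45992a05ca5803ce5c23e329b5615c329e3ae5ba5bd2963cb5b85b542a44a30658e38b57d44b2dd3f03eb)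
 (.leaf 0x0)))
 (.node (.node (.leaf 0x1d048d2221cf4883031ce4842ea46d33035147a4792e61cb1c91c84764744712f71cd1cc1c62f146b1c52c61c44664653ed4614022cb2c22541be3681bd45a4594553f845344f1ba2c81bb3ee1b72dc44d1c02cf3f22e31b34472a82db3972bb1b51ae4411ad2c023f2b543643b1aa2b93e81a94354334301a821742c2a11a61a53582c32194253e641c41e1a02ac41a29c41119d29f41419c26319b21540d36919a2871d53073cd30c2801961953081bf3ff3fe2931991981bc3f33f518f28e3f124418d3df18c20a1b020b35d30a18918820520635b3d73de1833dc3d826718418118026b3d43d23af2993ad3be3c83bc2513ba17a17924717817524c1743b72da3b53a525e17c17b3aa1702573a939f3a216d25a39d24027e16b33f16a2452ba16934739439116838f38e33e38438337a37922d16416038115f23237716215c3763743721582011d43402fd22122021f15616615534832a2a73642ae1482971ab20f14914614521336014418b27827a19e14218727227335913f305225353)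
 (.leaf 0x0))
 (.node (.leaf 0x7215f657257157059c7177d665e5677cf7d06e77467455bc6e45596e15567057777dc59e6f36d055d6ef5ed70b6ed7ce7cd7a277963570f56c71063171f5a253b5525397487d26e65b25ae6947bb6c47b952b57757458f5536cb56854c54b6c05e373e73d5137a851050f7ca7c96b077f6396b35077c76b65095cb6ad6ac7256827806346915195b64f87c37436a17c06724ec6587a47986974ea4e969a4e852c6cd7ba4e46a77b74e07b67367404dd5956684dc7b276267c7007606aa7494d550e53f4db6857ae7ad4d24d07477ab6607a166f69f4cb7a56734ed71d54a4cf4ce4c368961c70260c4ee65c4b979e6754b86f74b366379961b61969d7974ae6527944ad6556506514a573c61a78e4a45fa6454a34a14a064978b78749f78178578249d76e61f4fd50b6b449a77d5046dc6a84fe4fc6d862d49149063048f61676877848c48b59448a73977477154176f63c76c48566765a64d65961761862b47576676561047261276147075f66575946e46f757469756755468752602601497)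
 (.leaf 0x0))))
 (.node (.node (.node (.leaf 0x13d1f133733834d17e14b13a13934634417d13833d1fe1373391df33531533231332c3243231db13413213132031e31a1ee13613512f1e631212e30e30d30b29222430413c1292ff2fc2f92e92e82f01252ef2ee1272e72e42e21b811f11e2c928a2d92d72842ce2d01191c32cc1b12bf1172c51161b62791152be2bc1142142b62b32af1132ab2aa1a11111101a42a210f20929d29a29829428628510d28d28c19010e10b10a19428110927d27b20c10827527420716718526a26e0fe2692680fd1fa1f425024f25c25b2590f70f425825616e0f90f224d0f11732480f024324123e23a18621d15d2310e922b0e823022e0e716522a12c0e315322610121e21c1541590fc0e20d70e10fb0d40de1f913e2122160d021121020d12d2080cf0ce20314a1ff1d20ca1f81f71f31f01de1dd1e50c61e41e30c81dc1d914315b0cc0cb1d11231c70bc1ca0bb1281211220b81c21c111a0b60b511d1b90b41b41b21af1ac1a70b21a31a219f1931970af19219118e18a0ad1021030ab1051061570a3)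
 (.leaf 0x0))
 (.node (.leaf 0x5754605a845f56a64a45845674a6fe4c745244e5ad4da5015a953c6e35d354d7375645635cf73b5b04396bf4de5d243c5155144a75cc42d4e573a5284285c443f7385ec5e14237335e750541d5dc6ae41956f70457f72c5c15d64124165c556057e72740e6f072840f55f40b57c6a540a57b7226cf5365e54296ce5f25325407015ef5fd59759f3fd3fc71c6d671b3fb5a66e856d6fa59a59b41b4635a741f68a6263e47143e27126c64065423e054470a5823d65853d05873cf55a5897074185c75bf4045b75b44573c73c66c83c55ff6c73c36fd6fc6fb5c93fa59d6da4bd5fb3bd6c36f65545575e95e84224135c05b95506e53ab3a75836ee3d15656ec3a65666c56d43a355e4893e15eb6c26c166c42f5034cc3b449858b3c058d6215ab67e3a03885ee6d55386d353a51f5b152952438c5ac38a51b38237f51d6956c93865355d837d51e3c95343d54d638938753752652d37e5303986a64fb4fa43a5df5de6bc3673656ba6b967f4d44d363a49b6af3616b23625ce63654835a5f0357)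
 (.leaf 0x0)))
 (.node (.node (.leaf 0x2892885a55a45a056e4542d34433e52823ef2832c727f4013f42cd2df4d940043d4e12b43092a53f659341559154e58c27c26f3d326d3d937b3db26c2705885232663dd26555858658441729047d40c4c15252605795785763c25733c43b054332826156925f3b325d3a13a825543e2535463bb4213a43c126441026239e55c24e24b3b855b5552523b15512493b953e24a3ac24636e3714d84d751a2c139335e23c39643123b48e23923832753340553152153d52052a37c23623552f22f37552e51c5273853da23423337322c22938022837822739b35444c39c36d4344c23292952d851246751121833b50650820e4993952774622715022042a950049549437020047e2f433c4f74f61fb4f34f24f04eb21b23d1f64e61f54e34e24df2232422371f23503634d11ef1fc1fd4c41ed3164cd1eb4382f532d4c632f1e932521a36a3bf38d32232b1e81e73263111e24ba1e14b64b54b21e04af4a94aa3341ec4a81ea1da3214a249e1d81d728f1d62763e728b2914072021d32fa482483492)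
 (.leaf 0x0))
 (.node (.leaf 0x8097c17d876d7ed7ec7f67537517f975e7aa7f07907427f37ee7ef7fb7fa72a7a371a7e27d57b47c272e79f7e87167937de7df7766e97187d97da7fd70e6f87e777b7196d17b86f46f56e06df8077706b86b77c66b17c87c571e6a37e57fe6a08087a68057136cc6936ca7d169068e7757e679d68778a72476467b67a76b6767f479b6bb78c7be67069c7ea6de6747347e36617b379a7a979c65b69b6577957966547e07917927f276a64c74b7a76447b178878964380164078378463f6416a96b577e6378007d477a6dd6296ea7dd7b56237157696227cb62063d7fc61e7ac78f77262a72b6146137af72368660f68360d7f575075a74f75c60b7546086066057587f86037f775d75b74c74d74e78d5f76816d26776f26f170d6a27f173268c7356be6bd64e5e65d96245d45ea68d73f7a05d074170872f7307e47035c67677eb7265bb5be7296ab7b07635b36ff7116d77c466d5a35a17e97d37db6f97e17735927bc5907206d96db7d77447066e258a70973158170c6eb5c872d6665aa684)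
 (.leaf 0x0)))))

/-- images -/
noncomputable def t7 : Tbl :=
  (.node (.node (.node (.node (.leaf 0x36f4577427751aa47646a1c82692e563e60305e1cb7873c52400843cd0c06a71e31683d47f54aa0cb1551527ca7066254434d65951666dd6040db5997c73ed0ab7ad20b17b37b5be2ca63a3ff76c50a68e42a5634312f03e847a6894ff7d04b03052143a366130121d21c4174ae1bb45009b19a3e02a12594cf0b203c14008d60e7d87e21077a12832d21ad0d338b04c73e47718175d3de5de5912ce4202660070fc62106c7eb41c7c42241036f42227037c08090da47d6174f56a54956c73263572d95b16131f32af6e74c034e68714b12941b40838461918836d17056b05946603f7e04af46510247115b8070715d96c659a3f63db1147740035cd2232e27e16f35e50e65746ae2037d517d2b95524b247849f4e430a0941f62b835e21f16250823438159379b6f87e331a0b02e42ae5e22772c63ad80072c6d42377146bf14434142e63521b5dc02824c25c1770fb3287e47ae30b0407b07e553162413a13943c50337513c1d267e6b377e7fc0750741d01566ad0220ca41e44949812a000)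
 (.leaf 0x2bd22127c2044ad54f08b734091142))
 (.node (.leaf 0xdf7ce33578c2903e27fe52418f04a0a136a4743506d71457284015d241a3a82635ca0c33c44cd4bc07648080117c4f65690bc4ea4e142f27333e5925c41c319073846d3b900968039209528d11d6333985e77267a65a93746a14091b819221a51313d67936b36c4db62312335d36121725e6910460ec3035a14ca70c3ca3bf4302ac5d33631b96227a52152cb48a73a48b6d133070a1b73c17296644e81e02eb64d6d94b44683174d353a52a3224be20f1a060f10b6fd56200b4ed5ea1357767a22b27370994694756660771f52180131641d61ac5f76361125613a40535db4116005f465a4c65972a83e15420233b077d71741607d44445c7397902115707857940f05643a66685757d90e158602174d75741d2fd4254325581ae0c91a174b0f45764543105bf2526c81961f73c25656505e02803b35481196ee6ec5551de60d1a527133f0cf03e2461bf6e83fc36e2587d71223ba1105a444839b2272505c06285f35cb7f129c7720ef10611e1040b426a10819e4294126bd2bb7f904b1bd)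
 (.leaf 0x0)))
 (.node (.node (.leaf 0x53849a42702b5b45f86de51166e5812ea36557b61f58301662c1d80244bd5326ba40a0a67c179d35c40041032e7c56c072016a75f0c23fb1fb31e11c0204ce48d59c7a824f69a03014f2456bc0eb80222a52e5597096cd10e0e92102324f12573ee0a834c0f723015d47369470561219101d25f2f954c64b0ee7f833b7d474f7622c55176e13af3dd6751a66da4062a97af1151ef1985900cd4da5076db18d2dc1842704fb5d619d6a93c67f61792285a869b44d5896b238826c3712315794855a062b09828452d44b7df08669d1207f75c74134d81875186885df7881345025da3440e83c82f41251592e65b880443a5462ee1676423ea4c24ef09f2f33802d649113766300f6025016483d97502da64778233726b25a22b2d010130022f16f09c3874c71270b62972fb65f0d63111332f82a72f255a07979c4877953206570bf79e4830c52011fa0892c73f549e6ef2990b94630ba56e56c6863240be12d7890497000ff14318e57f35176f0780ed51d57841578b47f72759e0d50a47135c2)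
 (.leaf 0x0))
 (.node (.leaf 0x54b6b87ff7116ce0d25e64d07b71930aa0a75561a875971b70770d3b87ac7ba3b506743931854e2a26525fc1733792cf2620d445113b3296d814a54d4a54df5e303844605175371938f2124026df4336eb6ea1501a41c62954e727e2790e27311482fe1ce0e43665b76724967795bb7cf6e551e2cc5c57366e47673d65eb2a53a055e6e01ed15a4f35440424b64a05aa6324373ec2c42061e73a91f11c978d12b74467742121954a0623433bd62f2e84e00f86fc0bb3491f043e1a92b11f40a323b49c6c35772493a10f619428152938235678168477f05704e1092762d74bb62e69513f0b74c41a262663918c3456301df65949446712e7683cf53979f35b2ab67427472e02c4ec1174fe5092850f12786341187357c60440c43d173371a72a7a93583f17cb74827a39e7fd56d1ee4b364f72f5fa2642004b730272230c73d1c15604cc69337c5540482656fe1970b555f53001563c1dd6a84223524794e578068a07b3092b623651439650453f7d63c328714927f4de6be3915ce3eb442580)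
 (.leaf 0x0))))
 (.node (.node (.node (.leaf 0x39364447b6456ff1dc18522052b52340f29b0295ab5735e83cb7920377dc1300e729657d67f7bb00a4a30d00434f83d740d40406177a6433677412fc65b6105ee70b65e71f39566971d5105b54a74cb02748466b67179a0720415a275b37f2472dd02d3b73d31742516d533645a25b34a0342d42615ff7ef3f20c758705f6290186205bc38d0ae37071026d6f74281c53c76a63e340728c1c406f5ad1822a443d4597833d856a29e4530c128a7f228e1800b12e151906e56771c5d13643387fb0732ef14c2ed2f113836046b49d08168312632a52c0827651ff63f1f21ba1244eb0af53b7402d83121e21da38e05a1e97b213179675e1d15c900217e59818b3e760a19c7b103206b0042df44a00177325d6fa58270f1fc7ed31c2c02d539c1f958b2356a37214364dd4f974640c54046c73c01433d61d79176063716c3626606b05e455166d1ec32531532c2e346432759b23f5533dc5a359d3e507f1ea78f4034265c16562e00b34895d55436403f73f31605ac55d6ac03d06d8086f54c1256)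
 (.leaf 0x0))
 (.node (.leaf 0x2c22db2390fe3fa20d48176d65857122d10a11334b0965962d13d534010d3fd48664c1be32f1fe6465851cc3c95250a903652810c60663153555c53c4344d95af67d27b6c269208e5a611a7560d914e0802080d81b51a346110f62d13e3541897634972b04fd5cf0dc1b464a49b0e50ad28b1055f94231216815ed5b02916856b638370212844f41f68b78e30d2b301244c32d39d37737272301a4ee6980bd5d803900c21e07a4412a04e22555a52484f75ba3763534821db7de73b6a206868c0d16e212c73050f71558d7b67a30112437863ae05469e48e0c67b578a7b458821657e1bc7d17da5f62c10d726819b7bd11f3f906563808345f8055215d00ac08714d4182752602c809d42d4248032b52543461f863d6dc6cb35a2411580906b757c7ee4c32ba80602e7186d003553d00e1762a615f50e74e1837be4e345577801b05b78403a7fa1722e77bc09a4e60527615841d960723817558f4051864b161807c66a4d10ce6825062c95e17db11669037d7bf3ce50c66c1cd72b0082bc060)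
 (.leaf 0x0)))
 (.node (.node (.leaf 0x4bf01061e3e93da16b5c87c35347690191571af6a405d69c69670e3a705c0f34900667b904d7515332932723df35944711128f16d1476c51713733fe30e2de2be45b45838929a56f0cc2250850e040b7c974561b3976704d264139423e1e47080a52b75fd79866222e6cc21337a15c2ff6f003357a00637828816e11b60145d26f7a46272d308c00d01c65401e7523856492670de69924d6f12295ef3f85cc5203485ec4a86c93b65940f26d60e31326b976a68f6d261501f74c46062a26e7ec3137557973210fd7b31b047e48f09732b2fa23a17a59f1532cd2824190f94b84886bb1e16084f072573f7323f038c7714456164b555b5fb5b67121e83194707a717f7d23390477047641fd47246e30f6aa12f5576c43bc22c24a31b47c1d74d71995ae65c07074a53600564e5bd2b47b851c77776e0b84d47cd3d20f50176f27e92ad5b95fe0a24a14b977b07e48c29802617820c36849343533118a43f66f51f02f7ea5153c05122f51001b66f950d02a0a03be1cf7990dd2534dc1e5605701)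
 (.leaf 0x0))
 (.node (.leaf 0x4c931f5273a57d30930581d530735f20939f53744e0ea33360960c3d045219f72d2c34ac65331d3066785c305676b2aa71675c57266767a6553cc15465d1a703b1b27c272406460b6651ab4ab3323344c869f3aa74952622665127d49961454524e7aa4a91ca74306306961c3b256609e32313623c4923865f537e31440e4a65dd52f6ab1c020708a39a5c63f43b167358e5e93696e654769742b42c2426761eb03158c7c81950557a029f5416af3b44f420e2f751a6e91b34387f00504402e96f63ac3085d70457545b345629d5f14f231643b15e53e0c814123d51b1631c27f31d43426b51b11c751634d4a44fc1465f271e7ab2947935227e835520a7706b40253476e367b7cc7f44c54a25a738a41445e3995d42bf7e72ec6110fa33c1655b25682f663b1d34e93ab6d358a6fb3903bb77c3043e408824446f75a06a4625054d555068d6ed1695003a26c150b4fa6a020228933a6b104f5497dd1512053e64ba2a32925f03ef23376634f28616124b7581e66ca08f0927e674767c61a6cf)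
 (.leaf 0x0)))))

/-- images under the inverse -/
noncomputable def u7 : Tbl :=
  (.node (.node (.node (.node (.leaf 0x2125fc37b09402074236c6892bc67932d43f3eb38e64b45340e2af20b4b12cc7f12c42681ea0525b66bc38c6c144d3cc4ff39d3055ba0d90875cc5c85632372036de0a26fa57f1e342651129a3cf0e50054427701ae56f2276444e82dc18e0ec22a2175964de68721c21e33166723b62040a1100ae1890371691a65b55560d56f55e02be6f42e83bf2026803264f53092587b554f23f0b452247c27d3765f14ce0457fa7058015417065d00ab3a68037a52247305552783cd0ee55b1711765ca11832245c51461359123020c4784e400b00a17f1c506133c19918610409215072c7b95816e93e955d7d17ba68f1dd5001ac0f33f13ec52916106b7f96707e279057246c5206d278271a66f3e70a04014f62146243514b277b6451e26a31c401b0694251050ad7d55275946d41ed5df5371b43b31517942d031453a1be6512fc30a1f30241ca31f7542ed46100644b2d73853a22b43a452a5993f51aa32c2f061d1334755a05763fe2515353a55934841e54d15020953b133914f05915914c000)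
 (.leaf 0x8810306253b55926154c2cb4e2030))
 (.node (.leaf 0xc264e5bc7612927201391e158a4e008478a6a57752c136625959848365016a4dd73a4976c452161604752d58e4dc68a6d660613a3034ba2995d62723400de72933048f3c55126f80af2d64e66281cb4ae7ff7ca23d46674e66653d25a1010783ff48b2ec4e566b71432436b62f6a235d49263504a5160c00670b78057e87cd0e67bd3921cc7ab6d77621e474d3256a104822117767e5b72fe7c20025be6b808265d31b7b12543ea3775702d532149f4a110f36a22e5ea2801c92285865f94e32063780863421fd0c461704909e0fa47a4f32b934d06435672e34c4d31351780f947b49165c06a06612121d72b5c538355a7493ab45a3d41b71943d30fe77852c43d18f7ec6dd0b55a67f228859f27a14d0034193e06d335f45b0df6015907813176841950147732606e878469e13b31a5d76cb4450c74aa4db02854e7987990c94061a12fd11444654d5b16196920975a50044480900734ec36d5530b845d20874a27340546a2e31f57ac1df1373cb2e94c307219c2a15181de1156cd4ee2e4)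
 (.leaf 0x0)))
 (.node (.node (.leaf 0x3b56be4471d82393742b223478873d30f26625723217b0c617e25e17c7444952f578068b5242630f603612205618811114e3d61bf2955fe24b07e16666c2551421b33a70a45ef2446e009836f6b24a20cf50e5502230322a969c7e95ff5641437463d580950140353c04c0433be61154b3365a147e6825bd07a0353294a96557e02a04642335336ab1967136e50b158f78e1907774101f43d121f32023a1e96c575c3e47125ac4fb3de18b4cd19b5b418d71d3af60970c64c27c0a536e6774326076c37c38075d363a6c264a03366d5526534da3e34282933aa3811a32842474090f756239e0966236314ea6df1b25512b34b414a0221b62460b041f2c010058d54a30443a1ba4162d27bf39b02370a34467b58b1c04242ce72f5757975430ef11e3c276e7b267f3735fd51b02d61013e03e70f2c22822bb2413ba5f53452452ca39928b4177c53ce08e05708b8081f80415920ba0b90264c06914764b556a4a30be3b86ce4572c348a7895fa31d0d37577f55c97a669b71680604f71e226630)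
 (.leaf 0x0))
 (.node (.leaf 0x1fb62248668873614930c03a1a277f10208c05432b39a3b422042e72642d6ca6c978642207979c6b46af75257e2a76a86cc2f90db5462972a24936da4f138d1b902e73838749e5387006fb2c63b954570739143908105f3db34767d5d27222e002b6054042cd3692ea38a6fe5405aa76775500e28671b12a78c0500071067a834a28f61a0eb19e0833f213d5824c471f7c95712773f02892d139c59779a3ef6692b86275d14b350a3880ca7275805a46140c326f0762195ab6721755105af4d01e700f5d47027517db4bd7e46937962a46547a06b91c73c63162f71275051c85131d04507dc4797cf4982523bb0bc12b2381d37d733d1d746765e5f722b1127da3a37e76e47c44346343384945e92b05b839f24e24a5e51fc1fe1db25c3c410c16e0f554761c73c0ce66355c12e4700276494cb69f5db66068c66a5c32ef27e3821ab4143a86640e00174b94a50931a92f23fd1317b83c870107051508535e3867c107c2b67431d64880aa42a7ee7d01547ef36751c5dc3010da0f42503ac469)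
 (.leaf 0x0))))
 (.node (.node (.node (.leaf 0x16f5e634e1462da22514054843704447768107b16d69868529d6366a712679511716035869a7083023c10ea16436849665f42b61b1fa58516351d2ee3414737f876973b01015b0093076bd5045e30f27bc6970f87656c61a019a4d676b62a7a74235e84005680b616c4a64c249b30d5c75b97857d47663793f34430a34727ce0fb6836f27d62a34296c75c66654414897eb4072901535610b333f29c6214387916786f64c12b54d54f72102966621563185c006f2715171f929452f19709d18a35415804d4e10d237228c31e02153451a1bb6e25253da06d2403ae3dd12d3fa2de7250e925d0dc74047476c04070b1095327722ba3b60636a62645423f40080e47d83700e37176c82cf5cb55417d0756d96086bf3dc7604f002a21180076f0ac6685c24be0116dc01601517a2537b348126c23538b15e1eb34965b21657d6950010745a723c17426516b4b841d5b027655f40c4cc2d83ad5ce42f64864f50b29e05b5f346f3df41b5c42c55ec5dd4875f466e4080a740d5b340b08d06524330e)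
 (.leaf 0x0))
 (.node (.leaf 0x1b13273bd6e335b6325b22fa4715657af46841375f7767113981d55ae3936ac48279e1f04c96f90531296d503450d43326e09a7aa02546b26a06059577c29110e7474a84ed1835575bb6030583964124e915a3f92747a36b14d77e320011341543b0d03371a86b65893282626ba35a1cd2fb77973f07d5ad5d533e1981081f26a04c628a74c5cf58c41a11b1c34af27f37120411a2d411f05e0d81574655f00dd38f03c4d809929b51979f57979313f73728756b1ad44c5e451e2f11482f660020f5691e853f2f33b228120967c43e44f0511f17dd5f64563d021b63721a06c1914df73e1857b64354520c848546e62961f6a91075d935c2312c84443486f342c62511d04b1287288046e66d82b16ff69071943079b25f7c06a410d46278d13660c7715365d816848e6582ff7f333a5da3f73e52eb01861e7a92c927b1721f748d6765de7fd7c65e14f81f675a5583953156b320a33476d7871872702a876431260f4bf3102f81ce57b53130b5067210cb64d03f29850f72a60d01326b24f724)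
 (.leaf 0x0)))
 (.node (.node (.leaf 0xcd3d85eb4212db5fb55e39710b05d2227a210a1af63d3627102bf0d669d60225b3fc0c515571511973119d4fa4630b23e209b2a511c05c3fb24d1921e06ad5ee0e81bc32e6437ed6595070ed7d91ef4ac5e226719f28e0f04e760a43649a3114ab30868d34673441c4d26ed1bd3906ea78b4317b77a14602a657303177e7397c86994eb3ed4517fc46d0bd72367a6aa7f463959d1414187a47484ca3c760e1d13c31ff4cf6047356cf1621a73610a174b3d228523e7b03a00715a967503d2561c17ae5096260d13b76e13b059c5880124c53d959b2831a50ff42006e4bb4bc4f479d31c1da6bb2f41824a712c4b61797f60424b72e56565443e163e07f6747585c158761820e4f270d0777632bd5f21b568639475354966126968e7680295ed4274d91327412ad71c3521812481b84fd7cb7f07cc31949d5e72e259e1233751736db01f1200801252187b448c37c22c7fe2d97e61443430383576e74907741247ad37f16523643c34b3d75a262c01c04661277d7f77e50bf7324b062e0bb242)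
 (.leaf 0x0))
 (.node (.leaf 0x6fd4f963800c1805264022ae27528d0e774f76a18c4117831b053e14538009131332a75974570401901e0390a80550682795847181ec50c56644e0a941e60b04e2ac7fb3535670c16b54fe32f75063c0e23ca7920d76462e108f3f87d32e708950852e5605231e66eb3e83356f757856e56c37a15f15201a29f01d0d46ec75d7be63f2d33554c74a43a957747f0a678f6572292e622f03b1c63063bc37d15d22d45475b1ee1304581165a36964fc20756d21526d0f157445552819324967361567100d45f7333231dc6b752b3334800fc05a14b40f36075620d3325f80cc7e13893f665a6ae70e17034f5bf2aa51f12f2dd15c09c7de1c272d6f17094495cd37e77a6d13a13e624c2ab53044a38444033b7c763b7031383c96947bb0fd1d916736409f62b1345834a04594d447d6b06478026423636c057c6336527ea02f5036404994ef2054c83657d259a62d13c2df1d275e1cf1846f06416d053945e7df57a02c2013596fc1a41473ee6ee4ad1d449c2c73c06ef0e12b735008a5a8300213)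
 (.leaf 0x0)))))

/-- images -/
noncomputable def t8 : Tbl :=
  (.node (.node (.node (.node (.leaf 0x6677224b359176d3494de5072fb02b68257b01b01130b2940dd30178a74319f3ce8030d85dd0642161e77ed1a764773604b21118c68f5703877787ee2073e634815f65b47a7bc77a5541a84e047516c6185ec76e71d32c28205f3451571832b68026892b400a2354d910856b2dc0df46d60c3e25c03e12453a02080ef08d5d04356eb63a43710a4cd6c27e43411e447603d0453b12c857c59d7895a62231b476647c72d24744f0f515c7ba2245651d46773954033c233a60f6be0e328a63e61345f4e97fa61d7fe4e423a0994116304b74f641206f6293d55c91a16f85027f83fb3be2d610734b48e71a7186227ce72335d1621a47f77f23f75ee6b17f01777796415285670d96fd15469612632400d76c4bb0436696087682ed5826a53e438a70551c25316f41c60257e3b50984a60215a53f43326fc6841206047b724f3d017b56e6110ec20c0cd7bb5bd0e53342fa7902d05897f944073066f1df4f349f77b26448420a3574e37f522d54e10d68c68a07e3cb5ff35a3125812be5ca4ca000)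
 (.leaf 0x2306cb6b830627d68b3f66b05cf576))
 (.node (.leaf 0x4ee43406b7065ac5ad77516300e3cf49a21b4b40840f013d58e5937e85b613835e4880bc08928f2b812b1b56b661065e63f3026a347324a5cb44710f2012c03296f271753648c59a01f3ee55e1f011644343256958b4952521d745423316907a04667925e7447542695230f67f179d5be4ea4dc1da1e63090654ff2ce06a4445f725c0345506b26cc4eb13e17d12f56d6947d85a056648169537332660673770270349313a6ff45774942c78f4c42ec1463e047769c4e63de6006f145b7ea6aa6012db53d4a34971c607b0f90fc7606972ee12558020354d2a67fb03209a3cd6610c32b50bb1712f510e3405bf24812718b5c56337c63865e50407b30e25492c67c87de47d6d401c48004d34456263c0e47e22a040661c6157802751ff11331925724e1ee0020494fe38925b3910a77193f22202e969b53973561205b54605d54319d0731530e07cb1661820565b17096b77e02c535814e0cb5193ed37624421e16d4fa06e22c29b7040bf66303763853e0312e14634fb51770b55378b7fc1cc)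
 (.leaf 0x0)))
 (.node (.node (.leaf 0x6dc1d01a514520d2670820123fa28109374559441e72b62479a36970849257719736046814936b1486d568133018936d2e311f5f97a278839f0802844c574650b7566ae7df2776b927e57539809100144a61e3c71ef23d5c12b15736e018f2137d75116e75fd39b14d6234b675857f20960960e3da5474d368749d3a77337aa6ad5f35af3882d26f743f19e3797122736364147d24414da6144053ff5e86522065a31984081a65d62bd1c75c819069965600c0f722979f45230e7f61c02f20b405916a5bb1e07e77b85fa1845985a844276b2df4d71105b06b423f11225633311b28b3f92615e26356a14e56b341a3385cc2e616550a7521476575b36cf6df17a2da2cc1ab1ea0302050976ab64b74f5d258678578311c10174b2660683055d87281026681090c26856325a757a0d117827f64c14f26b3d95953626886431924a24967a44204291e515b7771615e05562700725ae2914c00ee0241fc4e82ab1331c818e1ec4c816e6455120d43426373d25054d82b077e3a942b3c34ed370321)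
 (.leaf 0x0))
 (.node (.leaf 0x11764a28d6d80b664414b0f348255c03857104f6196de6831400a032a4264715a16f432e6db15d2a74ba03942106267d5352eb53a45102d7ef14a2874d23ae1ed6c933539660a23e7d61747a626a5487d10677f31e821728908e3d669f60b4480c64d105a2d10483643e80861b90af4ab70f1eb4e245069a02c4c92323c866509f46e7473972927b124b55b26312e2f43b00da4015103a53ec5a949b34e16863138c1b145c17c67e6d733975936c25473b3202a25c242e0505081b303b1c43a229557800731559f3b81d82d52c27346036e564806972419371012418d5301dc31c46b50d6c50293710d356036f1294985516f97a50767726051fe1033fe0e152e75505542f0a454453177c5d43803a475c02036e2792a44e14724f854a43340d5f254c5347414f14fd4a94590152464b01aa7a047e66662646a1e12101c93a839d2e85ab70e0ed6ce1641ca26252248f65d74c7b451d18108a0a86d907c1e25612f113937b48a20f40f5f622f7d33fc52074830c15066a3100515061422400f8)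
 (.leaf 0x0))))
 (.node (.node (.node (.leaf 0x7967630d030363407449e0546ea0284f221f02675145a7675004c27c369d5967be6af3f53db4b97c12001fa6bf0cc4f743a76964e5e43681585373661f54a16d309062c7766f331e5b531642d4ef72151647b22535321433f6c02f35df4d66f673f1a23634001ae64f0eb6e146c67a58c79305865030026c00f30719462f5a423859c6e859715a27212c72e44c3542fd4c135933e0ba7291116a64285de49047052a7fd4cf7b633b51e7a946f6bc17074a21d41519a59075329f5b77840226285186c67dc3110136a811520b60732d4554313e945e2966802ba2dd7156494db37234a2225158070052fc4626724874fc26d07874d23957229073a1ac1cd10423b1d10b956f75003573d41d2cd0b74b51675e60163990c00425836ed13c72c8085252d92e533108c4be0942cf6a709c75a7ec5db20e21a3a37641317f47991595ef4b28041e903369111935c5d52a967c37d2591be1340bd3a13b62312c97b94cc7d92e02881867200ae17f0cf65f0e912d51f22652b39e7325277c002e3653b9)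
 (.leaf 0x0))
 (.node (.leaf 0x61a1a37c95c36512f937f61b0ab7983aa56a3df05332825a3b34251881141dd5581007cf48543b43830a0b025856370775d0de51b4bf61778e01e3cc3f30b241b4ce3c93ca1b76ca5d37db4611f74195143e377175b6e413f2a37e932273121c0770253776c83922851c25845b21917ac1414a762a62158f0b31991877132497255325fb1b252d13669065450f6f54492804046e30c82420f253f0ad6ba1b844e4df3931a03514132996a059b37a52c5da5e928e7390e814443d5424dd58d66b1f65d17e54d57e35e755f2d77611185f16dd07d4e75553bc4b856c4f94f51567da52f0366c401834658a4c76a97c27a164d19b4566783610083f840a6ef0d513b0ff2373ac09d7eb0a66765ba3f10e770a5747dd10b0db4aa1fb22a34d59e7ab49931819562501908722143627a1307af2042025c61061282ea74e2741512ff6736621c34161c17c73676ee5ce09b1f93af79176a4393841720414641f43c031b15e02a37c32b04e62d5eb7707ca0c52516c306c5136c13fd6e607529d68d05e)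
 (.leaf 0x0)))
 (.node (.node (.leaf 0x4a27b0711bf66e71417971f53b3ef77460d1ba49c0816bd2c449467b55248d5fc75f55a1bb3bf75e4105ed1215c40b12a80883b263b1cf1603dd4a845361f23401a3b74462e74bc0c462e36a12a5d94c673e54f3d877f71c5450e655d6600fa5212c74ac4af21257d4c32c33043bd25f51a47f7ff6a42765014235f040e1cb37e4602bf78231a79c6cd7ae72f70056866c7d40fe4662d32b26fe0c701069e0ac4305295b978672738d43e1f14f021522703e2c10aa34c3d37bd7b211a40c5b85a22d862b08502713727c3270d76701d96391f27014455924ae3552715dc4bd7b50176592ef48b6531965591de6bb2bb7b04741e36a208f54b48908b3086da76529345d25d0090a11d60ea46918a64641f70d1f85576e95854830ca3c109e7c54074270471d57a87957406422d41b00034220a31a90923752687381ce08333c4650d67e17a31f368604433d4a047929a7e60a265a1d33435382b72ad1436c753366d1b668e0fd6645263c550c00b5cd6fa74205750479b3bb28604c5240142aa)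
 (.leaf 0x0))
 (.node (.leaf 0x35f3503ab24111d3136f04d442a59964072a0ce1552984d073c1806162782433ea69802f45865c7d580017344b10509576f79434705c72650e14c0637620665415d74182503c46920a54ec3d41750706d638301d3b43822a171e5aa24d0d205258837400634f26565877d7574860fb32338b11e2f72f08097920dc23c2ca70c5f830f6b567133762737878c0c91af7bf1d23d712353c22e47863d2b32f62cb71126f1bd33667454003f3568067c40f131f43c35b5e13a640230d03a5ea07f28c0606ec3c65f44671db5e36d05873852af1760be31d0797cc3140b50615033812f878d2fe32f7971ad2361fd2de44d4b11355b48053ad2e40f47ad06d2e224c3dc3d139438f28378710c2603e72ac0b82a571b4a52550041bc1523252192ae35267526e69356417e4f438e5bc40967f7166fb4914ad12229e7813e53175fe7736ac29780139a6e25c73eb4cb0c141729c09622803c5f56200a96d26d102339c7cd2bc19c1c54243f079e5092b922b3ba65540b2181853907a713257916b4a47d0)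
 (.leaf 0x0)))))

/-- images under the inverse -/
noncomputable def u8 : Tbl :=
  (.node (.node (.node (.node (.leaf 0x55439d3114777b63c04786002884b809075a6f859a78b4f10ad21a6260271b934e10b58654b3c302244a0834576564260b65de0ef7ae54669e0510e837732955620d6647c12361fd10d7f30251e141a3437a259c3986bf50b3cf46923b72214640e77311b4e846719c15374b14c6fb76e2805af5d63e05e36b610f5983955f738771a61943654f7cf65133331e3506ee6aa34155113652146c07803724e71f7e01392f53312cc1d435b6c40ac13b35861a4e73de53a6b837c4f232c2f93f12d97810095736174794c077115e5bf65c5031fa42821e3fd7cb0724127585084fd4ac6722426c97d64af0e67d86e176d77f0c450042b7dc42d6bd27f1b33084226531f85f27c06046856f351044e3030df3ff43b6bb33d4bf09e32404814551945978f38909f71d6827836e36f540c5681504a812646d4092507e81026db6af0f65136661f637b1f35be2197171810356494cf5d97c84500f33d453b56636914863730117b2f80f23971af4f704b28930c0bc35155a67d7bd16574633543c2cb000)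
 (.leaf 0x7b014016678d75d1280e90bf7287e4))
 (.node (.leaf 0x4ae43a63a16040641356d6431e007456c73a0171f563b38c1cc4ff2027ce4a44b407e21757248626307a0106b26450cd5940f95824b316b29b0ba2082721c157c7f82b06d76be7f01925d40a51157230016ae2115633ca2d748c3b91ee19f21b5dc13a36b3d00496e41e656f0752b814b4f30fd1297606353bc36f7323bd6b55456393d85b303674870147c22a1d63220161f92ae3f26984f553f66047b2294c63ee4932ec7331966200653eb4d13666113594e91617b75e70133446f749b44f3b36324520941c90d232179a4880a00cc35e4dc6446eb19518d6a90b51b766962f34d2e877b39c32a5184071635cd3a907f1723536924821f16387e749055d1754c33d72856dc6b10915957611a27e22ca5a06c04d93d23714ab4ca27529c01b2a438e5847895e61df51c5e50a75380aa4fe6414c91743946526861cd48e2047f722619833e6ec5ee7113ae3346e222734a2f214e03b5d52615cb7d372152718829e5900730773e460f3ac64038170955873729233f44729959e08878569d1bc)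
 (.leaf 0x0)))
 (.node (.node (.leaf 0x52b7681a01640f70205fa76a7b27974656a01c32816147b136747404448b6de52f4326293d125e13d75b2df75740811327376216e0b747e25413e37e57806867833739b2a66bc01e1384ad14d2537967ac11709c3be45541d3ef3b86773884d63a800328f71436016f70d4e53190c04680bd79839a2c420777574131874c2163001213df6e546f74a6465c46887c544818473050272041032058f7f172917167f0f03546a621c15a4e65886fd7802690826c51126d83045ba2d87510c52f659f2342cf8053793fe5376477ec2d13b044352d2a01a536d21f79473e15f1b02316cc4ba32f2fa2437bb0146a262226774e3b54bd3524a94385f011e5e243f26c74768b03d4c550a7d202c43e7c27566a44db5ab4610926360b04167eb59b7fc60126e6d02c67ad15507915c1aa5537640bb3d54c26ad11880960d79b00e41170c54328771e38a1081c808d0971685394331f44151895c04f41317427086c60e538b1c62c03bb0de62d6101322fb0261780122b50ae0d729524f5344715334d71e4)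
 (.leaf 0x0))
 (.node (.leaf 0x49139905003173430a65e06d2a51c05a16e91d14d44837f955752314377e0a91f73461a82bd5046745c659d7261b82c22566f15742ff6e73566186fc68f7ca2e44511d57197187782576253a44a58085d06d45bc31617e6675675090a45061c41e20843f018c3615972d080741f4e27a826f2624a60588021e92d32aa72a24d48056217a1371990423b14dd35c26458e6c23961ec4874316b028b7e947504e49a49f73d7d01255a40dc31250100b80400a0be22d2af32523a0306f00f52e31707366906e01203ed1b64be55c08a54e73f79152a1627a73760193fb31439f58060604723d0ff6316ab31040d52946a3c110c4e061f7e60d331d3687ba25928a70a5a33652965fb1b21ba1dd55f23324c6fe16c6730e134b20f6fa22c3380547f54df08179944b3dc0a837440b20b29f2651fb45d2396950761ac3ce50f1d337d5b20711807a563053c2f02b90625b171b3d62c907c4465f85ff6f20ca5db7ed44529a08042e0284e10852b33f40b46c16d12b404617749765a02e67503a47f484)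
 (.leaf 0x0))))
 (.node (.node (.node (.leaf 0x4426597632185441e35203485cc57f1d751732637338d4cc2c743d6d52126b32511276c70e44b12250a135d61662e27c0183625eb66b77a4b23756794c434f33c08b31c79f1542fe3db32d1574003ab62362c21428e47a7126815285b95262823fc11d7937453e73f36b75965d13134e30966835a76933367a11bb7651582526343320ce0e22912fd05d5fe1be06e5920eb2a342971355e1875ae2932ea36453d1ad67022b5b628c2c121366d0dd45f34c2e15ed5ad1117072780c142361b7ee10e73b4a269102a2553f92350567747cc6ce7e351a46618b03c2104140cb70227e4c169614a42425d6244f805e2223da0d45146e608f2241a612b1da0c256b7f204f42774452c60723241b2ba7d96f96d92e72e525a48a2fc5853176025b46ef5c54a34f01425554926134eb37a5a575f11c21570412e5364a16a110a1a44e43cc66153046004d47366e79d7313e202f2de7b37fb24626a3821245766ff4cb1795ec44126d19a2714d846400c74f5470a623c0b90675317e115665823e2455e9)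
 (.leaf 0x0))
 (.node (.leaf 0x772c2bc3ea5a82792dd7aa4aa60e71c77c2a963f5753ad12a0593e30c950e78258929757a14945a1dc7792667872211c21970e736c13358a3cb2407d429012264d5cf24a57e0ab80152230b25f4da00206f28d72553245e3e15fc6872c50b24624b502373827d54d3923801834ec1cf75e2585b74212702a821d4fa4fb6287c36992762380980341ab29437f6ea49d67b54109a1a958d4d07f62771a71eb22f2f34ee3700fc1865b04ef5811b54c756401d7bf7772493455b81440430044722b60393ba09b0f423770367e2eb8002ce5492c315b6f40db1520294a056e0b85f44c83a005249c08c73c5e144c6156635794cd3c26f66a33e83635ea3472205710cf4033ec65f4a73c800d47063e35a6424566cb2b142c3c465042a5837d579059940a47d79c3f76dd43031a1d94d26df63d3155a964f66c5696555a658b10719439305310430f13f3024b96213bf60a10918f61c03e5dd3b441917f4051ca1675ca50720e2be69c5a27da66830d2d525c70e6840f860320930776c06c3af1ef)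
 (.leaf 0x0)))
 (.node (.node (.leaf 0x29865750560b06a2f726855905a8031e80335d743454c7103f64ce41869a7247ea1736b974d0d672e0415c90b30b14895f34853d97551e72b22303c779e6c30707cd38520a75402b4f60ea46b5d80085d25d36ac2c877d30e7d12030873425163e60693b657030570b10067a3d31190387c75ef3dd09d69f51f6d675c5527fd5f520562b2ad78669b64b13068011a0af2da10662a7162bb7271472cd6a76d20897535935bb43770675273938f6947b40404392a70da45b77651b7c97c676b64c5f93aa11f51261258c2a27a45bd4173307be49916a6652016626482e068c2e63cd2ee1db5241d81016ba1bd22e55b2e97ff4ea05f12378800619e41c01178e36e1a11c77405917fe7bc6975423860661690fa0d57dd5650c344d31b20c0a24631c519d32332b19008668e2607a67926d302126b03213c2e27676e81760c65116ed4d55f137849874304c7b55c220068978a1d077266a5153a644053e72d1ce67c76f7fa00517c6057a92847846080f15e44b03571ae8062413b71fc4de0ee1b1)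
 (.leaf 0x0))
 (.node (.leaf 0x3b207b19340146e07d01c06b05c28300f12d6c805b4b70576da0d80e31345504815c34ed27b31f57d0a357b44932841e2d245354817d5ce56a11449e2bf6cf7e539e60c29d6ca7005e806171577042550c5fd45452545c34078c1ed5611e51037a01ea3840d102408e11627a02d19136a61d4583836a535f5353a37595b55402ab18e33b7056cd65d2283272dc56063328670f4b63a53062ef12c5f67661ff33a7de1b47af51e01f48d5da7697a34020ed0992db7503912481822473a772f4443c62067b964e0150d00550d92231d24f93f572b65b5c850d7df0c80fb04a27451d1de0451f009535512f1fe7d75774763e93e55df64a5c713568d2b77b82d46544bb18525b1f215124b52e15d61e24418a48f6096a82d62f44bc0ec30963c3391bf3c914f7ef68a15958732e4960e042f6762ac1055c101a3a21a30931412f17f419b23f3907db5aa6710600fe1cb1103f87c40c73c57490644350634d373516d3fa5ac2a179566f6b46273497ab40454a4202ed5e04fc03f40f4944953723a1)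
 (.leaf 0x0)))))

/-- images -/
noncomputable def t9 : Tbl :=
  (.node (.node (.node (.node (.leaf 0x70c6fa41e1db2e47fb7df6022ad3350f537d2d45d14cf6c741b5831c24774186eb2ee2603850cc50868a2d07ff35b7583ee6044125e776a1244c82aa0d765a39701109b39c1f34885405ac0b30e67d06b93ad30d3956e23371426a158a4726076e95036842ca6406574fc4df6c13f87ca7ef0cd6817107c34ba4644287953063b61331a77b447e5fa06b1cc04715852909146b2ce6cc0d33a75602656ef04b4dc69665417b09f26c72a6ea03c2f83360690861305690896a66625b155e51c0711007631ad5387bc28e10852568624014472850f6e608072d0602107a66090a405408a1aa1660233d238b4453401ed06f3c93ea60b22a6da5cb32a2e259d48a5f506a50c0382f759004f1fc4c616809672b7376d30a245a0451613052b169079f6b625564c08d03b4f64d00521d372457f61b7023ae7541814e83834595eb4018017e83344f81ac29240c06613647a02000c31b1ff70e20657d4891063f64e513f34d5d33bc0d469e77b2f070301f2d267c42e6bf4ab2bd3f94825821727f6493)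
 (.leaf 0x3b07775727dd4a071862457002a58e))
 (.node (.leaf 0x1e67156ba0b945828d5bb0274f303a1cf2f64f774c6ed1237454c46c65aa24f22d37b02f2cd3840167e01f85c620f2e10b85e521209560d4c573817f11666777269f6cf4854ae0390f14a97f46793e33b96250d93a504d4da4ee18b6aa67b2f266d72c36b2415b20af2ac1ec3206941992c47a07fe61e52d69a4d124a71900778d4ce2b41dd5a929d2432222c63c180513d66575a64f44431578176427430a32850a0005b46ee3dd17a5526b26ff3e50560190d02d938a4d27832990041ef2537e60a674e2b57de0216611f10ec11731a2a25880c161769360865b56b35709e3423ff2ed7c71462940ae7617432c05f41f220b31164937804602d4fb6f23fa4552752196ad14d37543d10c5b062317366657b2e327b6f406349b53f3735bc24c20734744f1af1837d46a830c3ce34e37a3f366e7fd5e16ab1f60091b961c5f017d6850ad3da2822f522459421461828f1570fd18c7af0ef41a1ab0eb39b59c3071df7060dd77a57840854615e0246e757e64440f1b86c86e153153622b02b6a0)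
 (.leaf 0x0)))
 (.node (.node (.leaf 0x16f2fe1ae3ef59a38263208c0514f44251182444c021a00e38f0e946826833f55d1741396d825e6a20fb4480584e07f329013535464a28a5e04877b63592a56cd0f379c00b5c10e33a909d4e75b85e90bc1d72162c24a25a24b43552c727a4613af3d000657469b15b57c2b83a429647c4a815419a0422b05b951f0f74b95020d860f5be1d979a2d67d667e4742621a65327d54a57b33f012e48361454f2b66784652770252912df42007a4fa7ea5682db2137f01dc7bd65524517042617c34a7745b365c3694472c115c6992936194544971c45041a86b36061e33080901bc2501342ec26756a0986892632a13a10e86c42e632f1bd52411411350e34b79203e60a4803e055926a4eb54552044022f4ad52e7ab1fa6e42842f34a418a4bc0765075fd23d63c1691113c83273a332151a14323318023136424b6ca4ea61240205c5e66f77763901774245f74a33711375773c66f96c07bf2f14532095b52c83914222894dd6dd06e4e15af78234f45e34621851843f01b64e50662e63115d62f)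
 (.leaf 0x0))
 (.node (.leaf 0x48c79933e5805d40fe21d67f2287366584465f64577126c30974914f13190ea08e0bf19c40b0723d62465ea0c64057a868251721133a54b05b55a2e73de1c37797110486a756152f4d37502d509c76922e3984060f04ed19225f6f035f0b721c0087335c41a17fc4fd0ca52b60c03f7e963527048d7a557170167045219b4304c25164396d20851e05f15112e50c34004d401055b7082bb4af2783be71a0947ac4b647011a1c704157a1157627525390e42641646010774290bd7b86df0b27c86f82a350000a4c16484cc29519055f63d3303b85c36366ae3e44334bf1855b73817b57dc4d644a49e56217808447912973212138827d46e0d63516f50ba72928509375b1c83b258149c20537403d55c2dc45c67a5e83776454093687ee58c0bb78474967523c1ce5fb1b43047a16716b47a473a2f92023922002037313d71095e432470a18f3cc4c980344c1f414a3f11b34b13c342c0347802764214713e870729851022c7166102a960e4db6b705d25406c46f0c026f1a20de7d90f868773e)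
 (.leaf 0x0))))
 (.node (.node (.node (.leaf 0x1d1635bf04e59b24739f4e37ba42f3936220d145f4787404811ee0614b81c55797da3d556e4ff73512f26e7db7866a54143c44a72870fc3262a71a32c935056f1d403735a1d13234f563b78e0a33603295a66526911711eb2736d60ed30b75612c70d25c26b5ed54142d40731819438763961f78c58653543c2fd07d0264190681822710a82a07231471d86056bc77f7f23f739a6e86ac2b24b537f1027f83381b65636c55c767762778536741d4c32421327b977116066c70543b1a90302324d83db42a28109248f13a6632257555432e944b0021c62832ff5d559e16c10512723b04c3cb0675fe6881fe5ff04418655840d2012792ba15a7660a141f5f273c2b35c83bb7217c153d5f94513995f362172238c1a44663790752340c435236201550549f5133ec1792e85e22200222de2690a91895850881e429a7881bf35356d66039416a5517970da4f059865e56c7ad71331d3eb3c76925562f44764d768e25a25953e23a7e710e10f7a944e7b17cf62b07971d01816b3325a119772507f)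
 (.leaf 0x0))
 (.node (.leaf 0x16216523e33b63a0a514e7d22236f305546014b1566a442b78a32d1bb73f02c6e32cb6470dc2294de62a37e1384312da5c25497b738d3a63ed32c3227e55d616e6fb0135950f25873cf51579056705a7f574d1531914e25146bd6725df2d15c01fd2a85bd4414f93002af2cc66b3aa21749227e4bb08344d20e5127270ce73d4ec4a63d97461c97483e13f52c510350135616d0574161fb2fb3a21227b058f5d24235233e73250505968003866413ab0c272f4735d01b11315840ee0036506fc03540a01a2b944968f1ea41021f5763ca2bc36e8076b08021d51e712a12046d26608728b5cc7303ac7d31936646d10996760822ea64b69d6d925115f79b11951d5267ae48e12637229779354a3896db54d5de73935e40e24e71e1757f11ba0cf44311214f52c5197c968b07c7f94031b075c73b29f4047d86d02494b053c6b83130a052752855407825b5937ed34924d2ae7575550813b723553b2086de6a95ce5c513c5ae6a361307325850d05377e4947910e523f20413e2720be2ab5a067d)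
 (.leaf 0x0)))
 (.node (.node (.leaf 0x46936d3037a23964560050b619e0175a33b14343d462029b2fc0df5da13b11c05e7d76165923c048b66f4cb37c5a42527046d749031717e4275a87aa62c6e51e83f270906539d2be5cf43733d62616757505f23911b21e3651de61d7b24a13e631069834801215239e4ca67351b0aa7c07897756513f48092bf0320c956558b5b62cf7e309a5db4c72b72375992617a71f93ba3d10d241719d14c6c90d53fb0c71281f56302152262ef7d15dc14806448654c65d1b558d0e74e602e2fa66a3801985e30f43e24e943514545b64678745064d44255022177d7605733fe76f4bd76827c64318d7673c523073414033c1cb6c254733135c0e11d22d735846c59f2c32dd12b1416591d620c4360147a32572805213bd43e20a76c7c572646a3410622eb6fd3cd3615fc6dc75e1950c508b0f602833310435d67425d7205ee5d97440591ca4952381da5916291d05d82364b775d31e11d70f01e4756ec1b73dc7cb49a30252a72e45d3bf78b76d0c84381c149679e26d4150ab0436383fd3147735ba)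
 (.leaf 0x0))
 (.node (.leaf 0xe24b24326bb0fa7655371967700015ca4cd2e019f5422880b464252278f77c28c6b502911047f5d77e43a875974f4e40f947b8066681e21e96035303e92a429e43a5645f838e0cb10a71c70b7cc3160b553a68046770034474a0b07531503b521b71f28607b7941f71886835dd2d86690a729c3c210b59741c55311f6952483d810d6e03a006d6b163434c3fc6374b304030979d2d35572a66fe7981257510ac7bb54e2565095cd7ec1cd4aa1b230f5ef3b412d3761e118e63f48420d49961a1a050b3707eb00f4116d57148082273b327f3014d51877f736c74b30e3457420db6cb36a3661597fa49807e68d46336f74133931f53465349d7e20e051e1c01760317c268c7966ce7e147d5c94f276e7c463e5a571b5a74ef32b46276b75f1f05ec6005ab1555336335484d90496f61e53636be65f62d5665893120704be04a08f6560745ad3431010361a514915132e7be5441077ce7476974ac8047176114fe77811e6f16d40b131c01c1be0ff7cd6283d369c6154131843df00d0336af7c6)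
 (.leaf 0x0)))))

/-- images under the inverse -/
noncomputable def u9 : Tbl :=
  (.node (.node (.node (.node (.leaf 0x70c6fa41e1db2e47fb7df6022ad3350f537d2d45d14cf6c741b5831c24774186eb2ee2603850cc50868a2d07ff35b7583ee6044125e776a1244c82aa0d765a39701109b39c1f34885405ac0b30e67d06b93ad30d3956e23371426a158a4726076e95036842ca6406574fc4df6c13f87ca7ef0cd6817107c34ba4644287953063b61331a77b447e5fa06b1cc04715852909146b2ce6cc0d33a75602656ef04b4dc69665417b09f26c72a6ea03c2f83360690861305690896a66625b155e51c0711007631ad5387bc28e10852568624014472850f6e608072d0602107a66090a405408a1aa1660233d238b4453401ed06f3c93ea60b22a6da5cb32a2e259d48a5f506a50c0382f759004f1fc4c616809672b7376d30a245a0451613052b169079f6b625564c08d03b4f64d00521d372457f61b7023ae7541814e83834595eb4018017e83344f81ac29240c06613647a02000c31b1ff70e20657d4891063f64e513f34d5d33bc0d469e77b2f070301f2d267c42e6bf4ab2bd3f94825821727f6493)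
 (.leaf 0x3b07775727dd4a071862457002a58e))
 (.node (.leaf 0x1e67156ba0b945828d5bb0274f303a1cf2f64f774c6ed1237454c46c65aa24f22d37b02f2cd3840167e01f85c620f2e10b85e521209560d4c573817f11666777269f6cf4854ae0390f14a97f46793e33b96250d93a504d4da4ee18b6aa67b2f266d72c36b2415b20af2ac1ec3206941992c47a07fe61e52d69a4d124a71900778d4ce2b41dd5a929d2432222c63c180513d66575a64f44431578176427430a32850a0005b46ee3dd17a5526b26ff3e50560190d02d938a4d27832990041ef2537e60a674e2b57de0216611f10ec11731a2a25880c161769360865b56b35709e3423ff2ed7c71462940ae7617432c05f41f220b31164937804602d4fb6f23fa4552752196ad14d37543d10c5b062317366657b2e327b6f406349b53f3735bc24c20734744f1af1837d46a830c3ce34e37a3f366e7fd5e16ab1f60091b961c5f017d6850ad3da2822f522459421461828f1570fd18c7af0ef41a1ab0eb39b59c3071df7060dd77a57840854615e0246e757e64440f1b86c86e153153622b02b6a0)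
 (.leaf 0x0)))
 (.node (.node (.leaf 0x16f2fe1ae3ef59a38263208c0514f44251182444c021a00e38f0e946826833f55d1741396d825e6a20fb4480584e07f329013535464a28a5e04877b63592a56cd0f379c00b5c10e33a909d4e75b85e90bc1d72162c24a25a24b43552c727a4613af3d000657469b15b57c2b83a429647c4a815419a0422b05b951f0f74b95020d860f5be1d979a2d67d667e4742621a65327d54a57b33f012e48361454f2b66784652770252912df42007a4fa7ea5682db2137f01dc7bd65524517042617c34a7745b365c3694472c115c6992936194544971c45041a86b36061e33080901bc2501342ec26756a0986892632a13a10e86c42e632f1bd52411411350e34b79203e60a4803e055926a4eb54552044022f4ad52e7ab1fa6e42842f34a418a4bc0765075fd23d63c1691113c83273a332151a14323318023136424b6ca4ea61240205c5e66f77763901774245f74a33711375773c66f96c07bf2f14532095b52c83914222894dd6dd06e4e15af78234f45e34621851843f01b64e50662e63115d62f)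
 (.leaf 0x0))
 (.node (.leaf 0x48c79933e5805d40fe21d67f2287366584465f64577126c30974914f13190ea08e0bf19c40b0723d62465ea0c64057a868251721133a54b05b55a2e73de1c37797110486a756152f4d37502d509c76922e3984060f04ed19225f6f035f0b721c0087335c41a17fc4fd0ca52b60c03f7e963527048d7a557170167045219b4304c25164396d20851e05f15112e50c34004d401055b7082bb4af2783be71a0947ac4b647011a1c704157a1157627525390e42641646010774290bd7b86df0b27c86f82a350000a4c16484cc29519055f63d3303b85c36366ae3e44334bf1855b73817b57dc4d644a49e56217808447912973212138827d46e0d63516f50ba72928509375b1c83b258149c20537403d55c2dc45c67a5e83776454093687ee58c0bb78474967523c1ce5fb1b43047a16716b47a473a2f92023922002037313d71095e432470a18f3cc4c980344c1f414a3f11b34b13c342c0347802764214713e870729851022c7166102a960e4db6b705d25406c46f0c026f1a20de7d90f868773e)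
 (.leaf 0x0))))
 (.node (.node (.node (.leaf 0x1d1635bf04e59b24739f4e37ba42f3936220d145f4787404811ee0614b81c55797da3d556e4ff73512f26e7db7866a54143c44a72870fc3262a71a32c935056f1d403735a1d13234f563b78e0a33603295a66526911711eb2736d60ed30b75612c70d25c26b5ed54142d40731819438763961f78c58653543c2fd07d0264190681822710a82a07231471d86056bc77f7f23f739a6e86ac2b24b537f1027f83381b65636c55c767762778536741d4c32421327b977116066c70543b1a90302324d83db42a28109248f13a6632257555432e944b0021c62832ff5d559e16c10512723b04c3cb0675fe6881fe5ff04418655840d2012792ba15a7660a141f5f273c2b35c83bb7217c153d5f94513995f362172238c1a44663790752340c435236201550549f5133ec1792e85e22200222de2690a91895850881e429a7881bf35356d66039416a5517970da4f059865e56c7ad71331d3eb3c76925562f44764d768e25a25953e23a7e710e10f7a944e7b17cf62b07971d01816b3325a119772507f)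
 (.leaf 0x0))
 (.node (.leaf 0x16216523e33b63a0a514e7d22236f305546014b1566a442b78a32d1bb73f02c6e32cb6470dc2294de62a37e1384312da5c25497b738d3a63ed32c3227e55d616e6fb0135950f25873cf51579056705a7f574d1531914e25146bd6725df2d15c01fd2a85bd4414f93002af2cc66b3aa21749227e4bb08344d20e5127270ce73d4ec4a63d97461c97483e13f52c510350135616d0574161fb2fb3a21227b058f5d24235233e73250505968003866413ab0c272f4735d01b11315840ee0036506fc03540a01a2b944968f1ea41021f5763ca2bc36e8076b08021d51e712a12046d26608728b5cc7303ac7d31936646d10996760822ea64b69d6d925115f79b11951d5267ae48e12637229779354a3896db54d5de73935e40e24e71e1757f11ba0cf44311214f52c5197c968b07c7f94031b075c73b29f4047d86d02494b053c6b83130a052752855407825b5937ed34924d2ae7575550813b723553b2086de6a95ce5c513c5ae6a361307325850d05377e4947910e523f20413e2720be2ab5a067d)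
 (.leaf 0x0)))
 (.node (.node (.leaf 0x46936d3037a23964560050b619e0175a33b14343d462029b2fc0df5da13b11c05e7d76165923c048b66f4cb37c5a42527046d749031717e4275a87aa62c6e51e83f270906539d2be5cf43733d62616757505f23911b21e3651de61d7b24a13e631069834801215239e4ca67351b0aa7c07897756513f48092bf0320c956558b5b62cf7e309a5db4c72b72375992617a71f93ba3d10d241719d14c6c90d53fb0c71281f56302152262ef7d15dc14806448654c65d1b558d0e74e602e2fa66a3801985e30f43e24e943514545b64678745064d44255022177d7605733fe76f4bd76827c64318d7673c523073414033c1cb6c254733135c0e11d22d735846c59f2c32dd12b1416591d620c4360147a32572805213bd43e20a76c7c572646a3410622eb6fd3cd3615fc6dc75e1950c508b0f602833310435d67425d7205ee5d97440591ca4952381da5916291d05d82364b775d31e11d70f01e4756ec1b73dc7cb49a30252a72e45d3bf78b76d0c84381c149679e26d4150ab0436383fd3147735ba)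
 (.leaf 0x0))
 (.node (.leaf 0xe24b24326bb0fa7655371967700015ca4cd2e019f5422880b464252278f77c28c6b502911047f5d77e43a875974f4e40f947b8066681e21e96035303e92a429e43a5645f838e0cb10a71c70b7cc3160b553a68046770034474a0b07531503b521b71f28607b7941f71886835dd2d86690a729c3c210b59741c55311f6952483d810d6e03a006d6b163434c3fc6374b304030979d2d35572a66fe7981257510ac7bb54e2565095cd7ec1cd4aa1b230f5ef3b412d3761e118e63f48420d49961a1a050b3707eb00f4116d57148082273b327f3014d51877f736c74b30e3457420db6cb36a3661597fa49807e68d46336f74133931f53465349d7e20e051e1c01760317c268c7966ce7e147d5c94f276e7c463e5a571b5a74ef32b46276b75f1f05ec6005ab1555336335484d90496f61e53636be65f62d5665893120704be04a08f6560745ad3431010361a514915132e7be5441077ce7476974ac8047176114fe77811e6f16d40b131c01c1be0ff7cd6283d369c6154131843df00d0336af7c6)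
 (.leaf 0x0)))))

/-- images -/
noncomputable def t10 : Tbl :=
  (.node (.node (.node (.node (.leaf 0x6f707a6d84f81a925b57c09517539c75f0236982f45f158973135c4210ec7e90641fc7094421332a50943b401a41806903622427053639f1de5de14376204809733376f2a668615874a37021d47111a24045006102e5df15c75e3cd54f12b45a4af2fe10561e3813e76857ff5343744ec1ef4b51c467e5316365181f41973fb78d62e5411e13a441f7d47822644985335b812e7d27026a34ef6e22af0d578f0f80e41704924c23a856408e39861c37d6da52f08833a6d43df2a280542603e68842007707d7866430fe42779e07e7de36a6336de25900a53f7f35775c37c47ca7dd0e00347955018040ea8025c10c827128e7d33880117f44107512dc1cc55b4df79b6c23b503c3e12b36955543f64a949f72c0d63ff46e72b2c40355103f06287240811ee05175a4c05431f71780df04306866719117c6a41e60c76551dd44c7674ee7524a15911215600f43f44de3a13ca0153046744cd0e21865c773334501e2632686f405c54561813e6b234c2960713423226785ba26e4cf6117947bd493)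
 (.leaf 0x56658c6dc3480830654b1063311558))
 (.node (.leaf 0x1453b24045195042b240c0fc4c472e69c2473fd1e714f54209a0297600b524362966050516f5997731426ef1846455f30550213342293c753b77f10e6c83273613ae13523727c58e0044ba01b50772032d6ce5721745a51534f775509149b03a7167834bd6a95884ce3ef1be13d6890b36ff5d37638037f50bf6316094aa42d4ac04b5d27da7ec5753a93db5d102776b04a40e34b5aa4c16622bd0a127d33954028b00009217e7cd63e6b07a77ac13c38d5a422c2fc74e48541e1982ab44064c31b3561761e045e1ec20c15032610b39146873e1f00cc38465a0466ba7dc76c1da2e54746b960845f4645f935165056a46547b14941a6c50c068020159c3835ea3d378954b7c90c93807aa35402b2571d72a421c1ae39475364b35a0e77b948123c2202535b17a02e454c57f5db21538e1ed3623762e956136c42e4ab2547a23086902100790827f652b3aa5240ed07f0a54841b82de1eb45c66f0e11517c37b376d7102dd32105a5af49e7424f918b23d35237c3447232774fd68f2ce2141b7)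
 (.leaf 0x0)))
 (.node (.node (.leaf 0x2bc0be6574872316922805e057430a5ab0f23656446a252917774c7e839d2a160443173b3e52e646943a2902e25be3c65d641c41205855c7d85b57845c422b35b72a53c31014e7755e240223e23377461335e58167f20d5980442c373c1b35515bd3c04992ff3a57781d56a13ea33c6c623804f4fa6ee11f09826c26b68a4822865126f96f00d20e544928d0842eb15a6395972281bb39a12362214875800b64769350f14b6c02e333805f2a36cd49460c60d5763122aa3f557d7b767717b2f92606af4974d127273f67b7be40564f31677b1a627b0600dd6260057e42ae2ad3285320137d064e1af0a20141227c627f5a136b3c92460fa64a0725f444b10938942c43d19e1343783726d22213c830f1922277324f425c5283dd4eb7ab2250ca6912cd40a43f1903e05da2b44d21d655a3732cc1d22fb5272163961f54882d67f04dc29d2496fd2410de69e62424d43e5965bc0cd44862a7685d812011722f43640178c65b6d04286106a62c64793cb1853692083e950077c6e538b3244581f3)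
 (.leaf 0x0))
 (.node (.leaf 0x4b46c32261653a01152a87cf0ff6e010301260e7e53402a74e32b178116261d7ba6151a054a36d2046996a00995b06f65a00736b88071f208a3cc0fd3a371c1040861f624e69a21151f4c928c5443bd1247b24d754d2b545b5cc6fe0533302915c51cf5ad58f60746d4676dd5fc67675651451700d51e48e27e7213dc15513b5844bc51c7d120e59303009b2f12b86e33f322331d4f552c6d16e40f33c37b104e1442942fa23f4294037287921a21f92ac4b60803e80d10b97a314c7d75c04592c70b158a52327967a1830072826b660b01c7653ed36378741955777271832f39234d15f03316870730551549a6594e950219965d5ce21246f6616582fd73602d3005d774463f4612762665c648044425a7007fa2957594e12f207b5ee73914a65148f7913367c830d29f7ee5a60af3b311b0741c04ae7261db0a971251a71721b4ea04062726f5e12221f129931f17a75c0bc6eb08c12650b18200f71a1726e93412ca34f00320f1896f328928a6751284ad4666bb13f7fc2ea7571d8309179)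
 (.leaf 0x0))))
 (.node (.node (.node (.leaf 0x1e81fe1fd0e97855fe68b7770386d322d0ad2006db6234720b403d43447a41b73450e1ff4f202f18d5bf3535b90a747c3d90da02c76662f46a3fc60244a2362b91731c22325f63016be19510a05758b33575d3143d17df7610b23b01d310c6325064b81bd35729c77955e41d4003555f71b42c17483b77ad2654473b812910878b0fb3e376e2737385ec75468c37f6e87292525c877d3193f765e4830ac3321ce36e36024a03223b12c3b11e55d540b18160f32e16001920a4e267961918a32a17f49159a0312816206000372ef47d0f74c71d46163d00934e733f36438270c5b35e86665ef5496fc36f3506ec56e1876687db7130c571d2a03310d07a87b06ac7984c57fb4174784f12d139568329264045d29870e5114ff6940d84e435d11960600e4b748b6ab7223791275487464d32510e63e279d5e77bc09e7a618f0c17bb1ac60a13861b7376ca29a2620252182b059230c5686340cb14053e2175ac6fa7f930777070674d10f4d85951c14761cd2561ab3fa5fb0bd6d56f556939e5a3)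
 (.leaf 0x0))
 (.node (.leaf 0x78e1fa3c26b710677e4633861b51d159e2584e05e30f17a51676427e71a47eb45579f1691305b45163f95f22cf6252f80c60d953d56243723956d2196532df18c5d44b34a84a237a74065c7e16c43da5223fe19d01864d6bf2d706d52d0626811e42e12bf21e7ed0061e209f73a3d42d95e616a36643c6e140f7046bd1162f549c57959430b6374c64891007c525f6df3be5f57f74573d817d4e62c529e21f10d5a86a511e0267276bc4d07908081cb67d0f04bb38772d7b56aa33d3bf2c87e04387452840f935857a5a933e06e2884a52f752a4c87c23ac7351615d939375b46010211c56780937108f7fd5dc43002455f1b97112db05623555980066e7693d204d5535202c07010c250a6c74394526e71661377083ec0106cc0394f00a84950701185dd2d34da71451d3ce5370dc3af0b70a02690b03bc0893d55c269b4245732f02452307a432c42267c5ca79a5526cf6b15396a879662c4fc0ae6b35e56636b47972a91460422931e931830e61a54e50974f4cc1bf4e84fb38c65f066206)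
 (.leaf 0x0)))
 (.node (.node (.leaf 0x475c94f31d90ab1075e43eb19a04c28502269f35f71b0414b93ee6725463f82b72076870ba3672e73901a813205023a0857ae2446ad4a35cb1df59b7e63d652e5b64545551c71717bf5380c36d920b01f25d24c4db2e07d53b66975fd7fe2be58259f6cb5307c17f87761ad1b13c40520e36354fe18e1c35354d439957039b4234a40907cc34e2bb0a66d73170206fb0db1012ec0f63ab29b3ad08d34722e14d44656c66a4753e470d43548a50320372f25505d5875f873d47045616c0bb44f1a170b08b40837b5d01392507e34323750b623424f5650ce1641946e642f25e0752093683e65b22f316d6714334d51933f22c91410ee2d544377157b1bc47e1b644d1e34094621636123a666900c49d7ea32b80639776a0164077a10096146f116e5785832b633708749628f33b63c1ca4dd0d41961596c166b1884ca52534918030226a4d64773252027f100841131e62132069d7c747f7b419b50d3a22753031c83132878012d224b50c63a11d5a72f660142a11371966401d3153291d0654)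
 (.leaf 0x0))
 (.node (.leaf 0xb83c15636051526481143ba59d4254b005b06f78032322a7886385bb4a65eb34a0eb2ed5ed3d76f226d3777af5cd5801c607606a46c15e4a77992da6827413c50a405e09d6a72676f87154903a770a06b45163b31c2615a206c4165713bb7c03cf27800112f12a6ea4417b828373058531a4156c96961567e23de1b048c24244e71e15748d12d5f052668442b34343b5e90781317500545217d915451351b06700270568d63d58d0965ff0aa2131aa70f4537ef67007c1fb2d84be0a36ed7f24d95fa19c20527477a1ba2ba1f83b92d02cb4e566d3591120d31a741446b4a034655621a02a1dc6737434b20d71c54ed0f50c41c961f56b03b6462976036b54c31a344502805979c5084861102ee7250cf7471b274913657e65276440d7d65cf27a4733852c22e85b76411a512565656f1ea0172480ef7b638a4f65860490452d419f68e59063074b03f40613a6ae4cb71f7a915b6d63f161730666c62b4bf7ce53a15d62d55d41378a14738f16b37e7cb0e85476651117935ae70309c550649)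
 (.leaf 0x0)))))

/-- images under the inverse -/
noncomputable def u10 : Tbl :=
  (.node (.node (.node (.node (.leaf 0x6f707a6d84f81a925b57c09517539c75f0236982f45f158973135c4210ec7e90641fc7094421332a50943b401a41806903622427053639f1de5de14376204809733376f2a668615874a37021d47111a24045006102e5df15c75e3cd54f12b45a4af2fe10561e3813e76857ff5343744ec1ef4b51c467e5316365181f41973fb78d62e5411e13a441f7d47822644985335b812e7d27026a34ef6e22af0d578f0f80e41704924c23a856408e39861c37d6da52f08833a6d43df2a280542603e68842007707d7866430fe42779e07e7de36a6336de25900a53f7f35775c37c47ca7dd0e00347955018040ea8025c10c827128e7d33880117f44107512dc1cc55b4df79b6c23b503c3e12b36955543f64a949f72c0d63ff46e72b2c40355103f06287240811ee05175a4c05431f71780df04306866719117c6a41e60c76551dd44c7674ee7524a15911215600f43f44de3a13ca0153046744cd0e21865c773334501e2632686f405c54561813e6b234c2960713423226785ba26e4cf6117947bd493)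
 (.leaf 0x56658c6dc3480830654b1063311558))
 (.node (.leaf 0x1453b24045195042b240c0fc4c472e69c2473fd1e714f54209a0297600b524362966050516f5997731426ef1846455f30550213342293c753b77f10e6c83273613ae13523727c58e0044ba01b50772032d6ce5721745a51534f775509149b03a7167834bd6a95884ce3ef1be13d6890b36ff5d37638037f50bf6316094aa42d4ac04b5d27da7ec5753a93db5d102776b04a40e34b5aa4c16622bd0a127d33954028b00009217e7cd63e6b07a77ac13c38d5a422c2fc74e48541e1982ab44064c31b3561761e045e1ec20c15032610b39146873e1f00cc38465a0466ba7dc76c1da2e54746b960845f4645f935165056a46547b14941a6c50c068020159c3835ea3d378954b7c90c93807aa35402b2571d72a421c1ae39475364b35a0e77b948123c2202535b17a02e454c57f5db21538e1ed3623762e956136c42e4ab2547a23086902100790827f652b3aa5240ed07f0a54841b82de1eb45c66f0e11517c37b376d7102dd32105a5af49e7424f918b23d35237c3447232774fd68f2ce2141b7)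
 (.leaf 0x0)))
 (.node (.node (.leaf 0x2bc0be6574872316922805e057430a5ab0f23656446a252917774c7e839d2a160443173b3e52e646943a2902e25be3c65d641c41205855c7d85b57845c422b35b72a53c31014e7755e240223e23377461335e58167f20d5980442c373c1b35515bd3c04992ff3a57781d56a13ea33c6c623804f4fa6ee11f09826c26b68a4822865126f96f00d20e544928d0842eb15a6395972281bb39a12362214875800b64769350f14b6c02e333805f2a36cd49460c60d5763122aa3f557d7b767717b2f92606af4974d127273f67b7be40564f31677b1a627b0600dd6260057e42ae2ad3285320137d064e1af0a20141227c627f5a136b3c92460fa64a0725f444b10938942c43d19e1343783726d22213c830f1922277324f425c5283dd4eb7ab2250ca6912cd40a43f1903e05da2b44d21d655a3732cc1d22fb5272163961f54882d67f04dc29d2496fd2410de69e62424d43e5965bc0cd44862a7685d812011722f43640178c65b6d04286106a62c64793cb1853692083e950077c6e538b3244581f3)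
 (.leaf 0x0))
 (.node (.leaf 0x4b46c32261653a01152a87cf0ff6e010301260e7e53402a74e32b178116261d7ba6151a054a36d2046996a00995b06f65a00736b88071f208a3cc0fd3a371c1040861f624e69a21151f4c928c5443bd1247b24d754d2b545b5cc6fe0533302915c51cf5ad58f60746d4676dd5fc67675651451700d51e48e27e7213dc15513b5844bc51c7d120e59303009b2f12b86e33f322331d4f552c6d16e40f33c37b104e1442942fa23f4294037287921a21f92ac4b60803e80d10b97a314c7d75c04592c70b158a52327967a1830072826b660b01c7653ed36378741955777271832f39234d15f03316870730551549a6594e950219965d5ce21246f6616582fd73602d3005d774463f4612762665c648044425a7007fa2957594e12f207b5ee73914a65148f7913367c830d29f7ee5a60af3b311b0741c04ae7261db0a971251a71721b4ea04062726f5e12221f129931f17a75c0bc6eb08c12650b18200f71a1726e93412ca34f00320f1896f328928a6751284ad4666bb13f7fc2ea7571d8309179)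
 (.leaf 0x0))))
 (.node (.node (.node (.leaf 0x1e81fe1fd0e97855fe68b7770386d322d0ad2006db6234720b403d43447a41b73450e1ff4f202f18d5bf3535b90a747c3d90da02c76662f46a3fc60244a2362b91731c22325f63016be19510a05758b33575d3143d17df7610b23b01d310c6325064b81bd35729c77955e41d4003555f71b42c17483b77ad2654473b812910878b0fb3e376e2737385ec75468c37f6e87292525c877d3193f765e4830ac3321ce36e36024a03223b12c3b11e55d540b18160f32e16001920a4e267961918a32a17f49159a0312816206000372ef47d0f74c71d46163d00934e733f36438270c5b35e86665ef5496fc36f3506ec56e1876687db7130c571d2a03310d07a87b06ac7984c57fb4174784f12d139568329264045d29870e5114ff6940d84e435d11960600e4b748b6ab7223791275487464d32510e63e279d5e77bc09e7a618f0c17bb1ac60a13861b7376ca29a2620252182b059230c5686340cb14053e2175ac6fa7f930777070674d10f4d85951c14761cd2561ab3fa5fb0bd6d56f556939e5a3)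
 (.leaf 0x0))
 (.node (.leaf 0x78e1fa3c26b710677e4633861b51d159e2584e05e30f17a51676427e71a47eb45579f1691305b45163f95f22cf6252f80c60d953d56243723956d2196532df18c5d44b34a84a237a74065c7e16c43da5223fe19d01864d6bf2d706d52d0626811e42e12bf21e7ed0061e209f73a3d42d95e616a36643c6e140f7046bd1162f549c57959430b6374c64891007c525f6df3be5f57f74573d817d4e62c529e21f10d5a86a511e0267276bc4d07908081cb67d0f04bb38772d7b56aa33d3bf2c87e04387452840f935857a5a933e06e2884a52f752a4c87c23ac7351615d939375b46010211c56780937108f7fd5dc43002455f1b97112db05623555980066e7693d204d5535202c07010c250a6c74394526e71661377083ec0106cc0394f00a84950701185dd2d34da71451d3ce5370dc3af0b70a02690b03bc0893d55c269b4245732f02452307a432c42267c5ca79a5526cf6b15396a879662c4fc0ae6b35e56636b47972a91460422931e931830e61a54e50974f4cc1bf4e84fb38c65f066206)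
 (.leaf 0x0)))
 (.node (.node (.leaf 0x475c94f31d90ab1075e43eb19a04c28502269f35f71b0414b93ee6725463f82b72076870ba3672e73901a813205023a0857ae2446ad4a35cb1df59b7e63d652e5b64545551c71717bf5380c36d920b01f25d24c4db2e07d53b66975fd7fe2be58259f6cb5307c17f87761ad1b13c40520e36354fe18e1c35354d439957039b4234a40907cc34e2bb0a66d73170206fb0db1012ec0f63ab29b3ad08d34722e14d44656c66a4753e470d43548a50320372f25505d5875f873d47045616c0bb44f1a170b08b40837b5d01392507e34323750b623424f5650ce1641946e642f25e0752093683e65b22f316d6714334d51933f22c91410ee2d544377157b1bc47e1b644d1e34094621636123a666900c49d7ea32b80639776a0164077a10096146f116e5785832b633708749628f33b63c1ca4dd0d41961596c166b1884ca52534918030226a4d64773252027f100841131e62132069d7c747f7b419b50d3a22753031c83132878012d224b50c63a11d5a72f660142a11371966401d3153291d0654)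
 (.leaf 0x0))
 (.node (.leaf 0xb83c15636051526481143ba59d4254b005b06f78032322a7886385bb4a65eb34a0eb2ed5ed3d76f226d3777af5cd5801c607606a46c15e4a77992da6827413c50a405e09d6a72676f87154903a770a06b45163b31c2615a206c4165713bb7c03cf27800112f12a6ea4417b828373058531a4156c96961567e23de1b048c24244e71e15748d12d5f052668442b34343b5e90781317500545217d915451351b06700270568d63d58d0965ff0aa2131aa70f4537ef67007c1fb2d84be0a36ed7f24d95fa19c20527477a1ba2ba1f83b92d02cb4e566d3591120d31a741446b4a034655621a02a1dc6737434b20d71c54ed0f50c41c961f56b03b6462976036b54c31a344502805979c5084861102ee7250cf7471b274913657e65276440d7d65cf27a4733852c22e85b76411a512565656f1ea0172480ef7b638a4f65860490452d419f68e59063074b03f40613a6ae4cb71f7a915b6d63f161730666c62b4bf7ce53a15d62d55d41378a14738f16b37e7cb0e85476651117935ae70309c550649)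
 (.leaf 0x0)))))

/-- images -/
noncomputable def t11 : Tbl :=
  (.node (.node (.node (.node (.leaf 0x1dd0c716e2323a877e3964e45334346a85480541d93bb4aa4e23c02b17bb0d86bd2116dc07532b42b46e5494cf3c76c655352e4490537974ff1ba6a01f253501a24728d73b4e77173d80e06782e91416e048a0e26332a713e3f004233b1523a764f23e2bf6a128907c2c522276253c4cc66e5a94610782a268609a78340232f7b51710c433d51334856b5741b26e656373d0271b14c22f26f16ba44f13b18b61e7c66cc6692145c22832607f53cd13d47464043b1486ee7eb3c11bb3f71f94ba6c537c6270db15d1404112590935124123403186794f35c424e0187e32860a04a84d549f62842321712f27921855f3144305420bf2ff51e7490447810e42db38c7901823105912c75ff6fa6fe0ed6701ff5853042bb2524ab09126267777778222f05547968e07b62f6054f763761f2d626315909937b4883221501e56e42c93284412774077581c44288021577897ee2570f359e16624840042d3ba51a41872a6bc34a60d1c974822a0e33a234b27320647e0080fd38109f30c0f669278a1eb)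
 (.leaf 0x697f942e3a62e61ce3252ca085183))
 (.node (.leaf 0x6502a82b021e3ec31647d0cd0de62377f0251aa4521ab53b4093d47465fd68b50f6d22450c341065b3e11797574d603b03c6497db4860f54166c42351a07c37cd5a70ae7942f55611276314644905180ac36a40b6af7ba6b24e023a2c43612193720133735f45725875a45f02af3671d80ef3fd68f12b3440e117741a5770cc14220f19a50c5bd1537ea4cb66d2303587061d665a10d71467e70b44802c01411302d2ef04000246227b6027cf44a5cb50d3bd45c0c96d62d94d856471263a6887502ce3123553006b12466be2584d353d3ab30a2b629a6663691010397350ab1ca0fb16572624c07e40e4bf6d70da4ce4fb73c6176b910b05e0647677dd72257b00a7c04685b43766472f95b90043290e73f52716cd23326131a05b7fa55c1495ef1063be1a10cb26c03549e7965c90657d33dc6101ed1217986ec16a2e50621873b134e0f97e41ef5572d27a219d25a0aa5515d27862bc5846db7743453f170a1d50a362b39a3cf6ad51c3d209e79524a08b4a31c11b45ee11048e1d76600d5)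
 (.leaf 0x0)))
 (.node (.node (.leaf 0x7fb35f4bc0581f340311757e0d75fe77643a19e6a974216b73e5783990295976857d57751461cb4f22de7d41125300a41922844c90410567ce4d073f49633649c58c5663f275a02b65c5bc3fc06b7a460a3b44d152877258b1d35602eb19830f59a7856970d976f5fa7a167b61268170205a7781c564560e7ca3600dd5db32c41e3ce6ea1206e32417370ff4f66726117d65de68c05f1371763ac5e91a52a36090f16ab0361972ea6ff71c4477f42e04145e33f335b2494ef3ad2212074a43686f26b802344d79b5732fc0d16461113313e861d0a53a358a1334925c33437544152c63fb4e841b4674a91d253f3870903dd5967e95a14816216b03ea11625f5c651d61a5ed0454e61072cf4362d869e7706007295d061910464d72814e65d0664756630a623919058e2e77e15b548b05063419676d6aa3f609d46d21602418d1303650af01f04f5391f163b45b27801c4516cf09737e6f87e212a2d723d55a6fb74741d2f85cf1a77933ca1de7b02b26f616827012536b5171153642f7700382)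
 (.leaf 0x0))
 (.node (.leaf 0x16d35c71c77b810232e5a63a512c3f475563237015f08332156a2d304b0d069c2d41a31950b361c46b45f01951552d15a5e754e0ba7233982055df33e7073276bf3bc49329926739217d5652cc18940d05134f11c1700335202444ae2ba6802750c829c04365e4080126641862fd4ad3d30035fc36f5260be13563d7ac7b975966b04a4f91000684853c64df6fc28045444079f47a7047c83417f110943931f5bf4427ad6e872e6960926e730242f0b07e779c5f80c663c78f54348f4ac0965ba2e27d00fe00d0ee06329f63874e7be5be2fa3a11786de50805d18e28b2136fd6a22ee77b72761644330822c32433858f4252823ae46c1ae02e7f227c1545a27312150003e72ae6956c853215c4173c952731b2266ae50127251161866117e71a5c005947b0b654a5ac5e632060178018131766542c2240790ce3564201e92504b37c958d06002f0f280931d62c0c142915116072b7434552956b34dd76852557579945830714a5d77a32c20d34972f10bc50269a25b17a35a1622884f4716)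
 (.leaf 0x0))))
 (.node (.node (.node (.leaf 0x1245043756752fb1e83133ef0886b719127a2f077c20b63f4a654c32a4f55ae7c254044471375335924359f1733b834d1fb5e45d87f377a5984be21c6366a53d067f0703b023f4808065aa5a05924013323da3e519c45663018a20a5162661f626a76634744b76b6088015906157fd1ea46f0a72c128e2c308c7e07d91a91fe33a2930b12037c50382367ab64245708242a5447915861df6d96a44b43347117da7300091ad1f478d4cd07767c12242662d5071f755e5e06296586980a829d25c38457168a67a1fd3e626b1cc13844c3775101753ff68d71f4330b840a01e0117d10072dc39153e39b48d7f008d26e38671880835c48765311a2bd5ab3a419f1585b71d16dd1b06597fe09416905c2a16b66c31c864823c3527a04c525d1f526f4c171e3e45b133f1b82e327d33c2df7d28042c019b07d2cb3663891ac01b5ce7ec3c864147836e2a562228f21f0ea65f5792871b572c1395f24a748975f48c2f349b67350044602852f76e00c5473ed5ea59c49a38d0df3b30b524004e39d297)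
 (.leaf 0x0))
 (.node (.leaf 0x11f1f80c23b508e3b65eb6e20d603773611d3af5a50ec18f2516043493d74b817f0b955b2f63901db2ed7ae02a1847877396e57250ad51f69f3973a95d651b21b35770e00f74d5d97b275c06d2b53fa5cd72f5b855d23b76009c11b3883aa3d60162945d10b21342dd1b34d903077d58328504738e4985ec0e84b035e1196a67516d44a07f752a5cc1cd53a1c25383c36744af7cb31e15b0714227c46567e82381da7c113a22b34c16f70843d5f65e12025897ef07f03d0172b87710496a343f6446685541235ad4fd0e903f1942f439321a36303a02122d49920c36c4a530e6c10b418c77373a50602264a48274535075b74c2d052c2423d546903e7052b71cf4fc6da14b28c6ca08a4bd6df7643540d42a98055946525e260325533029e2273030ca7324ee50a4e54e17096845f579e00679d7921452763953de4ed54b3e26394d25da02630b2ec70c4324726e17f64635140524c811e4da5dd2aa66c1a210f1057385c120124d5af66f5e53111995194704356d14597e55d478840c136108)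
 (.leaf 0x0)))
 (.node (.node (.leaf 0x7a92101ec0cf26808757f6a706c0bd39f36213f22325457c7aa0343bf5b25d35804c723150e6430c55680f012864b55047c1556bb38b0fa76c4602d55ca5f72fe10357a1853054fe5706cb44e4b623420e4a26073c426d5c538f3db6d561350b3834532207de79a64c4db5e869b1297847a86d85527217b763e2a42e47d85591142967412da75e4e35bb4316900741b75091be65775d73327407643e5677a57df2ac12d57d26908f1677a72cd52b2285317155fb61462462039414d6b53373462293cb5b35057011c00a92d132d6f53534371727563c256978e47127f39e4841d44060bb4d77bf3b930918869449519362a25306f7fc6f34c66352914f14ca29b71d1dc10e68770f13c1a829854524f70d53640530d6b454142733972d2086821e176905749d4b96ef5764192a641c0815a869154d4b72e12b914c26570332664e1bd67137a7b17b339c6996254a13c536d08037f2370151fa42416c65416d2a01c678c4c47195826f906a1bc58866277938a04d5932563df5210e57341e7494)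
 (.leaf 0x0))
 (.node (.leaf 0xa17653193f807a15e6266c27d75a30f703217b74a8000a247f1af71b37810c4382927402813426c76f726467d66a3d10053e956f4501313352b300e4d443c4770676556ed4dc31c4de56c74441f5227ff58108630121d6e95244c052331545d60c4ea1ee48354f3f94454f03ee69d1e35460720987c760b0104731e20d21c380776a5955345b07b409b5dc42156e4767520312041b63b27cc5b60fc1fc25e5f91e67a65375624e924b28a37d3793710dc3eb80378b7e616162e3805295032903e04ec7107632ab06e0eb04c06116476172060601d41314f6833fe56d13240f3856d060f3744eb2e820932374b4fa1a61f01e455835d7bd2254bb2c86f410a1636c02be0957bc1260f422e3061562ad1e05990896f011817c6ce61b7f85f155666707304859d6ac40427e6514b11475c84b53d90c06c945e1742004b212e0f80463331bf0b749159b46574f6933e37dc1431a43a02121d00205d56eb1443cc72420d4c32b445a1807b67af00b1b94f85550840e63516897ed4663b746a5f3676)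
 (.leaf 0x0)))))

/-- images under the inverse -/
noncomputable def u11 : Tbl :=
  (.node (.node (.node (.node (.leaf 0x2a367c0077984693db42772b7f50034db74f01e6242943e34b467a04c5f17791215795af44a70830305700e0c84af0ce1064f72ad78a07c4612bc0eb2f75f740054a60c7ac2786eb3fc62e4f84ab43b53e4876be0fe6863e50a84e75fd62073205d6af3f66093686dc5e916e72763b1045696e65bc1a868a2284d35dc4ca46b41f3791821b323d2722e04137f07ff06b00540c22f5c47a40ae0327b221d68075214e07768e0442603905fb1621af40954f7481f73fa7c88017096f01a033531e5874651310ba03b7fb62f0b118e3990e73a173e7b359a1d335d77a5cd3f72cc30e8096a57d424043545967942b77762629c45a66e14c4432b463d2fc33d2db03e0f30dc51d6c92352261023087786ec6a858273d5b372a2510596bc0c32dc4925785585864df4e057246d1a55f62924393ee6c57f479e5b76256594944972d05e22ec11009e5274f422c27d56457171a22716c77222012c0d56e206e5855bf31b4964be6b916b7af5d27d867b10d70d4541930081695347df44c6b34916ff652)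
 (.leaf 0x62315e7aa1cf5481347880231b97f1))
 (.node (.leaf 0xda3d057a55445f7616a770b0382a21ec6010712e53577b828553c52d77e7667be7902670d125053a0f83a50ef5394c46a27cf6177d13b951a5b84843674e10697d74765292c82d90e246018f0b54a33562dd51c3e935a14331271309c13f7c34631d954e2fd75908033b5eb3313cc73419862972d7375ae59e6c26b56810450f026406a1191ef56c2814083c93215a806843833c2d511410856f5b160b2d73613006d226e7264cc6824031641162360c911803015c4dc6a436b7bc56225b1d07ef0094f93df63c69c03d1277d57a023f08a7ae52236e5091b40e422e65b6e47025594522657047244cd51f4900b23d96e37307c04882227115066121a11c661a69f3be4f221f7dc0983cd27c1761bc48c0dd49828d1117b91e866469302969e58039858d7d60882f46967ea37424d5080f616f5233a305f68b8070196310e519f61f02434418b65e3190665997a262c7cc2aa2133362664ad33801664b4da26a28a7710750794e676b4646ca5024c816d4ef6ba02736934873a2fa0ac1cb01a)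
 (.leaf 0x0)))
 (.node (.node (.leaf 0x5c3d56b62791fb67344e2122025e74d157611509b60a1f34936685e45252c22900cc76523980542c3ad13967e33028b1362e45ba1680563a748524c2180353d86e96ed42337855d24e47e38d6cc13080202b7580502690b94c21b060d1b21330bd75315941b0476c132f5845564725cc7127d920b0ed4fd4b765074b39477b5185494fe0c63371253ae2960b014b3156785411816bd3554716d134d1003a96195be1a97e93587801231b10d355166c78e0bb60211e06c5b42de08f65d7e76a036d73913865748f1f40632210285306bf39a00b6444482081401613c643a1791bf3913fb6d01c132d7e303404344508e25679614218060642007847701f3065433f135e0465ef62a34b06f51046678f40a28601b0d44794e86c31e455b2a51031d10be2171465c64c323c59531c1a44d83cb4460fc3e84a103f74e57066259100f37f38b54064775a6303f20b82833bd1224fc7c61d85d55744c006206522d65309166b71c0e93fe4a93ca71456e1f11c376434128200a6d979d1a758a51172e)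
 (.leaf 0x0))
 (.node (.leaf 0x28f04d66a6a121504e30f21b7e420a37675735b27f09a74733a0867d242e7182a87c569168d0a15de02c2a65f85210ca54d6701520e841955319a3b34624863c25a96fe4e950776921e7444470933ce55073164e7e50e007f4d91497f856a7546d44780ea0143dd09945c27e1f614a3823466184c547a2594c764640f73b2932312f20f53f85ab1d61995816690bc0d85da24b7b66ea3b76073231832bd68f64f3627220023333a24b203c17129d4eb17d7064803510af2ea53776f3402b66c01d449a7e218d2b817c0720cd0427001fc59f1132a132804b50e0b44a25176a97e109257e73f4706326b823e30b6414011206bb2412cf4e549d15018439d5977d331715b5467384ff0bf32a2443ba3e15634de14744f2772b157f3e61a21280891f03af6ad68522348152a6770371d73592340c76f34ce1c503a78418a62141235f18506707d7f93223864f612425a3850360952736e574325324664245d6651b73873c12b72a04327682b00127bf7b02ca2951ba3c87730395ee54448e636249)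
 (.leaf 0x0))))
 (.node (.node (.node (.leaf 0x4a1ab17b7971df31a0815fe1881c01411912fb0d722475f4257bd4313fd0001b562b1fa30179402d75e7b57ad33f74a19b20d0ff3535e55940f24b540249e41436a2c426315371b5558045a41782e646a0111486fc3142b20257ab5a240737a72839e32930d0830d970c13a3a079c11d4065b90a209d1517ee65a19212d4f14f31ac34e21076029771e6e851643c4d71562f34211c71324a850b2c12912336e75773602df1f523b5f066d22b5680961c46cb36342a6b73d25e18000536347105ea6406ce7457f36054e36714ae29a17372f1e23730a96c658f0fd3163182f042d14d20938f01c46877675560378561d6f17fa07b64c59b6df03315502274c3de6564a50c161e02e77024238332e5526104400877362e753171771f4aa0cb07a3f30c508b34f09759211b17729b5016ae5bb26f76c7db22a06472c3936f64b12193b63e24cf7502071ff57c18c4302a75ff51b5f46c75c315a5ac7462f92572043aa4952e227640451535249c7eb45b75669750024f43e5142453d46fa46e6a6)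
 (.leaf 0x0))
 (.node (.leaf 0x4f2f64ec6b23882ba7956873d658c5364bc70111a7414b843f4052525b05f910a2983b86de63850d1de28954558b1866d829e5197a32ac5285d01dd60f5d77195043eb41d5bd24721112b5ca5a548b3d74367356fd2553c507026d09051263e6946744a62ce3a467f44d5c815479923745137d3ec13c7a650f1eb57b6391581ce0b33344d46f85f24b97f665525c1cd1e301d73c1097252bf7491da2eb25e7a85473071cc0511b865f23a6272d42c527058930c4ba19c04941a5b53107c93ea3f92f83923f04553d311f2ee4ac3396140a327a4bb17e3cf7dd7a176d7ce0a46ee3703e43972d36cd4830a07914d02c30611875c74415e82163ab75d42474070a57d0df3b241e3e07bb6dd3321ee52c63a0e30f410c7b434c19e68305e3451e92621664750b64f05a32255a17923490d67a70f764d38a2e110f0de6e055c38c5a67822c76496b06157c47c27cb3046c45db05b25440e5d601750a4cb2051c26e151e0a60766431744ea3e748a4a73c053b39f66f18956537c1fe781608645112)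
 (.leaf 0x0)))
 (.node (.node (.leaf 0x17276e4b32cd2685cb7ba7fc0822304496f52882d24160c41f87b710b4fb7892587de27465117a1c813d72152b4e477f30552e25f4333c31c97330cf5ec5c055a4ee6b440d7e01d54102a908c71637e20e64a1290e16a33203c75a03710840ee3ed43d4896d30f10183651e17035fa5fc2c910579b4291d25f365c2842994745c15d80fb0c08066f715727100d67271d3f536c1013241654112ed6da5d90f952f3845756cf1675e63c45b21070553dc30912e5c226116076a17f3bf20000678331d21c78d07e03132778c7ec1754501fd7674bd4bf78b6f26b112631f56d2064c946f2804b612f2292035733f44c12ae2fe5ad75c15d2876041e54a05d462d47c54b3751457075606c84281e059000c0135ed0a51bd3804174b026c7e669907413b6d70a71370c21aa3436603812d67da1977291ca2755420ab6f93772ab0e61ed44b02a6d532b80366176302f6ef63769559c6227d06484447fd0736334fa7c10601f947d50c0522c056b34700452647336466361174d3d104853f68c7c747b)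
 (.leaf 0x0))
 (.node (.leaf 0x7ca14f1b635c2ff4428087425a752008d28c1dc65869816358802070512a0854a425d59668978650542606d21a2381ae3953bc4577204dd1951ad3ac7f729f2e92e343413516a67d48d2da4d579a59d2af62869a7b10941a65984d61ea59345336667575b7510ec4c66ab6fb3b070f0aa7a53255cf32620c70e5e36926ac1a33ef3ff3b438e7933962cb60e4222b914469d53553368827b3bb61342f0db43740b4d220f53219d05468436f1903137870010215035e041c2be3b50ad0400586354f50fa5b61f26671db30a2b30412f52e84185672c658324a2bb10e2323da1bb7a933e6164581be7fe54c77c0b77755c51173a639c5ce55f2d16aa0264e23726f426b1e679f5aa47f7236765d155e7627f205a0102144ed5617cd61b2f13a87e82d82ef09f45e0d25665df5132a45f546c30239b53d6541945c969034211c61c0152482436664675dd7156db4563b177417013e35428e7ed63f31115f0d060038949b1e748219677d3505d334a52449941553858e6d649f55769b32c2b537b201)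
 (.leaf 0x0)))))

/-- images -/
noncomputable def t12 : Tbl :=
  (.node (.node (.node (.node (.leaf 0x5766b10e732859c73c0287e619c4b62f67630bc0747690d73434f541354f5222494b313752468e0440404ef0611b148252d15a4a347f6330420134dc68528a08d4fd4220c366f3ea6672bc28c1416702541fa1cf0313667091540a67d20f535454b78f7fb45c5062eb65625506c0d47bf1291cc1fe64677423861d3a30252b71996b832b06d4c12275542e867b2745854b459613e2752135930703795252fe61b0777ce1503e73a85131062ca2f34fb10939d5fc6b438809e2a30597df3490946c56f302b3e334655e1dc3a10fb39f02c37631a7f77920a14777af60d0466f25784d329f10a3be3ad54e20f0146a92357123ef53d21b79b26340f30c2c50e267c1c961f26079d0756d508e30645f13c1b869a1a17da4304eb4030ac2de4887482ed5715d301a49f71e2256c02bf24631d4090bf6a61bf44d05105572142d7d04cb5632340ab24e0e50f86406b90d51e800b4cf27a31f1100365287802cc3d225822111d0565b74006be2447341161940de0910085214fa17a7895d71634d4382)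
 (.leaf 0x2c66d02725c023a19e1b32925456c2))
 (.node (.leaf 0x3900414703390060035bd3f84a161825c3642655a23565fe35859d64a6b70845b97ee48f30d5ed3f24241116ed6cb1642f11d04d969b4331d14bf57b29464b69649d7d65866a30fd7645385655d05da6733603f714c52e6346281fb6921bd69334013917d1672c458252f52a2c15834843b93e46870fa5474991af2225f06f93412dc53b7cf6e63b60aa37558758464e5565b627924853c6bc7453964b263d28318402e0c928037445e5ba40d6d74170534a58061273b707a4342fc1731335a94e95e61a41231301760c849223772a5e851a0a21562be69129a1e76a07e562f09f3ab80842e2a25ae05f74e5501931d92454b176d3af7152892b417b1ed6b328670b6163fa4f95bf0347e30116411c563a1d33cb40e1865a65440cc3e63a75ab7225fb6b239b6e84e64c06ef7d52f548e17c33b73949b3670c17a971641f22443f0e84b97075a41193cc19d6237a120d43650b74f7ad6622a76097e11443c978175d6551927d14254f42bb67a3972617ae0353736cd7bd38436c1ab6023170f0)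
 (.leaf 0x0)))
 (.node (.node (.leaf 0x2d16c353a1ee36e0d101011f1620bd5b57c94ae02f1cb55f6982292b61592ea0d63c77580d054c69e10e35e2ce25b2c83162ae1a746f1156da6e16e535765208b5425411ff3530b863153f05e4ba4793a67726531912917a45c87be0a76f84525c647131037d5953980c54854682597dc0f245a21838344629e36a38760f2a45c43d865430845872034e32d60b2002390a56661213d37514a93270f32c96491830696720fe38b47b1b468403b6bd1ac7e93b24027710764d83f300955a6891ec51d65e7231574a00be4aa13f0f94535d68093123ce44a80400760a06a0b72e57e004f5a36784664e573e06076e34c27f2761355cd6378074db0000022d040b1400df12e46b7cb1e25ee4904105cc29666a56f5db78c69c3513198000174423915c27ff2fa1f737276c72903f7e74bb1a259473a7554bc6175b36f73044727901db31c2152ab46a76f6ac1040192780b414f1226e01973896dd7c54ff67e2fd5173611d569422630970f67f66467d62d3bf7b657c0af0ae14a2a86f066906407d)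
 (.leaf 0x0))
 (.node (.leaf 0x547a04de16c1aa55c3923ff1587255ff70428b7c64be1f12df4ed0274507605f37364fc5f26a742312d65d43700a48911448c04c7f163c55b3a92d632e03874c4e13350734671be42877d04824277e58015c18163918855950c29746e61536b3c25e114620e55106f75b00e6d35c70d96e91c14214152674ec7272146385a57f33d01a503704d3785275a83226594e33ee3fc27c18d2d858933d75e43e72e7bb6e70827107d916f58d7281d251f0cf14d4567187064c763541b80161a60571442b20b0c602316579c1c771908f28e77a25f2d724d38e05c06237006b0882f01700c75d17ec5b11a65924ac31308c3d71c224a6ba5e26fd3001261421df1fc4a63597542690da3fe1532c71873a47de0861492822a17496ec71b4a47784442f26db19b3475ca2564475735312014952f746d70a2683aa65015d45b1d75f520653238f6d93776c71e64a71b623c5ef4276fc1774c83c566157d1e574b35a4074412d319051b31517122e3324946455c34145642571663e07656bb5bb76b67727e)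
 (.leaf 0x0))))
 (.node (.node (.node (.leaf 0x72b50e4d54065ec5331257f422d1ad1b50674d25914350574c617e1607c049761461274a09232629822b25276836d2430894057fc2ff2c36f445d28110875c2f90d24c436233f3bc1e45a77f65f474257f3053a27883ac60118a4e403a7702b06030a344b0b20433db7ca3686ee7d456b66b0184f77fd7f579432521235b26252357030a5bc0d872f48100d4e06a434a2282702a548726415278640c4d70fc5107441c459050513115b7327771fd27b5d40a907858f6cf67665a6753235ea5eb4545357f912b6e23e92774d06d21f261c3c13217aa7f06007027b42197c733c5e04206582a014e6d802407909b7b102643b4262b950d19f34f2ec0684fe7a25c92db1e131b1320045192ba4640b52530f65cb1723b31b91134ab5dd1684765344e759f1eb68f56c4316d41284295a165c32419a5033fd0c42cd39e3b45d85985723bd0f713803048609d1015c105b09a24b70004b3f632c64862a2bd3183020db2b846111237f7766863033cf54d18507e7c82dd18c2206af5fd46308a3df29d)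
 (.leaf 0x0))
 (.node (.leaf 0x2b16e42e10a405d0c04556ab30163b52043900f1f64da2af5676c84c27131da3865f701c7fa50863f29300c74d47c45973038d7a515f23343c64424770c2f426d3526ea29b4511980ad1f97f22407ed6191802aa13d64d6d626c1f55695b802d56e2414573ca58b2037a67eb6c93c333a43d16a4dd7b078575f60e3f56c65de01e49137c3b123e5e468c5997751691a07c30ff58111868273d3e14b537b2077e425a0b01c648340a0ed7973145f980366069571a0908056fa4ad5746cc62c4f805a2737790206b00321740996434656423ed6a838529577318f60c6130ec22c0a03a016d2a95b47b563e47407175678222a4486833c83b851574179e2b351203d41e0972d41ea7915fa30f12a65752c7e87c247a7cd62734516b1a357a51e0b12e269753e2717c12f86327d83360451ae25e44c5f847e71c3635020934693ba7577527377963337465c546c2306ca62151412f64f5077ea10268001f31153053615e1d420c48d6060dc21036f59b20a78d7b949a21f7b841a14561e10c33173b)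
 (.leaf 0x0)))
 (.node (.node (.leaf 0xef49672d0393d557e3d461070d47d7114b838a57931e6796040b31005ac0e470522f08763041c4737662901e07627835551e33932ee5496ff4cc3717ef7bc26f4e81cd34b70180204a33e7f84186205005f118e09c32a2504ce6b512c10d1d63ae62921d35f69049379a08068804e19679868d0167082c05e57a328817f4167a83070520292cb1c869d7266eb51623f30e6fe0e679f4387b766355364714842f44f6f548b5f64c90665433201f05d52e41471b76bf21a4bd02a0980857172161e96a55a04d139c21175930b01500511c66868b4624ee6073384c34a25d95617386994f32366814322845012995041bc7db0bb3c06aa7a726b35011b7ac1bb38c0495466ad24f03c6ce2ac2ef52657553748072c6367d31f835c4b76de0636f103301b7537430f178b5dc6a123262e1055df24c44376a1b27ba7fe78758c03e07b23d0ee0cb7b35487316a234d4117e256a66d2872a60dd5aa4f05af58e1de34449e75a1246ae2da3b50e332906e2d94f62b27c41202e04df5ce7476b6588369)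
 (.leaf 0x0))
 (.node (.leaf 0x7353427dd3483c44d61ef59748a2ad50f51143a7d71613fb58a2083800c262673f3554044b01ca79913a0b95776713cd11e3652b556619510f14b73325d68a59a28542c2cf5be3d90960ca2515096e370316e6c11173f162b7953b03f92e97b26d170e3d128f13b3306241a965f00110b4a80a82d227d10377c50a0e065166c1550474085ad3eb3dd0ba7ab2660e10b640175052b55d2054606fb18926a67418b3f05293ec4120212e33e223b29c3c620978e09511a4405b00ce65b0220122020505b237e41956862544571f2042233bb44901d7cc2e75400eb4f137a6dc0651c01792316655e728d1515e93a51d853907226e1822d50f44cd1434e23811783de5522c244e41d3da4ea3996083e50cd1b07615d208371d3f44f247855807f5cf4c50583dc1ba21751c0e94ca32f3346c41c33954752e61dd21e39a56d3e808159e1751340ea54a6f66df1f34af64c76755710766e5627405600d362242a77f78449c2fb21c1f461178a3d677b35d13607c3371ce7245e33944981a851879369f)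
 (.leaf 0x0)))))

/-- images under the inverse -/
noncomputable def u12 : Tbl :=
  (.node (.node (.node (.node (.leaf 0x59e2924d01960774b127702412814a0c175b2982b433b4003ff32858f56c76f7277394290fd39d0253eb30e0567a17ad25400a31b50f1156516b51a60f02ea0210b67191d42fa2e768b78474b4433277ce49247966967d2b91300d27ec42f5fa03327a2f60f335e7a47e32d026c7a014c2203ee1bc5405932072065cf0430274a41897b32c20c329f5fc1be47307056a46a0851243c71621205783835537cf78808052d1e700958767704e0d56612d51021df66c3e864a3824eb74769372b3b874110a20070a32a4851631880942860500f26d275f5620996ba30c0a70b766d26d2941581f438f76b20134166f0e22634642cd5fb67012157f08373e1f001202e6ff48a3a802f77f2693b66a66dd11d3cf3546cd7a906c5360e51bb0da4fe0e423832b55535028d1c23fc6d66a701a40944f33f57a0c71262f24935c007507d3843a70f96ed1600ac16467c78279057c5185aa7735e833e03c2221b32423b23770620d978144d2f95f36b81a35e301f6e128300826f4fb3761504fa2587b6259)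
 (.leaf 0x27446825b48858627058b3d0683243))
 (.node (.leaf 0x2181570d46e808b0064515801b230a0ee40f36874476e3190e33716ee6af04574f47f3d413f43a2651c36a07586d41a23056fd5b20d825a5f14dd2851977fa1fd0010691f337c17801e3c475a3d902a73839061d6861ef73f1d336e5ed0a64394d96f13852312362cc4283f43430f659809f0e949745e7e77222f358466314427929a7b46246554896430dd36d4f727b03b3144d47144315084af7041eb3fe63660d3ba4785a924e4e84355116de3927f76e004119c1252b84b55910e01a43490dc5313f65e12905482cb74306f1417325633e522c2be4fd2dc6c263452325222652c2b76d126657614d10337211379a04c48f1d90bc62e2b35e02a65bd6895f917f2762c05d16ec3947520305331bd27177455e63a2b077964133224161578642a6975b45da15f7f35f439b6e241f1f14844db36513a04639546702c7d367f7171376cf62015e4104e46e50d36b216942c5547513e668450577c3cc48b3ab6b160a0ed79132124d05944748d1982565900347a86161fc1de7e804428879f010)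
 (.leaf 0x0)))
 (.node (.node (.leaf 0x1dc09621648371323d1d553a6350f54365d608c6404df66b34d3dc03f1590ba2eb7c10a377173126b38a78f53f5fd3066ef0421084a915431030b69b6736d875c5526147b22ff2577d22e212f0173a608d2972e064e8090574bb1db7534b73b00374711180ce40e14e15d1140ab2ed7dd4595573095ff1c05f02de7f634e2275c856720441a31c19d2ab0844666471670682af10078c5d246f3621e56c324b5714d75e48022c63e37bc6767650cd6f30d645a3ad31d4557d43644956481d84912606007b169d18b01d49d22117925f09c0a157e80753c19e3d575e5d55c435a7976526326b07a24f319b05a1ab40b0526745347d74f52e15942b601560863b0b80ca14b1e37cd3c535102667233311f65e0ea49c5d803645f00e1e06cc5be5cc3a05a632962278d8052a00af4773670600285db3377685223e960f1f756b1e455f2ee19f0a521103942b7764ad01410650772f3bd71205c38616d2b273b3802286ad09b1ad37a50e0636bc42051267e50b78a7ee59662b79b7775ba7806372a1)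
 (.leaf 0x0))
 (.node (.leaf 0x3da39e65b61f7995854ab2c122e7253931da07e06b3402034381b74e26453a25d36b443b6944a62d85fe7cb17b2d921d72434221a76c63f2da62816548c5c504f1396b71777bf80818634f4075824e15215b75ee6265ac07f7352fe8007c803838700f28c49a60465d0220a94ec3023c308745643d0fe57b1053113522245f835c0615736e603237e1a14d132333846d7002e53a42464dc0493692ef53e4d55892124c04c24703bb13c0e63b35a43737d62813b74b210f0d728e55d59b36651920e21720c0550a240d3f02676011851837964ca2937e10cb0d171d31e7ab1b424a2023740cf29e76720d39941b61b58a7b727e6e31357831846a116854c0b94132a82c82d67ac63051d4a05c67214d64ed29611a3970b160c5d957757544c0235e55644966db5f644a6c76ac25c3476854c50db5392cf3e746b33620b5817c51193be4c45467eb77a7b94227185203cb0535030ae1750956825ca4f62304536c11ea56d1e97103f82ac5ae06d56e2a226e41974d3705106813ef1bf4021c5170)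
 (.leaf 0x0))))
 (.node (.node (.node (.leaf 0x2d20b218c6564c30c95ce34523c5f25c37117231766f038c7f92fc45728013d55137f02046e6256191cf3de2501533e265731673007922a5eb46076162d3c021351344968d4da4de0c87083d30b32f17e60543a567959244b19373465f6b376a0316d04c136035673c14604a3886231f528f8033300e174a4ae5351f628b4036fb7b87032dd6656a847d5432350485a015b8044230f763e1330aa5d021c3b57db00b4614122c761356f3c869c1077951c47986c664d44610b49429575d6c85c93ac1ee4bd43445800576975661e47a72957948214861066a6907c95686fc5445b35a11424bc60767b4e00022f77f11ed5dc51462f6c918f0de2ec6f727c4727aa0c464f19a76409221f16668a4c77d92056493963896bd5044177596580cc25527809d5c704b7bb7e44be1270e870b25e72848115119047b51e2536e43c217c54d0b41384876591f931247c21e29d3072f87df01337535878742559c7c700c2db6df1451124e301b7da2e43c15027b506708a1d771e08e3352237b051a1233ed)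
 (.leaf 0x0))
 (.node (.leaf 0x6f54f010408843e54f58c5325e939162c1cc6ea6e73c94ac62124f4e61fb18018176347576647e3af5a570665c6be16a3345ab1433392484cb36c12c00327538b18a03d7486684cc74030425d24c14963c1552c46b62bf5242aa60b23f1228064507d14f91a760348e4ea5c101149e2f556622f77e6667853184657a73ec44031a4806a31ce4456ab4262684f213637d13e72a4ee0fb50c7d55a312b7f809e2bb23409a6641f219218731768f32c5bb7ef69a3014a24d20a04a14b64ba59d6ca1ca3fa61a2084d85423f206a7e20ff34b58363912a03e1a92495bf72d13b1b531f5c277b5ef7dc4cd60902971c36b71a2f007a79c6fa6da2826c574271f49f3df0a43987546bb4620ec06410c2e60bf7263db3254b035380144438e2d42d37702ce53d05d49b4a82fd7604ce34a51517e1401fa62a6385164b94c60df54b79d4b87930196a434c0970e71aa0eb0075f568c54127f73a61247414f7022153a155a51f08f5567f41957f51fe15c6c441e7ae7cc5e651c0bb19136113252e3633ca)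
 (.leaf 0x0)))
 (.node (.node (.leaf 0x6f865013169e7f04527c24f84c811c5ad7452844e57c679405e69f5747927a60d017a72c09144274c4b307c78e5996061017557a573d1ba7507d02a966070e3fb3f929c0167bd6a910d2727e04244485bc41655c2e978b61c7fb5b66bf17435d20a0661291d077552b4b455b4864a530f12d1472895a77c345c3bf0651c64696316d90904412ca76264c0ad1c807856907612e08937b43c72e74e2ba40c4987337053dd6f92404ff6296715de3552913f321b0862ad5ea5724052b10007577ed11177d2bc5a859776d0986a56270744a349040823b3d866e50d2fb1e14046c02ae3001b84300c67de4f452f1d22144c93bc2e370c3441ac6176544ef2d74f17e90c02d15d424535915a2a43222613d21a00817fc63d07b5453150ef7fe4aa4bf1d13ce69916b4335b54fc36f7095376d373652660e5017ba7376d72a311b0a83c630d0fc2991e61ae1341826a217338d01c3f10352291520732441174012df61158d6622735172bd54e39f4e70583781a82102a73a904d1c922d10e1165f765a)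
 (.leaf 0x0))
 (.node (.leaf 0x23e32e1b11dd0bd5e717d3cd0721cd1b01f86aa5cd6dc1713d74e95cb6675b851b28a54a2370f846c59544e32041826a08264b7fd2b535f0476915387f24d34371b63460c241102b4a70935477722511b92f410916c6f221930859f54953b1ec0b52c34063d669532f50950639a20956516e3267c01615b106e40a41c3577a317242e3aa35b5b95dd2c53ae1564216fe39c55805167a05b3b97e53b458e5277c41af70107155022b0be78950a24733a70f0041c732d1995b07153e05604150187166cb6ce7af70d67557d64218d1105a20b05702c92871c122526245d23a6023310f11e27203e46054cf0f43e17496eb5af6984141d66b93133792e852a56123265333d52929b79e41d4635e26d56181e864604030352549919433c1cb55971b7ea26459a0fa50023343236a5286e97ff00d7d818e3245df1a56963fd3481ff47623968e6ae3a36f670727d43f02d2a577803a74653064458867868838142d45b6805ec05f3f569220f7be3f75d74546330c53b14276873ea6f47ca16f3d111e)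
 (.leaf 0x0)))))

/-- images -/
noncomputable def t13 : Tbl :=
  (.node (.node (.node (.node (.leaf 0x5e30f049b20d0fb7f468d4a413257d2d22982f75151c02465e221b38d5821a07b018c04073578042b08935b0d723411a3f121c7001e06545130245382134ea58b7a324735730d3ee4392680e33e93192da1df7500311f545803c2ae09827315354b3713747be3130a778239f1941ad15e1183860e55ed30644739b2935bc50656b5091772c267324f27b3663de4d50862966d64b04430e20b169e4f70931787882cc6e06401c531e0623a006141559e3c82eb0cc35a0495300e90d217340774607f3995b474263a6e34f24280bf6232385566d257c59057b3e632b4fe56636d31c7f644559d33449a34865a13f1e41b64c60f605d4f551722e5ba1c72923ba34d2081304a54921715773b63b73aa11109f3981521906ce2f81bc4e71a70e47a45367e31507907054c823c72765f2ca1357e12bd3816c25d354c3e344c5d560c02a01c6927242bf73b55a44d30c2f975f1cc3595ad56921247c59b1ae6fa3d41e367762735055578116b34343b5c803504f47e00841b6284ab67c5eb2507b6397)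
 (.leaf 0x6376647830d61fb2e66617bd2f5051))
 (.node (.leaf 0x4f17d72c96cb2aa5b568b01348230833a43541269f5e642f71910a66d1742a065978e3b266f15a52f3f409d53b7143895356e72993d36ef5f15b15053216765407f166219e18560827d5274f96d06dd4c10a66123e005f4c56b061b1336303d52263ef43a7b70de2ec7a91c34fa40925507d7d95c92af41c2e07483fb3e16c82dc1427615431da23f46571e08e1217aa6064fd2797eb2070426105463bc6512d71835aa1282774c03e540f22d37a5191b052d02333814673d05b70f0c21b16313173030c10730fe4a96753263dc76906b69a2e87494d47fd2be2f24d779c0661ff4750af7de14842d1c11be19514514722876009c18d6265125c65bd11f6a35ef3916343d94d336811e2093eb1373e704828e25a59210f7cf1386241920172870e14745d626c6c31757967980821a82e40a13364b81247543377650f865e7ac4307c734f65264873a12e74d4841691d95d05d74ae4e340878f1db6001d673280305538745236203b3093c15a861374e7a06ba12a40c7e07d604a36420379e38c)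
 (.leaf 0x0)))
 (.node (.node (.leaf 0x77d24b06877731a1d40106ca6094a60b33d858a5f31340541b306f4e83ab04102f0060153b41bf1192101ac1d77fe7b51725042de1b43a414e71734e0c35946d90ea45a46725151b4bd04441e6153056b17226420767d439c6718026692334777455ec3c97764dc6977ba7c94906492761eb5412b271f2bc2b34957a16114662d537e08d12f00a76263937550c73342c7914fc4e22b15335ca0e74e924840415c7dd27130124111527c2d141715b35d5cd28920e6bb1910cd1124ff1d25dc7e81094ef5480c828c42e1d50594203856b27953536437db01145156066c7c43e82c53ec2914f62a47d01fc7923f32e141607848d2644a340b71c4983657793b061653e3930d94493951874101c65327e25571d85f568447b43c63b7646f20ce0693a872536a76d33917668058400e7704326740707306ab79a16d6721146b51233df13a4e43127c11490834ad5be3fe53d72a2296955c53026653c72210ac0962c765009b56205c4f447a3474365a363d3cc29a1615747675801e602539d33165b)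
 (.leaf 0x0))
 (.node (.leaf 0x60a7b82535b71313bd3761651202405264cb35815950135617f4893ff2614cd5c06c057a17a3dd52e33339a6206aa5fb16038273c6db6250944fb2b50604460f93a26d301a1b845079978c54d56a5f914340659f2575a503366a6ae65735435c5675917740433457563d62f67b96de2751a442322c1cf2d046c00d2182787267026ff00c06432c0ed59543d2cb46e3ea7ad7a774a71a73764a33d5f72ba19a7bb33e46d75536c14d5a07ee71625b6eb38b1de0b64b72b073e18b37c77f3a93722dd2886d744462c2a92437c22fa23077a43f1c45cf2631056bc0805e85247b15c10ba37f4ce5df4ee58f27a26f08c36e0ae4eb06c2cd0be4df8063690c737b0bd2904213140912624ba6b65ee69c6fd43e76f31b25957f3cf5ac26923e1262020574cf19376c2a715f51f1ab5fc08f03e7867520387391bd7587fc2ce2826681e93c456815d0bb7f545d21512b19940558641d32d75a8052fe3555de55d78b6da3f80817202323a558c4bf78a1dd29c5e15586e51b74d93f277122a5000095fd)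
 (.leaf 0x0))))
 (.node (.node (.node (.leaf 0x1ed23d7291844c30e842659828d16a2257ff26e52b53149d0a57f834a23761442a0a946f33c2ef0182a847301f3a76b96411803c57c01176b84916a02841f71f00146a567b5894c703675356517975d7a26a265323a3ce4964c92351c25964b27082df4ca62d21724c26746022067d2867012047183f922b3247e911041f6384556940fc0652e708b7fa73631d62130480947f3c30e63251fd7d572e26d5287da69b50832e17c3a341a1020b959a0d373872c5d81ef4624a825d48347954911b70d3d04861b553a1041e23fa3d70582cf5f83cb4634575837f03c061d7514878071c806d07a21d5a92d365d7932f03f65523d24f84780a423671d68a7bc15625c0c427f5db50d0304255856f73a127e6bf0c67cd6d132f4617b204520f0756046367b42ed64513b3427ae00474f0873155446cd66b18869d24454a1447dc04c0077c88007940c948176648a1705936900502c61160aa68919833559c5d220c0db25e1132e203468809e1f143134629d21a0c053f0dd6ee4e54de0850df1626b3)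
 (.leaf 0x0))
 (.node (.leaf 0x74469134c19f09755c29e7ed61f36377838f6a13b93880005e44723bb1e82b83442c35637f92836031aa5797c36a90ef51810c5b602c44a13624a6fb65c4562811fe03d4190712e305a4b365806703944e0f17c552a6ed4bb2190a23703516996b416f7f31bb6336ac2ea4703185f46873b501d22749f4711f35b35ae17b5c301e35f07e27077377518f11d3c26552d800550771555377e0845f01f863553c5702947684681577df36b0a87e603207240152c77c4a26980ca1415616c10272b95500027ca0d52c168251c4a02a60264e10fd44201b3225206f36af48c4da3671295252e934b1632ad2fc4ed5721225af64c5785ff3b851d2520900f352348f5a75ce0b407b73471266e7ea4c25b97ce70628b63e2ee6472b63da4976324b143476e51a60746410b6446664334af62f0636e65297cc3293076704d01067416850a375b5227fb13e0291975d932072b6a42667d31e10ff4c43102745394222230f26c70d11644e039260d50e57130a56f26562a20b1a56d412c67f6c950a438352)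
 (.leaf 0x0)))
 (.node (.node (.leaf 0x4596ad0474bc5162161252b46a730b15845f21421f18e7285f616e3ed27248824939e20636154707413c19b3b10b871b5e55ab3bf3162a22f14f325658e0dc2b75517727e53cd0223e474007c68343776b6c55c275c45302b49c6f96bd5e70d05345814414a709a0951dc31f23b04e4b47d801913d5882f416c7a53ad75764f62277b05255b7b374c0013fd0ab4115874ac08809272103716740d0a05995ea57e3fc64b5213ae1085dd7ab1d30203f548e32856c1398016d81b26cf64e60f5fe78430f58d20a1af3497ec39637719d4b95a16c67d220008a50f7854693808085d428a4cc11c5c71a218a4be14c36044b6f87bf1817092855da49350b2243ca3a60ec47d7476c401225f68f79d41814a46a56d3f767e6184403781ec21e68e2e555932a6ea1e742721104d00f70c0d834033267846b6b770417d57322f38e70e1a910e5115b229502e6563231516931965fa33f2583ac1f972335e7314d22c000b33b45b32738325467a0990da17e6df3db38a1b910345e1c970360179b63f341)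
 (.leaf 0x0))
 (.node (.leaf 0x6fe6ec70b54e6675bf40e1ee6606f66dc3300c57a65b02224293004ec40a62962e1e52a112d78d0b544859761a04b5035d10f52d64d80ad1865541a61686e21a144f61c2390285022fd0772ab1ba10705e0036cc75e2606a82455e06e460e5f20cb0bc5e96be1662052011f43942db5376f56197e70f77113af4130790b26a655e2a338430e1ce4541fa5a629f1cd3791012f341456e0ee4d63116f15bb70748b63c79f2c41ca1545a40f437d74b4b536f6790562313c67f762b1f645c0217436e83b34853e272f1825142977636863735a20d42bb73f4e65453905cb1276f014f2a54a126b10d6637895644764d10b04007ef3f05c429b51e57503f06a4b67d11ea7f27977af28f02d68c10049904605364d61e60254f57661719c3d11d124d1401f22ff6f440276a72d4030b72d94dd0162807c66fc2ac6810e04801895106056961cb5427872c83be71349e26a03a60b1552427e41d055f14b7a81a36d55cc7592fb6462d46e149470a4db4f05b806e6e98040cf42424e0fa0eb7104aa7cb)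
 (.leaf 0x0)))))

/-- images under the inverse -/
noncomputable def u13 : Tbl :=
  (.node (.node (.node (.node (.leaf 0x51c47b5741a80fb7046d542d7b105e7de78e5585155c90fe5e079b6a53547032d40841fa29919c0b20410cd09b43f72e1024bb1073d611530d2523360e280657c77318b0835133c07072412850887bf58512627c6571497f31542d748247d10907765b6557be62666918d3e17376887e55532f57ac09a76046865f7db2173a211c1e958e0ba4c91ef15b52a5c343439804a10f4e345d2133bb30e0c25fb2163ba6da09739d6515596364a22a86611a53700e439e1360a010359a22443761366e07f5a84b43cd5521677ad25f7ce2c71413e547c58b5d12332ee70a16865d4757572402fd5cc46b1a76a753508f08d6d74c67ca05d2114845cf27817663f7884142f074a3a880011f00a3b633912b7e140408644a3fd74b1432ce6bc49a2eb0e87586355d30c44107205cb63239b1cf00b1116c558c0c71502ea32574f5dc3c502a5257d15815762030d94883d078138c1e25aa5b30295726d23b31e54417342e81d44f83502702f93382376ae6a83152a660100812a2e959f1387c957e3a45f0)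
 (.leaf 0x19f36b16a65961b7084152c3386128))
 (.node (.leaf 0x28306d49e29e6d94b74cd15d09826705c2103d90794ff70c27e6655637ed65e0d62982ed04377010522841c29d57551165a1047352bb70d56c6067dc46d79a0a147145131776152e63e6676eb3686f41bd1c403a1d005f4c551b1fb54d4ca49060e3632cf3fc5c564f37543268775678b3b55ce1c054109d53741d22339f00570147a1853bc2f60520f825c5877685785b17221f03c40fd06574c2595431c52ae70f3590511d92b755638a25e56d7951236ee3eb16b17d77d4221834f712572d19e00935301a24620f18215c2c076246943e1e35ee5b05b81e86a16936af33234a36d5922d22ab4a453c1721861451b83f43066247823132d33ff0c51715d61aa7a53c641226f6d07d45ca02302d3605db2517e40af6d606867c09c5733bd34567464a6a324500d4bd0cf5013cb20d4f454053823510d42a4f027a4652a00e51ea7ef07833b1f914f7066b35176532771ac2cd61e4b000718f5d234c28d26008c79d7ae4f33a124e48e7f939940725b7ec4b641b0816c962029673873b58a75f)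
 (.leaf 0x0)))
 (.node (.node (.leaf 0x73d61a7cf5647136770210450f36b88013b079e46e3da1611e654713d4ba0895b95684731a68043404355d01122614af1be2dd67f4aa7b60ca7365a04957dd2aa7111640f528e6b017562d65c0946a20364fd72521511e26a7925e90a757b31602646f0332b07726975805eb3d55456d83f82af2b229c6864b10c35657307cd4fb67a1e463b5777692667a93db7e84eb7a25f910b60b75b2094dd0f477809f3265940ad0572686547504491f727b54936928967e4401b535b1d75e662c5d573315314b4cf28f0a466349d6ac4912b56b55190c13ec2935a76621f319743c7677216430ce1b951f50a25d6716506ec7c634f11418415568c44864731d6c73d84b53106fd55a2d10020a57057401ba2fe5d93ea2970d30f07c412f67971d2916f64a56421fe0393b71c77d20751ec15a1c30e12c161178767632d05a48d6b21b060321e45f5b24bf1f53575167f02181b73f23421660de0ee10a5c46ad1bb3fa6233f30d701b33a2e41422880fc11650837c44e05449b3e87ba1b34026407b9371)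
 (.leaf 0x0))
 (.node (.leaf 0x6a97ff64b7315d80173c335f14d7f67b473c56f24279876b4db1065c67fe68b33d70977f4de5346087c207a7d671009330b6b64cb7f56dc6152d538567d09e7165066d30731474cc3830461337c84fc2f85034ab5143733c935143b0315826e914a7bc3c266f2874091e01da33164e22c5bf1002752ca4c456e6c33fe5ba2316e15e17c53f77ab1d35204561c95f31d84f209913064c1944745c05862ba72921d1a93210285fe12034e3410f974e4f915811b1105b577652b2473cc57a72f2395043471b60041d230f7893330144d64792340a622e2c452f4e754f4ed26d1326c42c262b7fb53921a8087654d38037f703742c1635d72000634ea5cd6c23245a10db1c84274962143ab38274955f39369a2b642654671213c53a2722c81df09230154820b79424407b2a41ab80913f5974535bb5424804c15367ea1bc67b7845097eb00601345b6db4430763aa1a16e25f774816d7d34c37e27b33467442552cc1eb40c4c82ac4993817c150f02b71f6ff2f74d053d49f72a1405e5747303418)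
 (.leaf 0x0))))
 (.node (.node (.node (.leaf 0x46a5d419a2648057a431b5981d67830c67b85af73e10e1d51877f81ff3432b475462a5ec33c2047e906101517951d0dc0c968960c3b94194a64202492e24172792fa38d28274171b6b17a67a101f72879130516905824d0916734b81c24640f12e64636300445bc7cc3086d160706017c2dc2ef38448148a37b0180b62e36385e432a4360427d85076b47173657d50eb5fc4d23767433e369662111a5243204620b763d4422860475a43f145c0e968436472c13124f7da4d11fc49477a35d1de6ef30c32f1915ac6e71cc0960a823a43a4ec0822df0501225be3ee22f3af00f1f64217d739a7bb6f85125661012086df63a0b562729528c4e66f23f559115671e7900c004832203d76a2da69036271934b22546646048646112d6ca4a958473f0625263b23e413b22938744444c5da0352f14c20f76fb0532a74247e750562240856a49276c6413f943122b5614a16f745744f5a33671800e02e50b41db11d29022d11328404b1ad4463297665de53b4ee27f3907cb52d67017a30718e79f74d)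
 (.leaf 0x0))
 (.node (.leaf 0x55d3806006376e031f6cb1746983ef2485b62f27c04da59945564d0b12be0033967bd66d3c14f13df5ef0ff0ef60a7c366661838f28115235a52318841e43d02c36a0301177df41f67255428a71576d29a4b200c36645921c75c5ab3c866a6ea7fa2224580ac79705954c70b6fc5dd4fa07d5ae3274d97f15605ad01d6443de49316540d5557a36c678f20c77437468f6c808b06711801918c3971f87e31c16a42d61214476be0716643d737d60f0d52f31d13b13a061f14e2381700ec3be2056463950f60720706e85e355e04f74575920732e56250d59550b79c3493880aa6cc01c6286bf06c1cd7635e821258326e71a7aa6175fa3a702433f60924a0740117d959c15f3d457f7467fc6cd02f0bf12e18127d3e649876f1344a77272b34d51082542205964e217b5180d87b503f4df3bf29b24c1f10854e56e54895891f25c75331964ce6f556966c55752839257063975a55b5792d053e48b5df05b3fb0f27790da45a32872b36f50e1512a23585020a919359e0ab4d82de7e07d06f1602)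
 (.leaf 0x0)))
 (.node (.node (.leaf 0x6ed2213a33944ad1781b161434816038b4e42626050df75d4be0d03ed26944d6a00cc26b44b06f48f3cf02e77c4ac4c722a0a26e647730a5444522f41776b94c00164dc15e74217e6451c63d120a1733562bd08a2197861dd62919d5a240e16e3dd7246fa4975ed0565f255c04d04e5b42e777e4e83e22567af3913ad31c2ec04c68123f1e13556102db1906d414c08e0b83e92022c50ae6e307e0490003782507b725351045476e5f432c0ed40068a3094e05f14130b32767a83116de03236c6682a978d68365648c7a03443776f92a30bd7756800be5c278a66006b69158f23d65845056b0a32584035f64113e73615a931928b6c00e308701e6f30d26f06196c12735005c10124282d80555fd5671ed37a06420e10c6bb5ea00e13a30033531e6946991e73144f523b48742f4331190666e43342017f414619261d6a606e33e53138931247819b1af3235714d75223b80901a206a6482fb0cb5b747f3dc1356520bb22779951a37e7a70d10223f650c40f4f65300b02cb1a047e21b2927ee)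
 (.leaf 0x0))
 (.node (.leaf 0x1f42e147062e5271a45e71ee7850696250fa5bd7534d416f75e68e5f837949c54e1ae2807b258d3d271c03e24b03440659046729412c2711954b33b44fe4051992c651e37275526544554b14853270057d2b81294297325c826c5e26782261dc35e0bc8021576952b96b76fe4bc0012e013e3a614466b0ea75113969f42b38e4a04b971869e7f23ae0400d41ca2ad40a79340134d46c3022306cf43875243927412716226329f03c41a4e97e66ce61660d76409572663436e37f8070b90100e668259b2ff5883a96752575f52fc2bc5a56bd5a63d360423664953f23c63c3ca73a47659320612442e2437772a54a845e0207c71cb3c752961c71462f3ac6ba6924301ce63316c0c813740b4233a578c69d4724ae3520802bf5ff78007c52c3ce7716854856dd02542563118a69b1a30e75512a141631823277b19873918952121f1fd3f00386ab23e02731a2c939c6122b14a315925a3e069c4ef1b22d968d59d4e17235507b070248332b17f3377fd70e35c1bf79654a03b3303046aa1b40dd)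
 (.leaf 0x0)))))

/-- images -/
noncomputable def t14 : Tbl :=
  (.node (.node (.node (.node (.leaf 0x38f4e92d445d08061a4d856b7777b06ed06e5c013a2c05b026d2494ec53e4911890d97486e24c302544d1a51fb0cd5453f129729d2f90e82ce3ea5be19c63e1af50121a0d20627e50aa2560993db5ac08e5975bb2093c003801a0ac0a21aa05d6f27eb63701201b50d4ae6685e338444f03377f0420754625e03661ff3fe08524e43720f39d20324f4fb7f07784f304e0f25344f83851173352693764da4437b67324a247c2ae3bd6bc6c571371a48255958b78d6d93b60f63b205935d7cc7bb0c022365c35979a05021533e1664c803f4d16d257c72f0714dd50f2fb7120295c95c83e96d60bd4f15a90c46f01683c129153015330f5cf2485ba1323381516997947b341649d60f2a610265b09640d09f3986652597874e83031a74c932478569276475103033b4e64ce2016e92be3421ec7c824c5f73ba79e2e65aa64460c21e01c3066147032176ae1e06fc08975f63a73e39166d3f806331c54c2ec58c79b08f6240925ec3eb48a6d42d074c04a5c37470085df3f24d94714c7164788653)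
 (.leaf 0xe77d23d32082951570a81d56b5657))
 (.node (.leaf 0x5bc11514037440c7260846f505b2ab7f62e24ee6765137a55193890fb3c40c679700442846113d7197841a828c71031b0bc7ec3270035a00171eb0747da73348b49427477a2065ad1f34236d558056f10e47e48f78318705f6397ee1f52887ba3a50e06212e77ab2da7d94d06d15610b70fa7aa4af6177d56967f172c7fb5023d75e926620531d5fb72d0e16fa7a91216ca44261f1b634340259254e37c76e3f31df0541423fa42471410814b10a46a7f56e065601877e38b5321ce1714567c201e6ad34c6402a80c71303007b90d04ed5c20bb57b61e1c275b02e64746660b39706b7d86e17cf12e1fd39501f1d40ee24080145a0db0a12cf19874057777519941f7f31e33782c84c27c70e40f76011047574b379958f7253da2d82007c664650756a6867721e95127067e762f3f64ca2b65f966c75458367a54930a2bc66f25a80236246c4fa25f54174e67422d2bf11e4b967c2160161c630530b0f86ee2048032754676eb6af53f3717ca04f06f76f7c04e243f0b920c22967e63d5480dc)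
 (.leaf 0x0)))
 (.node (.node (.leaf 0x2357497b25f367973b40059a4155050050a51611c718468579f5d93a169a6b95af3ec6b061046e55a2dd1b236443d52a3042846305e516c51a4ef6df0a63cc42207e52618561649f7454ff5ce64a61b13832e4cc1395d86a10700313a41631494bd32b64f1a65731067ff7c41b93ef37768b42736a8084996bf28372264e73940842c3f018f1ba6803bb33037d73610c3752396725cc1cb6096cb7f20e303515c63151152b1ef5033251161445182366614db4c155441019d2de39034566a68207f17a1ae74f00a1736ff6387b40fc2716120135392f67895463a65471d04d54933c32684a76941413d02826365cb0ec51b68d41d7345a555e4c46233630ce24d53d3ae4f91c141c2f434b2e059e7926c06ab2d540a27023b5387a44693b053c58243823d71f7fd76364b3fd4ad46d52766623379125e18b1696a66aa7702921f03151c011043277608300e03949a3a82724045636136b866368c40f2621a01a962d09b2582554f427920e16019f0b239e7933013c514708864c42b65a3b304d)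
 (.leaf 0x0))
 (.node (.leaf 0x41423e71572324409327b14a1ad3c617f1dc5d16952af04409c60768459d09a17752e5625754761256420065d05401b713e1ca2c47bc4013b84f70eb17405c6480fd7713af1527443b414f6fd1181581da1262f87606e54742ad42560a4ba6a879602d6c62185662c11ee66245326375503b7c16c329042657041220b1ab3be59958e3161a411f8071650670d761968714c2345605ca17d3c855f1b40904b20bf0e92f548c0d81336001db78c5376e87d64dc46b3281962f01cc61c3cb6ba3ac2e411218008d7e240b6b16b40d11c86be1072fa25c3b57ea38a56924219a8065b87af1975a335b0f53bf1a21904aa77c1315fc6de4b66290ba0573df1017f80190fe7581f75081c52545f25934924bc58926537a27e3926f438d00711c17e4df28f3cd44b2ea39b43b1e22243833e74d45d61760f175a3ad7596b235262c38046049e48412b5c62fc2735db4e30c14bf29a6544a679c5d273c27d44912d3f53544ab69e7e844029e6285fe2980ab68858679d2a95fa2123d426c28a7ac221250)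
 (.leaf 0x0))))
 (.node (.node (.node (.leaf 0x6a05d476d29b1c926415f2074505eb06a48067558a67f44e24101041310373a72b0b07287434a91231cf6e77ae48902344440e71170433c7de3aa4e153128616276b5d575655c60470f45c73f04802243047829375070c4e749669167d3373c274a35321013f1450a428d22c7413392fd69880069054d75278113725b6083574203791781c41ac5ab54369f67028968f40547939a68e76c5de1be5b50b64850a961836035e7733e512018e31a03a4981bd1f83e13d853622f40603e02f2807bf5fd0616f74c070b28b7d02b51e663357e2bb0454362857682a714d6263501275f85845b703221d4b14187f45e17425e44d372734e41921f42e5250374ea15630e2c21096c77900a711943e45f59f26f7056f64f60f965e50055d3862f739616a48e04c31367b1591351a360d2c516700b0f45220534eb3e360e6f17983e84550812bd05507c7d73dd2870582fe6b60af70036b6bd56e5dc2e824752d0e673d36e0463291131dd28e2b17382325966e30b127f49505a52c26b7d15a80a03693e6)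
 (.leaf 0x0))
 (.node (.leaf 0x2676555ef23c3ab58551c11b0f315a0dd3116255781e155209d3e401578a1de3ff75e13b47030912820d37e24a5cd16f6055794f04fd7206f95a43367df2196d750e5711e724b62b3de7a24297c563b69c0b57fe0ef7610de21172a3a71f67017dd7b514619316b27827c0be75d35c43406c76916e5ea78219b2ff6b771b5c54cf6e43a252952069b37210f52477d47d2c75517090946345b14d73072466cf2b949712448669d64d36c6a97b840748839c2cc18d59c34d05251f7e40b448d6524092d35063d664544a22643132c1d912c0ea1d32317be3f777b06438731e1b53a036d35a5a667168963c54f2a476647f2dc42a7d358733f56d6cc47a3fc4110f059051d4cd1361d254b7026201f20775bf1796db4ac34961d2433683dc1f40240143883705b24bb6c45682d159b07607325136f07a4353fb1432993c931044c5c470a5ae7d446371d33174d3d23b92a22d250c14e22862e56c7db7cb2e97e102a4f206570d5146dd6601fe03d6a757f74b2523ca41b5981ed50406d3d91485e6)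
 (.leaf 0x0)))
 (.node (.node (.leaf 0x6c821445e3f905e15d55707b1d66ef6fb4681bc38104901145952303409838c4a86fe4520e50c532d50b3551835b32c96c208711d73754a6357dc4c67bd0723bc71e6d32e33177f707d0660d64a44e065108a09701d6325743b74a343353a75c26162a4a52d62b46696bb2ba43c0df5217181007797314c50954641f129c6975762a32600ca26e33a5d32303ed7955537350cf15048766408b49b0861050781752272225d73c700978610b02c2eb2e12d776a2200820281727b737335838e8092b05b67fa5950205f04d62d96227a74b46b33ce68a5c11295557e366e5427292b233d51e7e64fc7ad18a57a27a6020da4391cd2e54b521c15b0c871c6ac0437084416270c36a50567246d86581a120a52f58117c4036a34a00003992968052a16156491b36a242d1b149c6597742c67674e44455e26cd3a900c2b821b0c25440b33477fc42f2cb63f04103c0014b73f423f6c14be12f1816c97a11e42f23325152b37161c31886da34622e1bb25d4b067830d35f51634a34102667750a4d2780)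
 (.leaf 0x0))
 (.node (.leaf 0x5944810cb0ad5c756728102178e7a823a7304b870e2f17625582133193447f90d31bf1f906830845865d3b144857d0c961100d7cd0274514214cb4775882ee0025282b76672575f63145e80cc53b2aa2373e031f08c55b2a57c92254900ae5ee5e715460380474658d3203480b85353122df1e54173d102b32304776567312a13c4a141a5171fa7c303619110d7ed5722ef1820516f83404731946a46dc4651141b07ef1702cd2db4547a65ff7a025347b7e03222ed0ff3183ee5655330d50e234f37f15e13441e66b50945722b5dd06909e7070ed3513656ce35678b56465045b5f46f35563cf1b846f7216ec4e532137b6ea64165f3e23337174de4473822382ac5a726a2027b15b939333432f1d82f35b44830914752767a33267e95f16e617b59139429f3616930d41d74465ed5a15f50791d14fe68151032a3d504b1ea5da78f75339f11a29472e1fc06000f6065bd6437ce55024522a16d2a019518c5a218630c1221113020402ca43a4f51921e80a319e6d03676834722773a32c3155)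
 (.leaf 0x0)))))

/-- images under the inverse -/
noncomputable def u14 : Tbl :=
  (.node (.node (.node (.node (.leaf 0x7866546d42764ed4b414741744c0856651345f709f6325555c74607722606d85746940db8091173e744d2977804a34be3b65c55f540045c3600e96916a23cd7817397ea0d267747639e2560e17cd7fd3a77e035947a4eb3e606335232c62107f6955b80664df47365a4067b74b51975c958232a20b10a1e91207c17fc0c360c0cf1958031502d72f41ba7090c245b10204a7745ef6ef2136eb0cd3ec3c804c3af59c6fa0127476970140ca67c7c739a3c90212053de3980ab4f922438712a0fb27f2d43cf1273f853273339654b5360b14d85353d60702c440b0f45035b44691f57757e76a33ce51356e01a0d117e7224c53fb0c06d64f710708312365935012849313258579d07a40c0a020013e72c00b3f11cc7ae1141736f03560b232470f07518350d3236b418c2220c51587a42963ed0b41672c303c18246e6be38d7b051506b3867dc3040e55401e01cb7f837b46247f3c70290bb0c46554874da41b5ed53f2730bc3f01ee7212237de32f13527b3900086436e32f54e94dc7d5322344)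
 (.leaf 0x3802b16a566b3417bc41442945e1b3))
 (.node (.leaf 0x2ce7315dc3660a442625209d6d914870c2100a15140655dd2d94f34750ed1311570fe0451c503a7613346224081d83cb64075806f6892890970050f959937926b63515f3010744b85aa0395522c87d94350420760033d83b02590e644f28817c62031d2bf64b53b6c141e7f332165c35c37544869616530b4b20b92375476146611e63ea26761d3bd3cc3c30937a93452d06290513393992212b018b5941c41084d426a64c0eb7c24c813f5816924d500f1e158b39c59219662874808b7fe1f45604c95a009278a55819e1c97d86e67466c579a7040045e77642e623642768848b2423f441246c7963ae5260b04e762a14d3fd0fc1ce76a45d3ef7e577848112b78f6b73e87db1f70b51f00e452b63d57a6187e27577373331df09649e35461140714e2e13b763a70d35f23e0a91725315b53c22265781ca32715a33b2a920355e5cd4e82b36b06c34904ce2d57da1aa45477b25d2505077a815c1647b20522f76ff1ed6ae5562862181de04b4fb67a24757f2aa58c18419f21e34749a6db2f9)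
 (.leaf 0x0)))
 (.node (.node (.leaf 0x5ae1221b562506d6730dc6c814227169324f74a3177f168579f7d678701738c63c51711a4bc02e35d67f3d24f438b24d7b42842e455f7904ba37844338a3bc2480fd57e51f53800d45a0da79158932670e3e045059f3361376dd7011546ba0f142003612942c1743b859532e7d34341783bb31436a10f37f6f10916c47544f67cb60847b16f04f7c55623a952034071873c6100dd3ac1fc61f52e60d0de3428057251c822b05f6b163f1101b94e217a6031a14c11241d61712de2ae2637f91811096476195b96f936220f5ba7037454134d362421f27524614b3a60ef6041057520992685ff4a86491fa6b62173bf3a842523130c6721ad42a0472127d10ce21164f78b5095346000a50aa2550325d15e20ee05a11959771b6fb54466d1ef45f31f6fe23d5fc2457f529e7557ca28b2ff69e23310d5723a318530e4211b877771a40451c3945797c363807e39360138815b02a16635b32d0d35d66bc02541c0793fe7ee6065c41bd0a820e5e44056ad34b0c78061f84d14a74150a6751038442)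
 (.leaf 0x0))
 (.node (.leaf 0x2793e96cd0223f54a25da79c17d1494f86457680bf12e0623f64160f576241175e03768b1e37406c65a910b0e74674892d865d51079754831008734e5d50674cd00e3d30734b770759676f33155929949f31a3ff1526bd08e53a6b23df31e24a2af67511d08f3b96812eb21b5ad12180167837462e6792e841002447e35724922d58e6c050c22e35179834633c2c51ff1a36135915ca5a52ec0551b43ab4af6f226673a03f1c31b21a019c25e2192b437256560b6a043d2f06ed7052807302a51f14031c241d13c42f2fb30a3034f21f34227ac29d5661a242b36d01c43277a2813ba0b87d223404839b21a6b828a50f75c1467e407d04d20233834d8004885fe61e0005803ca76b2bd2ac5902042392cc33e6d546d44057b02c71e6e475d47c3250d64025645cb01f4c42780bd2623da59b1763c62942dd43751b21462c5d03be65b60f35316d5f30132583774bd54d49d4715456832cb0fa6a11944b12d133f02721c2747df2e705012f13802b46b6c229a1ac6ee7205df1d07bd36144b68f)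
 (.leaf 0x0))))
 (.node (.node (.node (.leaf 0xad50e4647230e27a67e81896525c14c25414cf54c3ad22a2916b95050344d972b43b70a5d21777b33184526395f10234945eb1116f468e6ca57674b7383f780246157355073226c1e448335e68429b6de1fb6762f241a6501a73124702512287e919918a3f330d2a62b77656e049c56b69833d2e333a7940d527d6f71a66ac0c12154e30432bc0e36a713966334c21620c7082850d75af66c4554596686867177995bc70b7a36622a718e5887162303640ea3114c67142d22f13e279e31b67d6f564169b34873f27e5491a86ea6333956d727a3854827925e05b27192db5bb14022f0611360776a40022c11d52f320d1f977d3fa29535a5f613b6cb8041567007be05d6d105639d6ce51d16e69f48d6f82c05012065bd1bb28d52f4922654fd1bc6df4e67aa5e80f22c72ca1ae55113a77c69005865f47931c4656175756277ab3705e516b6c96e55931e57124a018f6a641f3dd6425f872614f6cc09b28e4fe79511267e7112275a34ca7a22a038e48c15348e6742ba39744a1ec04e6573b3)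
 (.leaf 0x0))
 (.node (.leaf 0x78d60e17f65e4a560743316a0317d07347692fc64e74137a5fd7c07360111f65b14a97ce7bf5002dc1600b73321620af00719a77611b62372a2ee2c63926341d31fe3a461b6f36e205b2cd5e129c26169c06a0697fb6265ab52a00a4743710f354a0d871f4ff0c805974f66a16837e1987493e153c59a0f02ea5284d00cb1a502d06410375356725b5d96677157354db14c24c6ec5875372f86aa5060c910c37c7ff64d49973e5544466a97ba0160891f264a7d755c60a5fa16943023f3494cc50b1757e10724723635de5f24573aa6e73c52bb7a05d36af4cb11c55a51a0f843e66e5397fa6bb78376c21d6e84b669d69925a1441d17c62e508a7ef3f976736f2873a05f059e71c5634981b101854f3db42e40126d26f0e032b1a436c4246e140f0ec2542407cc3c127224468c1867b609e7824841d705e34a6e91181062922e05a77d42352d31595a23ee1333b55a65843685535f925f2da4ef28c7a73073155114f143a29372f06e5d40ba51e3e430277965143f57d2f65042904ab0d4145)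
 (.leaf 0x0)))
 (.node (.node (.leaf 0x5ea0ac2385575304913fc01b5704366163204950060df2a82b67843a22e90100d906812c6361001905ee13075b1887c96585cf1255420cc4445021874aa57c72d6058075227b126476637363e2d668250852d69a3916f62074ec2691c00600c66646ab0903d52a40305216da3c40866716cf2010847e32416d22536306805fb1d93302205c226e4bf2c27025a82ed56a72720a0a758a63b19d34304946a14146373d74e64601d2830ff3816443eb48566f4ee53e56d14309c0b66377563f262b77e5e32a249775f6481a94512b509829f4fc3835a440e53d53311556958f11e2b21015437060ae7702e225742873b1933081920825b666656807c3821ab76e3e36151be62d77116c77f15d58647d24e3065467b832930f2827ec49b03530579b55b0783691db03b3a51b60571c15d809a74d75a3165242a374c2c93e55772be72e1136874dd74328f0417af7887607b97c856c4a60194e018d7ed7853d16a82297cf13d7b55f452c05c15530971341842d5e67e65980284192df044710208478)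
 (.leaf 0x0))
 (.node (.leaf 0x2b95c823b3284ac37d7eb6563d04f548a1634532984ae0a37934c37a14de0be6707426124383670d058336e67b5167895d71da5bf3d95194d74b946812668a4b052755d80810417946671d7dd08151840d7c403344e4415cc2b87a54806b34091805713d76dc0804c047758d3840955be2770532fd7500f66691e23656024bb4b34a17f637678e4f02437445ce31978c2ef02f60961c01507b44712d4ea6bf3a105420924b2321517297f708868d76d5ec27000104638f0404e44c75b01af3000b34865a166056f4d23b20a20f722545633719143c6d322c40a4961fd19b1d43895b31703355617ad03e23a7f05c66c70205e95b73c046f63162f6534491d26b54317281b003d1c727c42352300c50a1bf2fe0e80097bb2cf6d01e71611b74581cd01e11661a2fa1eb2ab10e3dc2a139f25c4d60943b17f40717244a44ad1ea5c336b1e815e4fa44534f6fc2ad7635db23c3d45253585ac08c4e53b47593136fd48f08d06c1dd4e11cf7f25121c617b52959d35577343914a1dc02654e5c011f)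
 (.leaf 0x0)))))

/-- images -/
noncomputable def t15 : Tbl :=
  (.node (.node (.node (.node (.leaf 0x29e1150ab13e16679134933b63f30727a0223d713a1c62a80ef7334fd51d62149b4510e84641171456b953209b1553873b60de6430dc5293e756d3c63264d257c34b3445ba49a5c45bf2f40c254372273275b2ea20463b7296693f30cd6f507f5e87724f00010285351cb38f73d0b63dd0943ea4025526260371f56eb6730fd6fe4250a87af4964c55f52257002f53f12967841be20d0e239627b2973703957be0b43ab2c220b3c848e6e01cf7bd6285fa0897e66f908672c7ea6ac48d6e354b0c07b04cb07c07b3ec7de7fc0776a051f2f83237f85830707754064e967b06b5e25f91d637f29c4c931416c0623da4dc25618905d11e6744f71ab5600577b60550547635820515774e20497c47d56d402a04e4d15f67ae1da4f167735237b70f31318332265a5204e53dc78b0af2905152d42ba41b7ef03076c27c02d66a3ed04a13b0bb62a17573b4d73d60f41e01ee7d07422a56955756d25a201826013623863d34e50d5033241bf3fb4602ff00b32c38a0081ba35a7143f07fd2760bc4f9)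
 (.leaf 0x4997861b63e380517649280232d5e1))
 (.node (.leaf 0x1081e80ed3a542232800041c05a37d48573869f2060440bd33e4ee36d35e19f4cf06d75965143403a3364e304f69472439d6ed61806049114e5996c702440a2577a41eb0d60482274ea61066264207d4ca06570267d2410a54c46a23f91f137c6f614b57612529d1187c010c46d4487b934556f6bd6bf1605a41fa34343d1ed6c25c07651b96e84a52863765533583b95467ed55f2bb0ea0d18094286d00a647e41d44c8034db49072008f08258161261955c2f926e38b4f52e95b030e16e7966dc49547d47c1df47a77715c4331ac66e6ee6764315971f67231ae4b746c2d13ef15923928b2d64240e730b23120300d58f11a3537851863fa79a4494572c62733271586630e958d19444e6564935083e84584b67f03d27987644432812da6de6666154ac3396657452052a25051aa18a4e647730f47257823530256760e7ac5102ef4985413400a94653464fb21241864b5504944f803241a3054205ff4162091e676f5db3e51b52d73d320726924a4d64093f240706e2114042e40b27e975f)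
 (.leaf 0x0)))
 (.node (.node (.leaf 0xc2c13db1f370e30d4880742f714c0a10ce6a12926411374295de16933f7810c84846e75be5bb2e54031b12882012e015d1bd5317c77884411e317240f4665390341a015246b5ed3776ad1223b82cb2646446787dc4561577e229a0922fe20c2897e03c911d49c0337fa3c16f869260039754a5d426d36b5952ae5c13a930825c3e60f01a62a601d10412143826b18813c0ff4bb06625d2c333771309809f33c23e5b12f229103619e66c30a5cf46728a2bf2e25ee4a458c3293fe2824423d915313d79402e0990f560927825000268757a4555ab3f816834f4872b123b2a119b40c3b061c1e27362ca1633037e50177db62329b2aa39164518c6704d505f5221e154d1e91c027718712e5bd67224b40b77060f51b5881c23847285634c613155b2941fe77626c18246801559816d42f50765d76846250a3cb72a51473a5af79322968a4d074c0a36381f871876e3a735b1355697ab1816481336f01931a15406361e74214053ad58663009c2c009135f41535940d4f24390c74613af2e116a)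
 (.leaf 0x0))
 (.node (.leaf 0x6ff0aa7b75a75e35f10872b765f4bf0c174972f7ce55d2187034744de6680ad1626cd4a62e872768c75a0817373a108e68f4405d747f6be5595da17f7c933132104b3b701a1f94975fc62f6e97c879971036f6534d837456a1923354aa53e3c04b16db4b236165c1ca0e431d5cc12455a72d70c3be1265ea7ba6ae2ce0837581a25e939f19110b6a55a66204c32f30764f338116b5583e164f61f60312977e01c4e114f2b633a12f6df1c93896e56472287a17c32755383d115f11c52f3923b467f10e4c77f706c6556792c80434731b005b0ac24c57b2581a747554f28e66b02c0c46ec31143f43b1464524cd60a6606f75272336bb73f03c7bc58e34d44d67a7536c87054e765069a56117036941f5c276021a68b3b525a2c90dd4cc2f17900f76250143170c63787172247f62146355cb77a7fe56e20e6ce60662d61a3bf0275eb08b6270b063e52625e1640eb6a369961e77926778062c48a4dd50c15e43e54e7cb48b1ea4ce24842c30c1dd7f36612797a53a862e7785e76981c513f2b5)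
 (.leaf 0x0))))
 (.node (.node (.node (.leaf 0x56223d5241ce1db4ae6d12231f74700ae3cc2fc5aa4c15cd1ef0204ab1ec4d36112524fe2134143017a62d926625402147b5dc60c72b1fb0451991731d70681771c45ac79238870b08d1fc1cd7a00b96ba68e3631300f16021d41c12451c325100f09d2de3565130074a710a1b780741079d1b33722e36751af46e75747605943634a1a866f2a755179c3796aa2162d34eb28f51719c26a5c91d95363c253454544f2176c46a732a11039818d25918b43505e2a024f45b7e854403e23a21b1806d85ec5a37733197ec3ff70d1d580402638d1d82d85c564d14948123606369d2002ed2701670fb7ff6222636ea3cd4b06846162df47812a1144694532c51560e175127f2d21515716934da3662f64be3f716f7c21196640e514410579f5025b86010fc27e29f0290f27261382f001621e3b121958a2401c769024e12d38657e15b6975ca3256b14bc6b67082cd2a37d238e05c2bc68357345e1474ba0e63f40fe15a3645045a818f52867e5b44b86a61b81094ff10759c1432a41031021015a5)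
 (.leaf 0x0))
 (.node (.leaf 0x4177c53046cf52d08a0695f85f70470a477d7b17306fa59a5ef2872d017e6296b06a90bf6045e633d7b46fb06a8005375682ee7d41de4126d952e3836dd3805d52b23503007663c728c5211f06b763412819a7d67d85841710d039a64a2ad4a90cf2e724d7472e60d239c14032b36c37a10d7095b229348322b39375c1d32721f25a91116fc6a41004af17d01953c5a03fd3c35421063ce5f04d92374715472af78d7aa52a75073c45f65845028538c1327c624631f20f7415c607105248c5807df12b5300d56712747fb4300504bd01b7e111b7191503484b36310d956c3d56c521d5df42d56632e3a62421ff64e05849d7d96f148923f6b56da69c31277f31a7a94a20b11a541e66d6142537f50802b376772159649f1951840cc59d42721553f6c151a5a153b53a2d56865e01980ba1963e20e32dd57d6825d95fb52c74f5920db10f65e6247bb1fd5232555ce03b0757dd0ec7c124753d3653d419d51603522d1bb38576a42a7d750e01261775423071644b234711437112011141501360)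
 (.leaf 0x0)))
 (.node (.node (.leaf 0x17928359f35c00e45a4c227114a3f63161160c34080a000446a76902b07a3eb0b37cd44a0da2a94113e480653369b3713df3de0b50392fd0612803d80f302356b51840e44668570a7f459b1611f422f3902bd0905d00d83c578359e1972b86c062b6b23bd3333bb3ba4a02cc6d30df64668071f3a31342682023ae21078f09334c2ac6072205644fc3a43b23996e131e6a87254df5b97a85c33a218e2b409a0967625ae68125b3ca0b811f17458b48600968d1d10e012c5122445d871269e5d606774d4f64c00415b51a363a2cf4a377b6c67351b23e00976c975d4ed5b62b036a64c7d336714d5191131c87956bc50020a4ec7613fc21f0062084a13571bc33835445d0423515d326f0136573aa0d41a90f95703474234b40d34ad3157434262ec4ef5e52950f869143c3552994e46c37403bc7746d675676d56580100a5b71902844fa4540d712701007303d6d57155873a06b87b531b55517b78a63c3f534206403f5576673104324822fa60d46328d3092ab0f678c4195fd26242e1e55d2)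
 (.leaf 0x0))
 (.node (.leaf 0x1656320030785792b971b07267c63754c3cf60b77c7f14470317ee49e17a7710844011857e70882617a27482c45742be57f07951e2c725f74b55e5c750f5c804c5dd36812072e01f7cf6f23e97a76137ca6d76cc2dc5895fe04d68814851c4b97bf09508c6595256af4b57b86fd05631c5e47527b25f307e0a704679b42b21c59355439b7cc1e46084d47067e46891cc14279e1b41a47ad4596cb44574a48036227d22a1d20fa6403ac7315943060383187822db75580845c09e3c47892eb61b5566965f47f237563361d60547923c06f33217c0be7eb24941322132f02f76b5113ee2325495d14a844405339435d64940075e36e5ad0c96e44e86ab1ad33078750b6547b315459152b74e37e2267da7976f47e35bc74643a74434101e58533465b73e0b759002522c7394f46e226537371e0ee0ca78e5f26f37d16b40851dc22e0c52436e613939e4e046f0cb54848f3b373471d71c7f971a5722226395093200052983825066ca0402fb1786b31d03d05b31237077a36527046ef4c87010a2)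
 (.leaf 0x0)))))

/-- images under the inverse -/
noncomputable def u15 : Tbl :=
  (.node (.node (.node (.node (.leaf 0x29e1150ab13e16679134933b63f30727a0223d713a1c62a80ef7334fd51d62149b4510e84641171456b953209b1553873b60de6430dc5293e756d3c63264d257c34b3445ba49a5c45bf2f40c254372273275b2ea20463b7296693f30cd6f507f5e87724f00010285351cb38f73d0b63dd0943ea4025526260371f56eb6730fd6fe4250a87af4964c55f52257002f53f12967841be20d0e239627b2973703957be0b43ab2c220b3c848e6e01cf7bd6285fa0897e66f908672c7ea6ac48d6e354b0c07b04cb07c07b3ec7de7fc0776a051f2f83237f85830707754064e967b06b5e25f91d637f29c4c931416c0623da4dc25618905d11e6744f71ab5600577b60550547635820515774e20497c47d56d402a04e4d15f67ae1da4f167735237b70f31318332265a5204e53dc78b0af2905152d42ba41b7ef03076c27c02d66a3ed04a13b0bb62a17573b4d73d60f41e01ee7d07422a56955756d25a201826013623863d34e50d5033241bf3fb4602ff00b32c38a0081ba35a7143f07fd2760bc4f9)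
 (.leaf 0x4997861b63e380517649280232d5e1))
 (.node (.leaf 0x1081e80ed3a542232800041c05a37d48573869f2060440bd33e4ee36d35e19f4cf06d75965143403a3364e304f69472439d6ed61806049114e5996c702440a2577a41eb0d60482274ea61066264207d4ca06570267d2410a54c46a23f91f137c6f614b57612529d1187c010c46d4487b934556f6bd6bf1605a41fa34343d1ed6c25c07651b96e84a52863765533583b95467ed55f2bb0ea0d18094286d00a647e41d44c8034db49072008f08258161261955c2f926e38b4f52e95b030e16e7966dc49547d47c1df47a77715c4331ac66e6ee6764315971f67231ae4b746c2d13ef15923928b2d64240e730b23120300d58f11a3537851863fa79a4494572c62733271586630e958d19444e6564935083e84584b67f03d27987644432812da6de6666154ac3396657452052a25051aa18a4e647730f47257823530256760e7ac5102ef4985413400a94653464fb21241864b5504944f803241a3054205ff4162091e676f5db3e51b52d73d320726924a4d64093f240706e2114042e40b27e975f)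
 (.leaf 0x0)))
 (.node (.node (.leaf 0xc2c13db1f370e30d4880742f714c0a10ce6a12926411374295de16933f7810c84846e75be5bb2e54031b12882012e015d1bd5317c77884411e317240f4665390341a015246b5ed3776ad1223b82cb2646446787dc4561577e229a0922fe20c2897e03c911d49c0337fa3c16f869260039754a5d426d36b5952ae5c13a930825c3e60f01a62a601d10412143826b18813c0ff4bb06625d2c333771309809f33c23e5b12f229103619e66c30a5cf46728a2bf2e25ee4a458c3293fe2824423d915313d79402e0990f560927825000268757a4555ab3f816834f4872b123b2a119b40c3b061c1e27362ca1633037e50177db62329b2aa39164518c6704d505f5221e154d1e91c027718712e5bd67224b40b77060f51b5881c23847285634c613155b2941fe77626c18246801559816d42f50765d76846250a3cb72a51473a5af79322968a4d074c0a36381f871876e3a735b1355697ab1816481336f01931a15406361e74214053ad58663009c2c009135f41535940d4f24390c74613af2e116a)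
 (.leaf 0x0))
 (.node (.leaf 0x6ff0aa7b75a75e35f10872b765f4bf0c174972f7ce55d2187034744de6680ad1626cd4a62e872768c75a0817373a108e68f4405d747f6be5595da17f7c933132104b3b701a1f94975fc62f6e97c879971036f6534d837456a1923354aa53e3c04b16db4b236165c1ca0e431d5cc12455a72d70c3be1265ea7ba6ae2ce0837581a25e939f19110b6a55a66204c32f30764f338116b5583e164f61f60312977e01c4e114f2b633a12f6df1c93896e56472287a17c32755383d115f11c52f3923b467f10e4c77f706c6556792c80434731b005b0ac24c57b2581a747554f28e66b02c0c46ec31143f43b1464524cd60a6606f75272336bb73f03c7bc58e34d44d67a7536c87054e765069a56117036941f5c276021a68b3b525a2c90dd4cc2f17900f76250143170c63787172247f62146355cb77a7fe56e20e6ce60662d61a3bf0275eb08b6270b063e52625e1640eb6a369961e77926778062c48a4dd50c15e43e54e7cb48b1ea4ce24842c30c1dd7f36612797a53a862e7785e76981c513f2b5)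
 (.leaf 0x0))))
 (.node (.node (.node (.leaf 0x56223d5241ce1db4ae6d12231f74700ae3cc2fc5aa4c15cd1ef0204ab1ec4d36112524fe2134143017a62d926625402147b5dc60c72b1fb0451991731d70681771c45ac79238870b08d1fc1cd7a00b96ba68e3631300f16021d41c12451c325100f09d2de3565130074a710a1b780741079d1b33722e36751af46e75747605943634a1a866f2a755179c3796aa2162d34eb28f51719c26a5c91d95363c253454544f2176c46a732a11039818d25918b43505e2a024f45b7e854403e23a21b1806d85ec5a37733197ec3ff70d1d580402638d1d82d85c564d14948123606369d2002ed2701670fb7ff6222636ea3cd4b06846162df47812a1144694532c51560e175127f2d21515716934da3662f64be3f716f7c21196640e514410579f5025b86010fc27e29f0290f27261382f001621e3b121958a2401c769024e12d38657e15b6975ca3256b14bc6b67082cd2a37d238e05c2bc68357345e1474ba0e63f40fe15a3645045a818f52867e5b44b86a61b81094ff10759c1432a41031021015a5)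
 (.leaf 0x0))
 (.node (.leaf 0x4177c53046cf52d08a0695f85f70470a477d7b17306fa59a5ef2872d017e6296b06a90bf6045e633d7b46fb06a8005375682ee7d41de4126d952e3836dd3805d52b23503007663c728c5211f06b763412819a7d67d85841710d039a64a2ad4a90cf2e724d7472e60d239c14032b36c37a10d7095b229348322b39375c1d32721f25a91116fc6a41004af17d01953c5a03fd3c35421063ce5f04d92374715472af78d7aa52a75073c45f65845028538c1327c624631f20f7415c607105248c5807df12b5300d56712747fb4300504bd01b7e111b7191503484b36310d956c3d56c521d5df42d56632e3a62421ff64e05849d7d96f148923f6b56da69c31277f31a7a94a20b11a541e66d6142537f50802b376772159649f1951840cc59d42721553f6c151a5a153b53a2d56865e01980ba1963e20e32dd57d6825d95fb52c74f5920db10f65e6247bb1fd5232555ce03b0757dd0ec7c124753d3653d419d51603522d1bb38576a42a7d750e01261775423071644b234711437112011141501360)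
 (.leaf 0x0)))
 (.node (.node (.leaf 0x17928359f35c00e45a4c227114a3f63161160c34080a000446a76902b07a3eb0b37cd44a0da2a94113e480653369b3713df3de0b50392fd0612803d80f302356b51840e44668570a7f459b1611f422f3902bd0905d00d83c578359e1972b86c062b6b23bd3333bb3ba4a02cc6d30df64668071f3a31342682023ae21078f09334c2ac6072205644fc3a43b23996e131e6a87254df5b97a85c33a218e2b409a0967625ae68125b3ca0b811f17458b48600968d1d10e012c5122445d871269e5d606774d4f64c00415b51a363a2cf4a377b6c67351b23e00976c975d4ed5b62b036a64c7d336714d5191131c87956bc50020a4ec7613fc21f0062084a13571bc33835445d0423515d326f0136573aa0d41a90f95703474234b40d34ad3157434262ec4ef5e52950f869143c3552994e46c37403bc7746d675676d56580100a5b71902844fa4540d712701007303d6d57155873a06b87b531b55517b78a63c3f534206403f5576673104324822fa60d46328d3092ab0f678c4195fd26242e1e55d2)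
 (.leaf 0x0))
 (.node (.leaf 0x1656320030785792b971b07267c63754c3cf60b77c7f14470317ee49e17a7710844011857e70882617a27482c45742be57f07951e2c725f74b55e5c750f5c804c5dd36812072e01f7cf6f23e97a76137ca6d76cc2dc5895fe04d68814851c4b97bf09508c6595256af4b57b86fd05631c5e47527b25f307e0a704679b42b21c59355439b7cc1e46084d47067e46891cc14279e1b41a47ad4596cb44574a48036227d22a1d20fa6403ac7315943060383187822db75580845c09e3c47892eb61b5566965f47f237563361d60547923c06f33217c0be7eb24941322132f02f76b5113ee2325495d14a844405339435d64940075e36e5ad0c96e44e86ab1ad33078750b6547b315459152b74e37e2267da7976f47e35bc74643a74434101e58533465b73e0b759002522c7394f46e226537371e0ee0ca78e5f26f37d16b40851dc22e0c52436e613939e4e046f0cb54848f3b373471d71c7f971a5722226395093200052983825066ca0402fb1786b31d03d05b31237077a36527046ef4c87010a2)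
 (.leaf 0x0)))))

/-- images -/
noncomputable def t16 : Tbl :=
  (.node (.node (.node (.node (.leaf 0x59d0f00ab6d80fb4a06e112e80439918c0221d513a4810fe5233874dc3c862157d4620e824411776e57c35b09b1557333f10de7000895293e71435a23267426b97e648d0d236138b6312f40cd3d55b86977a63014146912190c444b0c27d50c054b7725be03c0005351cb2a94b85b210f0945ed0b27dc3e801d3167e820b0fd5202a41017b649625627b6c06433963b629678f2d82770e22f55f54f73705127510b458216c67351d4c95fa1cf7ef4e26e00dc34b5770866d47de2243443ec5e807f7b072b66b4c46e37ea7ae07777951f2f850d1e055040976918370f7aa06b78b37f3145f93dc48e1d62c20623da4fd4c52d405d1c07ab2971ab27c0547af05105776c3ab0556f96280497c46f572c04a04e0486d17fc62a73b38a63d3d64e94d94063220bc6fe2f629c5e22a52901351894da1ba7bd15176356001866a22302a0294f91da1754f123837b0f47f83246934d20af5694605713c602d38832c4d735234e3235031ee2c53fb57536600b13667700841b35a7143f07fd27665a0bb)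
 (.leaf 0x42c70c5e75917ee0f734d75e4d8661))
 (.node (.leaf 0x1bc32b06024a10b32802857609837c12520e6066ce0252e73ef2e51591f64461320406532144e614c12f62708b6c37a02db2654b20ed7b403303f80101540a17360d54601e4d125558a31c7615951dc34708f1e36444c605f07b1fb1a621037d7b914b41c48543f43e1d20b748b1ea6f64315904dd50c1602617311dd5ad43b2dc27969228d1793102ab2343a85610fa1eb77136916a5306bc60e1815700a63607d739c6575e47442660650d36e74b72e655b48819e5c44bc48470e4820f17fa6a150047d47c1fc2f731715c5f45dd4753a06b83452be35e78a16b61214439b33e36d3e11954242d63842890e96ad01b5c95b121675d15241868d17d53b2222d32a07c576723141711d1b375f5b90c36265a361176d4eb7c27285ef1c24417304bb4ba75c1de4ab6df1a42944372b511243477d7764b452154d7266f88093ca5b412821b61c27e10446635c6a632a3fa1b258350f4bd0073ae30545a45052c2c30c734f2b45022fd1bb5ac7112723a54d60704083de03e3374042e44023a6656)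
 (.leaf 0x0)))
 (.node (.node (.leaf 0x14d6814101305b02fa2f907447a03a09a0ce6dc26a6b13255ca65f1a92542eb1e52e95814f048a4ee40311628822674e3771bd67e4aa4df2da70209d5134653c305e4551867a83ea15d20312153d2cb58867d3cc55271800f6f441506339254730b4716fa19420014e79670b56776543641220a1fe5ae6806422ae26c5ee4a41710b81153f92a60370a912223e2714546dd54266603954420921117e05a09f21343811a19b3d803626e1c14a728c5453df4632e23a93082853642833e42451981534267f50580a42594a927809c0026aa3791a040c2a127076f28f3932ad3f82f25ab24f54148f4de2463825bc4af1d125f7701845c533164d27a7ec1d80a54d02ec2351e911e20d26833b14960f71c4fc6236722362642810e776466d24175755c2a25d430f5c120869b0242372472534a376677b4515b563a69e6846823cd6ea2297355222e13c008302b45614559c5325156956744281c80c52181a745d6b04e72951902994c16994f42505960ac2b329a23a50662f79c1e62ce3af74c2bb)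
 (.leaf 0x0))
 (.node (.leaf 0x70103b68636f7992bd05042d5de4b504c2c47a26f27066f06ef31e73668c18522a5c83ff48c31266865207a1fd0f908a43a5f229f2f36856da5df0fc6d73916b208532e1500473481104f27d67c65e35845a775932d3806c511b4e17c75c20a36173d161849a61a1240d54737fe1ca7177ba7866d52f121572d6ae4616386492751b43b311c4226a53f71461db47f61d62e22e1ae69823931f20f69c0ca7d821d33501f4a80c633674561b4596ec7553737a13201a26fd6db22d19122c2fe2b01d72dd2c978259360b6601f400931d5f321c09124850b17a19366e2421c307c02c6696e562b29d1ed62054935d8006792ee15e5d162c65b0017081424924007f377c4e86e463630958735825a55f37253e6ab3637873301704c70a22af1266401767b304277733a22f55a6ac7a56516357095485cc0cf73820669f5e665c66704517b04f4e344a7521642495260eb6645867f16a042768e6bb5bb6bd6bf52711830661346d4487b524c4994d434367a5e15c07f65534f37cc1b65586021d41aa)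
 (.leaf 0x0))))
 (.node (.node (.node (.leaf 0x1192b26e247b4c378e5f63ed3674ec3f56781c73553ad5e51ef01066551649f4b62525b733c2042ea75b4c872033f0721ce43c4ad4cb6a20275fd25767f0640f36013d34b92603c108d1df3517240b96b678021a1f316e1c513f66c44228e05c1571722de4ff40f03230a3a31b76043db6a944e41f3f47b13eb69d1317d40596002ed1a82174c211f43957a6873532733d248751819c29258f3042807d23834672bc66f5736832125fc18e18d0f518b5040343273b02d26eb25d06e3594985d513e2984587256296704a634c3d763f0263e04d51be2aa6455bd1c651b09246e49c34a1681671667dd6247127935af4b051465e2cf47815b1144ed5fe1bf1560e17be27f45b0306d27d02ba2ff4e54be5a624d7985626a322146c0d96583e57221c417f3405d713b0f230213812700a0353b17294ea1ad2fc4e40f858038612b12a7324291376414f56ba7bc2a32cd3c21a525144f6a76c42931ff6150e62e32a815a3294351116cf0b553151073d4fb3b21093561073a756d4251031020a859b)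
 (.leaf 0x0))
 (.node (.leaf 0x58d1581d918f5fb08e06753a71a1f90994776756de3c95f04432ac0b371331954079d08080762d1f04916cb03860a51c6d96f747633939756857953413c37418023d5d374365d53c5cf57833d6325b32ef45f6e977e71025c4865c36c123b60956e0bd16f2626195ba44c0cb1e833423042a5cb0b645e2fb1612b14ac40e2693385015a86c914a3ce7e54490d83c73f659f5390ff22010059a3135987e020c4cc7cd67b37e8064b319a79f5ff58c58b4cf7c82ca64f61f5856ca41e0932e812d7d957e0ea0e47541a35d95ce0874f800d57419257201a49773c5bf1053bd54356a01c5da2b77043b77e954f1474a102e64c7df7a323f4896395596037275097e37f46072c738e07156378c42f7940bf35f6636332c04d328b29b56b29e2675ea76b64a2cc5d04575f859e7b77c13d90ba5d83e221f10e49b73a7fb52d41679774d0db3dd6166225257370ef2274300aa0757ff0905e016d3b836519d3d41ec21e15f2d709679510d41d36a0734b167137a5563f337620750518a0114115a947e)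
 (.leaf 0x0)))
 (.node (.node (.leaf 0x6e83fe3fd34600e4202a726b6a45a01f51b15083f20df0044ef7751f80811af2d078d0b00da38f14128275053346817428a4075280661b50615362911770410cc5171d319f6be3d07a95a522b2c837842b5f10ec5a10193c57f92d51201d022531132156c3683bb3ba79151a5650a075636b6a810a13418720241a1f178405270d2874a210640140b3a41b830734947471f77378849346b39a0f63985db0a138577426d2c16d67ac3e655137138c0d004379a0170ee12c39546419626372a6c60695924c04f602350a2743cb2df5077685d668a64b38d0976fc7854697403b450e49d3bc1f700c51928464876a0d149554a4706624230e300618264e3571081f23541a10141cd3504130138031780881693a16d04ca3fc47208260c34230013d1e146a5cd1e724e63b5dc5aa4056906945b67d376225b6467f06d36c70164fe4211134fa1880d72f002001203d3be68869a6ee6764ce31b7485eb7234790ae3150685996e63bf4a523c30e30d7a42bf1b96502863a26144191997471390c8341)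
 (.leaf 0x0))
 (.node (.leaf 0x51e6b700304652e4803c402178960827d55465575361e32f08c8057eb2587ed0795640ad7070d45a472f5557497e159755e0841650b17db7da57f6964946cd0c11ac3331977d114f7b87ce5946057cb7ca7c95896c26cc45304d7154455377927bf1540311237bb6b44bf7cf5380a76104db63e7391b007e0560787ad39005b06c3cf2d17780c963730c55d6f36894e058e73e5e920579b3896fb14852b2b951154c1627c03b979009e1fa3e954e06a46f7f739d6476b336e3ac71b67c7811c97165c74336542327210767a763c4323ee39439e0be49e25e26f0e544705353f36206f3754522332b624302f3324cd75844d80245c43d1e47056c87602403b568b57b7f26250953e374a2e052a20174b74f7e231a30371d68f4905d20d674136c73f79e10c56f04452f7b26305246ed2287340e01294ae4407e472e6af04b07d38113344455742e17c1cc31814077a1e239f71e74624b7835f77192c66b577f7c30055ec16340d5c606d4833aa8082b870a6346597e76f175a5667032d96ff0dd)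
 (.leaf 0x0)))))

/-- images under the inverse -/
noncomputable def u16 : Tbl :=
  (.node (.node (.node (.node (.leaf 0x59d0f00ab6d80fb4a06e112e80439918c0221d513a4810fe5233874dc3c862157d4620e824411776e57c35b09b1557333f10de7000895293e71435a23267426b97e648d0d236138b6312f40cd3d55b86977a63014146912190c444b0c27d50c054b7725be03c0005351cb2a94b85b210f0945ed0b27dc3e801d3167e820b0fd5202a41017b649625627b6c06433963b629678f2d82770e22f55f54f73705127510b458216c67351d4c95fa1cf7ef4e26e00dc34b5770866d47de2243443ec5e807f7b072b66b4c46e37ea7ae07777951f2f850d1e055040976918370f7aa06b78b37f3145f93dc48e1d62c20623da4fd4c52d405d1c07ab2971ab27c0547af05105776c3ab0556f96280497c46f572c04a04e0486d17fc62a73b38a63d3d64e94d94063220bc6fe2f629c5e22a52901351894da1ba7bd15176356001866a22302a0294f91da1754f123837b0f47f83246934d20af5694605713c602d38832c4d735234e3235031ee2c53fb57536600b13667700841b35a7143f07fd27665a0bb)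
 (.leaf 0x42c70c5e75917ee0f734d75e4d8661))
 (.node (.leaf 0x1bc32b06024a10b32802857609837c12520e6066ce0252e73ef2e51591f64461320406532144e614c12f62708b6c37a02db2654b20ed7b403303f80101540a17360d54601e4d125558a31c7615951dc34708f1e36444c605f07b1fb1a621037d7b914b41c48543f43e1d20b748b1ea6f64315904dd50c1602617311dd5ad43b2dc27969228d1793102ab2343a85610fa1eb77136916a5306bc60e1815700a63607d739c6575e47442660650d36e74b72e655b48819e5c44bc48470e4820f17fa6a150047d47c1fc2f731715c5f45dd4753a06b83452be35e78a16b61214439b33e36d3e11954242d63842890e96ad01b5c95b121675d15241868d17d53b2222d32a07c576723141711d1b375f5b90c36265a361176d4eb7c27285ef1c24417304bb4ba75c1de4ab6df1a42944372b511243477d7764b452154d7266f88093ca5b412821b61c27e10446635c6a632a3fa1b258350f4bd0073ae30545a45052c2c30c734f2b45022fd1bb5ac7112723a54d60704083de03e3374042e44023a6656)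
 (.leaf 0x0)))
 (.node (.node (.leaf 0x14d6814101305b02fa2f907447a03a09a0ce6dc26a6b13255ca65f1a92542eb1e52e95814f048a4ee40311628822674e3771bd67e4aa4df2da70209d5134653c305e4551867a83ea15d20312153d2cb58867d3cc55271800f6f441506339254730b4716fa19420014e79670b56776543641220a1fe5ae6806422ae26c5ee4a41710b81153f92a60370a912223e2714546dd54266603954420921117e05a09f21343811a19b3d803626e1c14a728c5453df4632e23a93082853642833e42451981534267f50580a42594a927809c0026aa3791a040c2a127076f28f3932ad3f82f25ab24f54148f4de2463825bc4af1d125f7701845c533164d27a7ec1d80a54d02ec2351e911e20d26833b14960f71c4fc6236722362642810e776466d24175755c2a25d430f5c120869b0242372472534a376677b4515b563a69e6846823cd6ea2297355222e13c008302b45614559c5325156956744281c80c52181a745d6b04e72951902994c16994f42505960ac2b329a23a50662f79c1e62ce3af74c2bb)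
 (.leaf 0x0))
 (.node (.leaf 0x70103b68636f7992bd05042d5de4b504c2c47a26f27066f06ef31e73668c18522a5c83ff48c31266865207a1fd0f908a43a5f229f2f36856da5df0fc6d73916b208532e1500473481104f27d67c65e35845a775932d3806c511b4e17c75c20a36173d161849a61a1240d54737fe1ca7177ba7866d52f121572d6ae4616386492751b43b311c4226a53f71461db47f61d62e22e1ae69823931f20f69c0ca7d821d33501f4a80c633674561b4596ec7553737a13201a26fd6db22d19122c2fe2b01d72dd2c978259360b6601f400931d5f321c09124850b17a19366e2421c307c02c6696e562b29d1ed62054935d8006792ee15e5d162c65b0017081424924007f377c4e86e463630958735825a55f37253e6ab3637873301704c70a22af1266401767b304277733a22f55a6ac7a56516357095485cc0cf73820669f5e665c66704517b04f4e344a7521642495260eb6645867f16a042768e6bb5bb6bd6bf52711830661346d4487b524c4994d434367a5e15c07f65534f37cc1b65586021d41aa)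
 (.leaf 0x0))))
 (.node (.node (.node (.leaf 0x1192b26e247b4c378e5f63ed3674ec3f56781c73553ad5e51ef01066551649f4b62525b733c2042ea75b4c872033f0721ce43c4ad4cb6a20275fd25767f0640f36013d34b92603c108d1df3517240b96b678021a1f316e1c513f66c44228e05c1571722de4ff40f03230a3a31b76043db6a944e41f3f47b13eb69d1317d40596002ed1a82174c211f43957a6873532733d248751819c29258f3042807d23834672bc66f5736832125fc18e18d0f518b5040343273b02d26eb25d06e3594985d513e2984587256296704a634c3d763f0263e04d51be2aa6455bd1c651b09246e49c34a1681671667dd6247127935af4b051465e2cf47815b1144ed5fe1bf1560e17be27f45b0306d27d02ba2ff4e54be5a624d7985626a322146c0d96583e57221c417f3405d713b0f230213812700a0353b17294ea1ad2fc4e40f858038612b12a7324291376414f56ba7bc2a32cd3c21a525144f6a76c42931ff6150e62e32a815a3294351116cf0b553151073d4fb3b21093561073a756d4251031020a859b)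
 (.leaf 0x0))
 (.node (.leaf 0x58d1581d918f5fb08e06753a71a1f90994776756de3c95f04432ac0b371331954079d08080762d1f04916cb03860a51c6d96f747633939756857953413c37418023d5d374365d53c5cf57833d6325b32ef45f6e977e71025c4865c36c123b60956e0bd16f2626195ba44c0cb1e833423042a5cb0b645e2fb1612b14ac40e2693385015a86c914a3ce7e54490d83c73f659f5390ff22010059a3135987e020c4cc7cd67b37e8064b319a79f5ff58c58b4cf7c82ca64f61f5856ca41e0932e812d7d957e0ea0e47541a35d95ce0874f800d57419257201a49773c5bf1053bd54356a01c5da2b77043b77e954f1474a102e64c7df7a323f4896395596037275097e37f46072c738e07156378c42f7940bf35f6636332c04d328b29b56b29e2675ea76b64a2cc5d04575f859e7b77c13d90ba5d83e221f10e49b73a7fb52d41679774d0db3dd6166225257370ef2274300aa0757ff0905e016d3b836519d3d41ec21e15f2d709679510d41d36a0734b167137a5563f337620750518a0114115a947e)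
 (.leaf 0x0)))
 (.node (.node (.leaf 0x6e83fe3fd34600e4202a726b6a45a01f51b15083f20df0044ef7751f80811af2d078d0b00da38f14128275053346817428a4075280661b50615362911770410cc5171d319f6be3d07a95a522b2c837842b5f10ec5a10193c57f92d51201d022531132156c3683bb3ba79151a5650a075636b6a810a13418720241a1f178405270d2874a210640140b3a41b830734947471f77378849346b39a0f63985db0a138577426d2c16d67ac3e655137138c0d004379a0170ee12c39546419626372a6c60695924c04f602350a2743cb2df5077685d668a64b38d0976fc7854697403b450e49d3bc1f700c51928464876a0d149554a4706624230e300618264e3571081f23541a10141cd3504130138031780881693a16d04ca3fc47208260c34230013d1e146a5cd1e724e63b5dc5aa4056906945b67d376225b6467f06d36c70164fe4211134fa1880d72f002001203d3be68869a6ee6764ce31b7485eb7234790ae3150685996e63bf4a523c30e30d7a42bf1b96502863a26144191997471390c8341)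
 (.leaf 0x0))
 (.node (.leaf 0x51e6b700304652e4803c402178960827d55465575361e32f08c8057eb2587ed0795640ad7070d45a472f5557497e159755e0841650b17db7da57f6964946cd0c11ac3331977d114f7b87ce5946057cb7ca7c95896c26cc45304d7154455377927bf1540311237bb6b44bf7cf5380a76104db63e7391b007e0560787ad39005b06c3cf2d17780c963730c55d6f36894e058e73e5e920579b3896fb14852b2b951154c1627c03b979009e1fa3e954e06a46f7f739d6476b336e3ac71b67c7811c97165c74336542327210767a763c4323ee39439e0be49e25e26f0e544705353f36206f3754522332b624302f3324cd75844d80245c43d1e47056c87602403b568b57b7f26250953e374a2e052a20174b74f7e231a30371d68f4905d20d674136c73f79e10c56f04452f7b26305246ed2287340e01294ae4407e472e6af04b07d38113344455742e17c1cc31814077a1e239f71e74624b7835f77192c66b577f7c30055ec16340d5c606d4833aa8082b870a6346597e76f175a5667032d96ff0dd)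
 (.leaf 0x0)))))

/-- images -/
noncomputable def t17 : Tbl :=
  (.node (.node (.node (.node (.leaf 0x5422a80fd17f1663b93a124e1763a22590f41770f216e1155230e00600900eb5302310e83840e62210d521f0e20e10ee0a00de0a20890db0da1050190d701e0e40880825ba6bc48656e0ce0c256b1401291e41e51e633a1336695080cd04c07f0800be2e765a4f90ba0b93e610c5b25280b42d04022c744a2a53f51850910ab03b1041010560a605f0993c00dd09a0df09f3ac17225009b0a10a405a0973851540940520630ac0ec06508a08d03104f08e0dc0d405008604b0796380d307a0bf0c007e1dc66b4c408108404607761d07507401202141e4093ee03e04059306b03806706406903908f0680920620610ed0a503405d25121c09805902e0540a705105702f09305508708b04e04d0c108502a0494d11f907802702500901402306d59906e03d0010aa14c06606a01d03621e05e14e00708c15105305801802c1f804a13b00004502604401504102207201014f0d603721d00d1500d802d1d100a02404201307301102015700e01b14d00b01604300803200600500400300203c028)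
 (.leaf 0x60e6b36047507ee63f65775e6c760a))
 (.node (.leaf 0x3565b74dc40b6a64fa0bb4bd2974c04bc63062e62f73b5be46a2e54694703d258a70f6c86364342f66906276283351cc7887366bd4fd5e42ba31332d2384d61d830c49f7420485221327b535d2af72b34748e2d92c924125607b1db2a73ad4f64b54be4f84f566661579273d6126114bf47273c6186174b07e578e60c75c6657c76092b630a3ff31030850760764e7914d37eb64c20057d36142c21b34849650050f5b934d7b47441e24c93442e846d5bb23f2f928f0d01252e92fb30e1c62b92f336047d47c1ce2f763c47877d7d466e31e31d4b47e04ec31869d48b1447a84ef4ed69b5454654662442bf4512ce57519a2931a136e2d24203895a353b7181a01885fe5494625ff2bc1b340039c3f30b017d1ea32f19f1482435ef2452da5f229d1185ad5dc1ed68f79c23e5056005044e65f423c3455ce2531392b749939010d5ca18126713d2a42d63fc10b19045a3720717d75761ba3ae4193fa58d52c29a20426f3971413db5131d35065ab4fc40a0703f23de1832994044030b256444d)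
 (.leaf 0x0)))
 (.node (.node (.leaf 0x3663921b51c748330d4882f847a4e53962f447f19b1261271286f734a1e178130148448c0bd6194ee2e43f42e274c74e2cf2de10e6c239d4414c81be1bb42459e18927345b39b0b32df4612a351a2cb2464c71f40b12221bf74920916c6815964635975f144f16a4da4801d042d4a81aa5db35f23d3933b44cc2ae23b2872865c538f0fe4c22a60af4252cd2943f83275d759d43f3dc1844154055ec4f72961e72a245e26a3d82904871c31b95cf1953df30b2882ac2ab58c1133fe3e41c253627f34054c5605f518c5c027820d2761a21a32d326926b16841319e5ae5c12712922721874277206ed5887127475a43887db2495441716d61700f517a1734c522733f42f25205c09c3b00f816f24871c3a525e24c16d2ca44246444454f4c61ad4894382b24322ad3593e14d759851b54d3765d13750e937a37838115f52f1611622293732552016c06ac3ed2c60e51060e303501c05b4983637296f066f3535ea65133c32a3371f161f73827754767354a2c31827116ce1a44146ad20222649c)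
 (.leaf 0x0))
 (.node (.leaf 0x7015205386c96cb3c95775672ee7b97d57e27e47ce7a32187033a02656e57e87937d61795815576ec7053ec5243495fa74573013c6a13d155956813e7c925b3be72c5655715f657018f2065c85896fb5c66fc4e88015d656a5736942dc64a22550c6854dd0d162c6b657c6766326ba6396af8083216415406b46ae20322476068779d71f6834fb6a514a6641fb6dc77960672a46e6034685875865587325c75696c37d076563b4e443a78079a6687877356897156aa7b76be5146a773a2c136b1d75316447897aa7f36603cc38a6b87b17ab20b60f7547ec2174755631c107c66a0c468c3bf4bb4ab6a37677615e16795de61676661a73f0bc12379f80375f60b7f275975a21430931f4a164549d1b26c17581c875575664d67d7005956b17908047523524796913cb6b50836084e76355b37216b75bf4f44f24f35e66bb3111da3194e24e33e87b362277062462114620f7f10765411c965c2e64b24b165e4ba78c7cb4b74b631c6728097a44ad6558004a96374a269f7a780769c1c51c4436)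
 (.leaf 0x0))))
 (.node (.node (.node (.leaf 0x1475d47371df6a273104702b36735e3162c813033821033d1ef32443b5165464481e932b2950c70c80c970248f2ec7f81fc33934307d4c362a3044d567f3143d713f40e7c00172b81cf47b3514e01cb12461b6482fc48160260128e28166c11e2c52d81bd1082d741b28d3b21b75e72fd5e944e64b1165f33eb16b2405dd1ab2b51691a81933f938e20527427545d45544626e3d419c2f245f5fd3d91205d828b11d1a711b11c4216cf39818d27a18b1122d44542681520ad29b4062084285d50fc71344939e5eb2586e83aa0f30f717537125709d25c25a24d0f12472c21ae2bb1a92701670fb51e52638222a22b16022d52737715c12a15a36d7c500f15615509515318603001a01f03300c03a14b6a45bd4451ff62076e46c56d58e4110cb1d46d84266dd02913a42e13832532c5151340c54cf7571f333633b58012c57e15b0ca2ef2f02f14851ca6591211221975511c01941911925b156243e1171b10f011428418a5a85fc3dd2dd42a0b74223a31091bc1072200d90a91031020a83ce)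
 (.leaf 0x0))
 (.node (.leaf 0x45045319911052d6e037f53a71a6d127b4331b04402bd59a4433a93ea29817b2151b454b1b662d5cd4db79978b6617c15da65f1ac43c2b45df7fb19629f6c61801fe3503412335a128c4305e57fe70942958f6cd6966ca2aa38b39a53e26c2796314f014930348a0d24937224fe74050a5106340b611a70e3cd26d43d3d340c35550111136f3f759b2614583c65d03f63fd2d529e3a75a55f003f2372be2c06423e906c74d3e356f5c914241728538c4ea6cc26469a6997417105503ab6e712d55e12b49b6b950b37952e5216f941c4607e16c47196d26d05900cf1433bd0cc6c56956d96f87046d340166d11935827c36957f70655b55c7176da6986e67167483cf3a87dc11f58324230623527d5e820a45277a20c1eb46725d3d50ff61c6b076b5c23b83c74575f83c36fd51c28053538353335b67e0ea22c5795fb41674a37e5290b515e1647bb6e20ef4d05786fe51f1653c85372362cc5195175181ec13568440f3953625b449436a3236bf57b5b577f0c34a340d4374355033e55a9495)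
 (.leaf 0x0)))
 (.node (.node (.leaf 0x4a628359f4233fb4181a62a15a65a00ae2e344b4083b63f033e06f2236e31af5ed5946263e70b85022825913e223938d28a40710f29c4103da1982911d537b54319d5ac4eb6db70a5541005af67863a7ac6fa51d53c5a23c571b5397d270b0a36676d556c7d33bb3ba0fa53d32e3f13302b039f1b83b124f3af41a4c109e5821785ee55359c7e924a3a410a0f60f96ee3b317c2db44c2d15c330718e4122f55123322b12fe33142b2a91a53e058b5c46774592607333860960e753416322e3745f952a37c37d3d623057a22f15d23423238022841f1743705a745c15933468050e55f3331f72ff36532921a51149a47e2b31f64cd34653235a23a5613574ff5aa35421663d1cd5d376f34e49270d7e62ed6e14974ca35c43148d1dd3155d227e2543ef1f021312e0c61de1f221112f4e136c3683943913b54473b74d81361e82123643282a03261371ee50d3226b27c364f47447361031b7e362946f7771f53421d64d972762b4a57764822fa4d42894a76504a439954e3051d95bc7262ea743)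
 (.leaf 0x0))
 (.node (.leaf 0x7dd5cc7fd7ae5d97967831e07827a57947a967a65461e76d7bd80577167049e7de3a66eb70734b4af6f331a6f45744717d97ea7ff55225f74b7df77e41d6e96f54763bc3c272e6937b86f278d7786137ca6d77c64aa7c81587c43207985e01d27bf7517ef70852572d6f67cf6867af4ce4916257396757b07b67fc79b3ca67467b7f446b60575b7f660d6f172f7a172465873e6a94397ad68d5e37c274f7fa76a7f56ea4b94a06407844ae7cd6145e272367c4df68b70c75d78f7f97f72eb68e5097d84777537685486a07cc31730f7697627257727ed62334f1457f076353f79577577b66365d69272876c7746626ab6568027854ac7a665265364913164664767177c63e7be8067972e05922e17da52b2c455526271d6df4903004d25855b665b79e4b84b34f16827b220e1fd4de68a71e3876971fa6de7a27d17ba6d44cb69e2197643123027737a078a5b86332666a873474624b3c45f757245655a55668871417e2632075844e95b034c7863c13d05cb7bc7e755d6e45666ef1e36ff643)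
 (.leaf 0x0)))))

/-- images under the inverse -/
noncomputable def u17 : Tbl :=
  (.node (.node (.node (.node (.leaf 0x5422a80fd17f1663b93a124e1763a22590f41770f216e1155230e00600900eb5302310e83840e62210d521f0e20e10ee0a00de0a20890db0da1050190d701e0e40880825ba6bc48656e0ce0c256b1401291e41e51e633a1336695080cd04c07f0800be2e765a4f90ba0b93e610c5b25280b42d04022c744a2a53f51850910ab03b1041010560a605f0993c00dd09a0df09f3ac17225009b0a10a405a0973851540940520630ac0ec06508a08d03104f08e0dc0d405008604b0796380d307a0bf0c007e1dc66b4c408108404607761d07507401202141e4093ee03e04059306b03806706406903908f0680920620610ed0a503405d25121c09805902e0540a705105702f09305508708b04e04d0c108502a0494d11f907802702500901402306d59906e03d0010aa14c06606a01d03621e05e14e00708c15105305801802c1f804a13b00004502604401504102207201014f0d603721d00d1500d802d1d100a02404201307301102015700e01b14d00b01604300803200600500400300203c028)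
 (.leaf 0x60e6b36047507ee63f65775e6c760a))
 (.node (.leaf 0x3565b74dc40b6a64fa0bb4bd2974c04bc63062e62f73b5be46a2e54694703d258a70f6c86364342f66906276283351cc7887366bd4fd5e42ba31332d2384d61d830c49f7420485221327b535d2af72b34748e2d92c924125607b1db2a73ad4f64b54be4f84f566661579273d6126114bf47273c6186174b07e578e60c75c6657c76092b630a3ff31030850760764e7914d37eb64c20057d36142c21b34849650050f5b934d7b47441e24c93442e846d5bb23f2f928f0d01252e92fb30e1c62b92f336047d47c1ce2f763c47877d7d466e31e31d4b47e04ec31869d48b1447a84ef4ed69b5454654662442bf4512ce57519a2931a136e2d24203895a353b7181a01885fe5494625ff2bc1b340039c3f30b017d1ea32f19f1482435ef2452da5f229d1185ad5dc1ed68f79c23e5056005044e65f423c3455ce2531392b749939010d5ca18126713d2a42d63fc10b19045a3720717d75761ba3ae4193fa58d52c29a20426f3971413db5131d35065ab4fc40a0703f23de1832994044030b256444d)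
 (.leaf 0x0)))
 (.node (.node (.leaf 0x3663921b51c748330d4882f847a4e53962f447f19b1261271286f734a1e178130148448c0bd6194ee2e43f42e274c74e2cf2de10e6c239d4414c81be1bb42459e18927345b39b0b32df4612a351a2cb2464c71f40b12221bf74920916c6815964635975f144f16a4da4801d042d4a81aa5db35f23d3933b44cc2ae23b2872865c538f0fe4c22a60af4252cd2943f83275d759d43f3dc1844154055ec4f72961e72a245e26a3d82904871c31b95cf1953df30b2882ac2ab58c1133fe3e41c253627f34054c5605f518c5c027820d2761a21a32d326926b16841319e5ae5c12712922721874277206ed5887127475a43887db2495441716d61700f517a1734c522733f42f25205c09c3b00f816f24871c3a525e24c16d2ca44246444454f4c61ad4894382b24322ad3593e14d759851b54d3765d13750e937a37838115f52f1611622293732552016c06ac3ed2c60e51060e303501c05b4983637296f066f3535ea65133c32a3371f161f73827754767354a2c31827116ce1a44146ad20222649c)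
 (.leaf 0x0))
 (.node (.leaf 0x7015205386c96cb3c95775672ee7b97d57e27e47ce7a32187033a02656e57e87937d61795815576ec7053ec5243495fa74573013c6a13d155956813e7c925b3be72c5655715f657018f2065c85896fb5c66fc4e88015d656a5736942dc64a22550c6854dd0d162c6b657c6766326ba6396af8083216415406b46ae20322476068779d71f6834fb6a514a6641fb6dc77960672a46e6034685875865587325c75696c37d076563b4e443a78079a6687877356897156aa7b76be5146a773a2c136b1d75316447897aa7f36603cc38a6b87b17ab20b60f7547ec2174755631c107c66a0c468c3bf4bb4ab6a37677615e16795de61676661a73f0bc12379f80375f60b7f275975a21430931f4a164549d1b26c17581c875575664d67d7005956b17908047523524796913cb6b50836084e76355b37216b75bf4f44f24f35e66bb3111da3194e24e33e87b362277062462114620f7f10765411c965c2e64b24b165e4ba78c7cb4b74b631c6728097a44ad6558004a96374a269f7a780769c1c51c4436)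
 (.leaf 0x0))))
 (.node (.node (.node (.leaf 0x1475d47371df6a273104702b36735e3162c813033821033d1ef32443b5165464481e932b2950c70c80c970248f2ec7f81fc33934307d4c362a3044d567f3143d713f40e7c00172b81cf47b3514e01cb12461b6482fc48160260128e28166c11e2c52d81bd1082d741b28d3b21b75e72fd5e944e64b1165f33eb16b2405dd1ab2b51691a81933f938e20527427545d45544626e3d419c2f245f5fd3d91205d828b11d1a711b11c4216cf39818d27a18b1122d44542681520ad29b4062084285d50fc71344939e5eb2586e83aa0f30f717537125709d25c25a24d0f12472c21ae2bb1a92701670fb51e52638222a22b16022d52737715c12a15a36d7c500f15615509515318603001a01f03300c03a14b6a45bd4451ff62076e46c56d58e4110cb1d46d84266dd02913a42e13832532c5151340c54cf7571f333633b58012c57e15b0ca2ef2f02f14851ca6591211221975511c01941911925b156243e1171b10f011428418a5a85fc3dd2dd42a0b74223a31091bc1072200d90a91031020a83ce)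
 (.leaf 0x0))
 (.node (.leaf 0x45045319911052d6e037f53a71a6d127b4331b04402bd59a4433a93ea29817b2151b454b1b662d5cd4db79978b6617c15da65f1ac43c2b45df7fb19629f6c61801fe3503412335a128c4305e57fe70942958f6cd6966ca2aa38b39a53e26c2796314f014930348a0d24937224fe74050a5106340b611a70e3cd26d43d3d340c35550111136f3f759b2614583c65d03f63fd2d529e3a75a55f003f2372be2c06423e906c74d3e356f5c914241728538c4ea6cc26469a6997417105503ab6e712d55e12b49b6b950b37952e5216f941c4607e16c47196d26d05900cf1433bd0cc6c56956d96f87046d340166d11935827c36957f70655b55c7176da6986e67167483cf3a87dc11f58324230623527d5e820a45277a20c1eb46725d3d50ff61c6b076b5c23b83c74575f83c36fd51c28053538353335b67e0ea22c5795fb41674a37e5290b515e1647bb6e20ef4d05786fe51f1653c85372362cc5195175181ec13568440f3953625b449436a3236bf57b5b577f0c34a340d4374355033e55a9495)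
 (.leaf 0x0)))
 (.node (.node (.leaf 0x4a628359f4233fb4181a62a15a65a00ae2e344b4083b63f033e06f2236e31af5ed5946263e70b85022825913e223938d28a40710f29c4103da1982911d537b54319d5ac4eb6db70a5541005af67863a7ac6fa51d53c5a23c571b5397d270b0a36676d556c7d33bb3ba0fa53d32e3f13302b039f1b83b124f3af41a4c109e5821785ee55359c7e924a3a410a0f60f96ee3b317c2db44c2d15c330718e4122f55123322b12fe33142b2a91a53e058b5c46774592607333860960e753416322e3745f952a37c37d3d623057a22f15d23423238022841f1743705a745c15933468050e55f3331f72ff36532921a51149a47e2b31f64cd34653235a23a5613574ff5aa35421663d1cd5d376f34e49270d7e62ed6e14974ca35c43148d1dd3155d227e2543ef1f021312e0c61de1f221112f4e136c3683943913b54473b74d81361e82123643282a03261371ee50d3226b27c364f47447361031b7e362946f7771f53421d64d972762b4a57764822fa4d42894a76504a439954e3051d95bc7262ea743)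
 (.leaf 0x0))
 (.node (.leaf 0x7dd5cc7fd7ae5d97967831e07827a57947a967a65461e76d7bd80577167049e7de3a66eb70734b4af6f331a6f45744717d97ea7ff55225f74b7df77e41d6e96f54763bc3c272e6937b86f278d7786137ca6d77c64aa7c81587c43207985e01d27bf7517ef70852572d6f67cf6867af4ce4916257396757b07b67fc79b3ca67467b7f446b60575b7f660d6f172f7a172465873e6a94397ad68d5e37c274f7fa76a7f56ea4b94a06407844ae7cd6145e272367c4df68b70c75d78f7f97f72eb68e5097d84777537685486a07cc31730f7697627257727ed62334f1457f076353f79577577b66365d69272876c7746626ab6568027854ac7a665265364913164664767177c63e7be8067972e05922e17da52b2c455526271d6df4903004d25855b665b79e4b84b34f16827b220e1fd4de68a71e3876971fa6de7a27d17ba6d44cb69e2197643123027737a078a5b86332666a873474624b3c45f757245655a55668871417e2632075844e95b034c7863c13d05cb7bc7e755d6e45666ef1e36ff643)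
 (.leaf 0x0)))))

/-- images -/
noncomputable def t18 : Tbl :=
  (.node (.node (.node (.node (.leaf 0xc613c2bf0ec2d81b66e12c878a03d2b21306a921759634d01237f3b738864822c7741711740245980fd5b15226311bc6c72895503c65135bc4f66c547821363030f5624275bd4456ea59e29226557738e58f3094c71f45de0fe3e01af1e366e3f43e469f03e20a4717d57267111d40d63c07f58005354ff2110f34b46387257c44843841ca18a24d3d10bb53c3a83723e744162b33013d2f81585f83a14d765a2bb7802ad66f6c477d54772732935856b0d37594dc8012701926675b008173a51d26e6b40fa4db2936cd12771d3ef1960b075b6403654677180306d85484875265ff5f204823c26261d7a07104ea74036d7815f066032b2727ad6a47b31262eb0021d51146120cf2f46031dc74e55a14932d7f41a645d49b11c1901210ab7882166884af7fb5892860800760cc3817c13c13bb4256547dc47b01416364258b3b228b3975fa01c2a83622e77f64ae5ba37748361342251b3186762f13a07a21ea06f58c72c44901962f01d09634e6324fb4141e405c6971c365f22f5ac001370)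
 (.leaf 0x4cd0c23fe3331e10f55c27e831b5a7))
 (.node (.leaf 0x50d79778e4433e608d35b2545803d54124fa7397c838a3ab56d7be0ca2de79c4210273da3031f212259c2756192e104566219479a3ba60e70565727d5f66286bf3ac5aa3e92cc7ce0d06566e571e1170dd28d5672fa61a4240ba13437d21c0230f738d4754da22366c23143f2995e72260e841e7b27fc33f6830937e44917624b202168e1b042f25f4ce15316d71f09427662d7d763a10b3aa4d45823f703f4e063731f72f79b04d7d04b573f11f1d91cf0d91654cf7d94a446367c2285c906b36710e3b54eb6ed1681763d326021f39f5a516a5193390f65871254df3cf52c3490b400c49c08e15f79f0381b813642d7db70d6467da6fe12b4722bc4234a76952294ed08548169b4552f27316722351cc79805860a15d5565075a82180d76025a17ea35341f30511133b61f00a2ed67f71564d27944e7734a05ca0564347c32a402e7300d521b2c16d40a15bf7196873613f652e2f75712243b134004e5736c924f5f77e26b77947202214aa48b7046dc4e43e50ad54c06850046c17b324101)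
 (.leaf 0x0)))
 (.node (.node (.leaf 0x76929602f27b4427e71bd11271701f73c6d52911ee5432c65ad5cb3f92ba5583a56b54e83f11e510f5a005339e10515431756e45277c7525b30c829b7722ea41d7c742c78f7d434f55924a49650c1c82987ec1f311554009550f33503633145712a6081d153b7a37df0b13993d65e44d06a24b64972631562c408f50378c3ea7320062a61f612916b7e67bd3946f459769041730652b22b6217826e010451230e4376de7a63fb1614e54f20f014106949304a1463c261b3005ae79646257050e3c85b57511e72096e653300367b80913535f5ee7ef6d11772aa1ef5e535137e7fe1130170a708a5b85a627f6810794bb5312f057570052167d4391ab3551675575395636b35d52274804e75543f30a257868b29a4983590d824126130b56a00d46939220e57f69c47f5ed32c7d818e55357a15049450420b7cb1164ef6ae35e1cb4fc3ff6bb80339b7ca69607f04376824342a7e944c34519154f29446563c56f1a440450a14f5d35427c559a5e827349e7b874a26d6846ef0574d16dd71b160)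
 (.leaf 0x0))
 (.node (.leaf 0x6d963e5e153d49a43119e65576a59f34a0260c30374c31a70155360ac7341e212f0c542e4b92c25ce76c0eb78d30831547d3500753601fc7a43b30867454c10327674cb66a08367e7bc39571323349f7750167426615f112c4f46017f105e8065883dd3fa4d95fc06d15552870c60061000755f4ec1435cc01e6225064267cd1f74a12ab1c26fc48d6a05fd5e277133d3837350294113140882c907271c0cb45e2007e140b1a17b01ed21a7582d27f91894cc6f85dd54b65918146f1641b47c05c76c20d20de5da2ff3765cf4ca7930d13e26273732842776796f37215273d219c3db18225c52f20324b05a43c26a1667c23ce2a93a433432657d4be70a0bd1fb1c958d1806774736231aa4093915f42463e83f57e351f18764b56c58a1c675a4f509c63d2cd63f5b40922382c72e40e30e060f2e27a96e30133f80733c737a7921d82c33112025940905f51844ba2b34e96497092d07c96c35d933e26c2252494743ec1ff0e95c16a64f115e4477877ab2e63a76f255109d4b000403b0f1363)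
 (.leaf 0x0))))
 (.node (.node (.node (.leaf 0x5c32522bd1427aa27147e4b773b2821ba64174d35d06079d5c468f67505b50935c18c6b949947c41a5112561980f207b4c640205446411851c40e1b71a358e0a934351e2dc1de36c7613cd7b75466730b93bf11b04c44814c10d4031cd0f875f4082ec40736b1b919b2db62643070665266961e2060896a14f06257fa0fb5447566fb16954d7485e939055c4e37d115c41871a50272e2126e406a0b722d2a735223e5993787162100b54c41315341ce1757f80515766e73126991db7b52360117771ac3be3cc32e77f61628539336615b6706346d764e14452a7b619d39d08473820f09e3bd5457f326768273e12e6aa7012047fd25d6710e46a852d13f18d2a52fe3a95920c12ee51555517d68026423f59b6786ad5fb5184466937530d41456b621d45a6bd68a5371195c84406d62b928829d04114e1f926642002c09943e3fc7bb5df4357891002ae4890e60b855b28f6e26e86893745e00da7954824ee3fd62972d54e3a60f47f74445167081d010a4c810c66406113929761808227c69a)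
 (.leaf 0x0))
 (.node (.leaf 0x69d2535935c57914c230c6f933640f3eb5206b17853966f61a963506424755d7b46944fe5b62a07f028719a48608c1f56147a516f2af28045300e1eb2b541c79030d3f247a0a648f76414b4015d41071720392a362a20864a6f56203d95380082da1a56fa29569e4ab5106d031c18837c0706ca3c55a42be0665797500e10af3ad4852b14b36cb0c741962c16c7a807727a56812323b3825dc1ae5d264c6ab3d70b35494583047ba7331e847034638002013765b7364887c644d11018b0f931e6cf07c70f17317c3a377663336e56974b6743a20254bf4d32741ad40509703c22053a25b1fe0ed1e90984515d727833728a36f6684325254772450310cd00912409f57445445c1ec6397574592f60db1da5e30426b804474717e7cc51a02d5cd20715213a6cc3795e64fd77b2ce70776314a7835fe44b32f3470ee3b83c968c6c83325eb37102a6be59045b7790ce61121469256639a3b410603a39c6d20711474a23ee2e07035ab2ca3573424a94e10b65ec60c7465b913b41574951466d6ac)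
 (.leaf 0x0)))
 (.node (.node (.leaf 0x64f41369105f7cf4902194c91f061525a3217e540c7dd4d272a50575c5d06d357c00f7290ae0496243f07ee7e08056fd1e01be2810344684007d637538f07d0106430e56bc2402011382345d80bc74126f0bf55247655e4dd76e6a320c6c63b61030dc38907e73d7eb07a2cf5a25651d722e0461bb2301862484a61202e880825553e2d517900048e37b16e48a3138041937bf32036810246d1b10871f16a76a52e96053de6456ff1fd0e77ff50138629f58414d30a1401d31c72d76af3411dd2c044f7b106e17a2dd4a31d67021f877e71242b2370624560fc04b18540a1595d609b0333ae3e37371c515735654a4954062581480df12d8023c40e206c76f5723876da2a230722a24271443d66b01823d4c57246630be18f43811a07405d5816580550ff7443d46501b26363e165d3236ce0357a74507f22e55952fb3ed6f725975d4de3c378b1784d867a7ae0a02221093984d644a0221330501d20ea23220d04f32a15a3b92d470e50b1c416261c26b11d49d0400aa43b1a22d151719f27e)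
 (.leaf 0x0))
 (.node (.leaf 0xef2050a87843196e90b268624e0634bd29e7af13e60723976d4793442df3485c652364772341017f32235a6856db4a532831d4c03252b62b472846b3012d65415300a46663164e246a2b876b01a56179e6f065c6440523bc6984610676c036472b3d87432d31c07ac1e61833dc0c94662ac2c560b7ed3df58640d2fc75575e57b02b21e5645ef6b262e23a3b03cb6ba0c44bc2687b97784165f33ca45f09a0594b859d2693d074f4f829c78630260d46041b7a14ad00b2f50a36df4f31fa66533c01b2b034b1955f928c50824c5d12a131074c5a943a61748c2507663271df6517de2442f37d263b6ee5914f95b21992574ac0c02fd4b131a1321084282f952452979976025e34c3381701c15851a03694364922b75832d928e0052907704294d504738b1977225320911b36b06536ec5bb65e1b515170b77a5ea07860411e2e333a6061bf5db46e4f71285be3857d30a55b72518076f17541a802836a4a85af0655a32cb6eb3af76508b3544332832ef53f68d4e65c060938c57e2155606c1)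
 (.leaf 0x0)))))

/-- images under the inverse -/
noncomputable def u18 : Tbl :=
  (.node (.node (.node (.node (.leaf 0x33d0c40e436f1ac07c5811c14bf4708041100ae1e160128d7ff52e5660fc6e33176114b438e1223d315a6353585ac63435c67c4ca3be54b1194892454410b542714108967d6754cf0505215570376964ed7b62d95a50ff6e979f6f380815175d3c93466563cc0a34c41ca12119850a18f4695947f92b90745ab3e74076ed0413061d57fd2675d171f7d378424b42332155416860563e36979612c56456c00d2c54a04ae6397396242ae4664fa5e170e2661b169a3986d845216b6d11020810392223bc3d657e1e03b926172d5a00386dd34262d6985165b401437c6ba35748019928b4057c25af7145ed7f63711061f13fc6c13410071ec66379544820442d33e1dd2e37c61883193144174901c736e2893e606773e3b34e05462215481323074960bc0f656b6025195c94636f22c23333dc3686d555806e2fd42954112d7a952669d7184e96f45720e64c031b4a958a2f66af00e02677e7cc01034b2686c96ef02e62f0ef1803d53e95d92404687864375565c06b42a97436032780540013a6)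
 (.leaf 0x2763ab71c6c03e13a022635a0860b2))
 (.node (.leaf 0xb05e853922900a4f476278f7240d963f6c478228e60e1af22d1164536b247c06161f2e824e70728f4091a27d050b49546d3283c508707b4bc6bc32409631d73f4995703f02032b54874a48096896d36773f81090c71df34918e6f15fa6d67dd5716587f579e2606216e77941f82b348e0ad5a74aa75b60403d02178775e5ba40d50c7164563ae7e04853795146a942f6cb20a3084670456fb1e72472b22cd36023228a7484ac3fa5d03a56a576f40c3a212358606b5e25a90a901e11745124f23a1f96df1e602f5d27ee0d755a3c74bd6146504590ba58d68372539a4037d87cf23f3db0707b52171dc4842827c378a79769504655152313d54d5922c037044f5525da2dd56333137e43158421c53131c0111c660c1440d010e4fc2fb09e1374b812b34d66230577125934429474912742c70c55c6fa1b74a66e84602d337321e7407570d26ac0324c545701c4ea12e43c4b32d55d67891e55a419f29e79a5040093fe4f569c7e65f61d97ae3f269236c64d1bf1bd35f56d2131c31de5cd3da)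
 (.leaf 0x0)))
 (.node (.node (.leaf 0x67a15475c7ad32d4c775609a41c54c78504f76744e01825e70a1504361be0552d63943ac02360932f63672a6324e15127ec4ec37a1d21b95bf7450fb3837d63a83107bc68c30361c3b853763c4d171250f6990f86372f07b32af6286e642537f0fd5b01fd4580942ec1357ce7477db5d77da6200f55a877d5dc1240927b46a826f65d0251962a815542a5c83527755e638a7f413378e2d82484b72ca1042fe5bc21807a0cd2f374211f7444c977902955f0de1345e403a17867170b1f63dd5db2633004d81012fc59f43256167049f4e356f20b05a1fa0853ca07e20761730a66179279d16412f0cc14b2b10652434774a575115c6675683f532a35e75f1e33aa4f85fe1fe71d76e4147f70a57776642ce6153af5ec64a55976821f34f2443d114a19434a06659c7a37f063837218144b3ce6cc3164b93b10033b41970ea29b3504544822504b561641a4bb32040e56a4767a813e4c142668e3f94420f203f70251f0d619b0af19016923d3153c22300bb27b5c653f1b27fe15e6656263d0694)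
 (.leaf 0x0))
 (.node (.leaf 0x39045b3e06a61a95bd5f868832b5f05c42a166e60771b7c920576447b7357110cf7fa11d18627a4cd19a63011e0f929878329320240a7e13536ff06d1721362f44243eb5172715b857f33407953c5a65b341552a0df3c10d809061a67e7007c14d552513c3d22277a01e854741113f2e907d2527a55f373738222c1475005961600f315939660f3950583c32b41b06a40bd5bb5ff23b4501001847c40062234555e914351e3fd29f1ee4a870852b24913b11c03e4207f87e22064af16326214c4356d025a48327732366f1486510191ed5741cb44c15b1740910c05014ba34c6d21b455d0837d27801073474df6c705c0047333367c858809568533f4d94ce6f80317361b576a33a3ff1714335976445c561e0eb7e845d3917c73d402c1f407263b6fe63d21676549c54f0ac4943385ee17357800b0e10d500f7a449e5a309d5c71144d66731b81ae3e564f6ae29a5c34381b306430b2864c64e21037701793f65df01d0515206b56334db78b5087b24477052be7f172839372c04e4406c36b6)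
 (.leaf 0x0))))
 (.node (.node (.node (.leaf 0x61256738f6db6557811303766aa2a75e00c62c84e63973f726e2f268f5505d801556558e27c7b92e60080c16eb8053df76b1d138004d18354a48b6293b53780530b63853182bd10b48a18b1c244a22a0a76542cb38464136430d0056a774d7bb7273de2f90e03b21f51bb4621d80fa7326817383393994a70c259956e17e25864e5ef7196f00475be2141d730469174b3016f916d66a1ba5e37601e273c07577b4de39f08421a0433452361561e95820a668a5b66453b036d6227b86686846527e554414d57b40237b3a732527047918a0e757c5ca0e874e5dd3a34a25a22a54731a847a25666048868202d30c29020046560d4461a017531236b0993632b06b92e04a353e7312332111313881c55ce53404a35d5152881401706b11fc28c3861577f209b0fe50553d1053cf5894612754c331a75918d0f46ea16135b6c545a2bf2a672307805646e55559d4e50423ad48c72b3090441c83431391db4cb22e2c70522692f843a5832e547e1c410849b10a31f7585cb51a2e12973bf39b400125)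
 (.leaf 0x0))
 (.node (.leaf 0x695326a36bb14602777a0984134d762364b7990686c605d7a627323950952872e1a520c4b653a26d2b65496a26fd11a1280c568759a72667b6193cd56236a2515cc2105987763ec6786e55406b02ee42e48113867f7ea5fc1ef1ff8036107064227220d10da73402050626571e5e727e63a2da7610e30827152842ef0025104d37724438002644745b17133b743f2e46f60ce7934e414920d1930e52a00f132e6255fd1527635240c91d665301302b64203b6bf46f7af74c3897464983404f723c7036593ea7aa2345ae24a0cb18725d55341635541b2812152de4ef64308a24157659e4c851d3b67a72530d37cb7016b33c65eb1a312004b2cf2eb25544514e24d2353c86060dd2191121a740668636159306c08e1cc1661ab2f120f7d52c67093a96fc0a22bc5692545c113a6ee0b118c27973a25f7d466641d15846b29c16f7546b866c06a55b7557e90e225b5f46461d307f1da01b54247214530210d14f5020db2961e45b92c42804ff2cc30e2121eb7784446ad3ee2312ad19d38c404)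
 (.leaf 0x0)))
 (.node (.node (.leaf 0x22880711512a2916bd2ed62e49741e6480bf24c5d32e73e407651332c6135f52ab4d264909f4fb4080be3666743370c37b03926be7b76694e85c27be5952b74f633b47866b0a479146c65e1ce17c7a179852c27f62c0dc5b23593272870340b41c917d1677c50334dc31152d0ed3c047d51b6d902a4197a27103675aa4d44f049a1530a16081112ea65c57a5730970174752e216c51822551c2b831e0285f16ce2a217723e64c1a43d70ca4be70473d4f13bd0ec35438b7210a869f59b03658b0ee26b4c25b53a462b53b19201f6793d811b6720a052700055e57705f1d01bc71774a39c47f1760717c060002441f6dc27422b1f21ea4f97e324608b50e36225770d43d19526c6de2d000c0f075077c6f546a7eb52f58c21b7ed1d450d3814184b06186a077f43972947174f5605f72c365b8065292c109c53017b04923805b31308c7df76c65a7dc4013357e43f439d4935807de5b780175a7fb01a2df7d16e069b3a11856277740d42955d45f92423870c86e135129d43b5914e778c7d7285)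
 (.leaf 0x0))
 (.node (.leaf 0x38d26a15d4b103c1ad68b18910f0220b30481653306c25e52723e37b12c93ba43e21d8022fa2a43f34ad6474126933e22ba7693f103045f45c48623749d3d90b92d17207661a148f3fb4d06ab54322f22461b4f22d458520e0aa42b65f03568039e4ee2a36cf12959079c2091cd16e1825ea0574b237d6907f33220597ba60a1fb6315a13322925de6da2bb0167880634647ca1f04eb4914dd7534494fe28311841067662a5fb5d52d24fd6e22ac3260f712604060b78d5f27fc53329905e09317a37508f2dc53872f52279b17f5796ca0e94302d76a17413563c47ef6e47cd6f72ff2206d476d70f5cf5354ab1cf7521c07ab3293ed07364008868d54e1aa7ac71a1422db27d5ad79004c1f37735752085031a65455076d733c7bd6c83cb06048d1623bb2f51f70804f316a36558769e6ec58f2aa44d42849219c1130127bf3ef3e87d908d0b80ab3487e773b66d40f4a14cc07769720119e42106f2f719143434e6cd3740b706257d30f45e6b773065761d10c5361b64da40b51137715f25c)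
 (.leaf 0x0)))))

/-- images -/
noncomputable def t19 : Tbl :=
  (.node (.node (.node (.node (.leaf 0xc47b353e1850804aa58a18e7f514116072b3fd7822831260f844d52c1526b30ff7967525a61050a31af13b0573280ae23f19d72405f80963d02f3bd05530d4d020a4366af1dd3de33f46b0021c022219412e21939964270219f70704b45830b5923480131d57b20fa3066ad19a1b80452651614f83d850b2e018270c07344102d02c1e158d6a555f0c94c436e2201587e76a46bf17f7a64435685202c40d21e03f70c66e039a01c1b37a94ca4d74f12e62a80650c80fe68c01f6c80c12370e712c1f946c60363b1e91e356025f0a711a3561fc4884041044b315e7cc7c03384c12925f075c25326208641867961014a0825e208536162508312d09305005147b8005f321d67734e2f738d0634fc2c07ef11b1fb6f16334963295e007529d1d210d5cd7142043ce23d5fe3df62961e52b2ce0357750204893241eb3181b27492f309d33b71f37e3530af2f032c3bf38a7777303c02c106b65330000818b2ff3bb6735b333e07c35b02e3137426171be76e3146b167b5522630bb1bf1ab001451)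
 (.leaf 0xcd12a44a3e40665c637180447124d))
 (.node (.leaf 0x13f35c31e2357545537363870a63d52241f75bf4ed5ba7d87be2b72da6605982764cb5f76d73775005a10b22fb21228f3663ec5360e947a7d70f660d6d56432b10076c110e6ea6454dd00562133362763018a18920500a1f25b515c76b0146e172347c0ca72576857f6ca24943908c3af1ed3150cf6bc5d26816840480402ef03c6992a951e29356c5782bc2c756304f4ee7fc3d21212fe4ce6056c96cf40e36524f3c47290303db6ef1df3046804671381e560472e4694e73fa12b42b1b94a644b4a43c803d4bc28c55537c37980838e73a23e47e77902379805319839855e7d122965940a6952ba12f7f60da07e7bd3f617b2b90692997907b756a7315ce55c41666d05c42769424a02947749978d7607321c94495f253218864a22835151f66e2d43554532971a04fa38123c7d32e903419957c6515ae5032b846a7662ca7d24407890e33f27d652555a4112d16de1ce76a4f04326663584e87062c809b1667110f701916e3cd4b707116350e25c34569b44238015540248b3a23c22eb4f7)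
 (.leaf 0x0)))
 (.node (.node (.leaf 0x1116dc2c62aa24766f4666501bd43c1097d462467a06463f7652cf7b65a846f44664d0d56821253e72a32e76744e51ba16473d48f77c5d95172514c90465823120c31ae03a7b445f3be55707026d6fd7a73f11b611557b65424c5d705d16b51d3890ce47521f7222741971c23273e60627945cf75d2815473467fa2682697ce61d0d010118f39357378162f5755f117e7ab0317954c56f909f2173371d914c2167465c37b56a378a2a723a55b5867a573e45664e25a56d1dc6a742e76f2d20b015f2dc0956d16181ad09830915d2786f24256fa4dc7bc27c6931c87c41682544e474773c3ef0e25ca7155694b05773f429b0d905a77b1024cf56e10c45a4bb15b71c64b5a06623bc67e6c04cc6f714d5a900e67d6cb0470ec39b0cb6974576323f851a1fd0a54936a22c51b536d0a90f041f1506152d70604bd67253849e31f5230f100d6d61d62332fd22362c50d6960fd6df1fa0d35b92841142b440948c4224fd5123434ff0435337696fe1d13a327b5870c00ea4da54e7874682805f936a)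
 (.leaf 0x0))
 (.node (.leaf 0x3ac2647646d331c43033c4b17733ba35f4077c774347348620828b4f97884ec06e61b7743235c77a83eb2f81692383442cb2b66b66ac75b7e63367b83ff7272b57393345c172d52668933016c1794df39e40677d72813515358836719e5893103476a17c279c32a5ed4d46b779a2111e83a52f470d6f811f5b829f40c0b53352324c71fe72f46065d5ad5346d211e18344f7ca78e5671b03cc5437515a53c623177146e52a2fa3ca50f4fe30262b3a476739134b7bb5dd60b0e532601013363c1280c53c162037543f1375c548049106847f41566a6125994f27df25858e60a5b22c91343d90524483c955d43d5375aa4632ec4194e20276416ba72a79b47267605860c3d32ab79d2d06704e65543e332e77f20b8055e64d22bd52f78b5415814a96f50420b640d3057e83085da5c43d616f5281d73a10285020b46380812c26b43ee5315352962a53cf5392fc4de2a176d63670a6a66065b68037dd57d24532d6f44c818c4c35944347b06580122093404f54a374b7c64b44ab4787d07fd210)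
 (.leaf 0x0))))
 (.node (.node (.node (.leaf 0x6876e913a79e2df20d28d6924102025481420f978f43559f0442e41777c90178023aa4a00ad31b06d6bd3a911716d7a150728e12734c0d448e43b27f61153a1181d026e00c0b149c20e20f5bd2f56ce4f60d77a244462d6261f52c30336db21a1e71b14a74985de1472264e023406740107207d5403766473207e321454525502b1310eb5306144f451908e3fb7045972077de2577ee46238f63738b2705063525184cd00f13e51630e26c7eb1751f16ab3dd34d2187a30dc69827d39c01823604c4ef38859d0e85d62be69053d0064592a21291bb5460cc0a47555ef25b7481123e27530bf2426851b474169c3e568e2de56b6e85795e30fc2a43a82131245ea2e15a25842430ed1575915665db7f15b134f45414f0973165eb7b977804e1207372d844c07b7cf01e1961a75af2b301d5967701db5094140ac1747ae24105e59e56571227565e4db37d7ec5152cd0365b473b37428a74e06c36317c6e61da71a1725136711717ed0004241d423b6dd19065c28841d1cf36c0d66093a767549d)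
 (.leaf 0x0))
 (.node (.leaf 0x45d17a6394b66283697f265677610f1623b36404f30f22e55a422e25e0b36670393324052943951437ea4bf2dd5274261cb6a844574c5102711443fe4522153f95d310a4473857164921ef10349b16768b2d31a85950963b56bb5612591ac2f13b60263d429572c62250a1a33ad40b1802212872d616a4235c240041a29a6b01a17632012912406614973b836f1a56c76da0c27f329008705b22f69a3312ed2e858f5d122542a62e57a4b91781563ae6693dc60f46465a45b37f5724a231948a48270503e1924ac71936866366410647434a78621c06a54a6f32bb3501b765252d22a39d1912ee11d05654b7cd2724a540871354d5a743715115a57e7575e90926d06eb5d84034d31704d62b01a622d2af03b1c40e03e10910f30886d409e8017350a05fa0d86cc00364642f11c2d92a62a074454f6e26a94293fc3b72bf6fc39401b6d90df5be7f968a3a02392616e55804652d540f4205fb35d37835a5d40e655146d60075013950549563a7fb19b03f41b4c03922823c349f5ec14e7c81c5)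
 (.leaf 0x0)))
 (.node (.node (.leaf 0x2f27450496081105c060245c32f74a1e20a264802422c5f40aa19c4be59060717613d4a13032ad71b4b80e108430c6c61e44131ea3b427e31104a3962303d726738226630762a5705e14315490217dc1c16c559c09907f5d506f33a69d1d35e875e53c3727bf59a5e46310ee25637011308973f5244504382270fb67f61f53b2db5213c74767f80dd54207864f1a41482e250152e5f824b00b43e2ac7017db3907ac1ee24e4ba20c2b25f526f56271d6831073213e059b14b4855043c57c34a80a17c55ff4174332863ab3a641c7cb1864d564917d51c56f0e45b02600746c43e83b035e1164c23423604e11221ec5bc68658b18d3841ca0376ee08a21b10b5d01595ee6b52035e751b50c70b0bc7845c87082736ff6785cc2891195ab08d16570901a69e6e435473810057610869f6446f01c35b778332b14036b4795080d13496aa5850776570383cb54c20624407951426b2770254903171237806ec09a7330902526cd57445e18436435748729c0947002cc0767e40b862355066c5bb7ff)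
 (.leaf 0x0))
 (.node (.leaf 0x2249a52930174d02a3f52986b87f46e70113250326343393597e941e4d96e36b27e07f73d16017400047a413c60e6910f57ba7ad70f75f1cc0c75cb29e1952e36684c64e91a978537b26a7171e61de5584fb39f4ea38624831a3e92854617266b925d8075f67564283220416353da2ae7917030ba4837997e10b970e67c4b248461343a0a877e07a31d3b264c51165f73475a1306ae5e57d97af4126f639775922b08b30a76c1497b14e368d1d833d0db7214d805975821e7aa7726be38c7d577a7fe4556554817184ae4ad2460be09c4944211ff14630f1545441a23b142c44e1f05597107da1f41cd2f953f3411aa48d6658067a07f066b13268f1452791bc0547936c304d7e23d05834d13ea3831871360616c255678c3f33f07c16a00095df5715dc0de1f85931930153621f34af6880f447061617363e37365b6ed2f61c661c0b74b51f64eb1c747d5fc08f5fd58c01674f7972006fb7e571e7610bd42d3ed5a337a3b92500ab6d827a61a5ac0ef18179272076252261979f5c95642ea)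
 (.leaf 0x0)))))

/-- images under the inverse -/
noncomputable def u19 : Tbl :=
  (.node (.node (.node (.node (.leaf 0xea08621f15a3ae0ba1f30ef4134d97df7335445f122923570a3b81502451a82074dc17b08051568436f4272663e354752773c3a518578a46225e53c1c91042e81db21c09632b2a94b22be8091702434bd0a40877d909367e0ff2d459e08220816777671634c0047b27ae30572863c6ac62e5ec4e31d12800240e01e712f70f3ef2367a70764f723c16f0e53f437f53e29a5410297754163163c72791465c627d30a0585555453147211a33414b67933583b454359b06405d3e205a05f62c0fb3c64611b301113c7a53203a332730704236c0ac1b440e2cd3c46ea1e511a01b57145c6751b68050882f104d2b57482300dc12b2c245259a25d7876540e25640d775446e6660560574a014175117f0c23d93fd4ad2462d70b51ef21063d7b84ac50a57d47c4aa5492d25ea32535a1200334341c27f229e4910d900f0aa0a91aa7fa44e63065b5be31c3f24707ff3cc03108413a13509052933e4121811eb71e7384c10bd60c7f46821922492281d239a4c67400184d41764ce7e453a0cd00110f)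
 (.leaf 0xdb4767bd75d6478026191ea540054))
 (.node (.leaf 0x21168e21404c7c94396ed0b24001ca6091a55f266f08b41d17e49f4f26eb7257c77d241948564d2e126a78e65c3631b86cb6214cf2721252067ec78808c54e3746b955064574d0d525a49a19324d4e908d2d86136a97d329c0a361136606a5085e33ed22f47b25639158e3e440f5fc72760506f7ab6f826273577977857b6040fa63f3801bd48056047e6085823e81e850422c1001d05cc7fe44c1bc5a404550e77423b5cf67631b2dd1da75f21640458003007230c6f03847aa7b157f77b6776744727234be0554db32d60344d3a72bd5756f16568017322eb69351307d0ce42d48620348b2f951e58765f19b7c16a62d03105ff3f85852571750c124128977d14843c5d70003b169f76a0ee13d47f8074476655d22ea5dd1c709a4080ab42967a3996622f61d97a84b73b055b0d31f160f37b41c3ce6fa53828371576b48259152f7ba4515e027410e5b021577351b2347ed1073775095ad65d06337c4546731303de7984221f751c49663b6ad5b646721755f6f46c95e80715514051b55ae)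
 (.leaf 0x0)))
 (.node (.node (.leaf 0x1649b2246224e26917636e304f72b1cc6b302a3ff5c00234ab56659665e4017004355952e308a5f01ee7d539f1540af1fb15f5e227e3aa4ed53613e2315b251d43e5c928142164f2ee0341213086df42b6694174a22fd2390971c362b01c04b52c1796444a356e46545d42e4ee6de6d521813638f4d554d54a7b53e63986512fc4a808928f5356251592e41746205346ae7d704130b25f5ac45b7f843b6265bc5e74a60695a759c4e01de1f947a6ee11c3441085b337a7c221a0f15062b12021d83db18327020a70d75627631d4ea1272ba3485615da19738d1d32cc18e31e7ce2ac2ad3d53d30b46fe00506552136d0775ed7be40b16c2875c266d19d3b71ab26b0663132d97104943928002c439b44f4b87c52fb77761632115116612c5a60df47303a43710c28e5226e10811804fc1b72256aa6953d75995ee54b3f17945694694423af1b95924f52230cb5b40a12bc7850525723571c00c81872992955d61ad1574e16b66001ce1cf1fa3906480d460b6ef19f3224c703c3511f65a871b)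
 (.leaf 0x0))
 (.node (.leaf 0x34720d2cb52b71a27329b6b124c79763e61456f27504733448f35972c3175534d11fe15d7f511752033c7eb5314c009221e42010b2fe1c159f52870e4e72274d75426fc6a227c5544971cb31253b2474b94980835a03e03c936b7527474d324e09d7821e44b15c46597bf7f76b86dd35262a0eb7ea0085ab0d279c0b86dc18a3295305de28461c0a609e29123a6be74133633d3c21624095984a918424222046645026f1f87e017875816078d0855ca5246cf7341ff35f1654ae38a2e74af48c3ad24f2487ac0072f20623460516551012e201422e11264e2fa43f45330275a67258a7d45eb41b75e5775782515a54ec7a01266a510972d58646860d3265f877c2c501a56b4312f83a22882e97a22534433733f31b05394d03354d60c665a5f32f072f0da68007b50d5fd62d19961e7b77f10462403b94ca2a35901c622268c3d10375fb4cb1c505b2f33045ba4cd67c3ac0362aa7296e970c70427b00c7312321a67a96711d70615887e14d865368566b1033fc3eb61b49948807c3f97e6512)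
 (.leaf 0x0))))
 (.node (.node (.node (.leaf 0x7726a823d07304821d07e73b4f47261c47657364c518b7695ce3934b436102e3dd07a6b51bf7cc4893df0793f50a809548e7cb0d128513211629778c6322260bc10d3c104020c1d410641f7647da5df35b44826e72472a5005483332b83ca0cc00300b2f77551722e04810b656c2c823816408f02c1be69b0e42d327a5c10027607d15c813854c5a13a15b876d5aa43a0c46c20de3ee50b0b743346d2b91397d60ca73957c56710a2a70f835d6120174c94c844474a3750fc30f6a00ae7095b509c2a037211845e5fe6cc58d1ed3ea18c12e73011411154f6344111e16cd2c15b16e226c5cb4153402df40d5f50b30f527f06e2774c32555593540a014f58c40676f6c50ec55a23314750224b2963850607903a01ba7717575d95e51f40f632f4ff1913e97e20e31fd51048a6797496c66686817591a979d4640c905907f48380817367f1dd0f02e615631936249c1406b06a15655370490753431d51e23672c72193b516a2ff3fb5f64d203f2583565d32f53373895760e60705cd25b2a8339)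
 (.leaf 0x0))
 (.node (.leaf 0x37d03972072251a53d20139c4e87bc38e3f00534462a106816d3536ba5031441555563c035064679b3ba15b05e3cf04373f1bb68673d14c6372db5522c317a3c55165d44b05933552b345603e3457d826570234a6e68046786362935af6d23fa4f35261cd3603014f121b6af33261a4c411f01366a14a36e1374306a470b34266024a2ec55c0e76975ef7131534e42521f012a17c3c83863bb6704eb1a01345c761073a0bf14e3ec59466c0a771f35e0f96c16c420928c32815274e2d664051f4ba5586174322c658f15c4a42613382a23112a558373e3d03702592864a515e45826309969c14d1297014a138c5c30780a546b66345528d4237687ca2ce74647964c4fa00651430353220555d3235635703cd1f52b01711ac76e6993a46411b27620fd1773be3ab1d662322d6614dd6276a320f4456281a764339d56a0ed0356927fd6335e16d04243b222a7053a90984404a72c037134f23e1a41942da19012231f1132137a15db68f40c22134e0b05b913132c1df19650f38342f62f39e4e5)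
 (.leaf 0x0)))
 (.node (.node (.leaf 0x6d75d80f352e1a24845d523f09445f7f92607444262c97432676297144de6e474c7c336a2e52b616180664b1695463870380d01895894907b66670b13d66354f65bd65249d7e774f62403b41069a32469066447d3a869638249350540267d01d0212cf0d82500156f67115a352d5bf5c53dc5f47a376c3694b558b5b76ff3791e91e31581023786b468b20b4036315237c86ca5681822440910c746c7963d85e652a2a650768939519a47504e7811980202bf17d4f87c65d135c74b3d44384075840261244787cf7124775184e61b167b11d72e3bd8033b65a20a223710532e2005fa5796c34df49530e11973705c3646f53685194fe0105177ef41a30d07443d33b02519544156d1490501881dc68857432a0be6bf2af40a6e021236576160a0cf01278b6f90283c37f006b2986d96ab6d34cc5e95976ce3f764a6150223306bb0440e12b76837f302f6e77b93881af22b4fd7a46fb1e67c458102d31a1454b300900e2d53da6c077018f0d63e10c07922786383d20b963a48d3e768d7fc019)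
 (.leaf 0x0))
 (.node (.leaf 0x30077e60149e50c2ae5253a67e84630f77f659d5f914b75b04a19c11012318d5e47ee63909f6da7193061ae7507af7e966e19e6183cb39676679a4f04da4257802f443642a46a60213b2ab56206d37669e1ec5016f360637e26d3816bd74206c3bc4ef4602716877de1436d84592ed2922d10fe0bb78f60e79912d7dd39429f78408e6e52ca09b28b7e31861c81e075c7031fc6506bc6576b77b046f71c0e929d2b47537087b445a1f269d44b7456422904286ec2045737d034b3310f22a43186497a66c82dc25c77f47114201f5f70326e86f778369413328200a61f7914c241e20e4bb68a42c2ef6fd5a970671744a7db3bf2b20676db79e7957865577bb16e4fb1680e869851171d11b7fb5dc6073f602b16b2692943fe5336f200d1637e53b328a2de26811e4746d433a13f4f953f79f31544945701e6a74876d15bb0f46584926c76d67c04bc0dd4bf2bb78970702771838b2543e511557a77a7cd5d026403d55e1284147677dc7ad6b20ad34d61d33f3490c341857e1a17b30c5397309)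
 (.leaf 0x0)))))

/-- images -/
noncomputable def t20 : Tbl :=
  (.node (.node (.node (.node (.leaf 0x7d520652e2bc4f707c04d58d49965a6e71712ce23d3936b35ba0ed0ec0bf38c7ad51b4377436ad77953c2270404a06c305a4ba0be38832e2210e52cf0417376e803e07852377761506352d52576d44d30438519549216305c4716970ee0990970795240611e40a30ba0b918f1f81c41ba0b27a227967119019b66311502c0d97cc2247ce7ae39e0eb6c87053bd4772ee7725870926f45720460c12357233a210331d56b56d4ec2ed3d067e4c55564917e45a40110621ca09856980057747646a46b76349a7aa1e00770c237b7692e612207401a3ed5d403f6454634641f54b60c50546197dd12b0bb4174c46f651e2e53c93da53476b5b15b603c2363bf7e30fa7d670f2594f480115d4aa1db1c856838353309342a61e11967251636370e44936403001900467467f70d4eb03b6ef30376c39231e0aa27e12d3617a04684796a52b431c5ec4a254b2112df7097d700c4341c367847e5b25cd0d70574876cf3e910c4b35982e374d14530246d2fd2002f63692c64b53534820594b74b40011e1)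
 (.leaf 0xe953b4f36aa6a72bd70054f02d4f8))
 (.node (.leaf 0x6b03702d44055af29a3197b476e60934e5260cc74402f05f4d22644c201d12578672e25d2d714e5cc27f73c7460704621c03d827128678879e33d5bb75d66760564d2057c31c64814c17041b054c3343b424c4df7823c84596ed70c0a852775a03275961c4bc04b32936b5354744bf6124731ed4ac31b6550ac23960c75c4c07063261ee7906ce74c7f507f33c13d3167bd7b96226dc5106e53304e34b950b50a6a819756759d5867406e613a2cd2e15f163f2aa11b01c63044118b62709d71518a28d14a31818e78b2156174a36640150070000281642624b07032812c36cd68c01f7b851565d3105e50e26801775f62da7203b65fb54674a7fd0fc18537643923f16d3313441bd17f2ac2603eb5ef1c21b55f316829160f57a44357975e6501821f275231f30e56363e5f75f41943bc7665655756f02586fe4451562486fc5bd6b94fd79d3603910f321f0b13ee6360ad4d515042420f75b4150cf1dc3cf3cd7891b326f7ba79737d3f257d4964fc20242d12014467c6ff4957d362430615b)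
 (.leaf 0x0)))
 (.node (.node (.leaf 0x64914f0213d336820e26a66f73d11c23b45e1a630c0ea68457e6cc7420020a739a7831d70f952270b69f3ef6c10af2951f423c8032045f91cb39843f7335ff36d39980625f1066620d817542679521759726603d4a171429f3a57f957840756a2374231144582d126b43e1917547394136285040f109b23e5e42c13941de5d94da3a411711a16f4664522b748a1bf2b548870a7365fc2a971271f1d12825006263d72f95291be63304521e00e4122522c473a15c3975d533f51a42b34305b1f630b01020a11250c2dd6a95f559564b5ac5617731a37ef5607254a62091f31a81a446c37e49d7ec0f558258f04e0e40cb1eb79b7022471585f85e66fb0f412c17e3d43746913b90837d47f82d63a68083134cf48e4616c015a2bf16719a1530891e93f71a92b122a7a32c979c15161d07a42f3b75f067744b2ad2307d204859a33237322944f2c25a30ab17d5b01053722be3e840949343b1f76077302f72e00054e449c2971d934572f1295142ba4d72f02cc3f97fb3f178e29d6a063a444729)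
 (.leaf 0x0))
 (.node (.leaf 0x6af16259b3f67db31155469813169d3c04857a93e469c14b7eb3d66ec4187477f36c716a0c745a5855425475c74f15624061f10da36c06505e55c3fa29939c2460875554602de6fd1486560a108117a0d24567b567a6343b839058827c4226d54b868d4ae4f902a5114fe40f51840c6397015537bb10036556f0207c010421478d1935905f24fa6da6417573ce19213c1fd0c67076867161e66db1433280a266817b7ca7fa7cb68801b7ed4c808079a2426d91b41114543514db5c069073528f64a55d1135fd2500366fa08c56e0f657f6eb7a63e63357f76bf1ff1dd2081336f70ff72772455b4ab0a03503a33337a81830343153b22d908b60e6e160d3bb46f19f4f64be5e929b7fe03a44a7943f060236a4ce5511ec2a545f1a06852e728c7af7451d00421e540a5170c405d52b78c7c65b86b70686e406a4d007b6167f158b09601602b06c6ab19d3277f606900d1550a57f00c95132b82314ad4786082a37c128900306b0944360f82fc61847c6bc65255945174e40862d4d81b9146147)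
 (.leaf 0x0))))
 (.node (.node (.node (.leaf 0x253f50b32857a153d3524316de2132160084893e76357493b31ef3673462d227a6f12872e47e13240381e366a2ec09e38f10f1015816a467946703321d71126c6ac4e62035360b85371cf11e2987da34b7e25441870644e15d36066f24473864d327057642755710a64e30d27732c06e1b61d67802d35c32d540041f13764c5323c56704a44143144c768a5de2a87f265f2a28055090715e36c24cd0fb5126517587a57925e80b65487872746df12732f5647b619944c39b3085ad20b4d93db2ca5ee3f472a5c23c40dc7982a63b55fe1fa45052f24d5ce25c3c31730fd77e0d57195d251d1d36b13d208671a22e6d34356580d12882bb5213716c53422e85286dd3792c014d2232122f25cb10b5d84c347502910d4694a580238a1fc17c1ad1540520de0952fa1cc50d5dd7717640441bc54125e3b075f34c00615e37f12836f34f7d165b3ad7dc72d74112107576763c4cc0ca04700b1574e07b22947df5a732d5ae1c77be54e18934104361448c5bc2a11df3891ae13f0e61d22337a71fb)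
 (.leaf 0x0))
 (.node (.leaf 0x25741c3ae1f00db6a108d5493782b22cb5a92dc4021882325022553df5fa0cd7557285457607760721b72722f82af2107913d968e64602403538e0b76e35b732b48b5b941a7bf5a529c53a0221b82447c841962a5832492f43e252a4ef26e14213e6ee00a0d60fe0530b05ca57c0dd57b3572901d86202224fb18d3012f330577f7486921406c92f52403a926139643822825b67609f2b037a0d00880e31865e113b5df41d7c96b526344030f1345be16548f0e060405538462c54d6954d15c634a7c25405195b57082017bc4f045316907d22f6d15393fe40b63162e1e25581527b169626556616044e00f34867d35d1f93ab69b24f77558455a7343870915016600f061b0136892ae4dc6a373f32366145b50e3e171b73804c60a09c3d540d6693211743a81791700f225354a48d5e271059c3dc7cf12602e24136e0824207a45d728e5806295eb0df03969a2435703e04ea2451cd71e3de7226b449476f5db2fb6f511f6ba35659163d4e527b2965ab3557b062b5b40e822d6e01614336b6)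
 (.leaf 0x0)))
 (.node (.node (.leaf 0x8045383fb3be59f0582ea4dd6d05a14ed5923752a76031ac01266d33e3f81591b175661f13635c3f34d46326a629226940174b24a30a7656bb10e4557b75c81c91ab23831762f4bd78a47d38b77c3cb7fc52c22612a2205716cb43215f6b23776ea2254bb4035c16f96b87310ce23a4e75a05e75dc77456c77d18c3aa8093204e97137d87684c978f58e0e10510bd3ba0c84111077c54577de1164836872832183806d268f4305a61a727348409a35412325624b1bb6be08f57465e33a38171839d43d7e05430c022b16c4ca5526c43e55203fd3c65965aa3c71021af28002643c64f68b64766e4ff72619640424e14c35a21944671d7702b33ff38d50649b6c65c95da11d47b4655943223ac79f69e3c10664cb23465c21b72b2fe40e78507368306d7514977610a61802b62ff6ca2e25031ce5d02a40f76435d13596821100ae2c77e65a86657621183664f531255e3376114726104b13ca37c60b6382d006f28a79653e3af32a3005e013916662541025426764035b36255f12e486654659)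
 (.leaf 0x0))
 (.node (.leaf 0x2eb4e22db46e1817d951f17220c18410869372c47f4166d873e58c3b16bd6e91ea1766f30561240377c44d666b07625142866c0500bc42576a6235a26ae7ac29e5503c235f73b08e7c71fe5cf7f44800316d75b37e819c6d67ab6941325ea1d445c1e85c54c66753827ff7531a119e0a467b63b7b30841411d549e12f7813cc4905313a04212680b41981301e758a0672f12c57ee6572ef20d3580ef1aa4a768130931a02741b3dd1a51093ea21a47a50727527d6423a11a23392842936211b242971c1da08a0491490a94704f25bf58913874f77b2765ed60021c0e77173d16440853a741e6017502b963732501e4a845d7992d84b21c14a965342e6e277a0145994af6732077842ab33b0d443a2e942c7cd5057e50094de04f8070906f866651c3ec27839534933861361a0b544826d22c7e950859e4985935300c301835e73201739f4ee1c53077e70d37215d649f50f34d13516b25a34716e57304a7d028b0233fc5c42a007e1782c83366a206053f3404426d47786994e87936483e37ea)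
 (.leaf 0x0)))))

/-- images under the inverse -/
noncomputable def u20 : Tbl :=
  (.node (.node (.node (.node (.leaf 0x6695bb16c4581970552e760e3306762652574245392b25537980c20ee0ed0a52f180950576d1040d92615974633a358852413d5b61795fb6dd0ab2cf0195bc16a74d7236ca15d5994183b75eb4f326011d61c39f6e769e06a63872d07909937b0ec0dd3a17dc0650ba0b91d05d81907377a51fd0b44225b92e132a41f4af2240317794c22eb33a61e7b50bb6966cd66459c1e04815422b138c0c10850c062913c61004809d5567423857d05f967865a77c2405986d41637697b125052c6cc68c4a37105740fa62d2350bf0d307a7e11210743405e519b4e13151b533e62661162f6216317a03496db1c60cf0870bd70b4f06da6370c52810df0043fa0187e75860695ba13e3a27dd7442620f95444bb71777b22c11c09a28f13510d63c0d70e20700d42c805903764e5231e47e567a5da65e1d84bf7ca03e4f152f8010ac6276bb14847279236b1ff5db7145cd2fd6ae4697614ec48668f07303d72c7296284757555513ef08827e56328d62002011b5bd7461f447412e21503c6122ec001473)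
 (.leaf 0x3ac24b7432d319d3ff2dd144050083))
 (.node (.leaf 0x3656b942840b5af6a66bc8000fb6533220518077776e15775c27273f509103851e3aa7043b51d350d2144987fe1c51194c87453f854e6842aa18160320b7e341e3e41bf4ef58162e24964819811e3483783a668d1a47bc08d06314a4ed4cf4ab4b66523d04bc3bd0de4976bf00306b00700201375c31b46f7536bd6184b266504e75a76079626e1451a74770262c70e17207ae26721335607d0f773033c40c40451721c0c708b7aa58924853610b5d42a21f329f0173026f438d3980054d07cb7f201c3ce60b35178b02b6170a10811494b74b431d0c47786557fc00d26907f08014602c1d92a535006d06e4e02476d26442f475f7bf5496e64c52bc39b6c93d86865762a46071732275640cb18623064d0407361c135d42e20144370848458e2d82b937e36a21b74c4555a00e860f15f01f5013c31f839123475840974a28304777f7df1bc2cd7db41c2be6c17a752b1ad7675925fe7915d25c96ec0647f14191a62b528c39e30a6b83425406b656f63a21d6052c16df4fc3623bc5f23df1ae)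
 (.leaf 0x0)))
 (.node (.node (.leaf 0x33734300c60d51413b2935e221700a5a55c55ac14e79f20a79b0a00901e17ff3f974b1566410760601e701133548b2160236d127a5f37fd45f65b75d4e724d1af4fd1b11eb2bb3160d80f348c2095f517f23970e32900879e28a46c2262ae15224421f8040fc15b20c76461a2a33382a002935a5f623c59b5e154f22f44e74f48829b1a13f217764533161519e1097112c57d52045cf6504fa6d71cc21250b2e01177823e14465b368052847e64071531461315c1e84dc1fc78339629746d36c4e40307886c250c1ea0b273d1b777178918d38e5e34dd1be4125c17351d52ba2f93e07a63082c95674ee58f4705a244d2d21324e816f59e71b0524305ff3895ee30953828b7e067b55c3611714c93883dd5c642c25c6d551d5cb52168a52e5a44542b00f22de2f53b64ae3d32bf0580983471025f061922e57316150473437a23b22859f0e33c83be0a91505b00da3c642328e1d776e34578c35e3952cb1f54796ab1f614f0245e041b2fa79a7f718227d26d66c7510fe4d32dc1d240a57900b)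
 (.leaf 0x0))
 (.node (.leaf 0x40542f6d042b2586793ba74166a06251309c7e81c21e94310365be4c46ed6743bf7eb0d50f548e49a6305d775765850318c1f715449c6996a56897f07c97c56c07071603935723f70164a646b2ee3c43365a60a46e93551583760e01992e224666f3867ec60a3da5114293b96325005905180f03c11654ff6ff7d70e61d46258062794948053e202a1db54d70c5fa2032e434b6f66f155d5227056f80c35685827c37f45a82526823925dd6be46a3681a355069039769c6422f033f32c79546203a08e5614067b46c71da01d23159d7bb03b7520440b11a82f83663ee7de7e21e253f6954d67403264760ae2d054a55419f3834663461270f630015e79c6ce4b03017596091954403691b94d41ab27667f2ff7023675dc06f76a32f7876a430748943950e11f7b32026b53177634201f16c62903e356e4853d156d6045845075c85262b448229530b4027d949d7815b13e80462364bd55273806860c47862c0d010c7394b531e31c4456596574ad3185434f66162191c34d55873f164a76676f)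
 (.leaf 0x0))))
 (.node (.node (.node (.leaf 0x66e7ce69f14210017455f0b721a28006c2df26c43e6de5fc1ee4a84b364625f7ea23f7be7a269a63b0bc1e356c00007b1082ac66d41704d77d2115b22e81b37af7c016610329863d1ce33351c13a2da0863d504c1124d17260b601e44a75b4df2a12914501343870b56025cc5e41b44496884137803ea4cd36d1061403f03d479723d26b38f2f378f26a2727857b76436547b66247c60af2421877a44933630c84366a96a12b80b00b847b5ae3ae48347f10f5f11c75964577f665f43f7fb33944f2552231416946cb53b70f4617e92ce53d16d7f80f453a2a671945337971c6e857544724330c58a4710c66fe5025653c212d04f2884002453eb25b11a42d61f13f24156a23741d2fe4e61513606f047d77a6cf60060100f4076985c07b05a71055bf4a16a059448d30d7741ac3e771d58c66b7c26f77a37ad30302f2560663c720e12b18b5304eb7e638a0751224085121cd3522f64872a70453242a83990ad2bd67d27c68732b1de3d914701414c1ba78e7f539d2d12216ac09536e1dd6b1)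
 (.leaf 0x0))
 (.node (.leaf 0x2d617567c29c45c5ec2db25a4384602784374486a748a23244b17e7700275257c16511913b32594642af19a53559530e5931a21383b25153532ab14b5297212860711c416832e3327cd17001a4e514d5b83543d66e25807bd7121b017b3bb68377658b42a10a4d80ef5d36335d605a57b5067c801b05b2224fb11318327550a3705f43271153905d00892257d83f63b43fb7314915336fd22b7540122ca37127734f72f3f450f6a82633a40f87ee62a7a17756c309e4906e555a5c72641dc5276752ef40d5b75b54444422c20821bd43238471809b3c55206af6770923b00932c008404b49256643318943a6e027427030432067e6d966655960856b1bb08c6d36f96b33776477d48021105834cc0255375f818f6e345b5e81c837c6e413357d70a3121fa0e48085ce5713fe1cf1d14b805d0491aa7a972e1720fd0ce3c96365c32921554c14f40cd0be0d22e615a3747f906116773f0e928457c6b763904346720d61b1966ba49b71f54813927b49649519c73278a3577482b33345ef555296)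
 (.leaf 0x0)))
 (.node (.node (.leaf 0x3595703737133fd6d82083ec23e6fc1fe17d3e540e20664b2e342107273e44c78d01521e1f26723756f27015c454751f5ed51a79053218005e5de4de2946ee5412542fc16476b08f4166a24157ab3cb31a05f4c636f3721a917a16e7d334a6f50573fc0a24356563a02516c523345d1764ca1ef65c7ed1313115fd12634d55e3ad5a353c76824c2c42a96620967867a87280a637f6d61852ea2d42d92875a173c2ad0f10334256c41df5d93580eb3cd1431070dc5571c00c958504a7ba38139412c26840f31907859a1535f73c04563f32532292201594fe12a52d2d56dc4b96490092fb1ed3236b003f04230502e4267d272b5603e630635f32d7995b451050938b0061f96856631294f571e12f1ca57f73b56271a1ec21045128215710e7092853ed4d94a274e38278473a31f70d6714cb66122a45249918a0db1141b65d53104ba6976234a97621e554b34e53e3ab43c0320940284b17934f947c3d24a065d1a524a3216fa46558d43b1b82f227f3dc7941847254015ab0ca03500e5ad30f)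
 (.leaf 0x0))
 (.node (.leaf 0x7b964f4593ca2076922c324e6706224a47cc6ea1a062b61d27179d68e2666ef7007337c772432874708a0561c91e637d11639a0671256fb1cb7fa3a80210540ff24f40322d1287165310a87490aa6916935915ca7cf63439c7e44d257e6146ad5d111149f5786b241149e4683d71886c84f87b211856950863f0a70ea7d67c407c6f366010167319352a23a0b31fb02d34c4da42723825e68b75e1784103132cc64c7031925df4a73a52056aa63547a3cf4144db18e4ea3417502e94c77ac1b25aa16b3af3cc7727560e57060d15e655b3b127309f13735b5164f70cc03405c7da0773a71204343db13607e32533b5e71304414d74ac41a4c04be1946a33e95ea2b77b843d33d7657736060104a53de45a1f05a96eb4e263e4f20e72ed12348f54c7ef2f74e37d12892b65450d629d6815582d772a3b821820f4e91247f334417c2005e966836426f66709751972245e29951b35c77e54616216938076c69b4802c63a929a1d65340530410394c32e529e02257a69d4aa0a34ce46e25d6b4803)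
 (.leaf 0x0)))))

/-- images -/
noncomputable def t21 : Tbl :=
  (.node (.node (.node (.node (.leaf 0xe201125b3124fa07c0383087890c65072684363d64c16df4180e416741d1b90d412804f51411f50c17938b30f0090f31666af5f638858930e29e76818340c22f5220492645ec7640ab3fc5c41312605fe11709a7a90414a40a979a07916c4a70815f14d50fe0a33253ca4ff4032161210971ed14844506c50648e5ff1b41410fa72a3145e57d33ea76a75c4570ed52d4440ba74a64c74f39e1520842da1a578b8064410902db22b1693e43f95f70881f47ce12f4b64894214926e63ab7d81745843736753181e03ec2be6cb0f504d28f50e7fc7035cc4674ce7806554951dd29975622d1ca14932c16373220f4ba54e14d0d041933767f2b547a0cf2040f73bf6c20d95634f756b7d013c04835004b23a17101919e05b6dc31c48b0b07dd1b21ba02d06746e1891f177327e02b7be17b7e622e1440311d546854d60312d45b78218602e4cf6ca7711b84b046f3cb7624e242c35f32a59f1d20760185d54425c811e58b0508017a06683315ae2fd06023134431a2b70c326a79325a4d200175f)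
 (.leaf 0x4d75775fb7286616135317e80bc2d2))
 (.node (.leaf 0x741a20fb45e7b414649e3d000279f68462354a44e6906167431613285a901200678530c5244805b451343167340a5bc6e274c7a801702f79b67665a2d74144731261eb0517593850073e87921273e52762d46de5a074566c70f52b6286322ef10163f09266569620144b5731b37b17b63c47f97880204a969965272c7b80737e466b6497464833fd3d12442293eb0cc21c29f7356dd1197a61a66be4ee3560426a32fb71a03e7aa5c235d0282020b575d34c1332ff5603832e35ea3e767b4400346b328d6ea00c3d31923170c23b73e02f277233a2367ff4c01321f82f55591fa0e73df49c5271a37c20c42116e556436837e6ff5f27e02701a415856851730a2630526d56f405d2ba43f22253813e7cb0f87362245fd33543344355b5ad3111c221e19765b1225e143054b2526256d96c813b1c354525941675841b4fb14b0d14e741f1a92131bd6c151d30b8032460783843c711d42d26d23c06e65356939166773303d6fc09b8093f26883640d36b607a1ab77e4204c91c46390002f0155)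
 (.leaf 0x0)))
 (.node (.node (.leaf 0x54c14f3db0a757f7b543716a19572e0df4344d65bd7af6db02253c0ae31310301d71778a4f64ae32b71519f2141d950a5410d21d77cc44a2536d755140f51a5cb7fe6350c94cd34f0994e448c30038c03320648435e5cd75a3556eb4a50623c60dc4773a22205c33922874560275a413843d6ee58016d6d07bc7f131f1f20e30594384c302420d36608f6b413633b34138a3fa61812e3d92f401473d21219b5d32322b369f08376e03f1375750d77eb01f66a68a3b13b30b93096103433e642655218127d2a579503260521a44f6482753862c26367cf25f1dc1df0e54d11d803b4ca6a757b4be69d7f74543ed4230cb6fd3247a409c2c06505345971290823f53a30b46bb58c7424e33bc7c84612ee6334e947e1e11093c94a32562a12cf6621e92425be4505fa12028c26253b6176f627a55a48608d2274cc1aa7ed0104bd6b70393361a843a05f27b24b5b021b3b82bf6312713f31576461932b865c3050be3527262824e550062b49a4b42ab4fe0bb4494663ef59824829d4bc5e06241ef)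
 (.leaf 0x0))
 (.node (.leaf 0x5d121d45a1c017f5997a733f69479142e3de3cf18838168970161575b6226a160c53028642f5f07fa13d5de73065871243260207010d7532a378d47851917531040964f2ac22655374b10c55e2614286953c229a3234f456a55c41c65d4243ae2000a559d06d2f96bc3784741981c50465f42054f357e1d041e7d71963636c35e90db39f7bb63439a69e64a54470231956e5817c746a7e94d97703266d339b5c979605545c1870657630030c86f104a70c1cc5ed20869c6044f54da4ac5ba2216b53670eb3d718c61f6e922a2d13f17237a228a0a66d62b17604c74076c70236e060e68f2f364465710245277b7660874172d66192815d66544714b22030c56ba7991e633d39068e57a18d06853a69b5b170b2694601132a050111407b26f2f17ad42563d0b67a176f5367b03cd3f76c42b61401da5d07cd50f6064b11af2c15464692fa7fd5ab0e006137b1683a43461ff3956ec01c58867d0540576594762934dc3fe6d27ef6aa2ce6817c47f47ca77875e1501244653e258749135c20e0d6)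
 (.leaf 0x0))))
 (.node (.node (.node (.leaf 0x5b621925160d60a68639c56155063a1f56a070e61204433810838f77f4356c06110801763da65f47075144d59c7da78426e6fa5df5bb6090f11395bf7ea77a06451277454338236547f03562f7385a74122eb59a18208b4e16ac0f04f21b573c7b761c5e42b92e207561a10a6703061640ac6e34c42981fd07f28e0961de3692ca10f7272d949973915b62e51815c2c72c857173a76c0af04c4276787d962675738756f3ac5902956b06ae5a114a1ee2840056272d876d0a21c12394b50f909e5ef3160a17f63ff6a95a249d32758e55723f5822f740b0b22542881b73a76f939476161d17d46c1fc18403072f3dc0a45d854025d74e51f60824a0d86802ae1d65102bc24136f12a2fe39338913f00d4815dd5b811a4fd2af2346b148805815949b79729046409f7f81053b555623d31d3af7061003dd3a61c66cf35b0a029b15a80708c0d51e76a40ad00449604368b36206a6ab02a1cd15414c3408007f232d2ec27873b3e971f19902530d36a5db2a74066bf23314e2e110433e36d2e803c)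
 (.leaf 0x0))
 (.node (.leaf 0x60727f30216f2574137543320e962a13a6da7f356252a29177645f7057d10e15e728364e4a663770963e1a17216d12cd7694b751b78c36c45133c6a810e76b6144e07c006357943e19c6f725e34239d18a02671146d66e40232f67e24d7295115322a26b850b6416690e617075567a53f4622d05954941e347d42b7257246ad77d3aa4fc57067264b6a66640ee5e85c657652e7ec1304464d01ac3585b25262587492dd12c57c65168c5296d81b008e4ab17a61b76569319d62c1b14151250697907b36823bb50869745d2283205235af3a539857835a5251fe7e52a83b64eb53e6e71850774bb5857485026925c72941f915134d2d37a336e3a96406711ae5cf4dd37a0ca6917ba55472248d7f571b7203b954815d0dd24f1bf77c8041181b617c37953d22324525c24972b5ee0b759143980526b0853976c90fc5920bf56d2151e812b6877521cb71601b74d0ce0294591f06cc2f80663591a720b2180da1f662960f2e007214711b0b807141a5d41d44cb7d556729637d28b794453399210)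
 (.leaf 0x0)))
 (.node (.node (.leaf 0x1ce5422733a85d905300a2357195f563046b7a535769a2e41f37007146d42bd4982f671e3ad2173b001327c3530b36214db5da4a049747b4d45281452506ef1237752aa5d26563ce3ee78e36b1e531b37c2373543be0fd5042a619a71d3743c05860ec3bd3b253531e5aa1534f04ed05a3497c97d41bc50955d4d37447ee2437773f45217311e217e4755fc4a13d466d15f68d37f37756611266638067909447251c7d22771731917c14de2e71d120c4f922521f4225dc1c80de7402cb58f4b82d55a84b32856c62b06c54e855f1f71162c44c63720c02ea6cd1075a37375e673f7835372bb3e318f6004045b94df51637078f2ed4c834e04765e2c934543b3c14552791bb3513c37df02c1347dc1e459603607d1ea13540e5eb29750d7812df79c1c92e671023e61e18e32e5e25723044852475f909d5ac30351e5034f15b71be59456c0a80081802c64c54af3217131100c762003a75069808a0aa58d5743f017764359e4e66637793600456b91943c85ca20922c15e63c0b10cd59b26c70a)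
 (.leaf 0x0))
 (.node (.leaf 0x3cc4056f258a1db24c5053f62de5b548747c2dc76770717834747964d7343c55935a51623301cf2927b205663b34b0375b30150f60864103332b452c33905e26724e5a610642a79d6fe4ef2555f30914486e848f71c3a16f516544c04e18b1901603b43293d80f437668357d6a21c74c201e1437ae6606ed5584aa26611c6f84ad3ba54f73e60149f54701648a74130738d1fb0e87ab7b94ea4d82cc4b95ce4471153d56773f84931a04f81ec2742c54bf7e36e17872e95396424087ac6450ef3e13a054901a72d4000ff79e4ec6fb7c67474a20bd5d73225156e452055543c7bf06b4583755336857d600f62d2a45c15c57fb67420a6380953017c51722b22e55f840134a7e10217db5e30ea70d29c00e7bd64770437107e48208967c7e23346ce16b5834116a55651ad6f010b60b7f06bd23b3d20c13618021112404907c346366f3962302800937e734800b05c6b22ad06f52f2652a90982724a87084293152388082897de3fb04020738e16e7187982fc78615614240d1d35c02c30f26f3)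
 (.leaf 0x0)))))

/-- images under the inverse -/
noncomputable def u21 : Tbl :=
  (.node (.node (.node (.node (.leaf 0x7790bc3c652e4fd0aa1814490567dd0777bb0e07011da1c37805a20a13be67d74d5f779d4695b926d0ee2ab0ff5eb6252f53845462bf6a951605315828c6001270ea40b2de42a05e0585213034a02605522d268d31e0f665646300647773137152c21577280120a09e28550e53663c48b2533e117030404219b2ed1241b40cf3180c43272fc6726be1600bb18517d12c13b18033125c4100c82cf71a0b41ad75a3967254bd7cb0922a458b2311281c631974308b6607dc5310982912560bf1e91af7453480fa6424090c241f5670191ba4ff4ab51150d6dd71e4186bc0b076911e58064d03d51b6901d55d22c162400b2257d64507210463b52aa1416187e36936193fa4534d20120e87c207619a04b68b0d304d35a6b530d1f11214950c670f28f49141210026a31c2290f97e03491ce47f2ca27a0311634db02803e34e03711c52048d2b75c910e2a766b2ef7504b128a7b42ea61c52377c0480184dc7a37de2993e44eb0fe22c76374a14b47b7223f90e13264cf4ea18912368e4f7001402)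
 (.leaf 0x40f71312909453354242172f011117))
 (.node (.leaf 0xb820b1465a842c0fb38a78e0512e76846c66b21c232c3b77ce4973b677756b79a2493784293112112ce24f01f1c55d436138e5546143df68369a7998092f30bd3da3ae00226c59a02706f2d122f50926940535c66e3733231b22a87b50f146f78a26622b2035660617973805de08718220d37d65862d0233222e67aa68258a7ae4b07180c05e72c20c52447733a23dd7a54f917846713f20e1a63ea3dc12206c5b179008460372c7c80ae54d2cd0437a20861427f52323342c84a674414a4e61cf2485af7f43db0597ee6d82be6163a46b84d53956591e502203c5c71663f469c62902f07020860613c72a5b424c6475ee4fc57969202b6fd51f7680a22b83542635026635da23c2774f21e37c34b92db2097ca79559b0b109f44301609348044e5d02b476b3562265342a92f90f31ec2f44446df4e34396e76f541b01e5ae7d17166cb19928063e6c12613870854064286af0ec6c342d50c05d0ef65f42f5824d65fa1ca73c7db2d73457050d61714e16d478366d1097fe3630b75c575377a)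
 (.leaf 0x0)))
 (.node (.node (.leaf 0x48714f00c7094936286bb51c1723e946c29a6674746404014c024b35d1141c937078610138d33d7553f04841bb1055123407f75937f30910971a71874d765e37f4c955c8006775b324160f5e07983821aa35819f1a032478b37470227362b25b21f0793eb15336744f1bc21800763405a7d929375667037a14515671f6d220c3d371b56d10a3c427c7616da5be24264549e0d920474b12b6c806a1b13435061905606157e55f013d0751ae47d23950467371216e2b96e837c18a5e921265c7265fe03827d3e32242343531133924ca27578c3fd71921d45a6411df41a3015320056480f47d57ad71c0d24542386cc0cb2705cd15d53a0fd0034305955fb2437cd16f2da4371fd3d75457d45c27fa22315953920533342053b4a33ab23e15272d17433b13641973304a1837143c94713f814410729400a7270d50330683070906784a25782306d138944753c44d6802bc38843e6fe49f2212781fe5173e60b652a2e24262974625000626012a638b51875c30868770e2c96b305765748c4ba6bf)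
 (.leaf 0x0))
 (.node (.leaf 0x45d7cf25f4117761de16b7ab5ce2357c54517007fd68c7383d62b37b061d2c347c6797c956908346176e1b34df78866a0f04c849c0452f05f443558d2d96714523ec6976125e12b012e73f36f51d07802652f43466c37b3796356ab0544241eb1084987346ba25265530c5bd22a40a67f2a347e72014318f0de18e5ab1c411d61017a5d82685a473b1254947b76eb1f42926a426568664b3f14af31a57a4bb6ca6f75865625514f166865039e58f1202886f040d5271fa7654f57b957d60e15705b5c361a7424815b63971987924d907d75d4e25a65571b77295c63a04c54a92895ba00f4143994bc5a33102408057b11e63596c221743c4d86176e16653d106d65a4174ae59025a6d35e87ed09c5a56a34a827674821a7816663137845bb5584be5e463d3057e21f640375b5e62722d36a624a4c121e3f51cd1a376258420f5f65144c21881964362014f46ec3e031d67a33a1681be5881b965d29d2364f06ee5d58041f21ea2835136691fc6ea7361fb1db15a5ff62e27968502d6de7a6364)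
 (.leaf 0x0))))
 (.node (.node (.node (.leaf 0x61f56f1b016579e46a55f46d3765151f508a3ef2ac03a51e20018b0b378d4d334723f5291266533cc34b5b03a624707b26e1ac06b26f7fb6322e126b2dd15503050a70401a38c6b07e63ff11b68952506733e3857b612f6b640443243f1846fc54432a4253b135203f0eb02416d5401c10ac4b704058358c62c55673959940822e4272275194990964594654fe5e378f2e30475855cf2963c310f6b743d6ad2f730b2194793907c036533964e67b7c15ca03b6f26910295681640d71c727e3256fb3a516753f0355890e47f03141e86d60803917570495b85fc70c2b10c173e2f808f6220ed0df7c41b50647e84ee7bf39f3065471a11a412a14045821b70740011a3b809955e6082fe10605f11942b18c0660b25104fa3d80327b37060ab63314c44b6e404e4335f51d92b528e2a234634d48846e0cc59c08829c02c5925281502570e94cc4d45816073d543b0b523a0e601441c7ac50f14749b5410c937579464364639a72e31f1a95d76dc6ce7371b82461ef36e7d21391042eb6644bf132)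
 (.leaf 0x0))
 (.node (.leaf 0xad0ca4463a380723b33275408c0dd3f66b47cc45c0be6e617f5376880d13444836aa5a15ea36b0a71bd74e33743a2021dd6e314938610b3de3fb15f77165b01750b2953d26ff6315557962c60712d53096950155615a075f0cd2bb48f7607031d823d2f24e01dc68136214832b1ff7f64e57df59764a22257500d4413306263b94ec37e1cb7d37e92b636d17918d4c701b3126bd1e23021c86fa20625834a5b23297ea52d5351913811763172510137fc0db61b6043bf56507f73d17369e2b22fb6b17b859126764f5d157280859f28d3164b833619e5a719369f52b3280506c541645750739b73a4600525f21f84863776cd3af6c444223346b7af17513776c54f6d027f2d81f77a806002e2ff4384f377d5487a462a4316a21d23fe2df15e5b556a53d2ee23764c78544c3686393bb2597665bf8036e971d59e0a07d84c35f158e3d94665965704e75760d43a876d15b32e4233945dd2d66d71a245636076f0e74e41d45c015462f0743420e55bc2e03b057b0f50af7f93c532d563644210)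
 (.leaf 0x0)))
 (.node (.node (.leaf 0x17b6134a50ce71029e08d7916367f82553a921c40e6763152073cf26207a4a10a51114ce4822814cb08e36660577f4754686f41311612fd1e729b7bc67c0f27933a147a7324a44f86f33d06377ff0210b924530a41d2c07eb4b43506c93553c00553c73bd24e57c7a954922047656c1387be2863bc2873e51346c03e71920825a95593fc16c1305746212542bd7c677e6a809a5cb1f96966a550157353072861e16a14e2ba4156511ee70d79f2cb0e329f14d0dc1942744d041e4851d16f139839d45e5053ca62355353e6b939c7ba7673c107e37274635f15155a1025db3cd10c1ab45f67e2a51d040c6ac11f73030e01d2c748e60212d57151a5983f24962c43c83e221435104c2d035b55d4897e17523b47237ef6203570092825cc2a01186f81036525d92a14727d71f005c2284457407da5f800e7e75c43381150652e501c7bd4ed1776980ba25e6c77703215772ad3ba1350443cb0086a007c47817e7150a82ec0fc4406d50e20da10d4e84224552840f87a01b621633532f5fd7592cc)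
 (.leaf 0x0))
 (.node (.leaf 0x4702d462707375e6e54b313a26417c54c60c5f31162ae7356113ac22d59d28b1d769b80272403456e4aa78974175145b34f71104134c74f1e11970816ae7645083b20a63935ec04f2710896302dc44a60b3b324d69d77575860d72b46438f5d376a0367492af6a755079b4ac1bf4b52fa4fb57e7e44b66382f17b263f78279c4900c74dd6f949a3f325d55b67463b0104f67787d033f4da0c365470a13e69427b5030044cd6f657f35e3ce6d95dc0952e80f74b27877084e91e036902a34106e1ed4075aa5436621d630f60a3aa5ef3d41d303947302569963a29018619c5d60a45df0d87f26615870d068f02016966f00060948a0a36ed2c54d142e1950695b75f96db5261e431b09b15c5224de6cf09d5945647744a74c63ad4ef2507a138336a7a72981c011219d1a51cc36c44849d7ec4130633a76e21622f677b4ad5380a95c18061a82135ad5ac67554e5e254a1103e83c27c754b4923f770b2e95242e43ed3206e05c833c4c41f374c68a6493005e57177f11335ed7470726a16ef3ee)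
 (.leaf 0x0)))))

/-- images -/
noncomputable def t22 : Tbl :=
  (.node (.node (.node (.node (.leaf 0x53f2c859e1535c50fa2f165927528c0845790f37de61523e0531500ed5923f633d0d13114ef2162cc0a00e34187ce5134002e935a0dc77548c4473a74917262ad0c641f1aa0e951f0cf2ee3997c344d3524d02985690d46ce31709f0bf2cf1600c22bb2bd0380bb4b151136514b62603f7b51821165571f55bc3103fe4b268105726d5ce3cc4110462795ed0a23c70e40c36ae4bd1ab45542b09907a1156242fc2170117427d062e56d08e35f67e3077ff66a41206b01071a0f511780823369c07f38e7d949000c09817d55523463f5000747c23191ba3645de0636837c00871df4b52a002d1e84012e606e7e876c5d537f44e70d7f505b50432658d0aa4d60557ac0ef6685f205071e47026c3854573a175f2063e70a52021f71191963f17980b57dc6764ab7e564a4100bc61267832f19d3d87c74ad34b02f3ea06702c42a52720e4c85dd33c5aa6dc7a16f86043392f443269b2484251434d860b5d65ca5ec7212767250930862ba2725ae07b72948245154167421c3b175a78120d001537)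
 (.leaf 0x7be08217b39e52634a21d407801800))
 (.node (.leaf 0x5483235eb7fe2883f333f1a15da4f62f07bb1303ac7703880e75bf1707eb27e65e1bc2511b05461b875839572b10a63a4df6d13ee70b34e60d41701969f0564344cd25f4a769a0c96da6b84d418b6135f73a30282b21736ee6ec47d31658e66570765309d78b5687a64b911e7476f30696615180ac0ba7037b844103146803c7ab4a92ff4d24a67f710812a36b28424c76e7c47b01f630e3142f339f49729636219145e4920d707c45c56048d0da7376772e73d348719a25448448300a2ed3e312e68a4c33bf47b47a1384786cd3a81367d668b5f57f004e7fc3ca62045b36f4544084ac30d2924525435ba1474612931cb49374348f46c1be22d52e04b55c09b46a2264650095972ca05e0cb2d65027a46ed29d0d942c6ab5ff4434424ae7046e35bd2687c95e01a85b23af43730b6d94d572301e4313927f119427a44609a02b66e7a577715401b7c52254221445fd0d36436081757001c15ef0e24d978a3fb33056e0880a603956440e1b41225946801d746980252b12950a5507170650df)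
 (.leaf 0x0)))
 (.node (.node (.leaf 0x4a82827500951e16af1d36bf2f77642d101f4995490f94f55cd0ce4811ce2eb1a90de7ea4890641106c264067119b5d31c956372f2dc2b36cb1271e721e44c5216a91722a12f53a60c16d610b0e527844f38d0fe75216579c5742a32c266d6c52bf3fc0bd16c0be00f77a2b85f65032b55b32db4c774c3f72af2ae0d53b963713c58014a15725c7856632c37b62d206810329e4487fa6486a66490c83434966ac3ce46046676160776f3f974a0f66b43d419c4fb34d32b5e54a15c72fe67d5153044eb3223d927b42d0a42cb5e40130f75b113e00e27174e59d76b0a904d39139375443d70a5ad6e730a38177c53c2604d37093a42a61521665d920c59652c16f4851ad3664e87b43c26aa7084a053b7e665001c17e2461af3203be3c33b856c23f0f01c263e3d676d6546a055e3d26fe0770812321d63cd71822e4593ef22b15b3fd5c916d4534235d262c2223423723a92d780300635663564f1950940e611c1f91d921250d51020f02900225852920a20957179f04867c20479e04557a57c)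
 (.leaf 0x0))
 (.node (.leaf 0x3692356fd7571d83786f90226f731e61b5cf4b65c36866b56ef4c54494c46eb7ca67a38026530269279443f6a315e6c61096de3f20247054cf4353001ee2ce6c07a932e5994de6b334f0c54775a22da7633901935566e02c06893c02e41bb6d52f861065f33e1896ba7714ce6916b66f028b6d035913263d2fa09e19029544524e2d45d838329a1de7af6e26a21492384d71ca7cf08001d4d135b7e27961855323136186e56b75407456273861e947347e6c468251b6f178778806d6880ab40a56108c2812053d76e95f403648a03d1140076736462e27db54c4292c13e87140891840526675d14c036e2a43f54b43a06bd4ea10e1ec1cd70e0f83df1d25c131a2394be75913a2492191133c51a577f03a29929b3f06725d73c441e6427ad2e307623c6b03637b24e05453fa2ab18c21a33814836719e7493bb09076522362b5a53c113b68e0b611d0967cd7d562146d3b539660e5446f55901886936175590f15194cb0375316be60f61d4da7cc0185c060941d29016e18a02173418d767357)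
 (.leaf 0x0))))
 (.node (.node (.node (.leaf 0x71553a18737c57e53d21451704449c0b01005223e971d5a831f6d713765c78e5df68c0662d81d511874d5b03b02fb18006a6a53ec7e134c3b42136fb4092311e65b92f96571cc50e3682ec65b1d145f69e2df3d01a27511c510435d23d41a31d3ae45a5784e96c10711b94e55951b670f40d7111b27ba4e72455d025337009c0d22ea43a3d178964c30c5751c74f83533016310342892e148634173330304221842e6c87ed4946ad18f3516026364cc6056bb6191fd1866966691830b312f1e05762470793088077da3c91785ee52a41c1744c62d31594ed2556062272bc7a857333b16836d25a2c61641635073540c03bc6e17ee15c22a5a31713792a715639a4260fc25b5cb0ee14f7823ab1050b72a86a163346272057242101a3ed50837b11a27337e2aa6286511394791ed4753467447416b15a44f318147f30639d3aa4a34051112d97d112577b34040c50b7f211f4b862521572213f0431e50830b209767564e7a21282e57e065d5067552cd4e16df4a45775b614c1c429f3b754f1f4)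
 (.leaf 0x0))
 (.node (.leaf 0x44439c4205425017745c87f94ca2b74726797360515f15af4191770a30154fd5b773c73836a58228527771951c5e143b1ea06f0275dc5cc4f72596a86450170605d42e02246661ae6f40a82ef5db1510162285f92833da0fb5c46f23dd65660a4ee33243e0af56b4631d435e5ea1065b55162b44392741e35f000d2665ac5ab0255051f05207d462a13115a6cc54d5a059f0fd26f7a355337a6d25584502571b740b7910ec3b361a58f4c10585307fd79b5385527847aa78f5845835e67fb2a93a21fb32c20057b2010f41bd10717f1a32c416a14520874074641308f2405bb7310c74bb7b15667bf40f2de73a67f48e55f2377164563743f46165980b16c707871c59b58870140310154e5a166f7cb5142f24ff3154e663961c4645fc0086900ff3211fa26124b1fe3e458900072853577332869561158c36145852d25640617620b7e902a8057df7d27101f32d55a70d03ff7135e268774b6144b31f85b428054a0e05120b92103371d021150c12140434814116210d5a905a2b644b5fb075)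
 (.leaf 0x0)))
 (.node (.node (.leaf 0x51e0ad2292be41563828e73e2b00eb66255a4fa6dd04164722c4dd1421dd37102e1f266c04778c3e25394803e575d71b6583295c23367d75c627c03367b23b38a28a4882361a71c83472942300a776246e1797bc0a13c664d64424224f6296c347c24339b15f62f77e2ac24110277261f1da59135c0051e24381bf79d4f214d12b21f4760d82d030925d4c957f04a66049880612c5fe3bd1550cd73f73b61e4e339426a43026b6c938f07e2c938c3733d53894f033568d04c3276a73822636e805f13d7021fc14059a1586fa37737671255b38b2203eb1ac46b66416736c4a25e76ff1cf6322520b807063c49552f36008d5b81c33b26990dd6b275e60021b7391611a00ca18e3506cf4db2871db03080472e5093cf1353457c82972211991234f96bc0ea02616978d02063450f3dc3877c679a5be32a4140356d378657d2863313de5333840593253244fe27d53e2441ef6f61c073d31b6550727f30c44c254749a6943120e80ae30f49b4671a44362643a517c08b12d30527f1976e619f6d8)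
 (.leaf 0x0))
 (.node (.leaf 0x8a4fc58b46f58129c5f87f84a573205c72c31812042f4717a715d1927994ec2e85280627e324a03b7787e76981dc10f5250f27a003e67017a07d7d83db4746225a67d352412609169d0e162360c54b6ea43c34403233442449e0cc0737c106c5658097663c84f41b17ae4af70c2a20b42507b363b56749d6a47b96410544aa5866d416b7ef4ba42844a59c1120237dd2072033ad2c558a3337ec0407276977356e479375659372d5851eb33a3e64bc4161a668468532d2a558778314e00378064b3ba7482621242b975b7e442774f0db5fa5343b66b94f128f49f23a06126e76a7697686017bd62d2f66ca3cb29171f0493583e17537790046524e46fc79210c26975c2c71c62fd7762701e42b151a28d63077d4b756f68f13445d0921335703983f831c5e93975623555e848b5f37956031987f656a7302dd3497907f44e272a00b5367970d601272443311b01414676004f1f15543e00855e322f40255d1ff66b51d3751b35231b565a05d7b74dc26725e24d4bf7066db4404b037d55141b)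
 (.leaf 0x0)))))

/-- images under the inverse -/
noncomputable def u22 : Tbl :=
  (.node (.node (.node (.node (.leaf 0x53f2c859e1535c50fa2f165927528c0845790f37de61523e0531500ed5923f633d0d13114ef2162cc0a00e34187ce5134002e935a0dc77548c4473a74917262ad0c641f1aa0e951f0cf2ee3997c344d3524d02985690d46ce31709f0bf2cf1600c22bb2bd0380bb4b151136514b62603f7b51821165571f55bc3103fe4b268105726d5ce3cc4110462795ed0a23c70e40c36ae4bd1ab45542b09907a1156242fc2170117427d062e56d08e35f67e3077ff66a41206b01071a0f511780823369c07f38e7d949000c09817d55523463f5000747c23191ba3645de0636837c00871df4b52a002d1e84012e606e7e876c5d537f44e70d7f505b50432658d0aa4d60557ac0ef6685f205071e47026c3854573a175f2063e70a52021f71191963f17980b57dc6764ab7e564a4100bc61267832f19d3d87c74ad34b02f3ea06702c42a52720e4c85dd33c5aa6dc7a16f86043392f443269b2484251434d860b5d65ca5ec7212767250930862ba2725ae07b72948245154167421c3b175a78120d001537)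
 (.leaf 0x7be08217b39e52634a21d407801800))
 (.node (.leaf 0x5483235eb7fe2883f333f1a15da4f62f07bb1303ac7703880e75bf1707eb27e65e1bc2511b05461b875839572b10a63a4df6d13ee70b34e60d41701969f0564344cd25f4a769a0c96da6b84d418b6135f73a30282b21736ee6ec47d31658e66570765309d78b5687a64b911e7476f30696615180ac0ba7037b844103146803c7ab4a92ff4d24a67f710812a36b28424c76e7c47b01f630e3142f339f49729636219145e4920d707c45c56048d0da7376772e73d348719a25448448300a2ed3e312e68a4c33bf47b47a1384786cd3a81367d668b5f57f004e7fc3ca62045b36f4544084ac30d2924525435ba1474612931cb49374348f46c1be22d52e04b55c09b46a2264650095972ca05e0cb2d65027a46ed29d0d942c6ab5ff4434424ae7046e35bd2687c95e01a85b23af43730b6d94d572301e4313927f119427a44609a02b66e7a577715401b7c52254221445fd0d36436081757001c15ef0e24d978a3fb33056e0880a603956440e1b41225946801d746980252b12950a5507170650df)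
 (.leaf 0x0)))
 (.node (.node (.leaf 0x4a82827500951e16af1d36bf2f77642d101f4995490f94f55cd0ce4811ce2eb1a90de7ea4890641106c264067119b5d31c956372f2dc2b36cb1271e721e44c5216a91722a12f53a60c16d610b0e527844f38d0fe75216579c5742a32c266d6c52bf3fc0bd16c0be00f77a2b85f65032b55b32db4c774c3f72af2ae0d53b963713c58014a15725c7856632c37b62d206810329e4487fa6486a66490c83434966ac3ce46046676160776f3f974a0f66b43d419c4fb34d32b5e54a15c72fe67d5153044eb3223d927b42d0a42cb5e40130f75b113e00e27174e59d76b0a904d39139375443d70a5ad6e730a38177c53c2604d37093a42a61521665d920c59652c16f4851ad3664e87b43c26aa7084a053b7e665001c17e2461af3203be3c33b856c23f0f01c263e3d676d6546a055e3d26fe0770812321d63cd71822e4593ef22b15b3fd5c916d4534235d262c2223423723a92d780300635663564f1950940e611c1f91d921250d51020f02900225852920a20957179f04867c20479e04557a57c)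
 (.leaf 0x0))
 (.node (.leaf 0x3692356fd7571d83786f90226f731e61b5cf4b65c36866b56ef4c54494c46eb7ca67a38026530269279443f6a315e6c61096de3f20247054cf4353001ee2ce6c07a932e5994de6b334f0c54775a22da7633901935566e02c06893c02e41bb6d52f861065f33e1896ba7714ce6916b66f028b6d035913263d2fa09e19029544524e2d45d838329a1de7af6e26a21492384d71ca7cf08001d4d135b7e27961855323136186e56b75407456273861e947347e6c468251b6f178778806d6880ab40a56108c2812053d76e95f403648a03d1140076736462e27db54c4292c13e87140891840526675d14c036e2a43f54b43a06bd4ea10e1ec1cd70e0f83df1d25c131a2394be75913a2492191133c51a577f03a29929b3f06725d73c441e6427ad2e307623c6b03637b24e05453fa2ab18c21a33814836719e7493bb09076522362b5a53c113b68e0b611d0967cd7d562146d3b539660e5446f55901886936175590f15194cb0375316be60f61d4da7cc0185c060941d29016e18a02173418d767357)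
 (.leaf 0x0))))
 (.node (.node (.node (.leaf 0x71553a18737c57e53d21451704449c0b01005223e971d5a831f6d713765c78e5df68c0662d81d511874d5b03b02fb18006a6a53ec7e134c3b42136fb4092311e65b92f96571cc50e3682ec65b1d145f69e2df3d01a27511c510435d23d41a31d3ae45a5784e96c10711b94e55951b670f40d7111b27ba4e72455d025337009c0d22ea43a3d178964c30c5751c74f83533016310342892e148634173330304221842e6c87ed4946ad18f3516026364cc6056bb6191fd1866966691830b312f1e05762470793088077da3c91785ee52a41c1744c62d31594ed2556062272bc7a857333b16836d25a2c61641635073540c03bc6e17ee15c22a5a31713792a715639a4260fc25b5cb0ee14f7823ab1050b72a86a163346272057242101a3ed50837b11a27337e2aa6286511394791ed4753467447416b15a44f318147f30639d3aa4a34051112d97d112577b34040c50b7f211f4b862521572213f0431e50830b209767564e7a21282e57e065d5067552cd4e16df4a45775b614c1c429f3b754f1f4)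
 (.leaf 0x0))
 (.node (.leaf 0x44439c4205425017745c87f94ca2b74726797360515f15af4191770a30154fd5b773c73836a58228527771951c5e143b1ea06f0275dc5cc4f72596a86450170605d42e02246661ae6f40a82ef5db1510162285f92833da0fb5c46f23dd65660a4ee33243e0af56b4631d435e5ea1065b55162b44392741e35f000d2665ac5ab0255051f05207d462a13115a6cc54d5a059f0fd26f7a355337a6d25584502571b740b7910ec3b361a58f4c10585307fd79b5385527847aa78f5845835e67fb2a93a21fb32c20057b2010f41bd10717f1a32c416a14520874074641308f2405bb7310c74bb7b15667bf40f2de73a67f48e55f2377164563743f46165980b16c707871c59b58870140310154e5a166f7cb5142f24ff3154e663961c4645fc0086900ff3211fa26124b1fe3e458900072853577332869561158c36145852d25640617620b7e902a8057df7d27101f32d55a70d03ff7135e268774b6144b31f85b428054a0e05120b92103371d021150c12140434814116210d5a905a2b644b5fb075)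
 (.leaf 0x0)))
 (.node (.node (.leaf 0x51e0ad2292be41563828e73e2b00eb66255a4fa6dd04164722c4dd1421dd37102e1f266c04778c3e25394803e575d71b6583295c23367d75c627c03367b23b38a28a4882361a71c83472942300a776246e1797bc0a13c664d64424224f6296c347c24339b15f62f77e2ac24110277261f1da59135c0051e24381bf79d4f214d12b21f4760d82d030925d4c957f04a66049880612c5fe3bd1550cd73f73b61e4e339426a43026b6c938f07e2c938c3733d53894f033568d04c3276a73822636e805f13d7021fc14059a1586fa37737671255b38b2203eb1ac46b66416736c4a25e76ff1cf6322520b807063c49552f36008d5b81c33b26990dd6b275e60021b7391611a00ca18e3506cf4db2871db03080472e5093cf1353457c82972211991234f96bc0ea02616978d02063450f3dc3877c679a5be32a4140356d378657d2863313de5333840593253244fe27d53e2441ef6f61c073d31b6550727f30c44c254749a6943120e80ae30f49b4671a44362643a517c08b12d30527f1976e619f6d8)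
 (.leaf 0x0))
 (.node (.leaf 0x8a4fc58b46f58129c5f87f84a573205c72c31812042f4717a715d1927994ec2e85280627e324a03b7787e76981dc10f5250f27a003e67017a07d7d83db4746225a67d352412609169d0e162360c54b6ea43c34403233442449e0cc0737c106c5658097663c84f41b17ae4af70c2a20b42507b363b56749d6a47b96410544aa5866d416b7ef4ba42844a59c1120237dd2072033ad2c558a3337ec0407276977356e479375659372d5851eb33a3e64bc4161a668468532d2a558778314e00378064b3ba7482621242b975b7e442774f0db5fa5343b66b94f128f49f23a06126e76a7697686017bd62d2f66ca3cb29171f0493583e17537790046524e46fc79210c26975c2c71c62fd7762701e42b151a28d63077d4b756f68f13445d0921335703983f831c5e93975623555e848b5f37956031987f656a7302dd3497907f44e272a00b5367970d601272443311b01414676004f1f15543e00855e322f40255d1ff66b51d3751b35231b565a05d7b74dc26725e24d4bf7066db4404b037d55141b)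
 (.leaf 0x0)))))

/-- images -/
noncomputable def t23 : Tbl :=
  (.node (.node (.node (.node (.leaf 0x41a4890fd0fc2c42dc70e4c44990ea7a824d0f36da4593310c43880dc1791720f63e11880972163080e422e6d86a90e07f94a12690ed5330b52670d81db10570b4ae0cc74575d7d230f36e5ce0d344d1943ae61055444176b0ef48f24b0c174353b3e078619f02f3cb4bc5486355b90da2d01343166c119011a2b04d246849d0aa7f63997ff6e252f24c4f10a214d0a045c6ae1091a005d24e0998020e75261fc39f2e678e4b725f67c6eb6d200779f3cc3c44176d438d54f16b4f817d0810802bf2de7bd5f300c4078084f32c156b35607438a4883f22cd39705879e7c07a93d10363af4be78512d01158d7074ea16a41d53909b05c3762c34b006e0577e320467a31726b05160943f47004142004b04a32e5223e33614e06b504349504d7f048c6bd64146f55d3bc43930169b0692540343dc7c77cc7ec0bb61e65302c5511a936965177f2770155157a16f86041e032760661201c7971436a43bf18b4e202566f6275810642c95d900e5a607b2d95182b46b108c64c1ed6554ec2890012b6)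
 (.leaf 0x29207937b6fc6243598030984f6800))
 (.node (.leaf 0x3656a11fe34f4fb16f23808328a8013223a207820b0a31501157db7df0035ad0611871764ce2f51b86252cb01642604548d6ca7f12ad4db4644127af7777e77cd56462e0ad3ef1bf7de4e740f5d66611b36c813a58b3733930f847d11639a3ca7e80676df0b95682c75e15ea0916f36786134824ac7620597b80d460c4b27fc7787937603fe4a674f1082371b70de27949a49e0ab1f612149f0f72172af5e004235c78f6f934c7360c342c4df03f3425f40fe07248347e32f1634874b32a13e76e44864c360b47b6ba6477801516cc54b5567395e979804e03c6653905b624468c5a80ac2117be6d04da3fa28f5c45f91e258516009f10645a0f12bc4575b170d1e95c96b35b33cd5023e40cb5962ca10f61d7aa70a5601f94444434420c661f04f28b2687c92962730392a05f130467f62323a16e6de6953ee3522e848e6aa7017923f569f4e17272ce2be4226fe04c7c35cf05f17572f0ff5763000883f81bd4143b44d96a35b24cd5d457d21059440a1d71f007a3d012936364e6a73065f8)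
 (.leaf 0x0)))
 (.node (.node (.leaf 0x71f29762d37c6346af3d610c7306b74e63842755d065a27d7e26642d273a2eb52728442d2c80936e879d1c66711571041fb07e7000fa5f656c00b15d64825736d7ce3f62ed5460b42cf42407017c4e344b0102e74ba16533e0fb05a59f0772c007f42332d45871b2592525dc2b30005a00092b77fd5340ae4977694dc6f21455e528e2a819b29a1e85535045a94814383ed16858676721e2a66496be2fe43b6ac7b75c88092706074622a930233d43e4f700228864522f13c2e978d3436c46dc30b2662f012657b7ea4a039502668e2f355c43a27262b2911816ce7323f10526ee0dd43d0d927e3a06fb26326253c2600901337e96a673115b2ba5822d655a3f30353132b952a7b418d09a0f40a40c237466c2483e222b24546b2432423796cb23f32a6a57101d343374d4f94a31b514466d2332326fa5972860e361569a2461663c82261612283fc62257722273732121f29b21d1a550014b63373d4980e63676ab21314f46740c20f6ff19c5e64f220a72a5c63071f356d05568363a57a65b)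
 (.leaf 0x0))
 (.node (.leaf 0x20e42135080626423149202276a69d61b6434b62ac6861f762126a60e65908e72c7ac2e566074a72047f71e0a67051cf4bd4311ba28015e0f25610e236a7c559a08775f08d7634657fe26e5cb4762404de6204c97d63686c52815883ad0b137a75529803e79c3c547a1921b02f63450445bd45234a0086b02fa09e1f529521442b0e13e640225c23d0194116a24fe33f42775e6f669c03722c6585cd5893bd4301ad6931467646901aa2761cc46a35519a67d6823156f17877882036887b068043567468908f67b0546774b56797ad67567e6735902e25bf01475623424979b64475b39172412446e2ee59b7a54cb6e77dc76c1115e82002f16ec69960a5c10041e402d7dd0283e81484031890065dd15f2992d747961a28766a6f464203d7515bb52363d50a7b22021355ba5725440b72fb21911c77d18a62f4d32fd1072717826297460131d44e48054342246ef6c944002e44918c6f56463116181b239d22d5e24b401d5310c855f6ed5434ad47c65705037f29001e7490211d53c27fa600)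
 (.leaf 0x0))))
 (.node (.node (.node (.leaf 0x3e94fd1bc0952df53d4451f16f049c6ad1002067151f84083b35e70057387421ea4542a57ee7341186541e345f3380201a71c23475980d756e1d930a40937860362623b5c038650e6e056257c68d3b035857e52b72e2e33605d31c31de53f5364d01be4151fd5576dd7d34e54a21b623632c4ca6175a16b81af54969477435368f02a13e1df78921c5be5e334911709c0bc74819d20d2a768a3aa37d3a536231c0ca3a36b93b20b018f35124f61c01763064d0e84e918639b77912574426f3395ef3e50822cc1405a40ec1647124e841c17438b0eb1715254fa43235452e08406016929e52122a2c61784847a722745d64a6db2d815c25a51d1593b82e115658e10a15356a4774f02125a50a172621a14a32364f76f6922ab23501a10379517b5bc1a813d28556f4c81393f03b17cb6390b325e5417da55559d79406555934155e40510e72927c18366634051049b5fc5ab5b77586323980af1191e51a14c24ef11455053065d38044a1285162f836415409d4a462c45b0d62e01423b771a1f4)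
 (.leaf 0x0))
 (.node (.leaf 0x5ff5fe38512059c3704604007112db73c48a07c5f24375f017f3757705aa53a4b847265c1ee20c2aa33c1a36144b94965df73b64b2b85db3d400f78c34d4cc57340e1c47d577b2f241e0cd6985cc6cd72b45329333a2085744613b95a76561d26701a46b413f63f6380b635e11e46c50c5064514104565b05af7d44eb5ac11f5ec2a24695c200d14e17a7133a81b12b52c259e12f5fb6636d535f1dc23044c36b40b7913c931f67258f1550637a24c77146976c37d729d45e3893822580123f97bb1c940d1cd27b2017083fb2234197195c55d56373da79013b1da2052da07615271c4bb3ba5663b64d438e1ce6d944660f12a03b2747e625612c7e11bb4741300c72a43c002b1130853947ba7214753341ae0b851b2d134663660d7f21325401c13721fa2610bf5eb05e7965031c07c12b10db3926111120a516c52d3f41c82513ac3a42ea09617051f63e0481673dd52451e15a51954774b51c00a71d10d0247c651330578b1223371d030d5b530e63c79a7357ef5b47b62a353744f7a321b)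
 (.leaf 0x0)))
 (.node (.node (.leaf 0x3ff4a77bc2255784635804163102d342852c25507126c1384d142f29f3cf3713961ff6504806a817e44e0472470e90be35b3de5200337845717d13363d72f97c25da31970f06a4063ec70c45008a0ba4c05922293ab3126bb0893c36023c15520183be69603a3bb5675c31581025657044131ef1911371cb0680c96c25293c71993a95a23a77b51975281934f43a126509475761639c1854c10a811b06f3ea27854e4c553266846d38f5630867f81730735840ee3871d15fd2f471758338111060837e1982fc8076c02411d637705b5ee24a4c653e3eb5fa3200ce2d536c5956d70296c621577a4ff10b4041960461c55995b835d4943df7548041ca35707568b16d1ab42e18e6fd4fc34e5d74917996b21a23331dd5456b67c828248b12b1236a02c528c5e433b5c71801e150f3d833554a34830c0f03304850492bd1b471823e32977501f70331b3241494f522036f5917cf72819532575a3d33180530b268776e2533c66193f70cf50b50d33227f1d83030e520740151243630928d038418)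
 (.leaf 0x0))
 (.node (.leaf 0xa76cf2b24ab7256010df38c7760a97f57ca7f35424dd0405071e777103078127a25d4bf4d655b7167ab0562ef5587a44ed4cf65265f4ee1317667d85876c75d25ae1b90d03d974731e2d44d50311367f443c3440325146d67c441f3d553506c77246607d3fd57f54d7ae4af2945053a62507b363b77e6814d87b96766e97e444806b0f51627526627e050158c02375908b06d2e46bc66b50934b47101b53814112e4a94295935704930922835d851173e1a66846850bd0663db78362a7eb4780277b163177c5d13661844aa4d77f73281ac74c7bf7ed5ed14731472365e0c56f72ae76829c7d97506916d14b174e4a86d369e0d175c66931a7a011d39e66e6bf35a7537a66407654a576123977351a6e660519e7d06280d21820c01eb70972d72278a2185f55de2ec4731ec2214905081e670226d25b2f741b1c77406ea5ca20912731d42514c7fb66776d73f54c6e52ff6e35175692bb10157532b3837e51f258a5a31775f723c3d20f94553ce0d54477415790627066e13b532673342a2dd)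
 (.leaf 0x0)))))

/-- images under the inverse -/
noncomputable def u23 : Tbl :=
  (.node (.node (.node (.node (.leaf 0x41a4890fd0fc2c42dc70e4c44990ea7a824d0f36da4593310c43880dc1791720f63e11880972163080e422e6d86a90e07f94a12690ed5330b52670d81db10570b4ae0cc74575d7d230f36e5ce0d344d1943ae61055444176b0ef48f24b0c174353b3e078619f02f3cb4bc5486355b90da2d01343166c119011a2b04d246849d0aa7f63997ff6e252f24c4f10a214d0a045c6ae1091a005d24e0998020e75261fc39f2e678e4b725f67c6eb6d200779f3cc3c44176d438d54f16b4f817d0810802bf2de7bd5f300c4078084f32c156b35607438a4883f22cd39705879e7c07a93d10363af4be78512d01158d7074ea16a41d53909b05c3762c34b006e0577e320467a31726b05160943f47004142004b04a32e5223e33614e06b504349504d7f048c6bd64146f55d3bc43930169b0692540343dc7c77cc7ec0bb61e65302c5511a936965177f2770155157a16f86041e032760661201c7971436a43bf18b4e202566f6275810642c95d900e5a607b2d95182b46b108c64c1ed6554ec2890012b6)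
 (.leaf 0x29207937b6fc6243598030984f6800))
 (.node (.leaf 0x3656a11fe34f4fb16f23808328a8013223a207820b0a31501157db7df0035ad0611871764ce2f51b86252cb01642604548d6ca7f12ad4db4644127af7777e77cd56462e0ad3ef1bf7de4e740f5d66611b36c813a58b3733930f847d11639a3ca7e80676df0b95682c75e15ea0916f36786134824ac7620597b80d460c4b27fc7787937603fe4a674f1082371b70de27949a49e0ab1f612149f0f72172af5e004235c78f6f934c7360c342c4df03f3425f40fe07248347e32f1634874b32a13e76e44864c360b47b6ba6477801516cc54b5567395e979804e03c6653905b624468c5a80ac2117be6d04da3fa28f5c45f91e258516009f10645a0f12bc4575b170d1e95c96b35b33cd5023e40cb5962ca10f61d7aa70a5601f94444434420c661f04f28b2687c92962730392a05f130467f62323a16e6de6953ee3522e848e6aa7017923f569f4e17272ce2be4226fe04c7c35cf05f17572f0ff5763000883f81bd4143b44d96a35b24cd5d457d21059440a1d71f007a3d012936364e6a73065f8)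
 (.leaf 0x0)))
 (.node (.node (.leaf 0x71f29762d37c6346af3d610c7306b74e63842755d065a27d7e26642d273a2eb52728442d2c80936e879d1c66711571041fb07e7000fa5f656c00b15d64825736d7ce3f62ed5460b42cf42407017c4e344b0102e74ba16533e0fb05a59f0772c007f42332d45871b2592525dc2b30005a00092b77fd5340ae4977694dc6f21455e528e2a819b29a1e85535045a94814383ed16858676721e2a66496be2fe43b6ac7b75c88092706074622a930233d43e4f700228864522f13c2e978d3436c46dc30b2662f012657b7ea4a039502668e2f355c43a27262b2911816ce7323f10526ee0dd43d0d927e3a06fb26326253c2600901337e96a673115b2ba5822d655a3f30353132b952a7b418d09a0f40a40c237466c2483e222b24546b2432423796cb23f32a6a57101d343374d4f94a31b514466d2332326fa5972860e361569a2461663c82261612283fc62257722273732121f29b21d1a550014b63373d4980e63676ab21314f46740c20f6ff19c5e64f220a72a5c63071f356d05568363a57a65b)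
 (.leaf 0x0))
 (.node (.leaf 0x20e42135080626423149202276a69d61b6434b62ac6861f762126a60e65908e72c7ac2e566074a72047f71e0a67051cf4bd4311ba28015e0f25610e236a7c559a08775f08d7634657fe26e5cb4762404de6204c97d63686c52815883ad0b137a75529803e79c3c547a1921b02f63450445bd45234a0086b02fa09e1f529521442b0e13e640225c23d0194116a24fe33f42775e6f669c03722c6585cd5893bd4301ad6931467646901aa2761cc46a35519a67d6823156f17877882036887b068043567468908f67b0546774b56797ad67567e6735902e25bf01475623424979b64475b39172412446e2ee59b7a54cb6e77dc76c1115e82002f16ec69960a5c10041e402d7dd0283e81484031890065dd15f2992d747961a28766a6f464203d7515bb52363d50a7b22021355ba5725440b72fb21911c77d18a62f4d32fd1072717826297460131d44e48054342246ef6c944002e44918c6f56463116181b239d22d5e24b401d5310c855f6ed5434ad47c65705037f29001e7490211d53c27fa600)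
 (.leaf 0x0))))
 (.node (.node (.node (.leaf 0x3e94fd1bc0952df53d4451f16f049c6ad1002067151f84083b35e70057387421ea4542a57ee7341186541e345f3380201a71c23475980d756e1d930a40937860362623b5c038650e6e056257c68d3b035857e52b72e2e33605d31c31de53f5364d01be4151fd5576dd7d34e54a21b623632c4ca6175a16b81af54969477435368f02a13e1df78921c5be5e334911709c0bc74819d20d2a768a3aa37d3a536231c0ca3a36b93b20b018f35124f61c01763064d0e84e918639b77912574426f3395ef3e50822cc1405a40ec1647124e841c17438b0eb1715254fa43235452e08406016929e52122a2c61784847a722745d64a6db2d815c25a51d1593b82e115658e10a15356a4774f02125a50a172621a14a32364f76f6922ab23501a10379517b5bc1a813d28556f4c81393f03b17cb6390b325e5417da55559d79406555934155e40510e72927c18366634051049b5fc5ab5b77586323980af1191e51a14c24ef11455053065d38044a1285162f836415409d4a462c45b0d62e01423b771a1f4)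
 (.leaf 0x0))
 (.node (.leaf 0x5ff5fe38512059c3704604007112db73c48a07c5f24375f017f3757705aa53a4b847265c1ee20c2aa33c1a36144b94965df73b64b2b85db3d400f78c34d4cc57340e1c47d577b2f241e0cd6985cc6cd72b45329333a2085744613b95a76561d26701a46b413f63f6380b635e11e46c50c5064514104565b05af7d44eb5ac11f5ec2a24695c200d14e17a7133a81b12b52c259e12f5fb6636d535f1dc23044c36b40b7913c931f67258f1550637a24c77146976c37d729d45e3893822580123f97bb1c940d1cd27b2017083fb2234197195c55d56373da79013b1da2052da07615271c4bb3ba5663b64d438e1ce6d944660f12a03b2747e625612c7e11bb4741300c72a43c002b1130853947ba7214753341ae0b851b2d134663660d7f21325401c13721fa2610bf5eb05e7965031c07c12b10db3926111120a516c52d3f41c82513ac3a42ea09617051f63e0481673dd52451e15a51954774b51c00a71d10d0247c651330578b1223371d030d5b530e63c79a7357ef5b47b62a353744f7a321b)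
 (.leaf 0x0)))
 (.node (.node (.leaf 0x3ff4a77bc2255784635804163102d342852c25507126c1384d142f29f3cf3713961ff6504806a817e44e0472470e90be35b3de5200337845717d13363d72f97c25da31970f06a4063ec70c45008a0ba4c05922293ab3126bb0893c36023c15520183be69603a3bb5675c31581025657044131ef1911371cb0680c96c25293c71993a95a23a77b51975281934f43a126509475761639c1854c10a811b06f3ea27854e4c553266846d38f5630867f81730735840ee3871d15fd2f471758338111060837e1982fc8076c02411d637705b5ee24a4c653e3eb5fa3200ce2d536c5956d70296c621577a4ff10b4041960461c55995b835d4943df7548041ca35707568b16d1ab42e18e6fd4fc34e5d74917996b21a23331dd5456b67c828248b12b1236a02c528c5e433b5c71801e150f3d833554a34830c0f03304850492bd1b471823e32977501f70331b3241494f522036f5917cf72819532575a3d33180530b268776e2533c66193f70cf50b50d33227f1d83030e520740151243630928d038418)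
 (.leaf 0x0))
 (.node (.leaf 0xa76cf2b24ab7256010df38c7760a97f57ca7f35424dd0405071e777103078127a25d4bf4d655b7167ab0562ef5587a44ed4cf65265f4ee1317667d85876c75d25ae1b90d03d974731e2d44d50311367f443c3440325146d67c441f3d553506c77246607d3fd57f54d7ae4af2945053a62507b363b77e6814d87b96766e97e444806b0f51627526627e050158c02375908b06d2e46bc66b50934b47101b53814112e4a94295935704930922835d851173e1a66846850bd0663db78362a7eb4780277b163177c5d13661844aa4d77f73281ac74c7bf7ed5ed14731472365e0c56f72ae76829c7d97506916d14b174e4a86d369e0d175c66931a7a011d39e66e6bf35a7537a66407654a576123977351a6e660519e7d06280d21820c01eb70972d72278a2185f55de2ec4731ec2214905081e670226d25b2f741b1c77406ea5ca20912731d42514c7fb66776d73f54c6e52ff6e35175692bb10157532b3837e51f258a5a31775f723c3d20f94553ce0d54477415790627066e13b532673342a2dd)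
 (.leaf 0x0)))))

/-- images -/
noncomputable def t24 : Tbl :=
  (.node (.node (.node (.node (.leaf 0x1c12e759e1535742dc65a6ec2f333d16b7080f34cf22d32a3174f00dc3c92d328c75d6191150e617c0a022e3002d45135f82847540ed32803f70a3a734c14c4dc4417c368f3e152430f6640a841f0cb42e1bf6be71c4ae26e05345c53b2cf45d24b71b32d30102f76278b4ff21a1d448c3a67444c21bb6ad13f3f74a74ac7b00577320cd08a6a33614a07700a23ab0e448f09e6df35370d6aa0994074ef80537c4980641eb7474d32056eb5996742070a76444d97a92c91017a81a107923369c2bf56376673607b80208213066d5bb21b0743d53d36dd10b73b58d20306c6d41a76784386532a53060930584bf65e5736083e44557f53762a37030630aa7e72046e90c43915f26096e304e3f15fd4573a16d31f348052f63a6f011936226c4710da65f7ad7fc71615f5b219f01d4b548519d33603260c7990bb3964be02c7012ea6ff13a64b5e45ec28002302202118038416e03724872701a7af47c4cc72b5aa54c68e7fb2e638d2592727d400c1274b35b313267e1a513731a7eb19c001503)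
 (.leaf 0x46617d1407570966b221d07a4f6800))
 (.node (.leaf 0xb814953a6cf2882556a01173d480127d57f5555295ed0ee09767052578126676c1fd52a6b82d14e511d2785ca15420248d76342f0d534e5430886a44277e362340f0903fe22c3ae0f21b05640174b47111936517fd38b26a6594c30b215546e06202d1095114bb7525e15b77d04b60364cb00a4683cb3264af0c67cc0ac46f7e479371f0ad4a67764a455e5952e90a43147c468149c50b76e2750942af43b1963b25856f91db5f309f4464df0b52216792c831948368a0351634875182d204779419a47d01847b6ba3f07805cb5a27cb6c735573c0404704ab4c06c91063201e91f04b250d8096b360d63876f5c45c83b078f0c00c35b61be61516c04b27405d68c2286d02b423044b53944d25744f7e060e58626748e2145ff4434420d43b571e6b443d43c49613e4100685f127f5617cd76d6066de5324dd0ca7ea56024e5517566624d710a7976d63fc4222353850cc6f437f41c2dd53f17f6d841273e5783301da4176e24394d45d432c51040b6804095a80981c840563c11338312d7f9)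
 (.leaf 0x0)))
 (.node (.node (.leaf 0x7603437651fc3382fa23b7557306915463270f71ae70e32269836e2a15622eb02a4a127a0fe0113803ad7512e22a71c457e38e41b0fa2b72407297ee29b5961670e10eb4814e67b50c17c53643083955020864897a62c66bc5c550459f2346c507f22578652e3e05d93665dc2db5375a04515f658b77331049776970b5c35722853f914a2e16a606659b05a5052ed3af1421687aa6012d725c2996102825e029570c5f97be74e2901475806e60ea5bd5da20d4fb5d77182aa0de33a2976890244365ad4f57d157b2e824c4e333c6274994561a800e62b76112f0c57f60416684c535a2684474eb6601d838177c26126062e74152829a56a22a00f5e644c3f44fa32f69477a17625060242b5792790bf55b3e801c3e522b1af36f3be3c31582da23f3311de5232f97231e433f12a70f4212c108123237845032b0e30f14d124625a7bc4533545c92be7d510722248b53e3a964880364c0750b714831c39f2166324451d914f30d12220f3692895823ac20a72a3da08b52208f05506d4e02011cd)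
 (.leaf 0x0))
 (.node (.leaf 0x2914435039e30a1d64926f876a7cf6f541e6f33b96f104462139361d0f808e7f40541103a028d14612e04f4116db36809d4310715156e17de67f4185e742437a06b04935f6ca4524fc76b1513a856c6d146d3a34741cf2c067d55279d55759a10c0c87dc2c564d47a7ed4e77643451f743e46580454163d6af6ae0b06ac1f909a7ce78c7172a61c24d80a66a23234f977735831e0806123ef3df2ef53839b3922536187202f65400d20131d145473948628168854768668568479e68249d40a6d90076c456d3d77ac48a0695f464111408c67361a6714ee72179207765058a3c477926b72477b3ca0ce55342861326503e06112873857c0f94c435b5c065675a74d0677a04c866c6335506bb21c0273bc64921e13859034d0895cf6426761c656b7106b040463b04534646314561c14b1e164f2157486053bb25f75057727114e3c156f2765b97585264d55d26ef3907043ea6ed63661b6720e86931b212c45951c66169b61129855f4494640313bf1d205005f6074326306041e624f29c357)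
 (.leaf 0x0))))
 (.node (.node (.node (.leaf 0x1f25eb4e92fc1c91fa6ab71d6b51f61901f40481ff51746959136a3b15e80925df46a78515d6031e52395b01cb6343393d123d3cf5584914132132641d76fa7340b63d660a68d1d06c673a2003861e275e1fb4063496403602e035d6a50ff7280c945a3fb1870b13f27d31b836b1b63d257d5f761754d4ce2452f23135fa1a074552727306a1a600633271972e0831ab03877d03400215747e12b70230949573d3524c977135c1f518f18e3c25445d67493c53111bc1863bd75b12513459d0204193e28080e537b1315921643752511751743733f61597df3f301e1614580f55d533b29e2d515b1651784847ef16d74303a7051e715c16671317124119b1564c14e10fc7316cd38821262a3c70d66352a84fe21928f6e56376fe14329f7358070af43a37e5e574602813964700554b54518270900817a07826f6e440161619923712965d00b3d91835d112321030e5425ab5ea4e436773f5bc0431184f83160e767540358c10e6e87a41115b46bf0704264bd10822346c7265d33ed102085100)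
 (.leaf 0x0))
 (.node (.leaf 0x44439c04c7f27a31ac2930df1b32b35e96774900514375af5767124f10251fe11e5f51ec6d725813c0265755194b92961ea39777f2b85cc28a2ba3e628718b16a40e1046221245496433997e25db4774e222646078d5712c44612ac5205c16577db30c28b11a0763fa6265b84b845b50c10d00903955c1e35f05a627e5ac11f0157b64083dd5ae7827da51d4767ba2b52c20fd1815012a46c008d7e13cd2d64a25945931791ef64658f39a06e1122b266b7963c03db44849338938220c72528e4f42df1b465b27b57a24d41562c5ef5e30fb0602ab5c672d6283b467c6cb63f25b55456877e5667724cd07e2ec43542c60f4a37e55b124a52c39d1dc6c17d64f35696636c342a64e71a3941b10141367c65d03656872f513518c4da1206b169041a22053d53c0c24fd44e6972b631d7c174c7754305317a20462bc52d55a3d04e84f225d1a96244ed0d023c20636d5c27d23ff5a361431551a5e24821f15066dc3340e03054bc40c50f50e4675b549b3633337957a75162a22c30002ca59c356)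
 (.leaf 0x0)))
 (.node (.node (.leaf 0x51e4d23c84231bd5ba2a978a0ae1727a525616f1ba04d47969a7f11033473eb61e7152493e35d824705e3e717e0d12bb6993295a73d85872081263dc67b1d30734f70721b51df52b1dd7b75977ff4b16650ec3fd14d31218966a24218d62958860b24318564a62f7b16f23793b77bf44056e31f4941ed45f2a04d02e420b0a134121f6cc0d80b43037e96c87bb04a6e72176fc5595fe69658e5ce7225de02e2cb54e6ee69505262038f2de0107f84c67c25841503351cc42001f4025832632e541d13d73309517b6d53b823137705b1777e61733213717742442ee52136c1b71ee20e6e011c2b95482cd50a0420a51c56d235e1c319165826934a69e60050047322709c1943516fd7fe4db6450d77ec3591c779a3ec6396b63442fe7373aa34023879c0f62771692831e02fb3370333875145091a423e41425475f0bd40d22f0f03de0db2f44b031b3246a12f037246b3b369d5362183250044887f30ef11651b49f1ad3c61882b00cf1212115be3046fb1972cc79f06551230b3a574a0bc0e2)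
 (.leaf 0x0))
 (.node (.leaf 0x3cc34f4c703c01276740038c74f26d05c6ea3185fc3ee7981622d86b934b00342d3a470705637455d4aa4d65cd59844a1706da7596bd5bf5a47bd7d878455622400d1b951f27c4b76f66a94344ad47572c7c97c87c754a2ce49e0d338a5357c03b62927d92293a25a17b97b83ce5a92d07b47b37b23ba0ab0197ae03d67a77829d0870845072c73f510f5fb5307a16523076836c233e7143480307f042558950847f4a966e79174045e7425c76a80b93f87897887872bd1e87d77835a54ec4785dd56719e2626662526697ab69f4a55333702b15651920a346249a4334ea6ce6f72ae7687fa07d2fd6b74de0ba2702ff32e1ca0e97531846557dd6258064292f80dd75c4ba2e362d7f729165453474b30218a63109113b1aa0b316078e25e79011b41619547206f1ce68b65c34207c1411d537d0a91522f77001a25707ca0162092d91c001b10558166723a39866f6924a843f1f80c70be54f1a32866a703b3e979b15a5ee4ca63e2362f109b2942ad0d91330f47e870615e61f05919802b72f)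
 (.leaf 0x0)))))

/-- images under the inverse -/
noncomputable def u24 : Tbl :=
  (.node (.node (.node (.node (.leaf 0x1c12e759e1535742dc65a6ec2f333d16b7080f34cf22d32a3174f00dc3c92d328c75d6191150e617c0a022e3002d45135f82847540ed32803f70a3a734c14c4dc4417c368f3e152430f6640a841f0cb42e1bf6be71c4ae26e05345c53b2cf45d24b71b32d30102f76278b4ff21a1d448c3a67444c21bb6ad13f3f74a74ac7b00577320cd08a6a33614a07700a23ab0e448f09e6df35370d6aa0994074ef80537c4980641eb7474d32056eb5996742070a76444d97a92c91017a81a107923369c2bf56376673607b80208213066d5bb21b0743d53d36dd10b73b58d20306c6d41a76784386532a53060930584bf65e5736083e44557f53762a37030630aa7e72046e90c43915f26096e304e3f15fd4573a16d31f348052f63a6f011936226c4710da65f7ad7fc71615f5b219f01d4b548519d33603260c7990bb3964be02c7012ea6ff13a64b5e45ec28002302202118038416e03724872701a7af47c4cc72b5aa54c68e7fb2e638d2592727d400c1274b35b313267e1a513731a7eb19c001503)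
 (.leaf 0x46617d1407570966b221d07a4f6800))
 (.node (.leaf 0xb814953a6cf2882556a01173d480127d57f5555295ed0ee09767052578126676c1fd52a6b82d14e511d2785ca15420248d76342f0d534e5430886a44277e362340f0903fe22c3ae0f21b05640174b47111936517fd38b26a6594c30b215546e06202d1095114bb7525e15b77d04b60364cb00a4683cb3264af0c67cc0ac46f7e479371f0ad4a67764a455e5952e90a43147c468149c50b76e2750942af43b1963b25856f91db5f309f4464df0b52216792c831948368a0351634875182d204779419a47d01847b6ba3f07805cb5a27cb6c735573c0404704ab4c06c91063201e91f04b250d8096b360d63876f5c45c83b078f0c00c35b61be61516c04b27405d68c2286d02b423044b53944d25744f7e060e58626748e2145ff4434420d43b571e6b443d43c49613e4100685f127f5617cd76d6066de5324dd0ca7ea56024e5517566624d710a7976d63fc4222353850cc6f437f41c2dd53f17f6d841273e5783301da4176e24394d45d432c51040b6804095a80981c840563c11338312d7f9)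
 (.leaf 0x0)))
 (.node (.node (.leaf 0x7603437651fc3382fa23b7557306915463270f71ae70e32269836e2a15622eb02a4a127a0fe0113803ad7512e22a71c457e38e41b0fa2b72407297ee29b5961670e10eb4814e67b50c17c53643083955020864897a62c66bc5c550459f2346c507f22578652e3e05d93665dc2db5375a04515f658b77331049776970b5c35722853f914a2e16a606659b05a5052ed3af1421687aa6012d725c2996102825e029570c5f97be74e2901475806e60ea5bd5da20d4fb5d77182aa0de33a2976890244365ad4f57d157b2e824c4e333c6274994561a800e62b76112f0c57f60416684c535a2684474eb6601d838177c26126062e74152829a56a22a00f5e644c3f44fa32f69477a17625060242b5792790bf55b3e801c3e522b1af36f3be3c31582da23f3311de5232f97231e433f12a70f4212c108123237845032b0e30f14d124625a7bc4533545c92be7d510722248b53e3a964880364c0750b714831c39f2166324451d914f30d12220f3692895823ac20a72a3da08b52208f05506d4e02011cd)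
 (.leaf 0x0))
 (.node (.leaf 0x2914435039e30a1d64926f876a7cf6f541e6f33b96f104462139361d0f808e7f40541103a028d14612e04f4116db36809d4310715156e17de67f4185e742437a06b04935f6ca4524fc76b1513a856c6d146d3a34741cf2c067d55279d55759a10c0c87dc2c564d47a7ed4e77643451f743e46580454163d6af6ae0b06ac1f909a7ce78c7172a61c24d80a66a23234f977735831e0806123ef3df2ef53839b3922536187202f65400d20131d145473948628168854768668568479e68249d40a6d90076c456d3d77ac48a0695f464111408c67361a6714ee72179207765058a3c477926b72477b3ca0ce55342861326503e06112873857c0f94c435b5c065675a74d0677a04c866c6335506bb21c0273bc64921e13859034d0895cf6426761c656b7106b040463b04534646314561c14b1e164f2157486053bb25f75057727114e3c156f2765b97585264d55d26ef3907043ea6ed63661b6720e86931b212c45951c66169b61129855f4494640313bf1d205005f6074326306041e624f29c357)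
 (.leaf 0x0))))
 (.node (.node (.node (.leaf 0x1f25eb4e92fc1c91fa6ab71d6b51f61901f40481ff51746959136a3b15e80925df46a78515d6031e52395b01cb6343393d123d3cf5584914132132641d76fa7340b63d660a68d1d06c673a2003861e275e1fb4063496403602e035d6a50ff7280c945a3fb1870b13f27d31b836b1b63d257d5f761754d4ce2452f23135fa1a074552727306a1a600633271972e0831ab03877d03400215747e12b70230949573d3524c977135c1f518f18e3c25445d67493c53111bc1863bd75b12513459d0204193e28080e537b1315921643752511751743733f61597df3f301e1614580f55d533b29e2d515b1651784847ef16d74303a7051e715c16671317124119b1564c14e10fc7316cd38821262a3c70d66352a84fe21928f6e56376fe14329f7358070af43a37e5e574602813964700554b54518270900817a07826f6e440161619923712965d00b3d91835d112321030e5425ab5ea4e436773f5bc0431184f83160e767540358c10e6e87a41115b46bf0704264bd10822346c7265d33ed102085100)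
 (.leaf 0x0))
 (.node (.leaf 0x44439c04c7f27a31ac2930df1b32b35e96774900514375af5767124f10251fe11e5f51ec6d725813c0265755194b92961ea39777f2b85cc28a2ba3e628718b16a40e1046221245496433997e25db4774e222646078d5712c44612ac5205c16577db30c28b11a0763fa6265b84b845b50c10d00903955c1e35f05a627e5ac11f0157b64083dd5ae7827da51d4767ba2b52c20fd1815012a46c008d7e13cd2d64a25945931791ef64658f39a06e1122b266b7963c03db44849338938220c72528e4f42df1b465b27b57a24d41562c5ef5e30fb0602ab5c672d6283b467c6cb63f25b55456877e5667724cd07e2ec43542c60f4a37e55b124a52c39d1dc6c17d64f35696636c342a64e71a3941b10141367c65d03656872f513518c4da1206b169041a22053d53c0c24fd44e6972b631d7c174c7754305317a20462bc52d55a3d04e84f225d1a96244ed0d023c20636d5c27d23ff5a361431551a5e24821f15066dc3340e03054bc40c50f50e4675b549b3633337957a75162a22c30002ca59c356)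
 (.leaf 0x0)))
 (.node (.node (.leaf 0x51e4d23c84231bd5ba2a978a0ae1727a525616f1ba04d47969a7f11033473eb61e7152493e35d824705e3e717e0d12bb6993295a73d85872081263dc67b1d30734f70721b51df52b1dd7b75977ff4b16650ec3fd14d31218966a24218d62958860b24318564a62f7b16f23793b77bf44056e31f4941ed45f2a04d02e420b0a134121f6cc0d80b43037e96c87bb04a6e72176fc5595fe69658e5ce7225de02e2cb54e6ee69505262038f2de0107f84c67c25841503351cc42001f4025832632e541d13d73309517b6d53b823137705b1777e61733213717742442ee52136c1b71ee20e6e011c2b95482cd50a0420a51c56d235e1c319165826934a69e60050047322709c1943516fd7fe4db6450d77ec3591c779a3ec6396b63442fe7373aa34023879c0f62771692831e02fb3370333875145091a423e41425475f0bd40d22f0f03de0db2f44b031b3246a12f037246b3b369d5362183250044887f30ef11651b49f1ad3c61882b00cf1212115be3046fb1972cc79f06551230b3a574a0bc0e2)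
 (.leaf 0x0))
 (.node (.leaf 0x3cc34f4c703c01276740038c74f26d05c6ea3185fc3ee7981622d86b934b00342d3a470705637455d4aa4d65cd59844a1706da7596bd5bf5a47bd7d878455622400d1b951f27c4b76f66a94344ad47572c7c97c87c754a2ce49e0d338a5357c03b62927d92293a25a17b97b83ce5a92d07b47b37b23ba0ab0197ae03d67a77829d0870845072c73f510f5fb5307a16523076836c233e7143480307f042558950847f4a966e79174045e7425c76a80b93f87897887872bd1e87d77835a54ec4785dd56719e2626662526697ab69f4a55333702b15651920a346249a4334ea6ce6f72ae7687fa07d2fd6b74de0ba2702ff32e1ca0e97531846557dd6258064292f80dd75c4ba2e362d7f729165453474b30218a63109113b1aa0b316078e25e79011b41619547206f1ce68b65c34207c1411d537d0a91522f77001a25707ca0162092d91c001b10558166723a39866f6924a843f1f80c70be54f1a32866a703b3e979b15a5ee4ca63e2362f109b2942ad0d91330f47e870615e61f05919802b72f)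
 (.leaf 0x0)))))

/-- the tables -/
noncomputable def Ts : List Tbl :=
  [t0, t1, t2, t3, t4, t5, t6, t7, t8, t9, t10, t11, t12, t13, t14, t15, t16, t17, t18, t19, t20, t21, t22, t23, t24]

/-- the inverse tables -/
noncomputable def Us : List Tbl :=
  [u0, u1, u2, u3, u4, u5, u6, u7, u8, u9, u10, u11, u12, u13, u14, u15, u16, u17, u18, u19, u20, u21, u22, u23, u24]

/-- words of the elements -/
def ws : List (List ℕ) :=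
  [[0],
   [1],
   [2],
   [3],
   [4],
   [5],
   [6],
   [6, 5, 3, 2, 3, 6, 5, 2, 3, 2, 0, 1, 4, 3, 2, 3, 4, 5, 3, 2, 1, 6],
   [5, 3, 2, 3, 6, 1, 2, 3, 2, 3, 5, 4, 1, 0, 3, 2, 1, 0, 3, 6, 5, 3, 2, 3, 2, 1, 6, 3],
   [5, 2, 3, 6, 5, 2, 3, 2, 3, 1, 2, 1, 3, 2, 1, 3, 2, 3, 2, 5, 6, 3, 2, 5],
   [5, 4, 3, 6, 1, 2, 3, 5, 2, 3, 1, 2, 3, 2, 5, 3, 2, 1, 4, 3, 2, 3, 2, 1, 0, 6, 3, 4],
   [6, 3, 1, 2, 3, 5, 4, 3, 2, 3, 0, 1, 0, 2, 5, 3, 6, 5, 3, 2, 1, 6, 3, 2, 3, 4, 5],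
   [2, 3, 5, 6, 3, 2, 3, 0, 1, 0, 2, 1, 5, 3, 6, 5, 3, 2, 3, 2, 4],
   [3, 5, 6, 3, 0, 1, 2, 3, 6, 4, 1, 2, 0, 3, 2, 1, 3, 2, 3, 5, 3, 2, 1, 3, 4, 6],
   [5, 3, 1, 2, 3, 6, 2, 3, 5, 0, 1, 2, 3, 2, 3, 2, 1, 4, 3, 2, 5, 3, 2, 1, 3, 5],
   [3, 2, 3, 1, 2, 3, 5, 4, 0, 1, 0, 2, 3, 2, 1, 5, 3, 2, 1, 3, 2, 3],
   [3, 2, 3, 6, 2, 3, 5, 0, 1, 2, 3, 2, 3, 2, 1, 0, 5, 3, 2, 6, 3, 2, 3],
   [1, 0, 1, 0, 6, 3, 4, 5, 3, 6],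
   [5, 2, 3, 6, 3, 2, 3, 5, 1, 2, 1, 3, 2, 3, 6, 3, 2, 1, 3, 2, 3, 2, 1],
   [2, 3, 6, 2, 3, 1, 2, 3, 2, 0, 1, 2, 3, 2, 1, 4, 6, 3, 2, 3],
   [2, 3, 6, 4, 3, 2, 3, 1, 2, 3, 2, 1, 2, 3, 2, 4, 3, 5, 3, 6, 3, 2, 3, 4, 3],
   [3, 6, 2, 3, 0, 1, 2, 3, 5, 4, 1, 2, 3, 2, 1, 5, 3, 2, 4, 3, 2, 6, 3],
   [5, 0, 1, 2, 3, 2, 3, 6, 4, 1, 2, 0, 3, 2, 1, 6, 3, 2, 3, 5, 3, 2, 1, 0],
   [1, 2, 3, 2, 3, 6, 0, 1, 2, 3, 2, 1, 4, 6, 3, 2, 3, 2, 1],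
   [2, 3, 5, 6, 3, 4, 2, 3, 5, 0, 1, 2, 0, 3, 2, 1, 4, 5, 3, 2, 4, 3, 6, 5, 3, 2]]

/-- the outer permutation -/
noncomputable def piT : Tbl :=
  (.node (.node (.node (.node (.leaf 0x2db79e0e36140e82ee2d917804b6ee2e22a72c84e261a7ca5fd1634bb1237d237c2be7b67ff5ae5e866d3114520334c61126e17c938241329c2990fb6272e84066764e856c14831e63280607c7042377405016ad7611254cf2af32178c45362439a00949b0d30136416d177610926d14f10c7860525396800111d12bc33f3701132921765f374a2162753630d05830f636e1db7d306d5052466fa6027e75761725243aa2741947576c521c40704127a0f17122fa12262d0ea60817c44e4390f93650be43d0253451d312830a0145e63c156d6dc6cb57c70b5486d413634a31615d5f164b1a175c19a19933e0de7ee1376874ad5a06e47a40127d53a856869645f7137c85d658f25420833408255b2880266300441581f53686bb2ed1f613b7c32f463e35534437540c7ec2df03a05748731965669342119f3052704344310a001522504279d3ff6174be61f29769c4850c57280537623c752e4464e63490d15135bf4676bd6b64cb76738d0f715c6be65b77373e7853d914a7a6547580276000)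
 (.leaf 0x51b4155a27f33530795112b201e3f8))
 (.node (.leaf 0x6526e71ce69a0d50db07413138f4f90d260670d04650c4a172442f7fc62852c6236896642a156668662c11659a36b61d3b90802186162956e943304f5457ef0711e86c370000b4a650b50d2ab5603975a856a62237242661536c4df7fa03031c1d72194e176062605c1525236606121332b97ed7b54bc48b1872965006e61fb4d73184401937f05fc58b2ef5a938c1e37bc4292047b711b47a39e4b71597db0e07cc4933091be5ba74711158e68c6357b139432015049c6490bb03c12d0bd6733e50cf0e236712b4f50c313e29a02b1325161e27892e16ba1e761e73d63662f46b2000d617b52971c5f608d0ee2c253c6530958051307f422d1ed09728514e70363f7224570737d752a2f90c76ff12c31405d1f722053b5786345fb0a40da3d81473fe5734720762bd3f12a23df2a92e06db0ba7da6af4894ff4e522818649d2691f92ff0633ca59e5f95a304e4095c706c3b44561d93c255357109d26628614033854645126456562e7273f97832e47be6e20a90ac5560d94252670075337a7)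
 (.leaf 0x0)))
 (.node (.node (.leaf 0x1981fe6ca2b600d3de5953f06bc13f5f578f5e97c70fc48a47c3c00484b014d1eb50e32931f20f7647090380906eb0aa6f501c79551f55405047872d4453a422b58177c1cf2f780175005e2eb1ad3b076f5626f87e15795491d55b85cd57b73c05810b1df5981dd6f14f342e0341643e648110e0bf6d35093cf5344a97fb0a51a953843775a3db0a625a7075e55726ea5d12606b769e34648805132618136f16b6d610771a08e1030181c239f23842a04d08f0df5225274903171ba01f52574f7e578745d25b43e35860d0393fa2cb6513315a13c47191025b70086fb6037937e97f77f50887211d80773254c84037306816106182ad37964658737639950648f6857655617820eb69b27b1ab59b67b2065b66e076b46c3a279f1cb24c4ed5b43cb1f455f7d97a380400c78041a2e548457d3130c81b43842796e81f16a16786995ce1cd7255206664634581770b14d923e8082036c466a4f813a5823107cf6f969556412006208625e47554e04a0f805a3bf6f370e4db3a52ae1894014aa34d)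
 (.leaf 0x0))
 (.node (.leaf 0x1a22572da5b115f07838b09c10a5402734da0ae3f516f11f5ed4b830e5d240844829b79b43a3bd1357dc1347375de4616c12ba5c14284fe52625d6213a10f040b4122c42711535176fe1272d65c321e1a006e76906b60535b5c02b04422565cc47330c2f87b23241955cf50f5020f25445b25694d02bf3da1745f459c3865a46482c971b0600640283ed1fc74341148d1ff72031503502c16054326a20e4221c634f46d5360c66ab11a5150c94d123a77207e45a0c426368b4c137d3303b55e37026652482126a464c02470c30b20d33675f44f57540025861c3e744a28d0024f41ac64d7881c86902171794663cd0750b47b40231490bc73b0451a67391267cd42307f4ae44333b2832bb23d1b62426cf5e74803f45f02e609912e41419c2684c338963c79930d32d53e6d55071b73664ab27d10d21443b66960f6b807a6836b44d57ce3770494601464b42116fc6a87176a90cd01919b78b7743525be4b32d74774de2b86a54bd3ce17f64765f6df0b97ea4f222273a17e5b01b003775e235)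
 (.leaf 0x0))))
 (.node (.node (.node (.leaf 0x6c27681d04dd6b54a02265ac6c01454bf6d02985d700e7a110507d63867c52f5ea6ce7f818d7440295423224dc40f75228f7383605ca34132303b7bb5dc6943ef7b84c024410f7632a663a71e6717eb4ea4e46315df49a08925f5895886da7907af73326b70566e75129d19729f2337b911862b1900326751f01242530477c244430030647d7ba7d144912a4916c95d025018549e0545f84af0e652b59654d5972cc5b32d52495a77e358a0e43830553c84716ef3bc48e2a357e7de6547290612b365a53232c77b74940d6001686194941e918f7e066277948333a64257a67f5e168405600537f6d90c021a2ce6076b07345e44ac28934065847b33d7c43d33274d87181e64eb16176e55d6de23c2151657e62362a42f057f7fe28409824018879779a12f5a651974230215177f75867459d14b0cc6436924f022c6f77e21c95fe36a77162528a6bf1bb02753a31a3bb7f97772ac09a6980dc1ae09644c0106637593870b60656d21547982392800032a514c60a3545992c73b715a21f72f2f3)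
 (.leaf 0x0))
 (.node (.leaf 0x4023cc0ad7484ca22f71155e2015184652d343645467234b1a354155768d2e92511c302216c65c68851417041727e3e128e1b835f4c44b518e23f1413737c00876686b977e1845922d02876771c46f466b7dd66c22717d7665e04a505f5745673015db65d1de6331967bf3b87945ab2d260167026f03102e3913c35703484ec04022a00128c1422b724d3ae1662a042b24b5ee11c2aa7566b253171453d2ea5fa1007350ab2f142c6043eb2d477d7012135285b911e19107b2c335070833743c2fc2783d53fd3880cb4553712cd71f1622c55847c55cb4fa4b91e51fa7c13856ae2623080b24863e42c016a1174c51152c67aa41b7ab3033c90a31ea3e344741947e26170660c7fd18a2fb36403e3b216d41d0723355902727a828b0a10591c01063741a73a93d27313e012141c7d060b74169d4a27f65c86b33d413c4a429309139c01d3043562f613956f6d82091080b717366f54c7b041e55560e77835e3121dc6376970e90218074325d463b1923a720716920b26c5213b634241f7a2732)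
 (.leaf 0x0)))
 (.node (.node (.leaf 0x1f338e09b53574d2d16407e420a32b4d40e11f202d51c76a33c7703b14fc4ef60951e5d33fb4683b308c3473a62214300a702000678446f8027bd01b0fe4d33ba65556b3f778a47677508546a72c26e6ec3e834c0f358c6ed1a521d5d55034742b53285045ad02f0705943801563072e32f272e35a4187962dc2940663905502f579c1b325c0b324f06845c0b068f3576fd53f70f39364e40e43f5777231101c53597167a02a85521e06574f71d665e5aa0810f444172a0b88090dd7ae24767a4240936f034e4b63c643805b7a55e268240a7d456367e5f71716aa43548c6456610fa09e09426578147033332e04c5eb0e71ca5c20ec6673dd7535370af30f09f06775d0ca72b14449f5121e46ac3ad5083694fb5c941047971d33976c77a2243957d81da3f61b221031b29e00473f2b15101bd1b152d0f500f22e0a86918033c56290697f27f16a23614b235d4694e93d11fd68a21b68e3e24a86392d84fd1ec2ca4c21670836c678e1433dc08408a15e2ec3a01190ce7e81046a3613462332)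
 (.leaf 0x0))
 (.node (.leaf 0x54b5854a720274c1ee2de6c74ba64f32f48278d3784980361c176d0fd6e33ab2b46cc24124e2e72345592c11a43be51a5b50c106f5c62294c97ad19d6b164a27f4995511b92fd4d20e518070a3ee4044f10ef5f22813a315b0c245925256e2903925582300166792914e308b3f25861294e022318c6115dd3fc7c61147df6f64cd5da6501bc7465bd42d1553af4cc5bb41639d37b2051a84a344b4645c569f16e1832311bf3e92826a07a96c823b5ff7546440ff2cf5af67d75538150a1011aa37a24a1b539b02a0a218b4057b374b4f66f235100a5304ce7ac2320d820c0927105bc6591af45e03d13d2fe4503983d079147f1c77d64206e55ec5a51d458d1820ed19e27c3f313859f01a06a46e1d254f2553ea6206cd03f4b135c49263d34379255a0b54d631d4972593627264954ee0d411d1ef6dd74e2455ef37e5d859145b61b5d93ac49638a1cc6a73d724339680015744d32a17a6a636d4273d659354a2771f84e72dd51d62a0d701755c7cb71575b0435c43ec7451e11757364c76d7)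
 (.leaf 0x0)))))

/-- its inverse -/
noncomputable def piU : Tbl :=
  (.node (.node (.node (.node (.leaf 0x7883d77ed2f10d836908020b00d0a03303883c76b608a6d67c946275435c2500855110fb35f1997cf18d0fd47d3f449528806238311a4fa44140576d70e4684fb7340bc4f50160a247e30661d13257a35268d23244d69101f6874797c47de1642b207e48165b48443360a38551f11273d65f3a65672213a23576f35fd4075922e040832d3df2a52ab44255977a54202b3553684186f83fd11c64414245811845e36737e76b52a2e22892914633e47b830b1c52675d52103ce30c31104d3894de6536891ee0cd58562c8046fa26443b6604f94515484d53ba7dd6c909c41f6c774d3283a43543ad1116a64272111806a75c22ce4494ba37820a5412bf03616818b19c01d0b22992da4d842228a3610f720c6262ed1ac4f265904870802808c5aa74554c7654831d90372782e36027f069c2b70e11b15b14c13bb5b03f269b47677b1e56a512304a07c67965d5e85103de2828015282de3d874e61c28f70d7bc02a0770bb05a0af11632f1f12fb2394d17720be26e4023dd16733710b66b5a8000)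
 (.leaf 0x38421e50f0ce45d23a32b3da2d071f))
 (.node (.leaf 0x42f6db3163ec3485704f621a38d77547a66a2b96087ca12f3eb7352415ab1511ca3200d371201842e1c97b90f24bd7b44c36131fc1e22066f42201544aa73c6293f53d67d068c6b20c57707aa7a10105fb7da2627010e05615dc63f3136841d31f50246104b10ed7f756f6ee49837b5db6236163237442ec19a65205e15d6342012ad3197fd4d05c352c79a5324f01fa34f19d42b4860bd1c67d47f173a7267361754937421a22852551866a036c4b02f043029a03556602023516f7f42b464875e5541a72ef15949a3452d96143d020e3c06bf43c1893643db74c69324646a3cd3213e60136625f57982243016e062505576627d3a372a6887c322345241d5795f20c10e241276267308271d11779966d1a46ea5560192d71aa6516c23874a839927b07d5806306e70813792a85f336d02d4d950e02c3e04ee2b87a45905a028b49e6dc7184c640437f65469603175b50251a54953755d2375553b15e279f8086420db6d46a13461e139a17903a6d53744216eb08d0d57787cb2615ff202671)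
 (.leaf 0x0)))
 (.node (.node (.leaf 0x4287637d157f54e08844e6bd2d15253aa03f1003b45911464a30fa0433092cd5965eb0d67e664523640b3b50f54714350387f97113af0ff6fd0f93176156cd19258d5f45b53fa5cf7871625771942763146a90f310555f5746d35844617e35646b10e943a0ad64e6de4b46125a52fc3bf7ea17f8023356c30c420425c11d4cd59c4363910f41cf10a1471854384e75a11b73381b90da6e94770d91f30224ae4db3ae52b0a97ba7c01df5df66c5a754312615c04b5ce41645714364f7907c710c7d55e163375224e08b22f57e7140010a40926f55456d202e5b23cb0b65061bd69842a64040341736641168656955329e1c420f6d93a727c2a47396706fe6c17490501ad7c25ea19f3a57e75a424259f77e19167d38109a72f1d272164b7e81415d921f64d14c78c68b10d28c0cb1486007e51b676e7937bd5fa32e45a12e2d55a97db42d5c71f90293407b36073e14471026cb3c308e31c1634be4dd6640a514b63158a67c62233a2e669767676c5073f752104f50924a79c49d21d7fc5f7469)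
 (.leaf 0x0))
 (.node (.leaf 0x44c6cf39f62126d0992152c812d7ab2df5cb2087742ba37d1880f63c53ca2e12a04da22e4fe4ac75a05c7ec4090de24860b14d7310734341c116552270029463806e2b11100b91f464a1e97467e90722fd1a178d7f831008f21c4d31ff6df1f712500b0122f70444705d362d29d0111fb62a52f59a7d716043156a0c834c69036e61e62072371a61167b30332522c78f79629c53302124f4fc22a11b5120562141d603213032c6653a131b5ec48c68531d4e95e505f4e525416962b37525f0b016b3717851ec24b3807bb22b5cd0d41b01354805f11cc5b351d1bb0e45c85ca21b62f5d435b22567e4e811517136a4b760c38b5bd5e600a17e76815a38e0333d418245f4ff2757a87f639b66867a0687d64856aa60d25a36b78913116d0ba3f945403e74163d50c1ce3181ed51346c48b4445bb0cf1c804946b40f0864e41b370f3294ec0d74bb1270c04ea4c86d874702346e4e066f7290f117625d0254dc4c50fc3024b67b125e62e5182795515351083ea0841614f46c658f26c0985b4178)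
 (.leaf 0x0))))
 (.node (.node (.node (.leaf 0x69f2fe31e6a34ab56d42971344804204623e3ff3f322d1af7327fa4593152ea5581744d446f15256e34d4a047370438f2bd5bc2bb51409e33d41c2654bf38c2c475707a74b0ae1fd2d24fd22872424335e12b66675d6953955cc5e928e7ef5407924913337a71242837d25de63664c77d2313a833b3326037671192cc66924d7802aa79b53d6583c47e25ef6ff0676ca0307537d864161b0650642ff1b85ba6ba0914a750b5861b21735da1e77b277954f2031404af42c19e5d17947552977ce60e6055c608346771b6630f82220a87036af51e09536f5e36f179554a5e72955635081773125a214a2b60ee57515069a6fb30a06a00c7c510349704771e3b77a310f6d14b91384870b54562eb10913300565c0d143f6241f635030e5a65d84152f647876452d04121952475006006d6e56e34b54754f845c13d64348244b47b1a37b50796ce6560c61ae0ec0875382126f058773359d49b68f3071b45624e35607ad0aa0df48e3961d12b36320b42be6f70b752029353f1ef304290270781594)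
 (.leaf 0x0))
 (.node (.leaf 0x78b12a0ef4a544359542419b3704642f56ae0a77c806964672e59e6ef7593601ea2f30e56490762a215e68037616a5c41c76e17b01d75be7a972872c1f20523c250d3e86ec29f1a06b92292c26c05711dc3475304207dc7977076cc35d6dd6c40146177a57697a04905882c326f2497df2401936b46fc6047860e63bc1f85b638a4a24ca19013c7586ab42380727305d74f4251346ad24c4e21062bc1951972f93b97165d072b54605148d7563c64a418e1c31c22597b67fe5730a12182d40021451842340712c116c2c64453980966725c143d2a14195ad5237c10740d23d34c96b30575c04e64102133722c92524cc23d5f814e70c04c73e7e47be5ed4065192db41a3907d33ab74a20d19651c7ff7152c506f0034134d76b56991e45ee6f639e6395974604461220b12a93586923fc2ae40117d5997711eb01a3314eb19844f4665892866da2810944b82875052262dc3e97103f18097e013b5f66d047468e5e401534e8033346b82e94ce4f14cf7822b034a63725609b3bd3c16b70c94ad)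
 (.leaf 0x0)))
 (.node (.node (.leaf 0x2643e57c7af3e727740d8003d233c6f26477517b74392f81d57cc6a470658e7487913c966e2b547f56555731a5e05394372fa35a30d2a66b000644072271757d52e15653b31f7602af60f6615fe23f42655a18a01b37a32a2725ae41b0752ee2097e16e61871203d54df5b810450468141e3e554b3ed2cb7a25a334b7277eb09353c05850a3e22052d67c62456d730828d49979e52977c0bf2577614cb72033f48939c7bf5af3ac4f73fe00e4a16f972563e57b1136ac56b23018c0dc7833b816672d6830ea79d77f25b7f262725803b53e5d74c75780ab29609f7194c44e112934904547c63507f54d0a37383241dd5dd5163227436c53b239427a3a052603d10780561877358369437c2003c85f006c0175ac3e329b07b03c7405031db15b0ac0631583ef65016e34341458167554704e3633002746827f536263a17c3f671c2e83be1552982636bb1da1e30c34882e70d073b4c03391210344a928406b69d44a2335150e32173566ed63b6be6770784925683b61a802f52755b1395bf1a9)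
 (.leaf 0x0))
 (.node (.leaf 0xe71445504ed2ac4c211f1e826953126845b8063273264a64d60614b30391cb60926a30509714927f3f818f12c2c71727ac1835c96e449643223c33e45075c05937309d0eb1a553621662865549470b0f00dd0532f27ae5721570401ab56c5d65b940a3d949f1d81a61b51d449c0e84b265e7776bc48a51b1bf3827d976f55c55e78e54440000437705b23b5011f03922440fe0273a96e813e63c10e13f3b02dd5b726b73f75f1c02f430f7f30c261a3d147266727e0b30073dc40c2513652381375d258c2d317b34117051711e0b83cf61900968a1283ee2ca14f7ee3422473f06c81fe00f5c52532e51d001c0c74bc6746013530667092a711413609059b78478a3591e01ba2cf2807303fb7fb7760a617a5fc48f7a67051e66a213a5340ca33600846d2c065a6066571de6e270259315f1be50053a2601013b32d83cc35138618101e40e7372274ef39745326669e5761cd3444656a829227115361f39370a5980540895f976a39d2074f36780707cd2e45822a35521bc0cc45567f58b4d2)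
 (.leaf 0x0)))))

/-- images of the generators -/
def piW : List (List ℕ) :=
  [[4, 2, 3, 5, 3, 2, 3, 6, 4, 0, 1, 2, 3, 4, 5, 3, 2, 1, 6, 3, 2, 3, 5, 3, 2, 4],
   [3, 6, 4, 2, 3, 2, 3, 1, 2, 3, 1, 0, 1, 4, 5, 3, 2, 1, 3, 2, 3, 2, 4, 6, 3],
   [2, 3, 4, 2, 0, 3, 4, 5, 3, 2, 4, 3, 2],
   [3, 4, 3, 2, 3, 5, 1, 2, 3, 2, 3, 1, 2, 3, 2, 1, 4, 3, 2, 6, 3, 2, 1, 3, 4, 3, 5],
   [3, 6, 3, 5, 2, 3, 2, 3, 0, 1, 2, 3, 4, 5, 3, 2, 1, 3, 2, 3, 2, 3, 5, 3, 6, 3],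
   [2, 3, 5, 2, 0, 3, 2, 3, 5, 3, 2, 3, 2],
   [3, 1, 2, 3, 6, 4, 1, 2, 3, 2, 0, 1, 0, 3, 5, 3, 2, 3, 2, 1, 4, 6, 3, 2, 1, 3]]

/-- table part -/
def xT0_1 : Tr :=
  .nd (.nd (.nd (.nd (.nd (.nd (.nd (.nd (.lf 135) (.lf 129025)) (.nd (.lf 41668) (.lf 0))) (.nd (.nd (.lf 20356) (.lf 0)) (.nd (.lf 71809) (.lf 0)))) (.nd (.nd (.nd (.lf 10439) (.lf 0)) (.nd (.lf 101507) (.lf 0))) (.nd (.nd (.lf 29828) (.lf 0)) (.nd (.lf 89860) (.lf 0))))) (.nd (.nd (.nd (.nd (.lf 5122) (.lf 0)) (.nd (.lf 48516) (.lf 0))) (.nd (.nd (.lf 25542) (.lf 0)) (.nd (.lf 79175) (.lf 0)))) (.nd (.nd (.nd (.lf 16261) (.lf 0)) (.nd (.lf 62342) (.lf 0))) (.nd (.nd (.lf 35781) (.lf 0)) (.nd (.lf 109127) (.lf 0)))))) (.nd (.nd (.nd (.nd (.nd (.lf 2181) (.lf 0)) (.nd (.lf 44869) (.lf 0))) (.nd (.nd (.lf 23174) (.lf 0)) (.nd (.lf 76612)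 (.lf 0)))) (.nd (.nd (.nd (.lf 20164) (.lf 0)) (.nd (.lf 57988) (.lf 0))) (.nd (.nd (.lf 35015) (.lf 0)) (.nd (.lf 96516) (.lf 0))))) (.nd (.nd (.nd (.nd (.lf 8193) (.lf 0)) (.nd (.lf 81286) (.lf 0))) (.nd (.nd (.lf 27590) (.lf 0)) (.nd (.lf 83396) (.lf 0)))) (.nd (.nd (.nd (.lf 18310) (.lf 0)) (.nd (.lf 88071) (.lf 0))) (.nd (.nd (.lf 38724) (.lf 0)) (.nd (.lf 112388) (.lf 0))))))) (.nd (.nd (.nd (.nd (.nd (.nd (.lf 1030) (.lf 0)) (.nd (.lf 43270) (.lf 0))) (.nd (.nd (.lf 24902) (.lf 0)) (.nd (.lf 79169) (.lf 0)))) (.nd (.nd (.nd (.lf 11783) (.lf 0)) (.nd (.lf 56898) (.lf 0))) (.nd (.nd (.lf 30855) (.lf 0)) (.nd (.lf 92934) (.lf 0))))) (.nd (.nd (.nd (.nd (.lf 5959) (.lf 0)) (.nd (.lf 50181) (.lf 0))) (.nd (.nd (.lf 26627) (.lf 0)) (.nd (.lf 80964) (.lf 0)))) (.nd (.nd (.nd (.lf 17412) (.lf 0)) (.nd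 (.lf 65223) (.lf 0))) (.nd (.nd (.lf 37443) (.lf 0)) (.nd (.lf 104899) (.lf 0)))))) (.nd (.nd (.nd (.nd (.nd (.lf 3396) (.lf 0)) (.nd (.lf 46981) (.lf 0))) (.nd (.nd (.lf 24132) (.lf 0)) (.nd (.lf 105093) (.lf 0)))) (.nd (.nd (.nd (.lf 14854) (.lf 0)) (.nd (.lf 60291) (.lf 0))) (.nd (.nd (.lf 42438) (.lf 0)) (.nd (.lf 110468) (.lf 0))))) (.nd (.nd (.nd (.nd (.lf 9221) (.lf 0)) (.nd (.lf 53573) (.lf 0))) (.nd (.nd (.lf 28933) (.lf 0)) (.nd (.lf 86725) (.lf 0)))) (.nd (.nd (.nd (.lf 19522) (.lf 0)) (.nd (.lf 68995) (.lf 0))) (.nd (.nd (.lf 39941) (.lf 0)) (.nd (.lf 114114) (.lf 0)))))))) (.nd (.nd (.nd (.nd (.nd (.nd (.nd (.lf 517) (.lf 0)) (.nd (.lf 60295) (.lf 0))) (.nd (.nd (.lf 33862) (.lf 0)) (.nd (.lf 77571) (.lf 0)))) (.nd (.nd (.nd (.lf 11397) (.lf 0)) (.nd (.lf 110215) (.lf 0))) (.nd (.nd (.lf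 30340) (.lf 0)) (.nd (.lf 90947) (.lf 0))))) (.nd (.nd (.nd (.nd (.lf 6020) (.lf 0)) (.nd (.lf 49157) (.lf 0))) (.nd (.nd (.lf 26116) (.lf 0)) (.nd (.lf 80130) (.lf 0)))) (.nd (.nd (.nd (.lf 17030) (.lf 0)) (.nd (.lf 63686) (.lf 0))) (.nd (.nd (.lf 36550) (.lf 0)) (.nd (.lf 103298) (.lf 0)))))) (.nd (.nd (.nd (.nd (.nd (.lf 3779) (.lf 0)) (.nd (.lf 45958) (.lf 0))) (.nd (.nd (.lf 23685) (.lf 0)) (.nd (.lf 76229) (.lf 0)))) (.nd (.nd (.nd (.lf 13829) (.lf 0)) (.nd (.lf 59267) (.lf 0))) (.nd (.nd (.lf 32582) (.lf 0)) (.nd (.lf 120388) (.lf 0))))) (.nd (.nd (.nd (.nd (.lf 8388) (.lf 0)) (.nd (.lf 52676) (.lf 0))) (.nd (.nd (.lf 28295) (.lf 0)) (.nd (.lf 85508) (.lf 0)))) (.nd (.nd (.nd (.lf 34501) (.lf 0)) (.nd (.lf 89093) (.lf 0))) (.nd (.nd (.lf 39237) (.lf 0)) (.nd (.lf 111045) (.lf 0))))))) (.nd (.nd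 (.nd (.nd (.nd (.nd (.lf 1669) (.lf 0)) (.nd (.lf 44039) (.lf 0))) (.nd (.nd (.lf 22535) (.lf 0)) (.nd (.lf 74886) (.lf 0)))) (.nd (.nd (.nd (.lf 12612) (.lf 0)) (.nd (.lf 57477) (.lf 0))) (.nd (.nd (.lf 31429) (.lf 0)) (.nd (.lf 96707) (.lf 0))))) (.nd (.nd (.nd (.nd (.lf 6917) (.lf 0)) (.nd (.lf 73412) (.lf 0))) (.nd (.nd (.lf 35266) (.lf 0)) (.nd (.lf 93956) (.lf 0)))) (.nd (.nd (.nd (.lf 17796) (.lf 0)) (.nd (.lf 66051) (.lf 0))) (.nd (.nd (.lf 37830) (.lf 0)) (.nd (.lf 124993) (.lf 0)))))) (.nd (.nd (.nd (.nd (.nd (.lf 4036) (.lf 0)) (.nd (.lf 47813) (.lf 0))) (.nd (.nd (.lf 25028) (.lf 0)) (.nd (.lf 78530) (.lf 0)))) (.nd (.nd (.nd (.lf 15492) (.lf 0)) (.nd (.lf 61572) (.lf 0))) (.nd (.nd (.lf 35204) (.lf 0)) (.nd (.lf 110401) (.lf 0))))) (.nd (.nd (.nd (.nd (.lf 9923) (.lf 0)) (.nd (.lf 53895)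 (.lf 0))) (.nd (.nd (.lf 73414) (.lf 0)) (.nd (.lf 88006) (.lf 0)))) (.nd (.nd (.nd (.lf 30661) (.lf 0)) (.nd (.lf 81991) (.lf 0))) (.nd (.nd (.lf 40902) (.lf 0)) (.nd (.lf 121539) (.lf 0))))))))

/-- table part -/
def xT0_2 : Tr :=
  .nd (.nd (.nd (.nd (.nd (.nd (.nd (.nd (.lf 0) (.lf 126979)) (.nd (.lf 42180) (.lf 0))) (.nd (.nd (.lf 20615) (.lf 0)) (.nd (.lf 101126) (.lf 0)))) (.nd (.nd (.nd (.lf 11140) (.lf 0)) (.nd (.lf 89990) (.lf 0))) (.nd (.nd (.lf 33412) (.lf 0)) (.nd (.lf 90436) (.lf 0))))) (.nd (.nd (.nd (.nd (.lf 13831) (.lf 0)) (.nd (.lf 73990) (.lf 0))) (.nd (.nd (.lf 25860) (.lf 0)) (.nd (.lf 118148) (.lf 0)))) (.nd (.nd (.nd (.lf 16901) (.lf 0)) (.nd (.lf 62724) (.lf 0))) (.nd (.nd (.lf 36036) (.lf 0)) (.nd (.lf 125572) (.lf 0)))))) (.nd (.nd (.nd (.nd (.nd (.lf 7942) (.lf 0)) (.nd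 (.lf 45382) (.lf 0))) (.nd (.nd (.lf 23367) (.lf 0)) (.nd (.lf 80774) (.lf 0)))) (.nd (.nd (.nd (.lf 13380) (.lf 0)) (.nd (.lf 58691) (.lf 0))) (.nd (.nd (.lf 36290) (.lf 0)) (.nd (.lf 111751) (.lf 0))))) (.nd (.nd (.nd (.nd (.lf 8004) (.lf 0)) (.nd (.lf 72455) (.lf 0))) (.nd (.nd (.lf 27974) (.lf 0)) (.nd (.lf 84293) (.lf 0)))) (.nd (.nd (.nd (.lf 18755) (.lf 0)) (.nd (.lf 67075) (.lf 0))) (.nd (.nd (.lf 38919) (.lf 0)) (.nd (.lf 109955) (.lf 0))))))) (.nd (.nd (.nd (.nd (.nd (.nd (.lf 1412) (.lf 0)) (.nd (.lf 43526) (.lf 0))) (.nd (.nd (.lf 22277) (.lf 0)) (.nd (.lf 91397) (.lf 0)))) (.nd (.nd (.nd (.lf 18631) (.lf 0)) (.nd (.lf 57219) (.lf 0))) (.nd (.nd (.lf 61058) (.lf 0)) (.nd (.lf 109253) (.lf 0))))) (.nd (.nd (.nd (.nd (.lf 6276) (.lf 0)) (.nd (.lf 50439) (.lf 0))) (.nd (.nd (.lf 26948) (.lf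 0)) (.nd (.lf 116036) (.lf 0)))) (.nd (.nd (.nd (.lf 17665) (.lf 0)) (.nd (.lf 65670) (.lf 0))) (.nd (.nd (.lf 37573) (.lf 0)) (.nd (.lf 114117) (.lf 0)))))) (.nd (.nd (.nd (.nd (.nd (.lf 3716) (.lf 0)) (.nd (.lf 47426) (.lf 0))) (.nd (.nd (.lf 24583) (.lf 0)) (.nd (.lf 105798) (.lf 0)))) (.nd (.nd (.nd (.lf 15300) (.lf 0)) (.nd (.lf 61253) (.lf 0))) (.nd (.nd (.lf 43974) (.lf 0)) (.nd (.lf 100999) (.lf 0))))) (.nd (.nd (.nd (.nd (.lf 9604) (.lf 0)) (.nd (.lf 53827) (.lf 0))) (.nd (.nd (.lf 58502) (.lf 0)) (.nd (.lf 87237) (.lf 0)))) (.nd (.nd (.nd (.lf 19717) (.lf 0)) (.nd (.lf 69507) (.lf 0))) (.nd (.nd (.lf 40388) (.lf 0)) (.nd (.lf 116162) (.lf 0)))))))) (.nd (.nd (.nd (.nd (.nd (.nd (.nd (.lf 2886) (.lf 0)) (.nd (.lf 54980) (.lf 0))) (.nd (.nd (.lf 21061) (.lf 0)) (.nd (.lf 76934) (.lf 0)))) (.nd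 (.nd (.nd (.lf 11527) (.lf 0)) (.nd (.lf 56325) (.lf 0))) (.nd (.nd (.lf 30724) (.lf 0)) (.nd (.lf 111621) (.lf 0))))) (.nd (.nd (.nd (.nd (.lf 5766) (.lf 0)) (.nd (.lf 49796) (.lf 0))) (.nd (.nd (.lf 26311) (.lf 0)) (.nd (.lf 80455) (.lf 0)))) (.nd (.nd (.nd (.lf 17283) (.lf 0)) (.nd (.lf 64325) (.lf 0))) (.nd (.nd (.lf 36868) (.lf 0)) (.nd (.lf 103942) (.lf 0)))))) (.nd (.nd (.nd (.nd (.nd (.lf 3143) (.lf 0)) (.nd (.lf 46405) (.lf 0))) (.nd (.nd (.lf 23879) (.lf 0)) (.nd (.lf 111235) (.lf 0)))) (.nd (.nd (.nd (.lf 35074) (.lf 0)) (.nd (.lf 59843) (.lf 0))) (.nd (.nd (.lf 33029) (.lf 0)) (.nd (.lf 120197) (.lf 0))))) (.nd (.nd (.nd (.nd (.lf 10755) (.lf 0)) (.nd (.lf 59015) (.lf 0))) (.nd (.nd (.lf 28550) (.lf 0)) (.nd (.lf 86084) (.lf 0)))) (.nd (.nd (.nd (.lf 19334) (.lf 0)) (.nd (.lf 83715) (.lf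 0))) (.nd (.nd (.lf 39557) (.lf 0)) (.nd (.lf 112451) (.lf 0))))))) (.nd (.nd (.nd (.nd (.nd (.nd (.lf 1863) (.lf 0)) (.nd (.lf 44356) (.lf 0))) (.nd (.nd (.lf 23045) (.lf 0)) (.nd (.lf 88774) (.lf 0)))) (.nd (.nd (.nd (.lf 31943) (.lf 0)) (.nd (.lf 57793) (.lf 0))) (.nd (.nd (.lf 32519) (.lf 0)) (.nd (.lf 96901) (.lf 0))))) (.nd (.nd (.nd (.nd (.lf 7236) (.lf 0)) (.nd (.lf 51139) (.lf 0))) (.nd (.nd (.lf 27396) (.lf 0)) (.nd (.lf 82884) (.lf 0)))) (.nd (.nd (.nd (.lf 17990) (.lf 0)) (.nd (.lf 89861) (.lf 0))) (.nd (.nd (.lf 38339) (.lf 0)) (.nd (.lf 107713) (.lf 0)))))) (.nd (.nd (.nd (.nd (.nd (.lf 12292) (.lf 0)) (.nd (.lf 50886) (.lf 0))) (.nd (.nd (.lf 25286) (.lf 0)) (.nd (.lf 81348) (.lf 0)))) (.nd (.nd (.nd (.lf 15748) (.lf 0)) (.nd (.lf 61831) (.lf 0))) (.nd (.nd (.lf 35462) (.lf 0)) (.nd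 (.lf 100935) (.lf 0))))) (.nd (.nd (.nd (.nd (.lf 10055) (.lf 0)) (.nd (.lf 54276) (.lf 0))) (.nd (.nd (.lf 73991) (.lf 0)) (.nd (.lf 88834) (.lf 0)))) (.nd (.nd (.nd (.lf 20165) (.lf 0)) (.nd (.lf 71047) (.lf 0))) (.nd (.nd (.lf 60546) (.lf 0)) (.nd (.lf 120007) (.lf 0))))))))

/-- table part -/
def xT0_3 : Tr :=
  .nd (.nd (.nd (.nd (.nd (.nd (.nd (.nd (.lf 516) (.lf 123909)) (.nd (.lf 41924) (.lf 0))) (.nd (.nd (.lf 20548) (.lf 0)) (.nd (.lf 120004) (.lf 0)))) (.nd (.nd (.nd (.lf 10951) (.lf 0)) (.nd (.lf 55235) (.lf 0))) (.nd (.nd (.lf 29895) (.lf 0)) (.nd (.lf 90052) (.lf 0))))) (.nd (.nd (.nd (.nd (.lf 4869) (.lf 0)) (.nd (.lf 49221) (.lf 0))) (.nd (.nd (.lf 25732) (.lf 0)) (.nd (.lf 82694) (.lf 0)))) (.nd (.nd (.nd (.lf 16388) (.lf 0)) (.nd (.lf 62407) (.lf 0))) (.nd (.nd (.lf 35909) (.lf 0))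 (.nd (.lf 123203) (.lf 0)))))) (.nd (.nd (.nd (.nd (.nd (.lf 2372) (.lf 0)) (.nd (.lf 45189) (.lf 0))) (.nd (.nd (.lf 23300) (.lf 0)) (.nd (.lf 75718) (.lf 0)))) (.nd (.nd (.nd (.lf 13315) (.lf 0)) (.nd (.lf 58244) (.lf 0))) (.nd (.nd (.lf 36676) (.lf 0)) (.nd (.lf 115330) (.lf 0))))) (.nd (.nd (.nd (.nd (.lf 7941) (.lf 0)) (.nd (.lf 51972) (.lf 0))) (.nd (.nd (.lf 27845) (.lf 0)) (.nd (.lf 83778) (.lf 0)))) (.nd (.nd (.nd (.lf 18500) (.lf 0)) (.nd (.lf 66756) (.lf 0))) (.nd (.nd (.lf 38853) (.lf 0)) (.nd (.lf 108866) (.lf 0))))))) (.nd (.nd (.nd (.nd (.nd (.nd (.lf 1219) (.lf 0)) (.nd (.lf 43397) (.lf 0))) (.nd (.nd (.lf 22211) (.lf 0)) (.nd (.lf 74374) (.lf 0)))) (.nd (.nd (.nd (.lf 12227) (.lf 0)) (.nd (.lf 57029) (.lf 0))) (.nd (.nd (.lf 51974) (.lf 0)) (.nd (.lf 93636) (.lf 0))))) (.nd (.nd (.nd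 (.nd (.lf 6149) (.lf 0)) (.nd (.lf 50372) (.lf 0))) (.nd (.nd (.lf 26756) (.lf 0)) (.nd (.lf 84100) (.lf 0)))) (.nd (.nd (.nd (.lf 17542) (.lf 0)) (.nd (.lf 87238) (.lf 0))) (.nd (.nd (.lf 37509) (.lf 0)) (.nd (.lf 108228) (.lf 0)))))) (.nd (.nd (.nd (.nd (.nd (.lf 3527) (.lf 0)) (.nd (.lf 47046) (.lf 0))) (.nd (.nd (.lf 24261) (.lf 0)) (.nd (.lf 80775) (.lf 0)))) (.nd (.nd (.nd (.lf 14980) (.lf 0)) (.nd (.lf 60805) (.lf 0))) (.nd (.nd (.lf 43462) (.lf 0)) (.nd (.lf 126082) (.lf 0))))) (.nd (.nd (.nd (.nd (.lf 14085) (.lf 0)) (.nd (.lf 53571) (.lf 0))) (.nd (.nd (.lf 28999) (.lf 0)) (.nd (.lf 87042) (.lf 0)))) (.nd (.nd (.nd (.lf 19591) (.lf 0)) (.nd (.lf 69191) (.lf 0))) (.nd (.nd (.lf 40132) (.lf 0)) (.nd (.lf 114881) (.lf 0)))))))) (.nd (.nd (.nd (.nd (.nd (.nd (.nd (.lf 581) (.lf 0)) (.nd (.lf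 60293) (.lf 0))) (.nd (.nd (.lf 27335) (.lf 0)) (.nd (.lf 99460) (.lf 0)))) (.nd (.nd (.nd (.lf 11522) (.lf 0)) (.nd (.lf 56067) (.lf 0))) (.nd (.nd (.lf 30532) (.lf 0)) (.nd (.lf 108164) (.lf 0))))) (.nd (.nd (.nd (.nd (.lf 5698) (.lf 0)) (.nd (.lf 79044) (.lf 0))) (.nd (.nd (.lf 30019) (.lf 0)) (.nd (.lf 80389) (.lf 0)))) (.nd (.nd (.nd (.lf 17158) (.lf 0)) (.nd (.lf 63940) (.lf 0))) (.nd (.nd (.lf 36615) (.lf 0)) (.nd (.lf 103683) (.lf 0)))))) (.nd (.nd (.nd (.nd (.nd (.lf 8643) (.lf 0)) (.nd (.lf 59586) (.lf 0))) (.nd (.nd (.lf 23812) (.lf 0)) (.nd (.lf 76548) (.lf 0)))) (.nd (.nd (.nd (.lf 34886) (.lf 0)) (.nd (.lf 59397) (.lf 0))) (.nd (.nd (.lf 32836) (.lf 0)) (.nd (.lf 108740) (.lf 0))))) (.nd (.nd (.nd (.nd (.lf 14469) (.lf 0)) (.nd (.lf 52933) (.lf 0))) (.nd (.nd (.lf 28422) (.lf 0)) (.nd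 (.lf 85636) (.lf 0)))) (.nd (.nd (.nd (.lf 35079) (.lf 0)) (.nd (.lf 67974) (.lf 0))) (.nd (.nd (.lf 39303) (.lf 0)) (.nd (.lf 112131) (.lf 0))))))) (.nd (.nd (.nd (.nd (.nd (.nd (.lf 1796) (.lf 0)) (.nd (.lf 44164) (.lf 0))) (.nd (.nd (.lf 22661) (.lf 0)) (.nd (.lf 96452) (.lf 0)))) (.nd (.nd (.nd (.lf 12740) (.lf 0)) (.nd (.lf 57542) (.lf 0))) (.nd (.nd (.lf 44036) (.lf 0)) (.nd (.lf 100099) (.lf 0))))) (.nd (.nd (.nd (.nd (.lf 7171) (.lf 0)) (.nd (.lf 99779) (.lf 0))) (.nd (.nd (.lf 27268) (.lf 0)) (.nd (.lf 82563) (.lf 0)))) (.nd (.nd (.nd (.lf 17863) (.lf 0)) (.nd (.lf 89799) (.lf 0))) (.nd (.nd (.lf 38086) (.lf 0)) (.nd (.lf 112322) (.lf 0)))))) (.nd (.nd (.nd (.nd (.nd (.lf 4228) (.lf 0)) (.nd (.lf 47879) (.lf 0))) (.nd (.nd (.lf 25095) (.lf 0)) (.nd (.lf 124999) (.lf 0)))) (.nd (.nd (.nd (.lf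 15619) (.lf 0)) (.nd (.lf 61700) (.lf 0))) (.nd (.nd (.lf 35335) (.lf 0)) (.nd (.lf 100677) (.lf 0))))) (.nd (.nd (.nd (.nd (.lf 9988) (.lf 0)) (.nd (.lf 54086) (.lf 0))) (.nd (.nd (.lf 54343) (.lf 0)) (.nd (.lf 88515) (.lf 0)))) (.nd (.nd (.nd (.lf 24391) (.lf 0)) (.nd (.lf 70594) (.lf 0))) (.nd (.nd (.lf 44998) (.lf 0)) (.nd (.lf 119235) (.lf 0))))))))

/-- table part -/
def xT0_4 : Tr :=
  .nd (.nd (.nd (.nd (.nd (.nd (.nd (.nd (.lf 387) (.lf 0)) (.nd (.lf 62151) (.lf 0))) (.nd (.nd (.lf 25287) (.lf 0)) (.nd (.lf 72646) (.lf 0)))) (.nd (.nd (.nd (.lf 11207) (.lf 0)) (.nd (.lf 55491) (.lf 0))) (.nd (.nd (.lf 41282) (.lf 0)) (.nd (.lf 90690) (.lf 0))))) (.nd (.nd (.nd (.nd (.lf 5188) (.lf 0)) (.nd (.lf 49030) (.lf 0))) (.nd (.nd (.lf 25927) (.lf 0)) (.nd (.lf 124930) (.lf 0)))) (.nd (.nd (.nd (.lf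 16965) (.lf 0)) (.nd (.lf 62917) (.lf 0))) (.nd (.nd (.lf 36165) (.lf 0)) (.nd (.lf 105605) (.lf 0)))))) (.nd (.nd (.nd (.nd (.nd (.lf 3138) (.lf 0)) (.nd (.lf 45702) (.lf 0))) (.nd (.nd (.lf 23557) (.lf 0)) (.nd (.lf 100932) (.lf 0)))) (.nd (.nd (.nd (.lf 13702) (.lf 0)) (.nd (.lf 58885) (.lf 0))) (.nd (.nd (.lf 32454) (.lf 0)) (.nd (.lf 98374) (.lf 0))))) (.nd (.nd (.nd (.nd (.lf 10434) (.lf 0)) (.nd (.lf 68548) (.lf 0))) (.nd (.nd (.lf 28103) (.lf 0)) (.nd (.lf 84741) (.lf 0)))) (.nd (.nd (.nd (.lf 44294) (.lf 0)) (.nd (.lf 86534) (.lf 0))) (.nd (.nd (.lf 39045) (.lf 0)) (.nd (.lf 110274) (.lf 0))))))) (.nd (.nd (.nd (.nd (.nd (.nd (.lf 4998) (.lf 0)) (.nd (.lf 43847) (.lf 0))) (.nd (.nd (.lf 22404) (.lf 0)) (.nd (.lf 74695) (.lf 0)))) (.nd (.nd (.nd (.lf 22215) (.lf 0)) (.nd (.lf 57284) (.lf 0)))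 (.nd (.nd (.lf 34435) (.lf 0)) (.nd (.lf 94338) (.lf 0))))) (.nd (.nd (.nd (.nd (.lf 6598) (.lf 0)) (.nd (.lf 50693) (.lf 0))) (.nd (.nd (.lf 33027) (.lf 0)) (.nd (.lf 109763) (.lf 0)))) (.nd (.nd (.nd (.lf 17671) (.lf 0)) (.nd (.lf 85127) (.lf 0))) (.nd (.nd (.lf 37765) (.lf 0)) (.nd (.lf 105990) (.lf 0)))))) (.nd (.nd (.nd (.nd (.nd (.lf 3907) (.lf 0)) (.nd (.lf 47620) (.lf 0))) (.nd (.nd (.lf 24771) (.lf 0)) (.nd (.lf 86663) (.lf 0)))) (.nd (.nd (.nd (.lf 15367) (.lf 0)) (.nd (.lf 61443) (.lf 0))) (.nd (.nd (.lf 34500) (.lf 0)) (.nd (.lf 100163) (.lf 0))))) (.nd (.nd (.nd (.nd (.lf 9671) (.lf 0)) (.nd (.lf 53890) (.lf 0))) (.nd (.nd (.lf 54147) (.lf 0)) (.nd (.lf 87431) (.lf 0)))) (.nd (.nd (.nd (.lf 52486) (.lf 0)) (.nd (.lf 77892) (.lf 0))) (.nd (.nd (.lf 40709) (.lf 0)) (.nd (.lf 117380) (.lf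 0)))))))) (.nd (.nd (.nd (.nd (.nd (.nd (.nd (.lf 962) (.lf 0)) (.nd (.lf 43140) (.lf 0))) (.nd (.nd (.lf 21382) (.lf 0)) (.nd (.lf 73860) (.lf 0)))) (.nd (.nd (.nd (.lf 11655) (.lf 0)) (.nd (.lf 56580) (.lf 0))) (.nd (.nd (.lf 30789) (.lf 0)) (.nd (.lf 112260) (.lf 0))))) (.nd (.nd (.nd (.nd (.lf 5893) (.lf 0)) (.nd (.lf 50052) (.lf 0))) (.nd (.nd (.lf 26438) (.lf 0)) (.nd (.lf 80644) (.lf 0)))) (.nd (.nd (.nd (.lf 17348) (.lf 0)) (.nd (.lf 65155) (.lf 0))) (.nd (.nd (.lf 37254) (.lf 0)) (.nd (.lf 104643) (.lf 0)))))) (.nd (.nd (.nd (.nd (.nd (.lf 3331) (.lf 0)) (.nd (.lf 46789) (.lf 0))) (.nd (.nd (.lf 24005) (.lf 0)) (.nd (.lf 104647) (.lf 0)))) (.nd (.nd (.nd (.lf 14788) (.lf 0)) (.nd (.lf 60035) (.lf 0))) (.nd (.nd (.lf 33476) (.lf 0)) (.nd (.lf 99330) (.lf 0))))) (.nd (.nd (.nd (.nd (.lf 13828)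 (.lf 0)) (.nd (.lf 53316) (.lf 0))) (.nd (.nd (.lf 28742) (.lf 0)) (.nd (.lf 86339) (.lf 0)))) (.nd (.nd (.nd (.lf 31940) (.lf 0)) (.nd (.lf 68483) (.lf 0))) (.nd (.nd (.lf 39751) (.lf 0)) (.nd (.lf 113223) (.lf 0))))))) (.nd (.nd (.nd (.nd (.nd (.nd (.lf 2052) (.lf 0)) (.nd (.lf 44547) (.lf 0))) (.nd (.nd (.lf 23109) (.lf 0)) (.nd (.lf 100295) (.lf 0)))) (.nd (.nd (.nd (.lf 32386) (.lf 0)) (.nd (.lf 57862) (.lf 0))) (.nd (.nd (.lf 32710) (.lf 0)) (.nd (.lf 96067) (.lf 0))))) (.nd (.nd (.nd (.nd (.lf 7683) (.lf 0)) (.nd (.lf 51460) (.lf 0))) (.nd (.nd (.lf 27463) (.lf 0)) (.nd (.lf 88773) (.lf 0)))) (.nd (.nd (.nd (.lf 18180) (.lf 0)) (.nd (.lf 66438) (.lf 0))) (.nd (.nd (.lf 38594) (.lf 0)) (.nd (.lf 107972) (.lf 0)))))) (.nd (.nd (.nd (.nd (.nd (.lf 4739) (.lf 0)) (.nd (.lf 76806) (.lf 0))) (.nd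 (.nd (.lf 25412) (.lf 0)) (.nd (.lf 114694) (.lf 0)))) (.nd (.nd (.nd (.lf 15941) (.lf 0)) (.nd (.lf 62147) (.lf 0))) (.nd (.nd (.lf 35589) (.lf 0)) (.nd (.lf 101826) (.lf 0))))) (.nd (.nd (.nd (.nd (.lf 10244) (.lf 0)) (.nd (.lf 101511) (.lf 0))) (.nd (.nd (.lf 49222) (.lf 0)) (.nd (.lf 89159) (.lf 0)))) (.nd (.nd (.nd (.lf 20291) (.lf 0)) (.nd (.lf 84482) (.lf 0))) (.nd (.nd (.lf 41475) (.lf 0)) (.nd (.lf 121602) (.lf 0))))))))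

/-- table part -/
def xT0_5 : Tr :=
  .nd (.nd (.nd (.nd (.nd (.nd (.nd (.nd (.lf 324) (.lf 126849)) (.nd (.lf 41796) (.lf 0))) (.nd (.nd (.lf 20420) (.lf 0)) (.nd (.lf 72068) (.lf 0)))) (.nd (.nd (.nd (.lf 10947) (.lf 0)) (.nd (.lf 54919) (.lf 0))) (.nd (.nd (.lf 29893) (.lf 0)) (.nd (.lf 89987) (.lf 0))))) (.nd (.nd (.nd (.nd (.lf 8071) (.lf 0)) (.nd (.lf 49287) (.lf 0))) (.nd (.nd (.lf 25604) (.lf 0)) (.nd (.lf 107525) (.lf 0)))) (.nd (.nd (.nd (.lf 16263) (.lf 0)) (.nd (.lf 62404) (.lf 0))) (.nd (.nd (.lf 35844) (.lf 0)) (.nd (.lf 123206) (.lf 0)))))) (.nd (.nd (.nd (.nd (.nd (.lf 2309) (.lf 0)) (.nd (.lf 45124) (.lf 0))) (.nd (.nd (.lf 23236) (.lf 0)) (.nd (.lf 100484) (.lf 0)))) (.nd (.nd (.nd (.lf 13252) (.lf 0)) (.nd (.lf 58116) (.lf 0))) (.nd (.nd (.lf 80007) (.lf 0)) (.nd (.lf 96643) (.lf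 0))))) (.nd (.nd (.nd (.nd (.lf 12167) (.lf 0)) (.nd (.lf 56007) (.lf 0))) (.nd (.nd (.lf 27716) (.lf 0)) (.nd (.lf 83589) (.lf 0)))) (.nd (.nd (.nd (.lf 18375) (.lf 0)) (.nd (.lf 66627) (.lf 0))) (.nd (.nd (.lf 38849) (.lf 0)) (.nd (.lf 108738) (.lf 0))))))) (.nd (.nd (.nd (.nd (.nd (.nd (.lf 1156) (.lf 0)) (.nd (.lf 59589) (.lf 0))) (.nd (.nd (.lf 21827) (.lf 0)) (.nd (.lf 74370) (.lf 0)))) (.nd (.nd (.nd (.lf 11907) (.lf 0)) (.nd (.lf 57026) (.lf 0))) (.nd (.nd (.lf 54150) (.lf 0)) (.nd (.lf 114626) (.lf 0))))) (.nd (.nd (.nd (.nd (.lf 6086) (.lf 0)) (.nd (.lf 50183) (.lf 0))) (.nd (.nd (.lf 26631) (.lf 0)) (.nd (.lf 112706) (.lf 0)))) (.nd (.nd (.nd (.lf 17415) (.lf 0)) (.nd (.lf 85702) (.lf 0))) (.nd (.nd (.lf 37447) (.lf 0)) (.nd (.lf 112519) (.lf 0)))))) (.nd (.nd (.nd (.nd (.nd (.lf 3462) (.lf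 0)) (.nd (.lf 47042) (.lf 0))) (.nd (.nd (.lf 24258) (.lf 0)) (.nd (.lf 104645) (.lf 0)))) (.nd (.nd (.nd (.lf 14916) (.lf 0)) (.nd (.lf 60483) (.lf 0))) (.nd (.nd (.lf 33796) (.lf 0)) (.nd (.lf 106887) (.lf 0))))) (.nd (.nd (.nd (.nd (.lf 9412) (.lf 0)) (.nd (.lf 53509) (.lf 0))) (.nd (.nd (.lf 28935) (.lf 0)) (.nd (.lf 86853) (.lf 0)))) (.nd (.nd (.nd (.lf 19525) (.lf 0)) (.nd (.lf 69188) (.lf 0))) (.nd (.nd (.lf 40004) (.lf 0)) (.nd (.lf 114181) (.lf 0)))))))) (.nd (.nd (.nd (.nd (.nd (.nd (.nd (.lf 578) (.lf 0)) (.nd (.lf 42691) (.lf 0))) (.nd (.nd (.lf 21063) (.lf 0)) (.nd (.lf 72966) (.lf 0)))) (.nd (.nd (.nd (.lf 11399) (.lf 0)) (.nd (.lf 71814) (.lf 0))) (.nd (.nd (.lf 30467) (.lf 0)) (.nd (.lf 93060) (.lf 0))))) (.nd (.nd (.nd (.nd (.lf 5511) (.lf 0)) (.nd (.lf 49159) (.lf 0))) (.nd (.nd (.lf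 30023) (.lf 0)) (.nd (.lf 80135) (.lf 0)))) (.nd (.nd (.nd (.lf 17095) (.lf 0)) (.nd (.lf 63747) (.lf 0))) (.nd (.nd (.lf 36612) (.lf 0)) (.nd (.lf 118533) (.lf 0)))))) (.nd (.nd (.nd (.nd (.nd (.lf 4999) (.lf 0)) (.nd (.lf 46146) (.lf 0))) (.nd (.nd (.lf 23748) (.lf 0)) (.nd (.lf 76358) (.lf 0)))) (.nd (.nd (.nd (.lf 15108) (.lf 0)) (.nd (.lf 59394) (.lf 0))) (.nd (.nd (.lf 32774) (.lf 0)) (.nd (.lf 130564) (.lf 0))))) (.nd (.nd (.nd (.nd (.lf 20546) (.lf 0)) (.nd (.lf 106055) (.lf 0))) (.nd (.nd (.lf 28358) (.lf 0)) (.nd (.lf 85574) (.lf 0)))) (.nd (.nd (.nd (.lf 24450) (.lf 0)) (.nd (.lf 67971) (.lf 0))) (.nd (.nd (.lf 39239) (.lf 0)) (.nd (.lf 111687) (.lf 0))))))) (.nd (.nd (.nd (.nd (.nd (.nd (.lf 1732) (.lf 0)) (.nd (.lf 44102) (.lf 0))) (.nd (.nd (.lf 22598) (.lf 0)) (.nd (.lf 91460) (.lf 0))))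 (.nd (.nd (.nd (.lf 12677) (.lf 0)) (.nd (.lf 57540) (.lf 0))) (.nd (.nd (.lf 78210) (.lf 0)) (.nd (.lf 112709) (.lf 0))))) (.nd (.nd (.nd (.nd (.lf 7108) (.lf 0)) (.nd (.lf 50887) (.lf 0))) (.nd (.nd (.lf 27206) (.lf 0)) (.nd (.lf 114822) (.lf 0)))) (.nd (.nd (.nd (.lf 17799) (.lf 0)) (.nd (.lf 84485) (.lf 0))) (.nd (.nd (.lf 38019) (.lf 0)) (.nd (.lf 120195) (.lf 0)))))) (.nd (.nd (.nd (.nd (.nd (.lf 4103) (.lf 0)) (.nd (.lf 47877) (.lf 0))) (.nd (.nd (.lf 33159) (.lf 0)) (.nd (.lf 78595) (.lf 0)))) (.nd (.nd (.nd (.lf 15556) (.lf 0)) (.nd (.lf 61637) (.lf 0))) (.nd (.nd (.lf 35271) (.lf 0)) (.nd (.lf 108870) (.lf 0))))) (.nd (.nd (.nd (.nd (.lf 9926) (.lf 0)) (.nd (.lf 53959) (.lf 0))) (.nd (.nd (.lf 54470) (.lf 0)) (.nd (.lf 88261) (.lf 0)))) (.nd (.nd (.nd (.lf 52742) (.lf 0)) (.nd (.lf 91011)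 (.lf 0))) (.nd (.nd (.lf 44995) (.lf 0)) (.nd (.lf 118530) (.lf 0))))))))

/-- table part -/
def xT0_6 : Tr :=
  .nd (.nd (.nd (.nd (.nd (.nd (.nd (.nd (.lf 325) (.lf 0)) (.nd (.lf 42308) (.lf 0))) (.nd (.nd (.lf 25478) (.lf 0)) (.nd (.lf 99203) (.lf 0)))) (.nd (.nd (.nd (.lf 11205) (.lf 0)) (.nd (.lf 55556) (.lf 0))) (.nd (.nd (.lf 40327) (.lf 0)) (.nd (.lf 90627) (.lf 0))))) (.nd (.nd (.nd (.nd (.lf 5125) (.lf 0)) (.nd (.lf 49027) (.lf 0))) (.nd (.nd (.lf 38149) (.lf 0)) (.nd (.lf 82690) (.lf 0)))) (.nd (.nd (.nd (.lf 16903) (.lf 0)) (.nd (.lf 62851) (.lf 0))) (.nd (.nd (.lf 36162) (.lf 0)) (.nd (.lf 125570) (.lf 0)))))) (.nd (.nd (.nd (.nd (.nd (.lf 8196) (.lf 0)) (.nd (.lf 45506) (.lf 0))) (.nd (.nd (.lf 23492) (.lf 0)) (.nd (.lf 76035) (.lf 0)))) (.nd (.nd (.nd (.lf 15298) (.lf 0)) (.nd (.lf 58820)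 (.lf 0))) (.nd (.nd (.lf 32451) (.lf 0)) (.nd (.lf 97735) (.lf 0))))) (.nd (.nd (.nd (.nd (.lf 20167) (.lf 0)) (.nd (.lf 69125) (.lf 0))) (.nd (.nd (.lf 35269) (.lf 0)) (.nd (.lf 84676) (.lf 0)))) (.nd (.nd (.nd (.lf 18759) (.lf 0)) (.nd (.lf 88900) (.lf 0))) (.nd (.nd (.lf 39041) (.lf 0)) (.nd (.lf 127233) (.lf 0))))))) (.nd (.nd (.nd (.nd (.nd (.nd (.lf 4742) (.lf 0)) (.nd (.lf 43716) (.lf 0))) (.nd (.nd (.lf 22279) (.lf 0)) (.nd (.lf 74693) (.lf 0)))) (.nd (.nd (.nd (.lf 13634) (.lf 0)) (.nd (.lf 57222) (.lf 0))) (.nd (.nd (.lf 34439) (.lf 0)) (.nd (.lf 94082) (.lf 0))))) (.nd (.nd (.nd (.nd (.lf 6404) (.lf 0)) (.nd (.lf 50631) (.lf 0))) (.nd (.nd (.lf 33030) (.lf 0)) (.nd (.lf 106305) (.lf 0)))) (.nd (.nd (.nd (.lf 17669) (.lf 0)) (.nd (.lf 65795) (.lf 0))) (.nd (.nd (.lf 37700) (.lf 0)) (.nd (.lf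 105923) (.lf 0)))))) (.nd (.nd (.nd (.nd (.nd (.lf 3783) (.lf 0)) (.nd (.lf 72964) (.lf 0))) (.nd (.nd (.lf 24708) (.lf 0)) (.nd (.lf 78083) (.lf 0)))) (.nd (.nd (.nd (.lf 15365) (.lf 0)) (.nd (.lf 61316) (.lf 0))) (.nd (.nd (.lf 34438) (.lf 0)) (.nd (.lf 99970) (.lf 0))))) (.nd (.nd (.nd (.nd (.lf 9607) (.lf 0)) (.nd (.lf 53830) (.lf 0))) (.nd (.nd (.lf 58499) (.lf 0)) (.nd (.lf 87427) (.lf 0)))) (.nd (.nd (.nd (.lf 28614) (.lf 0)) (.nd (.lf 69570) (.lf 0))) (.nd (.nd (.lf 40518) (.lf 0)) (.nd (.lf 116420) (.lf 0)))))))) (.nd (.nd (.nd (.nd (.nd (.nd (.nd (.lf 3140) (.lf 0)) (.nd (.lf 54790) (.lf 0))) (.nd (.nd (.lf 21124) (.lf 0)) (.nd (.lf 73731) (.lf 0)))) (.nd (.nd (.nd (.lf 11590) (.lf 0)) (.nd (.lf 56388) (.lf 0))) (.nd (.nd (.lf 30727) (.lf 0)) (.nd (.lf 111622) (.lf 0))))) (.nd (.nd (.nd (.nd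 (.lf 5828) (.lf 0)) (.nd (.lf 49924) (.lf 0))) (.nd (.nd (.lf 39109) (.lf 0)) (.nd (.lf 80582) (.lf 0)))) (.nd (.nd (.nd (.lf 17286) (.lf 0)) (.nd (.lf 64710) (.lf 0))) (.nd (.nd (.lf 36997) (.lf 0)) (.nd (.lf 104134) (.lf 0)))))) (.nd (.nd (.nd (.nd (.nd (.lf 3268) (.lf 0)) (.nd (.lf 46471) (.lf 0))) (.nd (.nd (.lf 23942) (.lf 0)) (.nd (.lf 81477) (.lf 0)))) (.nd (.nd (.nd (.lf 14535) (.lf 0)) (.nd (.lf 59846) (.lf 0))) (.nd (.nd (.lf 33092) (.lf 0)) (.nd (.lf 98886) (.lf 0))))) (.nd (.nd (.nd (.nd (.lf 14663) (.lf 0)) (.nd (.lf 53252) (.lf 0))) (.nd (.nd (.lf 35268) (.lf 0)) (.nd (.lf 86211) (.lf 0)))) (.nd (.nd (.nd (.lf 19526) (.lf 0)) (.nd (.lf 80199) (.lf 0))) (.nd (.nd (.lf 39620) (.lf 0)) (.nd (.lf 112581) (.lf 0))))))) (.nd (.nd (.nd (.nd (.nd (.nd (.lf 1926) (.lf 0)) (.nd (.lf 44485) (.lf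 0))) (.nd (.nd (.lf 23047) (.lf 0)) (.nd (.lf 102212) (.lf 0)))) (.nd (.nd (.nd (.lf 13124) (.lf 0)) (.nd (.lf 57797) (.lf 0))) (.nd (.nd (.lf 78919) (.lf 0)) (.nd (.lf 107398) (.lf 0))))) (.nd (.nd (.nd (.nd (.lf 7364) (.lf 0)) (.nd (.lf 51143) (.lf 0))) (.nd (.nd (.lf 27460) (.lf 0)) (.nd (.lf 85956) (.lf 0)))) (.nd (.nd (.nd (.lf 18052) (.lf 0)) (.nd (.lf 66372) (.lf 0))) (.nd (.nd (.lf 38467) (.lf 0)) (.nd (.lf 107719) (.lf 0)))))) (.nd (.nd (.nd (.nd (.nd (.lf 4865) (.lf 0)) (.nd (.lf 54342) (.lf 0))) (.nd (.nd (.lf 25350) (.lf 0)) (.nd (.lf 116997) (.lf 0)))) (.nd (.nd (.nd (.lf 15813) (.lf 0)) (.nd (.lf 61958) (.lf 0))) (.nd (.nd (.lf 35525) (.lf 0)) (.nd (.lf 101252) (.lf 0))))) (.nd (.nd (.nd (.nd (.lf 10118) (.lf 0)) (.nd (.lf 54531) (.lf 0))) (.nd (.nd (.lf 49351) (.lf 0)) (.nd (.lf 88838)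 (.lf 0)))) (.nd (.nd (.nd (.lf 21635) (.lf 0)) (.nd (.lf 71236) (.lf 0))) (.nd (.nd (.lf 41284) (.lf 0)) (.nd (.lf 123908) (.lf 0))))))))

/-- table part -/
def xT0_7 : Tr :=
  .nd (.nd (.nd (.nd (.nd (.nd (.nd (.nd (.lf 196) (.lf 126853)) (.nd (.lf 42052) (.lf 0))) (.nd (.nd (.lf 20613) (.lf 0)) (.nd (.lf 72900) (.lf 0)))) (.nd (.nd (.nd (.lf 11077) (.lf 0)) (.nd (.lf 55300) (.lf 0))) (.nd (.nd (.lf 30021) (.lf 0)) (.nd (.lf 90180) (.lf 0))))) (.nd (.nd (.nd (.nd (.lf 5315) (.lf 0)) (.nd (.lf 48772) (.lf 0))) (.nd (.nd (.lf 25797) (.lf 0)) (.nd (.lf 106052) (.lf 0)))) (.nd (.nd (.nd (.lf 16706) (.lf 0)) (.nd (.lf 62471) (.lf 0))) (.nd (.nd (.lf 35972) (.lf 0)) (.nd (.lf 111172) (.lf 0)))))) (.nd (.nd (.nd (.nd (.nd (.lf 7686) (.lf 0)) (.nd (.lf 60420) (.lf 0))) (.nd (.nd (.lf 23363) (.lf 0)) (.nd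 (.lf 102854) (.lf 0)))) (.nd (.nd (.nd (.lf 13318) (.lf 0)) (.nd (.lf 58438) (.lf 0))) (.nd (.nd (.lf 32197) (.lf 0)) (.nd (.lf 110788) (.lf 0))))) (.nd (.nd (.nd (.nd (.lf 7940) (.lf 0)) (.nd (.lf 64707) (.lf 0))) (.nd (.nd (.lf 27908) (.lf 0)) (.nd (.lf 84228) (.lf 0)))) (.nd (.nd (.nd (.lf 18628) (.lf 0)) (.nd (.lf 66946) (.lf 0))) (.nd (.nd (.lf 38917) (.lf 0)) (.nd (.lf 109571) (.lf 0))))))) (.nd (.nd (.nd (.nd (.nd (.nd (.lf 1222) (.lf 0)) (.nd (.lf 43460) (.lf 0))) (.nd (.nd (.lf 22023) (.lf 0)) (.nd (.lf 91399) (.lf 0)))) (.nd (.nd (.nd (.lf 12039) (.lf 0)) (.nd (.lf 57157) (.lf 0))) (.nd (.nd (.lf 51335) (.lf 0)) (.nd (.lf 93766) (.lf 0))))) (.nd (.nd (.nd (.nd (.lf 6214) (.lf 0)) (.nd (.lf 50437) (.lf 0))) (.nd (.nd (.lf 26884) (.lf 0)) (.nd (.lf 81541) (.lf 0)))) (.nd (.nd (.nd (.lf 17606)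 (.lf 0)) (.nd (.lf 87235) (.lf 0))) (.nd (.nd (.lf 37570) (.lf 0)) (.nd (.lf 105602) (.lf 0)))))) (.nd (.nd (.nd (.nd (.nd (.lf 3654) (.lf 0)) (.nd (.lf 47175) (.lf 0))) (.nd (.nd (.lf 24580) (.lf 0)) (.nd (.lf 114823) (.lf 0)))) (.nd (.nd (.nd (.lf 15044) (.lf 0)) (.nd (.lf 60995) (.lf 0))) (.nd (.nd (.lf 34052) (.lf 0)) (.nd (.lf 121285) (.lf 0))))) (.nd (.nd (.nd (.nd (.lf 9543) (.lf 0)) (.nd (.lf 53575) (.lf 0))) (.nd (.nd (.lf 29061) (.lf 0)) (.nd (.lf 87172) (.lf 0)))) (.nd (.nd (.nd (.lf 19654) (.lf 0)) (.nd (.lf 69380) (.lf 0))) (.nd (.nd (.lf 60549) (.lf 0)) (.nd (.lf 115525) (.lf 0)))))))) (.nd (.nd (.nd (.nd (.nd (.nd (.nd (.lf 646) (.lf 0)) (.nd (.lf 42883) (.lf 0))) (.nd (.nd (.lf 26310) (.lf 0)) (.nd (.lf 113282) (.lf 0)))) (.nd (.nd (.nd (.lf 11525) (.lf 0)) (.nd (.lf 56070) (.lf 0)))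 (.nd (.nd (.lf 38084) (.lf 0)) (.nd (.lf 91906) (.lf 0))))) (.nd (.nd (.nd (.nd (.lf 5763) (.lf 0)) (.nd (.lf 49478) (.lf 0))) (.nd (.nd (.lf 26308) (.lf 0)) (.nd (.lf 80391) (.lf 0)))) (.nd (.nd (.nd (.lf 17222) (.lf 0)) (.nd (.lf 64132) (.lf 0))) (.nd (.nd (.lf 36742) (.lf 0)) (.nd (.lf 126852) (.lf 0)))))) (.nd (.nd (.nd (.nd (.nd (.lf 3524) (.lf 0)) (.nd (.lf 46402) (.lf 0))) (.nd (.nd (.lf 23815) (.lf 0)) (.nd (.lf 76675) (.lf 0)))) (.nd (.nd (.nd (.lf 16069) (.lf 0)) (.nd (.lf 59780) (.lf 0))) (.nd (.nd (.lf 32901) (.lf 0)) (.nd (.lf 114820) (.lf 0))))) (.nd (.nd (.nd (.nd (.lf 10759) (.lf 0)) (.nd (.lf 52996) (.lf 0))) (.nd (.nd (.lf 28485) (.lf 0)) (.nd (.lf 85830) (.lf 0)))) (.nd (.nd (.nd (.lf 19331) (.lf 0)) (.nd (.lf 68100) (.lf 0))) (.nd (.nd (.lf 39428) (.lf 0)) (.nd (.lf 112258) (.lf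 0))))))) (.nd (.nd (.nd (.nd (.nd (.nd (.lf 1861) (.lf 0)) (.nd (.lf 44228) (.lf 0))) (.nd (.nd (.lf 22789) (.lf 0)) (.nd (.lf 75331) (.lf 0)))) (.nd (.nd (.nd (.lf 12805) (.lf 0)) (.nd (.lf 57731) (.lf 0))) (.nd (.nd (.lf 78087) (.lf 0)) (.nd (.lf 107335) (.lf 0))))) (.nd (.nd (.nd (.nd (.lf 7174) (.lf 0)) (.nd (.lf 51015) (.lf 0))) (.nd (.nd (.lf 27271) (.lf 0)) (.nd (.lf 95492) (.lf 0)))) (.nd (.nd (.nd (.lf 17926) (.lf 0)) (.nd (.lf 66244) (.lf 0))) (.nd (.nd (.lf 38212) (.lf 0)) (.nd (.lf 107399) (.lf 0)))))) (.nd (.nd (.nd (.nd (.nd (.lf 12038) (.lf 0)) (.nd (.lf 47943) (.lf 0))) (.nd (.nd (.lf 36548) (.lf 0)) (.nd (.lf 78851) (.lf 0)))) (.nd (.nd (.nd (.lf 15623) (.lf 0)) (.nd (.lf 61767) (.lf 0))) (.nd (.nd (.lf 35399) (.lf 0)) (.nd (.lf 100929) (.lf 0))))) (.nd (.nd (.nd (.nd (.lf 9991) (.lf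 0)) (.nd (.lf 54151) (.lf 0))) (.nd (.nd (.lf 68678) (.lf 0)) (.nd (.lf 88519) (.lf 0)))) (.nd (.nd (.nd (.lf 20099) (.lf 0)) (.nd (.lf 89157) (.lf 0))) (.nd (.nd (.lf 41157) (.lf 0)) (.nd (.lf 127108) (.lf 0))))))))

/-- table part -/
def xT0_8 : Tr :=
  .nd (.nd (.nd (.nd (.nd (.nd (.nd (.nd (.lf 390) (.lf 0)) (.nd (.lf 42436) (.lf 0))) (.nd (.nd (.lf 20804) (.lf 0)) (.nd (.lf 113284) (.lf 0)))) (.nd (.nd (.nd (.lf 11332) (.lf 0)) (.nd (.lf 55494) (.lf 0))) (.nd (.nd (.lf 40323) (.lf 0)) (.nd (.lf 90756) (.lf 0))))) (.nd (.nd (.nd (.nd (.lf 8963) (.lf 0)) (.nd (.lf 58375) (.lf 0))) (.nd (.nd (.lf 26054) (.lf 0)) (.nd (.lf 80133) (.lf 0)))) (.nd (.nd (.nd (.lf 16967) (.lf 0)) (.nd (.lf 63364) (.lf 0))) (.nd (.nd (.lf 36359) (.lf 0)) (.nd (.lf 122244) (.lf 0)))))) (.nd (.nd (.nd (.nd (.nd (.lf 2885)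 (.lf 0)) (.nd (.lf 45764) (.lf 0))) (.nd (.nd (.lf 23620) (.lf 0)) (.nd (.lf 76227) (.lf 0)))) (.nd (.nd (.nd (.lf 16071) (.lf 0)) (.nd (.lf 58949) (.lf 0))) (.nd (.nd (.lf 32516) (.lf 0)) (.nd (.lf 115587) (.lf 0))))) (.nd (.nd (.nd (.nd (.lf 20487) (.lf 0)) (.nd (.lf 105095) (.lf 0))) (.nd (.nd (.lf 28228) (.lf 0)) (.nd (.lf 85126) (.lf 0)))) (.nd (.nd (.nd (.lf 44291) (.lf 0)) (.nd (.lf 67522) (.lf 0))) (.nd (.nd (.lf 39172) (.lf 0)) (.nd (.lf 110661) (.lf 0))))))) (.nd (.nd (.nd (.nd (.nd (.nd (.lf 1543) (.lf 0)) (.nd (.lf 43972) (.lf 0))) (.nd (.nd (.lf 22471) (.lf 0)) (.nd (.lf 74759) (.lf 0)))) (.nd (.nd (.nd (.lf 12484) (.lf 0)) (.nd (.lf 57287) (.lf 0))) (.nd (.nd (.lf 41155) (.lf 0)) (.nd (.lf 94722) (.lf 0))))) (.nd (.nd (.nd (.nd (.lf 6914) (.lf 0)) (.nd (.lf 50756) (.lf 0))) (.nd (.nd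 (.lf 27142) (.lf 0)) (.nd (.lf 90564) (.lf 0)))) (.nd (.nd (.nd (.lf 17734) (.lf 0)) (.nd (.lf 79491) (.lf 0))) (.nd (.nd (.lf 37828) (.lf 0)) (.nd (.lf 127237) (.lf 0)))))) (.nd (.nd (.nd (.nd (.nd (.lf 3911) (.lf 0)) (.nd (.lf 47809) (.lf 0))) (.nd (.nd (.lf 24775) (.lf 0)) (.nd (.lf 80711) (.lf 0)))) (.nd (.nd (.nd (.lf 15430) (.lf 0)) (.nd (.lf 61446) (.lf 0))) (.nd (.nd (.lf 38278) (.lf 0)) (.nd (.lf 100294) (.lf 0))))) (.nd (.nd (.nd (.nd (.lf 9798) (.lf 0)) (.nd (.lf 53893) (.lf 0))) (.nd (.nd (.lf 29191) (.lf 0)) (.nd (.lf 87623) (.lf 0)))) (.nd (.nd (.nd (.lf 52483) (.lf 0)) (.nd (.lf 85767) (.lf 0))) (.nd (.nd (.lf 40835) (.lf 0)) (.nd (.lf 123717) (.lf 0)))))))) (.nd (.nd (.nd (.nd (.nd (.nd (.nd (.lf 965) (.lf 0)) (.nd (.lf 43207) (.lf 0))) (.nd (.nd (.lf 21895) (.lf 0)) (.nd (.lf 93574)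 (.lf 0)))) (.nd (.nd (.nd (.lf 11779) (.lf 0)) (.nd (.lf 56708) (.lf 0))) (.nd (.nd (.lf 30791) (.lf 0)) (.nd (.lf 92804) (.lf 0))))) (.nd (.nd (.nd (.nd (.lf 5895) (.lf 0)) (.nd (.lf 50306) (.lf 0))) (.nd (.nd (.lf 26564) (.lf 0)) (.nd (.lf 80647) (.lf 0)))) (.nd (.nd (.nd (.lf 17350) (.lf 0)) (.nd (.lf 87940) (.lf 0))) (.nd (.nd (.lf 37316) (.lf 0)) (.nd (.lf 124677) (.lf 0)))))) (.nd (.nd (.nd (.nd (.nd (.lf 3334) (.lf 0)) (.nd (.lf 46917) (.lf 0))) (.nd (.nd (.lf 24069) (.lf 0)) (.nd (.lf 77635) (.lf 0)))) (.nd (.nd (.nd (.lf 14791) (.lf 0)) (.nd (.lf 60101) (.lf 0))) (.nd (.nd (.lf 33540) (.lf 0)) (.nd (.lf 130499) (.lf 0))))) (.nd (.nd (.nd (.nd (.lf 9156) (.lf 0)) (.nd (.lf 53318) (.lf 0))) (.nd (.nd (.lf 28868) (.lf 0)) (.nd (.lf 86659) (.lf 0)))) (.nd (.nd (.nd (.lf 19461) (.lf 0)) (.nd (.lf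 68867) (.lf 0))) (.nd (.nd (.lf 39879) (.lf 0)) (.nd (.lf 113729) (.lf 0))))))) (.nd (.nd (.nd (.nd (.nd (.nd (.lf 2118) (.lf 0)) (.nd (.lf 44740) (.lf 0))) (.nd (.nd (.lf 23111) (.lf 0)) (.nd (.lf 75587) (.lf 0)))) (.nd (.nd (.nd (.lf 13061) (.lf 0)) (.nd (.lf 57924) (.lf 0))) (.nd (.nd (.lf 36295) (.lf 0)) (.nd (.lf 96133) (.lf 0))))) (.nd (.nd (.nd (.nd (.lf 7685) (.lf 0)) (.nd (.lf 51524) (.lf 0))) (.nd (.nd (.lf 27527) (.lf 0)) (.nd (.lf 83205) (.lf 0)))) (.nd (.nd (.nd (.lf 18306) (.lf 0)) (.nd (.lf 66499) (.lf 0))) (.nd (.nd (.lf 38597) (.lf 0)) (.nd (.lf 108482) (.lf 0)))))) (.nd (.nd (.nd (.nd (.nd (.lf 4741) (.lf 0)) (.nd (.lf 54407) (.lf 0))) (.nd (.nd (.lf 25476) (.lf 0)) (.nd (.lf 85057) (.lf 0)))) (.nd (.nd (.nd (.lf 16131) (.lf 0)) (.nd (.lf 62212) (.lf 0))) (.nd (.nd (.lf 35716) (.lf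 0)) (.nd (.lf 101956) (.lf 0))))) (.nd (.nd (.nd (.nd (.lf 10436) (.lf 0)) (.nd (.lf 109252) (.lf 0))) (.nd (.nd (.lf 29700) (.lf 0)) (.nd (.lf 89286) (.lf 0)))) (.nd (.nd (.nd (.lf 20294) (.lf 0)) (.nd (.lf 89478) (.lf 0))) (.nd (.nd (.lf 41479) (.lf 0)) (.nd (.lf 126212) (.lf 0))))))))

/-- table part -/
def xT0_9 : Tr :=
  .nd (.nd (.nd (.nd (.nd (.nd (.nd (.nd (.lf 263) (.lf 123271)) (.nd (.lf 41734) (.lf 0))) (.nd (.nd (.lf 35143) (.lf 0)) (.nd (.lf 72004) (.lf 0)))) (.nd (.nd (.nd (.lf 10628) (.lf 0)) (.nd (.lf 60548) (.lf 0))) (.nd (.nd (.lf 29891) (.lf 0)) (.nd (.lf 89862) (.lf 0))))) (.nd (.nd (.nd (.nd (.lf 4743) (.lf 0)) (.nd (.lf 81479) (.lf 0))) (.nd (.nd (.lf 25543) (.lf 0)) (.nd (.lf 79364) (.lf 0)))) (.nd (.nd (.nd (.lf 16262) (.lf 0)) (.nd (.lf 62402) (.lf 0))) (.nd (.nd (.lf 35783)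 (.lf 0)) (.nd (.lf 102471) (.lf 0)))))) (.nd (.nd (.nd (.nd (.nd (.lf 2183) (.lf 0)) (.nd (.lf 44871) (.lf 0))) (.nd (.nd (.lf 23175) (.lf 0)) (.nd (.lf 123267) (.lf 0)))) (.nd (.nd (.nd (.lf 14275) (.lf 0)) (.nd (.lf 57989) (.lf 0))) (.nd (.nd (.lf 79815) (.lf 0)) (.nd (.lf 113477) (.lf 0))))) (.nd (.nd (.nd (.nd (.lf 7687) (.lf 0)) (.nd (.lf 60225) (.lf 0))) (.nd (.nd (.lf 27654) (.lf 0)) (.nd (.lf 83587) (.lf 0)))) (.nd (.nd (.nd (.lf 18311) (.lf 0)) (.nd (.lf 66566) (.lf 0))) (.nd (.nd (.lf 38725) (.lf 0)) (.nd (.lf 115524) (.lf 0))))))) (.nd (.nd (.nd (.nd (.nd (.nd (.lf 1153) (.lf 0)) (.nd (.lf 59590) (.lf 0))) (.nd (.nd (.lf 24899) (.lf 0)) (.nd (.lf 85061) (.lf 0)))) (.nd (.nd (.nd (.lf 11843) (.lf 0)) (.nd (.lf 56901) (.lf 0))) (.nd (.nd (.lf 30916) (.lf 0)) (.nd (.lf 114631) (.lf 0))))) (.nd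 (.nd (.nd (.nd (.lf 6023) (.lf 0)) (.nd (.lf 51012) (.lf 0))) (.nd (.nd (.lf 26630) (.lf 0)) (.nd (.lf 81028) (.lf 0)))) (.nd (.nd (.nd (.lf 17414) (.lf 0)) (.nd (.lf 85571) (.lf 0))) (.nd (.nd (.lf 37445) (.lf 0)) (.nd (.lf 105090) (.lf 0)))))) (.nd (.nd (.nd (.nd (.nd (.lf 3460) (.lf 0)) (.nd (.lf 46983) (.lf 0))) (.nd (.nd (.lf 24133) (.lf 0)) (.nd (.lf 77318) (.lf 0)))) (.nd (.nd (.nd (.lf 14855) (.lf 0)) (.nd (.lf 60294) (.lf 0))) (.nd (.nd (.lf 33732) (.lf 0)) (.nd (.lf 99653) (.lf 0))))) (.nd (.nd (.nd (.nd (.lf 10757) (.lf 0)) (.nd (.lf 64071) (.lf 0))) (.nd (.nd (.lf 28934) (.lf 0)) (.nd (.lf 86851) (.lf 0)))) (.nd (.nd (.nd (.lf 19524) (.lf 0)) (.nd (.lf 69186) (.lf 0))) (.nd (.nd (.lf 39942) (.lf 0)) (.nd (.lf 114177) (.lf 0)))))))) (.nd (.nd (.nd (.nd (.nd (.nd (.nd (.lf 518) (.lf 0)) (.nd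 (.lf 42628) (.lf 0))) (.nd (.nd (.lf 25283) (.lf 0)) (.nd (.lf 77699) (.lf 0)))) (.nd (.nd (.nd (.lf 11398) (.lf 0)) (.nd (.lf 89798) (.lf 0))) (.nd (.nd (.lf 30854) (.lf 0)) (.nd (.lf 91014) (.lf 0))))) (.nd (.nd (.nd (.nd (.lf 5509) (.lf 0)) (.nd (.lf 49158) (.lf 0))) (.nd (.nd (.lf 26117) (.lf 0)) (.nd (.lf 80134) (.lf 0)))) (.nd (.nd (.nd (.lf 17031) (.lf 0)) (.nd (.lf 89030) (.lf 0))) (.nd (.nd (.lf 36551) (.lf 0)) (.nd (.lf 103301) (.lf 0)))))) (.nd (.nd (.nd (.nd (.nd (.lf 2887) (.lf 0)) (.nd (.lf 58694) (.lf 0))) (.nd (.nd (.lf 23686) (.lf 0)) (.nd (.lf 96069) (.lf 0)))) (.nd (.nd (.nd (.lf 16451) (.lf 0)) (.nd (.lf 59331) (.lf 0))) (.nd (.nd (.lf 32771) (.lf 0)) (.nd (.lf 99076) (.lf 0))))) (.nd (.nd (.nd (.nd (.lf 8389) (.lf 0)) (.nd (.lf 52804) (.lf 0))) (.nd (.nd (.lf 28355) (.lf 0)) (.nd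 (.lf 85573) (.lf 0)))) (.nd (.nd (.nd (.lf 20161) (.lf 0)) (.nd (.lf 67783) (.lf 0))) (.nd (.nd (.lf 39238) (.lf 0)) (.nd (.lf 111238) (.lf 0))))))) (.nd (.nd (.nd (.nd (.nd (.nd (.lf 5507) (.lf 0)) (.nd (.lf 44100) (.lf 0))) (.nd (.nd (.lf 22596) (.lf 0)) (.nd (.lf 74948) (.lf 0)))) (.nd (.nd (.nd (.lf 12675) (.lf 0)) (.nd (.lf 57538) (.lf 0))) (.nd (.nd (.lf 46596) (.lf 0)) (.nd (.lf 94916) (.lf 0))))) (.nd (.nd (.nd (.nd (.lf 6919) (.lf 0)) (.nd (.lf 50885) (.lf 0))) (.nd (.nd (.lf 27205) (.lf 0)) (.nd (.lf 82370) (.lf 0)))) (.nd (.nd (.nd (.lf 17798) (.lf 0)) (.nd (.lf 84486) (.lf 0))) (.nd (.nd (.lf 37956) (.lf 0)) (.nd (.lf 118979) (.lf 0)))))) (.nd (.nd (.nd (.nd (.nd (.lf 4037) (.lf 0)) (.nd (.lf 47815) (.lf 0))) (.nd (.nd (.lf 33286) (.lf 0)) (.nd (.lf 80709) (.lf 0)))) (.nd (.nd (.nd (.lf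 15495) (.lf 0)) (.nd (.lf 61635) (.lf 0))) (.nd (.nd (.lf 35270) (.lf 0)) (.nd (.lf 100674) (.lf 0))))) (.nd (.nd (.nd (.nd (.lf 9925) (.lf 0)) (.nd (.lf 53958) (.lf 0))) (.nd (.nd (.lf 29318) (.lf 0)) (.nd (.lf 88258) (.lf 0)))) (.nd (.nd (.nd (.lf 32647) (.lf 0)) (.nd (.lf 70404) (.lf 0))) (.nd (.nd (.lf 40903) (.lf 0)) (.nd (.lf 118467) (.lf 0))))))))

/-- table part -/
def xT0_10 : Tr :=
  .nd (.nd (.nd (.nd (.nd (.nd (.nd (.nd (.lf 323) (.lf 128258)) (.nd (.lf 42244) (.lf 0))) (.nd (.nd (.lf 20676) (.lf 0)) (.nd (.lf 72641) (.lf 0)))) (.nd (.nd (.nd (.lf 15364) (.lf 0)) (.nd (.lf 55427) (.lf 0))) (.nd (.nd (.lf 63943) (.lf 0)) (.nd (.lf 90500) (.lf 0))))) (.nd (.nd (.nd (.nd (.lf 13891) (.lf 0)) (.nd (.lf 48964) (.lf 0))) (.nd (.nd (.lf 25922) (.lf 0)) (.nd (.lf 105094) (.lf 0)))) (.nd (.nd (.nd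 (.lf 16902) (.lf 0)) (.nd (.lf 62787) (.lf 0))) (.nd (.nd (.lf 36037) (.lf 0)) (.nd (.lf 123399) (.lf 0)))))) (.nd (.nd (.nd (.nd (.nd (.lf 8070) (.lf 0)) (.nd (.lf 45445) (.lf 0))) (.nd (.nd (.lf 23428) (.lf 0)) (.nd (.lf 102853) (.lf 0)))) (.nd (.nd (.nd (.lf 13444) (.lf 0)) (.nd (.lf 58756) (.lf 0))) (.nd (.nd (.lf 32388) (.lf 0)) (.nd (.lf 97349) (.lf 0))))) (.nd (.nd (.nd (.nd (.lf 12551) (.lf 0)) (.nd (.lf 52293) (.lf 0))) (.nd (.nd (.lf 28036) (.lf 0)) (.nd (.lf 84673) (.lf 0)))) (.nd (.nd (.nd (.lf 18757) (.lf 0)) (.nd (.lf 89031) (.lf 0))) (.nd (.nd (.lf 38980) (.lf 0)) (.nd (.lf 110211) (.lf 0))))))) (.nd (.nd (.nd (.nd (.nd (.nd (.lf 1473) (.lf 0)) (.nd (.lf 43588) (.lf 0))) (.nd (.nd (.lf 22278) (.lf 0)) (.nd (.lf 74690) (.lf 0)))) (.nd (.nd (.nd (.lf 21189) (.lf 0)) (.nd (.lf 57221) (.lf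 0))) (.nd (.nd (.lf 55943) (.lf 0)) (.nd (.lf 96897) (.lf 0))))) (.nd (.nd (.nd (.nd (.lf 6340) (.lf 0)) (.nd (.lf 50628) (.lf 0))) (.nd (.nd (.lf 26950) (.lf 0)) (.nd (.lf 100291) (.lf 0)))) (.nd (.nd (.nd (.lf 17730) (.lf 0)) (.nd (.lf 81990) (.lf 0))) (.nd (.nd (.lf 37575) (.lf 0)) (.nd (.lf 105794) (.lf 0)))))) (.nd (.nd (.nd (.nd (.nd (.lf 3781) (.lf 0)) (.nd (.lf 47428) (.lf 0))) (.nd (.nd (.lf 24647) (.lf 0)) (.nd (.lf 78086) (.lf 0)))) (.nd (.nd (.nd (.lf 15362) (.lf 0)) (.nd (.lf 61255) (.lf 0))) (.nd (.nd (.lf 42311) (.lf 0)) (.nd (.lf 99907) (.lf 0))))) (.nd (.nd (.nd (.nd (.lf 9606) (.lf 0)) (.nd (.lf 53829) (.lf 0))) (.nd (.nd (.lf 29125) (.lf 0)) (.nd (.lf 87364) (.lf 0)))) (.nd (.nd (.nd (.lf 51975) (.lf 0)) (.nd (.lf 69509) (.lf 0))) (.nd (.nd (.lf 40452) (.lf 0)) (.nd (.lf 116359)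 (.lf 0)))))))) (.nd (.nd (.nd (.nd (.nd (.nd (.nd (.lf 773) (.lf 0)) (.nd (.lf 43012) (.lf 0))) (.nd (.nd (.lf 21062) (.lf 0)) (.nd (.lf 73668) (.lf 0)))) (.nd (.nd (.nd (.lf 11588) (.lf 0)) (.nd (.lf 56326) (.lf 0))) (.nd (.nd (.lf 30725) (.lf 0)) (.nd (.lf 111619) (.lf 0))))) (.nd (.nd (.nd (.nd (.lf 5767) (.lf 0)) (.nd (.lf 49860) (.lf 0))) (.nd (.nd (.lf 39111) (.lf 0)) (.nd (.lf 84739) (.lf 0)))) (.nd (.nd (.nd (.lf 17285) (.lf 0)) (.nd (.lf 64386) (.lf 0))) (.nd (.nd (.lf 36995) (.lf 0)) (.nd (.lf 106628) (.lf 0)))))) (.nd (.nd (.nd (.nd (.nd (.lf 3203) (.lf 0)) (.nd (.lf 46407) (.lf 0))) (.nd (.nd (.lf 23940) (.lf 0)) (.nd (.lf 81478) (.lf 0)))) (.nd (.nd (.nd (.lf 14658) (.lf 0)) (.nd (.lf 59845) (.lf 0))) (.nd (.nd (.lf 33031) (.lf 0)) (.nd (.lf 99394) (.lf 0))))) (.nd (.nd (.nd (.nd (.lf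 10692) (.lf 0)) (.nd (.lf 53190) (.lf 0))) (.nd (.nd (.lf 28551) (.lf 0)) (.nd (.lf 86147) (.lf 0)))) (.nd (.nd (.nd (.lf 19335) (.lf 0)) (.nd (.lf 68419) (.lf 0))) (.nd (.nd (.lf 39558) (.lf 0)) (.nd (.lf 112577) (.lf 0))))))) (.nd (.nd (.nd (.nd (.nd (.nd (.lf 1924) (.lf 0)) (.nd (.lf 44483) (.lf 0))) (.nd (.nd (.lf 23046) (.lf 0)) (.nd (.lf 75459) (.lf 0)))) (.nd (.nd (.nd (.lf 32199) (.lf 0)) (.nd (.lf 57796) (.lf 0))) (.nd (.nd (.lf 32517) (.lf 0)) (.nd (.lf 95812) (.lf 0))))) (.nd (.nd (.nd (.nd (.lf 7300) (.lf 0)) (.nd (.lf 51142) (.lf 0))) (.nd (.nd (.lf 27398) (.lf 0)) (.nd (.lf 114630) (.lf 0)))) (.nd (.nd (.nd (.lf 17991) (.lf 0)) (.nd (.lf 88007) (.lf 0))) (.nd (.nd (.lf 38404) (.lf 0)) (.nd (.lf 111239) (.lf 0)))))) (.nd (.nd (.nd (.nd (.nd (.lf 12229) (.lf 0)) (.nd (.lf 54214) (.lf 0)))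 (.nd (.nd (.lf 25348) (.lf 0)) (.nd (.lf 78915) (.lf 0)))) (.nd (.nd (.nd (.lf 15811) (.lf 0)) (.nd (.lf 61895) (.lf 0))) (.nd (.nd (.lf 35523) (.lf 0)) (.nd (.lf 112455) (.lf 0))))) (.nd (.nd (.nd (.nd (.lf 10116) (.lf 0)) (.nd (.lf 54340) (.lf 0))) (.nd (.nd (.lf 64003) (.lf 0)) (.nd (.lf 88837) (.lf 0)))) (.nd (.nd (.nd (.lf 21570) (.lf 0)) (.nd (.lf 90692) (.lf 0))) (.nd (.nd (.lf 41222) (.lf 0)) (.nd (.lf 131268) (.lf 0))))))))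

/-- table part -/
def xT0_11 : Tr :=
  .nd (.nd (.nd (.nd (.nd (.nd (.nd (.nd (.lf 514) (.lf 126785)) (.nd (.lf 58055) (.lf 0))) (.nd (.nd (.lf 20611) (.lf 0)) (.nd (.lf 99396) (.lf 0)))) (.nd (.nd (.nd (.lf 11075) (.lf 0)) (.nd (.lf 70785) (.lf 0))) (.nd (.nd (.lf 29956) (.lf 0)) (.nd (.lf 90177) (.lf 0))))) (.nd (.nd (.nd (.nd (.lf 4871) (.lf 0)) (.nd (.lf 48708) (.lf 0))) (.nd (.nd (.lf 25795) (.lf 0)) (.nd (.lf 82693) (.lf 0)))) (.nd (.nd (.nd (.lf 16516) (.lf 0)) (.nd (.lf 62470) (.lf 0))) (.nd (.nd (.lf 35910) (.lf 0)) (.nd (.lf 129028) (.lf 0)))))) (.nd (.nd (.nd (.nd (.nd (.lf 2439) (.lf 0)) (.nd (.lf 45250) (.lf 0))) (.nd (.nd (.lf 23302) (.lf 0)) (.nd (.lf 122564) (.lf 0)))) (.nd (.nd (.nd (.lf 13317) (.lf 0)) (.nd (.lf 58436) (.lf 0))) (.nd (.nd (.lf 32132) (.lf 0)) (.nd (.lf 96770) (.lf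 0))))) (.nd (.nd (.nd (.nd (.lf 12742) (.lf 0)) (.nd (.lf 52101) (.lf 0))) (.nd (.nd (.lf 27847) (.lf 0)) (.nd (.lf 84036) (.lf 0)))) (.nd (.nd (.nd (.lf 18564) (.lf 0)) (.nd (.lf 66822) (.lf 0))) (.nd (.nd (.lf 38915) (.lf 0)) (.nd (.lf 109314) (.lf 0))))))) (.nd (.nd (.nd (.nd (.nd (.nd (.lf 1221) (.lf 0)) (.nd (.lf 43399) (.lf 0))) (.nd (.nd (.lf 32962) (.lf 0)) (.nd (.lf 74563) (.lf 0)))) (.nd (.nd (.nd (.lf 12036) (.lf 0)) (.nd (.lf 57155) (.lf 0))) (.nd (.nd (.lf 51973) (.lf 0)) (.nd (.lf 109255) (.lf 0))))) (.nd (.nd (.nd (.nd (.lf 6151) (.lf 0)) (.nd (.lf 74692) (.lf 0))) (.nd (.nd (.lf 26820) (.lf 0)) (.nd (.lf 81475) (.lf 0)))) (.nd (.nd (.nd (.lf 17603) (.lf 0)) (.nd (.lf 65351) (.lf 0))) (.nd (.nd (.lf 37510) (.lf 0)) (.nd (.lf 129667) (.lf 0)))))) (.nd (.nd (.nd (.nd (.nd (.lf 3590) (.lf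 0)) (.nd (.lf 47111) (.lf 0))) (.nd (.nd (.lf 24452) (.lf 0)) (.nd (.lf 99079) (.lf 0)))) (.nd (.nd (.nd (.lf 14982) (.lf 0)) (.nd (.lf 60930) (.lf 0))) (.nd (.nd (.lf 33988) (.lf 0)) (.nd (.lf 99651) (.lf 0))))) (.nd (.nd (.nd (.nd (.lf 14083) (.lf 0)) (.nd (.lf 53574) (.lf 0))) (.nd (.nd (.lf 29059) (.lf 0)) (.nd (.lf 87169) (.lf 0)))) (.nd (.nd (.nd (.lf 19652) (.lf 0)) (.nd (.lf 69378) (.lf 0))) (.nd (.nd (.lf 40196) (.lf 0)) (.nd (.lf 115075) (.lf 0)))))))) (.nd (.nd (.nd (.nd (.nd (.nd (.nd (.lf 582) (.lf 0)) (.nd (.lf 42756) (.lf 0))) (.nd (.nd (.lf 20998) (.lf 0)) (.nd (.lf 101060) (.lf 0)))) (.nd (.nd (.nd (.lf 14851) (.lf 0)) (.nd (.lf 56069) (.lf 0))) (.nd (.nd (.lf 52550) (.lf 0)) (.nd (.lf 91395) (.lf 0))))) (.nd (.nd (.nd (.nd (.lf 14661) (.lf 0)) (.nd (.lf 49477) (.lf 0))) (.nd (.nd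 (.lf 26305) (.lf 0)) (.nd (.lf 84743) (.lf 0)))) (.nd (.nd (.nd (.lf 17219) (.lf 0)) (.nd (.lf 64067) (.lf 0))) (.nd (.nd (.lf 36740) (.lf 0)) (.nd (.lf 124295) (.lf 0)))))) (.nd (.nd (.nd (.nd (.nd (.lf 8902) (.lf 0)) (.nd (.lf 46343) (.lf 0))) (.nd (.nd (.lf 23814) (.lf 0)) (.nd (.lf 77058) (.lf 0)))) (.nd (.nd (.nd (.lf 14148) (.lf 0)) (.nd (.lf 59777) (.lf 0))) (.nd (.nd (.lf 32899) (.lf 0)) (.nd (.lf 120198) (.lf 0))))) (.nd (.nd (.nd (.nd (.lf 10819) (.lf 0)) (.nd (.lf 58946) (.lf 0))) (.nd (.nd (.lf 28483) (.lf 0)) (.nd (.lf 85703) (.lf 0)))) (.nd (.nd (.nd (.lf 19268) (.lf 0)) (.nd (.lf 69575) (.lf 0))) (.nd (.nd (.lf 39364) (.lf 0)) (.nd (.lf 112194) (.lf 0))))))) (.nd (.nd (.nd (.nd (.nd (.nd (.lf 1798) (.lf 0)) (.nd (.lf 44167) (.lf 0))) (.nd (.nd (.lf 22787) (.lf 0)) (.nd (.lf 75267) (.lf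 0)))) (.nd (.nd (.nd (.lf 31558) (.lf 0)) (.nd (.lf 57668) (.lf 0))) (.nd (.nd (.lf 50565) (.lf 0)) (.nd (.lf 110406) (.lf 0))))) (.nd (.nd (.nd (.nd (.lf 7173) (.lf 0)) (.nd (.lf 76803) (.lf 0))) (.nd (.nd (.lf 27270) (.lf 0)) (.nd (.lf 82627) (.lf 0)))) (.nd (.nd (.nd (.lf 17924) (.lf 0)) (.nd (.lf 89797) (.lf 0))) (.nd (.nd (.lf 38087) (.lf 0)) (.nd (.lf 125634) (.lf 0)))))) (.nd (.nd (.nd (.nd (.nd (.lf 4292) (.lf 0)) (.nd (.lf 47940) (.lf 0))) (.nd (.nd (.lf 33093) (.lf 0)) (.nd (.lf 78787) (.lf 0)))) (.nd (.nd (.nd (.lf 15622) (.lf 0)) (.nd (.lf 61765) (.lf 0))) (.nd (.nd (.lf 35396) (.lf 0)) (.nd (.lf 105858) (.lf 0))))) (.nd (.nd (.nd (.nd (.lf 9990) (.lf 0)) (.nd (.lf 54149) (.lf 0))) (.nd (.nd (.lf 29444) (.lf 0)) (.nd (.lf 88517) (.lf 0)))) (.nd (.nd (.nd (.lf 53511) (.lf 0)) (.nd (.lf 86661)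 (.lf 0))) (.nd (.nd (.lf 41095) (.lf 0)) (.nd (.lf 130693) (.lf 0))))))))

/-- table part -/
def xT0_12 : Tr :=
  .nd (.nd (.nd (.nd (.nd (.nd (.nd (.nd (.lf 389) (.lf 0)) (.nd (.lf 62149) (.lf 0))) (.nd (.nd (.lf 40390) (.lf 0)) (.nd (.lf 72708) (.lf 0)))) (.nd (.nd (.nd (.lf 11268) (.lf 0)) (.nd (.lf 55493) (.lf 0))) (.nd (.nd (.lf 50054) (.lf 0)) (.nd (.lf 90754) (.lf 0))))) (.nd (.nd (.nd (.nd (.lf 14087) (.lf 0)) (.nd (.lf 58372) (.lf 0))) (.nd (.nd (.lf 25991) (.lf 0)) (.nd (.lf 79812) (.lf 0)))) (.nd (.nd (.nd (.lf 16966) (.lf 0)) (.nd (.lf 63172) (.lf 0))) (.nd (.nd (.lf 36358) (.lf 0)) (.nd (.lf 103042) (.lf 0)))))) (.nd (.nd (.nd (.nd (.nd (.lf 8647) (.lf 0)) (.nd (.lf 45703) (.lf 0))) (.nd (.nd (.lf 23559) (.lf 0)) (.nd (.lf 76101) (.lf 0)))) (.nd (.nd (.nd (.lf 14211) (.lf 0)) (.nd (.lf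 58948) (.lf 0))) (.nd (.nd (.lf 32455) (.lf 0)) (.nd (.lf 108036) (.lf 0))))) (.nd (.nd (.nd (.nd (.lf 8197) (.lf 0)) (.nd (.lf 72453) (.lf 0))) (.nd (.nd (.lf 37123) (.lf 0)) (.nd (.lf 84742) (.lf 0)))) (.nd (.nd (.nd (.lf 48582) (.lf 0)) (.nd (.lf 67399) (.lf 0))) (.nd (.nd (.lf 39110) (.lf 0)) (.nd (.lf 110658) (.lf 0))))))) (.nd (.nd (.nd (.nd (.nd (.nd (.lf 5124) (.lf 0)) (.nd (.lf 43908) (.lf 0))) (.nd (.nd (.lf 22470) (.lf 0)) (.nd (.lf 74758) (.lf 0)))) (.nd (.nd (.nd (.lf 16390) (.lf 0)) (.nd (.lf 57285) (.lf 0))) (.nd (.nd (.lf 41606) (.lf 0)) (.nd (.lf 114887) (.lf 0))))) (.nd (.nd (.nd (.nd (.lf 6852) (.lf 0)) (.nd (.lf 50694) (.lf 0))) (.nd (.nd (.lf 27201) (.lf 0)) (.nd (.lf 81924) (.lf 0)))) (.nd (.nd (.nd (.lf 17733) (.lf 0)) (.nd (.lf 79494) (.lf 0))) (.nd (.nd (.lf 37826) (.lf 0))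 (.nd (.lf 106050) (.lf 0)))))) (.nd (.nd (.nd (.nd (.nd (.lf 3909) (.lf 0)) (.nd (.lf 64006) (.lf 0))) (.nd (.nd (.lf 24774) (.lf 0)) (.nd (.lf 78275) (.lf 0)))) (.nd (.nd (.nd (.lf 15428) (.lf 0)) (.nd (.lf 61445) (.lf 0))) (.nd (.nd (.lf 34882) (.lf 0)) (.nd (.lf 116611) (.lf 0))))) (.nd (.nd (.nd (.nd (.lf 9735) (.lf 0)) (.nd (.lf 53892) (.lf 0))) (.nd (.nd (.lf 29189) (.lf 0)) (.nd (.lf 87556) (.lf 0)))) (.nd (.nd (.nd (.lf 28548) (.lf 0)) (.nd (.lf 74309) (.lf 0))) (.nd (.nd (.lf 40772) (.lf 0)) (.nd (.lf 120838) (.lf 0)))))))) (.nd (.nd (.nd (.nd (.nd (.nd (.nd (.lf 964) (.lf 0)) (.nd (.lf 43203) (.lf 0))) (.nd (.nd (.lf 22919) (.lf 0)) (.nd (.lf 73988) (.lf 0)))) (.nd (.nd (.nd (.lf 11718) (.lf 0)) (.nd (.lf 56643) (.lf 0))) (.nd (.nd (.lf 30790) (.lf 0)) (.nd (.lf 112517) (.lf 0))))) (.nd (.nd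 (.nd (.nd (.lf 5894) (.lf 0)) (.nd (.lf 50116) (.lf 0))) (.nd (.nd (.lf 33350) (.lf 0)) (.nd (.lf 103943) (.lf 0)))) (.nd (.nd (.nd (.lf 17349) (.lf 0)) (.nd (.lf 67204) (.lf 0))) (.nd (.nd (.lf 37255) (.lf 0)) (.nd (.lf 106886) (.lf 0)))))) (.nd (.nd (.nd (.nd (.nd (.lf 3333) (.lf 0)) (.nd (.lf 46915) (.lf 0))) (.nd (.nd (.lf 24067) (.lf 0)) (.nd (.lf 76999) (.lf 0)))) (.nd (.nd (.nd (.lf 14790) (.lf 0)) (.nd (.lf 60098) (.lf 0))) (.nd (.nd (.lf 40391) (.lf 0)) (.nd (.lf 130502) (.lf 0))))) (.nd (.nd (.nd (.nd (.lf 10566) (.lf 0)) (.nd (.lf 107207) (.lf 0))) (.nd (.nd (.lf 28804) (.lf 0)) (.nd (.lf 86532) (.lf 0)))) (.nd (.nd (.nd (.lf 50566) (.lf 0)) (.nd (.lf 68740) (.lf 0))) (.nd (.nd (.lf 39814) (.lf 0)) (.nd (.lf 113286) (.lf 0))))))) (.nd (.nd (.nd (.nd (.nd (.nd (.lf 2116) (.lf 0)) (.nd (.lf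 44678) (.lf 0))) (.nd (.nd (.lf 23110) (.lf 0)) (.nd (.lf 75526) (.lf 0)))) (.nd (.nd (.nd (.lf 13060) (.lf 0)) (.nd (.lf 57863) (.lf 0))) (.nd (.nd (.lf 52806) (.lf 0)) (.nd (.lf 96130) (.lf 0))))) (.nd (.nd (.nd (.nd (.lf 18690) (.lf 0)) (.nd (.lf 51396) (.lf 0))) (.nd (.nd (.lf 27524) (.lf 0)) (.nd (.lf 83202) (.lf 0)))) (.nd (.nd (.nd (.lf 18244) (.lf 0)) (.nd (.lf 88005) (.lf 0))) (.nd (.nd (.lf 38596) (.lf 0)) (.nd (.lf 112514) (.lf 0)))))) (.nd (.nd (.nd (.nd (.nd (.lf 4615) (.lf 0)) (.nd (.lf 60229) (.lf 0))) (.nd (.nd (.lf 25415) (.lf 0)) (.nd (.lf 79810) (.lf 0)))) (.nd (.nd (.nd (.lf 16067) (.lf 0)) (.nd (.lf 62150) (.lf 0))) (.nd (.nd (.lf 35652) (.lf 0)) (.nd (.lf 114118) (.lf 0))))) (.nd (.nd (.nd (.nd (.lf 10372) (.lf 0)) (.nd (.lf 74115) (.lf 0))) (.nd (.nd (.lf 32006) (.lf 0)) (.nd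 (.lf 89223) (.lf 0)))) (.nd (.nd (.nd (.lf 20293) (.lf 0)) (.nd (.lf 71558) (.lf 0))) (.nd (.nd (.lf 41477) (.lf 0)) (.nd (.lf 128519) (.lf 0))))))))

/-- table part -/
def xT0_13 : Tr :=
  .nd (.nd (.nd (.nd (.nd (.nd (.nd (.nd (.lf 455) (.lf 123905)) (.nd (.lf 54918) (.lf 0))) (.nd (.nd (.lf 20483) (.lf 0)) (.nd (.lf 72196) (.lf 0)))) (.nd (.nd (.nd (.lf 10949) (.lf 0)) (.nd (.lf 55171) (.lf 0))) (.nd (.nd (.lf 29894) (.lf 0)) (.nd (.lf 90050) (.lf 0))))) (.nd (.nd (.nd (.nd (.lf 13250) (.lf 0)) (.nd (.lf 49223) (.lf 0))) (.nd (.nd (.lf 25668) (.lf 0)) (.nd (.lf 79556) (.lf 0)))) (.nd (.nd (.nd (.lf 16324) (.lf 0)) (.nd (.lf 62405) (.lf 0))) (.nd (.nd (.lf 35907) (.lf 0)) (.nd (.lf 131204) (.lf 0)))))) (.nd (.nd (.nd (.nd (.nd (.lf 2310) (.lf 0)) (.nd (.lf 45187) (.lf 0))) (.nd (.nd (.lf 23239) (.lf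 0)) (.nd (.lf 121604) (.lf 0)))) (.nd (.nd (.nd (.lf 13253) (.lf 0)) (.nd (.lf 58180) (.lf 0))) (.nd (.nd (.lf 32070) (.lf 0)) (.nd (.lf 101316) (.lf 0))))) (.nd (.nd (.nd (.nd (.lf 8385) (.lf 0)) (.nd (.lf 78790) (.lf 0))) (.nd (.nd (.lf 27843) (.lf 0)) (.nd (.lf 83651) (.lf 0)))) (.nd (.nd (.nd (.lf 18438) (.lf 0)) (.nd (.lf 88069) (.lf 0))) (.nd (.nd (.lf 38852) (.lf 0)) (.nd (.lf 108803) (.lf 0))))))) (.nd (.nd (.nd (.nd (.nd (.nd (.lf 1158) (.lf 0)) (.nd (.lf 43395) (.lf 0))) (.nd (.nd (.lf 24389) (.lf 0)) (.nd (.lf 74435) (.lf 0)))) (.nd (.nd (.nd (.lf 12034) (.lf 0)) (.nd (.lf 57028) (.lf 0))) (.nd (.nd (.lf 56006) (.lf 0)) (.nd (.lf 100035) (.lf 0))))) (.nd (.nd (.nd (.nd (.lf 6147) (.lf 0)) (.nd (.lf 50308) (.lf 0))) (.nd (.nd (.lf 26692) (.lf 0)) (.nd (.lf 81411) (.lf 0)))) (.nd (.nd (.nd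 (.lf 17479) (.lf 0)) (.nd (.lf 65285) (.lf 0))) (.nd (.nd (.lf 37507) (.lf 0)) (.nd (.lf 105282) (.lf 0)))))) (.nd (.nd (.nd (.nd (.nd (.lf 3463) (.lf 0)) (.nd (.lf 47045) (.lf 0))) (.nd (.nd (.lf 24260) (.lf 0)) (.nd (.lf 108484) (.lf 0)))) (.nd (.nd (.nd (.lf 14919) (.lf 0)) (.nd (.lf 60803) (.lf 0))) (.nd (.nd (.lf 33860) (.lf 0)) (.nd (.lf 108869) (.lf 0))))) (.nd (.nd (.nd (.nd (.lf 22085) (.lf 0)) (.nd (.lf 64069) (.lf 0))) (.nd (.nd (.lf 28995) (.lf 0)) (.nd (.lf 86981) (.lf 0)))) (.nd (.nd (.nd (.lf 19527) (.lf 0)) (.nd (.lf 69189) (.lf 0))) (.nd (.nd (.lf 40068) (.lf 0)) (.nd (.lf 114818) (.lf 0)))))))) (.nd (.nd (.nd (.nd (.nd (.nd (.nd (.lf 580) (.lf 0)) (.nd (.lf 42694) (.lf 0))) (.nd (.nd (.lf 33861) (.lf 0)) (.nd (.lf 121028) (.lf 0)))) (.nd (.nd (.nd (.lf 11460) (.lf 0)) (.nd (.lf 55876)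 (.lf 0))) (.nd (.nd (.lf 38150) (.lf 0)) (.nd (.lf 91268) (.lf 0))))) (.nd (.nd (.nd (.nd (.lf 6659) (.lf 0)) (.nd (.lf 49286) (.lf 0))) (.nd (.nd (.lf 26182) (.lf 0)) (.nd (.lf 80386) (.lf 0)))) (.nd (.nd (.nd (.lf 17156) (.lf 0)) (.nd (.lf 82052) (.lf 0))) (.nd (.nd (.lf 36614) (.lf 0)) (.nd (.lf 104322) (.lf 0)))))) (.nd (.nd (.nd (.nd (.nd (.lf 8900) (.lf 0)) (.nd (.lf 46215) (.lf 0))) (.nd (.nd (.lf 23810) (.lf 0)) (.nd (.lf 76486) (.lf 0)))) (.nd (.nd (.nd (.lf 22087) (.lf 0)) (.nd (.lf 59396) (.lf 0))) (.nd (.nd (.lf 32775) (.lf 0)) (.nd (.lf 113219) (.lf 0))))) (.nd (.nd (.nd (.nd (.lf 9410) (.lf 0)) (.nd (.lf 52931) (.lf 0))) (.nd (.nd (.lf 28421) (.lf 0)) (.nd (.lf 85575) (.lf 0)))) (.nd (.nd (.nd (.lf 19140) (.lf 0)) (.nd (.lf 67973) (.lf 0))) (.nd (.nd (.lf 39302) (.lf 0)) (.nd (.lf 111814)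 (.lf 0))))))) (.nd (.nd (.nd (.nd (.nd (.nd (.lf 1793) (.lf 0)) (.nd (.lf 44103) (.lf 0))) (.nd (.nd (.lf 22659) (.lf 0)) (.nd (.lf 101510) (.lf 0)))) (.nd (.nd (.nd (.lf 12679) (.lf 0)) (.nd (.lf 57541) (.lf 0))) (.nd (.nd (.lf 31492) (.lf 0)) (.nd (.lf 95239) (.lf 0))))) (.nd (.nd (.nd (.nd (.lf 7109) (.lf 0)) (.nd (.lf 50948) (.lf 0))) (.nd (.nd (.lf 27207) (.lf 0)) (.nd (.lf 82500) (.lf 0)))) (.nd (.nd (.nd (.lf 17860) (.lf 0)) (.nd (.lf 66179) (.lf 0))) (.nd (.nd (.lf 38021) (.lf 0)) (.nd (.lf 107014) (.lf 0)))))) (.nd (.nd (.nd (.nd (.nd (.lf 4166) (.lf 0)) (.nd (.lf 47878) (.lf 0))) (.nd (.nd (.lf 33095) (.lf 0)) (.nd (.lf 86469) (.lf 0)))) (.nd (.nd (.nd (.lf 15558) (.lf 0)) (.nd (.lf 61639) (.lf 0))) (.nd (.nd (.lf 35334) (.lf 0)) (.nd (.lf 110532) (.lf 0))))) (.nd (.nd (.nd (.nd (.lf 9927)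 (.lf 0)) (.nd (.lf 108098) (.lf 0))) (.nd (.nd (.lf 73351) (.lf 0)) (.nd (.lf 88450) (.lf 0)))) (.nd (.nd (.nd (.lf 32518) (.lf 0)) (.nd (.lf 70535) (.lf 0))) (.nd (.nd (.lf 41028) (.lf 0)) (.nd (.lf 125638) (.lf 0))))))))

/-- table part -/
def xT0_14 : Tr :=
  .nd (.nd (.nd (.nd (.nd (.nd (.nd (.nd (.lf 326) (.lf 0)) (.nd (.lf 42371) (.lf 0))) (.nd (.nd (.lf 40455) (.lf 0)) (.nd (.lf 72645) (.lf 0)))) (.nd (.nd (.nd (.lf 11206) (.lf 0)) (.nd (.lf 82820) (.lf 0))) (.nd (.nd (.lf 41542) (.lf 0)) (.nd (.lf 90630) (.lf 0))))) (.nd (.nd (.nd (.nd (.lf 5127) (.lf 0)) (.nd (.lf 83268) (.lf 0))) (.nd (.nd (.lf 25926) (.lf 0)) (.nd (.lf 79813) (.lf 0)))) (.nd (.nd (.nd (.lf 23108) (.lf 0)) (.nd (.lf 62853) (.lf 0))) (.nd (.nd (.lf 36164) (.lf 0)) (.nd (.lf 102851) (.lf 0)))))) (.nd (.nd (.nd (.nd (.nd (.lf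 2695) (.lf 0)) (.nd (.lf 45508) (.lf 0))) (.nd (.nd (.lf 23555) (.lf 0)) (.nd (.lf 76039) (.lf 0)))) (.nd (.nd (.nd (.lf 13508) (.lf 0)) (.nd (.lf 58883) (.lf 0))) (.nd (.nd (.lf 32453) (.lf 0)) (.nd (.lf 97796) (.lf 0))))) (.nd (.nd (.nd (.nd (.lf 8770) (.lf 0)) (.nd (.lf 52419) (.lf 0))) (.nd (.nd (.lf 28102) (.lf 0)) (.nd (.lf 84677) (.lf 0)))) (.nd (.nd (.nd (.lf 18820) (.lf 0)) (.nd (.lf 86530) (.lf 0))) (.nd (.nd (.lf 39044) (.lf 0)) (.nd (.lf 118593) (.lf 0))))))) (.nd (.nd (.nd (.nd (.nd (.nd (.lf 4868) (.lf 0)) (.nd (.lf 43846) (.lf 0))) (.nd (.nd (.lf 22340) (.lf 0)) (.nd (.lf 74694) (.lf 0)))) (.nd (.nd (.nd (.lf 13057) (.lf 0)) (.nd (.lf 57282) (.lf 0))) (.nd (.nd (.lf 51527) (.lf 0)) (.nd (.lf 94084) (.lf 0))))) (.nd (.nd (.nd (.nd (.lf 6468) (.lf 0)) (.nd (.lf 50691) (.lf 0))) (.nd (.nd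 (.lf 27015) (.lf 0)) (.nd (.lf 88003) (.lf 0)))) (.nd (.nd (.nd (.lf 17670) (.lf 0)) (.nd (.lf 86023) (.lf 0))) (.nd (.nd (.lf 37763) (.lf 0)) (.nd (.lf 105987) (.lf 0)))))) (.nd (.nd (.nd (.nd (.nd (.lf 3843) (.lf 0)) (.nd (.lf 47555) (.lf 0))) (.nd (.nd (.lf 24710) (.lf 0)) (.nd (.lf 78085) (.lf 0)))) (.nd (.nd (.nd (.lf 15366) (.lf 0)) (.nd (.lf 61380) (.lf 0))) (.nd (.nd (.lf 34437) (.lf 0)) (.nd (.lf 100356) (.lf 0))))) (.nd (.nd (.nd (.nd (.lf 9670) (.lf 0)) (.nd (.lf 53831) (.lf 0))) (.nd (.nd (.lf 29186) (.lf 0)) (.nd (.lf 87430) (.lf 0)))) (.nd (.nd (.nd (.lf 52098) (.lf 0)) (.nd (.lf 69572) (.lf 0))) (.nd (.nd (.lf 40580) (.lf 0)) (.nd (.lf 117186) (.lf 0)))))))) (.nd (.nd (.nd (.nd (.nd (.nd (.nd (.lf 838) (.lf 0)) (.nd (.lf 45890) (.lf 0))) (.nd (.nd (.lf 21187) (.lf 0)) (.nd (.lf 73924)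 (.lf 0)))) (.nd (.nd (.nd (.lf 11591) (.lf 0)) (.nd (.lf 56516) (.lf 0))) (.nd (.nd (.lf 49220) (.lf 0)) (.nd (.lf 92231) (.lf 0))))) (.nd (.nd (.nd (.nd (.lf 5892) (.lf 0)) (.nd (.lf 49988) (.lf 0))) (.nd (.nd (.lf 26436) (.lf 0)) (.nd (.lf 80641) (.lf 0)))) (.nd (.nd (.nd (.lf 17346) (.lf 0)) (.nd (.lf 64902) (.lf 0))) (.nd (.nd (.lf 37188) (.lf 0)) (.nd (.lf 124997) (.lf 0)))))) (.nd (.nd (.nd (.nd (.nd (.lf 3270) (.lf 0)) (.nd (.lf 46534) (.lf 0))) (.nd (.nd (.lf 24003) (.lf 0)) (.nd (.lf 107396) (.lf 0)))) (.nd (.nd (.nd (.lf 29764) (.lf 0)) (.nd (.lf 59847) (.lf 0))) (.nd (.nd (.lf 33158) (.lf 0)) (.nd (.lf 99012) (.lf 0))))) (.nd (.nd (.nd (.nd (.lf 14599) (.lf 0)) (.nd (.lf 106311) (.lf 0))) (.nd (.nd (.lf 28676) (.lf 0)) (.nd (.lf 86275) (.lf 0)))) (.nd (.nd (.nd (.lf 19588) (.lf 0)) (.nd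 (.lf 79878) (.lf 0))) (.nd (.nd (.lf 39686) (.lf 0)) (.nd (.lf 113029) (.lf 0))))))) (.nd (.nd (.nd (.nd (.nd (.nd (.lf 1988) (.lf 0)) (.nd (.lf 44487) (.lf 0))) (.nd (.nd (.lf 23105) (.lf 0)) (.nd (.lf 75523) (.lf 0)))) (.nd (.nd (.nd (.lf 13826) (.lf 0)) (.nd (.lf 57861) (.lf 0))) (.nd (.nd (.lf 31812) (.lf 0)) (.nd (.lf 96004) (.lf 0))))) (.nd (.nd (.nd (.nd (.lf 18695) (.lf 0)) (.nd (.lf 51204) (.lf 0))) (.nd (.nd (.lf 27462) (.lf 0)) (.nd (.lf 83139) (.lf 0)))) (.nd (.nd (.nd (.lf 18116) (.lf 0)) (.nd (.lf 66435) (.lf 0))) (.nd (.nd (.lf 38532) (.lf 0)) (.nd (.lf 111367) (.lf 0)))))) (.nd (.nd (.nd (.nd (.nd (.lf 12550) (.lf 0)) (.nd (.lf 49218) (.lf 0))) (.nd (.nd (.lf 25351) (.lf 0)) (.nd (.lf 116930) (.lf 0)))) (.nd (.nd (.nd (.lf 15939) (.lf 0)) (.nd (.lf 62084) (.lf 0))) (.nd (.nd (.lf 35587)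 (.lf 0)) (.nd (.lf 101443) (.lf 0))))) (.nd (.nd (.nd (.nd (.lf 10180) (.lf 0)) (.nd (.lf 54533) (.lf 0))) (.nd (.nd (.lf 73926) (.lf 0)) (.nd (.lf 89095) (.lf 0)))) (.nd (.nd (.nd (.lf 20228) (.lf 0)) (.nd (.lf 84292) (.lf 0))) (.nd (.nd (.lf 41412) (.lf 0)) (.nd (.lf 121283) (.lf 0))))))))

/-- table part -/
def xT0_15 : Tr :=
  .nd (.nd (.nd (.nd (.nd (.nd (.nd (.nd (.lf 259) (.lf 129029)) (.nd (.lf 49543) (.lf 0))) (.nd (.nd (.lf 20614) (.lf 0)) (.nd (.lf 120260) (.lf 0)))) (.nd (.nd (.nd (.lf 11079) (.lf 0)) (.nd (.lf 55363) (.lf 0))) (.nd (.nd (.lf 39876) (.lf 0)) (.nd (.lf 90183) (.lf 0))))) (.nd (.nd (.nd (.nd (.lf 13636) (.lf 0)) (.nd (.lf 49414) (.lf 0))) (.nd (.nd (.lf 25798) (.lf 0)) (.nd (.lf 79622) (.lf 0)))) (.nd (.nd (.nd (.lf 16899) (.lf 0)) (.nd (.lf 62598) (.lf 0))) (.nd (.nd (.lf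 36034) (.lf 0)) (.nd (.lf 123590) (.lf 0)))))) (.nd (.nd (.nd (.nd (.nd (.lf 7812) (.lf 0)) (.nd (.lf 45319) (.lf 0))) (.nd (.nd (.lf 23366) (.lf 0)) (.nd (.lf 114116) (.lf 0)))) (.nd (.nd (.nd (.lf 13319) (.lf 0)) (.nd (.lf 58564) (.lf 0))) (.nd (.nd (.lf 36679) (.lf 0)) (.nd (.lf 96900) (.lf 0))))) (.nd (.nd (.nd (.nd (.lf 7943) (.lf 0)) (.nd (.lf 52164) (.lf 0))) (.nd (.nd (.lf 27971) (.lf 0)) (.nd (.lf 84290) (.lf 0)))) (.nd (.nd (.nd (.lf 18692) (.lf 0)) (.nd (.lf 90055) (.lf 0))) (.nd (.nd (.lf 38918) (.lf 0)) (.nd (.lf 129217) (.lf 0))))))) (.nd (.nd (.nd (.nd (.nd (.nd (.lf 1286) (.lf 0)) (.nd (.lf 43525) (.lf 0))) (.nd (.nd (.lf 22275) (.lf 0)) (.nd (.lf 74565) (.lf 0)))) (.nd (.nd (.nd (.lf 12100) (.lf 0)) (.nd (.lf 57159) (.lf 0))) (.nd (.nd (.lf 36486) (.lf 0)) (.nd (.lf 93827) (.lf 0)))))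 (.nd (.nd (.nd (.nd (.lf 6215) (.lf 0)) (.nd (.lf 60676) (.lf 0))) (.nd (.nd (.lf 26946) (.lf 0)) (.nd (.lf 107591) (.lf 0)))) (.nd (.nd (.nd (.lf 17607) (.lf 0)) (.nd (.lf 65541) (.lf 0))) (.nd (.nd (.lf 37572) (.lf 0)) (.nd (.lf 108485) (.lf 0)))))) (.nd (.nd (.nd (.nd (.nd (.lf 3655) (.lf 0)) (.nd (.lf 47298) (.lf 0))) (.nd (.nd (.lf 24582) (.lf 0)) (.nd (.lf 77956) (.lf 0)))) (.nd (.nd (.nd (.lf 15236) (.lf 0)) (.nd (.lf 61188) (.lf 0))) (.nd (.nd (.lf 34244) (.lf 0)) (.nd (.lf 103300) (.lf 0))))) (.nd (.nd (.nd (.nd (.lf 9602) (.lf 0)) (.nd (.lf 53636) (.lf 0))) (.nd (.nd (.lf 48900) (.lf 0)) (.nd (.lf 87173) (.lf 0)))) (.nd (.nd (.nd (.lf 51846) (.lf 0)) (.nd (.lf 69444) (.lf 0))) (.nd (.nd (.lf 40326) (.lf 0)) (.nd (.lf 115714) (.lf 0)))))))) (.nd (.nd (.nd (.nd (.nd (.nd (.nd (.lf 770) (.lf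 0)) (.nd (.lf 62343) (.lf 0))) (.nd (.nd (.lf 21059) (.lf 0)) (.nd (.lf 73348) (.lf 0)))) (.nd (.nd (.nd (.lf 11526) (.lf 0)) (.nd (.lf 81922) (.lf 0))) (.nd (.nd (.lf 30721) (.lf 0)) (.nd (.lf 91971) (.lf 0))))) (.nd (.nd (.nd (.nd (.lf 5765) (.lf 0)) (.nd (.lf 55750) (.lf 0))) (.nd (.nd (.lf 26309) (.lf 0)) (.nd (.lf 80454) (.lf 0)))) (.nd (.nd (.nd (.lf 17223) (.lf 0)) (.nd (.lf 64197) (.lf 0))) (.nd (.nd (.lf 36806) (.lf 0)) (.nd (.lf 124293) (.lf 0)))))) (.nd (.nd (.nd (.nd (.nd (.lf 3141) (.lf 0)) (.nd (.lf 61830) (.lf 0))) (.nd (.nd (.lf 23876) (.lf 0)) (.nd (.lf 76678) (.lf 0)))) (.nd (.nd (.nd (.lf 16455) (.lf 0)) (.nd (.lf 59781) (.lf 0))) (.nd (.nd (.lf 32902) (.lf 0)) (.nd (.lf 100998) (.lf 0))))) (.nd (.nd (.nd (.nd (.lf 8836) (.lf 0)) (.nd (.lf 58951) (.lf 0))) (.nd (.nd (.lf 28487) (.lf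 0)) (.nd (.lf 86019) (.lf 0)))) (.nd (.nd (.nd (.lf 19333) (.lf 0)) (.nd (.lf 69573) (.lf 0))) (.nd (.nd (.lf 39492) (.lf 0)) (.nd (.lf 112324) (.lf 0))))))) (.nd (.nd (.nd (.nd (.nd (.nd (.lf 1862) (.lf 0)) (.nd (.lf 44230) (.lf 0))) (.nd (.nd (.lf 22915) (.lf 0)) (.nd (.lf 75395) (.lf 0)))) (.nd (.nd (.nd (.lf 31555) (.lf 0)) (.nd (.lf 57733) (.lf 0))) (.nd (.nd (.lf 32583) (.lf 0)) (.nd (.lf 96903) (.lf 0))))) (.nd (.nd (.nd (.nd (.lf 7175) (.lf 0)) (.nd (.lf 51078) (.lf 0))) (.nd (.nd (.lf 27332) (.lf 0)) (.nd (.lf 127559) (.lf 0)))) (.nd (.nd (.nd (.lf 17987) (.lf 0)) (.nd (.lf 89863) (.lf 0))) (.nd (.nd (.lf 38215) (.lf 0)) (.nd (.lf 114628) (.lf 0)))))) (.nd (.nd (.nd (.nd (.nd (.lf 12231) (.lf 0)) (.nd (.lf 48004) (.lf 0))) (.nd (.nd (.lf 25285) (.lf 0)) (.nd (.lf 79172) (.lf 0)))) (.nd (.nd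 (.nd (.lf 15684) (.lf 0)) (.nd (.lf 61828) (.lf 0))) (.nd (.nd (.lf 35460) (.lf 0)) (.nd (.lf 113287) (.lf 0))))) (.nd (.nd (.nd (.nd (.lf 10052) (.lf 0)) (.nd (.lf 54215) (.lf 0))) (.nd (.nd (.lf 68675) (.lf 0)) (.nd (.lf 88771) (.lf 0)))) (.nd (.nd (.nd (.lf 24386) (.lf 0)) (.nd (.lf 89091) (.lf 0))) (.nd (.nd (.lf 41158) (.lf 0)) (.nd (.lf 129220) (.lf 0))))))))

/-- table part -/
def xT0_16 : Tr :=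
  .nd (.nd (.nd (.nd (.nd (.nd (.nd (.nd (.lf 515) (.lf 0)) (.nd (.lf 42500) (.lf 0))) (.nd (.nd (.lf 20806) (.lf 0)) (.nd (.lf 72836) (.lf 0)))) (.nd (.nd (.nd (.lf 11395) (.lf 0)) (.nd (.lf 55619) (.lf 0))) (.nd (.nd (.lf 30726) (.lf 0)) (.nd (.lf 90757) (.lf 0))))) (.nd (.nd (.nd (.nd (.lf 6790) (.lf 0)) (.nd (.lf 49155) (.lf 0))) (.nd (.nd (.lf 26114) (.lf 0)) (.nd (.lf 79879) (.lf 0)))) (.nd (.nd (.nd (.lf 17028) (.lf 0)) (.nd (.lf 63619) (.lf 0))) (.nd (.nd (.lf 36423) (.lf 0)) (.nd (.lf 103173) (.lf 0)))))) (.nd (.nd (.nd (.nd (.nd (.lf 5190) (.lf 0)) (.nd (.lf 45955) (.lf 0))) (.nd (.nd (.lf 23683) (.lf 0)) (.nd (.lf 76103) (.lf 0)))) (.nd (.nd (.nd (.lf 14407) (.lf 0)) (.nd (.lf 59140) (.lf 0))) (.nd (.nd (.lf 32580) (.lf 0)) (.nd (.lf 120773) (.lf 0))))) (.nd (.nd (.nd (.nd (.lf 9219) (.lf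 0)) (.nd (.lf 52740) (.lf 0))) (.nd (.nd (.lf 37126) (.lf 0)) (.nd (.lf 85315) (.lf 0)))) (.nd (.nd (.nd (.lf 48903) (.lf 0)) (.nd (.lf 76037) (.lf 0))) (.nd (.nd (.lf 39235) (.lf 0)) (.nd (.lf 110786) (.lf 0))))))) (.nd (.nd (.nd (.nd (.nd (.nd (.lf 5318) (.lf 0)) (.nd (.lf 44038) (.lf 0))) (.nd (.nd (.lf 22532) (.lf 0)) (.nd (.lf 87554) (.lf 0)))) (.nd (.nd (.nd (.lf 12678) (.lf 0)) (.nd (.lf 57412) (.lf 0))) (.nd (.nd (.lf 46726) (.lf 0)) (.nd (.lf 103045) (.lf 0))))) (.nd (.nd (.nd (.nd (.lf 6916) (.lf 0)) (.nd (.lf 50759) (.lf 0))) (.nd (.nd (.lf 27143) (.lf 0)) (.nd (.lf 82307) (.lf 0)))) (.nd (.nd (.nd (.lf 17735) (.lf 0)) (.nd (.lf 65988) (.lf 0))) (.nd (.nd (.lf 37829) (.lf 0)) (.nd (.lf 130308) (.lf 0)))))) (.nd (.nd (.nd (.nd (.nd (.lf 4034) (.lf 0)) (.nd (.lf 47874) (.lf 0))) (.nd (.nd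 (.lf 24838) (.lf 0)) (.nd (.lf 78597) (.lf 0)))) (.nd (.nd (.nd (.lf 15431) (.lf 0)) (.nd (.lf 61508) (.lf 0))) (.nd (.nd (.lf 35012) (.lf 0)) (.nd (.lf 100359) (.lf 0))))) (.nd (.nd (.nd (.nd (.lf 9859) (.lf 0)) (.nd (.lf 53894) (.lf 0))) (.nd (.nd (.lf 29255) (.lf 0)) (.nd (.lf 87877) (.lf 0)))) (.nd (.nd (.nd (.lf 52807) (.lf 0)) (.nd (.lf 82054) (.lf 0))) (.nd (.nd (.lf 40838) (.lf 0)) (.nd (.lf 117762) (.lf 0)))))))) (.nd (.nd (.nd (.nd (.nd (.nd (.nd (.lf 966) (.lf 0)) (.nd (.lf 43267) (.lf 0))) (.nd (.nd (.lf 56134) (.lf 0)) (.nd (.lf 85060) (.lf 0)))) (.nd (.nd (.nd (.lf 11782) (.lf 0)) (.nd (.lf 56836) (.lf 0))) (.nd (.nd (.lf 30852) (.lf 0)) (.nd (.lf 112071) (.lf 0))))) (.nd (.nd (.nd (.nd (.lf 5958) (.lf 0)) (.nd (.lf 74372) (.lf 0))) (.nd (.nd (.lf 33156) (.lf 0)) (.nd (.lf 86467) (.lf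 0)))) (.nd (.nd (.nd (.lf 17351) (.lf 0)) (.nd (.lf 65221) (.lf 0))) (.nd (.nd (.lf 37380) (.lf 0)) (.nd (.lf 129223) (.lf 0)))))) (.nd (.nd (.nd (.nd (.nd (.lf 3335) (.lf 0)) (.nd (.lf 46918) (.lf 0))) (.nd (.nd (.lf 24130) (.lf 0)) (.nd (.lf 77314) (.lf 0)))) (.nd (.nd (.nd (.lf 14853) (.lf 0)) (.nd (.lf 60228) (.lf 0))) (.nd (.nd (.lf 33604) (.lf 0)) (.nd (.lf 122308) (.lf 0))))) (.nd (.nd (.nd (.nd (.lf 9732) (.lf 0)) (.nd (.lf 53507) (.lf 0))) (.nd (.nd (.lf 28931) (.lf 0)) (.nd (.lf 86722) (.lf 0)))) (.nd (.nd (.nd (.lf 50563) (.lf 0)) (.nd (.lf 68869) (.lf 0))) (.nd (.nd (.lf 40711) (.lf 0)) (.nd (.lf 113733) (.lf 0))))))) (.nd (.nd (.nd (.nd (.nd (.nd (.lf 2179) (.lf 0)) (.nd (.lf 44867) (.lf 0))) (.nd (.nd (.lf 23172) (.lf 0)) (.nd (.lf 76484) (.lf 0)))) (.nd (.nd (.nd (.lf 32967) (.lf 0))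 (.nd (.lf 57985) (.lf 0))) (.nd (.nd (.lf 36999) (.lf 0)) (.nd (.lf 107334) (.lf 0))))) (.nd (.nd (.nd (.nd (.lf 19076) (.lf 0)) (.nd (.lf 72903) (.lf 0))) (.nd (.nd (.lf 27588) (.lf 0)) (.nd (.lf 83206) (.lf 0)))) (.nd (.nd (.nd (.lf 18308) (.lf 0)) (.nd (.lf 89991) (.lf 0))) (.nd (.nd (.lf 38722) (.lf 0)) (.nd (.lf 108547) (.lf 0)))))) (.nd (.nd (.nd (.nd (.nd (.lf 8262) (.lf 0)) (.nd (.lf 73415) (.lf 0))) (.nd (.nd (.lf 37252) (.lf 0)) (.nd (.lf 79173) (.lf 0)))) (.nd (.nd (.nd (.lf 16199) (.lf 0)) (.nd (.lf 62339) (.lf 0))) (.nd (.nd (.lf 35779) (.lf 0)) (.nd (.lf 102019) (.lf 0))))) (.nd (.nd (.nd (.nd (.lf 10437) (.lf 0)) (.nd (.lf 54662) (.lf 0))) (.nd (.nd (.lf 32193) (.lf 0)) (.nd (.lf 89795) (.lf 0)))) (.nd (.nd (.nd (.lf 20295) (.lf 0)) (.nd (.lf 89415) (.lf 0))) (.nd (.nd (.lf 41543) (.lf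 0)) (.nd (.lf 122562) (.lf 0))))))))

/-- table -/
def xT0 : Tr :=
  .nd (.nd (.nd (.nd xT0_1 xT0_2) (.nd xT0_3 xT0_4)) (.nd (.nd xT0_5 xT0_6) (.nd xT0_7 xT0_8))) (.nd (.nd (.nd xT0_9 xT0_10) (.nd xT0_11 xT0_12)) (.nd (.nd xT0_13 xT0_14) (.nd xT0_15 xT0_16)))

/-- table part -/
def xT1_1 : Tr :=
  .nd (.nd (.nd (.nd (.nd (.nd (.nd (.nd (.lf 38477) (.lf 0)) (.nd (.lf 0) (.lf 0))) (.nd (.nd (.lf 43085) (.lf 0)) (.nd (.lf 23565) (.lf 0)))) (.nd (.nd (.nd (.lf 64333) (.lf 0)) (.nd (.lf 0) (.lf 0))) (.nd (.nd (.lf 0) (.lf 0)) (.nd (.lf 18317) (.lf 0))))) (.nd (.nd (.nd (.nd (.lf 0) (.lf 0)) (.nd (.lf 29708) (.lf 0))) (.nd (.nd (.lf 74829) (.lf 0)) (.nd (.lf 83533) (.lf 0)))) (.nd (.nd (.nd (.lf 115724) (.lf 0)) (.nd (.lf 111245) (.lf 0))) (.nd (.nd (.lf 123084) (.lf 0)) (.nd (.lf 0) (.lf 0)))))) (.nd (.nd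 (.nd (.nd (.nd (.lf 0) (.lf 0)) (.nd (.lf 123277) (.lf 0))) (.nd (.nd (.lf 94989) (.lf 0)) (.nd (.lf 0) (.lf 0)))) (.nd (.nd (.nd (.lf 38221) (.lf 0)) (.nd (.lf 31308) (.lf 0))) (.nd (.nd (.lf 77773) (.lf 0)) (.nd (.lf 129548) (.lf 0))))) (.nd (.nd (.nd (.nd (.lf 0) (.lf 0)) (.nd (.lf 127180) (.lf 0))) (.nd (.nd (.lf 19660) (.lf 0)) (.nd (.lf 120076) (.lf 0)))) (.nd (.nd (.nd (.lf 121485) (.lf 0)) (.nd (.lf 0) (.lf 0))) (.nd (.nd (.lf 15244) (.lf 0)) (.nd (.lf 70860) (.lf 0))))))) (.nd (.nd (.nd (.nd (.nd (.nd (.lf 0) (.lf 0)) (.nd (.lf 23117) (.lf 0))) (.nd (.nd (.lf 0) (.lf 0)) (.nd (.lf 62157) (.lf 0)))) (.nd (.nd (.nd (.lf 43468) (.lf 0)) (.nd (.lf 110860) (.lf 0))) (.nd (.nd (.lf 101836) (.lf 0)) (.nd (.lf 43341) (.lf 0))))) (.nd (.nd (.nd (.nd (.lf 0) (.lf 0)) (.nd (.lf 40653) (.lf 0))) (.nd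 (.nd (.lf 22989) (.lf 0)) (.nd (.lf 72525) (.lf 0)))) (.nd (.nd (.nd (.lf 92173) (.lf 0)) (.nd (.lf 57165) (.lf 0))) (.nd (.nd (.lf 0) (.lf 0)) (.nd (.lf 114573) (.lf 0)))))) (.nd (.nd (.nd (.nd (.nd (.lf 39117) (.lf 0)) (.nd (.lf 63052) (.lf 0))) (.nd (.nd (.lf 0) (.lf 0)) (.nd (.lf 0) (.lf 0)))) (.nd (.nd (.nd (.lf 31565) (.lf 0)) (.nd (.lf 0) (.lf 0))) (.nd (.nd (.lf 0) (.lf 0)) (.nd (.lf 94540) (.lf 0))))) (.nd (.nd (.nd (.nd (.lf 125773) (.lf 0)) (.nd (.lf 78092) (.lf 0))) (.nd (.nd (.lf 41676) (.lf 0)) (.nd (.lf 0) (.lf 0)))) (.nd (.nd (.nd (.lf 0) (.lf 0)) (.nd (.lf 23181) (.lf 0))) (.nd (.nd (.lf 98701) (.lf 0)) (.nd (.lf 0) (.lf 0)))))))) (.nd (.nd (.nd (.nd (.nd (.nd (.nd (.lf 0) (.lf 0)) (.nd (.lf 37709) (.lf 0))) (.nd (.nd (.lf 0) (.lf 0)) (.nd (.lf 68748) (.lf 0)))) (.nd (.nd (.nd (.lf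 1741) (.lf 0)) (.nd (.lf 25933) (.lf 0))) (.nd (.nd (.lf 0) (.lf 0)) (.nd (.lf 107661) (.lf 0))))) (.nd (.nd (.nd (.nd (.lf 0) (.lf 0)) (.nd (.lf 78604) (.lf 0))) (.nd (.nd (.lf 0) (.lf 0)) (.nd (.lf 61133) (.lf 0)))) (.nd (.nd (.nd (.lf 99533) (.lf 0)) (.nd (.lf 25741) (.lf 0))) (.nd (.nd (.lf 0) (.lf 0)) (.nd (.lf 0) (.lf 0)))))) (.nd (.nd (.nd (.nd (.nd (.lf 122829) (.lf 0)) (.nd (.lf 128780) (.lf 0))) (.nd (.nd (.lf 61773) (.lf 0)) (.nd (.lf 0) (.lf 0)))) (.nd (.nd (.nd (.lf 0) (.lf 0)) (.nd (.lf 63500) (.lf 0))) (.nd (.nd (.lf 0) (.lf 0)) (.nd (.lf 0) (.lf 0))))) (.nd (.nd (.nd (.nd (.lf 47565) (.lf 0)) (.nd (.lf 24077) (.lf 0))) (.nd (.nd (.lf 38349) (.lf 0)) (.nd (.lf 121420) (.lf 0)))) (.nd (.nd (.nd (.lf 79757) (.lf 0)) (.nd (.lf 78605) (.lf 0))) (.nd (.nd (.lf 0) (.lf 0)) (.nd (.lf 106316)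 (.lf 0))))))) (.nd (.nd (.nd (.nd (.nd (.nd (.lf 0) (.lf 0)) (.nd (.lf 6092) (.lf 0))) (.nd (.nd (.lf 84109) (.lf 0)) (.nd (.lf 0) (.lf 0)))) (.nd (.nd (.nd (.lf 0) (.lf 0)) (.nd (.lf 47180) (.lf 0))) (.nd (.nd (.lf 126605) (.lf 0)) (.nd (.lf 25868) (.lf 0))))) (.nd (.nd (.nd (.nd (.lf 91341) (.lf 0)) (.nd (.lf 129485) (.lf 0))) (.nd (.nd (.lf 28685) (.lf 0)) (.nd (.lf 38476) (.lf 0)))) (.nd (.nd (.nd (.lf 0) (.lf 0)) (.nd (.lf 0) (.lf 0))) (.nd (.nd (.lf 127181) (.lf 0)) (.nd (.lf 33548) (.lf 0)))))) (.nd (.nd (.nd (.nd (.nd (.lf 29900) (.lf 0)) (.nd (.lf 82508) (.lf 0))) (.nd (.nd (.lf 0) (.lf 0)) (.nd (.lf 13005) (.lf 0)))) (.nd (.nd (.nd (.lf 105101) (.lf 0)) (.nd (.lf 27213) (.lf 0))) (.nd (.nd (.lf 0) (.lf 0)) (.nd (.lf 28749) (.lf 0))))) (.nd (.nd (.nd (.nd (.lf 0) (.lf 0)) (.nd (.lf 126476)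 (.lf 0))) (.nd (.nd (.lf 0) (.lf 0)) (.nd (.lf 0) (.lf 0)))) (.nd (.nd (.nd (.lf 0) (.lf 0)) (.nd (.lf 76557) (.lf 0))) (.nd (.nd (.lf 0) (.lf 0)) (.nd (.lf 23629) (.lf 0))))))))

/-- table part -/
def xT1_2 : Tr :=
  .nd (.nd (.nd (.nd (.nd (.nd (.nd (.nd (.lf 0) (.lf 22412)) (.nd (.lf 110220) (.lf 0))) (.nd (.nd (.lf 0) (.lf 0)) (.nd (.lf 28300) (.lf 0)))) (.nd (.nd (.nd (.lf 0) (.lf 0)) (.nd (.lf 0) (.lf 0))) (.nd (.nd (.lf 43469) (.lf 0)) (.nd (.lf 0) (.lf 0))))) (.nd (.nd (.nd (.nd (.lf 105229) (.lf 0)) (.nd (.lf 0) (.lf 0))) (.nd (.nd (.lf 0) (.lf 0)) (.nd (.lf 73740) (.lf 0)))) (.nd (.nd (.nd (.lf 55500) (.lf 0)) (.nd (.lf 0) (.lf 0))) (.nd (.nd (.lf 0) (.lf 0)) (.nd (.lf 0) (.lf 0)))))) (.nd (.nd (.nd (.nd (.nd (.lf 118604) (.lf 0)) (.nd (.lf 87949) (.lf 0))) (.nd (.nd (.lf 1740) (.lf 0)) (.nd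 (.lf 20940) (.lf 0)))) (.nd (.nd (.nd (.lf 58765) (.lf 0)) (.nd (.lf 0) (.lf 0))) (.nd (.nd (.lf 10572) (.lf 0)) (.nd (.lf 0) (.lf 0))))) (.nd (.nd (.nd (.nd (.lf 0) (.lf 0)) (.nd (.lf 100173) (.lf 0))) (.nd (.nd (.lf 47117) (.lf 0)) (.nd (.lf 103308) (.lf 0)))) (.nd (.nd (.nd (.lf 59725) (.lf 0)) (.nd (.lf 118092) (.lf 0))) (.nd (.nd (.lf 0) (.lf 0)) (.nd (.lf 0) (.lf 0))))))) (.nd (.nd (.nd (.nd (.nd (.nd (.lf 15949) (.lf 0)) (.nd (.lf 2316) (.lf 0))) (.nd (.nd (.lf 26573) (.lf 0)) (.nd (.lf 6604) (.lf 0)))) (.nd (.nd (.nd (.lf 0) (.lf 0)) (.nd (.lf 45516) (.lf 0))) (.nd (.nd (.lf 16141) (.lf 0)) (.nd (.lf 0) (.lf 0))))) (.nd (.nd (.nd (.nd (.lf 0) (.lf 0)) (.nd (.lf 6796) (.lf 0))) (.nd (.nd (.lf 0) (.lf 0)) (.nd (.lf 15692) (.lf 0)))) (.nd (.nd (.nd (.lf 54156) (.lf 0)) (.nd (.lf 108749) (.lf 0)))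 (.nd (.nd (.lf 0) (.lf 0)) (.nd (.lf 60045) (.lf 0)))))) (.nd (.nd (.nd (.nd (.nd (.lf 108876) (.lf 0)) (.nd (.lf 44493) (.lf 0))) (.nd (.nd (.lf 101517) (.lf 0)) (.nd (.lf 56589) (.lf 0)))) (.nd (.nd (.nd (.lf 0) (.lf 0)) (.nd (.lf 122573) (.lf 0))) (.nd (.nd (.lf 40972) (.lf 0)) (.nd (.lf 99724) (.lf 0))))) (.nd (.nd (.nd (.nd (.lf 0) (.lf 0)) (.nd (.lf 62733) (.lf 0))) (.nd (.nd (.lf 10445) (.lf 0)) (.nd (.lf 69325) (.lf 0)))) (.nd (.nd (.nd (.lf 0) (.lf 0)) (.nd (.lf 0) (.lf 0))) (.nd (.nd (.lf 40204) (.lf 0)) (.nd (.lf 86669) (.lf 0)))))))) (.nd (.nd (.nd (.nd (.nd (.nd (.nd (.lf 0) (.lf 0)) (.nd (.lf 1420) (.lf 0))) (.nd (.nd (.lf 0) (.lf 0)) (.nd (.lf 81293) (.lf 0)))) (.nd (.nd (.nd (.lf 0) (.lf 0)) (.nd (.lf 114829) (.lf 0))) (.nd (.nd (.lf 0) (.lf 0)) (.nd (.lf 22476) (.lf 0))))) (.nd (.nd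 (.nd (.nd (.lf 57549) (.lf 0)) (.nd (.lf 93260) (.lf 0))) (.nd (.nd (.lf 0) (.lf 0)) (.nd (.lf 0) (.lf 0)))) (.nd (.nd (.nd (.lf 95245) (.lf 0)) (.nd (.lf 30348) (.lf 0))) (.nd (.nd (.lf 0) (.lf 0)) (.nd (.lf 68556) (.lf 0)))))) (.nd (.nd (.nd (.nd (.nd (.lf 0) (.lf 0)) (.nd (.lf 99468) (.lf 0))) (.nd (.nd (.lf 73164) (.lf 0)) (.nd (.lf 0) (.lf 0)))) (.nd (.nd (.nd (.lf 114125) (.lf 0)) (.nd (.lf 0) (.lf 0))) (.nd (.nd (.lf 80845) (.lf 0)) (.nd (.lf 47629) (.lf 0))))) (.nd (.nd (.nd (.nd (.lf 27021) (.lf 0)) (.nd (.lf 73996) (.lf 0))) (.nd (.nd (.lf 37644) (.lf 0)) (.nd (.lf 22861) (.lf 0)))) (.nd (.nd (.nd (.lf 120909) (.lf 0)) (.nd (.lf 30540) (.lf 0))) (.nd (.nd (.lf 43597) (.lf 0)) (.nd (.lf 85517) (.lf 0))))))) (.nd (.nd (.nd (.nd (.nd (.nd (.lf 112013) (.lf 0)) (.nd (.lf 129676) (.lf 0))) (.nd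 (.nd (.lf 11213) (.lf 0)) (.nd (.lf 0) (.lf 0)))) (.nd (.nd (.nd (.lf 0) (.lf 0)) (.nd (.lf 78733) (.lf 0))) (.nd (.nd (.lf 0) (.lf 0)) (.nd (.lf 0) (.lf 0))))) (.nd (.nd (.nd (.nd (.lf 46093) (.lf 0)) (.nd (.lf 64781) (.lf 0))) (.nd (.nd (.lf 90380) (.lf 0)) (.nd (.lf 10829) (.lf 0)))) (.nd (.nd (.nd (.lf 20108) (.lf 0)) (.nd (.lf 94732) (.lf 0))) (.nd (.nd (.lf 0) (.lf 0)) (.nd (.lf 114380) (.lf 0)))))) (.nd (.nd (.nd (.nd (.nd (.lf 11340) (.lf 0)) (.nd (.lf 0) (.lf 0))) (.nd (.nd (.lf 0) (.lf 0)) (.nd (.lf 13132) (.lf 0)))) (.nd (.nd (.nd (.lf 105548) (.lf 0)) (.nd (.lf 48012) (.lf 0))) (.nd (.nd (.lf 129804) (.lf 0)) (.nd (.lf 44236) (.lf 0))))) (.nd (.nd (.nd (.nd (.lf 2317) (.lf 0)) (.nd (.lf 115404) (.lf 0))) (.nd (.nd (.lf 33932) (.lf 0)) (.nd (.lf 34508) (.lf 0)))) (.nd (.nd (.nd (.lf 98188)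 (.lf 0)) (.nd (.lf 106956) (.lf 0))) (.nd (.nd (.lf 81421) (.lf 0)) (.nd (.lf 0) (.lf 0))))))))

/-- table part -/
def xT1_3 : Tr :=
  .nd (.nd (.nd (.nd (.nd (.nd (.nd (.nd (.lf 0) (.lf 0)) (.nd (.lf 118412) (.lf 0))) (.nd (.nd (.lf 0) (.lf 0)) (.nd (.lf 64461) (.lf 0)))) (.nd (.nd (.nd (.lf 37196) (.lf 0)) (.nd (.lf 0) (.lf 0))) (.nd (.nd (.lf 35661) (.lf 0)) (.nd (.lf 113933) (.lf 0))))) (.nd (.nd (.nd (.nd (.lf 80589) (.lf 0)) (.nd (.lf 56012) (.lf 0))) (.nd (.nd (.lf 0) (.lf 0)) (.nd (.lf 41869) (.lf 0)))) (.nd (.nd (.nd (.lf 0) (.lf 0)) (.nd (.lf 75853) (.lf 0))) (.nd (.nd (.lf 24524) (.lf 0)) (.nd (.lf 60748) (.lf 0)))))) (.nd (.nd (.nd (.nd (.nd (.lf 0) (.lf 0)) (.nd (.lf 0) (.lf 0))) (.nd (.nd (.lf 909) (.lf 0)) (.nd (.lf 90060) (.lf 0)))) (.nd (.nd (.nd (.lf 67021) (.lf 0)) (.nd (.lf 0) (.lf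 0))) (.nd (.nd (.lf 50509) (.lf 0)) (.nd (.lf 25869) (.lf 0))))) (.nd (.nd (.nd (.nd (.lf 0) (.lf 0)) (.nd (.lf 29901) (.lf 0))) (.nd (.nd (.lf 77964) (.lf 0)) (.nd (.lf 118093) (.lf 0)))) (.nd (.nd (.nd (.lf 0) (.lf 0)) (.nd (.lf 43661) (.lf 0))) (.nd (.nd (.lf 61900) (.lf 0)) (.nd (.lf 49677) (.lf 0))))))) (.nd (.nd (.nd (.nd (.nd (.nd (.lf 35596) (.lf 0)) (.nd (.lf 50764) (.lf 0))) (.nd (.nd (.lf 0) (.lf 0)) (.nd (.lf 126541) (.lf 0)))) (.nd (.nd (.nd (.lf 32716) (.lf 0)) (.nd (.lf 14797) (.lf 0))) (.nd (.nd (.lf 0) (.lf 0)) (.nd (.lf 115149) (.lf 0))))) (.nd (.nd (.nd (.nd (.lf 47116) (.lf 0)) (.nd (.lf 102605) (.lf 0))) (.nd (.nd (.lf 60300) (.lf 0)) (.nd (.lf 26701) (.lf 0)))) (.nd (.nd (.nd (.lf 116620) (.lf 0)) (.nd (.lf 77388) (.lf 0))) (.nd (.nd (.lf 0) (.lf 0)) (.nd (.lf 0) (.lf 0))))))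 (.nd (.nd (.nd (.nd (.nd (.lf 71244) (.lf 0)) (.nd (.lf 78668) (.lf 0))) (.nd (.nd (.lf 0) (.lf 0)) (.nd (.lf 110092) (.lf 0)))) (.nd (.nd (.nd (.lf 122252) (.lf 0)) (.nd (.lf 0) (.lf 0))) (.nd (.nd (.lf 0) (.lf 0)) (.nd (.lf 0) (.lf 0))))) (.nd (.nd (.nd (.nd (.lf 0) (.lf 0)) (.nd (.lf 15884) (.lf 0))) (.nd (.nd (.lf 0) (.lf 0)) (.nd (.lf 98189) (.lf 0)))) (.nd (.nd (.nd (.lf 0) (.lf 0)) (.nd (.lf 92493) (.lf 0))) (.nd (.nd (.lf 20300) (.lf 0)) (.nd (.lf 67980) (.lf 0)))))))) (.nd (.nd (.nd (.nd (.nd (.nd (.nd (.lf 0) (.lf 0)) (.nd (.lf 0) (.lf 0))) (.nd (.nd (.lf 0) (.lf 0)) (.nd (.lf 31373) (.lf 0)))) (.nd (.nd (.nd (.lf 60044) (.lf 0)) (.nd (.lf 83917) (.lf 0))) (.nd (.nd (.lf 90957) (.lf 0)) (.nd (.lf 75468) (.lf 0))))) (.nd (.nd (.nd (.nd (.lf 0) (.lf 0)) (.nd (.lf 0) (.lf 0))) (.nd (.nd (.lf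 94092) (.lf 0)) (.nd (.lf 33933) (.lf 0)))) (.nd (.nd (.nd (.lf 717) (.lf 0)) (.nd (.lf 36109) (.lf 0))) (.nd (.nd (.lf 115021) (.lf 0)) (.nd (.lf 0) (.lf 0)))))) (.nd (.nd (.nd (.nd (.nd (.lf 0) (.lf 0)) (.nd (.lf 108492) (.lf 0))) (.nd (.nd (.lf 0) (.lf 0)) (.nd (.lf 0) (.lf 0)))) (.nd (.nd (.nd (.lf 0) (.lf 0)) (.nd (.lf 10509) (.lf 0))) (.nd (.nd (.lf 0) (.lf 0)) (.nd (.lf 103629) (.lf 0))))) (.nd (.nd (.nd (.nd (.lf 86668) (.lf 0)) (.nd (.lf 0) (.lf 0))) (.nd (.nd (.lf 113228) (.lf 0)) (.nd (.lf 20045) (.lf 0)))) (.nd (.nd (.nd (.lf 0) (.lf 0)) (.nd (.lf 0) (.lf 0))) (.nd (.nd (.lf 80780) (.lf 0)) (.nd (.lf 28045) (.lf 0))))))) (.nd (.nd (.nd (.nd (.nd (.nd (.lf 70605) (.lf 0)) (.nd (.lf 73997) (.lf 0))) (.nd (.nd (.lf 62156) (.lf 0)) (.nd (.lf 36108) (.lf 0)))) (.nd (.nd (.nd (.lf 0) (.lf 0))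 (.nd (.lf 125388) (.lf 0))) (.nd (.nd (.lf 26060) (.lf 0)) (.nd (.lf 845) (.lf 0))))) (.nd (.nd (.nd (.nd (.lf 0) (.lf 0)) (.nd (.lf 10189) (.lf 0))) (.nd (.nd (.lf 115852) (.lf 0)) (.nd (.lf 53644) (.lf 0)))) (.nd (.nd (.nd (.lf 0) (.lf 0)) (.nd (.lf 88461) (.lf 0))) (.nd (.nd (.lf 19277) (.lf 0)) (.nd (.lf 23437) (.lf 0)))))) (.nd (.nd (.nd (.nd (.nd (.lf 59468) (.lf 0)) (.nd (.lf 0) (.lf 0))) (.nd (.nd (.lf 10317) (.lf 0)) (.nd (.lf 92108) (.lf 0)))) (.nd (.nd (.nd (.lf 89677) (.lf 0)) (.nd (.lf 10444) (.lf 0))) (.nd (.nd (.lf 121292) (.lf 0)) (.nd (.lf 11277) (.lf 0))))) (.nd (.nd (.nd (.nd (.lf 0) (.lf 0)) (.nd (.lf 0) (.lf 0))) (.nd (.nd (.lf 95629) (.lf 0)) (.nd (.lf 30349) (.lf 0)))) (.nd (.nd (.nd (.lf 25676) (.lf 0)) (.nd (.lf 29453) (.lf 0))) (.nd (.nd (.lf 119117) (.lf 0)) (.nd (.lf 32269)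 (.lf 0))))))))

/-- table part -/
def xT1_4 : Tr :=
  .nd (.nd (.nd (.nd (.nd (.nd (.nd (.nd (.lf 17228) (.lf 0)) (.nd (.lf 82060) (.lf 0))) (.nd (.nd (.lf 88972) (.lf 0)) (.nd (.lf 88973) (.lf 0)))) (.nd (.nd (.nd (.lf 82061) (.lf 0)) (.nd (.lf 110861) (.lf 0))) (.nd (.nd (.lf 0) (.lf 0)) (.nd (.lf 84236) (.lf 0))))) (.nd (.nd (.nd (.nd (.lf 0) (.lf 0)) (.nd (.lf 17804) (.lf 0))) (.nd (.nd (.lf 13133) (.lf 0)) (.nd (.lf 92429) (.lf 0)))) (.nd (.nd (.nd (.lf 88588) (.lf 0)) (.nd (.lf 51981) (.lf 0))) (.nd (.nd (.lf 0) (.lf 0)) (.nd (.lf 50380) (.lf 0)))))) (.nd (.nd (.nd (.nd (.nd (.lf 112461) (.lf 0)) (.nd (.lf 0) (.lf 0))) (.nd (.nd (.lf 72076) (.lf 0)) (.nd (.lf 0) (.lf 0)))) (.nd (.nd (.nd (.lf 78285) (.lf 0)) (.nd (.lf 0) (.lf 0))) (.nd (.nd (.lf 91148) (.lf 0)) (.nd (.lf 87948) (.lf 0))))) (.nd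 (.nd (.nd (.nd (.lf 76492) (.lf 0)) (.nd (.lf 11596) (.lf 0))) (.nd (.nd (.lf 0) (.lf 0)) (.nd (.lf 0) (.lf 0)))) (.nd (.nd (.nd (.lf 24076) (.lf 0)) (.nd (.lf 37645) (.lf 0))) (.nd (.nd (.lf 67853) (.lf 0)) (.nd (.lf 121997) (.lf 0))))))) (.nd (.nd (.nd (.nd (.nd (.nd (.lf 75212) (.lf 0)) (.nd (.lf 101452) (.lf 0))) (.nd (.nd (.lf 104588) (.lf 0)) (.nd (.lf 100428) (.lf 0)))) (.nd (.nd (.nd (.lf 61581) (.lf 0)) (.nd (.lf 0) (.lf 0))) (.nd (.nd (.lf 18125) (.lf 0)) (.nd (.lf 18188) (.lf 0))))) (.nd (.nd (.nd (.nd (.lf 0) (.lf 0)) (.nd (.lf 106572) (.lf 0))) (.nd (.nd (.lf 54157) (.lf 0)) (.nd (.lf 0) (.lf 0)))) (.nd (.nd (.nd (.lf 41677) (.lf 0)) (.nd (.lf 64269) (.lf 0))) (.nd (.nd (.lf 42572) (.lf 0)) (.nd (.lf 0) (.lf 0)))))) (.nd (.nd (.nd (.nd (.nd (.lf 64972) (.lf 0)) (.nd (.lf 84173) (.lf 0)))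 (.nd (.nd (.lf 94477) (.lf 0)) (.nd (.lf 83404) (.lf 0)))) (.nd (.nd (.nd (.lf 0) (.lf 0)) (.nd (.lf 0) (.lf 0))) (.nd (.nd (.lf 65805) (.lf 0)) (.nd (.lf 0) (.lf 0))))) (.nd (.nd (.nd (.nd (.lf 0) (.lf 0)) (.nd (.lf 109517) (.lf 0))) (.nd (.nd (.lf 0) (.lf 0)) (.nd (.lf 102733) (.lf 0)))) (.nd (.nd (.nd (.lf 40973) (.lf 0)) (.nd (.lf 0) (.lf 0))) (.nd (.nd (.lf 124045) (.lf 0)) (.nd (.lf 104909) (.lf 0)))))))) (.nd (.nd (.nd (.nd (.nd (.nd (.nd (.lf 0) (.lf 0)) (.nd (.lf 63885) (.lf 0))) (.nd (.nd (.lf 115853) (.lf 0)) (.nd (.lf 112972) (.lf 0)))) (.nd (.nd (.nd (.lf 111052) (.lf 0)) (.nd (.lf 118413) (.lf 0))) (.nd (.nd (.lf 128012) (.lf 0)) (.nd (.lf 41868) (.lf 0))))) (.nd (.nd (.nd (.nd (.lf 61901) (.lf 0)) (.nd (.lf 46412) (.lf 0))) (.nd (.nd (.lf 123661) (.lf 0)) (.nd (.lf 0) (.lf 0)))) (.nd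 (.nd (.nd (.lf 0) (.lf 0)) (.nd (.lf 0) (.lf 0))) (.nd (.nd (.lf 0) (.lf 0)) (.nd (.lf 106125) (.lf 0)))))) (.nd (.nd (.nd (.nd (.nd (.lf 21260) (.lf 0)) (.nd (.lf 0) (.lf 0))) (.nd (.nd (.lf 24588) (.lf 0)) (.nd (.lf 19789) (.lf 0)))) (.nd (.nd (.nd (.lf 0) (.lf 0)) (.nd (.lf 0) (.lf 0))) (.nd (.nd (.lf 53517) (.lf 0)) (.nd (.lf 95116) (.lf 0))))) (.nd (.nd (.nd (.nd (.lf 0) (.lf 0)) (.nd (.lf 128076) (.lf 0))) (.nd (.nd (.lf 0) (.lf 0)) (.nd (.lf 0) (.lf 0)))) (.nd (.nd (.nd (.lf 54476) (.lf 0)) (.nd (.lf 52813) (.lf 0))) (.nd (.nd (.lf 68812) (.lf 0)) (.nd (.lf 116748) (.lf 0))))))) (.nd (.nd (.nd (.nd (.nd (.nd (.lf 0) (.lf 0)) (.nd (.lf 128396) (.lf 0))) (.nd (.nd (.lf 20876) (.lf 0)) (.nd (.lf 0) (.lf 0)))) (.nd (.nd (.nd (.lf 4813) (.lf 0)) (.nd (.lf 75469) (.lf 0))) (.nd (.nd (.lf 0) (.lf 0))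 (.nd (.lf 16013) (.lf 0))))) (.nd (.nd (.nd (.nd (.lf 0) (.lf 0)) (.nd (.lf 48972) (.lf 0))) (.nd (.nd (.lf 67276) (.lf 0)) (.nd (.lf 0) (.lf 0)))) (.nd (.nd (.nd (.lf 0) (.lf 0)) (.nd (.lf 0) (.lf 0))) (.nd (.nd (.lf 111820) (.lf 0)) (.nd (.lf 0) (.lf 0)))))) (.nd (.nd (.nd (.nd (.nd (.lf 0) (.lf 0)) (.nd (.lf 0) (.lf 0))) (.nd (.nd (.lf 0) (.lf 0)) (.nd (.lf 0) (.lf 0)))) (.nd (.nd (.nd (.lf 119116) (.lf 0)) (.nd (.lf 0) (.lf 0))) (.nd (.nd (.lf 92685) (.lf 0)) (.nd (.lf 0) (.lf 0))))) (.nd (.nd (.nd (.nd (.lf 25997) (.lf 0)) (.nd (.lf 113165) (.lf 0))) (.nd (.nd (.lf 0) (.lf 0)) (.nd (.lf 0) (.lf 0)))) (.nd (.nd (.nd (.lf 0) (.lf 0)) (.nd (.lf 8717) (.lf 0))) (.nd (.nd (.lf 108429) (.lf 0)) (.nd (.lf 30541) (.lf 0))))))))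

/-- table part -/
def xT1_5 : Tr :=
  .nd (.nd (.nd (.nd (.nd (.nd (.nd (.nd (.lf 74828) (.lf 0)) (.nd (.lf 0) (.lf 0))) (.nd (.nd (.lf 0) (.lf 0)) (.nd (.lf 0) (.lf 0)))) (.nd (.nd (.nd (.lf 0) (.lf 0)) (.nd (.lf 98828) (.lf 0))) (.nd (.nd (.lf 17805) (.lf 0)) (.nd (.lf 23501) (.lf 0))))) (.nd (.nd (.nd (.nd (.lf 107725) (.lf 0)) (.nd (.lf 88204) (.lf 0))) (.nd (.nd (.lf 104268) (.lf 0)) (.nd (.lf 53260) (.lf 0)))) (.nd (.nd (.nd (.lf 0) (.lf 0)) (.nd (.lf 0) (.lf 0))) (.nd (.nd (.lf 13) (.lf 0)) (.nd (.lf 0) (.lf 0)))))) (.nd (.nd (.nd (.nd (.nd (.lf 0) (.lf 0)) (.nd (.lf 107724) (.lf 0))) (.nd (.nd (.lf 0) (.lf 0)) (.nd (.lf 26764) (.lf 0)))) (.nd (.nd (.nd (.lf 0) (.lf 0)) (.nd (.lf 6028) (.lf 0))) (.nd (.nd (.lf 129420) (.lf 0)) (.nd (.lf 0) (.lf 0))))) (.nd (.nd (.nd (.nd (.lf 98124) (.lf 0))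 (.nd (.lf 9996) (.lf 0))) (.nd (.nd (.lf 0) (.lf 0)) (.nd (.lf 0) (.lf 0)))) (.nd (.nd (.nd (.lf 92300) (.lf 0)) (.nd (.lf 0) (.lf 0))) (.nd (.nd (.lf 56396) (.lf 0)) (.nd (.lf 86605) (.lf 0))))))) (.nd (.nd (.nd (.nd (.nd (.nd (.lf 0) (.lf 0)) (.nd (.lf 13517) (.lf 0))) (.nd (.nd (.lf 76621) (.lf 0)) (.nd (.lf 18700) (.lf 0)))) (.nd (.nd (.nd (.lf 34701) (.lf 0)) (.nd (.lf 127692) (.lf 0))) (.nd (.nd (.lf 0) (.lf 0)) (.nd (.lf 69581) (.lf 0))))) (.nd (.nd (.nd (.nd (.lf 72909) (.lf 0)) (.nd (.lf 0) (.lf 0))) (.nd (.nd (.lf 72077) (.lf 0)) (.nd (.lf 0) (.lf 0)))) (.nd (.nd (.nd (.lf 83340) (.lf 0)) (.nd (.lf 103756) (.lf 0))) (.nd (.nd (.lf 844) (.lf 0)) (.nd (.lf 21901) (.lf 0)))))) (.nd (.nd (.nd (.nd (.nd (.lf 0) (.lf 0)) (.nd (.lf 74764) (.lf 0))) (.nd (.nd (.lf 0) (.lf 0)) (.nd (.lf 67277) (.lf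 0)))) (.nd (.nd (.nd (.lf 0) (.lf 0)) (.nd (.lf 123980) (.lf 0))) (.nd (.nd (.lf 64780) (.lf 0)) (.nd (.lf 11724) (.lf 0))))) (.nd (.nd (.nd (.nd (.lf 0) (.lf 0)) (.nd (.lf 120333) (.lf 0))) (.nd (.nd (.lf 0) (.lf 0)) (.nd (.lf 97804) (.lf 0)))) (.nd (.nd (.nd (.lf 125772) (.lf 0)) (.nd (.lf 104205) (.lf 0))) (.nd (.nd (.lf 0) (.lf 0)) (.nd (.lf 34444) (.lf 0)))))))) (.nd (.nd (.nd (.nd (.nd (.nd (.nd (.lf 0) (.lf 0)) (.nd (.lf 123981) (.lf 0))) (.nd (.nd (.lf 27469) (.lf 0)) (.nd (.lf 31309) (.lf 0)))) (.nd (.nd (.nd (.lf 0) (.lf 0)) (.nd (.lf 7564) (.lf 0))) (.nd (.nd (.lf 40141) (.lf 0)) (.nd (.lf 73868) (.lf 0))))) (.nd (.nd (.nd (.nd (.lf 0) (.lf 0)) (.nd (.lf 0) (.lf 0))) (.nd (.nd (.lf 0) (.lf 0)) (.nd (.lf 77965) (.lf 0)))) (.nd (.nd (.nd (.lf 66701) (.lf 0)) (.nd (.lf 29452) (.lf 0))) (.nd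 (.nd (.lf 114253) (.lf 0)) (.nd (.lf 7245) (.lf 0)))))) (.nd (.nd (.nd (.nd (.nd (.lf 0) (.lf 0)) (.nd (.lf 45069) (.lf 0))) (.nd (.nd (.lf 4492) (.lf 0)) (.nd (.lf 86412) (.lf 0)))) (.nd (.nd (.nd (.lf 12364) (.lf 0)) (.nd (.lf 120077) (.lf 0))) (.nd (.nd (.lf 0) (.lf 0)) (.nd (.lf 0) (.lf 0))))) (.nd (.nd (.nd (.nd (.lf 0) (.lf 0)) (.nd (.lf 0) (.lf 0))) (.nd (.nd (.lf 67788) (.lf 0)) (.nd (.lf 0) (.lf 0)))) (.nd (.nd (.nd (.lf 107341) (.lf 0)) (.nd (.lf 0) (.lf 0))) (.nd (.nd (.lf 1421) (.lf 0)) (.nd (.lf 19788) (.lf 0))))))) (.nd (.nd (.nd (.nd (.nd (.nd (.lf 130316) (.lf 0)) (.nd (.lf 84172) (.lf 0))) (.nd (.nd (.lf 52685) (.lf 0)) (.nd (.lf 85581) (.lf 0)))) (.nd (.nd (.nd (.lf 0) (.lf 0)) (.nd (.lf 103244) (.lf 0))) (.nd (.nd (.lf 29324) (.lf 0)) (.nd (.lf 0) (.lf 0))))) (.nd (.nd (.nd (.nd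 (.lf 0) (.lf 0)) (.nd (.lf 75213) (.lf 0))) (.nd (.nd (.lf 0) (.lf 0)) (.nd (.lf 78156) (.lf 0)))) (.nd (.nd (.nd (.lf 10380) (.lf 0)) (.nd (.lf 64268) (.lf 0))) (.nd (.nd (.lf 41549) (.lf 0)) (.nd (.lf 126989) (.lf 0)))))) (.nd (.nd (.nd (.nd (.nd (.lf 0) (.lf 0)) (.nd (.lf 35597) (.lf 0))) (.nd (.nd (.lf 131533) (.lf 0)) (.nd (.lf 42189) (.lf 0)))) (.nd (.nd (.nd (.lf 56524) (.lf 0)) (.nd (.lf 77516) (.lf 0))) (.nd (.nd (.lf 77772) (.lf 0)) (.nd (.lf 45452) (.lf 0))))) (.nd (.nd (.nd (.nd (.lf 44301) (.lf 0)) (.nd (.lf 47436) (.lf 0))) (.nd (.nd (.lf 0) (.lf 0)) (.nd (.lf 0) (.lf 0)))) (.nd (.nd (.nd (.lf 0) (.lf 0)) (.nd (.lf 113101) (.lf 0))) (.nd (.nd (.lf 46220) (.lf 0)) (.nd (.lf 0) (.lf 0))))))))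

/-- table part -/
def xT1_6 : Tr :=
  .nd (.nd (.nd (.nd (.nd (.nd (.nd (.nd (.lf 70924) (.lf 0)) (.nd (.lf 91149) (.lf 0))) (.nd (.nd (.lf 82637) (.lf 0)) (.nd (.lf 0) (.lf 0)))) (.nd (.nd (.nd (.lf 6605) (.lf 0)) (.nd (.lf 85708) (.lf 0))) (.nd (.nd (.lf 72908) (.lf 0)) (.nd (.lf 0) (.lf 0))))) (.nd (.nd (.nd (.nd (.lf 0) (.lf 0)) (.nd (.lf 0) (.lf 0))) (.nd (.nd (.lf 0) (.lf 0)) (.nd (.lf 128397) (.lf 0)))) (.nd (.nd (.nd (.lf 0) (.lf 0)) (.nd (.lf 0) (.lf 0))) (.nd (.nd (.lf 0) (.lf 0)) (.nd (.lf 0) (.lf 0)))))) (.nd (.nd (.nd (.nd (.nd (.lf 109068) (.lf 0)) (.nd (.lf 40013) (.lf 0))) (.nd (.nd (.lf 66188) (.lf 0)) (.nd (.lf 0) (.lf 0)))) (.nd (.nd (.nd (.lf 99340) (.lf 0)) (.nd (.lf 117133) (.lf 0))) (.nd (.nd (.lf 1228) (.lf 0)) (.nd (.lf 0) (.lf 0))))) (.nd (.nd (.nd (.nd (.lf 0) (.lf 0)) (.nd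 (.lf 0) (.lf 0))) (.nd (.nd (.lf 0) (.lf 0)) (.nd (.lf 87052) (.lf 0)))) (.nd (.nd (.nd (.lf 72332) (.lf 0)) (.nd (.lf 0) (.lf 0))) (.nd (.nd (.lf 0) (.lf 0)) (.nd (.lf 43980) (.lf 0))))))) (.nd (.nd (.nd (.nd (.nd (.nd (.lf 96396) (.lf 0)) (.nd (.lf 26572) (.lf 0))) (.nd (.nd (.lf 0) (.lf 0)) (.nd (.lf 17997) (.lf 0)))) (.nd (.nd (.nd (.lf 86861) (.lf 0)) (.nd (.lf 77325) (.lf 0))) (.nd (.nd (.lf 61837) (.lf 0)) (.nd (.lf 73101) (.lf 0))))) (.nd (.nd (.nd (.nd (.lf 76045) (.lf 0)) (.nd (.lf 0) (.lf 0))) (.nd (.nd (.lf 83468) (.lf 0)) (.nd (.lf 35916) (.lf 0)))) (.nd (.nd (.nd (.lf 114381) (.lf 0)) (.nd (.lf 0) (.lf 0))) (.nd (.nd (.lf 101453) (.lf 0)) (.nd (.lf 64460) (.lf 0)))))) (.nd (.nd (.nd (.nd (.nd (.lf 39757) (.lf 0)) (.nd (.lf 114828) (.lf 0))) (.nd (.nd (.lf 0) (.lf 0)) (.nd (.lf 129100)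 (.lf 0)))) (.nd (.nd (.nd (.lf 93389) (.lf 0)) (.nd (.lf 0) (.lf 0))) (.nd (.nd (.lf 0) (.lf 0)) (.nd (.lf 52301) (.lf 0))))) (.nd (.nd (.nd (.nd (.lf 117197) (.lf 0)) (.nd (.lf 0) (.lf 0))) (.nd (.nd (.lf 0) (.lf 0)) (.nd (.lf 0) (.lf 0)))) (.nd (.nd (.nd (.lf 27980) (.lf 0)) (.nd (.lf 24653) (.lf 0))) (.nd (.nd (.lf 38412) (.lf 0)) (.nd (.lf 76044) (.lf 0)))))))) (.nd (.nd (.nd (.nd (.nd (.nd (.nd (.lf 0) (.lf 0)) (.nd (.lf 76620) (.lf 0))) (.nd (.nd (.lf 89356) (.lf 0)) (.nd (.lf 38092) (.lf 0)))) (.nd (.nd (.nd (.lf 123341) (.lf 0)) (.nd (.lf 0) (.lf 0))) (.nd (.nd (.lf 0) (.lf 0)) (.nd (.lf 0) (.lf 0))))) (.nd (.nd (.nd (.nd (.lf 18445) (.lf 0)) (.nd (.lf 0) (.lf 0))) (.nd (.nd (.lf 0) (.lf 0)) (.nd (.lf 0) (.lf 0)))) (.nd (.nd (.nd (.lf 19661) (.lf 0)) (.nd (.lf 128333) (.lf 0))) (.nd (.nd (.lf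 66636) (.lf 0)) (.nd (.lf 61132) (.lf 0)))))) (.nd (.nd (.nd (.nd (.nd (.lf 44300) (.lf 0)) (.nd (.lf 44237) (.lf 0))) (.nd (.nd (.lf 91405) (.lf 0)) (.nd (.lf 0) (.lf 0)))) (.nd (.nd (.nd (.lf 14221) (.lf 0)) (.nd (.lf 41101) (.lf 0))) (.nd (.nd (.lf 99789) (.lf 0)) (.nd (.lf 50381) (.lf 0))))) (.nd (.nd (.nd (.nd (.lf 0) (.lf 0)) (.nd (.lf 0) (.lf 0))) (.nd (.nd (.lf 0) (.lf 0)) (.nd (.lf 0) (.lf 0)))) (.nd (.nd (.nd (.lf 91404) (.lf 0)) (.nd (.lf 78541) (.lf 0))) (.nd (.nd (.lf 0) (.lf 0)) (.nd (.lf 4557) (.lf 0))))))) (.nd (.nd (.nd (.nd (.nd (.nd (.lf 28813) (.lf 0)) (.nd (.lf 48396) (.lf 0))) (.nd (.nd (.lf 0) (.lf 0)) (.nd (.lf 70285) (.lf 0)))) (.nd (.nd (.nd (.lf 91276) (.lf 0)) (.nd (.lf 48973) (.lf 0))) (.nd (.nd (.lf 27276) (.lf 0)) (.nd (.lf 88460) (.lf 0))))) (.nd (.nd (.nd (.nd (.lf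 0) (.lf 0)) (.nd (.lf 0) (.lf 0))) (.nd (.nd (.lf 0) (.lf 0)) (.nd (.lf 104269) (.lf 0)))) (.nd (.nd (.nd (.lf 13900) (.lf 0)) (.nd (.lf 0) (.lf 0))) (.nd (.nd (.lf 0) (.lf 0)) (.nd (.lf 78220) (.lf 0)))))) (.nd (.nd (.nd (.nd (.nd (.lf 130764) (.lf 0)) (.nd (.lf 0) (.lf 0))) (.nd (.nd (.lf 1869) (.lf 0)) (.nd (.lf 24332) (.lf 0)))) (.nd (.nd (.nd (.lf 333) (.lf 0)) (.nd (.lf 62668) (.lf 0))) (.nd (.nd (.lf 51660) (.lf 0)) (.nd (.lf 0) (.lf 0))))) (.nd (.nd (.nd (.nd (.lf 63180) (.lf 0)) (.nd (.lf 120908) (.lf 0))) (.nd (.nd (.lf 0) (.lf 0)) (.nd (.lf 0) (.lf 0)))) (.nd (.nd (.nd (.lf 0) (.lf 0)) (.nd (.lf 0) (.lf 0))) (.nd (.nd (.lf 94924) (.lf 0)) (.nd (.lf 69772) (.lf 0))))))))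

/-- table part -/
def xT1_7 : Tr :=
  .nd (.nd (.nd (.nd (.nd (.nd (.nd (.nd (.lf 81613) (.lf 0)) (.nd (.lf 0) (.lf 0))) (.nd (.nd (.lf 101069) (.lf 0)) (.nd (.lf 122060) (.lf 0)))) (.nd (.nd (.nd (.lf 0) (.lf 0)) (.nd (.lf 88396) (.lf 0))) (.nd (.nd (.lf 4941) (.lf 0)) (.nd (.lf 106957) (.lf 0))))) (.nd (.nd (.nd (.nd (.lf 0) (.lf 0)) (.nd (.lf 18765) (.lf 0))) (.nd (.nd (.lf 6924) (.lf 0)) (.nd (.lf 11212) (.lf 0)))) (.nd (.nd (.nd (.lf 110028) (.lf 0)) (.nd (.lf 0) (.lf 0))) (.nd (.nd (.lf 22540) (.lf 0)) (.nd (.lf 67340) (.lf 0)))))) (.nd (.nd (.nd (.nd (.nd (.lf 6925) (.lf 0)) (.nd (.lf 44045) (.lf 0))) (.nd (.nd (.lf 0) (.lf 0)) (.nd (.lf 11341) (.lf 0)))) (.nd (.nd (.nd (.lf 110413) (.lf 0)) (.nd (.lf 54477) (.lf 0))) (.nd (.nd (.lf 7885) (.lf 0)) (.nd (.lf 0) (.lf 0))))) (.nd (.nd (.nd (.nd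 (.lf 106892) (.lf 0)) (.nd (.lf 54924) (.lf 0))) (.nd (.nd (.lf 131661) (.lf 0)) (.nd (.lf 92941) (.lf 0)))) (.nd (.nd (.nd (.lf 91277) (.lf 0)) (.nd (.lf 38220) (.lf 0))) (.nd (.nd (.lf 123597) (.lf 0)) (.nd (.lf 0) (.lf 0))))))) (.nd (.nd (.nd (.nd (.nd (.nd (.lf 22541) (.lf 0)) (.nd (.lf 22413) (.lf 0))) (.nd (.nd (.lf 102860) (.lf 0)) (.nd (.lf 130636) (.lf 0)))) (.nd (.nd (.nd (.lf 0) (.lf 0)) (.nd (.lf 54029) (.lf 0))) (.nd (.nd (.lf 0) (.lf 0)) (.nd (.lf 59597) (.lf 0))))) (.nd (.nd (.nd (.nd (.lf 0) (.lf 0)) (.nd (.lf 103757) (.lf 0))) (.nd (.nd (.lf 50957) (.lf 0)) (.nd (.lf 3213) (.lf 0)))) (.nd (.nd (.nd (.lf 104781) (.lf 0)) (.nd (.lf 114188) (.lf 0))) (.nd (.nd (.lf 0) (.lf 0)) (.nd (.lf 0) (.lf 0)))))) (.nd (.nd (.nd (.nd (.nd (.lf 36876) (.lf 0)) (.nd (.lf 39309) (.lf 0))) (.nd (.nd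 (.lf 125069) (.lf 0)) (.nd (.lf 42893) (.lf 0)))) (.nd (.nd (.nd (.lf 0) (.lf 0)) (.nd (.lf 128781) (.lf 0))) (.nd (.nd (.lf 12685) (.lf 0)) (.nd (.lf 63757) (.lf 0))))) (.nd (.nd (.nd (.nd (.lf 0) (.lf 0)) (.nd (.lf 37900) (.lf 0))) (.nd (.nd (.lf 0) (.lf 0)) (.nd (.lf 76173) (.lf 0)))) (.nd (.nd (.nd (.lf 0) (.lf 0)) (.nd (.lf 0) (.lf 0))) (.nd (.nd (.lf 69773) (.lf 0)) (.nd (.lf 15885) (.lf 0)))))))) (.nd (.nd (.nd (.nd (.nd (.nd (.nd (.lf 94156) (.lf 0)) (.nd (.lf 0) (.lf 0))) (.nd (.nd (.lf 35660) (.lf 0)) (.nd (.lf 104780) (.lf 0)))) (.nd (.nd (.nd (.lf 38348) (.lf 0)) (.nd (.lf 28812) (.lf 0))) (.nd (.nd (.lf 47053) (.lf 0)) (.nd (.lf 98316) (.lf 0))))) (.nd (.nd (.nd (.nd (.lf 106508) (.lf 0)) (.nd (.lf 0) (.lf 0))) (.nd (.nd (.lf 37581) (.lf 0)) (.nd (.lf 107468) (.lf 0)))) (.nd (.nd (.nd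 (.lf 60749) (.lf 0)) (.nd (.lf 38796) (.lf 0))) (.nd (.nd (.lf 15948) (.lf 0)) (.nd (.lf 69068) (.lf 0)))))) (.nd (.nd (.nd (.nd (.nd (.lf 0) (.lf 0)) (.nd (.lf 29068) (.lf 0))) (.nd (.nd (.lf 49548) (.lf 0)) (.nd (.lf 0) (.lf 0)))) (.nd (.nd (.nd (.lf 0) (.lf 0)) (.nd (.lf 75725) (.lf 0))) (.nd (.nd (.lf 0) (.lf 0)) (.nd (.lf 88141) (.lf 0))))) (.nd (.nd (.nd (.nd (.lf 0) (.lf 0)) (.nd (.lf 130701) (.lf 0))) (.nd (.nd (.lf 112141) (.lf 0)) (.nd (.lf 94541) (.lf 0)))) (.nd (.nd (.nd (.lf 61453) (.lf 0)) (.nd (.lf 40269) (.lf 0))) (.nd (.nd (.lf 0) (.lf 0)) (.nd (.lf 79053) (.lf 0))))))) (.nd (.nd (.nd (.nd (.nd (.nd (.lf 0) (.lf 0)) (.nd (.lf 37708) (.lf 0))) (.nd (.nd (.lf 26892) (.lf 0)) (.nd (.lf 0) (.lf 0)))) (.nd (.nd (.nd (.lf 115405) (.lf 0)) (.nd (.lf 83277) (.lf 0))) (.nd (.nd (.lf 85453)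 (.lf 0)) (.nd (.lf 113229) (.lf 0))))) (.nd (.nd (.nd (.nd (.lf 102092) (.lf 0)) (.nd (.lf 62220) (.lf 0))) (.nd (.nd (.lf 47949) (.lf 0)) (.nd (.lf 21132) (.lf 0)))) (.nd (.nd (.nd (.lf 100557) (.lf 0)) (.nd (.lf 124492) (.lf 0))) (.nd (.nd (.lf 0) (.lf 0)) (.nd (.lf 0) (.lf 0)))))) (.nd (.nd (.nd (.nd (.nd (.lf 58956) (.lf 0)) (.nd (.lf 20557) (.lf 0))) (.nd (.nd (.lf 85004) (.lf 0)) (.nd (.lf 114700) (.lf 0)))) (.nd (.nd (.nd (.lf 0) (.lf 0)) (.nd (.lf 16333) (.lf 0))) (.nd (.nd (.lf 70668) (.lf 0)) (.nd (.lf 17421) (.lf 0))))) (.nd (.nd (.nd (.nd (.lf 204) (.lf 0)) (.nd (.lf 43148) (.lf 0))) (.nd (.nd (.lf 15693) (.lf 0)) (.nd (.lf 33420) (.lf 0)))) (.nd (.nd (.nd (.lf 28684) (.lf 0)) (.nd (.lf 58445) (.lf 0))) (.nd (.nd (.lf 35852) (.lf 0)) (.nd (.lf 29517) (.lf 0))))))))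

/-- table part -/
def xT1_8 : Tr :=
  .nd (.nd (.nd (.nd (.nd (.nd (.nd (.nd (.lf 128524) (.lf 0)) (.nd (.lf 70093) (.lf 0))) (.nd (.nd (.lf 0) (.lf 0)) (.nd (.lf 93069) (.lf 0)))) (.nd (.nd (.nd (.lf 0) (.lf 0)) (.nd (.lf 0) (.lf 0))) (.nd (.nd (.lf 59341) (.lf 0)) (.nd (.lf 0) (.lf 0))))) (.nd (.nd (.nd (.nd (.lf 0) (.lf 0)) (.nd (.lf 0) (.lf 0))) (.nd (.nd (.lf 27724) (.lf 0)) (.nd (.lf 0) (.lf 0)))) (.nd (.nd (.nd (.lf 0) (.lf 0)) (.nd (.lf 0) (.lf 0))) (.nd (.nd (.lf 105549) (.lf 0)) (.nd (.lf 0) (.lf 0)))))) (.nd (.nd (.nd (.nd (.nd (.lf 0) (.lf 0)) (.nd (.lf 0) (.lf 0))) (.nd (.nd (.lf 7116) (.lf 0)) (.nd (.lf 51852) (.lf 0)))) (.nd (.nd (.nd (.lf 0) (.lf 0)) (.nd (.lf 112460) (.lf 0))) (.nd (.nd (.lf 68108) (.lf 0)) (.nd (.lf 71885) (.lf 0))))) (.nd (.nd (.nd (.nd (.lf 123149) (.lf 0)) (.nd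 (.lf 61709) (.lf 0))) (.nd (.nd (.lf 0) (.lf 0)) (.nd (.lf 119052) (.lf 0)))) (.nd (.nd (.nd (.lf 0) (.lf 0)) (.nd (.lf 19148) (.lf 0))) (.nd (.nd (.lf 43596) (.lf 0)) (.nd (.lf 0) (.lf 0))))))) (.nd (.nd (.nd (.nd (.nd (.nd (.lf 0) (.lf 0)) (.nd (.lf 131532) (.lf 0))) (.nd (.nd (.lf 119692) (.lf 0)) (.nd (.lf 123148) (.lf 0)))) (.nd (.nd (.nd (.lf 38093) (.lf 0)) (.nd (.lf 14220) (.lf 0))) (.nd (.nd (.lf 114252) (.lf 0)) (.nd (.lf 107917) (.lf 0))))) (.nd (.nd (.nd (.nd (.lf 33165) (.lf 0)) (.nd (.lf 0) (.lf 0))) (.nd (.nd (.lf 0) (.lf 0)) (.nd (.lf 50253) (.lf 0)))) (.nd (.nd (.nd (.lf 0) (.lf 0)) (.nd (.lf 31436) (.lf 0))) (.nd (.nd (.lf 104204) (.lf 0)) (.nd (.lf 66189) (.lf 0)))))) (.nd (.nd (.nd (.nd (.nd (.lf 0) (.lf 0)) (.nd (.lf 0) (.lf 0))) (.nd (.nd (.lf 0) (.lf 0)) (.nd (.lf 0) (.lf 0))))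 (.nd (.nd (.nd (.lf 16204) (.lf 0)) (.nd (.lf 125004) (.lf 0))) (.nd (.nd (.lf 0) (.lf 0)) (.nd (.lf 0) (.lf 0))))) (.nd (.nd (.nd (.nd (.lf 106124) (.lf 0)) (.nd (.lf 56397) (.lf 0))) (.nd (.nd (.lf 63245) (.lf 0)) (.nd (.lf 0) (.lf 0)))) (.nd (.nd (.nd (.lf 0) (.lf 0)) (.nd (.lf 37837) (.lf 0))) (.nd (.nd (.lf 108493) (.lf 0)) (.nd (.lf 0) (.lf 0)))))))) (.nd (.nd (.nd (.nd (.nd (.nd (.nd (.lf 0) (.lf 0)) (.nd (.lf 43660) (.lf 0))) (.nd (.nd (.lf 81676) (.lf 0)) (.nd (.lf 0) (.lf 0)))) (.nd (.nd (.nd (.lf 128973) (.lf 0)) (.nd (.lf 5836) (.lf 0))) (.nd (.nd (.lf 0) (.lf 0)) (.nd (.lf 20364) (.lf 0))))) (.nd (.nd (.nd (.nd (.lf 66316) (.lf 0)) (.nd (.lf 50445) (.lf 0))) (.nd (.nd (.lf 43981) (.lf 0)) (.nd (.lf 37580) (.lf 0)))) (.nd (.nd (.nd (.lf 0) (.lf 0)) (.nd (.lf 1868) (.lf 0))) (.nd (.nd (.lf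 56076) (.lf 0)) (.nd (.lf 0) (.lf 0)))))) (.nd (.nd (.nd (.nd (.nd (.lf 71308) (.lf 0)) (.nd (.lf 117772) (.lf 0))) (.nd (.nd (.lf 85261) (.lf 0)) (.nd (.lf 40845) (.lf 0)))) (.nd (.nd (.nd (.lf 130700) (.lf 0)) (.nd (.lf 25036) (.lf 0))) (.nd (.nd (.lf 47309) (.lf 0)) (.nd (.lf 0) (.lf 0))))) (.nd (.nd (.nd (.nd (.lf 81356) (.lf 0)) (.nd (.lf 114509) (.lf 0))) (.nd (.nd (.lf 0) (.lf 0)) (.nd (.lf 105484) (.lf 0)))) (.nd (.nd (.nd (.lf 50573) (.lf 0)) (.nd (.lf 92877) (.lf 0))) (.nd (.nd (.lf 120141) (.lf 0)) (.nd (.lf 103117) (.lf 0))))))) (.nd (.nd (.nd (.nd (.nd (.nd (.lf 0) (.lf 0)) (.nd (.lf 0) (.lf 0))) (.nd (.nd (.lf 12172) (.lf 0)) (.nd (.lf 0) (.lf 0)))) (.nd (.nd (.nd (.lf 12620) (.lf 0)) (.nd (.lf 0) (.lf 0))) (.nd (.nd (.lf 62349) (.lf 0)) (.nd (.lf 0) (.lf 0))))) (.nd (.nd (.nd (.nd (.lf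 109516) (.lf 0)) (.nd (.lf 113741) (.lf 0))) (.nd (.nd (.lf 0) (.lf 0)) (.nd (.lf 0) (.lf 0)))) (.nd (.nd (.nd (.lf 111629) (.lf 0)) (.nd (.lf 128077) (.lf 0))) (.nd (.nd (.lf 6541) (.lf 0)) (.nd (.lf 0) (.lf 0)))))) (.nd (.nd (.nd (.nd (.nd (.lf 17037) (.lf 0)) (.nd (.lf 0) (.lf 0))) (.nd (.nd (.lf 98317) (.lf 0)) (.nd (.lf 0) (.lf 0)))) (.nd (.nd (.nd (.lf 0) (.lf 0)) (.nd (.lf 48652) (.lf 0))) (.nd (.nd (.lf 34572) (.lf 0)) (.nd (.lf 111309) (.lf 0))))) (.nd (.nd (.nd (.nd (.lf 0) (.lf 0)) (.nd (.lf 0) (.lf 0))) (.nd (.nd (.lf 62796) (.lf 0)) (.nd (.lf 4940) (.lf 0)))) (.nd (.nd (.nd (.lf 0) (.lf 0)) (.nd (.lf 80909) (.lf 0))) (.nd (.nd (.lf 0) (.lf 0)) (.nd (.lf 52109) (.lf 0))))))))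

/-- table part -/
def xT1_9 : Tr :=
  .nd (.nd (.nd (.nd (.nd (.nd (.nd (.nd (.lf 0) (.lf 106701)) (.nd (.lf 0) (.lf 0))) (.nd (.nd (.lf 83020) (.lf 0)) (.nd (.lf 0) (.lf 0)))) (.nd (.nd (.nd (.lf 0) (.lf 0)) (.nd (.lf 102732) (.lf 0))) (.nd (.nd (.lf 0) (.lf 0)) (.nd (.lf 0) (.lf 0))))) (.nd (.nd (.nd (.nd (.lf 117453) (.lf 0)) (.nd (.lf 38604) (.lf 0))) (.nd (.nd (.lf 129484) (.lf 0)) (.nd (.lf 55693) (.lf 0)))) (.nd (.nd (.nd (.lf 101644) (.lf 0)) (.nd (.lf 91981) (.lf 0))) (.nd (.nd (.lf 396) (.lf 0)) (.nd (.lf 0) (.lf 0)))))) (.nd (.nd (.nd (.nd (.nd (.lf 0) (.lf 0)) (.nd (.lf 0) (.lf 0))) (.nd (.nd (.lf 43340) (.lf 0)) (.nd (.lf 0) (.lf 0)))) (.nd (.nd (.nd (.lf 13069) (.lf 0)) (.nd (.lf 46285) (.lf 0))) (.nd (.nd (.lf 0) (.lf 0)) (.nd (.lf 0) (.lf 0))))) (.nd (.nd (.nd (.nd (.lf 100364) (.lf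 0)) (.nd (.lf 0) (.lf 0))) (.nd (.nd (.lf 27788) (.lf 0)) (.nd (.lf 0) (.lf 0)))) (.nd (.nd (.nd (.lf 109773) (.lf 0)) (.nd (.lf 83084) (.lf 0))) (.nd (.nd (.lf 8460) (.lf 0)) (.nd (.lf 85709) (.lf 0))))))) (.nd (.nd (.nd (.nd (.nd (.nd (.lf 0) (.lf 0)) (.nd (.lf 125068) (.lf 0))) (.nd (.nd (.lf 0) (.lf 0)) (.nd (.lf 38540) (.lf 0)))) (.nd (.nd (.nd (.lf 68620) (.lf 0)) (.nd (.lf 49420) (.lf 0))) (.nd (.nd (.lf 113612) (.lf 0)) (.nd (.lf 0) (.lf 0))))) (.nd (.nd (.nd (.nd (.lf 131020) (.lf 0)) (.nd (.lf 51276) (.lf 0))) (.nd (.nd (.lf 21196) (.lf 0)) (.nd (.lf 0) (.lf 0)))) (.nd (.nd (.nd (.lf 4621) (.lf 0)) (.nd (.lf 19853) (.lf 0))) (.nd (.nd (.lf 105612) (.lf 0)) (.nd (.lf 67661) (.lf 0)))))) (.nd (.nd (.nd (.nd (.nd (.lf 0) (.lf 0)) (.nd (.lf 0) (.lf 0))) (.nd (.nd (.lf 69964) (.lf 0)) (.nd (.lf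 0) (.lf 0)))) (.nd (.nd (.nd (.lf 0) (.lf 0)) (.nd (.lf 78860) (.lf 0))) (.nd (.nd (.lf 0) (.lf 0)) (.nd (.lf 122188) (.lf 0))))) (.nd (.nd (.nd (.nd (.lf 125005) (.lf 0)) (.nd (.lf 85580) (.lf 0))) (.nd (.nd (.lf 98125) (.lf 0)) (.nd (.lf 84044) (.lf 0)))) (.nd (.nd (.nd (.lf 0) (.lf 0)) (.nd (.lf 0) (.lf 0))) (.nd (.nd (.lf 80140) (.lf 0)) (.nd (.lf 36364) (.lf 0)))))))) (.nd (.nd (.nd (.nd (.nd (.nd (.nd (.lf 0) (.lf 0)) (.nd (.lf 51277) (.lf 0))) (.nd (.nd (.lf 14924) (.lf 0)) (.nd (.lf 43020) (.lf 0)))) (.nd (.nd (.nd (.lf 80077) (.lf 0)) (.nd (.lf 102604) (.lf 0))) (.nd (.nd (.lf 83405) (.lf 0)) (.nd (.lf 25996) (.lf 0))))) (.nd (.nd (.nd (.nd (.lf 0) (.lf 0)) (.nd (.lf 117132) (.lf 0))) (.nd (.nd (.lf 45453) (.lf 0)) (.nd (.lf 52428) (.lf 0)))) (.nd (.nd (.nd (.lf 32076) (.lf 0)) (.nd (.lf 0)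 (.lf 0))) (.nd (.nd (.lf 36877) (.lf 0)) (.nd (.lf 26444) (.lf 0)))))) (.nd (.nd (.nd (.nd (.nd (.lf 0) (.lf 0)) (.nd (.lf 95309) (.lf 0))) (.nd (.nd (.lf 97228) (.lf 0)) (.nd (.lf 0) (.lf 0)))) (.nd (.nd (.nd (.lf 0) (.lf 0)) (.nd (.lf 67468) (.lf 0))) (.nd (.nd (.lf 115148) (.lf 0)) (.nd (.lf 0) (.lf 0))))) (.nd (.nd (.nd (.nd (.lf 0) (.lf 0)) (.nd (.lf 45580) (.lf 0))) (.nd (.nd (.lf 49101) (.lf 0)) (.nd (.lf 126925) (.lf 0)))) (.nd (.nd (.nd (.lf 0) (.lf 0)) (.nd (.lf 104973) (.lf 0))) (.nd (.nd (.lf 0) (.lf 0)) (.nd (.lf 23180) (.lf 0))))))) (.nd (.nd (.nd (.nd (.nd (.nd (.lf 0) (.lf 0)) (.nd (.lf 59596) (.lf 0))) (.nd (.nd (.lf 121357) (.lf 0)) (.nd (.lf 78732) (.lf 0)))) (.nd (.nd (.nd (.lf 25613) (.lf 0)) (.nd (.lf 0) (.lf 0))) (.nd (.nd (.lf 81997) (.lf 0)) (.nd (.lf 0) (.lf 0))))) (.nd (.nd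 (.nd (.nd (.lf 86029) (.lf 0)) (.nd (.lf 118220) (.lf 0))) (.nd (.nd (.lf 15180) (.lf 0)) (.nd (.lf 0) (.lf 0)))) (.nd (.nd (.nd (.lf 14413) (.lf 0)) (.nd (.lf 20236) (.lf 0))) (.nd (.nd (.lf 0) (.lf 0)) (.nd (.lf 0) (.lf 0)))))) (.nd (.nd (.nd (.nd (.nd (.lf 88205) (.lf 0)) (.nd (.lf 0) (.lf 0))) (.nd (.nd (.lf 70156) (.lf 0)) (.nd (.lf 129101) (.lf 0)))) (.nd (.nd (.nd (.lf 99341) (.lf 0)) (.nd (.lf 0) (.lf 0))) (.nd (.nd (.lf 62989) (.lf 0)) (.nd (.lf 41421) (.lf 0))))) (.nd (.nd (.nd (.nd (.lf 52941) (.lf 0)) (.nd (.lf 0) (.lf 0))) (.nd (.nd (.lf 0) (.lf 0)) (.nd (.lf 9868) (.lf 0)))) (.nd (.nd (.nd (.lf 0) (.lf 0)) (.nd (.lf 0) (.lf 0))) (.nd (.nd (.lf 0) (.lf 0)) (.nd (.lf 0) (.lf 0))))))))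

/-- table part -/
def xT1_10 : Tr :=
  .nd (.nd (.nd (.nd (.nd (.nd (.nd (.nd (.lf 0) (.lf 100556)) (.nd (.lf 3341) (.lf 0))) (.nd (.nd (.lf 0) (.lf 0)) (.nd (.lf 0) (.lf 0)))) (.nd (.nd (.nd (.lf 0) (.lf 0)) (.nd (.lf 59340) (.lf 0))) (.nd (.nd (.lf 0) (.lf 0)) (.nd (.lf 12621) (.lf 0))))) (.nd (.nd (.nd (.nd (.lf 0) (.lf 0)) (.nd (.lf 0) (.lf 0))) (.nd (.nd (.lf 71309) (.lf 0)) (.nd (.lf 115084) (.lf 0)))) (.nd (.nd (.nd (.lf 111308) (.lf 0)) (.nd (.lf 0) (.lf 0))) (.nd (.nd (.lf 34509) (.lf 0)) (.nd (.lf 0) (.lf 0)))))) (.nd (.nd (.nd (.nd (.nd (.lf 0) (.lf 0)) (.nd (.lf 14156) (.lf 0))) (.nd (.nd (.lf 14989) (.lf 0)) (.nd (.lf 79756) (.lf 0)))) (.nd (.nd (.nd (.lf 102989) (.lf 0)) (.nd (.lf 63181) (.lf 0))) (.nd (.nd (.lf 8269) (.lf 0)) (.nd (.lf 5772) (.lf 0))))) (.nd (.nd (.nd (.nd (.lf 0) (.lf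 0)) (.nd (.lf 0) (.lf 0))) (.nd (.nd (.lf 2764) (.lf 0)) (.nd (.lf 0) (.lf 0)))) (.nd (.nd (.nd (.lf 0) (.lf 0)) (.nd (.lf 69004) (.lf 0))) (.nd (.nd (.lf 0) (.lf 0)) (.nd (.lf 48397) (.lf 0))))))) (.nd (.nd (.nd (.nd (.nd (.nd (.lf 0) (.lf 0)) (.nd (.lf 0) (.lf 0))) (.nd (.nd (.lf 48013) (.lf 0)) (.nd (.lf 61325) (.lf 0)))) (.nd (.nd (.nd (.lf 0) (.lf 0)) (.nd (.lf 0) (.lf 0))) (.nd (.nd (.lf 0) (.lf 0)) (.nd (.lf 37388) (.lf 0))))) (.nd (.nd (.nd (.nd (.lf 56908) (.lf 0)) (.nd (.lf 0) (.lf 0))) (.nd (.nd (.lf 88525) (.lf 0)) (.nd (.lf 0) (.lf 0)))) (.nd (.nd (.nd (.lf 126477) (.lf 0)) (.nd (.lf 11468) (.lf 0))) (.nd (.nd (.lf 95756) (.lf 0)) (.nd (.lf 68493) (.lf 0)))))) (.nd (.nd (.nd (.nd (.nd (.lf 131660) (.lf 0)) (.nd (.lf 0) (.lf 0))) (.nd (.nd (.lf 58444) (.lf 0)) (.nd (.lf 0) (.lf 0)))) (.nd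 (.nd (.nd (.lf 21324) (.lf 0)) (.nd (.lf 0) (.lf 0))) (.nd (.nd (.lf 0) (.lf 0)) (.nd (.lf 15437) (.lf 0))))) (.nd (.nd (.nd (.nd (.lf 118349) (.lf 0)) (.nd (.lf 0) (.lf 0))) (.nd (.nd (.lf 13068) (.lf 0)) (.nd (.lf 127308) (.lf 0)))) (.nd (.nd (.nd (.lf 101068) (.lf 0)) (.nd (.lf 0) (.lf 0))) (.nd (.nd (.lf 24205) (.lf 0)) (.nd (.lf 0) (.lf 0)))))))) (.nd (.nd (.nd (.nd (.nd (.nd (.nd (.lf 34957) (.lf 0)) (.nd (.lf 0) (.lf 0))) (.nd (.nd (.lf 77836) (.lf 0)) (.nd (.lf 0) (.lf 0)))) (.nd (.nd (.nd (.lf 92940) (.lf 0)) (.nd (.lf 82572) (.lf 0))) (.nd (.nd (.lf 130892) (.lf 0)) (.nd (.lf 50252) (.lf 0))))) (.nd (.nd (.nd (.nd (.lf 89613) (.lf 0)) (.nd (.lf 76749) (.lf 0))) (.nd (.nd (.lf 111692) (.lf 0)) (.nd (.lf 0) (.lf 0)))) (.nd (.nd (.nd (.lf 82636) (.lf 0)) (.nd (.lf 119372) (.lf 0))) (.nd (.nd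 (.lf 47948) (.lf 0)) (.nd (.lf 129357) (.lf 0)))))) (.nd (.nd (.nd (.nd (.nd (.lf 0) (.lf 0)) (.nd (.lf 96269) (.lf 0))) (.nd (.nd (.lf 44429) (.lf 0)) (.nd (.lf 0) (.lf 0)))) (.nd (.nd (.nd (.lf 0) (.lf 0)) (.nd (.lf 0) (.lf 0))) (.nd (.nd (.lf 0) (.lf 0)) (.nd (.lf 56909) (.lf 0))))) (.nd (.nd (.nd (.nd (.lf 44812) (.lf 0)) (.nd (.lf 79693) (.lf 0))) (.nd (.nd (.lf 49869) (.lf 0)) (.nd (.lf 100877) (.lf 0)))) (.nd (.nd (.nd (.lf 15500) (.lf 0)) (.nd (.lf 95244) (.lf 0))) (.nd (.nd (.lf 128013) (.lf 0)) (.nd (.lf 27468) (.lf 0))))))) (.nd (.nd (.nd (.nd (.nd (.nd (.lf 72524) (.lf 0)) (.nd (.lf 97549) (.lf 0))) (.nd (.nd (.lf 43021) (.lf 0)) (.nd (.lf 111053) (.lf 0)))) (.nd (.nd (.nd (.lf 18124) (.lf 0)) (.nd (.lf 35148) (.lf 0))) (.nd (.nd (.lf 81677) (.lf 0)) (.nd (.lf 68749) (.lf 0))))) (.nd (.nd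 (.nd (.nd (.lf 0) (.lf 0)) (.nd (.lf 52940) (.lf 0))) (.nd (.nd (.lf 22349) (.lf 0)) (.nd (.lf 0) (.lf 0)))) (.nd (.nd (.nd (.lf 115468) (.lf 0)) (.nd (.lf 0) (.lf 0))) (.nd (.nd (.lf 77069) (.lf 0)) (.nd (.lf 109260) (.lf 0)))))) (.nd (.nd (.nd (.nd (.nd (.lf 101324) (.lf 0)) (.nd (.lf 0) (.lf 0))) (.nd (.nd (.lf 0) (.lf 0)) (.nd (.lf 0) (.lf 0)))) (.nd (.nd (.nd (.lf 121421) (.lf 0)) (.nd (.lf 64653) (.lf 0))) (.nd (.nd (.lf 123660) (.lf 0)) (.nd (.lf 49804) (.lf 0))))) (.nd (.nd (.nd (.nd (.lf 68044) (.lf 0)) (.nd (.lf 109004) (.lf 0))) (.nd (.nd (.lf 0) (.lf 0)) (.nd (.lf 76493) (.lf 0)))) (.nd (.nd (.nd (.lf 8268) (.lf 0)) (.nd (.lf 124236) (.lf 0))) (.nd (.nd (.lf 127117) (.lf 0)) (.nd (.lf 131596) (.lf 0))))))))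

/-- table part -/
def xT1_11 : Tr :=
  .nd (.nd (.nd (.nd (.nd (.nd (.nd (.nd (.lf 128972) (.lf 0)) (.nd (.lf 30605) (.lf 0))) (.nd (.nd (.lf 112204) (.lf 0)) (.nd (.lf 106573) (.lf 0)))) (.nd (.nd (.nd (.lf 52557) (.lf 0)) (.nd (.lf 25677) (.lf 0))) (.nd (.nd (.lf 0) (.lf 0)) (.nd (.lf 87500) (.lf 0))))) (.nd (.nd (.nd (.nd (.lf 57485) (.lf 0)) (.nd (.lf 44557) (.lf 0))) (.nd (.nd (.lf 93452) (.lf 0)) (.nd (.lf 0) (.lf 0)))) (.nd (.nd (.nd (.lf 62604) (.lf 0)) (.nd (.lf 0) (.lf 0))) (.nd (.nd (.lf 121484) (.lf 0)) (.nd (.lf 0) (.lf 0)))))) (.nd (.nd (.nd (.nd (.nd (.lf 37964) (.lf 0)) (.nd (.lf 122445) (.lf 0))) (.nd (.nd (.lf 71629) (.lf 0)) (.nd (.lf 99085) (.lf 0)))) (.nd (.nd (.nd (.lf 0) (.lf 0)) (.nd (.lf 54028) (.lf 0))) (.nd (.nd (.lf 86349) (.lf 0)) (.nd (.lf 75341) (.lf 0))))) (.nd (.nd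 (.nd (.nd (.lf 63820) (.lf 0)) (.nd (.lf 118733) (.lf 0))) (.nd (.nd (.lf 0) (.lf 0)) (.nd (.lf 0) (.lf 0)))) (.nd (.nd (.nd (.lf 0) (.lf 0)) (.nd (.lf 61772) (.lf 0))) (.nd (.nd (.lf 100109) (.lf 0)) (.nd (.lf 27020) (.lf 0))))))) (.nd (.nd (.nd (.nd (.nd (.nd (.lf 0) (.lf 0)) (.nd (.lf 104332) (.lf 0))) (.nd (.nd (.lf 120460) (.lf 0)) (.nd (.lf 0) (.lf 0)))) (.nd (.nd (.nd (.lf 33228) (.lf 0)) (.nd (.lf 0) (.lf 0))) (.nd (.nd (.lf 0) (.lf 0)) (.nd (.lf 96076) (.lf 0))))) (.nd (.nd (.nd (.nd (.lf 40076) (.lf 0)) (.nd (.lf 0) (.lf 0))) (.nd (.nd (.lf 26445) (.lf 0)) (.nd (.lf 57229) (.lf 0)))) (.nd (.nd (.nd (.lf 109069) (.lf 0)) (.nd (.lf 109261) (.lf 0))) (.nd (.nd (.lf 120973) (.lf 0)) (.nd (.lf 58764) (.lf 0)))))) (.nd (.nd (.nd (.nd (.nd (.lf 0) (.lf 0)) (.nd (.lf 117004) (.lf 0))) (.nd (.nd (.lf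 81101) (.lf 0)) (.nd (.lf 121293) (.lf 0)))) (.nd (.nd (.nd (.lf 106189) (.lf 0)) (.nd (.lf 78669) (.lf 0))) (.nd (.nd (.lf 35404) (.lf 0)) (.nd (.lf 98637) (.lf 0))))) (.nd (.nd (.nd (.nd (.lf 0) (.lf 0)) (.nd (.lf 39245) (.lf 0))) (.nd (.nd (.lf 68364) (.lf 0)) (.nd (.lf 46605) (.lf 0)))) (.nd (.nd (.nd (.lf 0) (.lf 0)) (.nd (.lf 0) (.lf 0))) (.nd (.nd (.lf 119565) (.lf 0)) (.nd (.lf 72461) (.lf 0)))))))) (.nd (.nd (.nd (.nd (.nd (.nd (.nd (.lf 56781) (.lf 0)) (.nd (.lf 0) (.lf 0))) (.nd (.nd (.lf 35341) (.lf 0)) (.nd (.lf 0) (.lf 0)))) (.nd (.nd (.nd (.lf 0) (.lf 0)) (.nd (.lf 87693) (.lf 0))) (.nd (.nd (.lf 127052) (.lf 0)) (.nd (.lf 57932) (.lf 0))))) (.nd (.nd (.nd (.nd (.lf 0) (.lf 0)) (.nd (.lf 0) (.lf 0))) (.nd (.nd (.lf 0) (.lf 0)) (.nd (.lf 0) (.lf 0)))) (.nd (.nd (.nd (.lf 113100) (.lf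 0)) (.nd (.lf 44749) (.lf 0))) (.nd (.nd (.lf 84940) (.lf 0)) (.nd (.lf 127245) (.lf 0)))))) (.nd (.nd (.nd (.nd (.nd (.lf 0) (.lf 0)) (.nd (.lf 97869) (.lf 0))) (.nd (.nd (.lf 86220) (.lf 0)) (.nd (.lf 66765) (.lf 0)))) (.nd (.nd (.nd (.lf 125581) (.lf 0)) (.nd (.lf 0) (.lf 0))) (.nd (.nd (.lf 0) (.lf 0)) (.nd (.lf 35981) (.lf 0))))) (.nd (.nd (.nd (.nd (.lf 0) (.lf 0)) (.nd (.lf 6732) (.lf 0))) (.nd (.nd (.lf 62988) (.lf 0)) (.nd (.lf 61580) (.lf 0)))) (.nd (.nd (.nd (.lf 0) (.lf 0)) (.nd (.lf 116300) (.lf 0))) (.nd (.nd (.lf 87692) (.lf 0)) (.nd (.lf 69069) (.lf 0))))))) (.nd (.nd (.nd (.nd (.nd (.nd (.lf 69196) (.lf 0)) (.nd (.lf 0) (.lf 0))) (.nd (.nd (.lf 79372) (.lf 0)) (.nd (.lf 0) (.lf 0)))) (.nd (.nd (.nd (.lf 109452) (.lf 0)) (.nd (.lf 0) (.lf 0))) (.nd (.nd (.lf 128652) (.lf 0)) (.nd (.lf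 72460) (.lf 0))))) (.nd (.nd (.nd (.nd (.lf 21261) (.lf 0)) (.nd (.lf 91661) (.lf 0))) (.nd (.nd (.lf 94988) (.lf 0)) (.nd (.lf 61645) (.lf 0)))) (.nd (.nd (.nd (.lf 18252) (.lf 0)) (.nd (.lf 36300) (.lf 0))) (.nd (.nd (.lf 98060) (.lf 0)) (.nd (.lf 88397) (.lf 0)))))) (.nd (.nd (.nd (.nd (.nd (.lf 14796) (.lf 0)) (.nd (.lf 0) (.lf 0))) (.nd (.nd (.lf 9997) (.lf 0)) (.nd (.lf 0) (.lf 0)))) (.nd (.nd (.nd (.lf 23756) (.lf 0)) (.nd (.lf 99596) (.lf 0))) (.nd (.nd (.lf 75981) (.lf 0)) (.nd (.lf 47628) (.lf 0))))) (.nd (.nd (.nd (.nd (.lf 12365) (.lf 0)) (.nd (.lf 15245) (.lf 0))) (.nd (.nd (.lf 78924) (.lf 0)) (.nd (.lf 56716) (.lf 0)))) (.nd (.nd (.nd (.lf 94413) (.lf 0)) (.nd (.lf 85388) (.lf 0))) (.nd (.nd (.lf 93005) (.lf 0)) (.nd (.lf 0) (.lf 0))))))))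

/-- table part -/
def xT1_12 : Tr :=
  .nd (.nd (.nd (.nd (.nd (.nd (.nd (.nd (.lf 106188) (.lf 0)) (.nd (.lf 111244) (.lf 0))) (.nd (.nd (.lf 115980) (.lf 0)) (.nd (.lf 0) (.lf 0)))) (.nd (.nd (.nd (.lf 61517) (.lf 0)) (.nd (.lf 0) (.lf 0))) (.nd (.nd (.lf 0) (.lf 0)) (.nd (.lf 64973) (.lf 0))))) (.nd (.nd (.nd (.nd (.lf 0) (.lf 0)) (.nd (.lf 83021) (.lf 0))) (.nd (.nd (.lf 13516) (.lf 0)) (.nd (.lf 23628) (.lf 0)))) (.nd (.nd (.nd (.lf 0) (.lf 0)) (.nd (.lf 107469) (.lf 0))) (.nd (.nd (.lf 16844) (.lf 0)) (.nd (.lf 82573) (.lf 0)))))) (.nd (.nd (.nd (.nd (.nd (.lf 49676) (.lf 0)) (.nd (.lf 0) (.lf 0))) (.nd (.nd (.lf 105613) (.lf 0)) (.nd (.lf 94605) (.lf 0)))) (.nd (.nd (.nd (.lf 57548) (.lf 0)) (.nd (.lf 52364) (.lf 0))) (.nd (.nd (.lf 0) (.lf 0)) (.nd (.lf 96397) (.lf 0))))) (.nd (.nd (.nd (.nd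 (.lf 119501) (.lf 0)) (.nd (.lf 120461) (.lf 0))) (.nd (.nd (.lf 58188) (.lf 0)) (.nd (.lf 70092) (.lf 0)))) (.nd (.nd (.nd (.lf 62669) (.lf 0)) (.nd (.lf 0) (.lf 0))) (.nd (.nd (.lf 0) (.lf 0)) (.nd (.lf 79180) (.lf 0))))))) (.nd (.nd (.nd (.nd (.nd (.nd (.lf 0) (.lf 0)) (.nd (.lf 2829) (.lf 0))) (.nd (.nd (.lf 89100) (.lf 0)) (.nd (.lf 0) (.lf 0)))) (.nd (.nd (.nd (.lf 112909) (.lf 0)) (.nd (.lf 0) (.lf 0))) (.nd (.nd (.lf 43213) (.lf 0)) (.nd (.lf 53388) (.lf 0))))) (.nd (.nd (.nd (.nd (.lf 95181) (.lf 0)) (.nd (.lf 109900) (.lf 0))) (.nd (.nd (.lf 119500) (.lf 0)) (.nd (.lf 0) (.lf 0)))) (.nd (.nd (.nd (.lf 25740) (.lf 0)) (.nd (.lf 125389) (.lf 0))) (.nd (.nd (.lf 0) (.lf 0)) (.nd (.lf 67341) (.lf 0)))))) (.nd (.nd (.nd (.nd (.nd (.lf 0) (.lf 0)) (.nd (.lf 101645) (.lf 0))) (.nd (.nd (.lf 95565)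 (.lf 0)) (.nd (.lf 0) (.lf 0)))) (.nd (.nd (.nd (.lf 50572) (.lf 0)) (.nd (.lf 117581) (.lf 0))) (.nd (.nd (.lf 0) (.lf 0)) (.nd (.lf 35980) (.lf 0))))) (.nd (.nd (.nd (.nd (.lf 91085) (.lf 0)) (.nd (.lf 0) (.lf 0))) (.nd (.nd (.lf 4045) (.lf 0)) (.nd (.lf 128140) (.lf 0)))) (.nd (.nd (.nd (.lf 68684) (.lf 0)) (.nd (.lf 38028) (.lf 0))) (.nd (.nd (.lf 89357) (.lf 0)) (.nd (.lf 115020) (.lf 0)))))))) (.nd (.nd (.nd (.nd (.nd (.nd (.nd (.lf 122061) (.lf 0)) (.nd (.lf 0) (.lf 0))) (.nd (.nd (.lf 0) (.lf 0)) (.nd (.lf 11149) (.lf 0)))) (.nd (.nd (.nd (.lf 1229) (.lf 0)) (.nd (.lf 0) (.lf 0))) (.nd (.nd (.lf 3405) (.lf 0)) (.nd (.lf 0) (.lf 0))))) (.nd (.nd (.nd (.nd (.lf 35788) (.lf 0)) (.nd (.lf 0) (.lf 0))) (.nd (.nd (.lf 24652) (.lf 0)) (.nd (.lf 0) (.lf 0)))) (.nd (.nd (.nd (.lf 67660) (.lf 0)) (.nd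 (.lf 80781) (.lf 0))) (.nd (.nd (.lf 0) (.lf 0)) (.nd (.lf 0) (.lf 0)))))) (.nd (.nd (.nd (.nd (.nd (.lf 0) (.lf 0)) (.nd (.lf 30285) (.lf 0))) (.nd (.nd (.lf 0) (.lf 0)) (.nd (.lf 36940) (.lf 0)))) (.nd (.nd (.nd (.lf 7884) (.lf 0)) (.nd (.lf 94668) (.lf 0))) (.nd (.nd (.lf 115469) (.lf 0)) (.nd (.lf 0) (.lf 0))))) (.nd (.nd (.nd (.nd (.lf 43852) (.lf 0)) (.nd (.lf 99788) (.lf 0))) (.nd (.nd (.lf 0) (.lf 0)) (.nd (.lf 21644) (.lf 0)))) (.nd (.nd (.nd (.lf 16332) (.lf 0)) (.nd (.lf 20685) (.lf 0))) (.nd (.nd (.lf 38860) (.lf 0)) (.nd (.lf 130893) (.lf 0))))))) (.nd (.nd (.nd (.nd (.nd (.nd (.lf 0) (.lf 0)) (.nd (.lf 93453) (.lf 0))) (.nd (.nd (.lf 0) (.lf 0)) (.nd (.lf 0) (.lf 0)))) (.nd (.nd (.nd (.lf 94669) (.lf 0)) (.nd (.lf 0) (.lf 0))) (.nd (.nd (.lf 0) (.lf 0)) (.nd (.lf 10188) (.lf 0))))) (.nd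 (.nd (.nd (.nd (.lf 64908) (.lf 0)) (.nd (.lf 57677) (.lf 0))) (.nd (.nd (.lf 0) (.lf 0)) (.nd (.lf 14988) (.lf 0)))) (.nd (.nd (.nd (.lf 0) (.lf 0)) (.nd (.lf 76172) (.lf 0))) (.nd (.nd (.lf 0) (.lf 0)) (.nd (.lf 0) (.lf 0)))))) (.nd (.nd (.nd (.nd (.nd (.lf 32781) (.lf 0)) (.nd (.lf 64909) (.lf 0))) (.nd (.nd (.lf 0) (.lf 0)) (.nd (.lf 33549) (.lf 0)))) (.nd (.nd (.nd (.lf 77645) (.lf 0)) (.nd (.lf 58508) (.lf 0))) (.nd (.nd (.lf 44813) (.lf 0)) (.nd (.lf 93580) (.lf 0))))) (.nd (.nd (.nd (.nd (.lf 78861) (.lf 0)) (.nd (.lf 89740) (.lf 0))) (.nd (.nd (.lf 34189) (.lf 0)) (.nd (.lf 105100) (.lf 0)))) (.nd (.nd (.nd (.lf 24268) (.lf 0)) (.nd (.lf 80652) (.lf 0))) (.nd (.nd (.lf 77004) (.lf 0)) (.nd (.lf 27725) (.lf 0))))))))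

/-- table part -/
def xT1_13 : Tr :=
  .nd (.nd (.nd (.nd (.nd (.nd (.nd (.nd (.lf 109772) (.lf 0)) (.nd (.lf 0) (.lf 0))) (.nd (.nd (.lf 0) (.lf 0)) (.nd (.lf 0) (.lf 0)))) (.nd (.nd (.nd (.lf 125965) (.lf 0)) (.nd (.lf 0) (.lf 0))) (.nd (.nd (.lf 0) (.lf 0)) (.nd (.lf 51980) (.lf 0))))) (.nd (.nd (.nd (.nd (.lf 0) (.lf 0)) (.nd (.lf 0) (.lf 0))) (.nd (.nd (.lf 0) (.lf 0)) (.nd (.lf 121804) (.lf 0)))) (.nd (.nd (.nd (.lf 0) (.lf 0)) (.nd (.lf 93516) (.lf 0))) (.nd (.nd (.lf 44109) (.lf 0)) (.nd (.lf 63501) (.lf 0)))))) (.nd (.nd (.nd (.nd (.nd (.lf 0) (.lf 0)) (.nd (.lf 52365) (.lf 0))) (.nd (.nd (.lf 0) (.lf 0)) (.nd (.lf 63884) (.lf 0)))) (.nd (.nd (.nd (.lf 116684) (.lf 0)) (.nd (.lf 58253) (.lf 0))) (.nd (.nd (.lf 15309) (.lf 0)) (.nd (.lf 0) (.lf 0))))) (.nd (.nd (.nd (.nd (.lf 0) (.lf 0)) (.nd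 (.lf 0) (.lf 0))) (.nd (.nd (.lf 0) (.lf 0)) (.nd (.lf 21068) (.lf 0)))) (.nd (.nd (.nd (.lf 125644) (.lf 0)) (.nd (.lf 99021) (.lf 0))) (.nd (.nd (.lf 92172) (.lf 0)) (.nd (.lf 79244) (.lf 0))))))) (.nd (.nd (.nd (.nd (.nd (.nd (.lf 0) (.lf 0)) (.nd (.lf 112973) (.lf 0))) (.nd (.nd (.lf 64652) (.lf 0)) (.nd (.lf 81292) (.lf 0)))) (.nd (.nd (.nd (.lf 0) (.lf 0)) (.nd (.lf 27277) (.lf 0))) (.nd (.nd (.lf 0) (.lf 0)) (.nd (.lf 0) (.lf 0))))) (.nd (.nd (.nd (.nd (.lf 66764) (.lf 0)) (.nd (.lf 66060) (.lf 0))) (.nd (.nd (.lf 8461) (.lf 0)) (.nd (.lf 78925) (.lf 0)))) (.nd (.nd (.nd (.lf 86221) (.lf 0)) (.nd (.lf 130444) (.lf 0))) (.nd (.nd (.lf 40012) (.lf 0)) (.nd (.lf 60301) (.lf 0)))))) (.nd (.nd (.nd (.nd (.nd (.lf 0) (.lf 0)) (.nd (.lf 16589) (.lf 0))) (.nd (.nd (.lf 5773) (.lf 0)) (.nd (.lf 58957)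 (.lf 0)))) (.nd (.nd (.nd (.lf 141) (.lf 0)) (.nd (.lf 0) (.lf 0))) (.nd (.nd (.lf 84941) (.lf 0)) (.nd (.lf 0) (.lf 0))))) (.nd (.nd (.nd (.nd (.lf 50061) (.lf 0)) (.nd (.lf 108557) (.lf 0))) (.nd (.nd (.lf 123853) (.lf 0)) (.nd (.lf 127693) (.lf 0)))) (.nd (.nd (.nd (.lf 126284) (.lf 0)) (.nd (.lf 115085) (.lf 0))) (.nd (.nd (.lf 0) (.lf 0)) (.nd (.lf 0) (.lf 0)))))))) (.nd (.nd (.nd (.nd (.nd (.nd (.nd (.lf 13901) (.lf 0)) (.nd (.lf 15181) (.lf 0))) (.nd (.nd (.lf 0) (.lf 0)) (.nd (.lf 61516) (.lf 0)))) (.nd (.nd (.nd (.lf 0) (.lf 0)) (.nd (.lf 0) (.lf 0))) (.nd (.nd (.lf 104589) (.lf 0)) (.nd (.lf 0) (.lf 0))))) (.nd (.nd (.nd (.nd (.lf 0) (.lf 0)) (.nd (.lf 0) (.lf 0))) (.nd (.nd (.lf 27212) (.lf 0)) (.nd (.lf 116876) (.lf 0)))) (.nd (.nd (.nd (.lf 0) (.lf 0)) (.nd (.lf 9869) (.lf 0))) (.nd (.nd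 (.lf 89420) (.lf 0)) (.nd (.lf 0) (.lf 0)))))) (.nd (.nd (.nd (.nd (.nd (.lf 0) (.lf 0)) (.nd (.lf 61324) (.lf 0))) (.nd (.nd (.lf 21197) (.lf 0)) (.nd (.lf 45581) (.lf 0)))) (.nd (.nd (.nd (.lf 0) (.lf 0)) (.nd (.lf 0) (.lf 0))) (.nd (.nd (.lf 46157) (.lf 0)) (.nd (.lf 0) (.lf 0))))) (.nd (.nd (.nd (.nd (.lf 99084) (.lf 0)) (.nd (.lf 6733) (.lf 0))) (.nd (.nd (.lf 113484) (.lf 0)) (.nd (.lf 110029) (.lf 0)))) (.nd (.nd (.nd (.lf 45324) (.lf 0)) (.nd (.lf 0) (.lf 0))) (.nd (.nd (.lf 42765) (.lf 0)) (.nd (.lf 68876) (.lf 0))))))) (.nd (.nd (.nd (.nd (.nd (.nd (.lf 0) (.lf 0)) (.nd (.lf 23500) (.lf 0))) (.nd (.nd (.lf 95949) (.lf 0)) (.nd (.lf 0) (.lf 0)))) (.nd (.nd (.nd (.lf 73805) (.lf 0)) (.nd (.lf 0) (.lf 0))) (.nd (.nd (.lf 84365) (.lf 0)) (.nd (.lf 128525) (.lf 0))))) (.nd (.nd (.nd (.nd (.lf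 113036) (.lf 0)) (.nd (.lf 14925) (.lf 0))) (.nd (.nd (.lf 128588) (.lf 0)) (.nd (.lf 99852) (.lf 0)))) (.nd (.nd (.nd (.lf 0) (.lf 0)) (.nd (.lf 57164) (.lf 0))) (.nd (.nd (.lf 20941) (.lf 0)) (.nd (.lf 0) (.lf 0)))))) (.nd (.nd (.nd (.nd (.nd (.lf 0) (.lf 0)) (.nd (.lf 63821) (.lf 0))) (.nd (.nd (.lf 716) (.lf 0)) (.nd (.lf 0) (.lf 0)))) (.nd (.nd (.nd (.lf 73869) (.lf 0)) (.nd (.lf 40588) (.lf 0))) (.nd (.nd (.lf 66061) (.lf 0)) (.nd (.lf 88524) (.lf 0))))) (.nd (.nd (.nd (.nd (.lf 0) (.lf 0)) (.nd (.lf 7244) (.lf 0))) (.nd (.nd (.lf 0) (.lf 0)) (.nd (.lf 54988) (.lf 0)))) (.nd (.nd (.nd (.lf 0) (.lf 0)) (.nd (.lf 0) (.lf 0))) (.nd (.nd (.lf 0) (.lf 0)) (.nd (.lf 30476) (.lf 0))))))))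

/-- table part -/
def xT1_14 : Tr :=
  .nd (.nd (.nd (.nd (.nd (.nd (.nd (.nd (.lf 1997) (.lf 0)) (.nd (.lf 38285) (.lf 0))) (.nd (.nd (.lf 0) (.lf 0)) (.nd (.lf 43149) (.lf 0)))) (.nd (.nd (.nd (.lf 126285) (.lf 0)) (.nd (.lf 67469) (.lf 0))) (.nd (.nd (.lf 84364) (.lf 0)) (.nd (.lf 75340) (.lf 0))))) (.nd (.nd (.nd (.nd (.lf 46413) (.lf 0)) (.nd (.lf 58509) (.lf 0))) (.nd (.nd (.lf 105228) (.lf 0)) (.nd (.lf 80588) (.lf 0)))) (.nd (.nd (.nd (.lf 124237) (.lf 0)) (.nd (.lf 0) (.lf 0))) (.nd (.nd (.lf 63244) (.lf 0)) (.nd (.lf 52877) (.lf 0)))))) (.nd (.nd (.nd (.nd (.nd (.lf 113420) (.lf 0)) (.nd (.lf 0) (.lf 0))) (.nd (.nd (.lf 123852) (.lf 0)) (.nd (.lf 79245) (.lf 0)))) (.nd (.nd (.nd (.lf 128589) (.lf 0)) (.nd (.lf 0) (.lf 0))) (.nd (.nd (.lf 62605) (.lf 0)) (.nd (.lf 99853) (.lf 0))))) (.nd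 (.nd (.nd (.nd (.lf 69324) (.lf 0)) (.nd (.lf 75980) (.lf 0))) (.nd (.nd (.lf 0) (.lf 0)) (.nd (.lf 62348) (.lf 0)))) (.nd (.nd (.nd (.lf 0) (.lf 0)) (.nd (.lf 74444) (.lf 0))) (.nd (.nd (.lf 70157) (.lf 0)) (.nd (.lf 37965) (.lf 0))))))) (.nd (.nd (.nd (.nd (.nd (.nd (.lf 46092) (.lf 0)) (.nd (.lf 0) (.lf 0))) (.nd (.nd (.lf 0) (.lf 0)) (.nd (.lf 66700) (.lf 0)))) (.nd (.nd (.nd (.lf 24333) (.lf 0)) (.nd (.lf 0) (.lf 0))) (.nd (.nd (.lf 0) (.lf 0)) (.nd (.lf 100108) (.lf 0))))) (.nd (.nd (.nd (.nd (.lf 72396) (.lf 0)) (.nd (.lf 4428) (.lf 0))) (.nd (.nd (.lf 122572) (.lf 0)) (.nd (.lf 42188) (.lf 0)))) (.nd (.nd (.nd (.lf 0) (.lf 0)) (.nd (.lf 69645) (.lf 0))) (.nd (.nd (.lf 0) (.lf 0)) (.nd (.lf 26828) (.lf 0)))))) (.nd (.nd (.nd (.nd (.nd (.lf 0) (.lf 0)) (.nd (.lf 112908) (.lf 0))) (.nd (.nd (.lf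 24140) (.lf 0)) (.nd (.lf 0) (.lf 0)))) (.nd (.nd (.nd (.lf 0) (.lf 0)) (.nd (.lf 10508) (.lf 0))) (.nd (.nd (.lf 33164) (.lf 0)) (.nd (.lf 0) (.lf 0))))) (.nd (.nd (.nd (.nd (.lf 121805) (.lf 0)) (.nd (.lf 4429) (.lf 0))) (.nd (.nd (.lf 0) (.lf 0)) (.nd (.lf 59533) (.lf 0)))) (.nd (.nd (.nd (.lf 20301) (.lf 0)) (.nd (.lf 97868) (.lf 0))) (.nd (.nd (.lf 0) (.lf 0)) (.nd (.lf 93709) (.lf 0)))))))) (.nd (.nd (.nd (.nd (.nd (.nd (.nd (.lf 53133) (.lf 0)) (.nd (.lf 39308) (.lf 0))) (.nd (.nd (.lf 5901) (.lf 0)) (.nd (.lf 0) (.lf 0)))) (.nd (.nd (.nd (.lf 94412) (.lf 0)) (.nd (.lf 99469) (.lf 0))) (.nd (.nd (.lf 21645) (.lf 0)) (.nd (.lf 102669) (.lf 0))))) (.nd (.nd (.nd (.nd (.lf 0) (.lf 0)) (.nd (.lf 68685) (.lf 0))) (.nd (.nd (.lf 0) (.lf 0)) (.nd (.lf 79629) (.lf 0)))) (.nd (.nd (.nd (.lf 0) (.lf 0))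 (.nd (.lf 82701) (.lf 0))) (.nd (.nd (.lf 22860) (.lf 0)) (.nd (.lf 5837) (.lf 0)))))) (.nd (.nd (.nd (.nd (.nd (.lf 69836) (.lf 0)) (.nd (.lf 101261) (.lf 0))) (.nd (.nd (.lf 98700) (.lf 0)) (.nd (.lf 123085) (.lf 0)))) (.nd (.nd (.nd (.lf 25549) (.lf 0)) (.nd (.lf 0) (.lf 0))) (.nd (.nd (.lf 27405) (.lf 0)) (.nd (.lf 0) (.lf 0))))) (.nd (.nd (.nd (.nd (.lf 0) (.lf 0)) (.nd (.lf 38541) (.lf 0))) (.nd (.nd (.lf 0) (.lf 0)) (.nd (.lf 0) (.lf 0)))) (.nd (.nd (.nd (.lf 0) (.lf 0)) (.nd (.lf 43788) (.lf 0))) (.nd (.nd (.lf 28301) (.lf 0)) (.nd (.lf 79692) (.lf 0))))))) (.nd (.nd (.nd (.nd (.nd (.nd (.lf 41805) (.lf 0)) (.nd (.lf 8716) (.lf 0))) (.nd (.nd (.lf 123725) (.lf 0)) (.nd (.lf 97677) (.lf 0)))) (.nd (.nd (.nd (.lf 0) (.lf 0)) (.nd (.lf 80908) (.lf 0))) (.nd (.nd (.lf 68813) (.lf 0)) (.nd (.lf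 0) (.lf 0))))) (.nd (.nd (.nd (.nd (.lf 55181) (.lf 0)) (.nd (.lf 120396) (.lf 0))) (.nd (.nd (.lf 4556) (.lf 0)) (.nd (.lf 98573) (.lf 0)))) (.nd (.nd (.nd (.lf 0) (.lf 0)) (.nd (.lf 0) (.lf 0))) (.nd (.nd (.lf 15436) (.lf 0)) (.nd (.lf 0) (.lf 0)))))) (.nd (.nd (.nd (.nd (.nd (.lf 3788) (.lf 0)) (.nd (.lf 0) (.lf 0))) (.nd (.nd (.lf 25293) (.lf 0)) (.nd (.lf 10381) (.lf 0)))) (.nd (.nd (.nd (.lf 71181) (.lf 0)) (.nd (.lf 79373) (.lf 0))) (.nd (.nd (.lf 0) (.lf 0)) (.nd (.lf 104908) (.lf 0))))) (.nd (.nd (.nd (.nd (.lf 0) (.lf 0)) (.nd (.lf 71628) (.lf 0))) (.nd (.nd (.lf 0) (.lf 0)) (.nd (.lf 34124) (.lf 0)))) (.nd (.nd (.nd (.lf 0) (.lf 0)) (.nd (.lf 0) (.lf 0))) (.nd (.nd (.lf 130061) (.lf 0)) (.nd (.lf 49100) (.lf 0))))))))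

/-- table part -/
def xT1_15 : Tr :=
  .nd (.nd (.nd (.nd (.nd (.nd (.nd (.nd (.lf 23116) (.lf 38605)) (.nd (.lf 99725) (.lf 0))) (.nd (.nd (.lf 41100) (.lf 0)) (.nd (.lf 0) (.lf 0)))) (.nd (.nd (.nd (.lf 116621) (.lf 0)) (.nd (.lf 25164) (.lf 0))) (.nd (.nd (.lf 99404) (.lf 0)) (.nd (.lf 68045) (.lf 0))))) (.nd (.nd (.nd (.nd (.lf 65164) (.lf 0)) (.nd (.lf 0) (.lf 0))) (.nd (.nd (.lf 18316) (.lf 0)) (.nd (.lf 76941) (.lf 0)))) (.nd (.nd (.nd (.lf 68236) (.lf 0)) (.nd (.lf 0) (.lf 0))) (.nd (.nd (.lf 43853) (.lf 0)) (.nd (.lf 96268) (.lf 0)))))) (.nd (.nd (.nd (.nd (.nd (.lf 93388) (.lf 0)) (.nd (.lf 41804) (.lf 0))) (.nd (.nd (.lf 13580) (.lf 0)) (.nd (.lf 70604) (.lf 0)))) (.nd (.nd (.nd (.lf 57933) (.lf 0)) (.nd (.lf 17164) (.lf 0))) (.nd (.nd (.lf 0) (.lf 0)) (.nd (.lf 0) (.lf 0))))) (.nd (.nd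 (.nd (.nd (.lf 0) (.lf 0)) (.nd (.lf 106893) (.lf 0))) (.nd (.nd (.lf 103309) (.lf 0)) (.nd (.lf 129356) (.lf 0)))) (.nd (.nd (.nd (.lf 0) (.lf 0)) (.nd (.lf 114508) (.lf 0))) (.nd (.nd (.lf 14412) (.lf 0)) (.nd (.lf 0) (.lf 0))))))) (.nd (.nd (.nd (.nd (.nd (.nd (.lf 113485) (.lf 0)) (.nd (.lf 100365) (.lf 0))) (.nd (.nd (.lf 86028) (.lf 0)) (.nd (.lf 86413) (.lf 0)))) (.nd (.nd (.nd (.lf 0) (.lf 0)) (.nd (.lf 102988) (.lf 0))) (.nd (.nd (.lf 42573) (.lf 0)) (.nd (.lf 109453) (.lf 0))))) (.nd (.nd (.nd (.nd (.lf 0) (.lf 0)) (.nd (.lf 100621) (.lf 0))) (.nd (.nd (.lf 12684) (.lf 0)) (.nd (.lf 113037) (.lf 0)))) (.nd (.nd (.nd (.lf 0) (.lf 0)) (.nd (.lf 0) (.lf 0))) (.nd (.nd (.lf 0) (.lf 0)) (.nd (.lf 58252) (.lf 0)))))) (.nd (.nd (.nd (.nd (.nd (.lf 128268) (.lf 0)) (.nd (.lf 111693) (.lf 0))) (.nd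 (.nd (.lf 109581) (.lf 0)) (.nd (.lf 118732) (.lf 0)))) (.nd (.nd (.nd (.lf 58316) (.lf 0)) (.nd (.lf 97229) (.lf 0))) (.nd (.nd (.lf 68621) (.lf 0)) (.nd (.lf 116749) (.lf 0))))) (.nd (.nd (.nd (.nd (.lf 70284) (.lf 0)) (.nd (.lf 0) (.lf 0))) (.nd (.nd (.lf 121933) (.lf 0)) (.nd (.lf 107789) (.lf 0)))) (.nd (.nd (.nd (.lf 0) (.lf 0)) (.nd (.lf 112524) (.lf 0))) (.nd (.nd (.lf 0) (.lf 0)) (.nd (.lf 36301) (.lf 0)))))))) (.nd (.nd (.nd (.nd (.nd (.nd (.nd (.lf 0) (.lf 0)) (.nd (.lf 103116) (.lf 0))) (.nd (.nd (.lf 0) (.lf 0)) (.nd (.lf 35853) (.lf 0)))) (.nd (.nd (.nd (.lf 0) (.lf 0)) (.nd (.lf 34125) (.lf 0))) (.nd (.nd (.lf 0) (.lf 0)) (.nd (.lf 57421) (.lf 0))))) (.nd (.nd (.nd (.nd (.lf 0) (.lf 0)) (.nd (.lf 99020) (.lf 0))) (.nd (.nd (.lf 16396) (.lf 0)) (.nd (.lf 0) (.lf 0)))) (.nd (.nd (.nd (.lf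 34573) (.lf 0)) (.nd (.lf 0) (.lf 0))) (.nd (.nd (.lf 66317) (.lf 0)) (.nd (.lf 0) (.lf 0)))))) (.nd (.nd (.nd (.nd (.nd (.lf 0) (.lf 0)) (.nd (.lf 94029) (.lf 0))) (.nd (.nd (.lf 98829) (.lf 0)) (.nd (.lf 0) (.lf 0)))) (.nd (.nd (.nd (.lf 0) (.lf 0)) (.nd (.lf 116685) (.lf 0))) (.nd (.nd (.lf 0) (.lf 0)) (.nd (.lf 80012) (.lf 0))))) (.nd (.nd (.nd (.nd (.lf 0) (.lf 0)) (.nd (.lf 26061) (.lf 0))) (.nd (.nd (.lf 0) (.lf 0)) (.nd (.lf 71820) (.lf 0)))) (.nd (.nd (.nd (.lf 0) (.lf 0)) (.nd (.lf 205) (.lf 0))) (.nd (.nd (.lf 0) (.lf 0)) (.nd (.lf 0) (.lf 0))))))) (.nd (.nd (.nd (.nd (.nd (.nd (.lf 97676) (.lf 0)) (.nd (.lf 56588) (.lf 0))) (.nd (.nd (.lf 50956) (.lf 0)) (.nd (.lf 3532) (.lf 0)))) (.nd (.nd (.nd (.lf 0) (.lf 0)) (.nd (.lf 124044) (.lf 0))) (.nd (.nd (.lf 115277) (.lf 0)) (.nd (.lf 43276)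 (.lf 0))))) (.nd (.nd (.nd (.nd (.lf 117196) (.lf 0)) (.nd (.lf 52300) (.lf 0))) (.nd (.nd (.lf 10957) (.lf 0)) (.nd (.lf 80653) (.lf 0)))) (.nd (.nd (.nd (.lf 0) (.lf 0)) (.nd (.lf 0) (.lf 0))) (.nd (.nd (.lf 114892) (.lf 0)) (.nd (.lf 60428) (.lf 0)))))) (.nd (.nd (.nd (.nd (.nd (.lf 0) (.lf 0)) (.nd (.lf 7117) (.lf 0))) (.nd (.nd (.lf 2572) (.lf 0)) (.nd (.lf 0) (.lf 0)))) (.nd (.nd (.nd (.lf 0) (.lf 0)) (.nd (.lf 76556) (.lf 0))) (.nd (.nd (.lf 23884) (.lf 0)) (.nd (.lf 0) (.lf 0))))) (.nd (.nd (.nd (.nd (.lf 0) (.lf 0)) (.nd (.lf 27789) (.lf 0))) (.nd (.nd (.lf 0) (.lf 0)) (.nd (.lf 129292) (.lf 0)))) (.nd (.nd (.nd (.lf 25100) (.lf 0)) (.nd (.lf 0) (.lf 0))) (.nd (.nd (.lf 8332) (.lf 0)) (.nd (.lf 0) (.lf 0))))))))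

/-- table part -/
def xT1_16 : Tr :=
  .nd (.nd (.nd (.nd (.nd (.nd (.nd (.nd (.lf 0) (.lf 0)) (.nd (.lf 0) (.lf 0))) (.nd (.nd (.lf 0) (.lf 0)) (.nd (.lf 121356) (.lf 0)))) (.nd (.nd (.nd (.lf 128653) (.lf 0)) (.nd (.lf 0) (.lf 0))) (.nd (.nd (.lf 86925) (.lf 0)) (.nd (.lf 0) (.lf 0))))) (.nd (.nd (.nd (.nd (.lf 0) (.lf 0)) (.nd (.lf 80397) (.lf 0))) (.nd (.nd (.lf 0) (.lf 0)) (.nd (.lf 76940) (.lf 0)))) (.nd (.nd (.nd (.lf 89037) (.lf 0)) (.nd (.lf 25037) (.lf 0))) (.nd (.nd (.lf 61708) (.lf 0)) (.nd (.lf 12173) (.lf 0)))))) (.nd (.nd (.nd (.nd (.nd (.lf 39501) (.lf 0)) (.nd (.lf 9740) (.lf 0))) (.nd (.nd (.lf 54349) (.lf 0)) (.nd (.lf 0) (.lf 0)))) (.nd (.nd (.nd (.lf 121868) (.lf 0)) (.nd (.lf 0) (.lf 0))) (.nd (.nd (.lf 111116) (.lf 0)) (.nd (.lf 0) (.lf 0))))) (.nd (.nd (.nd (.nd (.lf 107213)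 (.lf 0)) (.nd (.lf 0) (.lf 0))) (.nd (.nd (.lf 128141) (.lf 0)) (.nd (.lf 24973) (.lf 0)))) (.nd (.nd (.nd (.lf 0) (.lf 0)) (.nd (.lf 33868) (.lf 0))) (.nd (.nd (.lf 17229) (.lf 0)) (.nd (.lf 74572) (.lf 0))))))) (.nd (.nd (.nd (.nd (.nd (.nd (.lf 0) (.lf 0)) (.nd (.lf 107212) (.lf 0))) (.nd (.nd (.lf 4044) (.lf 0)) (.nd (.lf 72397) (.lf 0)))) (.nd (.nd (.nd (.lf 6412) (.lf 0)) (.nd (.lf 77389) (.lf 0))) (.nd (.nd (.lf 10956) (.lf 0)) (.nd (.lf 26957) (.lf 0))))) (.nd (.nd (.nd (.nd (.lf 35340) (.lf 0)) (.nd (.lf 116877) (.lf 0))) (.nd (.nd (.lf 97293) (.lf 0)) (.nd (.lf 78284) (.lf 0)))) (.nd (.nd (.nd (.lf 0) (.lf 0)) (.nd (.lf 0) (.lf 0))) (.nd (.nd (.lf 0) (.lf 0)) (.nd (.lf 0) (.lf 0)))))) (.nd (.nd (.nd (.nd (.nd (.lf 110221) (.lf 0)) (.nd (.lf 0) (.lf 0))) (.nd (.nd (.lf 62797) (.lf 0)) (.nd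 (.lf 0) (.lf 0)))) (.nd (.nd (.nd (.lf 91084) (.lf 0)) (.nd (.lf 128844) (.lf 0))) (.nd (.nd (.lf 0) (.lf 0)) (.nd (.lf 35149) (.lf 0))))) (.nd (.nd (.nd (.nd (.lf 77068) (.lf 0)) (.nd (.lf 41292) (.lf 0))) (.nd (.nd (.lf 0) (.lf 0)) (.nd (.lf 52876) (.lf 0)))) (.nd (.nd (.nd (.lf 130637) (.lf 0)) (.nd (.lf 69580) (.lf 0))) (.nd (.nd (.lf 32268) (.lf 0)) (.nd (.lf 0) (.lf 0)))))))) (.nd (.nd (.nd (.nd (.nd (.nd (.nd (.lf 83469) (.lf 0)) (.nd (.lf 68365) (.lf 0))) (.nd (.nd (.lf 82381) (.lf 0)) (.nd (.lf 0) (.lf 0)))) (.nd (.nd (.nd (.lf 48653) (.lf 0)) (.nd (.lf 107277) (.lf 0))) (.nd (.nd (.lf 0) (.lf 0)) (.nd (.lf 23564) (.lf 0))))) (.nd (.nd (.nd (.nd (.lf 72333) (.lf 0)) (.nd (.lf 3789) (.lf 0))) (.nd (.nd (.lf 105996) (.lf 0)) (.nd (.lf 114701) (.lf 0)))) (.nd (.nd (.nd (.lf 21900) (.lf 0)) (.nd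 (.lf 20365) (.lf 0))) (.nd (.nd (.lf 7565) (.lf 0)) (.nd (.lf 0) (.lf 0)))))) (.nd (.nd (.nd (.nd (.nd (.lf 42764) (.lf 0)) (.nd (.lf 112844) (.lf 0))) (.nd (.nd (.lf 105741) (.lf 0)) (.nd (.lf 18444) (.lf 0)))) (.nd (.nd (.nd (.lf 113740) (.lf 0)) (.nd (.lf 0) (.lf 0))) (.nd (.nd (.lf 61197) (.lf 0)) (.nd (.lf 0) (.lf 0))))) (.nd (.nd (.nd (.nd (.lf 0) (.lf 0)) (.nd (.lf 0) (.lf 0))) (.nd (.nd (.lf 113613) (.lf 0)) (.nd (.lf 117005) (.lf 0)))) (.nd (.nd (.nd (.lf 0) (.lf 0)) (.nd (.lf 52493) (.lf 0))) (.nd (.nd (.lf 0) (.lf 0)) (.nd (.lf 8333) (.lf 0))))))) (.nd (.nd (.nd (.nd (.nd (.nd (.lf 36365) (.lf 0)) (.nd (.lf 68237) (.lf 0))) (.nd (.nd (.lf 0) (.lf 0)) (.nd (.lf 0) (.lf 0)))) (.nd (.nd (.nd (.lf 0) (.lf 0)) (.nd (.lf 0) (.lf 0))) (.nd (.nd (.lf 0) (.lf 0)) (.nd (.lf 46604) (.lf 0))))) (.nd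 (.nd (.nd (.nd (.lf 0) (.lf 0)) (.nd (.lf 71884) (.lf 0))) (.nd (.nd (.lf 3533) (.lf 0)) (.nd (.lf 57805) (.lf 0)))) (.nd (.nd (.nd (.lf 0) (.lf 0)) (.nd (.lf 70669) (.lf 0))) (.nd (.nd (.lf 64332) (.lf 0)) (.nd (.lf 55692) (.lf 0)))))) (.nd (.nd (.nd (.nd (.nd (.lf 0) (.lf 0)) (.nd (.lf 0) (.lf 0))) (.nd (.nd (.lf 0) (.lf 0)) (.nd (.lf 0) (.lf 0)))) (.nd (.nd (.nd (.lf 96908) (.lf 0)) (.nd (.lf 29325) (.lf 0))) (.nd (.nd (.lf 17485) (.lf 0)) (.nd (.lf 116109) (.lf 0))))) (.nd (.nd (.nd (.nd (.lf 92045) (.lf 0)) (.nd (.lf 0) (.lf 0))) (.nd (.nd (.lf 5900) (.lf 0)) (.nd (.lf 0) (.lf 0)))) (.nd (.nd (.nd (.lf 46221) (.lf 0)) (.nd (.lf 113997) (.lf 0))) (.nd (.nd (.lf 114189) (.lf 0)) (.nd (.lf 36749) (.lf 0))))))))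

/-- table -/
def xT1 : Tr :=
  .nd (.nd (.nd (.nd xT1_1 xT1_2) (.nd xT1_3 xT1_4)) (.nd (.nd xT1_5 xT1_6) (.nd xT1_7 xT1_8))) (.nd (.nd (.nd xT1_9 xT1_10) (.nd xT1_11 xT1_12)) (.nd (.nd xT1_13 xT1_14) (.nd xT1_15 xT1_16)))

/-- table part -/
def xT2_1 : Tr :=
  .nd (.nd (.nd (.nd (.nd (.nd (.nd (.nd (.lf 53519) (.lf 0)) (.nd (.lf 0) (.lf 0))) (.nd (.nd (.lf 0) (.lf 0)) (.nd (.lf 0) (.lf 0)))) (.nd (.nd (.nd (.lf 0) (.lf 0)) (.nd (.lf 0) (.lf 0))) (.nd (.nd (.lf 0) (.lf 0)) (.nd (.lf 0) (.lf 0))))) (.nd (.nd (.nd (.nd (.lf 0) (.lf 0)) (.nd (.lf 0) (.lf 0))) (.nd (.nd (.lf 117966) (.lf 0)) (.nd (.lf 0) (.lf 0)))) (.nd (.nd (.nd (.lf 0) (.lf 0)) (.nd (.lf 0) (.lf 0))) (.nd (.nd (.lf 0) (.lf 0)) (.nd (.lf 0) (.lf 0)))))) (.nd (.nd (.nd (.nd (.nd (.lf 0) (.lf 0)) (.nd (.lf 0) (.lf 0))) (.nd (.nd (.lf 0)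 (.lf 0)) (.nd (.lf 0) (.lf 0)))) (.nd (.nd (.nd (.lf 0) (.lf 0)) (.nd (.lf 112719) (.lf 0))) (.nd (.nd (.lf 124623) (.lf 0)) (.nd (.lf 0) (.lf 0))))) (.nd (.nd (.nd (.nd (.lf 0) (.lf 0)) (.nd (.lf 0) (.lf 0))) (.nd (.nd (.lf 0) (.lf 0)) (.nd (.lf 0) (.lf 0)))) (.nd (.nd (.nd (.lf 0) (.lf 0)) (.nd (.lf 0) (.lf 0))) (.nd (.nd (.lf 0) (.lf 0)) (.nd (.lf 0) (.lf 0))))))) (.nd (.nd (.nd (.nd (.nd (.nd (.lf 0) (.lf 0)) (.nd (.lf 0) (.lf 0))) (.nd (.nd (.lf 0) (.lf 0)) (.nd (.lf 0) (.lf 0)))) (.nd (.nd (.nd (.lf 0) (.lf 0)) (.nd (.lf 0) (.lf 0))) (.nd (.nd (.lf 0) (.lf 0)) (.nd (.lf 95951) (.lf 0))))) (.nd (.nd (.nd (.nd (.lf 0) (.lf 0)) (.nd (.lf 0) (.lf 0))) (.nd (.nd (.lf 0) (.lf 0)) (.nd (.lf 32719) (.lf 0)))) (.nd (.nd (.nd (.lf 0) (.lf 0)) (.nd (.lf 0) (.lf 0))) (.nd (.nd (.lf 0) (.lf 0)) (.nd (.lf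 66190) (.lf 0)))))) (.nd (.nd (.nd (.nd (.nd (.lf 0) (.lf 0)) (.nd (.lf 28174) (.lf 0))) (.nd (.nd (.lf 0) (.lf 0)) (.nd (.lf 0) (.lf 0)))) (.nd (.nd (.nd (.lf 0) (.lf 0)) (.nd (.lf 0) (.lf 0))) (.nd (.nd (.lf 0) (.lf 0)) (.nd (.lf 71566) (.lf 0))))) (.nd (.nd (.nd (.nd (.lf 77711) (.lf 0)) (.nd (.lf 62159) (.lf 0))) (.nd (.nd (.lf 0) (.lf 0)) (.nd (.lf 0) (.lf 0)))) (.nd (.nd (.nd (.lf 0) (.lf 0)) (.nd (.lf 0) (.lf 0))) (.nd (.nd (.lf 0) (.lf 0)) (.nd (.lf 0) (.lf 0)))))))) (.nd (.nd (.nd (.nd (.nd (.nd (.nd (.lf 0) (.lf 0)) (.nd (.lf 0) (.lf 0))) (.nd (.nd (.lf 0) (.lf 0)) (.nd (.lf 0) (.lf 0)))) (.nd (.nd (.nd (.lf 0) (.lf 0)) (.nd (.lf 0) (.lf 0))) (.nd (.nd (.lf 0) (.lf 0)) (.nd (.lf 114830) (.lf 0))))) (.nd (.nd (.nd (.nd (.lf 0) (.lf 0)) (.nd (.lf 0) (.lf 0))) (.nd (.nd (.lf 0) (.lf 0)) (.nd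 (.lf 0) (.lf 0)))) (.nd (.nd (.nd (.lf 4558) (.lf 0)) (.nd (.lf 0) (.lf 0))) (.nd (.nd (.lf 0) (.lf 0)) (.nd (.lf 0) (.lf 0)))))) (.nd (.nd (.nd (.nd (.nd (.lf 0) (.lf 0)) (.nd (.lf 0) (.lf 0))) (.nd (.nd (.lf 0) (.lf 0)) (.nd (.lf 0) (.lf 0)))) (.nd (.nd (.nd (.lf 0) (.lf 0)) (.nd (.lf 0) (.lf 0))) (.nd (.nd (.lf 0) (.lf 0)) (.nd (.lf 0) (.lf 0))))) (.nd (.nd (.nd (.nd (.lf 0) (.lf 0)) (.nd (.lf 0) (.lf 0))) (.nd (.nd (.lf 109582) (.lf 0)) (.nd (.lf 0) (.lf 0)))) (.nd (.nd (.nd (.lf 0) (.lf 0)) (.nd (.lf 0) (.lf 0))) (.nd (.nd (.lf 0) (.lf 0)) (.nd (.lf 24143) (.lf 0))))))) (.nd (.nd (.nd (.nd (.nd (.nd (.lf 0) (.lf 0)) (.nd (.lf 0) (.lf 0))) (.nd (.nd (.lf 59599) (.lf 0)) (.nd (.lf 0) (.lf 0)))) (.nd (.nd (.nd (.lf 0) (.lf 0)) (.nd (.lf 0) (.lf 0))) (.nd (.nd (.lf 0) (.lf 0)) (.nd (.lf 0) (.lf 0)))))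 (.nd (.nd (.nd (.nd (.lf 120846) (.lf 0)) (.nd (.lf 0) (.lf 0))) (.nd (.nd (.lf 0) (.lf 0)) (.nd (.lf 78094) (.lf 0)))) (.nd (.nd (.nd (.lf 0) (.lf 0)) (.nd (.lf 0) (.lf 0))) (.nd (.nd (.lf 0) (.lf 0)) (.nd (.lf 0) (.lf 0)))))) (.nd (.nd (.nd (.nd (.nd (.lf 0) (.lf 0)) (.nd (.lf 0) (.lf 0))) (.nd (.nd (.lf 0) (.lf 0)) (.nd (.lf 26767) (.lf 0)))) (.nd (.nd (.nd (.lf 0) (.lf 0)) (.nd (.lf 0) (.lf 0))) (.nd (.nd (.lf 0) (.lf 0)) (.nd (.lf 35599) (.lf 0))))) (.nd (.nd (.nd (.nd (.lf 0) (.lf 0)) (.nd (.lf 0) (.lf 0))) (.nd (.nd (.lf 0) (.lf 0)) (.nd (.lf 0) (.lf 0)))) (.nd (.nd (.nd (.lf 0) (.lf 0)) (.nd (.lf 56975) (.lf 0))) (.nd (.nd (.lf 0) (.lf 0)) (.nd (.lf 0) (.lf 0))))))))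

/-- table part -/
def xT2_2 : Tr :=
  .nd (.nd (.nd (.nd (.nd (.nd (.nd (.nd (.lf 0) (.lf 0)) (.nd (.lf 0) (.lf 0))) (.nd (.nd (.lf 0) (.lf 0)) (.nd (.lf 0) (.lf 0)))) (.nd (.nd (.nd (.lf 0) (.lf 0)) (.nd (.lf 0) (.lf 0))) (.nd (.nd (.lf 0) (.lf 0)) (.nd (.lf 0) (.lf 0))))) (.nd (.nd (.nd (.nd (.lf 0) (.lf 0)) (.nd (.lf 0) (.lf 0))) (.nd (.nd (.lf 0) (.lf 0)) (.nd (.lf 0) (.lf 0)))) (.nd (.nd (.nd (.lf 0) (.lf 0)) (.nd (.lf 0) (.lf 0))) (.nd (.nd (.lf 0) (.lf 0)) (.nd (.lf 0) (.lf 0)))))) (.nd (.nd (.nd (.nd (.nd (.lf 29455) (.lf 0)) (.nd (.lf 0) (.lf 0))) (.nd (.nd (.lf 0) (.lf 0)) (.nd (.lf 67982) (.lf 0)))) (.nd (.nd (.nd (.lf 0) (.lf 0)) (.nd (.lf 0) (.lf 0))) (.nd (.nd (.lf 0) (.lf 0)) (.nd (.lf 0) (.lf 0))))) (.nd (.nd (.nd (.nd (.lf 0) (.lf 0)) (.nd (.lf 3726) (.lf 0))) (.nd (.nd (.lf 0) (.lf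 0)) (.nd (.lf 65487) (.lf 0)))) (.nd (.nd (.nd (.lf 105871) (.lf 0)) (.nd (.lf 0) (.lf 0))) (.nd (.nd (.lf 0) (.lf 0)) (.nd (.lf 0) (.lf 0))))))) (.nd (.nd (.nd (.nd (.nd (.nd (.lf 128078) (.lf 0)) (.nd (.lf 80399) (.lf 0))) (.nd (.nd (.lf 0) (.lf 0)) (.nd (.lf 0) (.lf 0)))) (.nd (.nd (.nd (.lf 0) (.lf 0)) (.nd (.lf 0) (.lf 0))) (.nd (.nd (.lf 57934) (.lf 0)) (.nd (.lf 0) (.lf 0))))) (.nd (.nd (.nd (.nd (.lf 0) (.lf 0)) (.nd (.lf 24910) (.lf 0))) (.nd (.nd (.lf 0) (.lf 0)) (.nd (.lf 0) (.lf 0)))) (.nd (.nd (.nd (.lf 0) (.lf 0)) (.nd (.lf 0) (.lf 0))) (.nd (.nd (.lf 0) (.lf 0)) (.nd (.lf 0) (.lf 0)))))) (.nd (.nd (.nd (.nd (.nd (.lf 0) (.lf 0)) (.nd (.lf 0) (.lf 0))) (.nd (.nd (.lf 0) (.lf 0)) (.nd (.lf 0) (.lf 0)))) (.nd (.nd (.nd (.lf 0) (.lf 0)) (.nd (.lf 0) (.lf 0))) (.nd (.nd (.lf 0) (.lf 0)) (.nd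 (.lf 0) (.lf 0))))) (.nd (.nd (.nd (.nd (.lf 0) (.lf 0)) (.nd (.lf 4431) (.lf 0))) (.nd (.nd (.lf 72910) (.lf 0)) (.nd (.lf 107215) (.lf 0)))) (.nd (.nd (.nd (.lf 0) (.lf 0)) (.nd (.lf 0) (.lf 0))) (.nd (.nd (.lf 39630) (.lf 0)) (.nd (.lf 40974) (.lf 0)))))))) (.nd (.nd (.nd (.nd (.nd (.nd (.nd (.lf 0) (.lf 0)) (.nd (.lf 0) (.lf 0))) (.nd (.nd (.lf 0) (.lf 0)) (.nd (.lf 0) (.lf 0)))) (.nd (.nd (.nd (.lf 0) (.lf 0)) (.nd (.lf 0) (.lf 0))) (.nd (.nd (.lf 0) (.lf 0)) (.nd (.lf 0) (.lf 0))))) (.nd (.nd (.nd (.nd (.lf 0) (.lf 0)) (.nd (.lf 25295) (.lf 0))) (.nd (.nd (.lf 0) (.lf 0)) (.nd (.lf 0) (.lf 0)))) (.nd (.nd (.nd (.lf 71247) (.lf 0)) (.nd (.lf 0) (.lf 0))) (.nd (.nd (.lf 0) (.lf 0)) (.nd (.lf 0) (.lf 0)))))) (.nd (.nd (.nd (.nd (.nd (.lf 0) (.lf 0)) (.nd (.lf 0) (.lf 0))) (.nd (.nd (.lf 51022) (.lf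 0)) (.nd (.lf 0) (.lf 0)))) (.nd (.nd (.nd (.lf 0) (.lf 0)) (.nd (.lf 0) (.lf 0))) (.nd (.nd (.lf 0) (.lf 0)) (.nd (.lf 101326) (.lf 0))))) (.nd (.nd (.nd (.nd (.lf 0) (.lf 0)) (.nd (.lf 128782) (.lf 0))) (.nd (.nd (.lf 0) (.lf 0)) (.nd (.lf 0) (.lf 0)))) (.nd (.nd (.nd (.lf 119503) (.lf 0)) (.nd (.lf 0) (.lf 0))) (.nd (.nd (.lf 0) (.lf 0)) (.nd (.lf 0) (.lf 0))))))) (.nd (.nd (.nd (.nd (.nd (.nd (.lf 0) (.lf 0)) (.nd (.lf 0) (.lf 0))) (.nd (.nd (.lf 7502) (.lf 0)) (.nd (.lf 0) (.lf 0)))) (.nd (.nd (.nd (.lf 0) (.lf 0)) (.nd (.lf 0) (.lf 0))) (.nd (.nd (.lf 0) (.lf 0)) (.nd (.lf 0) (.lf 0))))) (.nd (.nd (.nd (.nd (.lf 0) (.lf 0)) (.nd (.lf 0) (.lf 0))) (.nd (.nd (.lf 0) (.lf 0)) (.nd (.lf 34511) (.lf 0)))) (.nd (.nd (.nd (.lf 121167) (.lf 0)) (.nd (.lf 0) (.lf 0))) (.nd (.nd (.lf 0) (.lf 0)) (.nd (.lf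 0) (.lf 0)))))) (.nd (.nd (.nd (.nd (.nd (.lf 38862) (.lf 0)) (.nd (.lf 0) (.lf 0))) (.nd (.nd (.lf 0) (.lf 0)) (.nd (.lf 0) (.lf 0)))) (.nd (.nd (.nd (.lf 0) (.lf 0)) (.nd (.lf 0) (.lf 0))) (.nd (.nd (.lf 53518) (.lf 0)) (.nd (.lf 0) (.lf 0))))) (.nd (.nd (.nd (.nd (.lf 0) (.lf 0)) (.nd (.lf 0) (.lf 0))) (.nd (.nd (.lf 4430) (.lf 0)) (.nd (.lf 0) (.lf 0)))) (.nd (.nd (.nd (.lf 0) (.lf 0)) (.nd (.lf 0) (.lf 0))) (.nd (.nd (.lf 1743) (.lf 0)) (.nd (.lf 0) (.lf 0))))))))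

/-- table part -/
def xT2_3 : Tr :=
  .nd (.nd (.nd (.nd (.nd (.nd (.nd (.nd (.lf 0) (.lf 0)) (.nd (.lf 0) (.lf 0))) (.nd (.nd (.lf 0) (.lf 0)) (.nd (.lf 0) (.lf 0)))) (.nd (.nd (.nd (.lf 24206) (.lf 0)) (.nd (.lf 0) (.lf 0))) (.nd (.nd (.lf 0) (.lf 0)) (.nd (.lf 0) (.lf 0))))) (.nd (.nd (.nd (.nd (.lf 91790) (.lf 0)) (.nd (.lf 0) (.lf 0))) (.nd (.nd (.lf 0) (.lf 0)) (.nd (.lf 37326) (.lf 0)))) (.nd (.nd (.nd (.lf 0) (.lf 0)) (.nd (.lf 36366) (.lf 0))) (.nd (.nd (.lf 0) (.lf 0)) (.nd (.lf 0) (.lf 0)))))) (.nd (.nd (.nd (.nd (.nd (.lf 0) (.lf 0)) (.nd (.lf 0) (.lf 0))) (.nd (.nd (.lf 0) (.lf 0)) (.nd (.lf 0) (.lf 0)))) (.nd (.nd (.nd (.lf 0) (.lf 0)) (.nd (.lf 0) (.lf 0))) (.nd (.nd (.lf 129807) (.lf 0)) (.nd (.lf 0) (.lf 0))))) (.nd (.nd (.nd (.nd (.lf 0) (.lf 0)) (.nd (.lf 38479) (.lf 0))) (.nd (.nd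 (.lf 0) (.lf 0)) (.nd (.lf 0) (.lf 0)))) (.nd (.nd (.nd (.lf 0) (.lf 0)) (.nd (.lf 0) (.lf 0))) (.nd (.nd (.lf 0) (.lf 0)) (.nd (.lf 0) (.lf 0))))))) (.nd (.nd (.nd (.nd (.nd (.nd (.lf 86031) (.lf 0)) (.nd (.lf 0) (.lf 0))) (.nd (.nd (.lf 0) (.lf 0)) (.nd (.lf 0) (.lf 0)))) (.nd (.nd (.nd (.lf 0) (.lf 0)) (.nd (.lf 0) (.lf 0))) (.nd (.nd (.lf 0) (.lf 0)) (.nd (.lf 2510) (.lf 0))))) (.nd (.nd (.nd (.nd (.lf 0) (.lf 0)) (.nd (.lf 0) (.lf 0))) (.nd (.nd (.lf 88207) (.lf 0)) (.nd (.lf 0) (.lf 0)))) (.nd (.nd (.nd (.lf 0) (.lf 0)) (.nd (.lf 0) (.lf 0))) (.nd (.nd (.lf 0) (.lf 0)) (.nd (.lf 0) (.lf 0)))))) (.nd (.nd (.nd (.nd (.nd (.lf 0) (.lf 0)) (.nd (.lf 0) (.lf 0))) (.nd (.nd (.lf 0) (.lf 0)) (.nd (.lf 0) (.lf 0)))) (.nd (.nd (.nd (.lf 0) (.lf 0)) (.nd (.lf 0) (.lf 0))) (.nd (.nd (.lf 0) (.lf 0)) (.nd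 (.lf 0) (.lf 0))))) (.nd (.nd (.nd (.nd (.lf 0) (.lf 0)) (.nd (.lf 0) (.lf 0))) (.nd (.nd (.lf 0) (.lf 0)) (.nd (.lf 0) (.lf 0)))) (.nd (.nd (.nd (.lf 0) (.lf 0)) (.nd (.lf 0) (.lf 0))) (.nd (.nd (.lf 0) (.lf 0)) (.nd (.lf 0) (.lf 0)))))))) (.nd (.nd (.nd (.nd (.nd (.nd (.nd (.lf 0) (.lf 0)) (.nd (.lf 0) (.lf 0))) (.nd (.nd (.lf 0) (.lf 0)) (.nd (.lf 2511) (.lf 0)))) (.nd (.nd (.nd (.lf 35662) (.lf 0)) (.nd (.lf 83023) (.lf 0))) (.nd (.nd (.lf 0) (.lf 0)) (.nd (.lf 79950) (.lf 0))))) (.nd (.nd (.nd (.nd (.lf 0) (.lf 0)) (.nd (.lf 0) (.lf 0))) (.nd (.nd (.lf 0) (.lf 0)) (.nd (.lf 39311) (.lf 0)))) (.nd (.nd (.nd (.lf 0) (.lf 0)) (.nd (.lf 0) (.lf 0))) (.nd (.nd (.lf 0) (.lf 0)) (.nd (.lf 0) (.lf 0)))))) (.nd (.nd (.nd (.nd (.nd (.lf 0) (.lf 0)) (.nd (.lf 0) (.lf 0))) (.nd (.nd (.lf 0) (.lf 0)) (.nd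 (.lf 0) (.lf 0)))) (.nd (.nd (.nd (.lf 0) (.lf 0)) (.nd (.lf 0) (.lf 0))) (.nd (.nd (.lf 0) (.lf 0)) (.nd (.lf 0) (.lf 0))))) (.nd (.nd (.nd (.nd (.lf 0) (.lf 0)) (.nd (.lf 0) (.lf 0))) (.nd (.nd (.lf 0) (.lf 0)) (.nd (.lf 0) (.lf 0)))) (.nd (.nd (.nd (.lf 0) (.lf 0)) (.nd (.lf 0) (.lf 0))) (.nd (.nd (.lf 0) (.lf 0)) (.nd (.lf 0) (.lf 0))))))) (.nd (.nd (.nd (.nd (.nd (.nd (.lf 0) (.lf 0)) (.nd (.lf 86030) (.lf 0))) (.nd (.nd (.lf 0) (.lf 0)) (.nd (.lf 0) (.lf 0)))) (.nd (.nd (.nd (.lf 0) (.lf 0)) (.nd (.lf 0) (.lf 0))) (.nd (.nd (.lf 0) (.lf 0)) (.nd (.lf 0) (.lf 0))))) (.nd (.nd (.nd (.nd (.lf 0) (.lf 0)) (.nd (.lf 0) (.lf 0))) (.nd (.nd (.lf 65038) (.lf 0)) (.nd (.lf 0) (.lf 0)))) (.nd (.nd (.nd (.lf 0) (.lf 0)) (.nd (.lf 0) (.lf 0))) (.nd (.nd (.lf 0) (.lf 0)) (.nd (.lf 0) (.lf 0)))))) (.nd (.nd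 (.nd (.nd (.nd (.lf 63822) (.lf 0)) (.nd (.lf 0) (.lf 0))) (.nd (.nd (.lf 83534) (.lf 0)) (.nd (.lf 0) (.lf 0)))) (.nd (.nd (.nd (.lf 0) (.lf 0)) (.nd (.lf 0) (.lf 0))) (.nd (.nd (.lf 0) (.lf 0)) (.nd (.lf 0) (.lf 0))))) (.nd (.nd (.nd (.nd (.lf 0) (.lf 0)) (.nd (.lf 0) (.lf 0))) (.nd (.nd (.lf 0) (.lf 0)) (.nd (.lf 0) (.lf 0)))) (.nd (.nd (.nd (.lf 0) (.lf 0)) (.nd (.lf 0) (.lf 0))) (.nd (.nd (.lf 0) (.lf 0)) (.nd (.lf 0) (.lf 0))))))))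

/-- table part -/
def xT2_4 : Tr :=
  .nd (.nd (.nd (.nd (.nd (.nd (.nd (.nd (.lf 0) (.lf 0)) (.nd (.lf 0) (.lf 0))) (.nd (.nd (.lf 0) (.lf 0)) (.nd (.lf 0) (.lf 0)))) (.nd (.nd (.nd (.lf 0) (.lf 0)) (.nd (.lf 0) (.lf 0))) (.nd (.nd (.lf 0) (.lf 0)) (.nd (.lf 0) (.lf 0))))) (.nd (.nd (.nd (.nd (.lf 0) (.lf 0)) (.nd (.lf 88910) (.lf 0))) (.nd (.nd (.lf 0) (.lf 0)) (.nd (.lf 0) (.lf 0)))) (.nd (.nd (.nd (.lf 116111) (.lf 0)) (.nd (.lf 0) (.lf 0))) (.nd (.nd (.lf 0) (.lf 0)) (.nd (.lf 111502) (.lf 0)))))) (.nd (.nd (.nd (.nd (.nd (.lf 0) (.lf 0)) (.nd (.lf 0) (.lf 0))) (.nd (.nd (.lf 0) (.lf 0)) (.nd (.lf 0) (.lf 0)))) (.nd (.nd (.nd (.lf 108495) (.lf 0)) (.nd (.lf 0) (.lf 0))) (.nd (.nd (.lf 0) (.lf 0)) (.nd (.lf 0) (.lf 0))))) (.nd (.nd (.nd (.nd (.lf 0) (.lf 0)) (.nd (.lf 0) (.lf 0))) (.nd (.nd (.lf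 0) (.lf 0)) (.nd (.lf 0) (.lf 0)))) (.nd (.nd (.nd (.lf 106767) (.lf 0)) (.nd (.lf 0) (.lf 0))) (.nd (.nd (.lf 0) (.lf 0)) (.nd (.lf 0) (.lf 0))))))) (.nd (.nd (.nd (.nd (.nd (.nd (.lf 0) (.lf 0)) (.nd (.lf 0) (.lf 0))) (.nd (.nd (.lf 109710) (.lf 0)) (.nd (.lf 0) (.lf 0)))) (.nd (.nd (.nd (.lf 89423) (.lf 0)) (.nd (.lf 0) (.lf 0))) (.nd (.nd (.lf 0) (.lf 0)) (.nd (.lf 0) (.lf 0))))) (.nd (.nd (.nd (.nd (.lf 0) (.lf 0)) (.nd (.lf 0) (.lf 0))) (.nd (.nd (.lf 0) (.lf 0)) (.nd (.lf 0) (.lf 0)))) (.nd (.nd (.nd (.lf 0) (.lf 0)) (.nd (.lf 0) (.lf 0))) (.nd (.nd (.lf 0) (.lf 0)) (.nd (.lf 0) (.lf 0)))))) (.nd (.nd (.nd (.nd (.nd (.lf 0) (.lf 0)) (.nd (.lf 0) (.lf 0))) (.nd (.nd (.lf 0) (.lf 0)) (.nd (.lf 0) (.lf 0)))) (.nd (.nd (.nd (.lf 0) (.lf 0)) (.nd (.lf 0) (.lf 0))) (.nd (.nd (.lf 0) (.lf 0)) (.nd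 (.lf 0) (.lf 0))))) (.nd (.nd (.nd (.nd (.lf 0) (.lf 0)) (.nd (.lf 0) (.lf 0))) (.nd (.nd (.lf 0) (.lf 0)) (.nd (.lf 0) (.lf 0)))) (.nd (.nd (.nd (.lf 0) (.lf 0)) (.nd (.lf 0) (.lf 0))) (.nd (.nd (.lf 0) (.lf 0)) (.nd (.lf 56910) (.lf 0)))))))) (.nd (.nd (.nd (.nd (.nd (.nd (.nd (.lf 0) (.lf 0)) (.nd (.lf 0) (.lf 0))) (.nd (.nd (.lf 0) (.lf 0)) (.nd (.lf 0) (.lf 0)))) (.nd (.nd (.nd (.lf 0) (.lf 0)) (.nd (.lf 0) (.lf 0))) (.nd (.nd (.lf 0) (.lf 0)) (.nd (.lf 0) (.lf 0))))) (.nd (.nd (.nd (.nd (.lf 0) (.lf 0)) (.nd (.lf 0) (.lf 0))) (.nd (.nd (.lf 0) (.lf 0)) (.nd (.lf 0) (.lf 0)))) (.nd (.nd (.nd (.lf 0) (.lf 0)) (.nd (.lf 0) (.lf 0))) (.nd (.nd (.lf 0) (.lf 0)) (.nd (.lf 0) (.lf 0)))))) (.nd (.nd (.nd (.nd (.nd (.lf 0) (.lf 0)) (.nd (.lf 0) (.lf 0))) (.nd (.nd (.lf 0) (.lf 0)) (.nd (.lf 0) (.lf 0))))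 (.nd (.nd (.nd (.lf 0) (.lf 0)) (.nd (.lf 0) (.lf 0))) (.nd (.nd (.lf 0) (.lf 0)) (.nd (.lf 0) (.lf 0))))) (.nd (.nd (.nd (.nd (.lf 0) (.lf 0)) (.nd (.lf 0) (.lf 0))) (.nd (.nd (.lf 0) (.lf 0)) (.nd (.lf 0) (.lf 0)))) (.nd (.nd (.nd (.lf 0) (.lf 0)) (.nd (.lf 0) (.lf 0))) (.nd (.nd (.lf 0) (.lf 0)) (.nd (.lf 63055) (.lf 0))))))) (.nd (.nd (.nd (.nd (.nd (.nd (.lf 0) (.lf 0)) (.nd (.lf 0) (.lf 0))) (.nd (.nd (.lf 0) (.lf 0)) (.nd (.lf 0) (.lf 0)))) (.nd (.nd (.nd (.lf 0) (.lf 0)) (.nd (.lf 0) (.lf 0))) (.nd (.nd (.lf 0) (.lf 0)) (.nd (.lf 0) (.lf 0))))) (.nd (.nd (.nd (.nd (.lf 0) (.lf 0)) (.nd (.lf 0) (.lf 0))) (.nd (.nd (.lf 0) (.lf 0)) (.nd (.lf 0) (.lf 0)))) (.nd (.nd (.nd (.lf 0) (.lf 0)) (.nd (.lf 0) (.lf 0))) (.nd (.nd (.lf 0) (.lf 0)) (.nd (.lf 0) (.lf 0)))))) (.nd (.nd (.nd (.nd (.nd (.lf 0)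 (.lf 0)) (.nd (.lf 0) (.lf 0))) (.nd (.nd (.lf 0) (.lf 0)) (.nd (.lf 0) (.lf 0)))) (.nd (.nd (.nd (.lf 0) (.lf 0)) (.nd (.lf 0) (.lf 0))) (.nd (.nd (.lf 0) (.lf 0)) (.nd (.lf 0) (.lf 0))))) (.nd (.nd (.nd (.nd (.lf 0) (.lf 0)) (.nd (.lf 0) (.lf 0))) (.nd (.nd (.lf 0) (.lf 0)) (.nd (.lf 0) (.lf 0)))) (.nd (.nd (.nd (.lf 0) (.lf 0)) (.nd (.lf 0) (.lf 0))) (.nd (.nd (.lf 0) (.lf 0)) (.nd (.lf 101262) (.lf 0))))))))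

/-- table part -/
def xT2_5 : Tr :=
  .nd (.nd (.nd (.nd (.nd (.nd (.nd (.nd (.lf 0) (.lf 0)) (.nd (.lf 0) (.lf 0))) (.nd (.nd (.lf 0) (.lf 0)) (.nd (.lf 0) (.lf 0)))) (.nd (.nd (.nd (.lf 0) (.lf 0)) (.nd (.lf 128014) (.lf 0))) (.nd (.nd (.lf 115727) (.lf 0)) (.nd (.lf 86927) (.lf 0))))) (.nd (.nd (.nd (.nd (.lf 57807) (.lf 0)) (.nd (.lf 0) (.lf 0))) (.nd (.nd (.lf 0) (.lf 0)) (.nd (.lf 40975) (.lf 0)))) (.nd (.nd (.nd (.lf 0) (.lf 0)) (.nd (.lf 0) (.lf 0))) (.nd (.nd (.lf 0) (.lf 0)) (.nd (.lf 0) (.lf 0)))))) (.nd (.nd (.nd (.nd (.nd (.lf 0) (.lf 0)) (.nd (.lf 0) (.lf 0))) (.nd (.nd (.lf 0) (.lf 0)) (.nd (.lf 0) (.lf 0)))) (.nd (.nd (.nd (.lf 0) (.lf 0)) (.nd (.lf 0) (.lf 0))) (.nd (.nd (.lf 0) (.lf 0)) (.nd (.lf 0) (.lf 0))))) (.nd (.nd (.nd (.nd (.lf 0) (.lf 0)) (.nd (.lf 0) (.lf 0))) (.nd (.nd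 (.lf 0) (.lf 0)) (.nd (.lf 0) (.lf 0)))) (.nd (.nd (.nd (.lf 0) (.lf 0)) (.nd (.lf 0) (.lf 0))) (.nd (.nd (.lf 0) (.lf 0)) (.nd (.lf 0) (.lf 0))))))) (.nd (.nd (.nd (.nd (.nd (.nd (.lf 0) (.lf 0)) (.nd (.lf 0) (.lf 0))) (.nd (.nd (.lf 0) (.lf 0)) (.nd (.lf 0) (.lf 0)))) (.nd (.nd (.nd (.lf 0) (.lf 0)) (.nd (.lf 0) (.lf 0))) (.nd (.nd (.lf 0) (.lf 0)) (.nd (.lf 0) (.lf 0))))) (.nd (.nd (.nd (.nd (.lf 0) (.lf 0)) (.nd (.lf 0) (.lf 0))) (.nd (.nd (.lf 0) (.lf 0)) (.nd (.lf 0) (.lf 0)))) (.nd (.nd (.nd (.lf 104655) (.lf 0)) (.nd (.lf 0) (.lf 0))) (.nd (.nd (.lf 0) (.lf 0)) (.nd (.lf 0) (.lf 0)))))) (.nd (.nd (.nd (.nd (.nd (.lf 0) (.lf 0)) (.nd (.lf 11279) (.lf 0))) (.nd (.nd (.lf 0) (.lf 0)) (.nd (.lf 110095) (.lf 0)))) (.nd (.nd (.nd (.lf 0) (.lf 0)) (.nd (.lf 33934) (.lf 0))) (.nd (.nd (.lf 68111) (.lf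 0)) (.nd (.lf 0) (.lf 0))))) (.nd (.nd (.nd (.nd (.lf 0) (.lf 0)) (.nd (.lf 0) (.lf 0))) (.nd (.nd (.lf 0) (.lf 0)) (.nd (.lf 0) (.lf 0)))) (.nd (.nd (.nd (.lf 24142) (.lf 0)) (.nd (.lf 0) (.lf 0))) (.nd (.nd (.lf 0) (.lf 0)) (.nd (.lf 0) (.lf 0)))))))) (.nd (.nd (.nd (.nd (.nd (.nd (.nd (.lf 0) (.lf 0)) (.nd (.lf 109455) (.lf 0))) (.nd (.nd (.lf 1742) (.lf 0)) (.nd (.lf 40207) (.lf 0)))) (.nd (.nd (.nd (.lf 0) (.lf 0)) (.nd (.lf 0) (.lf 0))) (.nd (.nd (.lf 0) (.lf 0)) (.nd (.lf 0) (.lf 0))))) (.nd (.nd (.nd (.nd (.lf 0) (.lf 0)) (.nd (.lf 0) (.lf 0))) (.nd (.nd (.lf 0) (.lf 0)) (.nd (.lf 4047) (.lf 0)))) (.nd (.nd (.nd (.lf 0) (.lf 0)) (.nd (.lf 0) (.lf 0))) (.nd (.nd (.lf 0) (.lf 0)) (.nd (.lf 0) (.lf 0)))))) (.nd (.nd (.nd (.nd (.nd (.lf 0) (.lf 0)) (.nd (.lf 64015) (.lf 0))) (.nd (.nd (.lf 87694)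 (.lf 0)) (.nd (.lf 0) (.lf 0)))) (.nd (.nd (.nd (.lf 4622) (.lf 0)) (.nd (.lf 97295) (.lf 0))) (.nd (.nd (.lf 0) (.lf 0)) (.nd (.lf 0) (.lf 0))))) (.nd (.nd (.nd (.nd (.lf 0) (.lf 0)) (.nd (.lf 0) (.lf 0))) (.nd (.nd (.lf 15694) (.lf 0)) (.nd (.lf 0) (.lf 0)))) (.nd (.nd (.nd (.lf 0) (.lf 0)) (.nd (.lf 0) (.lf 0))) (.nd (.nd (.lf 0) (.lf 0)) (.nd (.lf 0) (.lf 0))))))) (.nd (.nd (.nd (.nd (.nd (.nd (.lf 0) (.lf 0)) (.nd (.lf 0) (.lf 0))) (.nd (.nd (.lf 0) (.lf 0)) (.nd (.lf 0) (.lf 0)))) (.nd (.nd (.nd (.lf 0) (.lf 0)) (.nd (.lf 0) (.lf 0))) (.nd (.nd (.lf 0) (.lf 0)) (.nd (.lf 0) (.lf 0))))) (.nd (.nd (.nd (.nd (.lf 0) (.lf 0)) (.nd (.lf 0) (.lf 0))) (.nd (.nd (.lf 0) (.lf 0)) (.nd (.lf 101263) (.lf 0)))) (.nd (.nd (.nd (.lf 0) (.lf 0)) (.nd (.lf 0) (.lf 0))) (.nd (.nd (.lf 80398) (.lf 0)) (.nd (.lf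 0) (.lf 0)))))) (.nd (.nd (.nd (.nd (.nd (.lf 0) (.lf 0)) (.nd (.lf 0) (.lf 0))) (.nd (.nd (.lf 0) (.lf 0)) (.nd (.lf 0) (.lf 0)))) (.nd (.nd (.nd (.lf 0) (.lf 0)) (.nd (.lf 124943) (.lf 0))) (.nd (.nd (.lf 0) (.lf 0)) (.nd (.lf 0) (.lf 0))))) (.nd (.nd (.nd (.nd (.lf 0) (.lf 0)) (.nd (.lf 7758) (.lf 0))) (.nd (.nd (.lf 0) (.lf 0)) (.nd (.lf 0) (.lf 0)))) (.nd (.nd (.nd (.lf 0) (.lf 0)) (.nd (.lf 0) (.lf 0))) (.nd (.nd (.lf 0) (.lf 0)) (.nd (.lf 0) (.lf 0))))))))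

/-- table part -/
def xT2_6 : Tr :=
  .nd (.nd (.nd (.nd (.nd (.nd (.nd (.nd (.lf 0) (.lf 0)) (.nd (.lf 37327) (.lf 0))) (.nd (.nd (.lf 0) (.lf 0)) (.nd (.lf 0) (.lf 0)))) (.nd (.nd (.nd (.lf 80782) (.lf 0)) (.nd (.lf 49295) (.lf 0))) (.nd (.nd (.lf 0) (.lf 0)) (.nd (.lf 0) (.lf 0))))) (.nd (.nd (.nd (.nd (.lf 0) (.lf 0)) (.nd (.lf 0) (.lf 0))) (.nd (.nd (.lf 0) (.lf 0)) (.nd (.lf 0) (.lf 0)))) (.nd (.nd (.nd (.lf 0) (.lf 0)) (.nd (.lf 0) (.lf 0))) (.nd (.nd (.lf 0) (.lf 0)) (.nd (.lf 0) (.lf 0)))))) (.nd (.nd (.nd (.nd (.nd (.lf 0) (.lf 0)) (.nd (.lf 95950) (.lf 0))) (.nd (.nd (.lf 0) (.lf 0)) (.nd (.lf 0) (.lf 0)))) (.nd (.nd (.nd (.lf 0) (.lf 0)) (.nd (.lf 0) (.lf 0))) (.nd (.nd (.lf 31566) (.lf 0)) (.nd (.lf 0) (.lf 0))))) (.nd (.nd (.nd (.nd (.lf 0) (.lf 0)) (.nd (.lf 0) (.lf 0))) (.nd (.nd (.lf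 0) (.lf 0)) (.nd (.lf 48654) (.lf 0)))) (.nd (.nd (.nd (.lf 0) (.lf 0)) (.nd (.lf 0) (.lf 0))) (.nd (.nd (.lf 0) (.lf 0)) (.nd (.lf 0) (.lf 0))))))) (.nd (.nd (.nd (.nd (.nd (.nd (.lf 0) (.lf 0)) (.nd (.lf 0) (.lf 0))) (.nd (.nd (.lf 0) (.lf 0)) (.nd (.lf 61327) (.lf 0)))) (.nd (.nd (.nd (.lf 0) (.lf 0)) (.nd (.lf 0) (.lf 0))) (.nd (.nd (.lf 117647) (.lf 0)) (.nd (.lf 0) (.lf 0))))) (.nd (.nd (.nd (.nd (.lf 0) (.lf 0)) (.nd (.lf 0) (.lf 0))) (.nd (.nd (.lf 0) (.lf 0)) (.nd (.lf 112718) (.lf 0)))) (.nd (.nd (.nd (.lf 0) (.lf 0)) (.nd (.lf 0) (.lf 0))) (.nd (.nd (.lf 0) (.lf 0)) (.nd (.lf 0) (.lf 0)))))) (.nd (.nd (.nd (.nd (.nd (.lf 0) (.lf 0)) (.nd (.lf 74447) (.lf 0))) (.nd (.nd (.lf 0) (.lf 0)) (.nd (.lf 0) (.lf 0)))) (.nd (.nd (.nd (.lf 0) (.lf 0)) (.nd (.lf 0) (.lf 0))) (.nd (.nd (.lf 0) (.lf 0))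 (.nd (.lf 57935) (.lf 0))))) (.nd (.nd (.nd (.nd (.lf 0) (.lf 0)) (.nd (.lf 0) (.lf 0))) (.nd (.nd (.lf 0) (.lf 0)) (.nd (.lf 0) (.lf 0)))) (.nd (.nd (.nd (.lf 0) (.lf 0)) (.nd (.lf 58766) (.lf 0))) (.nd (.nd (.lf 108558) (.lf 0)) (.nd (.lf 86926) (.lf 0)))))))) (.nd (.nd (.nd (.nd (.nd (.nd (.nd (.lf 0) (.lf 0)) (.nd (.lf 0) (.lf 0))) (.nd (.nd (.lf 13519) (.lf 0)) (.nd (.lf 0) (.lf 0)))) (.nd (.nd (.nd (.lf 14350) (.lf 0)) (.nd (.lf 0) (.lf 0))) (.nd (.nd (.lf 0) (.lf 0)) (.nd (.lf 0) (.lf 0))))) (.nd (.nd (.nd (.nd (.lf 61134) (.lf 0)) (.nd (.lf 0) (.lf 0))) (.nd (.nd (.lf 0) (.lf 0)) (.nd (.lf 0) (.lf 0)))) (.nd (.nd (.nd (.lf 0) (.lf 0)) (.nd (.lf 48655) (.lf 0))) (.nd (.nd (.lf 0) (.lf 0)) (.nd (.lf 35854) (.lf 0)))))) (.nd (.nd (.nd (.nd (.nd (.lf 0) (.lf 0)) (.nd (.lf 0) (.lf 0))) (.nd (.nd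 (.lf 0) (.lf 0)) (.nd (.lf 0) (.lf 0)))) (.nd (.nd (.nd (.lf 97679) (.lf 0)) (.nd (.lf 2318) (.lf 0))) (.nd (.nd (.lf 0) (.lf 0)) (.nd (.lf 0) (.lf 0))))) (.nd (.nd (.nd (.nd (.lf 0) (.lf 0)) (.nd (.lf 0) (.lf 0))) (.nd (.nd (.lf 0) (.lf 0)) (.nd (.lf 0) (.lf 0)))) (.nd (.nd (.nd (.lf 76174) (.lf 0)) (.nd (.lf 0) (.lf 0))) (.nd (.nd (.lf 0) (.lf 0)) (.nd (.lf 79311) (.lf 0))))))) (.nd (.nd (.nd (.nd (.nd (.nd (.lf 116750) (.lf 0)) (.nd (.lf 0) (.lf 0))) (.nd (.nd (.lf 0) (.lf 0)) (.nd (.lf 1999) (.lf 0)))) (.nd (.nd (.nd (.lf 0) (.lf 0)) (.nd (.lf 0) (.lf 0))) (.nd (.nd (.lf 0) (.lf 0)) (.nd (.lf 67918) (.lf 0))))) (.nd (.nd (.nd (.nd (.lf 0) (.lf 0)) (.nd (.lf 0) (.lf 0))) (.nd (.nd (.lf 0) (.lf 0)) (.nd (.lf 0) (.lf 0)))) (.nd (.nd (.nd (.lf 0) (.lf 0)) (.nd (.lf 0) (.lf 0))) (.nd (.nd (.lf 0) (.lf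 0)) (.nd (.lf 0) (.lf 0)))))) (.nd (.nd (.nd (.nd (.nd (.lf 0) (.lf 0)) (.nd (.lf 0) (.lf 0))) (.nd (.nd (.lf 104654) (.lf 0)) (.nd (.lf 0) (.lf 0)))) (.nd (.nd (.nd (.lf 40847) (.lf 0)) (.nd (.lf 55503) (.lf 0))) (.nd (.nd (.lf 74510) (.lf 0)) (.nd (.lf 0) (.lf 0))))) (.nd (.nd (.nd (.nd (.lf 0) (.lf 0)) (.nd (.lf 67983) (.lf 0))) (.nd (.nd (.lf 0) (.lf 0)) (.nd (.lf 0) (.lf 0)))) (.nd (.nd (.nd (.lf 0) (.lf 0)) (.nd (.lf 0) (.lf 0))) (.nd (.nd (.lf 0) (.lf 0)) (.nd (.lf 0) (.lf 0))))))))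

/-- table part -/
def xT2_7 : Tr :=
  .nd (.nd (.nd (.nd (.nd (.nd (.nd (.nd (.lf 0) (.lf 0)) (.nd (.lf 0) (.lf 0))) (.nd (.nd (.lf 64014) (.lf 0)) (.nd (.lf 116751) (.lf 0)))) (.nd (.nd (.nd (.lf 0) (.lf 0)) (.nd (.lf 0) (.lf 0))) (.nd (.nd (.lf 2575) (.lf 0)) (.nd (.lf 0) (.lf 0))))) (.nd (.nd (.nd (.nd (.lf 0) (.lf 0)) (.nd (.lf 0) (.lf 0))) (.nd (.nd (.lf 0) (.lf 0)) (.nd (.lf 0) (.lf 0)))) (.nd (.nd (.nd (.lf 128654) (.lf 0)) (.nd (.lf 0) (.lf 0))) (.nd (.nd (.lf 20687) (.lf 0)) (.nd (.lf 0) (.lf 0)))))) (.nd (.nd (.nd (.nd (.nd (.lf 119502) (.lf 0)) (.nd (.lf 0) (.lf 0))) (.nd (.nd (.lf 0) (.lf 0)) (.nd (.lf 0) (.lf 0)))) (.nd (.nd (.nd (.lf 0) (.lf 0)) (.nd (.lf 75278) (.lf 0))) (.nd (.nd (.lf 0) (.lf 0)) (.nd (.lf 0) (.lf 0))))) (.nd (.nd (.nd (.nd (.lf 0) (.lf 0)) (.nd (.lf 0) (.lf 0))) (.nd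 (.nd (.lf 0) (.lf 0)) (.nd (.lf 0) (.lf 0)))) (.nd (.nd (.nd (.lf 0) (.lf 0)) (.nd (.lf 71246) (.lf 0))) (.nd (.nd (.lf 0) (.lf 0)) (.nd (.lf 0) (.lf 0))))))) (.nd (.nd (.nd (.nd (.nd (.nd (.lf 0) (.lf 0)) (.nd (.lf 109583) (.lf 0))) (.nd (.nd (.lf 0) (.lf 0)) (.nd (.lf 71374) (.lf 0)))) (.nd (.nd (.nd (.lf 0) (.lf 0)) (.nd (.lf 0) (.lf 0))) (.nd (.nd (.lf 0) (.lf 0)) (.nd (.lf 109262) (.lf 0))))) (.nd (.nd (.nd (.nd (.lf 0) (.lf 0)) (.nd (.lf 100175) (.lf 0))) (.nd (.nd (.lf 0) (.lf 0)) (.nd (.lf 0) (.lf 0)))) (.nd (.nd (.nd (.lf 0) (.lf 0)) (.nd (.lf 0) (.lf 0))) (.nd (.nd (.lf 0) (.lf 0)) (.nd (.lf 0) (.lf 0)))))) (.nd (.nd (.nd (.nd (.nd (.lf 0) (.lf 0)) (.nd (.lf 0) (.lf 0))) (.nd (.nd (.lf 76303) (.lf 0)) (.nd (.lf 0) (.lf 0)))) (.nd (.nd (.nd (.lf 0) (.lf 0)) (.nd (.lf 0) (.lf 0))) (.nd (.nd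 (.lf 0) (.lf 0)) (.nd (.lf 0) (.lf 0))))) (.nd (.nd (.nd (.nd (.lf 0) (.lf 0)) (.nd (.lf 121870) (.lf 0))) (.nd (.nd (.lf 0) (.lf 0)) (.nd (.lf 0) (.lf 0)))) (.nd (.nd (.nd (.lf 0) (.lf 0)) (.nd (.lf 0) (.lf 0))) (.nd (.nd (.lf 0) (.lf 0)) (.nd (.lf 0) (.lf 0)))))))) (.nd (.nd (.nd (.nd (.nd (.nd (.nd (.lf 0) (.lf 0)) (.nd (.lf 0) (.lf 0))) (.nd (.nd (.lf 0) (.lf 0)) (.nd (.lf 0) (.lf 0)))) (.nd (.nd (.nd (.lf 0) (.lf 0)) (.nd (.lf 0) (.lf 0))) (.nd (.nd (.lf 0) (.lf 0)) (.nd (.lf 107342) (.lf 0))))) (.nd (.nd (.nd (.nd (.lf 0) (.lf 0)) (.nd (.lf 0) (.lf 0))) (.nd (.nd (.lf 0) (.lf 0)) (.nd (.lf 0) (.lf 0)))) (.nd (.nd (.nd (.lf 0) (.lf 0)) (.nd (.lf 0) (.lf 0))) (.nd (.nd (.lf 56846) (.lf 0)) (.nd (.lf 0) (.lf 0)))))) (.nd (.nd (.nd (.nd (.nd (.lf 0) (.lf 0)) (.nd (.lf 0) (.lf 0))) (.nd (.nd (.lf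 0) (.lf 0)) (.nd (.lf 0) (.lf 0)))) (.nd (.nd (.nd (.lf 0) (.lf 0)) (.nd (.lf 121295) (.lf 0))) (.nd (.nd (.lf 0) (.lf 0)) (.nd (.lf 0) (.lf 0))))) (.nd (.nd (.nd (.nd (.lf 0) (.lf 0)) (.nd (.lf 56911) (.lf 0))) (.nd (.nd (.lf 0) (.lf 0)) (.nd (.lf 0) (.lf 0)))) (.nd (.nd (.nd (.lf 0) (.lf 0)) (.nd (.lf 0) (.lf 0))) (.nd (.nd (.lf 0) (.lf 0)) (.nd (.lf 0) (.lf 0))))))) (.nd (.nd (.nd (.nd (.nd (.nd (.lf 0) (.lf 0)) (.nd (.lf 0) (.lf 0))) (.nd (.nd (.lf 41679) (.lf 0)) (.nd (.lf 0) (.lf 0)))) (.nd (.nd (.nd (.lf 0) (.lf 0)) (.nd (.lf 4046) (.lf 0))) (.nd (.nd (.lf 0) (.lf 0)) (.nd (.lf 26830) (.lf 0))))) (.nd (.nd (.nd (.nd (.lf 0) (.lf 0)) (.nd (.lf 0) (.lf 0))) (.nd (.nd (.lf 86350) (.lf 0)) (.nd (.lf 0) (.lf 0)))) (.nd (.nd (.nd (.lf 0) (.lf 0)) (.nd (.lf 0) (.lf 0))) (.nd (.nd (.lf 0) (.lf 0)) (.nd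 (.lf 0) (.lf 0)))))) (.nd (.nd (.nd (.nd (.nd (.lf 85391) (.lf 0)) (.nd (.lf 0) (.lf 0))) (.nd (.nd (.lf 0) (.lf 0)) (.nd (.lf 79246) (.lf 0)))) (.nd (.nd (.nd (.lf 0) (.lf 0)) (.nd (.lf 0) (.lf 0))) (.nd (.nd (.lf 0) (.lf 0)) (.nd (.lf 0) (.lf 0))))) (.nd (.nd (.nd (.nd (.lf 0) (.lf 0)) (.nd (.lf 0) (.lf 0))) (.nd (.nd (.lf 40015) (.lf 0)) (.nd (.lf 0) (.lf 0)))) (.nd (.nd (.nd (.lf 0) (.lf 0)) (.nd (.lf 128015) (.lf 0))) (.nd (.nd (.lf 0) (.lf 0)) (.nd (.lf 0) (.lf 0))))))))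

/-- table part -/
def xT2_8 : Tr :=
  .nd (.nd (.nd (.nd (.nd (.nd (.nd (.nd (.lf 0) (.lf 0)) (.nd (.lf 0) (.lf 0))) (.nd (.nd (.lf 0) (.lf 0)) (.nd (.lf 0) (.lf 0)))) (.nd (.nd (.nd (.lf 0) (.lf 0)) (.nd (.lf 0) (.lf 0))) (.nd (.nd (.lf 0) (.lf 0)) (.nd (.lf 0) (.lf 0))))) (.nd (.nd (.nd (.nd (.lf 0) (.lf 0)) (.nd (.lf 0) (.lf 0))) (.nd (.nd (.lf 0) (.lf 0)) (.nd (.lf 0) (.lf 0)))) (.nd (.nd (.nd (.lf 0) (.lf 0)) (.nd (.lf 0) (.lf 0))) (.nd (.nd (.lf 0) (.lf 0)) (.nd (.lf 0) (.lf 0)))))) (.nd (.nd (.nd (.nd (.nd (.lf 0) (.lf 0)) (.nd (.lf 0) (.lf 0))) (.nd (.nd (.lf 0) (.lf 0)) (.nd (.lf 0) (.lf 0)))) (.nd (.nd (.nd (.lf 0) (.lf 0)) (.nd (.lf 75279) (.lf 0))) (.nd (.nd (.lf 0) (.lf 0)) (.nd (.lf 0) (.lf 0))))) (.nd (.nd (.nd (.nd (.lf 0) (.lf 0)) (.nd (.lf 0) (.lf 0))) (.nd (.nd (.lf 0) (.lf 0))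 (.nd (.lf 121807) (.lf 0)))) (.nd (.nd (.nd (.lf 0) (.lf 0)) (.nd (.lf 0) (.lf 0))) (.nd (.nd (.lf 0) (.lf 0)) (.nd (.lf 0) (.lf 0))))))) (.nd (.nd (.nd (.nd (.nd (.nd (.lf 0) (.lf 0)) (.nd (.lf 40590) (.lf 0))) (.nd (.nd (.lf 0) (.lf 0)) (.nd (.lf 129678) (.lf 0)))) (.nd (.nd (.nd (.lf 0) (.lf 0)) (.nd (.lf 0) (.lf 0))) (.nd (.nd (.lf 0) (.lf 0)) (.nd (.lf 117007) (.lf 0))))) (.nd (.nd (.nd (.nd (.lf 0) (.lf 0)) (.nd (.lf 0) (.lf 0))) (.nd (.nd (.lf 0) (.lf 0)) (.nd (.lf 110798) (.lf 0)))) (.nd (.nd (.nd (.lf 0) (.lf 0)) (.nd (.lf 0) (.lf 0))) (.nd (.nd (.lf 0) (.lf 0)) (.nd (.lf 30863) (.lf 0)))))) (.nd (.nd (.nd (.nd (.nd (.lf 0) (.lf 0)) (.nd (.lf 0) (.lf 0))) (.nd (.nd (.lf 0) (.lf 0)) (.nd (.lf 0) (.lf 0)))) (.nd (.nd (.nd (.lf 0) (.lf 0)) (.nd (.lf 0) (.lf 0))) (.nd (.nd (.lf 0) (.lf 0)) (.nd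 (.lf 0) (.lf 0))))) (.nd (.nd (.nd (.nd (.lf 124622) (.lf 0)) (.nd (.lf 104782) (.lf 0))) (.nd (.nd (.lf 0) (.lf 0)) (.nd (.lf 0) (.lf 0)))) (.nd (.nd (.nd (.lf 0) (.lf 0)) (.nd (.lf 0) (.lf 0))) (.nd (.nd (.lf 0) (.lf 0)) (.nd (.lf 0) (.lf 0)))))))) (.nd (.nd (.nd (.nd (.nd (.nd (.nd (.lf 0) (.lf 0)) (.nd (.lf 0) (.lf 0))) (.nd (.nd (.lf 0) (.lf 0)) (.nd (.lf 0) (.lf 0)))) (.nd (.nd (.nd (.lf 0) (.lf 0)) (.nd (.lf 0) (.lf 0))) (.nd (.nd (.lf 0) (.lf 0)) (.nd (.lf 0) (.lf 0))))) (.nd (.nd (.nd (.nd (.lf 0) (.lf 0)) (.nd (.lf 0) (.lf 0))) (.nd (.nd (.lf 0) (.lf 0)) (.nd (.lf 0) (.lf 0)))) (.nd (.nd (.nd (.lf 0) (.lf 0)) (.nd (.lf 0) (.lf 0))) (.nd (.nd (.lf 0) (.lf 0)) (.nd (.lf 0) (.lf 0)))))) (.nd (.nd (.nd (.nd (.nd (.lf 0) (.lf 0)) (.nd (.lf 65359) (.lf 0))) (.nd (.nd (.lf 35919) (.lf 0)) (.nd (.lf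 0) (.lf 0)))) (.nd (.nd (.nd (.lf 0) (.lf 0)) (.nd (.lf 0) (.lf 0))) (.nd (.nd (.lf 0) (.lf 0)) (.nd (.lf 0) (.lf 0))))) (.nd (.nd (.nd (.nd (.lf 0) (.lf 0)) (.nd (.lf 16654) (.lf 0))) (.nd (.nd (.lf 0) (.lf 0)) (.nd (.lf 0) (.lf 0)))) (.nd (.nd (.nd (.lf 0) (.lf 0)) (.nd (.lf 0) (.lf 0))) (.nd (.nd (.lf 0) (.lf 0)) (.nd (.lf 72142) (.lf 0))))))) (.nd (.nd (.nd (.nd (.nd (.nd (.lf 0) (.lf 0)) (.nd (.lf 0) (.lf 0))) (.nd (.nd (.lf 0) (.lf 0)) (.nd (.lf 0) (.lf 0)))) (.nd (.nd (.nd (.lf 0) (.lf 0)) (.nd (.lf 0) (.lf 0))) (.nd (.nd (.lf 7695) (.lf 0)) (.nd (.lf 0) (.lf 0))))) (.nd (.nd (.nd (.nd (.lf 0) (.lf 0)) (.nd (.lf 51023) (.lf 0))) (.nd (.nd (.lf 0) (.lf 0)) (.nd (.lf 0) (.lf 0)))) (.nd (.nd (.nd (.lf 0) (.lf 0)) (.nd (.lf 0) (.lf 0))) (.nd (.nd (.lf 117006) (.lf 0)) (.nd (.lf 0) (.lf 0)))))) (.nd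 (.nd (.nd (.nd (.nd (.lf 0) (.lf 0)) (.nd (.lf 0) (.lf 0))) (.nd (.nd (.lf 102863) (.lf 0)) (.nd (.lf 0) (.lf 0)))) (.nd (.nd (.nd (.lf 0) (.lf 0)) (.nd (.lf 0) (.lf 0))) (.nd (.nd (.lf 0) (.lf 0)) (.nd (.lf 0) (.lf 0))))) (.nd (.nd (.nd (.nd (.lf 0) (.lf 0)) (.nd (.lf 0) (.lf 0))) (.nd (.nd (.lf 0) (.lf 0)) (.nd (.lf 0) (.lf 0)))) (.nd (.nd (.nd (.lf 0) (.lf 0)) (.nd (.lf 0) (.lf 0))) (.nd (.nd (.lf 0) (.lf 0)) (.nd (.lf 0) (.lf 0))))))))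

/-- table part -/
def xT2_9 : Tr :=
  .nd (.nd (.nd (.nd (.nd (.nd (.nd (.nd (.lf 0) (.lf 71567)) (.nd (.lf 0) (.lf 0))) (.nd (.nd (.lf 0) (.lf 0)) (.nd (.lf 0) (.lf 0)))) (.nd (.nd (.nd (.lf 0) (.lf 0)) (.nd (.lf 0) (.lf 0))) (.nd (.nd (.lf 0) (.lf 0)) (.nd (.lf 0) (.lf 0))))) (.nd (.nd (.nd (.nd (.lf 0) (.lf 0)) (.nd (.lf 0) (.lf 0))) (.nd (.nd (.lf 0) (.lf 0)) (.nd (.lf 0) (.lf 0)))) (.nd (.nd (.nd (.lf 55118) (.lf 0)) (.nd (.lf 53839) (.lf 0))) (.nd (.nd (.lf 0) (.lf 0)) (.nd (.lf 0) (.lf 0)))))) (.nd (.nd (.nd (.nd (.nd (.lf 0) (.lf 0)) (.nd (.lf 0) (.lf 0))) (.nd (.nd (.lf 0) (.lf 0)) (.nd (.lf 0) (.lf 0)))) (.nd (.nd (.nd (.lf 39247) (.lf 0)) (.nd (.lf 0) (.lf 0))) (.nd (.nd (.lf 0) (.lf 0)) (.nd (.lf 0) (.lf 0))))) (.nd (.nd (.nd (.nd (.lf 0) (.lf 0)) (.nd (.lf 0) (.lf 0))) (.nd (.nd (.lf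 0) (.lf 0)) (.nd (.lf 0) (.lf 0)))) (.nd (.nd (.nd (.lf 0) (.lf 0)) (.nd (.lf 0) (.lf 0))) (.nd (.nd (.lf 0) (.lf 0)) (.nd (.lf 0) (.lf 0))))))) (.nd (.nd (.nd (.nd (.nd (.nd (.lf 0) (.lf 0)) (.nd (.lf 103630) (.lf 0))) (.nd (.nd (.lf 0) (.lf 0)) (.nd (.lf 0) (.lf 0)))) (.nd (.nd (.nd (.lf 0) (.lf 0)) (.nd (.lf 0) (.lf 0))) (.nd (.nd (.lf 120847) (.lf 0)) (.nd (.lf 0) (.lf 0))))) (.nd (.nd (.nd (.nd (.lf 71375) (.lf 0)) (.nd (.lf 0) (.lf 0))) (.nd (.nd (.lf 53263) (.lf 0)) (.nd (.lf 0) (.lf 0)))) (.nd (.nd (.nd (.lf 0) (.lf 0)) (.nd (.lf 0) (.lf 0))) (.nd (.nd (.lf 21262) (.lf 0)) (.nd (.lf 0) (.lf 0)))))) (.nd (.nd (.nd (.nd (.nd (.lf 0) (.lf 0)) (.nd (.lf 0) (.lf 0))) (.nd (.nd (.lf 0) (.lf 0)) (.nd (.lf 0) (.lf 0)))) (.nd (.nd (.nd (.lf 0) (.lf 0)) (.nd (.lf 0) (.lf 0))) (.nd (.nd (.lf 0) (.lf 0))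 (.nd (.lf 76302) (.lf 0))))) (.nd (.nd (.nd (.nd (.lf 0) (.lf 0)) (.nd (.lf 30223) (.lf 0))) (.nd (.nd (.lf 0) (.lf 0)) (.nd (.lf 115726) (.lf 0)))) (.nd (.nd (.nd (.lf 0) (.lf 0)) (.nd (.lf 0) (.lf 0))) (.nd (.nd (.lf 0) (.lf 0)) (.nd (.lf 0) (.lf 0)))))))) (.nd (.nd (.nd (.nd (.nd (.nd (.nd (.lf 0) (.lf 0)) (.nd (.lf 87439) (.lf 0))) (.nd (.nd (.lf 0) (.lf 0)) (.nd (.lf 0) (.lf 0)))) (.nd (.nd (.nd (.lf 0) (.lf 0)) (.nd (.lf 51726) (.lf 0))) (.nd (.nd (.lf 0) (.lf 0)) (.nd (.lf 0) (.lf 0))))) (.nd (.nd (.nd (.nd (.lf 0) (.lf 0)) (.nd (.lf 0) (.lf 0))) (.nd (.nd (.lf 0) (.lf 0)) (.nd (.lf 0) (.lf 0)))) (.nd (.nd (.nd (.lf 0) (.lf 0)) (.nd (.lf 0) (.lf 0))) (.nd (.nd (.lf 0) (.lf 0)) (.nd (.lf 0) (.lf 0)))))) (.nd (.nd (.nd (.nd (.nd (.lf 0) (.lf 0)) (.nd (.lf 128719) (.lf 0))) (.nd (.nd (.lf 0) (.lf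 0)) (.nd (.lf 0) (.lf 0)))) (.nd (.nd (.nd (.lf 0) (.lf 0)) (.nd (.lf 0) (.lf 0))) (.nd (.nd (.lf 0) (.lf 0)) (.nd (.lf 0) (.lf 0))))) (.nd (.nd (.nd (.nd (.lf 0) (.lf 0)) (.nd (.lf 120910) (.lf 0))) (.nd (.nd (.lf 0) (.lf 0)) (.nd (.lf 20942) (.lf 0)))) (.nd (.nd (.nd (.lf 0) (.lf 0)) (.nd (.lf 0) (.lf 0))) (.nd (.nd (.lf 0) (.lf 0)) (.nd (.lf 16655) (.lf 0))))))) (.nd (.nd (.nd (.nd (.nd (.nd (.lf 0) (.lf 0)) (.nd (.lf 0) (.lf 0))) (.nd (.nd (.lf 89231) (.lf 0)) (.nd (.lf 0) (.lf 0)))) (.nd (.nd (.nd (.lf 0) (.lf 0)) (.nd (.lf 0) (.lf 0))) (.nd (.nd (.lf 0) (.lf 0)) (.nd (.lf 0) (.lf 0))))) (.nd (.nd (.nd (.nd (.lf 17039) (.lf 0)) (.nd (.lf 0) (.lf 0))) (.nd (.nd (.lf 0) (.lf 0)) (.nd (.lf 0) (.lf 0)))) (.nd (.nd (.nd (.lf 0) (.lf 0)) (.nd (.lf 91791) (.lf 0))) (.nd (.nd (.lf 0) (.lf 0)) (.nd (.lf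 0) (.lf 0)))))) (.nd (.nd (.nd (.nd (.nd (.lf 0) (.lf 0)) (.nd (.lf 0) (.lf 0))) (.nd (.nd (.lf 42190) (.lf 0)) (.nd (.lf 0) (.lf 0)))) (.nd (.nd (.nd (.lf 0) (.lf 0)) (.nd (.lf 0) (.lf 0))) (.nd (.nd (.lf 0) (.lf 0)) (.nd (.lf 0) (.lf 0))))) (.nd (.nd (.nd (.nd (.lf 0) (.lf 0)) (.nd (.lf 0) (.lf 0))) (.nd (.nd (.lf 0) (.lf 0)) (.nd (.lf 0) (.lf 0)))) (.nd (.nd (.nd (.lf 0) (.lf 0)) (.nd (.lf 0) (.lf 0))) (.nd (.nd (.lf 0) (.lf 0)) (.nd (.lf 0) (.lf 0))))))))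

/-- table part -/
def xT2_10 : Tr :=
  .nd (.nd (.nd (.nd (.nd (.nd (.nd (.nd (.lf 0) (.lf 0)) (.nd (.lf 0) (.lf 0))) (.nd (.nd (.lf 0) (.lf 0)) (.nd (.lf 0) (.lf 0)))) (.nd (.nd (.nd (.lf 0) (.lf 0)) (.nd (.lf 122447) (.lf 0))) (.nd (.nd (.lf 0) (.lf 0)) (.nd (.lf 0) (.lf 0))))) (.nd (.nd (.nd (.nd (.lf 0) (.lf 0)) (.nd (.lf 0) (.lf 0))) (.nd (.nd (.lf 0) (.lf 0)) (.nd (.lf 0) (.lf 0)))) (.nd (.nd (.nd (.lf 0) (.lf 0)) (.nd (.lf 0) (.lf 0))) (.nd (.nd (.lf 80783) (.lf 0)) (.nd (.lf 0) (.lf 0)))))) (.nd (.nd (.nd (.nd (.nd (.lf 0) (.lf 0)) (.nd (.lf 0) (.lf 0))) (.nd (.nd (.lf 15247) (.lf 0)) (.nd (.lf 44430) (.lf 0)))) (.nd (.nd (.nd (.lf 0) (.lf 0)) (.nd (.lf 68495) (.lf 0))) (.nd (.nd (.lf 86415) (.lf 0)) (.nd (.lf 0) (.lf 0))))) (.nd (.nd (.nd (.nd (.lf 0) (.lf 0)) (.nd (.lf 0) (.lf 0))) (.nd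 (.nd (.lf 0) (.lf 0)) (.nd (.lf 0) (.lf 0)))) (.nd (.nd (.nd (.lf 0) (.lf 0)) (.nd (.lf 0) (.lf 0))) (.nd (.nd (.lf 0) (.lf 0)) (.nd (.lf 0) (.lf 0))))))) (.nd (.nd (.nd (.nd (.nd (.nd (.lf 0) (.lf 0)) (.nd (.lf 0) (.lf 0))) (.nd (.nd (.lf 0) (.lf 0)) (.nd (.lf 0) (.lf 0)))) (.nd (.nd (.nd (.lf 0) (.lf 0)) (.nd (.lf 0) (.lf 0))) (.nd (.nd (.lf 0) (.lf 0)) (.nd (.lf 0) (.lf 0))))) (.nd (.nd (.nd (.nd (.lf 31310) (.lf 0)) (.nd (.lf 0) (.lf 0))) (.nd (.nd (.lf 0) (.lf 0)) (.nd (.lf 0) (.lf 0)))) (.nd (.nd (.nd (.lf 34127) (.lf 0)) (.nd (.lf 0) (.lf 0))) (.nd (.nd (.lf 0) (.lf 0)) (.nd (.lf 0) (.lf 0)))))) (.nd (.nd (.nd (.nd (.nd (.lf 0) (.lf 0)) (.nd (.lf 0) (.lf 0))) (.nd (.nd (.lf 0) (.lf 0)) (.nd (.lf 0) (.lf 0)))) (.nd (.nd (.nd (.lf 35791) (.lf 0)) (.nd (.lf 0) (.lf 0))) (.nd (.nd (.lf 0) (.lf 0))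 (.nd (.lf 0) (.lf 0))))) (.nd (.nd (.nd (.nd (.lf 107791) (.lf 0)) (.nd (.lf 0) (.lf 0))) (.nd (.nd (.lf 0) (.lf 0)) (.nd (.lf 0) (.lf 0)))) (.nd (.nd (.nd (.lf 101006) (.lf 0)) (.nd (.lf 0) (.lf 0))) (.nd (.nd (.lf 0) (.lf 0)) (.nd (.lf 0) (.lf 0)))))))) (.nd (.nd (.nd (.nd (.nd (.nd (.nd (.lf 0) (.lf 0)) (.nd (.lf 0) (.lf 0))) (.nd (.nd (.lf 0) (.lf 0)) (.nd (.lf 0) (.lf 0)))) (.nd (.nd (.nd (.lf 21455) (.lf 0)) (.nd (.lf 80847) (.lf 0))) (.nd (.nd (.lf 0) (.lf 0)) (.nd (.lf 80846) (.lf 0))))) (.nd (.nd (.nd (.nd (.lf 0) (.lf 0)) (.nd (.lf 0) (.lf 0))) (.nd (.nd (.lf 0) (.lf 0)) (.nd (.lf 0) (.lf 0)))) (.nd (.nd (.nd (.lf 0) (.lf 0)) (.nd (.lf 109199) (.lf 0))) (.nd (.nd (.lf 0) (.lf 0)) (.nd (.lf 0) (.lf 0)))))) (.nd (.nd (.nd (.nd (.nd (.lf 0) (.lf 0)) (.nd (.lf 65486) (.lf 0))) (.nd (.nd (.lf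 102862) (.lf 0)) (.nd (.lf 0) (.lf 0)))) (.nd (.nd (.nd (.lf 0) (.lf 0)) (.nd (.lf 0) (.lf 0))) (.nd (.nd (.lf 0) (.lf 0)) (.nd (.lf 101327) (.lf 0))))) (.nd (.nd (.nd (.nd (.lf 38030) (.lf 0)) (.nd (.lf 98702) (.lf 0))) (.nd (.nd (.lf 56847) (.lf 0)) (.nd (.lf 0) (.lf 0)))) (.nd (.nd (.nd (.lf 0) (.lf 0)) (.nd (.lf 0) (.lf 0))) (.nd (.nd (.lf 82063) (.lf 0)) (.nd (.lf 0) (.lf 0))))))) (.nd (.nd (.nd (.nd (.nd (.nd (.lf 0) (.lf 0)) (.nd (.lf 0) (.lf 0))) (.nd (.nd (.lf 0) (.lf 0)) (.nd (.lf 78095) (.lf 0)))) (.nd (.nd (.nd (.lf 57806) (.lf 0)) (.nd (.lf 0) (.lf 0))) (.nd (.nd (.lf 0) (.lf 0)) (.nd (.lf 0) (.lf 0))))) (.nd (.nd (.nd (.nd (.lf 0) (.lf 0)) (.nd (.lf 0) (.lf 0))) (.nd (.nd (.lf 0) (.lf 0)) (.nd (.lf 0) (.lf 0)))) (.nd (.nd (.nd (.lf 0) (.lf 0)) (.nd (.lf 0) (.lf 0))) (.nd (.nd (.lf 0)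 (.lf 0)) (.nd (.lf 0) (.lf 0)))))) (.nd (.nd (.nd (.nd (.nd (.lf 117967) (.lf 0)) (.nd (.lf 0) (.lf 0))) (.nd (.nd (.lf 0) (.lf 0)) (.nd (.lf 0) (.lf 0)))) (.nd (.nd (.nd (.lf 29454) (.lf 0)) (.nd (.lf 0) (.lf 0))) (.nd (.nd (.lf 124942) (.lf 0)) (.nd (.lf 38350) (.lf 0))))) (.nd (.nd (.nd (.nd (.lf 20943) (.lf 0)) (.nd (.lf 78670) (.lf 0))) (.nd (.nd (.lf 0) (.lf 0)) (.nd (.lf 0) (.lf 0)))) (.nd (.nd (.nd (.lf 50894) (.lf 0)) (.nd (.lf 0) (.lf 0))) (.nd (.nd (.lf 0) (.lf 0)) (.nd (.lf 0) (.lf 0))))))))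

/-- table part -/
def xT2_11 : Tr :=
  .nd (.nd (.nd (.nd (.nd (.nd (.nd (.nd (.lf 92110) (.lf 0)) (.nd (.lf 0) (.lf 0))) (.nd (.nd (.lf 0) (.lf 0)) (.nd (.lf 0) (.lf 0)))) (.nd (.nd (.nd (.lf 105486) (.lf 0)) (.nd (.lf 48527) (.lf 0))) (.nd (.nd (.lf 0) (.lf 0)) (.nd (.lf 0) (.lf 0))))) (.nd (.nd (.nd (.nd (.lf 0) (.lf 0)) (.nd (.lf 0) (.lf 0))) (.nd (.nd (.lf 0) (.lf 0)) (.nd (.lf 0) (.lf 0)))) (.nd (.nd (.nd (.lf 46223) (.lf 0)) (.nd (.lf 0) (.lf 0))) (.nd (.nd (.lf 0) (.lf 0)) (.nd (.lf 0) (.lf 0)))))) (.nd (.nd (.nd (.nd (.nd (.lf 23759) (.lf 0)) (.nd (.lf 0) (.lf 0))) (.nd (.nd (.lf 0) (.lf 0)) (.nd (.lf 0) (.lf 0)))) (.nd (.nd (.nd (.lf 0) (.lf 0)) (.nd (.lf 121806) (.lf 0))) (.nd (.nd (.lf 0) (.lf 0)) (.nd (.lf 0) (.lf 0))))) (.nd (.nd (.nd (.nd (.lf 0) (.lf 0)) (.nd (.lf 0) (.lf 0))) (.nd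 (.nd (.lf 0) (.lf 0)) (.nd (.lf 0) (.lf 0)))) (.nd (.nd (.nd (.lf 0) (.lf 0)) (.nd (.lf 0) (.lf 0))) (.nd (.nd (.lf 0) (.lf 0)) (.nd (.lf 0) (.lf 0))))))) (.nd (.nd (.nd (.nd (.nd (.nd (.lf 0) (.lf 0)) (.nd (.lf 21454) (.lf 0))) (.nd (.nd (.lf 0) (.lf 0)) (.nd (.lf 0) (.lf 0)))) (.nd (.nd (.nd (.lf 0) (.lf 0)) (.nd (.lf 0) (.lf 0))) (.nd (.nd (.lf 0) (.lf 0)) (.nd (.lf 0) (.lf 0))))) (.nd (.nd (.nd (.nd (.lf 0) (.lf 0)) (.nd (.lf 0) (.lf 0))) (.nd (.nd (.lf 0) (.lf 0)) (.nd (.lf 0) (.lf 0)))) (.nd (.nd (.nd (.lf 0) (.lf 0)) (.nd (.lf 0) (.lf 0))) (.nd (.nd (.lf 0) (.lf 0)) (.nd (.lf 0) (.lf 0)))))) (.nd (.nd (.nd (.nd (.nd (.lf 0) (.lf 0)) (.nd (.lf 0) (.lf 0))) (.nd (.nd (.lf 82574) (.lf 0)) (.nd (.lf 34446) (.lf 0)))) (.nd (.nd (.nd (.lf 0) (.lf 0)) (.nd (.lf 0) (.lf 0))) (.nd (.nd (.lf 38414) (.lf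 0)) (.nd (.lf 68494) (.lf 0))))) (.nd (.nd (.nd (.nd (.lf 0) (.lf 0)) (.nd (.lf 16718) (.lf 0))) (.nd (.nd (.lf 55119) (.lf 0)) (.nd (.lf 0) (.lf 0)))) (.nd (.nd (.nd (.lf 0) (.lf 0)) (.nd (.lf 0) (.lf 0))) (.nd (.nd (.lf 25615) (.lf 0)) (.nd (.lf 0) (.lf 0)))))))) (.nd (.nd (.nd (.nd (.nd (.nd (.nd (.lf 97103) (.lf 0)) (.nd (.lf 0) (.lf 0))) (.nd (.nd (.lf 100558) (.lf 0)) (.nd (.lf 0) (.lf 0)))) (.nd (.nd (.nd (.lf 0) (.lf 0)) (.nd (.lf 0) (.lf 0))) (.nd (.nd (.lf 0) (.lf 0)) (.nd (.lf 0) (.lf 0))))) (.nd (.nd (.nd (.nd (.lf 0) (.lf 0)) (.nd (.lf 0) (.lf 0))) (.nd (.nd (.lf 0) (.lf 0)) (.nd (.lf 0) (.lf 0)))) (.nd (.nd (.nd (.lf 71822) (.lf 0)) (.nd (.lf 0) (.lf 0))) (.nd (.nd (.lf 0) (.lf 0)) (.nd (.lf 40206) (.lf 0)))))) (.nd (.nd (.nd (.nd (.nd (.lf 0) (.lf 0)) (.nd (.lf 0) (.lf 0))) (.nd (.nd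 (.lf 0) (.lf 0)) (.nd (.lf 0) (.lf 0)))) (.nd (.nd (.nd (.lf 0) (.lf 0)) (.nd (.lf 0) (.lf 0))) (.nd (.nd (.lf 0) (.lf 0)) (.nd (.lf 109903) (.lf 0))))) (.nd (.nd (.nd (.nd (.lf 0) (.lf 0)) (.nd (.lf 39631) (.lf 0))) (.nd (.nd (.lf 0) (.lf 0)) (.nd (.lf 116110) (.lf 0)))) (.nd (.nd (.nd (.lf 0) (.lf 0)) (.nd (.lf 0) (.lf 0))) (.nd (.nd (.lf 0) (.lf 0)) (.nd (.lf 0) (.lf 0))))))) (.nd (.nd (.nd (.nd (.nd (.nd (.lf 0) (.lf 0)) (.nd (.lf 0) (.lf 0))) (.nd (.nd (.lf 0) (.lf 0)) (.nd (.lf 0) (.lf 0)))) (.nd (.nd (.nd (.lf 0) (.lf 0)) (.nd (.lf 0) (.lf 0))) (.nd (.nd (.lf 17998) (.lf 0)) (.nd (.lf 0) (.lf 0))))) (.nd (.nd (.nd (.nd (.lf 0) (.lf 0)) (.nd (.lf 0) (.lf 0))) (.nd (.nd (.lf 0) (.lf 0)) (.nd (.lf 35598) (.lf 0)))) (.nd (.nd (.nd (.lf 0) (.lf 0)) (.nd (.lf 26127) (.lf 0))) (.nd (.nd (.lf 0) (.lf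 0)) (.nd (.lf 0) (.lf 0)))))) (.nd (.nd (.nd (.nd (.nd (.lf 11343) (.lf 0)) (.nd (.lf 0) (.lf 0))) (.nd (.nd (.lf 109902) (.lf 0)) (.nd (.lf 0) (.lf 0)))) (.nd (.nd (.nd (.lf 0) (.lf 0)) (.nd (.lf 113103) (.lf 0))) (.nd (.nd (.lf 0) (.lf 0)) (.nd (.lf 0) (.lf 0))))) (.nd (.nd (.nd (.nd (.lf 104783) (.lf 0)) (.nd (.lf 0) (.lf 0))) (.nd (.nd (.lf 131150) (.lf 0)) (.nd (.lf 0) (.lf 0)))) (.nd (.nd (.nd (.lf 0) (.lf 0)) (.nd (.lf 0) (.lf 0))) (.nd (.nd (.lf 0) (.lf 0)) (.nd (.lf 0) (.lf 0))))))))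

/-- table part -/
def xT2_12 : Tr :=
  .nd (.nd (.nd (.nd (.nd (.nd (.nd (.nd (.lf 128911) (.lf 0)) (.nd (.lf 0) (.lf 0))) (.nd (.nd (.lf 0) (.lf 0)) (.nd (.lf 0) (.lf 0)))) (.nd (.nd (.nd (.lf 0) (.lf 0)) (.nd (.lf 0) (.lf 0))) (.nd (.nd (.lf 0) (.lf 0)) (.nd (.lf 0) (.lf 0))))) (.nd (.nd (.nd (.nd (.lf 0) (.lf 0)) (.nd (.lf 90191) (.lf 0))) (.nd (.nd (.lf 0) (.lf 0)) (.nd (.lf 38799) (.lf 0)))) (.nd (.nd (.nd (.lf 0) (.lf 0)) (.nd (.lf 0) (.lf 0))) (.nd (.nd (.lf 0) (.lf 0)) (.nd (.lf 0) (.lf 0)))))) (.nd (.nd (.nd (.nd (.nd (.lf 0) (.lf 0)) (.nd (.lf 0) (.lf 0))) (.nd (.nd (.lf 0) (.lf 0)) (.nd (.lf 0) (.lf 0)))) (.nd (.nd (.nd (.lf 0) (.lf 0)) (.nd (.lf 0) (.lf 0))) (.nd (.nd (.lf 0) (.lf 0)) (.nd (.lf 0) (.lf 0))))) (.nd (.nd (.nd (.nd (.lf 0) (.lf 0)) (.nd (.lf 87183) (.lf 0))) (.nd (.nd (.lf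 0) (.lf 0)) (.nd (.lf 0) (.lf 0)))) (.nd (.nd (.nd (.lf 0) (.lf 0)) (.nd (.lf 0) (.lf 0))) (.nd (.nd (.lf 0) (.lf 0)) (.nd (.lf 0) (.lf 0))))))) (.nd (.nd (.nd (.nd (.nd (.nd (.lf 0) (.lf 0)) (.nd (.lf 0) (.lf 0))) (.nd (.nd (.lf 74574) (.lf 0)) (.nd (.lf 0) (.lf 0)))) (.nd (.nd (.nd (.lf 0) (.lf 0)) (.nd (.lf 0) (.lf 0))) (.nd (.nd (.lf 100174) (.lf 0)) (.nd (.lf 0) (.lf 0))))) (.nd (.nd (.nd (.nd (.lf 130831) (.lf 0)) (.nd (.lf 0) (.lf 0))) (.nd (.nd (.lf 0) (.lf 0)) (.nd (.lf 0) (.lf 0)))) (.nd (.nd (.nd (.lf 0) (.lf 0)) (.nd (.lf 0) (.lf 0))) (.nd (.nd (.lf 0) (.lf 0)) (.nd (.lf 55631) (.lf 0)))))) (.nd (.nd (.nd (.nd (.nd (.lf 0) (.lf 0)) (.nd (.lf 36239) (.lf 0))) (.nd (.nd (.lf 0) (.lf 0)) (.nd (.lf 0) (.lf 0)))) (.nd (.nd (.nd (.lf 116303) (.lf 0)) (.nd (.lf 53838) (.lf 0))) (.nd (.nd (.lf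 0) (.lf 0)) (.nd (.lf 0) (.lf 0))))) (.nd (.nd (.nd (.nd (.lf 0) (.lf 0)) (.nd (.lf 0) (.lf 0))) (.nd (.nd (.lf 123343) (.lf 0)) (.nd (.lf 15695) (.lf 0)))) (.nd (.nd (.nd (.lf 32718) (.lf 0)) (.nd (.lf 11342) (.lf 0))) (.nd (.nd (.lf 0) (.lf 0)) (.nd (.lf 0) (.lf 0)))))))) (.nd (.nd (.nd (.nd (.nd (.nd (.nd (.lf 0) (.lf 0)) (.nd (.lf 0) (.lf 0))) (.nd (.nd (.lf 0) (.lf 0)) (.nd (.lf 86351) (.lf 0)))) (.nd (.nd (.nd (.lf 0) (.lf 0)) (.nd (.lf 0) (.lf 0))) (.nd (.nd (.lf 26766) (.lf 0)) (.nd (.lf 0) (.lf 0))))) (.nd (.nd (.nd (.nd (.lf 0) (.lf 0)) (.nd (.lf 0) (.lf 0))) (.nd (.nd (.lf 0) (.lf 0)) (.nd (.lf 0) (.lf 0)))) (.nd (.nd (.nd (.lf 0) (.lf 0)) (.nd (.lf 0) (.lf 0))) (.nd (.nd (.lf 0) (.lf 0)) (.nd (.lf 0) (.lf 0)))))) (.nd (.nd (.nd (.nd (.nd (.lf 0) (.lf 0)) (.nd (.lf 0) (.lf 0))) (.nd (.nd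 (.lf 0) (.lf 0)) (.nd (.lf 0) (.lf 0)))) (.nd (.nd (.nd (.lf 0) (.lf 0)) (.nd (.lf 0) (.lf 0))) (.nd (.nd (.lf 41678) (.lf 0)) (.nd (.lf 0) (.lf 0))))) (.nd (.nd (.nd (.nd (.lf 0) (.lf 0)) (.nd (.lf 0) (.lf 0))) (.nd (.nd (.lf 0) (.lf 0)) (.nd (.lf 0) (.lf 0)))) (.nd (.nd (.nd (.lf 0) (.lf 0)) (.nd (.lf 0) (.lf 0))) (.nd (.nd (.lf 0) (.lf 0)) (.nd (.lf 0) (.lf 0))))))) (.nd (.nd (.nd (.nd (.nd (.nd (.lf 0) (.lf 0)) (.nd (.lf 0) (.lf 0))) (.nd (.nd (.lf 0) (.lf 0)) (.nd (.lf 0) (.lf 0)))) (.nd (.nd (.nd (.lf 60558) (.lf 0)) (.nd (.lf 0) (.lf 0))) (.nd (.nd (.lf 0) (.lf 0)) (.nd (.lf 0) (.lf 0))))) (.nd (.nd (.nd (.nd (.lf 0) (.lf 0)) (.nd (.lf 0) (.lf 0))) (.nd (.nd (.lf 0) (.lf 0)) (.nd (.lf 0) (.lf 0)))) (.nd (.nd (.nd (.lf 0) (.lf 0)) (.nd (.lf 0) (.lf 0))) (.nd (.nd (.lf 0) (.lf 0)) (.nd (.lf 0)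 (.lf 0)))))) (.nd (.nd (.nd (.nd (.nd (.lf 0) (.lf 0)) (.nd (.lf 0) (.lf 0))) (.nd (.nd (.lf 0) (.lf 0)) (.nd (.lf 0) (.lf 0)))) (.nd (.nd (.nd (.lf 0) (.lf 0)) (.nd (.lf 0) (.lf 0))) (.nd (.nd (.lf 0) (.lf 0)) (.nd (.lf 0) (.lf 0))))) (.nd (.nd (.nd (.nd (.lf 0) (.lf 0)) (.nd (.lf 0) (.lf 0))) (.nd (.nd (.lf 0) (.lf 0)) (.nd (.lf 0) (.lf 0)))) (.nd (.nd (.nd (.lf 0) (.lf 0)) (.nd (.lf 0) (.lf 0))) (.nd (.nd (.lf 59598) (.lf 0)) (.nd (.lf 0) (.lf 0))))))))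

/-- table part -/
def xT2_13 : Tr :=
  .nd (.nd (.nd (.nd (.nd (.nd (.nd (.nd (.lf 0) (.lf 0)) (.nd (.lf 0) (.lf 0))) (.nd (.nd (.lf 0) (.lf 0)) (.nd (.lf 0) (.lf 0)))) (.nd (.nd (.nd (.lf 0) (.lf 0)) (.nd (.lf 0) (.lf 0))) (.nd (.nd (.lf 0) (.lf 0)) (.nd (.lf 0) (.lf 0))))) (.nd (.nd (.nd (.nd (.lf 0) (.lf 0)) (.nd (.lf 0) (.lf 0))) (.nd (.nd (.lf 0) (.lf 0)) (.nd (.lf 0) (.lf 0)))) (.nd (.nd (.nd (.lf 0) (.lf 0)) (.nd (.lf 0) (.lf 0))) (.nd (.nd (.lf 0) (.lf 0)) (.nd (.lf 0) (.lf 0)))))) (.nd (.nd (.nd (.nd (.nd (.lf 0) (.lf 0)) (.nd (.lf 0) (.lf 0))) (.nd (.nd (.lf 0) (.lf 0)) (.nd (.lf 0) (.lf 0)))) (.nd (.nd (.nd (.lf 111246) (.lf 0)) (.nd (.lf 0) (.lf 0))) (.nd (.nd (.lf 0) (.lf 0)) (.nd (.lf 0) (.lf 0))))) (.nd (.nd (.nd (.nd (.lf 0) (.lf 0)) (.nd (.lf 0) (.lf 0))) (.nd (.nd (.lf 0) (.lf 0))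 (.nd (.lf 109711) (.lf 0)))) (.nd (.nd (.nd (.lf 0) (.lf 0)) (.nd (.lf 0) (.lf 0))) (.nd (.nd (.lf 0) (.lf 0)) (.nd (.lf 0) (.lf 0))))))) (.nd (.nd (.nd (.nd (.nd (.nd (.lf 0) (.lf 0)) (.nd (.lf 0) (.lf 0))) (.nd (.nd (.lf 0) (.lf 0)) (.nd (.lf 38415) (.lf 0)))) (.nd (.nd (.nd (.lf 0) (.lf 0)) (.nd (.lf 0) (.lf 0))) (.nd (.nd (.lf 0) (.lf 0)) (.nd (.lf 0) (.lf 0))))) (.nd (.nd (.nd (.nd (.lf 0) (.lf 0)) (.nd (.lf 0) (.lf 0))) (.nd (.nd (.lf 0) (.lf 0)) (.nd (.lf 0) (.lf 0)))) (.nd (.nd (.nd (.lf 20047) (.lf 0)) (.nd (.lf 0) (.lf 0))) (.nd (.nd (.lf 114831) (.lf 0)) (.nd (.lf 0) (.lf 0)))))) (.nd (.nd (.nd (.nd (.nd (.lf 0) (.lf 0)) (.nd (.lf 0) (.lf 0))) (.nd (.nd (.lf 0) (.lf 0)) (.nd (.lf 34447) (.lf 0)))) (.nd (.nd (.nd (.lf 0) (.lf 0)) (.nd (.lf 0) (.lf 0))) (.nd (.nd (.lf 97678) (.lf 0)) (.nd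 (.lf 0) (.lf 0))))) (.nd (.nd (.nd (.nd (.lf 0) (.lf 0)) (.nd (.lf 0) (.lf 0))) (.nd (.nd (.lf 0) (.lf 0)) (.nd (.lf 0) (.lf 0)))) (.nd (.nd (.nd (.lf 1358) (.lf 0)) (.nd (.lf 0) (.lf 0))) (.nd (.nd (.lf 0) (.lf 0)) (.nd (.lf 0) (.lf 0)))))))) (.nd (.nd (.nd (.nd (.nd (.nd (.nd (.lf 0) (.lf 0)) (.nd (.lf 125838) (.lf 0))) (.nd (.nd (.lf 0) (.lf 0)) (.nd (.lf 0) (.lf 0)))) (.nd (.nd (.nd (.lf 0) (.lf 0)) (.nd (.lf 0) (.lf 0))) (.nd (.nd (.lf 11982) (.lf 0)) (.nd (.lf 0) (.lf 0))))) (.nd (.nd (.nd (.nd (.lf 0) (.lf 0)) (.nd (.lf 0) (.lf 0))) (.nd (.nd (.lf 11086) (.lf 0)) (.nd (.lf 118415) (.lf 0)))) (.nd (.nd (.nd (.lf 0) (.lf 0)) (.nd (.lf 0) (.lf 0))) (.nd (.nd (.lf 0) (.lf 0)) (.nd (.lf 0) (.lf 0)))))) (.nd (.nd (.nd (.nd (.nd (.lf 0) (.lf 0)) (.nd (.lf 0) (.lf 0))) (.nd (.nd (.lf 0) (.lf 0)) (.nd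 (.lf 15) (.lf 0)))) (.nd (.nd (.nd (.lf 0) (.lf 0)) (.nd (.lf 0) (.lf 0))) (.nd (.nd (.lf 0) (.lf 0)) (.nd (.lf 0) (.lf 0))))) (.nd (.nd (.nd (.nd (.lf 25294) (.lf 0)) (.nd (.lf 70734) (.lf 0))) (.nd (.nd (.lf 0) (.lf 0)) (.nd (.lf 0) (.lf 0)))) (.nd (.nd (.nd (.lf 0) (.lf 0)) (.nd (.lf 0) (.lf 0))) (.nd (.nd (.lf 0) (.lf 0)) (.nd (.lf 0) (.lf 0))))))) (.nd (.nd (.nd (.nd (.nd (.nd (.lf 0) (.lf 0)) (.nd (.lf 0) (.lf 0))) (.nd (.nd (.lf 0) (.lf 0)) (.nd (.lf 0) (.lf 0)))) (.nd (.nd (.nd (.lf 0) (.lf 0)) (.nd (.lf 0) (.lf 0))) (.nd (.nd (.lf 0) (.lf 0)) (.nd (.lf 79247) (.lf 0))))) (.nd (.nd (.nd (.nd (.lf 51855) (.lf 0)) (.nd (.lf 0) (.lf 0))) (.nd (.nd (.lf 0) (.lf 0)) (.nd (.lf 0) (.lf 0)))) (.nd (.nd (.nd (.lf 0) (.lf 0)) (.nd (.lf 0) (.lf 0))) (.nd (.nd (.lf 0) (.lf 0)) (.nd (.lf 0) (.lf 0))))))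 (.nd (.nd (.nd (.nd (.nd (.lf 0) (.lf 0)) (.nd (.lf 124559) (.lf 0))) (.nd (.nd (.lf 0) (.lf 0)) (.nd (.lf 0) (.lf 0)))) (.nd (.nd (.nd (.lf 40591) (.lf 0)) (.nd (.lf 0) (.lf 0))) (.nd (.nd (.lf 0) (.lf 0)) (.nd (.lf 0) (.lf 0))))) (.nd (.nd (.nd (.nd (.lf 0) (.lf 0)) (.nd (.lf 63054) (.lf 0))) (.nd (.nd (.lf 0) (.lf 0)) (.nd (.lf 0) (.lf 0)))) (.nd (.nd (.nd (.lf 0) (.lf 0)) (.nd (.lf 0) (.lf 0))) (.nd (.nd (.lf 0) (.lf 0)) (.nd (.lf 0) (.lf 0))))))))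

/-- table part -/
def xT2_14 : Tr :=
  .nd (.nd (.nd (.nd (.nd (.nd (.nd (.nd (.lf 0) (.lf 0)) (.nd (.lf 0) (.lf 0))) (.nd (.nd (.lf 0) (.lf 0)) (.nd (.lf 0) (.lf 0)))) (.nd (.nd (.nd (.lf 0) (.lf 0)) (.nd (.lf 0) (.lf 0))) (.nd (.nd (.lf 0) (.lf 0)) (.nd (.lf 0) (.lf 0))))) (.nd (.nd (.nd (.nd (.lf 0) (.lf 0)) (.nd (.lf 79183) (.lf 0))) (.nd (.nd (.lf 24207) (.lf 0)) (.nd (.lf 44303) (.lf 0)))) (.nd (.nd (.nd (.lf 0) (.lf 0)) (.nd (.lf 0) (.lf 0))) (.nd (.nd (.lf 0) (.lf 0)) (.nd (.lf 0) (.lf 0)))))) (.nd (.nd (.nd (.nd (.nd (.lf 0) (.lf 0)) (.nd (.lf 0) (.lf 0))) (.nd (.nd (.lf 0) (.lf 0)) (.nd (.lf 0) (.lf 0)))) (.nd (.nd (.nd (.lf 74575) (.lf 0)) (.nd (.lf 0) (.lf 0))) (.nd (.nd (.lf 0) (.lf 0)) (.nd (.lf 123662) (.lf 0))))) (.nd (.nd (.nd (.nd (.lf 0) (.lf 0)) (.nd (.lf 0) (.lf 0))) (.nd (.nd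 (.lf 0) (.lf 0)) (.nd (.lf 0) (.lf 0)))) (.nd (.nd (.nd (.lf 0) (.lf 0)) (.nd (.lf 0) (.lf 0))) (.nd (.nd (.lf 23758) (.lf 0)) (.nd (.lf 0) (.lf 0))))))) (.nd (.nd (.nd (.nd (.nd (.nd (.lf 0) (.lf 0)) (.nd (.lf 0) (.lf 0))) (.nd (.nd (.lf 0) (.lf 0)) (.nd (.lf 0) (.lf 0)))) (.nd (.nd (.nd (.lf 0) (.lf 0)) (.nd (.lf 0) (.lf 0))) (.nd (.nd (.lf 0) (.lf 0)) (.nd (.lf 0) (.lf 0))))) (.nd (.nd (.nd (.nd (.lf 0) (.lf 0)) (.nd (.lf 99599) (.lf 0))) (.nd (.nd (.lf 0) (.lf 0)) (.nd (.lf 35918) (.lf 0)))) (.nd (.nd (.nd (.lf 0) (.lf 0)) (.nd (.lf 0) (.lf 0))) (.nd (.nd (.lf 0) (.lf 0)) (.nd (.lf 0) (.lf 0)))))) (.nd (.nd (.nd (.nd (.nd (.lf 0) (.lf 0)) (.nd (.lf 0) (.lf 0))) (.nd (.nd (.lf 16719) (.lf 0)) (.nd (.lf 0) (.lf 0)))) (.nd (.nd (.nd (.lf 0) (.lf 0)) (.nd (.lf 0) (.lf 0))) (.nd (.nd (.lf 0) (.lf 0))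 (.nd (.lf 0) (.lf 0))))) (.nd (.nd (.nd (.nd (.lf 0) (.lf 0)) (.nd (.lf 0) (.lf 0))) (.nd (.nd (.lf 0) (.lf 0)) (.nd (.lf 107214) (.lf 0)))) (.nd (.nd (.nd (.lf 44302) (.lf 0)) (.nd (.lf 0) (.lf 0))) (.nd (.nd (.lf 0) (.lf 0)) (.nd (.lf 0) (.lf 0)))))))) (.nd (.nd (.nd (.nd (.nd (.nd (.nd (.lf 89230) (.lf 0)) (.nd (.lf 0) (.lf 0))) (.nd (.nd (.lf 52047) (.lf 0)) (.nd (.lf 0) (.lf 0)))) (.nd (.nd (.nd (.lf 0) (.lf 0)) (.nd (.lf 46094) (.lf 0))) (.nd (.nd (.lf 79887) (.lf 0)) (.nd (.lf 0) (.lf 0))))) (.nd (.nd (.nd (.nd (.lf 0) (.lf 0)) (.nd (.lf 0) (.lf 0))) (.nd (.nd (.lf 0) (.lf 0)) (.nd (.lf 0) (.lf 0)))) (.nd (.nd (.nd (.lf 0) (.lf 0)) (.nd (.lf 0) (.lf 0))) (.nd (.nd (.lf 0) (.lf 0)) (.nd (.lf 49294) (.lf 0)))))) (.nd (.nd (.nd (.nd (.nd (.lf 0) (.lf 0)) (.nd (.lf 121487) (.lf 0))) (.nd (.nd (.lf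 0) (.lf 0)) (.nd (.lf 0) (.lf 0)))) (.nd (.nd (.nd (.lf 0) (.lf 0)) (.nd (.lf 0) (.lf 0))) (.nd (.nd (.lf 0) (.lf 0)) (.nd (.lf 0) (.lf 0))))) (.nd (.nd (.nd (.nd (.lf 0) (.lf 0)) (.nd (.lf 0) (.lf 0))) (.nd (.nd (.lf 0) (.lf 0)) (.nd (.lf 0) (.lf 0)))) (.nd (.nd (.nd (.lf 0) (.lf 0)) (.nd (.lf 21646) (.lf 0))) (.nd (.nd (.lf 0) (.lf 0)) (.nd (.lf 83535) (.lf 0))))))) (.nd (.nd (.nd (.nd (.nd (.nd (.lf 0) (.lf 0)) (.nd (.lf 102031) (.lf 0))) (.nd (.nd (.lf 0) (.lf 0)) (.nd (.lf 0) (.lf 0)))) (.nd (.nd (.nd (.lf 0) (.lf 0)) (.nd (.lf 0) (.lf 0))) (.nd (.nd (.lf 0) (.lf 0)) (.nd (.lf 0) (.lf 0))))) (.nd (.nd (.nd (.nd (.lf 72911) (.lf 0)) (.nd (.lf 0) (.lf 0))) (.nd (.nd (.lf 0) (.lf 0)) (.nd (.lf 0) (.lf 0)))) (.nd (.nd (.nd (.lf 0) (.lf 0)) (.nd (.lf 0) (.lf 0))) (.nd (.nd (.lf 97102) (.lf 0)) (.nd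 (.lf 0) (.lf 0)))))) (.nd (.nd (.nd (.nd (.nd (.lf 65039) (.lf 0)) (.nd (.lf 0) (.lf 0))) (.nd (.nd (.lf 0) (.lf 0)) (.nd (.lf 0) (.lf 0)))) (.nd (.nd (.nd (.lf 0) (.lf 0)) (.nd (.lf 0) (.lf 0))) (.nd (.nd (.lf 0) (.lf 0)) (.nd (.lf 0) (.lf 0))))) (.nd (.nd (.nd (.nd (.lf 0) (.lf 0)) (.nd (.lf 0) (.lf 0))) (.nd (.nd (.lf 0) (.lf 0)) (.nd (.lf 0) (.lf 0)))) (.nd (.nd (.nd (.lf 0) (.lf 0)) (.nd (.lf 0) (.lf 0))) (.nd (.nd (.lf 0) (.lf 0)) (.nd (.lf 0) (.lf 0))))))))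

/-- table part -/
def xT2_15 : Tr :=
  .nd (.nd (.nd (.nd (.nd (.nd (.nd (.nd (.lf 0) (.lf 0)) (.nd (.lf 0) (.lf 0))) (.nd (.nd (.lf 0) (.lf 0)) (.nd (.lf 0) (.lf 0)))) (.nd (.nd (.nd (.lf 0) (.lf 0)) (.nd (.lf 0) (.lf 0))) (.nd (.nd (.lf 0) (.lf 0)) (.nd (.lf 0) (.lf 0))))) (.nd (.nd (.nd (.nd (.lf 0) (.lf 0)) (.nd (.lf 0) (.lf 0))) (.nd (.nd (.lf 0) (.lf 0)) (.nd (.lf 108559) (.lf 0)))) (.nd (.nd (.nd (.lf 0) (.lf 0)) (.nd (.lf 0) (.lf 0))) (.nd (.nd (.lf 88911) (.lf 0)) (.nd (.lf 117134) (.lf 0)))))) (.nd (.nd (.nd (.nd (.nd (.lf 65358) (.lf 0)) (.nd (.lf 0) (.lf 0))) (.nd (.nd (.lf 13518) (.lf 0)) (.nd (.lf 86414) (.lf 0)))) (.nd (.nd (.nd (.lf 71694) (.lf 0)) (.nd (.lf 0) (.lf 0))) (.nd (.nd (.lf 0) (.lf 0)) (.nd (.lf 0) (.lf 0))))) (.nd (.nd (.nd (.nd (.lf 0) (.lf 0)) (.nd (.lf 0) (.lf 0)))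 (.nd (.nd (.lf 92111) (.lf 0)) (.nd (.lf 21647) (.lf 0)))) (.nd (.nd (.nd (.lf 0) (.lf 0)) (.nd (.lf 0) (.lf 0))) (.nd (.nd (.lf 0) (.lf 0)) (.nd (.lf 0) (.lf 0))))))) (.nd (.nd (.nd (.nd (.nd (.nd (.lf 90190) (.lf 0)) (.nd (.lf 0) (.lf 0))) (.nd (.nd (.lf 0) (.lf 0)) (.nd (.lf 0) (.lf 0)))) (.nd (.nd (.nd (.lf 0) (.lf 0)) (.nd (.lf 0) (.lf 0))) (.nd (.nd (.lf 0) (.lf 0)) (.nd (.lf 0) (.lf 0))))) (.nd (.nd (.nd (.nd (.lf 0) (.lf 0)) (.nd (.lf 0) (.lf 0))) (.nd (.nd (.lf 0) (.lf 0)) (.nd (.lf 0) (.lf 0)))) (.nd (.nd (.nd (.lf 0) (.lf 0)) (.nd (.lf 0) (.lf 0))) (.nd (.nd (.lf 0) (.lf 0)) (.nd (.lf 0) (.lf 0)))))) (.nd (.nd (.nd (.nd (.nd (.lf 0) (.lf 0)) (.nd (.lf 46222) (.lf 0))) (.nd (.nd (.lf 0) (.lf 0)) (.nd (.lf 0) (.lf 0)))) (.nd (.nd (.nd (.lf 0) (.lf 0)) (.nd (.lf 0) (.lf 0))) (.nd (.nd (.lf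 0) (.lf 0)) (.nd (.lf 52559) (.lf 0))))) (.nd (.nd (.nd (.nd (.lf 0) (.lf 0)) (.nd (.lf 0) (.lf 0))) (.nd (.nd (.lf 0) (.lf 0)) (.nd (.lf 79758) (.lf 0)))) (.nd (.nd (.nd (.lf 0) (.lf 0)) (.nd (.lf 0) (.lf 0))) (.nd (.nd (.lf 0) (.lf 0)) (.nd (.lf 0) (.lf 0)))))))) (.nd (.nd (.nd (.nd (.nd (.nd (.nd (.lf 0) (.lf 0)) (.nd (.lf 0) (.lf 0))) (.nd (.nd (.lf 0) (.lf 0)) (.nd (.lf 0) (.lf 0)))) (.nd (.nd (.nd (.lf 0) (.lf 0)) (.nd (.lf 0) (.lf 0))) (.nd (.nd (.lf 0) (.lf 0)) (.nd (.lf 46670) (.lf 0))))) (.nd (.nd (.nd (.nd (.lf 0) (.lf 0)) (.nd (.lf 0) (.lf 0))) (.nd (.nd (.lf 0) (.lf 0)) (.nd (.lf 0) (.lf 0)))) (.nd (.nd (.nd (.lf 0) (.lf 0)) (.nd (.lf 0) (.lf 0))) (.nd (.nd (.lf 14) (.lf 0)) (.nd (.lf 0) (.lf 0)))))) (.nd (.nd (.nd (.nd (.nd (.lf 0) (.lf 0)) (.nd (.lf 0) (.lf 0))) (.nd (.nd (.lf 111054)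 (.lf 0)) (.nd (.lf 0) (.lf 0)))) (.nd (.nd (.nd (.lf 0) (.lf 0)) (.nd (.lf 0) (.lf 0))) (.nd (.nd (.lf 0) (.lf 0)) (.nd (.lf 0) (.lf 0))))) (.nd (.nd (.nd (.nd (.lf 0) (.lf 0)) (.nd (.lf 91727) (.lf 0))) (.nd (.nd (.lf 0) (.lf 0)) (.nd (.lf 0) (.lf 0)))) (.nd (.nd (.nd (.lf 0) (.lf 0)) (.nd (.lf 0) (.lf 0))) (.nd (.nd (.lf 0) (.lf 0)) (.nd (.lf 0) (.lf 0))))))) (.nd (.nd (.nd (.nd (.nd (.nd (.lf 0) (.lf 0)) (.nd (.lf 62158) (.lf 0))) (.nd (.nd (.lf 0) (.lf 0)) (.nd (.lf 0) (.lf 0)))) (.nd (.nd (.nd (.lf 0) (.lf 0)) (.nd (.lf 0) (.lf 0))) (.nd (.nd (.lf 0) (.lf 0)) (.nd (.lf 0) (.lf 0))))) (.nd (.nd (.nd (.nd (.lf 0) (.lf 0)) (.nd (.lf 51279) (.lf 0))) (.nd (.nd (.lf 0) (.lf 0)) (.nd (.lf 0) (.lf 0)))) (.nd (.nd (.nd (.lf 0) (.lf 0)) (.nd (.lf 0) (.lf 0))) (.nd (.nd (.lf 0) (.lf 0)) (.nd (.lf 0) (.lf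 0)))))) (.nd (.nd (.nd (.nd (.nd (.lf 0) (.lf 0)) (.nd (.lf 0) (.lf 0))) (.nd (.nd (.lf 0) (.lf 0)) (.nd (.lf 0) (.lf 0)))) (.nd (.nd (.nd (.lf 0) (.lf 0)) (.nd (.lf 0) (.lf 0))) (.nd (.nd (.lf 0) (.lf 0)) (.nd (.lf 0) (.lf 0))))) (.nd (.nd (.nd (.nd (.lf 0) (.lf 0)) (.nd (.lf 0) (.lf 0))) (.nd (.nd (.lf 0) (.lf 0)) (.nd (.lf 0) (.lf 0)))) (.nd (.nd (.nd (.lf 0) (.lf 0)) (.nd (.lf 0) (.lf 0))) (.nd (.nd (.lf 0) (.lf 0)) (.nd (.lf 0) (.lf 0))))))))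

/-- table part -/
def xT2_16 : Tr :=
  .nd (.nd (.nd (.nd (.nd (.nd (.nd (.nd (.lf 0) (.lf 0)) (.nd (.lf 0) (.lf 0))) (.nd (.nd (.lf 0) (.lf 0)) (.nd (.lf 0) (.lf 0)))) (.nd (.nd (.nd (.lf 0) (.lf 0)) (.nd (.lf 0) (.lf 0))) (.nd (.nd (.lf 0) (.lf 0)) (.nd (.lf 0) (.lf 0))))) (.nd (.nd (.nd (.nd (.lf 0) (.lf 0)) (.nd (.lf 78351) (.lf 0))) (.nd (.nd (.lf 0) (.lf 0)) (.nd (.lf 0) (.lf 0)))) (.nd (.nd (.nd (.lf 0) (.lf 0)) (.nd (.lf 0) (.lf 0))) (.nd (.nd (.lf 0) (.lf 0)) (.nd (.lf 0) (.lf 0)))))) (.nd (.nd (.nd (.nd (.nd (.lf 0) (.lf 0)) (.nd (.lf 0) (.lf 0))) (.nd (.nd (.lf 0) (.lf 0)) (.nd (.lf 0) (.lf 0)))) (.nd (.nd (.nd (.lf 111503) (.lf 0)) (.nd (.lf 0) (.lf 0))) (.nd (.nd (.lf 68110) (.lf 0)) (.nd (.lf 0) (.lf 0))))) (.nd (.nd (.nd (.nd (.lf 0) (.lf 0)) (.nd (.lf 0) (.lf 0))) (.nd (.nd (.lf 0)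 (.lf 0)) (.nd (.lf 0) (.lf 0)))) (.nd (.nd (.nd (.lf 0) (.lf 0)) (.nd (.lf 0) (.lf 0))) (.nd (.nd (.lf 0) (.lf 0)) (.nd (.lf 0) (.lf 0))))))) (.nd (.nd (.nd (.nd (.nd (.nd (.lf 0) (.lf 0)) (.nd (.lf 0) (.lf 0))) (.nd (.nd (.lf 24911) (.lf 0)) (.nd (.lf 69071) (.lf 0)))) (.nd (.nd (.nd (.lf 0) (.lf 0)) (.nd (.lf 80206) (.lf 0))) (.nd (.nd (.lf 0) (.lf 0)) (.nd (.lf 0) (.lf 0))))) (.nd (.nd (.nd (.nd (.lf 0) (.lf 0)) (.nd (.lf 0) (.lf 0))) (.nd (.nd (.lf 0) (.lf 0)) (.nd (.lf 0) (.lf 0)))) (.nd (.nd (.nd (.lf 0) (.lf 0)) (.nd (.lf 0) (.lf 0))) (.nd (.nd (.lf 0) (.lf 0)) (.nd (.lf 0) (.lf 0)))))) (.nd (.nd (.nd (.nd (.nd (.lf 0) (.lf 0)) (.nd (.lf 0) (.lf 0))) (.nd (.nd (.lf 21199) (.lf 0)) (.nd (.lf 0) (.lf 0)))) (.nd (.nd (.nd (.lf 0) (.lf 0)) (.nd (.lf 0) (.lf 0))) (.nd (.nd (.lf 0) (.lf 0)) (.nd (.lf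 66191) (.lf 0))))) (.nd (.nd (.nd (.nd (.lf 0) (.lf 0)) (.nd (.lf 40846) (.lf 0))) (.nd (.nd (.lf 0) (.lf 0)) (.nd (.lf 0) (.lf 0)))) (.nd (.nd (.nd (.lf 0) (.lf 0)) (.nd (.lf 0) (.lf 0))) (.nd (.nd (.lf 44431) (.lf 0)) (.nd (.lf 0) (.lf 0)))))))) (.nd (.nd (.nd (.nd (.nd (.nd (.nd (.lf 30862) (.lf 0)) (.nd (.lf 0) (.lf 0))) (.nd (.nd (.lf 0) (.lf 0)) (.nd (.lf 0) (.lf 0)))) (.nd (.nd (.nd (.lf 0) (.lf 0)) (.nd (.lf 101966) (.lf 0))) (.nd (.nd (.lf 0) (.lf 0)) (.nd (.lf 0) (.lf 0))))) (.nd (.nd (.nd (.nd (.lf 0) (.lf 0)) (.nd (.lf 46095) (.lf 0))) (.nd (.nd (.lf 0) (.lf 0)) (.nd (.lf 26831) (.lf 0)))) (.nd (.nd (.nd (.lf 0) (.lf 0)) (.nd (.lf 111118) (.lf 0))) (.nd (.nd (.lf 0) (.lf 0)) (.nd (.lf 0) (.lf 0)))))) (.nd (.nd (.nd (.nd (.nd (.lf 0) (.lf 0)) (.nd (.lf 0) (.lf 0))) (.nd (.nd (.lf 67919)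 (.lf 0)) (.nd (.lf 0) (.lf 0)))) (.nd (.nd (.nd (.lf 102030) (.lf 0)) (.nd (.lf 0) (.lf 0))) (.nd (.nd (.lf 0) (.lf 0)) (.nd (.lf 0) (.lf 0))))) (.nd (.nd (.nd (.nd (.lf 0) (.lf 0)) (.nd (.lf 0) (.lf 0))) (.nd (.nd (.lf 0) (.lf 0)) (.nd (.lf 0) (.lf 0)))) (.nd (.nd (.nd (.lf 0) (.lf 0)) (.nd (.lf 0) (.lf 0))) (.nd (.nd (.lf 0) (.lf 0)) (.nd (.lf 0) (.lf 0))))))) (.nd (.nd (.nd (.nd (.nd (.nd (.lf 7503) (.lf 0)) (.nd (.lf 0) (.lf 0))) (.nd (.nd (.lf 0) (.lf 0)) (.nd (.lf 0) (.lf 0)))) (.nd (.nd (.nd (.lf 0) (.lf 0)) (.nd (.lf 0) (.lf 0))) (.nd (.nd (.lf 0) (.lf 0)) (.nd (.lf 0) (.lf 0))))) (.nd (.nd (.nd (.nd (.lf 0) (.lf 0)) (.nd (.lf 0) (.lf 0))) (.nd (.nd (.lf 0) (.lf 0)) (.nd (.lf 0) (.lf 0)))) (.nd (.nd (.nd (.lf 0) (.lf 0)) (.nd (.lf 0) (.lf 0))) (.nd (.nd (.lf 0) (.lf 0)) (.nd (.lf 0) (.lf 0))))))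 (.nd (.nd (.nd (.nd (.nd (.lf 0) (.lf 0)) (.nd (.lf 0) (.lf 0))) (.nd (.nd (.lf 0) (.lf 0)) (.nd (.lf 0) (.lf 0)))) (.nd (.nd (.nd (.lf 0) (.lf 0)) (.nd (.lf 0) (.lf 0))) (.nd (.nd (.lf 0) (.lf 0)) (.nd (.lf 106638) (.lf 0))))) (.nd (.nd (.nd (.nd (.lf 0) (.lf 0)) (.nd (.lf 0) (.lf 0))) (.nd (.nd (.lf 0) (.lf 0)) (.nd (.lf 0) (.lf 0)))) (.nd (.nd (.nd (.lf 11087) (.lf 0)) (.nd (.lf 0) (.lf 0))) (.nd (.nd (.lf 113486) (.lf 0)) (.nd (.lf 0) (.lf 0))))))))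

/-- table -/
def xT2 : Tr :=
  .nd (.nd (.nd (.nd xT2_1 xT2_2) (.nd xT2_3 xT2_4)) (.nd (.nd xT2_5 xT2_6) (.nd xT2_7 xT2_8))) (.nd (.nd (.nd xT2_9 xT2_10) (.nd xT2_11 xT2_12)) (.nd (.nd xT2_13 xT2_14) (.nd xT2_15 xT2_16)))

/-- the factorisation -/
noncomputable def chainX : Chain :=
  ⟨8, 342, 395, xT0, xT1, xT2, [[], [(15, true)], [(16, true)], [(17, true)]]⟩

/-- table part -/
def tT0_1 : Tr :=
  .nd (.nd (.nd (.nd (.nd (.nd (.nd (.nd (.lf 66) (.lf 122631)) (.nd (.lf 41668) (.lf 0))) (.nd (.nd (.lf 20356) (.lf 0)) (.nd (.lf 75207) (.lf 0)))) (.nd (.nd (.nd (.lf 10439) (.lf 0)) (.nd (.lf 54727) (.lf 0))) (.nd (.nd (.lf 29828) (.lf 0)) (.nd (.lf 89860) (.lf 0))))) (.nd (.nd (.nd (.nd (.lf 4740) (.lf 0)) (.nd (.lf 48516) (.lf 0))) (.nd (.nd (.lf 25542) (.lf 0)) (.nd (.lf 79175) (.lf 0)))) (.nd (.nd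 (.nd (.lf 16261) (.lf 0)) (.nd (.lf 62342) (.lf 0))) (.nd (.nd (.lf 35781) (.lf 0)) (.nd (.lf 102085) (.lf 0)))))) (.nd (.nd (.nd (.nd (.nd (.lf 2181) (.lf 0)) (.nd (.lf 44869) (.lf 0))) (.nd (.nd (.lf 23174) (.lf 0)) (.nd (.lf 75590) (.lf 0)))) (.nd (.nd (.nd (.lf 13191) (.lf 0)) (.nd (.lf 57988) (.lf 0))) (.nd (.nd (.lf 32005) (.lf 0)) (.nd (.lf 107271) (.lf 0))))) (.nd (.nd (.nd (.nd (.lf 7684) (.lf 0)) (.nd (.lf 51589) (.lf 0))) (.nd (.nd (.lf 27590) (.lf 0)) (.nd (.lf 83396) (.lf 0)))) (.nd (.nd (.nd (.lf 18310) (.lf 0)) (.nd (.lf 88071) (.lf 0))) (.nd (.nd (.lf 38724) (.lf 0)) (.nd (.lf 108551) (.lf 0))))))) (.nd (.nd (.nd (.nd (.nd (.nd (.lf 1030) (.lf 0)) (.nd (.lf 43270) (.lf 0))) (.nd (.nd (.lf 21763) (.lf 0)) (.nd (.lf 74118) (.lf 0)))) (.nd (.nd (.nd (.lf 11783) (.lf 0)) (.nd (.lf 56898)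 (.lf 0))) (.nd (.nd (.lf 30855) (.lf 0)) (.nd (.lf 106563) (.lf 0))))) (.nd (.nd (.nd (.nd (.lf 5959) (.lf 0)) (.nd (.lf 50181) (.lf 0))) (.nd (.nd (.lf 26627) (.lf 0)) (.nd (.lf 80964) (.lf 0)))) (.nd (.nd (.nd (.lf 17412) (.lf 0)) (.nd (.lf 65223) (.lf 0))) (.nd (.nd (.lf 37443) (.lf 0)) (.nd (.lf 104899) (.lf 0)))))) (.nd (.nd (.nd (.nd (.nd (.lf 3396) (.lf 0)) (.nd (.lf 46981) (.lf 0))) (.nd (.nd (.lf 24132) (.lf 0)) (.nd (.lf 77316) (.lf 0)))) (.nd (.nd (.nd (.lf 14854) (.lf 0)) (.nd (.lf 60291) (.lf 0))) (.nd (.nd (.lf 33671) (.lf 0)) (.nd (.lf 99267) (.lf 0))))) (.nd (.nd (.nd (.nd (.lf 9221) (.lf 0)) (.nd (.lf 53380) (.lf 0))) (.nd (.nd (.lf 28933) (.lf 0)) (.nd (.lf 86725) (.lf 0)))) (.nd (.nd (.nd (.lf 19522) (.lf 0)) (.nd (.lf 68995) (.lf 0))) (.nd (.nd (.lf 39941) (.lf 0)) (.nd (.lf 114114)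 (.lf 0)))))))) (.nd (.nd (.nd (.nd (.nd (.nd (.nd (.lf 517) (.lf 0)) (.nd (.lf 60295) (.lf 0))) (.nd (.nd (.lf 20807) (.lf 0)) (.nd (.lf 72838) (.lf 0)))) (.nd (.nd (.nd (.lf 11397) (.lf 0)) (.nd (.lf 55621) (.lf 0))) (.nd (.nd (.lf 30340) (.lf 0)) (.nd (.lf 90947) (.lf 0))))) (.nd (.nd (.nd (.nd (.lf 5506) (.lf 0)) (.nd (.lf 49157) (.lf 0))) (.nd (.nd (.lf 26116) (.lf 0)) (.nd (.lf 80130) (.lf 0)))) (.nd (.nd (.nd (.lf 17030) (.lf 0)) (.nd (.lf 63686) (.lf 0))) (.nd (.nd (.lf 36550) (.lf 0)) (.nd (.lf 103174) (.lf 0)))))) (.nd (.nd (.nd (.nd (.nd (.lf 2884) (.lf 0)) (.nd (.lf 45958) (.lf 0))) (.nd (.nd (.lf 23685) (.lf 0)) (.nd (.lf 76166) (.lf 0)))) (.nd (.nd (.nd (.lf 13767) (.lf 0)) (.nd (.lf 59267) (.lf 0))) (.nd (.nd (.lf 32582) (.lf 0)) (.nd (.lf 98501) (.lf 0))))) (.nd (.nd (.nd (.nd (.lf 8388)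 (.lf 0)) (.nd (.lf 52676) (.lf 0))) (.nd (.nd (.lf 28295) (.lf 0)) (.nd (.lf 85508) (.lf 0)))) (.nd (.nd (.nd (.lf 19011) (.lf 0)) (.nd (.lf 89093) (.lf 0))) (.nd (.nd (.lf 39237) (.lf 0)) (.nd (.lf 111045) (.lf 0))))))) (.nd (.nd (.nd (.nd (.nd (.nd (.lf 1606) (.lf 0)) (.nd (.lf 44039) (.lf 0))) (.nd (.nd (.lf 22535) (.lf 0)) (.nd (.lf 74886) (.lf 0)))) (.nd (.nd (.nd (.lf 12612) (.lf 0)) (.nd (.lf 57477) (.lf 0))) (.nd (.nd (.lf 31429) (.lf 0)) (.nd (.lf 96707) (.lf 0))))) (.nd (.nd (.nd (.nd (.lf 6917) (.lf 0)) (.nd (.lf 50882) (.lf 0))) (.nd (.nd (.lf 35266) (.lf 0)) (.nd (.lf 82310) (.lf 0)))) (.nd (.nd (.nd (.lf 17796) (.lf 0)) (.nd (.lf 66051) (.lf 0))) (.nd (.nd (.lf 37830) (.lf 0)) (.nd (.lf 106756) (.lf 0)))))) (.nd (.nd (.nd (.nd (.nd (.lf 4036) (.lf 0)) (.nd (.lf 47813) (.lf 0))) (.nd (.nd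 (.lf 25028) (.lf 0)) (.nd (.lf 78530) (.lf 0)))) (.nd (.nd (.nd (.lf 15492) (.lf 0)) (.nd (.lf 61572) (.lf 0))) (.nd (.nd (.lf 35204) (.lf 0)) (.nd (.lf 100485) (.lf 0))))) (.nd (.nd (.nd (.nd (.lf 9923) (.lf 0)) (.nd (.lf 53895) (.lf 0))) (.nd (.nd (.lf 29316) (.lf 0)) (.nd (.lf 88006) (.lf 0)))) (.nd (.nd (.nd (.lf 19911) (.lf 0)) (.nd (.lf 81991) (.lf 0))) (.nd (.nd (.lf 40902) (.lf 0)) (.nd (.lf 118022) (.lf 0))))))))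

/-- table part -/
def tT0_2 : Tr :=
  .nd (.nd (.nd (.nd (.nd (.nd (.nd (.nd (.lf 260) (.lf 126919)) (.nd (.lf 42180) (.lf 0))) (.nd (.nd (.lf 20615) (.lf 0)) (.nd (.lf 72388) (.lf 0)))) (.nd (.nd (.nd (.lf 11140) (.lf 0)) (.nd (.lf 55367) (.lf 0))) (.nd (.nd (.lf 30082) (.lf 0)) (.nd (.lf 90436) (.lf 0))))) (.nd (.nd (.nd (.nd (.lf 4996) (.lf 0)) (.nd (.lf 48839) (.lf 0))) (.nd (.nd (.lf 25860) (.lf 0)) (.nd (.lf 79623) (.lf 0)))) (.nd (.nd (.nd (.lf 16901) (.lf 0)) (.nd (.lf 62724) (.lf 0))) (.nd (.nd (.lf 36036) (.lf 0)) (.nd (.lf 102534) (.lf 0)))))) (.nd (.nd (.nd (.nd (.nd (.lf 2691) (.lf 0)) (.nd (.lf 45382) (.lf 0))) (.nd (.nd (.lf 23367) (.lf 0)) (.nd (.lf 75908) (.lf 0)))) (.nd (.nd (.nd (.lf 13380) (.lf 0)) (.nd (.lf 58691) (.lf 0))) (.nd (.nd (.lf 32198) (.lf 0)) (.nd (.lf 111751) (.lf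 0))))) (.nd (.nd (.nd (.nd (.lf 8004) (.lf 0)) (.nd (.lf 52228) (.lf 0))) (.nd (.nd (.lf 27974) (.lf 0)) (.nd (.lf 84293) (.lf 0)))) (.nd (.nd (.nd (.lf 18755) (.lf 0)) (.nd (.lf 67075) (.lf 0))) (.nd (.nd (.lf 38919) (.lf 0)) (.nd (.lf 109830) (.lf 0))))))) (.nd (.nd (.nd (.nd (.nd (.nd (.lf 1412) (.lf 0)) (.nd (.lf 43526) (.lf 0))) (.nd (.nd (.lf 22277) (.lf 0)) (.nd (.lf 74503) (.lf 0)))) (.nd (.nd (.nd (.lf 12102) (.lf 0)) (.nd (.lf 57219) (.lf 0))) (.nd (.nd (.lf 31172) (.lf 0)) (.nd (.lf 94019) (.lf 0))))) (.nd (.nd (.nd (.nd (.lf 6276) (.lf 0)) (.nd (.lf 50439) (.lf 0))) (.nd (.nd (.lf 26948) (.lf 0)) (.nd (.lf 81669) (.lf 0)))) (.nd (.nd (.nd (.lf 17665) (.lf 0)) (.nd (.lf 65670) (.lf 0))) (.nd (.nd (.lf 37573) (.lf 0)) (.nd (.lf 105604) (.lf 0)))))) (.nd (.nd (.nd (.nd (.nd (.lf 3716) (.lf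 0)) (.nd (.lf 47426) (.lf 0))) (.nd (.nd (.lf 24583) (.lf 0)) (.nd (.lf 78019) (.lf 0)))) (.nd (.nd (.nd (.lf 15300) (.lf 0)) (.nd (.lf 61253) (.lf 0))) (.nd (.nd (.lf 34245) (.lf 0)) (.nd (.lf 99718) (.lf 0))))) (.nd (.nd (.nd (.nd (.lf 9604) (.lf 0)) (.nd (.lf 53827) (.lf 0))) (.nd (.nd (.lf 29123) (.lf 0)) (.nd (.lf 87237) (.lf 0)))) (.nd (.nd (.nd (.lf 19717) (.lf 0)) (.nd (.lf 69507) (.lf 0))) (.nd (.nd (.lf 44295) (.lf 0)) (.nd (.lf 126788) (.lf 0)))))))) (.nd (.nd (.nd (.nd (.nd (.nd (.nd (.lf 772) (.lf 0)) (.nd (.lf 54980) (.lf 0))) (.nd (.nd (.lf 21061) (.lf 0)) (.nd (.lf 73477) (.lf 0)))) (.nd (.nd (.nd (.lf 11527) (.lf 0)) (.nd (.lf 56325) (.lf 0))) (.nd (.nd (.lf 30724) (.lf 0)) (.nd (.lf 111621) (.lf 0))))) (.nd (.nd (.nd (.nd (.lf 5766) (.lf 0)) (.nd (.lf 49796) (.lf 0))) (.nd (.nd (.lf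 33670) (.lf 0)) (.nd (.lf 80455) (.lf 0)))) (.nd (.nd (.nd (.lf 17283) (.lf 0)) (.nd (.lf 65604) (.lf 0))) (.nd (.nd (.lf 36868) (.lf 0)) (.nd (.lf 103942) (.lf 0)))))) (.nd (.nd (.nd (.nd (.nd (.lf 3143) (.lf 0)) (.nd (.lf 46405) (.lf 0))) (.nd (.nd (.lf 23879) (.lf 0)) (.nd (.lf 76740) (.lf 0)))) (.nd (.nd (.nd (.lf 14531) (.lf 0)) (.nd (.lf 59843) (.lf 0))) (.nd (.nd (.lf 33029) (.lf 0)) (.nd (.lf 98758) (.lf 0))))) (.nd (.nd (.nd (.nd (.lf 8711) (.lf 0)) (.nd (.lf 53189) (.lf 0))) (.nd (.nd (.lf 28550) (.lf 0)) (.nd (.lf 86084) (.lf 0)))) (.nd (.nd (.nd (.lf 19334) (.lf 0)) (.nd (.lf 83715) (.lf 0))) (.nd (.nd (.lf 39557) (.lf 0)) (.nd (.lf 112451) (.lf 0))))))) (.nd (.nd (.nd (.nd (.nd (.nd (.lf 1863) (.lf 0)) (.nd (.lf 48454) (.lf 0))) (.nd (.nd (.lf 23045) (.lf 0)) (.nd (.lf 75399) (.lf 0))))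 (.nd (.nd (.nd (.lf 12868) (.lf 0)) (.nd (.lf 57793) (.lf 0))) (.nd (.nd (.lf 31685) (.lf 0)) (.nd (.lf 97030) (.lf 0))))) (.nd (.nd (.nd (.nd (.lf 7236) (.lf 0)) (.nd (.lf 51139) (.lf 0))) (.nd (.nd (.lf 27396) (.lf 0)) (.nd (.lf 82884) (.lf 0)))) (.nd (.nd (.nd (.lf 17990) (.lf 0)) (.nd (.lf 89861) (.lf 0))) (.nd (.nd (.lf 38339) (.lf 0)) (.nd (.lf 107713) (.lf 0)))))) (.nd (.nd (.nd (.nd (.nd (.lf 4486) (.lf 0)) (.nd (.lf 48068) (.lf 0))) (.nd (.nd (.lf 33479) (.lf 0)) (.nd (.lf 78855) (.lf 0)))) (.nd (.nd (.nd (.lf 15748) (.lf 0)) (.nd (.lf 61831) (.lf 0))) (.nd (.nd (.lf 35462) (.lf 0)) (.nd (.lf 100935) (.lf 0))))) (.nd (.nd (.nd (.nd (.lf 10055) (.lf 0)) (.nd (.lf 54276) (.lf 0))) (.nd (.nd (.lf 29572) (.lf 0)) (.nd (.lf 88834) (.lf 0)))) (.nd (.nd (.nd (.lf 20103) (.lf 0)) (.nd (.lf 71047)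 (.lf 0))) (.nd (.nd (.lf 60546) (.lf 0)) (.nd (.lf 119940) (.lf 0))))))))

/-- table part -/
def tT0_3 : Tr :=
  .nd (.nd (.nd (.nd (.nd (.nd (.nd (.nd (.lf 71) (.lf 123846)) (.nd (.lf 41924) (.lf 0))) (.nd (.nd (.lf 20548) (.lf 0)) (.nd (.lf 72199) (.lf 0)))) (.nd (.nd (.nd (.lf 10951) (.lf 0)) (.nd (.lf 55235) (.lf 0))) (.nd (.nd (.lf 29895) (.lf 0)) (.nd (.lf 90052) (.lf 0))))) (.nd (.nd (.nd (.nd (.lf 4869) (.lf 0)) (.nd (.lf 48647) (.lf 0))) (.nd (.nd (.lf 25732) (.lf 0)) (.nd (.lf 79557) (.lf 0)))) (.nd (.nd (.nd (.lf 16388) (.lf 0)) (.nd (.lf 62407) (.lf 0))) (.nd (.nd (.lf 35909) (.lf 0)) (.nd (.lf 102342) (.lf 0)))))) (.nd (.nd (.nd (.nd (.nd (.lf 2372) (.lf 0)) (.nd (.lf 45189) (.lf 0))) (.nd (.nd (.lf 23300) (.lf 0)) (.nd (.lf 75718) (.lf 0)))) (.nd (.nd (.nd (.lf 13315) (.lf 0)) (.nd (.lf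 58244) (.lf 0))) (.nd (.nd (.lf 32071) (.lf 0)) (.nd (.lf 115330) (.lf 0))))) (.nd (.nd (.nd (.nd (.lf 7878) (.lf 0)) (.nd (.lf 51972) (.lf 0))) (.nd (.nd (.lf 27845) (.lf 0)) (.nd (.lf 83778) (.lf 0)))) (.nd (.nd (.nd (.lf 18500) (.lf 0)) (.nd (.lf 66756) (.lf 0))) (.nd (.nd (.lf 38853) (.lf 0)) (.nd (.lf 108866) (.lf 0))))))) (.nd (.nd (.nd (.nd (.nd (.nd (.lf 1219) (.lf 0)) (.nd (.lf 43397) (.lf 0))) (.nd (.nd (.lf 22018) (.lf 0)) (.nd (.lf 74374) (.lf 0)))) (.nd (.nd (.nd (.lf 11975) (.lf 0)) (.nd (.lf 57029) (.lf 0))) (.nd (.nd (.lf 31045) (.lf 0)) (.nd (.lf 104962) (.lf 0))))) (.nd (.nd (.nd (.nd (.lf 6149) (.lf 0)) (.nd (.lf 50372) (.lf 0))) (.nd (.nd (.lf 26756) (.lf 0)) (.nd (.lf 81415) (.lf 0)))) (.nd (.nd (.nd (.lf 17542) (.lf 0)) (.nd (.lf 87238) (.lf 0))) (.nd (.nd (.lf 37509) (.lf 0))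 (.nd (.lf 105346) (.lf 0)))))) (.nd (.nd (.nd (.nd (.nd (.lf 3527) (.lf 0)) (.nd (.lf 47046) (.lf 0))) (.nd (.nd (.lf 24261) (.lf 0)) (.nd (.lf 77510) (.lf 0)))) (.nd (.nd (.nd (.lf 14980) (.lf 0)) (.nd (.lf 60805) (.lf 0))) (.nd (.nd (.lf 33925) (.lf 0)) (.nd (.lf 99526) (.lf 0))))) (.nd (.nd (.nd (.nd (.lf 9539) (.lf 0)) (.nd (.lf 53571) (.lf 0))) (.nd (.nd (.lf 28999) (.lf 0)) (.nd (.lf 87042) (.lf 0)))) (.nd (.nd (.nd (.lf 19591) (.lf 0)) (.nd (.lf 69191) (.lf 0))) (.nd (.nd (.lf 40132) (.lf 0)) (.nd (.lf 114881) (.lf 0)))))))) (.nd (.nd (.nd (.nd (.nd (.nd (.nd (.lf 581) (.lf 0)) (.nd (.lf 60293) (.lf 0))) (.nd (.nd (.lf 20995) (.lf 0)) (.nd (.lf 73030) (.lf 0)))) (.nd (.nd (.nd (.lf 11522) (.lf 0)) (.nd (.lf 56067) (.lf 0))) (.nd (.nd (.lf 30532) (.lf 0)) (.nd (.lf 101698) (.lf 0))))) (.nd (.nd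 (.nd (.nd (.lf 5698) (.lf 0)) (.nd (.lf 49475) (.lf 0))) (.nd (.nd (.lf 30019) (.lf 0)) (.nd (.lf 80389) (.lf 0)))) (.nd (.nd (.nd (.lf 17158) (.lf 0)) (.nd (.lf 74566) (.lf 0))) (.nd (.nd (.lf 36615) (.lf 0)) (.nd (.lf 103683) (.lf 0)))))) (.nd (.nd (.nd (.nd (.nd (.lf 3015) (.lf 0)) (.nd (.lf 59586) (.lf 0))) (.nd (.nd (.lf 23812) (.lf 0)) (.nd (.lf 76548) (.lf 0)))) (.nd (.nd (.nd (.lf 13956) (.lf 0)) (.nd (.lf 59397) (.lf 0))) (.nd (.nd (.lf 32836) (.lf 0)) (.nd (.lf 98630) (.lf 0))))) (.nd (.nd (.nd (.nd (.lf 8580) (.lf 0)) (.nd (.lf 52933) (.lf 0))) (.nd (.nd (.lf 28422) (.lf 0)) (.nd (.lf 85636) (.lf 0)))) (.nd (.nd (.nd (.lf 19203) (.lf 0)) (.nd (.lf 67974) (.lf 0))) (.nd (.nd (.lf 39303) (.lf 0)) (.nd (.lf 112131) (.lf 0))))))) (.nd (.nd (.nd (.nd (.nd (.nd (.lf 1796) (.lf 0)) (.nd (.lf 56071)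 (.lf 0))) (.nd (.nd (.lf 22661) (.lf 0)) (.nd (.lf 75014) (.lf 0)))) (.nd (.nd (.nd (.lf 12740) (.lf 0)) (.nd (.lf 57542) (.lf 0))) (.nd (.nd (.lf 31494) (.lf 0)) (.nd (.lf 100099) (.lf 0))))) (.nd (.nd (.nd (.nd (.lf 7171) (.lf 0)) (.nd (.lf 50950) (.lf 0))) (.nd (.nd (.lf 29446) (.lf 0)) (.nd (.lf 82501) (.lf 0)))) (.nd (.nd (.nd (.lf 17863) (.lf 0)) (.nd (.lf 66181) (.lf 0))) (.nd (.nd (.lf 38086) (.lf 0)) (.nd (.lf 107267) (.lf 0)))))) (.nd (.nd (.nd (.nd (.nd (.lf 4228) (.lf 0)) (.nd (.lf 47879) (.lf 0))) (.nd (.nd (.lf 25095) (.lf 0)) (.nd (.lf 78722) (.lf 0)))) (.nd (.nd (.nd (.lf 15619) (.lf 0)) (.nd (.lf 61700) (.lf 0))) (.nd (.nd (.lf 35335) (.lf 0)) (.nd (.lf 100551) (.lf 0))))) (.nd (.nd (.nd (.nd (.lf 9988) (.lf 0)) (.nd (.lf 54086) (.lf 0))) (.nd (.nd (.lf 29382) (.lf 0)) (.nd (.lf 88515)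 (.lf 0)))) (.nd (.nd (.nd (.lf 20034) (.lf 0)) (.nd (.lf 70791) (.lf 0))) (.nd (.nd (.lf 44998) (.lf 0)) (.nd (.lf 119235) (.lf 0))))))))

/-- table part -/
def tT0_4 : Tr :=
  .nd (.nd (.nd (.nd (.nd (.nd (.nd (.nd (.lf 387) (.lf 0)) (.nd (.lf 62151) (.lf 0))) (.nd (.nd (.lf 20742) (.lf 0)) (.nd (.lf 72646) (.lf 0)))) (.nd (.nd (.nd (.lf 11207) (.lf 0)) (.nd (.lf 55491) (.lf 0))) (.nd (.nd (.lf 30150) (.lf 0)) (.nd (.lf 90690) (.lf 0))))) (.nd (.nd (.nd (.nd (.lf 5188) (.lf 0)) (.nd (.lf 49030) (.lf 0))) (.nd (.nd (.lf 25927) (.lf 0)) (.nd (.lf 79748) (.lf 0)))) (.nd (.nd (.nd (.lf 16965) (.lf 0)) (.nd (.lf 62917) (.lf 0))) (.nd (.nd (.lf 36165) (.lf 0)) (.nd (.lf 102980) (.lf 0)))))) (.nd (.nd (.nd (.nd (.nd (.lf 2756) (.lf 0)) (.nd (.lf 56263) (.lf 0))) (.nd (.nd (.lf 23557) (.lf 0)) (.nd (.lf 76098)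 (.lf 0)))) (.nd (.nd (.nd (.lf 13571) (.lf 0)) (.nd (.lf 58885) (.lf 0))) (.nd (.nd (.lf 32454) (.lf 0)) (.nd (.lf 98374) (.lf 0))))) (.nd (.nd (.nd (.nd (.lf 8195) (.lf 0)) (.nd (.lf 52422) (.lf 0))) (.nd (.nd (.lf 28103) (.lf 0)) (.nd (.lf 84741) (.lf 0)))) (.nd (.nd (.nd (.lf 18883) (.lf 0)) (.nd (.lf 86534) (.lf 0))) (.nd (.nd (.lf 39045) (.lf 0)) (.nd (.lf 110274) (.lf 0))))))) (.nd (.nd (.nd (.nd (.nd (.nd (.lf 1541) (.lf 0)) (.nd (.lf 43847) (.lf 0))) (.nd (.nd (.lf 22404) (.lf 0)) (.nd (.lf 74695) (.lf 0)))) (.nd (.nd (.nd (.lf 12420) (.lf 0)) (.nd (.lf 57284) (.lf 0))) (.nd (.nd (.lf 31303) (.lf 0)) (.nd (.lf 94338) (.lf 0))))) (.nd (.nd (.nd (.nd (.lf 6598) (.lf 0)) (.nd (.lf 50693) (.lf 0))) (.nd (.nd (.lf 33027) (.lf 0)) (.nd (.lf 81860) (.lf 0)))) (.nd (.nd (.nd (.lf 17671) (.lf 0)) (.nd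 (.lf 85127) (.lf 0))) (.nd (.nd (.lf 37765) (.lf 0)) (.nd (.lf 105990) (.lf 0)))))) (.nd (.nd (.nd (.nd (.nd (.lf 3907) (.lf 0)) (.nd (.lf 47620) (.lf 0))) (.nd (.nd (.lf 24771) (.lf 0)) (.nd (.lf 78148) (.lf 0)))) (.nd (.nd (.nd (.lf 15367) (.lf 0)) (.nd (.lf 61443) (.lf 0))) (.nd (.nd (.lf 34500) (.lf 0)) (.nd (.lf 100163) (.lf 0))))) (.nd (.nd (.nd (.nd (.lf 9671) (.lf 0)) (.nd (.lf 53890) (.lf 0))) (.nd (.nd (.lf 29188) (.lf 0)) (.nd (.lf 87431) (.lf 0)))) (.nd (.nd (.nd (.lf 19781) (.lf 0)) (.nd (.lf 77892) (.lf 0))) (.nd (.nd (.lf 40709) (.lf 0)) (.nd (.lf 120518) (.lf 0)))))))) (.nd (.nd (.nd (.nd (.nd (.nd (.nd (.lf 962) (.lf 0)) (.nd (.lf 43140) (.lf 0))) (.nd (.nd (.lf 21250) (.lf 0)) (.nd (.lf 73860) (.lf 0)))) (.nd (.nd (.nd (.lf 11655) (.lf 0)) (.nd (.lf 56580) (.lf 0))) (.nd (.nd (.lf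 30789) (.lf 0)) (.nd (.lf 112260) (.lf 0))))) (.nd (.nd (.nd (.nd (.lf 5893) (.lf 0)) (.nd (.lf 50052) (.lf 0))) (.nd (.nd (.lf 26438) (.lf 0)) (.nd (.lf 80644) (.lf 0)))) (.nd (.nd (.nd (.lf 17348) (.lf 0)) (.nd (.lf 65155) (.lf 0))) (.nd (.nd (.lf 37254) (.lf 0)) (.nd (.lf 104390) (.lf 0)))))) (.nd (.nd (.nd (.nd (.nd (.lf 3331) (.lf 0)) (.nd (.lf 46789) (.lf 0))) (.nd (.nd (.lf 24005) (.lf 0)) (.nd (.lf 76998) (.lf 0)))) (.nd (.nd (.nd (.lf 14788) (.lf 0)) (.nd (.lf 60035) (.lf 0))) (.nd (.nd (.lf 33476) (.lf 0)) (.nd (.lf 99014) (.lf 0))))) (.nd (.nd (.nd (.nd (.lf 9031) (.lf 0)) (.nd (.lf 53316) (.lf 0))) (.nd (.nd (.lf 34242) (.lf 0)) (.nd (.lf 86339) (.lf 0)))) (.nd (.nd (.nd (.lf 19399) (.lf 0)) (.nd (.lf 68483) (.lf 0))) (.nd (.nd (.lf 39751) (.lf 0)) (.nd (.lf 113223) (.lf 0))))))) (.nd (.nd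 (.nd (.nd (.nd (.nd (.lf 2052) (.lf 0)) (.nd (.lf 44547) (.lf 0))) (.nd (.nd (.lf 23109) (.lf 0)) (.nd (.lf 75525) (.lf 0)))) (.nd (.nd (.nd (.lf 12995) (.lf 0)) (.nd (.lf 57862) (.lf 0))) (.nd (.nd (.lf 31813) (.lf 0)) (.nd (.lf 99974) (.lf 0))))) (.nd (.nd (.nd (.nd (.lf 7558) (.lf 0)) (.nd (.lf 51333) (.lf 0))) (.nd (.nd (.lf 27463) (.lf 0)) (.nd (.lf 83143) (.lf 0)))) (.nd (.nd (.nd (.lf 18180) (.lf 0)) (.nd (.lf 66438) (.lf 0))) (.nd (.nd (.lf 38594) (.lf 0)) (.nd (.lf 107972) (.lf 0)))))) (.nd (.nd (.nd (.nd (.nd (.lf 4614) (.lf 0)) (.nd (.lf 48196) (.lf 0))) (.nd (.nd (.lf 25412) (.lf 0)) (.nd (.lf 79045) (.lf 0)))) (.nd (.nd (.nd (.lf 15941) (.lf 0)) (.nd (.lf 62147) (.lf 0))) (.nd (.nd (.lf 35589) (.lf 0)) (.nd (.lf 101826) (.lf 0))))) (.nd (.nd (.nd (.nd (.lf 10244) (.lf 0)) (.nd (.lf 54594)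 (.lf 0))) (.nd (.nd (.lf 29639) (.lf 0)) (.nd (.lf 89159) (.lf 0)))) (.nd (.nd (.nd (.lf 20291) (.lf 0)) (.nd (.lf 84482) (.lf 0))) (.nd (.nd (.lf 41475) (.lf 0)) (.nd (.lf 121602) (.lf 0))))))))

/-- table part -/
def tT0_5 : Tr :=
  .nd (.nd (.nd (.nd (.nd (.nd (.nd (.nd (.lf 7) (.lf 123076)) (.nd (.lf 41796) (.lf 0))) (.nd (.nd (.lf 20420) (.lf 0)) (.nd (.lf 72068) (.lf 0)))) (.nd (.nd (.nd (.lf 10947) (.lf 0)) (.nd (.lf 54919) (.lf 0))) (.nd (.nd (.lf 29893) (.lf 0)) (.nd (.lf 89987) (.lf 0))))) (.nd (.nd (.nd (.nd (.lf 4806) (.lf 0)) (.nd (.lf 48643) (.lf 0))) (.nd (.nd (.lf 25604) (.lf 0)) (.nd (.lf 79553) (.lf 0)))) (.nd (.nd (.nd (.lf 16263) (.lf 0)) (.nd (.lf 62404) (.lf 0))) (.nd (.nd (.lf 35844) (.lf 0)) (.nd (.lf 102277) (.lf 0)))))) (.nd (.nd (.nd (.nd (.nd (.lf 2309) (.lf 0)) (.nd (.lf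 45124) (.lf 0))) (.nd (.nd (.lf 23236) (.lf 0)) (.nd (.lf 75714) (.lf 0)))) (.nd (.nd (.nd (.lf 13252) (.lf 0)) (.nd (.lf 58116) (.lf 0))) (.nd (.nd (.lf 32069) (.lf 0)) (.nd (.lf 96643) (.lf 0))))) (.nd (.nd (.nd (.nd (.lf 7750) (.lf 0)) (.nd (.lf 51782) (.lf 0))) (.nd (.nd (.lf 27716) (.lf 0)) (.nd (.lf 83589) (.lf 0)))) (.nd (.nd (.nd (.lf 18375) (.lf 0)) (.nd (.lf 66627) (.lf 0))) (.nd (.nd (.lf 38849) (.lf 0)) (.nd (.lf 108738) (.lf 0))))))) (.nd (.nd (.nd (.nd (.nd (.nd (.lf 1156) (.lf 0)) (.nd (.lf 59589) (.lf 0))) (.nd (.nd (.lf 21827) (.lf 0)) (.nd (.lf 74370) (.lf 0)))) (.nd (.nd (.nd (.lf 11907) (.lf 0)) (.nd (.lf 57026) (.lf 0))) (.nd (.nd (.lf 30980) (.lf 0)) (.nd (.lf 93383) (.lf 0))))) (.nd (.nd (.nd (.nd (.lf 6086) (.lf 0)) (.nd (.lf 50183) (.lf 0))) (.nd (.nd (.lf 26631) (.lf 0)) (.nd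 (.lf 81092) (.lf 0)))) (.nd (.nd (.nd (.lf 17415) (.lf 0)) (.nd (.lf 85702) (.lf 0))) (.nd (.nd (.lf 37447) (.lf 0)) (.nd (.lf 105219) (.lf 0)))))) (.nd (.nd (.nd (.nd (.nd (.lf 3462) (.lf 0)) (.nd (.lf 55047) (.lf 0))) (.nd (.nd (.lf 24258) (.lf 0)) (.nd (.lf 77383) (.lf 0)))) (.nd (.nd (.nd (.lf 14916) (.lf 0)) (.nd (.lf 60483) (.lf 0))) (.nd (.nd (.lf 33796) (.lf 0)) (.nd (.lf 99522) (.lf 0))))) (.nd (.nd (.nd (.nd (.lf 9412) (.lf 0)) (.nd (.lf 53383) (.lf 0))) (.nd (.nd (.lf 28935) (.lf 0)) (.nd (.lf 86853) (.lf 0)))) (.nd (.nd (.nd (.lf 19525) (.lf 0)) (.nd (.lf 79751) (.lf 0))) (.nd (.nd (.lf 40004) (.lf 0)) (.nd (.lf 114181) (.lf 0)))))))) (.nd (.nd (.nd (.nd (.nd (.nd (.nd (.lf 578) (.lf 0)) (.nd (.lf 42691) (.lf 0))) (.nd (.nd (.lf 20932) (.lf 0)) (.nd (.lf 72966) (.lf 0)))) (.nd (.nd (.nd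 (.lf 11399) (.lf 0)) (.nd (.lf 55751) (.lf 0))) (.nd (.nd (.lf 30343) (.lf 0)) (.nd (.lf 93126) (.lf 0))))) (.nd (.nd (.nd (.nd (.lf 5511) (.lf 0)) (.nd (.lf 49159) (.lf 0))) (.nd (.nd (.lf 30023) (.lf 0)) (.nd (.lf 80135) (.lf 0)))) (.nd (.nd (.nd (.lf 17095) (.lf 0)) (.nd (.lf 63747) (.lf 0))) (.nd (.nd (.lf 36612) (.lf 0)) (.nd (.lf 103366) (.lf 0)))))) (.nd (.nd (.nd (.nd (.nd (.lf 2950) (.lf 0)) (.nd (.lf 50500) (.lf 0))) (.nd (.nd (.lf 23748) (.lf 0)) (.nd (.lf 76358) (.lf 0)))) (.nd (.nd (.nd (.lf 13890) (.lf 0)) (.nd (.lf 59394) (.lf 0))) (.nd (.nd (.lf 32774) (.lf 0)) (.nd (.lf 98503) (.lf 0))))) (.nd (.nd (.nd (.nd (.lf 8391) (.lf 0)) (.nd (.lf 52867) (.lf 0))) (.nd (.nd (.lf 28358) (.lf 0)) (.nd (.lf 85574) (.lf 0)))) (.nd (.nd (.nd (.lf 19075) (.lf 0)) (.nd (.lf 67971) (.lf 0))) (.nd (.nd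 (.lf 39239) (.lf 0)) (.nd (.lf 111687) (.lf 0))))))) (.nd (.nd (.nd (.nd (.nd (.nd (.lf 1732) (.lf 0)) (.nd (.lf 44102) (.lf 0))) (.nd (.nd (.lf 22598) (.lf 0)) (.nd (.lf 75010) (.lf 0)))) (.nd (.nd (.nd (.lf 12677) (.lf 0)) (.nd (.lf 57540) (.lf 0))) (.nd (.nd (.lf 31431) (.lf 0)) (.nd (.lf 112709) (.lf 0))))) (.nd (.nd (.nd (.nd (.lf 7108) (.lf 0)) (.nd (.lf 50887) (.lf 0))) (.nd (.nd (.lf 27206) (.lf 0)) (.nd (.lf 82375) (.lf 0)))) (.nd (.nd (.nd (.lf 17799) (.lf 0)) (.nd (.lf 66118) (.lf 0))) (.nd (.nd (.lf 38019) (.lf 0)) (.nd (.lf 106951) (.lf 0)))))) (.nd (.nd (.nd (.nd (.nd (.lf 4103) (.lf 0)) (.nd (.lf 47877) (.lf 0))) (.nd (.nd (.lf 33159) (.lf 0)) (.nd (.lf 78534) (.lf 0)))) (.nd (.nd (.nd (.lf 15556) (.lf 0)) (.nd (.lf 61637) (.lf 0))) (.nd (.nd (.lf 35271) (.lf 0)) (.nd (.lf 100548) (.lf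 0))))) (.nd (.nd (.nd (.nd (.lf 9926) (.lf 0)) (.nd (.lf 53959) (.lf 0))) (.nd (.nd (.lf 29379) (.lf 0)) (.nd (.lf 88261) (.lf 0)))) (.nd (.nd (.nd (.lf 19973) (.lf 0)) (.nd (.lf 91011) (.lf 0))) (.nd (.nd (.lf 44995) (.lf 0)) (.nd (.lf 121478) (.lf 0))))))))

/-- table part -/
def tT0_6 : Tr :=
  .nd (.nd (.nd (.nd (.nd (.nd (.nd (.nd (.lf 325) (.lf 0)) (.nd (.lf 42308) (.lf 0))) (.nd (.nd (.lf 20738) (.lf 0)) (.nd (.lf 72583) (.lf 0)))) (.nd (.nd (.nd (.lf 11205) (.lf 0)) (.nd (.lf 55429) (.lf 0))) (.nd (.nd (.lf 30086) (.lf 0)) (.nd (.lf 90627) (.lf 0))))) (.nd (.nd (.nd (.nd (.lf 5125) (.lf 0)) (.nd (.lf 49027) (.lf 0))) (.nd (.nd (.lf 38149) (.lf 0)) (.nd (.lf 79686) (.lf 0)))) (.nd (.nd (.nd (.lf 16903) (.lf 0)) (.nd (.lf 62851) (.lf 0))) (.nd (.nd (.lf 36162) (.lf 0)) (.nd (.lf 102660) (.lf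 0)))))) (.nd (.nd (.nd (.nd (.nd (.lf 2694) (.lf 0)) (.nd (.lf 45506) (.lf 0))) (.nd (.nd (.lf 23492) (.lf 0)) (.nd (.lf 76035) (.lf 0)))) (.nd (.nd (.nd (.lf 13446) (.lf 0)) (.nd (.lf 58820) (.lf 0))) (.nd (.nd (.lf 32451) (.lf 0)) (.nd (.lf 97735) (.lf 0))))) (.nd (.nd (.nd (.nd (.lf 8068) (.lf 0)) (.nd (.lf 52358) (.lf 0))) (.nd (.nd (.lf 35269) (.lf 0)) (.nd (.lf 84676) (.lf 0)))) (.nd (.nd (.nd (.lf 18759) (.lf 0)) (.nd (.lf 88900) (.lf 0))) (.nd (.nd (.lf 39041) (.lf 0)) (.nd (.lf 110087) (.lf 0))))))) (.nd (.nd (.nd (.nd (.nd (.nd (.lf 1476) (.lf 0)) (.nd (.lf 43716) (.lf 0))) (.nd (.nd (.lf 22279) (.lf 0)) (.nd (.lf 74693) (.lf 0)))) (.nd (.nd (.nd (.lf 12228) (.lf 0)) (.nd (.lf 57222) (.lf 0))) (.nd (.nd (.lf 31174) (.lf 0)) (.nd (.lf 94082) (.lf 0))))) (.nd (.nd (.nd (.nd (.lf 6404) (.lf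 0)) (.nd (.lf 50631) (.lf 0))) (.nd (.nd (.lf 33030) (.lf 0)) (.nd (.lf 81734) (.lf 0)))) (.nd (.nd (.nd (.lf 17669) (.lf 0)) (.nd (.lf 65795) (.lf 0))) (.nd (.nd (.lf 37700) (.lf 0)) (.nd (.lf 105862) (.lf 0)))))) (.nd (.nd (.nd (.nd (.nd (.lf 3783) (.lf 0)) (.nd (.lf 47429) (.lf 0))) (.nd (.nd (.lf 24708) (.lf 0)) (.nd (.lf 78083) (.lf 0)))) (.nd (.nd (.nd (.lf 15365) (.lf 0)) (.nd (.lf 61316) (.lf 0))) (.nd (.nd (.lf 34372) (.lf 0)) (.nd (.lf 99970) (.lf 0))))) (.nd (.nd (.nd (.nd (.lf 9607) (.lf 0)) (.nd (.lf 53830) (.lf 0))) (.nd (.nd (.lf 29126) (.lf 0)) (.nd (.lf 87427) (.lf 0)))) (.nd (.nd (.nd (.lf 19778) (.lf 0)) (.nd (.lf 69958) (.lf 0))) (.nd (.nd (.lf 45121) (.lf 0)) (.nd (.lf 125121) (.lf 0)))))))) (.nd (.nd (.nd (.nd (.nd (.nd (.nd (.lf 774) (.lf 0)) (.nd (.lf 54790) (.lf 0))) (.nd (.nd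 (.lf 21124) (.lf 0)) (.nd (.lf 73731) (.lf 0)))) (.nd (.nd (.nd (.lf 11590) (.lf 0)) (.nd (.lf 56388) (.lf 0))) (.nd (.nd (.lf 30727) (.lf 0)) (.nd (.lf 111622) (.lf 0))))) (.nd (.nd (.nd (.nd (.lf 5828) (.lf 0)) (.nd (.lf 49924) (.lf 0))) (.nd (.nd (.lf 39109) (.lf 0)) (.nd (.lf 80582) (.lf 0)))) (.nd (.nd (.nd (.lf 17286) (.lf 0)) (.nd (.lf 64710) (.lf 0))) (.nd (.nd (.lf 36997) (.lf 0)) (.nd (.lf 104134) (.lf 0)))))) (.nd (.nd (.nd (.nd (.nd (.lf 3268) (.lf 0)) (.nd (.lf 46471) (.lf 0))) (.nd (.nd (.lf 23942) (.lf 0)) (.nd (.lf 76932) (.lf 0)))) (.nd (.nd (.nd (.lf 14535) (.lf 0)) (.nd (.lf 59846) (.lf 0))) (.nd (.nd (.lf 33092) (.lf 0)) (.nd (.lf 98886) (.lf 0))))) (.nd (.nd (.nd (.nd (.lf 9027) (.lf 0)) (.nd (.lf 53252) (.lf 0))) (.nd (.nd (.lf 35268) (.lf 0)) (.nd (.lf 86211) (.lf 0)))) (.nd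 (.nd (.nd (.lf 19395) (.lf 0)) (.nd (.lf 78404) (.lf 0))) (.nd (.nd (.lf 39620) (.lf 0)) (.nd (.lf 112581) (.lf 0))))))) (.nd (.nd (.nd (.nd (.nd (.nd (.lf 1926) (.lf 0)) (.nd (.lf 44485) (.lf 0))) (.nd (.nd (.lf 23047) (.lf 0)) (.nd (.lf 75462) (.lf 0)))) (.nd (.nd (.nd (.lf 12933) (.lf 0)) (.nd (.lf 57797) (.lf 0))) (.nd (.nd (.lf 31748) (.lf 0)) (.nd (.lf 107398) (.lf 0))))) (.nd (.nd (.nd (.nd (.lf 7364) (.lf 0)) (.nd (.lf 51143) (.lf 0))) (.nd (.nd (.lf 27460) (.lf 0)) (.nd (.lf 82951) (.lf 0)))) (.nd (.nd (.nd (.lf 18052) (.lf 0)) (.nd (.lf 66503) (.lf 0))) (.nd (.nd (.lf 38467) (.lf 0)) (.nd (.lf 107719) (.lf 0)))))) (.nd (.nd (.nd (.nd (.nd (.lf 4548) (.lf 0)) (.nd (.lf 48133) (.lf 0))) (.nd (.nd (.lf 33415) (.lf 0)) (.nd (.lf 78978) (.lf 0)))) (.nd (.nd (.nd (.lf 15813) (.lf 0)) (.nd (.lf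 61958) (.lf 0))) (.nd (.nd (.lf 35525) (.lf 0)) (.nd (.lf 101252) (.lf 0))))) (.nd (.nd (.nd (.nd (.lf 10118) (.lf 0)) (.nd (.lf 54531) (.lf 0))) (.nd (.nd (.lf 29635) (.lf 0)) (.nd (.lf 88838) (.lf 0)))) (.nd (.nd (.nd (.lf 20226) (.lf 0)) (.nd (.lf 71236) (.lf 0))) (.nd (.nd (.lf 41284) (.lf 0)) (.nd (.lf 120774) (.lf 0))))))))

/-- table part -/
def tT0_7 : Tr :=
  .nd (.nd (.nd (.nd (.nd (.nd (.nd (.nd (.lf 196) (.lf 125254)) (.nd (.lf 42052) (.lf 0))) (.nd (.nd (.lf 20613) (.lf 0)) (.nd (.lf 72262) (.lf 0)))) (.nd (.nd (.nd (.lf 11077) (.lf 0)) (.nd (.lf 55300) (.lf 0))) (.nd (.nd (.lf 30021) (.lf 0)) (.nd (.lf 90180) (.lf 0))))) (.nd (.nd (.nd (.nd (.lf 4934) (.lf 0)) (.nd (.lf 48772) (.lf 0))) (.nd (.nd (.lf 25797) (.lf 0)) (.nd (.lf 79621) (.lf 0)))) (.nd (.nd (.nd (.lf 16706) (.lf 0)) (.nd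 (.lf 62471) (.lf 0))) (.nd (.nd (.lf 35972) (.lf 0)) (.nd (.lf 102467) (.lf 0)))))) (.nd (.nd (.nd (.nd (.nd (.lf 2628) (.lf 0)) (.nd (.lf 60420) (.lf 0))) (.nd (.nd (.lf 23363) (.lf 0)) (.nd (.lf 75783) (.lf 0)))) (.nd (.nd (.nd (.lf 13318) (.lf 0)) (.nd (.lf 58438) (.lf 0))) (.nd (.nd (.lf 32135) (.lf 0)) (.nd (.lf 110788) (.lf 0))))) (.nd (.nd (.nd (.nd (.lf 7940) (.lf 0)) (.nd (.lf 52103) (.lf 0))) (.nd (.nd (.lf 27908) (.lf 0)) (.nd (.lf 84228) (.lf 0)))) (.nd (.nd (.nd (.lf 18628) (.lf 0)) (.nd (.lf 66946) (.lf 0))) (.nd (.nd (.lf 38917) (.lf 0)) (.nd (.lf 109510) (.lf 0))))))) (.nd (.nd (.nd (.nd (.nd (.nd (.lf 1222) (.lf 0)) (.nd (.lf 43460) (.lf 0))) (.nd (.nd (.lf 22023) (.lf 0)) (.nd (.lf 74438) (.lf 0)))) (.nd (.nd (.nd (.lf 12039) (.lf 0)) (.nd (.lf 57157) (.lf 0))) (.nd (.nd (.lf 31108)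 (.lf 0)) (.nd (.lf 93766) (.lf 0))))) (.nd (.nd (.nd (.nd (.lf 6214) (.lf 0)) (.nd (.lf 50437) (.lf 0))) (.nd (.nd (.lf 26884) (.lf 0)) (.nd (.lf 81541) (.lf 0)))) (.nd (.nd (.nd (.lf 17606) (.lf 0)) (.nd (.lf 87235) (.lf 0))) (.nd (.nd (.lf 37570) (.lf 0)) (.nd (.lf 105478) (.lf 0)))))) (.nd (.nd (.nd (.nd (.nd (.lf 3654) (.lf 0)) (.nd (.lf 47175) (.lf 0))) (.nd (.nd (.lf 24580) (.lf 0)) (.nd (.lf 77764) (.lf 0)))) (.nd (.nd (.nd (.lf 15044) (.lf 0)) (.nd (.lf 60995) (.lf 0))) (.nd (.nd (.lf 34052) (.lf 0)) (.nd (.lf 99591) (.lf 0))))) (.nd (.nd (.nd (.nd (.lf 9543) (.lf 0)) (.nd (.lf 53575) (.lf 0))) (.nd (.nd (.lf 29061) (.lf 0)) (.nd (.lf 87172) (.lf 0)))) (.nd (.nd (.nd (.lf 19654) (.lf 0)) (.nd (.lf 69380) (.lf 0))) (.nd (.nd (.lf 40260) (.lf 0)) (.nd (.lf 115525) (.lf 0)))))))) (.nd (.nd (.nd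 (.nd (.nd (.nd (.nd (.lf 646) (.lf 0)) (.nd (.lf 42883) (.lf 0))) (.nd (.nd (.lf 20999) (.lf 0)) (.nd (.lf 73092) (.lf 0)))) (.nd (.nd (.nd (.lf 11525) (.lf 0)) (.nd (.lf 56070) (.lf 0))) (.nd (.nd (.lf 30534) (.lf 0)) (.nd (.lf 91906) (.lf 0))))) (.nd (.nd (.nd (.nd (.lf 5763) (.lf 0)) (.nd (.lf 49478) (.lf 0))) (.nd (.nd (.lf 26308) (.lf 0)) (.nd (.lf 80391) (.lf 0)))) (.nd (.nd (.nd (.lf 17222) (.lf 0)) (.nd (.lf 64132) (.lf 0))) (.nd (.nd (.lf 36742) (.lf 0)) (.nd (.lf 103814) (.lf 0)))))) (.nd (.nd (.nd (.nd (.nd (.lf 3139) (.lf 0)) (.nd (.lf 46402) (.lf 0))) (.nd (.nd (.lf 23815) (.lf 0)) (.nd (.lf 76675) (.lf 0)))) (.nd (.nd (.nd (.lf 14340) (.lf 0)) (.nd (.lf 59780) (.lf 0))) (.nd (.nd (.lf 32901) (.lf 0)) (.nd (.lf 98695) (.lf 0))))) (.nd (.nd (.nd (.nd (.lf 8707) (.lf 0)) (.nd (.lf 52996)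 (.lf 0))) (.nd (.nd (.lf 28485) (.lf 0)) (.nd (.lf 85830) (.lf 0)))) (.nd (.nd (.nd (.lf 19331) (.lf 0)) (.nd (.lf 68100) (.lf 0))) (.nd (.nd (.lf 39428) (.lf 0)) (.nd (.lf 112258) (.lf 0))))))) (.nd (.nd (.nd (.nd (.nd (.nd (.lf 1861) (.lf 0)) (.nd (.lf 44228) (.lf 0))) (.nd (.nd (.lf 22789) (.lf 0)) (.nd (.lf 75331) (.lf 0)))) (.nd (.nd (.nd (.lf 12805) (.lf 0)) (.nd (.lf 57731) (.lf 0))) (.nd (.nd (.lf 31620) (.lf 0)) (.nd (.lf 100481) (.lf 0))))) (.nd (.nd (.nd (.nd (.lf 7174) (.lf 0)) (.nd (.lf 51015) (.lf 0))) (.nd (.nd (.lf 34054) (.lf 0)) (.nd (.lf 82566) (.lf 0)))) (.nd (.nd (.nd (.lf 17926) (.lf 0)) (.nd (.lf 73795) (.lf 0))) (.nd (.nd (.lf 38212) (.lf 0)) (.nd (.lf 107399) (.lf 0)))))) (.nd (.nd (.nd (.nd (.nd (.lf 4483) (.lf 0)) (.nd (.lf 47943) (.lf 0))) (.nd (.nd (.lf 36548) (.lf 0))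 (.nd (.lf 78851) (.lf 0)))) (.nd (.nd (.nd (.lf 15623) (.lf 0)) (.nd (.lf 61767) (.lf 0))) (.nd (.nd (.lf 35399) (.lf 0)) (.nd (.lf 100929) (.lf 0))))) (.nd (.nd (.nd (.nd (.lf 9991) (.lf 0)) (.nd (.lf 54151) (.lf 0))) (.nd (.nd (.lf 29445) (.lf 0)) (.nd (.lf 88519) (.lf 0)))) (.nd (.nd (.nd (.lf 20037) (.lf 0)) (.nd (.lf 89157) (.lf 0))) (.nd (.nd (.lf 41157) (.lf 0)) (.nd (.lf 119814) (.lf 0))))))))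

/-- table part -/
def tT0_8 : Tr :=
  .nd (.nd (.nd (.nd (.nd (.nd (.nd (.nd (.lf 390) (.lf 0)) (.nd (.lf 42436) (.lf 0))) (.nd (.nd (.lf 20804) (.lf 0)) (.nd (.lf 72711) (.lf 0)))) (.nd (.nd (.nd (.lf 11332) (.lf 0)) (.nd (.lf 55494) (.lf 0))) (.nd (.nd (.lf 30215) (.lf 0)) (.nd (.lf 90756) (.lf 0))))) (.nd (.nd (.nd (.nd (.lf 5382) (.lf 0)) (.nd (.lf 49092) (.lf 0))) (.nd (.nd (.lf 26054) (.lf 0)) (.nd (.lf 79875) (.lf 0)))) (.nd (.nd (.nd (.lf 16967) (.lf 0)) (.nd (.lf 63364) (.lf 0))) (.nd (.nd (.lf 36359) (.lf 0)) (.nd (.lf 103169) (.lf 0)))))) (.nd (.nd (.nd (.nd (.nd (.lf 2822) (.lf 0)) (.nd (.lf 45764) (.lf 0))) (.nd (.nd (.lf 23620) (.lf 0)) (.nd (.lf 76102) (.lf 0)))) (.nd (.nd (.nd (.lf 13698) (.lf 0)) (.nd (.lf 58949) (.lf 0))) (.nd (.nd (.lf 32516) (.lf 0)) (.nd (.lf 115587) (.lf 0)))))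 (.nd (.nd (.nd (.nd (.lf 8324) (.lf 0)) (.nd (.lf 52611) (.lf 0))) (.nd (.nd (.lf 28228) (.lf 0)) (.nd (.lf 85126) (.lf 0)))) (.nd (.nd (.nd (.lf 18886) (.lf 0)) (.nd (.lf 76164) (.lf 0))) (.nd (.nd (.lf 39172) (.lf 0)) (.nd (.lf 110661) (.lf 0))))))) (.nd (.nd (.nd (.nd (.nd (.nd (.lf 1543) (.lf 0)) (.nd (.lf 43972) (.lf 0))) (.nd (.nd (.lf 22471) (.lf 0)) (.nd (.lf 74759) (.lf 0)))) (.nd (.nd (.nd (.lf 12484) (.lf 0)) (.nd (.lf 57287) (.lf 0))) (.nd (.nd (.lf 31364) (.lf 0)) (.nd (.lf 94722) (.lf 0))))) (.nd (.nd (.nd (.nd (.lf 6914) (.lf 0)) (.nd (.lf 50756) (.lf 0))) (.nd (.nd (.lf 33923) (.lf 0)) (.nd (.lf 82114) (.lf 0)))) (.nd (.nd (.nd (.lf 17734) (.lf 0)) (.nd (.lf 79491) (.lf 0))) (.nd (.nd (.lf 37828) (.lf 0)) (.nd (.lf 106183) (.lf 0)))))) (.nd (.nd (.nd (.nd (.nd (.lf 3911) (.lf 0)) (.nd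 (.lf 47809) (.lf 0))) (.nd (.nd (.lf 24775) (.lf 0)) (.nd (.lf 78339) (.lf 0)))) (.nd (.nd (.nd (.lf 15430) (.lf 0)) (.nd (.lf 61446) (.lf 0))) (.nd (.nd (.lf 34948) (.lf 0)) (.nd (.lf 100294) (.lf 0))))) (.nd (.nd (.nd (.nd (.lf 9798) (.lf 0)) (.nd (.lf 53893) (.lf 0))) (.nd (.nd (.lf 29191) (.lf 0)) (.nd (.lf 87623) (.lf 0)))) (.nd (.nd (.nd (.lf 19846) (.lf 0)) (.nd (.lf 85767) (.lf 0))) (.nd (.nd (.lf 40835) (.lf 0)) (.nd (.lf 123717) (.lf 0)))))))) (.nd (.nd (.nd (.nd (.nd (.nd (.nd (.lf 965) (.lf 0)) (.nd (.lf 43207) (.lf 0))) (.nd (.nd (.lf 21381) (.lf 0)) (.nd (.lf 74051) (.lf 0)))) (.nd (.nd (.nd (.lf 11779) (.lf 0)) (.nd (.lf 56708) (.lf 0))) (.nd (.nd (.lf 30791) (.lf 0)) (.nd (.lf 93570) (.lf 0))))) (.nd (.nd (.nd (.nd (.lf 5895) (.lf 0)) (.nd (.lf 50119) (.lf 0))) (.nd (.nd (.lf 26564)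 (.lf 0)) (.nd (.lf 80647) (.lf 0)))) (.nd (.nd (.nd (.lf 17350) (.lf 0)) (.nd (.lf 87940) (.lf 0))) (.nd (.nd (.lf 37316) (.lf 0)) (.nd (.lf 104519) (.lf 0)))))) (.nd (.nd (.nd (.nd (.nd (.lf 3334) (.lf 0)) (.nd (.lf 46917) (.lf 0))) (.nd (.nd (.lf 24069) (.lf 0)) (.nd (.lf 77188) (.lf 0)))) (.nd (.nd (.nd (.lf 14791) (.lf 0)) (.nd (.lf 60101) (.lf 0))) (.nd (.nd (.lf 33540) (.lf 0)) (.nd (.lf 99142) (.lf 0))))) (.nd (.nd (.nd (.nd (.lf 9156) (.lf 0)) (.nd (.lf 53318) (.lf 0))) (.nd (.nd (.lf 28868) (.lf 0)) (.nd (.lf 86659) (.lf 0)))) (.nd (.nd (.nd (.lf 19461) (.lf 0)) (.nd (.lf 83207) (.lf 0))) (.nd (.nd (.lf 39879) (.lf 0)) (.nd (.lf 113729) (.lf 0))))))) (.nd (.nd (.nd (.nd (.nd (.nd (.lf 2118) (.lf 0)) (.nd (.lf 44740) (.lf 0))) (.nd (.nd (.lf 23111) (.lf 0)) (.nd (.lf 75587) (.lf 0)))) (.nd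 (.nd (.nd (.lf 13061) (.lf 0)) (.nd (.lf 57924) (.lf 0))) (.nd (.nd (.lf 32001) (.lf 0)) (.nd (.lf 106308) (.lf 0))))) (.nd (.nd (.nd (.nd (.lf 7622) (.lf 0)) (.nd (.lf 51524) (.lf 0))) (.nd (.nd (.lf 27527) (.lf 0)) (.nd (.lf 83205) (.lf 0)))) (.nd (.nd (.nd (.lf 18306) (.lf 0)) (.nd (.lf 66499) (.lf 0))) (.nd (.nd (.lf 38597) (.lf 0)) (.nd (.lf 108294) (.lf 0)))))) (.nd (.nd (.nd (.nd (.nd (.lf 4678) (.lf 0)) (.nd (.lf 48261) (.lf 0))) (.nd (.nd (.lf 25476) (.lf 0)) (.nd (.lf 79108) (.lf 0)))) (.nd (.nd (.nd (.lf 16131) (.lf 0)) (.nd (.lf 62212) (.lf 0))) (.nd (.nd (.lf 35716) (.lf 0)) (.nd (.lf 101956) (.lf 0))))) (.nd (.nd (.nd (.nd (.lf 10436) (.lf 0)) (.nd (.lf 54597) (.lf 0))) (.nd (.nd (.lf 29700) (.lf 0)) (.nd (.lf 89286) (.lf 0)))) (.nd (.nd (.nd (.lf 20294) (.lf 0)) (.nd (.lf 89478) (.lf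 0))) (.nd (.nd (.lf 41479) (.lf 0)) (.nd (.lf 122502) (.lf 0))))))))

/-- table part -/
def tT0_9 : Tr :=
  .nd (.nd (.nd (.nd (.nd (.nd (.nd (.nd (.lf 0) (.lf 122947)) (.nd (.lf 49669) (.lf 0))) (.nd (.nd (.lf 20418) (.lf 0)) (.nd (.lf 72004) (.lf 0)))) (.nd (.nd (.nd (.lf 10628) (.lf 0)) (.nd (.lf 54917) (.lf 0))) (.nd (.nd (.lf 29891) (.lf 0)) (.nd (.lf 89862) (.lf 0))))) (.nd (.nd (.nd (.nd (.lf 4743) (.lf 0)) (.nd (.lf 48580) (.lf 0))) (.nd (.nd (.lf 25543) (.lf 0)) (.nd (.lf 79364) (.lf 0)))) (.nd (.nd (.nd (.lf 16262) (.lf 0)) (.nd (.lf 62402) (.lf 0))) (.nd (.nd (.lf 35783) (.lf 0)) (.nd (.lf 102276) (.lf 0)))))) (.nd (.nd (.nd (.nd (.nd (.lf 2183) (.lf 0)) (.nd (.lf 53124) (.lf 0))) (.nd (.nd (.lf 23175) (.lf 0)) (.nd (.lf 75652) (.lf 0)))) (.nd (.nd (.nd (.lf 13249) (.lf 0)) (.nd (.lf 57989)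 (.lf 0))) (.nd (.nd (.lf 32067) (.lf 0)) (.nd (.lf 113477) (.lf 0))))) (.nd (.nd (.nd (.nd (.lf 7687) (.lf 0)) (.nd (.lf 51717) (.lf 0))) (.nd (.nd (.lf 29442) (.lf 0)) (.nd (.lf 83587) (.lf 0)))) (.nd (.nd (.nd (.lf 18311) (.lf 0)) (.nd (.lf 66566) (.lf 0))) (.nd (.nd (.lf 38725) (.lf 0)) (.nd (.lf 108614) (.lf 0))))))) (.nd (.nd (.nd (.nd (.nd (.nd (.lf 1153) (.lf 0)) (.nd (.lf 59590) (.lf 0))) (.nd (.nd (.lf 21766) (.lf 0)) (.nd (.lf 74180) (.lf 0)))) (.nd (.nd (.nd (.lf 11843) (.lf 0)) (.nd (.lf 56901) (.lf 0))) (.nd (.nd (.lf 30916) (.lf 0)) (.nd (.lf 105732) (.lf 0))))) (.nd (.nd (.nd (.nd (.lf 6023) (.lf 0)) (.nd (.lf 50182) (.lf 0))) (.nd (.nd (.lf 26630) (.lf 0)) (.nd (.lf 81028) (.lf 0)))) (.nd (.nd (.nd (.lf 17414) (.lf 0)) (.nd (.lf 85571) (.lf 0))) (.nd (.nd (.lf 37445) (.lf 0)) (.nd (.lf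 105090) (.lf 0)))))) (.nd (.nd (.nd (.nd (.nd (.lf 3460) (.lf 0)) (.nd (.lf 46983) (.lf 0))) (.nd (.nd (.lf 24133) (.lf 0)) (.nd (.lf 77318) (.lf 0)))) (.nd (.nd (.nd (.lf 14855) (.lf 0)) (.nd (.lf 60294) (.lf 0))) (.nd (.nd (.lf 33732) (.lf 0)) (.nd (.lf 99271) (.lf 0))))) (.nd (.nd (.nd (.nd (.lf 9284) (.lf 0)) (.nd (.lf 53382) (.lf 0))) (.nd (.nd (.lf 28934) (.lf 0)) (.nd (.lf 86851) (.lf 0)))) (.nd (.nd (.nd (.lf 19524) (.lf 0)) (.nd (.lf 69955) (.lf 0))) (.nd (.nd (.lf 39942) (.lf 0)) (.nd (.lf 114177) (.lf 0)))))))) (.nd (.nd (.nd (.nd (.nd (.nd (.nd (.lf 518) (.lf 0)) (.nd (.lf 42628) (.lf 0))) (.nd (.nd (.lf 20871) (.lf 0)) (.nd (.lf 72839) (.lf 0)))) (.nd (.nd (.nd (.lf 11398) (.lf 0)) (.nd (.lf 55623) (.lf 0))) (.nd (.nd (.lf 30341) (.lf 0)) (.nd (.lf 91014) (.lf 0))))) (.nd (.nd (.nd (.nd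 (.lf 5509) (.lf 0)) (.nd (.lf 49158) (.lf 0))) (.nd (.nd (.lf 26117) (.lf 0)) (.nd (.lf 80134) (.lf 0)))) (.nd (.nd (.nd (.lf 17031) (.lf 0)) (.nd (.lf 63623) (.lf 0))) (.nd (.nd (.lf 36551) (.lf 0)) (.nd (.lf 103238) (.lf 0)))))) (.nd (.nd (.nd (.nd (.nd (.lf 2887) (.lf 0)) (.nd (.lf 58694) (.lf 0))) (.nd (.nd (.lf 23686) (.lf 0)) (.nd (.lf 76294) (.lf 0)))) (.nd (.nd (.nd (.lf 13830) (.lf 0)) (.nd (.lf 59331) (.lf 0))) (.nd (.nd (.lf 32771) (.lf 0)) (.nd (.lf 98502) (.lf 0))))) (.nd (.nd (.nd (.nd (.lf 8389) (.lf 0)) (.nd (.lf 52804) (.lf 0))) (.nd (.nd (.lf 28355) (.lf 0)) (.nd (.lf 85573) (.lf 0)))) (.nd (.nd (.nd (.lf 19015) (.lf 0)) (.nd (.lf 67783) (.lf 0))) (.nd (.nd (.lf 39238) (.lf 0)) (.nd (.lf 111238) (.lf 0))))))) (.nd (.nd (.nd (.nd (.nd (.nd (.lf 1668) (.lf 0)) (.nd (.lf 48518) (.lf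 0))) (.nd (.nd (.lf 22596) (.lf 0)) (.nd (.lf 74948) (.lf 0)))) (.nd (.nd (.nd (.lf 12675) (.lf 0)) (.nd (.lf 57538) (.lf 0))) (.nd (.nd (.lf 31430) (.lf 0)) (.nd (.lf 94916) (.lf 0))))) (.nd (.nd (.nd (.nd (.lf 6919) (.lf 0)) (.nd (.lf 50885) (.lf 0))) (.nd (.nd (.lf 27205) (.lf 0)) (.nd (.lf 82370) (.lf 0)))) (.nd (.nd (.nd (.lf 17798) (.lf 0)) (.nd (.lf 66117) (.lf 0))) (.nd (.nd (.lf 37956) (.lf 0)) (.nd (.lf 106948) (.lf 0)))))) (.nd (.nd (.nd (.nd (.nd (.lf 4037) (.lf 0)) (.nd (.lf 47815) (.lf 0))) (.nd (.nd (.lf 33286) (.lf 0)) (.nd (.lf 78532) (.lf 0)))) (.nd (.nd (.nd (.lf 15495) (.lf 0)) (.nd (.lf 61635) (.lf 0))) (.nd (.nd (.lf 35270) (.lf 0)) (.nd (.lf 100487) (.lf 0))))) (.nd (.nd (.nd (.nd (.lf 9925) (.lf 0)) (.nd (.lf 53958) (.lf 0))) (.nd (.nd (.lf 29318) (.lf 0)) (.nd (.lf 88258) (.lf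 0)))) (.nd (.nd (.nd (.lf 19971) (.lf 0)) (.nd (.lf 79495) (.lf 0))) (.nd (.nd (.lf 49670) (.lf 0)) (.nd (.lf 123525) (.lf 0))))))))

/-- table part -/
def tT0_10 : Tr :=
  .nd (.nd (.nd (.nd (.nd (.nd (.nd (.nd (.lf 323) (.lf 128258)) (.nd (.lf 42244) (.lf 0))) (.nd (.nd (.lf 20676) (.lf 0)) (.nd (.lf 72580) (.lf 0)))) (.nd (.nd (.nd (.lf 15364) (.lf 0)) (.nd (.lf 55427) (.lf 0))) (.nd (.nd (.lf 30085) (.lf 0)) (.nd (.lf 90500) (.lf 0))))) (.nd (.nd (.nd (.nd (.lf 5060) (.lf 0)) (.nd (.lf 48964) (.lf 0))) (.nd (.nd (.lf 25922) (.lf 0)) (.nd (.lf 79684) (.lf 0)))) (.nd (.nd (.nd (.lf 16902) (.lf 0)) (.nd (.lf 62787) (.lf 0))) (.nd (.nd (.lf 36037) (.lf 0)) (.nd (.lf 102598) (.lf 0)))))) (.nd (.nd (.nd (.nd (.nd (.lf 2693) (.lf 0)) (.nd (.lf 46852) (.lf 0))) (.nd (.nd (.lf 23428) (.lf 0)) (.nd (.lf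 75910) (.lf 0)))) (.nd (.nd (.nd (.lf 13444) (.lf 0)) (.nd (.lf 58756) (.lf 0))) (.nd (.nd (.lf 32388) (.lf 0)) (.nd (.lf 106567) (.lf 0))))) (.nd (.nd (.nd (.nd (.lf 8006) (.lf 0)) (.nd (.lf 52230) (.lf 0))) (.nd (.nd (.lf 28036) (.lf 0)) (.nd (.lf 84673) (.lf 0)))) (.nd (.nd (.nd (.lf 18757) (.lf 0)) (.nd (.lf 89031) (.lf 0))) (.nd (.nd (.lf 38980) (.lf 0)) (.nd (.lf 110023) (.lf 0))))))) (.nd (.nd (.nd (.nd (.nd (.nd (.lf 1473) (.lf 0)) (.nd (.lf 43588) (.lf 0))) (.nd (.nd (.lf 22278) (.lf 0)) (.nd (.lf 74690) (.lf 0)))) (.nd (.nd (.nd (.lf 12164) (.lf 0)) (.nd (.lf 57221) (.lf 0))) (.nd (.nd (.lf 31173) (.lf 0)) (.nd (.lf 94022) (.lf 0))))) (.nd (.nd (.nd (.nd (.lf 6340) (.lf 0)) (.nd (.lf 50628) (.lf 0))) (.nd (.nd (.lf 26950) (.lf 0)) (.nd (.lf 81733) (.lf 0)))) (.nd (.nd (.nd (.lf 17730) (.lf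 0)) (.nd (.lf 81990) (.lf 0))) (.nd (.nd (.lf 37575) (.lf 0)) (.nd (.lf 105733) (.lf 0)))))) (.nd (.nd (.nd (.nd (.nd (.lf 3781) (.lf 0)) (.nd (.lf 47428) (.lf 0))) (.nd (.nd (.lf 24647) (.lf 0)) (.nd (.lf 78023) (.lf 0)))) (.nd (.nd (.nd (.lf 15362) (.lf 0)) (.nd (.lf 61255) (.lf 0))) (.nd (.nd (.lf 34310) (.lf 0)) (.nd (.lf 99907) (.lf 0))))) (.nd (.nd (.nd (.nd (.lf 9606) (.lf 0)) (.nd (.lf 53829) (.lf 0))) (.nd (.nd (.lf 29125) (.lf 0)) (.nd (.lf 87364) (.lf 0)))) (.nd (.nd (.nd (.lf 19718) (.lf 0)) (.nd (.lf 69509) (.lf 0))) (.nd (.nd (.lf 53510) (.lf 0)) (.nd (.lf 116359) (.lf 0)))))))) (.nd (.nd (.nd (.nd (.nd (.nd (.nd (.lf 773) (.lf 0)) (.nd (.lf 43012) (.lf 0))) (.nd (.nd (.lf 21062) (.lf 0)) (.nd (.lf 73668) (.lf 0)))) (.nd (.nd (.nd (.lf 11588) (.lf 0)) (.nd (.lf 56326) (.lf 0))) (.nd (.nd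 (.lf 30725) (.lf 0)) (.nd (.lf 111619) (.lf 0))))) (.nd (.nd (.nd (.nd (.lf 5767) (.lf 0)) (.nd (.lf 49860) (.lf 0))) (.nd (.nd (.lf 39111) (.lf 0)) (.nd (.lf 80519) (.lf 0)))) (.nd (.nd (.nd (.lf 17285) (.lf 0)) (.nd (.lf 64386) (.lf 0))) (.nd (.nd (.lf 36995) (.lf 0)) (.nd (.lf 104130) (.lf 0)))))) (.nd (.nd (.nd (.nd (.nd (.lf 3203) (.lf 0)) (.nd (.lf 46407) (.lf 0))) (.nd (.nd (.lf 23940) (.lf 0)) (.nd (.lf 76868) (.lf 0)))) (.nd (.nd (.nd (.lf 14533) (.lf 0)) (.nd (.lf 59845) (.lf 0))) (.nd (.nd (.lf 33031) (.lf 0)) (.nd (.lf 98885) (.lf 0))))) (.nd (.nd (.nd (.nd (.lf 8771) (.lf 0)) (.nd (.lf 53190) (.lf 0))) (.nd (.nd (.lf 34246) (.lf 0)) (.nd (.lf 86147) (.lf 0)))) (.nd (.nd (.nd (.lf 19335) (.lf 0)) (.nd (.lf 68419) (.lf 0))) (.nd (.nd (.lf 39558) (.lf 0)) (.nd (.lf 112577) (.lf 0))))))) (.nd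 (.nd (.nd (.nd (.nd (.nd (.lf 1924) (.lf 0)) (.nd (.lf 44483) (.lf 0))) (.nd (.nd (.lf 23046) (.lf 0)) (.nd (.lf 75459) (.lf 0)))) (.nd (.nd (.nd (.lf 12931) (.lf 0)) (.nd (.lf 57796) (.lf 0))) (.nd (.nd (.lf 31687) (.lf 0)) (.nd (.lf 100615) (.lf 0))))) (.nd (.nd (.nd (.nd (.lf 7300) (.lf 0)) (.nd (.lf 51142) (.lf 0))) (.nd (.nd (.lf 33667) (.lf 0)) (.nd (.lf 82887) (.lf 0)))) (.nd (.nd (.nd (.lf 17991) (.lf 0)) (.nd (.lf 66437) (.lf 0))) (.nd (.nd (.lf 38404) (.lf 0)) (.nd (.lf 107718) (.lf 0)))))) (.nd (.nd (.nd (.nd (.nd (.lf 4487) (.lf 0)) (.nd (.lf 48131) (.lf 0))) (.nd (.nd (.lf 25348) (.lf 0)) (.nd (.lf 78915) (.lf 0)))) (.nd (.nd (.nd (.lf 15811) (.lf 0)) (.nd (.lf 61895) (.lf 0))) (.nd (.nd (.lf 35523) (.lf 0)) (.nd (.lf 101188) (.lf 0))))) (.nd (.nd (.nd (.nd (.lf 10116) (.lf 0)) (.nd (.lf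 54340) (.lf 0))) (.nd (.nd (.lf 29575) (.lf 0)) (.nd (.lf 88837) (.lf 0)))) (.nd (.nd (.nd (.lf 20166) (.lf 0)) (.nd (.lf 90692) (.lf 0))) (.nd (.nd (.lf 41222) (.lf 0)) (.nd (.lf 119942) (.lf 0))))))))

/-- table part -/
def tT0_11 : Tr :=
  .nd (.nd (.nd (.nd (.nd (.nd (.nd (.nd (.lf 132) (.lf 125058)) (.nd (.lf 58055) (.lf 0))) (.nd (.nd (.lf 20611) (.lf 0)) (.nd (.lf 72261) (.lf 0)))) (.nd (.nd (.nd (.lf 11075) (.lf 0)) (.nd (.lf 55238) (.lf 0))) (.nd (.nd (.lf 29956) (.lf 0)) (.nd (.lf 90177) (.lf 0))))) (.nd (.nd (.nd (.nd (.lf 4871) (.lf 0)) (.nd (.lf 48708) (.lf 0))) (.nd (.nd (.lf 25795) (.lf 0)) (.nd (.lf 79558) (.lf 0)))) (.nd (.nd (.nd (.lf 16516) (.lf 0)) (.nd (.lf 62470) (.lf 0))) (.nd (.nd (.lf 35910) (.lf 0)) (.nd (.lf 102407) (.lf 0)))))) (.nd (.nd (.nd (.nd (.nd (.lf 2439) (.lf 0))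 (.nd (.lf 51780) (.lf 0))) (.nd (.nd (.lf 23302) (.lf 0)) (.nd (.lf 75782) (.lf 0)))) (.nd (.nd (.nd (.lf 13317) (.lf 0)) (.nd (.lf 58436) (.lf 0))) (.nd (.nd (.lf 32132) (.lf 0)) (.nd (.lf 96770) (.lf 0))))) (.nd (.nd (.nd (.nd (.lf 7879) (.lf 0)) (.nd (.lf 52101) (.lf 0))) (.nd (.nd (.lf 27847) (.lf 0)) (.nd (.lf 84036) (.lf 0)))) (.nd (.nd (.nd (.lf 18564) (.lf 0)) (.nd (.lf 66822) (.lf 0))) (.nd (.nd (.lf 38915) (.lf 0)) (.nd (.lf 108932) (.lf 0))))))) (.nd (.nd (.nd (.nd (.nd (.nd (.lf 1221) (.lf 0)) (.nd (.lf 43399) (.lf 0))) (.nd (.nd (.lf 22020) (.lf 0)) (.nd (.lf 74375) (.lf 0)))) (.nd (.nd (.nd (.lf 12036) (.lf 0)) (.nd (.lf 57155) (.lf 0))) (.nd (.nd (.lf 31046) (.lf 0)) (.nd (.lf 109255) (.lf 0))))) (.nd (.nd (.nd (.nd (.lf 6151) (.lf 0)) (.nd (.lf 50435) (.lf 0))) (.nd (.nd (.lf 26820)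 (.lf 0)) (.nd (.lf 81475) (.lf 0)))) (.nd (.nd (.nd (.lf 17603) (.lf 0)) (.nd (.lf 65351) (.lf 0))) (.nd (.nd (.lf 37510) (.lf 0)) (.nd (.lf 105473) (.lf 0)))))) (.nd (.nd (.nd (.nd (.nd (.lf 3590) (.lf 0)) (.nd (.lf 47111) (.lf 0))) (.nd (.nd (.lf 24452) (.lf 0)) (.nd (.lf 77762) (.lf 0)))) (.nd (.nd (.nd (.lf 14982) (.lf 0)) (.nd (.lf 60930) (.lf 0))) (.nd (.nd (.lf 33988) (.lf 0)) (.nd (.lf 99527) (.lf 0))))) (.nd (.nd (.nd (.nd (.lf 9541) (.lf 0)) (.nd (.lf 53574) (.lf 0))) (.nd (.nd (.lf 29059) (.lf 0)) (.nd (.lf 87169) (.lf 0)))) (.nd (.nd (.nd (.lf 19652) (.lf 0)) (.nd (.lf 69378) (.lf 0))) (.nd (.nd (.lf 40196) (.lf 0)) (.nd (.lf 115075) (.lf 0)))))))) (.nd (.nd (.nd (.nd (.nd (.nd (.nd (.lf 582) (.lf 0)) (.nd (.lf 42756) (.lf 0))) (.nd (.nd (.lf 20998) (.lf 0)) (.nd (.lf 73031) (.lf 0))))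 (.nd (.nd (.nd (.lf 14851) (.lf 0)) (.nd (.lf 56069) (.lf 0))) (.nd (.nd (.lf 30533) (.lf 0)) (.nd (.lf 100678) (.lf 0))))) (.nd (.nd (.nd (.nd (.lf 5700) (.lf 0)) (.nd (.lf 49477) (.lf 0))) (.nd (.nd (.lf 33926) (.lf 0)) (.nd (.lf 80390) (.lf 0)))) (.nd (.nd (.nd (.lf 17219) (.lf 0)) (.nd (.lf 79042) (.lf 0))) (.nd (.nd (.lf 36740) (.lf 0)) (.nd (.lf 103686) (.lf 0)))))) (.nd (.nd (.nd (.nd (.nd (.lf 3076) (.lf 0)) (.nd (.lf 46343) (.lf 0))) (.nd (.nd (.lf 23814) (.lf 0)) (.nd (.lf 76550) (.lf 0)))) (.nd (.nd (.nd (.lf 14148) (.lf 0)) (.nd (.lf 59777) (.lf 0))) (.nd (.nd (.lf 32899) (.lf 0)) (.nd (.lf 98631) (.lf 0))))) (.nd (.nd (.nd (.nd (.lf 8644) (.lf 0)) (.nd (.lf 52934) (.lf 0))) (.nd (.nd (.lf 28483) (.lf 0)) (.nd (.lf 85703) (.lf 0)))) (.nd (.nd (.nd (.lf 19268) (.lf 0)) (.nd (.lf 69699) (.lf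 0))) (.nd (.nd (.lf 39364) (.lf 0)) (.nd (.lf 112194) (.lf 0))))))) (.nd (.nd (.nd (.nd (.nd (.nd (.lf 1798) (.lf 0)) (.nd (.lf 53764) (.lf 0))) (.nd (.nd (.lf 22787) (.lf 0)) (.nd (.lf 75267) (.lf 0)))) (.nd (.nd (.nd (.lf 12803) (.lf 0)) (.nd (.lf 57668) (.lf 0))) (.nd (.nd (.lf 31559) (.lf 0)) (.nd (.lf 95365) (.lf 0))))) (.nd (.nd (.nd (.nd (.lf 7173) (.lf 0)) (.nd (.lf 50951) (.lf 0))) (.nd (.nd (.lf 27270) (.lf 0)) (.nd (.lf 82502) (.lf 0)))) (.nd (.nd (.nd (.lf 17924) (.lf 0)) (.nd (.lf 66183) (.lf 0))) (.nd (.nd (.lf 38087) (.lf 0)) (.nd (.lf 107269) (.lf 0)))))) (.nd (.nd (.nd (.nd (.nd (.lf 4292) (.lf 0)) (.nd (.lf 47940) (.lf 0))) (.nd (.nd (.lf 33093) (.lf 0)) (.nd (.lf 78725) (.lf 0)))) (.nd (.nd (.nd (.lf 15622) (.lf 0)) (.nd (.lf 61765) (.lf 0))) (.nd (.nd (.lf 35396) (.lf 0)) (.nd (.lf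 100612) (.lf 0))))) (.nd (.nd (.nd (.nd (.lf 9990) (.lf 0)) (.nd (.lf 54149) (.lf 0))) (.nd (.nd (.lf 29444) (.lf 0)) (.nd (.lf 88517) (.lf 0)))) (.nd (.nd (.nd (.lf 20036) (.lf 0)) (.nd (.lf 78279) (.lf 0))) (.nd (.nd (.lf 41095) (.lf 0)) (.nd (.lf 119750) (.lf 0))))))))

/-- table part -/
def tT0_12 : Tr :=
  .nd (.nd (.nd (.nd (.nd (.nd (.nd (.nd (.lf 389) (.lf 0)) (.nd (.lf 62149) (.lf 0))) (.nd (.nd (.lf 20743) (.lf 0)) (.nd (.lf 72708) (.lf 0)))) (.nd (.nd (.nd (.lf 11268) (.lf 0)) (.nd (.lf 55493) (.lf 0))) (.nd (.nd (.lf 30151) (.lf 0)) (.nd (.lf 90754) (.lf 0))))) (.nd (.nd (.nd (.nd (.lf 5252) (.lf 0)) (.nd (.lf 49031) (.lf 0))) (.nd (.nd (.lf 25991) (.lf 0)) (.nd (.lf 79812) (.lf 0)))) (.nd (.nd (.nd (.lf 16966) (.lf 0)) (.nd (.lf 63172) (.lf 0))) (.nd (.nd (.lf 36358) (.lf 0)) (.nd (.lf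 103042) (.lf 0)))))) (.nd (.nd (.nd (.nd (.nd (.lf 2820) (.lf 0)) (.nd (.lf 45703) (.lf 0))) (.nd (.nd (.lf 23559) (.lf 0)) (.nd (.lf 76101) (.lf 0)))) (.nd (.nd (.nd (.lf 13575) (.lf 0)) (.nd (.lf 58948) (.lf 0))) (.nd (.nd (.lf 32455) (.lf 0)) (.nd (.lf 108036) (.lf 0))))) (.nd (.nd (.nd (.nd (.lf 8197) (.lf 0)) (.nd (.lf 52423) (.lf 0))) (.nd (.nd (.lf 37123) (.lf 0)) (.nd (.lf 84742) (.lf 0)))) (.nd (.nd (.nd (.lf 18885) (.lf 0)) (.nd (.lf 67399) (.lf 0))) (.nd (.nd (.lf 39110) (.lf 0)) (.nd (.lf 110658) (.lf 0))))))) (.nd (.nd (.nd (.nd (.nd (.nd (.lf 1542) (.lf 0)) (.nd (.lf 43908) (.lf 0))) (.nd (.nd (.lf 22470) (.lf 0)) (.nd (.lf 74758) (.lf 0)))) (.nd (.nd (.nd (.lf 12482) (.lf 0)) (.nd (.lf 57285) (.lf 0))) (.nd (.nd (.lf 31361) (.lf 0)) (.nd (.lf 114887) (.lf 0))))) (.nd (.nd (.nd (.nd (.lf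 6852) (.lf 0)) (.nd (.lf 50694) (.lf 0))) (.nd (.nd (.lf 27201) (.lf 0)) (.nd (.lf 81924) (.lf 0)))) (.nd (.nd (.nd (.lf 17733) (.lf 0)) (.nd (.lf 79494) (.lf 0))) (.nd (.nd (.lf 37826) (.lf 0)) (.nd (.lf 106050) (.lf 0)))))) (.nd (.nd (.nd (.nd (.nd (.lf 3909) (.lf 0)) (.nd (.lf 47621) (.lf 0))) (.nd (.nd (.lf 24774) (.lf 0)) (.nd (.lf 78275) (.lf 0)))) (.nd (.nd (.nd (.lf 15428) (.lf 0)) (.nd (.lf 61445) (.lf 0))) (.nd (.nd (.lf 34758) (.lf 0)) (.nd (.lf 100226) (.lf 0))))) (.nd (.nd (.nd (.nd (.lf 9735) (.lf 0)) (.nd (.lf 53892) (.lf 0))) (.nd (.nd (.lf 29189) (.lf 0)) (.nd (.lf 87556) (.lf 0)))) (.nd (.nd (.nd (.lf 19782) (.lf 0)) (.nd (.lf 74309) (.lf 0))) (.nd (.nd (.lf 40772) (.lf 0)) (.nd (.lf 120838) (.lf 0)))))))) (.nd (.nd (.nd (.nd (.nd (.nd (.nd (.lf 964) (.lf 0)) (.nd (.lf 43203) (.lf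 0))) (.nd (.nd (.lf 21377) (.lf 0)) (.nd (.lf 73988) (.lf 0)))) (.nd (.nd (.nd (.lf 11718) (.lf 0)) (.nd (.lf 56643) (.lf 0))) (.nd (.nd (.lf 30790) (.lf 0)) (.nd (.lf 105287) (.lf 0))))) (.nd (.nd (.nd (.nd (.lf 5894) (.lf 0)) (.nd (.lf 50116) (.lf 0))) (.nd (.nd (.lf 33350) (.lf 0)) (.nd (.lf 80646) (.lf 0)))) (.nd (.nd (.nd (.lf 17349) (.lf 0)) (.nd (.lf 67204) (.lf 0))) (.nd (.nd (.lf 37255) (.lf 0)) (.nd (.lf 104516) (.lf 0)))))) (.nd (.nd (.nd (.nd (.nd (.lf 3333) (.lf 0)) (.nd (.lf 46915) (.lf 0))) (.nd (.nd (.lf 24067) (.lf 0)) (.nd (.lf 76999) (.lf 0)))) (.nd (.nd (.nd (.lf 14790) (.lf 0)) (.nd (.lf 60098) (.lf 0))) (.nd (.nd (.lf 33478) (.lf 0)) (.nd (.lf 99139) (.lf 0))))) (.nd (.nd (.nd (.nd (.lf 9154) (.lf 0)) (.nd (.lf 53317) (.lf 0))) (.nd (.nd (.lf 28804) (.lf 0)) (.nd (.lf 86532) (.lf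 0)))) (.nd (.nd (.nd (.lf 19459) (.lf 0)) (.nd (.lf 73734) (.lf 0))) (.nd (.nd (.lf 39814) (.lf 0)) (.nd (.lf 113286) (.lf 0))))))) (.nd (.nd (.nd (.nd (.nd (.nd (.lf 2116) (.lf 0)) (.nd (.lf 45125) (.lf 0))) (.nd (.nd (.lf 23110) (.lf 0)) (.nd (.lf 75526) (.lf 0)))) (.nd (.nd (.nd (.lf 13060) (.lf 0)) (.nd (.lf 57863) (.lf 0))) (.nd (.nd (.lf 31879) (.lf 0)) (.nd (.lf 96326) (.lf 0))))) (.nd (.nd (.nd (.nd (.lf 7559) (.lf 0)) (.nd (.lf 51396) (.lf 0))) (.nd (.nd (.lf 27524) (.lf 0)) (.nd (.lf 83202) (.lf 0)))) (.nd (.nd (.nd (.lf 18244) (.lf 0)) (.nd (.lf 73604) (.lf 0))) (.nd (.nd (.lf 38596) (.lf 0)) (.nd (.lf 108291) (.lf 0)))))) (.nd (.nd (.nd (.nd (.nd (.lf 4615) (.lf 0)) (.nd (.lf 48260) (.lf 0))) (.nd (.nd (.lf 33413) (.lf 0)) (.nd (.lf 79046) (.lf 0)))) (.nd (.nd (.nd (.lf 16067) (.lf 0))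 (.nd (.lf 62150) (.lf 0))) (.nd (.nd (.lf 35652) (.lf 0)) (.nd (.lf 101831) (.lf 0))))) (.nd (.nd (.nd (.nd (.lf 10372) (.lf 0)) (.nd (.lf 54596) (.lf 0))) (.nd (.nd (.lf 29698) (.lf 0)) (.nd (.lf 89223) (.lf 0)))) (.nd (.nd (.nd (.lf 20293) (.lf 0)) (.nd (.lf 71558) (.lf 0))) (.nd (.nd (.lf 41477) (.lf 0)) (.nd (.lf 122435) (.lf 0))))))))

/-- table part -/
def tT0_13 : Tr :=
  .nd (.nd (.nd (.nd (.nd (.nd (.nd (.nd (.lf 67) (.lf 123782)) (.nd (.lf 54918) (.lf 0))) (.nd (.nd (.lf 20423) (.lf 0)) (.nd (.lf 72196) (.lf 0)))) (.nd (.nd (.nd (.lf 10949) (.lf 0)) (.nd (.lf 55171) (.lf 0))) (.nd (.nd (.lf 29894) (.lf 0)) (.nd (.lf 90050) (.lf 0))))) (.nd (.nd (.nd (.nd (.lf 4867) (.lf 0)) (.nd (.lf 48645) (.lf 0))) (.nd (.nd (.lf 25668) (.lf 0)) (.nd (.lf 79556) (.lf 0)))) (.nd (.nd (.nd (.lf 16324) (.lf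 0)) (.nd (.lf 62405) (.lf 0))) (.nd (.nd (.lf 35907) (.lf 0)) (.nd (.lf 102278) (.lf 0)))))) (.nd (.nd (.nd (.nd (.nd (.lf 2310) (.lf 0)) (.nd (.lf 45187) (.lf 0))) (.nd (.nd (.lf 23239) (.lf 0)) (.nd (.lf 75717) (.lf 0)))) (.nd (.nd (.nd (.lf 13253) (.lf 0)) (.nd (.lf 58180) (.lf 0))) (.nd (.nd (.lf 32070) (.lf 0)) (.nd (.lf 101316) (.lf 0))))) (.nd (.nd (.nd (.nd (.lf 7811) (.lf 0)) (.nd (.lf 51908) (.lf 0))) (.nd (.nd (.lf 27843) (.lf 0)) (.nd (.lf 83651) (.lf 0)))) (.nd (.nd (.nd (.lf 18438) (.lf 0)) (.nd (.lf 88069) (.lf 0))) (.nd (.nd (.lf 38852) (.lf 0)) (.nd (.lf 108743) (.lf 0))))))) (.nd (.nd (.nd (.nd (.nd (.nd (.lf 1158) (.lf 0)) (.nd (.lf 43395) (.lf 0))) (.nd (.nd (.lf 21891) (.lf 0)) (.nd (.lf 74373) (.lf 0)))) (.nd (.nd (.nd (.lf 11974) (.lf 0)) (.nd (.lf 57028) (.lf 0))) (.nd (.nd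 (.lf 31043) (.lf 0)) (.nd (.lf 93573) (.lf 0))))) (.nd (.nd (.nd (.nd (.lf 6147) (.lf 0)) (.nd (.lf 50308) (.lf 0))) (.nd (.nd (.lf 26692) (.lf 0)) (.nd (.lf 81411) (.lf 0)))) (.nd (.nd (.nd (.lf 17479) (.lf 0)) (.nd (.lf 65285) (.lf 0))) (.nd (.nd (.lf 37507) (.lf 0)) (.nd (.lf 105282) (.lf 0)))))) (.nd (.nd (.nd (.nd (.nd (.lf 3463) (.lf 0)) (.nd (.lf 47045) (.lf 0))) (.nd (.nd (.lf 24260) (.lf 0)) (.nd (.lf 77446) (.lf 0)))) (.nd (.nd (.nd (.lf 14919) (.lf 0)) (.nd (.lf 60803) (.lf 0))) (.nd (.nd (.lf 33860) (.lf 0)) (.nd (.lf 99524) (.lf 0))))) (.nd (.nd (.nd (.nd (.lf 9476) (.lf 0)) (.nd (.lf 53447) (.lf 0))) (.nd (.nd (.lf 28995) (.lf 0)) (.nd (.lf 86981) (.lf 0)))) (.nd (.nd (.nd (.lf 19527) (.lf 0)) (.nd (.lf 69189) (.lf 0))) (.nd (.nd (.lf 40068) (.lf 0)) (.nd (.lf 114818) (.lf 0)))))))) (.nd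 (.nd (.nd (.nd (.nd (.nd (.nd (.lf 580) (.lf 0)) (.nd (.lf 42694) (.lf 0))) (.nd (.nd (.lf 20934) (.lf 0)) (.nd (.lf 73027) (.lf 0)))) (.nd (.nd (.nd (.lf 11460) (.lf 0)) (.nd (.lf 55876) (.lf 0))) (.nd (.nd (.lf 30530) (.lf 0)) (.nd (.lf 91268) (.lf 0))))) (.nd (.nd (.nd (.nd (.lf 5638) (.lf 0)) (.nd (.lf 49286) (.lf 0))) (.nd (.nd (.lf 26182) (.lf 0)) (.nd (.lf 80386) (.lf 0)))) (.nd (.nd (.nd (.lf 17156) (.lf 0)) (.nd (.lf 82052) (.lf 0))) (.nd (.nd (.lf 36614) (.lf 0)) (.nd (.lf 103620) (.lf 0)))))) (.nd (.nd (.nd (.nd (.nd (.lf 3014) (.lf 0)) (.nd (.lf 46215) (.lf 0))) (.nd (.nd (.lf 23810) (.lf 0)) (.nd (.lf 76486) (.lf 0)))) (.nd (.nd (.nd (.lf 13954) (.lf 0)) (.nd (.lf 59396) (.lf 0))) (.nd (.nd (.lf 32775) (.lf 0)) (.nd (.lf 98564) (.lf 0))))) (.nd (.nd (.nd (.nd (.lf 8518) (.lf 0)) (.nd (.lf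 52931) (.lf 0))) (.nd (.nd (.lf 28421) (.lf 0)) (.nd (.lf 85575) (.lf 0)))) (.nd (.nd (.nd (.lf 19140) (.lf 0)) (.nd (.lf 67973) (.lf 0))) (.nd (.nd (.lf 39302) (.lf 0)) (.nd (.lf 111814) (.lf 0))))))) (.nd (.nd (.nd (.nd (.nd (.nd (.lf 1793) (.lf 0)) (.nd (.lf 44103) (.lf 0))) (.nd (.nd (.lf 22659) (.lf 0)) (.nd (.lf 75013) (.lf 0)))) (.nd (.nd (.nd (.lf 12679) (.lf 0)) (.nd (.lf 57541) (.lf 0))) (.nd (.nd (.lf 31492) (.lf 0)) (.nd (.lf 95239) (.lf 0))))) (.nd (.nd (.nd (.nd (.lf 7109) (.lf 0)) (.nd (.lf 50948) (.lf 0))) (.nd (.nd (.lf 27207) (.lf 0)) (.nd (.lf 82500) (.lf 0)))) (.nd (.nd (.nd (.lf 17860) (.lf 0)) (.nd (.lf 78724) (.lf 0))) (.nd (.nd (.lf 38021) (.lf 0)) (.nd (.lf 107014) (.lf 0)))))) (.nd (.nd (.nd (.nd (.nd (.lf 4166) (.lf 0)) (.nd (.lf 47878) (.lf 0))) (.nd (.nd (.lf 33095) (.lf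 0)) (.nd (.lf 78662) (.lf 0)))) (.nd (.nd (.nd (.lf 15558) (.lf 0)) (.nd (.lf 61639) (.lf 0))) (.nd (.nd (.lf 35334) (.lf 0)) (.nd (.lf 100550) (.lf 0))))) (.nd (.nd (.nd (.nd (.lf 9927) (.lf 0)) (.nd (.lf 54023) (.lf 0))) (.nd (.nd (.lf 29381) (.lf 0)) (.nd (.lf 88450) (.lf 0)))) (.nd (.nd (.nd (.lf 19975) (.lf 0)) (.nd (.lf 70535) (.lf 0))) (.nd (.nd (.lf 41028) (.lf 0)) (.nd (.lf 124804) (.lf 0))))))))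

/-- table part -/
def tT0_14 : Tr :=
  .nd (.nd (.nd (.nd (.nd (.nd (.nd (.nd (.lf 326) (.lf 0)) (.nd (.lf 42371) (.lf 0))) (.nd (.nd (.lf 20741) (.lf 0)) (.nd (.lf 72645) (.lf 0)))) (.nd (.nd (.nd (.lf 11206) (.lf 0)) (.nd (.lf 55430) (.lf 0))) (.nd (.nd (.lf 30087) (.lf 0)) (.nd (.lf 90630) (.lf 0))))) (.nd (.nd (.nd (.nd (.lf 5127) (.lf 0)) (.nd (.lf 49029) (.lf 0))) (.nd (.nd (.lf 25926) (.lf 0)) (.nd (.lf 79687) (.lf 0)))) (.nd (.nd (.nd (.lf 23108) (.lf 0)) (.nd (.lf 62853) (.lf 0))) (.nd (.nd (.lf 36164) (.lf 0)) (.nd (.lf 102663) (.lf 0)))))) (.nd (.nd (.nd (.nd (.nd (.lf 2695) (.lf 0)) (.nd (.lf 45508) (.lf 0))) (.nd (.nd (.lf 23555) (.lf 0)) (.nd (.lf 76039) (.lf 0)))) (.nd (.nd (.nd (.lf 13508) (.lf 0)) (.nd (.lf 58883) (.lf 0))) (.nd (.nd (.lf 32453) (.lf 0)) (.nd (.lf 97796) (.lf 0)))))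 (.nd (.nd (.nd (.nd (.lf 8132) (.lf 0)) (.nd (.lf 52419) (.lf 0))) (.nd (.nd (.lf 28102) (.lf 0)) (.nd (.lf 84677) (.lf 0)))) (.nd (.nd (.nd (.lf 18820) (.lf 0)) (.nd (.lf 86530) (.lf 0))) (.nd (.nd (.lf 39044) (.lf 0)) (.nd (.lf 110148) (.lf 0))))))) (.nd (.nd (.nd (.nd (.nd (.nd (.lf 1478) (.lf 0)) (.nd (.lf 43846) (.lf 0))) (.nd (.nd (.lf 22340) (.lf 0)) (.nd (.lf 74694) (.lf 0)))) (.nd (.nd (.nd (.lf 12291) (.lf 0)) (.nd (.lf 57282) (.lf 0))) (.nd (.nd (.lf 31238) (.lf 0)) (.nd (.lf 99270) (.lf 0))))) (.nd (.nd (.nd (.nd (.lf 6468) (.lf 0)) (.nd (.lf 50691) (.lf 0))) (.nd (.nd (.lf 27015) (.lf 0)) (.nd (.lf 81796) (.lf 0)))) (.nd (.nd (.nd (.lf 17670) (.lf 0)) (.nd (.lf 65797) (.lf 0))) (.nd (.nd (.lf 37763) (.lf 0)) (.nd (.lf 105863) (.lf 0)))))) (.nd (.nd (.nd (.nd (.nd (.lf 3843) (.lf 0)) (.nd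 (.lf 47431) (.lf 0))) (.nd (.nd (.lf 24710) (.lf 0)) (.nd (.lf 78085) (.lf 0)))) (.nd (.nd (.nd (.lf 15366) (.lf 0)) (.nd (.lf 61380) (.lf 0))) (.nd (.nd (.lf 34437) (.lf 0)) (.nd (.lf 100102) (.lf 0))))) (.nd (.nd (.nd (.nd (.lf 9670) (.lf 0)) (.nd (.lf 53831) (.lf 0))) (.nd (.nd (.lf 29186) (.lf 0)) (.nd (.lf 87430) (.lf 0)))) (.nd (.nd (.nd (.lf 19780) (.lf 0)) (.nd (.lf 69572) (.lf 0))) (.nd (.nd (.lf 40580) (.lf 0)) (.nd (.lf 117383) (.lf 0)))))))) (.nd (.nd (.nd (.nd (.nd (.nd (.nd (.lf 838) (.lf 0)) (.nd (.lf 45890) (.lf 0))) (.nd (.nd (.lf 21187) (.lf 0)) (.nd (.lf 73797) (.lf 0)))) (.nd (.nd (.nd (.lf 11591) (.lf 0)) (.nd (.lf 56516) (.lf 0))) (.nd (.nd (.lf 30787) (.lf 0)) (.nd (.lf 92231) (.lf 0))))) (.nd (.nd (.nd (.nd (.lf 5892) (.lf 0)) (.nd (.lf 49988) (.lf 0))) (.nd (.nd (.lf 26436)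 (.lf 0)) (.nd (.lf 80641) (.lf 0)))) (.nd (.nd (.nd (.lf 17346) (.lf 0)) (.nd (.lf 64902) (.lf 0))) (.nd (.nd (.lf 37188) (.lf 0)) (.nd (.lf 104388) (.lf 0)))))) (.nd (.nd (.nd (.nd (.nd (.lf 3270) (.lf 0)) (.nd (.lf 46534) (.lf 0))) (.nd (.nd (.lf 24003) (.lf 0)) (.nd (.lf 76995) (.lf 0)))) (.nd (.nd (.nd (.lf 14594) (.lf 0)) (.nd (.lf 59847) (.lf 0))) (.nd (.nd (.lf 33158) (.lf 0)) (.nd (.lf 99012) (.lf 0))))) (.nd (.nd (.nd (.nd (.lf 9029) (.lf 0)) (.nd (.lf 53314) (.lf 0))) (.nd (.nd (.lf 28676) (.lf 0)) (.nd (.lf 86275) (.lf 0)))) (.nd (.nd (.nd (.lf 19397) (.lf 0)) (.nd (.lf 79878) (.lf 0))) (.nd (.nd (.lf 39686) (.lf 0)) (.nd (.lf 113029) (.lf 0))))))) (.nd (.nd (.nd (.nd (.nd (.nd (.lf 1988) (.lf 0)) (.nd (.lf 44487) (.lf 0))) (.nd (.nd (.lf 23105) (.lf 0)) (.nd (.lf 75523) (.lf 0)))) (.nd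 (.nd (.nd (.lf 12935) (.lf 0)) (.nd (.lf 57861) (.lf 0))) (.nd (.nd (.lf 31812) (.lf 0)) (.nd (.lf 108677) (.lf 0))))) (.nd (.nd (.nd (.nd (.lf 7554) (.lf 0)) (.nd (.lf 51204) (.lf 0))) (.nd (.nd (.lf 27462) (.lf 0)) (.nd (.lf 83139) (.lf 0)))) (.nd (.nd (.nd (.lf 18116) (.lf 0)) (.nd (.lf 66435) (.lf 0))) (.nd (.nd (.lf 38532) (.lf 0)) (.nd (.lf 107782) (.lf 0)))))) (.nd (.nd (.nd (.nd (.nd (.lf 4612) (.lf 0)) (.nd (.lf 48134) (.lf 0))) (.nd (.nd (.lf 25351) (.lf 0)) (.nd (.lf 78980) (.lf 0)))) (.nd (.nd (.nd (.lf 15939) (.lf 0)) (.nd (.lf 62084) (.lf 0))) (.nd (.nd (.lf 35587) (.lf 0)) (.nd (.lf 101443) (.lf 0))))) (.nd (.nd (.nd (.nd (.lf 10180) (.lf 0)) (.nd (.lf 54533) (.lf 0))) (.nd (.nd (.lf 29637) (.lf 0)) (.nd (.lf 89095) (.lf 0)))) (.nd (.nd (.nd (.lf 20228) (.lf 0)) (.nd (.lf 84292) (.lf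 0))) (.nd (.nd (.lf 41412) (.lf 0)) (.nd (.lf 121158) (.lf 0))))))))

/-- table part -/
def tT0_15 : Tr :=
  .nd (.nd (.nd (.nd (.nd (.nd (.nd (.nd (.lf 199) (.lf 125316)) (.nd (.lf 49543) (.lf 0))) (.nd (.nd (.lf 20614) (.lf 0)) (.nd (.lf 72263) (.lf 0)))) (.nd (.nd (.nd (.lf 11079) (.lf 0)) (.nd (.lf 55363) (.lf 0))) (.nd (.nd (.lf 30022) (.lf 0)) (.nd (.lf 90183) (.lf 0))))) (.nd (.nd (.nd (.nd (.lf 4935) (.lf 0)) (.nd (.lf 48773) (.lf 0))) (.nd (.nd (.lf 25798) (.lf 0)) (.nd (.lf 79622) (.lf 0)))) (.nd (.nd (.nd (.lf 16899) (.lf 0)) (.nd (.lf 62598) (.lf 0))) (.nd (.nd (.lf 36034) (.lf 0)) (.nd (.lf 102533) (.lf 0)))))) (.nd (.nd (.nd (.nd (.nd (.lf 2630) (.lf 0)) (.nd (.lf 45319) (.lf 0))) (.nd (.nd (.lf 23366) (.lf 0)) (.nd (.lf 75847) (.lf 0)))) (.nd (.nd (.nd (.lf 13319) (.lf 0)) (.nd (.lf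 58564) (.lf 0))) (.nd (.nd (.lf 32196) (.lf 0)) (.nd (.lf 96900) (.lf 0))))) (.nd (.nd (.nd (.nd (.lf 7943) (.lf 0)) (.nd (.lf 52164) (.lf 0))) (.nd (.nd (.lf 27971) (.lf 0)) (.nd (.lf 84290) (.lf 0)))) (.nd (.nd (.nd (.lf 18692) (.lf 0)) (.nd (.lf 90055) (.lf 0))) (.nd (.nd (.lf 38918) (.lf 0)) (.nd (.lf 109639) (.lf 0))))))) (.nd (.nd (.nd (.nd (.nd (.nd (.lf 1286) (.lf 0)) (.nd (.lf 43525) (.lf 0))) (.nd (.nd (.lf 22275) (.lf 0)) (.nd (.lf 74439) (.lf 0)))) (.nd (.nd (.nd (.lf 12100) (.lf 0)) (.nd (.lf 57159) (.lf 0))) (.nd (.nd (.lf 31170) (.lf 0)) (.nd (.lf 94087) (.lf 0))))) (.nd (.nd (.nd (.nd (.lf 6215) (.lf 0)) (.nd (.lf 50438) (.lf 0))) (.nd (.nd (.lf 34375) (.lf 0)) (.nd (.lf 81668) (.lf 0)))) (.nd (.nd (.nd (.lf 17607) (.lf 0)) (.nd (.lf 65541) (.lf 0))) (.nd (.nd (.lf 37572) (.lf 0)) (.nd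 (.lf 105542) (.lf 0)))))) (.nd (.nd (.nd (.nd (.nd (.lf 3655) (.lf 0)) (.nd (.lf 55687) (.lf 0))) (.nd (.nd (.lf 24582) (.lf 0)) (.nd (.lf 77956) (.lf 0)))) (.nd (.nd (.nd (.lf 15236) (.lf 0)) (.nd (.lf 61188) (.lf 0))) (.nd (.nd (.lf 34244) (.lf 0)) (.nd (.lf 99654) (.lf 0))))) (.nd (.nd (.nd (.nd (.lf 9602) (.lf 0)) (.nd (.lf 53636) (.lf 0))) (.nd (.nd (.lf 29063) (.lf 0)) (.nd (.lf 87173) (.lf 0)))) (.nd (.nd (.nd (.lf 19715) (.lf 0)) (.nd (.lf 69444) (.lf 0))) (.nd (.nd (.lf 49735) (.lf 0)) (.nd (.lf 115714) (.lf 0)))))))) (.nd (.nd (.nd (.nd (.nd (.nd (.nd (.lf 770) (.lf 0)) (.nd (.lf 62343) (.lf 0))) (.nd (.nd (.lf 21059) (.lf 0)) (.nd (.lf 73221) (.lf 0)))) (.nd (.nd (.nd (.lf 11526) (.lf 0)) (.nd (.lf 56323) (.lf 0))) (.nd (.nd (.lf 30721) (.lf 0)) (.nd (.lf 91971) (.lf 0))))) (.nd (.nd (.nd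 (.nd (.lf 5765) (.lf 0)) (.nd (.lf 49732) (.lf 0))) (.nd (.nd (.lf 34119) (.lf 0)) (.nd (.lf 80454) (.lf 0)))) (.nd (.nd (.nd (.lf 17223) (.lf 0)) (.nd (.lf 64197) (.lf 0))) (.nd (.nd (.lf 36806) (.lf 0)) (.nd (.lf 103879) (.lf 0)))))) (.nd (.nd (.nd (.nd (.nd (.lf 3141) (.lf 0)) (.nd (.lf 61830) (.lf 0))) (.nd (.nd (.lf 23876) (.lf 0)) (.nd (.lf 76678) (.lf 0)))) (.nd (.nd (.nd (.lf 14467) (.lf 0)) (.nd (.lf 59781) (.lf 0))) (.nd (.nd (.lf 32902) (.lf 0)) (.nd (.lf 98756) (.lf 0))))) (.nd (.nd (.nd (.nd (.lf 8709) (.lf 0)) (.nd (.lf 53187) (.lf 0))) (.nd (.nd (.lf 28487) (.lf 0)) (.nd (.lf 86019) (.lf 0)))) (.nd (.nd (.nd (.lf 19333) (.lf 0)) (.nd (.lf 69573) (.lf 0))) (.nd (.nd (.lf 39492) (.lf 0)) (.nd (.lf 112324) (.lf 0))))))) (.nd (.nd (.nd (.nd (.nd (.nd (.lf 1862) (.lf 0)) (.nd (.lf 44230)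 (.lf 0))) (.nd (.nd (.lf 22915) (.lf 0)) (.nd (.lf 75395) (.lf 0)))) (.nd (.nd (.nd (.lf 12806) (.lf 0)) (.nd (.lf 57733) (.lf 0))) (.nd (.nd (.lf 31683) (.lf 0)) (.nd (.lf 96903) (.lf 0))))) (.nd (.nd (.nd (.nd (.lf 7175) (.lf 0)) (.nd (.lf 51078) (.lf 0))) (.nd (.nd (.lf 27332) (.lf 0)) (.nd (.lf 82882) (.lf 0)))) (.nd (.nd (.nd (.lf 17987) (.lf 0)) (.nd (.lf 89863) (.lf 0))) (.nd (.nd (.lf 38215) (.lf 0)) (.nd (.lf 107527) (.lf 0)))))) (.nd (.nd (.nd (.nd (.nd (.lf 4485) (.lf 0)) (.nd (.lf 48004) (.lf 0))) (.nd (.nd (.lf 33606) (.lf 0)) (.nd (.lf 78854) (.lf 0)))) (.nd (.nd (.nd (.lf 15684) (.lf 0)) (.nd (.lf 61828) (.lf 0))) (.nd (.nd (.lf 35460) (.lf 0)) (.nd (.lf 100934) (.lf 0))))) (.nd (.nd (.nd (.nd (.lf 10052) (.lf 0)) (.nd (.lf 54215) (.lf 0))) (.nd (.nd (.lf 29510) (.lf 0)) (.nd (.lf 88771)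 (.lf 0)))) (.nd (.nd (.nd (.lf 20039) (.lf 0)) (.nd (.lf 89091) (.lf 0))) (.nd (.nd (.lf 41158) (.lf 0)) (.nd (.lf 119879) (.lf 0))))))))

/-- table part -/
def tT0_16 : Tr :=
  .nd (.nd (.nd (.nd (.nd (.nd (.nd (.nd (.lf 515) (.lf 0)) (.nd (.lf 42500) (.lf 0))) (.nd (.nd (.lf 20806) (.lf 0)) (.nd (.lf 72836) (.lf 0)))) (.nd (.nd (.nd (.lf 11395) (.lf 0)) (.nd (.lf 55619) (.lf 0))) (.nd (.nd (.lf 30338) (.lf 0)) (.nd (.lf 90757) (.lf 0))))) (.nd (.nd (.nd (.nd (.lf 5443) (.lf 0)) (.nd (.lf 49155) (.lf 0))) (.nd (.nd (.lf 30278) (.lf 0)) (.nd (.lf 79879) (.lf 0)))) (.nd (.nd (.nd (.lf 17028) (.lf 0)) (.nd (.lf 63619) (.lf 0))) (.nd (.nd (.lf 36423) (.lf 0)) (.nd (.lf 103173) (.lf 0)))))) (.nd (.nd (.nd (.nd (.nd (.lf 2823) (.lf 0)) (.nd (.lf 45955) (.lf 0))) (.nd (.nd (.lf 23683) (.lf 0)) (.nd (.lf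 76103) (.lf 0)))) (.nd (.nd (.nd (.lf 13701) (.lf 0)) (.nd (.lf 59140) (.lf 0))) (.nd (.nd (.lf 32580) (.lf 0)) (.nd (.lf 98499) (.lf 0))))) (.nd (.nd (.nd (.nd (.lf 8386) (.lf 0)) (.nd (.lf 52613) (.lf 0))) (.nd (.nd (.lf 37126) (.lf 0)) (.nd (.lf 85315) (.lf 0)))) (.nd (.nd (.nd (.lf 18948) (.lf 0)) (.nd (.lf 76037) (.lf 0))) (.nd (.nd (.lf 39235) (.lf 0)) (.nd (.lf 110786) (.lf 0))))))) (.nd (.nd (.nd (.nd (.nd (.nd (.lf 1604) (.lf 0)) (.nd (.lf 44038) (.lf 0))) (.nd (.nd (.lf 22532) (.lf 0)) (.nd (.lf 74823) (.lf 0)))) (.nd (.nd (.nd (.lf 12548) (.lf 0)) (.nd (.lf 57412) (.lf 0))) (.nd (.nd (.lf 31365) (.lf 0)) (.nd (.lf 103045) (.lf 0))))) (.nd (.nd (.nd (.nd (.lf 6916) (.lf 0)) (.nd (.lf 50759) (.lf 0))) (.nd (.nd (.lf 27143) (.lf 0)) (.nd (.lf 82307) (.lf 0)))) (.nd (.nd (.nd (.lf 17735) (.lf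 0)) (.nd (.lf 65988) (.lf 0))) (.nd (.nd (.lf 37829) (.lf 0)) (.nd (.lf 106694) (.lf 0)))))) (.nd (.nd (.nd (.nd (.nd (.lf 4034) (.lf 0)) (.nd (.lf 47812) (.lf 0))) (.nd (.nd (.lf 24838) (.lf 0)) (.nd (.lf 78342) (.lf 0)))) (.nd (.nd (.nd (.lf 15431) (.lf 0)) (.nd (.lf 61508) (.lf 0))) (.nd (.nd (.lf 35012) (.lf 0)) (.nd (.lf 100359) (.lf 0))))) (.nd (.nd (.nd (.nd (.lf 9859) (.lf 0)) (.nd (.lf 53894) (.lf 0))) (.nd (.nd (.lf 29255) (.lf 0)) (.nd (.lf 87877) (.lf 0)))) (.nd (.nd (.nd (.lf 19908) (.lf 0)) (.nd (.lf 82054) (.lf 0))) (.nd (.nd (.lf 40838) (.lf 0)) (.nd (.lf 117762) (.lf 0)))))))) (.nd (.nd (.nd (.nd (.nd (.nd (.nd (.lf 966) (.lf 0)) (.nd (.lf 43267) (.lf 0))) (.nd (.nd (.lf 21700) (.lf 0)) (.nd (.lf 74117) (.lf 0)))) (.nd (.nd (.nd (.lf 11782) (.lf 0)) (.nd (.lf 56836) (.lf 0))) (.nd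 (.nd (.lf 30852) (.lf 0)) (.nd (.lf 92805) (.lf 0))))) (.nd (.nd (.nd (.nd (.lf 5958) (.lf 0)) (.nd (.lf 50179) (.lf 0))) (.nd (.nd (.lf 33156) (.lf 0)) (.nd (.lf 80710) (.lf 0)))) (.nd (.nd (.nd (.lf 17351) (.lf 0)) (.nd (.lf 65221) (.lf 0))) (.nd (.nd (.lf 37380) (.lf 0)) (.nd (.lf 104772) (.lf 0)))))) (.nd (.nd (.nd (.nd (.nd (.lf 3335) (.lf 0)) (.nd (.lf 46918) (.lf 0))) (.nd (.nd (.lf 24130) (.lf 0)) (.nd (.lf 77314) (.lf 0)))) (.nd (.nd (.nd (.lf 14853) (.lf 0)) (.nd (.lf 60228) (.lf 0))) (.nd (.nd (.lf 33604) (.lf 0)) (.nd (.lf 99143) (.lf 0))))) (.nd (.nd (.nd (.nd (.lf 9217) (.lf 0)) (.nd (.lf 53319) (.lf 0))) (.nd (.nd (.lf 28931) (.lf 0)) (.nd (.lf 86722) (.lf 0)))) (.nd (.nd (.nd (.lf 19462) (.lf 0)) (.nd (.lf 83271) (.lf 0))) (.nd (.nd (.lf 40711) (.lf 0)) (.nd (.lf 113733) (.lf 0)))))))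 (.nd (.nd (.nd (.nd (.nd (.nd (.lf 2179) (.lf 0)) (.nd (.lf 44867) (.lf 0))) (.nd (.nd (.lf 23172) (.lf 0)) (.nd (.lf 75589) (.lf 0)))) (.nd (.nd (.nd (.lf 13187) (.lf 0)) (.nd (.lf 57985) (.lf 0))) (.nd (.nd (.lf 32004) (.lf 0)) (.nd (.lf 101572) (.lf 0))))) (.nd (.nd (.nd (.nd (.lf 7623) (.lf 0)) (.nd (.lf 51587) (.lf 0))) (.nd (.nd (.lf 27588) (.lf 0)) (.nd (.lf 83206) (.lf 0)))) (.nd (.nd (.nd (.lf 18308) (.lf 0)) (.nd (.lf 73284) (.lf 0))) (.nd (.nd (.lf 38722) (.lf 0)) (.nd (.lf 108547) (.lf 0)))))) (.nd (.nd (.nd (.nd (.nd (.lf 4679) (.lf 0)) (.nd (.lf 48326) (.lf 0))) (.nd (.nd (.lf 37252) (.lf 0)) (.nd (.lf 79110) (.lf 0)))) (.nd (.nd (.nd (.lf 16199) (.lf 0)) (.nd (.lf 62339) (.lf 0))) (.nd (.nd (.lf 35779) (.lf 0)) (.nd (.lf 101958) (.lf 0))))) (.nd (.nd (.nd (.nd (.lf 10437) (.lf 0)) (.nd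 (.lf 54662) (.lf 0))) (.nd (.nd (.lf 29703) (.lf 0)) (.nd (.lf 89795) (.lf 0)))) (.nd (.nd (.nd (.lf 20295) (.lf 0)) (.nd (.lf 89415) (.lf 0))) (.nd (.nd (.lf 49734) (.lf 0)) (.nd (.lf 122562) (.lf 0))))))))

/-- table -/
def tT0 : Tr :=
  .nd (.nd (.nd (.nd tT0_1 tT0_2) (.nd tT0_3 tT0_4)) (.nd (.nd tT0_5 tT0_6) (.nd tT0_7 tT0_8))) (.nd (.nd (.nd tT0_9 tT0_10) (.nd tT0_11 tT0_12)) (.nd (.nd tT0_13 tT0_14) (.nd tT0_15 tT0_16)))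

/-- table part -/
def tT1_1 : Tr :=
  .nd (.nd (.nd (.nd (.nd (.nd (.nd (.nd (.lf 17364) (.lf 5396)) (.nd (.lf 63123) (.lf 0))) (.nd (.nd (.lf 116436) (.lf 0)) (.nd (.lf 0) (.lf 0)))) (.nd (.nd (.nd (.lf 0) (.lf 0)) (.nd (.lf 0) (.lf 0))) (.nd (.nd (.lf 0) (.lf 0)) (.nd (.lf 49748) (.lf 0))))) (.nd (.nd (.nd (.nd (.lf 3667) (.lf 0)) (.nd (.lf 37843) (.lf 0))) (.nd (.nd (.lf 0) (.lf 0)) (.nd (.lf 0) (.lf 0)))) (.nd (.nd (.nd (.lf 0) (.lf 0)) (.nd (.lf 81363) (.lf 0))) (.nd (.nd (.lf 66004) (.lf 0)) (.nd (.lf 0) (.lf 0)))))) (.nd (.nd (.nd (.nd (.nd (.lf 0) (.lf 0)) (.nd (.lf 19923) (.lf 0))) (.nd (.nd (.lf 92564) (.lf 0)) (.nd (.lf 0) (.lf 0)))) (.nd (.nd (.nd (.lf 57747) (.lf 0)) (.nd (.lf 0) (.lf 0))) (.nd (.nd (.lf 0) (.lf 0)) (.nd (.lf 6163) (.lf 0))))) (.nd (.nd (.nd (.nd (.lf 120659) (.lf 0))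 (.nd (.lf 0) (.lf 0))) (.nd (.nd (.lf 0) (.lf 0)) (.nd (.lf 37780) (.lf 0)))) (.nd (.nd (.nd (.lf 13076) (.lf 0)) (.nd (.lf 0) (.lf 0))) (.nd (.nd (.lf 11539) (.lf 0)) (.nd (.lf 0) (.lf 0))))))) (.nd (.nd (.nd (.nd (.nd (.nd (.lf 0) (.lf 0)) (.nd (.lf 19347) (.lf 0))) (.nd (.nd (.lf 0) (.lf 0)) (.nd (.lf 106260) (.lf 0)))) (.nd (.nd (.nd (.lf 60243) (.lf 0)) (.nd (.lf 9748) (.lf 0))) (.nd (.nd (.lf 0) (.lf 0)) (.nd (.lf 115156) (.lf 0))))) (.nd (.nd (.nd (.nd (.lf 0) (.lf 0)) (.nd (.lf 68563) (.lf 0))) (.nd (.nd (.lf 96659) (.lf 0)) (.nd (.lf 0) (.lf 0)))) (.nd (.nd (.nd (.lf 119507) (.lf 0)) (.nd (.lf 38036) (.lf 0))) (.nd (.nd (.lf 84180) (.lf 0)) (.nd (.lf 0) (.lf 0)))))) (.nd (.nd (.nd (.nd (.nd (.lf 35860) (.lf 0)) (.nd (.lf 108948) (.lf 0))) (.nd (.nd (.lf 0) (.lf 0)) (.nd (.lf 80660) (.lf 0))))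 (.nd (.nd (.nd (.lf 32787) (.lf 0)) (.nd (.lf 114771) (.lf 0))) (.nd (.nd (.lf 0) (.lf 0)) (.nd (.lf 70292) (.lf 0))))) (.nd (.nd (.nd (.nd (.lf 101651) (.lf 0)) (.nd (.lf 0) (.lf 0))) (.nd (.nd (.lf 0) (.lf 0)) (.nd (.lf 42515) (.lf 0)))) (.nd (.nd (.nd (.lf 0) (.lf 0)) (.nd (.lf 0) (.lf 0))) (.nd (.nd (.lf 57812) (.lf 0)) (.nd (.lf 129620) (.lf 0)))))))) (.nd (.nd (.nd (.nd (.nd (.nd (.nd (.lf 0) (.lf 0)) (.nd (.lf 129427) (.lf 0))) (.nd (.nd (.lf 0) (.lf 0)) (.nd (.lf 6228) (.lf 0)))) (.nd (.nd (.nd (.lf 90323) (.lf 0)) (.nd (.lf 0) (.lf 0))) (.nd (.nd (.lf 110612) (.lf 0)) (.nd (.lf 6291) (.lf 0))))) (.nd (.nd (.nd (.nd (.lf 50452) (.lf 0)) (.nd (.lf 0) (.lf 0))) (.nd (.nd (.lf 91924) (.lf 0)) (.nd (.lf 0) (.lf 0)))) (.nd (.nd (.nd (.lf 0) (.lf 0)) (.nd (.lf 84243) (.lf 0))) (.nd (.nd (.lf 58708)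 (.lf 0)) (.nd (.lf 95571) (.lf 0)))))) (.nd (.nd (.nd (.nd (.nd (.lf 0) (.lf 0)) (.nd (.lf 52307) (.lf 0))) (.nd (.nd (.lf 121747) (.lf 0)) (.nd (.lf 52883) (.lf 0)))) (.nd (.nd (.nd (.lf 0) (.lf 0)) (.nd (.lf 14163) (.lf 0))) (.nd (.nd (.lf 88916) (.lf 0)) (.nd (.lf 0) (.lf 0))))) (.nd (.nd (.nd (.nd (.lf 78803) (.lf 0)) (.nd (.lf 13652) (.lf 0))) (.nd (.nd (.lf 100115) (.lf 0)) (.nd (.lf 87316) (.lf 0)))) (.nd (.nd (.nd (.lf 0) (.lf 0)) (.nd (.lf 54612) (.lf 0))) (.nd (.nd (.lf 123987) (.lf 0)) (.nd (.lf 74707) (.lf 0))))))) (.nd (.nd (.nd (.nd (.nd (.nd (.lf 0) (.lf 0)) (.nd (.lf 114324) (.lf 0))) (.nd (.nd (.lf 62932) (.lf 0)) (.nd (.lf 13651) (.lf 0)))) (.nd (.nd (.nd (.lf 15635) (.lf 0)) (.nd (.lf 27092) (.lf 0))) (.nd (.nd (.lf 111508) (.lf 0)) (.nd (.lf 1940) (.lf 0))))) (.nd (.nd (.nd (.nd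 (.lf 0) (.lf 0)) (.nd (.lf 0) (.lf 0))) (.nd (.nd (.lf 86868) (.lf 0)) (.nd (.lf 0) (.lf 0)))) (.nd (.nd (.nd (.lf 76243) (.lf 0)) (.nd (.lf 0) (.lf 0))) (.nd (.nd (.lf 125075) (.lf 0)) (.nd (.lf 0) (.lf 0)))))) (.nd (.nd (.nd (.nd (.nd (.lf 0) (.lf 0)) (.nd (.lf 0) (.lf 0))) (.nd (.nd (.lf 26068) (.lf 0)) (.nd (.lf 103316) (.lf 0)))) (.nd (.nd (.nd (.lf 86996) (.lf 0)) (.nd (.lf 41043) (.lf 0))) (.nd (.nd (.lf 60820) (.lf 0)) (.nd (.lf 0) (.lf 0))))) (.nd (.nd (.nd (.nd (.lf 41811) (.lf 0)) (.nd (.lf 0) (.lf 0))) (.nd (.nd (.lf 0) (.lf 0)) (.nd (.lf 52500) (.lf 0)))) (.nd (.nd (.nd (.lf 121428) (.lf 0)) (.nd (.lf 6676) (.lf 0))) (.nd (.nd (.lf 63763) (.lf 0)) (.nd (.lf 0) (.lf 0))))))))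

/-- table part -/
def tT1_2 : Tr :=
  .nd (.nd (.nd (.nd (.nd (.nd (.nd (.nd (.lf 0) (.lf 0)) (.nd (.lf 28627) (.lf 0))) (.nd (.nd (.lf 94611) (.lf 0)) (.nd (.lf 0) (.lf 0)))) (.nd (.nd (.nd (.lf 52692) (.lf 0)) (.nd (.lf 0) (.lf 0))) (.nd (.nd (.lf 0) (.lf 0)) (.nd (.lf 17171) (.lf 0))))) (.nd (.nd (.nd (.nd (.lf 0) (.lf 0)) (.nd (.lf 0) (.lf 0))) (.nd (.nd (.lf 19731) (.lf 0)) (.nd (.lf 0) (.lf 0)))) (.nd (.nd (.nd (.lf 93587) (.lf 0)) (.nd (.lf 110868) (.lf 0))) (.nd (.nd (.lf 0) (.lf 0)) (.nd (.lf 0) (.lf 0)))))) (.nd (.nd (.nd (.nd (.nd (.lf 0) (.lf 0)) (.nd (.lf 0) (.lf 0))) (.nd (.nd (.lf 127316) (.lf 0)) (.nd (.lf 15059) (.lf 0)))) (.nd (.nd (.nd (.lf 59412) (.lf 0)) (.nd (.lf 0) (.lf 0))) (.nd (.nd (.lf 12180) (.lf 0)) (.nd (.lf 27027) (.lf 0))))) (.nd (.nd (.nd (.nd (.lf 46675) (.lf 0))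 (.nd (.lf 16979) (.lf 0))) (.nd (.nd (.lf 0) (.lf 0)) (.nd (.lf 8404) (.lf 0)))) (.nd (.nd (.nd (.lf 39828) (.lf 0)) (.nd (.lf 53908) (.lf 0))) (.nd (.nd (.lf 40915) (.lf 0)) (.nd (.lf 82004) (.lf 0))))))) (.nd (.nd (.nd (.nd (.nd (.nd (.lf 116243) (.lf 0)) (.nd (.lf 120275) (.lf 0))) (.nd (.nd (.lf 69780) (.lf 0)) (.nd (.lf 98004) (.lf 0)))) (.nd (.nd (.nd (.lf 106452) (.lf 0)) (.nd (.lf 110099) (.lf 0))) (.nd (.nd (.lf 128979) (.lf 0)) (.nd (.lf 128595) (.lf 0))))) (.nd (.nd (.nd (.nd (.lf 130899) (.lf 0)) (.nd (.lf 57364) (.lf 0))) (.nd (.nd (.lf 8788) (.lf 0)) (.nd (.lf 22099) (.lf 0)))) (.nd (.nd (.nd (.lf 116307) (.lf 0)) (.nd (.lf 69843) (.lf 0))) (.nd (.nd (.lf 0) (.lf 0)) (.nd (.lf 112980) (.lf 0)))))) (.nd (.nd (.nd (.nd (.nd (.lf 65875) (.lf 0)) (.nd (.lf 0) (.lf 0))) (.nd (.nd (.lf 124755)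 (.lf 0)) (.nd (.lf 128276) (.lf 0)))) (.nd (.nd (.nd (.lf 0) (.lf 0)) (.nd (.lf 0) (.lf 0))) (.nd (.nd (.lf 89684) (.lf 0)) (.nd (.lf 0) (.lf 0))))) (.nd (.nd (.nd (.nd (.lf 77075) (.lf 0)) (.nd (.lf 47635) (.lf 0))) (.nd (.nd (.lf 91476) (.lf 0)) (.nd (.lf 18259) (.lf 0)))) (.nd (.nd (.nd (.lf 109908) (.lf 0)) (.nd (.lf 33555) (.lf 0))) (.nd (.nd (.lf 55956) (.lf 0)) (.nd (.lf 101972) (.lf 0)))))))) (.nd (.nd (.nd (.nd (.nd (.nd (.nd (.lf 0) (.lf 0)) (.nd (.lf 0) (.lf 0))) (.nd (.nd (.lf 25044) (.lf 0)) (.nd (.lf 0) (.lf 0)))) (.nd (.nd (.nd (.lf 0) (.lf 0)) (.nd (.lf 25876) (.lf 0))) (.nd (.nd (.lf 0) (.lf 0)) (.nd (.lf 7123) (.lf 0))))) (.nd (.nd (.nd (.nd (.lf 88339) (.lf 0)) (.nd (.lf 28436) (.lf 0))) (.nd (.nd (.lf 45715) (.lf 0)) (.nd (.lf 0) (.lf 0)))) (.nd (.nd (.nd (.lf 72532) (.lf 0)) (.nd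 (.lf 0) (.lf 0))) (.nd (.nd (.lf 51091) (.lf 0)) (.nd (.lf 0) (.lf 0)))))) (.nd (.nd (.nd (.nd (.nd (.lf 0) (.lf 0)) (.nd (.lf 0) (.lf 0))) (.nd (.nd (.lf 55187) (.lf 0)) (.nd (.lf 0) (.lf 0)))) (.nd (.nd (.nd (.lf 0) (.lf 0)) (.nd (.lf 0) (.lf 0))) (.nd (.nd (.lf 0) (.lf 0)) (.nd (.lf 123284) (.lf 0))))) (.nd (.nd (.nd (.nd (.lf 0) (.lf 0)) (.nd (.lf 0) (.lf 0))) (.nd (.nd (.lf 20372) (.lf 0)) (.nd (.lf 0) (.lf 0)))) (.nd (.nd (.nd (.lf 123668) (.lf 0)) (.nd (.lf 87188) (.lf 0))) (.nd (.nd (.lf 126867) (.lf 0)) (.nd (.lf 0) (.lf 0))))))) (.nd (.nd (.nd (.nd (.nd (.nd (.lf 0) (.lf 0)) (.nd (.lf 53523) (.lf 0))) (.nd (.nd (.lf 0) (.lf 0)) (.nd (.lf 0) (.lf 0)))) (.nd (.nd (.nd (.lf 74388) (.lf 0)) (.nd (.lf 94291) (.lf 0))) (.nd (.nd (.lf 119763) (.lf 0)) (.nd (.lf 23187) (.lf 0))))) (.nd (.nd (.nd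 (.nd (.lf 0) (.lf 0)) (.nd (.lf 124179) (.lf 0))) (.nd (.nd (.lf 127891) (.lf 0)) (.nd (.lf 130516) (.lf 0)))) (.nd (.nd (.nd (.lf 0) (.lf 0)) (.nd (.lf 109524) (.lf 0))) (.nd (.nd (.lf 0) (.lf 0)) (.nd (.lf 0) (.lf 0)))))) (.nd (.nd (.nd (.nd (.nd (.lf 59604) (.lf 0)) (.nd (.lf 0) (.lf 0))) (.nd (.nd (.lf 40340) (.lf 0)) (.nd (.lf 53652) (.lf 0)))) (.nd (.nd (.nd (.lf 0) (.lf 0)) (.nd (.lf 37523) (.lf 0))) (.nd (.nd (.lf 25747) (.lf 0)) (.nd (.lf 0) (.lf 0))))) (.nd (.nd (.nd (.nd (.lf 0) (.lf 0)) (.nd (.lf 123859) (.lf 0))) (.nd (.nd (.lf 112852) (.lf 0)) (.nd (.lf 0) (.lf 0)))) (.nd (.nd (.nd (.lf 118484) (.lf 0)) (.nd (.lf 9747) (.lf 0))) (.nd (.nd (.lf 36820) (.lf 0)) (.nd (.lf 59796) (.lf 0))))))))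

/-- table part -/
def tT1_3 : Tr :=
  .nd (.nd (.nd (.nd (.nd (.nd (.nd (.nd (.lf 0) (.lf 59411)) (.nd (.lf 0) (.lf 0))) (.nd (.nd (.lf 0) (.lf 0)) (.nd (.lf 0) (.lf 0)))) (.nd (.nd (.nd (.lf 0) (.lf 0)) (.nd (.lf 57556) (.lf 0))) (.nd (.nd (.lf 74580) (.lf 0)) (.nd (.lf 26708) (.lf 0))))) (.nd (.nd (.nd (.nd (.lf 23251) (.lf 0)) (.nd (.lf 0) (.lf 0))) (.nd (.nd (.lf 34452) (.lf 0)) (.nd (.lf 0) (.lf 0)))) (.nd (.nd (.nd (.lf 0) (.lf 0)) (.nd (.lf 0) (.lf 0))) (.nd (.nd (.lf 55060) (.lf 0)) (.nd (.lf 0) (.lf 0)))))) (.nd (.nd (.nd (.nd (.nd (.lf 31700) (.lf 0)) (.nd (.lf 17299) (.lf 0))) (.nd (.nd (.lf 0) (.lf 0)) (.nd (.lf 52564) (.lf 0)))) (.nd (.nd (.nd (.lf 95828) (.lf 0)) (.nd (.lf 121748) (.lf 0))) (.nd (.nd (.lf 129875) (.lf 0)) (.nd (.lf 53011) (.lf 0))))) (.nd (.nd (.nd (.nd (.lf 0) (.lf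 0)) (.nd (.lf 0) (.lf 0))) (.nd (.nd (.lf 43987) (.lf 0)) (.nd (.lf 56020) (.lf 0)))) (.nd (.nd (.nd (.lf 0) (.lf 0)) (.nd (.lf 101780) (.lf 0))) (.nd (.nd (.lf 54867) (.lf 0)) (.nd (.lf 0) (.lf 0))))))) (.nd (.nd (.nd (.nd (.nd (.nd (.lf 0) (.lf 0)) (.nd (.lf 17300) (.lf 0))) (.nd (.nd (.lf 0) (.lf 0)) (.nd (.lf 63827) (.lf 0)))) (.nd (.nd (.nd (.lf 21908) (.lf 0)) (.nd (.lf 120147) (.lf 0))) (.nd (.nd (.lf 0) (.lf 0)) (.nd (.lf 53779) (.lf 0))))) (.nd (.nd (.nd (.nd (.lf 128211) (.lf 0)) (.nd (.lf 74067) (.lf 0))) (.nd (.nd (.lf 22100) (.lf 0)) (.nd (.lf 0) (.lf 0)))) (.nd (.nd (.nd (.lf 34067) (.lf 0)) (.nd (.lf 93267) (.lf 0))) (.nd (.nd (.lf 107220) (.lf 0)) (.nd (.lf 112275) (.lf 0)))))) (.nd (.nd (.nd (.nd (.nd (.lf 0) (.lf 0)) (.nd (.lf 0) (.lf 0))) (.nd (.nd (.lf 114580) (.lf 0)) (.nd (.lf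 0) (.lf 0)))) (.nd (.nd (.nd (.lf 0) (.lf 0)) (.nd (.lf 114772) (.lf 0))) (.nd (.nd (.lf 0) (.lf 0)) (.nd (.lf 95187) (.lf 0))))) (.nd (.nd (.nd (.nd (.lf 0) (.lf 0)) (.nd (.lf 39572) (.lf 0))) (.nd (.nd (.lf 101779) (.lf 0)) (.nd (.lf 53012) (.lf 0)))) (.nd (.nd (.nd (.lf 0) (.lf 0)) (.nd (.lf 61076) (.lf 0))) (.nd (.nd (.lf 12179) (.lf 0)) (.nd (.lf 0) (.lf 0)))))))) (.nd (.nd (.nd (.nd (.nd (.nd (.nd (.lf 77908) (.lf 0)) (.nd (.lf 595) (.lf 0))) (.nd (.nd (.lf 27476) (.lf 0)) (.nd (.lf 27028) (.lf 0)))) (.nd (.nd (.nd (.lf 34388) (.lf 0)) (.nd (.lf 51156) (.lf 0))) (.nd (.nd (.lf 596) (.lf 0)) (.nd (.lf 0) (.lf 0))))) (.nd (.nd (.nd (.nd (.lf 49812) (.lf 0)) (.nd (.lf 35987) (.lf 0))) (.nd (.nd (.lf 96724) (.lf 0)) (.nd (.lf 70676) (.lf 0)))) (.nd (.nd (.nd (.lf 12948) (.lf 0)) (.nd (.lf 99348)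 (.lf 0))) (.nd (.nd (.lf 43155) (.lf 0)) (.nd (.lf 66579) (.lf 0)))))) (.nd (.nd (.nd (.nd (.nd (.lf 30547) (.lf 0)) (.nd (.lf 87187) (.lf 0))) (.nd (.nd (.lf 81427) (.lf 0)) (.nd (.lf 0) (.lf 0)))) (.nd (.nd (.nd (.lf 0) (.lf 0)) (.nd (.lf 103188) (.lf 0))) (.nd (.nd (.lf 52948) (.lf 0)) (.nd (.lf 81620) (.lf 0))))) (.nd (.nd (.nd (.nd (.lf 0) (.lf 0)) (.nd (.lf 75347) (.lf 0))) (.nd (.nd (.lf 69524) (.lf 0)) (.nd (.lf 67859) (.lf 0)))) (.nd (.nd (.nd (.lf 0) (.lf 0)) (.nd (.lf 0) (.lf 0))) (.nd (.nd (.lf 52947) (.lf 0)) (.nd (.lf 46163) (.lf 0))))))) (.nd (.nd (.nd (.nd (.nd (.nd (.lf 68884) (.lf 0)) (.nd (.lf 99284) (.lf 0))) (.nd (.nd (.lf 28116) (.lf 0)) (.nd (.lf 23763) (.lf 0)))) (.nd (.nd (.nd (.lf 78035) (.lf 0)) (.nd (.lf 25363) (.lf 0))) (.nd (.nd (.lf 104147) (.lf 0)) (.nd (.lf 0) (.lf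 0))))) (.nd (.nd (.nd (.nd (.lf 72275) (.lf 0)) (.nd (.lf 11091) (.lf 0))) (.nd (.nd (.lf 34324) (.lf 0)) (.nd (.lf 8019) (.lf 0)))) (.nd (.nd (.nd (.lf 0) (.lf 0)) (.nd (.lf 0) (.lf 0))) (.nd (.nd (.lf 63252) (.lf 0)) (.nd (.lf 96915) (.lf 0)))))) (.nd (.nd (.nd (.nd (.nd (.lf 0) (.lf 0)) (.nd (.lf 99603) (.lf 0))) (.nd (.nd (.lf 89043) (.lf 0)) (.nd (.lf 89363) (.lf 0)))) (.nd (.nd (.nd (.lf 19348) (.lf 0)) (.nd (.lf 50260) (.lf 0))) (.nd (.nd (.lf 18260) (.lf 0)) (.nd (.lf 113172) (.lf 0))))) (.nd (.nd (.nd (.nd (.lf 117972) (.lf 0)) (.nd (.lf 110867) (.lf 0))) (.nd (.nd (.lf 109780) (.lf 0)) (.nd (.lf 99604) (.lf 0)))) (.nd (.nd (.nd (.lf 0) (.lf 0)) (.nd (.lf 64532) (.lf 0))) (.nd (.nd (.lf 0) (.lf 0)) (.nd (.lf 0) (.lf 0))))))))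

/-- table part -/
def tT1_4 : Tr :=
  .nd (.nd (.nd (.nd (.nd (.nd (.nd (.nd (.lf 0) (.lf 0)) (.nd (.lf 0) (.lf 0))) (.nd (.nd (.lf 58388) (.lf 0)) (.nd (.lf 0) (.lf 0)))) (.nd (.nd (.nd (.lf 16915) (.lf 0)) (.nd (.lf 0) (.lf 0))) (.nd (.nd (.lf 97875) (.lf 0)) (.nd (.lf 110035) (.lf 0))))) (.nd (.nd (.nd (.nd (.lf 96339) (.lf 0)) (.nd (.lf 0) (.lf 0))) (.nd (.nd (.lf 0) (.lf 0)) (.nd (.lf 8532) (.lf 0)))) (.nd (.nd (.nd (.lf 31315) (.lf 0)) (.nd (.lf 116692) (.lf 0))) (.nd (.nd (.lf 122964) (.lf 0)) (.nd (.lf 119124) (.lf 0)))))) (.nd (.nd (.nd (.nd (.nd (.lf 24532) (.lf 0)) (.nd (.lf 20308) (.lf 0))) (.nd (.nd (.lf 45332) (.lf 0)) (.nd (.lf 91603) (.lf 0)))) (.nd (.nd (.nd (.lf 0) (.lf 0)) (.nd (.lf 65939) (.lf 0))) (.nd (.nd (.lf 0) (.lf 0)) (.nd (.lf 96020) (.lf 0))))) (.nd (.nd (.nd (.nd (.lf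 23572) (.lf 0)) (.nd (.lf 107091) (.lf 0))) (.nd (.nd (.lf 0) (.lf 0)) (.nd (.lf 0) (.lf 0)))) (.nd (.nd (.nd (.lf 70291) (.lf 0)) (.nd (.lf 0) (.lf 0))) (.nd (.nd (.lf 0) (.lf 0)) (.nd (.lf 0) (.lf 0))))))) (.nd (.nd (.nd (.nd (.nd (.nd (.lf 0) (.lf 0)) (.nd (.lf 121556) (.lf 0))) (.nd (.nd (.lf 0) (.lf 0)) (.nd (.lf 0) (.lf 0)))) (.nd (.nd (.nd (.lf 0) (.lf 0)) (.nd (.lf 0) (.lf 0))) (.nd (.nd (.lf 0) (.lf 0)) (.nd (.lf 0) (.lf 0))))) (.nd (.nd (.nd (.nd (.lf 0) (.lf 0)) (.nd (.lf 0) (.lf 0))) (.nd (.nd (.lf 126227) (.lf 0)) (.nd (.lf 0) (.lf 0)))) (.nd (.nd (.nd (.lf 24467) (.lf 0)) (.nd (.lf 115412) (.lf 0))) (.nd (.nd (.lf 114644) (.lf 0)) (.nd (.lf 126611) (.lf 0)))))) (.nd (.nd (.nd (.nd (.nd (.lf 0) (.lf 0)) (.nd (.lf 8020) (.lf 0))) (.nd (.nd (.lf 0) (.lf 0)) (.nd (.lf 49300) (.lf 0)))) (.nd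 (.nd (.nd (.lf 0) (.lf 0)) (.nd (.lf 76116) (.lf 0))) (.nd (.nd (.lf 0) (.lf 0)) (.nd (.lf 123988) (.lf 0))))) (.nd (.nd (.nd (.nd (.lf 0) (.lf 0)) (.nd (.lf 109715) (.lf 0))) (.nd (.nd (.lf 28563) (.lf 0)) (.nd (.lf 0) (.lf 0)))) (.nd (.nd (.nd (.lf 87059) (.lf 0)) (.nd (.lf 82515) (.lf 0))) (.nd (.nd (.lf 99539) (.lf 0)) (.nd (.lf 0) (.lf 0)))))))) (.nd (.nd (.nd (.nd (.nd (.nd (.nd (.lf 2451) (.lf 0)) (.nd (.lf 95635) (.lf 0))) (.nd (.nd (.lf 77907) (.lf 0)) (.nd (.lf 117332) (.lf 0)))) (.nd (.nd (.nd (.lf 85460) (.lf 0)) (.nd (.lf 30355) (.lf 0))) (.nd (.nd (.lf 93651) (.lf 0)) (.nd (.lf 38164) (.lf 0))))) (.nd (.nd (.nd (.nd (.lf 122196) (.lf 0)) (.nd (.lf 0) (.lf 0))) (.nd (.nd (.lf 123795) (.lf 0)) (.nd (.lf 22676) (.lf 0)))) (.nd (.nd (.nd (.lf 64404) (.lf 0)) (.nd (.lf 61972) (.lf 0))) (.nd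 (.nd (.lf 83475) (.lf 0)) (.nd (.lf 0) (.lf 0)))))) (.nd (.nd (.nd (.nd (.nd (.lf 70804) (.lf 0)) (.nd (.lf 87123) (.lf 0))) (.nd (.nd (.lf 104915) (.lf 0)) (.nd (.lf 127507) (.lf 0)))) (.nd (.nd (.nd (.lf 78036) (.lf 0)) (.nd (.lf 70996) (.lf 0))) (.nd (.nd (.lf 81812) (.lf 0)) (.nd (.lf 0) (.lf 0))))) (.nd (.nd (.nd (.nd (.lf 0) (.lf 0)) (.nd (.lf 40084) (.lf 0))) (.nd (.nd (.lf 0) (.lf 0)) (.nd (.lf 0) (.lf 0)))) (.nd (.nd (.nd (.lf 0) (.lf 0)) (.nd (.lf 118612) (.lf 0))) (.nd (.nd (.lf 90708) (.lf 0)) (.nd (.lf 0) (.lf 0))))))) (.nd (.nd (.nd (.nd (.nd (.nd (.lf 0) (.lf 0)) (.nd (.lf 104595) (.lf 0))) (.nd (.nd (.lf 69076) (.lf 0)) (.nd (.lf 0) (.lf 0)))) (.nd (.nd (.nd (.lf 0) (.lf 0)) (.nd (.lf 0) (.lf 0))) (.nd (.nd (.lf 114260) (.lf 0)) (.nd (.lf 39444) (.lf 0))))) (.nd (.nd (.nd (.nd (.lf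 0) (.lf 0)) (.nd (.lf 0) (.lf 0))) (.nd (.nd (.lf 0) (.lf 0)) (.nd (.lf 0) (.lf 0)))) (.nd (.nd (.nd (.lf 120148) (.lf 0)) (.nd (.lf 0) (.lf 0))) (.nd (.nd (.lf 37908) (.lf 0)) (.nd (.lf 40020) (.lf 0)))))) (.nd (.nd (.nd (.nd (.nd (.lf 0) (.lf 0)) (.nd (.lf 0) (.lf 0))) (.nd (.nd (.lf 16467) (.lf 0)) (.nd (.lf 73939) (.lf 0)))) (.nd (.nd (.nd (.lf 0) (.lf 0)) (.nd (.lf 64147) (.lf 0))) (.nd (.nd (.lf 0) (.lf 0)) (.nd (.lf 0) (.lf 0))))) (.nd (.nd (.nd (.nd (.lf 0) (.lf 0)) (.nd (.lf 35411) (.lf 0))) (.nd (.nd (.lf 0) (.lf 0)) (.nd (.lf 108947) (.lf 0)))) (.nd (.nd (.nd (.lf 0) (.lf 0)) (.nd (.lf 110291) (.lf 0))) (.nd (.nd (.lf 0) (.lf 0)) (.nd (.lf 0) (.lf 0))))))))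

/-- table part -/
def tT1_5 : Tr :=
  .nd (.nd (.nd (.nd (.nd (.nd (.nd (.nd (.lf 13140) (.lf 31380)) (.nd (.lf 65876) (.lf 0))) (.nd (.nd (.lf 0) (.lf 0)) (.nd (.lf 69651) (.lf 0)))) (.nd (.nd (.nd (.lf 0) (.lf 0)) (.nd (.lf 26451) (.lf 0))) (.nd (.nd (.lf 123667) (.lf 0)) (.nd (.lf 56787) (.lf 0))))) (.nd (.nd (.nd (.nd (.lf 0) (.lf 0)) (.nd (.lf 17875) (.lf 0))) (.nd (.nd (.lf 0) (.lf 0)) (.nd (.lf 0) (.lf 0)))) (.nd (.nd (.nd (.lf 104979) (.lf 0)) (.nd (.lf 46484) (.lf 0))) (.nd (.nd (.lf 62740) (.lf 0)) (.nd (.lf 42579) (.lf 0)))))) (.nd (.nd (.nd (.nd (.nd (.lf 0) (.lf 0)) (.nd (.lf 66068) (.lf 0))) (.nd (.nd (.lf 22932) (.lf 0)) (.nd (.lf 0) (.lf 0)))) (.nd (.nd (.nd (.lf 0) (.lf 0)) (.nd (.lf 59668) (.lf 0))) (.nd (.nd (.lf 0) (.lf 0)) (.nd (.lf 111123) (.lf 0))))) (.nd (.nd (.nd (.nd (.lf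 0) (.lf 0)) (.nd (.lf 97939) (.lf 0))) (.nd (.nd (.lf 113043) (.lf 0)) (.nd (.lf 106387) (.lf 0)))) (.nd (.nd (.nd (.lf 44564) (.lf 0)) (.nd (.lf 93140) (.lf 0))) (.nd (.nd (.lf 65684) (.lf 0)) (.nd (.lf 0) (.lf 0))))))) (.nd (.nd (.nd (.nd (.nd (.nd (.lf 0) (.lf 0)) (.nd (.lf 34132) (.lf 0))) (.nd (.nd (.lf 0) (.lf 0)) (.nd (.lf 0) (.lf 0)))) (.nd (.nd (.nd (.lf 0) (.lf 0)) (.nd (.lf 0) (.lf 0))) (.nd (.nd (.lf 0) (.lf 0)) (.nd (.lf 118483) (.lf 0))))) (.nd (.nd (.nd (.nd (.lf 0) (.lf 0)) (.nd (.lf 90260) (.lf 0))) (.nd (.nd (.lf 54419) (.lf 0)) (.nd (.lf 36500) (.lf 0)))) (.nd (.nd (.nd (.lf 49427) (.lf 0)) (.nd (.lf 0) (.lf 0))) (.nd (.nd (.lf 89299) (.lf 0)) (.nd (.lf 1427) (.lf 0)))))) (.nd (.nd (.nd (.nd (.nd (.lf 44372) (.lf 0)) (.nd (.lf 0) (.lf 0))) (.nd (.nd (.lf 0) (.lf 0)) (.nd (.lf 37972)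 (.lf 0)))) (.nd (.nd (.nd (.lf 49939) (.lf 0)) (.nd (.lf 58132) (.lf 0))) (.nd (.nd (.lf 0) (.lf 0)) (.nd (.lf 0) (.lf 0))))) (.nd (.nd (.nd (.nd (.lf 0) (.lf 0)) (.nd (.lf 104212) (.lf 0))) (.nd (.nd (.lf 59348) (.lf 0)) (.nd (.lf 85076) (.lf 0)))) (.nd (.nd (.nd (.lf 113363) (.lf 0)) (.nd (.lf 6036) (.lf 0))) (.nd (.nd (.lf 105747) (.lf 0)) (.nd (.lf 0) (.lf 0)))))))) (.nd (.nd (.nd (.nd (.nd (.nd (.nd (.lf 0) (.lf 0)) (.nd (.lf 0) (.lf 0))) (.nd (.nd (.lf 0) (.lf 0)) (.nd (.lf 105556) (.lf 0)))) (.nd (.nd (.nd (.lf 23188) (.lf 0)) (.nd (.lf 0) (.lf 0))) (.nd (.nd (.lf 0) (.lf 0)) (.nd (.lf 18964) (.lf 0))))) (.nd (.nd (.nd (.nd (.lf 101971) (.lf 0)) (.nd (.lf 119315) (.lf 0))) (.nd (.nd (.lf 6740) (.lf 0)) (.nd (.lf 32276) (.lf 0)))) (.nd (.nd (.nd (.lf 89876) (.lf 0)) (.nd (.lf 0) (.lf 0))) (.nd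 (.nd (.lf 36755) (.lf 0)) (.nd (.lf 101011) (.lf 0)))))) (.nd (.nd (.nd (.nd (.nd (.lf 127379) (.lf 0)) (.nd (.lf 46931) (.lf 0))) (.nd (.nd (.lf 32659) (.lf 0)) (.nd (.lf 0) (.lf 0)))) (.nd (.nd (.nd (.lf 0) (.lf 0)) (.nd (.lf 61971) (.lf 0))) (.nd (.nd (.lf 25939) (.lf 0)) (.nd (.lf 46803) (.lf 0))))) (.nd (.nd (.nd (.nd (.lf 9620) (.lf 0)) (.nd (.lf 102740) (.lf 0))) (.nd (.nd (.lf 41044) (.lf 0)) (.nd (.lf 108692) (.lf 0)))) (.nd (.nd (.nd (.lf 0) (.lf 0)) (.nd (.lf 0) (.lf 0))) (.nd (.nd (.lf 0) (.lf 0)) (.nd (.lf 68244) (.lf 0))))))) (.nd (.nd (.nd (.nd (.nd (.nd (.lf 130196) (.lf 0)) (.nd (.lf 67348) (.lf 0))) (.nd (.nd (.lf 109204) (.lf 0)) (.nd (.lf 723) (.lf 0)))) (.nd (.nd (.nd (.lf 0) (.lf 0)) (.nd (.lf 118419) (.lf 0))) (.nd (.nd (.lf 84563) (.lf 0)) (.nd (.lf 0) (.lf 0))))) (.nd (.nd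 (.nd (.nd (.lf 80084) (.lf 0)) (.nd (.lf 0) (.lf 0))) (.nd (.nd (.lf 58324) (.lf 0)) (.nd (.lf 125267) (.lf 0)))) (.nd (.nd (.nd (.lf 0) (.lf 0)) (.nd (.lf 120915) (.lf 0))) (.nd (.nd (.lf 125140) (.lf 0)) (.nd (.lf 0) (.lf 0)))))) (.nd (.nd (.nd (.nd (.nd (.lf 0) (.lf 0)) (.nd (.lf 103828) (.lf 0))) (.nd (.nd (.lf 5779) (.lf 0)) (.nd (.lf 35732) (.lf 0)))) (.nd (.nd (.nd (.lf 17684) (.lf 0)) (.nd (.lf 54611) (.lf 0))) (.nd (.nd (.lf 0) (.lf 0)) (.nd (.lf 123092) (.lf 0))))) (.nd (.nd (.nd (.nd (.lf 97364) (.lf 0)) (.nd (.lf 41875) (.lf 0))) (.nd (.nd (.lf 70547) (.lf 0)) (.nd (.lf 40276) (.lf 0)))) (.nd (.nd (.nd (.lf 80275) (.lf 0)) (.nd (.lf 6675) (.lf 0))) (.nd (.nd (.lf 0) (.lf 0)) (.nd (.lf 97876) (.lf 0))))))))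

/-- table part -/
def tT1_6 : Tr :=
  .nd (.nd (.nd (.nd (.nd (.nd (.nd (.nd (.lf 78228) (.lf 0)) (.nd (.lf 0) (.lf 0))) (.nd (.nd (.lf 0) (.lf 0)) (.nd (.lf 0) (.lf 0)))) (.nd (.nd (.nd (.lf 0) (.lf 0)) (.nd (.lf 0) (.lf 0))) (.nd (.nd (.lf 57811) (.lf 0)) (.nd (.lf 0) (.lf 0))))) (.nd (.nd (.nd (.nd (.lf 0) (.lf 0)) (.nd (.lf 90132) (.lf 0))) (.nd (.nd (.lf 18196) (.lf 0)) (.nd (.lf 20179) (.lf 0)))) (.nd (.nd (.nd (.lf 78420) (.lf 0)) (.nd (.lf 0) (.lf 0))) (.nd (.nd (.lf 0) (.lf 0)) (.nd (.lf 42004) (.lf 0)))))) (.nd (.nd (.nd (.nd (.nd (.lf 41555) (.lf 0)) (.nd (.lf 131540) (.lf 0))) (.nd (.nd (.lf 70612) (.lf 0)) (.nd (.lf 69844) (.lf 0)))) (.nd (.nd (.nd (.lf 6164) (.lf 0)) (.nd (.lf 89108) (.lf 0))) (.nd (.nd (.lf 89364) (.lf 0)) (.nd (.lf 64916) (.lf 0))))) (.nd (.nd (.nd (.nd (.lf 77652)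 (.lf 0)) (.nd (.lf 9044) (.lf 0))) (.nd (.nd (.lf 82899) (.lf 0)) (.nd (.lf 93395) (.lf 0)))) (.nd (.nd (.nd (.lf 0) (.lf 0)) (.nd (.lf 68499) (.lf 0))) (.nd (.nd (.lf 0) (.lf 0)) (.nd (.lf 0) (.lf 0))))))) (.nd (.nd (.nd (.nd (.nd (.nd (.lf 130708) (.lf 0)) (.nd (.lf 91220) (.lf 0))) (.nd (.nd (.lf 88660) (.lf 0)) (.nd (.lf 94675) (.lf 0)))) (.nd (.nd (.nd (.lf 0) (.lf 0)) (.nd (.lf 107668) (.lf 0))) (.nd (.nd (.lf 110292) (.lf 0)) (.nd (.lf 0) (.lf 0))))) (.nd (.nd (.nd (.nd (.lf 0) (.lf 0)) (.nd (.lf 0) (.lf 0))) (.nd (.nd (.lf 0) (.lf 0)) (.nd (.lf 22547) (.lf 0)))) (.nd (.nd (.nd (.lf 103315) (.lf 0)) (.nd (.lf 79059) (.lf 0))) (.nd (.nd (.lf 31316) (.lf 0)) (.nd (.lf 0) (.lf 0)))))) (.nd (.nd (.nd (.nd (.nd (.lf 89172) (.lf 0)) (.nd (.lf 68436) (.lf 0))) (.nd (.nd (.lf 127892) (.lf 0)) (.nd (.lf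 105620) (.lf 0)))) (.nd (.nd (.nd (.lf 72915) (.lf 0)) (.nd (.lf 0) (.lf 0))) (.nd (.nd (.lf 32788) (.lf 0)) (.nd (.lf 67476) (.lf 0))))) (.nd (.nd (.nd (.nd (.lf 0) (.lf 0)) (.nd (.lf 6227) (.lf 0))) (.nd (.nd (.lf 46483) (.lf 0)) (.nd (.lf 0) (.lf 0)))) (.nd (.nd (.nd (.lf 1363) (.lf 0)) (.nd (.lf 117651) (.lf 0))) (.nd (.nd (.lf 43731) (.lf 0)) (.nd (.lf 69523) (.lf 0)))))))) (.nd (.nd (.nd (.nd (.nd (.nd (.nd (.lf 0) (.lf 0)) (.nd (.lf 0) (.lf 0))) (.nd (.nd (.lf 107411) (.lf 0)) (.nd (.lf 78227) (.lf 0)))) (.nd (.nd (.nd (.lf 0) (.lf 0)) (.nd (.lf 36756) (.lf 0))) (.nd (.nd (.lf 0) (.lf 0)) (.nd (.lf 26515) (.lf 0))))) (.nd (.nd (.nd (.nd (.lf 50580) (.lf 0)) (.nd (.lf 130964) (.lf 0))) (.nd (.nd (.lf 37395) (.lf 0)) (.nd (.lf 0) (.lf 0)))) (.nd (.nd (.nd (.lf 96467) (.lf 0)) (.nd (.lf 33619)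 (.lf 0))) (.nd (.nd (.lf 83731) (.lf 0)) (.nd (.lf 79699) (.lf 0)))))) (.nd (.nd (.nd (.nd (.nd (.lf 38740) (.lf 0)) (.nd (.lf 20307) (.lf 0))) (.nd (.nd (.lf 64851) (.lf 0)) (.nd (.lf 0) (.lf 0)))) (.nd (.nd (.nd (.lf 0) (.lf 0)) (.nd (.lf 0) (.lf 0))) (.nd (.nd (.lf 83412) (.lf 0)) (.nd (.lf 0) (.lf 0))))) (.nd (.nd (.nd (.nd (.lf 0) (.lf 0)) (.nd (.lf 0) (.lf 0))) (.nd (.nd (.lf 94163) (.lf 0)) (.nd (.lf 92116) (.lf 0)))) (.nd (.nd (.nd (.lf 86675) (.lf 0)) (.nd (.lf 101844) (.lf 0))) (.nd (.nd (.lf 80403) (.lf 0)) (.nd (.lf 71443) (.lf 0))))))) (.nd (.nd (.nd (.nd (.nd (.nd (.lf 46228) (.lf 0)) (.nd (.lf 125460) (.lf 0))) (.nd (.nd (.lf 125139) (.lf 0)) (.nd (.lf 0) (.lf 0)))) (.nd (.nd (.nd (.lf 32596) (.lf 0)) (.nd (.lf 88659) (.lf 0))) (.nd (.nd (.lf 117331) (.lf 0)) (.nd (.lf 72980) (.lf 0)))))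 (.nd (.nd (.nd (.nd (.lf 0) (.lf 0)) (.nd (.lf 58452) (.lf 0))) (.nd (.nd (.lf 72020) (.lf 0)) (.nd (.lf 0) (.lf 0)))) (.nd (.nd (.nd (.lf 0) (.lf 0)) (.nd (.lf 0) (.lf 0))) (.nd (.nd (.lf 114068) (.lf 0)) (.nd (.lf 128916) (.lf 0)))))) (.nd (.nd (.nd (.nd (.nd (.lf 125268) (.lf 0)) (.nd (.lf 0) (.lf 0))) (.nd (.nd (.lf 115540) (.lf 0)) (.nd (.lf 51411) (.lf 0)))) (.nd (.nd (.nd (.lf 98196) (.lf 0)) (.nd (.lf 91092) (.lf 0))) (.nd (.nd (.lf 115860) (.lf 0)) (.nd (.lf 117715) (.lf 0))))) (.nd (.nd (.nd (.nd (.lf 0) (.lf 0)) (.nd (.lf 81171) (.lf 0))) (.nd (.nd (.lf 107604) (.lf 0)) (.nd (.lf 40148) (.lf 0)))) (.nd (.nd (.nd (.lf 34644) (.lf 0)) (.nd (.lf 2515) (.lf 0))) (.nd (.nd (.lf 0) (.lf 0)) (.nd (.lf 27475) (.lf 0))))))))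

/-- table part -/
def tT1_7 : Tr :=
  .nd (.nd (.nd (.nd (.nd (.nd (.nd (.nd (.lf 23956) (.lf 120660)) (.nd (.lf 111188) (.lf 0))) (.nd (.nd (.lf 0) (.lf 0)) (.nd (.lf 100052) (.lf 0)))) (.nd (.nd (.nd (.lf 83603) (.lf 0)) (.nd (.lf 0) (.lf 0))) (.nd (.nd (.lf 0) (.lf 0)) (.nd (.lf 0) (.lf 0))))) (.nd (.nd (.nd (.nd (.lf 0) (.lf 0)) (.nd (.lf 96403) (.lf 0))) (.nd (.nd (.lf 3731) (.lf 0)) (.nd (.lf 55252) (.lf 0)))) (.nd (.nd (.nd (.lf 60435) (.lf 0)) (.nd (.lf 0) (.lf 0))) (.nd (.nd (.lf 58067) (.lf 0)) (.nd (.lf 89300) (.lf 0)))))) (.nd (.nd (.nd (.nd (.nd (.lf 46548) (.lf 0)) (.nd (.lf 47764) (.lf 0))) (.nd (.nd (.lf 103059) (.lf 0)) (.nd (.lf 85588) (.lf 0)))) (.nd (.nd (.nd (.lf 41491) (.lf 0)) (.nd (.lf 29459) (.lf 0))) (.nd (.nd (.lf 43988) (.lf 0)) (.nd (.lf 82387) (.lf 0))))) (.nd (.nd (.nd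 (.nd (.lf 0) (.lf 0)) (.nd (.lf 30675) (.lf 0))) (.nd (.nd (.lf 0) (.lf 0)) (.nd (.lf 63508) (.lf 0)))) (.nd (.nd (.nd (.lf 0) (.lf 0)) (.nd (.lf 131348) (.lf 0))) (.nd (.nd (.lf 0) (.lf 0)) (.nd (.lf 98708) (.lf 0))))))) (.nd (.nd (.nd (.nd (.nd (.nd (.lf 113939) (.lf 0)) (.nd (.lf 0) (.lf 0))) (.nd (.nd (.lf 77139) (.lf 0)) (.nd (.lf 0) (.lf 0)))) (.nd (.nd (.nd (.lf 5523) (.lf 0)) (.nd (.lf 6803) (.lf 0))) (.nd (.nd (.lf 0) (.lf 0)) (.nd (.lf 0) (.lf 0))))) (.nd (.nd (.nd (.nd (.lf 81364) (.lf 0)) (.nd (.lf 73748) (.lf 0))) (.nd (.nd (.lf 85332) (.lf 0)) (.nd (.lf 99283) (.lf 0)))) (.nd (.nd (.nd (.lf 4563) (.lf 0)) (.nd (.lf 39187) (.lf 0))) (.nd (.nd (.lf 17491) (.lf 0)) (.nd (.lf 42131) (.lf 0)))))) (.nd (.nd (.nd (.nd (.nd (.lf 93139) (.lf 0)) (.nd (.lf 126291) (.lf 0))) (.nd (.nd (.lf 0) (.lf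 0)) (.nd (.lf 67284) (.lf 0)))) (.nd (.nd (.nd (.lf 66900) (.lf 0)) (.nd (.lf 0) (.lf 0))) (.nd (.nd (.lf 23955) (.lf 0)) (.nd (.lf 121683) (.lf 0))))) (.nd (.nd (.nd (.nd (.lf 0) (.lf 0)) (.nd (.lf 115155) (.lf 0))) (.nd (.nd (.lf 0) (.lf 0)) (.nd (.lf 40595) (.lf 0)))) (.nd (.nd (.nd (.lf 0) (.lf 0)) (.nd (.lf 85651) (.lf 0))) (.nd (.nd (.lf 81619) (.lf 0)) (.nd (.lf 43283) (.lf 0)))))))) (.nd (.nd (.nd (.nd (.nd (.nd (.nd (.lf 116628) (.lf 0)) (.nd (.lf 70932) (.lf 0))) (.nd (.nd (.lf 0) (.lf 0)) (.nd (.lf 0) (.lf 0)))) (.nd (.nd (.nd (.lf 35731) (.lf 0)) (.nd (.lf 0) (.lf 0))) (.nd (.nd (.lf 128083) (.lf 0)) (.nd (.lf 25683) (.lf 0))))) (.nd (.nd (.nd (.nd (.lf 94612) (.lf 0)) (.nd (.lf 0) (.lf 0))) (.nd (.nd (.lf 0) (.lf 0)) (.nd (.lf 0) (.lf 0)))) (.nd (.nd (.nd (.lf 0) (.lf 0)) (.nd (.lf 19732)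 (.lf 0))) (.nd (.nd (.lf 97363) (.lf 0)) (.nd (.lf 41171) (.lf 0)))))) (.nd (.nd (.nd (.nd (.nd (.lf 88340) (.lf 0)) (.nd (.lf 41556) (.lf 0))) (.nd (.nd (.lf 0) (.lf 0)) (.nd (.lf 97812) (.lf 0)))) (.nd (.nd (.nd (.lf 90900) (.lf 0)) (.nd (.lf 69971) (.lf 0))) (.nd (.nd (.lf 0) (.lf 0)) (.nd (.lf 27283) (.lf 0))))) (.nd (.nd (.nd (.nd (.lf 0) (.lf 0)) (.nd (.lf 86932) (.lf 0))) (.nd (.nd (.lf 128403) (.lf 0)) (.nd (.lf 35284) (.lf 0)))) (.nd (.nd (.nd (.lf 35220) (.lf 0)) (.nd (.lf 55955) (.lf 0))) (.nd (.nd (.lf 101716) (.lf 0)) (.nd (.lf 67924) (.lf 0))))))) (.nd (.nd (.nd (.nd (.nd (.nd (.lf 18452) (.lf 0)) (.nd (.lf 13524) (.lf 0))) (.nd (.nd (.lf 0) (.lf 0)) (.nd (.lf 100244) (.lf 0)))) (.nd (.nd (.nd (.lf 71763) (.lf 0)) (.nd (.lf 113555) (.lf 0))) (.nd (.nd (.lf 97747) (.lf 0)) (.nd (.lf 0)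 (.lf 0))))) (.nd (.nd (.nd (.nd (.lf 0) (.lf 0)) (.nd (.lf 98068) (.lf 0))) (.nd (.nd (.lf 112532) (.lf 0)) (.nd (.lf 0) (.lf 0)))) (.nd (.nd (.nd (.lf 0) (.lf 0)) (.nd (.lf 96723) (.lf 0))) (.nd (.nd (.lf 94164) (.lf 0)) (.nd (.lf 47956) (.lf 0)))))) (.nd (.nd (.nd (.nd (.nd (.lf 0) (.lf 0)) (.nd (.lf 0) (.lf 0))) (.nd (.nd (.lf 80532) (.lf 0)) (.nd (.lf 0) (.lf 0)))) (.nd (.nd (.nd (.lf 64148) (.lf 0)) (.nd (.lf 25043) (.lf 0))) (.nd (.nd (.lf 27732) (.lf 0)) (.nd (.lf 97748) (.lf 0))))) (.nd (.nd (.nd (.nd (.lf 0) (.lf 0)) (.nd (.lf 0) (.lf 0))) (.nd (.nd (.lf 117460) (.lf 0)) (.nd (.lf 124372) (.lf 0)))) (.nd (.nd (.nd (.lf 0) (.lf 0)) (.nd (.lf 126740) (.lf 0))) (.nd (.nd (.lf 67475) (.lf 0)) (.nd (.lf 0) (.lf 0))))))))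

/-- table part -/
def tT1_8 : Tr :=
  .nd (.nd (.nd (.nd (.nd (.nd (.nd (.nd (.lf 37460) (.lf 0)) (.nd (.lf 0) (.lf 0))) (.nd (.nd (.lf 36691) (.lf 0)) (.nd (.lf 0) (.lf 0)))) (.nd (.nd (.nd (.lf 78996) (.lf 0)) (.nd (.lf 0) (.lf 0))) (.nd (.nd (.lf 0) (.lf 0)) (.nd (.lf 0) (.lf 0))))) (.nd (.nd (.nd (.nd (.lf 72083) (.lf 0)) (.nd (.lf 30356) (.lf 0))) (.nd (.nd (.lf 30612) (.lf 0)) (.nd (.lf 22548) (.lf 0)))) (.nd (.nd (.nd (.lf 0) (.lf 0)) (.nd (.lf 30099) (.lf 0))) (.nd (.nd (.lf 73044) (.lf 0)) (.nd (.lf 108372) (.lf 0)))))) (.nd (.nd (.nd (.nd (.nd (.lf 0) (.lf 0)) (.nd (.lf 121492) (.lf 0))) (.nd (.nd (.lf 58516) (.lf 0)) (.nd (.lf 41492) (.lf 0)))) (.nd (.nd (.nd (.lf 19539) (.lf 0)) (.nd (.lf 17555) (.lf 0))) (.nd (.nd (.lf 0) (.lf 0)) (.nd (.lf 4883) (.lf 0))))) (.nd (.nd (.nd (.nd (.lf 0)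 (.lf 0)) (.nd (.lf 75412) (.lf 0))) (.nd (.nd (.lf 85459) (.lf 0)) (.nd (.lf 29396) (.lf 0)))) (.nd (.nd (.nd (.lf 25299) (.lf 0)) (.nd (.lf 112979) (.lf 0))) (.nd (.nd (.lf 104339) (.lf 0)) (.nd (.lf 78867) (.lf 0))))))) (.nd (.nd (.nd (.nd (.nd (.nd (.lf 68179) (.lf 0)) (.nd (.lf 41172) (.lf 0))) (.nd (.nd (.lf 97172) (.lf 0)) (.nd (.lf 91156) (.lf 0)))) (.nd (.nd (.nd (.lf 22611) (.lf 0)) (.nd (.lf 0) (.lf 0))) (.nd (.nd (.lf 103060) (.lf 0)) (.nd (.lf 74196) (.lf 0))))) (.nd (.nd (.nd (.nd (.lf 63955) (.lf 0)) (.nd (.lf 0) (.lf 0))) (.nd (.nd (.lf 126292) (.lf 0)) (.nd (.lf 0) (.lf 0)))) (.nd (.nd (.nd (.lf 91731) (.lf 0)) (.nd (.lf 41235) (.lf 0))) (.nd (.nd (.lf 90836) (.lf 0)) (.nd (.lf 0) (.lf 0)))))) (.nd (.nd (.nd (.nd (.nd (.lf 0) (.lf 0)) (.nd (.lf 0) (.lf 0))) (.nd (.nd (.lf 8083) (.lf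 0)) (.nd (.lf 12307) (.lf 0)))) (.nd (.nd (.nd (.lf 66644) (.lf 0)) (.nd (.lf 46995) (.lf 0))) (.nd (.nd (.lf 0) (.lf 0)) (.nd (.lf 61715) (.lf 0))))) (.nd (.nd (.nd (.nd (.lf 0) (.lf 0)) (.nd (.lf 17811) (.lf 0))) (.nd (.nd (.lf 0) (.lf 0)) (.nd (.lf 54868) (.lf 0)))) (.nd (.nd (.nd (.lf 48275) (.lf 0)) (.nd (.lf 40147) (.lf 0))) (.nd (.nd (.lf 83155) (.lf 0)) (.nd (.lf 63699) (.lf 0)))))))) (.nd (.nd (.nd (.nd (.nd (.nd (.nd (.lf 20116) (.lf 0)) (.nd (.lf 77011) (.lf 0))) (.nd (.nd (.lf 125459) (.lf 0)) (.nd (.lf 27859) (.lf 0)))) (.nd (.nd (.nd (.lf 117459) (.lf 0)) (.nd (.lf 76244) (.lf 0))) (.nd (.nd (.lf 81748) (.lf 0)) (.nd (.lf 116244) (.lf 0))))) (.nd (.nd (.nd (.nd (.lf 0) (.lf 0)) (.nd (.lf 0) (.lf 0))) (.nd (.nd (.lf 0) (.lf 0)) (.nd (.lf 0) (.lf 0)))) (.nd (.nd (.nd (.lf 114259) (.lf 0))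 (.nd (.lf 0) (.lf 0))) (.nd (.nd (.lf 47251) (.lf 0)) (.nd (.lf 0) (.lf 0)))))) (.nd (.nd (.nd (.nd (.nd (.lf 110675) (.lf 0)) (.nd (.lf 50196) (.lf 0))) (.nd (.nd (.lf 0) (.lf 0)) (.nd (.lf 117971) (.lf 0)))) (.nd (.nd (.nd (.lf 0) (.lf 0)) (.nd (.lf 0) (.lf 0))) (.nd (.nd (.lf 55828) (.lf 0)) (.nd (.lf 0) (.lf 0))))) (.nd (.nd (.nd (.nd (.lf 106259) (.lf 0)) (.nd (.lf 100436) (.lf 0))) (.nd (.nd (.lf 22484) (.lf 0)) (.nd (.lf 42195) (.lf 0)))) (.nd (.nd (.nd (.lf 127700) (.lf 0)) (.nd (.lf 12627) (.lf 0))) (.nd (.nd (.lf 58515) (.lf 0)) (.nd (.lf 121427) (.lf 0))))))) (.nd (.nd (.nd (.nd (.nd (.nd (.lf 0) (.lf 0)) (.nd (.lf 19155) (.lf 0))) (.nd (.nd (.lf 72916) (.lf 0)) (.nd (.lf 117716) (.lf 0)))) (.nd (.nd (.nd (.lf 130195) (.lf 0)) (.nd (.lf 0) (.lf 0))) (.nd (.nd (.lf 0) (.lf 0)) (.nd (.lf 22675)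 (.lf 0))))) (.nd (.nd (.nd (.nd (.lf 53651) (.lf 0)) (.nd (.lf 0) (.lf 0))) (.nd (.nd (.lf 0) (.lf 0)) (.nd (.lf 123028) (.lf 0)))) (.nd (.nd (.nd (.lf 63379) (.lf 0)) (.nd (.lf 116883) (.lf 0))) (.nd (.nd (.lf 0) (.lf 0)) (.nd (.lf 80852) (.lf 0)))))) (.nd (.nd (.nd (.nd (.nd (.lf 61203) (.lf 0)) (.nd (.lf 32339) (.lf 0))) (.nd (.nd (.lf 0) (.lf 0)) (.nd (.lf 37844) (.lf 0)))) (.nd (.nd (.nd (.lf 86291) (.lf 0)) (.nd (.lf 0) (.lf 0))) (.nd (.nd (.lf 2452) (.lf 0)) (.nd (.lf 125332) (.lf 0))))) (.nd (.nd (.nd (.nd (.lf 0) (.lf 0)) (.nd (.lf 107412) (.lf 0))) (.nd (.nd (.lf 0) (.lf 0)) (.nd (.lf 71379) (.lf 0)))) (.nd (.nd (.nd (.lf 109076) (.lf 0)) (.nd (.lf 3668) (.lf 0))) (.nd (.nd (.lf 95764) (.lf 0)) (.nd (.lf 39571) (.lf 0))))))))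

/-- table part -/
def tT1_9 : Tr :=
  .nd (.nd (.nd (.nd (.nd (.nd (.nd (.nd (.lf 0) (.lf 0)) (.nd (.lf 0) (.lf 0))) (.nd (.nd (.lf 92692) (.lf 0)) (.nd (.lf 129428) (.lf 0)))) (.nd (.nd (.nd (.lf 65555) (.lf 0)) (.nd (.lf 58131) (.lf 0))) (.nd (.nd (.lf 0) (.lf 0)) (.nd (.lf 22483) (.lf 0))))) (.nd (.nd (.nd (.nd (.lf 0) (.lf 0)) (.nd (.lf 70739) (.lf 0))) (.nd (.nd (.lf 44116) (.lf 0)) (.nd (.lf 0) (.lf 0)))) (.nd (.nd (.nd (.lf 0) (.lf 0)) (.nd (.lf 0) (.lf 0))) (.nd (.nd (.lf 3475) (.lf 0)) (.nd (.lf 43284) (.lf 0)))))) (.nd (.nd (.nd (.nd (.nd (.lf 0) (.lf 0)) (.nd (.lf 0) (.lf 0))) (.nd (.nd (.lf 0) (.lf 0)) (.nd (.lf 0) (.lf 0)))) (.nd (.nd (.nd (.lf 0) (.lf 0)) (.nd (.lf 0) (.lf 0))) (.nd (.nd (.lf 57427) (.lf 0)) (.nd (.lf 0) (.lf 0))))) (.nd (.nd (.nd (.nd (.lf 0) (.lf 0)) (.nd (.lf 6804)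 (.lf 0))) (.nd (.nd (.lf 67923) (.lf 0)) (.nd (.lf 79060) (.lf 0)))) (.nd (.nd (.nd (.lf 0) (.lf 0)) (.nd (.lf 99347) (.lf 0))) (.nd (.nd (.lf 3347) (.lf 0)) (.nd (.lf 3411) (.lf 0))))))) (.nd (.nd (.nd (.nd (.nd (.nd (.lf 0) (.lf 0)) (.nd (.lf 80531) (.lf 0))) (.nd (.nd (.lf 0) (.lf 0)) (.nd (.lf 42643) (.lf 0)))) (.nd (.nd (.nd (.lf 0) (.lf 0)) (.nd (.lf 0) (.lf 0))) (.nd (.nd (.lf 0) (.lf 0)) (.nd (.lf 105299) (.lf 0))))) (.nd (.nd (.nd (.nd (.lf 0) (.lf 0)) (.nd (.lf 64020) (.lf 0))) (.nd (.nd (.lf 122195) (.lf 0)) (.nd (.lf 110484) (.lf 0)))) (.nd (.nd (.nd (.lf 92820) (.lf 0)) (.nd (.lf 80148) (.lf 0))) (.nd (.nd (.lf 9683) (.lf 0)) (.nd (.lf 0) (.lf 0)))))) (.nd (.nd (.nd (.nd (.nd (.lf 119316) (.lf 0)) (.nd (.lf 127187) (.lf 0))) (.nd (.nd (.lf 0) (.lf 0)) (.nd (.lf 92500) (.lf 0)))) (.nd (.nd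 (.nd (.lf 42003) (.lf 0)) (.nd (.lf 127699) (.lf 0))) (.nd (.nd (.lf 67539) (.lf 0)) (.nd (.lf 29651) (.lf 0))))) (.nd (.nd (.nd (.nd (.lf 63700) (.lf 0)) (.nd (.lf 0) (.lf 0))) (.nd (.nd (.lf 0) (.lf 0)) (.nd (.lf 0) (.lf 0)))) (.nd (.nd (.nd (.lf 10772) (.lf 0)) (.nd (.lf 114515) (.lf 0))) (.nd (.nd (.lf 52691) (.lf 0)) (.nd (.lf 0) (.lf 0)))))))) (.nd (.nd (.nd (.nd (.nd (.nd (.nd (.lf 0) (.lf 0)) (.nd (.lf 108307) (.lf 0))) (.nd (.nd (.lf 0) (.lf 0)) (.nd (.lf 83987) (.lf 0)))) (.nd (.nd (.nd (.lf 49108) (.lf 0)) (.nd (.lf 0) (.lf 0))) (.nd (.nd (.lf 63124) (.lf 0)) (.nd (.lf 66836) (.lf 0))))) (.nd (.nd (.nd (.nd (.lf 86356) (.lf 0)) (.nd (.lf 0) (.lf 0))) (.nd (.nd (.lf 48339) (.lf 0)) (.nd (.lf 129044) (.lf 0)))) (.nd (.nd (.nd (.lf 34451) (.lf 0)) (.nd (.lf 121043) (.lf 0))) (.nd (.nd (.lf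 103187) (.lf 0)) (.nd (.lf 98003) (.lf 0)))))) (.nd (.nd (.nd (.nd (.nd (.lf 5524) (.lf 0)) (.nd (.lf 88275) (.lf 0))) (.nd (.nd (.lf 46676) (.lf 0)) (.nd (.lf 121491) (.lf 0)))) (.nd (.nd (.nd (.lf 0) (.lf 0)) (.nd (.lf 98707) (.lf 0))) (.nd (.nd (.lf 0) (.lf 0)) (.nd (.lf 0) (.lf 0))))) (.nd (.nd (.nd (.nd (.lf 51924) (.lf 0)) (.nd (.lf 0) (.lf 0))) (.nd (.nd (.lf 67668) (.lf 0)) (.nd (.lf 40019) (.lf 0)))) (.nd (.nd (.nd (.lf 44883) (.lf 0)) (.nd (.lf 122259) (.lf 0))) (.nd (.nd (.lf 10515) (.lf 0)) (.nd (.lf 26707) (.lf 0))))))) (.nd (.nd (.nd (.nd (.nd (.nd (.lf 0) (.lf 0)) (.nd (.lf 114323) (.lf 0))) (.nd (.nd (.lf 107860) (.lf 0)) (.nd (.lf 61012) (.lf 0)))) (.nd (.nd (.nd (.lf 27220) (.lf 0)) (.nd (.lf 38867) (.lf 0))) (.nd (.nd (.lf 45139) (.lf 0)) (.nd (.lf 0) (.lf 0))))) (.nd (.nd (.nd (.nd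 (.lf 29780) (.lf 0)) (.nd (.lf 0) (.lf 0))) (.nd (.nd (.lf 92691) (.lf 0)) (.nd (.lf 0) (.lf 0)))) (.nd (.nd (.nd (.lf 28564) (.lf 0)) (.nd (.lf 21140) (.lf 0))) (.nd (.nd (.lf 67155) (.lf 0)) (.nd (.lf 123860) (.lf 0)))))) (.nd (.nd (.nd (.nd (.nd (.lf 0) (.lf 0)) (.nd (.lf 0) (.lf 0))) (.nd (.nd (.lf 32403) (.lf 0)) (.nd (.lf 17556) (.lf 0)))) (.nd (.nd (.nd (.lf 17492) (.lf 0)) (.nd (.lf 118676) (.lf 0))) (.nd (.nd (.lf 131284) (.lf 0)) (.nd (.lf 107796) (.lf 0))))) (.nd (.nd (.nd (.nd (.lf 98387) (.lf 0)) (.nd (.lf 0) (.lf 0))) (.nd (.nd (.lf 0) (.lf 0)) (.nd (.lf 116435) (.lf 0)))) (.nd (.nd (.nd (.lf 58835) (.lf 0)) (.nd (.lf 43092) (.lf 0))) (.nd (.nd (.lf 0) (.lf 0)) (.nd (.lf 21204) (.lf 0))))))))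

/-- table part -/
def tT1_10 : Tr :=
  .nd (.nd (.nd (.nd (.nd (.nd (.nd (.nd (.lf 118804) (.lf 40339)) (.nd (.lf 34260) (.lf 0))) (.nd (.nd (.lf 0) (.lf 0)) (.nd (.lf 0) (.lf 0)))) (.nd (.nd (.nd (.lf 51155) (.lf 0)) (.nd (.lf 31443) (.lf 0))) (.nd (.nd (.lf 12819) (.lf 0)) (.nd (.lf 0) (.lf 0))))) (.nd (.nd (.nd (.nd (.lf 60692) (.lf 0)) (.nd (.lf 0) (.lf 0))) (.nd (.nd (.lf 53524) (.lf 0)) (.nd (.lf 111572) (.lf 0)))) (.nd (.nd (.nd (.lf 78356) (.lf 0)) (.nd (.lf 110676) (.lf 0))) (.nd (.nd (.lf 0) (.lf 0)) (.nd (.lf 18835) (.lf 0)))))) (.nd (.nd (.nd (.nd (.nd (.lf 65364) (.lf 0)) (.nd (.lf 0) (.lf 0))) (.nd (.nd (.lf 99667) (.lf 0)) (.nd (.lf 56532) (.lf 0)))) (.nd (.nd (.nd (.lf 123924) (.lf 0)) (.nd (.lf 91347) (.lf 0))) (.nd (.nd (.lf 51860) (.lf 0)) (.nd (.lf 2772) (.lf 0))))) (.nd (.nd (.nd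 (.nd (.lf 126355) (.lf 0)) (.nd (.lf 46612) (.lf 0))) (.nd (.nd (.lf 0) (.lf 0)) (.nd (.lf 66899) (.lf 0)))) (.nd (.nd (.nd (.lf 0) (.lf 0)) (.nd (.lf 114836) (.lf 0))) (.nd (.nd (.lf 0) (.lf 0)) (.nd (.lf 100051) (.lf 0))))))) (.nd (.nd (.nd (.nd (.nd (.nd (.lf 108371) (.lf 0)) (.nd (.lf 118803) (.lf 0))) (.nd (.nd (.lf 70931) (.lf 0)) (.nd (.lf 17683) (.lf 0)))) (.nd (.nd (.nd (.lf 23764) (.lf 0)) (.nd (.lf 130900) (.lf 0))) (.nd (.nd (.lf 8979) (.lf 0)) (.nd (.lf 64019) (.lf 0))))) (.nd (.nd (.nd (.nd (.lf 0) (.lf 0)) (.nd (.lf 0) (.lf 0))) (.nd (.nd (.lf 104275) (.lf 0)) (.nd (.lf 15571) (.lf 0)))) (.nd (.nd (.nd (.lf 128084) (.lf 0)) (.nd (.lf 122003) (.lf 0))) (.nd (.nd (.lf 0) (.lf 0)) (.nd (.lf 101459) (.lf 0)))))) (.nd (.nd (.nd (.nd (.nd (.lf 41683) (.lf 0)) (.nd (.lf 36819) (.lf 0))) (.nd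 (.nd (.lf 43796) (.lf 0)) (.nd (.lf 0) (.lf 0)))) (.nd (.nd (.nd (.lf 27155) (.lf 0)) (.nd (.lf 39124) (.lf 0))) (.nd (.nd (.lf 97940) (.lf 0)) (.nd (.lf 33684) (.lf 0))))) (.nd (.nd (.nd (.nd (.lf 99411) (.lf 0)) (.nd (.lf 100307) (.lf 0))) (.nd (.nd (.lf 68948) (.lf 0)) (.nd (.lf 32660) (.lf 0)))) (.nd (.nd (.nd (.lf 7828) (.lf 0)) (.nd (.lf 87444) (.lf 0))) (.nd (.nd (.lf 78995) (.lf 0)) (.nd (.lf 34643) (.lf 0)))))))) (.nd (.nd (.nd (.nd (.nd (.nd (.nd (.lf 0) (.lf 0)) (.nd (.lf 104276) (.lf 0))) (.nd (.nd (.lf 12820) (.lf 0)) (.nd (.lf 114964) (.lf 0)))) (.nd (.nd (.nd (.lf 0) (.lf 0)) (.nd (.lf 26900) (.lf 0))) (.nd (.nd (.lf 0) (.lf 0)) (.nd (.lf 67667) (.lf 0))))) (.nd (.nd (.nd (.nd (.lf 0) (.lf 0)) (.nd (.lf 31187) (.lf 0))) (.nd (.nd (.lf 71380) (.lf 0)) (.nd (.lf 0) (.lf 0)))) (.nd (.nd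 (.nd (.lf 68820) (.lf 0)) (.nd (.lf 105492) (.lf 0))) (.nd (.nd (.lf 12756) (.lf 0)) (.nd (.lf 0) (.lf 0)))))) (.nd (.nd (.nd (.nd (.nd (.lf 0) (.lf 0)) (.nd (.lf 23892) (.lf 0))) (.nd (.nd (.lf 51859) (.lf 0)) (.nd (.lf 0) (.lf 0)))) (.nd (.nd (.nd (.lf 56019) (.lf 0)) (.nd (.lf 0) (.lf 0))) (.nd (.nd (.lf 37267) (.lf 0)) (.nd (.lf 0) (.lf 0))))) (.nd (.nd (.nd (.nd (.lf 0) (.lf 0)) (.nd (.lf 0) (.lf 0))) (.nd (.nd (.lf 85396) (.lf 0)) (.nd (.lf 114643) (.lf 0)))) (.nd (.nd (.nd (.lf 0) (.lf 0)) (.nd (.lf 99923) (.lf 0))) (.nd (.nd (.lf 94355) (.lf 0)) (.nd (.lf 124564) (.lf 0))))))) (.nd (.nd (.nd (.nd (.nd (.nd (.lf 96916) (.lf 0)) (.nd (.lf 77268) (.lf 0))) (.nd (.nd (.lf 0) (.lf 0)) (.nd (.lf 98132) (.lf 0)))) (.nd (.nd (.nd (.lf 0) (.lf 0)) (.nd (.lf 38163) (.lf 0))) (.nd (.nd (.lf 0) (.lf 0))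 (.nd (.lf 81107) (.lf 0))))) (.nd (.nd (.nd (.nd (.lf 0) (.lf 0)) (.nd (.lf 91028) (.lf 0))) (.nd (.nd (.lf 71508) (.lf 0)) (.nd (.lf 126932) (.lf 0)))) (.nd (.nd (.nd (.lf 73812) (.lf 0)) (.nd (.lf 0) (.lf 0))) (.nd (.nd (.lf 50259) (.lf 0)) (.nd (.lf 0) (.lf 0)))))) (.nd (.nd (.nd (.nd (.nd (.lf 0) (.lf 0)) (.nd (.lf 52052) (.lf 0))) (.nd (.nd (.lf 68755) (.lf 0)) (.nd (.lf 105427) (.lf 0)))) (.nd (.nd (.nd (.lf 0) (.lf 0)) (.nd (.lf 22292) (.lf 0))) (.nd (.nd (.lf 0) (.lf 0)) (.nd (.lf 0) (.lf 0))))) (.nd (.nd (.nd (.nd (.lf 0) (.lf 0)) (.nd (.lf 0) (.lf 0))) (.nd (.nd (.lf 121044) (.lf 0)) (.nd (.lf 42708) (.lf 0)))) (.nd (.nd (.nd (.lf 8084) (.lf 0)) (.nd (.lf 32852) (.lf 0))) (.nd (.nd (.lf 47955) (.lf 0)) (.nd (.lf 84308) (.lf 0))))))))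

/-- table part -/
def tT1_11 : Tr :=
  .nd (.nd (.nd (.nd (.nd (.nd (.nd (.nd (.lf 118995) (.lf 63571)) (.nd (.lf 88915) (.lf 0))) (.nd (.nd (.lf 78292) (.lf 0)) (.nd (.lf 75348) (.lf 0)))) (.nd (.nd (.nd (.lf 0) (.lf 0)) (.nd (.lf 82900) (.lf 0))) (.nd (.nd (.lf 0) (.lf 0)) (.nd (.lf 0) (.lf 0))))) (.nd (.nd (.nd (.nd (.lf 70803) (.lf 0)) (.nd (.lf 57620) (.lf 0))) (.nd (.nd (.lf 0) (.lf 0)) (.nd (.lf 0) (.lf 0)))) (.nd (.nd (.nd (.lf 0) (.lf 0)) (.nd (.lf 119571) (.lf 0))) (.nd (.nd (.lf 95316) (.lf 0)) (.nd (.lf 97427) (.lf 0)))))) (.nd (.nd (.nd (.nd (.nd (.lf 0) (.lf 0)) (.nd (.lf 13331) (.lf 0))) (.nd (.nd (.lf 0) (.lf 0)) (.nd (.lf 78868) (.lf 0)))) (.nd (.nd (.nd (.lf 120276) (.lf 0)) (.nd (.lf 27412) (.lf 0))) (.nd (.nd (.lf 0) (.lf 0)) (.nd (.lf 65428) (.lf 0))))) (.nd (.nd (.nd (.nd (.lf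 113235) (.lf 0)) (.nd (.lf 53843) (.lf 0))) (.nd (.nd (.lf 0) (.lf 0)) (.nd (.lf 0) (.lf 0)))) (.nd (.nd (.nd (.lf 0) (.lf 0)) (.nd (.lf 106004) (.lf 0))) (.nd (.nd (.lf 57492) (.lf 0)) (.nd (.lf 33683) (.lf 0))))))) (.nd (.nd (.nd (.nd (.nd (.nd (.lf 50964) (.lf 0)) (.nd (.lf 3219) (.lf 0))) (.nd (.nd (.lf 0) (.lf 0)) (.nd (.lf 5844) (.lf 0)))) (.nd (.nd (.nd (.lf 0) (.lf 0)) (.nd (.lf 87763) (.lf 0))) (.nd (.nd (.lf 0) (.lf 0)) (.nd (.lf 0) (.lf 0))))) (.nd (.nd (.nd (.nd (.lf 116691) (.lf 0)) (.nd (.lf 88084) (.lf 0))) (.nd (.nd (.lf 21843) (.lf 0)) (.nd (.lf 58707) (.lf 0)))) (.nd (.nd (.nd (.lf 94099) (.lf 0)) (.nd (.lf 72979) (.lf 0))) (.nd (.nd (.lf 47763) (.lf 0)) (.nd (.lf 41684) (.lf 0)))))) (.nd (.nd (.nd (.nd (.nd (.lf 0) (.lf 0)) (.nd (.lf 34259) (.lf 0))) (.nd (.nd (.lf 11540) (.lf 0))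 (.nd (.lf 0) (.lf 0)))) (.nd (.nd (.nd (.lf 0) (.lf 0)) (.nd (.lf 60819) (.lf 0))) (.nd (.nd (.lf 0) (.lf 0)) (.nd (.lf 0) (.lf 0))))) (.nd (.nd (.nd (.nd (.lf 0) (.lf 0)) (.nd (.lf 0) (.lf 0))) (.nd (.nd (.lf 52179) (.lf 0)) (.nd (.lf 83988) (.lf 0)))) (.nd (.nd (.nd (.lf 0) (.lf 0)) (.nd (.lf 0) (.lf 0))) (.nd (.nd (.lf 22612) (.lf 0)) (.nd (.lf 64723) (.lf 0)))))))) (.nd (.nd (.nd (.nd (.nd (.nd (.nd (.lf 118292) (.lf 0)) (.nd (.lf 105684) (.lf 0))) (.nd (.nd (.lf 95636) (.lf 0)) (.nd (.lf 35988) (.lf 0)))) (.nd (.nd (.nd (.lf 45523) (.lf 0)) (.nd (.lf 0) (.lf 0))) (.nd (.nd (.lf 77012) (.lf 0)) (.nd (.lf 68883) (.lf 0))))) (.nd (.nd (.nd (.nd (.lf 0) (.lf 0)) (.nd (.lf 0) (.lf 0))) (.nd (.nd (.lf 0) (.lf 0)) (.nd (.lf 72084) (.lf 0)))) (.nd (.nd (.nd (.lf 128404) (.lf 0)) (.nd (.lf 52115) (.lf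 0))) (.nd (.nd (.lf 96660) (.lf 0)) (.nd (.lf 0) (.lf 0)))))) (.nd (.nd (.nd (.nd (.nd (.lf 0) (.lf 0)) (.nd (.lf 70611) (.lf 0))) (.nd (.nd (.lf 60051) (.lf 0)) (.nd (.lf 0) (.lf 0)))) (.nd (.nd (.nd (.lf 110163) (.lf 0)) (.nd (.lf 73300) (.lf 0))) (.nd (.nd (.lf 69460) (.lf 0)) (.nd (.lf 23444) (.lf 0))))) (.nd (.nd (.nd (.nd (.lf 47636) (.lf 0)) (.nd (.lf 118739) (.lf 0))) (.nd (.nd (.lf 0) (.lf 0)) (.nd (.lf 48403) (.lf 0)))) (.nd (.nd (.nd (.lf 0) (.lf 0)) (.nd (.lf 37971) (.lf 0))) (.nd (.nd (.lf 0) (.lf 0)) (.nd (.lf 0) (.lf 0))))))) (.nd (.nd (.nd (.nd (.nd (.nd (.lf 3284) (.lf 0)) (.nd (.lf 31828) (.lf 0))) (.nd (.nd (.lf 81684) (.lf 0)) (.nd (.lf 97171) (.lf 0)))) (.nd (.nd (.nd (.lf 110996) (.lf 0)) (.nd (.lf 100820) (.lf 0))) (.nd (.nd (.lf 109268) (.lf 0)) (.nd (.lf 0) (.lf 0))))) (.nd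 (.nd (.nd (.nd (.lf 0) (.lf 0)) (.nd (.lf 74643) (.lf 0))) (.nd (.nd (.lf 95699) (.lf 0)) (.nd (.lf 54420) (.lf 0)))) (.nd (.nd (.nd (.lf 0) (.lf 0)) (.nd (.lf 0) (.lf 0))) (.nd (.nd (.lf 94548) (.lf 0)) (.nd (.lf 42132) (.lf 0)))))) (.nd (.nd (.nd (.nd (.nd (.lf 0) (.lf 0)) (.nd (.lf 44884) (.lf 0))) (.nd (.nd (.lf 18900) (.lf 0)) (.nd (.lf 16468) (.lf 0)))) (.nd (.nd (.nd (.lf 25235) (.lf 0)) (.nd (.lf 38739) (.lf 0))) (.nd (.nd (.lf 62995) (.lf 0)) (.nd (.lf 3220) (.lf 0))))) (.nd (.nd (.nd (.nd (.lf 131347) (.lf 0)) (.nd (.lf 0) (.lf 0))) (.nd (.nd (.lf 29460) (.lf 0)) (.nd (.lf 102292) (.lf 0)))) (.nd (.nd (.nd (.lf 0) (.lf 0)) (.nd (.lf 58260) (.lf 0))) (.nd (.nd (.lf 102931) (.lf 0)) (.nd (.lf 15828) (.lf 0))))))))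

/-- table part -/
def tT1_12 : Tr :=
  .nd (.nd (.nd (.nd (.nd (.nd (.nd (.nd (.lf 35348) (.lf 0)) (.nd (.lf 0) (.lf 0))) (.nd (.nd (.lf 32404) (.lf 0)) (.nd (.lf 0) (.lf 0)))) (.nd (.nd (.nd (.lf 0) (.lf 0)) (.nd (.lf 0) (.lf 0))) (.nd (.nd (.lf 0) (.lf 0)) (.nd (.lf 109716) (.lf 0))))) (.nd (.nd (.nd (.nd (.lf 81555) (.lf 0)) (.nd (.lf 108883) (.lf 0))) (.nd (.nd (.lf 78419) (.lf 0)) (.nd (.lf 115219) (.lf 0)))) (.nd (.nd (.nd (.lf 55124) (.lf 0)) (.nd (.lf 0) (.lf 0))) (.nd (.nd (.lf 0) (.lf 0)) (.nd (.lf 70356) (.lf 0)))))) (.nd (.nd (.nd (.nd (.nd (.lf 0) (.lf 0)) (.nd (.lf 0) (.lf 0))) (.nd (.nd (.lf 10579) (.lf 0)) (.nd (.lf 68819) (.lf 0)))) (.nd (.nd (.nd (.lf 0) (.lf 0)) (.nd (.lf 27091) (.lf 0))) (.nd (.nd (.lf 15379) (.lf 0)) (.nd (.lf 0) (.lf 0))))) (.nd (.nd (.nd (.nd (.lf 131668) (.lf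 0)) (.nd (.lf 131667) (.lf 0))) (.nd (.nd (.lf 0) (.lf 0)) (.nd (.lf 0) (.lf 0)))) (.nd (.nd (.nd (.lf 28819) (.lf 0)) (.nd (.lf 0) (.lf 0))) (.nd (.nd (.lf 66580) (.lf 0)) (.nd (.lf 109267) (.lf 0))))))) (.nd (.nd (.nd (.nd (.nd (.nd (.lf 0) (.lf 0)) (.nd (.lf 71699) (.lf 0))) (.nd (.nd (.lf 86740) (.lf 0)) (.nd (.lf 0) (.lf 0)))) (.nd (.nd (.nd (.lf 0) (.lf 0)) (.nd (.lf 0) (.lf 0))) (.nd (.nd (.lf 99668) (.lf 0)) (.nd (.lf 111700) (.lf 0))))) (.nd (.nd (.nd (.nd (.lf 66003) (.lf 0)) (.nd (.lf 0) (.lf 0))) (.nd (.nd (.lf 63892) (.lf 0)) (.nd (.lf 0) (.lf 0)))) (.nd (.nd (.nd (.lf 88979) (.lf 0)) (.nd (.lf 0) (.lf 0))) (.nd (.nd (.lf 92819) (.lf 0)) (.nd (.lf 0) (.lf 0)))))) (.nd (.nd (.nd (.nd (.nd (.lf 0) (.lf 0)) (.nd (.lf 59027) (.lf 0))) (.nd (.nd (.lf 0) (.lf 0)) (.nd (.lf 82003) (.lf 0))))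 (.nd (.nd (.nd (.lf 75923) (.lf 0)) (.nd (.lf 41364) (.lf 0))) (.nd (.nd (.lf 0) (.lf 0)) (.nd (.lf 100308) (.lf 0))))) (.nd (.nd (.nd (.nd (.lf 0) (.lf 0)) (.nd (.lf 70867) (.lf 0))) (.nd (.nd (.lf 91540) (.lf 0)) (.nd (.lf 0) (.lf 0)))) (.nd (.nd (.nd (.lf 77076) (.lf 0)) (.nd (.lf 0) (.lf 0))) (.nd (.nd (.lf 0) (.lf 0)) (.nd (.lf 126035) (.lf 0)))))))) (.nd (.nd (.nd (.nd (.nd (.nd (.nd (.lf 19796) (.lf 0)) (.nd (.lf 0) (.lf 0))) (.nd (.nd (.lf 20371) (.lf 0)) (.nd (.lf 0) (.lf 0)))) (.nd (.nd (.nd (.lf 49747) (.lf 0)) (.nd (.lf 0) (.lf 0))) (.nd (.nd (.lf 128915) (.lf 0)) (.nd (.lf 58068) (.lf 0))))) (.nd (.nd (.nd (.nd (.lf 2644) (.lf 0)) (.nd (.lf 0) (.lf 0))) (.nd (.nd (.lf 0) (.lf 0)) (.nd (.lf 98259) (.lf 0)))) (.nd (.nd (.nd (.lf 14228) (.lf 0)) (.nd (.lf 0) (.lf 0))) (.nd (.nd (.lf 0) (.lf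 0)) (.nd (.lf 31763) (.lf 0)))))) (.nd (.nd (.nd (.nd (.nd (.lf 53331) (.lf 0)) (.nd (.lf 98260) (.lf 0))) (.nd (.nd (.lf 22291) (.lf 0)) (.nd (.lf 52627) (.lf 0)))) (.nd (.nd (.nd (.lf 40404) (.lf 0)) (.nd (.lf 96979) (.lf 0))) (.nd (.nd (.lf 31891) (.lf 0)) (.nd (.lf 44180) (.lf 0))))) (.nd (.nd (.nd (.nd (.lf 78483) (.lf 0)) (.nd (.lf 78804) (.lf 0))) (.nd (.nd (.lf 96404) (.lf 0)) (.nd (.lf 0) (.lf 0)))) (.nd (.nd (.nd (.lf 57363) (.lf 0)) (.nd (.lf 106963) (.lf 0))) (.nd (.nd (.lf 110483) (.lf 0)) (.nd (.lf 0) (.lf 0))))))) (.nd (.nd (.nd (.nd (.nd (.nd (.lf 0) (.lf 0)) (.nd (.lf 104596) (.lf 0))) (.nd (.nd (.lf 3732) (.lf 0)) (.nd (.lf 0) (.lf 0)))) (.nd (.nd (.nd (.lf 9939) (.lf 0)) (.nd (.lf 114451) (.lf 0))) (.nd (.nd (.lf 0) (.lf 0)) (.nd (.lf 46996) (.lf 0))))) (.nd (.nd (.nd (.nd (.lf 116116)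 (.lf 0)) (.nd (.lf 35796) (.lf 0))) (.nd (.nd (.lf 32595) (.lf 0)) (.nd (.lf 0) (.lf 0)))) (.nd (.nd (.nd (.lf 48596) (.lf 0)) (.nd (.lf 13395) (.lf 0))) (.nd (.nd (.lf 0) (.lf 0)) (.nd (.lf 71700) (.lf 0)))))) (.nd (.nd (.nd (.nd (.nd (.lf 27860) (.lf 0)) (.nd (.lf 116948) (.lf 0))) (.nd (.nd (.lf 0) (.lf 0)) (.nd (.lf 37396) (.lf 0)))) (.nd (.nd (.nd (.lf 0) (.lf 0)) (.nd (.lf 0) (.lf 0))) (.nd (.nd (.lf 77971) (.lf 0)) (.nd (.lf 111124) (.lf 0))))) (.nd (.nd (.nd (.nd (.lf 0) (.lf 0)) (.nd (.lf 85587) (.lf 0))) (.nd (.nd (.lf 0) (.lf 0)) (.nd (.lf 63507) (.lf 0)))) (.nd (.nd (.nd (.lf 58323) (.lf 0)) (.nd (.lf 116756) (.lf 0))) (.nd (.nd (.lf 15572) (.lf 0)) (.nd (.lf 98388) (.lf 0))))))))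

/-- table part -/
def tT1_13 : Tr :=
  .nd (.nd (.nd (.nd (.nd (.nd (.nd (.nd (.lf 85652) (.lf 99924)) (.nd (.lf 87124) (.lf 0))) (.nd (.nd (.lf 0) (.lf 0)) (.nd (.lf 0) (.lf 0)))) (.nd (.nd (.nd (.lf 0) (.lf 0)) (.nd (.lf 68564) (.lf 0))) (.nd (.nd (.lf 80339) (.lf 0)) (.nd (.lf 0) (.lf 0))))) (.nd (.nd (.nd (.nd (.lf 5780) (.lf 0)) (.nd (.lf 126036) (.lf 0))) (.nd (.nd (.lf 15444) (.lf 0)) (.nd (.lf 0) (.lf 0)))) (.nd (.nd (.nd (.lf 0) (.lf 0)) (.nd (.lf 119187) (.lf 0))) (.nd (.nd (.lf 108499) (.lf 0)) (.nd (.lf 52308) (.lf 0)))))) (.nd (.nd (.nd (.nd (.nd (.lf 0) (.lf 0)) (.nd (.lf 0) (.lf 0))) (.nd (.nd (.lf 0) (.lf 0)) (.nd (.lf 79252) (.lf 0)))) (.nd (.nd (.nd (.lf 0) (.lf 0)) (.nd (.lf 0) (.lf 0))) (.nd (.nd (.lf 0) (.lf 0)) (.nd (.lf 126803) (.lf 0))))) (.nd (.nd (.nd (.nd (.lf 113875) (.lf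 0)) (.nd (.lf 113747) (.lf 0))) (.nd (.nd (.lf 100883) (.lf 0)) (.nd (.lf 99987) (.lf 0)))) (.nd (.nd (.nd (.lf 52436) (.lf 0)) (.nd (.lf 42196) (.lf 0))) (.nd (.nd (.lf 82260) (.lf 0)) (.nd (.lf 68307) (.lf 0))))))) (.nd (.nd (.nd (.nd (.nd (.nd (.lf 0) (.lf 0)) (.nd (.lf 0) (.lf 0))) (.nd (.nd (.lf 0) (.lf 0)) (.nd (.lf 49428) (.lf 0)))) (.nd (.nd (.nd (.lf 0) (.lf 0)) (.nd (.lf 35476) (.lf 0))) (.nd (.nd (.lf 52563) (.lf 0)) (.nd (.lf 77780) (.lf 0))))) (.nd (.nd (.nd (.nd (.lf 0) (.lf 0)) (.nd (.lf 0) (.lf 0))) (.nd (.nd (.lf 94739) (.lf 0)) (.nd (.lf 61651) (.lf 0)))) (.nd (.nd (.nd (.lf 30163) (.lf 0)) (.nd (.lf 0) (.lf 0))) (.nd (.nd (.lf 33492) (.lf 0)) (.nd (.lf 44755) (.lf 0)))))) (.nd (.nd (.nd (.nd (.nd (.lf 0) (.lf 0)) (.nd (.lf 0) (.lf 0))) (.nd (.nd (.lf 44115) (.lf 0)) (.nd (.lf 89620)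 (.lf 0)))) (.nd (.nd (.nd (.lf 0) (.lf 0)) (.nd (.lf 75860) (.lf 0))) (.nd (.nd (.lf 0) (.lf 0)) (.nd (.lf 85331) (.lf 0))))) (.nd (.nd (.nd (.nd (.lf 101715) (.lf 0)) (.nd (.lf 123796) (.lf 0))) (.nd (.nd (.lf 0) (.lf 0)) (.nd (.lf 101395) (.lf 0)))) (.nd (.nd (.nd (.lf 0) (.lf 0)) (.nd (.lf 86611) (.lf 0))) (.nd (.nd (.lf 55699) (.lf 0)) (.nd (.lf 27540) (.lf 0)))))))) (.nd (.nd (.nd (.nd (.nd (.nd (.nd (.lf 12116) (.lf 0)) (.nd (.lf 65427) (.lf 0))) (.nd (.nd (.lf 0) (.lf 0)) (.nd (.lf 125524) (.lf 0)))) (.nd (.nd (.nd (.lf 60756) (.lf 0)) (.nd (.lf 14035) (.lf 0))) (.nd (.nd (.lf 59475) (.lf 0)) (.nd (.lf 0) (.lf 0))))) (.nd (.nd (.nd (.nd (.lf 0) (.lf 0)) (.nd (.lf 36564) (.lf 0))) (.nd (.nd (.lf 7827) (.lf 0)) (.nd (.lf 0) (.lf 0)))) (.nd (.nd (.nd (.lf 59347) (.lf 0)) (.nd (.lf 118420) (.lf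 0))) (.nd (.nd (.lf 43412) (.lf 0)) (.nd (.lf 0) (.lf 0)))))) (.nd (.nd (.nd (.nd (.nd (.lf 0) (.lf 0)) (.nd (.lf 69396) (.lf 0))) (.nd (.nd (.lf 98195) (.lf 0)) (.nd (.lf 0) (.lf 0)))) (.nd (.nd (.nd (.lf 0) (.lf 0)) (.nd (.lf 81556) (.lf 0))) (.nd (.nd (.lf 69459) (.lf 0)) (.nd (.lf 0) (.lf 0))))) (.nd (.nd (.nd (.nd (.lf 8787) (.lf 0)) (.nd (.lf 89107) (.lf 0))) (.nd (.nd (.lf 126739) (.lf 0)) (.nd (.lf 114452) (.lf 0)))) (.nd (.nd (.nd (.lf 57683) (.lf 0)) (.nd (.lf 0) (.lf 0))) (.nd (.nd (.lf 0) (.lf 0)) (.nd (.lf 116755) (.lf 0))))))) (.nd (.nd (.nd (.nd (.nd (.nd (.lf 55827) (.lf 0)) (.nd (.lf 115475) (.lf 0))) (.nd (.nd (.lf 0) (.lf 0)) (.nd (.lf 89619) (.lf 0)))) (.nd (.nd (.nd (.lf 0) (.lf 0)) (.nd (.lf 40531) (.lf 0))) (.nd (.nd (.lf 131475) (.lf 0)) (.nd (.lf 50516) (.lf 0))))) (.nd (.nd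 (.nd (.nd (.lf 91411) (.lf 0)) (.nd (.lf 7124) (.lf 0))) (.nd (.nd (.lf 100371) (.lf 0)) (.nd (.lf 38035) (.lf 0)))) (.nd (.nd (.nd (.lf 118291) (.lf 0)) (.nd (.lf 46739) (.lf 0))) (.nd (.nd (.lf 112211) (.lf 0)) (.nd (.lf 0) (.lf 0)))))) (.nd (.nd (.nd (.nd (.nd (.lf 0) (.lf 0)) (.nd (.lf 113748) (.lf 0))) (.nd (.nd (.lf 33491) (.lf 0)) (.nd (.lf 29395) (.lf 0)))) (.nd (.nd (.nd (.lf 89875) (.lf 0)) (.nd (.lf 66963) (.lf 0))) (.nd (.nd (.lf 117652) (.lf 0)) (.nd (.lf 114132) (.lf 0))))) (.nd (.nd (.nd (.nd (.lf 86292) (.lf 0)) (.nd (.lf 123027) (.lf 0))) (.nd (.nd (.lf 2708) (.lf 0)) (.nd (.lf 89044) (.lf 0)))) (.nd (.nd (.nd (.lf 0) (.lf 0)) (.nd (.lf 0) (.lf 0))) (.nd (.nd (.lf 37651) (.lf 0)) (.nd (.lf 0) (.lf 0))))))))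

/-- table part -/
def tT1_14 : Tr :=
  .nd (.nd (.nd (.nd (.nd (.nd (.nd (.nd (.lf 59028) (.lf 0)) (.nd (.lf 107667) (.lf 0))) (.nd (.nd (.lf 35859) (.lf 0)) (.nd (.lf 0) (.lf 0)))) (.nd (.nd (.nd (.lf 0) (.lf 0)) (.nd (.lf 0) (.lf 0))) (.nd (.nd (.lf 12308) (.lf 0)) (.nd (.lf 117779) (.lf 0))))) (.nd (.nd (.nd (.nd (.lf 0) (.lf 0)) (.nd (.lf 0) (.lf 0))) (.nd (.nd (.lf 113556) (.lf 0)) (.nd (.lf 37459) (.lf 0)))) (.nd (.nd (.nd (.lf 1492) (.lf 0)) (.nd (.lf 55188) (.lf 0))) (.nd (.nd (.lf 118611) (.lf 0)) (.nd (.lf 0) (.lf 0)))))) (.nd (.nd (.nd (.nd (.nd (.lf 0) (.lf 0)) (.nd (.lf 85075) (.lf 0))) (.nd (.nd (.lf 0) (.lf 0)) (.nd (.lf 102675) (.lf 0)))) (.nd (.nd (.nd (.lf 57684) (.lf 0)) (.nd (.lf 88276) (.lf 0))) (.nd (.nd (.lf 0) (.lf 0)) (.nd (.lf 89427) (.lf 0))))) (.nd (.nd (.nd (.nd (.lf 0)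 (.lf 0)) (.nd (.lf 111827) (.lf 0))) (.nd (.nd (.lf 115859) (.lf 0)) (.nd (.lf 92563) (.lf 0)))) (.nd (.nd (.nd (.lf 35475) (.lf 0)) (.nd (.lf 0) (.lf 0))) (.nd (.nd (.lf 0) (.lf 0)) (.nd (.lf 35795) (.lf 0))))))) (.nd (.nd (.nd (.nd (.nd (.nd (.lf 27284) (.lf 0)) (.nd (.lf 56531) (.lf 0))) (.nd (.nd (.lf 42707) (.lf 0)) (.nd (.lf 10067) (.lf 0)))) (.nd (.nd (.nd (.lf 73940) (.lf 0)) (.nd (.lf 3412) (.lf 0))) (.nd (.nd (.lf 52244) (.lf 0)) (.nd (.lf 126931) (.lf 0))))) (.nd (.nd (.nd (.nd (.lf 0) (.lf 0)) (.nd (.lf 0) (.lf 0))) (.nd (.nd (.lf 109075) (.lf 0)) (.nd (.lf 91539) (.lf 0)))) (.nd (.nd (.nd (.lf 38419) (.lf 0)) (.nd (.lf 0) (.lf 0))) (.nd (.nd (.lf 0) (.lf 0)) (.nd (.lf 0) (.lf 0)))))) (.nd (.nd (.nd (.nd (.nd (.lf 73747) (.lf 0)) (.nd (.lf 0) (.lf 0))) (.nd (.nd (.lf 49811) (.lf 0)) (.nd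 (.lf 0) (.lf 0)))) (.nd (.nd (.nd (.lf 45140) (.lf 0)) (.nd (.lf 0) (.lf 0))) (.nd (.nd (.lf 52116) (.lf 0)) (.nd (.lf 127827) (.lf 0))))) (.nd (.nd (.nd (.nd (.lf 112851) (.lf 0)) (.nd (.lf 0) (.lf 0))) (.nd (.nd (.lf 0) (.lf 0)) (.nd (.lf 87252) (.lf 0)))) (.nd (.nd (.nd (.lf 95763) (.lf 0)) (.nd (.lf 20756) (.lf 0))) (.nd (.nd (.lf 112916) (.lf 0)) (.nd (.lf 61075) (.lf 0)))))))) (.nd (.nd (.nd (.nd (.nd (.nd (.nd (.lf 122771) (.lf 0)) (.nd (.lf 82516) (.lf 0))) (.nd (.nd (.lf 0) (.lf 0)) (.nd (.lf 41363) (.lf 0)))) (.nd (.nd (.nd (.lf 4692) (.lf 0)) (.nd (.lf 54228) (.lf 0))) (.nd (.nd (.lf 0) (.lf 0)) (.nd (.lf 32851) (.lf 0))))) (.nd (.nd (.nd (.nd (.lf 66964) (.lf 0)) (.nd (.lf 0) (.lf 0))) (.nd (.nd (.lf 46611) (.lf 0)) (.nd (.lf 70675) (.lf 0)))) (.nd (.nd (.nd (.lf 0) (.lf 0)) (.nd (.lf 57748)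 (.lf 0))) (.nd (.nd (.lf 0) (.lf 0)) (.nd (.lf 0) (.lf 0)))))) (.nd (.nd (.nd (.nd (.nd (.lf 91796) (.lf 0)) (.nd (.lf 84179) (.lf 0))) (.nd (.nd (.lf 0) (.lf 0)) (.nd (.lf 90643) (.lf 0)))) (.nd (.nd (.nd (.lf 23891) (.lf 0)) (.nd (.lf 18451) (.lf 0))) (.nd (.nd (.lf 0) (.lf 0)) (.nd (.lf 0) (.lf 0))))) (.nd (.nd (.nd (.nd (.lf 123540) (.lf 0)) (.nd (.lf 0) (.lf 0))) (.nd (.nd (.lf 60052) (.lf 0)) (.nd (.lf 0) (.lf 0)))) (.nd (.nd (.nd (.lf 0) (.lf 0)) (.nd (.lf 0) (.lf 0))) (.nd (.nd (.lf 0) (.lf 0)) (.nd (.lf 71635) (.lf 0))))))) (.nd (.nd (.nd (.nd (.nd (.nd (.lf 86612) (.lf 0)) (.nd (.lf 0) (.lf 0))) (.nd (.nd (.lf 91923) (.lf 0)) (.nd (.lf 0) (.lf 0)))) (.nd (.nd (.nd (.lf 82259) (.lf 0)) (.nd (.lf 0) (.lf 0))) (.nd (.nd (.lf 2580) (.lf 0)) (.nd (.lf 32211) (.lf 0))))) (.nd (.nd (.nd (.nd (.lf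 0) (.lf 0)) (.nd (.lf 0) (.lf 0))) (.nd (.nd (.lf 88980) (.lf 0)) (.nd (.lf 35283) (.lf 0)))) (.nd (.nd (.nd (.lf 60563) (.lf 0)) (.nd (.lf 0) (.lf 0))) (.nd (.nd (.lf 1364) (.lf 0)) (.nd (.lf 19027) (.lf 0)))))) (.nd (.nd (.nd (.nd (.nd (.lf 0) (.lf 0)) (.nd (.lf 0) (.lf 0))) (.nd (.nd (.lf 0) (.lf 0)) (.nd (.lf 40403) (.lf 0)))) (.nd (.nd (.nd (.lf 65683) (.lf 0)) (.nd (.lf 0) (.lf 0))) (.nd (.nd (.lf 127956) (.lf 0)) (.nd (.lf 85523) (.lf 0))))) (.nd (.nd (.nd (.nd (.lf 27411) (.lf 0)) (.nd (.lf 127572) (.lf 0))) (.nd (.nd (.lf 52051) (.lf 0)) (.nd (.lf 27219) (.lf 0)))) (.nd (.nd (.nd (.lf 0) (.lf 0)) (.nd (.lf 83604) (.lf 0))) (.nd (.nd (.lf 26772) (.lf 0)) (.nd (.lf 0) (.lf 0))))))))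

/-- table part -/
def tT1_15 : Tr :=
  .nd (.nd (.nd (.nd (.nd (.nd (.nd (.nd (.lf 79124) (.lf 116499)) (.nd (.lf 113940) (.lf 0))) (.nd (.nd (.lf 0) (.lf 0)) (.nd (.lf 64212) (.lf 0)))) (.nd (.nd (.nd (.lf 0) (.lf 0)) (.nd (.lf 30676) (.lf 0))) (.nd (.nd (.lf 0) (.lf 0)) (.nd (.lf 85395) (.lf 0))))) (.nd (.nd (.nd (.nd (.lf 91860) (.lf 0)) (.nd (.lf 49940) (.lf 0))) (.nd (.nd (.lf 96531) (.lf 0)) (.nd (.lf 67603) (.lf 0)))) (.nd (.nd (.nd (.lf 102739) (.lf 0)) (.nd (.lf 0) (.lf 0))) (.nd (.nd (.lf 81428) (.lf 0)) (.nd (.lf 0) (.lf 0)))))) (.nd (.nd (.nd (.nd (.nd (.lf 37268) (.lf 0)) (.nd (.lf 0) (.lf 0))) (.nd (.nd (.lf 97043) (.lf 0)) (.nd (.lf 129555) (.lf 0)))) (.nd (.nd (.nd (.lf 0) (.lf 0)) (.nd (.lf 9107) (.lf 0))) (.nd (.nd (.lf 84947) (.lf 0)) (.nd (.lf 86355) (.lf 0))))) (.nd (.nd (.nd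 (.nd (.lf 92499) (.lf 0)) (.nd (.lf 109140) (.lf 0))) (.nd (.nd (.lf 101843) (.lf 0)) (.nd (.lf 92180) (.lf 0)))) (.nd (.nd (.nd (.lf 57619) (.lf 0)) (.nd (.lf 106451) (.lf 0))) (.nd (.nd (.lf 0) (.lf 0)) (.nd (.lf 113876) (.lf 0))))))) (.nd (.nd (.nd (.nd (.nd (.nd (.lf 104148) (.lf 0)) (.nd (.lf 70740) (.lf 0))) (.nd (.nd (.lf 37907) (.lf 0)) (.nd (.lf 105683) (.lf 0)))) (.nd (.nd (.nd (.lf 7699) (.lf 0)) (.nd (.lf 96340) (.lf 0))) (.nd (.nd (.lf 121619) (.lf 0)) (.nd (.lf 9043) (.lf 0))))) (.nd (.nd (.nd (.nd (.lf 0) (.lf 0)) (.nd (.lf 28500) (.lf 0))) (.nd (.nd (.lf 0) (.lf 0)) (.nd (.lf 41236) (.lf 0)))) (.nd (.nd (.nd (.lf 113683) (.lf 0)) (.nd (.lf 87828) (.lf 0))) (.nd (.nd (.lf 0) (.lf 0)) (.nd (.lf 45716) (.lf 0)))))) (.nd (.nd (.nd (.nd (.nd (.lf 0) (.lf 0)) (.nd (.lf 0) (.lf 0))) (.nd (.nd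 (.lf 0) (.lf 0)) (.nd (.lf 8403) (.lf 0)))) (.nd (.nd (.nd (.lf 0) (.lf 0)) (.nd (.lf 108308) (.lf 0))) (.nd (.nd (.lf 73683) (.lf 0)) (.nd (.lf 107156) (.lf 0))))) (.nd (.nd (.nd (.nd (.lf 8212) (.lf 0)) (.nd (.lf 37779) (.lf 0))) (.nd (.nd (.lf 0) (.lf 0)) (.nd (.lf 130388) (.lf 0)))) (.nd (.nd (.nd (.lf 28628) (.lf 0)) (.nd (.lf 54292) (.lf 0))) (.nd (.nd (.lf 47444) (.lf 0)) (.nd (.lf 48787) (.lf 0)))))))) (.nd (.nd (.nd (.nd (.nd (.nd (.nd (.lf 31444) (.lf 0)) (.nd (.lf 0) (.lf 0))) (.nd (.nd (.lf 42580) (.lf 0)) (.nd (.lf 0) (.lf 0)))) (.nd (.nd (.nd (.lf 30868) (.lf 0)) (.nd (.lf 46740) (.lf 0))) (.nd (.nd (.lf 0) (.lf 0)) (.nd (.lf 48595) (.lf 0))))) (.nd (.nd (.nd (.nd (.lf 20884) (.lf 0)) (.nd (.lf 44179) (.lf 0))) (.nd (.nd (.lf 0) (.lf 0)) (.nd (.lf 403) (.lf 0)))) (.nd (.nd (.nd (.lf 44628)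 (.lf 0)) (.nd (.lf 43027) (.lf 0))) (.nd (.nd (.lf 2579) (.lf 0)) (.nd (.lf 81811) (.lf 0)))))) (.nd (.nd (.nd (.nd (.nd (.lf 0) (.lf 0)) (.nd (.lf 0) (.lf 0))) (.nd (.nd (.lf 26452) (.lf 0)) (.nd (.lf 0) (.lf 0)))) (.nd (.nd (.nd (.lf 0) (.lf 0)) (.nd (.lf 45972) (.lf 0))) (.nd (.nd (.lf 0) (.lf 0)) (.nd (.lf 86931) (.lf 0))))) (.nd (.nd (.nd (.nd (.lf 0) (.lf 0)) (.nd (.lf 9619) (.lf 0))) (.nd (.nd (.lf 57555) (.lf 0)) (.nd (.lf 80340) (.lf 0)))) (.nd (.nd (.nd (.lf 101524) (.lf 0)) (.nd (.lf 88211) (.lf 0))) (.nd (.nd (.lf 91475) (.lf 0)) (.nd (.lf 0) (.lf 0))))))) (.nd (.nd (.nd (.nd (.nd (.nd (.lf 113811) (.lf 0)) (.nd (.lf 87764) (.lf 0))) (.nd (.nd (.lf 0) (.lf 0)) (.nd (.lf 75027) (.lf 0)))) (.nd (.nd (.nd (.lf 90707) (.lf 0)) (.nd (.lf 20115) (.lf 0))) (.nd (.nd (.lf 88083) (.lf 0)) (.nd (.lf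 0) (.lf 0))))) (.nd (.nd (.nd (.nd (.lf 26131) (.lf 0)) (.nd (.lf 66516) (.lf 0))) (.nd (.nd (.lf 119251) (.lf 0)) (.nd (.lf 66643) (.lf 0)))) (.nd (.nd (.nd (.lf 88852) (.lf 0)) (.nd (.lf 116627) (.lf 0))) (.nd (.nd (.lf 0) (.lf 0)) (.nd (.lf 71252) (.lf 0)))))) (.nd (.nd (.nd (.nd (.nd (.lf 92179) (.lf 0)) (.nd (.lf 0) (.lf 0))) (.nd (.nd (.lf 105491) (.lf 0)) (.nd (.lf 5204) (.lf 0)))) (.nd (.nd (.nd (.lf 31572) (.lf 0)) (.nd (.lf 0) (.lf 0))) (.nd (.nd (.lf 80276) (.lf 0)) (.nd (.lf 24531) (.lf 0))))) (.nd (.nd (.nd (.nd (.lf 77779) (.lf 0)) (.nd (.lf 65556) (.lf 0))) (.nd (.nd (.lf 67347) (.lf 0)) (.nd (.lf 37652) (.lf 0)))) (.nd (.nd (.nd (.lf 81172) (.lf 0)) (.nd (.lf 80404) (.lf 0))) (.nd (.nd (.lf 75219) (.lf 0)) (.nd (.lf 129556) (.lf 0))))))))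

/-- table part -/
def tT1_16 : Tr :=
  .nd (.nd (.nd (.nd (.nd (.nd (.nd (.nd (.lf 64083) (.lf 0)) (.nd (.lf 83732) (.lf 0))) (.nd (.nd (.lf 29588) (.lf 0)) (.nd (.lf 90644) (.lf 0)))) (.nd (.nd (.nd (.lf 97684) (.lf 0)) (.nd (.lf 45331) (.lf 0))) (.nd (.nd (.lf 0) (.lf 0)) (.nd (.lf 0) (.lf 0))))) (.nd (.nd (.nd (.nd (.lf 43923) (.lf 0)) (.nd (.lf 46932) (.lf 0))) (.nd (.nd (.lf 0) (.lf 0)) (.nd (.lf 120340) (.lf 0)))) (.nd (.nd (.nd (.lf 0) (.lf 0)) (.nd (.lf 91412) (.lf 0))) (.nd (.nd (.lf 62931) (.lf 0)) (.nd (.lf 46227) (.lf 0)))))) (.nd (.nd (.nd (.nd (.nd (.lf 50451) (.lf 0)) (.nd (.lf 57235) (.lf 0))) (.nd (.nd (.lf 75028) (.lf 0)) (.nd (.lf 59540) (.lf 0)))) (.nd (.nd (.nd (.lf 0) (.lf 0)) (.nd (.lf 34387) (.lf 0))) (.nd (.nd (.lf 46099) (.lf 0)) (.nd (.lf 116564) (.lf 0))))) (.nd (.nd (.nd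 (.nd (.lf 0) (.lf 0)) (.nd (.lf 74195) (.lf 0))) (.nd (.nd (.lf 0) (.lf 0)) (.nd (.lf 75220) (.lf 0)))) (.nd (.nd (.nd (.lf 16788) (.lf 0)) (.nd (.lf 106003) (.lf 0))) (.nd (.nd (.lf 100628) (.lf 0)) (.nd (.lf 20180) (.lf 0))))))) (.nd (.nd (.nd (.nd (.nd (.nd (.lf 0) (.lf 0)) (.nd (.lf 85524) (.lf 0))) (.nd (.nd (.lf 211) (.lf 0)) (.nd (.lf 979) (.lf 0)))) (.nd (.nd (.nd (.lf 0) (.lf 0)) (.nd (.lf 102612) (.lf 0))) (.nd (.nd (.lf 64980) (.lf 0)) (.nd (.lf 74899) (.lf 0))))) (.nd (.nd (.nd (.nd (.lf 0) (.lf 0)) (.nd (.lf 0) (.lf 0))) (.nd (.nd (.lf 86676) (.lf 0)) (.nd (.lf 57491) (.lf 0)))) (.nd (.nd (.nd (.lf 0) (.lf 0)) (.nd (.lf 19924) (.lf 0))) (.nd (.nd (.lf 77140) (.lf 0)) (.nd (.lf 0) (.lf 0)))))) (.nd (.nd (.nd (.nd (.nd (.lf 61716) (.lf 0)) (.nd (.lf 0) (.lf 0))) (.nd (.nd (.lf 0) (.lf 0))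 (.nd (.lf 48788) (.lf 0)))) (.nd (.nd (.nd (.lf 101652) (.lf 0)) (.nd (.lf 34131) (.lf 0))) (.nd (.nd (.lf 0) (.lf 0)) (.nd (.lf 0) (.lf 0))))) (.nd (.nd (.nd (.nd (.lf 0) (.lf 0)) (.nd (.lf 24468) (.lf 0))) (.nd (.nd (.lf 0) (.lf 0)) (.nd (.lf 74708) (.lf 0)))) (.nd (.nd (.nd (.lf 39827) (.lf 0)) (.nd (.lf 125331) (.lf 0))) (.nd (.nd (.lf 0) (.lf 0)) (.nd (.lf 40083) (.lf 0)))))))) (.nd (.nd (.nd (.nd (.nd (.nd (.nd (.lf 8468) (.lf 0)) (.nd (.lf 69395) (.lf 0))) (.nd (.nd (.lf 0) (.lf 0)) (.nd (.lf 69139) (.lf 0)))) (.nd (.nd (.nd (.lf 0) (.lf 0)) (.nd (.lf 69652) (.lf 0))) (.nd (.nd (.lf 74963) (.lf 0)) (.nd (.lf 75859) (.lf 0))))) (.nd (.nd (.nd (.nd (.lf 87315) (.lf 0)) (.nd (.lf 82196) (.lf 0))) (.nd (.nd (.lf 0) (.lf 0)) (.nd (.lf 52628) (.lf 0)))) (.nd (.nd (.nd (.lf 0) (.lf 0)) (.nd (.lf 31764)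 (.lf 0))) (.nd (.nd (.lf 73043) (.lf 0)) (.nd (.lf 0) (.lf 0)))))) (.nd (.nd (.nd (.nd (.nd (.lf 0) (.lf 0)) (.nd (.lf 124371) (.lf 0))) (.nd (.nd (.lf 76115) (.lf 0)) (.nd (.lf 0) (.lf 0)))) (.nd (.nd (.nd (.lf 40916) (.lf 0)) (.nd (.lf 109779) (.lf 0))) (.nd (.nd (.lf 40211) (.lf 0)) (.nd (.lf 128724) (.lf 0))))) (.nd (.nd (.nd (.nd (.lf 55059) (.lf 0)) (.nd (.lf 72531) (.lf 0))) (.nd (.nd (.lf 0) (.lf 0)) (.nd (.lf 123091) (.lf 0)))) (.nd (.nd (.nd (.lf 74644) (.lf 0)) (.nd (.lf 18963) (.lf 0))) (.nd (.nd (.lf 0) (.lf 0)) (.nd (.lf 105364) (.lf 0))))))) (.nd (.nd (.nd (.nd (.nd (.nd (.lf 0) (.lf 0)) (.nd (.lf 77331) (.lf 0))) (.nd (.nd (.lf 21139) (.lf 0)) (.nd (.lf 0) (.lf 0)))) (.nd (.nd (.nd (.lf 0) (.lf 0)) (.nd (.lf 0) (.lf 0))) (.nd (.nd (.lf 0) (.lf 0)) (.nd (.lf 74579) (.lf 0))))) (.nd (.nd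 (.nd (.nd (.lf 0) (.lf 0)) (.nd (.lf 89171) (.lf 0))) (.nd (.nd (.lf 0) (.lf 0)) (.nd (.lf 10068) (.lf 0)))) (.nd (.nd (.nd (.lf 212) (.lf 0)) (.nd (.lf 67731) (.lf 0))) (.nd (.nd (.lf 0) (.lf 0)) (.nd (.lf 61204) (.lf 0)))))) (.nd (.nd (.nd (.nd (.nd (.lf 0) (.lf 0)) (.nd (.lf 105748) (.lf 0))) (.nd (.nd (.lf 39123) (.lf 0)) (.nd (.lf 60244) (.lf 0)))) (.nd (.nd (.nd (.lf 10004) (.lf 0)) (.nd (.lf 77460) (.lf 0))) (.nd (.nd (.lf 0) (.lf 0)) (.nd (.lf 102996) (.lf 0))))) (.nd (.nd (.nd (.nd (.lf 0) (.lf 0)) (.nd (.lf 0) (.lf 0))) (.nd (.nd (.lf 1428) (.lf 0)) (.nd (.lf 58387) (.lf 0)))) (.nd (.nd (.nd (.lf 99475) (.lf 0)) (.nd (.lf 6739) (.lf 0))) (.nd (.nd (.lf 35347) (.lf 0)) (.nd (.lf 0) (.lf 0))))))))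

/-- table -/
def tT1 : Tr :=
  .nd (.nd (.nd (.nd tT1_1 tT1_2) (.nd tT1_3 tT1_4)) (.nd (.nd tT1_5 tT1_6) (.nd tT1_7 tT1_8))) (.nd (.nd (.nd tT1_9 tT1_10) (.nd tT1_11 tT1_12)) (.nd (.nd tT1_13 tT1_14) (.nd tT1_15 tT1_16)))

/-- table part -/
def tT2_1 : Tr :=
  .nd (.nd (.nd (.nd (.nd (.nd (.nd (.nd (.lf 65686) (.lf 0)) (.nd (.lf 0) (.lf 0))) (.nd (.nd (.lf 0) (.lf 0)) (.nd (.lf 0) (.lf 0)))) (.nd (.nd (.nd (.lf 0) (.lf 0)) (.nd (.lf 0) (.lf 0))) (.nd (.nd (.lf 0) (.lf 0)) (.nd (.lf 0) (.lf 0))))) (.nd (.nd (.nd (.nd (.lf 0) (.lf 0)) (.nd (.lf 0) (.lf 0))) (.nd (.nd (.lf 0) (.lf 0)) (.nd (.lf 0) (.lf 0)))) (.nd (.nd (.nd (.lf 0) (.lf 0)) (.nd (.lf 0) (.lf 0))) (.nd (.nd (.lf 0) (.lf 0)) (.nd (.lf 0) (.lf 0)))))) (.nd (.nd (.nd (.nd (.nd (.lf 0) (.lf 0)) (.nd (.lf 0) (.lf 0))) (.nd (.nd (.lf 92437)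 (.lf 0)) (.nd (.lf 0) (.lf 0)))) (.nd (.nd (.nd (.lf 92629) (.lf 0)) (.nd (.lf 0) (.lf 0))) (.nd (.nd (.lf 0) (.lf 0)) (.nd (.lf 74709) (.lf 0))))) (.nd (.nd (.nd (.nd (.lf 57045) (.lf 0)) (.nd (.lf 0) (.lf 0))) (.nd (.nd (.lf 0) (.lf 0)) (.nd (.lf 0) (.lf 0)))) (.nd (.nd (.nd (.lf 0) (.lf 0)) (.nd (.lf 0) (.lf 0))) (.nd (.nd (.lf 0) (.lf 0)) (.nd (.lf 0) (.lf 0))))))) (.nd (.nd (.nd (.nd (.nd (.nd (.lf 0) (.lf 0)) (.nd (.lf 0) (.lf 0))) (.nd (.nd (.lf 0) (.lf 0)) (.nd (.lf 0) (.lf 0)))) (.nd (.nd (.nd (.lf 36502) (.lf 0)) (.nd (.lf 56597) (.lf 0))) (.nd (.nd (.lf 0) (.lf 0)) (.nd (.lf 71573) (.lf 0))))) (.nd (.nd (.nd (.nd (.lf 0) (.lf 0)) (.nd (.lf 63318) (.lf 0))) (.nd (.nd (.lf 0) (.lf 0)) (.nd (.lf 0) (.lf 0)))) (.nd (.nd (.nd (.lf 123862) (.lf 0)) (.nd (.lf 0) (.lf 0))) (.nd (.nd (.lf 0) (.lf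 0)) (.nd (.lf 0) (.lf 0)))))) (.nd (.nd (.nd (.nd (.nd (.lf 0) (.lf 0)) (.nd (.lf 0) (.lf 0))) (.nd (.nd (.lf 0) (.lf 0)) (.nd (.lf 0) (.lf 0)))) (.nd (.nd (.nd (.lf 88405) (.lf 0)) (.nd (.lf 0) (.lf 0))) (.nd (.nd (.lf 0) (.lf 0)) (.nd (.lf 0) (.lf 0))))) (.nd (.nd (.nd (.nd (.lf 0) (.lf 0)) (.nd (.lf 0) (.lf 0))) (.nd (.nd (.lf 0) (.lf 0)) (.nd (.lf 105110) (.lf 0)))) (.nd (.nd (.nd (.lf 0) (.lf 0)) (.nd (.lf 0) (.lf 0))) (.nd (.nd (.lf 0) (.lf 0)) (.nd (.lf 0) (.lf 0)))))))) (.nd (.nd (.nd (.nd (.nd (.nd (.nd (.lf 0) (.lf 0)) (.nd (.lf 0) (.lf 0))) (.nd (.nd (.lf 0) (.lf 0)) (.nd (.lf 0) (.lf 0)))) (.nd (.nd (.nd (.lf 0) (.lf 0)) (.nd (.lf 0) (.lf 0))) (.nd (.nd (.lf 0) (.lf 0)) (.nd (.lf 0) (.lf 0))))) (.nd (.nd (.nd (.nd (.lf 0) (.lf 0)) (.nd (.lf 0) (.lf 0))) (.nd (.nd (.lf 93397) (.lf 0)) (.nd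 (.lf 0) (.lf 0)))) (.nd (.nd (.nd (.lf 0) (.lf 0)) (.nd (.lf 0) (.lf 0))) (.nd (.nd (.lf 0) (.lf 0)) (.nd (.lf 90070) (.lf 0)))))) (.nd (.nd (.nd (.nd (.nd (.lf 0) (.lf 0)) (.nd (.lf 0) (.lf 0))) (.nd (.nd (.lf 0) (.lf 0)) (.nd (.lf 0) (.lf 0)))) (.nd (.nd (.nd (.lf 0) (.lf 0)) (.nd (.lf 0) (.lf 0))) (.nd (.nd (.lf 0) (.lf 0)) (.nd (.lf 0) (.lf 0))))) (.nd (.nd (.nd (.nd (.lf 0) (.lf 0)) (.nd (.lf 0) (.lf 0))) (.nd (.nd (.lf 93398) (.lf 0)) (.nd (.lf 0) (.lf 0)))) (.nd (.nd (.nd (.lf 0) (.lf 0)) (.nd (.lf 0) (.lf 0))) (.nd (.nd (.lf 0) (.lf 0)) (.nd (.lf 0) (.lf 0))))))) (.nd (.nd (.nd (.nd (.nd (.nd (.lf 0) (.lf 0)) (.nd (.lf 0) (.lf 0))) (.nd (.nd (.lf 0) (.lf 0)) (.nd (.lf 64854) (.lf 0)))) (.nd (.nd (.nd (.lf 125141) (.lf 0)) (.nd (.lf 0) (.lf 0))) (.nd (.nd (.lf 0) (.lf 0)) (.nd (.lf 0) (.lf 0)))))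 (.nd (.nd (.nd (.nd (.lf 0) (.lf 0)) (.nd (.lf 0) (.lf 0))) (.nd (.nd (.lf 0) (.lf 0)) (.nd (.lf 0) (.lf 0)))) (.nd (.nd (.nd (.lf 0) (.lf 0)) (.nd (.lf 0) (.lf 0))) (.nd (.nd (.lf 63830) (.lf 0)) (.nd (.lf 0) (.lf 0)))))) (.nd (.nd (.nd (.nd (.nd (.lf 0) (.lf 0)) (.nd (.lf 0) (.lf 0))) (.nd (.nd (.lf 0) (.lf 0)) (.nd (.lf 0) (.lf 0)))) (.nd (.nd (.nd (.lf 93718) (.lf 0)) (.nd (.lf 83989) (.lf 0))) (.nd (.nd (.lf 0) (.lf 0)) (.nd (.lf 0) (.lf 0))))) (.nd (.nd (.nd (.nd (.lf 0) (.lf 0)) (.nd (.lf 0) (.lf 0))) (.nd (.nd (.lf 0) (.lf 0)) (.nd (.lf 0) (.lf 0)))) (.nd (.nd (.nd (.lf 83862) (.lf 0)) (.nd (.lf 0) (.lf 0))) (.nd (.nd (.lf 0) (.lf 0)) (.nd (.lf 0) (.lf 0))))))))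

/-- table part -/
def tT2_2 : Tr :=
  .nd (.nd (.nd (.nd (.nd (.nd (.nd (.nd (.lf 0) (.lf 0)) (.nd (.lf 98645) (.lf 0))) (.nd (.nd (.lf 0) (.lf 0)) (.nd (.lf 0) (.lf 0)))) (.nd (.nd (.nd (.lf 0) (.lf 0)) (.nd (.lf 0) (.lf 0))) (.nd (.nd (.lf 0) (.lf 0)) (.nd (.lf 89749) (.lf 0))))) (.nd (.nd (.nd (.nd (.lf 0) (.lf 0)) (.nd (.lf 0) (.lf 0))) (.nd (.nd (.lf 0) (.lf 0)) (.nd (.lf 0) (.lf 0)))) (.nd (.nd (.nd (.lf 0) (.lf 0)) (.nd (.lf 0) (.lf 0))) (.nd (.nd (.lf 0) (.lf 0)) (.nd (.lf 0) (.lf 0)))))) (.nd (.nd (.nd (.nd (.nd (.lf 0) (.lf 0)) (.nd (.lf 0) (.lf 0))) (.nd (.nd (.lf 0) (.lf 0)) (.nd (.lf 0) (.lf 0)))) (.nd (.nd (.nd (.lf 111573) (.lf 0)) (.nd (.lf 0) (.lf 0))) (.nd (.nd (.lf 88213) (.lf 0)) (.nd (.lf 0) (.lf 0))))) (.nd (.nd (.nd (.nd (.lf 0) (.lf 0)) (.nd (.lf 0) (.lf 0))) (.nd (.nd (.lf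 0) (.lf 0)) (.nd (.lf 10517) (.lf 0)))) (.nd (.nd (.nd (.lf 0) (.lf 0)) (.nd (.lf 0) (.lf 0))) (.nd (.nd (.lf 0) (.lf 0)) (.nd (.lf 37718) (.lf 0))))))) (.nd (.nd (.nd (.nd (.nd (.nd (.lf 0) (.lf 0)) (.nd (.lf 111318) (.lf 0))) (.nd (.nd (.lf 0) (.lf 0)) (.nd (.lf 77974) (.lf 0)))) (.nd (.nd (.nd (.lf 0) (.lf 0)) (.nd (.lf 0) (.lf 0))) (.nd (.nd (.lf 80726) (.lf 0)) (.nd (.lf 0) (.lf 0))))) (.nd (.nd (.nd (.nd (.lf 77973) (.lf 0)) (.nd (.lf 0) (.lf 0))) (.nd (.nd (.lf 0) (.lf 0)) (.nd (.lf 0) (.lf 0)))) (.nd (.nd (.nd (.lf 0) (.lf 0)) (.nd (.lf 57238) (.lf 0))) (.nd (.nd (.lf 0) (.lf 0)) (.nd (.lf 0) (.lf 0)))))) (.nd (.nd (.nd (.nd (.nd (.lf 0) (.lf 0)) (.nd (.lf 0) (.lf 0))) (.nd (.nd (.lf 15638) (.lf 0)) (.nd (.lf 0) (.lf 0)))) (.nd (.nd (.nd (.lf 0) (.lf 0)) (.nd (.lf 0) (.lf 0))) (.nd (.nd (.lf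 71638) (.lf 0)) (.nd (.lf 0) (.lf 0))))) (.nd (.nd (.nd (.nd (.lf 0) (.lf 0)) (.nd (.lf 0) (.lf 0))) (.nd (.nd (.lf 0) (.lf 0)) (.nd (.lf 0) (.lf 0)))) (.nd (.nd (.nd (.lf 0) (.lf 0)) (.nd (.lf 0) (.lf 0))) (.nd (.nd (.lf 0) (.lf 0)) (.nd (.lf 0) (.lf 0)))))))) (.nd (.nd (.nd (.nd (.nd (.nd (.nd (.lf 0) (.lf 0)) (.nd (.lf 0) (.lf 0))) (.nd (.nd (.lf 0) (.lf 0)) (.nd (.lf 0) (.lf 0)))) (.nd (.nd (.nd (.lf 0) (.lf 0)) (.nd (.lf 0) (.lf 0))) (.nd (.nd (.lf 0) (.lf 0)) (.nd (.lf 0) (.lf 0))))) (.nd (.nd (.nd (.nd (.lf 0) (.lf 0)) (.nd (.lf 0) (.lf 0))) (.nd (.nd (.lf 0) (.lf 0)) (.nd (.lf 0) (.lf 0)))) (.nd (.nd (.nd (.lf 0) (.lf 0)) (.nd (.lf 0) (.lf 0))) (.nd (.nd (.lf 0) (.lf 0)) (.nd (.lf 0) (.lf 0)))))) (.nd (.nd (.nd (.nd (.nd (.lf 0) (.lf 0)) (.nd (.lf 0) (.lf 0))) (.nd (.nd (.lf 0) (.lf 0)) (.nd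 (.lf 0) (.lf 0)))) (.nd (.nd (.nd (.lf 0) (.lf 0)) (.nd (.lf 0) (.lf 0))) (.nd (.nd (.lf 0) (.lf 0)) (.nd (.lf 0) (.lf 0))))) (.nd (.nd (.nd (.nd (.lf 0) (.lf 0)) (.nd (.lf 0) (.lf 0))) (.nd (.nd (.lf 0) (.lf 0)) (.nd (.lf 0) (.lf 0)))) (.nd (.nd (.nd (.lf 0) (.lf 0)) (.nd (.lf 0) (.lf 0))) (.nd (.nd (.lf 0) (.lf 0)) (.nd (.lf 0) (.lf 0))))))) (.nd (.nd (.nd (.nd (.nd (.nd (.lf 0) (.lf 0)) (.nd (.lf 0) (.lf 0))) (.nd (.nd (.lf 0) (.lf 0)) (.nd (.lf 0) (.lf 0)))) (.nd (.nd (.nd (.lf 0) (.lf 0)) (.nd (.lf 70422) (.lf 0))) (.nd (.nd (.lf 118421) (.lf 0)) (.nd (.lf 0) (.lf 0))))) (.nd (.nd (.nd (.nd (.lf 0) (.lf 0)) (.nd (.lf 0) (.lf 0))) (.nd (.nd (.lf 0) (.lf 0)) (.nd (.lf 0) (.lf 0)))) (.nd (.nd (.nd (.lf 0) (.lf 0)) (.nd (.lf 21014) (.lf 0))) (.nd (.nd (.lf 0) (.lf 0)) (.nd (.lf 0) (.lf 0)))))) (.nd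 (.nd (.nd (.nd (.nd (.lf 13525) (.lf 0)) (.nd (.lf 0) (.lf 0))) (.nd (.nd (.lf 0) (.lf 0)) (.nd (.lf 0) (.lf 0)))) (.nd (.nd (.nd (.lf 0) (.lf 0)) (.nd (.lf 0) (.lf 0))) (.nd (.nd (.lf 0) (.lf 0)) (.nd (.lf 0) (.lf 0))))) (.nd (.nd (.nd (.nd (.lf 0) (.lf 0)) (.nd (.lf 0) (.lf 0))) (.nd (.nd (.lf 0) (.lf 0)) (.nd (.lf 0) (.lf 0)))) (.nd (.nd (.nd (.lf 0) (.lf 0)) (.nd (.lf 0) (.lf 0))) (.nd (.nd (.lf 0) (.lf 0)) (.nd (.lf 0) (.lf 0))))))))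

/-- table part -/
def tT2_3 : Tr :=
  .nd (.nd (.nd (.nd (.nd (.nd (.nd (.nd (.lf 0) (.lf 86166)) (.nd (.lf 0) (.lf 0))) (.nd (.nd (.lf 0) (.lf 0)) (.nd (.lf 0) (.lf 0)))) (.nd (.nd (.nd (.lf 0) (.lf 0)) (.nd (.lf 0) (.lf 0))) (.nd (.nd (.lf 0) (.lf 0)) (.nd (.lf 0) (.lf 0))))) (.nd (.nd (.nd (.nd (.lf 0) (.lf 0)) (.nd (.lf 0) (.lf 0))) (.nd (.nd (.lf 123093) (.lf 0)) (.nd (.lf 0) (.lf 0)))) (.nd (.nd (.nd (.lf 0) (.lf 0)) (.nd (.lf 0) (.lf 0))) (.nd (.nd (.lf 67478) (.lf 0)) (.nd (.lf 0) (.lf 0)))))) (.nd (.nd (.nd (.nd (.nd (.lf 0) (.lf 0)) (.nd (.lf 32853) (.lf 0))) (.nd (.nd (.lf 0) (.lf 0)) (.nd (.lf 104854) (.lf 0)))) (.nd (.nd (.nd (.lf 0) (.lf 0)) (.nd (.lf 0) (.lf 0))) (.nd (.nd (.lf 70741) (.lf 0)) (.nd (.lf 0) (.lf 0))))) (.nd (.nd (.nd (.nd (.lf 0) (.lf 0)) (.nd (.lf 0) (.lf 0))) (.nd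 (.nd (.lf 41621) (.lf 0)) (.nd (.lf 0) (.lf 0)))) (.nd (.nd (.nd (.lf 0) (.lf 0)) (.nd (.lf 115861) (.lf 0))) (.nd (.nd (.lf 24213) (.lf 0)) (.nd (.lf 0) (.lf 0))))))) (.nd (.nd (.nd (.nd (.nd (.nd (.lf 0) (.lf 0)) (.nd (.lf 0) (.lf 0))) (.nd (.nd (.lf 0) (.lf 0)) (.nd (.lf 32854) (.lf 0)))) (.nd (.nd (.nd (.lf 129429) (.lf 0)) (.nd (.lf 0) (.lf 0))) (.nd (.nd (.lf 0) (.lf 0)) (.nd (.lf 0) (.lf 0))))) (.nd (.nd (.nd (.nd (.lf 22550) (.lf 0)) (.nd (.lf 0) (.lf 0))) (.nd (.nd (.lf 0) (.lf 0)) (.nd (.lf 0) (.lf 0)))) (.nd (.nd (.nd (.lf 0) (.lf 0)) (.nd (.lf 44438) (.lf 0))) (.nd (.nd (.lf 0) (.lf 0)) (.nd (.lf 0) (.lf 0)))))) (.nd (.nd (.nd (.nd (.nd (.lf 0) (.lf 0)) (.nd (.lf 0) (.lf 0))) (.nd (.nd (.lf 0) (.lf 0)) (.nd (.lf 0) (.lf 0)))) (.nd (.nd (.nd (.lf 0) (.lf 0)) (.nd (.lf 0) (.lf 0))) (.nd (.nd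 (.lf 0) (.lf 0)) (.nd (.lf 0) (.lf 0))))) (.nd (.nd (.nd (.nd (.lf 0) (.lf 0)) (.nd (.lf 0) (.lf 0))) (.nd (.nd (.lf 0) (.lf 0)) (.nd (.lf 101397) (.lf 0)))) (.nd (.nd (.nd (.lf 0) (.lf 0)) (.nd (.lf 0) (.lf 0))) (.nd (.nd (.lf 0) (.lf 0)) (.nd (.lf 0) (.lf 0)))))))) (.nd (.nd (.nd (.nd (.nd (.nd (.nd (.lf 0) (.lf 0)) (.nd (.lf 0) (.lf 0))) (.nd (.nd (.lf 0) (.lf 0)) (.nd (.lf 0) (.lf 0)))) (.nd (.nd (.nd (.lf 44885) (.lf 0)) (.nd (.lf 33621) (.lf 0))) (.nd (.nd (.lf 10774) (.lf 0)) (.nd (.lf 0) (.lf 0))))) (.nd (.nd (.nd (.nd (.lf 0) (.lf 0)) (.nd (.lf 0) (.lf 0))) (.nd (.nd (.lf 0) (.lf 0)) (.nd (.lf 114134) (.lf 0)))) (.nd (.nd (.nd (.lf 0) (.lf 0)) (.nd (.lf 51798) (.lf 0))) (.nd (.nd (.lf 0) (.lf 0)) (.nd (.lf 82134) (.lf 0)))))) (.nd (.nd (.nd (.nd (.nd (.lf 0) (.lf 0)) (.nd (.lf 0) (.lf 0)))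 (.nd (.nd (.lf 23510) (.lf 0)) (.nd (.lf 0) (.lf 0)))) (.nd (.nd (.nd (.lf 0) (.lf 0)) (.nd (.lf 0) (.lf 0))) (.nd (.nd (.lf 0) (.lf 0)) (.nd (.lf 0) (.lf 0))))) (.nd (.nd (.nd (.nd (.lf 0) (.lf 0)) (.nd (.lf 0) (.lf 0))) (.nd (.nd (.lf 78422) (.lf 0)) (.nd (.lf 0) (.lf 0)))) (.nd (.nd (.nd (.lf 0) (.lf 0)) (.nd (.lf 0) (.lf 0))) (.nd (.nd (.lf 59478) (.lf 0)) (.nd (.lf 0) (.lf 0))))))) (.nd (.nd (.nd (.nd (.nd (.nd (.lf 73686) (.lf 0)) (.nd (.lf 48406) (.lf 0))) (.nd (.nd (.lf 0) (.lf 0)) (.nd (.lf 110997) (.lf 0)))) (.nd (.nd (.nd (.lf 0) (.lf 0)) (.nd (.lf 0) (.lf 0))) (.nd (.nd (.lf 118806) (.lf 0)) (.nd (.lf 0) (.lf 0))))) (.nd (.nd (.nd (.nd (.lf 125269) (.lf 0)) (.nd (.lf 33622) (.lf 0))) (.nd (.nd (.lf 2645) (.lf 0)) (.nd (.lf 0) (.lf 0)))) (.nd (.nd (.nd (.lf 0) (.lf 0)) (.nd (.lf 0) (.lf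 0))) (.nd (.nd (.lf 0) (.lf 0)) (.nd (.lf 0) (.lf 0)))))) (.nd (.nd (.nd (.nd (.nd (.lf 0) (.lf 0)) (.nd (.lf 0) (.lf 0))) (.nd (.nd (.lf 0) (.lf 0)) (.nd (.lf 0) (.lf 0)))) (.nd (.nd (.nd (.lf 0) (.lf 0)) (.nd (.lf 57621) (.lf 0))) (.nd (.nd (.lf 61526) (.lf 0)) (.nd (.lf 0) (.lf 0))))) (.nd (.nd (.nd (.nd (.lf 126678) (.lf 0)) (.nd (.lf 110998) (.lf 0))) (.nd (.nd (.lf 94549) (.lf 0)) (.nd (.lf 70742) (.lf 0)))) (.nd (.nd (.nd (.lf 0) (.lf 0)) (.nd (.lf 0) (.lf 0))) (.nd (.nd (.lf 0) (.lf 0)) (.nd (.lf 0) (.lf 0))))))))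

/-- table part -/
def tT2_4 : Tr :=
  .nd (.nd (.nd (.nd (.nd (.nd (.nd (.nd (.lf 0) (.lf 0)) (.nd (.lf 0) (.lf 0))) (.nd (.nd (.lf 0) (.lf 0)) (.nd (.lf 0) (.lf 0)))) (.nd (.nd (.nd (.lf 0) (.lf 0)) (.nd (.lf 0) (.lf 0))) (.nd (.nd (.lf 0) (.lf 0)) (.nd (.lf 0) (.lf 0))))) (.nd (.nd (.nd (.nd (.lf 0) (.lf 0)) (.nd (.lf 0) (.lf 0))) (.nd (.nd (.lf 0) (.lf 0)) (.nd (.lf 0) (.lf 0)))) (.nd (.nd (.nd (.lf 0) (.lf 0)) (.nd (.lf 0) (.lf 0))) (.nd (.nd (.lf 0) (.lf 0)) (.nd (.lf 0) (.lf 0)))))) (.nd (.nd (.nd (.nd (.nd (.lf 0) (.lf 0)) (.nd (.lf 24981) (.lf 0))) (.nd (.nd (.lf 78421) (.lf 0)) (.nd (.lf 27349) (.lf 0)))) (.nd (.nd (.nd (.lf 0) (.lf 0)) (.nd (.lf 0) (.lf 0))) (.nd (.nd (.lf 0) (.lf 0)) (.nd (.lf 0) (.lf 0))))) (.nd (.nd (.nd (.nd (.lf 81109) (.lf 0)) (.nd (.lf 0) (.lf 0))) (.nd (.nd (.lf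 0) (.lf 0)) (.nd (.lf 0) (.lf 0)))) (.nd (.nd (.nd (.lf 0) (.lf 0)) (.nd (.lf 0) (.lf 0))) (.nd (.nd (.lf 0) (.lf 0)) (.nd (.lf 0) (.lf 0))))))) (.nd (.nd (.nd (.nd (.nd (.nd (.lf 0) (.lf 0)) (.nd (.lf 0) (.lf 0))) (.nd (.nd (.lf 0) (.lf 0)) (.nd (.lf 0) (.lf 0)))) (.nd (.nd (.nd (.lf 0) (.lf 0)) (.nd (.lf 0) (.lf 0))) (.nd (.nd (.lf 0) (.lf 0)) (.nd (.lf 0) (.lf 0))))) (.nd (.nd (.nd (.nd (.lf 0) (.lf 0)) (.nd (.lf 0) (.lf 0))) (.nd (.nd (.lf 0) (.lf 0)) (.nd (.lf 0) (.lf 0)))) (.nd (.nd (.nd (.lf 0) (.lf 0)) (.nd (.lf 0) (.lf 0))) (.nd (.nd (.lf 0) (.lf 0)) (.nd (.lf 0) (.lf 0)))))) (.nd (.nd (.nd (.nd (.nd (.lf 0) (.lf 0)) (.nd (.lf 0) (.lf 0))) (.nd (.nd (.lf 0) (.lf 0)) (.nd (.lf 0) (.lf 0)))) (.nd (.nd (.nd (.lf 0) (.lf 0)) (.nd (.lf 51734) (.lf 0))) (.nd (.nd (.lf 0) (.lf 0)) (.nd (.lf 26390)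 (.lf 0))))) (.nd (.nd (.nd (.nd (.lf 0) (.lf 0)) (.nd (.lf 0) (.lf 0))) (.nd (.nd (.lf 30805) (.lf 0)) (.nd (.lf 0) (.lf 0)))) (.nd (.nd (.nd (.lf 0) (.lf 0)) (.nd (.lf 0) (.lf 0))) (.nd (.nd (.lf 0) (.lf 0)) (.nd (.lf 0) (.lf 0)))))))) (.nd (.nd (.nd (.nd (.nd (.nd (.nd (.lf 0) (.lf 0)) (.nd (.lf 0) (.lf 0))) (.nd (.nd (.lf 75734) (.lf 0)) (.nd (.lf 0) (.lf 0)))) (.nd (.nd (.nd (.lf 0) (.lf 0)) (.nd (.lf 0) (.lf 0))) (.nd (.nd (.lf 0) (.lf 0)) (.nd (.lf 0) (.lf 0))))) (.nd (.nd (.nd (.nd (.lf 38678) (.lf 0)) (.nd (.lf 0) (.lf 0))) (.nd (.nd (.lf 119510) (.lf 0)) (.nd (.lf 0) (.lf 0)))) (.nd (.nd (.nd (.lf 127381) (.lf 0)) (.nd (.lf 30870) (.lf 0))) (.nd (.nd (.lf 0) (.lf 0)) (.nd (.lf 0) (.lf 0)))))) (.nd (.nd (.nd (.nd (.nd (.lf 0) (.lf 0)) (.nd (.lf 126933) (.lf 0))) (.nd (.nd (.lf 23509) (.lf 0))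 (.nd (.lf 0) (.lf 0)))) (.nd (.nd (.nd (.lf 0) (.lf 0)) (.nd (.lf 0) (.lf 0))) (.nd (.nd (.lf 0) (.lf 0)) (.nd (.lf 0) (.lf 0))))) (.nd (.nd (.nd (.nd (.lf 0) (.lf 0)) (.nd (.lf 0) (.lf 0))) (.nd (.nd (.lf 0) (.lf 0)) (.nd (.lf 0) (.lf 0)))) (.nd (.nd (.nd (.lf 0) (.lf 0)) (.nd (.lf 0) (.lf 0))) (.nd (.nd (.lf 0) (.lf 0)) (.nd (.lf 0) (.lf 0))))))) (.nd (.nd (.nd (.nd (.nd (.nd (.lf 0) (.lf 0)) (.nd (.lf 0) (.lf 0))) (.nd (.nd (.lf 0) (.lf 0)) (.nd (.lf 0) (.lf 0)))) (.nd (.nd (.nd (.lf 0) (.lf 0)) (.nd (.lf 0) (.lf 0))) (.nd (.nd (.lf 0) (.lf 0)) (.nd (.lf 0) (.lf 0))))) (.nd (.nd (.nd (.nd (.lf 0) (.lf 0)) (.nd (.lf 0) (.lf 0))) (.nd (.nd (.lf 0) (.lf 0)) (.nd (.lf 0) (.lf 0)))) (.nd (.nd (.nd (.lf 0) (.lf 0)) (.nd (.lf 0) (.lf 0))) (.nd (.nd (.lf 0) (.lf 0)) (.nd (.lf 0) (.lf 0)))))) (.nd (.nd (.nd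 (.nd (.nd (.lf 0) (.lf 0)) (.nd (.lf 0) (.lf 0))) (.nd (.nd (.lf 0) (.lf 0)) (.nd (.lf 0) (.lf 0)))) (.nd (.nd (.nd (.lf 0) (.lf 0)) (.nd (.lf 0) (.lf 0))) (.nd (.nd (.lf 0) (.lf 0)) (.nd (.lf 0) (.lf 0))))) (.nd (.nd (.nd (.nd (.lf 0) (.lf 0)) (.nd (.lf 66261) (.lf 0))) (.nd (.nd (.lf 0) (.lf 0)) (.nd (.lf 0) (.lf 0)))) (.nd (.nd (.nd (.lf 0) (.lf 0)) (.nd (.lf 42773) (.lf 0))) (.nd (.nd (.lf 0) (.lf 0)) (.nd (.lf 0) (.lf 0))))))))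

/-- table part -/
def tT2_5 : Tr :=
  .nd (.nd (.nd (.nd (.nd (.nd (.nd (.nd (.lf 81366) (.lf 0)) (.nd (.lf 94550) (.lf 0))) (.nd (.nd (.lf 0) (.lf 0)) (.nd (.lf 0) (.lf 0)))) (.nd (.nd (.nd (.lf 0) (.lf 0)) (.nd (.lf 0) (.lf 0))) (.nd (.nd (.lf 0) (.lf 0)) (.nd (.lf 0) (.lf 0))))) (.nd (.nd (.nd (.nd (.lf 0) (.lf 0)) (.nd (.lf 0) (.lf 0))) (.nd (.nd (.lf 0) (.lf 0)) (.nd (.lf 0) (.lf 0)))) (.nd (.nd (.nd (.lf 0) (.lf 0)) (.nd (.lf 0) (.lf 0))) (.nd (.nd (.lf 0) (.lf 0)) (.nd (.lf 0) (.lf 0)))))) (.nd (.nd (.nd (.nd (.nd (.lf 0) (.lf 0)) (.nd (.lf 0) (.lf 0))) (.nd (.nd (.lf 0) (.lf 0)) (.nd (.lf 0) (.lf 0)))) (.nd (.nd (.nd (.lf 0) (.lf 0)) (.nd (.lf 112917) (.lf 0))) (.nd (.nd (.lf 0) (.lf 0)) (.nd (.lf 0) (.lf 0))))) (.nd (.nd (.nd (.nd (.lf 0) (.lf 0)) (.nd (.lf 80725) (.lf 0))) (.nd (.nd (.lf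 0) (.lf 0)) (.nd (.lf 0) (.lf 0)))) (.nd (.nd (.nd (.lf 0) (.lf 0)) (.nd (.lf 74710) (.lf 0))) (.nd (.nd (.lf 0) (.lf 0)) (.nd (.lf 0) (.lf 0))))))) (.nd (.nd (.nd (.nd (.nd (.nd (.lf 0) (.lf 0)) (.nd (.lf 0) (.lf 0))) (.nd (.nd (.lf 0) (.lf 0)) (.nd (.lf 0) (.lf 0)))) (.nd (.nd (.nd (.lf 0) (.lf 0)) (.nd (.lf 0) (.lf 0))) (.nd (.nd (.lf 0) (.lf 0)) (.nd (.lf 0) (.lf 0))))) (.nd (.nd (.nd (.nd (.lf 0) (.lf 0)) (.nd (.lf 0) (.lf 0))) (.nd (.nd (.lf 0) (.lf 0)) (.nd (.lf 0) (.lf 0)))) (.nd (.nd (.nd (.lf 0) (.lf 0)) (.nd (.lf 0) (.lf 0))) (.nd (.nd (.lf 9621) (.lf 0)) (.nd (.lf 0) (.lf 0)))))) (.nd (.nd (.nd (.nd (.nd (.lf 0) (.lf 0)) (.nd (.lf 0) (.lf 0))) (.nd (.nd (.lf 0) (.lf 0)) (.nd (.lf 36886) (.lf 0)))) (.nd (.nd (.nd (.lf 0) (.lf 0)) (.nd (.lf 97430) (.lf 0))) (.nd (.nd (.lf 0) (.lf 0)) (.nd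 (.lf 0) (.lf 0))))) (.nd (.nd (.nd (.nd (.lf 0) (.lf 0)) (.nd (.lf 130965) (.lf 0))) (.nd (.nd (.lf 0) (.lf 0)) (.nd (.lf 0) (.lf 0)))) (.nd (.nd (.nd (.lf 59798) (.lf 0)) (.nd (.lf 0) (.lf 0))) (.nd (.nd (.lf 98646) (.lf 0)) (.nd (.lf 0) (.lf 0)))))))) (.nd (.nd (.nd (.nd (.nd (.nd (.nd (.lf 0) (.lf 0)) (.nd (.lf 0) (.lf 0))) (.nd (.nd (.lf 0) (.lf 0)) (.nd (.lf 0) (.lf 0)))) (.nd (.nd (.nd (.lf 0) (.lf 0)) (.nd (.lf 0) (.lf 0))) (.nd (.nd (.lf 0) (.lf 0)) (.nd (.lf 112662) (.lf 0))))) (.nd (.nd (.nd (.nd (.lf 0) (.lf 0)) (.nd (.lf 0) (.lf 0))) (.nd (.nd (.lf 0) (.lf 0)) (.nd (.lf 88214) (.lf 0)))) (.nd (.nd (.nd (.lf 0) (.lf 0)) (.nd (.lf 0) (.lf 0))) (.nd (.nd (.lf 0) (.lf 0)) (.nd (.lf 0) (.lf 0)))))) (.nd (.nd (.nd (.nd (.nd (.lf 0) (.lf 0)) (.nd (.lf 0) (.lf 0))) (.nd (.nd (.lf 0) (.lf 0)) (.nd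 (.lf 0) (.lf 0)))) (.nd (.nd (.nd (.lf 0) (.lf 0)) (.nd (.lf 0) (.lf 0))) (.nd (.nd (.lf 0) (.lf 0)) (.nd (.lf 69461) (.lf 0))))) (.nd (.nd (.nd (.nd (.lf 0) (.lf 0)) (.nd (.lf 80853) (.lf 0))) (.nd (.nd (.lf 0) (.lf 0)) (.nd (.lf 0) (.lf 0)))) (.nd (.nd (.nd (.lf 0) (.lf 0)) (.nd (.lf 0) (.lf 0))) (.nd (.nd (.lf 0) (.lf 0)) (.nd (.lf 0) (.lf 0))))))) (.nd (.nd (.nd (.nd (.nd (.nd (.lf 0) (.lf 0)) (.nd (.lf 0) (.lf 0))) (.nd (.nd (.lf 0) (.lf 0)) (.nd (.lf 0) (.lf 0)))) (.nd (.nd (.nd (.lf 0) (.lf 0)) (.nd (.lf 0) (.lf 0))) (.nd (.nd (.lf 0) (.lf 0)) (.nd (.lf 0) (.lf 0))))) (.nd (.nd (.nd (.nd (.lf 23574) (.lf 0)) (.nd (.lf 0) (.lf 0))) (.nd (.nd (.lf 0) (.lf 0)) (.nd (.lf 61525) (.lf 0)))) (.nd (.nd (.nd (.lf 0) (.lf 0)) (.nd (.lf 0) (.lf 0))) (.nd (.nd (.lf 0) (.lf 0)) (.nd (.lf 0) (.lf 0))))))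 (.nd (.nd (.nd (.nd (.nd (.lf 0) (.lf 0)) (.nd (.lf 0) (.lf 0))) (.nd (.nd (.lf 0) (.lf 0)) (.nd (.lf 0) (.lf 0)))) (.nd (.nd (.nd (.lf 0) (.lf 0)) (.nd (.lf 0) (.lf 0))) (.nd (.nd (.lf 0) (.lf 0)) (.nd (.lf 10197) (.lf 0))))) (.nd (.nd (.nd (.nd (.lf 0) (.lf 0)) (.nd (.lf 0) (.lf 0))) (.nd (.nd (.lf 0) (.lf 0)) (.nd (.lf 0) (.lf 0)))) (.nd (.nd (.nd (.lf 0) (.lf 0)) (.nd (.lf 109013) (.lf 0))) (.nd (.nd (.lf 0) (.lf 0)) (.nd (.lf 17814) (.lf 0))))))))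

/-- table part -/
def tT2_6 : Tr :=
  .nd (.nd (.nd (.nd (.nd (.nd (.nd (.nd (.lf 0) (.lf 0)) (.nd (.lf 0) (.lf 0))) (.nd (.nd (.lf 0) (.lf 0)) (.nd (.lf 0) (.lf 0)))) (.nd (.nd (.nd (.lf 0) (.lf 0)) (.nd (.lf 0) (.lf 0))) (.nd (.nd (.lf 0) (.lf 0)) (.nd (.lf 0) (.lf 0))))) (.nd (.nd (.nd (.nd (.lf 0) (.lf 0)) (.nd (.lf 0) (.lf 0))) (.nd (.nd (.lf 50453) (.lf 0)) (.nd (.lf 0) (.lf 0)))) (.nd (.nd (.nd (.lf 94870) (.lf 0)) (.nd (.lf 0) (.lf 0))) (.nd (.nd (.lf 0) (.lf 0)) (.nd (.lf 0) (.lf 0)))))) (.nd (.nd (.nd (.nd (.nd (.lf 107222) (.lf 0)) (.nd (.lf 0) (.lf 0))) (.nd (.nd (.lf 63317) (.lf 0)) (.nd (.lf 0) (.lf 0)))) (.nd (.nd (.nd (.lf 0) (.lf 0)) (.nd (.lf 85461) (.lf 0))) (.nd (.nd (.lf 90069) (.lf 0)) (.nd (.lf 0) (.lf 0))))) (.nd (.nd (.nd (.nd (.lf 0) (.lf 0)) (.nd (.lf 0) (.lf 0))) (.nd (.nd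 (.lf 0) (.lf 0)) (.nd (.lf 0) (.lf 0)))) (.nd (.nd (.nd (.lf 0) (.lf 0)) (.nd (.lf 93717) (.lf 0))) (.nd (.nd (.lf 0) (.lf 0)) (.nd (.lf 0) (.lf 0))))))) (.nd (.nd (.nd (.nd (.nd (.nd (.lf 0) (.lf 0)) (.nd (.lf 0) (.lf 0))) (.nd (.nd (.lf 0) (.lf 0)) (.nd (.lf 0) (.lf 0)))) (.nd (.nd (.nd (.lf 0) (.lf 0)) (.nd (.lf 0) (.lf 0))) (.nd (.nd (.lf 0) (.lf 0)) (.nd (.lf 0) (.lf 0))))) (.nd (.nd (.nd (.nd (.lf 0) (.lf 0)) (.nd (.lf 0) (.lf 0))) (.nd (.nd (.lf 0) (.lf 0)) (.nd (.lf 0) (.lf 0)))) (.nd (.nd (.nd (.lf 0) (.lf 0)) (.nd (.lf 0) (.lf 0))) (.nd (.nd (.lf 0) (.lf 0)) (.nd (.lf 0) (.lf 0)))))) (.nd (.nd (.nd (.nd (.nd (.lf 0) (.lf 0)) (.nd (.lf 0) (.lf 0))) (.nd (.nd (.lf 0) (.lf 0)) (.nd (.lf 30869) (.lf 0)))) (.nd (.nd (.nd (.lf 0) (.lf 0)) (.nd (.lf 0) (.lf 0))) (.nd (.nd (.lf 0) (.lf 0)) (.nd (.lf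 10518) (.lf 0))))) (.nd (.nd (.nd (.nd (.lf 0) (.lf 0)) (.nd (.lf 83861) (.lf 0))) (.nd (.nd (.lf 0) (.lf 0)) (.nd (.lf 0) (.lf 0)))) (.nd (.nd (.nd (.lf 0) (.lf 0)) (.nd (.lf 0) (.lf 0))) (.nd (.nd (.lf 0) (.lf 0)) (.nd (.lf 0) (.lf 0)))))))) (.nd (.nd (.nd (.nd (.nd (.nd (.nd (.lf 0) (.lf 0)) (.nd (.lf 0) (.lf 0))) (.nd (.nd (.lf 0) (.lf 0)) (.nd (.lf 0) (.lf 0)))) (.nd (.nd (.nd (.lf 0) (.lf 0)) (.nd (.lf 46486) (.lf 0))) (.nd (.nd (.lf 0) (.lf 0)) (.nd (.lf 0) (.lf 0))))) (.nd (.nd (.nd (.nd (.lf 0) (.lf 0)) (.nd (.lf 33686) (.lf 0))) (.nd (.nd (.lf 111126) (.lf 0)) (.nd (.lf 0) (.lf 0)))) (.nd (.nd (.nd (.lf 0) (.lf 0)) (.nd (.lf 0) (.lf 0))) (.nd (.nd (.lf 0) (.lf 0)) (.nd (.lf 107221) (.lf 0)))))) (.nd (.nd (.nd (.nd (.nd (.lf 0) (.lf 0)) (.nd (.lf 0) (.lf 0))) (.nd (.nd (.lf 0) (.lf 0)) (.nd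 (.lf 0) (.lf 0)))) (.nd (.nd (.nd (.lf 0) (.lf 0)) (.nd (.lf 0) (.lf 0))) (.nd (.nd (.lf 0) (.lf 0)) (.nd (.lf 0) (.lf 0))))) (.nd (.nd (.nd (.nd (.lf 0) (.lf 0)) (.nd (.lf 0) (.lf 0))) (.nd (.nd (.lf 71637) (.lf 0)) (.nd (.lf 0) (.lf 0)))) (.nd (.nd (.nd (.lf 0) (.lf 0)) (.nd (.lf 54485) (.lf 0))) (.nd (.nd (.lf 0) (.lf 0)) (.nd (.lf 30806) (.lf 0))))))) (.nd (.nd (.nd (.nd (.nd (.nd (.lf 0) (.lf 0)) (.nd (.lf 0) (.lf 0))) (.nd (.nd (.lf 60821) (.lf 0)) (.nd (.lf 0) (.lf 0)))) (.nd (.nd (.nd (.lf 0) (.lf 0)) (.nd (.lf 103190) (.lf 0))) (.nd (.nd (.lf 0) (.lf 0)) (.nd (.lf 26454) (.lf 0))))) (.nd (.nd (.nd (.nd (.lf 0) (.lf 0)) (.nd (.lf 6230) (.lf 0))) (.nd (.nd (.lf 0) (.lf 0)) (.nd (.lf 0) (.lf 0)))) (.nd (.nd (.nd (.lf 0) (.lf 0)) (.nd (.lf 0) (.lf 0))) (.nd (.nd (.lf 0) (.lf 0)) (.nd (.lf 0) (.lf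 0)))))) (.nd (.nd (.nd (.nd (.nd (.lf 0) (.lf 0)) (.nd (.lf 0) (.lf 0))) (.nd (.nd (.lf 0) (.lf 0)) (.nd (.lf 0) (.lf 0)))) (.nd (.nd (.nd (.lf 90710) (.lf 0)) (.nd (.lf 69909) (.lf 0))) (.nd (.nd (.lf 0) (.lf 0)) (.nd (.lf 0) (.lf 0))))) (.nd (.nd (.nd (.nd (.lf 0) (.lf 0)) (.nd (.lf 108949) (.lf 0))) (.nd (.nd (.lf 20181) (.lf 0)) (.nd (.lf 0) (.lf 0)))) (.nd (.nd (.nd (.lf 0) (.lf 0)) (.nd (.lf 0) (.lf 0))) (.nd (.nd (.lf 0) (.lf 0)) (.nd (.lf 112982) (.lf 0))))))))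

/-- table part -/
def tT2_7 : Tr :=
  .nd (.nd (.nd (.nd (.nd (.nd (.nd (.nd (.lf 80534) (.lf 0)) (.nd (.lf 0) (.lf 0))) (.nd (.nd (.lf 0) (.lf 0)) (.nd (.lf 0) (.lf 0)))) (.nd (.nd (.nd (.lf 0) (.lf 0)) (.nd (.lf 0) (.lf 0))) (.nd (.nd (.lf 0) (.lf 0)) (.nd (.lf 0) (.lf 0))))) (.nd (.nd (.nd (.nd (.lf 0) (.lf 0)) (.nd (.lf 0) (.lf 0))) (.nd (.nd (.lf 0) (.lf 0)) (.nd (.lf 0) (.lf 0)))) (.nd (.nd (.nd (.lf 2646) (.lf 0)) (.nd (.lf 0) (.lf 0))) (.nd (.nd (.lf 0) (.lf 0)) (.nd (.lf 115222) (.lf 0)))))) (.nd (.nd (.nd (.nd (.nd (.lf 0) (.lf 0)) (.nd (.lf 0) (.lf 0))) (.nd (.nd (.lf 0) (.lf 0)) (.nd (.lf 0) (.lf 0)))) (.nd (.nd (.nd (.lf 98389) (.lf 0)) (.nd (.lf 0) (.lf 0))) (.nd (.nd (.lf 0) (.lf 0)) (.nd (.lf 80021) (.lf 0))))) (.nd (.nd (.nd (.nd (.lf 0) (.lf 0)) (.nd (.lf 0) (.lf 0))) (.nd (.nd (.lf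 0) (.lf 0)) (.nd (.lf 54613) (.lf 0)))) (.nd (.nd (.nd (.lf 0) (.lf 0)) (.nd (.lf 0) (.lf 0))) (.nd (.nd (.lf 0) (.lf 0)) (.nd (.lf 122198) (.lf 0))))))) (.nd (.nd (.nd (.nd (.nd (.nd (.lf 0) (.lf 0)) (.nd (.lf 0) (.lf 0))) (.nd (.nd (.lf 0) (.lf 0)) (.nd (.lf 0) (.lf 0)))) (.nd (.nd (.nd (.lf 0) (.lf 0)) (.nd (.lf 81173) (.lf 0))) (.nd (.nd (.lf 0) (.lf 0)) (.nd (.lf 0) (.lf 0))))) (.nd (.nd (.nd (.nd (.lf 0) (.lf 0)) (.nd (.lf 0) (.lf 0))) (.nd (.nd (.lf 61718) (.lf 0)) (.nd (.lf 92438) (.lf 0)))) (.nd (.nd (.nd (.lf 0) (.lf 0)) (.nd (.lf 0) (.lf 0))) (.nd (.nd (.lf 19478) (.lf 0)) (.nd (.lf 75414) (.lf 0)))))) (.nd (.nd (.nd (.nd (.nd (.lf 0) (.lf 0)) (.nd (.lf 0) (.lf 0))) (.nd (.nd (.lf 0) (.lf 0)) (.nd (.lf 118805) (.lf 0)))) (.nd (.nd (.nd (.lf 0) (.lf 0)) (.nd (.lf 0) (.lf 0))) (.nd (.nd (.lf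 0) (.lf 0)) (.nd (.lf 104534) (.lf 0))))) (.nd (.nd (.nd (.nd (.lf 0) (.lf 0)) (.nd (.lf 0) (.lf 0))) (.nd (.nd (.lf 0) (.lf 0)) (.nd (.lf 0) (.lf 0)))) (.nd (.nd (.nd (.lf 0) (.lf 0)) (.nd (.lf 0) (.lf 0))) (.nd (.nd (.lf 0) (.lf 0)) (.nd (.lf 51733) (.lf 0)))))))) (.nd (.nd (.nd (.nd (.nd (.nd (.nd (.lf 125142) (.lf 0)) (.nd (.lf 0) (.lf 0))) (.nd (.nd (.lf 0) (.lf 0)) (.nd (.lf 0) (.lf 0)))) (.nd (.nd (.nd (.lf 56662) (.lf 0)) (.nd (.lf 0) (.lf 0))) (.nd (.nd (.lf 24470) (.lf 0)) (.nd (.lf 0) (.lf 0))))) (.nd (.nd (.nd (.nd (.lf 27478) (.lf 0)) (.nd (.lf 0) (.lf 0))) (.nd (.nd (.lf 0) (.lf 0)) (.nd (.lf 0) (.lf 0)))) (.nd (.nd (.nd (.lf 0) (.lf 0)) (.nd (.lf 53910) (.lf 0))) (.nd (.nd (.lf 0) (.lf 0)) (.nd (.lf 107798) (.lf 0)))))) (.nd (.nd (.nd (.nd (.nd (.lf 0) (.lf 0)) (.nd (.lf 0) (.lf 0)))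 (.nd (.nd (.lf 0) (.lf 0)) (.nd (.lf 0) (.lf 0)))) (.nd (.nd (.nd (.lf 0) (.lf 0)) (.nd (.lf 0) (.lf 0))) (.nd (.nd (.lf 0) (.lf 0)) (.nd (.lf 0) (.lf 0))))) (.nd (.nd (.nd (.nd (.lf 0) (.lf 0)) (.nd (.lf 0) (.lf 0))) (.nd (.nd (.lf 37717) (.lf 0)) (.nd (.lf 0) (.lf 0)))) (.nd (.nd (.nd (.lf 0) (.lf 0)) (.nd (.lf 0) (.lf 0))) (.nd (.nd (.lf 0) (.lf 0)) (.nd (.lf 0) (.lf 0))))))) (.nd (.nd (.nd (.nd (.nd (.nd (.lf 0) (.lf 0)) (.nd (.lf 0) (.lf 0))) (.nd (.nd (.lf 0) (.lf 0)) (.nd (.lf 0) (.lf 0)))) (.nd (.nd (.nd (.lf 0) (.lf 0)) (.nd (.lf 0) (.lf 0))) (.nd (.nd (.lf 0) (.lf 0)) (.nd (.lf 0) (.lf 0))))) (.nd (.nd (.nd (.nd (.lf 0) (.lf 0)) (.nd (.lf 0) (.lf 0))) (.nd (.nd (.lf 52757) (.lf 0)) (.nd (.lf 0) (.lf 0)))) (.nd (.nd (.nd (.lf 0) (.lf 0)) (.nd (.lf 0) (.lf 0))) (.nd (.nd (.lf 71509) (.lf 0))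 (.nd (.lf 0) (.lf 0)))))) (.nd (.nd (.nd (.nd (.nd (.lf 0) (.lf 0)) (.nd (.lf 0) (.lf 0))) (.nd (.nd (.lf 0) (.lf 0)) (.nd (.lf 0) (.lf 0)))) (.nd (.nd (.nd (.lf 0) (.lf 0)) (.nd (.lf 0) (.lf 0))) (.nd (.nd (.lf 0) (.lf 0)) (.nd (.lf 0) (.lf 0))))) (.nd (.nd (.nd (.nd (.lf 0) (.lf 0)) (.nd (.lf 0) (.lf 0))) (.nd (.nd (.lf 0) (.lf 0)) (.nd (.lf 0) (.lf 0)))) (.nd (.nd (.nd (.lf 0) (.lf 0)) (.nd (.lf 0) (.lf 0))) (.nd (.nd (.lf 0) (.lf 0)) (.nd (.lf 0) (.lf 0))))))))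

/-- table part -/
def tT2_8 : Tr :=
  .nd (.nd (.nd (.nd (.nd (.nd (.nd (.nd (.lf 0) (.lf 0)) (.nd (.lf 0) (.lf 0))) (.nd (.nd (.lf 48789) (.lf 0)) (.nd (.lf 0) (.lf 0)))) (.nd (.nd (.nd (.lf 0) (.lf 0)) (.nd (.lf 0) (.lf 0))) (.nd (.nd (.lf 0) (.lf 0)) (.nd (.lf 0) (.lf 0))))) (.nd (.nd (.nd (.nd (.lf 0) (.lf 0)) (.nd (.lf 0) (.lf 0))) (.nd (.nd (.lf 0) (.lf 0)) (.nd (.lf 0) (.lf 0)))) (.nd (.nd (.nd (.lf 0) (.lf 0)) (.nd (.lf 0) (.lf 0))) (.nd (.nd (.lf 0) (.lf 0)) (.nd (.lf 0) (.lf 0)))))) (.nd (.nd (.nd (.nd (.nd (.lf 0) (.lf 0)) (.nd (.lf 0) (.lf 0))) (.nd (.nd (.lf 0) (.lf 0)) (.nd (.lf 0) (.lf 0)))) (.nd (.nd (.nd (.lf 0) (.lf 0)) (.nd (.lf 0) (.lf 0))) (.nd (.nd (.lf 0) (.lf 0)) (.nd (.lf 0) (.lf 0))))) (.nd (.nd (.nd (.nd (.lf 0) (.lf 0)) (.nd (.lf 0) (.lf 0))) (.nd (.nd (.lf 0) (.lf 0))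 (.nd (.lf 0) (.lf 0)))) (.nd (.nd (.nd (.lf 52437) (.lf 0)) (.nd (.lf 23573) (.lf 0))) (.nd (.nd (.lf 0) (.lf 0)) (.nd (.lf 10773) (.lf 0))))))) (.nd (.nd (.nd (.nd (.nd (.nd (.lf 0) (.lf 0)) (.nd (.lf 0) (.lf 0))) (.nd (.nd (.lf 0) (.lf 0)) (.nd (.lf 0) (.lf 0)))) (.nd (.nd (.nd (.lf 42774) (.lf 0)) (.nd (.lf 0) (.lf 0))) (.nd (.nd (.lf 52758) (.lf 0)) (.nd (.lf 0) (.lf 0))))) (.nd (.nd (.nd (.nd (.lf 0) (.lf 0)) (.nd (.lf 0) (.lf 0))) (.nd (.nd (.lf 0) (.lf 0)) (.nd (.lf 0) (.lf 0)))) (.nd (.nd (.nd (.lf 0) (.lf 0)) (.nd (.lf 0) (.lf 0))) (.nd (.nd (.lf 0) (.lf 0)) (.nd (.lf 0) (.lf 0)))))) (.nd (.nd (.nd (.nd (.nd (.lf 0) (.lf 0)) (.nd (.lf 0) (.lf 0))) (.nd (.nd (.lf 0) (.lf 0)) (.nd (.lf 0) (.lf 0)))) (.nd (.nd (.nd (.lf 0) (.lf 0)) (.nd (.lf 0) (.lf 0))) (.nd (.nd (.lf 0) (.lf 0)) (.nd (.lf 81365)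 (.lf 0))))) (.nd (.nd (.nd (.nd (.lf 0) (.lf 0)) (.nd (.lf 0) (.lf 0))) (.nd (.nd (.lf 0) (.lf 0)) (.nd (.lf 0) (.lf 0)))) (.nd (.nd (.nd (.lf 0) (.lf 0)) (.nd (.lf 85462) (.lf 0))) (.nd (.nd (.lf 0) (.lf 0)) (.nd (.lf 0) (.lf 0)))))))) (.nd (.nd (.nd (.nd (.nd (.nd (.nd (.lf 0) (.lf 0)) (.nd (.lf 109526) (.lf 0))) (.nd (.nd (.lf 0) (.lf 0)) (.nd (.lf 0) (.lf 0)))) (.nd (.nd (.nd (.lf 0) (.lf 0)) (.nd (.lf 6229) (.lf 0))) (.nd (.nd (.lf 0) (.lf 0)) (.nd (.lf 0) (.lf 0))))) (.nd (.nd (.nd (.nd (.lf 0) (.lf 0)) (.nd (.lf 0) (.lf 0))) (.nd (.nd (.lf 0) (.lf 0)) (.nd (.lf 0) (.lf 0)))) (.nd (.nd (.nd (.lf 0) (.lf 0)) (.nd (.lf 0) (.lf 0))) (.nd (.nd (.lf 0) (.lf 0)) (.nd (.lf 0) (.lf 0)))))) (.nd (.nd (.nd (.nd (.nd (.lf 0) (.lf 0)) (.nd (.lf 48405) (.lf 0))) (.nd (.nd (.lf 0) (.lf 0)) (.nd (.lf 57557)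 (.lf 0)))) (.nd (.nd (.nd (.lf 0) (.lf 0)) (.nd (.lf 0) (.lf 0))) (.nd (.nd (.lf 45526) (.lf 0)) (.nd (.lf 0) (.lf 0))))) (.nd (.nd (.nd (.nd (.lf 57622) (.lf 0)) (.nd (.lf 0) (.lf 0))) (.nd (.nd (.lf 0) (.lf 0)) (.nd (.lf 0) (.lf 0)))) (.nd (.nd (.nd (.lf 0) (.lf 0)) (.nd (.lf 0) (.lf 0))) (.nd (.nd (.lf 83605) (.lf 0)) (.nd (.lf 0) (.lf 0))))))) (.nd (.nd (.nd (.nd (.nd (.nd (.lf 0) (.lf 0)) (.nd (.lf 0) (.lf 0))) (.nd (.nd (.lf 0) (.lf 0)) (.nd (.lf 0) (.lf 0)))) (.nd (.nd (.nd (.lf 0) (.lf 0)) (.nd (.lf 0) (.lf 0))) (.nd (.nd (.lf 0) (.lf 0)) (.nd (.lf 0) (.lf 0))))) (.nd (.nd (.nd (.nd (.lf 0) (.lf 0)) (.nd (.lf 0) (.lf 0))) (.nd (.nd (.lf 0) (.lf 0)) (.nd (.lf 0) (.lf 0)))) (.nd (.nd (.nd (.lf 0) (.lf 0)) (.nd (.lf 0) (.lf 0))) (.nd (.nd (.lf 0) (.lf 0)) (.nd (.lf 0) (.lf 0)))))) (.nd (.nd (.nd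 (.nd (.nd (.lf 0) (.lf 0)) (.nd (.lf 0) (.lf 0))) (.nd (.nd (.lf 0) (.lf 0)) (.nd (.lf 0) (.lf 0)))) (.nd (.nd (.nd (.lf 59734) (.lf 0)) (.nd (.lf 0) (.lf 0))) (.nd (.nd (.lf 71574) (.lf 0)) (.nd (.lf 0) (.lf 0))))) (.nd (.nd (.nd (.nd (.lf 0) (.lf 0)) (.nd (.lf 0) (.lf 0))) (.nd (.nd (.lf 0) (.lf 0)) (.nd (.lf 0) (.lf 0)))) (.nd (.nd (.nd (.lf 89046) (.lf 0)) (.nd (.lf 0) (.lf 0))) (.nd (.nd (.lf 99542) (.lf 0)) (.nd (.lf 46358) (.lf 0))))))))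

/-- table part -/
def tT2_9 : Tr :=
  .nd (.nd (.nd (.nd (.nd (.nd (.nd (.nd (.lf 0) (.lf 0)) (.nd (.lf 0) (.lf 0))) (.nd (.nd (.lf 89685) (.lf 0)) (.nd (.lf 121237) (.lf 0)))) (.nd (.nd (.nd (.lf 0) (.lf 0)) (.nd (.lf 87381) (.lf 0))) (.nd (.nd (.lf 0) (.lf 0)) (.nd (.lf 0) (.lf 0))))) (.nd (.nd (.nd (.nd (.lf 0) (.lf 0)) (.nd (.lf 0) (.lf 0))) (.nd (.nd (.lf 0) (.lf 0)) (.nd (.lf 0) (.lf 0)))) (.nd (.nd (.nd (.lf 0) (.lf 0)) (.nd (.lf 0) (.lf 0))) (.nd (.nd (.lf 0) (.lf 0)) (.nd (.lf 0) (.lf 0)))))) (.nd (.nd (.nd (.nd (.nd (.lf 0) (.lf 0)) (.nd (.lf 0) (.lf 0))) (.nd (.nd (.lf 0) (.lf 0)) (.nd (.lf 0) (.lf 0)))) (.nd (.nd (.nd (.lf 0) (.lf 0)) (.nd (.lf 0) (.lf 0))) (.nd (.nd (.lf 0) (.lf 0)) (.nd (.lf 0) (.lf 0))))) (.nd (.nd (.nd (.nd (.lf 0) (.lf 0)) (.nd (.lf 0) (.lf 0))) (.nd (.nd (.lf 0)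 (.lf 0)) (.nd (.lf 0) (.lf 0)))) (.nd (.nd (.nd (.lf 0) (.lf 0)) (.nd (.lf 0) (.lf 0))) (.nd (.nd (.lf 54614) (.lf 0)) (.nd (.lf 0) (.lf 0))))))) (.nd (.nd (.nd (.nd (.nd (.nd (.lf 0) (.lf 0)) (.nd (.lf 0) (.lf 0))) (.nd (.nd (.lf 0) (.lf 0)) (.nd (.lf 0) (.lf 0)))) (.nd (.nd (.nd (.lf 0) (.lf 0)) (.nd (.lf 0) (.lf 0))) (.nd (.nd (.lf 0) (.lf 0)) (.nd (.lf 0) (.lf 0))))) (.nd (.nd (.nd (.nd (.lf 0) (.lf 0)) (.nd (.lf 45525) (.lf 0))) (.nd (.nd (.lf 0) (.lf 0)) (.nd (.lf 0) (.lf 0)))) (.nd (.nd (.nd (.lf 0) (.lf 0)) (.nd (.lf 0) (.lf 0))) (.nd (.nd (.lf 127382) (.lf 0)) (.nd (.lf 0) (.lf 0)))))) (.nd (.nd (.nd (.nd (.nd (.lf 100630) (.lf 0)) (.nd (.lf 37654) (.lf 0))) (.nd (.nd (.lf 0) (.lf 0)) (.nd (.lf 131414) (.lf 0)))) (.nd (.nd (.nd (.lf 0) (.lf 0)) (.nd (.lf 0) (.lf 0))) (.nd (.nd (.lf 0) (.lf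 0)) (.nd (.lf 0) (.lf 0))))) (.nd (.nd (.nd (.nd (.lf 59605) (.lf 0)) (.nd (.lf 0) (.lf 0))) (.nd (.nd (.lf 0) (.lf 0)) (.nd (.lf 0) (.lf 0)))) (.nd (.nd (.nd (.lf 21) (.lf 0)) (.nd (.lf 0) (.lf 0))) (.nd (.nd (.lf 0) (.lf 0)) (.nd (.lf 0) (.lf 0)))))))) (.nd (.nd (.nd (.nd (.nd (.nd (.nd (.lf 0) (.lf 0)) (.nd (.lf 0) (.lf 0))) (.nd (.nd (.lf 0) (.lf 0)) (.nd (.lf 0) (.lf 0)))) (.nd (.nd (.nd (.lf 0) (.lf 0)) (.nd (.lf 0) (.lf 0))) (.nd (.nd (.lf 0) (.lf 0)) (.nd (.lf 0) (.lf 0))))) (.nd (.nd (.nd (.nd (.lf 0) (.lf 0)) (.nd (.lf 0) (.lf 0))) (.nd (.nd (.lf 0) (.lf 0)) (.nd (.lf 0) (.lf 0)))) (.nd (.nd (.nd (.lf 0) (.lf 0)) (.nd (.lf 0) (.lf 0))) (.nd (.nd (.lf 0) (.lf 0)) (.nd (.lf 0) (.lf 0)))))) (.nd (.nd (.nd (.nd (.nd (.lf 78998) (.lf 0)) (.nd (.lf 98773) (.lf 0))) (.nd (.nd (.lf 0) (.lf 0)) (.nd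 (.lf 0) (.lf 0)))) (.nd (.nd (.nd (.lf 0) (.lf 0)) (.nd (.lf 0) (.lf 0))) (.nd (.nd (.lf 0) (.lf 0)) (.nd (.lf 0) (.lf 0))))) (.nd (.nd (.nd (.nd (.lf 0) (.lf 0)) (.nd (.lf 0) (.lf 0))) (.nd (.nd (.lf 0) (.lf 0)) (.nd (.lf 0) (.lf 0)))) (.nd (.nd (.nd (.lf 0) (.lf 0)) (.nd (.lf 114646) (.lf 0))) (.nd (.nd (.lf 0) (.lf 0)) (.nd (.lf 0) (.lf 0))))))) (.nd (.nd (.nd (.nd (.nd (.nd (.lf 0) (.lf 0)) (.nd (.lf 0) (.lf 0))) (.nd (.nd (.lf 0) (.lf 0)) (.nd (.lf 0) (.lf 0)))) (.nd (.nd (.nd (.lf 114133) (.lf 0)) (.nd (.lf 0) (.lf 0))) (.nd (.nd (.lf 0) (.lf 0)) (.nd (.lf 0) (.lf 0))))) (.nd (.nd (.nd (.nd (.lf 0) (.lf 0)) (.nd (.lf 0) (.lf 0))) (.nd (.nd (.lf 0) (.lf 0)) (.nd (.lf 0) (.lf 0)))) (.nd (.nd (.nd (.lf 0) (.lf 0)) (.nd (.lf 0) (.lf 0))) (.nd (.nd (.lf 0) (.lf 0)) (.nd (.lf 0) (.lf 0)))))) (.nd (.nd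 (.nd (.nd (.nd (.lf 0) (.lf 0)) (.nd (.lf 0) (.lf 0))) (.nd (.nd (.lf 0) (.lf 0)) (.nd (.lf 0) (.lf 0)))) (.nd (.nd (.nd (.lf 15637) (.lf 0)) (.nd (.lf 0) (.lf 0))) (.nd (.nd (.lf 119190) (.lf 0)) (.nd (.lf 0) (.lf 0))))) (.nd (.nd (.nd (.nd (.lf 0) (.lf 0)) (.nd (.lf 0) (.lf 0))) (.nd (.nd (.lf 0) (.lf 0)) (.nd (.lf 0) (.lf 0)))) (.nd (.nd (.nd (.lf 0) (.lf 0)) (.nd (.lf 0) (.lf 0))) (.nd (.nd (.lf 0) (.lf 0)) (.nd (.lf 0) (.lf 0))))))))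

/-- table part -/
def tT2_10 : Tr :=
  .nd (.nd (.nd (.nd (.nd (.nd (.nd (.nd (.lf 119189) (.lf 0)) (.nd (.lf 0) (.lf 0))) (.nd (.nd (.lf 0) (.lf 0)) (.nd (.lf 0) (.lf 0)))) (.nd (.nd (.nd (.lf 0) (.lf 0)) (.nd (.lf 26389) (.lf 0))) (.nd (.nd (.lf 124181) (.lf 0)) (.nd (.lf 0) (.lf 0))))) (.nd (.nd (.nd (.nd (.lf 118998) (.lf 0)) (.nd (.lf 0) (.lf 0))) (.nd (.nd (.lf 115862) (.lf 0)) (.nd (.lf 0) (.lf 0)))) (.nd (.nd (.nd (.lf 0) (.lf 0)) (.nd (.lf 122197) (.lf 0))) (.nd (.nd (.lf 0) (.lf 0)) (.nd (.lf 0) (.lf 0)))))) (.nd (.nd (.nd (.nd (.nd (.lf 13526) (.lf 0)) (.nd (.lf 0) (.lf 0))) (.nd (.nd (.lf 0) (.lf 0)) (.nd (.lf 0) (.lf 0)))) (.nd (.nd (.nd (.lf 0) (.lf 0)) (.nd (.lf 0) (.lf 0))) (.nd (.nd (.lf 0) (.lf 0)) (.nd (.lf 31765) (.lf 0))))) (.nd (.nd (.nd (.nd (.lf 0) (.lf 0)) (.nd (.lf 59797)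 (.lf 0))) (.nd (.nd (.lf 0) (.lf 0)) (.nd (.lf 0) (.lf 0)))) (.nd (.nd (.nd (.lf 0) (.lf 0)) (.nd (.lf 0) (.lf 0))) (.nd (.nd (.lf 0) (.lf 0)) (.nd (.lf 0) (.lf 0))))))) (.nd (.nd (.nd (.nd (.nd (.nd (.lf 21013) (.lf 0)) (.nd (.lf 0) (.lf 0))) (.nd (.nd (.lf 0) (.lf 0)) (.nd (.lf 83222) (.lf 0)))) (.nd (.nd (.nd (.lf 33685) (.lf 0)) (.nd (.lf 0) (.lf 0))) (.nd (.nd (.lf 77461) (.lf 0)) (.nd (.lf 0) (.lf 0))))) (.nd (.nd (.nd (.nd (.lf 0) (.lf 0)) (.nd (.lf 0) (.lf 0))) (.nd (.nd (.lf 0) (.lf 0)) (.nd (.lf 24214) (.lf 0)))) (.nd (.nd (.nd (.lf 0) (.lf 0)) (.nd (.lf 0) (.lf 0))) (.nd (.nd (.lf 0) (.lf 0)) (.nd (.lf 0) (.lf 0)))))) (.nd (.nd (.nd (.nd (.nd (.lf 0) (.lf 0)) (.nd (.lf 20885) (.lf 0))) (.nd (.nd (.lf 0) (.lf 0)) (.nd (.lf 0) (.lf 0)))) (.nd (.nd (.nd (.lf 0) (.lf 0)) (.nd (.lf 0) (.lf 0)))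 (.nd (.nd (.lf 27350) (.lf 0)) (.nd (.lf 0) (.lf 0))))) (.nd (.nd (.nd (.nd (.lf 0) (.lf 0)) (.nd (.lf 0) (.lf 0))) (.nd (.nd (.lf 119509) (.lf 0)) (.nd (.lf 0) (.lf 0)))) (.nd (.nd (.nd (.lf 0) (.lf 0)) (.nd (.lf 0) (.lf 0))) (.nd (.nd (.lf 0) (.lf 0)) (.nd (.lf 0) (.lf 0)))))))) (.nd (.nd (.nd (.nd (.nd (.nd (.nd (.lf 0) (.lf 0)) (.nd (.lf 0) (.lf 0))) (.nd (.nd (.lf 32662) (.lf 0)) (.nd (.lf 0) (.lf 0)))) (.nd (.nd (.nd (.lf 0) (.lf 0)) (.nd (.lf 0) (.lf 0))) (.nd (.nd (.lf 0) (.lf 0)) (.nd (.lf 0) (.lf 0))))) (.nd (.nd (.nd (.nd (.lf 0) (.lf 0)) (.nd (.lf 0) (.lf 0))) (.nd (.nd (.lf 0) (.lf 0)) (.nd (.lf 0) (.lf 0)))) (.nd (.nd (.nd (.lf 0) (.lf 0)) (.nd (.lf 0) (.lf 0))) (.nd (.nd (.lf 46357) (.lf 0)) (.nd (.lf 0) (.lf 0)))))) (.nd (.nd (.nd (.nd (.nd (.lf 0) (.lf 0)) (.nd (.lf 0) (.lf 0))) (.nd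 (.nd (.lf 0) (.lf 0)) (.nd (.lf 0) (.lf 0)))) (.nd (.nd (.nd (.lf 64213) (.lf 0)) (.nd (.lf 0) (.lf 0))) (.nd (.nd (.lf 83606) (.lf 0)) (.nd (.lf 0) (.lf 0))))) (.nd (.nd (.nd (.nd (.lf 0) (.lf 0)) (.nd (.lf 0) (.lf 0))) (.nd (.nd (.lf 0) (.lf 0)) (.nd (.lf 0) (.lf 0)))) (.nd (.nd (.nd (.lf 0) (.lf 0)) (.nd (.lf 0) (.lf 0))) (.nd (.nd (.lf 0) (.lf 0)) (.nd (.lf 130709) (.lf 0))))))) (.nd (.nd (.nd (.nd (.nd (.nd (.lf 0) (.lf 0)) (.nd (.lf 0) (.lf 0))) (.nd (.nd (.lf 0) (.lf 0)) (.nd (.lf 0) (.lf 0)))) (.nd (.nd (.nd (.lf 0) (.lf 0)) (.nd (.lf 0) (.lf 0))) (.nd (.nd (.lf 0) (.lf 0)) (.nd (.lf 44437) (.lf 0))))) (.nd (.nd (.nd (.nd (.lf 0) (.lf 0)) (.nd (.lf 0) (.lf 0))) (.nd (.nd (.lf 0) (.lf 0)) (.nd (.lf 0) (.lf 0)))) (.nd (.nd (.nd (.lf 0) (.lf 0)) (.nd (.lf 0) (.lf 0))) (.nd (.nd (.lf 0) (.lf 0))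 (.nd (.lf 0) (.lf 0)))))) (.nd (.nd (.nd (.nd (.nd (.lf 0) (.lf 0)) (.nd (.lf 0) (.lf 0))) (.nd (.nd (.lf 54486) (.lf 0)) (.nd (.lf 0) (.lf 0)))) (.nd (.nd (.nd (.lf 0) (.lf 0)) (.nd (.lf 69781) (.lf 0))) (.nd (.nd (.lf 0) (.lf 0)) (.nd (.lf 0) (.lf 0))))) (.nd (.nd (.nd (.nd (.lf 0) (.lf 0)) (.nd (.lf 0) (.lf 0))) (.nd (.nd (.lf 0) (.lf 0)) (.nd (.lf 0) (.lf 0)))) (.nd (.nd (.nd (.lf 0) (.lf 0)) (.nd (.lf 0) (.lf 0))) (.nd (.nd (.lf 0) (.lf 0)) (.nd (.lf 0) (.lf 0))))))))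

/-- table part -/
def tT2_11 : Tr :=
  .nd (.nd (.nd (.nd (.nd (.nd (.nd (.nd (.lf 0) (.lf 26453)) (.nd (.lf 81685) (.lf 0))) (.nd (.nd (.lf 0) (.lf 0)) (.nd (.lf 79189) (.lf 0)))) (.nd (.nd (.nd (.lf 0) (.lf 0)) (.nd (.lf 0) (.lf 0))) (.nd (.nd (.lf 0) (.lf 0)) (.nd (.lf 0) (.lf 0))))) (.nd (.nd (.nd (.nd (.lf 0) (.lf 0)) (.nd (.lf 52502) (.lf 0))) (.nd (.nd (.lf 0) (.lf 0)) (.nd (.lf 0) (.lf 0)))) (.nd (.nd (.nd (.lf 0) (.lf 0)) (.nd (.lf 88406) (.lf 0))) (.nd (.nd (.lf 0) (.lf 0)) (.nd (.lf 0) (.lf 0)))))) (.nd (.nd (.nd (.nd (.nd (.lf 0) (.lf 0)) (.nd (.lf 0) (.lf 0))) (.nd (.nd (.lf 0) (.lf 0)) (.nd (.lf 0) (.lf 0)))) (.nd (.nd (.nd (.lf 0) (.lf 0)) (.nd (.lf 0) (.lf 0))) (.nd (.nd (.lf 0) (.lf 0)) (.nd (.lf 0) (.lf 0))))) (.nd (.nd (.nd (.nd (.lf 0) (.lf 0)) (.nd (.lf 0) (.lf 0))) (.nd (.nd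 (.lf 0) (.lf 0)) (.nd (.lf 0) (.lf 0)))) (.nd (.nd (.nd (.lf 0) (.lf 0)) (.nd (.lf 120790) (.lf 0))) (.nd (.nd (.lf 0) (.lf 0)) (.nd (.lf 0) (.lf 0))))))) (.nd (.nd (.nd (.nd (.nd (.nd (.lf 0) (.lf 0)) (.nd (.lf 0) (.lf 0))) (.nd (.nd (.lf 0) (.lf 0)) (.nd (.lf 0) (.lf 0)))) (.nd (.nd (.nd (.lf 0) (.lf 0)) (.nd (.lf 89110) (.lf 0))) (.nd (.nd (.lf 0) (.lf 0)) (.nd (.lf 0) (.lf 0))))) (.nd (.nd (.nd (.nd (.lf 0) (.lf 0)) (.nd (.lf 0) (.lf 0))) (.nd (.nd (.lf 0) (.lf 0)) (.nd (.lf 0) (.lf 0)))) (.nd (.nd (.nd (.lf 123861) (.lf 0)) (.nd (.lf 0) (.lf 0))) (.nd (.nd (.lf 89366) (.lf 0)) (.nd (.lf 25813) (.lf 0)))))) (.nd (.nd (.nd (.nd (.nd (.lf 0) (.lf 0)) (.nd (.lf 0) (.lf 0))) (.nd (.nd (.lf 0) (.lf 0)) (.nd (.lf 0) (.lf 0)))) (.nd (.nd (.nd (.lf 0) (.lf 0)) (.nd (.lf 68821) (.lf 0))) (.nd (.nd (.lf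 0) (.lf 0)) (.nd (.lf 0) (.lf 0))))) (.nd (.nd (.nd (.nd (.lf 0) (.lf 0)) (.nd (.lf 0) (.lf 0))) (.nd (.nd (.lf 0) (.lf 0)) (.nd (.lf 71766) (.lf 0)))) (.nd (.nd (.nd (.lf 0) (.lf 0)) (.nd (.lf 0) (.lf 0))) (.nd (.nd (.lf 78550) (.lf 0)) (.nd (.lf 0) (.lf 0)))))))) (.nd (.nd (.nd (.nd (.nd (.nd (.nd (.lf 0) (.lf 0)) (.nd (.lf 0) (.lf 0))) (.nd (.nd (.lf 0) (.lf 0)) (.nd (.lf 0) (.lf 0)))) (.nd (.nd (.nd (.lf 11093) (.lf 0)) (.nd (.lf 0) (.lf 0))) (.nd (.nd (.lf 0) (.lf 0)) (.nd (.lf 0) (.lf 0))))) (.nd (.nd (.nd (.nd (.lf 0) (.lf 0)) (.nd (.lf 0) (.lf 0))) (.nd (.nd (.lf 0) (.lf 0)) (.nd (.lf 0) (.lf 0)))) (.nd (.nd (.nd (.lf 0) (.lf 0)) (.nd (.lf 0) (.lf 0))) (.nd (.nd (.lf 0) (.lf 0)) (.nd (.lf 0) (.lf 0)))))) (.nd (.nd (.nd (.nd (.nd (.lf 0) (.lf 0)) (.nd (.lf 0) (.lf 0))) (.nd (.nd (.lf 127830)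 (.lf 0)) (.nd (.lf 0) (.lf 0)))) (.nd (.nd (.nd (.lf 0) (.lf 0)) (.nd (.lf 121622) (.lf 0))) (.nd (.nd (.lf 82517) (.lf 0)) (.nd (.lf 0) (.lf 0))))) (.nd (.nd (.nd (.nd (.lf 0) (.lf 0)) (.nd (.lf 67477) (.lf 0))) (.nd (.nd (.lf 0) (.lf 0)) (.nd (.lf 0) (.lf 0)))) (.nd (.nd (.nd (.lf 0) (.lf 0)) (.nd (.lf 0) (.lf 0))) (.nd (.nd (.lf 0) (.lf 0)) (.nd (.lf 0) (.lf 0))))))) (.nd (.nd (.nd (.nd (.nd (.nd (.lf 29590) (.lf 0)) (.nd (.lf 0) (.lf 0))) (.nd (.nd (.lf 0) (.lf 0)) (.nd (.lf 0) (.lf 0)))) (.nd (.nd (.nd (.lf 0) (.lf 0)) (.nd (.lf 0) (.lf 0))) (.nd (.nd (.lf 0) (.lf 0)) (.nd (.lf 0) (.lf 0))))) (.nd (.nd (.nd (.nd (.lf 0) (.lf 0)) (.nd (.lf 0) (.lf 0))) (.nd (.nd (.lf 0) (.lf 0)) (.nd (.lf 0) (.lf 0)))) (.nd (.nd (.nd (.lf 0) (.lf 0)) (.nd (.lf 0) (.lf 0))) (.nd (.nd (.lf 0) (.lf 0)) (.nd (.lf 48790)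 (.lf 0)))))) (.nd (.nd (.nd (.nd (.nd (.lf 0) (.lf 0)) (.nd (.lf 0) (.lf 0))) (.nd (.nd (.lf 0) (.lf 0)) (.nd (.lf 126677) (.lf 0)))) (.nd (.nd (.nd (.lf 0) (.lf 0)) (.nd (.lf 0) (.lf 0))) (.nd (.nd (.lf 121302) (.lf 0)) (.nd (.lf 87765) (.lf 0))))) (.nd (.nd (.nd (.nd (.lf 0) (.lf 0)) (.nd (.lf 0) (.lf 0))) (.nd (.nd (.lf 0) (.lf 0)) (.nd (.lf 0) (.lf 0)))) (.nd (.nd (.nd (.lf 0) (.lf 0)) (.nd (.lf 0) (.lf 0))) (.nd (.nd (.lf 32661) (.lf 0)) (.nd (.lf 0) (.lf 0))))))))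

/-- table part -/
def tT2_12 : Tr :=
  .nd (.nd (.nd (.nd (.nd (.nd (.nd (.nd (.lf 0) (.lf 0)) (.nd (.lf 0) (.lf 0))) (.nd (.nd (.lf 43414) (.lf 0)) (.nd (.lf 0) (.lf 0)))) (.nd (.nd (.nd (.lf 0) (.lf 0)) (.nd (.lf 0) (.lf 0))) (.nd (.nd (.lf 0) (.lf 0)) (.nd (.lf 0) (.lf 0))))) (.nd (.nd (.nd (.nd (.lf 0) (.lf 0)) (.nd (.lf 0) (.lf 0))) (.nd (.nd (.lf 0) (.lf 0)) (.nd (.lf 0) (.lf 0)))) (.nd (.nd (.nd (.lf 0) (.lf 0)) (.nd (.lf 0) (.lf 0))) (.nd (.nd (.lf 0) (.lf 0)) (.nd (.lf 0) (.lf 0)))))) (.nd (.nd (.nd (.nd (.nd (.lf 0) (.lf 0)) (.nd (.lf 0) (.lf 0))) (.nd (.nd (.lf 94358) (.lf 0)) (.nd (.lf 0) (.lf 0)))) (.nd (.nd (.nd (.lf 0) (.lf 0)) (.nd (.lf 0) (.lf 0))) (.nd (.nd (.lf 0) (.lf 0)) (.nd (.lf 0) (.lf 0))))) (.nd (.nd (.nd (.nd (.lf 49366) (.lf 0)) (.nd (.lf 0) (.lf 0))) (.nd (.nd (.lf 0)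 (.lf 0)) (.nd (.lf 0) (.lf 0)))) (.nd (.nd (.nd (.lf 0) (.lf 0)) (.nd (.lf 0) (.lf 0))) (.nd (.nd (.lf 0) (.lf 0)) (.nd (.lf 119381) (.lf 0))))))) (.nd (.nd (.nd (.nd (.nd (.nd (.lf 0) (.lf 0)) (.nd (.lf 0) (.lf 0))) (.nd (.nd (.lf 0) (.lf 0)) (.nd (.lf 0) (.lf 0)))) (.nd (.nd (.nd (.lf 0) (.lf 0)) (.nd (.lf 0) (.lf 0))) (.nd (.nd (.lf 17750) (.lf 0)) (.nd (.lf 18709) (.lf 0))))) (.nd (.nd (.nd (.nd (.lf 18710) (.lf 0)) (.nd (.lf 0) (.lf 0))) (.nd (.nd (.lf 0) (.lf 0)) (.nd (.lf 0) (.lf 0)))) (.nd (.nd (.nd (.lf 118358) (.lf 0)) (.nd (.lf 0) (.lf 0))) (.nd (.nd (.lf 0) (.lf 0)) (.nd (.lf 0) (.lf 0)))))) (.nd (.nd (.nd (.nd (.nd (.lf 0) (.lf 0)) (.nd (.lf 0) (.lf 0))) (.nd (.nd (.lf 0) (.lf 0)) (.nd (.lf 0) (.lf 0)))) (.nd (.nd (.nd (.lf 0) (.lf 0)) (.nd (.lf 0) (.lf 0))) (.nd (.nd (.lf 0) (.lf 0))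 (.nd (.lf 24982) (.lf 0))))) (.nd (.nd (.nd (.nd (.lf 0) (.lf 0)) (.nd (.lf 60822) (.lf 0))) (.nd (.nd (.lf 0) (.lf 0)) (.nd (.lf 0) (.lf 0)))) (.nd (.nd (.nd (.lf 0) (.lf 0)) (.nd (.lf 0) (.lf 0))) (.nd (.nd (.lf 0) (.lf 0)) (.nd (.lf 0) (.lf 0)))))))) (.nd (.nd (.nd (.nd (.nd (.nd (.nd (.lf 0) (.lf 0)) (.nd (.lf 0) (.lf 0))) (.nd (.nd (.lf 0) (.lf 0)) (.nd (.lf 0) (.lf 0)))) (.nd (.nd (.nd (.lf 0) (.lf 0)) (.nd (.lf 0) (.lf 0))) (.nd (.nd (.lf 0) (.lf 0)) (.nd (.lf 0) (.lf 0))))) (.nd (.nd (.nd (.nd (.lf 0) (.lf 0)) (.nd (.lf 0) (.lf 0))) (.nd (.nd (.lf 0) (.lf 0)) (.nd (.lf 0) (.lf 0)))) (.nd (.nd (.nd (.lf 100629) (.lf 0)) (.nd (.lf 0) (.lf 0))) (.nd (.nd (.lf 0) (.lf 0)) (.nd (.lf 0) (.lf 0)))))) (.nd (.nd (.nd (.nd (.nd (.lf 0) (.lf 0)) (.nd (.lf 89686) (.lf 0))) (.nd (.nd (.lf 0) (.lf 0)) (.nd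 (.lf 0) (.lf 0)))) (.nd (.nd (.nd (.lf 0) (.lf 0)) (.nd (.lf 0) (.lf 0))) (.nd (.nd (.lf 0) (.lf 0)) (.nd (.lf 0) (.lf 0))))) (.nd (.nd (.nd (.nd (.lf 0) (.lf 0)) (.nd (.lf 0) (.lf 0))) (.nd (.nd (.lf 0) (.lf 0)) (.nd (.lf 0) (.lf 0)))) (.nd (.nd (.nd (.lf 0) (.lf 0)) (.nd (.lf 0) (.lf 0))) (.nd (.nd (.lf 19542) (.lf 0)) (.nd (.lf 0) (.lf 0))))))) (.nd (.nd (.nd (.nd (.nd (.nd (.lf 0) (.lf 0)) (.nd (.lf 44310) (.lf 0))) (.nd (.nd (.lf 0) (.lf 0)) (.nd (.lf 0) (.lf 0)))) (.nd (.nd (.nd (.lf 75861) (.lf 0)) (.nd (.lf 0) (.lf 0))) (.nd (.nd (.lf 0) (.lf 0)) (.nd (.lf 0) (.lf 0))))) (.nd (.nd (.nd (.nd (.lf 59477) (.lf 0)) (.nd (.lf 0) (.lf 0))) (.nd (.nd (.lf 64214) (.lf 0)) (.nd (.lf 0) (.lf 0)))) (.nd (.nd (.nd (.lf 0) (.lf 0)) (.nd (.lf 0) (.lf 0))) (.nd (.nd (.lf 0) (.lf 0)) (.nd (.lf 119382) (.lf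 0)))))) (.nd (.nd (.nd (.nd (.nd (.lf 89365) (.lf 0)) (.nd (.lf 0) (.lf 0))) (.nd (.nd (.lf 0) (.lf 0)) (.nd (.lf 0) (.lf 0)))) (.nd (.nd (.nd (.lf 0) (.lf 0)) (.nd (.lf 0) (.lf 0))) (.nd (.nd (.lf 0) (.lf 0)) (.nd (.lf 0) (.lf 0))))) (.nd (.nd (.nd (.nd (.lf 0) (.lf 0)) (.nd (.lf 68117) (.lf 0))) (.nd (.nd (.lf 0) (.lf 0)) (.nd (.lf 0) (.lf 0)))) (.nd (.nd (.nd (.lf 0) (.lf 0)) (.nd (.lf 0) (.lf 0))) (.nd (.nd (.lf 0) (.lf 0)) (.nd (.lf 0) (.lf 0))))))))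

/-- table part -/
def tT2_13 : Tr :=
  .nd (.nd (.nd (.nd (.nd (.nd (.nd (.nd (.lf 0) (.lf 0)) (.nd (.lf 0) (.lf 0))) (.nd (.nd (.lf 0) (.lf 0)) (.nd (.lf 0) (.lf 0)))) (.nd (.nd (.nd (.lf 0) (.lf 0)) (.nd (.lf 52501) (.lf 0))) (.nd (.nd (.lf 3413) (.lf 0)) (.nd (.lf 0) (.lf 0))))) (.nd (.nd (.nd (.nd (.lf 0) (.lf 0)) (.nd (.lf 0) (.lf 0))) (.nd (.nd (.lf 0) (.lf 0)) (.nd (.lf 0) (.lf 0)))) (.nd (.nd (.nd (.lf 0) (.lf 0)) (.nd (.lf 0) (.lf 0))) (.nd (.nd (.lf 4757) (.lf 0)) (.nd (.lf 47701) (.lf 0)))))) (.nd (.nd (.nd (.nd (.nd (.lf 0) (.lf 0)) (.nd (.lf 0) (.lf 0))) (.nd (.nd (.lf 0) (.lf 0)) (.nd (.lf 52181) (.lf 0)))) (.nd (.nd (.nd (.lf 0) (.lf 0)) (.nd (.lf 0) (.lf 0))) (.nd (.nd (.lf 0) (.lf 0)) (.nd (.lf 80854) (.lf 0))))) (.nd (.nd (.nd (.nd (.lf 406) (.lf 0)) (.nd (.lf 0) (.lf 0))) (.nd (.nd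 (.lf 0) (.lf 0)) (.nd (.lf 0) (.lf 0)))) (.nd (.nd (.nd (.lf 0) (.lf 0)) (.nd (.lf 0) (.lf 0))) (.nd (.nd (.lf 0) (.lf 0)) (.nd (.lf 78997) (.lf 0))))))) (.nd (.nd (.nd (.nd (.nd (.nd (.lf 0) (.lf 0)) (.nd (.lf 0) (.lf 0))) (.nd (.nd (.lf 0) (.lf 0)) (.nd (.lf 81174) (.lf 0)))) (.nd (.nd (.nd (.lf 0) (.lf 0)) (.nd (.lf 0) (.lf 0))) (.nd (.nd (.lf 0) (.lf 0)) (.nd (.lf 105814) (.lf 0))))) (.nd (.nd (.nd (.nd (.lf 0) (.lf 0)) (.nd (.lf 0) (.lf 0))) (.nd (.nd (.lf 0) (.lf 0)) (.nd (.lf 0) (.lf 0)))) (.nd (.nd (.nd (.lf 0) (.lf 0)) (.nd (.lf 0) (.lf 0))) (.nd (.nd (.lf 38166) (.lf 0)) (.nd (.lf 87766) (.lf 0)))))) (.nd (.nd (.nd (.nd (.nd (.lf 0) (.lf 0)) (.nd (.lf 0) (.lf 0))) (.nd (.nd (.lf 0) (.lf 0)) (.nd (.lf 0) (.lf 0)))) (.nd (.nd (.nd (.lf 0) (.lf 0)) (.nd (.lf 0) (.lf 0))) (.nd (.nd (.lf 0) (.lf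 0)) (.nd (.lf 0) (.lf 0))))) (.nd (.nd (.nd (.nd (.lf 0) (.lf 0)) (.nd (.lf 0) (.lf 0))) (.nd (.nd (.lf 0) (.lf 0)) (.nd (.lf 0) (.lf 0)))) (.nd (.nd (.nd (.lf 0) (.lf 0)) (.nd (.lf 0) (.lf 0))) (.nd (.nd (.lf 0) (.lf 0)) (.nd (.lf 0) (.lf 0)))))))) (.nd (.nd (.nd (.nd (.nd (.nd (.nd (.lf 0) (.lf 0)) (.nd (.lf 0) (.lf 0))) (.nd (.nd (.lf 0) (.lf 0)) (.nd (.lf 118357) (.lf 0)))) (.nd (.nd (.nd (.lf 0) (.lf 0)) (.nd (.lf 0) (.lf 0))) (.nd (.nd (.lf 47894) (.lf 0)) (.nd (.lf 0) (.lf 0))))) (.nd (.nd (.nd (.nd (.lf 0) (.lf 0)) (.nd (.lf 34581) (.lf 0))) (.nd (.nd (.lf 0) (.lf 0)) (.nd (.lf 0) (.lf 0)))) (.nd (.nd (.nd (.lf 109141) (.lf 0)) (.nd (.lf 0) (.lf 0))) (.nd (.nd (.lf 0) (.lf 0)) (.nd (.lf 0) (.lf 0)))))) (.nd (.nd (.nd (.nd (.nd (.lf 0) (.lf 0)) (.nd (.lf 0) (.lf 0))) (.nd (.nd (.lf 46742) (.lf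 0)) (.nd (.lf 0) (.lf 0)))) (.nd (.nd (.nd (.lf 0) (.lf 0)) (.nd (.lf 0) (.lf 0))) (.nd (.nd (.lf 405) (.lf 0)) (.nd (.lf 0) (.lf 0))))) (.nd (.nd (.nd (.nd (.lf 66262) (.lf 0)) (.nd (.lf 0) (.lf 0))) (.nd (.nd (.lf 0) (.lf 0)) (.nd (.lf 107990) (.lf 0)))) (.nd (.nd (.nd (.lf 0) (.lf 0)) (.nd (.lf 0) (.lf 0))) (.nd (.nd (.lf 0) (.lf 0)) (.nd (.lf 0) (.lf 0))))))) (.nd (.nd (.nd (.nd (.nd (.nd (.lf 0) (.lf 0)) (.nd (.lf 69910) (.lf 0))) (.nd (.nd (.lf 0) (.lf 0)) (.nd (.lf 42005) (.lf 0)))) (.nd (.nd (.nd (.lf 0) (.lf 0)) (.nd (.lf 121238) (.lf 0))) (.nd (.nd (.lf 104533) (.lf 0)) (.nd (.lf 0) (.lf 0))))) (.nd (.nd (.nd (.nd (.lf 0) (.lf 0)) (.nd (.lf 0) (.lf 0))) (.nd (.nd (.lf 0) (.lf 0)) (.nd (.lf 0) (.lf 0)))) (.nd (.nd (.nd (.lf 0) (.lf 0)) (.nd (.lf 127509) (.lf 0))) (.nd (.nd (.lf 0) (.lf 0))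 (.nd (.lf 0) (.lf 0)))))) (.nd (.nd (.nd (.nd (.nd (.lf 0) (.lf 0)) (.nd (.lf 79190) (.lf 0))) (.nd (.nd (.lf 0) (.lf 0)) (.nd (.lf 80022) (.lf 0)))) (.nd (.nd (.nd (.lf 0) (.lf 0)) (.nd (.lf 0) (.lf 0))) (.nd (.nd (.lf 0) (.lf 0)) (.nd (.lf 0) (.lf 0))))) (.nd (.nd (.nd (.nd (.lf 0) (.lf 0)) (.nd (.lf 131541) (.lf 0))) (.nd (.nd (.lf 0) (.lf 0)) (.nd (.lf 0) (.lf 0)))) (.nd (.nd (.nd (.lf 0) (.lf 0)) (.nd (.lf 0) (.lf 0))) (.nd (.nd (.lf 63829) (.lf 0)) (.nd (.lf 0) (.lf 0))))))))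

/-- table part -/
def tT2_14 : Tr :=
  .nd (.nd (.nd (.nd (.nd (.nd (.nd (.nd (.lf 0) (.lf 0)) (.nd (.lf 89045) (.lf 0))) (.nd (.nd (.lf 0) (.lf 0)) (.nd (.lf 0) (.lf 0)))) (.nd (.nd (.nd (.lf 0) (.lf 0)) (.nd (.lf 0) (.lf 0))) (.nd (.nd (.lf 0) (.lf 0)) (.nd (.lf 0) (.lf 0))))) (.nd (.nd (.nd (.nd (.lf 0) (.lf 0)) (.nd (.lf 0) (.lf 0))) (.nd (.nd (.lf 0) (.lf 0)) (.nd (.lf 18454) (.lf 0)))) (.nd (.nd (.nd (.lf 0) (.lf 0)) (.nd (.lf 0) (.lf 0))) (.nd (.nd (.lf 0) (.lf 0)) (.nd (.lf 0) (.lf 0)))))) (.nd (.nd (.nd (.nd (.nd (.lf 0) (.lf 0)) (.nd (.lf 0) (.lf 0))) (.nd (.nd (.lf 0) (.lf 0)) (.nd (.lf 0) (.lf 0)))) (.nd (.nd (.nd (.lf 0) (.lf 0)) (.nd (.lf 0) (.lf 0))) (.nd (.nd (.lf 0) (.lf 0)) (.nd (.lf 111574) (.lf 0))))) (.nd (.nd (.nd (.nd (.lf 0) (.lf 0)) (.nd (.lf 82518) (.lf 0))) (.nd (.nd (.lf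 0) (.lf 0)) (.nd (.lf 61717) (.lf 0)))) (.nd (.nd (.nd (.lf 46741) (.lf 0)) (.nd (.lf 0) (.lf 0))) (.nd (.nd (.lf 0) (.lf 0)) (.nd (.lf 0) (.lf 0))))))) (.nd (.nd (.nd (.nd (.nd (.nd (.lf 0) (.lf 0)) (.nd (.lf 0) (.lf 0))) (.nd (.nd (.lf 0) (.lf 0)) (.nd (.lf 0) (.lf 0)))) (.nd (.nd (.nd (.lf 0) (.lf 0)) (.nd (.lf 0) (.lf 0))) (.nd (.nd (.lf 0) (.lf 0)) (.nd (.lf 85526) (.lf 0))))) (.nd (.nd (.nd (.nd (.lf 0) (.lf 0)) (.nd (.lf 0) (.lf 0))) (.nd (.nd (.lf 0) (.lf 0)) (.nd (.lf 0) (.lf 0)))) (.nd (.nd (.nd (.lf 62741) (.lf 0)) (.nd (.lf 0) (.lf 0))) (.nd (.nd (.lf 0) (.lf 0)) (.nd (.lf 0) (.lf 0)))))) (.nd (.nd (.nd (.nd (.nd (.lf 0) (.lf 0)) (.nd (.lf 0) (.lf 0))) (.nd (.nd (.lf 0) (.lf 0)) (.nd (.lf 0) (.lf 0)))) (.nd (.nd (.nd (.lf 0) (.lf 0)) (.nd (.lf 0) (.lf 0))) (.nd (.nd (.lf 0) (.lf 0)) (.nd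 (.lf 0) (.lf 0))))) (.nd (.nd (.nd (.nd (.lf 0) (.lf 0)) (.nd (.lf 0) (.lf 0))) (.nd (.nd (.lf 0) (.lf 0)) (.nd (.lf 0) (.lf 0)))) (.nd (.nd (.nd (.lf 0) (.lf 0)) (.nd (.lf 53526) (.lf 0))) (.nd (.nd (.lf 75862) (.lf 0)) (.nd (.lf 0) (.lf 0)))))))) (.nd (.nd (.nd (.nd (.nd (.nd (.nd (.lf 0) (.lf 0)) (.nd (.lf 0) (.lf 0))) (.nd (.nd (.lf 0) (.lf 0)) (.nd (.lf 0) (.lf 0)))) (.nd (.nd (.nd (.lf 0) (.lf 0)) (.nd (.lf 0) (.lf 0))) (.nd (.nd (.lf 0) (.lf 0)) (.nd (.lf 0) (.lf 0))))) (.nd (.nd (.nd (.nd (.lf 0) (.lf 0)) (.nd (.lf 0) (.lf 0))) (.nd (.nd (.lf 0) (.lf 0)) (.nd (.lf 0) (.lf 0)))) (.nd (.nd (.nd (.lf 0) (.lf 0)) (.nd (.lf 0) (.lf 0))) (.nd (.nd (.lf 0) (.lf 0)) (.nd (.lf 0) (.lf 0)))))) (.nd (.nd (.nd (.nd (.nd (.lf 0) (.lf 0)) (.nd (.lf 0) (.lf 0))) (.nd (.nd (.lf 0) (.lf 0)) (.nd (.lf 0) (.lf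 0)))) (.nd (.nd (.nd (.lf 0) (.lf 0)) (.nd (.lf 69782) (.lf 0))) (.nd (.nd (.lf 0) (.lf 0)) (.nd (.lf 0) (.lf 0))))) (.nd (.nd (.nd (.nd (.lf 109142) (.lf 0)) (.nd (.lf 0) (.lf 0))) (.nd (.nd (.lf 0) (.lf 0)) (.nd (.lf 0) (.lf 0)))) (.nd (.nd (.nd (.lf 0) (.lf 0)) (.nd (.lf 0) (.lf 0))) (.nd (.nd (.lf 0) (.lf 0)) (.nd (.lf 0) (.lf 0))))))) (.nd (.nd (.nd (.nd (.nd (.nd (.lf 0) (.lf 0)) (.nd (.lf 0) (.lf 0))) (.nd (.nd (.lf 0) (.lf 0)) (.nd (.lf 0) (.lf 0)))) (.nd (.nd (.nd (.lf 68822) (.lf 0)) (.nd (.lf 0) (.lf 0))) (.nd (.nd (.lf 0) (.lf 0)) (.nd (.lf 0) (.lf 0))))) (.nd (.nd (.nd (.nd (.lf 0) (.lf 0)) (.nd (.lf 0) (.lf 0))) (.nd (.nd (.lf 0) (.lf 0)) (.nd (.lf 0) (.lf 0)))) (.nd (.nd (.nd (.lf 0) (.lf 0)) (.nd (.lf 0) (.lf 0))) (.nd (.nd (.lf 0) (.lf 0)) (.nd (.lf 109014) (.lf 0)))))) (.nd (.nd (.nd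 (.nd (.nd (.lf 0) (.lf 0)) (.nd (.lf 0) (.lf 0))) (.nd (.nd (.lf 0) (.lf 0)) (.nd (.lf 0) (.lf 0)))) (.nd (.nd (.nd (.lf 107797) (.lf 0)) (.nd (.lf 0) (.lf 0))) (.nd (.nd (.lf 7701) (.lf 0)) (.nd (.lf 122005) (.lf 0))))) (.nd (.nd (.nd (.nd (.lf 81750) (.lf 0)) (.nd (.lf 0) (.lf 0))) (.nd (.nd (.lf 83221) (.lf 0)) (.nd (.lf 0) (.lf 0)))) (.nd (.nd (.nd (.lf 0) (.lf 0)) (.nd (.lf 71445) (.lf 0))) (.nd (.nd (.lf 0) (.lf 0)) (.nd (.lf 0) (.lf 0))))))))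

/-- table part -/
def tT2_15 : Tr :=
  .nd (.nd (.nd (.nd (.nd (.nd (.nd (.nd (.lf 0) (.lf 118997)) (.nd (.lf 0) (.lf 0))) (.nd (.nd (.lf 0) (.lf 0)) (.nd (.lf 34389) (.lf 0)))) (.nd (.nd (.nd (.lf 0) (.lf 0)) (.nd (.lf 0) (.lf 0))) (.nd (.nd (.lf 0) (.lf 0)) (.nd (.lf 0) (.lf 0))))) (.nd (.nd (.nd (.nd (.lf 0) (.lf 0)) (.nd (.lf 0) (.lf 0))) (.nd (.nd (.lf 0) (.lf 0)) (.nd (.lf 0) (.lf 0)))) (.nd (.nd (.nd (.lf 0) (.lf 0)) (.nd (.lf 0) (.lf 0))) (.nd (.nd (.lf 0) (.lf 0)) (.nd (.lf 0) (.lf 0)))))) (.nd (.nd (.nd (.nd (.nd (.lf 0) (.lf 0)) (.nd (.lf 0) (.lf 0))) (.nd (.nd (.lf 52438) (.lf 0)) (.nd (.lf 0) (.lf 0)))) (.nd (.nd (.nd (.lf 0) (.lf 0)) (.nd (.lf 0) (.lf 0))) (.nd (.nd (.lf 0) (.lf 0)) (.nd (.lf 0) (.lf 0))))) (.nd (.nd (.nd (.nd (.lf 0) (.lf 0)) (.nd (.lf 0) (.lf 0))) (.nd (.nd (.lf 51797)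 (.lf 0)) (.nd (.lf 0) (.lf 0)))) (.nd (.nd (.nd (.lf 0) (.lf 0)) (.nd (.lf 0) (.lf 0))) (.nd (.nd (.lf 0) (.lf 0)) (.nd (.lf 0) (.lf 0))))))) (.nd (.nd (.nd (.nd (.nd (.nd (.lf 0) (.lf 0)) (.nd (.lf 0) (.lf 0))) (.nd (.nd (.lf 0) (.lf 0)) (.nd (.lf 0) (.lf 0)))) (.nd (.nd (.nd (.lf 0) (.lf 0)) (.nd (.lf 0) (.lf 0))) (.nd (.nd (.lf 24022) (.lf 0)) (.nd (.lf 0) (.lf 0))))) (.nd (.nd (.nd (.nd (.lf 0) (.lf 0)) (.nd (.lf 124309) (.lf 0))) (.nd (.nd (.lf 0) (.lf 0)) (.nd (.lf 131413) (.lf 0)))) (.nd (.nd (.nd (.lf 0) (.lf 0)) (.nd (.lf 17749) (.lf 0))) (.nd (.nd (.lf 0) (.lf 0)) (.nd (.lf 0) (.lf 0)))))) (.nd (.nd (.nd (.nd (.nd (.lf 0) (.lf 0)) (.nd (.lf 0) (.lf 0))) (.nd (.nd (.lf 0) (.lf 0)) (.nd (.lf 0) (.lf 0)))) (.nd (.nd (.nd (.lf 0) (.lf 0)) (.nd (.lf 0) (.lf 0))) (.nd (.nd (.lf 0) (.lf 0)) (.nd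 (.lf 18453) (.lf 0))))) (.nd (.nd (.nd (.nd (.lf 121685) (.lf 0)) (.nd (.lf 0) (.lf 0))) (.nd (.nd (.lf 0) (.lf 0)) (.nd (.lf 0) (.lf 0)))) (.nd (.nd (.nd (.lf 0) (.lf 0)) (.nd (.lf 0) (.lf 0))) (.nd (.nd (.lf 0) (.lf 0)) (.nd (.lf 0) (.lf 0)))))))) (.nd (.nd (.nd (.nd (.nd (.nd (.nd (.lf 0) (.lf 0)) (.nd (.lf 0) (.lf 0))) (.nd (.nd (.lf 0) (.lf 0)) (.nd (.lf 0) (.lf 0)))) (.nd (.nd (.nd (.lf 0) (.lf 0)) (.nd (.lf 0) (.lf 0))) (.nd (.nd (.lf 0) (.lf 0)) (.nd (.lf 121621) (.lf 0))))) (.nd (.nd (.nd (.nd (.lf 11542) (.lf 0)) (.nd (.lf 0) (.lf 0))) (.nd (.nd (.lf 0) (.lf 0)) (.nd (.lf 89750) (.lf 0)))) (.nd (.nd (.nd (.lf 69462) (.lf 0)) (.nd (.lf 0) (.lf 0))) (.nd (.nd (.lf 0) (.lf 0)) (.nd (.lf 0) (.lf 0)))))) (.nd (.nd (.nd (.nd (.nd (.lf 0) (.lf 0)) (.nd (.lf 0) (.lf 0))) (.nd (.nd (.lf 98006) (.lf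 0)) (.nd (.lf 0) (.lf 0)))) (.nd (.nd (.nd (.lf 0) (.lf 0)) (.nd (.lf 0) (.lf 0))) (.nd (.nd (.lf 0) (.lf 0)) (.nd (.lf 0) (.lf 0))))) (.nd (.nd (.nd (.nd (.lf 0) (.lf 0)) (.nd (.lf 0) (.lf 0))) (.nd (.nd (.lf 0) (.lf 0)) (.nd (.lf 0) (.lf 0)))) (.nd (.nd (.nd (.lf 0) (.lf 0)) (.nd (.lf 0) (.lf 0))) (.nd (.nd (.lf 0) (.lf 0)) (.nd (.lf 0) (.lf 0))))))) (.nd (.nd (.nd (.nd (.nd (.nd (.lf 0) (.lf 0)) (.nd (.lf 0) (.lf 0))) (.nd (.nd (.lf 0) (.lf 0)) (.nd (.lf 0) (.lf 0)))) (.nd (.nd (.nd (.lf 0) (.lf 0)) (.nd (.lf 29653) (.lf 0))) (.nd (.nd (.lf 0) (.lf 0)) (.nd (.lf 0) (.lf 0))))) (.nd (.nd (.nd (.nd (.lf 0) (.lf 0)) (.nd (.lf 0) (.lf 0))) (.nd (.nd (.lf 0) (.lf 0)) (.nd (.lf 0) (.lf 0)))) (.nd (.nd (.nd (.lf 0) (.lf 0)) (.nd (.lf 0) (.lf 0))) (.nd (.nd (.lf 0) (.lf 0)) (.nd (.lf 0) (.lf 0)))))) (.nd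 (.nd (.nd (.nd (.nd (.lf 0) (.lf 0)) (.nd (.lf 0) (.lf 0))) (.nd (.nd (.lf 0) (.lf 0)) (.nd (.lf 0) (.lf 0)))) (.nd (.nd (.nd (.lf 50454) (.lf 0)) (.nd (.lf 0) (.lf 0))) (.nd (.nd (.lf 0) (.lf 0)) (.nd (.lf 0) (.lf 0))))) (.nd (.nd (.nd (.nd (.lf 0) (.lf 0)) (.nd (.lf 5206) (.lf 0))) (.nd (.nd (.lf 0) (.lf 0)) (.nd (.lf 105109) (.lf 0)))) (.nd (.nd (.nd (.lf 0) (.lf 0)) (.nd (.lf 0) (.lf 0))) (.nd (.nd (.lf 0) (.lf 0)) (.nd (.lf 0) (.lf 0))))))))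

/-- table part -/
def tT2_16 : Tr :=
  .nd (.nd (.nd (.nd (.nd (.nd (.nd (.nd (.lf 0) (.lf 0)) (.nd (.lf 0) (.lf 0))) (.nd (.nd (.lf 0) (.lf 0)) (.nd (.lf 0) (.lf 0)))) (.nd (.nd (.nd (.lf 0) (.lf 0)) (.nd (.lf 0) (.lf 0))) (.nd (.nd (.lf 0) (.lf 0)) (.nd (.lf 0) (.lf 0))))) (.nd (.nd (.nd (.nd (.lf 0) (.lf 0)) (.nd (.lf 90709) (.lf 0))) (.nd (.nd (.lf 0) (.lf 0)) (.nd (.lf 0) (.lf 0)))) (.nd (.nd (.nd (.lf 0) (.lf 0)) (.nd (.lf 0) (.lf 0))) (.nd (.nd (.lf 0) (.lf 0)) (.nd (.lf 55190) (.lf 0)))))) (.nd (.nd (.nd (.nd (.nd (.lf 0) (.lf 0)) (.nd (.lf 0) (.lf 0))) (.nd (.nd (.lf 0) (.lf 0)) (.nd (.lf 111830) (.lf 0)))) (.nd (.nd (.nd (.lf 0) (.lf 0)) (.nd (.lf 0) (.lf 0))) (.nd (.nd (.lf 19029) (.lf 0)) (.nd (.lf 0) (.lf 0))))) (.nd (.nd (.nd (.nd (.lf 0) (.lf 0)) (.nd (.lf 0) (.lf 0))) (.nd (.nd (.lf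 0) (.lf 0)) (.nd (.lf 1429) (.lf 0)))) (.nd (.nd (.nd (.lf 129430) (.lf 0)) (.nd (.lf 87382) (.lf 0))) (.nd (.nd (.lf 0) (.lf 0)) (.nd (.lf 0) (.lf 0))))))) (.nd (.nd (.nd (.nd (.nd (.nd (.lf 0) (.lf 0)) (.nd (.lf 0) (.lf 0))) (.nd (.nd (.lf 0) (.lf 0)) (.nd (.lf 0) (.lf 0)))) (.nd (.nd (.nd (.lf 0) (.lf 0)) (.nd (.lf 0) (.lf 0))) (.nd (.nd (.lf 25237) (.lf 0)) (.nd (.lf 0) (.lf 0))))) (.nd (.nd (.nd (.nd (.lf 0) (.lf 0)) (.nd (.lf 0) (.lf 0))) (.nd (.nd (.lf 0) (.lf 0)) (.nd (.lf 114645) (.lf 0)))) (.nd (.nd (.nd (.lf 0) (.lf 0)) (.nd (.lf 0) (.lf 0))) (.nd (.nd (.lf 0) (.lf 0)) (.nd (.lf 0) (.lf 0)))))) (.nd (.nd (.nd (.nd (.nd (.lf 0) (.lf 0)) (.nd (.lf 0) (.lf 0))) (.nd (.nd (.lf 0) (.lf 0)) (.nd (.lf 0) (.lf 0)))) (.nd (.nd (.nd (.lf 43413) (.lf 0)) (.nd (.lf 109525) (.lf 0))) (.nd (.nd (.lf 0)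 (.lf 0)) (.nd (.lf 0) (.lf 0))))) (.nd (.nd (.nd (.nd (.lf 0) (.lf 0)) (.nd (.lf 94357) (.lf 0))) (.nd (.nd (.lf 0) (.lf 0)) (.nd (.lf 0) (.lf 0)))) (.nd (.nd (.nd (.lf 0) (.lf 0)) (.nd (.lf 0) (.lf 0))) (.nd (.nd (.lf 0) (.lf 0)) (.nd (.lf 0) (.lf 0)))))))) (.nd (.nd (.nd (.nd (.nd (.nd (.nd (.lf 41622) (.lf 0)) (.nd (.lf 68118) (.lf 0))) (.nd (.nd (.lf 0) (.lf 0)) (.nd (.lf 0) (.lf 0)))) (.nd (.nd (.nd (.lf 0) (.lf 0)) (.nd (.lf 0) (.lf 0))) (.nd (.nd (.lf 0) (.lf 0)) (.nd (.lf 0) (.lf 0))))) (.nd (.nd (.nd (.nd (.lf 20182) (.lf 0)) (.nd (.lf 125270) (.lf 0))) (.nd (.nd (.lf 0) (.lf 0)) (.nd (.lf 0) (.lf 0)))) (.nd (.nd (.nd (.lf 0) (.lf 0)) (.nd (.lf 0) (.lf 0))) (.nd (.nd (.lf 0) (.lf 0)) (.nd (.lf 0) (.lf 0)))))) (.nd (.nd (.nd (.nd (.nd (.lf 0) (.lf 0)) (.nd (.lf 102677) (.lf 0))) (.nd (.nd (.lf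 0) (.lf 0)) (.nd (.lf 0) (.lf 0)))) (.nd (.nd (.nd (.lf 0) (.lf 0)) (.nd (.lf 0) (.lf 0))) (.nd (.nd (.lf 0) (.lf 0)) (.nd (.lf 19477) (.lf 0))))) (.nd (.nd (.nd (.nd (.lf 0) (.lf 0)) (.nd (.lf 0) (.lf 0))) (.nd (.nd (.lf 0) (.lf 0)) (.nd (.lf 0) (.lf 0)))) (.nd (.nd (.nd (.lf 0) (.lf 0)) (.nd (.lf 0) (.lf 0))) (.nd (.nd (.lf 0) (.lf 0)) (.nd (.lf 17813) (.lf 0))))))) (.nd (.nd (.nd (.nd (.nd (.nd (.lf 0) (.lf 0)) (.nd (.lf 0) (.lf 0))) (.nd (.nd (.lf 0) (.lf 0)) (.nd (.lf 0) (.lf 0)))) (.nd (.nd (.nd (.lf 0) (.lf 0)) (.nd (.lf 0) (.lf 0))) (.nd (.nd (.lf 0) (.lf 0)) (.nd (.lf 0) (.lf 0))))) (.nd (.nd (.nd (.nd (.lf 0) (.lf 0)) (.nd (.lf 0) (.lf 0))) (.nd (.nd (.lf 0) (.lf 0)) (.nd (.lf 0) (.lf 0)))) (.nd (.nd (.nd (.lf 0) (.lf 0)) (.nd (.lf 0) (.lf 0))) (.nd (.nd (.lf 0) (.lf 0)) (.nd (.lf 95317)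 (.lf 0)))))) (.nd (.nd (.nd (.nd (.nd (.lf 0) (.lf 0)) (.nd (.lf 29654) (.lf 0))) (.nd (.nd (.lf 0) (.lf 0)) (.nd (.lf 0) (.lf 0)))) (.nd (.nd (.nd (.lf 0) (.lf 0)) (.nd (.lf 105813) (.lf 0))) (.nd (.nd (.lf 0) (.lf 0)) (.nd (.lf 0) (.lf 0))))) (.nd (.nd (.nd (.nd (.lf 0) (.lf 0)) (.nd (.lf 0) (.lf 0))) (.nd (.nd (.lf 0) (.lf 0)) (.nd (.lf 71510) (.lf 0)))) (.nd (.nd (.nd (.lf 0) (.lf 0)) (.nd (.lf 46485) (.lf 0))) (.nd (.nd (.lf 54869) (.lf 0)) (.nd (.lf 0) (.lf 0))))))))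

/-- table -/
def tT2 : Tr :=
  .nd (.nd (.nd (.nd tT2_1 tT2_2) (.nd tT2_3 tT2_4)) (.nd (.nd tT2_5 tT2_6) (.nd tT2_7 tT2_8))) (.nd (.nd (.nd tT2_9 tT2_10) (.nd tT2_11 tT2_12)) (.nd (.nd tT2_13 tT2_14) (.nd tT2_15 tT2_16)))

/-- the factorisation -/
noncomputable def chainT : Chain :=
  ⟨1, 1091, 1090, tT0, tT1, tT2, [[], [(22, true)], [(23, true)], [(24, true)]]⟩

/-- table part -/
def tabX_1 : Tr :=
  .nd (.nd (.nd (.nd (.nd (.nd (.nd (.nd (.nd (.nd (.lf 0) (.lf 0)) (.nd (.lf 0) (.lf 0))) (.nd (.nd (.lf 0) (.lf 0)) (.nd (.lf 0) (.lf 0)))) (.nd (.nd (.nd (.lf 0) (.lf 0)) (.nd (.lf 0) (.lf 0))) (.nd (.nd (.lf 0) (.lf 0)) (.nd (.lf 0) (.lf 0))))) (.nd (.nd (.nd (.nd (.lf 0) (.lf 0)) (.nd (.lf 0) (.lf 0))) (.nd (.nd (.lf 0) (.lf 0)) (.nd (.lf 0) (.lf 0)))) (.nd (.nd (.nd (.lf 0) (.lf 0)) (.nd (.lf 0)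 (.lf 0))) (.nd (.nd (.lf 0) (.lf 0)) (.nd (.lf 0) (.lf 0)))))) (.nd (.nd (.nd (.nd (.nd (.lf 0) (.lf 0)) (.nd (.lf 0) (.lf 0))) (.nd (.nd (.lf 0) (.lf 0)) (.nd (.lf 0) (.lf 0)))) (.nd (.nd (.nd (.lf 0) (.lf 0)) (.nd (.lf 0) (.lf 0))) (.nd (.nd (.lf 0) (.lf 0)) (.nd (.lf 0) (.lf 0))))) (.nd (.nd (.nd (.nd (.lf 0) (.lf 0)) (.nd (.lf 0) (.lf 0))) (.nd (.nd (.lf 0) (.lf 0)) (.nd (.lf 0) (.lf 0)))) (.nd (.nd (.nd (.lf 0) (.lf 0)) (.nd (.lf 0) (.lf 0))) (.nd (.nd (.lf 0) (.lf 0)) (.nd (.lf 0) (.lf 0))))))) (.nd (.nd (.nd (.nd (.nd (.nd (.lf 0) (.lf 0)) (.nd (.lf 0) (.lf 0))) (.nd (.nd (.lf 0) (.lf 0)) (.nd (.lf 0) (.lf 0)))) (.nd (.nd (.nd (.lf 0) (.lf 0)) (.nd (.lf 0) (.lf 0))) (.nd (.nd (.lf 0) (.lf 0)) (.nd (.lf 0) (.lf 0))))) (.nd (.nd (.nd (.nd (.lf 0) (.lf 0)) (.nd (.lf 0) (.lf 0))) (.nd (.nd (.lf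 0) (.lf 0)) (.nd (.lf 0) (.lf 0)))) (.nd (.nd (.nd (.lf 0) (.lf 0)) (.nd (.lf 0) (.lf 0))) (.nd (.nd (.lf 0) (.lf 0)) (.nd (.lf 0) (.lf 0)))))) (.nd (.nd (.nd (.nd (.nd (.lf 0) (.lf 0)) (.nd (.lf 0) (.lf 0))) (.nd (.nd (.lf 0) (.lf 0)) (.nd (.lf 0) (.lf 0)))) (.nd (.nd (.nd (.lf 0) (.lf 0)) (.nd (.lf 0) (.lf 0))) (.nd (.nd (.lf 0) (.lf 0)) (.nd (.lf 0) (.lf 0))))) (.nd (.nd (.nd (.nd (.lf 0) (.lf 0)) (.nd (.lf 0) (.lf 0))) (.nd (.nd (.lf 0) (.lf 0)) (.nd (.lf 0) (.lf 0)))) (.nd (.nd (.nd (.lf 0) (.lf 0)) (.nd (.lf 0) (.lf 0))) (.nd (.nd (.lf 0) (.lf 0)) (.nd (.lf 0) (.lf 0)))))))) (.nd (.nd (.nd (.nd (.nd (.nd (.nd (.lf 0) (.lf 0)) (.nd (.lf 0) (.lf 0))) (.nd (.nd (.lf 0) (.lf 0)) (.nd (.lf 0) (.lf 0)))) (.nd (.nd (.nd (.lf 0) (.lf 0)) (.nd (.lf 0) (.lf 0))) (.nd (.nd (.lf 0) (.lf 0)) (.nd (.lf 0)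 (.lf 0))))) (.nd (.nd (.nd (.nd (.lf 0) (.lf 0)) (.nd (.lf 0) (.lf 0))) (.nd (.nd (.lf 0) (.lf 0)) (.nd (.lf 0) (.lf 0)))) (.nd (.nd (.nd (.lf 0) (.lf 0)) (.nd (.lf 0) (.lf 0))) (.nd (.nd (.lf 0) (.lf 0)) (.nd (.lf 0) (.lf 0)))))) (.nd (.nd (.nd (.nd (.nd (.lf 0) (.lf 0)) (.nd (.lf 0) (.lf 0))) (.nd (.nd (.lf 0) (.lf 0)) (.nd (.lf 0) (.lf 0)))) (.nd (.nd (.nd (.lf 0) (.lf 0)) (.nd (.lf 0) (.lf 0))) (.nd (.nd (.lf 0) (.lf 0)) (.nd (.lf 0) (.lf 0))))) (.nd (.nd (.nd (.nd (.lf 0) (.lf 0)) (.nd (.lf 0) (.lf 0))) (.nd (.nd (.lf 0) (.lf 0)) (.nd (.lf 0) (.lf 0)))) (.nd (.nd (.nd (.lf 0) (.lf 0)) (.nd (.lf 0) (.lf 0))) (.nd (.nd (.lf 0) (.lf 0)) (.nd (.lf 0) (.lf 0))))))) (.nd (.nd (.nd (.nd (.nd (.nd (.lf 0) (.lf 0)) (.nd (.lf 0) (.lf 0))) (.nd (.nd (.lf 0) (.lf 0)) (.nd (.lf 0) (.lf 0)))) (.nd (.nd (.nd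 (.lf 0) (.lf 0)) (.nd (.lf 0) (.lf 0))) (.nd (.nd (.lf 0) (.lf 0)) (.nd (.lf 0) (.lf 0))))) (.nd (.nd (.nd (.nd (.lf 0) (.lf 0)) (.nd (.lf 0) (.lf 0))) (.nd (.nd (.lf 0) (.lf 0)) (.nd (.lf 0) (.lf 0)))) (.nd (.nd (.nd (.lf 0) (.lf 0)) (.nd (.lf 0) (.lf 0))) (.nd (.nd (.lf 0) (.lf 0)) (.nd (.lf 0) (.lf 0)))))) (.nd (.nd (.nd (.nd (.nd (.lf 0) (.lf 0)) (.nd (.lf 0) (.lf 0))) (.nd (.nd (.lf 0) (.lf 0)) (.nd (.lf 0) (.lf 0)))) (.nd (.nd (.nd (.lf 0) (.lf 0)) (.nd (.lf 0) (.lf 0))) (.nd (.nd (.lf 0) (.lf 0)) (.nd (.lf 0) (.lf 0))))) (.nd (.nd (.nd (.nd (.lf 0) (.lf 0)) (.nd (.lf 0) (.lf 0))) (.nd (.nd (.lf 0) (.lf 0)) (.nd (.lf 0) (.lf 0)))) (.nd (.nd (.nd (.lf 0) (.lf 0)) (.nd (.lf 0) (.lf 0))) (.nd (.nd (.lf 0) (.lf 0)) (.nd (.lf 0) (.lf 0))))))))) (.nd (.nd (.nd (.nd (.nd (.nd (.nd (.nd (.lf 0) (.lf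 0)) (.nd (.lf 0) (.lf 0))) (.nd (.nd (.lf 0) (.lf 0)) (.nd (.lf 0) (.lf 0)))) (.nd (.nd (.nd (.lf 0) (.lf 0)) (.nd (.lf 0) (.lf 0))) (.nd (.nd (.lf 0) (.lf 0)) (.nd (.lf 0) (.lf 0))))) (.nd (.nd (.nd (.nd (.lf 0) (.lf 0)) (.nd (.lf 0) (.lf 0))) (.nd (.nd (.lf 0) (.lf 0)) (.nd (.lf 0) (.lf 0)))) (.nd (.nd (.nd (.lf 0) (.lf 0)) (.nd (.lf 0) (.lf 0))) (.nd (.nd (.lf 0) (.lf 0)) (.nd (.lf 0) (.lf 0)))))) (.nd (.nd (.nd (.nd (.nd (.lf 0) (.lf 0)) (.nd (.lf 0) (.lf 0))) (.nd (.nd (.lf 0) (.lf 0)) (.nd (.lf 0) (.lf 0)))) (.nd (.nd (.nd (.lf 0) (.lf 0)) (.nd (.lf 0) (.lf 0))) (.nd (.nd (.lf 0) (.lf 0)) (.nd (.lf 0) (.lf 0))))) (.nd (.nd (.nd (.nd (.lf 0) (.lf 0)) (.nd (.lf 0) (.lf 0))) (.nd (.nd (.lf 0) (.lf 0)) (.nd (.lf 0) (.lf 0)))) (.nd (.nd (.nd (.lf 0) (.lf 0)) (.nd (.lf 0) (.lf 0))) (.nd (.nd (.lf 0)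 (.lf 0)) (.nd (.lf 0) (.lf 0))))))) (.nd (.nd (.nd (.nd (.nd (.nd (.lf 0) (.lf 0)) (.nd (.lf 0) (.lf 0))) (.nd (.nd (.lf 0) (.lf 0)) (.nd (.lf 0) (.lf 0)))) (.nd (.nd (.nd (.lf 0) (.lf 0)) (.nd (.lf 0) (.lf 0))) (.nd (.nd (.lf 0) (.lf 0)) (.nd (.lf 0) (.lf 0))))) (.nd (.nd (.nd (.nd (.lf 0) (.lf 0)) (.nd (.lf 0) (.lf 0))) (.nd (.nd (.lf 0) (.lf 0)) (.nd (.lf 0) (.lf 0)))) (.nd (.nd (.nd (.lf 0) (.lf 0)) (.nd (.lf 0) (.lf 0))) (.nd (.nd (.lf 0) (.lf 0)) (.nd (.lf 0) (.lf 0)))))) (.nd (.nd (.nd (.nd (.nd (.lf 0) (.lf 0)) (.nd (.lf 0) (.lf 0))) (.nd (.nd (.lf 0) (.lf 0)) (.nd (.lf 0) (.lf 0)))) (.nd (.nd (.nd (.lf 0) (.lf 0)) (.nd (.lf 0) (.lf 0))) (.nd (.nd (.lf 0) (.lf 0)) (.nd (.lf 0) (.lf 0))))) (.nd (.nd (.nd (.nd (.lf 0) (.lf 0)) (.nd (.lf 0) (.lf 0))) (.nd (.nd (.lf 0) (.lf 0)) (.nd (.lf 0) (.lf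 0)))) (.nd (.nd (.nd (.lf 0) (.lf 0)) (.nd (.lf 0) (.lf 0))) (.nd (.nd (.lf 0) (.lf 0)) (.nd (.lf 0) (.lf 0)))))))) (.nd (.nd (.nd (.nd (.nd (.nd (.nd (.lf 0) (.lf 0)) (.nd (.lf 0) (.lf 0))) (.nd (.nd (.lf 0) (.lf 0)) (.nd (.lf 0) (.lf 0)))) (.nd (.nd (.nd (.lf 0) (.lf 0)) (.nd (.lf 0) (.lf 0))) (.nd (.nd (.lf 0) (.lf 0)) (.nd (.lf 0) (.lf 0))))) (.nd (.nd (.nd (.nd (.lf 0) (.lf 0)) (.nd (.lf 0) (.lf 0))) (.nd (.nd (.lf 0) (.lf 0)) (.nd (.lf 0) (.lf 0)))) (.nd (.nd (.nd (.lf 0) (.lf 0)) (.nd (.lf 0) (.lf 0))) (.nd (.nd (.lf 0) (.lf 0)) (.nd (.lf 0) (.lf 0)))))) (.nd (.nd (.nd (.nd (.nd (.lf 0) (.lf 0)) (.nd (.lf 0) (.lf 0))) (.nd (.nd (.lf 0) (.lf 0)) (.nd (.lf 0) (.lf 0)))) (.nd (.nd (.nd (.lf 0) (.lf 0)) (.nd (.lf 0) (.lf 0))) (.nd (.nd (.lf 0) (.lf 0)) (.nd (.lf 0) (.lf 0))))) (.nd (.nd (.nd (.nd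 (.lf 0) (.lf 0)) (.nd (.lf 0) (.lf 0))) (.nd (.nd (.lf 0) (.lf 0)) (.nd (.lf 0) (.lf 0)))) (.nd (.nd (.nd (.lf 0) (.lf 0)) (.nd (.lf 0) (.lf 0))) (.nd (.nd (.lf 0) (.lf 0)) (.nd (.lf 0) (.lf 0))))))) (.nd (.nd (.nd (.nd (.nd (.nd (.lf 0) (.lf 0)) (.nd (.lf 0) (.lf 0))) (.nd (.nd (.lf 0) (.lf 0)) (.nd (.lf 0) (.lf 0)))) (.nd (.nd (.nd (.lf 0) (.lf 0)) (.nd (.lf 0) (.lf 0))) (.nd (.nd (.lf 0) (.lf 0)) (.nd (.lf 0) (.lf 0))))) (.nd (.nd (.nd (.nd (.lf 0) (.lf 0)) (.nd (.lf 0) (.lf 0))) (.nd (.nd (.lf 0) (.lf 0)) (.nd (.lf 0) (.lf 0)))) (.nd (.nd (.nd (.lf 0) (.lf 0)) (.nd (.lf 0) (.lf 0))) (.nd (.nd (.lf 0) (.lf 0)) (.nd (.lf 0) (.lf 0)))))) (.nd (.nd (.nd (.nd (.nd (.lf 0) (.lf 0)) (.nd (.lf 0) (.lf 0))) (.nd (.nd (.lf 0) (.lf 0)) (.nd (.lf 0) (.lf 0)))) (.nd (.nd (.nd (.lf 0) (.lf 0)) (.nd (.lf 0) (.lf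 0))) (.nd (.nd (.lf 0) (.lf 0)) (.nd (.lf 0) (.lf 0))))) (.nd (.nd (.nd (.nd (.lf 0) (.lf 0)) (.nd (.lf 0) (.lf 0))) (.nd (.nd (.lf 0) (.lf 0)) (.nd (.lf 0) (.lf 0)))) (.nd (.nd (.nd (.lf 0) (.lf 0)) (.nd (.lf 0) (.lf 0))) (.nd (.nd (.lf 0) (.lf 0)) (.nd (.lf 0) (.lf 0)))))))))) (.nd (.nd (.nd (.nd (.nd (.nd (.nd (.nd (.nd (.lf 0) (.lf 0)) (.nd (.lf 0) (.lf 0))) (.nd (.nd (.lf 0) (.lf 0)) (.nd (.lf 0) (.lf 0)))) (.nd (.nd (.nd (.lf 0) (.lf 0)) (.nd (.lf 0) (.lf 0))) (.nd (.nd (.lf 0) (.lf 0)) (.nd (.lf 0) (.lf 0))))) (.nd (.nd (.nd (.nd (.lf 0) (.lf 0)) (.nd (.lf 0) (.lf 0))) (.nd (.nd (.lf 0) (.lf 0)) (.nd (.lf 0) (.lf 0)))) (.nd (.nd (.nd (.lf 0) (.lf 0)) (.nd (.lf 0) (.lf 0))) (.nd (.nd (.lf 0) (.lf 0)) (.nd (.lf 0) (.lf 0)))))) (.nd (.nd (.nd (.nd (.nd (.lf 0) (.lf 0)) (.nd (.lf 0) (.lf 0))) (.nd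 (.nd (.lf 0) (.lf 0)) (.nd (.lf 0) (.lf 0)))) (.nd (.nd (.nd (.lf 0) (.lf 0)) (.nd (.lf 0) (.lf 0))) (.nd (.nd (.lf 0) (.lf 0)) (.nd (.lf 0) (.lf 0))))) (.nd (.nd (.nd (.nd (.lf 0) (.lf 0)) (.nd (.lf 0) (.lf 0))) (.nd (.nd (.lf 0) (.lf 0)) (.nd (.lf 0) (.lf 0)))) (.nd (.nd (.nd (.lf 0) (.lf 0)) (.nd (.lf 0) (.lf 0))) (.nd (.nd (.lf 0) (.lf 0)) (.nd (.lf 0) (.lf 0))))))) (.nd (.nd (.nd (.nd (.nd (.nd (.lf 0) (.lf 0)) (.nd (.lf 0) (.lf 0))) (.nd (.nd (.lf 0) (.lf 0)) (.nd (.lf 0) (.lf 0)))) (.nd (.nd (.nd (.lf 0) (.lf 0)) (.nd (.lf 0) (.lf 0))) (.nd (.nd (.lf 0) (.lf 0)) (.nd (.lf 0) (.lf 0))))) (.nd (.nd (.nd (.nd (.lf 0) (.lf 0)) (.nd (.lf 0) (.lf 0))) (.nd (.nd (.lf 0) (.lf 0)) (.nd (.lf 0) (.lf 0)))) (.nd (.nd (.nd (.lf 0) (.lf 0)) (.nd (.lf 0) (.lf 0))) (.nd (.nd (.lf 0) (.lf 0)) (.nd (.lf 0) (.lf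 0)))))) (.nd (.nd (.nd (.nd (.nd (.lf 0) (.lf 0)) (.nd (.lf 0) (.lf 0))) (.nd (.nd (.lf 0) (.lf 0)) (.nd (.lf 0) (.lf 0)))) (.nd (.nd (.nd (.lf 0) (.lf 0)) (.nd (.lf 0) (.lf 0))) (.nd (.nd (.lf 0) (.lf 0)) (.nd (.lf 0) (.lf 0))))) (.nd (.nd (.nd (.nd (.lf 0) (.lf 0)) (.nd (.lf 0) (.lf 0))) (.nd (.nd (.lf 0) (.lf 0)) (.nd (.lf 0) (.lf 0)))) (.nd (.nd (.nd (.lf 0) (.lf 0)) (.nd (.lf 0) (.lf 0))) (.nd (.nd (.lf 0) (.lf 0)) (.nd (.lf 0) (.lf 0)))))))) (.nd (.nd (.nd (.nd (.nd (.nd (.nd (.lf 0) (.lf 0)) (.nd (.lf 0) (.lf 0))) (.nd (.nd (.lf 0) (.lf 0)) (.nd (.lf 0) (.lf 0)))) (.nd (.nd (.nd (.lf 0) (.lf 0)) (.nd (.lf 0) (.lf 0))) (.nd (.nd (.lf 0) (.lf 0)) (.nd (.lf 0) (.lf 0))))) (.nd (.nd (.nd (.nd (.lf 0) (.lf 0)) (.nd (.lf 0) (.lf 0))) (.nd (.nd (.lf 0) (.lf 0)) (.nd (.lf 0) (.lf 0)))) (.nd (.nd (.nd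 (.lf 0) (.lf 0)) (.nd (.lf 0) (.lf 0))) (.nd (.nd (.lf 0) (.lf 0)) (.nd (.lf 0) (.lf 0)))))) (.nd (.nd (.nd (.nd (.nd (.lf 0) (.lf 0)) (.nd (.lf 0) (.lf 0))) (.nd (.nd (.lf 0) (.lf 0)) (.nd (.lf 0) (.lf 0)))) (.nd (.nd (.nd (.lf 0) (.lf 0)) (.nd (.lf 0) (.lf 0))) (.nd (.nd (.lf 0) (.lf 0)) (.nd (.lf 0) (.lf 0))))) (.nd (.nd (.nd (.nd (.lf 0) (.lf 0)) (.nd (.lf 0) (.lf 0))) (.nd (.nd (.lf 0) (.lf 0)) (.nd (.lf 0) (.lf 0)))) (.nd (.nd (.nd (.lf 0) (.lf 0)) (.nd (.lf 0) (.lf 0))) (.nd (.nd (.lf 0) (.lf 0)) (.nd (.lf 0) (.lf 0))))))) (.nd (.nd (.nd (.nd (.nd (.nd (.lf 0) (.lf 0)) (.nd (.lf 0) (.lf 0))) (.nd (.nd (.lf 0) (.lf 0)) (.nd (.lf 0) (.lf 0)))) (.nd (.nd (.nd (.lf 0) (.lf 0)) (.nd (.lf 0) (.lf 0))) (.nd (.nd (.lf 0) (.lf 0)) (.nd (.lf 0) (.lf 0))))) (.nd (.nd (.nd (.nd (.lf 0) (.lf 0)) (.nd (.lf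 0) (.lf 0))) (.nd (.nd (.lf 0) (.lf 0)) (.nd (.lf 0) (.lf 0)))) (.nd (.nd (.nd (.lf 0) (.lf 0)) (.nd (.lf 0) (.lf 0))) (.nd (.nd (.lf 0) (.lf 0)) (.nd (.lf 0) (.lf 0)))))) (.nd (.nd (.nd (.nd (.nd (.lf 0) (.lf 0)) (.nd (.lf 0) (.lf 0))) (.nd (.nd (.lf 0) (.lf 0)) (.nd (.lf 0) (.lf 0)))) (.nd (.nd (.nd (.lf 0) (.lf 0)) (.nd (.lf 0) (.lf 0))) (.nd (.nd (.lf 0) (.lf 0)) (.nd (.lf 0) (.lf 0))))) (.nd (.nd (.nd (.nd (.lf 0) (.lf 0)) (.nd (.lf 0) (.lf 0))) (.nd (.nd (.lf 0) (.lf 0)) (.nd (.lf 0) (.lf 0)))) (.nd (.nd (.nd (.lf 0) (.lf 0)) (.nd (.lf 0) (.lf 0))) (.nd (.nd (.lf 0) (.lf 0)) (.nd (.lf 0) (.lf 0))))))))) (.nd (.nd (.nd (.nd (.nd (.nd (.nd (.nd (.lf 0) (.lf 0)) (.nd (.lf 0) (.lf 0))) (.nd (.nd (.lf 0) (.lf 0)) (.nd (.lf 0) (.lf 0)))) (.nd (.nd (.nd (.lf 0) (.lf 0)) (.nd (.lf 0) (.lf 0))) (.nd (.nd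 (.lf 0) (.lf 0)) (.nd (.lf 0) (.lf 0))))) (.nd (.nd (.nd (.nd (.lf 0) (.lf 0)) (.nd (.lf 0) (.lf 0))) (.nd (.nd (.lf 0) (.lf 0)) (.nd (.lf 0) (.lf 0)))) (.nd (.nd (.nd (.lf 0) (.lf 0)) (.nd (.lf 0) (.lf 0))) (.nd (.nd (.lf 0) (.lf 0)) (.nd (.lf 0) (.lf 0)))))) (.nd (.nd (.nd (.nd (.nd (.lf 0) (.lf 0)) (.nd (.lf 0) (.lf 0))) (.nd (.nd (.lf 0) (.lf 0)) (.nd (.lf 0) (.lf 0)))) (.nd (.nd (.nd (.lf 0) (.lf 0)) (.nd (.lf 0) (.lf 0))) (.nd (.nd (.lf 0) (.lf 0)) (.nd (.lf 0) (.lf 0))))) (.nd (.nd (.nd (.nd (.lf 0) (.lf 0)) (.nd (.lf 0) (.lf 0))) (.nd (.nd (.lf 0) (.lf 0)) (.nd (.lf 0) (.lf 0)))) (.nd (.nd (.nd (.lf 0) (.lf 0)) (.nd (.lf 0) (.lf 0))) (.nd (.nd (.lf 0) (.lf 0)) (.nd (.lf 0) (.lf 0))))))) (.nd (.nd (.nd (.nd (.nd (.nd (.lf 0) (.lf 0)) (.nd (.lf 0) (.lf 0))) (.nd (.nd (.lf 0) (.lf 0)) (.nd (.lf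 0) (.lf 0)))) (.nd (.nd (.nd (.lf 0) (.lf 0)) (.nd (.lf 0) (.lf 0))) (.nd (.nd (.lf 0) (.lf 0)) (.nd (.lf 0) (.lf 0))))) (.nd (.nd (.nd (.nd (.lf 0) (.lf 0)) (.nd (.lf 0) (.lf 0))) (.nd (.nd (.lf 0) (.lf 0)) (.nd (.lf 0) (.lf 0)))) (.nd (.nd (.nd (.lf 0) (.lf 0)) (.nd (.lf 0) (.lf 0))) (.nd (.nd (.lf 0) (.lf 0)) (.nd (.lf 0) (.lf 0)))))) (.nd (.nd (.nd (.nd (.nd (.lf 0) (.lf 0)) (.nd (.lf 0) (.lf 0))) (.nd (.nd (.lf 0) (.lf 0)) (.nd (.lf 0) (.lf 0)))) (.nd (.nd (.nd (.lf 0) (.lf 0)) (.nd (.lf 0) (.lf 0))) (.nd (.nd (.lf 0) (.lf 0)) (.nd (.lf 0) (.lf 0))))) (.nd (.nd (.nd (.nd (.lf 0) (.lf 0)) (.nd (.lf 0) (.lf 0))) (.nd (.nd (.lf 0) (.lf 0)) (.nd (.lf 0) (.lf 0)))) (.nd (.nd (.nd (.lf 0) (.lf 0)) (.nd (.lf 0) (.lf 0))) (.nd (.nd (.lf 0) (.lf 0)) (.nd (.lf 0) (.lf 0)))))))) (.nd (.nd (.nd (.nd (.nd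 (.nd (.nd (.lf 0) (.lf 0)) (.nd (.lf 0) (.lf 0))) (.nd (.nd (.lf 0) (.lf 0)) (.nd (.lf 0) (.lf 0)))) (.nd (.nd (.nd (.lf 0) (.lf 0)) (.nd (.lf 0) (.lf 0))) (.nd (.nd (.lf 0) (.lf 0)) (.nd (.lf 0) (.lf 0))))) (.nd (.nd (.nd (.nd (.lf 0) (.lf 0)) (.nd (.lf 0) (.lf 0))) (.nd (.nd (.lf 0) (.lf 0)) (.nd (.lf 0) (.lf 0)))) (.nd (.nd (.nd (.lf 0) (.lf 0)) (.nd (.lf 0) (.lf 0))) (.nd (.nd (.lf 0) (.lf 0)) (.nd (.lf 0) (.lf 0)))))) (.nd (.nd (.nd (.nd (.nd (.lf 0) (.lf 0)) (.nd (.lf 0) (.lf 0))) (.nd (.nd (.lf 0) (.lf 0)) (.nd (.lf 0) (.lf 0)))) (.nd (.nd (.nd (.lf 0) (.lf 0)) (.nd (.lf 0) (.lf 0))) (.nd (.nd (.lf 0) (.lf 0)) (.nd (.lf 0) (.lf 0))))) (.nd (.nd (.nd (.nd (.lf 0) (.lf 0)) (.nd (.lf 0) (.lf 0))) (.nd (.nd (.lf 0) (.lf 0)) (.nd (.lf 0) (.lf 0)))) (.nd (.nd (.nd (.lf 0) (.lf 0)) (.nd (.lf 0) (.lf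 0))) (.nd (.nd (.lf 0) (.lf 0)) (.nd (.lf 0) (.lf 0))))))) (.nd (.nd (.nd (.nd (.nd (.nd (.lf 0) (.lf 0)) (.nd (.lf 0) (.lf 0))) (.nd (.nd (.lf 0) (.lf 0)) (.nd (.lf 0) (.lf 0)))) (.nd (.nd (.nd (.lf 0) (.lf 0)) (.nd (.lf 0) (.lf 0))) (.nd (.nd (.lf 0) (.lf 0)) (.nd (.lf 0) (.lf 0))))) (.nd (.nd (.nd (.nd (.lf 0) (.lf 0)) (.nd (.lf 0) (.lf 0))) (.nd (.nd (.lf 0) (.lf 0)) (.nd (.lf 0) (.lf 0)))) (.nd (.nd (.nd (.lf 0) (.lf 0)) (.nd (.lf 0) (.lf 0))) (.nd (.nd (.lf 0) (.lf 0)) (.nd (.lf 0) (.lf 0)))))) (.nd (.nd (.nd (.nd (.nd (.lf 0) (.lf 0)) (.nd (.lf 0) (.lf 0))) (.nd (.nd (.lf 0) (.lf 0)) (.nd (.lf 0) (.lf 0)))) (.nd (.nd (.nd (.lf 0) (.lf 0)) (.nd (.lf 0) (.lf 0))) (.nd (.nd (.lf 0) (.lf 0)) (.nd (.lf 0) (.lf 0))))) (.nd (.nd (.nd (.nd (.lf 0) (.lf 0)) (.nd (.lf 0) (.lf 0))) (.nd (.nd (.lf 0) (.lf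 0)) (.nd (.lf 0) (.lf 0)))) (.nd (.nd (.nd (.lf 0) (.lf 0)) (.nd (.lf 0) (.lf 0))) (.nd (.nd (.lf 0) (.lf 0)) (.nd (.lf 0) (.lf 0))))))))))

/-- table part -/
def tabX_2 : Tr :=
  .nd (.nd (.nd (.nd (.nd (.nd (.nd (.nd (.nd (.nd (.lf 0) (.lf 0)) (.nd (.lf 0) (.lf 0))) (.nd (.nd (.lf 0) (.lf 0)) (.nd (.lf 0) (.lf 0)))) (.nd (.nd (.nd (.lf 0) (.lf 0)) (.nd (.lf 0) (.lf 0))) (.nd (.nd (.lf 0) (.lf 0)) (.nd (.lf 0) (.lf 0))))) (.nd (.nd (.nd (.nd (.lf 0) (.lf 0)) (.nd (.lf 0) (.lf 0))) (.nd (.nd (.lf 0) (.lf 0)) (.nd (.lf 0) (.lf 0)))) (.nd (.nd (.nd (.lf 0) (.lf 0)) (.nd (.lf 0) (.lf 0))) (.nd (.nd (.lf 0) (.lf 0)) (.nd (.lf 0) (.lf 0)))))) (.nd (.nd (.nd (.nd (.nd (.lf 0) (.lf 0)) (.nd (.lf 0) (.lf 0))) (.nd (.nd (.lf 0) (.lf 0)) (.nd (.lf 0) (.lf 0)))) (.nd (.nd (.nd (.lf 0) (.lf 0)) (.nd (.lf 0) (.lf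 0))) (.nd (.nd (.lf 0) (.lf 0)) (.nd (.lf 0) (.lf 0))))) (.nd (.nd (.nd (.nd (.lf 0) (.lf 0)) (.nd (.lf 0) (.lf 0))) (.nd (.nd (.lf 0) (.lf 0)) (.nd (.lf 0) (.lf 0)))) (.nd (.nd (.nd (.lf 0) (.lf 0)) (.nd (.lf 0) (.lf 0))) (.nd (.nd (.lf 0) (.lf 0)) (.nd (.lf 0) (.lf 0))))))) (.nd (.nd (.nd (.nd (.nd (.nd (.lf 0) (.lf 0)) (.nd (.lf 0) (.lf 0))) (.nd (.nd (.lf 0) (.lf 0)) (.nd (.lf 0) (.lf 0)))) (.nd (.nd (.nd (.lf 0) (.lf 0)) (.nd (.lf 0) (.lf 0))) (.nd (.nd (.lf 0) (.lf 0)) (.nd (.lf 0) (.lf 0))))) (.nd (.nd (.nd (.nd (.lf 0) (.lf 0)) (.nd (.lf 0) (.lf 0))) (.nd (.nd (.lf 0) (.lf 0)) (.nd (.lf 0) (.lf 0)))) (.nd (.nd (.nd (.lf 0) (.lf 0)) (.nd (.lf 0) (.lf 0))) (.nd (.nd (.lf 0) (.lf 0)) (.nd (.lf 0) (.lf 0)))))) (.nd (.nd (.nd (.nd (.nd (.lf 0) (.lf 0)) (.nd (.lf 0) (.lf 0))) (.nd (.nd (.lf 0) (.lf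 0)) (.nd (.lf 0) (.lf 0)))) (.nd (.nd (.nd (.lf 0) (.lf 0)) (.nd (.lf 0) (.lf 0))) (.nd (.nd (.lf 0) (.lf 0)) (.nd (.lf 0) (.lf 0))))) (.nd (.nd (.nd (.nd (.lf 0) (.lf 0)) (.nd (.lf 0) (.lf 0))) (.nd (.nd (.lf 0) (.lf 0)) (.nd (.lf 0) (.lf 0)))) (.nd (.nd (.nd (.lf 0) (.lf 0)) (.nd (.lf 0) (.lf 0))) (.nd (.nd (.lf 0) (.lf 0)) (.nd (.lf 0) (.lf 0)))))))) (.nd (.nd (.nd (.nd (.nd (.nd (.nd (.lf 0) (.lf 0)) (.nd (.lf 0) (.lf 0))) (.nd (.nd (.lf 0) (.lf 0)) (.nd (.lf 0) (.lf 0)))) (.nd (.nd (.nd (.lf 0) (.lf 0)) (.nd (.lf 0) (.lf 0))) (.nd (.nd (.lf 0) (.lf 0)) (.nd (.lf 0) (.lf 0))))) (.nd (.nd (.nd (.nd (.lf 0) (.lf 0)) (.nd (.lf 0) (.lf 0))) (.nd (.nd (.lf 0) (.lf 0)) (.nd (.lf 0) (.lf 0)))) (.nd (.nd (.nd (.lf 0) (.lf 0)) (.nd (.lf 0) (.lf 0))) (.nd (.nd (.lf 0) (.lf 0)) (.nd (.lf 0) (.lf 0)))))) (.nd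 (.nd (.nd (.nd (.nd (.lf 0) (.lf 0)) (.nd (.lf 0) (.lf 0))) (.nd (.nd (.lf 0) (.lf 0)) (.nd (.lf 0) (.lf 0)))) (.nd (.nd (.nd (.lf 0) (.lf 0)) (.nd (.lf 0) (.lf 0))) (.nd (.nd (.lf 0) (.lf 0)) (.nd (.lf 0) (.lf 0))))) (.nd (.nd (.nd (.nd (.lf 0) (.lf 0)) (.nd (.lf 0) (.lf 0))) (.nd (.nd (.lf 0) (.lf 0)) (.nd (.lf 0) (.lf 0)))) (.nd (.nd (.nd (.lf 0) (.lf 0)) (.nd (.lf 0) (.lf 0))) (.nd (.nd (.lf 0) (.lf 0)) (.nd (.lf 0) (.lf 0))))))) (.nd (.nd (.nd (.nd (.nd (.nd (.lf 0) (.lf 0)) (.nd (.lf 0) (.lf 0))) (.nd (.nd (.lf 0) (.lf 0)) (.nd (.lf 0) (.lf 0)))) (.nd (.nd (.nd (.lf 0) (.lf 0)) (.nd (.lf 0) (.lf 0))) (.nd (.nd (.lf 0) (.lf 0)) (.nd (.lf 0) (.lf 0))))) (.nd (.nd (.nd (.nd (.lf 0) (.lf 0)) (.nd (.lf 0) (.lf 0))) (.nd (.nd (.lf 0) (.lf 0)) (.nd (.lf 0) (.lf 0)))) (.nd (.nd (.nd (.lf 0) (.lf 0))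 (.nd (.lf 0) (.lf 0))) (.nd (.nd (.lf 0) (.lf 0)) (.nd (.lf 0) (.lf 0)))))) (.nd (.nd (.nd (.nd (.nd (.lf 0) (.lf 0)) (.nd (.lf 0) (.lf 0))) (.nd (.nd (.lf 0) (.lf 0)) (.nd (.lf 0) (.lf 0)))) (.nd (.nd (.nd (.lf 0) (.lf 0)) (.nd (.lf 0) (.lf 0))) (.nd (.nd (.lf 0) (.lf 0)) (.nd (.lf 0) (.lf 0))))) (.nd (.nd (.nd (.nd (.lf 0) (.lf 0)) (.nd (.lf 0) (.lf 0))) (.nd (.nd (.lf 0) (.lf 0)) (.nd (.lf 0) (.lf 0)))) (.nd (.nd (.nd (.lf 0) (.lf 0)) (.nd (.lf 0) (.lf 0))) (.nd (.nd (.lf 0) (.lf 0)) (.nd (.lf 0) (.lf 0))))))))) (.nd (.nd (.nd (.nd (.nd (.nd (.nd (.nd (.lf 0) (.lf 0)) (.nd (.lf 0) (.lf 0))) (.nd (.nd (.lf 0) (.lf 0)) (.nd (.lf 0) (.lf 0)))) (.nd (.nd (.nd (.lf 0) (.lf 0)) (.nd (.lf 0) (.lf 0))) (.nd (.nd (.lf 0) (.lf 0)) (.nd (.lf 0) (.lf 0))))) (.nd (.nd (.nd (.nd (.lf 0) (.lf 0)) (.nd (.lf 0)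 (.lf 0))) (.nd (.nd (.lf 0) (.lf 0)) (.nd (.lf 0) (.lf 0)))) (.nd (.nd (.nd (.lf 0) (.lf 0)) (.nd (.lf 0) (.lf 0))) (.nd (.nd (.lf 0) (.lf 0)) (.nd (.lf 0) (.lf 0)))))) (.nd (.nd (.nd (.nd (.nd (.lf 0) (.lf 0)) (.nd (.lf 0) (.lf 0))) (.nd (.nd (.lf 0) (.lf 0)) (.nd (.lf 0) (.lf 0)))) (.nd (.nd (.nd (.lf 0) (.lf 0)) (.nd (.lf 0) (.lf 0))) (.nd (.nd (.lf 0) (.lf 0)) (.nd (.lf 0) (.lf 0))))) (.nd (.nd (.nd (.nd (.lf 0) (.lf 0)) (.nd (.lf 0) (.lf 0))) (.nd (.nd (.lf 0) (.lf 0)) (.nd (.lf 0) (.lf 0)))) (.nd (.nd (.nd (.lf 0) (.lf 0)) (.nd (.lf 0) (.lf 0))) (.nd (.nd (.lf 0) (.lf 0)) (.nd (.lf 0) (.lf 0))))))) (.nd (.nd (.nd (.nd (.nd (.nd (.lf 0) (.lf 0)) (.nd (.lf 0) (.lf 0))) (.nd (.nd (.lf 0) (.lf 0)) (.nd (.lf 0) (.lf 0)))) (.nd (.nd (.nd (.lf 0) (.lf 0)) (.nd (.lf 0) (.lf 0))) (.nd (.nd (.lf 0) (.lf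 0)) (.nd (.lf 0) (.lf 0))))) (.nd (.nd (.nd (.nd (.lf 0) (.lf 0)) (.nd (.lf 0) (.lf 0))) (.nd (.nd (.lf 0) (.lf 0)) (.nd (.lf 0) (.lf 0)))) (.nd (.nd (.nd (.lf 0) (.lf 0)) (.nd (.lf 0) (.lf 0))) (.nd (.nd (.lf 0) (.lf 0)) (.nd (.lf 0) (.lf 0)))))) (.nd (.nd (.nd (.nd (.nd (.lf 0) (.lf 0)) (.nd (.lf 0) (.lf 0))) (.nd (.nd (.lf 0) (.lf 0)) (.nd (.lf 0) (.lf 0)))) (.nd (.nd (.nd (.lf 0) (.lf 0)) (.nd (.lf 0) (.lf 0))) (.nd (.nd (.lf 0) (.lf 0)) (.nd (.lf 0) (.lf 0))))) (.nd (.nd (.nd (.nd (.lf 0) (.lf 0)) (.nd (.lf 0) (.lf 0))) (.nd (.nd (.lf 0) (.lf 0)) (.nd (.lf 0) (.lf 0)))) (.nd (.nd (.nd (.lf 0) (.lf 0)) (.nd (.lf 0) (.lf 0))) (.nd (.nd (.lf 0) (.lf 0)) (.nd (.lf 0) (.lf 0)))))))) (.nd (.nd (.nd (.nd (.nd (.nd (.nd (.lf 0) (.lf 0)) (.nd (.lf 0) (.lf 0))) (.nd (.nd (.lf 0) (.lf 0)) (.nd (.lf 0) (.lf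 0)))) (.nd (.nd (.nd (.lf 0) (.lf 0)) (.nd (.lf 0) (.lf 0))) (.nd (.nd (.lf 0) (.lf 0)) (.nd (.lf 0) (.lf 0))))) (.nd (.nd (.nd (.nd (.lf 0) (.lf 0)) (.nd (.lf 0) (.lf 0))) (.nd (.nd (.lf 0) (.lf 0)) (.nd (.lf 0) (.lf 0)))) (.nd (.nd (.nd (.lf 0) (.lf 0)) (.nd (.lf 0) (.lf 0))) (.nd (.nd (.lf 0) (.lf 0)) (.nd (.lf 0) (.lf 0)))))) (.nd (.nd (.nd (.nd (.nd (.lf 0) (.lf 0)) (.nd (.lf 0) (.lf 0))) (.nd (.nd (.lf 0) (.lf 0)) (.nd (.lf 0) (.lf 0)))) (.nd (.nd (.nd (.lf 0) (.lf 0)) (.nd (.lf 0) (.lf 0))) (.nd (.nd (.lf 0) (.lf 0)) (.nd (.lf 0) (.lf 0))))) (.nd (.nd (.nd (.nd (.lf 0) (.lf 0)) (.nd (.lf 0) (.lf 0))) (.nd (.nd (.lf 0) (.lf 0)) (.nd (.lf 0) (.lf 0)))) (.nd (.nd (.nd (.lf 0) (.lf 0)) (.nd (.lf 0) (.lf 0))) (.nd (.nd (.lf 0) (.lf 0)) (.nd (.lf 0) (.lf 0))))))) (.nd (.nd (.nd (.nd (.nd (.nd (.lf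 0) (.lf 0)) (.nd (.lf 0) (.lf 0))) (.nd (.nd (.lf 0) (.lf 0)) (.nd (.lf 0) (.lf 0)))) (.nd (.nd (.nd (.lf 0) (.lf 0)) (.nd (.lf 0) (.lf 0))) (.nd (.nd (.lf 0) (.lf 0)) (.nd (.lf 0) (.lf 0))))) (.nd (.nd (.nd (.nd (.lf 0) (.lf 0)) (.nd (.lf 0) (.lf 0))) (.nd (.nd (.lf 0) (.lf 0)) (.nd (.lf 0) (.lf 0)))) (.nd (.nd (.nd (.lf 0) (.lf 0)) (.nd (.lf 0) (.lf 0))) (.nd (.nd (.lf 0) (.lf 0)) (.nd (.lf 0) (.lf 0)))))) (.nd (.nd (.nd (.nd (.nd (.lf 0) (.lf 0)) (.nd (.lf 0) (.lf 0))) (.nd (.nd (.lf 0) (.lf 0)) (.nd (.lf 0) (.lf 0)))) (.nd (.nd (.nd (.lf 0) (.lf 0)) (.nd (.lf 0) (.lf 0))) (.nd (.nd (.lf 0) (.lf 0)) (.nd (.lf 0) (.lf 0))))) (.nd (.nd (.nd (.nd (.lf 0) (.lf 0)) (.nd (.lf 0) (.lf 0))) (.nd (.nd (.lf 0) (.lf 0)) (.nd (.lf 0) (.lf 0)))) (.nd (.nd (.nd (.lf 0) (.lf 0)) (.nd (.lf 0) (.lf 0))) (.nd (.nd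 (.lf 0) (.lf 0)) (.nd (.lf 0) (.lf 0)))))))))) (.nd (.nd (.nd (.nd (.nd (.nd (.nd (.nd (.nd (.lf 0) (.lf 0)) (.nd (.lf 0) (.lf 0))) (.nd (.nd (.lf 0) (.lf 0)) (.nd (.lf 0) (.lf 0)))) (.nd (.nd (.nd (.lf 0) (.lf 0)) (.nd (.lf 0) (.lf 0))) (.nd (.nd (.lf 0) (.lf 0)) (.nd (.lf 0) (.lf 0))))) (.nd (.nd (.nd (.nd (.lf 0) (.lf 0)) (.nd (.lf 0) (.lf 0))) (.nd (.nd (.lf 0) (.lf 0)) (.nd (.lf 0) (.lf 0)))) (.nd (.nd (.nd (.lf 0) (.lf 0)) (.nd (.lf 0) (.lf 0))) (.nd (.nd (.lf 0) (.lf 0)) (.nd (.lf 0) (.lf 0)))))) (.nd (.nd (.nd (.nd (.nd (.lf 0) (.lf 0)) (.nd (.lf 0) (.lf 0))) (.nd (.nd (.lf 0) (.lf 0)) (.nd (.lf 0) (.lf 0)))) (.nd (.nd (.nd (.lf 0) (.lf 0)) (.nd (.lf 0) (.lf 0))) (.nd (.nd (.lf 0) (.lf 0)) (.nd (.lf 0) (.lf 0))))) (.nd (.nd (.nd (.nd (.lf 0) (.lf 0)) (.nd (.lf 0) (.lf 0))) (.nd (.nd (.lf 0)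 (.lf 0)) (.nd (.lf 0) (.lf 0)))) (.nd (.nd (.nd (.lf 0) (.lf 0)) (.nd (.lf 0) (.lf 0))) (.nd (.nd (.lf 0) (.lf 0)) (.nd (.lf 0) (.lf 0))))))) (.nd (.nd (.nd (.nd (.nd (.nd (.lf 0) (.lf 0)) (.nd (.lf 0) (.lf 0))) (.nd (.nd (.lf 0) (.lf 0)) (.nd (.lf 0) (.lf 0)))) (.nd (.nd (.nd (.lf 0) (.lf 0)) (.nd (.lf 0) (.lf 0))) (.nd (.nd (.lf 0) (.lf 0)) (.nd (.lf 0) (.lf 0))))) (.nd (.nd (.nd (.nd (.lf 0) (.lf 0)) (.nd (.lf 0) (.lf 0))) (.nd (.nd (.lf 0) (.lf 0)) (.nd (.lf 0) (.lf 0)))) (.nd (.nd (.nd (.lf 0) (.lf 0)) (.nd (.lf 0) (.lf 0))) (.nd (.nd (.lf 0) (.lf 0)) (.nd (.lf 0) (.lf 0)))))) (.nd (.nd (.nd (.nd (.nd (.lf 0) (.lf 0)) (.nd (.lf 0) (.lf 0))) (.nd (.nd (.lf 0) (.lf 0)) (.nd (.lf 0) (.lf 0)))) (.nd (.nd (.nd (.lf 0) (.lf 0)) (.nd (.lf 0) (.lf 0))) (.nd (.nd (.lf 0) (.lf 0)) (.nd (.lf 0) (.lf 0)))))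 (.nd (.nd (.nd (.nd (.lf 0) (.lf 0)) (.nd (.lf 0) (.lf 0))) (.nd (.nd (.lf 0) (.lf 0)) (.nd (.lf 0) (.lf 0)))) (.nd (.nd (.nd (.lf 0) (.lf 0)) (.nd (.lf 0) (.lf 0))) (.nd (.nd (.lf 0) (.lf 0)) (.nd (.lf 0) (.lf 0)))))))) (.nd (.nd (.nd (.nd (.nd (.nd (.nd (.lf 0) (.lf 0)) (.nd (.lf 0) (.lf 0))) (.nd (.nd (.lf 0) (.lf 0)) (.nd (.lf 0) (.lf 0)))) (.nd (.nd (.nd (.lf 0) (.lf 0)) (.nd (.lf 0) (.lf 0))) (.nd (.nd (.lf 0) (.lf 0)) (.nd (.lf 0) (.lf 0))))) (.nd (.nd (.nd (.nd (.lf 0) (.lf 0)) (.nd (.lf 0) (.lf 0))) (.nd (.nd (.lf 0) (.lf 0)) (.nd (.lf 0) (.lf 0)))) (.nd (.nd (.nd (.lf 0) (.lf 0)) (.nd (.lf 0) (.lf 0))) (.nd (.nd (.lf 0) (.lf 0)) (.nd (.lf 0) (.lf 0)))))) (.nd (.nd (.nd (.nd (.nd (.lf 0) (.lf 0)) (.nd (.lf 0) (.lf 0))) (.nd (.nd (.lf 0) (.lf 0)) (.nd (.lf 0) (.lf 0)))) (.nd (.nd (.nd (.lf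 1) (.lf 0)) (.nd (.lf 0) (.lf 0))) (.nd (.nd (.lf 0) (.lf 0)) (.nd (.lf 0) (.lf 0))))) (.nd (.nd (.nd (.nd (.lf 0) (.lf 0)) (.nd (.lf 0) (.lf 0))) (.nd (.nd (.lf 0) (.lf 0)) (.nd (.lf 0) (.lf 0)))) (.nd (.nd (.nd (.lf 0) (.lf 0)) (.nd (.lf 0) (.lf 0))) (.nd (.nd (.lf 0) (.lf 0)) (.nd (.lf 0) (.lf 0))))))) (.nd (.nd (.nd (.nd (.nd (.nd (.lf 0) (.lf 0)) (.nd (.lf 0) (.lf 0))) (.nd (.nd (.lf 0) (.lf 0)) (.nd (.lf 0) (.lf 0)))) (.nd (.nd (.nd (.lf 0) (.lf 0)) (.nd (.lf 0) (.lf 0))) (.nd (.nd (.lf 0) (.lf 0)) (.nd (.lf 0) (.lf 0))))) (.nd (.nd (.nd (.nd (.lf 0) (.lf 0)) (.nd (.lf 0) (.lf 0))) (.nd (.nd (.lf 0) (.lf 0)) (.nd (.lf 0) (.lf 0)))) (.nd (.nd (.nd (.lf 0) (.lf 0)) (.nd (.lf 0) (.lf 0))) (.nd (.nd (.lf 0) (.lf 0)) (.nd (.lf 0) (.lf 0)))))) (.nd (.nd (.nd (.nd (.nd (.lf 0) (.lf 0)) (.nd (.lf 0)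 (.lf 0))) (.nd (.nd (.lf 0) (.lf 0)) (.nd (.lf 0) (.lf 0)))) (.nd (.nd (.nd (.lf 0) (.lf 0)) (.nd (.lf 0) (.lf 0))) (.nd (.nd (.lf 0) (.lf 0)) (.nd (.lf 0) (.lf 0))))) (.nd (.nd (.nd (.nd (.lf 0) (.lf 0)) (.nd (.lf 0) (.lf 0))) (.nd (.nd (.lf 0) (.lf 0)) (.nd (.lf 0) (.lf 0)))) (.nd (.nd (.nd (.lf 0) (.lf 0)) (.nd (.lf 0) (.lf 0))) (.nd (.nd (.lf 0) (.lf 0)) (.nd (.lf 0) (.lf 0))))))))) (.nd (.nd (.nd (.nd (.nd (.nd (.nd (.nd (.lf 0) (.lf 0)) (.nd (.lf 0) (.lf 0))) (.nd (.nd (.lf 0) (.lf 0)) (.nd (.lf 0) (.lf 0)))) (.nd (.nd (.nd (.lf 0) (.lf 0)) (.nd (.lf 0) (.lf 0))) (.nd (.nd (.lf 0) (.lf 0)) (.nd (.lf 0) (.lf 0))))) (.nd (.nd (.nd (.nd (.lf 0) (.lf 0)) (.nd (.lf 0) (.lf 0))) (.nd (.nd (.lf 0) (.lf 0)) (.nd (.lf 0) (.lf 0)))) (.nd (.nd (.nd (.lf 0) (.lf 0)) (.nd (.lf 0) (.lf 0))) (.nd (.nd (.lf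 0) (.lf 0)) (.nd (.lf 0) (.lf 0)))))) (.nd (.nd (.nd (.nd (.nd (.lf 0) (.lf 0)) (.nd (.lf 0) (.lf 0))) (.nd (.nd (.lf 0) (.lf 0)) (.nd (.lf 0) (.lf 0)))) (.nd (.nd (.nd (.lf 0) (.lf 0)) (.nd (.lf 0) (.lf 0))) (.nd (.nd (.lf 0) (.lf 0)) (.nd (.lf 0) (.lf 0))))) (.nd (.nd (.nd (.nd (.lf 0) (.lf 0)) (.nd (.lf 0) (.lf 0))) (.nd (.nd (.lf 0) (.lf 0)) (.nd (.lf 0) (.lf 0)))) (.nd (.nd (.nd (.lf 0) (.lf 0)) (.nd (.lf 0) (.lf 0))) (.nd (.nd (.lf 0) (.lf 0)) (.nd (.lf 0) (.lf 0))))))) (.nd (.nd (.nd (.nd (.nd (.nd (.lf 0) (.lf 0)) (.nd (.lf 0) (.lf 0))) (.nd (.nd (.lf 0) (.lf 0)) (.nd (.lf 0) (.lf 0)))) (.nd (.nd (.nd (.lf 0) (.lf 0)) (.nd (.lf 0) (.lf 0))) (.nd (.nd (.lf 0) (.lf 0)) (.nd (.lf 0) (.lf 0))))) (.nd (.nd (.nd (.nd (.lf 0) (.lf 0)) (.nd (.lf 0) (.lf 0))) (.nd (.nd (.lf 0) (.lf 0)) (.nd (.lf 0)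 (.lf 0)))) (.nd (.nd (.nd (.lf 0) (.lf 0)) (.nd (.lf 0) (.lf 0))) (.nd (.nd (.lf 0) (.lf 0)) (.nd (.lf 0) (.lf 0)))))) (.nd (.nd (.nd (.nd (.nd (.lf 0) (.lf 0)) (.nd (.lf 0) (.lf 0))) (.nd (.nd (.lf 0) (.lf 0)) (.nd (.lf 0) (.lf 0)))) (.nd (.nd (.nd (.lf 0) (.lf 0)) (.nd (.lf 0) (.lf 0))) (.nd (.nd (.lf 0) (.lf 0)) (.nd (.lf 0) (.lf 0))))) (.nd (.nd (.nd (.nd (.lf 0) (.lf 0)) (.nd (.lf 0) (.lf 0))) (.nd (.nd (.lf 0) (.lf 0)) (.nd (.lf 0) (.lf 0)))) (.nd (.nd (.nd (.lf 0) (.lf 0)) (.nd (.lf 0) (.lf 0))) (.nd (.nd (.lf 0) (.lf 0)) (.nd (.lf 0) (.lf 0)))))))) (.nd (.nd (.nd (.nd (.nd (.nd (.nd (.lf 0) (.lf 0)) (.nd (.lf 0) (.lf 0))) (.nd (.nd (.lf 0) (.lf 0)) (.nd (.lf 0) (.lf 0)))) (.nd (.nd (.nd (.lf 0) (.lf 0)) (.nd (.lf 0) (.lf 0))) (.nd (.nd (.lf 0) (.lf 0)) (.nd (.lf 0) (.lf 0))))) (.nd (.nd (.nd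 (.nd (.lf 0) (.lf 0)) (.nd (.lf 0) (.lf 0))) (.nd (.nd (.lf 0) (.lf 0)) (.nd (.lf 0) (.lf 0)))) (.nd (.nd (.nd (.lf 0) (.lf 0)) (.nd (.lf 0) (.lf 0))) (.nd (.nd (.lf 0) (.lf 0)) (.nd (.lf 0) (.lf 0)))))) (.nd (.nd (.nd (.nd (.nd (.lf 0) (.lf 0)) (.nd (.lf 0) (.lf 0))) (.nd (.nd (.lf 0) (.lf 0)) (.nd (.lf 0) (.lf 0)))) (.nd (.nd (.nd (.lf 0) (.lf 0)) (.nd (.lf 0) (.lf 0))) (.nd (.nd (.lf 0) (.lf 0)) (.nd (.lf 0) (.lf 0))))) (.nd (.nd (.nd (.nd (.lf 0) (.lf 0)) (.nd (.lf 0) (.lf 0))) (.nd (.nd (.lf 0) (.lf 0)) (.nd (.lf 0) (.lf 0)))) (.nd (.nd (.nd (.lf 0) (.lf 0)) (.nd (.lf 0) (.lf 0))) (.nd (.nd (.lf 0) (.lf 0)) (.nd (.lf 0) (.lf 0))))))) (.nd (.nd (.nd (.nd (.nd (.nd (.lf 0) (.lf 0)) (.nd (.lf 0) (.lf 0))) (.nd (.nd (.lf 0) (.lf 0)) (.nd (.lf 0) (.lf 0)))) (.nd (.nd (.nd (.lf 0) (.lf 0)) (.nd (.lf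 0) (.lf 0))) (.nd (.nd (.lf 0) (.lf 0)) (.nd (.lf 0) (.lf 0))))) (.nd (.nd (.nd (.nd (.lf 0) (.lf 0)) (.nd (.lf 0) (.lf 0))) (.nd (.nd (.lf 0) (.lf 0)) (.nd (.lf 0) (.lf 0)))) (.nd (.nd (.nd (.lf 0) (.lf 0)) (.nd (.lf 0) (.lf 0))) (.nd (.nd (.lf 0) (.lf 0)) (.nd (.lf 0) (.lf 0)))))) (.nd (.nd (.nd (.nd (.nd (.lf 0) (.lf 0)) (.nd (.lf 0) (.lf 0))) (.nd (.nd (.lf 0) (.lf 0)) (.nd (.lf 0) (.lf 0)))) (.nd (.nd (.nd (.lf 0) (.lf 0)) (.nd (.lf 0) (.lf 0))) (.nd (.nd (.lf 0) (.lf 0)) (.nd (.lf 0) (.lf 0))))) (.nd (.nd (.nd (.nd (.lf 0) (.lf 0)) (.nd (.lf 0) (.lf 0))) (.nd (.nd (.lf 0) (.lf 0)) (.nd (.lf 0) (.lf 0)))) (.nd (.nd (.nd (.lf 0) (.lf 0)) (.nd (.lf 0) (.lf 0))) (.nd (.nd (.lf 0) (.lf 0)) (.nd (.lf 0) (.lf 0))))))))))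

/-- table part -/
def tabX_3 : Tr :=
  .nd (.nd (.nd (.nd (.nd (.nd (.nd (.nd (.nd (.nd (.lf 0) (.lf 0)) (.nd (.lf 0) (.lf 0))) (.nd (.nd (.lf 0) (.lf 0)) (.nd (.lf 0) (.lf 0)))) (.nd (.nd (.nd (.lf 0) (.lf 0)) (.nd (.lf 0) (.lf 0))) (.nd (.nd (.lf 0) (.lf 0)) (.nd (.lf 0) (.lf 0))))) (.nd (.nd (.nd (.nd (.lf 0) (.lf 0)) (.nd (.lf 0) (.lf 0))) (.nd (.nd (.lf 0) (.lf 0)) (.nd (.lf 0) (.lf 0)))) (.nd (.nd (.nd (.lf 0) (.lf 0)) (.nd (.lf 0) (.lf 0))) (.nd (.nd (.lf 0) (.lf 0)) (.nd (.lf 0) (.lf 0)))))) (.nd (.nd (.nd (.nd (.nd (.lf 0) (.lf 0)) (.nd (.lf 0) (.lf 0))) (.nd (.nd (.lf 0) (.lf 0)) (.nd (.lf 0) (.lf 0)))) (.nd (.nd (.nd (.lf 0) (.lf 0)) (.nd (.lf 0) (.lf 0))) (.nd (.nd (.lf 0) (.lf 0)) (.nd (.lf 0) (.lf 0))))) (.nd (.nd (.nd (.nd (.lf 0) (.lf 0)) (.nd (.lf 0) (.lf 0))) (.nd (.nd (.lf 0) (.lf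 0)) (.nd (.lf 0) (.lf 0)))) (.nd (.nd (.nd (.lf 0) (.lf 0)) (.nd (.lf 0) (.lf 0))) (.nd (.nd (.lf 0) (.lf 0)) (.nd (.lf 0) (.lf 0))))))) (.nd (.nd (.nd (.nd (.nd (.nd (.lf 0) (.lf 0)) (.nd (.lf 0) (.lf 0))) (.nd (.nd (.lf 0) (.lf 0)) (.nd (.lf 0) (.lf 0)))) (.nd (.nd (.nd (.lf 0) (.lf 0)) (.nd (.lf 0) (.lf 0))) (.nd (.nd (.lf 0) (.lf 0)) (.nd (.lf 0) (.lf 0))))) (.nd (.nd (.nd (.nd (.lf 0) (.lf 0)) (.nd (.lf 0) (.lf 0))) (.nd (.nd (.lf 0) (.lf 0)) (.nd (.lf 0) (.lf 0)))) (.nd (.nd (.nd (.lf 0) (.lf 0)) (.nd (.lf 0) (.lf 0))) (.nd (.nd (.lf 0) (.lf 0)) (.nd (.lf 0) (.lf 0)))))) (.nd (.nd (.nd (.nd (.nd (.lf 0) (.lf 0)) (.nd (.lf 0) (.lf 0))) (.nd (.nd (.lf 0) (.lf 0)) (.nd (.lf 0) (.lf 0)))) (.nd (.nd (.nd (.lf 0) (.lf 0)) (.nd (.lf 0) (.lf 0))) (.nd (.nd (.lf 0) (.lf 0)) (.nd (.lf 0) (.lf 0))))) (.nd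 (.nd (.nd (.nd (.lf 0) (.lf 0)) (.nd (.lf 0) (.lf 0))) (.nd (.nd (.lf 0) (.lf 0)) (.nd (.lf 0) (.lf 0)))) (.nd (.nd (.nd (.lf 0) (.lf 0)) (.nd (.lf 0) (.lf 0))) (.nd (.nd (.lf 0) (.lf 0)) (.nd (.lf 0) (.lf 0)))))))) (.nd (.nd (.nd (.nd (.nd (.nd (.nd (.lf 0) (.lf 0)) (.nd (.lf 0) (.lf 0))) (.nd (.nd (.lf 0) (.lf 0)) (.nd (.lf 0) (.lf 0)))) (.nd (.nd (.nd (.lf 0) (.lf 0)) (.nd (.lf 0) (.lf 0))) (.nd (.nd (.lf 0) (.lf 0)) (.nd (.lf 0) (.lf 0))))) (.nd (.nd (.nd (.nd (.lf 0) (.lf 0)) (.nd (.lf 0) (.lf 0))) (.nd (.nd (.lf 0) (.lf 0)) (.nd (.lf 0) (.lf 0)))) (.nd (.nd (.nd (.lf 0) (.lf 0)) (.nd (.lf 0) (.lf 0))) (.nd (.nd (.lf 0) (.lf 0)) (.nd (.lf 0) (.lf 0)))))) (.nd (.nd (.nd (.nd (.nd (.lf 0) (.lf 0)) (.nd (.lf 0) (.lf 0))) (.nd (.nd (.lf 0) (.lf 0)) (.nd (.lf 0) (.lf 0)))) (.nd (.nd (.nd (.lf 0) (.lf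 0)) (.nd (.lf 0) (.lf 0))) (.nd (.nd (.lf 0) (.lf 0)) (.nd (.lf 0) (.lf 0))))) (.nd (.nd (.nd (.nd (.lf 0) (.lf 0)) (.nd (.lf 0) (.lf 0))) (.nd (.nd (.lf 0) (.lf 0)) (.nd (.lf 0) (.lf 0)))) (.nd (.nd (.nd (.lf 0) (.lf 0)) (.nd (.lf 0) (.lf 0))) (.nd (.nd (.lf 0) (.lf 0)) (.nd (.lf 0) (.lf 0))))))) (.nd (.nd (.nd (.nd (.nd (.nd (.lf 0) (.lf 0)) (.nd (.lf 0) (.lf 0))) (.nd (.nd (.lf 0) (.lf 0)) (.nd (.lf 0) (.lf 0)))) (.nd (.nd (.nd (.lf 0) (.lf 0)) (.nd (.lf 0) (.lf 0))) (.nd (.nd (.lf 0) (.lf 0)) (.nd (.lf 0) (.lf 0))))) (.nd (.nd (.nd (.nd (.lf 0) (.lf 0)) (.nd (.lf 0) (.lf 0))) (.nd (.nd (.lf 0) (.lf 0)) (.nd (.lf 0) (.lf 0)))) (.nd (.nd (.nd (.lf 0) (.lf 0)) (.nd (.lf 0) (.lf 0))) (.nd (.nd (.lf 0) (.lf 0)) (.nd (.lf 0) (.lf 0)))))) (.nd (.nd (.nd (.nd (.nd (.lf 0) (.lf 0)) (.nd (.lf 0) (.lf 0)))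 (.nd (.nd (.lf 0) (.lf 0)) (.nd (.lf 0) (.lf 0)))) (.nd (.nd (.nd (.lf 0) (.lf 0)) (.nd (.lf 0) (.lf 0))) (.nd (.nd (.lf 0) (.lf 0)) (.nd (.lf 0) (.lf 0))))) (.nd (.nd (.nd (.nd (.lf 0) (.lf 0)) (.nd (.lf 0) (.lf 0))) (.nd (.nd (.lf 0) (.lf 0)) (.nd (.lf 0) (.lf 0)))) (.nd (.nd (.nd (.lf 0) (.lf 0)) (.nd (.lf 0) (.lf 0))) (.nd (.nd (.lf 0) (.lf 0)) (.nd (.lf 0) (.lf 0))))))))) (.nd (.nd (.nd (.nd (.nd (.nd (.nd (.nd (.lf 0) (.lf 0)) (.nd (.lf 0) (.lf 0))) (.nd (.nd (.lf 0) (.lf 0)) (.nd (.lf 0) (.lf 0)))) (.nd (.nd (.nd (.lf 0) (.lf 0)) (.nd (.lf 0) (.lf 0))) (.nd (.nd (.lf 0) (.lf 0)) (.nd (.lf 0) (.lf 0))))) (.nd (.nd (.nd (.nd (.lf 0) (.lf 0)) (.nd (.lf 0) (.lf 0))) (.nd (.nd (.lf 0) (.lf 0)) (.nd (.lf 0) (.lf 0)))) (.nd (.nd (.nd (.lf 0) (.lf 0)) (.nd (.lf 0) (.lf 0))) (.nd (.nd (.lf 0) (.lf 0))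 (.nd (.lf 0) (.lf 0)))))) (.nd (.nd (.nd (.nd (.nd (.lf 0) (.lf 0)) (.nd (.lf 0) (.lf 0))) (.nd (.nd (.lf 0) (.lf 0)) (.nd (.lf 0) (.lf 0)))) (.nd (.nd (.nd (.lf 0) (.lf 0)) (.nd (.lf 0) (.lf 0))) (.nd (.nd (.lf 0) (.lf 0)) (.nd (.lf 0) (.lf 0))))) (.nd (.nd (.nd (.nd (.lf 0) (.lf 0)) (.nd (.lf 0) (.lf 0))) (.nd (.nd (.lf 0) (.lf 0)) (.nd (.lf 0) (.lf 0)))) (.nd (.nd (.nd (.lf 0) (.lf 0)) (.nd (.lf 0) (.lf 0))) (.nd (.nd (.lf 0) (.lf 0)) (.nd (.lf 0) (.lf 0))))))) (.nd (.nd (.nd (.nd (.nd (.nd (.lf 0) (.lf 0)) (.nd (.lf 0) (.lf 0))) (.nd (.nd (.lf 0) (.lf 0)) (.nd (.lf 0) (.lf 0)))) (.nd (.nd (.nd (.lf 0) (.lf 0)) (.nd (.lf 0) (.lf 0))) (.nd (.nd (.lf 0) (.lf 0)) (.nd (.lf 0) (.lf 0))))) (.nd (.nd (.nd (.nd (.lf 0) (.lf 0)) (.nd (.lf 0) (.lf 0))) (.nd (.nd (.lf 0) (.lf 0)) (.nd (.lf 0) (.lf 0)))) (.nd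 (.nd (.nd (.lf 0) (.lf 0)) (.nd (.lf 0) (.lf 0))) (.nd (.nd (.lf 0) (.lf 0)) (.nd (.lf 0) (.lf 0)))))) (.nd (.nd (.nd (.nd (.nd (.lf 0) (.lf 0)) (.nd (.lf 0) (.lf 0))) (.nd (.nd (.lf 0) (.lf 0)) (.nd (.lf 0) (.lf 0)))) (.nd (.nd (.nd (.lf 0) (.lf 0)) (.nd (.lf 0) (.lf 0))) (.nd (.nd (.lf 0) (.lf 0)) (.nd (.lf 0) (.lf 0))))) (.nd (.nd (.nd (.nd (.lf 0) (.lf 0)) (.nd (.lf 0) (.lf 0))) (.nd (.nd (.lf 0) (.lf 0)) (.nd (.lf 0) (.lf 0)))) (.nd (.nd (.nd (.lf 0) (.lf 0)) (.nd (.lf 0) (.lf 0))) (.nd (.nd (.lf 0) (.lf 0)) (.nd (.lf 0) (.lf 0)))))))) (.nd (.nd (.nd (.nd (.nd (.nd (.nd (.lf 0) (.lf 0)) (.nd (.lf 0) (.lf 0))) (.nd (.nd (.lf 0) (.lf 0)) (.nd (.lf 0) (.lf 0)))) (.nd (.nd (.nd (.lf 0) (.lf 0)) (.nd (.lf 0) (.lf 0))) (.nd (.nd (.lf 0) (.lf 0)) (.nd (.lf 0) (.lf 0))))) (.nd (.nd (.nd (.nd (.lf 0) (.lf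 0)) (.nd (.lf 0) (.lf 0))) (.nd (.nd (.lf 0) (.lf 0)) (.nd (.lf 0) (.lf 0)))) (.nd (.nd (.nd (.lf 0) (.lf 0)) (.nd (.lf 0) (.lf 0))) (.nd (.nd (.lf 0) (.lf 0)) (.nd (.lf 0) (.lf 0)))))) (.nd (.nd (.nd (.nd (.nd (.lf 0) (.lf 0)) (.nd (.lf 0) (.lf 0))) (.nd (.nd (.lf 0) (.lf 0)) (.nd (.lf 0) (.lf 0)))) (.nd (.nd (.nd (.lf 0) (.lf 0)) (.nd (.lf 0) (.lf 0))) (.nd (.nd (.lf 0) (.lf 0)) (.nd (.lf 0) (.lf 0))))) (.nd (.nd (.nd (.nd (.lf 0) (.lf 0)) (.nd (.lf 0) (.lf 0))) (.nd (.nd (.lf 0) (.lf 0)) (.nd (.lf 0) (.lf 0)))) (.nd (.nd (.nd (.lf 0) (.lf 0)) (.nd (.lf 0) (.lf 0))) (.nd (.nd (.lf 0) (.lf 0)) (.nd (.lf 0) (.lf 0))))))) (.nd (.nd (.nd (.nd (.nd (.nd (.lf 0) (.lf 0)) (.nd (.lf 0) (.lf 0))) (.nd (.nd (.lf 0) (.lf 0)) (.nd (.lf 0) (.lf 0)))) (.nd (.nd (.nd (.lf 0) (.lf 0)) (.nd (.lf 0) (.lf 0))) (.nd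 (.nd (.lf 0) (.lf 0)) (.nd (.lf 0) (.lf 0))))) (.nd (.nd (.nd (.nd (.lf 0) (.lf 0)) (.nd (.lf 0) (.lf 0))) (.nd (.nd (.lf 0) (.lf 0)) (.nd (.lf 0) (.lf 0)))) (.nd (.nd (.nd (.lf 0) (.lf 0)) (.nd (.lf 0) (.lf 0))) (.nd (.nd (.lf 0) (.lf 0)) (.nd (.lf 0) (.lf 0)))))) (.nd (.nd (.nd (.nd (.nd (.lf 0) (.lf 0)) (.nd (.lf 0) (.lf 0))) (.nd (.nd (.lf 0) (.lf 0)) (.nd (.lf 0) (.lf 0)))) (.nd (.nd (.nd (.lf 0) (.lf 0)) (.nd (.lf 0) (.lf 0))) (.nd (.nd (.lf 0) (.lf 0)) (.nd (.lf 0) (.lf 0))))) (.nd (.nd (.nd (.nd (.lf 0) (.lf 0)) (.nd (.lf 0) (.lf 0))) (.nd (.nd (.lf 0) (.lf 0)) (.nd (.lf 0) (.lf 0)))) (.nd (.nd (.nd (.lf 0) (.lf 0)) (.nd (.lf 0) (.lf 0))) (.nd (.nd (.lf 0) (.lf 0)) (.nd (.lf 0) (.lf 0)))))))))) (.nd (.nd (.nd (.nd (.nd (.nd (.nd (.nd (.nd (.lf 0) (.lf 0)) (.nd (.lf 0) (.lf 0))) (.nd (.nd (.lf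 0) (.lf 0)) (.nd (.lf 0) (.lf 0)))) (.nd (.nd (.nd (.lf 0) (.lf 0)) (.nd (.lf 0) (.lf 0))) (.nd (.nd (.lf 0) (.lf 0)) (.nd (.lf 0) (.lf 0))))) (.nd (.nd (.nd (.nd (.lf 0) (.lf 0)) (.nd (.lf 0) (.lf 0))) (.nd (.nd (.lf 0) (.lf 0)) (.nd (.lf 0) (.lf 0)))) (.nd (.nd (.nd (.lf 0) (.lf 0)) (.nd (.lf 0) (.lf 0))) (.nd (.nd (.lf 0) (.lf 0)) (.nd (.lf 0) (.lf 0)))))) (.nd (.nd (.nd (.nd (.nd (.lf 0) (.lf 0)) (.nd (.lf 0) (.lf 0))) (.nd (.nd (.lf 0) (.lf 0)) (.nd (.lf 0) (.lf 0)))) (.nd (.nd (.nd (.lf 0) (.lf 0)) (.nd (.lf 0) (.lf 0))) (.nd (.nd (.lf 0) (.lf 0)) (.nd (.lf 0) (.lf 0))))) (.nd (.nd (.nd (.nd (.lf 0) (.lf 0)) (.nd (.lf 0) (.lf 0))) (.nd (.nd (.lf 0) (.lf 0)) (.nd (.lf 0) (.lf 0)))) (.nd (.nd (.nd (.lf 0) (.lf 0)) (.nd (.lf 0) (.lf 0))) (.nd (.nd (.lf 0) (.lf 0)) (.nd (.lf 0) (.lf 0))))))) (.nd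 (.nd (.nd (.nd (.nd (.nd (.lf 0) (.lf 0)) (.nd (.lf 0) (.lf 0))) (.nd (.nd (.lf 0) (.lf 0)) (.nd (.lf 0) (.lf 0)))) (.nd (.nd (.nd (.lf 0) (.lf 0)) (.nd (.lf 0) (.lf 0))) (.nd (.nd (.lf 0) (.lf 0)) (.nd (.lf 0) (.lf 0))))) (.nd (.nd (.nd (.nd (.lf 0) (.lf 0)) (.nd (.lf 0) (.lf 0))) (.nd (.nd (.lf 0) (.lf 0)) (.nd (.lf 0) (.lf 0)))) (.nd (.nd (.nd (.lf 0) (.lf 0)) (.nd (.lf 0) (.lf 0))) (.nd (.nd (.lf 0) (.lf 0)) (.nd (.lf 0) (.lf 0)))))) (.nd (.nd (.nd (.nd (.nd (.lf 0) (.lf 0)) (.nd (.lf 0) (.lf 0))) (.nd (.nd (.lf 0) (.lf 0)) (.nd (.lf 0) (.lf 0)))) (.nd (.nd (.nd (.lf 0) (.lf 0)) (.nd (.lf 0) (.lf 0))) (.nd (.nd (.lf 0) (.lf 0)) (.nd (.lf 0) (.lf 0))))) (.nd (.nd (.nd (.nd (.lf 0) (.lf 0)) (.nd (.lf 0) (.lf 0))) (.nd (.nd (.lf 0) (.lf 0)) (.nd (.lf 0) (.lf 0)))) (.nd (.nd (.nd (.lf 0) (.lf 0)) (.nd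 (.lf 0) (.lf 0))) (.nd (.nd (.lf 0) (.lf 0)) (.nd (.lf 0) (.lf 0)))))))) (.nd (.nd (.nd (.nd (.nd (.nd (.nd (.lf 0) (.lf 0)) (.nd (.lf 0) (.lf 0))) (.nd (.nd (.lf 0) (.lf 0)) (.nd (.lf 0) (.lf 0)))) (.nd (.nd (.nd (.lf 0) (.lf 0)) (.nd (.lf 0) (.lf 0))) (.nd (.nd (.lf 0) (.lf 0)) (.nd (.lf 0) (.lf 0))))) (.nd (.nd (.nd (.nd (.lf 0) (.lf 0)) (.nd (.lf 0) (.lf 0))) (.nd (.nd (.lf 0) (.lf 0)) (.nd (.lf 0) (.lf 0)))) (.nd (.nd (.nd (.lf 0) (.lf 0)) (.nd (.lf 0) (.lf 0))) (.nd (.nd (.lf 0) (.lf 0)) (.nd (.lf 0) (.lf 0)))))) (.nd (.nd (.nd (.nd (.nd (.lf 0) (.lf 0)) (.nd (.lf 0) (.lf 0))) (.nd (.nd (.lf 0) (.lf 0)) (.nd (.lf 0) (.lf 0)))) (.nd (.nd (.nd (.lf 0) (.lf 0)) (.nd (.lf 0) (.lf 0))) (.nd (.nd (.lf 0) (.lf 0)) (.nd (.lf 0) (.lf 0))))) (.nd (.nd (.nd (.nd (.lf 0) (.lf 0)) (.nd (.lf 0) (.lf 0))) (.nd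 (.nd (.lf 0) (.lf 0)) (.nd (.lf 0) (.lf 0)))) (.nd (.nd (.nd (.lf 0) (.lf 0)) (.nd (.lf 0) (.lf 0))) (.nd (.nd (.lf 0) (.lf 0)) (.nd (.lf 0) (.lf 0))))))) (.nd (.nd (.nd (.nd (.nd (.nd (.lf 0) (.lf 0)) (.nd (.lf 0) (.lf 0))) (.nd (.nd (.lf 0) (.lf 0)) (.nd (.lf 0) (.lf 0)))) (.nd (.nd (.nd (.lf 0) (.lf 0)) (.nd (.lf 0) (.lf 0))) (.nd (.nd (.lf 0) (.lf 0)) (.nd (.lf 0) (.lf 0))))) (.nd (.nd (.nd (.nd (.lf 0) (.lf 0)) (.nd (.lf 0) (.lf 0))) (.nd (.nd (.lf 0) (.lf 0)) (.nd (.lf 0) (.lf 0)))) (.nd (.nd (.nd (.lf 0) (.lf 0)) (.nd (.lf 0) (.lf 0))) (.nd (.nd (.lf 0) (.lf 0)) (.nd (.lf 0) (.lf 0)))))) (.nd (.nd (.nd (.nd (.nd (.lf 0) (.lf 0)) (.nd (.lf 0) (.lf 0))) (.nd (.nd (.lf 0) (.lf 0)) (.nd (.lf 0) (.lf 0)))) (.nd (.nd (.nd (.lf 0) (.lf 0)) (.nd (.lf 0) (.lf 0))) (.nd (.nd (.lf 0) (.lf 0)) (.nd (.lf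 0) (.lf 0))))) (.nd (.nd (.nd (.nd (.lf 0) (.lf 0)) (.nd (.lf 0) (.lf 0))) (.nd (.nd (.lf 0) (.lf 0)) (.nd (.lf 0) (.lf 0)))) (.nd (.nd (.nd (.lf 0) (.lf 0)) (.nd (.lf 0) (.lf 0))) (.nd (.nd (.lf 0) (.lf 0)) (.nd (.lf 0) (.lf 0))))))))) (.nd (.nd (.nd (.nd (.nd (.nd (.nd (.nd (.lf 0) (.lf 0)) (.nd (.lf 0) (.lf 0))) (.nd (.nd (.lf 0) (.lf 0)) (.nd (.lf 0) (.lf 0)))) (.nd (.nd (.nd (.lf 0) (.lf 0)) (.nd (.lf 0) (.lf 0))) (.nd (.nd (.lf 0) (.lf 0)) (.nd (.lf 0) (.lf 0))))) (.nd (.nd (.nd (.nd (.lf 0) (.lf 0)) (.nd (.lf 0) (.lf 0))) (.nd (.nd (.lf 0) (.lf 0)) (.nd (.lf 0) (.lf 0)))) (.nd (.nd (.nd (.lf 0) (.lf 0)) (.nd (.lf 0) (.lf 0))) (.nd (.nd (.lf 0) (.lf 0)) (.nd (.lf 0) (.lf 0)))))) (.nd (.nd (.nd (.nd (.nd (.lf 0) (.lf 0)) (.nd (.lf 0) (.lf 0))) (.nd (.nd (.lf 0) (.lf 0)) (.nd (.lf 0) (.lf 0))))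 (.nd (.nd (.nd (.lf 0) (.lf 0)) (.nd (.lf 0) (.lf 0))) (.nd (.nd (.lf 0) (.lf 0)) (.nd (.lf 0) (.lf 0))))) (.nd (.nd (.nd (.nd (.lf 0) (.lf 0)) (.nd (.lf 0) (.lf 0))) (.nd (.nd (.lf 0) (.lf 0)) (.nd (.lf 0) (.lf 0)))) (.nd (.nd (.nd (.lf 0) (.lf 0)) (.nd (.lf 0) (.lf 0))) (.nd (.nd (.lf 0) (.lf 0)) (.nd (.lf 0) (.lf 0))))))) (.nd (.nd (.nd (.nd (.nd (.nd (.lf 0) (.lf 0)) (.nd (.lf 0) (.lf 0))) (.nd (.nd (.lf 0) (.lf 0)) (.nd (.lf 0) (.lf 0)))) (.nd (.nd (.nd (.lf 0) (.lf 0)) (.nd (.lf 0) (.lf 0))) (.nd (.nd (.lf 0) (.lf 0)) (.nd (.lf 0) (.lf 0))))) (.nd (.nd (.nd (.nd (.lf 0) (.lf 0)) (.nd (.lf 0) (.lf 0))) (.nd (.nd (.lf 0) (.lf 0)) (.nd (.lf 0) (.lf 0)))) (.nd (.nd (.nd (.lf 0) (.lf 0)) (.nd (.lf 0) (.lf 0))) (.nd (.nd (.lf 0) (.lf 0)) (.nd (.lf 0) (.lf 0)))))) (.nd (.nd (.nd (.nd (.nd (.lf 0) (.lf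 0)) (.nd (.lf 0) (.lf 0))) (.nd (.nd (.lf 0) (.lf 0)) (.nd (.lf 0) (.lf 0)))) (.nd (.nd (.nd (.lf 0) (.lf 0)) (.nd (.lf 0) (.lf 0))) (.nd (.nd (.lf 0) (.lf 0)) (.nd (.lf 0) (.lf 0))))) (.nd (.nd (.nd (.nd (.lf 0) (.lf 0)) (.nd (.lf 0) (.lf 0))) (.nd (.nd (.lf 0) (.lf 0)) (.nd (.lf 0) (.lf 0)))) (.nd (.nd (.nd (.lf 0) (.lf 0)) (.nd (.lf 0) (.lf 0))) (.nd (.nd (.lf 0) (.lf 0)) (.nd (.lf 0) (.lf 0)))))))) (.nd (.nd (.nd (.nd (.nd (.nd (.nd (.lf 0) (.lf 0)) (.nd (.lf 0) (.lf 0))) (.nd (.nd (.lf 0) (.lf 0)) (.nd (.lf 0) (.lf 0)))) (.nd (.nd (.nd (.lf 0) (.lf 0)) (.nd (.lf 0) (.lf 0))) (.nd (.nd (.lf 0) (.lf 0)) (.nd (.lf 0) (.lf 0))))) (.nd (.nd (.nd (.nd (.lf 0) (.lf 0)) (.nd (.lf 0) (.lf 0))) (.nd (.nd (.lf 0) (.lf 0)) (.nd (.lf 0) (.lf 0)))) (.nd (.nd (.nd (.lf 0) (.lf 0)) (.nd (.lf 0) (.lf 0))) (.nd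 (.nd (.lf 0) (.lf 0)) (.nd (.lf 0) (.lf 0)))))) (.nd (.nd (.nd (.nd (.nd (.lf 0) (.lf 0)) (.nd (.lf 0) (.lf 0))) (.nd (.nd (.lf 0) (.lf 0)) (.nd (.lf 0) (.lf 0)))) (.nd (.nd (.nd (.lf 0) (.lf 0)) (.nd (.lf 0) (.lf 0))) (.nd (.nd (.lf 0) (.lf 0)) (.nd (.lf 0) (.lf 0))))) (.nd (.nd (.nd (.nd (.lf 0) (.lf 0)) (.nd (.lf 0) (.lf 0))) (.nd (.nd (.lf 0) (.lf 0)) (.nd (.lf 0) (.lf 0)))) (.nd (.nd (.nd (.lf 0) (.lf 0)) (.nd (.lf 0) (.lf 0))) (.nd (.nd (.lf 0) (.lf 0)) (.nd (.lf 0) (.lf 0))))))) (.nd (.nd (.nd (.nd (.nd (.nd (.lf 0) (.lf 0)) (.nd (.lf 0) (.lf 0))) (.nd (.nd (.lf 0) (.lf 0)) (.nd (.lf 0) (.lf 0)))) (.nd (.nd (.nd (.lf 0) (.lf 0)) (.nd (.lf 0) (.lf 0))) (.nd (.nd (.lf 0) (.lf 0)) (.nd (.lf 0) (.lf 0))))) (.nd (.nd (.nd (.nd (.lf 0) (.lf 0)) (.nd (.lf 0) (.lf 0))) (.nd (.nd (.lf 0) (.lf 0)) (.nd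 (.lf 0) (.lf 0)))) (.nd (.nd (.nd (.lf 0) (.lf 0)) (.nd (.lf 0) (.lf 0))) (.nd (.nd (.lf 0) (.lf 0)) (.nd (.lf 0) (.lf 0)))))) (.nd (.nd (.nd (.nd (.nd (.lf 0) (.lf 0)) (.nd (.lf 0) (.lf 0))) (.nd (.nd (.lf 0) (.lf 0)) (.nd (.lf 0) (.lf 0)))) (.nd (.nd (.nd (.lf 0) (.lf 0)) (.nd (.lf 0) (.lf 0))) (.nd (.nd (.lf 0) (.lf 0)) (.nd (.lf 0) (.lf 0))))) (.nd (.nd (.nd (.nd (.lf 0) (.lf 0)) (.nd (.lf 0) (.lf 0))) (.nd (.nd (.lf 0) (.lf 0)) (.nd (.lf 0) (.lf 0)))) (.nd (.nd (.nd (.lf 0) (.lf 0)) (.nd (.lf 0) (.lf 0))) (.nd (.nd (.lf 0) (.lf 0)) (.nd (.lf 0) (.lf 0))))))))))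

/-- table part -/
def tabX_4 : Tr :=
  .nd (.nd (.nd (.nd (.nd (.nd (.nd (.nd (.nd (.nd (.lf 0) (.lf 0)) (.nd (.lf 0) (.lf 0))) (.nd (.nd (.lf 0) (.lf 0)) (.nd (.lf 0) (.lf 0)))) (.nd (.nd (.nd (.lf 0) (.lf 0)) (.nd (.lf 0) (.lf 0))) (.nd (.nd (.lf 0) (.lf 0)) (.nd (.lf 0) (.lf 0))))) (.nd (.nd (.nd (.nd (.lf 0) (.lf 0)) (.nd (.lf 0) (.lf 0))) (.nd (.nd (.lf 0) (.lf 0)) (.nd (.lf 0) (.lf 0)))) (.nd (.nd (.nd (.lf 0) (.lf 0)) (.nd (.lf 0) (.lf 0))) (.nd (.nd (.lf 0) (.lf 0)) (.nd (.lf 0) (.lf 0)))))) (.nd (.nd (.nd (.nd (.nd (.lf 0) (.lf 0)) (.nd (.lf 0) (.lf 0))) (.nd (.nd (.lf 0) (.lf 0)) (.nd (.lf 0) (.lf 0)))) (.nd (.nd (.nd (.lf 0) (.lf 0)) (.nd (.lf 0) (.lf 0))) (.nd (.nd (.lf 0) (.lf 0)) (.nd (.lf 0) (.lf 0))))) (.nd (.nd (.nd (.nd (.lf 0) (.lf 0)) (.nd (.lf 0) (.lf 0))) (.nd (.nd (.lf 0) (.lf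 0)) (.nd (.lf 0) (.lf 0)))) (.nd (.nd (.nd (.lf 0) (.lf 0)) (.nd (.lf 0) (.lf 0))) (.nd (.nd (.lf 0) (.lf 0)) (.nd (.lf 0) (.lf 0))))))) (.nd (.nd (.nd (.nd (.nd (.nd (.lf 0) (.lf 0)) (.nd (.lf 0) (.lf 0))) (.nd (.nd (.lf 7) (.lf 0)) (.nd (.lf 0) (.lf 0)))) (.nd (.nd (.nd (.lf 0) (.lf 0)) (.nd (.lf 0) (.lf 0))) (.nd (.nd (.lf 0) (.lf 0)) (.nd (.lf 0) (.lf 0))))) (.nd (.nd (.nd (.nd (.lf 0) (.lf 0)) (.nd (.lf 0) (.lf 0))) (.nd (.nd (.lf 0) (.lf 0)) (.nd (.lf 0) (.lf 0)))) (.nd (.nd (.nd (.lf 0) (.lf 0)) (.nd (.lf 0) (.lf 0))) (.nd (.nd (.lf 0) (.lf 0)) (.nd (.lf 0) (.lf 0)))))) (.nd (.nd (.nd (.nd (.nd (.lf 0) (.lf 0)) (.nd (.lf 0) (.lf 0))) (.nd (.nd (.lf 0) (.lf 0)) (.nd (.lf 0) (.lf 0)))) (.nd (.nd (.nd (.lf 0) (.lf 0)) (.nd (.lf 0) (.lf 0))) (.nd (.nd (.lf 0) (.lf 0)) (.nd (.lf 0) (.lf 0))))) (.nd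 (.nd (.nd (.nd (.lf 0) (.lf 0)) (.nd (.lf 0) (.lf 0))) (.nd (.nd (.lf 0) (.lf 0)) (.nd (.lf 0) (.lf 0)))) (.nd (.nd (.nd (.lf 0) (.lf 0)) (.nd (.lf 0) (.lf 0))) (.nd (.nd (.lf 0) (.lf 0)) (.nd (.lf 0) (.lf 0)))))))) (.nd (.nd (.nd (.nd (.nd (.nd (.nd (.lf 0) (.lf 0)) (.nd (.lf 0) (.lf 0))) (.nd (.nd (.lf 0) (.lf 0)) (.nd (.lf 0) (.lf 0)))) (.nd (.nd (.nd (.lf 0) (.lf 0)) (.nd (.lf 0) (.lf 0))) (.nd (.nd (.lf 0) (.lf 0)) (.nd (.lf 0) (.lf 0))))) (.nd (.nd (.nd (.nd (.lf 0) (.lf 0)) (.nd (.lf 0) (.lf 0))) (.nd (.nd (.lf 0) (.lf 0)) (.nd (.lf 0) (.lf 0)))) (.nd (.nd (.nd (.lf 0) (.lf 0)) (.nd (.lf 0) (.lf 0))) (.nd (.nd (.lf 0) (.lf 0)) (.nd (.lf 0) (.lf 0)))))) (.nd (.nd (.nd (.nd (.nd (.lf 0) (.lf 0)) (.nd (.lf 0) (.lf 0))) (.nd (.nd (.lf 0) (.lf 0)) (.nd (.lf 0) (.lf 0)))) (.nd (.nd (.nd (.lf 0) (.lf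 0)) (.nd (.lf 0) (.lf 0))) (.nd (.nd (.lf 0) (.lf 0)) (.nd (.lf 0) (.lf 0))))) (.nd (.nd (.nd (.nd (.lf 0) (.lf 0)) (.nd (.lf 0) (.lf 0))) (.nd (.nd (.lf 0) (.lf 0)) (.nd (.lf 0) (.lf 0)))) (.nd (.nd (.nd (.lf 0) (.lf 0)) (.nd (.lf 0) (.lf 0))) (.nd (.nd (.lf 0) (.lf 0)) (.nd (.lf 0) (.lf 0))))))) (.nd (.nd (.nd (.nd (.nd (.nd (.lf 0) (.lf 0)) (.nd (.lf 0) (.lf 0))) (.nd (.nd (.lf 0) (.lf 0)) (.nd (.lf 0) (.lf 0)))) (.nd (.nd (.nd (.lf 0) (.lf 0)) (.nd (.lf 0) (.lf 0))) (.nd (.nd (.lf 0) (.lf 0)) (.nd (.lf 0) (.lf 0))))) (.nd (.nd (.nd (.nd (.lf 0) (.lf 0)) (.nd (.lf 0) (.lf 0))) (.nd (.nd (.lf 0) (.lf 0)) (.nd (.lf 0) (.lf 0)))) (.nd (.nd (.nd (.lf 0) (.lf 0)) (.nd (.lf 0) (.lf 0))) (.nd (.nd (.lf 0) (.lf 0)) (.nd (.lf 0) (.lf 0)))))) (.nd (.nd (.nd (.nd (.nd (.lf 0) (.lf 0)) (.nd (.lf 0) (.lf 0)))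 (.nd (.nd (.lf 0) (.lf 0)) (.nd (.lf 0) (.lf 0)))) (.nd (.nd (.nd (.lf 0) (.lf 0)) (.nd (.lf 0) (.lf 0))) (.nd (.nd (.lf 0) (.lf 0)) (.nd (.lf 0) (.lf 0))))) (.nd (.nd (.nd (.nd (.lf 0) (.lf 0)) (.nd (.lf 0) (.lf 0))) (.nd (.nd (.lf 0) (.lf 0)) (.nd (.lf 0) (.lf 0)))) (.nd (.nd (.nd (.lf 0) (.lf 0)) (.nd (.lf 0) (.lf 0))) (.nd (.nd (.lf 0) (.lf 0)) (.nd (.lf 0) (.lf 0))))))))) (.nd (.nd (.nd (.nd (.nd (.nd (.nd (.nd (.lf 0) (.lf 0)) (.nd (.lf 0) (.lf 0))) (.nd (.nd (.lf 0) (.lf 0)) (.nd (.lf 0) (.lf 0)))) (.nd (.nd (.nd (.lf 0) (.lf 0)) (.nd (.lf 0) (.lf 0))) (.nd (.nd (.lf 0) (.lf 0)) (.nd (.lf 0) (.lf 0))))) (.nd (.nd (.nd (.nd (.lf 0) (.lf 0)) (.nd (.lf 0) (.lf 0))) (.nd (.nd (.lf 0) (.lf 0)) (.nd (.lf 0) (.lf 0)))) (.nd (.nd (.nd (.lf 2) (.lf 0)) (.nd (.lf 0) (.lf 0))) (.nd (.nd (.lf 0) (.lf 0))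 (.nd (.lf 0) (.lf 0)))))) (.nd (.nd (.nd (.nd (.nd (.lf 0) (.lf 0)) (.nd (.lf 0) (.lf 0))) (.nd (.nd (.lf 0) (.lf 0)) (.nd (.lf 0) (.lf 0)))) (.nd (.nd (.nd (.lf 0) (.lf 0)) (.nd (.lf 0) (.lf 0))) (.nd (.nd (.lf 0) (.lf 0)) (.nd (.lf 0) (.lf 0))))) (.nd (.nd (.nd (.nd (.lf 0) (.lf 0)) (.nd (.lf 0) (.lf 0))) (.nd (.nd (.lf 0) (.lf 0)) (.nd (.lf 0) (.lf 0)))) (.nd (.nd (.nd (.lf 0) (.lf 0)) (.nd (.lf 0) (.lf 0))) (.nd (.nd (.lf 0) (.lf 0)) (.nd (.lf 0) (.lf 0))))))) (.nd (.nd (.nd (.nd (.nd (.nd (.lf 0) (.lf 0)) (.nd (.lf 0) (.lf 0))) (.nd (.nd (.lf 0) (.lf 0)) (.nd (.lf 0) (.lf 0)))) (.nd (.nd (.nd (.lf 0) (.lf 0)) (.nd (.lf 0) (.lf 0))) (.nd (.nd (.lf 0) (.lf 0)) (.nd (.lf 0) (.lf 0))))) (.nd (.nd (.nd (.nd (.lf 0) (.lf 0)) (.nd (.lf 0) (.lf 0))) (.nd (.nd (.lf 0) (.lf 0)) (.nd (.lf 0) (.lf 0)))) (.nd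 (.nd (.nd (.lf 0) (.lf 0)) (.nd (.lf 0) (.lf 0))) (.nd (.nd (.lf 0) (.lf 0)) (.nd (.lf 0) (.lf 0)))))) (.nd (.nd (.nd (.nd (.nd (.lf 0) (.lf 0)) (.nd (.lf 0) (.lf 0))) (.nd (.nd (.lf 0) (.lf 0)) (.nd (.lf 0) (.lf 0)))) (.nd (.nd (.nd (.lf 0) (.lf 0)) (.nd (.lf 0) (.lf 0))) (.nd (.nd (.lf 0) (.lf 0)) (.nd (.lf 0) (.lf 0))))) (.nd (.nd (.nd (.nd (.lf 0) (.lf 0)) (.nd (.lf 0) (.lf 0))) (.nd (.nd (.lf 0) (.lf 0)) (.nd (.lf 0) (.lf 0)))) (.nd (.nd (.nd (.lf 0) (.lf 0)) (.nd (.lf 0) (.lf 0))) (.nd (.nd (.lf 0) (.lf 0)) (.nd (.lf 0) (.lf 0)))))))) (.nd (.nd (.nd (.nd (.nd (.nd (.nd (.lf 0) (.lf 0)) (.nd (.lf 0) (.lf 0))) (.nd (.nd (.lf 0) (.lf 0)) (.nd (.lf 0) (.lf 0)))) (.nd (.nd (.nd (.lf 0) (.lf 0)) (.nd (.lf 0) (.lf 0))) (.nd (.nd (.lf 0) (.lf 0)) (.nd (.lf 0) (.lf 0))))) (.nd (.nd (.nd (.nd (.lf 0) (.lf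 0)) (.nd (.lf 0) (.lf 0))) (.nd (.nd (.lf 0) (.lf 0)) (.nd (.lf 0) (.lf 0)))) (.nd (.nd (.nd (.lf 0) (.lf 0)) (.nd (.lf 0) (.lf 0))) (.nd (.nd (.lf 0) (.lf 0)) (.nd (.lf 0) (.lf 0)))))) (.nd (.nd (.nd (.nd (.nd (.lf 0) (.lf 0)) (.nd (.lf 0) (.lf 0))) (.nd (.nd (.lf 0) (.lf 0)) (.nd (.lf 0) (.lf 0)))) (.nd (.nd (.nd (.lf 0) (.lf 0)) (.nd (.lf 0) (.lf 0))) (.nd (.nd (.lf 0) (.lf 0)) (.nd (.lf 0) (.lf 0))))) (.nd (.nd (.nd (.nd (.lf 0) (.lf 0)) (.nd (.lf 0) (.lf 0))) (.nd (.nd (.lf 0) (.lf 0)) (.nd (.lf 0) (.lf 0)))) (.nd (.nd (.nd (.lf 0) (.lf 0)) (.nd (.lf 0) (.lf 0))) (.nd (.nd (.lf 0) (.lf 0)) (.nd (.lf 0) (.lf 0))))))) (.nd (.nd (.nd (.nd (.nd (.nd (.lf 0) (.lf 0)) (.nd (.lf 0) (.lf 0))) (.nd (.nd (.lf 0) (.lf 0)) (.nd (.lf 0) (.lf 0)))) (.nd (.nd (.nd (.lf 0) (.lf 0)) (.nd (.lf 0) (.lf 0))) (.nd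 (.nd (.lf 0) (.lf 0)) (.nd (.lf 0) (.lf 0))))) (.nd (.nd (.nd (.nd (.lf 0) (.lf 0)) (.nd (.lf 0) (.lf 0))) (.nd (.nd (.lf 0) (.lf 0)) (.nd (.lf 0) (.lf 0)))) (.nd (.nd (.nd (.lf 0) (.lf 0)) (.nd (.lf 0) (.lf 0))) (.nd (.nd (.lf 0) (.lf 0)) (.nd (.lf 0) (.lf 0)))))) (.nd (.nd (.nd (.nd (.nd (.lf 0) (.lf 0)) (.nd (.lf 0) (.lf 0))) (.nd (.nd (.lf 0) (.lf 0)) (.nd (.lf 0) (.lf 0)))) (.nd (.nd (.nd (.lf 0) (.lf 0)) (.nd (.lf 0) (.lf 0))) (.nd (.nd (.lf 0) (.lf 0)) (.nd (.lf 0) (.lf 0))))) (.nd (.nd (.nd (.nd (.lf 0) (.lf 0)) (.nd (.lf 0) (.lf 0))) (.nd (.nd (.lf 0) (.lf 0)) (.nd (.lf 0) (.lf 0)))) (.nd (.nd (.nd (.lf 0) (.lf 0)) (.nd (.lf 0) (.lf 0))) (.nd (.nd (.lf 0) (.lf 0)) (.nd (.lf 0) (.lf 0)))))))))) (.nd (.nd (.nd (.nd (.nd (.nd (.nd (.nd (.nd (.lf 0) (.lf 0)) (.nd (.lf 0) (.lf 0))) (.nd (.nd (.lf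 0) (.lf 0)) (.nd (.lf 0) (.lf 0)))) (.nd (.nd (.nd (.lf 0) (.lf 0)) (.nd (.lf 0) (.lf 0))) (.nd (.nd (.lf 0) (.lf 0)) (.nd (.lf 0) (.lf 0))))) (.nd (.nd (.nd (.nd (.lf 0) (.lf 0)) (.nd (.lf 0) (.lf 0))) (.nd (.nd (.lf 0) (.lf 0)) (.nd (.lf 0) (.lf 0)))) (.nd (.nd (.nd (.lf 0) (.lf 0)) (.nd (.lf 0) (.lf 0))) (.nd (.nd (.lf 0) (.lf 0)) (.nd (.lf 0) (.lf 0)))))) (.nd (.nd (.nd (.nd (.nd (.lf 0) (.lf 0)) (.nd (.lf 0) (.lf 0))) (.nd (.nd (.lf 0) (.lf 0)) (.nd (.lf 0) (.lf 0)))) (.nd (.nd (.nd (.lf 0) (.lf 0)) (.nd (.lf 0) (.lf 0))) (.nd (.nd (.lf 0) (.lf 0)) (.nd (.lf 0) (.lf 0))))) (.nd (.nd (.nd (.nd (.lf 0) (.lf 0)) (.nd (.lf 0) (.lf 0))) (.nd (.nd (.lf 0) (.lf 0)) (.nd (.lf 0) (.lf 0)))) (.nd (.nd (.nd (.lf 0) (.lf 0)) (.nd (.lf 0) (.lf 0))) (.nd (.nd (.lf 0) (.lf 0)) (.nd (.lf 0) (.lf 0))))))) (.nd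 (.nd (.nd (.nd (.nd (.nd (.lf 0) (.lf 0)) (.nd (.lf 0) (.lf 0))) (.nd (.nd (.lf 0) (.lf 0)) (.nd (.lf 0) (.lf 0)))) (.nd (.nd (.nd (.lf 0) (.lf 0)) (.nd (.lf 0) (.lf 0))) (.nd (.nd (.lf 0) (.lf 0)) (.nd (.lf 0) (.lf 0))))) (.nd (.nd (.nd (.nd (.lf 0) (.lf 0)) (.nd (.lf 0) (.lf 0))) (.nd (.nd (.lf 0) (.lf 0)) (.nd (.lf 0) (.lf 0)))) (.nd (.nd (.nd (.lf 0) (.lf 0)) (.nd (.lf 0) (.lf 0))) (.nd (.nd (.lf 0) (.lf 0)) (.nd (.lf 0) (.lf 0)))))) (.nd (.nd (.nd (.nd (.nd (.lf 0) (.lf 0)) (.nd (.lf 0) (.lf 0))) (.nd (.nd (.lf 0) (.lf 0)) (.nd (.lf 0) (.lf 0)))) (.nd (.nd (.nd (.lf 0) (.lf 0)) (.nd (.lf 0) (.lf 0))) (.nd (.nd (.lf 0) (.lf 0)) (.nd (.lf 0) (.lf 0))))) (.nd (.nd (.nd (.nd (.lf 0) (.lf 0)) (.nd (.lf 0) (.lf 0))) (.nd (.nd (.lf 0) (.lf 0)) (.nd (.lf 0) (.lf 0)))) (.nd (.nd (.nd (.lf 0) (.lf 0)) (.nd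 (.lf 0) (.lf 0))) (.nd (.nd (.lf 0) (.lf 0)) (.nd (.lf 0) (.lf 0)))))))) (.nd (.nd (.nd (.nd (.nd (.nd (.nd (.lf 0) (.lf 0)) (.nd (.lf 0) (.lf 0))) (.nd (.nd (.lf 0) (.lf 0)) (.nd (.lf 0) (.lf 0)))) (.nd (.nd (.nd (.lf 0) (.lf 0)) (.nd (.lf 0) (.lf 0))) (.nd (.nd (.lf 0) (.lf 0)) (.nd (.lf 0) (.lf 0))))) (.nd (.nd (.nd (.nd (.lf 0) (.lf 0)) (.nd (.lf 0) (.lf 0))) (.nd (.nd (.lf 0) (.lf 0)) (.nd (.lf 0) (.lf 0)))) (.nd (.nd (.nd (.lf 0) (.lf 0)) (.nd (.lf 0) (.lf 0))) (.nd (.nd (.lf 0) (.lf 0)) (.nd (.lf 0) (.lf 0)))))) (.nd (.nd (.nd (.nd (.nd (.lf 6) (.lf 0)) (.nd (.lf 0) (.lf 0))) (.nd (.nd (.lf 0) (.lf 0)) (.nd (.lf 0) (.lf 0)))) (.nd (.nd (.nd (.lf 0) (.lf 0)) (.nd (.lf 0) (.lf 0))) (.nd (.nd (.lf 0) (.lf 0)) (.nd (.lf 0) (.lf 0))))) (.nd (.nd (.nd (.nd (.lf 0) (.lf 0)) (.nd (.lf 0) (.lf 0))) (.nd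 (.nd (.lf 0) (.lf 0)) (.nd (.lf 0) (.lf 0)))) (.nd (.nd (.nd (.lf 0) (.lf 0)) (.nd (.lf 0) (.lf 0))) (.nd (.nd (.lf 0) (.lf 0)) (.nd (.lf 0) (.lf 0))))))) (.nd (.nd (.nd (.nd (.nd (.nd (.lf 0) (.lf 0)) (.nd (.lf 0) (.lf 0))) (.nd (.nd (.lf 0) (.lf 0)) (.nd (.lf 0) (.lf 0)))) (.nd (.nd (.nd (.lf 0) (.lf 0)) (.nd (.lf 0) (.lf 0))) (.nd (.nd (.lf 0) (.lf 0)) (.nd (.lf 0) (.lf 0))))) (.nd (.nd (.nd (.nd (.lf 0) (.lf 0)) (.nd (.lf 0) (.lf 0))) (.nd (.nd (.lf 0) (.lf 0)) (.nd (.lf 0) (.lf 0)))) (.nd (.nd (.nd (.lf 0) (.lf 0)) (.nd (.lf 0) (.lf 0))) (.nd (.nd (.lf 0) (.lf 0)) (.nd (.lf 0) (.lf 0)))))) (.nd (.nd (.nd (.nd (.nd (.lf 0) (.lf 0)) (.nd (.lf 0) (.lf 0))) (.nd (.nd (.lf 0) (.lf 0)) (.nd (.lf 0) (.lf 0)))) (.nd (.nd (.nd (.lf 0) (.lf 0)) (.nd (.lf 0) (.lf 0))) (.nd (.nd (.lf 0) (.lf 0)) (.nd (.lf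 0) (.lf 0))))) (.nd (.nd (.nd (.nd (.lf 0) (.lf 0)) (.nd (.lf 0) (.lf 0))) (.nd (.nd (.lf 0) (.lf 0)) (.nd (.lf 0) (.lf 0)))) (.nd (.nd (.nd (.lf 0) (.lf 0)) (.nd (.lf 0) (.lf 0))) (.nd (.nd (.lf 0) (.lf 0)) (.nd (.lf 0) (.lf 0))))))))) (.nd (.nd (.nd (.nd (.nd (.nd (.nd (.nd (.lf 0) (.lf 0)) (.nd (.lf 0) (.lf 0))) (.nd (.nd (.lf 0) (.lf 0)) (.nd (.lf 0) (.lf 0)))) (.nd (.nd (.nd (.lf 0) (.lf 0)) (.nd (.lf 0) (.lf 0))) (.nd (.nd (.lf 0) (.lf 0)) (.nd (.lf 0) (.lf 0))))) (.nd (.nd (.nd (.nd (.lf 0) (.lf 0)) (.nd (.lf 0) (.lf 0))) (.nd (.nd (.lf 0) (.lf 0)) (.nd (.lf 0) (.lf 0)))) (.nd (.nd (.nd (.lf 0) (.lf 0)) (.nd (.lf 0) (.lf 0))) (.nd (.nd (.lf 0) (.lf 0)) (.nd (.lf 0) (.lf 0)))))) (.nd (.nd (.nd (.nd (.nd (.lf 0) (.lf 0)) (.nd (.lf 0) (.lf 0))) (.nd (.nd (.lf 0) (.lf 0)) (.nd (.lf 0) (.lf 0))))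 (.nd (.nd (.nd (.lf 0) (.lf 0)) (.nd (.lf 0) (.lf 0))) (.nd (.nd (.lf 0) (.lf 0)) (.nd (.lf 0) (.lf 0))))) (.nd (.nd (.nd (.nd (.lf 0) (.lf 0)) (.nd (.lf 0) (.lf 0))) (.nd (.nd (.lf 0) (.lf 0)) (.nd (.lf 0) (.lf 0)))) (.nd (.nd (.nd (.lf 0) (.lf 0)) (.nd (.lf 0) (.lf 0))) (.nd (.nd (.lf 0) (.lf 0)) (.nd (.lf 0) (.lf 0))))))) (.nd (.nd (.nd (.nd (.nd (.nd (.lf 0) (.lf 0)) (.nd (.lf 0) (.lf 0))) (.nd (.nd (.lf 0) (.lf 0)) (.nd (.lf 0) (.lf 0)))) (.nd (.nd (.nd (.lf 0) (.lf 0)) (.nd (.lf 0) (.lf 0))) (.nd (.nd (.lf 0) (.lf 0)) (.nd (.lf 0) (.lf 0))))) (.nd (.nd (.nd (.nd (.lf 0) (.lf 0)) (.nd (.lf 0) (.lf 0))) (.nd (.nd (.lf 0) (.lf 0)) (.nd (.lf 0) (.lf 0)))) (.nd (.nd (.nd (.lf 0) (.lf 0)) (.nd (.lf 0) (.lf 0))) (.nd (.nd (.lf 0) (.lf 0)) (.nd (.lf 0) (.lf 0)))))) (.nd (.nd (.nd (.nd (.nd (.lf 0) (.lf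 0)) (.nd (.lf 0) (.lf 0))) (.nd (.nd (.lf 0) (.lf 0)) (.nd (.lf 0) (.lf 0)))) (.nd (.nd (.nd (.lf 0) (.lf 0)) (.nd (.lf 0) (.lf 0))) (.nd (.nd (.lf 0) (.lf 0)) (.nd (.lf 0) (.lf 0))))) (.nd (.nd (.nd (.nd (.lf 0) (.lf 0)) (.nd (.lf 0) (.lf 0))) (.nd (.nd (.lf 0) (.lf 0)) (.nd (.lf 0) (.lf 0)))) (.nd (.nd (.nd (.lf 0) (.lf 0)) (.nd (.lf 0) (.lf 0))) (.nd (.nd (.lf 0) (.lf 0)) (.nd (.lf 0) (.lf 0)))))))) (.nd (.nd (.nd (.nd (.nd (.nd (.nd (.lf 0) (.lf 0)) (.nd (.lf 0) (.lf 0))) (.nd (.nd (.lf 0) (.lf 0)) (.nd (.lf 0) (.lf 0)))) (.nd (.nd (.nd (.lf 0) (.lf 0)) (.nd (.lf 0) (.lf 0))) (.nd (.nd (.lf 0) (.lf 0)) (.nd (.lf 0) (.lf 0))))) (.nd (.nd (.nd (.nd (.lf 0) (.lf 0)) (.nd (.lf 0) (.lf 0))) (.nd (.nd (.lf 0) (.lf 0)) (.nd (.lf 0) (.lf 0)))) (.nd (.nd (.nd (.lf 0) (.lf 0)) (.nd (.lf 0) (.lf 0))) (.nd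 (.nd (.lf 0) (.lf 0)) (.nd (.lf 0) (.lf 0)))))) (.nd (.nd (.nd (.nd (.nd (.lf 0) (.lf 0)) (.nd (.lf 0) (.lf 0))) (.nd (.nd (.lf 0) (.lf 0)) (.nd (.lf 0) (.lf 0)))) (.nd (.nd (.nd (.lf 0) (.lf 0)) (.nd (.lf 0) (.lf 0))) (.nd (.nd (.lf 0) (.lf 0)) (.nd (.lf 0) (.lf 0))))) (.nd (.nd (.nd (.nd (.lf 0) (.lf 0)) (.nd (.lf 0) (.lf 0))) (.nd (.nd (.lf 0) (.lf 0)) (.nd (.lf 0) (.lf 0)))) (.nd (.nd (.nd (.lf 0) (.lf 0)) (.nd (.lf 0) (.lf 0))) (.nd (.nd (.lf 0) (.lf 0)) (.nd (.lf 0) (.lf 0))))))) (.nd (.nd (.nd (.nd (.nd (.nd (.lf 0) (.lf 0)) (.nd (.lf 0) (.lf 0))) (.nd (.nd (.lf 0) (.lf 0)) (.nd (.lf 0) (.lf 0)))) (.nd (.nd (.nd (.lf 0) (.lf 0)) (.nd (.lf 0) (.lf 0))) (.nd (.nd (.lf 0) (.lf 0)) (.nd (.lf 0) (.lf 0))))) (.nd (.nd (.nd (.nd (.lf 0) (.lf 0)) (.nd (.lf 0) (.lf 0))) (.nd (.nd (.lf 0) (.lf 0)) (.nd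 (.lf 0) (.lf 0)))) (.nd (.nd (.nd (.lf 0) (.lf 0)) (.nd (.lf 0) (.lf 0))) (.nd (.nd (.lf 0) (.lf 0)) (.nd (.lf 0) (.lf 0)))))) (.nd (.nd (.nd (.nd (.nd (.lf 0) (.lf 0)) (.nd (.lf 0) (.lf 0))) (.nd (.nd (.lf 0) (.lf 0)) (.nd (.lf 0) (.lf 0)))) (.nd (.nd (.nd (.lf 0) (.lf 0)) (.nd (.lf 0) (.lf 0))) (.nd (.nd (.lf 0) (.lf 0)) (.nd (.lf 0) (.lf 0))))) (.nd (.nd (.nd (.nd (.lf 0) (.lf 0)) (.nd (.lf 0) (.lf 0))) (.nd (.nd (.lf 0) (.lf 0)) (.nd (.lf 0) (.lf 0)))) (.nd (.nd (.nd (.lf 0) (.lf 0)) (.nd (.lf 0) (.lf 0))) (.nd (.nd (.lf 0) (.lf 0)) (.nd (.lf 0) (.lf 0))))))))))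

/-- table part -/
def tabX_5 : Tr :=
  .nd (.nd (.nd (.nd (.nd (.nd (.nd (.nd (.nd (.nd (.lf 0) (.lf 0)) (.nd (.lf 0) (.lf 0))) (.nd (.nd (.lf 0) (.lf 0)) (.nd (.lf 0) (.lf 0)))) (.nd (.nd (.nd (.lf 0) (.lf 0)) (.nd (.lf 0) (.lf 0))) (.nd (.nd (.lf 0) (.lf 0)) (.nd (.lf 0) (.lf 0))))) (.nd (.nd (.nd (.nd (.lf 0) (.lf 0)) (.nd (.lf 0) (.lf 0))) (.nd (.nd (.lf 0) (.lf 0)) (.nd (.lf 0) (.lf 0)))) (.nd (.nd (.nd (.lf 0) (.lf 0)) (.nd (.lf 0) (.lf 0))) (.nd (.nd (.lf 0) (.lf 0)) (.nd (.lf 0) (.lf 0)))))) (.nd (.nd (.nd (.nd (.nd (.lf 0) (.lf 0)) (.nd (.lf 0) (.lf 0))) (.nd (.nd (.lf 0) (.lf 0)) (.nd (.lf 0) (.lf 0)))) (.nd (.nd (.nd (.lf 0) (.lf 0)) (.nd (.lf 0) (.lf 0))) (.nd (.nd (.lf 0) (.lf 0)) (.nd (.lf 0) (.lf 0))))) (.nd (.nd (.nd (.nd (.lf 0) (.lf 0)) (.nd (.lf 0) (.lf 0))) (.nd (.nd (.lf 0) (.lf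 0)) (.nd (.lf 0) (.lf 0)))) (.nd (.nd (.nd (.lf 0) (.lf 0)) (.nd (.lf 0) (.lf 0))) (.nd (.nd (.lf 0) (.lf 0)) (.nd (.lf 0) (.lf 0))))))) (.nd (.nd (.nd (.nd (.nd (.nd (.lf 0) (.lf 0)) (.nd (.lf 0) (.lf 0))) (.nd (.nd (.lf 0) (.lf 0)) (.nd (.lf 0) (.lf 0)))) (.nd (.nd (.nd (.lf 0) (.lf 0)) (.nd (.lf 0) (.lf 0))) (.nd (.nd (.lf 0) (.lf 0)) (.nd (.lf 0) (.lf 0))))) (.nd (.nd (.nd (.nd (.lf 0) (.lf 0)) (.nd (.lf 0) (.lf 0))) (.nd (.nd (.lf 0) (.lf 0)) (.nd (.lf 0) (.lf 0)))) (.nd (.nd (.nd (.lf 0) (.lf 0)) (.nd (.lf 0) (.lf 0))) (.nd (.nd (.lf 0) (.lf 0)) (.nd (.lf 0) (.lf 0)))))) (.nd (.nd (.nd (.nd (.nd (.lf 0) (.lf 0)) (.nd (.lf 0) (.lf 0))) (.nd (.nd (.lf 0) (.lf 0)) (.nd (.lf 0) (.lf 0)))) (.nd (.nd (.nd (.lf 0) (.lf 0)) (.nd (.lf 0) (.lf 0))) (.nd (.nd (.lf 0) (.lf 0)) (.nd (.lf 0) (.lf 0))))) (.nd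 (.nd (.nd (.nd (.lf 0) (.lf 0)) (.nd (.lf 0) (.lf 0))) (.nd (.nd (.lf 0) (.lf 0)) (.nd (.lf 0) (.lf 0)))) (.nd (.nd (.nd (.lf 0) (.lf 0)) (.nd (.lf 0) (.lf 0))) (.nd (.nd (.lf 0) (.lf 0)) (.nd (.lf 0) (.lf 0)))))))) (.nd (.nd (.nd (.nd (.nd (.nd (.nd (.lf 0) (.lf 0)) (.nd (.lf 0) (.lf 0))) (.nd (.nd (.lf 0) (.lf 0)) (.nd (.lf 0) (.lf 0)))) (.nd (.nd (.nd (.lf 0) (.lf 0)) (.nd (.lf 0) (.lf 0))) (.nd (.nd (.lf 0) (.lf 0)) (.nd (.lf 0) (.lf 0))))) (.nd (.nd (.nd (.nd (.lf 0) (.lf 0)) (.nd (.lf 0) (.lf 0))) (.nd (.nd (.lf 0) (.lf 0)) (.nd (.lf 0) (.lf 0)))) (.nd (.nd (.nd (.lf 0) (.lf 0)) (.nd (.lf 0) (.lf 0))) (.nd (.nd (.lf 0) (.lf 0)) (.nd (.lf 0) (.lf 0)))))) (.nd (.nd (.nd (.nd (.nd (.lf 0) (.lf 0)) (.nd (.lf 0) (.lf 0))) (.nd (.nd (.lf 0) (.lf 0)) (.nd (.lf 0) (.lf 0)))) (.nd (.nd (.nd (.lf 0) (.lf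 0)) (.nd (.lf 0) (.lf 0))) (.nd (.nd (.lf 0) (.lf 0)) (.nd (.lf 0) (.lf 0))))) (.nd (.nd (.nd (.nd (.lf 0) (.lf 0)) (.nd (.lf 0) (.lf 0))) (.nd (.nd (.lf 0) (.lf 0)) (.nd (.lf 0) (.lf 0)))) (.nd (.nd (.nd (.lf 0) (.lf 0)) (.nd (.lf 0) (.lf 0))) (.nd (.nd (.lf 0) (.lf 0)) (.nd (.lf 0) (.lf 0))))))) (.nd (.nd (.nd (.nd (.nd (.nd (.lf 0) (.lf 0)) (.nd (.lf 0) (.lf 0))) (.nd (.nd (.lf 0) (.lf 0)) (.nd (.lf 0) (.lf 0)))) (.nd (.nd (.nd (.lf 0) (.lf 0)) (.nd (.lf 0) (.lf 0))) (.nd (.nd (.lf 0) (.lf 0)) (.nd (.lf 0) (.lf 0))))) (.nd (.nd (.nd (.nd (.lf 0) (.lf 0)) (.nd (.lf 0) (.lf 0))) (.nd (.nd (.lf 0) (.lf 0)) (.nd (.lf 0) (.lf 0)))) (.nd (.nd (.nd (.lf 0) (.lf 0)) (.nd (.lf 0) (.lf 0))) (.nd (.nd (.lf 0) (.lf 0)) (.nd (.lf 0) (.lf 0)))))) (.nd (.nd (.nd (.nd (.nd (.lf 0) (.lf 0)) (.nd (.lf 0) (.lf 0)))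 (.nd (.nd (.lf 0) (.lf 0)) (.nd (.lf 0) (.lf 0)))) (.nd (.nd (.nd (.lf 0) (.lf 0)) (.nd (.lf 0) (.lf 0))) (.nd (.nd (.lf 0) (.lf 0)) (.nd (.lf 0) (.lf 0))))) (.nd (.nd (.nd (.nd (.lf 0) (.lf 0)) (.nd (.lf 0) (.lf 0))) (.nd (.nd (.lf 0) (.lf 0)) (.nd (.lf 0) (.lf 0)))) (.nd (.nd (.nd (.lf 0) (.lf 0)) (.nd (.lf 0) (.lf 0))) (.nd (.nd (.lf 0) (.lf 0)) (.nd (.lf 0) (.lf 0))))))))) (.nd (.nd (.nd (.nd (.nd (.nd (.nd (.nd (.lf 0) (.lf 0)) (.nd (.lf 0) (.lf 0))) (.nd (.nd (.lf 0) (.lf 0)) (.nd (.lf 0) (.lf 0)))) (.nd (.nd (.nd (.lf 0) (.lf 0)) (.nd (.lf 0) (.lf 0))) (.nd (.nd (.lf 0) (.lf 0)) (.nd (.lf 0) (.lf 0))))) (.nd (.nd (.nd (.nd (.lf 0) (.lf 0)) (.nd (.lf 0) (.lf 0))) (.nd (.nd (.lf 0) (.lf 0)) (.nd (.lf 0) (.lf 0)))) (.nd (.nd (.nd (.lf 0) (.lf 0)) (.nd (.lf 0) (.lf 0))) (.nd (.nd (.lf 0) (.lf 0))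 (.nd (.lf 0) (.lf 0)))))) (.nd (.nd (.nd (.nd (.nd (.lf 0) (.lf 0)) (.nd (.lf 0) (.lf 0))) (.nd (.nd (.lf 0) (.lf 0)) (.nd (.lf 0) (.lf 0)))) (.nd (.nd (.nd (.lf 0) (.lf 0)) (.nd (.lf 0) (.lf 0))) (.nd (.nd (.lf 0) (.lf 0)) (.nd (.lf 0) (.lf 0))))) (.nd (.nd (.nd (.nd (.lf 0) (.lf 0)) (.nd (.lf 0) (.lf 0))) (.nd (.nd (.lf 0) (.lf 0)) (.nd (.lf 0) (.lf 0)))) (.nd (.nd (.nd (.lf 0) (.lf 0)) (.nd (.lf 0) (.lf 0))) (.nd (.nd (.lf 0) (.lf 0)) (.nd (.lf 0) (.lf 0))))))) (.nd (.nd (.nd (.nd (.nd (.nd (.lf 0) (.lf 0)) (.nd (.lf 0) (.lf 0))) (.nd (.nd (.lf 0) (.lf 0)) (.nd (.lf 0) (.lf 0)))) (.nd (.nd (.nd (.lf 0) (.lf 0)) (.nd (.lf 0) (.lf 0))) (.nd (.nd (.lf 0) (.lf 0)) (.nd (.lf 0) (.lf 0))))) (.nd (.nd (.nd (.nd (.lf 0) (.lf 0)) (.nd (.lf 0) (.lf 0))) (.nd (.nd (.lf 0) (.lf 0)) (.nd (.lf 0) (.lf 0)))) (.nd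 (.nd (.nd (.lf 0) (.lf 0)) (.nd (.lf 0) (.lf 0))) (.nd (.nd (.lf 0) (.lf 0)) (.nd (.lf 0) (.lf 0)))))) (.nd (.nd (.nd (.nd (.nd (.lf 0) (.lf 0)) (.nd (.lf 0) (.lf 0))) (.nd (.nd (.lf 0) (.lf 0)) (.nd (.lf 0) (.lf 0)))) (.nd (.nd (.nd (.lf 0) (.lf 0)) (.nd (.lf 0) (.lf 0))) (.nd (.nd (.lf 0) (.lf 0)) (.nd (.lf 0) (.lf 0))))) (.nd (.nd (.nd (.nd (.lf 0) (.lf 0)) (.nd (.lf 0) (.lf 0))) (.nd (.nd (.lf 0) (.lf 0)) (.nd (.lf 0) (.lf 0)))) (.nd (.nd (.nd (.lf 0) (.lf 0)) (.nd (.lf 0) (.lf 0))) (.nd (.nd (.lf 0) (.lf 0)) (.nd (.lf 0) (.lf 0)))))))) (.nd (.nd (.nd (.nd (.nd (.nd (.nd (.lf 0) (.lf 0)) (.nd (.lf 0) (.lf 0))) (.nd (.nd (.lf 0) (.lf 0)) (.nd (.lf 0) (.lf 0)))) (.nd (.nd (.nd (.lf 0) (.lf 0)) (.nd (.lf 0) (.lf 0))) (.nd (.nd (.lf 0) (.lf 0)) (.nd (.lf 0) (.lf 0))))) (.nd (.nd (.nd (.nd (.lf 0) (.lf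 0)) (.nd (.lf 0) (.lf 0))) (.nd (.nd (.lf 0) (.lf 0)) (.nd (.lf 0) (.lf 0)))) (.nd (.nd (.nd (.lf 0) (.lf 0)) (.nd (.lf 0) (.lf 0))) (.nd (.nd (.lf 0) (.lf 0)) (.nd (.lf 0) (.lf 0)))))) (.nd (.nd (.nd (.nd (.nd (.lf 0) (.lf 0)) (.nd (.lf 0) (.lf 0))) (.nd (.nd (.lf 0) (.lf 0)) (.nd (.lf 0) (.lf 0)))) (.nd (.nd (.nd (.lf 0) (.lf 0)) (.nd (.lf 0) (.lf 0))) (.nd (.nd (.lf 0) (.lf 0)) (.nd (.lf 0) (.lf 0))))) (.nd (.nd (.nd (.nd (.lf 0) (.lf 0)) (.nd (.lf 0) (.lf 0))) (.nd (.nd (.lf 0) (.lf 0)) (.nd (.lf 0) (.lf 0)))) (.nd (.nd (.nd (.lf 0) (.lf 0)) (.nd (.lf 0) (.lf 0))) (.nd (.nd (.lf 0) (.lf 0)) (.nd (.lf 0) (.lf 0))))))) (.nd (.nd (.nd (.nd (.nd (.nd (.lf 0) (.lf 0)) (.nd (.lf 0) (.lf 0))) (.nd (.nd (.lf 0) (.lf 0)) (.nd (.lf 0) (.lf 0)))) (.nd (.nd (.nd (.lf 0) (.lf 0)) (.nd (.lf 0) (.lf 0))) (.nd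 (.nd (.lf 0) (.lf 0)) (.nd (.lf 0) (.lf 0))))) (.nd (.nd (.nd (.nd (.lf 0) (.lf 0)) (.nd (.lf 0) (.lf 0))) (.nd (.nd (.lf 0) (.lf 0)) (.nd (.lf 0) (.lf 0)))) (.nd (.nd (.nd (.lf 0) (.lf 0)) (.nd (.lf 0) (.lf 0))) (.nd (.nd (.lf 0) (.lf 0)) (.nd (.lf 0) (.lf 0)))))) (.nd (.nd (.nd (.nd (.nd (.lf 0) (.lf 0)) (.nd (.lf 0) (.lf 0))) (.nd (.nd (.lf 0) (.lf 0)) (.nd (.lf 0) (.lf 0)))) (.nd (.nd (.nd (.lf 0) (.lf 0)) (.nd (.lf 0) (.lf 0))) (.nd (.nd (.lf 0) (.lf 0)) (.nd (.lf 0) (.lf 0))))) (.nd (.nd (.nd (.nd (.lf 0) (.lf 0)) (.nd (.lf 0) (.lf 0))) (.nd (.nd (.lf 0) (.lf 0)) (.nd (.lf 0) (.lf 0)))) (.nd (.nd (.nd (.lf 0) (.lf 0)) (.nd (.lf 0) (.lf 0))) (.nd (.nd (.lf 0) (.lf 0)) (.nd (.lf 0) (.lf 0)))))))))) (.nd (.nd (.nd (.nd (.nd (.nd (.nd (.nd (.nd (.lf 0) (.lf 0)) (.nd (.lf 0) (.lf 0))) (.nd (.nd (.lf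 0) (.lf 0)) (.nd (.lf 0) (.lf 0)))) (.nd (.nd (.nd (.lf 0) (.lf 0)) (.nd (.lf 0) (.lf 0))) (.nd (.nd (.lf 0) (.lf 0)) (.nd (.lf 0) (.lf 0))))) (.nd (.nd (.nd (.nd (.lf 0) (.lf 0)) (.nd (.lf 0) (.lf 0))) (.nd (.nd (.lf 0) (.lf 0)) (.nd (.lf 0) (.lf 0)))) (.nd (.nd (.nd (.lf 0) (.lf 0)) (.nd (.lf 0) (.lf 0))) (.nd (.nd (.lf 0) (.lf 0)) (.nd (.lf 0) (.lf 0)))))) (.nd (.nd (.nd (.nd (.nd (.lf 0) (.lf 0)) (.nd (.lf 0) (.lf 0))) (.nd (.nd (.lf 0) (.lf 0)) (.nd (.lf 0) (.lf 0)))) (.nd (.nd (.nd (.lf 0) (.lf 0)) (.nd (.lf 0) (.lf 0))) (.nd (.nd (.lf 0) (.lf 0)) (.nd (.lf 0) (.lf 0))))) (.nd (.nd (.nd (.nd (.lf 0) (.lf 0)) (.nd (.lf 0) (.lf 0))) (.nd (.nd (.lf 0) (.lf 0)) (.nd (.lf 0) (.lf 0)))) (.nd (.nd (.nd (.lf 0) (.lf 0)) (.nd (.lf 0) (.lf 0))) (.nd (.nd (.lf 0) (.lf 0)) (.nd (.lf 0) (.lf 0))))))) (.nd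 (.nd (.nd (.nd (.nd (.nd (.lf 0) (.lf 0)) (.nd (.lf 0) (.lf 0))) (.nd (.nd (.lf 0) (.lf 0)) (.nd (.lf 0) (.lf 0)))) (.nd (.nd (.nd (.lf 0) (.lf 0)) (.nd (.lf 0) (.lf 0))) (.nd (.nd (.lf 0) (.lf 0)) (.nd (.lf 0) (.lf 0))))) (.nd (.nd (.nd (.nd (.lf 0) (.lf 0)) (.nd (.lf 0) (.lf 0))) (.nd (.nd (.lf 0) (.lf 0)) (.nd (.lf 0) (.lf 0)))) (.nd (.nd (.nd (.lf 0) (.lf 0)) (.nd (.lf 0) (.lf 0))) (.nd (.nd (.lf 0) (.lf 0)) (.nd (.lf 0) (.lf 0)))))) (.nd (.nd (.nd (.nd (.nd (.lf 0) (.lf 0)) (.nd (.lf 0) (.lf 0))) (.nd (.nd (.lf 0) (.lf 0)) (.nd (.lf 0) (.lf 0)))) (.nd (.nd (.nd (.lf 0) (.lf 0)) (.nd (.lf 0) (.lf 0))) (.nd (.nd (.lf 0) (.lf 0)) (.nd (.lf 0) (.lf 0))))) (.nd (.nd (.nd (.nd (.lf 0) (.lf 0)) (.nd (.lf 0) (.lf 0))) (.nd (.nd (.lf 0) (.lf 0)) (.nd (.lf 0) (.lf 0)))) (.nd (.nd (.nd (.lf 0) (.lf 0)) (.nd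 (.lf 0) (.lf 0))) (.nd (.nd (.lf 0) (.lf 0)) (.nd (.lf 0) (.lf 0)))))))) (.nd (.nd (.nd (.nd (.nd (.nd (.nd (.lf 0) (.lf 0)) (.nd (.lf 0) (.lf 0))) (.nd (.nd (.lf 0) (.lf 0)) (.nd (.lf 0) (.lf 0)))) (.nd (.nd (.nd (.lf 0) (.lf 0)) (.nd (.lf 0) (.lf 0))) (.nd (.nd (.lf 0) (.lf 0)) (.nd (.lf 0) (.lf 0))))) (.nd (.nd (.nd (.nd (.lf 0) (.lf 0)) (.nd (.lf 0) (.lf 0))) (.nd (.nd (.lf 0) (.lf 0)) (.nd (.lf 0) (.lf 0)))) (.nd (.nd (.nd (.lf 0) (.lf 0)) (.nd (.lf 0) (.lf 0))) (.nd (.nd (.lf 0) (.lf 0)) (.nd (.lf 0) (.lf 0)))))) (.nd (.nd (.nd (.nd (.nd (.lf 0) (.lf 0)) (.nd (.lf 0) (.lf 0))) (.nd (.nd (.lf 0) (.lf 0)) (.nd (.lf 0) (.lf 0)))) (.nd (.nd (.nd (.lf 0) (.lf 0)) (.nd (.lf 0) (.lf 0))) (.nd (.nd (.lf 0) (.lf 0)) (.nd (.lf 0) (.lf 0))))) (.nd (.nd (.nd (.nd (.lf 0) (.lf 0)) (.nd (.lf 0) (.lf 0))) (.nd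 (.nd (.lf 0) (.lf 0)) (.nd (.lf 0) (.lf 0)))) (.nd (.nd (.nd (.lf 0) (.lf 0)) (.nd (.lf 0) (.lf 0))) (.nd (.nd (.lf 0) (.lf 0)) (.nd (.lf 0) (.lf 0))))))) (.nd (.nd (.nd (.nd (.nd (.nd (.lf 0) (.lf 0)) (.nd (.lf 0) (.lf 0))) (.nd (.nd (.lf 0) (.lf 0)) (.nd (.lf 0) (.lf 0)))) (.nd (.nd (.nd (.lf 0) (.lf 0)) (.nd (.lf 0) (.lf 0))) (.nd (.nd (.lf 0) (.lf 0)) (.nd (.lf 0) (.lf 0))))) (.nd (.nd (.nd (.nd (.lf 0) (.lf 0)) (.nd (.lf 0) (.lf 0))) (.nd (.nd (.lf 0) (.lf 0)) (.nd (.lf 0) (.lf 0)))) (.nd (.nd (.nd (.lf 0) (.lf 0)) (.nd (.lf 0) (.lf 0))) (.nd (.nd (.lf 0) (.lf 0)) (.nd (.lf 0) (.lf 0)))))) (.nd (.nd (.nd (.nd (.nd (.lf 0) (.lf 0)) (.nd (.lf 0) (.lf 0))) (.nd (.nd (.lf 0) (.lf 0)) (.nd (.lf 0) (.lf 0)))) (.nd (.nd (.nd (.lf 0) (.lf 0)) (.nd (.lf 0) (.lf 0))) (.nd (.nd (.lf 0) (.lf 0)) (.nd (.lf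 0) (.lf 0))))) (.nd (.nd (.nd (.nd (.lf 0) (.lf 0)) (.nd (.lf 0) (.lf 0))) (.nd (.nd (.lf 0) (.lf 0)) (.nd (.lf 0) (.lf 0)))) (.nd (.nd (.nd (.lf 0) (.lf 0)) (.nd (.lf 0) (.lf 0))) (.nd (.nd (.lf 0) (.lf 0)) (.nd (.lf 0) (.lf 0))))))))) (.nd (.nd (.nd (.nd (.nd (.nd (.nd (.nd (.lf 0) (.lf 0)) (.nd (.lf 0) (.lf 0))) (.nd (.nd (.lf 0) (.lf 0)) (.nd (.lf 0) (.lf 0)))) (.nd (.nd (.nd (.lf 0) (.lf 0)) (.nd (.lf 0) (.lf 0))) (.nd (.nd (.lf 0) (.lf 0)) (.nd (.lf 0) (.lf 0))))) (.nd (.nd (.nd (.nd (.lf 0) (.lf 0)) (.nd (.lf 0) (.lf 0))) (.nd (.nd (.lf 0) (.lf 0)) (.nd (.lf 0) (.lf 0)))) (.nd (.nd (.nd (.lf 0) (.lf 0)) (.nd (.lf 0) (.lf 0))) (.nd (.nd (.lf 0) (.lf 0)) (.nd (.lf 0) (.lf 0)))))) (.nd (.nd (.nd (.nd (.nd (.lf 0) (.lf 0)) (.nd (.lf 0) (.lf 0))) (.nd (.nd (.lf 0) (.lf 0)) (.nd (.lf 0) (.lf 0))))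 (.nd (.nd (.nd (.lf 0) (.lf 0)) (.nd (.lf 0) (.lf 0))) (.nd (.nd (.lf 0) (.lf 0)) (.nd (.lf 0) (.lf 0))))) (.nd (.nd (.nd (.nd (.lf 0) (.lf 0)) (.nd (.lf 0) (.lf 0))) (.nd (.nd (.lf 0) (.lf 0)) (.nd (.lf 0) (.lf 0)))) (.nd (.nd (.nd (.lf 0) (.lf 0)) (.nd (.lf 0) (.lf 0))) (.nd (.nd (.lf 0) (.lf 0)) (.nd (.lf 0) (.lf 0))))))) (.nd (.nd (.nd (.nd (.nd (.nd (.lf 0) (.lf 0)) (.nd (.lf 0) (.lf 0))) (.nd (.nd (.lf 0) (.lf 0)) (.nd (.lf 0) (.lf 0)))) (.nd (.nd (.nd (.lf 0) (.lf 0)) (.nd (.lf 0) (.lf 0))) (.nd (.nd (.lf 0) (.lf 0)) (.nd (.lf 0) (.lf 0))))) (.nd (.nd (.nd (.nd (.lf 0) (.lf 0)) (.nd (.lf 0) (.lf 0))) (.nd (.nd (.lf 0) (.lf 0)) (.nd (.lf 0) (.lf 0)))) (.nd (.nd (.nd (.lf 0) (.lf 0)) (.nd (.lf 0) (.lf 0))) (.nd (.nd (.lf 0) (.lf 0)) (.nd (.lf 0) (.lf 0)))))) (.nd (.nd (.nd (.nd (.nd (.lf 0) (.lf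 0)) (.nd (.lf 0) (.lf 0))) (.nd (.nd (.lf 0) (.lf 0)) (.nd (.lf 0) (.lf 0)))) (.nd (.nd (.nd (.lf 0) (.lf 0)) (.nd (.lf 0) (.lf 0))) (.nd (.nd (.lf 0) (.lf 0)) (.nd (.lf 0) (.lf 0))))) (.nd (.nd (.nd (.nd (.lf 0) (.lf 0)) (.nd (.lf 0) (.lf 0))) (.nd (.nd (.lf 0) (.lf 0)) (.nd (.lf 0) (.lf 0)))) (.nd (.nd (.nd (.lf 0) (.lf 0)) (.nd (.lf 0) (.lf 0))) (.nd (.nd (.lf 0) (.lf 0)) (.nd (.lf 0) (.lf 0)))))))) (.nd (.nd (.nd (.nd (.nd (.nd (.nd (.lf 0) (.lf 0)) (.nd (.lf 0) (.lf 0))) (.nd (.nd (.lf 0) (.lf 0)) (.nd (.lf 0) (.lf 0)))) (.nd (.nd (.nd (.lf 0) (.lf 0)) (.nd (.lf 0) (.lf 0))) (.nd (.nd (.lf 0) (.lf 0)) (.nd (.lf 0) (.lf 0))))) (.nd (.nd (.nd (.nd (.lf 0) (.lf 0)) (.nd (.lf 0) (.lf 0))) (.nd (.nd (.lf 0) (.lf 0)) (.nd (.lf 0) (.lf 0)))) (.nd (.nd (.nd (.lf 0) (.lf 0)) (.nd (.lf 0) (.lf 0))) (.nd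 (.nd (.lf 0) (.lf 0)) (.nd (.lf 0) (.lf 0)))))) (.nd (.nd (.nd (.nd (.nd (.lf 0) (.lf 0)) (.nd (.lf 0) (.lf 0))) (.nd (.nd (.lf 0) (.lf 0)) (.nd (.lf 0) (.lf 0)))) (.nd (.nd (.nd (.lf 0) (.lf 0)) (.nd (.lf 0) (.lf 0))) (.nd (.nd (.lf 0) (.lf 0)) (.nd (.lf 0) (.lf 0))))) (.nd (.nd (.nd (.nd (.lf 0) (.lf 0)) (.nd (.lf 0) (.lf 0))) (.nd (.nd (.lf 0) (.lf 0)) (.nd (.lf 0) (.lf 0)))) (.nd (.nd (.nd (.lf 0) (.lf 0)) (.nd (.lf 0) (.lf 0))) (.nd (.nd (.lf 0) (.lf 0)) (.nd (.lf 0) (.lf 0))))))) (.nd (.nd (.nd (.nd (.nd (.nd (.lf 0) (.lf 0)) (.nd (.lf 0) (.lf 0))) (.nd (.nd (.lf 0) (.lf 0)) (.nd (.lf 0) (.lf 0)))) (.nd (.nd (.nd (.lf 0) (.lf 0)) (.nd (.lf 0) (.lf 0))) (.nd (.nd (.lf 0) (.lf 0)) (.nd (.lf 0) (.lf 0))))) (.nd (.nd (.nd (.nd (.lf 0) (.lf 0)) (.nd (.lf 0) (.lf 0))) (.nd (.nd (.lf 0) (.lf 0)) (.nd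 (.lf 0) (.lf 0)))) (.nd (.nd (.nd (.lf 0) (.lf 0)) (.nd (.lf 0) (.lf 0))) (.nd (.nd (.lf 0) (.lf 0)) (.nd (.lf 0) (.lf 0)))))) (.nd (.nd (.nd (.nd (.nd (.lf 0) (.lf 0)) (.nd (.lf 0) (.lf 0))) (.nd (.nd (.lf 0) (.lf 0)) (.nd (.lf 0) (.lf 0)))) (.nd (.nd (.nd (.lf 0) (.lf 0)) (.nd (.lf 0) (.lf 0))) (.nd (.nd (.lf 0) (.lf 0)) (.nd (.lf 0) (.lf 0))))) (.nd (.nd (.nd (.nd (.lf 0) (.lf 0)) (.nd (.lf 0) (.lf 0))) (.nd (.nd (.lf 0) (.lf 0)) (.nd (.lf 0) (.lf 0)))) (.nd (.nd (.nd (.lf 0) (.lf 0)) (.nd (.lf 0) (.lf 0))) (.nd (.nd (.lf 0) (.lf 0)) (.nd (.lf 0) (.lf 0))))))))))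

/-- table part -/
def tabX_6 : Tr :=
  .nd (.nd (.nd (.nd (.nd (.nd (.nd (.nd (.nd (.nd (.lf 0) (.lf 0)) (.nd (.lf 0) (.lf 0))) (.nd (.nd (.lf 0) (.lf 0)) (.nd (.lf 0) (.lf 0)))) (.nd (.nd (.nd (.lf 0) (.lf 0)) (.nd (.lf 0) (.lf 0))) (.nd (.nd (.lf 0) (.lf 0)) (.nd (.lf 0) (.lf 0))))) (.nd (.nd (.nd (.nd (.lf 0) (.lf 0)) (.nd (.lf 0) (.lf 0))) (.nd (.nd (.lf 0) (.lf 0)) (.nd (.lf 0) (.lf 0)))) (.nd (.nd (.nd (.lf 0) (.lf 0)) (.nd (.lf 0) (.lf 0))) (.nd (.nd (.lf 0) (.lf 0)) (.nd (.lf 0) (.lf 0)))))) (.nd (.nd (.nd (.nd (.nd (.lf 0) (.lf 0)) (.nd (.lf 0) (.lf 0))) (.nd (.nd (.lf 0) (.lf 0)) (.nd (.lf 0) (.lf 0)))) (.nd (.nd (.nd (.lf 0) (.lf 0)) (.nd (.lf 0) (.lf 0))) (.nd (.nd (.lf 0) (.lf 0)) (.nd (.lf 0) (.lf 0))))) (.nd (.nd (.nd (.nd (.lf 0) (.lf 0)) (.nd (.lf 0) (.lf 0))) (.nd (.nd (.lf 0) (.lf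 0)) (.nd (.lf 0) (.lf 0)))) (.nd (.nd (.nd (.lf 0) (.lf 0)) (.nd (.lf 0) (.lf 0))) (.nd (.nd (.lf 0) (.lf 0)) (.nd (.lf 0) (.lf 0))))))) (.nd (.nd (.nd (.nd (.nd (.nd (.lf 0) (.lf 0)) (.nd (.lf 0) (.lf 0))) (.nd (.nd (.lf 0) (.lf 0)) (.nd (.lf 0) (.lf 0)))) (.nd (.nd (.nd (.lf 0) (.lf 0)) (.nd (.lf 0) (.lf 0))) (.nd (.nd (.lf 0) (.lf 0)) (.nd (.lf 0) (.lf 0))))) (.nd (.nd (.nd (.nd (.lf 0) (.lf 0)) (.nd (.lf 0) (.lf 0))) (.nd (.nd (.lf 0) (.lf 0)) (.nd (.lf 0) (.lf 0)))) (.nd (.nd (.nd (.lf 0) (.lf 0)) (.nd (.lf 0) (.lf 0))) (.nd (.nd (.lf 0) (.lf 0)) (.nd (.lf 0) (.lf 0)))))) (.nd (.nd (.nd (.nd (.nd (.lf 0) (.lf 0)) (.nd (.lf 0) (.lf 0))) (.nd (.nd (.lf 0) (.lf 0)) (.nd (.lf 0) (.lf 0)))) (.nd (.nd (.nd (.lf 0) (.lf 0)) (.nd (.lf 0) (.lf 0))) (.nd (.nd (.lf 0) (.lf 0)) (.nd (.lf 0) (.lf 0))))) (.nd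 (.nd (.nd (.nd (.lf 0) (.lf 0)) (.nd (.lf 0) (.lf 0))) (.nd (.nd (.lf 0) (.lf 0)) (.nd (.lf 0) (.lf 0)))) (.nd (.nd (.nd (.lf 0) (.lf 0)) (.nd (.lf 0) (.lf 0))) (.nd (.nd (.lf 0) (.lf 0)) (.nd (.lf 0) (.lf 0)))))))) (.nd (.nd (.nd (.nd (.nd (.nd (.nd (.lf 0) (.lf 0)) (.nd (.lf 0) (.lf 0))) (.nd (.nd (.lf 0) (.lf 0)) (.nd (.lf 0) (.lf 0)))) (.nd (.nd (.nd (.lf 0) (.lf 0)) (.nd (.lf 0) (.lf 0))) (.nd (.nd (.lf 0) (.lf 0)) (.nd (.lf 0) (.lf 0))))) (.nd (.nd (.nd (.nd (.lf 0) (.lf 0)) (.nd (.lf 0) (.lf 0))) (.nd (.nd (.lf 0) (.lf 0)) (.nd (.lf 0) (.lf 0)))) (.nd (.nd (.nd (.lf 0) (.lf 0)) (.nd (.lf 0) (.lf 0))) (.nd (.nd (.lf 0) (.lf 0)) (.nd (.lf 0) (.lf 0)))))) (.nd (.nd (.nd (.nd (.nd (.lf 0) (.lf 0)) (.nd (.lf 0) (.lf 0))) (.nd (.nd (.lf 0) (.lf 0)) (.nd (.lf 0) (.lf 0)))) (.nd (.nd (.nd (.lf 0) (.lf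 0)) (.nd (.lf 0) (.lf 0))) (.nd (.nd (.lf 0) (.lf 0)) (.nd (.lf 0) (.lf 0))))) (.nd (.nd (.nd (.nd (.lf 0) (.lf 0)) (.nd (.lf 0) (.lf 0))) (.nd (.nd (.lf 0) (.lf 0)) (.nd (.lf 0) (.lf 0)))) (.nd (.nd (.nd (.lf 0) (.lf 0)) (.nd (.lf 0) (.lf 0))) (.nd (.nd (.lf 0) (.lf 0)) (.nd (.lf 0) (.lf 0))))))) (.nd (.nd (.nd (.nd (.nd (.nd (.lf 0) (.lf 0)) (.nd (.lf 0) (.lf 0))) (.nd (.nd (.lf 0) (.lf 0)) (.nd (.lf 0) (.lf 0)))) (.nd (.nd (.nd (.lf 0) (.lf 0)) (.nd (.lf 0) (.lf 0))) (.nd (.nd (.lf 0) (.lf 0)) (.nd (.lf 0) (.lf 0))))) (.nd (.nd (.nd (.nd (.lf 0) (.lf 0)) (.nd (.lf 0) (.lf 0))) (.nd (.nd (.lf 0) (.lf 0)) (.nd (.lf 0) (.lf 0)))) (.nd (.nd (.nd (.lf 0) (.lf 0)) (.nd (.lf 0) (.lf 0))) (.nd (.nd (.lf 0) (.lf 0)) (.nd (.lf 0) (.lf 0)))))) (.nd (.nd (.nd (.nd (.nd (.lf 0) (.lf 0)) (.nd (.lf 0) (.lf 0)))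 (.nd (.nd (.lf 0) (.lf 0)) (.nd (.lf 0) (.lf 0)))) (.nd (.nd (.nd (.lf 0) (.lf 0)) (.nd (.lf 0) (.lf 0))) (.nd (.nd (.lf 0) (.lf 0)) (.nd (.lf 0) (.lf 0))))) (.nd (.nd (.nd (.nd (.lf 0) (.lf 0)) (.nd (.lf 0) (.lf 0))) (.nd (.nd (.lf 0) (.lf 0)) (.nd (.lf 0) (.lf 0)))) (.nd (.nd (.nd (.lf 0) (.lf 0)) (.nd (.lf 0) (.lf 0))) (.nd (.nd (.lf 0) (.lf 0)) (.nd (.lf 0) (.lf 0))))))))) (.nd (.nd (.nd (.nd (.nd (.nd (.nd (.nd (.lf 0) (.lf 0)) (.nd (.lf 0) (.lf 0))) (.nd (.nd (.lf 0) (.lf 0)) (.nd (.lf 0) (.lf 0)))) (.nd (.nd (.nd (.lf 0) (.lf 0)) (.nd (.lf 0) (.lf 0))) (.nd (.nd (.lf 0) (.lf 0)) (.nd (.lf 0) (.lf 0))))) (.nd (.nd (.nd (.nd (.lf 0) (.lf 0)) (.nd (.lf 0) (.lf 0))) (.nd (.nd (.lf 0) (.lf 0)) (.nd (.lf 0) (.lf 0)))) (.nd (.nd (.nd (.lf 0) (.lf 0)) (.nd (.lf 0) (.lf 0))) (.nd (.nd (.lf 0) (.lf 0))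 (.nd (.lf 0) (.lf 0)))))) (.nd (.nd (.nd (.nd (.nd (.lf 0) (.lf 0)) (.nd (.lf 0) (.lf 0))) (.nd (.nd (.lf 0) (.lf 0)) (.nd (.lf 0) (.lf 0)))) (.nd (.nd (.nd (.lf 0) (.lf 0)) (.nd (.lf 0) (.lf 0))) (.nd (.nd (.lf 0) (.lf 0)) (.nd (.lf 0) (.lf 0))))) (.nd (.nd (.nd (.nd (.lf 0) (.lf 0)) (.nd (.lf 0) (.lf 0))) (.nd (.nd (.lf 0) (.lf 0)) (.nd (.lf 0) (.lf 0)))) (.nd (.nd (.nd (.lf 0) (.lf 0)) (.nd (.lf 0) (.lf 0))) (.nd (.nd (.lf 0) (.lf 0)) (.nd (.lf 0) (.lf 0))))))) (.nd (.nd (.nd (.nd (.nd (.nd (.lf 0) (.lf 0)) (.nd (.lf 0) (.lf 0))) (.nd (.nd (.lf 0) (.lf 0)) (.nd (.lf 0) (.lf 0)))) (.nd (.nd (.nd (.lf 0) (.lf 0)) (.nd (.lf 0) (.lf 0))) (.nd (.nd (.lf 0) (.lf 0)) (.nd (.lf 0) (.lf 0))))) (.nd (.nd (.nd (.nd (.lf 0) (.lf 0)) (.nd (.lf 0) (.lf 0))) (.nd (.nd (.lf 0) (.lf 0)) (.nd (.lf 0) (.lf 0)))) (.nd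 (.nd (.nd (.lf 0) (.lf 0)) (.nd (.lf 0) (.lf 0))) (.nd (.nd (.lf 0) (.lf 0)) (.nd (.lf 0) (.lf 0)))))) (.nd (.nd (.nd (.nd (.nd (.lf 0) (.lf 0)) (.nd (.lf 0) (.lf 0))) (.nd (.nd (.lf 0) (.lf 0)) (.nd (.lf 0) (.lf 0)))) (.nd (.nd (.nd (.lf 0) (.lf 0)) (.nd (.lf 0) (.lf 0))) (.nd (.nd (.lf 0) (.lf 0)) (.nd (.lf 0) (.lf 0))))) (.nd (.nd (.nd (.nd (.lf 0) (.lf 0)) (.nd (.lf 0) (.lf 0))) (.nd (.nd (.lf 0) (.lf 0)) (.nd (.lf 0) (.lf 0)))) (.nd (.nd (.nd (.lf 0) (.lf 0)) (.nd (.lf 0) (.lf 0))) (.nd (.nd (.lf 0) (.lf 0)) (.nd (.lf 0) (.lf 0)))))))) (.nd (.nd (.nd (.nd (.nd (.nd (.nd (.lf 0) (.lf 0)) (.nd (.lf 0) (.lf 0))) (.nd (.nd (.lf 0) (.lf 0)) (.nd (.lf 0) (.lf 0)))) (.nd (.nd (.nd (.lf 0) (.lf 0)) (.nd (.lf 0) (.lf 0))) (.nd (.nd (.lf 0) (.lf 0)) (.nd (.lf 0) (.lf 0))))) (.nd (.nd (.nd (.nd (.lf 0) (.lf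 0)) (.nd (.lf 0) (.lf 0))) (.nd (.nd (.lf 0) (.lf 0)) (.nd (.lf 0) (.lf 0)))) (.nd (.nd (.nd (.lf 0) (.lf 0)) (.nd (.lf 0) (.lf 0))) (.nd (.nd (.lf 0) (.lf 0)) (.nd (.lf 0) (.lf 0)))))) (.nd (.nd (.nd (.nd (.nd (.lf 0) (.lf 0)) (.nd (.lf 0) (.lf 0))) (.nd (.nd (.lf 0) (.lf 0)) (.nd (.lf 0) (.lf 0)))) (.nd (.nd (.nd (.lf 0) (.lf 0)) (.nd (.lf 0) (.lf 0))) (.nd (.nd (.lf 0) (.lf 0)) (.nd (.lf 0) (.lf 0))))) (.nd (.nd (.nd (.nd (.lf 0) (.lf 0)) (.nd (.lf 0) (.lf 0))) (.nd (.nd (.lf 0) (.lf 0)) (.nd (.lf 0) (.lf 0)))) (.nd (.nd (.nd (.lf 0) (.lf 0)) (.nd (.lf 0) (.lf 0))) (.nd (.nd (.lf 0) (.lf 0)) (.nd (.lf 0) (.lf 0))))))) (.nd (.nd (.nd (.nd (.nd (.nd (.lf 0) (.lf 0)) (.nd (.lf 0) (.lf 0))) (.nd (.nd (.lf 0) (.lf 0)) (.nd (.lf 0) (.lf 0)))) (.nd (.nd (.nd (.lf 0) (.lf 0)) (.nd (.lf 0) (.lf 0))) (.nd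 (.nd (.lf 0) (.lf 0)) (.nd (.lf 0) (.lf 0))))) (.nd (.nd (.nd (.nd (.lf 0) (.lf 0)) (.nd (.lf 0) (.lf 0))) (.nd (.nd (.lf 0) (.lf 0)) (.nd (.lf 0) (.lf 0)))) (.nd (.nd (.nd (.lf 0) (.lf 0)) (.nd (.lf 0) (.lf 0))) (.nd (.nd (.lf 0) (.lf 0)) (.nd (.lf 0) (.lf 0)))))) (.nd (.nd (.nd (.nd (.nd (.lf 0) (.lf 0)) (.nd (.lf 0) (.lf 0))) (.nd (.nd (.lf 0) (.lf 0)) (.nd (.lf 0) (.lf 0)))) (.nd (.nd (.nd (.lf 0) (.lf 0)) (.nd (.lf 0) (.lf 0))) (.nd (.nd (.lf 0) (.lf 0)) (.nd (.lf 0) (.lf 0))))) (.nd (.nd (.nd (.nd (.lf 0) (.lf 0)) (.nd (.lf 0) (.lf 0))) (.nd (.nd (.lf 0) (.lf 0)) (.nd (.lf 0) (.lf 0)))) (.nd (.nd (.nd (.lf 0) (.lf 0)) (.nd (.lf 0) (.lf 0))) (.nd (.nd (.lf 0) (.lf 0)) (.nd (.lf 0) (.lf 0)))))))))) (.nd (.nd (.nd (.nd (.nd (.nd (.nd (.nd (.nd (.lf 0) (.lf 0)) (.nd (.lf 0) (.lf 0))) (.nd (.nd (.lf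 0) (.lf 0)) (.nd (.lf 0) (.lf 0)))) (.nd (.nd (.nd (.lf 0) (.lf 0)) (.nd (.lf 0) (.lf 0))) (.nd (.nd (.lf 0) (.lf 0)) (.nd (.lf 0) (.lf 0))))) (.nd (.nd (.nd (.nd (.lf 0) (.lf 0)) (.nd (.lf 0) (.lf 0))) (.nd (.nd (.lf 0) (.lf 0)) (.nd (.lf 0) (.lf 0)))) (.nd (.nd (.nd (.lf 0) (.lf 0)) (.nd (.lf 0) (.lf 0))) (.nd (.nd (.lf 0) (.lf 0)) (.nd (.lf 0) (.lf 0)))))) (.nd (.nd (.nd (.nd (.nd (.lf 0) (.lf 0)) (.nd (.lf 0) (.lf 0))) (.nd (.nd (.lf 0) (.lf 0)) (.nd (.lf 0) (.lf 0)))) (.nd (.nd (.nd (.lf 0) (.lf 0)) (.nd (.lf 0) (.lf 0))) (.nd (.nd (.lf 0) (.lf 0)) (.nd (.lf 0) (.lf 0))))) (.nd (.nd (.nd (.nd (.lf 0) (.lf 0)) (.nd (.lf 0) (.lf 0))) (.nd (.nd (.lf 0) (.lf 0)) (.nd (.lf 0) (.lf 0)))) (.nd (.nd (.nd (.lf 0) (.lf 0)) (.nd (.lf 0) (.lf 0))) (.nd (.nd (.lf 0) (.lf 0)) (.nd (.lf 0) (.lf 0))))))) (.nd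 (.nd (.nd (.nd (.nd (.nd (.lf 0) (.lf 0)) (.nd (.lf 0) (.lf 0))) (.nd (.nd (.lf 0) (.lf 0)) (.nd (.lf 0) (.lf 0)))) (.nd (.nd (.nd (.lf 0) (.lf 0)) (.nd (.lf 0) (.lf 0))) (.nd (.nd (.lf 0) (.lf 0)) (.nd (.lf 0) (.lf 0))))) (.nd (.nd (.nd (.nd (.lf 0) (.lf 0)) (.nd (.lf 0) (.lf 0))) (.nd (.nd (.lf 0) (.lf 0)) (.nd (.lf 0) (.lf 0)))) (.nd (.nd (.nd (.lf 0) (.lf 0)) (.nd (.lf 0) (.lf 0))) (.nd (.nd (.lf 0) (.lf 0)) (.nd (.lf 0) (.lf 0)))))) (.nd (.nd (.nd (.nd (.nd (.lf 0) (.lf 0)) (.nd (.lf 0) (.lf 0))) (.nd (.nd (.lf 0) (.lf 0)) (.nd (.lf 0) (.lf 0)))) (.nd (.nd (.nd (.lf 0) (.lf 0)) (.nd (.lf 0) (.lf 0))) (.nd (.nd (.lf 0) (.lf 0)) (.nd (.lf 0) (.lf 0))))) (.nd (.nd (.nd (.nd (.lf 0) (.lf 0)) (.nd (.lf 0) (.lf 0))) (.nd (.nd (.lf 0) (.lf 0)) (.nd (.lf 0) (.lf 0)))) (.nd (.nd (.nd (.lf 0) (.lf 0)) (.nd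 (.lf 0) (.lf 0))) (.nd (.nd (.lf 0) (.lf 0)) (.nd (.lf 0) (.lf 0)))))))) (.nd (.nd (.nd (.nd (.nd (.nd (.nd (.lf 0) (.lf 0)) (.nd (.lf 0) (.lf 0))) (.nd (.nd (.lf 0) (.lf 0)) (.nd (.lf 0) (.lf 0)))) (.nd (.nd (.nd (.lf 0) (.lf 0)) (.nd (.lf 0) (.lf 0))) (.nd (.nd (.lf 0) (.lf 0)) (.nd (.lf 0) (.lf 0))))) (.nd (.nd (.nd (.nd (.lf 0) (.lf 0)) (.nd (.lf 0) (.lf 0))) (.nd (.nd (.lf 0) (.lf 0)) (.nd (.lf 0) (.lf 0)))) (.nd (.nd (.nd (.lf 0) (.lf 0)) (.nd (.lf 0) (.lf 0))) (.nd (.nd (.lf 0) (.lf 0)) (.nd (.lf 0) (.lf 0)))))) (.nd (.nd (.nd (.nd (.nd (.lf 0) (.lf 0)) (.nd (.lf 0) (.lf 0))) (.nd (.nd (.lf 0) (.lf 0)) (.nd (.lf 0) (.lf 0)))) (.nd (.nd (.nd (.lf 0) (.lf 0)) (.nd (.lf 0) (.lf 0))) (.nd (.nd (.lf 0) (.lf 0)) (.nd (.lf 0) (.lf 0))))) (.nd (.nd (.nd (.nd (.lf 0) (.lf 0)) (.nd (.lf 0) (.lf 0))) (.nd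 (.nd (.lf 0) (.lf 0)) (.nd (.lf 0) (.lf 0)))) (.nd (.nd (.nd (.lf 0) (.lf 0)) (.nd (.lf 0) (.lf 0))) (.nd (.nd (.lf 0) (.lf 0)) (.nd (.lf 0) (.lf 0))))))) (.nd (.nd (.nd (.nd (.nd (.nd (.lf 0) (.lf 0)) (.nd (.lf 0) (.lf 0))) (.nd (.nd (.lf 0) (.lf 0)) (.nd (.lf 0) (.lf 0)))) (.nd (.nd (.nd (.lf 0) (.lf 0)) (.nd (.lf 0) (.lf 0))) (.nd (.nd (.lf 0) (.lf 0)) (.nd (.lf 0) (.lf 0))))) (.nd (.nd (.nd (.nd (.lf 0) (.lf 0)) (.nd (.lf 0) (.lf 0))) (.nd (.nd (.lf 0) (.lf 0)) (.nd (.lf 0) (.lf 0)))) (.nd (.nd (.nd (.lf 0) (.lf 0)) (.nd (.lf 0) (.lf 0))) (.nd (.nd (.lf 0) (.lf 0)) (.nd (.lf 0) (.lf 0)))))) (.nd (.nd (.nd (.nd (.nd (.lf 0) (.lf 0)) (.nd (.lf 0) (.lf 0))) (.nd (.nd (.lf 0) (.lf 0)) (.nd (.lf 0) (.lf 0)))) (.nd (.nd (.nd (.lf 0) (.lf 0)) (.nd (.lf 0) (.lf 0))) (.nd (.nd (.lf 0) (.lf 0)) (.nd (.lf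 0) (.lf 0))))) (.nd (.nd (.nd (.nd (.lf 0) (.lf 0)) (.nd (.lf 0) (.lf 0))) (.nd (.nd (.lf 0) (.lf 0)) (.nd (.lf 0) (.lf 0)))) (.nd (.nd (.nd (.lf 0) (.lf 0)) (.nd (.lf 0) (.lf 0))) (.nd (.nd (.lf 0) (.lf 0)) (.nd (.lf 0) (.lf 0))))))))) (.nd (.nd (.nd (.nd (.nd (.nd (.nd (.nd (.lf 0) (.lf 0)) (.nd (.lf 0) (.lf 0))) (.nd (.nd (.lf 0) (.lf 0)) (.nd (.lf 0) (.lf 0)))) (.nd (.nd (.nd (.lf 0) (.lf 0)) (.nd (.lf 0) (.lf 0))) (.nd (.nd (.lf 0) (.lf 0)) (.nd (.lf 0) (.lf 0))))) (.nd (.nd (.nd (.nd (.lf 0) (.lf 0)) (.nd (.lf 0) (.lf 0))) (.nd (.nd (.lf 0) (.lf 0)) (.nd (.lf 0) (.lf 0)))) (.nd (.nd (.nd (.lf 0) (.lf 0)) (.nd (.lf 0) (.lf 0))) (.nd (.nd (.lf 0) (.lf 0)) (.nd (.lf 0) (.lf 0)))))) (.nd (.nd (.nd (.nd (.nd (.lf 0) (.lf 0)) (.nd (.lf 0) (.lf 0))) (.nd (.nd (.lf 0) (.lf 0)) (.nd (.lf 0) (.lf 0))))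 (.nd (.nd (.nd (.lf 0) (.lf 0)) (.nd (.lf 0) (.lf 0))) (.nd (.nd (.lf 0) (.lf 0)) (.nd (.lf 0) (.lf 0))))) (.nd (.nd (.nd (.nd (.lf 0) (.lf 0)) (.nd (.lf 0) (.lf 0))) (.nd (.nd (.lf 0) (.lf 0)) (.nd (.lf 0) (.lf 0)))) (.nd (.nd (.nd (.lf 0) (.lf 0)) (.nd (.lf 0) (.lf 0))) (.nd (.nd (.lf 0) (.lf 0)) (.nd (.lf 0) (.lf 0))))))) (.nd (.nd (.nd (.nd (.nd (.nd (.lf 0) (.lf 0)) (.nd (.lf 0) (.lf 0))) (.nd (.nd (.lf 0) (.lf 0)) (.nd (.lf 0) (.lf 0)))) (.nd (.nd (.nd (.lf 0) (.lf 0)) (.nd (.lf 0) (.lf 0))) (.nd (.nd (.lf 0) (.lf 0)) (.nd (.lf 0) (.lf 0))))) (.nd (.nd (.nd (.nd (.lf 0) (.lf 0)) (.nd (.lf 0) (.lf 0))) (.nd (.nd (.lf 0) (.lf 0)) (.nd (.lf 0) (.lf 0)))) (.nd (.nd (.nd (.lf 0) (.lf 0)) (.nd (.lf 0) (.lf 0))) (.nd (.nd (.lf 0) (.lf 0)) (.nd (.lf 0) (.lf 0)))))) (.nd (.nd (.nd (.nd (.nd (.lf 0) (.lf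 0)) (.nd (.lf 0) (.lf 0))) (.nd (.nd (.lf 0) (.lf 0)) (.nd (.lf 0) (.lf 0)))) (.nd (.nd (.nd (.lf 0) (.lf 0)) (.nd (.lf 0) (.lf 0))) (.nd (.nd (.lf 0) (.lf 0)) (.nd (.lf 0) (.lf 0))))) (.nd (.nd (.nd (.nd (.lf 0) (.lf 0)) (.nd (.lf 0) (.lf 0))) (.nd (.nd (.lf 0) (.lf 0)) (.nd (.lf 0) (.lf 0)))) (.nd (.nd (.nd (.lf 0) (.lf 0)) (.nd (.lf 0) (.lf 0))) (.nd (.nd (.lf 0) (.lf 0)) (.nd (.lf 0) (.lf 0)))))))) (.nd (.nd (.nd (.nd (.nd (.nd (.nd (.lf 0) (.lf 0)) (.nd (.lf 0) (.lf 0))) (.nd (.nd (.lf 0) (.lf 0)) (.nd (.lf 0) (.lf 0)))) (.nd (.nd (.nd (.lf 0) (.lf 0)) (.nd (.lf 0) (.lf 0))) (.nd (.nd (.lf 0) (.lf 0)) (.nd (.lf 0) (.lf 0))))) (.nd (.nd (.nd (.nd (.lf 0) (.lf 0)) (.nd (.lf 0) (.lf 0))) (.nd (.nd (.lf 0) (.lf 0)) (.nd (.lf 0) (.lf 0)))) (.nd (.nd (.nd (.lf 0) (.lf 0)) (.nd (.lf 0) (.lf 0))) (.nd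 (.nd (.lf 0) (.lf 0)) (.nd (.lf 0) (.lf 0)))))) (.nd (.nd (.nd (.nd (.nd (.lf 0) (.lf 0)) (.nd (.lf 0) (.lf 0))) (.nd (.nd (.lf 0) (.lf 0)) (.nd (.lf 0) (.lf 0)))) (.nd (.nd (.nd (.lf 0) (.lf 0)) (.nd (.lf 0) (.lf 0))) (.nd (.nd (.lf 0) (.lf 0)) (.nd (.lf 0) (.lf 0))))) (.nd (.nd (.nd (.nd (.lf 0) (.lf 0)) (.nd (.lf 0) (.lf 0))) (.nd (.nd (.lf 0) (.lf 0)) (.nd (.lf 0) (.lf 0)))) (.nd (.nd (.nd (.lf 0) (.lf 0)) (.nd (.lf 0) (.lf 0))) (.nd (.nd (.lf 0) (.lf 0)) (.nd (.lf 0) (.lf 0))))))) (.nd (.nd (.nd (.nd (.nd (.nd (.lf 0) (.lf 0)) (.nd (.lf 0) (.lf 0))) (.nd (.nd (.lf 0) (.lf 0)) (.nd (.lf 0) (.lf 0)))) (.nd (.nd (.nd (.lf 0) (.lf 0)) (.nd (.lf 0) (.lf 0))) (.nd (.nd (.lf 0) (.lf 0)) (.nd (.lf 0) (.lf 0))))) (.nd (.nd (.nd (.nd (.lf 0) (.lf 0)) (.nd (.lf 0) (.lf 0))) (.nd (.nd (.lf 0) (.lf 0)) (.nd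 (.lf 0) (.lf 0)))) (.nd (.nd (.nd (.lf 0) (.lf 0)) (.nd (.lf 0) (.lf 0))) (.nd (.nd (.lf 0) (.lf 0)) (.nd (.lf 0) (.lf 0)))))) (.nd (.nd (.nd (.nd (.nd (.lf 0) (.lf 0)) (.nd (.lf 0) (.lf 0))) (.nd (.nd (.lf 0) (.lf 0)) (.nd (.lf 0) (.lf 0)))) (.nd (.nd (.nd (.lf 0) (.lf 0)) (.nd (.lf 0) (.lf 0))) (.nd (.nd (.lf 0) (.lf 0)) (.nd (.lf 0) (.lf 0))))) (.nd (.nd (.nd (.nd (.lf 0) (.lf 0)) (.nd (.lf 0) (.lf 0))) (.nd (.nd (.lf 0) (.lf 0)) (.nd (.lf 0) (.lf 0)))) (.nd (.nd (.nd (.lf 0) (.lf 0)) (.nd (.lf 0) (.lf 0))) (.nd (.nd (.lf 0) (.lf 0)) (.nd (.lf 0) (.lf 0))))))))))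

/-- table part -/
def tabX_7 : Tr :=
  .nd (.nd (.nd (.nd (.nd (.nd (.nd (.nd (.nd (.nd (.lf 0) (.lf 0)) (.nd (.lf 0) (.lf 0))) (.nd (.nd (.lf 0) (.lf 0)) (.nd (.lf 0) (.lf 0)))) (.nd (.nd (.nd (.lf 0) (.lf 0)) (.nd (.lf 0) (.lf 0))) (.nd (.nd (.lf 0) (.lf 0)) (.nd (.lf 0) (.lf 0))))) (.nd (.nd (.nd (.nd (.lf 0) (.lf 0)) (.nd (.lf 0) (.lf 0))) (.nd (.nd (.lf 0) (.lf 0)) (.nd (.lf 0) (.lf 0)))) (.nd (.nd (.nd (.lf 0) (.lf 0)) (.nd (.lf 0) (.lf 0))) (.nd (.nd (.lf 0) (.lf 0)) (.nd (.lf 0) (.lf 0)))))) (.nd (.nd (.nd (.nd (.nd (.lf 0) (.lf 0)) (.nd (.lf 0) (.lf 0))) (.nd (.nd (.lf 0) (.lf 0)) (.nd (.lf 0) (.lf 0)))) (.nd (.nd (.nd (.lf 0) (.lf 0)) (.nd (.lf 0) (.lf 0))) (.nd (.nd (.lf 0) (.lf 0)) (.nd (.lf 0) (.lf 0))))) (.nd (.nd (.nd (.nd (.lf 0) (.lf 0)) (.nd (.lf 0) (.lf 0))) (.nd (.nd (.lf 0) (.lf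 0)) (.nd (.lf 0) (.lf 0)))) (.nd (.nd (.nd (.lf 0) (.lf 0)) (.nd (.lf 0) (.lf 0))) (.nd (.nd (.lf 0) (.lf 0)) (.nd (.lf 0) (.lf 0))))))) (.nd (.nd (.nd (.nd (.nd (.nd (.lf 0) (.lf 0)) (.nd (.lf 0) (.lf 0))) (.nd (.nd (.lf 0) (.lf 0)) (.nd (.lf 0) (.lf 0)))) (.nd (.nd (.nd (.lf 0) (.lf 0)) (.nd (.lf 0) (.lf 0))) (.nd (.nd (.lf 0) (.lf 0)) (.nd (.lf 0) (.lf 0))))) (.nd (.nd (.nd (.nd (.lf 0) (.lf 0)) (.nd (.lf 0) (.lf 0))) (.nd (.nd (.lf 0) (.lf 0)) (.nd (.lf 0) (.lf 0)))) (.nd (.nd (.nd (.lf 0) (.lf 0)) (.nd (.lf 0) (.lf 0))) (.nd (.nd (.lf 0) (.lf 0)) (.nd (.lf 0) (.lf 0)))))) (.nd (.nd (.nd (.nd (.nd (.lf 0) (.lf 0)) (.nd (.lf 0) (.lf 0))) (.nd (.nd (.lf 0) (.lf 0)) (.nd (.lf 0) (.lf 0)))) (.nd (.nd (.nd (.lf 0) (.lf 0)) (.nd (.lf 0) (.lf 0))) (.nd (.nd (.lf 0) (.lf 0)) (.nd (.lf 0) (.lf 0))))) (.nd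 (.nd (.nd (.nd (.lf 0) (.lf 0)) (.nd (.lf 0) (.lf 0))) (.nd (.nd (.lf 0) (.lf 0)) (.nd (.lf 0) (.lf 0)))) (.nd (.nd (.nd (.lf 0) (.lf 0)) (.nd (.lf 0) (.lf 0))) (.nd (.nd (.lf 0) (.lf 0)) (.nd (.lf 0) (.lf 0)))))))) (.nd (.nd (.nd (.nd (.nd (.nd (.nd (.lf 0) (.lf 0)) (.nd (.lf 0) (.lf 0))) (.nd (.nd (.lf 0) (.lf 0)) (.nd (.lf 0) (.lf 0)))) (.nd (.nd (.nd (.lf 0) (.lf 0)) (.nd (.lf 0) (.lf 0))) (.nd (.nd (.lf 0) (.lf 0)) (.nd (.lf 0) (.lf 0))))) (.nd (.nd (.nd (.nd (.lf 0) (.lf 0)) (.nd (.lf 0) (.lf 0))) (.nd (.nd (.lf 0) (.lf 0)) (.nd (.lf 0) (.lf 0)))) (.nd (.nd (.nd (.lf 0) (.lf 0)) (.nd (.lf 0) (.lf 0))) (.nd (.nd (.lf 0) (.lf 0)) (.nd (.lf 0) (.lf 0)))))) (.nd (.nd (.nd (.nd (.nd (.lf 0) (.lf 0)) (.nd (.lf 0) (.lf 0))) (.nd (.nd (.lf 0) (.lf 0)) (.nd (.lf 0) (.lf 0)))) (.nd (.nd (.nd (.lf 0) (.lf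 0)) (.nd (.lf 0) (.lf 0))) (.nd (.nd (.lf 0) (.lf 0)) (.nd (.lf 0) (.lf 0))))) (.nd (.nd (.nd (.nd (.lf 0) (.lf 0)) (.nd (.lf 0) (.lf 0))) (.nd (.nd (.lf 0) (.lf 0)) (.nd (.lf 0) (.lf 0)))) (.nd (.nd (.nd (.lf 0) (.lf 0)) (.nd (.lf 0) (.lf 0))) (.nd (.nd (.lf 0) (.lf 0)) (.nd (.lf 0) (.lf 0))))))) (.nd (.nd (.nd (.nd (.nd (.nd (.lf 0) (.lf 0)) (.nd (.lf 0) (.lf 0))) (.nd (.nd (.lf 0) (.lf 0)) (.nd (.lf 0) (.lf 0)))) (.nd (.nd (.nd (.lf 0) (.lf 0)) (.nd (.lf 0) (.lf 0))) (.nd (.nd (.lf 0) (.lf 0)) (.nd (.lf 0) (.lf 0))))) (.nd (.nd (.nd (.nd (.lf 0) (.lf 0)) (.nd (.lf 0) (.lf 0))) (.nd (.nd (.lf 0) (.lf 0)) (.nd (.lf 0) (.lf 0)))) (.nd (.nd (.nd (.lf 0) (.lf 0)) (.nd (.lf 0) (.lf 0))) (.nd (.nd (.lf 0) (.lf 0)) (.nd (.lf 0) (.lf 0)))))) (.nd (.nd (.nd (.nd (.nd (.lf 0) (.lf 0)) (.nd (.lf 0) (.lf 0)))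 (.nd (.nd (.lf 0) (.lf 0)) (.nd (.lf 0) (.lf 0)))) (.nd (.nd (.nd (.lf 0) (.lf 0)) (.nd (.lf 0) (.lf 0))) (.nd (.nd (.lf 0) (.lf 0)) (.nd (.lf 0) (.lf 0))))) (.nd (.nd (.nd (.nd (.lf 0) (.lf 0)) (.nd (.lf 0) (.lf 0))) (.nd (.nd (.lf 0) (.lf 0)) (.nd (.lf 0) (.lf 0)))) (.nd (.nd (.nd (.lf 0) (.lf 0)) (.nd (.lf 0) (.lf 0))) (.nd (.nd (.lf 0) (.lf 0)) (.nd (.lf 0) (.lf 0))))))))) (.nd (.nd (.nd (.nd (.nd (.nd (.nd (.nd (.lf 0) (.lf 0)) (.nd (.lf 0) (.lf 0))) (.nd (.nd (.lf 0) (.lf 0)) (.nd (.lf 0) (.lf 0)))) (.nd (.nd (.nd (.lf 0) (.lf 0)) (.nd (.lf 0) (.lf 0))) (.nd (.nd (.lf 0) (.lf 0)) (.nd (.lf 0) (.lf 0))))) (.nd (.nd (.nd (.nd (.lf 0) (.lf 0)) (.nd (.lf 0) (.lf 0))) (.nd (.nd (.lf 0) (.lf 0)) (.nd (.lf 0) (.lf 0)))) (.nd (.nd (.nd (.lf 0) (.lf 0)) (.nd (.lf 0) (.lf 0))) (.nd (.nd (.lf 0) (.lf 0))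 (.nd (.lf 0) (.lf 0)))))) (.nd (.nd (.nd (.nd (.nd (.lf 0) (.lf 0)) (.nd (.lf 0) (.lf 0))) (.nd (.nd (.lf 0) (.lf 0)) (.nd (.lf 0) (.lf 0)))) (.nd (.nd (.nd (.lf 0) (.lf 0)) (.nd (.lf 0) (.lf 0))) (.nd (.nd (.lf 0) (.lf 0)) (.nd (.lf 0) (.lf 0))))) (.nd (.nd (.nd (.nd (.lf 0) (.lf 0)) (.nd (.lf 0) (.lf 0))) (.nd (.nd (.lf 0) (.lf 0)) (.nd (.lf 0) (.lf 0)))) (.nd (.nd (.nd (.lf 0) (.lf 0)) (.nd (.lf 0) (.lf 0))) (.nd (.nd (.lf 0) (.lf 0)) (.nd (.lf 0) (.lf 0))))))) (.nd (.nd (.nd (.nd (.nd (.nd (.lf 0) (.lf 0)) (.nd (.lf 0) (.lf 0))) (.nd (.nd (.lf 0) (.lf 0)) (.nd (.lf 0) (.lf 0)))) (.nd (.nd (.nd (.lf 0) (.lf 0)) (.nd (.lf 0) (.lf 0))) (.nd (.nd (.lf 0) (.lf 0)) (.nd (.lf 0) (.lf 0))))) (.nd (.nd (.nd (.nd (.lf 0) (.lf 0)) (.nd (.lf 0) (.lf 0))) (.nd (.nd (.lf 0) (.lf 0)) (.nd (.lf 0) (.lf 0)))) (.nd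 (.nd (.nd (.lf 0) (.lf 0)) (.nd (.lf 0) (.lf 0))) (.nd (.nd (.lf 0) (.lf 0)) (.nd (.lf 0) (.lf 0)))))) (.nd (.nd (.nd (.nd (.nd (.lf 0) (.lf 0)) (.nd (.lf 0) (.lf 0))) (.nd (.nd (.lf 0) (.lf 0)) (.nd (.lf 0) (.lf 0)))) (.nd (.nd (.nd (.lf 0) (.lf 0)) (.nd (.lf 0) (.lf 0))) (.nd (.nd (.lf 0) (.lf 0)) (.nd (.lf 0) (.lf 0))))) (.nd (.nd (.nd (.nd (.lf 0) (.lf 0)) (.nd (.lf 0) (.lf 0))) (.nd (.nd (.lf 0) (.lf 0)) (.nd (.lf 0) (.lf 0)))) (.nd (.nd (.nd (.lf 0) (.lf 0)) (.nd (.lf 0) (.lf 0))) (.nd (.nd (.lf 0) (.lf 0)) (.nd (.lf 0) (.lf 0)))))))) (.nd (.nd (.nd (.nd (.nd (.nd (.nd (.lf 0) (.lf 0)) (.nd (.lf 0) (.lf 0))) (.nd (.nd (.lf 0) (.lf 0)) (.nd (.lf 0) (.lf 0)))) (.nd (.nd (.nd (.lf 0) (.lf 0)) (.nd (.lf 0) (.lf 0))) (.nd (.nd (.lf 0) (.lf 0)) (.nd (.lf 0) (.lf 0))))) (.nd (.nd (.nd (.nd (.lf 0) (.lf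 0)) (.nd (.lf 0) (.lf 0))) (.nd (.nd (.lf 0) (.lf 0)) (.nd (.lf 0) (.lf 0)))) (.nd (.nd (.nd (.lf 0) (.lf 0)) (.nd (.lf 0) (.lf 0))) (.nd (.nd (.lf 0) (.lf 0)) (.nd (.lf 0) (.lf 0)))))) (.nd (.nd (.nd (.nd (.nd (.lf 0) (.lf 0)) (.nd (.lf 0) (.lf 0))) (.nd (.nd (.lf 0) (.lf 0)) (.nd (.lf 0) (.lf 0)))) (.nd (.nd (.nd (.lf 0) (.lf 0)) (.nd (.lf 0) (.lf 0))) (.nd (.nd (.lf 0) (.lf 0)) (.nd (.lf 0) (.lf 0))))) (.nd (.nd (.nd (.nd (.lf 0) (.lf 0)) (.nd (.lf 0) (.lf 0))) (.nd (.nd (.lf 0) (.lf 0)) (.nd (.lf 0) (.lf 0)))) (.nd (.nd (.nd (.lf 0) (.lf 0)) (.nd (.lf 0) (.lf 0))) (.nd (.nd (.lf 0) (.lf 0)) (.nd (.lf 0) (.lf 0))))))) (.nd (.nd (.nd (.nd (.nd (.nd (.lf 0) (.lf 0)) (.nd (.lf 0) (.lf 0))) (.nd (.nd (.lf 0) (.lf 0)) (.nd (.lf 0) (.lf 0)))) (.nd (.nd (.nd (.lf 0) (.lf 0)) (.nd (.lf 0) (.lf 0))) (.nd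 (.nd (.lf 0) (.lf 0)) (.nd (.lf 0) (.lf 0))))) (.nd (.nd (.nd (.nd (.lf 0) (.lf 0)) (.nd (.lf 0) (.lf 0))) (.nd (.nd (.lf 0) (.lf 0)) (.nd (.lf 0) (.lf 0)))) (.nd (.nd (.nd (.lf 0) (.lf 0)) (.nd (.lf 0) (.lf 0))) (.nd (.nd (.lf 0) (.lf 0)) (.nd (.lf 0) (.lf 0)))))) (.nd (.nd (.nd (.nd (.nd (.lf 0) (.lf 0)) (.nd (.lf 0) (.lf 0))) (.nd (.nd (.lf 0) (.lf 0)) (.nd (.lf 0) (.lf 0)))) (.nd (.nd (.nd (.lf 0) (.lf 0)) (.nd (.lf 0) (.lf 0))) (.nd (.nd (.lf 0) (.lf 0)) (.nd (.lf 0) (.lf 0))))) (.nd (.nd (.nd (.nd (.lf 0) (.lf 0)) (.nd (.lf 0) (.lf 0))) (.nd (.nd (.lf 0) (.lf 0)) (.nd (.lf 0) (.lf 0)))) (.nd (.nd (.nd (.lf 0) (.lf 0)) (.nd (.lf 0) (.lf 0))) (.nd (.nd (.lf 0) (.lf 0)) (.nd (.lf 0) (.lf 0)))))))))) (.nd (.nd (.nd (.nd (.nd (.nd (.nd (.nd (.nd (.lf 0) (.lf 0)) (.nd (.lf 0) (.lf 0))) (.nd (.nd (.lf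 0) (.lf 0)) (.nd (.lf 0) (.lf 0)))) (.nd (.nd (.nd (.lf 0) (.lf 0)) (.nd (.lf 0) (.lf 0))) (.nd (.nd (.lf 0) (.lf 0)) (.nd (.lf 0) (.lf 0))))) (.nd (.nd (.nd (.nd (.lf 0) (.lf 0)) (.nd (.lf 0) (.lf 0))) (.nd (.nd (.lf 0) (.lf 0)) (.nd (.lf 0) (.lf 0)))) (.nd (.nd (.nd (.lf 0) (.lf 0)) (.nd (.lf 0) (.lf 0))) (.nd (.nd (.lf 0) (.lf 0)) (.nd (.lf 0) (.lf 0)))))) (.nd (.nd (.nd (.nd (.nd (.lf 0) (.lf 0)) (.nd (.lf 0) (.lf 0))) (.nd (.nd (.lf 0) (.lf 0)) (.nd (.lf 0) (.lf 0)))) (.nd (.nd (.nd (.lf 0) (.lf 0)) (.nd (.lf 0) (.lf 0))) (.nd (.nd (.lf 0) (.lf 0)) (.nd (.lf 0) (.lf 0))))) (.nd (.nd (.nd (.nd (.lf 0) (.lf 0)) (.nd (.lf 0) (.lf 0))) (.nd (.nd (.lf 0) (.lf 0)) (.nd (.lf 0) (.lf 0)))) (.nd (.nd (.nd (.lf 0) (.lf 0)) (.nd (.lf 0) (.lf 0))) (.nd (.nd (.lf 0) (.lf 0)) (.nd (.lf 0) (.lf 0))))))) (.nd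 (.nd (.nd (.nd (.nd (.nd (.lf 0) (.lf 0)) (.nd (.lf 0) (.lf 0))) (.nd (.nd (.lf 0) (.lf 0)) (.nd (.lf 0) (.lf 0)))) (.nd (.nd (.nd (.lf 0) (.lf 0)) (.nd (.lf 0) (.lf 0))) (.nd (.nd (.lf 0) (.lf 0)) (.nd (.lf 0) (.lf 0))))) (.nd (.nd (.nd (.nd (.lf 0) (.lf 0)) (.nd (.lf 0) (.lf 0))) (.nd (.nd (.lf 0) (.lf 0)) (.nd (.lf 0) (.lf 0)))) (.nd (.nd (.nd (.lf 0) (.lf 0)) (.nd (.lf 0) (.lf 0))) (.nd (.nd (.lf 0) (.lf 0)) (.nd (.lf 0) (.lf 0)))))) (.nd (.nd (.nd (.nd (.nd (.lf 0) (.lf 0)) (.nd (.lf 0) (.lf 0))) (.nd (.nd (.lf 0) (.lf 0)) (.nd (.lf 0) (.lf 0)))) (.nd (.nd (.nd (.lf 0) (.lf 0)) (.nd (.lf 0) (.lf 0))) (.nd (.nd (.lf 0) (.lf 0)) (.nd (.lf 0) (.lf 0))))) (.nd (.nd (.nd (.nd (.lf 0) (.lf 0)) (.nd (.lf 0) (.lf 0))) (.nd (.nd (.lf 0) (.lf 0)) (.nd (.lf 0) (.lf 0)))) (.nd (.nd (.nd (.lf 0) (.lf 0)) (.nd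 (.lf 0) (.lf 0))) (.nd (.nd (.lf 0) (.lf 0)) (.nd (.lf 0) (.lf 0)))))))) (.nd (.nd (.nd (.nd (.nd (.nd (.nd (.lf 0) (.lf 0)) (.nd (.lf 0) (.lf 0))) (.nd (.nd (.lf 0) (.lf 0)) (.nd (.lf 0) (.lf 0)))) (.nd (.nd (.nd (.lf 0) (.lf 0)) (.nd (.lf 0) (.lf 0))) (.nd (.nd (.lf 0) (.lf 0)) (.nd (.lf 0) (.lf 0))))) (.nd (.nd (.nd (.nd (.lf 0) (.lf 0)) (.nd (.lf 0) (.lf 0))) (.nd (.nd (.lf 0) (.lf 0)) (.nd (.lf 0) (.lf 0)))) (.nd (.nd (.nd (.lf 0) (.lf 0)) (.nd (.lf 0) (.lf 0))) (.nd (.nd (.lf 0) (.lf 0)) (.nd (.lf 0) (.lf 0)))))) (.nd (.nd (.nd (.nd (.nd (.lf 0) (.lf 0)) (.nd (.lf 0) (.lf 0))) (.nd (.nd (.lf 0) (.lf 0)) (.nd (.lf 0) (.lf 0)))) (.nd (.nd (.nd (.lf 0) (.lf 0)) (.nd (.lf 0) (.lf 0))) (.nd (.nd (.lf 11) (.lf 0)) (.nd (.lf 0) (.lf 0))))) (.nd (.nd (.nd (.nd (.lf 0) (.lf 0)) (.nd (.lf 0) (.lf 0)))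 (.nd (.nd (.lf 0) (.lf 0)) (.nd (.lf 0) (.lf 0)))) (.nd (.nd (.nd (.lf 0) (.lf 0)) (.nd (.lf 0) (.lf 0))) (.nd (.nd (.lf 0) (.lf 0)) (.nd (.lf 0) (.lf 0))))))) (.nd (.nd (.nd (.nd (.nd (.nd (.lf 0) (.lf 0)) (.nd (.lf 0) (.lf 0))) (.nd (.nd (.lf 0) (.lf 0)) (.nd (.lf 0) (.lf 0)))) (.nd (.nd (.nd (.lf 0) (.lf 0)) (.nd (.lf 0) (.lf 0))) (.nd (.nd (.lf 0) (.lf 0)) (.nd (.lf 0) (.lf 0))))) (.nd (.nd (.nd (.nd (.lf 0) (.lf 0)) (.nd (.lf 0) (.lf 0))) (.nd (.nd (.lf 0) (.lf 0)) (.nd (.lf 0) (.lf 0)))) (.nd (.nd (.nd (.lf 0) (.lf 0)) (.nd (.lf 0) (.lf 0))) (.nd (.nd (.lf 0) (.lf 0)) (.nd (.lf 0) (.lf 0)))))) (.nd (.nd (.nd (.nd (.nd (.lf 0) (.lf 0)) (.nd (.lf 0) (.lf 0))) (.nd (.nd (.lf 0) (.lf 0)) (.nd (.lf 0) (.lf 0)))) (.nd (.nd (.nd (.lf 0) (.lf 0)) (.nd (.lf 0) (.lf 0))) (.nd (.nd (.lf 0) (.lf 0)) (.nd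 (.lf 0) (.lf 0))))) (.nd (.nd (.nd (.nd (.lf 0) (.lf 0)) (.nd (.lf 0) (.lf 0))) (.nd (.nd (.lf 0) (.lf 0)) (.nd (.lf 0) (.lf 0)))) (.nd (.nd (.nd (.lf 0) (.lf 0)) (.nd (.lf 0) (.lf 0))) (.nd (.nd (.lf 0) (.lf 0)) (.nd (.lf 0) (.lf 0))))))))) (.nd (.nd (.nd (.nd (.nd (.nd (.nd (.nd (.lf 0) (.lf 0)) (.nd (.lf 0) (.lf 0))) (.nd (.nd (.lf 0) (.lf 0)) (.nd (.lf 0) (.lf 0)))) (.nd (.nd (.nd (.lf 0) (.lf 0)) (.nd (.lf 0) (.lf 0))) (.nd (.nd (.lf 0) (.lf 0)) (.nd (.lf 0) (.lf 0))))) (.nd (.nd (.nd (.nd (.lf 0) (.lf 0)) (.nd (.lf 0) (.lf 0))) (.nd (.nd (.lf 0) (.lf 0)) (.nd (.lf 0) (.lf 0)))) (.nd (.nd (.nd (.lf 0) (.lf 0)) (.nd (.lf 0) (.lf 0))) (.nd (.nd (.lf 0) (.lf 0)) (.nd (.lf 0) (.lf 0)))))) (.nd (.nd (.nd (.nd (.nd (.lf 0) (.lf 0)) (.nd (.lf 0) (.lf 0))) (.nd (.nd (.lf 0) (.lf 0)) (.nd (.lf 0) (.lf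 0)))) (.nd (.nd (.nd (.lf 0) (.lf 0)) (.nd (.lf 0) (.lf 0))) (.nd (.nd (.lf 0) (.lf 0)) (.nd (.lf 0) (.lf 0))))) (.nd (.nd (.nd (.nd (.lf 0) (.lf 0)) (.nd (.lf 0) (.lf 0))) (.nd (.nd (.lf 0) (.lf 0)) (.nd (.lf 0) (.lf 0)))) (.nd (.nd (.nd (.lf 0) (.lf 0)) (.nd (.lf 0) (.lf 0))) (.nd (.nd (.lf 0) (.lf 0)) (.nd (.lf 0) (.lf 0))))))) (.nd (.nd (.nd (.nd (.nd (.nd (.lf 0) (.lf 0)) (.nd (.lf 0) (.lf 0))) (.nd (.nd (.lf 0) (.lf 0)) (.nd (.lf 0) (.lf 0)))) (.nd (.nd (.nd (.lf 0) (.lf 0)) (.nd (.lf 0) (.lf 0))) (.nd (.nd (.lf 0) (.lf 0)) (.nd (.lf 0) (.lf 0))))) (.nd (.nd (.nd (.nd (.lf 0) (.lf 0)) (.nd (.lf 0) (.lf 0))) (.nd (.nd (.lf 0) (.lf 0)) (.nd (.lf 0) (.lf 0)))) (.nd (.nd (.nd (.lf 0) (.lf 0)) (.nd (.lf 0) (.lf 0))) (.nd (.nd (.lf 0) (.lf 0)) (.nd (.lf 0) (.lf 0)))))) (.nd (.nd (.nd (.nd (.nd (.lf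 0) (.lf 0)) (.nd (.lf 0) (.lf 0))) (.nd (.nd (.lf 0) (.lf 0)) (.nd (.lf 0) (.lf 0)))) (.nd (.nd (.nd (.lf 0) (.lf 0)) (.nd (.lf 0) (.lf 0))) (.nd (.nd (.lf 0) (.lf 0)) (.nd (.lf 0) (.lf 0))))) (.nd (.nd (.nd (.nd (.lf 0) (.lf 0)) (.nd (.lf 0) (.lf 0))) (.nd (.nd (.lf 0) (.lf 0)) (.nd (.lf 0) (.lf 0)))) (.nd (.nd (.nd (.lf 0) (.lf 0)) (.nd (.lf 0) (.lf 0))) (.nd (.nd (.lf 0) (.lf 0)) (.nd (.lf 0) (.lf 0)))))))) (.nd (.nd (.nd (.nd (.nd (.nd (.nd (.lf 0) (.lf 0)) (.nd (.lf 0) (.lf 0))) (.nd (.nd (.lf 0) (.lf 0)) (.nd (.lf 0) (.lf 0)))) (.nd (.nd (.nd (.lf 0) (.lf 0)) (.nd (.lf 0) (.lf 0))) (.nd (.nd (.lf 0) (.lf 0)) (.nd (.lf 0) (.lf 0))))) (.nd (.nd (.nd (.nd (.lf 0) (.lf 0)) (.nd (.lf 0) (.lf 0))) (.nd (.nd (.lf 0) (.lf 0)) (.nd (.lf 0) (.lf 0)))) (.nd (.nd (.nd (.lf 0) (.lf 0)) (.nd (.lf 0) (.lf 0)))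 (.nd (.nd (.lf 0) (.lf 0)) (.nd (.lf 0) (.lf 0)))))) (.nd (.nd (.nd (.nd (.nd (.lf 0) (.lf 0)) (.nd (.lf 0) (.lf 0))) (.nd (.nd (.lf 0) (.lf 0)) (.nd (.lf 0) (.lf 0)))) (.nd (.nd (.nd (.lf 0) (.lf 0)) (.nd (.lf 0) (.lf 0))) (.nd (.nd (.lf 0) (.lf 0)) (.nd (.lf 0) (.lf 0))))) (.nd (.nd (.nd (.nd (.lf 0) (.lf 0)) (.nd (.lf 0) (.lf 0))) (.nd (.nd (.lf 0) (.lf 0)) (.nd (.lf 0) (.lf 0)))) (.nd (.nd (.nd (.lf 0) (.lf 0)) (.nd (.lf 0) (.lf 0))) (.nd (.nd (.lf 0) (.lf 0)) (.nd (.lf 0) (.lf 0))))))) (.nd (.nd (.nd (.nd (.nd (.nd (.lf 0) (.lf 0)) (.nd (.lf 0) (.lf 0))) (.nd (.nd (.lf 0) (.lf 0)) (.nd (.lf 0) (.lf 0)))) (.nd (.nd (.nd (.lf 0) (.lf 0)) (.nd (.lf 0) (.lf 0))) (.nd (.nd (.lf 0) (.lf 0)) (.nd (.lf 0) (.lf 0))))) (.nd (.nd (.nd (.nd (.lf 0) (.lf 0)) (.nd (.lf 0) (.lf 0))) (.nd (.nd (.lf 0) (.lf 0))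 (.nd (.lf 0) (.lf 0)))) (.nd (.nd (.nd (.lf 0) (.lf 0)) (.nd (.lf 0) (.lf 0))) (.nd (.nd (.lf 0) (.lf 0)) (.nd (.lf 0) (.lf 0)))))) (.nd (.nd (.nd (.nd (.nd (.lf 0) (.lf 0)) (.nd (.lf 0) (.lf 0))) (.nd (.nd (.lf 0) (.lf 0)) (.nd (.lf 0) (.lf 0)))) (.nd (.nd (.nd (.lf 0) (.lf 0)) (.nd (.lf 0) (.lf 0))) (.nd (.nd (.lf 0) (.lf 0)) (.nd (.lf 0) (.lf 0))))) (.nd (.nd (.nd (.nd (.lf 0) (.lf 0)) (.nd (.lf 0) (.lf 0))) (.nd (.nd (.lf 0) (.lf 0)) (.nd (.lf 0) (.lf 0)))) (.nd (.nd (.nd (.lf 0) (.lf 0)) (.nd (.lf 0) (.lf 0))) (.nd (.nd (.lf 0) (.lf 0)) (.nd (.lf 0) (.lf 0))))))))))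

/-- table part -/
def tabX_8 : Tr :=
  .nd (.nd (.nd (.nd (.nd (.nd (.nd (.nd (.nd (.nd (.lf 0) (.lf 0)) (.nd (.lf 0) (.lf 0))) (.nd (.nd (.lf 0) (.lf 0)) (.nd (.lf 0) (.lf 0)))) (.nd (.nd (.nd (.lf 0) (.lf 0)) (.nd (.lf 0) (.lf 0))) (.nd (.nd (.lf 0) (.lf 0)) (.nd (.lf 0) (.lf 0))))) (.nd (.nd (.nd (.nd (.lf 0) (.lf 0)) (.nd (.lf 0) (.lf 0))) (.nd (.nd (.lf 0) (.lf 0)) (.nd (.lf 0) (.lf 0)))) (.nd (.nd (.nd (.lf 0) (.lf 0)) (.nd (.lf 0) (.lf 0))) (.nd (.nd (.lf 0) (.lf 0)) (.nd (.lf 0) (.lf 0)))))) (.nd (.nd (.nd (.nd (.nd (.lf 0) (.lf 0)) (.nd (.lf 0) (.lf 0))) (.nd (.nd (.lf 0) (.lf 0)) (.nd (.lf 0) (.lf 0)))) (.nd (.nd (.nd (.lf 0) (.lf 0)) (.nd (.lf 0) (.lf 0))) (.nd (.nd (.lf 0) (.lf 0)) (.nd (.lf 0) (.lf 0))))) (.nd (.nd (.nd (.nd (.lf 0) (.lf 0)) (.nd (.lf 0) (.lf 0))) (.nd (.nd (.lf 0) (.lf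 0)) (.nd (.lf 0) (.lf 0)))) (.nd (.nd (.nd (.lf 0) (.lf 0)) (.nd (.lf 0) (.lf 0))) (.nd (.nd (.lf 0) (.lf 0)) (.nd (.lf 0) (.lf 0))))))) (.nd (.nd (.nd (.nd (.nd (.nd (.lf 0) (.lf 0)) (.nd (.lf 0) (.lf 0))) (.nd (.nd (.lf 0) (.lf 0)) (.nd (.lf 0) (.lf 0)))) (.nd (.nd (.nd (.lf 0) (.lf 0)) (.nd (.lf 0) (.lf 0))) (.nd (.nd (.lf 0) (.lf 0)) (.nd (.lf 0) (.lf 0))))) (.nd (.nd (.nd (.nd (.lf 0) (.lf 0)) (.nd (.lf 0) (.lf 0))) (.nd (.nd (.lf 0) (.lf 0)) (.nd (.lf 0) (.lf 0)))) (.nd (.nd (.nd (.lf 0) (.lf 0)) (.nd (.lf 0) (.lf 0))) (.nd (.nd (.lf 0) (.lf 0)) (.nd (.lf 0) (.lf 0)))))) (.nd (.nd (.nd (.nd (.nd (.lf 0) (.lf 0)) (.nd (.lf 0) (.lf 0))) (.nd (.nd (.lf 0) (.lf 0)) (.nd (.lf 0) (.lf 0)))) (.nd (.nd (.nd (.lf 0) (.lf 0)) (.nd (.lf 0) (.lf 0))) (.nd (.nd (.lf 0) (.lf 0)) (.nd (.lf 0) (.lf 0))))) (.nd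 (.nd (.nd (.nd (.lf 0) (.lf 0)) (.nd (.lf 0) (.lf 0))) (.nd (.nd (.lf 0) (.lf 0)) (.nd (.lf 0) (.lf 0)))) (.nd (.nd (.nd (.lf 0) (.lf 0)) (.nd (.lf 0) (.lf 0))) (.nd (.nd (.lf 0) (.lf 0)) (.nd (.lf 0) (.lf 0)))))))) (.nd (.nd (.nd (.nd (.nd (.nd (.nd (.lf 0) (.lf 0)) (.nd (.lf 0) (.lf 0))) (.nd (.nd (.lf 0) (.lf 0)) (.nd (.lf 0) (.lf 0)))) (.nd (.nd (.nd (.lf 0) (.lf 0)) (.nd (.lf 0) (.lf 0))) (.nd (.nd (.lf 0) (.lf 0)) (.nd (.lf 0) (.lf 0))))) (.nd (.nd (.nd (.nd (.lf 0) (.lf 0)) (.nd (.lf 0) (.lf 0))) (.nd (.nd (.lf 0) (.lf 0)) (.nd (.lf 0) (.lf 0)))) (.nd (.nd (.nd (.lf 0) (.lf 0)) (.nd (.lf 0) (.lf 0))) (.nd (.nd (.lf 0) (.lf 0)) (.nd (.lf 0) (.lf 0)))))) (.nd (.nd (.nd (.nd (.nd (.lf 0) (.lf 0)) (.nd (.lf 0) (.lf 0))) (.nd (.nd (.lf 0) (.lf 0)) (.nd (.lf 0) (.lf 0)))) (.nd (.nd (.nd (.lf 0) (.lf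 0)) (.nd (.lf 0) (.lf 0))) (.nd (.nd (.lf 0) (.lf 0)) (.nd (.lf 0) (.lf 0))))) (.nd (.nd (.nd (.nd (.lf 0) (.lf 0)) (.nd (.lf 0) (.lf 0))) (.nd (.nd (.lf 0) (.lf 0)) (.nd (.lf 0) (.lf 0)))) (.nd (.nd (.nd (.lf 0) (.lf 0)) (.nd (.lf 0) (.lf 0))) (.nd (.nd (.lf 0) (.lf 0)) (.nd (.lf 0) (.lf 0))))))) (.nd (.nd (.nd (.nd (.nd (.nd (.lf 0) (.lf 0)) (.nd (.lf 0) (.lf 0))) (.nd (.nd (.lf 0) (.lf 0)) (.nd (.lf 0) (.lf 0)))) (.nd (.nd (.nd (.lf 0) (.lf 0)) (.nd (.lf 0) (.lf 0))) (.nd (.nd (.lf 0) (.lf 0)) (.nd (.lf 0) (.lf 0))))) (.nd (.nd (.nd (.nd (.lf 0) (.lf 0)) (.nd (.lf 0) (.lf 0))) (.nd (.nd (.lf 0) (.lf 0)) (.nd (.lf 0) (.lf 0)))) (.nd (.nd (.nd (.lf 0) (.lf 0)) (.nd (.lf 0) (.lf 0))) (.nd (.nd (.lf 0) (.lf 0)) (.nd (.lf 0) (.lf 0)))))) (.nd (.nd (.nd (.nd (.nd (.lf 0) (.lf 0)) (.nd (.lf 0) (.lf 0)))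 (.nd (.nd (.lf 0) (.lf 0)) (.nd (.lf 0) (.lf 0)))) (.nd (.nd (.nd (.lf 0) (.lf 0)) (.nd (.lf 0) (.lf 0))) (.nd (.nd (.lf 0) (.lf 0)) (.nd (.lf 0) (.lf 0))))) (.nd (.nd (.nd (.nd (.lf 0) (.lf 0)) (.nd (.lf 0) (.lf 0))) (.nd (.nd (.lf 0) (.lf 0)) (.nd (.lf 0) (.lf 0)))) (.nd (.nd (.nd (.lf 0) (.lf 0)) (.nd (.lf 0) (.lf 0))) (.nd (.nd (.lf 0) (.lf 0)) (.nd (.lf 0) (.lf 0))))))))) (.nd (.nd (.nd (.nd (.nd (.nd (.nd (.nd (.lf 0) (.lf 0)) (.nd (.lf 0) (.lf 0))) (.nd (.nd (.lf 0) (.lf 0)) (.nd (.lf 0) (.lf 0)))) (.nd (.nd (.nd (.lf 0) (.lf 0)) (.nd (.lf 0) (.lf 0))) (.nd (.nd (.lf 0) (.lf 0)) (.nd (.lf 0) (.lf 0))))) (.nd (.nd (.nd (.nd (.lf 0) (.lf 0)) (.nd (.lf 0) (.lf 0))) (.nd (.nd (.lf 0) (.lf 0)) (.nd (.lf 0) (.lf 0)))) (.nd (.nd (.nd (.lf 0) (.lf 0)) (.nd (.lf 0) (.lf 0))) (.nd (.nd (.lf 0) (.lf 0))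 (.nd (.lf 0) (.lf 0)))))) (.nd (.nd (.nd (.nd (.nd (.lf 0) (.lf 0)) (.nd (.lf 0) (.lf 0))) (.nd (.nd (.lf 0) (.lf 0)) (.nd (.lf 0) (.lf 0)))) (.nd (.nd (.nd (.lf 0) (.lf 0)) (.nd (.lf 0) (.lf 0))) (.nd (.nd (.lf 0) (.lf 0)) (.nd (.lf 0) (.lf 0))))) (.nd (.nd (.nd (.nd (.lf 0) (.lf 0)) (.nd (.lf 0) (.lf 0))) (.nd (.nd (.lf 0) (.lf 0)) (.nd (.lf 0) (.lf 0)))) (.nd (.nd (.nd (.lf 0) (.lf 0)) (.nd (.lf 0) (.lf 0))) (.nd (.nd (.lf 0) (.lf 0)) (.nd (.lf 0) (.lf 0))))))) (.nd (.nd (.nd (.nd (.nd (.nd (.lf 0) (.lf 0)) (.nd (.lf 0) (.lf 0))) (.nd (.nd (.lf 0) (.lf 0)) (.nd (.lf 0) (.lf 0)))) (.nd (.nd (.nd (.lf 0) (.lf 0)) (.nd (.lf 0) (.lf 0))) (.nd (.nd (.lf 0) (.lf 0)) (.nd (.lf 0) (.lf 0))))) (.nd (.nd (.nd (.nd (.lf 0) (.lf 0)) (.nd (.lf 0) (.lf 0))) (.nd (.nd (.lf 0) (.lf 0)) (.nd (.lf 0) (.lf 0)))) (.nd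 (.nd (.nd (.lf 0) (.lf 0)) (.nd (.lf 0) (.lf 0))) (.nd (.nd (.lf 0) (.lf 0)) (.nd (.lf 0) (.lf 0)))))) (.nd (.nd (.nd (.nd (.nd (.lf 0) (.lf 0)) (.nd (.lf 0) (.lf 0))) (.nd (.nd (.lf 0) (.lf 0)) (.nd (.lf 0) (.lf 0)))) (.nd (.nd (.nd (.lf 0) (.lf 0)) (.nd (.lf 0) (.lf 0))) (.nd (.nd (.lf 0) (.lf 0)) (.nd (.lf 0) (.lf 0))))) (.nd (.nd (.nd (.nd (.lf 0) (.lf 0)) (.nd (.lf 0) (.lf 0))) (.nd (.nd (.lf 0) (.lf 0)) (.nd (.lf 0) (.lf 0)))) (.nd (.nd (.nd (.lf 0) (.lf 0)) (.nd (.lf 0) (.lf 0))) (.nd (.nd (.lf 0) (.lf 0)) (.nd (.lf 0) (.lf 0)))))))) (.nd (.nd (.nd (.nd (.nd (.nd (.nd (.lf 0) (.lf 0)) (.nd (.lf 0) (.lf 0))) (.nd (.nd (.lf 0) (.lf 0)) (.nd (.lf 0) (.lf 0)))) (.nd (.nd (.nd (.lf 0) (.lf 0)) (.nd (.lf 0) (.lf 0))) (.nd (.nd (.lf 0) (.lf 0)) (.nd (.lf 0) (.lf 0))))) (.nd (.nd (.nd (.nd (.lf 0) (.lf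 0)) (.nd (.lf 0) (.lf 0))) (.nd (.nd (.lf 0) (.lf 0)) (.nd (.lf 0) (.lf 0)))) (.nd (.nd (.nd (.lf 0) (.lf 0)) (.nd (.lf 0) (.lf 0))) (.nd (.nd (.lf 0) (.lf 0)) (.nd (.lf 0) (.lf 0)))))) (.nd (.nd (.nd (.nd (.nd (.lf 0) (.lf 0)) (.nd (.lf 0) (.lf 0))) (.nd (.nd (.lf 0) (.lf 0)) (.nd (.lf 0) (.lf 0)))) (.nd (.nd (.nd (.lf 0) (.lf 0)) (.nd (.lf 0) (.lf 0))) (.nd (.nd (.lf 0) (.lf 0)) (.nd (.lf 0) (.lf 0))))) (.nd (.nd (.nd (.nd (.lf 0) (.lf 0)) (.nd (.lf 0) (.lf 0))) (.nd (.nd (.lf 0) (.lf 0)) (.nd (.lf 0) (.lf 0)))) (.nd (.nd (.nd (.lf 0) (.lf 0)) (.nd (.lf 0) (.lf 0))) (.nd (.nd (.lf 0) (.lf 0)) (.nd (.lf 0) (.lf 0))))))) (.nd (.nd (.nd (.nd (.nd (.nd (.lf 0) (.lf 0)) (.nd (.lf 0) (.lf 0))) (.nd (.nd (.lf 0) (.lf 0)) (.nd (.lf 0) (.lf 0)))) (.nd (.nd (.nd (.lf 0) (.lf 0)) (.nd (.lf 0) (.lf 0))) (.nd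 (.nd (.lf 0) (.lf 0)) (.nd (.lf 0) (.lf 0))))) (.nd (.nd (.nd (.nd (.lf 0) (.lf 0)) (.nd (.lf 0) (.lf 0))) (.nd (.nd (.lf 0) (.lf 0)) (.nd (.lf 0) (.lf 0)))) (.nd (.nd (.nd (.lf 0) (.lf 0)) (.nd (.lf 0) (.lf 0))) (.nd (.nd (.lf 0) (.lf 0)) (.nd (.lf 0) (.lf 0)))))) (.nd (.nd (.nd (.nd (.nd (.lf 0) (.lf 0)) (.nd (.lf 0) (.lf 0))) (.nd (.nd (.lf 0) (.lf 0)) (.nd (.lf 0) (.lf 0)))) (.nd (.nd (.nd (.lf 0) (.lf 0)) (.nd (.lf 0) (.lf 0))) (.nd (.nd (.lf 0) (.lf 0)) (.nd (.lf 0) (.lf 0))))) (.nd (.nd (.nd (.nd (.lf 0) (.lf 0)) (.nd (.lf 0) (.lf 0))) (.nd (.nd (.lf 0) (.lf 0)) (.nd (.lf 0) (.lf 0)))) (.nd (.nd (.nd (.lf 0) (.lf 0)) (.nd (.lf 0) (.lf 0))) (.nd (.nd (.lf 0) (.lf 0)) (.nd (.lf 0) (.lf 0)))))))))) (.nd (.nd (.nd (.nd (.nd (.nd (.nd (.nd (.nd (.lf 0) (.lf 0)) (.nd (.lf 0) (.lf 0))) (.nd (.nd (.lf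 0) (.lf 0)) (.nd (.lf 0) (.lf 0)))) (.nd (.nd (.nd (.lf 0) (.lf 0)) (.nd (.lf 0) (.lf 0))) (.nd (.nd (.lf 0) (.lf 0)) (.nd (.lf 0) (.lf 0))))) (.nd (.nd (.nd (.nd (.lf 0) (.lf 0)) (.nd (.lf 0) (.lf 0))) (.nd (.nd (.lf 0) (.lf 0)) (.nd (.lf 0) (.lf 0)))) (.nd (.nd (.nd (.lf 0) (.lf 0)) (.nd (.lf 0) (.lf 0))) (.nd (.nd (.lf 0) (.lf 0)) (.nd (.lf 0) (.lf 0)))))) (.nd (.nd (.nd (.nd (.nd (.lf 0) (.lf 0)) (.nd (.lf 0) (.lf 0))) (.nd (.nd (.lf 0) (.lf 0)) (.nd (.lf 0) (.lf 0)))) (.nd (.nd (.nd (.lf 0) (.lf 0)) (.nd (.lf 0) (.lf 0))) (.nd (.nd (.lf 0) (.lf 0)) (.nd (.lf 0) (.lf 0))))) (.nd (.nd (.nd (.nd (.lf 0) (.lf 0)) (.nd (.lf 0) (.lf 0))) (.nd (.nd (.lf 0) (.lf 0)) (.nd (.lf 0) (.lf 0)))) (.nd (.nd (.nd (.lf 0) (.lf 0)) (.nd (.lf 0) (.lf 0))) (.nd (.nd (.lf 0) (.lf 0)) (.nd (.lf 0) (.lf 0))))))) (.nd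 (.nd (.nd (.nd (.nd (.nd (.lf 0) (.lf 0)) (.nd (.lf 0) (.lf 0))) (.nd (.nd (.lf 0) (.lf 0)) (.nd (.lf 0) (.lf 0)))) (.nd (.nd (.nd (.lf 0) (.lf 0)) (.nd (.lf 0) (.lf 0))) (.nd (.nd (.lf 0) (.lf 0)) (.nd (.lf 0) (.lf 0))))) (.nd (.nd (.nd (.nd (.lf 0) (.lf 0)) (.nd (.lf 0) (.lf 0))) (.nd (.nd (.lf 0) (.lf 0)) (.nd (.lf 0) (.lf 0)))) (.nd (.nd (.nd (.lf 0) (.lf 0)) (.nd (.lf 0) (.lf 0))) (.nd (.nd (.lf 0) (.lf 0)) (.nd (.lf 0) (.lf 0)))))) (.nd (.nd (.nd (.nd (.nd (.lf 0) (.lf 0)) (.nd (.lf 0) (.lf 0))) (.nd (.nd (.lf 0) (.lf 0)) (.nd (.lf 0) (.lf 0)))) (.nd (.nd (.nd (.lf 0) (.lf 0)) (.nd (.lf 0) (.lf 0))) (.nd (.nd (.lf 0) (.lf 0)) (.nd (.lf 0) (.lf 0))))) (.nd (.nd (.nd (.nd (.lf 0) (.lf 0)) (.nd (.lf 0) (.lf 0))) (.nd (.nd (.lf 0) (.lf 0)) (.nd (.lf 0) (.lf 0)))) (.nd (.nd (.nd (.lf 0) (.lf 0)) (.nd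 (.lf 0) (.lf 0))) (.nd (.nd (.lf 0) (.lf 0)) (.nd (.lf 0) (.lf 0)))))))) (.nd (.nd (.nd (.nd (.nd (.nd (.nd (.lf 0) (.lf 0)) (.nd (.lf 0) (.lf 0))) (.nd (.nd (.lf 0) (.lf 0)) (.nd (.lf 0) (.lf 0)))) (.nd (.nd (.nd (.lf 0) (.lf 0)) (.nd (.lf 0) (.lf 0))) (.nd (.nd (.lf 0) (.lf 0)) (.nd (.lf 0) (.lf 0))))) (.nd (.nd (.nd (.nd (.lf 0) (.lf 0)) (.nd (.lf 0) (.lf 0))) (.nd (.nd (.lf 0) (.lf 0)) (.nd (.lf 0) (.lf 0)))) (.nd (.nd (.nd (.lf 0) (.lf 0)) (.nd (.lf 0) (.lf 0))) (.nd (.nd (.lf 0) (.lf 0)) (.nd (.lf 0) (.lf 0)))))) (.nd (.nd (.nd (.nd (.nd (.lf 0) (.lf 0)) (.nd (.lf 0) (.lf 0))) (.nd (.nd (.lf 0) (.lf 0)) (.nd (.lf 0) (.lf 0)))) (.nd (.nd (.nd (.lf 0) (.lf 0)) (.nd (.lf 0) (.lf 0))) (.nd (.nd (.lf 0) (.lf 0)) (.nd (.lf 0) (.lf 0))))) (.nd (.nd (.nd (.nd (.lf 0) (.lf 0)) (.nd (.lf 0) (.lf 0))) (.nd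 (.nd (.lf 0) (.lf 0)) (.nd (.lf 0) (.lf 0)))) (.nd (.nd (.nd (.lf 0) (.lf 0)) (.nd (.lf 0) (.lf 0))) (.nd (.nd (.lf 0) (.lf 0)) (.nd (.lf 0) (.lf 0))))))) (.nd (.nd (.nd (.nd (.nd (.nd (.lf 0) (.lf 0)) (.nd (.lf 0) (.lf 0))) (.nd (.nd (.lf 0) (.lf 0)) (.nd (.lf 0) (.lf 0)))) (.nd (.nd (.nd (.lf 0) (.lf 0)) (.nd (.lf 0) (.lf 0))) (.nd (.nd (.lf 0) (.lf 0)) (.nd (.lf 0) (.lf 0))))) (.nd (.nd (.nd (.nd (.lf 0) (.lf 0)) (.nd (.lf 0) (.lf 0))) (.nd (.nd (.lf 0) (.lf 0)) (.nd (.lf 0) (.lf 0)))) (.nd (.nd (.nd (.lf 0) (.lf 0)) (.nd (.lf 0) (.lf 0))) (.nd (.nd (.lf 0) (.lf 0)) (.nd (.lf 0) (.lf 0)))))) (.nd (.nd (.nd (.nd (.nd (.lf 0) (.lf 0)) (.nd (.lf 0) (.lf 0))) (.nd (.nd (.lf 0) (.lf 0)) (.nd (.lf 0) (.lf 0)))) (.nd (.nd (.nd (.lf 0) (.lf 0)) (.nd (.lf 0) (.lf 0))) (.nd (.nd (.lf 0) (.lf 0)) (.nd (.lf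 0) (.lf 0))))) (.nd (.nd (.nd (.nd (.lf 0) (.lf 0)) (.nd (.lf 0) (.lf 0))) (.nd (.nd (.lf 0) (.lf 0)) (.nd (.lf 0) (.lf 0)))) (.nd (.nd (.nd (.lf 0) (.lf 0)) (.nd (.lf 0) (.lf 0))) (.nd (.nd (.lf 0) (.lf 0)) (.nd (.lf 0) (.lf 0))))))))) (.nd (.nd (.nd (.nd (.nd (.nd (.nd (.nd (.lf 0) (.lf 0)) (.nd (.lf 0) (.lf 0))) (.nd (.nd (.lf 0) (.lf 0)) (.nd (.lf 0) (.lf 0)))) (.nd (.nd (.nd (.lf 0) (.lf 0)) (.nd (.lf 0) (.lf 0))) (.nd (.nd (.lf 0) (.lf 0)) (.nd (.lf 0) (.lf 0))))) (.nd (.nd (.nd (.nd (.lf 0) (.lf 0)) (.nd (.lf 0) (.lf 0))) (.nd (.nd (.lf 0) (.lf 0)) (.nd (.lf 0) (.lf 0)))) (.nd (.nd (.nd (.lf 0) (.lf 0)) (.nd (.lf 0) (.lf 0))) (.nd (.nd (.lf 0) (.lf 0)) (.nd (.lf 0) (.lf 0)))))) (.nd (.nd (.nd (.nd (.nd (.lf 0) (.lf 0)) (.nd (.lf 0) (.lf 0))) (.nd (.nd (.lf 0) (.lf 0)) (.nd (.lf 0) (.lf 0))))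 (.nd (.nd (.nd (.lf 0) (.lf 0)) (.nd (.lf 0) (.lf 0))) (.nd (.nd (.lf 0) (.lf 0)) (.nd (.lf 0) (.lf 0))))) (.nd (.nd (.nd (.nd (.lf 0) (.lf 0)) (.nd (.lf 0) (.lf 0))) (.nd (.nd (.lf 0) (.lf 0)) (.nd (.lf 0) (.lf 0)))) (.nd (.nd (.nd (.lf 0) (.lf 0)) (.nd (.lf 0) (.lf 0))) (.nd (.nd (.lf 0) (.lf 0)) (.nd (.lf 0) (.lf 0))))))) (.nd (.nd (.nd (.nd (.nd (.nd (.lf 0) (.lf 0)) (.nd (.lf 0) (.lf 0))) (.nd (.nd (.lf 0) (.lf 0)) (.nd (.lf 0) (.lf 0)))) (.nd (.nd (.nd (.lf 0) (.lf 0)) (.nd (.lf 0) (.lf 0))) (.nd (.nd (.lf 0) (.lf 0)) (.nd (.lf 0) (.lf 0))))) (.nd (.nd (.nd (.nd (.lf 0) (.lf 0)) (.nd (.lf 0) (.lf 0))) (.nd (.nd (.lf 0) (.lf 0)) (.nd (.lf 0) (.lf 0)))) (.nd (.nd (.nd (.lf 0) (.lf 0)) (.nd (.lf 0) (.lf 0))) (.nd (.nd (.lf 0) (.lf 0)) (.nd (.lf 0) (.lf 0)))))) (.nd (.nd (.nd (.nd (.nd (.lf 0) (.lf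 0)) (.nd (.lf 0) (.lf 0))) (.nd (.nd (.lf 0) (.lf 0)) (.nd (.lf 0) (.lf 0)))) (.nd (.nd (.nd (.lf 0) (.lf 0)) (.nd (.lf 0) (.lf 0))) (.nd (.nd (.lf 0) (.lf 0)) (.nd (.lf 0) (.lf 0))))) (.nd (.nd (.nd (.nd (.lf 0) (.lf 0)) (.nd (.lf 0) (.lf 0))) (.nd (.nd (.lf 0) (.lf 0)) (.nd (.lf 0) (.lf 0)))) (.nd (.nd (.nd (.lf 0) (.lf 0)) (.nd (.lf 0) (.lf 0))) (.nd (.nd (.lf 0) (.lf 0)) (.nd (.lf 0) (.lf 0)))))))) (.nd (.nd (.nd (.nd (.nd (.nd (.nd (.lf 0) (.lf 0)) (.nd (.lf 0) (.lf 0))) (.nd (.nd (.lf 0) (.lf 0)) (.nd (.lf 0) (.lf 0)))) (.nd (.nd (.nd (.lf 0) (.lf 0)) (.nd (.lf 0) (.lf 0))) (.nd (.nd (.lf 0) (.lf 0)) (.nd (.lf 0) (.lf 0))))) (.nd (.nd (.nd (.nd (.lf 0) (.lf 0)) (.nd (.lf 0) (.lf 0))) (.nd (.nd (.lf 0) (.lf 0)) (.nd (.lf 0) (.lf 0)))) (.nd (.nd (.nd (.lf 0) (.lf 0)) (.nd (.lf 0) (.lf 0))) (.nd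 (.nd (.lf 0) (.lf 0)) (.nd (.lf 0) (.lf 0)))))) (.nd (.nd (.nd (.nd (.nd (.lf 0) (.lf 0)) (.nd (.lf 0) (.lf 0))) (.nd (.nd (.lf 0) (.lf 0)) (.nd (.lf 0) (.lf 0)))) (.nd (.nd (.nd (.lf 0) (.lf 0)) (.nd (.lf 0) (.lf 0))) (.nd (.nd (.lf 0) (.lf 0)) (.nd (.lf 0) (.lf 0))))) (.nd (.nd (.nd (.nd (.lf 0) (.lf 0)) (.nd (.lf 0) (.lf 0))) (.nd (.nd (.lf 0) (.lf 0)) (.nd (.lf 0) (.lf 0)))) (.nd (.nd (.nd (.lf 0) (.lf 0)) (.nd (.lf 0) (.lf 0))) (.nd (.nd (.lf 0) (.lf 0)) (.nd (.lf 0) (.lf 0))))))) (.nd (.nd (.nd (.nd (.nd (.nd (.lf 0) (.lf 0)) (.nd (.lf 0) (.lf 0))) (.nd (.nd (.lf 0) (.lf 0)) (.nd (.lf 0) (.lf 0)))) (.nd (.nd (.nd (.lf 0) (.lf 0)) (.nd (.lf 0) (.lf 0))) (.nd (.nd (.lf 0) (.lf 0)) (.nd (.lf 0) (.lf 0))))) (.nd (.nd (.nd (.nd (.lf 0) (.lf 0)) (.nd (.lf 0) (.lf 0))) (.nd (.nd (.lf 0) (.lf 0)) (.nd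 (.lf 0) (.lf 0)))) (.nd (.nd (.nd (.lf 0) (.lf 0)) (.nd (.lf 0) (.lf 0))) (.nd (.nd (.lf 0) (.lf 0)) (.nd (.lf 0) (.lf 0)))))) (.nd (.nd (.nd (.nd (.nd (.lf 0) (.lf 0)) (.nd (.lf 0) (.lf 0))) (.nd (.nd (.lf 0) (.lf 0)) (.nd (.lf 0) (.lf 0)))) (.nd (.nd (.nd (.lf 0) (.lf 0)) (.nd (.lf 0) (.lf 0))) (.nd (.nd (.lf 0) (.lf 0)) (.nd (.lf 0) (.lf 0))))) (.nd (.nd (.nd (.nd (.lf 0) (.lf 0)) (.nd (.lf 0) (.lf 0))) (.nd (.nd (.lf 0) (.lf 0)) (.nd (.lf 0) (.lf 0)))) (.nd (.nd (.nd (.lf 0) (.lf 0)) (.nd (.lf 0) (.lf 0))) (.nd (.nd (.lf 0) (.lf 0)) (.nd (.lf 0) (.lf 0))))))))))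

/-- table part -/
def tabX_9 : Tr :=
  .nd (.nd (.nd (.nd (.nd (.nd (.nd (.nd (.nd (.nd (.lf 0) (.lf 0)) (.nd (.lf 0) (.lf 0))) (.nd (.nd (.lf 0) (.lf 0)) (.nd (.lf 0) (.lf 0)))) (.nd (.nd (.nd (.lf 0) (.lf 0)) (.nd (.lf 0) (.lf 0))) (.nd (.nd (.lf 0) (.lf 0)) (.nd (.lf 0) (.lf 0))))) (.nd (.nd (.nd (.nd (.lf 0) (.lf 0)) (.nd (.lf 0) (.lf 0))) (.nd (.nd (.lf 0) (.lf 0)) (.nd (.lf 0) (.lf 0)))) (.nd (.nd (.nd (.lf 0) (.lf 0)) (.nd (.lf 0) (.lf 0))) (.nd (.nd (.lf 0) (.lf 0)) (.nd (.lf 0) (.lf 0)))))) (.nd (.nd (.nd (.nd (.nd (.lf 0) (.lf 0)) (.nd (.lf 0) (.lf 0))) (.nd (.nd (.lf 0) (.lf 0)) (.nd (.lf 0) (.lf 0)))) (.nd (.nd (.nd (.lf 0) (.lf 0)) (.nd (.lf 0) (.lf 0))) (.nd (.nd (.lf 0) (.lf 0)) (.nd (.lf 0) (.lf 0))))) (.nd (.nd (.nd (.nd (.lf 0) (.lf 0)) (.nd (.lf 0) (.lf 0))) (.nd (.nd (.lf 0) (.lf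 0)) (.nd (.lf 0) (.lf 0)))) (.nd (.nd (.nd (.lf 13) (.lf 0)) (.nd (.lf 0) (.lf 0))) (.nd (.nd (.lf 0) (.lf 0)) (.nd (.lf 0) (.lf 0))))))) (.nd (.nd (.nd (.nd (.nd (.nd (.lf 0) (.lf 0)) (.nd (.lf 0) (.lf 0))) (.nd (.nd (.lf 0) (.lf 0)) (.nd (.lf 0) (.lf 0)))) (.nd (.nd (.nd (.lf 0) (.lf 0)) (.nd (.lf 0) (.lf 0))) (.nd (.nd (.lf 0) (.lf 0)) (.nd (.lf 0) (.lf 0))))) (.nd (.nd (.nd (.nd (.lf 0) (.lf 0)) (.nd (.lf 0) (.lf 0))) (.nd (.nd (.lf 0) (.lf 0)) (.nd (.lf 0) (.lf 0)))) (.nd (.nd (.nd (.lf 0) (.lf 0)) (.nd (.lf 0) (.lf 0))) (.nd (.nd (.lf 0) (.lf 0)) (.nd (.lf 0) (.lf 0)))))) (.nd (.nd (.nd (.nd (.nd (.lf 0) (.lf 0)) (.nd (.lf 0) (.lf 0))) (.nd (.nd (.lf 0) (.lf 0)) (.nd (.lf 0) (.lf 0)))) (.nd (.nd (.nd (.lf 0) (.lf 0)) (.nd (.lf 0) (.lf 0))) (.nd (.nd (.lf 0) (.lf 0)) (.nd (.lf 0) (.lf 0))))) (.nd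 (.nd (.nd (.nd (.lf 0) (.lf 0)) (.nd (.lf 0) (.lf 0))) (.nd (.nd (.lf 0) (.lf 0)) (.nd (.lf 0) (.lf 0)))) (.nd (.nd (.nd (.lf 0) (.lf 0)) (.nd (.lf 0) (.lf 0))) (.nd (.nd (.lf 0) (.lf 0)) (.nd (.lf 0) (.lf 0)))))))) (.nd (.nd (.nd (.nd (.nd (.nd (.nd (.lf 0) (.lf 0)) (.nd (.lf 0) (.lf 0))) (.nd (.nd (.lf 0) (.lf 0)) (.nd (.lf 0) (.lf 0)))) (.nd (.nd (.nd (.lf 0) (.lf 0)) (.nd (.lf 0) (.lf 0))) (.nd (.nd (.lf 0) (.lf 0)) (.nd (.lf 0) (.lf 0))))) (.nd (.nd (.nd (.nd (.lf 0) (.lf 0)) (.nd (.lf 0) (.lf 0))) (.nd (.nd (.lf 0) (.lf 0)) (.nd (.lf 0) (.lf 0)))) (.nd (.nd (.nd (.lf 0) (.lf 0)) (.nd (.lf 0) (.lf 0))) (.nd (.nd (.lf 0) (.lf 0)) (.nd (.lf 0) (.lf 0)))))) (.nd (.nd (.nd (.nd (.nd (.lf 0) (.lf 0)) (.nd (.lf 0) (.lf 0))) (.nd (.nd (.lf 0) (.lf 0)) (.nd (.lf 0) (.lf 0)))) (.nd (.nd (.nd (.lf 0) (.lf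 0)) (.nd (.lf 0) (.lf 0))) (.nd (.nd (.lf 0) (.lf 0)) (.nd (.lf 0) (.lf 0))))) (.nd (.nd (.nd (.nd (.lf 0) (.lf 0)) (.nd (.lf 0) (.lf 0))) (.nd (.nd (.lf 0) (.lf 0)) (.nd (.lf 0) (.lf 0)))) (.nd (.nd (.nd (.lf 0) (.lf 0)) (.nd (.lf 0) (.lf 0))) (.nd (.nd (.lf 0) (.lf 0)) (.nd (.lf 0) (.lf 0))))))) (.nd (.nd (.nd (.nd (.nd (.nd (.lf 0) (.lf 0)) (.nd (.lf 0) (.lf 0))) (.nd (.nd (.lf 0) (.lf 0)) (.nd (.lf 0) (.lf 0)))) (.nd (.nd (.nd (.lf 0) (.lf 0)) (.nd (.lf 0) (.lf 0))) (.nd (.nd (.lf 0) (.lf 0)) (.nd (.lf 0) (.lf 0))))) (.nd (.nd (.nd (.nd (.lf 0) (.lf 0)) (.nd (.lf 0) (.lf 0))) (.nd (.nd (.lf 0) (.lf 0)) (.nd (.lf 0) (.lf 0)))) (.nd (.nd (.nd (.lf 0) (.lf 0)) (.nd (.lf 0) (.lf 0))) (.nd (.nd (.lf 0) (.lf 0)) (.nd (.lf 0) (.lf 0)))))) (.nd (.nd (.nd (.nd (.nd (.lf 0) (.lf 0)) (.nd (.lf 0) (.lf 0)))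 (.nd (.nd (.lf 0) (.lf 0)) (.nd (.lf 5) (.lf 0)))) (.nd (.nd (.nd (.lf 0) (.lf 0)) (.nd (.lf 0) (.lf 0))) (.nd (.nd (.lf 0) (.lf 0)) (.nd (.lf 0) (.lf 0))))) (.nd (.nd (.nd (.nd (.lf 0) (.lf 0)) (.nd (.lf 0) (.lf 0))) (.nd (.nd (.lf 0) (.lf 0)) (.nd (.lf 0) (.lf 0)))) (.nd (.nd (.nd (.lf 0) (.lf 0)) (.nd (.lf 0) (.lf 0))) (.nd (.nd (.lf 0) (.lf 0)) (.nd (.lf 0) (.lf 0))))))))) (.nd (.nd (.nd (.nd (.nd (.nd (.nd (.nd (.lf 0) (.lf 0)) (.nd (.lf 0) (.lf 0))) (.nd (.nd (.lf 0) (.lf 0)) (.nd (.lf 0) (.lf 0)))) (.nd (.nd (.nd (.lf 0) (.lf 0)) (.nd (.lf 0) (.lf 0))) (.nd (.nd (.lf 0) (.lf 0)) (.nd (.lf 0) (.lf 0))))) (.nd (.nd (.nd (.nd (.lf 0) (.lf 0)) (.nd (.lf 0) (.lf 0))) (.nd (.nd (.lf 0) (.lf 0)) (.nd (.lf 0) (.lf 0)))) (.nd (.nd (.nd (.lf 0) (.lf 0)) (.nd (.lf 0) (.lf 0))) (.nd (.nd (.lf 0) (.lf 0))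 (.nd (.lf 0) (.lf 0)))))) (.nd (.nd (.nd (.nd (.nd (.lf 0) (.lf 0)) (.nd (.lf 0) (.lf 0))) (.nd (.nd (.lf 0) (.lf 0)) (.nd (.lf 0) (.lf 0)))) (.nd (.nd (.nd (.lf 0) (.lf 0)) (.nd (.lf 0) (.lf 0))) (.nd (.nd (.lf 0) (.lf 0)) (.nd (.lf 0) (.lf 0))))) (.nd (.nd (.nd (.nd (.lf 0) (.lf 0)) (.nd (.lf 0) (.lf 0))) (.nd (.nd (.lf 0) (.lf 0)) (.nd (.lf 0) (.lf 0)))) (.nd (.nd (.nd (.lf 0) (.lf 0)) (.nd (.lf 0) (.lf 0))) (.nd (.nd (.lf 0) (.lf 0)) (.nd (.lf 0) (.lf 0))))))) (.nd (.nd (.nd (.nd (.nd (.nd (.lf 0) (.lf 0)) (.nd (.lf 0) (.lf 0))) (.nd (.nd (.lf 0) (.lf 0)) (.nd (.lf 0) (.lf 0)))) (.nd (.nd (.nd (.lf 0) (.lf 0)) (.nd (.lf 0) (.lf 0))) (.nd (.nd (.lf 0) (.lf 0)) (.nd (.lf 0) (.lf 0))))) (.nd (.nd (.nd (.nd (.lf 0) (.lf 0)) (.nd (.lf 0) (.lf 0))) (.nd (.nd (.lf 0) (.lf 0)) (.nd (.lf 0) (.lf 0)))) (.nd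 (.nd (.nd (.lf 0) (.lf 0)) (.nd (.lf 0) (.lf 0))) (.nd (.nd (.lf 0) (.lf 0)) (.nd (.lf 0) (.lf 0)))))) (.nd (.nd (.nd (.nd (.nd (.lf 0) (.lf 0)) (.nd (.lf 0) (.lf 0))) (.nd (.nd (.lf 0) (.lf 0)) (.nd (.lf 0) (.lf 0)))) (.nd (.nd (.nd (.lf 0) (.lf 0)) (.nd (.lf 0) (.lf 0))) (.nd (.nd (.lf 0) (.lf 0)) (.nd (.lf 0) (.lf 0))))) (.nd (.nd (.nd (.nd (.lf 0) (.lf 0)) (.nd (.lf 0) (.lf 0))) (.nd (.nd (.lf 0) (.lf 0)) (.nd (.lf 0) (.lf 0)))) (.nd (.nd (.nd (.lf 0) (.lf 0)) (.nd (.lf 0) (.lf 0))) (.nd (.nd (.lf 0) (.lf 0)) (.nd (.lf 0) (.lf 0)))))))) (.nd (.nd (.nd (.nd (.nd (.nd (.nd (.lf 0) (.lf 0)) (.nd (.lf 0) (.lf 0))) (.nd (.nd (.lf 0) (.lf 0)) (.nd (.lf 0) (.lf 0)))) (.nd (.nd (.nd (.lf 0) (.lf 0)) (.nd (.lf 0) (.lf 0))) (.nd (.nd (.lf 0) (.lf 0)) (.nd (.lf 0) (.lf 0))))) (.nd (.nd (.nd (.nd (.lf 0) (.lf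 0)) (.nd (.lf 0) (.lf 0))) (.nd (.nd (.lf 0) (.lf 0)) (.nd (.lf 0) (.lf 0)))) (.nd (.nd (.nd (.lf 0) (.lf 0)) (.nd (.lf 0) (.lf 0))) (.nd (.nd (.lf 0) (.lf 0)) (.nd (.lf 0) (.lf 0)))))) (.nd (.nd (.nd (.nd (.nd (.lf 0) (.lf 0)) (.nd (.lf 0) (.lf 0))) (.nd (.nd (.lf 0) (.lf 0)) (.nd (.lf 0) (.lf 0)))) (.nd (.nd (.nd (.lf 0) (.lf 0)) (.nd (.lf 0) (.lf 0))) (.nd (.nd (.lf 0) (.lf 0)) (.nd (.lf 10) (.lf 0))))) (.nd (.nd (.nd (.nd (.lf 0) (.lf 0)) (.nd (.lf 0) (.lf 0))) (.nd (.nd (.lf 0) (.lf 0)) (.nd (.lf 0) (.lf 0)))) (.nd (.nd (.nd (.lf 0) (.lf 0)) (.nd (.lf 0) (.lf 0))) (.nd (.nd (.lf 0) (.lf 0)) (.nd (.lf 0) (.lf 0))))))) (.nd (.nd (.nd (.nd (.nd (.nd (.lf 0) (.lf 0)) (.nd (.lf 0) (.lf 0))) (.nd (.nd (.lf 0) (.lf 0)) (.nd (.lf 0) (.lf 0)))) (.nd (.nd (.nd (.lf 0) (.lf 0)) (.nd (.lf 0) (.lf 0))) (.nd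 (.nd (.lf 0) (.lf 0)) (.nd (.lf 0) (.lf 0))))) (.nd (.nd (.nd (.nd (.lf 0) (.lf 0)) (.nd (.lf 0) (.lf 0))) (.nd (.nd (.lf 0) (.lf 0)) (.nd (.lf 0) (.lf 0)))) (.nd (.nd (.nd (.lf 0) (.lf 0)) (.nd (.lf 0) (.lf 0))) (.nd (.nd (.lf 0) (.lf 0)) (.nd (.lf 0) (.lf 0)))))) (.nd (.nd (.nd (.nd (.nd (.lf 0) (.lf 0)) (.nd (.lf 0) (.lf 0))) (.nd (.nd (.lf 0) (.lf 0)) (.nd (.lf 0) (.lf 0)))) (.nd (.nd (.nd (.lf 0) (.lf 0)) (.nd (.lf 0) (.lf 0))) (.nd (.nd (.lf 0) (.lf 0)) (.nd (.lf 0) (.lf 0))))) (.nd (.nd (.nd (.nd (.lf 0) (.lf 0)) (.nd (.lf 0) (.lf 0))) (.nd (.nd (.lf 0) (.lf 0)) (.nd (.lf 0) (.lf 0)))) (.nd (.nd (.nd (.lf 0) (.lf 0)) (.nd (.lf 0) (.lf 0))) (.nd (.nd (.lf 0) (.lf 0)) (.nd (.lf 0) (.lf 0)))))))))) (.nd (.nd (.nd (.nd (.nd (.nd (.nd (.nd (.nd (.lf 0) (.lf 0)) (.nd (.lf 0) (.lf 0))) (.nd (.nd (.lf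 0) (.lf 0)) (.nd (.lf 0) (.lf 0)))) (.nd (.nd (.nd (.lf 0) (.lf 0)) (.nd (.lf 0) (.lf 0))) (.nd (.nd (.lf 0) (.lf 0)) (.nd (.lf 0) (.lf 0))))) (.nd (.nd (.nd (.nd (.lf 0) (.lf 0)) (.nd (.lf 0) (.lf 0))) (.nd (.nd (.lf 0) (.lf 0)) (.nd (.lf 0) (.lf 0)))) (.nd (.nd (.nd (.lf 0) (.lf 0)) (.nd (.lf 0) (.lf 0))) (.nd (.nd (.lf 0) (.lf 0)) (.nd (.lf 0) (.lf 0)))))) (.nd (.nd (.nd (.nd (.nd (.lf 0) (.lf 0)) (.nd (.lf 0) (.lf 0))) (.nd (.nd (.lf 0) (.lf 0)) (.nd (.lf 0) (.lf 0)))) (.nd (.nd (.nd (.lf 0) (.lf 0)) (.nd (.lf 0) (.lf 0))) (.nd (.nd (.lf 0) (.lf 0)) (.nd (.lf 0) (.lf 0))))) (.nd (.nd (.nd (.nd (.lf 0) (.lf 0)) (.nd (.lf 0) (.lf 0))) (.nd (.nd (.lf 0) (.lf 0)) (.nd (.lf 0) (.lf 0)))) (.nd (.nd (.nd (.lf 0) (.lf 0)) (.nd (.lf 0) (.lf 0))) (.nd (.nd (.lf 0) (.lf 0)) (.nd (.lf 0) (.lf 0))))))) (.nd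 (.nd (.nd (.nd (.nd (.nd (.lf 0) (.lf 0)) (.nd (.lf 0) (.lf 0))) (.nd (.nd (.lf 0) (.lf 0)) (.nd (.lf 0) (.lf 0)))) (.nd (.nd (.nd (.lf 0) (.lf 0)) (.nd (.lf 0) (.lf 0))) (.nd (.nd (.lf 0) (.lf 0)) (.nd (.lf 0) (.lf 0))))) (.nd (.nd (.nd (.nd (.lf 0) (.lf 0)) (.nd (.lf 0) (.lf 0))) (.nd (.nd (.lf 0) (.lf 0)) (.nd (.lf 0) (.lf 0)))) (.nd (.nd (.nd (.lf 0) (.lf 0)) (.nd (.lf 0) (.lf 0))) (.nd (.nd (.lf 0) (.lf 0)) (.nd (.lf 0) (.lf 0)))))) (.nd (.nd (.nd (.nd (.nd (.lf 0) (.lf 0)) (.nd (.lf 0) (.lf 0))) (.nd (.nd (.lf 0) (.lf 0)) (.nd (.lf 0) (.lf 0)))) (.nd (.nd (.nd (.lf 0) (.lf 0)) (.nd (.lf 0) (.lf 0))) (.nd (.nd (.lf 0) (.lf 0)) (.nd (.lf 0) (.lf 0))))) (.nd (.nd (.nd (.nd (.lf 0) (.lf 0)) (.nd (.lf 0) (.lf 0))) (.nd (.nd (.lf 0) (.lf 0)) (.nd (.lf 0) (.lf 0)))) (.nd (.nd (.nd (.lf 0) (.lf 0)) (.nd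 (.lf 0) (.lf 0))) (.nd (.nd (.lf 0) (.lf 0)) (.nd (.lf 0) (.lf 0)))))))) (.nd (.nd (.nd (.nd (.nd (.nd (.nd (.lf 0) (.lf 0)) (.nd (.lf 0) (.lf 0))) (.nd (.nd (.lf 0) (.lf 0)) (.nd (.lf 0) (.lf 0)))) (.nd (.nd (.nd (.lf 0) (.lf 0)) (.nd (.lf 0) (.lf 0))) (.nd (.nd (.lf 0) (.lf 0)) (.nd (.lf 0) (.lf 0))))) (.nd (.nd (.nd (.nd (.lf 0) (.lf 0)) (.nd (.lf 0) (.lf 0))) (.nd (.nd (.lf 0) (.lf 0)) (.nd (.lf 0) (.lf 0)))) (.nd (.nd (.nd (.lf 0) (.lf 0)) (.nd (.lf 0) (.lf 0))) (.nd (.nd (.lf 0) (.lf 0)) (.nd (.lf 0) (.lf 0)))))) (.nd (.nd (.nd (.nd (.nd (.lf 0) (.lf 0)) (.nd (.lf 0) (.lf 0))) (.nd (.nd (.lf 0) (.lf 0)) (.nd (.lf 0) (.lf 0)))) (.nd (.nd (.nd (.lf 0) (.lf 0)) (.nd (.lf 0) (.lf 0))) (.nd (.nd (.lf 0) (.lf 0)) (.nd (.lf 0) (.lf 0))))) (.nd (.nd (.nd (.nd (.lf 0) (.lf 0)) (.nd (.lf 0) (.lf 0))) (.nd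 (.nd (.lf 0) (.lf 0)) (.nd (.lf 0) (.lf 0)))) (.nd (.nd (.nd (.lf 0) (.lf 0)) (.nd (.lf 0) (.lf 0))) (.nd (.nd (.lf 0) (.lf 0)) (.nd (.lf 0) (.lf 0))))))) (.nd (.nd (.nd (.nd (.nd (.nd (.lf 0) (.lf 0)) (.nd (.lf 0) (.lf 0))) (.nd (.nd (.lf 0) (.lf 0)) (.nd (.lf 0) (.lf 0)))) (.nd (.nd (.nd (.lf 0) (.lf 0)) (.nd (.lf 0) (.lf 0))) (.nd (.nd (.lf 0) (.lf 0)) (.nd (.lf 0) (.lf 0))))) (.nd (.nd (.nd (.nd (.lf 0) (.lf 0)) (.nd (.lf 0) (.lf 0))) (.nd (.nd (.lf 0) (.lf 0)) (.nd (.lf 0) (.lf 0)))) (.nd (.nd (.nd (.lf 0) (.lf 0)) (.nd (.lf 0) (.lf 0))) (.nd (.nd (.lf 0) (.lf 0)) (.nd (.lf 0) (.lf 0)))))) (.nd (.nd (.nd (.nd (.nd (.lf 0) (.lf 0)) (.nd (.lf 0) (.lf 0))) (.nd (.nd (.lf 0) (.lf 0)) (.nd (.lf 0) (.lf 0)))) (.nd (.nd (.nd (.lf 0) (.lf 0)) (.nd (.lf 0) (.lf 0))) (.nd (.nd (.lf 0) (.lf 0)) (.nd (.lf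 0) (.lf 0))))) (.nd (.nd (.nd (.nd (.lf 0) (.lf 0)) (.nd (.lf 0) (.lf 0))) (.nd (.nd (.lf 0) (.lf 0)) (.nd (.lf 0) (.lf 0)))) (.nd (.nd (.nd (.lf 0) (.lf 0)) (.nd (.lf 0) (.lf 0))) (.nd (.nd (.lf 0) (.lf 0)) (.nd (.lf 0) (.lf 0))))))))) (.nd (.nd (.nd (.nd (.nd (.nd (.nd (.nd (.lf 0) (.lf 0)) (.nd (.lf 0) (.lf 0))) (.nd (.nd (.lf 0) (.lf 0)) (.nd (.lf 0) (.lf 0)))) (.nd (.nd (.nd (.lf 0) (.lf 0)) (.nd (.lf 0) (.lf 0))) (.nd (.nd (.lf 0) (.lf 0)) (.nd (.lf 0) (.lf 0))))) (.nd (.nd (.nd (.nd (.lf 0) (.lf 0)) (.nd (.lf 0) (.lf 0))) (.nd (.nd (.lf 0) (.lf 0)) (.nd (.lf 0) (.lf 0)))) (.nd (.nd (.nd (.lf 0) (.lf 0)) (.nd (.lf 0) (.lf 0))) (.nd (.nd (.lf 0) (.lf 0)) (.nd (.lf 0) (.lf 0)))))) (.nd (.nd (.nd (.nd (.nd (.lf 0) (.lf 0)) (.nd (.lf 0) (.lf 0))) (.nd (.nd (.lf 0) (.lf 0)) (.nd (.lf 0) (.lf 0))))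 (.nd (.nd (.nd (.lf 0) (.lf 0)) (.nd (.lf 0) (.lf 0))) (.nd (.nd (.lf 0) (.lf 0)) (.nd (.lf 0) (.lf 0))))) (.nd (.nd (.nd (.nd (.lf 0) (.lf 0)) (.nd (.lf 0) (.lf 0))) (.nd (.nd (.lf 0) (.lf 0)) (.nd (.lf 0) (.lf 0)))) (.nd (.nd (.nd (.lf 0) (.lf 0)) (.nd (.lf 0) (.lf 0))) (.nd (.nd (.lf 0) (.lf 0)) (.nd (.lf 0) (.lf 0))))))) (.nd (.nd (.nd (.nd (.nd (.nd (.lf 0) (.lf 0)) (.nd (.lf 0) (.lf 0))) (.nd (.nd (.lf 0) (.lf 0)) (.nd (.lf 0) (.lf 0)))) (.nd (.nd (.nd (.lf 0) (.lf 0)) (.nd (.lf 0) (.lf 0))) (.nd (.nd (.lf 0) (.lf 0)) (.nd (.lf 0) (.lf 0))))) (.nd (.nd (.nd (.nd (.lf 0) (.lf 0)) (.nd (.lf 0) (.lf 0))) (.nd (.nd (.lf 0) (.lf 0)) (.nd (.lf 0) (.lf 0)))) (.nd (.nd (.nd (.lf 0) (.lf 0)) (.nd (.lf 0) (.lf 0))) (.nd (.nd (.lf 0) (.lf 0)) (.nd (.lf 0) (.lf 0)))))) (.nd (.nd (.nd (.nd (.nd (.lf 0) (.lf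 0)) (.nd (.lf 0) (.lf 0))) (.nd (.nd (.lf 0) (.lf 0)) (.nd (.lf 0) (.lf 0)))) (.nd (.nd (.nd (.lf 0) (.lf 0)) (.nd (.lf 0) (.lf 0))) (.nd (.nd (.lf 0) (.lf 0)) (.nd (.lf 0) (.lf 0))))) (.nd (.nd (.nd (.nd (.lf 0) (.lf 0)) (.nd (.lf 0) (.lf 0))) (.nd (.nd (.lf 0) (.lf 0)) (.nd (.lf 0) (.lf 0)))) (.nd (.nd (.nd (.lf 0) (.lf 0)) (.nd (.lf 0) (.lf 0))) (.nd (.nd (.lf 0) (.lf 0)) (.nd (.lf 0) (.lf 0)))))))) (.nd (.nd (.nd (.nd (.nd (.nd (.nd (.lf 0) (.lf 0)) (.nd (.lf 0) (.lf 0))) (.nd (.nd (.lf 0) (.lf 0)) (.nd (.lf 0) (.lf 0)))) (.nd (.nd (.nd (.lf 0) (.lf 0)) (.nd (.lf 0) (.lf 0))) (.nd (.nd (.lf 0) (.lf 0)) (.nd (.lf 0) (.lf 0))))) (.nd (.nd (.nd (.nd (.lf 0) (.lf 0)) (.nd (.lf 0) (.lf 0))) (.nd (.nd (.lf 0) (.lf 0)) (.nd (.lf 0) (.lf 0)))) (.nd (.nd (.nd (.lf 0) (.lf 0)) (.nd (.lf 0) (.lf 0))) (.nd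 (.nd (.lf 0) (.lf 0)) (.nd (.lf 0) (.lf 0)))))) (.nd (.nd (.nd (.nd (.nd (.lf 0) (.lf 0)) (.nd (.lf 0) (.lf 0))) (.nd (.nd (.lf 0) (.lf 0)) (.nd (.lf 0) (.lf 0)))) (.nd (.nd (.nd (.lf 0) (.lf 0)) (.nd (.lf 0) (.lf 0))) (.nd (.nd (.lf 0) (.lf 0)) (.nd (.lf 0) (.lf 0))))) (.nd (.nd (.nd (.nd (.lf 0) (.lf 0)) (.nd (.lf 0) (.lf 0))) (.nd (.nd (.lf 0) (.lf 0)) (.nd (.lf 0) (.lf 0)))) (.nd (.nd (.nd (.lf 0) (.lf 0)) (.nd (.lf 0) (.lf 0))) (.nd (.nd (.lf 0) (.lf 0)) (.nd (.lf 0) (.lf 0))))))) (.nd (.nd (.nd (.nd (.nd (.nd (.lf 0) (.lf 0)) (.nd (.lf 0) (.lf 0))) (.nd (.nd (.lf 0) (.lf 0)) (.nd (.lf 0) (.lf 0)))) (.nd (.nd (.nd (.lf 0) (.lf 0)) (.nd (.lf 0) (.lf 0))) (.nd (.nd (.lf 0) (.lf 0)) (.nd (.lf 0) (.lf 0))))) (.nd (.nd (.nd (.nd (.lf 0) (.lf 0)) (.nd (.lf 0) (.lf 0))) (.nd (.nd (.lf 0) (.lf 0)) (.nd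 (.lf 0) (.lf 0)))) (.nd (.nd (.nd (.lf 0) (.lf 0)) (.nd (.lf 0) (.lf 0))) (.nd (.nd (.lf 0) (.lf 0)) (.nd (.lf 0) (.lf 0)))))) (.nd (.nd (.nd (.nd (.nd (.lf 0) (.lf 0)) (.nd (.lf 0) (.lf 0))) (.nd (.nd (.lf 0) (.lf 0)) (.nd (.lf 0) (.lf 0)))) (.nd (.nd (.nd (.lf 0) (.lf 0)) (.nd (.lf 0) (.lf 0))) (.nd (.nd (.lf 0) (.lf 0)) (.nd (.lf 0) (.lf 0))))) (.nd (.nd (.nd (.nd (.lf 0) (.lf 0)) (.nd (.lf 0) (.lf 0))) (.nd (.nd (.lf 0) (.lf 0)) (.nd (.lf 0) (.lf 0)))) (.nd (.nd (.nd (.lf 0) (.lf 0)) (.nd (.lf 0) (.lf 0))) (.nd (.nd (.lf 0) (.lf 0)) (.nd (.lf 0) (.lf 0))))))))))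

/-- table part -/
def tabX_10 : Tr :=
  .nd (.nd (.nd (.nd (.nd (.nd (.nd (.nd (.nd (.nd (.lf 0) (.lf 0)) (.nd (.lf 0) (.lf 0))) (.nd (.nd (.lf 0) (.lf 0)) (.nd (.lf 0) (.lf 0)))) (.nd (.nd (.nd (.lf 0) (.lf 0)) (.nd (.lf 16) (.lf 0))) (.nd (.nd (.lf 0) (.lf 0)) (.nd (.lf 0) (.lf 0))))) (.nd (.nd (.nd (.nd (.lf 0) (.lf 0)) (.nd (.lf 0) (.lf 0))) (.nd (.nd (.lf 0) (.lf 0)) (.nd (.lf 0) (.lf 0)))) (.nd (.nd (.nd (.lf 0) (.lf 0)) (.nd (.lf 0) (.lf 0))) (.nd (.nd (.lf 0) (.lf 0)) (.nd (.lf 0) (.lf 0)))))) (.nd (.nd (.nd (.nd (.nd (.lf 0) (.lf 0)) (.nd (.lf 0) (.lf 0))) (.nd (.nd (.lf 0) (.lf 0)) (.nd (.lf 0) (.lf 0)))) (.nd (.nd (.nd (.lf 0) (.lf 0)) (.nd (.lf 0) (.lf 0))) (.nd (.nd (.lf 0) (.lf 0)) (.nd (.lf 0) (.lf 0))))) (.nd (.nd (.nd (.nd (.lf 0) (.lf 0)) (.nd (.lf 0) (.lf 0))) (.nd (.nd (.lf 0)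 (.lf 0)) (.nd (.lf 0) (.lf 0)))) (.nd (.nd (.nd (.lf 0) (.lf 0)) (.nd (.lf 0) (.lf 0))) (.nd (.nd (.lf 0) (.lf 0)) (.nd (.lf 0) (.lf 0))))))) (.nd (.nd (.nd (.nd (.nd (.nd (.lf 0) (.lf 0)) (.nd (.lf 0) (.lf 0))) (.nd (.nd (.lf 0) (.lf 0)) (.nd (.lf 0) (.lf 0)))) (.nd (.nd (.nd (.lf 0) (.lf 0)) (.nd (.lf 0) (.lf 0))) (.nd (.nd (.lf 0) (.lf 0)) (.nd (.lf 0) (.lf 0))))) (.nd (.nd (.nd (.nd (.lf 0) (.lf 0)) (.nd (.lf 0) (.lf 0))) (.nd (.nd (.lf 0) (.lf 0)) (.nd (.lf 0) (.lf 0)))) (.nd (.nd (.nd (.lf 0) (.lf 0)) (.nd (.lf 0) (.lf 0))) (.nd (.nd (.lf 0) (.lf 0)) (.nd (.lf 0) (.lf 0)))))) (.nd (.nd (.nd (.nd (.nd (.lf 0) (.lf 0)) (.nd (.lf 0) (.lf 0))) (.nd (.nd (.lf 0) (.lf 0)) (.nd (.lf 0) (.lf 0)))) (.nd (.nd (.nd (.lf 0) (.lf 0)) (.nd (.lf 0) (.lf 0))) (.nd (.nd (.lf 0) (.lf 0)) (.nd (.lf 0) (.lf 0)))))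 (.nd (.nd (.nd (.nd (.lf 0) (.lf 0)) (.nd (.lf 0) (.lf 0))) (.nd (.nd (.lf 0) (.lf 0)) (.nd (.lf 0) (.lf 0)))) (.nd (.nd (.nd (.lf 0) (.lf 0)) (.nd (.lf 0) (.lf 0))) (.nd (.nd (.lf 0) (.lf 0)) (.nd (.lf 0) (.lf 0)))))))) (.nd (.nd (.nd (.nd (.nd (.nd (.nd (.lf 0) (.lf 0)) (.nd (.lf 0) (.lf 0))) (.nd (.nd (.lf 0) (.lf 0)) (.nd (.lf 0) (.lf 0)))) (.nd (.nd (.nd (.lf 0) (.lf 0)) (.nd (.lf 0) (.lf 0))) (.nd (.nd (.lf 0) (.lf 0)) (.nd (.lf 0) (.lf 0))))) (.nd (.nd (.nd (.nd (.lf 0) (.lf 0)) (.nd (.lf 0) (.lf 0))) (.nd (.nd (.lf 0) (.lf 0)) (.nd (.lf 0) (.lf 0)))) (.nd (.nd (.nd (.lf 0) (.lf 0)) (.nd (.lf 0) (.lf 0))) (.nd (.nd (.lf 0) (.lf 0)) (.nd (.lf 0) (.lf 0)))))) (.nd (.nd (.nd (.nd (.nd (.lf 0) (.lf 0)) (.nd (.lf 0) (.lf 0))) (.nd (.nd (.lf 0) (.lf 0)) (.nd (.lf 0) (.lf 0)))) (.nd (.nd (.nd (.lf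 0) (.lf 0)) (.nd (.lf 0) (.lf 0))) (.nd (.nd (.lf 0) (.lf 0)) (.nd (.lf 0) (.lf 0))))) (.nd (.nd (.nd (.nd (.lf 0) (.lf 0)) (.nd (.lf 0) (.lf 0))) (.nd (.nd (.lf 0) (.lf 0)) (.nd (.lf 0) (.lf 0)))) (.nd (.nd (.nd (.lf 0) (.lf 0)) (.nd (.lf 0) (.lf 0))) (.nd (.nd (.lf 0) (.lf 0)) (.nd (.lf 0) (.lf 0))))))) (.nd (.nd (.nd (.nd (.nd (.nd (.lf 0) (.lf 0)) (.nd (.lf 0) (.lf 0))) (.nd (.nd (.lf 0) (.lf 0)) (.nd (.lf 0) (.lf 0)))) (.nd (.nd (.nd (.lf 0) (.lf 0)) (.nd (.lf 0) (.lf 0))) (.nd (.nd (.lf 0) (.lf 0)) (.nd (.lf 0) (.lf 0))))) (.nd (.nd (.nd (.nd (.lf 0) (.lf 0)) (.nd (.lf 0) (.lf 0))) (.nd (.nd (.lf 0) (.lf 0)) (.nd (.lf 0) (.lf 0)))) (.nd (.nd (.nd (.lf 0) (.lf 0)) (.nd (.lf 0) (.lf 0))) (.nd (.nd (.lf 0) (.lf 0)) (.nd (.lf 0) (.lf 0)))))) (.nd (.nd (.nd (.nd (.nd (.lf 0) (.lf 0)) (.nd (.lf 0)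 (.lf 0))) (.nd (.nd (.lf 0) (.lf 0)) (.nd (.lf 0) (.lf 0)))) (.nd (.nd (.nd (.lf 0) (.lf 0)) (.nd (.lf 0) (.lf 0))) (.nd (.nd (.lf 0) (.lf 0)) (.nd (.lf 0) (.lf 0))))) (.nd (.nd (.nd (.nd (.lf 0) (.lf 0)) (.nd (.lf 0) (.lf 0))) (.nd (.nd (.lf 0) (.lf 0)) (.nd (.lf 0) (.lf 0)))) (.nd (.nd (.nd (.lf 0) (.lf 0)) (.nd (.lf 0) (.lf 0))) (.nd (.nd (.lf 0) (.lf 0)) (.nd (.lf 0) (.lf 0))))))))) (.nd (.nd (.nd (.nd (.nd (.nd (.nd (.nd (.lf 0) (.lf 0)) (.nd (.lf 0) (.lf 0))) (.nd (.nd (.lf 0) (.lf 0)) (.nd (.lf 0) (.lf 0)))) (.nd (.nd (.nd (.lf 0) (.lf 0)) (.nd (.lf 0) (.lf 0))) (.nd (.nd (.lf 0) (.lf 0)) (.nd (.lf 0) (.lf 0))))) (.nd (.nd (.nd (.nd (.lf 0) (.lf 0)) (.nd (.lf 0) (.lf 0))) (.nd (.nd (.lf 0) (.lf 0)) (.nd (.lf 0) (.lf 0)))) (.nd (.nd (.nd (.lf 0) (.lf 0)) (.nd (.lf 0) (.lf 0))) (.nd (.nd (.lf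 0) (.lf 0)) (.nd (.lf 0) (.lf 0)))))) (.nd (.nd (.nd (.nd (.nd (.lf 0) (.lf 0)) (.nd (.lf 0) (.lf 0))) (.nd (.nd (.lf 0) (.lf 0)) (.nd (.lf 0) (.lf 0)))) (.nd (.nd (.nd (.lf 0) (.lf 0)) (.nd (.lf 0) (.lf 0))) (.nd (.nd (.lf 0) (.lf 0)) (.nd (.lf 0) (.lf 0))))) (.nd (.nd (.nd (.nd (.lf 0) (.lf 0)) (.nd (.lf 0) (.lf 0))) (.nd (.nd (.lf 0) (.lf 0)) (.nd (.lf 0) (.lf 0)))) (.nd (.nd (.nd (.lf 0) (.lf 0)) (.nd (.lf 0) (.lf 0))) (.nd (.nd (.lf 0) (.lf 0)) (.nd (.lf 0) (.lf 0))))))) (.nd (.nd (.nd (.nd (.nd (.nd (.lf 0) (.lf 0)) (.nd (.lf 0) (.lf 0))) (.nd (.nd (.lf 0) (.lf 0)) (.nd (.lf 0) (.lf 0)))) (.nd (.nd (.nd (.lf 0) (.lf 0)) (.nd (.lf 0) (.lf 0))) (.nd (.nd (.lf 0) (.lf 0)) (.nd (.lf 0) (.lf 0))))) (.nd (.nd (.nd (.nd (.lf 0) (.lf 0)) (.nd (.lf 0) (.lf 0))) (.nd (.nd (.lf 0) (.lf 0)) (.nd (.lf 0)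 (.lf 0)))) (.nd (.nd (.nd (.lf 0) (.lf 0)) (.nd (.lf 0) (.lf 0))) (.nd (.nd (.lf 0) (.lf 0)) (.nd (.lf 0) (.lf 0)))))) (.nd (.nd (.nd (.nd (.nd (.lf 0) (.lf 0)) (.nd (.lf 0) (.lf 0))) (.nd (.nd (.lf 0) (.lf 0)) (.nd (.lf 0) (.lf 0)))) (.nd (.nd (.nd (.lf 0) (.lf 0)) (.nd (.lf 0) (.lf 0))) (.nd (.nd (.lf 0) (.lf 0)) (.nd (.lf 0) (.lf 0))))) (.nd (.nd (.nd (.nd (.lf 0) (.lf 0)) (.nd (.lf 0) (.lf 0))) (.nd (.nd (.lf 0) (.lf 0)) (.nd (.lf 0) (.lf 0)))) (.nd (.nd (.nd (.lf 0) (.lf 0)) (.nd (.lf 0) (.lf 0))) (.nd (.nd (.lf 0) (.lf 0)) (.nd (.lf 0) (.lf 0)))))))) (.nd (.nd (.nd (.nd (.nd (.nd (.nd (.lf 0) (.lf 0)) (.nd (.lf 0) (.lf 0))) (.nd (.nd (.lf 0) (.lf 0)) (.nd (.lf 0) (.lf 0)))) (.nd (.nd (.nd (.lf 0) (.lf 0)) (.nd (.lf 0) (.lf 0))) (.nd (.nd (.lf 0) (.lf 0)) (.nd (.lf 0) (.lf 0))))) (.nd (.nd (.nd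 (.nd (.lf 0) (.lf 0)) (.nd (.lf 0) (.lf 0))) (.nd (.nd (.lf 0) (.lf 0)) (.nd (.lf 0) (.lf 0)))) (.nd (.nd (.nd (.lf 0) (.lf 0)) (.nd (.lf 0) (.lf 0))) (.nd (.nd (.lf 0) (.lf 0)) (.nd (.lf 0) (.lf 0)))))) (.nd (.nd (.nd (.nd (.nd (.lf 0) (.lf 0)) (.nd (.lf 0) (.lf 0))) (.nd (.nd (.lf 0) (.lf 0)) (.nd (.lf 0) (.lf 0)))) (.nd (.nd (.nd (.lf 0) (.lf 0)) (.nd (.lf 0) (.lf 0))) (.nd (.nd (.lf 0) (.lf 0)) (.nd (.lf 0) (.lf 0))))) (.nd (.nd (.nd (.nd (.lf 0) (.lf 0)) (.nd (.lf 0) (.lf 0))) (.nd (.nd (.lf 0) (.lf 0)) (.nd (.lf 0) (.lf 0)))) (.nd (.nd (.nd (.lf 0) (.lf 0)) (.nd (.lf 0) (.lf 0))) (.nd (.nd (.lf 0) (.lf 0)) (.nd (.lf 0) (.lf 0))))))) (.nd (.nd (.nd (.nd (.nd (.nd (.lf 0) (.lf 0)) (.nd (.lf 0) (.lf 0))) (.nd (.nd (.lf 0) (.lf 0)) (.nd (.lf 0) (.lf 0)))) (.nd (.nd (.nd (.lf 0) (.lf 0)) (.nd (.lf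 0) (.lf 0))) (.nd (.nd (.lf 0) (.lf 0)) (.nd (.lf 0) (.lf 0))))) (.nd (.nd (.nd (.nd (.lf 0) (.lf 0)) (.nd (.lf 0) (.lf 0))) (.nd (.nd (.lf 0) (.lf 0)) (.nd (.lf 0) (.lf 0)))) (.nd (.nd (.nd (.lf 0) (.lf 0)) (.nd (.lf 0) (.lf 0))) (.nd (.nd (.lf 0) (.lf 0)) (.nd (.lf 0) (.lf 0)))))) (.nd (.nd (.nd (.nd (.nd (.lf 0) (.lf 0)) (.nd (.lf 0) (.lf 0))) (.nd (.nd (.lf 0) (.lf 0)) (.nd (.lf 0) (.lf 0)))) (.nd (.nd (.nd (.lf 0) (.lf 0)) (.nd (.lf 0) (.lf 0))) (.nd (.nd (.lf 0) (.lf 0)) (.nd (.lf 0) (.lf 0))))) (.nd (.nd (.nd (.nd (.lf 0) (.lf 0)) (.nd (.lf 0) (.lf 0))) (.nd (.nd (.lf 0) (.lf 0)) (.nd (.lf 0) (.lf 0)))) (.nd (.nd (.nd (.lf 0) (.lf 0)) (.nd (.lf 0) (.lf 0))) (.nd (.nd (.lf 0) (.lf 0)) (.nd (.lf 0) (.lf 0)))))))))) (.nd (.nd (.nd (.nd (.nd (.nd (.nd (.nd (.nd (.lf 0) (.lf 0)) (.nd (.lf 0) (.lf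 0))) (.nd (.nd (.lf 0) (.lf 0)) (.nd (.lf 0) (.lf 0)))) (.nd (.nd (.nd (.lf 0) (.lf 0)) (.nd (.lf 0) (.lf 0))) (.nd (.nd (.lf 0) (.lf 0)) (.nd (.lf 0) (.lf 0))))) (.nd (.nd (.nd (.nd (.lf 0) (.lf 0)) (.nd (.lf 0) (.lf 0))) (.nd (.nd (.lf 0) (.lf 0)) (.nd (.lf 0) (.lf 0)))) (.nd (.nd (.nd (.lf 0) (.lf 0)) (.nd (.lf 0) (.lf 0))) (.nd (.nd (.lf 0) (.lf 0)) (.nd (.lf 0) (.lf 0)))))) (.nd (.nd (.nd (.nd (.nd (.lf 0) (.lf 0)) (.nd (.lf 0) (.lf 0))) (.nd (.nd (.lf 0) (.lf 0)) (.nd (.lf 0) (.lf 0)))) (.nd (.nd (.nd (.lf 0) (.lf 0)) (.nd (.lf 0) (.lf 0))) (.nd (.nd (.lf 0) (.lf 0)) (.nd (.lf 0) (.lf 0))))) (.nd (.nd (.nd (.nd (.lf 0) (.lf 0)) (.nd (.lf 0) (.lf 0))) (.nd (.nd (.lf 0) (.lf 0)) (.nd (.lf 0) (.lf 0)))) (.nd (.nd (.nd (.lf 0) (.lf 0)) (.nd (.lf 0) (.lf 0))) (.nd (.nd (.lf 0) (.lf 0)) (.nd (.lf 0)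 (.lf 0))))))) (.nd (.nd (.nd (.nd (.nd (.nd (.lf 0) (.lf 0)) (.nd (.lf 0) (.lf 0))) (.nd (.nd (.lf 0) (.lf 0)) (.nd (.lf 0) (.lf 0)))) (.nd (.nd (.nd (.lf 0) (.lf 0)) (.nd (.lf 0) (.lf 0))) (.nd (.nd (.lf 0) (.lf 0)) (.nd (.lf 0) (.lf 0))))) (.nd (.nd (.nd (.nd (.lf 0) (.lf 0)) (.nd (.lf 0) (.lf 0))) (.nd (.nd (.lf 0) (.lf 0)) (.nd (.lf 0) (.lf 0)))) (.nd (.nd (.nd (.lf 0) (.lf 0)) (.nd (.lf 0) (.lf 0))) (.nd (.nd (.lf 0) (.lf 0)) (.nd (.lf 0) (.lf 0)))))) (.nd (.nd (.nd (.nd (.nd (.lf 0) (.lf 0)) (.nd (.lf 0) (.lf 0))) (.nd (.nd (.lf 0) (.lf 0)) (.nd (.lf 0) (.lf 0)))) (.nd (.nd (.nd (.lf 0) (.lf 0)) (.nd (.lf 0) (.lf 0))) (.nd (.nd (.lf 0) (.lf 0)) (.nd (.lf 0) (.lf 0))))) (.nd (.nd (.nd (.nd (.lf 0) (.lf 0)) (.nd (.lf 0) (.lf 0))) (.nd (.nd (.lf 0) (.lf 0)) (.nd (.lf 0) (.lf 0)))) (.nd (.nd (.nd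 (.lf 0) (.lf 0)) (.nd (.lf 0) (.lf 0))) (.nd (.nd (.lf 0) (.lf 0)) (.nd (.lf 0) (.lf 0)))))))) (.nd (.nd (.nd (.nd (.nd (.nd (.nd (.lf 0) (.lf 0)) (.nd (.lf 0) (.lf 0))) (.nd (.nd (.lf 0) (.lf 0)) (.nd (.lf 0) (.lf 0)))) (.nd (.nd (.nd (.lf 0) (.lf 0)) (.nd (.lf 0) (.lf 0))) (.nd (.nd (.lf 0) (.lf 0)) (.nd (.lf 0) (.lf 0))))) (.nd (.nd (.nd (.nd (.lf 0) (.lf 0)) (.nd (.lf 0) (.lf 0))) (.nd (.nd (.lf 0) (.lf 0)) (.nd (.lf 0) (.lf 0)))) (.nd (.nd (.nd (.lf 0) (.lf 0)) (.nd (.lf 0) (.lf 0))) (.nd (.nd (.lf 0) (.lf 0)) (.nd (.lf 0) (.lf 0)))))) (.nd (.nd (.nd (.nd (.nd (.lf 0) (.lf 0)) (.nd (.lf 0) (.lf 0))) (.nd (.nd (.lf 0) (.lf 0)) (.nd (.lf 0) (.lf 0)))) (.nd (.nd (.nd (.lf 0) (.lf 0)) (.nd (.lf 0) (.lf 0))) (.nd (.nd (.lf 0) (.lf 0)) (.nd (.lf 0) (.lf 0))))) (.nd (.nd (.nd (.nd (.lf 0) (.lf 0)) (.nd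 (.lf 0) (.lf 0))) (.nd (.nd (.lf 0) (.lf 0)) (.nd (.lf 0) (.lf 0)))) (.nd (.nd (.nd (.lf 0) (.lf 0)) (.nd (.lf 0) (.lf 0))) (.nd (.nd (.lf 0) (.lf 0)) (.nd (.lf 0) (.lf 0))))))) (.nd (.nd (.nd (.nd (.nd (.nd (.lf 0) (.lf 0)) (.nd (.lf 0) (.lf 0))) (.nd (.nd (.lf 0) (.lf 0)) (.nd (.lf 0) (.lf 0)))) (.nd (.nd (.nd (.lf 0) (.lf 0)) (.nd (.lf 0) (.lf 0))) (.nd (.nd (.lf 0) (.lf 0)) (.nd (.lf 0) (.lf 0))))) (.nd (.nd (.nd (.nd (.lf 0) (.lf 0)) (.nd (.lf 0) (.lf 0))) (.nd (.nd (.lf 0) (.lf 0)) (.nd (.lf 0) (.lf 0)))) (.nd (.nd (.nd (.lf 0) (.lf 0)) (.nd (.lf 0) (.lf 0))) (.nd (.nd (.lf 0) (.lf 0)) (.nd (.lf 0) (.lf 0)))))) (.nd (.nd (.nd (.nd (.nd (.lf 0) (.lf 0)) (.nd (.lf 0) (.lf 0))) (.nd (.nd (.lf 0) (.lf 0)) (.nd (.lf 0) (.lf 0)))) (.nd (.nd (.nd (.lf 0) (.lf 0)) (.nd (.lf 0) (.lf 0))) (.nd (.nd (.lf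 0) (.lf 0)) (.nd (.lf 0) (.lf 0))))) (.nd (.nd (.nd (.nd (.lf 0) (.lf 0)) (.nd (.lf 0) (.lf 0))) (.nd (.nd (.lf 0) (.lf 0)) (.nd (.lf 0) (.lf 0)))) (.nd (.nd (.nd (.lf 0) (.lf 0)) (.nd (.lf 0) (.lf 0))) (.nd (.nd (.lf 0) (.lf 0)) (.nd (.lf 0) (.lf 0))))))))) (.nd (.nd (.nd (.nd (.nd (.nd (.nd (.nd (.lf 0) (.lf 0)) (.nd (.lf 0) (.lf 0))) (.nd (.nd (.lf 0) (.lf 0)) (.nd (.lf 0) (.lf 0)))) (.nd (.nd (.nd (.lf 0) (.lf 0)) (.nd (.lf 0) (.lf 0))) (.nd (.nd (.lf 0) (.lf 0)) (.nd (.lf 0) (.lf 0))))) (.nd (.nd (.nd (.nd (.lf 0) (.lf 0)) (.nd (.lf 0) (.lf 0))) (.nd (.nd (.lf 3) (.lf 0)) (.nd (.lf 0) (.lf 0)))) (.nd (.nd (.nd (.lf 0) (.lf 0)) (.nd (.lf 0) (.lf 0))) (.nd (.nd (.lf 0) (.lf 0)) (.nd (.lf 0) (.lf 0)))))) (.nd (.nd (.nd (.nd (.nd (.lf 0) (.lf 0)) (.nd (.lf 0) (.lf 0))) (.nd (.nd (.lf 0) (.lf 0)) (.nd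 (.lf 0) (.lf 0)))) (.nd (.nd (.nd (.lf 0) (.lf 0)) (.nd (.lf 0) (.lf 0))) (.nd (.nd (.lf 0) (.lf 0)) (.nd (.lf 0) (.lf 0))))) (.nd (.nd (.nd (.nd (.lf 0) (.lf 0)) (.nd (.lf 0) (.lf 0))) (.nd (.nd (.lf 0) (.lf 0)) (.nd (.lf 0) (.lf 0)))) (.nd (.nd (.nd (.lf 0) (.lf 0)) (.nd (.lf 0) (.lf 0))) (.nd (.nd (.lf 0) (.lf 0)) (.nd (.lf 0) (.lf 0))))))) (.nd (.nd (.nd (.nd (.nd (.nd (.lf 0) (.lf 0)) (.nd (.lf 0) (.lf 0))) (.nd (.nd (.lf 0) (.lf 0)) (.nd (.lf 0) (.lf 0)))) (.nd (.nd (.nd (.lf 0) (.lf 0)) (.nd (.lf 0) (.lf 0))) (.nd (.nd (.lf 0) (.lf 0)) (.nd (.lf 0) (.lf 0))))) (.nd (.nd (.nd (.nd (.lf 0) (.lf 0)) (.nd (.lf 0) (.lf 0))) (.nd (.nd (.lf 0) (.lf 0)) (.nd (.lf 0) (.lf 0)))) (.nd (.nd (.nd (.lf 0) (.lf 0)) (.nd (.lf 0) (.lf 0))) (.nd (.nd (.lf 0) (.lf 0)) (.nd (.lf 0) (.lf 0)))))) (.nd (.nd (.nd (.nd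 (.nd (.lf 0) (.lf 0)) (.nd (.lf 0) (.lf 0))) (.nd (.nd (.lf 0) (.lf 0)) (.nd (.lf 0) (.lf 0)))) (.nd (.nd (.nd (.lf 0) (.lf 0)) (.nd (.lf 0) (.lf 0))) (.nd (.nd (.lf 0) (.lf 0)) (.nd (.lf 0) (.lf 0))))) (.nd (.nd (.nd (.nd (.lf 0) (.lf 0)) (.nd (.lf 0) (.lf 0))) (.nd (.nd (.lf 0) (.lf 0)) (.nd (.lf 0) (.lf 0)))) (.nd (.nd (.nd (.lf 0) (.lf 0)) (.nd (.lf 0) (.lf 0))) (.nd (.nd (.lf 0) (.lf 0)) (.nd (.lf 0) (.lf 0)))))))) (.nd (.nd (.nd (.nd (.nd (.nd (.nd (.lf 0) (.lf 0)) (.nd (.lf 0) (.lf 0))) (.nd (.nd (.lf 0) (.lf 0)) (.nd (.lf 0) (.lf 0)))) (.nd (.nd (.nd (.lf 0) (.lf 0)) (.nd (.lf 0) (.lf 0))) (.nd (.nd (.lf 0) (.lf 0)) (.nd (.lf 0) (.lf 0))))) (.nd (.nd (.nd (.nd (.lf 0) (.lf 0)) (.nd (.lf 0) (.lf 0))) (.nd (.nd (.lf 0) (.lf 0)) (.nd (.lf 0) (.lf 0)))) (.nd (.nd (.nd (.lf 0) (.lf 0)) (.nd (.lf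 0) (.lf 0))) (.nd (.nd (.lf 0) (.lf 0)) (.nd (.lf 0) (.lf 0)))))) (.nd (.nd (.nd (.nd (.nd (.lf 0) (.lf 0)) (.nd (.lf 0) (.lf 0))) (.nd (.nd (.lf 0) (.lf 0)) (.nd (.lf 0) (.lf 0)))) (.nd (.nd (.nd (.lf 0) (.lf 0)) (.nd (.lf 0) (.lf 0))) (.nd (.nd (.lf 0) (.lf 0)) (.nd (.lf 0) (.lf 0))))) (.nd (.nd (.nd (.nd (.lf 0) (.lf 0)) (.nd (.lf 0) (.lf 0))) (.nd (.nd (.lf 0) (.lf 0)) (.nd (.lf 0) (.lf 0)))) (.nd (.nd (.nd (.lf 0) (.lf 0)) (.nd (.lf 0) (.lf 0))) (.nd (.nd (.lf 0) (.lf 0)) (.nd (.lf 0) (.lf 0))))))) (.nd (.nd (.nd (.nd (.nd (.nd (.lf 0) (.lf 0)) (.nd (.lf 0) (.lf 0))) (.nd (.nd (.lf 0) (.lf 0)) (.nd (.lf 0) (.lf 0)))) (.nd (.nd (.nd (.lf 0) (.lf 0)) (.nd (.lf 0) (.lf 0))) (.nd (.nd (.lf 0) (.lf 0)) (.nd (.lf 0) (.lf 0))))) (.nd (.nd (.nd (.nd (.lf 0) (.lf 0)) (.nd (.lf 0) (.lf 0))) (.nd (.nd (.lf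 0) (.lf 0)) (.nd (.lf 0) (.lf 0)))) (.nd (.nd (.nd (.lf 0) (.lf 0)) (.nd (.lf 0) (.lf 0))) (.nd (.nd (.lf 0) (.lf 0)) (.nd (.lf 0) (.lf 0)))))) (.nd (.nd (.nd (.nd (.nd (.lf 0) (.lf 0)) (.nd (.lf 0) (.lf 0))) (.nd (.nd (.lf 0) (.lf 0)) (.nd (.lf 0) (.lf 0)))) (.nd (.nd (.nd (.lf 0) (.lf 0)) (.nd (.lf 0) (.lf 0))) (.nd (.nd (.lf 0) (.lf 0)) (.nd (.lf 0) (.lf 0))))) (.nd (.nd (.nd (.nd (.lf 0) (.lf 0)) (.nd (.lf 0) (.lf 0))) (.nd (.nd (.lf 0) (.lf 0)) (.nd (.lf 0) (.lf 0)))) (.nd (.nd (.nd (.lf 0) (.lf 0)) (.nd (.lf 0) (.lf 0))) (.nd (.nd (.lf 0) (.lf 0)) (.nd (.lf 0) (.lf 0))))))))))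

/-- table part -/
def tabX_11 : Tr :=
  .nd (.nd (.nd (.nd (.nd (.nd (.nd (.nd (.nd (.nd (.lf 0) (.lf 0)) (.nd (.lf 0) (.lf 0))) (.nd (.nd (.lf 0) (.lf 0)) (.nd (.lf 0) (.lf 0)))) (.nd (.nd (.nd (.lf 0) (.lf 0)) (.nd (.lf 0) (.lf 0))) (.nd (.nd (.lf 0) (.lf 0)) (.nd (.lf 0) (.lf 0))))) (.nd (.nd (.nd (.nd (.lf 0) (.lf 0)) (.nd (.lf 0) (.lf 0))) (.nd (.nd (.lf 0) (.lf 0)) (.nd (.lf 0) (.lf 0)))) (.nd (.nd (.nd (.lf 0) (.lf 0)) (.nd (.lf 0) (.lf 0))) (.nd (.nd (.lf 0) (.lf 0)) (.nd (.lf 0) (.lf 0)))))) (.nd (.nd (.nd (.nd (.nd (.lf 0) (.lf 0)) (.nd (.lf 0) (.lf 0))) (.nd (.nd (.lf 0) (.lf 0)) (.nd (.lf 0) (.lf 0)))) (.nd (.nd (.nd (.lf 0) (.lf 0)) (.nd (.lf 0) (.lf 0))) (.nd (.nd (.lf 0) (.lf 0)) (.nd (.lf 0) (.lf 0))))) (.nd (.nd (.nd (.nd (.lf 0) (.lf 0)) (.nd (.lf 0) (.lf 0))) (.nd (.nd (.lf 0) (.lf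 0)) (.nd (.lf 0) (.lf 0)))) (.nd (.nd (.nd (.lf 0) (.lf 0)) (.nd (.lf 0) (.lf 0))) (.nd (.nd (.lf 0) (.lf 0)) (.nd (.lf 0) (.lf 0))))))) (.nd (.nd (.nd (.nd (.nd (.nd (.lf 0) (.lf 0)) (.nd (.lf 0) (.lf 0))) (.nd (.nd (.lf 0) (.lf 0)) (.nd (.lf 0) (.lf 0)))) (.nd (.nd (.nd (.lf 0) (.lf 0)) (.nd (.lf 0) (.lf 0))) (.nd (.nd (.lf 0) (.lf 0)) (.nd (.lf 0) (.lf 0))))) (.nd (.nd (.nd (.nd (.lf 0) (.lf 0)) (.nd (.lf 0) (.lf 0))) (.nd (.nd (.lf 0) (.lf 0)) (.nd (.lf 0) (.lf 0)))) (.nd (.nd (.nd (.lf 0) (.lf 0)) (.nd (.lf 0) (.lf 0))) (.nd (.nd (.lf 0) (.lf 0)) (.nd (.lf 0) (.lf 0)))))) (.nd (.nd (.nd (.nd (.nd (.lf 0) (.lf 0)) (.nd (.lf 0) (.lf 0))) (.nd (.nd (.lf 0) (.lf 0)) (.nd (.lf 0) (.lf 0)))) (.nd (.nd (.nd (.lf 0) (.lf 0)) (.nd (.lf 0) (.lf 0))) (.nd (.nd (.lf 0) (.lf 0)) (.nd (.lf 0) (.lf 0))))) (.nd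 (.nd (.nd (.nd (.lf 0) (.lf 0)) (.nd (.lf 0) (.lf 0))) (.nd (.nd (.lf 0) (.lf 0)) (.nd (.lf 0) (.lf 0)))) (.nd (.nd (.nd (.lf 0) (.lf 0)) (.nd (.lf 0) (.lf 0))) (.nd (.nd (.lf 0) (.lf 0)) (.nd (.lf 0) (.lf 0)))))))) (.nd (.nd (.nd (.nd (.nd (.nd (.nd (.lf 0) (.lf 0)) (.nd (.lf 0) (.lf 0))) (.nd (.nd (.lf 0) (.lf 0)) (.nd (.lf 0) (.lf 0)))) (.nd (.nd (.nd (.lf 0) (.lf 0)) (.nd (.lf 0) (.lf 0))) (.nd (.nd (.lf 0) (.lf 0)) (.nd (.lf 0) (.lf 0))))) (.nd (.nd (.nd (.nd (.lf 0) (.lf 0)) (.nd (.lf 0) (.lf 0))) (.nd (.nd (.lf 0) (.lf 0)) (.nd (.lf 0) (.lf 0)))) (.nd (.nd (.nd (.lf 0) (.lf 0)) (.nd (.lf 0) (.lf 0))) (.nd (.nd (.lf 0) (.lf 0)) (.nd (.lf 0) (.lf 0)))))) (.nd (.nd (.nd (.nd (.nd (.lf 0) (.lf 0)) (.nd (.lf 0) (.lf 0))) (.nd (.nd (.lf 0) (.lf 0)) (.nd (.lf 0) (.lf 0)))) (.nd (.nd (.nd (.lf 0) (.lf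 0)) (.nd (.lf 0) (.lf 0))) (.nd (.nd (.lf 0) (.lf 0)) (.nd (.lf 0) (.lf 0))))) (.nd (.nd (.nd (.nd (.lf 0) (.lf 0)) (.nd (.lf 0) (.lf 0))) (.nd (.nd (.lf 0) (.lf 0)) (.nd (.lf 0) (.lf 0)))) (.nd (.nd (.nd (.lf 0) (.lf 0)) (.nd (.lf 0) (.lf 0))) (.nd (.nd (.lf 0) (.lf 0)) (.nd (.lf 0) (.lf 0))))))) (.nd (.nd (.nd (.nd (.nd (.nd (.lf 0) (.lf 0)) (.nd (.lf 0) (.lf 0))) (.nd (.nd (.lf 0) (.lf 0)) (.nd (.lf 0) (.lf 0)))) (.nd (.nd (.nd (.lf 0) (.lf 0)) (.nd (.lf 0) (.lf 0))) (.nd (.nd (.lf 0) (.lf 0)) (.nd (.lf 0) (.lf 0))))) (.nd (.nd (.nd (.nd (.lf 0) (.lf 0)) (.nd (.lf 0) (.lf 0))) (.nd (.nd (.lf 0) (.lf 0)) (.nd (.lf 0) (.lf 0)))) (.nd (.nd (.nd (.lf 0) (.lf 0)) (.nd (.lf 0) (.lf 0))) (.nd (.nd (.lf 0) (.lf 0)) (.nd (.lf 0) (.lf 0)))))) (.nd (.nd (.nd (.nd (.nd (.lf 0) (.lf 0)) (.nd (.lf 0) (.lf 0)))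 (.nd (.nd (.lf 0) (.lf 0)) (.nd (.lf 0) (.lf 0)))) (.nd (.nd (.nd (.lf 0) (.lf 0)) (.nd (.lf 0) (.lf 0))) (.nd (.nd (.lf 0) (.lf 0)) (.nd (.lf 0) (.lf 0))))) (.nd (.nd (.nd (.nd (.lf 0) (.lf 0)) (.nd (.lf 0) (.lf 0))) (.nd (.nd (.lf 0) (.lf 0)) (.nd (.lf 0) (.lf 0)))) (.nd (.nd (.nd (.lf 0) (.lf 0)) (.nd (.lf 0) (.lf 0))) (.nd (.nd (.lf 0) (.lf 0)) (.nd (.lf 0) (.lf 0))))))))) (.nd (.nd (.nd (.nd (.nd (.nd (.nd (.nd (.lf 0) (.lf 0)) (.nd (.lf 0) (.lf 0))) (.nd (.nd (.lf 0) (.lf 0)) (.nd (.lf 0) (.lf 0)))) (.nd (.nd (.nd (.lf 0) (.lf 0)) (.nd (.lf 0) (.lf 0))) (.nd (.nd (.lf 0) (.lf 0)) (.nd (.lf 0) (.lf 0))))) (.nd (.nd (.nd (.nd (.lf 0) (.lf 0)) (.nd (.lf 0) (.lf 0))) (.nd (.nd (.lf 0) (.lf 0)) (.nd (.lf 0) (.lf 0)))) (.nd (.nd (.nd (.lf 0) (.lf 0)) (.nd (.lf 0) (.lf 0))) (.nd (.nd (.lf 0) (.lf 0))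 (.nd (.lf 0) (.lf 0)))))) (.nd (.nd (.nd (.nd (.nd (.lf 0) (.lf 0)) (.nd (.lf 0) (.lf 0))) (.nd (.nd (.lf 0) (.lf 0)) (.nd (.lf 0) (.lf 0)))) (.nd (.nd (.nd (.lf 0) (.lf 0)) (.nd (.lf 0) (.lf 0))) (.nd (.nd (.lf 0) (.lf 0)) (.nd (.lf 0) (.lf 0))))) (.nd (.nd (.nd (.nd (.lf 0) (.lf 0)) (.nd (.lf 0) (.lf 0))) (.nd (.nd (.lf 0) (.lf 0)) (.nd (.lf 0) (.lf 0)))) (.nd (.nd (.nd (.lf 0) (.lf 0)) (.nd (.lf 0) (.lf 0))) (.nd (.nd (.lf 0) (.lf 0)) (.nd (.lf 0) (.lf 0))))))) (.nd (.nd (.nd (.nd (.nd (.nd (.lf 0) (.lf 0)) (.nd (.lf 0) (.lf 0))) (.nd (.nd (.lf 0) (.lf 0)) (.nd (.lf 0) (.lf 0)))) (.nd (.nd (.nd (.lf 0) (.lf 0)) (.nd (.lf 0) (.lf 0))) (.nd (.nd (.lf 0) (.lf 0)) (.nd (.lf 0) (.lf 0))))) (.nd (.nd (.nd (.nd (.lf 0) (.lf 0)) (.nd (.lf 0) (.lf 0))) (.nd (.nd (.lf 0) (.lf 0)) (.nd (.lf 0) (.lf 0)))) (.nd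 (.nd (.nd (.lf 0) (.lf 0)) (.nd (.lf 0) (.lf 0))) (.nd (.nd (.lf 0) (.lf 0)) (.nd (.lf 0) (.lf 0)))))) (.nd (.nd (.nd (.nd (.nd (.lf 0) (.lf 0)) (.nd (.lf 0) (.lf 0))) (.nd (.nd (.lf 0) (.lf 0)) (.nd (.lf 0) (.lf 0)))) (.nd (.nd (.nd (.lf 0) (.lf 0)) (.nd (.lf 0) (.lf 0))) (.nd (.nd (.lf 0) (.lf 0)) (.nd (.lf 0) (.lf 0))))) (.nd (.nd (.nd (.nd (.lf 0) (.lf 0)) (.nd (.lf 0) (.lf 0))) (.nd (.nd (.lf 0) (.lf 0)) (.nd (.lf 0) (.lf 0)))) (.nd (.nd (.nd (.lf 0) (.lf 0)) (.nd (.lf 0) (.lf 0))) (.nd (.nd (.lf 0) (.lf 0)) (.nd (.lf 0) (.lf 0)))))))) (.nd (.nd (.nd (.nd (.nd (.nd (.nd (.lf 0) (.lf 0)) (.nd (.lf 0) (.lf 0))) (.nd (.nd (.lf 0) (.lf 0)) (.nd (.lf 0) (.lf 0)))) (.nd (.nd (.nd (.lf 0) (.lf 0)) (.nd (.lf 0) (.lf 0))) (.nd (.nd (.lf 0) (.lf 0)) (.nd (.lf 0) (.lf 0))))) (.nd (.nd (.nd (.nd (.lf 0) (.lf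 0)) (.nd (.lf 0) (.lf 0))) (.nd (.nd (.lf 0) (.lf 0)) (.nd (.lf 0) (.lf 0)))) (.nd (.nd (.nd (.lf 0) (.lf 0)) (.nd (.lf 0) (.lf 0))) (.nd (.nd (.lf 0) (.lf 0)) (.nd (.lf 0) (.lf 0)))))) (.nd (.nd (.nd (.nd (.nd (.lf 0) (.lf 0)) (.nd (.lf 0) (.lf 0))) (.nd (.nd (.lf 0) (.lf 0)) (.nd (.lf 0) (.lf 0)))) (.nd (.nd (.nd (.lf 0) (.lf 0)) (.nd (.lf 0) (.lf 0))) (.nd (.nd (.lf 0) (.lf 0)) (.nd (.lf 0) (.lf 0))))) (.nd (.nd (.nd (.nd (.lf 0) (.lf 0)) (.nd (.lf 0) (.lf 0))) (.nd (.nd (.lf 0) (.lf 0)) (.nd (.lf 0) (.lf 0)))) (.nd (.nd (.nd (.lf 0) (.lf 0)) (.nd (.lf 0) (.lf 0))) (.nd (.nd (.lf 0) (.lf 0)) (.nd (.lf 0) (.lf 0))))))) (.nd (.nd (.nd (.nd (.nd (.nd (.lf 0) (.lf 0)) (.nd (.lf 0) (.lf 0))) (.nd (.nd (.lf 0) (.lf 0)) (.nd (.lf 0) (.lf 0)))) (.nd (.nd (.nd (.lf 0) (.lf 0)) (.nd (.lf 0) (.lf 0))) (.nd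 (.nd (.lf 0) (.lf 0)) (.nd (.lf 0) (.lf 0))))) (.nd (.nd (.nd (.nd (.lf 0) (.lf 0)) (.nd (.lf 0) (.lf 0))) (.nd (.nd (.lf 0) (.lf 0)) (.nd (.lf 0) (.lf 0)))) (.nd (.nd (.nd (.lf 0) (.lf 0)) (.nd (.lf 0) (.lf 0))) (.nd (.nd (.lf 0) (.lf 0)) (.nd (.lf 0) (.lf 0)))))) (.nd (.nd (.nd (.nd (.nd (.lf 0) (.lf 0)) (.nd (.lf 0) (.lf 0))) (.nd (.nd (.lf 0) (.lf 0)) (.nd (.lf 0) (.lf 0)))) (.nd (.nd (.nd (.lf 0) (.lf 0)) (.nd (.lf 0) (.lf 0))) (.nd (.nd (.lf 0) (.lf 0)) (.nd (.lf 0) (.lf 0))))) (.nd (.nd (.nd (.nd (.lf 0) (.lf 0)) (.nd (.lf 0) (.lf 0))) (.nd (.nd (.lf 0) (.lf 0)) (.nd (.lf 0) (.lf 0)))) (.nd (.nd (.nd (.lf 0) (.lf 0)) (.nd (.lf 0) (.lf 0))) (.nd (.nd (.lf 0) (.lf 0)) (.nd (.lf 0) (.lf 0)))))))))) (.nd (.nd (.nd (.nd (.nd (.nd (.nd (.nd (.nd (.lf 0) (.lf 0)) (.nd (.lf 0) (.lf 0))) (.nd (.nd (.lf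 0) (.lf 0)) (.nd (.lf 0) (.lf 0)))) (.nd (.nd (.nd (.lf 0) (.lf 0)) (.nd (.lf 0) (.lf 0))) (.nd (.nd (.lf 0) (.lf 0)) (.nd (.lf 0) (.lf 0))))) (.nd (.nd (.nd (.nd (.lf 0) (.lf 0)) (.nd (.lf 0) (.lf 0))) (.nd (.nd (.lf 0) (.lf 0)) (.nd (.lf 0) (.lf 0)))) (.nd (.nd (.nd (.lf 0) (.lf 0)) (.nd (.lf 0) (.lf 0))) (.nd (.nd (.lf 0) (.lf 0)) (.nd (.lf 0) (.lf 0)))))) (.nd (.nd (.nd (.nd (.nd (.lf 0) (.lf 0)) (.nd (.lf 0) (.lf 0))) (.nd (.nd (.lf 0) (.lf 0)) (.nd (.lf 0) (.lf 0)))) (.nd (.nd (.nd (.lf 0) (.lf 0)) (.nd (.lf 0) (.lf 0))) (.nd (.nd (.lf 0) (.lf 0)) (.nd (.lf 0) (.lf 0))))) (.nd (.nd (.nd (.nd (.lf 0) (.lf 0)) (.nd (.lf 0) (.lf 0))) (.nd (.nd (.lf 0) (.lf 0)) (.nd (.lf 0) (.lf 0)))) (.nd (.nd (.nd (.lf 0) (.lf 0)) (.nd (.lf 0) (.lf 0))) (.nd (.nd (.lf 0) (.lf 0)) (.nd (.lf 0) (.lf 0))))))) (.nd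 (.nd (.nd (.nd (.nd (.nd (.lf 0) (.lf 0)) (.nd (.lf 0) (.lf 0))) (.nd (.nd (.lf 0) (.lf 0)) (.nd (.lf 0) (.lf 0)))) (.nd (.nd (.nd (.lf 0) (.lf 0)) (.nd (.lf 0) (.lf 0))) (.nd (.nd (.lf 0) (.lf 0)) (.nd (.lf 0) (.lf 0))))) (.nd (.nd (.nd (.nd (.lf 0) (.lf 0)) (.nd (.lf 0) (.lf 0))) (.nd (.nd (.lf 0) (.lf 0)) (.nd (.lf 0) (.lf 0)))) (.nd (.nd (.nd (.lf 0) (.lf 0)) (.nd (.lf 0) (.lf 0))) (.nd (.nd (.lf 0) (.lf 0)) (.nd (.lf 0) (.lf 0)))))) (.nd (.nd (.nd (.nd (.nd (.lf 0) (.lf 0)) (.nd (.lf 0) (.lf 0))) (.nd (.nd (.lf 0) (.lf 0)) (.nd (.lf 0) (.lf 0)))) (.nd (.nd (.nd (.lf 0) (.lf 0)) (.nd (.lf 0) (.lf 0))) (.nd (.nd (.lf 0) (.lf 0)) (.nd (.lf 0) (.lf 0))))) (.nd (.nd (.nd (.nd (.lf 0) (.lf 0)) (.nd (.lf 0) (.lf 0))) (.nd (.nd (.lf 0) (.lf 0)) (.nd (.lf 0) (.lf 0)))) (.nd (.nd (.nd (.lf 0) (.lf 0)) (.nd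 (.lf 0) (.lf 0))) (.nd (.nd (.lf 0) (.lf 0)) (.nd (.lf 0) (.lf 0)))))))) (.nd (.nd (.nd (.nd (.nd (.nd (.nd (.lf 0) (.lf 0)) (.nd (.lf 0) (.lf 0))) (.nd (.nd (.lf 0) (.lf 0)) (.nd (.lf 0) (.lf 0)))) (.nd (.nd (.nd (.lf 0) (.lf 0)) (.nd (.lf 0) (.lf 0))) (.nd (.nd (.lf 0) (.lf 0)) (.nd (.lf 0) (.lf 0))))) (.nd (.nd (.nd (.nd (.lf 0) (.lf 0)) (.nd (.lf 0) (.lf 0))) (.nd (.nd (.lf 0) (.lf 0)) (.nd (.lf 0) (.lf 0)))) (.nd (.nd (.nd (.lf 0) (.lf 0)) (.nd (.lf 0) (.lf 0))) (.nd (.nd (.lf 0) (.lf 0)) (.nd (.lf 0) (.lf 0)))))) (.nd (.nd (.nd (.nd (.nd (.lf 0) (.lf 0)) (.nd (.lf 0) (.lf 0))) (.nd (.nd (.lf 0) (.lf 0)) (.nd (.lf 0) (.lf 0)))) (.nd (.nd (.nd (.lf 0) (.lf 0)) (.nd (.lf 0) (.lf 0))) (.nd (.nd (.lf 0) (.lf 0)) (.nd (.lf 0) (.lf 0))))) (.nd (.nd (.nd (.nd (.lf 0) (.lf 0)) (.nd (.lf 0) (.lf 0))) (.nd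 (.nd (.lf 0) (.lf 0)) (.nd (.lf 0) (.lf 0)))) (.nd (.nd (.nd (.lf 0) (.lf 0)) (.nd (.lf 0) (.lf 0))) (.nd (.nd (.lf 0) (.lf 0)) (.nd (.lf 0) (.lf 0))))))) (.nd (.nd (.nd (.nd (.nd (.nd (.lf 0) (.lf 0)) (.nd (.lf 0) (.lf 0))) (.nd (.nd (.lf 0) (.lf 0)) (.nd (.lf 0) (.lf 0)))) (.nd (.nd (.nd (.lf 0) (.lf 0)) (.nd (.lf 0) (.lf 0))) (.nd (.nd (.lf 0) (.lf 0)) (.nd (.lf 0) (.lf 0))))) (.nd (.nd (.nd (.nd (.lf 0) (.lf 0)) (.nd (.lf 0) (.lf 0))) (.nd (.nd (.lf 0) (.lf 0)) (.nd (.lf 0) (.lf 0)))) (.nd (.nd (.nd (.lf 0) (.lf 0)) (.nd (.lf 0) (.lf 0))) (.nd (.nd (.lf 0) (.lf 0)) (.nd (.lf 0) (.lf 0)))))) (.nd (.nd (.nd (.nd (.nd (.lf 0) (.lf 0)) (.nd (.lf 0) (.lf 0))) (.nd (.nd (.lf 0) (.lf 0)) (.nd (.lf 0) (.lf 0)))) (.nd (.nd (.nd (.lf 0) (.lf 0)) (.nd (.lf 0) (.lf 0))) (.nd (.nd (.lf 0) (.lf 0)) (.nd (.lf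 0) (.lf 0))))) (.nd (.nd (.nd (.nd (.lf 0) (.lf 0)) (.nd (.lf 0) (.lf 0))) (.nd (.nd (.lf 0) (.lf 0)) (.nd (.lf 0) (.lf 0)))) (.nd (.nd (.nd (.lf 0) (.lf 0)) (.nd (.lf 0) (.lf 0))) (.nd (.nd (.lf 0) (.lf 0)) (.nd (.lf 0) (.lf 0))))))))) (.nd (.nd (.nd (.nd (.nd (.nd (.nd (.nd (.lf 0) (.lf 0)) (.nd (.lf 0) (.lf 0))) (.nd (.nd (.lf 0) (.lf 0)) (.nd (.lf 0) (.lf 0)))) (.nd (.nd (.nd (.lf 0) (.lf 0)) (.nd (.lf 0) (.lf 0))) (.nd (.nd (.lf 0) (.lf 0)) (.nd (.lf 0) (.lf 0))))) (.nd (.nd (.nd (.nd (.lf 0) (.lf 0)) (.nd (.lf 0) (.lf 0))) (.nd (.nd (.lf 0) (.lf 0)) (.nd (.lf 0) (.lf 0)))) (.nd (.nd (.nd (.lf 0) (.lf 0)) (.nd (.lf 0) (.lf 0))) (.nd (.nd (.lf 0) (.lf 0)) (.nd (.lf 0) (.lf 0)))))) (.nd (.nd (.nd (.nd (.nd (.lf 0) (.lf 0)) (.nd (.lf 0) (.lf 0))) (.nd (.nd (.lf 0) (.lf 0)) (.nd (.lf 0) (.lf 0))))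 (.nd (.nd (.nd (.lf 0) (.lf 0)) (.nd (.lf 0) (.lf 0))) (.nd (.nd (.lf 0) (.lf 0)) (.nd (.lf 0) (.lf 0))))) (.nd (.nd (.nd (.nd (.lf 0) (.lf 0)) (.nd (.lf 0) (.lf 0))) (.nd (.nd (.lf 0) (.lf 0)) (.nd (.lf 0) (.lf 0)))) (.nd (.nd (.nd (.lf 0) (.lf 0)) (.nd (.lf 0) (.lf 0))) (.nd (.nd (.lf 0) (.lf 0)) (.nd (.lf 0) (.lf 0))))))) (.nd (.nd (.nd (.nd (.nd (.nd (.lf 0) (.lf 0)) (.nd (.lf 0) (.lf 0))) (.nd (.nd (.lf 0) (.lf 0)) (.nd (.lf 0) (.lf 0)))) (.nd (.nd (.nd (.lf 0) (.lf 0)) (.nd (.lf 0) (.lf 0))) (.nd (.nd (.lf 0) (.lf 0)) (.nd (.lf 0) (.lf 0))))) (.nd (.nd (.nd (.nd (.lf 0) (.lf 0)) (.nd (.lf 0) (.lf 0))) (.nd (.nd (.lf 0) (.lf 0)) (.nd (.lf 0) (.lf 0)))) (.nd (.nd (.nd (.lf 0) (.lf 0)) (.nd (.lf 0) (.lf 0))) (.nd (.nd (.lf 0) (.lf 0)) (.nd (.lf 0) (.lf 0)))))) (.nd (.nd (.nd (.nd (.nd (.lf 0) (.lf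 0)) (.nd (.lf 0) (.lf 0))) (.nd (.nd (.lf 0) (.lf 0)) (.nd (.lf 0) (.lf 0)))) (.nd (.nd (.nd (.lf 0) (.lf 0)) (.nd (.lf 0) (.lf 0))) (.nd (.nd (.lf 0) (.lf 0)) (.nd (.lf 0) (.lf 0))))) (.nd (.nd (.nd (.nd (.lf 0) (.lf 0)) (.nd (.lf 0) (.lf 0))) (.nd (.nd (.lf 0) (.lf 0)) (.nd (.lf 0) (.lf 0)))) (.nd (.nd (.nd (.lf 0) (.lf 0)) (.nd (.lf 0) (.lf 0))) (.nd (.nd (.lf 0) (.lf 0)) (.nd (.lf 0) (.lf 0)))))))) (.nd (.nd (.nd (.nd (.nd (.nd (.nd (.lf 0) (.lf 0)) (.nd (.lf 0) (.lf 0))) (.nd (.nd (.lf 0) (.lf 0)) (.nd (.lf 0) (.lf 0)))) (.nd (.nd (.nd (.lf 0) (.lf 0)) (.nd (.lf 0) (.lf 0))) (.nd (.nd (.lf 0) (.lf 0)) (.nd (.lf 0) (.lf 0))))) (.nd (.nd (.nd (.nd (.lf 0) (.lf 0)) (.nd (.lf 0) (.lf 0))) (.nd (.nd (.lf 0) (.lf 0)) (.nd (.lf 0) (.lf 0)))) (.nd (.nd (.nd (.lf 0) (.lf 0)) (.nd (.lf 0) (.lf 0))) (.nd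 (.nd (.lf 0) (.lf 0)) (.nd (.lf 0) (.lf 0)))))) (.nd (.nd (.nd (.nd (.nd (.lf 0) (.lf 0)) (.nd (.lf 0) (.lf 0))) (.nd (.nd (.lf 0) (.lf 0)) (.nd (.lf 0) (.lf 0)))) (.nd (.nd (.nd (.lf 0) (.lf 0)) (.nd (.lf 0) (.lf 0))) (.nd (.nd (.lf 0) (.lf 0)) (.nd (.lf 0) (.lf 0))))) (.nd (.nd (.nd (.nd (.lf 0) (.lf 0)) (.nd (.lf 0) (.lf 0))) (.nd (.nd (.lf 0) (.lf 0)) (.nd (.lf 0) (.lf 0)))) (.nd (.nd (.nd (.lf 0) (.lf 0)) (.nd (.lf 0) (.lf 0))) (.nd (.nd (.lf 0) (.lf 0)) (.nd (.lf 0) (.lf 0))))))) (.nd (.nd (.nd (.nd (.nd (.nd (.lf 0) (.lf 0)) (.nd (.lf 0) (.lf 0))) (.nd (.nd (.lf 0) (.lf 0)) (.nd (.lf 0) (.lf 0)))) (.nd (.nd (.nd (.lf 0) (.lf 0)) (.nd (.lf 0) (.lf 0))) (.nd (.nd (.lf 0) (.lf 0)) (.nd (.lf 0) (.lf 0))))) (.nd (.nd (.nd (.nd (.lf 0) (.lf 0)) (.nd (.lf 0) (.lf 0))) (.nd (.nd (.lf 0) (.lf 0)) (.nd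 (.lf 0) (.lf 0)))) (.nd (.nd (.nd (.lf 0) (.lf 0)) (.nd (.lf 0) (.lf 0))) (.nd (.nd (.lf 0) (.lf 0)) (.nd (.lf 0) (.lf 0)))))) (.nd (.nd (.nd (.nd (.nd (.lf 0) (.lf 0)) (.nd (.lf 0) (.lf 0))) (.nd (.nd (.lf 0) (.lf 0)) (.nd (.lf 0) (.lf 0)))) (.nd (.nd (.nd (.lf 0) (.lf 0)) (.nd (.lf 0) (.lf 0))) (.nd (.nd (.lf 0) (.lf 0)) (.nd (.lf 0) (.lf 0))))) (.nd (.nd (.nd (.nd (.lf 0) (.lf 0)) (.nd (.lf 0) (.lf 0))) (.nd (.nd (.lf 0) (.lf 0)) (.nd (.lf 0) (.lf 0)))) (.nd (.nd (.nd (.lf 0) (.lf 0)) (.nd (.lf 0) (.lf 0))) (.nd (.nd (.lf 0) (.lf 0)) (.nd (.lf 0) (.lf 0))))))))))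

/-- table part -/
def tabX_12 : Tr :=
  .nd (.nd (.nd (.nd (.nd (.nd (.nd (.nd (.nd (.nd (.lf 0) (.lf 0)) (.nd (.lf 0) (.lf 0))) (.nd (.nd (.lf 0) (.lf 0)) (.nd (.lf 0) (.lf 0)))) (.nd (.nd (.nd (.lf 0) (.lf 0)) (.nd (.lf 0) (.lf 0))) (.nd (.nd (.lf 0) (.lf 0)) (.nd (.lf 0) (.lf 0))))) (.nd (.nd (.nd (.nd (.lf 0) (.lf 0)) (.nd (.lf 0) (.lf 0))) (.nd (.nd (.lf 0) (.lf 0)) (.nd (.lf 0) (.lf 0)))) (.nd (.nd (.nd (.lf 0) (.lf 0)) (.nd (.lf 0) (.lf 0))) (.nd (.nd (.lf 0) (.lf 0)) (.nd (.lf 0) (.lf 0)))))) (.nd (.nd (.nd (.nd (.nd (.lf 0) (.lf 0)) (.nd (.lf 0) (.lf 0))) (.nd (.nd (.lf 0) (.lf 0)) (.nd (.lf 0) (.lf 0)))) (.nd (.nd (.nd (.lf 0) (.lf 0)) (.nd (.lf 0) (.lf 0))) (.nd (.nd (.lf 0) (.lf 0)) (.nd (.lf 0) (.lf 0))))) (.nd (.nd (.nd (.nd (.lf 0) (.lf 0)) (.nd (.lf 0) (.lf 0))) (.nd (.nd (.lf 0) (.lf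 0)) (.nd (.lf 0) (.lf 0)))) (.nd (.nd (.nd (.lf 0) (.lf 0)) (.nd (.lf 0) (.lf 0))) (.nd (.nd (.lf 0) (.lf 0)) (.nd (.lf 0) (.lf 0))))))) (.nd (.nd (.nd (.nd (.nd (.nd (.lf 0) (.lf 0)) (.nd (.lf 0) (.lf 0))) (.nd (.nd (.lf 0) (.lf 0)) (.nd (.lf 0) (.lf 0)))) (.nd (.nd (.nd (.lf 0) (.lf 0)) (.nd (.lf 0) (.lf 0))) (.nd (.nd (.lf 0) (.lf 0)) (.nd (.lf 0) (.lf 0))))) (.nd (.nd (.nd (.nd (.lf 0) (.lf 0)) (.nd (.lf 0) (.lf 0))) (.nd (.nd (.lf 0) (.lf 0)) (.nd (.lf 0) (.lf 0)))) (.nd (.nd (.nd (.lf 0) (.lf 0)) (.nd (.lf 0) (.lf 0))) (.nd (.nd (.lf 0) (.lf 0)) (.nd (.lf 0) (.lf 0)))))) (.nd (.nd (.nd (.nd (.nd (.lf 0) (.lf 0)) (.nd (.lf 0) (.lf 0))) (.nd (.nd (.lf 0) (.lf 0)) (.nd (.lf 0) (.lf 0)))) (.nd (.nd (.nd (.lf 0) (.lf 0)) (.nd (.lf 0) (.lf 0))) (.nd (.nd (.lf 0) (.lf 0)) (.nd (.lf 0) (.lf 0))))) (.nd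 (.nd (.nd (.nd (.lf 0) (.lf 0)) (.nd (.lf 0) (.lf 0))) (.nd (.nd (.lf 0) (.lf 0)) (.nd (.lf 0) (.lf 0)))) (.nd (.nd (.nd (.lf 0) (.lf 0)) (.nd (.lf 0) (.lf 0))) (.nd (.nd (.lf 0) (.lf 0)) (.nd (.lf 0) (.lf 0)))))))) (.nd (.nd (.nd (.nd (.nd (.nd (.nd (.lf 0) (.lf 0)) (.nd (.lf 0) (.lf 0))) (.nd (.nd (.lf 0) (.lf 0)) (.nd (.lf 0) (.lf 0)))) (.nd (.nd (.nd (.lf 0) (.lf 0)) (.nd (.lf 0) (.lf 0))) (.nd (.nd (.lf 0) (.lf 0)) (.nd (.lf 0) (.lf 0))))) (.nd (.nd (.nd (.nd (.lf 0) (.lf 0)) (.nd (.lf 0) (.lf 0))) (.nd (.nd (.lf 0) (.lf 0)) (.nd (.lf 0) (.lf 0)))) (.nd (.nd (.nd (.lf 0) (.lf 0)) (.nd (.lf 0) (.lf 0))) (.nd (.nd (.lf 0) (.lf 0)) (.nd (.lf 0) (.lf 0)))))) (.nd (.nd (.nd (.nd (.nd (.lf 0) (.lf 0)) (.nd (.lf 0) (.lf 0))) (.nd (.nd (.lf 0) (.lf 0)) (.nd (.lf 0) (.lf 0)))) (.nd (.nd (.nd (.lf 0) (.lf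 0)) (.nd (.lf 0) (.lf 0))) (.nd (.nd (.lf 0) (.lf 0)) (.nd (.lf 0) (.lf 0))))) (.nd (.nd (.nd (.nd (.lf 0) (.lf 0)) (.nd (.lf 0) (.lf 0))) (.nd (.nd (.lf 0) (.lf 0)) (.nd (.lf 0) (.lf 0)))) (.nd (.nd (.nd (.lf 0) (.lf 0)) (.nd (.lf 0) (.lf 0))) (.nd (.nd (.lf 0) (.lf 0)) (.nd (.lf 0) (.lf 0))))))) (.nd (.nd (.nd (.nd (.nd (.nd (.lf 0) (.lf 0)) (.nd (.lf 0) (.lf 0))) (.nd (.nd (.lf 0) (.lf 0)) (.nd (.lf 0) (.lf 0)))) (.nd (.nd (.nd (.lf 0) (.lf 0)) (.nd (.lf 0) (.lf 0))) (.nd (.nd (.lf 0) (.lf 0)) (.nd (.lf 0) (.lf 0))))) (.nd (.nd (.nd (.nd (.lf 0) (.lf 0)) (.nd (.lf 0) (.lf 0))) (.nd (.nd (.lf 0) (.lf 0)) (.nd (.lf 0) (.lf 0)))) (.nd (.nd (.nd (.lf 0) (.lf 0)) (.nd (.lf 0) (.lf 0))) (.nd (.nd (.lf 0) (.lf 0)) (.nd (.lf 0) (.lf 0)))))) (.nd (.nd (.nd (.nd (.nd (.lf 0) (.lf 0)) (.nd (.lf 0) (.lf 0)))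 (.nd (.nd (.lf 0) (.lf 0)) (.nd (.lf 0) (.lf 0)))) (.nd (.nd (.nd (.lf 0) (.lf 0)) (.nd (.lf 0) (.lf 0))) (.nd (.nd (.lf 0) (.lf 0)) (.nd (.lf 0) (.lf 0))))) (.nd (.nd (.nd (.nd (.lf 0) (.lf 0)) (.nd (.lf 0) (.lf 0))) (.nd (.nd (.lf 0) (.lf 0)) (.nd (.lf 0) (.lf 0)))) (.nd (.nd (.nd (.lf 0) (.lf 0)) (.nd (.lf 0) (.lf 0))) (.nd (.nd (.lf 0) (.lf 0)) (.nd (.lf 0) (.lf 0))))))))) (.nd (.nd (.nd (.nd (.nd (.nd (.nd (.nd (.lf 0) (.lf 0)) (.nd (.lf 0) (.lf 0))) (.nd (.nd (.lf 0) (.lf 0)) (.nd (.lf 0) (.lf 0)))) (.nd (.nd (.nd (.lf 0) (.lf 0)) (.nd (.lf 0) (.lf 0))) (.nd (.nd (.lf 0) (.lf 0)) (.nd (.lf 0) (.lf 0))))) (.nd (.nd (.nd (.nd (.lf 0) (.lf 0)) (.nd (.lf 0) (.lf 0))) (.nd (.nd (.lf 0) (.lf 0)) (.nd (.lf 0) (.lf 0)))) (.nd (.nd (.nd (.lf 0) (.lf 0)) (.nd (.lf 0) (.lf 0))) (.nd (.nd (.lf 0) (.lf 0))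 (.nd (.lf 0) (.lf 0)))))) (.nd (.nd (.nd (.nd (.nd (.lf 0) (.lf 0)) (.nd (.lf 0) (.lf 0))) (.nd (.nd (.lf 0) (.lf 0)) (.nd (.lf 0) (.lf 0)))) (.nd (.nd (.nd (.lf 0) (.lf 0)) (.nd (.lf 0) (.lf 0))) (.nd (.nd (.lf 0) (.lf 0)) (.nd (.lf 0) (.lf 0))))) (.nd (.nd (.nd (.nd (.lf 0) (.lf 0)) (.nd (.lf 0) (.lf 0))) (.nd (.nd (.lf 0) (.lf 0)) (.nd (.lf 0) (.lf 0)))) (.nd (.nd (.nd (.lf 0) (.lf 0)) (.nd (.lf 0) (.lf 0))) (.nd (.nd (.lf 0) (.lf 0)) (.nd (.lf 0) (.lf 0))))))) (.nd (.nd (.nd (.nd (.nd (.nd (.lf 0) (.lf 0)) (.nd (.lf 0) (.lf 0))) (.nd (.nd (.lf 0) (.lf 0)) (.nd (.lf 0) (.lf 0)))) (.nd (.nd (.nd (.lf 0) (.lf 0)) (.nd (.lf 0) (.lf 0))) (.nd (.nd (.lf 0) (.lf 0)) (.nd (.lf 0) (.lf 0))))) (.nd (.nd (.nd (.nd (.lf 0) (.lf 0)) (.nd (.lf 0) (.lf 0))) (.nd (.nd (.lf 0) (.lf 0)) (.nd (.lf 0) (.lf 0)))) (.nd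 (.nd (.nd (.lf 0) (.lf 0)) (.nd (.lf 0) (.lf 0))) (.nd (.nd (.lf 0) (.lf 0)) (.nd (.lf 0) (.lf 0)))))) (.nd (.nd (.nd (.nd (.nd (.lf 0) (.lf 0)) (.nd (.lf 0) (.lf 0))) (.nd (.nd (.lf 0) (.lf 0)) (.nd (.lf 0) (.lf 0)))) (.nd (.nd (.nd (.lf 0) (.lf 0)) (.nd (.lf 0) (.lf 0))) (.nd (.nd (.lf 0) (.lf 0)) (.nd (.lf 0) (.lf 0))))) (.nd (.nd (.nd (.nd (.lf 0) (.lf 0)) (.nd (.lf 0) (.lf 0))) (.nd (.nd (.lf 0) (.lf 0)) (.nd (.lf 0) (.lf 0)))) (.nd (.nd (.nd (.lf 0) (.lf 0)) (.nd (.lf 0) (.lf 0))) (.nd (.nd (.lf 0) (.lf 0)) (.nd (.lf 0) (.lf 0)))))))) (.nd (.nd (.nd (.nd (.nd (.nd (.nd (.lf 0) (.lf 0)) (.nd (.lf 0) (.lf 0))) (.nd (.nd (.lf 0) (.lf 0)) (.nd (.lf 0) (.lf 0)))) (.nd (.nd (.nd (.lf 0) (.lf 0)) (.nd (.lf 0) (.lf 0))) (.nd (.nd (.lf 0) (.lf 0)) (.nd (.lf 0) (.lf 0))))) (.nd (.nd (.nd (.nd (.lf 0) (.lf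 0)) (.nd (.lf 0) (.lf 0))) (.nd (.nd (.lf 0) (.lf 0)) (.nd (.lf 0) (.lf 0)))) (.nd (.nd (.nd (.lf 0) (.lf 0)) (.nd (.lf 0) (.lf 0))) (.nd (.nd (.lf 0) (.lf 0)) (.nd (.lf 0) (.lf 0)))))) (.nd (.nd (.nd (.nd (.nd (.lf 0) (.lf 0)) (.nd (.lf 0) (.lf 0))) (.nd (.nd (.lf 0) (.lf 0)) (.nd (.lf 0) (.lf 0)))) (.nd (.nd (.nd (.lf 0) (.lf 0)) (.nd (.lf 0) (.lf 0))) (.nd (.nd (.lf 0) (.lf 0)) (.nd (.lf 0) (.lf 0))))) (.nd (.nd (.nd (.nd (.lf 0) (.lf 0)) (.nd (.lf 0) (.lf 0))) (.nd (.nd (.lf 0) (.lf 0)) (.nd (.lf 0) (.lf 0)))) (.nd (.nd (.nd (.lf 0) (.lf 0)) (.nd (.lf 0) (.lf 0))) (.nd (.nd (.lf 0) (.lf 0)) (.nd (.lf 0) (.lf 0))))))) (.nd (.nd (.nd (.nd (.nd (.nd (.lf 0) (.lf 0)) (.nd (.lf 0) (.lf 0))) (.nd (.nd (.lf 0) (.lf 0)) (.nd (.lf 0) (.lf 0)))) (.nd (.nd (.nd (.lf 0) (.lf 0)) (.nd (.lf 0) (.lf 0))) (.nd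 (.nd (.lf 0) (.lf 0)) (.nd (.lf 0) (.lf 0))))) (.nd (.nd (.nd (.nd (.lf 0) (.lf 0)) (.nd (.lf 0) (.lf 0))) (.nd (.nd (.lf 0) (.lf 0)) (.nd (.lf 0) (.lf 0)))) (.nd (.nd (.nd (.lf 0) (.lf 0)) (.nd (.lf 0) (.lf 0))) (.nd (.nd (.lf 0) (.lf 0)) (.nd (.lf 0) (.lf 0)))))) (.nd (.nd (.nd (.nd (.nd (.lf 0) (.lf 0)) (.nd (.lf 0) (.lf 0))) (.nd (.nd (.lf 0) (.lf 0)) (.nd (.lf 0) (.lf 0)))) (.nd (.nd (.nd (.lf 0) (.lf 0)) (.nd (.lf 0) (.lf 0))) (.nd (.nd (.lf 0) (.lf 0)) (.nd (.lf 0) (.lf 0))))) (.nd (.nd (.nd (.nd (.lf 0) (.lf 0)) (.nd (.lf 0) (.lf 0))) (.nd (.nd (.lf 0) (.lf 0)) (.nd (.lf 0) (.lf 0)))) (.nd (.nd (.nd (.lf 0) (.lf 0)) (.nd (.lf 0) (.lf 0))) (.nd (.nd (.lf 0) (.lf 0)) (.nd (.lf 0) (.lf 0)))))))))) (.nd (.nd (.nd (.nd (.nd (.nd (.nd (.nd (.nd (.lf 0) (.lf 0)) (.nd (.lf 0) (.lf 0))) (.nd (.nd (.lf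 0) (.lf 0)) (.nd (.lf 0) (.lf 0)))) (.nd (.nd (.nd (.lf 0) (.lf 0)) (.nd (.lf 0) (.lf 0))) (.nd (.nd (.lf 0) (.lf 0)) (.nd (.lf 0) (.lf 0))))) (.nd (.nd (.nd (.nd (.lf 0) (.lf 0)) (.nd (.lf 0) (.lf 0))) (.nd (.nd (.lf 0) (.lf 0)) (.nd (.lf 0) (.lf 0)))) (.nd (.nd (.nd (.lf 0) (.lf 0)) (.nd (.lf 0) (.lf 0))) (.nd (.nd (.lf 0) (.lf 0)) (.nd (.lf 0) (.lf 0)))))) (.nd (.nd (.nd (.nd (.nd (.lf 0) (.lf 0)) (.nd (.lf 0) (.lf 0))) (.nd (.nd (.lf 0) (.lf 0)) (.nd (.lf 0) (.lf 0)))) (.nd (.nd (.nd (.lf 0) (.lf 0)) (.nd (.lf 0) (.lf 0))) (.nd (.nd (.lf 0) (.lf 0)) (.nd (.lf 0) (.lf 0))))) (.nd (.nd (.nd (.nd (.lf 0) (.lf 0)) (.nd (.lf 0) (.lf 0))) (.nd (.nd (.lf 8) (.lf 0)) (.nd (.lf 0) (.lf 0)))) (.nd (.nd (.nd (.lf 0) (.lf 0)) (.nd (.lf 0) (.lf 0))) (.nd (.nd (.lf 0) (.lf 0)) (.nd (.lf 0) (.lf 0))))))) (.nd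 (.nd (.nd (.nd (.nd (.nd (.lf 0) (.lf 0)) (.nd (.lf 0) (.lf 0))) (.nd (.nd (.lf 0) (.lf 0)) (.nd (.lf 0) (.lf 0)))) (.nd (.nd (.nd (.lf 0) (.lf 0)) (.nd (.lf 0) (.lf 0))) (.nd (.nd (.lf 0) (.lf 0)) (.nd (.lf 0) (.lf 0))))) (.nd (.nd (.nd (.nd (.lf 0) (.lf 0)) (.nd (.lf 0) (.lf 0))) (.nd (.nd (.lf 0) (.lf 0)) (.nd (.lf 0) (.lf 0)))) (.nd (.nd (.nd (.lf 0) (.lf 0)) (.nd (.lf 0) (.lf 0))) (.nd (.nd (.lf 0) (.lf 0)) (.nd (.lf 0) (.lf 0)))))) (.nd (.nd (.nd (.nd (.nd (.lf 0) (.lf 0)) (.nd (.lf 0) (.lf 0))) (.nd (.nd (.lf 0) (.lf 0)) (.nd (.lf 0) (.lf 0)))) (.nd (.nd (.nd (.lf 0) (.lf 0)) (.nd (.lf 0) (.lf 0))) (.nd (.nd (.lf 0) (.lf 0)) (.nd (.lf 0) (.lf 0))))) (.nd (.nd (.nd (.nd (.lf 0) (.lf 0)) (.nd (.lf 0) (.lf 0))) (.nd (.nd (.lf 0) (.lf 0)) (.nd (.lf 0) (.lf 0)))) (.nd (.nd (.nd (.lf 0) (.lf 0)) (.nd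 (.lf 0) (.lf 0))) (.nd (.nd (.lf 0) (.lf 0)) (.nd (.lf 0) (.lf 0)))))))) (.nd (.nd (.nd (.nd (.nd (.nd (.nd (.lf 0) (.lf 0)) (.nd (.lf 0) (.lf 0))) (.nd (.nd (.lf 0) (.lf 0)) (.nd (.lf 0) (.lf 0)))) (.nd (.nd (.nd (.lf 0) (.lf 0)) (.nd (.lf 0) (.lf 0))) (.nd (.nd (.lf 0) (.lf 0)) (.nd (.lf 0) (.lf 0))))) (.nd (.nd (.nd (.nd (.lf 0) (.lf 0)) (.nd (.lf 0) (.lf 0))) (.nd (.nd (.lf 0) (.lf 0)) (.nd (.lf 0) (.lf 0)))) (.nd (.nd (.nd (.lf 0) (.lf 0)) (.nd (.lf 0) (.lf 0))) (.nd (.nd (.lf 0) (.lf 0)) (.nd (.lf 0) (.lf 0)))))) (.nd (.nd (.nd (.nd (.nd (.lf 0) (.lf 0)) (.nd (.lf 0) (.lf 0))) (.nd (.nd (.lf 0) (.lf 0)) (.nd (.lf 0) (.lf 0)))) (.nd (.nd (.nd (.lf 0) (.lf 0)) (.nd (.lf 0) (.lf 0))) (.nd (.nd (.lf 0) (.lf 0)) (.nd (.lf 0) (.lf 0))))) (.nd (.nd (.nd (.nd (.lf 0) (.lf 0)) (.nd (.lf 0) (.lf 0))) (.nd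 (.nd (.lf 0) (.lf 0)) (.nd (.lf 0) (.lf 0)))) (.nd (.nd (.nd (.lf 0) (.lf 0)) (.nd (.lf 0) (.lf 0))) (.nd (.nd (.lf 0) (.lf 0)) (.nd (.lf 0) (.lf 0))))))) (.nd (.nd (.nd (.nd (.nd (.nd (.lf 0) (.lf 0)) (.nd (.lf 0) (.lf 0))) (.nd (.nd (.lf 0) (.lf 0)) (.nd (.lf 0) (.lf 0)))) (.nd (.nd (.nd (.lf 0) (.lf 0)) (.nd (.lf 0) (.lf 0))) (.nd (.nd (.lf 0) (.lf 0)) (.nd (.lf 0) (.lf 0))))) (.nd (.nd (.nd (.nd (.lf 0) (.lf 0)) (.nd (.lf 0) (.lf 0))) (.nd (.nd (.lf 0) (.lf 0)) (.nd (.lf 0) (.lf 0)))) (.nd (.nd (.nd (.lf 0) (.lf 0)) (.nd (.lf 0) (.lf 0))) (.nd (.nd (.lf 0) (.lf 0)) (.nd (.lf 0) (.lf 0)))))) (.nd (.nd (.nd (.nd (.nd (.lf 0) (.lf 0)) (.nd (.lf 0) (.lf 0))) (.nd (.nd (.lf 0) (.lf 0)) (.nd (.lf 0) (.lf 0)))) (.nd (.nd (.nd (.lf 0) (.lf 0)) (.nd (.lf 0) (.lf 0))) (.nd (.nd (.lf 0) (.lf 0)) (.nd (.lf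 0) (.lf 0))))) (.nd (.nd (.nd (.nd (.lf 0) (.lf 0)) (.nd (.lf 0) (.lf 0))) (.nd (.nd (.lf 0) (.lf 0)) (.nd (.lf 0) (.lf 0)))) (.nd (.nd (.nd (.lf 0) (.lf 0)) (.nd (.lf 0) (.lf 0))) (.nd (.nd (.lf 0) (.lf 0)) (.nd (.lf 0) (.lf 0))))))))) (.nd (.nd (.nd (.nd (.nd (.nd (.nd (.nd (.lf 0) (.lf 0)) (.nd (.lf 0) (.lf 0))) (.nd (.nd (.lf 0) (.lf 0)) (.nd (.lf 0) (.lf 0)))) (.nd (.nd (.nd (.lf 0) (.lf 0)) (.nd (.lf 0) (.lf 0))) (.nd (.nd (.lf 0) (.lf 0)) (.nd (.lf 0) (.lf 0))))) (.nd (.nd (.nd (.nd (.lf 0) (.lf 0)) (.nd (.lf 0) (.lf 0))) (.nd (.nd (.lf 0) (.lf 0)) (.nd (.lf 0) (.lf 0)))) (.nd (.nd (.nd (.lf 0) (.lf 0)) (.nd (.lf 0) (.lf 0))) (.nd (.nd (.lf 0) (.lf 0)) (.nd (.lf 0) (.lf 0)))))) (.nd (.nd (.nd (.nd (.nd (.lf 0) (.lf 0)) (.nd (.lf 0) (.lf 0))) (.nd (.nd (.lf 0) (.lf 0)) (.nd (.lf 0) (.lf 0))))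 (.nd (.nd (.nd (.lf 0) (.lf 0)) (.nd (.lf 0) (.lf 0))) (.nd (.nd (.lf 0) (.lf 0)) (.nd (.lf 0) (.lf 0))))) (.nd (.nd (.nd (.nd (.lf 0) (.lf 0)) (.nd (.lf 0) (.lf 0))) (.nd (.nd (.lf 0) (.lf 0)) (.nd (.lf 0) (.lf 0)))) (.nd (.nd (.nd (.lf 0) (.lf 0)) (.nd (.lf 0) (.lf 0))) (.nd (.nd (.lf 0) (.lf 0)) (.nd (.lf 0) (.lf 0))))))) (.nd (.nd (.nd (.nd (.nd (.nd (.lf 0) (.lf 0)) (.nd (.lf 0) (.lf 0))) (.nd (.nd (.lf 0) (.lf 0)) (.nd (.lf 0) (.lf 0)))) (.nd (.nd (.nd (.lf 0) (.lf 0)) (.nd (.lf 0) (.lf 0))) (.nd (.nd (.lf 0) (.lf 0)) (.nd (.lf 0) (.lf 0))))) (.nd (.nd (.nd (.nd (.lf 0) (.lf 0)) (.nd (.lf 0) (.lf 0))) (.nd (.nd (.lf 0) (.lf 0)) (.nd (.lf 0) (.lf 0)))) (.nd (.nd (.nd (.lf 0) (.lf 0)) (.nd (.lf 0) (.lf 0))) (.nd (.nd (.lf 0) (.lf 0)) (.nd (.lf 0) (.lf 0)))))) (.nd (.nd (.nd (.nd (.nd (.lf 0) (.lf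 0)) (.nd (.lf 0) (.lf 0))) (.nd (.nd (.lf 0) (.lf 0)) (.nd (.lf 0) (.lf 0)))) (.nd (.nd (.nd (.lf 0) (.lf 0)) (.nd (.lf 0) (.lf 0))) (.nd (.nd (.lf 0) (.lf 0)) (.nd (.lf 0) (.lf 0))))) (.nd (.nd (.nd (.nd (.lf 0) (.lf 0)) (.nd (.lf 0) (.lf 0))) (.nd (.nd (.lf 0) (.lf 0)) (.nd (.lf 0) (.lf 0)))) (.nd (.nd (.nd (.lf 0) (.lf 0)) (.nd (.lf 0) (.lf 0))) (.nd (.nd (.lf 0) (.lf 0)) (.nd (.lf 0) (.lf 0)))))))) (.nd (.nd (.nd (.nd (.nd (.nd (.nd (.lf 0) (.lf 0)) (.nd (.lf 0) (.lf 0))) (.nd (.nd (.lf 0) (.lf 0)) (.nd (.lf 0) (.lf 0)))) (.nd (.nd (.nd (.lf 0) (.lf 0)) (.nd (.lf 0) (.lf 0))) (.nd (.nd (.lf 0) (.lf 0)) (.nd (.lf 0) (.lf 0))))) (.nd (.nd (.nd (.nd (.lf 0) (.lf 0)) (.nd (.lf 0) (.lf 0))) (.nd (.nd (.lf 0) (.lf 0)) (.nd (.lf 0) (.lf 0)))) (.nd (.nd (.nd (.lf 0) (.lf 0)) (.nd (.lf 0) (.lf 0))) (.nd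 (.nd (.lf 0) (.lf 0)) (.nd (.lf 0) (.lf 0)))))) (.nd (.nd (.nd (.nd (.nd (.lf 0) (.lf 0)) (.nd (.lf 0) (.lf 0))) (.nd (.nd (.lf 0) (.lf 0)) (.nd (.lf 0) (.lf 0)))) (.nd (.nd (.nd (.lf 0) (.lf 0)) (.nd (.lf 0) (.lf 0))) (.nd (.nd (.lf 0) (.lf 0)) (.nd (.lf 0) (.lf 0))))) (.nd (.nd (.nd (.nd (.lf 0) (.lf 0)) (.nd (.lf 0) (.lf 0))) (.nd (.nd (.lf 0) (.lf 0)) (.nd (.lf 0) (.lf 0)))) (.nd (.nd (.nd (.lf 0) (.lf 0)) (.nd (.lf 0) (.lf 0))) (.nd (.nd (.lf 0) (.lf 0)) (.nd (.lf 0) (.lf 0))))))) (.nd (.nd (.nd (.nd (.nd (.nd (.lf 0) (.lf 0)) (.nd (.lf 0) (.lf 0))) (.nd (.nd (.lf 0) (.lf 0)) (.nd (.lf 0) (.lf 0)))) (.nd (.nd (.nd (.lf 0) (.lf 0)) (.nd (.lf 0) (.lf 0))) (.nd (.nd (.lf 0) (.lf 0)) (.nd (.lf 0) (.lf 0))))) (.nd (.nd (.nd (.nd (.lf 0) (.lf 0)) (.nd (.lf 0) (.lf 0))) (.nd (.nd (.lf 0) (.lf 0)) (.nd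 (.lf 0) (.lf 0)))) (.nd (.nd (.nd (.lf 0) (.lf 0)) (.nd (.lf 0) (.lf 0))) (.nd (.nd (.lf 0) (.lf 0)) (.nd (.lf 0) (.lf 0)))))) (.nd (.nd (.nd (.nd (.nd (.lf 0) (.lf 0)) (.nd (.lf 0) (.lf 0))) (.nd (.nd (.lf 0) (.lf 0)) (.nd (.lf 0) (.lf 0)))) (.nd (.nd (.nd (.lf 0) (.lf 0)) (.nd (.lf 0) (.lf 0))) (.nd (.nd (.lf 0) (.lf 0)) (.nd (.lf 0) (.lf 0))))) (.nd (.nd (.nd (.nd (.lf 0) (.lf 0)) (.nd (.lf 0) (.lf 0))) (.nd (.nd (.lf 0) (.lf 0)) (.nd (.lf 0) (.lf 0)))) (.nd (.nd (.nd (.lf 0) (.lf 0)) (.nd (.lf 0) (.lf 0))) (.nd (.nd (.lf 0) (.lf 0)) (.nd (.lf 0) (.lf 0))))))))))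

/-- table part -/
def tabX_13 : Tr :=
  .nd (.nd (.nd (.nd (.nd (.nd (.nd (.nd (.nd (.nd (.lf 0) (.lf 0)) (.nd (.lf 0) (.lf 0))) (.nd (.nd (.lf 0) (.lf 0)) (.nd (.lf 0) (.lf 0)))) (.nd (.nd (.nd (.lf 0) (.lf 0)) (.nd (.lf 0) (.lf 0))) (.nd (.nd (.lf 0) (.lf 0)) (.nd (.lf 0) (.lf 0))))) (.nd (.nd (.nd (.nd (.lf 0) (.lf 0)) (.nd (.lf 0) (.lf 0))) (.nd (.nd (.lf 0) (.lf 0)) (.nd (.lf 0) (.lf 0)))) (.nd (.nd (.nd (.lf 0) (.lf 0)) (.nd (.lf 0) (.lf 0))) (.nd (.nd (.lf 0) (.lf 0)) (.nd (.lf 0) (.lf 0)))))) (.nd (.nd (.nd (.nd (.nd (.lf 0) (.lf 0)) (.nd (.lf 0) (.lf 0))) (.nd (.nd (.lf 0) (.lf 0)) (.nd (.lf 0) (.lf 0)))) (.nd (.nd (.nd (.lf 0) (.lf 0)) (.nd (.lf 0) (.lf 0))) (.nd (.nd (.lf 0) (.lf 0)) (.nd (.lf 0) (.lf 0))))) (.nd (.nd (.nd (.nd (.lf 0) (.lf 0)) (.nd (.lf 0) (.lf 0))) (.nd (.nd (.lf 0) (.lf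 0)) (.nd (.lf 0) (.lf 0)))) (.nd (.nd (.nd (.lf 0) (.lf 0)) (.nd (.lf 0) (.lf 0))) (.nd (.nd (.lf 0) (.lf 0)) (.nd (.lf 0) (.lf 0))))))) (.nd (.nd (.nd (.nd (.nd (.nd (.lf 0) (.lf 0)) (.nd (.lf 0) (.lf 0))) (.nd (.nd (.lf 0) (.lf 0)) (.nd (.lf 0) (.lf 0)))) (.nd (.nd (.nd (.lf 0) (.lf 0)) (.nd (.lf 0) (.lf 0))) (.nd (.nd (.lf 0) (.lf 0)) (.nd (.lf 0) (.lf 0))))) (.nd (.nd (.nd (.nd (.lf 0) (.lf 0)) (.nd (.lf 0) (.lf 0))) (.nd (.nd (.lf 0) (.lf 0)) (.nd (.lf 0) (.lf 0)))) (.nd (.nd (.nd (.lf 0) (.lf 0)) (.nd (.lf 0) (.lf 0))) (.nd (.nd (.lf 0) (.lf 0)) (.nd (.lf 0) (.lf 0)))))) (.nd (.nd (.nd (.nd (.nd (.lf 0) (.lf 0)) (.nd (.lf 0) (.lf 0))) (.nd (.nd (.lf 0) (.lf 0)) (.nd (.lf 0) (.lf 0)))) (.nd (.nd (.nd (.lf 0) (.lf 0)) (.nd (.lf 0) (.lf 0))) (.nd (.nd (.lf 0) (.lf 0)) (.nd (.lf 0) (.lf 0))))) (.nd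 (.nd (.nd (.nd (.lf 0) (.lf 0)) (.nd (.lf 0) (.lf 0))) (.nd (.nd (.lf 0) (.lf 0)) (.nd (.lf 0) (.lf 0)))) (.nd (.nd (.nd (.lf 0) (.lf 0)) (.nd (.lf 0) (.lf 0))) (.nd (.nd (.lf 0) (.lf 0)) (.nd (.lf 0) (.lf 0)))))))) (.nd (.nd (.nd (.nd (.nd (.nd (.nd (.lf 0) (.lf 0)) (.nd (.lf 0) (.lf 0))) (.nd (.nd (.lf 0) (.lf 0)) (.nd (.lf 0) (.lf 0)))) (.nd (.nd (.nd (.lf 0) (.lf 0)) (.nd (.lf 0) (.lf 0))) (.nd (.nd (.lf 0) (.lf 0)) (.nd (.lf 0) (.lf 0))))) (.nd (.nd (.nd (.nd (.lf 0) (.lf 0)) (.nd (.lf 0) (.lf 0))) (.nd (.nd (.lf 0) (.lf 0)) (.nd (.lf 0) (.lf 0)))) (.nd (.nd (.nd (.lf 0) (.lf 0)) (.nd (.lf 0) (.lf 0))) (.nd (.nd (.lf 0) (.lf 0)) (.nd (.lf 0) (.lf 0)))))) (.nd (.nd (.nd (.nd (.nd (.lf 0) (.lf 0)) (.nd (.lf 0) (.lf 0))) (.nd (.nd (.lf 0) (.lf 0)) (.nd (.lf 0) (.lf 0)))) (.nd (.nd (.nd (.lf 0) (.lf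 0)) (.nd (.lf 0) (.lf 0))) (.nd (.nd (.lf 0) (.lf 0)) (.nd (.lf 0) (.lf 0))))) (.nd (.nd (.nd (.nd (.lf 0) (.lf 0)) (.nd (.lf 0) (.lf 0))) (.nd (.nd (.lf 0) (.lf 0)) (.nd (.lf 0) (.lf 0)))) (.nd (.nd (.nd (.lf 0) (.lf 0)) (.nd (.lf 0) (.lf 0))) (.nd (.nd (.lf 0) (.lf 0)) (.nd (.lf 0) (.lf 0))))))) (.nd (.nd (.nd (.nd (.nd (.nd (.lf 0) (.lf 0)) (.nd (.lf 0) (.lf 0))) (.nd (.nd (.lf 0) (.lf 0)) (.nd (.lf 0) (.lf 0)))) (.nd (.nd (.nd (.lf 0) (.lf 0)) (.nd (.lf 0) (.lf 0))) (.nd (.nd (.lf 0) (.lf 0)) (.nd (.lf 0) (.lf 0))))) (.nd (.nd (.nd (.nd (.lf 0) (.lf 0)) (.nd (.lf 0) (.lf 0))) (.nd (.nd (.lf 0) (.lf 0)) (.nd (.lf 0) (.lf 0)))) (.nd (.nd (.nd (.lf 0) (.lf 0)) (.nd (.lf 0) (.lf 0))) (.nd (.nd (.lf 0) (.lf 0)) (.nd (.lf 0) (.lf 0)))))) (.nd (.nd (.nd (.nd (.nd (.lf 0) (.lf 0)) (.nd (.lf 0) (.lf 0)))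 (.nd (.nd (.lf 0) (.lf 0)) (.nd (.lf 0) (.lf 0)))) (.nd (.nd (.nd (.lf 0) (.lf 0)) (.nd (.lf 0) (.lf 0))) (.nd (.nd (.lf 0) (.lf 0)) (.nd (.lf 0) (.lf 0))))) (.nd (.nd (.nd (.nd (.lf 0) (.lf 0)) (.nd (.lf 0) (.lf 0))) (.nd (.nd (.lf 0) (.lf 0)) (.nd (.lf 0) (.lf 0)))) (.nd (.nd (.nd (.lf 0) (.lf 0)) (.nd (.lf 0) (.lf 0))) (.nd (.nd (.lf 0) (.lf 0)) (.nd (.lf 0) (.lf 0))))))))) (.nd (.nd (.nd (.nd (.nd (.nd (.nd (.nd (.lf 0) (.lf 0)) (.nd (.lf 0) (.lf 0))) (.nd (.nd (.lf 0) (.lf 0)) (.nd (.lf 0) (.lf 0)))) (.nd (.nd (.nd (.lf 0) (.lf 0)) (.nd (.lf 0) (.lf 0))) (.nd (.nd (.lf 0) (.lf 0)) (.nd (.lf 0) (.lf 0))))) (.nd (.nd (.nd (.nd (.lf 0) (.lf 0)) (.nd (.lf 0) (.lf 0))) (.nd (.nd (.lf 0) (.lf 0)) (.nd (.lf 0) (.lf 0)))) (.nd (.nd (.nd (.lf 0) (.lf 0)) (.nd (.lf 0) (.lf 0))) (.nd (.nd (.lf 0) (.lf 0))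 (.nd (.lf 0) (.lf 0)))))) (.nd (.nd (.nd (.nd (.nd (.lf 0) (.lf 0)) (.nd (.lf 0) (.lf 0))) (.nd (.nd (.lf 0) (.lf 0)) (.nd (.lf 0) (.lf 0)))) (.nd (.nd (.nd (.lf 0) (.lf 0)) (.nd (.lf 0) (.lf 0))) (.nd (.nd (.lf 0) (.lf 0)) (.nd (.lf 0) (.lf 0))))) (.nd (.nd (.nd (.nd (.lf 0) (.lf 0)) (.nd (.lf 0) (.lf 0))) (.nd (.nd (.lf 0) (.lf 0)) (.nd (.lf 0) (.lf 0)))) (.nd (.nd (.nd (.lf 0) (.lf 0)) (.nd (.lf 0) (.lf 0))) (.nd (.nd (.lf 0) (.lf 0)) (.nd (.lf 0) (.lf 0))))))) (.nd (.nd (.nd (.nd (.nd (.nd (.lf 0) (.lf 0)) (.nd (.lf 0) (.lf 0))) (.nd (.nd (.lf 0) (.lf 0)) (.nd (.lf 0) (.lf 0)))) (.nd (.nd (.nd (.lf 0) (.lf 0)) (.nd (.lf 0) (.lf 0))) (.nd (.nd (.lf 0) (.lf 0)) (.nd (.lf 0) (.lf 0))))) (.nd (.nd (.nd (.nd (.lf 0) (.lf 0)) (.nd (.lf 0) (.lf 0))) (.nd (.nd (.lf 0) (.lf 0)) (.nd (.lf 0) (.lf 0)))) (.nd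 (.nd (.nd (.lf 0) (.lf 0)) (.nd (.lf 0) (.lf 0))) (.nd (.nd (.lf 0) (.lf 0)) (.nd (.lf 0) (.lf 0)))))) (.nd (.nd (.nd (.nd (.nd (.lf 0) (.lf 0)) (.nd (.lf 0) (.lf 0))) (.nd (.nd (.lf 0) (.lf 0)) (.nd (.lf 0) (.lf 0)))) (.nd (.nd (.nd (.lf 0) (.lf 0)) (.nd (.lf 0) (.lf 0))) (.nd (.nd (.lf 0) (.lf 0)) (.nd (.lf 0) (.lf 0))))) (.nd (.nd (.nd (.nd (.lf 0) (.lf 0)) (.nd (.lf 0) (.lf 0))) (.nd (.nd (.lf 0) (.lf 0)) (.nd (.lf 0) (.lf 0)))) (.nd (.nd (.nd (.lf 0) (.lf 0)) (.nd (.lf 0) (.lf 0))) (.nd (.nd (.lf 0) (.lf 0)) (.nd (.lf 0) (.lf 0)))))))) (.nd (.nd (.nd (.nd (.nd (.nd (.nd (.lf 0) (.lf 0)) (.nd (.lf 0) (.lf 0))) (.nd (.nd (.lf 0) (.lf 0)) (.nd (.lf 0) (.lf 0)))) (.nd (.nd (.nd (.lf 0) (.lf 0)) (.nd (.lf 0) (.lf 0))) (.nd (.nd (.lf 0) (.lf 0)) (.nd (.lf 0) (.lf 0))))) (.nd (.nd (.nd (.nd (.lf 0) (.lf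 0)) (.nd (.lf 0) (.lf 0))) (.nd (.nd (.lf 0) (.lf 0)) (.nd (.lf 0) (.lf 0)))) (.nd (.nd (.nd (.lf 0) (.lf 0)) (.nd (.lf 0) (.lf 0))) (.nd (.nd (.lf 0) (.lf 0)) (.nd (.lf 0) (.lf 0)))))) (.nd (.nd (.nd (.nd (.nd (.lf 0) (.lf 0)) (.nd (.lf 0) (.lf 0))) (.nd (.nd (.lf 0) (.lf 0)) (.nd (.lf 0) (.lf 0)))) (.nd (.nd (.nd (.lf 0) (.lf 0)) (.nd (.lf 0) (.lf 0))) (.nd (.nd (.lf 0) (.lf 0)) (.nd (.lf 0) (.lf 0))))) (.nd (.nd (.nd (.nd (.lf 0) (.lf 0)) (.nd (.lf 0) (.lf 0))) (.nd (.nd (.lf 0) (.lf 0)) (.nd (.lf 0) (.lf 0)))) (.nd (.nd (.nd (.lf 0) (.lf 0)) (.nd (.lf 0) (.lf 0))) (.nd (.nd (.lf 0) (.lf 0)) (.nd (.lf 0) (.lf 0))))))) (.nd (.nd (.nd (.nd (.nd (.nd (.lf 0) (.lf 0)) (.nd (.lf 0) (.lf 0))) (.nd (.nd (.lf 0) (.lf 0)) (.nd (.lf 0) (.lf 0)))) (.nd (.nd (.nd (.lf 0) (.lf 0)) (.nd (.lf 0) (.lf 0))) (.nd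 (.nd (.lf 0) (.lf 0)) (.nd (.lf 0) (.lf 0))))) (.nd (.nd (.nd (.nd (.lf 0) (.lf 0)) (.nd (.lf 0) (.lf 0))) (.nd (.nd (.lf 0) (.lf 0)) (.nd (.lf 0) (.lf 0)))) (.nd (.nd (.nd (.lf 0) (.lf 0)) (.nd (.lf 0) (.lf 0))) (.nd (.nd (.lf 0) (.lf 0)) (.nd (.lf 0) (.lf 0)))))) (.nd (.nd (.nd (.nd (.nd (.lf 0) (.lf 0)) (.nd (.lf 0) (.lf 0))) (.nd (.nd (.lf 0) (.lf 0)) (.nd (.lf 0) (.lf 0)))) (.nd (.nd (.nd (.lf 0) (.lf 0)) (.nd (.lf 0) (.lf 0))) (.nd (.nd (.lf 0) (.lf 0)) (.nd (.lf 0) (.lf 0))))) (.nd (.nd (.nd (.nd (.lf 0) (.lf 0)) (.nd (.lf 0) (.lf 0))) (.nd (.nd (.lf 0) (.lf 0)) (.nd (.lf 0) (.lf 0)))) (.nd (.nd (.nd (.lf 0) (.lf 0)) (.nd (.lf 0) (.lf 0))) (.nd (.nd (.lf 0) (.lf 0)) (.nd (.lf 0) (.lf 0)))))))))) (.nd (.nd (.nd (.nd (.nd (.nd (.nd (.nd (.nd (.lf 0) (.lf 0)) (.nd (.lf 0) (.lf 0))) (.nd (.nd (.lf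 0) (.lf 0)) (.nd (.lf 0) (.lf 0)))) (.nd (.nd (.nd (.lf 0) (.lf 0)) (.nd (.lf 0) (.lf 0))) (.nd (.nd (.lf 0) (.lf 0)) (.nd (.lf 0) (.lf 0))))) (.nd (.nd (.nd (.nd (.lf 0) (.lf 0)) (.nd (.lf 0) (.lf 0))) (.nd (.nd (.lf 0) (.lf 0)) (.nd (.lf 0) (.lf 0)))) (.nd (.nd (.nd (.lf 0) (.lf 0)) (.nd (.lf 0) (.lf 0))) (.nd (.nd (.lf 0) (.lf 0)) (.nd (.lf 0) (.lf 0)))))) (.nd (.nd (.nd (.nd (.nd (.lf 0) (.lf 0)) (.nd (.lf 0) (.lf 0))) (.nd (.nd (.lf 0) (.lf 0)) (.nd (.lf 0) (.lf 0)))) (.nd (.nd (.nd (.lf 0) (.lf 0)) (.nd (.lf 0) (.lf 0))) (.nd (.nd (.lf 0) (.lf 0)) (.nd (.lf 0) (.lf 0))))) (.nd (.nd (.nd (.nd (.lf 0) (.lf 0)) (.nd (.lf 0) (.lf 0))) (.nd (.nd (.lf 0) (.lf 0)) (.nd (.lf 0) (.lf 0)))) (.nd (.nd (.nd (.lf 0) (.lf 0)) (.nd (.lf 0) (.lf 0))) (.nd (.nd (.lf 0) (.lf 0)) (.nd (.lf 0) (.lf 0))))))) (.nd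 (.nd (.nd (.nd (.nd (.nd (.lf 0) (.lf 0)) (.nd (.lf 0) (.lf 0))) (.nd (.nd (.lf 0) (.lf 0)) (.nd (.lf 0) (.lf 0)))) (.nd (.nd (.nd (.lf 0) (.lf 0)) (.nd (.lf 0) (.lf 0))) (.nd (.nd (.lf 0) (.lf 0)) (.nd (.lf 0) (.lf 0))))) (.nd (.nd (.nd (.nd (.lf 0) (.lf 0)) (.nd (.lf 0) (.lf 0))) (.nd (.nd (.lf 0) (.lf 0)) (.nd (.lf 0) (.lf 0)))) (.nd (.nd (.nd (.lf 0) (.lf 0)) (.nd (.lf 0) (.lf 0))) (.nd (.nd (.lf 0) (.lf 0)) (.nd (.lf 0) (.lf 0)))))) (.nd (.nd (.nd (.nd (.nd (.lf 0) (.lf 0)) (.nd (.lf 0) (.lf 0))) (.nd (.nd (.lf 0) (.lf 0)) (.nd (.lf 0) (.lf 0)))) (.nd (.nd (.nd (.lf 0) (.lf 0)) (.nd (.lf 0) (.lf 0))) (.nd (.nd (.lf 0) (.lf 0)) (.nd (.lf 0) (.lf 0))))) (.nd (.nd (.nd (.nd (.lf 0) (.lf 0)) (.nd (.lf 0) (.lf 0))) (.nd (.nd (.lf 0) (.lf 0)) (.nd (.lf 0) (.lf 0)))) (.nd (.nd (.nd (.lf 0) (.lf 0)) (.nd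 (.lf 0) (.lf 0))) (.nd (.nd (.lf 0) (.lf 0)) (.nd (.lf 0) (.lf 0)))))))) (.nd (.nd (.nd (.nd (.nd (.nd (.nd (.lf 0) (.lf 0)) (.nd (.lf 0) (.lf 0))) (.nd (.nd (.lf 0) (.lf 0)) (.nd (.lf 0) (.lf 0)))) (.nd (.nd (.nd (.lf 0) (.lf 0)) (.nd (.lf 0) (.lf 0))) (.nd (.nd (.lf 0) (.lf 0)) (.nd (.lf 0) (.lf 0))))) (.nd (.nd (.nd (.nd (.lf 0) (.lf 0)) (.nd (.lf 0) (.lf 0))) (.nd (.nd (.lf 0) (.lf 0)) (.nd (.lf 0) (.lf 0)))) (.nd (.nd (.nd (.lf 0) (.lf 0)) (.nd (.lf 0) (.lf 0))) (.nd (.nd (.lf 0) (.lf 0)) (.nd (.lf 0) (.lf 0)))))) (.nd (.nd (.nd (.nd (.nd (.lf 0) (.lf 0)) (.nd (.lf 0) (.lf 0))) (.nd (.nd (.lf 0) (.lf 0)) (.nd (.lf 0) (.lf 0)))) (.nd (.nd (.nd (.lf 0) (.lf 0)) (.nd (.lf 0) (.lf 0))) (.nd (.nd (.lf 0) (.lf 0)) (.nd (.lf 0) (.lf 0))))) (.nd (.nd (.nd (.nd (.lf 0) (.lf 0)) (.nd (.lf 0) (.lf 0))) (.nd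 (.nd (.lf 0) (.lf 0)) (.nd (.lf 0) (.lf 0)))) (.nd (.nd (.nd (.lf 0) (.lf 0)) (.nd (.lf 0) (.lf 0))) (.nd (.nd (.lf 0) (.lf 0)) (.nd (.lf 0) (.lf 0))))))) (.nd (.nd (.nd (.nd (.nd (.nd (.lf 0) (.lf 0)) (.nd (.lf 0) (.lf 0))) (.nd (.nd (.lf 0) (.lf 0)) (.nd (.lf 0) (.lf 0)))) (.nd (.nd (.nd (.lf 0) (.lf 0)) (.nd (.lf 0) (.lf 0))) (.nd (.nd (.lf 0) (.lf 0)) (.nd (.lf 0) (.lf 0))))) (.nd (.nd (.nd (.nd (.lf 0) (.lf 0)) (.nd (.lf 0) (.lf 0))) (.nd (.nd (.lf 0) (.lf 0)) (.nd (.lf 0) (.lf 0)))) (.nd (.nd (.nd (.lf 0) (.lf 0)) (.nd (.lf 0) (.lf 0))) (.nd (.nd (.lf 0) (.lf 0)) (.nd (.lf 0) (.lf 0)))))) (.nd (.nd (.nd (.nd (.nd (.lf 0) (.lf 0)) (.nd (.lf 0) (.lf 0))) (.nd (.nd (.lf 0) (.lf 0)) (.nd (.lf 0) (.lf 0)))) (.nd (.nd (.nd (.lf 0) (.lf 0)) (.nd (.lf 0) (.lf 0))) (.nd (.nd (.lf 0) (.lf 0)) (.nd (.lf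 0) (.lf 0))))) (.nd (.nd (.nd (.nd (.lf 0) (.lf 0)) (.nd (.lf 0) (.lf 0))) (.nd (.nd (.lf 0) (.lf 0)) (.nd (.lf 0) (.lf 0)))) (.nd (.nd (.nd (.lf 0) (.lf 0)) (.nd (.lf 0) (.lf 0))) (.nd (.nd (.lf 0) (.lf 0)) (.nd (.lf 0) (.lf 0))))))))) (.nd (.nd (.nd (.nd (.nd (.nd (.nd (.nd (.lf 0) (.lf 0)) (.nd (.lf 0) (.lf 0))) (.nd (.nd (.lf 0) (.lf 0)) (.nd (.lf 0) (.lf 0)))) (.nd (.nd (.nd (.lf 0) (.lf 0)) (.nd (.lf 0) (.lf 0))) (.nd (.nd (.lf 0) (.lf 0)) (.nd (.lf 0) (.lf 0))))) (.nd (.nd (.nd (.nd (.lf 0) (.lf 0)) (.nd (.lf 0) (.lf 0))) (.nd (.nd (.lf 0) (.lf 0)) (.nd (.lf 0) (.lf 0)))) (.nd (.nd (.nd (.lf 0) (.lf 0)) (.nd (.lf 0) (.lf 0))) (.nd (.nd (.lf 0) (.lf 0)) (.nd (.lf 0) (.lf 0)))))) (.nd (.nd (.nd (.nd (.nd (.lf 0) (.lf 0)) (.nd (.lf 0) (.lf 0))) (.nd (.nd (.lf 0) (.lf 0)) (.nd (.lf 0) (.lf 0))))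 (.nd (.nd (.nd (.lf 0) (.lf 0)) (.nd (.lf 0) (.lf 0))) (.nd (.nd (.lf 0) (.lf 0)) (.nd (.lf 0) (.lf 0))))) (.nd (.nd (.nd (.nd (.lf 0) (.lf 0)) (.nd (.lf 0) (.lf 0))) (.nd (.nd (.lf 0) (.lf 0)) (.nd (.lf 0) (.lf 0)))) (.nd (.nd (.nd (.lf 0) (.lf 0)) (.nd (.lf 0) (.lf 0))) (.nd (.nd (.lf 0) (.lf 0)) (.nd (.lf 0) (.lf 0))))))) (.nd (.nd (.nd (.nd (.nd (.nd (.lf 0) (.lf 0)) (.nd (.lf 0) (.lf 0))) (.nd (.nd (.lf 0) (.lf 0)) (.nd (.lf 0) (.lf 0)))) (.nd (.nd (.nd (.lf 0) (.lf 0)) (.nd (.lf 0) (.lf 0))) (.nd (.nd (.lf 0) (.lf 0)) (.nd (.lf 0) (.lf 0))))) (.nd (.nd (.nd (.nd (.lf 0) (.lf 0)) (.nd (.lf 0) (.lf 0))) (.nd (.nd (.lf 0) (.lf 0)) (.nd (.lf 0) (.lf 0)))) (.nd (.nd (.nd (.lf 0) (.lf 0)) (.nd (.lf 0) (.lf 0))) (.nd (.nd (.lf 0) (.lf 0)) (.nd (.lf 0) (.lf 0)))))) (.nd (.nd (.nd (.nd (.nd (.lf 0) (.lf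 0)) (.nd (.lf 0) (.lf 0))) (.nd (.nd (.lf 0) (.lf 0)) (.nd (.lf 0) (.lf 0)))) (.nd (.nd (.nd (.lf 0) (.lf 0)) (.nd (.lf 0) (.lf 0))) (.nd (.nd (.lf 0) (.lf 0)) (.nd (.lf 0) (.lf 0))))) (.nd (.nd (.nd (.nd (.lf 0) (.lf 0)) (.nd (.lf 0) (.lf 0))) (.nd (.nd (.lf 0) (.lf 0)) (.nd (.lf 0) (.lf 0)))) (.nd (.nd (.nd (.lf 0) (.lf 0)) (.nd (.lf 0) (.lf 0))) (.nd (.nd (.lf 0) (.lf 0)) (.nd (.lf 0) (.lf 0)))))))) (.nd (.nd (.nd (.nd (.nd (.nd (.nd (.lf 0) (.lf 0)) (.nd (.lf 0) (.lf 0))) (.nd (.nd (.lf 0) (.lf 0)) (.nd (.lf 0) (.lf 0)))) (.nd (.nd (.nd (.lf 0) (.lf 0)) (.nd (.lf 0) (.lf 0))) (.nd (.nd (.lf 0) (.lf 0)) (.nd (.lf 0) (.lf 0))))) (.nd (.nd (.nd (.nd (.lf 0) (.lf 0)) (.nd (.lf 0) (.lf 0))) (.nd (.nd (.lf 0) (.lf 0)) (.nd (.lf 0) (.lf 0)))) (.nd (.nd (.nd (.lf 0) (.lf 0)) (.nd (.lf 0) (.lf 0))) (.nd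 (.nd (.lf 0) (.lf 0)) (.nd (.lf 0) (.lf 0)))))) (.nd (.nd (.nd (.nd (.nd (.lf 0) (.lf 0)) (.nd (.lf 0) (.lf 0))) (.nd (.nd (.lf 0) (.lf 0)) (.nd (.lf 0) (.lf 0)))) (.nd (.nd (.nd (.lf 0) (.lf 0)) (.nd (.lf 0) (.lf 0))) (.nd (.nd (.lf 0) (.lf 0)) (.nd (.lf 0) (.lf 0))))) (.nd (.nd (.nd (.nd (.lf 0) (.lf 0)) (.nd (.lf 0) (.lf 0))) (.nd (.nd (.lf 0) (.lf 0)) (.nd (.lf 0) (.lf 0)))) (.nd (.nd (.nd (.lf 0) (.lf 0)) (.nd (.lf 0) (.lf 0))) (.nd (.nd (.lf 0) (.lf 0)) (.nd (.lf 0) (.lf 0))))))) (.nd (.nd (.nd (.nd (.nd (.nd (.lf 0) (.lf 0)) (.nd (.lf 0) (.lf 0))) (.nd (.nd (.lf 0) (.lf 0)) (.nd (.lf 0) (.lf 0)))) (.nd (.nd (.nd (.lf 0) (.lf 0)) (.nd (.lf 0) (.lf 0))) (.nd (.nd (.lf 0) (.lf 0)) (.nd (.lf 0) (.lf 0))))) (.nd (.nd (.nd (.nd (.lf 0) (.lf 0)) (.nd (.lf 0) (.lf 0))) (.nd (.nd (.lf 0) (.lf 0)) (.nd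 (.lf 0) (.lf 0)))) (.nd (.nd (.nd (.lf 0) (.lf 0)) (.nd (.lf 0) (.lf 0))) (.nd (.nd (.lf 0) (.lf 0)) (.nd (.lf 0) (.lf 0)))))) (.nd (.nd (.nd (.nd (.nd (.lf 0) (.lf 0)) (.nd (.lf 0) (.lf 0))) (.nd (.nd (.lf 0) (.lf 0)) (.nd (.lf 0) (.lf 0)))) (.nd (.nd (.nd (.lf 0) (.lf 0)) (.nd (.lf 0) (.lf 0))) (.nd (.nd (.lf 0) (.lf 0)) (.nd (.lf 0) (.lf 0))))) (.nd (.nd (.nd (.nd (.lf 0) (.lf 0)) (.nd (.lf 0) (.lf 0))) (.nd (.nd (.lf 0) (.lf 0)) (.nd (.lf 0) (.lf 0)))) (.nd (.nd (.nd (.lf 0) (.lf 0)) (.nd (.lf 0) (.lf 0))) (.nd (.nd (.lf 0) (.lf 0)) (.nd (.lf 0) (.lf 0))))))))))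

/-- table part -/
def tabX_14 : Tr :=
  .nd (.nd (.nd (.nd (.nd (.nd (.nd (.nd (.nd (.nd (.lf 0) (.lf 0)) (.nd (.lf 0) (.lf 0))) (.nd (.nd (.lf 0) (.lf 0)) (.nd (.lf 0) (.lf 0)))) (.nd (.nd (.nd (.lf 0) (.lf 0)) (.nd (.lf 0) (.lf 0))) (.nd (.nd (.lf 0) (.lf 0)) (.nd (.lf 0) (.lf 0))))) (.nd (.nd (.nd (.nd (.lf 0) (.lf 0)) (.nd (.lf 0) (.lf 0))) (.nd (.nd (.lf 0) (.lf 0)) (.nd (.lf 0) (.lf 0)))) (.nd (.nd (.nd (.lf 0) (.lf 0)) (.nd (.lf 0) (.lf 0))) (.nd (.nd (.lf 0) (.lf 0)) (.nd (.lf 0) (.lf 0)))))) (.nd (.nd (.nd (.nd (.nd (.lf 0) (.lf 0)) (.nd (.lf 0) (.lf 0))) (.nd (.nd (.lf 0) (.lf 0)) (.nd (.lf 0) (.lf 0)))) (.nd (.nd (.nd (.lf 0) (.lf 0)) (.nd (.lf 0) (.lf 0))) (.nd (.nd (.lf 0) (.lf 0)) (.nd (.lf 0) (.lf 0))))) (.nd (.nd (.nd (.nd (.lf 0) (.lf 0)) (.nd (.lf 0) (.lf 0))) (.nd (.nd (.lf 0) (.lf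 0)) (.nd (.lf 0) (.lf 0)))) (.nd (.nd (.nd (.lf 0) (.lf 0)) (.nd (.lf 0) (.lf 0))) (.nd (.nd (.lf 0) (.lf 0)) (.nd (.lf 0) (.lf 0))))))) (.nd (.nd (.nd (.nd (.nd (.nd (.lf 0) (.lf 0)) (.nd (.lf 0) (.lf 0))) (.nd (.nd (.lf 0) (.lf 0)) (.nd (.lf 0) (.lf 0)))) (.nd (.nd (.nd (.lf 0) (.lf 0)) (.nd (.lf 0) (.lf 0))) (.nd (.nd (.lf 0) (.lf 0)) (.nd (.lf 0) (.lf 0))))) (.nd (.nd (.nd (.nd (.lf 0) (.lf 0)) (.nd (.lf 0) (.lf 0))) (.nd (.nd (.lf 0) (.lf 0)) (.nd (.lf 0) (.lf 0)))) (.nd (.nd (.nd (.lf 0) (.lf 0)) (.nd (.lf 0) (.lf 0))) (.nd (.nd (.lf 0) (.lf 0)) (.nd (.lf 0) (.lf 0)))))) (.nd (.nd (.nd (.nd (.nd (.lf 0) (.lf 0)) (.nd (.lf 0) (.lf 0))) (.nd (.nd (.lf 0) (.lf 0)) (.nd (.lf 0) (.lf 0)))) (.nd (.nd (.nd (.lf 0) (.lf 0)) (.nd (.lf 0) (.lf 0))) (.nd (.nd (.lf 0) (.lf 0)) (.nd (.lf 0) (.lf 0))))) (.nd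 (.nd (.nd (.nd (.lf 0) (.lf 0)) (.nd (.lf 0) (.lf 0))) (.nd (.nd (.lf 0) (.lf 0)) (.nd (.lf 0) (.lf 0)))) (.nd (.nd (.nd (.lf 0) (.lf 0)) (.nd (.lf 0) (.lf 0))) (.nd (.nd (.lf 0) (.lf 0)) (.nd (.lf 0) (.lf 0)))))))) (.nd (.nd (.nd (.nd (.nd (.nd (.nd (.lf 0) (.lf 0)) (.nd (.lf 0) (.lf 0))) (.nd (.nd (.lf 0) (.lf 0)) (.nd (.lf 0) (.lf 0)))) (.nd (.nd (.nd (.lf 0) (.lf 0)) (.nd (.lf 0) (.lf 0))) (.nd (.nd (.lf 0) (.lf 0)) (.nd (.lf 0) (.lf 0))))) (.nd (.nd (.nd (.nd (.lf 0) (.lf 0)) (.nd (.lf 0) (.lf 0))) (.nd (.nd (.lf 0) (.lf 0)) (.nd (.lf 0) (.lf 0)))) (.nd (.nd (.nd (.lf 0) (.lf 0)) (.nd (.lf 0) (.lf 0))) (.nd (.nd (.lf 0) (.lf 0)) (.nd (.lf 0) (.lf 0)))))) (.nd (.nd (.nd (.nd (.nd (.lf 0) (.lf 0)) (.nd (.lf 0) (.lf 0))) (.nd (.nd (.lf 0) (.lf 0)) (.nd (.lf 0) (.lf 0)))) (.nd (.nd (.nd (.lf 0) (.lf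 0)) (.nd (.lf 0) (.lf 0))) (.nd (.nd (.lf 0) (.lf 0)) (.nd (.lf 0) (.lf 0))))) (.nd (.nd (.nd (.nd (.lf 0) (.lf 0)) (.nd (.lf 0) (.lf 0))) (.nd (.nd (.lf 0) (.lf 0)) (.nd (.lf 0) (.lf 0)))) (.nd (.nd (.nd (.lf 0) (.lf 0)) (.nd (.lf 0) (.lf 0))) (.nd (.nd (.lf 0) (.lf 0)) (.nd (.lf 0) (.lf 0))))))) (.nd (.nd (.nd (.nd (.nd (.nd (.lf 0) (.lf 0)) (.nd (.lf 0) (.lf 0))) (.nd (.nd (.lf 0) (.lf 0)) (.nd (.lf 0) (.lf 0)))) (.nd (.nd (.nd (.lf 0) (.lf 0)) (.nd (.lf 0) (.lf 0))) (.nd (.nd (.lf 0) (.lf 0)) (.nd (.lf 0) (.lf 0))))) (.nd (.nd (.nd (.nd (.lf 0) (.lf 0)) (.nd (.lf 0) (.lf 0))) (.nd (.nd (.lf 0) (.lf 0)) (.nd (.lf 0) (.lf 0)))) (.nd (.nd (.nd (.lf 0) (.lf 0)) (.nd (.lf 0) (.lf 0))) (.nd (.nd (.lf 0) (.lf 0)) (.nd (.lf 0) (.lf 0)))))) (.nd (.nd (.nd (.nd (.nd (.lf 0) (.lf 0)) (.nd (.lf 0) (.lf 0)))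 (.nd (.nd (.lf 0) (.lf 0)) (.nd (.lf 0) (.lf 0)))) (.nd (.nd (.nd (.lf 0) (.lf 0)) (.nd (.lf 0) (.lf 0))) (.nd (.nd (.lf 0) (.lf 0)) (.nd (.lf 0) (.lf 0))))) (.nd (.nd (.nd (.nd (.lf 0) (.lf 0)) (.nd (.lf 0) (.lf 0))) (.nd (.nd (.lf 0) (.lf 0)) (.nd (.lf 0) (.lf 0)))) (.nd (.nd (.nd (.lf 0) (.lf 0)) (.nd (.lf 0) (.lf 0))) (.nd (.nd (.lf 0) (.lf 0)) (.nd (.lf 0) (.lf 0))))))))) (.nd (.nd (.nd (.nd (.nd (.nd (.nd (.nd (.lf 0) (.lf 0)) (.nd (.lf 0) (.lf 0))) (.nd (.nd (.lf 0) (.lf 0)) (.nd (.lf 0) (.lf 0)))) (.nd (.nd (.nd (.lf 0) (.lf 0)) (.nd (.lf 0) (.lf 0))) (.nd (.nd (.lf 0) (.lf 0)) (.nd (.lf 0) (.lf 0))))) (.nd (.nd (.nd (.nd (.lf 0) (.lf 0)) (.nd (.lf 0) (.lf 0))) (.nd (.nd (.lf 0) (.lf 0)) (.nd (.lf 0) (.lf 0)))) (.nd (.nd (.nd (.lf 0) (.lf 0)) (.nd (.lf 0) (.lf 0))) (.nd (.nd (.lf 0) (.lf 0))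 (.nd (.lf 0) (.lf 0)))))) (.nd (.nd (.nd (.nd (.nd (.lf 0) (.lf 0)) (.nd (.lf 0) (.lf 0))) (.nd (.nd (.lf 0) (.lf 0)) (.nd (.lf 0) (.lf 0)))) (.nd (.nd (.nd (.lf 0) (.lf 0)) (.nd (.lf 0) (.lf 0))) (.nd (.nd (.lf 0) (.lf 0)) (.nd (.lf 0) (.lf 0))))) (.nd (.nd (.nd (.nd (.lf 0) (.lf 0)) (.nd (.lf 0) (.lf 0))) (.nd (.nd (.lf 0) (.lf 0)) (.nd (.lf 0) (.lf 0)))) (.nd (.nd (.nd (.lf 0) (.lf 0)) (.nd (.lf 0) (.lf 0))) (.nd (.nd (.lf 0) (.lf 0)) (.nd (.lf 0) (.lf 0))))))) (.nd (.nd (.nd (.nd (.nd (.nd (.lf 0) (.lf 0)) (.nd (.lf 0) (.lf 0))) (.nd (.nd (.lf 0) (.lf 0)) (.nd (.lf 0) (.lf 0)))) (.nd (.nd (.nd (.lf 0) (.lf 0)) (.nd (.lf 0) (.lf 0))) (.nd (.nd (.lf 0) (.lf 0)) (.nd (.lf 0) (.lf 0))))) (.nd (.nd (.nd (.nd (.lf 0) (.lf 0)) (.nd (.lf 0) (.lf 0))) (.nd (.nd (.lf 0) (.lf 0)) (.nd (.lf 0) (.lf 0)))) (.nd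 (.nd (.nd (.lf 0) (.lf 0)) (.nd (.lf 0) (.lf 0))) (.nd (.nd (.lf 0) (.lf 0)) (.nd (.lf 0) (.lf 0)))))) (.nd (.nd (.nd (.nd (.nd (.lf 0) (.lf 0)) (.nd (.lf 0) (.lf 0))) (.nd (.nd (.lf 0) (.lf 0)) (.nd (.lf 0) (.lf 0)))) (.nd (.nd (.nd (.lf 0) (.lf 0)) (.nd (.lf 0) (.lf 0))) (.nd (.nd (.lf 0) (.lf 0)) (.nd (.lf 0) (.lf 0))))) (.nd (.nd (.nd (.nd (.lf 0) (.lf 0)) (.nd (.lf 0) (.lf 0))) (.nd (.nd (.lf 0) (.lf 0)) (.nd (.lf 0) (.lf 0)))) (.nd (.nd (.nd (.lf 0) (.lf 0)) (.nd (.lf 0) (.lf 0))) (.nd (.nd (.lf 0) (.lf 0)) (.nd (.lf 0) (.lf 0)))))))) (.nd (.nd (.nd (.nd (.nd (.nd (.nd (.lf 0) (.lf 0)) (.nd (.lf 0) (.lf 0))) (.nd (.nd (.lf 0) (.lf 0)) (.nd (.lf 0) (.lf 0)))) (.nd (.nd (.nd (.lf 0) (.lf 0)) (.nd (.lf 0) (.lf 0))) (.nd (.nd (.lf 0) (.lf 0)) (.nd (.lf 0) (.lf 0))))) (.nd (.nd (.nd (.nd (.lf 0) (.lf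 0)) (.nd (.lf 0) (.lf 0))) (.nd (.nd (.lf 0) (.lf 0)) (.nd (.lf 0) (.lf 0)))) (.nd (.nd (.nd (.lf 0) (.lf 0)) (.nd (.lf 0) (.lf 0))) (.nd (.nd (.lf 0) (.lf 0)) (.nd (.lf 0) (.lf 0)))))) (.nd (.nd (.nd (.nd (.nd (.lf 0) (.lf 0)) (.nd (.lf 0) (.lf 0))) (.nd (.nd (.lf 0) (.lf 0)) (.nd (.lf 0) (.lf 0)))) (.nd (.nd (.nd (.lf 0) (.lf 0)) (.nd (.lf 0) (.lf 0))) (.nd (.nd (.lf 0) (.lf 0)) (.nd (.lf 0) (.lf 0))))) (.nd (.nd (.nd (.nd (.lf 0) (.lf 0)) (.nd (.lf 0) (.lf 0))) (.nd (.nd (.lf 0) (.lf 0)) (.nd (.lf 0) (.lf 0)))) (.nd (.nd (.nd (.lf 0) (.lf 0)) (.nd (.lf 0) (.lf 0))) (.nd (.nd (.lf 0) (.lf 0)) (.nd (.lf 0) (.lf 0))))))) (.nd (.nd (.nd (.nd (.nd (.nd (.lf 0) (.lf 0)) (.nd (.lf 0) (.lf 0))) (.nd (.nd (.lf 0) (.lf 0)) (.nd (.lf 0) (.lf 0)))) (.nd (.nd (.nd (.lf 0) (.lf 0)) (.nd (.lf 0) (.lf 0))) (.nd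 (.nd (.lf 0) (.lf 0)) (.nd (.lf 0) (.lf 0))))) (.nd (.nd (.nd (.nd (.lf 0) (.lf 0)) (.nd (.lf 0) (.lf 0))) (.nd (.nd (.lf 0) (.lf 0)) (.nd (.lf 0) (.lf 0)))) (.nd (.nd (.nd (.lf 0) (.lf 0)) (.nd (.lf 0) (.lf 0))) (.nd (.nd (.lf 0) (.lf 0)) (.nd (.lf 0) (.lf 0)))))) (.nd (.nd (.nd (.nd (.nd (.lf 0) (.lf 0)) (.nd (.lf 0) (.lf 0))) (.nd (.nd (.lf 0) (.lf 0)) (.nd (.lf 0) (.lf 0)))) (.nd (.nd (.nd (.lf 0) (.lf 0)) (.nd (.lf 0) (.lf 0))) (.nd (.nd (.lf 0) (.lf 0)) (.nd (.lf 0) (.lf 0))))) (.nd (.nd (.nd (.nd (.lf 0) (.lf 0)) (.nd (.lf 0) (.lf 0))) (.nd (.nd (.lf 0) (.lf 0)) (.nd (.lf 0) (.lf 0)))) (.nd (.nd (.nd (.lf 0) (.lf 0)) (.nd (.lf 0) (.lf 0))) (.nd (.nd (.lf 0) (.lf 0)) (.nd (.lf 0) (.lf 0)))))))))) (.nd (.nd (.nd (.nd (.nd (.nd (.nd (.nd (.nd (.lf 0) (.lf 0)) (.nd (.lf 0) (.lf 0))) (.nd (.nd (.lf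 0) (.lf 0)) (.nd (.lf 0) (.lf 0)))) (.nd (.nd (.nd (.lf 0) (.lf 0)) (.nd (.lf 0) (.lf 0))) (.nd (.nd (.lf 0) (.lf 0)) (.nd (.lf 0) (.lf 0))))) (.nd (.nd (.nd (.nd (.lf 0) (.lf 0)) (.nd (.lf 0) (.lf 0))) (.nd (.nd (.lf 0) (.lf 0)) (.nd (.lf 0) (.lf 0)))) (.nd (.nd (.nd (.lf 0) (.lf 0)) (.nd (.lf 0) (.lf 0))) (.nd (.nd (.lf 0) (.lf 0)) (.nd (.lf 0) (.lf 0)))))) (.nd (.nd (.nd (.nd (.nd (.lf 0) (.lf 0)) (.nd (.lf 0) (.lf 0))) (.nd (.nd (.lf 0) (.lf 0)) (.nd (.lf 0) (.lf 0)))) (.nd (.nd (.nd (.lf 0) (.lf 0)) (.nd (.lf 0) (.lf 0))) (.nd (.nd (.lf 0) (.lf 0)) (.nd (.lf 0) (.lf 0))))) (.nd (.nd (.nd (.nd (.lf 0) (.lf 0)) (.nd (.lf 0) (.lf 0))) (.nd (.nd (.lf 0) (.lf 0)) (.nd (.lf 0) (.lf 0)))) (.nd (.nd (.nd (.lf 0) (.lf 0)) (.nd (.lf 0) (.lf 0))) (.nd (.nd (.lf 4) (.lf 0)) (.nd (.lf 0) (.lf 0))))))) (.nd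 (.nd (.nd (.nd (.nd (.nd (.lf 0) (.lf 0)) (.nd (.lf 0) (.lf 0))) (.nd (.nd (.lf 0) (.lf 0)) (.nd (.lf 0) (.lf 0)))) (.nd (.nd (.nd (.lf 0) (.lf 0)) (.nd (.lf 0) (.lf 0))) (.nd (.nd (.lf 0) (.lf 0)) (.nd (.lf 0) (.lf 0))))) (.nd (.nd (.nd (.nd (.lf 0) (.lf 0)) (.nd (.lf 0) (.lf 0))) (.nd (.nd (.lf 0) (.lf 0)) (.nd (.lf 0) (.lf 0)))) (.nd (.nd (.nd (.lf 0) (.lf 0)) (.nd (.lf 0) (.lf 0))) (.nd (.nd (.lf 0) (.lf 0)) (.nd (.lf 0) (.lf 0)))))) (.nd (.nd (.nd (.nd (.nd (.lf 0) (.lf 0)) (.nd (.lf 0) (.lf 0))) (.nd (.nd (.lf 0) (.lf 0)) (.nd (.lf 0) (.lf 0)))) (.nd (.nd (.nd (.lf 0) (.lf 0)) (.nd (.lf 0) (.lf 0))) (.nd (.nd (.lf 0) (.lf 0)) (.nd (.lf 0) (.lf 0))))) (.nd (.nd (.nd (.nd (.lf 0) (.lf 0)) (.nd (.lf 0) (.lf 0))) (.nd (.nd (.lf 0) (.lf 0)) (.nd (.lf 0) (.lf 0)))) (.nd (.nd (.nd (.lf 0) (.lf 0)) (.nd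 (.lf 0) (.lf 0))) (.nd (.nd (.lf 0) (.lf 0)) (.nd (.lf 0) (.lf 0)))))))) (.nd (.nd (.nd (.nd (.nd (.nd (.nd (.lf 0) (.lf 0)) (.nd (.lf 0) (.lf 0))) (.nd (.nd (.lf 0) (.lf 0)) (.nd (.lf 0) (.lf 0)))) (.nd (.nd (.nd (.lf 0) (.lf 0)) (.nd (.lf 0) (.lf 0))) (.nd (.nd (.lf 0) (.lf 0)) (.nd (.lf 0) (.lf 0))))) (.nd (.nd (.nd (.nd (.lf 0) (.lf 0)) (.nd (.lf 0) (.lf 0))) (.nd (.nd (.lf 0) (.lf 0)) (.nd (.lf 0) (.lf 0)))) (.nd (.nd (.nd (.lf 0) (.lf 0)) (.nd (.lf 0) (.lf 0))) (.nd (.nd (.lf 0) (.lf 0)) (.nd (.lf 0) (.lf 0)))))) (.nd (.nd (.nd (.nd (.nd (.lf 0) (.lf 0)) (.nd (.lf 0) (.lf 0))) (.nd (.nd (.lf 0) (.lf 0)) (.nd (.lf 0) (.lf 0)))) (.nd (.nd (.nd (.lf 0) (.lf 0)) (.nd (.lf 0) (.lf 0))) (.nd (.nd (.lf 0) (.lf 0)) (.nd (.lf 0) (.lf 0))))) (.nd (.nd (.nd (.nd (.lf 0) (.lf 0)) (.nd (.lf 0) (.lf 0))) (.nd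 (.nd (.lf 0) (.lf 0)) (.nd (.lf 0) (.lf 0)))) (.nd (.nd (.nd (.lf 0) (.lf 0)) (.nd (.lf 0) (.lf 0))) (.nd (.nd (.lf 0) (.lf 0)) (.nd (.lf 0) (.lf 0))))))) (.nd (.nd (.nd (.nd (.nd (.nd (.lf 0) (.lf 0)) (.nd (.lf 0) (.lf 0))) (.nd (.nd (.lf 0) (.lf 0)) (.nd (.lf 0) (.lf 0)))) (.nd (.nd (.nd (.lf 0) (.lf 0)) (.nd (.lf 0) (.lf 0))) (.nd (.nd (.lf 0) (.lf 0)) (.nd (.lf 0) (.lf 0))))) (.nd (.nd (.nd (.nd (.lf 0) (.lf 0)) (.nd (.lf 0) (.lf 0))) (.nd (.nd (.lf 0) (.lf 0)) (.nd (.lf 0) (.lf 0)))) (.nd (.nd (.nd (.lf 0) (.lf 0)) (.nd (.lf 0) (.lf 0))) (.nd (.nd (.lf 0) (.lf 0)) (.nd (.lf 0) (.lf 0)))))) (.nd (.nd (.nd (.nd (.nd (.lf 0) (.lf 0)) (.nd (.lf 0) (.lf 0))) (.nd (.nd (.lf 0) (.lf 0)) (.nd (.lf 0) (.lf 0)))) (.nd (.nd (.nd (.lf 0) (.lf 0)) (.nd (.lf 0) (.lf 0))) (.nd (.nd (.lf 0) (.lf 0)) (.nd (.lf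 0) (.lf 0))))) (.nd (.nd (.nd (.nd (.lf 0) (.lf 0)) (.nd (.lf 0) (.lf 0))) (.nd (.nd (.lf 0) (.lf 0)) (.nd (.lf 0) (.lf 0)))) (.nd (.nd (.nd (.lf 0) (.lf 0)) (.nd (.lf 0) (.lf 0))) (.nd (.nd (.lf 0) (.lf 0)) (.nd (.lf 0) (.lf 0))))))))) (.nd (.nd (.nd (.nd (.nd (.nd (.nd (.nd (.lf 0) (.lf 0)) (.nd (.lf 0) (.lf 0))) (.nd (.nd (.lf 0) (.lf 0)) (.nd (.lf 0) (.lf 0)))) (.nd (.nd (.nd (.lf 0) (.lf 0)) (.nd (.lf 0) (.lf 0))) (.nd (.nd (.lf 0) (.lf 0)) (.nd (.lf 0) (.lf 0))))) (.nd (.nd (.nd (.nd (.lf 0) (.lf 0)) (.nd (.lf 0) (.lf 0))) (.nd (.nd (.lf 0) (.lf 0)) (.nd (.lf 0) (.lf 0)))) (.nd (.nd (.nd (.lf 0) (.lf 0)) (.nd (.lf 0) (.lf 0))) (.nd (.nd (.lf 0) (.lf 0)) (.nd (.lf 0) (.lf 0)))))) (.nd (.nd (.nd (.nd (.nd (.lf 0) (.lf 0)) (.nd (.lf 0) (.lf 0))) (.nd (.nd (.lf 0) (.lf 0)) (.nd (.lf 0) (.lf 0))))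 (.nd (.nd (.nd (.lf 0) (.lf 0)) (.nd (.lf 0) (.lf 0))) (.nd (.nd (.lf 0) (.lf 0)) (.nd (.lf 0) (.lf 0))))) (.nd (.nd (.nd (.nd (.lf 0) (.lf 0)) (.nd (.lf 0) (.lf 0))) (.nd (.nd (.lf 0) (.lf 0)) (.nd (.lf 0) (.lf 0)))) (.nd (.nd (.nd (.lf 0) (.lf 0)) (.nd (.lf 0) (.lf 0))) (.nd (.nd (.lf 0) (.lf 0)) (.nd (.lf 0) (.lf 0))))))) (.nd (.nd (.nd (.nd (.nd (.nd (.lf 0) (.lf 0)) (.nd (.lf 0) (.lf 0))) (.nd (.nd (.lf 0) (.lf 0)) (.nd (.lf 0) (.lf 0)))) (.nd (.nd (.nd (.lf 0) (.lf 0)) (.nd (.lf 0) (.lf 0))) (.nd (.nd (.lf 0) (.lf 0)) (.nd (.lf 0) (.lf 0))))) (.nd (.nd (.nd (.nd (.lf 0) (.lf 0)) (.nd (.lf 0) (.lf 0))) (.nd (.nd (.lf 0) (.lf 0)) (.nd (.lf 0) (.lf 0)))) (.nd (.nd (.nd (.lf 0) (.lf 0)) (.nd (.lf 0) (.lf 0))) (.nd (.nd (.lf 0) (.lf 0)) (.nd (.lf 0) (.lf 0)))))) (.nd (.nd (.nd (.nd (.nd (.lf 0) (.lf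 0)) (.nd (.lf 0) (.lf 0))) (.nd (.nd (.lf 0) (.lf 0)) (.nd (.lf 0) (.lf 0)))) (.nd (.nd (.nd (.lf 0) (.lf 0)) (.nd (.lf 0) (.lf 0))) (.nd (.nd (.lf 0) (.lf 0)) (.nd (.lf 0) (.lf 0))))) (.nd (.nd (.nd (.nd (.lf 0) (.lf 0)) (.nd (.lf 0) (.lf 0))) (.nd (.nd (.lf 0) (.lf 0)) (.nd (.lf 0) (.lf 0)))) (.nd (.nd (.nd (.lf 0) (.lf 0)) (.nd (.lf 0) (.lf 0))) (.nd (.nd (.lf 0) (.lf 0)) (.nd (.lf 0) (.lf 0)))))))) (.nd (.nd (.nd (.nd (.nd (.nd (.nd (.lf 0) (.lf 0)) (.nd (.lf 0) (.lf 0))) (.nd (.nd (.lf 0) (.lf 0)) (.nd (.lf 0) (.lf 0)))) (.nd (.nd (.nd (.lf 0) (.lf 0)) (.nd (.lf 0) (.lf 0))) (.nd (.nd (.lf 0) (.lf 0)) (.nd (.lf 0) (.lf 0))))) (.nd (.nd (.nd (.nd (.lf 0) (.lf 0)) (.nd (.lf 0) (.lf 0))) (.nd (.nd (.lf 0) (.lf 0)) (.nd (.lf 0) (.lf 0)))) (.nd (.nd (.nd (.lf 0) (.lf 0)) (.nd (.lf 0) (.lf 0))) (.nd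 (.nd (.lf 0) (.lf 0)) (.nd (.lf 0) (.lf 0)))))) (.nd (.nd (.nd (.nd (.nd (.lf 0) (.lf 0)) (.nd (.lf 0) (.lf 0))) (.nd (.nd (.lf 0) (.lf 0)) (.nd (.lf 0) (.lf 0)))) (.nd (.nd (.nd (.lf 0) (.lf 0)) (.nd (.lf 0) (.lf 0))) (.nd (.nd (.lf 0) (.lf 0)) (.nd (.lf 0) (.lf 0))))) (.nd (.nd (.nd (.nd (.lf 0) (.lf 0)) (.nd (.lf 0) (.lf 0))) (.nd (.nd (.lf 0) (.lf 0)) (.nd (.lf 0) (.lf 0)))) (.nd (.nd (.nd (.lf 0) (.lf 0)) (.nd (.lf 0) (.lf 0))) (.nd (.nd (.lf 0) (.lf 0)) (.nd (.lf 0) (.lf 0))))))) (.nd (.nd (.nd (.nd (.nd (.nd (.lf 0) (.lf 0)) (.nd (.lf 0) (.lf 0))) (.nd (.nd (.lf 0) (.lf 0)) (.nd (.lf 0) (.lf 0)))) (.nd (.nd (.nd (.lf 0) (.lf 0)) (.nd (.lf 0) (.lf 0))) (.nd (.nd (.lf 0) (.lf 0)) (.nd (.lf 0) (.lf 0))))) (.nd (.nd (.nd (.nd (.lf 0) (.lf 0)) (.nd (.lf 0) (.lf 0))) (.nd (.nd (.lf 0) (.lf 0)) (.nd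 (.lf 0) (.lf 0)))) (.nd (.nd (.nd (.lf 0) (.lf 0)) (.nd (.lf 0) (.lf 0))) (.nd (.nd (.lf 0) (.lf 0)) (.nd (.lf 0) (.lf 0)))))) (.nd (.nd (.nd (.nd (.nd (.lf 0) (.lf 0)) (.nd (.lf 0) (.lf 0))) (.nd (.nd (.lf 0) (.lf 0)) (.nd (.lf 0) (.lf 0)))) (.nd (.nd (.nd (.lf 0) (.lf 0)) (.nd (.lf 0) (.lf 0))) (.nd (.nd (.lf 0) (.lf 0)) (.nd (.lf 0) (.lf 0))))) (.nd (.nd (.nd (.nd (.lf 0) (.lf 0)) (.nd (.lf 0) (.lf 0))) (.nd (.nd (.lf 0) (.lf 0)) (.nd (.lf 0) (.lf 0)))) (.nd (.nd (.nd (.lf 0) (.lf 0)) (.nd (.lf 0) (.lf 0))) (.nd (.nd (.lf 0) (.lf 0)) (.nd (.lf 0) (.lf 0))))))))))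

/-- table part -/
def tabX_15 : Tr :=
  .nd (.nd (.nd (.nd (.nd (.nd (.nd (.nd (.nd (.nd (.lf 0) (.lf 0)) (.nd (.lf 0) (.lf 0))) (.nd (.nd (.lf 0) (.lf 0)) (.nd (.lf 0) (.lf 0)))) (.nd (.nd (.nd (.lf 0) (.lf 0)) (.nd (.lf 0) (.lf 0))) (.nd (.nd (.lf 0) (.lf 0)) (.nd (.lf 0) (.lf 0))))) (.nd (.nd (.nd (.nd (.lf 0) (.lf 0)) (.nd (.lf 0) (.lf 0))) (.nd (.nd (.lf 0) (.lf 0)) (.nd (.lf 0) (.lf 0)))) (.nd (.nd (.nd (.lf 0) (.lf 0)) (.nd (.lf 0) (.lf 0))) (.nd (.nd (.lf 0) (.lf 0)) (.nd (.lf 0) (.lf 0)))))) (.nd (.nd (.nd (.nd (.nd (.lf 0) (.lf 0)) (.nd (.lf 0) (.lf 0))) (.nd (.nd (.lf 0) (.lf 0)) (.nd (.lf 0) (.lf 0)))) (.nd (.nd (.nd (.lf 0) (.lf 0)) (.nd (.lf 0) (.lf 0))) (.nd (.nd (.lf 0) (.lf 0)) (.nd (.lf 0) (.lf 0))))) (.nd (.nd (.nd (.nd (.lf 0) (.lf 0)) (.nd (.lf 0) (.lf 0))) (.nd (.nd (.lf 0) (.lf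 0)) (.nd (.lf 0) (.lf 0)))) (.nd (.nd (.nd (.lf 0) (.lf 0)) (.nd (.lf 0) (.lf 0))) (.nd (.nd (.lf 0) (.lf 0)) (.nd (.lf 0) (.lf 0))))))) (.nd (.nd (.nd (.nd (.nd (.nd (.lf 0) (.lf 0)) (.nd (.lf 0) (.lf 0))) (.nd (.nd (.lf 0) (.lf 0)) (.nd (.lf 0) (.lf 0)))) (.nd (.nd (.nd (.lf 0) (.lf 0)) (.nd (.lf 0) (.lf 0))) (.nd (.nd (.lf 0) (.lf 0)) (.nd (.lf 0) (.lf 0))))) (.nd (.nd (.nd (.nd (.lf 0) (.lf 0)) (.nd (.lf 0) (.lf 0))) (.nd (.nd (.lf 0) (.lf 0)) (.nd (.lf 0) (.lf 0)))) (.nd (.nd (.nd (.lf 0) (.lf 0)) (.nd (.lf 0) (.lf 0))) (.nd (.nd (.lf 0) (.lf 0)) (.nd (.lf 0) (.lf 0)))))) (.nd (.nd (.nd (.nd (.nd (.lf 0) (.lf 0)) (.nd (.lf 0) (.lf 0))) (.nd (.nd (.lf 0) (.lf 0)) (.nd (.lf 0) (.lf 0)))) (.nd (.nd (.nd (.lf 0) (.lf 0)) (.nd (.lf 0) (.lf 0))) (.nd (.nd (.lf 0) (.lf 0)) (.nd (.lf 0) (.lf 0))))) (.nd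 (.nd (.nd (.nd (.lf 0) (.lf 0)) (.nd (.lf 0) (.lf 0))) (.nd (.nd (.lf 0) (.lf 0)) (.nd (.lf 0) (.lf 0)))) (.nd (.nd (.nd (.lf 0) (.lf 0)) (.nd (.lf 0) (.lf 0))) (.nd (.nd (.lf 0) (.lf 0)) (.nd (.lf 0) (.lf 0)))))))) (.nd (.nd (.nd (.nd (.nd (.nd (.nd (.lf 0) (.lf 0)) (.nd (.lf 0) (.lf 0))) (.nd (.nd (.lf 0) (.lf 0)) (.nd (.lf 0) (.lf 0)))) (.nd (.nd (.nd (.lf 0) (.lf 0)) (.nd (.lf 0) (.lf 0))) (.nd (.nd (.lf 0) (.lf 0)) (.nd (.lf 0) (.lf 0))))) (.nd (.nd (.nd (.nd (.lf 0) (.lf 0)) (.nd (.lf 0) (.lf 0))) (.nd (.nd (.lf 0) (.lf 0)) (.nd (.lf 0) (.lf 0)))) (.nd (.nd (.nd (.lf 0) (.lf 0)) (.nd (.lf 0) (.lf 0))) (.nd (.nd (.lf 0) (.lf 0)) (.nd (.lf 0) (.lf 0)))))) (.nd (.nd (.nd (.nd (.nd (.lf 0) (.lf 0)) (.nd (.lf 0) (.lf 0))) (.nd (.nd (.lf 0) (.lf 0)) (.nd (.lf 0) (.lf 0)))) (.nd (.nd (.nd (.lf 0) (.lf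 0)) (.nd (.lf 0) (.lf 0))) (.nd (.nd (.lf 0) (.lf 0)) (.nd (.lf 0) (.lf 0))))) (.nd (.nd (.nd (.nd (.lf 0) (.lf 0)) (.nd (.lf 0) (.lf 0))) (.nd (.nd (.lf 0) (.lf 0)) (.nd (.lf 0) (.lf 0)))) (.nd (.nd (.nd (.lf 0) (.lf 0)) (.nd (.lf 0) (.lf 0))) (.nd (.nd (.lf 0) (.lf 0)) (.nd (.lf 0) (.lf 0))))))) (.nd (.nd (.nd (.nd (.nd (.nd (.lf 0) (.lf 0)) (.nd (.lf 0) (.lf 0))) (.nd (.nd (.lf 0) (.lf 0)) (.nd (.lf 0) (.lf 0)))) (.nd (.nd (.nd (.lf 0) (.lf 0)) (.nd (.lf 0) (.lf 0))) (.nd (.nd (.lf 0) (.lf 0)) (.nd (.lf 0) (.lf 0))))) (.nd (.nd (.nd (.nd (.lf 0) (.lf 0)) (.nd (.lf 0) (.lf 0))) (.nd (.nd (.lf 0) (.lf 0)) (.nd (.lf 0) (.lf 0)))) (.nd (.nd (.nd (.lf 0) (.lf 0)) (.nd (.lf 0) (.lf 0))) (.nd (.nd (.lf 0) (.lf 0)) (.nd (.lf 0) (.lf 0)))))) (.nd (.nd (.nd (.nd (.nd (.lf 0) (.lf 0)) (.nd (.lf 0) (.lf 0)))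 (.nd (.nd (.lf 0) (.lf 0)) (.nd (.lf 0) (.lf 0)))) (.nd (.nd (.nd (.lf 0) (.lf 0)) (.nd (.lf 0) (.lf 0))) (.nd (.nd (.lf 0) (.lf 0)) (.nd (.lf 0) (.lf 0))))) (.nd (.nd (.nd (.nd (.lf 0) (.lf 0)) (.nd (.lf 0) (.lf 0))) (.nd (.nd (.lf 0) (.lf 0)) (.nd (.lf 0) (.lf 0)))) (.nd (.nd (.nd (.lf 0) (.lf 0)) (.nd (.lf 0) (.lf 0))) (.nd (.nd (.lf 0) (.lf 0)) (.nd (.lf 0) (.lf 0))))))))) (.nd (.nd (.nd (.nd (.nd (.nd (.nd (.nd (.lf 0) (.lf 0)) (.nd (.lf 0) (.lf 0))) (.nd (.nd (.lf 0) (.lf 0)) (.nd (.lf 0) (.lf 0)))) (.nd (.nd (.nd (.lf 0) (.lf 0)) (.nd (.lf 0) (.lf 0))) (.nd (.nd (.lf 0) (.lf 0)) (.nd (.lf 9) (.lf 0))))) (.nd (.nd (.nd (.nd (.lf 0) (.lf 0)) (.nd (.lf 0) (.lf 0))) (.nd (.nd (.lf 0) (.lf 0)) (.nd (.lf 0) (.lf 0)))) (.nd (.nd (.nd (.lf 0) (.lf 0)) (.nd (.lf 0) (.lf 0))) (.nd (.nd (.lf 0) (.lf 0))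 (.nd (.lf 0) (.lf 0)))))) (.nd (.nd (.nd (.nd (.nd (.lf 0) (.lf 0)) (.nd (.lf 0) (.lf 0))) (.nd (.nd (.lf 0) (.lf 0)) (.nd (.lf 0) (.lf 0)))) (.nd (.nd (.nd (.lf 0) (.lf 0)) (.nd (.lf 0) (.lf 0))) (.nd (.nd (.lf 0) (.lf 0)) (.nd (.lf 0) (.lf 0))))) (.nd (.nd (.nd (.nd (.lf 0) (.lf 0)) (.nd (.lf 0) (.lf 0))) (.nd (.nd (.lf 0) (.lf 0)) (.nd (.lf 0) (.lf 0)))) (.nd (.nd (.nd (.lf 0) (.lf 0)) (.nd (.lf 0) (.lf 0))) (.nd (.nd (.lf 0) (.lf 0)) (.nd (.lf 0) (.lf 0))))))) (.nd (.nd (.nd (.nd (.nd (.nd (.lf 0) (.lf 0)) (.nd (.lf 0) (.lf 0))) (.nd (.nd (.lf 0) (.lf 0)) (.nd (.lf 0) (.lf 0)))) (.nd (.nd (.nd (.lf 0) (.lf 0)) (.nd (.lf 0) (.lf 0))) (.nd (.nd (.lf 0) (.lf 0)) (.nd (.lf 0) (.lf 0))))) (.nd (.nd (.nd (.nd (.lf 0) (.lf 0)) (.nd (.lf 0) (.lf 0))) (.nd (.nd (.lf 0) (.lf 0)) (.nd (.lf 0) (.lf 0)))) (.nd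 (.nd (.nd (.lf 0) (.lf 0)) (.nd (.lf 0) (.lf 0))) (.nd (.nd (.lf 0) (.lf 0)) (.nd (.lf 0) (.lf 0)))))) (.nd (.nd (.nd (.nd (.nd (.lf 0) (.lf 0)) (.nd (.lf 0) (.lf 0))) (.nd (.nd (.lf 0) (.lf 0)) (.nd (.lf 0) (.lf 0)))) (.nd (.nd (.nd (.lf 0) (.lf 0)) (.nd (.lf 0) (.lf 0))) (.nd (.nd (.lf 0) (.lf 0)) (.nd (.lf 0) (.lf 0))))) (.nd (.nd (.nd (.nd (.lf 0) (.lf 0)) (.nd (.lf 0) (.lf 0))) (.nd (.nd (.lf 0) (.lf 0)) (.nd (.lf 0) (.lf 0)))) (.nd (.nd (.nd (.lf 0) (.lf 0)) (.nd (.lf 0) (.lf 0))) (.nd (.nd (.lf 0) (.lf 0)) (.nd (.lf 0) (.lf 0)))))))) (.nd (.nd (.nd (.nd (.nd (.nd (.nd (.lf 0) (.lf 0)) (.nd (.lf 0) (.lf 0))) (.nd (.nd (.lf 0) (.lf 0)) (.nd (.lf 0) (.lf 0)))) (.nd (.nd (.nd (.lf 0) (.lf 0)) (.nd (.lf 0) (.lf 0))) (.nd (.nd (.lf 0) (.lf 0)) (.nd (.lf 0) (.lf 0))))) (.nd (.nd (.nd (.nd (.lf 0) (.lf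 0)) (.nd (.lf 0) (.lf 0))) (.nd (.nd (.lf 0) (.lf 0)) (.nd (.lf 0) (.lf 0)))) (.nd (.nd (.nd (.lf 0) (.lf 0)) (.nd (.lf 0) (.lf 0))) (.nd (.nd (.lf 0) (.lf 0)) (.nd (.lf 0) (.lf 0)))))) (.nd (.nd (.nd (.nd (.nd (.lf 0) (.lf 0)) (.nd (.lf 0) (.lf 0))) (.nd (.nd (.lf 0) (.lf 0)) (.nd (.lf 0) (.lf 0)))) (.nd (.nd (.nd (.lf 0) (.lf 0)) (.nd (.lf 0) (.lf 0))) (.nd (.nd (.lf 0) (.lf 0)) (.nd (.lf 0) (.lf 0))))) (.nd (.nd (.nd (.nd (.lf 0) (.lf 0)) (.nd (.lf 0) (.lf 0))) (.nd (.nd (.lf 0) (.lf 0)) (.nd (.lf 0) (.lf 0)))) (.nd (.nd (.nd (.lf 0) (.lf 0)) (.nd (.lf 0) (.lf 0))) (.nd (.nd (.lf 0) (.lf 0)) (.nd (.lf 0) (.lf 0))))))) (.nd (.nd (.nd (.nd (.nd (.nd (.lf 0) (.lf 0)) (.nd (.lf 0) (.lf 0))) (.nd (.nd (.lf 0) (.lf 0)) (.nd (.lf 0) (.lf 0)))) (.nd (.nd (.nd (.lf 0) (.lf 0)) (.nd (.lf 0) (.lf 0))) (.nd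 (.nd (.lf 0) (.lf 0)) (.nd (.lf 0) (.lf 0))))) (.nd (.nd (.nd (.nd (.lf 0) (.lf 0)) (.nd (.lf 0) (.lf 0))) (.nd (.nd (.lf 0) (.lf 0)) (.nd (.lf 0) (.lf 0)))) (.nd (.nd (.nd (.lf 0) (.lf 0)) (.nd (.lf 0) (.lf 0))) (.nd (.nd (.lf 0) (.lf 0)) (.nd (.lf 0) (.lf 0)))))) (.nd (.nd (.nd (.nd (.nd (.lf 0) (.lf 0)) (.nd (.lf 0) (.lf 0))) (.nd (.nd (.lf 0) (.lf 0)) (.nd (.lf 0) (.lf 0)))) (.nd (.nd (.nd (.lf 0) (.lf 0)) (.nd (.lf 0) (.lf 0))) (.nd (.nd (.lf 0) (.lf 0)) (.nd (.lf 0) (.lf 0))))) (.nd (.nd (.nd (.nd (.lf 0) (.lf 0)) (.nd (.lf 0) (.lf 0))) (.nd (.nd (.lf 0) (.lf 0)) (.nd (.lf 0) (.lf 0)))) (.nd (.nd (.nd (.lf 0) (.lf 0)) (.nd (.lf 0) (.lf 0))) (.nd (.nd (.lf 0) (.lf 0)) (.nd (.lf 0) (.lf 0)))))))))) (.nd (.nd (.nd (.nd (.nd (.nd (.nd (.nd (.nd (.lf 0) (.lf 0)) (.nd (.lf 0) (.lf 0))) (.nd (.nd (.lf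 0) (.lf 0)) (.nd (.lf 0) (.lf 0)))) (.nd (.nd (.nd (.lf 0) (.lf 0)) (.nd (.lf 0) (.lf 0))) (.nd (.nd (.lf 0) (.lf 0)) (.nd (.lf 0) (.lf 0))))) (.nd (.nd (.nd (.nd (.lf 0) (.lf 0)) (.nd (.lf 0) (.lf 0))) (.nd (.nd (.lf 0) (.lf 0)) (.nd (.lf 0) (.lf 0)))) (.nd (.nd (.nd (.lf 0) (.lf 0)) (.nd (.lf 0) (.lf 0))) (.nd (.nd (.lf 0) (.lf 0)) (.nd (.lf 0) (.lf 0)))))) (.nd (.nd (.nd (.nd (.nd (.lf 0) (.lf 0)) (.nd (.lf 0) (.lf 0))) (.nd (.nd (.lf 0) (.lf 0)) (.nd (.lf 0) (.lf 0)))) (.nd (.nd (.nd (.lf 0) (.lf 0)) (.nd (.lf 0) (.lf 0))) (.nd (.nd (.lf 0) (.lf 0)) (.nd (.lf 0) (.lf 0))))) (.nd (.nd (.nd (.nd (.lf 0) (.lf 0)) (.nd (.lf 0) (.lf 0))) (.nd (.nd (.lf 0) (.lf 0)) (.nd (.lf 0) (.lf 0)))) (.nd (.nd (.nd (.lf 0) (.lf 0)) (.nd (.lf 0) (.lf 0))) (.nd (.nd (.lf 0) (.lf 0)) (.nd (.lf 0) (.lf 0))))))) (.nd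 (.nd (.nd (.nd (.nd (.nd (.lf 0) (.lf 0)) (.nd (.lf 0) (.lf 0))) (.nd (.nd (.lf 0) (.lf 0)) (.nd (.lf 0) (.lf 0)))) (.nd (.nd (.nd (.lf 0) (.lf 0)) (.nd (.lf 0) (.lf 0))) (.nd (.nd (.lf 0) (.lf 0)) (.nd (.lf 0) (.lf 0))))) (.nd (.nd (.nd (.nd (.lf 0) (.lf 0)) (.nd (.lf 0) (.lf 0))) (.nd (.nd (.lf 0) (.lf 0)) (.nd (.lf 0) (.lf 0)))) (.nd (.nd (.nd (.lf 0) (.lf 0)) (.nd (.lf 0) (.lf 0))) (.nd (.nd (.lf 0) (.lf 0)) (.nd (.lf 0) (.lf 0)))))) (.nd (.nd (.nd (.nd (.nd (.lf 0) (.lf 0)) (.nd (.lf 0) (.lf 0))) (.nd (.nd (.lf 0) (.lf 0)) (.nd (.lf 0) (.lf 0)))) (.nd (.nd (.nd (.lf 0) (.lf 0)) (.nd (.lf 0) (.lf 0))) (.nd (.nd (.lf 0) (.lf 0)) (.nd (.lf 0) (.lf 0))))) (.nd (.nd (.nd (.nd (.lf 0) (.lf 0)) (.nd (.lf 0) (.lf 0))) (.nd (.nd (.lf 0) (.lf 0)) (.nd (.lf 0) (.lf 0)))) (.nd (.nd (.nd (.lf 0) (.lf 0)) (.nd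 (.lf 0) (.lf 0))) (.nd (.nd (.lf 0) (.lf 0)) (.nd (.lf 0) (.lf 0)))))))) (.nd (.nd (.nd (.nd (.nd (.nd (.nd (.lf 0) (.lf 0)) (.nd (.lf 0) (.lf 0))) (.nd (.nd (.lf 0) (.lf 0)) (.nd (.lf 0) (.lf 0)))) (.nd (.nd (.nd (.lf 0) (.lf 0)) (.nd (.lf 0) (.lf 0))) (.nd (.nd (.lf 0) (.lf 0)) (.nd (.lf 0) (.lf 0))))) (.nd (.nd (.nd (.nd (.lf 0) (.lf 0)) (.nd (.lf 0) (.lf 0))) (.nd (.nd (.lf 0) (.lf 0)) (.nd (.lf 0) (.lf 0)))) (.nd (.nd (.nd (.lf 0) (.lf 0)) (.nd (.lf 0) (.lf 0))) (.nd (.nd (.lf 0) (.lf 0)) (.nd (.lf 0) (.lf 0)))))) (.nd (.nd (.nd (.nd (.nd (.lf 0) (.lf 0)) (.nd (.lf 0) (.lf 0))) (.nd (.nd (.lf 0) (.lf 0)) (.nd (.lf 0) (.lf 0)))) (.nd (.nd (.nd (.lf 0) (.lf 0)) (.nd (.lf 0) (.lf 0))) (.nd (.nd (.lf 0) (.lf 0)) (.nd (.lf 0) (.lf 0))))) (.nd (.nd (.nd (.nd (.lf 0) (.lf 0)) (.nd (.lf 0) (.lf 0))) (.nd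 (.nd (.lf 0) (.lf 0)) (.nd (.lf 0) (.lf 0)))) (.nd (.nd (.nd (.lf 0) (.lf 0)) (.nd (.lf 0) (.lf 0))) (.nd (.nd (.lf 0) (.lf 0)) (.nd (.lf 0) (.lf 0))))))) (.nd (.nd (.nd (.nd (.nd (.nd (.lf 0) (.lf 0)) (.nd (.lf 0) (.lf 0))) (.nd (.nd (.lf 0) (.lf 0)) (.nd (.lf 0) (.lf 0)))) (.nd (.nd (.nd (.lf 0) (.lf 0)) (.nd (.lf 0) (.lf 0))) (.nd (.nd (.lf 0) (.lf 0)) (.nd (.lf 0) (.lf 0))))) (.nd (.nd (.nd (.nd (.lf 0) (.lf 0)) (.nd (.lf 0) (.lf 0))) (.nd (.nd (.lf 0) (.lf 0)) (.nd (.lf 0) (.lf 0)))) (.nd (.nd (.nd (.lf 0) (.lf 0)) (.nd (.lf 0) (.lf 0))) (.nd (.nd (.lf 0) (.lf 0)) (.nd (.lf 0) (.lf 0)))))) (.nd (.nd (.nd (.nd (.nd (.lf 0) (.lf 0)) (.nd (.lf 0) (.lf 0))) (.nd (.nd (.lf 0) (.lf 0)) (.nd (.lf 0) (.lf 0)))) (.nd (.nd (.nd (.lf 0) (.lf 0)) (.nd (.lf 0) (.lf 0))) (.nd (.nd (.lf 0) (.lf 0)) (.nd (.lf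 0) (.lf 0))))) (.nd (.nd (.nd (.nd (.lf 0) (.lf 0)) (.nd (.lf 0) (.lf 0))) (.nd (.nd (.lf 0) (.lf 0)) (.nd (.lf 0) (.lf 0)))) (.nd (.nd (.nd (.lf 0) (.lf 0)) (.nd (.lf 0) (.lf 0))) (.nd (.nd (.lf 0) (.lf 0)) (.nd (.lf 0) (.lf 0))))))))) (.nd (.nd (.nd (.nd (.nd (.nd (.nd (.nd (.lf 0) (.lf 0)) (.nd (.lf 0) (.lf 0))) (.nd (.nd (.lf 0) (.lf 0)) (.nd (.lf 0) (.lf 0)))) (.nd (.nd (.nd (.lf 0) (.lf 0)) (.nd (.lf 0) (.lf 0))) (.nd (.nd (.lf 0) (.lf 0)) (.nd (.lf 0) (.lf 0))))) (.nd (.nd (.nd (.nd (.lf 0) (.lf 0)) (.nd (.lf 0) (.lf 0))) (.nd (.nd (.lf 0) (.lf 0)) (.nd (.lf 0) (.lf 0)))) (.nd (.nd (.nd (.lf 0) (.lf 0)) (.nd (.lf 0) (.lf 0))) (.nd (.nd (.lf 0) (.lf 0)) (.nd (.lf 0) (.lf 0)))))) (.nd (.nd (.nd (.nd (.nd (.lf 0) (.lf 0)) (.nd (.lf 0) (.lf 0))) (.nd (.nd (.lf 0) (.lf 0)) (.nd (.lf 0) (.lf 0))))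 (.nd (.nd (.nd (.lf 0) (.lf 0)) (.nd (.lf 0) (.lf 0))) (.nd (.nd (.lf 0) (.lf 0)) (.nd (.lf 0) (.lf 0))))) (.nd (.nd (.nd (.nd (.lf 0) (.lf 0)) (.nd (.lf 0) (.lf 0))) (.nd (.nd (.lf 0) (.lf 0)) (.nd (.lf 0) (.lf 0)))) (.nd (.nd (.nd (.lf 0) (.lf 0)) (.nd (.lf 0) (.lf 0))) (.nd (.nd (.lf 0) (.lf 0)) (.nd (.lf 0) (.lf 0))))))) (.nd (.nd (.nd (.nd (.nd (.nd (.lf 0) (.lf 0)) (.nd (.lf 0) (.lf 0))) (.nd (.nd (.lf 0) (.lf 0)) (.nd (.lf 0) (.lf 0)))) (.nd (.nd (.nd (.lf 0) (.lf 0)) (.nd (.lf 0) (.lf 0))) (.nd (.nd (.lf 0) (.lf 0)) (.nd (.lf 0) (.lf 0))))) (.nd (.nd (.nd (.nd (.lf 0) (.lf 0)) (.nd (.lf 0) (.lf 0))) (.nd (.nd (.lf 0) (.lf 0)) (.nd (.lf 0) (.lf 0)))) (.nd (.nd (.nd (.lf 0) (.lf 0)) (.nd (.lf 0) (.lf 0))) (.nd (.nd (.lf 0) (.lf 0)) (.nd (.lf 0) (.lf 0)))))) (.nd (.nd (.nd (.nd (.nd (.lf 0) (.lf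 0)) (.nd (.lf 0) (.lf 0))) (.nd (.nd (.lf 0) (.lf 0)) (.nd (.lf 0) (.lf 0)))) (.nd (.nd (.nd (.lf 0) (.lf 0)) (.nd (.lf 0) (.lf 0))) (.nd (.nd (.lf 0) (.lf 0)) (.nd (.lf 0) (.lf 0))))) (.nd (.nd (.nd (.nd (.lf 0) (.lf 0)) (.nd (.lf 0) (.lf 0))) (.nd (.nd (.lf 0) (.lf 0)) (.nd (.lf 0) (.lf 0)))) (.nd (.nd (.nd (.lf 0) (.lf 0)) (.nd (.lf 0) (.lf 0))) (.nd (.nd (.lf 0) (.lf 0)) (.nd (.lf 0) (.lf 0)))))))) (.nd (.nd (.nd (.nd (.nd (.nd (.nd (.lf 0) (.lf 0)) (.nd (.lf 0) (.lf 0))) (.nd (.nd (.lf 0) (.lf 0)) (.nd (.lf 0) (.lf 0)))) (.nd (.nd (.nd (.lf 0) (.lf 0)) (.nd (.lf 0) (.lf 0))) (.nd (.nd (.lf 0) (.lf 0)) (.nd (.lf 0) (.lf 0))))) (.nd (.nd (.nd (.nd (.lf 0) (.lf 0)) (.nd (.lf 0) (.lf 0))) (.nd (.nd (.lf 0) (.lf 0)) (.nd (.lf 0) (.lf 0)))) (.nd (.nd (.nd (.lf 0) (.lf 0)) (.nd (.lf 0) (.lf 0))) (.nd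 (.nd (.lf 0) (.lf 0)) (.nd (.lf 0) (.lf 0)))))) (.nd (.nd (.nd (.nd (.nd (.lf 0) (.lf 0)) (.nd (.lf 0) (.lf 0))) (.nd (.nd (.lf 0) (.lf 0)) (.nd (.lf 0) (.lf 0)))) (.nd (.nd (.nd (.lf 0) (.lf 0)) (.nd (.lf 0) (.lf 0))) (.nd (.nd (.lf 0) (.lf 0)) (.nd (.lf 0) (.lf 0))))) (.nd (.nd (.nd (.nd (.lf 0) (.lf 0)) (.nd (.lf 0) (.lf 0))) (.nd (.nd (.lf 0) (.lf 0)) (.nd (.lf 0) (.lf 0)))) (.nd (.nd (.nd (.lf 0) (.lf 0)) (.nd (.lf 0) (.lf 0))) (.nd (.nd (.lf 0) (.lf 0)) (.nd (.lf 0) (.lf 0))))))) (.nd (.nd (.nd (.nd (.nd (.nd (.lf 0) (.lf 0)) (.nd (.lf 0) (.lf 0))) (.nd (.nd (.lf 0) (.lf 0)) (.nd (.lf 0) (.lf 0)))) (.nd (.nd (.nd (.lf 0) (.lf 0)) (.nd (.lf 0) (.lf 0))) (.nd (.nd (.lf 0) (.lf 0)) (.nd (.lf 0) (.lf 0))))) (.nd (.nd (.nd (.nd (.lf 0) (.lf 0)) (.nd (.lf 0) (.lf 0))) (.nd (.nd (.lf 0) (.lf 0)) (.nd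 (.lf 0) (.lf 0)))) (.nd (.nd (.nd (.lf 0) (.lf 0)) (.nd (.lf 0) (.lf 0))) (.nd (.nd (.lf 0) (.lf 0)) (.nd (.lf 0) (.lf 0)))))) (.nd (.nd (.nd (.nd (.nd (.lf 0) (.lf 0)) (.nd (.lf 0) (.lf 0))) (.nd (.nd (.lf 0) (.lf 0)) (.nd (.lf 0) (.lf 0)))) (.nd (.nd (.nd (.lf 0) (.lf 0)) (.nd (.lf 0) (.lf 0))) (.nd (.nd (.lf 0) (.lf 0)) (.nd (.lf 0) (.lf 0))))) (.nd (.nd (.nd (.nd (.lf 0) (.lf 0)) (.nd (.lf 0) (.lf 0))) (.nd (.nd (.lf 0) (.lf 0)) (.nd (.lf 0) (.lf 0)))) (.nd (.nd (.nd (.lf 0) (.lf 0)) (.nd (.lf 0) (.lf 0))) (.nd (.nd (.lf 0) (.lf 0)) (.nd (.lf 0) (.lf 0))))))))))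

/-- table part -/
def tabX_16 : Tr :=
  .nd (.nd (.nd (.nd (.nd (.nd (.nd (.nd (.nd (.nd (.lf 0) (.lf 0)) (.nd (.lf 0) (.lf 0))) (.nd (.nd (.lf 0) (.lf 0)) (.nd (.lf 0) (.lf 0)))) (.nd (.nd (.nd (.lf 0) (.lf 0)) (.nd (.lf 0) (.lf 0))) (.nd (.nd (.lf 0) (.lf 0)) (.nd (.lf 0) (.lf 0))))) (.nd (.nd (.nd (.nd (.lf 0) (.lf 0)) (.nd (.lf 0) (.lf 0))) (.nd (.nd (.lf 0) (.lf 0)) (.nd (.lf 0) (.lf 0)))) (.nd (.nd (.nd (.lf 0) (.lf 0)) (.nd (.lf 0) (.lf 0))) (.nd (.nd (.lf 0) (.lf 0)) (.nd (.lf 0) (.lf 0)))))) (.nd (.nd (.nd (.nd (.nd (.lf 0) (.lf 0)) (.nd (.lf 0) (.lf 0))) (.nd (.nd (.lf 0) (.lf 0)) (.nd (.lf 0) (.lf 0)))) (.nd (.nd (.nd (.lf 0) (.lf 0)) (.nd (.lf 0) (.lf 0))) (.nd (.nd (.lf 0) (.lf 0)) (.nd (.lf 0) (.lf 0))))) (.nd (.nd (.nd (.nd (.lf 0) (.lf 0)) (.nd (.lf 0) (.lf 0))) (.nd (.nd (.lf 0) (.lf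 0)) (.nd (.lf 0) (.lf 0)))) (.nd (.nd (.nd (.lf 0) (.lf 0)) (.nd (.lf 0) (.lf 0))) (.nd (.nd (.lf 0) (.lf 0)) (.nd (.lf 0) (.lf 0))))))) (.nd (.nd (.nd (.nd (.nd (.nd (.lf 0) (.lf 0)) (.nd (.lf 0) (.lf 0))) (.nd (.nd (.lf 0) (.lf 0)) (.nd (.lf 0) (.lf 0)))) (.nd (.nd (.nd (.lf 0) (.lf 0)) (.nd (.lf 0) (.lf 0))) (.nd (.nd (.lf 0) (.lf 0)) (.nd (.lf 0) (.lf 0))))) (.nd (.nd (.nd (.nd (.lf 0) (.lf 0)) (.nd (.lf 0) (.lf 0))) (.nd (.nd (.lf 0) (.lf 0)) (.nd (.lf 0) (.lf 0)))) (.nd (.nd (.nd (.lf 0) (.lf 0)) (.nd (.lf 0) (.lf 0))) (.nd (.nd (.lf 0) (.lf 0)) (.nd (.lf 0) (.lf 0)))))) (.nd (.nd (.nd (.nd (.nd (.lf 0) (.lf 0)) (.nd (.lf 0) (.lf 0))) (.nd (.nd (.lf 0) (.lf 0)) (.nd (.lf 0) (.lf 0)))) (.nd (.nd (.nd (.lf 0) (.lf 0)) (.nd (.lf 0) (.lf 0))) (.nd (.nd (.lf 0) (.lf 0)) (.nd (.lf 0) (.lf 0))))) (.nd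 (.nd (.nd (.nd (.lf 0) (.lf 0)) (.nd (.lf 0) (.lf 0))) (.nd (.nd (.lf 0) (.lf 0)) (.nd (.lf 0) (.lf 0)))) (.nd (.nd (.nd (.lf 0) (.lf 0)) (.nd (.lf 0) (.lf 0))) (.nd (.nd (.lf 0) (.lf 0)) (.nd (.lf 0) (.lf 0)))))))) (.nd (.nd (.nd (.nd (.nd (.nd (.nd (.lf 0) (.lf 0)) (.nd (.lf 0) (.lf 0))) (.nd (.nd (.lf 0) (.lf 0)) (.nd (.lf 0) (.lf 0)))) (.nd (.nd (.nd (.lf 0) (.lf 0)) (.nd (.lf 0) (.lf 0))) (.nd (.nd (.lf 0) (.lf 0)) (.nd (.lf 0) (.lf 0))))) (.nd (.nd (.nd (.nd (.lf 0) (.lf 0)) (.nd (.lf 0) (.lf 0))) (.nd (.nd (.lf 0) (.lf 0)) (.nd (.lf 0) (.lf 0)))) (.nd (.nd (.nd (.lf 0) (.lf 0)) (.nd (.lf 0) (.lf 0))) (.nd (.nd (.lf 0) (.lf 0)) (.nd (.lf 0) (.lf 0)))))) (.nd (.nd (.nd (.nd (.nd (.lf 0) (.lf 0)) (.nd (.lf 0) (.lf 0))) (.nd (.nd (.lf 0) (.lf 0)) (.nd (.lf 0) (.lf 0)))) (.nd (.nd (.nd (.lf 0) (.lf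 0)) (.nd (.lf 0) (.lf 0))) (.nd (.nd (.lf 0) (.lf 0)) (.nd (.lf 0) (.lf 0))))) (.nd (.nd (.nd (.nd (.lf 0) (.lf 0)) (.nd (.lf 0) (.lf 0))) (.nd (.nd (.lf 0) (.lf 0)) (.nd (.lf 0) (.lf 0)))) (.nd (.nd (.nd (.lf 0) (.lf 0)) (.nd (.lf 0) (.lf 0))) (.nd (.nd (.lf 0) (.lf 0)) (.nd (.lf 0) (.lf 0))))))) (.nd (.nd (.nd (.nd (.nd (.nd (.lf 0) (.lf 0)) (.nd (.lf 0) (.lf 0))) (.nd (.nd (.lf 0) (.lf 0)) (.nd (.lf 0) (.lf 0)))) (.nd (.nd (.nd (.lf 0) (.lf 0)) (.nd (.lf 0) (.lf 0))) (.nd (.nd (.lf 0) (.lf 0)) (.nd (.lf 0) (.lf 0))))) (.nd (.nd (.nd (.nd (.lf 0) (.lf 0)) (.nd (.lf 0) (.lf 0))) (.nd (.nd (.lf 0) (.lf 0)) (.nd (.lf 0) (.lf 0)))) (.nd (.nd (.nd (.lf 0) (.lf 0)) (.nd (.lf 0) (.lf 0))) (.nd (.nd (.lf 0) (.lf 0)) (.nd (.lf 0) (.lf 0)))))) (.nd (.nd (.nd (.nd (.nd (.lf 0) (.lf 0)) (.nd (.lf 0) (.lf 0)))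 (.nd (.nd (.lf 0) (.lf 0)) (.nd (.lf 0) (.lf 0)))) (.nd (.nd (.nd (.lf 0) (.lf 0)) (.nd (.lf 0) (.lf 0))) (.nd (.nd (.lf 0) (.lf 0)) (.nd (.lf 0) (.lf 0))))) (.nd (.nd (.nd (.nd (.lf 0) (.lf 0)) (.nd (.lf 0) (.lf 0))) (.nd (.nd (.lf 0) (.lf 0)) (.nd (.lf 0) (.lf 0)))) (.nd (.nd (.nd (.lf 0) (.lf 0)) (.nd (.lf 0) (.lf 0))) (.nd (.nd (.lf 0) (.lf 0)) (.nd (.lf 0) (.lf 0))))))))) (.nd (.nd (.nd (.nd (.nd (.nd (.nd (.nd (.lf 0) (.lf 0)) (.nd (.lf 0) (.lf 0))) (.nd (.nd (.lf 0) (.lf 0)) (.nd (.lf 0) (.lf 0)))) (.nd (.nd (.nd (.lf 0) (.lf 0)) (.nd (.lf 0) (.lf 0))) (.nd (.nd (.lf 0) (.lf 0)) (.nd (.lf 0) (.lf 0))))) (.nd (.nd (.nd (.nd (.lf 0) (.lf 0)) (.nd (.lf 0) (.lf 0))) (.nd (.nd (.lf 0) (.lf 0)) (.nd (.lf 0) (.lf 0)))) (.nd (.nd (.nd (.lf 0) (.lf 0)) (.nd (.lf 0) (.lf 0))) (.nd (.nd (.lf 0) (.lf 0))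 (.nd (.lf 0) (.lf 0)))))) (.nd (.nd (.nd (.nd (.nd (.lf 0) (.lf 0)) (.nd (.lf 0) (.lf 0))) (.nd (.nd (.lf 0) (.lf 0)) (.nd (.lf 0) (.lf 0)))) (.nd (.nd (.nd (.lf 0) (.lf 0)) (.nd (.lf 0) (.lf 0))) (.nd (.nd (.lf 0) (.lf 0)) (.nd (.lf 0) (.lf 0))))) (.nd (.nd (.nd (.nd (.lf 0) (.lf 0)) (.nd (.lf 0) (.lf 0))) (.nd (.nd (.lf 0) (.lf 0)) (.nd (.lf 0) (.lf 0)))) (.nd (.nd (.nd (.lf 0) (.lf 0)) (.nd (.lf 0) (.lf 0))) (.nd (.nd (.lf 0) (.lf 0)) (.nd (.lf 0) (.lf 0))))))) (.nd (.nd (.nd (.nd (.nd (.nd (.lf 0) (.lf 0)) (.nd (.lf 0) (.lf 0))) (.nd (.nd (.lf 0) (.lf 0)) (.nd (.lf 0) (.lf 0)))) (.nd (.nd (.nd (.lf 0) (.lf 0)) (.nd (.lf 0) (.lf 0))) (.nd (.nd (.lf 0) (.lf 0)) (.nd (.lf 0) (.lf 0))))) (.nd (.nd (.nd (.nd (.lf 0) (.lf 0)) (.nd (.lf 0) (.lf 0))) (.nd (.nd (.lf 0) (.lf 0)) (.nd (.lf 0) (.lf 0)))) (.nd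 (.nd (.nd (.lf 0) (.lf 0)) (.nd (.lf 0) (.lf 0))) (.nd (.nd (.lf 0) (.lf 0)) (.nd (.lf 0) (.lf 0)))))) (.nd (.nd (.nd (.nd (.nd (.lf 0) (.lf 0)) (.nd (.lf 0) (.lf 0))) (.nd (.nd (.lf 15) (.lf 0)) (.nd (.lf 0) (.lf 0)))) (.nd (.nd (.nd (.lf 0) (.lf 0)) (.nd (.lf 0) (.lf 0))) (.nd (.nd (.lf 0) (.lf 0)) (.nd (.lf 0) (.lf 0))))) (.nd (.nd (.nd (.nd (.lf 0) (.lf 0)) (.nd (.lf 0) (.lf 0))) (.nd (.nd (.lf 0) (.lf 0)) (.nd (.lf 0) (.lf 0)))) (.nd (.nd (.nd (.lf 0) (.lf 0)) (.nd (.lf 0) (.lf 0))) (.nd (.nd (.lf 0) (.lf 0)) (.nd (.lf 0) (.lf 0)))))))) (.nd (.nd (.nd (.nd (.nd (.nd (.nd (.lf 0) (.lf 0)) (.nd (.lf 0) (.lf 0))) (.nd (.nd (.lf 0) (.lf 0)) (.nd (.lf 0) (.lf 0)))) (.nd (.nd (.nd (.lf 0) (.lf 0)) (.nd (.lf 0) (.lf 0))) (.nd (.nd (.lf 0) (.lf 0)) (.nd (.lf 0) (.lf 0))))) (.nd (.nd (.nd (.nd (.lf 0)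 (.lf 0)) (.nd (.lf 0) (.lf 0))) (.nd (.nd (.lf 0) (.lf 0)) (.nd (.lf 0) (.lf 0)))) (.nd (.nd (.nd (.lf 0) (.lf 0)) (.nd (.lf 0) (.lf 0))) (.nd (.nd (.lf 0) (.lf 0)) (.nd (.lf 0) (.lf 0)))))) (.nd (.nd (.nd (.nd (.nd (.lf 0) (.lf 0)) (.nd (.lf 0) (.lf 0))) (.nd (.nd (.lf 0) (.lf 0)) (.nd (.lf 0) (.lf 0)))) (.nd (.nd (.nd (.lf 0) (.lf 0)) (.nd (.lf 0) (.lf 0))) (.nd (.nd (.lf 0) (.lf 0)) (.nd (.lf 0) (.lf 0))))) (.nd (.nd (.nd (.nd (.lf 0) (.lf 0)) (.nd (.lf 0) (.lf 0))) (.nd (.nd (.lf 0) (.lf 0)) (.nd (.lf 0) (.lf 0)))) (.nd (.nd (.nd (.lf 0) (.lf 0)) (.nd (.lf 0) (.lf 0))) (.nd (.nd (.lf 0) (.lf 0)) (.nd (.lf 0) (.lf 0))))))) (.nd (.nd (.nd (.nd (.nd (.nd (.lf 0) (.lf 0)) (.nd (.lf 0) (.lf 0))) (.nd (.nd (.lf 0) (.lf 0)) (.nd (.lf 0) (.lf 0)))) (.nd (.nd (.nd (.lf 0) (.lf 0)) (.nd (.lf 0) (.lf 0)))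 (.nd (.nd (.lf 0) (.lf 0)) (.nd (.lf 0) (.lf 0))))) (.nd (.nd (.nd (.nd (.lf 0) (.lf 0)) (.nd (.lf 0) (.lf 0))) (.nd (.nd (.lf 0) (.lf 0)) (.nd (.lf 0) (.lf 0)))) (.nd (.nd (.nd (.lf 0) (.lf 0)) (.nd (.lf 0) (.lf 0))) (.nd (.nd (.lf 0) (.lf 0)) (.nd (.lf 0) (.lf 0)))))) (.nd (.nd (.nd (.nd (.nd (.lf 0) (.lf 0)) (.nd (.lf 0) (.lf 0))) (.nd (.nd (.lf 0) (.lf 0)) (.nd (.lf 0) (.lf 0)))) (.nd (.nd (.nd (.lf 0) (.lf 0)) (.nd (.lf 0) (.lf 0))) (.nd (.nd (.lf 0) (.lf 0)) (.nd (.lf 0) (.lf 0))))) (.nd (.nd (.nd (.nd (.lf 0) (.lf 0)) (.nd (.lf 0) (.lf 0))) (.nd (.nd (.lf 0) (.lf 0)) (.nd (.lf 0) (.lf 0)))) (.nd (.nd (.nd (.lf 0) (.lf 0)) (.nd (.lf 0) (.lf 0))) (.nd (.nd (.lf 0) (.lf 0)) (.nd (.lf 0) (.lf 0)))))))))) (.nd (.nd (.nd (.nd (.nd (.nd (.nd (.nd (.nd (.lf 0) (.lf 0)) (.nd (.lf 0) (.lf 0))) (.nd (.nd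 (.lf 0) (.lf 0)) (.nd (.lf 0) (.lf 0)))) (.nd (.nd (.nd (.lf 0) (.lf 0)) (.nd (.lf 0) (.lf 0))) (.nd (.nd (.lf 0) (.lf 0)) (.nd (.lf 0) (.lf 0))))) (.nd (.nd (.nd (.nd (.lf 0) (.lf 0)) (.nd (.lf 0) (.lf 0))) (.nd (.nd (.lf 0) (.lf 0)) (.nd (.lf 0) (.lf 0)))) (.nd (.nd (.nd (.lf 0) (.lf 0)) (.nd (.lf 0) (.lf 0))) (.nd (.nd (.lf 0) (.lf 0)) (.nd (.lf 0) (.lf 0)))))) (.nd (.nd (.nd (.nd (.nd (.lf 0) (.lf 0)) (.nd (.lf 0) (.lf 0))) (.nd (.nd (.lf 14) (.lf 0)) (.nd (.lf 0) (.lf 0)))) (.nd (.nd (.nd (.lf 0) (.lf 0)) (.nd (.lf 0) (.lf 0))) (.nd (.nd (.lf 0) (.lf 0)) (.nd (.lf 0) (.lf 0))))) (.nd (.nd (.nd (.nd (.lf 0) (.lf 0)) (.nd (.lf 0) (.lf 0))) (.nd (.nd (.lf 0) (.lf 0)) (.nd (.lf 0) (.lf 0)))) (.nd (.nd (.nd (.lf 0) (.lf 0)) (.nd (.lf 0) (.lf 0))) (.nd (.nd (.lf 0) (.lf 0)) (.nd (.lf 0) (.lf 0)))))))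 (.nd (.nd (.nd (.nd (.nd (.nd (.lf 0) (.lf 0)) (.nd (.lf 0) (.lf 0))) (.nd (.nd (.lf 0) (.lf 0)) (.nd (.lf 0) (.lf 0)))) (.nd (.nd (.nd (.lf 0) (.lf 0)) (.nd (.lf 0) (.lf 0))) (.nd (.nd (.lf 0) (.lf 0)) (.nd (.lf 0) (.lf 0))))) (.nd (.nd (.nd (.nd (.lf 0) (.lf 0)) (.nd (.lf 0) (.lf 0))) (.nd (.nd (.lf 0) (.lf 0)) (.nd (.lf 0) (.lf 0)))) (.nd (.nd (.nd (.lf 0) (.lf 0)) (.nd (.lf 0) (.lf 0))) (.nd (.nd (.lf 0) (.lf 0)) (.nd (.lf 12) (.lf 0)))))) (.nd (.nd (.nd (.nd (.nd (.lf 0) (.lf 0)) (.nd (.lf 0) (.lf 0))) (.nd (.nd (.lf 0) (.lf 0)) (.nd (.lf 0) (.lf 0)))) (.nd (.nd (.nd (.lf 0) (.lf 0)) (.nd (.lf 0) (.lf 0))) (.nd (.nd (.lf 0) (.lf 0)) (.nd (.lf 0) (.lf 0))))) (.nd (.nd (.nd (.nd (.lf 0) (.lf 0)) (.nd (.lf 0) (.lf 0))) (.nd (.nd (.lf 0) (.lf 0)) (.nd (.lf 0) (.lf 0)))) (.nd (.nd (.nd (.lf 0) (.lf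 0)) (.nd (.lf 0) (.lf 0))) (.nd (.nd (.lf 0) (.lf 0)) (.nd (.lf 0) (.lf 0)))))))) (.nd (.nd (.nd (.nd (.nd (.nd (.nd (.lf 0) (.lf 0)) (.nd (.lf 0) (.lf 0))) (.nd (.nd (.lf 0) (.lf 0)) (.nd (.lf 0) (.lf 0)))) (.nd (.nd (.nd (.lf 0) (.lf 0)) (.nd (.lf 0) (.lf 0))) (.nd (.nd (.lf 0) (.lf 0)) (.nd (.lf 0) (.lf 0))))) (.nd (.nd (.nd (.nd (.lf 0) (.lf 0)) (.nd (.lf 0) (.lf 0))) (.nd (.nd (.lf 0) (.lf 0)) (.nd (.lf 0) (.lf 0)))) (.nd (.nd (.nd (.lf 0) (.lf 0)) (.nd (.lf 0) (.lf 0))) (.nd (.nd (.lf 0) (.lf 0)) (.nd (.lf 0) (.lf 0)))))) (.nd (.nd (.nd (.nd (.nd (.lf 0) (.lf 0)) (.nd (.lf 0) (.lf 0))) (.nd (.nd (.lf 0) (.lf 0)) (.nd (.lf 0) (.lf 0)))) (.nd (.nd (.nd (.lf 0) (.lf 0)) (.nd (.lf 0) (.lf 0))) (.nd (.nd (.lf 0) (.lf 0)) (.nd (.lf 0) (.lf 0))))) (.nd (.nd (.nd (.nd (.lf 0) (.lf 0)) (.nd (.lf 0) (.lf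 0))) (.nd (.nd (.lf 0) (.lf 0)) (.nd (.lf 0) (.lf 0)))) (.nd (.nd (.nd (.lf 0) (.lf 0)) (.nd (.lf 0) (.lf 0))) (.nd (.nd (.lf 0) (.lf 0)) (.nd (.lf 0) (.lf 0))))))) (.nd (.nd (.nd (.nd (.nd (.nd (.lf 0) (.lf 0)) (.nd (.lf 0) (.lf 0))) (.nd (.nd (.lf 0) (.lf 0)) (.nd (.lf 0) (.lf 0)))) (.nd (.nd (.nd (.lf 0) (.lf 0)) (.nd (.lf 0) (.lf 0))) (.nd (.nd (.lf 0) (.lf 0)) (.nd (.lf 0) (.lf 0))))) (.nd (.nd (.nd (.nd (.lf 0) (.lf 0)) (.nd (.lf 0) (.lf 0))) (.nd (.nd (.lf 0) (.lf 0)) (.nd (.lf 0) (.lf 0)))) (.nd (.nd (.nd (.lf 0) (.lf 0)) (.nd (.lf 0) (.lf 0))) (.nd (.nd (.lf 0) (.lf 0)) (.nd (.lf 0) (.lf 0)))))) (.nd (.nd (.nd (.nd (.nd (.lf 0) (.lf 0)) (.nd (.lf 0) (.lf 0))) (.nd (.nd (.lf 0) (.lf 0)) (.nd (.lf 0) (.lf 0)))) (.nd (.nd (.nd (.lf 0) (.lf 0)) (.nd (.lf 0) (.lf 0))) (.nd (.nd (.lf 0) (.lf 0))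 (.nd (.lf 0) (.lf 0))))) (.nd (.nd (.nd (.nd (.lf 0) (.lf 0)) (.nd (.lf 0) (.lf 0))) (.nd (.nd (.lf 0) (.lf 0)) (.nd (.lf 0) (.lf 0)))) (.nd (.nd (.nd (.lf 0) (.lf 0)) (.nd (.lf 0) (.lf 0))) (.nd (.nd (.lf 0) (.lf 0)) (.nd (.lf 0) (.lf 0))))))))) (.nd (.nd (.nd (.nd (.nd (.nd (.nd (.nd (.lf 0) (.lf 0)) (.nd (.lf 0) (.lf 0))) (.nd (.nd (.lf 0) (.lf 0)) (.nd (.lf 0) (.lf 0)))) (.nd (.nd (.nd (.lf 0) (.lf 0)) (.nd (.lf 0) (.lf 0))) (.nd (.nd (.lf 0) (.lf 0)) (.nd (.lf 0) (.lf 0))))) (.nd (.nd (.nd (.nd (.lf 0) (.lf 0)) (.nd (.lf 0) (.lf 0))) (.nd (.nd (.lf 0) (.lf 0)) (.nd (.lf 0) (.lf 0)))) (.nd (.nd (.nd (.lf 0) (.lf 0)) (.nd (.lf 0) (.lf 0))) (.nd (.nd (.lf 0) (.lf 0)) (.nd (.lf 0) (.lf 0)))))) (.nd (.nd (.nd (.nd (.nd (.lf 0) (.lf 0)) (.nd (.lf 0) (.lf 0))) (.nd (.nd (.lf 0) (.lf 0)) (.nd (.lf 0)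 (.lf 0)))) (.nd (.nd (.nd (.lf 0) (.lf 0)) (.nd (.lf 0) (.lf 0))) (.nd (.nd (.lf 0) (.lf 0)) (.nd (.lf 0) (.lf 0))))) (.nd (.nd (.nd (.nd (.lf 0) (.lf 0)) (.nd (.lf 0) (.lf 0))) (.nd (.nd (.lf 0) (.lf 0)) (.nd (.lf 0) (.lf 0)))) (.nd (.nd (.nd (.lf 0) (.lf 0)) (.nd (.lf 0) (.lf 0))) (.nd (.nd (.lf 0) (.lf 0)) (.nd (.lf 0) (.lf 0))))))) (.nd (.nd (.nd (.nd (.nd (.nd (.lf 0) (.lf 0)) (.nd (.lf 0) (.lf 0))) (.nd (.nd (.lf 0) (.lf 0)) (.nd (.lf 0) (.lf 0)))) (.nd (.nd (.nd (.lf 0) (.lf 0)) (.nd (.lf 0) (.lf 0))) (.nd (.nd (.lf 0) (.lf 0)) (.nd (.lf 0) (.lf 0))))) (.nd (.nd (.nd (.nd (.lf 0) (.lf 0)) (.nd (.lf 0) (.lf 0))) (.nd (.nd (.lf 0) (.lf 0)) (.nd (.lf 0) (.lf 0)))) (.nd (.nd (.nd (.lf 0) (.lf 0)) (.nd (.lf 0) (.lf 0))) (.nd (.nd (.lf 0) (.lf 0)) (.nd (.lf 0) (.lf 0)))))) (.nd (.nd (.nd (.nd (.nd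 (.lf 0) (.lf 0)) (.nd (.lf 0) (.lf 0))) (.nd (.nd (.lf 0) (.lf 0)) (.nd (.lf 0) (.lf 0)))) (.nd (.nd (.nd (.lf 0) (.lf 0)) (.nd (.lf 0) (.lf 0))) (.nd (.nd (.lf 0) (.lf 0)) (.nd (.lf 0) (.lf 0))))) (.nd (.nd (.nd (.nd (.lf 0) (.lf 0)) (.nd (.lf 0) (.lf 0))) (.nd (.nd (.lf 0) (.lf 0)) (.nd (.lf 0) (.lf 0)))) (.nd (.nd (.nd (.lf 0) (.lf 0)) (.nd (.lf 0) (.lf 0))) (.nd (.nd (.lf 0) (.lf 0)) (.nd (.lf 0) (.lf 0)))))))) (.nd (.nd (.nd (.nd (.nd (.nd (.nd (.lf 0) (.lf 0)) (.nd (.lf 0) (.lf 0))) (.nd (.nd (.lf 0) (.lf 0)) (.nd (.lf 0) (.lf 0)))) (.nd (.nd (.nd (.lf 0) (.lf 0)) (.nd (.lf 0) (.lf 0))) (.nd (.nd (.lf 0) (.lf 0)) (.nd (.lf 0) (.lf 0))))) (.nd (.nd (.nd (.nd (.lf 0) (.lf 0)) (.nd (.lf 0) (.lf 0))) (.nd (.nd (.lf 0) (.lf 0)) (.nd (.lf 0) (.lf 0)))) (.nd (.nd (.nd (.lf 0) (.lf 0)) (.nd (.lf 0) (.lf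 0))) (.nd (.nd (.lf 0) (.lf 0)) (.nd (.lf 0) (.lf 0)))))) (.nd (.nd (.nd (.nd (.nd (.lf 0) (.lf 0)) (.nd (.lf 0) (.lf 0))) (.nd (.nd (.lf 0) (.lf 0)) (.nd (.lf 0) (.lf 0)))) (.nd (.nd (.nd (.lf 0) (.lf 0)) (.nd (.lf 0) (.lf 0))) (.nd (.nd (.lf 0) (.lf 0)) (.nd (.lf 0) (.lf 0))))) (.nd (.nd (.nd (.nd (.lf 0) (.lf 0)) (.nd (.lf 0) (.lf 0))) (.nd (.nd (.lf 0) (.lf 0)) (.nd (.lf 0) (.lf 0)))) (.nd (.nd (.nd (.lf 0) (.lf 0)) (.nd (.lf 0) (.lf 0))) (.nd (.nd (.lf 0) (.lf 0)) (.nd (.lf 0) (.lf 0))))))) (.nd (.nd (.nd (.nd (.nd (.nd (.lf 0) (.lf 0)) (.nd (.lf 0) (.lf 0))) (.nd (.nd (.lf 0) (.lf 0)) (.nd (.lf 0) (.lf 0)))) (.nd (.nd (.nd (.lf 0) (.lf 0)) (.nd (.lf 0) (.lf 0))) (.nd (.nd (.lf 0) (.lf 0)) (.nd (.lf 0) (.lf 0))))) (.nd (.nd (.nd (.nd (.lf 0) (.lf 0)) (.nd (.lf 0) (.lf 0))) (.nd (.nd (.lf 0) (.lf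 0)) (.nd (.lf 0) (.lf 0)))) (.nd (.nd (.nd (.lf 0) (.lf 0)) (.nd (.lf 0) (.lf 0))) (.nd (.nd (.lf 0) (.lf 0)) (.nd (.lf 0) (.lf 0)))))) (.nd (.nd (.nd (.nd (.nd (.lf 0) (.lf 0)) (.nd (.lf 0) (.lf 0))) (.nd (.nd (.lf 0) (.lf 0)) (.nd (.lf 0) (.lf 0)))) (.nd (.nd (.nd (.lf 0) (.lf 0)) (.nd (.lf 0) (.lf 0))) (.nd (.nd (.lf 0) (.lf 0)) (.nd (.lf 0) (.lf 0))))) (.nd (.nd (.nd (.nd (.lf 0) (.lf 0)) (.nd (.lf 0) (.lf 0))) (.nd (.nd (.lf 0) (.lf 0)) (.nd (.lf 0) (.lf 0)))) (.nd (.nd (.nd (.lf 0) (.lf 0)) (.nd (.lf 0) (.lf 0))) (.nd (.nd (.lf 0) (.lf 0)) (.nd (.lf 0) (.lf 0))))))))))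

/-- table -/
def tabX : Tr :=
  .nd (.nd (.nd (.nd tabX_1 tabX_2) (.nd tabX_3 tabX_4)) (.nd (.nd tabX_5 tabX_6) (.nd tabX_7 tabX_8))) (.nd (.nd (.nd tabX_9 tabX_10) (.nd tabX_11 tabX_12)) (.nd (.nd tabX_13 tabX_14) (.nd tabX_15 tabX_16)))

/-- table part -/
def tabT_1 : Tr :=
  .nd (.nd (.nd (.nd (.nd (.nd (.nd (.nd (.nd (.nd (.lf 0) (.lf 0)) (.nd (.lf 0) (.lf 0))) (.nd (.nd (.lf 0) (.lf 0)) (.nd (.lf 0) (.lf 0)))) (.nd (.nd (.nd (.lf 0) (.lf 0)) (.nd (.lf 0) (.lf 0))) (.nd (.nd (.lf 0) (.lf 0)) (.nd (.lf 0) (.lf 0))))) (.nd (.nd (.nd (.nd (.lf 0) (.lf 0)) (.nd (.lf 0) (.lf 0))) (.nd (.nd (.lf 0) (.lf 0)) (.nd (.lf 98) (.lf 0)))) (.nd (.nd (.nd (.lf 0) (.lf 0)) (.nd (.lf 0) (.lf 0))) (.nd (.nd (.lf 0) (.lf 0)) (.nd (.lf 0) (.lf 0)))))) (.nd (.nd (.nd (.nd (.nd (.lf 40) (.lf 0)) (.nd (.lf 0) (.lf 0)))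 (.nd (.nd (.lf 0) (.lf 0)) (.nd (.lf 0) (.lf 0)))) (.nd (.nd (.nd (.lf 0) (.lf 0)) (.nd (.lf 0) (.lf 0))) (.nd (.nd (.lf 0) (.lf 0)) (.nd (.lf 0) (.lf 0))))) (.nd (.nd (.nd (.nd (.lf 0) (.lf 0)) (.nd (.lf 0) (.lf 0))) (.nd (.nd (.lf 0) (.lf 0)) (.nd (.lf 0) (.lf 0)))) (.nd (.nd (.nd (.lf 0) (.lf 0)) (.nd (.lf 0) (.lf 0))) (.nd (.nd (.lf 0) (.lf 0)) (.nd (.lf 0) (.lf 0))))))) (.nd (.nd (.nd (.nd (.nd (.nd (.lf 0) (.lf 0)) (.nd (.lf 0) (.lf 0))) (.nd (.nd (.lf 0) (.lf 0)) (.nd (.lf 0) (.lf 0)))) (.nd (.nd (.nd (.lf 0) (.lf 0)) (.nd (.lf 0) (.lf 0))) (.nd (.nd (.lf 0) (.lf 0)) (.nd (.lf 0) (.lf 0))))) (.nd (.nd (.nd (.nd (.lf 0) (.lf 0)) (.nd (.lf 0) (.lf 0))) (.nd (.nd (.lf 0) (.lf 0)) (.nd (.lf 0) (.lf 0)))) (.nd (.nd (.nd (.lf 0) (.lf 0)) (.nd (.lf 0) (.lf 0))) (.nd (.nd (.lf 0) (.lf 0)) (.nd (.lf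 0) (.lf 0)))))) (.nd (.nd (.nd (.nd (.nd (.lf 0) (.lf 0)) (.nd (.lf 0) (.lf 0))) (.nd (.nd (.lf 126) (.lf 0)) (.nd (.lf 0) (.lf 0)))) (.nd (.nd (.nd (.lf 0) (.lf 0)) (.nd (.lf 0) (.lf 0))) (.nd (.nd (.lf 0) (.lf 0)) (.nd (.lf 0) (.lf 0))))) (.nd (.nd (.nd (.nd (.lf 0) (.lf 0)) (.nd (.lf 0) (.lf 0))) (.nd (.nd (.lf 0) (.lf 0)) (.nd (.lf 0) (.lf 0)))) (.nd (.nd (.nd (.lf 0) (.lf 0)) (.nd (.lf 0) (.lf 0))) (.nd (.nd (.lf 0) (.lf 0)) (.nd (.lf 0) (.lf 0)))))))) (.nd (.nd (.nd (.nd (.nd (.nd (.nd (.lf 0) (.lf 0)) (.nd (.lf 0) (.lf 0))) (.nd (.nd (.lf 0) (.lf 0)) (.nd (.lf 0) (.lf 0)))) (.nd (.nd (.nd (.lf 0) (.lf 0)) (.nd (.lf 0) (.lf 0))) (.nd (.nd (.lf 0) (.lf 0)) (.nd (.lf 0) (.lf 0))))) (.nd (.nd (.nd (.nd (.lf 0) (.lf 0)) (.nd (.lf 0) (.lf 0))) (.nd (.nd (.lf 0) (.lf 0)) (.nd (.lf 0) (.lf 0)))) (.nd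 (.nd (.nd (.lf 0) (.lf 0)) (.nd (.lf 0) (.lf 0))) (.nd (.nd (.lf 0) (.lf 0)) (.nd (.lf 0) (.lf 0)))))) (.nd (.nd (.nd (.nd (.nd (.lf 0) (.lf 0)) (.nd (.lf 0) (.lf 0))) (.nd (.nd (.lf 0) (.lf 0)) (.nd (.lf 0) (.lf 0)))) (.nd (.nd (.nd (.lf 0) (.lf 0)) (.nd (.lf 0) (.lf 0))) (.nd (.nd (.lf 0) (.lf 0)) (.nd (.lf 0) (.lf 0))))) (.nd (.nd (.nd (.nd (.lf 0) (.lf 0)) (.nd (.lf 0) (.lf 0))) (.nd (.nd (.lf 0) (.lf 0)) (.nd (.lf 0) (.lf 0)))) (.nd (.nd (.nd (.lf 0) (.lf 0)) (.nd (.lf 0) (.lf 0))) (.nd (.nd (.lf 0) (.lf 0)) (.nd (.lf 0) (.lf 0))))))) (.nd (.nd (.nd (.nd (.nd (.nd (.lf 0) (.lf 0)) (.nd (.lf 0) (.lf 0))) (.nd (.nd (.lf 0) (.lf 0)) (.nd (.lf 0) (.lf 0)))) (.nd (.nd (.nd (.lf 0) (.lf 0)) (.nd (.lf 0) (.lf 0))) (.nd (.nd (.lf 0) (.lf 0)) (.nd (.lf 0) (.lf 0))))) (.nd (.nd (.nd (.nd (.lf 0) (.lf 0))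 (.nd (.lf 0) (.lf 0))) (.nd (.nd (.lf 0) (.lf 0)) (.nd (.lf 0) (.lf 0)))) (.nd (.nd (.nd (.lf 0) (.lf 0)) (.nd (.lf 0) (.lf 0))) (.nd (.nd (.lf 0) (.lf 0)) (.nd (.lf 0) (.lf 0)))))) (.nd (.nd (.nd (.nd (.nd (.lf 26) (.lf 0)) (.nd (.lf 0) (.lf 0))) (.nd (.nd (.lf 0) (.lf 0)) (.nd (.lf 0) (.lf 0)))) (.nd (.nd (.nd (.lf 0) (.lf 0)) (.nd (.lf 0) (.lf 0))) (.nd (.nd (.lf 0) (.lf 0)) (.nd (.lf 0) (.lf 0))))) (.nd (.nd (.nd (.nd (.lf 0) (.lf 0)) (.nd (.lf 0) (.lf 0))) (.nd (.nd (.lf 0) (.lf 0)) (.nd (.lf 0) (.lf 0)))) (.nd (.nd (.nd (.lf 0) (.lf 0)) (.nd (.lf 0) (.lf 0))) (.nd (.nd (.lf 0) (.lf 0)) (.nd (.lf 0) (.lf 0))))))))) (.nd (.nd (.nd (.nd (.nd (.nd (.nd (.nd (.lf 0) (.lf 0)) (.nd (.lf 0) (.lf 0))) (.nd (.nd (.lf 0) (.lf 0)) (.nd (.lf 0) (.lf 0)))) (.nd (.nd (.nd (.lf 0) (.lf 0)) (.nd (.lf 0) (.lf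 0))) (.nd (.nd (.lf 0) (.lf 0)) (.nd (.lf 0) (.lf 0))))) (.nd (.nd (.nd (.nd (.lf 0) (.lf 0)) (.nd (.lf 0) (.lf 0))) (.nd (.nd (.lf 0) (.lf 0)) (.nd (.lf 0) (.lf 0)))) (.nd (.nd (.nd (.lf 0) (.lf 0)) (.nd (.lf 0) (.lf 0))) (.nd (.nd (.lf 0) (.lf 0)) (.nd (.lf 0) (.lf 0)))))) (.nd (.nd (.nd (.nd (.nd (.lf 0) (.lf 0)) (.nd (.lf 0) (.lf 0))) (.nd (.nd (.lf 0) (.lf 0)) (.nd (.lf 0) (.lf 0)))) (.nd (.nd (.nd (.lf 0) (.lf 0)) (.nd (.lf 0) (.lf 0))) (.nd (.nd (.lf 0) (.lf 0)) (.nd (.lf 0) (.lf 0))))) (.nd (.nd (.nd (.nd (.lf 0) (.lf 0)) (.nd (.lf 0) (.lf 0))) (.nd (.nd (.lf 0) (.lf 0)) (.nd (.lf 0) (.lf 0)))) (.nd (.nd (.nd (.lf 0) (.lf 0)) (.nd (.lf 0) (.lf 0))) (.nd (.nd (.lf 0) (.lf 0)) (.nd (.lf 0) (.lf 0))))))) (.nd (.nd (.nd (.nd (.nd (.nd (.lf 0) (.lf 0)) (.nd (.lf 0) (.lf 0))) (.nd (.nd (.lf 0) (.lf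 0)) (.nd (.lf 0) (.lf 0)))) (.nd (.nd (.nd (.lf 0) (.lf 0)) (.nd (.lf 0) (.lf 0))) (.nd (.nd (.lf 0) (.lf 0)) (.nd (.lf 0) (.lf 0))))) (.nd (.nd (.nd (.nd (.lf 0) (.lf 0)) (.nd (.lf 0) (.lf 0))) (.nd (.nd (.lf 0) (.lf 0)) (.nd (.lf 0) (.lf 0)))) (.nd (.nd (.nd (.lf 0) (.lf 0)) (.nd (.lf 0) (.lf 0))) (.nd (.nd (.lf 0) (.lf 0)) (.nd (.lf 0) (.lf 0)))))) (.nd (.nd (.nd (.nd (.nd (.lf 0) (.lf 0)) (.nd (.lf 0) (.lf 0))) (.nd (.nd (.lf 0) (.lf 0)) (.nd (.lf 0) (.lf 0)))) (.nd (.nd (.nd (.lf 0) (.lf 0)) (.nd (.lf 0) (.lf 0))) (.nd (.nd (.lf 0) (.lf 0)) (.nd (.lf 0) (.lf 0))))) (.nd (.nd (.nd (.nd (.lf 0) (.lf 0)) (.nd (.lf 0) (.lf 0))) (.nd (.nd (.lf 0) (.lf 0)) (.nd (.lf 0) (.lf 0)))) (.nd (.nd (.nd (.lf 0) (.lf 0)) (.nd (.lf 0) (.lf 0))) (.nd (.nd (.lf 0) (.lf 0)) (.nd (.lf 0) (.lf 0)))))))) (.nd (.nd (.nd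 (.nd (.nd (.nd (.nd (.lf 0) (.lf 0)) (.nd (.lf 0) (.lf 0))) (.nd (.nd (.lf 0) (.lf 0)) (.nd (.lf 0) (.lf 0)))) (.nd (.nd (.nd (.lf 0) (.lf 0)) (.nd (.lf 0) (.lf 0))) (.nd (.nd (.lf 0) (.lf 0)) (.nd (.lf 0) (.lf 0))))) (.nd (.nd (.nd (.nd (.lf 0) (.lf 0)) (.nd (.lf 0) (.lf 0))) (.nd (.nd (.lf 0) (.lf 0)) (.nd (.lf 0) (.lf 0)))) (.nd (.nd (.nd (.lf 0) (.lf 0)) (.nd (.lf 0) (.lf 0))) (.nd (.nd (.lf 0) (.lf 0)) (.nd (.lf 0) (.lf 0)))))) (.nd (.nd (.nd (.nd (.nd (.lf 0) (.lf 0)) (.nd (.lf 0) (.lf 0))) (.nd (.nd (.lf 0) (.lf 0)) (.nd (.lf 0) (.lf 0)))) (.nd (.nd (.nd (.lf 0) (.lf 0)) (.nd (.lf 0) (.lf 0))) (.nd (.nd (.lf 0) (.lf 0)) (.nd (.lf 0) (.lf 0))))) (.nd (.nd (.nd (.nd (.lf 0) (.lf 0)) (.nd (.lf 0) (.lf 0))) (.nd (.nd (.lf 0) (.lf 0)) (.nd (.lf 0) (.lf 0)))) (.nd (.nd (.nd (.lf 0) (.lf 0)) (.nd (.lf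 0) (.lf 0))) (.nd (.nd (.lf 0) (.lf 0)) (.nd (.lf 0) (.lf 0))))))) (.nd (.nd (.nd (.nd (.nd (.nd (.lf 0) (.lf 0)) (.nd (.lf 0) (.lf 0))) (.nd (.nd (.lf 0) (.lf 0)) (.nd (.lf 107) (.lf 0)))) (.nd (.nd (.nd (.lf 0) (.lf 0)) (.nd (.lf 0) (.lf 0))) (.nd (.nd (.lf 74) (.lf 0)) (.nd (.lf 0) (.lf 0))))) (.nd (.nd (.nd (.nd (.lf 0) (.lf 0)) (.nd (.lf 0) (.lf 0))) (.nd (.nd (.lf 0) (.lf 0)) (.nd (.lf 0) (.lf 0)))) (.nd (.nd (.nd (.lf 0) (.lf 0)) (.nd (.lf 0) (.lf 0))) (.nd (.nd (.lf 0) (.lf 0)) (.nd (.lf 0) (.lf 0)))))) (.nd (.nd (.nd (.nd (.nd (.lf 0) (.lf 0)) (.nd (.lf 0) (.lf 0))) (.nd (.nd (.lf 0) (.lf 0)) (.nd (.lf 0) (.lf 0)))) (.nd (.nd (.nd (.lf 0) (.lf 0)) (.nd (.lf 0) (.lf 0))) (.nd (.nd (.lf 0) (.lf 0)) (.nd (.lf 0) (.lf 0))))) (.nd (.nd (.nd (.nd (.lf 0) (.lf 0)) (.nd (.lf 0) (.lf 0))) (.nd (.nd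 (.lf 0) (.lf 0)) (.nd (.lf 0) (.lf 0)))) (.nd (.nd (.nd (.lf 0) (.lf 0)) (.nd (.lf 0) (.lf 0))) (.nd (.nd (.lf 0) (.lf 0)) (.nd (.lf 0) (.lf 0)))))))))) (.nd (.nd (.nd (.nd (.nd (.nd (.nd (.nd (.nd (.lf 0) (.lf 0)) (.nd (.lf 0) (.lf 0))) (.nd (.nd (.lf 0) (.lf 0)) (.nd (.lf 0) (.lf 0)))) (.nd (.nd (.nd (.lf 0) (.lf 0)) (.nd (.lf 0) (.lf 0))) (.nd (.nd (.lf 0) (.lf 0)) (.nd (.lf 0) (.lf 0))))) (.nd (.nd (.nd (.nd (.lf 0) (.lf 0)) (.nd (.lf 0) (.lf 0))) (.nd (.nd (.lf 0) (.lf 0)) (.nd (.lf 0) (.lf 0)))) (.nd (.nd (.nd (.lf 0) (.lf 0)) (.nd (.lf 0) (.lf 0))) (.nd (.nd (.lf 0) (.lf 0)) (.nd (.lf 0) (.lf 0)))))) (.nd (.nd (.nd (.nd (.nd (.lf 0) (.lf 0)) (.nd (.lf 0) (.lf 0))) (.nd (.nd (.lf 0) (.lf 0)) (.nd (.lf 0) (.lf 0)))) (.nd (.nd (.nd (.lf 0) (.lf 0)) (.nd (.lf 0) (.lf 0))) (.nd (.nd (.lf 0) (.lf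 0)) (.nd (.lf 0) (.lf 0))))) (.nd (.nd (.nd (.nd (.lf 0) (.lf 0)) (.nd (.lf 0) (.lf 0))) (.nd (.nd (.lf 0) (.lf 0)) (.nd (.lf 0) (.lf 0)))) (.nd (.nd (.nd (.lf 0) (.lf 0)) (.nd (.lf 0) (.lf 0))) (.nd (.nd (.lf 0) (.lf 0)) (.nd (.lf 0) (.lf 0))))))) (.nd (.nd (.nd (.nd (.nd (.nd (.lf 0) (.lf 0)) (.nd (.lf 0) (.lf 0))) (.nd (.nd (.lf 0) (.lf 0)) (.nd (.lf 0) (.lf 0)))) (.nd (.nd (.nd (.lf 0) (.lf 0)) (.nd (.lf 0) (.lf 0))) (.nd (.nd (.lf 0) (.lf 0)) (.nd (.lf 0) (.lf 0))))) (.nd (.nd (.nd (.nd (.lf 0) (.lf 0)) (.nd (.lf 0) (.lf 0))) (.nd (.nd (.lf 0) (.lf 0)) (.nd (.lf 0) (.lf 0)))) (.nd (.nd (.nd (.lf 0) (.lf 0)) (.nd (.lf 0) (.lf 0))) (.nd (.nd (.lf 0) (.lf 0)) (.nd (.lf 0) (.lf 0)))))) (.nd (.nd (.nd (.nd (.nd (.lf 0) (.lf 0)) (.nd (.lf 0) (.lf 0))) (.nd (.nd (.lf 0) (.lf 0)) (.nd (.lf 0) (.lf 0))))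 (.nd (.nd (.nd (.lf 0) (.lf 0)) (.nd (.lf 0) (.lf 0))) (.nd (.nd (.lf 0) (.lf 0)) (.nd (.lf 0) (.lf 0))))) (.nd (.nd (.nd (.nd (.lf 0) (.lf 0)) (.nd (.lf 0) (.lf 0))) (.nd (.nd (.lf 0) (.lf 0)) (.nd (.lf 0) (.lf 0)))) (.nd (.nd (.nd (.lf 0) (.lf 0)) (.nd (.lf 0) (.lf 0))) (.nd (.nd (.lf 0) (.lf 0)) (.nd (.lf 0) (.lf 0)))))))) (.nd (.nd (.nd (.nd (.nd (.nd (.nd (.lf 0) (.lf 0)) (.nd (.lf 0) (.lf 0))) (.nd (.nd (.lf 0) (.lf 0)) (.nd (.lf 0) (.lf 0)))) (.nd (.nd (.nd (.lf 0) (.lf 0)) (.nd (.lf 0) (.lf 0))) (.nd (.nd (.lf 0) (.lf 0)) (.nd (.lf 0) (.lf 0))))) (.nd (.nd (.nd (.nd (.lf 0) (.lf 0)) (.nd (.lf 0) (.lf 0))) (.nd (.nd (.lf 0) (.lf 0)) (.nd (.lf 0) (.lf 0)))) (.nd (.nd (.nd (.lf 0) (.lf 0)) (.nd (.lf 0) (.lf 0))) (.nd (.nd (.lf 0) (.lf 0)) (.nd (.lf 0) (.lf 0)))))) (.nd (.nd (.nd (.nd (.nd (.lf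 0) (.lf 0)) (.nd (.lf 0) (.lf 0))) (.nd (.nd (.lf 0) (.lf 0)) (.nd (.lf 65) (.lf 0)))) (.nd (.nd (.nd (.lf 0) (.lf 0)) (.nd (.lf 0) (.lf 0))) (.nd (.nd (.lf 0) (.lf 0)) (.nd (.lf 0) (.lf 0))))) (.nd (.nd (.nd (.nd (.lf 0) (.lf 0)) (.nd (.lf 0) (.lf 0))) (.nd (.nd (.lf 0) (.lf 0)) (.nd (.lf 0) (.lf 0)))) (.nd (.nd (.nd (.lf 0) (.lf 0)) (.nd (.lf 0) (.lf 0))) (.nd (.nd (.lf 0) (.lf 0)) (.nd (.lf 0) (.lf 0))))))) (.nd (.nd (.nd (.nd (.nd (.nd (.lf 0) (.lf 0)) (.nd (.lf 0) (.lf 0))) (.nd (.nd (.lf 0) (.lf 0)) (.nd (.lf 0) (.lf 0)))) (.nd (.nd (.nd (.lf 0) (.lf 0)) (.nd (.lf 0) (.lf 0))) (.nd (.nd (.lf 0) (.lf 0)) (.nd (.lf 0) (.lf 0))))) (.nd (.nd (.nd (.nd (.lf 0) (.lf 0)) (.nd (.lf 0) (.lf 0))) (.nd (.nd (.lf 0) (.lf 0)) (.nd (.lf 0) (.lf 0)))) (.nd (.nd (.nd (.lf 0) (.lf 0)) (.nd (.lf 0) (.lf 0))) (.nd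 (.nd (.lf 0) (.lf 0)) (.nd (.lf 0) (.lf 0)))))) (.nd (.nd (.nd (.nd (.nd (.lf 0) (.lf 0)) (.nd (.lf 0) (.lf 0))) (.nd (.nd (.lf 0) (.lf 0)) (.nd (.lf 0) (.lf 0)))) (.nd (.nd (.nd (.lf 0) (.lf 0)) (.nd (.lf 0) (.lf 0))) (.nd (.nd (.lf 0) (.lf 0)) (.nd (.lf 0) (.lf 0))))) (.nd (.nd (.nd (.nd (.lf 0) (.lf 0)) (.nd (.lf 0) (.lf 0))) (.nd (.nd (.lf 0) (.lf 0)) (.nd (.lf 0) (.lf 0)))) (.nd (.nd (.nd (.lf 0) (.lf 0)) (.nd (.lf 0) (.lf 0))) (.nd (.nd (.lf 0) (.lf 0)) (.nd (.lf 0) (.lf 0))))))))) (.nd (.nd (.nd (.nd (.nd (.nd (.nd (.nd (.lf 0) (.lf 0)) (.nd (.lf 0) (.lf 0))) (.nd (.nd (.lf 0) (.lf 0)) (.nd (.lf 0) (.lf 0)))) (.nd (.nd (.nd (.lf 0) (.lf 0)) (.nd (.lf 0) (.lf 0))) (.nd (.nd (.lf 0) (.lf 0)) (.nd (.lf 0) (.lf 0))))) (.nd (.nd (.nd (.nd (.lf 0) (.lf 0)) (.nd (.lf 0) (.lf 0))) (.nd (.nd (.lf 0)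 (.lf 0)) (.nd (.lf 0) (.lf 0)))) (.nd (.nd (.nd (.lf 0) (.lf 0)) (.nd (.lf 0) (.lf 0))) (.nd (.nd (.lf 0) (.lf 0)) (.nd (.lf 0) (.lf 0)))))) (.nd (.nd (.nd (.nd (.nd (.lf 0) (.lf 0)) (.nd (.lf 0) (.lf 0))) (.nd (.nd (.lf 0) (.lf 0)) (.nd (.lf 0) (.lf 0)))) (.nd (.nd (.nd (.lf 0) (.lf 0)) (.nd (.lf 0) (.lf 0))) (.nd (.nd (.lf 0) (.lf 0)) (.nd (.lf 0) (.lf 0))))) (.nd (.nd (.nd (.nd (.lf 0) (.lf 0)) (.nd (.lf 0) (.lf 0))) (.nd (.nd (.lf 0) (.lf 0)) (.nd (.lf 0) (.lf 0)))) (.nd (.nd (.nd (.lf 0) (.lf 0)) (.nd (.lf 0) (.lf 0))) (.nd (.nd (.lf 0) (.lf 0)) (.nd (.lf 0) (.lf 0))))))) (.nd (.nd (.nd (.nd (.nd (.nd (.lf 0) (.lf 0)) (.nd (.lf 0) (.lf 0))) (.nd (.nd (.lf 0) (.lf 0)) (.nd (.lf 0) (.lf 0)))) (.nd (.nd (.nd (.lf 0) (.lf 0)) (.nd (.lf 0) (.lf 0))) (.nd (.nd (.lf 0) (.lf 0)) (.nd (.lf 0) (.lf 0)))))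 (.nd (.nd (.nd (.nd (.lf 0) (.lf 0)) (.nd (.lf 0) (.lf 0))) (.nd (.nd (.lf 0) (.lf 0)) (.nd (.lf 0) (.lf 0)))) (.nd (.nd (.nd (.lf 0) (.lf 0)) (.nd (.lf 0) (.lf 0))) (.nd (.nd (.lf 0) (.lf 0)) (.nd (.lf 0) (.lf 0)))))) (.nd (.nd (.nd (.nd (.nd (.lf 0) (.lf 0)) (.nd (.lf 0) (.lf 0))) (.nd (.nd (.lf 0) (.lf 0)) (.nd (.lf 0) (.lf 0)))) (.nd (.nd (.nd (.lf 0) (.lf 0)) (.nd (.lf 0) (.lf 0))) (.nd (.nd (.lf 0) (.lf 0)) (.nd (.lf 0) (.lf 0))))) (.nd (.nd (.nd (.nd (.lf 0) (.lf 0)) (.nd (.lf 0) (.lf 0))) (.nd (.nd (.lf 0) (.lf 0)) (.nd (.lf 0) (.lf 0)))) (.nd (.nd (.nd (.lf 0) (.lf 0)) (.nd (.lf 0) (.lf 0))) (.nd (.nd (.lf 0) (.lf 0)) (.nd (.lf 0) (.lf 0)))))))) (.nd (.nd (.nd (.nd (.nd (.nd (.nd (.lf 0) (.lf 0)) (.nd (.lf 0) (.lf 0))) (.nd (.nd (.lf 0) (.lf 0)) (.nd (.lf 0) (.lf 0)))) (.nd (.nd (.nd (.lf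 0) (.lf 0)) (.nd (.lf 0) (.lf 0))) (.nd (.nd (.lf 0) (.lf 0)) (.nd (.lf 0) (.lf 0))))) (.nd (.nd (.nd (.nd (.lf 0) (.lf 0)) (.nd (.lf 0) (.lf 0))) (.nd (.nd (.lf 0) (.lf 0)) (.nd (.lf 0) (.lf 0)))) (.nd (.nd (.nd (.lf 0) (.lf 0)) (.nd (.lf 0) (.lf 0))) (.nd (.nd (.lf 0) (.lf 0)) (.nd (.lf 0) (.lf 0)))))) (.nd (.nd (.nd (.nd (.nd (.lf 0) (.lf 0)) (.nd (.lf 0) (.lf 0))) (.nd (.nd (.lf 0) (.lf 0)) (.nd (.lf 0) (.lf 0)))) (.nd (.nd (.nd (.lf 0) (.lf 0)) (.nd (.lf 0) (.lf 0))) (.nd (.nd (.lf 0) (.lf 0)) (.nd (.lf 0) (.lf 0))))) (.nd (.nd (.nd (.nd (.lf 0) (.lf 0)) (.nd (.lf 0) (.lf 0))) (.nd (.nd (.lf 0) (.lf 0)) (.nd (.lf 0) (.lf 0)))) (.nd (.nd (.nd (.lf 0) (.lf 0)) (.nd (.lf 0) (.lf 0))) (.nd (.nd (.lf 0) (.lf 0)) (.nd (.lf 0) (.lf 0))))))) (.nd (.nd (.nd (.nd (.nd (.nd (.lf 0) (.lf 0)) (.nd (.lf 0)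 (.lf 0))) (.nd (.nd (.lf 0) (.lf 0)) (.nd (.lf 0) (.lf 0)))) (.nd (.nd (.nd (.lf 0) (.lf 0)) (.nd (.lf 0) (.lf 0))) (.nd (.nd (.lf 0) (.lf 0)) (.nd (.lf 0) (.lf 0))))) (.nd (.nd (.nd (.nd (.lf 0) (.lf 0)) (.nd (.lf 0) (.lf 0))) (.nd (.nd (.lf 0) (.lf 0)) (.nd (.lf 0) (.lf 0)))) (.nd (.nd (.nd (.lf 0) (.lf 0)) (.nd (.lf 0) (.lf 0))) (.nd (.nd (.lf 0) (.lf 0)) (.nd (.lf 0) (.lf 0)))))) (.nd (.nd (.nd (.nd (.nd (.lf 0) (.lf 0)) (.nd (.lf 0) (.lf 0))) (.nd (.nd (.lf 0) (.lf 0)) (.nd (.lf 0) (.lf 0)))) (.nd (.nd (.nd (.lf 0) (.lf 0)) (.nd (.lf 0) (.lf 0))) (.nd (.nd (.lf 0) (.lf 0)) (.nd (.lf 0) (.lf 0))))) (.nd (.nd (.nd (.nd (.lf 0) (.lf 0)) (.nd (.lf 0) (.lf 0))) (.nd (.nd (.lf 0) (.lf 0)) (.nd (.lf 0) (.lf 0)))) (.nd (.nd (.nd (.lf 0) (.lf 0)) (.nd (.lf 0) (.lf 0))) (.nd (.nd (.lf 0) (.lf 0)) (.nd (.lf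 0) (.lf 0))))))))))

/-- table part -/
def tabT_2 : Tr :=
  .nd (.nd (.nd (.nd (.nd (.nd (.nd (.nd (.nd (.nd (.lf 0) (.lf 0)) (.nd (.lf 0) (.lf 0))) (.nd (.nd (.lf 0) (.lf 0)) (.nd (.lf 0) (.lf 0)))) (.nd (.nd (.nd (.lf 0) (.lf 0)) (.nd (.lf 0) (.lf 0))) (.nd (.nd (.lf 0) (.lf 0)) (.nd (.lf 0) (.lf 0))))) (.nd (.nd (.nd (.nd (.lf 0) (.lf 0)) (.nd (.lf 0) (.lf 0))) (.nd (.nd (.lf 0) (.lf 0)) (.nd (.lf 0) (.lf 0)))) (.nd (.nd (.nd (.lf 0) (.lf 0)) (.nd (.lf 0) (.lf 0))) (.nd (.nd (.lf 0) (.lf 0)) (.nd (.lf 0) (.lf 0)))))) (.nd (.nd (.nd (.nd (.nd (.lf 0) (.lf 0)) (.nd (.lf 0) (.lf 0))) (.nd (.nd (.lf 0) (.lf 0)) (.nd (.lf 0) (.lf 0)))) (.nd (.nd (.nd (.lf 0) (.lf 0)) (.nd (.lf 0) (.lf 0))) (.nd (.nd (.lf 0) (.lf 0)) (.nd (.lf 0) (.lf 0))))) (.nd (.nd (.nd (.nd (.lf 0) (.lf 0)) (.nd (.lf 0) (.lf 0)))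 (.nd (.nd (.lf 0) (.lf 0)) (.nd (.lf 0) (.lf 0)))) (.nd (.nd (.nd (.lf 0) (.lf 0)) (.nd (.lf 0) (.lf 0))) (.nd (.nd (.lf 0) (.lf 0)) (.nd (.lf 0) (.lf 0))))))) (.nd (.nd (.nd (.nd (.nd (.nd (.lf 0) (.lf 0)) (.nd (.lf 0) (.lf 0))) (.nd (.nd (.lf 0) (.lf 0)) (.nd (.lf 0) (.lf 0)))) (.nd (.nd (.nd (.lf 0) (.lf 0)) (.nd (.lf 0) (.lf 0))) (.nd (.nd (.lf 0) (.lf 0)) (.nd (.lf 0) (.lf 0))))) (.nd (.nd (.nd (.nd (.lf 0) (.lf 0)) (.nd (.lf 0) (.lf 0))) (.nd (.nd (.lf 0) (.lf 0)) (.nd (.lf 0) (.lf 0)))) (.nd (.nd (.nd (.lf 0) (.lf 0)) (.nd (.lf 0) (.lf 0))) (.nd (.nd (.lf 13) (.lf 0)) (.nd (.lf 0) (.lf 0)))))) (.nd (.nd (.nd (.nd (.nd (.lf 0) (.lf 0)) (.nd (.lf 0) (.lf 0))) (.nd (.nd (.lf 0) (.lf 0)) (.nd (.lf 0) (.lf 0)))) (.nd (.nd (.nd (.lf 0) (.lf 0)) (.nd (.lf 0) (.lf 0))) (.nd (.nd (.lf 0) (.lf 0)) (.nd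 (.lf 0) (.lf 0))))) (.nd (.nd (.nd (.nd (.lf 0) (.lf 0)) (.nd (.lf 0) (.lf 0))) (.nd (.nd (.lf 0) (.lf 0)) (.nd (.lf 0) (.lf 0)))) (.nd (.nd (.nd (.lf 0) (.lf 0)) (.nd (.lf 0) (.lf 0))) (.nd (.nd (.lf 0) (.lf 0)) (.nd (.lf 0) (.lf 0)))))))) (.nd (.nd (.nd (.nd (.nd (.nd (.nd (.lf 0) (.lf 0)) (.nd (.lf 0) (.lf 0))) (.nd (.nd (.lf 0) (.lf 0)) (.nd (.lf 0) (.lf 0)))) (.nd (.nd (.nd (.lf 0) (.lf 0)) (.nd (.lf 0) (.lf 0))) (.nd (.nd (.lf 0) (.lf 0)) (.nd (.lf 0) (.lf 0))))) (.nd (.nd (.nd (.nd (.lf 0) (.lf 0)) (.nd (.lf 0) (.lf 0))) (.nd (.nd (.lf 0) (.lf 0)) (.nd (.lf 0) (.lf 0)))) (.nd (.nd (.nd (.lf 0) (.lf 0)) (.nd (.lf 0) (.lf 0))) (.nd (.nd (.lf 0) (.lf 0)) (.nd (.lf 0) (.lf 0)))))) (.nd (.nd (.nd (.nd (.nd (.lf 0) (.lf 0)) (.nd (.lf 0) (.lf 0))) (.nd (.nd (.lf 0) (.lf 0)) (.nd (.lf 0) (.lf 0))))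 (.nd (.nd (.nd (.lf 0) (.lf 0)) (.nd (.lf 0) (.lf 0))) (.nd (.nd (.lf 0) (.lf 0)) (.nd (.lf 0) (.lf 0))))) (.nd (.nd (.nd (.nd (.lf 0) (.lf 0)) (.nd (.lf 0) (.lf 0))) (.nd (.nd (.lf 0) (.lf 0)) (.nd (.lf 0) (.lf 0)))) (.nd (.nd (.nd (.lf 0) (.lf 0)) (.nd (.lf 0) (.lf 0))) (.nd (.nd (.lf 0) (.lf 0)) (.nd (.lf 0) (.lf 0))))))) (.nd (.nd (.nd (.nd (.nd (.nd (.lf 0) (.lf 0)) (.nd (.lf 0) (.lf 0))) (.nd (.nd (.lf 0) (.lf 0)) (.nd (.lf 0) (.lf 0)))) (.nd (.nd (.nd (.lf 0) (.lf 0)) (.nd (.lf 0) (.lf 0))) (.nd (.nd (.lf 0) (.lf 0)) (.nd (.lf 0) (.lf 0))))) (.nd (.nd (.nd (.nd (.lf 0) (.lf 0)) (.nd (.lf 0) (.lf 0))) (.nd (.nd (.lf 0) (.lf 0)) (.nd (.lf 0) (.lf 0)))) (.nd (.nd (.nd (.lf 0) (.lf 0)) (.nd (.lf 0) (.lf 0))) (.nd (.nd (.lf 0) (.lf 0)) (.nd (.lf 0) (.lf 0)))))) (.nd (.nd (.nd (.nd (.nd (.lf 0) (.lf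 0)) (.nd (.lf 0) (.lf 0))) (.nd (.nd (.lf 0) (.lf 0)) (.nd (.lf 0) (.lf 0)))) (.nd (.nd (.nd (.lf 0) (.lf 0)) (.nd (.lf 0) (.lf 0))) (.nd (.nd (.lf 0) (.lf 0)) (.nd (.lf 0) (.lf 0))))) (.nd (.nd (.nd (.nd (.lf 0) (.lf 0)) (.nd (.lf 0) (.lf 0))) (.nd (.nd (.lf 0) (.lf 0)) (.nd (.lf 0) (.lf 0)))) (.nd (.nd (.nd (.lf 103) (.lf 0)) (.nd (.lf 0) (.lf 0))) (.nd (.nd (.lf 0) (.lf 0)) (.nd (.lf 0) (.lf 0))))))))) (.nd (.nd (.nd (.nd (.nd (.nd (.nd (.nd (.lf 0) (.lf 0)) (.nd (.lf 0) (.lf 0))) (.nd (.nd (.lf 0) (.lf 0)) (.nd (.lf 0) (.lf 0)))) (.nd (.nd (.nd (.lf 0) (.lf 0)) (.nd (.lf 0) (.lf 0))) (.nd (.nd (.lf 0) (.lf 0)) (.nd (.lf 0) (.lf 0))))) (.nd (.nd (.nd (.nd (.lf 0) (.lf 0)) (.nd (.lf 0) (.lf 0))) (.nd (.nd (.lf 0) (.lf 0)) (.nd (.lf 0) (.lf 0)))) (.nd (.nd (.nd (.lf 0) (.lf 0)) (.nd (.lf 0) (.lf 0)))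 (.nd (.nd (.lf 0) (.lf 0)) (.nd (.lf 0) (.lf 0)))))) (.nd (.nd (.nd (.nd (.nd (.lf 0) (.lf 0)) (.nd (.lf 0) (.lf 0))) (.nd (.nd (.lf 0) (.lf 0)) (.nd (.lf 0) (.lf 0)))) (.nd (.nd (.nd (.lf 0) (.lf 0)) (.nd (.lf 80) (.lf 0))) (.nd (.nd (.lf 0) (.lf 0)) (.nd (.lf 0) (.lf 0))))) (.nd (.nd (.nd (.nd (.lf 0) (.lf 0)) (.nd (.lf 1) (.lf 0))) (.nd (.nd (.lf 0) (.lf 0)) (.nd (.lf 0) (.lf 0)))) (.nd (.nd (.nd (.lf 0) (.lf 0)) (.nd (.lf 0) (.lf 0))) (.nd (.nd (.lf 0) (.lf 0)) (.nd (.lf 0) (.lf 0))))))) (.nd (.nd (.nd (.nd (.nd (.nd (.lf 0) (.lf 0)) (.nd (.lf 0) (.lf 0))) (.nd (.nd (.lf 0) (.lf 0)) (.nd (.lf 0) (.lf 0)))) (.nd (.nd (.nd (.lf 0) (.lf 0)) (.nd (.lf 0) (.lf 0))) (.nd (.nd (.lf 120) (.lf 0)) (.nd (.lf 0) (.lf 0))))) (.nd (.nd (.nd (.nd (.lf 0) (.lf 0)) (.nd (.lf 0) (.lf 0))) (.nd (.nd (.lf 0) (.lf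 0)) (.nd (.lf 0) (.lf 0)))) (.nd (.nd (.nd (.lf 0) (.lf 0)) (.nd (.lf 0) (.lf 0))) (.nd (.nd (.lf 0) (.lf 0)) (.nd (.lf 0) (.lf 0)))))) (.nd (.nd (.nd (.nd (.nd (.lf 0) (.lf 0)) (.nd (.lf 0) (.lf 0))) (.nd (.nd (.lf 0) (.lf 0)) (.nd (.lf 0) (.lf 0)))) (.nd (.nd (.nd (.lf 0) (.lf 0)) (.nd (.lf 0) (.lf 0))) (.nd (.nd (.lf 0) (.lf 0)) (.nd (.lf 0) (.lf 0))))) (.nd (.nd (.nd (.nd (.lf 0) (.lf 0)) (.nd (.lf 0) (.lf 0))) (.nd (.nd (.lf 0) (.lf 0)) (.nd (.lf 0) (.lf 0)))) (.nd (.nd (.nd (.lf 0) (.lf 0)) (.nd (.lf 0) (.lf 0))) (.nd (.nd (.lf 0) (.lf 0)) (.nd (.lf 0) (.lf 0)))))))) (.nd (.nd (.nd (.nd (.nd (.nd (.nd (.lf 0) (.lf 0)) (.nd (.lf 0) (.lf 0))) (.nd (.nd (.lf 0) (.lf 0)) (.nd (.lf 0) (.lf 0)))) (.nd (.nd (.nd (.lf 0) (.lf 0)) (.nd (.lf 0) (.lf 0))) (.nd (.nd (.lf 0) (.lf 0)) (.nd (.lf 0) (.lf 0)))))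 (.nd (.nd (.nd (.nd (.lf 0) (.lf 0)) (.nd (.lf 0) (.lf 0))) (.nd (.nd (.lf 0) (.lf 0)) (.nd (.lf 0) (.lf 0)))) (.nd (.nd (.nd (.lf 0) (.lf 0)) (.nd (.lf 0) (.lf 0))) (.nd (.nd (.lf 0) (.lf 0)) (.nd (.lf 0) (.lf 0)))))) (.nd (.nd (.nd (.nd (.nd (.lf 0) (.lf 0)) (.nd (.lf 0) (.lf 0))) (.nd (.nd (.lf 0) (.lf 0)) (.nd (.lf 0) (.lf 0)))) (.nd (.nd (.nd (.lf 0) (.lf 0)) (.nd (.lf 0) (.lf 0))) (.nd (.nd (.lf 0) (.lf 0)) (.nd (.lf 0) (.lf 0))))) (.nd (.nd (.nd (.nd (.lf 0) (.lf 0)) (.nd (.lf 0) (.lf 0))) (.nd (.nd (.lf 0) (.lf 0)) (.nd (.lf 0) (.lf 0)))) (.nd (.nd (.nd (.lf 0) (.lf 0)) (.nd (.lf 0) (.lf 0))) (.nd (.nd (.lf 0) (.lf 0)) (.nd (.lf 0) (.lf 0))))))) (.nd (.nd (.nd (.nd (.nd (.nd (.lf 0) (.lf 0)) (.nd (.lf 0) (.lf 0))) (.nd (.nd (.lf 0) (.lf 0)) (.nd (.lf 0) (.lf 0)))) (.nd (.nd (.nd (.lf 0) (.lf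 0)) (.nd (.lf 0) (.lf 0))) (.nd (.nd (.lf 0) (.lf 0)) (.nd (.lf 0) (.lf 0))))) (.nd (.nd (.nd (.nd (.lf 0) (.lf 0)) (.nd (.lf 0) (.lf 0))) (.nd (.nd (.lf 0) (.lf 0)) (.nd (.lf 0) (.lf 0)))) (.nd (.nd (.nd (.lf 0) (.lf 0)) (.nd (.lf 0) (.lf 0))) (.nd (.nd (.lf 0) (.lf 0)) (.nd (.lf 0) (.lf 0)))))) (.nd (.nd (.nd (.nd (.nd (.lf 0) (.lf 0)) (.nd (.lf 0) (.lf 0))) (.nd (.nd (.lf 0) (.lf 0)) (.nd (.lf 0) (.lf 0)))) (.nd (.nd (.nd (.lf 0) (.lf 0)) (.nd (.lf 0) (.lf 0))) (.nd (.nd (.lf 0) (.lf 0)) (.nd (.lf 0) (.lf 0))))) (.nd (.nd (.nd (.nd (.lf 0) (.lf 0)) (.nd (.lf 0) (.lf 0))) (.nd (.nd (.lf 0) (.lf 0)) (.nd (.lf 0) (.lf 0)))) (.nd (.nd (.nd (.lf 0) (.lf 0)) (.nd (.lf 0) (.lf 0))) (.nd (.nd (.lf 0) (.lf 0)) (.nd (.lf 0) (.lf 0)))))))))) (.nd (.nd (.nd (.nd (.nd (.nd (.nd (.nd (.nd (.lf 7) (.lf 0)) (.nd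 (.lf 0) (.lf 0))) (.nd (.nd (.lf 0) (.lf 0)) (.nd (.lf 0) (.lf 0)))) (.nd (.nd (.nd (.lf 0) (.lf 0)) (.nd (.lf 0) (.lf 0))) (.nd (.nd (.lf 0) (.lf 0)) (.nd (.lf 0) (.lf 0))))) (.nd (.nd (.nd (.nd (.lf 0) (.lf 0)) (.nd (.lf 0) (.lf 0))) (.nd (.nd (.lf 4) (.lf 0)) (.nd (.lf 0) (.lf 0)))) (.nd (.nd (.nd (.lf 0) (.lf 0)) (.nd (.lf 96) (.lf 0))) (.nd (.nd (.lf 0) (.lf 0)) (.nd (.lf 0) (.lf 0)))))) (.nd (.nd (.nd (.nd (.nd (.lf 0) (.lf 0)) (.nd (.lf 0) (.lf 0))) (.nd (.nd (.lf 0) (.lf 0)) (.nd (.lf 0) (.lf 0)))) (.nd (.nd (.nd (.lf 0) (.lf 0)) (.nd (.lf 0) (.lf 0))) (.nd (.nd (.lf 0) (.lf 0)) (.nd (.lf 0) (.lf 0))))) (.nd (.nd (.nd (.nd (.lf 0) (.lf 0)) (.nd (.lf 0) (.lf 0))) (.nd (.nd (.lf 0) (.lf 0)) (.nd (.lf 0) (.lf 0)))) (.nd (.nd (.nd (.lf 0) (.lf 0)) (.nd (.lf 0) (.lf 0))) (.nd (.nd (.lf 0) (.lf 0))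 (.nd (.lf 0) (.lf 0))))))) (.nd (.nd (.nd (.nd (.nd (.nd (.lf 0) (.lf 0)) (.nd (.lf 0) (.lf 0))) (.nd (.nd (.lf 0) (.lf 0)) (.nd (.lf 0) (.lf 0)))) (.nd (.nd (.nd (.lf 0) (.lf 0)) (.nd (.lf 0) (.lf 0))) (.nd (.nd (.lf 0) (.lf 0)) (.nd (.lf 0) (.lf 0))))) (.nd (.nd (.nd (.nd (.lf 0) (.lf 0)) (.nd (.lf 0) (.lf 0))) (.nd (.nd (.lf 0) (.lf 0)) (.nd (.lf 0) (.lf 0)))) (.nd (.nd (.nd (.lf 0) (.lf 0)) (.nd (.lf 0) (.lf 0))) (.nd (.nd (.lf 0) (.lf 0)) (.nd (.lf 0) (.lf 0)))))) (.nd (.nd (.nd (.nd (.nd (.lf 0) (.lf 0)) (.nd (.lf 0) (.lf 0))) (.nd (.nd (.lf 0) (.lf 0)) (.nd (.lf 0) (.lf 0)))) (.nd (.nd (.nd (.lf 0) (.lf 0)) (.nd (.lf 0) (.lf 0))) (.nd (.nd (.lf 0) (.lf 0)) (.nd (.lf 0) (.lf 0))))) (.nd (.nd (.nd (.nd (.lf 0) (.lf 0)) (.nd (.lf 0) (.lf 0))) (.nd (.nd (.lf 0) (.lf 0)) (.nd (.lf 0) (.lf 0)))) (.nd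 (.nd (.nd (.lf 0) (.lf 0)) (.nd (.lf 0) (.lf 0))) (.nd (.nd (.lf 0) (.lf 0)) (.nd (.lf 0) (.lf 0)))))))) (.nd (.nd (.nd (.nd (.nd (.nd (.nd (.lf 0) (.lf 0)) (.nd (.lf 0) (.lf 0))) (.nd (.nd (.lf 0) (.lf 0)) (.nd (.lf 0) (.lf 0)))) (.nd (.nd (.nd (.lf 0) (.lf 0)) (.nd (.lf 0) (.lf 0))) (.nd (.nd (.lf 44) (.lf 0)) (.nd (.lf 0) (.lf 0))))) (.nd (.nd (.nd (.nd (.lf 0) (.lf 0)) (.nd (.lf 0) (.lf 0))) (.nd (.nd (.lf 0) (.lf 0)) (.nd (.lf 0) (.lf 0)))) (.nd (.nd (.nd (.lf 0) (.lf 0)) (.nd (.lf 0) (.lf 0))) (.nd (.nd (.lf 0) (.lf 0)) (.nd (.lf 0) (.lf 0)))))) (.nd (.nd (.nd (.nd (.nd (.lf 0) (.lf 0)) (.nd (.lf 0) (.lf 0))) (.nd (.nd (.lf 0) (.lf 0)) (.nd (.lf 0) (.lf 0)))) (.nd (.nd (.nd (.lf 0) (.lf 0)) (.nd (.lf 0) (.lf 0))) (.nd (.nd (.lf 0) (.lf 0)) (.nd (.lf 0) (.lf 0))))) (.nd (.nd (.nd (.nd (.lf 0)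 (.lf 0)) (.nd (.lf 0) (.lf 0))) (.nd (.nd (.lf 0) (.lf 0)) (.nd (.lf 0) (.lf 0)))) (.nd (.nd (.nd (.lf 0) (.lf 0)) (.nd (.lf 0) (.lf 0))) (.nd (.nd (.lf 0) (.lf 0)) (.nd (.lf 0) (.lf 0))))))) (.nd (.nd (.nd (.nd (.nd (.nd (.lf 0) (.lf 0)) (.nd (.lf 0) (.lf 0))) (.nd (.nd (.lf 0) (.lf 0)) (.nd (.lf 0) (.lf 0)))) (.nd (.nd (.nd (.lf 0) (.lf 0)) (.nd (.lf 0) (.lf 0))) (.nd (.nd (.lf 0) (.lf 0)) (.nd (.lf 0) (.lf 0))))) (.nd (.nd (.nd (.nd (.lf 0) (.lf 0)) (.nd (.lf 0) (.lf 0))) (.nd (.nd (.lf 0) (.lf 0)) (.nd (.lf 0) (.lf 0)))) (.nd (.nd (.nd (.lf 0) (.lf 0)) (.nd (.lf 0) (.lf 0))) (.nd (.nd (.lf 0) (.lf 0)) (.nd (.lf 0) (.lf 0)))))) (.nd (.nd (.nd (.nd (.nd (.lf 0) (.lf 0)) (.nd (.lf 0) (.lf 0))) (.nd (.nd (.lf 0) (.lf 0)) (.nd (.lf 0) (.lf 0)))) (.nd (.nd (.nd (.lf 72) (.lf 0)) (.nd (.lf 0) (.lf 0)))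 (.nd (.nd (.lf 0) (.lf 0)) (.nd (.lf 0) (.lf 0))))) (.nd (.nd (.nd (.nd (.lf 0) (.lf 0)) (.nd (.lf 0) (.lf 0))) (.nd (.nd (.lf 0) (.lf 0)) (.nd (.lf 0) (.lf 0)))) (.nd (.nd (.nd (.lf 0) (.lf 0)) (.nd (.lf 0) (.lf 0))) (.nd (.nd (.lf 0) (.lf 0)) (.nd (.lf 3) (.lf 0))))))))) (.nd (.nd (.nd (.nd (.nd (.nd (.nd (.nd (.lf 0) (.lf 0)) (.nd (.lf 0) (.lf 0))) (.nd (.nd (.lf 0) (.lf 0)) (.nd (.lf 0) (.lf 0)))) (.nd (.nd (.nd (.lf 0) (.lf 0)) (.nd (.lf 0) (.lf 0))) (.nd (.nd (.lf 0) (.lf 0)) (.nd (.lf 0) (.lf 0))))) (.nd (.nd (.nd (.nd (.lf 0) (.lf 0)) (.nd (.lf 0) (.lf 0))) (.nd (.nd (.lf 0) (.lf 0)) (.nd (.lf 0) (.lf 0)))) (.nd (.nd (.nd (.lf 0) (.lf 0)) (.nd (.lf 0) (.lf 0))) (.nd (.nd (.lf 0) (.lf 0)) (.nd (.lf 0) (.lf 0)))))) (.nd (.nd (.nd (.nd (.nd (.lf 0) (.lf 0)) (.nd (.lf 0) (.lf 0))) (.nd (.nd (.lf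 0) (.lf 0)) (.nd (.lf 0) (.lf 0)))) (.nd (.nd (.nd (.lf 0) (.lf 0)) (.nd (.lf 0) (.lf 0))) (.nd (.nd (.lf 0) (.lf 0)) (.nd (.lf 0) (.lf 0))))) (.nd (.nd (.nd (.nd (.lf 0) (.lf 0)) (.nd (.lf 0) (.lf 0))) (.nd (.nd (.lf 0) (.lf 0)) (.nd (.lf 0) (.lf 0)))) (.nd (.nd (.nd (.lf 0) (.lf 0)) (.nd (.lf 0) (.lf 0))) (.nd (.nd (.lf 0) (.lf 0)) (.nd (.lf 0) (.lf 0))))))) (.nd (.nd (.nd (.nd (.nd (.nd (.lf 0) (.lf 0)) (.nd (.lf 0) (.lf 0))) (.nd (.nd (.lf 0) (.lf 0)) (.nd (.lf 0) (.lf 0)))) (.nd (.nd (.nd (.lf 0) (.lf 0)) (.nd (.lf 0) (.lf 0))) (.nd (.nd (.lf 0) (.lf 0)) (.nd (.lf 0) (.lf 0))))) (.nd (.nd (.nd (.nd (.lf 0) (.lf 0)) (.nd (.lf 0) (.lf 0))) (.nd (.nd (.lf 0) (.lf 0)) (.nd (.lf 0) (.lf 0)))) (.nd (.nd (.nd (.lf 0) (.lf 0)) (.nd (.lf 0) (.lf 0))) (.nd (.nd (.lf 0) (.lf 0)) (.nd (.lf 0) (.lf 0))))))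 (.nd (.nd (.nd (.nd (.nd (.lf 0) (.lf 0)) (.nd (.lf 0) (.lf 0))) (.nd (.nd (.lf 0) (.lf 0)) (.nd (.lf 0) (.lf 0)))) (.nd (.nd (.nd (.lf 0) (.lf 0)) (.nd (.lf 0) (.lf 0))) (.nd (.nd (.lf 0) (.lf 0)) (.nd (.lf 0) (.lf 0))))) (.nd (.nd (.nd (.nd (.lf 0) (.lf 0)) (.nd (.lf 0) (.lf 0))) (.nd (.nd (.lf 0) (.lf 0)) (.nd (.lf 0) (.lf 0)))) (.nd (.nd (.nd (.lf 0) (.lf 0)) (.nd (.lf 0) (.lf 0))) (.nd (.nd (.lf 0) (.lf 0)) (.nd (.lf 0) (.lf 0)))))))) (.nd (.nd (.nd (.nd (.nd (.nd (.nd (.lf 0) (.lf 0)) (.nd (.lf 0) (.lf 0))) (.nd (.nd (.lf 0) (.lf 0)) (.nd (.lf 0) (.lf 0)))) (.nd (.nd (.nd (.lf 0) (.lf 0)) (.nd (.lf 0) (.lf 0))) (.nd (.nd (.lf 0) (.lf 0)) (.nd (.lf 0) (.lf 0))))) (.nd (.nd (.nd (.nd (.lf 0) (.lf 0)) (.nd (.lf 0) (.lf 0))) (.nd (.nd (.lf 0) (.lf 0)) (.nd (.lf 0) (.lf 0)))) (.nd (.nd (.nd (.lf 0)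 (.lf 0)) (.nd (.lf 0) (.lf 0))) (.nd (.nd (.lf 0) (.lf 0)) (.nd (.lf 0) (.lf 0)))))) (.nd (.nd (.nd (.nd (.nd (.lf 0) (.lf 0)) (.nd (.lf 0) (.lf 0))) (.nd (.nd (.lf 0) (.lf 0)) (.nd (.lf 0) (.lf 0)))) (.nd (.nd (.nd (.lf 0) (.lf 0)) (.nd (.lf 0) (.lf 0))) (.nd (.nd (.lf 0) (.lf 0)) (.nd (.lf 0) (.lf 0))))) (.nd (.nd (.nd (.nd (.lf 0) (.lf 0)) (.nd (.lf 0) (.lf 0))) (.nd (.nd (.lf 0) (.lf 0)) (.nd (.lf 0) (.lf 0)))) (.nd (.nd (.nd (.lf 0) (.lf 0)) (.nd (.lf 0) (.lf 0))) (.nd (.nd (.lf 0) (.lf 0)) (.nd (.lf 0) (.lf 0))))))) (.nd (.nd (.nd (.nd (.nd (.nd (.lf 0) (.lf 0)) (.nd (.lf 0) (.lf 0))) (.nd (.nd (.lf 0) (.lf 0)) (.nd (.lf 0) (.lf 0)))) (.nd (.nd (.nd (.lf 0) (.lf 0)) (.nd (.lf 0) (.lf 0))) (.nd (.nd (.lf 0) (.lf 0)) (.nd (.lf 0) (.lf 0))))) (.nd (.nd (.nd (.nd (.lf 0) (.lf 0)) (.nd (.lf 0) (.lf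 0))) (.nd (.nd (.lf 0) (.lf 0)) (.nd (.lf 0) (.lf 0)))) (.nd (.nd (.nd (.lf 0) (.lf 0)) (.nd (.lf 0) (.lf 0))) (.nd (.nd (.lf 0) (.lf 0)) (.nd (.lf 0) (.lf 0)))))) (.nd (.nd (.nd (.nd (.nd (.lf 0) (.lf 0)) (.nd (.lf 0) (.lf 0))) (.nd (.nd (.lf 0) (.lf 0)) (.nd (.lf 0) (.lf 0)))) (.nd (.nd (.nd (.lf 0) (.lf 0)) (.nd (.lf 0) (.lf 0))) (.nd (.nd (.lf 0) (.lf 0)) (.nd (.lf 0) (.lf 0))))) (.nd (.nd (.nd (.nd (.lf 0) (.lf 0)) (.nd (.lf 0) (.lf 0))) (.nd (.nd (.lf 0) (.lf 0)) (.nd (.lf 0) (.lf 0)))) (.nd (.nd (.nd (.lf 0) (.lf 0)) (.nd (.lf 0) (.lf 0))) (.nd (.nd (.lf 0) (.lf 0)) (.nd (.lf 0) (.lf 0))))))))))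

/-- table part -/
def tabT_3 : Tr :=
  .nd (.nd (.nd (.nd (.nd (.nd (.nd (.nd (.nd (.nd (.lf 0) (.lf 0)) (.nd (.lf 0) (.lf 0))) (.nd (.nd (.lf 0) (.lf 0)) (.nd (.lf 0) (.lf 0)))) (.nd (.nd (.nd (.lf 0) (.lf 0)) (.nd (.lf 0) (.lf 0))) (.nd (.nd (.lf 0) (.lf 0)) (.nd (.lf 0) (.lf 0))))) (.nd (.nd (.nd (.nd (.lf 0) (.lf 0)) (.nd (.lf 0) (.lf 0))) (.nd (.nd (.lf 0) (.lf 0)) (.nd (.lf 0) (.lf 0)))) (.nd (.nd (.nd (.lf 0) (.lf 0)) (.nd (.lf 0) (.lf 0))) (.nd (.nd (.lf 0) (.lf 0)) (.nd (.lf 0) (.lf 0)))))) (.nd (.nd (.nd (.nd (.nd (.lf 0) (.lf 0)) (.nd (.lf 0) (.lf 0))) (.nd (.nd (.lf 0) (.lf 0)) (.nd (.lf 0) (.lf 0)))) (.nd (.nd (.nd (.lf 0) (.lf 0)) (.nd (.lf 0) (.lf 0))) (.nd (.nd (.lf 0) (.lf 0)) (.nd (.lf 0) (.lf 0))))) (.nd (.nd (.nd (.nd (.lf 0) (.lf 0)) (.nd (.lf 0) (.lf 0))) (.nd (.nd (.lf 0) (.lf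 0)) (.nd (.lf 0) (.lf 0)))) (.nd (.nd (.nd (.lf 0) (.lf 0)) (.nd (.lf 0) (.lf 0))) (.nd (.nd (.lf 0) (.lf 0)) (.nd (.lf 0) (.lf 0))))))) (.nd (.nd (.nd (.nd (.nd (.nd (.lf 0) (.lf 0)) (.nd (.lf 0) (.lf 0))) (.nd (.nd (.lf 0) (.lf 0)) (.nd (.lf 0) (.lf 0)))) (.nd (.nd (.nd (.lf 0) (.lf 0)) (.nd (.lf 0) (.lf 0))) (.nd (.nd (.lf 0) (.lf 0)) (.nd (.lf 0) (.lf 0))))) (.nd (.nd (.nd (.nd (.lf 0) (.lf 0)) (.nd (.lf 0) (.lf 0))) (.nd (.nd (.lf 0) (.lf 0)) (.nd (.lf 0) (.lf 0)))) (.nd (.nd (.nd (.lf 0) (.lf 0)) (.nd (.lf 0) (.lf 0))) (.nd (.nd (.lf 0) (.lf 0)) (.nd (.lf 0) (.lf 0)))))) (.nd (.nd (.nd (.nd (.nd (.lf 0) (.lf 0)) (.nd (.lf 0) (.lf 0))) (.nd (.nd (.lf 0) (.lf 0)) (.nd (.lf 0) (.lf 0)))) (.nd (.nd (.nd (.lf 0) (.lf 0)) (.nd (.lf 0) (.lf 0))) (.nd (.nd (.lf 0) (.lf 0)) (.nd (.lf 0) (.lf 0))))) (.nd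 (.nd (.nd (.nd (.lf 0) (.lf 0)) (.nd (.lf 0) (.lf 0))) (.nd (.nd (.lf 0) (.lf 0)) (.nd (.lf 0) (.lf 0)))) (.nd (.nd (.nd (.lf 0) (.lf 0)) (.nd (.lf 0) (.lf 0))) (.nd (.nd (.lf 0) (.lf 0)) (.nd (.lf 0) (.lf 0)))))))) (.nd (.nd (.nd (.nd (.nd (.nd (.nd (.lf 0) (.lf 0)) (.nd (.lf 0) (.lf 0))) (.nd (.nd (.lf 0) (.lf 0)) (.nd (.lf 0) (.lf 0)))) (.nd (.nd (.nd (.lf 0) (.lf 0)) (.nd (.lf 0) (.lf 0))) (.nd (.nd (.lf 0) (.lf 0)) (.nd (.lf 0) (.lf 0))))) (.nd (.nd (.nd (.nd (.lf 0) (.lf 0)) (.nd (.lf 0) (.lf 0))) (.nd (.nd (.lf 0) (.lf 0)) (.nd (.lf 0) (.lf 0)))) (.nd (.nd (.nd (.lf 0) (.lf 0)) (.nd (.lf 0) (.lf 0))) (.nd (.nd (.lf 0) (.lf 0)) (.nd (.lf 0) (.lf 0)))))) (.nd (.nd (.nd (.nd (.nd (.lf 0) (.lf 0)) (.nd (.lf 0) (.lf 0))) (.nd (.nd (.lf 0) (.lf 0)) (.nd (.lf 0) (.lf 0)))) (.nd (.nd (.nd (.lf 0) (.lf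 0)) (.nd (.lf 0) (.lf 0))) (.nd (.nd (.lf 0) (.lf 0)) (.nd (.lf 0) (.lf 0))))) (.nd (.nd (.nd (.nd (.lf 0) (.lf 0)) (.nd (.lf 0) (.lf 0))) (.nd (.nd (.lf 0) (.lf 0)) (.nd (.lf 0) (.lf 0)))) (.nd (.nd (.nd (.lf 0) (.lf 0)) (.nd (.lf 0) (.lf 0))) (.nd (.nd (.lf 0) (.lf 0)) (.nd (.lf 0) (.lf 0))))))) (.nd (.nd (.nd (.nd (.nd (.nd (.lf 0) (.lf 0)) (.nd (.lf 0) (.lf 0))) (.nd (.nd (.lf 0) (.lf 0)) (.nd (.lf 0) (.lf 0)))) (.nd (.nd (.nd (.lf 0) (.lf 0)) (.nd (.lf 0) (.lf 0))) (.nd (.nd (.lf 0) (.lf 0)) (.nd (.lf 0) (.lf 0))))) (.nd (.nd (.nd (.nd (.lf 0) (.lf 0)) (.nd (.lf 0) (.lf 0))) (.nd (.nd (.lf 0) (.lf 0)) (.nd (.lf 0) (.lf 0)))) (.nd (.nd (.nd (.lf 0) (.lf 0)) (.nd (.lf 0) (.lf 0))) (.nd (.nd (.lf 0) (.lf 0)) (.nd (.lf 0) (.lf 0)))))) (.nd (.nd (.nd (.nd (.nd (.lf 0) (.lf 0)) (.nd (.lf 0) (.lf 0)))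 (.nd (.nd (.lf 0) (.lf 0)) (.nd (.lf 0) (.lf 0)))) (.nd (.nd (.nd (.lf 0) (.lf 0)) (.nd (.lf 0) (.lf 0))) (.nd (.nd (.lf 0) (.lf 0)) (.nd (.lf 0) (.lf 0))))) (.nd (.nd (.nd (.nd (.lf 0) (.lf 0)) (.nd (.lf 0) (.lf 0))) (.nd (.nd (.lf 0) (.lf 0)) (.nd (.lf 0) (.lf 0)))) (.nd (.nd (.nd (.lf 0) (.lf 0)) (.nd (.lf 0) (.lf 0))) (.nd (.nd (.lf 0) (.lf 0)) (.nd (.lf 0) (.lf 0))))))))) (.nd (.nd (.nd (.nd (.nd (.nd (.nd (.nd (.lf 0) (.lf 0)) (.nd (.lf 0) (.lf 0))) (.nd (.nd (.lf 0) (.lf 0)) (.nd (.lf 0) (.lf 0)))) (.nd (.nd (.nd (.lf 0) (.lf 0)) (.nd (.lf 0) (.lf 0))) (.nd (.nd (.lf 0) (.lf 0)) (.nd (.lf 0) (.lf 0))))) (.nd (.nd (.nd (.nd (.lf 0) (.lf 0)) (.nd (.lf 0) (.lf 0))) (.nd (.nd (.lf 0) (.lf 0)) (.nd (.lf 0) (.lf 0)))) (.nd (.nd (.nd (.lf 0) (.lf 0)) (.nd (.lf 0) (.lf 0))) (.nd (.nd (.lf 0) (.lf 0))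 (.nd (.lf 0) (.lf 0)))))) (.nd (.nd (.nd (.nd (.nd (.lf 0) (.lf 0)) (.nd (.lf 0) (.lf 0))) (.nd (.nd (.lf 0) (.lf 0)) (.nd (.lf 0) (.lf 0)))) (.nd (.nd (.nd (.lf 0) (.lf 0)) (.nd (.lf 0) (.lf 0))) (.nd (.nd (.lf 0) (.lf 0)) (.nd (.lf 0) (.lf 0))))) (.nd (.nd (.nd (.nd (.lf 0) (.lf 0)) (.nd (.lf 0) (.lf 0))) (.nd (.nd (.lf 0) (.lf 0)) (.nd (.lf 0) (.lf 0)))) (.nd (.nd (.nd (.lf 0) (.lf 0)) (.nd (.lf 0) (.lf 0))) (.nd (.nd (.lf 0) (.lf 0)) (.nd (.lf 0) (.lf 0))))))) (.nd (.nd (.nd (.nd (.nd (.nd (.lf 0) (.lf 0)) (.nd (.lf 0) (.lf 0))) (.nd (.nd (.lf 0) (.lf 0)) (.nd (.lf 0) (.lf 0)))) (.nd (.nd (.nd (.lf 0) (.lf 0)) (.nd (.lf 0) (.lf 0))) (.nd (.nd (.lf 0) (.lf 0)) (.nd (.lf 0) (.lf 0))))) (.nd (.nd (.nd (.nd (.lf 0) (.lf 0)) (.nd (.lf 0) (.lf 0))) (.nd (.nd (.lf 0) (.lf 0)) (.nd (.lf 0) (.lf 0)))) (.nd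 (.nd (.nd (.lf 0) (.lf 0)) (.nd (.lf 0) (.lf 0))) (.nd (.nd (.lf 0) (.lf 0)) (.nd (.lf 0) (.lf 0)))))) (.nd (.nd (.nd (.nd (.nd (.lf 0) (.lf 0)) (.nd (.lf 0) (.lf 0))) (.nd (.nd (.lf 0) (.lf 0)) (.nd (.lf 0) (.lf 0)))) (.nd (.nd (.nd (.lf 0) (.lf 0)) (.nd (.lf 0) (.lf 0))) (.nd (.nd (.lf 0) (.lf 0)) (.nd (.lf 0) (.lf 0))))) (.nd (.nd (.nd (.nd (.lf 0) (.lf 0)) (.nd (.lf 0) (.lf 0))) (.nd (.nd (.lf 0) (.lf 0)) (.nd (.lf 0) (.lf 0)))) (.nd (.nd (.nd (.lf 0) (.lf 0)) (.nd (.lf 0) (.lf 0))) (.nd (.nd (.lf 0) (.lf 0)) (.nd (.lf 0) (.lf 0)))))))) (.nd (.nd (.nd (.nd (.nd (.nd (.nd (.lf 0) (.lf 0)) (.nd (.lf 0) (.lf 0))) (.nd (.nd (.lf 0) (.lf 0)) (.nd (.lf 0) (.lf 0)))) (.nd (.nd (.nd (.lf 0) (.lf 0)) (.nd (.lf 0) (.lf 0))) (.nd (.nd (.lf 0) (.lf 0)) (.nd (.lf 0) (.lf 0))))) (.nd (.nd (.nd (.nd (.lf 0) (.lf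 0)) (.nd (.lf 48) (.lf 0))) (.nd (.nd (.lf 0) (.lf 0)) (.nd (.lf 0) (.lf 0)))) (.nd (.nd (.nd (.lf 0) (.lf 0)) (.nd (.lf 0) (.lf 0))) (.nd (.nd (.lf 0) (.lf 0)) (.nd (.lf 0) (.lf 0)))))) (.nd (.nd (.nd (.nd (.nd (.lf 0) (.lf 0)) (.nd (.lf 0) (.lf 0))) (.nd (.nd (.lf 0) (.lf 0)) (.nd (.lf 0) (.lf 0)))) (.nd (.nd (.nd (.lf 0) (.lf 0)) (.nd (.lf 0) (.lf 0))) (.nd (.nd (.lf 0) (.lf 0)) (.nd (.lf 0) (.lf 0))))) (.nd (.nd (.nd (.nd (.lf 0) (.lf 0)) (.nd (.lf 0) (.lf 0))) (.nd (.nd (.lf 0) (.lf 0)) (.nd (.lf 0) (.lf 0)))) (.nd (.nd (.nd (.lf 0) (.lf 0)) (.nd (.lf 0) (.lf 0))) (.nd (.nd (.lf 0) (.lf 0)) (.nd (.lf 0) (.lf 0))))))) (.nd (.nd (.nd (.nd (.nd (.nd (.lf 0) (.lf 0)) (.nd (.lf 0) (.lf 0))) (.nd (.nd (.lf 0) (.lf 0)) (.nd (.lf 0) (.lf 0)))) (.nd (.nd (.nd (.lf 0) (.lf 0)) (.nd (.lf 0) (.lf 0))) (.nd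 (.nd (.lf 0) (.lf 0)) (.nd (.lf 0) (.lf 0))))) (.nd (.nd (.nd (.nd (.lf 0) (.lf 0)) (.nd (.lf 0) (.lf 0))) (.nd (.nd (.lf 0) (.lf 0)) (.nd (.lf 0) (.lf 0)))) (.nd (.nd (.nd (.lf 0) (.lf 0)) (.nd (.lf 0) (.lf 0))) (.nd (.nd (.lf 0) (.lf 0)) (.nd (.lf 0) (.lf 0)))))) (.nd (.nd (.nd (.nd (.nd (.lf 0) (.lf 0)) (.nd (.lf 0) (.lf 0))) (.nd (.nd (.lf 0) (.lf 0)) (.nd (.lf 0) (.lf 0)))) (.nd (.nd (.nd (.lf 0) (.lf 0)) (.nd (.lf 0) (.lf 0))) (.nd (.nd (.lf 0) (.lf 0)) (.nd (.lf 0) (.lf 0))))) (.nd (.nd (.nd (.nd (.lf 0) (.lf 0)) (.nd (.lf 0) (.lf 0))) (.nd (.nd (.lf 0) (.lf 0)) (.nd (.lf 0) (.lf 0)))) (.nd (.nd (.nd (.lf 0) (.lf 0)) (.nd (.lf 0) (.lf 0))) (.nd (.nd (.lf 0) (.lf 0)) (.nd (.lf 0) (.lf 0)))))))))) (.nd (.nd (.nd (.nd (.nd (.nd (.nd (.nd (.nd (.lf 0) (.lf 0)) (.nd (.lf 0) (.lf 0))) (.nd (.nd (.lf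 0) (.lf 0)) (.nd (.lf 0) (.lf 0)))) (.nd (.nd (.nd (.lf 0) (.lf 0)) (.nd (.lf 0) (.lf 0))) (.nd (.nd (.lf 0) (.lf 0)) (.nd (.lf 0) (.lf 0))))) (.nd (.nd (.nd (.nd (.lf 0) (.lf 0)) (.nd (.lf 0) (.lf 0))) (.nd (.nd (.lf 0) (.lf 0)) (.nd (.lf 0) (.lf 0)))) (.nd (.nd (.nd (.lf 0) (.lf 0)) (.nd (.lf 0) (.lf 0))) (.nd (.nd (.lf 0) (.lf 0)) (.nd (.lf 0) (.lf 0)))))) (.nd (.nd (.nd (.nd (.nd (.lf 0) (.lf 0)) (.nd (.lf 0) (.lf 0))) (.nd (.nd (.lf 0) (.lf 0)) (.nd (.lf 0) (.lf 0)))) (.nd (.nd (.nd (.lf 0) (.lf 0)) (.nd (.lf 0) (.lf 0))) (.nd (.nd (.lf 0) (.lf 0)) (.nd (.lf 0) (.lf 0))))) (.nd (.nd (.nd (.nd (.lf 0) (.lf 0)) (.nd (.lf 0) (.lf 0))) (.nd (.nd (.lf 0) (.lf 0)) (.nd (.lf 0) (.lf 0)))) (.nd (.nd (.nd (.lf 0) (.lf 0)) (.nd (.lf 0) (.lf 0))) (.nd (.nd (.lf 0) (.lf 0)) (.nd (.lf 0) (.lf 0))))))) (.nd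 (.nd (.nd (.nd (.nd (.nd (.lf 0) (.lf 0)) (.nd (.lf 5) (.lf 0))) (.nd (.nd (.lf 0) (.lf 0)) (.nd (.lf 0) (.lf 0)))) (.nd (.nd (.nd (.lf 0) (.lf 0)) (.nd (.lf 0) (.lf 0))) (.nd (.nd (.lf 0) (.lf 0)) (.nd (.lf 0) (.lf 0))))) (.nd (.nd (.nd (.nd (.lf 0) (.lf 0)) (.nd (.lf 0) (.lf 0))) (.nd (.nd (.lf 0) (.lf 0)) (.nd (.lf 0) (.lf 0)))) (.nd (.nd (.nd (.lf 0) (.lf 0)) (.nd (.lf 0) (.lf 0))) (.nd (.nd (.lf 0) (.lf 0)) (.nd (.lf 0) (.lf 0)))))) (.nd (.nd (.nd (.nd (.nd (.lf 0) (.lf 0)) (.nd (.lf 0) (.lf 0))) (.nd (.nd (.lf 0) (.lf 0)) (.nd (.lf 0) (.lf 0)))) (.nd (.nd (.nd (.lf 0) (.lf 0)) (.nd (.lf 0) (.lf 0))) (.nd (.nd (.lf 0) (.lf 0)) (.nd (.lf 0) (.lf 0))))) (.nd (.nd (.nd (.nd (.lf 0) (.lf 0)) (.nd (.lf 0) (.lf 0))) (.nd (.nd (.lf 0) (.lf 0)) (.nd (.lf 0) (.lf 0)))) (.nd (.nd (.nd (.lf 0) (.lf 0)) (.nd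 (.lf 0) (.lf 0))) (.nd (.nd (.lf 0) (.lf 0)) (.nd (.lf 0) (.lf 0)))))))) (.nd (.nd (.nd (.nd (.nd (.nd (.nd (.lf 0) (.lf 0)) (.nd (.lf 0) (.lf 0))) (.nd (.nd (.lf 0) (.lf 0)) (.nd (.lf 0) (.lf 0)))) (.nd (.nd (.nd (.lf 0) (.lf 0)) (.nd (.lf 0) (.lf 0))) (.nd (.nd (.lf 0) (.lf 0)) (.nd (.lf 0) (.lf 0))))) (.nd (.nd (.nd (.nd (.lf 0) (.lf 0)) (.nd (.lf 0) (.lf 0))) (.nd (.nd (.lf 0) (.lf 0)) (.nd (.lf 0) (.lf 0)))) (.nd (.nd (.nd (.lf 0) (.lf 0)) (.nd (.lf 0) (.lf 0))) (.nd (.nd (.lf 0) (.lf 0)) (.nd (.lf 0) (.lf 0)))))) (.nd (.nd (.nd (.nd (.nd (.lf 0) (.lf 0)) (.nd (.lf 0) (.lf 0))) (.nd (.nd (.lf 0) (.lf 0)) (.nd (.lf 0) (.lf 0)))) (.nd (.nd (.nd (.lf 0) (.lf 0)) (.nd (.lf 0) (.lf 0))) (.nd (.nd (.lf 0) (.lf 0)) (.nd (.lf 0) (.lf 0))))) (.nd (.nd (.nd (.nd (.lf 0) (.lf 0)) (.nd (.lf 0) (.lf 0))) (.nd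 (.nd (.lf 0) (.lf 0)) (.nd (.lf 0) (.lf 0)))) (.nd (.nd (.nd (.lf 0) (.lf 0)) (.nd (.lf 0) (.lf 0))) (.nd (.nd (.lf 0) (.lf 0)) (.nd (.lf 0) (.lf 0))))))) (.nd (.nd (.nd (.nd (.nd (.nd (.lf 0) (.lf 0)) (.nd (.lf 0) (.lf 0))) (.nd (.nd (.lf 0) (.lf 0)) (.nd (.lf 0) (.lf 0)))) (.nd (.nd (.nd (.lf 0) (.lf 0)) (.nd (.lf 0) (.lf 0))) (.nd (.nd (.lf 0) (.lf 0)) (.nd (.lf 0) (.lf 0))))) (.nd (.nd (.nd (.nd (.lf 0) (.lf 0)) (.nd (.lf 0) (.lf 0))) (.nd (.nd (.lf 0) (.lf 0)) (.nd (.lf 0) (.lf 0)))) (.nd (.nd (.nd (.lf 0) (.lf 0)) (.nd (.lf 0) (.lf 0))) (.nd (.nd (.lf 0) (.lf 0)) (.nd (.lf 0) (.lf 0)))))) (.nd (.nd (.nd (.nd (.nd (.lf 0) (.lf 0)) (.nd (.lf 0) (.lf 0))) (.nd (.nd (.lf 0) (.lf 0)) (.nd (.lf 0) (.lf 0)))) (.nd (.nd (.nd (.lf 0) (.lf 0)) (.nd (.lf 0) (.lf 0))) (.nd (.nd (.lf 0) (.lf 0)) (.nd (.lf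 0) (.lf 0))))) (.nd (.nd (.nd (.nd (.lf 0) (.lf 0)) (.nd (.lf 0) (.lf 0))) (.nd (.nd (.lf 22) (.lf 0)) (.nd (.lf 0) (.lf 0)))) (.nd (.nd (.nd (.lf 0) (.lf 0)) (.nd (.lf 0) (.lf 0))) (.nd (.nd (.lf 77) (.lf 0)) (.nd (.lf 0) (.lf 0))))))))) (.nd (.nd (.nd (.nd (.nd (.nd (.nd (.nd (.lf 0) (.lf 0)) (.nd (.lf 0) (.lf 0))) (.nd (.nd (.lf 0) (.lf 0)) (.nd (.lf 0) (.lf 0)))) (.nd (.nd (.nd (.lf 0) (.lf 0)) (.nd (.lf 0) (.lf 0))) (.nd (.nd (.lf 0) (.lf 0)) (.nd (.lf 0) (.lf 0))))) (.nd (.nd (.nd (.nd (.lf 0) (.lf 0)) (.nd (.lf 0) (.lf 0))) (.nd (.nd (.lf 0) (.lf 0)) (.nd (.lf 0) (.lf 0)))) (.nd (.nd (.nd (.lf 0) (.lf 0)) (.nd (.lf 0) (.lf 0))) (.nd (.nd (.lf 0) (.lf 0)) (.nd (.lf 0) (.lf 0)))))) (.nd (.nd (.nd (.nd (.nd (.lf 0) (.lf 0)) (.nd (.lf 0) (.lf 0))) (.nd (.nd (.lf 0) (.lf 0)) (.nd (.lf 0) (.lf 0))))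 (.nd (.nd (.nd (.lf 0) (.lf 0)) (.nd (.lf 95) (.lf 0))) (.nd (.nd (.lf 0) (.lf 0)) (.nd (.lf 0) (.lf 0))))) (.nd (.nd (.nd (.nd (.lf 0) (.lf 0)) (.nd (.lf 0) (.lf 0))) (.nd (.nd (.lf 0) (.lf 0)) (.nd (.lf 0) (.lf 0)))) (.nd (.nd (.nd (.lf 0) (.lf 0)) (.nd (.lf 0) (.lf 0))) (.nd (.nd (.lf 0) (.lf 0)) (.nd (.lf 0) (.lf 0))))))) (.nd (.nd (.nd (.nd (.nd (.nd (.lf 0) (.lf 0)) (.nd (.lf 0) (.lf 0))) (.nd (.nd (.lf 0) (.lf 0)) (.nd (.lf 0) (.lf 0)))) (.nd (.nd (.nd (.lf 0) (.lf 0)) (.nd (.lf 0) (.lf 0))) (.nd (.nd (.lf 0) (.lf 0)) (.nd (.lf 0) (.lf 0))))) (.nd (.nd (.nd (.nd (.lf 0) (.lf 0)) (.nd (.lf 0) (.lf 0))) (.nd (.nd (.lf 0) (.lf 0)) (.nd (.lf 0) (.lf 0)))) (.nd (.nd (.nd (.lf 0) (.lf 0)) (.nd (.lf 0) (.lf 0))) (.nd (.nd (.lf 0) (.lf 0)) (.nd (.lf 0) (.lf 0)))))) (.nd (.nd (.nd (.nd (.nd (.lf 0) (.lf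 0)) (.nd (.lf 0) (.lf 0))) (.nd (.nd (.lf 0) (.lf 0)) (.nd (.lf 0) (.lf 0)))) (.nd (.nd (.nd (.lf 0) (.lf 0)) (.nd (.lf 0) (.lf 0))) (.nd (.nd (.lf 0) (.lf 0)) (.nd (.lf 0) (.lf 0))))) (.nd (.nd (.nd (.nd (.lf 0) (.lf 0)) (.nd (.lf 0) (.lf 0))) (.nd (.nd (.lf 0) (.lf 0)) (.nd (.lf 0) (.lf 0)))) (.nd (.nd (.nd (.lf 0) (.lf 0)) (.nd (.lf 0) (.lf 0))) (.nd (.nd (.lf 0) (.lf 0)) (.nd (.lf 0) (.lf 0)))))))) (.nd (.nd (.nd (.nd (.nd (.nd (.nd (.lf 0) (.lf 0)) (.nd (.lf 0) (.lf 0))) (.nd (.nd (.lf 0) (.lf 0)) (.nd (.lf 0) (.lf 0)))) (.nd (.nd (.nd (.lf 0) (.lf 0)) (.nd (.lf 0) (.lf 0))) (.nd (.nd (.lf 0) (.lf 0)) (.nd (.lf 0) (.lf 0))))) (.nd (.nd (.nd (.nd (.lf 0) (.lf 0)) (.nd (.lf 0) (.lf 0))) (.nd (.nd (.lf 0) (.lf 0)) (.nd (.lf 0) (.lf 0)))) (.nd (.nd (.nd (.lf 0) (.lf 0)) (.nd (.lf 0) (.lf 0))) (.nd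 (.nd (.lf 0) (.lf 0)) (.nd (.lf 0) (.lf 0)))))) (.nd (.nd (.nd (.nd (.nd (.lf 0) (.lf 0)) (.nd (.lf 0) (.lf 0))) (.nd (.nd (.lf 0) (.lf 0)) (.nd (.lf 0) (.lf 0)))) (.nd (.nd (.nd (.lf 0) (.lf 0)) (.nd (.lf 0) (.lf 0))) (.nd (.nd (.lf 0) (.lf 0)) (.nd (.lf 0) (.lf 0))))) (.nd (.nd (.nd (.nd (.lf 0) (.lf 0)) (.nd (.lf 0) (.lf 0))) (.nd (.nd (.lf 0) (.lf 0)) (.nd (.lf 0) (.lf 0)))) (.nd (.nd (.nd (.lf 0) (.lf 0)) (.nd (.lf 0) (.lf 0))) (.nd (.nd (.lf 0) (.lf 0)) (.nd (.lf 0) (.lf 0))))))) (.nd (.nd (.nd (.nd (.nd (.nd (.lf 0) (.lf 0)) (.nd (.lf 0) (.lf 0))) (.nd (.nd (.lf 0) (.lf 0)) (.nd (.lf 0) (.lf 0)))) (.nd (.nd (.nd (.lf 0) (.lf 0)) (.nd (.lf 0) (.lf 0))) (.nd (.nd (.lf 0) (.lf 0)) (.nd (.lf 0) (.lf 0))))) (.nd (.nd (.nd (.nd (.lf 0) (.lf 0)) (.nd (.lf 0) (.lf 0))) (.nd (.nd (.lf 0) (.lf 0)) (.nd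 (.lf 0) (.lf 0)))) (.nd (.nd (.nd (.lf 0) (.lf 0)) (.nd (.lf 0) (.lf 0))) (.nd (.nd (.lf 0) (.lf 0)) (.nd (.lf 0) (.lf 0)))))) (.nd (.nd (.nd (.nd (.nd (.lf 0) (.lf 0)) (.nd (.lf 0) (.lf 0))) (.nd (.nd (.lf 0) (.lf 0)) (.nd (.lf 0) (.lf 0)))) (.nd (.nd (.nd (.lf 0) (.lf 0)) (.nd (.lf 0) (.lf 0))) (.nd (.nd (.lf 0) (.lf 0)) (.nd (.lf 0) (.lf 0))))) (.nd (.nd (.nd (.nd (.lf 0) (.lf 0)) (.nd (.lf 0) (.lf 0))) (.nd (.nd (.lf 0) (.lf 0)) (.nd (.lf 0) (.lf 0)))) (.nd (.nd (.nd (.lf 0) (.lf 0)) (.nd (.lf 0) (.lf 0))) (.nd (.nd (.lf 0) (.lf 0)) (.nd (.lf 0) (.lf 0))))))))))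

/-- table part -/
def tabT_4 : Tr :=
  .nd (.nd (.nd (.nd (.nd (.nd (.nd (.nd (.nd (.nd (.lf 0) (.lf 0)) (.nd (.lf 0) (.lf 0))) (.nd (.nd (.lf 0) (.lf 0)) (.nd (.lf 0) (.lf 0)))) (.nd (.nd (.nd (.lf 0) (.lf 0)) (.nd (.lf 0) (.lf 0))) (.nd (.nd (.lf 0) (.lf 0)) (.nd (.lf 0) (.lf 0))))) (.nd (.nd (.nd (.nd (.lf 0) (.lf 0)) (.nd (.lf 0) (.lf 0))) (.nd (.nd (.lf 0) (.lf 0)) (.nd (.lf 0) (.lf 0)))) (.nd (.nd (.nd (.lf 0) (.lf 0)) (.nd (.lf 0) (.lf 0))) (.nd (.nd (.lf 0) (.lf 0)) (.nd (.lf 0) (.lf 0)))))) (.nd (.nd (.nd (.nd (.nd (.lf 0) (.lf 0)) (.nd (.lf 0) (.lf 0))) (.nd (.nd (.lf 0) (.lf 0)) (.nd (.lf 0) (.lf 0)))) (.nd (.nd (.nd (.lf 0) (.lf 0)) (.nd (.lf 0) (.lf 0))) (.nd (.nd (.lf 0) (.lf 0)) (.nd (.lf 0) (.lf 0))))) (.nd (.nd (.nd (.nd (.lf 0) (.lf 0)) (.nd (.lf 0) (.lf 0))) (.nd (.nd (.lf 0) (.lf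 0)) (.nd (.lf 0) (.lf 0)))) (.nd (.nd (.nd (.lf 0) (.lf 0)) (.nd (.lf 0) (.lf 0))) (.nd (.nd (.lf 0) (.lf 0)) (.nd (.lf 0) (.lf 0))))))) (.nd (.nd (.nd (.nd (.nd (.nd (.lf 0) (.lf 0)) (.nd (.lf 0) (.lf 0))) (.nd (.nd (.lf 0) (.lf 0)) (.nd (.lf 0) (.lf 0)))) (.nd (.nd (.nd (.lf 0) (.lf 0)) (.nd (.lf 0) (.lf 0))) (.nd (.nd (.lf 0) (.lf 0)) (.nd (.lf 0) (.lf 0))))) (.nd (.nd (.nd (.nd (.lf 0) (.lf 0)) (.nd (.lf 0) (.lf 0))) (.nd (.nd (.lf 0) (.lf 0)) (.nd (.lf 0) (.lf 0)))) (.nd (.nd (.nd (.lf 0) (.lf 0)) (.nd (.lf 0) (.lf 0))) (.nd (.nd (.lf 0) (.lf 0)) (.nd (.lf 0) (.lf 0)))))) (.nd (.nd (.nd (.nd (.nd (.lf 0) (.lf 0)) (.nd (.lf 0) (.lf 0))) (.nd (.nd (.lf 0) (.lf 0)) (.nd (.lf 0) (.lf 0)))) (.nd (.nd (.nd (.lf 0) (.lf 0)) (.nd (.lf 0) (.lf 0))) (.nd (.nd (.lf 0) (.lf 0)) (.nd (.lf 0) (.lf 0))))) (.nd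 (.nd (.nd (.nd (.lf 0) (.lf 0)) (.nd (.lf 0) (.lf 0))) (.nd (.nd (.lf 0) (.lf 0)) (.nd (.lf 0) (.lf 0)))) (.nd (.nd (.nd (.lf 0) (.lf 0)) (.nd (.lf 0) (.lf 0))) (.nd (.nd (.lf 0) (.lf 0)) (.nd (.lf 0) (.lf 0)))))))) (.nd (.nd (.nd (.nd (.nd (.nd (.nd (.lf 0) (.lf 0)) (.nd (.lf 0) (.lf 0))) (.nd (.nd (.lf 0) (.lf 0)) (.nd (.lf 0) (.lf 0)))) (.nd (.nd (.nd (.lf 0) (.lf 0)) (.nd (.lf 0) (.lf 0))) (.nd (.nd (.lf 0) (.lf 0)) (.nd (.lf 0) (.lf 0))))) (.nd (.nd (.nd (.nd (.lf 0) (.lf 0)) (.nd (.lf 0) (.lf 0))) (.nd (.nd (.lf 0) (.lf 0)) (.nd (.lf 0) (.lf 0)))) (.nd (.nd (.nd (.lf 0) (.lf 0)) (.nd (.lf 0) (.lf 0))) (.nd (.nd (.lf 0) (.lf 0)) (.nd (.lf 0) (.lf 0)))))) (.nd (.nd (.nd (.nd (.nd (.lf 0) (.lf 0)) (.nd (.lf 0) (.lf 0))) (.nd (.nd (.lf 0) (.lf 0)) (.nd (.lf 0) (.lf 0)))) (.nd (.nd (.nd (.lf 0) (.lf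 0)) (.nd (.lf 0) (.lf 0))) (.nd (.nd (.lf 0) (.lf 0)) (.nd (.lf 0) (.lf 0))))) (.nd (.nd (.nd (.nd (.lf 0) (.lf 0)) (.nd (.lf 0) (.lf 0))) (.nd (.nd (.lf 0) (.lf 0)) (.nd (.lf 0) (.lf 0)))) (.nd (.nd (.nd (.lf 0) (.lf 0)) (.nd (.lf 0) (.lf 0))) (.nd (.nd (.lf 58) (.lf 0)) (.nd (.lf 0) (.lf 0))))))) (.nd (.nd (.nd (.nd (.nd (.nd (.lf 0) (.lf 0)) (.nd (.lf 0) (.lf 0))) (.nd (.nd (.lf 0) (.lf 0)) (.nd (.lf 0) (.lf 0)))) (.nd (.nd (.nd (.lf 0) (.lf 0)) (.nd (.lf 0) (.lf 0))) (.nd (.nd (.lf 0) (.lf 0)) (.nd (.lf 0) (.lf 0))))) (.nd (.nd (.nd (.nd (.lf 0) (.lf 0)) (.nd (.lf 0) (.lf 0))) (.nd (.nd (.lf 0) (.lf 0)) (.nd (.lf 0) (.lf 0)))) (.nd (.nd (.nd (.lf 0) (.lf 0)) (.nd (.lf 0) (.lf 0))) (.nd (.nd (.lf 0) (.lf 0)) (.nd (.lf 0) (.lf 0)))))) (.nd (.nd (.nd (.nd (.nd (.lf 0) (.lf 0)) (.nd (.lf 0) (.lf 0)))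 (.nd (.nd (.lf 0) (.lf 0)) (.nd (.lf 0) (.lf 0)))) (.nd (.nd (.nd (.lf 0) (.lf 0)) (.nd (.lf 0) (.lf 0))) (.nd (.nd (.lf 0) (.lf 0)) (.nd (.lf 0) (.lf 0))))) (.nd (.nd (.nd (.nd (.lf 0) (.lf 0)) (.nd (.lf 0) (.lf 0))) (.nd (.nd (.lf 0) (.lf 0)) (.nd (.lf 0) (.lf 0)))) (.nd (.nd (.nd (.lf 0) (.lf 0)) (.nd (.lf 0) (.lf 0))) (.nd (.nd (.lf 0) (.lf 0)) (.nd (.lf 0) (.lf 0))))))))) (.nd (.nd (.nd (.nd (.nd (.nd (.nd (.nd (.lf 0) (.lf 0)) (.nd (.lf 0) (.lf 0))) (.nd (.nd (.lf 0) (.lf 0)) (.nd (.lf 0) (.lf 0)))) (.nd (.nd (.nd (.lf 0) (.lf 0)) (.nd (.lf 0) (.lf 0))) (.nd (.nd (.lf 0) (.lf 0)) (.nd (.lf 0) (.lf 0))))) (.nd (.nd (.nd (.nd (.lf 0) (.lf 0)) (.nd (.lf 0) (.lf 0))) (.nd (.nd (.lf 0) (.lf 0)) (.nd (.lf 0) (.lf 0)))) (.nd (.nd (.nd (.lf 0) (.lf 0)) (.nd (.lf 0) (.lf 0))) (.nd (.nd (.lf 0) (.lf 0))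 (.nd (.lf 0) (.lf 0)))))) (.nd (.nd (.nd (.nd (.nd (.lf 0) (.lf 0)) (.nd (.lf 0) (.lf 0))) (.nd (.nd (.lf 0) (.lf 0)) (.nd (.lf 0) (.lf 0)))) (.nd (.nd (.nd (.lf 0) (.lf 0)) (.nd (.lf 49) (.lf 0))) (.nd (.nd (.lf 0) (.lf 0)) (.nd (.lf 0) (.lf 0))))) (.nd (.nd (.nd (.nd (.lf 0) (.lf 0)) (.nd (.lf 0) (.lf 0))) (.nd (.nd (.lf 0) (.lf 0)) (.nd (.lf 0) (.lf 0)))) (.nd (.nd (.nd (.lf 0) (.lf 0)) (.nd (.lf 0) (.lf 0))) (.nd (.nd (.lf 0) (.lf 0)) (.nd (.lf 0) (.lf 0))))))) (.nd (.nd (.nd (.nd (.nd (.nd (.lf 0) (.lf 0)) (.nd (.lf 0) (.lf 0))) (.nd (.nd (.lf 0) (.lf 0)) (.nd (.lf 0) (.lf 0)))) (.nd (.nd (.nd (.lf 0) (.lf 0)) (.nd (.lf 0) (.lf 0))) (.nd (.nd (.lf 0) (.lf 0)) (.nd (.lf 0) (.lf 0))))) (.nd (.nd (.nd (.nd (.lf 0) (.lf 0)) (.nd (.lf 0) (.lf 0))) (.nd (.nd (.lf 0) (.lf 0)) (.nd (.lf 0) (.lf 0))))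 (.nd (.nd (.nd (.lf 0) (.lf 0)) (.nd (.lf 0) (.lf 0))) (.nd (.nd (.lf 0) (.lf 0)) (.nd (.lf 0) (.lf 0)))))) (.nd (.nd (.nd (.nd (.nd (.lf 0) (.lf 0)) (.nd (.lf 0) (.lf 0))) (.nd (.nd (.lf 0) (.lf 0)) (.nd (.lf 0) (.lf 0)))) (.nd (.nd (.nd (.lf 0) (.lf 0)) (.nd (.lf 0) (.lf 0))) (.nd (.nd (.lf 0) (.lf 0)) (.nd (.lf 0) (.lf 0))))) (.nd (.nd (.nd (.nd (.lf 0) (.lf 0)) (.nd (.lf 0) (.lf 0))) (.nd (.nd (.lf 0) (.lf 0)) (.nd (.lf 0) (.lf 0)))) (.nd (.nd (.nd (.lf 0) (.lf 0)) (.nd (.lf 0) (.lf 0))) (.nd (.nd (.lf 0) (.lf 0)) (.nd (.lf 0) (.lf 0)))))))) (.nd (.nd (.nd (.nd (.nd (.nd (.nd (.lf 0) (.lf 0)) (.nd (.lf 0) (.lf 0))) (.nd (.nd (.lf 0) (.lf 0)) (.nd (.lf 0) (.lf 0)))) (.nd (.nd (.nd (.lf 0) (.lf 0)) (.nd (.lf 122) (.lf 0))) (.nd (.nd (.lf 0) (.lf 0)) (.nd (.lf 0) (.lf 0))))) (.nd (.nd (.nd (.nd (.lf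 0) (.lf 0)) (.nd (.lf 0) (.lf 0))) (.nd (.nd (.lf 0) (.lf 0)) (.nd (.lf 0) (.lf 0)))) (.nd (.nd (.nd (.lf 0) (.lf 0)) (.nd (.lf 0) (.lf 0))) (.nd (.nd (.lf 0) (.lf 0)) (.nd (.lf 0) (.lf 0)))))) (.nd (.nd (.nd (.nd (.nd (.lf 0) (.lf 0)) (.nd (.lf 0) (.lf 0))) (.nd (.nd (.lf 0) (.lf 0)) (.nd (.lf 0) (.lf 0)))) (.nd (.nd (.nd (.lf 0) (.lf 0)) (.nd (.lf 0) (.lf 0))) (.nd (.nd (.lf 0) (.lf 0)) (.nd (.lf 0) (.lf 0))))) (.nd (.nd (.nd (.nd (.lf 0) (.lf 0)) (.nd (.lf 0) (.lf 0))) (.nd (.nd (.lf 0) (.lf 0)) (.nd (.lf 66) (.lf 0)))) (.nd (.nd (.nd (.lf 0) (.lf 0)) (.nd (.lf 0) (.lf 0))) (.nd (.nd (.lf 0) (.lf 0)) (.nd (.lf 0) (.lf 0))))))) (.nd (.nd (.nd (.nd (.nd (.nd (.lf 0) (.lf 0)) (.nd (.lf 0) (.lf 0))) (.nd (.nd (.lf 0) (.lf 0)) (.nd (.lf 0) (.lf 0)))) (.nd (.nd (.nd (.lf 0) (.lf 0)) (.nd (.lf 0) (.lf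 0))) (.nd (.nd (.lf 0) (.lf 0)) (.nd (.lf 0) (.lf 0))))) (.nd (.nd (.nd (.nd (.lf 0) (.lf 0)) (.nd (.lf 0) (.lf 0))) (.nd (.nd (.lf 0) (.lf 0)) (.nd (.lf 0) (.lf 0)))) (.nd (.nd (.nd (.lf 0) (.lf 0)) (.nd (.lf 0) (.lf 0))) (.nd (.nd (.lf 0) (.lf 0)) (.nd (.lf 0) (.lf 0)))))) (.nd (.nd (.nd (.nd (.nd (.lf 0) (.lf 0)) (.nd (.lf 0) (.lf 0))) (.nd (.nd (.lf 0) (.lf 0)) (.nd (.lf 0) (.lf 0)))) (.nd (.nd (.nd (.lf 0) (.lf 0)) (.nd (.lf 0) (.lf 0))) (.nd (.nd (.lf 0) (.lf 0)) (.nd (.lf 0) (.lf 0))))) (.nd (.nd (.nd (.nd (.lf 0) (.lf 0)) (.nd (.lf 0) (.lf 0))) (.nd (.nd (.lf 0) (.lf 0)) (.nd (.lf 0) (.lf 0)))) (.nd (.nd (.nd (.lf 0) (.lf 0)) (.nd (.lf 0) (.lf 0))) (.nd (.nd (.lf 0) (.lf 0)) (.nd (.lf 0) (.lf 0)))))))))) (.nd (.nd (.nd (.nd (.nd (.nd (.nd (.nd (.nd (.lf 0) (.lf 0)) (.nd (.lf 0) (.lf 0))) (.nd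 (.nd (.lf 0) (.lf 0)) (.nd (.lf 0) (.lf 0)))) (.nd (.nd (.nd (.lf 0) (.lf 0)) (.nd (.lf 0) (.lf 0))) (.nd (.nd (.lf 0) (.lf 0)) (.nd (.lf 0) (.lf 0))))) (.nd (.nd (.nd (.nd (.lf 0) (.lf 0)) (.nd (.lf 0) (.lf 0))) (.nd (.nd (.lf 0) (.lf 0)) (.nd (.lf 0) (.lf 0)))) (.nd (.nd (.nd (.lf 0) (.lf 0)) (.nd (.lf 0) (.lf 0))) (.nd (.nd (.lf 0) (.lf 0)) (.nd (.lf 0) (.lf 0)))))) (.nd (.nd (.nd (.nd (.nd (.lf 0) (.lf 0)) (.nd (.lf 0) (.lf 0))) (.nd (.nd (.lf 0) (.lf 0)) (.nd (.lf 0) (.lf 0)))) (.nd (.nd (.nd (.lf 0) (.lf 0)) (.nd (.lf 0) (.lf 0))) (.nd (.nd (.lf 0) (.lf 0)) (.nd (.lf 0) (.lf 0))))) (.nd (.nd (.nd (.nd (.lf 0) (.lf 0)) (.nd (.lf 0) (.lf 0))) (.nd (.nd (.lf 0) (.lf 0)) (.nd (.lf 0) (.lf 0)))) (.nd (.nd (.nd (.lf 0) (.lf 0)) (.nd (.lf 0) (.lf 0))) (.nd (.nd (.lf 0) (.lf 0)) (.nd (.lf 0) (.lf 0)))))))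 (.nd (.nd (.nd (.nd (.nd (.nd (.lf 0) (.lf 0)) (.nd (.lf 0) (.lf 0))) (.nd (.nd (.lf 42) (.lf 0)) (.nd (.lf 0) (.lf 0)))) (.nd (.nd (.nd (.lf 0) (.lf 0)) (.nd (.lf 0) (.lf 0))) (.nd (.nd (.lf 0) (.lf 0)) (.nd (.lf 0) (.lf 0))))) (.nd (.nd (.nd (.nd (.lf 0) (.lf 0)) (.nd (.lf 0) (.lf 0))) (.nd (.nd (.lf 0) (.lf 0)) (.nd (.lf 0) (.lf 0)))) (.nd (.nd (.nd (.lf 0) (.lf 0)) (.nd (.lf 0) (.lf 0))) (.nd (.nd (.lf 0) (.lf 0)) (.nd (.lf 0) (.lf 0)))))) (.nd (.nd (.nd (.nd (.nd (.lf 0) (.lf 0)) (.nd (.lf 0) (.lf 0))) (.nd (.nd (.lf 0) (.lf 0)) (.nd (.lf 0) (.lf 0)))) (.nd (.nd (.nd (.lf 0) (.lf 0)) (.nd (.lf 0) (.lf 0))) (.nd (.nd (.lf 0) (.lf 0)) (.nd (.lf 0) (.lf 0))))) (.nd (.nd (.nd (.nd (.lf 69) (.lf 0)) (.nd (.lf 0) (.lf 0))) (.nd (.nd (.lf 0) (.lf 0)) (.nd (.lf 0) (.lf 0)))) (.nd (.nd (.nd (.lf 0) (.lf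 0)) (.nd (.lf 0) (.lf 0))) (.nd (.nd (.lf 0) (.lf 0)) (.nd (.lf 0) (.lf 0)))))))) (.nd (.nd (.nd (.nd (.nd (.nd (.nd (.lf 0) (.lf 0)) (.nd (.lf 0) (.lf 0))) (.nd (.nd (.lf 0) (.lf 0)) (.nd (.lf 0) (.lf 0)))) (.nd (.nd (.nd (.lf 0) (.lf 0)) (.nd (.lf 0) (.lf 0))) (.nd (.nd (.lf 0) (.lf 0)) (.nd (.lf 0) (.lf 0))))) (.nd (.nd (.nd (.nd (.lf 0) (.lf 0)) (.nd (.lf 0) (.lf 0))) (.nd (.nd (.lf 0) (.lf 0)) (.nd (.lf 0) (.lf 0)))) (.nd (.nd (.nd (.lf 0) (.lf 0)) (.nd (.lf 0) (.lf 0))) (.nd (.nd (.lf 0) (.lf 0)) (.nd (.lf 0) (.lf 0)))))) (.nd (.nd (.nd (.nd (.nd (.lf 0) (.lf 0)) (.nd (.lf 0) (.lf 0))) (.nd (.nd (.lf 0) (.lf 0)) (.nd (.lf 0) (.lf 0)))) (.nd (.nd (.nd (.lf 0) (.lf 0)) (.nd (.lf 0) (.lf 0))) (.nd (.nd (.lf 0) (.lf 0)) (.nd (.lf 0) (.lf 0))))) (.nd (.nd (.nd (.nd (.lf 0) (.lf 0)) (.nd (.lf 0) (.lf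 0))) (.nd (.nd (.lf 0) (.lf 0)) (.nd (.lf 0) (.lf 0)))) (.nd (.nd (.nd (.lf 0) (.lf 0)) (.nd (.lf 0) (.lf 0))) (.nd (.nd (.lf 0) (.lf 0)) (.nd (.lf 0) (.lf 0))))))) (.nd (.nd (.nd (.nd (.nd (.nd (.lf 0) (.lf 0)) (.nd (.lf 0) (.lf 0))) (.nd (.nd (.lf 0) (.lf 0)) (.nd (.lf 0) (.lf 0)))) (.nd (.nd (.nd (.lf 0) (.lf 0)) (.nd (.lf 0) (.lf 0))) (.nd (.nd (.lf 0) (.lf 0)) (.nd (.lf 0) (.lf 0))))) (.nd (.nd (.nd (.nd (.lf 0) (.lf 0)) (.nd (.lf 0) (.lf 0))) (.nd (.nd (.lf 0) (.lf 0)) (.nd (.lf 0) (.lf 0)))) (.nd (.nd (.nd (.lf 0) (.lf 0)) (.nd (.lf 0) (.lf 0))) (.nd (.nd (.lf 92) (.lf 0)) (.nd (.lf 0) (.lf 0)))))) (.nd (.nd (.nd (.nd (.nd (.lf 0) (.lf 0)) (.nd (.lf 0) (.lf 0))) (.nd (.nd (.lf 0) (.lf 0)) (.nd (.lf 0) (.lf 0)))) (.nd (.nd (.nd (.lf 0) (.lf 0)) (.nd (.lf 0) (.lf 0))) (.nd (.nd (.lf 0) (.lf 0))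 (.nd (.lf 0) (.lf 0))))) (.nd (.nd (.nd (.nd (.lf 0) (.lf 0)) (.nd (.lf 0) (.lf 0))) (.nd (.nd (.lf 0) (.lf 0)) (.nd (.lf 0) (.lf 0)))) (.nd (.nd (.nd (.lf 0) (.lf 0)) (.nd (.lf 0) (.lf 0))) (.nd (.nd (.lf 0) (.lf 0)) (.nd (.lf 0) (.lf 0))))))))) (.nd (.nd (.nd (.nd (.nd (.nd (.nd (.nd (.lf 0) (.lf 0)) (.nd (.lf 0) (.lf 0))) (.nd (.nd (.lf 0) (.lf 0)) (.nd (.lf 0) (.lf 0)))) (.nd (.nd (.nd (.lf 0) (.lf 0)) (.nd (.lf 0) (.lf 0))) (.nd (.nd (.lf 0) (.lf 0)) (.nd (.lf 0) (.lf 0))))) (.nd (.nd (.nd (.nd (.lf 0) (.lf 0)) (.nd (.lf 0) (.lf 0))) (.nd (.nd (.lf 0) (.lf 0)) (.nd (.lf 0) (.lf 0)))) (.nd (.nd (.nd (.lf 0) (.lf 0)) (.nd (.lf 0) (.lf 0))) (.nd (.nd (.lf 0) (.lf 0)) (.nd (.lf 0) (.lf 0)))))) (.nd (.nd (.nd (.nd (.nd (.lf 0) (.lf 0)) (.nd (.lf 0) (.lf 0))) (.nd (.nd (.lf 0) (.lf 0)) (.nd (.lf 0)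 (.lf 0)))) (.nd (.nd (.nd (.lf 0) (.lf 0)) (.nd (.lf 0) (.lf 0))) (.nd (.nd (.lf 0) (.lf 0)) (.nd (.lf 0) (.lf 0))))) (.nd (.nd (.nd (.nd (.lf 0) (.lf 0)) (.nd (.lf 0) (.lf 0))) (.nd (.nd (.lf 0) (.lf 0)) (.nd (.lf 0) (.lf 0)))) (.nd (.nd (.nd (.lf 0) (.lf 0)) (.nd (.lf 0) (.lf 0))) (.nd (.nd (.lf 0) (.lf 0)) (.nd (.lf 0) (.lf 0))))))) (.nd (.nd (.nd (.nd (.nd (.nd (.lf 0) (.lf 0)) (.nd (.lf 0) (.lf 0))) (.nd (.nd (.lf 0) (.lf 0)) (.nd (.lf 0) (.lf 0)))) (.nd (.nd (.nd (.lf 0) (.lf 0)) (.nd (.lf 0) (.lf 0))) (.nd (.nd (.lf 0) (.lf 0)) (.nd (.lf 38) (.lf 0))))) (.nd (.nd (.nd (.nd (.lf 0) (.lf 0)) (.nd (.lf 0) (.lf 0))) (.nd (.nd (.lf 0) (.lf 0)) (.nd (.lf 0) (.lf 0)))) (.nd (.nd (.nd (.lf 0) (.lf 0)) (.nd (.lf 0) (.lf 0))) (.nd (.nd (.lf 0) (.lf 0)) (.nd (.lf 0) (.lf 0)))))) (.nd (.nd (.nd (.nd (.nd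 (.lf 0) (.lf 0)) (.nd (.lf 0) (.lf 0))) (.nd (.nd (.lf 0) (.lf 0)) (.nd (.lf 0) (.lf 0)))) (.nd (.nd (.nd (.lf 0) (.lf 0)) (.nd (.lf 0) (.lf 0))) (.nd (.nd (.lf 0) (.lf 0)) (.nd (.lf 0) (.lf 0))))) (.nd (.nd (.nd (.nd (.lf 0) (.lf 0)) (.nd (.lf 0) (.lf 0))) (.nd (.nd (.lf 0) (.lf 0)) (.nd (.lf 0) (.lf 0)))) (.nd (.nd (.nd (.lf 0) (.lf 0)) (.nd (.lf 0) (.lf 0))) (.nd (.nd (.lf 0) (.lf 0)) (.nd (.lf 0) (.lf 0)))))))) (.nd (.nd (.nd (.nd (.nd (.nd (.nd (.lf 0) (.lf 0)) (.nd (.lf 0) (.lf 0))) (.nd (.nd (.lf 0) (.lf 0)) (.nd (.lf 0) (.lf 0)))) (.nd (.nd (.nd (.lf 0) (.lf 0)) (.nd (.lf 0) (.lf 0))) (.nd (.nd (.lf 0) (.lf 0)) (.nd (.lf 0) (.lf 0))))) (.nd (.nd (.nd (.nd (.lf 0) (.lf 0)) (.nd (.lf 0) (.lf 0))) (.nd (.nd (.lf 0) (.lf 0)) (.nd (.lf 0) (.lf 0)))) (.nd (.nd (.nd (.lf 0) (.lf 0)) (.nd (.lf 0) (.lf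 0))) (.nd (.nd (.lf 0) (.lf 0)) (.nd (.lf 0) (.lf 0)))))) (.nd (.nd (.nd (.nd (.nd (.lf 0) (.lf 0)) (.nd (.lf 0) (.lf 0))) (.nd (.nd (.lf 0) (.lf 0)) (.nd (.lf 0) (.lf 0)))) (.nd (.nd (.nd (.lf 0) (.lf 0)) (.nd (.lf 0) (.lf 0))) (.nd (.nd (.lf 0) (.lf 0)) (.nd (.lf 0) (.lf 0))))) (.nd (.nd (.nd (.nd (.lf 0) (.lf 0)) (.nd (.lf 0) (.lf 0))) (.nd (.nd (.lf 0) (.lf 0)) (.nd (.lf 0) (.lf 0)))) (.nd (.nd (.nd (.lf 0) (.lf 0)) (.nd (.lf 0) (.lf 0))) (.nd (.nd (.lf 0) (.lf 0)) (.nd (.lf 0) (.lf 0))))))) (.nd (.nd (.nd (.nd (.nd (.nd (.lf 0) (.lf 0)) (.nd (.lf 0) (.lf 0))) (.nd (.nd (.lf 0) (.lf 0)) (.nd (.lf 0) (.lf 0)))) (.nd (.nd (.nd (.lf 0) (.lf 0)) (.nd (.lf 0) (.lf 0))) (.nd (.nd (.lf 0) (.lf 0)) (.nd (.lf 0) (.lf 0))))) (.nd (.nd (.nd (.nd (.lf 0) (.lf 0)) (.nd (.lf 0) (.lf 0))) (.nd (.nd (.lf 0) (.lf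 0)) (.nd (.lf 0) (.lf 0)))) (.nd (.nd (.nd (.lf 0) (.lf 0)) (.nd (.lf 0) (.lf 0))) (.nd (.nd (.lf 0) (.lf 0)) (.nd (.lf 0) (.lf 0)))))) (.nd (.nd (.nd (.nd (.nd (.lf 0) (.lf 0)) (.nd (.lf 0) (.lf 0))) (.nd (.nd (.lf 0) (.lf 0)) (.nd (.lf 0) (.lf 0)))) (.nd (.nd (.nd (.lf 0) (.lf 0)) (.nd (.lf 0) (.lf 0))) (.nd (.nd (.lf 0) (.lf 0)) (.nd (.lf 0) (.lf 0))))) (.nd (.nd (.nd (.nd (.lf 0) (.lf 0)) (.nd (.lf 0) (.lf 0))) (.nd (.nd (.lf 0) (.lf 0)) (.nd (.lf 0) (.lf 0)))) (.nd (.nd (.nd (.lf 55) (.lf 0)) (.nd (.lf 0) (.lf 0))) (.nd (.nd (.lf 0) (.lf 0)) (.nd (.lf 0) (.lf 0))))))))))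

/-- table part -/
def tabT_5 : Tr :=
  .nd (.nd (.nd (.nd (.nd (.nd (.nd (.nd (.nd (.nd (.lf 0) (.lf 0)) (.nd (.lf 0) (.lf 0))) (.nd (.nd (.lf 0) (.lf 0)) (.nd (.lf 0) (.lf 0)))) (.nd (.nd (.nd (.lf 70) (.lf 0)) (.nd (.lf 0) (.lf 0))) (.nd (.nd (.lf 0) (.lf 0)) (.nd (.lf 0) (.lf 0))))) (.nd (.nd (.nd (.nd (.lf 0) (.lf 0)) (.nd (.lf 0) (.lf 0))) (.nd (.nd (.lf 0) (.lf 0)) (.nd (.lf 0) (.lf 0)))) (.nd (.nd (.nd (.lf 0) (.lf 0)) (.nd (.lf 0) (.lf 0))) (.nd (.nd (.lf 0) (.lf 0)) (.nd (.lf 0) (.lf 0)))))) (.nd (.nd (.nd (.nd (.nd (.lf 0) (.lf 0)) (.nd (.lf 0) (.lf 0))) (.nd (.nd (.lf 0) (.lf 0)) (.nd (.lf 0) (.lf 0)))) (.nd (.nd (.nd (.lf 0) (.lf 0)) (.nd (.lf 0) (.lf 0))) (.nd (.nd (.lf 0) (.lf 0)) (.nd (.lf 0) (.lf 0))))) (.nd (.nd (.nd (.nd (.lf 0) (.lf 0)) (.nd (.lf 0) (.lf 0))) (.nd (.nd (.lf 0) (.lf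 0)) (.nd (.lf 0) (.lf 0)))) (.nd (.nd (.nd (.lf 0) (.lf 0)) (.nd (.lf 0) (.lf 0))) (.nd (.nd (.lf 0) (.lf 0)) (.nd (.lf 0) (.lf 0))))))) (.nd (.nd (.nd (.nd (.nd (.nd (.lf 0) (.lf 0)) (.nd (.lf 0) (.lf 0))) (.nd (.nd (.lf 0) (.lf 0)) (.nd (.lf 0) (.lf 0)))) (.nd (.nd (.nd (.lf 0) (.lf 0)) (.nd (.lf 0) (.lf 0))) (.nd (.nd (.lf 0) (.lf 0)) (.nd (.lf 0) (.lf 0))))) (.nd (.nd (.nd (.nd (.lf 0) (.lf 0)) (.nd (.lf 0) (.lf 0))) (.nd (.nd (.lf 0) (.lf 0)) (.nd (.lf 0) (.lf 0)))) (.nd (.nd (.nd (.lf 0) (.lf 0)) (.nd (.lf 0) (.lf 0))) (.nd (.nd (.lf 0) (.lf 0)) (.nd (.lf 0) (.lf 0)))))) (.nd (.nd (.nd (.nd (.nd (.lf 0) (.lf 0)) (.nd (.lf 0) (.lf 0))) (.nd (.nd (.lf 0) (.lf 0)) (.nd (.lf 0) (.lf 0)))) (.nd (.nd (.nd (.lf 0) (.lf 0)) (.nd (.lf 0) (.lf 0))) (.nd (.nd (.lf 0) (.lf 0)) (.nd (.lf 0) (.lf 0))))) (.nd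 (.nd (.nd (.nd (.lf 0) (.lf 0)) (.nd (.lf 0) (.lf 0))) (.nd (.nd (.lf 0) (.lf 0)) (.nd (.lf 0) (.lf 0)))) (.nd (.nd (.nd (.lf 0) (.lf 0)) (.nd (.lf 0) (.lf 0))) (.nd (.nd (.lf 0) (.lf 0)) (.nd (.lf 0) (.lf 0)))))))) (.nd (.nd (.nd (.nd (.nd (.nd (.nd (.lf 0) (.lf 0)) (.nd (.lf 0) (.lf 0))) (.nd (.nd (.lf 0) (.lf 0)) (.nd (.lf 0) (.lf 0)))) (.nd (.nd (.nd (.lf 0) (.lf 0)) (.nd (.lf 0) (.lf 0))) (.nd (.nd (.lf 0) (.lf 0)) (.nd (.lf 0) (.lf 0))))) (.nd (.nd (.nd (.nd (.lf 0) (.lf 0)) (.nd (.lf 0) (.lf 0))) (.nd (.nd (.lf 0) (.lf 0)) (.nd (.lf 0) (.lf 0)))) (.nd (.nd (.nd (.lf 0) (.lf 0)) (.nd (.lf 0) (.lf 0))) (.nd (.nd (.lf 0) (.lf 0)) (.nd (.lf 0) (.lf 0)))))) (.nd (.nd (.nd (.nd (.nd (.lf 0) (.lf 0)) (.nd (.lf 0) (.lf 0))) (.nd (.nd (.lf 0) (.lf 0)) (.nd (.lf 0) (.lf 0)))) (.nd (.nd (.nd (.lf 0) (.lf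 0)) (.nd (.lf 0) (.lf 0))) (.nd (.nd (.lf 0) (.lf 0)) (.nd (.lf 0) (.lf 0))))) (.nd (.nd (.nd (.nd (.lf 0) (.lf 0)) (.nd (.lf 0) (.lf 0))) (.nd (.nd (.lf 0) (.lf 0)) (.nd (.lf 0) (.lf 0)))) (.nd (.nd (.nd (.lf 0) (.lf 0)) (.nd (.lf 0) (.lf 0))) (.nd (.nd (.lf 0) (.lf 0)) (.nd (.lf 0) (.lf 0))))))) (.nd (.nd (.nd (.nd (.nd (.nd (.lf 0) (.lf 0)) (.nd (.lf 0) (.lf 0))) (.nd (.nd (.lf 0) (.lf 0)) (.nd (.lf 0) (.lf 0)))) (.nd (.nd (.nd (.lf 0) (.lf 0)) (.nd (.lf 0) (.lf 0))) (.nd (.nd (.lf 0) (.lf 0)) (.nd (.lf 0) (.lf 0))))) (.nd (.nd (.nd (.nd (.lf 0) (.lf 0)) (.nd (.lf 0) (.lf 0))) (.nd (.nd (.lf 0) (.lf 0)) (.nd (.lf 0) (.lf 0)))) (.nd (.nd (.nd (.lf 0) (.lf 0)) (.nd (.lf 0) (.lf 0))) (.nd (.nd (.lf 0) (.lf 0)) (.nd (.lf 0) (.lf 0)))))) (.nd (.nd (.nd (.nd (.nd (.lf 0) (.lf 0)) (.nd (.lf 0) (.lf 0)))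 (.nd (.nd (.lf 0) (.lf 0)) (.nd (.lf 0) (.lf 0)))) (.nd (.nd (.nd (.lf 0) (.lf 0)) (.nd (.lf 0) (.lf 0))) (.nd (.nd (.lf 0) (.lf 0)) (.nd (.lf 0) (.lf 0))))) (.nd (.nd (.nd (.nd (.lf 0) (.lf 0)) (.nd (.lf 0) (.lf 0))) (.nd (.nd (.lf 0) (.lf 0)) (.nd (.lf 0) (.lf 0)))) (.nd (.nd (.nd (.lf 0) (.lf 0)) (.nd (.lf 0) (.lf 0))) (.nd (.nd (.lf 0) (.lf 0)) (.nd (.lf 0) (.lf 0))))))))) (.nd (.nd (.nd (.nd (.nd (.nd (.nd (.nd (.lf 0) (.lf 0)) (.nd (.lf 0) (.lf 0))) (.nd (.nd (.lf 0) (.lf 0)) (.nd (.lf 0) (.lf 0)))) (.nd (.nd (.nd (.lf 0) (.lf 0)) (.nd (.lf 0) (.lf 0))) (.nd (.nd (.lf 0) (.lf 0)) (.nd (.lf 0) (.lf 0))))) (.nd (.nd (.nd (.nd (.lf 0) (.lf 0)) (.nd (.lf 0) (.lf 0))) (.nd (.nd (.lf 0) (.lf 0)) (.nd (.lf 0) (.lf 0)))) (.nd (.nd (.nd (.lf 0) (.lf 0)) (.nd (.lf 0) (.lf 0))) (.nd (.nd (.lf 0) (.lf 0))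 (.nd (.lf 0) (.lf 0)))))) (.nd (.nd (.nd (.nd (.nd (.lf 0) (.lf 0)) (.nd (.lf 0) (.lf 0))) (.nd (.nd (.lf 0) (.lf 0)) (.nd (.lf 0) (.lf 0)))) (.nd (.nd (.nd (.lf 0) (.lf 0)) (.nd (.lf 0) (.lf 0))) (.nd (.nd (.lf 0) (.lf 0)) (.nd (.lf 0) (.lf 0))))) (.nd (.nd (.nd (.nd (.lf 0) (.lf 0)) (.nd (.lf 0) (.lf 0))) (.nd (.nd (.lf 0) (.lf 0)) (.nd (.lf 0) (.lf 0)))) (.nd (.nd (.nd (.lf 0) (.lf 0)) (.nd (.lf 0) (.lf 0))) (.nd (.nd (.lf 0) (.lf 0)) (.nd (.lf 0) (.lf 0))))))) (.nd (.nd (.nd (.nd (.nd (.nd (.lf 0) (.lf 0)) (.nd (.lf 0) (.lf 0))) (.nd (.nd (.lf 0) (.lf 0)) (.nd (.lf 64) (.lf 0)))) (.nd (.nd (.nd (.lf 0) (.lf 0)) (.nd (.lf 0) (.lf 0))) (.nd (.nd (.lf 0) (.lf 0)) (.nd (.lf 0) (.lf 0))))) (.nd (.nd (.nd (.nd (.lf 0) (.lf 0)) (.nd (.lf 0) (.lf 0))) (.nd (.nd (.lf 0) (.lf 0)) (.nd (.lf 0) (.lf 0))))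 (.nd (.nd (.nd (.lf 0) (.lf 0)) (.nd (.lf 0) (.lf 0))) (.nd (.nd (.lf 0) (.lf 0)) (.nd (.lf 0) (.lf 0)))))) (.nd (.nd (.nd (.nd (.nd (.lf 0) (.lf 0)) (.nd (.lf 0) (.lf 0))) (.nd (.nd (.lf 0) (.lf 0)) (.nd (.lf 0) (.lf 0)))) (.nd (.nd (.nd (.lf 0) (.lf 0)) (.nd (.lf 0) (.lf 0))) (.nd (.nd (.lf 0) (.lf 0)) (.nd (.lf 0) (.lf 0))))) (.nd (.nd (.nd (.nd (.lf 0) (.lf 0)) (.nd (.lf 0) (.lf 0))) (.nd (.nd (.lf 0) (.lf 0)) (.nd (.lf 0) (.lf 0)))) (.nd (.nd (.nd (.lf 0) (.lf 0)) (.nd (.lf 0) (.lf 0))) (.nd (.nd (.lf 0) (.lf 0)) (.nd (.lf 0) (.lf 0)))))))) (.nd (.nd (.nd (.nd (.nd (.nd (.nd (.lf 0) (.lf 0)) (.nd (.lf 0) (.lf 0))) (.nd (.nd (.lf 0) (.lf 0)) (.nd (.lf 0) (.lf 0)))) (.nd (.nd (.nd (.lf 0) (.lf 0)) (.nd (.lf 0) (.lf 0))) (.nd (.nd (.lf 0) (.lf 0)) (.nd (.lf 0) (.lf 0))))) (.nd (.nd (.nd (.nd (.lf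 0) (.lf 0)) (.nd (.lf 0) (.lf 0))) (.nd (.nd (.lf 0) (.lf 0)) (.nd (.lf 0) (.lf 0)))) (.nd (.nd (.nd (.lf 0) (.lf 0)) (.nd (.lf 0) (.lf 0))) (.nd (.nd (.lf 0) (.lf 0)) (.nd (.lf 0) (.lf 0)))))) (.nd (.nd (.nd (.nd (.nd (.lf 0) (.lf 0)) (.nd (.lf 0) (.lf 0))) (.nd (.nd (.lf 0) (.lf 0)) (.nd (.lf 0) (.lf 0)))) (.nd (.nd (.nd (.lf 0) (.lf 0)) (.nd (.lf 0) (.lf 0))) (.nd (.nd (.lf 0) (.lf 0)) (.nd (.lf 0) (.lf 0))))) (.nd (.nd (.nd (.nd (.lf 0) (.lf 0)) (.nd (.lf 0) (.lf 0))) (.nd (.nd (.lf 0) (.lf 0)) (.nd (.lf 0) (.lf 0)))) (.nd (.nd (.nd (.lf 0) (.lf 0)) (.nd (.lf 0) (.lf 0))) (.nd (.nd (.lf 0) (.lf 0)) (.nd (.lf 0) (.lf 0))))))) (.nd (.nd (.nd (.nd (.nd (.nd (.lf 0) (.lf 0)) (.nd (.lf 0) (.lf 0))) (.nd (.nd (.lf 0) (.lf 0)) (.nd (.lf 0) (.lf 0)))) (.nd (.nd (.nd (.lf 0) (.lf 0)) (.nd (.lf 0) (.lf 0)))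 (.nd (.nd (.lf 0) (.lf 0)) (.nd (.lf 0) (.lf 0))))) (.nd (.nd (.nd (.nd (.lf 0) (.lf 0)) (.nd (.lf 0) (.lf 0))) (.nd (.nd (.lf 0) (.lf 0)) (.nd (.lf 0) (.lf 0)))) (.nd (.nd (.nd (.lf 0) (.lf 0)) (.nd (.lf 0) (.lf 0))) (.nd (.nd (.lf 0) (.lf 0)) (.nd (.lf 0) (.lf 0)))))) (.nd (.nd (.nd (.nd (.nd (.lf 0) (.lf 0)) (.nd (.lf 0) (.lf 0))) (.nd (.nd (.lf 0) (.lf 0)) (.nd (.lf 0) (.lf 0)))) (.nd (.nd (.nd (.lf 0) (.lf 0)) (.nd (.lf 0) (.lf 0))) (.nd (.nd (.lf 0) (.lf 0)) (.nd (.lf 0) (.lf 0))))) (.nd (.nd (.nd (.nd (.lf 0) (.lf 0)) (.nd (.lf 0) (.lf 0))) (.nd (.nd (.lf 0) (.lf 0)) (.nd (.lf 0) (.lf 0)))) (.nd (.nd (.nd (.lf 0) (.lf 0)) (.nd (.lf 0) (.lf 0))) (.nd (.nd (.lf 0) (.lf 0)) (.nd (.lf 0) (.lf 0)))))))))) (.nd (.nd (.nd (.nd (.nd (.nd (.nd (.nd (.nd (.lf 0) (.lf 0)) (.nd (.lf 0) (.lf 0))) (.nd (.nd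 (.lf 0) (.lf 0)) (.nd (.lf 0) (.lf 0)))) (.nd (.nd (.nd (.lf 0) (.lf 0)) (.nd (.lf 0) (.lf 0))) (.nd (.nd (.lf 0) (.lf 0)) (.nd (.lf 0) (.lf 0))))) (.nd (.nd (.nd (.nd (.lf 0) (.lf 0)) (.nd (.lf 0) (.lf 0))) (.nd (.nd (.lf 0) (.lf 0)) (.nd (.lf 0) (.lf 0)))) (.nd (.nd (.nd (.lf 0) (.lf 0)) (.nd (.lf 0) (.lf 0))) (.nd (.nd (.lf 46) (.lf 0)) (.nd (.lf 0) (.lf 0)))))) (.nd (.nd (.nd (.nd (.nd (.lf 0) (.lf 0)) (.nd (.lf 0) (.lf 0))) (.nd (.nd (.lf 0) (.lf 0)) (.nd (.lf 0) (.lf 0)))) (.nd (.nd (.nd (.lf 0) (.lf 0)) (.nd (.lf 0) (.lf 0))) (.nd (.nd (.lf 0) (.lf 0)) (.nd (.lf 0) (.lf 0))))) (.nd (.nd (.nd (.nd (.lf 0) (.lf 0)) (.nd (.lf 0) (.lf 0))) (.nd (.nd (.lf 0) (.lf 0)) (.nd (.lf 0) (.lf 0)))) (.nd (.nd (.nd (.lf 0) (.lf 0)) (.nd (.lf 0) (.lf 0))) (.nd (.nd (.lf 0) (.lf 0)) (.nd (.lf 0) (.lf 0)))))))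 (.nd (.nd (.nd (.nd (.nd (.nd (.lf 0) (.lf 0)) (.nd (.lf 0) (.lf 0))) (.nd (.nd (.lf 0) (.lf 0)) (.nd (.lf 0) (.lf 0)))) (.nd (.nd (.nd (.lf 0) (.lf 0)) (.nd (.lf 0) (.lf 0))) (.nd (.nd (.lf 0) (.lf 0)) (.nd (.lf 0) (.lf 0))))) (.nd (.nd (.nd (.nd (.lf 0) (.lf 0)) (.nd (.lf 0) (.lf 0))) (.nd (.nd (.lf 0) (.lf 0)) (.nd (.lf 0) (.lf 0)))) (.nd (.nd (.nd (.lf 0) (.lf 0)) (.nd (.lf 0) (.lf 0))) (.nd (.nd (.lf 0) (.lf 0)) (.nd (.lf 0) (.lf 0)))))) (.nd (.nd (.nd (.nd (.nd (.lf 0) (.lf 0)) (.nd (.lf 0) (.lf 0))) (.nd (.nd (.lf 0) (.lf 0)) (.nd (.lf 0) (.lf 0)))) (.nd (.nd (.nd (.lf 0) (.lf 0)) (.nd (.lf 0) (.lf 0))) (.nd (.nd (.lf 0) (.lf 0)) (.nd (.lf 0) (.lf 0))))) (.nd (.nd (.nd (.nd (.lf 0) (.lf 0)) (.nd (.lf 0) (.lf 0))) (.nd (.nd (.lf 0) (.lf 0)) (.nd (.lf 0) (.lf 0)))) (.nd (.nd (.nd (.lf 0) (.lf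 0)) (.nd (.lf 0) (.lf 0))) (.nd (.nd (.lf 0) (.lf 0)) (.nd (.lf 0) (.lf 0)))))))) (.nd (.nd (.nd (.nd (.nd (.nd (.nd (.lf 0) (.lf 0)) (.nd (.lf 0) (.lf 0))) (.nd (.nd (.lf 0) (.lf 0)) (.nd (.lf 0) (.lf 0)))) (.nd (.nd (.nd (.lf 0) (.lf 0)) (.nd (.lf 0) (.lf 0))) (.nd (.nd (.lf 0) (.lf 0)) (.nd (.lf 0) (.lf 0))))) (.nd (.nd (.nd (.nd (.lf 0) (.lf 0)) (.nd (.lf 0) (.lf 0))) (.nd (.nd (.lf 114) (.lf 0)) (.nd (.lf 0) (.lf 0)))) (.nd (.nd (.nd (.lf 0) (.lf 0)) (.nd (.lf 0) (.lf 0))) (.nd (.nd (.lf 0) (.lf 0)) (.nd (.lf 0) (.lf 0)))))) (.nd (.nd (.nd (.nd (.nd (.lf 0) (.lf 0)) (.nd (.lf 0) (.lf 0))) (.nd (.nd (.lf 0) (.lf 0)) (.nd (.lf 0) (.lf 0)))) (.nd (.nd (.nd (.lf 0) (.lf 0)) (.nd (.lf 0) (.lf 0))) (.nd (.nd (.lf 0) (.lf 0)) (.nd (.lf 0) (.lf 0))))) (.nd (.nd (.nd (.nd (.lf 0) (.lf 0)) (.nd (.lf 0)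 (.lf 0))) (.nd (.nd (.lf 0) (.lf 0)) (.nd (.lf 0) (.lf 0)))) (.nd (.nd (.nd (.lf 0) (.lf 0)) (.nd (.lf 0) (.lf 0))) (.nd (.nd (.lf 0) (.lf 0)) (.nd (.lf 0) (.lf 0))))))) (.nd (.nd (.nd (.nd (.nd (.nd (.lf 0) (.lf 0)) (.nd (.lf 0) (.lf 0))) (.nd (.nd (.lf 0) (.lf 0)) (.nd (.lf 0) (.lf 0)))) (.nd (.nd (.nd (.lf 0) (.lf 0)) (.nd (.lf 0) (.lf 0))) (.nd (.nd (.lf 0) (.lf 0)) (.nd (.lf 0) (.lf 0))))) (.nd (.nd (.nd (.nd (.lf 0) (.lf 0)) (.nd (.lf 0) (.lf 0))) (.nd (.nd (.lf 0) (.lf 0)) (.nd (.lf 0) (.lf 0)))) (.nd (.nd (.nd (.lf 0) (.lf 0)) (.nd (.lf 0) (.lf 0))) (.nd (.nd (.lf 0) (.lf 0)) (.nd (.lf 0) (.lf 0)))))) (.nd (.nd (.nd (.nd (.nd (.lf 0) (.lf 0)) (.nd (.lf 0) (.lf 0))) (.nd (.nd (.lf 0) (.lf 0)) (.nd (.lf 0) (.lf 0)))) (.nd (.nd (.nd (.lf 0) (.lf 0)) (.nd (.lf 0) (.lf 0))) (.nd (.nd (.lf 0) (.lf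 0)) (.nd (.lf 0) (.lf 0))))) (.nd (.nd (.nd (.nd (.lf 0) (.lf 0)) (.nd (.lf 0) (.lf 0))) (.nd (.nd (.lf 0) (.lf 0)) (.nd (.lf 0) (.lf 0)))) (.nd (.nd (.nd (.lf 0) (.lf 0)) (.nd (.lf 0) (.lf 0))) (.nd (.nd (.lf 0) (.lf 0)) (.nd (.lf 0) (.lf 0))))))))) (.nd (.nd (.nd (.nd (.nd (.nd (.nd (.nd (.lf 0) (.lf 0)) (.nd (.lf 0) (.lf 0))) (.nd (.nd (.lf 0) (.lf 0)) (.nd (.lf 0) (.lf 0)))) (.nd (.nd (.nd (.lf 0) (.lf 0)) (.nd (.lf 0) (.lf 0))) (.nd (.nd (.lf 0) (.lf 0)) (.nd (.lf 0) (.lf 0))))) (.nd (.nd (.nd (.nd (.lf 0) (.lf 0)) (.nd (.lf 0) (.lf 0))) (.nd (.nd (.lf 0) (.lf 0)) (.nd (.lf 0) (.lf 0)))) (.nd (.nd (.nd (.lf 0) (.lf 0)) (.nd (.lf 0) (.lf 0))) (.nd (.nd (.lf 0) (.lf 0)) (.nd (.lf 0) (.lf 0)))))) (.nd (.nd (.nd (.nd (.nd (.lf 0) (.lf 0)) (.nd (.lf 0) (.lf 0))) (.nd (.nd (.lf 0) (.lf 0)) (.nd (.lf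 0) (.lf 0)))) (.nd (.nd (.nd (.lf 0) (.lf 0)) (.nd (.lf 0) (.lf 0))) (.nd (.nd (.lf 0) (.lf 0)) (.nd (.lf 0) (.lf 0))))) (.nd (.nd (.nd (.nd (.lf 0) (.lf 0)) (.nd (.lf 0) (.lf 0))) (.nd (.nd (.lf 0) (.lf 0)) (.nd (.lf 0) (.lf 0)))) (.nd (.nd (.nd (.lf 0) (.lf 0)) (.nd (.lf 0) (.lf 0))) (.nd (.nd (.lf 0) (.lf 0)) (.nd (.lf 0) (.lf 0))))))) (.nd (.nd (.nd (.nd (.nd (.nd (.lf 0) (.lf 0)) (.nd (.lf 0) (.lf 0))) (.nd (.nd (.lf 0) (.lf 0)) (.nd (.lf 0) (.lf 0)))) (.nd (.nd (.nd (.lf 0) (.lf 0)) (.nd (.lf 0) (.lf 0))) (.nd (.nd (.lf 0) (.lf 0)) (.nd (.lf 0) (.lf 0))))) (.nd (.nd (.nd (.nd (.lf 0) (.lf 0)) (.nd (.lf 0) (.lf 0))) (.nd (.nd (.lf 0) (.lf 0)) (.nd (.lf 0) (.lf 0)))) (.nd (.nd (.nd (.lf 0) (.lf 0)) (.nd (.lf 0) (.lf 0))) (.nd (.nd (.lf 0) (.lf 0)) (.nd (.lf 0) (.lf 0)))))) (.nd (.nd (.nd (.nd (.nd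 (.lf 0) (.lf 0)) (.nd (.lf 0) (.lf 0))) (.nd (.nd (.lf 0) (.lf 0)) (.nd (.lf 0) (.lf 0)))) (.nd (.nd (.nd (.lf 0) (.lf 0)) (.nd (.lf 0) (.lf 0))) (.nd (.nd (.lf 0) (.lf 0)) (.nd (.lf 0) (.lf 0))))) (.nd (.nd (.nd (.nd (.lf 0) (.lf 0)) (.nd (.lf 0) (.lf 0))) (.nd (.nd (.lf 0) (.lf 0)) (.nd (.lf 0) (.lf 0)))) (.nd (.nd (.nd (.lf 0) (.lf 0)) (.nd (.lf 0) (.lf 0))) (.nd (.nd (.lf 0) (.lf 0)) (.nd (.lf 0) (.lf 0)))))))) (.nd (.nd (.nd (.nd (.nd (.nd (.nd (.lf 0) (.lf 0)) (.nd (.lf 0) (.lf 0))) (.nd (.nd (.lf 0) (.lf 0)) (.nd (.lf 0) (.lf 0)))) (.nd (.nd (.nd (.lf 0) (.lf 0)) (.nd (.lf 0) (.lf 0))) (.nd (.nd (.lf 0) (.lf 0)) (.nd (.lf 0) (.lf 0))))) (.nd (.nd (.nd (.nd (.lf 0) (.lf 0)) (.nd (.lf 0) (.lf 0))) (.nd (.nd (.lf 0) (.lf 0)) (.nd (.lf 0) (.lf 0)))) (.nd (.nd (.nd (.lf 0) (.lf 0)) (.nd (.lf 0) (.lf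 0))) (.nd (.nd (.lf 0) (.lf 0)) (.nd (.lf 0) (.lf 0)))))) (.nd (.nd (.nd (.nd (.nd (.lf 0) (.lf 0)) (.nd (.lf 0) (.lf 0))) (.nd (.nd (.lf 0) (.lf 0)) (.nd (.lf 0) (.lf 0)))) (.nd (.nd (.nd (.lf 0) (.lf 0)) (.nd (.lf 0) (.lf 0))) (.nd (.nd (.lf 0) (.lf 0)) (.nd (.lf 0) (.lf 0))))) (.nd (.nd (.nd (.nd (.lf 0) (.lf 0)) (.nd (.lf 0) (.lf 0))) (.nd (.nd (.lf 0) (.lf 0)) (.nd (.lf 0) (.lf 0)))) (.nd (.nd (.nd (.lf 0) (.lf 0)) (.nd (.lf 0) (.lf 0))) (.nd (.nd (.lf 0) (.lf 0)) (.nd (.lf 0) (.lf 0))))))) (.nd (.nd (.nd (.nd (.nd (.nd (.lf 0) (.lf 0)) (.nd (.lf 0) (.lf 0))) (.nd (.nd (.lf 0) (.lf 0)) (.nd (.lf 0) (.lf 0)))) (.nd (.nd (.nd (.lf 0) (.lf 0)) (.nd (.lf 0) (.lf 0))) (.nd (.nd (.lf 0) (.lf 0)) (.nd (.lf 0) (.lf 0))))) (.nd (.nd (.nd (.nd (.lf 0) (.lf 0)) (.nd (.lf 0) (.lf 0))) (.nd (.nd (.lf 0) (.lf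 0)) (.nd (.lf 0) (.lf 0)))) (.nd (.nd (.nd (.lf 0) (.lf 0)) (.nd (.lf 0) (.lf 0))) (.nd (.nd (.lf 0) (.lf 0)) (.nd (.lf 0) (.lf 0)))))) (.nd (.nd (.nd (.nd (.nd (.lf 0) (.lf 0)) (.nd (.lf 0) (.lf 0))) (.nd (.nd (.lf 0) (.lf 0)) (.nd (.lf 0) (.lf 0)))) (.nd (.nd (.nd (.lf 0) (.lf 0)) (.nd (.lf 0) (.lf 0))) (.nd (.nd (.lf 0) (.lf 0)) (.nd (.lf 0) (.lf 0))))) (.nd (.nd (.nd (.nd (.lf 0) (.lf 0)) (.nd (.lf 0) (.lf 0))) (.nd (.nd (.lf 0) (.lf 0)) (.nd (.lf 0) (.lf 0)))) (.nd (.nd (.nd (.lf 0) (.lf 0)) (.nd (.lf 0) (.lf 0))) (.nd (.nd (.lf 0) (.lf 0)) (.nd (.lf 0) (.lf 0))))))))))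

/-- table part -/
def tabT_6 : Tr :=
  .nd (.nd (.nd (.nd (.nd (.nd (.nd (.nd (.nd (.nd (.lf 0) (.lf 0)) (.nd (.lf 0) (.lf 0))) (.nd (.nd (.lf 0) (.lf 0)) (.nd (.lf 0) (.lf 0)))) (.nd (.nd (.nd (.lf 0) (.lf 0)) (.nd (.lf 0) (.lf 0))) (.nd (.nd (.lf 0) (.lf 0)) (.nd (.lf 0) (.lf 0))))) (.nd (.nd (.nd (.nd (.lf 0) (.lf 0)) (.nd (.lf 0) (.lf 0))) (.nd (.nd (.lf 0) (.lf 0)) (.nd (.lf 0) (.lf 0)))) (.nd (.nd (.nd (.lf 0) (.lf 0)) (.nd (.lf 0) (.lf 0))) (.nd (.nd (.lf 0) (.lf 0)) (.nd (.lf 0) (.lf 0)))))) (.nd (.nd (.nd (.nd (.nd (.lf 0) (.lf 0)) (.nd (.lf 0) (.lf 0))) (.nd (.nd (.lf 0) (.lf 0)) (.nd (.lf 0) (.lf 0)))) (.nd (.nd (.nd (.lf 0) (.lf 0)) (.nd (.lf 0) (.lf 0))) (.nd (.nd (.lf 0) (.lf 0)) (.nd (.lf 0) (.lf 0))))) (.nd (.nd (.nd (.nd (.lf 0) (.lf 0)) (.nd (.lf 0) (.lf 0))) (.nd (.nd (.lf 0) (.lf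 0)) (.nd (.lf 0) (.lf 0)))) (.nd (.nd (.nd (.lf 0) (.lf 0)) (.nd (.lf 0) (.lf 0))) (.nd (.nd (.lf 0) (.lf 0)) (.nd (.lf 0) (.lf 0))))))) (.nd (.nd (.nd (.nd (.nd (.nd (.lf 0) (.lf 0)) (.nd (.lf 0) (.lf 0))) (.nd (.nd (.lf 0) (.lf 0)) (.nd (.lf 0) (.lf 0)))) (.nd (.nd (.nd (.lf 0) (.lf 0)) (.nd (.lf 0) (.lf 0))) (.nd (.nd (.lf 0) (.lf 0)) (.nd (.lf 0) (.lf 0))))) (.nd (.nd (.nd (.nd (.lf 0) (.lf 0)) (.nd (.lf 0) (.lf 0))) (.nd (.nd (.lf 0) (.lf 0)) (.nd (.lf 0) (.lf 0)))) (.nd (.nd (.nd (.lf 0) (.lf 0)) (.nd (.lf 0) (.lf 0))) (.nd (.nd (.lf 0) (.lf 0)) (.nd (.lf 0) (.lf 0)))))) (.nd (.nd (.nd (.nd (.nd (.lf 0) (.lf 0)) (.nd (.lf 0) (.lf 0))) (.nd (.nd (.lf 0) (.lf 0)) (.nd (.lf 0) (.lf 0)))) (.nd (.nd (.nd (.lf 0) (.lf 0)) (.nd (.lf 0) (.lf 0))) (.nd (.nd (.lf 0) (.lf 0)) (.nd (.lf 0) (.lf 0))))) (.nd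 (.nd (.nd (.nd (.lf 0) (.lf 0)) (.nd (.lf 0) (.lf 0))) (.nd (.nd (.lf 0) (.lf 0)) (.nd (.lf 0) (.lf 0)))) (.nd (.nd (.nd (.lf 0) (.lf 0)) (.nd (.lf 0) (.lf 0))) (.nd (.nd (.lf 0) (.lf 0)) (.nd (.lf 0) (.lf 0)))))))) (.nd (.nd (.nd (.nd (.nd (.nd (.nd (.lf 0) (.lf 0)) (.nd (.lf 0) (.lf 0))) (.nd (.nd (.lf 0) (.lf 0)) (.nd (.lf 0) (.lf 0)))) (.nd (.nd (.nd (.lf 0) (.lf 0)) (.nd (.lf 0) (.lf 0))) (.nd (.nd (.lf 0) (.lf 0)) (.nd (.lf 0) (.lf 0))))) (.nd (.nd (.nd (.nd (.lf 0) (.lf 0)) (.nd (.lf 0) (.lf 0))) (.nd (.nd (.lf 0) (.lf 0)) (.nd (.lf 0) (.lf 0)))) (.nd (.nd (.nd (.lf 0) (.lf 0)) (.nd (.lf 0) (.lf 0))) (.nd (.nd (.lf 0) (.lf 0)) (.nd (.lf 0) (.lf 0)))))) (.nd (.nd (.nd (.nd (.nd (.lf 0) (.lf 0)) (.nd (.lf 0) (.lf 0))) (.nd (.nd (.lf 0) (.lf 0)) (.nd (.lf 0) (.lf 0)))) (.nd (.nd (.nd (.lf 0) (.lf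 0)) (.nd (.lf 0) (.lf 0))) (.nd (.nd (.lf 0) (.lf 0)) (.nd (.lf 0) (.lf 0))))) (.nd (.nd (.nd (.nd (.lf 0) (.lf 0)) (.nd (.lf 0) (.lf 0))) (.nd (.nd (.lf 0) (.lf 0)) (.nd (.lf 0) (.lf 0)))) (.nd (.nd (.nd (.lf 0) (.lf 0)) (.nd (.lf 0) (.lf 0))) (.nd (.nd (.lf 0) (.lf 0)) (.nd (.lf 0) (.lf 0))))))) (.nd (.nd (.nd (.nd (.nd (.nd (.lf 0) (.lf 0)) (.nd (.lf 0) (.lf 0))) (.nd (.nd (.lf 73) (.lf 0)) (.nd (.lf 0) (.lf 0)))) (.nd (.nd (.nd (.lf 0) (.lf 0)) (.nd (.lf 0) (.lf 0))) (.nd (.nd (.lf 0) (.lf 0)) (.nd (.lf 0) (.lf 0))))) (.nd (.nd (.nd (.nd (.lf 0) (.lf 0)) (.nd (.lf 0) (.lf 0))) (.nd (.nd (.lf 0) (.lf 0)) (.nd (.lf 0) (.lf 0)))) (.nd (.nd (.nd (.lf 0) (.lf 0)) (.nd (.lf 0) (.lf 0))) (.nd (.nd (.lf 0) (.lf 0)) (.nd (.lf 0) (.lf 0)))))) (.nd (.nd (.nd (.nd (.nd (.lf 0) (.lf 0)) (.nd (.lf 0) (.lf 0)))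 (.nd (.nd (.lf 0) (.lf 0)) (.nd (.lf 0) (.lf 0)))) (.nd (.nd (.nd (.lf 0) (.lf 0)) (.nd (.lf 0) (.lf 0))) (.nd (.nd (.lf 0) (.lf 0)) (.nd (.lf 0) (.lf 0))))) (.nd (.nd (.nd (.nd (.lf 0) (.lf 0)) (.nd (.lf 0) (.lf 0))) (.nd (.nd (.lf 0) (.lf 0)) (.nd (.lf 0) (.lf 0)))) (.nd (.nd (.nd (.lf 0) (.lf 0)) (.nd (.lf 0) (.lf 0))) (.nd (.nd (.lf 0) (.lf 0)) (.nd (.lf 0) (.lf 0))))))))) (.nd (.nd (.nd (.nd (.nd (.nd (.nd (.nd (.lf 0) (.lf 0)) (.nd (.lf 0) (.lf 0))) (.nd (.nd (.lf 0) (.lf 0)) (.nd (.lf 0) (.lf 0)))) (.nd (.nd (.nd (.lf 0) (.lf 0)) (.nd (.lf 0) (.lf 0))) (.nd (.nd (.lf 0) (.lf 0)) (.nd (.lf 53) (.lf 0))))) (.nd (.nd (.nd (.nd (.lf 0) (.lf 0)) (.nd (.lf 0) (.lf 0))) (.nd (.nd (.lf 0) (.lf 0)) (.nd (.lf 0) (.lf 0)))) (.nd (.nd (.nd (.lf 0) (.lf 0)) (.nd (.lf 0) (.lf 0))) (.nd (.nd (.lf 0) (.lf 0))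 (.nd (.lf 0) (.lf 0)))))) (.nd (.nd (.nd (.nd (.nd (.lf 0) (.lf 0)) (.nd (.lf 0) (.lf 0))) (.nd (.nd (.lf 0) (.lf 0)) (.nd (.lf 0) (.lf 0)))) (.nd (.nd (.nd (.lf 0) (.lf 0)) (.nd (.lf 0) (.lf 0))) (.nd (.nd (.lf 0) (.lf 0)) (.nd (.lf 0) (.lf 0))))) (.nd (.nd (.nd (.nd (.lf 0) (.lf 0)) (.nd (.lf 0) (.lf 0))) (.nd (.nd (.lf 0) (.lf 0)) (.nd (.lf 0) (.lf 0)))) (.nd (.nd (.nd (.lf 0) (.lf 0)) (.nd (.lf 0) (.lf 0))) (.nd (.nd (.lf 0) (.lf 0)) (.nd (.lf 0) (.lf 0))))))) (.nd (.nd (.nd (.nd (.nd (.nd (.lf 0) (.lf 0)) (.nd (.lf 0) (.lf 0))) (.nd (.nd (.lf 0) (.lf 0)) (.nd (.lf 0) (.lf 0)))) (.nd (.nd (.nd (.lf 0) (.lf 0)) (.nd (.lf 0) (.lf 0))) (.nd (.nd (.lf 0) (.lf 0)) (.nd (.lf 0) (.lf 0))))) (.nd (.nd (.nd (.nd (.lf 0) (.lf 0)) (.nd (.lf 0) (.lf 0))) (.nd (.nd (.lf 0) (.lf 0)) (.nd (.lf 0) (.lf 0)))) (.nd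 (.nd (.nd (.lf 0) (.lf 0)) (.nd (.lf 0) (.lf 0))) (.nd (.nd (.lf 0) (.lf 0)) (.nd (.lf 0) (.lf 0)))))) (.nd (.nd (.nd (.nd (.nd (.lf 0) (.lf 0)) (.nd (.lf 0) (.lf 0))) (.nd (.nd (.lf 0) (.lf 0)) (.nd (.lf 0) (.lf 0)))) (.nd (.nd (.nd (.lf 0) (.lf 0)) (.nd (.lf 0) (.lf 0))) (.nd (.nd (.lf 0) (.lf 0)) (.nd (.lf 0) (.lf 0))))) (.nd (.nd (.nd (.nd (.lf 0) (.lf 0)) (.nd (.lf 0) (.lf 0))) (.nd (.nd (.lf 0) (.lf 0)) (.nd (.lf 0) (.lf 0)))) (.nd (.nd (.nd (.lf 0) (.lf 0)) (.nd (.lf 0) (.lf 0))) (.nd (.nd (.lf 0) (.lf 0)) (.nd (.lf 0) (.lf 0)))))))) (.nd (.nd (.nd (.nd (.nd (.nd (.nd (.lf 0) (.lf 0)) (.nd (.lf 0) (.lf 0))) (.nd (.nd (.lf 0) (.lf 0)) (.nd (.lf 0) (.lf 0)))) (.nd (.nd (.nd (.lf 0) (.lf 0)) (.nd (.lf 0) (.lf 0))) (.nd (.nd (.lf 0) (.lf 0)) (.nd (.lf 0) (.lf 0))))) (.nd (.nd (.nd (.nd (.lf 0) (.lf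 0)) (.nd (.lf 0) (.lf 0))) (.nd (.nd (.lf 0) (.lf 0)) (.nd (.lf 0) (.lf 0)))) (.nd (.nd (.nd (.lf 0) (.lf 0)) (.nd (.lf 0) (.lf 0))) (.nd (.nd (.lf 0) (.lf 0)) (.nd (.lf 0) (.lf 0)))))) (.nd (.nd (.nd (.nd (.nd (.lf 0) (.lf 0)) (.nd (.lf 0) (.lf 0))) (.nd (.nd (.lf 0) (.lf 0)) (.nd (.lf 0) (.lf 0)))) (.nd (.nd (.nd (.lf 0) (.lf 0)) (.nd (.lf 0) (.lf 0))) (.nd (.nd (.lf 0) (.lf 0)) (.nd (.lf 0) (.lf 0))))) (.nd (.nd (.nd (.nd (.lf 0) (.lf 0)) (.nd (.lf 0) (.lf 0))) (.nd (.nd (.lf 0) (.lf 0)) (.nd (.lf 0) (.lf 0)))) (.nd (.nd (.nd (.lf 0) (.lf 0)) (.nd (.lf 0) (.lf 0))) (.nd (.nd (.lf 0) (.lf 0)) (.nd (.lf 0) (.lf 0))))))) (.nd (.nd (.nd (.nd (.nd (.nd (.lf 0) (.lf 0)) (.nd (.lf 0) (.lf 0))) (.nd (.nd (.lf 0) (.lf 0)) (.nd (.lf 0) (.lf 0)))) (.nd (.nd (.nd (.lf 0) (.lf 0)) (.nd (.lf 0) (.lf 0))) (.nd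 (.nd (.lf 0) (.lf 0)) (.nd (.lf 0) (.lf 0))))) (.nd (.nd (.nd (.nd (.lf 0) (.lf 0)) (.nd (.lf 0) (.lf 0))) (.nd (.nd (.lf 0) (.lf 0)) (.nd (.lf 0) (.lf 0)))) (.nd (.nd (.nd (.lf 0) (.lf 0)) (.nd (.lf 0) (.lf 0))) (.nd (.nd (.lf 0) (.lf 0)) (.nd (.lf 0) (.lf 0)))))) (.nd (.nd (.nd (.nd (.nd (.lf 0) (.lf 0)) (.nd (.lf 0) (.lf 0))) (.nd (.nd (.lf 0) (.lf 0)) (.nd (.lf 0) (.lf 0)))) (.nd (.nd (.nd (.lf 0) (.lf 0)) (.nd (.lf 0) (.lf 0))) (.nd (.nd (.lf 0) (.lf 0)) (.nd (.lf 0) (.lf 0))))) (.nd (.nd (.nd (.nd (.lf 0) (.lf 0)) (.nd (.lf 0) (.lf 0))) (.nd (.nd (.lf 0) (.lf 0)) (.nd (.lf 0) (.lf 0)))) (.nd (.nd (.nd (.lf 0) (.lf 0)) (.nd (.lf 0) (.lf 0))) (.nd (.nd (.lf 0) (.lf 0)) (.nd (.lf 0) (.lf 0)))))))))) (.nd (.nd (.nd (.nd (.nd (.nd (.nd (.nd (.nd (.lf 0) (.lf 0)) (.nd (.lf 0) (.lf 0))) (.nd (.nd (.lf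 0) (.lf 0)) (.nd (.lf 0) (.lf 0)))) (.nd (.nd (.nd (.lf 0) (.lf 0)) (.nd (.lf 0) (.lf 0))) (.nd (.nd (.lf 0) (.lf 0)) (.nd (.lf 0) (.lf 0))))) (.nd (.nd (.nd (.nd (.lf 0) (.lf 0)) (.nd (.lf 0) (.lf 0))) (.nd (.nd (.lf 0) (.lf 0)) (.nd (.lf 0) (.lf 0)))) (.nd (.nd (.nd (.lf 0) (.lf 0)) (.nd (.lf 0) (.lf 0))) (.nd (.nd (.lf 0) (.lf 0)) (.nd (.lf 0) (.lf 0)))))) (.nd (.nd (.nd (.nd (.nd (.lf 0) (.lf 0)) (.nd (.lf 0) (.lf 0))) (.nd (.nd (.lf 0) (.lf 0)) (.nd (.lf 0) (.lf 0)))) (.nd (.nd (.nd (.lf 0) (.lf 0)) (.nd (.lf 0) (.lf 0))) (.nd (.nd (.lf 0) (.lf 0)) (.nd (.lf 0) (.lf 0))))) (.nd (.nd (.nd (.nd (.lf 0) (.lf 0)) (.nd (.lf 0) (.lf 0))) (.nd (.nd (.lf 0) (.lf 0)) (.nd (.lf 0) (.lf 0)))) (.nd (.nd (.nd (.lf 0) (.lf 0)) (.nd (.lf 0) (.lf 0))) (.nd (.nd (.lf 0) (.lf 0)) (.nd (.lf 0) (.lf 0))))))) (.nd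 (.nd (.nd (.nd (.nd (.nd (.lf 0) (.lf 0)) (.nd (.lf 0) (.lf 0))) (.nd (.nd (.lf 0) (.lf 0)) (.nd (.lf 0) (.lf 0)))) (.nd (.nd (.nd (.lf 0) (.lf 0)) (.nd (.lf 0) (.lf 0))) (.nd (.nd (.lf 0) (.lf 0)) (.nd (.lf 0) (.lf 0))))) (.nd (.nd (.nd (.nd (.lf 0) (.lf 0)) (.nd (.lf 0) (.lf 0))) (.nd (.nd (.lf 0) (.lf 0)) (.nd (.lf 0) (.lf 0)))) (.nd (.nd (.nd (.lf 0) (.lf 0)) (.nd (.lf 0) (.lf 0))) (.nd (.nd (.lf 0) (.lf 0)) (.nd (.lf 0) (.lf 0)))))) (.nd (.nd (.nd (.nd (.nd (.lf 0) (.lf 0)) (.nd (.lf 0) (.lf 0))) (.nd (.nd (.lf 0) (.lf 0)) (.nd (.lf 0) (.lf 0)))) (.nd (.nd (.nd (.lf 0) (.lf 0)) (.nd (.lf 0) (.lf 0))) (.nd (.nd (.lf 0) (.lf 0)) (.nd (.lf 0) (.lf 0))))) (.nd (.nd (.nd (.nd (.lf 0) (.lf 0)) (.nd (.lf 0) (.lf 0))) (.nd (.nd (.lf 0) (.lf 0)) (.nd (.lf 0) (.lf 0)))) (.nd (.nd (.nd (.lf 0) (.lf 0)) (.nd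 (.lf 0) (.lf 0))) (.nd (.nd (.lf 0) (.lf 0)) (.nd (.lf 0) (.lf 0)))))))) (.nd (.nd (.nd (.nd (.nd (.nd (.nd (.lf 0) (.lf 0)) (.nd (.lf 0) (.lf 0))) (.nd (.nd (.lf 0) (.lf 0)) (.nd (.lf 0) (.lf 0)))) (.nd (.nd (.nd (.lf 0) (.lf 0)) (.nd (.lf 0) (.lf 0))) (.nd (.nd (.lf 0) (.lf 0)) (.nd (.lf 0) (.lf 0))))) (.nd (.nd (.nd (.nd (.lf 0) (.lf 0)) (.nd (.lf 0) (.lf 0))) (.nd (.nd (.lf 0) (.lf 0)) (.nd (.lf 0) (.lf 0)))) (.nd (.nd (.nd (.lf 0) (.lf 0)) (.nd (.lf 0) (.lf 0))) (.nd (.nd (.lf 0) (.lf 0)) (.nd (.lf 0) (.lf 0)))))) (.nd (.nd (.nd (.nd (.nd (.lf 0) (.lf 0)) (.nd (.lf 0) (.lf 0))) (.nd (.nd (.lf 0) (.lf 0)) (.nd (.lf 0) (.lf 0)))) (.nd (.nd (.nd (.lf 0) (.lf 0)) (.nd (.lf 0) (.lf 0))) (.nd (.nd (.lf 0) (.lf 0)) (.nd (.lf 0) (.lf 0))))) (.nd (.nd (.nd (.nd (.lf 0) (.lf 0)) (.nd (.lf 0) (.lf 0))) (.nd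 (.nd (.lf 0) (.lf 0)) (.nd (.lf 0) (.lf 0)))) (.nd (.nd (.nd (.lf 0) (.lf 0)) (.nd (.lf 0) (.lf 0))) (.nd (.nd (.lf 0) (.lf 0)) (.nd (.lf 0) (.lf 0))))))) (.nd (.nd (.nd (.nd (.nd (.nd (.lf 0) (.lf 0)) (.nd (.lf 0) (.lf 0))) (.nd (.nd (.lf 0) (.lf 0)) (.nd (.lf 0) (.lf 0)))) (.nd (.nd (.nd (.lf 0) (.lf 0)) (.nd (.lf 0) (.lf 0))) (.nd (.nd (.lf 0) (.lf 0)) (.nd (.lf 0) (.lf 0))))) (.nd (.nd (.nd (.nd (.lf 0) (.lf 0)) (.nd (.lf 0) (.lf 0))) (.nd (.nd (.lf 0) (.lf 0)) (.nd (.lf 0) (.lf 0)))) (.nd (.nd (.nd (.lf 0) (.lf 0)) (.nd (.lf 0) (.lf 0))) (.nd (.nd (.lf 0) (.lf 0)) (.nd (.lf 0) (.lf 0)))))) (.nd (.nd (.nd (.nd (.nd (.lf 0) (.lf 0)) (.nd (.lf 0) (.lf 0))) (.nd (.nd (.lf 0) (.lf 0)) (.nd (.lf 0) (.lf 0)))) (.nd (.nd (.nd (.lf 0) (.lf 0)) (.nd (.lf 0) (.lf 0))) (.nd (.nd (.lf 0) (.lf 0)) (.nd (.lf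 0) (.lf 0))))) (.nd (.nd (.nd (.nd (.lf 0) (.lf 0)) (.nd (.lf 0) (.lf 0))) (.nd (.nd (.lf 0) (.lf 0)) (.nd (.lf 0) (.lf 0)))) (.nd (.nd (.nd (.lf 0) (.lf 0)) (.nd (.lf 0) (.lf 0))) (.nd (.nd (.lf 0) (.lf 0)) (.nd (.lf 0) (.lf 0))))))))) (.nd (.nd (.nd (.nd (.nd (.nd (.nd (.nd (.lf 0) (.lf 0)) (.nd (.lf 0) (.lf 0))) (.nd (.nd (.lf 0) (.lf 0)) (.nd (.lf 0) (.lf 0)))) (.nd (.nd (.nd (.lf 0) (.lf 0)) (.nd (.lf 0) (.lf 0))) (.nd (.nd (.lf 0) (.lf 0)) (.nd (.lf 0) (.lf 0))))) (.nd (.nd (.nd (.nd (.lf 0) (.lf 0)) (.nd (.lf 0) (.lf 0))) (.nd (.nd (.lf 0) (.lf 0)) (.nd (.lf 0) (.lf 0)))) (.nd (.nd (.nd (.lf 0) (.lf 0)) (.nd (.lf 0) (.lf 0))) (.nd (.nd (.lf 0) (.lf 0)) (.nd (.lf 0) (.lf 0)))))) (.nd (.nd (.nd (.nd (.nd (.lf 0) (.lf 0)) (.nd (.lf 0) (.lf 0))) (.nd (.nd (.lf 0) (.lf 0)) (.nd (.lf 0) (.lf 0))))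 (.nd (.nd (.nd (.lf 0) (.lf 0)) (.nd (.lf 0) (.lf 0))) (.nd (.nd (.lf 0) (.lf 0)) (.nd (.lf 0) (.lf 0))))) (.nd (.nd (.nd (.nd (.lf 0) (.lf 0)) (.nd (.lf 0) (.lf 0))) (.nd (.nd (.lf 0) (.lf 0)) (.nd (.lf 0) (.lf 0)))) (.nd (.nd (.nd (.lf 0) (.lf 0)) (.nd (.lf 0) (.lf 0))) (.nd (.nd (.lf 0) (.lf 0)) (.nd (.lf 0) (.lf 0))))))) (.nd (.nd (.nd (.nd (.nd (.nd (.lf 0) (.lf 0)) (.nd (.lf 0) (.lf 0))) (.nd (.nd (.lf 0) (.lf 0)) (.nd (.lf 0) (.lf 0)))) (.nd (.nd (.nd (.lf 0) (.lf 0)) (.nd (.lf 0) (.lf 0))) (.nd (.nd (.lf 0) (.lf 0)) (.nd (.lf 0) (.lf 0))))) (.nd (.nd (.nd (.nd (.lf 0) (.lf 0)) (.nd (.lf 0) (.lf 0))) (.nd (.nd (.lf 0) (.lf 0)) (.nd (.lf 0) (.lf 0)))) (.nd (.nd (.nd (.lf 0) (.lf 0)) (.nd (.lf 0) (.lf 0))) (.nd (.nd (.lf 0) (.lf 0)) (.nd (.lf 0) (.lf 0)))))) (.nd (.nd (.nd (.nd (.nd (.lf 0) (.lf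 0)) (.nd (.lf 0) (.lf 0))) (.nd (.nd (.lf 0) (.lf 0)) (.nd (.lf 0) (.lf 0)))) (.nd (.nd (.nd (.lf 0) (.lf 0)) (.nd (.lf 0) (.lf 0))) (.nd (.nd (.lf 0) (.lf 0)) (.nd (.lf 0) (.lf 0))))) (.nd (.nd (.nd (.nd (.lf 0) (.lf 0)) (.nd (.lf 0) (.lf 0))) (.nd (.nd (.lf 0) (.lf 0)) (.nd (.lf 0) (.lf 0)))) (.nd (.nd (.nd (.lf 0) (.lf 0)) (.nd (.lf 16) (.lf 0))) (.nd (.nd (.lf 0) (.lf 0)) (.nd (.lf 68) (.lf 0)))))))) (.nd (.nd (.nd (.nd (.nd (.nd (.nd (.lf 0) (.lf 0)) (.nd (.lf 0) (.lf 0))) (.nd (.nd (.lf 0) (.lf 0)) (.nd (.lf 0) (.lf 0)))) (.nd (.nd (.nd (.lf 0) (.lf 0)) (.nd (.lf 0) (.lf 0))) (.nd (.nd (.lf 0) (.lf 0)) (.nd (.lf 0) (.lf 0))))) (.nd (.nd (.nd (.nd (.lf 0) (.lf 0)) (.nd (.lf 0) (.lf 0))) (.nd (.nd (.lf 0) (.lf 0)) (.nd (.lf 0) (.lf 0)))) (.nd (.nd (.nd (.lf 0) (.lf 0)) (.nd (.lf 0) (.lf 0))) (.nd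 (.nd (.lf 0) (.lf 0)) (.nd (.lf 0) (.lf 0)))))) (.nd (.nd (.nd (.nd (.nd (.lf 0) (.lf 0)) (.nd (.lf 0) (.lf 0))) (.nd (.nd (.lf 0) (.lf 0)) (.nd (.lf 0) (.lf 0)))) (.nd (.nd (.nd (.lf 0) (.lf 0)) (.nd (.lf 0) (.lf 0))) (.nd (.nd (.lf 0) (.lf 0)) (.nd (.lf 0) (.lf 0))))) (.nd (.nd (.nd (.nd (.lf 0) (.lf 0)) (.nd (.lf 0) (.lf 0))) (.nd (.nd (.lf 0) (.lf 0)) (.nd (.lf 0) (.lf 0)))) (.nd (.nd (.nd (.lf 0) (.lf 0)) (.nd (.lf 0) (.lf 0))) (.nd (.nd (.lf 0) (.lf 0)) (.nd (.lf 0) (.lf 0))))))) (.nd (.nd (.nd (.nd (.nd (.nd (.lf 0) (.lf 0)) (.nd (.lf 0) (.lf 0))) (.nd (.nd (.lf 0) (.lf 0)) (.nd (.lf 0) (.lf 0)))) (.nd (.nd (.nd (.lf 0) (.lf 0)) (.nd (.lf 0) (.lf 0))) (.nd (.nd (.lf 0) (.lf 0)) (.nd (.lf 0) (.lf 0))))) (.nd (.nd (.nd (.nd (.lf 0) (.lf 0)) (.nd (.lf 0) (.lf 0))) (.nd (.nd (.lf 0) (.lf 0)) (.nd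 (.lf 0) (.lf 0)))) (.nd (.nd (.nd (.lf 0) (.lf 0)) (.nd (.lf 0) (.lf 0))) (.nd (.nd (.lf 0) (.lf 0)) (.nd (.lf 0) (.lf 0)))))) (.nd (.nd (.nd (.nd (.nd (.lf 0) (.lf 0)) (.nd (.lf 0) (.lf 0))) (.nd (.nd (.lf 0) (.lf 0)) (.nd (.lf 0) (.lf 0)))) (.nd (.nd (.nd (.lf 0) (.lf 0)) (.nd (.lf 0) (.lf 0))) (.nd (.nd (.lf 0) (.lf 0)) (.nd (.lf 0) (.lf 0))))) (.nd (.nd (.nd (.nd (.lf 0) (.lf 0)) (.nd (.lf 0) (.lf 0))) (.nd (.nd (.lf 0) (.lf 0)) (.nd (.lf 0) (.lf 0)))) (.nd (.nd (.nd (.lf 0) (.lf 0)) (.nd (.lf 0) (.lf 0))) (.nd (.nd (.lf 0) (.lf 0)) (.nd (.lf 0) (.lf 0))))))))))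

/-- table part -/
def tabT_7 : Tr :=
  .nd (.nd (.nd (.nd (.nd (.nd (.nd (.nd (.nd (.nd (.lf 0) (.lf 0)) (.nd (.lf 0) (.lf 0))) (.nd (.nd (.lf 0) (.lf 0)) (.nd (.lf 0) (.lf 0)))) (.nd (.nd (.nd (.lf 0) (.lf 0)) (.nd (.lf 0) (.lf 0))) (.nd (.nd (.lf 0) (.lf 0)) (.nd (.lf 0) (.lf 0))))) (.nd (.nd (.nd (.nd (.lf 0) (.lf 0)) (.nd (.lf 0) (.lf 0))) (.nd (.nd (.lf 0) (.lf 0)) (.nd (.lf 0) (.lf 0)))) (.nd (.nd (.nd (.lf 0) (.lf 0)) (.nd (.lf 0) (.lf 0))) (.nd (.nd (.lf 0) (.lf 0)) (.nd (.lf 0) (.lf 0)))))) (.nd (.nd (.nd (.nd (.nd (.lf 0) (.lf 0)) (.nd (.lf 0) (.lf 0))) (.nd (.nd (.lf 0) (.lf 0)) (.nd (.lf 0) (.lf 0)))) (.nd (.nd (.nd (.lf 0) (.lf 0)) (.nd (.lf 0) (.lf 0))) (.nd (.nd (.lf 0) (.lf 0)) (.nd (.lf 0) (.lf 0))))) (.nd (.nd (.nd (.nd (.lf 0) (.lf 0)) (.nd (.lf 0) (.lf 0))) (.nd (.nd (.lf 0) (.lf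 0)) (.nd (.lf 0) (.lf 0)))) (.nd (.nd (.nd (.lf 0) (.lf 0)) (.nd (.lf 0) (.lf 0))) (.nd (.nd (.lf 0) (.lf 0)) (.nd (.lf 0) (.lf 0))))))) (.nd (.nd (.nd (.nd (.nd (.nd (.lf 0) (.lf 0)) (.nd (.lf 0) (.lf 0))) (.nd (.nd (.lf 0) (.lf 0)) (.nd (.lf 0) (.lf 0)))) (.nd (.nd (.nd (.lf 0) (.lf 0)) (.nd (.lf 0) (.lf 0))) (.nd (.nd (.lf 0) (.lf 0)) (.nd (.lf 0) (.lf 0))))) (.nd (.nd (.nd (.nd (.lf 0) (.lf 0)) (.nd (.lf 0) (.lf 0))) (.nd (.nd (.lf 0) (.lf 0)) (.nd (.lf 0) (.lf 0)))) (.nd (.nd (.nd (.lf 0) (.lf 0)) (.nd (.lf 0) (.lf 0))) (.nd (.nd (.lf 0) (.lf 0)) (.nd (.lf 0) (.lf 0)))))) (.nd (.nd (.nd (.nd (.nd (.lf 0) (.lf 0)) (.nd (.lf 0) (.lf 0))) (.nd (.nd (.lf 0) (.lf 0)) (.nd (.lf 0) (.lf 0)))) (.nd (.nd (.nd (.lf 0) (.lf 0)) (.nd (.lf 0) (.lf 0))) (.nd (.nd (.lf 0) (.lf 0)) (.nd (.lf 0) (.lf 0))))) (.nd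 (.nd (.nd (.nd (.lf 0) (.lf 0)) (.nd (.lf 0) (.lf 0))) (.nd (.nd (.lf 0) (.lf 0)) (.nd (.lf 0) (.lf 0)))) (.nd (.nd (.nd (.lf 0) (.lf 0)) (.nd (.lf 0) (.lf 0))) (.nd (.nd (.lf 0) (.lf 0)) (.nd (.lf 0) (.lf 0)))))))) (.nd (.nd (.nd (.nd (.nd (.nd (.nd (.lf 0) (.lf 0)) (.nd (.lf 0) (.lf 0))) (.nd (.nd (.lf 0) (.lf 0)) (.nd (.lf 0) (.lf 0)))) (.nd (.nd (.nd (.lf 0) (.lf 0)) (.nd (.lf 0) (.lf 0))) (.nd (.nd (.lf 0) (.lf 0)) (.nd (.lf 0) (.lf 0))))) (.nd (.nd (.nd (.nd (.lf 0) (.lf 0)) (.nd (.lf 0) (.lf 0))) (.nd (.nd (.lf 0) (.lf 0)) (.nd (.lf 0) (.lf 0)))) (.nd (.nd (.nd (.lf 0) (.lf 0)) (.nd (.lf 0) (.lf 0))) (.nd (.nd (.lf 0) (.lf 0)) (.nd (.lf 0) (.lf 0)))))) (.nd (.nd (.nd (.nd (.nd (.lf 0) (.lf 0)) (.nd (.lf 0) (.lf 0))) (.nd (.nd (.lf 0) (.lf 0)) (.nd (.lf 0) (.lf 0)))) (.nd (.nd (.nd (.lf 0) (.lf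 0)) (.nd (.lf 0) (.lf 0))) (.nd (.nd (.lf 0) (.lf 0)) (.nd (.lf 0) (.lf 0))))) (.nd (.nd (.nd (.nd (.lf 0) (.lf 0)) (.nd (.lf 0) (.lf 0))) (.nd (.nd (.lf 0) (.lf 0)) (.nd (.lf 0) (.lf 0)))) (.nd (.nd (.nd (.lf 0) (.lf 0)) (.nd (.lf 0) (.lf 0))) (.nd (.nd (.lf 0) (.lf 0)) (.nd (.lf 0) (.lf 0))))))) (.nd (.nd (.nd (.nd (.nd (.nd (.lf 0) (.lf 0)) (.nd (.lf 0) (.lf 0))) (.nd (.nd (.lf 0) (.lf 0)) (.nd (.lf 0) (.lf 0)))) (.nd (.nd (.nd (.lf 0) (.lf 0)) (.nd (.lf 0) (.lf 0))) (.nd (.nd (.lf 0) (.lf 0)) (.nd (.lf 0) (.lf 0))))) (.nd (.nd (.nd (.nd (.lf 0) (.lf 0)) (.nd (.lf 0) (.lf 0))) (.nd (.nd (.lf 0) (.lf 0)) (.nd (.lf 0) (.lf 0)))) (.nd (.nd (.nd (.lf 119) (.lf 0)) (.nd (.lf 0) (.lf 0))) (.nd (.nd (.lf 0) (.lf 0)) (.nd (.lf 0) (.lf 0)))))) (.nd (.nd (.nd (.nd (.nd (.lf 0) (.lf 0)) (.nd (.lf 0) (.lf 0)))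 (.nd (.nd (.lf 0) (.lf 0)) (.nd (.lf 0) (.lf 0)))) (.nd (.nd (.nd (.lf 0) (.lf 0)) (.nd (.lf 0) (.lf 0))) (.nd (.nd (.lf 0) (.lf 0)) (.nd (.lf 0) (.lf 0))))) (.nd (.nd (.nd (.nd (.lf 0) (.lf 0)) (.nd (.lf 0) (.lf 0))) (.nd (.nd (.lf 0) (.lf 0)) (.nd (.lf 0) (.lf 0)))) (.nd (.nd (.nd (.lf 0) (.lf 0)) (.nd (.lf 0) (.lf 0))) (.nd (.nd (.lf 0) (.lf 0)) (.nd (.lf 0) (.lf 0))))))))) (.nd (.nd (.nd (.nd (.nd (.nd (.nd (.nd (.lf 0) (.lf 0)) (.nd (.lf 0) (.lf 0))) (.nd (.nd (.lf 0) (.lf 0)) (.nd (.lf 0) (.lf 0)))) (.nd (.nd (.nd (.lf 0) (.lf 0)) (.nd (.lf 0) (.lf 0))) (.nd (.nd (.lf 0) (.lf 0)) (.nd (.lf 0) (.lf 0))))) (.nd (.nd (.nd (.nd (.lf 0) (.lf 0)) (.nd (.lf 0) (.lf 0))) (.nd (.nd (.lf 0) (.lf 0)) (.nd (.lf 0) (.lf 0)))) (.nd (.nd (.nd (.lf 0) (.lf 0)) (.nd (.lf 0) (.lf 0))) (.nd (.nd (.lf 0) (.lf 0))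 (.nd (.lf 0) (.lf 0)))))) (.nd (.nd (.nd (.nd (.nd (.lf 0) (.lf 0)) (.nd (.lf 0) (.lf 0))) (.nd (.nd (.lf 0) (.lf 0)) (.nd (.lf 0) (.lf 0)))) (.nd (.nd (.nd (.lf 0) (.lf 0)) (.nd (.lf 0) (.lf 0))) (.nd (.nd (.lf 0) (.lf 0)) (.nd (.lf 0) (.lf 0))))) (.nd (.nd (.nd (.nd (.lf 0) (.lf 0)) (.nd (.lf 0) (.lf 0))) (.nd (.nd (.lf 0) (.lf 0)) (.nd (.lf 0) (.lf 0)))) (.nd (.nd (.nd (.lf 0) (.lf 0)) (.nd (.lf 0) (.lf 0))) (.nd (.nd (.lf 0) (.lf 0)) (.nd (.lf 0) (.lf 0))))))) (.nd (.nd (.nd (.nd (.nd (.nd (.lf 0) (.lf 0)) (.nd (.lf 0) (.lf 0))) (.nd (.nd (.lf 0) (.lf 0)) (.nd (.lf 0) (.lf 0)))) (.nd (.nd (.nd (.lf 0) (.lf 0)) (.nd (.lf 0) (.lf 0))) (.nd (.nd (.lf 0) (.lf 0)) (.nd (.lf 0) (.lf 0))))) (.nd (.nd (.nd (.nd (.lf 0) (.lf 0)) (.nd (.lf 0) (.lf 0))) (.nd (.nd (.lf 0) (.lf 0)) (.nd (.lf 0) (.lf 0)))) (.nd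 (.nd (.nd (.lf 0) (.lf 0)) (.nd (.lf 0) (.lf 0))) (.nd (.nd (.lf 0) (.lf 0)) (.nd (.lf 0) (.lf 0)))))) (.nd (.nd (.nd (.nd (.nd (.lf 0) (.lf 0)) (.nd (.lf 0) (.lf 0))) (.nd (.nd (.lf 0) (.lf 0)) (.nd (.lf 0) (.lf 0)))) (.nd (.nd (.nd (.lf 0) (.lf 0)) (.nd (.lf 0) (.lf 0))) (.nd (.nd (.lf 0) (.lf 0)) (.nd (.lf 0) (.lf 0))))) (.nd (.nd (.nd (.nd (.lf 0) (.lf 0)) (.nd (.lf 0) (.lf 0))) (.nd (.nd (.lf 0) (.lf 0)) (.nd (.lf 0) (.lf 0)))) (.nd (.nd (.nd (.lf 0) (.lf 0)) (.nd (.lf 50) (.lf 0))) (.nd (.nd (.lf 0) (.lf 0)) (.nd (.lf 0) (.lf 0)))))))) (.nd (.nd (.nd (.nd (.nd (.nd (.nd (.lf 0) (.lf 0)) (.nd (.lf 0) (.lf 0))) (.nd (.nd (.lf 0) (.lf 0)) (.nd (.lf 0) (.lf 0)))) (.nd (.nd (.nd (.lf 0) (.lf 0)) (.nd (.lf 0) (.lf 0))) (.nd (.nd (.lf 0) (.lf 0)) (.nd (.lf 0) (.lf 0))))) (.nd (.nd (.nd (.nd (.lf 0)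 (.lf 0)) (.nd (.lf 0) (.lf 0))) (.nd (.nd (.lf 0) (.lf 0)) (.nd (.lf 0) (.lf 0)))) (.nd (.nd (.nd (.lf 0) (.lf 0)) (.nd (.lf 10) (.lf 0))) (.nd (.nd (.lf 0) (.lf 0)) (.nd (.lf 0) (.lf 0)))))) (.nd (.nd (.nd (.nd (.nd (.lf 0) (.lf 0)) (.nd (.lf 0) (.lf 0))) (.nd (.nd (.lf 0) (.lf 0)) (.nd (.lf 0) (.lf 0)))) (.nd (.nd (.nd (.lf 0) (.lf 0)) (.nd (.lf 0) (.lf 0))) (.nd (.nd (.lf 0) (.lf 0)) (.nd (.lf 0) (.lf 0))))) (.nd (.nd (.nd (.nd (.lf 0) (.lf 0)) (.nd (.lf 0) (.lf 0))) (.nd (.nd (.lf 0) (.lf 0)) (.nd (.lf 0) (.lf 0)))) (.nd (.nd (.nd (.lf 0) (.lf 0)) (.nd (.lf 0) (.lf 0))) (.nd (.nd (.lf 0) (.lf 0)) (.nd (.lf 0) (.lf 0))))))) (.nd (.nd (.nd (.nd (.nd (.nd (.lf 0) (.lf 0)) (.nd (.lf 0) (.lf 0))) (.nd (.nd (.lf 0) (.lf 0)) (.nd (.lf 0) (.lf 0)))) (.nd (.nd (.nd (.lf 0) (.lf 0)) (.nd (.lf 0) (.lf 0)))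 (.nd (.nd (.lf 0) (.lf 0)) (.nd (.lf 0) (.lf 0))))) (.nd (.nd (.nd (.nd (.lf 0) (.lf 0)) (.nd (.lf 0) (.lf 0))) (.nd (.nd (.lf 0) (.lf 0)) (.nd (.lf 0) (.lf 0)))) (.nd (.nd (.nd (.lf 0) (.lf 0)) (.nd (.lf 0) (.lf 0))) (.nd (.nd (.lf 0) (.lf 0)) (.nd (.lf 0) (.lf 0)))))) (.nd (.nd (.nd (.nd (.nd (.lf 0) (.lf 0)) (.nd (.lf 0) (.lf 0))) (.nd (.nd (.lf 0) (.lf 0)) (.nd (.lf 0) (.lf 0)))) (.nd (.nd (.nd (.lf 0) (.lf 0)) (.nd (.lf 0) (.lf 0))) (.nd (.nd (.lf 0) (.lf 0)) (.nd (.lf 0) (.lf 0))))) (.nd (.nd (.nd (.nd (.lf 0) (.lf 0)) (.nd (.lf 0) (.lf 0))) (.nd (.nd (.lf 0) (.lf 0)) (.nd (.lf 0) (.lf 0)))) (.nd (.nd (.nd (.lf 0) (.lf 0)) (.nd (.lf 0) (.lf 0))) (.nd (.nd (.lf 0) (.lf 0)) (.nd (.lf 0) (.lf 0)))))))))) (.nd (.nd (.nd (.nd (.nd (.nd (.nd (.nd (.nd (.lf 0) (.lf 0)) (.nd (.lf 0) (.lf 0))) (.nd (.nd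 (.lf 0) (.lf 0)) (.nd (.lf 0) (.lf 0)))) (.nd (.nd (.nd (.lf 0) (.lf 0)) (.nd (.lf 0) (.lf 0))) (.nd (.nd (.lf 0) (.lf 0)) (.nd (.lf 0) (.lf 0))))) (.nd (.nd (.nd (.nd (.lf 0) (.lf 0)) (.nd (.lf 0) (.lf 0))) (.nd (.nd (.lf 31) (.lf 0)) (.nd (.lf 0) (.lf 0)))) (.nd (.nd (.nd (.lf 0) (.lf 0)) (.nd (.lf 0) (.lf 0))) (.nd (.nd (.lf 33) (.lf 0)) (.nd (.lf 0) (.lf 0)))))) (.nd (.nd (.nd (.nd (.nd (.lf 0) (.lf 0)) (.nd (.lf 0) (.lf 0))) (.nd (.nd (.lf 0) (.lf 0)) (.nd (.lf 0) (.lf 0)))) (.nd (.nd (.nd (.lf 0) (.lf 0)) (.nd (.lf 0) (.lf 0))) (.nd (.nd (.lf 0) (.lf 0)) (.nd (.lf 0) (.lf 0))))) (.nd (.nd (.nd (.nd (.lf 0) (.lf 0)) (.nd (.lf 0) (.lf 0))) (.nd (.nd (.lf 0) (.lf 0)) (.nd (.lf 0) (.lf 0)))) (.nd (.nd (.nd (.lf 0) (.lf 0)) (.nd (.lf 0) (.lf 0))) (.nd (.nd (.lf 0) (.lf 0)) (.nd (.lf 0) (.lf 0)))))))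 (.nd (.nd (.nd (.nd (.nd (.nd (.lf 0) (.lf 0)) (.nd (.lf 0) (.lf 0))) (.nd (.nd (.lf 0) (.lf 0)) (.nd (.lf 0) (.lf 0)))) (.nd (.nd (.nd (.lf 0) (.lf 0)) (.nd (.lf 0) (.lf 0))) (.nd (.nd (.lf 0) (.lf 0)) (.nd (.lf 0) (.lf 0))))) (.nd (.nd (.nd (.nd (.lf 0) (.lf 0)) (.nd (.lf 0) (.lf 0))) (.nd (.nd (.lf 0) (.lf 0)) (.nd (.lf 0) (.lf 0)))) (.nd (.nd (.nd (.lf 0) (.lf 0)) (.nd (.lf 0) (.lf 0))) (.nd (.nd (.lf 0) (.lf 0)) (.nd (.lf 0) (.lf 0)))))) (.nd (.nd (.nd (.nd (.nd (.lf 0) (.lf 0)) (.nd (.lf 0) (.lf 0))) (.nd (.nd (.lf 0) (.lf 0)) (.nd (.lf 0) (.lf 0)))) (.nd (.nd (.nd (.lf 0) (.lf 0)) (.nd (.lf 0) (.lf 0))) (.nd (.nd (.lf 0) (.lf 0)) (.nd (.lf 0) (.lf 0))))) (.nd (.nd (.nd (.nd (.lf 0) (.lf 0)) (.nd (.lf 0) (.lf 0))) (.nd (.nd (.lf 0) (.lf 0)) (.nd (.lf 0) (.lf 0)))) (.nd (.nd (.nd (.lf 0) (.lf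 0)) (.nd (.lf 0) (.lf 0))) (.nd (.nd (.lf 0) (.lf 0)) (.nd (.lf 0) (.lf 0)))))))) (.nd (.nd (.nd (.nd (.nd (.nd (.nd (.lf 0) (.lf 0)) (.nd (.lf 0) (.lf 0))) (.nd (.nd (.lf 0) (.lf 0)) (.nd (.lf 0) (.lf 0)))) (.nd (.nd (.nd (.lf 0) (.lf 0)) (.nd (.lf 0) (.lf 0))) (.nd (.nd (.lf 0) (.lf 0)) (.nd (.lf 0) (.lf 0))))) (.nd (.nd (.nd (.nd (.lf 0) (.lf 0)) (.nd (.lf 0) (.lf 0))) (.nd (.nd (.lf 0) (.lf 0)) (.nd (.lf 0) (.lf 0)))) (.nd (.nd (.nd (.lf 29) (.lf 0)) (.nd (.lf 0) (.lf 0))) (.nd (.nd (.lf 0) (.lf 0)) (.nd (.lf 0) (.lf 0)))))) (.nd (.nd (.nd (.nd (.nd (.lf 0) (.lf 0)) (.nd (.lf 0) (.lf 0))) (.nd (.nd (.lf 0) (.lf 0)) (.nd (.lf 0) (.lf 0)))) (.nd (.nd (.nd (.lf 0) (.lf 0)) (.nd (.lf 0) (.lf 0))) (.nd (.nd (.lf 0) (.lf 0)) (.nd (.lf 39) (.lf 0))))) (.nd (.nd (.nd (.nd (.lf 0) (.lf 0)) (.nd (.lf 0)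 (.lf 0))) (.nd (.nd (.lf 0) (.lf 0)) (.nd (.lf 0) (.lf 0)))) (.nd (.nd (.nd (.lf 0) (.lf 0)) (.nd (.lf 0) (.lf 0))) (.nd (.nd (.lf 59) (.lf 0)) (.nd (.lf 0) (.lf 0))))))) (.nd (.nd (.nd (.nd (.nd (.nd (.lf 0) (.lf 0)) (.nd (.lf 0) (.lf 0))) (.nd (.nd (.lf 0) (.lf 0)) (.nd (.lf 0) (.lf 0)))) (.nd (.nd (.nd (.lf 0) (.lf 0)) (.nd (.lf 0) (.lf 0))) (.nd (.nd (.lf 0) (.lf 0)) (.nd (.lf 0) (.lf 0))))) (.nd (.nd (.nd (.nd (.lf 0) (.lf 0)) (.nd (.lf 0) (.lf 0))) (.nd (.nd (.lf 0) (.lf 0)) (.nd (.lf 0) (.lf 0)))) (.nd (.nd (.nd (.lf 0) (.lf 0)) (.nd (.lf 0) (.lf 0))) (.nd (.nd (.lf 0) (.lf 0)) (.nd (.lf 0) (.lf 0)))))) (.nd (.nd (.nd (.nd (.nd (.lf 0) (.lf 0)) (.nd (.lf 0) (.lf 0))) (.nd (.nd (.lf 0) (.lf 0)) (.nd (.lf 0) (.lf 0)))) (.nd (.nd (.nd (.lf 0) (.lf 0)) (.nd (.lf 0) (.lf 0))) (.nd (.nd (.lf 0) (.lf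 0)) (.nd (.lf 0) (.lf 0))))) (.nd (.nd (.nd (.nd (.lf 0) (.lf 0)) (.nd (.lf 0) (.lf 0))) (.nd (.nd (.lf 0) (.lf 0)) (.nd (.lf 0) (.lf 0)))) (.nd (.nd (.nd (.lf 0) (.lf 0)) (.nd (.lf 0) (.lf 0))) (.nd (.nd (.lf 0) (.lf 0)) (.nd (.lf 0) (.lf 0))))))))) (.nd (.nd (.nd (.nd (.nd (.nd (.nd (.nd (.lf 0) (.lf 0)) (.nd (.lf 0) (.lf 0))) (.nd (.nd (.lf 0) (.lf 0)) (.nd (.lf 0) (.lf 0)))) (.nd (.nd (.nd (.lf 0) (.lf 0)) (.nd (.lf 0) (.lf 0))) (.nd (.nd (.lf 0) (.lf 0)) (.nd (.lf 0) (.lf 0))))) (.nd (.nd (.nd (.nd (.lf 0) (.lf 0)) (.nd (.lf 0) (.lf 0))) (.nd (.nd (.lf 0) (.lf 0)) (.nd (.lf 0) (.lf 0)))) (.nd (.nd (.nd (.lf 0) (.lf 0)) (.nd (.lf 0) (.lf 0))) (.nd (.nd (.lf 0) (.lf 0)) (.nd (.lf 0) (.lf 0)))))) (.nd (.nd (.nd (.nd (.nd (.lf 0) (.lf 0)) (.nd (.lf 0) (.lf 0))) (.nd (.nd (.lf 0) (.lf 0)) (.nd (.lf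 0) (.lf 0)))) (.nd (.nd (.nd (.lf 0) (.lf 0)) (.nd (.lf 0) (.lf 0))) (.nd (.nd (.lf 0) (.lf 0)) (.nd (.lf 0) (.lf 0))))) (.nd (.nd (.nd (.nd (.lf 0) (.lf 0)) (.nd (.lf 0) (.lf 0))) (.nd (.nd (.lf 0) (.lf 0)) (.nd (.lf 0) (.lf 0)))) (.nd (.nd (.nd (.lf 0) (.lf 0)) (.nd (.lf 0) (.lf 0))) (.nd (.nd (.lf 0) (.lf 0)) (.nd (.lf 0) (.lf 0))))))) (.nd (.nd (.nd (.nd (.nd (.nd (.lf 0) (.lf 0)) (.nd (.lf 0) (.lf 0))) (.nd (.nd (.lf 0) (.lf 0)) (.nd (.lf 0) (.lf 0)))) (.nd (.nd (.nd (.lf 0) (.lf 0)) (.nd (.lf 0) (.lf 0))) (.nd (.nd (.lf 8) (.lf 0)) (.nd (.lf 84) (.lf 0))))) (.nd (.nd (.nd (.nd (.lf 0) (.lf 0)) (.nd (.lf 0) (.lf 0))) (.nd (.nd (.lf 0) (.lf 0)) (.nd (.lf 52) (.lf 0)))) (.nd (.nd (.nd (.lf 0) (.lf 0)) (.nd (.lf 0) (.lf 0))) (.nd (.nd (.lf 0) (.lf 0)) (.nd (.lf 0) (.lf 0)))))) (.nd (.nd (.nd (.nd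 (.nd (.lf 0) (.lf 0)) (.nd (.lf 0) (.lf 0))) (.nd (.nd (.lf 0) (.lf 0)) (.nd (.lf 0) (.lf 0)))) (.nd (.nd (.nd (.lf 0) (.lf 0)) (.nd (.lf 0) (.lf 0))) (.nd (.nd (.lf 0) (.lf 0)) (.nd (.lf 0) (.lf 0))))) (.nd (.nd (.nd (.nd (.lf 0) (.lf 0)) (.nd (.lf 0) (.lf 0))) (.nd (.nd (.lf 0) (.lf 0)) (.nd (.lf 0) (.lf 0)))) (.nd (.nd (.nd (.lf 0) (.lf 0)) (.nd (.lf 0) (.lf 0))) (.nd (.nd (.lf 0) (.lf 0)) (.nd (.lf 0) (.lf 0)))))))) (.nd (.nd (.nd (.nd (.nd (.nd (.nd (.lf 0) (.lf 0)) (.nd (.lf 0) (.lf 0))) (.nd (.nd (.lf 0) (.lf 0)) (.nd (.lf 0) (.lf 0)))) (.nd (.nd (.nd (.lf 0) (.lf 0)) (.nd (.lf 0) (.lf 0))) (.nd (.nd (.lf 0) (.lf 0)) (.nd (.lf 0) (.lf 0))))) (.nd (.nd (.nd (.nd (.lf 0) (.lf 0)) (.nd (.lf 0) (.lf 0))) (.nd (.nd (.lf 0) (.lf 0)) (.nd (.lf 0) (.lf 0)))) (.nd (.nd (.nd (.lf 0) (.lf 0)) (.nd (.lf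 0) (.lf 0))) (.nd (.nd (.lf 0) (.lf 0)) (.nd (.lf 0) (.lf 0)))))) (.nd (.nd (.nd (.nd (.nd (.lf 0) (.lf 0)) (.nd (.lf 0) (.lf 0))) (.nd (.nd (.lf 0) (.lf 0)) (.nd (.lf 0) (.lf 0)))) (.nd (.nd (.nd (.lf 0) (.lf 0)) (.nd (.lf 0) (.lf 0))) (.nd (.nd (.lf 0) (.lf 0)) (.nd (.lf 0) (.lf 0))))) (.nd (.nd (.nd (.nd (.lf 0) (.lf 0)) (.nd (.lf 0) (.lf 0))) (.nd (.nd (.lf 0) (.lf 0)) (.nd (.lf 0) (.lf 0)))) (.nd (.nd (.nd (.lf 0) (.lf 0)) (.nd (.lf 106) (.lf 0))) (.nd (.nd (.lf 0) (.lf 0)) (.nd (.lf 0) (.lf 0))))))) (.nd (.nd (.nd (.nd (.nd (.nd (.lf 0) (.lf 0)) (.nd (.lf 0) (.lf 0))) (.nd (.nd (.lf 0) (.lf 0)) (.nd (.lf 0) (.lf 0)))) (.nd (.nd (.nd (.lf 0) (.lf 0)) (.nd (.lf 117) (.lf 0))) (.nd (.nd (.lf 0) (.lf 0)) (.nd (.lf 85) (.lf 0))))) (.nd (.nd (.nd (.nd (.lf 0) (.lf 0)) (.nd (.lf 0) (.lf 0))) (.nd (.nd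 (.lf 12) (.lf 0)) (.nd (.lf 0) (.lf 0)))) (.nd (.nd (.nd (.lf 0) (.lf 0)) (.nd (.lf 0) (.lf 0))) (.nd (.nd (.lf 0) (.lf 0)) (.nd (.lf 2) (.lf 0)))))) (.nd (.nd (.nd (.nd (.nd (.lf 0) (.lf 0)) (.nd (.lf 0) (.lf 0))) (.nd (.nd (.lf 0) (.lf 0)) (.nd (.lf 0) (.lf 0)))) (.nd (.nd (.nd (.lf 0) (.lf 0)) (.nd (.lf 0) (.lf 0))) (.nd (.nd (.lf 0) (.lf 0)) (.nd (.lf 0) (.lf 0))))) (.nd (.nd (.nd (.nd (.lf 0) (.lf 0)) (.nd (.lf 0) (.lf 0))) (.nd (.nd (.lf 0) (.lf 0)) (.nd (.lf 0) (.lf 0)))) (.nd (.nd (.nd (.lf 0) (.lf 0)) (.nd (.lf 0) (.lf 0))) (.nd (.nd (.lf 0) (.lf 0)) (.nd (.lf 0) (.lf 0))))))))))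

/-- table part -/
def tabT_8 : Tr :=
  .nd (.nd (.nd (.nd (.nd (.nd (.nd (.nd (.nd (.nd (.lf 0) (.lf 0)) (.nd (.lf 0) (.lf 0))) (.nd (.nd (.lf 0) (.lf 0)) (.nd (.lf 0) (.lf 0)))) (.nd (.nd (.nd (.lf 0) (.lf 0)) (.nd (.lf 0) (.lf 0))) (.nd (.nd (.lf 0) (.lf 0)) (.nd (.lf 0) (.lf 0))))) (.nd (.nd (.nd (.nd (.lf 0) (.lf 0)) (.nd (.lf 0) (.lf 0))) (.nd (.nd (.lf 0) (.lf 0)) (.nd (.lf 0) (.lf 0)))) (.nd (.nd (.nd (.lf 0) (.lf 0)) (.nd (.lf 0) (.lf 0))) (.nd (.nd (.lf 0) (.lf 0)) (.nd (.lf 0) (.lf 0)))))) (.nd (.nd (.nd (.nd (.nd (.lf 0) (.lf 0)) (.nd (.lf 6) (.lf 0))) (.nd (.nd (.lf 0) (.lf 0)) (.nd (.lf 0) (.lf 0)))) (.nd (.nd (.nd (.lf 0) (.lf 0)) (.nd (.lf 0) (.lf 0))) (.nd (.nd (.lf 0) (.lf 0)) (.nd (.lf 0) (.lf 0))))) (.nd (.nd (.nd (.nd (.lf 0) (.lf 0)) (.nd (.lf 24) (.lf 0))) (.nd (.nd (.lf 0) (.lf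 0)) (.nd (.lf 0) (.lf 0)))) (.nd (.nd (.nd (.lf 0) (.lf 0)) (.nd (.lf 0) (.lf 0))) (.nd (.nd (.lf 0) (.lf 0)) (.nd (.lf 0) (.lf 0))))))) (.nd (.nd (.nd (.nd (.nd (.nd (.lf 0) (.lf 0)) (.nd (.lf 0) (.lf 0))) (.nd (.nd (.lf 0) (.lf 0)) (.nd (.lf 0) (.lf 0)))) (.nd (.nd (.nd (.lf 0) (.lf 0)) (.nd (.lf 0) (.lf 0))) (.nd (.nd (.lf 0) (.lf 0)) (.nd (.lf 0) (.lf 0))))) (.nd (.nd (.nd (.nd (.lf 0) (.lf 0)) (.nd (.lf 0) (.lf 0))) (.nd (.nd (.lf 0) (.lf 0)) (.nd (.lf 0) (.lf 0)))) (.nd (.nd (.nd (.lf 0) (.lf 0)) (.nd (.lf 0) (.lf 0))) (.nd (.nd (.lf 0) (.lf 0)) (.nd (.lf 0) (.lf 0)))))) (.nd (.nd (.nd (.nd (.nd (.lf 0) (.lf 0)) (.nd (.lf 0) (.lf 0))) (.nd (.nd (.lf 0) (.lf 0)) (.nd (.lf 0) (.lf 0)))) (.nd (.nd (.nd (.lf 0) (.lf 0)) (.nd (.lf 0) (.lf 0))) (.nd (.nd (.lf 0) (.lf 0)) (.nd (.lf 0) (.lf 0))))) (.nd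 (.nd (.nd (.nd (.lf 0) (.lf 0)) (.nd (.lf 0) (.lf 0))) (.nd (.nd (.lf 0) (.lf 0)) (.nd (.lf 0) (.lf 0)))) (.nd (.nd (.nd (.lf 0) (.lf 0)) (.nd (.lf 0) (.lf 0))) (.nd (.nd (.lf 0) (.lf 0)) (.nd (.lf 0) (.lf 0)))))))) (.nd (.nd (.nd (.nd (.nd (.nd (.nd (.lf 0) (.lf 0)) (.nd (.lf 0) (.lf 0))) (.nd (.nd (.lf 0) (.lf 0)) (.nd (.lf 0) (.lf 0)))) (.nd (.nd (.nd (.lf 0) (.lf 0)) (.nd (.lf 0) (.lf 0))) (.nd (.nd (.lf 0) (.lf 0)) (.nd (.lf 0) (.lf 0))))) (.nd (.nd (.nd (.nd (.lf 0) (.lf 0)) (.nd (.lf 0) (.lf 0))) (.nd (.nd (.lf 0) (.lf 0)) (.nd (.lf 0) (.lf 0)))) (.nd (.nd (.nd (.lf 0) (.lf 0)) (.nd (.lf 0) (.lf 0))) (.nd (.nd (.lf 0) (.lf 0)) (.nd (.lf 0) (.lf 0)))))) (.nd (.nd (.nd (.nd (.nd (.lf 0) (.lf 0)) (.nd (.lf 0) (.lf 0))) (.nd (.nd (.lf 0) (.lf 0)) (.nd (.lf 0) (.lf 0)))) (.nd (.nd (.nd (.lf 0) (.lf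 0)) (.nd (.lf 0) (.lf 0))) (.nd (.nd (.lf 0) (.lf 0)) (.nd (.lf 0) (.lf 0))))) (.nd (.nd (.nd (.nd (.lf 0) (.lf 0)) (.nd (.lf 0) (.lf 0))) (.nd (.nd (.lf 0) (.lf 0)) (.nd (.lf 0) (.lf 0)))) (.nd (.nd (.nd (.lf 0) (.lf 0)) (.nd (.lf 0) (.lf 0))) (.nd (.nd (.lf 0) (.lf 0)) (.nd (.lf 0) (.lf 0))))))) (.nd (.nd (.nd (.nd (.nd (.nd (.lf 0) (.lf 0)) (.nd (.lf 0) (.lf 0))) (.nd (.nd (.lf 0) (.lf 0)) (.nd (.lf 0) (.lf 0)))) (.nd (.nd (.nd (.lf 0) (.lf 0)) (.nd (.lf 0) (.lf 0))) (.nd (.nd (.lf 0) (.lf 0)) (.nd (.lf 0) (.lf 0))))) (.nd (.nd (.nd (.nd (.lf 0) (.lf 0)) (.nd (.lf 0) (.lf 0))) (.nd (.nd (.lf 0) (.lf 0)) (.nd (.lf 0) (.lf 0)))) (.nd (.nd (.nd (.lf 0) (.lf 0)) (.nd (.lf 0) (.lf 0))) (.nd (.nd (.lf 0) (.lf 0)) (.nd (.lf 0) (.lf 0)))))) (.nd (.nd (.nd (.nd (.nd (.lf 0) (.lf 0)) (.nd (.lf 0) (.lf 0)))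 (.nd (.nd (.lf 0) (.lf 0)) (.nd (.lf 0) (.lf 0)))) (.nd (.nd (.nd (.lf 0) (.lf 0)) (.nd (.lf 0) (.lf 0))) (.nd (.nd (.lf 75) (.lf 0)) (.nd (.lf 0) (.lf 0))))) (.nd (.nd (.nd (.nd (.lf 0) (.lf 0)) (.nd (.lf 0) (.lf 0))) (.nd (.nd (.lf 0) (.lf 0)) (.nd (.lf 0) (.lf 0)))) (.nd (.nd (.nd (.lf 0) (.lf 0)) (.nd (.lf 0) (.lf 0))) (.nd (.nd (.lf 0) (.lf 0)) (.nd (.lf 0) (.lf 0))))))))) (.nd (.nd (.nd (.nd (.nd (.nd (.nd (.nd (.lf 0) (.lf 0)) (.nd (.lf 0) (.lf 0))) (.nd (.nd (.lf 0) (.lf 0)) (.nd (.lf 0) (.lf 0)))) (.nd (.nd (.nd (.lf 0) (.lf 0)) (.nd (.lf 0) (.lf 0))) (.nd (.nd (.lf 0) (.lf 0)) (.nd (.lf 0) (.lf 0))))) (.nd (.nd (.nd (.nd (.lf 0) (.lf 0)) (.nd (.lf 0) (.lf 0))) (.nd (.nd (.lf 0) (.lf 0)) (.nd (.lf 0) (.lf 0)))) (.nd (.nd (.nd (.lf 0) (.lf 0)) (.nd (.lf 0) (.lf 0))) (.nd (.nd (.lf 0) (.lf 0))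 (.nd (.lf 0) (.lf 0)))))) (.nd (.nd (.nd (.nd (.nd (.lf 0) (.lf 0)) (.nd (.lf 0) (.lf 0))) (.nd (.nd (.lf 0) (.lf 0)) (.nd (.lf 0) (.lf 0)))) (.nd (.nd (.nd (.lf 0) (.lf 0)) (.nd (.lf 0) (.lf 0))) (.nd (.nd (.lf 0) (.lf 0)) (.nd (.lf 0) (.lf 0))))) (.nd (.nd (.nd (.nd (.lf 0) (.lf 0)) (.nd (.lf 0) (.lf 0))) (.nd (.nd (.lf 0) (.lf 0)) (.nd (.lf 0) (.lf 0)))) (.nd (.nd (.nd (.lf 0) (.lf 0)) (.nd (.lf 0) (.lf 0))) (.nd (.nd (.lf 0) (.lf 0)) (.nd (.lf 0) (.lf 0))))))) (.nd (.nd (.nd (.nd (.nd (.nd (.lf 0) (.lf 0)) (.nd (.lf 0) (.lf 0))) (.nd (.nd (.lf 0) (.lf 0)) (.nd (.lf 0) (.lf 0)))) (.nd (.nd (.nd (.lf 0) (.lf 0)) (.nd (.lf 0) (.lf 0))) (.nd (.nd (.lf 0) (.lf 0)) (.nd (.lf 0) (.lf 0))))) (.nd (.nd (.nd (.nd (.lf 0) (.lf 0)) (.nd (.lf 0) (.lf 0))) (.nd (.nd (.lf 0) (.lf 0)) (.nd (.lf 0) (.lf 0)))) (.nd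 (.nd (.nd (.lf 0) (.lf 0)) (.nd (.lf 0) (.lf 0))) (.nd (.nd (.lf 0) (.lf 0)) (.nd (.lf 0) (.lf 0)))))) (.nd (.nd (.nd (.nd (.nd (.lf 0) (.lf 0)) (.nd (.lf 0) (.lf 0))) (.nd (.nd (.lf 0) (.lf 0)) (.nd (.lf 0) (.lf 0)))) (.nd (.nd (.nd (.lf 0) (.lf 0)) (.nd (.lf 0) (.lf 0))) (.nd (.nd (.lf 0) (.lf 0)) (.nd (.lf 0) (.lf 0))))) (.nd (.nd (.nd (.nd (.lf 0) (.lf 0)) (.nd (.lf 0) (.lf 0))) (.nd (.nd (.lf 0) (.lf 0)) (.nd (.lf 0) (.lf 0)))) (.nd (.nd (.nd (.lf 0) (.lf 0)) (.nd (.lf 0) (.lf 0))) (.nd (.nd (.lf 0) (.lf 0)) (.nd (.lf 0) (.lf 0)))))))) (.nd (.nd (.nd (.nd (.nd (.nd (.nd (.lf 0) (.lf 0)) (.nd (.lf 0) (.lf 0))) (.nd (.nd (.lf 0) (.lf 0)) (.nd (.lf 0) (.lf 0)))) (.nd (.nd (.nd (.lf 0) (.lf 0)) (.nd (.lf 0) (.lf 0))) (.nd (.nd (.lf 0) (.lf 0)) (.nd (.lf 0) (.lf 0))))) (.nd (.nd (.nd (.nd (.lf 0) (.lf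 0)) (.nd (.lf 0) (.lf 0))) (.nd (.nd (.lf 0) (.lf 0)) (.nd (.lf 0) (.lf 0)))) (.nd (.nd (.nd (.lf 0) (.lf 0)) (.nd (.lf 0) (.lf 0))) (.nd (.nd (.lf 0) (.lf 0)) (.nd (.lf 0) (.lf 0)))))) (.nd (.nd (.nd (.nd (.nd (.lf 0) (.lf 0)) (.nd (.lf 0) (.lf 0))) (.nd (.nd (.lf 0) (.lf 0)) (.nd (.lf 0) (.lf 0)))) (.nd (.nd (.nd (.lf 0) (.lf 0)) (.nd (.lf 0) (.lf 0))) (.nd (.nd (.lf 0) (.lf 0)) (.nd (.lf 0) (.lf 0))))) (.nd (.nd (.nd (.nd (.lf 0) (.lf 0)) (.nd (.lf 0) (.lf 0))) (.nd (.nd (.lf 0) (.lf 0)) (.nd (.lf 0) (.lf 0)))) (.nd (.nd (.nd (.lf 0) (.lf 0)) (.nd (.lf 0) (.lf 0))) (.nd (.nd (.lf 0) (.lf 0)) (.nd (.lf 0) (.lf 0))))))) (.nd (.nd (.nd (.nd (.nd (.nd (.lf 0) (.lf 0)) (.nd (.lf 0) (.lf 0))) (.nd (.nd (.lf 0) (.lf 0)) (.nd (.lf 0) (.lf 0)))) (.nd (.nd (.nd (.lf 0) (.lf 0)) (.nd (.lf 0) (.lf 0))) (.nd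 (.nd (.lf 0) (.lf 0)) (.nd (.lf 0) (.lf 0))))) (.nd (.nd (.nd (.nd (.lf 0) (.lf 0)) (.nd (.lf 0) (.lf 0))) (.nd (.nd (.lf 0) (.lf 0)) (.nd (.lf 0) (.lf 0)))) (.nd (.nd (.nd (.lf 0) (.lf 0)) (.nd (.lf 0) (.lf 0))) (.nd (.nd (.lf 0) (.lf 0)) (.nd (.lf 0) (.lf 0)))))) (.nd (.nd (.nd (.nd (.nd (.lf 0) (.lf 0)) (.nd (.lf 0) (.lf 0))) (.nd (.nd (.lf 0) (.lf 0)) (.nd (.lf 0) (.lf 0)))) (.nd (.nd (.nd (.lf 0) (.lf 0)) (.nd (.lf 0) (.lf 0))) (.nd (.nd (.lf 0) (.lf 0)) (.nd (.lf 0) (.lf 0))))) (.nd (.nd (.nd (.nd (.lf 0) (.lf 0)) (.nd (.lf 0) (.lf 0))) (.nd (.nd (.lf 0) (.lf 0)) (.nd (.lf 0) (.lf 0)))) (.nd (.nd (.nd (.lf 0) (.lf 0)) (.nd (.lf 0) (.lf 0))) (.nd (.nd (.lf 0) (.lf 0)) (.nd (.lf 0) (.lf 0)))))))))) (.nd (.nd (.nd (.nd (.nd (.nd (.nd (.nd (.nd (.lf 0) (.lf 0)) (.nd (.lf 0) (.lf 0))) (.nd (.nd (.lf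 0) (.lf 0)) (.nd (.lf 0) (.lf 0)))) (.nd (.nd (.nd (.lf 0) (.lf 0)) (.nd (.lf 0) (.lf 0))) (.nd (.nd (.lf 0) (.lf 0)) (.nd (.lf 0) (.lf 0))))) (.nd (.nd (.nd (.nd (.lf 0) (.lf 0)) (.nd (.lf 0) (.lf 0))) (.nd (.nd (.lf 0) (.lf 0)) (.nd (.lf 0) (.lf 0)))) (.nd (.nd (.nd (.lf 0) (.lf 0)) (.nd (.lf 0) (.lf 0))) (.nd (.nd (.lf 0) (.lf 0)) (.nd (.lf 0) (.lf 0)))))) (.nd (.nd (.nd (.nd (.nd (.lf 0) (.lf 0)) (.nd (.lf 0) (.lf 0))) (.nd (.nd (.lf 0) (.lf 0)) (.nd (.lf 0) (.lf 0)))) (.nd (.nd (.nd (.lf 0) (.lf 0)) (.nd (.lf 0) (.lf 0))) (.nd (.nd (.lf 0) (.lf 0)) (.nd (.lf 0) (.lf 0))))) (.nd (.nd (.nd (.nd (.lf 0) (.lf 0)) (.nd (.lf 0) (.lf 0))) (.nd (.nd (.lf 0) (.lf 0)) (.nd (.lf 83) (.lf 0)))) (.nd (.nd (.nd (.lf 0) (.lf 0)) (.nd (.lf 0) (.lf 0))) (.nd (.nd (.lf 0) (.lf 0)) (.nd (.lf 0) (.lf 0))))))) (.nd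 (.nd (.nd (.nd (.nd (.nd (.lf 0) (.lf 0)) (.nd (.lf 0) (.lf 0))) (.nd (.nd (.lf 0) (.lf 0)) (.nd (.lf 0) (.lf 0)))) (.nd (.nd (.nd (.lf 0) (.lf 0)) (.nd (.lf 0) (.lf 0))) (.nd (.nd (.lf 0) (.lf 0)) (.nd (.lf 0) (.lf 0))))) (.nd (.nd (.nd (.nd (.lf 0) (.lf 0)) (.nd (.lf 0) (.lf 0))) (.nd (.nd (.lf 0) (.lf 0)) (.nd (.lf 0) (.lf 0)))) (.nd (.nd (.nd (.lf 0) (.lf 0)) (.nd (.lf 0) (.lf 0))) (.nd (.nd (.lf 0) (.lf 0)) (.nd (.lf 0) (.lf 0)))))) (.nd (.nd (.nd (.nd (.nd (.lf 0) (.lf 0)) (.nd (.lf 0) (.lf 0))) (.nd (.nd (.lf 0) (.lf 0)) (.nd (.lf 0) (.lf 0)))) (.nd (.nd (.nd (.lf 0) (.lf 0)) (.nd (.lf 0) (.lf 0))) (.nd (.nd (.lf 0) (.lf 0)) (.nd (.lf 0) (.lf 0))))) (.nd (.nd (.nd (.nd (.lf 0) (.lf 0)) (.nd (.lf 0) (.lf 0))) (.nd (.nd (.lf 0) (.lf 0)) (.nd (.lf 0) (.lf 0)))) (.nd (.nd (.nd (.lf 0) (.lf 0)) (.nd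 (.lf 0) (.lf 0))) (.nd (.nd (.lf 0) (.lf 0)) (.nd (.lf 0) (.lf 0)))))))) (.nd (.nd (.nd (.nd (.nd (.nd (.nd (.lf 0) (.lf 0)) (.nd (.lf 0) (.lf 0))) (.nd (.nd (.lf 0) (.lf 0)) (.nd (.lf 0) (.lf 0)))) (.nd (.nd (.nd (.lf 0) (.lf 0)) (.nd (.lf 0) (.lf 0))) (.nd (.nd (.lf 45) (.lf 0)) (.nd (.lf 0) (.lf 0))))) (.nd (.nd (.nd (.nd (.lf 0) (.lf 0)) (.nd (.lf 0) (.lf 0))) (.nd (.nd (.lf 0) (.lf 0)) (.nd (.lf 0) (.lf 0)))) (.nd (.nd (.nd (.lf 0) (.lf 0)) (.nd (.lf 0) (.lf 0))) (.nd (.nd (.lf 0) (.lf 0)) (.nd (.lf 0) (.lf 0)))))) (.nd (.nd (.nd (.nd (.nd (.lf 0) (.lf 0)) (.nd (.lf 0) (.lf 0))) (.nd (.nd (.lf 0) (.lf 0)) (.nd (.lf 0) (.lf 0)))) (.nd (.nd (.nd (.lf 0) (.lf 0)) (.nd (.lf 0) (.lf 0))) (.nd (.nd (.lf 0) (.lf 0)) (.nd (.lf 0) (.lf 0))))) (.nd (.nd (.nd (.nd (.lf 0) (.lf 0)) (.nd (.lf 0) (.lf 0)))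 (.nd (.nd (.lf 0) (.lf 0)) (.nd (.lf 0) (.lf 0)))) (.nd (.nd (.nd (.lf 0) (.lf 0)) (.nd (.lf 0) (.lf 0))) (.nd (.nd (.lf 0) (.lf 0)) (.nd (.lf 0) (.lf 0))))))) (.nd (.nd (.nd (.nd (.nd (.nd (.lf 0) (.lf 0)) (.nd (.lf 0) (.lf 0))) (.nd (.nd (.lf 0) (.lf 0)) (.nd (.lf 0) (.lf 0)))) (.nd (.nd (.nd (.lf 0) (.lf 0)) (.nd (.lf 0) (.lf 0))) (.nd (.nd (.lf 0) (.lf 0)) (.nd (.lf 0) (.lf 0))))) (.nd (.nd (.nd (.nd (.lf 0) (.lf 0)) (.nd (.lf 0) (.lf 0))) (.nd (.nd (.lf 0) (.lf 0)) (.nd (.lf 0) (.lf 0)))) (.nd (.nd (.nd (.lf 0) (.lf 0)) (.nd (.lf 0) (.lf 0))) (.nd (.nd (.lf 0) (.lf 0)) (.nd (.lf 0) (.lf 0)))))) (.nd (.nd (.nd (.nd (.nd (.lf 0) (.lf 0)) (.nd (.lf 0) (.lf 0))) (.nd (.nd (.lf 0) (.lf 0)) (.nd (.lf 0) (.lf 0)))) (.nd (.nd (.nd (.lf 0) (.lf 0)) (.nd (.lf 0) (.lf 0))) (.nd (.nd (.lf 0) (.lf 0)) (.nd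 (.lf 0) (.lf 0))))) (.nd (.nd (.nd (.nd (.lf 0) (.lf 0)) (.nd (.lf 0) (.lf 0))) (.nd (.nd (.lf 0) (.lf 0)) (.nd (.lf 0) (.lf 0)))) (.nd (.nd (.nd (.lf 0) (.lf 0)) (.nd (.lf 0) (.lf 0))) (.nd (.nd (.lf 0) (.lf 0)) (.nd (.lf 0) (.lf 0))))))))) (.nd (.nd (.nd (.nd (.nd (.nd (.nd (.nd (.lf 0) (.lf 0)) (.nd (.lf 0) (.lf 0))) (.nd (.nd (.lf 0) (.lf 0)) (.nd (.lf 0) (.lf 0)))) (.nd (.nd (.nd (.lf 0) (.lf 0)) (.nd (.lf 0) (.lf 0))) (.nd (.nd (.lf 0) (.lf 0)) (.nd (.lf 0) (.lf 0))))) (.nd (.nd (.nd (.nd (.lf 0) (.lf 0)) (.nd (.lf 0) (.lf 0))) (.nd (.nd (.lf 0) (.lf 0)) (.nd (.lf 0) (.lf 0)))) (.nd (.nd (.nd (.lf 0) (.lf 0)) (.nd (.lf 0) (.lf 0))) (.nd (.nd (.lf 0) (.lf 0)) (.nd (.lf 0) (.lf 0)))))) (.nd (.nd (.nd (.nd (.nd (.lf 0) (.lf 0)) (.nd (.lf 0) (.lf 0))) (.nd (.nd (.lf 0) (.lf 0)) (.nd (.lf 0) (.lf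 0)))) (.nd (.nd (.nd (.lf 0) (.lf 0)) (.nd (.lf 0) (.lf 0))) (.nd (.nd (.lf 0) (.lf 0)) (.nd (.lf 0) (.lf 0))))) (.nd (.nd (.nd (.nd (.lf 0) (.lf 0)) (.nd (.lf 0) (.lf 0))) (.nd (.nd (.lf 0) (.lf 0)) (.nd (.lf 0) (.lf 0)))) (.nd (.nd (.nd (.lf 0) (.lf 0)) (.nd (.lf 0) (.lf 0))) (.nd (.nd (.lf 0) (.lf 0)) (.nd (.lf 0) (.lf 0))))))) (.nd (.nd (.nd (.nd (.nd (.nd (.lf 0) (.lf 0)) (.nd (.lf 0) (.lf 0))) (.nd (.nd (.lf 0) (.lf 0)) (.nd (.lf 0) (.lf 0)))) (.nd (.nd (.nd (.lf 0) (.lf 0)) (.nd (.lf 0) (.lf 0))) (.nd (.nd (.lf 0) (.lf 0)) (.nd (.lf 0) (.lf 0))))) (.nd (.nd (.nd (.nd (.lf 0) (.lf 0)) (.nd (.lf 0) (.lf 0))) (.nd (.nd (.lf 0) (.lf 0)) (.nd (.lf 0) (.lf 0)))) (.nd (.nd (.nd (.lf 0) (.lf 0)) (.nd (.lf 0) (.lf 0))) (.nd (.nd (.lf 0) (.lf 0)) (.nd (.lf 0) (.lf 0)))))) (.nd (.nd (.nd (.nd (.nd (.lf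 0) (.lf 0)) (.nd (.lf 0) (.lf 0))) (.nd (.nd (.lf 0) (.lf 0)) (.nd (.lf 0) (.lf 0)))) (.nd (.nd (.nd (.lf 0) (.lf 0)) (.nd (.lf 0) (.lf 0))) (.nd (.nd (.lf 0) (.lf 0)) (.nd (.lf 0) (.lf 0))))) (.nd (.nd (.nd (.nd (.lf 0) (.lf 0)) (.nd (.lf 0) (.lf 0))) (.nd (.nd (.lf 0) (.lf 0)) (.nd (.lf 0) (.lf 0)))) (.nd (.nd (.nd (.lf 0) (.lf 0)) (.nd (.lf 0) (.lf 0))) (.nd (.nd (.lf 0) (.lf 0)) (.nd (.lf 0) (.lf 0)))))))) (.nd (.nd (.nd (.nd (.nd (.nd (.nd (.lf 0) (.lf 0)) (.nd (.lf 0) (.lf 0))) (.nd (.nd (.lf 0) (.lf 0)) (.nd (.lf 0) (.lf 0)))) (.nd (.nd (.nd (.lf 0) (.lf 0)) (.nd (.lf 0) (.lf 0))) (.nd (.nd (.lf 0) (.lf 0)) (.nd (.lf 0) (.lf 0))))) (.nd (.nd (.nd (.nd (.lf 0) (.lf 0)) (.nd (.lf 0) (.lf 0))) (.nd (.nd (.lf 0) (.lf 0)) (.nd (.lf 0) (.lf 0)))) (.nd (.nd (.nd (.lf 0) (.lf 0)) (.nd (.lf 0) (.lf 0)))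 (.nd (.nd (.lf 0) (.lf 0)) (.nd (.lf 18) (.lf 0)))))) (.nd (.nd (.nd (.nd (.nd (.lf 0) (.lf 0)) (.nd (.lf 116) (.lf 0))) (.nd (.nd (.lf 0) (.lf 0)) (.nd (.lf 0) (.lf 0)))) (.nd (.nd (.nd (.lf 0) (.lf 0)) (.nd (.lf 0) (.lf 0))) (.nd (.nd (.lf 0) (.lf 0)) (.nd (.lf 0) (.lf 0))))) (.nd (.nd (.nd (.nd (.lf 0) (.lf 0)) (.nd (.lf 0) (.lf 0))) (.nd (.nd (.lf 0) (.lf 0)) (.nd (.lf 0) (.lf 0)))) (.nd (.nd (.nd (.lf 0) (.lf 0)) (.nd (.lf 0) (.lf 0))) (.nd (.nd (.lf 0) (.lf 0)) (.nd (.lf 0) (.lf 0))))))) (.nd (.nd (.nd (.nd (.nd (.nd (.lf 0) (.lf 0)) (.nd (.lf 0) (.lf 0))) (.nd (.nd (.lf 0) (.lf 0)) (.nd (.lf 0) (.lf 0)))) (.nd (.nd (.nd (.lf 0) (.lf 0)) (.nd (.lf 0) (.lf 0))) (.nd (.nd (.lf 0) (.lf 0)) (.nd (.lf 0) (.lf 0))))) (.nd (.nd (.nd (.nd (.lf 0) (.lf 0)) (.nd (.lf 0) (.lf 0))) (.nd (.nd (.lf 0) (.lf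 0)) (.nd (.lf 0) (.lf 0)))) (.nd (.nd (.nd (.lf 0) (.lf 0)) (.nd (.lf 0) (.lf 0))) (.nd (.nd (.lf 0) (.lf 0)) (.nd (.lf 0) (.lf 0)))))) (.nd (.nd (.nd (.nd (.nd (.lf 0) (.lf 0)) (.nd (.lf 0) (.lf 0))) (.nd (.nd (.lf 0) (.lf 0)) (.nd (.lf 0) (.lf 0)))) (.nd (.nd (.nd (.lf 0) (.lf 0)) (.nd (.lf 0) (.lf 0))) (.nd (.nd (.lf 0) (.lf 0)) (.nd (.lf 0) (.lf 0))))) (.nd (.nd (.nd (.nd (.lf 0) (.lf 0)) (.nd (.lf 0) (.lf 0))) (.nd (.nd (.lf 0) (.lf 0)) (.nd (.lf 0) (.lf 0)))) (.nd (.nd (.nd (.lf 0) (.lf 0)) (.nd (.lf 0) (.lf 0))) (.nd (.nd (.lf 0) (.lf 0)) (.nd (.lf 0) (.lf 0))))))))))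

/-- table part -/
def tabT_9 : Tr :=
  .nd (.nd (.nd (.nd (.nd (.nd (.nd (.nd (.nd (.nd (.lf 0) (.lf 0)) (.nd (.lf 0) (.lf 0))) (.nd (.nd (.lf 0) (.lf 0)) (.nd (.lf 0) (.lf 0)))) (.nd (.nd (.nd (.lf 0) (.lf 0)) (.nd (.lf 0) (.lf 0))) (.nd (.nd (.lf 0) (.lf 0)) (.nd (.lf 0) (.lf 0))))) (.nd (.nd (.nd (.nd (.lf 0) (.lf 0)) (.nd (.lf 0) (.lf 0))) (.nd (.nd (.lf 0) (.lf 0)) (.nd (.lf 0) (.lf 0)))) (.nd (.nd (.nd (.lf 90) (.lf 0)) (.nd (.lf 0) (.lf 0))) (.nd (.nd (.lf 0) (.lf 0)) (.nd (.lf 0) (.lf 0)))))) (.nd (.nd (.nd (.nd (.nd (.lf 0) (.lf 0)) (.nd (.lf 0) (.lf 0))) (.nd (.nd (.lf 0) (.lf 0)) (.nd (.lf 0) (.lf 0)))) (.nd (.nd (.nd (.lf 0) (.lf 0)) (.nd (.lf 0) (.lf 0))) (.nd (.nd (.lf 0) (.lf 0)) (.nd (.lf 0) (.lf 0))))) (.nd (.nd (.nd (.nd (.lf 0) (.lf 0)) (.nd (.lf 0) (.lf 0))) (.nd (.nd (.lf 0) (.lf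 0)) (.nd (.lf 0) (.lf 0)))) (.nd (.nd (.nd (.lf 0) (.lf 0)) (.nd (.lf 0) (.lf 0))) (.nd (.nd (.lf 0) (.lf 0)) (.nd (.lf 0) (.lf 0))))))) (.nd (.nd (.nd (.nd (.nd (.nd (.lf 0) (.lf 0)) (.nd (.lf 0) (.lf 0))) (.nd (.nd (.lf 0) (.lf 0)) (.nd (.lf 0) (.lf 0)))) (.nd (.nd (.nd (.lf 0) (.lf 0)) (.nd (.lf 0) (.lf 0))) (.nd (.nd (.lf 0) (.lf 0)) (.nd (.lf 0) (.lf 0))))) (.nd (.nd (.nd (.nd (.lf 0) (.lf 0)) (.nd (.lf 0) (.lf 0))) (.nd (.nd (.lf 0) (.lf 0)) (.nd (.lf 0) (.lf 0)))) (.nd (.nd (.nd (.lf 0) (.lf 0)) (.nd (.lf 0) (.lf 0))) (.nd (.nd (.lf 0) (.lf 0)) (.nd (.lf 0) (.lf 0)))))) (.nd (.nd (.nd (.nd (.nd (.lf 0) (.lf 0)) (.nd (.lf 0) (.lf 0))) (.nd (.nd (.lf 0) (.lf 0)) (.nd (.lf 0) (.lf 0)))) (.nd (.nd (.nd (.lf 0) (.lf 0)) (.nd (.lf 0) (.lf 0))) (.nd (.nd (.lf 0) (.lf 0)) (.nd (.lf 0) (.lf 0))))) (.nd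 (.nd (.nd (.nd (.lf 0) (.lf 0)) (.nd (.lf 0) (.lf 0))) (.nd (.nd (.lf 0) (.lf 0)) (.nd (.lf 0) (.lf 0)))) (.nd (.nd (.nd (.lf 0) (.lf 0)) (.nd (.lf 0) (.lf 0))) (.nd (.nd (.lf 0) (.lf 0)) (.nd (.lf 0) (.lf 0)))))))) (.nd (.nd (.nd (.nd (.nd (.nd (.nd (.lf 0) (.lf 0)) (.nd (.lf 0) (.lf 0))) (.nd (.nd (.lf 0) (.lf 0)) (.nd (.lf 0) (.lf 0)))) (.nd (.nd (.nd (.lf 0) (.lf 0)) (.nd (.lf 0) (.lf 0))) (.nd (.nd (.lf 0) (.lf 0)) (.nd (.lf 0) (.lf 0))))) (.nd (.nd (.nd (.nd (.lf 0) (.lf 0)) (.nd (.lf 0) (.lf 0))) (.nd (.nd (.lf 0) (.lf 0)) (.nd (.lf 0) (.lf 0)))) (.nd (.nd (.nd (.lf 0) (.lf 0)) (.nd (.lf 0) (.lf 0))) (.nd (.nd (.lf 0) (.lf 0)) (.nd (.lf 0) (.lf 0)))))) (.nd (.nd (.nd (.nd (.nd (.lf 0) (.lf 0)) (.nd (.lf 0) (.lf 0))) (.nd (.nd (.lf 0) (.lf 0)) (.nd (.lf 0) (.lf 0)))) (.nd (.nd (.nd (.lf 0) (.lf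 0)) (.nd (.lf 0) (.lf 0))) (.nd (.nd (.lf 0) (.lf 0)) (.nd (.lf 0) (.lf 0))))) (.nd (.nd (.nd (.nd (.lf 0) (.lf 0)) (.nd (.lf 0) (.lf 0))) (.nd (.nd (.lf 0) (.lf 0)) (.nd (.lf 0) (.lf 0)))) (.nd (.nd (.nd (.lf 0) (.lf 0)) (.nd (.lf 0) (.lf 0))) (.nd (.nd (.lf 0) (.lf 0)) (.nd (.lf 0) (.lf 0))))))) (.nd (.nd (.nd (.nd (.nd (.nd (.lf 0) (.lf 0)) (.nd (.lf 0) (.lf 0))) (.nd (.nd (.lf 0) (.lf 0)) (.nd (.lf 0) (.lf 0)))) (.nd (.nd (.nd (.lf 0) (.lf 0)) (.nd (.lf 0) (.lf 0))) (.nd (.nd (.lf 0) (.lf 0)) (.nd (.lf 0) (.lf 0))))) (.nd (.nd (.nd (.nd (.lf 0) (.lf 0)) (.nd (.lf 0) (.lf 0))) (.nd (.nd (.lf 0) (.lf 0)) (.nd (.lf 0) (.lf 0)))) (.nd (.nd (.nd (.lf 0) (.lf 0)) (.nd (.lf 0) (.lf 0))) (.nd (.nd (.lf 0) (.lf 0)) (.nd (.lf 0) (.lf 0)))))) (.nd (.nd (.nd (.nd (.nd (.lf 0) (.lf 0)) (.nd (.lf 62) (.lf 0)))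 (.nd (.nd (.lf 0) (.lf 0)) (.nd (.lf 0) (.lf 0)))) (.nd (.nd (.nd (.lf 54) (.lf 0)) (.nd (.lf 0) (.lf 0))) (.nd (.nd (.lf 0) (.lf 0)) (.nd (.lf 0) (.lf 0))))) (.nd (.nd (.nd (.nd (.lf 0) (.lf 0)) (.nd (.lf 0) (.lf 0))) (.nd (.nd (.lf 0) (.lf 0)) (.nd (.lf 0) (.lf 0)))) (.nd (.nd (.nd (.lf 0) (.lf 0)) (.nd (.lf 0) (.lf 0))) (.nd (.nd (.lf 0) (.lf 0)) (.nd (.lf 0) (.lf 0))))))))) (.nd (.nd (.nd (.nd (.nd (.nd (.nd (.nd (.lf 0) (.lf 0)) (.nd (.lf 0) (.lf 0))) (.nd (.nd (.lf 0) (.lf 0)) (.nd (.lf 0) (.lf 0)))) (.nd (.nd (.nd (.lf 0) (.lf 0)) (.nd (.lf 0) (.lf 0))) (.nd (.nd (.lf 0) (.lf 0)) (.nd (.lf 0) (.lf 0))))) (.nd (.nd (.nd (.nd (.lf 0) (.lf 0)) (.nd (.lf 0) (.lf 0))) (.nd (.nd (.lf 0) (.lf 0)) (.nd (.lf 0) (.lf 0)))) (.nd (.nd (.nd (.lf 0) (.lf 0)) (.nd (.lf 0) (.lf 0))) (.nd (.nd (.lf 0) (.lf 0))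 (.nd (.lf 0) (.lf 0)))))) (.nd (.nd (.nd (.nd (.nd (.lf 0) (.lf 0)) (.nd (.lf 0) (.lf 0))) (.nd (.nd (.lf 0) (.lf 0)) (.nd (.lf 0) (.lf 0)))) (.nd (.nd (.nd (.lf 0) (.lf 0)) (.nd (.lf 0) (.lf 0))) (.nd (.nd (.lf 0) (.lf 0)) (.nd (.lf 0) (.lf 0))))) (.nd (.nd (.nd (.nd (.lf 0) (.lf 0)) (.nd (.lf 0) (.lf 0))) (.nd (.nd (.lf 0) (.lf 0)) (.nd (.lf 0) (.lf 0)))) (.nd (.nd (.nd (.lf 0) (.lf 0)) (.nd (.lf 0) (.lf 0))) (.nd (.nd (.lf 0) (.lf 0)) (.nd (.lf 86) (.lf 0))))))) (.nd (.nd (.nd (.nd (.nd (.nd (.lf 0) (.lf 0)) (.nd (.lf 0) (.lf 0))) (.nd (.nd (.lf 0) (.lf 0)) (.nd (.lf 0) (.lf 0)))) (.nd (.nd (.nd (.lf 0) (.lf 0)) (.nd (.lf 0) (.lf 0))) (.nd (.nd (.lf 0) (.lf 0)) (.nd (.lf 0) (.lf 0))))) (.nd (.nd (.nd (.nd (.lf 0) (.lf 0)) (.nd (.lf 0) (.lf 0))) (.nd (.nd (.lf 0) (.lf 0)) (.nd (.lf 0) (.lf 0))))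 (.nd (.nd (.nd (.lf 0) (.lf 0)) (.nd (.lf 0) (.lf 0))) (.nd (.nd (.lf 0) (.lf 0)) (.nd (.lf 0) (.lf 0)))))) (.nd (.nd (.nd (.nd (.nd (.lf 0) (.lf 0)) (.nd (.lf 0) (.lf 0))) (.nd (.nd (.lf 0) (.lf 0)) (.nd (.lf 0) (.lf 0)))) (.nd (.nd (.nd (.lf 0) (.lf 0)) (.nd (.lf 0) (.lf 0))) (.nd (.nd (.lf 0) (.lf 0)) (.nd (.lf 0) (.lf 0))))) (.nd (.nd (.nd (.nd (.lf 0) (.lf 0)) (.nd (.lf 0) (.lf 0))) (.nd (.nd (.lf 0) (.lf 0)) (.nd (.lf 0) (.lf 0)))) (.nd (.nd (.nd (.lf 0) (.lf 0)) (.nd (.lf 0) (.lf 0))) (.nd (.nd (.lf 0) (.lf 0)) (.nd (.lf 0) (.lf 0)))))))) (.nd (.nd (.nd (.nd (.nd (.nd (.nd (.lf 0) (.lf 0)) (.nd (.lf 0) (.lf 0))) (.nd (.nd (.lf 0) (.lf 0)) (.nd (.lf 0) (.lf 0)))) (.nd (.nd (.nd (.lf 0) (.lf 0)) (.nd (.lf 0) (.lf 0))) (.nd (.nd (.lf 0) (.lf 0)) (.nd (.lf 0) (.lf 0))))) (.nd (.nd (.nd (.nd (.lf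 0) (.lf 0)) (.nd (.lf 0) (.lf 0))) (.nd (.nd (.lf 0) (.lf 0)) (.nd (.lf 0) (.lf 0)))) (.nd (.nd (.nd (.lf 0) (.lf 0)) (.nd (.lf 0) (.lf 0))) (.nd (.nd (.lf 0) (.lf 0)) (.nd (.lf 0) (.lf 0)))))) (.nd (.nd (.nd (.nd (.nd (.lf 0) (.lf 0)) (.nd (.lf 0) (.lf 0))) (.nd (.nd (.lf 0) (.lf 0)) (.nd (.lf 0) (.lf 0)))) (.nd (.nd (.nd (.lf 0) (.lf 0)) (.nd (.lf 0) (.lf 0))) (.nd (.nd (.lf 0) (.lf 0)) (.nd (.lf 0) (.lf 0))))) (.nd (.nd (.nd (.nd (.lf 27) (.lf 0)) (.nd (.lf 0) (.lf 0))) (.nd (.nd (.lf 0) (.lf 0)) (.nd (.lf 0) (.lf 0)))) (.nd (.nd (.nd (.lf 0) (.lf 0)) (.nd (.lf 0) (.lf 0))) (.nd (.nd (.lf 0) (.lf 0)) (.nd (.lf 0) (.lf 0))))))) (.nd (.nd (.nd (.nd (.nd (.nd (.lf 0) (.lf 0)) (.nd (.lf 0) (.lf 0))) (.nd (.nd (.lf 0) (.lf 0)) (.nd (.lf 0) (.lf 0)))) (.nd (.nd (.nd (.lf 0) (.lf 0)) (.nd (.lf 0) (.lf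 0))) (.nd (.nd (.lf 0) (.lf 0)) (.nd (.lf 0) (.lf 0))))) (.nd (.nd (.nd (.nd (.lf 0) (.lf 0)) (.nd (.lf 0) (.lf 0))) (.nd (.nd (.lf 0) (.lf 0)) (.nd (.lf 0) (.lf 0)))) (.nd (.nd (.nd (.lf 0) (.lf 0)) (.nd (.lf 0) (.lf 0))) (.nd (.nd (.lf 0) (.lf 0)) (.nd (.lf 0) (.lf 0)))))) (.nd (.nd (.nd (.nd (.nd (.lf 0) (.lf 0)) (.nd (.lf 0) (.lf 0))) (.nd (.nd (.lf 0) (.lf 0)) (.nd (.lf 0) (.lf 0)))) (.nd (.nd (.nd (.lf 0) (.lf 0)) (.nd (.lf 0) (.lf 0))) (.nd (.nd (.lf 0) (.lf 0)) (.nd (.lf 0) (.lf 0))))) (.nd (.nd (.nd (.nd (.lf 0) (.lf 0)) (.nd (.lf 0) (.lf 0))) (.nd (.nd (.lf 0) (.lf 0)) (.nd (.lf 0) (.lf 0)))) (.nd (.nd (.nd (.lf 0) (.lf 0)) (.nd (.lf 0) (.lf 0))) (.nd (.nd (.lf 0) (.lf 0)) (.nd (.lf 0) (.lf 0)))))))))) (.nd (.nd (.nd (.nd (.nd (.nd (.nd (.nd (.nd (.lf 0) (.lf 0)) (.nd (.lf 0) (.lf 0))) (.nd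 (.nd (.lf 0) (.lf 0)) (.nd (.lf 0) (.lf 0)))) (.nd (.nd (.nd (.lf 0) (.lf 0)) (.nd (.lf 0) (.lf 0))) (.nd (.nd (.lf 115) (.lf 0)) (.nd (.lf 0) (.lf 0))))) (.nd (.nd (.nd (.nd (.lf 0) (.lf 0)) (.nd (.lf 0) (.lf 0))) (.nd (.nd (.lf 0) (.lf 0)) (.nd (.lf 0) (.lf 0)))) (.nd (.nd (.nd (.lf 0) (.lf 0)) (.nd (.lf 0) (.lf 0))) (.nd (.nd (.lf 0) (.lf 0)) (.nd (.lf 0) (.lf 0)))))) (.nd (.nd (.nd (.nd (.nd (.lf 0) (.lf 0)) (.nd (.lf 0) (.lf 0))) (.nd (.nd (.lf 0) (.lf 0)) (.nd (.lf 0) (.lf 0)))) (.nd (.nd (.nd (.lf 0) (.lf 0)) (.nd (.lf 0) (.lf 0))) (.nd (.nd (.lf 0) (.lf 0)) (.nd (.lf 0) (.lf 0))))) (.nd (.nd (.nd (.nd (.lf 0) (.lf 0)) (.nd (.lf 0) (.lf 0))) (.nd (.nd (.lf 0) (.lf 0)) (.nd (.lf 0) (.lf 0)))) (.nd (.nd (.nd (.lf 0) (.lf 0)) (.nd (.lf 0) (.lf 0))) (.nd (.nd (.lf 0) (.lf 0)) (.nd (.lf 0) (.lf 0)))))))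 (.nd (.nd (.nd (.nd (.nd (.nd (.lf 0) (.lf 0)) (.nd (.lf 0) (.lf 0))) (.nd (.nd (.lf 0) (.lf 0)) (.nd (.lf 0) (.lf 0)))) (.nd (.nd (.nd (.lf 0) (.lf 0)) (.nd (.lf 0) (.lf 0))) (.nd (.nd (.lf 0) (.lf 0)) (.nd (.lf 0) (.lf 0))))) (.nd (.nd (.nd (.nd (.lf 0) (.lf 0)) (.nd (.lf 0) (.lf 0))) (.nd (.nd (.lf 0) (.lf 0)) (.nd (.lf 0) (.lf 0)))) (.nd (.nd (.nd (.lf 0) (.lf 0)) (.nd (.lf 0) (.lf 0))) (.nd (.nd (.lf 0) (.lf 0)) (.nd (.lf 0) (.lf 0)))))) (.nd (.nd (.nd (.nd (.nd (.lf 0) (.lf 0)) (.nd (.lf 0) (.lf 0))) (.nd (.nd (.lf 0) (.lf 0)) (.nd (.lf 0) (.lf 0)))) (.nd (.nd (.nd (.lf 0) (.lf 0)) (.nd (.lf 0) (.lf 0))) (.nd (.nd (.lf 0) (.lf 0)) (.nd (.lf 0) (.lf 0))))) (.nd (.nd (.nd (.nd (.lf 0) (.lf 0)) (.nd (.lf 0) (.lf 0))) (.nd (.nd (.lf 0) (.lf 0)) (.nd (.lf 0) (.lf 0)))) (.nd (.nd (.nd (.lf 0) (.lf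 0)) (.nd (.lf 0) (.lf 0))) (.nd (.nd (.lf 0) (.lf 0)) (.nd (.lf 0) (.lf 0)))))))) (.nd (.nd (.nd (.nd (.nd (.nd (.nd (.lf 0) (.lf 0)) (.nd (.lf 0) (.lf 0))) (.nd (.nd (.lf 0) (.lf 0)) (.nd (.lf 0) (.lf 0)))) (.nd (.nd (.nd (.lf 0) (.lf 0)) (.nd (.lf 0) (.lf 0))) (.nd (.nd (.lf 0) (.lf 0)) (.nd (.lf 0) (.lf 0))))) (.nd (.nd (.nd (.nd (.lf 0) (.lf 0)) (.nd (.lf 0) (.lf 0))) (.nd (.nd (.lf 0) (.lf 0)) (.nd (.lf 0) (.lf 0)))) (.nd (.nd (.nd (.lf 0) (.lf 0)) (.nd (.lf 0) (.lf 0))) (.nd (.nd (.lf 0) (.lf 0)) (.nd (.lf 0) (.lf 0)))))) (.nd (.nd (.nd (.nd (.nd (.lf 0) (.lf 0)) (.nd (.lf 0) (.lf 0))) (.nd (.nd (.lf 0) (.lf 0)) (.nd (.lf 0) (.lf 0)))) (.nd (.nd (.nd (.lf 0) (.lf 0)) (.nd (.lf 0) (.lf 0))) (.nd (.nd (.lf 0) (.lf 0)) (.nd (.lf 0) (.lf 0))))) (.nd (.nd (.nd (.nd (.lf 0) (.lf 0)) (.nd (.lf 0) (.lf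 0))) (.nd (.nd (.lf 0) (.lf 0)) (.nd (.lf 0) (.lf 0)))) (.nd (.nd (.nd (.lf 0) (.lf 0)) (.nd (.lf 0) (.lf 0))) (.nd (.nd (.lf 0) (.lf 0)) (.nd (.lf 0) (.lf 0))))))) (.nd (.nd (.nd (.nd (.nd (.nd (.lf 0) (.lf 0)) (.nd (.lf 0) (.lf 0))) (.nd (.nd (.lf 91) (.lf 0)) (.nd (.lf 0) (.lf 0)))) (.nd (.nd (.nd (.lf 0) (.lf 0)) (.nd (.lf 0) (.lf 0))) (.nd (.nd (.lf 0) (.lf 0)) (.nd (.lf 0) (.lf 0))))) (.nd (.nd (.nd (.nd (.lf 0) (.lf 0)) (.nd (.lf 0) (.lf 0))) (.nd (.nd (.lf 0) (.lf 0)) (.nd (.lf 0) (.lf 0)))) (.nd (.nd (.nd (.lf 0) (.lf 0)) (.nd (.lf 0) (.lf 0))) (.nd (.nd (.lf 0) (.lf 0)) (.nd (.lf 0) (.lf 0)))))) (.nd (.nd (.nd (.nd (.nd (.lf 0) (.lf 0)) (.nd (.lf 0) (.lf 0))) (.nd (.nd (.lf 0) (.lf 0)) (.nd (.lf 0) (.lf 0)))) (.nd (.nd (.nd (.lf 0) (.lf 0)) (.nd (.lf 0) (.lf 0))) (.nd (.nd (.lf 0) (.lf 0))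 (.nd (.lf 0) (.lf 0))))) (.nd (.nd (.nd (.nd (.lf 0) (.lf 0)) (.nd (.lf 0) (.lf 0))) (.nd (.nd (.lf 0) (.lf 0)) (.nd (.lf 0) (.lf 0)))) (.nd (.nd (.nd (.lf 0) (.lf 0)) (.nd (.lf 0) (.lf 0))) (.nd (.nd (.lf 0) (.lf 0)) (.nd (.lf 0) (.lf 0))))))))) (.nd (.nd (.nd (.nd (.nd (.nd (.nd (.nd (.lf 0) (.lf 0)) (.nd (.lf 0) (.lf 0))) (.nd (.nd (.lf 0) (.lf 0)) (.nd (.lf 0) (.lf 0)))) (.nd (.nd (.nd (.lf 0) (.lf 0)) (.nd (.lf 0) (.lf 0))) (.nd (.nd (.lf 0) (.lf 0)) (.nd (.lf 0) (.lf 0))))) (.nd (.nd (.nd (.nd (.lf 0) (.lf 0)) (.nd (.lf 0) (.lf 0))) (.nd (.nd (.lf 0) (.lf 0)) (.nd (.lf 0) (.lf 0)))) (.nd (.nd (.nd (.lf 0) (.lf 0)) (.nd (.lf 0) (.lf 0))) (.nd (.nd (.lf 0) (.lf 0)) (.nd (.lf 0) (.lf 0)))))) (.nd (.nd (.nd (.nd (.nd (.lf 0) (.lf 0)) (.nd (.lf 0) (.lf 0))) (.nd (.nd (.lf 0) (.lf 0)) (.nd (.lf 0)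 (.lf 0)))) (.nd (.nd (.nd (.lf 0) (.lf 0)) (.nd (.lf 0) (.lf 0))) (.nd (.nd (.lf 0) (.lf 0)) (.nd (.lf 0) (.lf 0))))) (.nd (.nd (.nd (.nd (.lf 0) (.lf 0)) (.nd (.lf 0) (.lf 0))) (.nd (.nd (.lf 0) (.lf 0)) (.nd (.lf 0) (.lf 0)))) (.nd (.nd (.nd (.lf 0) (.lf 0)) (.nd (.lf 0) (.lf 0))) (.nd (.nd (.lf 0) (.lf 0)) (.nd (.lf 0) (.lf 0))))))) (.nd (.nd (.nd (.nd (.nd (.nd (.lf 0) (.lf 0)) (.nd (.lf 0) (.lf 0))) (.nd (.nd (.lf 0) (.lf 0)) (.nd (.lf 0) (.lf 0)))) (.nd (.nd (.nd (.lf 0) (.lf 0)) (.nd (.lf 0) (.lf 0))) (.nd (.nd (.lf 0) (.lf 0)) (.nd (.lf 0) (.lf 0))))) (.nd (.nd (.nd (.nd (.lf 0) (.lf 0)) (.nd (.lf 0) (.lf 0))) (.nd (.nd (.lf 0) (.lf 0)) (.nd (.lf 0) (.lf 0)))) (.nd (.nd (.nd (.lf 0) (.lf 0)) (.nd (.lf 0) (.lf 0))) (.nd (.nd (.lf 0) (.lf 0)) (.nd (.lf 0) (.lf 0)))))) (.nd (.nd (.nd (.nd (.nd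 (.lf 0) (.lf 0)) (.nd (.lf 0) (.lf 0))) (.nd (.nd (.lf 0) (.lf 0)) (.nd (.lf 0) (.lf 0)))) (.nd (.nd (.nd (.lf 0) (.lf 0)) (.nd (.lf 0) (.lf 0))) (.nd (.nd (.lf 0) (.lf 0)) (.nd (.lf 0) (.lf 0))))) (.nd (.nd (.nd (.nd (.lf 0) (.lf 0)) (.nd (.lf 0) (.lf 0))) (.nd (.nd (.lf 0) (.lf 0)) (.nd (.lf 0) (.lf 0)))) (.nd (.nd (.nd (.lf 0) (.lf 0)) (.nd (.lf 0) (.lf 0))) (.nd (.nd (.lf 0) (.lf 0)) (.nd (.lf 0) (.lf 0)))))))) (.nd (.nd (.nd (.nd (.nd (.nd (.nd (.lf 0) (.lf 0)) (.nd (.lf 0) (.lf 0))) (.nd (.nd (.lf 0) (.lf 0)) (.nd (.lf 0) (.lf 0)))) (.nd (.nd (.nd (.lf 0) (.lf 0)) (.nd (.lf 0) (.lf 0))) (.nd (.nd (.lf 0) (.lf 0)) (.nd (.lf 0) (.lf 0))))) (.nd (.nd (.nd (.nd (.lf 0) (.lf 0)) (.nd (.lf 0) (.lf 0))) (.nd (.nd (.lf 0) (.lf 0)) (.nd (.lf 0) (.lf 0)))) (.nd (.nd (.nd (.lf 0) (.lf 0)) (.nd (.lf 0) (.lf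 0))) (.nd (.nd (.lf 0) (.lf 0)) (.nd (.lf 0) (.lf 0)))))) (.nd (.nd (.nd (.nd (.nd (.lf 0) (.lf 0)) (.nd (.lf 0) (.lf 0))) (.nd (.nd (.lf 0) (.lf 0)) (.nd (.lf 0) (.lf 0)))) (.nd (.nd (.nd (.lf 0) (.lf 0)) (.nd (.lf 0) (.lf 0))) (.nd (.nd (.lf 0) (.lf 0)) (.nd (.lf 0) (.lf 0))))) (.nd (.nd (.nd (.nd (.lf 0) (.lf 0)) (.nd (.lf 0) (.lf 0))) (.nd (.nd (.lf 0) (.lf 0)) (.nd (.lf 0) (.lf 0)))) (.nd (.nd (.nd (.lf 0) (.lf 0)) (.nd (.lf 0) (.lf 0))) (.nd (.nd (.lf 60) (.lf 0)) (.nd (.lf 0) (.lf 0))))))) (.nd (.nd (.nd (.nd (.nd (.nd (.lf 0) (.lf 0)) (.nd (.lf 0) (.lf 0))) (.nd (.nd (.lf 0) (.lf 0)) (.nd (.lf 0) (.lf 0)))) (.nd (.nd (.nd (.lf 0) (.lf 0)) (.nd (.lf 0) (.lf 0))) (.nd (.nd (.lf 0) (.lf 0)) (.nd (.lf 0) (.lf 0))))) (.nd (.nd (.nd (.nd (.lf 0) (.lf 0)) (.nd (.lf 0) (.lf 0))) (.nd (.nd (.lf 0) (.lf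 0)) (.nd (.lf 0) (.lf 0)))) (.nd (.nd (.nd (.lf 0) (.lf 0)) (.nd (.lf 0) (.lf 0))) (.nd (.nd (.lf 0) (.lf 0)) (.nd (.lf 0) (.lf 0)))))) (.nd (.nd (.nd (.nd (.nd (.lf 0) (.lf 0)) (.nd (.lf 0) (.lf 0))) (.nd (.nd (.lf 0) (.lf 0)) (.nd (.lf 0) (.lf 0)))) (.nd (.nd (.nd (.lf 0) (.lf 0)) (.nd (.lf 0) (.lf 0))) (.nd (.nd (.lf 0) (.lf 0)) (.nd (.lf 0) (.lf 0))))) (.nd (.nd (.nd (.nd (.lf 0) (.lf 0)) (.nd (.lf 0) (.lf 0))) (.nd (.nd (.lf 0) (.lf 0)) (.nd (.lf 0) (.lf 0)))) (.nd (.nd (.nd (.lf 0) (.lf 0)) (.nd (.lf 0) (.lf 0))) (.nd (.nd (.lf 0) (.lf 0)) (.nd (.lf 0) (.lf 0))))))))))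

/-- table part -/
def tabT_10 : Tr :=
  .nd (.nd (.nd (.nd (.nd (.nd (.nd (.nd (.nd (.nd (.lf 0) (.lf 0)) (.nd (.lf 0) (.lf 0))) (.nd (.nd (.lf 0) (.lf 0)) (.nd (.lf 0) (.lf 0)))) (.nd (.nd (.nd (.lf 0) (.lf 0)) (.nd (.lf 0) (.lf 0))) (.nd (.nd (.lf 0) (.lf 0)) (.nd (.lf 0) (.lf 0))))) (.nd (.nd (.nd (.nd (.lf 0) (.lf 0)) (.nd (.lf 0) (.lf 0))) (.nd (.nd (.lf 0) (.lf 0)) (.nd (.lf 0) (.lf 0)))) (.nd (.nd (.nd (.lf 0) (.lf 0)) (.nd (.lf 0) (.lf 0))) (.nd (.nd (.lf 0) (.lf 0)) (.nd (.lf 0) (.lf 0)))))) (.nd (.nd (.nd (.nd (.nd (.lf 0) (.lf 0)) (.nd (.lf 34) (.lf 0))) (.nd (.nd (.lf 0) (.lf 0)) (.nd (.lf 51) (.lf 0)))) (.nd (.nd (.nd (.lf 0) (.lf 0)) (.nd (.lf 0) (.lf 0))) (.nd (.nd (.lf 0) (.lf 0)) (.nd (.lf 0) (.lf 0))))) (.nd (.nd (.nd (.nd (.lf 0) (.lf 0)) (.nd (.lf 0) (.lf 0))) (.nd (.nd (.lf 0)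 (.lf 0)) (.nd (.lf 0) (.lf 0)))) (.nd (.nd (.nd (.lf 0) (.lf 0)) (.nd (.lf 0) (.lf 0))) (.nd (.nd (.lf 0) (.lf 0)) (.nd (.lf 0) (.lf 0))))))) (.nd (.nd (.nd (.nd (.nd (.nd (.lf 0) (.lf 0)) (.nd (.lf 0) (.lf 0))) (.nd (.nd (.lf 0) (.lf 0)) (.nd (.lf 0) (.lf 0)))) (.nd (.nd (.nd (.lf 0) (.lf 0)) (.nd (.lf 0) (.lf 0))) (.nd (.nd (.lf 0) (.lf 0)) (.nd (.lf 0) (.lf 0))))) (.nd (.nd (.nd (.nd (.lf 0) (.lf 0)) (.nd (.lf 0) (.lf 0))) (.nd (.nd (.lf 0) (.lf 0)) (.nd (.lf 0) (.lf 0)))) (.nd (.nd (.nd (.lf 0) (.lf 0)) (.nd (.lf 0) (.lf 0))) (.nd (.nd (.lf 0) (.lf 0)) (.nd (.lf 0) (.lf 0)))))) (.nd (.nd (.nd (.nd (.nd (.lf 0) (.lf 0)) (.nd (.lf 0) (.lf 0))) (.nd (.nd (.lf 0) (.lf 0)) (.nd (.lf 0) (.lf 0)))) (.nd (.nd (.nd (.lf 0) (.lf 0)) (.nd (.lf 0) (.lf 0))) (.nd (.nd (.lf 0) (.lf 0)) (.nd (.lf 0) (.lf 0)))))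 (.nd (.nd (.nd (.nd (.lf 0) (.lf 0)) (.nd (.lf 0) (.lf 0))) (.nd (.nd (.lf 0) (.lf 0)) (.nd (.lf 0) (.lf 0)))) (.nd (.nd (.nd (.lf 0) (.lf 0)) (.nd (.lf 0) (.lf 0))) (.nd (.nd (.lf 0) (.lf 0)) (.nd (.lf 0) (.lf 0)))))))) (.nd (.nd (.nd (.nd (.nd (.nd (.nd (.lf 0) (.lf 0)) (.nd (.lf 0) (.lf 0))) (.nd (.nd (.lf 0) (.lf 0)) (.nd (.lf 0) (.lf 0)))) (.nd (.nd (.nd (.lf 0) (.lf 0)) (.nd (.lf 0) (.lf 0))) (.nd (.nd (.lf 0) (.lf 0)) (.nd (.lf 0) (.lf 0))))) (.nd (.nd (.nd (.nd (.lf 0) (.lf 0)) (.nd (.lf 0) (.lf 0))) (.nd (.nd (.lf 0) (.lf 0)) (.nd (.lf 0) (.lf 0)))) (.nd (.nd (.nd (.lf 0) (.lf 0)) (.nd (.lf 0) (.lf 0))) (.nd (.nd (.lf 0) (.lf 0)) (.nd (.lf 0) (.lf 0)))))) (.nd (.nd (.nd (.nd (.nd (.lf 0) (.lf 0)) (.nd (.lf 0) (.lf 0))) (.nd (.nd (.lf 0) (.lf 0)) (.nd (.lf 0) (.lf 0)))) (.nd (.nd (.nd (.lf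 0) (.lf 0)) (.nd (.lf 0) (.lf 0))) (.nd (.nd (.lf 0) (.lf 0)) (.nd (.lf 0) (.lf 0))))) (.nd (.nd (.nd (.nd (.lf 0) (.lf 0)) (.nd (.lf 0) (.lf 0))) (.nd (.nd (.lf 0) (.lf 0)) (.nd (.lf 0) (.lf 0)))) (.nd (.nd (.nd (.lf 0) (.lf 0)) (.nd (.lf 0) (.lf 0))) (.nd (.nd (.lf 0) (.lf 0)) (.nd (.lf 0) (.lf 0))))))) (.nd (.nd (.nd (.nd (.nd (.nd (.lf 0) (.lf 0)) (.nd (.lf 0) (.lf 0))) (.nd (.nd (.lf 0) (.lf 0)) (.nd (.lf 0) (.lf 0)))) (.nd (.nd (.nd (.lf 0) (.lf 0)) (.nd (.lf 0) (.lf 0))) (.nd (.nd (.lf 0) (.lf 0)) (.nd (.lf 0) (.lf 0))))) (.nd (.nd (.nd (.nd (.lf 0) (.lf 0)) (.nd (.lf 0) (.lf 0))) (.nd (.nd (.lf 0) (.lf 0)) (.nd (.lf 0) (.lf 0)))) (.nd (.nd (.nd (.lf 0) (.lf 0)) (.nd (.lf 0) (.lf 0))) (.nd (.nd (.lf 0) (.lf 0)) (.nd (.lf 0) (.lf 0)))))) (.nd (.nd (.nd (.nd (.nd (.lf 0) (.lf 0)) (.nd (.lf 0)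 (.lf 0))) (.nd (.nd (.lf 0) (.lf 0)) (.nd (.lf 0) (.lf 0)))) (.nd (.nd (.nd (.lf 0) (.lf 0)) (.nd (.lf 0) (.lf 0))) (.nd (.nd (.lf 0) (.lf 0)) (.nd (.lf 0) (.lf 0))))) (.nd (.nd (.nd (.nd (.lf 0) (.lf 0)) (.nd (.lf 0) (.lf 0))) (.nd (.nd (.lf 0) (.lf 0)) (.nd (.lf 0) (.lf 0)))) (.nd (.nd (.nd (.lf 0) (.lf 0)) (.nd (.lf 0) (.lf 0))) (.nd (.nd (.lf 0) (.lf 0)) (.nd (.lf 0) (.lf 0))))))))) (.nd (.nd (.nd (.nd (.nd (.nd (.nd (.nd (.lf 0) (.lf 0)) (.nd (.lf 0) (.lf 0))) (.nd (.nd (.lf 0) (.lf 0)) (.nd (.lf 0) (.lf 0)))) (.nd (.nd (.nd (.lf 0) (.lf 0)) (.nd (.lf 0) (.lf 0))) (.nd (.nd (.lf 0) (.lf 0)) (.nd (.lf 0) (.lf 0))))) (.nd (.nd (.nd (.nd (.lf 0) (.lf 0)) (.nd (.lf 0) (.lf 0))) (.nd (.nd (.lf 0) (.lf 0)) (.nd (.lf 0) (.lf 0)))) (.nd (.nd (.nd (.lf 0) (.lf 0)) (.nd (.lf 0) (.lf 0))) (.nd (.nd (.lf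 0) (.lf 0)) (.nd (.lf 0) (.lf 0)))))) (.nd (.nd (.nd (.nd (.nd (.lf 0) (.lf 0)) (.nd (.lf 0) (.lf 0))) (.nd (.nd (.lf 0) (.lf 0)) (.nd (.lf 0) (.lf 0)))) (.nd (.nd (.nd (.lf 0) (.lf 0)) (.nd (.lf 0) (.lf 0))) (.nd (.nd (.lf 0) (.lf 0)) (.nd (.lf 0) (.lf 0))))) (.nd (.nd (.nd (.nd (.lf 0) (.lf 0)) (.nd (.lf 0) (.lf 0))) (.nd (.nd (.lf 0) (.lf 0)) (.nd (.lf 0) (.lf 0)))) (.nd (.nd (.nd (.lf 0) (.lf 0)) (.nd (.lf 0) (.lf 0))) (.nd (.nd (.lf 0) (.lf 0)) (.nd (.lf 0) (.lf 0))))))) (.nd (.nd (.nd (.nd (.nd (.nd (.lf 0) (.lf 0)) (.nd (.lf 0) (.lf 0))) (.nd (.nd (.lf 0) (.lf 0)) (.nd (.lf 0) (.lf 0)))) (.nd (.nd (.nd (.lf 0) (.lf 0)) (.nd (.lf 0) (.lf 0))) (.nd (.nd (.lf 0) (.lf 0)) (.nd (.lf 0) (.lf 0))))) (.nd (.nd (.nd (.nd (.lf 0) (.lf 0)) (.nd (.lf 0) (.lf 0))) (.nd (.nd (.lf 21) (.lf 0)) (.nd (.lf 0)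 (.lf 0)))) (.nd (.nd (.nd (.lf 0) (.lf 0)) (.nd (.lf 0) (.lf 0))) (.nd (.nd (.lf 0) (.lf 0)) (.nd (.lf 0) (.lf 0)))))) (.nd (.nd (.nd (.nd (.nd (.lf 0) (.lf 0)) (.nd (.lf 0) (.lf 0))) (.nd (.nd (.lf 0) (.lf 0)) (.nd (.lf 0) (.lf 0)))) (.nd (.nd (.nd (.lf 0) (.lf 0)) (.nd (.lf 0) (.lf 0))) (.nd (.nd (.lf 0) (.lf 0)) (.nd (.lf 0) (.lf 0))))) (.nd (.nd (.nd (.nd (.lf 0) (.lf 0)) (.nd (.lf 0) (.lf 0))) (.nd (.nd (.lf 0) (.lf 0)) (.nd (.lf 0) (.lf 0)))) (.nd (.nd (.nd (.lf 0) (.lf 0)) (.nd (.lf 0) (.lf 0))) (.nd (.nd (.lf 0) (.lf 0)) (.nd (.lf 0) (.lf 0)))))))) (.nd (.nd (.nd (.nd (.nd (.nd (.nd (.lf 0) (.lf 0)) (.nd (.lf 0) (.lf 0))) (.nd (.nd (.lf 0) (.lf 0)) (.nd (.lf 0) (.lf 0)))) (.nd (.nd (.nd (.lf 0) (.lf 0)) (.nd (.lf 0) (.lf 0))) (.nd (.nd (.lf 0) (.lf 0)) (.nd (.lf 0) (.lf 0))))) (.nd (.nd (.nd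 (.nd (.lf 0) (.lf 0)) (.nd (.lf 0) (.lf 0))) (.nd (.nd (.lf 0) (.lf 0)) (.nd (.lf 0) (.lf 0)))) (.nd (.nd (.nd (.lf 0) (.lf 0)) (.nd (.lf 0) (.lf 0))) (.nd (.nd (.lf 0) (.lf 0)) (.nd (.lf 0) (.lf 0)))))) (.nd (.nd (.nd (.nd (.nd (.lf 0) (.lf 0)) (.nd (.lf 0) (.lf 0))) (.nd (.nd (.lf 0) (.lf 0)) (.nd (.lf 0) (.lf 0)))) (.nd (.nd (.nd (.lf 0) (.lf 0)) (.nd (.lf 0) (.lf 0))) (.nd (.nd (.lf 0) (.lf 0)) (.nd (.lf 0) (.lf 0))))) (.nd (.nd (.nd (.nd (.lf 0) (.lf 0)) (.nd (.lf 0) (.lf 0))) (.nd (.nd (.lf 0) (.lf 0)) (.nd (.lf 0) (.lf 0)))) (.nd (.nd (.nd (.lf 0) (.lf 0)) (.nd (.lf 0) (.lf 0))) (.nd (.nd (.lf 0) (.lf 0)) (.nd (.lf 0) (.lf 0))))))) (.nd (.nd (.nd (.nd (.nd (.nd (.lf 0) (.lf 0)) (.nd (.lf 0) (.lf 0))) (.nd (.nd (.lf 0) (.lf 0)) (.nd (.lf 0) (.lf 0)))) (.nd (.nd (.nd (.lf 0) (.lf 0)) (.nd (.lf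 0) (.lf 0))) (.nd (.nd (.lf 0) (.lf 0)) (.nd (.lf 0) (.lf 0))))) (.nd (.nd (.nd (.nd (.lf 0) (.lf 0)) (.nd (.lf 0) (.lf 0))) (.nd (.nd (.lf 0) (.lf 0)) (.nd (.lf 0) (.lf 0)))) (.nd (.nd (.nd (.lf 0) (.lf 0)) (.nd (.lf 15) (.lf 0))) (.nd (.nd (.lf 0) (.lf 0)) (.nd (.lf 0) (.lf 0)))))) (.nd (.nd (.nd (.nd (.nd (.lf 0) (.lf 0)) (.nd (.lf 0) (.lf 0))) (.nd (.nd (.lf 0) (.lf 0)) (.nd (.lf 0) (.lf 0)))) (.nd (.nd (.nd (.lf 0) (.lf 0)) (.nd (.lf 0) (.lf 0))) (.nd (.nd (.lf 0) (.lf 0)) (.nd (.lf 0) (.lf 0))))) (.nd (.nd (.nd (.nd (.lf 0) (.lf 0)) (.nd (.lf 0) (.lf 0))) (.nd (.nd (.lf 0) (.lf 0)) (.nd (.lf 0) (.lf 0)))) (.nd (.nd (.nd (.lf 0) (.lf 0)) (.nd (.lf 0) (.lf 0))) (.nd (.nd (.lf 0) (.lf 0)) (.nd (.lf 0) (.lf 0)))))))))) (.nd (.nd (.nd (.nd (.nd (.nd (.nd (.nd (.nd (.lf 0) (.lf 0)) (.nd (.lf 0) (.lf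 0))) (.nd (.nd (.lf 0) (.lf 0)) (.nd (.lf 0) (.lf 0)))) (.nd (.nd (.nd (.lf 0) (.lf 0)) (.nd (.lf 0) (.lf 0))) (.nd (.nd (.lf 0) (.lf 0)) (.nd (.lf 0) (.lf 0))))) (.nd (.nd (.nd (.nd (.lf 0) (.lf 0)) (.nd (.lf 94) (.lf 0))) (.nd (.nd (.lf 0) (.lf 0)) (.nd (.lf 0) (.lf 0)))) (.nd (.nd (.nd (.lf 0) (.lf 0)) (.nd (.lf 0) (.lf 0))) (.nd (.nd (.lf 0) (.lf 0)) (.nd (.lf 0) (.lf 0)))))) (.nd (.nd (.nd (.nd (.nd (.lf 0) (.lf 0)) (.nd (.lf 0) (.lf 0))) (.nd (.nd (.lf 0) (.lf 0)) (.nd (.lf 0) (.lf 0)))) (.nd (.nd (.nd (.lf 0) (.lf 0)) (.nd (.lf 0) (.lf 0))) (.nd (.nd (.lf 0) (.lf 0)) (.nd (.lf 0) (.lf 0))))) (.nd (.nd (.nd (.nd (.lf 0) (.lf 0)) (.nd (.lf 0) (.lf 0))) (.nd (.nd (.lf 0) (.lf 0)) (.nd (.lf 0) (.lf 0)))) (.nd (.nd (.nd (.lf 0) (.lf 0)) (.nd (.lf 0) (.lf 0))) (.nd (.nd (.lf 0) (.lf 0)) (.nd (.lf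 0) (.lf 0))))))) (.nd (.nd (.nd (.nd (.nd (.nd (.lf 0) (.lf 0)) (.nd (.lf 0) (.lf 0))) (.nd (.nd (.lf 0) (.lf 0)) (.nd (.lf 0) (.lf 0)))) (.nd (.nd (.nd (.lf 0) (.lf 0)) (.nd (.lf 0) (.lf 0))) (.nd (.nd (.lf 0) (.lf 0)) (.nd (.lf 0) (.lf 0))))) (.nd (.nd (.nd (.nd (.lf 0) (.lf 0)) (.nd (.lf 0) (.lf 0))) (.nd (.nd (.lf 0) (.lf 0)) (.nd (.lf 0) (.lf 0)))) (.nd (.nd (.nd (.lf 0) (.lf 0)) (.nd (.lf 0) (.lf 0))) (.nd (.nd (.lf 0) (.lf 0)) (.nd (.lf 0) (.lf 0)))))) (.nd (.nd (.nd (.nd (.nd (.lf 0) (.lf 0)) (.nd (.lf 0) (.lf 0))) (.nd (.nd (.lf 0) (.lf 0)) (.nd (.lf 0) (.lf 0)))) (.nd (.nd (.nd (.lf 0) (.lf 0)) (.nd (.lf 0) (.lf 0))) (.nd (.nd (.lf 0) (.lf 0)) (.nd (.lf 0) (.lf 0))))) (.nd (.nd (.nd (.nd (.lf 0) (.lf 0)) (.nd (.lf 0) (.lf 0))) (.nd (.nd (.lf 0) (.lf 0)) (.nd (.lf 0) (.lf 0)))) (.nd (.nd (.nd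 (.lf 0) (.lf 0)) (.nd (.lf 0) (.lf 0))) (.nd (.nd (.lf 0) (.lf 0)) (.nd (.lf 0) (.lf 0)))))))) (.nd (.nd (.nd (.nd (.nd (.nd (.nd (.lf 0) (.lf 0)) (.nd (.lf 0) (.lf 0))) (.nd (.nd (.lf 0) (.lf 0)) (.nd (.lf 0) (.lf 0)))) (.nd (.nd (.nd (.lf 0) (.lf 0)) (.nd (.lf 0) (.lf 0))) (.nd (.nd (.lf 0) (.lf 0)) (.nd (.lf 0) (.lf 0))))) (.nd (.nd (.nd (.nd (.lf 0) (.lf 0)) (.nd (.lf 0) (.lf 0))) (.nd (.nd (.lf 0) (.lf 0)) (.nd (.lf 0) (.lf 0)))) (.nd (.nd (.nd (.lf 0) (.lf 0)) (.nd (.lf 0) (.lf 0))) (.nd (.nd (.lf 0) (.lf 0)) (.nd (.lf 0) (.lf 0)))))) (.nd (.nd (.nd (.nd (.nd (.lf 0) (.lf 0)) (.nd (.lf 0) (.lf 0))) (.nd (.nd (.lf 0) (.lf 0)) (.nd (.lf 0) (.lf 0)))) (.nd (.nd (.nd (.lf 0) (.lf 0)) (.nd (.lf 0) (.lf 0))) (.nd (.nd (.lf 0) (.lf 0)) (.nd (.lf 0) (.lf 0))))) (.nd (.nd (.nd (.nd (.lf 0) (.lf 0)) (.nd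 (.lf 0) (.lf 0))) (.nd (.nd (.lf 0) (.lf 0)) (.nd (.lf 0) (.lf 0)))) (.nd (.nd (.nd (.lf 0) (.lf 0)) (.nd (.lf 0) (.lf 0))) (.nd (.nd (.lf 0) (.lf 0)) (.nd (.lf 0) (.lf 0))))))) (.nd (.nd (.nd (.nd (.nd (.nd (.lf 0) (.lf 0)) (.nd (.lf 0) (.lf 0))) (.nd (.nd (.lf 0) (.lf 0)) (.nd (.lf 0) (.lf 0)))) (.nd (.nd (.nd (.lf 0) (.lf 0)) (.nd (.lf 0) (.lf 0))) (.nd (.nd (.lf 0) (.lf 0)) (.nd (.lf 0) (.lf 0))))) (.nd (.nd (.nd (.nd (.lf 0) (.lf 0)) (.nd (.lf 0) (.lf 0))) (.nd (.nd (.lf 0) (.lf 0)) (.nd (.lf 0) (.lf 0)))) (.nd (.nd (.nd (.lf 0) (.lf 0)) (.nd (.lf 0) (.lf 0))) (.nd (.nd (.lf 0) (.lf 0)) (.nd (.lf 0) (.lf 0)))))) (.nd (.nd (.nd (.nd (.nd (.lf 0) (.lf 0)) (.nd (.lf 0) (.lf 0))) (.nd (.nd (.lf 0) (.lf 0)) (.nd (.lf 0) (.lf 0)))) (.nd (.nd (.nd (.lf 0) (.lf 0)) (.nd (.lf 0) (.lf 0))) (.nd (.nd (.lf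 0) (.lf 0)) (.nd (.lf 17) (.lf 0))))) (.nd (.nd (.nd (.nd (.lf 0) (.lf 0)) (.nd (.lf 0) (.lf 0))) (.nd (.nd (.lf 0) (.lf 0)) (.nd (.lf 0) (.lf 0)))) (.nd (.nd (.nd (.lf 0) (.lf 0)) (.nd (.lf 0) (.lf 0))) (.nd (.nd (.lf 0) (.lf 0)) (.nd (.lf 0) (.lf 0))))))))) (.nd (.nd (.nd (.nd (.nd (.nd (.nd (.nd (.lf 0) (.lf 0)) (.nd (.lf 0) (.lf 0))) (.nd (.nd (.lf 0) (.lf 0)) (.nd (.lf 0) (.lf 0)))) (.nd (.nd (.nd (.lf 0) (.lf 0)) (.nd (.lf 0) (.lf 0))) (.nd (.nd (.lf 0) (.lf 0)) (.nd (.lf 0) (.lf 0))))) (.nd (.nd (.nd (.nd (.lf 0) (.lf 0)) (.nd (.lf 0) (.lf 0))) (.nd (.nd (.lf 0) (.lf 0)) (.nd (.lf 0) (.lf 0)))) (.nd (.nd (.nd (.lf 0) (.lf 0)) (.nd (.lf 0) (.lf 0))) (.nd (.nd (.lf 0) (.lf 0)) (.nd (.lf 0) (.lf 0)))))) (.nd (.nd (.nd (.nd (.nd (.lf 0) (.lf 0)) (.nd (.lf 0) (.lf 0))) (.nd (.nd (.lf 0) (.lf 0))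 (.nd (.lf 0) (.lf 0)))) (.nd (.nd (.nd (.lf 0) (.lf 0)) (.nd (.lf 0) (.lf 0))) (.nd (.nd (.lf 0) (.lf 0)) (.nd (.lf 0) (.lf 0))))) (.nd (.nd (.nd (.nd (.lf 0) (.lf 0)) (.nd (.lf 0) (.lf 0))) (.nd (.nd (.lf 0) (.lf 0)) (.nd (.lf 0) (.lf 0)))) (.nd (.nd (.nd (.lf 0) (.lf 0)) (.nd (.lf 0) (.lf 0))) (.nd (.nd (.lf 0) (.lf 0)) (.nd (.lf 0) (.lf 0))))))) (.nd (.nd (.nd (.nd (.nd (.nd (.lf 0) (.lf 0)) (.nd (.lf 0) (.lf 0))) (.nd (.nd (.lf 0) (.lf 0)) (.nd (.lf 0) (.lf 0)))) (.nd (.nd (.nd (.lf 0) (.lf 0)) (.nd (.lf 105) (.lf 0))) (.nd (.nd (.lf 0) (.lf 0)) (.nd (.lf 0) (.lf 0))))) (.nd (.nd (.nd (.nd (.lf 0) (.lf 0)) (.nd (.lf 0) (.lf 0))) (.nd (.nd (.lf 0) (.lf 0)) (.nd (.lf 0) (.lf 0)))) (.nd (.nd (.nd (.lf 0) (.lf 0)) (.nd (.lf 0) (.lf 0))) (.nd (.nd (.lf 0) (.lf 0)) (.nd (.lf 0) (.lf 0)))))) (.nd (.nd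 (.nd (.nd (.nd (.lf 0) (.lf 0)) (.nd (.lf 0) (.lf 0))) (.nd (.nd (.lf 0) (.lf 0)) (.nd (.lf 0) (.lf 0)))) (.nd (.nd (.nd (.lf 0) (.lf 0)) (.nd (.lf 0) (.lf 0))) (.nd (.nd (.lf 0) (.lf 0)) (.nd (.lf 0) (.lf 0))))) (.nd (.nd (.nd (.nd (.lf 0) (.lf 0)) (.nd (.lf 0) (.lf 0))) (.nd (.nd (.lf 0) (.lf 0)) (.nd (.lf 0) (.lf 0)))) (.nd (.nd (.nd (.lf 0) (.lf 0)) (.nd (.lf 0) (.lf 0))) (.nd (.nd (.lf 0) (.lf 0)) (.nd (.lf 0) (.lf 0)))))))) (.nd (.nd (.nd (.nd (.nd (.nd (.nd (.lf 0) (.lf 0)) (.nd (.lf 0) (.lf 0))) (.nd (.nd (.lf 0) (.lf 0)) (.nd (.lf 0) (.lf 0)))) (.nd (.nd (.nd (.lf 0) (.lf 0)) (.nd (.lf 0) (.lf 0))) (.nd (.nd (.lf 0) (.lf 0)) (.nd (.lf 0) (.lf 0))))) (.nd (.nd (.nd (.nd (.lf 0) (.lf 0)) (.nd (.lf 0) (.lf 0))) (.nd (.nd (.lf 0) (.lf 0)) (.nd (.lf 0) (.lf 0)))) (.nd (.nd (.nd (.lf 0) (.lf 0))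 (.nd (.lf 0) (.lf 0))) (.nd (.nd (.lf 0) (.lf 0)) (.nd (.lf 0) (.lf 0)))))) (.nd (.nd (.nd (.nd (.nd (.lf 0) (.lf 0)) (.nd (.lf 0) (.lf 0))) (.nd (.nd (.lf 0) (.lf 0)) (.nd (.lf 0) (.lf 0)))) (.nd (.nd (.nd (.lf 0) (.lf 0)) (.nd (.lf 0) (.lf 0))) (.nd (.nd (.lf 0) (.lf 0)) (.nd (.lf 0) (.lf 0))))) (.nd (.nd (.nd (.nd (.lf 0) (.lf 0)) (.nd (.lf 0) (.lf 0))) (.nd (.nd (.lf 0) (.lf 0)) (.nd (.lf 0) (.lf 0)))) (.nd (.nd (.nd (.lf 0) (.lf 0)) (.nd (.lf 0) (.lf 0))) (.nd (.nd (.lf 0) (.lf 0)) (.nd (.lf 0) (.lf 0))))))) (.nd (.nd (.nd (.nd (.nd (.nd (.lf 0) (.lf 0)) (.nd (.lf 0) (.lf 0))) (.nd (.nd (.lf 0) (.lf 0)) (.nd (.lf 0) (.lf 0)))) (.nd (.nd (.nd (.lf 0) (.lf 0)) (.nd (.lf 0) (.lf 0))) (.nd (.nd (.lf 0) (.lf 0)) (.nd (.lf 0) (.lf 0))))) (.nd (.nd (.nd (.nd (.lf 0) (.lf 0)) (.nd (.lf 0) (.lf 0))) (.nd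 (.nd (.lf 0) (.lf 0)) (.nd (.lf 0) (.lf 0)))) (.nd (.nd (.nd (.lf 0) (.lf 0)) (.nd (.lf 0) (.lf 0))) (.nd (.nd (.lf 0) (.lf 0)) (.nd (.lf 0) (.lf 0)))))) (.nd (.nd (.nd (.nd (.nd (.lf 0) (.lf 0)) (.nd (.lf 0) (.lf 0))) (.nd (.nd (.lf 0) (.lf 0)) (.nd (.lf 0) (.lf 0)))) (.nd (.nd (.nd (.lf 0) (.lf 0)) (.nd (.lf 0) (.lf 0))) (.nd (.nd (.lf 0) (.lf 0)) (.nd (.lf 0) (.lf 0))))) (.nd (.nd (.nd (.nd (.lf 0) (.lf 0)) (.nd (.lf 0) (.lf 0))) (.nd (.nd (.lf 0) (.lf 0)) (.nd (.lf 0) (.lf 0)))) (.nd (.nd (.nd (.lf 0) (.lf 0)) (.nd (.lf 0) (.lf 0))) (.nd (.nd (.lf 0) (.lf 0)) (.nd (.lf 0) (.lf 0))))))))))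

/-- table part -/
def tabT_11 : Tr :=
  .nd (.nd (.nd (.nd (.nd (.nd (.nd (.nd (.nd (.nd (.lf 0) (.lf 0)) (.nd (.lf 0) (.lf 0))) (.nd (.nd (.lf 0) (.lf 0)) (.nd (.lf 0) (.lf 0)))) (.nd (.nd (.nd (.lf 0) (.lf 0)) (.nd (.lf 0) (.lf 0))) (.nd (.nd (.lf 0) (.lf 0)) (.nd (.lf 0) (.lf 0))))) (.nd (.nd (.nd (.nd (.lf 0) (.lf 0)) (.nd (.lf 0) (.lf 0))) (.nd (.nd (.lf 0) (.lf 0)) (.nd (.lf 0) (.lf 0)))) (.nd (.nd (.nd (.lf 0) (.lf 0)) (.nd (.lf 0) (.lf 0))) (.nd (.nd (.lf 0) (.lf 0)) (.nd (.lf 0) (.lf 0)))))) (.nd (.nd (.nd (.nd (.nd (.lf 0) (.lf 0)) (.nd (.lf 0) (.lf 0))) (.nd (.nd (.lf 0) (.lf 0)) (.nd (.lf 0) (.lf 0)))) (.nd (.nd (.nd (.lf 0) (.lf 0)) (.nd (.lf 0) (.lf 0))) (.nd (.nd (.lf 0) (.lf 0)) (.nd (.lf 0) (.lf 0))))) (.nd (.nd (.nd (.nd (.lf 0) (.lf 0)) (.nd (.lf 0) (.lf 0))) (.nd (.nd (.lf 0) (.lf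 0)) (.nd (.lf 0) (.lf 0)))) (.nd (.nd (.nd (.lf 0) (.lf 0)) (.nd (.lf 0) (.lf 0))) (.nd (.nd (.lf 0) (.lf 0)) (.nd (.lf 0) (.lf 0))))))) (.nd (.nd (.nd (.nd (.nd (.nd (.lf 0) (.lf 0)) (.nd (.lf 0) (.lf 0))) (.nd (.nd (.lf 0) (.lf 0)) (.nd (.lf 0) (.lf 0)))) (.nd (.nd (.nd (.lf 0) (.lf 0)) (.nd (.lf 0) (.lf 0))) (.nd (.nd (.lf 0) (.lf 0)) (.nd (.lf 0) (.lf 0))))) (.nd (.nd (.nd (.nd (.lf 0) (.lf 0)) (.nd (.lf 0) (.lf 0))) (.nd (.nd (.lf 0) (.lf 0)) (.nd (.lf 0) (.lf 0)))) (.nd (.nd (.nd (.lf 0) (.lf 0)) (.nd (.lf 0) (.lf 0))) (.nd (.nd (.lf 0) (.lf 0)) (.nd (.lf 0) (.lf 0)))))) (.nd (.nd (.nd (.nd (.nd (.lf 0) (.lf 0)) (.nd (.lf 0) (.lf 0))) (.nd (.nd (.lf 0) (.lf 0)) (.nd (.lf 0) (.lf 0)))) (.nd (.nd (.nd (.lf 0) (.lf 0)) (.nd (.lf 0) (.lf 0))) (.nd (.nd (.lf 0) (.lf 0)) (.nd (.lf 0) (.lf 0))))) (.nd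 (.nd (.nd (.nd (.lf 0) (.lf 0)) (.nd (.lf 0) (.lf 0))) (.nd (.nd (.lf 0) (.lf 0)) (.nd (.lf 0) (.lf 0)))) (.nd (.nd (.nd (.lf 0) (.lf 0)) (.nd (.lf 0) (.lf 0))) (.nd (.nd (.lf 0) (.lf 0)) (.nd (.lf 0) (.lf 0)))))))) (.nd (.nd (.nd (.nd (.nd (.nd (.nd (.lf 0) (.lf 0)) (.nd (.lf 0) (.lf 0))) (.nd (.nd (.lf 0) (.lf 0)) (.nd (.lf 0) (.lf 0)))) (.nd (.nd (.nd (.lf 0) (.lf 0)) (.nd (.lf 0) (.lf 0))) (.nd (.nd (.lf 0) (.lf 0)) (.nd (.lf 0) (.lf 0))))) (.nd (.nd (.nd (.nd (.lf 0) (.lf 0)) (.nd (.lf 0) (.lf 0))) (.nd (.nd (.lf 0) (.lf 0)) (.nd (.lf 0) (.lf 0)))) (.nd (.nd (.nd (.lf 0) (.lf 0)) (.nd (.lf 0) (.lf 0))) (.nd (.nd (.lf 0) (.lf 0)) (.nd (.lf 0) (.lf 0)))))) (.nd (.nd (.nd (.nd (.nd (.lf 0) (.lf 0)) (.nd (.lf 0) (.lf 0))) (.nd (.nd (.lf 0) (.lf 0)) (.nd (.lf 0) (.lf 0)))) (.nd (.nd (.nd (.lf 0) (.lf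 0)) (.nd (.lf 0) (.lf 0))) (.nd (.nd (.lf 0) (.lf 0)) (.nd (.lf 124) (.lf 0))))) (.nd (.nd (.nd (.nd (.lf 0) (.lf 0)) (.nd (.lf 0) (.lf 0))) (.nd (.nd (.lf 0) (.lf 0)) (.nd (.lf 0) (.lf 0)))) (.nd (.nd (.nd (.lf 0) (.lf 0)) (.nd (.lf 0) (.lf 0))) (.nd (.nd (.lf 0) (.lf 0)) (.nd (.lf 0) (.lf 0))))))) (.nd (.nd (.nd (.nd (.nd (.nd (.lf 0) (.lf 0)) (.nd (.lf 0) (.lf 0))) (.nd (.nd (.lf 0) (.lf 0)) (.nd (.lf 0) (.lf 0)))) (.nd (.nd (.nd (.lf 0) (.lf 0)) (.nd (.lf 0) (.lf 0))) (.nd (.nd (.lf 0) (.lf 0)) (.nd (.lf 0) (.lf 0))))) (.nd (.nd (.nd (.nd (.lf 0) (.lf 0)) (.nd (.lf 0) (.lf 0))) (.nd (.nd (.lf 0) (.lf 0)) (.nd (.lf 0) (.lf 0)))) (.nd (.nd (.nd (.lf 0) (.lf 0)) (.nd (.lf 0) (.lf 0))) (.nd (.nd (.lf 0) (.lf 0)) (.nd (.lf 0) (.lf 0)))))) (.nd (.nd (.nd (.nd (.nd (.lf 0) (.lf 0)) (.nd (.lf 0) (.lf 0)))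 (.nd (.nd (.lf 0) (.lf 0)) (.nd (.lf 0) (.lf 0)))) (.nd (.nd (.nd (.lf 0) (.lf 0)) (.nd (.lf 0) (.lf 0))) (.nd (.nd (.lf 0) (.lf 0)) (.nd (.lf 0) (.lf 0))))) (.nd (.nd (.nd (.nd (.lf 0) (.lf 0)) (.nd (.lf 0) (.lf 0))) (.nd (.nd (.lf 0) (.lf 0)) (.nd (.lf 0) (.lf 0)))) (.nd (.nd (.nd (.lf 0) (.lf 0)) (.nd (.lf 0) (.lf 0))) (.nd (.nd (.lf 0) (.lf 0)) (.nd (.lf 0) (.lf 0))))))))) (.nd (.nd (.nd (.nd (.nd (.nd (.nd (.nd (.lf 0) (.lf 0)) (.nd (.lf 0) (.lf 0))) (.nd (.nd (.lf 0) (.lf 0)) (.nd (.lf 0) (.lf 0)))) (.nd (.nd (.nd (.lf 0) (.lf 0)) (.nd (.lf 0) (.lf 0))) (.nd (.nd (.lf 0) (.lf 0)) (.nd (.lf 110) (.lf 0))))) (.nd (.nd (.nd (.nd (.lf 0) (.lf 0)) (.nd (.lf 0) (.lf 0))) (.nd (.nd (.lf 0) (.lf 0)) (.nd (.lf 0) (.lf 0)))) (.nd (.nd (.nd (.lf 0) (.lf 0)) (.nd (.lf 0) (.lf 0))) (.nd (.nd (.lf 0) (.lf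 0)) (.nd (.lf 0) (.lf 0)))))) (.nd (.nd (.nd (.nd (.nd (.lf 0) (.lf 0)) (.nd (.lf 0) (.lf 0))) (.nd (.nd (.lf 56) (.lf 0)) (.nd (.lf 0) (.lf 0)))) (.nd (.nd (.nd (.lf 0) (.lf 0)) (.nd (.lf 0) (.lf 0))) (.nd (.nd (.lf 0) (.lf 0)) (.nd (.lf 0) (.lf 0))))) (.nd (.nd (.nd (.nd (.lf 0) (.lf 0)) (.nd (.lf 0) (.lf 0))) (.nd (.nd (.lf 0) (.lf 0)) (.nd (.lf 0) (.lf 0)))) (.nd (.nd (.nd (.lf 0) (.lf 0)) (.nd (.lf 0) (.lf 0))) (.nd (.nd (.lf 0) (.lf 0)) (.nd (.lf 0) (.lf 0))))))) (.nd (.nd (.nd (.nd (.nd (.nd (.lf 0) (.lf 0)) (.nd (.lf 0) (.lf 0))) (.nd (.nd (.lf 0) (.lf 0)) (.nd (.lf 0) (.lf 0)))) (.nd (.nd (.nd (.lf 0) (.lf 0)) (.nd (.lf 0) (.lf 0))) (.nd (.nd (.lf 0) (.lf 0)) (.nd (.lf 0) (.lf 0))))) (.nd (.nd (.nd (.nd (.lf 0) (.lf 0)) (.nd (.lf 0) (.lf 0))) (.nd (.nd (.lf 0) (.lf 0)) (.nd (.lf 0) (.lf 0))))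 (.nd (.nd (.nd (.lf 0) (.lf 0)) (.nd (.lf 0) (.lf 0))) (.nd (.nd (.lf 0) (.lf 0)) (.nd (.lf 0) (.lf 0)))))) (.nd (.nd (.nd (.nd (.nd (.lf 0) (.lf 0)) (.nd (.lf 0) (.lf 0))) (.nd (.nd (.lf 0) (.lf 0)) (.nd (.lf 0) (.lf 0)))) (.nd (.nd (.nd (.lf 0) (.lf 0)) (.nd (.lf 0) (.lf 0))) (.nd (.nd (.lf 0) (.lf 0)) (.nd (.lf 0) (.lf 0))))) (.nd (.nd (.nd (.nd (.lf 0) (.lf 0)) (.nd (.lf 0) (.lf 0))) (.nd (.nd (.lf 0) (.lf 0)) (.nd (.lf 0) (.lf 0)))) (.nd (.nd (.nd (.lf 0) (.lf 0)) (.nd (.lf 0) (.lf 0))) (.nd (.nd (.lf 0) (.lf 0)) (.nd (.lf 0) (.lf 0)))))))) (.nd (.nd (.nd (.nd (.nd (.nd (.nd (.lf 0) (.lf 0)) (.nd (.lf 0) (.lf 0))) (.nd (.nd (.lf 0) (.lf 0)) (.nd (.lf 0) (.lf 0)))) (.nd (.nd (.nd (.lf 0) (.lf 0)) (.nd (.lf 0) (.lf 0))) (.nd (.nd (.lf 0) (.lf 0)) (.nd (.lf 0) (.lf 0))))) (.nd (.nd (.nd (.nd (.lf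 0) (.lf 0)) (.nd (.lf 0) (.lf 0))) (.nd (.nd (.lf 0) (.lf 0)) (.nd (.lf 0) (.lf 0)))) (.nd (.nd (.nd (.lf 0) (.lf 0)) (.nd (.lf 0) (.lf 0))) (.nd (.nd (.lf 0) (.lf 0)) (.nd (.lf 0) (.lf 0)))))) (.nd (.nd (.nd (.nd (.nd (.lf 0) (.lf 0)) (.nd (.lf 121) (.lf 0))) (.nd (.nd (.lf 0) (.lf 0)) (.nd (.lf 0) (.lf 0)))) (.nd (.nd (.nd (.lf 0) (.lf 0)) (.nd (.lf 0) (.lf 0))) (.nd (.nd (.lf 0) (.lf 0)) (.nd (.lf 0) (.lf 0))))) (.nd (.nd (.nd (.nd (.lf 0) (.lf 0)) (.nd (.lf 0) (.lf 0))) (.nd (.nd (.lf 0) (.lf 0)) (.nd (.lf 0) (.lf 0)))) (.nd (.nd (.nd (.lf 0) (.lf 0)) (.nd (.lf 0) (.lf 0))) (.nd (.nd (.lf 0) (.lf 0)) (.nd (.lf 0) (.lf 0))))))) (.nd (.nd (.nd (.nd (.nd (.nd (.lf 0) (.lf 0)) (.nd (.lf 0) (.lf 0))) (.nd (.nd (.lf 0) (.lf 0)) (.nd (.lf 0) (.lf 0)))) (.nd (.nd (.nd (.lf 0) (.lf 0)) (.nd (.lf 0) (.lf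 0))) (.nd (.nd (.lf 0) (.lf 0)) (.nd (.lf 0) (.lf 0))))) (.nd (.nd (.nd (.nd (.lf 0) (.lf 0)) (.nd (.lf 0) (.lf 0))) (.nd (.nd (.lf 0) (.lf 0)) (.nd (.lf 0) (.lf 0)))) (.nd (.nd (.nd (.lf 0) (.lf 0)) (.nd (.lf 0) (.lf 0))) (.nd (.nd (.lf 9) (.lf 0)) (.nd (.lf 0) (.lf 0)))))) (.nd (.nd (.nd (.nd (.nd (.lf 0) (.lf 0)) (.nd (.lf 0) (.lf 0))) (.nd (.nd (.lf 0) (.lf 0)) (.nd (.lf 0) (.lf 0)))) (.nd (.nd (.nd (.lf 0) (.lf 0)) (.nd (.lf 0) (.lf 0))) (.nd (.nd (.lf 0) (.lf 0)) (.nd (.lf 0) (.lf 0))))) (.nd (.nd (.nd (.nd (.lf 0) (.lf 0)) (.nd (.lf 0) (.lf 0))) (.nd (.nd (.lf 0) (.lf 0)) (.nd (.lf 0) (.lf 0)))) (.nd (.nd (.nd (.lf 0) (.lf 0)) (.nd (.lf 0) (.lf 0))) (.nd (.nd (.lf 0) (.lf 0)) (.nd (.lf 0) (.lf 0)))))))))) (.nd (.nd (.nd (.nd (.nd (.nd (.nd (.nd (.nd (.lf 0) (.lf 0)) (.nd (.lf 0) (.lf 0))) (.nd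 (.nd (.lf 0) (.lf 0)) (.nd (.lf 0) (.lf 0)))) (.nd (.nd (.nd (.lf 0) (.lf 0)) (.nd (.lf 0) (.lf 0))) (.nd (.nd (.lf 0) (.lf 0)) (.nd (.lf 0) (.lf 0))))) (.nd (.nd (.nd (.nd (.lf 0) (.lf 0)) (.nd (.lf 0) (.lf 0))) (.nd (.nd (.lf 0) (.lf 0)) (.nd (.lf 0) (.lf 0)))) (.nd (.nd (.nd (.lf 0) (.lf 0)) (.nd (.lf 0) (.lf 0))) (.nd (.nd (.lf 0) (.lf 0)) (.nd (.lf 0) (.lf 0)))))) (.nd (.nd (.nd (.nd (.nd (.lf 0) (.lf 0)) (.nd (.lf 0) (.lf 0))) (.nd (.nd (.lf 0) (.lf 0)) (.nd (.lf 0) (.lf 0)))) (.nd (.nd (.nd (.lf 0) (.lf 0)) (.nd (.lf 0) (.lf 0))) (.nd (.nd (.lf 0) (.lf 0)) (.nd (.lf 0) (.lf 0))))) (.nd (.nd (.nd (.nd (.lf 0) (.lf 0)) (.nd (.lf 0) (.lf 0))) (.nd (.nd (.lf 0) (.lf 0)) (.nd (.lf 0) (.lf 0)))) (.nd (.nd (.nd (.lf 0) (.lf 0)) (.nd (.lf 0) (.lf 0))) (.nd (.nd (.lf 0) (.lf 0)) (.nd (.lf 0) (.lf 0)))))))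 (.nd (.nd (.nd (.nd (.nd (.nd (.lf 0) (.lf 0)) (.nd (.lf 0) (.lf 0))) (.nd (.nd (.lf 0) (.lf 0)) (.nd (.lf 0) (.lf 0)))) (.nd (.nd (.nd (.lf 0) (.lf 0)) (.nd (.lf 0) (.lf 0))) (.nd (.nd (.lf 0) (.lf 0)) (.nd (.lf 0) (.lf 0))))) (.nd (.nd (.nd (.nd (.lf 0) (.lf 0)) (.nd (.lf 0) (.lf 0))) (.nd (.nd (.lf 0) (.lf 0)) (.nd (.lf 0) (.lf 0)))) (.nd (.nd (.nd (.lf 0) (.lf 0)) (.nd (.lf 0) (.lf 0))) (.nd (.nd (.lf 0) (.lf 0)) (.nd (.lf 0) (.lf 0)))))) (.nd (.nd (.nd (.nd (.nd (.lf 0) (.lf 0)) (.nd (.lf 127) (.lf 0))) (.nd (.nd (.lf 0) (.lf 0)) (.nd (.lf 0) (.lf 0)))) (.nd (.nd (.nd (.lf 0) (.lf 0)) (.nd (.lf 0) (.lf 0))) (.nd (.nd (.lf 0) (.lf 0)) (.nd (.lf 0) (.lf 0))))) (.nd (.nd (.nd (.nd (.lf 0) (.lf 0)) (.nd (.lf 0) (.lf 0))) (.nd (.nd (.lf 0) (.lf 0)) (.nd (.lf 0) (.lf 0)))) (.nd (.nd (.nd (.lf 0) (.lf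 0)) (.nd (.lf 0) (.lf 0))) (.nd (.nd (.lf 0) (.lf 0)) (.nd (.lf 0) (.lf 0)))))))) (.nd (.nd (.nd (.nd (.nd (.nd (.nd (.lf 0) (.lf 0)) (.nd (.lf 0) (.lf 0))) (.nd (.nd (.lf 0) (.lf 0)) (.nd (.lf 0) (.lf 0)))) (.nd (.nd (.nd (.lf 0) (.lf 0)) (.nd (.lf 0) (.lf 0))) (.nd (.nd (.lf 0) (.lf 0)) (.nd (.lf 0) (.lf 0))))) (.nd (.nd (.nd (.nd (.lf 0) (.lf 0)) (.nd (.lf 0) (.lf 0))) (.nd (.nd (.lf 0) (.lf 0)) (.nd (.lf 0) (.lf 0)))) (.nd (.nd (.nd (.lf 0) (.lf 0)) (.nd (.lf 0) (.lf 0))) (.nd (.nd (.lf 0) (.lf 0)) (.nd (.lf 0) (.lf 0)))))) (.nd (.nd (.nd (.nd (.nd (.lf 0) (.lf 0)) (.nd (.lf 0) (.lf 0))) (.nd (.nd (.lf 0) (.lf 0)) (.nd (.lf 82) (.lf 0)))) (.nd (.nd (.nd (.lf 0) (.lf 0)) (.nd (.lf 0) (.lf 0))) (.nd (.nd (.lf 0) (.lf 0)) (.nd (.lf 0) (.lf 0))))) (.nd (.nd (.nd (.nd (.lf 0) (.lf 0)) (.nd (.lf 0) (.lf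 0))) (.nd (.nd (.lf 0) (.lf 0)) (.nd (.lf 0) (.lf 0)))) (.nd (.nd (.nd (.lf 0) (.lf 0)) (.nd (.lf 0) (.lf 0))) (.nd (.nd (.lf 0) (.lf 0)) (.nd (.lf 0) (.lf 0))))))) (.nd (.nd (.nd (.nd (.nd (.nd (.lf 0) (.lf 0)) (.nd (.lf 0) (.lf 0))) (.nd (.nd (.lf 0) (.lf 0)) (.nd (.lf 0) (.lf 0)))) (.nd (.nd (.nd (.lf 0) (.lf 0)) (.nd (.lf 0) (.lf 0))) (.nd (.nd (.lf 0) (.lf 0)) (.nd (.lf 0) (.lf 0))))) (.nd (.nd (.nd (.nd (.lf 0) (.lf 0)) (.nd (.lf 0) (.lf 0))) (.nd (.nd (.lf 0) (.lf 0)) (.nd (.lf 0) (.lf 0)))) (.nd (.nd (.nd (.lf 0) (.lf 0)) (.nd (.lf 0) (.lf 0))) (.nd (.nd (.lf 0) (.lf 0)) (.nd (.lf 0) (.lf 0)))))) (.nd (.nd (.nd (.nd (.nd (.lf 0) (.lf 0)) (.nd (.lf 0) (.lf 0))) (.nd (.nd (.lf 0) (.lf 0)) (.nd (.lf 0) (.lf 0)))) (.nd (.nd (.nd (.lf 0) (.lf 0)) (.nd (.lf 0) (.lf 0))) (.nd (.nd (.lf 0) (.lf 0))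 (.nd (.lf 0) (.lf 0))))) (.nd (.nd (.nd (.nd (.lf 0) (.lf 0)) (.nd (.lf 0) (.lf 0))) (.nd (.nd (.lf 0) (.lf 0)) (.nd (.lf 0) (.lf 0)))) (.nd (.nd (.nd (.lf 0) (.lf 0)) (.nd (.lf 0) (.lf 0))) (.nd (.nd (.lf 0) (.lf 0)) (.nd (.lf 0) (.lf 0))))))))) (.nd (.nd (.nd (.nd (.nd (.nd (.nd (.nd (.lf 0) (.lf 0)) (.nd (.lf 0) (.lf 0))) (.nd (.nd (.lf 0) (.lf 0)) (.nd (.lf 0) (.lf 0)))) (.nd (.nd (.nd (.lf 0) (.lf 0)) (.nd (.lf 0) (.lf 0))) (.nd (.nd (.lf 0) (.lf 0)) (.nd (.lf 0) (.lf 0))))) (.nd (.nd (.nd (.nd (.lf 0) (.lf 0)) (.nd (.lf 0) (.lf 0))) (.nd (.nd (.lf 0) (.lf 0)) (.nd (.lf 0) (.lf 0)))) (.nd (.nd (.nd (.lf 0) (.lf 0)) (.nd (.lf 0) (.lf 0))) (.nd (.nd (.lf 0) (.lf 0)) (.nd (.lf 0) (.lf 0)))))) (.nd (.nd (.nd (.nd (.nd (.lf 0) (.lf 0)) (.nd (.lf 0) (.lf 0))) (.nd (.nd (.lf 0) (.lf 0)) (.nd (.lf 0)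 (.lf 0)))) (.nd (.nd (.nd (.lf 0) (.lf 0)) (.nd (.lf 0) (.lf 0))) (.nd (.nd (.lf 0) (.lf 0)) (.nd (.lf 0) (.lf 0))))) (.nd (.nd (.nd (.nd (.lf 0) (.lf 0)) (.nd (.lf 0) (.lf 0))) (.nd (.nd (.lf 0) (.lf 0)) (.nd (.lf 0) (.lf 0)))) (.nd (.nd (.nd (.lf 0) (.lf 0)) (.nd (.lf 0) (.lf 0))) (.nd (.nd (.lf 0) (.lf 0)) (.nd (.lf 0) (.lf 0))))))) (.nd (.nd (.nd (.nd (.nd (.nd (.lf 0) (.lf 0)) (.nd (.lf 0) (.lf 0))) (.nd (.nd (.lf 0) (.lf 0)) (.nd (.lf 0) (.lf 0)))) (.nd (.nd (.nd (.lf 0) (.lf 0)) (.nd (.lf 0) (.lf 0))) (.nd (.nd (.lf 0) (.lf 0)) (.nd (.lf 0) (.lf 0))))) (.nd (.nd (.nd (.nd (.lf 0) (.lf 0)) (.nd (.lf 0) (.lf 0))) (.nd (.nd (.lf 0) (.lf 0)) (.nd (.lf 0) (.lf 0)))) (.nd (.nd (.nd (.lf 0) (.lf 0)) (.nd (.lf 0) (.lf 0))) (.nd (.nd (.lf 0) (.lf 0)) (.nd (.lf 0) (.lf 0)))))) (.nd (.nd (.nd (.nd (.nd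 (.lf 0) (.lf 0)) (.nd (.lf 0) (.lf 0))) (.nd (.nd (.lf 0) (.lf 0)) (.nd (.lf 0) (.lf 0)))) (.nd (.nd (.nd (.lf 0) (.lf 0)) (.nd (.lf 0) (.lf 0))) (.nd (.nd (.lf 0) (.lf 0)) (.nd (.lf 0) (.lf 0))))) (.nd (.nd (.nd (.nd (.lf 0) (.lf 0)) (.nd (.lf 0) (.lf 0))) (.nd (.nd (.lf 0) (.lf 0)) (.nd (.lf 0) (.lf 0)))) (.nd (.nd (.nd (.lf 0) (.lf 0)) (.nd (.lf 0) (.lf 0))) (.nd (.nd (.lf 0) (.lf 0)) (.nd (.lf 0) (.lf 0)))))))) (.nd (.nd (.nd (.nd (.nd (.nd (.nd (.lf 100) (.lf 0)) (.nd (.lf 0) (.lf 0))) (.nd (.nd (.lf 0) (.lf 0)) (.nd (.lf 0) (.lf 0)))) (.nd (.nd (.nd (.lf 0) (.lf 0)) (.nd (.lf 0) (.lf 0))) (.nd (.nd (.lf 0) (.lf 0)) (.nd (.lf 0) (.lf 0))))) (.nd (.nd (.nd (.nd (.lf 0) (.lf 0)) (.nd (.lf 0) (.lf 0))) (.nd (.nd (.lf 0) (.lf 0)) (.nd (.lf 0) (.lf 0)))) (.nd (.nd (.nd (.lf 0) (.lf 0)) (.nd (.lf 0)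 (.lf 0))) (.nd (.nd (.lf 0) (.lf 0)) (.nd (.lf 0) (.lf 0)))))) (.nd (.nd (.nd (.nd (.nd (.lf 0) (.lf 0)) (.nd (.lf 0) (.lf 0))) (.nd (.nd (.lf 0) (.lf 0)) (.nd (.lf 0) (.lf 0)))) (.nd (.nd (.nd (.lf 0) (.lf 0)) (.nd (.lf 0) (.lf 0))) (.nd (.nd (.lf 0) (.lf 0)) (.nd (.lf 0) (.lf 0))))) (.nd (.nd (.nd (.nd (.lf 0) (.lf 0)) (.nd (.lf 0) (.lf 0))) (.nd (.nd (.lf 0) (.lf 0)) (.nd (.lf 0) (.lf 0)))) (.nd (.nd (.nd (.lf 0) (.lf 0)) (.nd (.lf 0) (.lf 0))) (.nd (.nd (.lf 0) (.lf 0)) (.nd (.lf 0) (.lf 0))))))) (.nd (.nd (.nd (.nd (.nd (.nd (.lf 0) (.lf 0)) (.nd (.lf 0) (.lf 0))) (.nd (.nd (.lf 0) (.lf 0)) (.nd (.lf 0) (.lf 0)))) (.nd (.nd (.nd (.lf 0) (.lf 0)) (.nd (.lf 0) (.lf 0))) (.nd (.nd (.lf 0) (.lf 0)) (.nd (.lf 0) (.lf 0))))) (.nd (.nd (.nd (.nd (.lf 0) (.lf 0)) (.nd (.lf 0) (.lf 0))) (.nd (.nd (.lf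 0) (.lf 0)) (.nd (.lf 0) (.lf 0)))) (.nd (.nd (.nd (.lf 0) (.lf 0)) (.nd (.lf 0) (.lf 0))) (.nd (.nd (.lf 0) (.lf 0)) (.nd (.lf 0) (.lf 0)))))) (.nd (.nd (.nd (.nd (.nd (.lf 0) (.lf 0)) (.nd (.lf 0) (.lf 0))) (.nd (.nd (.lf 0) (.lf 0)) (.nd (.lf 0) (.lf 0)))) (.nd (.nd (.nd (.lf 0) (.lf 0)) (.nd (.lf 0) (.lf 0))) (.nd (.nd (.lf 0) (.lf 0)) (.nd (.lf 0) (.lf 0))))) (.nd (.nd (.nd (.nd (.lf 0) (.lf 0)) (.nd (.lf 0) (.lf 0))) (.nd (.nd (.lf 0) (.lf 0)) (.nd (.lf 0) (.lf 0)))) (.nd (.nd (.nd (.lf 0) (.lf 0)) (.nd (.lf 0) (.lf 0))) (.nd (.nd (.lf 0) (.lf 0)) (.nd (.lf 0) (.lf 0))))))))))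

/-- table part -/
def tabT_12 : Tr :=
  .nd (.nd (.nd (.nd (.nd (.nd (.nd (.nd (.nd (.nd (.lf 0) (.lf 0)) (.nd (.lf 0) (.lf 0))) (.nd (.nd (.lf 0) (.lf 0)) (.nd (.lf 0) (.lf 0)))) (.nd (.nd (.nd (.lf 0) (.lf 0)) (.nd (.lf 0) (.lf 0))) (.nd (.nd (.lf 0) (.lf 0)) (.nd (.lf 0) (.lf 0))))) (.nd (.nd (.nd (.nd (.lf 0) (.lf 0)) (.nd (.lf 0) (.lf 0))) (.nd (.nd (.lf 0) (.lf 0)) (.nd (.lf 0) (.lf 0)))) (.nd (.nd (.nd (.lf 0) (.lf 0)) (.nd (.lf 0) (.lf 0))) (.nd (.nd (.lf 0) (.lf 0)) (.nd (.lf 0) (.lf 0)))))) (.nd (.nd (.nd (.nd (.nd (.lf 0) (.lf 0)) (.nd (.lf 0) (.lf 0))) (.nd (.nd (.lf 0) (.lf 0)) (.nd (.lf 0) (.lf 0)))) (.nd (.nd (.nd (.lf 71) (.lf 0)) (.nd (.lf 0) (.lf 0))) (.nd (.nd (.lf 0) (.lf 0)) (.nd (.lf 0) (.lf 0))))) (.nd (.nd (.nd (.nd (.lf 0) (.lf 0)) (.nd (.lf 0) (.lf 0))) (.nd (.nd (.lf 0)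 (.lf 0)) (.nd (.lf 0) (.lf 0)))) (.nd (.nd (.nd (.lf 0) (.lf 0)) (.nd (.lf 0) (.lf 0))) (.nd (.nd (.lf 0) (.lf 0)) (.nd (.lf 0) (.lf 0))))))) (.nd (.nd (.nd (.nd (.nd (.nd (.lf 0) (.lf 0)) (.nd (.lf 0) (.lf 0))) (.nd (.nd (.lf 0) (.lf 0)) (.nd (.lf 0) (.lf 0)))) (.nd (.nd (.nd (.lf 0) (.lf 0)) (.nd (.lf 0) (.lf 0))) (.nd (.nd (.lf 0) (.lf 0)) (.nd (.lf 0) (.lf 0))))) (.nd (.nd (.nd (.nd (.lf 0) (.lf 0)) (.nd (.lf 0) (.lf 0))) (.nd (.nd (.lf 0) (.lf 0)) (.nd (.lf 0) (.lf 0)))) (.nd (.nd (.nd (.lf 0) (.lf 0)) (.nd (.lf 97) (.lf 0))) (.nd (.nd (.lf 0) (.lf 0)) (.nd (.lf 0) (.lf 0)))))) (.nd (.nd (.nd (.nd (.nd (.lf 0) (.lf 0)) (.nd (.lf 0) (.lf 0))) (.nd (.nd (.lf 0) (.lf 0)) (.nd (.lf 0) (.lf 0)))) (.nd (.nd (.nd (.lf 0) (.lf 0)) (.nd (.lf 0) (.lf 0))) (.nd (.nd (.lf 0) (.lf 0)) (.nd (.lf 0) (.lf 0)))))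 (.nd (.nd (.nd (.nd (.lf 0) (.lf 0)) (.nd (.lf 0) (.lf 0))) (.nd (.nd (.lf 0) (.lf 0)) (.nd (.lf 0) (.lf 0)))) (.nd (.nd (.nd (.lf 0) (.lf 0)) (.nd (.lf 0) (.lf 0))) (.nd (.nd (.lf 0) (.lf 0)) (.nd (.lf 0) (.lf 0)))))))) (.nd (.nd (.nd (.nd (.nd (.nd (.nd (.lf 0) (.lf 0)) (.nd (.lf 0) (.lf 0))) (.nd (.nd (.lf 0) (.lf 0)) (.nd (.lf 0) (.lf 0)))) (.nd (.nd (.nd (.lf 0) (.lf 0)) (.nd (.lf 0) (.lf 0))) (.nd (.nd (.lf 0) (.lf 0)) (.nd (.lf 0) (.lf 0))))) (.nd (.nd (.nd (.nd (.lf 41) (.lf 0)) (.nd (.lf 0) (.lf 0))) (.nd (.nd (.lf 0) (.lf 0)) (.nd (.lf 108) (.lf 0)))) (.nd (.nd (.nd (.lf 0) (.lf 0)) (.nd (.lf 0) (.lf 0))) (.nd (.nd (.lf 0) (.lf 0)) (.nd (.lf 0) (.lf 0)))))) (.nd (.nd (.nd (.nd (.nd (.lf 0) (.lf 0)) (.nd (.lf 0) (.lf 0))) (.nd (.nd (.lf 0) (.lf 0)) (.nd (.lf 0) (.lf 0)))) (.nd (.nd (.nd (.lf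 0) (.lf 0)) (.nd (.lf 0) (.lf 0))) (.nd (.nd (.lf 0) (.lf 0)) (.nd (.lf 0) (.lf 0))))) (.nd (.nd (.nd (.nd (.lf 0) (.lf 0)) (.nd (.lf 0) (.lf 0))) (.nd (.nd (.lf 0) (.lf 0)) (.nd (.lf 0) (.lf 0)))) (.nd (.nd (.nd (.lf 0) (.lf 0)) (.nd (.lf 0) (.lf 0))) (.nd (.nd (.lf 0) (.lf 0)) (.nd (.lf 0) (.lf 0))))))) (.nd (.nd (.nd (.nd (.nd (.nd (.lf 0) (.lf 0)) (.nd (.lf 0) (.lf 0))) (.nd (.nd (.lf 0) (.lf 0)) (.nd (.lf 0) (.lf 0)))) (.nd (.nd (.nd (.lf 0) (.lf 0)) (.nd (.lf 0) (.lf 0))) (.nd (.nd (.lf 0) (.lf 0)) (.nd (.lf 0) (.lf 0))))) (.nd (.nd (.nd (.nd (.lf 0) (.lf 0)) (.nd (.lf 0) (.lf 0))) (.nd (.nd (.lf 0) (.lf 0)) (.nd (.lf 0) (.lf 0)))) (.nd (.nd (.nd (.lf 0) (.lf 0)) (.nd (.lf 0) (.lf 0))) (.nd (.nd (.lf 0) (.lf 0)) (.nd (.lf 0) (.lf 0)))))) (.nd (.nd (.nd (.nd (.nd (.lf 0) (.lf 0)) (.nd (.lf 0)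 (.lf 0))) (.nd (.nd (.lf 0) (.lf 0)) (.nd (.lf 0) (.lf 0)))) (.nd (.nd (.nd (.lf 0) (.lf 0)) (.nd (.lf 0) (.lf 0))) (.nd (.nd (.lf 0) (.lf 0)) (.nd (.lf 0) (.lf 0))))) (.nd (.nd (.nd (.nd (.lf 0) (.lf 0)) (.nd (.lf 0) (.lf 0))) (.nd (.nd (.lf 0) (.lf 0)) (.nd (.lf 0) (.lf 0)))) (.nd (.nd (.nd (.lf 0) (.lf 0)) (.nd (.lf 0) (.lf 0))) (.nd (.nd (.lf 0) (.lf 0)) (.nd (.lf 0) (.lf 0))))))))) (.nd (.nd (.nd (.nd (.nd (.nd (.nd (.nd (.lf 0) (.lf 0)) (.nd (.lf 78) (.lf 0))) (.nd (.nd (.lf 0) (.lf 0)) (.nd (.lf 0) (.lf 0)))) (.nd (.nd (.nd (.lf 0) (.lf 0)) (.nd (.lf 0) (.lf 0))) (.nd (.nd (.lf 0) (.lf 0)) (.nd (.lf 0) (.lf 0))))) (.nd (.nd (.nd (.nd (.lf 0) (.lf 0)) (.nd (.lf 0) (.lf 0))) (.nd (.nd (.lf 0) (.lf 0)) (.nd (.lf 0) (.lf 0)))) (.nd (.nd (.nd (.lf 0) (.lf 0)) (.nd (.lf 0) (.lf 0))) (.nd (.nd (.lf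 0) (.lf 0)) (.nd (.lf 0) (.lf 0)))))) (.nd (.nd (.nd (.nd (.nd (.lf 0) (.lf 0)) (.nd (.lf 0) (.lf 0))) (.nd (.nd (.lf 0) (.lf 0)) (.nd (.lf 0) (.lf 0)))) (.nd (.nd (.nd (.lf 0) (.lf 0)) (.nd (.lf 0) (.lf 0))) (.nd (.nd (.lf 0) (.lf 0)) (.nd (.lf 0) (.lf 0))))) (.nd (.nd (.nd (.nd (.lf 0) (.lf 0)) (.nd (.lf 0) (.lf 0))) (.nd (.nd (.lf 57) (.lf 0)) (.nd (.lf 0) (.lf 0)))) (.nd (.nd (.nd (.lf 0) (.lf 0)) (.nd (.lf 0) (.lf 0))) (.nd (.nd (.lf 0) (.lf 0)) (.nd (.lf 19) (.lf 0))))))) (.nd (.nd (.nd (.nd (.nd (.nd (.lf 0) (.lf 0)) (.nd (.lf 0) (.lf 0))) (.nd (.nd (.lf 0) (.lf 0)) (.nd (.lf 0) (.lf 0)))) (.nd (.nd (.nd (.lf 0) (.lf 0)) (.nd (.lf 0) (.lf 0))) (.nd (.nd (.lf 0) (.lf 0)) (.nd (.lf 0) (.lf 0))))) (.nd (.nd (.nd (.nd (.lf 0) (.lf 0)) (.nd (.lf 0) (.lf 0))) (.nd (.nd (.lf 0) (.lf 0)) (.nd (.lf 0)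 (.lf 0)))) (.nd (.nd (.nd (.lf 0) (.lf 0)) (.nd (.lf 35) (.lf 0))) (.nd (.nd (.lf 0) (.lf 0)) (.nd (.lf 0) (.lf 0)))))) (.nd (.nd (.nd (.nd (.nd (.lf 0) (.lf 0)) (.nd (.lf 0) (.lf 0))) (.nd (.nd (.lf 0) (.lf 0)) (.nd (.lf 0) (.lf 0)))) (.nd (.nd (.nd (.lf 0) (.lf 0)) (.nd (.lf 0) (.lf 0))) (.nd (.nd (.lf 0) (.lf 0)) (.nd (.lf 0) (.lf 0))))) (.nd (.nd (.nd (.nd (.lf 0) (.lf 0)) (.nd (.lf 0) (.lf 0))) (.nd (.nd (.lf 0) (.lf 0)) (.nd (.lf 0) (.lf 0)))) (.nd (.nd (.nd (.lf 0) (.lf 0)) (.nd (.lf 0) (.lf 0))) (.nd (.nd (.lf 0) (.lf 0)) (.nd (.lf 0) (.lf 0)))))))) (.nd (.nd (.nd (.nd (.nd (.nd (.nd (.lf 0) (.lf 0)) (.nd (.lf 0) (.lf 0))) (.nd (.nd (.lf 0) (.lf 0)) (.nd (.lf 0) (.lf 0)))) (.nd (.nd (.nd (.lf 0) (.lf 0)) (.nd (.lf 0) (.lf 0))) (.nd (.nd (.lf 0) (.lf 0)) (.nd (.lf 0) (.lf 0))))) (.nd (.nd (.nd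 (.nd (.lf 0) (.lf 0)) (.nd (.lf 0) (.lf 0))) (.nd (.nd (.lf 0) (.lf 0)) (.nd (.lf 0) (.lf 0)))) (.nd (.nd (.nd (.lf 0) (.lf 0)) (.nd (.lf 0) (.lf 0))) (.nd (.nd (.lf 0) (.lf 0)) (.nd (.lf 0) (.lf 0)))))) (.nd (.nd (.nd (.nd (.nd (.lf 0) (.lf 0)) (.nd (.lf 0) (.lf 0))) (.nd (.nd (.lf 0) (.lf 0)) (.nd (.lf 0) (.lf 0)))) (.nd (.nd (.nd (.lf 0) (.lf 0)) (.nd (.lf 0) (.lf 0))) (.nd (.nd (.lf 0) (.lf 0)) (.nd (.lf 0) (.lf 0))))) (.nd (.nd (.nd (.nd (.lf 0) (.lf 0)) (.nd (.lf 0) (.lf 0))) (.nd (.nd (.lf 0) (.lf 0)) (.nd (.lf 0) (.lf 0)))) (.nd (.nd (.nd (.lf 0) (.lf 0)) (.nd (.lf 0) (.lf 0))) (.nd (.nd (.lf 0) (.lf 0)) (.nd (.lf 0) (.lf 0))))))) (.nd (.nd (.nd (.nd (.nd (.nd (.lf 0) (.lf 0)) (.nd (.lf 0) (.lf 0))) (.nd (.nd (.lf 0) (.lf 0)) (.nd (.lf 36) (.lf 0)))) (.nd (.nd (.nd (.lf 0) (.lf 0)) (.nd (.lf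 0) (.lf 0))) (.nd (.nd (.lf 0) (.lf 0)) (.nd (.lf 0) (.lf 0))))) (.nd (.nd (.nd (.nd (.lf 0) (.lf 0)) (.nd (.lf 0) (.lf 0))) (.nd (.nd (.lf 0) (.lf 0)) (.nd (.lf 0) (.lf 0)))) (.nd (.nd (.nd (.lf 0) (.lf 0)) (.nd (.lf 0) (.lf 0))) (.nd (.nd (.lf 0) (.lf 0)) (.nd (.lf 0) (.lf 0)))))) (.nd (.nd (.nd (.nd (.nd (.lf 0) (.lf 0)) (.nd (.lf 0) (.lf 0))) (.nd (.nd (.lf 0) (.lf 0)) (.nd (.lf 0) (.lf 0)))) (.nd (.nd (.nd (.lf 0) (.lf 0)) (.nd (.lf 0) (.lf 0))) (.nd (.nd (.lf 0) (.lf 0)) (.nd (.lf 0) (.lf 0))))) (.nd (.nd (.nd (.nd (.lf 0) (.lf 0)) (.nd (.lf 0) (.lf 0))) (.nd (.nd (.lf 0) (.lf 0)) (.nd (.lf 0) (.lf 0)))) (.nd (.nd (.nd (.lf 0) (.lf 0)) (.nd (.lf 0) (.lf 0))) (.nd (.nd (.lf 0) (.lf 0)) (.nd (.lf 0) (.lf 0)))))))))) (.nd (.nd (.nd (.nd (.nd (.nd (.nd (.nd (.nd (.lf 0) (.lf 0)) (.nd (.lf 0) (.lf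 0))) (.nd (.nd (.lf 0) (.lf 0)) (.nd (.lf 0) (.lf 0)))) (.nd (.nd (.nd (.lf 0) (.lf 0)) (.nd (.lf 0) (.lf 0))) (.nd (.nd (.lf 0) (.lf 0)) (.nd (.lf 0) (.lf 0))))) (.nd (.nd (.nd (.nd (.lf 0) (.lf 0)) (.nd (.lf 0) (.lf 0))) (.nd (.nd (.lf 0) (.lf 0)) (.nd (.lf 0) (.lf 0)))) (.nd (.nd (.nd (.lf 0) (.lf 0)) (.nd (.lf 0) (.lf 0))) (.nd (.nd (.lf 0) (.lf 0)) (.nd (.lf 0) (.lf 0)))))) (.nd (.nd (.nd (.nd (.nd (.lf 0) (.lf 0)) (.nd (.lf 0) (.lf 0))) (.nd (.nd (.lf 0) (.lf 0)) (.nd (.lf 0) (.lf 0)))) (.nd (.nd (.nd (.lf 0) (.lf 0)) (.nd (.lf 0) (.lf 0))) (.nd (.nd (.lf 0) (.lf 0)) (.nd (.lf 0) (.lf 0))))) (.nd (.nd (.nd (.nd (.lf 0) (.lf 0)) (.nd (.lf 0) (.lf 0))) (.nd (.nd (.lf 0) (.lf 0)) (.nd (.lf 0) (.lf 0)))) (.nd (.nd (.nd (.lf 0) (.lf 0)) (.nd (.lf 0) (.lf 0))) (.nd (.nd (.lf 0) (.lf 0)) (.nd (.lf 0)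 (.lf 0))))))) (.nd (.nd (.nd (.nd (.nd (.nd (.lf 0) (.lf 0)) (.nd (.lf 0) (.lf 0))) (.nd (.nd (.lf 0) (.lf 0)) (.nd (.lf 0) (.lf 0)))) (.nd (.nd (.nd (.lf 0) (.lf 0)) (.nd (.lf 0) (.lf 0))) (.nd (.nd (.lf 0) (.lf 0)) (.nd (.lf 0) (.lf 0))))) (.nd (.nd (.nd (.nd (.lf 0) (.lf 0)) (.nd (.lf 0) (.lf 0))) (.nd (.nd (.lf 0) (.lf 0)) (.nd (.lf 0) (.lf 0)))) (.nd (.nd (.nd (.lf 0) (.lf 0)) (.nd (.lf 0) (.lf 0))) (.nd (.nd (.lf 0) (.lf 0)) (.nd (.lf 0) (.lf 0)))))) (.nd (.nd (.nd (.nd (.nd (.lf 0) (.lf 0)) (.nd (.lf 0) (.lf 0))) (.nd (.nd (.lf 0) (.lf 0)) (.nd (.lf 0) (.lf 0)))) (.nd (.nd (.nd (.lf 0) (.lf 0)) (.nd (.lf 0) (.lf 0))) (.nd (.nd (.lf 0) (.lf 0)) (.nd (.lf 0) (.lf 0))))) (.nd (.nd (.nd (.nd (.lf 0) (.lf 0)) (.nd (.lf 0) (.lf 0))) (.nd (.nd (.lf 0) (.lf 0)) (.nd (.lf 0) (.lf 0)))) (.nd (.nd (.nd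 (.lf 0) (.lf 0)) (.nd (.lf 0) (.lf 0))) (.nd (.nd (.lf 0) (.lf 0)) (.nd (.lf 0) (.lf 0)))))))) (.nd (.nd (.nd (.nd (.nd (.nd (.nd (.lf 0) (.lf 0)) (.nd (.lf 0) (.lf 0))) (.nd (.nd (.lf 0) (.lf 0)) (.nd (.lf 0) (.lf 0)))) (.nd (.nd (.nd (.lf 0) (.lf 0)) (.nd (.lf 0) (.lf 0))) (.nd (.nd (.lf 0) (.lf 0)) (.nd (.lf 0) (.lf 0))))) (.nd (.nd (.nd (.nd (.lf 0) (.lf 0)) (.nd (.lf 0) (.lf 0))) (.nd (.nd (.lf 0) (.lf 0)) (.nd (.lf 0) (.lf 0)))) (.nd (.nd (.nd (.lf 0) (.lf 0)) (.nd (.lf 0) (.lf 0))) (.nd (.nd (.lf 0) (.lf 0)) (.nd (.lf 0) (.lf 0)))))) (.nd (.nd (.nd (.nd (.nd (.lf 0) (.lf 0)) (.nd (.lf 0) (.lf 0))) (.nd (.nd (.lf 0) (.lf 0)) (.nd (.lf 0) (.lf 0)))) (.nd (.nd (.nd (.lf 0) (.lf 0)) (.nd (.lf 0) (.lf 0))) (.nd (.nd (.lf 0) (.lf 0)) (.nd (.lf 0) (.lf 0))))) (.nd (.nd (.nd (.nd (.lf 0) (.lf 0)) (.nd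 (.lf 0) (.lf 0))) (.nd (.nd (.lf 0) (.lf 0)) (.nd (.lf 0) (.lf 0)))) (.nd (.nd (.nd (.lf 0) (.lf 0)) (.nd (.lf 0) (.lf 0))) (.nd (.nd (.lf 0) (.lf 0)) (.nd (.lf 0) (.lf 0))))))) (.nd (.nd (.nd (.nd (.nd (.nd (.lf 0) (.lf 0)) (.nd (.lf 0) (.lf 0))) (.nd (.nd (.lf 0) (.lf 0)) (.nd (.lf 0) (.lf 0)))) (.nd (.nd (.nd (.lf 0) (.lf 0)) (.nd (.lf 0) (.lf 0))) (.nd (.nd (.lf 0) (.lf 0)) (.nd (.lf 0) (.lf 0))))) (.nd (.nd (.nd (.nd (.lf 0) (.lf 0)) (.nd (.lf 0) (.lf 0))) (.nd (.nd (.lf 0) (.lf 0)) (.nd (.lf 0) (.lf 0)))) (.nd (.nd (.nd (.lf 0) (.lf 0)) (.nd (.lf 0) (.lf 0))) (.nd (.nd (.lf 0) (.lf 0)) (.nd (.lf 118) (.lf 0)))))) (.nd (.nd (.nd (.nd (.nd (.lf 0) (.lf 0)) (.nd (.lf 0) (.lf 0))) (.nd (.nd (.lf 0) (.lf 0)) (.nd (.lf 0) (.lf 0)))) (.nd (.nd (.nd (.lf 0) (.lf 0)) (.nd (.lf 0) (.lf 0))) (.nd (.nd (.lf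 0) (.lf 0)) (.nd (.lf 0) (.lf 0))))) (.nd (.nd (.nd (.nd (.lf 0) (.lf 0)) (.nd (.lf 0) (.lf 0))) (.nd (.nd (.lf 0) (.lf 0)) (.nd (.lf 0) (.lf 0)))) (.nd (.nd (.nd (.lf 0) (.lf 0)) (.nd (.lf 0) (.lf 0))) (.nd (.nd (.lf 0) (.lf 0)) (.nd (.lf 0) (.lf 0))))))))) (.nd (.nd (.nd (.nd (.nd (.nd (.nd (.nd (.lf 0) (.lf 0)) (.nd (.lf 0) (.lf 0))) (.nd (.nd (.lf 0) (.lf 0)) (.nd (.lf 0) (.lf 0)))) (.nd (.nd (.nd (.lf 0) (.lf 0)) (.nd (.lf 0) (.lf 0))) (.nd (.nd (.lf 0) (.lf 0)) (.nd (.lf 0) (.lf 0))))) (.nd (.nd (.nd (.nd (.lf 0) (.lf 0)) (.nd (.lf 0) (.lf 0))) (.nd (.nd (.lf 32) (.lf 0)) (.nd (.lf 0) (.lf 0)))) (.nd (.nd (.nd (.lf 0) (.lf 0)) (.nd (.lf 0) (.lf 0))) (.nd (.nd (.lf 0) (.lf 0)) (.nd (.lf 0) (.lf 0)))))) (.nd (.nd (.nd (.nd (.nd (.lf 0) (.lf 0)) (.nd (.lf 0) (.lf 0))) (.nd (.nd (.lf 0) (.lf 0))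 (.nd (.lf 0) (.lf 0)))) (.nd (.nd (.nd (.lf 101) (.lf 0)) (.nd (.lf 0) (.lf 0))) (.nd (.nd (.lf 0) (.lf 0)) (.nd (.lf 0) (.lf 0))))) (.nd (.nd (.nd (.nd (.lf 0) (.lf 0)) (.nd (.lf 0) (.lf 0))) (.nd (.nd (.lf 0) (.lf 0)) (.nd (.lf 0) (.lf 0)))) (.nd (.nd (.nd (.lf 0) (.lf 0)) (.nd (.lf 0) (.lf 0))) (.nd (.nd (.lf 0) (.lf 0)) (.nd (.lf 0) (.lf 0))))))) (.nd (.nd (.nd (.nd (.nd (.nd (.lf 0) (.lf 0)) (.nd (.lf 0) (.lf 0))) (.nd (.nd (.lf 0) (.lf 0)) (.nd (.lf 0) (.lf 0)))) (.nd (.nd (.nd (.lf 0) (.lf 0)) (.nd (.lf 0) (.lf 0))) (.nd (.nd (.lf 0) (.lf 0)) (.nd (.lf 0) (.lf 0))))) (.nd (.nd (.nd (.nd (.lf 0) (.lf 0)) (.nd (.lf 0) (.lf 0))) (.nd (.nd (.lf 0) (.lf 0)) (.nd (.lf 0) (.lf 0)))) (.nd (.nd (.nd (.lf 0) (.lf 0)) (.nd (.lf 0) (.lf 0))) (.nd (.nd (.lf 0) (.lf 0)) (.nd (.lf 0) (.lf 0)))))) (.nd (.nd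 (.nd (.nd (.nd (.lf 0) (.lf 0)) (.nd (.lf 0) (.lf 0))) (.nd (.nd (.lf 0) (.lf 0)) (.nd (.lf 0) (.lf 0)))) (.nd (.nd (.nd (.lf 0) (.lf 0)) (.nd (.lf 0) (.lf 0))) (.nd (.nd (.lf 0) (.lf 0)) (.nd (.lf 0) (.lf 0))))) (.nd (.nd (.nd (.nd (.lf 0) (.lf 0)) (.nd (.lf 0) (.lf 0))) (.nd (.nd (.lf 0) (.lf 0)) (.nd (.lf 0) (.lf 0)))) (.nd (.nd (.nd (.lf 0) (.lf 0)) (.nd (.lf 0) (.lf 0))) (.nd (.nd (.lf 0) (.lf 0)) (.nd (.lf 0) (.lf 0)))))))) (.nd (.nd (.nd (.nd (.nd (.nd (.nd (.lf 0) (.lf 0)) (.nd (.lf 0) (.lf 0))) (.nd (.nd (.lf 0) (.lf 0)) (.nd (.lf 0) (.lf 0)))) (.nd (.nd (.nd (.lf 0) (.lf 0)) (.nd (.lf 0) (.lf 0))) (.nd (.nd (.lf 0) (.lf 0)) (.nd (.lf 0) (.lf 0))))) (.nd (.nd (.nd (.nd (.lf 0) (.lf 0)) (.nd (.lf 0) (.lf 0))) (.nd (.nd (.lf 0) (.lf 0)) (.nd (.lf 0) (.lf 0)))) (.nd (.nd (.nd (.lf 0) (.lf 0))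 (.nd (.lf 0) (.lf 0))) (.nd (.nd (.lf 0) (.lf 0)) (.nd (.lf 0) (.lf 0)))))) (.nd (.nd (.nd (.nd (.nd (.lf 0) (.lf 0)) (.nd (.lf 0) (.lf 0))) (.nd (.nd (.lf 0) (.lf 0)) (.nd (.lf 0) (.lf 0)))) (.nd (.nd (.nd (.lf 0) (.lf 0)) (.nd (.lf 0) (.lf 0))) (.nd (.nd (.lf 0) (.lf 0)) (.nd (.lf 0) (.lf 0))))) (.nd (.nd (.nd (.nd (.lf 0) (.lf 0)) (.nd (.lf 0) (.lf 0))) (.nd (.nd (.lf 0) (.lf 0)) (.nd (.lf 0) (.lf 0)))) (.nd (.nd (.nd (.lf 0) (.lf 0)) (.nd (.lf 0) (.lf 0))) (.nd (.nd (.lf 0) (.lf 0)) (.nd (.lf 0) (.lf 0))))))) (.nd (.nd (.nd (.nd (.nd (.nd (.lf 0) (.lf 0)) (.nd (.lf 0) (.lf 0))) (.nd (.nd (.lf 0) (.lf 0)) (.nd (.lf 0) (.lf 0)))) (.nd (.nd (.nd (.lf 0) (.lf 0)) (.nd (.lf 0) (.lf 0))) (.nd (.nd (.lf 0) (.lf 0)) (.nd (.lf 0) (.lf 0))))) (.nd (.nd (.nd (.nd (.lf 0) (.lf 0)) (.nd (.lf 0) (.lf 0))) (.nd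 (.nd (.lf 0) (.lf 0)) (.nd (.lf 0) (.lf 0)))) (.nd (.nd (.nd (.lf 0) (.lf 0)) (.nd (.lf 0) (.lf 0))) (.nd (.nd (.lf 0) (.lf 0)) (.nd (.lf 0) (.lf 0)))))) (.nd (.nd (.nd (.nd (.nd (.lf 0) (.lf 0)) (.nd (.lf 0) (.lf 0))) (.nd (.nd (.lf 113) (.lf 0)) (.nd (.lf 0) (.lf 0)))) (.nd (.nd (.nd (.lf 0) (.lf 0)) (.nd (.lf 0) (.lf 0))) (.nd (.nd (.lf 0) (.lf 0)) (.nd (.lf 0) (.lf 0))))) (.nd (.nd (.nd (.nd (.lf 0) (.lf 0)) (.nd (.lf 0) (.lf 0))) (.nd (.nd (.lf 0) (.lf 0)) (.nd (.lf 0) (.lf 0)))) (.nd (.nd (.nd (.lf 0) (.lf 0)) (.nd (.lf 0) (.lf 0))) (.nd (.nd (.lf 0) (.lf 0)) (.nd (.lf 0) (.lf 0))))))))))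

/-- table part -/
def tabT_13 : Tr :=
  .nd (.nd (.nd (.nd (.nd (.nd (.nd (.nd (.nd (.nd (.lf 0) (.lf 0)) (.nd (.lf 0) (.lf 0))) (.nd (.nd (.lf 0) (.lf 0)) (.nd (.lf 0) (.lf 0)))) (.nd (.nd (.nd (.lf 0) (.lf 0)) (.nd (.lf 0) (.lf 0))) (.nd (.nd (.lf 43) (.lf 0)) (.nd (.lf 0) (.lf 0))))) (.nd (.nd (.nd (.nd (.lf 0) (.lf 0)) (.nd (.lf 0) (.lf 0))) (.nd (.nd (.lf 0) (.lf 0)) (.nd (.lf 0) (.lf 0)))) (.nd (.nd (.nd (.lf 0) (.lf 0)) (.nd (.lf 0) (.lf 0))) (.nd (.nd (.lf 0) (.lf 0)) (.nd (.lf 0) (.lf 0)))))) (.nd (.nd (.nd (.nd (.nd (.lf 0) (.lf 0)) (.nd (.lf 0) (.lf 0))) (.nd (.nd (.lf 0) (.lf 0)) (.nd (.lf 0) (.lf 0)))) (.nd (.nd (.nd (.lf 0) (.lf 0)) (.nd (.lf 0) (.lf 0))) (.nd (.nd (.lf 0) (.lf 0)) (.nd (.lf 0) (.lf 0))))) (.nd (.nd (.nd (.nd (.lf 0) (.lf 0)) (.nd (.lf 0) (.lf 0))) (.nd (.nd (.lf 0)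 (.lf 0)) (.nd (.lf 0) (.lf 0)))) (.nd (.nd (.nd (.lf 0) (.lf 0)) (.nd (.lf 0) (.lf 0))) (.nd (.nd (.lf 0) (.lf 0)) (.nd (.lf 0) (.lf 0))))))) (.nd (.nd (.nd (.nd (.nd (.nd (.lf 0) (.lf 0)) (.nd (.lf 79) (.lf 0))) (.nd (.nd (.lf 0) (.lf 0)) (.nd (.lf 0) (.lf 0)))) (.nd (.nd (.nd (.lf 0) (.lf 0)) (.nd (.lf 0) (.lf 0))) (.nd (.nd (.lf 0) (.lf 0)) (.nd (.lf 0) (.lf 0))))) (.nd (.nd (.nd (.nd (.lf 0) (.lf 0)) (.nd (.lf 0) (.lf 0))) (.nd (.nd (.lf 0) (.lf 0)) (.nd (.lf 0) (.lf 0)))) (.nd (.nd (.nd (.lf 0) (.lf 0)) (.nd (.lf 0) (.lf 0))) (.nd (.nd (.lf 0) (.lf 0)) (.nd (.lf 0) (.lf 0)))))) (.nd (.nd (.nd (.nd (.nd (.lf 0) (.lf 0)) (.nd (.lf 0) (.lf 0))) (.nd (.nd (.lf 0) (.lf 0)) (.nd (.lf 0) (.lf 0)))) (.nd (.nd (.nd (.lf 0) (.lf 0)) (.nd (.lf 0) (.lf 0))) (.nd (.nd (.lf 0) (.lf 0)) (.nd (.lf 0) (.lf 0)))))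 (.nd (.nd (.nd (.nd (.lf 0) (.lf 0)) (.nd (.lf 0) (.lf 0))) (.nd (.nd (.lf 0) (.lf 0)) (.nd (.lf 0) (.lf 0)))) (.nd (.nd (.nd (.lf 0) (.lf 0)) (.nd (.lf 0) (.lf 0))) (.nd (.nd (.lf 0) (.lf 0)) (.nd (.lf 0) (.lf 0)))))))) (.nd (.nd (.nd (.nd (.nd (.nd (.nd (.lf 0) (.lf 0)) (.nd (.lf 0) (.lf 0))) (.nd (.nd (.lf 0) (.lf 0)) (.nd (.lf 0) (.lf 0)))) (.nd (.nd (.nd (.lf 0) (.lf 0)) (.nd (.lf 0) (.lf 0))) (.nd (.nd (.lf 0) (.lf 0)) (.nd (.lf 0) (.lf 0))))) (.nd (.nd (.nd (.nd (.lf 0) (.lf 0)) (.nd (.lf 0) (.lf 0))) (.nd (.nd (.lf 0) (.lf 0)) (.nd (.lf 0) (.lf 0)))) (.nd (.nd (.nd (.lf 0) (.lf 0)) (.nd (.lf 0) (.lf 0))) (.nd (.nd (.lf 0) (.lf 0)) (.nd (.lf 0) (.lf 0)))))) (.nd (.nd (.nd (.nd (.nd (.lf 0) (.lf 0)) (.nd (.lf 0) (.lf 0))) (.nd (.nd (.lf 0) (.lf 0)) (.nd (.lf 0) (.lf 0)))) (.nd (.nd (.nd (.lf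 0) (.lf 0)) (.nd (.lf 0) (.lf 0))) (.nd (.nd (.lf 0) (.lf 0)) (.nd (.lf 0) (.lf 0))))) (.nd (.nd (.nd (.nd (.lf 0) (.lf 0)) (.nd (.lf 0) (.lf 0))) (.nd (.nd (.lf 0) (.lf 0)) (.nd (.lf 0) (.lf 0)))) (.nd (.nd (.nd (.lf 0) (.lf 0)) (.nd (.lf 0) (.lf 0))) (.nd (.nd (.lf 0) (.lf 0)) (.nd (.lf 0) (.lf 0))))))) (.nd (.nd (.nd (.nd (.nd (.nd (.lf 0) (.lf 0)) (.nd (.lf 0) (.lf 0))) (.nd (.nd (.lf 0) (.lf 0)) (.nd (.lf 0) (.lf 0)))) (.nd (.nd (.nd (.lf 0) (.lf 0)) (.nd (.lf 0) (.lf 0))) (.nd (.nd (.lf 0) (.lf 0)) (.nd (.lf 0) (.lf 0))))) (.nd (.nd (.nd (.nd (.lf 0) (.lf 0)) (.nd (.lf 0) (.lf 0))) (.nd (.nd (.lf 0) (.lf 0)) (.nd (.lf 0) (.lf 0)))) (.nd (.nd (.nd (.lf 0) (.lf 0)) (.nd (.lf 0) (.lf 0))) (.nd (.nd (.lf 0) (.lf 0)) (.nd (.lf 0) (.lf 0)))))) (.nd (.nd (.nd (.nd (.nd (.lf 0) (.lf 0)) (.nd (.lf 0)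 (.lf 0))) (.nd (.nd (.lf 0) (.lf 0)) (.nd (.lf 0) (.lf 0)))) (.nd (.nd (.nd (.lf 0) (.lf 0)) (.nd (.lf 0) (.lf 0))) (.nd (.nd (.lf 0) (.lf 0)) (.nd (.lf 0) (.lf 0))))) (.nd (.nd (.nd (.nd (.lf 89) (.lf 0)) (.nd (.lf 0) (.lf 0))) (.nd (.nd (.lf 0) (.lf 0)) (.nd (.lf 0) (.lf 0)))) (.nd (.nd (.nd (.lf 0) (.lf 0)) (.nd (.lf 0) (.lf 0))) (.nd (.nd (.lf 0) (.lf 0)) (.nd (.lf 0) (.lf 0))))))))) (.nd (.nd (.nd (.nd (.nd (.nd (.nd (.nd (.lf 0) (.lf 0)) (.nd (.lf 0) (.lf 0))) (.nd (.nd (.lf 0) (.lf 0)) (.nd (.lf 0) (.lf 0)))) (.nd (.nd (.nd (.lf 0) (.lf 0)) (.nd (.lf 0) (.lf 0))) (.nd (.nd (.lf 0) (.lf 0)) (.nd (.lf 0) (.lf 0))))) (.nd (.nd (.nd (.nd (.lf 0) (.lf 0)) (.nd (.lf 0) (.lf 0))) (.nd (.nd (.lf 0) (.lf 0)) (.nd (.lf 0) (.lf 0)))) (.nd (.nd (.nd (.lf 0) (.lf 0)) (.nd (.lf 0) (.lf 0))) (.nd (.nd (.lf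 0) (.lf 0)) (.nd (.lf 0) (.lf 0)))))) (.nd (.nd (.nd (.nd (.nd (.lf 0) (.lf 0)) (.nd (.lf 0) (.lf 0))) (.nd (.nd (.lf 0) (.lf 0)) (.nd (.lf 0) (.lf 0)))) (.nd (.nd (.nd (.lf 0) (.lf 0)) (.nd (.lf 0) (.lf 0))) (.nd (.nd (.lf 0) (.lf 0)) (.nd (.lf 0) (.lf 0))))) (.nd (.nd (.nd (.nd (.lf 0) (.lf 0)) (.nd (.lf 0) (.lf 0))) (.nd (.nd (.lf 0) (.lf 0)) (.nd (.lf 0) (.lf 0)))) (.nd (.nd (.nd (.lf 0) (.lf 0)) (.nd (.lf 0) (.lf 0))) (.nd (.nd (.lf 0) (.lf 0)) (.nd (.lf 0) (.lf 0))))))) (.nd (.nd (.nd (.nd (.nd (.nd (.lf 0) (.lf 0)) (.nd (.lf 0) (.lf 0))) (.nd (.nd (.lf 0) (.lf 0)) (.nd (.lf 0) (.lf 0)))) (.nd (.nd (.nd (.lf 0) (.lf 0)) (.nd (.lf 0) (.lf 0))) (.nd (.nd (.lf 0) (.lf 0)) (.nd (.lf 0) (.lf 0))))) (.nd (.nd (.nd (.nd (.lf 0) (.lf 0)) (.nd (.lf 0) (.lf 0))) (.nd (.nd (.lf 0) (.lf 0)) (.nd (.lf 0)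 (.lf 0)))) (.nd (.nd (.nd (.lf 0) (.lf 0)) (.nd (.lf 0) (.lf 0))) (.nd (.nd (.lf 0) (.lf 0)) (.nd (.lf 0) (.lf 0)))))) (.nd (.nd (.nd (.nd (.nd (.lf 0) (.lf 0)) (.nd (.lf 0) (.lf 0))) (.nd (.nd (.lf 0) (.lf 0)) (.nd (.lf 0) (.lf 0)))) (.nd (.nd (.nd (.lf 0) (.lf 0)) (.nd (.lf 0) (.lf 0))) (.nd (.nd (.lf 0) (.lf 0)) (.nd (.lf 0) (.lf 0))))) (.nd (.nd (.nd (.nd (.lf 112) (.lf 0)) (.nd (.lf 0) (.lf 0))) (.nd (.nd (.lf 0) (.lf 0)) (.nd (.lf 0) (.lf 0)))) (.nd (.nd (.nd (.lf 102) (.lf 0)) (.nd (.lf 0) (.lf 0))) (.nd (.nd (.lf 0) (.lf 0)) (.nd (.lf 0) (.lf 0)))))))) (.nd (.nd (.nd (.nd (.nd (.nd (.nd (.lf 0) (.lf 0)) (.nd (.lf 0) (.lf 0))) (.nd (.nd (.lf 0) (.lf 0)) (.nd (.lf 0) (.lf 0)))) (.nd (.nd (.nd (.lf 0) (.lf 0)) (.nd (.lf 0) (.lf 0))) (.nd (.nd (.lf 0) (.lf 0)) (.nd (.lf 0) (.lf 0))))) (.nd (.nd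 (.nd (.nd (.lf 0) (.lf 0)) (.nd (.lf 0) (.lf 0))) (.nd (.nd (.lf 0) (.lf 0)) (.nd (.lf 0) (.lf 0)))) (.nd (.nd (.nd (.lf 0) (.lf 0)) (.nd (.lf 0) (.lf 0))) (.nd (.nd (.lf 0) (.lf 0)) (.nd (.lf 0) (.lf 0)))))) (.nd (.nd (.nd (.nd (.nd (.lf 0) (.lf 0)) (.nd (.lf 0) (.lf 0))) (.nd (.nd (.lf 0) (.lf 0)) (.nd (.lf 0) (.lf 0)))) (.nd (.nd (.nd (.lf 0) (.lf 0)) (.nd (.lf 0) (.lf 0))) (.nd (.nd (.lf 0) (.lf 0)) (.nd (.lf 0) (.lf 0))))) (.nd (.nd (.nd (.nd (.lf 0) (.lf 0)) (.nd (.lf 0) (.lf 0))) (.nd (.nd (.lf 0) (.lf 0)) (.nd (.lf 0) (.lf 0)))) (.nd (.nd (.nd (.lf 0) (.lf 0)) (.nd (.lf 0) (.lf 0))) (.nd (.nd (.lf 0) (.lf 0)) (.nd (.lf 0) (.lf 0))))))) (.nd (.nd (.nd (.nd (.nd (.nd (.lf 0) (.lf 0)) (.nd (.lf 0) (.lf 0))) (.nd (.nd (.lf 0) (.lf 0)) (.nd (.lf 0) (.lf 0)))) (.nd (.nd (.nd (.lf 0) (.lf 0)) (.nd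 (.lf 0) (.lf 0))) (.nd (.nd (.lf 0) (.lf 0)) (.nd (.lf 0) (.lf 0))))) (.nd (.nd (.nd (.nd (.lf 0) (.lf 0)) (.nd (.lf 0) (.lf 0))) (.nd (.nd (.lf 0) (.lf 0)) (.nd (.lf 0) (.lf 0)))) (.nd (.nd (.nd (.lf 0) (.lf 0)) (.nd (.lf 0) (.lf 0))) (.nd (.nd (.lf 0) (.lf 0)) (.nd (.lf 0) (.lf 0)))))) (.nd (.nd (.nd (.nd (.nd (.lf 0) (.lf 0)) (.nd (.lf 0) (.lf 0))) (.nd (.nd (.lf 0) (.lf 0)) (.nd (.lf 0) (.lf 0)))) (.nd (.nd (.nd (.lf 0) (.lf 0)) (.nd (.lf 0) (.lf 0))) (.nd (.nd (.lf 0) (.lf 0)) (.nd (.lf 0) (.lf 0))))) (.nd (.nd (.nd (.nd (.lf 0) (.lf 0)) (.nd (.lf 0) (.lf 0))) (.nd (.nd (.lf 0) (.lf 0)) (.nd (.lf 0) (.lf 0)))) (.nd (.nd (.nd (.lf 0) (.lf 0)) (.nd (.lf 0) (.lf 0))) (.nd (.nd (.lf 0) (.lf 0)) (.nd (.lf 0) (.lf 0)))))))))) (.nd (.nd (.nd (.nd (.nd (.nd (.nd (.nd (.nd (.lf 0) (.lf 0)) (.nd (.lf 0)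 (.lf 0))) (.nd (.nd (.lf 0) (.lf 0)) (.nd (.lf 0) (.lf 0)))) (.nd (.nd (.nd (.lf 0) (.lf 0)) (.nd (.lf 0) (.lf 0))) (.nd (.nd (.lf 0) (.lf 0)) (.nd (.lf 0) (.lf 0))))) (.nd (.nd (.nd (.nd (.lf 0) (.lf 0)) (.nd (.lf 0) (.lf 0))) (.nd (.nd (.lf 0) (.lf 0)) (.nd (.lf 0) (.lf 0)))) (.nd (.nd (.nd (.lf 0) (.lf 0)) (.nd (.lf 0) (.lf 0))) (.nd (.nd (.lf 0) (.lf 0)) (.nd (.lf 0) (.lf 0)))))) (.nd (.nd (.nd (.nd (.nd (.lf 0) (.lf 0)) (.nd (.lf 0) (.lf 0))) (.nd (.nd (.lf 0) (.lf 0)) (.nd (.lf 0) (.lf 0)))) (.nd (.nd (.nd (.lf 0) (.lf 0)) (.nd (.lf 0) (.lf 0))) (.nd (.nd (.lf 0) (.lf 0)) (.nd (.lf 0) (.lf 0))))) (.nd (.nd (.nd (.nd (.lf 0) (.lf 0)) (.nd (.lf 0) (.lf 0))) (.nd (.nd (.lf 0) (.lf 0)) (.nd (.lf 0) (.lf 0)))) (.nd (.nd (.nd (.lf 0) (.lf 0)) (.nd (.lf 0) (.lf 0))) (.nd (.nd (.lf 0) (.lf 0)) (.nd (.lf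 0) (.lf 0))))))) (.nd (.nd (.nd (.nd (.nd (.nd (.lf 0) (.lf 0)) (.nd (.lf 0) (.lf 0))) (.nd (.nd (.lf 0) (.lf 0)) (.nd (.lf 0) (.lf 0)))) (.nd (.nd (.nd (.lf 0) (.lf 0)) (.nd (.lf 0) (.lf 0))) (.nd (.nd (.lf 0) (.lf 0)) (.nd (.lf 0) (.lf 0))))) (.nd (.nd (.nd (.nd (.lf 0) (.lf 0)) (.nd (.lf 0) (.lf 0))) (.nd (.nd (.lf 0) (.lf 0)) (.nd (.lf 0) (.lf 0)))) (.nd (.nd (.nd (.lf 0) (.lf 0)) (.nd (.lf 0) (.lf 0))) (.nd (.nd (.lf 0) (.lf 0)) (.nd (.lf 0) (.lf 0)))))) (.nd (.nd (.nd (.nd (.nd (.lf 0) (.lf 0)) (.nd (.lf 0) (.lf 0))) (.nd (.nd (.lf 0) (.lf 0)) (.nd (.lf 0) (.lf 0)))) (.nd (.nd (.nd (.lf 0) (.lf 0)) (.nd (.lf 0) (.lf 0))) (.nd (.nd (.lf 0) (.lf 0)) (.nd (.lf 0) (.lf 0))))) (.nd (.nd (.nd (.nd (.lf 0) (.lf 0)) (.nd (.lf 0) (.lf 0))) (.nd (.nd (.lf 0) (.lf 0)) (.nd (.lf 0) (.lf 0)))) (.nd (.nd (.nd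 (.lf 0) (.lf 0)) (.nd (.lf 0) (.lf 0))) (.nd (.nd (.lf 0) (.lf 0)) (.nd (.lf 0) (.lf 0)))))))) (.nd (.nd (.nd (.nd (.nd (.nd (.nd (.lf 0) (.lf 0)) (.nd (.lf 0) (.lf 0))) (.nd (.nd (.lf 0) (.lf 0)) (.nd (.lf 0) (.lf 0)))) (.nd (.nd (.nd (.lf 0) (.lf 0)) (.nd (.lf 0) (.lf 0))) (.nd (.nd (.lf 0) (.lf 0)) (.nd (.lf 0) (.lf 0))))) (.nd (.nd (.nd (.nd (.lf 0) (.lf 0)) (.nd (.lf 0) (.lf 0))) (.nd (.nd (.lf 0) (.lf 0)) (.nd (.lf 0) (.lf 0)))) (.nd (.nd (.nd (.lf 0) (.lf 0)) (.nd (.lf 0) (.lf 0))) (.nd (.nd (.lf 0) (.lf 0)) (.nd (.lf 0) (.lf 0)))))) (.nd (.nd (.nd (.nd (.nd (.lf 0) (.lf 0)) (.nd (.lf 47) (.lf 0))) (.nd (.nd (.lf 0) (.lf 0)) (.nd (.lf 0) (.lf 0)))) (.nd (.nd (.nd (.lf 0) (.lf 0)) (.nd (.lf 0) (.lf 0))) (.nd (.nd (.lf 0) (.lf 0)) (.nd (.lf 0) (.lf 0))))) (.nd (.nd (.nd (.nd (.lf 0) (.lf 0)) (.nd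 (.lf 0) (.lf 0))) (.nd (.nd (.lf 0) (.lf 0)) (.nd (.lf 0) (.lf 0)))) (.nd (.nd (.nd (.lf 0) (.lf 0)) (.nd (.lf 0) (.lf 0))) (.nd (.nd (.lf 0) (.lf 0)) (.nd (.lf 0) (.lf 0))))))) (.nd (.nd (.nd (.nd (.nd (.nd (.lf 0) (.lf 0)) (.nd (.lf 0) (.lf 0))) (.nd (.nd (.lf 0) (.lf 0)) (.nd (.lf 0) (.lf 0)))) (.nd (.nd (.nd (.lf 0) (.lf 0)) (.nd (.lf 0) (.lf 0))) (.nd (.nd (.lf 0) (.lf 0)) (.nd (.lf 0) (.lf 0))))) (.nd (.nd (.nd (.nd (.lf 0) (.lf 0)) (.nd (.lf 0) (.lf 0))) (.nd (.nd (.lf 0) (.lf 0)) (.nd (.lf 0) (.lf 0)))) (.nd (.nd (.nd (.lf 0) (.lf 0)) (.nd (.lf 0) (.lf 0))) (.nd (.nd (.lf 0) (.lf 0)) (.nd (.lf 0) (.lf 0)))))) (.nd (.nd (.nd (.nd (.nd (.lf 0) (.lf 0)) (.nd (.lf 0) (.lf 0))) (.nd (.nd (.lf 0) (.lf 0)) (.nd (.lf 0) (.lf 0)))) (.nd (.nd (.nd (.lf 0) (.lf 0)) (.nd (.lf 0) (.lf 0))) (.nd (.nd (.lf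 0) (.lf 0)) (.nd (.lf 111) (.lf 0))))) (.nd (.nd (.nd (.nd (.lf 0) (.lf 0)) (.nd (.lf 0) (.lf 0))) (.nd (.nd (.lf 0) (.lf 0)) (.nd (.lf 0) (.lf 0)))) (.nd (.nd (.nd (.lf 0) (.lf 0)) (.nd (.lf 0) (.lf 0))) (.nd (.nd (.lf 0) (.lf 0)) (.nd (.lf 0) (.lf 0))))))))) (.nd (.nd (.nd (.nd (.nd (.nd (.nd (.nd (.lf 0) (.lf 0)) (.nd (.lf 0) (.lf 0))) (.nd (.nd (.lf 0) (.lf 0)) (.nd (.lf 0) (.lf 0)))) (.nd (.nd (.nd (.lf 0) (.lf 0)) (.nd (.lf 0) (.lf 0))) (.nd (.nd (.lf 0) (.lf 0)) (.nd (.lf 0) (.lf 0))))) (.nd (.nd (.nd (.nd (.lf 0) (.lf 0)) (.nd (.lf 0) (.lf 0))) (.nd (.nd (.lf 0) (.lf 0)) (.nd (.lf 0) (.lf 0)))) (.nd (.nd (.nd (.lf 0) (.lf 0)) (.nd (.lf 0) (.lf 0))) (.nd (.nd (.lf 0) (.lf 0)) (.nd (.lf 0) (.lf 0)))))) (.nd (.nd (.nd (.nd (.nd (.lf 0) (.lf 0)) (.nd (.lf 0) (.lf 0))) (.nd (.nd (.lf 0) (.lf 0))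 (.nd (.lf 0) (.lf 0)))) (.nd (.nd (.nd (.lf 0) (.lf 0)) (.nd (.lf 0) (.lf 0))) (.nd (.nd (.lf 0) (.lf 0)) (.nd (.lf 0) (.lf 0))))) (.nd (.nd (.nd (.nd (.lf 0) (.lf 0)) (.nd (.lf 0) (.lf 0))) (.nd (.nd (.lf 0) (.lf 0)) (.nd (.lf 0) (.lf 0)))) (.nd (.nd (.nd (.lf 0) (.lf 0)) (.nd (.lf 0) (.lf 0))) (.nd (.nd (.lf 0) (.lf 0)) (.nd (.lf 0) (.lf 0))))))) (.nd (.nd (.nd (.nd (.nd (.nd (.lf 0) (.lf 0)) (.nd (.lf 0) (.lf 0))) (.nd (.nd (.lf 0) (.lf 0)) (.nd (.lf 0) (.lf 0)))) (.nd (.nd (.nd (.lf 0) (.lf 0)) (.nd (.lf 0) (.lf 0))) (.nd (.nd (.lf 0) (.lf 0)) (.nd (.lf 0) (.lf 0))))) (.nd (.nd (.nd (.nd (.lf 0) (.lf 0)) (.nd (.lf 0) (.lf 0))) (.nd (.nd (.lf 0) (.lf 0)) (.nd (.lf 0) (.lf 0)))) (.nd (.nd (.nd (.lf 0) (.lf 0)) (.nd (.lf 0) (.lf 0))) (.nd (.nd (.lf 0) (.lf 0)) (.nd (.lf 0) (.lf 0)))))) (.nd (.nd (.nd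 (.nd (.nd (.lf 0) (.lf 0)) (.nd (.lf 0) (.lf 0))) (.nd (.nd (.lf 0) (.lf 0)) (.nd (.lf 0) (.lf 0)))) (.nd (.nd (.nd (.lf 0) (.lf 0)) (.nd (.lf 0) (.lf 0))) (.nd (.nd (.lf 0) (.lf 0)) (.nd (.lf 0) (.lf 0))))) (.nd (.nd (.nd (.nd (.lf 0) (.lf 0)) (.nd (.lf 0) (.lf 0))) (.nd (.nd (.lf 0) (.lf 0)) (.nd (.lf 0) (.lf 0)))) (.nd (.nd (.nd (.lf 0) (.lf 0)) (.nd (.lf 0) (.lf 0))) (.nd (.nd (.lf 0) (.lf 0)) (.nd (.lf 0) (.lf 0)))))))) (.nd (.nd (.nd (.nd (.nd (.nd (.nd (.lf 0) (.lf 0)) (.nd (.lf 0) (.lf 0))) (.nd (.nd (.lf 0) (.lf 0)) (.nd (.lf 0) (.lf 0)))) (.nd (.nd (.nd (.lf 0) (.lf 0)) (.nd (.lf 0) (.lf 0))) (.nd (.nd (.lf 0) (.lf 0)) (.nd (.lf 0) (.lf 0))))) (.nd (.nd (.nd (.nd (.lf 0) (.lf 0)) (.nd (.lf 0) (.lf 0))) (.nd (.nd (.lf 0) (.lf 0)) (.nd (.lf 0) (.lf 0)))) (.nd (.nd (.nd (.lf 0) (.lf 0)) (.nd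 (.lf 0) (.lf 0))) (.nd (.nd (.lf 0) (.lf 0)) (.nd (.lf 0) (.lf 0)))))) (.nd (.nd (.nd (.nd (.nd (.lf 0) (.lf 0)) (.nd (.lf 0) (.lf 0))) (.nd (.nd (.lf 0) (.lf 0)) (.nd (.lf 0) (.lf 0)))) (.nd (.nd (.nd (.lf 0) (.lf 0)) (.nd (.lf 0) (.lf 0))) (.nd (.nd (.lf 0) (.lf 0)) (.nd (.lf 0) (.lf 0))))) (.nd (.nd (.nd (.nd (.lf 0) (.lf 0)) (.nd (.lf 0) (.lf 0))) (.nd (.nd (.lf 0) (.lf 0)) (.nd (.lf 0) (.lf 0)))) (.nd (.nd (.nd (.lf 0) (.lf 0)) (.nd (.lf 0) (.lf 0))) (.nd (.nd (.lf 0) (.lf 0)) (.nd (.lf 0) (.lf 0))))))) (.nd (.nd (.nd (.nd (.nd (.nd (.lf 0) (.lf 0)) (.nd (.lf 0) (.lf 0))) (.nd (.nd (.lf 0) (.lf 0)) (.nd (.lf 0) (.lf 0)))) (.nd (.nd (.nd (.lf 0) (.lf 0)) (.nd (.lf 0) (.lf 0))) (.nd (.nd (.lf 0) (.lf 0)) (.nd (.lf 0) (.lf 0))))) (.nd (.nd (.nd (.nd (.lf 0) (.lf 0)) (.nd (.lf 0) (.lf 0))) (.nd (.nd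 (.lf 0) (.lf 0)) (.nd (.lf 0) (.lf 0)))) (.nd (.nd (.nd (.lf 0) (.lf 0)) (.nd (.lf 0) (.lf 0))) (.nd (.nd (.lf 0) (.lf 0)) (.nd (.lf 0) (.lf 0)))))) (.nd (.nd (.nd (.nd (.nd (.lf 0) (.lf 0)) (.nd (.lf 0) (.lf 0))) (.nd (.nd (.lf 0) (.lf 0)) (.nd (.lf 0) (.lf 0)))) (.nd (.nd (.nd (.lf 0) (.lf 0)) (.nd (.lf 0) (.lf 0))) (.nd (.nd (.lf 0) (.lf 0)) (.nd (.lf 0) (.lf 0))))) (.nd (.nd (.nd (.nd (.lf 0) (.lf 0)) (.nd (.lf 0) (.lf 0))) (.nd (.nd (.lf 0) (.lf 0)) (.nd (.lf 0) (.lf 0)))) (.nd (.nd (.nd (.lf 0) (.lf 0)) (.nd (.lf 0) (.lf 0))) (.nd (.nd (.lf 0) (.lf 0)) (.nd (.lf 0) (.lf 0))))))))))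

/-- table part -/
def tabT_14 : Tr :=
  .nd (.nd (.nd (.nd (.nd (.nd (.nd (.nd (.nd (.nd (.lf 0) (.lf 0)) (.nd (.lf 0) (.lf 0))) (.nd (.nd (.lf 0) (.lf 0)) (.nd (.lf 0) (.lf 0)))) (.nd (.nd (.nd (.lf 0) (.lf 0)) (.nd (.lf 0) (.lf 0))) (.nd (.nd (.lf 0) (.lf 0)) (.nd (.lf 0) (.lf 0))))) (.nd (.nd (.nd (.nd (.lf 0) (.lf 0)) (.nd (.lf 0) (.lf 0))) (.nd (.nd (.lf 0) (.lf 0)) (.nd (.lf 0) (.lf 0)))) (.nd (.nd (.nd (.lf 0) (.lf 0)) (.nd (.lf 0) (.lf 0))) (.nd (.nd (.lf 0) (.lf 0)) (.nd (.lf 0) (.lf 0)))))) (.nd (.nd (.nd (.nd (.nd (.lf 0) (.lf 0)) (.nd (.lf 0) (.lf 0))) (.nd (.nd (.lf 0) (.lf 0)) (.nd (.lf 0) (.lf 0)))) (.nd (.nd (.nd (.lf 0) (.lf 0)) (.nd (.lf 0) (.lf 0))) (.nd (.nd (.lf 0) (.lf 0)) (.nd (.lf 0) (.lf 0))))) (.nd (.nd (.nd (.nd (.lf 0) (.lf 0)) (.nd (.lf 0) (.lf 0))) (.nd (.nd (.lf 0) (.lf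 0)) (.nd (.lf 0) (.lf 0)))) (.nd (.nd (.nd (.lf 0) (.lf 0)) (.nd (.lf 0) (.lf 0))) (.nd (.nd (.lf 0) (.lf 0)) (.nd (.lf 0) (.lf 0))))))) (.nd (.nd (.nd (.nd (.nd (.nd (.lf 0) (.lf 0)) (.nd (.lf 0) (.lf 0))) (.nd (.nd (.lf 0) (.lf 0)) (.nd (.lf 0) (.lf 0)))) (.nd (.nd (.nd (.lf 0) (.lf 0)) (.nd (.lf 0) (.lf 0))) (.nd (.nd (.lf 0) (.lf 0)) (.nd (.lf 0) (.lf 0))))) (.nd (.nd (.nd (.nd (.lf 0) (.lf 0)) (.nd (.lf 0) (.lf 0))) (.nd (.nd (.lf 0) (.lf 0)) (.nd (.lf 0) (.lf 0)))) (.nd (.nd (.nd (.lf 0) (.lf 0)) (.nd (.lf 0) (.lf 0))) (.nd (.nd (.lf 0) (.lf 0)) (.nd (.lf 0) (.lf 0)))))) (.nd (.nd (.nd (.nd (.nd (.lf 0) (.lf 0)) (.nd (.lf 0) (.lf 0))) (.nd (.nd (.lf 0) (.lf 0)) (.nd (.lf 0) (.lf 0)))) (.nd (.nd (.nd (.lf 0) (.lf 0)) (.nd (.lf 0) (.lf 0))) (.nd (.nd (.lf 0) (.lf 0)) (.nd (.lf 0) (.lf 0))))) (.nd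 (.nd (.nd (.nd (.lf 0) (.lf 0)) (.nd (.lf 0) (.lf 0))) (.nd (.nd (.lf 0) (.lf 0)) (.nd (.lf 0) (.lf 0)))) (.nd (.nd (.nd (.lf 0) (.lf 0)) (.nd (.lf 0) (.lf 0))) (.nd (.nd (.lf 0) (.lf 0)) (.nd (.lf 0) (.lf 0)))))))) (.nd (.nd (.nd (.nd (.nd (.nd (.nd (.lf 0) (.lf 0)) (.nd (.lf 0) (.lf 0))) (.nd (.nd (.lf 0) (.lf 0)) (.nd (.lf 0) (.lf 0)))) (.nd (.nd (.nd (.lf 0) (.lf 0)) (.nd (.lf 0) (.lf 0))) (.nd (.nd (.lf 0) (.lf 0)) (.nd (.lf 0) (.lf 0))))) (.nd (.nd (.nd (.nd (.lf 0) (.lf 0)) (.nd (.lf 0) (.lf 0))) (.nd (.nd (.lf 0) (.lf 0)) (.nd (.lf 0) (.lf 0)))) (.nd (.nd (.nd (.lf 0) (.lf 0)) (.nd (.lf 0) (.lf 0))) (.nd (.nd (.lf 0) (.lf 0)) (.nd (.lf 0) (.lf 0)))))) (.nd (.nd (.nd (.nd (.nd (.lf 0) (.lf 0)) (.nd (.lf 61) (.lf 0))) (.nd (.nd (.lf 0) (.lf 0)) (.nd (.lf 0) (.lf 0)))) (.nd (.nd (.nd (.lf 0) (.lf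 0)) (.nd (.lf 0) (.lf 0))) (.nd (.nd (.lf 0) (.lf 0)) (.nd (.lf 0) (.lf 0))))) (.nd (.nd (.nd (.nd (.lf 0) (.lf 0)) (.nd (.lf 0) (.lf 0))) (.nd (.nd (.lf 0) (.lf 0)) (.nd (.lf 0) (.lf 0)))) (.nd (.nd (.nd (.lf 30) (.lf 0)) (.nd (.lf 0) (.lf 0))) (.nd (.nd (.lf 0) (.lf 0)) (.nd (.lf 0) (.lf 0))))))) (.nd (.nd (.nd (.nd (.nd (.nd (.lf 0) (.lf 0)) (.nd (.lf 0) (.lf 0))) (.nd (.nd (.lf 0) (.lf 0)) (.nd (.lf 0) (.lf 0)))) (.nd (.nd (.nd (.lf 0) (.lf 0)) (.nd (.lf 0) (.lf 0))) (.nd (.nd (.lf 0) (.lf 0)) (.nd (.lf 0) (.lf 0))))) (.nd (.nd (.nd (.nd (.lf 0) (.lf 0)) (.nd (.lf 0) (.lf 0))) (.nd (.nd (.lf 0) (.lf 0)) (.nd (.lf 0) (.lf 0)))) (.nd (.nd (.nd (.lf 0) (.lf 0)) (.nd (.lf 0) (.lf 0))) (.nd (.nd (.lf 0) (.lf 0)) (.nd (.lf 0) (.lf 0)))))) (.nd (.nd (.nd (.nd (.nd (.lf 0) (.lf 0)) (.nd (.lf 0) (.lf 0)))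 (.nd (.nd (.lf 0) (.lf 0)) (.nd (.lf 0) (.lf 0)))) (.nd (.nd (.nd (.lf 0) (.lf 0)) (.nd (.lf 0) (.lf 0))) (.nd (.nd (.lf 0) (.lf 0)) (.nd (.lf 0) (.lf 0))))) (.nd (.nd (.nd (.nd (.lf 0) (.lf 0)) (.nd (.lf 0) (.lf 0))) (.nd (.nd (.lf 0) (.lf 0)) (.nd (.lf 0) (.lf 0)))) (.nd (.nd (.nd (.lf 0) (.lf 0)) (.nd (.lf 0) (.lf 0))) (.nd (.nd (.lf 0) (.lf 0)) (.nd (.lf 0) (.lf 0))))))))) (.nd (.nd (.nd (.nd (.nd (.nd (.nd (.nd (.lf 0) (.lf 0)) (.nd (.lf 0) (.lf 0))) (.nd (.nd (.lf 0) (.lf 0)) (.nd (.lf 0) (.lf 0)))) (.nd (.nd (.nd (.lf 0) (.lf 0)) (.nd (.lf 0) (.lf 0))) (.nd (.nd (.lf 0) (.lf 0)) (.nd (.lf 0) (.lf 0))))) (.nd (.nd (.nd (.nd (.lf 0) (.lf 0)) (.nd (.lf 0) (.lf 0))) (.nd (.nd (.lf 0) (.lf 0)) (.nd (.lf 0) (.lf 0)))) (.nd (.nd (.nd (.lf 0) (.lf 0)) (.nd (.lf 0) (.lf 0))) (.nd (.nd (.lf 76) (.lf 0))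 (.nd (.lf 0) (.lf 0)))))) (.nd (.nd (.nd (.nd (.nd (.lf 0) (.lf 0)) (.nd (.lf 0) (.lf 0))) (.nd (.nd (.lf 0) (.lf 0)) (.nd (.lf 0) (.lf 0)))) (.nd (.nd (.nd (.lf 0) (.lf 0)) (.nd (.lf 0) (.lf 0))) (.nd (.nd (.lf 0) (.lf 0)) (.nd (.lf 0) (.lf 0))))) (.nd (.nd (.nd (.nd (.lf 0) (.lf 0)) (.nd (.lf 0) (.lf 0))) (.nd (.nd (.lf 0) (.lf 0)) (.nd (.lf 0) (.lf 0)))) (.nd (.nd (.nd (.lf 0) (.lf 0)) (.nd (.lf 0) (.lf 0))) (.nd (.nd (.lf 0) (.lf 0)) (.nd (.lf 0) (.lf 0))))))) (.nd (.nd (.nd (.nd (.nd (.nd (.lf 0) (.lf 0)) (.nd (.lf 0) (.lf 0))) (.nd (.nd (.lf 0) (.lf 0)) (.nd (.lf 0) (.lf 0)))) (.nd (.nd (.nd (.lf 0) (.lf 0)) (.nd (.lf 0) (.lf 0))) (.nd (.nd (.lf 0) (.lf 0)) (.nd (.lf 0) (.lf 0))))) (.nd (.nd (.nd (.nd (.lf 0) (.lf 0)) (.nd (.lf 0) (.lf 0))) (.nd (.nd (.lf 0) (.lf 0)) (.nd (.lf 0) (.lf 0)))) (.nd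 (.nd (.nd (.lf 0) (.lf 0)) (.nd (.lf 0) (.lf 0))) (.nd (.nd (.lf 0) (.lf 0)) (.nd (.lf 0) (.lf 0)))))) (.nd (.nd (.nd (.nd (.nd (.lf 0) (.lf 0)) (.nd (.lf 0) (.lf 0))) (.nd (.nd (.lf 0) (.lf 0)) (.nd (.lf 0) (.lf 0)))) (.nd (.nd (.nd (.lf 0) (.lf 0)) (.nd (.lf 0) (.lf 0))) (.nd (.nd (.lf 0) (.lf 0)) (.nd (.lf 0) (.lf 0))))) (.nd (.nd (.nd (.nd (.lf 0) (.lf 0)) (.nd (.lf 0) (.lf 0))) (.nd (.nd (.lf 0) (.lf 0)) (.nd (.lf 0) (.lf 0)))) (.nd (.nd (.nd (.lf 0) (.lf 0)) (.nd (.lf 0) (.lf 0))) (.nd (.nd (.lf 0) (.lf 0)) (.nd (.lf 0) (.lf 0)))))))) (.nd (.nd (.nd (.nd (.nd (.nd (.nd (.lf 0) (.lf 0)) (.nd (.lf 0) (.lf 0))) (.nd (.nd (.lf 0) (.lf 0)) (.nd (.lf 0) (.lf 0)))) (.nd (.nd (.nd (.lf 0) (.lf 0)) (.nd (.lf 0) (.lf 0))) (.nd (.nd (.lf 0) (.lf 0)) (.nd (.lf 0) (.lf 0))))) (.nd (.nd (.nd (.nd (.lf 0) (.lf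 0)) (.nd (.lf 0) (.lf 0))) (.nd (.nd (.lf 0) (.lf 0)) (.nd (.lf 0) (.lf 0)))) (.nd (.nd (.nd (.lf 0) (.lf 0)) (.nd (.lf 0) (.lf 0))) (.nd (.nd (.lf 0) (.lf 0)) (.nd (.lf 0) (.lf 0)))))) (.nd (.nd (.nd (.nd (.nd (.lf 0) (.lf 0)) (.nd (.lf 0) (.lf 0))) (.nd (.nd (.lf 0) (.lf 0)) (.nd (.lf 0) (.lf 0)))) (.nd (.nd (.nd (.lf 0) (.lf 0)) (.nd (.lf 0) (.lf 0))) (.nd (.nd (.lf 23) (.lf 0)) (.nd (.lf 0) (.lf 0))))) (.nd (.nd (.nd (.nd (.lf 0) (.lf 0)) (.nd (.lf 0) (.lf 0))) (.nd (.nd (.lf 0) (.lf 0)) (.nd (.lf 0) (.lf 0)))) (.nd (.nd (.nd (.lf 0) (.lf 0)) (.nd (.lf 0) (.lf 0))) (.nd (.nd (.lf 0) (.lf 0)) (.nd (.lf 0) (.lf 0))))))) (.nd (.nd (.nd (.nd (.nd (.nd (.lf 0) (.lf 0)) (.nd (.lf 0) (.lf 0))) (.nd (.nd (.lf 0) (.lf 0)) (.nd (.lf 0) (.lf 0)))) (.nd (.nd (.nd (.lf 0) (.lf 0)) (.nd (.lf 0) (.lf 0))) (.nd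 (.nd (.lf 0) (.lf 0)) (.nd (.lf 0) (.lf 0))))) (.nd (.nd (.nd (.nd (.lf 0) (.lf 0)) (.nd (.lf 0) (.lf 0))) (.nd (.nd (.lf 0) (.lf 0)) (.nd (.lf 0) (.lf 0)))) (.nd (.nd (.nd (.lf 0) (.lf 0)) (.nd (.lf 0) (.lf 0))) (.nd (.nd (.lf 0) (.lf 0)) (.nd (.lf 0) (.lf 0)))))) (.nd (.nd (.nd (.nd (.nd (.lf 0) (.lf 0)) (.nd (.lf 0) (.lf 0))) (.nd (.nd (.lf 0) (.lf 0)) (.nd (.lf 0) (.lf 0)))) (.nd (.nd (.nd (.lf 0) (.lf 0)) (.nd (.lf 0) (.lf 0))) (.nd (.nd (.lf 0) (.lf 0)) (.nd (.lf 0) (.lf 0))))) (.nd (.nd (.nd (.nd (.lf 0) (.lf 0)) (.nd (.lf 0) (.lf 0))) (.nd (.nd (.lf 0) (.lf 0)) (.nd (.lf 0) (.lf 0)))) (.nd (.nd (.nd (.lf 0) (.lf 0)) (.nd (.lf 0) (.lf 0))) (.nd (.nd (.lf 0) (.lf 0)) (.nd (.lf 0) (.lf 0)))))))))) (.nd (.nd (.nd (.nd (.nd (.nd (.nd (.nd (.nd (.lf 0) (.lf 0)) (.nd (.lf 0) (.lf 0))) (.nd (.nd (.lf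 0) (.lf 0)) (.nd (.lf 0) (.lf 0)))) (.nd (.nd (.nd (.lf 0) (.lf 0)) (.nd (.lf 0) (.lf 0))) (.nd (.nd (.lf 0) (.lf 0)) (.nd (.lf 0) (.lf 0))))) (.nd (.nd (.nd (.nd (.lf 0) (.lf 0)) (.nd (.lf 0) (.lf 0))) (.nd (.nd (.lf 0) (.lf 0)) (.nd (.lf 0) (.lf 0)))) (.nd (.nd (.nd (.lf 0) (.lf 0)) (.nd (.lf 0) (.lf 0))) (.nd (.nd (.lf 0) (.lf 0)) (.nd (.lf 0) (.lf 0)))))) (.nd (.nd (.nd (.nd (.nd (.lf 0) (.lf 0)) (.nd (.lf 0) (.lf 0))) (.nd (.nd (.lf 0) (.lf 0)) (.nd (.lf 0) (.lf 0)))) (.nd (.nd (.nd (.lf 0) (.lf 0)) (.nd (.lf 0) (.lf 0))) (.nd (.nd (.lf 0) (.lf 0)) (.nd (.lf 0) (.lf 0))))) (.nd (.nd (.nd (.nd (.lf 0) (.lf 0)) (.nd (.lf 0) (.lf 0))) (.nd (.nd (.lf 0) (.lf 0)) (.nd (.lf 0) (.lf 0)))) (.nd (.nd (.nd (.lf 0) (.lf 0)) (.nd (.lf 0) (.lf 0))) (.nd (.nd (.lf 0) (.lf 0)) (.nd (.lf 0) (.lf 0))))))) (.nd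 (.nd (.nd (.nd (.nd (.nd (.lf 0) (.lf 0)) (.nd (.lf 0) (.lf 0))) (.nd (.nd (.lf 0) (.lf 0)) (.nd (.lf 0) (.lf 0)))) (.nd (.nd (.nd (.lf 0) (.lf 0)) (.nd (.lf 0) (.lf 0))) (.nd (.nd (.lf 0) (.lf 0)) (.nd (.lf 0) (.lf 0))))) (.nd (.nd (.nd (.nd (.lf 0) (.lf 0)) (.nd (.lf 0) (.lf 0))) (.nd (.nd (.lf 0) (.lf 0)) (.nd (.lf 0) (.lf 0)))) (.nd (.nd (.nd (.lf 0) (.lf 0)) (.nd (.lf 0) (.lf 0))) (.nd (.nd (.lf 0) (.lf 0)) (.nd (.lf 0) (.lf 0)))))) (.nd (.nd (.nd (.nd (.nd (.lf 0) (.lf 0)) (.nd (.lf 0) (.lf 0))) (.nd (.nd (.lf 0) (.lf 0)) (.nd (.lf 0) (.lf 0)))) (.nd (.nd (.nd (.lf 0) (.lf 0)) (.nd (.lf 0) (.lf 0))) (.nd (.nd (.lf 0) (.lf 0)) (.nd (.lf 0) (.lf 0))))) (.nd (.nd (.nd (.nd (.lf 0) (.lf 0)) (.nd (.lf 14) (.lf 0))) (.nd (.nd (.lf 0) (.lf 0)) (.nd (.lf 0) (.lf 0)))) (.nd (.nd (.nd (.lf 0) (.lf 0))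 (.nd (.lf 0) (.lf 0))) (.nd (.nd (.lf 0) (.lf 0)) (.nd (.lf 0) (.lf 0)))))))) (.nd (.nd (.nd (.nd (.nd (.nd (.nd (.lf 0) (.lf 0)) (.nd (.lf 0) (.lf 0))) (.nd (.nd (.lf 0) (.lf 0)) (.nd (.lf 0) (.lf 0)))) (.nd (.nd (.nd (.lf 0) (.lf 0)) (.nd (.lf 0) (.lf 0))) (.nd (.nd (.lf 0) (.lf 0)) (.nd (.lf 0) (.lf 0))))) (.nd (.nd (.nd (.nd (.lf 0) (.lf 0)) (.nd (.lf 0) (.lf 0))) (.nd (.nd (.lf 0) (.lf 0)) (.nd (.lf 0) (.lf 0)))) (.nd (.nd (.nd (.lf 0) (.lf 0)) (.nd (.lf 0) (.lf 0))) (.nd (.nd (.lf 0) (.lf 0)) (.nd (.lf 99) (.lf 0)))))) (.nd (.nd (.nd (.nd (.nd (.lf 0) (.lf 0)) (.nd (.lf 0) (.lf 0))) (.nd (.nd (.lf 0) (.lf 0)) (.nd (.lf 0) (.lf 0)))) (.nd (.nd (.nd (.lf 0) (.lf 0)) (.nd (.lf 0) (.lf 0))) (.nd (.nd (.lf 0) (.lf 0)) (.nd (.lf 0) (.lf 0))))) (.nd (.nd (.nd (.nd (.lf 0) (.lf 0)) (.nd (.lf 0) (.lf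 0))) (.nd (.nd (.lf 0) (.lf 0)) (.nd (.lf 0) (.lf 0)))) (.nd (.nd (.nd (.lf 0) (.lf 0)) (.nd (.lf 0) (.lf 0))) (.nd (.nd (.lf 0) (.lf 0)) (.nd (.lf 0) (.lf 0))))))) (.nd (.nd (.nd (.nd (.nd (.nd (.lf 0) (.lf 0)) (.nd (.lf 0) (.lf 0))) (.nd (.nd (.lf 0) (.lf 0)) (.nd (.lf 0) (.lf 0)))) (.nd (.nd (.nd (.lf 0) (.lf 0)) (.nd (.lf 0) (.lf 0))) (.nd (.nd (.lf 0) (.lf 0)) (.nd (.lf 0) (.lf 0))))) (.nd (.nd (.nd (.nd (.lf 0) (.lf 0)) (.nd (.lf 0) (.lf 0))) (.nd (.nd (.lf 0) (.lf 0)) (.nd (.lf 0) (.lf 0)))) (.nd (.nd (.nd (.lf 0) (.lf 0)) (.nd (.lf 0) (.lf 0))) (.nd (.nd (.lf 0) (.lf 0)) (.nd (.lf 0) (.lf 0)))))) (.nd (.nd (.nd (.nd (.nd (.lf 0) (.lf 0)) (.nd (.lf 0) (.lf 0))) (.nd (.nd (.lf 0) (.lf 0)) (.nd (.lf 0) (.lf 0)))) (.nd (.nd (.nd (.lf 0) (.lf 0)) (.nd (.lf 0) (.lf 0))) (.nd (.nd (.lf 0) (.lf 0))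 (.nd (.lf 0) (.lf 0))))) (.nd (.nd (.nd (.nd (.lf 0) (.lf 0)) (.nd (.lf 0) (.lf 0))) (.nd (.nd (.lf 0) (.lf 0)) (.nd (.lf 0) (.lf 0)))) (.nd (.nd (.nd (.lf 0) (.lf 0)) (.nd (.lf 0) (.lf 0))) (.nd (.nd (.lf 0) (.lf 0)) (.nd (.lf 0) (.lf 0))))))))) (.nd (.nd (.nd (.nd (.nd (.nd (.nd (.nd (.lf 0) (.lf 0)) (.nd (.lf 0) (.lf 0))) (.nd (.nd (.lf 0) (.lf 0)) (.nd (.lf 0) (.lf 0)))) (.nd (.nd (.nd (.lf 0) (.lf 0)) (.nd (.lf 0) (.lf 0))) (.nd (.nd (.lf 0) (.lf 0)) (.nd (.lf 0) (.lf 0))))) (.nd (.nd (.nd (.nd (.lf 0) (.lf 0)) (.nd (.lf 0) (.lf 0))) (.nd (.nd (.lf 0) (.lf 0)) (.nd (.lf 0) (.lf 0)))) (.nd (.nd (.nd (.lf 0) (.lf 0)) (.nd (.lf 0) (.lf 0))) (.nd (.nd (.lf 0) (.lf 0)) (.nd (.lf 0) (.lf 0)))))) (.nd (.nd (.nd (.nd (.nd (.lf 0) (.lf 0)) (.nd (.lf 0) (.lf 0))) (.nd (.nd (.lf 0) (.lf 0)) (.nd (.lf 0)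 (.lf 0)))) (.nd (.nd (.nd (.lf 0) (.lf 0)) (.nd (.lf 0) (.lf 0))) (.nd (.nd (.lf 0) (.lf 0)) (.nd (.lf 123) (.lf 0))))) (.nd (.nd (.nd (.nd (.lf 0) (.lf 0)) (.nd (.lf 0) (.lf 0))) (.nd (.nd (.lf 0) (.lf 0)) (.nd (.lf 0) (.lf 0)))) (.nd (.nd (.nd (.lf 20) (.lf 0)) (.nd (.lf 0) (.lf 0))) (.nd (.nd (.lf 0) (.lf 0)) (.nd (.lf 0) (.lf 0))))))) (.nd (.nd (.nd (.nd (.nd (.nd (.lf 0) (.lf 0)) (.nd (.lf 0) (.lf 0))) (.nd (.nd (.lf 0) (.lf 0)) (.nd (.lf 0) (.lf 0)))) (.nd (.nd (.nd (.lf 0) (.lf 0)) (.nd (.lf 0) (.lf 0))) (.nd (.nd (.lf 0) (.lf 0)) (.nd (.lf 0) (.lf 0))))) (.nd (.nd (.nd (.nd (.lf 0) (.lf 0)) (.nd (.lf 0) (.lf 0))) (.nd (.nd (.lf 0) (.lf 0)) (.nd (.lf 0) (.lf 0)))) (.nd (.nd (.nd (.lf 0) (.lf 0)) (.nd (.lf 0) (.lf 0))) (.nd (.nd (.lf 0) (.lf 0)) (.nd (.lf 0) (.lf 0)))))) (.nd (.nd (.nd (.nd (.nd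 (.lf 0) (.lf 0)) (.nd (.lf 0) (.lf 0))) (.nd (.nd (.lf 0) (.lf 0)) (.nd (.lf 0) (.lf 0)))) (.nd (.nd (.nd (.lf 0) (.lf 0)) (.nd (.lf 0) (.lf 0))) (.nd (.nd (.lf 0) (.lf 0)) (.nd (.lf 0) (.lf 0))))) (.nd (.nd (.nd (.nd (.lf 0) (.lf 0)) (.nd (.lf 0) (.lf 0))) (.nd (.nd (.lf 0) (.lf 0)) (.nd (.lf 0) (.lf 0)))) (.nd (.nd (.nd (.lf 0) (.lf 0)) (.nd (.lf 0) (.lf 0))) (.nd (.nd (.lf 0) (.lf 0)) (.nd (.lf 0) (.lf 0)))))))) (.nd (.nd (.nd (.nd (.nd (.nd (.nd (.lf 0) (.lf 0)) (.nd (.lf 0) (.lf 0))) (.nd (.nd (.lf 0) (.lf 0)) (.nd (.lf 0) (.lf 0)))) (.nd (.nd (.nd (.lf 0) (.lf 0)) (.nd (.lf 0) (.lf 0))) (.nd (.nd (.lf 0) (.lf 0)) (.nd (.lf 0) (.lf 0))))) (.nd (.nd (.nd (.nd (.lf 0) (.lf 0)) (.nd (.lf 0) (.lf 0))) (.nd (.nd (.lf 0) (.lf 0)) (.nd (.lf 0) (.lf 0)))) (.nd (.nd (.nd (.lf 0) (.lf 0)) (.nd (.lf 0) (.lf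 0))) (.nd (.nd (.lf 0) (.lf 0)) (.nd (.lf 0) (.lf 0)))))) (.nd (.nd (.nd (.nd (.nd (.lf 0) (.lf 0)) (.nd (.lf 0) (.lf 0))) (.nd (.nd (.lf 0) (.lf 0)) (.nd (.lf 0) (.lf 0)))) (.nd (.nd (.nd (.lf 0) (.lf 0)) (.nd (.lf 0) (.lf 0))) (.nd (.nd (.lf 0) (.lf 0)) (.nd (.lf 0) (.lf 0))))) (.nd (.nd (.nd (.nd (.lf 0) (.lf 0)) (.nd (.lf 0) (.lf 0))) (.nd (.nd (.lf 0) (.lf 0)) (.nd (.lf 0) (.lf 0)))) (.nd (.nd (.nd (.lf 0) (.lf 0)) (.nd (.lf 0) (.lf 0))) (.nd (.nd (.lf 0) (.lf 0)) (.nd (.lf 0) (.lf 0))))))) (.nd (.nd (.nd (.nd (.nd (.nd (.lf 0) (.lf 0)) (.nd (.lf 0) (.lf 0))) (.nd (.nd (.lf 0) (.lf 0)) (.nd (.lf 0) (.lf 0)))) (.nd (.nd (.nd (.lf 0) (.lf 0)) (.nd (.lf 0) (.lf 0))) (.nd (.nd (.lf 0) (.lf 0)) (.nd (.lf 0) (.lf 0))))) (.nd (.nd (.nd (.nd (.lf 0) (.lf 0)) (.nd (.lf 0) (.lf 0))) (.nd (.nd (.lf 0) (.lf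 0)) (.nd (.lf 0) (.lf 0)))) (.nd (.nd (.nd (.lf 0) (.lf 0)) (.nd (.lf 0) (.lf 0))) (.nd (.nd (.lf 0) (.lf 0)) (.nd (.lf 0) (.lf 0)))))) (.nd (.nd (.nd (.nd (.nd (.lf 0) (.lf 0)) (.nd (.lf 0) (.lf 0))) (.nd (.nd (.lf 0) (.lf 0)) (.nd (.lf 0) (.lf 0)))) (.nd (.nd (.nd (.lf 0) (.lf 0)) (.nd (.lf 0) (.lf 0))) (.nd (.nd (.lf 0) (.lf 0)) (.nd (.lf 0) (.lf 0))))) (.nd (.nd (.nd (.nd (.lf 0) (.lf 0)) (.nd (.lf 0) (.lf 0))) (.nd (.nd (.lf 0) (.lf 0)) (.nd (.lf 0) (.lf 0)))) (.nd (.nd (.nd (.lf 0) (.lf 0)) (.nd (.lf 0) (.lf 0))) (.nd (.nd (.lf 0) (.lf 0)) (.nd (.lf 0) (.lf 0))))))))))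

/-- table part -/
def tabT_15 : Tr :=
  .nd (.nd (.nd (.nd (.nd (.nd (.nd (.nd (.nd (.nd (.lf 0) (.lf 0)) (.nd (.lf 0) (.lf 0))) (.nd (.nd (.lf 0) (.lf 0)) (.nd (.lf 0) (.lf 0)))) (.nd (.nd (.nd (.lf 0) (.lf 0)) (.nd (.lf 0) (.lf 0))) (.nd (.nd (.lf 0) (.lf 0)) (.nd (.lf 0) (.lf 0))))) (.nd (.nd (.nd (.nd (.lf 0) (.lf 0)) (.nd (.lf 0) (.lf 0))) (.nd (.nd (.lf 0) (.lf 0)) (.nd (.lf 0) (.lf 0)))) (.nd (.nd (.nd (.lf 0) (.lf 0)) (.nd (.lf 0) (.lf 0))) (.nd (.nd (.lf 0) (.lf 0)) (.nd (.lf 67) (.lf 0)))))) (.nd (.nd (.nd (.nd (.nd (.lf 0) (.lf 0)) (.nd (.lf 0) (.lf 0))) (.nd (.nd (.lf 0) (.lf 0)) (.nd (.lf 0) (.lf 0)))) (.nd (.nd (.nd (.lf 0) (.lf 0)) (.nd (.lf 0) (.lf 0))) (.nd (.nd (.lf 0) (.lf 0)) (.nd (.lf 0) (.lf 0))))) (.nd (.nd (.nd (.nd (.lf 0) (.lf 0)) (.nd (.lf 0) (.lf 0))) (.nd (.nd (.lf 0)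 (.lf 0)) (.nd (.lf 0) (.lf 0)))) (.nd (.nd (.nd (.lf 0) (.lf 0)) (.nd (.lf 0) (.lf 0))) (.nd (.nd (.lf 0) (.lf 0)) (.nd (.lf 0) (.lf 0))))))) (.nd (.nd (.nd (.nd (.nd (.nd (.lf 0) (.lf 0)) (.nd (.lf 0) (.lf 0))) (.nd (.nd (.lf 0) (.lf 0)) (.nd (.lf 0) (.lf 0)))) (.nd (.nd (.nd (.lf 0) (.lf 0)) (.nd (.lf 0) (.lf 0))) (.nd (.nd (.lf 0) (.lf 0)) (.nd (.lf 0) (.lf 0))))) (.nd (.nd (.nd (.nd (.lf 0) (.lf 0)) (.nd (.lf 0) (.lf 0))) (.nd (.nd (.lf 0) (.lf 0)) (.nd (.lf 0) (.lf 0)))) (.nd (.nd (.nd (.lf 0) (.lf 0)) (.nd (.lf 0) (.lf 0))) (.nd (.nd (.lf 0) (.lf 0)) (.nd (.lf 0) (.lf 0)))))) (.nd (.nd (.nd (.nd (.nd (.lf 0) (.lf 0)) (.nd (.lf 0) (.lf 0))) (.nd (.nd (.lf 0) (.lf 0)) (.nd (.lf 0) (.lf 0)))) (.nd (.nd (.nd (.lf 0) (.lf 0)) (.nd (.lf 0) (.lf 0))) (.nd (.nd (.lf 0) (.lf 0)) (.nd (.lf 0) (.lf 0)))))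 (.nd (.nd (.nd (.nd (.lf 0) (.lf 0)) (.nd (.lf 0) (.lf 0))) (.nd (.nd (.lf 0) (.lf 0)) (.nd (.lf 0) (.lf 0)))) (.nd (.nd (.nd (.lf 0) (.lf 0)) (.nd (.lf 0) (.lf 0))) (.nd (.nd (.lf 0) (.lf 0)) (.nd (.lf 0) (.lf 0)))))))) (.nd (.nd (.nd (.nd (.nd (.nd (.nd (.lf 0) (.lf 0)) (.nd (.lf 0) (.lf 0))) (.nd (.nd (.lf 0) (.lf 0)) (.nd (.lf 0) (.lf 0)))) (.nd (.nd (.nd (.lf 0) (.lf 0)) (.nd (.lf 0) (.lf 0))) (.nd (.nd (.lf 0) (.lf 0)) (.nd (.lf 0) (.lf 0))))) (.nd (.nd (.nd (.nd (.lf 0) (.lf 0)) (.nd (.lf 0) (.lf 0))) (.nd (.nd (.lf 0) (.lf 0)) (.nd (.lf 0) (.lf 0)))) (.nd (.nd (.nd (.lf 0) (.lf 0)) (.nd (.lf 0) (.lf 0))) (.nd (.nd (.lf 0) (.lf 0)) (.nd (.lf 0) (.lf 0)))))) (.nd (.nd (.nd (.nd (.nd (.lf 0) (.lf 0)) (.nd (.lf 0) (.lf 0))) (.nd (.nd (.lf 0) (.lf 0)) (.nd (.lf 0) (.lf 0)))) (.nd (.nd (.nd (.lf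 0) (.lf 0)) (.nd (.lf 0) (.lf 0))) (.nd (.nd (.lf 0) (.lf 0)) (.nd (.lf 0) (.lf 0))))) (.nd (.nd (.nd (.nd (.lf 0) (.lf 0)) (.nd (.lf 0) (.lf 0))) (.nd (.nd (.lf 0) (.lf 0)) (.nd (.lf 0) (.lf 0)))) (.nd (.nd (.nd (.lf 0) (.lf 0)) (.nd (.lf 0) (.lf 0))) (.nd (.nd (.lf 0) (.lf 0)) (.nd (.lf 0) (.lf 0))))))) (.nd (.nd (.nd (.nd (.nd (.nd (.lf 0) (.lf 0)) (.nd (.lf 0) (.lf 0))) (.nd (.nd (.lf 0) (.lf 0)) (.nd (.lf 0) (.lf 0)))) (.nd (.nd (.nd (.lf 0) (.lf 0)) (.nd (.lf 0) (.lf 0))) (.nd (.nd (.lf 0) (.lf 0)) (.nd (.lf 0) (.lf 0))))) (.nd (.nd (.nd (.nd (.lf 0) (.lf 0)) (.nd (.lf 0) (.lf 0))) (.nd (.nd (.lf 0) (.lf 0)) (.nd (.lf 0) (.lf 0)))) (.nd (.nd (.nd (.lf 0) (.lf 0)) (.nd (.lf 0) (.lf 0))) (.nd (.nd (.lf 0) (.lf 0)) (.nd (.lf 0) (.lf 0)))))) (.nd (.nd (.nd (.nd (.nd (.lf 0) (.lf 0)) (.nd (.lf 0)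 (.lf 0))) (.nd (.nd (.lf 0) (.lf 0)) (.nd (.lf 0) (.lf 0)))) (.nd (.nd (.nd (.lf 0) (.lf 0)) (.nd (.lf 0) (.lf 0))) (.nd (.nd (.lf 0) (.lf 0)) (.nd (.lf 0) (.lf 0))))) (.nd (.nd (.nd (.nd (.lf 0) (.lf 0)) (.nd (.lf 63) (.lf 0))) (.nd (.nd (.lf 0) (.lf 0)) (.nd (.lf 0) (.lf 0)))) (.nd (.nd (.nd (.lf 0) (.lf 0)) (.nd (.lf 0) (.lf 0))) (.nd (.nd (.lf 0) (.lf 0)) (.nd (.lf 0) (.lf 0))))))))) (.nd (.nd (.nd (.nd (.nd (.nd (.nd (.nd (.lf 0) (.lf 0)) (.nd (.lf 0) (.lf 0))) (.nd (.nd (.lf 0) (.lf 0)) (.nd (.lf 0) (.lf 0)))) (.nd (.nd (.nd (.lf 0) (.lf 0)) (.nd (.lf 0) (.lf 0))) (.nd (.nd (.lf 0) (.lf 0)) (.nd (.lf 0) (.lf 0))))) (.nd (.nd (.nd (.nd (.lf 0) (.lf 0)) (.nd (.lf 0) (.lf 0))) (.nd (.nd (.lf 0) (.lf 0)) (.nd (.lf 0) (.lf 0)))) (.nd (.nd (.nd (.lf 0) (.lf 0)) (.nd (.lf 81) (.lf 0))) (.nd (.nd (.lf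 0) (.lf 0)) (.nd (.lf 0) (.lf 0)))))) (.nd (.nd (.nd (.nd (.nd (.lf 0) (.lf 0)) (.nd (.lf 0) (.lf 0))) (.nd (.nd (.lf 0) (.lf 0)) (.nd (.lf 0) (.lf 0)))) (.nd (.nd (.nd (.lf 0) (.lf 0)) (.nd (.lf 0) (.lf 0))) (.nd (.nd (.lf 0) (.lf 0)) (.nd (.lf 0) (.lf 0))))) (.nd (.nd (.nd (.nd (.lf 0) (.lf 0)) (.nd (.lf 0) (.lf 0))) (.nd (.nd (.lf 0) (.lf 0)) (.nd (.lf 0) (.lf 0)))) (.nd (.nd (.nd (.lf 0) (.lf 0)) (.nd (.lf 0) (.lf 0))) (.nd (.nd (.lf 0) (.lf 0)) (.nd (.lf 0) (.lf 0))))))) (.nd (.nd (.nd (.nd (.nd (.nd (.lf 0) (.lf 0)) (.nd (.lf 0) (.lf 0))) (.nd (.nd (.lf 0) (.lf 0)) (.nd (.lf 0) (.lf 0)))) (.nd (.nd (.nd (.lf 0) (.lf 0)) (.nd (.lf 0) (.lf 0))) (.nd (.nd (.lf 0) (.lf 0)) (.nd (.lf 0) (.lf 0))))) (.nd (.nd (.nd (.nd (.lf 0) (.lf 0)) (.nd (.lf 0) (.lf 0))) (.nd (.nd (.lf 0) (.lf 0)) (.nd (.lf 0)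 (.lf 0)))) (.nd (.nd (.nd (.lf 0) (.lf 0)) (.nd (.lf 0) (.lf 0))) (.nd (.nd (.lf 0) (.lf 0)) (.nd (.lf 0) (.lf 0)))))) (.nd (.nd (.nd (.nd (.nd (.lf 0) (.lf 0)) (.nd (.lf 0) (.lf 0))) (.nd (.nd (.lf 0) (.lf 0)) (.nd (.lf 0) (.lf 0)))) (.nd (.nd (.nd (.lf 0) (.lf 0)) (.nd (.lf 0) (.lf 0))) (.nd (.nd (.lf 0) (.lf 0)) (.nd (.lf 0) (.lf 0))))) (.nd (.nd (.nd (.nd (.lf 0) (.lf 0)) (.nd (.lf 0) (.lf 0))) (.nd (.nd (.lf 0) (.lf 0)) (.nd (.lf 0) (.lf 0)))) (.nd (.nd (.nd (.lf 0) (.lf 0)) (.nd (.lf 0) (.lf 0))) (.nd (.nd (.lf 0) (.lf 0)) (.nd (.lf 0) (.lf 0)))))))) (.nd (.nd (.nd (.nd (.nd (.nd (.nd (.lf 0) (.lf 0)) (.nd (.lf 0) (.lf 0))) (.nd (.nd (.lf 0) (.lf 0)) (.nd (.lf 0) (.lf 0)))) (.nd (.nd (.nd (.lf 0) (.lf 0)) (.nd (.lf 0) (.lf 0))) (.nd (.nd (.lf 0) (.lf 0)) (.nd (.lf 0) (.lf 0))))) (.nd (.nd (.nd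 (.nd (.lf 0) (.lf 0)) (.nd (.lf 0) (.lf 0))) (.nd (.nd (.lf 0) (.lf 0)) (.nd (.lf 0) (.lf 0)))) (.nd (.nd (.nd (.lf 0) (.lf 0)) (.nd (.lf 0) (.lf 0))) (.nd (.nd (.lf 0) (.lf 0)) (.nd (.lf 0) (.lf 0)))))) (.nd (.nd (.nd (.nd (.nd (.lf 125) (.lf 0)) (.nd (.lf 0) (.lf 0))) (.nd (.nd (.lf 0) (.lf 0)) (.nd (.lf 0) (.lf 0)))) (.nd (.nd (.nd (.lf 0) (.lf 0)) (.nd (.lf 0) (.lf 0))) (.nd (.nd (.lf 0) (.lf 0)) (.nd (.lf 0) (.lf 0))))) (.nd (.nd (.nd (.nd (.lf 0) (.lf 0)) (.nd (.lf 0) (.lf 0))) (.nd (.nd (.lf 0) (.lf 0)) (.nd (.lf 0) (.lf 0)))) (.nd (.nd (.nd (.lf 0) (.lf 0)) (.nd (.lf 0) (.lf 0))) (.nd (.nd (.lf 0) (.lf 0)) (.nd (.lf 0) (.lf 0))))))) (.nd (.nd (.nd (.nd (.nd (.nd (.lf 0) (.lf 0)) (.nd (.lf 0) (.lf 0))) (.nd (.nd (.lf 0) (.lf 0)) (.nd (.lf 0) (.lf 0)))) (.nd (.nd (.nd (.lf 0) (.lf 0)) (.nd (.lf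 0) (.lf 0))) (.nd (.nd (.lf 0) (.lf 0)) (.nd (.lf 0) (.lf 0))))) (.nd (.nd (.nd (.nd (.lf 0) (.lf 0)) (.nd (.lf 0) (.lf 0))) (.nd (.nd (.lf 0) (.lf 0)) (.nd (.lf 0) (.lf 0)))) (.nd (.nd (.nd (.lf 0) (.lf 0)) (.nd (.lf 0) (.lf 0))) (.nd (.nd (.lf 0) (.lf 0)) (.nd (.lf 0) (.lf 0)))))) (.nd (.nd (.nd (.nd (.nd (.lf 0) (.lf 0)) (.nd (.lf 0) (.lf 0))) (.nd (.nd (.lf 0) (.lf 0)) (.nd (.lf 0) (.lf 0)))) (.nd (.nd (.nd (.lf 0) (.lf 0)) (.nd (.lf 0) (.lf 0))) (.nd (.nd (.lf 0) (.lf 0)) (.nd (.lf 0) (.lf 0))))) (.nd (.nd (.nd (.nd (.lf 0) (.lf 0)) (.nd (.lf 0) (.lf 0))) (.nd (.nd (.lf 0) (.lf 0)) (.nd (.lf 0) (.lf 0)))) (.nd (.nd (.nd (.lf 0) (.lf 0)) (.nd (.lf 0) (.lf 0))) (.nd (.nd (.lf 0) (.lf 0)) (.nd (.lf 0) (.lf 0)))))))))) (.nd (.nd (.nd (.nd (.nd (.nd (.nd (.nd (.nd (.lf 0) (.lf 0)) (.nd (.lf 0) (.lf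 0))) (.nd (.nd (.lf 0) (.lf 0)) (.nd (.lf 0) (.lf 0)))) (.nd (.nd (.nd (.lf 0) (.lf 0)) (.nd (.lf 0) (.lf 0))) (.nd (.nd (.lf 0) (.lf 0)) (.nd (.lf 0) (.lf 0))))) (.nd (.nd (.nd (.nd (.lf 0) (.lf 0)) (.nd (.lf 0) (.lf 0))) (.nd (.nd (.lf 0) (.lf 0)) (.nd (.lf 0) (.lf 0)))) (.nd (.nd (.nd (.lf 0) (.lf 0)) (.nd (.lf 0) (.lf 0))) (.nd (.nd (.lf 0) (.lf 0)) (.nd (.lf 0) (.lf 0)))))) (.nd (.nd (.nd (.nd (.nd (.lf 0) (.lf 0)) (.nd (.lf 0) (.lf 0))) (.nd (.nd (.lf 0) (.lf 0)) (.nd (.lf 0) (.lf 0)))) (.nd (.nd (.nd (.lf 0) (.lf 0)) (.nd (.lf 0) (.lf 0))) (.nd (.nd (.lf 0) (.lf 0)) (.nd (.lf 0) (.lf 0))))) (.nd (.nd (.nd (.nd (.lf 0) (.lf 0)) (.nd (.lf 0) (.lf 0))) (.nd (.nd (.lf 0) (.lf 0)) (.nd (.lf 0) (.lf 0)))) (.nd (.nd (.nd (.lf 0) (.lf 0)) (.nd (.lf 0) (.lf 0))) (.nd (.nd (.lf 0) (.lf 0)) (.nd (.lf 0)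 (.lf 0))))))) (.nd (.nd (.nd (.nd (.nd (.nd (.lf 0) (.lf 0)) (.nd (.lf 0) (.lf 0))) (.nd (.nd (.lf 0) (.lf 0)) (.nd (.lf 0) (.lf 0)))) (.nd (.nd (.nd (.lf 0) (.lf 0)) (.nd (.lf 0) (.lf 0))) (.nd (.nd (.lf 0) (.lf 0)) (.nd (.lf 0) (.lf 0))))) (.nd (.nd (.nd (.nd (.lf 0) (.lf 0)) (.nd (.lf 0) (.lf 0))) (.nd (.nd (.lf 0) (.lf 0)) (.nd (.lf 0) (.lf 0)))) (.nd (.nd (.nd (.lf 0) (.lf 0)) (.nd (.lf 0) (.lf 0))) (.nd (.nd (.lf 0) (.lf 0)) (.nd (.lf 0) (.lf 0)))))) (.nd (.nd (.nd (.nd (.nd (.lf 0) (.lf 0)) (.nd (.lf 0) (.lf 0))) (.nd (.nd (.lf 0) (.lf 0)) (.nd (.lf 0) (.lf 0)))) (.nd (.nd (.nd (.lf 0) (.lf 0)) (.nd (.lf 0) (.lf 0))) (.nd (.nd (.lf 0) (.lf 0)) (.nd (.lf 0) (.lf 0))))) (.nd (.nd (.nd (.nd (.lf 0) (.lf 0)) (.nd (.lf 0) (.lf 0))) (.nd (.nd (.lf 0) (.lf 0)) (.nd (.lf 0) (.lf 0)))) (.nd (.nd (.nd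 (.lf 0) (.lf 0)) (.nd (.lf 0) (.lf 0))) (.nd (.nd (.lf 0) (.lf 0)) (.nd (.lf 0) (.lf 0)))))))) (.nd (.nd (.nd (.nd (.nd (.nd (.nd (.lf 0) (.lf 0)) (.nd (.lf 0) (.lf 0))) (.nd (.nd (.lf 0) (.lf 0)) (.nd (.lf 0) (.lf 0)))) (.nd (.nd (.nd (.lf 0) (.lf 0)) (.nd (.lf 0) (.lf 0))) (.nd (.nd (.lf 0) (.lf 0)) (.nd (.lf 0) (.lf 0))))) (.nd (.nd (.nd (.nd (.lf 0) (.lf 0)) (.nd (.lf 0) (.lf 0))) (.nd (.nd (.lf 0) (.lf 0)) (.nd (.lf 0) (.lf 0)))) (.nd (.nd (.nd (.lf 0) (.lf 0)) (.nd (.lf 0) (.lf 0))) (.nd (.nd (.lf 0) (.lf 0)) (.nd (.lf 0) (.lf 0)))))) (.nd (.nd (.nd (.nd (.nd (.lf 0) (.lf 0)) (.nd (.lf 0) (.lf 0))) (.nd (.nd (.lf 0) (.lf 0)) (.nd (.lf 0) (.lf 0)))) (.nd (.nd (.nd (.lf 0) (.lf 0)) (.nd (.lf 0) (.lf 0))) (.nd (.nd (.lf 0) (.lf 0)) (.nd (.lf 0) (.lf 0))))) (.nd (.nd (.nd (.nd (.lf 0) (.lf 0)) (.nd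 (.lf 0) (.lf 0))) (.nd (.nd (.lf 0) (.lf 0)) (.nd (.lf 0) (.lf 0)))) (.nd (.nd (.nd (.lf 0) (.lf 0)) (.nd (.lf 0) (.lf 0))) (.nd (.nd (.lf 0) (.lf 0)) (.nd (.lf 0) (.lf 0))))))) (.nd (.nd (.nd (.nd (.nd (.nd (.lf 0) (.lf 0)) (.nd (.lf 0) (.lf 0))) (.nd (.nd (.lf 0) (.lf 0)) (.nd (.lf 0) (.lf 0)))) (.nd (.nd (.nd (.lf 0) (.lf 0)) (.nd (.lf 0) (.lf 0))) (.nd (.nd (.lf 0) (.lf 0)) (.nd (.lf 0) (.lf 0))))) (.nd (.nd (.nd (.nd (.lf 0) (.lf 0)) (.nd (.lf 0) (.lf 0))) (.nd (.nd (.lf 0) (.lf 0)) (.nd (.lf 0) (.lf 0)))) (.nd (.nd (.nd (.lf 0) (.lf 0)) (.nd (.lf 0) (.lf 0))) (.nd (.nd (.lf 0) (.lf 0)) (.nd (.lf 0) (.lf 0)))))) (.nd (.nd (.nd (.nd (.nd (.lf 0) (.lf 0)) (.nd (.lf 0) (.lf 0))) (.nd (.nd (.lf 11) (.lf 0)) (.nd (.lf 0) (.lf 0)))) (.nd (.nd (.nd (.lf 0) (.lf 0)) (.nd (.lf 0) (.lf 0))) (.nd (.nd (.lf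 0) (.lf 0)) (.nd (.lf 0) (.lf 0))))) (.nd (.nd (.nd (.nd (.lf 0) (.lf 0)) (.nd (.lf 0) (.lf 0))) (.nd (.nd (.lf 0) (.lf 0)) (.nd (.lf 0) (.lf 0)))) (.nd (.nd (.nd (.lf 0) (.lf 0)) (.nd (.lf 0) (.lf 0))) (.nd (.nd (.lf 0) (.lf 0)) (.nd (.lf 0) (.lf 0))))))))) (.nd (.nd (.nd (.nd (.nd (.nd (.nd (.nd (.lf 0) (.lf 0)) (.nd (.lf 0) (.lf 0))) (.nd (.nd (.lf 0) (.lf 0)) (.nd (.lf 0) (.lf 0)))) (.nd (.nd (.nd (.lf 0) (.lf 0)) (.nd (.lf 0) (.lf 0))) (.nd (.nd (.lf 0) (.lf 0)) (.nd (.lf 0) (.lf 0))))) (.nd (.nd (.nd (.nd (.lf 0) (.lf 0)) (.nd (.lf 0) (.lf 0))) (.nd (.nd (.lf 0) (.lf 0)) (.nd (.lf 0) (.lf 0)))) (.nd (.nd (.nd (.lf 0) (.lf 0)) (.nd (.lf 0) (.lf 0))) (.nd (.nd (.lf 0) (.lf 0)) (.nd (.lf 0) (.lf 0)))))) (.nd (.nd (.nd (.nd (.nd (.lf 0) (.lf 0)) (.nd (.lf 0) (.lf 0))) (.nd (.nd (.lf 0) (.lf 0)) (.nd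 (.lf 0) (.lf 0)))) (.nd (.nd (.nd (.lf 0) (.lf 0)) (.nd (.lf 0) (.lf 0))) (.nd (.nd (.lf 0) (.lf 0)) (.nd (.lf 0) (.lf 0))))) (.nd (.nd (.nd (.nd (.lf 0) (.lf 0)) (.nd (.lf 0) (.lf 0))) (.nd (.nd (.lf 0) (.lf 0)) (.nd (.lf 0) (.lf 0)))) (.nd (.nd (.nd (.lf 0) (.lf 0)) (.nd (.lf 0) (.lf 0))) (.nd (.nd (.lf 0) (.lf 0)) (.nd (.lf 0) (.lf 0))))))) (.nd (.nd (.nd (.nd (.nd (.nd (.lf 87) (.lf 0)) (.nd (.lf 0) (.lf 0))) (.nd (.nd (.lf 0) (.lf 0)) (.nd (.lf 0) (.lf 0)))) (.nd (.nd (.nd (.lf 0) (.lf 0)) (.nd (.lf 0) (.lf 0))) (.nd (.nd (.lf 0) (.lf 0)) (.nd (.lf 0) (.lf 0))))) (.nd (.nd (.nd (.nd (.lf 0) (.lf 0)) (.nd (.lf 0) (.lf 0))) (.nd (.nd (.lf 0) (.lf 0)) (.nd (.lf 0) (.lf 0)))) (.nd (.nd (.nd (.lf 0) (.lf 0)) (.nd (.lf 0) (.lf 0))) (.nd (.nd (.lf 0) (.lf 0)) (.nd (.lf 0) (.lf 0)))))) (.nd (.nd (.nd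 (.nd (.nd (.lf 0) (.lf 0)) (.nd (.lf 0) (.lf 0))) (.nd (.nd (.lf 0) (.lf 0)) (.nd (.lf 0) (.lf 0)))) (.nd (.nd (.nd (.lf 0) (.lf 0)) (.nd (.lf 0) (.lf 0))) (.nd (.nd (.lf 0) (.lf 0)) (.nd (.lf 0) (.lf 0))))) (.nd (.nd (.nd (.nd (.lf 0) (.lf 0)) (.nd (.lf 0) (.lf 0))) (.nd (.nd (.lf 0) (.lf 0)) (.nd (.lf 109) (.lf 0)))) (.nd (.nd (.nd (.lf 0) (.lf 0)) (.nd (.lf 0) (.lf 0))) (.nd (.nd (.lf 0) (.lf 0)) (.nd (.lf 0) (.lf 0)))))))) (.nd (.nd (.nd (.nd (.nd (.nd (.nd (.lf 0) (.lf 0)) (.nd (.lf 0) (.lf 0))) (.nd (.nd (.lf 0) (.lf 0)) (.nd (.lf 0) (.lf 0)))) (.nd (.nd (.nd (.lf 0) (.lf 0)) (.nd (.lf 0) (.lf 0))) (.nd (.nd (.lf 0) (.lf 0)) (.nd (.lf 0) (.lf 0))))) (.nd (.nd (.nd (.nd (.lf 0) (.lf 0)) (.nd (.lf 0) (.lf 0))) (.nd (.nd (.lf 0) (.lf 0)) (.nd (.lf 0) (.lf 0)))) (.nd (.nd (.nd (.lf 0) (.lf 0)) (.nd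 (.lf 0) (.lf 0))) (.nd (.nd (.lf 0) (.lf 0)) (.nd (.lf 0) (.lf 0)))))) (.nd (.nd (.nd (.nd (.nd (.lf 0) (.lf 0)) (.nd (.lf 0) (.lf 0))) (.nd (.nd (.lf 0) (.lf 0)) (.nd (.lf 0) (.lf 0)))) (.nd (.nd (.nd (.lf 0) (.lf 0)) (.nd (.lf 0) (.lf 0))) (.nd (.nd (.lf 0) (.lf 0)) (.nd (.lf 0) (.lf 0))))) (.nd (.nd (.nd (.nd (.lf 0) (.lf 0)) (.nd (.lf 0) (.lf 0))) (.nd (.nd (.lf 0) (.lf 0)) (.nd (.lf 0) (.lf 0)))) (.nd (.nd (.nd (.lf 0) (.lf 0)) (.nd (.lf 0) (.lf 0))) (.nd (.nd (.lf 0) (.lf 0)) (.nd (.lf 0) (.lf 0))))))) (.nd (.nd (.nd (.nd (.nd (.nd (.lf 0) (.lf 0)) (.nd (.lf 0) (.lf 0))) (.nd (.nd (.lf 0) (.lf 0)) (.nd (.lf 0) (.lf 0)))) (.nd (.nd (.nd (.lf 0) (.lf 0)) (.nd (.lf 0) (.lf 0))) (.nd (.nd (.lf 0) (.lf 0)) (.nd (.lf 0) (.lf 0))))) (.nd (.nd (.nd (.nd (.lf 0) (.lf 0)) (.nd (.lf 0) (.lf 0))) (.nd (.nd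 (.lf 0) (.lf 0)) (.nd (.lf 0) (.lf 0)))) (.nd (.nd (.nd (.lf 0) (.lf 0)) (.nd (.lf 0) (.lf 0))) (.nd (.nd (.lf 0) (.lf 0)) (.nd (.lf 0) (.lf 0)))))) (.nd (.nd (.nd (.nd (.nd (.lf 0) (.lf 0)) (.nd (.lf 93) (.lf 0))) (.nd (.nd (.lf 0) (.lf 0)) (.nd (.lf 0) (.lf 0)))) (.nd (.nd (.nd (.lf 0) (.lf 0)) (.nd (.lf 0) (.lf 0))) (.nd (.nd (.lf 0) (.lf 0)) (.nd (.lf 0) (.lf 0))))) (.nd (.nd (.nd (.nd (.lf 0) (.lf 0)) (.nd (.lf 0) (.lf 0))) (.nd (.nd (.lf 0) (.lf 0)) (.nd (.lf 0) (.lf 0)))) (.nd (.nd (.nd (.lf 0) (.lf 0)) (.nd (.lf 0) (.lf 0))) (.nd (.nd (.lf 0) (.lf 0)) (.nd (.lf 0) (.lf 0))))))))))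

/-- table part -/
def tabT_16 : Tr :=
  .nd (.nd (.nd (.nd (.nd (.nd (.nd (.nd (.nd (.nd (.lf 0) (.lf 0)) (.nd (.lf 0) (.lf 0))) (.nd (.nd (.lf 0) (.lf 0)) (.nd (.lf 0) (.lf 0)))) (.nd (.nd (.nd (.lf 0) (.lf 0)) (.nd (.lf 0) (.lf 0))) (.nd (.nd (.lf 0) (.lf 0)) (.nd (.lf 0) (.lf 0))))) (.nd (.nd (.nd (.nd (.lf 0) (.lf 0)) (.nd (.lf 0) (.lf 0))) (.nd (.nd (.lf 104) (.lf 0)) (.nd (.lf 0) (.lf 0)))) (.nd (.nd (.nd (.lf 0) (.lf 0)) (.nd (.lf 0) (.lf 0))) (.nd (.nd (.lf 0) (.lf 0)) (.nd (.lf 0) (.lf 0)))))) (.nd (.nd (.nd (.nd (.nd (.lf 0) (.lf 0)) (.nd (.lf 0) (.lf 0))) (.nd (.nd (.lf 0) (.lf 0)) (.nd (.lf 0) (.lf 0)))) (.nd (.nd (.nd (.lf 0) (.lf 0)) (.nd (.lf 0) (.lf 0))) (.nd (.nd (.lf 0) (.lf 0)) (.nd (.lf 0) (.lf 0))))) (.nd (.nd (.nd (.nd (.lf 0) (.lf 0)) (.nd (.lf 0) (.lf 0))) (.nd (.nd (.lf 0)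 (.lf 0)) (.nd (.lf 0) (.lf 0)))) (.nd (.nd (.nd (.lf 0) (.lf 0)) (.nd (.lf 0) (.lf 0))) (.nd (.nd (.lf 0) (.lf 0)) (.nd (.lf 0) (.lf 0))))))) (.nd (.nd (.nd (.nd (.nd (.nd (.lf 0) (.lf 0)) (.nd (.lf 0) (.lf 0))) (.nd (.nd (.lf 0) (.lf 0)) (.nd (.lf 0) (.lf 0)))) (.nd (.nd (.nd (.lf 0) (.lf 0)) (.nd (.lf 0) (.lf 0))) (.nd (.nd (.lf 0) (.lf 0)) (.nd (.lf 0) (.lf 0))))) (.nd (.nd (.nd (.nd (.lf 0) (.lf 0)) (.nd (.lf 0) (.lf 0))) (.nd (.nd (.lf 0) (.lf 0)) (.nd (.lf 0) (.lf 0)))) (.nd (.nd (.nd (.lf 0) (.lf 0)) (.nd (.lf 0) (.lf 0))) (.nd (.nd (.lf 0) (.lf 0)) (.nd (.lf 0) (.lf 0)))))) (.nd (.nd (.nd (.nd (.nd (.lf 0) (.lf 0)) (.nd (.lf 0) (.lf 0))) (.nd (.nd (.lf 0) (.lf 0)) (.nd (.lf 0) (.lf 0)))) (.nd (.nd (.nd (.lf 0) (.lf 0)) (.nd (.lf 0) (.lf 0))) (.nd (.nd (.lf 0) (.lf 0)) (.nd (.lf 0) (.lf 0)))))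 (.nd (.nd (.nd (.nd (.lf 0) (.lf 0)) (.nd (.lf 0) (.lf 0))) (.nd (.nd (.lf 0) (.lf 0)) (.nd (.lf 0) (.lf 0)))) (.nd (.nd (.nd (.lf 0) (.lf 0)) (.nd (.lf 0) (.lf 0))) (.nd (.nd (.lf 0) (.lf 0)) (.nd (.lf 0) (.lf 0)))))))) (.nd (.nd (.nd (.nd (.nd (.nd (.nd (.lf 0) (.lf 0)) (.nd (.lf 0) (.lf 0))) (.nd (.nd (.lf 0) (.lf 0)) (.nd (.lf 0) (.lf 0)))) (.nd (.nd (.nd (.lf 0) (.lf 0)) (.nd (.lf 0) (.lf 0))) (.nd (.nd (.lf 0) (.lf 0)) (.nd (.lf 0) (.lf 0))))) (.nd (.nd (.nd (.nd (.lf 0) (.lf 0)) (.nd (.lf 0) (.lf 0))) (.nd (.nd (.lf 0) (.lf 0)) (.nd (.lf 0) (.lf 0)))) (.nd (.nd (.nd (.lf 0) (.lf 0)) (.nd (.lf 0) (.lf 0))) (.nd (.nd (.lf 0) (.lf 0)) (.nd (.lf 0) (.lf 0)))))) (.nd (.nd (.nd (.nd (.nd (.lf 0) (.lf 0)) (.nd (.lf 0) (.lf 0))) (.nd (.nd (.lf 0) (.lf 0)) (.nd (.lf 0) (.lf 0)))) (.nd (.nd (.nd (.lf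 0) (.lf 0)) (.nd (.lf 0) (.lf 0))) (.nd (.nd (.lf 0) (.lf 0)) (.nd (.lf 0) (.lf 0))))) (.nd (.nd (.nd (.nd (.lf 0) (.lf 0)) (.nd (.lf 0) (.lf 0))) (.nd (.nd (.lf 0) (.lf 0)) (.nd (.lf 0) (.lf 0)))) (.nd (.nd (.nd (.lf 0) (.lf 0)) (.nd (.lf 0) (.lf 0))) (.nd (.nd (.lf 0) (.lf 0)) (.nd (.lf 0) (.lf 0))))))) (.nd (.nd (.nd (.nd (.nd (.nd (.lf 0) (.lf 0)) (.nd (.lf 0) (.lf 0))) (.nd (.nd (.lf 0) (.lf 0)) (.nd (.lf 0) (.lf 0)))) (.nd (.nd (.nd (.lf 0) (.lf 0)) (.nd (.lf 0) (.lf 0))) (.nd (.nd (.lf 0) (.lf 0)) (.nd (.lf 0) (.lf 0))))) (.nd (.nd (.nd (.nd (.lf 0) (.lf 0)) (.nd (.lf 0) (.lf 0))) (.nd (.nd (.lf 0) (.lf 0)) (.nd (.lf 0) (.lf 0)))) (.nd (.nd (.nd (.lf 0) (.lf 0)) (.nd (.lf 0) (.lf 0))) (.nd (.nd (.lf 0) (.lf 0)) (.nd (.lf 0) (.lf 0)))))) (.nd (.nd (.nd (.nd (.nd (.lf 0) (.lf 0)) (.nd (.lf 0)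 (.lf 0))) (.nd (.nd (.lf 0) (.lf 0)) (.nd (.lf 0) (.lf 0)))) (.nd (.nd (.nd (.lf 0) (.lf 0)) (.nd (.lf 0) (.lf 0))) (.nd (.nd (.lf 0) (.lf 0)) (.nd (.lf 0) (.lf 0))))) (.nd (.nd (.nd (.nd (.lf 0) (.lf 0)) (.nd (.lf 0) (.lf 0))) (.nd (.nd (.lf 0) (.lf 0)) (.nd (.lf 0) (.lf 0)))) (.nd (.nd (.nd (.lf 0) (.lf 0)) (.nd (.lf 0) (.lf 0))) (.nd (.nd (.lf 0) (.lf 0)) (.nd (.lf 0) (.lf 0))))))))) (.nd (.nd (.nd (.nd (.nd (.nd (.nd (.nd (.lf 0) (.lf 0)) (.nd (.lf 0) (.lf 0))) (.nd (.nd (.lf 0) (.lf 0)) (.nd (.lf 0) (.lf 0)))) (.nd (.nd (.nd (.lf 0) (.lf 0)) (.nd (.lf 0) (.lf 0))) (.nd (.nd (.lf 0) (.lf 0)) (.nd (.lf 0) (.lf 0))))) (.nd (.nd (.nd (.nd (.lf 0) (.lf 0)) (.nd (.lf 0) (.lf 0))) (.nd (.nd (.lf 0) (.lf 0)) (.nd (.lf 0) (.lf 0)))) (.nd (.nd (.nd (.lf 28) (.lf 0)) (.nd (.lf 0) (.lf 0))) (.nd (.nd (.lf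 0) (.lf 0)) (.nd (.lf 0) (.lf 0)))))) (.nd (.nd (.nd (.nd (.nd (.lf 0) (.lf 0)) (.nd (.lf 0) (.lf 0))) (.nd (.nd (.lf 0) (.lf 0)) (.nd (.lf 0) (.lf 0)))) (.nd (.nd (.nd (.lf 0) (.lf 0)) (.nd (.lf 0) (.lf 0))) (.nd (.nd (.lf 0) (.lf 0)) (.nd (.lf 0) (.lf 0))))) (.nd (.nd (.nd (.nd (.lf 0) (.lf 0)) (.nd (.lf 0) (.lf 0))) (.nd (.nd (.lf 0) (.lf 0)) (.nd (.lf 0) (.lf 0)))) (.nd (.nd (.nd (.lf 0) (.lf 0)) (.nd (.lf 0) (.lf 0))) (.nd (.nd (.lf 0) (.lf 0)) (.nd (.lf 0) (.lf 0))))))) (.nd (.nd (.nd (.nd (.nd (.nd (.lf 0) (.lf 0)) (.nd (.lf 0) (.lf 0))) (.nd (.nd (.lf 0) (.lf 0)) (.nd (.lf 0) (.lf 0)))) (.nd (.nd (.nd (.lf 0) (.lf 0)) (.nd (.lf 0) (.lf 0))) (.nd (.nd (.lf 0) (.lf 0)) (.nd (.lf 0) (.lf 0))))) (.nd (.nd (.nd (.nd (.lf 0) (.lf 0)) (.nd (.lf 0) (.lf 0))) (.nd (.nd (.lf 0) (.lf 0)) (.nd (.lf 0)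 (.lf 0)))) (.nd (.nd (.nd (.lf 0) (.lf 0)) (.nd (.lf 0) (.lf 0))) (.nd (.nd (.lf 0) (.lf 0)) (.nd (.lf 0) (.lf 0)))))) (.nd (.nd (.nd (.nd (.nd (.lf 0) (.lf 0)) (.nd (.lf 0) (.lf 0))) (.nd (.nd (.lf 0) (.lf 0)) (.nd (.lf 0) (.lf 0)))) (.nd (.nd (.nd (.lf 0) (.lf 0)) (.nd (.lf 0) (.lf 0))) (.nd (.nd (.lf 0) (.lf 0)) (.nd (.lf 0) (.lf 0))))) (.nd (.nd (.nd (.nd (.lf 0) (.lf 0)) (.nd (.lf 0) (.lf 0))) (.nd (.nd (.lf 0) (.lf 0)) (.nd (.lf 0) (.lf 0)))) (.nd (.nd (.nd (.lf 0) (.lf 0)) (.nd (.lf 0) (.lf 0))) (.nd (.nd (.lf 0) (.lf 0)) (.nd (.lf 0) (.lf 0)))))))) (.nd (.nd (.nd (.nd (.nd (.nd (.nd (.lf 0) (.lf 0)) (.nd (.lf 0) (.lf 0))) (.nd (.nd (.lf 0) (.lf 0)) (.nd (.lf 0) (.lf 0)))) (.nd (.nd (.nd (.lf 0) (.lf 0)) (.nd (.lf 0) (.lf 0))) (.nd (.nd (.lf 0) (.lf 0)) (.nd (.lf 0) (.lf 0))))) (.nd (.nd (.nd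 (.nd (.lf 0) (.lf 0)) (.nd (.lf 0) (.lf 0))) (.nd (.nd (.lf 0) (.lf 0)) (.nd (.lf 0) (.lf 0)))) (.nd (.nd (.nd (.lf 0) (.lf 0)) (.nd (.lf 0) (.lf 0))) (.nd (.nd (.lf 0) (.lf 0)) (.nd (.lf 0) (.lf 0)))))) (.nd (.nd (.nd (.nd (.nd (.lf 0) (.lf 0)) (.nd (.lf 0) (.lf 0))) (.nd (.nd (.lf 0) (.lf 0)) (.nd (.lf 0) (.lf 0)))) (.nd (.nd (.nd (.lf 0) (.lf 0)) (.nd (.lf 0) (.lf 0))) (.nd (.nd (.lf 0) (.lf 0)) (.nd (.lf 0) (.lf 0))))) (.nd (.nd (.nd (.nd (.lf 0) (.lf 0)) (.nd (.lf 0) (.lf 0))) (.nd (.nd (.lf 0) (.lf 0)) (.nd (.lf 0) (.lf 0)))) (.nd (.nd (.nd (.lf 0) (.lf 0)) (.nd (.lf 0) (.lf 0))) (.nd (.nd (.lf 0) (.lf 0)) (.nd (.lf 0) (.lf 0))))))) (.nd (.nd (.nd (.nd (.nd (.nd (.lf 0) (.lf 0)) (.nd (.lf 0) (.lf 0))) (.nd (.nd (.lf 0) (.lf 0)) (.nd (.lf 0) (.lf 0)))) (.nd (.nd (.nd (.lf 0) (.lf 0)) (.nd (.lf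 0) (.lf 0))) (.nd (.nd (.lf 0) (.lf 0)) (.nd (.lf 0) (.lf 0))))) (.nd (.nd (.nd (.nd (.lf 0) (.lf 0)) (.nd (.lf 0) (.lf 0))) (.nd (.nd (.lf 0) (.lf 0)) (.nd (.lf 0) (.lf 0)))) (.nd (.nd (.nd (.lf 0) (.lf 0)) (.nd (.lf 0) (.lf 0))) (.nd (.nd (.lf 0) (.lf 0)) (.nd (.lf 0) (.lf 0)))))) (.nd (.nd (.nd (.nd (.nd (.lf 0) (.lf 0)) (.nd (.lf 0) (.lf 0))) (.nd (.nd (.lf 0) (.lf 0)) (.nd (.lf 0) (.lf 0)))) (.nd (.nd (.nd (.lf 0) (.lf 0)) (.nd (.lf 0) (.lf 0))) (.nd (.nd (.lf 0) (.lf 0)) (.nd (.lf 0) (.lf 0))))) (.nd (.nd (.nd (.nd (.lf 0) (.lf 0)) (.nd (.lf 0) (.lf 0))) (.nd (.nd (.lf 0) (.lf 0)) (.nd (.lf 0) (.lf 0)))) (.nd (.nd (.nd (.lf 0) (.lf 0)) (.nd (.lf 0) (.lf 0))) (.nd (.nd (.lf 0) (.lf 0)) (.nd (.lf 0) (.lf 0)))))))))) (.nd (.nd (.nd (.nd (.nd (.nd (.nd (.nd (.nd (.lf 0) (.lf 0)) (.nd (.lf 0) (.lf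 0))) (.nd (.nd (.lf 0) (.lf 0)) (.nd (.lf 0) (.lf 0)))) (.nd (.nd (.nd (.lf 0) (.lf 0)) (.nd (.lf 0) (.lf 0))) (.nd (.nd (.lf 0) (.lf 0)) (.nd (.lf 0) (.lf 0))))) (.nd (.nd (.nd (.nd (.lf 0) (.lf 0)) (.nd (.lf 0) (.lf 0))) (.nd (.nd (.lf 0) (.lf 0)) (.nd (.lf 0) (.lf 0)))) (.nd (.nd (.nd (.lf 0) (.lf 0)) (.nd (.lf 0) (.lf 0))) (.nd (.nd (.lf 0) (.lf 0)) (.nd (.lf 0) (.lf 0)))))) (.nd (.nd (.nd (.nd (.nd (.lf 0) (.lf 0)) (.nd (.lf 0) (.lf 0))) (.nd (.nd (.lf 0) (.lf 0)) (.nd (.lf 0) (.lf 0)))) (.nd (.nd (.nd (.lf 0) (.lf 0)) (.nd (.lf 0) (.lf 0))) (.nd (.nd (.lf 0) (.lf 0)) (.nd (.lf 0) (.lf 0))))) (.nd (.nd (.nd (.nd (.lf 0) (.lf 0)) (.nd (.lf 0) (.lf 0))) (.nd (.nd (.lf 0) (.lf 0)) (.nd (.lf 0) (.lf 0)))) (.nd (.nd (.nd (.lf 0) (.lf 0)) (.nd (.lf 0) (.lf 0))) (.nd (.nd (.lf 0) (.lf 0)) (.nd (.lf 0)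 (.lf 0))))))) (.nd (.nd (.nd (.nd (.nd (.nd (.lf 0) (.lf 0)) (.nd (.lf 0) (.lf 0))) (.nd (.nd (.lf 0) (.lf 0)) (.nd (.lf 0) (.lf 0)))) (.nd (.nd (.nd (.lf 0) (.lf 0)) (.nd (.lf 0) (.lf 0))) (.nd (.nd (.lf 0) (.lf 0)) (.nd (.lf 0) (.lf 0))))) (.nd (.nd (.nd (.nd (.lf 0) (.lf 0)) (.nd (.lf 0) (.lf 0))) (.nd (.nd (.lf 0) (.lf 0)) (.nd (.lf 0) (.lf 0)))) (.nd (.nd (.nd (.lf 0) (.lf 0)) (.nd (.lf 0) (.lf 0))) (.nd (.nd (.lf 0) (.lf 0)) (.nd (.lf 0) (.lf 0)))))) (.nd (.nd (.nd (.nd (.nd (.lf 0) (.lf 0)) (.nd (.lf 0) (.lf 0))) (.nd (.nd (.lf 0) (.lf 0)) (.nd (.lf 0) (.lf 0)))) (.nd (.nd (.nd (.lf 0) (.lf 0)) (.nd (.lf 0) (.lf 0))) (.nd (.nd (.lf 0) (.lf 0)) (.nd (.lf 0) (.lf 0))))) (.nd (.nd (.nd (.nd (.lf 0) (.lf 0)) (.nd (.lf 0) (.lf 0))) (.nd (.nd (.lf 0) (.lf 0)) (.nd (.lf 37) (.lf 0)))) (.nd (.nd (.nd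 (.lf 0) (.lf 0)) (.nd (.lf 0) (.lf 0))) (.nd (.nd (.lf 0) (.lf 0)) (.nd (.lf 0) (.lf 0)))))))) (.nd (.nd (.nd (.nd (.nd (.nd (.nd (.lf 0) (.lf 0)) (.nd (.lf 0) (.lf 0))) (.nd (.nd (.lf 0) (.lf 0)) (.nd (.lf 0) (.lf 0)))) (.nd (.nd (.nd (.lf 0) (.lf 0)) (.nd (.lf 0) (.lf 0))) (.nd (.nd (.lf 0) (.lf 0)) (.nd (.lf 0) (.lf 0))))) (.nd (.nd (.nd (.nd (.lf 0) (.lf 0)) (.nd (.lf 0) (.lf 0))) (.nd (.nd (.lf 0) (.lf 0)) (.nd (.lf 0) (.lf 0)))) (.nd (.nd (.nd (.lf 0) (.lf 0)) (.nd (.lf 0) (.lf 0))) (.nd (.nd (.lf 0) (.lf 0)) (.nd (.lf 0) (.lf 0)))))) (.nd (.nd (.nd (.nd (.nd (.lf 0) (.lf 0)) (.nd (.lf 0) (.lf 0))) (.nd (.nd (.lf 0) (.lf 0)) (.nd (.lf 0) (.lf 0)))) (.nd (.nd (.nd (.lf 0) (.lf 0)) (.nd (.lf 0) (.lf 0))) (.nd (.nd (.lf 0) (.lf 0)) (.nd (.lf 0) (.lf 0))))) (.nd (.nd (.nd (.nd (.lf 0) (.lf 0)) (.nd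 (.lf 0) (.lf 0))) (.nd (.nd (.lf 0) (.lf 0)) (.nd (.lf 0) (.lf 0)))) (.nd (.nd (.nd (.lf 0) (.lf 0)) (.nd (.lf 0) (.lf 0))) (.nd (.nd (.lf 0) (.lf 0)) (.nd (.lf 0) (.lf 0))))))) (.nd (.nd (.nd (.nd (.nd (.nd (.lf 0) (.lf 0)) (.nd (.lf 0) (.lf 0))) (.nd (.nd (.lf 0) (.lf 0)) (.nd (.lf 0) (.lf 0)))) (.nd (.nd (.nd (.lf 0) (.lf 0)) (.nd (.lf 0) (.lf 0))) (.nd (.nd (.lf 0) (.lf 0)) (.nd (.lf 0) (.lf 0))))) (.nd (.nd (.nd (.nd (.lf 0) (.lf 0)) (.nd (.lf 0) (.lf 0))) (.nd (.nd (.lf 0) (.lf 0)) (.nd (.lf 0) (.lf 0)))) (.nd (.nd (.nd (.lf 0) (.lf 0)) (.nd (.lf 0) (.lf 0))) (.nd (.nd (.lf 0) (.lf 0)) (.nd (.lf 0) (.lf 0)))))) (.nd (.nd (.nd (.nd (.nd (.lf 0) (.lf 0)) (.nd (.lf 0) (.lf 0))) (.nd (.nd (.lf 0) (.lf 0)) (.nd (.lf 0) (.lf 0)))) (.nd (.nd (.nd (.lf 0) (.lf 0)) (.nd (.lf 0) (.lf 0))) (.nd (.nd (.lf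 0) (.lf 0)) (.nd (.lf 0) (.lf 0))))) (.nd (.nd (.nd (.nd (.lf 0) (.lf 0)) (.nd (.lf 0) (.lf 0))) (.nd (.nd (.lf 0) (.lf 0)) (.nd (.lf 0) (.lf 0)))) (.nd (.nd (.nd (.lf 0) (.lf 0)) (.nd (.lf 0) (.lf 0))) (.nd (.nd (.lf 0) (.lf 0)) (.nd (.lf 0) (.lf 0))))))))) (.nd (.nd (.nd (.nd (.nd (.nd (.nd (.nd (.lf 0) (.lf 0)) (.nd (.lf 0) (.lf 0))) (.nd (.nd (.lf 0) (.lf 0)) (.nd (.lf 0) (.lf 0)))) (.nd (.nd (.nd (.lf 0) (.lf 0)) (.nd (.lf 0) (.lf 0))) (.nd (.nd (.lf 0) (.lf 0)) (.nd (.lf 0) (.lf 0))))) (.nd (.nd (.nd (.nd (.lf 0) (.lf 0)) (.nd (.lf 0) (.lf 0))) (.nd (.nd (.lf 0) (.lf 0)) (.nd (.lf 0) (.lf 0)))) (.nd (.nd (.nd (.lf 0) (.lf 0)) (.nd (.lf 0) (.lf 0))) (.nd (.nd (.lf 0) (.lf 0)) (.nd (.lf 0) (.lf 0)))))) (.nd (.nd (.nd (.nd (.nd (.lf 0) (.lf 0)) (.nd (.lf 0) (.lf 0))) (.nd (.nd (.lf 0) (.lf 0)) (.nd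 (.lf 0) (.lf 0)))) (.nd (.nd (.nd (.lf 0) (.lf 0)) (.nd (.lf 0) (.lf 0))) (.nd (.nd (.lf 0) (.lf 0)) (.nd (.lf 0) (.lf 0))))) (.nd (.nd (.nd (.nd (.lf 0) (.lf 0)) (.nd (.lf 0) (.lf 0))) (.nd (.nd (.lf 0) (.lf 0)) (.nd (.lf 0) (.lf 0)))) (.nd (.nd (.nd (.lf 0) (.lf 0)) (.nd (.lf 0) (.lf 0))) (.nd (.nd (.lf 0) (.lf 0)) (.nd (.lf 0) (.lf 0))))))) (.nd (.nd (.nd (.nd (.nd (.nd (.lf 0) (.lf 0)) (.nd (.lf 0) (.lf 0))) (.nd (.nd (.lf 0) (.lf 0)) (.nd (.lf 0) (.lf 0)))) (.nd (.nd (.nd (.lf 0) (.lf 0)) (.nd (.lf 0) (.lf 0))) (.nd (.nd (.lf 0) (.lf 0)) (.nd (.lf 0) (.lf 0))))) (.nd (.nd (.nd (.nd (.lf 0) (.lf 0)) (.nd (.lf 0) (.lf 0))) (.nd (.nd (.lf 0) (.lf 0)) (.nd (.lf 0) (.lf 0)))) (.nd (.nd (.nd (.lf 0) (.lf 0)) (.nd (.lf 0) (.lf 0))) (.nd (.nd (.lf 0) (.lf 0)) (.nd (.lf 0) (.lf 0)))))) (.nd (.nd (.nd (.nd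 (.nd (.lf 0) (.lf 0)) (.nd (.lf 0) (.lf 0))) (.nd (.nd (.lf 0) (.lf 0)) (.nd (.lf 0) (.lf 0)))) (.nd (.nd (.nd (.lf 0) (.lf 0)) (.nd (.lf 0) (.lf 0))) (.nd (.nd (.lf 0) (.lf 0)) (.nd (.lf 0) (.lf 0))))) (.nd (.nd (.nd (.nd (.lf 0) (.lf 0)) (.nd (.lf 0) (.lf 0))) (.nd (.nd (.lf 0) (.lf 0)) (.nd (.lf 0) (.lf 0)))) (.nd (.nd (.nd (.lf 0) (.lf 0)) (.nd (.lf 0) (.lf 0))) (.nd (.nd (.lf 0) (.lf 0)) (.nd (.lf 0) (.lf 0)))))))) (.nd (.nd (.nd (.nd (.nd (.nd (.nd (.lf 0) (.lf 0)) (.nd (.lf 0) (.lf 0))) (.nd (.nd (.lf 0) (.lf 0)) (.nd (.lf 0) (.lf 0)))) (.nd (.nd (.nd (.lf 0) (.lf 0)) (.nd (.lf 0) (.lf 0))) (.nd (.nd (.lf 0) (.lf 0)) (.nd (.lf 0) (.lf 0))))) (.nd (.nd (.nd (.nd (.lf 0) (.lf 0)) (.nd (.lf 0) (.lf 0))) (.nd (.nd (.lf 0) (.lf 0)) (.nd (.lf 0) (.lf 0)))) (.nd (.nd (.nd (.lf 0) (.lf 0)) (.nd (.lf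 0) (.lf 0))) (.nd (.nd (.lf 0) (.lf 0)) (.nd (.lf 0) (.lf 0)))))) (.nd (.nd (.nd (.nd (.nd (.lf 0) (.lf 0)) (.nd (.lf 0) (.lf 0))) (.nd (.nd (.lf 0) (.lf 0)) (.nd (.lf 0) (.lf 0)))) (.nd (.nd (.nd (.lf 0) (.lf 0)) (.nd (.lf 0) (.lf 0))) (.nd (.nd (.lf 0) (.lf 0)) (.nd (.lf 0) (.lf 0))))) (.nd (.nd (.nd (.nd (.lf 0) (.lf 0)) (.nd (.lf 0) (.lf 0))) (.nd (.nd (.lf 0) (.lf 0)) (.nd (.lf 0) (.lf 0)))) (.nd (.nd (.nd (.lf 0) (.lf 0)) (.nd (.lf 0) (.lf 0))) (.nd (.nd (.lf 0) (.lf 0)) (.nd (.lf 0) (.lf 0))))))) (.nd (.nd (.nd (.nd (.nd (.nd (.lf 0) (.lf 0)) (.nd (.lf 0) (.lf 0))) (.nd (.nd (.lf 0) (.lf 0)) (.nd (.lf 0) (.lf 0)))) (.nd (.nd (.nd (.lf 0) (.lf 0)) (.nd (.lf 25) (.lf 0))) (.nd (.nd (.lf 0) (.lf 0)) (.nd (.lf 0) (.lf 0))))) (.nd (.nd (.nd (.nd (.lf 0) (.lf 0)) (.nd (.lf 0) (.lf 0))) (.nd (.nd (.lf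 0) (.lf 0)) (.nd (.lf 0) (.lf 0)))) (.nd (.nd (.nd (.lf 0) (.lf 0)) (.nd (.lf 0) (.lf 0))) (.nd (.nd (.lf 0) (.lf 0)) (.nd (.lf 0) (.lf 0)))))) (.nd (.nd (.nd (.nd (.nd (.lf 88) (.lf 0)) (.nd (.lf 0) (.lf 0))) (.nd (.nd (.lf 0) (.lf 0)) (.nd (.lf 0) (.lf 0)))) (.nd (.nd (.nd (.lf 0) (.lf 0)) (.nd (.lf 0) (.lf 0))) (.nd (.nd (.lf 0) (.lf 0)) (.nd (.lf 0) (.lf 0))))) (.nd (.nd (.nd (.nd (.lf 0) (.lf 0)) (.nd (.lf 0) (.lf 0))) (.nd (.nd (.lf 0) (.lf 0)) (.nd (.lf 0) (.lf 0)))) (.nd (.nd (.nd (.lf 0) (.lf 0)) (.nd (.lf 0) (.lf 0))) (.nd (.nd (.lf 0) (.lf 0)) (.nd (.lf 0) (.lf 0))))))))))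

/-- table -/
def tabT : Tr :=
  .nd (.nd (.nd (.nd tabT_1 tabT_2) (.nd tabT_3 tabT_4)) (.nd (.nd tabT_5 tabT_6) (.nd tabT_7 tabT_8))) (.nd (.nd (.nd tabT_9 tabT_10) (.nd tabT_11 tabT_12)) (.nd (.nd tabT_13 tabT_14) (.nd tabT_15 tabT_16)))

/-- the centraliser of the second generator squared -/
def centT : List (List (ℕ × Bool)) :=
  [[],
   [(8, true)],
   [(10, true)],
   [(9, true)],
   [(10, true), (9, true)],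
   [(9, true), (10, true)],
   [(8, true), (8, true)],
   [(10, true), (8, true)],
   [(8, true), (10, true)],
   [(8, true), (9, true)],
   [(9, true), (8, true)],
   [(8, true), (8, true), (8, true)],
   [(10, true), (8, true), (9, true)],
   [(9, true), (8, true), (9, true)],
   [(9, true), (8, true), (10, true)],
   [(10, true), (8, true), (10, true)],
   [(8, true), (10, true), (9, true)],
   [(8, true), (9, true), (10, true)],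
   [(10, true), (9, true), (8, true)],
   [(9, true), (10, true), (8, true)],
   [(8, true), (10, true), (8, true)],
   [(10, true), (9, true), (10, true)],
   [(9, true), (10, true), (9, true)],
   [(8, true), (8, true), (10, true)],
   [(8, true), (9, true), (8, true)],
   [(8, true), (8, true), (9, true)],
   [(8, true), (8, true), (9, true), (10, true)],
   [(10, true), (9, true), (10, true), (9, true)],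
   [(8, true), (9, true), (8, true), (9, true)],
   [(8, true), (10, true), (8, true), (10, true)],
   [(8, true), (8, true), (10, true), (9, true)],
   [(10, true), (8, true), (10, true), (8, true)],
   [(9, true), (8, true), (10, true), (8, true)],
   [(8, true), (9, true), (10, true), (8, true)],
   [(8, true), (8, true), (8, true), (8, true)],
   [(9, true), (10, true), (9, true), (10, true)],
   [(8, true), (10, true), (8, true), (9, true)],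
   [(10, true), (8, true), (9, true), (8, true)],
   [(9, true), (8, true), (9, true), (8, true)],
   [(8, true), (9, true), (8, true), (10, true)],
   [(10, true), (9, true), (8, true), (9, true)],
   [(9, true), (10, true), (9, true), (8, true)],
   [(8, true), (9, true), (10, true), (9, true)],
   [(10, true), (8, true), (10, true), (9, true)],
   [(8, true), (8, true), (8, true), (10, true)],
   [(9, true), (8, true), (9, true), (10, true)],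
   [(9, true), (8, true), (10, true), (9, true)],
   [(8, true), (8, true), (8, true), (9, true)],
   [(8, true), (8, true), (9, true), (8, true)],
   [(8, true), (8, true), (10, true), (8, true)],
   [(10, true), (9, true), (8, true), (10, true)],
   [(8, true), (10, true), (9, true), (10, true)],
   [(10, true), (9, true), (10, true), (8, true)],
   [(9, true), (10, true), (8, true), (10, true)],
   [(8, true), (9, true), (8, true), (9, true), (8, true)],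
   [(8, true), (8, true), (8, true), (8, true), (8, true)],
   [(8, true), (9, true), (10, true), (9, true), (10, true)],
   [(10, true), (9, true), (8, true), (10, true), (9, true)],
   [(8, true), (8, true), (8, true), (9, true), (10, true)],
   [(8, true), (8, true), (9, true), (10, true), (8, true)],
   [(8, true), (9, true), (8, true), (10, true), (8, true)],
   [(8, true), (8, true), (10, true), (8, true), (10, true)],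
   [(8, true), (10, true), (8, true), (10, true), (8, true)],
   [(8, true), (10, true), (8, true), (9, true), (8, true)],
   [(9, true), (10, true), (8, true), (10, true), (9, true)],
   [(9, true), (10, true), (9, true), (8, true), (9, true)],
   [(8, true), (8, true), (10, true), (8, true), (9, true)],
   [(8, true), (8, true), (9, true), (8, true), (9, true)],
   [(8, true), (10, true), (9, true), (10, true), (9, true)],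
   [(8, true), (8, true), (8, true), (8, true), (10, true)],
   [(10, true), (9, true), (8, true), (10, true), (8, true)],
   [(9, true), (8, true), (9, true), (10, true), (8, true)],
   [(8, true), (9, true), (8, true), (10, true), (9, true)],
   [(8, true), (8, true), (10, true), (9, true), (10, true)],
   [(8, true), (10, true), (8, true), (10, true), (9, true)],
   [(8, true), (8, true), (8, true), (8, true), (9, true)],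
   [(9, true), (8, true), (9, true), (8, true), (10, true)],
   [(10, true), (8, true), (10, true), (8, true), (10, true)],
   [(8, true), (9, true), (8, true), (9, true), (10, true)],
   [(8, true), (9, true), (10, true), (9, true), (8, true)],
   [(8, true), (10, true), (9, true), (10, true), (8, true)],
   [(9, true), (8, true), (9, true), (8, true), (9, true)],
   [(9, true), (10, true), (8, true), (10, true), (8, true)],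
   [(8, true), (8, true), (8, true), (10, true), (8, true)],
   [(8, true), (8, true), (9, true), (10, true), (9, true)],
   [(8, true), (9, true), (10, true), (8, true), (10, true)],
   [(8, true), (8, true), (8, true), (9, true), (8, true)],
   [(8, true), (8, true), (10, true), (8, true), (9, true), (8, true)],
   [(8, true), (8, true), (9, true), (8, true), (9, true), (8, true)],
   [(8, true), (8, true), (8, true), (10, true), (8, true), (9, true)],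
   [(8, true), (8, true), (10, true), (9, true), (10, true), (9, true)],
   [(8, true), (8, true), (8, true), (8, true), (9, true), (10, true)],
   [(8, true), (8, true), (8, true), (9, true), (10, true), (8, true)],
   [(8, true), (8, true), (10, true), (8, true), (10, true), (8, true)],
   [(9, true), (8, true), (9, true), (8, true), (10, true), (9, true)],
   [(8, true), (8, true), (8, true), (10, true), (8, true), (10, true)],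
   [(8, true), (8, true), (9, true), (10, true), (9, true), (10, true)],
   [(10, true), (8, true), (10, true), (8, true), (10, true), (9, true)],
   [(8, true), (8, true), (8, true), (9, true), (8, true), (9, true)],
   [(8, true), (8, true), (8, true), (8, true), (8, true), (8, true)],
   [(8, true), (8, true), (8, true), (8, true), (8, true), (9, true)],
   [(8, true), (8, true), (10, true), (9, true), (10, true), (8, true)],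
   [(8, true), (8, true), (8, true), (8, true), (8, true), (10, true)],
   [(8, true), (8, true), (8, true), (8, true), (9, true), (8, true)],
   [(8, true), (9, true), (8, true), (9, true), (8, true), (9, true)],
   [(8, true), (8, true), (9, true), (10, true), (8, true), (10, true)],
   [(8, true), (8, true), (8, true), (8, true), (10, true), (8, true)],
   [(8, true), (9, true), (8, true), (9, true), (10, true), (8, true)],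
   [(8, true), (9, true), (10, true), (8, true), (10, true), (8, true)],
   [(8, true), (8, true), (9, true), (8, true), (9, true), (10, true)],
   [(8, true), (8, true), (8, true), (9, true), (10, true), (9, true)],
   [(10, true), (8, true), (10, true), (8, true), (10, true), (8, true)],
   [(8, true), (8, true), (8, true), (9, true), (10, true), (9, true), (10, true)],
   [(8, true), (8, true), (8, true), (8, true), (9, true), (10, true), (8, true)],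
   [(8, true), (8, true), (8, true), (10, true), (8, true), (9, true), (8, true)],
   [(8, true), (8, true), (8, true), (8, true), (8, true), (9, true), (10, true)],
   [(8, true), (8, true), (8, true), (8, true), (9, true), (8, true), (9, true)],
   [(8, true), (8, true), (8, true), (8, true), (10, true), (8, true), (10, true)],
   [(8, true), (8, true), (8, true), (8, true), (10, true), (8, true), (9, true)],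
   [(8, true), (8, true), (8, true), (9, true), (10, true), (8, true), (10, true)],
   [(8, true), (8, true), (9, true), (8, true), (9, true), (10, true), (8, true)],
   [(8, true), (8, true), (8, true), (9, true), (8, true), (9, true), (10, true)],
   [(8, true), (8, true), (8, true), (8, true), (8, true), (8, true), (10, true)],
   [(8, true), (8, true), (9, true), (10, true), (8, true), (10, true), (8, true)],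
   [(8, true), (8, true), (8, true), (8, true), (8, true), (8, true), (9, true)],
   [(8, true), (8, true), (8, true), (8, true), (8, true), (8, true), (9, true), (10, true)],
   [(8, true), (8, true), (8, true), (8, true), (9, true), (10, true), (8, true), (10, true)],
   [(8, true), (8, true), (8, true), (8, true), (9, true), (8, true), (9, true), (10, true)]]

/-- relations -/
def relsW : List (List ℕ × ℕ) :=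
  [([1, 2], 4), ([2], 2), ([0, 2, 1, 2], 4), ([0, 0, 2], 6)]

/-- table part -/
def sepT_1 : Tr :=
  .nd (.nd (.nd (.nd (.lf 0) (.lf 0)) (.nd (.lf 1) (.lf 1))) (.nd (.nd (.lf 1) (.lf 1)) (.nd (.lf 0) (.lf 0)))) (.nd (.nd (.nd (.lf 0) (.lf 0)) (.nd (.lf 1) (.lf 1))) (.nd (.nd (.lf 1) (.lf 1)) (.nd (.lf 1) (.lf 1))))

/-- table part -/
def sepT_2 : Tr :=
  .nd (.nd (.nd (.nd (.lf 1) (.lf 1)) (.nd (.lf 2) (.lf 2))) (.nd (.nd (.lf 1) (.lf 1)) (.nd (.lf 1) (.lf 1)))) (.nd (.nd (.nd (.lf 1) (.lf 1)) (.nd (.lf 0) (.lf 0))) (.nd (.nd (.lf 1) (.lf 1)) (.nd (.lf 1) (.lf 1))))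

/-- table part -/
def sepT_3 : Tr :=
  .nd (.nd (.nd (.nd (.lf 1) (.lf 1)) (.nd (.lf 1) (.lf 1))) (.nd (.nd (.lf 1) (.lf 1)) (.nd (.lf 1) (.lf 1)))) (.nd (.nd (.nd (.lf 1) (.lf 1)) (.nd (.lf 1) (.lf 1))) (.nd (.nd (.lf 1) (.lf 1)) (.nd (.lf 1) (.lf 1))))

/-- table part -/
def sepT_4 : Tr :=
  .nd (.nd (.nd (.nd (.lf 0) (.lf 0)) (.nd (.lf 2) (.lf 2))) (.nd (.nd (.lf 1) (.lf 1)) (.nd (.lf 1) (.lf 1)))) (.nd (.nd (.nd (.lf 0) (.lf 0)) (.nd (.lf 1) (.lf 1))) (.nd (.nd (.lf 0) (.lf 0)) (.nd (.lf 1) (.lf 1))))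

/-- table part -/
def sepT_5 : Tr :=
  .nd (.nd (.nd (.nd (.lf 2) (.lf 0)) (.nd (.lf 0) (.lf 0))) (.nd (.nd (.lf 0) (.lf 0)) (.nd (.lf 0) (.lf 0)))) (.nd (.nd (.nd (.lf 0) (.lf 0)) (.nd (.lf 2) (.lf 2))) (.nd (.nd (.lf 1) (.lf 1)) (.nd (.lf 0) (.lf 0))))

/-- table part -/
def sepT_6 : Tr :=
  .nd (.nd (.nd (.nd (.lf 1) (.lf 1)) (.nd (.lf 2) (.lf 2))) (.nd (.nd (.lf 1) (.lf 1)) (.nd (.lf 1) (.lf 1)))) (.nd (.nd (.nd (.lf 1) (.lf 1)) (.nd (.lf 0) (.lf 0))) (.nd (.nd (.lf 0) (.lf 0)) (.nd (.lf 1) (.lf 1))))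

/-- table part -/
def sepT_7 : Tr :=
  .nd (.nd (.nd (.nd (.lf 0) (.lf 0)) (.nd (.lf 2) (.lf 2))) (.nd (.nd (.lf 0) (.lf 0)) (.nd (.lf 1) (.lf 1)))) (.nd (.nd (.nd (.lf 2) (.lf 3)) (.nd (.lf 2) (.lf 2))) (.nd (.nd (.lf 1) (.lf 1)) (.nd (.lf 0) (.lf 0))))

/-- table part -/
def sepT_8 : Tr :=
  .nd (.nd (.nd (.nd (.lf 0) (.lf 0)) (.nd (.lf 2) (.lf 2))) (.nd (.nd (.lf 1) (.lf 1)) (.nd (.lf 1) (.lf 1)))) (.nd (.nd (.nd (.lf 1) (.lf 1)) (.nd (.lf 1) (.lf 1))) (.nd (.nd (.lf 1) (.lf 1)) (.nd (.lf 1) (.lf 1))))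

/-- table part -/
def sepT_9 : Tr :=
  .nd (.nd (.nd (.nd (.lf 1) (.lf 1)) (.nd (.lf 0) (.lf 0))) (.nd (.nd (.lf 1) (.lf 1)) (.nd (.lf 1) (.lf 1)))) (.nd (.nd (.nd (.lf 0) (.lf 0)) (.nd (.lf 1) (.lf 1))) (.nd (.nd (.lf 1) (.lf 1)) (.nd (.lf 0) (.lf 0))))

/-- table part -/
def sepT_10 : Tr :=
  .nd (.nd (.nd (.nd (.lf 1) (.lf 1)) (.nd (.lf 1) (.lf 1))) (.nd (.nd (.lf 1) (.lf 1)) (.nd (.lf 1) (.lf 1)))) (.nd (.nd (.nd (.lf 1) (.lf 1)) (.nd (.lf 1) (.lf 1))) (.nd (.nd (.lf 1) (.lf 1)) (.nd (.lf 1) (.lf 1))))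

/-- table part -/
def sepT_11 : Tr :=
  .nd (.nd (.nd (.nd (.lf 1) (.lf 1)) (.nd (.lf 2) (.lf 3))) (.nd (.nd (.lf 1) (.lf 1)) (.nd (.lf 1) (.lf 1)))) (.nd (.nd (.nd (.lf 3) (.lf 2)) (.nd (.lf 3) (.lf 2))) (.nd (.nd (.lf 1) (.lf 1)) (.nd (.lf 1) (.lf 1))))

/-- table part -/
def sepT_12 : Tr :=
  .nd (.nd (.nd (.nd (.lf 1) (.lf 1)) (.nd (.lf 1) (.lf 1))) (.nd (.nd (.lf 1) (.lf 1)) (.nd (.lf 1) (.lf 1)))) (.nd (.nd (.nd (.lf 0) (.lf 0)) (.nd (.lf 0) (.lf 0))) (.nd (.nd (.lf 1) (.lf 1)) (.nd (.lf 1) (.lf 1))))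

/-- table part -/
def sepT_13 : Tr :=
  .nd (.nd (.nd (.nd (.lf 0) (.lf 2)) (.nd (.lf 1) (.lf 1))) (.nd (.nd (.lf 0) (.lf 0)) (.nd (.lf 0) (.lf 0)))) (.nd (.nd (.nd (.lf 0) (.lf 0)) (.nd (.lf 2) (.lf 2))) (.nd (.nd (.lf 1) (.lf 1)) (.nd (.lf 0) (.lf 0))))

/-- table part -/
def sepT_14 : Tr :=
  .nd (.nd (.nd (.nd (.lf 1) (.lf 1)) (.nd (.lf 3) (.lf 2))) (.nd (.nd (.lf 1) (.lf 1)) (.nd (.lf 1) (.lf 1)))) (.nd (.nd (.nd (.lf 0) (.lf 0)) (.nd (.lf 1) (.lf 1))) (.nd (.nd (.lf 0) (.lf 0)) (.nd (.lf 1) (.lf 1))))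

/-- table part -/
def sepT_15 : Tr :=
  .nd (.nd (.nd (.nd (.lf 1) (.lf 1)) (.nd (.lf 2) (.lf 3))) (.nd (.nd (.lf 1) (.lf 1)) (.nd (.lf 1) (.lf 1)))) (.nd (.nd (.nd (.lf 1) (.lf 1)) (.nd (.lf 1) (.lf 1))) (.nd (.nd (.lf 1) (.lf 1)) (.nd (.lf 1) (.lf 1))))

/-- table part -/
def sepT_16 : Tr :=
  .nd (.nd (.nd (.nd (.lf 1) (.lf 1)) (.nd (.lf 1) (.lf 1))) (.nd (.nd (.lf 1) (.lf 1)) (.nd (.lf 1) (.lf 1)))) (.nd (.nd (.nd (.lf 0) (.lf 0)) (.nd (.lf 0) (.lf 0))) (.nd (.nd (.lf 0) (.lf 0)) (.nd (.lf 1) (.lf 1))))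

/-- table -/
def sepT : Tr :=
  .nd (.nd (.nd (.nd sepT_1 sepT_2) (.nd sepT_3 sepT_4)) (.nd (.nd sepT_5 sepT_6) (.nd sepT_7 sepT_8))) (.nd (.nd (.nd sepT_9 sepT_10) (.nd sepT_11 sepT_12)) (.nd (.nd sepT_13 sepT_14) (.nd sepT_15 sepT_16)))

/-- generators by the three elements -/
def genW : List (List (ℕ × Bool)) :=
  [[(2, false), (0, false), (2, false), (1, true), (0, true), (2, false), (0, false), (0, false), (2, false), (0, false), (0, false), (1, true), (2, true), (0, false), (2, true), (0, false), (1, false), (1, false), (2, true), (0, true)],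
   [(2, false), (0, true), (1, false), (2, false), (0, true), (0, true), (0, true), (2, false), (1, false), (0, true), (2, true), (0, true), (0, true), (2, true), (1, true), (2, true), (0, true), (1, true), (1, true)],
   [(1, false), (0, false), (1, false), (2, false), (0, false), (2, false), (1, false), (2, false), (1, false), (0, false), (2, true), (0, true), (1, false), (2, true), (1, false), (0, false), (2, true), (0, true), (0, true), (2, true)],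
   [(0, true), (1, true), (2, false), (0, true), (0, true), (2, false), (1, true), (1, true), (0, true), (2, true), (0, true), (2, true), (1, true), (0, false), (1, true), (2, true), (1, false), (0, false)],
   [(0, true), (1, false), (2, false), (0, true), (2, false), (0, false), (1, false), (0, false), (2, false), (0, false), (1, true), (2, true), (0, true), (0, true), (2, true), (0, false), (2, true), (1, false), (2, true), (0, true), (1, false)],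
   [(0, true), (2, false), (1, true), (0, false), (2, false), (0, false), (1, true), (2, false), (1, false), (0, true), (2, true), (1, false), (0, false), (2, true), (0, true), (0, true), (0, true), (2, true), (0, false)],
   [(1, true), (2, false), (0, false), (2, false), (0, true), (2, false), (0, true), (2, false), (1, false), (0, true), (0, true), (2, true), (1, false), (0, true), (2, true), (0, false), (2, true), (0, true), (2, true), (0, true), (0, true)]]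

end Cfsg.Agent.HeOutData76
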