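import Cfsg.Agent.Lib.HeMult76Checks

/-!
Factorisation of the Held group along three base points, and centralisers from it.
-/

set_option autoImplicit false
set_option maxRecDepth 100000

namespace Cfsg.Agent.HeSift76

open Cfsg.Agent.CosetCertCore (Tbl entry force force_eq)
open Cfsg.Agent.CosetCertTable Cfsg.Agent.SplitVoltage Cfsg.Agent.SplitVoltageCert
  Cfsg.Agent.VoltageFus76 Cfsg.Agent.HeMult76Checks

/-- The element of a word in the generators. -/
noncomputable def el (ws : List (List ℕ)) (w : List (ℕ × Bool)) : G := wprod (gens ws) w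

/-- A word from a tree of parents. -/
noncomputable def path (T : Tr) : ℕ → ℕ → List (ℕ × Bool)
  | 0, _ => []
  | n + 1, a => force (get T a) fun v => cond (Nat.beq v 0) []
      (force ((v - 1) / 64) fun u => force ((v - 1) % 64) fun g => path T n u ++ [(g, true)])

/-- The data of a factorisation. -/
structure Chain where
  /-- first point -/
  p : ℕ
  /-- second point -/
  q : ℕ
  /-- third point -/
  r : ℕ
  /-- tree of the first orbit -/
  T0 : Tr
  /-- tree of the second orbit -/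
  T1 : Tr
  /-- tree of the third orbit -/
  T2 : Tr
  /-- elements fixing the three points -/
  L : List (List (ℕ × Bool))

section

variable (n : ℕ) (Ts Us : List Tbl) (D : Chain)

/-- first transversal -/
noncomputable def W0 (a : ℕ) : List (ℕ × Bool) := path D.T0 16 a
/-- second transversal -/
noncomputable def W1 (b : ℕ) : List (ℕ × Bool) := path D.T1 14 b
/-- third transversal -/
noncomputable def W2 (c : ℕ) : List (ℕ × Bool) := path D.T2 12 c

/-- letters in range -/
def inRange (w : List (ℕ × Bool)) : Bool := w.all fun t => Nat.blt t.1 n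

/-- a good first image -/
noncomputable def ok0 (a : ℕ) : Bool :=
  inRange n (W0 D a) && Nat.beq (wfun Ts Us (W0 D a) D.p) a

/-- a good second image -/
noncomputable def ok1 (b : ℕ) : Bool :=
  inRange n (W1 D b) && Nat.beq (wfun Ts Us (W1 D b) D.q) b &&
    Nat.beq (wfun Ts Us (W1 D b) D.p) D.p

/-- a good third image -/
noncomputable def ok2 (c : ℕ) : Bool :=
  inRange n (W2 D c) && Nat.beq (wfun Ts Us (W2 D c) D.r) c &&
    Nat.beq (wfun Ts Us (W2 D c) D.p) D.p && Nat.beq (wfun Ts Us (W2 D c) D.q) D.q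

/-- the checks of a factorisation -/
noncomputable def chainOK (n1 n2 : ℕ) : Bool :=
  Nat.blt D.p TH.N && Nat.blt D.q TH.N && Nat.blt D.r TH.N &&
    allFrom (ok0 n Ts Us D) TH.N 0 &&
    Nat.beq (((List.range TH.N).filter (ok1 n Ts Us D)).length) n1 &&
    Nat.beq (((List.range TH.N).filter (ok2 n Ts Us D)).length) n2 &&
    Nat.beq (TH.N * (n1 * (n2 * D.L.length))) 4030387200 &&
    D.L.all (fun w => inRange n w && Nat.beq (wfun Ts Us w D.p) D.p &&
      Nat.beq (wfun Ts Us w D.q) D.q && Nat.beq (wfun Ts Us w D.r) D.r) &&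
    (List.range D.L.length).all fun i => (List.range D.L.length).all fun j => Nat.beq i j ||
      !sameOK (wfun Ts Us (D.L.getD i [])) (wfun Ts Us (D.L.getD j []))

/-- the word of a factorised element -/
noncomputable def fword (a b c i : ℕ) : List (ℕ × Bool) :=
  D.L.getD i [] ++ W2 D c ++ W1 D b ++ W0 D a

/-- the centraliser check at a first image -/
noncomputable def centOK (e : List (ℕ × Bool)) (cands : List (List (ℕ × Bool))) (tab : Tr)
    (a : ℕ) : Bool :=
  force (wfun Ts Us e a) fun ea =>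
  force (wfun Ts Us (winv (W0 D a)) ea) fun b =>
  force (wfun Ts Us e ea) fun eea =>
  force (wfun Ts Us (winv (W0 D a)) eea) fun d =>
  force (wfun Ts Us (winv (W1 D b)) d) fun c =>
  !ok1 n Ts Us D b || !ok2 n Ts Us D c || (List.range D.L.length).all fun i =>
    (Nat.blt (get tab (a * D.L.length + i)) cands.length &&
      sameOK (wfun Ts Us (fword D a b c i))
        (wfun Ts Us (cands.getD (get tab (a * D.L.length + i)) []))) ||
    !sameOK (fun j => wfun Ts Us e (wfun Ts Us (fword D a b c i) j))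
      (fun j => wfun Ts Us (fword D a b c i) (wfun Ts Us e j))

end

variable {ws : List (List ℕ)} {Ts Us : List Tbl} {D : Chain} {n1 n2 : ℕ}

theorem inRange_spec {w : List (ℕ × Bool)} {n : ℕ} (h : inRange n w = true) :
    ∀ t ∈ w, t.1 < n := by
  simpa [inRange, List.all_eq_true] using h

theorem inRange_winv {w : List (ℕ × Bool)} {n : ℕ} (h : ∀ t ∈ w, t.1 < n) :
    ∀ t ∈ winv w, t.1 < n := by
  intro t ht
  simp only [winv, List.mem_map, List.mem_reverse] at ht
  obtain ⟨u, hu, rfl⟩ := ht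
  exact h u hu

theorem el_app (a b : List (ℕ × Bool)) : el ws (a ++ b) = el ws b * el ws a := wprod_app _ b a

theorem el_winv (a : List (ℕ × Bool)) : el ws (winv a) = (el ws a)⁻¹ := wprod_winv _ a

theorem act_el (ht : tablesOK ws Ts Us = true) {w : List (ℕ × Bool)}
    (hw : ∀ t ∈ w, t.1 < ws.length) (j : Fin TH.N) : (act (el ws w) j : ℕ) = wfun Ts Us w j :=
  rep_word ht w hw j

theorem el_eq (ht : tablesOK ws Ts Us = true) {v w : List (ℕ × Bool)}
    (hv : ∀ t ∈ v, t.1 < ws.length) (hw : ∀ t ∈ w, t.1 < ws.length)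
    (h : sameOK (wfun Ts Us v) (wfun Ts Us w) = true) : el ws v = el ws w :=
  eq_of_rep (rep_word ht v hv) (rep_word ht w hw) (same_spec h)

theorem el_ne (ht : tablesOK ws Ts Us = true) {v w : List (ℕ × Bool)}
    (hv : ∀ t ∈ v, t.1 < ws.length) (hw : ∀ t ∈ w, t.1 < ws.length)
    (h : sameOK (wfun Ts Us v) (wfun Ts Us w) = false) : el ws v ≠ el ws w := by
  intro e
  refine Bool.false_ne_true (h.symm.trans ((allFrom_iff _ _ _).2 fun j _ hj => ?_))
  rw [Nat.beq_eq, ← act_el ht hv ⟨j, by omega⟩, ← act_el ht hw ⟨j, by omega⟩, e]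

/-- Every element factorises. -/
theorem factor (ht : tablesOK ws Ts Us = true) (h : chainOK ws.length Ts Us D n1 n2 = true)
    (g : G) : ∃ a b c i, a < TH.N ∧ ok0 ws.length Ts Us D a = true ∧ b < TH.N ∧
      ok1 ws.length Ts Us D b = true ∧ c < TH.N ∧ ok2 ws.length Ts Us D c = true ∧
      i < D.L.length ∧ g = el ws (fword D a b c i) := by
  simp only [chainOK, Bool.and_eq_true, Nat.blt_eq, Nat.beq_eq] at h
  obtain ⟨⟨⟨⟨⟨⟨⟨⟨hp, hq⟩, hr⟩, h0⟩, h1⟩, h2⟩, hprod⟩, hL⟩, hd⟩ := h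
  simp only [List.all_eq_true, List.mem_range, Bool.and_eq_true, Bool.or_eq_true, Nat.beq_eq,
    Bool.not_eq_true'] at hL hd
  haveI : Finite G := CosetCertHeSimple.upper.1
  let S1 := {b : Fin TH.N // ok1 ws.length Ts Us D b = true}
  let S2 := {c : Fin TH.N // ok2 ws.length Ts Us D c = true}
  let F : Fin TH.N × S1 × S2 × Fin D.L.length → G := fun x =>
    el ws (fword D x.1 x.2.1.1 x.2.2.1.1 x.2.2.2)
  have hok0 : ∀ a : Fin TH.N, ok0 ws.length Ts Us D a = true := fun a =>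
    (allFrom_iff _ _ _).1 h0 a (Nat.zero_le _) (by omega)
  have hcard : ∀ (P : ℕ → Bool), Nat.card {b : Fin TH.N // P b = true} =
      ((List.range TH.N).filter P).length := by
    intro P
    rw [Nat.card_eq_fintype_card, Fintype.card_subtype,
      ← Finset.card_image_of_injective _ Fin.val_injective,
      ← List.toFinset_card_of_nodup (List.nodup_range.filter _)]
    congr 1
    ext k
    simp only [Finset.mem_image, Finset.mem_filter, Finset.mem_univ, true_and, List.mem_toFinset,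
      List.mem_filter, List.mem_range]
    exact ⟨fun ⟨b, hb, e⟩ => e ▸ ⟨b.2, hb⟩, fun ⟨hk, hb⟩ => ⟨⟨k, hk⟩, hb, rfl⟩⟩
  have hinj : Function.Injective F := by
    rintro ⟨a, ⟨b, hb⟩, ⟨c, hc⟩, i⟩ ⟨a', ⟨b', hb'⟩, ⟨c', hc'⟩, i'⟩ e
    obtain ⟨ha1, ha2⟩ : inRange ws.length (W0 D a) = true ∧ _ := by
      simpa only [ok0, Bool.and_eq_true, Nat.beq_eq] using hok0 a
    obtain ⟨ha1', ha2'⟩ : inRange ws.length (W0 D a') = true ∧ _ := by
      simpa only [ok0, Bool.and_eq_true, Nat.beq_eq] using hok0 a'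
    simp only [ok1, Bool.and_eq_true, Nat.beq_eq] at hb hb'
    simp only [ok2, Bool.and_eq_true, Nat.beq_eq] at hc hc'
    have hLi : ∀ i : Fin D.L.length, D.L.getD i [] ∈ D.L := fun i => by
      rw [List.getD_eq_getElem (hn := i.2)]; exact List.getElem_mem _
    obtain ⟨⟨⟨hi1, hi2⟩, hi3⟩, hi4⟩ := hL _ (hLi i)
    obtain ⟨⟨⟨hj1, hj2⟩, hj3⟩, hj4⟩ := hL _ (hLi i')
    have e' : el ws (W0 D a) * (el ws (W1 D b) * (el ws (W2 D c) * el ws (D.L.getD i []))) =
        el ws (W0 D a') * (el ws (W1 D b') * (el ws (W2 D c') * el ws (D.L.getD i' []))) := by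
      simpa only [F, fword, el_app, mul_assoc] using e
    have ap : ∀ {w : List (ℕ × Bool)}, inRange ws.length w = true → ∀ j : Fin TH.N,
        (act (el ws w) j : ℕ) = wfun Ts Us w j := fun hw j => act_el ht (inRange_spec hw) j
    have fx : ∀ {w : List (ℕ × Bool)}, inRange ws.length w = true → ∀ {j k : ℕ} (hj : j < TH.N)
        (hk : k < TH.N), wfun Ts Us w j = k → act (el ws w) ⟨j, hj⟩ = ⟨k, hk⟩ :=
      fun hw _ _ hj _ e => Fin.ext ((ap hw ⟨_, hj⟩).trans e)
    have hP := congrArg (fun g => act g (⟨D.p, hp⟩ : Fin TH.N)) e'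
    simp only [map_mul, Equiv.Perm.mul_apply] at hP
    rw [fx hi1 hp hp hi2, fx hj1 hp hp hj2, fx hc.1.1.1 hp hp hc.1.2, fx hc'.1.1.1 hp hp hc'.1.2,
      fx hb.1.1 hp hp hb.2, fx hb'.1.1 hp hp hb'.2, fx ha1 hp a.2 ha2, fx ha1' hp a'.2 ha2'] at hP
    obtain rfl : a = a' := hP
    rw [mul_left_cancel_iff] at e'
    have hQ := congrArg (fun g => act g (⟨D.q, hq⟩ : Fin TH.N)) e'
    simp only [map_mul, Equiv.Perm.mul_apply] at hQ
    rw [fx hi1 hq hq hi3, fx hj1 hq hq hj3, fx hc.1.1.1 hq hq hc.2, fx hc'.1.1.1 hq hq hc'.2,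
      fx hb.1.1 hq b.2 hb.1.2, fx hb'.1.1 hq b'.2 hb'.1.2] at hQ
    obtain rfl : b = b' := hQ
    rw [mul_left_cancel_iff] at e'
    have hR := congrArg (fun g => act g (⟨D.r, hr⟩ : Fin TH.N)) e'
    simp only [map_mul, Equiv.Perm.mul_apply] at hR
    rw [fx hi1 hr hr hi4, fx hj1 hr hr hj4, fx hc.1.1.1 hr c.2 hc.1.1.2,
      fx hc'.1.1.1 hr c'.2 hc'.1.1.2] at hR
    obtain rfl : c = c' := hR
    rw [mul_left_cancel_iff] at e'
    obtain rfl : i = i' := Fin.ext (by
      rcases hd i i.2 i' i'.2 with h | h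
      · exact h
      · exact absurd e' (el_ne ht (inRange_spec hi1) (inRange_spec hj1) h))
    rfl
  have hbij : Function.Bijective F := (Nat.bijective_iff_injective_and_card F).2 ⟨hinj, by
    rw [Nat.card_prod, Nat.card_prod, Nat.card_prod, Nat.card_fin, Nat.card_fin, hcard, hcard, h1,
      h2, hprod, CosetCertHeSimple.card_and_faithful.1]⟩
  obtain ⟨⟨a, b, c, i⟩, hx⟩ := hbij.2 g
  exact ⟨a, b.1, c.1, i, a.2, hok0 a, b.1.2, b.2, c.1.2, c.2, i.2, hx.symm⟩

/-- An element commuting with `e` is one of the candidates. -/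
theorem cent (ht : tablesOK ws Ts Us = true) (h : chainOK ws.length Ts Us D n1 n2 = true)
    {e : List (ℕ × Bool)} (he : inRange ws.length e = true)
    (hep : wfun Ts Us e D.p = D.q) (heq : wfun Ts Us e D.q = D.r)
    {cands : List (List (ℕ × Bool))} (hcands : cands.all (inRange ws.length) = true) {tab : Tr}
    (hchk : allFrom (centOK ws.length Ts Us D e cands tab) TH.N 0 = true)
    (g : G) (hg : Commute g (el ws e)) : ∃ k < cands.length, g = el ws (cands.getD k []) := by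
  obtain ⟨a, b, c, i, ha, hka, hb, hkb, hc, hkc, hi, rfl⟩ := factor ht h g
  simp only [chainOK, Bool.and_eq_true, Nat.blt_eq] at h
  obtain ⟨⟨⟨⟨⟨⟨⟨⟨hp, hq⟩, hr⟩, -⟩, -⟩, -⟩, -⟩, hL⟩, -⟩ := h
  simp only [List.all_eq_true, Bool.and_eq_true, Nat.beq_eq] at hL
  obtain ⟨⟨⟨hi1, hi2⟩, hi3⟩, hi4⟩ := hL (D.L.getD i []) (by
    rw [List.getD_eq_getElem (hn := hi)]; exact List.getElem_mem _)
  have hA : inRange ws.length (W0 D a) = true ∧ wfun Ts Us (W0 D a) D.p = a := by
    simpa only [ok0, Bool.and_eq_true, Nat.beq_eq] using hka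
  have hB : (inRange ws.length (W1 D b) = true ∧ wfun Ts Us (W1 D b) D.q = b) ∧
      wfun Ts Us (W1 D b) D.p = D.p := by
    simpa only [ok1, Bool.and_eq_true, Nat.beq_eq] using hkb
  have hC : ((inRange ws.length (W2 D c) = true ∧ wfun Ts Us (W2 D c) D.r = c) ∧
      wfun Ts Us (W2 D c) D.p = D.p) ∧ wfun Ts Us (W2 D c) D.q = D.q := by
    simpa only [ok2, Bool.and_eq_true, Nat.beq_eq] using hkc
  have hfw : ∀ t ∈ fword D a b c i, t.1 < ws.length := by
    simp only [fword, List.forall_mem_append]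
    exact ⟨⟨⟨inRange_spec hi1, inRange_spec hC.1.1.1⟩, inRange_spec hB.1.1⟩, inRange_spec hA.1⟩
  set g := el ws (fword D a b c i) with hgdef
  have hge : g = el ws (W0 D a) * (el ws (W1 D b) * (el ws (W2 D c) * el ws (D.L.getD i []))) := by
    simp only [hgdef, fword, el_app, mul_assoc]
  have ap : ∀ {w : List (ℕ × Bool)}, inRange ws.length w = true → ∀ {j k : ℕ} (hj : j < TH.N),
      wfun Ts Us w j = k → ∃ hk : k < TH.N, act (el ws w) ⟨j, hj⟩ = ⟨k, hk⟩ := fun {w} hw {j k} hj e =>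
    ⟨e ▸ act_el ht (inRange_spec hw) ⟨j, hj⟩ ▸ (act (el ws w) ⟨j, hj⟩).2,
      Fin.ext ((act_el ht (inRange_spec hw) ⟨j, hj⟩).trans e)⟩
  have hP : act g ⟨D.p, hp⟩ = ⟨a, ha⟩ := by
    rw [hge]
    simp only [map_mul, Equiv.Perm.mul_apply]
    rw [(ap hi1 hp hi2).2, (ap hC.1.1.1 hp hC.1.2).2, (ap hB.1.1 hp hB.2).2, (ap hA.1 hp hA.2).2]
  have hQ : (act g ⟨D.q, hq⟩ : ℕ) = wfun Ts Us (W0 D a) b := by
    rw [hge]
    simp only [map_mul, Equiv.Perm.mul_apply]
    rw [(ap hi1 hq hi3).2, (ap hC.1.1.1 hq hC.2).2, (ap hB.1.1 hq hB.1.2).2]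
    exact act_el ht (inRange_spec hA.1) ⟨b, hb⟩
  have hR : (act g ⟨D.r, hr⟩ : ℕ) = wfun Ts Us (W0 D a) (wfun Ts Us (W1 D b) c) := by
    rw [hge]
    simp only [map_mul, Equiv.Perm.mul_apply]
    rw [(ap hi1 hr hi4).2, (ap hC.1.1.1 hr hC.1.1.2).2, act_el ht (inRange_spec hA.1),
      act_el ht (inRange_spec hB.1.1)]
  have hcomm : ∀ j : Fin TH.N, act g (act (el ws e) j) = act (el ws e) (act g j) := fun j => by
    rw [← Equiv.Perm.mul_apply, ← map_mul, hg.eq, map_mul, Equiv.Perm.mul_apply]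
  have hinv : ∀ {w : List (ℕ × Bool)}, inRange ws.length w = true → ∀ j : Fin TH.N,
      wfun Ts Us (winv w) (wfun Ts Us w j) = j := fun {w} hw j => by
    rw [← act_el ht (inRange_spec hw), ← act_el ht (inRange_winv (inRange_spec hw)),
      ← Equiv.Perm.mul_apply, ← map_mul, el_winv, inv_mul_cancel, map_one, Equiv.Perm.one_apply]
  have eb : wfun Ts Us (winv (W0 D a)) (wfun Ts Us e a) = b := by
    have h1 := congrArg Fin.val (hcomm ⟨D.p, hp⟩)
    rw [(ap he hp hep).2, hQ, hP, act_el ht (inRange_spec he)] at h1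
    rw [← h1, hinv hA.1 ⟨b, hb⟩]
  have ec : wfun Ts Us (winv (W1 D b)) (wfun Ts Us (winv (W0 D a))
      (wfun Ts Us e (wfun Ts Us e a))) = c := by
    have h1 := congrArg Fin.val (hcomm ⟨D.q, hq⟩)
    have h2 : act g ⟨D.q, hq⟩ = act (el ws e) ⟨a, ha⟩ := by
      rw [← (ap he hp hep).2, hcomm, hP]
    rw [(ap he hq heq).2, hR, h2, act_el ht (inRange_spec he), act_el ht (inRange_spec he)] at h1
    rw [← h1]
    have h3 := hinv hA.1 (act (el ws (W1 D b)) ⟨c, hc⟩)
    rw [act_el ht (inRange_spec hB.1.1)] at h3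
    rw [h3]
    exact hinv hB.1.1 ⟨c, hc⟩
  have hk := (allFrom_iff _ _ _).1 hchk a (Nat.zero_le _) (by omega)
  simp only [centOK, force_eq, eb, ec, hkb, hkc, Bool.not_true, Bool.false_or, List.all_eq_true,
    List.mem_range, Bool.or_eq_true, Bool.and_eq_true, Nat.blt_eq, Bool.not_eq_true'] at hk
  rcases (hk i hi).symm with h1 | ⟨hlt, hs⟩
  · refine absurd ((allFrom_iff _ _ _).2 fun j _ hj => ?_) (h1 ▸ Bool.false_ne_true :)
    have := congrArg Fin.val (hcomm ⟨j, by omega⟩)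
    rw [act_el ht hfw, act_el ht (inRange_spec he), act_el ht (inRange_spec he), act_el ht hfw] at this
    rw [Nat.beq_eq]
    exact this.symm
  · refine ⟨_, hlt, el_eq ht hfw (inRange_spec ?_) hs⟩
    rw [List.getD_eq_getElem (hn := hlt)]
    exact List.all_eq_true.1 hcands _ (List.getElem_mem _)

end Cfsg.Agent.HeSift76
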