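import Cfsg.Agent.Lib.Hessian85Std
import Cfsg.Agent.Lib.ZStarTheorem
import Cfsg.Agent.S0205

/-!
An overgroup in which the central involution is isolated normalises the group of order 27.
-/

set_option autoImplicit false

namespace Cfsg.Agent.Hessian85

open Matrix
open scoped commutatorElement
open Cfsg.Agent.HeisenbergThree (dg dg_val cyc inv2 sc sc_val sc_comm pow_inj3)

variable {F : Type*} [Field F]

local notation "M3" => Matrix (Fin 3) (Fin 3) F

theorem det_mon {u : F} (hu : u ^ 3 = 1) (k : Fin 3) : (mon u k).det = 1 := by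
  rw [det_fin_three]
  fin_cases k <;> simp [mon] <;> linear_combination hu

theorem mon_ne_zero {u : F} (k : Fin 3) : mon u k ≠ 0 := fun h => by
  have := congrFun (congrFun h 0) (0 - k)
  simp [mon] at this

/-- The subgroup of elements acting as scalars. -/
def scalars (M : Subgroup (GL (Fin 3) F)) : Subgroup M where
  carrier := {x | ∃ t : Fˣ, x.1 = sc t}
  one_mem' := ⟨1, Units.ext (by rw [sc_val, Units.val_one, one_smul]; simp)⟩
  mul_mem' := by
    rintro x y ⟨t, ht⟩ ⟨t', ht'⟩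
    exact ⟨t * t', Units.ext (by rw [Subgroup.coe_mul, ht, ht', val_sc_mul, sc_val, smul_smul, sc_val, Units.val_mul])⟩
  inv_mem' := by
    rintro x ⟨t, ht⟩
    refine ⟨t⁻¹, ?_⟩
    rw [Subgroup.coe_inv, ht]
    exact inv_eq_of_mul_eq_one_right (Units.ext (by rw [val_sc_mul, sc_val, smul_smul, Units.mul_inv, one_smul, Units.val_one]))

instance scalars_normal (M : Subgroup (GL (Fin 3) F)) : (scalars M).Normal := by
  refine ⟨?_⟩
  rintro x ⟨t, ht⟩ g
  exact ⟨t, by rw [Subgroup.coe_mul, Subgroup.coe_mul, ht, ← sc_comm, Subgroup.coe_inv, mul_inv_cancel_right]⟩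

theorem scalars_iff {M : Subgroup (GL (Fin 3) F)} {x : M} :
    x ∈ scalars M ↔ ∃ t : F, x.1.val = t • (1 : M3) := by
  constructor
  · rintro ⟨t, ht⟩; exact ⟨t, by rw [ht, sc_val]⟩
  · rintro ⟨t, ht⟩
    have ht0 : t ≠ 0 := by
      rintro rfl
      rw [zero_smul] at ht
      exact x.1.ne_zero ht
    exact ⟨Units.mk0 t ht0, Units.ext (by rw [sc_val, ht, Units.val_mk0])⟩

variable {w : Fˣ} (hw : Omega w)
include hw

/-- The standard group has exponent three. -/
theorem std_pow_three {g : GL (Fin 3) F} (hg : g ∈ std w) : g ^ 3 = 1 := by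
  obtain ⟨a, u, k, ha, hu, hv⟩ := (mem_std hw).mp hg
  apply Units.ext
  rw [Units.val_pow_eq_pow_val, hv, smul_pow, ha, one_smul, pow_succ, pow_two, mon_mul hu, smul_mul_assoc,
    mon_mul hu, smul_smul, show u * u * u = 1 by linear_combination hu, Units.val_one]
  have e : k + k + k = 0 := by revert k; intro k _; fin_cases k <;> rfl
  rw [e, mon_one, show u ^ (2 * (k : ℕ)) * u ^ (2 * ((k + k : Fin 3) : ℕ)) = 1 by
    fin_cases k <;> simp <;> first | linear_combination (u ^ 3 + 1) * hu | linear_combination hu, one_smul]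

theorem mem_std_of_mon {g : GL (Fin 3) F} (hd : g.val.det = 1) {t u : F} {k : Fin 3} (hu : u ^ 3 = 1)
    (hg : g.val = t • mon u k) : g ∈ std w := by
  refine (mem_std hw).mpr ⟨t, u, k, ?_, hu, hg⟩
  rw [hg, det_smul, det_mon hu, Fintype.card_fin, mul_one] at hd
  exact hd

theorem dd_not_scalar (t : F) : (dd w).val ≠ t • (1 : M3) := fun h => by
  have e0 := congrFun (congrFun h 0) 0
  have e1 := congrFun (congrFun h 1) 1
  rw [val_dd] at e0 e1
  simp at e0 e1
  exact hw.c1 (e1.trans e0.symm)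

set_option maxHeartbeats 2000000 in
/-- The isolated case. -/
theorem normalises_of_isolated [Finite F] {M : Subgroup (GL (Fin 3) F)} (H : Over hw M)
    (hiso : ∀ g ∈ M, inv2 * (g * inv2 * g⁻¹) = g * inv2 * g⁻¹ * inv2 → g * inv2 * g⁻¹ = inv2) :
    ∀ g ∈ M, ∀ x ∈ std w, g * x * g⁻¹ ∈ std w := by
  classical
  let z : M := ⟨inv2, H.z_mem⟩
  let d : M := ⟨dd w, H.d_mem⟩
  let c : M := ⟨cyc, H.c_mem⟩
  have hz : IsIsolatedInvolution z := by
    refine ⟨orderOf_eq_prime (by rw [pow_two]; exact Subtype.ext inv2_sq) (fun e => ?_), fun g hg => ?_⟩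
    · have := congrArg (fun m : M => m.1.val 0 0) e
      simp [z, val_inv2] at this
      exact hw.two (by linear_combination -this)
    · exact Subtype.ext (hiso g g.2 (congrArg Subtype.val hg.eq))
  obtain ⟨K, hKn, hKo, hKc⟩ := ZStarTheorem.exists_odd_normal hz
  have hdK : d ∈ K := by
    convert hKc d using 1
    apply Subtype.ext
    show dd w = inv2 * dd w * inv2⁻¹ * (dd w)⁻¹
    rw [inv2_inv, inv2_dd hw, mul_inv_cancel_right]
  have hsol : Group.IsSolvable K := S0205.result hKo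
  -- the derived series of `K`
  let T : ℕ → Subgroup M := fun n => (derivedSeries K n).map K.subtype
  have hTn : ∀ n, (T n).Normal := by
    intro n
    induction n with
    | zero => simpa [T, ← MonoidHom.range_eq_map] using hKn
    | succ n ih =>
      show ((derivedSeries K (n + 1)).map K.subtype).Normal
      rw [derivedSeries_succ, Subgroup.map_commutator]
      exact Subgroup.commutator_normal _ _
  obtain ⟨N, hN⟩ := (Group.isSolvable_def K).mp hsol
  have hTN : T N ≤ scalars M := by simp [T, hN]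
  have hex : ∃ n, T n ≤ scalars M := ⟨N, hTN⟩
  obtain ⟨n, hn, hmin⟩ : ∃ n, T n ≤ scalars M ∧ ∀ m < n, ¬ T m ≤ scalars M :=
    ⟨Nat.find hex, Nat.find_spec hex, fun m hm => Nat.find_min hex hm⟩
  have hn0 : n ≠ 0 := by
    rintro rfl
    have hd0 : d ∈ T 0 := ⟨⟨d, hdK⟩, by simp, rfl⟩
    obtain ⟨t, ht⟩ := scalars_iff.mp (hn hd0)
    exact dd_not_scalar hw t ht
  obtain ⟨m, rfl⟩ := Nat.exists_eq_succ_of_ne_zero hn0
  set B : Subgroup M := T m with hBdef
  have hBn : B.Normal := hTn m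
  have hBns : ¬ B ≤ scalars M := hmin m (Nat.lt_succ_self m)
  have hBc : ∀ x ∈ B, ∀ y ∈ B, ⁅x, y⁆ ∈ scalars M := by
    intro x hx y hy
    apply hn
    show ⁅x, y⁆ ∈ (derivedSeries K (m + 1)).map K.subtype
    rw [derivedSeries_succ, Subgroup.map_commutator]
    exact Subgroup.commutator_mem_commutator hx hy
  have quasi : ∀ x ∈ B, ∀ y ∈ B, ∃ s : F, s ^ 3 = 1 ∧ x.1.val * y.1.val = s • (y.1.val * x.1.val) := by
    intro x hx y hy
    obtain ⟨s, hs⟩ := scalars_iff.mp (hBc x hx y hy)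
    have e : x * y = ⁅x, y⁆ * (y * x) := by rw [commutatorElement_def]; group
    refine ⟨s, ?_, ?_⟩
    · have := H.det_one (⁅x, y⁆ : M).2
      rw [hs, det_smul, det_one, Fintype.card_fin, mul_one] at this
      exact this
    · rw [← Units.val_mul, ← Subgroup.coe_mul, e, Subgroup.coe_mul, Units.val_mul, hs, smul_mul_assoc,
        one_mul, Subgroup.coe_mul, Units.val_mul]
  have conjB : ∀ g ∈ M, ∀ b ∈ B, ∃ b' ∈ B, g * b.1 * g⁻¹ = b'.1 := fun g hg b hb =>
    ⟨⟨g, hg⟩ * b * ⟨g, hg⟩⁻¹, hBn.conj_mem b hb _, rfl⟩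
  -- the span of `B`
  let A : Submodule F M3 := Submodule.span F ((fun b : M => b.1.val) '' (B : Set M))
  have hAconj : ∀ g ∈ M, ∀ a ∈ A, g.val * a * (g⁻¹ : GL (Fin 3) F).val ∈ A := by
    intro g hg a ha
    induction ha using Submodule.span_induction with
    | mem x hx =>
      obtain ⟨b, hb, rfl⟩ := hx
      obtain ⟨b', hb', e⟩ := conjB g hg b hb
      exact Submodule.subset_span ⟨b', hb', by rw [← Units.val_mul, ← Units.val_mul, e]⟩
    | zero => simp
    | add x y _ _ ihx ihy => rw [mul_add, add_mul]; exact add_mem ihx ihy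
    | smul t x _ ih => rw [Matrix.mul_smul, Matrix.smul_mul]; exact A.smul_mem t ih
  obtain ⟨b₀, hb₀, hb₀s⟩ : ∃ b ∈ B, b ∉ scalars M := SetLike.not_le_iff_exists.mp hBns
  obtain ⟨u, k, hu, hne, hmA⟩ := proj hw A (fun a ha => hAconj _ H.d_mem a ha) (fun a ha => hAconj _ H.c_mem a ha)
    (a := b₀.1.val) (Submodule.subset_span ⟨b₀, hb₀, rfl⟩) (fun h => hb₀s (scalars_iff.mpr h))
  obtain ⟨hAd, hAc⟩ := orbit hw (fun x => x ∈ A) (fun t x hx => A.smul_mem t hx)
    (fun e he x hx => ⟨hAconj _ (H.j_mem e he) x hx, by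
      simpa using hAconj _ (inv_mem (H.j_mem e he)) x hx⟩) hu hne hmA
  have central : ∀ y : M3, (∀ b ∈ B, y * b.1.val = b.1.val * y) → ∃ t : F, y = t • 1 := by
    intro y hy
    have key : ∀ a ∈ A, y * a = a * y := by
      intro a ha
      induction ha using Submodule.span_induction with
      | mem x hx => obtain ⟨b, hb, rfl⟩ := hx; exact hy b hb
      | zero => simp
      | add x y _ _ ihx ihy => rw [mul_add, add_mul, ihx, ihy]
      | smul t x _ ih => rw [Matrix.mul_smul, Matrix.smul_mul, ih]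
    exact scalar_of_commute hw (key _ hAd) (key _ hAc)
  have cube : ∀ b ∈ B, b * b * b ∈ scalars M := by
    intro b hb
    refine scalars_iff.mpr (central _ fun b' hb' => ?_)
    obtain ⟨s, hs, e⟩ := quasi b hb b' hb'
    set x := b.1.val
    set y := b'.1.val
    show (x * x * x) * y = y * (x * x * x)
    rw [show x * x * x * y = x * (x * (x * y)) by simp only [mul_assoc], e, Matrix.mul_smul,
      ← mul_assoc x y, e, smul_mul_assoc, smul_smul, Matrix.mul_smul, show x * (y * x * x) = (x * y) * x * x by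
        simp only [mul_assoc], e, smul_mul_assoc, smul_mul_assoc, smul_smul, show s * s * s = 1 by
        linear_combination hs, one_smul]
    simp only [mul_assoc]
  -- a common fixed point of the standard group
  let q : M →* M ⧸ scalars M := QuotientGroup.mk' _
  let Bq : Subgroup (M ⧸ scalars M) := B.map q
  have hBqn : Bq.Normal := hBn.map q (QuotientGroup.mk'_surjective _)
  let Rq : Subgroup (M ⧸ scalars M) := ((std w).subgroupOf M).map q
  have hRq : IsPGroup 3 Rq := by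
    refine IsPGroup.map (fun x => ⟨1, ?_⟩) q
    refine Subtype.ext (Subtype.ext ?_)
    simpa using std_pow_three hw (show x.1.1 ∈ std w from x.2)
  have hBq : IsPGroup 3 Bq := by
    rintro ⟨_, b, hb, rfl⟩
    refine ⟨1, Subtype.ext ?_⟩
    show q b ^ 3 ^ 1 = 1
    rw [← map_pow]
    refine (QuotientGroup.eq_one_iff _).mpr ?_
    simpa [pow_succ, mul_assoc] using cube b hb
  have hnt : Nontrivial Bq := by
    refine ⟨⟨⟨q b₀, b₀, hb₀, rfl⟩, 1, fun e => hb₀s ?_⟩⟩
    exact (QuotientGroup.eq_one_iff _).mp (congrArg Subtype.val e)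
  haveI := Fact.mk Nat.prime_three
  obtain ⟨j, hj, hcard⟩ := hBq.nontrivial_iff_card.mp hnt
  let act : MulAction Rq Bq :=
    MulAction.compHom Bq ((MulAut.conjNormal (H := Bq)).comp Rq.subtype)
  obtain ⟨⟨_, b₁, hb₁, rfl⟩, hfix, hb1⟩ := hRq.exists_fixed_point_of_prime_dvd_card_of_fixed_point Bq
    (hcard ▸ dvd_pow_self 3 hj.ne') (a := (1 : Bq)) (fun r => by
      show MulAut.conjNormal (r : M ⧸ scalars M) (1 : Bq) = 1
      exact map_one _)
  have hb₁s : b₁ ∉ scalars M := fun h => hb1 (Subtype.ext ((QuotientGroup.eq_one_iff _).mpr h).symm)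
  have fixd : ∀ x : M, x.1 ∈ std w → ∃ s : F, x.1.val * b₁.1.val * (x.1⁻¹ : GL (Fin 3) F).val = s • b₁.1.val := by
    intro x hx
    have e := congrArg Subtype.val (hfix ⟨q x, x, hx, rfl⟩)
    change q x * q b₁ * (q x)⁻¹ = q b₁ at e
    rw [← map_inv, ← map_mul, ← map_mul, QuotientGroup.mk'_eq_mk'] at e
    obtain ⟨t, ht, e⟩ := e
    obtain ⟨s, hs⟩ := scalars_iff.mp ht
    have hs0 : s ≠ 0 := by rintro rfl; rw [zero_smul] at hs; exact t.1.ne_zero hs
    refine ⟨s⁻¹, ?_⟩
    have e' := congrArg (fun y : M => y.1.val) e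
    simp only [Subgroup.coe_mul, Subgroup.coe_inv, Units.val_mul, hs, Matrix.mul_smul, mul_one] at e'
    conv_rhs => rw [← e', smul_smul, inv_mul_cancel₀ hs0, one_smul]
  have monline : ∀ b : M, b ∉ scalars M →
      (∀ x : M, x.1 ∈ std w → ∃ s : F, x.1.val * b.1.val * (x.1⁻¹ : GL (Fin 3) F).val = s • b.1.val) →
      ∃ (t u : F) (k : Fin 3), u ^ 3 = 1 ∧ ¬(u = 1 ∧ k = 0) ∧ b.1.val = t • mon u k := by
    intro b hb hx
    have inv : ∀ x : M, x.1 ∈ std w → ∀ a ∈ (F ∙ b.1.val),
        x.1.val * a * (x.1⁻¹ : GL (Fin 3) F).val ∈ (F ∙ b.1.val) := by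
      intro x hx' a ha
      obtain ⟨r, rfl⟩ := Submodule.mem_span_singleton.mp ha
      obtain ⟨s, hs⟩ := hx x hx'
      rw [Matrix.mul_smul, Matrix.smul_mul, hs, smul_smul]
      exact Submodule.smul_mem _ _ (Submodule.mem_span_singleton_self _)
    obtain ⟨u, k, hu, hne, hm⟩ := proj hw (F ∙ b.1.val) (inv d (dd_mem w)) (inv c (cyc_mem w))
      (Submodule.mem_span_singleton_self _) (fun h => hb (scalars_iff.mpr h))
    obtain ⟨r, hr⟩ := Submodule.mem_span_singleton.mp hm
    have hr0 : r ≠ 0 := by rintro rfl; rw [zero_smul] at hr; exact mon_ne_zero k hr.symm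
    exact ⟨r⁻¹, u, k, hu, hne, by rw [← hr, smul_smul, inv_mul_cancel₀ hr0, one_smul]⟩
  obtain ⟨t, u', k', hu', hne', ht⟩ := monline b₁ hb₁s fixd
  have ht0 : t ≠ 0 := by rintro rfl; rw [zero_smul] at ht; exact b₁.1.ne_zero ht
  obtain ⟨⟨bd, hbd, td, htd⟩, ⟨bc, hbc, tc, htc⟩⟩ := orbit hw
    (fun x => ∃ b ∈ B, ∃ t : F, x = t • b.1.val)
    (fun r x ⟨b, hb, t, e⟩ => ⟨b, hb, r * t, by rw [e, smul_smul]⟩)
    (fun e he x ⟨b, hb, t, hx⟩ => by
      obtain ⟨b', hb', e1⟩ := conjB _ (H.j_mem e he) b hb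
      obtain ⟨b'', hb'', e2⟩ := conjB _ (inv_mem (H.j_mem e he)) b hb
      rw [inv_inv] at e2
      refine ⟨⟨b', hb', t, ?_⟩, ⟨b'', hb'', t, ?_⟩⟩
      · rw [hx, Matrix.mul_smul, Matrix.smul_mul, ← Units.val_mul, ← Units.val_mul, e1]
      · rw [hx, Matrix.mul_smul, Matrix.smul_mul, ← Units.val_mul, ← Units.val_mul, e2])
    hu' hne' ⟨b₁, hb₁, t⁻¹, by rw [ht, smul_smul, inv_mul_cancel₀ ht0, one_smul]⟩
  have inStd : ∀ b ∈ B, b.1 ∈ std w := by
    intro b hb
    by_cases hs : b ∈ scalars M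
    · obtain ⟨s, hs⟩ := scalars_iff.mp hs
      exact mem_std_of_mon hw (H.det_one b.2) (one_pow 3) (k := 0) (t := s) (by rw [hs, mon_one])
    have one : ∀ (x : GL (Fin 3) F) (bx : M), bx ∈ B → ∀ tx : F, x.val = tx • bx.1.val →
        ∃ s : F, x.val * b.1.val * (x⁻¹ : GL (Fin 3) F).val = s • b.1.val := by
      intro x bx hbx tx hx
      obtain ⟨s, -, hs⟩ := quasi bx hbx b hb
      refine ⟨s, ?_⟩
      rw [hx, smul_mul_assoc, hs, smul_smul, mul_comm tx, ← smul_smul, ← Matrix.mul_smul, ← hx,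
        smul_mul_assoc, mul_assoc, ← Units.val_mul, mul_inv_cancel, Units.val_one, mul_one]
    have fixb : ∀ x : M, x.1 ∈ std w → ∃ s : F, x.1.val * b.1.val * (x.1⁻¹ : GL (Fin 3) F).val = s • b.1.val := by
      let S : Subgroup (GL (Fin 3) F) :=
        { carrier := {x | ∃ s : Fˣ, x * b.1 * x⁻¹ = sc s * b.1}
          one_mem' := ⟨1, Units.ext (by rw [val_sc_mul]; simp)⟩
          mul_mem' := by
            rintro x y ⟨s, hs⟩ ⟨s', hs'⟩
            refine ⟨s' * s, ?_⟩
            rw [show x * y * b.1 * (x * y)⁻¹ = x * (y * b.1 * y⁻¹) * x⁻¹ by group, hs',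
              ← mul_assoc x, ← sc_comm, mul_assoc, mul_assoc, ← mul_assoc x, hs, ← mul_assoc]
            congr 1
            exact Units.ext (by rw [val_sc_mul, sc_val, smul_smul, sc_val, Units.val_mul])
          inv_mem' := by
            rintro x ⟨s, hs⟩
            refine ⟨s⁻¹, ?_⟩
            have e : b.1 = x⁻¹ * (sc s * b.1) * x := by rw [← hs]; group
            rw [inv_inv]
            conv_rhs => rw [e, ← mul_assoc x⁻¹, ← sc_comm]
            simp only [← mul_assoc]
            rw [show sc s⁻¹ * sc s = (1 : GL (Fin 3) F) from Units.ext (by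
              rw [val_sc_mul, sc_val, smul_smul, Units.inv_mul, one_smul, Units.val_one]), one_mul] }
      have toS : ∀ x : GL (Fin 3) F, (∃ s : F, x.val * b.1.val * (x⁻¹ : GL (Fin 3) F).val = s • b.1.val) →
          x ∈ S := by
        rintro x ⟨s, hs⟩
        have hs0 : s ≠ 0 := by
          rintro rfl
          rw [zero_smul, ← Units.val_mul, ← Units.val_mul] at hs
          exact (x * b.1 * x⁻¹).ne_zero hs
        exact ⟨Units.mk0 s hs0, Units.ext (by rw [Units.val_mul, Units.val_mul, hs, val_sc_mul, Units.val_mk0])⟩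
      intro x hx
      obtain ⟨s, hs⟩ := std_le (K := S) (toS _ (one _ bd hbd td htd)) (toS _ (one _ bc hbc tc htc)) hx
      exact ⟨s, by rw [← Units.val_mul, ← Units.val_mul, hs, val_sc_mul]⟩
    obtain ⟨r, v, l, hv, -, hr⟩ := monline b hs fixb
    exact mem_std_of_mon hw (H.det_one b.2) hv hr
  intro g hg x hx
  have gen : ∀ (x : GL (Fin 3) F) (bx : M), x ∈ M → bx ∈ B → ∀ tx : F, x.val = tx • bx.1.val →
      g * x * g⁻¹ ∈ std w := by
    intro x bx hxM hbx tx e
    obtain ⟨b', hb', e'⟩ := conjB g hg bx hbx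
    obtain ⟨a, v, l, -, hv, hval⟩ := (mem_std hw).mp (inStd b' hb')
    refine mem_std_of_mon hw (H.det_one (mul_mem (mul_mem hg hxM) (inv_mem hg))) hv (t := tx * a) (k := l) ?_
    rw [Units.val_mul, Units.val_mul, e, Matrix.mul_smul, Matrix.smul_mul, ← Units.val_mul, ← Units.val_mul, e',
      hval, smul_smul]
  have : std w ≤ (std w).comap (MulAut.conj g).toMonoidHom :=
    std_le (gen _ bd H.d_mem hbd td htd) (gen _ bc H.c_mem hbc tc htc)
  exact this hx

end Cfsg.Agent.Hessian85
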