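import Cfsg.Agent.Lib.Hessian85Basic

/-!
The standard group of order 27, its monomial eigenprojections and its normaliser orbit.
-/

set_option autoImplicit false

namespace Cfsg.Agent.Hessian85

open Matrix
open Cfsg.Agent.HeisenbergThree (dg dg_val cyc inv2 sc sc_val sc_comm pow_inj3)

variable {F : Type*} [Field F]

local notation "M3" => Matrix (Fin 3) (Fin 3) F

/-- A monomial matrix. -/
def mon (u : F) (k : Fin 3) : M3 := Matrix.of fun r c => if r = c + k then u ^ (r : ℕ) else 0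

theorem val_ddf (w : Fˣ) : (dd w : M3) = diagonal fun i : Fin 3 => (w : F) ^ (i : ℕ) := by
  rw [val_dd]; congr 1; ext i; fin_cases i <;> simp

theorem mon_inj {u u' : F} {k k' : Fin 3} {a : F} (hu : u ≠ 0) (ha : a ≠ 0)
    (h : mon u k = a • mon u' k') : k = k' ∧ a = 1 ∧ u = u' := by
  have hk : k = k' := by
    by_contra hne
    have e := congrFun (congrFun h k) 0
    simp [mon, hne, zero_add] at e
    exact hu e.1
  subst hk
  have e0 := congrFun (congrFun h 0) (0 - k)
  have e1 := congrFun (congrFun h 1) (1 - k)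
  simp [mon] at e0 e1
  subst e0
  exact ⟨rfl, rfl, by simpa using e1⟩

theorem mon_mul {u u' : F} (hu' : u' ^ 3 = 1) (k k' : Fin 3) :
    mon u k * mon u' k' = u' ^ (2 * (k : ℕ)) • mon (u * u') (k + k') := by
  ext r c
  have hk : ∀ j : Fin 3, r = j + k ↔ j = r - k := fun j => ⟨fun e => by rw [e, add_sub_cancel_right],
    fun e => by rw [e, sub_add_cancel]⟩
  rw [mul_apply, Finset.sum_eq_single (r - k) (fun j _ hj => by
      simp [mon, show ¬ r = j + k from fun e => hj ((hk j).mp e)])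
    (fun h => absurd (Finset.mem_univ _) h)]
  simp only [mon, of_apply, Matrix.smul_apply, smul_eq_mul, sub_add_cancel, if_true]
  have hiff : r - k = c + k' ↔ r = c + (k + k') := by rw [sub_eq_iff_eq_add, add_comm k k', add_assoc]
  by_cases h : r = c + (k + k')
  · rw [if_pos h, if_pos (hiff.mpr h), mul_pow, ← mul_assoc, mul_comm (u' ^ (2 * (k : ℕ))), mul_assoc,
      ← pow_add, pow_eq_pow_mod _ hu']
    rw [pow_eq_pow_mod (2 * (k : ℕ) + (r : ℕ)) hu']
    congr 2
    rw [Fin.sub_def]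
    simp only
    have := r.isLt
    have := k.isLt
    omega
  · rw [if_neg h, if_neg (hiff.not.mpr h), mul_zero, mul_zero]

theorem mon_one : mon (1 : F) 0 = 1 := by
  ext i j
  simp [mon, one_apply]

theorem val_cyc_mon : (cyc : GL (Fin 3) F).val = mon 1 1 := by
  rw [val_cyc]
  ext i j
  fin_cases i <;> fin_cases j <;> simp [mon]

theorem inv2_conj (x : M3) (r c : Fin 3) :
    ((inv2 : GL (Fin 3) F).val * x * (inv2 : GL (Fin 3) F).val) r c = x (-r) (-c) := by
  have e1 : ∀ y : M3, ∀ i j, ((inv2 : GL (Fin 3) F).val * y) i j = -y (-i) j := by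
    intro y i j
    rw [mul_apply, Fin.sum_univ_three, val_inv2]
    fin_cases i <;> simp <;> rfl
  have e2 : ∀ y : M3, ∀ i j, (y * (inv2 : GL (Fin 3) F).val) i j = -y i (-j) := by
    intro y i j
    rw [mul_apply, Fin.sum_univ_three, val_inv2]
    fin_cases j <;> simp <;> rfl
  rw [e2, e1, neg_neg]

theorem inv2_mon {u : F} (hu : u ^ 3 = 1) (k : Fin 3) :
    (inv2 : GL (Fin 3) F).val * mon u k * (inv2 : GL (Fin 3) F).val = mon (u ^ 2) (-k) := by
  ext r c
  rw [inv2_conj]
  simp only [mon, of_apply]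
  by_cases h : r = c + -k
  · rw [if_pos h, if_pos (by rw [h]; abel), ← pow_mul, pow_eq_pow_mod _ hu, pow_eq_pow_mod (2 * (r : ℕ)) hu]
    congr 1
    rw [Fin.neg_def]
    simp only
    have := r.isLt
    omega
  · rw [if_neg h, if_neg fun e => h ?_]
    have := congrArg (fun t => -t) e
    simpa [sub_eq_add_neg, add_comm] using this

theorem cyc_conj (x : M3) (r c : Fin 3) :
    ((cyc : GL (Fin 3) F).val * x * ((cyc : GL (Fin 3) F).val * (cyc : GL (Fin 3) F).val)) r c =
      x (r - 1) (c - 1) := by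
  have e1 : ∀ y : M3, ∀ i j, ((cyc : GL (Fin 3) F).val * y) i j = y (i - 1) j := by
    intro y i j
    rw [mul_apply, Fin.sum_univ_three, val_cyc]
    fin_cases i <;> simp <;> rfl
  have e2 : ∀ y : M3, ∀ i j, (y * (cyc : GL (Fin 3) F).val) i j = y i (j + 1) := by
    intro y i j
    rw [mul_apply, Fin.sum_univ_three, val_cyc]
    fin_cases j <;> simp <;> rfl
  rw [← mul_assoc, e2, e2, e1]
  congr 1
  fin_cases c <;> rfl

variable {w : Fˣ} (hw : Omega w)
include hw

theorem val_dd_mon : (dd w : M3) = mon (w : F) 0 := by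
  rw [val_ddf]
  ext i j
  simp only [mon, of_apply, diagonal_apply, add_zero]

theorem key_sum (r c k : Fin 3) :
    1 + (w : F) ^ (2 * (k : ℕ) + (r : ℕ) + 2 * (c : ℕ)) + (w : F) ^ ((k : ℕ) + 2 * (r : ℕ) + (c : ℕ)) =
      if r = c + k then 3 else 0 := by
  have hs := hw.sum
  rw [pow_eq_pow_mod (2 * (k : ℕ) + (r : ℕ) + 2 * (c : ℕ)) hw.c3,
    pow_eq_pow_mod ((k : ℕ) + 2 * (r : ℕ) + (c : ℕ)) hw.c3]
  fin_cases r <;> fin_cases c <;> fin_cases k <;> simp [Fin.ext_iff, Fin.val_add] <;>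
    first | linear_combination hs | norm_num

/-- A subspace invariant under conjugation by the generators contains a multiple of a monomial. -/
theorem proj (A : Submodule F M3) (hd : ∀ a ∈ A, (dd w).val * a * ((dd w)⁻¹ : GL (Fin 3) F).val ∈ A)
    (hc : ∀ a ∈ A, (cyc : GL (Fin 3) F).val * a * ((cyc : GL (Fin 3) F)⁻¹).val ∈ A)
    {a : M3} (ha : a ∈ A) (hns : ¬ ∃ t : F, a = t • 1) :
    ∃ (u : F) (k : Fin 3), u ^ 3 = 1 ∧ ¬(u = 1 ∧ k = 0) ∧ mon u k ∈ A := by
  have hdi : ((dd w)⁻¹ : GL (Fin 3) F) = dd w * dd w :=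
    inv_eq_of_mul_eq_one_right (by rw [← mul_assoc, dd_three hw])
  have hci : ((cyc : GL (Fin 3) F))⁻¹ = cyc * cyc :=
    inv_eq_of_mul_eq_one_right (by rw [← mul_assoc, cyc_three])
  have part : ∀ k : Fin 3, (Matrix.of fun r c => if r = c + k then a r c else 0 : M3) ∈ A := by
    intro k
    have e : (Matrix.of fun r c => if r = c + k then a r c else 0 : M3) = (3 : F)⁻¹ •
        (a + ((w : F) ^ (2 * (k : ℕ))) • ((dd w).val * a * ((dd w)⁻¹ : GL (Fin 3) F).val) +
          ((w : F) ^ (k : ℕ)) • ((dd w).val * ((dd w).val * a * ((dd w)⁻¹ : GL (Fin 3) F).val) *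
            ((dd w)⁻¹ : GL (Fin 3) F).val)) := by
      rw [eq_inv_smul_iff₀ hw.three, hdi, Units.val_mul, val_ddf]
      ext r c
      simp only [Matrix.smul_apply, Matrix.add_apply, Matrix.of_apply, diagonal_mul_diagonal, diagonal_mul,
        mul_diagonal, smul_eq_mul]
      have hk := key_sum hw r c k
      have h3 : (((w : F) ^ (c : ℕ)) ^ 3) = 1 := by rw [← pow_mul, mul_comm, pow_mul, hw.c3, one_pow]
      simp only [pow_add] at hk
      by_cases hrk : r = c + k
      · rw [if_pos hrk] at hk ⊢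
        linear_combination -(a r c) * hk - (a r c * (w : F) ^ (k : ℕ) * ((w : F) ^ (r : ℕ)) ^ 2 *
          (w : F) ^ (c : ℕ)) * h3
      · rw [if_neg hrk] at hk ⊢
        linear_combination -(a r c) * hk - (a r c * (w : F) ^ (k : ℕ) * ((w : F) ^ (r : ℕ)) ^ 2 *
          (w : F) ^ (c : ℕ)) * h3
    rw [e]
    exact A.smul_mem _ (add_mem (add_mem ha (A.smul_mem _ (hd a ha))) (A.smul_mem _ (hd _ (hd a ha))))
  have coef : ∀ (k : Fin 3) (u : F), u ^ 3 = 1 →
      (a 0 (0 - k) + u ^ 2 * a 1 (1 - k) + u * a 2 (2 - k)) • mon u k ∈ A := by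
    intro k u hu
    set x : M3 := Matrix.of fun r c => if r = c + k then a r c else 0 with hx
    have e : (a 0 (0 - k) + u ^ 2 * a 1 (1 - k) + u * a 2 (2 - k)) • mon u k =
        x + u • ((cyc : GL (Fin 3) F).val * x * ((cyc : GL (Fin 3) F)⁻¹).val) +
          u ^ 2 • ((cyc : GL (Fin 3) F).val * ((cyc : GL (Fin 3) F).val * x * ((cyc : GL (Fin 3) F)⁻¹).val) *
            ((cyc : GL (Fin 3) F)⁻¹).val) := by
      rw [hci, Units.val_mul]
      ext r c
      simp only [Matrix.smul_apply, Matrix.add_apply, cyc_conj, hx, of_apply, mon, smul_eq_mul]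
      have e1 : r - 1 = c - 1 + k ↔ r = c + k := by rw [sub_eq_iff_eq_add, add_right_comm, sub_add_cancel]
      have e2 : r - 1 - 1 = c - 1 - 1 + k ↔ r = c + k := by
        rw [sub_eq_iff_eq_add, add_right_comm, sub_add_cancel, e1]
      simp only [e1, e2]
      by_cases h : r = c + k
      · obtain rfl : c = r - k := by rw [h, add_sub_cancel_right]
        simp only [sub_add_cancel, if_true]
        fin_cases r
        · simp only [Fin.isValue, Fin.zero_eta]
          rw [show (0 : Fin 3) - 1 = 2 by decide, show (2 : Fin 3) - 1 = 1 by decide,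
            show (0 : Fin 3) - k - 1 = 2 - k by rw [sub_right_comm, show (0 : Fin 3) - 1 = 2 by decide],
            show (2 : Fin 3) - k - 1 = 1 - k by rw [sub_right_comm, show (2 : Fin 3) - 1 = 1 by decide]]
          simp
          ring
        · simp only [Fin.isValue, Fin.mk_one]
          rw [show (1 : Fin 3) - 1 = 0 by decide, show (0 : Fin 3) - 1 = 2 by decide,
            show (1 : Fin 3) - k - 1 = 0 - k by rw [sub_right_comm, show (1 : Fin 3) - 1 = 0 by decide],
            show (0 : Fin 3) - k - 1 = 2 - k by rw [sub_right_comm, show (0 : Fin 3) - 1 = 2 by decide]]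
          simp
          linear_combination (a 1 (1 - k)) * hu
        · simp only [Fin.isValue, Fin.reduceFinMk]
          rw [show (2 : Fin 3) - 1 = 1 by decide, show (1 : Fin 3) - 1 = 0 by decide,
            show (2 : Fin 3) - k - 1 = 1 - k by rw [sub_right_comm, show (2 : Fin 3) - 1 = 1 by decide],
            show (1 : Fin 3) - k - 1 = 0 - k by rw [sub_right_comm, show (1 : Fin 3) - 1 = 0 by decide]]
          simp
          linear_combination (u * a 1 (1 - k) + a 2 (2 - k)) * hu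
      · simp [h]
    rw [e]
    have hxA := part k
    exact add_mem (add_mem hxA (A.smul_mem _ (hc x hxA))) (A.smul_mem _ (hc _ (hc x hxA)))
  by_contra hno
  push Not at hno
  have zero : ∀ (k : Fin 3) (u : F), u ^ 3 = 1 → ¬(u = 1 ∧ k = 0) →
      a 0 (0 - k) + u ^ 2 * a 1 (1 - k) + u * a 2 (2 - k) = 0 := by
    intro k u hu hne
    by_contra h
    have := A.smul_mem (a 0 (0 - k) + u ^ 2 * a 1 (1 - k) + u * a 2 (2 - k))⁻¹ (coef k u hu)
    rw [smul_smul, inv_mul_cancel₀ h, one_smul] at this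
    exact hno u k hu (fun e1 e2 => hne ⟨e1, e2⟩) this
  have hw2 : ((w : F) ^ 2) ^ 3 = 1 := by rw [← pow_mul, mul_comm, pow_mul, hw.c3, one_pow]
  have hwn : ∀ k : Fin 3, ¬((w : F) = 1 ∧ k = 0) := fun k h => hw.c1 h.1
  have hw21 : ∀ k : Fin 3, ¬((w : F) ^ 2 = 1 ∧ k = 0) := fun k h => hw.c1 (by
    have := hw.c3; linear_combination this - (w : F) * h.1)
  have hs := hw.sum
  have h3 := hw.c3
  have off : ∀ k : Fin 3, k ≠ 0 → a 0 (0 - k) = 0 ∧ a 1 (1 - k) = 0 ∧ a 2 (2 - k) = 0 := by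
    intro k hk
    have z1 := zero k 1 (one_pow 3) (fun h => hk h.2)
    have z2 := zero k _ h3 (hwn k)
    have z3 := zero k _ hw2 (hw21 k)
    have d0 : a 0 (0 - k) = 0 := by
      refine (mul_eq_zero.mp (show (3 : F) * a 0 (0 - k) = 0 from ?_)).resolve_left hw.three
      linear_combination z1 + z2 + z3 - (a 1 (1 - k) + a 2 (2 - k)) * hs - ((w : F) * a 1 (1 - k)) * h3
    have d1 : a 1 (1 - k) = 0 := by
      refine (mul_eq_zero.mp (show (3 : F) * a 1 (1 - k) = 0 from ?_)).resolve_left hw.three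
      linear_combination z1 + (w : F) * z2 + (w : F) ^ 2 * z3 - a 0 (0 - k) * hs - a 2 (2 - k) * hs
        - (a 1 (1 - k) * ((w : F) ^ 3 + 2) + a 2 (2 - k) * (w : F)) * h3
    refine ⟨d0, d1, ?_⟩
    rw [d0, d1] at z1
    linear_combination z1
  apply hns
  refine ⟨a 0 0, ?_⟩
  have z2 := zero 0 _ h3 (hwn 0)
  have z3 := zero 0 _ hw2 (hw21 0)
  simp only [sub_zero] at z2 z3
  have e12 : a 1 1 = a 2 2 := by
    refine mul_left_cancel₀ hw.s_ne ?_
    linear_combination z3 - z2 - (w : F) * a 1 1 * h3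
  have e01 : a 0 0 = a 1 1 := by rw [← e12] at z2; linear_combination z2 - a 1 1 * hs
  have o1 := off 1 (by decide)
  have o2 := off 2 (by decide)
  simp at o1 o2
  ext i j
  fin_cases i <;> fin_cases j <;> simp [← e12, ← e01, o1, o2]
  all_goals first | exact o1.1 | exact o1.2.1 | exact o1.2.2 | exact o2.1 | exact o2.2.1 | exact o2.2.2

/-- The conjugate of `cyc * cyc` by `gam c`. -/
theorem val_gamma (c : Fˣ) (hc : c ^ 3 = 1) :
    (gam c * (cyc * cyc) * (gam c)⁻¹ : GL (Fin 3) F).val = ((c : F) ^ 2) • mon (c : F) 2 := by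
  have hc' : (c : F) ^ 3 = 1 := by rw [← Units.val_pow_eq_pow_val, hc, Units.val_one]
  have e : (gam c * cyc : GL (Fin 3) F).val = ((c : F) ^ 2 • mon ((c : F) ^ 2) 1) * (gam c).val := by
    rw [Units.val_mul, val_cyc_mon, val_gam, smul_mul_assoc]
    ext i j
    simp only [diagonal_mul, mul_diagonal, Matrix.smul_apply, mon, of_apply, smul_eq_mul]
    fin_cases i <;> fin_cases j <;> simp <;>
      first | linear_combination hc' | linear_combination -hc' | linear_combination -(c : F) * hc' |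
        linear_combination -((c : F) ^ 3 + 1) * hc' | linear_combination -((c : F) * ((c : F) ^ 3 + 1)) * hc' |
        linear_combination -((c : F) * ((c : F) ^ 6 + (c : F) ^ 3 + 1)) * hc'
  have e1 : (gam c * cyc * (gam c)⁻¹ : GL (Fin 3) F).val = (c : F) ^ 2 • mon ((c : F) ^ 2) 1 := by
    rw [Units.val_mul, e, mul_assoc, ← Units.val_mul, mul_inv_cancel, Units.val_one, mul_one]
  rw [show gam c * (cyc * cyc) * (gam c)⁻¹ = (gam c * cyc * (gam c)⁻¹) * (gam c * cyc * (gam c)⁻¹) by group,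
    Units.val_mul, e1, smul_mul_smul_comm, mon_mul (by rw [← pow_mul, mul_comm, pow_mul, hc', one_pow]),
    smul_smul]
  rw [show (c : F) ^ 2 * (c : F) ^ 2 * ((c : F) ^ 2) ^ (2 * ((1 : Fin 3) : ℕ)) = (c : F) ^ 2 by
      simp; linear_combination ((c : F) ^ 2 * ((c : F) ^ 3 + 1)) * hc',
    show (c : F) ^ 2 * (c : F) ^ 2 = (c : F) by linear_combination (c : F) * hc',
    show (1 : Fin 3) + 1 = 2 by decide]

theorem mon_cases {u : F} (hu : u ^ 3 = 1) : u = 1 ∨ u = (w : F) ∨ u = (w : F) ^ 2 := by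
  have h3 := hw.c3
  have hs := hw.sum
  have h : (u - 1) * ((u - (w : F)) * (u - (w : F) ^ 2)) = 0 := by
    linear_combination hu + (u - u ^ 2) * hs + (u - 1) * h3
  rcases mul_eq_zero.mp h with h | h
  · exact Or.inl (sub_eq_zero.mp h)
  · rcases mul_eq_zero.mp h with h | h
    · exact Or.inr (Or.inl (sub_eq_zero.mp h))
    · exact Or.inr (Or.inr (sub_eq_zero.mp h))

theorem mon_unit {u : F} (hu : u ^ 3 = 1) : ∃ c : Fˣ, c ^ 3 = 1 ∧ (c : F) = u :=
  ⟨Units.mk0 u (fun e => by simp [e] at hu), Units.ext (by simpa using hu), rfl⟩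

/-- The normaliser is transitive on monomial lines. -/
theorem orbit (P : M3 → Prop) (hsm : ∀ (t : F) x, P x → P (t • x))
    (hJ : ∀ c : Fˣ, c ^ 3 = 1 → ∀ x, P x →
      P ((jj hw c).val * x * ((jj hw c)⁻¹ : GL (Fin 3) F).val) ∧
      P (((jj hw c)⁻¹ : GL (Fin 3) F).val * x * (jj hw c).val))
    {u : F} {k : Fin 3} (hu : u ^ 3 = 1) (hne : ¬(u = 1 ∧ k = 0)) (hP : P (mon u k)) :
    P (dd w).val ∧ P (cyc : GL (Fin 3) F).val := by
  have hz : ∀ x, P x → P ((inv2 : GL (Fin 3) F).val * x * (inv2 : GL (Fin 3) F).val) := by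
    intro x hx
    have := (hJ 1 (one_pow 3) _ (hJ 1 (one_pow 3) x hx).1).1
    have e : ((jj hw 1)⁻¹ : GL (Fin 3) F).val * ((jj hw 1)⁻¹ : GL (Fin 3) F).val =
        (inv2 : GL (Fin 3) F).val := by
      rw [← Units.val_mul, ← _root_.mul_inv_rev, jj_sq, inv2_inv]
    have e' : (jj hw 1).val * (jj hw 1).val = (inv2 : GL (Fin 3) F).val := by rw [← Units.val_mul, jj_sq]
    rw [← e]
    nth_rewrite 1 [e, ← e']
    simpa only [mul_assoc] using this
  -- from a conjugate of `cyc * cyc` to `dd`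
  have back : ∀ c : Fˣ, c ^ 3 = 1 → P ((gam c * (cyc * cyc) * (gam c)⁻¹ : GL (Fin 3) F).val) → P (dd w).val := by
    intro c hc h
    have := (hJ c hc _ h).2
    have e : (jj hw c)⁻¹ * (gam c * (cyc * cyc) * (gam c)⁻¹) * jj hw c = dd w := by
      rw [jj, show (gam c * j0 hw * (gam c)⁻¹)⁻¹ * (gam c * (cyc * cyc) * (gam c)⁻¹) *
        (gam c * j0 hw * (gam c)⁻¹) = gam c * ((j0 hw)⁻¹ * (cyc * cyc * j0 hw)) * (gam c)⁻¹ by group,
        ← j0_dd hw, inv_mul_cancel_left, gam_dd, mul_inv_cancel_right]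
    rw [← Units.val_mul, ← Units.val_mul, e] at this
    exact this
  have two : ∀ {v : F}, v ^ 3 = 1 → P (mon v 2) → P (dd w).val := by
    intro v hv h
    obtain ⟨c, hc, rfl⟩ := mon_unit hw hv
    exact back c hc (by rw [val_gamma hw c hc]; exact hsm _ _ h)
  have hD : P (dd w).val := by
    rcases (show k = 0 ∨ k = 1 ∨ k = 2 by omega) with rfl | rfl | rfl
    · have hu1 : u ≠ 1 := fun e => hne ⟨e, rfl⟩
      rcases (mon_cases hw hu).resolve_left hu1 with rfl | rfl
      · rw [val_dd_mon hw]; exact hP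
      · have h2 := hz _ hP
        rw [inv2_mon hu, neg_zero,
          show ((w : F) ^ 2) ^ 2 = (w : F) by linear_combination (w : F) * hw.c3] at h2
        rw [val_dd_mon hw]; exact h2
    · refine two (v := u ^ 2) (by rw [← pow_mul, mul_comm, pow_mul, hu, one_pow]) ?_
      have h2 := hz _ hP
      rw [inv2_mon hu, show -(1 : Fin 3) = 2 by decide] at h2
      exact h2
    · exact two hu hP
  refine ⟨hD, ?_⟩
  have := (hJ 1 (one_pow 3) _ hD).2
  have e : (jj hw 1)⁻¹ * dd w * jj hw 1 = cyc := by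
    have hg : gam (1 : Fˣ) = (1 : GL (Fin 3) F) := by
      apply Units.ext
      rw [val_gam, Units.val_one, Units.val_one, ← diagonal_one]
      congr 1; ext i; fin_cases i <;> simp
    rw [jj, hg, one_mul, inv_one, mul_one, mul_assoc, ← j0_cyc hw, inv_mul_cancel_left]
  rwa [← Units.val_mul, ← Units.val_mul, e] at this

/-- A matrix commuting with both generators is scalar. -/
theorem scalar_of_commute {y : M3} (h1 : y * (dd w).val = (dd w).val * y)
    (h2 : y * (cyc : GL (Fin 3) F).val = (cyc : GL (Fin 3) F).val * y) : ∃ t : F, y = t • 1 := by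
  have off : ∀ i j, i ≠ j → y i j = 0 := fun i j hij => by
    have e := congrFun (congrFun h1 i) j
    rw [val_ddf, mul_diagonal, diagonal_mul] at e
    refine (mul_eq_zero.mp (show ((w : F) ^ (i : ℕ) - (w : F) ^ (j : ℕ)) * y i j = 0 by
      linear_combination -e)).resolve_left (sub_ne_zero.mpr fun e' => hij (pow_inj3 hw.c3 hw.c1 e'))
  have e1 := congrFun (congrFun h2 1) 0
  have e2 := congrFun (congrFun h2 2) 1
  simp [val_cyc, mul_apply, Fin.sum_univ_three] at e1 e2
  refine ⟨y 0 0, ?_⟩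
  ext i j
  by_cases hij : i = j
  · subst hij; fin_cases i <;> simp [← e1, ← e2]
  · simp [off i j hij, one_apply_ne hij]

/-- Normal forms. -/
theorem mem_std {g : GL (Fin 3) F} :
    g ∈ std w ↔ ∃ (a u : F) (k : Fin 3), a ^ 3 = 1 ∧ u ^ 3 = 1 ∧ g.val = a • mon u k := by
  have h3 := hw.c3
  let S : Submonoid (GL (Fin 3) F) :=
    { carrier := {g | ∃ (a u : F) (k : Fin 3), a ^ 3 = 1 ∧ u ^ 3 = 1 ∧ g.val = a • mon u k}
      one_mem' := ⟨1, 1, 0, one_pow 3, one_pow 3, by rw [one_smul, mon_one, Units.val_one]⟩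
      mul_mem' := by
        rintro g g' ⟨a, u, k, ha, hu, hg⟩ ⟨a', u', k', ha', hu', hg'⟩
        refine ⟨a * a' * u' ^ (2 * (k : ℕ)), u * u', k + k', ?_, ?_, ?_⟩
        · rw [mul_pow, mul_pow, ← pow_mul, mul_comm (2 * _) 3, pow_mul, ha, ha', hu', one_pow, one_mul, one_mul]
        · rw [mul_pow, hu, hu', one_mul]
        · rw [Units.val_mul, hg, hg', smul_mul_smul_comm, mon_mul hu', smul_smul] }
  have hSd : dd w ∈ S := ⟨1, w, 0, one_pow 3, h3, by
    rw [one_smul, val_dd_mon hw]⟩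
  have hSc : cyc ∈ S := ⟨1, 1, 1, one_pow 3, one_pow 3, by
    rw [one_smul, val_cyc_mon]⟩
  constructor
  · intro hg
    show g ∈ S
    induction hg using Subgroup.closure_induction'' with
    | mem x hx => rcases hx with rfl | rfl <;> assumption
    | inv_mem x hx =>
      rcases hx with rfl | rfl
      · rw [show (dd w)⁻¹ = dd w * dd w from inv_eq_of_mul_eq_one_right (by rw [← mul_assoc, dd_three hw])]
        exact S.mul_mem hSd hSd
      · rw [show (cyc : GL (Fin 3) F)⁻¹ = cyc * cyc from inv_eq_of_mul_eq_one_right (by rw [← mul_assoc, cyc_three])]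
        exact S.mul_mem hSc hSc
    | one => exact S.one_mem
    | mul x y _ _ hx hy => exact S.mul_mem hx hy
  · rintro ⟨a, u, k, ha, hu, hg⟩
    have hsc : ∀ t : F, t ^ 3 = 1 → ∃ r ∈ std w, r.val = t • (1 : M3) := by
      intro t ht
      rcases mon_cases hw ht with rfl | rfl | rfl
      · exact ⟨1, one_mem _, by rw [one_smul, Units.val_one]⟩
      · exact ⟨sc w, sc_mem hw, sc_val w⟩
      · exact ⟨sc w * sc w, mul_mem (sc_mem hw) (sc_mem hw), by
          rw [val_sc_mul, sc_val, smul_smul, pow_two]⟩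
    have hdu : ∃ r ∈ std w, r.val = mon u 0 := by
      rcases mon_cases hw hu with rfl | rfl | rfl
      · exact ⟨1, one_mem _, by rw [mon_one, Units.val_one]⟩
      · exact ⟨dd w, dd_mem w, val_dd_mon hw⟩
      · exact ⟨dd w * dd w, mul_mem (dd_mem w) (dd_mem w), by
          rw [Units.val_mul, val_dd_mon hw, mon_mul h3, add_zero, ← pow_two]; simp⟩
    obtain ⟨r1, hr1, e1⟩ := hsc a ha
    obtain ⟨r2, hr2, e2⟩ := hdu
    have : g = r1 * r2 * cyc ^ (k : ℕ) := by
      apply Units.ext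
      rw [Units.val_mul, Units.val_mul, e1, e2, hg, smul_mul_assoc, one_mul, smul_mul_assoc,
        Units.val_pow_eq_pow_val, val_cyc_mon]
      congr 1
      fin_cases k
      · simp
      · simp [mon_mul (one_pow 3 : (1 : F) ^ 3 = 1)]
      · simp [pow_two, mon_mul (one_pow 3 : (1 : F) ^ 3 = 1)]
    rw [this]
    exact mul_mem (mul_mem hr1 hr2) (pow_mem (cyc_mem w) _)

end Cfsg.Agent.Hessian85
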