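import Cfsg.Agent.Lib.Hessian85Final
import Cfsg.Agent.Lib.Hessian85Std

/-!
Fused central involution: reduction to a configuration permuted by the diagonal generator.
-/

set_option autoImplicit false

namespace Cfsg.Agent.Hessian85

open Matrix
open Cfsg.Agent.HeisenbergThree (dg dg_val cyc inv2 sc sc_val sc_comm)

variable {F : Type*} [Field F]

local notation "M3" => Matrix (Fin 3) (Fin 3) F
local notation "zc" => Subgroup.centralizer ({(inv2 : GL (Fin 3) F)} : Set (GL (Fin 3) F))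

theorem sc_one' : sc (1 : Fˣ) = (1 : GL (Fin 3) F) :=
  Units.ext (by rw [sc_val, Units.val_one, one_smul, Units.val_one])

theorem sc_mul' (a b : Fˣ) : sc a * sc b = sc (a * b) :=
  Units.ext (by rw [val_sc_mul, sc_val, sc_val, smul_smul, Units.val_mul])

theorem sc_inv' (a : Fˣ) : (sc a)⁻¹ = sc a⁻¹ :=
  inv_eq_of_mul_eq_one_right (by rw [sc_mul', mul_inv_cancel, sc_one'])

theorem sc_inj' {a b : Fˣ} (h : sc a = sc b) : a = b := by
  have := congrArg (fun g : GL (Fin 3) F => g.val 0 0) h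
  simp [sc_val] at this
  exact Units.ext this

theorem sc_of_val {g : GL (Fin 3) F} {t : F} (h : g.val = t • (1 : M3)) : ∃ a : Fˣ, g = sc a := by
  have h0 : t ≠ 0 := by rintro rfl; rw [zero_smul] at h; exact g.ne_zero h
  exact ⟨Units.mk0 t h0, Units.ext (by rw [sc_val, h, Units.val_mk0])⟩

/-- Normalising the standard group. -/
def Nrm (w : Fˣ) (g : GL (Fin 3) F) : Prop := ∀ x ∈ std w, g * x * g⁻¹ ∈ std w

namespace Nrm

variable {w : Fˣ} {g h : GL (Fin 3) F}

theorem mul (hg : Nrm w g) (hh : Nrm w h) : Nrm w (g * h) := fun x hx => by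
  have := hg _ (hh x hx)
  rwa [show g * (h * x * h⁻¹) * g⁻¹ = g * h * x * (g * h)⁻¹ by group] at this

theorem one : Nrm w (1 : GL (Fin 3) F) := fun x hx => by simpa using hx

theorem pow (hg : Nrm w g) : ∀ n : ℕ, Nrm w (g ^ n)
  | 0 => by rw [pow_zero]; exact one
  | n + 1 => by rw [pow_succ]; exact (pow hg n).mul hg

theorem of_mem (hg : g ∈ std w) : Nrm w g := fun _ hx => mul_mem (mul_mem hg hx) (inv_mem hg)

theorem mk' (h1 : g * dd w * g⁻¹ ∈ std w) (h2 : g * cyc * g⁻¹ ∈ std w) : Nrm w g :=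
  fun _ hx => (std_le (K := (std w).comap (MulAut.conj g).toMonoidHom) h1 h2) hx

end Nrm

variable {w : Fˣ} (hw : Omega w)
include hw

theorem nrm_gam {c : Fˣ} (hc : c ^ 3 = 1) : Nrm w (gam c) := by
  have hc2 : gam c * (cyc * cyc) * (gam c)⁻¹ ∈ std w := by
    have hc' : (c : F) ^ 3 = 1 := by rw [← Units.val_pow_eq_pow_val, hc, Units.val_one]
    exact (mem_std hw).mpr ⟨_, _, _, by rw [← pow_mul, mul_comm, pow_mul, hc', one_pow], hc', val_gamma hw c hc⟩
  refine Nrm.mk' (by rw [gam_dd, mul_inv_cancel_right]; exact dd_mem w) ?_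
  have := mul_mem hc2 hc2
  rwa [show gam c * (cyc * cyc) * (gam c)⁻¹ * (gam c * (cyc * cyc) * (gam c)⁻¹) =
    gam c * (cyc * cyc * cyc * cyc) * (gam c)⁻¹ by group, cyc_three, one_mul] at this

theorem nrm_j0 : Nrm w (j0 hw) := by
  refine Nrm.mk' ?_ ?_
  · rw [j0_dd hw, mul_inv_cancel_right]; exact mul_mem (cyc_mem w) (cyc_mem w)
  · rw [j0_cyc hw, mul_inv_cancel_right]; exact dd_mem w

theorem nrm_jj {c : Fˣ} (hc : c ^ 3 = 1) : Nrm w (jj hw c) ∧ Nrm w (jj hw c)⁻¹ := by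
  have e : (gam c)⁻¹ = gam (c ^ 2) := by
    refine inv_eq_of_mul_eq_one_right (Units.ext ?_)
    have hc' : (c : F) ^ 3 = 1 := by rw [← Units.val_pow_eq_pow_val, hc, Units.val_one]
    rw [Units.val_mul, val_gam, val_gam, diagonal_mul_diagonal, Units.val_one, ← diagonal_one]
    congr 1
    ext i
    fin_cases i <;> simp <;> linear_combination hc'
  have h1 : Nrm w (jj hw c) := by
    rw [jj, e]
    exact ((nrm_gam hw hc).mul (nrm_j0 hw)).mul (nrm_gam hw (by rw [← pow_mul, mul_comm, pow_mul, hc, one_pow]))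
  refine ⟨h1, ?_⟩
  have e4 : (jj hw c)⁻¹ = jj hw c ^ 3 := by
    refine inv_eq_of_mul_eq_one_right ?_
    rw [← pow_succ', show (3 + 1) = 2 * 2 from rfl, pow_mul, pow_two, pow_two, jj_sq, inv2_sq]
  rw [e4]; exact h1.pow 3

theorem cube_cases {c : Fˣ} (hc : c ^ 3 = 1) : c = 1 ∨ c = w ∨ c = w ^ 2 := by
  rcases mon_cases hw (u := (c : F)) (by rw [← Units.val_pow_eq_pow_val, hc, Units.val_one]) with h | h | h
  · exact Or.inl (Units.ext h)
  · exact Or.inr (Or.inl (Units.ext h))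
  · exact Or.inr (Or.inr (Units.ext (by rw [h, Units.val_pow_eq_pow_val])))

/-- `inv2` inverts the standard group modulo scalars. -/
theorem inv_std {y : GL (Fin 3) F} (hy : y ∈ std w) : ∃ a : Fˣ, inv2 * y * inv2 * y = sc a := by
  obtain ⟨a, u, k, -, hu, hv⟩ := (mem_std hw).mp hy
  refine sc_of_val (t := a * a * u ^ (2 * ((-k : Fin 3) : ℕ))) ?_
  rw [Units.val_mul, Units.val_mul, Units.val_mul, hv]
  simp only [Matrix.mul_smul, Matrix.smul_mul, smul_smul]
  rw [inv2_mon hu, mon_mul hu, show u ^ 2 * u = 1 by linear_combination hu, neg_add_cancel, mon_one, smul_smul]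

/-- A diagonal shape. -/
theorem diag_of_commute {x : GL (Fin 3) F} (hxz : x ∈ zc) (hxd : x * dd w = dd w * x) :
    x.val = !![x.val 0 0, 0, 0; 0, x.val 1 1, 0; 0, 0, x.val 1 1] := by
  obtain ⟨a1, a2, a3, a4⟩ := shape_gl hxz
  have hv : x.val * (dd w).val = (dd w).val * x.val := by rw [← Units.val_mul, hxd, Units.val_mul]
  have e1 := congrFun (congrFun hv 0) 1
  have e2 := congrFun (congrFun hv 1) 0
  have e3 := congrFun (congrFun hv 1) 2
  simp [val_dd', mul_apply, Fin.sum_univ_three] at e1 e2 e3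
  have h1 : (w : F) - 1 ≠ 0 := sub_ne_zero.mpr hw.c1
  have g01 : x.val 0 1 = 0 :=
    (mul_eq_zero.mp (show ((w : F) - 1) * x.val 0 1 = 0 by linear_combination e1)).resolve_left h1
  have g10 : x.val 1 0 = 0 :=
    (mul_eq_zero.mp (show ((w : F) - 1) * x.val 1 0 = 0 by linear_combination -e2)).resolve_left h1
  have g12 : x.val 1 2 = 0 :=
    (mul_eq_zero.mp (show ((w : F) - (w : F) ^ 2) * x.val 1 2 = 0 by linear_combination -e3)).resolve_left hw.s_ne
  ext i j
  fin_cases i <;> fin_cases j <;> simp [a1, a2, a3, a4, g01, g10, g12]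

theorem std_pow_three' {g : GL (Fin 3) F} (hg : g ∈ std w) : g * g * g = 1 := by
  obtain ⟨a, u, k, ha, hu, hv⟩ := (mem_std hw).mp hg
  apply Units.ext
  rw [Units.val_mul, Units.val_mul, hv, smul_mul_smul_comm, mon_mul hu, smul_smul, smul_mul_smul_comm, mon_mul hu,
    smul_smul, show u * u * u = 1 by linear_combination hu, Units.val_one]
  fin_cases k <;> simp [mon_one] <;> first
    | (rw [show a * a * a = 1 by linear_combination ha, one_smul])
    | (rw [show a * a * u ^ 4 * a * u ^ 2 = 1 by linear_combination (u ^ 6) * ha + (u ^ 3 + 1) * hu, one_smul])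
    | (rw [show a * a * u ^ 2 * a * u ^ 4 = 1 by linear_combination (u ^ 6) * ha + (u ^ 3 + 1) * hu, one_smul])

theorem dd_ne_sc (a : Fˣ) : dd w ≠ sc a := fun h => by
  have e0 := congrArg (fun g : GL (Fin 3) F => g.val 0 0) h
  have e1 := congrArg (fun g : GL (Fin 3) F => g.val 1 1) h
  simp [val_dd', sc_val] at e0 e1
  exact hw.c1 (e1.trans e0.symm)

variable {M : Subgroup (GL (Fin 3) F)}

/-- A determinant-one element commuting up to scalars with the generators lies in the standard group. -/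
theorem mem_std_of_quasi (H : Over hw M) {g : GL (Fin 3) F} (hg : g ∈ M)
    (h : ∀ y ∈ std w, ∃ s : F, y.val * g.val * (y⁻¹ : GL (Fin 3) F).val = s • g.val) : g ∈ std w := by
  have finish : ∀ (t u : F) (k : Fin 3), u ^ 3 = 1 → g.val = t • mon u k → g ∈ std w := by
    intro t u k hu hv
    refine (mem_std hw).mpr ⟨t, u, k, ?_, hu, hv⟩
    have hd := H.det_one hg
    rw [hv, det_smul, Fintype.card_fin] at hd
    have hm : (mon u k).det = 1 := by
      rw [det_fin_three]; fin_cases k <;> simp [mon] <;> linear_combination hu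
    rwa [hm, mul_one] at hd
  by_cases hs : ∃ t : F, g.val = t • 1
  · obtain ⟨t, ht⟩ := hs
    exact finish t 1 0 (one_pow 3) (by rw [ht, mon_one])
  · have inv : ∀ y ∈ std w, ∀ a ∈ (F ∙ g.val), y.val * a * (y⁻¹ : GL (Fin 3) F).val ∈ (F ∙ g.val) := by
      intro y hy a ha
      obtain ⟨r, rfl⟩ := Submodule.mem_span_singleton.mp ha
      obtain ⟨s, hs'⟩ := h y hy
      rw [Matrix.mul_smul, Matrix.smul_mul, hs', smul_smul]
      exact Submodule.smul_mem _ _ (Submodule.mem_span_singleton_self _)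
    obtain ⟨u, k, hu, -, hm⟩ := proj hw (F ∙ g.val) (inv _ (dd_mem w)) (inv _ (cyc_mem w))
      (Submodule.mem_span_singleton_self _) hs
    obtain ⟨r, hr⟩ := Submodule.mem_span_singleton.mp hm
    have hr0 : r ≠ 0 := by
      rintro rfl
      rw [zero_smul] at hr
      have := congrFun (congrFun hr.symm 0) (0 - k)
      simp [mon] at this
    exact finish r⁻¹ u k hu (by rw [← hr, smul_smul, inv_mul_cancel₀ hr0, one_smul])

omit hw
variable {hw : Omega w}

/-- The products of the standard elements. -/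
def Word (H : NoTv hw M) (g : GL (Fin 3) F) : Prop :=
  ∃ hg : g ∈ M ⊓ zc, Nrm w g ∧ lv g.val = 1 ∧
    ((toM M).rangeRestrict ⟨g, hg⟩ = 1 ∨ (toM M).rangeRestrict ⟨g, hg⟩ = va H 1 (one_pow 3) ∨
      (toM M).rangeRestrict ⟨g, hg⟩ = va H w hw.cube ∨
      (toM M).rangeRestrict ⟨g, hg⟩ = va H 1 (one_pow 3) * va H w hw.cube)

theorem four_mul {G : Type*} [Group G] {a b v x : G} (h : IsFour a b) (hv : v = a ∨ v = b ∨ v = a * b)
    (hx : x = 1 ∨ x = a ∨ x = b ∨ x = a * b) : v * x = 1 ∨ v * x = a ∨ v * x = b ∨ v * x = a * b := by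
  obtain ⟨ha, hb, hab, -, -, -⟩ := h
  have e1 : a * (a * b) = b := by rw [← mul_assoc, ha, one_mul]
  have e2 : b * (a * b) = a := by rw [hab, ← mul_assoc, hb, one_mul]
  have e3 : a * b * a = b := by rw [hab, mul_assoc, ha, mul_one]
  have e4 : a * b * b = a := by rw [mul_assoc, hb, mul_one]
  have e5 : b * a = a * b := hab.symm
  have e6 : a * b * (a * b) = 1 := by rw [mul_assoc, e2, ha]
  rcases hv with rfl | rfl | rfl <;> rcases hx with rfl | rfl | rfl | rfl <;>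
    simp [ha, hb, e1, e2, e3, e4, e5, e6]

theorem word_one (H : NoTv hw M) : Word H (1 : GL (Fin 3) F) :=
  ⟨one_mem _, Nrm.one, by simp [lv], Or.inl (map_one _)⟩

theorem word_step (H : NoTv hw M) {c : Fˣ} (hc : c ^ 3 = 1) {y : GL (Fin 3) F} (hy : Word H y) :
    Word H (jj hw c * y) ∧ Word H ((jj hw c)⁻¹ * y) := by
  obtain ⟨hg, hn, hl, hv⟩ := hy
  have hj : jj hw c ∈ M ⊓ zc := ⟨H.j_mem c hc, jj_zc hw c⟩
  obtain ⟨n1, n2⟩ := nrm_jj hw hc
  have hfour := (va_four H).1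
  have hvc : va H c hc = va H 1 (one_pow 3) ∨ va H c hc = va H w hw.cube ∨
      va H c hc = va H 1 (one_pow 3) * va H w hw.cube := by
    rcases cube_cases hw hc with rfl | rfl | rfl
    · exact Or.inl rfl
    · exact Or.inr (Or.inl rfl)
    · exact Or.inr (Or.inr (va_four H).2.symm)
  have hinv : (va H c hc)⁻¹ = va H c hc := by
    refine inv_eq_of_mul_eq_one_right ?_
    obtain ⟨h1, h2, h3, -, -, -⟩ := hfour
    rcases hvc with h | h | h <;> rw [h]
    · exact h1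
    · exact h2
    · rw [mul_assoc, ← mul_assoc (va H w hw.cube), ← h3, mul_assoc, h2, mul_one, h1]
  have hli : lv ((jj hw c)⁻¹).val = 1 := by
    have := lv_mul H (jj_zc hw c) (inv_mem (jj_zc hw c))
    rw [mul_inv_cancel, lv_jj hw hc, one_mul] at this
    rw [← this]; simp [lv]
  refine ⟨⟨mul_mem hj hg, n1.mul hn, by rw [lv_mul H hj.2 hg.2, lv_jj hw hc, hl, one_mul], ?_⟩,
    ⟨mul_mem (inv_mem hj) hg, n2.mul hn, by rw [lv_mul H (inv_mem hj.2) hg.2, hli, hl, one_mul], ?_⟩⟩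
  · rw [show (⟨jj hw c * y, mul_mem hj hg⟩ : ↥(M ⊓ zc)) = ⟨jj hw c, hj⟩ * ⟨y, hg⟩ from rfl, map_mul]
    exact four_mul hfour hvc hv
  · rw [show (⟨(jj hw c)⁻¹ * y, mul_mem (inv_mem hj) hg⟩ : ↥(M ⊓ zc)) = ⟨jj hw c, hj⟩⁻¹ * ⟨y, hg⟩ from rfl,
      map_mul, map_inv]
    rw [show (toM M).rangeRestrict ⟨jj hw c, hj⟩ = va H c hc from rfl, hinv]
    exact four_mul hfour hvc hv

theorem word_four (H : NoTv hw M) {y : GL (Fin 3) F} (hy : Word H y) : y ^ 4 = 1 := by
  obtain ⟨hg, -, hl, hv⟩ := hy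
  obtain ⟨h1, h2, h3, -, -, -⟩ := (va_four H).1
  have hsq : (toM M).rangeRestrict ⟨y, hg⟩ * (toM M).rangeRestrict ⟨y, hg⟩ = 1 := by
    rcases hv with h | h | h | h <;> rw [h]
    · rw [one_mul]
    · exact h1
    · exact h2
    · rw [mul_assoc, ← mul_assoc (va H w hw.cube), ← h3, mul_assoc, h2, mul_one, h1]
  rw [← map_mul] at hsq
  obtain ⟨k, hk⟩ := exists_of_toP (F := F) ((congrArg Subtype.val hsq).trans (map_one (toM M)).symm)
  have hk' : pl (y * y).val = (k : F) • pl (1 : GL (Fin 3) F).val := hk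
  rw [Units.val_one, pl_one] at hk'
  have hz2 : y * y ∈ zc := mul_mem hg.2 hg.2
  have hl2 : lv (y * y).val = 1 := by rw [lv_mul H hg.2 hg.2, hl, one_mul]
  have hd := H.det_one (mul_mem hg.1 hg.1)
  rw [det_eq hz2, hl2, one_mul, hk', det_smul, det_one, Fintype.card_fin, mul_one] at hd
  rw [show y ^ 4 = y * y * (y * y) by simp [pow_succ, mul_assoc]]
  refine ext_zc hw.two (mul_mem hz2 hz2) (one_mem _) ?_ ?_
  · rw [lv_mul H hz2 hz2, hl2, one_mul]; simp [lv]
  · rw [pl_mul H hz2 hz2, hk', smul_mul_smul_comm, one_mul, ← pow_two, hd, one_smul, Units.val_one, pl_one]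

/-- A monomial is carried to the diagonal generator by such a product. -/
theorem word_reduce (H : NoTv hw M) {u : F} {k : Fin 3} (hu : u ^ 3 = 1) (hne : ¬(u = 1 ∧ k = 0)) :
    ∃ y, Word H y ∧ ∃ t : F, (dd w).val = t • (y.val * mon u k * (y⁻¹ : GL (Fin 3) F).val) := by
  refine (orbit hw (fun x : M3 => ∃ y, Word H y ∧ ∃ t : F, x = t • (y.val * mon u k * (y⁻¹ : GL (Fin 3) F).val))
    ?_ ?_ hu hne ⟨1, word_one H, 1, by simp⟩).1
  · rintro r x ⟨y, hy, t, rfl⟩
    exact ⟨y, hy, r * t, by rw [smul_smul]⟩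
  · rintro c hc x ⟨y, hy, t, rfl⟩
    obtain ⟨s1, s2⟩ := word_step H hc hy
    constructor
    · refine ⟨_, s1, t, ?_⟩
      simp only [_root_.mul_inv_rev, Units.val_mul, Matrix.mul_smul, Matrix.smul_mul, mul_assoc]
    · refine ⟨_, s2, t, ?_⟩
      simp only [_root_.mul_inv_rev, inv_inv, Units.val_mul, Matrix.mul_smul, Matrix.smul_mul, mul_assoc]

/-- Conjugate a nonscalar element of the standard group to a multiple of the diagonal generator. -/
theorem reduce_elt (H : NoTv hw M) {r : GL (Fin 3) F} (hr : r ∈ std w) (hns : ∀ a : Fˣ, r ≠ sc a) :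
    ∃ y, Word H y ∧ ∃ τ : Fˣ, y * r * y⁻¹ = sc τ * dd w := by
  obtain ⟨a, u, k, ha, hu, hv⟩ := (mem_std hw).mp hr
  have hne : ¬(u = 1 ∧ k = 0) := by
    rintro ⟨rfl, rfl⟩
    rw [mon_one] at hv
    obtain ⟨a', ha'⟩ := sc_of_val hv
    exact hns a' ha'
  obtain ⟨y, hy, t, ht⟩ := word_reduce H hu hne
  refine ⟨y, hy, ?_⟩
  have ha0 : a ≠ 0 := fun h => by simp [h] at ha
  have ht0 : t ≠ 0 := by rintro rfl; rw [zero_smul] at ht; exact (dd w).ne_zero ht
  refine ⟨Units.mk0 (a * t⁻¹) (mul_ne_zero ha0 (inv_ne_zero ht0)), Units.ext ?_⟩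
  rw [val_sc_mul, Units.val_mul, Units.val_mul, hv, ht, Matrix.mul_smul, Matrix.smul_mul, smul_smul,
    Units.val_mk0, mul_assoc a, inv_mul_cancel₀ ht0, mul_one]

/-- No element of three-power order outside the standard group normalises it. -/
theorem norm_p (H : NoTv hw M) {h₀ e : GL (Fin 3) F} (hh₀ : h₀ ∈ M) (heh : e = h₀ * inv2 * h₀⁻¹) (he : Shp M e)
    {x : GL (Fin 3) F} (hx : x ∈ M) (hn : Nrm w x) {k : ℕ} (hk : x ^ (3 ^ k) = 1) : x ∈ std w := by
  have hni : Nrm w x⁻¹ := by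
    have : x⁻¹ = x ^ (3 ^ k - 1) := by
      refine inv_eq_of_mul_eq_one_right ?_
      rw [← pow_succ', Nat.sub_add_cancel (Nat.one_le_pow _ _ (by norm_num)), hk]
    rw [this]; exact hn.pow _
  set z' := x * inv2 * x⁻¹ with hz'
  have hz2 : z' * z' = 1 := by rw [hz', conj_mul, inv2_sq, mul_one, mul_inv_cancel]
  set q := z' * inv2 with hq
  have hqM : q ∈ M := mul_mem (mul_mem (mul_mem hx H.z_mem) (inv_mem hx)) H.z_mem
  have hq' : q⁻¹ = inv2 * z' := by rw [hq, _root_.mul_inv_rev, inv2_inv, inv_eq_of_mul_eq_one_right hz2]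
  have inv' : ∀ y ∈ std w, ∃ a : Fˣ, z' * y * z' * y = sc a := by
    intro y hy
    obtain ⟨a, ha⟩ := inv_std hw (hni y hy)
    refine ⟨a, ?_⟩
    calc z' * y * z' * y = x * (inv2 * (x⁻¹ * y * x⁻¹⁻¹) * inv2 * (x⁻¹ * y * x⁻¹⁻¹)) * x⁻¹ := by rw [hz']; group
      _ = sc a := by rw [ha, ← sc_comm, mul_inv_cancel_right]
  have hqs : q ∈ std w := by
    refine mem_std_of_quasi hw H.toOver hqM fun y hy => ?_
    obtain ⟨a, ha⟩ := inv_std hw hy
    obtain ⟨b, hb⟩ := inv' y⁻¹ (inv_mem hy)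
    have e1 : inv2 * y * inv2 = sc a * y⁻¹ := by rw [← ha, mul_inv_cancel_right]
    have e2 : z' * y⁻¹ * z' = sc b * y := by
      calc z' * y⁻¹ * z' = z' * y⁻¹ * z' * y⁻¹ * y := by group
        _ = sc b * y := by rw [hb]
    have key : q * y * q⁻¹ = sc (a * b) * y := by
      rw [hq', hq, show z' * inv2 * y * (inv2 * z') = z' * (inv2 * y * inv2) * z' by group, e1,
        show z' * (sc a * y⁻¹) * z' = z' * sc a * (y⁻¹ * z') by group, ← sc_comm, mul_assoc, ← mul_assoc z', e2,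
        ← mul_assoc, sc_mul']
    refine ⟨((a * b)⁻¹ : Fˣ), ?_⟩
    have e3 : y * q * y⁻¹ = sc (a * b)⁻¹ * q := by
      calc y * q * y⁻¹ = (q * y * q⁻¹ * y⁻¹)⁻¹ * q := by group
        _ = sc (a * b)⁻¹ * q := by rw [key, mul_inv_cancel_right, sc_inv']
    rw [← Units.val_mul, ← Units.val_mul, e3, val_sc_mul]
  have hq3 := std_pow_three' hw hqs
  set ρ := q * q with hρ
  have hρs : ρ ∈ std w := mul_mem hqs hqs
  have hqinv : inv2 * q⁻¹ = q * inv2 := by
    rw [hq', hq, ← mul_assoc, inv2_sq, one_mul, mul_assoc, inv2_sq, mul_one]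
  have hρz : ρ * inv2 * ρ⁻¹ = z' := by
    calc ρ * inv2 * ρ⁻¹ = q * q * (inv2 * q⁻¹) * q⁻¹ := by rw [hρ]; group
      _ = q * q * q * (inv2 * q⁻¹) := by conv_lhs => rw [hqinv]
                                         group
      _ = (q * q * q) * q * inv2 := by rw [hqinv]; group
      _ = z' := by rw [hq3, one_mul, hq, mul_assoc, inv2_sq, mul_one]
  set x' := ρ⁻¹ * x with hx'
  have hx'M : x' ∈ M := mul_mem (inv_mem (H.le hρs)) hx
  have hx'z : x' * inv2 = inv2 * x' := by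
    calc x' * inv2 = ρ⁻¹ * z' * x := by rw [hx', hz']; group
      _ = inv2 * x' := by rw [← hρz, hx']; group
  have hx'n : Nrm w x' := (Nrm.of_mem (inv_mem hρs)).mul hn
  obtain ⟨y, hy, τ, hτ⟩ := reduce_elt H (hx'n _ (dd_mem w)) fun a ha => by
    apply dd_ne_sc hw a
    calc dd w = x'⁻¹ * (x' * dd w * x'⁻¹) * x' := by group
      _ = sc a := by rw [ha, ← sc_comm, mul_assoc, ← mul_assoc, mul_assoc, inv_mul_cancel, mul_one]
  obtain ⟨hyg, hyn, -, -⟩ := id hy
  set g := y * x' with hg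
  have hgM : g ∈ M := mul_mem hyg.1 hx'M
  have hgz : g ∈ zc := mul_mem hyg.2 (mem_zc.mpr hx'z)
  have hgn : Nrm w g := hyn.mul hx'n
  have hgd : g * dd w * g⁻¹ = sc τ * dd w := by rw [← hτ, hg]; group
  have hzd : inv2 * dd w * inv2 = dd w * dd w := inv2_dd hw
  have hgd' : g * dd w = dd w * g := by
    have e1 : g * (inv2 * dd w * inv2) * g⁻¹ = inv2 * (g * dd w * g⁻¹) * inv2 := by
      have hz := mem_zc.mp hgz
      have hz' : inv2 * g⁻¹ = g⁻¹ * inv2 := by
        calc inv2 * g⁻¹ = g⁻¹ * (g * inv2) * g⁻¹ := by group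
          _ = g⁻¹ * inv2 := by rw [hz]; group
      calc g * (inv2 * dd w * inv2) * g⁻¹ = (g * inv2) * dd w * (inv2 * g⁻¹) := by group
        _ = _ := by rw [hz, hz']; group
    have e2 : sc τ * sc τ * (dd w * dd w) = sc τ * (dd w * dd w) := by
      calc sc τ * sc τ * (dd w * dd w) = sc τ * (sc τ * dd w) * dd w := by group
        _ = sc τ * (dd w * sc τ) * dd w := by rw [← sc_comm]
        _ = sc τ * dd w * (sc τ * dd w) := by group
        _ = g * (dd w * dd w) * g⁻¹ := by rw [← hgd]; group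
        _ = inv2 * (sc τ * dd w) * inv2 := by rw [← hzd, e1, hgd]
        _ = sc τ * (inv2 * dd w * inv2) := by rw [← mul_assoc inv2, ← sc_comm]; group
        _ = sc τ * (dd w * dd w) := by rw [hzd]
    have e3 : sc τ = sc 1 := by rw [sc_one']; exact mul_eq_right.mp (mul_right_cancel e2)
    have hτ1 := sc_inj' e3
    rw [hτ1, sc_one', one_mul] at hgd
    calc g * dd w = g * dd w * g⁻¹ * g := by group
      _ = dd w * g := by rw [hgd]
  have hdiag := diag_of_commute hw hgz hgd'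
  set m := g.val 0 0
  set n := g.val 1 1
  have hdet : m * n * n = 1 := by
    have := H.det_one hgM
    rw [hdiag] at this
    simpa [det_fin_three] using this
  have hm0 : m ≠ 0 := fun h => by rw [h, zero_mul, zero_mul] at hdet; exact zero_ne_one hdet
  have hn0 : n ≠ 0 := fun h => by rw [h, mul_zero] at hdet; exact zero_ne_one hdet
  have h3 : m ^ 3 = n ^ 3 := by
    obtain ⟨a, u, l, ha, hu, hv⟩ := (mem_std hw).mp (hgn _ (cyc_mem w))
    have e : g.val * (cyc : GL (Fin 3) F).val = (a • mon u l) * g.val := by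
      rw [← hv, ← Units.val_mul, ← Units.val_mul, inv_mul_cancel_right]
    rw [hdiag] at e
    have e10 := congrFun (congrFun e 1) 0
    have e02 := congrFun (congrFun e 0) 2
    fin_cases l <;> simp [mon, val_cyc, mul_apply, Fin.sum_univ_three] at e10 e02
    · exact absurd e10 hn0
    · rw [e02]; linear_combination n ^ 3 * ha
    · exact absurd e10 hn0
  by_cases hmn : n = m
  · -- then `g` is scalar, and `x` has order dividing four modulo the standard group
    have hgs : g ∈ std w := by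
      refine (mem_std hw).mpr ⟨m, 1, 0, by linear_combination hdet - (m * n + m * m) * hmn, one_pow 3, ?_⟩
      rw [mon_one, hdiag, hmn]
      ext i j; fin_cases i <;> fin_cases j <;> simp
    have hxe : x = ρ * (y ^ 3 * g) := by
      have hy4 := word_four H hy
      have : y⁻¹ = y ^ 3 := inv_eq_of_mul_eq_one_right (by rw [← pow_succ', hy4])
      rw [← this, hg, inv_mul_cancel_left, hx', mul_inv_cancel_left]
    have hP : ∀ i : ℕ, ∃ r ∈ std w, x ^ i = r * (y ^ 3) ^ i := by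
      intro i
      induction i with
      | zero => exact ⟨1, one_mem _, by simp⟩
      | succ i ih =>
        obtain ⟨r, hr, e⟩ := ih
        have hr1 : ρ * (y ^ 3 * g * (y ^ 3)⁻¹) ∈ std w := mul_mem hρs ((hyn.pow 3) g hgs)
        refine ⟨_, mul_mem hr (((hyn.pow 3).pow i) _ hr1), ?_⟩
        rw [pow_succ, e]
        nth_rewrite 1 [hxe]
        rw [pow_succ]
        group
    obtain ⟨r, hr, h4⟩ := hP 4
    rw [← pow_mul, show 3 * 4 = 4 * 3 from rfl, pow_mul, word_four H hy, one_pow, mul_one] at h4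
    have h4' : x ^ 4 ∈ std w := h4 ▸ hr
    obtain ⟨i, hi⟩ : ∃ i, 3 ^ k = 4 * i + 1 ∨ 3 ^ k = 4 * i + 3 := by
      refine ⟨3 ^ k / 4, ?_⟩
      have : Odd (3 ^ k) := (Nat.odd_iff.mpr rfl : Odd 3).pow
      rw [Nat.odd_iff] at this
      omega
    rcases hi with hi | hi
    · rw [hi, pow_succ', pow_mul] at hk
      rw [eq_inv_of_mul_eq_one_left hk]
      exact inv_mem (pow_mem h4' i)
    · rw [hi, pow_add, pow_mul] at hk
      have h3' : x ^ 3 ∈ std w := by
        rw [eq_inv_of_mul_eq_one_right hk]; exact inv_mem (pow_mem h4' i)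
      have := mul_mem (inv_mem h3') h4'
      rwa [show (x ^ 3)⁻¹ * x ^ 4 = x by group] at this
  · exfalso
    obtain ⟨-, -, -, hcom⟩ := (good_image H).2 _ _ _ (va_four H).1 (shp_outside H he)
    set γ : ↥(M ⊓ zc) := ⟨g, hgM, hgz⟩
    have hpl : pl g.val = !![m, 0; 0, n] := by
      rw [hdiag]; ext i j; fin_cases i <;> fin_cases j <;> simp [pl]
    have hlg : lv g.val = n := by rw [hdiag]; simp [lv]
    have hγ3 : (toM M).rangeRestrict γ * (toM M).rangeRestrict γ * (toM M).rangeRestrict γ = 1 := by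
      apply Subtype.ext
      show toM M γ * toM M γ * toM M γ = 1
      rw [← map_mul, ← map_mul, ← map_one (toM M)]
      refine toP_eq (Units.mk0 (n ^ 3) (pow_ne_zero 3 hn0)) ?_
      show pl (g * g * g).val = (n ^ 3) • pl (1 : GL (Fin 3) F).val
      rw [pl_mul H (mul_mem hgz hgz) hgz, pl_mul H hgz hgz, hpl, Units.val_one, pl_one]
      ext i j
      fin_cases i <;> fin_cases j <;> simp [mul_apply, Fin.sum_univ_two] <;>
        first | linear_combination h3 | ring1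
    have hin := hcom _ hγ3
    have hmap : (commutator ↥(M ⊓ zc)).map (toM M).rangeRestrict = commutator (toM M).range := by
      rw [commutator_def, commutator_def, Subgroup.map_commutator,
        Subgroup.map_top_of_surjective _ (toM M).rangeRestrict_surjective]
    rw [← hmap] at hin
    obtain ⟨⟨h', hh'M, hh'z⟩, hh'c, hh'e⟩ := hin
    have hlh : lv h'.val = 1 := by
      let lh : ↥(M ⊓ zc) →* Fˣ := (lvM.comp (Subgroup.inclusion inf_le_right)).toHomUnits
      exact congrArg Units.val (Abelianization.commutator_subset_ker lh hh'c)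
    obtain ⟨c, hc⟩ := exists_of_toP (F := F) (congrArg Subtype.val hh'e)
    have hc' : pl h'.val = (c : F) • pl g.val := hc
    have hdc : (c : F) ^ 2 * (m * n) = 1 := by
      have := H.det_one hh'M
      rw [det_eq hh'z, hlh, hc', det_smul, hpl, det_fin_two, Fintype.card_fin] at this
      simpa using this
    set δ := g * h'⁻¹ with hδ
    have hδz : δ ∈ zc := mul_mem hgz (inv_mem hh'z)
    have hback : δ * h' = g := by rw [hδ, inv_mul_cancel_right]
    have hlδ : lv δ.val = n := by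
      rw [← hlg]; conv_rhs => rw [← hback, lv_mul H hδz hh'z, hlh, mul_one]
    have hplδ : pl δ.val = (c : F)⁻¹ • (1 : Matrix (Fin 2) (Fin 2) F) := by
      have e1 : pl g.val = pl δ.val * ((c : F) • pl g.val) := by
        rw [← hc', ← pl_mul H hδz hh'z, hback]
      have e2 : pl g.val * pl (g⁻¹ : GL (Fin 3) F).val = 1 := by
        rw [← pl_mul H hgz (inv_mem hgz), mul_inv_cancel, Units.val_one, pl_one]
      have e3 := congrArg (fun X => X * pl (g⁻¹ : GL (Fin 3) F).val) e1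
      simp only [mul_assoc, smul_mul_assoc, e2, Matrix.mul_smul, mul_one] at e3
      rw [e3, smul_smul, inv_mul_cancel₀ c.ne_zero, one_smul]
    have hδe : δ * e = e * δ := by
      refine ext_zc hw.two (mul_mem hδz he.cent) (mul_mem he.cent hδz) ?_ ?_
      · rw [lv_mul H hδz he.cent, lv_mul H he.cent hδz, mul_comm]
      · rw [pl_mul H hδz he.cent, pl_mul H he.cent hδz, hplδ, smul_mul_assoc, Matrix.mul_smul, one_mul, mul_one]
    obtain ⟨t, ht3, ht⟩ := four H he hh₀ heh (mul_mem hgM (inv_mem hh'M)) hδz hδe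
    have ht0 : t ≠ 0 := fun h => by simp [h] at ht3
    have hci : (c : F)⁻¹ * (c : F) = 1 := inv_mul_cancel₀ c.ne_zero
    have hpsm : ∀ (s : F) (A : M3), pl (s • A) = s • pl A := fun s A => by
      ext i j; fin_cases i <;> fin_cases j <;> simp [pl] <;> ring
    have hlsm : ∀ (s : F) (A : M3), lv (s • A) = s * lv A := fun s A => by simp [lv]; ring
    have key : n * n * ((c : F) * c) = 1 → False := fun hh =>
      hmn (mul_left_cancel₀ (mul_ne_zero (mul_ne_zero c.ne_zero c.ne_zero) hn0)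
        (by linear_combination hh - hdc))
    rcases ht with h1 | h1 | h1 | h1
    · rw [h1, hpsm, pl_one] at hplδ
      rw [h1, hlsm] at hlδ
      have e1 := congrFun (congrFun hplδ 0) 0
      simp [lv] at e1 hlδ
      subst hlδ
      exact key (by rw [e1]; linear_combination ((c : F)⁻¹ * c + 1) * hci)
    · rw [h1, hpsm, pl_inv2] at hplδ
      rw [h1, hlsm, lv_inv2, mul_one] at hlδ
      have e1 := congrFun (congrFun hplδ 0) 0
      simp at e1
      subst hlδ
      exact key (by linear_combination ((c : F)⁻¹ * c + 1) * hci + (c : F) * c * (-n + (c : F)⁻¹) * e1)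
    · rw [h1, hpsm] at hplδ
      exact ht0 (shp_indep H he (x := -(c : F)⁻¹) (y := t) (by rw [hplδ, ← add_smul, neg_add_cancel, zero_smul])).2
    · rw [h1, hpsm, pl_mul H inv2_zc he.cent, pl_inv2, neg_one_mul, smul_neg] at hplδ
      exact ht0 (shp_indep H he (x := (c : F)⁻¹) (y := t) (by rw [← hplδ, neg_add_cancel])).2

set_option maxHeartbeats 2000000 in
/-- Every element of three-power order is conjugate into the standard group. -/
theorem conj_std (H : NoTv hw M) {h₀ e : GL (Fin 3) F} (hh₀ : h₀ ∈ M) (heh : e = h₀ * inv2 * h₀⁻¹)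
    (he : Shp M e) {T : GL (Fin 3) F} (hT : T ∈ M) {k : ℕ} (hk : T ^ (3 ^ k) = 1) :
    ∃ g ∈ M, g * T * g⁻¹ ∈ std w := by
  haveI := H.fin
  haveI := Fact.mk Nat.prime_three
  let S : Subgroup M := (std w).subgroupOf M
  have hS : IsPGroup 3 S := fun x => ⟨1, by
    apply Subtype.ext; apply Subtype.ext
    simpa [pow_succ] using std_pow_three' hw (show x.1.1 ∈ std w from x.2)⟩
  obtain ⟨P, hP⟩ := hS.exists_le_sylow
  have hPS : (P : Subgroup M) ≤ S := by
    by_contra hne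
    haveI : Group.IsNilpotent (P : Subgroup M) := P.isPGroup'.isNilpotent
    have hlt : S.subgroupOf (P : Subgroup M) < ⊤ := lt_top_iff_ne_top.mpr fun h =>
      hne (Subgroup.subgroupOf_eq_top.mp h)
    obtain ⟨x, hxn, hxS⟩ := SetLike.exists_of_lt (normalizerCondition_of_isNilpotent _ hlt)
    apply hxS
    have hn : Nrm w x.1.1 := by
      intro y hy
      have hy' : (⟨⟨y, H.le hy⟩, hP (show (⟨y, H.le hy⟩ : M) ∈ S from hy)⟩ : (P : Subgroup M)) ∈
          S.subgroupOf (P : Subgroup M) := hy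
      exact ((Subgroup.mem_normalizer_iff.mp hxn) _).mp hy'
    obtain ⟨n, hn3⟩ := P.isPGroup' x
    exact norm_p H hh₀ heh he x.1.2 hn
      (k := n) (by have := congrArg (fun y : (P : Subgroup M) => y.1.1) hn3; simpa using this)
  have hZ : IsPGroup 3 (Subgroup.zpowers (⟨T, hT⟩ : M)) := by
    rintro ⟨_, i, rfl⟩
    refine ⟨k, Subtype.ext ?_⟩
    show ((⟨T, hT⟩ : M) ^ i) ^ 3 ^ k = 1
    rw [← zpow_natCast, ← _root_.zpow_mul, mul_comm, _root_.zpow_mul, zpow_natCast,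
      show (⟨T, hT⟩ : M) ^ 3 ^ k = 1 from Subtype.ext hk, _root_.one_zpow]
  obtain ⟨Q, hQ⟩ := hZ.exists_le_sylow
  obtain ⟨g, hg⟩ := MulAction.exists_smul_eq M Q P
  refine ⟨g, g.2, ?_⟩
  have hmem : g * (⟨T, hT⟩ : M) * g⁻¹ ∈ ((g • Q : Sylow 3 M) : Subgroup M) := by
    rw [Sylow.coe_subgroup_smul]
    exact ⟨⟨T, hT⟩, hQ (Subgroup.mem_zpowers _), rfl⟩
  rw [hg] at hmem
  exact hPS hmem

set_option maxHeartbeats 2000000 in
/-- Without a transvection the central involution is not fused to a commuting one. -/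
theorem no_fusion (H : NoTv hw M) {g₀ : GL (Fin 3) F} (hg₀ : g₀ ∈ M)
    (hc : inv2 * (g₀ * inv2 * g₀⁻¹) = g₀ * inv2 * g₀⁻¹ * inv2) (hne : g₀ * inv2 * g₀⁻¹ ≠ inv2) : False := by
  haveI := H.fin
  have hinv1 : (inv2 : GL (Fin 3) F) ≠ 1 := fun h => by
    have := congrArg (fun g : GL (Fin 3) F => g.val 0 0) h
    simp [val_inv2] at this
    exact hw.two (by linear_combination -this)
  obtain ⟨e, heh⟩ : ∃ x, x = g₀ * inv2 * g₀⁻¹ := ⟨_, rfl⟩
  rw [← heh] at hc hne
  have he : Shp M e := shp_of H (heh ▸ mul_mem (mul_mem hg₀ H.z_mem) (inv_mem hg₀)) hc.symm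
    (by rw [heh, conj_mul, inv2_sq, mul_one, mul_inv_cancel]) (fun h => hinv1 (conj_eq_one_iff.mp (heh ▸ h))) hne
  have hee : e⁻¹ = e := inv_eq_of_mul_eq_one_right he.sq
  -- the two exchanging elements
  obtain ⟨c, hc3, hje⟩ := swap H he
  have hz' : Shp M (g₀⁻¹ * inv2 * g₀) := by
    refine shp_of H (mul_mem (mul_mem (inv_mem hg₀) H.z_mem) hg₀) ?_ ?_ ?_ ?_
    · calc g₀⁻¹ * inv2 * g₀ * inv2 = g₀⁻¹ * (inv2 * (g₀ * inv2 * g₀⁻¹)) * g₀ := by group
        _ = g₀⁻¹ * ((g₀ * inv2 * g₀⁻¹) * inv2) * g₀ := by rw [← heh, hc]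
        _ = inv2 * (g₀⁻¹ * inv2 * g₀) := by group
    · rw [show g₀⁻¹ * inv2 * g₀ * (g₀⁻¹ * inv2 * g₀) = g₀⁻¹ * (inv2 * inv2) * g₀ by group, inv2_sq]; group
    · intro q1
      apply hinv1
      calc (inv2 : GL (Fin 3) F) = g₀ * (g₀⁻¹ * inv2 * g₀) * g₀⁻¹ := by group
        _ = 1 := by rw [q1]; group
    · intro q1
      apply hne
      rw [heh]
      calc g₀ * inv2 * g₀⁻¹ = g₀ * (g₀⁻¹ * inv2 * g₀) * g₀⁻¹ := by rw [q1]
        _ = inv2 := by group
  obtain ⟨c', hc3', hje'⟩ := swap H hz'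
  obtain ⟨j, hj⟩ : ∃ x, x = jj hw c := ⟨_, rfl⟩
  obtain ⟨j', hj'⟩ : ∃ x, x = g₀ * jj hw c' * g₀⁻¹ := ⟨_, rfl⟩
  have jz : j * inv2 * j⁻¹ = inv2 := by rw [hj, jj_inv2, mul_inv_cancel_right]
  rw [← hj] at hje
  have j'e : j' * e * j'⁻¹ = e := by
    rw [hj', heh, show g₀ * jj hw c' * g₀⁻¹ * (g₀ * inv2 * g₀⁻¹) * (g₀ * jj hw c' * g₀⁻¹)⁻¹ =
      g₀ * (jj hw c' * inv2 * (jj hw c')⁻¹) * g₀⁻¹ by group, jj_inv2, mul_inv_cancel_right]
  have j'z : j' * inv2 * j'⁻¹ = e * inv2 := by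
    rw [hj', show g₀ * jj hw c' * g₀⁻¹ * inv2 * (g₀ * jj hw c' * g₀⁻¹)⁻¹ =
      g₀ * (jj hw c' * (g₀⁻¹ * inv2 * g₀) * (jj hw c')⁻¹) * g₀⁻¹ by group, hje', heh]
    group
  obtain ⟨T', hT'⟩ : ∃ x, x = j * j' := ⟨_, rfl⟩
  have conj2 : ∀ (a b x : GL (Fin 3) F), (a * b) * x * (a * b)⁻¹ = a * (b * x * b⁻¹) * a⁻¹ := fun a b x => by group
  have conjm : ∀ (a x y : GL (Fin 3) F), a * (x * y) * a⁻¹ = a * x * a⁻¹ * (a * y * a⁻¹) := fun a x y => by group
  have jze : j * (inv2 * e) * j⁻¹ = e := by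
    rw [conjm, jz, hje, ← mul_assoc, inv2_sq, one_mul]
  have T'z : T' * inv2 * T'⁻¹ = e := by rw [hT', conj2, j'z, ← hc, jze]
  have T'e : T' * e * T'⁻¹ = inv2 * e := by rw [hT', conj2, j'e, hje]
  have T'ze : T' * (inv2 * e) * T'⁻¹ = inv2 := by
    rw [conjm, T'z, T'e, ← mul_assoc, ← hc, mul_assoc, he.sq, mul_one]
  have hT'M : T' ∈ M := by
    rw [hT', hj, hj']; exact mul_mem (H.j_mem c hc3) (mul_mem (mul_mem hg₀ (H.j_mem c' hc3')) (inv_mem hg₀))
  have T3z : T' ^ 3 * inv2 * (T' ^ 3)⁻¹ = inv2 := by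
    rw [pow_three, conj2, conj2, T'z, T'e, T'ze]
  have T3e : T' ^ 3 * e * (T' ^ 3)⁻¹ = e := by
    rw [pow_three, conj2, conj2, T'e, T'ze, T'z]
  have comm_of : ∀ a x : GL (Fin 3) F, a * x * a⁻¹ = x → a * x = x * a := fun a x h => by
    calc a * x = a * x * a⁻¹ * a := by group
      _ = x * a := by rw [h]
  have hzz : ∀ Z : GL (Fin 3) F, Z = 1 ∨ Z = inv2 ∨ Z = e ∨ Z = inv2 * e → Z * Z = 1 := by
    rintro Z (rfl | rfl | rfl | rfl)
    · exact one_mul _
    · exact inv2_sq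
    · exact he.sq
    · rw [mul_assoc, ← mul_assoc e, ← hc, mul_assoc, he.sq, mul_one, inv2_sq]
  have fourGL : ∀ a : GL (Fin 3) F, a ∈ M → a * inv2 * a⁻¹ = inv2 → a * e * a⁻¹ = e →
      ∃ (t : Fˣ) (Z : GL (Fin 3) F), t ^ 3 = 1 ∧ (Z = 1 ∨ Z = inv2 ∨ Z = e ∨ Z = inv2 * e) ∧ a = sc t * Z := by
    intro a ha haz hae
    obtain ⟨t, ht3, ht⟩ := four H he hg₀ heh ha (mem_zc.mpr (comm_of _ _ haz)) (comm_of _ _ hae)
    have ht0 : t ≠ 0 := fun h => by simp [h] at ht3
    refine ⟨Units.mk0 t ht0, ?_⟩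
    rcases ht with h | h | h | h
    · exact ⟨1, Units.ext (by simpa using ht3), Or.inl rfl, Units.ext (by rw [val_sc_mul, h, Units.val_mk0, Units.val_one])⟩
    · exact ⟨inv2, Units.ext (by simpa using ht3), Or.inr (Or.inl rfl), Units.ext (by rw [val_sc_mul, h, Units.val_mk0])⟩
    · exact ⟨e, Units.ext (by simpa using ht3), Or.inr (Or.inr (Or.inl rfl)), Units.ext (by rw [val_sc_mul, h, Units.val_mk0])⟩
    · exact ⟨inv2 * e, Units.ext (by simpa using ht3), Or.inr (Or.inr (Or.inr rfl)), Units.ext (by rw [val_sc_mul, h, Units.val_mk0])⟩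
  obtain ⟨T, hT⟩ : ∃ x, x = T' ^ 4 := ⟨_, rfl⟩
  have hTM : T ∈ M := hT ▸ pow_mem hT'M 4
  have T4 : T' ^ 4 = T' * T' ^ 3 := pow_succ' T' 3
  have Tz : T * inv2 * T⁻¹ = e := by rw [hT, T4, conj2, T3z, T'z]
  have Te : T * e * T⁻¹ = inv2 * e := by rw [hT, T4, conj2, T3e, T'e]
  have Tze : T * (inv2 * e) * T⁻¹ = inv2 := by rw [conjm, Tz, Te, ← mul_assoc, ← hc, mul_assoc, he.sq, mul_one]
  have T9 : T ^ 9 = 1 := by
    obtain ⟨t, Z, ht, hZ, hTt⟩ := fourGL _ (pow_mem hT'M 3) T3z T3e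
    have hcm : Commute (sc t) Z := sc_comm t Z
    have h6 : (T' ^ 3) ^ 6 = 1 := by
      rw [hTt, hcm.mul_pow, show (6 : ℕ) = 2 * 3 from rfl, pow_mul Z, pow_two, hzz Z hZ, one_pow, mul_one,
        show 2 * 3 = 3 * 2 from rfl, pow_mul, pow_three, sc_mul', sc_mul', ← pow_three, ht, sc_one', one_pow]
    rw [hT, ← pow_mul, show 4 * 9 = 3 * 6 * 2 from rfl, pow_mul, pow_mul, h6, one_pow]
  -- the exchanging involution
  obtain ⟨u, hu⟩ : ∃ x, x = j * e := ⟨_, rfl⟩
  have hu2 : u * u = 1 := by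
    calc u * u = j * e * j⁻¹ * (j * j) * e := by rw [hu]; group
      _ = 1 := by rw [hje, hj, jj_sq, mul_assoc inv2 e inv2, ← hc, ← mul_assoc, inv2_sq, one_mul, he.sq]
  have eze : e * inv2 * e⁻¹ = inv2 := by rw [← hc, mul_inv_cancel_right]
  have uz : u * inv2 * u⁻¹ = inv2 := by rw [hu, conj2, eze, jz]
  have ue : u * e * u⁻¹ = inv2 * e := by rw [hu, conj2, mul_inv_cancel_right, hje]
  have uze : u * (inv2 * e) * u⁻¹ = e := by rw [conjm, uz, ue, ← mul_assoc, inv2_sq, one_mul]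
  have huM : u ∈ M := by rw [hu, hj]; exact mul_mem (H.j_mem c hc3) he.mem
  obtain ⟨q₁, hq₁⟩ : ∃ x, x = u * T := ⟨_, rfl⟩
  have q1z : q₁ * inv2 * q₁⁻¹ = inv2 * e := by rw [hq₁, conj2, Tz, ue]
  have q1e : q₁ * e * q₁⁻¹ = e := by rw [hq₁, conj2, Te, uze]
  have q1ze : q₁ * (inv2 * e) * q₁⁻¹ = inv2 := by rw [hq₁, conj2, Tze, uz]
  obtain ⟨t, Z, ht, hZ, hqq⟩ := fourGL (q₁ * q₁) (by rw [hq₁]; exact mul_mem (mul_mem huM hTM) (mul_mem huM hTM))
    (by rw [conj2, q1z, q1ze]) (by rw [conj2, q1e, q1e])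
  have hZfix : q₁ * Z * q₁⁻¹ = Z := by
    have : sc t * (q₁ * Z * q₁⁻¹) = sc t * Z := by
      calc sc t * (q₁ * Z * q₁⁻¹) = q₁ * (sc t * Z) * q₁⁻¹ := by
            rw [← mul_assoc, ← mul_assoc, sc_comm, mul_assoc q₁]
        _ = sc t * Z := by rw [← hqq]; group
    exact mul_left_cancel this
  have he1 : e ≠ 1 := fun h => hinv1 (conj_eq_one_iff.mp (heh ▸ h))
  obtain ⟨u', hu'M, hu'2, u'z, u'e, hu'T⟩ : ∃ u' ∈ M, u' * u' = 1 ∧ u' * inv2 * u'⁻¹ = inv2 ∧
      u' * e * u'⁻¹ = inv2 * e ∧ u' * T * u' * T = sc t := by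
    rcases hZ with h | h | h | h
    · exact ⟨u, huM, hu2, uz, ue, by rw [← mul_one (sc t), ← h, ← hqq, hq₁]; group⟩
    · exfalso
      rw [h, q1z] at hZfix
      exact he1 (mul_eq_left.mp hZfix)
    · refine ⟨inv2 * u, mul_mem H.z_mem huM, ?_, by rw [conj2, uz, mul_inv_cancel_right],
        by rw [conj2, ue, ← mul_assoc, inv2_sq, one_mul, inv2_inv, ← hc], ?_⟩
      · rw [mul_assoc, ← mul_assoc u, comm_of _ _ uz, mul_assoc inv2, hu2, mul_one, inv2_sq]
      · calc inv2 * u * T * (inv2 * u) * T = inv2 * (q₁ * inv2 * q₁⁻¹) * (q₁ * q₁) := by rw [hq₁]; group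
          _ = sc t := by
            rw [q1z, hqq, h, ← mul_assoc inv2, inv2_sq, one_mul, ← mul_assoc, ← sc_comm, mul_assoc, he.sq, mul_one]
    · exfalso
      rw [h, q1ze] at hZfix
      exact he1 (mul_eq_left.mp hZfix.symm)
  -- move `T` to a multiple of the diagonal generator
  obtain ⟨g, hgM, hgr⟩ := conj_std H hg₀ heh he hTM (k := 2) T9
  obtain ⟨y, hy, τ, hτ⟩ := reduce_elt H hgr fun a ha => by
    have hTs : T = sc a := by
      calc T = g⁻¹ * (g * T * g⁻¹) * g := by group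
        _ = sc a := by rw [ha, ← sc_comm, mul_assoc, inv_mul_cancel, mul_one]
    apply hne
    rw [hTs, sc_comm, mul_inv_cancel_right] at Tz
    exact Tz.symm
  obtain ⟨hyg, -, -, -⟩ := id hy
  obtain ⟨G, hG⟩ : ∃ x, x = y * g := ⟨_, rfl⟩
  have hGM : G ∈ M := hG ▸ mul_mem hyg.1 hgM
  have hGT : G * T * G⁻¹ = sc τ * dd w := by rw [← hτ, hG]; group
  obtain ⟨u'', hu''⟩ : ∃ x, x = G * u' * G⁻¹ := ⟨_, rfl⟩
  have hu''2 : u'' * u'' = 1 := by rw [hu'', conj_mul, hu'2, mul_one, mul_inv_cancel]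
  obtain ⟨s, hs⟩ : ∃ s : Fˣ, u'' * dd w * u'' * dd w = sc s := by
    have h1 : u'' * (sc τ * dd w) * u'' * (sc τ * dd w) = sc t := by
      calc u'' * (sc τ * dd w) * u'' * (sc τ * dd w) = G * (u' * T * u' * T) * G⁻¹ := by
            rw [← hGT, hu'']; group
        _ = sc t := by rw [hu'T, ← sc_comm, mul_inv_cancel_right]
    refine ⟨(τ * τ)⁻¹ * t, ?_⟩
    rw [← sc_mul', ← h1, ← sc_inv', ← sc_mul']
    have hcomm : ∀ x : GL (Fin 3) F, x * (sc τ * dd w) = sc τ * (x * dd w) := fun x => by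
      rw [← mul_assoc, ← sc_comm, mul_assoc]
    rw [hcomm u'', hcomm (sc τ * (u'' * dd w) * u''), eq_inv_mul_iff_mul_eq]
    group
  obtain ⟨q, hq⟩ : ∃ x, x = u'' * inv2 := ⟨_, rfl⟩
  have hqM : q ∈ M := by
    rw [hq, hu'']; exact mul_mem (mul_mem (mul_mem hGM hu'M) (inv_mem hGM)) H.z_mem
  have hqi : q⁻¹ = inv2 * u'' := by rw [hq, _root_.mul_inv_rev, inv2_inv, inv_eq_of_mul_eq_one_right hu''2]
  have hdinv : (dd w)⁻¹ = dd w * dd w := inv_eq_of_mul_eq_one_right (by rw [← mul_assoc, dd_three hw])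
  have hqd : q * dd w * q⁻¹ = sc s⁻¹ * dd w := by
    have e1 : u'' * dd w * u'' = sc s * (dd w)⁻¹ := by rw [← hs, mul_inv_cancel_right]
    calc q * dd w * q⁻¹ = u'' * (inv2 * dd w * inv2) * u'' := by rw [hqi, hq]; group
      _ = u'' * (dd w)⁻¹ * u''⁻¹ := by rw [inv2_dd hw, hdinv, inv_eq_of_mul_eq_one_right hu''2]
      _ = (u'' * dd w * u''⁻¹)⁻¹ := by group
      _ = sc s⁻¹ * dd w := by
        rw [inv_eq_of_mul_eq_one_right hu''2, e1, _root_.mul_inv_rev, inv_inv, sc_inv', ← sc_comm]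
  have hqpow : ∀ n : ℕ, ∃ σ : Fˣ, q ^ n * dd w * (q ^ n)⁻¹ = sc σ * dd w := by
    intro n
    induction n with
    | zero => exact ⟨1, by rw [sc_one']; group⟩
    | succ n ih =>
      obtain ⟨σ, hσ⟩ := ih
      refine ⟨s⁻¹ * σ, ?_⟩
      rw [pow_succ, conj2, hqd, conjm, hσ, ← sc_comm, mul_inv_cancel_right, ← mul_assoc, sc_mul']
  have hzq : ∀ n : ℕ, inv2 * (q ^ n)⁻¹ = q ^ n * inv2 := by
    intro n
    induction n with
    | zero => group
    | succ n ih =>
      have h1 : inv2 * q⁻¹ = q * inv2 := by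
        rw [hqi, hq, ← mul_assoc, inv2_sq, one_mul, mul_assoc, inv2_sq, mul_one]
      calc inv2 * (q ^ (n + 1))⁻¹ = inv2 * q⁻¹ * (q ^ n)⁻¹ := by group
        _ = q * (inv2 * (q ^ n)⁻¹) := by rw [h1, mul_assoc]
        _ = q ^ (n + 1) * inv2 := by rw [ih]; group
  rcases Nat.even_or_odd (orderOf q) with ⟨i, hi⟩ | ⟨i, hi⟩
  · -- an involution centralising the diagonal generator
    have hpos : 0 < orderOf q := orderOf_pos q
    obtain ⟨ι, hι⟩ : ∃ x, x = q ^ i := ⟨_, rfl⟩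
    have hιM : ι ∈ M := hι ▸ pow_mem hqM i
    have hι2 : ι * ι = 1 := by rw [hι, ← pow_add, ← hi, pow_orderOf_eq_one]
    have hι1 : ι ≠ 1 := hι ▸ pow_ne_one_of_lt_orderOf (by omega) (by omega)
    have hιi : ι⁻¹ = ι := inv_eq_of_mul_eq_one_right hι2
    have hιz : ι * inv2 = inv2 * ι := by rw [hι, ← hzq, ← hι, hιi]
    obtain ⟨σ, hσ⟩ := hqpow i
    rw [← hι] at hσ
    have hσ1 : σ = 1 := by
      have h2 : σ * σ = 1 := by
        have := conj2 ι ι (dd w)
        rw [hι2, hσ, conjm, hσ, ← sc_comm, mul_inv_cancel_right, ← mul_assoc, sc_mul'] at this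
        refine (sc_inj' (mul_right_cancel (b := dd w) ?_)).symm
        rw [sc_one', ← this]; group
      have h3 : σ ^ 3 = 1 := by
        have := congrArg (fun x => x ^ 3) hσ
        simp only [conj_pow, (show Commute (sc σ) (dd w) from sc_comm σ (dd w)).mul_pow] at this
        rw [show (dd w) ^ 3 = 1 by rw [pow_three, ← mul_assoc, dd_three hw], mul_one, mul_one, mul_inv_cancel,
          pow_three, sc_mul', sc_mul', ← pow_three, ← sc_one'] at this
        exact (sc_inj' this).symm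
      calc σ = σ ^ 3 * (σ * σ)⁻¹ := by rw [pow_succ, pow_two, mul_comm (σ * σ) σ, mul_inv_cancel_right]
        _ = 1 := by rw [h2, h3, inv_one, one_mul]
    rw [hσ1, sc_one', one_mul] at hσ
    have hdiag := diag_of_commute hw (mem_zc.mpr hιz) (comm_of _ _ hσ)
    set m := ι.val 0 0
    set n := ι.val 1 1
    have hsqv : ι.val * ι.val = 1 := by rw [← Units.val_mul, hι2, Units.val_one]
    rw [hdiag] at hsqv
    have hmm : m * m = 1 := by simpa using congrFun (congrFun hsqv 0) 0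
    have hnn : n * n = 1 := by simpa using congrFun (congrFun hsqv 1) 1
    have hdet : m * n * n = 1 := by
      have := H.det_one hιM
      rw [hdiag] at this
      simpa [det_fin_three] using this
    have hm1 : m = 1 := by linear_combination hdet - m * hnn
    have hn1 : n = -1 := by
      refine (mul_self_eq_one_iff.mp hnn).resolve_left fun h => hι1 (Units.ext ?_)
      rw [hdiag, hm1, h, Units.val_one]
      ext a b; fin_cases a <;> fin_cases b <;> simp
    have hιs : Shp M ι := shp_of H hιM hιz hι2 hι1 fun h => by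
      rw [h] at hdiag
      have := congrFun (congrFun hdiag 0) 0
      simp [val_inv2, hm1] at this
      exact hw.two (by linear_combination -this)
    obtain ⟨d, hd3, hd⟩ := swap H hιs
    have hd' : jj hw d * ι = inv2 * ι * jj hw d := by rw [← hd]; group
    have h00 := congrArg (fun x : GL (Fin 3) F => x.val 0 0) hd'
    simp only [Units.val_mul] at h00
    rw [hdiag, hm1, hn1, val_jj hw hd3] at h00
    simp [val_inv2, mul_apply, Fin.sum_univ_three] at h00
    exact hw.two (mul_left_cancel₀ (inv_ne_zero hw.s_ne) (by linear_combination h00))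
  · -- transport the configuration
    obtain ⟨S, hS⟩ : ∃ x, x = q ^ (i + 1) := ⟨_, rfl⟩
    have hSz : S * inv2 * S⁻¹ = u'' := by
      rw [hS, mul_assoc, hzq, ← mul_assoc, ← pow_add, show i + 1 + (i + 1) = orderOf q + 1 by omega, pow_succ,
        pow_orderOf_eq_one, one_mul, hq, mul_assoc, inv2_sq, mul_one]
    obtain ⟨σ, hσ⟩ := hqpow (i + 1)
    rw [← hS] at hσ
    obtain ⟨K, hK⟩ : ∃ x, x = S⁻¹ * G := ⟨_, rfl⟩
    have hKM : K ∈ M := by rw [hK, hS]; exact mul_mem (inv_mem (pow_mem hqM _)) hGM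
    have hKu : K * u' * K⁻¹ = inv2 := by
      rw [hK, conj2, ← hu'', ← hSz]; group
    obtain ⟨τ', hKT⟩ : ∃ τ' : Fˣ, K * T * K⁻¹ = sc τ' * dd w := by
      refine ⟨σ⁻¹ * τ, ?_⟩
      have : S⁻¹ * dd w * S = sc σ⁻¹ * dd w := by
        calc S⁻¹ * dd w * S = S⁻¹ * (sc σ⁻¹ * (sc σ * dd w)) * S := by
              rw [← mul_assoc (sc σ⁻¹), sc_mul', inv_mul_cancel, sc_one', one_mul]
          _ = S⁻¹ * (sc σ⁻¹ * (S * dd w * S⁻¹)) * S := by rw [hσ]
          _ = sc σ⁻¹ * (S⁻¹ * (S * dd w * S⁻¹) * S) := by simp only [← mul_assoc, ← sc_comm]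
          _ = sc σ⁻¹ * dd w := by group
      rw [hK, conj2, hGT, inv_inv, ← mul_assoc S⁻¹, ← sc_comm, mul_assoc, mul_assoc, ← mul_assoc S⁻¹, this,
        ← mul_assoc, sc_mul', mul_comm τ]
    have dconj : ∀ x : GL (Fin 3) F, dd w * (K * x * K⁻¹) * (dd w)⁻¹ = K * (T * x * T⁻¹) * K⁻¹ := fun x => by
      have h1 : dd w = sc τ'⁻¹ * (K * T * K⁻¹) := by rw [hKT, ← mul_assoc, sc_mul', inv_mul_cancel, sc_one', one_mul]
      rw [h1, conj2, show K * T * K⁻¹ * (K * x * K⁻¹) * (K * T * K⁻¹)⁻¹ = K * (T * x * T⁻¹) * K⁻¹ by group,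
        sc_comm, mul_inv_cancel_right]
    obtain ⟨es, hes⟩ : ∃ x, x = K * inv2 * K⁻¹ := ⟨_, rfl⟩
    have hes1 : Shp M es := by
      refine shp_of H (hes ▸ mul_mem (mul_mem hKM H.z_mem) (inv_mem hKM)) ?_ ?_ ?_ ?_
      · rw [← hKu, hes, conj_mul, conj_mul, comm_of _ _ u'z]
      · rw [hes, conj_mul, inv2_sq, mul_one, mul_inv_cancel]
      · exact fun h => hinv1 (conj_eq_one_iff.mp (hes ▸ h))
      · intro h
        rw [← hKu, hes] at h
        have hzu : inv2 = u' := mul_left_cancel (mul_right_cancel h)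
        rw [← hzu, inv2_inv] at u'e
        exact hinv1 (mul_eq_left.mp u'e)
    have he2 : K * e * K⁻¹ = dd w * es * (dd w)⁻¹ := by rw [hes, dconj, Tz]
    refine no_triple H hKM hes hes1 _ he2 ?_ ?_ ?_ ?_
    · rw [hes, conj_mul, conj_mul, hc]
    · intro h
      rw [hes] at h
      exact hne (mul_left_cancel (mul_right_cancel h))
    · rw [dconj, Te, hes, conj_mul]
    · have u'q : u' * e * u' = inv2 * e := by
        conv_lhs => arg 2; rw [← inv_eq_of_mul_eq_one_right hu'2]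
        exact u'e
      calc inv2 * (K * e * K⁻¹) * inv2 = K * (u' * e * u') * K⁻¹ := by rw [← hKu]; group
        _ = es * (K * e * K⁻¹) := by rw [u'q, hes, conj_mul]

end Cfsg.Agent.Hessian85
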