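import Cfsg.Agent.Lib.Hessian85Trans
import Cfsg.Agent.Lib.Hessian85Isolated
import Cfsg.Agent.Lib.Hessian85Triple

/-!
The normaliser of an extraspecial group of order 27 and exponent 3 is maximal in `SL(3,p)`, `p ≡ 1 (mod 3)`.
-/

set_option autoImplicit false

namespace Cfsg.Agent.Hessian85

open Matrix
open scoped commutatorElement
open Cfsg.Agent.HeisenbergThree (dg dg_val cyc inv2 sc sc_val sc_comm Form exists_form diag_of_span span_three)

variable {F : Type*} [Field F]

local notation "M3" => Matrix (Fin 3) (Fin 3) F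

/-- An overgroup of the standard normaliser normalises the standard group or has a transvection, over
every finite field. -/
theorem normalises_or_hasTv [Finite F] {w : Fˣ} {hw : Omega w} {M : Subgroup (GL (Fin 3) F)} (H : Over hw M) :
    (∀ g ∈ M, ∀ x ∈ std w, g * x * g⁻¹ ∈ std w) ∨ HasTv M := by
  by_cases ht : HasTv M
  · exact Or.inr ht
  · refine Or.inl (normalises_of_isolated hw H fun g hg hc => ?_)
    by_contra hne
    exact no_fusion ({ toOver := H, fin := inferInstance, prime := prime_char, notv := ht } : NoTv hw M) hg hc hne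

/-- An overgroup of the standard normaliser normalises the standard group or contains the special linear
group, over a prime field. -/
theorem dichotomy [Finite F] {w : Fˣ} {hw : Omega w} {M : Subgroup (GL (Fin 3) F)} (H : Over hw M)
    (hp : (Nat.card F).Prime) :
    (∀ g ∈ M, ∀ x ∈ std w, g * x * g⁻¹ ∈ std w) ∨ Cfsg.Geo.specialLinear (Fin 3) F ≤ M := by
  letI := Fintype.ofFinite F
  exact (normalises_or_hasTv H).imp_right (sl_le_of_hasTv H hp)

variable [Fintype F]

/-- The order of a group satisfying the data is 27. -/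
theorem card_eq_twentySeven {R : Subgroup (GL (Fin 3) F)} {ω : F} (hω : ω ^ 3 = 1) (hω1 : ω ≠ 1)
    (h3 : (3 : F) ≠ 0) (hexp : ∀ g ∈ R, g * g * g = 1)
    (hirr : Cfsg.Geo.ActsAbsolutelyIrreducibly (Cfsg.Geo.matrixSet R)) (hp : IsPGroup 3 R)
    (hz : Nat.card (Subgroup.center R) = 3) {m : ℕ} (hm : 1 ≤ m) (hR : Nat.card R = 3 ^ (1 + 2 * m)) :
    Nat.card R = 27 := by
  classical
  haveI := Fact.mk Nat.prime_three
  have hroot : ∀ x : F, x ^ 3 = 1 → ∃ i : Fin 3, x = ω ^ (i : ℕ) := by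
    intro x hx
    have hs := Cfsg.Agent.HeisenbergThree.omega_sum hω hω1
    have h : (x - 1) * ((x - ω) * (x - ω ^ 2)) = 0 := by linear_combination hx + (x - x ^ 2) * hs + (x - 1) * hω
    rcases mul_eq_zero.mp h with h | h
    · exact ⟨0, by simp [sub_eq_zero.mp h]⟩
    · rcases mul_eq_zero.mp h with h | h
      · exact ⟨1, by simp [sub_eq_zero.mp h]⟩
      · exact ⟨2, by simp [sub_eq_zero.mp h]⟩
  have hscalar : ∀ c : R, c ∈ Subgroup.center R → ∃ t : F, c.1.val = t • (1 : M3) := by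
    intro c hc
    refine hirr.2 _ ?_
    rintro _ ⟨g, hg, rfl⟩
    have := congrArg (fun x : R => x.1.val) (Subgroup.mem_center_iff.mp hc ⟨g, hg⟩)
    simpa using this.symm
  have hnb : ¬ (⊤ : Subgroup R) ≤ Subgroup.center R := by
    intro h
    have h' := Subgroup.card_le_of_le h
    rw [Subgroup.card_top, hz, hR] at h'
    have : 3 ^ 3 ≤ 3 ^ (1 + 2 * m) := Nat.pow_le_pow_right (by norm_num) (by omega)
    omega
  obtain ⟨a, ha, haZ⟩ : ∃ a : R, (∀ g : R, ⁅a, g⁆ ∈ Subgroup.center R) ∧ a ∉ Subgroup.center R := by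
    haveI : Nontrivial (R ⧸ Subgroup.center R) :=
      QuotientGroup.nontrivial_iff.mpr fun h => hnb (h ▸ le_refl _)
    haveI := (hp.to_quotient (Subgroup.center R)).center_nontrivial
    obtain ⟨⟨x, hx⟩, hx1⟩ := exists_ne (1 : Subgroup.center (R ⧸ Subgroup.center R))
    obtain ⟨a, rfl⟩ := QuotientGroup.mk_surjective x
    refine ⟨a, fun g => ?_, fun h => hx1 (Subtype.ext ((QuotientGroup.eq_one_iff a).mpr h))⟩
    rw [← QuotientGroup.eq_one_iff, commutatorElement_def]
    simp only [QuotientGroup.mk_mul, QuotientGroup.mk_inv]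
    rw [← Subgroup.mem_center_iff.mp hx (g : R ⧸ Subgroup.center R)]
    group
  let φ : R →* Subgroup.center R :=
    { toFun := fun g => ⟨⁅a, g⁆, ha g⟩
      map_one' := Subtype.ext (by simp)
      map_mul' := fun g h => Subtype.ext (by
        show ⁅a, g * h⁆ = ⁅a, g⁆ * ⁅a, h⁆
        have hc := Subgroup.mem_center_iff.mp (ha h) g
        calc ⁅a, g * h⁆ = a * g * a⁻¹ * ⁅a, h⁆ * g⁻¹ := by simp only [commutatorElement_def]; group
          _ = a * g * a⁻¹ * (g⁻¹ * ⁅a, h⁆) := by
            rw [mul_assoc (a * g * a⁻¹), ← Subgroup.mem_center_iff.mp (ha h) g⁻¹]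
          _ = ⁅a, g⁆ * ⁅a, h⁆ := by simp only [commutatorElement_def]; group) }
  obtain ⟨g, hg⟩ : ∃ g : R, ⁅a, g⁆ ≠ 1 := by
    by_contra h
    push Not at h
    exact haZ (Subgroup.mem_center_iff.mpr fun g => (commutatorElement_eq_one_iff_mul_comm.mp (h g)).symm)
  obtain ⟨ζ, hζ⟩ := hscalar _ (ha g)
  have hζ3 : ζ ^ 3 = 1 := by
    have := congrArg (fun x : GL (Fin 3) F => x.val 0 0) (hexp _ (⁅a, g⁆).2)
    simp only [Units.val_mul, hζ, Units.val_one, smul_mul_smul_comm, one_mul, Matrix.smul_apply,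
      one_apply_eq, smul_eq_mul, mul_one] at this
    linear_combination this
  have hζ1 : ζ ≠ 1 := fun h => hg (Subtype.ext (Units.ext (by rw [hζ, h, one_smul]; rfl)))
  obtain ⟨P, l, hl, hP⟩ := diag_of_span a.1.val {t | ∃ k : ℕ, t = ω ^ k} (span_three hω hω1 h3 (by
    rw [← Units.val_mul, ← Units.val_mul, hexp _ a.2, Units.val_one]))
  have hPi : (P⁻¹ : GL (Fin 3) F).val * a.1.val = diagonal l * (P⁻¹ : GL (Fin 3) F).val := by
    calc (P⁻¹ : GL (Fin 3) F).val * a.1.val
        = (P⁻¹ : GL (Fin 3) F).val * (a.1.val * P.val) * (P⁻¹ : GL (Fin 3) F).val := by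
          rw [mul_assoc, mul_assoc, Units.mul_inv, mul_one]
      _ = _ := by rw [hP, ← mul_assoc, Units.inv_mul, one_mul]
  have tr : ∀ (x : R) (s : F), a.1.val * x.1.val = s • (x.1.val * a.1.val) →
      diagonal l * ((P⁻¹ : GL (Fin 3) F).val * x.1.val * P.val) =
        s • (((P⁻¹ : GL (Fin 3) F).val * x.1.val * P.val) * diagonal l) := by
    intro x s h
    calc diagonal l * ((P⁻¹ : GL (Fin 3) F).val * x.1.val * P.val)
        = (P⁻¹ : GL (Fin 3) F).val * (a.1.val * x.1.val) * P.val := by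
          rw [← mul_assoc, ← mul_assoc, ← hPi]; simp only [mul_assoc]
      _ = s • ((P⁻¹ : GL (Fin 3) F).val * x.1.val * (a.1.val * P.val)) := by
          rw [h, Matrix.mul_smul, Matrix.smul_mul]; simp only [mul_assoc]
      _ = _ := by rw [hP]; simp only [mul_assoc]
  set b := (P⁻¹ : GL (Fin 3) F).val * g.1.val * P.val with hb
  have hag : a.1.val * g.1.val = ζ • (g.1.val * a.1.val) := by
    have e : a * g = ⁅a, g⁆ * (g * a) := by rw [commutatorElement_def]; group
    rw [← Units.val_mul, ← Subgroup.coe_mul, e, Subgroup.coe_mul, Units.val_mul, hζ, smul_mul_assoc, one_mul,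
      Subgroup.coe_mul, Units.val_mul]
  have step : ∀ j, ∃ i, l i = ζ * l j := by
    intro j
    have hu : b = (P⁻¹ * g.1 * P : GL (Fin 3) F).val := by rw [hb, Units.val_mul, Units.val_mul]
    obtain ⟨i, hi⟩ : ∃ i, b i j ≠ 0 := by
      by_contra h
      push Not at h
      have hd : b.det = 0 := det_eq_zero_of_column_eq_zero j h
      rw [hu] at hd
      exact (GeneralLinearGroup.det (P⁻¹ * g.1 * P)).ne_zero (by rw [GeneralLinearGroup.val_det_apply, hd])
    refine ⟨i, mul_right_cancel₀ hi ?_⟩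
    have e := congrFun (congrFun (tr g ζ hag) i) j
    rw [diagonal_mul, Matrix.smul_apply, mul_diagonal, smul_eq_mul, ← hb] at e
    linear_combination e
  obtain ⟨i1, hi1⟩ := step 0
  obtain ⟨i2, hi2⟩ := step i1
  have hl0 : l 0 ≠ 0 := by
    obtain ⟨k, hk⟩ := hl 0
    rw [hk]
    exact pow_ne_zero _ fun h => by simp [h] at hω
  have hζ2 : ζ * ζ ≠ 1 := fun h => hζ1 (by linear_combination hζ3 - ζ * h)
  have d01 : l 0 ≠ l i1 := fun h => hζ1 (mul_right_cancel₀ hl0 (by rw [← hi1, ← h, one_mul]))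
  have d02 : l 0 ≠ l i2 := fun h => hζ2 (mul_right_cancel₀ hl0 (by rw [one_mul, mul_assoc, ← hi1, ← hi2, ← h]))
  have d12 : l i1 ≠ l i2 := fun h => hζ1 (mul_right_cancel₀ (hl0) (by
    rw [one_mul]
    refine mul_left_cancel₀ (show ζ ≠ 0 from fun hz' => by simp [hz'] at hζ3) ?_
    rw [← hi1, ← hi2, ← h]))
  have linj : ∀ i j, i ≠ j → l i ≠ l j := by
    have hall : ∀ m : Fin 3, m = 0 ∨ m = i1 ∨ m = i2 := by
      have n1 : (0 : Fin 3) ≠ i1 := fun h => d01 (by rw [← h])
      have n2 : (0 : Fin 3) ≠ i2 := fun h => d02 (by rw [← h])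
      have n3 : i1 ≠ i2 := fun h => d12 (by rw [← h])
      clear * - n1 n2 n3
      revert i1 i2
      decide
    intro i j hij
    rcases hall i with rfl | rfl | rfl <;> rcases hall j with rfl | rfl | rfl <;>
      first | exact absurd rfl hij | assumption | exact Ne.symm d01 | exact Ne.symm d02 | exact Ne.symm d12
  have diag : ∀ x : φ.ker, ∃ idx : Fin 3 → Fin 3,
      (P⁻¹ : GL (Fin 3) F).val * x.1.1.val * P.val = diagonal fun i => ω ^ ((idx i : Fin 3) : ℕ) := by
    intro x
    have hcm : a * x.1 = x.1 * a :=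
      commutatorElement_eq_one_iff_mul_comm.mp (congrArg Subtype.val (MonoidHom.mem_ker.mp x.2))
    have hcv : a.1.val * x.1.1.val = (1 : F) • (x.1.1.val * a.1.val) := by
      rw [one_smul, ← Units.val_mul, ← Subgroup.coe_mul, hcm, Subgroup.coe_mul, Units.val_mul]
    set c := (P⁻¹ : GL (Fin 3) F).val * x.1.1.val * P.val with hc
    have hoff : ∀ i j, i ≠ j → c i j = 0 := by
      intro i j hij
      have e := congrFun (congrFun (tr x.1 1 hcv) i) j
      rw [diagonal_mul, Matrix.smul_apply, mul_diagonal, smul_eq_mul, ← hc] at e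
      exact (mul_eq_zero.mp (show (l i - l j) * c i j = 0 by linear_combination e)).resolve_left
        (sub_ne_zero.mpr (linj i j hij))
    have hcd : c = diagonal fun i => c i i := by
      ext i j
      by_cases h : i = j
      · subst h; rw [diagonal_apply_eq]
      · rw [diagonal_apply_ne _ h, hoff i j h]
    have hc3 : c * c * c = 1 := by
      have e : (P⁻¹ * x.1.1 * P) * (P⁻¹ * x.1.1 * P) * (P⁻¹ * x.1.1 * P) = (1 : GL (Fin 3) F) := by
        rw [show (P⁻¹ * x.1.1 * P) * (P⁻¹ * x.1.1 * P) * (P⁻¹ * x.1.1 * P) =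
          P⁻¹ * (x.1.1 * x.1.1 * x.1.1) * P by group, hexp _ x.1.2, mul_one, inv_mul_cancel]
      have e' := congrArg Units.val e
      simpa [Units.val_mul, hc, mul_assoc] using e'
    have hcube : ∀ i, c i i ^ 3 = 1 := by
      intro i
      rw [hcd, diagonal_mul_diagonal, diagonal_mul_diagonal, ← diagonal_one] at hc3
      have := congrFun (diagonal_injective hc3) i
      linear_combination this
    choose idx hidx using fun i => hroot _ (hcube i)
    refine ⟨idx, ?_⟩
    conv_lhs => rw [hcd]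
    exact congrArg diagonal (funext hidx)
  choose idx hidx using diag
  have hker : Nat.card φ.ker ≤ 27 := by
    refine le_trans (Nat.card_le_card_of_injective idx fun x y h => ?_) (by simp)
    apply Subtype.ext; apply Subtype.ext; apply Units.ext
    have e := (hidx x).trans (h ▸ (hidx y).symm)
    calc x.1.1.val = P.val * ((P⁻¹ : GL (Fin 3) F).val * x.1.1.val * P.val) * (P⁻¹ : GL (Fin 3) F).val := by
          simp only [← Units.val_mul]; congr 1; group
      _ = P.val * ((P⁻¹ : GL (Fin 3) F).val * y.1.1.val * P.val) * (P⁻¹ : GL (Fin 3) F).val := by rw [e]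
      _ = y.1.1.val := by simp only [← Units.val_mul]; congr 1; group
  have hrange : Nat.card φ.range ≤ 3 := (Subgroup.card_le_card_group φ.range).trans_eq hz
  have hidx' := φ.ker.card_mul_index
  rw [Subgroup.index_ker] at hidx'
  have h81 : 3 ^ (1 + 2 * m) ≤ 81 := by
    rw [← hR, ← hidx']
    exact le_trans (Nat.mul_le_mul hker hrange) (by norm_num)
  have hm1 : m = 1 := by
    by_contra h
    have : 3 ^ 5 ≤ 3 ^ (1 + 2 * m) := Nat.pow_le_pow_right (by norm_num) (by omega)
    omega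
  rw [hR, hm1]
  norm_num

/-- A matrix of determinant one outside the normaliser. -/
def outsideGL : GL (Fin 3) F :=
  ⟨!![1, 1, 0; 0, 1, 0; 0, 0, 1], !![1, -1, 0; 0, 1, 0; 0, 0, 1],
    by ext i j; fin_cases i <;> fin_cases j <;> simp [mul_apply, Fin.sum_univ_three],
    by ext i j; fin_cases i <;> fin_cases j <;> simp [mul_apply, Fin.sum_univ_three]⟩

/-- Clause (5) of the list of maximal subgroups of `SL(3,q)`. -/
theorem hessian_maximal (p : ℕ) (R : Subgroup (Matrix.GeneralLinearGroup (Fin 3) F)) (hp : p.Prime)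
    (hF : Fintype.card F = p) (hmod : p % 3 = 1) (hR : Cfsg.Geo.IsLinearSymplecticTypeData 3 R) :
    Cfsg.Geo.IsMaximalIn (Cfsg.Geo.specialLinear (Fin 3) F)
      (Cfsg.Geo.subgroupNormalizer R ⊓ Cfsg.Geo.specialLinear (Fin 3) F) := by
  classical
  have hpc : Nat.card F = p := by rw [Nat.card_eq_fintype_card, hF]
  have hprime : (Nat.card F).Prime := hpc ▸ hp
  haveI : Fact p.Prime := ⟨hp⟩
  haveI : CharP F p := by
    obtain ⟨e, hp', he⟩ := FiniteField.card F (ringChar F)
    rw [hF] at he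
    exact (Nat.prime_dvd_prime_iff_eq hp' hp).mp (he ▸ dvd_pow_self _ e.pos.ne') ▸ ringChar.charP F
  have hne : ∀ n : ℕ, n.Prime → n ≠ p → ((n : ℕ) : F) ≠ 0 := fun n hn hnp h =>
    hnp ((Nat.prime_dvd_prime_iff_eq hp hn).mp ((CharP.cast_eq_zero_iff F p n).mp h)).symm
  have two : (2 : F) ≠ 0 := by exact_mod_cast hne 2 Nat.prime_two (by omega)
  have three : (3 : F) ≠ 0 := by exact_mod_cast hne 3 Nat.prime_three (by omega)
  have five : (5 : F) ≠ 0 := by exact_mod_cast hne 5 (by norm_num) (by omega)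
  obtain ⟨ω₀, hω, hω1⟩ : ∃ ω : F, ω ^ 3 = 1 ∧ ω ≠ 1 := by
    haveI := Fact.mk Nat.prime_three
    obtain ⟨u, hu⟩ := exists_prime_orderOf_dvd_card' (G := Fˣ) 3 (by
      rw [Nat.card_units, hpc]; omega)
    refine ⟨u, ?_, fun h => ?_⟩
    · rw [← Units.val_pow_eq_pow_val, ← hu, pow_orderOf_eq_one, Units.val_one]
    · rw [Units.val_eq_one] at h
      rw [h, orderOf_one] at hu
      exact absurd hu (by norm_num)
  obtain ⟨p', e, -, -, h1 | h2 | h2⟩ := hR.field
  swap; · exact absurd h2.1 (by norm_num)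
  swap; · exact absurd h2.1 (by norm_num)
  obtain ⟨-, -, hz, m, hm, hcard⟩ := h1
  have hexp : Monoid.exponent R = 3 := by
    rw [hR.symplecticType.exponent_eq]; rfl
  have hex : ∀ g ∈ R, g * g * g = 1 := fun g hg => by
    have := congrArg Subtype.val (Monoid.pow_exponent_eq_one (⟨g, hg⟩ : R))
    rw [hexp] at this
    simpa [pow_succ] using this
  have h27 := card_eq_twentySeven hω hω1 three hex hR.absIrred hR.symplecticType.pGroup hz hm hcard
  have hna : ¬ IsMulCommutative R := by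
    intro h
    have htop : Subgroup.center R = ⊤ :=
      eq_top_iff.mpr fun x _ => Subgroup.mem_center_iff.mpr fun y => h.is_comm.comm y x
    rw [htop, Subgroup.card_top, h27] at hz
    omega
  obtain ⟨T⟩ := exists_form three hω hω1 R h27 hexp hna
  have hw : Omega T.ω := ⟨T.cube, T.ne, two, three, five⟩
  set P := T.P
  let Φ : GL (Fin 3) F →* GL (Fin 3) F := (MulAut.conj P).toMonoidHom
  have hmap : ∀ x ∈ std T.ω, P * x * P⁻¹ ∈ R := fun x hx =>
    (std_le (K := R.comap Φ) T.memD T.memC) hx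
  have hback : ∀ r ∈ R, P⁻¹ * r * P ∈ std T.ω := by
    intro r hr
    rw [← T.gen] at hr
    refine (Subgroup.closure_le (K := (std T.ω).comap (MulAut.conj P⁻¹).toMonoidHom)).mpr ?_ hr |> fun h => by
      simpa using h
    rintro _ (rfl | rfl)
    · show P⁻¹ * (P * dd T.ω * P⁻¹) * P⁻¹⁻¹ ∈ std T.ω
      rw [show P⁻¹ * (P * dd T.ω * P⁻¹) * P⁻¹⁻¹ = dd T.ω by group]
      exact dd_mem _
    · show P⁻¹ * (P * cyc * P⁻¹) * P⁻¹⁻¹ ∈ std T.ω
      rw [show P⁻¹ * (P * cyc * P⁻¹) * P⁻¹⁻¹ = cyc by group]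
      exact cyc_mem _
  have hdet : ∀ x : GL (Fin 3) F, P * x * P⁻¹ ∈ Cfsg.Geo.specialLinear (Fin 3) F ↔
      x ∈ Cfsg.Geo.specialLinear (Fin 3) F := fun x => by
    show GeneralLinearGroup.det (P * x * P⁻¹) = 1 ↔ GeneralLinearGroup.det x = 1
    rw [map_mul, map_mul, map_inv, mul_comm (GeneralLinearGroup.det P), mul_inv_cancel_right]
  have hRsl : R ≤ Cfsg.Geo.specialLinear (Fin 3) F := fun g hg => T.det_one hg
  set N := Cfsg.Geo.subgroupNormalizer R ⊓ Cfsg.Geo.specialLinear (Fin 3) F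
  have hRN : R ≤ N := le_inf Subgroup.le_normalizer hRsl
  have hjN : ∀ c : Fˣ, c ^ 3 = 1 → P * jj hw c * P⁻¹ ∈ N := by
    intro c hc
    obtain ⟨hn, -⟩ := nrm_jj hw hc
    refine ⟨T.mem_normalizer (hmap _ (hn _ (dd_mem _))) (hmap _ (hn _ (cyc_mem _))) ?_ ?_,
      (hdet _).mpr (det_jj hw c)⟩
    · exact (inv_mul_cancel_right _ _).symm
    · exact (inv_mul_cancel_right _ _).symm
  refine ⟨lt_of_le_of_ne inf_le_right fun hN => ?_, fun M hNM hMS => ?_⟩
  · have hx : P * outsideGL * P⁻¹ ∈ Cfsg.Geo.specialLinear (Fin 3) F := by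
      refine (hdet _).mpr ?_
      show GeneralLinearGroup.det outsideGL = 1
      apply Units.ext
      rw [GeneralLinearGroup.val_det_apply, Units.val_one]
      simp [outsideGL, det_fin_three]
    rw [← hN] at hx
    have h1 := (Subgroup.mem_set_normalizer_iff.mp hx.1 (P * dd T.ω * P⁻¹)).mp T.memD
    have h2 := hback _ h1
    rw [show P⁻¹ * (P * outsideGL * P⁻¹ * (P * dd T.ω * P⁻¹) * (P * outsideGL * P⁻¹)⁻¹) * P =
      outsideGL * dd T.ω * outsideGL⁻¹ by group] at h2
    obtain ⟨a, u, k, -, -, hv⟩ := (mem_std hw).mp h2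
    have e : (outsideGL : GL (Fin 3) F).val * (dd T.ω).val = (a • mon u k) * (outsideGL : GL (Fin 3) F).val := by
      rw [← hv, ← Units.val_mul, ← Units.val_mul, inv_mul_cancel_right]
    have e00 := congrFun (congrFun e 0) 0
    have e01 := congrFun (congrFun e 0) 1
    fin_cases k <;> simp [outsideGL, val_dd', mon, mul_apply, Fin.sum_univ_three] at e00 e01
    · exact hw.c1 (e01.trans e00.symm)
  · let M' : Subgroup (GL (Fin 3) F) := M.comap Φ
    have H : Over hw M' :=
      ⟨fun x hx => (hdet x).mp (hMS hx), hNM (hRN T.memD), hNM (hRN T.memC), fun c hc => hNM (hjN c hc)⟩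
    rcases dichotomy H hprime with h | h
    · refine Or.inl (le_antisymm (fun g hg => ?_) hNM)
      have hg' : P⁻¹ * g * P ∈ M' := by
        show P * (P⁻¹ * g * P) * P⁻¹ ∈ M
        rw [show P * (P⁻¹ * g * P) * P⁻¹ = g by group]
        exact hg
      have fwd : ∀ x ∈ M', ∀ r ∈ R, P * x * P⁻¹ * r * (P * x * P⁻¹)⁻¹ ∈ R := by
        intro x hx r hr
        have := hmap _ (h x hx _ (hback r hr))
        rwa [show P * (x * (P⁻¹ * r * P) * x⁻¹) * P⁻¹ = P * x * P⁻¹ * r * (P * x * P⁻¹)⁻¹ by group] at this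
      refine ⟨Subgroup.mem_set_normalizer_iff.mpr fun r => ⟨fun hr => ?_, fun hr => ?_⟩, hMS hg⟩
      · have := fwd _ hg' r hr
        rwa [show P * (P⁻¹ * g * P) * P⁻¹ = g by group] at this
      · have := fwd _ (inv_mem hg') _ hr
        rw [show P * (P⁻¹ * g * P)⁻¹ * P⁻¹ = g⁻¹ by group] at this
        rwa [show g⁻¹ * (g * r * g⁻¹) * g⁻¹⁻¹ = r by group] at this
    · refine Or.inr (le_antisymm hMS fun g hg => ?_)
      have hx : P⁻¹ * g * P ∈ Cfsg.Geo.specialLinear (Fin 3) F := by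
        rw [← hdet, show P * (P⁻¹ * g * P) * P⁻¹ = g by group]; exact hg
      have := h hx
      change P * (P⁻¹ * g * P) * P⁻¹ ∈ M at this
      rwa [show P * (P⁻¹ * g * P) * P⁻¹ = g by group] at this

end Cfsg.Agent.Hessian85
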