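import Cfsg.Agent.Lib.Heis12Qlocal
import Cfsg.Agent.Lib.Hessian85Main

/-!
The one-qutrit dichotomy, from the maximality argument for the Hessian group.
-/

set_option autoImplicit false
set_option linter.unusedSectionVars false

namespace Cfsg.Agent.Heis12

open Matrix
open scoped MatrixGroups

variable {F : Type*} [Field F]

namespace Ctx

variable (c : Ctx F)

/-- The primitive root as a unit. -/
def wU : Fˣ where
  val := c.ω
  inv := c.ω ^ 2
  val_inv := by rw [← pow_succ', c.cube]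
  inv_val := by rw [← pow_succ, c.cube]

theorem omega85 (h5 : (5 : F) ≠ 0) : Hessian85.Omega c.wU where
  cube := Units.ext (by rw [Units.val_pow_eq_pow_val]; exact c.cube)
  ne := fun e => c.ne_one (congrArg Units.val e)
  two := c.two
  three := c.three
  five := h5

theorem eq_of_fin {A : GL (Fin 3) F} {B : GL Z3 F}
    (h : ∀ i j : Fin 3, (A : Matrix (Fin 3) (Fin 3) F) i j =
      (B : Matrix Z3 Z3 F) ((![0, 1, 2] : Fin 3 → Z3) i) ((![0, 1, 2] : Fin 3 → Z3) j)) : (A : GL Z3 F) = B := by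
  have e : ∀ i : Fin 3, ((![0, 1, 2] : Fin 3 → Z3) i) = (i : Fin 3) := fun i => by fin_cases i <;> rfl
  refine Units.ext (Matrix.ext (α := F) fun i j => ?_)
  exact (h i j).trans (congrArg₂ (B : Matrix Z3 Z3 F) (e i) (e j))

theorem dd_eq : (Hessian85.dd c.wU : GL Z3 F) = c.WU (0, 1) := eq_of_fin fun i j => by
  rw [Hessian85.val_dd, WU_val, W_apply, add_zero, one_mul]
  fin_cases i <;> fin_cases j <;> simp +decide [χ, wU, ZMod.val_zero, ZMod.val_one, show (2 : ZMod 3).val = 2 from rfl, show (2 : ZMod 3) * 2 = 1 by decide] <;> rfl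

theorem cyc_eq : (HeisenbergThree.cyc : GL Z3 F) = c.WU (1, 0) := eq_of_fin fun i j => by
  rw [Hessian85.val_cyc, WU_val, W_apply]
  fin_cases i <;> fin_cases j <;> simp +decide [χ] <;> rfl

theorem nr_dd : c.Nr1 (Hessian85.dd c.wU) := by
  have e : (Hessian85.dd c.wU : GL Z3 F) = c.WU (0, 1) := c.dd_eq
  exact e ▸ c.nr_WU _

theorem nr_gam {u : Fˣ} (hu : u ^ 3 = 1) : ∃ φ, tdet φ = 1 ∧ c.Act (Hessian85.gam u) φ := by
  obtain ⟨k, hk⟩ := c.exists_χ (x := (u : F)) (by rw [← Units.val_pow_eq_pow_val, hu, Units.val_one])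
  have hn : ∀ n : ℕ, c.Act (c.Kq ^ n) ((tmul tK)^[n] tone) ∧ tdet ((tmul tK)^[n] tone) = 1 := fun n => by
    induction n with
    | zero => exact ⟨by simpa using c.act_one, by decide⟩
    | succ n ih =>
      rw [pow_succ', Function.iterate_succ_apply']
      exact ⟨c.act_mul c.act_Kq ih.1, by rw [tdet_mul, ih.2, show tdet tK = 1 by decide, mul_one]⟩
  have e : (Hessian85.gam u : GL Z3 F) = c.Kq ^ k.val := eq_of_fin fun i j => by
    rw [Hessian85.val_gam, Units.val_pow_eq_pow_val, Kq_val, Matrix.diagonal_pow, hk]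
    fin_cases i <;> fin_cases j <;> simp +decide [χ, ← pow_mul, mul_comm, ZMod.val_zero, ZMod.val_one, show (2 : ZMod 3).val = 2 from rfl, show (2 : ZMod 3) * 2 = 1 by decide] <;> rfl
  exact ⟨_, (hn k.val).2, e ▸ (hn k.val).1⟩

theorem j0_eq (h : Hessian85.Omega c.wU) : (Hessian85.j0 h : GL Z3 F) = c.Fq := eq_of_fin fun i j => by
  rw [Hessian85.val_j0, Hessian85.fm, Fq_val]
  fin_cases i <;> fin_cases j <;> simp +decide [χ, wU, s, ZMod.val_zero, ZMod.val_one, show (2 : ZMod 3).val = 2 from rfl, show (2 : ZMod 3) * 2 = 1 by decide] <;> rfl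

theorem std_rep {g : GL Z3 F} (hg : g ∈ Hessian85.std c.wU) :
    ∃ (a : F) (v : Ph), (g : Matrix Z3 Z3 F) = a • c.W v := by
  let S : Subgroup (GL Z3 F) :=
    { carrier := {g | c.Act g tone}
      one_mem' := c.act_one
      mul_mem' := fun h1 h2 => by simpa [show tmul tone tone = tone by decide] using c.act_mul h1 h2
      inv_mem' := fun h => by simpa [show tinv tone = tone by decide] using c.act_inv h (by decide) }
  refine c.eq_smul_W ((Subgroup.closure_le S).2 ?_ hg)
  rintro x (rfl | rfl)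
  · have e : (Hessian85.dd c.wU : GL Z3 F) = c.WU (0, 1) := c.dd_eq
    show c.Act _ tone
    rw [e]
    exact c.act_W _
  · have e : (HeisenbergThree.cyc : GL Z3 F) = c.WU (1, 0) := c.cyc_eq
    show c.Act _ tone
    rw [e]
    exact c.act_W _

/-- The one-qutrit dichotomy over a prime field. -/
theorem baseHyp [Finite F] (hp : (Nat.card F).Prime) (h5 : (5 : F) ≠ 0) : c.BaseHyp := by
  intro M hM hMn
  have h := c.omega85 h5
  have eC : (HeisenbergThree.cyc : GL Z3 F) = c.WU (1, 0) := c.cyc_eq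
  have eD : (Hessian85.dd c.wU : GL Z3 F) = c.WU (0, 1) := c.dd_eq
  have hover : Hessian85.Over h M :=
    { sl := hM
      d_mem := eD.symm ▸ hMn _ (c.WU_mem_sl _) (c.nr_WU _)
      c_mem := eC.symm ▸ hMn _ (c.WU_mem_sl _) (c.nr_WU _)
      j_mem := fun u hu => by
        obtain ⟨φ, hd, hg⟩ := c.nr_gam hu
        have hj : c.Act (Hessian85.j0 h) tF := by rw [c.j0_eq h]; exact c.act_Fq
        refine hMn (Hessian85.jj h u) ?_ (c.act_nr (c.act_mul (c.act_mul hg hj) (c.act_inv hg hd)))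
        exact MonoidHom.mem_ker.2 (Hessian85.det_jj h u) }
  rcases Hessian85.dichotomy hover hp with hn | hn
  · refine Or.inl fun g hg v => ?_
    let S : Subgroup (GL Z3 F) := Hessian85.std c.wU
    have hT : c.WU (1, 0) ∈ S := eC ▸ Subgroup.subset_closure (Or.inr rfl)
    have hD : c.WU (0, 1) ∈ S := eD ▸ Subgroup.subset_closure (Or.inl rfl)
    have hW : ∃ x ∈ S, (x : Matrix Z3 Z3 F) = c.W v := by
      refine ⟨_, S.mul_mem (S.pow_mem hT v.1.val) (S.pow_mem hD v.2.val), ?_⟩
      have p1 : ∀ n : ℕ, c.W (1, 0) ^ n = c.W ((n : ZMod 3), 0) := fun n => by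
        induction n with
        | zero => simp [show ((0, 0) : Ph) = 0 from rfl, W_zero]
        | succ n ih => rw [pow_succ, ih, W_mul]; simp
      have p2 : ∀ n : ℕ, c.W (0, 1) ^ n = c.W (0, (n : ZMod 3)) := fun n => by
        induction n with
        | zero => simp [show ((0, 0) : Ph) = 0 from rfl, W_zero]
        | succ n ih => rw [pow_succ, ih, W_mul]; simp
      rw [Units.val_mul, Units.val_pow_eq_pow_val, Units.val_pow_eq_pow_val, WU_val, WU_val, p1, p2, W_mul]
      simp
    obtain ⟨x, hx, hxv⟩ := hW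
    obtain ⟨a, w, haw⟩ := c.std_rep (hn g hg x hx)
    refine ⟨a, w, ?_⟩
    have := congrArg (fun X => X * (g : Matrix Z3 Z3 F)) haw
    rw [← hxv, ← Units.val_mul]
    rw [show g * x = g * x * g⁻¹ * g by group, Units.val_mul]
    exact this.trans (Matrix.smul_mul _ _ _)
  · exact Or.inr hn

end Ctx

end Cfsg.Agent.Heis12
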