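import Cfsg.Agent.Lib.Heis12Defs
import Cfsg.Agent.Lib.TensorMaxLinear

/-!
Generators of the normaliser in the model, and the block lemma: in a proper overgroup the blocks of an
element commuting with a clock normalise the Weyl matrices.
-/

set_option autoImplicit false
set_option linter.unusedSectionVars false

namespace Cfsg.Agent.Heis12

open Matrix
open scoped MatrixGroups Kronecker commutatorElement

variable {F : Type*} [Field F]

/-- The block of a matrix in the first coordinate. -/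
def blk (X : Matrix Pt Pt F) (i j : Z3) : Matrix Z3 Z3 F := Matrix.of fun k l => X (i, k) (j, l)

theorem blk_kr (A B : Matrix Z3 Z3 F) (i j : Z3) : blk (A ⊗ₖ B) i j = A i j • B := by
  ext k l
  simp [blk]

theorem blk_mul (X Y : Matrix Pt Pt F) (i j : Z3) : blk (X * Y) i j = ∑ m, blk X i m * blk Y m j := by
  ext k l
  simp only [blk, Matrix.of_apply, Matrix.mul_apply, Fintype.sum_prod_type, Matrix.sum_apply]

theorem blk_one (i j : Z3) : blk (1 : Matrix Pt Pt F) i j = (1 : Matrix Z3 Z3 F) i j • 1 := by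
  rw [← blk_kr, Matrix.one_kronecker_one]

theorem blk_ext {X Y : Matrix Pt Pt F} (h : ∀ i j, blk X i j = blk Y i j) : X = Y := by
  ext ⟨i, k⟩ ⟨j, l⟩
  exact congrFun (congrFun (h i j) k) l

theorem one_kr_comm (A : GL Z3 F) (B : GL Z3 F) : kr A 1 * kr 1 B = kr 1 B * kr A 1 := by
  rw [kr_mul, kr_mul, mul_one, one_mul, mul_one, one_mul]

/-- Minus the exchange of the two qutrits. -/
def swapU : GL Pt F where
  val := Matrix.of fun p q => if p = (q.2, q.1) then -1 else 0
  inv := Matrix.of fun p q => if p = (q.2, q.1) then -1 else 0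
  val_inv := by
    ext p q
    rw [Matrix.mul_apply, Finset.sum_eq_single (q.2, q.1)]
    · simp [Matrix.one_apply]
      split_ifs <;> simp
    · intro b _ hb
      simp [Matrix.of_apply, hb]
    · simp
  inv_val := by
    ext p q
    rw [Matrix.mul_apply, Finset.sum_eq_single (q.2, q.1)]
    · simp [Matrix.one_apply]
      split_ifs <;> simp
    · intro b _ hb
      simp [Matrix.of_apply, hb]
    · simp

theorem swapU_mul (X : Matrix Pt Pt F) (p q : Pt) :
    ((swapU : GL Pt F).val * X) p q = -X (p.2, p.1) q := by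
  rw [Matrix.mul_apply, Finset.sum_eq_single (p.2, p.1)]
  · simp [swapU]
  · intro b _ hb
    have : p ≠ (b.2, b.1) := fun e => hb (by rw [e])
    simp [swapU, this]
  · simp

theorem mul_swapU (X : Matrix Pt Pt F) (p q : Pt) :
    (X * (swapU : GL Pt F).val) p q = -X p (q.2, q.1) := by
  rw [Matrix.mul_apply, Finset.sum_eq_single (q.2, q.1)]
  · simp [swapU]
  · intro b _ hb
    simp [swapU, hb]
  · simp

theorem swapU_kron (A B : Matrix Z3 Z3 F) : (swapU : GL Pt F).val * (A ⊗ₖ B) = (B ⊗ₖ A) * (swapU : GL Pt F).val := by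
  ext p q
  rw [swapU_mul, mul_swapU, Matrix.kroneckerMap_apply, Matrix.kroneckerMap_apply, mul_comm]

theorem swapU_sq : (swapU : GL Pt F) * swapU = 1 := by
  refine Units.ext ?_
  rw [Units.val_mul, Units.val_one]
  exact (swapU : GL Pt F).val_inv

theorem swapU_inv : (swapU : GL Pt F)⁻¹ = swapU := inv_eq_of_mul_eq_one_right swapU_sq

theorem swapU_kr (A B : GL Z3 F) : swapU * kr A B * swapU⁻¹ = kr B A := by
  rw [mul_inv_eq_iff_eq_mul]
  exact Units.ext (by rw [Units.val_mul, Units.val_mul, kr_val, kr_val, swapU_kron])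

theorem swapU_det : ((swapU : GL Pt F) : Matrix Pt Pt F).det = 1 := by
  have e : ((swapU : GL Pt F) : Matrix Pt Pt F) = -(Equiv.Perm.permMatrix F (Equiv.prodComm Z3 Z3 : Equiv.Perm Pt)) := by
    ext p q
    show (if p = (q.2, q.1) then (-1 : F) else 0) = -_
    by_cases h : p = (q.2, q.1)
    · subst h
      simp [Equiv.Perm.permMatrix, PEquiv.toMatrix_apply]
    · have : ¬ (p.2, p.1) = q := fun e => h (by rw [← e])
      simp [Equiv.Perm.permMatrix, PEquiv.toMatrix_apply, h]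
      exact this
  rw [e, Matrix.det_neg, Matrix.det_permutation]
  rw [show Equiv.Perm.sign (Equiv.prodComm Z3 Z3 : Equiv.Perm Pt) = -1 by decide]
  simp [ZMod.card]
  norm_num

namespace Ctx

variable (c : Ctx F)

/-- The controlled phase. -/
def ctl : GL Pt F where
  val := Matrix.diagonal fun p => c.χ (p.1 * p.2)
  inv := Matrix.diagonal fun p => c.χ (-(p.1 * p.2))
  val_inv := by simp [Matrix.diagonal_mul_diagonal, ← χ_add]
  inv_val := by simp [Matrix.diagonal_mul_diagonal, ← χ_add]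

theorem blk_ctl (i j : Z3) : blk (c.ctl : Matrix Pt Pt F) i j = if i = j then c.W (0, i) else 0 := by
  ext k l
  simp only [blk, ctl, Matrix.of_apply, Matrix.diagonal_apply, Prod.mk.injEq]
  by_cases h : i = j
  · subst h
    by_cases h' : k = l <;> simp [h', W_apply]
  · simp [h]

theorem ctl_det : (c.ctl : Matrix Pt Pt F).det = 1 := by
  show Matrix.det (Matrix.diagonal _) = 1
  rw [Matrix.det_diagonal, Fintype.prod_prod_type]
  have hp : ∀ f : ZMod 3 → F, ∏ y, f y = f 0 * f 1 * f 2 := fun f => Fin.prod_univ_three f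
  simp only [hp, ← c.χ_add]
  rw [show ((0 : ZMod 3) * 0 + 0 * 1 + 0 * 2 + (1 * 0 + 1 * 1 + 1 * 2) + (2 * 0 + 2 * 1 + 2 * 2)) = 0 by decide,
    χ_zero]

theorem W2_apply (v : Ph × Ph) (p q : Pt) :
    c.W2 v p q = if p = (q.1 + v.1.1, q.2 + v.2.1) then c.χ (v.1.2 * q.1 + v.2.2 * q.2) else 0 := by
  rw [W2, Matrix.kroneckerMap_apply, W_apply, W_apply, c.χ_add]
  by_cases h1 : p.1 = q.1 + v.1.1 <;> by_cases h2 : p.2 = q.2 + v.2.1 <;> simp [Prod.ext_iff, h1, h2]

theorem nr2_ctl : c.Nr2 c.ctl := fun v =>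
  ⟨c.χ (v.1.1 * v.2.1), ((v.1.1, v.1.2 + v.2.1), (v.2.1, v.2.2 + v.1.1)), by
    ext p q
    show ((Matrix.diagonal _ : Matrix Pt Pt F) * c.W2 v) p q =
      (_ : F) • ((c.W2 _ * Matrix.diagonal _ : Matrix Pt Pt F) p q)
    rw [Matrix.diagonal_mul, Matrix.mul_diagonal, W2_apply, W2_apply, smul_eq_mul]
    split_ifs with h
    · subst h
      simp only [← c.χ_add]
      congr 1
      ring
    · simp⟩

theorem nr2_kr {A B : GL Z3 F} (hA : c.Nr1 A) (hB : c.Nr1 B) : c.Nr2 (kr A B) := fun v => by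
  obtain ⟨a, u, hu⟩ := hA v.1
  obtain ⟨b, w, hw⟩ := hB v.2
  refine ⟨a * b, (u, w), ?_⟩
  rw [kr_val, W2, W2, ← Matrix.mul_kronecker_mul, hu, hw, Matrix.smul_kronecker, Matrix.kronecker_smul,
    smul_smul, Matrix.mul_kronecker_mul]

theorem nr2_swap : c.Nr2 swapU := fun v => ⟨1, (v.2, v.1), by rw [one_smul, W2, W2, swapU_kron]⟩

theorem nr1_one : c.Nr1 1 := c.act_nr c.act_one

variable {M : Subgroup (GL Pt F)}

theorem kr_mem (hM : c.Over M) {A B : GL Z3 F} (hA : c.Nr1 A) (hB : c.Nr1 B)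
    (hAd : (A : Matrix Z3 Z3 F).det ^ 3 = 1) (hBd : (B : Matrix Z3 Z3 F).det ^ 3 = 1) : kr A B ∈ M :=
  hM.2 _ (mem_sl.2 (by rw [kr_det, hAd, hBd, one_mul])) (c.nr2_kr hA hB)

theorem one_kr_mem (hM : c.Over M) {B : GL Z3 F} (hB : c.Nr1 B) (hBd : (B : Matrix Z3 Z3 F).det ^ 3 = 1) :
    kr 1 B ∈ M := c.kr_mem hM c.nr1_one hB (by simp) hBd

theorem kr_one_mem (hM : c.Over M) {A : GL Z3 F} (hA : c.Nr1 A) (hAd : (A : Matrix Z3 Z3 F).det ^ 3 = 1) :
    kr A 1 ∈ M := c.kr_mem hM hA c.nr1_one hAd (by simp)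

theorem WU2_mem (hM : c.Over M) (v : Ph × Ph) : c.WU2 v ∈ M :=
  c.kr_mem hM (c.nr_WU _) (c.nr_WU _) (by rw [WU_val, W_det, one_pow]) (by rw [WU_val, W_det, one_pow])

theorem ctl_mem (hM : c.Over M) : c.ctl ∈ M := hM.2 _ (mem_sl.2 c.ctl_det) c.nr2_ctl

theorem swap_mem (hM : c.Over M) : swapU ∈ M := hM.2 _ (mem_sl.2 swapU_det) c.nr2_swap

/-- The clock on the first qutrit. -/
def D1 : GL Pt F := kr (c.WU (0, 1)) 1

theorem comm_D1 {g : GL Pt F} (hg : g * c.D1 = c.D1 * g) {i j : Z3} (hij : i ≠ j) : blk (g : Matrix Pt Pt F) i j = 0 := by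
  have h := congrArg (fun x : GL Pt F => blk (x : Matrix Pt Pt F) i j) hg
  simp only [Units.val_mul, blk_mul, D1, kr_val, Units.val_one, WU_val, blk_kr] at h
  rw [Finset.sum_eq_single j (fun b _ hb => by simp [W_apply, hb]) (by simp),
    Finset.sum_eq_single i (fun b _ hb => by simp [W_apply, hb.symm]) (by simp)] at h
  simp only [W_apply, add_zero, if_true, one_mul, Matrix.mul_smul, Matrix.smul_mul, mul_one] at h
  by_contra hne
  exact hij (c.χ_inj (smul_left_injective F hne h)).symm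

/-- The elements commuting with the clock. -/
def LD (M : Subgroup (GL Pt F)) : Subgroup (GL Pt F) := M ⊓ Subgroup.centralizer {c.D1}

theorem mem_LD {g : GL Pt F} : g ∈ c.LD M ↔ g ∈ M ∧ g * c.D1 = c.D1 * g := by
  rw [LD, Subgroup.mem_inf, Subgroup.mem_centralizer_singleton_iff]

/-- The block as a homomorphism. -/
def bh (i : Z3) : c.LD M →* GL Z3 F :=
  MonoidHom.toHomUnits
    { toFun := fun g => blk ((g : GL Pt F) : Matrix Pt Pt F) i i
      map_one' := by simp [blk_one]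
      map_mul' := fun g h => by
        rw [Subgroup.coe_mul, Units.val_mul, blk_mul, Finset.sum_eq_single i]
        · intro b _ hb
          rw [c.comm_D1 (c.mem_LD.1 g.2).2 (Ne.symm hb), zero_mul]
        · simp }

theorem bh_val (i : Z3) (g : c.LD M) :
    (c.bh i g : Matrix Z3 Z3 F) = blk ((g : GL Pt F) : Matrix Pt Pt F) i i := rfl

theorem kr_LD (hM : c.Over M) {A : GL Z3 F} (hA : c.Nr1 A) (hd : (A : Matrix Z3 Z3 F).det ^ 3 = 1) :
    kr 1 A ∈ c.LD M := c.mem_LD.2 ⟨c.one_kr_mem hM hA hd, (one_kr_comm _ _).symm⟩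

theorem bh_kr (hM : c.Over M) {A : GL Z3 F} (hA : c.Nr1 A) (hd : (A : Matrix Z3 Z3 F).det ^ 3 = 1) (i : Z3) :
    c.bh i ⟨kr 1 A, c.kr_LD hM hA hd⟩ = A :=
  Units.ext (by rw [bh_val, kr_val, blk_kr, Units.val_one, Matrix.one_apply_eq, one_smul])

theorem W0_ne_scalar {b : ZMod 3} (hb : b ≠ 0) (a : F) : c.W (0, b) ≠ a • 1 := fun h =>
  hb (congrArg Prod.snd (c.W_inj (w := 0) (by rw [h, W_zero])).1)

/-- The block lemma. -/
theorem block_nr (hb : c.BaseHyp) (hM : c.Over M) (hns : ¬ Cfsg.Geo.specialLinear Pt F ≤ M) {g : GL Pt F}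
    (hg : g ∈ M) (hcomm : g * c.D1 = c.D1 * g) :
    ∀ i, ∃ A : GL Z3 F, (A : Matrix Z3 Z3 F) = blk (g : Matrix Pt Pt F) i i ∧ c.Nr1 A := by
  intro i0
  refine ⟨c.bh i0 ⟨g, c.mem_LD.2 ⟨hg, hcomm⟩⟩, c.bh_val _ _, ?_⟩
  have hG : ∀ i, ∀ A ∈ Cfsg.Geo.specialLinear Z3 F, c.Nr1 A → A ∈ (c.bh (M := M) i).range := fun i A hA hn =>
    ⟨_, c.bh_kr hM hn (by rw [mem_sl.1 hA, one_pow]) i⟩
  rcases c.dichotomy hb _ (hG i0) with h | h
  · exact h _ ⟨_, rfl⟩
  exfalso
  apply hns
  -- the shift permutes the blocks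
  have hall : ∀ i, Cfsg.Geo.specialLinear Z3 F ≤ (c.bh (M := M) i).range := by
    intro i A hA
    obtain ⟨x, hx⟩ := h hA
    let T : GL Pt F := kr (c.WU (i - i0, 0)) 1
    have hT : T ∈ M := c.kr_one_mem hM (c.nr_WU _) (by rw [WU_val, W_det, one_pow])
    have hx2 := (c.mem_LD.1 x.2).2
    have hblk : ∀ p q, blk ((T * (x : GL Pt F) * T⁻¹ : GL Pt F) : Matrix Pt Pt F) p q =
        blk ((x : GL Pt F) : Matrix Pt Pt F) (p - (i - i0)) (q - (i - i0)) := by
      intro p q
      have e1 : ∀ (X : Matrix Pt Pt F) (q : Z3),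
          blk ((T : Matrix Pt Pt F) * X) p q = blk X (p - (i - i0)) q := fun X q => by
        rw [blk_mul, Finset.sum_eq_single (p - (i - i0))]
        · simp [T, kr_val, blk_kr, W_apply, WU_val]
        · intro b _ hb
          have : p ≠ b + (i - i0) := fun e => hb (by rw [e]; ring)
          simp [T, kr_val, blk_kr, W_apply, WU_val, this]
        · simp
      have e2 : ∀ X : Matrix Pt Pt F, ∀ r, blk X r (q - (i - i0)) = blk (X * ((T⁻¹ : GL Pt F) : Matrix Pt Pt F)) r q := by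
        intro X r
        have h' : ∀ Y : Matrix Pt Pt F, blk (Y * (T : Matrix Pt Pt F)) r (q - (i - i0)) = blk Y r q := fun Y => by
          rw [blk_mul, Finset.sum_eq_single q]
          · simp [T, kr_val, blk_kr, W_apply, WU_val]
          · intro b _ hb
            simp [T, kr_val, blk_kr, W_apply, WU_val, hb]
          · simp
        conv_lhs => rw [show X = X * ((T⁻¹ : GL Pt F) : Matrix Pt Pt F) * (T : Matrix Pt Pt F) by
          rw [mul_assoc, Units.inv_mul, mul_one]]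
        exact h' _
      rw [Units.val_mul, Units.val_mul, ← e2, e1]
    have hcd : T * (x : GL Pt F) * T⁻¹ ∈ c.LD M := by
      refine c.mem_LD.2 ⟨M.mul_mem (M.mul_mem hT x.2.1) (M.inv_mem hT), Units.ext (blk_ext fun p q => ?_)⟩
      rw [Units.val_mul _ c.D1, Units.val_mul c.D1, blk_mul, blk_mul, D1, kr_val, Units.val_one, WU_val]
      simp only [blk_kr]
      rw [Finset.sum_eq_single q (fun b _ hb => by simp [W_apply, hb]) (by simp),
        Finset.sum_eq_single p (fun b _ hb => by simp [W_apply, hb.symm]) (by simp)]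
      by_cases hpq : p = q
      · subst hpq; simp [W_apply]
      · rw [hblk, c.comm_D1 hx2 (fun e => hpq (sub_left_injective e))]
        simp
    refine ⟨⟨_, hcd⟩, Units.ext ?_⟩
    rw [bh_val, hblk, show i - (i - i0) = i0 by ring, ← bh_val, hx]
  have hctl : c.ctl ∈ c.LD M := c.mem_LD.2 ⟨c.ctl_mem hM, Units.ext (by
    show Matrix.diagonal _ * ((c.WU (0, 1)).val ⊗ₖ (1 : Matrix Z3 Z3 F)) = _ * Matrix.diagonal _
    ext p q
    rw [Matrix.diagonal_mul, Matrix.mul_diagonal]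
    simp only [D1, kr_val, Matrix.kroneckerMap_apply, WU_val, W_apply, Units.val_one, add_zero, Matrix.one_apply]
    by_cases h1 : p.1 = q.1 <;> by_cases h2 : p.2 = q.2 <;> simp [h1, h2, mul_comm])⟩
  -- the kernel of one block surjects onto another
  have hker : ∀ i j, j ≠ i → Cfsg.Geo.specialLinear Z3 F ≤ (c.bh (M := M) i).ker.map (c.bh j) := by
    intro i j hji
    let e : c.LD M := ⟨kr 1 (c.WU (0, -i)), c.kr_LD hM (c.nr_WU _) (by rw [WU_val, W_det, one_pow])⟩
    have hval : ∀ k, (c.bh k (e * ⟨c.ctl, hctl⟩) : Matrix Z3 Z3 F) = c.W (0, k - i) := fun k => by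
      rw [map_mul, Units.val_mul, bh_val, bh_val]
      simp only [e, kr_val, blk_kr, Units.val_one, Matrix.one_apply_eq, one_smul, blk_ctl, if_true, WU_val, W_mul]
      simp [Prod.mk_add_mk, neg_add_eq_sub]
    refine sl_le_of_normalised (by simp [ZMod.card]) _ ?_
      (Subgroup.mem_map_of_mem _ (MonoidHom.mem_ker.2 (Units.ext ?_) : e * ⟨c.ctl, hctl⟩ ∈ (c.bh i).ker)) ?_
    · rintro s hs _ ⟨k, hk, rfl⟩
      obtain ⟨x, rfl⟩ := hall j hs
      refine ⟨x * k * x⁻¹, ?_, by rw [map_mul, map_mul, map_inv]⟩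
      rw [SetLike.mem_coe, MonoidHom.mem_ker, map_mul, map_mul, MonoidHom.mem_ker.1 hk, map_inv, mul_one,
        mul_inv_cancel]
    · rw [hval, sub_self, Units.val_one]
      exact c.W_zero
    · intro a h
      rw [hval] at h
      exact c.W0_ne_scalar (sub_ne_zero.2 hji) a h
  -- all elementary transvections inside the blocks
  have hone : ∀ j a b : Z3, a ≠ b → ∀ t : F,
      ∃ g ∈ M, (g : Matrix Pt Pt F) = 1 + Matrix.single (j, a) (j, b) t := by
    intro j a b hab t
    obtain ⟨i, k, hji, hjk, hik, hcov⟩ :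
        ∃ i k : Z3, j ≠ i ∧ j ≠ k ∧ i ≠ k ∧ ∀ z, z = j ∨ z = i ∨ z = k :=
      (show ∀ j : ZMod 3, ∃ i k, j ≠ i ∧ j ≠ k ∧ i ≠ k ∧ ∀ z, z = j ∨ z = i ∨ z = k by decide) j
    obtain ⟨d, had, hdb⟩ : ∃ d, a ≠ d ∧ d ≠ b :=
      (show ∀ a b : ZMod 3, ∃ d, a ≠ d ∧ d ≠ b by decide) a b
    let f : SpecialLinearGroup Z3 F →* GL Z3 F := SpecialLinearGroup.toGL
    have hf : ∀ x, f x ∈ Cfsg.Geo.specialLinear Z3 F := fun x => mem_sl.2 x.2
    obtain ⟨x, hxk, hx⟩ := hker i j hji (hf (SpecialLinearGroup.transvection had t))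
    obtain ⟨y, hyk, hy⟩ := hker k j hjk (hf (SpecialLinearGroup.transvection hdb 1))
    have hz : ∀ z, c.bh z ⁅x, y⁆ = if z = j then f (SpecialLinearGroup.transvection hab t) else 1 := by
      intro z
      rw [map_commutatorElement]
      rcases hcov z with rfl | rfl | rfl
      · rw [hx, hy, ← map_commutatorElement, PSLSimple.commutator_transvection had hdb hab, mul_one, if_pos rfl]
      · rw [MonoidHom.mem_ker.1 hxk, if_neg hji.symm, commutatorElement_one_left]
      · rw [MonoidHom.mem_ker.1 hyk, if_neg hjk.symm, commutatorElement_one_right]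
    refine ⟨((⁅x, y⁆ : c.LD M) : GL Pt F), (⁅x, y⁆ : c.LD M).2.1, blk_ext fun p q => ?_⟩
    by_cases hpq : p = q
    · subst hpq
      rw [← bh_val, hz]
      ext u v
      by_cases hp : p = j
      · subst hp
        rw [if_pos rfl]
        show Matrix.transvection a b t u v = _
        simp [Matrix.transvection, blk, Matrix.one_apply, Matrix.single_apply, Prod.ext_iff]
      · simp [hp, blk, Matrix.one_apply, Matrix.single_apply, Prod.ext_iff, Ne.symm hp]
    · rw [c.comm_D1 (c.mem_LD.1 (⁅x, y⁆ : c.LD M).2).2 hpq]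
      ext u v
      simp [blk, Matrix.one_apply, Matrix.single_apply, Prod.ext_iff, hpq]
      rintro rfl _ rfl
      exact absurd rfl hpq
  have htwo : ∀ j a b : Z3, a ≠ b → ∀ t : F,
      ∃ g ∈ M, (g : Matrix Pt Pt F) = 1 + Matrix.single (a, j) (b, j) t := by
    intro j a b hab t
    obtain ⟨g, hg, hgv⟩ := hone j a b hab t
    refine ⟨swapU * g * swapU⁻¹, M.mul_mem (M.mul_mem (c.swap_mem hM) hg) (M.inv_mem (c.swap_mem hM)), ?_⟩
    rw [swapU_inv, Units.val_mul, Units.val_mul, hgv, mul_add, mul_one, add_mul, ← Units.val_mul, swapU_sq,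
      Units.val_one]
    congr 1
    ext p q
    rw [mul_swapU, swapU_mul, neg_neg, Matrix.single_apply, Matrix.single_apply]
    refine if_congr ?_ rfl rfl
    constructor <;> rintro ⟨e1, e2⟩ <;> constructor <;> simp [Prod.ext_iff] at e1 e2 ⊢ <;> tauto
  refine TensorMax.specialLinear_le_of_single fun p q hpq t => ?_
  rcases p with ⟨i, a⟩
  rcases q with ⟨j, b⟩
  by_cases hij : i = j
  · subst hij
    exact hone i a b (fun e => hpq (by rw [e])) t
  by_cases hab : a = b
  · subst hab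
    exact htwo a i j hij t
  obtain ⟨g, hg, hgv⟩ := hone i a b hab t
  obtain ⟨l, hl, hlv⟩ := htwo b i j hij 1
  have inv : ∀ (g : GL Pt F) (X : Matrix Pt Pt F), (g : Matrix Pt Pt F) = 1 + X → X * X = 0 →
      ((g⁻¹ : GL Pt F) : Matrix Pt Pt F) = 1 - X := by
    intro g X hg hX
    have : (1 - X) * (g : Matrix Pt Pt F) = 1 := by
      rw [hg, sub_mul, one_mul, mul_add, mul_one, hX]
      abel
    calc ((g⁻¹ : GL Pt F) : Matrix Pt Pt F) = (1 - X) * (g : Matrix Pt Pt F) * ((g⁻¹ : GL Pt F) : Matrix Pt Pt F) := by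
          rw [this, one_mul]
      _ = 1 - X := by rw [mul_assoc, Units.mul_inv, mul_one]
  set X := Matrix.single (i, a) (i, b) t with hX
  set Y := Matrix.single (i, b) (j, b) (1 : F) with hY
  have hXX : X * X = 0 := by simp [X, Ne.symm hab]
  have hYY : Y * Y = 0 := by simp [Y, Ne.symm hij]
  have hYX : Y * X = 0 := by simp [X, Y, Ne.symm hij]
  refine ⟨⁅g, l⁆, M.mul_mem (M.mul_mem (M.mul_mem hg hl) (M.inv_mem hg)) (M.inv_mem hl), ?_⟩
  rw [commutatorElement_def, Units.val_mul, Units.val_mul, Units.val_mul, hgv, hlv, inv g X hgv hXX, inv l Y hlv hYY]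
  have hXY : X * Y = Matrix.single (i, a) (j, b) t := by simp [X, Y]
  rw [← hXY]
  have h1 : (1 + X) * (1 + Y) * (1 - X) = 1 + Y + X * Y := by
    simp only [mul_add, add_mul, mul_sub, sub_mul, one_mul, mul_one, mul_assoc, hXX, hYX, mul_zero]
    abel
  rw [h1]
  simp only [add_mul, mul_sub, one_mul, mul_one, mul_assoc, hYY, mul_zero]
  abel

end Ctx

end Cfsg.Agent.Heis12
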