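import Cfsg.Agent.Lib.Heis12Defs
import Cfsg.Agent.Lib.SymplecticType
import Cfsg.Agent.Lib.AschGenExtra

/-!
Coordinates for a group of symplectic type of order `3^5` in dimension nine, and maximality of its normaliser
from the statement about overgroups in the model.
-/

set_option autoImplicit false
set_option linter.unusedSectionVars false
set_option maxHeartbeats 1000000

namespace Cfsg.Agent.Heis12

open Matrix
open scoped MatrixGroups Kronecker commutatorElement

variable {F : Type*} [Field F]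

theorem z3_gen : ∀ k₀ k : ZMod 3, k₀ ≠ 0 → k = k₀ ∨ k = k₀ + k₀ ∨ k = 0 := by decide

theorem z3_neg : ∀ b : ZMod 3, b = -b → b = 0 := by decide

theorem z3_ne : ∀ b : ZMod 3, b ≠ 0 → b = 1 ∨ b = 2 := by decide

/-! ### Class two -/

/-- Commutators in a group of symplectic type of odd order are central. -/
theorem commutator_central {G : Type*} [Group G] [Finite G] {p : ℕ} [Fact p.Prime] (hp : p ≠ 2)
    (hG : IsPGroup p G) (hsymp : ∀ A : Subgroup G, A.Characteristic → IsMulCommutative A → IsCyclic A)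
    (x y : G) : ⁅x, y⁆ ∈ Subgroup.center G := by
  obtain ⟨E, K, hcomm, hsup, hE, hK⟩ := SymplecticType.decomposition hG hsymp
  have hKcyc : IsCyclic K := hK.resolve_right fun h => hp h.1
  have hKc : K ≤ Subgroup.center G := fun r hr => Subgroup.mem_center_iff.2 fun g => by
    have hle : E ⊔ K ≤ Subgroup.centralizer {r} := sup_le
      (fun e he => Subgroup.mem_centralizer_singleton_iff.2 (hcomm e he r hr))
      (fun s hs => Subgroup.mem_centralizer_singleton_iff.2
        (congrArg Subtype.val (IsCyclic.commGroup.mul_comm (⟨s, hs⟩ : K) ⟨r, hr⟩)))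
    exact Subgroup.mem_centralizer_singleton_iff.1 (hle (hsup ▸ Subgroup.mem_top g))
  have hEE : ∀ e ∈ E, ∀ f ∈ E, ⁅e, f⁆ ∈ Subgroup.center G := by
    intro e he f hf
    rcases hE with rfl | hE
    · rw [Subgroup.mem_bot.1 he, commutatorElement_one_left]
      exact one_mem _
    have hc : (⁅(⟨e, he⟩ : E), ⟨f, hf⟩⁆) ∈ Subgroup.center E := by
      rw [← hE.1.2.2]
      exact Subgroup.commutator_mem_commutator (Subgroup.mem_top _) (Subgroup.mem_top _)
    refine Subgroup.mem_center_iff.2 fun g => ?_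
    have hle : E ⊔ K ≤ Subgroup.centralizer {⁅e, f⁆} := sup_le
      (fun a ha => Subgroup.mem_centralizer_singleton_iff.2 (by
        simpa [commutatorElement_def] using congrArg Subtype.val (Subgroup.mem_center_iff.1 hc ⟨a, ha⟩)))
      (fun r hr => Subgroup.mem_centralizer_singleton_iff.2 (Subgroup.mem_center_iff.1 (hKc hr) _).symm)
    exact Subgroup.mem_centralizer_singleton_iff.1 (hle (hsup ▸ Subgroup.mem_top g))
  let π := QuotientGroup.mk' (Subgroup.center G)
  have hmap : ∀ a : G, π a ∈ E.map π := fun a => by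
    have h : E ⊔ K ≤ (E.map π).comap π := sup_le (Subgroup.le_comap_map π E) fun r hr => by
      rw [Subgroup.mem_comap, show π r = 1 from (QuotientGroup.eq_one_iff _).2 (hKc hr)]
      exact one_mem _
    exact h (hsup ▸ Subgroup.mem_top a)
  refine (QuotientGroup.eq_one_iff _).1 ?_
  show π ⁅x, y⁆ = 1
  obtain ⟨e, he, hxe⟩ := hmap x
  obtain ⟨f, hf, hyf⟩ := hmap y
  rw [map_commutatorElement, ← hxe, ← hyf, ← map_commutatorElement]
  exact (QuotientGroup.eq_one_iff _).2 (hEE e he f hf)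

/-! ### The context -/

theorem exists_ctx [Fintype F] {p : ℕ} (hp : p.Prime) (hF : Fintype.card F = p) (hp3 : p % 3 = 1) :
    Nonempty (Ctx F) := by
  classical
  haveI : Fact (Nat.Prime 3) := ⟨Nat.prime_three⟩
  haveI : Fact p.Prime := ⟨hp⟩
  haveI : CharP F p := charP_of_card_eq_prime hF
  have hne : ∀ r : ℕ, r.Prime → p ≠ r → ((r : ℕ) : F) ≠ 0 := fun r hr hne e =>
    hne ((Nat.prime_dvd_prime_iff_eq hp hr).1 ((CharP.cast_eq_zero_iff F p r).1 e))
  obtain ⟨u, hu⟩ := exists_prime_orderOf_dvd_card (G := Fˣ) 3 (by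
    rw [Fintype.card_units, hF]
    exact (Nat.modEq_iff_dvd' hp.one_le).1 (hp3.symm))
  refine ⟨⟨(u : F), ?_, fun e => ?_, ?_, ?_⟩⟩
  · rw [← Units.val_pow_eq_pow_val, ← hu, pow_orderOf_eq_one, Units.val_one]
  · rw [Units.val_eq_one.1 e, orderOf_one] at hu
    omega
  · exact_mod_cast hne 2 Nat.prime_two (by rintro rfl; omega)
  · exact_mod_cast hne 3 Nat.prime_three (by rintro rfl; omega)

/-! ### Change of coordinates -/

/-- Matrices in the two coordinate systems. -/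
noncomputable def matIso (L : (Pt → F) ≃ₗ[F] (Fin 9 → F)) : Matrix Pt Pt F ≃ₐ[F] Matrix (Fin 9) (Fin 9) F :=
  (Matrix.toLinAlgEquiv'.trans (L.conjAlgEquiv F)).trans LinearMap.toMatrixAlgEquiv'

/-- Groups in the two coordinate systems. -/
noncomputable def glIso (L : (Pt → F) ≃ₗ[F] (Fin 9 → F)) : GL Pt F ≃* GL (Fin 9) F :=
  Units.mapEquiv (matIso L).toMulEquiv

theorem matIso_mulVec (L : (Pt → F) ≃ₗ[F] (Fin 9 → F)) (M : Matrix Pt Pt F) (x : Pt → F) :
    matIso L M *ᵥ L x = L (M *ᵥ x) := by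
  show LinearMap.toMatrixAlgEquiv' (L.conjAlgEquiv F (Matrix.toLinAlgEquiv' M)) *ᵥ L x = _
  rw [← Matrix.toLinAlgEquiv'_apply, Matrix.toLinAlgEquiv'_toMatrixAlgEquiv',
    LinearEquiv.conjAlgEquiv_apply]
  simp [Matrix.toLinAlgEquiv'_apply]

theorem glIso_val (L : (Pt → F) ≃ₗ[F] (Fin 9 → F)) (g : GL Pt F) :
    (glIso L g : Matrix (Fin 9) (Fin 9) F) = matIso L g := rfl

theorem glIso_det (L : (Pt → F) ≃ₗ[F] (Fin 9 → F)) (g : GL Pt F) :
    (glIso L g : Matrix (Fin 9) (Fin 9) F).det = (g : Matrix Pt Pt F).det := by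
  have e : (glIso L g : Matrix (Fin 9) (Fin 9) F) =
      LinearMap.toMatrix' (L.conjAlgEquiv F (Matrix.toLinAlgEquiv' (g : Matrix Pt Pt F))) := rfl
  rw [e, LinearEquiv.conjAlgEquiv_apply, LinearMap.det_toMatrix', LinearMap.det_conj]
  exact LinearMap.det_toLin' _

theorem mem_sl_iff {ι : Type} [Fintype ι] [DecidableEq ι] (g : GL ι F) :
    g ∈ Cfsg.Geo.specialLinear ι F ↔ (g : Matrix ι ι F).det = 1 := by
  rw [Cfsg.Geo.specialLinear, MonoidHom.mem_ker, Units.ext_iff]
  rfl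

/-! ### The model -/

theorem W2_single (c : Ctx F) (v : Ph × Ph) (y : Pt) :
    c.W2 v *ᵥ Pi.single y 1 = (c.χ (v.1.2 * y.1) * c.χ (v.2.2 * y.2)) • Pi.single (y.1 + v.1.1, y.2 + v.2.1) 1 := by
  funext x
  rw [Matrix.mulVec_single_one, Pi.smul_apply, Pi.single_apply, Matrix.col_apply]
  show c.W v.1 x.1 y.1 * c.W v.2 x.2 y.2 = _
  simp only [Ctx.W_apply, Prod.ext_iff, smul_eq_mul]
  split_ifs <;> simp_all

/-- A transvection of determinant one does not normalise. -/
theorem exists_not_nr (c : Ctx F) : ∃ g ∈ Cfsg.Geo.specialLinear Pt F, ¬ c.Nr2 g := by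
  let i : Pt := (0, 0)
  let j : Pt := (1, 0)
  have hij : i ≠ j := by decide
  refine ⟨Units.mk (Matrix.transvection i j 1) (Matrix.transvection i j (-1))
    (by rw [Matrix.transvection_mul_transvection_same _ _ hij, add_neg_cancel, Matrix.transvection_zero])
    (by rw [Matrix.transvection_mul_transvection_same _ _ hij, neg_add_cancel, Matrix.transvection_zero]),
    (mem_sl_iff _).2 (Matrix.det_transvection_of_ne _ _ hij _), fun h => ?_⟩
  obtain ⟨a, w, e⟩ := h ((0, 1), (0, 0))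
  have e1 := congrFun (congrFun e i) i
  have e2 := congrFun (congrFun e i) j
  simp only [Matrix.smul_apply, smul_eq_mul, Matrix.transvection_mul_apply_same,
    Matrix.mul_transvection_apply_same, Matrix.mul_transvection_apply_of_ne _ _ _ _ hij] at e1 e2
  simp only [Ctx.W2, Matrix.kronecker, Matrix.kroneckerMap_apply, Ctx.W_apply, i, j, zero_add, mul_zero,
    mul_one, one_mul, add_zero, Ctx.χ_zero] at e1 e2
  by_cases hw : (0 : ZMod 3) = w.1.1 ∧ (0 : ZMod 3) = w.2.1
  · simp [← hw.1, ← hw.2, Ctx.χ_one] at e1 e2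
    rw [← e1] at e2
    exact c.ne_one e2
  · rcases not_and_or.1 hw with hw | hw <;> simp [hw] at e1

/-! ### Coordinates -/

/-- A root of the eigenvector equation. -/
theorem exists_eigen (c : Ctx F) {ι : Type} [Fintype ι] [DecidableEq ι] {b : Matrix ι ι F} (hb : b * (b * b) = 1)
    {u : ι → F} (hu : u ≠ 0) :
    ∃ k, u + c.χ (-k) • (b *ᵥ u) + c.χ (-(2 * k)) • (b *ᵥ (b *ᵥ u)) ≠ 0 ∧
      b *ᵥ (u + c.χ (-k) • (b *ᵥ u) + c.χ (-(2 * k)) • (b *ᵥ (b *ᵥ u))) =
        c.χ k • (u + c.χ (-k) • (b *ᵥ u) + c.χ (-(2 * k)) • (b *ᵥ (b *ᵥ u))) := by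
  have h3 : b *ᵥ (b *ᵥ (b *ᵥ u)) = u := by rw [mulVec_mulVec, mulVec_mulVec, mul_assoc, hb, one_mulVec]
  have heq : ∀ k, b *ᵥ (u + c.χ (-k) • (b *ᵥ u) + c.χ (-(2 * k)) • (b *ᵥ (b *ᵥ u))) =
      c.χ k • (u + c.χ (-k) • (b *ᵥ u) + c.χ (-(2 * k)) • (b *ᵥ (b *ᵥ u))) := fun k => by
    rw [mulVec_add, mulVec_add, mulVec_smul, mulVec_smul, h3, smul_add, smul_add, smul_smul, smul_smul, ← c.χ_add,
      ← c.χ_add, add_neg_cancel, c.χ_zero, one_smul, show k + -(2 * k) = -k by ring,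
      show -(2 * k) = k from (show ∀ k : ZMod 3, -(2 * k) = k by decide) k]
    abel
  by_contra h
  push Not at h
  have hz : ∀ k, u + c.χ (-k) • (b *ᵥ u) + c.χ (-(2 * k)) • (b *ᵥ (b *ᵥ u)) = 0 := fun k => by
    by_contra hne
    exact h k hne (heq k)
  refine hu (funext fun r => ?_)
  have e0 := congrFun (hz 0) r
  have e1 := congrFun (hz 1) r
  have e2 := congrFun (hz 2) r
  simp only [Pi.add_apply, Pi.smul_apply, smul_eq_mul, Pi.zero_apply,
    show (-0 : ZMod 3) = 0 from neg_zero, show (2 * 0 : ZMod 3) = 0 from mul_zero 2, show (-(2 * 1) : ZMod 3) = 1 from rfl,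
    show (-1 : ZMod 3) = 2 from rfl, show (-(2 * 2) : ZMod 3) = 2 from rfl, show (-2 : ZMod 3) = 1 from rfl,
    c.χ_zero, c.χ_one, c.χ_two] at e0 e1 e2
  refine (mul_eq_zero.1 (show (3 : F) * u r = 0 from ?_)).resolve_left c.three
  linear_combination e0 + e1 + e2 - ((b *ᵥ u) r + (b *ᵥ (b *ᵥ u)) r) * c.sum_eq

theorem exists_model [Fintype F] {R : Subgroup (GL (Fin 9) F)} (hR : Cfsg.Geo.IsLinearSymplecticTypeData 3 R)
    (c : Ctx F) : ∃ L : (Pt → F) ≃ₗ[F] (Fin 9 → F), ∀ g, glIso L g ∈ R ↔ c.InR0 g := by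
  classical
  haveI : Fact (Nat.Prime 3) := ⟨Nat.prime_three⟩
  haveI : Finite R := Subtype.finite
  obtain ⟨p, e, -, -, hcases⟩ := hR.field
  have hZ : Nat.card (Subgroup.center R) = 3 := by
    rcases hcases with ⟨-, -, h, -⟩ | ⟨h, -⟩ | ⟨h, -⟩
    · exact h
    · exact absurd h (by decide)
    · exact absurd h (by decide)
  have hirr : AschPrimeBasic.AbsIrred R := hR.absIrred
  have hexp : ∀ x ∈ R, x * (x * x) = 1 := fun x hx => by
    have h := congrArg Subtype.val (Monoid.pow_exponent_eq_one (⟨x, hx⟩ : R))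
    rw [hR.symplecticType.exponent_eq, show 3 * Nat.gcd 2 3 = 3 from rfl, Subgroup.coe_pow, Subgroup.coe_one,
      pow_succ', pow_two] at h
    exact h
  let sc : ZMod 3 → GL (Fin 9) F := fun k => Units.map (Matrix.scalar (Fin 9) : F →+* _).toMonoidHom
    (Units.mk0 (c.χ k) (c.χ_ne k))
  have hscv : ∀ k, (sc k : Matrix (Fin 9) (Fin 9) F) = c.χ k • 1 := fun k => by
    simp [sc, Matrix.smul_one_eq_diagonal]
  have hcen : ∀ z : R, z ∈ Subgroup.center R → ∃ k, (z : GL (Fin 9) F) = sc k := by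
    intro z hz
    obtain ⟨a, ha⟩ := hirr.2 ((z : GL (Fin 9) F) : Matrix (Fin 9) (Fin 9) F) (by
      rintro _ ⟨u, hu, rfl⟩
      rw [← Units.val_mul, ← Units.val_mul]
      exact congrArg Units.val (congrArg Subtype.val ((Subgroup.mem_center_iff.1 hz) ⟨u, hu⟩)).symm)
    have h3 := congrArg (fun g : GL (Fin 9) F => (g : Matrix (Fin 9) (Fin 9) F) 0 0) (hexp z z.2)
    simp only [Units.val_mul, Units.val_one, ha, smul_mul_smul_comm, one_mul, Matrix.smul_apply, Matrix.one_apply_eq,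
      smul_eq_mul, mul_one] at h3
    obtain ⟨k, hk⟩ := c.exists_χ (show a ^ 3 = 1 by rw [← h3]; ring)
    exact ⟨k, Units.ext (by rw [ha, hscv, hk])⟩
  have hscm : ∀ k, sc k ∈ R := by
    obtain ⟨z, hz⟩ := exists_prime_orderOf_dvd_card' (G := Subgroup.center R) 3 (by rw [hZ])
    obtain ⟨k₀, hk₀⟩ := hcen z z.2
    have hk0 : k₀ ≠ 0 := fun e => by
      have h1 : ((z : R) : GL (Fin 9) F) = 1 := hk₀.trans (Units.ext (by rw [hscv, e, c.χ_zero, one_smul]; rfl))
      have h2 : z = 1 := Subtype.ext (Subtype.ext h1)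
      rw [h2, orderOf_one] at hz
      omega
    have hmul : ∀ k l, sc (k + l) = sc k * sc l := fun k l => Units.ext (by
      rw [Units.val_mul, hscv, hscv, hscv, smul_mul_smul_comm, one_mul, c.χ_add])
    have h1 : sc k₀ ∈ R := hk₀ ▸ (z : R).2
    have h2 : sc (k₀ + k₀) ∈ R := hmul k₀ k₀ ▸ R.mul_mem h1 h1
    intro k
    rcases z3_gen k₀ k hk0 with rfl | rfl | rfl
    · exact h1
    · exact h2
    · rw [show sc 0 = 1 from Units.ext (by rw [hscv, c.χ_zero, one_smul]; rfl)]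
      exact one_mem _
  have hscz : ∀ {x : GL (Fin 9) F}, x ∈ R → x ∈ Cfsg.Geo.scalars (Fin 9) F → ∃ k, x = sc k := by
    intro x hx hxs
    refine hcen ⟨x, hx⟩ (Subgroup.mem_center_iff.2 fun g => Subtype.ext (Units.ext ?_))
    obtain ⟨a, ha⟩ := (Cfsg.Geo.mem_scalars_iff _).1 hxs
    simp [ha]
  have hcl : ∀ x y : R, ∃ k, (x : GL (Fin 9) F) * y = sc k * (y * x) := fun x y => by
    obtain ⟨k, hk⟩ := hcen _ (commutator_central (by norm_num) hR.symplecticType.pGroup
      hR.symplecticType.cyclic_of_characteristic x y)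
    refine ⟨k, ?_⟩
    rw [← hk]
    simp only [commutatorElement_def, Subgroup.coe_mul, Subgroup.coe_inv]
    group
  choose B hB using hcl
  have hscinj : ∀ {k l} {g : GL (Fin 9) F}, sc k * g = sc l * g → k = l := fun {k l g} h => by
    have := congrArg (fun g : GL (Fin 9) F => (g : Matrix (Fin 9) (Fin 9) F) 0 0) (mul_right_cancel h)
    simp only [hscv, Matrix.smul_apply, Matrix.one_apply_eq, smul_eq_mul, mul_one] at this
    exact c.χ_inj this
  have hscc : ∀ k (g : GL (Fin 9) F), g * sc k = sc k * g := fun k g => Units.ext (by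
    simp [hscv])
  have hscadd : ∀ k l, sc k * sc l = sc (k + l) := fun k l => Units.ext (by
    rw [Units.val_mul, hscv, hscv, hscv, smul_mul_smul_comm, one_mul, c.χ_add])
  have hBmul : ∀ x y z : R, B (x * y) z = B x z + B y z := fun x y z => by
    refine hscinj (g := (z : GL (Fin 9) F) * (x * y : R)) ?_
    rw [← hB, Subgroup.coe_mul, mul_assoc (x : GL (Fin 9) F), hB y z, ← mul_assoc (x : GL (Fin 9) F), hscc, mul_assoc,
      ← mul_assoc (x : GL (Fin 9) F), hB x z, ← hscadd]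
    simp only [mul_assoc]
    rw [← mul_assoc (sc (B y z)), hscadd, ← mul_assoc (sc (B x z)), hscadd, add_comm]
  have hBanti : ∀ x y : R, B y x = -B x y := fun x y => by
    refine hscinj (g := (x : GL (Fin 9) F) * y) ?_
    rw [← hB, hB x y, ← mul_assoc, hscadd, neg_add_cancel, show sc 0 = 1 from Units.ext (by
      rw [hscv, c.χ_zero, one_smul]; rfl), one_mul]
  have hBmul' : ∀ x y z : R, B z (x * y) = B z x + B z y := fun x y z => by
    rw [hBanti, hBmul, hBanti z x, hBanti z y]; ring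
  have hBself : ∀ x : R, B x x = 0 := fun x =>
    z3_neg _ (hBanti x x)
  have hBone : ∀ z : R, B 1 z = 0 := fun z => by
    have := hBmul 1 1 z
    rw [one_mul] at this
    exact add_eq_left.1 this.symm
  have hBpow : ∀ (x z : R) (n : ℕ), B (x ^ n) z = n * B x z := fun x z n => by
    induction n with
    | zero => rw [pow_zero, hBone, Nat.cast_zero, zero_mul]
    | succ n ih => rw [pow_succ, hBmul, ih, Nat.cast_succ]; ring
  have hBsc : ∀ {x : R}, (x : GL (Fin 9) F) ∈ Cfsg.Geo.scalars (Fin 9) F → ∀ z, B x z = 0 := fun {x} hx z => by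
    obtain ⟨k, hk⟩ := hscz x.2 hx
    refine hscinj (g := (z : GL (Fin 9) F) * x) ?_
    rw [← hB, hk, ← hscc, show sc 0 = 1 from Units.ext (by rw [hscv, c.χ_zero, one_smul]; rfl), one_mul]
  -- the quotient by the scalars
  let Z := (Cfsg.Geo.scalars (Fin 9) F).subgroupOf R
  have hq : Nat.card (R ⧸ Z) = 81 := by
    rw [AschGenExtra.card_quot (N := R) hirr (fun x hx y hy => ?_), Fintype.card_fin]
    obtain ⟨k, hk⟩ := hcen _ (commutator_central (by norm_num) hR.symplecticType.pGroup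
      hR.symplecticType.cyclic_of_characteristic (⟨x, hx⟩ : R) ⟨y, hy⟩)
    refine (Cfsg.Geo.mem_scalars_iff _).2 ⟨Units.mk0 (c.χ k) (c.χ_ne k), ?_⟩
    simp only [commutatorElement_def, Subgroup.coe_mul, Subgroup.coe_inv] at hk ⊢
    rw [hk, hscv]
    rfl
  have hsep : ∀ {x y : R}, (∀ z, B x z = B y z) → QuotientGroup.mk (s := Z) x = QuotientGroup.mk y := by
    intro x y h
    have h0 : ∀ z, B (x⁻¹ * y) z = 0 := fun z => by
      have e := hBmul x (x⁻¹ * y) z
      rw [mul_inv_cancel_left, ← h z] at e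
      exact add_eq_left.1 e.symm
    refine (QuotientGroup.eq).2 ?_
    have hc : ∀ g : R, g * (x⁻¹ * y) = x⁻¹ * y * g := fun g => Subtype.ext (by
      show (g : GL (Fin 9) F) * ((x⁻¹ * y : R) : GL (Fin 9) F) = ((x⁻¹ * y : R) : GL (Fin 9) F) * g
      rw [hB (x⁻¹ * y) g, h0, show sc 0 = 1 from Units.ext (by
        rw [hscv, c.χ_zero, one_smul]; rfl), one_mul])
    obtain ⟨k, hk⟩ := hcen (x⁻¹ * y) (Subgroup.mem_center_iff.2 hc)
    show ((x⁻¹ * y : R) : GL (Fin 9) F) ∈ Cfsg.Geo.scalars (Fin 9) F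
    rw [hk]
    exact (Cfsg.Geo.mem_scalars_iff _).2 ⟨Units.mk0 (c.χ k) (c.χ_ne k), hscv k⟩
  have hcardle : ∀ {α : Type} [Finite α] (f : R → α), (∀ x y, f x = f y → QuotientGroup.mk (s := Z) x = QuotientGroup.mk y) →
      81 ≤ Nat.card α := fun {α} _ f hf => by
    rw [← hq]
    exact Nat.card_le_card_of_injective (fun q : R ⧸ Z => f q.out) fun q q' e => by
      simpa using hf _ _ e
  -- two commuting hyperbolic pairs
  have hscale : ∀ x y : R, B x y ≠ 0 → ∃ b : R, B b y = 1 ∧ ∀ z, B x z = 0 → B b z = 0 := fun x y h => by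
    rcases z3_ne _ h with e | e
    · exact ⟨x, e, fun _ hz => hz⟩
    · exact ⟨x * x, by rw [hBmul, e]; rfl, fun z hz => by rw [hBmul, hz, add_zero]⟩
  obtain ⟨b₁, a₁, h₁⟩ : ∃ b a : R, B b a = 1 := by
    by_contra h
    push Not at h
    have := hcardle (α := Unit) (fun _ => ()) fun x y _ => hsep fun z => by
      have h0 : ∀ x, B x z = 0 := fun x => by
        by_contra hne
        obtain ⟨b, hb, -⟩ := hscale x z hne
        exact h b z hb
      rw [h0, h0]
    simp at this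
  obtain ⟨b₂, a₂, h₂, hba, hbb, haa, hab⟩ : ∃ b a : R, B b a = 1 ∧ B b a₁ = 0 ∧ B b b₁ = 0 ∧ B a a₁ = 0 ∧ B a b₁ = 0 := by
    by_contra h
    push Not at h
    have hC : ∀ x y : R, B x a₁ = 0 → B x b₁ = 0 → B y a₁ = 0 → B y b₁ = 0 → B x y = 0 := fun x y h1 h3 h4 h5 => by
      by_contra hne
      obtain ⟨b, hb, hb'⟩ := hscale x y hne
      exact h b y hb (hb' _ h1) (hb' _ h3) h4 h5
    have := hcardle (α := ZMod 3 × ZMod 3) (fun x => (B x a₁, B x b₁)) fun x y e => hsep fun z => by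
      obtain ⟨e1, e2⟩ := Prod.mk.inj e
      let d := x * y⁻¹
      have hd : ∀ w, B d w = B x w - B y w := fun w => by
        have := hBmul d y w
        rw [inv_mul_cancel_right] at this
        linear_combination -this
      let i := B z a₁
      let j := B z b₁
      let z' := z * b₁ ^ (-i).val * a₁ ^ j.val
      have hb1 : B b₁ a₁ = 1 := h₁
      have hz1 : B z' a₁ = 0 := by
        simp only [z', hBmul, hBpow, hb1, hBself, ZMod.natCast_zmod_val, i]; ring
      have hz2 : B z' b₁ = 0 := by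
        simp only [z', hBmul, hBpow, hBself, hBanti b₁ a₁, hb1, ZMod.natCast_zmod_val, j]; ring
      have := hC d z' (by rw [hd, e1, sub_self]) (by rw [hd, e2, sub_self]) hz1 hz2
      rw [hBanti, neg_eq_zero] at this
      simp only [z', hBmul, hBpow] at this
      have hda : B a₁ d = 0 := by rw [hBanti, hd, e1, sub_self, neg_zero]
      have hdb : B b₁ d = 0 := by rw [hBanti, hd, e2, sub_self, neg_zero]
      rw [hda, hdb, mul_zero, mul_zero, add_zero, add_zero, hBanti, hd, neg_eq_zero, sub_eq_zero] at this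
      exact this
    simp [ZMod.card] at this
  -- a common eigenvector
  obtain ⟨v, k₁, k₂, hv, hv₁, hv₂⟩ : ∃ (v : Fin 9 → F) (k₁ k₂ : ZMod 3), v ≠ 0 ∧
      ((b₁ : GL (Fin 9) F) : Matrix (Fin 9) (Fin 9) F) *ᵥ v = c.χ k₁ • v ∧
      ((b₂ : GL (Fin 9) F) : Matrix (Fin 9) (Fin 9) F) *ᵥ v = c.χ k₂ • v := by
    have hcub : ∀ x : R, ((x : GL (Fin 9) F) : Matrix (Fin 9) (Fin 9) F) * (((x : GL (Fin 9) F) : Matrix (Fin 9) (Fin 9) F) *
        ((x : GL (Fin 9) F) : Matrix (Fin 9) (Fin 9) F)) = 1 := fun x => by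
      rw [← Units.val_mul, ← Units.val_mul, hexp x x.2, Units.val_one]
    obtain ⟨k₁, hne, he⟩ := exists_eigen c (hcub b₁) (u := Pi.single 0 1) (by simp)
    generalize hu : (Pi.single 0 1 + c.χ (-k₁) • _ + c.χ (-(2 * k₁)) • _ : Fin 9 → F) = u at hne he
    obtain ⟨k₂, hne', he'⟩ := exists_eigen c (hcub b₂) hne
    refine ⟨_, k₁, k₂, hne', ?_, he'⟩
    have hcm : ∀ w : Fin 9 → F, ((b₁ : GL (Fin 9) F) : Matrix (Fin 9) (Fin 9) F) *ᵥ
        (((b₂ : GL (Fin 9) F) : Matrix (Fin 9) (Fin 9) F) *ᵥ w) = ((b₂ : GL (Fin 9) F) : Matrix (Fin 9) (Fin 9) F) *ᵥ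
        (((b₁ : GL (Fin 9) F) : Matrix (Fin 9) (Fin 9) F) *ᵥ w) := fun w => by
      rw [mulVec_mulVec, mulVec_mulVec, ← Units.val_mul, ← Units.val_mul, hB b₁ b₂, hBanti b₂ b₁, hbb, neg_zero,
        show sc 0 = 1 from Units.ext (by rw [hscv, c.χ_zero, one_smul]; rfl), one_mul]
    simp only [mulVec_add, mulVec_smul, hcm, he, smul_add, smul_smul, mul_comm (c.χ k₁)]
  let B₁ : R := ⟨sc (-k₁) * b₁, R.mul_mem (hscm _) b₁.2⟩
  let B₂ : R := ⟨sc (-k₂) * b₂, R.mul_mem (hscm _) b₂.2⟩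
  have hscR : ∀ k, ∀ z, B ⟨sc k, hscm k⟩ z = 0 := fun k z => hBsc ((Cfsg.Geo.mem_scalars_iff _).2
    ⟨Units.mk0 (c.χ k) (c.χ_ne k), by rw [hscv]; rfl⟩) z
  have hB₁ : ∀ z, B B₁ z = B b₁ z := fun z => by
    rw [show B₁ = ⟨sc (-k₁), hscm _⟩ * b₁ from rfl, hBmul, hscR, zero_add]
  have hB₂ : ∀ z, B B₂ z = B b₂ z := fun z => by
    rw [show B₂ = ⟨sc (-k₂), hscm _⟩ * b₂ from rfl, hBmul, hscR, zero_add]
  let m : R → Matrix (Fin 9) (Fin 9) F := fun x => ((x : GL (Fin 9) F) : Matrix (Fin 9) (Fin 9) F)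
  have hm : ∀ x y, m (x * y) = m x * m y := fun x y => by simp [m]
  have hfix : ∀ {b : R} {k : ZMod 3}, m b *ᵥ v = c.χ k • v → m (⟨sc (-k) * b, R.mul_mem (hscm _) b.2⟩) *ᵥ v = v := by
    intro b k h
    show ((sc (-k) * b : GL (Fin 9) F) : Matrix (Fin 9) (Fin 9) F) *ᵥ v = v
    rw [Units.val_mul, ← mulVec_mulVec, hscv, smul_mulVec, one_mulVec, show ((b : GL (Fin 9) F) : Matrix (Fin 9) (Fin 9) F) *ᵥ v = _ from h,
      smul_smul, ← c.χ_add, neg_add_cancel, c.χ_zero, one_smul]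
  have hv₁' : m B₁ *ᵥ v = v := hfix hv₁
  have hv₂' : m B₂ *ᵥ v = v := hfix hv₂
  have hswap : ∀ (x y : R) (w : Fin 9 → F), m x *ᵥ (m y *ᵥ w) = c.χ (B x y) • (m y *ᵥ (m x *ᵥ w)) := fun x y w => by
    simp only [m, mulVec_mulVec, ← Units.val_mul, hB x y]
    rw [Units.val_mul, hscv, Matrix.smul_mul, one_mul, smul_mulVec]
  let A : Pt → R := fun x => a₁ ^ x.1.val * a₂ ^ x.2.val
  let E : Pt → Fin 9 → F := fun x => m (A x) *ᵥ v
  have hBA : ∀ (z : R) (x : Pt), B z (A x) = x.1 * B z a₁ + x.2 * B z a₂ := fun z x => by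
    simp only [A, hBmul', hBanti (a₁ ^ _) z, hBanti (a₂ ^ _) z, hBpow, ZMod.natCast_zmod_val, hBanti z a₁, hBanti z a₂]
    ring
  have hb₁a₂ : B b₁ a₂ = 0 := by rw [hBanti, hab, neg_zero]
  have hE₁ : ∀ x, m B₁ *ᵥ E x = c.χ x.1 • E x := fun x => by
    simp only [E]
    rw [hswap, hv₁', hBA, hB₁, hB₁, h₁, hb₁a₂, mul_one, mul_zero, add_zero]
  have hE₂ : ∀ x, m B₂ *ᵥ E x = c.χ x.2 • E x := fun x => by
    simp only [E]
    rw [hswap, hv₂', hBA, hB₂, hB₂, h₂, hba, mul_one, mul_zero, zero_add]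
  have hpow3 : ∀ (x : R) (i j : ZMod 3), x ^ (i + j).val = x ^ i.val * x ^ j.val := fun x i j => by
    rw [← pow_add, ZMod.val_add]
    exact (pow_eq_pow_mod _ (Subtype.ext (by rw [Subgroup.coe_pow, pow_succ', pow_two, hexp x x.2]; rfl))).symm
  have hEA : ∀ x y : Pt, m (A x) *ᵥ E y = E (x + y) := fun x y => by
    simp only [E]
    rw [mulVec_mulVec, ← hm]
    congr 2
    have hc0 : Commute a₂ a₁ := Subtype.ext (by
      rw [Subgroup.coe_mul, Subgroup.coe_mul, hB a₂ a₁, haa, show sc 0 = 1 from Units.ext (by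
        rw [hscv, c.χ_zero, one_smul]; rfl), one_mul])
    have hc : Commute (a₂ ^ x.2.val) (a₁ ^ y.1.val) := hc0.pow_pow _ _
    simp only [A, Prod.fst_add, Prod.snd_add, hpow3]
    rw [mul_assoc, ← mul_assoc (a₂ ^ x.2.val), hc.eq]
    simp only [mul_assoc]
  have hEne : ∀ x, E x ≠ 0 := fun x h => hv (by
    have h' := congrArg (fun w => (((A x : GL (Fin 9) F)⁻¹ : GL (Fin 9) F) : Matrix (Fin 9) (Fin 9) F) *ᵥ w) h
    simpa [E, m, mulVec_mulVec] using h')
  have hind : LinearIndependent F E := by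
    rw [Fintype.linearIndependent_iff]
    intro g hg y
    have hproj : ∀ (b : R) (t : ZMod 3) (co : Pt → ZMod 3), (∀ x, m b *ᵥ E x = c.χ (co x) • E x) → ∀ g : Pt → F,
        ∑ x, g x • E x = 0 → ∑ x, (g x * if co x = t then 1 else 0) • E x = 0 := by
      intro b t co hb g hg
      have h1 : ∑ x, (g x * c.χ (co x)) • E x = 0 := by
        have := congrArg (fun w => m b *ᵥ w) hg
        simpa only [mulVec_sum, mulVec_smul, hb, smul_smul, mulVec_zero] using this
      have h3 : ∑ x, (g x * c.χ (2 * co x)) • E x = 0 := by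
        have := congrArg (fun w => m b *ᵥ w) h1
        simpa only [mulVec_sum, mulVec_smul, hb, smul_smul, mulVec_zero, mul_assoc, ← c.χ_add, ← two_mul] using this
      have h4 : ∑ x, (g x * ∑ i, c.χ (i * (co x - t))) • E x = 0 := by
        have e : ∀ x, g x * ∑ i, c.χ (i * (co x - t)) =
            g x + c.χ (-t) * (g x * c.χ (co x)) + c.χ (-(2 * t)) * (g x * c.χ (2 * co x)) := fun x => by
          rw [Ctx.sum_three, zero_mul, c.χ_zero, one_mul, sub_eq_add_neg, c.χ_add, mul_add (2 : ZMod 3), c.χ_add, mul_neg]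
          ring
        simp only [e, add_smul, Finset.sum_add_distrib, ← smul_smul (c.χ _), ← Finset.smul_sum, hg, h1, h3,
          smul_zero, add_zero]
      simp only [c.χ_sum, sub_eq_zero] at h4
      refine (smul_eq_zero.1 (show (3 : F) • ∑ x, (g x * if co x = t then (1 : F) else 0) • E x = 0 from ?_)).resolve_left c.three
      rw [Finset.smul_sum, ← h4]
      refine Finset.sum_congr rfl fun x _ => ?_
      rw [smul_smul]
      split_ifs <;> ring_nf
    have := hproj B₂ y.2 Prod.snd hE₂ _ (hproj B₁ y.1 Prod.fst hE₁ g hg)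
    rw [Finset.sum_eq_single y (fun x _ hxy => ?_) (by simp)] at this
    · simpa [hEne y] using this
    · rcases not_and_or.1 (fun h => hxy (Prod.ext h.1 h.2) : ¬ (x.1 = y.1 ∧ x.2 = y.2)) with h | h <;> simp [h]
  let bas := basisOfLinearIndependentOfCardEqFinrank hind (by simp [ZMod.card])
  refine ⟨bas.equivFun.symm, ?_⟩
  have hL : ∀ x, bas.equivFun.symm (Pi.single x 1) = E x := fun x => by
    simp [bas, Module.Basis.equivFun_symm_apply, Pi.single_apply]
  have himg : ∀ w : Ph × Ph, glIso bas.equivFun.symm (c.WU2 w) =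
      ((A (w.1.1, w.2.1) * B₁ ^ w.1.2.val * B₂ ^ w.2.2.val : R) : GL (Fin 9) F) := by
    intro w
    apply Units.ext
    show matIso bas.equivFun.symm (c.WU2 w : Matrix Pt Pt F) = m (A (w.1.1, w.2.1) * B₁ ^ w.1.2.val * B₂ ^ w.2.2.val)
    have hpw : ∀ (b : R) (co : Pt → ZMod 3), (∀ x, m b *ᵥ E x = c.χ (co x) • E x) → ∀ (n : ℕ) x,
        m (b ^ n) *ᵥ E x = c.χ (n * co x) • E x := by
      intro b co hb n x
      induction n with
      | zero => simp [m]
      | succ n ih =>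
        rw [pow_succ, hm, ← mulVec_mulVec, hb, mulVec_smul, ih, smul_smul, ← c.χ_add, Nat.cast_succ]
        congr 2
        ring
    refine Matrix.toLin'.injective ((bas.ext (fun x => ?_)))
    rw [show bas x = E x by simp [bas], Matrix.toLin'_apply, Matrix.toLin'_apply, hm, hm, ← mulVec_mulVec, ← mulVec_mulVec,
      hpw B₂ Prod.snd hE₂, mulVec_smul, hpw B₁ Prod.fst hE₁, mulVec_smul, mulVec_smul, hEA, ZMod.natCast_zmod_val,
      ZMod.natCast_zmod_val, ← hL x, matIso_mulVec, c.WU2_val, W2_single, map_smul, hL, smul_smul, mul_comm]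
    congr 2
    exact Prod.ext (add_comm _ _) (add_comm _ _)
  have hsc' : ∀ k (g : GL Pt F) w, (g : Matrix Pt Pt F) = c.χ k • c.W2 w →
      glIso bas.equivFun.symm g = sc k * glIso bas.equivFun.symm (c.WU2 w) := fun k g w h => by
    apply Units.ext
    rw [glIso_val, Units.val_mul, glIso_val, hscv, h, map_smul, Matrix.smul_mul, one_mul]
    rfl
  intro g
  constructor
  · intro hg
    let z : R := ⟨_, hg⟩
    let w : Ph × Ph := ((-B z B₁, B z a₁), (-B z B₂, B z a₂))
    let y : R := A (w.1.1, w.2.1) * B₁ ^ w.1.2.val * B₂ ^ w.2.2.val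
    have hy : ∀ u, B y u = w.1.1 * B a₁ u + w.2.1 * B a₂ u + w.1.2 * B b₁ u + w.2.2 * B b₂ u := fun u => by
      simp only [y, A, hBmul, hBpow, hB₁, hB₂, ZMod.natCast_zmod_val]
    let f : R → (ZMod 3 × ZMod 3) × (ZMod 3 × ZMod 3) := fun x => ((B x B₁, B x a₁), (B x B₂, B x a₂))
    have hfy : f y = f z := by
      have e1 : ∀ u, B u B₁ = B u b₁ := fun u => by rw [hBanti, hB₁, hBanti u b₁]; ring
      have e2 : ∀ u, B u B₂ = B u b₂ := fun u => by rw [hBanti, hB₂, hBanti u b₂]; ring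
      have h1' : B a₁ b₁ = -1 := by rw [hBanti, h₁]
      have h2' : B a₂ b₂ = -1 := by rw [hBanti, h₂]
      have h3 : B a₁ a₂ = 0 := by rw [hBanti, haa, neg_zero]
      have h4 : B a₁ b₂ = 0 := by rw [hBanti, hba, neg_zero]
      have h5 : B b₁ b₂ = 0 := by rw [hBanti, hbb, neg_zero]
      simp only [f, e1, e2, hy, w, h₁, h₂, hba, hbb, haa, hab, hb₁a₂, hBself, h1', h2', h3, h4, h5]
      ext <;> simp
    have hfs : Function.Surjective (fun q : R ⧸ Z => f q.out) := by
      rintro ⟨⟨r1, r2⟩, ⟨r3, r4⟩⟩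
      let y' : R := A (-r1, -r3) * B₁ ^ r2.val * B₂ ^ r4.val
      refine ⟨QuotientGroup.mk y', ?_⟩
      obtain ⟨u, hu⟩ := QuotientGroup.mk_out_eq_mul Z y'
      have hu0 : ∀ t, B (u : R) t = 0 := fun t => hBsc u.2 t
      have hy' : ∀ t, B (QuotientGroup.mk (s := Z) y').out t = -r1 * B a₁ t + -r3 * B a₂ t + r2 * B b₁ t + r4 * B b₂ t :=
        fun t => by
          rw [hu, hBmul, hu0, add_zero]
          simp only [y', A, hBmul, hBpow, hB₁, hB₂, ZMod.natCast_zmod_val]
      have e1 : ∀ u, B u B₁ = B u b₁ := fun u => by rw [hBanti, hB₁, hBanti u b₁]; ring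
      have e2 : ∀ u, B u B₂ = B u b₂ := fun u => by rw [hBanti, hB₂, hBanti u b₂]; ring
      have h1' : B a₁ b₁ = -1 := by rw [hBanti, h₁]
      have h2' : B a₂ b₂ = -1 := by rw [hBanti, h₂]
      have h3 : B a₁ a₂ = 0 := by rw [hBanti, haa, neg_zero]
      have h4 : B a₁ b₂ = 0 := by rw [hBanti, hba, neg_zero]
      have h5 : B b₁ b₂ = 0 := by rw [hBanti, hbb, neg_zero]
      simp only [f, e1, e2, hy', h₁, h₂, hba, hbb, haa, hab, hb₁a₂, hBself, h1', h2', h3, h4, h5]
      ext <;> simp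
    haveI : Fintype (R ⧸ Z) := Fintype.ofFinite _
    have hfb := (Fintype.bijective_iff_surjective_and_card _).2 ⟨hfs, by
      rw [← Nat.card_eq_fintype_card, hq]; simp [ZMod.card]⟩
    have hout : ∀ x : R, f (QuotientGroup.mk (s := Z) x).out = f x := fun x => by
      obtain ⟨u, hu⟩ := QuotientGroup.mk_out_eq_mul Z x
      have hu0 : ∀ t, B (u : R) t = 0 := fun t => hBsc u.2 t
      simp only [f, hu, hBmul, hu0, add_zero]
    have hzy : QuotientGroup.mk (s := Z) y = QuotientGroup.mk z :=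
      hfb.1 (show f _ = f _ by rw [hout, hout, hfy])
    obtain ⟨k, hk⟩ := hscz (x := ((y⁻¹ * z : R) : GL (Fin 9) F)) (SetLike.coe_mem _) ((QuotientGroup.eq (s := Z)).1 hzy)
    refine ⟨k, w, ?_⟩
    have : glIso bas.equivFun.symm g = sc k * glIso bas.equivFun.symm (c.WU2 w) := by
      rw [himg, ← hscc, ← hk, ← Subgroup.coe_mul]
      show (z : GL (Fin 9) F) = ((y * (y⁻¹ * z) : R) : GL (Fin 9) F)
      rw [mul_inv_cancel_left]
    have h' := congrArg (fun x : GL (Fin 9) F => (x : Matrix (Fin 9) (Fin 9) F)) this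
    simp only [Units.val_mul, glIso_val, hscv, Matrix.smul_mul, one_mul, c.WU2_val, ← map_smul] at h'
    exact (matIso _).injective h'
  · rintro ⟨k, w, h⟩
    rw [hsc' k g w h, himg]
    exact R.mul_mem (hscm k) (SetLike.coe_mem _)

/-- The clause for the group of symplectic type, given the statement about overgroups in the model. -/
theorem of_core {F : Type*} [Field F] [Fintype F] (hcore : ∀ c : Ctx F, c.CoreHyp)
    (hp : ∃ p : ℕ, p.Prime ∧ Fintype.card F = p ∧ p % 3 = 1)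
    (R : Subgroup (GL (Fin 9) F)) (hR : Cfsg.Geo.IsLinearSymplecticTypeData 3 R) :
    Cfsg.Geo.IsMaximalIn (Cfsg.Geo.specialLinear (Fin 9) F)
      (Cfsg.Geo.subgroupNormalizer R ⊓ Cfsg.Geo.specialLinear (Fin 9) F) := by
  classical
  obtain ⟨p, hp, hF, hp3⟩ := hp
  obtain ⟨c⟩ := exists_ctx hp hF hp3
  obtain ⟨L, hL⟩ := exists_model hR c
  have hexp : ∀ x ∈ R, x ^ 3 = 1 := fun x hx => by
    have h := congrArg Subtype.val (Monoid.pow_exponent_eq_one (⟨x, hx⟩ : R))
    rwa [hR.symplecticType.exponent_eq, show 3 * Nat.gcd 2 3 = 3 from rfl, Subgroup.coe_pow, Subgroup.coe_one] at h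
  have hN : ∀ g, glIso L g ∈ Cfsg.Geo.subgroupNormalizer R ↔ c.Nr2 g := by
    intro g
    constructor
    · intro h v
      have h1 : glIso L (c.WU2 v) ∈ R := (hL _).2 ⟨0, v, by rw [c.χ_zero, one_smul]; rfl⟩
      have h3 := (Subgroup.mem_normalizer_iff.1 h _).1 h1
      rw [← map_inv, ← map_mul, ← map_mul] at h3
      obtain ⟨k, w, e⟩ := (hL _).1 h3
      refine ⟨c.χ k, w, ?_⟩
      rw [Units.val_mul, Units.val_mul, c.WU2_val] at e
      have e' := congrArg (fun X => X * (g : Matrix Pt Pt F)) e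
      simp only [mul_assoc, Units.inv_mul, mul_one, Matrix.smul_mul] at e'
      exact e'
    · intro h
      haveI : Finite (GL (Fin 9) F) := inferInstance
      refine Subgroup.mem_normalizer_fintype fun x hx => ?_
      obtain ⟨x, rfl⟩ := (glIso L).surjective x
      obtain ⟨k, v, hv⟩ := (hL x).1 hx
      obtain ⟨a, w, e⟩ := h v
      show glIso L g * glIso L x * (glIso L g)⁻¹ ∈ R
      rw [← map_inv, ← map_mul, ← map_mul]
      have hval : ((g * x * g⁻¹ : GL Pt F) : Matrix Pt Pt F) = (c.χ k * a) • c.W2 w := by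
        rw [Units.val_mul, Units.val_mul, hv, Matrix.mul_smul, e, smul_smul, Matrix.smul_mul, mul_assoc,
          Units.mul_inv, mul_one]
      have hw3 : c.W2 w ^ 3 = 1 := by
        have h1 := hexp _ ((hL (c.WU2 w)).2 ⟨0, w, by rw [c.χ_zero, one_smul]; rfl⟩)
        rw [← map_pow, ← map_one (glIso L), (glIso L).injective.eq_iff] at h1
        simpa [c.WU2_val] using congrArg Units.val h1
      have hx3 : (g * x * g⁻¹) ^ 3 = 1 := by
        have h1 := hexp _ hx
        rw [← map_pow, ← map_one (glIso L), (glIso L).injective.eq_iff] at h1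
        rw [conj_pow, h1, mul_one, mul_inv_cancel]
      have ha : (c.χ k * a) ^ 3 = 1 := by
        have h1 := congrArg (fun u : GL Pt F => (u : Matrix Pt Pt F)) hx3
        simp only [Units.val_pow_eq_pow_val] at h1
        rw [hval, smul_pow, hw3, Units.val_one] at h1
        simpa using congrFun (congrFun h1 0) 0
      obtain ⟨l, hl⟩ := c.exists_χ ha
      exact (hL _).2 ⟨l, w, by rw [hval, hl]⟩
  have hG : ∀ g, glIso L g ∈ Cfsg.Geo.specialLinear (Fin 9) F ↔ g ∈ Cfsg.Geo.specialLinear Pt F := fun g => by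
    rw [mem_sl_iff, mem_sl_iff, glIso_det]
  have hN' : ∀ g, glIso L g ∈ Cfsg.Geo.subgroupNormalizer R ⊓ Cfsg.Geo.specialLinear (Fin 9) F ↔
      c.Nr2 g ∧ g ∈ Cfsg.Geo.specialLinear Pt F := fun g => by
    rw [Subgroup.mem_inf, hN, hG]
  refine ⟨lt_of_le_of_ne inf_le_right fun h => ?_, fun M hHM hMG => ?_⟩
  · obtain ⟨t, ht, htn⟩ := exists_not_nr c
    have := (hG t).2 ht
    rw [← h, hN'] at this
    exact htn this.1
  · let M' : Subgroup (GL Pt F) := M.comap (glIso L).toMonoidHom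
    have hM' : M' ≤ Cfsg.Geo.specialLinear Pt F := fun g hg => (hG g).1 (hMG hg)
    have hO : c.Over M' := ⟨hM', fun g hg hn => hHM ((hN' g).2 ⟨hn, hg⟩)⟩
    rcases hcore c M' hO with h | h
    · refine Or.inl (le_antisymm (fun g hg => ?_) hHM)
      obtain ⟨g, rfl⟩ := (glIso L).surjective g
      exact (hN' g).2 ⟨h g hg, hM' hg⟩
    · refine Or.inr (le_antisymm hMG fun g hg => ?_)
      obtain ⟨g, rfl⟩ := (glIso L).surjective g
      exact h ((hG g).1 hg)

end Cfsg.Agent.Heis12
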