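import Cfsg.Agent.Lib.Heis12Qlocal

/-!
Two qutrits: the Weyl matrices of `3^(1+4)` on `F^9`, the normalising matrices, and the model of the
group of symplectic type.
-/

set_option autoImplicit false
set_option linter.unusedSectionVars false

namespace Cfsg.Agent.Heis12

open Matrix
open scoped MatrixGroups Kronecker

/-- The nine coordinates. -/
abbrev Pt : Type := ZMod 3 × ZMod 3

variable {F : Type*} [Field F]

/-- The tensor product of two invertible matrices. -/
def kr (A B : GL Z3 F) : GL Pt F where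
  val := (A : Matrix Z3 Z3 F) ⊗ₖ (B : Matrix Z3 Z3 F)
  inv := ((A⁻¹ : GL Z3 F) : Matrix Z3 Z3 F) ⊗ₖ ((B⁻¹ : GL Z3 F) : Matrix Z3 Z3 F)
  val_inv := by rw [← Matrix.mul_kronecker_mul, Units.mul_inv, Units.mul_inv, Matrix.one_kronecker_one]
  inv_val := by rw [← Matrix.mul_kronecker_mul, Units.inv_mul, Units.inv_mul, Matrix.one_kronecker_one]

theorem kr_val (A B : GL Z3 F) : (kr A B : Matrix Pt Pt F) = (A : Matrix Z3 Z3 F) ⊗ₖ (B : Matrix Z3 Z3 F) := rfl

theorem kr_mul (A B A' B' : GL Z3 F) : kr A B * kr A' B' = kr (A * A') (B * B') :=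
  Units.ext (by simp only [Units.val_mul, kr_val, Matrix.mul_kronecker_mul])

theorem kr_one : kr (1 : GL Z3 F) 1 = 1 :=
  Units.ext (by simp only [kr_val, Units.val_one, Matrix.one_kronecker_one])

theorem kr_inv (A B : GL Z3 F) : (kr A B)⁻¹ = kr A⁻¹ B⁻¹ :=
  inv_eq_of_mul_eq_one_right (by rw [kr_mul, mul_inv_cancel, mul_inv_cancel, kr_one])

theorem kr_det (A B : GL Z3 F) : (kr A B : Matrix Pt Pt F).det =
    (A : Matrix Z3 Z3 F).det ^ 3 * (B : Matrix Z3 Z3 F).det ^ 3 := by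
  rw [kr_val, Matrix.det_kronecker]
  simp [ZMod.card]

namespace Ctx

variable (c : Ctx F)

/-- The Weyl matrix of two qutrits. -/
def W2 (v : Ph × Ph) : Matrix Pt Pt F := c.W v.1 ⊗ₖ c.W v.2

/-- The Weyl matrix of two qutrits, as an element of the group. -/
def WU2 (v : Ph × Ph) : GL Pt F := kr (c.WU v.1) (c.WU v.2)

theorem WU2_val (v : Ph × Ph) : (c.WU2 v : Matrix Pt Pt F) = c.W2 v := rfl

/-- The matrix normalises the Weyl matrices of two qutrits up to scalars. -/
def Nr2 (g : GL Pt F) : Prop :=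
  ∀ v : Ph × Ph, ∃ (a : F) (w : Ph × Ph), (g : Matrix Pt Pt F) * c.W2 v = a • (c.W2 w * (g : Matrix Pt Pt F))

/-- Membership in the model of the group of order `3^5`. -/
def InR0 (g : GL Pt F) : Prop := ∃ (k : ZMod 3) (v : Ph × Ph), (g : Matrix Pt Pt F) = c.χ k • c.W2 v

/-- The overgroup hypothesis in the model. -/
def Over (M : Subgroup (GL Pt F)) : Prop :=
  M ≤ Cfsg.Geo.specialLinear Pt F ∧ ∀ g ∈ Cfsg.Geo.specialLinear Pt F, c.Nr2 g → g ∈ M

/-- What the model argument establishes. -/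
def CoreHyp : Prop :=
  ∀ M : Subgroup (GL Pt F), c.Over M → (∀ g ∈ M, c.Nr2 g) ∨ Cfsg.Geo.specialLinear Pt F ≤ M

end Ctx

end Cfsg.Agent.Heis12
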