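import Cfsg.Agent.Lib.Heis12Qlocal

/-!
A subgroup of a product of two copies of `GL_3(p)` containing the diagonal normaliser of the Weyl
matrices: either both projections normalise, or a kernel contains a non-scalar matrix, or a diagonal
transvection is present.
-/

set_option autoImplicit false
set_option linter.unusedSectionVars false

namespace Cfsg.Agent.Heis12

open Matrix
open scoped MatrixGroups commutatorElement

variable {F : Type*} [Field F]

/-- An elementary transvection of `GL_3`. -/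
def el (i j : Z3) (h : i ≠ j) (t : F) : GL Z3 F :=
  SpecialLinearGroup.toGL (SpecialLinearGroup.transvection h t)

theorem el_val (i j : Z3) (h : i ≠ j) (t : F) : (el i j h t : Matrix Z3 Z3 F) = Matrix.transvection i j t := rfl

theorem el_sl (i j : Z3) (h : i ≠ j) (t : F) : el i j h t ∈ Cfsg.Geo.specialLinear Z3 F :=
  mem_sl.2 (SpecialLinearGroup.transvection h t).2

theorem el_mul (i j : Z3) (h : i ≠ j) (t u : F) : el i j h t * el i j h u = el i j h (t + u) :=
  Units.ext (by
    rw [Units.val_mul, el_val, el_val, el_val]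
    exact Matrix.transvection_mul_transvection_same (i := i) (j := j) h t u)

theorem el_zero (i j : Z3) (h : i ≠ j) : el i j h (0 : F) = 1 :=
  Units.ext (by rw [el_val, Matrix.transvection_zero, Units.val_one])

theorem el_pow (i j : Z3) (h : i ≠ j) (t : F) (n : ℕ) : el i j h t ^ n = el i j h (n * t) := by
  induction n with
  | zero => simp [el_zero]
  | succ n ih => rw [pow_succ, ih, el_mul]; congr 1; push_cast; ring

theorem el_comm {i j k : Z3} (hik : i ≠ k) (hkj : k ≠ j) (hij : i ≠ j) (a b : F) :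
    ⁅el i k hik a, el k j hkj b⁆ = el i j hij (a * b) := by
  rw [el, el, ← map_commutatorElement, PSLSimple.commutator_transvection hik hkj hij]
  rfl

theorem el_not_scalar (i j : Z3) (h : i ≠ j) {t : F} (ht : t ≠ 0) (a : F) :
    (el i j h t : Matrix Z3 Z3 F) ≠ a • 1 := fun e => by
  have := congrFun (congrFun e i) j
  simp [el_val, Matrix.transvection, h] at this
  exact ht this

/-- A `p`-element is unipotent of nilpotency index at most three. -/
theorem cube_sub_one {p : ℕ} [Fact p.Prime] [CharP F p] {B : Matrix Z3 Z3 F} {a : ℕ} (hB : B ^ (p ^ a) = 1) :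
    (B - 1) ^ 3 = 0 := by
  haveI : CharP (Matrix Z3 Z3 F) p := inferInstance
  have h : IsNilpotent (B - 1) := ⟨p ^ a, by
    rw [sub_pow_char_pow_of_commute p a (Commute.one_right B), hB, one_pow, sub_self]⟩
  have h1 := Matrix.aeval_self_charpoly (B - 1)
  have h2 := (Matrix.isNilpotent_charpoly_sub_pow_of_isNilpotent h).eq_zero
  rw [sub_eq_zero] at h2
  rw [h2, map_pow, Polynomial.aeval_X, ZMod.card] at h1
  exact h1

/-- A power of `1 + N` with `N ^ 3 = 0`, through its quadratic logarithm. -/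
theorem log_pow {R : Type*} [Ring R] {N : R} (hN : N ^ 3 = 0) (k : ℕ) :
    2 • ((1 + N) ^ k - 1) - ((1 + N) ^ k - 1) ^ 2 = k • (2 • N - N ^ 2) := by
  obtain ⟨c, hck, hc⟩ : ∃ c : ℕ, 2 * c + k = k * k ∧ (1 + N) ^ k = 1 + k • N + c • N ^ 2 := by
    induction k with
    | zero => exact ⟨0, rfl, by simp⟩
    | succ k ih =>
      obtain ⟨c, hck, hc⟩ := ih
      refine ⟨c + k, by linear_combination hck, ?_⟩
      rw [pow_succ, hc]
      have : N ^ 2 * N = 0 := by rw [← pow_succ, hN]
      simp only [mul_add, mul_one, add_mul, one_mul, smul_mul_assoc, ← sq, this, smul_zero, add_zero, add_smul,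
        one_smul]
      abel
  rw [hc]
  have e : (k • N + c • N ^ 2) ^ 2 = (k * k) • N ^ 2 := by
    have h3 : N * N ^ 2 = 0 := by rw [← pow_succ', hN]
    have h4 : N ^ 2 * N = 0 := by rw [← pow_succ, hN]
    have h5 : N ^ 2 * N ^ 2 = 0 := by rw [← pow_add, pow_succ, hN, zero_mul]
    rw [sq (k • N + c • N ^ 2)]
    simp only [add_mul, mul_add, smul_mul_assoc, mul_smul_comm, h3, h4, h5, smul_zero,
      add_zero, smul_smul, show N * N = N ^ 2 from (sq N).symm]
  rw [add_assoc, add_sub_cancel_left, e, ← hck, add_smul, smul_add, smul_sub, smul_smul, smul_smul, smul_smul,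
    mul_comm k 2]
  abel

namespace Ctx

variable (c : Ctx F)

theorem el_not_nr (i j : Z3) (h : i ≠ j) : ¬ c.Nr1 (el i j h (1 : F)) := by
  intro hn
  obtain ⟨a, w, haw⟩ := hn (0, 1)
  have hW : ∀ x y, c.W (0, 1) x y = if x = y then c.χ y else 0 := fun x y => by simp [W_apply]
  have e : ∀ x y, ((el i j h (1 : F) : Matrix Z3 Z3 F) * c.W (0, 1)) x y =
      a * (c.W w * (el i j h (1 : F) : Matrix Z3 Z3 F)) x y := fun x y => by rw [haw]; rfl
  have hii := e i i
  have hij := e i j
  rw [el_val, Matrix.transvection, add_mul, mul_add, one_mul, mul_one] at hii hij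
  simp [hW, h, h.symm] at hii hij
  have hw1 : w.1 = 0 := by
    by_contra hne
    rw [W_apply, if_neg (by simpa using hne), mul_zero] at hii
    exact c.χ_ne _ hii
  rw [W_apply, hw1, add_zero, if_pos rfl] at hii
  rw [W_apply, W_apply, hw1, add_zero, add_zero, if_neg h, if_pos rfl, zero_add, ← hii] at hij
  exact h (c.χ_inj hij).symm

variable {G : Type*} [Group G] [Finite F] (π π' : G →* GL Z3 F) {p : ℕ} [Fact p.Prime] [CharP F p]

/-- One projection is the whole special linear group and the other normalises: impossible. -/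
theorem mixed (h36 : ((36 : ℕ) : F) ≠ 0) (hsl : Cfsg.Geo.specialLinear Z3 F ≤ π.range) (hnr : ∀ g, c.Nr1 (π' g))
    (hk : ∀ g, π' g = 1 → ∃ a : F, (π g : Matrix Z3 Z3 F) = a • 1) : False := by
  have h01 : (0 : Z3) ≠ 1 := by decide
  have h12 : (1 : Z3) ≠ 2 := by decide
  have h02 : (0 : Z3) ≠ 2 := by decide
  have lift : ∀ (i j : Z3) (hij : i ≠ j), ∃ g, π g = el i j hij 1 ∧ ∀ x : GL Z3 F, π' g * x = x * π' g := by
    intro i j hij
    obtain ⟨g, hg⟩ := hsl (el_sl i j hij ((36 : ℕ) : F)⁻¹)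
    refine ⟨g ^ 36, by rw [map_pow, hg, el_pow, mul_inv_cancel₀ h36], ?_⟩
    obtain ⟨φ, hd, hact⟩ := c.nr_act (hnr g)
    have h4 := c.act_mul (c.act_mul hact hact) (c.act_mul hact hact)
    have h12act := c.act_mul h4 (c.act_mul h4 h4)
    rw [(show ∀ φ : Tw, tdet φ = 1 → tmul (tmul (tmul φ φ) (tmul φ φ))
      (tmul (tmul (tmul φ φ) (tmul φ φ)) (tmul (tmul φ φ) (tmul φ φ))) = tone by decide) φ hd] at h12act
    have hp12 : π' g ^ 12 = π' g * π' g * (π' g * π' g) *
        (π' g * π' g * (π' g * π' g) * (π' g * π' g * (π' g * π' g))) := by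
      simp only [pow_succ, pow_zero, one_mul, mul_assoc]
    obtain ⟨a, u, hau⟩ := c.eq_smul_W (A := π' g ^ 12) (hp12 ▸ h12act)
    have hz : c.W u * (c.W u * c.W u) = 1 := by
      rw [W_mul, Matrix.mul_smul, W_mul, smul_smul, ← c.χ_add,
        (show ∀ v : Ph, v + (v + v) = 0 by decide) u,
        (show ∀ v : Ph, v.2 * v.1 + v.2 * (v + v).1 = 0 by decide) u, W_zero, χ_zero, one_smul]
    intro x
    have e : ((π' (g ^ 36) : GL Z3 F) : Matrix Z3 Z3 F) = a ^ 3 • 1 := by
      rw [map_pow, show (36 : ℕ) = 12 * 3 by norm_num, pow_mul, Units.val_pow_eq_pow_val, hau, smul_pow,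
        show c.W u ^ 3 = c.W u * (c.W u * c.W u) by rw [pow_succ', pow_two], hz]
    exact Units.ext (by rw [Units.val_mul, Units.val_mul, e, Matrix.smul_mul, Matrix.mul_smul, one_mul, mul_one])
  obtain ⟨g, hg, hgc⟩ := lift 0 1 h01
  obtain ⟨h, hh, hhc⟩ := lift 1 2 h12
  obtain ⟨a, ha⟩ := hk ⁅g, h⁆ (by
    rw [map_commutatorElement, commutatorElement_eq_one_iff_mul_comm]
    exact hgc _)
  rw [map_commutatorElement, hg, hh, el_comm h01 h12 h02, one_mul] at ha
  exact el_not_scalar 0 2 h02 one_ne_zero a ha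

/-- Both projections are the whole special linear group: a transvection is diagonal. -/
theorem both (hp3 : 3 < p) (hsurj : ∀ x : F, ∃ n : ℕ, (n : F) = x) (hsl : Cfsg.Geo.specialLinear Z3 F ≤ π.range)
    (hk : ∀ g, π g = 1 → ∃ a : F, (π' g : Matrix Z3 Z3 F) = a • 1)
    (hk' : ∀ g, π' g = 1 → ∃ a : F, (π g : Matrix Z3 Z3 F) = a • 1)
    (hD : ∃ g, π g = c.WU (0, 1) ∧ π' g = c.WU (0, 1)) (hT : ∃ g, π g = c.WU (1, 0) ∧ π' g = c.WU (1, 0))
    (hJ : ∃ g, π g = c.Jn ∧ π' g = c.Jn) :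
    ∃ g, π g = el 0 1 (by decide) 1 ∧ π' g = el 0 1 (by decide) 1 := by
  classical
  have h2 : (2 : F) ≠ 0 := c.two
  have h01 : (0 : Z3) ≠ 1 := by decide
  have h12 : (1 : Z3) ≠ 2 := by decide
  have h02 : (0 : Z3) ≠ 2 := by decide
  have hp := (Fact.out : p.Prime)
  -- lifts with unipotent partner
  have exlift : ∀ (i j : Z3) (hij : i ≠ j) (t : F), ∃ g, π g = el i j hij t ∧ π' g ^ p = 1 := by
    intro i j hij t
    obtain ⟨g, hg⟩ := hsl (el_sl i j hij t)
    obtain ⟨a, m, hpm, hN⟩ := Nat.exists_eq_pow_mul_and_not_dvd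
      (Nat.card_pos (α := GL Z3 F)).ne' p hp.ne_one
    obtain ⟨u, hu⟩ := hsurj ((m : F))⁻¹
    have hm : (m : F) ≠ 0 := by rwa [Ne, CharP.cast_eq_zero_iff F p]
    refine ⟨g ^ (m * u), ?_, ?_⟩
    · rw [map_pow, hg, el_pow, Nat.cast_mul, hu, mul_inv_cancel₀ hm, one_mul]
    · have h1 : ((π' (g ^ (m * u)) : GL Z3 F) : Matrix Z3 Z3 F) ^ (p ^ a) = 1 := by
        rw [← Units.val_pow_eq_pow_val, map_pow, ← pow_mul, show m * u * p ^ a = p ^ a * m * u by ring, ← hN,
          pow_mul, pow_card_eq_one', one_pow, Units.val_one]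
      have h3 := cube_sub_one h1
      refine Units.ext ?_
      rw [Units.val_pow_eq_pow_val, Units.val_one, ← sub_eq_zero]
      have := sub_pow_char_of_commute (p := p) (Commute.one_right ((π' (g ^ (m * u)) : GL Z3 F) : Matrix Z3 Z3 F))
      rw [one_pow] at this
      rw [← this]
      exact pow_eq_zero_of_le hp3.le h3
  -- their uniqueness
  have uniq : ∀ g g', π g = π g' → π' g ^ p = 1 → π' g' ^ p = 1 → π' g = π' g' := by
    intro g g' he h1 h1'
    obtain ⟨a, ha⟩ := hk (g⁻¹ * g') (by rw [map_mul, map_inv, he, inv_mul_cancel])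
    rw [map_mul, map_inv] at ha
    have e : ((π' g' : GL Z3 F) : Matrix Z3 Z3 F) = a • ((π' g : GL Z3 F) : Matrix Z3 Z3 F) := by
      have := congrArg (fun X => ((π' g : GL Z3 F) : Matrix Z3 Z3 F) * X) ha
      simpa [← mul_assoc, Matrix.mul_smul] using this
    have h := congrArg Units.val h1'
    rw [Units.val_pow_eq_pow_val, e, smul_pow, ← Units.val_pow_eq_pow_val, h1, Units.val_one] at h
    have h0 := congrFun (congrFun h 0) 0
    simp at h0
    have ha1 : a = 1 := by
      have : (a - 1) ^ p = 0 := by rw [sub_pow_char, h0, one_pow, sub_self]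
      exact sub_eq_zero.1 (pow_eq_zero_iff hp.ne_zero |>.1 this)
    exact Units.ext (by rw [e, ha1, one_smul])
  have cj : ∀ (d g : G), π' g ^ p = 1 → π' (d * g * d⁻¹) ^ p = 1 := fun d g h => by
    rw [map_mul, map_mul, map_inv, conj_pow, h, mul_one, mul_inv_cancel]
  obtain ⟨g, hg, hgp⟩ := exlift 0 1 h01 1
  obtain ⟨d, hd, hd'⟩ := hD
  obtain ⟨t, ht, ht'⟩ := hT
  obtain ⟨j, hj, hj'⟩ := hJ
  set B : Matrix Z3 Z3 F := ((π' g : GL Z3 F) : Matrix Z3 Z3 F) with hB
  set N : Matrix Z3 Z3 F := B - 1 with hNdef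
  have hN3 : N ^ 3 = 0 := cube_sub_one (a := 1) (B := B) (by
    rw [pow_one, hB, ← Units.val_pow_eq_pow_val, hgp, Units.val_one])
  set Y : Matrix Z3 Z3 F := 2 • N - N ^ 2 with hYdef
  -- the conjugates of the lift
  have econj : ∀ (A : GL Z3 F) (v : F) (i i' : Z3) (hi : i ≠ i'),
      (A : Matrix Z3 Z3 F) * (el 0 1 h01 (1 : F) : Matrix Z3 Z3 F) = (el i i' hi v : Matrix Z3 Z3 F) * (A : Matrix Z3 Z3 F) →
      A * el 0 1 h01 1 * A⁻¹ = el i i' hi v := fun A v i i' hi e => by
    rw [mul_inv_eq_iff_eq_mul]; exact Units.ext e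
  have tvw : ∀ (i j : Z3) (v : F) (x y : Z3), Matrix.transvection i j v x y =
      (if x = y then 1 else 0) + (if i = x ∧ j = y then v else 0) := fun i j v x y => by
    simp [Matrix.transvection, Matrix.one_apply, Matrix.single_apply]
  have eD : c.WU (0, 1) * el 0 1 h01 1 * (c.WU (0, 1))⁻¹ = el 0 1 h01 (c.ω ^ 2) := by
    refine econj _ _ _ _ _ ?_
    ext x y
    simp only [el_val, WU_val, Matrix.mul_apply, c.sum_z, tvw, W_apply]
    rcases (show ∀ a : ZMod 3, a = 0 ∨ a = 1 ∨ a = 2 by decide) x with rfl | rfl | rfl <;>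
      rcases (show ∀ a : ZMod 3, a = 0 ∨ a = 1 ∨ a = 2 by decide) y with rfl | rfl | rfl <;>
        simp +decide [c.χ_one, c.χ_two]
    linear_combination -c.cube
  have eT : c.WU (1, 0) * el 0 1 h01 1 * (c.WU (1, 0))⁻¹ = el 1 2 h12 1 := by
    refine econj _ _ _ _ _ ?_
    ext x y
    simp only [el_val, WU_val, Matrix.mul_apply, c.sum_z, tvw, W_apply]
    rcases (show ∀ a : ZMod 3, a = 0 ∨ a = 1 ∨ a = 2 by decide) x with rfl | rfl | rfl <;>
      rcases (show ∀ a : ZMod 3, a = 0 ∨ a = 1 ∨ a = 2 by decide) y with rfl | rfl | rfl <;>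
        simp +decide
  have eJ : c.Jn * el 0 1 h01 1 * c.Jn⁻¹ = el 0 2 h02 1 := by
    refine econj _ _ _ _ _ ?_
    ext x y
    simp only [el_val, Jn_val, Matrix.mul_apply, c.sum_z, tvw, Matrix.neg_apply, Jm, Matrix.of_apply]
    rcases (show ∀ a : ZMod 3, a = 0 ∨ a = 1 ∨ a = 2 by decide) x with rfl | rfl | rfl <;>
      rcases (show ∀ a : ZMod 3, a = 0 ∨ a = 1 ∨ a = 2 by decide) y with rfl | rfl | rfl <;>
        simp +decide
  obtain ⟨k, hk2⟩ := hsurj (c.ω ^ 2)
  -- the weight of the logarithm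
  have hBk : c.WU (0, 1) * π' g * (c.WU (0, 1))⁻¹ = π' g ^ k := by
    have := uniq (d * g * d⁻¹) (g ^ k) (by
      rw [map_mul, map_mul, map_inv, hd, hg, eD, map_pow, hg, el_pow, hk2, mul_one]) (cj d g hgp)
      (by rw [map_pow, ← pow_mul, mul_comm, pow_mul, hgp, one_pow])
    rwa [map_mul, map_mul, map_inv, hd', map_pow] at this
  have hY : c.W (0, 1) * Y = (c.ω ^ 2) • (Y * c.W (0, 1)) := by
    have e1 : c.W (0, 1) * N = (B ^ k - 1) * c.W (0, 1) := by
      have h := congrArg Units.val (mul_inv_eq_iff_eq_mul.1 hBk)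
      rw [Units.val_mul, Units.val_mul, Units.val_pow_eq_pow_val, WU_val] at h
      rw [hNdef, mul_sub, sub_mul, ← hB] at *
      rw [h, mul_one, one_mul]
    have e2 : c.W (0, 1) * N ^ 2 = (B ^ k - 1) ^ 2 * c.W (0, 1) := by
      rw [sq, sq, ← mul_assoc, e1, mul_assoc, e1, mul_assoc]
    have e3 := log_pow hN3 k
    rw [show (1 : Matrix Z3 Z3 F) + N = B by rw [hNdef, add_sub_cancel]] at e3
    rw [hYdef, mul_sub, mul_smul_comm, e1, e2, ← smul_mul_assoc, ← sub_mul, e3, smul_mul_assoc,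
      ← Nat.cast_smul_eq_nsmul F, hk2]
  have hzero : ∀ x y : Z3, x - y ≠ 2 → Y x y = 0 := by
    intro x y hxy
    have h := congrFun (congrFun hY x) y
    rw [Matrix.smul_apply, smul_eq_mul, Matrix.mul_apply, Matrix.mul_apply,
      Finset.sum_eq_single x (fun b _ hb => by simp [W_apply, hb.symm]) (by simp),
      Finset.sum_eq_single y (fun b _ hb => by simp [W_apply, hb]) (by simp)] at h
    simp only [W_apply, add_zero, if_true, one_mul, ← c.χ_two] at h
    by_contra hne
    have : c.χ x = c.χ (2 + y) := by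
      rw [c.χ_add]
      exact mul_right_cancel₀ hne (by linear_combination h)
    exact hxy (by rw [c.χ_inj this]; ring)
  have z00 := hzero 0 0 (by decide); have z11 := hzero 1 1 (by decide); have z22 := hzero 2 2 (by decide)
  have z02 := hzero 0 2 (by decide); have z10 := hzero 1 0 (by decide); have z21 := hzero 2 1 (by decide)
  -- the lift of the opposite weight
  set B' : Matrix Z3 Z3 F := ((π' (j * g * j⁻¹) : GL Z3 F) : Matrix Z3 Z3 F) with hB'
  have hcommB : B * B' = B' * B := by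
    have h1 := uniq (g * (j * g * j⁻¹) * g⁻¹) (j * g * j⁻¹) (by
      simp only [map_mul, map_inv, hj, hg, eJ]
      rw [mul_inv_eq_iff_eq_mul]
      refine Units.ext ?_
      simp only [Units.val_mul, el_val]
      ext x y
      simp only [Matrix.mul_apply, c.sum_z, tvw]
      rcases (show ∀ a : ZMod 3, a = 0 ∨ a = 1 ∨ a = 2 by decide) x with rfl | rfl | rfl <;>
        rcases (show ∀ a : ZMod 3, a = 0 ∨ a = 1 ∨ a = 2 by decide) y with rfl | rfl | rfl <;>
          simp +decide) (cj g _ (cj j g hgp)) (cj j g hgp)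
    rw [map_mul π' _ g⁻¹, map_mul π' g, map_inv, mul_inv_eq_iff_eq_mul] at h1
    exact congrArg Units.val h1
  have hB'v : B' = c.Jm * B * c.Jm := by
    have hJi : ((c.Jn⁻¹ : GL Z3 F) : Matrix Z3 Z3 F) = -c.Jm := by
      have h4 : c.Jn * c.Jn = 1 := by
        refine Units.ext ?_
        rw [Units.val_mul, Jn_val, neg_mul_neg, c.Jm_sq, Units.val_one]
      rw [inv_eq_of_mul_eq_one_right h4, Jn_val]
    rw [hB', map_mul, map_mul, map_inv, hj', Units.val_mul, Units.val_mul, hJi, Jn_val, hB, neg_mul, neg_mul_neg]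
  set Y' : Matrix Z3 Z3 F := c.Jm * Y * c.Jm with hY'
  have hcY : Y * Y' = Y' * Y := by
    have h1 : Commute N (c.Jm * N * c.Jm) := by
      have e : c.Jm * N * c.Jm = B' - 1 := by rw [hB'v, hNdef, mul_sub, sub_mul, mul_one, c.Jm_sq]
      rw [e]
      exact ((Commute.sub_left (hcommB : Commute B B') (Commute.one_left B'))).sub_right (Commute.one_right _)
    have e2 : c.Jm * Y * c.Jm = 2 • (c.Jm * N * c.Jm) - (c.Jm * N * c.Jm) ^ 2 := by
      rw [hYdef, mul_sub, sub_mul, mul_smul_comm, smul_mul_assoc, sq, sq]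
      congr 1
      simp only [mul_assoc]
      rw [← mul_assoc c.Jm c.Jm, c.Jm_sq, one_mul]
    rw [hY', e2, hYdef]
    exact (((h1.smul_right 2).sub_right (h1.pow_right 2)).smul_left 2).sub_left
      (((h1.smul_right 2).sub_right (h1.pow_right 2)).pow_left 2)
  have hY'v : ∀ x y, Y' x y = Y (-x) (-y) := fun x y => by rw [hY', mul_Jm, Jm_mul]
  have n1 : -(1 : ZMod 3) = 2 := rfl
  have n2 : -(2 : ZMod 3) = 1 := rfl
  have q0 := congrFun (congrFun hcY 0) 0
  have q1 := congrFun (congrFun hcY 1) 1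
  simp only [Matrix.mul_apply, c.sum_z, hY'v, n1, n2, neg_zero, z00, z11, z22, z02, z10, z21, mul_zero, zero_mul,
    add_zero, zero_add] at q0 q1
  have hY3 : Y * Y * Y = 0 := by
    have e : Y = N * (2 - N) := by rw [hYdef, mul_sub, sq, mul_two, two_smul]
    have hc : Commute N (2 - N) := (Commute.ofNat_right N 2).sub_right (Commute.refl N)
    rw [show Y * Y * Y = Y ^ 3 by simp [pow_succ, mul_assoc], e, hc.mul_pow, hN3, zero_mul]
  have q3 := congrFun (congrFun hY3 0) 0
  simp only [Matrix.mul_apply, c.sum_z, Matrix.zero_apply, z00, z11, z22, z02, z10, z21, mul_zero, zero_mul,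
    add_zero, zero_add] at q3
  have hb : Y 1 2 = 0 := by
    have h1 : Y 1 2 * Y 1 2 = Y 0 1 * Y 2 0 := by linear_combination q1
    have h3 : Y 1 2 ^ 3 = 0 := by linear_combination (Y 1 2) * h1 + q3
    exact pow_eq_zero_iff (by norm_num) |>.1 h3
  have hac : Y 0 1 = 0 ∨ Y 2 0 = 0 := by
    refine mul_eq_zero.1 ?_
    linear_combination -q1 + Y 1 2 * hb
  have hYY : Y * Y = 0 := by
    ext x y
    rcases (show ∀ a : ZMod 3, a = 0 ∨ a = 1 ∨ a = 2 by decide) x with rfl | rfl | rfl <;>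
      rcases (show ∀ a : ZMod 3, a = 0 ∨ a = 1 ∨ a = 2 by decide) y with rfl | rfl | rfl <;>
        rcases hac with h | h <;> simp [Matrix.mul_apply, c.sum_z, z00, z11, z22, z02, z10, z21, hb, h]
  have hNN : N * N = 0 := by
    have h4 : N * N ^ 2 = 0 := by rw [← pow_succ', hN3]
    have h5 : N ^ 2 * N = 0 := by rw [← pow_succ, hN3]
    have h6 : N ^ 2 * N ^ 2 = 0 := by rw [← pow_add, pow_succ, hN3, zero_mul]
    rw [hYdef] at hYY
    simp only [mul_sub, sub_mul, smul_mul_assoc, mul_smul_comm, h4, h5, h6, smul_zero, sub_zero, smul_smul] at hYY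
    rw [← Nat.cast_smul_eq_nsmul F] at hYY
    exact (smul_eq_zero.1 hYY).resolve_left (by
      push_cast
      rw [show (4 : F) = 2 * 2 by norm_num]; exact mul_ne_zero h2 h2)
  have hNY : ∀ x y, Y x y = 2 * N x y := fun x y => by
    rw [hYdef, sq, hNN, sub_zero, Matrix.smul_apply, nsmul_eq_mul, Nat.cast_ofNat]
  have hN0 : ∀ x y, Y x y = 0 → N x y = 0 := fun x y h => by
    rw [hNY] at h
    exact (mul_eq_zero.1 h).resolve_left h2
  -- the lift of the commutator
  have hgT : π' (t * g * t⁻¹) = c.WU (1, 0) * π' g * (c.WU (1, 0))⁻¹ := by rw [map_mul, map_mul, map_inv, ht']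
  have hBB : B = 1 + N := by rw [hNdef, add_sub_cancel]
  have hBi : ((π' g : GL Z3 F)⁻¹ : GL Z3 F).val = 1 - N := by
    have : (1 - N) * B = 1 := by rw [hBB, sub_mul, one_mul, mul_add, mul_one, hNN]; abel
    calc ((π' g : GL Z3 F)⁻¹ : GL Z3 F).val = (1 - N) * B * ((π' g : GL Z3 F)⁻¹ : GL Z3 F).val := by
          rw [this, one_mul]
      _ = 1 - N := by rw [mul_assoc, hB, Units.mul_inv, mul_one]
  set M : Matrix Z3 Z3 F := c.W (1, 0) * N * ((c.WU (1, 0))⁻¹ : GL Z3 F).val with hMdef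
  have hM : ∀ x y, M x y = N (x - 1) (y - 1) := by
    intro x y
    have hW : M * c.W (1, 0) = c.W (1, 0) * N := by rw [hMdef, ← WU_val c (1, 0), mul_assoc, Units.inv_mul, mul_one]
    have h := congrFun (congrFun hW x) (y - 1)
    rw [Matrix.mul_apply, Matrix.mul_apply, Finset.sum_eq_single y, Finset.sum_eq_single (x - 1)] at h
    · simpa [W_apply] using h
    · intro b _ hb'
      rw [W_apply, if_neg (fun e => hb' (by rw [e, add_sub_cancel_right])), zero_mul]
    · simp
    · intro b _ hb'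
      rw [W_apply, if_neg (fun e => hb' (by rw [e]; exact sub_add_cancel y 1)), mul_zero]
    · simp
  have hTg : (π' (t * g * t⁻¹) : GL Z3 F).val = 1 + M := by
    rw [hgT, Units.val_mul, Units.val_mul, ← hB, hBB, mul_add, mul_one, add_mul, Units.mul_inv, hMdef, WU_val]
  have hMM : M * M = 0 := by
    rw [hMdef, ← WU_val c (1, 0)]
    simp only [mul_assoc]
    rw [← mul_assoc _ (c.WU (1, 0) : Matrix Z3 Z3 F), Units.inv_mul, one_mul, ← mul_assoc N N, hNN, zero_mul,
      mul_zero]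
  have hTgi : ((π' (t * g * t⁻¹))⁻¹ : GL Z3 F).val = 1 - M := by
    have : (1 - M) * (π' (t * g * t⁻¹) : GL Z3 F).val = 1 := by
      rw [hTg, sub_mul, one_mul, mul_add, mul_one, hMM]; abel
    calc ((π' (t * g * t⁻¹))⁻¹ : GL Z3 F).val
        = (1 - M) * (π' (t * g * t⁻¹) : GL Z3 F).val * ((π' (t * g * t⁻¹))⁻¹ : GL Z3 F).val := by rw [this, one_mul]
      _ = 1 - M := by rw [mul_assoc, Units.mul_inv, mul_one]
  have hcm : (1 + N) * (1 + M) * (1 - N) * (1 - M) = 1 + (N * M - M * N) → (π' ⁅g, t * g * t⁻¹⁆ : GL Z3 F).val =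
      1 + (N * M - M * N) := fun h => by
    rw [map_commutatorElement, commutatorElement_def, Units.val_mul, Units.val_mul, Units.val_mul, hTg, hTgi, hBi,
      ← hB, hBB, h]
  have hlast : ∀ P : Matrix Z3 Z3 F, (π' ⁅g, t * g * t⁻¹⁆ : GL Z3 F).val = 1 + P → P ^ p = 0 →
      ∀ x y, P x y = N (-x) (-y) := by
    intro P hP hPp x y
    have := uniq ⁅g, t * g * t⁻¹⁆ (j * g * j⁻¹) (by
      simp only [map_commutatorElement, map_mul, map_inv, hg, ht, hj, eT, eJ, el_comm h01 h12 h02, one_mul])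
      (Units.ext (by
        rw [Units.val_pow_eq_pow_val, hP, Units.val_one, add_pow_char_of_commute (p := p) (Commute.one_left P),
          hPp, one_pow, add_zero])) (cj j g hgp)
    rw [Units.ext_iff, hP, ← hB', hB'v, hBB, mul_add, mul_one, add_mul, c.Jm_sq, add_right_inj] at this
    rw [this, mul_Jm, Jm_mul]
  have hpp : ∀ P : Matrix Z3 Z3 F, P * P = 0 → P ^ p = 0 := fun P h =>
    pow_eq_zero_of_le (show 2 ≤ p by omega) (by rw [sq, h])
  rcases hac with h | h
  · -- only the corner entry: it vanishes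
    exfalso
    have e00 := hN0 0 0 z00; have e11 := hN0 1 1 z11; have e22 := hN0 2 2 z22; have e02 := hN0 0 2 z02
    have e10 := hN0 1 0 z10; have e21 := hN0 2 1 z21; have e12 := hN0 1 2 hb; have e01 := hN0 0 1 h
    have s1 : (1 : ZMod 3) - 1 = 0 := rfl
    have s2 : (2 : ZMod 3) - 1 = 1 := rfl
    have s0 : (0 : ZMod 3) - 1 = 2 := rfl
    have hP : ∀ x y, (N * M - M * N) x y = if x = 2 ∧ y = 1 then N 2 0 * N 2 0 else 0 := by
      intro x y
      rcases (show ∀ a : ZMod 3, a = 0 ∨ a = 1 ∨ a = 2 by decide) x with rfl | rfl | rfl <;>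
        rcases (show ∀ a : ZMod 3, a = 0 ∨ a = 1 ∨ a = 2 by decide) y with rfl | rfl | rfl <;>
          simp +decide [Matrix.mul_apply, c.sum_z, hM, s0, s1, s2, e00, e11, e22, e02, e10, e21, e12, e01]
    have hc1 : (1 + N) * (1 + M) * (1 - N) * (1 - M) = 1 + (N * M - M * N) := by
      ext x y
      rw [Matrix.add_apply (1 : Matrix Z3 Z3 F), hP]
      rcases (show ∀ a : ZMod 3, a = 0 ∨ a = 1 ∨ a = 2 by decide) x with rfl | rfl | rfl <;>
        rcases (show ∀ a : ZMod 3, a = 0 ∨ a = 1 ∨ a = 2 by decide) y with rfl | rfl | rfl <;>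
          simp +decide [Matrix.mul_apply, c.sum_z, hM, s0, s1, s2, e00, e11, e22, e02, e10, e21, e12, e01,
            Matrix.one_apply]
    have hp2 : (N * M - M * N) * (N * M - M * N) = 0 := by
      ext x y
      simp only [Matrix.mul_apply, c.sum_z, hP, Matrix.zero_apply]
      simp +decide
    have h21 := hlast _ (hcm hc1) (hpp _ hp2) 1 0
    rw [hP, n1, neg_zero] at h21
    simp +decide at h21
    obtain ⟨a, ha⟩ := hk' g (Units.ext (by
      rw [← hB, hBB, Units.val_one]
      ext x y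
      rcases (show ∀ a : ZMod 3, a = 0 ∨ a = 1 ∨ a = 2 by decide) x with rfl | rfl | rfl <;>
        rcases (show ∀ a : ZMod 3, a = 0 ∨ a = 1 ∨ a = 2 by decide) y with rfl | rfl | rfl <;>
          simp +decide [e00, e11, e22, e02, e10, e21, e12, e01, h21, Matrix.one_apply]))
    rw [hg] at ha
    exact el_not_scalar 0 1 h01 one_ne_zero a ha
  · have e00 := hN0 0 0 z00; have e11 := hN0 1 1 z11; have e22 := hN0 2 2 z22; have e02 := hN0 0 2 z02
    have e10 := hN0 1 0 z10; have e21 := hN0 2 1 z21; have e12 := hN0 1 2 hb; have e20 := hN0 2 0 h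
    have s1 : (1 : ZMod 3) - 1 = 0 := rfl
    have s2 : (2 : ZMod 3) - 1 = 1 := rfl
    have s0 : (0 : ZMod 3) - 1 = 2 := rfl
    have hP : ∀ x y, (N * M - M * N) x y = if x = 0 ∧ y = 2 then N 0 1 * N 0 1 else 0 := by
      intro x y
      rcases (show ∀ a : ZMod 3, a = 0 ∨ a = 1 ∨ a = 2 by decide) x with rfl | rfl | rfl <;>
        rcases (show ∀ a : ZMod 3, a = 0 ∨ a = 1 ∨ a = 2 by decide) y with rfl | rfl | rfl <;>
          simp +decide [Matrix.mul_apply, c.sum_z, hM, s0, s1, s2, e00, e11, e22, e02, e10, e21, e12, e20]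
    have hc1 : (1 + N) * (1 + M) * (1 - N) * (1 - M) = 1 + (N * M - M * N) := by
      ext x y
      rw [Matrix.add_apply (1 : Matrix Z3 Z3 F), hP]
      rcases (show ∀ a : ZMod 3, a = 0 ∨ a = 1 ∨ a = 2 by decide) x with rfl | rfl | rfl <;>
        rcases (show ∀ a : ZMod 3, a = 0 ∨ a = 1 ∨ a = 2 by decide) y with rfl | rfl | rfl <;>
          simp +decide [Matrix.mul_apply, c.sum_z, hM, s0, s1, s2, e00, e11, e22, e02, e10, e21, e12, e20,
            Matrix.one_apply]
    have hp2 : (N * M - M * N) * (N * M - M * N) = 0 := by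
      ext x y
      simp only [Matrix.mul_apply, c.sum_z, hP, Matrix.zero_apply]
      simp +decide
    have h02' := hlast _ (hcm hc1) (hpp _ hp2) 0 2
    rw [hP, n2, neg_zero] at h02'
    simp +decide at h02'
    have hne : N 0 1 ≠ 0 := fun h0 => by
      obtain ⟨a, ha⟩ := hk' g (Units.ext (by
        rw [← hB, hBB, Units.val_one]
        ext x y
        rcases (show ∀ a : ZMod 3, a = 0 ∨ a = 1 ∨ a = 2 by decide) x with rfl | rfl | rfl <;>
          rcases (show ∀ a : ZMod 3, a = 0 ∨ a = 1 ∨ a = 2 by decide) y with rfl | rfl | rfl <;>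
            simp +decide [e00, e11, e22, e02, e10, e21, e12, e20, h0, Matrix.one_apply]))
      rw [hg] at ha
      exact el_not_scalar 0 1 h01 one_ne_zero a ha
    have h1' : N 0 1 = 1 := mul_left_cancel₀ hne (by rw [mul_one]; exact h02')
    refine ⟨g, hg, Units.ext ?_⟩
    rw [← hB, hBB, el_val]
    ext x y
    rcases (show ∀ a : ZMod 3, a = 0 ∨ a = 1 ∨ a = 2 by decide) x with rfl | rfl | rfl <;>
      rcases (show ∀ a : ZMod 3, a = 0 ∨ a = 1 ∨ a = 2 by decide) y with rfl | rfl | rfl <;>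
        simp +decide [e00, e11, e22, e02, e10, e21, e12, e20, h1', tvw, Matrix.one_apply]


end Ctx

end Cfsg.Agent.Heis12
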