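import Cfsg.Agent.Lib.Heis12Local
import Cfsg.Prelude.Def_TwoFusion

/-!
In a proper overgroup the product of the two central involutions is isolated: a Sylow two-subgroup
of its centraliser is the wreath product of two quaternion groups.
-/

set_option autoImplicit false
set_option linter.unusedSectionVars false
set_option synthInstance.maxSize 5000

namespace Cfsg.Agent.Heis12

open Matrix
open scoped MatrixGroups Kronecker

variable {F : Type*} [Field F]

theorem kr_trace (A B : GL Z3 F) :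
    (kr A B : Matrix Pt Pt F).trace = (A : Matrix Z3 Z3 F).trace * (B : Matrix Z3 Z3 F).trace := by
  rw [kr_val, Matrix.trace_kronecker]

theorem kr_swap_trace (A B : GL Z3 F) :
    (kr A B * swapU : GL Pt F).val.trace = -((A : Matrix Z3 Z3 F) * (B : Matrix Z3 Z3 F)).trace := by
  rw [Units.val_mul, Matrix.trace, Matrix.trace, Fintype.sum_prod_type, ← Finset.sum_neg_distrib]
  refine Finset.sum_congr rfl fun i _ => ?_
  simp only [Matrix.diag, mul_swapU]
  simp only [kr_val, Matrix.kroneckerMap_apply, Matrix.mul_apply, Finset.sum_neg_distrib]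

theorem swap_kr_swap (A B : GL Z3 F) : kr A B * swapU = swapU * kr B A := by
  rw [← mul_inv_eq_iff_eq_mul.1 (swapU_kr B A)]

namespace Ctx

variable (c : Ctx F)

theorem Fq_trace : (c.Fq : Matrix Z3 Z3 F).trace = 1 := by
  rw [Matrix.trace, c.sum_z]
  simp only [Matrix.diag, Fq_val]
  rw [show (2 : ZMod 3) * 2 = 1 by decide, show (1 : ZMod 3) * 1 = 1 by decide, mul_zero, χ_zero, χ_one]
  field_simp [c.s_ne]
  simp only [s]
  linear_combination c.sum_eq

theorem Gq_trace : (c.Gq : Matrix Z3 Z3 F).trace = 1 := by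
  rw [Gq, Units.val_mul, Units.val_mul, Matrix.trace_units_conj, Fq_trace]

theorem Q8_scalar {q : GL Z3 F} (hq : q ∈ c.Q8) {a : F} (h : (q : Matrix Z3 Z3 F) = a • 1) : q = 1 := by
  have h2 := hq.2.2
  rw [h, Matrix.smul_mulVec, Matrix.one_mulVec] at h2
  have := congrFun h2 1
  simp [ov] at this
  exact Units.ext (by rw [h, this, one_smul, Units.val_one])

theorem kr_scalar {U V : GL Z3 F} {a : F} (h : (kr U V : Matrix Pt Pt F) = a • 1) (ha : a ≠ 0) :
    (∃ r : F, (U : Matrix Z3 Z3 F) = r • 1) ∧ ∃ r : F, (V : Matrix Z3 Z3 F) = r • 1 := by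
  have hb := congrArg (fun X => blk X 0 0) h
  have hs := congrArg (fun X => slc X 0 0) h
  simp only [kr_val, blk_kr, slc_kr] at hb hs
  rw [show blk (a • (1 : Matrix Pt Pt F)) 0 0 = a • 1 by
    rw [← Matrix.one_kronecker_one, ← Matrix.smul_kronecker, blk_kr]; simp] at hb
  rw [show slc (a • (1 : Matrix Pt Pt F)) 0 0 = a • 1 by
    rw [← Matrix.one_kronecker_one, ← Matrix.kronecker_smul, slc_kr]; simp] at hs
  have hU : (U : Matrix Z3 Z3 F) 0 0 ≠ 0 := fun e => by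
    rw [e, zero_smul] at hb
    exact ha (by simpa using (congrFun (congrFun hb 0) 0).symm)
  have hV : (V : Matrix Z3 Z3 F) 0 0 ≠ 0 := fun e => by
    rw [e, zero_smul] at hs
    exact ha (by simpa using (congrFun (congrFun hs 0) 0).symm)
  exact ⟨⟨_, by rw [← smul_smul, ← hs, smul_smul, inv_mul_cancel₀ hV, one_smul]⟩,
    ⟨_, by rw [← smul_smul, ← hb, smul_smul, inv_mul_cancel₀ hU, one_smul]⟩⟩

theorem kr_Q8_one {U V : GL Z3 F} (hU : U ∈ c.Q8) (hV : V ∈ c.Q8) (h : kr U V = 1) : U = 1 ∧ V = 1 := by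
  obtain ⟨⟨r, hr⟩, r', hr'⟩ := kr_scalar (U := U) (V := V) (a := 1) (by rw [h, Units.val_one, one_smul]) one_ne_zero
  exact ⟨c.Q8_scalar hU hr, c.Q8_scalar hV hr'⟩

/-- The product of the two central involutions. -/
def zI : GL Pt F := kr c.Jn c.Jn

theorem Pe_even : c.Even' c.Pe := by
  show _ * _ = _ * _
  rw [Pe, Matrix.mul_smul, Matrix.smul_mul, mul_add, add_mul, mul_one, one_mul]

theorem Po_even : c.Even' c.Po := by
  show _ * _ = _ * _
  rw [Po, Matrix.mul_smul, Matrix.smul_mul, mul_sub, sub_mul, mul_one, one_mul]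

theorem Jn_sq : c.Jn * c.Jn = 1 := by
  refine Units.ext ?_
  rw [Units.val_mul, Jn_val, neg_mul_neg, c.Jm_sq, Units.val_one]

theorem zI_sq : c.zI * c.zI = 1 := by rw [zI, kr_mul, c.Jn_sq, kr_one]

theorem zI_trace : (c.zI : Matrix Pt Pt F).trace = 1 := by rw [zI, kr_trace, c.Jn_trace]; ring

/-- The Sylow two-subgroup of the centraliser. -/
def S0 : Subgroup (GL Pt F) where
  carrier := {g | ∃ a ∈ c.Q8, ∃ b ∈ c.Q8, g = kr a b ∨ g = kr a b * swapU}
  one_mem' := ⟨1, c.Q8.one_mem, 1, c.Q8.one_mem, Or.inl kr_one.symm⟩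
  mul_mem' := by
    rintro _ _ ⟨a, ha, b, hb, rfl | rfl⟩ ⟨a', ha', b', hb', rfl | rfl⟩
    · exact ⟨_, c.Q8.mul_mem ha ha', _, c.Q8.mul_mem hb hb', Or.inl (kr_mul _ _ _ _)⟩
    · exact ⟨_, c.Q8.mul_mem ha ha', _, c.Q8.mul_mem hb hb', Or.inr (by rw [← mul_assoc, kr_mul])⟩
    · exact ⟨_, c.Q8.mul_mem ha hb', _, c.Q8.mul_mem hb ha', Or.inr (by
        rw [mul_assoc, ← swap_kr_swap, ← mul_assoc, kr_mul])⟩
    · exact ⟨_, c.Q8.mul_mem ha hb', _, c.Q8.mul_mem hb ha', Or.inl (by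
        rw [mul_assoc, ← mul_assoc swapU, ← swap_kr_swap, mul_assoc (kr b' a'), swapU_sq, mul_one, kr_mul])⟩
  inv_mem' := by
    rintro _ ⟨a, ha, b, hb, rfl | rfl⟩
    · exact ⟨_, c.Q8.inv_mem ha, _, c.Q8.inv_mem hb, Or.inl (kr_inv _ _)⟩
    · exact ⟨_, c.Q8.inv_mem hb, _, c.Q8.inv_mem ha, Or.inr (by
        rw [_root_.mul_inv_rev, swapU_inv, kr_inv, ← swap_kr_swap])⟩

theorem S0_base {a b : GL Z3 F} (ha : a ∈ c.Q8) (hb : b ∈ c.Q8) : kr a b ∈ c.S0 := ⟨a, ha, b, hb, Or.inl rfl⟩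

theorem swap_S0 : swapU ∈ c.S0 := ⟨1, c.Q8.one_mem, 1, c.Q8.one_mem, Or.inr (by rw [kr_one, one_mul])⟩

theorem S0_sq {g : GL Pt F} (hg : g ∈ c.S0) : ∃ a ∈ c.Q8, ∃ b ∈ c.Q8, g * g = kr a b := by
  obtain ⟨a, ha, b, hb, rfl | rfl⟩ := hg
  · exact ⟨_, c.Q8.mul_mem ha ha, _, c.Q8.mul_mem hb hb, kr_mul _ _ _ _⟩
  · exact ⟨_, c.Q8.mul_mem ha hb, _, c.Q8.mul_mem hb ha, by
      rw [mul_assoc, ← mul_assoc swapU, ← swap_kr_swap, mul_assoc (kr b a), swapU_sq, mul_one, kr_mul]⟩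

theorem S0_inv {g : GL Pt F} (hg : g ∈ c.S0) (h2 : g * g = 1) (htr : (g : Matrix Pt Pt F).trace = 1) : g = c.zI := by
  obtain ⟨a, ha, b, hb, rfl | rfl⟩ := hg
  · rw [kr_mul] at h2
    obtain ⟨ea, eb⟩ := c.kr_Q8_one (c.Q8.mul_mem ha ha) (c.Q8.mul_mem hb hb) h2
    rw [kr_trace] at htr
    rcases c.Q8_sq ha ea with rfl | rfl <;> rcases c.Q8_sq hb eb with rfl | rfl
    · exfalso
      simp [ZMod.card] at htr
      exact mul_ne_zero (mul_ne_zero c.two c.two) c.two (by linear_combination htr)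
    · exfalso
      simp [ZMod.card, c.Jn_trace] at htr
      exact mul_ne_zero c.two c.two (by linear_combination -htr)
    · exfalso
      simp [ZMod.card, c.Jn_trace] at htr
      exact mul_ne_zero c.two c.two (by linear_combination -htr)
    · rfl
  · exfalso
    rw [mul_assoc, ← mul_assoc swapU, ← swap_kr_swap, mul_assoc (kr b a), swapU_sq, mul_one, kr_mul] at h2
    obtain ⟨eab, -⟩ := c.kr_Q8_one (c.Q8.mul_mem ha hb) (c.Q8.mul_mem hb ha) h2
    rw [kr_swap_trace, ← Units.val_mul, eab] at htr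
    simp [ZMod.card] at htr
    exact mul_ne_zero c.two c.two (by linear_combination -htr)

variable {M : Subgroup (GL Pt F)}

theorem Q8_det [Finite F] {q : GL Z3 F} (hq : q ∈ c.Q8) : (q : Matrix Z3 Z3 F).det ^ 3 = 1 := by
  obtain ⟨⟨φ, hφ, hact⟩, he, ho⟩ := hq
  obtain ⟨A, hA, hAe, hAd⟩ := c.exists_word φ hφ.1
  have h4 := congrArg (fun g : GL Z3 F => (g : Matrix Z3 Z3 F).det) (c.Q8_pow_four ⟨⟨φ, hφ, hact⟩, he, ho⟩)
  simp only [Units.val_pow_eq_pow_val, Matrix.det_pow, Units.val_one, Matrix.det_one] at h4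
  obtain ⟨a, -, e⟩ := c.even_unique hφ.1 hact hA he hAe
  have h3 : (q : Matrix Z3 Z3 F).det = a ^ 3 * (A : Matrix Z3 Z3 F).det := by rw [e, Matrix.det_smul, ZMod.card]
  -- the determinant is one on both generators, hence on the group
  have hgen : ∀ ψ : Tw, InQ ψ → ψ = tone ∨ ψ = tneg ∨ ψ = tF ∨ ψ = tmul tneg tF ∨
      ψ = tmul (tmul tK tF) (tinv tK) ∨ ψ = tmul tneg (tmul (tmul tK tF) (tinv tK)) ∨
      ψ = tmul tF (tmul (tmul tK tF) (tinv tK)) ∨ ψ = tmul tneg (tmul tF (tmul (tmul tK tF) (tinv tK))) := by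
    intro ψ hψ
    rcases inQ_cases ψ hψ with rfl | rfl | rfl | rfl | rfl | rfl | rfl | rfl <;> decide
  have hactG : c.Act c.Gq (tmul (tmul tK tF) (tinv tK)) :=
    c.act_mul (c.act_mul c.act_Kq c.act_Fq) (c.act_inv c.act_Kq (by decide))
  have hJd : (c.Jn : Matrix Z3 Z3 F).det = 1 := by rw [Jn, Units.val_mul, Matrix.det_mul, Fq_det, mul_one]
  have fin : ∀ B : GL Z3 F, B ∈ c.Q8 → c.Act B φ → (B : Matrix Z3 Z3 F).det = 1 → (q : Matrix Z3 Z3 F).det ^ 3 = 1 :=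
    fun B hB hBa hBd => by
      rw [c.Q8_ext ⟨⟨φ, hφ, hact⟩, he, ho⟩ hB hact hBa, hBd, one_pow]
  rcases hgen φ hφ with e | e | e | e | e | e | e | e <;> subst e
  · exact fin 1 c.Q8.one_mem c.act_one (by simp)
  · exact fin _ c.Jn_mem c.act_Jn hJd
  · exact fin _ c.Fq_mem c.act_Fq c.Fq_det
  · exact fin _ (c.Q8.mul_mem c.Jn_mem c.Fq_mem) (c.act_mul c.act_Jn c.act_Fq)
      (by rw [Units.val_mul, Matrix.det_mul, hJd, Fq_det, mul_one])
  · exact fin _ c.Gq_mem hactG c.Gq_det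
  · exact fin _ (c.Q8.mul_mem c.Jn_mem c.Gq_mem) (c.act_mul c.act_Jn hactG)
      (by rw [Units.val_mul, Matrix.det_mul, hJd, Gq_det, mul_one])
  · exact fin _ (c.Q8.mul_mem c.Fq_mem c.Gq_mem) (c.act_mul c.act_Fq hactG)
      (by rw [Units.val_mul, Matrix.det_mul, Fq_det, Gq_det, mul_one])
  · exact fin _ (c.Q8.mul_mem c.Jn_mem (c.Q8.mul_mem c.Fq_mem c.Gq_mem)) (c.act_mul c.act_Jn (c.act_mul c.act_Fq hactG))
      (by rw [Units.val_mul, Units.val_mul, Matrix.det_mul, Matrix.det_mul, hJd, Fq_det, Gq_det, mul_one, mul_one])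

variable [Finite F]

theorem S0_le (hM : c.Over M) : c.S0 ≤ M ⊓ Subgroup.centralizer {c.zI} := by
  have hbase : ∀ a ∈ c.Q8, ∀ b ∈ c.Q8, kr a b ∈ M ∧ kr a b * c.zI = c.zI * kr a b := by
    intro a ha b hb
    obtain ⟨φ, -, hφ⟩ := ha.1
    obtain ⟨ψ, -, hψ⟩ := hb.1
    refine ⟨c.kr_mem hM (c.act_nr hφ) (c.act_nr hψ) (c.Q8_det ha) (c.Q8_det hb), ?_⟩
    have hcomm : ∀ {x : GL Z3 F}, x ∈ c.Q8 → x * c.Jn = c.Jn * x := fun {x} hx => Units.ext (by
      rw [Units.val_mul, Units.val_mul, Jn_val, mul_neg, neg_mul, hx.2.1])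
    rw [zI, kr_mul, kr_mul, hcomm ha, hcomm hb]
  rintro g ⟨a, ha, b, hb, rfl | rfl⟩
  · exact ⟨(hbase a ha b hb).1, Subgroup.mem_centralizer_singleton_iff.2 (hbase a ha b hb).2⟩
  · refine ⟨M.mul_mem (hbase a ha b hb).1 (c.swap_mem hM), Subgroup.mem_centralizer_singleton_iff.2 ?_⟩
    rw [mul_assoc, zI, ← swap_kr_swap, ← mul_assoc, ← zI, (hbase a ha b hb).2, mul_assoc]

/-- A normaliser of the wreath product in a two-group of the centraliser lies in it. -/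
theorem S0_self (hb : c.BaseHyp) (hM : c.Over M) (hns : ¬ Cfsg.Geo.specialLinear Pt F ≤ M) (hp : PrimeFld F)
    {P : Subgroup (GL Pt F)} (hP2 : IsPGroup 2 P) (hPle : P ≤ M ⊓ Subgroup.centralizer {c.zI}) (hS : c.S0 ≤ P)
    {y : GL Pt F} (hy : y ∈ P) (hn : ∀ s ∈ c.S0, y * s * y⁻¹ ∈ c.S0) : y ∈ c.S0 := by
  classical
  -- the inverse normalises as well
  have hn' : ∀ x : GL Pt F, (∀ s ∈ c.S0, x * s * x⁻¹ ∈ c.S0) → ∀ s ∈ c.S0, x⁻¹ * s * x ∈ c.S0 := by
    intro x hx s hs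
    let f : c.S0 → c.S0 := fun u => ⟨x * u * x⁻¹, hx u u.2⟩
    obtain ⟨u, hu⟩ := (Finite.injective_iff_surjective (f := f)).1 (fun u v e => Subtype.ext
      (mul_left_cancel (mul_right_cancel (congrArg Subtype.val e)))) ⟨s, hs⟩
    have e : x * (u : GL Pt F) * x⁻¹ = s := congrArg Subtype.val hu
    rw [← e, show x⁻¹ * (x * (u : GL Pt F) * x⁻¹) * x = u by group]
    exact u.2
  set t : GL Pt F := kr c.Jn 1 with ht
  set t' : GL Pt F := kr 1 c.Jn with ht'
  have htS : t ∈ c.S0 := c.S0_base c.Jn_mem c.Q8.one_mem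
  have hzt : t' = c.zI * t := by rw [ht, ht', zI, kr_mul, c.Jn_sq, mul_one]
  have hz : ∀ x ∈ P, x * c.zI = c.zI * x := fun x hx => Subgroup.mem_centralizer_singleton_iff.1 (hPle hx).2
  have h12 : (3 : F) * 3 ≠ -3 := fun e => mul_ne_zero (mul_ne_zero c.two c.two) c.three (by linear_combination e)
  have ttr : ∀ g : GL Pt F, (g * t * g⁻¹ : GL Pt F).val.trace = -3 := fun g => by
    rw [Units.val_mul, Units.val_mul, Matrix.trace_units_conj, ht, kr_trace, c.Jn_trace]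
    simp [ZMod.card]
  -- reduce to an element commuting with both involutions
  obtain ⟨y1, hy1P, hy1n, hy1t, hback⟩ : ∃ y1 ∈ P, (∀ s ∈ c.S0, y1 * s * y1⁻¹ ∈ c.S0) ∧ y1 * t = t * y1 ∧
      (y1 ∈ c.S0 → y ∈ c.S0) := by
    have hs := hn _ (c.S0_base c.Fq_mem c.Q8.one_mem)
    obtain ⟨a, ha, b, hb', e⟩ := c.S0_sq hs
    have e' : y * t * y⁻¹ = kr a b := by
      rw [← e, ht, show c.Jn = c.Fq * c.Fq from rfl, show kr (c.Fq * c.Fq) (1 : GL Z3 F) = kr c.Fq 1 * kr c.Fq 1 by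
        rw [kr_mul, mul_one]]
      group
    have h2 : kr a b * kr a b = 1 := by
      rw [← e', show y * t * y⁻¹ * (y * t * y⁻¹) = y * (t * t) * y⁻¹ by group, ht, kr_mul, c.Jn_sq, one_mul, kr_one,
        mul_one, mul_inv_cancel]
    rw [kr_mul] at h2
    obtain ⟨ea, eb⟩ := c.kr_Q8_one (c.Q8.mul_mem ha ha) (c.Q8.mul_mem hb' hb') h2
    have htr := ttr y
    rw [e', kr_trace] at htr
    rcases c.Q8_sq ha ea with rfl | rfl <;> rcases c.Q8_sq hb' eb with rfl | rfl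
    · exfalso
      simp [ZMod.card] at htr
      exact h12 (by linear_combination htr)
    · refine ⟨swapU * y, P.mul_mem (hS c.swap_S0) hy, fun s hs => ?_, ?_, fun h => ?_⟩
      · rw [show swapU * y * s * (swapU * y)⁻¹ = swapU * (y * s * y⁻¹) * swapU⁻¹ by group]
        exact c.S0.mul_mem (c.S0.mul_mem c.swap_S0 (hn s hs)) (c.S0.inv_mem c.swap_S0)
      · rw [← mul_inv_eq_iff_eq_mul, show swapU * y * t * (swapU * y)⁻¹ = swapU * (y * t * y⁻¹) * swapU⁻¹ by group,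
          e', swapU_kr, ht]
      · have := c.S0.mul_mem c.swap_S0 h
        rwa [← mul_assoc, swapU_sq, one_mul] at this
    · exact ⟨y, hy, hn, mul_inv_eq_iff_eq_mul.1 e', id⟩
    · exfalso
      simp [ZMod.card, c.Jn_trace] at htr
      exact mul_ne_zero c.two c.two (by linear_combination htr)
  apply hback
  clear hback hn hy
  -- conjugation on the first quaternion group
  have conjQ : ∀ x ∈ P, (∀ s ∈ c.S0, x * s * x⁻¹ ∈ c.S0) → x * t = t * x → ∀ q ∈ c.Q8,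
      (q : Matrix Z3 Z3 F).trace ≠ 0 → q * q = c.Jn → ∃ q' ∈ c.Q8, x * kr q 1 * x⁻¹ = kr q' 1 := by
    intro x hxP hxn hxt q hq htq hqq
    have hxt' : x * t' = t' * x := by rw [hzt, ← mul_assoc, hz x hxP, mul_assoc, hxt, mul_assoc]
    have hc : x * t * x⁻¹ = t := mul_inv_eq_iff_eq_mul.2 hxt
    obtain ⟨a, ha, b, hb', e | e⟩ := hxn _ (c.S0_base hq c.Q8.one_mem)
    · have e2 : kr (a * a) (b * b) = t := by
        rw [← kr_mul, ← e, show x * kr q 1 * x⁻¹ * (x * kr q 1 * x⁻¹) = x * (kr q 1 * kr q 1) * x⁻¹ by group,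
          kr_mul, hqq, one_mul, ← ht, hc]
      have e3 : kr (a * a * c.Jn⁻¹) (b * b) = 1 := by
        rw [show kr (a * a * c.Jn⁻¹) (b * b) = kr (a * a) (b * b) * kr c.Jn⁻¹ 1 by rw [kr_mul, mul_one], e2, ht,
          kr_mul, mul_inv_cancel, one_mul, kr_one]
      obtain ⟨-, eb⟩ := c.kr_Q8_one (c.Q8.mul_mem (c.Q8.mul_mem ha ha) (c.Q8.inv_mem c.Jn_mem))
        (c.Q8.mul_mem hb' hb') e3
      rcases c.Q8_sq hb' eb with rfl | rfl
      · exact ⟨a, ha, e⟩
      · exfalso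
        have t1 : (x * kr q 1 * x⁻¹ : GL Pt F).val.trace = (kr q 1 : GL Pt F).val.trace := by
          rw [Units.val_mul, Units.val_mul, Matrix.trace_units_conj]
        have t2 : (x * (kr q 1 * t') * x⁻¹ : GL Pt F).val.trace = (kr q 1 * t' : GL Pt F).val.trace := by
          rw [Units.val_mul, Units.val_mul, Matrix.trace_units_conj]
        rw [e, kr_trace, kr_trace, c.Jn_trace] at t1
        rw [show x * (kr q 1 * t') * x⁻¹ = x * kr q 1 * x⁻¹ * (x * t' * x⁻¹) by group, e,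
          mul_inv_eq_iff_eq_mul.2 hxt', ht', kr_mul, kr_mul, kr_trace, kr_trace, c.Jn_sq, mul_one, mul_one, one_mul,
          c.Jn_trace] at t2
        simp [ZMod.card] at t1 t2
        have h8 : (2 : F) * 2 * 2 * (q : Matrix Z3 Z3 F).trace = 0 := by linear_combination (-3) * t1 - t2
        exact mul_ne_zero (mul_ne_zero (mul_ne_zero c.two c.two) c.two) htq h8
    · exfalso
      have hk : kr q 1 * t = t * kr q 1 := by
        rw [ht, kr_mul, kr_mul, ← hqq, mul_assoc]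
      have h1 : kr a b * swapU * t = t * (kr a b * swapU) := by
        rw [← e]
        calc x * kr q 1 * x⁻¹ * t = x * kr q 1 * x⁻¹ * (x * t * x⁻¹) := by rw [hc]
          _ = x * (kr q 1 * t) * x⁻¹ := by group
          _ = x * (t * kr q 1) * x⁻¹ := by rw [hk]
          _ = x * t * x⁻¹ * (x * kr q 1 * x⁻¹) := by group
          _ = t * (x * kr q 1 * x⁻¹) := by rw [hc]
      rw [ht, mul_assoc, ← swap_kr_swap, ← mul_assoc, ← mul_assoc, kr_mul, kr_mul, mul_left_inj] at h1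
      rw [mul_one, one_mul] at h1
      have h1' : kr (a⁻¹ * (c.Jn * a))⁻¹ (b⁻¹ * (b * c.Jn)) = 1 := by
        have := congrArg (fun g => (kr a b)⁻¹ * g) h1
        simp only [kr_inv, kr_mul] at this
        rw [show kr (a⁻¹ * (c.Jn * a))⁻¹ (b⁻¹ * (b * c.Jn)) = (kr (a⁻¹ * (c.Jn * a)) 1)⁻¹ * kr 1 (b⁻¹ * (b * c.Jn)) by
          rw [kr_inv, kr_mul, inv_one, one_mul, mul_one]]
        rw [inv_mul_eq_one]
        simpa using this.symm
      obtain ⟨-, e4⟩ := c.kr_Q8_one (c.Q8.inv_mem (c.Q8.mul_mem (c.Q8.inv_mem ha) (c.Q8.mul_mem c.Jn_mem ha)))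
        (c.Q8.mul_mem (c.Q8.inv_mem hb') (c.Q8.mul_mem hb' c.Jn_mem)) h1'
      rw [inv_mul_cancel_left] at e4
      have := congrArg (fun g : GL Z3 F => (g : Matrix Z3 Z3 F).trace) e4
      simp only [c.Jn_trace, Units.val_one, Matrix.trace_one, ZMod.card, Nat.cast_ofNat] at this
      exact mul_ne_zero c.two c.two (by linear_combination -this)
  have hGG : c.Gq * c.Gq = c.Jn := by
    have : c.Kq * c.Jn * c.Kq⁻¹ = c.Jn := by
      rw [mul_inv_eq_iff_eq_mul]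
      exact Units.ext (by rw [Units.val_mul, Units.val_mul, Jn_val, mul_neg, neg_mul, c.Kq_even])
    rw [← this, Gq, Jn]
    group
  have hFt : (c.Fq : Matrix Z3 Z3 F).trace ≠ 0 := by rw [Fq_trace]; exact one_ne_zero
  have hGt : (c.Gq : Matrix Z3 Z3 F).trace ≠ 0 := by rw [Gq_trace]; exact one_ne_zero
  obtain ⟨A, hA, eA⟩ := conjQ y1 hy1P hy1n hy1t _ c.Fq_mem hFt rfl
  obtain ⟨B, hB, eB⟩ := conjQ y1 hy1P hy1n hy1t _ c.Gq_mem hGt hGG
  have hy1n' := hn' y1 hy1n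
  have hinvn : ∀ s ∈ c.S0, y1⁻¹ * s * y1⁻¹⁻¹ ∈ c.S0 := by simpa using hy1n'
  have hinvt : y1⁻¹ * t = t * y1⁻¹ := by
    rw [inv_mul_eq_iff_eq_mul, ← mul_assoc, hy1t, mul_inv_cancel_right]
  -- the quaternion group is generated by the two elements
  have Q8gen : ∀ (H : Subgroup (GL Z3 F)), c.Fq ∈ H → c.Gq ∈ H → c.Q8 ≤ H := by
    intro H hF hG q hq
    obtain ⟨φ, hφ, hact⟩ := hq.1
    have hactG : c.Act c.Gq (tmul (tmul tK tF) (tinv tK)) :=
      c.act_mul (c.act_mul c.act_Kq c.act_Fq) (c.act_inv c.act_Kq (by decide))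
    have fin : ∀ B : GL Z3 F, B ∈ c.Q8 → c.Act B φ → B ∈ H → q ∈ H := fun B hB hBa hBH => by
      rwa [c.Q8_ext hq hB hact hBa]
    have hJ : c.Jn ∈ H := H.mul_mem hF hF
    have hgen : φ = tone ∨ φ = tneg ∨ φ = tF ∨ φ = tmul tneg tF ∨
        φ = tmul (tmul tK tF) (tinv tK) ∨ φ = tmul tneg (tmul (tmul tK tF) (tinv tK)) ∨
        φ = tmul tF (tmul (tmul tK tF) (tinv tK)) ∨ φ = tmul tneg (tmul tF (tmul (tmul tK tF) (tinv tK))) := by
      rcases inQ_cases φ hφ with rfl | rfl | rfl | rfl | rfl | rfl | rfl | rfl <;> decide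
    rcases hgen with e | e | e | e | e | e | e | e <;> subst e
    · exact fin 1 c.Q8.one_mem c.act_one H.one_mem
    · exact fin _ c.Jn_mem c.act_Jn hJ
    · exact fin _ c.Fq_mem c.act_Fq hF
    · exact fin _ (c.Q8.mul_mem c.Jn_mem c.Fq_mem) (c.act_mul c.act_Jn c.act_Fq) (H.mul_mem hJ hF)
    · exact fin _ c.Gq_mem hactG hG
    · exact fin _ (c.Q8.mul_mem c.Jn_mem c.Gq_mem) (c.act_mul c.act_Jn hactG) (H.mul_mem hJ hG)
    · exact fin _ (c.Q8.mul_mem c.Fq_mem c.Gq_mem) (c.act_mul c.act_Fq hactG) (H.mul_mem hF hG)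
    · exact fin _ (c.Q8.mul_mem c.Jn_mem (c.Q8.mul_mem c.Fq_mem c.Gq_mem))
        (c.act_mul c.act_Jn (c.act_mul c.act_Fq hactG)) (H.mul_mem hJ (H.mul_mem hF hG))
  -- both conjugations preserve the centraliser
  have consE : ∀ x ∈ P, (∀ s ∈ c.S0, x * s * x⁻¹ ∈ c.S0) → x * t = t * x →
      ∀ h ∈ c.EC M, x⁻¹ * h * x ∈ c.EC M := by
    intro x hxP hxn hxt h hh
    refine c.mem_EC.2 ⟨M.mul_mem (M.mul_mem (M.inv_mem (hPle hxP).1) hh.1) (hPle hxP).1, ?_⟩
    let H : Subgroup (GL Z3 F) :=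
      { carrier := {q | x⁻¹ * h * x * kr q 1 = kr q 1 * (x⁻¹ * h * x)}
        one_mem' := by simp [kr_one]
        mul_mem' := fun {q r} hq hr => by
          show _ = _
          rw [show kr (q * r) (1 : GL Z3 F) = kr q 1 * kr r 1 by rw [kr_mul, mul_one]]
          exact (Commute.mul_right hq hr)
        inv_mem' := fun {q} hq => by
          show _ = _
          rw [show kr q⁻¹ (1 : GL Z3 F) = (kr q 1)⁻¹ by rw [kr_inv, inv_one]]
          exact (Commute.inv_right hq) }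
    have key : ∀ q ∈ c.Q8, (q : Matrix Z3 Z3 F).trace ≠ 0 → q * q = c.Jn → q ∈ H := by
      intro q hq htq hqq
      obtain ⟨q', hq', e⟩ := conjQ x hxP hxn hxt q hq htq hqq
      have hcm := (c.mem_EC.1 hh).2 q' hq'
      rw [← e] at hcm
      show _ = _
      have h2 := congrArg (fun g => x⁻¹ * g * x) hcm
      simpa [mul_assoc] using h2
    exact fun q hq => Q8gen H (key _ c.Fq_mem hFt rfl) (key _ c.Gq_mem hGt hGG) hq
  -- the intertwiner
  have hevy : ∀ k l, c.Even' (slc (y1 : Matrix Pt Pt F) k l) := fun k l => by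
    have h := congrArg (fun g : GL Pt F => slc (g : Matrix Pt Pt F) k l) hy1t
    simp only [Units.val_mul, ht, kr_val, Units.val_one, slc_mul_kr, slc_kr_mul, Jn_val, mul_neg, neg_mul, neg_inj] at h
    exact h.symm
  have hint : ∀ (q q' : GL Z3 F), y1 * kr q 1 * y1⁻¹ = kr q' 1 → ∀ k l,
      slc (y1 : Matrix Pt Pt F) k l * (q : Matrix Z3 Z3 F) = (q' : Matrix Z3 Z3 F) * slc (y1 : Matrix Pt Pt F) k l :=
    fun q q' e k l => by
      have h := congrArg (fun g : GL Pt F => slc (g : Matrix Pt Pt F) k l) (mul_inv_eq_iff_eq_mul.1 e)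
      simpa only [Units.val_mul, kr_val, Units.val_one, slc_mul_kr, slc_kr_mul] using h
  have mkQ : ∀ k l, slc (y1 : Matrix Pt Pt F) k l * c.Pe ≠ 0 → ∃ Q : GL Z3 F,
      (Q : Matrix Z3 Z3 F) = slc (y1 : Matrix Pt Pt F) k l * c.Pe + c.Po := by
    intro k l hne
    set Y := slc (y1 : Matrix Pt Pt F) k l
    have hinj : ∀ v, (Y * c.Pe + c.Po) *ᵥ v = 0 → v = 0 := by
      intro v hv
      have hv1 : c.Po *ᵥ v = 0 := by
        have := congrArg (fun x => c.Po *ᵥ x) hv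
        rw [Matrix.mulVec_mulVec, mul_add, ← mul_assoc, c.even_comm_Po (hevy k l), mul_assoc, c.Po_mul_Pe, mul_zero,
          zero_add, c.Po_sq, Matrix.mulVec_zero] at this
        exact this
      have hve : c.Pe *ᵥ v = v := by
        have := congrArg (fun X => X *ᵥ v) c.Pe_add_Po
        simpa [Matrix.add_mulVec, hv1] using this
      by_contra hv0
      rw [Matrix.add_mulVec, hv1, add_zero, ← Matrix.mulVec_mulVec, hve] at hv
      exact hne (c.intertwiner_ker (hint _ _ eA k l) (hint _ _ eB k l) hv0 hve hv)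
    have hu : IsUnit (Y * c.Pe + c.Po) := Matrix.mulVec_injective_iff_isUnit.1 fun u v e => sub_eq_zero.1
      (hinj _ (by rw [Matrix.mulVec_sub, e, sub_self]))
    exact ⟨hu.unit, hu.unit_spec⟩
  obtain ⟨k0, l0, hne⟩ : ∃ k l, slc (y1 : Matrix Pt Pt F) k l * c.Pe ≠ 0 := by
    by_contra hno
    push Not at hno
    have h : (y1 : Matrix Pt Pt F) * (c.Pe ⊗ₖ (1 : Matrix Z3 Z3 F)) = 0 := slc_ext fun k l => by
      rw [slc_mul_kr, hno]
      rfl
    have := congrArg (fun X => ((y1⁻¹ : GL Pt F) : Matrix Pt Pt F) * X) h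
    simp only [← mul_assoc, Units.inv_mul, one_mul, mul_zero] at this
    have h0 := congrFun (congrFun this (0, 0)) (0, 0)
    simp [c.Pe_00] at h0
  obtain ⟨Q, hQ⟩ := mkQ k0 l0 hne
  have hQe : c.Even' (Q : Matrix Z3 Z3 F) := by
    show _ * _ = _ * _
    have hP : c.Even' c.Pe ∧ c.Even' c.Po := by
      constructor <;> show _ * _ = _ * _
      · rw [Pe, Matrix.mul_smul, Matrix.smul_mul, mul_add, add_mul, mul_one, one_mul]
      · rw [Po, Matrix.mul_smul, Matrix.smul_mul, mul_sub, sub_mul, mul_one, one_mul]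
    rw [hQ, mul_add, add_mul, c.even_mul (hevy k0 l0) hP.1, hP.2]
  have hfix : ∀ {q : GL Z3 F}, q ∈ c.Q8 → (q : Matrix Z3 Z3 F) * c.Po = c.Po := fun {q} hq => by
    have := c.mul_Po_of_fix hq.2.1 (a := 1) (by rw [one_smul]; exact hq.2.2)
    rwa [one_smul] at this
  have hQint : ∀ (q q' : GL Z3 F), q ∈ c.Q8 → q' ∈ c.Q8 → y1 * kr q 1 * y1⁻¹ = kr q' 1 → ∀ k l,
      (slc (y1 : Matrix Pt Pt F) k l * c.Pe + c.Po) * (q : Matrix Z3 Z3 F) =
        (q' : Matrix Z3 Z3 F) * (slc (y1 : Matrix Pt Pt F) k l * c.Pe + c.Po) := by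
    intro q q' hq hq' e k l
    rw [add_mul, mul_add, mul_assoc _ c.Pe, c.even_comm_Pe hq.2.1, ← mul_assoc, hint _ _ e k l, mul_assoc,
      c.even_comm_Po hq.2.1, hfix hq, hfix hq']
  have hrep : ∀ k l, ∃ a b : F, slc (y1 : Matrix Pt Pt F) k l =
      a • ((Q : Matrix Z3 Z3 F) * c.Pe) + b • c.Po := by
    intro k l
    set Z := ((Q⁻¹ : GL Z3 F) : Matrix Z3 Z3 F) * (slc (y1 : Matrix Pt Pt F) k l * c.Pe + c.Po) with hZ
    have hQ' : ∀ (q q' : GL Z3 F), q ∈ c.Q8 → q' ∈ c.Q8 → y1 * kr q 1 * y1⁻¹ = kr q' 1 →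
        Z * (q : Matrix Z3 Z3 F) = (q : Matrix Z3 Z3 F) * Z := by
      intro q q' hq hq' e
      have h1 := hQint q q' hq hq' e k l
      have h2 := hQint q q' hq hq' e k0 l0
      rw [← hQ] at h2
      rw [hZ, mul_assoc, h1, ← mul_assoc, ← mul_assoc]
      congr 1
      calc ((Q⁻¹ : GL Z3 F) : Matrix Z3 Z3 F) * (q' : Matrix Z3 Z3 F)
          = ((Q⁻¹ : GL Z3 F) : Matrix Z3 Z3 F) * ((q' : Matrix Z3 Z3 F) * (Q : Matrix Z3 Z3 F)) * ((Q⁻¹ : GL Z3 F) : Matrix Z3 Z3 F) := by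
            rw [mul_assoc, mul_assoc, Units.mul_inv, mul_one]
        _ = (q : Matrix Z3 Z3 F) * ((Q⁻¹ : GL Z3 F) : Matrix Z3 Z3 F) := by
            rw [← h2, ← mul_assoc, Units.inv_mul, one_mul]
    have hP : c.Even' c.Pe ∧ c.Even' c.Po := by
      constructor <;> show _ * _ = _ * _
      · rw [Pe, Matrix.mul_smul, Matrix.smul_mul, mul_add, add_mul, mul_one, one_mul]
      · rw [Po, Matrix.mul_smul, Matrix.smul_mul, mul_sub, sub_mul, mul_one, one_mul]
    have hZe : c.Even' Z := by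
      refine c.even_mul (c.even_inv hQe) ?_
      show _ * _ = _ * _
      rw [mul_add, add_mul, c.even_mul (hevy k l) hP.1, hP.2]
    obtain ⟨a, b, hab⟩ := c.commutant hZe (hQ' _ _ c.Fq_mem hA eA) (hQ' _ _ c.Gq_mem hB eB)
    have h1 : slc (y1 : Matrix Pt Pt F) k l * c.Pe = a • ((Q : Matrix Z3 Z3 F) * c.Pe) := by
      have h := congrArg (fun X => (Q : Matrix Z3 Z3 F) * X * c.Pe) hab
      simp only [hZ, ← mul_assoc, Units.mul_inv, one_mul, mul_add, Matrix.mul_smul, add_mul, Matrix.smul_mul] at h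
      rwa [mul_assoc _ c.Pe c.Pe, c.Pe_sq, c.Po_mul_Pe, add_zero, mul_assoc _ c.Pe c.Pe, c.Pe_sq,
        mul_assoc _ c.Po c.Pe, c.Po_mul_Pe, mul_zero, smul_zero, add_zero] at h
    set Y := slc (y1 : Matrix Pt Pt F) k l
    obtain ⟨r, hr⟩ : ∃ r : F, Y *ᵥ c.ov = r • c.ov := by
      refine ⟨(Y *ᵥ c.ov) 1, funext fun x => ?_⟩
      have h := congrArg (fun X => X *ᵥ c.ov) (c.even_comm_Po (hevy k l))
      simp only [← Matrix.mulVec_mulVec, c.Po_ov] at h
      rw [← h]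
      simp only [Pi.smul_apply, smul_eq_mul, ov, Po, Matrix.smul_mulVec, Matrix.sub_mulVec, Matrix.one_mulVec,
        Pi.sub_apply, Matrix.mulVec, dotProduct, c.sum_z]
      rcases (show ∀ a : ZMod 3, a = 0 ∨ a = 1 ∨ a = 2 by decide) x with rfl | rfl | rfl <;>
        simp +decide [Jm] <;> ring
    refine ⟨a, r, ?_⟩
    have h2 : Y * c.Po = r • c.Po := c.mul_Po_of_fix (hevy k l) hr
    rw [← h1, ← h2, ← mul_add, c.Pe_add_Po, mul_one]
  choose Lm Xm hLX using hrep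
  set QP := (Q : Matrix Z3 Z3 F) * c.Pe with hQP
  set Lx : Matrix Z3 Z3 F := Matrix.of Lm with hLx
  set Xx : Matrix Z3 Z3 F := Matrix.of Xm with hXx
  have hy1val : (y1 : Matrix Pt Pt F) = QP ⊗ₖ Lx + c.Po ⊗ₖ Xx := slc_ext fun k l => by
    rw [slc_add, slc_kr, slc_kr]; exact hLX k l
  have hQPne : QP ≠ 0 := fun h => by
    have := congrArg (fun X => ((Q⁻¹ : GL Z3 F) : Matrix Z3 Z3 F) * X) h
    rw [hQP, ← mul_assoc, Units.inv_mul, one_mul, mul_zero] at this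
    exact c.Pe_ne this
  have hPoQP : c.Po * QP = 0 := by
    rw [hQP, ← mul_assoc, c.even_comm_Po hQe, mul_assoc, c.Po_mul_Pe, mul_zero]
  have hQPPo : QP * c.Po = 0 := by rw [hQP, mul_assoc, c.Pe_mul_Po, mul_zero]
  have hPeQP : c.Pe * QP = QP := by rw [hQP, ← mul_assoc, c.even_comm_Pe hQe, mul_assoc, c.Pe_sq]
  have hQPPe : QP * c.Pe = QP := by rw [hQP, mul_assoc, c.Pe_sq]
  have coeff : ∀ {L L' X X' : Matrix Z3 Z3 F}, QP ⊗ₖ L + c.Po ⊗ₖ X = QP ⊗ₖ L' + c.Po ⊗ₖ X' → L = L' ∧ X = X' := by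
    intro L L' X X' h
    have h' : ∀ k l, L k l • QP + X k l • c.Po = L' k l • QP + X' k l • c.Po := fun k l => by
      simpa only [slc_add, slc_kr] using congrArg (fun Y => slc Y k l) h
    constructor <;> ext k l
    · have := congrArg (fun Y => Y * c.Pe) (h' k l)
      simp only [add_mul, Matrix.smul_mul, hQPPe, c.Po_mul_Pe, smul_zero, add_zero] at this
      exact smul_left_injective F hQPne this
    · have := congrArg (fun Y => (Y * c.Po) 1 1 - (Y * c.Po) 1 2) (h' k l)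
      simp only [add_mul, Matrix.smul_mul, hQPPo, c.Po_sq, smul_zero, zero_add, Matrix.smul_apply, smul_eq_mul,
        ← mul_sub, c.Po_d, mul_one] at this
      exact this
  have embmul : ∀ B' X' : Matrix Z3 Z3 F, (y1 : Matrix Pt Pt F) * c.emb B' X' = QP ⊗ₖ (Lx * B') + c.Po ⊗ₖ (Xx * X') ∧
      c.emb B' X' * (y1 : Matrix Pt Pt F) = QP ⊗ₖ (B' * Lx) + c.Po ⊗ₖ (X' * Xx) := by
    intro B' X'
    rw [hy1val, emb]
    constructor <;> simp only [add_mul, mul_add, ← Matrix.mul_kronecker_mul, hQPPe, hQPPo, c.Po_mul_Pe, c.Po_sq,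
      hPeQP, hPoQP, c.Pe_mul_Po, Matrix.zero_kronecker, add_zero, zero_add]
  -- the coefficients are invertible
  have hLinj : IsUnit Lx ∧ IsUnit Xx := by
    constructor <;> refine Matrix.mulVec_injective_iff_isUnit.1 fun u v e => sub_eq_zero.1 ?_ <;>
      by_contra hne
    all_goals
      have hker : ∀ w : Z3 → F, (y1 : Matrix Pt Pt F) *ᵥ (fun p : Pt => w p.1 * (u - v) p.2) =
          fun p : Pt => (QP *ᵥ w) p.1 * (Lx *ᵥ (u - v)) p.2 + (c.Po *ᵥ w) p.1 * (Xx *ᵥ (u - v)) p.2 := by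
        intro w
        funext p
        rw [hy1val, Matrix.add_mulVec, Pi.add_apply]
        simp only [Matrix.mulVec, dotProduct, Fintype.sum_prod_type, Matrix.kroneckerMap_apply, Finset.sum_mul_sum]
        congr 1 <;> exact Finset.sum_congr rfl fun i _ => Finset.sum_congr rfl fun j _ => by ring
      have hz0 : ∀ w : Z3 → F, (y1 : Matrix Pt Pt F) *ᵥ (fun p : Pt => w p.1 * (u - v) p.2) = 0 →
          ∀ x j, w x * (u - v) j = 0 := by
        intro w h x j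
        have := congrArg (fun X => ((y1⁻¹ : GL Pt F) : Matrix Pt Pt F) *ᵥ X) h
        simp only [Matrix.mulVec_mulVec, Units.inv_mul, Matrix.one_mulVec, Matrix.mulVec_zero] at this
        exact congrFun this (x, j)
      obtain ⟨j, hj⟩ := Function.ne_iff.1 hne
    · have := hz0 (Pi.single 0 1) (by
        rw [hker]
        funext p
        have h1 : (Lx *ᵥ (u - v)) = 0 := by rw [Matrix.mulVec_sub, e, sub_self]
        have h2 : (c.Po *ᵥ Pi.single 0 1) = 0 := by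
          funext x
          rw [Matrix.mulVec_single, Pi.smul_apply]
          rcases (show ∀ a : ZMod 3, a = 0 ∨ a = 1 ∨ a = 2 by decide) x with rfl | rfl | rfl <;>
            simp +decide [Po, Jm]
        simp [h1, h2]) 0 j
      simp at this
      exact hj (by simpa using this)
    · have := hz0 c.ov (by
        rw [hker]
        funext p
        have h1 : (Xx *ᵥ (u - v)) = 0 := by rw [Matrix.mulVec_sub, e, sub_self]
        have h2 : QP *ᵥ c.ov = 0 := by rw [hQP, ← Matrix.mulVec_mulVec, c.Pe_ov, Matrix.mulVec_zero]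
        simp [h1, h2]) 1 j
      simp [ov] at this
      exact hj (by simpa using this)
  obtain ⟨⟨L, hL⟩, ⟨X, hX⟩⟩ := hLinj
  -- both normalise
  obtain ⟨hnB, hnX⟩ := c.EC_nr hb hM hns hp
  have conj_rel : ∀ h : c.EC M, ∀ h' : c.EC M, y1 * (h : GL Pt F) = (h' : GL Pt F) * y1 →
      L * c.pB h = c.pB h' * L ∧ X * c.pX h = c.pX h' * X := by
    intro h h' e
    have e' := congrArg Units.val e
    rw [Units.val_mul, Units.val_mul, c.EC_val, c.EC_val, (embmul _ _).1, (embmul _ _).2, ← hL, ← hX] at e'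
    obtain ⟨e1, e2⟩ := coeff e'
    exact ⟨Units.ext (by simpa using e1), Units.ext (by simpa using e2)⟩
  have hLX1 : ∀ x ∈ Cfsg.Geo.specialLinear Z3 F, c.Nr1 x →
      (c.Nr1 (L * x * L⁻¹) ∧ c.Nr1 (L⁻¹ * x * L)) ∧ (c.Nr1 (X * x * X⁻¹) ∧ c.Nr1 (X⁻¹ * x * X)) := by
    intro x hx hxn
    have hx3 : (x : Matrix Z3 Z3 F).det ^ 3 = 1 := by rw [mem_sl.1 hx, one_pow]
    have h1 : y1 * kr 1 x * y1⁻¹ ∈ c.EC M := by
      have := consE y1⁻¹ (P.inv_mem hy1P) hinvn hinvt _ (c.kr_EC hM hxn hx3)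
      simpa using this
    obtain ⟨a1, a2⟩ := conj_rel ⟨_, c.kr_EC hM hxn hx3⟩ ⟨_, h1⟩ (by simp [mul_assoc])
    obtain ⟨b1, b2⟩ := conj_rel ⟨_, consE y1 hy1P hy1n hy1t _ (c.kr_EC hM hxn hx3)⟩ ⟨_, c.kr_EC hM hxn hx3⟩
      (by simp [mul_assoc])
    rw [c.pB_kr hM hxn hx3] at a1 b1
    rw [c.pX_kr hM hxn hx3] at a2 b2
    refine ⟨⟨?_, ?_⟩, ?_, ?_⟩
    · rw [a1, mul_inv_cancel_right]; exact hnB _
    · rw [mul_assoc, ← b1, inv_mul_cancel_left]; exact hnB _
    · rw [a2, mul_inv_cancel_right]; exact hnX _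
    · rw [mul_assoc, ← b2, inv_mul_cancel_left]; exact hnX _
  have hLn : c.Nr1 L := c.nr_of_conj (fun x hx hn => ((hLX1 x hx hn).1).1) fun x hx hn => ((hLX1 x hx hn).1).2
  have hXn : c.Nr1 X := c.nr_of_conj (fun x hx hn => ((hLX1 x hx hn).2).1) fun x hx hn => ((hLX1 x hx hn).2).2
  -- they commute with the inversion
  have hLXe : c.Even' (L : Matrix Z3 Z3 F) ∧ c.Even' (X : Matrix Z3 Z3 F) := by
    have hk : kr 1 c.Jn ∈ c.EC M := c.kr_EC hM (c.act_nr c.act_Jn)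
      (by rw [Jn, Units.val_mul, Matrix.det_mul, Fq_det, mul_one, one_pow])
    obtain ⟨a1, a2⟩ := conj_rel ⟨_, hk⟩ ⟨_, hk⟩ (by
      show y1 * t' = t' * y1
      rw [hzt, ← mul_assoc, hz y1 hy1P, mul_assoc, hy1t, mul_assoc])
    rw [c.pB_kr hM (c.act_nr c.act_Jn) (by rw [Jn, Units.val_mul, Matrix.det_mul, Fq_det, mul_one, one_pow])] at a1
    rw [c.pX_kr hM (c.act_nr c.act_Jn) (by rw [Jn, Units.val_mul, Matrix.det_mul, Fq_det, mul_one, one_pow])] at a2
    have a1' := congrArg Units.val a1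
    have a2' := congrArg Units.val a2
    rw [Units.val_mul, Units.val_mul, Jn_val, mul_neg, neg_mul, neg_inj] at a1' a2'
    exact ⟨a1'.symm, a2'.symm⟩
  -- split off the second factor
  obtain ⟨φ, hd, hLa⟩ := c.nr_act hLn
  obtain ⟨A2, hA2, hA2e, hA2d⟩ := c.exists_word φ hd
  obtain ⟨l, hl0, hlA⟩ := c.even_unique hd hLa hA2 hLXe.1 hA2e
  obtain ⟨ψ, hd2, hXa⟩ := c.nr_act (A := X * A2⁻¹) (by
    obtain ⟨ψ, -, h⟩ := c.nr_act hXn
    exact c.act_nr (c.act_mul h (c.act_inv hA2 hd)))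
  set y2 := y1 * (kr 1 A2)⁻¹ with hy2
  have hy2val : (y2 : Matrix Pt Pt F) = QP ⊗ₖ (l • 1) + c.Po ⊗ₖ ((X * A2⁻¹ : GL Z3 F) : Matrix Z3 Z3 F) := by
    rw [hy2, Units.val_mul, kr_inv, inv_one, kr_val, Units.val_one, hy1val, add_mul, ← Matrix.mul_kronecker_mul,
      ← Matrix.mul_kronecker_mul, mul_one, mul_one, ← hL, ← hX, hlA, Matrix.smul_mul, Units.mul_inv, Units.val_mul]
  have hy2M : y2 ∈ M := M.mul_mem (hPle hy1P).1 (M.inv_mem (c.one_kr_mem hM (c.act_nr hA2) hA2d))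
  have hψ : ∀ v, tap ψ v = v := by
    intro v
    by_contra hne
    obtain ⟨b, hb2⟩ := hXa v
    let h : GL Pt F := kr 1 (c.WU v)
    have hh : h ∈ M := c.one_kr_mem hM (c.nr_WU v) (by rw [WU_val, W_det, one_pow])
    set u := tap ψ v - v with hu
    have hbu : ∃ a : F, a • (c.W u * c.W v) = b • c.W (tap ψ v) := ⟨b * (c.χ (u.2 * v.1))⁻¹, by
      rw [W_mul, hu, sub_add_cancel, smul_smul, mul_assoc, inv_mul_cancel₀ (c.χ_ne _), mul_one]⟩
    obtain ⟨a, ha⟩ := hbu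
    refine c.kill hb hM hns (g := y2 * h * y2⁻¹ * h⁻¹) (M.mul_mem (M.mul_mem (M.mul_mem hy2M hh) (M.inv_mem hy2M))
      (M.inv_mem hh)) (v := u) (sub_ne_zero.2 hne) (a := a) ?_
    have e : (y2 * h : GL Pt F).val = c.emb 1 (a • c.W u) * ((h * y2 : GL Pt F).val) := by
      show (y2 : Matrix Pt Pt F) * (h : Matrix Pt Pt F) = _ * ((h : Matrix Pt Pt F) * (y2 : Matrix Pt Pt F))
      rw [hy2val, show (h : Matrix Pt Pt F) = (1 : Matrix Z3 Z3 F) ⊗ₖ c.W v from rfl, emb]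
      simp only [add_mul, mul_add, ← Matrix.mul_kronecker_mul, one_mul, mul_one, hPeQP, hPoQP, c.Pe_mul_Po, c.Po_sq,
        Matrix.zero_kronecker, add_zero, zero_add]
      congr 2
      · rw [Matrix.smul_mul, Matrix.mul_smul, one_mul, mul_one]
      · rw [hb2, ← Matrix.smul_mul, ← ha]
        simp only [Matrix.smul_mul, Matrix.mul_smul, mul_assoc]
    rw [show (y2 * h * y2⁻¹ * h⁻¹ : GL Pt F) = (y2 * h) * (h * y2)⁻¹ by group, Units.val_mul, e, mul_assoc,
      Units.mul_inv, mul_one]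
  have hψ1 : ψ = tone := tw_ext (by rw [hψ, tap_one]) (by rw [hψ, tap_one])
  subst hψ1
  obtain ⟨m, hm0, hm⟩ := c.even_unique (φ := tone) (by decide) hXa c.act_one
    (by rw [Units.val_mul]; exact c.even_mul hLXe.2 (c.even_inv hA2e)) c.even_one
  -- a factor on the first qutrit
  have hu1 : IsUnit (l • QP + m • c.Po) := by
    refine Matrix.mulVec_injective_iff_isUnit.1 fun u v e => sub_eq_zero.1 ?_
    have h : (l • QP + m • c.Po) *ᵥ (u - v) = 0 := by rw [Matrix.mulVec_sub, e, sub_self]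
    have h1 : c.Po *ᵥ (u - v) = 0 := by
      have := congrArg (fun x => c.Po *ᵥ x) h
      simp only [Matrix.mulVec_mulVec, mul_add, Matrix.mul_smul, hPoQP, smul_zero, zero_add, c.Po_sq,
        Matrix.smul_mulVec, Matrix.mulVec_zero] at this
      exact (smul_eq_zero.1 this).resolve_left hm0
    have h2 : c.Pe *ᵥ (u - v) = 0 := by
      have h' := h
      rw [Matrix.add_mulVec, Matrix.smul_mulVec, Matrix.smul_mulVec, h1, smul_zero, add_zero, hQP,
        ← Matrix.mulVec_mulVec] at h'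
      have h'' := congrArg (fun x => ((Q⁻¹ : GL Z3 F) : Matrix Z3 Z3 F) *ᵥ x) ((smul_eq_zero.1 h').resolve_left hl0)
      simpa [Matrix.mulVec_mulVec] using h''
    have := congrArg (fun Y => Y *ᵥ (u - v)) c.Pe_add_Po
    simpa [Matrix.add_mulVec, h1, h2] using this.symm
  obtain ⟨U, hU⟩ := hu1
  have hy2U : y2 = kr U 1 := Units.ext (by
    rw [hy2val, kr_val, hU, Units.val_one, hm, Matrix.add_kronecker, Matrix.smul_kronecker, Matrix.smul_kronecker,
      Matrix.kronecker_smul, Matrix.kronecker_smul, Units.val_one])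
  have hUn : c.Nr1 U := c.nr_of_kr_one hb hM hns (hy2U ▸ hy2M)
  obtain ⟨φ1, hd1, hU1⟩ := c.nr_act hUn
  obtain ⟨A1, hA1, hA1e, hA1d⟩ := c.exists_word φ1 hd1
  have hUe : c.Even' (U : Matrix Z3 Z3 F) := by
    show _ * _ = _ * _
    rw [hU, hQP, mul_add, add_mul, mul_smul_comm, smul_mul_assoc, mul_smul_comm, smul_mul_assoc,
      c.even_mul hQe c.Pe_even, c.Po_even]
  -- both factors are two-elements modulo scalars
  have hy1eq : y1 = kr U A2 := by
    rw [show y1 = y2 * kr 1 A2 by rw [hy2, inv_mul_cancel_right], hy2U, kr_mul, mul_one, one_mul]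
  obtain ⟨n, hn2⟩ := hP2 ⟨y1, hy1P⟩
  have hpw : y1 ^ (2 ^ n) = 1 := congrArg Subtype.val hn2
  have hkp : ∀ j : ℕ, kr U A2 ^ j = kr (U ^ j) (A2 ^ j) := fun j => by
    induction j with
    | zero => simp [kr_one]
    | succ j ih => rw [pow_succ, ih, kr_mul, pow_succ, pow_succ]
  rw [hy1eq, hkp] at hpw
  obtain ⟨⟨r, hr⟩, r', hr'⟩ := kr_scalar (U := U ^ (2 ^ n)) (V := A2 ^ (2 ^ n)) (a := (1 : F))
    (by rw [hpw, Units.val_one, one_smul]) one_ne_zero
  have fin4 : ∀ (V : GL Z3 F) (ω' : Tw), tdet ω' = 1 → c.Act V ω' → ∀ r : F,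
      ((V ^ (2 ^ n) : GL Z3 F) : Matrix Z3 Z3 F) = r • 1 → InQ ω' := by
    intro V ω' hdω hV r hr
    let K : Subgroup (GL Z3 F) :=
      { carrier := {g | c.Act g tone}
        one_mem' := c.act_one
        mul_mem' := fun h1 h2 => by simpa [show tmul tone tone = tone by decide] using c.act_mul h1 h2
        inv_mem' := fun h => by simpa [show tinv tone = tone by decide] using c.act_inv h (by decide) }
    have h4 := c.act_mul (c.act_mul hV hV) (c.act_mul hV hV)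
    have h12 := c.act_mul h4 (c.act_mul h4 h4)
    rw [(show ∀ φ : Tw, tdet φ = 1 → tmul (tmul (tmul φ φ) (tmul φ φ))
      (tmul (tmul (tmul φ φ) (tmul φ φ)) (tmul (tmul φ φ) (tmul φ φ))) = tone by decide) ω' hdω] at h12
    have k12 : V ^ 12 ∈ K := by
      rw [show V ^ 12 = V * V * (V * V) * (V * V * (V * V) * (V * V * (V * V))) by
        simp only [pow_succ, pow_zero, one_mul, mul_assoc]]
      exact h12
    have kn : V ^ (2 ^ n) ∈ K := fun v => ⟨1, by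
      rw [hr, tap_one, Matrix.smul_mul, Matrix.mul_smul, one_mul, mul_one, one_smul]⟩
    have k4 : V ^ 4 ∈ K := by
      have hg : V ^ Nat.gcd 12 (2 ^ n) ∈ K := by
        rw [← zpow_natCast, Nat.gcd_eq_gcd_ab, _root_.zpow_add, _root_.zpow_mul, _root_.zpow_mul, zpow_natCast, zpow_natCast]
        exact K.mul_mem (K.zpow_mem k12 _) (K.zpow_mem kn _)
      obtain ⟨d, hd⟩ : Nat.gcd 12 (2 ^ n) ∣ 4 := by
        obtain ⟨i, -, hi⟩ := (Nat.dvd_prime_pow Nat.prime_two).1 (Nat.gcd_dvd_right 12 (2 ^ n))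
        have h12' := Nat.gcd_dvd_left 12 (2 ^ n)
        rw [hi] at h12' ⊢
        have hi2 : i ≤ 2 := by
          by_contra hc
          exact absurd ((pow_dvd_pow 2 (show 3 ≤ i by omega)).trans h12') (by norm_num)
        exact pow_dvd_pow 2 hi2
      rw [hd, pow_mul]
      exact K.pow_mem hg d
    refine ⟨hdω, c.act_unique (c.act_mul (c.act_mul hV hV) (c.act_mul hV hV)) ?_⟩
    rw [show V * V * (V * V) = V ^ 4 by simp only [pow_succ, pow_zero, one_mul, mul_assoc]]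
    exact k4
  have toQ : ∀ (V : GL Z3 F) (ω' : Tw), InQ ω' → c.Act V ω' → c.Even' (V : Matrix Z3 Z3 F) →
      ∃ q ∈ c.Q8, ∃ a : F, a ≠ 0 ∧ (V : Matrix Z3 Z3 F) = a • (q : Matrix Z3 Z3 F) := by
    intro V ω' hω hV hVe
    have hgen : ω' = tone ∨ ω' = tneg ∨ ω' = tF ∨ ω' = tmul tneg tF ∨
        ω' = tmul (tmul tK tF) (tinv tK) ∨ ω' = tmul tneg (tmul (tmul tK tF) (tinv tK)) ∨
        ω' = tmul tF (tmul (tmul tK tF) (tinv tK)) ∨ ω' = tmul tneg (tmul tF (tmul (tmul tK tF) (tinv tK))) := by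
      rcases inQ_cases ω' hω with rfl | rfl | rfl | rfl | rfl | rfl | rfl | rfl <;> decide
    have hactG : c.Act c.Gq (tmul (tmul tK tF) (tinv tK)) :=
      c.act_mul (c.act_mul c.act_Kq c.act_Fq) (c.act_inv c.act_Kq (by decide))
    have fin : ∀ q : GL Z3 F, q ∈ c.Q8 → c.Act q ω' → ∃ q ∈ c.Q8, ∃ a : F, a ≠ 0 ∧
        (V : Matrix Z3 Z3 F) = a • (q : Matrix Z3 Z3 F) := fun q hq hqa =>
      ⟨q, hq, c.even_unique hω.1 hV hqa hVe hq.2.1⟩
    rcases hgen with e | e | e | e | e | e | e | e <;> subst e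
    · exact fin 1 c.Q8.one_mem c.act_one
    · exact fin _ c.Jn_mem c.act_Jn
    · exact fin _ c.Fq_mem c.act_Fq
    · exact fin _ (c.Q8.mul_mem c.Jn_mem c.Fq_mem) (c.act_mul c.act_Jn c.act_Fq)
    · exact fin _ c.Gq_mem hactG
    · exact fin _ (c.Q8.mul_mem c.Jn_mem c.Gq_mem) (c.act_mul c.act_Jn hactG)
    · exact fin _ (c.Q8.mul_mem c.Fq_mem c.Gq_mem) (c.act_mul c.act_Fq hactG)
    · exact fin _ (c.Q8.mul_mem c.Jn_mem (c.Q8.mul_mem c.Fq_mem c.Gq_mem))
        (c.act_mul c.act_Jn (c.act_mul c.act_Fq hactG))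
  obtain ⟨q1, hq1, a1, ha10, ha1⟩ := toQ U φ1 (fin4 U φ1 hd1 hU1 r hr) hU1 hUe
  obtain ⟨q2, hq2, a2, ha20, ha2⟩ := toQ A2 φ (fin4 A2 φ hd hA2 r' hr') hA2 hA2e
  -- the scalar is one
  have hval : (y1 : Matrix Pt Pt F) = (a1 * a2) • (kr q1 q2 : Matrix Pt Pt F) := by
    rw [hy1eq, kr_val, kr_val, ha1, ha2, Matrix.smul_kronecker, Matrix.kronecker_smul, smul_smul]
  set w := y1 * (kr q1 q2)⁻¹ with hw
  have hwv : (w : Matrix Pt Pt F) = (a1 * a2) • 1 := by
    rw [hw, Units.val_mul, hval, Matrix.smul_mul, Units.mul_inv]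
  have hwP : w ∈ P := P.mul_mem hy1P (P.inv_mem (hS (c.S0_base hq1 hq2)))
  obtain ⟨i, hi⟩ := hP2 ⟨w, hwP⟩
  have hwi : w ^ (2 ^ i) = 1 := congrArg Subtype.val hi
  have h1 := congrArg (fun g : GL Pt F => (g : Matrix Pt Pt F) (0, 0) (0, 0)) hwi
  simp only [Units.val_pow_eq_pow_val, hwv, smul_pow, one_pow, Units.val_one, Matrix.smul_apply, Matrix.one_apply_eq,
    smul_eq_mul, mul_one] at h1
  have h9 := mem_sl.1 (hM.1 (hPle hwP).1)
  rw [hwv, Matrix.det_smul, Matrix.det_one, mul_one] at h9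
  have hlam : a1 * a2 = 1 := by
    have hg := pow_gcd_eq_one.2 ⟨h1, h9⟩
    rwa [show Nat.gcd (2 ^ i) (Fintype.card Pt) = 1 from Nat.Coprime.pow_left i (by simp [ZMod.card]; decide), pow_one] at hg
  have : w = 1 := Units.ext (by rw [hwv, hlam, one_smul, Units.val_one])
  rw [show y1 = w * kr q1 q2 by rw [hw, inv_mul_cancel_right], this, one_mul]
  exact c.S0_base hq1 hq2

/-- The product of the two central involutions is isolated in the overgroup. -/
theorem isolated (hb : c.BaseHyp) (hM : c.Over M) (hns : ¬ Cfsg.Geo.specialLinear Pt F ≤ M) (hp : PrimeFld F)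
    (hz : c.zI ∈ M) : Cfsg.IsIsolatedInvolution (⟨c.zI, hz⟩ : M) := by
  classical
  have hne : c.zI ≠ 1 := fun e => by
    have := c.zI_trace
    rw [e, Units.val_one, Matrix.trace_one] at this
    simp [ZMod.card] at this
    exact mul_ne_zero (mul_ne_zero c.two c.two) c.two (by linear_combination this)
  refine ⟨?_, fun g hg => ?_⟩
  · rw [← Subgroup.orderOf_coe]
    exact orderOf_eq_prime (by rw [pow_two, c.zI_sq]) hne
  apply Subtype.ext
  set C := M ⊓ Subgroup.centralizer {c.zI} with hC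
  set z' := (g : GL Pt F) * c.zI * (g : GL Pt F)⁻¹ with hz'
  show z' = c.zI
  have hz'C : z' ∈ C := ⟨M.mul_mem (M.mul_mem g.2 hz) (M.inv_mem g.2), Subgroup.mem_centralizer_singleton_iff.2
    (congrArg Subtype.val hg.eq).symm⟩
  have hzi : z' * z' = 1 := by
    rw [hz', show (g : GL Pt F) * c.zI * (g : GL Pt F)⁻¹ * ((g : GL Pt F) * c.zI * (g : GL Pt F)⁻¹) =
      (g : GL Pt F) * (c.zI * c.zI) * (g : GL Pt F)⁻¹ by group, c.zI_sq, mul_one, mul_inv_cancel]
  haveI : Fact (Nat.Prime 2) := ⟨Nat.prime_two⟩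
  have hS0 : IsPGroup 2 c.S0 := by
    rintro ⟨s, hs⟩
    obtain ⟨a, ha, b, hb', e⟩ := c.S0_sq hs
    refine ⟨3, Subtype.ext ?_⟩
    show s ^ (2 ^ 3) = 1
    rw [show (2 : ℕ) ^ 3 = 2 * 4 by norm_num, pow_mul, pow_two, e, show kr a b ^ 4 = kr (a ^ 4) (b ^ 4) by
      simp only [pow_succ, pow_zero, one_mul, kr_mul], c.Q8_pow_four ha, c.Q8_pow_four hb', kr_one]
  let S : Subgroup C := c.S0.subgroupOf C
  have hS2 : IsPGroup 2 S := hS0.comap_of_injective C.subtype C.subtype_injective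
  obtain ⟨P, hP⟩ := hS2.exists_le_sylow
  have hPS : (P : Subgroup C) = S := by
    refine le_antisymm ?_ hP
    by_contra hle
    haveI : Group.IsNilpotent (P : Subgroup C) := P.isPGroup'.isNilpotent
    have hlt : S.subgroupOf P < ⊤ := lt_top_iff_ne_top.2 fun e => hle (Subgroup.subgroupOf_eq_top.1 e)
    have hgrow := normalizerCondition_of_isNilpotent (G := (P : Subgroup C)) _ hlt
    obtain ⟨y, hyn, hyS⟩ := SetLike.exists_of_lt hgrow
    apply hyS
    let P' : Subgroup (GL Pt F) := (P : Subgroup C).map C.subtype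
    show ((y : C) : GL Pt F) ∈ c.S0
    refine c.S0_self hb hM hns hp (P := P') (P.isPGroup'.map C.subtype) ?_ ?_ ⟨_, y.2, rfl⟩ ?_
    · rintro _ ⟨x, -, rfl⟩; exact x.2
    · intro s hs
      exact ⟨⟨s, c.S0_le hM hs⟩, hP (show (⟨s, c.S0_le hM hs⟩ : C) ∈ S from hs), rfl⟩
    · intro s hs
      have hs' : (⟨⟨s, c.S0_le hM hs⟩, hP hs⟩ : (P : Subgroup C)) ∈ S.subgroupOf P := hs
      exact (Subgroup.mem_normalizer_iff.1 hyn _).1 hs'
  obtain ⟨Q', hQ'⟩ := (show IsPGroup 2 (Subgroup.zpowers (⟨z', hz'C⟩ : C)) from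
    IsPGroup.of_card_dvd_pow (n := 1) (by
      rw [Nat.card_zpowers, pow_one]
      exact orderOf_dvd_of_pow_eq_one (Subtype.ext (by simpa [pow_two] using hzi)))).exists_le_sylow
  obtain ⟨d, hd⟩ := MulAction.exists_smul_eq C P Q'
  have hmem := hQ' (Subgroup.mem_zpowers _)
  rw [← hd] at hmem
  obtain ⟨s, hs, hds⟩ := Subgroup.mem_map.1 hmem
  rw [hPS] at hs
  have e : z' = (d : GL Pt F) * (s : GL Pt F) * (d : GL Pt F)⁻¹ := by
    have := congrArg Subtype.val hds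
    simpa using this.symm
  have hs1 : (s : GL Pt F) = c.zI := by
    have es : (s : GL Pt F) = (d : GL Pt F)⁻¹ * z' * (d : GL Pt F) := by rw [e]; group
    refine c.S0_inv hs ?_ ?_
    · rw [es, show (d : GL Pt F)⁻¹ * z' * (d : GL Pt F) * ((d : GL Pt F)⁻¹ * z' * (d : GL Pt F)) =
        (d : GL Pt F)⁻¹ * (z' * z') * (d : GL Pt F) by group, hzi, mul_one, inv_mul_cancel]
    · rw [es, hz', Units.val_mul, Units.val_mul, Matrix.trace_units_conj', Units.val_mul, Units.val_mul,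
        Matrix.trace_units_conj, c.zI_trace]
  rw [e, hs1, Subgroup.mem_centralizer_singleton_iff.1 d.2.2, mul_inv_cancel_right]

end Ctx

end Cfsg.Agent.Heis12
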