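import Cfsg.Agent.Lib.Heis12Block
import Cfsg.Agent.Lib.Heis12Graph

/-!
The centraliser of the quaternion group of one qutrit in a proper overgroup, and the elements
normalising it.
-/

set_option autoImplicit false
set_option linter.unusedSectionVars false
set_option synthInstance.maxSize 5000

namespace Cfsg.Agent.Heis12

open Matrix
open scoped MatrixGroups Kronecker commutatorElement

variable {F : Type*} [Field F]

/-- The matrix of entries in the first coordinate at given second coordinates. -/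
def slc (X : Matrix Pt Pt F) (k l : Z3) : Matrix Z3 Z3 F := Matrix.of fun i j => X (i, k) (j, l)

theorem slc_kr (A B : Matrix Z3 Z3 F) (k l : Z3) : slc (A ⊗ₖ B) k l = B k l • A := by
  ext i j
  simp [slc, mul_comm]

theorem slc_add (X Y : Matrix Pt Pt F) (k l : Z3) : slc (X + Y) k l = slc X k l + slc Y k l := rfl

theorem slc_ext {X Y : Matrix Pt Pt F} (h : ∀ k l, slc X k l = slc Y k l) : X = Y := by
  ext ⟨i, k⟩ ⟨j, l⟩
  exact congrFun (congrFun (h k l) i) j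

theorem slc_mul_kr (X : Matrix Pt Pt F) (A : Matrix Z3 Z3 F) (k l : Z3) :
    slc (X * A ⊗ₖ (1 : Matrix Z3 Z3 F)) k l = slc X k l * A := by
  ext i j
  simp only [slc, Matrix.of_apply, Matrix.mul_apply, Fintype.sum_prod_type, Matrix.kroneckerMap_apply,
    Matrix.one_apply, mul_ite, mul_one, mul_zero]
  simp

theorem slc_kr_mul (X : Matrix Pt Pt F) (A : Matrix Z3 Z3 F) (k l : Z3) :
    slc (A ⊗ₖ (1 : Matrix Z3 Z3 F) * X) k l = A * slc X k l := by
  ext i j
  simp only [slc, Matrix.of_apply, Matrix.mul_apply, Fintype.sum_prod_type, Matrix.kroneckerMap_apply,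
    Matrix.one_apply, mul_ite, ite_mul, mul_one, mul_zero, zero_mul]
  simp

/-- A prime field, in the form used here. -/
def PrimeFld (F : Type*) [Field F] : Prop :=
  ∃ p : ℕ, p.Prime ∧ CharP F p ∧ 3 < p ∧ ∀ x : F, ∃ n : ℕ, (n : F) = x

namespace Ctx

variable (c : Ctx F)

theorem Pe_00 : c.Pe 0 0 = 1 := by
  simp +decide [Pe, Jm]
  field_simp [c.two]
  norm_num

theorem Po_00 : c.Po 0 0 = 0 := by simp +decide [Po, Jm]

theorem Pe_d : c.Pe 1 1 - c.Pe 1 2 = 0 := by simp +decide [Pe, Jm]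

theorem Po_d : c.Po 1 1 - c.Po 1 2 = 1 := by
  simp +decide [Po, Jm]
  field_simp [c.two]
  norm_num

theorem Pe_ne : c.Pe ≠ 0 := fun h => by simpa [h] using c.Pe_00

/-- The matrix acting as `B` over the even and as `X` over the odd vectors. -/
def emb (B X : Matrix Z3 Z3 F) : Matrix Pt Pt F := c.Pe ⊗ₖ B + c.Po ⊗ₖ X

theorem emb_mul (B X B' X' : Matrix Z3 Z3 F) : c.emb B X * c.emb B' X' = c.emb (B * B') (X * X') := by
  simp only [emb, add_mul, mul_add, ← Matrix.mul_kronecker_mul, c.Pe_sq, c.Po_sq, c.Pe_mul_Po, c.Po_mul_Pe,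
    Matrix.zero_kronecker, add_zero, zero_add]

theorem emb_diag (B : Matrix Z3 Z3 F) : c.emb B B = (1 : Matrix Z3 Z3 F) ⊗ₖ B := by
  rw [emb, ← Matrix.add_kronecker, c.Pe_add_Po]

/-- The even coefficient. -/
def bE (_c : Ctx F) (Y : Matrix Pt Pt F) : Matrix Z3 Z3 F := Matrix.of fun k l => Y (0, k) (0, l)

/-- The odd coefficient. -/
def xE (_c : Ctx F) (Y : Matrix Pt Pt F) : Matrix Z3 Z3 F :=
  Matrix.of fun k l => Y (1, k) (1, l) - Y (1, k) (2, l)

theorem bE_emb (B X : Matrix Z3 Z3 F) : c.bE (c.emb B X) = B := by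
  ext k l
  simp [bE, emb, c.Pe_00, c.Po_00]

theorem xE_emb (B X : Matrix Z3 Z3 F) : c.xE (c.emb B X) = X := by
  ext k l
  simp only [xE, emb, Matrix.of_apply, Matrix.add_apply, Matrix.kroneckerMap_apply]
  linear_combination (B k l) * c.Pe_d + (X k l) * c.Po_d

variable {M : Subgroup (GL Pt F)}

/-- The centraliser of the quaternion group of the first qutrit. -/
def EC (M : Subgroup (GL Pt F)) : Subgroup (GL Pt F) :=
  M ⊓ Subgroup.centralizer ((fun q => kr q 1) '' (c.Q8 : Set (GL Z3 F)))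

theorem mem_EC {g : GL Pt F} : g ∈ c.EC M ↔ g ∈ M ∧ ∀ q ∈ c.Q8, g * kr q 1 = kr q 1 * g := by
  rw [EC, Subgroup.mem_inf, Subgroup.mem_centralizer_iff]
  simp only [Set.forall_mem_image, SetLike.mem_coe, eq_comm]

theorem EC_rep {g : GL Pt F} (hg : g ∈ c.EC M) :
    (g : Matrix Pt Pt F) = c.emb (c.bE (g : Matrix Pt Pt F)) (c.xE (g : Matrix Pt Pt F)) := by
  have hq : ∀ q ∈ c.Q8, ∀ k l, slc (g : Matrix Pt Pt F) k l * (q : Matrix Z3 Z3 F) =
      (q : Matrix Z3 Z3 F) * slc (g : Matrix Pt Pt F) k l := fun q hq k l => by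
    have h := congrArg (fun x : GL Pt F => slc (x : Matrix Pt Pt F) k l) ((c.mem_EC.1 hg).2 q hq)
    simpa only [Units.val_mul, kr_val, Units.val_one, slc_mul_kr, slc_kr_mul] using h
  refine slc_ext fun k l => ?_
  have hJ : c.Even' (slc (g : Matrix Pt Pt F) k l) := by
    have h := hq c.Jn c.Jn_mem k l
    rw [Jn_val, mul_neg, neg_mul, neg_inj] at h
    exact h.symm
  obtain ⟨a, b, hab⟩ := c.commutant hJ (hq _ c.Fq_mem k l) (hq _ c.Gq_mem k l)
  have ha : c.bE (g : Matrix Pt Pt F) k l = a := by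
    have h := congrFun (congrFun hab 0) 0
    simpa [slc, bE, c.Pe_00, c.Po_00] using h
  have hb : c.xE (g : Matrix Pt Pt F) k l = b := by
    have h1 := congrFun (congrFun hab 1) 1
    have h2 := congrFun (congrFun hab 1) 2
    simp only [slc, Matrix.of_apply, Matrix.add_apply, Matrix.smul_apply, smul_eq_mul] at h1 h2
    simp only [xE, Matrix.of_apply]
    linear_combination h1 - h2 + a * c.Pe_d + b * c.Po_d
  rw [emb, slc_add, slc_kr, slc_kr, ha, hb]
  exact hab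

/-- The even projection. -/
def pB : c.EC M →* GL Z3 F :=
  MonoidHom.toHomUnits
    { toFun := fun g => c.bE ((g : GL Pt F) : Matrix Pt Pt F)
      map_one' := by
        rw [show ((((1 : c.EC M) : GL Pt F)) : Matrix Pt Pt F) = c.emb 1 1 by
          rw [emb_diag, Matrix.one_kronecker_one]; rfl, bE_emb]
      map_mul' := fun g h => by
        rw [Subgroup.coe_mul, Units.val_mul]
        conv_lhs => rw [c.EC_rep g.2, c.EC_rep h.2, emb_mul, bE_emb] }

/-- The odd projection. -/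
def pX : c.EC M →* GL Z3 F :=
  MonoidHom.toHomUnits
    { toFun := fun g => c.xE ((g : GL Pt F) : Matrix Pt Pt F)
      map_one' := by
        rw [show ((((1 : c.EC M) : GL Pt F)) : Matrix Pt Pt F) = c.emb 1 1 by
          rw [emb_diag, Matrix.one_kronecker_one]; rfl, xE_emb]
      map_mul' := fun g h => by
        rw [Subgroup.coe_mul, Units.val_mul]
        conv_lhs => rw [c.EC_rep g.2, c.EC_rep h.2, emb_mul, xE_emb] }

theorem pB_val (g : c.EC M) : (c.pB g : Matrix Z3 Z3 F) = c.bE ((g : GL Pt F) : Matrix Pt Pt F) := rfl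

theorem pX_val (g : c.EC M) : (c.pX g : Matrix Z3 Z3 F) = c.xE ((g : GL Pt F) : Matrix Pt Pt F) := rfl

theorem EC_val (g : c.EC M) :
    ((g : GL Pt F) : Matrix Pt Pt F) = c.emb (c.pB g : Matrix Z3 Z3 F) (c.pX g : Matrix Z3 Z3 F) := c.EC_rep g.2

theorem kr_EC (hM : c.Over M) {A : GL Z3 F} (hA : c.Nr1 A) (hd : (A : Matrix Z3 Z3 F).det ^ 3 = 1) :
    kr 1 A ∈ c.EC M := c.mem_EC.2 ⟨c.one_kr_mem hM hA hd, fun q _ => (one_kr_comm q A).symm⟩

theorem pB_kr (hM : c.Over M) {A : GL Z3 F} (hA : c.Nr1 A) (hd : (A : Matrix Z3 Z3 F).det ^ 3 = 1) :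
    c.pB (M := M) ⟨kr 1 A, c.kr_EC hM hA hd⟩ = A :=
  Units.ext (by rw [pB_val, kr_val, Units.val_one, ← c.emb_diag, bE_emb])

theorem pX_kr (hM : c.Over M) {A : GL Z3 F} (hA : c.Nr1 A) (hd : (A : Matrix Z3 Z3 F).det ^ 3 = 1) :
    c.pX (M := M) ⟨kr 1 A, c.kr_EC hM hA hd⟩ = A :=
  Units.ext (by rw [pX_val, kr_val, Units.val_one, ← c.emb_diag, xE_emb])

/-- A normalising matrix that is scalar on the even and on the odd vectors. -/
theorem evenodd {A : GL Z3 F} {a b : F} (hA : (A : Matrix Z3 Z3 F) = a • c.Pe + b • c.Po) (hn : c.Nr1 A) :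
    b = a ∨ b = -a := by
  obtain ⟨φ, hd, hact⟩ := c.nr_act hn
  have hcomm : ∀ B : GL Z3 F, c.Even' (B : Matrix Z3 Z3 F) → A * B = B * A := fun B hB => by
    refine Units.ext ?_
    rw [Units.val_mul, Units.val_mul, hA, add_mul, mul_add, Matrix.smul_mul, Matrix.smul_mul, Matrix.mul_smul,
      Matrix.mul_smul, c.even_comm_Pe hB, c.even_comm_Po hB]
  have e1 : tmul φ tF = tmul tF φ := c.act_unique (c.act_mul hact c.act_Fq)
    (hcomm c.Fq c.Fq_even ▸ c.act_mul c.act_Fq hact)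
  have hactG : c.Act c.Gq (tmul (tmul tK tF) (tinv tK)) :=
    c.act_mul (c.act_mul c.act_Kq c.act_Fq) (c.act_inv c.act_Kq (by decide))
  have e2 := c.act_unique (c.act_mul hact hactG) (hcomm c.Gq c.Gq_mem.2.1 ▸ c.act_mul hactG hact)
  have hJP : c.Jm * c.Pe = c.Pe * c.Jm := by
    rw [Pe, Matrix.mul_smul, Matrix.smul_mul, mul_add, add_mul, mul_one, one_mul]
  have hJO : c.Jm * c.Po = c.Po * c.Jm := by
    rw [Po, Matrix.mul_smul, Matrix.smul_mul, mul_sub, sub_mul, mul_one, one_mul]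
  have hAe : c.Even' (A : Matrix Z3 Z3 F) := by
    show _ * _ = _ * _
    rw [hA, mul_add, add_mul, Matrix.mul_smul, Matrix.mul_smul, Matrix.smul_mul, Matrix.smul_mul, hJP, hJO]
  have hA0 : (A : Matrix Z3 Z3 F) 0 0 = a := by simp [hA, c.Pe_00, c.Po_00]
  have hA1 : (A : Matrix Z3 Z3 F) 1 1 - (A : Matrix Z3 Z3 F) 1 2 = b := by
    simp only [hA, Matrix.add_apply, Matrix.smul_apply, smul_eq_mul]
    linear_combination a * c.Pe_d + b * c.Po_d
  rcases (show ∀ φ : Tw, tdet φ = 1 → tmul φ tF = tmul tF φ →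
      tmul φ (tmul (tmul tK tF) (tinv tK)) = tmul (tmul (tmul tK tF) (tinv tK)) φ → φ = tone ∨ φ = tneg by decide)
    φ hd e1 e2 with rfl | rfl
  · obtain ⟨l, -, e⟩ := c.even_unique hd hact c.act_one hAe c.even_one
    rw [e] at hA0 hA1
    simp +decide at hA0 hA1
    exact Or.inl (hA1.symm.trans hA0)
  · obtain ⟨l, -, e⟩ := c.even_unique hd hact c.act_Jn hAe c.Jn_mem.2.1
    rw [e] at hA0 hA1
    simp +decide [Jn_val, Jm] at hA0 hA1
    exact Or.inr (by rw [← hA1, ← hA0, neg_neg])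

/-- A matrix acting by `u` on one qutrit only is normalising. -/
theorem nr_of_kr_one (hb : c.BaseHyp) (hM : c.Over M) (hns : ¬ Cfsg.Geo.specialLinear Pt F ≤ M) {u : GL Z3 F}
    (hu : kr u 1 ∈ M) : c.Nr1 u := by
  have hs := c.swap_mem hM
  obtain ⟨A, hA, hn⟩ := c.block_nr hb hM hns (g := swapU * kr u 1 * swapU⁻¹)
    (M.mul_mem (M.mul_mem hs hu) (M.inv_mem hs)) (by rw [swapU_kr, D1]; exact (one_kr_comm _ _).symm) 0
  rw [swapU_kr, kr_val, blk_kr, Units.val_one, Matrix.one_apply_eq, one_smul] at hA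
  exact Units.ext hA ▸ hn

/-- No element is the identity over the even and a non-central Weyl matrix over the odd vectors. -/
theorem kill (hb : c.BaseHyp) (hM : c.Over M) (hns : ¬ Cfsg.Geo.specialLinear Pt F ≤ M) {g : GL Pt F}
    (hg : g ∈ M) {a : F} {v : Ph} (hv : v ≠ 0) (hgv : (g : Matrix Pt Pt F) = c.emb 1 (a • c.W v)) : False := by
  obtain ⟨φ, hd, hφ⟩ := (show ∀ v : Ph, v ≠ 0 → ∃ φ : Tw, tdet φ = 1 ∧ tap φ v = (0, 1) by decide) v hv
  obtain ⟨A, hA, -, hAd⟩ := c.exists_word φ hd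
  obtain ⟨b, hb'⟩ := hA v
  rw [hφ] at hb'
  obtain ⟨h, hdef⟩ : ∃ h : GL Pt F, h = kr 1 A * g * (kr 1 A)⁻¹ := ⟨_, rfl⟩
  have hh : (h : Matrix Pt Pt F) = c.emb 1 ((a * b) • c.W (0, 1)) := by
    rw [hdef]
    rw [Units.val_mul, Units.val_mul, kr_inv, inv_one, kr_val, kr_val, Units.val_one, hgv, ← c.emb_diag,
      ← c.emb_diag, c.emb_mul, c.emb_mul, mul_one, Units.mul_inv, Matrix.mul_smul, hb', smul_smul, Matrix.smul_mul,
      mul_assoc, Units.mul_inv, mul_one]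
  have hhM : h ∈ M := hdef ▸ M.mul_mem (M.mul_mem (c.one_kr_mem hM (c.act_nr hA) hAd) hg)
    (M.inv_mem (c.one_kr_mem hM (c.act_nr hA) hAd))
  have hs := c.swap_mem hM
  have hcomm : h * kr 1 (c.WU (0, 1)) = kr 1 (c.WU (0, 1)) * h := Units.ext (by
    rw [Units.val_mul, Units.val_mul, kr_val, Units.val_one, hh, ← c.emb_diag, c.emb_mul, c.emb_mul, one_mul,
      mul_one, WU_val, Matrix.smul_mul, Matrix.mul_smul])
  have key := c.block_nr hb hM hns (g := swapU * h * swapU⁻¹) (M.mul_mem (M.mul_mem hs hhM) (M.inv_mem hs)) (by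
    rw [D1, ← swapU_kr 1 (c.WU (0, 1))]
    calc swapU * h * swapU⁻¹ * (swapU * kr 1 (c.WU (0, 1)) * swapU⁻¹)
        = swapU * (h * kr 1 (c.WU (0, 1))) * swapU⁻¹ := by group
      _ = swapU * (kr 1 (c.WU (0, 1)) * h) * swapU⁻¹ := by rw [hcomm]
      _ = swapU * kr 1 (c.WU (0, 1)) * swapU⁻¹ * (swapU * h * swapU⁻¹) := by group)
  have hblk : ∀ i, blk ((swapU * h * swapU⁻¹ : GL Pt F) : Matrix Pt Pt F) i i = (1 : F) • c.Pe + (a * b * c.χ i) • c.Po := by
    intro i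
    have e : blk ((swapU * h * swapU⁻¹ : GL Pt F) : Matrix Pt Pt F) i i = slc (h : Matrix Pt Pt F) i i := by
      ext k l
      simp only [blk, slc, Matrix.of_apply, swapU_inv, Units.val_mul, mul_swapU, swapU_mul, neg_neg]
    rw [e, hh, emb, slc_add, slc_kr, slc_kr, Matrix.one_apply_eq, Matrix.smul_apply, W_apply, add_zero, if_pos rfl,
      one_mul, smul_eq_mul]
  have hsq : ∀ i, (a * b * c.χ i) ^ 2 = 1 := fun i => by
    obtain ⟨A', hA', hn⟩ := key i
    rw [hblk] at hA'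
    rcases c.evenodd hA' hn with e | e <;> rw [e] <;> ring
  have h0 := hsq 0
  have h1 := hsq 1
  rw [χ_zero, mul_one] at h0
  rw [χ_one, mul_pow, h0, one_mul] at h1
  exact c.ne_one (by linear_combination c.cube - c.ω * h1)

variable [Finite F]

/-- Both projections of the centraliser normalise. -/
theorem EC_nr (hb : c.BaseHyp) (hM : c.Over M) (hns : ¬ Cfsg.Geo.specialLinear Pt F ≤ M) (hp : PrimeFld F) :
    (∀ g : c.EC M, c.Nr1 (c.pB g)) ∧ ∀ g : c.EC M, c.Nr1 (c.pX g) := by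
  obtain ⟨p, hp1, hp2, hp3, hsurj⟩ := hp
  haveI := Fact.mk hp1
  haveI := hp2
  have h36 : ((36 : ℕ) : F) ≠ 0 := by
    rw [show (36 : ℕ) = 2 * 2 * (3 * 3) by norm_num]
    push_cast
    rw [show (36 : F) = 2 * 2 * (3 * 3) by norm_num]
    exact mul_ne_zero (mul_ne_zero c.two c.two) (mul_ne_zero c.three c.three)
  have hgen : ∀ A ∈ Cfsg.Geo.specialLinear Z3 F, c.Nr1 A → (A ∈ (c.pB (M := M)).range ∧ A ∈ (c.pX (M := M)).range) :=
    fun A hA hn => ⟨⟨_, c.pB_kr hM hn (by rw [mem_sl.1 hA, one_pow])⟩, ⟨_, c.pX_kr hM hn (by rw [mem_sl.1 hA, one_pow])⟩⟩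
  have hd1 : ∀ b, (c.WU (0, b) : Matrix Z3 Z3 F).det ^ 3 = 1 := fun b => by rw [WU_val, W_det, one_pow]
  have ker1 : Cfsg.Geo.specialLinear Z3 F ≤ (c.pB (M := M)).range →
      ∀ g : c.EC M, c.pX g = 1 → ∃ a : F, (c.pB g : Matrix Z3 Z3 F) = a • 1 := by
    intro hsl g hg
    by_contra hno
    push Not at hno
    have hle := sl_le_of_normalised (by simp [ZMod.card]) ((c.pX (M := M)).ker.map c.pB) (fun s hs k hk => by
      obtain ⟨y, hy, rfl⟩ := hk
      obtain ⟨x, rfl⟩ := hsl hs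
      refine ⟨x * y * x⁻¹, ?_, by rw [map_mul, map_mul, map_inv]⟩
      rw [SetLike.mem_coe, MonoidHom.mem_ker, map_mul, map_mul, MonoidHom.mem_ker.1 hy, map_inv, mul_one,
        mul_inv_cancel])
      (Subgroup.mem_map_of_mem c.pB (MonoidHom.mem_ker.2 hg)) hno
    obtain ⟨y, hy, hyB⟩ := hle (c.WU_mem_sl (0, 1))
    refine c.kill hb hM hns (g := (y : GL Pt F) * kr 1 (c.WU (0, 2)))
      (M.mul_mem y.2.1 (c.one_kr_mem hM (c.nr_WU _) (hd1 2))) (a := 1) (v := (0, 2)) (by decide) ?_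
    rw [Units.val_mul, c.EC_val, kr_val, Units.val_one, ← c.emb_diag, c.emb_mul, hyB, MonoidHom.mem_ker.1 hy,
      Units.val_one, one_mul, one_smul, WU_val, WU_val, W_mul]
    congr 1
    rw [show ((0, 1) : Ph) + (0, 2) = 0 by decide, W_zero, mul_zero, χ_zero, one_smul]
  have ker2 : Cfsg.Geo.specialLinear Z3 F ≤ (c.pX (M := M)).range →
      ∀ g : c.EC M, c.pB g = 1 → ∃ a : F, (c.pX g : Matrix Z3 Z3 F) = a • 1 := by
    intro hsl g hg
    by_contra hno
    push Not at hno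
    have hle := sl_le_of_normalised (by simp [ZMod.card]) ((c.pB (M := M)).ker.map c.pX) (fun s hs k hk => by
      obtain ⟨y, hy, rfl⟩ := hk
      obtain ⟨x, rfl⟩ := hsl hs
      refine ⟨x * y * x⁻¹, ?_, by rw [map_mul, map_mul, map_inv]⟩
      rw [SetLike.mem_coe, MonoidHom.mem_ker, map_mul, map_mul, MonoidHom.mem_ker.1 hy, map_inv, mul_one,
        mul_inv_cancel])
      (Subgroup.mem_map_of_mem c.pX (MonoidHom.mem_ker.2 hg)) hno
    obtain ⟨y, hy, hyX⟩ := hle (c.WU_mem_sl (0, 1))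
    refine c.kill hb hM hns (g := (y : GL Pt F)) y.2.1 (a := 1) (v := (0, 1)) (by decide) ?_
    rw [c.EC_val, hyX, MonoidHom.mem_ker.1 hy, Units.val_one, one_smul, WU_val]
  rcases c.dichotomy hb _ (fun A hA hn => (hgen A hA hn).1) with hB | hB <;>
    rcases c.dichotomy hb _ (fun A hA hn => (hgen A hA hn).2) with hX | hX
  · exact ⟨fun g => hB _ ⟨g, rfl⟩, fun g => hX _ ⟨g, rfl⟩⟩
  · exact (c.mixed c.pX c.pB h36 hX (fun g => hB _ ⟨g, rfl⟩) (ker2 hX)).elim
  · exact (c.mixed c.pB c.pX h36 hB (fun g => hX _ ⟨g, rfl⟩) (ker1 hB)).elim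
  · exfalso
    obtain ⟨g, hgB, hgX⟩ := c.both c.pB c.pX hp3 hsurj hB (ker2 hX) (ker1 hB)
      ⟨_, c.pB_kr hM (c.nr_WU _) (hd1 1), c.pX_kr hM (c.nr_WU _) (hd1 1)⟩
      ⟨_, c.pB_kr hM (c.nr_WU _) (by rw [WU_val, W_det, one_pow]), c.pX_kr hM (c.nr_WU _) (by rw [WU_val, W_det, one_pow])⟩
      ⟨_, c.pB_kr hM (c.act_nr c.act_Jn) (by rw [Jn, Units.val_mul, Matrix.det_mul, Fq_det, mul_one, one_pow]),
        c.pX_kr hM (c.act_nr c.act_Jn) (by rw [Jn, Units.val_mul, Matrix.det_mul, Fq_det, mul_one, one_pow])⟩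
    have e : (g : GL Pt F) = kr 1 (el 0 1 (by decide) (1 : F)) := Units.ext (by
      rw [c.EC_val, hgB, hgX, c.emb_diag, kr_val, Units.val_one])
    obtain ⟨A, hA, hn⟩ := c.block_nr hb hM hns (g.2.1) (by rw [e, D1]; exact (one_kr_comm _ _).symm) 0
    rw [e, kr_val, blk_kr, Units.val_one, Matrix.one_apply_eq, one_smul] at hA
    exact c.el_not_nr 0 1 (by decide) (Units.ext hA ▸ hn)

end Ctx

end Cfsg.Agent.Heis12
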