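import Cfsg.Agent.Lib.Heis12Inv
import Cfsg.Agent.Lib.ZStarTheorem
import Cfsg.Agent.S0205

/-!
A proper overgroup of the normaliser of the two-qutrit Weyl group normalises it.
-/

set_option autoImplicit false
set_option linter.unusedSectionVars false
set_option linter.style.haveILetI false
set_option synthInstance.maxSize 5000

namespace Cfsg.Agent.Heis12

open Matrix
open scoped MatrixGroups Kronecker commutatorElement

variable {F : Type*} [Field F]

/-- The scalar matrices. -/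
def scal (ι : Type) [Fintype ι] [DecidableEq ι] (F : Type*) [Field F] : Subgroup (GL ι F) where
  carrier := {g | ∃ a : F, (g : Matrix ι ι F) = a • 1}
  one_mem' := ⟨1, by simp⟩
  mul_mem' := by
    rintro g h ⟨a, ha⟩ ⟨b, hb⟩
    exact ⟨a * b, by rw [Units.val_mul, ha, hb, smul_mul_smul_comm, one_mul]⟩
  inv_mem' := by
    rintro g ⟨a, ha⟩
    by_cases h0 : a = 0
    · refine ⟨0, ?_⟩
      have e : (g : Matrix ι ι F) = 0 := by rw [ha, h0, zero_smul]
      have := Units.inv_mul g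
      rw [e, mul_zero] at this
      rw [zero_smul, ← mul_one ((g⁻¹ : GL ι F) : Matrix ι ι F), ← this, mul_zero]
    · refine ⟨a⁻¹, ?_⟩
      have := Units.inv_mul g
      rw [ha, Matrix.mul_smul, mul_one] at this
      rw [← this, smul_smul, inv_mul_cancel₀ h0, one_smul]

theorem mem_scal {ι : Type} [Fintype ι] [DecidableEq ι] {g : GL ι F} :
    g ∈ scal ι F ↔ ∃ a : F, (g : Matrix ι ι F) = a • 1 := Iff.rfl

/-- Membership from two coprime powers. -/
theorem mem_of_pows {G : Type*} [Group G] (H : Subgroup G) {x : G} {m n : ℕ} (h : Nat.gcd m n = 1)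
    (hm : x ^ m ∈ H) (hn : x ^ n ∈ H) : x ∈ H := by
  have hg : x ^ Nat.gcd m n ∈ H := by
    rw [← zpow_natCast, Nat.gcd_eq_gcd_ab, _root_.zpow_add, _root_.zpow_mul, _root_.zpow_mul, zpow_natCast,
      zpow_natCast]
    exact H.mul_mem (H.zpow_mem hm _) (H.zpow_mem hn _)
  rwa [h, pow_one] at hg

/-- A power in a subgroup, from a coprime annihilating power. -/
theorem pow_four_mem {G : Type*} [Group G] (H : Subgroup G) {x : G} {m : ℕ} (hm : Nat.Coprime 3 m)
    (h12 : x ^ 12 ∈ H) (hxm : x ^ m ∈ H) : x ^ 4 ∈ H := by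
  refine mem_of_pows H (x := x ^ 4) (m := 3) (n := m) hm (by rwa [← pow_mul]) ?_
  rw [← pow_mul, mul_comm, pow_mul]
  exact H.pow_mem hxm 4

/-- The product of all nine conjugates against the four fixed products. -/
theorem nine_identity {H : Type*} [CommGroup H] (a0 a1 a11 b1 b2 p1 p2 q1 q2 : H) :
    a0 ^ 3 * (a0 * a1 * a11 * (b1 * p1 * p2) * (b2 * q1 * q2)) =
      (a0 * a1 * a11) * (a0 * b1 * b2) * (a0 * p1 * q2) * (a0 * q1 * p2) := by
  apply Additive.ofMul.injective
  simp only [ofMul_mul, ofMul_pow]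
  abel

namespace Ctx

variable (c : Ctx F)

/-- The matrices acting trivially. -/
def triv : Subgroup (GL Z3 F) where
  carrier := {g | c.Act g tone}
  one_mem' := c.act_one
  mul_mem' := fun h1 h2 => by simpa [show tmul tone tone = tone by decide] using c.act_mul h1 h2
  inv_mem' := fun h => by simpa [show tinv tone = tone by decide] using c.act_inv h (by decide)

theorem W_cube (v : Ph) : c.W v * (c.W v * c.W v) = 1 := by
  rw [W_mul, Matrix.mul_smul, W_mul, smul_smul, ← c.χ_add,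
    (show ∀ v : Ph, v + (v + v) = 0 by decide) v,
    (show ∀ v : Ph, v.2 * v.1 + v.2 * (v + v).1 = 0 by decide) v, W_zero, χ_zero, one_smul]

theorem act_neg {A : GL Z3 F} (h : c.Act A tneg) (w : Ph) :
    ∃ a : F, (A : Matrix Z3 Z3 F) * c.W w = a • (c.W (-w) * (A : Matrix Z3 Z3 F)) := by
  obtain ⟨a, ha⟩ := h w
  exact ⟨a, by rwa [tap_neg_one] at ha⟩

theorem WU2_one {v : Ph × Ph} (h : v = 0) : c.WU2 v = 1 := Units.ext (by
  rw [WU2_val, W2, h, Prod.fst_zero, Prod.snd_zero, W_zero, Matrix.one_kronecker_one, Units.val_one])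

theorem W2_mul (v w : Ph × Ph) :
    c.W2 v * c.W2 w = (c.χ (v.1.2 * w.1.1) * c.χ (v.2.2 * w.2.1)) • c.W2 (v + w) := by
  rw [W2, W2, W2, ← Matrix.mul_kronecker_mul, W_mul, W_mul, Matrix.smul_kronecker, Matrix.kronecker_smul,
    smul_smul, Prod.fst_add, Prod.snd_add]

theorem W2_inj {v w : Ph × Ph} {a : F} (h : c.W2 v = a • c.W2 w) : v = w := by
  have hs := congrArg (fun X => slc X v.2.1 0) h
  have hb := congrArg (fun X => blk X v.1.1 0) h
  simp only [W2] at hs hb
  rw [slc_kr, ← Matrix.smul_kronecker, slc_kr, W_apply, zero_add, if_pos rfl, mul_zero, χ_zero, one_smul] at hs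
  rw [blk_kr, ← Matrix.kronecker_smul, blk_kr, W_apply, zero_add, if_pos rfl, mul_zero, χ_zero, one_smul] at hb
  rw [smul_smul] at hs hb
  exact Prod.ext (c.W_inj hs).1 (c.W_inj hb).1

/-- An element commuting with all Weyl matrices of two qutrits is scalar. -/
theorem scalar2 {X : Matrix Pt Pt F} (h : ∀ v : Ph × Ph, X * c.W2 v = c.W2 v * X) : ∃ a : F, X = a • 1 := by
  have hs : ∀ k l (u : Ph), slc X k l * c.W u = c.W u * slc X k l := fun k l u => by
    have := congrArg (fun Y => slc Y k l) (h (u, 0))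
    simpa only [W2, W_zero, slc_mul_kr, slc_kr_mul] using this
  have hrep : X = (1 : Matrix Z3 Z3 F) ⊗ₖ Matrix.of fun k l => slc X k l 0 0 := slc_ext fun k l => by
    rw [slc_kr, Matrix.of_apply]
    exact c.scalar_of_comm (hs k l _) (hs k l _)
  set B : Matrix Z3 Z3 F := Matrix.of fun k l => slc X k l 0 0
  have hB : ∀ u, B * c.W u = c.W u * B := fun u => by
    have := congrArg (fun Y => blk Y 0 0) (h (0, u))
    rw [hrep, W2] at this
    dsimp only at this
    rw [W_zero, ← Matrix.mul_kronecker_mul, ← Matrix.mul_kronecker_mul, one_mul] at this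
    simpa only [blk_kr, Matrix.one_apply_eq, one_smul] using this
  refine ⟨B 0 0, ?_⟩
  rw [hrep]
  conv_lhs => rw [c.scalar_of_comm (hB _) (hB _)]
  rw [Matrix.kronecker_smul, Matrix.one_kronecker_one]

variable {M : Subgroup (GL Pt F)}

theorem scalar_pow_nine {g : GL Pt F} (hM : c.Over M) (hg : g ∈ M) {a : F}
    (ha : (g : Matrix Pt Pt F) = a • 1) : a ^ 9 = 1 := by
  have := mem_sl.1 (hM.1 hg)
  rw [ha, Matrix.det_smul, Matrix.det_one, mul_one] at this
  simpa [ZMod.card] using this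

theorem pow_nine_scal (hM : c.Over M) {g : GL Pt F} (hg : g ∈ M) (hs : g ∈ scal Pt F) : g ^ 9 = 1 := by
  obtain ⟨a, ha⟩ := hs
  refine Units.ext ?_
  rw [Units.val_pow_eq_pow_val, ha, smul_pow, one_pow, c.scalar_pow_nine hM hg ha, one_smul, Units.val_one]

variable [Finite F]

/-- An element commuting with the clock and with its conjugates, of order prime to three, is scalar. -/
theorem fixed_scalar (hb : c.BaseHyp) (hM : c.Over M) (hns : ¬ Cfsg.Geo.specialLinear Pt F ≤ M)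
    {g : GL Pt F} (hg : g ∈ M) (hD : g * c.D1 = c.D1 * g) {m : ℕ} (hm : Nat.Coprime 3 m) (hgm : g ^ m = 1)
    (hcom : ∀ h ∈ M, Commute g (h * g * h⁻¹)) : g ∈ scal Pt F := by
  let gl : c.LD M := ⟨g, c.mem_LD.2 ⟨hg, hD⟩⟩
  have hblock : ∀ i, c.bh i gl ∈ scal Z3 F := by
    intro i
    set A := c.bh i gl with hA
    obtain ⟨A', hA', hn⟩ := c.block_nr hb hM hns hg hD i
    have hAn : c.Nr1 A := by
      have e : A' = A := Units.ext (by rw [hA', hA, bh_val])
      rwa [← e]
    have hAm : A ^ m = 1 := by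
      rw [hA, ← map_pow, show gl ^ m = 1 from Subtype.ext hgm, map_one]
    have hcomA : ∀ B : GL Z3 F, c.Nr1 B → (B : Matrix Z3 Z3 F).det ^ 3 = 1 → Commute A (B * A * B⁻¹) := by
      intro B hB hBd
      have hc : Commute gl (⟨kr 1 B, c.kr_LD hM hB hBd⟩ * gl * (⟨kr 1 B, c.kr_LD hM hB hBd⟩ : c.LD M)⁻¹) :=
        Subtype.ext (hcom _ (c.one_kr_mem hM hB hBd))
      have := hc.map (c.bh i)
      rwa [map_mul, map_mul, map_inv, c.bh_kr hM hB hBd] at this
    obtain ⟨φ, hd, hact⟩ := c.nr_act hAn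
    have h4 := c.act_mul (c.act_mul hact hact) (c.act_mul hact hact)
    have h12 := c.act_mul h4 (c.act_mul h4 h4)
    rw [(show ∀ φ : Tw, tdet φ = 1 → tmul (tmul (tmul φ φ) (tmul φ φ))
      (tmul (tmul (tmul φ φ) (tmul φ φ)) (tmul (tmul φ φ) (tmul φ φ))) = tone by decide) φ hd] at h12
    have k4 : A ^ 4 ∈ c.triv := pow_four_mem _ hm (by
      rw [show A ^ 12 = A * A * (A * A) * (A * A * (A * A) * (A * A * (A * A))) by
        simp only [pow_succ, pow_zero, one_mul, mul_assoc]]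
      exact h12) (by rw [hAm]; exact c.triv.one_mem)
    have hφ4 : tmul (tmul φ φ) (tmul φ φ) = tone := by
      refine c.act_unique h4 ?_
      rw [show A * A * (A * A) = A ^ 4 by simp only [pow_succ, pow_zero, one_mul, mul_assoc]]
      exact k4
    have hcφ : ∀ (B : GL Z3 F) (ψ : Tw), c.Act B ψ → tdet ψ = 1 → (B : Matrix Z3 Z3 F).det ^ 3 = 1 →
        tmul φ (tmul (tmul ψ φ) (tinv ψ)) = tmul (tmul (tmul ψ φ) (tinv ψ)) φ := fun B ψ hB hdψ hBd => by
      have hc := c.act_mul (c.act_mul hB hact) (c.act_inv hB hdψ)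
      refine c.act_unique (c.act_mul hact hc) ?_
      rw [(hcomA B (c.act_nr hB) hBd).eq]
      exact c.act_mul hc hact
    have hφ : φ = tone ∨ φ = tneg :=
      (show ∀ φ : Tw, tdet φ = 1 → tmul (tmul φ φ) (tmul φ φ) = tone →
        tmul φ (tmul (tmul tK φ) (tinv tK)) = tmul (tmul (tmul tK φ) (tinv tK)) φ → φ = tone ∨ φ = tneg by decide)
        φ hd hφ4 (hcφ _ _ c.act_Kq (by decide) c.Kq_det_cube)
    rcases hφ with rfl | rfl
    · refine mem_of_pows (scal Z3 F) (m := 3) (n := m) hm ?_ (by rw [hAm]; exact (scal Z3 F).one_mem)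
      obtain ⟨a, u, hau⟩ := c.eq_smul_W hact
      exact ⟨a ^ 3, by rw [Units.val_pow_eq_pow_val, hau, smul_pow, pow_succ', pow_two, pow_succ' (c.W u), pow_two,
        c.W_cube]⟩
    · exfalso
      set w : Ph := (1, 0)
      have hc := hcomA (c.WU w) (c.nr_WU w) (by rw [WU_val, W_det, one_pow])
      obtain ⟨a, ha⟩ := c.act_neg hact w
      have hA0 : a ≠ 0 := c.act_ne ha
      -- the conjugate is the matrix itself times a Weyl matrix
      have hAw : (A : Matrix Z3 Z3 F) * c.W (-w) = a⁻¹ • (c.W w * (A : Matrix Z3 Z3 F)) := by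
        obtain ⟨b, hb'⟩ := c.act_neg hact (-w)
        rw [neg_neg] at hb'
        rw [hb']
        have h1 : (A : Matrix Z3 Z3 F) * (c.W w * c.W (-w)) =
            (a * b) • (c.W (-w) * c.W w * (A : Matrix Z3 Z3 F)) := by
          rw [← mul_assoc, ha, Matrix.smul_mul, mul_assoc, hb', Matrix.mul_smul, smul_smul, mul_assoc]
        rw [W_mul, W_mul] at h1
        simp [w, W_zero, show ((0, 0) : Ph) = 0 from rfl] at h1
        have h2 : a * b = 1 := by
          obtain ⟨x, y, hxy⟩ : ∃ x y, (A : Matrix Z3 Z3 F) x y ≠ 0 := by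
            by_contra hne
            push Not at hne
            exact A.ne_zero (Matrix.ext hne)
          have := congrFun (congrFun h1 x) y
          rw [Matrix.smul_apply, smul_eq_mul] at this
          exact (mul_eq_right₀ hxy).1 this.symm
        rw [eq_inv_of_mul_eq_one_right h2]
      have hwi : ((c.WU w)⁻¹ : GL Z3 F).val = c.W (-w) := by
        show c.χ (w.1 * w.2) • c.W (-w) = _
        simp [w]
      have hcv : ((c.WU w * A * (c.WU w)⁻¹ : GL Z3 F) : Matrix Z3 Z3 F) = a⁻¹ • (c.W (w + w) * (A : Matrix Z3 Z3 F)) := by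
        rw [Units.val_mul, Units.val_mul, hwi, WU_val, mul_assoc, hAw, Matrix.mul_smul, ← mul_assoc, W_mul]
        simp [w]
      have hc' := congrArg Units.val hc.eq
      rw [Units.val_mul A, Units.val_mul _ A, hcv, Matrix.mul_smul, Matrix.smul_mul, ← mul_assoc] at hc'
      have h2 : (A : Matrix Z3 Z3 F) * c.W (w + w) = c.W (w + w) * (A : Matrix Z3 Z3 F) := by
        have h' := congrArg (fun X => X * ((A⁻¹ : GL Z3 F) : Matrix Z3 Z3 F)) (smul_right_injective _ (inv_ne_zero hA0) hc')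
        simpa [mul_assoc] using h'
      obtain ⟨b, hb2⟩ := c.act_neg hact (w + w)
      have h3 := c.act_cancel one_ne_zero ((one_smul F _).trans (h2.symm.trans hb2))
      exact (show ((1, 0) : Ph) + (1, 0) ≠ -((1, 0) + (1, 0)) by decide) h3.1
  -- the element is diagonal in the first qutrit
  choose l hl using hblock
  have hl0 : ∀ i, l i ≠ 0 := fun i e => (c.bh i gl).ne_zero (by rw [hl, e, zero_smul])
  let u : GL Z3 F := ⟨Matrix.diagonal l, Matrix.diagonal fun i => (l i)⁻¹,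
    by simp [Matrix.diagonal_mul_diagonal, hl0], by simp [Matrix.diagonal_mul_diagonal, hl0]⟩
  have hgu : g = kr u 1 := Units.ext (blk_ext fun i j => by
    rw [kr_val, blk_kr, Units.val_one, show (u : Matrix Z3 Z3 F) i j = Matrix.diagonal l i j from rfl]
    by_cases hij : i = j
    · subst hij
      rw [Matrix.diagonal_apply_eq, ← hl, bh_val]
    · rw [c.comm_D1 hD hij, Matrix.diagonal_apply_ne _ hij, zero_smul])
  have hun : c.Nr1 u := c.nr_of_kr_one hb hM hns (hgu ▸ hg)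
  obtain ⟨φ, hd, hact⟩ := c.nr_act hun
  have hum : u ^ m = 1 := by
    have hk : ∀ j : ℕ, kr u (1 : GL Z3 F) ^ j = kr (u ^ j) 1 := fun j => by
      induction j with
      | zero => simp [kr_one]
      | succ j ih => rw [pow_succ, ih, kr_mul, pow_succ, mul_one]
    rw [hgu, hk] at hgm
    have := congrArg (fun x : GL Pt F => slc (x : Matrix Pt Pt F) 0 0) hgm
    simp only [kr_val, slc_kr, Units.val_one] at this
    rw [Matrix.one_apply_eq, one_smul, ← Matrix.one_kronecker_one, slc_kr, Matrix.one_apply_eq, one_smul] at this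
    exact Units.ext (by simpa using this)
  have h4 := c.act_mul (c.act_mul hact hact) (c.act_mul hact hact)
  have h12 := c.act_mul h4 (c.act_mul h4 h4)
  rw [(show ∀ φ : Tw, tdet φ = 1 → tmul (tmul (tmul φ φ) (tmul φ φ))
    (tmul (tmul (tmul φ φ) (tmul φ φ)) (tmul (tmul φ φ) (tmul φ φ))) = tone by decide) φ hd] at h12
  have hφ4 : tmul (tmul φ φ) (tmul φ φ) = tone := by
    refine c.act_unique h4 ?_
    rw [show u * u * (u * u) = u ^ 4 by simp only [pow_succ, pow_zero, one_mul, mul_assoc]]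
    refine pow_four_mem c.triv hm ?_ (by rw [hum]; exact c.triv.one_mem)
    rw [show u ^ 12 = u * u * (u * u) * (u * u * (u * u) * (u * u * (u * u))) by
      simp only [pow_succ, pow_zero, one_mul, mul_assoc]]
    exact h12
  have hfix : tap φ (0, 1) = (0, 1) := by
    obtain ⟨b, hb'⟩ := hact (0, 1)
    have e : (u : Matrix Z3 Z3 F) * c.W (0, 1) = c.W (0, 1) * (u : Matrix Z3 Z3 F) := by
      have hW : c.W (0, 1) = Matrix.diagonal fun y => c.χ y := by
        ext x y
        rw [W_apply, Matrix.diagonal_apply, add_zero, one_mul]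
        by_cases h : x = y
        · subst h; simp
        · simp [h]
      show Matrix.diagonal l * _ = _ * Matrix.diagonal l
      rw [hW, Matrix.diagonal_mul_diagonal, Matrix.diagonal_mul_diagonal]
      simp [mul_comm]
    exact (c.act_cancel one_ne_zero ((one_smul F _).trans (e.symm.trans hb'))).1.symm
  have hφ1 : φ = tone := (show ∀ φ : Tw, tdet φ = 1 → tmul (tmul φ φ) (tmul φ φ) = tone →
    tap φ (0, 1) = (0, 1) → φ = tone by decide) φ hd hφ4 hfix
  subst hφ1
  obtain ⟨r, hr⟩ := mem_of_pows (scal Z3 F) (x := u) (m := 3) (n := m) hm (by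
      obtain ⟨a, w, haw⟩ := c.eq_smul_W hact
      exact ⟨a ^ 3, by rw [Units.val_pow_eq_pow_val, haw, smul_pow, pow_succ', pow_two, pow_succ' (c.W w), pow_two,
        c.W_cube]⟩)
    (by rw [hum]; exact (scal Z3 F).one_mem)
  exact ⟨r, by rw [hgu, kr_val, hr, Units.val_one, Matrix.smul_kronecker, Matrix.one_kronecker_one]⟩

/-- An element of order prime to three commuting with its conjugates is scalar. -/
theorem prime_to_three (hb : c.BaseHyp) (hM : c.Over M) (hns : ¬ Cfsg.Geo.specialLinear Pt F ≤ M)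
    {T : Set (GL Pt F)} (hTM : T ⊆ M) (hTconj : ∀ h ∈ M, ∀ x ∈ T, h * x * h⁻¹ ∈ T)
    (hTmul : ∀ x ∈ T, ∀ y ∈ T, x * y ∈ T) (hTcomm : ∀ x ∈ T, ∀ y ∈ T, Commute x y)
    (hTord : ∀ x ∈ T, ∃ m : ℕ, Nat.Coprime 3 m ∧ x ^ m = 1) {x : GL Pt F} (hx : x ∈ T) : x ∈ scal Pt F := by
  classical
  -- elements fixed by a clock are scalar
  have fixE : ∀ h ∈ M, ∀ y ∈ T, Commute y (h * c.D1 * h⁻¹) → y ∈ scal Pt F := by
    intro h hh y hy hc
    have hy' : h⁻¹ * y * h ∈ T := by simpa using hTconj h⁻¹ (M.inv_mem hh) y hy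
    obtain ⟨m, hm, hym⟩ := hTord _ hy'
    obtain ⟨a, ha⟩ := c.fixed_scalar hb hM hns (hTM hy') (by
      have h1 := congrArg (fun g => h⁻¹ * g * h) hc.eq
      simpa [mul_assoc] using h1) hm hym fun k hk => hTcomm _ hy' _ (hTconj k hk _ hy')
    refine ⟨a, ?_⟩
    rw [show y = h * (h⁻¹ * y * h) * h⁻¹ by group, Units.val_mul, Units.val_mul, ha, Matrix.mul_smul, mul_one,
      Matrix.smul_mul, Units.mul_inv]
  set E1 := c.D1
  set E2 : GL Pt F := kr 1 (c.WU (0, 1)) with hE2
  have hsw : swapU * c.D1 * swapU⁻¹ = E2 := by rw [D1, swapU_kr, hE2]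
  have hE1M : E1 ∈ M := c.kr_one_mem hM (c.nr_WU _) (by rw [WU_val, W_det, one_pow])
  have hE2M : E2 ∈ M := c.one_kr_mem hM (c.nr_WU _) (by rw [WU_val, W_det, one_pow])
  have hcE : Commute E1 E2 := (one_kr_comm _ _)
  have hWsq : c.WU (0, 1) * c.WU (0, 1) = c.WU (0, 2) := Units.ext (by
    rw [Units.val_mul, WU_val, WU_val, W_mul, show ((0, 1) : Ph) + (0, 1) = (0, 2) by decide]; simp)
  have hW3 : c.WU (0, 1) * (c.WU (0, 1) * c.WU (0, 1)) = 1 := Units.ext (by
    rw [Units.val_mul, Units.val_mul, WU_val, c.W_cube, Units.val_one])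
  have hE1c : E1 * (E1 * E1) = 1 := by
    show kr _ _ * (kr _ _ * kr _ _) = 1
    rw [kr_mul, kr_mul, hW3, one_mul, one_mul, kr_one]
  have hE2c : E2 * (E2 * E2) = 1 := by rw [hE2, kr_mul, kr_mul, hW3, one_mul, one_mul, kr_one]
  -- the transvection of clocks
  let G : GL Pt F := kr c.Fq 1 * c.ctl * (kr c.Fq 1)⁻¹
  have hFm : kr c.Fq 1 ∈ M := c.kr_one_mem hM (c.act_nr c.act_Fq) c.Fq_det_cube
  have hGM : G ∈ M := M.mul_mem (M.mul_mem hFm (c.ctl_mem hM)) (M.inv_mem hFm)
  have hG : ∀ b b' : ZMod 3, ∃ a : F, (G : Matrix Pt Pt F) * c.W2 ((0, b), (0, b')) =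
      a • (c.W2 ((0, b), (0, b' + b)) * (G : Matrix Pt Pt F)) := by
    intro b b'
    have e0 := c.act_inv c.act_Fq (by decide : tdet tF = 1) (0, b)
    obtain ⟨a1, ha1⟩ := e0
    rw [show tap (tinv tF) (0, b) = (b, 0) by simp [tap, tinv, tF]] at ha1
    obtain ⟨a3, ha3⟩ := c.act_Fq (b, 0)
    rw [show tap tF (b, 0) = (0, b) by simp [tap, tF]] at ha3
    have h1 : ((kr c.Fq 1)⁻¹ : GL Pt F).val * c.W2 ((0, b), (0, b')) =
        a1 • (c.W2 ((b, 0), (0, b')) * ((kr c.Fq 1)⁻¹ : GL Pt F).val) := by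
      rw [kr_inv, kr_val, W2, W2, inv_one, Units.val_one, ← Matrix.mul_kronecker_mul, ← Matrix.mul_kronecker_mul, ha1,
        Matrix.smul_kronecker, one_mul, mul_one]
    obtain ⟨a2, w, ha2⟩ := c.nr2_ctl ((b, 0), (0, b'))
    have hw : w = ((b, 0), (0, b' + b)) := by
      have hctl : (c.ctl : Matrix Pt Pt F) * c.W2 ((b, 0), (0, b')) =
          (1 : F) • (c.W2 ((b, 0), (0, b' + b)) * (c.ctl : Matrix Pt Pt F)) := by
        ext p q
        rw [one_smul]
        show ((Matrix.diagonal _ : Matrix Pt Pt F) * c.W2 ((b, 0), (0, b'))) p q =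
          (c.W2 ((b, 0), (0, b' + b)) * (Matrix.diagonal _ : Matrix Pt Pt F) : Matrix Pt Pt F) p q
        rw [Matrix.diagonal_mul, Matrix.mul_diagonal, W2_apply, W2_apply]
        split_ifs with h
        · subst h
          simp only [← c.χ_add]
          congr 1
          ring
        · simp
      have h := hctl.symm.trans ha2
      rw [one_smul] at h
      have h' := congrArg (fun X => X * ((c.ctl⁻¹ : GL Pt F) : Matrix Pt Pt F)) h
      simp only [Matrix.smul_mul, mul_assoc, Units.mul_inv, mul_one] at h'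
      exact (c.W2_inj h').symm
    rw [hw] at ha2
    have h3 : (kr c.Fq 1 : GL Pt F).val * c.W2 ((b, 0), (0, b' + b)) =
        a3 • (c.W2 ((0, b), (0, b' + b)) * (kr c.Fq 1 : GL Pt F).val) := by
      rw [kr_val, W2, W2, Units.val_one, ← Matrix.mul_kronecker_mul, ← Matrix.mul_kronecker_mul, ha3,
        Matrix.smul_kronecker, one_mul, mul_one]
    refine ⟨a1 * a2 * a3, ?_⟩
    show ((kr c.Fq 1 * c.ctl * (kr c.Fq 1)⁻¹ : GL Pt F) : Matrix Pt Pt F) * _ =
      _ • (_ * ((kr c.Fq 1 * c.ctl * (kr c.Fq 1)⁻¹ : GL Pt F) : Matrix Pt Pt F))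
    simp only [Units.val_mul, mul_assoc]
    rw [h1, Matrix.mul_smul, Matrix.mul_smul, ← mul_assoc (c.ctl : Matrix Pt Pt F), ha2, Matrix.smul_mul,
      Matrix.mul_smul, mul_assoc, ← mul_assoc (kr c.Fq 1 : GL Pt F).val, h3, Matrix.smul_mul, smul_smul, smul_smul]
    simp only [mul_assoc]
  have sconj : ∀ (h : GL Pt F) (v w : Ph × Ph) (a : F), (h : Matrix Pt Pt F) * c.W2 v = a • (c.W2 w * (h : Matrix Pt Pt F)) →
      ∀ y : GL Pt F, Commute y (c.WU2 w) → Commute y (h * c.WU2 v * h⁻¹) := by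
    intro h v w a e y hy
    have e' : ((h * c.WU2 v * h⁻¹ : GL Pt F) : Matrix Pt Pt F) = a • (c.WU2 w : Matrix Pt Pt F) := by
      rw [Units.val_mul, Units.val_mul, WU2_val, e, Matrix.smul_mul, mul_assoc, Units.mul_inv, mul_one, WU2_val]
    refine Units.ext ?_
    rw [Units.val_mul y, Units.val_mul _ y, e', Matrix.mul_smul, Matrix.smul_mul, ← Units.val_mul, hy.eq,
      Units.val_mul]
  have hD1 : c.D1 = c.WU2 ((0, 1), (0, 0)) := Units.ext (by
    rw [D1, kr_val, WU2_val, W2, Units.val_one, show ((0, 0) : Ph) = 0 from rfl, W_zero, WU_val])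
  -- the four clocks
  have hfix4 : ∀ e ∈ ({E1, E2, E1 * E2, E1 * E2 * E2} : Set (GL Pt F)), ∀ y ∈ T, Commute y e → y ∈ scal Pt F := by
    intro e he y hy hye
    simp only [Set.mem_insert_iff, Set.mem_singleton_iff] at he
    rcases he with rfl | rfl | rfl | rfl
    · exact fixE 1 M.one_mem y hy (by simpa using hye)
    · exact fixE swapU (c.swap_mem hM) y hy (by rw [hsw]; exact hye)
    · obtain ⟨a, ha⟩ := hG 1 0
      refine fixE G hGM y hy ?_
      show Commute y (G * c.D1 * G⁻¹)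
      rw [hD1]
      refine sconj G _ _ a ha y ?_
      rw [show c.WU2 ((0, 1), (0, 0 + 1)) = E1 * E2 by
        rw [hE2, zero_add, show E1 = kr (c.WU (0, 1)) 1 from rfl, kr_mul, one_mul, mul_one]; rfl]
      exact hye
    · obtain ⟨a, ha⟩ := hG 1 0
      obtain ⟨a', ha'⟩ := hG 1 1
      refine fixE (G * G) (M.mul_mem hGM hGM) y hy ?_
      show Commute y (G * G * c.D1 * (G * G)⁻¹)
      rw [hD1]
      refine sconj (G * G) _ ((0, 1), (0, 1 + 1)) (a * a') ?_ y ?_
      · rw [Units.val_mul, mul_assoc, ha, zero_add, Matrix.mul_smul, ← mul_assoc, ha', Matrix.smul_mul, smul_smul,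
          mul_assoc]
      · rw [show c.WU2 ((0, 1), (0, 1 + 1)) = E1 * E2 * E2 by
          rw [hE2, show E1 = kr (c.WU (0, 1)) 1 from rfl, kr_mul, kr_mul, one_mul, mul_one, mul_one, hWsq]; rfl]
        exact hye
  -- the product formula
  set f : GL Pt F → GL Pt F := fun e => e * x * e⁻¹ with hf
  have hfT : ∀ e ∈ M, f e ∈ T := fun e he => hTconj e he x hx
  have hN : ∀ e ∈ M, e * (e * e) = 1 → e ∈ ({E1, E2, E1 * E2, E1 * E2 * E2} : Set (GL Pt F)) →
      f 1 * f e * f (e * e) ∈ scal Pt F := by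
    intro e he he3 hemem
    refine hfix4 e hemem _ (hTmul _ (hTmul _ (hfT 1 M.one_mem) _ (hfT e he)) _ (hfT _ (M.mul_mem he he))) ?_
    refine (?_ : Commute e (f 1 * f e * f (e * e))).symm
    show e * (f 1 * f e * f (e * e)) = f 1 * f e * f (e * e) * e
    rw [← mul_inv_eq_iff_eq_mul]
    have h3 : f (e * (e * e)) = f 1 := by rw [he3]
    calc e * (f 1 * f e * f (e * e)) * e⁻¹ = f e * f (e * e) * f (e * (e * e)) := by simp only [hf]; group
      _ = f e * f (e * e) * f 1 := by rw [h3]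
      _ = f 1 * f e * f (e * e) := by
          rw [(hTcomm _ (hTmul _ (hfT e he) _ (hfT _ (M.mul_mem he he))) _ (hfT 1 M.one_mem)).eq]
          simp [hf, mul_assoc]
  have hM12 := M.mul_mem hE1M hE2M
  have h12c : E1 * E2 * (E1 * E2 * (E1 * E2)) = 1 := by
    have h3 : (E1 * E2) ^ 3 = 1 := by
      rw [hcE.mul_pow, pow_succ', pow_two, hE1c, pow_succ', pow_two, hE2c, one_mul]
    rwa [pow_succ', pow_two] at h3
  have h122c : E1 * E2 * E2 * (E1 * E2 * E2 * (E1 * E2 * E2)) = 1 := by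
    have hE2sq : E2 * E2 * (E2 * E2 * (E2 * E2)) = 1 := by
      rw [show E2 * E2 * (E2 * E2 * (E2 * E2)) = E2 * (E2 * E2) * (E2 * (E2 * E2)) by group, hE2c, one_mul]
    have h3 : (E1 * (E2 * E2)) ^ 3 = 1 := by
      rw [(hcE.mul_right hcE).mul_pow, pow_succ', pow_two, hE1c, one_mul, pow_succ', pow_two, hE2sq]
    rw [← mul_assoc] at h3
    rwa [pow_succ', pow_two] at h3
  have n1 := hN E1 hE1M hE1c (by simp)
  have n2 := hN E2 hE2M hE2c (by simp)
  have n3 := hN (E1 * E2) hM12 h12c (by simp)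
  have n4 := hN (E1 * E2 * E2) (M.mul_mem hM12 hE2M) h122c (by simp)
  -- all nine conjugates
  have hall : f 1 * f E1 * f (E1 * E1) * (f E2 * f (E1 * E2) * f (E1 * E1 * E2)) *
      (f (E2 * E2) * f (E1 * E2 * E2) * f (E1 * E1 * E2 * E2)) ∈ scal Pt F := by
    have hconj : ∀ e y : GL Pt F, y ∈ scal Pt F → e * y * e⁻¹ ∈ scal Pt F := fun e y ⟨a, ha⟩ =>
      ⟨a, by rw [Units.val_mul, Units.val_mul, ha, Matrix.mul_smul, mul_one, Matrix.smul_mul, Units.mul_inv]⟩
    have e2 : E2 * (f 1 * f E1 * f (E1 * E1)) * E2⁻¹ = f E2 * f (E1 * E2) * f (E1 * E1 * E2) := by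
      rw [hcE.eq, (hcE.mul_left hcE).eq]
      simp only [hf]
      group
    have e22 : E2 * E2 * (f 1 * f E1 * f (E1 * E1)) * (E2 * E2)⁻¹ =
        f (E2 * E2) * f (E1 * E2 * E2) * f (E1 * E1 * E2 * E2) := by
      have r1 : E1 * E2 * E2 = E2 * E2 * E1 := (mul_assoc _ _ _).trans (hcE.mul_right hcE).eq
      have r2 : E1 * E1 * E2 * E2 = E2 * E2 * (E1 * E1) :=
        (mul_assoc _ _ _).trans ((hcE.mul_right hcE).mul_left (hcE.mul_right hcE)).eq
      rw [r1, r2]
      simp only [hf]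
      group
    exact (scal Pt F).mul_mem ((scal Pt F).mul_mem n1 (e2 ▸ hconj E2 _ n1)) (e22 ▸ hconj _ _ n1)
  have hw12 : E1 * E2 * (E1 * E2) = E1 * E1 * E2 * E2 := by
    rw [mul_assoc E1 E2, ← mul_assoc E2 E1 E2, ← hcE.eq]; group
  have hw122 : E1 * E2 * E2 * (E1 * E2 * E2) = E1 * E1 * E2 := by
    calc E1 * E2 * E2 * (E1 * E2 * E2) = E1 * (E2 * E2 * E1) * (E2 * E2) := by group
      _ = E1 * (E1 * (E2 * E2)) * (E2 * E2) := by rw [← (hcE.mul_right hcE).eq]
      _ = E1 * E1 * E2 * (E2 * (E2 * E2)) := by group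
      _ = E1 * E1 * E2 := by rw [hE2c, mul_one]
  rw [hw12] at n3
  rw [hw122] at n4
  have hx1 : f 1 = x := by simp [hf]
  let H : Subgroup (GL Pt F) := Subgroup.closure T
  haveI hHc : IsMulCommutative H := Subgroup.isMulCommutative_closure (fun a ha b hb => hTcomm a ha b hb)
  letI : CommGroup H := { (inferInstance : Group H) with mul_comm := hHc.is_comm.comm }
  let hh : ∀ e ∈ M, H := fun e he => ⟨f e, Subgroup.subset_closure (hfT e he)⟩
  let a0 := hh 1 M.one_mem
  let a1 := hh E1 hE1M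
  let a11 := hh _ (M.mul_mem hE1M hE1M)
  let b1 := hh E2 hE2M
  let b2 := hh _ (M.mul_mem hE2M hE2M)
  let p1 := hh _ hM12
  let p2 := hh _ (M.mul_mem (M.mul_mem hE1M hE1M) hE2M)
  let q1 := hh _ (M.mul_mem hM12 hE2M)
  let q2 := hh _ (M.mul_mem (M.mul_mem (M.mul_mem hE1M hE1M) hE2M) hE2M)
  have key : a0 ^ 3 * (a0 * a1 * a11 * (b1 * p1 * p2) * (b2 * q1 * q2)) =
      (a0 * a1 * a11) * (a0 * b1 * b2) * (a0 * p1 * q2) * (a0 * q1 * p2) := nine_identity _ _ _ _ _ _ _ _ _
  have hval : (((a0 ^ 3 * (a0 * a1 * a11 * (b1 * p1 * p2) * (b2 * q1 * q2)) : H)) : GL Pt F) ∈ scal Pt F := by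
    rw [key]
    exact (scal Pt F).mul_mem ((scal Pt F).mul_mem ((scal Pt F).mul_mem n1 n2) n3) n4
  have hx3 : x ^ 3 ∈ scal Pt F := by
    rw [Subgroup.coe_mul, Subgroup.coe_pow] at hval
    have := ((scal Pt F).mul_mem_cancel_right (show ((a0 * a1 * a11 * (b1 * p1 * p2) * (b2 * q1 * q2) : H) : GL Pt F)
      ∈ scal Pt F from hall)).1 hval
    rwa [show ((a0 : H) : GL Pt F) = x from hx1] at this
  obtain ⟨m, hm, hxm⟩ := hTord x hx
  exact mem_of_pows _ hm hx3 (by rw [hxm]; exact (scal Pt F).one_mem)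

end Ctx

end Cfsg.Agent.Heis12
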