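import Cfsg.Agent.Lib.Heis12Core
import Cfsg.Agent.Lib.Heis12Base
import Cfsg.Agent.Lib.Heis12Coord

/-!
The normaliser of `3^(1+4)` is maximal in `SL_9(p)` for `p ≡ 1 mod 3`.
-/

set_option autoImplicit false

namespace Cfsg.Agent.Heis12

/-- Maximality of the class six subgroup of `SL_9`. -/
theorem heis_maximal {F : Type*} [Field F] [Fintype F]
    (hp : ∃ p : ℕ, p.Prime ∧ Fintype.card F = p ∧ p % 3 = 1)
    (R : Subgroup (Matrix.GeneralLinearGroup (Fin 9) F)) (hR : Cfsg.Geo.IsLinearSymplecticTypeData 3 R) :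
    Cfsg.Geo.IsMaximalIn (Cfsg.Geo.specialLinear (Fin 9) F)
      (Cfsg.Geo.subgroupNormalizer R ⊓ Cfsg.Geo.specialLinear (Fin 9) F) := by
  refine of_core (fun c => ?_) hp R hR
  obtain ⟨p, hp1, hp2, hp3⟩ := hp
  haveI := Fact.mk hp1
  haveI : CharP F p := by
    haveI : CharP F (ringChar F) := ringChar.charP F
    obtain ⟨n, hr, hn⟩ := FiniteField.card F (ringChar F)
    have h1 : ringChar F ∣ p := hp2 ▸ hn ▸ dvd_pow_self _ n.pos.ne'
    rw [← (Nat.prime_dvd_prime_iff_eq hr hp1).1 h1]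
    infer_instance
  have h7 : 5 < p := by
    by_contra h
    interval_cases p <;> first | omega | exact absurd hp1 (by norm_num)
  have hsurj : ∀ x : F, ∃ n : ℕ, (n : F) = x := fun x => by
    have hb : Function.Bijective (ZMod.castHom (dvd_refl p) F) := by
      rw [Fintype.bijective_iff_injective_and_card]
      exact ⟨(ZMod.castHom (dvd_refl p) F).injective, by rw [ZMod.card, hp2]⟩
    obtain ⟨a, ha⟩ := hb.2 x
    exact ⟨a.val, by rw [← ha, ← ZMod.natCast_zmod_val a, map_natCast, ZMod.natCast_zmod_val a]⟩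
  have h5 : (5 : F) ≠ 0 := fun h => by
    have : ((5 : ℕ) : F) = 0 := by exact_mod_cast h
    rw [CharP.cast_eq_zero_iff F p] at this
    have := Nat.le_of_dvd (by norm_num) this
    omega
  exact c.core (c.baseHyp (by rw [Nat.card_eq_fintype_card, hp2]; exact hp1) h5)
    ⟨p, hp1, inferInstance, by omega, hsurj⟩

end Cfsg.Agent.Heis12
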