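import Cfsg.Agent.Lib.Heis12Words
import Cfsg.Agent.Lib.PSLSimple
import Cfsg.Agent.Lib.AschPrimeBasic
import Cfsg.Prelude.Def_GeometricClasses

/-!
Linear algebra and groups on one qutrit: commutants of the quaternion group, intertwiners,
subgroups normalised by the special linear group, and the dichotomy for groups containing the
normaliser of the Weyl matrices.
-/

set_option autoImplicit false
set_option linter.unusedSectionVars false

namespace Cfsg.Agent.Heis12

open Matrix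
open scoped MatrixGroups commutatorElement

variable {F : Type*} [Field F]

theorem mem_sl {ι : Type} [Fintype ι] [DecidableEq ι] {g : GL ι F} :
    g ∈ Cfsg.Geo.specialLinear ι F ↔ (g : Matrix ι ι F).det = 1 := by
  simp [Cfsg.Geo.specialLinear, MonoidHom.mem_ker, Units.ext_iff]

/-- A subgroup normalised by the special linear group that contains a non-scalar matrix contains it. -/
theorem sl_le_of_normalised {ι : Type} [Fintype ι] [DecidableEq ι] (h3 : 3 ≤ Fintype.card ι) (H : Subgroup (GL ι F))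
    (hN : ∀ g ∈ Cfsg.Geo.specialLinear ι F, ∀ h ∈ H, g * h * g⁻¹ ∈ H) {h : GL ι F} (hh : h ∈ H)
    (hns : ∀ a : F, (h : Matrix ι ι F) ≠ a • 1) : Cfsg.Geo.specialLinear ι F ≤ H := by
  classical
  haveI : Nontrivial ι := Fintype.one_lt_card_iff_nontrivial.1 (by omega)
  let f : SpecialLinearGroup ι F →* GL ι F := SpecialLinearGroup.toGL
  have fsl : ∀ x, f x ∈ Cfsg.Geo.specialLinear ι F := fun x => mem_sl.2 x.2
  have hperf := PSLSimple.commutator_SL_eq_top (F := F) h3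
  let K : Subgroup (SpecialLinearGroup ι F) := H.comap f
  haveI hKn : K.Normal := ⟨fun k hk g => by
    show f (g * k * g⁻¹) ∈ H
    rw [map_mul, map_mul, map_inv]
    exact hN _ (fsl g) _ hk⟩
  haveI := PSLSimple.isSimpleGroup_PSL (F := F) hperf
  let π := QuotientGroup.mk' (Subgroup.center (SpecialLinearGroup ι F))
  have hmap : (K.map π).Normal := hKn.map π (QuotientGroup.mk'_surjective _)
  have hc : ∀ s : SpecialLinearGroup ι F, ∃ k ∈ K, f k = h * f s * h⁻¹ * (f s)⁻¹ := by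
    intro s
    have h1 : h * f s * h⁻¹ * (f s)⁻¹ ∈ H := by
      rw [show h * f s * h⁻¹ * (f s)⁻¹ = h * (f s * h⁻¹ * (f s)⁻¹) by group]
      exact H.mul_mem hh (hN _ (fsl s) _ (H.inv_mem hh))
    have h2 : (h * f s * h⁻¹ * (f s)⁻¹) ∈ Cfsg.Geo.specialLinear ι F := by
      rw [Cfsg.Geo.specialLinear, MonoidHom.mem_ker]
      simp only [map_mul, map_inv]
      rw [mul_comm (Matrix.GeneralLinearGroup.det h), mul_inv_cancel_right, mul_inv_cancel]
    let x : SpecialLinearGroup ι F := ⟨_, mem_sl.1 h2⟩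
    have hx : f x = h * f s * h⁻¹ * (f s)⁻¹ := Units.ext rfl
    refine ⟨x, ?_, hx⟩
    show f x ∈ H
    rw [hx]
    exact h1
  rcases hmap.eq_bot_or_eq_top with hb | ht
  · exfalso
    choose φ hφK hφ using hc
    have hcen : ∀ k ∈ K, ∀ x : SpecialLinearGroup ι F, x * k = k * x := fun k hk =>
      Subgroup.mem_center_iff.1 ((QuotientGroup.eq_one_iff k).1
        (Subgroup.mem_bot.1 (hb ▸ Subgroup.mem_map_of_mem π hk)))
    have hf : Function.Injective f := SpecialLinearGroup.toGL_injective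
    have hcen' : ∀ s (x : SpecialLinearGroup ι F), f x * (h * f s * h⁻¹ * (f s)⁻¹) = (h * f s * h⁻¹ * (f s)⁻¹) * f x := by
      intro s x
      rw [← hφ, ← map_mul, ← map_mul, hcen _ (hφK s)]
    have hmul : ∀ s t, φ (s * t) = φ s * φ t := fun s t => hf (by
      simp only [map_mul, hφ, _root_.mul_inv_rev]
      calc h * (f s * f t) * h⁻¹ * ((f t)⁻¹ * (f s)⁻¹)
          = (h * f s * h⁻¹) * (h * f t * h⁻¹ * (f t)⁻¹) * (f s)⁻¹ := by group
        _ = (h * f s * h⁻¹) * (h * f t * h⁻¹ * (f t)⁻¹ * f (s⁻¹)) := by rw [map_inv]; group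
        _ = (h * f s * h⁻¹) * (f (s⁻¹) * (h * f t * h⁻¹ * (f t)⁻¹)) := by rw [hcen' t s⁻¹]
        _ = h * f s * h⁻¹ * (f s)⁻¹ * (h * f t * h⁻¹ * (f t)⁻¹) := by rw [map_inv]; group)
    let φh : SpecialLinearGroup ι F →* SpecialLinearGroup ι F := MonoidHom.mk' φ hmul
    have hker : φh.ker = ⊤ := by
      rw [eq_top_iff, ← hperf, _root_.commutator_def, Subgroup.commutator_le]
      intro a _ b _
      rw [MonoidHom.mem_ker, map_commutatorElement, commutatorElement_eq_one_iff_mul_comm]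
      exact hcen _ (hφK b) _
    have hcomm : ∀ s, h * f s = f s * h := fun s => by
      have h1 := hφ s
      rw [show φ s = 1 from MonoidHom.mem_ker.1 (hker ▸ Subgroup.mem_top s), map_one] at h1
      have h2 := congrArg (fun z => z * f s * h) h1
      simpa [mul_assoc] using h2.symm
    obtain ⟨a, ha⟩ := AschPrimeBasic.eq_scalar_of_comm_transvection (M := (h : Matrix ι ι F)) fun i j hij =>
      congrArg Units.val (hcomm (SpecialLinearGroup.transvection hij 1))
    exact hns a ha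
  · intro g hg
    have hall : ∀ x, ∃ k ∈ K, ∃ z ∈ Subgroup.center (SpecialLinearGroup ι F), x = k * z := by
      intro x
      obtain ⟨k, hk, hkx⟩ := Subgroup.mem_map.1 (ht ▸ Subgroup.mem_top (π x) : π x ∈ K.map π)
      exact ⟨k, hk, k⁻¹ * x, QuotientGroup.eq.1 hkx, by group⟩
    have hKtop : K = ⊤ := by
      rw [eq_top_iff, ← hperf, _root_.commutator_def, Subgroup.commutator_le]
      intro a _ b _
      obtain ⟨k, hk, z, hz, rfl⟩ := hall a
      obtain ⟨l, hl, w, hw, rfl⟩ := hall b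
      have hz' := Subgroup.mem_center_iff.1 hz
      have hw' := Subgroup.mem_center_iff.1 hw
      rw [show ⁅k * z, l * w⁆ = ⁅k, l⁆ by
        simp only [commutatorElement_def, _root_.mul_inv_rev]
        calc k * z * (l * w) * (z⁻¹ * k⁻¹) * (w⁻¹ * l⁻¹)
            = k * (z * (l * w)) * z⁻¹ * k⁻¹ * w⁻¹ * l⁻¹ := by group
          _ = k * l * w * k⁻¹ * w⁻¹ * l⁻¹ := by rw [← hz' (l * w)]; group
          _ = k * l * (w * k⁻¹) * w⁻¹ * l⁻¹ := by group
          _ = k * l * k⁻¹ * l⁻¹ := by rw [← hw' k⁻¹]; group]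
      exact K.mul_mem (K.mul_mem (K.mul_mem hk hl) (K.inv_mem hk)) (K.inv_mem hl)
    let x : SpecialLinearGroup ι F := ⟨(g : Matrix ι ι F), mem_sl.1 hg⟩
    have hx : f x = g := Units.ext rfl
    have hm : x ∈ K := hKtop ▸ Subgroup.mem_top _
    rw [← hx]
    exact hm

namespace Ctx

variable (c : Ctx F)

/-- The dichotomy for subgroups of the special linear group containing the normaliser of the Weyl matrices. -/
def BaseHyp : Prop :=
  ∀ M : Subgroup (GL Z3 F), M ≤ Cfsg.Geo.specialLinear Z3 F →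
    (∀ g ∈ Cfsg.Geo.specialLinear Z3 F, c.Nr1 g → g ∈ M) → (∀ g ∈ M, c.Nr1 g) ∨ Cfsg.Geo.specialLinear Z3 F ≤ M

theorem Fq_det : (c.Fq : Matrix Z3 Z3 F).det = 1 := by
  have h := c.Fq_det_cube
  have h4 : c.Fq ^ 4 = 1 := c.Q8_pow_four c.Fq_mem
  have := congrArg (fun g : GL Z3 F => (g : Matrix Z3 Z3 F).det) h4
  simp only [Units.val_pow_eq_pow_val, Matrix.det_pow, Units.val_one, Matrix.det_one] at this
  linear_combination this - (c.Fq : Matrix Z3 Z3 F).det * h

theorem Gq_det : (c.Gq : Matrix Z3 Z3 F).det = 1 := by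
  rw [Gq, Units.val_mul, Units.val_mul, Matrix.det_units_conj, c.Fq_det]

theorem W_det (v : Ph) : (c.W v).det = 1 := by
  have hD : ∀ b, (c.W (0, b)).det = 1 := by
    intro b
    have e : c.W (0, b) = Matrix.diagonal fun y => c.χ (b * y) := by
      ext x y
      rw [W_apply, Matrix.diagonal_apply, add_zero]
      by_cases h : x = y
      · subst h; simp
      · simp [h]
    have e' : ∀ b : ZMod 3, b * 0 + b * 1 + b * 2 = 0 := by decide
    have hp : ∀ f : ZMod 3 → F, ∏ y, f y = f 0 * f 1 * f 2 := fun f => Fin.prod_univ_three f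
    rw [e, Matrix.det_diagonal, hp, ← c.χ_add, ← c.χ_add, e', χ_zero]
  have hT : ∀ a, (c.W (a, 0)).det = 1 := by
    intro a
    have e : (c.Fq : Matrix Z3 Z3 F) * c.W (0, -a) = c.W (a, 0) * (c.Fq : Matrix Z3 Z3 F) := by
      ext x y
      rw [Matrix.mul_apply, Matrix.mul_apply, Finset.sum_eq_single y, Finset.sum_eq_single (x - a)]
      · simp only [W_apply, Fq_val, add_zero, if_true, sub_add_cancel, zero_mul, χ_zero, one_mul]
        rw [mul_assoc, ← c.χ_add]
        congr 2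
        ring
      · intro b _ hb
        rw [W_apply, if_neg (fun e => hb (by rw [e, add_sub_cancel_right])), zero_mul]
      · simp
      · intro b _ hb
        rw [W_apply, if_neg (by simpa using hb), mul_zero]
      · simp
    have h := congrArg Matrix.det e
    rw [Matrix.det_mul, Matrix.det_mul, hD, mul_one, Fq_det] at h
    simpa using h.symm
  have h := c.W_mul (v.1, 0) (0, v.2)
  simp only [zero_mul, χ_zero, one_smul, Prod.mk_add_mk, add_zero, zero_add] at h
  rw [← h, Matrix.det_mul, hT, hD, one_mul]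

theorem WU_mem_sl (v : Ph) : c.WU v ∈ Cfsg.Geo.specialLinear Z3 F := mem_sl.2 (c.W_det v)

theorem nr_WU (v : Ph) : c.Nr1 (c.WU v) := c.act_nr (c.act_W v)

/-- A matrix conjugating the normalising matrices of determinant one among normalising matrices, both
ways, normalises. -/
theorem nr_of_conj {g : GL Z3 F} (h1 : ∀ x ∈ Cfsg.Geo.specialLinear Z3 F, c.Nr1 x → c.Nr1 (g * x * g⁻¹))
    (h2 : ∀ x ∈ Cfsg.Geo.specialLinear Z3 F, c.Nr1 x → c.Nr1 (g⁻¹ * x * g)) : c.Nr1 g := fun v => by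
    have hy0 := h1 _ (c.WU_mem_sl v) (c.nr_WU v)
    obtain ⟨φ, hd, hy⟩ := c.nr_act hy0
    -- scalar multiples do not change the action
    have hscal : ∀ {X Y : GL Z3 F} {ψ : Tw} {a : F}, (X : Matrix Z3 Z3 F) = a • (Y : Matrix Z3 Z3 F) →
        c.Act Y ψ → c.Act X ψ := by
      intro X Y ψ a e hY u
      obtain ⟨b, hb⟩ := hY u
      exact ⟨b, by rw [e, Matrix.smul_mul, hb, Matrix.mul_smul, smul_comm]⟩
    have cube : ∀ (u : Ph) (X : GL Z3 F) (a : F) (ψ : Tw),
        (X : Matrix Z3 Z3 F) = a • ((g * c.WU u * g⁻¹ : GL Z3 F) : Matrix Z3 Z3 F) → c.Act X ψ →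
        tmul ψ (tmul ψ ψ) = tone := by
      intro u X a ψ e hX
      refine c.act_unique (c.act_mul hX (c.act_mul hX hX)) (hscal (a := a ^ 3) ?_ c.act_one)
      have hu : c.WU u * (c.WU u * c.WU u) = 1 := by
        refine Units.ext ?_
        simp only [Units.val_mul, WU_val, W_mul, Matrix.mul_smul, smul_smul, ← χ_add, Units.val_one]
        have h3 : u + (u + u) = 0 := (show ∀ v : Ph, v + (v + v) = 0 by decide) u
        have h4 : u.2 * u.1 + u.2 * (u + u).1 = 0 := (show ∀ v : Ph, v.2 * v.1 + v.2 * (v + v).1 = 0 by decide) u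
        rw [h3, h4, W_zero, χ_zero, one_smul]
      rw [Units.val_mul, Units.val_mul, e]
      simp only [Matrix.smul_mul, Matrix.mul_smul, smul_smul]
      rw [← Units.val_mul, ← Units.val_mul,
        show g * c.WU u * g⁻¹ * (g * c.WU u * g⁻¹ * (g * c.WU u * g⁻¹)) = g * (c.WU u * (c.WU u * c.WU u)) * g⁻¹ by
          group, hu, mul_one, mul_inv_cancel]
      congr 1
      ring
    have h3 : tmul φ (tmul φ φ) = tone := cube v _ 1 φ (by rw [one_smul]) hy
    have hq : ∀ (B : GL Z3 F) (ψ : Tw), B ∈ Cfsg.Geo.specialLinear Z3 F → c.Act B ψ → tdet ψ = 1 →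
        tmul (tmul φ (tmul (tmul ψ φ) (tinv ψ))) (tmul (tmul φ (tmul (tmul ψ φ) (tinv ψ))) (tmul φ (tmul (tmul ψ φ) (tinv ψ)))) = tone := by
      intro B ψ hB hBψ hdψ
      obtain ⟨a, w, haw⟩ := h2 B hB (c.act_nr hBψ) v
      have e : (g⁻¹ * B * g) * c.WU v * (g⁻¹ * B * g)⁻¹ = g⁻¹ * B * g * c.WU v * g⁻¹ * B⁻¹ * g := by group
      have hconj : ((g⁻¹ * B * g * c.WU v * (g⁻¹ * B * g)⁻¹ : GL Z3 F) : Matrix Z3 Z3 F) = a • c.W w := by
        rw [Units.val_mul, Units.val_mul, WU_val, haw, Matrix.smul_mul, mul_assoc, Units.mul_inv, mul_one]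
      refine cube (v + w) ((g * c.WU v * g⁻¹) * (B * (g * c.WU v * g⁻¹) * B⁻¹)) (a * c.χ (v.2 * w.1)) _ ?_
        (c.act_mul hy (c.act_mul (c.act_mul hBψ hy) (c.act_inv hBψ hdψ)))
      rw [show g * c.WU v * g⁻¹ * (B * (g * c.WU v * g⁻¹) * B⁻¹) =
        g * c.WU v * ((g⁻¹ * B * g) * c.WU v * (g⁻¹ * B * g)⁻¹) * g⁻¹ by group]
      simp only [Units.val_mul, WU_val] at hconj ⊢
      rw [hconj]
      simp only [Matrix.mul_smul, Matrix.smul_mul, mul_assoc]
      rw [← mul_assoc (c.W v), W_mul]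
      simp only [Matrix.mul_smul, Matrix.smul_mul, smul_smul]
    have hF := hq c.Fq tF (mem_sl.2 c.Fq_det) c.act_Fq (by decide)
    have hactG : c.Act c.Gq (tmul (tmul tK tF) (tinv tK)) :=
      c.act_mul (c.act_mul c.act_Kq c.act_Fq) (c.act_inv c.act_Kq (by decide))
    have hK := hq c.Gq _ (mem_sl.2 c.Gq_det) hactG (by decide)
    have hφ1 : φ = tone := by
      refine (show ∀ φ : Tw, tdet φ = 1 → tmul φ (tmul φ φ) = tone →
        tmul (tmul φ (tmul (tmul tF φ) (tinv tF))) (tmul (tmul φ (tmul (tmul tF φ) (tinv tF)))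
          (tmul φ (tmul (tmul tF φ) (tinv tF)))) = tone →
        (let ψ := tmul (tmul tK tF) (tinv tK);
         tmul (tmul φ (tmul (tmul ψ φ) (tinv ψ))) (tmul (tmul φ (tmul (tmul ψ φ) (tinv ψ)))
          (tmul φ (tmul (tmul ψ φ) (tinv ψ)))) = tone) →
        φ = tone by decide) φ hd h3 hF hK
    subst hφ1
    obtain ⟨a, w, haw⟩ := c.eq_smul_W hy
    refine ⟨a, w, ?_⟩
    have := congrArg (fun X => X * (g : Matrix Z3 Z3 F)) haw
    simpa [Units.val_mul, mul_assoc, WU_val, Matrix.smul_mul] using this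

/-- A group with all elements of the normaliser of determinant one either normalises or contains the special
linear group. -/
theorem dichotomy (hb : c.BaseHyp) (G : Subgroup (GL Z3 F))
    (hG : ∀ g ∈ Cfsg.Geo.specialLinear Z3 F, c.Nr1 g → g ∈ G) :
    (∀ g ∈ G, c.Nr1 g) ∨ Cfsg.Geo.specialLinear Z3 F ≤ G := by
  rcases hb (G ⊓ Cfsg.Geo.specialLinear Z3 F) inf_le_right (fun g hg hn => ⟨hG g hg hn, hg⟩) with h | h
  · have hsl : ∀ x ∈ Cfsg.Geo.specialLinear Z3 F, ∀ y, y * x * y⁻¹ ∈ Cfsg.Geo.specialLinear Z3 F := by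
      intro x hx y
      rw [mem_sl] at hx ⊢
      rw [Units.val_mul, Units.val_mul, Matrix.det_units_conj, hx]
    exact Or.inl fun g hg => c.nr_of_conj
      (fun x hx hn => h _ ⟨G.mul_mem (G.mul_mem hg (hG x hx hn)) (G.inv_mem hg), hsl x hx g⟩)
      (fun x hx hn => h _ ⟨G.mul_mem (G.mul_mem (G.inv_mem hg) (hG x hx hn)) hg, by simpa using hsl x hx g⁻¹⟩)
  · exact Or.inr (le_trans h inf_le_left)

/-- The projection to the even vectors. -/
def Pe : Matrix Z3 Z3 F := (2 : F)⁻¹ • (1 + c.Jm)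

/-- The projection to the odd vectors. -/
def Po : Matrix Z3 Z3 F := (2 : F)⁻¹ • (1 - c.Jm)

theorem Jm_sq : c.Jm * c.Jm = 1 := by
  ext x y
  rw [Jm_mul, Matrix.one_apply]
  simp [Jm, neg_inj]

theorem Pe_add_Po : c.Pe + c.Po = 1 := by
  rw [Pe, Po, ← smul_add, show (1 : Matrix Z3 Z3 F) + c.Jm + (1 - c.Jm) = (2 : F) • 1 by rw [two_smul]; abel,
    smul_smul, inv_mul_cancel₀ c.two, one_smul]

theorem Pe_mul_Po : c.Pe * c.Po = 0 := by
  rw [Pe, Po, Matrix.smul_mul, Matrix.mul_smul, add_mul, mul_sub, mul_sub, c.Jm_sq]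
  simp

theorem Po_mul_Pe : c.Po * c.Pe = 0 := by
  rw [Pe, Po, Matrix.smul_mul, Matrix.mul_smul, sub_mul, mul_add, mul_add, c.Jm_sq]
  simp [add_comm]

theorem Pe_sq : c.Pe * c.Pe = c.Pe := by
  have := congrArg (fun X => c.Pe * X) c.Pe_add_Po
  simpa [mul_add, c.Pe_mul_Po] using this

theorem Po_sq : c.Po * c.Po = c.Po := by
  have := congrArg (fun X => c.Po * X) c.Pe_add_Po
  simpa [mul_add, c.Po_mul_Pe] using this

theorem Pe_ov : c.Pe *ᵥ c.ov = 0 := by
  funext x
  rw [Pe, Matrix.smul_mulVec, Pi.smul_apply, Matrix.mulVec, dotProduct, c.sum_z]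
  rcases (show ∀ a : ZMod 3, a = 0 ∨ a = 1 ∨ a = 2 by decide) x with rfl | rfl | rfl <;>
    simp +decide [ov, Jm]

theorem Po_ov : c.Po *ᵥ c.ov = c.ov := by
  have := congrArg (fun X => X *ᵥ c.ov) c.Pe_add_Po
  simpa [Matrix.add_mulVec, c.Pe_ov] using this

theorem even_comm_Pe {X : Matrix Z3 Z3 F} (h : c.Even' X) : c.Pe * X = X * c.Pe := by
  rw [Pe, Matrix.smul_mul, Matrix.mul_smul, add_mul, mul_add, one_mul, mul_one, h]

theorem even_comm_Po {X : Matrix Z3 Z3 F} (h : c.Even' X) : c.Po * X = X * c.Po := by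
  rw [Po, Matrix.smul_mul, Matrix.mul_smul, sub_mul, mul_sub, one_mul, mul_one, h]

/-- An even matrix fixing the odd vector is the identity on the odd vectors. -/
theorem mul_Po_of_fix {X : Matrix Z3 Z3 F} (h : c.Even' X) {a : F} (ho : X *ᵥ c.ov = a • c.ov) :
    X * c.Po = a • c.Po := by
  have hX := c.even_iff.1 h
  have e := congrFun ho
  ext x y
  simp only [Po, Matrix.mul_smul, Matrix.smul_apply, smul_eq_mul, mul_sub, mul_one, Matrix.sub_apply, mul_Jm]
  have h12 : (-1 : ZMod 3) = 2 := rfl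
  have h21 : (-2 : ZMod 3) = 1 := rfl
  have e0 := e x
  simp only [Matrix.mulVec, dotProduct, c.sum_z, Pi.smul_apply, smul_eq_mul, ov] at e0
  simp +decide at e0
  rcases (show ∀ a : ZMod 3, a = 0 ∨ a = 1 ∨ a = 2 by decide) y with rfl | rfl | rfl <;>
    rcases (show ∀ a : ZMod 3, a = 0 ∨ a = 1 ∨ a = 2 by decide) x with rfl | rfl | rfl <;>
      simp +decide [Jm, Matrix.one_apply, h12, h21] at e0 ⊢ <;>
      first
        | linear_combination (2 : F)⁻¹ * e0
        | linear_combination -(2 : F)⁻¹ * e0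

/-- On the even vectors the two generators anticommute. -/
theorem anti : ((c.Fq * c.Gq : GL Z3 F) : Matrix Z3 Z3 F) * c.Pe = -(((c.Gq * c.Fq : GL Z3 F) : Matrix Z3 Z3 F) * c.Pe) := by
  have hactG : c.Act c.Gq (tmul (tmul tK tF) (tinv tK)) :=
    c.act_mul (c.act_mul c.act_Kq c.act_Fq) (c.act_inv c.act_Kq (by decide))
  have h1 := c.act_mul c.act_Fq hactG
  have h2 := c.act_mul c.act_Jn (c.act_mul hactG c.act_Fq)
  rw [show tmul tneg (tmul (tmul (tmul tK tF) (tinv tK)) tF) = tmul tF (tmul (tmul tK tF) (tinv tK)) by decide] at h2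
  rw [c.Q8_ext (c.Q8.mul_mem c.Fq_mem c.Gq_mem) (c.Q8.mul_mem c.Jn_mem (c.Q8.mul_mem c.Gq_mem c.Fq_mem)) h1 h2]
  have hJ : c.Jm * c.Pe = c.Pe := by
    rw [Pe, Matrix.mul_smul, mul_add, mul_one, c.Jm_sq, add_comm]
  have he := c.even_comm_Pe (c.even_mul c.Gq_mem.2.1 c.Fq_mem.2.1)
  rw [Units.val_mul c.Jn, Jn_val, Matrix.neg_mul, Matrix.neg_mul, neg_inj, mul_assoc, Units.val_mul,
    ← he, ← mul_assoc, hJ]

/-- An intertwiner from the quaternion group kills all or none of the even vectors. -/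
theorem intertwiner_ker {Y A B : Matrix Z3 Z3 F} (hA : Y * (c.Fq : Matrix Z3 Z3 F) = A * Y)
    (hB : Y * (c.Gq : Matrix Z3 Z3 F) = B * Y) {v : Z3 → F} (hv : v ≠ 0) (hve : c.Pe *ᵥ v = v)
    (hY : Y *ᵥ v = 0) : Y * c.Pe = 0 := by
  classical
  by_contra hne
  have key : ∀ w, c.Pe *ᵥ w = w → Y *ᵥ w = 0 → ∃ a : F, w = a • v := by
    intro w hwe hYw
    by_contra hno
    push Not at hno
    apply hne
    have ev : ∀ x : Z3 → F, c.Pe *ᵥ x = x → x (-1) = x 1 := fun x hx => by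
      rw [← hx]
      simp only [Pe, Matrix.smul_mulVec, Pi.smul_apply, Matrix.mulVec, dotProduct, c.sum_z]
      simp +decide [Jm, Matrix.one_apply]
    have e1 := ev v hve
    have e2 := ev w hwe
    have hD : v 0 * w 1 - v 1 * w 0 ≠ 0 := by
      intro hD
      by_cases h0 : v 0 = 0
      · have hv1 : v 1 ≠ 0 := fun h => hv (funext fun x => by
          rcases (show ∀ a : ZMod 3, a = 0 ∨ a = 1 ∨ a = -1 by decide) x with rfl | rfl | rfl <;> simp [h0, h, e1])
        rw [h0, zero_mul, zero_sub, neg_eq_zero] at hD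
        have hw0 := (mul_eq_zero.1 hD).resolve_left hv1
        refine hno (w 1 / v 1) (funext fun x => ?_)
        rcases (show ∀ a : ZMod 3, a = 0 ∨ a = 1 ∨ a = -1 by decide) x with rfl | rfl | rfl <;>
          simp [h0, hw0, e1, e2, hv1]
      · refine hno (w 0 / v 0) (funext fun x => ?_)
        rcases (show ∀ a : ZMod 3, a = 0 ∨ a = 1 ∨ a = -1 by decide) x with rfl | rfl | rfl <;>
          simp [e1, e2, h0] <;> field_simp <;> linear_combination hD
    refine Matrix.ext_iff_mulVec.2 fun x => ?_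
    rw [← Matrix.mulVec_mulVec, Matrix.zero_mulVec]
    have hx : c.Pe *ᵥ (c.Pe *ᵥ x) = c.Pe *ᵥ x := by rw [Matrix.mulVec_mulVec, c.Pe_sq]
    generalize c.Pe *ᵥ x = y at hx ⊢
    have e3 := ev y hx
    have hy : y = ((y 0 * w 1 - y 1 * w 0) / (v 0 * w 1 - v 1 * w 0)) • v +
        ((v 0 * y 1 - v 1 * y 0) / (v 0 * w 1 - v 1 * w 0)) • w := by
      funext z
      rcases (show ∀ a : ZMod 3, a = 0 ∨ a = 1 ∨ a = -1 by decide) z with rfl | rfl | rfl <;>
        simp only [Pi.add_apply, Pi.smul_apply, smul_eq_mul, e1, e2, e3] <;>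
        rw [div_mul_eq_mul_div, div_mul_eq_mul_div, ← add_div, eq_div_iff hD] <;> ring
    rw [hy, Matrix.mulVec_add, Matrix.mulVec_smul, Matrix.mulVec_smul, hY, hYw]
    simp
  have stable : ∀ (G : GL Z3 F) (C : Matrix Z3 Z3 F), c.Even' (G : Matrix Z3 Z3 F) →
      Y * (G : Matrix Z3 Z3 F) = C * Y → ∃ a : F, a ≠ 0 ∧ (G : Matrix Z3 Z3 F) *ᵥ v = a • v := by
    intro G C hG hC
    obtain ⟨a, ha⟩ := key ((G : Matrix Z3 Z3 F) *ᵥ v)
      (by rw [Matrix.mulVec_mulVec, c.even_comm_Pe hG, ← Matrix.mulVec_mulVec, hve])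
      (by rw [Matrix.mulVec_mulVec, hC, ← Matrix.mulVec_mulVec, hY, Matrix.mulVec_zero])
    refine ⟨a, fun h0 => hv ?_, ha⟩
    rw [h0, zero_smul] at ha
    have := congrArg (fun x => ((G⁻¹ : GL Z3 F) : Matrix Z3 Z3 F) *ᵥ x) ha
    simpa [Matrix.mulVec_mulVec] using this
  obtain ⟨a, ha, hFa⟩ := stable c.Fq A c.Fq_mem.2.1 hA
  obtain ⟨b, hb, hGb⟩ := stable c.Gq B c.Gq_mem.2.1 hB
  have h := congrArg (fun X => X *ᵥ v) c.anti
  simp only [Units.val_mul, Matrix.neg_mulVec, ← Matrix.mulVec_mulVec, hve, hGb, hFa, Matrix.mulVec_smul,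
    smul_smul, ← neg_smul] at h
  have h2 : (b * a + a * b) • v = 0 := by
    rw [add_smul, h, ← add_smul]
    simp
  rcases smul_eq_zero.1 h2 with e | e
  · exact mul_ne_zero (mul_ne_zero c.two ha) hb (by linear_combination e)
  · exact hv e

/-- The commutant of the quaternion group. -/
theorem commutant {X : Matrix Z3 Z3 F} (hJ : c.Even' X)
    (hF : X * (c.Fq : Matrix Z3 Z3 F) = (c.Fq : Matrix Z3 Z3 F) * X)
    (hG : X * (c.Gq : Matrix Z3 Z3 F) = (c.Gq : Matrix Z3 Z3 F) * X) : ∃ a b : F, X = a • c.Pe + b • c.Po := by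
  have hX := c.even_iff.1 hJ
  have e1 : (-1 : ZMod 3) = 2 := rfl
  have e2 : (-2 : ZMod 3) = 1 := rfl
  have hs := c.sum_eq
  have x1 : X 0 2 = X 0 1 := by simpa [e1] using hX 0 1
  have x2 : X 2 0 = X 1 0 := by simpa [e1] using hX 1 0
  have x3 : X 2 1 = X 1 2 := by simpa [e1, e2] using hX 1 2
  have x4 : X 2 2 = X 1 1 := by simpa [e1] using hX 1 1
  have g : ∀ x y, (c.Gq : Matrix Z3 Z3 F) x y = c.χ (x * x) * (c.s⁻¹ * c.χ (x * y)) * c.χ (-(y * y)) := by
    intro x y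
    rw [Gq, Units.val_mul, Units.val_mul,
      show ((c.Kq⁻¹ : GL Z3 F) : Matrix Z3 Z3 F) = Matrix.diagonal fun x => c.χ (-(x * x)) from rfl,
      Kq_val, Matrix.mul_diagonal, Matrix.diagonal_mul, Fq_val]
  have hF0 := congrFun (congrFun hF 0) 0
  have hF1 := congrFun (congrFun hF 0) 1
  have hG0 := congrFun (congrFun hG 0) 0
  simp only [Matrix.mul_apply, c.sum_z, g, Fq_val, x1, x2, x3, x4] at hF0 hF1 hG0
  simp +decide [c.χ_one, c.χ_two] at hF0 hF1 hG0
  simp only [e1, c.χ_two] at hG0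
  have k1 : ∀ z : ZMod 3, z.val = 1 → c.χ z = c.ω := fun z h => by rw [χ, h, pow_one]
  have k2 : ∀ z : ZMod 3, z.val = 2 → c.χ z = c.ω ^ 2 := fun z h => by rw [χ, h]
  rw [k1 (2 * 2) rfl, k2 (-(2 * 2)) rfl] at hG0
  have hsn := c.s_ne
  field_simp at hF0 hF1 hG0
  -- `X 0 1 = X 1 0` and then both vanish
  have hb : X 0 1 = X 1 0 := mul_left_cancel₀ c.two (by linear_combination hF0)
  rw [hb] at hG0
  have hb0 : X 1 0 = 0 := by
    have : (c.ω - c.ω ^ 2) * (2 * X 1 0) = 0 := by linear_combination hG0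
    exact (mul_eq_zero.1 ((mul_eq_zero.1 this).resolve_left c.s_ne)).resolve_left c.two
  rw [hb, hb0] at hF1
  have hsum : X 0 0 = X 1 1 + X 1 2 := by linear_combination hF1
  refine ⟨X 0 0, X 1 1 - X 1 2, ?_⟩
  ext x y
  simp only [Matrix.add_apply, Matrix.smul_apply, Pe, Po, smul_eq_mul, Matrix.sub_apply]
  rcases (show ∀ a : ZMod 3, a = 0 ∨ a = 1 ∨ a = 2 by decide) x with rfl | rfl | rfl <;>
    rcases (show ∀ a : ZMod 3, a = 0 ∨ a = 1 ∨ a = 2 by decide) y with rfl | rfl | rfl <;>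
      simp +decide [Jm, Matrix.one_apply, x1, x2, x3, x4, hb, hb0, hsum] <;>
      field_simp [c.two] <;> ring

end Ctx

end Cfsg.Agent.Heis12
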