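import Mathlib

/-!
One qutrit: the Weyl matrices of `3^(1+2)` on `F^3`, two elements of the normaliser realising
generators of `SL_2(3)`, and the action of a normalising matrix on the indices.
-/

set_option autoImplicit false
set_option linter.unusedSectionVars false

namespace Cfsg.Agent.Heis12

open Matrix
open scoped MatrixGroups

/-- The indices of one qutrit. -/
abbrev Z3 : Type := ZMod 3

/-- The indices of the Weyl matrices. -/
abbrev Ph : Type := ZMod 3 × ZMod 3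

/-- A linear map of `Ph`, by its matrix entries. -/
abbrev Tw : Type := ZMod 3 × ZMod 3 × ZMod 3 × ZMod 3

/-- Evaluation of a linear map. -/
def tap (φ : Tw) (v : Ph) : Ph := (φ.1 * v.1 + φ.2.1 * v.2, φ.2.2.1 * v.1 + φ.2.2.2 * v.2)

/-- Composition of linear maps. -/
def tmul (φ ψ : Tw) : Tw :=
  (φ.1 * ψ.1 + φ.2.1 * ψ.2.2.1, φ.1 * ψ.2.1 + φ.2.1 * ψ.2.2.2,
    φ.2.2.1 * ψ.1 + φ.2.2.2 * ψ.2.2.1, φ.2.2.1 * ψ.2.1 + φ.2.2.2 * ψ.2.2.2)

/-- The identity. -/
def tone : Tw := (1, 0, 0, 1)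

/-- Minus the identity. -/
def tneg : Tw := (-1, 0, 0, -1)

/-- The determinant. -/
def tdet (φ : Tw) : ZMod 3 := φ.1 * φ.2.2.2 - φ.2.1 * φ.2.2.1

/-- The adjugate. -/
def tinv (φ : Tw) : Tw := (φ.2.2.2, -φ.2.1, -φ.2.2.1, φ.1)

/-- The image of the Fourier matrix. -/
def tF : Tw := (0, -1, 1, 0)

/-- The image of the quadratic phase. -/
def tK : Tw := (1, 0, 2, 1)

/-- The eight maps of the quaternion subgroup. -/
def InQ (φ : Tw) : Prop := tdet φ = 1 ∧ tmul (tmul φ φ) (tmul φ φ) = tone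

instance (φ : Tw) : Decidable (InQ φ) := inferInstanceAs (Decidable (_ ∧ _))

theorem tap_tmul (φ ψ : Tw) (v : Ph) : tap φ (tap ψ v) = tap (tmul φ ψ) v := by
  simp only [tap, tmul, Prod.mk.injEq]
  constructor <;> ring

theorem tap_add (φ : Tw) (v w : Ph) : tap φ (v + w) = tap φ v + tap φ w := by
  simp only [tap, Prod.fst_add, Prod.snd_add, Prod.mk_add_mk, Prod.mk.injEq]
  constructor <;> ring

@[simp] theorem tap_one (v : Ph) : tap tone v = v := by simp [tap, tone]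

theorem tap_neg_one (v : Ph) : tap tneg v = -v := by
  simp [tap, tneg]
  rfl

theorem tap_zero (φ : Tw) : tap φ 0 = 0 := by simp [tap]

theorem tw_ext {φ ψ : Tw} (h1 : tap φ (1, 0) = tap ψ (1, 0)) (h2 : tap φ (0, 1) = tap ψ (0, 1)) :
    φ = ψ := by
  simp only [tap, mul_one, mul_zero, add_zero, zero_add, Prod.mk.injEq] at h1 h2
  exact Prod.ext h1.1 (Prod.ext h2.1 (Prod.ext h1.2 h2.2))

theorem tinv_mul : ∀ φ : Tw, tdet φ = 1 → tmul (tinv φ) φ = tone ∧ tmul φ (tinv φ) = tone ∧ tdet (tinv φ) = 1 := by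
  decide

theorem tdet_mul (φ ψ : Tw) : tdet (tmul φ ψ) = tdet φ * tdet ψ := by
  simp only [tdet, tmul]
  ring

theorem inQ_cases : ∀ φ : Tw, InQ φ → φ = tone ∨ φ = tneg ∨ φ = (0, -1, 1, 0) ∨ φ = (0, 1, -1, 0) ∨
    φ = (1, 1, 1, -1) ∨ φ = (-1, -1, -1, 1) ∨ φ = (1, -1, -1, -1) ∨ φ = (-1, 1, 1, 1) := by decide

theorem inQ_mul {φ ψ : Tw} (hφ : InQ φ) (hψ : InQ ψ) : InQ (tmul φ ψ) := by
  rcases inQ_cases φ hφ with rfl | rfl | rfl | rfl | rfl | rfl | rfl | rfl <;>
    rcases inQ_cases ψ hψ with rfl | rfl | rfl | rfl | rfl | rfl | rfl | rfl <;> decide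

theorem inQ_inv {φ : Tw} (hφ : InQ φ) : InQ (tinv φ) := by
  rcases inQ_cases φ hφ with rfl | rfl | rfl | rfl | rfl | rfl | rfl | rfl <;> decide

theorem inQ_sq {φ : Tw} (hφ : InQ φ) (h : tmul φ φ = tone) : φ = tone ∨ φ = tneg := by
  rcases inQ_cases φ hφ with rfl | rfl | rfl | rfl | rfl | rfl | rfl | rfl <;>
    first
      | exact Or.inl rfl
      | exact Or.inr rfl
      | exact absurd h (by decide)

/-- The two generators give all maps of determinant one. -/
theorem words_cover : ∀ φ : Tw, tdet φ = 1 → ∃ i j k : Fin 3, ∃ l : Fin 4,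
    φ = tmul ((tmul tK)^[i.val] tone)
      (tmul tF (tmul ((tmul tK)^[j.val] tone)
        (tmul tF (tmul ((tmul tK)^[k.val] tone) ((tmul tF)^[l.val] tone))))) := by
  decide

variable (F : Type*) [Field F]

/-- A primitive cube root of unity, in odd characteristic different from three. -/
structure Ctx where
  /-- the root -/
  ω : F
  cube : ω ^ 3 = 1
  ne_one : ω ≠ 1
  two : (2 : F) ≠ 0
  three : (3 : F) ≠ 0

variable {F}

namespace Ctx

variable (c : Ctx F)

/-- The additive character. -/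
def χ (a : ZMod 3) : F := c.ω ^ a.val

theorem sum_eq : 1 + c.ω + c.ω ^ 2 = 0 := by
  have h : (c.ω - 1) * (1 + c.ω + c.ω ^ 2) = 0 := by linear_combination c.cube
  exact (mul_eq_zero.1 h).resolve_left (sub_ne_zero.2 c.ne_one)

@[simp] theorem χ_zero : c.χ 0 = 1 := by simp [χ]

theorem χ_one : c.χ 1 = c.ω := by simp [χ, ZMod.val_one]

theorem χ_two : c.χ 2 = c.ω ^ 2 := rfl

theorem χ_add (a b : ZMod 3) : c.χ (a + b) = c.χ a * c.χ b := by
  rw [χ, χ, χ, ← pow_add, ZMod.val_add]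
  exact (pow_eq_pow_mod _ c.cube).symm

theorem χ_cube (a : ZMod 3) : c.χ a ^ 3 = 1 := by
  rw [χ, ← pow_mul, mul_comm, pow_mul, c.cube, one_pow]

theorem χ_ne (a : ZMod 3) : c.χ a ≠ 0 := fun h => by simpa [h] using c.χ_cube a

theorem χ_eq_one {a : ZMod 3} (h : c.χ a = 1) : a = 0 := by
  rcases (show ∀ a : ZMod 3, a = 0 ∨ a = 1 ∨ a = 2 by decide) a with rfl | rfl | rfl
  · rfl
  · exact absurd (c.χ_one ▸ h) c.ne_one
  · rw [c.χ_two] at h
    exact absurd (by linear_combination c.cube - c.ω * h) c.ne_one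

theorem χ_inj {a b : ZMod 3} (h : c.χ a = c.χ b) : a = b := by
  have : c.χ (a - b) = 1 := by
    have := c.χ_add (a - b) b
    rw [sub_add_cancel, h] at this
    exact (mul_eq_right₀ (c.χ_ne b)).1 this.symm
  exact sub_eq_zero.1 (c.χ_eq_one this)

theorem exists_χ {x : F} (h : x ^ 3 = 1) : ∃ a, x = c.χ a := by
  have h' : (x - 1) * ((x - c.ω) * (x - c.ω ^ 2)) = 0 := by
    linear_combination h + (-x ^ 2 + x) * c.sum_eq + (x - 1) * c.cube
  rcases mul_eq_zero.1 h' with e | e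
  · exact ⟨0, by simpa [sub_eq_zero] using e⟩
  rcases mul_eq_zero.1 e with e | e
  · exact ⟨1, by rw [χ_one]; exact sub_eq_zero.1 e⟩
  · exact ⟨2, by rw [χ_two]; exact sub_eq_zero.1 e⟩

theorem sum_three (f : ZMod 3 → F) : ∑ a, f a = f 0 + f 1 + f 2 := Fin.sum_univ_three f

theorem χ_sum (a : ZMod 3) : ∑ x, c.χ (x * a) = if a = 0 then 3 else 0 := by
  rw [sum_three]
  rcases (show ∀ a : ZMod 3, a = 0 ∨ a = 1 ∨ a = 2 by decide) a with rfl | rfl | rfl
  · simp; norm_num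
  · simp [c.χ_one, c.χ_two, c.sum_eq]
  · rw [if_neg (by decide)]
    simp only [zero_mul, one_mul, χ_zero]
    rw [show (2 : ZMod 3) * 2 = 1 by decide, c.χ_one, c.χ_two]
    linear_combination c.sum_eq

/-- The square root of minus three. -/
def s : F := c.ω - c.ω ^ 2

theorem s_sq : c.s * c.s = -3 := by
  rw [s]
  linear_combination (c.ω - 2) * c.cube + c.sum_eq

theorem s_ne : c.s ≠ 0 := fun h => by
  have := c.s_sq
  rw [h, zero_mul] at this
  exact c.three (by linear_combination this)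

/-- The Weyl matrix: `e y ↦ χ (b y) e (y + a)`. -/
def W (v : Ph) : Matrix Z3 Z3 F := Matrix.of fun x y => if x = y + v.1 then c.χ (v.2 * y) else 0

theorem W_apply (v : Ph) (x y : Z3) : c.W v x y = if x = y + v.1 then c.χ (v.2 * y) else 0 := rfl

theorem W_zero : c.W 0 = 1 := by
  ext x y
  simp [W_apply, Matrix.one_apply]

theorem W_mul (v w : Ph) : c.W v * c.W w = c.χ (v.2 * w.1) • c.W (v + w) := by
  ext x z
  rw [Matrix.mul_apply, Finset.sum_eq_single (z + w.1)]
  · simp only [W_apply, Matrix.smul_apply, smul_eq_mul, Prod.fst_add, Prod.snd_add, if_true]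
    rw [show z + w.1 + v.1 = z + (v.1 + w.1) by ring]
    split_ifs
    · rw [← c.χ_add, ← c.χ_add]; congr 1; ring
    · simp
  · intro y _ hy
    simp [W_apply, hy]
  · simp

theorem W_comm (v w : Ph) :
    c.W v * c.W w = c.χ (v.2 * w.1 - v.1 * w.2) • (c.W w * c.W v) := by
  rw [W_mul, W_mul, smul_smul, ← c.χ_add, add_comm w v]
  congr 2
  ring

/-- The Weyl matrix as an element of the group. -/
def WU (v : Ph) : GL Z3 F where
  val := c.W v
  inv := c.χ (v.1 * v.2) • c.W (-v)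
  val_inv := by
    rw [Matrix.mul_smul, W_mul, add_neg_cancel, W_zero, smul_smul, ← c.χ_add,
      show v.1 * v.2 + v.2 * (-v).1 = 0 by simp only [Prod.fst_neg]; ring, χ_zero, one_smul]
  inv_val := by
    rw [Matrix.smul_mul, W_mul, neg_add_cancel, W_zero, smul_smul, ← c.χ_add,
      show v.1 * v.2 + (-v).2 * v.1 = 0 by simp only [Prod.snd_neg]; ring, χ_zero, one_smul]

theorem WU_val (v : Ph) : (c.WU v : Matrix Z3 Z3 F) = c.W v := rfl

theorem W_inj {v w : Ph} {a : F} (h : c.W v = a • c.W w) : v = w ∧ a = 1 := by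
  have h0 := fun y => congrFun (congrFun h (y + v.1)) y
  simp only [W_apply, Matrix.smul_apply, if_true, smul_eq_mul] at h0
  have e1 : v.1 = w.1 := by
    by_contra hne
    have := h0 0
    rw [if_neg (fun e => hne (by simpa using e)), mul_zero] at this
    simp at this
  have h00 := h0 0
  rw [e1] at h0 h00
  simp only [if_true, mul_zero, χ_zero, mul_one] at h0 h00
  have h1 := h0 1
  rw [← h00, one_mul, mul_one, mul_one] at h1
  exact ⟨Prod.ext e1 (c.χ_inj h1), h00.symm⟩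

theorem W_ne_zero (v : Ph) : c.W v ≠ 0 := fun h => by
  have := congrFun (congrFun h (0 + v.1)) 0
  simp [W_apply] at this

theorem W_trace {v : Ph} (h : v ≠ 0) : (c.W v).trace = 0 := by
  rw [Matrix.trace]
  by_cases h1 : v.1 = 0
  · have h2 : v.2 ≠ 0 := fun e => h (Prod.ext h1 e)
    simp only [Matrix.diag, W_apply, h1, add_zero, if_true]
    have := c.χ_sum v.2
    rw [if_neg h2] at this
    rw [← this]
    exact Finset.sum_congr rfl fun x _ => by rw [mul_comm]
  · exact Finset.sum_eq_zero fun x _ => by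
      simp [W_apply, h1]

/-- A matrix commuting with shift and clock is scalar. -/
theorem scalar_of_comm {X : Matrix Z3 Z3 F} (h1 : X * c.W (1, 0) = c.W (1, 0) * X)
    (h2 : X * c.W (0, 1) = c.W (0, 1) * X) : X = X 0 0 • 1 := by
  have hoff : ∀ x y, x ≠ y → X x y = 0 := by
    intro x y hxy
    have h := congrFun (congrFun h2 x) y
    rw [Matrix.mul_apply, Matrix.mul_apply, Finset.sum_eq_single y (fun b _ hb => by simp [W_apply, hb])
      (by simp), Finset.sum_eq_single x (fun b _ hb => by simp [W_apply, hb.symm]) (by simp)] at h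
    simp only [W_apply, add_zero, if_true, one_mul] at h
    by_contra hne
    exact hxy (c.χ_inj (mul_right_cancel₀ hne (by linear_combination h))).symm
  have hd : ∀ x, X (x + 1) (x + 1) = X x x := by
    intro x
    have h := congrFun (congrFun h1 (x + 1)) x
    rw [Matrix.mul_apply, Matrix.mul_apply,
      Finset.sum_eq_single (x + 1) (fun b _ hb => by simp [W_apply, hb]) (by simp),
      Finset.sum_eq_single x (fun b _ hb => by
        rw [W_apply, if_neg (fun e => hb (add_right_cancel e).symm), zero_mul]) (by simp)] at h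
    simpa [W_apply] using h
  ext x y
  by_cases hxy : x = y
  · subst hxy
    have h0 := hd 0
    have h1' := hd 1
    rw [zero_add] at h0
    rcases (show ∀ a : ZMod 3, a = 0 ∨ a = 1 ∨ a = 2 by decide) x with rfl | rfl | rfl
    · simp
    · simp [h0]
    · rw [show (1 : ZMod 3) + 1 = 2 from rfl, h0] at h1'
      simp [h1']
  · simp [hoff x y hxy, hxy]

/-- The matrix carries the Weyl matrices to multiples of Weyl matrices along `φ`. -/
def Act (A : GL Z3 F) (φ : Tw) : Prop :=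
  ∀ v, ∃ a : F, (A : Matrix Z3 Z3 F) * c.W v = a • (c.W (tap φ v) * (A : Matrix Z3 Z3 F))

/-- The matrix normalises the Weyl matrices up to scalars. -/
def Nr1 (A : GL Z3 F) : Prop :=
  ∀ v, ∃ (a : F) (w : Ph), (A : Matrix Z3 Z3 F) * c.W v = a • (c.W w * (A : Matrix Z3 Z3 F))

theorem act_nr {A : GL Z3 F} {φ : Tw} (h : c.Act A φ) : c.Nr1 A := fun v => by
  obtain ⟨a, ha⟩ := h v
  exact ⟨a, _, ha⟩

theorem act_one : c.Act 1 tone := fun v => ⟨1, by simp⟩

theorem act_mul {A B : GL Z3 F} {φ ψ : Tw} (hA : c.Act A φ) (hB : c.Act B ψ) :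
    c.Act (A * B) (tmul φ ψ) := fun v => by
  obtain ⟨b, hb⟩ := hB v
  obtain ⟨a, ha⟩ := hA (tap ψ v)
  refine ⟨b * a, ?_⟩
  rw [Units.val_mul, mul_assoc, hb, Matrix.mul_smul, ← mul_assoc, ha, Matrix.smul_mul, smul_smul,
    tap_tmul, mul_assoc]

theorem act_ne {A : GL Z3 F} {v w : Ph} {a : F}
    (h : (A : Matrix Z3 Z3 F) * c.W v = a • (c.W w * (A : Matrix Z3 Z3 F))) : a ≠ 0 := fun h0 => by
  rw [h0, zero_smul] at h
  have := congrArg (fun X => ((A⁻¹ : GL Z3 F) : Matrix Z3 Z3 F) * X) h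
  simp only [← mul_assoc, Units.inv_mul, one_mul, mul_zero] at this
  exact c.W_ne_zero v this

theorem act_cancel {A : GL Z3 F} {w w' : Ph} {a a' : F} (ha : a ≠ 0)
    (h : a • (c.W w * (A : Matrix Z3 Z3 F)) = a' • (c.W w' * (A : Matrix Z3 Z3 F))) : w = w' ∧ a = a' := by
  have h' := congrArg (fun X => X * ((A⁻¹ : GL Z3 F) : Matrix Z3 Z3 F)) h
  simp only [Matrix.smul_mul, mul_assoc, Units.mul_inv, mul_one] at h'
  have h'' : c.W w = (a⁻¹ * a') • c.W w' := by rw [← smul_smul, ← h', smul_smul, inv_mul_cancel₀ ha, one_smul]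
  obtain ⟨e1, e2⟩ := c.W_inj h''
  exact ⟨e1, by field_simp at e2; exact e2.symm⟩

theorem act_unique {A : GL Z3 F} {φ ψ : Tw} (hA : c.Act A φ) (hA' : c.Act A ψ) : φ = ψ := by
  have key : ∀ v, tap φ v = tap ψ v := fun v => by
    obtain ⟨a, ha⟩ := hA v
    obtain ⟨a', ha'⟩ := hA' v
    exact (c.act_cancel (c.act_ne ha) (ha.symm.trans ha')).1
  exact tw_ext (key _) (key _)

theorem nr_act {A : GL Z3 F} (h : c.Nr1 A) : ∃ φ, tdet φ = 1 ∧ c.Act A φ := by
  choose a w haw using h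
  have hadd : ∀ u v, w (u + v) = w u + w v := by
    intro u v
    have h1 : (A : Matrix Z3 Z3 F) * c.W u * c.W v =
        (a u * a v * c.χ ((w u).2 * (w v).1)) • (c.W (w u + w v) * (A : Matrix Z3 Z3 F)) := by
      rw [haw u, Matrix.smul_mul, mul_assoc, haw v, Matrix.mul_smul, ← mul_assoc, W_mul, Matrix.smul_mul,
        smul_smul, smul_smul, mul_assoc]
    rw [mul_assoc, W_mul, Matrix.mul_smul, haw (u + v), smul_smul] at h1
    exact (c.act_cancel (mul_ne_zero (c.χ_ne _) (c.act_ne (haw _))) h1).1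
  let φ : Tw := ((w (1, 0)).1, (w (0, 1)).1, (w (1, 0)).2, (w (0, 1)).2)
  let f : Ph →+ Ph := AddMonoidHom.mk' w hadd
  have hw : ∀ v, w v = tap φ v := by
    intro v
    have hv : v = v.1.val • ((1, 0) : Ph) + v.2.val • ((0, 1) : Ph) := by
      rcases v with ⟨x, y⟩
      simp [Prod.smul_mk, nsmul_eq_mul]
    show f v = _
    conv_lhs => rw [hv]
    rw [map_add, map_nsmul, map_nsmul]
    show v.1.val • w (1, 0) + v.2.val • w (0, 1) = _
    simp only [φ, tap, Prod.smul_def, nsmul_eq_mul, ZMod.natCast_zmod_val, Prod.mk_add_mk, Prod.mk.injEq]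
    constructor <;> ring
  refine ⟨φ, ?_, fun v => ⟨a v, by rw [← hw]; exact haw v⟩⟩
  have h1 : (A : Matrix Z3 Z3 F) * (c.W (0, 1) * c.W (1, 0)) =
      c.χ 1 • ((A : Matrix Z3 Z3 F) * (c.W (1, 0) * c.W (0, 1))) := by
    rw [c.W_comm, Matrix.mul_smul]
    simp
  have e : ∀ u v, (A : Matrix Z3 Z3 F) * (c.W u * c.W v) =
      (a u * a v) • (c.W (w u) * c.W (w v) * (A : Matrix Z3 Z3 F)) := fun u v => by
    rw [← mul_assoc, haw u, Matrix.smul_mul, mul_assoc, haw v, Matrix.mul_smul, smul_smul, mul_assoc]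
  rw [e, e, c.W_comm (w (0, 1)), Matrix.smul_mul, smul_smul, smul_smul, W_mul, Matrix.smul_mul, smul_smul,
    smul_smul] at h1
  have hn : ∀ v, a v ≠ 0 := fun v => c.act_ne (haw v)
  have h2 := (c.act_cancel (mul_ne_zero (mul_ne_zero (mul_ne_zero (hn _) (hn _)) (c.χ_ne _)) (c.χ_ne _)) h1).2
  have h3 : c.χ ((w (0, 1)).2 * (w (1, 0)).1 - (w (0, 1)).1 * (w (1, 0)).2) = c.χ 1 := by
    refine mul_left_cancel₀ (mul_ne_zero (mul_ne_zero (hn (1, 0)) (hn (0, 1))) (c.χ_ne ((w (1, 0)).2 * (w (0, 1)).1))) ?_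
    linear_combination h2
  have h4 := c.χ_inj h3
  simp only [tdet, φ]
  linear_combination h4

theorem act_inv {A : GL Z3 F} {φ : Tw} (hA : c.Act A φ) (hd : tdet φ = 1) : c.Act A⁻¹ (tinv φ) := fun v => by
  obtain ⟨a, ha⟩ := hA (tap (tinv φ) v)
  rw [tap_tmul, (tinv_mul φ hd).2.1, tap_one] at ha
  refine ⟨a⁻¹, ?_⟩
  have := congrArg (fun X => ((A⁻¹ : GL Z3 F) : Matrix Z3 Z3 F) * X * ((A⁻¹ : GL Z3 F) : Matrix Z3 Z3 F)) ha
  simp only [Matrix.mul_smul, Matrix.smul_mul, mul_assoc, Units.mul_inv, mul_one] at this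
  rw [← mul_assoc, ← mul_assoc, Units.inv_mul, one_mul] at this
  rw [this, smul_smul, inv_mul_cancel₀ (c.act_ne ha), one_smul]

theorem act_W (u : Ph) : c.Act (c.WU u) tone := fun v => ⟨c.χ (u.2 * v.1 - u.1 * v.2), by
  rw [tap_one, WU_val, c.W_comm]⟩

/-- Trivial action means a multiple of a Weyl matrix. -/
theorem eq_smul_W {A : GL Z3 F} (h : c.Act A tone) : ∃ (a : F) (u : Ph), (A : Matrix Z3 Z3 F) = a • c.W u := by
  have key : ∀ v : Ph, c.W v * (c.W v * c.W v) = 1 := fun v => by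
    rw [W_mul, Matrix.mul_smul, W_mul, smul_smul, ← c.χ_add]
    have h3 : v + (v + v) = 0 := (show ∀ v : Ph, v + (v + v) = 0 by decide) v
    have h4 : v.2 * v.1 + v.2 * (v + v).1 = 0 := (show ∀ v : Ph, v.2 * v.1 + v.2 * (v + v).1 = 0 by decide) v
    rw [h3, h4, W_zero, χ_zero, one_smul]
  have hc : ∀ v, ∃ k, (A : Matrix Z3 Z3 F) * c.W v = c.χ k • (c.W v * (A : Matrix Z3 Z3 F)) := by
    intro v
    obtain ⟨a, ha⟩ := h v
    rw [tap_one] at ha
    have h3 : (A : Matrix Z3 Z3 F) * (c.W v * (c.W v * c.W v)) = a ^ 3 • (c.W v * (c.W v * c.W v) * (A : Matrix Z3 Z3 F)) := by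
      rw [← mul_assoc, ha, Matrix.smul_mul, mul_assoc, ← mul_assoc _ (c.W v), ha, Matrix.smul_mul, mul_assoc,
        ha, Matrix.mul_smul, Matrix.mul_smul, Matrix.mul_smul, smul_smul, smul_smul]
      simp only [mul_assoc]
      congr 1
      ring
    rw [key, mul_one, one_mul] at h3
    have h4 : a ^ 3 = 1 := by
      obtain ⟨x, y, hxy⟩ : ∃ x y, (A : Matrix Z3 Z3 F) x y ≠ 0 := by
        by_contra hne
        push Not at hne
        exact A.ne_zero (Matrix.ext hne)
      have := congrFun (congrFun h3 x) y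
      rw [Matrix.smul_apply, smul_eq_mul] at this
      exact (mul_eq_right₀ hxy).1 this.symm
    obtain ⟨k, rfl⟩ := c.exists_χ h4
    exact ⟨k, ha⟩
  obtain ⟨k, hk⟩ := hc (1, 0)
  obtain ⟨l, hl⟩ := hc (0, 1)
  let u : Ph := (-l, k)
  have hu : ∀ (v : Ph) (m : ZMod 3), (A : Matrix Z3 Z3 F) * c.W v = c.χ m • (c.W v * (A : Matrix Z3 Z3 F)) →
      m = u.2 * v.1 - u.1 * v.2 →
      ((c.WU u)⁻¹ * A : GL Z3 F).val * c.W v = c.W v * ((c.WU u)⁻¹ * A : GL Z3 F).val := by
    intro v m hA hm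
    have h1 : c.W v * ((c.WU u)⁻¹ : GL Z3 F).val = c.χ m • (((c.WU u)⁻¹ : GL Z3 F).val * c.W v) := by
      have h2 := c.W_comm u v
      rw [← hm] at h2
      have := congrArg (fun X => ((c.WU u)⁻¹ : GL Z3 F).val * X * ((c.WU u)⁻¹ : GL Z3 F).val) h2
      simp only [Matrix.mul_smul, Matrix.smul_mul, mul_assoc] at this
      rw [← WU_val c u, Units.mul_inv, mul_one, ← mul_assoc _ (c.WU u : Matrix Z3 Z3 F), Units.inv_mul, one_mul]
        at this
      exact this
    rw [Units.val_mul, mul_assoc, hA, Matrix.mul_smul, ← mul_assoc, ← mul_assoc, h1, Matrix.smul_mul]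
  have hs := c.scalar_of_comm (hu (1, 0) k hk (by simp [u])) (hu (0, 1) l hl (by simp [u]))
  refine ⟨((c.WU u)⁻¹ * A : GL Z3 F).val 0 0, u, ?_⟩
  have := congrArg (fun X => c.W u * X) hs
  rw [Units.val_mul, ← WU_val c u, ← mul_assoc, Units.mul_inv, one_mul, Matrix.mul_smul, mul_one, WU_val] at this
  exact this

end Ctx

end Cfsg.Agent.Heis12
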