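import Cfsg.Agent.Lib.Heis12UDefs
import Cfsg.Agent.Lib.Heis12Core

/-!
If some block of an element commuting with the clock does not normalise, the matrices acting on a single
row form a large group normalised by all the blocks.
-/

set_option autoImplicit false
set_option linter.unusedSectionVars false
set_option linter.style.haveILetI false
set_option synthInstance.maxSize 5000

namespace Cfsg.Agent.Heis12

open Matrix
open scoped MatrixGroups Kronecker commutatorElement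

variable {F : Type*} [Field F]

theorem u_blk_ri (i : Z3) (A : GL Z3 F) (p r : Z3) :
    blk (ri i A : Matrix Pt Pt F) p r = if p = r then (if p = i then (A : Matrix Z3 Z3 F) else 1) else 0 := by
  ext k l
  simp only [blk, Matrix.of_apply, ri_apply]
  split_ifs <;> simp_all [Matrix.one_apply]

theorem u_ri_det (i : Z3) (A : GL Z3 F) : (ri i A : Matrix Pt Pt F).det = (A : Matrix Z3 Z3 F).det := by
  have e : (ri i A : Matrix Pt Pt F) = (Matrix.blockDiagonal fun p : Z3 =>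
      if p = i then (A : Matrix Z3 Z3 F) else 1).submatrix (Equiv.prodComm Z3 Z3) (Equiv.prodComm Z3 Z3) := by
    ext ⟨p, k⟩ ⟨r, l⟩
    simp only [ri_apply, Matrix.submatrix_apply, Equiv.prodComm_apply, Prod.swap_prod_mk,
      Matrix.blockDiagonal_apply]
    split_ifs <;> simp_all [Matrix.one_apply]
  rw [e, Matrix.det_submatrix_equiv_self, Matrix.det_blockDiagonal]
  rw [Finset.prod_eq_single i (fun b _ hb => by simp [hb]) (by simp)]
  simp

/-- A block of a block diagonal isometry is an isometry. -/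
theorem u_blk_isometry {q : ℕ} (hq : q ≠ 0) {g : GL Pt F} (hg : g ∈ Un Pt F q) {i : Z3} {A : GL Z3 F}
    (hA : (A : Matrix Z3 Z3 F) = blk (g : Matrix Pt Pt F) i i)
    (hoff : ∀ p, p ≠ i → blk (g : Matrix Pt Pt F) p i = 0) : A ∈ Un Z3 F q := by
  refine mem_Un.2 fun u v => ?_
  let e : (Z3 → F) → Pt → F := fun a p => if p.1 = i then a p.2 else 0
  have he : ∀ a p, ((g : Matrix Pt Pt F) *ᵥ e a) p = e ((A : Matrix Z3 Z3 F) *ᵥ a) p := by
    rintro a ⟨p, k⟩
    simp only [Matrix.mulVec, dotProduct, Fintype.sum_prod_type, e]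
    rw [Finset.sum_eq_single i (fun b _ hb => by simp [hb]) (by simp)]
    simp only [if_true]
    by_cases hp : p = i
    · subst hp
      rw [if_pos rfl]
      exact Finset.sum_congr rfl fun l _ => by rw [hA]; rfl
    · rw [if_neg hp]
      refine Finset.sum_eq_zero fun l _ => ?_
      have := congrFun (congrFun (hoff p hp) k) l
      simp only [blk, Matrix.of_apply, Matrix.zero_apply] at this
      rw [this, zero_mul]
  have hsum : ∀ a b : Z3 → F, ∑ p, e a p * e b p ^ q = ∑ k, a k * b k ^ q := by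
    intro a b
    simp only [Fintype.sum_prod_type, e]
    rw [Finset.sum_eq_single i (fun p _ hp => by simp [hp]) (by simp)]
    simp
  have h := mem_Un.1 hg (e u) (e v)
  simp only [he, hsum] at h
  exact h

namespace Ctx

variable (c : Ctx F) {M : Subgroup (GL Pt F)}

/-- The group of matrices acting on the row `j` inside the overgroup. -/
def rowGrp (M : Subgroup (GL Pt F)) (j : Z3) : Subgroup (GL Z3 F) := M.comap (ri j)

theorem mem_rowGrp {j : Z3} {A : GL Z3 F} : A ∈ rowGrp M j ↔ ri j A ∈ M := Iff.rfl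

theorem ri_comm_D1 (j : Z3) (A : GL Z3 F) : ri j A * c.D1 = c.D1 * ri j A := Units.ext (blk_ext fun p r => by
  rw [Units.val_mul, Units.val_mul, blk_mul, blk_mul, D1, kr_val, Units.val_one, WU_val]
  simp only [blk_kr, u_blk_ri]
  rw [Finset.sum_eq_single r (fun b _ hb => by simp [W_apply, hb]) (by simp),
    Finset.sum_eq_single p (fun b _ hb => by simp [W_apply, hb.symm]) (by simp)]
  by_cases h : p = r
  · subst h
    simp [W_apply, Matrix.smul_mul, Matrix.mul_smul]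
  · simp [h])

theorem bh_ri {j : Z3} {A : GL Z3 F} (h : ri j A ∈ M) (p : Z3) :
    c.bh p (⟨ri j A, c.mem_LD.2 ⟨h, c.ri_comm_D1 j A⟩⟩ : c.LD M) = if p = j then A else 1 :=
  Units.ext (by rw [bh_val, u_blk_ri, if_pos rfl]; split_ifs <;> rfl)

theorem LD_ext {x y : c.LD M} (h : ∀ p, c.bh p x = c.bh p y) : x = y := by
  refine Subtype.ext (Units.ext (blk_ext fun p r => ?_))
  by_cases hpr : p = r
  · subst hpr
    rw [← bh_val, ← bh_val, h]
  · rw [c.comm_D1 (c.mem_LD.1 x.2).2 hpr, c.comm_D1 (c.mem_LD.1 y.2).2 hpr]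

/-- The shift carries the range of one block map to that of another. -/
theorem bh_range_shift (hM : c.Over M) {i0 i : Z3} {A : GL Z3 F} (hA : A ∈ (c.bh (M := M) i0).range) :
    A ∈ (c.bh (M := M) i).range := by
  obtain ⟨x, hx⟩ := hA
  let T : GL Pt F := kr (c.WU (i - i0, 0)) 1
  have hT : T ∈ M := c.kr_one_mem hM (c.nr_WU _) (by rw [WU_val, W_det, one_pow])
  have hx2 := (c.mem_LD.1 x.2).2
  have hblk : ∀ p q, blk ((T * (x : GL Pt F) * T⁻¹ : GL Pt F) : Matrix Pt Pt F) p q =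
      blk ((x : GL Pt F) : Matrix Pt Pt F) (p - (i - i0)) (q - (i - i0)) := by
    intro p q
    have e1 : ∀ (X : Matrix Pt Pt F) (q : Z3),
        blk ((T : Matrix Pt Pt F) * X) p q = blk X (p - (i - i0)) q := fun X q => by
      rw [blk_mul, Finset.sum_eq_single (p - (i - i0))]
      · simp [T, kr_val, blk_kr, W_apply, WU_val]
      · intro b _ hb
        have : p ≠ b + (i - i0) := fun e => hb (by rw [e]; ring)
        simp [T, kr_val, blk_kr, W_apply, WU_val, this]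
      · simp
    have e2 : ∀ X : Matrix Pt Pt F, ∀ r, blk X r (q - (i - i0)) = blk (X * ((T⁻¹ : GL Pt F) : Matrix Pt Pt F)) r q := by
      intro X r
      have h' : ∀ Y : Matrix Pt Pt F, blk (Y * (T : Matrix Pt Pt F)) r (q - (i - i0)) = blk Y r q := fun Y => by
        rw [blk_mul, Finset.sum_eq_single q]
        · simp [T, kr_val, blk_kr, W_apply, WU_val]
        · intro b _ hb
          simp [T, kr_val, blk_kr, W_apply, WU_val, hb]
        · simp
      conv_lhs => rw [show X = X * ((T⁻¹ : GL Pt F) : Matrix Pt Pt F) * (T : Matrix Pt Pt F) by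
        rw [mul_assoc, Units.inv_mul, mul_one]]
      exact h' _
    rw [Units.val_mul, Units.val_mul, ← e2, e1]
  have hcd : T * (x : GL Pt F) * T⁻¹ ∈ c.LD M := by
    refine c.mem_LD.2 ⟨M.mul_mem (M.mul_mem hT x.2.1) (M.inv_mem hT), Units.ext (blk_ext fun p q => ?_)⟩
    rw [Units.val_mul _ c.D1, Units.val_mul c.D1, blk_mul, blk_mul, D1, kr_val, Units.val_one, WU_val]
    simp only [blk_kr]
    rw [Finset.sum_eq_single q (fun b _ hb => by simp [W_apply, hb]) (by simp),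
      Finset.sum_eq_single p (fun b _ hb => by simp [W_apply, hb.symm]) (by simp)]
    by_cases hpq : p = q
    · subst hpq; simp [W_apply]
    · rw [hblk, c.comm_D1 hx2 (fun e => hpq (sub_left_injective e))]
      simp
  refine ⟨⟨_, hcd⟩, Units.ext ?_⟩
  rw [bh_val, hblk, show i - (i - i0) = i0 by ring, ← bh_val, hx]

theorem ctl_LD (hM : c.Over M) : c.ctl ∈ c.LD M := c.mem_LD.2 ⟨c.ctl_mem hM, Units.ext (by
  show Matrix.diagonal _ * ((c.WU (0, 1)).val ⊗ₖ (1 : Matrix Z3 Z3 F)) = _ * Matrix.diagonal _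
  ext p q
  rw [Matrix.diagonal_mul, Matrix.mul_diagonal]
  simp only [D1, kr_val, Matrix.kroneckerMap_apply, WU_val, W_apply, Units.val_one, add_zero, Matrix.one_apply]
  by_cases h1 : p.1 = q.1 <;> by_cases h2 : p.2 = q.2 <;> simp [h1, h2, mul_comm])⟩

/-- Every Weyl matrix occurs in one block of the kernel of another block, up to a scalar. -/
theorem ker_W (hM : c.Over M) {i j : Z3} (hji : j ≠ i) (v : Ph) (hv : v ≠ 0) :
    ∃ a ∈ (c.bh (M := M) i).ker.map (c.bh j), ∃ s : F, (a : Matrix Z3 Z3 F) = s • c.W v := by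
  let e : c.LD M := ⟨kr 1 (c.WU (0, -i)), c.kr_LD hM (c.nr_WU _) (by rw [WU_val, W_det, one_pow])⟩
  let k : c.LD M := e * ⟨c.ctl, c.ctl_LD hM⟩
  have hval : ∀ p, (c.bh p k : Matrix Z3 Z3 F) = c.W (0, p - i) := fun p => by
    rw [map_mul, Units.val_mul, bh_val, bh_val]
    simp only [e, kr_val, blk_kr, Units.val_one, Matrix.one_apply_eq, one_smul, blk_ctl, if_true, WU_val, W_mul]
    simp [Prod.mk_add_mk, neg_add_eq_sub]
  have hu : ((0, j - i) : Ph) ≠ 0 := fun h => sub_ne_zero.2 hji (congrArg Prod.snd h)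
  obtain ⟨φ, hd, hφ⟩ := (show ∀ u v : Ph, u ≠ 0 → v ≠ 0 → ∃ φ : Tw, tdet φ = 1 ∧ tap φ u = v by decide) _ v hu hv
  obtain ⟨B, hB, -, hBd⟩ := c.exists_word φ hd
  obtain ⟨s, hs⟩ := hB (0, j - i)
  rw [hφ] at hs
  let b : c.LD M := ⟨kr 1 B, c.kr_LD hM (c.act_nr hB) hBd⟩
  have hb : c.bh j b = B := c.bh_kr hM (c.act_nr hB) hBd j
  refine ⟨c.bh j (b * k * b⁻¹), Subgroup.mem_map_of_mem _ (MonoidHom.mem_ker.2 ?_), s, ?_⟩
  · have h1 : c.bh i k = 1 := Units.ext (by rw [hval, sub_self, Units.val_one]; exact c.W_zero)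
    rw [map_mul, map_mul, h1, mul_one, map_inv, mul_inv_cancel]
  · rw [map_mul, map_mul, map_inv, hb, Units.val_mul, Units.val_mul, hval, hs, Matrix.smul_mul, mul_assoc,
      Units.mul_inv, mul_one]

variable [Finite F]

/-- The group of a row when some block does not normalise. -/
theorem u_row {q : ℕ} (hq : q ≠ 0) (hM : c.Over M) (hU : M ≤ Un Pt F q) (hnB : ¬ c.BlockNr M) (j : Z3) :
    ∃ G : Subgroup (GL Z3 F), rowGrp M j ≤ SUo Z3 F q ∧ G ≤ Un Z3 F q ∧
      (∀ x ∈ Cfsg.Geo.specialLinear Z3 F, c.Nr1 x → x ∈ G) ∧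
      (∀ g ∈ G, ∀ x ∈ rowGrp M j, g * x * g⁻¹ ∈ rowGrp M j) ∧
      (∃ x ∈ rowGrp M j, ∀ a : F, (x : Matrix Z3 Z3 F) ≠ a • 1) ∧ ¬ ∀ g ∈ G, c.Nr1 g := by
  classical
  have hiso : ∀ (p : Z3) (x : c.LD M), c.bh p x ∈ Un Z3 F q := fun p x =>
    u_blk_isometry hq (hU x.2.1) (c.bh_val p x) fun r hr => c.comm_D1 (c.mem_LD.1 x.2).2 hr
  have hnr : ¬ ∀ g ∈ (c.bh (M := M) j).range, c.Nr1 g := by
    intro hall
    refine hnB fun g hg hD i => ⟨c.bh i ⟨g, c.mem_LD.2 ⟨hg, hD⟩⟩, c.bh_val _ _, ?_⟩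
    exact hall _ (c.bh_range_shift hM ⟨_, rfl⟩)
  refine ⟨(c.bh (M := M) j).range, ?_, ?_, ?_, ?_, ?_, hnr⟩
  · intro A hA
    refine Subgroup.mem_inf.2 ⟨?_, mem_sl.2 ?_⟩
    · have h := hiso j ⟨ri j A, c.mem_LD.2 ⟨hA, c.ri_comm_D1 j A⟩⟩
      rwa [c.bh_ri hA, if_pos rfl] at h
    · rw [← u_ri_det j]; exact mem_sl.1 (hM.1 hA)
  · rintro _ ⟨x, rfl⟩
    exact hiso j x
  · intro x hx hn
    exact ⟨_, c.bh_kr hM hn (by rw [mem_sl.1 hx, one_pow]) j⟩
  · rintro _ ⟨g, rfl⟩ x hx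
    set r : c.LD M := ⟨ri j x, c.mem_LD.2 ⟨hx, c.ri_comm_D1 j x⟩⟩ with hr
    have hmem : ((g * r * g⁻¹ : c.LD M) : GL Pt F) = ri j (c.bh j g * x * (c.bh j g)⁻¹) := by
      refine Units.ext (blk_ext fun p r' => ?_)
      rw [u_blk_ri]
      by_cases hpr : p = r'
      · subst hpr
        rw [← bh_val, map_mul, map_mul, map_inv, hr, c.bh_ri hx, if_pos rfl]
        by_cases hp : p = j
        · subst hp; rw [if_pos rfl, if_pos rfl]
        · rw [if_neg hp, if_neg hp, mul_one, mul_inv_cancel, Units.val_one]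
      · rw [if_neg hpr, c.comm_D1 (c.mem_LD.1 (g * r * g⁻¹ : c.LD M).2).2 hpr]
    rw [mem_rowGrp, ← hmem]
    exact (g * r * g⁻¹ : c.LD M).2.1
  by_contra hsc
  push Not at hsc
  obtain ⟨i, k, hji, hjk, hik, hcov⟩ :
      ∃ i k : Z3, j ≠ i ∧ j ≠ k ∧ i ≠ k ∧ ∀ z, z = j ∨ z = i ∨ z = k :=
    (show ∀ j : ZMod 3, ∃ i k, j ≠ i ∧ j ≠ k ∧ i ≠ k ∧ ∀ z, z = j ∨ z = i ∨ z = k by decide) j
  -- the two kernel images commute up to scalars, so one of them consists of Weyl matrices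
  have hcomm : ∀ a ∈ (c.bh (M := M) i).ker.map (c.bh j), ∀ b ∈ (c.bh (M := M) k).ker.map (c.bh j),
      ∃ t : F, (⁅a, b⁆ : GL Z3 F).val = t • 1 := by
    rintro _ ⟨x, hx, rfl⟩ _ ⟨y, hy, rfl⟩
    refine hsc _ ?_
    have e : ((⁅x, y⁆ : c.LD M) : GL Pt F) = ri j ⁅c.bh j x, c.bh j y⁆ := by
      refine Units.ext (blk_ext fun p r => ?_)
      rw [u_blk_ri]
      by_cases hpr : p = r
      · subst hpr
        rw [← bh_val, map_commutatorElement, if_pos rfl]
        rcases hcov p with rfl | rfl | rfl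
        · rw [if_pos rfl]
        · rw [MonoidHom.mem_ker.1 hx, commutatorElement_one_left, if_neg hji.symm, Units.val_one]
        · rw [MonoidHom.mem_ker.1 hy, commutatorElement_one_right, if_neg hjk.symm, Units.val_one]
      · rw [if_neg hpr, c.comm_D1 (c.mem_LD.1 (⁅x, y⁆ : c.LD M).2).2 hpr]
    rw [mem_rowGrp, ← e]
    exact (⁅x, y⁆ : c.LD M).2.1
  have hKk : ∀ b ∈ (c.bh (M := M) k).ker.map (c.bh j), ∃ (s : F) (u : Ph), (b : Matrix Z3 Z3 F) = s • c.W u := by
    intro b hb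
    refine c.eq_smul_W fun v => ?_
    rw [tap_one]
    by_cases hv : v = 0
    · subst hv; exact ⟨1, by rw [c.W_zero, one_smul, mul_one, one_mul]⟩
    obtain ⟨a, ha, s, hs⟩ := c.ker_W hM hji v hv
    obtain ⟨t, ht⟩ := hcomm a ha b hb
    have hs0 : s ≠ 0 := fun h => a.ne_zero (by rw [hs, h, zero_smul])
    have ht0 : t ≠ 0 := fun h => (⁅a, b⁆ : GL Z3 F).ne_zero (by rw [ht, h, zero_smul])
    have e : (a * b : GL Z3 F).val = t • (b * a : GL Z3 F).val := by
      rw [show a * b = ⁅a, b⁆ * (b * a) by rw [commutatorElement_def]; group, Units.val_mul ⁅a, b⁆, ht,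
        Matrix.smul_mul, one_mul]
    rw [Units.val_mul, Units.val_mul, hs, Matrix.smul_mul, Matrix.mul_smul, smul_comm] at e
    refine ⟨t⁻¹, ?_⟩
    rw [smul_right_injective _ hs0 e, smul_smul, inv_mul_cancel₀ ht0, one_smul]
  -- so every block normalises
  refine hnr ?_
  rintro _ ⟨g, rfl⟩ v
  by_cases hv : v = 0
  · subst hv; exact ⟨1, 0, by rw [c.W_zero, one_smul, mul_one, one_mul]⟩
  obtain ⟨_, ⟨y, hy, rfl⟩, s, hs⟩ := c.ker_W hM hjk v hv
  have hs0 : s ≠ 0 := fun h => (c.bh j y).ne_zero (by rw [hs, h, zero_smul])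
  obtain ⟨s', u, hu⟩ := hKk (c.bh j (g * y * g⁻¹)) (Subgroup.mem_map_of_mem _ (by
    rw [MonoidHom.mem_ker, map_mul, map_mul, MonoidHom.mem_ker.1 hy, mul_one, map_inv, mul_inv_cancel]))
  refine ⟨s⁻¹ * s', u, ?_⟩
  rw [map_mul, map_mul, map_inv, Units.val_mul, Units.val_mul, hs] at hu
  have := congrArg (fun X => X * (c.bh j g : Matrix Z3 Z3 F)) hu
  simp only [mul_assoc, Units.inv_mul, mul_one, Matrix.mul_smul, Matrix.smul_mul] at this
  rw [← smul_smul, ← this, smul_smul, inv_mul_cancel₀ hs0, one_smul]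

end Ctx

end Cfsg.Agent.Heis12
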