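import Cfsg.Agent.Lib.Heis12UDefs

/-!
An element scalar on both eigenspaces of the product of the two central involutions, with ratio of
order four, contradicts the block property: a threefold commutator with diagonal Weyl matrices lives
on a single pair of opposite points.
-/

set_option autoImplicit false
set_option linter.unusedSectionVars false

namespace Cfsg.Agent.Heis12

open Matrix
open scoped MatrixGroups Kronecker commutatorElement

variable {F : Type*} [Field F]

/-- A matrix supported on pairs of opposite points. -/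
def pr (d e : Pt → F) : Matrix Pt Pt F :=
  Matrix.of fun p r => (if p = r then d p else 0) + (if p = -r then e p else 0)

theorem pr_apply (d e : Pt → F) (p r : Pt) :
    pr d e p r = (if p = r then d p else 0) + (if p = -r then e p else 0) := rfl

theorem pr_mul (d e d' e' : Pt → F) :
    pr d e * pr d' e' = pr (fun p => d p * d' p + e p * e' (-p)) (fun p => d p * e' p + e p * d' (-p)) := by
  ext p r
  have hsum : ∀ f : Pt → F, ∑ x, pr d e p x * f x = d p * f p + e p * f (-p) := by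
    intro f
    have hn : ∀ x : Pt, (p = -x) ↔ (-p = x) := fun x => neg_eq_iff_eq_neg.symm
    simp only [pr_apply, add_mul, ite_mul, zero_mul, Finset.sum_add_distrib, hn, Finset.sum_ite_eq,
      Finset.mem_univ, if_true]
  rw [Matrix.mul_apply, hsum]
  simp only [pr_apply, neg_inj, neg_eq_iff_eq_neg, neg_neg, mul_add, add_mul, mul_ite, mul_zero]
  split_ifs <;> ring

theorem pr_one : pr (fun _ => (1 : F)) (fun _ => 0) = 1 := by
  ext p r
  simp [pr_apply, Matrix.one_apply]

namespace Ctx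

variable (c : Ctx F)

/-- A linear phase. -/
def ph (b : Pt) (p : Pt) : F := c.χ (b.1 * p.1 + b.2 * p.2)

theorem ph_neg (b p : Pt) : c.ph b (-p) = c.χ (-(b.1 * p.1 + b.2 * p.2)) := by
  rw [ph, Prod.fst_neg, Prod.snd_neg, mul_neg, mul_neg, ← neg_add]

theorem W2_diag (b : Pt) : c.W2 ((0, b.1), (0, b.2)) = pr (c.ph b) (fun _ => 0) := by
  ext p r
  rw [W2_apply, pr_apply, ite_self, add_zero, add_zero, add_zero]
  by_cases h : p = r
  · subst h; simp [ph]
  · simp [h]

/-- A Weyl matrix inverse. -/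
theorem WU2_diag_inv (b : Pt) :
    ((c.WU2 ((0, b.1), (0, b.2)))⁻¹ : GL Pt F).val = pr (fun p => c.ph b (-p)) (fun _ => 0) := by
  have h : (c.WU2 ((0, b.1), (0, b.2)) : Matrix Pt Pt F) * pr (fun p => c.ph b (-p)) (fun _ => 0) = 1 := by
    rw [WU2_val, W2_diag, pr_mul, ← pr_one]
    congr 1
    · funext p
      rw [ph_neg, ph, ← c.χ_add, add_neg_cancel, c.χ_zero]
      simp
    · funext p; simp
  calc ((c.WU2 ((0, b.1), (0, b.2)))⁻¹ : GL Pt F).val
      = ((c.WU2 ((0, b.1), (0, b.2)))⁻¹ : GL Pt F).val * (_ * _) := by rw [h, mul_one]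
    _ = _ := by rw [← mul_assoc, Units.inv_mul, one_mul]

/-- The commutator of an element supported on pairs with a diagonal Weyl matrix. -/
theorem comm_diag {g : GL Pt F} {d e : Pt → F} (hg : (g : Matrix Pt Pt F) = pr d e)
    (hgi : ((g⁻¹ : GL Pt F) : Matrix Pt Pt F) = pr (fun p => d (-p)) (fun p => -e p)) (b : Pt) :
    (⁅g, c.WU2 ((0, b.1), (0, b.2))⁆ : GL Pt F).val =
        pr (fun p => d p * d (-p) - e p * e (-p) * (c.ph b (-p) * c.ph b (-p)))
          (fun p => d p * e p * (c.ph b (-p) * c.ph b p - c.ph b p * c.ph b p)) ∧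
      ((⁅g, c.WU2 ((0, b.1), (0, b.2))⁆⁻¹ : GL Pt F)).val =
        pr (fun p => d p * d (-p) - e p * e (-p) * (c.ph b p * c.ph b p))
          (fun p => -(d p * e p * (c.ph b (-p) * c.ph b p - c.ph b p * c.ph b p))) := by
  have h1 : ∀ p, c.ph b p * c.ph b (-p) = 1 := fun p => by
    rw [ph_neg, ph, ← c.χ_add, add_neg_cancel, c.χ_zero]
  constructor
  · rw [commutatorElement_def, Units.val_mul, Units.val_mul, Units.val_mul, hg, hgi, WU2_val, W2_diag,
      WU2_diag_inv, pr_mul, pr_mul, pr_mul]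
    congr 1
    · funext p
      simp only [mul_zero, add_zero, zero_add, neg_neg]
      linear_combination (d p * d (-p)) * h1 p
    · funext p
      simp only [mul_zero, add_zero, zero_add, neg_neg]
      ring
  · rw [commutatorElement_inv, commutatorElement_def, Units.val_mul, Units.val_mul, Units.val_mul, hg, hgi,
      WU2_val, W2_diag, WU2_diag_inv, pr_mul, pr_mul, pr_mul]
    congr 1
    · funext p
      simp only [mul_zero, add_zero, zero_add, neg_neg, zero_mul]
      linear_combination (d p * d (-p)) * h1 p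
    · funext p
      simp only [mul_zero, add_zero, zero_add, neg_neg, zero_mul]
      linear_combination (d p * e p) * (h1 p) - (d p * e p) * h1 p

/-- Normalising matrices fixing the origin are not of the shape met here. -/
theorem not_nr_fix {A : GL Z3 F} (hdet : (A : Matrix Z3 Z3 F) 1 1 * (A : Matrix Z3 Z3 F) 2 2 -
      (A : Matrix Z3 Z3 F) 1 2 * (A : Matrix Z3 Z3 F) 2 1 = 1)
    (h00 : (A : Matrix Z3 Z3 F) 0 0 = 1) (h10 : (A : Matrix Z3 Z3 F) 1 0 = 0) (h20 : (A : Matrix Z3 Z3 F) 2 0 = 0)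
    (h01 : (A : Matrix Z3 Z3 F) 0 1 = 0) (h02 : (A : Matrix Z3 Z3 F) 0 2 = 0)
    (h12 : (A : Matrix Z3 Z3 F) 1 2 ≠ 0) : ¬ c.Nr1 A := by
  intro hn
  have hz : ∀ x : Z3, x = 0 ∨ x = 1 ∨ x = 2 := by decide
  have hL : ∀ (v : Ph) (x y : Z3), ((A : Matrix Z3 Z3 F) * c.W v) x y =
      (A : Matrix Z3 Z3 F) x (y + v.1) * c.χ (v.2 * y) := fun v x y => by
    rw [Matrix.mul_apply, Finset.sum_eq_single (y + v.1) (fun b _ hb => by simp [W_apply, hb]) (by simp)]
    simp [W_apply]
  have hR : ∀ (v : Ph) (x y : Z3), (c.W v * (A : Matrix Z3 Z3 F)) x y =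
      c.χ (v.2 * (x - v.1)) * (A : Matrix Z3 Z3 F) (x - v.1) y := fun v x y => by
    rw [Matrix.mul_apply, Finset.sum_eq_single (x - v.1) (fun b _ hb => by
      rw [W_apply, if_neg (fun e => hb (by rw [e, add_sub_cancel_right])), zero_mul]) (by simp)]
    rw [W_apply, if_pos (sub_add_cancel _ _).symm]
  obtain ⟨a, ⟨w1, w2⟩, hw⟩ := hn (0, 1)
  have E := fun x y => congrFun (congrFun hw x) y
  simp only [Matrix.smul_apply, smul_eq_mul, hL, hR, add_zero, one_mul] at E
  have hw1 : w1 = 0 := by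
    by_contra hne
    have e := E 0 0
    rw [h00] at e
    rcases hz w1 with rfl | rfl | rfl
    · exact hne rfl
    · simp [show (0 : Z3) - 1 = 2 by decide, h20] at e
    · simp [show (0 : Z3) - 2 = 1 by decide, h10] at e
  subst hw1
  have ha : a = 1 := by simpa [h00] using (E 0 0).symm
  subst ha
  simp only [one_mul, sub_zero] at E
  have hw2 : w2 = 2 := by
    have e := E 1 2
    rw [mul_one, mul_comm] at e
    exact (c.χ_inj (mul_right_cancel₀ h12 e)).symm
  subst hw2
  have h11 : (A : Matrix Z3 Z3 F) 1 1 = 0 := by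
    by_contra hne
    have e := E 1 1
    rw [mul_one, mul_comm] at e
    exact absurd (c.χ_inj (mul_right_cancel₀ hne e)) (by decide)
  obtain ⟨b, ⟨u1, u2⟩, hu⟩ := hn (1, 0)
  have G := fun x y => congrFun (congrFun hu x) y
  simp only [Matrix.smul_apply, smul_eq_mul, hL, hR, zero_mul, c.χ_zero, mul_one] at G
  have h21 : (A : Matrix Z3 Z3 F) 2 1 ≠ 0 := fun h => by
    rw [h11, h, zero_mul, mul_zero, sub_zero] at hdet
    exact zero_ne_one hdet
  have hu1 : u1 = 2 := by
    by_contra hne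
    have e := G 2 0
    rw [zero_add] at e
    rcases hz u1 with rfl | rfl | rfl
    · exact h21 (by simpa [h20] using e)
    · exact h21 (by simpa [show (2 : Z3) - 1 = 1 by decide, h10] using e)
    · exact hne rfl
  subst hu1
  have g1 : (A : Matrix Z3 Z3 F) 2 1 = b := by simpa [h00] using G 2 0
  have g2 : (A : Matrix Z3 Z3 F) 1 2 = b * (c.χ (u2 * 2) * (A : Matrix Z3 Z3 F) 2 1) := by
    simpa [show (1 : Z3) + 1 = 2 by decide, show (1 : Z3) - 2 = 2 by decide] using G 1 1
  have g3 : 1 = b * (c.χ u2 * (A : Matrix Z3 Z3 F) 1 2) := by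
    simpa [show (2 : Z3) + 1 = 0 by decide, show (0 : Z3) - 2 = 1 by decide, h00] using G 0 2
  have hb : b ^ 3 = 1 := by
    rw [g2, g1] at g3
    have : c.χ u2 * c.χ (u2 * 2) = 1 := by
      rw [← c.χ_add, show u2 + u2 * 2 = 0 from (show ∀ z : Z3, z + z * 2 = 0 by decide) u2, c.χ_zero]
    linear_combination -g3 - b ^ 3 * this
  rw [h11, zero_mul, g1, g2, g1] at hdet
  have hk := c.χ_cube (u2 * 2)
  have h2 : (2 : F) = 0 := by
    have e : c.χ (u2 * 2) * b ^ 3 = -1 := by linear_combination -hdet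
    rw [hb, mul_one] at e
    rw [e] at hk
    linear_combination -hk
  exact c.two h2

/-- The element with ratio of order four contradicts the block property. -/
theorem rho_false (h7 : (7 : F) ≠ 0) {M : Subgroup (GL Pt F)} (hB : c.BlockNr M)
    (hW : ∀ v, c.WU2 v ∈ M) {g : GL Pt F} (hg : g ∈ M) {ρ l : F} (hρ : ρ * ρ = -1)
    (hgv : (g : Matrix Pt Pt F) = l • pr (fun _ => (1 + ρ) / 2) (fun _ => (1 - ρ) / 2)) : False := by
  have two := c.two
  obtain ⟨α, hα⟩ : ∃ a : F, a = (1 + ρ) / 2 := ⟨_, rfl⟩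
  obtain ⟨β, hβ⟩ : ∃ a : F, a = (1 - ρ) / 2 := ⟨_, rfl⟩
  rw [← hα, ← hβ] at hgv
  have hαβ : 2 * (α * β) = 1 := by rw [hα, hβ]; field_simp; linear_combination -hρ
  have hα2 : 2 * (α * α) = ρ := by rw [hα]; field_simp; linear_combination hρ
  have hsq : α * α + β * β = 0 := by rw [hα, hβ]; field_simp; linear_combination 2 * hρ
  let g0 : GL Pt F := ⟨pr (fun _ => α) (fun _ => β), pr (fun _ => β) (fun _ => α), by
      rw [pr_mul, ← pr_one]
      congr 1 <;> funext p
      · linear_combination hαβ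
      · exact hsq, by
      rw [pr_mul, ← pr_one]
      congr 1 <;> funext p
      · linear_combination hαβ
      · linear_combination hsq⟩
  have hcomm : ∀ D : GL Pt F, ⁅g, D⁆ = ⁅g0, D⁆ := by
    intro D
    have hl : l ≠ 0 := fun h => g.ne_zero (by rw [hgv, h, zero_smul])
    let sc : GL Pt F := Units.map (Matrix.scalar Pt : F →+* _).toMonoidHom (Units.mk0 l hl)
    have hs : g = sc * g0 := Units.ext (by
      rw [hgv, Units.val_mul, show (g0 : Matrix Pt Pt F) = pr (fun _ => α) (fun _ => β) from rfl]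
      simp [sc, ← Matrix.smul_one_eq_diagonal])
    have hc : ∀ X : GL Pt F, sc * X = X * sc := fun X => Units.ext (by
      simp [sc, ← Matrix.smul_one_eq_diagonal])
    rw [hs, commutatorElement_def, commutatorElement_def, _root_.mul_inv_rev]
    calc sc * g0 * D * (g0⁻¹ * sc⁻¹) * D⁻¹ = sc * (g0 * D * g0⁻¹) * sc⁻¹ * D⁻¹ := by group
      _ = g0 * D * g0⁻¹ * D⁻¹ := by rw [hc (g0 * D * g0⁻¹), mul_inv_cancel_right]
  let D : Pt → GL Pt F := fun b => c.WU2 ((0, b.1), (0, b.2))
  let u : Pt := (0, 1)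
  let v : Pt := (1, 2)
  let w : Pt := (1, 1)
  obtain ⟨x, hx⟩ : ∃ x : Pt → F, ∀ p, x p = c.ph u p := ⟨_, fun _ => rfl⟩
  have h1 : ∀ (b p : Pt), c.ph b p * c.ph b (-p) = 1 := fun b p => by
    rw [ph_neg, ph, ← c.χ_add, add_neg_cancel, c.χ_zero]
  obtain ⟨d1, hd1⟩ : ∃ f : Pt → F, ∀ p, f p = α * β * (1 + x (-p) * x (-p)) := ⟨_, fun _ => rfl⟩
  obtain ⟨e1, he1⟩ : ∃ f : Pt → F, ∀ p, f p = α * α * (x p * x p) + β * β := ⟨_, fun _ => rfl⟩
  have hd1n : ∀ p, d1 (-p) = α * β * (1 + x p * x p) := fun p => by simp [hd1]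
  have c1 : (⁅g, D u⁆ : GL Pt F).val = pr d1 e1 := by
    rw [hcomm, commutatorElement_def, Units.val_mul, Units.val_mul, Units.val_mul, c.WU2_val, c.W2_diag,
      WU2_diag_inv, show (g0 : Matrix Pt Pt F) = pr (fun _ => α) (fun _ => β) from rfl,
      show ((g0⁻¹ : GL Pt F) : Matrix Pt Pt F) = pr (fun _ => β) (fun _ => α) from rfl, pr_mul, pr_mul, pr_mul]
    congr 1
    · funext p
      simp only [mul_zero, add_zero, zero_add, hd1, hx, neg_neg]
      linear_combination (α * β) * h1 u p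
    · funext p
      simp only [mul_zero, add_zero, zero_add, he1, hx, neg_neg]
      linear_combination (β * β) * h1 u p
  have c1i : ((⁅g, D u⁆⁻¹ : GL Pt F)).val = pr (fun p => d1 (-p)) (fun p => -e1 p) := by
    rw [hcomm, commutatorElement_inv, commutatorElement_def, Units.val_mul, Units.val_mul, Units.val_mul, c.WU2_val,
      c.W2_diag, WU2_diag_inv, show (g0 : Matrix Pt Pt F) = pr (fun _ => α) (fun _ => β) from rfl,
      show ((g0⁻¹ : GL Pt F) : Matrix Pt Pt F) = pr (fun _ => β) (fun _ => α) from rfl, pr_mul, pr_mul, pr_mul]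
    congr 1
    · funext p
      simp only [mul_zero, add_zero, zero_add, zero_mul, hd1n, hx, neg_neg]
      linear_combination (α * β) * h1 u p
    · funext p
      simp only [mul_zero, add_zero, zero_add, zero_mul, he1, hx, neg_neg]
      linear_combination (α * α) * h1 u p + (1 + c.ph u p * c.ph u p) * hsq
  obtain ⟨d2, hd2⟩ : ∃ f : Pt → F, ∀ p, f p = d1 p * d1 (-p) - e1 p * e1 (-p) * (c.ph v (-p) * c.ph v (-p)) :=
    ⟨_, fun _ => rfl⟩
  obtain ⟨e2, he2⟩ : ∃ f : Pt → F, ∀ p, f p = d1 p * e1 p * (c.ph v (-p) * c.ph v p - c.ph v p * c.ph v p) :=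
    ⟨_, fun _ => rfl⟩
  have hd2n : ∀ p, d2 (-p) = d1 p * d1 (-p) - e1 p * e1 (-p) * (c.ph v p * c.ph v p) := fun p => by
    simp only [hd2, neg_neg]; ring
  obtain ⟨c2, c2i⟩ := c.comm_diag c1 c1i v
  rw [show (fun p => d1 p * d1 (-p) - e1 p * e1 (-p) * (c.ph v (-p) * c.ph v (-p))) = d2 from
    funext fun p => (hd2 p).symm, show (fun p => d1 p * e1 p * (c.ph v (-p) * c.ph v p - c.ph v p * c.ph v p)) = e2 from
    funext fun p => (he2 p).symm] at c2
  rw [show (fun p => -(d1 p * e1 p * (c.ph v (-p) * c.ph v p - c.ph v p * c.ph v p))) = fun p => -e2 p from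
    funext fun p => by rw [he2]] at c2i
  rw [show (fun p => d1 p * d1 (-p) - e1 p * e1 (-p) * (c.ph v p * c.ph v p)) = fun p => d2 (-p) from
    funext fun p => (hd2n p).symm] at c2i
  obtain ⟨c3, -⟩ := c.comm_diag c2 c2i w
  obtain ⟨d3, hd3⟩ : ∃ f : Pt → F, ∀ p, f p = d2 p * d2 (-p) - e2 p * e2 (-p) * (c.ph w (-p) * c.ph w (-p)) :=
    ⟨_, fun _ => rfl⟩
  obtain ⟨e3, he3⟩ : ∃ f : Pt → F, ∀ p, f p = d2 p * e2 p * (c.ph w (-p) * c.ph w p - c.ph w p * c.ph w p) :=
    ⟨_, fun _ => rfl⟩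
  obtain ⟨h, hh⟩ : ∃ h : GL Pt F, h = ⁅⁅⁅g, D u⁆, D v⁆, D w⁆ := ⟨_, rfl⟩
  have hhv : (h : Matrix Pt Pt F) = pr d3 e3 := by
    rw [hh, funext hd3, funext he3]; exact c3
  have cm : ∀ {a b : GL Pt F}, a ∈ M → b ∈ M → ⁅a, b⁆ ∈ M := fun {a b} ha hb => by
    rw [commutatorElement_def]
    exact M.mul_mem (M.mul_mem (M.mul_mem ha hb) (M.inv_mem ha)) (M.inv_mem hb)
  have hhM : h ∈ M := hh ▸ cm (cm (cm hg (hW _)) (hW _)) (hW _)
  -- only the pair on the second axis is moved
  have hzero : ∀ p : Pt, p.1 ≠ 0 → e3 p = 0 := by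
    intro p hp
    rcases (show ∀ p : Pt, p.1 ≠ 0 → ((0 * p.1 + 1 * p.2 = 0 ∨ 1 * p.1 + 2 * p.2 = 0) ∨ 1 * p.1 + 1 * p.2 = 0) by
      decide) p hp with (e | e) | e
    · have h0 : e1 p = 0 := by
        rw [he1, hx, ph]
        simp only [u]
        rw [e, c.χ_zero, mul_one, mul_one]
        exact hsq
      rw [he3, he2, h0]; ring
    · have a : c.ph v p = 1 := by rw [ph]; simp only [v]; rw [e, c.χ_zero]
      have b : c.ph v (-p) = 1 := by rw [ph_neg]; simp only [v]; rw [e, neg_zero, c.χ_zero]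
      rw [he3, he2, a, b]; ring
    · have a : c.ph w p = 1 := by rw [ph]; simp only [w]; rw [e, c.χ_zero]
      have b : c.ph w (-p) = 1 := by rw [ph_neg]; simp only [w]; rw [e, neg_zero, c.χ_zero]
      rw [he3, a, b]; ring
  have hD1 : c.D1 = c.WU2 ((0, 1), (0, 0)) := Units.ext (by
    rw [D1, kr_val, WU2_val, W2, Units.val_one, show ((0, 0) : Ph) = 0 from rfl, W_zero, WU_val])
  have hcD : h * c.D1 = c.D1 * h := Units.ext (by
    rw [hD1, Units.val_mul, Units.val_mul, c.WU2_val, c.W2_diag ((1, 0) : Pt), hhv, pr_mul, pr_mul]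
    congr 1
    · funext p; simp [mul_comm]
    · funext p
      simp only [mul_zero, zero_mul, add_zero, zero_add]
      by_cases hp : p.1 = 0
      · simp [ph, hp, mul_comm]
      · simp [hzero p hp])
  obtain ⟨A, hA, hn⟩ := hB h hhM hcD 0
  rw [hhv] at hA
  have ent : ∀ k l : Z3, (A : Matrix Z3 Z3 F) k l =
      (if k = l then d3 (0, k) else 0) + (if k = -l then e3 (0, k) else 0) := fun k l => by
    rw [hA]; simp [blk, pr_apply, Prod.ext_iff]
  have n1 : -(1 : Z3) = 2 := rfl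
  have n2 : -(2 : Z3) = 1 := rfl
  have p0 : -((0 : Z3), (0 : Z3)) = (0, 0) := rfl
  have p1 : -((0 : Z3), (1 : Z3)) = (0, 2) := rfl
  have p2 : -((0 : Z3), (2 : Z3)) = (0, 1) := rfl
  have t1 : (2 : Z3) * 2 = 1 := rfl
  have w3 := c.cube
  have ws := c.sum_eq
  have xu0 : x (0, 0) = 1 := by simp [hx, ph, u]
  have e10 : e1 (0, 0) = 0 := by simp only [he1, xu0, mul_one]; exact hsq
  have d10 : d1 (0, 0) = 1 := by simp only [hd1, p0, xu0, mul_one]; linear_combination hαβ
  have d20 : d2 (0, 0) = 1 := by simp [hd2, p0, e10, d10]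
  have e20 : e2 (0, 0) = 0 := by simp [he2, e10]
  have e30 : e3 (0, 0) = 0 := by simp [he3, e20]
  have d30 : d3 (0, 0) = 1 := by simp [hd3, p0, e20, d20]
  -- the determinant of the pair
  have det1 : ∀ p, d1 p * d1 (-p) - e1 p * e1 (-p) = 1 := fun p => by
    simp only [hd1, he1, neg_neg, hx]
    linear_combination ((α * β * α * β - α * α * α * α) * (c.ph u p * c.ph u (-p) + 1)) * h1 u p +
      (2 * (α * β) + 1) * hαβ - (α * α + β * β) * hsq
  have det2 : ∀ p, d2 p * d2 (-p) - e2 p * e2 (-p) = 1 := fun p => by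
    simp only [hd2, he2, neg_neg]
    linear_combination (d1 p * d1 (-p) - e1 p * e1 (-p) + 1) * det1 p +
      ((e1 p * e1 (-p) * (e1 p * e1 (-p)) - 2 * (d1 p * d1 (-p)) * (e1 p * e1 (-p))) *
        (c.ph v p * c.ph v (-p) + 1) + (d1 p * d1 (-p)) * (e1 p * e1 (-p)) *
          (c.ph v p * c.ph v p + c.ph v (-p) * c.ph v (-p))) * h1 v p
  have det3 : ∀ p, d3 p * d3 (-p) - e3 p * e3 (-p) = 1 := fun p => by
    simp only [hd3, he3, neg_neg]
    linear_combination (d2 p * d2 (-p) - e2 p * e2 (-p) + 1) * det2 p +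
      ((e2 p * e2 (-p) * (e2 p * e2 (-p)) - 2 * (d2 p * d2 (-p)) * (e2 p * e2 (-p))) *
        (c.ph w p * c.ph w (-p) + 1) + (d2 p * d2 (-p)) * (e2 p * e2 (-p)) *
          (c.ph w p * c.ph w p + c.ph w (-p) * c.ph w (-p))) * h1 w p
  refine c.not_nr_fix ?_ ?_ ?_ ?_ ?_ ?_ ?_ hn
  · have := det3 (0, 1)
    rw [p1] at this
    simpa +decide [ent, n1, n2] using this
  · simpa [ent, e30] using d30
  · simp +decide [ent, n1]
  · simp +decide [ent, n2]
  · simp +decide [ent]
  · simp +decide [ent]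
  · have ne : c.ω ^ 2 - 1 ≠ 0 := fun e => c.ne_one (by linear_combination w3 - c.ω * e)
    have x1 : x (0, 1) = c.ω := by simp [hx, ph, u, c.χ_one]
    have x2 : x (0, 2) = c.ω ^ 2 := by simp [hx, ph, u, c.χ_two]
    have v1 : c.ph v (0, 1) = c.ω ^ 2 := by simp [ph, v, c.χ_two]
    have v2 : c.ph v (0, 2) = c.ω := by simp [ph, v, t1, c.χ_one]
    have q1 : c.ph w (0, 1) = c.ω := by simp [ph, w, c.χ_one]
    have q2 : c.ph w (0, 2) = c.ω ^ 2 := by simp [ph, w, c.χ_two]
    have f1 : 2 * e1 (0, 1) = ρ * (c.ω ^ 2 - 1) := by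
      simp only [he1, x1]
      linear_combination (c.ω ^ 2 - 1) * hα2 + 2 * hsq
    have g1 : 2 * d1 (0, 1) = 1 + c.ω := by
      simp only [hd1, p1, x2]
      linear_combination (1 + c.ω ^ 2 * c.ω ^ 2) * hαβ + c.ω * w3
    have f1' : 2 * e1 (0, 2) = ρ * (c.ω - 1) := by
      simp only [he1, x2]
      linear_combination (c.ω ^ 2 * c.ω ^ 2 - 1) * hα2 + 2 * hsq + ρ * c.ω * w3
    have g1' : 2 * d1 (0, 2) = 1 + c.ω ^ 2 := by
      simp only [hd1, p2, x1]
      linear_combination (1 + c.ω * c.ω) * hαβ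
    have g2 : 4 * d2 (0, 1) = 1 + 3 * c.ω ^ 2 := by
      have ee : 4 * (d1 (0, 1) * d1 (0, 2)) = 1 := by
        linear_combination (2 * d1 (0, 2)) * g1 + (1 + c.ω) * g1' + ws + w3 - 0 * w3
      have ff : 4 * (e1 (0, 1) * e1 (0, 2)) = -3 := by
        linear_combination (2 * e1 (0, 2)) * f1 + ρ * (c.ω ^ 2 - 1) * f1' +
          (c.ω ^ 2 - 1) * (c.ω - 1) * hρ - w3 + ws
      simp only [hd2, p1, v2]
      linear_combination ee - (c.ω * c.ω) * ff
    have n7 : 4 * d2 (0, 1) ≠ 0 := by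
      rw [g2]
      intro e
      exact h7 (by linear_combination (1 + 3 * c.ω) * e - 3 * ws - 9 * w3)
    have n1' : 2 * d1 (0, 1) ≠ 0 := by
      rw [g1]
      intro e
      have h0 : c.ω ^ 2 = 0 := by linear_combination ws - e
      have : (1 : F) = 0 := by linear_combination c.ω * h0 - w3
      exact one_ne_zero this
    have m1 : 2 * e1 (0, 1) ≠ 0 := by
      rw [f1]
      exact mul_ne_zero (fun e => by rw [e] at hρ; simp at hρ) ne
    have fv : c.ph v (0, 2) * c.ph v (0, 1) - c.ph v (0, 1) * c.ph v (0, 1) ≠ 0 := by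
      rw [v1, v2]
      intro e
      exact c.ne_one (by linear_combination -e + (1 - c.ω) * w3)
    have fw : c.ph w (0, 2) * c.ph w (0, 1) - c.ph w (0, 1) * c.ph w (0, 1) ≠ 0 := by
      rw [q1, q2]
      intro e
      exact ne (by linear_combination -e + w3)
    have key : e3 (0, 1) ≠ 0 := by
      simp only [he3, he2, p1]
      exact mul_ne_zero (mul_ne_zero (right_ne_zero_of_mul n7) (mul_ne_zero (mul_ne_zero (right_ne_zero_of_mul n1')
        (right_ne_zero_of_mul m1)) fv)) fw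
    simpa +decide [ent, n2] using key

end Ctx

end Cfsg.Agent.Heis12
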