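import Cfsg.Agent.Lib.Heis12ULocal
import Cfsg.Agent.Lib.Heis12URho

/-!
Under the block property the wreath product of two quaternion groups is a Sylow two-subgroup of the
centraliser of the product of the two central involutions, which is then isolated.
-/

set_option autoImplicit false
set_option linter.unusedSectionVars false
set_option synthInstance.maxSize 5000

namespace Cfsg.Agent.Heis12

open Matrix
open scoped MatrixGroups Kronecker commutatorElement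

variable {F : Type*} [Field F]

namespace Ctx

variable (c : Ctx F)

theorem even_ov {X : Matrix Z3 Z3 F} (h : c.Even' X) : ∃ r : F, X *ᵥ c.ov = r • c.ov := by
  refine ⟨(X *ᵥ c.ov) 1, funext fun x => ?_⟩
  have e := congrArg (fun Y => Y *ᵥ c.ov) (c.even_comm_Po h)
  simp only [← Matrix.mulVec_mulVec, c.Po_ov] at e
  rw [← e]
  simp only [Pi.smul_apply, smul_eq_mul, ov, Po, Matrix.smul_mulVec, Matrix.sub_mulVec, Matrix.one_mulVec,
    Pi.sub_apply, Matrix.mulVec, dotProduct, c.sum_z]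
  rcases (show ∀ a : ZMod 3, a = 0 ∨ a = 1 ∨ a = 2 by decide) x with rfl | rfl | rfl <;>
    simp +decide [Jm] <;> ring

theorem Kq_cube : c.Kq * (c.Kq * c.Kq) = 1 := Units.ext (by
  rw [Units.val_mul, Units.val_mul, Kq_val, Matrix.diagonal_mul_diagonal, Matrix.diagonal_mul_diagonal,
    Units.val_one, ← Matrix.diagonal_one]
  congr 1
  funext x
  rw [← c.χ_add, ← c.χ_add, (show ∀ z : ZMod 3, z + (z + z) = 0 by decide) (x * x), c.χ_zero])

theorem Kq_det : (c.Kq : Matrix Z3 Z3 F).det = c.ω ^ 2 := by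
  have hp : ∀ f : ZMod 3 → F, ∏ y, f y = f 0 * f 1 * f 2 := fun f => Fin.prod_univ_three f
  rw [Kq_val, Matrix.det_diagonal, hp, mul_zero, c.χ_zero, show (2 : ZMod 3) * 2 = 1 * 1 by decide, mul_one,
    c.χ_one]
  ring

/-- The third conjugate of the Fourier matrix. -/
def Hq : GL Z3 F := c.Kq * c.Gq * c.Kq⁻¹

theorem act_Gq' : c.Act c.Gq (tmul (tmul tK tF) (tinv tK)) :=
  c.act_mul (c.act_mul c.act_Kq c.act_Fq) (c.act_inv c.act_Kq (by decide))

theorem act_Hq : c.Act c.Hq (tmul (tmul tK (tmul (tmul tK tF) (tinv tK))) (tinv tK)) :=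
  c.act_mul (c.act_mul c.act_Kq c.act_Gq') (c.act_inv c.act_Kq (by decide))

theorem Hq_mem : c.Hq ∈ c.Q8 := by
  refine ⟨⟨_, by decide, c.act_Hq⟩, ?_, ?_⟩
  · rw [Hq, Units.val_mul, Units.val_mul]
    exact c.even_mul (c.even_mul c.Kq_even c.Gq_mem.2.1) (c.even_inv c.Kq_even)
  · have e : ((c.Kq⁻¹ : GL Z3 F) : Matrix Z3 Z3 F) *ᵥ c.ov = (c.ω ^ 2) • c.ov := by
      have h := congrArg (fun v => ((c.Kq⁻¹ : GL Z3 F) : Matrix Z3 Z3 F) *ᵥ v) c.Kq_ov
      simp only [Matrix.mulVec_mulVec, Units.inv_mul, Matrix.one_mulVec, Matrix.mulVec_smul] at h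
      conv_rhs => rw [h]
      rw [smul_smul, show c.ω ^ 2 * c.ω = 1 by linear_combination c.cube, one_smul]
    rw [Hq, Units.val_mul, Units.val_mul, ← Matrix.mulVec_mulVec, ← Matrix.mulVec_mulVec, e, Matrix.mulVec_smul,
      c.Gq_mem.2.2, Matrix.mulVec_smul, c.Kq_ov, smul_smul,
      show c.ω ^ 2 * c.ω = 1 by linear_combination c.cube, one_smul]

theorem conj_diag_00 (g : GL Z3 F) :
    ((c.Kq * g * c.Kq⁻¹ : GL Z3 F) : Matrix Z3 Z3 F) 0 0 = (g : Matrix Z3 Z3 F) 0 0 := by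
  rw [Units.val_mul, Units.val_mul, show ((c.Kq⁻¹ : GL Z3 F) : Matrix Z3 Z3 F) =
    Matrix.diagonal fun x => c.χ (-(x * x)) from rfl, Kq_val, Matrix.mul_diagonal, Matrix.diagonal_mul]
  simp

/-- Every map of the quaternion group is the action of a member. -/
theorem Q8_of_inQ {φ : Tw} (h : InQ φ) : ∃ q ∈ c.Q8, c.Act q φ := by
  have hgen : φ = tone ∨ φ = tneg ∨ φ = tF ∨ φ = tmul tneg tF ∨
      φ = tmul (tmul tK tF) (tinv tK) ∨ φ = tmul tneg (tmul (tmul tK tF) (tinv tK)) ∨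
      φ = tmul (tmul tK (tmul (tmul tK tF) (tinv tK))) (tinv tK) ∨
      φ = tmul tneg (tmul (tmul tK (tmul (tmul tK tF) (tinv tK))) (tinv tK)) := by
    rcases inQ_cases φ h with rfl | rfl | rfl | rfl | rfl | rfl | rfl | rfl <;> decide
  rcases hgen with rfl | rfl | rfl | rfl | rfl | rfl | rfl | rfl
  · exact ⟨1, c.Q8.one_mem, c.act_one⟩
  · exact ⟨_, c.Jn_mem, c.act_Jn⟩
  · exact ⟨_, c.Fq_mem, c.act_Fq⟩
  · exact ⟨_, c.Q8.mul_mem c.Jn_mem c.Fq_mem, c.act_mul c.act_Jn c.act_Fq⟩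
  · exact ⟨_, c.Gq_mem, c.act_Gq'⟩
  · exact ⟨_, c.Q8.mul_mem c.Jn_mem c.Gq_mem, c.act_mul c.act_Jn c.act_Gq'⟩
  · exact ⟨_, c.Hq_mem, c.act_Hq⟩
  · exact ⟨_, c.Q8.mul_mem c.Jn_mem c.Hq_mem, c.act_mul c.act_Jn c.act_Hq⟩

theorem Jn_Pe : (c.Jn : Matrix Z3 Z3 F) = c.Po - c.Pe := by
  rw [Jn_val, Pe, Po, ← smul_sub, show (1 : Matrix Z3 Z3 F) - c.Jm - (1 + c.Jm) = (2 : F) • (-c.Jm) by
    rw [two_smul]; abel, smul_smul, inv_mul_cancel₀ c.two, one_smul]

theorem Jn_mul_Pe : (c.Jn : Matrix Z3 Z3 F) * c.Pe = -c.Pe := by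
  rw [c.Jn_Pe, sub_mul, c.Po_mul_Pe, c.Pe_sq, zero_sub]

theorem Jn_mul_Po : (c.Jn : Matrix Z3 Z3 F) * c.Po = c.Po := by
  rw [c.Jn_Pe, sub_mul, c.Pe_mul_Po, c.Po_sq, sub_zero]

theorem diag_mul (a b a' b' : F) :
    (a • c.Pe + b • c.Po) * (a' • c.Pe + b' • c.Po) = (a * a') • c.Pe + (b * b') • c.Po := by
  simp only [add_mul, mul_add, Matrix.smul_mul, Matrix.mul_smul, c.Pe_sq, c.Po_sq, c.Pe_mul_Po, c.Po_mul_Pe,
    smul_zero, add_zero, zero_add, smul_smul]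
  rw [mul_comm a' a, mul_comm b' b]

theorem diag_even (a b : F) : c.Even' (a • c.Pe + b • c.Po) := by
  show _ * _ = _ * _
  rw [mul_add, add_mul, Matrix.mul_smul, Matrix.mul_smul, Matrix.smul_mul, Matrix.smul_mul, c.Pe_even, c.Po_even]

theorem emb_comm_kr {U L : GL Z3 F} (hU : c.Even' (U : Matrix Z3 Z3 F)) {B X : Matrix Z3 Z3 F}
    (hB : (L : Matrix Z3 Z3 F) * B = B * (L : Matrix Z3 Z3 F))
    (hX : (L : Matrix Z3 Z3 F) * X = X * (L : Matrix Z3 Z3 F)) :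
    c.emb B X * (kr U L : Matrix Pt Pt F) = (kr U L : Matrix Pt Pt F) * c.emb B X := by
  rw [emb, kr_val, add_mul, mul_add, ← Matrix.mul_kronecker_mul, ← Matrix.mul_kronecker_mul,
    ← Matrix.mul_kronecker_mul, ← Matrix.mul_kronecker_mul, c.even_comm_Pe hU, c.even_comm_Po hU, hB, hX]

theorem emb_kr_eq {m : F} {V V' : GL Z3 F}
    (h : c.emb 1 (m • c.Pe + c.Po) = (kr V V' : Matrix Pt Pt F)) : m = 1 := by
  have e := congrArg (fun Y => slc Y 1 2) h
  simp only [emb, kr_val, slc_add, slc_kr] at e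
  have h12 : (1 : Matrix Z3 Z3 F) 1 2 = 0 := Matrix.one_apply_ne (by decide)
  rw [h12, zero_smul, zero_add] at e
  have hc : (m • c.Pe + c.Po) 1 2 = (2 : F)⁻¹ * (m - 1) := by
    simp +decide [Pe, Po, Jm]
    ring
  rw [hc] at e
  by_contra hm
  have hx : (2 : F)⁻¹ * (m - 1) ≠ 0 := mul_ne_zero (inv_ne_zero c.two) (sub_ne_zero.2 hm)
  have hV : (V' : Matrix Z3 Z3 F) 1 2 ≠ 0 := fun h0 => by
    rw [h0, zero_smul] at e
    have := congrArg (fun Y : Matrix Z3 Z3 F => Y 1 1 - Y 1 2) e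
    simp only [Matrix.smul_apply, smul_eq_mul, ← mul_sub, c.Po_d, Matrix.zero_apply, sub_zero, mul_one] at this
    exact hx this
  have h1 := congrArg (fun Y => Y * c.Pe) e
  simp only [Matrix.smul_mul, c.Po_mul_Pe, smul_zero] at h1
  have := congrArg (fun Y => ((V⁻¹ : GL Z3 F) : Matrix Z3 Z3 F) * Y) ((smul_eq_zero.1 h1.symm).resolve_left hV)
  simp only [← mul_assoc, Units.inv_mul, one_mul, mul_zero] at this
  exact c.Pe_ne this

theorem S0_comm_t {g : GL Pt F} (hg : g ∈ c.S0) (hc : g * kr c.Jn 1 = kr c.Jn 1 * g) :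
    ∃ a ∈ c.Q8, ∃ b ∈ c.Q8, g = kr a b := by
  obtain ⟨a, ha, b, hb', e | e⟩ := hg
  · exact ⟨a, ha, b, hb', e⟩
  exfalso
  rw [e, mul_assoc, ← swap_kr_swap, ← mul_assoc, ← mul_assoc, kr_mul, kr_mul, mul_left_inj] at hc
  rw [mul_one, one_mul] at hc
  have h1' : kr (a⁻¹ * (c.Jn * a))⁻¹ (b⁻¹ * (b * c.Jn)) = 1 := by
    have := congrArg (fun g => (kr a b)⁻¹ * g) hc
    simp only [kr_inv, kr_mul] at this
    rw [show kr (a⁻¹ * (c.Jn * a))⁻¹ (b⁻¹ * (b * c.Jn)) = (kr (a⁻¹ * (c.Jn * a)) 1)⁻¹ * kr 1 (b⁻¹ * (b * c.Jn)) by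
      rw [kr_inv, kr_mul, inv_one, one_mul, mul_one]]
    rw [inv_mul_eq_one]
    simpa using this.symm
  obtain ⟨-, e4⟩ := c.kr_Q8_one (c.Q8.inv_mem (c.Q8.mul_mem (c.Q8.inv_mem ha) (c.Q8.mul_mem c.Jn_mem ha)))
    (c.Q8.mul_mem (c.Q8.inv_mem hb') (c.Q8.mul_mem hb' c.Jn_mem)) h1'
  rw [inv_mul_cancel_left] at e4
  have := congrArg (fun g : GL Z3 F => (g : Matrix Z3 Z3 F).trace) e4
  simp only [c.Jn_trace, Units.val_one, Matrix.trace_one, ZMod.card, Nat.cast_ofNat] at this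
  exact mul_ne_zero c.two c.two (by linear_combination -this)

theorem pr_const (α β : F) : pr (fun _ => α) (fun _ => β) = α • 1 + β • (c.Jm ⊗ₖ c.Jm) := by
  ext ⟨x, y⟩ ⟨x', y'⟩
  simp only [pr_apply, Matrix.add_apply, Matrix.smul_apply, Matrix.kroneckerMap_apply, Jm, Matrix.of_apply,
    Matrix.one_apply, smul_eq_mul, Prod.mk.injEq, Prod.neg_mk]
  congr 1
  · split_ifs <;> simp
  · by_cases h : x = -x' <;> by_cases h' : y = -y' <;> simp [h, h']

theorem emb_pr (ρ : F) : c.emb (c.Pe + ρ • c.Po) (ρ • c.Pe + c.Po) =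
    pr (fun _ => (1 + ρ) / 2) (fun _ => (1 - ρ) / 2) := by
  have h2 := c.two
  rw [c.pr_const, ← Matrix.one_kronecker_one]
  simp only [emb, Pe, Po, smul_add, smul_sub, smul_smul, sub_eq_add_neg, ← neg_one_smul F c.Jm,
    Matrix.add_kronecker, Matrix.kronecker_add, Matrix.smul_kronecker, Matrix.kronecker_smul]
  match_scalars <;> field_simp <;> ring

variable [Finite F] {M : Subgroup (GL Pt F)}

/-- Both factors of an element of the overgroup acting on each qutrit separately normalise. -/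
theorem kr_nr (hM : c.Over M) (hB : c.BlockNr M) {U L : GL Z3 F} (h : kr U L ∈ M) : c.Nr1 U ∧ c.Nr1 L := by
  have hd : ∀ {x : GL Z3 F}, x ∈ Cfsg.Geo.specialLinear Z3 F → (x : Matrix Z3 Z3 F).det ^ 3 = 1 := fun hx => by
    rw [mem_sl.1 hx, one_pow]
  have hsw := c.swap_mem hM
  have right : ∀ {x : GL Z3 F}, kr 1 x ∈ M → c.Nr1 x := fun {x} hx =>
    c.u_nr_of_kr_one hM hB (swapU_kr 1 x ▸ M.mul_mem (M.mul_mem hsw hx) (M.inv_mem hsw))
  constructor
  · refine c.nr_of_conj (fun x hx hn => c.u_nr_of_kr_one hM hB ?_) fun x hx hn => c.u_nr_of_kr_one hM hB ?_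
    · rw [show kr (U * x * U⁻¹) 1 = kr U L * kr x 1 * (kr U L)⁻¹ by
        rw [kr_inv, kr_mul, kr_mul, mul_one, mul_inv_cancel]]
      exact M.mul_mem (M.mul_mem h (c.kr_one_mem hM hn (hd hx))) (M.inv_mem h)
    · rw [show kr (U⁻¹ * x * U) 1 = (kr U L)⁻¹ * kr x 1 * kr U L by
        rw [kr_inv, kr_mul, kr_mul, mul_one, inv_mul_cancel]]
      exact M.mul_mem (M.mul_mem (M.inv_mem h) (c.kr_one_mem hM hn (hd hx))) h
  · refine c.nr_of_conj (fun x hx hn => right ?_) fun x hx hn => right ?_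
    · rw [show kr 1 (L * x * L⁻¹) = kr U L * kr 1 x * (kr U L)⁻¹ by
        rw [kr_inv, kr_mul, kr_mul, mul_one, mul_inv_cancel]]
      exact M.mul_mem (M.mul_mem h (c.one_kr_mem hM hn (hd hx))) (M.inv_mem h)
    · rw [show kr 1 (L⁻¹ * x * L) = (kr U L)⁻¹ * kr 1 x * kr U L by
        rw [kr_inv, kr_mul, kr_mul, mul_one, inv_mul_cancel]]
      exact M.mul_mem (M.mul_mem (M.inv_mem h) (c.one_kr_mem hM hn (hd hx))) h

set_option maxRecDepth 30000 in
/-- An even matrix preserving the quaternion group and the class of the quadratic phase is a normalising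
matrix up to scalars on the two parities. -/
theorem norm_form {A : GL Z3 F} (hAe : c.Even' (A : Matrix Z3 Z3 F)) (hF : A * c.Fq * A⁻¹ ∈ c.Q8)
    (hK : c.Nr1 (A * c.Kq * A⁻¹)) :
    ∃ N : GL Z3 F, c.Nr1 N ∧ (N : Matrix Z3 Z3 F).det ^ 3 = 1 ∧ c.Even' (N : Matrix Z3 Z3 F) ∧
      ∃ a b : F, ((N⁻¹ * A : GL Z3 F) : Matrix Z3 Z3 F) = a • c.Pe + b • c.Po := by
  set B := A * c.Kq * A⁻¹ with hBdef
  obtain ⟨φ, hd, hact⟩ := c.nr_act hK
  have hBe : c.Even' (B : Matrix Z3 Z3 F) := by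
    rw [hBdef, Units.val_mul, Units.val_mul]
    exact c.even_mul (c.even_mul hAe c.Kq_even) (c.even_inv hAe)
  have hφ3 : tmul φ (tmul φ φ) = tone := by
    refine c.act_unique (c.act_mul hact (c.act_mul hact hact)) ?_
    rw [show B * (B * B) = A * (c.Kq * (c.Kq * c.Kq)) * A⁻¹ by rw [hBdef]; group, c.Kq_cube, mul_one,
      mul_inv_cancel]
    exact c.act_one
  have hφ1 : φ ≠ tone := fun e => by
    subst e
    obtain ⟨a, u, hau⟩ := c.eq_smul_W hact
    have ha : a ≠ 0 := fun h => B.ne_zero (by rw [hau, h, zero_smul])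
    have hu := c.even_W ha (hau ▸ hBe)
    rw [hu, W_zero] at hau
    have hKs : (c.Kq : Matrix Z3 Z3 F) = a • 1 := by
      rw [show c.Kq = A⁻¹ * B * A by rw [hBdef]; group, Units.val_mul, Units.val_mul, hau, Matrix.mul_smul, mul_one,
        Matrix.smul_mul, Units.inv_mul]
    have e0 := congrFun (congrFun hKs 0) 0
    have e1 := congrFun (congrFun hKs 1) 1
    simp [Kq_val, c.χ_one] at e0 e1
    exact c.ne_one (e1.trans e0.symm)
  obtain ⟨ψ, hψ, hcase⟩ := (show ∀ φ : Tw, tdet φ = 1 → tmul φ (tmul φ φ) = tone → φ ≠ tone →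
    ∃ ψ : Tw, InQ ψ ∧ (φ = tmul (tmul ψ tK) (tinv ψ) ∨ φ = tmul (tmul ψ (tmul tK tK)) (tinv ψ)) by decide) φ hd hφ3 hφ1
  obtain ⟨q0, hq0, hq0a⟩ := c.Q8_of_inQ hψ
  have hq0e : c.Even' (q0 : Matrix Z3 Z3 F) := hq0.2.1
  have hq0i : ((q0⁻¹ : GL Z3 F) : Matrix Z3 Z3 F) *ᵥ c.ov = c.ov := (c.Q8.inv_mem hq0).2.2
  obtain ⟨r, hr⟩ := c.even_ov hAe
  have hr0 : r ≠ 0 := fun h => c.ov_ne (by
    have e := congrArg (fun v => ((A⁻¹ : GL Z3 F) : Matrix Z3 Z3 F) *ᵥ v) hr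
    simpa [Matrix.mulVec_mulVec, h] using e)
  have hBov : (B : Matrix Z3 Z3 F) *ᵥ c.ov = c.ω • c.ov := by
    have e : ((B * A : GL Z3 F) : Matrix Z3 Z3 F) *ᵥ c.ov = ((A * c.Kq : GL Z3 F) : Matrix Z3 Z3 F) *ᵥ c.ov := by
      rw [hBdef, inv_mul_cancel_right]
    rw [Units.val_mul B A, Units.val_mul A c.Kq, ← Matrix.mulVec_mulVec, ← Matrix.mulVec_mulVec, hr, c.Kq_ov, Matrix.mulVec_smul,
      Matrix.mulVec_smul, hr, smul_comm] at e
    exact smul_right_injective _ hr0 e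
  have hdet : (B : Matrix Z3 Z3 F).det = c.ω ^ 2 := by
    rw [hBdef, Units.val_mul, Units.val_mul, Matrix.det_units_conj, c.Kq_det]
  have hB0 : ∀ (C : GL Z3 F) (χ' : Tw) (e : F), c.Even' (C : Matrix Z3 Z3 F) → c.Act C χ' →
      (C : Matrix Z3 Z3 F) *ᵥ c.ov = e • c.ov → φ = tmul (tmul ψ χ') (tinv ψ) →
      ∃ a : F, (B : Matrix Z3 Z3 F) = a • ((q0 * C * q0⁻¹ : GL Z3 F) : Matrix Z3 Z3 F) ∧ a * e = c.ω ∧
        a ^ 3 * (C : Matrix Z3 Z3 F).det = c.ω ^ 2 := by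
    intro C χ' e hCe hC hCov hφ
    have hact' := c.act_mul (c.act_mul hq0a hC) (c.act_inv hq0a hψ.1)
    rw [← hφ] at hact'
    obtain ⟨a, -, ha⟩ := c.even_unique hd hact hact' hBe (by
      rw [Units.val_mul, Units.val_mul]; exact c.even_mul (c.even_mul hq0e hCe) (c.even_inv hq0e))
    refine ⟨a, ha, ?_, ?_⟩
    · have h := hBov
      rw [ha, Units.val_mul, Units.val_mul, Matrix.smul_mulVec, ← Matrix.mulVec_mulVec, ← Matrix.mulVec_mulVec,
        hq0i, hCov, Matrix.mulVec_smul, hq0.2.2, smul_smul] at h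
      exact smul_left_injective F c.ov_ne h
    · rw [← hdet, ha, Matrix.det_smul, Units.val_mul, Units.val_mul, Matrix.det_units_conj, ZMod.card]
  have hBq : B = q0 * c.Kq * q0⁻¹ := by
    rcases hcase with h | h
    · obtain ⟨a, ha, ha1, -⟩ := hB0 c.Kq tK c.ω c.Kq_even c.act_Kq c.Kq_ov h
      refine Units.ext ?_
      rw [ha, show a = 1 from mul_right_cancel₀ (fun e => one_ne_zero (α := F) (by
        have := c.cube; rw [e] at this; simpa using this.symm)) (ha1.trans (one_mul _).symm), one_smul]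
    · exfalso
      obtain ⟨a, -, ha1, ha2⟩ := hB0 (c.Kq * c.Kq) (tmul tK tK) (c.ω * c.ω)
        (by rw [Units.val_mul]; exact c.even_mul c.Kq_even c.Kq_even) (c.act_mul c.act_Kq c.act_Kq)
        (by rw [Units.val_mul, ← Matrix.mulVec_mulVec, c.Kq_ov, Matrix.mulVec_smul, c.Kq_ov, smul_smul]) h
      rw [Units.val_mul, Matrix.det_mul, c.Kq_det] at ha2
      have ha : a = c.ω ^ 2 := by linear_combination c.ω * ha1 - a * c.cube
      subst ha
      exact c.ne_one (by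
        have h4 : c.ω ^ 2 = c.ω := by linear_combination -ha2 + (c.ω ^ 7 + c.ω ^ 4 + c.ω) * c.cube
        linear_combination c.cube - c.ω * h4 - h4)
  set A1 := q0⁻¹ * A with hA1
  have hA1e : c.Even' (A1 : Matrix Z3 Z3 F) := by
    rw [hA1, Units.val_mul]; exact c.even_mul (c.even_inv hq0e) hAe
  have hA1K : A1 * c.Kq = c.Kq * A1 := by
    have e : A * c.Kq = q0 * c.Kq * q0⁻¹ * A := mul_inv_eq_iff_eq_mul.1 hBq
    rw [hA1, mul_assoc, e]
    group
  have hz : ∀ x y : Z3, x * x ≠ y * y → (A1 : Matrix Z3 Z3 F) x y = 0 := fun x y hxy => by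
    have e := congrArg (fun g : GL Z3 F => (g : Matrix Z3 Z3 F) x y) hA1K
    simp only [Units.val_mul, Kq_val, Matrix.mul_diagonal, Matrix.diagonal_mul] at e
    by_contra hne
    exact hxy (c.χ_inj (mul_left_cancel₀ hne (e.trans (mul_comm _ _)))).symm
  have z01 := hz 0 1 (by decide); have z02 := hz 0 2 (by decide)
  have z10 := hz 1 0 (by decide); have z20 := hz 2 0 (by decide)
  have hA00 : (A1 : Matrix Z3 Z3 F) 0 0 ≠ 0 := fun h => by
    have e := congrArg (fun X : Matrix Z3 Z3 F => X 0 0) (Units.inv_mul A1)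
    simp only [Matrix.mul_apply, c.sum_z, h, z10, z20, mul_zero, add_zero, Matrix.one_apply_eq] at e
    exact zero_ne_one e
  set F' := A1 * c.Fq * A1⁻¹ with hF'
  have hF'm : F' ∈ c.Q8 := by
    rw [hF', hA1, show q0⁻¹ * A * c.Fq * (q0⁻¹ * A)⁻¹ = q0⁻¹ * (A * c.Fq * A⁻¹) * q0 by group]
    exact c.Q8.mul_mem (c.Q8.mul_mem (c.Q8.inv_mem hq0) hF) hq0
  have h00 : (F' : Matrix Z3 Z3 F) 0 0 = (c.Fq : Matrix Z3 Z3 F) 0 0 := by
    have e := congrArg (fun g : GL Z3 F => (g : Matrix Z3 Z3 F) 0 0) (show F' * A1 = A1 * c.Fq by rw [hF']; group)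
    simp only [Units.val_mul, Matrix.mul_apply, c.sum_z, z01, z02, z10, z20, mul_zero, zero_mul, add_zero] at e
    exact mul_left_cancel₀ hA00 (by linear_combination e)
  have hF00 : (c.Fq : Matrix Z3 Z3 F) 0 0 ≠ 0 := by
    rw [Fq_val]; exact mul_ne_zero (inv_ne_zero c.s_ne) (c.χ_ne _)
  have hG00 : (c.Gq : Matrix Z3 Z3 F) 0 0 = (c.Fq : Matrix Z3 Z3 F) 0 0 := c.conj_diag_00 _
  have hH00 : (c.Hq : Matrix Z3 Z3 F) 0 0 = (c.Fq : Matrix Z3 Z3 F) 0 0 := (c.conj_diag_00 _).trans hG00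
  have hJ00 : ∀ g : GL Z3 F, ((c.Jn * g : GL Z3 F) : Matrix Z3 Z3 F) 0 0 = -(g : Matrix Z3 Z3 F) 0 0 := fun g => by
    rw [Units.val_mul, Jn_val, Matrix.neg_mul, Matrix.neg_apply, Jm_mul, neg_zero]
  have fin : ∀ C : GL Z3 F, c.Nr1 C → (C : Matrix Z3 Z3 F).det ^ 3 = 1 → c.Even' (C : Matrix Z3 Z3 F) →
      C * c.Kq = c.Kq * C → F' = C * c.Fq * C⁻¹ →
      ∃ N : GL Z3 F, c.Nr1 N ∧ (N : Matrix Z3 Z3 F).det ^ 3 = 1 ∧ c.Even' (N : Matrix Z3 Z3 F) ∧
        ∃ a b : F, ((N⁻¹ * A : GL Z3 F) : Matrix Z3 Z3 F) = a • c.Pe + b • c.Po := by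
    intro C hC hCd hCe hCK hCF
    obtain ⟨χ', -, hCa⟩ := c.nr_act hC
    refine ⟨q0 * C, c.act_nr (c.act_mul hq0a hCa), ?_, ?_, ?_⟩
    · rw [Units.val_mul, Matrix.det_mul, mul_pow, c.Q8_det hq0, hCd, one_mul]
    · rw [Units.val_mul]; exact c.even_mul hq0e hCe
    set A2 := C⁻¹ * A1 with hA2
    rw [show (q0 * C)⁻¹ * A = A2 by rw [hA2, hA1]; group]
    have cF : A2 * c.Fq = c.Fq * A2 := by
      have e : A1 * c.Fq = C * c.Fq * C⁻¹ * A1 := mul_inv_eq_iff_eq_mul.1 hCF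
      rw [hA2, mul_assoc, e]
      group
    have cK : A2 * c.Kq = c.Kq * A2 :=
      ((show Commute C c.Kq from hCK).inv_left.mul_left (show Commute A1 c.Kq from hA1K)).eq
    have cG : A2 * c.Gq = c.Gq * A2 :=
      (((show Commute A2 c.Kq from cK).mul_right (show Commute A2 c.Fq from cF)).mul_right
        (show Commute A2 c.Kq from cK).inv_right).eq
    exact c.commutant (by rw [hA2, Units.val_mul]; exact c.even_mul (c.even_inv hCe) hA1e)
      (congrArg Units.val cF) (congrArg Units.val cG)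
  have two := c.two
  have hne1 : F' ≠ 1 := fun e => by
    have hF1 : c.Fq = 1 := by
      rw [show c.Fq = A1⁻¹ * F' * A1 by rw [hF']; group, e, mul_one, inv_mul_cancel]
    have := congrArg (fun g : GL Z3 F => (g : Matrix Z3 Z3 F) 0 1) hF1
    simp only [Fq_val] at this
    simp at this
    exact c.s_ne this
  have hneJ : F' ≠ c.Jn := fun e => by
    have h1 : ((F' : GL Z3 F) : Matrix Z3 Z3 F).trace = 1 := by
      rw [hF', Units.val_mul, Units.val_mul, Matrix.trace_units_conj, c.Fq_trace]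
    rw [e, c.Jn_trace] at h1
    exact two (by linear_combination -h1)
  have hneg : ∀ g : GL Z3 F, (g : Matrix Z3 Z3 F) 0 0 = (c.Fq : Matrix Z3 Z3 F) 0 0 → F' ≠ c.Jn * g := fun g hg e => by
    rw [e, hJ00, hg] at h00
    exact hF00 (mul_left_cancel₀ two (by linear_combination -h00))
  obtain ⟨⟨θ, hθ, hθa⟩, -, -⟩ := hF'm
  have hgen : θ = tone ∨ θ = tneg ∨ θ = tF ∨ θ = tmul tneg tF ∨
      θ = tmul (tmul tK tF) (tinv tK) ∨ θ = tmul tneg (tmul (tmul tK tF) (tinv tK)) ∨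
      θ = tmul (tmul tK (tmul (tmul tK tF) (tinv tK))) (tinv tK) ∨
      θ = tmul tneg (tmul (tmul tK (tmul (tmul tK tF) (tinv tK))) (tinv tK)) := by
    rcases inQ_cases θ hθ with rfl | rfl | rfl | rfl | rfl | rfl | rfl | rfl <;> decide
  have same : ∀ g : GL Z3 F, g ∈ c.Q8 → c.Act g θ → F' = g := fun g hg hga =>
    c.Q8_ext (by
      rw [hF', hA1, show q0⁻¹ * A * c.Fq * (q0⁻¹ * A)⁻¹ = q0⁻¹ * (A * c.Fq * A⁻¹) * q0 by group]
      exact c.Q8.mul_mem (c.Q8.mul_mem (c.Q8.inv_mem hq0) hF) hq0) hg hθa hga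
  rcases hgen with rfl | rfl | rfl | rfl | rfl | rfl | rfl | rfl
  · exact absurd (same _ c.Q8.one_mem c.act_one) hne1
  · exact absurd (same _ c.Jn_mem c.act_Jn) hneJ
  · exact fin 1 c.nr1_one (by simp) c.even_one (by simp) (by rw [same _ c.Fq_mem c.act_Fq]; group)
  · exact absurd (same _ (c.Q8.mul_mem c.Jn_mem c.Fq_mem) (c.act_mul c.act_Jn c.act_Fq)) (hneg _ rfl)
  · exact fin c.Kq (c.act_nr c.act_Kq) c.Kq_det_cube c.Kq_even rfl
      (by rw [same _ c.Gq_mem c.act_Gq', Gq])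
  · exact absurd (same _ (c.Q8.mul_mem c.Jn_mem c.Gq_mem) (c.act_mul c.act_Jn c.act_Gq')) (hneg _ hG00)
  · exact fin (c.Kq * c.Kq) (c.act_nr (c.act_mul c.act_Kq c.act_Kq))
      (by rw [Units.val_mul, Matrix.det_mul, mul_pow, c.Kq_det_cube, one_mul])
      (by rw [Units.val_mul]; exact c.even_mul c.Kq_even c.Kq_even) (mul_assoc _ _ _)
      (by rw [same _ c.Hq_mem c.act_Hq, Hq, Gq]; group)
  · exact absurd (same _ (c.Q8.mul_mem c.Jn_mem c.Hq_mem) (c.act_mul c.act_Jn c.act_Hq)) (hneg _ hH00)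

/-- The element exchanging the sign on one mixed sector is excluded. -/
theorem u_k_neg (hM : c.Over M) (hB : c.BlockNr M) (h7 : (7 : F) ≠ 0) {DU DL : GL Z3 F} {a b a' b' : F}
    (hDU : (DU : Matrix Z3 Z3 F) = a • c.Pe + b • c.Po) (hDL : (DL : Matrix Z3 Z3 F) = a' • c.Pe + b' • c.Po)
    (E : GL Pt F) (hEv : (E : Matrix Pt Pt F) = c.emb 1 (c.Jn : Matrix Z3 Z3 F)) (hy : kr DU DL * E ∈ M) : False := by
  have hJc : ∀ (p q : F), (p • c.Pe + q • c.Po) * (c.Jn : Matrix Z3 Z3 F) = (-p) • c.Pe + q • c.Po := fun p q => by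
    rw [show (c.Jn : Matrix Z3 Z3 F) = (-1 : F) • c.Pe + (1 : F) • c.Po by rw [c.Jn_Pe, neg_one_smul, one_smul]; abel,
      c.diag_mul, mul_neg_one, mul_one]
  have hDUe : c.Even' (DU : Matrix Z3 Z3 F) := hDU ▸ c.diag_even a b
  have hDLe : c.Even' (DL : Matrix Z3 Z3 F) := hDL ▸ c.diag_even a' b'
  have hEc : ∀ {V W : GL Z3 F}, c.Even' (V : Matrix Z3 Z3 F) → c.Even' (W : Matrix Z3 Z3 F) →
      kr V W * E = E * kr V W := fun {V W} hV hW => Units.ext (by
    rw [Units.val_mul, Units.val_mul, hEv]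
    exact (c.emb_comm_kr hV (by simp) (by rw [Jn_val, mul_neg, neg_mul, hW])).symm)
  have hEE : E * E = 1 := Units.ext (by
    rw [Units.val_mul, hEv, c.emb_mul, one_mul, ← Units.val_mul, c.Jn_sq, Units.val_one, c.emb_diag,
      Matrix.one_kronecker_one, Units.val_one])
  have hsw := c.swap_mem hM
  have ha : a ≠ 0 := fun h => by
    have e : (DU : Matrix Z3 Z3 F) * c.Pe = 0 := by
      rw [hDU, h, zero_smul, zero_add, Matrix.smul_mul, c.Po_mul_Pe, smul_zero]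
    have := congrArg (fun Y => ((DU⁻¹ : GL Z3 F) : Matrix Z3 Z3 F) * Y) e
    simp only [← mul_assoc, Units.inv_mul, one_mul, mul_zero] at this
    exact c.Pe_ne this
  have ha' : a' ≠ 0 := fun h => by
    have e : (DL : Matrix Z3 Z3 F) * c.Pe = 0 := by
      rw [hDL, h, zero_smul, zero_add, Matrix.smul_mul, c.Po_mul_Pe, smul_zero]
    have := congrArg (fun Y => ((DL⁻¹ : GL Z3 F) : Matrix Z3 Z3 F) * Y) e
    simp only [← mul_assoc, Units.inv_mul, one_mul, mul_zero] at this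
    exact c.Pe_ne this
  -- squares
  have h2 : kr (DU * DU) (DL * DL) ∈ M := by
    have := M.mul_mem hy hy
    rwa [mul_assoc, ← mul_assoc E, ← hEc hDUe hDLe, mul_assoc (kr DU DL) E, hEE, mul_one, kr_mul] at this
  obtain ⟨n1, n2⟩ := c.kr_nr hM hB h2
  have q1 := c.evenodd (A := DU * DU) (by rw [Units.val_mul, hDU, c.diag_mul]) n1
  have q2 := c.evenodd (A := DL * DL) (by rw [Units.val_mul, hDL, c.diag_mul]) n2
  -- the product with the exchanged element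
  have hzz : E * (swapU * E * swapU⁻¹) = c.zI := Units.ext (by
    rw [Units.val_mul, Units.val_mul, Units.val_mul, swapU_inv, hEv, zI, kr_val, emb, mul_add, swapU_kron, swapU_kron,
      ← add_mul, mul_assoc, ← Units.val_mul, swapU_sq, Units.val_one, mul_one, add_mul, mul_add, mul_add,
      ← Matrix.mul_kronecker_mul, ← Matrix.mul_kronecker_mul, ← Matrix.mul_kronecker_mul, ← Matrix.mul_kronecker_mul,
      one_mul, one_mul, mul_one, mul_one, c.Jn_mul_Pe, c.Jn_mul_Po]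
    rw [show c.Pe * (c.Jn : Matrix Z3 Z3 F) = -c.Pe by rw [c.even_comm_Pe c.Jn_mem.2.1, c.Jn_mul_Pe],
      show c.Po * (c.Jn : Matrix Z3 Z3 F) = c.Po by rw [c.even_comm_Po c.Jn_mem.2.1, c.Jn_mul_Po], c.Jn_Pe]
    simp only [sub_eq_add_neg, Matrix.add_kronecker, Matrix.kronecker_add, Matrix.kronecker, ← neg_one_smul F c.Pe,
      Matrix.smul_kronecker, Matrix.kronecker_smul, smul_smul]
    module)
  have h3 : kr (DU * DL * c.Jn) (DL * DU * c.Jn) ∈ M := by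
    have e : kr DU DL * E * (swapU * (kr DU DL * E) * swapU⁻¹) = kr (DU * DL * c.Jn) (DL * DU * c.Jn) := by
      rw [show swapU * (kr DU DL * E) * swapU⁻¹ = (swapU * kr DU DL * swapU⁻¹) * (swapU * E * swapU⁻¹) by group,
        swapU_kr, mul_assoc, ← mul_assoc E, ← hEc hDLe hDUe, mul_assoc (kr DL DU), hzz, zI, kr_mul, kr_mul,
        ← mul_assoc, ← mul_assoc]
    rw [← e]
    exact M.mul_mem hy (M.mul_mem (M.mul_mem hsw hy) (M.inv_mem hsw))
  obtain ⟨n3, -⟩ := c.kr_nr hM hB h3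
  have q3 := c.evenodd (A := DU * DL * c.Jn) (by rw [Units.val_mul, Units.val_mul, hDU, hDL, c.diag_mul, hJc]) n3
  have hkq : ∀ q ∈ c.Q8, ∀ q' ∈ c.Q8, kr q q' ∈ M := fun q hq q' hq' => (c.S0_le hM (c.S0_base hq hq')).1
  rcases q1 with hb | hb
  · -- both ratios are signs
    obtain ⟨d, hd, hbd⟩ : ∃ d : F, (d = 1 ∨ d = -1) ∧ b = d * a := by
      rcases mul_self_eq_mul_self_iff.1 hb with e | e
      · exact ⟨1, Or.inl rfl, by rw [e, one_mul]⟩
      · exact ⟨-1, Or.inr rfl, by rw [e, neg_one_mul]⟩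
    obtain ⟨d', hd', hbd'⟩ : ∃ d : F, (d = 1 ∨ d = -1) ∧ b' = d * a' := by
      rcases hd with rfl | rfl <;> rcases q3 with e | e <;> rw [hbd] at e
      · exact ⟨-1, Or.inr rfl, mul_left_cancel₀ ha (by linear_combination e)⟩
      · exact ⟨1, Or.inl rfl, mul_left_cancel₀ ha (by linear_combination e)⟩
      · exact ⟨1, Or.inl rfl, mul_left_cancel₀ ha (by linear_combination -e)⟩
      · exact ⟨-1, Or.inr rfl, mul_left_cancel₀ ha (by linear_combination -e)⟩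
    have mk : ∀ (D : GL Z3 F) (a d : F), (d = 1 ∨ d = -1) → (D : Matrix Z3 Z3 F) = a • c.Pe + (d * a) • c.Po →
        ∃ q ∈ c.Q8, ∃ l : F, (D : Matrix Z3 Z3 F) = l • (q : Matrix Z3 Z3 F) := by
      rintro D a d (rfl | rfl) e
      · exact ⟨1, c.Q8.one_mem, a, by rw [e, one_mul, ← smul_add, c.Pe_add_Po, Units.val_one]⟩
      · exact ⟨c.Jn, c.Jn_mem, -a, by rw [e, c.Jn_Pe, smul_sub, neg_one_mul, neg_smul, neg_smul, sub_neg_eq_add]; abel⟩
    obtain ⟨u, hu, l, hl⟩ := mk DU a d hd (by rw [hDU, hbd])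
    obtain ⟨w, hw, l', hl'⟩ := mk DL a' d' hd' (by rw [hDL, hbd'])
    set g : GL Pt F := (kr u w)⁻¹ * (kr DU DL * E) with hg
    have hgM : g ∈ M := M.mul_mem (M.inv_mem (hkq u hu w hw)) hy
    have hgv : (g : Matrix Pt Pt F) = (l * l') • c.emb 1 (c.Jn : Matrix Z3 Z3 F) := by
      rw [hg, Units.val_mul, Units.val_mul, hEv, show (kr DU DL : Matrix Pt Pt F) = (l * l') • (kr u w : Matrix Pt Pt F) by
        rw [kr_val, kr_val, hl, hl', Matrix.smul_kronecker, Matrix.kronecker_smul, smul_smul],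
        Matrix.smul_mul, Matrix.mul_smul, ← mul_assoc, Units.inv_mul, one_mul]
    set v : Ph := (1, 0) with hv
    obtain ⟨x, hx⟩ := c.act_Jn v
    rw [tap_neg_one] at hx
    set h : GL Pt F := kr 1 (c.WU v)
    have hh : h ∈ M := c.one_kr_mem hM (c.nr_WU v) (by rw [WU_val, W_det, one_pow])
    refine c.u_kill hM hB (g := g * h * g⁻¹ * h⁻¹) (M.mul_mem (M.mul_mem (M.mul_mem hgM hh) (M.inv_mem hgM))
      (M.inv_mem hh)) (v := v) (by decide) (a := x) ?_
    have hWW : c.W (-v) = c.W v * c.W v := by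
      rw [W_mul, hv]
      simp
      rfl
    have e : (g * h : GL Pt F).val = c.emb 1 (x • c.W v) * ((h * g : GL Pt F).val) := by
      rw [Units.val_mul g h, Units.val_mul h g, hgv, show (h : Matrix Pt Pt F) = (1 : Matrix Z3 Z3 F) ⊗ₖ c.W v from rfl,
        ← c.emb_diag, Matrix.smul_mul, Matrix.mul_smul, Matrix.mul_smul, c.emb_mul, c.emb_mul, c.emb_mul, hx, hWW]
      simp only [one_mul, mul_one, Matrix.smul_mul, mul_assoc]
    rw [show (g * h * g⁻¹ * h⁻¹ : GL Pt F) = (g * h) * (h * g)⁻¹ by group, Units.val_mul, e, mul_assoc,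
      Units.mul_inv, mul_one]
  · -- the ratios have order four
    obtain ⟨ρ, hρb⟩ : ∃ ρ, b = ρ * a := ⟨b / a, (div_mul_cancel₀ b ha).symm⟩
    have hρ : ρ * ρ = -1 := by
      rw [hρb] at hb
      exact mul_right_cancel₀ (mul_ne_zero ha ha) (by linear_combination hb)
    obtain ⟨σ, hσb⟩ : ∃ σ, b' = σ * a' := ⟨b' / a', (div_mul_cancel₀ b' ha').symm⟩
    have hσ : σ = ρ ∨ σ = -ρ := by
      rw [hρb, hσb] at q3
      rcases q3 with e | e
      · left
        have h : ρ * σ = -1 := mul_right_cancel₀ (mul_ne_zero ha ha') (by linear_combination e)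
        linear_combination σ * hρ - ρ * h
      · right
        have h : ρ * σ = 1 := mul_right_cancel₀ (mul_ne_zero ha ha') (by linear_combination e)
        linear_combination σ * hρ - ρ * h
    have hv : (kr DU DL * E : GL Pt F).val = (a * a') • c.emb (c.Pe + σ • c.Po) (-ρ • c.Pe + (ρ * σ) • c.Po) := by
      rw [Units.val_mul, hEv, kr_val, hDU, hDL, hρb, hσb, emb, emb, mul_add, ← Matrix.mul_kronecker_mul,
        ← Matrix.mul_kronecker_mul, hJc, mul_one, add_mul, add_mul, Matrix.smul_mul, Matrix.smul_mul, Matrix.smul_mul,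
        Matrix.smul_mul, c.Pe_sq, c.Po_mul_Pe, c.Pe_mul_Po, c.Po_sq, smul_zero, smul_zero, add_zero, zero_add,
        show a' • c.Pe + (σ * a') • c.Po = a' • (c.Pe + σ • c.Po) by module,
        show (-a') • c.Pe + (σ * a') • c.Po = a' • (-c.Pe + σ • c.Po) by module,
        show -ρ • c.Pe + (ρ * σ) • c.Po = ρ • (-c.Pe + σ • c.Po) by module]
      simp only [Matrix.smul_kronecker, Matrix.kronecker_smul, smul_smul]
      module
    have key : ∀ (g : GL Pt F) (l : F) (ρ' : F), g ∈ M → ρ' * ρ' = -1 →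
        (g : Matrix Pt Pt F) = l • c.emb (c.Pe + ρ' • c.Po) (ρ' • c.Pe + c.Po) → False := by
      intro g l ρ' hg hρ' hgv
      refine c.rho_false h7 hB (c.WU2_mem hM) hg hρ' (l := l) ?_
      rw [hgv, c.emb_pr]
    rcases hσ with rfl | rfl
    · refine key (kr 1 c.Jn * (kr DU DL * E)) (-(a * a')) (-σ) (M.mul_mem (hkq 1 c.Q8.one_mem _ c.Jn_mem) hy)
        (by linear_combination hρ) ?_
      have e1 : (c.Jn : Matrix Z3 Z3 F) * (c.Pe + σ • c.Po) = (-1 : F) • (c.Pe + -σ • c.Po) := by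
        rw [mul_add, Matrix.mul_smul, c.Jn_mul_Pe, c.Jn_mul_Po]; module
      have e2 : (c.Jn : Matrix Z3 Z3 F) * (-σ • c.Pe + (σ * σ) • c.Po) = (-1 : F) • (-σ • c.Pe + c.Po) := by
        rw [mul_add, Matrix.mul_smul, Matrix.mul_smul, c.Jn_mul_Pe, c.Jn_mul_Po, hρ]; module
      rw [Units.val_mul, hv, kr_val, Units.val_one, ← c.emb_diag, Matrix.mul_smul, c.emb_mul, e1, e2]
      simp only [emb, Matrix.kronecker_smul]
      module
    · refine key _ (a * a') (-ρ) hy (by linear_combination hρ) ?_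
      rw [hv, show ρ * -ρ = 1 by linear_combination -hρ, one_smul]

/-- A square root of an element of the wreath product normalising it lies in it. -/
theorem u_S0_step (hM : c.Over M) (hB : c.BlockNr M) (h7 : (7 : F) ≠ 0)
    {P : Subgroup (GL Pt F)} (hP2 : IsPGroup 2 P) (hPle : P ≤ M ⊓ Subgroup.centralizer {c.zI}) (hS : c.S0 ≤ P)
    {y : GL Pt F} (hy : y ∈ P) (hn : ∀ s ∈ c.S0, y * s * y⁻¹ ∈ c.S0) (hy2 : y * y ∈ c.S0) : y ∈ c.S0 := by
  classical
  set t : GL Pt F := kr c.Jn 1 with ht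
  set t' : GL Pt F := kr 1 c.Jn with ht'
  have htS : t ∈ c.S0 := c.S0_base c.Jn_mem c.Q8.one_mem
  have hzt : t' = c.zI * t := by rw [ht, ht', zI, kr_mul, c.Jn_sq, mul_one]
  have hz : ∀ x ∈ P, x * c.zI = c.zI * x := fun x hx => Subgroup.mem_centralizer_singleton_iff.1 (hPle hx).2
  have h12 : (3 : F) * 3 ≠ -3 := fun e => mul_ne_zero (mul_ne_zero c.two c.two) c.three (by linear_combination e)
  have ttr : ∀ g : GL Pt F, (g * t * g⁻¹ : GL Pt F).val.trace = -3 := fun g => by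
    rw [Units.val_mul, Units.val_mul, Matrix.trace_units_conj, ht, kr_trace, c.Jn_trace]
    simp [ZMod.card]
  -- reduce to an element commuting with both involutions
  obtain ⟨y1, hy1P, hy1n, hy1t, hback, hy12⟩ : ∃ y1 ∈ P, (∀ s ∈ c.S0, y1 * s * y1⁻¹ ∈ c.S0) ∧ y1 * t = t * y1 ∧
      (y1 ∈ c.S0 → y ∈ c.S0) ∧ y1 * y1 ∈ c.S0 := by
    have hs := hn _ (c.S0_base c.Fq_mem c.Q8.one_mem)
    obtain ⟨a, ha, b, hb', e⟩ := c.S0_sq hs
    have e' : y * t * y⁻¹ = kr a b := by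
      rw [← e, ht, show c.Jn = c.Fq * c.Fq from rfl, show kr (c.Fq * c.Fq) (1 : GL Z3 F) = kr c.Fq 1 * kr c.Fq 1 by
        rw [kr_mul, mul_one]]
      group
    have h2 : kr a b * kr a b = 1 := by
      rw [← e', show y * t * y⁻¹ * (y * t * y⁻¹) = y * (t * t) * y⁻¹ by group, ht, kr_mul, c.Jn_sq, one_mul, kr_one,
        mul_one, mul_inv_cancel]
    rw [kr_mul] at h2
    obtain ⟨ea, eb⟩ := c.kr_Q8_one (c.Q8.mul_mem ha ha) (c.Q8.mul_mem hb' hb') h2
    have htr := ttr y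
    rw [e', kr_trace] at htr
    rcases c.Q8_sq ha ea with rfl | rfl <;> rcases c.Q8_sq hb' eb with rfl | rfl
    · exfalso
      simp [ZMod.card] at htr
      exact h12 (by linear_combination htr)
    · refine ⟨swapU * y, P.mul_mem (hS c.swap_S0) hy, fun s hs => ?_, ?_, fun h => ?_, ?_⟩
      · rw [show swapU * y * s * (swapU * y)⁻¹ = swapU * (y * s * y⁻¹) * swapU⁻¹ by group]
        exact c.S0.mul_mem (c.S0.mul_mem c.swap_S0 (hn s hs)) (c.S0.inv_mem c.swap_S0)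
      · rw [← mul_inv_eq_iff_eq_mul, show swapU * y * t * (swapU * y)⁻¹ = swapU * (y * t * y⁻¹) * swapU⁻¹ by group,
          e', swapU_kr, ht]
      · have := c.S0.mul_mem c.swap_S0 h
        rwa [← mul_assoc, swapU_sq, one_mul] at this
      · rw [show swapU * y * (swapU * y) = swapU * (y * swapU * y⁻¹) * (y * y) by group]
        exact c.S0.mul_mem (c.S0.mul_mem c.swap_S0 (hn _ c.swap_S0)) hy2
    · exact ⟨y, hy, hn, mul_inv_eq_iff_eq_mul.1 e', id, hy2⟩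
    · exfalso
      simp [ZMod.card, c.Jn_trace] at htr
      exact mul_ne_zero c.two c.two (by linear_combination htr)
  apply hback
  clear hback hn hy hy2
  -- conjugation on the first quaternion group
  have conjQ : ∀ x ∈ P, (∀ s ∈ c.S0, x * s * x⁻¹ ∈ c.S0) → x * t = t * x → ∀ q ∈ c.Q8,
      (q : Matrix Z3 Z3 F).trace ≠ 0 → q * q = c.Jn → ∃ q' ∈ c.Q8, x * kr q 1 * x⁻¹ = kr q' 1 := by
    intro x hxP hxn hxt q hq htq hqq
    have hxt' : x * t' = t' * x := by rw [hzt, ← mul_assoc, hz x hxP, mul_assoc, hxt, mul_assoc]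
    have hc : x * t * x⁻¹ = t := mul_inv_eq_iff_eq_mul.2 hxt
    obtain ⟨a, ha, b, hb', e | e⟩ := hxn _ (c.S0_base hq c.Q8.one_mem)
    · have e2 : kr (a * a) (b * b) = t := by
        rw [← kr_mul, ← e, show x * kr q 1 * x⁻¹ * (x * kr q 1 * x⁻¹) = x * (kr q 1 * kr q 1) * x⁻¹ by group,
          kr_mul, hqq, one_mul, ← ht, hc]
      have e3 : kr (a * a * c.Jn⁻¹) (b * b) = 1 := by
        rw [show kr (a * a * c.Jn⁻¹) (b * b) = kr (a * a) (b * b) * kr c.Jn⁻¹ 1 by rw [kr_mul, mul_one], e2, ht,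
          kr_mul, mul_inv_cancel, one_mul, kr_one]
      obtain ⟨-, eb⟩ := c.kr_Q8_one (c.Q8.mul_mem (c.Q8.mul_mem ha ha) (c.Q8.inv_mem c.Jn_mem))
        (c.Q8.mul_mem hb' hb') e3
      rcases c.Q8_sq hb' eb with rfl | rfl
      · exact ⟨a, ha, e⟩
      · exfalso
        have t1 : (x * kr q 1 * x⁻¹ : GL Pt F).val.trace = (kr q 1 : GL Pt F).val.trace := by
          rw [Units.val_mul, Units.val_mul, Matrix.trace_units_conj]
        have t2 : (x * (kr q 1 * t') * x⁻¹ : GL Pt F).val.trace = (kr q 1 * t' : GL Pt F).val.trace := by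
          rw [Units.val_mul, Units.val_mul, Matrix.trace_units_conj]
        rw [e, kr_trace, kr_trace, c.Jn_trace] at t1
        rw [show x * (kr q 1 * t') * x⁻¹ = x * kr q 1 * x⁻¹ * (x * t' * x⁻¹) by group, e,
          mul_inv_eq_iff_eq_mul.2 hxt', ht', kr_mul, kr_mul, kr_trace, kr_trace, c.Jn_sq, mul_one, mul_one, one_mul,
          c.Jn_trace] at t2
        simp [ZMod.card] at t1 t2
        have h8 : (2 : F) * 2 * 2 * (q : Matrix Z3 Z3 F).trace = 0 := by linear_combination (-3) * t1 - t2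
        exact mul_ne_zero (mul_ne_zero (mul_ne_zero c.two c.two) c.two) htq h8
    · exfalso
      have hk : kr q 1 * t = t * kr q 1 := by
        rw [ht, kr_mul, kr_mul, ← hqq, mul_assoc]
      have h1 : kr a b * swapU * t = t * (kr a b * swapU) := by
        rw [← e]
        calc x * kr q 1 * x⁻¹ * t = x * kr q 1 * x⁻¹ * (x * t * x⁻¹) := by rw [hc]
          _ = x * (kr q 1 * t) * x⁻¹ := by group
          _ = x * (t * kr q 1) * x⁻¹ := by rw [hk]
          _ = x * t * x⁻¹ * (x * kr q 1 * x⁻¹) := by group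
          _ = t * (x * kr q 1 * x⁻¹) := by rw [hc]
      rw [ht, mul_assoc, ← swap_kr_swap, ← mul_assoc, ← mul_assoc, kr_mul, kr_mul, mul_left_inj] at h1
      rw [mul_one, one_mul] at h1
      have h1' : kr (a⁻¹ * (c.Jn * a))⁻¹ (b⁻¹ * (b * c.Jn)) = 1 := by
        have := congrArg (fun g => (kr a b)⁻¹ * g) h1
        simp only [kr_inv, kr_mul] at this
        rw [show kr (a⁻¹ * (c.Jn * a))⁻¹ (b⁻¹ * (b * c.Jn)) = (kr (a⁻¹ * (c.Jn * a)) 1)⁻¹ * kr 1 (b⁻¹ * (b * c.Jn)) by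
          rw [kr_inv, kr_mul, inv_one, one_mul, mul_one]]
        rw [inv_mul_eq_one]
        simpa using this.symm
      obtain ⟨-, e4⟩ := c.kr_Q8_one (c.Q8.inv_mem (c.Q8.mul_mem (c.Q8.inv_mem ha) (c.Q8.mul_mem c.Jn_mem ha)))
        (c.Q8.mul_mem (c.Q8.inv_mem hb') (c.Q8.mul_mem hb' c.Jn_mem)) h1'
      rw [inv_mul_cancel_left] at e4
      have := congrArg (fun g : GL Z3 F => (g : Matrix Z3 Z3 F).trace) e4
      simp only [c.Jn_trace, Units.val_one, Matrix.trace_one, ZMod.card, Nat.cast_ofNat] at this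
      exact mul_ne_zero c.two c.two (by linear_combination -this)
  have hGG : c.Gq * c.Gq = c.Jn := by
    have : c.Kq * c.Jn * c.Kq⁻¹ = c.Jn := by
      rw [mul_inv_eq_iff_eq_mul]
      exact Units.ext (by rw [Units.val_mul, Units.val_mul, Jn_val, mul_neg, neg_mul, c.Kq_even])
    rw [← this, Gq, Jn]
    group
  have hFt : (c.Fq : Matrix Z3 Z3 F).trace ≠ 0 := by rw [Fq_trace]; exact one_ne_zero
  have hGt : (c.Gq : Matrix Z3 Z3 F).trace ≠ 0 := by rw [Gq_trace]; exact one_ne_zero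
  obtain ⟨A, hA, eA⟩ := conjQ y1 hy1P hy1n hy1t _ c.Fq_mem hFt rfl
  obtain ⟨B, hB', eB⟩ := conjQ y1 hy1P hy1n hy1t _ c.Gq_mem hGt hGG
  -- the intertwiner
  have hevy : ∀ k l, c.Even' (slc (y1 : Matrix Pt Pt F) k l) := fun k l => by
    have h := congrArg (fun g : GL Pt F => slc (g : Matrix Pt Pt F) k l) hy1t
    simp only [Units.val_mul, ht, kr_val, Units.val_one, slc_mul_kr, slc_kr_mul, Jn_val, mul_neg, neg_mul, neg_inj] at h
    exact h.symm
  have hint : ∀ (q q' : GL Z3 F), y1 * kr q 1 * y1⁻¹ = kr q' 1 → ∀ k l,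
      slc (y1 : Matrix Pt Pt F) k l * (q : Matrix Z3 Z3 F) = (q' : Matrix Z3 Z3 F) * slc (y1 : Matrix Pt Pt F) k l :=
    fun q q' e k l => by
      have h := congrArg (fun g : GL Pt F => slc (g : Matrix Pt Pt F) k l) (mul_inv_eq_iff_eq_mul.1 e)
      simpa only [Units.val_mul, kr_val, Units.val_one, slc_mul_kr, slc_kr_mul] using h
  have mkQ : ∀ k l, slc (y1 : Matrix Pt Pt F) k l * c.Pe ≠ 0 → ∃ Q : GL Z3 F,
      (Q : Matrix Z3 Z3 F) = slc (y1 : Matrix Pt Pt F) k l * c.Pe + c.Po := by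
    intro k l hne
    set Y := slc (y1 : Matrix Pt Pt F) k l
    have hinj : ∀ v, (Y * c.Pe + c.Po) *ᵥ v = 0 → v = 0 := by
      intro v hv
      have hv1 : c.Po *ᵥ v = 0 := by
        have := congrArg (fun x => c.Po *ᵥ x) hv
        rw [Matrix.mulVec_mulVec, mul_add, ← mul_assoc, c.even_comm_Po (hevy k l), mul_assoc, c.Po_mul_Pe, mul_zero,
          zero_add, c.Po_sq, Matrix.mulVec_zero] at this
        exact this
      have hve : c.Pe *ᵥ v = v := by
        have := congrArg (fun X => X *ᵥ v) c.Pe_add_Po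
        simpa [Matrix.add_mulVec, hv1] using this
      by_contra hv0
      rw [Matrix.add_mulVec, hv1, add_zero, ← Matrix.mulVec_mulVec, hve] at hv
      exact hne (c.intertwiner_ker (hint _ _ eA k l) (hint _ _ eB k l) hv0 hve hv)
    have hu : IsUnit (Y * c.Pe + c.Po) := Matrix.mulVec_injective_iff_isUnit.1 fun u v e => sub_eq_zero.1
      (hinj _ (by rw [Matrix.mulVec_sub, e, sub_self]))
    exact ⟨hu.unit, hu.unit_spec⟩
  obtain ⟨k0, l0, hne⟩ : ∃ k l, slc (y1 : Matrix Pt Pt F) k l * c.Pe ≠ 0 := by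
    by_contra hno
    push Not at hno
    have h : (y1 : Matrix Pt Pt F) * (c.Pe ⊗ₖ (1 : Matrix Z3 Z3 F)) = 0 := slc_ext fun k l => by
      rw [slc_mul_kr, hno]
      rfl
    have := congrArg (fun X => ((y1⁻¹ : GL Pt F) : Matrix Pt Pt F) * X) h
    simp only [← mul_assoc, Units.inv_mul, one_mul, mul_zero] at this
    have h0 := congrFun (congrFun this (0, 0)) (0, 0)
    simp [c.Pe_00] at h0
  obtain ⟨Q, hQ⟩ := mkQ k0 l0 hne
  have hQe : c.Even' (Q : Matrix Z3 Z3 F) := by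
    show _ * _ = _ * _
    have hP : c.Even' c.Pe ∧ c.Even' c.Po := by
      constructor <;> show _ * _ = _ * _
      · rw [Pe, Matrix.mul_smul, Matrix.smul_mul, mul_add, add_mul, mul_one, one_mul]
      · rw [Po, Matrix.mul_smul, Matrix.smul_mul, mul_sub, sub_mul, mul_one, one_mul]
    rw [hQ, mul_add, add_mul, c.even_mul (hevy k0 l0) hP.1, hP.2]
  have hfix : ∀ {q : GL Z3 F}, q ∈ c.Q8 → (q : Matrix Z3 Z3 F) * c.Po = c.Po := fun {q} hq => by
    have := c.mul_Po_of_fix hq.2.1 (a := 1) (by rw [one_smul]; exact hq.2.2)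
    rwa [one_smul] at this
  have hQint : ∀ (q q' : GL Z3 F), q ∈ c.Q8 → q' ∈ c.Q8 → y1 * kr q 1 * y1⁻¹ = kr q' 1 → ∀ k l,
      (slc (y1 : Matrix Pt Pt F) k l * c.Pe + c.Po) * (q : Matrix Z3 Z3 F) =
        (q' : Matrix Z3 Z3 F) * (slc (y1 : Matrix Pt Pt F) k l * c.Pe + c.Po) := by
    intro q q' hq hq' e k l
    rw [add_mul, mul_add, mul_assoc _ c.Pe, c.even_comm_Pe hq.2.1, ← mul_assoc, hint _ _ e k l, mul_assoc,
      c.even_comm_Po hq.2.1, hfix hq, hfix hq']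
  have hrep : ∀ k l, ∃ a b : F, slc (y1 : Matrix Pt Pt F) k l =
      a • ((Q : Matrix Z3 Z3 F) * c.Pe) + b • c.Po := by
    intro k l
    set Z := ((Q⁻¹ : GL Z3 F) : Matrix Z3 Z3 F) * (slc (y1 : Matrix Pt Pt F) k l * c.Pe + c.Po) with hZ
    have hQ' : ∀ (q q' : GL Z3 F), q ∈ c.Q8 → q' ∈ c.Q8 → y1 * kr q 1 * y1⁻¹ = kr q' 1 →
        Z * (q : Matrix Z3 Z3 F) = (q : Matrix Z3 Z3 F) * Z := by
      intro q q' hq hq' e
      have h1 := hQint q q' hq hq' e k l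
      have h2 := hQint q q' hq hq' e k0 l0
      rw [← hQ] at h2
      rw [hZ, mul_assoc, h1, ← mul_assoc, ← mul_assoc]
      congr 1
      calc ((Q⁻¹ : GL Z3 F) : Matrix Z3 Z3 F) * (q' : Matrix Z3 Z3 F)
          = ((Q⁻¹ : GL Z3 F) : Matrix Z3 Z3 F) * ((q' : Matrix Z3 Z3 F) * (Q : Matrix Z3 Z3 F)) * ((Q⁻¹ : GL Z3 F) : Matrix Z3 Z3 F) := by
            rw [mul_assoc, mul_assoc, Units.mul_inv, mul_one]
        _ = (q : Matrix Z3 Z3 F) * ((Q⁻¹ : GL Z3 F) : Matrix Z3 Z3 F) := by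
            rw [← h2, ← mul_assoc, Units.inv_mul, one_mul]
    have hP : c.Even' c.Pe ∧ c.Even' c.Po := by
      constructor <;> show _ * _ = _ * _
      · rw [Pe, Matrix.mul_smul, Matrix.smul_mul, mul_add, add_mul, mul_one, one_mul]
      · rw [Po, Matrix.mul_smul, Matrix.smul_mul, mul_sub, sub_mul, mul_one, one_mul]
    have hZe : c.Even' Z := by
      refine c.even_mul (c.even_inv hQe) ?_
      show _ * _ = _ * _
      rw [mul_add, add_mul, c.even_mul (hevy k l) hP.1, hP.2]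
    obtain ⟨a, b, hab⟩ := c.commutant hZe (hQ' _ _ c.Fq_mem hA eA) (hQ' _ _ c.Gq_mem hB' eB)
    have h1 : slc (y1 : Matrix Pt Pt F) k l * c.Pe = a • ((Q : Matrix Z3 Z3 F) * c.Pe) := by
      have h := congrArg (fun X => (Q : Matrix Z3 Z3 F) * X * c.Pe) hab
      simp only [hZ, ← mul_assoc, Units.mul_inv, one_mul, mul_add, Matrix.mul_smul, add_mul, Matrix.smul_mul] at h
      rwa [mul_assoc _ c.Pe c.Pe, c.Pe_sq, c.Po_mul_Pe, add_zero, mul_assoc _ c.Pe c.Pe, c.Pe_sq,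
        mul_assoc _ c.Po c.Pe, c.Po_mul_Pe, mul_zero, smul_zero, add_zero] at h
    set Y := slc (y1 : Matrix Pt Pt F) k l
    obtain ⟨r, hr⟩ : ∃ r : F, Y *ᵥ c.ov = r • c.ov := by
      refine ⟨(Y *ᵥ c.ov) 1, funext fun x => ?_⟩
      have h := congrArg (fun X => X *ᵥ c.ov) (c.even_comm_Po (hevy k l))
      simp only [← Matrix.mulVec_mulVec, c.Po_ov] at h
      rw [← h]
      simp only [Pi.smul_apply, smul_eq_mul, ov, Po, Matrix.smul_mulVec, Matrix.sub_mulVec, Matrix.one_mulVec,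
        Pi.sub_apply, Matrix.mulVec, dotProduct, c.sum_z]
      rcases (show ∀ a : ZMod 3, a = 0 ∨ a = 1 ∨ a = 2 by decide) x with rfl | rfl | rfl <;>
        simp +decide [Jm] <;> ring
    refine ⟨a, r, ?_⟩
    have h2 : Y * c.Po = r • c.Po := c.mul_Po_of_fix (hevy k l) hr
    rw [← h1, ← h2, ← mul_add, c.Pe_add_Po, mul_one]
  choose Lm Xm hLX using hrep
  set QP := (Q : Matrix Z3 Z3 F) * c.Pe with hQP
  set Lx : Matrix Z3 Z3 F := Matrix.of Lm with hLx
  set Xx : Matrix Z3 Z3 F := Matrix.of Xm with hXx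
  have hy1val : (y1 : Matrix Pt Pt F) = QP ⊗ₖ Lx + c.Po ⊗ₖ Xx := slc_ext fun k l => by
    rw [slc_add, slc_kr, slc_kr]; exact hLX k l
  have hQPne : QP ≠ 0 := fun h => by
    have := congrArg (fun X => ((Q⁻¹ : GL Z3 F) : Matrix Z3 Z3 F) * X) h
    rw [hQP, ← mul_assoc, Units.inv_mul, one_mul, mul_zero] at this
    exact c.Pe_ne this
  have hPoQP : c.Po * QP = 0 := by
    rw [hQP, ← mul_assoc, c.even_comm_Po hQe, mul_assoc, c.Po_mul_Pe, mul_zero]
  have hQPPo : QP * c.Po = 0 := by rw [hQP, mul_assoc, c.Pe_mul_Po, mul_zero]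
  have hPeQP : c.Pe * QP = QP := by rw [hQP, ← mul_assoc, c.even_comm_Pe hQe, mul_assoc, c.Pe_sq]
  have hQPPe : QP * c.Pe = QP := by rw [hQP, mul_assoc, c.Pe_sq]
  have coeff : ∀ {L L' X X' : Matrix Z3 Z3 F}, QP ⊗ₖ L + c.Po ⊗ₖ X = QP ⊗ₖ L' + c.Po ⊗ₖ X' → L = L' ∧ X = X' := by
    intro L L' X X' h
    have h' : ∀ k l, L k l • QP + X k l • c.Po = L' k l • QP + X' k l • c.Po := fun k l => by
      simpa only [slc_add, slc_kr] using congrArg (fun Y => slc Y k l) h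
    constructor <;> ext k l
    · have := congrArg (fun Y => Y * c.Pe) (h' k l)
      simp only [add_mul, Matrix.smul_mul, hQPPe, c.Po_mul_Pe, smul_zero, add_zero] at this
      exact smul_left_injective F hQPne this
    · have := congrArg (fun Y => (Y * c.Po) 1 1 - (Y * c.Po) 1 2) (h' k l)
      simp only [add_mul, Matrix.smul_mul, hQPPo, c.Po_sq, smul_zero, zero_add, Matrix.smul_apply, smul_eq_mul,
        ← mul_sub, c.Po_d, mul_one] at this
      exact this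
  have embmul : ∀ B' X' : Matrix Z3 Z3 F, (y1 : Matrix Pt Pt F) * c.emb B' X' = QP ⊗ₖ (Lx * B') + c.Po ⊗ₖ (Xx * X') ∧
      c.emb B' X' * (y1 : Matrix Pt Pt F) = QP ⊗ₖ (B' * Lx) + c.Po ⊗ₖ (X' * Xx) := by
    intro B' X'
    rw [hy1val, emb]
    constructor <;> simp only [add_mul, mul_add, ← Matrix.mul_kronecker_mul, hQPPe, hQPPo, c.Po_mul_Pe, c.Po_sq,
      hPeQP, hPoQP, c.Pe_mul_Po, Matrix.zero_kronecker, add_zero, zero_add]
  -- the coefficients are invertible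
  have hLinj : IsUnit Lx ∧ IsUnit Xx := by
    constructor <;> refine Matrix.mulVec_injective_iff_isUnit.1 fun u v e => sub_eq_zero.1 ?_ <;>
      by_contra hne
    all_goals
      have hker : ∀ w : Z3 → F, (y1 : Matrix Pt Pt F) *ᵥ (fun p : Pt => w p.1 * (u - v) p.2) =
          fun p : Pt => (QP *ᵥ w) p.1 * (Lx *ᵥ (u - v)) p.2 + (c.Po *ᵥ w) p.1 * (Xx *ᵥ (u - v)) p.2 := by
        intro w
        funext p
        rw [hy1val, Matrix.add_mulVec, Pi.add_apply]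
        simp only [Matrix.mulVec, dotProduct, Fintype.sum_prod_type, Matrix.kroneckerMap_apply, Finset.sum_mul_sum]
        congr 1 <;> exact Finset.sum_congr rfl fun i _ => Finset.sum_congr rfl fun j _ => by ring
      have hz0 : ∀ w : Z3 → F, (y1 : Matrix Pt Pt F) *ᵥ (fun p : Pt => w p.1 * (u - v) p.2) = 0 →
          ∀ x j, w x * (u - v) j = 0 := by
        intro w h x j
        have := congrArg (fun X => ((y1⁻¹ : GL Pt F) : Matrix Pt Pt F) *ᵥ X) h
        simp only [Matrix.mulVec_mulVec, Units.inv_mul, Matrix.one_mulVec, Matrix.mulVec_zero] at this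
        exact congrFun this (x, j)
      obtain ⟨j, hj⟩ := Function.ne_iff.1 hne
    · have := hz0 (Pi.single 0 1) (by
        rw [hker]
        funext p
        have h1 : (Lx *ᵥ (u - v)) = 0 := by rw [Matrix.mulVec_sub, e, sub_self]
        have h2 : (c.Po *ᵥ Pi.single 0 1) = 0 := by
          funext x
          rw [Matrix.mulVec_single, Pi.smul_apply]
          rcases (show ∀ a : ZMod 3, a = 0 ∨ a = 1 ∨ a = 2 by decide) x with rfl | rfl | rfl <;>
            simp +decide [Po, Jm]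
        simp [h1, h2]) 0 j
      simp at this
      exact hj (by simpa using this)
    · have := hz0 c.ov (by
        rw [hker]
        funext p
        have h1 : (Xx *ᵥ (u - v)) = 0 := by rw [Matrix.mulVec_sub, e, sub_self]
        have h2 : QP *ᵥ c.ov = 0 := by rw [hQP, ← Matrix.mulVec_mulVec, c.Pe_ov, Matrix.mulVec_zero]
        simp [h1, h2]) 1 j
      simp [ov] at this
      exact hj (by simpa using this)
  obtain ⟨⟨L, hL⟩, ⟨X, hX⟩⟩ := hLinj
  -- the second qutrit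
  have hzy := hz y1 hy1P
  have hy1t' : y1 * t' = t' * y1 := by rw [hzt, ← mul_assoc, hzy, mul_assoc, hy1t, mul_assoc]
  have hsw := c.swap_mem hM
  have hswt : swapU * t * swapU⁻¹ = t' := by rw [ht, ht', swapU_kr]
  set x' := swapU * y1 * swapU⁻¹ with hx'
  have hx'P : x' ∈ P := P.mul_mem (P.mul_mem (hS c.swap_S0) hy1P) (P.inv_mem (hS c.swap_S0))
  have hx'n : ∀ s ∈ c.S0, x' * s * x'⁻¹ ∈ c.S0 := fun s hs => by
    rw [hx', show swapU * y1 * swapU⁻¹ * s * (swapU * y1 * swapU⁻¹)⁻¹ =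
      swapU * (y1 * (swapU⁻¹ * s * swapU) * y1⁻¹) * swapU⁻¹ by group]
    exact c.S0.mul_mem (c.S0.mul_mem c.swap_S0 (hy1n _ (c.S0.mul_mem (c.S0.mul_mem (c.S0.inv_mem c.swap_S0) hs)
      c.swap_S0))) (c.S0.inv_mem c.swap_S0)
  have hx't : x' * t = t * x' := by
    have e : swapU * t' * swapU⁻¹ = t := by rw [ht, ht', swapU_kr]
    rw [← e, hx']
    calc swapU * y1 * swapU⁻¹ * (swapU * t' * swapU⁻¹) = swapU * (y1 * t') * swapU⁻¹ := by group
      _ = swapU * (t' * y1) * swapU⁻¹ := by rw [hy1t']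
      _ = swapU * t' * swapU⁻¹ * (swapU * y1 * swapU⁻¹) := by group
  have conj2 : ∀ q ∈ c.Q8, (q : Matrix Z3 Z3 F).trace ≠ 0 → q * q = c.Jn →
      ∃ q' ∈ c.Q8, y1 * kr 1 q = kr 1 q' * y1 := by
    intro q hq htq hqq
    obtain ⟨q', hq', e⟩ := conjQ x' hx'P hx'n hx't q hq htq hqq
    refine ⟨q', hq', ?_⟩
    have e' : swapU * (x' * kr q 1 * x'⁻¹) * swapU⁻¹ = kr 1 q' := by rw [e, swapU_kr]
    rw [← e', hx', swapU_inv, ← swapU_kr q 1, swapU_inv]
    simp only [_root_.mul_inv_rev, swapU_inv, mul_assoc, swapU_sq, mul_one, inv_mul_cancel]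
    simp only [← mul_assoc, swapU_sq, one_mul]
  have rel2 : ∀ q q' : GL Z3 F, y1 * kr 1 q = kr 1 q' * y1 → L * q = q' * L ∧ X * q = q' * X := by
    intro q q' e
    have e' := congrArg Units.val e
    simp only [Units.val_mul, kr_val, Units.val_one, ← c.emb_diag] at e'
    rw [(embmul _ _).1, (embmul _ _).2, ← hL, ← hX] at e'
    obtain ⟨e1, e2⟩ := coeff e'
    exact ⟨Units.ext (by simpa using e1), Units.ext (by simpa using e2)⟩
  obtain ⟨F2, hF2, eF2⟩ := conj2 _ c.Fq_mem hFt rfl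
  obtain ⟨G2, hG2, eG2⟩ := conj2 _ c.Gq_mem hGt hGG
  obtain ⟨rF, rF'⟩ := rel2 _ _ eF2
  obtain ⟨rG, rG'⟩ := rel2 _ _ eG2
  have hLXe : c.Even' (L : Matrix Z3 Z3 F) ∧ c.Even' (X : Matrix Z3 Z3 F) := by
    obtain ⟨a1, a2⟩ := rel2 c.Jn c.Jn hy1t'
    have a1' := congrArg Units.val a1
    have a2' := congrArg Units.val a2
    rw [Units.val_mul, Units.val_mul, Jn_val, mul_neg, neg_mul, neg_inj] at a1' a2'
    exact ⟨a1'.symm, a2'.symm⟩
  have hLXc : ∀ q q' : GL Z3 F, L * q = q' * L → X * q = q' * X → L⁻¹ * X * q = q * (L⁻¹ * X) := fun q q' h1 h2 => by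
    rw [mul_assoc, h2, ← mul_assoc, ← mul_assoc, show L⁻¹ * q' = q * L⁻¹ by
      rw [eq_mul_inv_iff_mul_eq, mul_assoc, ← h1, inv_mul_cancel_left]]
  obtain ⟨r, s, hrs⟩ := c.commutant (X := ((L⁻¹ * X : GL Z3 F) : Matrix Z3 Z3 F))
    (by rw [Units.val_mul]; exact c.even_mul (c.even_inv hLXe.1) hLXe.2)
    (congrArg Units.val (hLXc _ _ rF rF')) (congrArg Units.val (hLXc _ _ rG rG'))
  have hXv : (X : Matrix Z3 Z3 F) = (L : Matrix Z3 Z3 F) * (r • c.Pe + s • c.Po) := by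
    rw [← hrs, ← Units.val_mul, mul_inv_cancel_left]
  have hs0 : s ≠ 0 := fun h => by
    have e : (X : Matrix Z3 Z3 F) * c.Po = 0 := by
      rw [hXv, h, zero_smul, add_zero, Matrix.mul_smul, Matrix.smul_mul, mul_assoc, c.Pe_mul_Po, mul_zero, smul_zero]
    have := congrArg (fun Y => ((X⁻¹ : GL Z3 F) : Matrix Z3 Z3 F) * Y) e
    simp only [← mul_assoc, Units.inv_mul, one_mul, mul_zero] at this
    have h1 := c.Po_d
    rw [this] at h1
    simp at h1
  -- a factor on the first qutrit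
  have hu1 : IsUnit (QP + s • c.Po) := by
    refine Matrix.mulVec_injective_iff_isUnit.1 fun u v e => sub_eq_zero.1 ?_
    have h : (QP + s • c.Po) *ᵥ (u - v) = 0 := by rw [Matrix.mulVec_sub, e, sub_self]
    have h1 : c.Po *ᵥ (u - v) = 0 := by
      have := congrArg (fun x => c.Po *ᵥ x) h
      simp only [Matrix.mulVec_mulVec, mul_add, Matrix.mul_smul, hPoQP, zero_add, c.Po_sq,
        Matrix.smul_mulVec, Matrix.mulVec_zero] at this
      exact (smul_eq_zero.1 this).resolve_left hs0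
    have h2 : c.Pe *ᵥ (u - v) = 0 := by
      have h' := h
      rw [Matrix.add_mulVec, Matrix.smul_mulVec, h1, smul_zero, add_zero, hQP, ← Matrix.mulVec_mulVec] at h'
      have h'' := congrArg (fun x => ((Q⁻¹ : GL Z3 F) : Matrix Z3 Z3 F) *ᵥ x) h'
      simpa [Matrix.mulVec_mulVec] using h''
    have := congrArg (fun Y => Y *ᵥ (u - v)) c.Pe_add_Po
    simpa [Matrix.add_mulVec, h1, h2] using this.symm
  obtain ⟨U, hU⟩ := hu1
  have hUPe : (U : Matrix Z3 Z3 F) * c.Pe = QP := by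
    rw [hU, add_mul, hQPPe, Matrix.smul_mul, c.Po_mul_Pe, smul_zero, add_zero]
  have hUPo : (U : Matrix Z3 Z3 F) * c.Po = s • c.Po := by
    rw [hU, add_mul, hQPPo, Matrix.smul_mul, c.Po_sq, zero_add]
  have hUe : c.Even' (U : Matrix Z3 Z3 F) := by
    show _ * _ = _ * _
    rw [hU, hQP, mul_add, add_mul, mul_smul_comm, smul_mul_assoc, c.even_mul hQe c.Pe_even, c.Po_even]
  set k : F := r / s with hk
  have hX' : (X : Matrix Z3 Z3 F) = s • ((L : Matrix Z3 Z3 F) * (k • c.Pe + c.Po)) := by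
    rw [hXv, ← Matrix.mul_smul, smul_add, smul_smul, hk, mul_div_cancel₀ _ hs0]
  have hy1f : (y1 : Matrix Pt Pt F) = (kr U L : Matrix Pt Pt F) * c.emb 1 (k • c.Pe + c.Po) := by
    rw [kr_val, emb, mul_add, ← Matrix.mul_kronecker_mul, ← Matrix.mul_kronecker_mul, hUPe, hUPo, mul_one, hy1val,
      ← hL, ← hX, hX', Matrix.smul_kronecker, Matrix.kronecker_smul]
  have hLd : (L : Matrix Z3 Z3 F) * (k • c.Pe + c.Po) = (k • c.Pe + c.Po) * (L : Matrix Z3 Z3 F) := by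
    have h := c.even_comm_Pe hLXe.1
    have h' := c.even_comm_Po hLXe.1
    rw [mul_add, add_mul, Matrix.mul_smul, Matrix.smul_mul, h, h']
  have hcomm0 : c.emb 1 (k • c.Pe + c.Po) * (kr U L : Matrix Pt Pt F) =
      (kr U L : Matrix Pt Pt F) * c.emb 1 (k • c.Pe + c.Po) := c.emb_comm_kr hUe (by simp) hLd
  obtain ⟨a, ha, b, hb', hab⟩ := c.S0_comm_t hy12 (by
    rw [← ht]; exact (Commute.mul_left (show Commute y1 t from hy1t) (show Commute y1 t from hy1t)).eq)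
  have hk2 : k * k = 1 := by
    refine c.emb_kr_eq (V := (U * U)⁻¹ * a) (V' := (L * L)⁻¹ * b) ?_
    rw [show kr ((U * U)⁻¹ * a) ((L * L)⁻¹ * b) = (kr (U * U) (L * L))⁻¹ * (y1 * y1) by rw [hab, kr_inv, kr_mul],
      Units.val_mul, Units.val_mul y1, hy1f, mul_assoc, ← mul_assoc (c.emb 1 _) (kr U L : Matrix Pt Pt F), hcomm0,
      mul_assoc, c.emb_mul, one_mul, show k • c.Pe + c.Po = k • c.Pe + (1 : F) • c.Po by rw [one_smul], c.diag_mul,
      one_mul, one_smul, ← mul_assoc (kr U L : Matrix Pt Pt F), ← Units.val_mul, kr_mul, ← mul_assoc, Units.inv_mul,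
      one_mul]
  have hQF : ∀ q q' : GL Z3 F, q ∈ c.Q8 → q' ∈ c.Q8 → y1 * kr q 1 * y1⁻¹ = kr q' 1 → U * q = q' * U := by
    intro q q' hq hq' e
    refine Units.ext ?_
    have h := hQint q q' hq hq' e k0 l0
    rw [← hQ] at h
    rw [Units.val_mul, Units.val_mul, hU, hQP, add_mul, mul_add, mul_assoc, c.even_comm_Pe hq.2.1, ← mul_assoc, h,
      mul_assoc, Matrix.smul_mul, Matrix.mul_smul, c.even_comm_Po hq.2.1, hfix hq, hfix hq']
  have hUF : U * c.Fq * U⁻¹ ∈ c.Q8 := by rw [hQF _ _ c.Fq_mem hA eA, mul_inv_cancel_right]; exact hA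
  have hLF : L * c.Fq * L⁻¹ ∈ c.Q8 := by rw [rF, mul_inv_cancel_right]; exact hF2
  have hy1M : y1 ∈ M := (hPle hy1P).1
  rcases mul_self_eq_one_iff.1 hk2 with hk1 | hk1
  · -- a product on the two qutrits
    have hy1eq : y1 = kr U L := Units.ext (by
      rw [hy1f, hk1, one_smul, c.Pe_add_Po, c.emb_diag, Matrix.one_kronecker_one, mul_one])
    obtain ⟨hUn, hLn⟩ := c.kr_nr hM hB (hy1eq ▸ hy1M)
    obtain ⟨φ1, hd1, hU1⟩ := c.nr_act hUn
    obtain ⟨φ, hd, hLa⟩ := c.nr_act hLn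
    have hone : kr ((U * U)⁻¹ * a) ((L * L)⁻¹ * b) = 1 := by
      rw [show kr ((U * U)⁻¹ * a) ((L * L)⁻¹ * b) = (kr (U * U) (L * L))⁻¹ * (y1 * y1) by rw [hab, kr_inv, kr_mul],
        hy1eq, kr_mul, inv_mul_cancel]
    obtain ⟨⟨u1, hu1'⟩, u2, hu2'⟩ := kr_scalar (a := (1 : F)) (by rw [hone, Units.val_one, one_smul]) one_ne_zero
    have sq : ∀ (V : GL Z3 F) (θ : Tw), tdet θ = 1 → c.Act V θ → ∀ q ∈ c.Q8, ∀ u : F,
        (((V * V)⁻¹ * q : GL Z3 F) : Matrix Z3 Z3 F) = u • 1 → InQ θ := by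
      intro V θ hdθ hV q hq u hu
      obtain ⟨⟨χ', hχ, hqa⟩, -, -⟩ := hq
      have e : (q : Matrix Z3 Z3 F) = u • ((V * V : GL Z3 F) : Matrix Z3 Z3 F) := by
        have := congrArg (fun Y => ((V * V : GL Z3 F) : Matrix Z3 Z3 F) * Y) hu
        simp only [← Units.val_mul, mul_inv_cancel_left, Matrix.mul_smul, mul_one] at this
        exact this
      have hqa' : c.Act q (tmul θ θ) := fun v => by
        obtain ⟨x, hx⟩ := c.act_mul hV hV v
        exact ⟨x, by rw [e, Matrix.smul_mul, hx, Matrix.mul_smul, smul_comm]⟩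
      rw [c.act_unique hqa hqa'] at hχ
      exact (show ∀ θ : Tw, tdet θ = 1 → InQ (tmul θ θ) → InQ θ by decide) θ hdθ hχ
    have toQ : ∀ (V : GL Z3 F) (ω' : Tw), InQ ω' → c.Act V ω' → c.Even' (V : Matrix Z3 Z3 F) →
        ∃ q ∈ c.Q8, ∃ a : F, a ≠ 0 ∧ (V : Matrix Z3 Z3 F) = a • (q : Matrix Z3 Z3 F) := fun V ω' hω hV hVe => by
      obtain ⟨q, hq, hqa⟩ := c.Q8_of_inQ hω
      exact ⟨q, hq, c.even_unique hω.1 hV hqa hVe hq.2.1⟩
    obtain ⟨q1, hq1, a1, ha10, ha1⟩ := toQ U φ1 (sq U φ1 hd1 hU1 a ha u1 hu1') hU1 hUe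
    obtain ⟨q2, hq2, a2, ha20, ha2⟩ := toQ L φ (sq L φ hd hLa b hb' u2 hu2') hLa hLXe.1
    -- the scalar is one
    have hval : (y1 : Matrix Pt Pt F) = (a1 * a2) • (kr q1 q2 : Matrix Pt Pt F) := by
      rw [hy1eq, kr_val, kr_val, ha1, ha2, Matrix.smul_kronecker, Matrix.kronecker_smul, smul_smul]
    set w := y1 * (kr q1 q2)⁻¹ with hw
    have hwv : (w : Matrix Pt Pt F) = (a1 * a2) • 1 := by
      rw [hw, Units.val_mul, hval, Matrix.smul_mul, Units.mul_inv]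
    have hwP : w ∈ P := P.mul_mem hy1P (P.inv_mem (hS (c.S0_base hq1 hq2)))
    obtain ⟨i, hi⟩ := hP2 ⟨w, hwP⟩
    have hwi : w ^ (2 ^ i) = 1 := congrArg Subtype.val hi
    have h1 := congrArg (fun g : GL Pt F => (g : Matrix Pt Pt F) (0, 0) (0, 0)) hwi
    simp only [Units.val_pow_eq_pow_val, hwv, smul_pow, one_pow, Units.val_one, Matrix.smul_apply, Matrix.one_apply_eq,
      smul_eq_mul, mul_one] at h1
    have h9 := mem_sl.1 (hM.1 (hPle hwP).1)
    rw [hwv, Matrix.det_smul, Matrix.det_one, mul_one] at h9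
    have hlam : a1 * a2 = 1 := by
      have hg := pow_gcd_eq_one.2 ⟨h1, h9⟩
      rwa [show Nat.gcd (2 ^ i) (Fintype.card Pt) = 1 from Nat.Coprime.pow_left i (by simp [ZMod.card]; decide), pow_one] at hg
    have : w = 1 := Units.ext (by rw [hwv, hlam, one_smul, Units.val_one])
    rw [show y1 = w * kr q1 q2 by rw [hw, inv_mul_cancel_right], this, one_mul]
    exact c.S0_base hq1 hq2

  exfalso
  have hJd : k • c.Pe + c.Po = (c.Jn : Matrix Z3 Z3 F) := by rw [hk1, neg_one_smul, c.Jn_Pe]; abel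
  have hE1 : c.emb 1 (c.Jn : Matrix Z3 Z3 F) * c.emb 1 (c.Jn : Matrix Z3 Z3 F) = 1 := by
    rw [c.emb_mul, one_mul, ← Units.val_mul, c.Jn_sq, Units.val_one, c.emb_diag, Matrix.one_kronecker_one]
  let E : GL Pt F := ⟨_, _, hE1, hE1⟩
  have hEv : (E : Matrix Pt Pt F) = c.emb 1 (c.Jn : Matrix Z3 Z3 F) := rfl
  have hEc : ∀ {V W : GL Z3 F}, c.Even' (V : Matrix Z3 Z3 F) → c.Even' (W : Matrix Z3 Z3 F) →
      kr V W * E = E * kr V W := fun {V W} hV hW => Units.ext (by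
    rw [Units.val_mul, Units.val_mul, hEv]
    exact (c.emb_comm_kr hV (by simp) (by rw [Jn_val, mul_neg, neg_mul, hW])).symm)
  have hEE : E * E = 1 := Units.ext hE1
  have hy1eq : y1 = kr U L * E := Units.ext (by rw [hy1f, hJd, Units.val_mul, hEv])
  have hUK : c.Nr1 (U * c.Kq * U⁻¹) := c.u_nr_of_kr_one hM hB (by
    have e : y1 * kr c.Kq 1 * y1⁻¹ = kr (U * c.Kq * U⁻¹) 1 := by
      rw [hy1eq, mul_assoc (kr U L) E, ← hEc c.Kq_even c.even_one, _root_.mul_inv_rev, ← mul_assoc (kr U L),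
        mul_assoc _ E (E⁻¹ * _), mul_inv_cancel_left, kr_inv, kr_mul, kr_mul, mul_one, mul_inv_cancel]
    rw [← e]
    exact M.mul_mem (M.mul_mem hy1M (c.kr_one_mem hM (c.act_nr c.act_Kq) c.Kq_det_cube)) (M.inv_mem hy1M))
  have hLK : c.Nr1 (L * c.Kq * L⁻¹) := c.u_nr_of_kr_one hM hB (by
    have e : y1 * kr 1 c.Kq * y1⁻¹ = kr 1 (L * c.Kq * L⁻¹) := by
      rw [hy1eq, mul_assoc (kr U L) E, ← hEc c.even_one c.Kq_even, _root_.mul_inv_rev, ← mul_assoc (kr U L),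
        mul_assoc _ E (E⁻¹ * _), mul_inv_cancel_left, kr_inv, kr_mul, kr_mul, mul_one, mul_inv_cancel]
    rw [← swapU_kr 1 (L * c.Kq * L⁻¹), ← e]
    exact M.mul_mem (M.mul_mem hsw (M.mul_mem (M.mul_mem hy1M (c.one_kr_mem hM (c.act_nr c.act_Kq) c.Kq_det_cube))
      (M.inv_mem hy1M))) (M.inv_mem hsw))
  obtain ⟨NU, hNU, hNUd, hNUe, a0, b0, hDU⟩ := c.norm_form hUe hUF hUK
  obtain ⟨NL, hNL, hNLd, hNLe, a0', b0', hDL⟩ := c.norm_form hLXe.1 hLF hLK
  exact c.u_k_neg hM hB h7 (DU := NU⁻¹ * U) (DL := NL⁻¹ * L) (a := a0) (b := b0) (a' := a0') (b' := b0') hDU hDL E hEv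
    (by
      rw [show kr (NU⁻¹ * U) (NL⁻¹ * L) * E = (kr NU NL)⁻¹ * y1 by rw [hy1eq, ← mul_assoc, kr_inv, kr_mul]]
      exact M.mul_mem (M.inv_mem (c.kr_mem hM hNU hNL hNUd hNLd)) hy1M)

/-- A normaliser of the wreath product in a two-group of the centraliser lies in it. -/
theorem u_S0_self (hM : c.Over M) (hB : c.BlockNr M) (h7 : (7 : F) ≠ 0)
    {P : Subgroup (GL Pt F)} (hP2 : IsPGroup 2 P) (hPle : P ≤ M ⊓ Subgroup.centralizer {c.zI}) (hS : c.S0 ≤ P)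
    {y : GL Pt F} (hy : y ∈ P) (hn : ∀ s ∈ c.S0, y * s * y⁻¹ ∈ c.S0) : y ∈ c.S0 := by
  obtain ⟨n, hn2⟩ := hP2 ⟨y, hy⟩
  have hpw : y ^ (2 ^ n) = 1 := congrArg Subtype.val hn2
  clear hn2
  induction n generalizing y with
  | zero => rw [pow_zero, pow_one] at hpw; rw [hpw]; exact c.S0.one_mem
  | succ n ih =>
    refine c.u_S0_step hM hB h7 hP2 hPle hS hy hn (ih (P.mul_mem hy hy) (fun s hs => ?_) ?_)
    · rw [show y * y * s * (y * y)⁻¹ = y * (y * s * y⁻¹) * y⁻¹ by group]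
      exact hn _ (hn _ hs)
    · rwa [← pow_two, ← pow_mul, ← pow_succ']

/-- The product of the two central involutions is isolated in the overgroup. -/
theorem u_isolated (hM : c.Over M) (hB : c.BlockNr M) (h7 : (7 : F) ≠ 0)
    (hz : c.zI ∈ M) : Cfsg.IsIsolatedInvolution (⟨c.zI, hz⟩ : M) := by
  classical
  have hne : c.zI ≠ 1 := fun e => by
    have := c.zI_trace
    rw [e, Units.val_one, Matrix.trace_one] at this
    simp [ZMod.card] at this
    exact mul_ne_zero (mul_ne_zero c.two c.two) c.two (by linear_combination this)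
  refine ⟨?_, fun g hg => ?_⟩
  · rw [← Subgroup.orderOf_coe]
    exact orderOf_eq_prime (by rw [pow_two, c.zI_sq]) hne
  apply Subtype.ext
  set C := M ⊓ Subgroup.centralizer {c.zI} with hC
  set z' := (g : GL Pt F) * c.zI * (g : GL Pt F)⁻¹ with hz'
  show z' = c.zI
  have hz'C : z' ∈ C := ⟨M.mul_mem (M.mul_mem g.2 hz) (M.inv_mem g.2), Subgroup.mem_centralizer_singleton_iff.2
    (congrArg Subtype.val hg.eq).symm⟩
  have hzi : z' * z' = 1 := by
    rw [hz', show (g : GL Pt F) * c.zI * (g : GL Pt F)⁻¹ * ((g : GL Pt F) * c.zI * (g : GL Pt F)⁻¹) =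
      (g : GL Pt F) * (c.zI * c.zI) * (g : GL Pt F)⁻¹ by group, c.zI_sq, mul_one, mul_inv_cancel]
  haveI : Fact (Nat.Prime 2) := ⟨Nat.prime_two⟩
  have hS0 : IsPGroup 2 c.S0 := by
    rintro ⟨s, hs⟩
    obtain ⟨a, ha, b, hb', e⟩ := c.S0_sq hs
    refine ⟨3, Subtype.ext ?_⟩
    show s ^ (2 ^ 3) = 1
    rw [show (2 : ℕ) ^ 3 = 2 * 4 by norm_num, pow_mul, pow_two, e, show kr a b ^ 4 = kr (a ^ 4) (b ^ 4) by
      simp only [pow_succ, pow_zero, one_mul, kr_mul], c.Q8_pow_four ha, c.Q8_pow_four hb', kr_one]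
  let S : Subgroup C := c.S0.subgroupOf C
  have hS2 : IsPGroup 2 S := hS0.comap_of_injective C.subtype C.subtype_injective
  obtain ⟨P, hP⟩ := hS2.exists_le_sylow
  have hPS : (P : Subgroup C) = S := by
    refine le_antisymm ?_ hP
    by_contra hle
    haveI : Group.IsNilpotent (P : Subgroup C) := P.isPGroup'.isNilpotent
    have hlt : S.subgroupOf P < ⊤ := lt_top_iff_ne_top.2 fun e => hle (Subgroup.subgroupOf_eq_top.1 e)
    have hgrow := normalizerCondition_of_isNilpotent (G := (P : Subgroup C)) _ hlt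
    obtain ⟨y, hyn, hyS⟩ := SetLike.exists_of_lt hgrow
    apply hyS
    let P' : Subgroup (GL Pt F) := (P : Subgroup C).map C.subtype
    show ((y : C) : GL Pt F) ∈ c.S0
    refine c.u_S0_self hM hB h7 (P := P') (P.isPGroup'.map C.subtype) ?_ ?_ ⟨_, y.2, rfl⟩ ?_
    · rintro _ ⟨x, -, rfl⟩; exact x.2
    · intro s hs
      exact ⟨⟨s, c.S0_le hM hs⟩, hP (show (⟨s, c.S0_le hM hs⟩ : C) ∈ S from hs), rfl⟩
    · intro s hs
      have hs' : (⟨⟨s, c.S0_le hM hs⟩, hP hs⟩ : (P : Subgroup C)) ∈ S.subgroupOf P := hs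
      exact (Subgroup.mem_normalizer_iff.1 hyn _).1 hs'
  obtain ⟨Q', hQ'⟩ := (show IsPGroup 2 (Subgroup.zpowers (⟨z', hz'C⟩ : C)) from
    IsPGroup.of_card_dvd_pow (n := 1) (by
      rw [Nat.card_zpowers, pow_one]
      exact orderOf_dvd_of_pow_eq_one (Subtype.ext (by simpa [pow_two] using hzi)))).exists_le_sylow
  obtain ⟨d, hd⟩ := MulAction.exists_smul_eq C P Q'
  have hmem := hQ' (Subgroup.mem_zpowers _)
  rw [← hd] at hmem
  obtain ⟨s, hs, hds⟩ := Subgroup.mem_map.1 hmem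
  rw [hPS] at hs
  have e : z' = (d : GL Pt F) * (s : GL Pt F) * (d : GL Pt F)⁻¹ := by
    have := congrArg Subtype.val hds
    simpa using this.symm
  have hs1 : (s : GL Pt F) = c.zI := by
    have es : (s : GL Pt F) = (d : GL Pt F)⁻¹ * z' * (d : GL Pt F) := by rw [e]; group
    refine c.S0_inv hs ?_ ?_
    · rw [es, show (d : GL Pt F)⁻¹ * z' * (d : GL Pt F) * ((d : GL Pt F)⁻¹ * z' * (d : GL Pt F)) =
        (d : GL Pt F)⁻¹ * (z' * z') * (d : GL Pt F) by group, hzi, mul_one, inv_mul_cancel]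
    · rw [es, hz', Units.val_mul, Units.val_mul, Matrix.trace_units_conj', Units.val_mul, Units.val_mul,
        Matrix.trace_units_conj, c.zI_trace]
  rw [e, hs1, Subgroup.mem_centralizer_singleton_iff.1 d.2.2, mul_inv_cancel_right]

end Ctx

end Cfsg.Agent.Heis12
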