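import Cfsg.Agent.Lib.Heis12UMain
import Cfsg.Agent.Lib.Heis12UInv
import Cfsg.Agent.Lib.ZStarTheorem
import Cfsg.Agent.S0205

/-!
Under the block property an overgroup of the normaliser of the two-qutrit Weyl group normalises it.
-/

set_option autoImplicit false
set_option linter.unusedSectionVars false
set_option linter.style.haveILetI false
set_option synthInstance.maxSize 5000

namespace Cfsg.Agent.Heis12

open Matrix
open scoped MatrixGroups Kronecker commutatorElement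

variable {F : Type*} [Field F]

namespace Ctx

variable (c : Ctx F) {M : Subgroup (GL Pt F)} [Finite F]

/-- The overgroup theorem. -/
theorem u_core (hM : c.Over M) (hB : c.BlockNr M) (h7 : (7 : F) ≠ 0) : ∀ g ∈ M, c.Nr2 g := by
  classical
  haveI : Fact (Nat.Prime 3) := ⟨Nat.prime_three⟩
  have hz : c.zI ∈ M := (c.S0_le hM (c.S0_base c.Jn_mem c.Jn_mem)).1
  have hiso := c.u_isolated hM hB h7 hz
  obtain ⟨N0, hN0, hodd, hcomm⟩ := ZStarTheorem.exists_odd_normal hiso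
  haveI hsolv : Group.IsSolvable N0 := S0205.result hodd
  let D : ℕ → Subgroup (GL Pt F) := fun k => ((derivedSeries N0 k).map N0.subtype).map M.subtype
  have hDM : ∀ k, D k ≤ M := by
    rintro k _ ⟨x, -, rfl⟩
    exact x.2
  have hDconj : ∀ k, ∀ g ∈ M, ∀ x ∈ D k, g * x * g⁻¹ ∈ D k := by
    rintro k g hg _ ⟨x, hx, rfl⟩
    haveI : ((derivedSeries N0 k).map N0.subtype).Normal := inferInstance
    exact ⟨(⟨g, hg⟩ : M) * x * (⟨g, hg⟩ : M)⁻¹, Subgroup.Normal.conj_mem inferInstance x hx _, rfl⟩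
  have hDsucc : ∀ k, ∀ x ∈ D k, ∀ y ∈ D k, ⁅x, y⁆ ∈ D (k + 1) := by
    rintro k _ ⟨_, ⟨x, hx, rfl⟩, rfl⟩ _ ⟨_, ⟨y, hy, rfl⟩, rfl⟩
    exact ⟨_, ⟨⁅x, y⁆, by rw [derivedSeries_succ]; exact Subgroup.commutator_mem_commutator hx hy, rfl⟩, by
      rw [map_commutatorElement, map_commutatorElement]⟩
  -- the bottom group contains a multiple of a non-central Weyl matrix
  have hD0 : ¬ D 0 ≤ scal Pt F := by
    intro hle
    let v : Ph × Ph := ((0, 1), 0)
    have hmem : ⁅c.zI, c.WU2 v⁆ ∈ D 0 := by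
      refine ⟨⁅(⟨c.zI, hz⟩ : M), ⟨c.WU2 v, c.WU2_mem hM v⟩⁆, ⟨⟨_, ?_⟩, Subgroup.mem_top _, rfl⟩, ?_⟩
      · exact hcomm _
      · rw [map_commutatorElement]; rfl
    obtain ⟨a, ha⟩ := hle hmem
    have hzv : c.Sends c.zI v (-v) := by
      obtain ⟨b1, hb1⟩ := c.act_neg c.act_Jn v.1
      refine ⟨b1, ?_⟩
      rw [zI, kr_val, W2, W2, ← Matrix.mul_kronecker_mul, hb1, Matrix.smul_kronecker, ← Matrix.mul_kronecker_mul,
        show (-v).1 = -v.1 from rfl, show (-v).2 = v.2 from by simp [v], show v.2 = 0 from rfl, W_zero, mul_one,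
        one_mul]
    have hself : c.Sends c.zI v v := by
      refine ⟨a, ?_⟩
      have e : c.zI * c.WU2 v = ⁅c.zI, c.WU2 v⁆ * (c.WU2 v * c.zI) := by rw [commutatorElement_def]; group
      have e' := congrArg Units.val e
      rw [Units.val_mul, Units.val_mul ⁅c.zI, c.WU2 v⁆, ha, Matrix.smul_mul, one_mul, Units.val_mul, WU2_val] at e'
      exact e'
    have := c.sends_unique hzv hself
    exact neg_ne_self12 this
  obtain ⟨k, hk, hk1⟩ : ∃ k, ¬ D k ≤ scal Pt F ∧ D (k + 1) ≤ scal Pt F := by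
    by_contra hno
    push Not at hno
    have hall : ∀ k, ¬ D k ≤ scal Pt F := fun k => by
      induction k with
      | zero => exact hD0
      | succ k ih => exact fun h => hno k ih h
    obtain ⟨n, hn⟩ := hsolv.solvable
    refine hall n ?_
    simp [D, hn]
  set A := D k with hA
  have hAM := hDM k
  have hcl : ∀ x ∈ A, ∀ y ∈ A, ⁅x, y⁆ ∈ scal Pt F ∧ ⁅x, y⁆ ^ 9 = 1 := fun x hx y hy =>
    have h1 := hDsucc k x hx y hy
    ⟨hk1 h1, c.pow_nine_scal hM (hDM _ h1) (hk1 h1)⟩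
  haveI : Finite (GL Pt F) := inferInstance
  -- the elements of order prime to three
  let T : Set (GL Pt F) := {x | x ∈ A ∧ Nat.Coprime 3 (orderOf x)}
  have hTcomm : ∀ x ∈ T, ∀ y ∈ T, Commute x y := by
    rintro x ⟨hx, -⟩ y ⟨hy, hyc⟩
    obtain ⟨hs, h9⟩ := hcl x hx y hy
    have h2 : ⁅x, y⁆ ^ orderOf y = 1 := by
      have e : x * y * x⁻¹ = ⁅x, y⁆ * y := by rw [commutatorElement_def]; group
      have := congrArg (fun g => g ^ orderOf y) e
      rw [conj_pow, pow_orderOf_eq_one, mul_one, mul_inv_cancel, (scal_comm hs y).mul_pow, pow_orderOf_eq_one,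
        mul_one] at this
      exact this.symm
    refine commutatorElement_eq_one_iff_mul_comm.1 (Subgroup.mem_bot.1 (mem_of_pows ⊥ (m := 9) (n := orderOf y) ?_ ?_ ?_))
    · exact Nat.Coprime.pow_left 2 hyc
    · rw [h9]; exact Subgroup.one_mem _
    · rw [h2]; exact Subgroup.one_mem _
  have hTconj : ∀ h ∈ M, ∀ x ∈ T, h * x * h⁻¹ ∈ T := fun h hh x hx =>
    ⟨hDconj k h hh x hx.1, by
      rw [← MulAut.conj_apply, MulEquiv.orderOf_eq]; exact hx.2⟩
  have hTmul : ∀ x ∈ T, ∀ y ∈ T, x * y ∈ T := fun x hx y hy =>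
    ⟨A.mul_mem hx.1 hy.1, Nat.Coprime.of_dvd_right (hTcomm x hx y hy).orderOf_mul_dvd_lcm
      (Nat.Coprime.of_dvd_right (Nat.lcm_dvd_mul _ _) (Nat.Coprime.mul_right hx.2 hy.2))⟩
  have hTscal : ∀ x ∈ T, x ∈ scal Pt F := fun x hx =>
    c.u_prime_to_three hM hB (T := T) (fun y hy => hAM hy.1) hTconj hTmul hTcomm
      (fun y hy => ⟨orderOf y, hy.2, pow_orderOf_eq_one y⟩) hx
  have hA3 : IsPGroup 3 A := by
    rintro ⟨x, hx⟩
    obtain ⟨a, m, hm3, hm⟩ := Nat.exists_eq_pow_mul_and_not_dvd (orderOf_pos x).ne' 3 (by norm_num)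
    refine ⟨a, Subtype.ext ?_⟩
    show x ^ 3 ^ a = 1
    have hcop : Nat.Coprime 3 m := (Nat.Prime.coprime_iff_not_dvd Nat.prime_three).2 hm3
    have hord : (x ^ 3 ^ a) ^ m = 1 := by rw [← pow_mul, ← hm, pow_orderOf_eq_one]
    have hT' : x ^ 3 ^ a ∈ T :=
      ⟨A.pow_mem hx _, Nat.Coprime.of_dvd_right (orderOf_dvd_of_pow_eq_one hord) hcop⟩
    refine Subgroup.mem_bot.1 (mem_of_pows ⊥ (m := 9) (n := m) (Nat.Coprime.pow_left 2 hcop) ?_ ?_)
    · rw [c.pow_nine_scal hM (hAM hT'.1) (hTscal _ hT')]; exact Subgroup.one_mem _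
    · rw [hord]; exact Subgroup.one_mem _
  -- it consists of multiples of Weyl matrices
  have hR3 : IsPGroup 3 (c.RS M) := fun g => ⟨3, Subtype.ext (by simpa using c.pow_27 hM g.2)⟩
  have hAR : A ≤ c.RS M := by
    by_contra hnot
    have hnorm : c.RS M ≤ Subgroup.normalizer (A : Set (GL Pt F)) := by
      intro r hr
      rw [Subgroup.mem_normalizer_iff]
      refine fun x => ⟨fun hx => hDconj k r hr.1 x hx, fun hx => ?_⟩
      have := hDconj k r⁻¹ (M.inv_mem hr.1) _ hx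
      simpa [mul_assoc] using this
    set P := A ⊔ c.RS M with hP
    have hP3 : IsPGroup 3 P := hA3.to_sup_of_normal_left' hR3 hnorm
    haveI : Group.IsNilpotent P := hP3.isNilpotent
    have hlt : (c.RS M).subgroupOf P < ⊤ := lt_top_iff_ne_top.2 fun e =>
      hnot (le_trans le_sup_left (Subgroup.subgroupOf_eq_top.1 e))
    obtain ⟨⟨p, hp'⟩, hpn, hpR⟩ := SetLike.exists_of_lt (normalizerCondition_of_isNilpotent (G := P) _ hlt)
    have hsplit : p ∈ ((A ⊔ c.RS M : Subgroup (GL Pt F)) : Set (GL Pt F)) := hp'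
    rw [Subgroup.coe_mul_of_right_le_normalizer_left A (c.RS M) hnorm] at hsplit
    obtain ⟨a, ha, r, hr, rfl⟩ := Set.mem_mul.1 hsplit
    have hpR' : a ∉ c.RS M := fun h => hpR (Subgroup.mul_mem _ h hr : a * r ∈ c.RS M)
    have hpconj : ∀ s ∈ c.RS M, a * r * s * (a * r)⁻¹ ∈ c.RS M := fun s hs => by
      have := (Subgroup.mem_normalizer_iff.1 hpn ⟨s, Subgroup.mem_sup_right hs⟩).1 (show (⟨s, Subgroup.mem_sup_right hs⟩ : P) ∈ (c.RS M).subgroupOf P from hs)
      exact this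
    have haconj : ∀ s ∈ c.RS M, a * s * a⁻¹ ∈ c.RS M := fun s hs => by
      have := hpconj _ ((c.RS M).mul_mem ((c.RS M).mul_mem ((c.RS M).inv_mem hr) hs) hr)
      rwa [show a * r * (r⁻¹ * s * r) * (a * r)⁻¹ = a * s * a⁻¹ by group] at this
    let X : Subgroup (GL Pt F) := A ⊓ Subgroup.normalizer (c.RS M : Set (GL Pt F))
    have hXa : a ∈ X := by
      refine ⟨ha, Subgroup.mem_normalizer_iff.2 fun s => ⟨haconj s, fun hs => ?_⟩⟩
      have hinj : Function.Injective fun u : c.RS M => (⟨a * u * a⁻¹, haconj u u.2⟩ : c.RS M) := fun u v e =>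
        Subtype.ext (mul_left_cancel (mul_right_cancel (congrArg Subtype.val e)))
      obtain ⟨u, hu⟩ := Finite.injective_iff_surjective.1 hinj ⟨_, hs⟩
      have e : (u : GL Pt F) = s := mul_left_cancel (mul_right_cancel (congrArg Subtype.val hu))
      exact e ▸ u.2
    have hX3 : IsPGroup 3 X := hA3.to_le inf_le_left
    have hXnr : ∀ x : X, c.Nr2 (x : GL Pt F) := fun x =>
      c.nr2_of_conj hM fun r hr => ((Subgroup.mem_normalizer_iff.1 x.2.2) r).1 hr
    choose σa σ hσ using hXnr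
    have hσ' : ∀ (x : X) v, c.Sends (x : GL Pt F) v (σ x v) := fun x v => ⟨_, hσ x v⟩
    letI : MulAction X (Ph × Ph) :=
      { smul := fun x v => σ x v
        one_smul := fun v => c.sends_unique (hσ' 1 v) (c.sends_one v)
        mul_smul := fun x y v => c.sends_unique (hσ' (x * y) v) (c.sends_mul (hσ' y v) (hσ' x _)) }
    have hsm : ∀ (x : X) v, x • v = σ x v := fun _ _ => rfl
    let Z : AddSubgroup (Ph × Ph) :=
      { carrier := {v | ∀ x : X, c.Sends (x : GL Pt F) v v}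
        zero_mem' := fun x => ⟨1, by rw [← WU2_val, c.WU2_one rfl]; simp⟩
        add_mem' := fun hv hw x => c.sends_add (hv x) (hw x)
        neg_mem' := fun {v} hv x => by
          rw [show -v = v + v from (neg_eq_add12 v)]
          exact c.sends_add (hv x) (hv x) }
    have hZne : ∃ v ∈ Z, v ≠ 0 := by
      have hmod := hX3.card_modEq_card_fixedPoints (α := Ph × Ph)
      have h0 : (0 : Ph × Ph) ∈ MulAction.fixedPoints X (Ph × Ph) := fun x =>
        c.sends_unique (hσ' x 0) ⟨1, by rw [← WU2_val, c.WU2_one rfl]; simp⟩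
      by_contra hno
      push Not at hno
      have hone : Nat.card (MulAction.fixedPoints X (Ph × Ph)) = 1 := by
        refine Nat.card_eq_one_iff_unique.2 ⟨⟨fun u v => Subtype.ext ?_⟩, ⟨⟨0, h0⟩⟩⟩
        have hz0 : ∀ w : MulAction.fixedPoints X (Ph × Ph), (w : Ph × Ph) = 0 := fun w =>
          hno _ fun x => by
            have h := hσ' x w
            rwa [show σ x w = w from w.2 x] at h
        rw [hz0 u, hz0 v]
      rw [hone] at hmod
      simp only [Nat.card_prod, Nat.card_zmod, Nat.ModEq] at hmod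
      omega
    have hinv : ∀ h ∈ M, c.Nr2 h → ∀ v ∈ Z, ∀ w, c.Sends h v w → w ∈ Z := by
      intro h hh hn v hv w hw x
      have hx : h⁻¹ * (x : GL Pt F) * h ∈ X := by
        refine ⟨by simpa using hDconj k h⁻¹ (M.inv_mem hh) _ x.2.1, ?_⟩
        have hhn : h ∈ Subgroup.normalizer (c.RS M : Set (GL Pt F)) := by
          refine Subgroup.mem_normalizer_iff.2 fun s => ⟨fun hs => c.RS_conj_of_nr2 hh hn s hs, fun hs => ?_⟩
          have hinj : Function.Injective fun u : c.RS M => (⟨h * u * h⁻¹, c.RS_conj_of_nr2 hh hn u u.2⟩ : c.RS M) :=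
            fun u v e => Subtype.ext (mul_left_cancel (mul_right_cancel (congrArg Subtype.val e)))
          obtain ⟨u, hu⟩ := Finite.injective_iff_surjective.1 hinj ⟨_, hs⟩
          have e : (u : GL Pt F) = s := mul_left_cancel (mul_right_cancel (congrArg Subtype.val hu))
          exact e ▸ u.2
        exact Subgroup.mul_mem _ (Subgroup.mul_mem _ (Subgroup.inv_mem _ hhn) x.2.2) hhn
      have := c.sends_mul (c.sends_mul (c.sends_inv hw) (hv ⟨_, hx⟩)) hw
      rwa [show h * ((h⁻¹ * (x : GL Pt F) * h) * h⁻¹) = x by group] at this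
    have hZtop : Z = ⊤ := invariant_full hZne (fun v hv => hinv swapU (c.swap_mem hM) c.nr2_swap v hv _
        ⟨1, by rw [one_smul, W2, W2, swapU_kron]⟩) fun φ hd v hv => by
      obtain ⟨B, hBa, -, hBd⟩ := c.exists_word φ hd
      obtain ⟨b, hb'⟩ := hBa v.1
      refine hinv (kr B 1) (c.kr_one_mem hM (c.act_nr hBa) hBd) (c.nr2_kr (c.act_nr hBa) c.nr1_one) v hv _ ⟨b, ?_⟩
      rw [kr_val, W2, W2, Units.val_one, ← Matrix.mul_kronecker_mul, ← Matrix.mul_kronecker_mul, hb',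
        Matrix.smul_kronecker, one_mul, mul_one]
    exact hpR' ⟨hAM ha, fun v => (show v ∈ Z from hZtop ▸ AddSubgroup.mem_top v) ⟨a, hXa⟩⟩
  -- every index occurs
  let Vs : AddSubgroup (Ph × Ph) :=
    { carrier := {v | ∃ g ∈ A, ∃ s : F, (g : Matrix Pt Pt F) = s • c.W2 v}
      zero_mem' := ⟨1, A.one_mem, 1, by rw [one_smul, ← WU2_val, c.WU2_one rfl]⟩
      add_mem' := by
        rintro v w ⟨g, hg, s, hgs⟩ ⟨h, hh, t, hht⟩
        exact ⟨g * h, A.mul_mem hg hh, _, by rw [Units.val_mul, hgs, hht, Matrix.smul_mul, Matrix.mul_smul, c.W2_mul, smul_smul, smul_smul]⟩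
      neg_mem' := by
        rintro v ⟨g, hg, s, hgs⟩
        refine ⟨g * g, A.mul_mem hg hg, s * s * (c.χ (v.1.2 * v.1.1) * c.χ (v.2.2 * v.2.1)), ?_⟩
        rw [Units.val_mul, hgs, Matrix.smul_mul, Matrix.mul_smul, c.W2_mul, smul_smul, smul_smul,
          show v + v = -v from (neg_eq_add12 v).symm] }
  have hVconj : ∀ h ∈ M, ∀ v ∈ Vs, ∀ w, c.Sends h v w → w ∈ Vs := by
    rintro h hh v ⟨g, hg, s, hgs⟩ w ⟨b, hb'⟩
    refine ⟨h * g * h⁻¹, hDconj k h hh g hg, s * b, ?_⟩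
    rw [Units.val_mul, Units.val_mul, hgs, Matrix.mul_smul, hb', Matrix.smul_mul, Matrix.smul_mul, mul_assoc,
      Units.mul_inv, mul_one, smul_smul]
  have hVne : ∃ v ∈ Vs, v ≠ 0 := by
    obtain ⟨g, hg, hgs⟩ := SetLike.not_le_iff_exists.1 hk
    obtain ⟨s, u, hu⟩ := c.eq_smul_W2 (hAR hg).2
    refine ⟨u, ⟨g, hg, s, hu⟩, fun e => hgs ⟨s, ?_⟩⟩
    rw [hu, ← WU2_val, c.WU2_one e, Units.val_one]
  have hVtop : Vs = ⊤ := invariant_full hVne (fun v hv => hVconj swapU (c.swap_mem hM) v hv _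
      ⟨1, by rw [one_smul, W2, W2, swapU_kron]⟩) fun φ hd v hv => by
    obtain ⟨B, hBa, -, hBd⟩ := c.exists_word φ hd
    obtain ⟨b, hb'⟩ := hBa v.1
    refine hVconj (kr B 1) (c.kr_one_mem hM (c.act_nr hBa) hBd) v hv _ ⟨b, ?_⟩
    rw [kr_val, W2, W2, Units.val_one, ← Matrix.mul_kronecker_mul, ← Matrix.mul_kronecker_mul, hb',
      Matrix.smul_kronecker, one_mul, mul_one]
  intro g hg v
  obtain ⟨r, hr, s, hrs⟩ : v ∈ Vs := hVtop ▸ AddSubgroup.mem_top v
  obtain ⟨a, w, haw⟩ := c.eq_smul_W2 (hAR (hDconj k g hg r hr)).2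
  have hs : s ≠ 0 := fun e => r.ne_zero (by rw [hrs, e, zero_smul])
  refine ⟨s⁻¹ * a, w, ?_⟩
  have := congrArg (fun X => X * (g : Matrix Pt Pt F)) haw
  simp only [Units.val_mul, mul_assoc, Units.inv_mul, mul_one, hrs, Matrix.mul_smul, Matrix.smul_mul] at this
  rw [← smul_smul, ← this, smul_smul, inv_mul_cancel₀ hs, one_smul]

end Ctx

end Cfsg.Agent.Heis12
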