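import Cfsg.Agent.Lib.Heis12Block

/-!
The unitary version of the two-qutrit argument: isometry groups of the standard form, matrices acting
on one row of the grid, and the property of blocks used by the argument.
-/

set_option autoImplicit false
set_option linter.unusedSectionVars false

namespace Cfsg.Agent.Heis12

open Matrix
open scoped MatrixGroups Kronecker

variable {F : Type*} [Field F]

/-- The isometries of `∑ u x * v x ^ q`. -/
def Un (ι : Type) [Fintype ι] [DecidableEq ι] (F : Type*) [Field F] (q : ℕ) : Subgroup (GL ι F) where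
  carrier := {g | ∀ u v : ι → F,
    ∑ x, ((g : Matrix ι ι F) *ᵥ u) x * ((g : Matrix ι ι F) *ᵥ v) x ^ q = ∑ x, u x * v x ^ q}
  one_mem' := by simp
  mul_mem' := by
    intro g h hg hh u v
    rw [Units.val_mul, ← Matrix.mulVec_mulVec, ← Matrix.mulVec_mulVec, hg, hh]
  inv_mem' := by
    intro g hg u v
    have h := hg (((g⁻¹ : GL ι F) : Matrix ι ι F) *ᵥ u) (((g⁻¹ : GL ι F) : Matrix ι ι F) *ᵥ v)
    simp only [Matrix.mulVec_mulVec, Units.mul_inv, Matrix.one_mulVec] at h
    exact h.symm

theorem mem_Un {ι : Type} [Fintype ι] [DecidableEq ι] {q : ℕ} {g : GL ι F} :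
    g ∈ Un ι F q ↔ ∀ u v : ι → F,
      ∑ x, ((g : Matrix ι ι F) *ᵥ u) x * ((g : Matrix ι ι F) *ᵥ v) x ^ q = ∑ x, u x * v x ^ q := Iff.rfl

/-- The special unitary group of the standard form. -/
def SUo (ι : Type) [Fintype ι] [DecidableEq ι] (F : Type*) [Field F] (q : ℕ) : Subgroup (GL ι F) :=
  Un ι F q ⊓ Cfsg.Geo.specialLinear ι F

/-- A matrix acting on the row `i` of the grid, trivially elsewhere. -/
def ri (i : Z3) : GL Z3 F →* GL Pt F :=
  MonoidHom.toHomUnits
    { toFun := fun A => Matrix.of fun p r : Pt =>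
        if p.1 = r.1 then (if p.1 = i then (A : Matrix Z3 Z3 F) p.2 r.2 else if p.2 = r.2 then 1 else 0) else 0
      map_one' := by
        ext p r
        rcases p with ⟨a, b⟩
        rcases r with ⟨a', b'⟩
        simp only [Matrix.of_apply, Units.val_one, Matrix.one_apply, Prod.mk.injEq]
        split_ifs <;> simp_all
      map_mul' := fun A B => by
        ext p r
        simp only [Matrix.of_apply, Matrix.mul_apply, Fintype.sum_prod_type]
        by_cases h : p.1 = r.1
        · rw [if_pos h, Finset.sum_eq_single p.1 (fun b _ hb => by simp [Ne.symm hb]) (by simp)]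
          by_cases hi : p.1 = i
          · subst hi
            simp [h, Units.val_mul, Matrix.mul_apply]
          · simp [h, hi, h ▸ hi]
        · rw [if_neg h]
          refine (Finset.sum_eq_zero fun b _ => Finset.sum_eq_zero fun d _ => ?_).symm
          by_cases h1 : p.1 = b
          · subst h1
            simp [h]
          · simp [h1] }

theorem ri_apply (i : Z3) (A : GL Z3 F) (p r : Pt) : (ri i A : Matrix Pt Pt F) p r =
    if p.1 = r.1 then (if p.1 = i then (A : Matrix Z3 Z3 F) p.2 r.2 else if p.2 = r.2 then 1 else 0) else 0 := rfl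

namespace Ctx

variable (c : Ctx F)

/-- All diagonal blocks of elements commuting with the clock normalise. -/
def BlockNr (M : Subgroup (GL Pt F)) : Prop :=
  ∀ g ∈ M, g * c.D1 = c.D1 * g → ∀ i, ∃ A : GL Z3 F,
    (A : Matrix Z3 Z3 F) = blk (g : Matrix Pt Pt F) i i ∧ c.Nr1 A

end Ctx

end Cfsg.Agent.Heis12
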