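import Cfsg.Agent.Lib.Heis12UDefs
import Cfsg.Agent.Lib.Heis12Coord
import Cfsg.Agent.Lib.UnitaryFrameGlue84

/-!
The special unitary group is generated by the normaliser of the Weyl matrices together with the small
matrices acting on single rows of the grid.
-/

set_option autoImplicit false
set_option linter.unusedSectionVars false
set_option linter.unusedSimpArgs false
set_option linter.unusedVariables false
set_option maxHeartbeats 1000000

namespace Cfsg.Agent.Heis12

open Matrix Cfsg.Agent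
open scoped MatrixGroups Kronecker

variable {F : Type*} [Field F]

/-- The matrix sends the coordinate `π x` to `x`, with factor `d x`. -/
def UMono {ι : Type} [Fintype ι] [DecidableEq ι] (g : GL ι F) (π : Equiv.Perm ι) (d : ι → F) : Prop :=
  ∀ x y, (g : Matrix ι ι F) x y = if y = π x then d x else 0

section

variable {ι : Type} [Fintype ι] [DecidableEq ι] {g h : GL ι F} {π ρ : Equiv.Perm ι} {d e : ι → F}

theorem UMono.mulVec (hg : UMono g π d) (u : ι → F) (x : ι) :
    ((g : Matrix ι ι F) *ᵥ u) x = d x * u (π x) := by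
  rw [Matrix.mulVec, dotProduct, Finset.sum_eq_single (π x)]
  · rw [hg, if_pos rfl]
  · intro y _ hy
    rw [hg, if_neg hy, zero_mul]
  · simp

theorem UMono.mul (hg : UMono g π d) (hh : UMono h ρ e) :
    UMono (g * h) (ρ * π) fun x => d x * e (π x) := fun x z => by
  rw [Units.val_mul, Matrix.mul_apply, Finset.sum_eq_single (π x)]
  · rw [hg, if_pos rfl, hh, mul_ite, mul_zero]
    rfl
  · intro y _ hy
    rw [hg, if_neg hy, zero_mul]
  · simp

theorem uMono_one : UMono (1 : GL ι F) 1 fun _ => 1 := fun x y => by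
  simp [Matrix.one_apply, eq_comm]

theorem UMono.ne_zero (hg : UMono g π d) (x : ι) : d x ≠ 0 := fun h0 => by
  have h1 : ((g : Matrix ι ι F) *ᵥ fun _ => (0 : F)) = 0 := by ext y; simp [Matrix.mulVec, dotProduct]
  obtain ⟨u, hu⟩ := (Matrix.mulVec_surjective_iff_isUnit.2 g.isUnit) (Pi.single x 1)
  have := congrFun hu x
  rw [hg.mulVec, h0, zero_mul, Pi.single_eq_same] at this
  exact zero_ne_one this

theorem UMono.inv (hg : UMono g π d) : UMono g⁻¹ π⁻¹ fun x => (d (π⁻¹ x))⁻¹ := by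
  intro x y
  have h1 : (g : Matrix ι ι F) * (Matrix.of fun x y => if y = π⁻¹ x then (d (π⁻¹ x))⁻¹ else 0) = 1 := by
    ext a b
    rw [Matrix.mul_apply, Finset.sum_eq_single (π a)]
    · rw [hg, if_pos rfl]
      simp only [Matrix.of_apply, Equiv.Perm.inv_eq_iff_eq, Matrix.one_apply, eq_comm (a := b),
        show π⁻¹ (π a) = a from Equiv.symm_apply_apply π a]
      by_cases hab : a = b
      · simp [hab, hg.ne_zero]
      · simp [hab]
    · intro c _ hc
      rw [hg, if_neg hc, zero_mul]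
    · simp
  rw [Units.inv_eq_of_mul_eq_one_right h1, Matrix.of_apply]

theorem UMono.ext (hg : UMono g π d) (hh : UMono h π d) : g = h :=
  Units.ext (Matrix.ext fun x y => by rw [hg, hh])

theorem UMono.congr (hg : UMono g π d) (hπ : π = ρ) (hd : ∀ x, d x = e x) : UMono g ρ e := fun x y => by
  rw [hg, hπ, hd]

theorem mem_UMono_un {q : ℕ} (hg : UMono g π d) (hu : g ∈ Un ι F q) (x : ι) : d x * d x ^ q = 1 := by
  rcases eq_or_ne q 0 with rfl | hq
  · have := mem_Un.1 hu (Pi.single (π x) 1) (Pi.single (π x) 1)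
    simp only [pow_zero, mul_one, hg.mulVec] at this ⊢
    rw [Finset.sum_eq_single x (fun y _ hy => by simp [π.injective.ne hy]) (by simp),
      Finset.sum_eq_single (π x) (fun y _ hy => by simp [hy]) (by simp)] at this
    simpa using this
  have := mem_Un.1 hu (Pi.single (π x) 1) (Pi.single (π x) 1)
  simp only [hg.mulVec] at this
  rw [Finset.sum_eq_single x (fun y _ hy => by simp [π.injective.ne hy]) (by simp),
    Finset.sum_eq_single (π x) (fun y _ hy => by simp [hy]) (by simp)] at this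
  simpa using this

theorem UMono.det (hg : UMono g (1 : Equiv.Perm ι) d) : (g : Matrix ι ι F).det = ∏ x, d x := by
  rw [← Matrix.det_diagonal]
  congr 1
  ext x y
  rw [hg, Matrix.diagonal_apply]
  simp [eq_comm]

end

/-- The multiplier with `t` at `a`, `t⁻¹` at `b`. -/
def pairF (a b : Pt) (t : F) : Pt → F := fun z => if z = a then t else if z = b then t⁻¹ else 1

/-- Diagonals of elements of `M`. -/
def InDiag (M : Subgroup (GL Pt F)) (d : Pt → F) : Prop := ∃ g ∈ M, UMono g 1 d

theorem exists_perm_two {a b a' b' : Pt} (h : a ≠ b) (h' : a' ≠ b') :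
    ∃ π : Equiv.Perm Pt, π a' = a ∧ π b' = b := by
  refine ⟨Equiv.swap (Equiv.swap a' a b') b * Equiv.swap a' a, ?_, ?_⟩
  · rw [Equiv.Perm.mul_apply, Equiv.swap_apply_left, Equiv.swap_apply_of_ne_of_ne ?_ h]
    exact fun e => h' ((Equiv.swap a' a).injective ((Equiv.swap_apply_left a' a).trans e))
  · simp

namespace Ctx

variable (c : Ctx F)

theorem uMono_ri_Jn (i : Z3) :
    UMono (ri i c.Jn) (Equiv.swap (i, 1) (i, 2)) fun x => if x.1 = i then -1 else 1 := by
  intro x y
  rcases x with ⟨a, b⟩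
  rcases y with ⟨a', b'⟩
  rw [ri_apply, c.Jn_val]
  simp only [Jm, Matrix.neg_apply, Matrix.of_apply]
  by_cases ha : a = i
  · subst ha
    have key : ∀ a b : Z3, Equiv.swap ((a, 1) : Pt) (a, 2) (a, b) = (a, -b) := by decide +kernel
    simp only [key, Prod.ext_iff, if_true]
    have hb : b = -b' ↔ b' = -b := by constructor <;> intro e <;> rw [e, neg_neg]
    by_cases h : a = a'
    · subst h
      simp [hb, neg_ite]
    · simp [h, Ne.symm h]
  · rw [Equiv.swap_apply_of_ne_of_ne (by simp [ha]) (by simp [ha])]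
    simp only [Prod.ext_iff, ha, if_false]
    by_cases h : a = a'
    · subst h
      simp [eq_comm]
    · simp [h, Ne.symm h]

theorem uMono_WU2 (v : Ph × Ph) : UMono (c.WU2 v) (Equiv.addRight (-((v.1.1, v.2.1) : Pt)))
    fun x => c.χ (v.1.2 * (x.1 - v.1.1) + v.2.2 * (x.2 - v.2.1)) := by
  intro x y
  rw [c.WU2_val, c.W2_apply]
  have : x = (y.1 + v.1.1, y.2 + v.2.1) ↔ y = x + -((v.1.1, v.2.1) : Pt) := by
    rcases x with ⟨a, b⟩
    rcases y with ⟨a', b'⟩
    simp only [Prod.ext_iff, Prod.neg_mk, Prod.mk_add_mk]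
    constructor <;> rintro ⟨h1, h2⟩ <;> constructor <;> simp [h1, h2]
  by_cases h : y = Equiv.addRight (-((v.1.1, v.2.1) : Pt)) x
  · rw [if_pos (this.2 h), if_pos h]
    obtain rfl : y = x + -((v.1.1, v.2.1) : Pt) := h
    simp [sub_eq_add_neg]
  · rw [if_neg (fun e => h (this.1 e)), if_neg h]

theorem uMono_swapU : UMono (swapU : GL Pt F) (Equiv.prodComm Z3 Z3) fun _ => -1 := fun x y => by
  rcases x with ⟨a, b⟩
  rcases y with ⟨a', b'⟩
  simp only [swapU, Matrix.of_apply, Equiv.prodComm_apply, Prod.swap_prod_mk, Prod.mk.injEq]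
  exact if_congr (by constructor <;> rintro ⟨h1, h2⟩ <;> exact ⟨h2.symm, h1.symm⟩) rfl rfl

theorem uMono_ri_diag (A : GL Z3 F) (f : Z3 → F) (hA : (A : Matrix Z3 Z3 F) = Matrix.diagonal f) :
    UMono (ri 0 A) 1 fun x => if x.1 = 0 then f x.2 else 1 := fun x y => by
  rcases x with ⟨a, b⟩
  rcases y with ⟨a', b'⟩
  rw [ri_apply, hA]
  simp only [Matrix.diagonal_apply, Equiv.Perm.one_apply, Prod.mk.injEq]
  by_cases ha : a = a'
  · subst ha
    by_cases h0 : a = 0 <;> by_cases hb : b = b' <;> simp [h0, hb, Ne.symm, eq_comm]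
  · simp [ha, Ne.symm ha]

/-- The special unitary group lies in an overgroup containing the small matrices on each row. -/
theorem su_le_of_rows [Fintype F] {q : ℕ} (hq : q.Prime) (hF : Fintype.card F = q ^ 2) (h3 : q % 3 = 2)
    (h5 : 5 ≤ q) {M : Subgroup (GL Pt F)} (hM : c.Over M) (hU : M ≤ Un Pt F q)
    (hrow : ∀ i, ri i (c.WU (1, 0)) ∈ M ∧ ri i (c.WU (0, 1)) ∈ M ∧ ri i c.Jn ∈ M)
    (htor : ∀ i, ∀ A ∈ SUo Z3 F q, (A : Matrix Z3 Z3 F).IsDiag → A ^ 6 = 1 ∨ ri i A ∈ M) :
    SUo Pt F q ≤ M := by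
  classical
  -- permutations
  let P : Subgroup (Equiv.Perm Pt) :=
    { carrier := {π | ∃ g ∈ M, ∃ d, UMono g π d}
      one_mem' := ⟨1, M.one_mem, _, uMono_one⟩
      mul_mem' := fun {a b} ⟨g, hg, d, hgd⟩ ⟨h, hh, e, hhe⟩ => ⟨h * g, M.mul_mem hh hg, _, hhe.mul hgd⟩
      inv_mem' := fun {a} ⟨g, hg, d, hgd⟩ => ⟨g⁻¹, M.inv_mem hg, _, hgd.inv⟩ }
  have hconj : ∀ π ∈ P, ∀ a b, Equiv.swap a b ∈ P → Equiv.swap (π a) (π b) ∈ P := fun π hπ a b h => by
    have := P.mul_mem (P.mul_mem hπ h) (P.inv_mem hπ)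
    rwa [Equiv.mul_swap_eq_swap_mul, mul_inv_cancel_right] at this
  have htr : ∀ v : Pt, Equiv.addRight v ∈ P := fun v =>
    ⟨_, c.WU2_mem hM ((-v.1, 0), (-v.2, 0)), _, (c.uMono_WU2 _).congr (by simp) fun _ => rfl⟩
  have hrowswap : ∀ a x y : Z3, Equiv.swap ((a, x) : Pt) (a, y) ∈ P := by
    intro a x y
    by_cases hxy : x = y
    · subst hxy
      rw [Equiv.swap_self]
      exact P.one_mem
    have h0 : ∀ a, Equiv.swap ((a, 1) : Pt) (a, 2) ∈ P := fun a => ⟨_, (hrow a).2.2, _, c.uMono_ri_Jn a⟩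
    obtain ⟨z, hz⟩ := (show ∀ x y : Z3, x ≠ y → ∃ z, (x = 1 + z ∧ y = 2 + z) ∨ (y = 1 + z ∧ x = 2 + z) by decide)
      x y hxy
    have h := hconj _ (htr ((0 : Z3), z)) _ _ (h0 a)
    simp only [Equiv.coe_addRight, Prod.mk_add_mk, add_zero] at h
    rcases hz with ⟨rfl, rfl⟩ | ⟨rfl, rfl⟩
    · exact h
    · rwa [Equiv.swap_comm]
  have hswap : ∀ x y : Pt, Equiv.swap x y ∈ P := by
    rintro ⟨a, b⟩ ⟨a', b'⟩
    by_cases ha : a = a'
    · subst ha
      exact hrowswap a b b'
    have hcol : Equiv.swap ((a, b) : Pt) (a', b) ∈ P := by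
      have := hconj _ ⟨swapU, c.swap_mem hM, _, uMono_swapU⟩ _ _ (hrowswap b a a')
      simpa using this
    by_cases hb : b = b'
    · subst hb; exact hcol
    have := hconj _ hcol _ _ (hrowswap a' b b')
    rwa [Equiv.swap_apply_right, Equiv.swap_apply_of_ne_of_ne (by simp [Ne.symm ha]) (by simp [Ne.symm hb])] at this
  have hP : ∀ π, π ∈ P := fun π => by
    induction π using Equiv.Perm.swap_induction_on with
    | one => exact P.one_mem
    | swap_mul f x y _ hf => exact P.mul_mem (hswap x y) hf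
  -- diagonals
  have dmul : ∀ {d e}, InDiag M d → InDiag M e → InDiag M fun x => d x * e x :=
    fun ⟨g, hg, hgd⟩ ⟨h, hh, hhe⟩ => ⟨g * h, M.mul_mem hg hh, (hgd.mul hhe).congr (one_mul 1) fun _ => rfl⟩
  have dperm : ∀ {d} (π : Equiv.Perm Pt), InDiag M d → InDiag M fun x => d (π x) := by
    rintro d π ⟨g, hg, hgd⟩
    obtain ⟨s, hs, e, hse⟩ := hP π
    refine ⟨s * g * s⁻¹, M.mul_mem (M.mul_mem hs hg) (M.inv_mem hs),
      ((hse.mul hgd).mul hse.inv).congr (by simp) fun x => ?_⟩
    simp [mul_comm (e x), hse.ne_zero x]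
  have dinv : ∀ {d}, InDiag M d → InDiag M fun x => (d x)⁻¹ := fun ⟨g, hg, hgd⟩ =>
    ⟨g⁻¹, M.inv_mem hg, hgd.inv.congr inv_one fun x => rfl⟩
  have dcongr : ∀ {d e}, InDiag M d → (∀ x, d x = e x) → InDiag M e := fun ⟨g, hg, hgd⟩ h =>
    ⟨g, hg, hgd.congr rfl h⟩
  have pmove : ∀ {a b a' b' : Pt} {t}, a ≠ b → a' ≠ b' → InDiag M (pairF a b t) → InDiag M (pairF a' b' t) := by
    intro a b a' b' t h h' hd
    obtain ⟨π, ha, hb⟩ := exists_perm_two h h'
    refine dcongr (dperm π hd) fun x => ?_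
    rw [pairF, pairF, ← ha, ← hb]
    simp only [π.injective.eq_iff]
  have pw : ∀ a b : Pt, a ≠ b → InDiag M (pairF a b c.ω) := by
    intro a b hab
    refine pmove (a := (0, 1)) (b := (0, 2)) (by decide) hab
      (dcongr ⟨_, (hrow 0).2.1, uMono_ri_diag _ (fun y => c.χ y) ?_⟩ fun x => ?_)
    · ext x y
      rw [c.WU_val, c.W_apply, Matrix.diagonal_apply]
      by_cases hxy : x = y
      · subst hxy; simp
      · simp [hxy]
    · rcases x with ⟨x1, x2⟩
      rcases (show ∀ z : Z3, z = 0 ∨ z = 1 ∨ z = 2 by decide) x2 with rfl | rfl | rfl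
      · simp [pairF, show (0 : Z3) ≠ 1 by decide, show (0 : Z3) ≠ 2 by decide]
      · by_cases h : x1 = 0 <;> simp [pairF, h, c.χ_one]
      · by_cases h : x1 = 0 <;>
          simp [pairF, h, c.χ_two, show (2 : Z3) ≠ 1 by decide]
        exact eq_inv_of_mul_eq_one_left (by rw [← pow_succ]; exact c.cube)
  have pneg : ∀ a b : Pt, a ≠ b → InDiag M (pairF a b (-1 : F)) := by
    intro a b hab
    obtain ⟨s, hs, e, hse⟩ := hP (Equiv.swap ((1, 0) : Pt) (0, 0))
    have hg := c.uMono_ri_Jn 0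
    set G : GL Pt F := ri 0 c.Jn * (s * ri 0 c.Jn * s⁻¹) with hG
    have hfix : ∀ x : Pt,
        (Equiv.swap ((1, 0) : Pt) (0, 0))⁻¹ * ((Equiv.swap ((0, 1) : Pt) (0, 2)) * Equiv.swap ((1, 0) : Pt) (0, 0)) *
          Equiv.swap ((0, 1) : Pt) (0, 2) = 1 := by decide +kernel
    have hGm := hg.mul ((hse.mul hg).mul hse.inv)
    have hGd : InDiag M _ := ⟨G, M.mul_mem (hrow 0).2.2 (M.mul_mem (M.mul_mem hs (hrow 0).2.2) (M.inv_mem hs)),
      hGm.congr (hfix 0) fun _ => rfl⟩
    refine pmove (a := (1, 0)) (b := (1, 1)) (by decide) hab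
      (dcongr (dmul hGd (dinv (dperm (Equiv.swap ((1, 0) : Pt) (1, 1)) hGd))) fun x => ?_)
    have hne := fun y => hse.ne_zero y
    have f1 : Equiv.swap ((0, 1) : Pt) (0, 2) (1, 0) = (1, 0) := by decide
    have f2 : Equiv.swap ((0, 1) : Pt) (0, 2) (1, 1) = (1, 1) := by decide
    have f3 : Equiv.swap ((0, 1) : Pt) (0, 2) (0, 0) = (0, 0) := by decide
    have f4 : Equiv.swap ((1, 0) : Pt) (0, 0) (1, 1) = (1, 1) := by decide
    by_cases h10 : x = (1, 0)
    · subst h10
      simp [pairF, Equiv.Perm.mul_apply, Equiv.swap_inv, Equiv.swap_apply_left, Equiv.swap_apply_right, f1, f2, f3,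
        f4, show (1 : Z3) ≠ 0 by decide, hne]
    by_cases h11 : x = (1, 1)
    · subst h11
      simp [pairF, Equiv.Perm.mul_apply, Equiv.swap_inv, Equiv.swap_apply_left, Equiv.swap_apply_right, f1, f2, f3,
        f4, show (1 : Z3) ≠ 0 by decide, hne]
    rw [Equiv.swap_apply_of_ne_of_ne h10 h11, pairF, if_neg h10, if_neg h11]
    refine mul_inv_cancel₀ (mul_ne_zero ?_ (mul_ne_zero (mul_ne_zero (hne _) ?_) (inv_ne_zero (hne _))))
    all_goals split_ifs <;> simp
  have ppow : ∀ a b : Pt, a ≠ b → ∀ {t u}, InDiag M (pairF a b t) → InDiag M (pairF a b u) →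
      InDiag M (pairF a b (t * u)) := fun a b hab t u ht hu => dcongr (dmul ht hu) fun x => by
    simp only [pairF]
    split_ifs <;> simp [mul_inv, mul_comm]
  have pall : ∀ {t : F}, t * t ^ q = 1 → ∀ a b : Pt, a ≠ b → InDiag M (pairF a b t) := by
    intro t ht a b hab
    have ht0 : t ≠ 0 := fun h => by simp [h] at ht
    have hti : t⁻¹ * (t⁻¹) ^ q = 1 := by rw [inv_pow, ← mul_inv, ht, inv_one]
    let f : Z3 → F := fun y => if y = 1 then t else if y = 2 then t⁻¹ else 1
    have hf0 : ∀ y, f y ≠ 0 := fun y => by simp only [f]; split_ifs <;> simp [ht0]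
    let A : GL Z3 F := ⟨Matrix.diagonal f, Matrix.diagonal fun y => (f y)⁻¹,
      by rw [Matrix.diagonal_mul_diagonal]; simp [hf0], by rw [Matrix.diagonal_mul_diagonal]; simp [hf0]⟩
    have hA : A ∈ SUo Z3 F q := by
      refine Subgroup.mem_inf.2 ⟨mem_Un.2 fun u v => Finset.sum_congr rfl fun x _ => ?_, (mem_sl_iff _).2 ?_⟩
      · show (Matrix.diagonal f *ᵥ u) x * (Matrix.diagonal f *ᵥ v) x ^ q = _
        rw [Matrix.mulVec_diagonal, Matrix.mulVec_diagonal, mul_pow, mul_mul_mul_comm]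
        have : f x * f x ^ q = 1 := by
          simp only [f]
          split_ifs
          · exact ht
          · exact hti
          · simp
        rw [this, one_mul]
      · show (Matrix.diagonal f).det = 1
        rw [Matrix.det_diagonal, show ∏ y, f y = f 0 * f 1 * f 2 from Fin.prod_univ_three f]
        simp [f, show (0 : Z3) ≠ 1 by decide, show (0 : Z3) ≠ 2 by decide, show (2 : Z3) ≠ 1 by decide, ht0]
    rcases htor 0 A hA (Matrix.isDiag_diagonal f) with h6 | hmem
    · have e6 : (A : Matrix Z3 Z3 F) ^ 6 = 1 := by rw [← Units.val_pow_eq_pow_val, h6, Units.val_one]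
      have hpw : ∀ n : ℕ, (Matrix.diagonal f) ^ n = Matrix.diagonal fun y => f y ^ n := fun n => by
        induction n with
        | zero => simp
        | succ n ih => rw [pow_succ, ih, Matrix.diagonal_mul_diagonal]; simp [pow_succ]
      rw [show (A : Matrix Z3 Z3 F) = Matrix.diagonal f from rfl, hpw] at e6
      replace e6 := congrFun (congrFun e6 1) 1
      rw [Matrix.diagonal_apply_eq, Matrix.one_apply_eq] at e6
      change t ^ 6 = 1 at e6
      obtain ⟨k, hk⟩ := c.exists_χ (show (t ^ 2) ^ 3 = 1 by rw [← pow_mul]; exact e6)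
      have hw := pw a b hab
      have h2k : InDiag M (pairF a b (c.χ (k + k))) := by
        rcases (show ∀ z : Z3, z = 0 ∨ z = 1 ∨ z = 2 by decide) (k + k) with h | h | h <;> rw [h]
        · exact ⟨1, M.one_mem, uMono_one.congr rfl fun x => by simp [pairF]⟩
        · rwa [c.χ_one]
        · rw [c.χ_two, pow_two]
          exact ppow a b hab hw hw
      have hsq : (t - c.χ (k + k)) * (t + c.χ (k + k)) = 0 := by
        have : c.χ (k + k) * c.χ (k + k) = c.χ k := by
          rw [← c.χ_add]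
          exact congrArg c.χ ((show ∀ k : Z3, k + k + (k + k) = k by decide) k)
        linear_combination hk - this
      rcases mul_eq_zero.1 hsq with e | e
      · rwa [sub_eq_zero.1 e]
      · rw [show t = -1 * c.χ (k + k) by linear_combination e]
        exact ppow a b hab (pneg a b hab) h2k
    · refine pmove (a := (0, 1)) (b := (0, 2)) (by decide) hab
        (dcongr ⟨_, hmem, uMono_ri_diag A f rfl⟩ fun x => ?_)
      rcases x with ⟨x1, x2⟩
      by_cases h : x1 = 0 <;> simp [pairF, f, h]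
  have hdiag : ∀ e : Pt → F, (∀ x, e x * e x ^ q = 1) → ∏ x, e x = 1 → InDiag M e := by
    intro e he hp
    let o : Pt := (0, 0)
    have hs : ∀ s : Finset Pt, o ∉ s →
        InDiag M fun z => if z ∈ s then e z else if z = o then (∏ x ∈ s, e x)⁻¹ else 1 := by
      intro s
      induction s using Finset.induction with
      | empty => exact fun _ => ⟨1, M.one_mem, uMono_one.congr rfl fun x => by simp⟩
      | insert a s ha ih =>
        intro ho
        simp only [Finset.mem_insert, not_or] at ho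
        refine dcongr (dmul (pall (he a) a o (Ne.symm ho.1)) (ih ho.2)) fun z => ?_
        simp only [pairF, Finset.mem_insert, Finset.prod_insert ha, mul_inv]
        by_cases hza : z = a
        · subst hza; simp [ha, Ne.symm ho.1]
        by_cases hzo : z = o
        · subst hzo; simp [ho.2, Ne.symm ho.1, hza]
        by_cases hzs : z ∈ s <;> simp [hza, hzo, hzs]
    refine dcongr (hs (Finset.univ.erase o) (Finset.notMem_erase _ _)) fun z => ?_
    by_cases hz : z = o
    · subst hz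
      rw [if_neg (Finset.notMem_erase _ _), if_pos rfl, inv_eq_of_mul_eq_one_left]
      rw [Finset.mul_prod_erase _ _ (Finset.mem_univ _)]
      exact hp
    · rw [if_pos (Finset.mem_erase.2 ⟨hz, Finset.mem_univ _⟩)]
  have hmono : ∀ g ∈ SUo Pt F q, ∀ π d, UMono g π d → g ∈ M := by
    intro g hg π d hgd
    obtain ⟨s, hs, e, hse⟩ := hP π
    have hsS : s ∈ SUo Pt F q := Subgroup.mem_inf.2 ⟨hU hs, hM.1 hs⟩
    have hgs : g * s⁻¹ ∈ SUo Pt F q := mul_mem hg (inv_mem hsS)
    have hm : UMono (g * s⁻¹) 1 _ := (hgd.mul hse.inv).congr (inv_mul_cancel π) fun _ => rfl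
    obtain ⟨x, hx, hxm⟩ := hdiag _ (mem_UMono_un hm (Subgroup.mem_inf.1 hgs).1)
      (by rw [← hm.det]; exact (mem_sl_iff _).1 (Subgroup.mem_inf.1 hgs).2)
    have := M.mul_mem ((hm.ext hxm).symm ▸ hx) hs
    rwa [inv_mul_cancel_right] at this
  -- nine coordinates
  let i : Pt ≃ Fin 9 := Fintype.equivFinOfCardEq (by simp [ZMod.card])
  let L : (Pt → F) ≃ₗ[F] (Fin 9 → F) := LinearEquiv.funCongrLeft F F i.symm
  have hLapp : ∀ u x, L u (i x) = u x := fun u x => by simp [L, LinearMap.funLeft_apply]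
  have hent : ∀ (g : GL Pt F) x y, (glIso L g : Matrix (Fin 9) (Fin 9) F) (i x) (i y) = (g : Matrix Pt Pt F) x y := by
    intro g x y
    have hs : L (Pi.single y 1) = Pi.single (i y) 1 := by
      ext z
      obtain ⟨z, rfl⟩ := i.surjective z
      rw [hLapp]
      by_cases h : z = y
      · subst h; simp
      · simp [h, i.injective.ne h]
    have := congrFun (matIso_mulVec L (g : Matrix Pt Pt F) (Pi.single y 1)) (i x)
    rw [hs, hLapp, ← glIso_val] at this
    simpa [Matrix.mulVec_single_one] using this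
  have hform : ∀ u w, Cfsg.hermForm 9 F q (L u) (L w) = ∑ x, u x * w x ^ q := fun u w => by
    rw [Cfsg.hermForm, ← Equiv.sum_comp i]
    simp [hLapp]
  have hG : ∀ g, glIso L g ∈ Cfsg.GU 9 F q ⊓ Cfsg.Geo.specialLinear (Fin 9) F ↔ g ∈ SUo Pt F q := fun g => by
    rw [SUo, Subgroup.mem_inf, Subgroup.mem_inf, mem_sl_iff, mem_sl_iff, glIso_det]
    refine and_congr ⟨fun h => mem_Un.2 fun u v => ?_, fun h u v => ?_⟩ Iff.rfl
    · rw [← hform, ← hform, ← matIso_mulVec, ← matIso_mulVec, ← glIso_val]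
      exact h (L u) (L v)
    · obtain ⟨u, rfl⟩ := L.surjective u
      obtain ⟨v, rfl⟩ := L.surjective v
      show Cfsg.hermForm 9 F q ((glIso L g : Matrix (Fin 9) (Fin 9) F) *ᵥ L u)
        ((glIso L g : Matrix (Fin 9) (Fin 9) F) *ᵥ L v) = _
      rw [glIso_val, matIso_mulVec, matIso_mulVec, hform, hform, mem_Un.1 h u v]
  let φ : Cfsg.SU 9 F q →* GL Pt F := (glIso L).symm.toMonoidHom.comp OrthUnitaryMaximal.toGLn
  have hφ : ∀ g, φ g ∈ SUo Pt F q := fun g => by
    rw [← hG]
    show glIso L ((glIso L).symm _) ∈ _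
    rw [MulEquiv.apply_symm_apply, ← OrthUnitaryMaximal.range_toGLn]
    exact ⟨g, rfl⟩
  have hcol : ∀ (g : Cfsg.SU 9 F q) x y,
      OrthUnitaryTransvection.act g (Pi.single (i y) 1) (i x) = (φ g : Matrix Pt Pt F) x y := fun g x y => by
    rw [← OrthUnitaryMaximal.toGLn_act, Matrix.mulVec_single_one, Matrix.col_apply, ← hent (φ g) x y]
    simp [φ]
  have hH : ∀ g : Cfsg.SU 9 F q, UnitaryFrame84.IsMon g → g ∈ M.comap φ := by
    intro g hg
    have hnz : ∀ y, ∃ x, (φ g : Matrix Pt Pt F) x y ≠ 0 := fun y => by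
      by_contra h
      push Not at h
      have : Function.Injective fun u => (φ g : Matrix Pt Pt F) *ᵥ u :=
        Matrix.mulVec_injective_iff_isUnit.2 (φ g).isUnit
      have h0 := @this (Pi.single y 1) 0 (by
        ext x; simp [Matrix.mulVec_single_one, h x])
      simpa using congrFun h0 y
    choose ρ hρ using hnz
    have huniq : ∀ x y, (φ g : Matrix Pt Pt F) x y ≠ 0 → x = ρ y := fun x y hxy =>
      i.injective (hg (i y) (i y) _ _ rfl (by rw [hcol]; exact hxy) (by rw [hcol]; exact hρ y))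
    have hinj : Function.Injective ρ := by
      refine Finite.injective_iff_surjective.2 fun x => ?_
      by_contra h
      push Not at h
      obtain ⟨u, hu⟩ := (Matrix.mulVec_surjective_iff_isUnit.2 (φ g).isUnit) (Pi.single x 1)
      have := congrFun hu x
      rw [Matrix.mulVec, dotProduct, Finset.sum_eq_zero fun y _ => ?_, Pi.single_eq_same] at this
      · exact zero_ne_one this
      · by_contra hne
        exact h y (huniq x y (left_ne_zero_of_mul hne)).symm
    let π : Equiv.Perm Pt := (Equiv.ofBijective ρ (Finite.injective_iff_bijective.1 hinj)).symm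
    refine hmono _ (hφ g) π (fun x => (φ g : Matrix Pt Pt F) x (π x)) fun x y => ?_
    by_cases hy : y = π x
    · rw [if_pos hy, hy]
    · rw [if_neg hy]
      by_contra hne
      refine hy ?_
      rw [huniq x y hne]
      exact ((Equiv.ofBijective ρ (Finite.injective_iff_bijective.1 hinj)).symm_apply_apply y).symm
  have hwit : ∃ g ∈ M.comap φ, ¬ UnitaryFrame84.IsMon g := by
    have hw : kr c.Fq 1 ∈ M := c.kr_one_mem hM (c.act_nr c.act_Fq) (by rw [c.Fq_det, one_pow])
    have hwS : glIso L (kr c.Fq 1) ∈ (OrthUnitaryMaximal.toGLn (n := 9) (F := F) (q := q)).range := by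
      rw [OrthUnitaryMaximal.range_toGLn, hG]
      exact Subgroup.mem_inf.2 ⟨hU hw, hM.1 hw⟩
    obtain ⟨g, hg⟩ := hwS
    have hφg : φ g = kr c.Fq 1 := by
      show (glIso L).symm _ = _
      rw [hg, MulEquiv.symm_apply_apply]
    refine ⟨g, by show φ g ∈ M; rwa [hφg], fun h => ?_⟩
    have := h (i (0, 0)) (i (0, 0)) (i (0, 0)) (i (1, 0)) rfl ?_ ?_
    · exact absurd (i.injective this) (by decide)
    · rw [hcol, hφg, kr_val]
      simp [c.Fq_val, c.s_ne]
    · rw [hcol, hφg, kr_val]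
      simp [c.Fq_val, c.s_ne]
  obtain ⟨w, hw, hwm⟩ := hwit
  let E : Fin 9 ≃ Fin 9 × Fin 1 := (Equiv.prodUnique (Fin 9) (Fin 1)).symm
  have htop : M.comap φ = ⊤ := OrthUnitaryMaximal.eq_top_of_centres hF (by norm_num) fun v hv =>
    UnitaryFrame84.frame_centres (E := E) hF (by norm_num) (fun _ => Or.inl (by norm_num)) (by omega)
      (fun g hg => hH g ((UnitaryFrame84.isMon_iff E rfl g).2 hg)) hw
      (fun h => hwm ((UnitaryFrame84.isMon_iff E rfl w).2 h)) v hv
  intro g hg
  obtain ⟨g', hg'⟩ : glIso L g ∈ (OrthUnitaryMaximal.toGLn (n := 9) (F := F) (q := q)).range := by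
    rw [OrthUnitaryMaximal.range_toGLn]; exact (hG g).2 hg
  have : g' ∈ M.comap φ := htop ▸ Subgroup.mem_top g'
  change (glIso L).symm _ ∈ M at this
  rwa [hg', MulEquiv.symm_apply_apply] at this

end Ctx

end Cfsg.Agent.Heis12
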