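import Cfsg.Agent.Lib.Heis12UBlock
import Cfsg.Agent.Lib.Heis12UCore
import Cfsg.Agent.Lib.Heis12USpan

/-!
An overgroup of the normaliser of the two-qutrit Weyl group among isometries either normalises it or
contains the special unitary group, given the two statements about groups acting on one row.
-/

set_option autoImplicit false
set_option linter.unusedSectionVars false
set_option synthInstance.maxSize 5000

namespace Cfsg.Agent.Heis12

open Matrix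
open scoped MatrixGroups Kronecker

variable {F : Type*} [Field F]

namespace Ctx

variable (c : Ctx F)

theorem u_Jn_mem_sl [Finite F] : c.Jn ∈ Cfsg.Geo.specialLinear Z3 F := by
  refine mem_sl.2 ?_
  rw [show c.Jn = c.Fq * c.Fq from rfl, Units.val_mul, Matrix.det_mul, c.Fq_det, one_mul]

/-- The overgroup statement. -/
theorem u_final [Fintype F] {q : ℕ} (hq : q.Prime) (hF : Fintype.card F = q ^ 2) (h3 : q % 3 = 2) (h5 : 5 ≤ q)
    (hbig : 11 ≤ q → ∀ {S G : Subgroup (GL Z3 F)}, S ≤ SUo Z3 F q → G ≤ Un Z3 F q →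
      (∀ x ∈ Cfsg.Geo.specialLinear Z3 F, c.Nr1 x → x ∈ G) → (∀ g ∈ G, ∀ x ∈ S, g * x * g⁻¹ ∈ S) →
      (∃ x ∈ S, ∀ a : F, (x : Matrix Z3 Z3 F) ≠ a • 1) → (¬ ∀ g ∈ G, c.Nr1 g) → SUo Z3 F q ≤ S)
    (hfive : Fintype.card F = 25 → ∀ {S G : Subgroup (GL Z3 F)}, S ≤ SUo Z3 F 5 → G ≤ Un Z3 F 5 →
      (∀ x ∈ Cfsg.Geo.specialLinear Z3 F, c.Nr1 x → x ∈ G) → (∀ g ∈ G, ∀ x ∈ S, g * x * g⁻¹ ∈ S) →
      (∃ x ∈ S, ∀ a : F, (x : Matrix Z3 Z3 F) ≠ a • 1) → (¬ ∀ g ∈ G, c.Nr1 g) →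
      c.WU (1, 0) ∈ S ∧ c.WU (0, 1) ∈ S ∧ c.Jn ∈ S)
    {M : Subgroup (GL Pt F)} (hM : c.Over M) (hU : M ≤ Un Pt F q) :
    (∀ g ∈ M, c.Nr2 g) ∨ SUo Pt F q ≤ M := by
  haveI : Fact q.Prime := ⟨hq⟩
  haveI : CharP F q := charP_of_card_eq_prime_pow hF
  by_cases hB : c.BlockNr M
  · left
    refine c.u_core hM hB fun e => ?_
    have h7 : q ∣ 7 := (CharP.cast_eq_zero_iff F q 7).1 (by exact_mod_cast e)
    have := (Nat.prime_dvd_prime_iff_eq hq (by norm_num)).1 h7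
    omega
  right
  have hq11 : q = 5 ∨ 11 ≤ q := by
    by_contra hne
    push Not at hne
    obtain ⟨h1, h2⟩ := hne
    interval_cases q <;> first | omega | norm_num at hq
  have hrow : ∀ j, c.WU (1, 0) ∈ rowGrp M j ∧ c.WU (0, 1) ∈ rowGrp M j ∧ c.Jn ∈ rowGrp M j ∧
      ∀ A ∈ SUo Z3 F q, (A : Matrix Z3 Z3 F).IsDiag → A ^ 6 = 1 ∨ A ∈ rowGrp M j := by
    intro j
    obtain ⟨G, hS, hG, hN, hnorm, hns, hnr⟩ := c.u_row hq.ne_zero hM hU hB j
    rcases hq11 with rfl | h11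
    · obtain ⟨a, b, d⟩ := hfive (by rw [hF]; norm_num) hS hG hN hnorm hns hnr
      refine ⟨a, b, d, fun A hA hd => Or.inl (Units.ext ?_)⟩
      obtain ⟨f, hf⟩ : ∃ f, (A : Matrix Z3 Z3 F) = Matrix.diagonal f := ⟨_, hd.diagonal_diag.symm⟩
      have h1 : ∀ k, f k ^ 6 = 1 := fun k => by
        have h := mem_Un.1 hA.1 (Pi.single k 1) (Pi.single k 1)
        rw [hf] at h
        simp only [Matrix.mulVec_single, Matrix.diagonal_apply] at h
        simp [Pi.single_apply, Matrix.diagonal_apply, zero_pow] at h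
        rw [← h]
        ring
      rw [Units.val_pow_eq_pow_val, hf, Matrix.diagonal_pow, Units.val_one, ← Matrix.diagonal_one]
      exact congrArg Matrix.diagonal (funext h1)
    · have h := hbig h11 hS hG hN hnorm hns hnr
      have hm : ∀ x ∈ Cfsg.Geo.specialLinear Z3 F, c.Nr1 x → x ∈ rowGrp M j := fun x hx hn =>
        h (Subgroup.mem_inf.2 ⟨hG (hN x hx hn), hx⟩)
      exact ⟨hm _ (c.WU_mem_sl _) (c.nr_WU _), hm _ (c.WU_mem_sl _) (c.nr_WU _),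
        hm _ c.u_Jn_mem_sl (c.act_nr c.act_Jn), fun A hA _ => Or.inr (h hA)⟩
  exact c.su_le_of_rows hq hF h3 h5 hM hU (fun i => ⟨(hrow i).1, (hrow i).2.1, (hrow i).2.2.1⟩)
    fun i => (hrow i).2.2.2

end Ctx

end Cfsg.Agent.Heis12
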