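import Cfsg.Agent.Lib.Heis12Inv
import Cfsg.Agent.Lib.Heis12UDefs

/-!
Consequences of the block property in an overgroup.
-/

set_option autoImplicit false
set_option linter.unusedSectionVars false
set_option synthInstance.maxSize 5000

namespace Cfsg.Agent.Heis12

open Matrix
open scoped MatrixGroups Kronecker

variable {F : Type*} [Field F]

namespace Ctx

variable (c : Ctx F) {M : Subgroup (GL Pt F)}

/-- A matrix acting by `u` on one qutrit only is normalising. -/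
theorem u_nr_of_kr_one (hM : c.Over M) (hB : c.BlockNr M) {u : GL Z3 F}
    (hu : kr u 1 ∈ M) : c.Nr1 u := by
  have hs := c.swap_mem hM
  obtain ⟨A, hA, hn⟩ := hB ( swapU * kr u 1 * swapU⁻¹)
    (M.mul_mem (M.mul_mem hs hu) (M.inv_mem hs)) (by rw [swapU_kr, D1]; exact (one_kr_comm _ _).symm) 0
  rw [swapU_kr, kr_val, blk_kr, Units.val_one, Matrix.one_apply_eq, one_smul] at hA
  exact Units.ext hA ▸ hn

/-- No element is the identity over the even and a non-central Weyl matrix over the odd vectors. -/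
theorem u_kill (hM : c.Over M) (hB : c.BlockNr M) {g : GL Pt F}
    (hg : g ∈ M) {a : F} {v : Ph} (hv : v ≠ 0) (hgv : (g : Matrix Pt Pt F) = c.emb 1 (a • c.W v)) : False := by
  obtain ⟨φ, hd, hφ⟩ := (show ∀ v : Ph, v ≠ 0 → ∃ φ : Tw, tdet φ = 1 ∧ tap φ v = (0, 1) by decide) v hv
  obtain ⟨A, hA, -, hAd⟩ := c.exists_word φ hd
  obtain ⟨b, hb'⟩ := hA v
  rw [hφ] at hb'
  obtain ⟨h, hdef⟩ : ∃ h : GL Pt F, h = kr 1 A * g * (kr 1 A)⁻¹ := ⟨_, rfl⟩
  have hh : (h : Matrix Pt Pt F) = c.emb 1 ((a * b) • c.W (0, 1)) := by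
    rw [hdef]
    rw [Units.val_mul, Units.val_mul, kr_inv, inv_one, kr_val, kr_val, Units.val_one, hgv, ← c.emb_diag,
      ← c.emb_diag, c.emb_mul, c.emb_mul, mul_one, Units.mul_inv, Matrix.mul_smul, hb', smul_smul, Matrix.smul_mul,
      mul_assoc, Units.mul_inv, mul_one]
  have hhM : h ∈ M := hdef ▸ M.mul_mem (M.mul_mem (c.one_kr_mem hM (c.act_nr hA) hAd) hg)
    (M.inv_mem (c.one_kr_mem hM (c.act_nr hA) hAd))
  have hs := c.swap_mem hM
  have hcomm : h * kr 1 (c.WU (0, 1)) = kr 1 (c.WU (0, 1)) * h := Units.ext (by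
    rw [Units.val_mul, Units.val_mul, kr_val, Units.val_one, hh, ← c.emb_diag, c.emb_mul, c.emb_mul, one_mul,
      mul_one, WU_val, Matrix.smul_mul, Matrix.mul_smul])
  have key := hB ( swapU * h * swapU⁻¹) (M.mul_mem (M.mul_mem hs hhM) (M.inv_mem hs)) (by
    rw [D1, ← swapU_kr 1 (c.WU (0, 1))]
    calc swapU * h * swapU⁻¹ * (swapU * kr 1 (c.WU (0, 1)) * swapU⁻¹)
        = swapU * (h * kr 1 (c.WU (0, 1))) * swapU⁻¹ := by group
      _ = swapU * (kr 1 (c.WU (0, 1)) * h) * swapU⁻¹ := by rw [hcomm]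
      _ = swapU * kr 1 (c.WU (0, 1)) * swapU⁻¹ * (swapU * h * swapU⁻¹) := by group)
  have hblk : ∀ i, blk ((swapU * h * swapU⁻¹ : GL Pt F) : Matrix Pt Pt F) i i = (1 : F) • c.Pe + (a * b * c.χ i) • c.Po := by
    intro i
    have e : blk ((swapU * h * swapU⁻¹ : GL Pt F) : Matrix Pt Pt F) i i = slc (h : Matrix Pt Pt F) i i := by
      ext k l
      simp only [blk, slc, Matrix.of_apply, swapU_inv, Units.val_mul, mul_swapU, swapU_mul, neg_neg]
    rw [e, hh, emb, slc_add, slc_kr, slc_kr, Matrix.one_apply_eq, Matrix.smul_apply, W_apply, add_zero, if_pos rfl,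
      one_mul, smul_eq_mul]
  have hsq : ∀ i, (a * b * c.χ i) ^ 2 = 1 := fun i => by
    obtain ⟨A', hA', hn⟩ := key i
    rw [hblk] at hA'
    rcases c.evenodd hA' hn with e | e <;> rw [e] <;> ring
  have h0 := hsq 0
  have h1 := hsq 1
  rw [χ_zero, mul_one] at h0
  rw [χ_one, mul_pow, h0, one_mul] at h1
  exact c.ne_one (by linear_combination c.cube - c.ω * h1)

end Ctx

end Cfsg.Agent.Heis12
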