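import Cfsg.Agent.Lib.OrthUnitaryMaximal
import Cfsg.Agent.Lib.MinIndexPSU3Stab89
import Cfsg.Agent.Lib.MinIndexPSU3Orbit89

/-!
Subgroups of `SU_3(q)` containing a full root group, and the reduction of maximality to overgroups in `SU_3(q)`.
-/

set_option autoImplicit false
set_option linter.unusedSectionVars false
set_option linter.unusedVariables false

namespace Cfsg.Agent.SUThree44Base

open Cfsg Cfsg.Agent.OrthUnitaryHerm Cfsg.Agent.OrthUnitaryTransvection Cfsg.Agent.OrthUnitaryMaximal
open scoped Matrix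

variable {F : Type*} [Field F] [Fintype F] {q : ℕ}

local notation "hh" => hermForm 3 F q

/-- Maximality from the overgroups inside `SU_3(q)`. -/
theorem isMaximalIn_of3 (hF : Fintype.card F = q ^ 2) (L : Subgroup (GL (Fin 3) F))
    (hne : ∃ g : SU 3 F q, toGLn g ∉ L)
    (hmax : ∀ M : Subgroup (SU 3 F q), L.comap toGLn ≤ M → ∀ g ∈ M, toGLn g ∉ L → M = ⊤) :
    Geo.IsMaximalIn (GU 3 F q ⊓ Geo.specialLinear (Fin 3) F)
      (L ⊓ (GU 3 F q ⊓ Geo.specialLinear (Fin 3) F)) := by
  rw [← range_toGLn]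
  refine ⟨lt_of_le_of_ne inf_le_right fun he => ?_, fun M hHM hMK => ?_⟩
  · obtain ⟨g, hg⟩ := hne
    exact hg (inf_eq_right.1 he ⟨g, rfl⟩)
  · by_cases hc : ∀ g ∈ M, g ∈ L
    · exact Or.inl (le_antisymm (fun g hg => ⟨hc g hg, hMK hg⟩) hHM)
    push Not at hc
    obtain ⟨g, hgM, hgL⟩ := hc
    obtain ⟨g, rfl⟩ := hMK hgM
    have htop := hmax (M.comap toGLn) (fun x hx => hHM ⟨hx, x, rfl⟩) g hgM hgL
    refine Or.inr (le_antisymm hMK ?_)
    rintro _ ⟨x, rfl⟩
    exact Subgroup.mem_comap.1 (htop ▸ Subgroup.mem_top x)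

/-- A subgroup with all centres is everything. -/
theorem eq_top_of_centres3 (hF : Fintype.card F = q ^ 2) (hq : 3 ≤ q) {M : Subgroup (SU 3 F q)}
    (h : ∀ v, hh v v = 0 → Centre M v) : M = ⊤ := by
  rw [eq_top_iff, ← tGroup_eq_top (F := F) (q := q) (n := 3) hF (by omega) (by omega)]
  refine (Subgroup.closure_le M).2 ?_
  rintro g ⟨v, c, hv, hc⟩
  exact (h v hv).2 g ⟨c, hc⟩

/-- Orthogonal isotropic vectors in dimension three are proportional. -/
theorem dep_of_iso_orth (hF : Fintype.card F = q ^ 2) {e v : Fin 3 → F} (he0 : e ≠ 0) (he : hh e e = 0)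
    (hv : hh v v = 0) (hev : hh v e = 0) : ∃ a : F, v = a • e := by
  obtain ⟨Φ, rfl⟩ := MinIndexPSU3Geo89.exists_frame hF he0 he
  have hx := Φ.span v
  rw [hev, zero_smul, add_zero] at hx
  have h2 : hh v Φ.k ^ (q + 1) = 0 := by
    rw [hx] at hv
    simp only [herm_add_left, herm_add_right hF, herm_smul_left, herm_smul_right, Φ.ee, Φ.ek,
      Φ.ke, Φ.kk] at hv
    rw [pow_succ']
    linear_combination hv
  rw [pow_eq_zero_iff (by omega)] at h2
  rw [h2, zero_smul, add_zero] at hx
  exact ⟨_, hx⟩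

/-- A skew translate of a centre along a centre. -/
theorem centre_shift (hF : Fintype.card F = q ^ 2) {M : Subgroup (SU 3 F q)} {e v : Fin 3 → F}
    (he : Centre M e) (hv : Centre M v) {c : F} (hc : c + c ^ q = 0) :
    Centre M (v + (c * hh v e) • e) := by
  have h := centre_act hF ((centre_iff hF he.1).1 he c hc) hv
  rwa [tv_act] at h

section Frame

variable (Φ : MinIndexPSU3Geo89.Frame q F)

/-- The vector with given coordinates in a frame. -/
def vec (a b c : F) : Fin 3 → F := a • Φ.e + b • Φ.f + c • Φ.k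

theorem herm_vec_e (hF : Fintype.card F = q ^ 2) (a b c : F) : hh (vec Φ a b c) Φ.e = b := by
  simp [vec, herm_add_left, herm_smul_left, Φ.ee, Φ.fe, Φ.ke]

theorem herm_vec_f (hF : Fintype.card F = q ^ 2) (a b c : F) : hh (vec Φ a b c) Φ.f = a := by
  simp [vec, herm_add_left, herm_smul_left, Φ.ef, Φ.ff, Φ.kf]

theorem herm_vec (hF : Fintype.card F = q ^ 2) (a b c : F) :
    hh (vec Φ a b c) (vec Φ a b c) = a * b ^ q + b * a ^ q + c * c ^ q := by
  simp [vec, herm_add_left, herm_add_right hF, herm_smul_left, herm_smul_right,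
    Φ.ee, Φ.ef, Φ.ek, Φ.fe, Φ.ff, Φ.fk, Φ.ke, Φ.kf, Φ.kk]
  ring

/-- There is an element avoiding the fixed field and one of its translates by multiplication. -/
theorem exists_avoid (hF : Fintype.card F = q ^ 2) (hq : 3 ≤ q) (r : F) (hr : r ≠ 0) :
    ∃ s : F, s ^ q ≠ s ∧ (r / s) ^ q ≠ r / s := by
  classical
  have hfix := MinIndexPSU3Stab89.card_fixed (F := F) hF
  by_contra hall
  push Not at hall
  let T : Set F := {s | s ^ q = s}
  have hT : T.ncard = q := by rw [← hfix, ← Nat.card_coe_set_eq]; rfl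
  have hsub : (Set.univ : Set F) ⊆ T ∪ (fun t => r / t) '' T := fun s _ => by
    by_cases hs : s ^ q = s
    · exact Or.inl hs
    · exact Or.inr ⟨r / s, hall s hs, by
        rcases eq_or_ne s 0 with rfl | h0
        · simp
        · field_simp⟩
  have h1 := Set.ncard_le_ncard hsub (Set.toFinite _)
  rw [Set.ncard_univ, Nat.card_eq_fintype_card, hF] at h1
  have h2 := Set.ncard_union_le T ((fun t => r / t) '' T)
  have h3 := Set.ncard_image_le (f := fun t => r / t) (Set.toFinite T)
  have h4 : 3 * q ≤ q ^ 2 := by rw [sq]; exact Nat.mul_le_mul_right _ hq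
  omega

end Frame

include F in
/-- A subgroup of `SU_3(q)` without fixed point, containing a full root group, is everything. -/
theorem top_of_root (hF : Fintype.card F = q ^ 2) (hq : 3 ≤ q) {M : Subgroup (SU 3 F q)}
    {e : Fin 3 → F} (he0 : e ≠ 0) (he : Centre M e)
    (hmove : ∀ v : Fin 3 → F, v ≠ 0 → ∃ g ∈ M, ∀ a : F, act g v ≠ a • v) : M = ⊤ := by
  obtain ⟨g, hg, hge⟩ := hmove e he0
  have hge' : hh (act g e) e ≠ 0 := fun h =>
    have ⟨a, ha⟩ := dep_of_iso_orth hF he0 he.1 (by rw [herm_act, he.1]) h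
    hge a ha
  set f0 := (hh (act g e) e)⁻¹ • act g e with hf0
  have hfe : hh f0 e = 1 := by rw [hf0, herm_smul_left, inv_mul_cancel₀ hge']
  have hff : hh f0 f0 = 0 := by rw [hf0, herm_smul_left, herm_smul_right, herm_act, he.1, mul_zero, mul_zero]
  have hef : hh e f0 = 1 := by rw [herm_conj hF f0 e, hfe, one_pow]
  obtain ⟨k, hke, hkf, hkk⟩ := exists_perp2 hF (le_refl 3) (e := e) (f := f0) he.1 hff hef hfe (r := 1) (one_pow _)
  have hek := herm_skew_zero hF hke
  have hfk := herm_skew_zero hF hkf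
  have hspan : ∀ x : Fin 3 → F, x = hh x f0 • e + hh x e • f0 + hh x k • k := by
    intro x
    have lin : LinearIndependent F ![e, f0, k] := by
      rw [Fintype.linearIndependent_iff]
      intro c hc
      simp [Fin.sum_univ_three] at hc
      have a1 := congrArg (fun y => hh y f0) hc
      have a2 := congrArg (fun y => hh y e) hc
      have a3 := congrArg (fun y => hh y k) hc
      simp [herm_add_left, herm_smul_left, herm_zero_left, he.1, hff, hef, hfe, hke, hkf, hek, hfk, hkk] at a1 a2 a3
      intro i; fin_cases i <;> assumption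
    have hx : x ∈ Submodule.span F (Set.range ![e, f0, k]) :=
      lin.span_eq_top_of_card_eq_finrank (by simp) ▸ Submodule.mem_top
    obtain ⟨c, hc⟩ := (Submodule.mem_span_range_iff_exists_fun F).1 hx
    simp [Fin.sum_univ_three] at hc
    have a1 := congrArg (fun y => hh y f0) hc
    have a2 := congrArg (fun y => hh y e) hc
    have a3 := congrArg (fun y => hh y k) hc
    simp [herm_add_left, herm_smul_left, he.1, hff, hef, hfe, hke, hkf, hek, hfk, hkk] at a1 a2 a3
    rw [← a1, ← a2, ← a3, hc]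
  let Φ : MinIndexPSU3Geo89.Frame q F :=
    { e := e, f := f0, k := k, ee := he.1, ff := hff, ef := hef, fe := hfe, ke := hke, kf := hkf,
      ek := hek, fk := hfk, kk := hkk, span := hspan }
  have hcf : Centre M Φ.f := centre_smul hF (centre_act hF hg he) _
  -- the two elementary moves
  have moveE : ∀ {a b c t : F}, t + t ^ q = 0 → Centre M (vec Φ a b c) → Centre M (vec Φ (a + t * b) b c) := by
    intro a b c t ht h
    have h1 := centre_shift hF he h ht
    rw [show hh (vec Φ a b c) e = b from herm_vec_e Φ hF a b c] at h1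
    convert h1 using 1
    show (a + t * b) • e + b • f0 + c • k = a • e + b • f0 + c • k + (t * b) • e
    rw [add_smul]; abel
  have moveF : ∀ {a b c t : F}, t + t ^ q = 0 → Centre M (vec Φ a b c) → Centre M (vec Φ a (b + t * a) c) := by
    intro a b c t ht h
    have h1 := centre_shift hF hcf h ht
    rw [herm_vec_f Φ hF a b c] at h1
    convert h1 using 1
    show a • e + (b + t * a) • f0 + c • k = a • e + b • f0 + c • k + (t * a) • f0
    rw [add_smul]; abel
  have scale : ∀ {a b c : F} (l : F), Centre M (vec Φ a b c) → Centre M (vec Φ (l * a) (l * b) (l * c)) := by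
    intro a b c l h
    convert centre_smul hF h l using 1
    simp only [vec, smul_add, smul_smul]
  have hdec : ∀ x : Fin 3 → F, x = vec Φ (hh x f0) (hh x e) (hh x k) := hspan
  -- centres in the plane of `e` and `f`
  have plane : ∀ a b : F, a * b ^ q + b * a ^ q = 0 → Centre M (vec Φ a b 0) := by
    intro a b hab
    rcases eq_or_ne b 0 with rfl | hb
    · convert centre_smul hF he a using 1
      simp [vec]
      rfl
    · have hs : a / b + (a / b) ^ q = 0 := by
        rw [div_pow, div_add_div _ _ hb (pow_ne_zero _ hb)]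
        rw [show a * b ^ q + b * a ^ q = 0 from hab, zero_div]
      have h1 : Centre M (vec Φ 0 b 0) := by
        convert centre_smul hF hcf b using 1
        simp [vec]
      have h2 := moveE hs h1
      rwa [zero_add, div_mul_cancel₀ a hb] at h2
  -- a centre off the plane
  obtain ⟨a₀, b₀, c₀, hc₀, hy⟩ : ∃ a b c : F, c ≠ 0 ∧ Centre M (vec Φ a b c) := by
    obtain ⟨h, hh', hhk⟩ := hmove k (fun h0 => by simp [h0, herm_zero_left] at hkk)
    by_contra hno
    push Not at hno
    have z : ∀ {v : Fin 3 → F}, Centre M v → hh v k = 0 := by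
      intro v hv
      by_contra h0
      exact hno _ _ _ h0 ((hdec v) ▸ hv)
    have p1 : hh (act h⁻¹ e) k = 0 := z (centre_act hF (M.inv_mem hh') he)
    have p2 : hh (act h⁻¹ f0) k = 0 := z (centre_act hF (M.inv_mem hh') hcf)
    have q1 : hh e (act h k) = 0 := by
      have := herm_act h (act h⁻¹ e) k
      rwa [act_act_inv, p1] at this
    have q2 : hh f0 (act h k) = 0 := by
      have := herm_act h (act h⁻¹ f0) k
      rwa [act_act_inv, p2] at this
    refine hhk (hh (act h k) k) ?_
    conv_lhs => rw [hspan (act h k), herm_skew_zero hF q2, herm_skew_zero hF q1, zero_smul, zero_smul,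
      zero_add, zero_add]
  -- all centres
  refine eq_top_of_centres3 hF hq fun v hv => ?_
  rw [hdec v] at hv ⊢
  generalize hh v f0 = a at hv ⊢
  generalize hh v e = b at hv ⊢
  generalize hh v k = c at hv ⊢
  rcases eq_or_ne c 0 with rfl | hc
  · refine plane a b ?_
    rw [herm_vec Φ hF] at hv
    simpa using hv
  have hy' := scale (c / c₀) hy
  rw [div_mul_cancel₀ c hc₀] at hy'
  generalize c / c₀ * a₀ = a₁ at hy'
  generalize c / c₀ * b₀ = b₁ at hy'
  have e1 : hh (vec Φ a₁ b₁ c) (vec Φ a₁ b₁ c) = 0 := hy'.1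
  rw [herm_vec Φ hF] at e1 hv
  have hN : a * b ^ q + b * a ^ q ≠ 0 := by
    intro h0
    rw [h0, zero_add] at hv
    rcases mul_eq_zero.1 hv with h | h
    · exact hc h
    · exact hc (pow_eq_zero_iff (by omega) |>.1 h)
  have hb : b ≠ 0 := fun h => hN (by rw [h, zero_pow (by omega), mul_zero, zero_mul, zero_add])
  -- change the middle coordinate
  have step : ∀ (a' b' r : F), a' * b' ^ q + b' * a' ^ q = a * b ^ q + b * a ^ q → r ^ q ≠ r →
      Centre M (vec Φ a' b' c) → ∃ a'', a'' * (r * b') ^ q + (r * b') * a'' ^ q = a * b ^ q + b * a ^ q ∧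
        Centre M (vec Φ a'' (r * b') c) := by
    intro a' b' r hn hr hcen
    have hb' : b' ≠ 0 := fun h => hN (by rw [← hn, h, zero_pow (by omega), mul_zero, zero_mul, zero_add])
    set ρ := a' / b' with hρ
    set T := ρ + ρ ^ q with hT
    have hT0 : T ≠ 0 := by
      intro h0
      apply hN
      rw [← hn]
      have : a' = ρ * b' := by rw [hρ, div_mul_cancel₀ a' hb']
      rw [this, mul_pow]
      linear_combination (b' * b' ^ q) * h0
    set d := r - 1 - (r - 1) ^ q with hd
    have hd0 : d ≠ 0 := by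
      intro h0
      apply hr
      rw [hd, sub_pow_q hF, one_pow] at h0
      linear_combination -h0
    set t := d / T with ht
    have hTq : T ^ q = T := by rw [hT, add_pow_q hF, pow_q_q hF, add_comm]
    have hdq : d ^ q = -d := by
      rw [hd, sub_pow_q hF, pow_q_q hF]; ring
    have htskew : t + t ^ q = 0 := by
      rw [ht, div_pow, hTq, hdq]; ring
    have ht0 : t ≠ 0 := div_ne_zero hd0 hT0
    set s := (r - 1) / t - ρ with hs
    have hsskew : s + s ^ q = 0 := by
      have htq : t ^ q = -t := by linear_combination htskew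
      rw [hs, sub_pow_q hF, div_pow, htq]
      have h1 : (r - 1) / t + (r - 1) ^ q / -t = T := by
        rw [div_neg, ← sub_eq_add_neg, ← sub_div, ← hd, ht]
        field_simp
      linear_combination h1 - hT
    have h1 := moveF htskew (moveE hsskew hcen)
    have hbb : b' + t * (a' + s * b') = r * b' := by
      have : t * (a' + s * b') = (r - 1) * b' := by
        rw [hs, hρ]
        field_simp
        ring
      rw [this]; ring
    rw [hbb] at h1
    refine ⟨_, ?_, h1⟩
    have e2 := h1.1
    rw [herm_vec Φ hF] at e2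
    linear_combination e2 - hv
  have hn₁ : a₁ * b₁ ^ q + b₁ * a₁ ^ q = a * b ^ q + b * a ^ q := by linear_combination e1 - hv
  have hb₁ : b₁ ≠ 0 := fun h => hN (by rw [← hn₁, h, zero_pow (by omega), mul_zero, zero_mul, zero_add])
  obtain ⟨a₂, hn₂, hy₂⟩ : ∃ a₂, a₂ * b ^ q + b * a₂ ^ q = a * b ^ q + b * a ^ q ∧
      Centre M (vec Φ a₂ b c) := by
    by_cases hr : (b / b₁) ^ q = b / b₁
    · obtain ⟨s, hs1, hs2⟩ := exists_avoid hF hq (b / b₁) (div_ne_zero hb hb₁)
      have hs0 : s ≠ 0 := fun h => hs1 (by rw [h, zero_pow (by omega)])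
      obtain ⟨a', hn', hy''⟩ := step a₁ b₁ s hn₁ hs1 hy'
      obtain ⟨a'', hn'', hy'''⟩ := step a' (s * b₁) (b / b₁ / s) hn' hs2 hy''
      have e : b / b₁ / s * (s * b₁) = b := by field_simp
      rw [e] at hn'' hy'''
      exact ⟨a'', hn'', hy'''⟩
    · obtain ⟨a', hn', hy''⟩ := step a₁ b₁ (b / b₁) hn₁ hr hy'
      rw [div_mul_cancel₀ b hb₁] at hn' hy''
      exact ⟨a', hn', hy''⟩
  have hs : (a - a₂) / b + ((a - a₂) / b) ^ q = 0 := by
    rw [div_pow, div_add_div _ _ hb (pow_ne_zero _ hb), sub_pow_q hF]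
    rw [show (a - a₂) * b ^ q + b * (a ^ q - a₂ ^ q) = 0 by linear_combination -hn₂, zero_div]
  have h2 := moveE hs hy₂
  rwa [div_mul_cancel₀ _ hb, add_sub_cancel] at h2

end Cfsg.Agent.SUThree44Base
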