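import Cfsg.Agent.Lib.Hessian85Main
import Cfsg.Agent.Lib.SUThree44Base

/-!
The normaliser of an extraspecial group of order 27 and exponent 3 is maximal in `SU(3,p)`, `p ≡ 2 (mod 3)`.
-/

set_option autoImplicit false
set_option linter.unusedSectionVars false

namespace Cfsg.Agent.Hessian85

open Matrix
open Cfsg.Agent.HeisenbergThree (dg dg_val cyc inv2 sc sc_val sc_comm Form exists_form)
open Cfsg.Agent.OrthUnitaryHerm Cfsg.Agent.OrthUnitaryTransvection Cfsg.Agent.OrthUnitaryMaximal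

variable {F : Type*} [Field F] [Fintype F] {q : ℕ}

local notation "M3" => Matrix (Fin 3) (Fin 3) F
local notation "hh" => hermForm 3 F q

theorem mem_gu {g : GL (Fin 3) F} :
    g ∈ GU 3 F q ↔ ∀ u v, hh (g.val *ᵥ u) (g.val *ᵥ v) = hh u v := Iff.rfl

theorem herm_three (u v : Fin 3 → F) : hh u v = u 0 * v 0 ^ q + u 1 * v 1 ^ q + u 2 * v 2 ^ q := by
  simp [hermForm, Fin.sum_univ_three]

theorem cube_pow_q (hq : q % 3 = 2) {c : F} (hc : c ^ 3 = 1) : c ^ q = c ^ 2 := by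
  rw [pow_eq_pow_mod q hc, hq]

theorem dd_mem_gu (hq : q % 3 = 2) {w : Fˣ} (hw : Omega w) : dd w ∈ GU 3 F q := by
  refine mem_gu.mpr fun u v => ?_
  have h := cube_pow_q hq hw.c3
  have h3 := hw.c3
  simp [herm_three, val_dd', mulVec, dotProduct, Fin.sum_univ_three, mul_pow, ← pow_mul, mul_comm 2 q]
  rw [pow_mul, h]
  linear_combination (u 1 * v 1 ^ q + u 2 * v 2 ^ q * ((w : F) ^ 3 + 1)) * h3

theorem cyc_mem_gu : (cyc : GL (Fin 3) F) ∈ GU 3 F q := by
  refine mem_gu.mpr fun u v => ?_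
  simp [herm_three, val_cyc, mulVec, dotProduct, Fin.sum_univ_three]
  ring

theorem gam_mem_gu (hq : q % 3 = 2) {c : Fˣ} (hc : c ^ 3 = 1) : gam c ∈ GU 3 F q := by
  refine mem_gu.mpr fun u v => ?_
  have h3 : (c : F) ^ 3 = 1 := by rw [← Units.val_pow_eq_pow_val, hc, Units.val_one]
  have h := cube_pow_q hq h3
  simp [herm_three, val_gam, mulVec_diagonal, mul_pow, h]
  linear_combination (u 1 * v 1 ^ q + u 2 * v 2 ^ q) * h3

theorem j0_mem_gu (hF : Fintype.card F = q ^ 2) (hq : q % 3 = 2) {w : Fˣ} (hw : Omega w) :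
    j0 hw ∈ GU 3 F q := by
  refine mem_gu.mpr fun u v => ?_
  have h := cube_pow_q hq hw.c3
  have h3 := hw.c3
  have hs := hw.sum
  have hσ : (((w : F) - (w : F) ^ 2)⁻¹) ^ q = -((w : F) - (w : F) ^ 2)⁻¹ := by
    rw [inv_pow, sub_pow_q hF, ← pow_mul, mul_comm, pow_mul, h, ← inv_neg]
    congr 1
    linear_combination -(w : F) * h3
  have hσ2 : ((w : F) - (w : F) ^ 2)⁻¹ * ((w : F) - (w : F) ^ 2)⁻¹ * (-3) = 1 := by
    rw [← hw.s_sq, ← pow_two, ← mul_pow, inv_mul_cancel₀ hw.s_ne, one_pow]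
  simp [herm_three, val_j0, fm, mulVec, dotProduct, Fin.sum_univ_three, mul_pow, add_pow_q hF, hσ, h,
    ← pow_mul, mul_comm 2 q]
  rw [pow_mul, h]
  generalize ((w : F) - (w : F) ^ 2)⁻¹ = σ at hσ2 ⊢
  linear_combination (u 0 * v 0 ^ q + u 1 * v 1 ^ q + u 2 * v 2 ^ q) * hσ2
    - σ ^ 2 * (u 0 * v 1 ^ q + u 0 * v 2 ^ q + u 1 * v 0 ^ q + u 2 * v 0 ^ q + u 1 * v 2 ^ q + u 2 * v 1 ^ q) * hs
    - σ ^ 2 * ((u 0 * v 1 ^ q + u 0 * v 2 ^ q) * (w : F) + (u 1 * v 1 ^ q + u 2 * v 2 ^ q) * ((w : F) ^ 3 + 2)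
      + (u 1 * v 2 ^ q + u 2 * v 1 ^ q) * ((w : F) + (w : F) ^ 2)) * h3

theorem jj_mem_gu (hF : Fintype.card F = q ^ 2) (hq : q % 3 = 2) {w : Fˣ} (hw : Omega w) {c : Fˣ}
    (hc : c ^ 3 = 1) : jj hw c ∈ GU 3 F q :=
  mul_mem (mul_mem (gam_mem_gu hq hc) (j0_mem_gu hF hq hw)) (inv_mem (gam_mem_gu hq hc))

/-- The monomial basis is orthogonal with equal lengths. -/
theorem form_scaled (hF : Fintype.card F = q ^ 2) (hq : q % 3 = 2) {R : Subgroup (GL (Fin 3) F)} (T : Form R)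
    (hR : R ≤ Cfsg.Geo.similarityGroup hh) :
    ∃ μ : F, μ ≠ 0 ∧ ∀ u v, hh (T.P.val *ᵥ u) (T.P.val *ᵥ v) = μ * hh u v := by
  obtain ⟨c, hc⟩ := hR T.memD
  obtain ⟨c', hc'⟩ := hR T.memC
  have h3 : (T.ω : F) ^ 3 = 1 := by rw [← Units.val_pow_eq_pow_val, T.cube, Units.val_one]
  have h1 : (T.ω : F) ≠ 1 := fun e => T.ne (Units.ext e)
  set b : Fin 3 → Fin 3 → F := fun i => T.P.val *ᵥ Pi.single i 1
  set G : Fin 3 → Fin 3 → F := fun i j => hh (b i) (b j)
  have bD : ∀ i, (T.P * dd T.ω * T.P⁻¹ : GL (Fin 3) F).val *ᵥ b i = (T.ω : F) ^ (i : ℕ) • b i := by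
    intro i
    simp only [b, mulVec_mulVec, ← Units.val_mul, inv_mul_cancel_right]
    rw [Units.val_mul, ← mulVec_mulVec, ← mulVec_smul]
    congr 1
    funext k
    fin_cases i <;> fin_cases k <;> simp [val_dd', mulVec, dotProduct, Fin.sum_univ_three]
  have bC : ∀ i, (T.P * cyc * T.P⁻¹ : GL (Fin 3) F).val *ᵥ b i = b (i + 1) := by
    intro i
    simp only [b, mulVec_mulVec, ← Units.val_mul, inv_mul_cancel_right]
    rw [Units.val_mul, ← mulVec_mulVec]
    congr 1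
    funext k
    fin_cases i <;> fin_cases k <;> simp [val_cyc, mulVec, dotProduct, Fin.sum_univ_three]
  have hGD : ∀ i j : Fin 3, (T.ω : F) ^ ((i : ℕ) + 2 * (j : ℕ)) * G i j = c * G i j := by
    intro i j
    have e := hc (b i) (b j)
    change hh ((T.P * dd T.ω * T.P⁻¹ : GL (Fin 3) F).val *ᵥ b i) ((T.P * dd T.ω * T.P⁻¹ : GL (Fin 3) F).val *ᵥ b j) =
      c * hh (b i) (b j) at e
    rw [bD, bD, herm_smul_left, herm_smul_right, ← pow_mul, mul_comm (j : ℕ) q, pow_mul, cube_pow_q hq h3,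
      ← pow_mul, ← mul_assoc, ← pow_add] at e
    exact e
  have hGC : ∀ i j, G (i + 1) (j + 1) = c' * G i j := by
    intro i j
    have e := hc' (b i) (b j)
    rw [bC, bC] at e
    exact e
  have hsym : ∀ i j, G j i = G i j ^ q := fun i j => herm_conj hF (b i) (b j)
  have hoff : ∀ i j, i ≠ j → G i j = 0 := by
    intro i j hij
    by_contra hne
    have e1 := mul_right_cancel₀ hne (hGD i j)
    have e2 := mul_right_cancel₀ (show G j i ≠ 0 by rw [hsym]; exact pow_ne_zero _ hne) (hGD j i)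
    have e3 := e1.trans e2.symm
    rw [pow_eq_pow_mod _ h3, pow_eq_pow_mod ((j : ℕ) + 2 * (i : ℕ)) h3] at e3
    fin_cases i <;> fin_cases j <;> simp at hij e3 <;>
      first | exact h1 e3 | exact h1 e3.symm |
        exact h1 (by linear_combination h3 - ((T.ω : F) + 1) * e3) |
        exact h1 (by linear_combination h3 + ((T.ω : F) + 1) * e3)
  have expand : ∀ u v, hh (T.P.val *ᵥ u) (T.P.val *ᵥ v) =
      G 0 0 * (u 0 * v 0 ^ q) + G 1 1 * (u 1 * v 1 ^ q) + G 2 2 * (u 2 * v 2 ^ q) := by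
    intro u v
    have hx : ∀ x : Fin 3 → F, T.P.val *ᵥ x = x 0 • b 0 + x 1 • b 1 + x 2 • b 2 := by
      intro x
      simp only [b, ← mulVec_smul, ← mulVec_add]
      congr 1
      funext k
      fin_cases k <;> simp
    have o : ∀ i j, i ≠ j → hh (b i) (b j) = 0 := hoff
    rw [hx u, hx v]
    simp only [herm_add_left, herm_add_right hF, herm_smul_left, herm_smul_right, o 0 1 (by decide),
      o 0 2 (by decide), o 1 0 (by decide), o 1 2 (by decide), o 2 0 (by decide), o 2 1 (by decide), G]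
    ring
  have h00 : G 0 0 ≠ 0 := by
    intro h
    have h11 : G 1 1 = 0 := by rw [show (1 : Fin 3) = 0 + 1 by decide, hGC, h, mul_zero]
    have h22 : G 2 2 = 0 := by rw [show (2 : Fin 3) = 1 + 1 by decide, hGC, h11, mul_zero]
    obtain ⟨z, hz⟩ := exists_herm_ne hF (u := Pi.single (0 : Fin 3) (1 : F))
      (fun h0 => by simpa using congrFun h0 0)
    have hinv : ∀ x, T.P.val *ᵥ ((T.P⁻¹ : GL (Fin 3) F).val *ᵥ x) = x := fun x => by
      rw [mulVec_mulVec, ← Units.val_mul, mul_inv_cancel, Units.val_one, one_mulVec]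
    apply hz
    have := expand ((T.P⁻¹ : GL (Fin 3) F).val *ᵥ z) ((T.P⁻¹ : GL (Fin 3) F).val *ᵥ Pi.single 0 1)
    rwa [hinv, hinv, h, h11, h22, zero_mul, zero_mul, zero_mul, add_zero, add_zero] at this
  have hc3 : (c' : F) ^ 3 = 1 := by
    have e := (hGC 2 2)
    rw [show (2 : Fin 3) + 1 = 0 by decide] at e
    conv_rhs at e => rw [show (2 : Fin 3) = 1 + 1 by decide, hGC, show (1 : Fin 3) = 0 + 1 by decide, hGC]
    exact mul_right_cancel₀ h00 (by linear_combination -e)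
  have hfix : ∀ i, G i i ^ q = G i i := fun i => (hsym i i).symm
  have hc1 : (c' : F) = 1 := by
    have e := hfix 1
    rw [show (1 : Fin 3) = 0 + 1 by decide, hGC, mul_pow, cube_pow_q hq hc3, hfix] at e
    have := mul_right_cancel₀ h00 e
    exact mul_left_cancel₀ c'.ne_zero (by linear_combination this)
  refine ⟨G 0 0, h00, fun u v => ?_⟩
  rw [expand, herm_three]
  have h11 : G 1 1 = G 0 0 := by rw [show (1 : Fin 3) = 0 + 1 by decide, hGC, hc1, one_mul]
  have h22 : G 2 2 = G 0 0 := by rw [show (2 : Fin 3) = 1 + 1 by decide, hGC, hc1, one_mul, h11]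
  rw [h11, h22]; ring

/-- A transvection in an overgroup gives a whole root group, over the field of `p^2` elements. -/
theorem centre_of_tv {p : ℕ} [Fact p.Prime] [CharP F p] (hF : Fintype.card F = p ^ 2) {M : Subgroup (SU 3 F p)}
    {g : SU 3 F p} (hg : g ∈ M) {v f : Fin 3 → F} (hv : v ≠ 0) (hf : f ≠ 0) (hfv : f ⬝ᵥ v = 0)
    (hact : ∀ x, act g x = x + (f ⬝ᵥ x) • v) : Centre M v := by
  have key : ∀ x y, (f ⬝ᵥ x) * hermForm 3 F p v y + (f ⬝ᵥ y) ^ p * hermForm 3 F p x v +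
      (f ⬝ᵥ x) * (f ⬝ᵥ y) ^ p * hermForm 3 F p v v = 0 := by
    intro x y
    have e := herm_act g x y
    rw [hact, hact, herm_add_left, herm_add_right hF, herm_add_right hF, herm_smul_left, herm_smul_left,
      herm_smul_right, herm_smul_right] at e
    linear_combination e
  obtain ⟨x₀, hx₀⟩ : ∃ x, f ⬝ᵥ x ≠ 0 := by
    by_contra h
    push Not at h
    exact hf (funext fun i => by simpa using h (Pi.single i 1))
  have hvv : hermForm 3 F p v v = 0 := by
    have e := key x₀ v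
    rw [hfv, zero_pow (Fact.out (p := p.Prime)).ne_zero, zero_mul, mul_zero, zero_mul, add_zero, add_zero] at e
    exact (mul_eq_zero.mp e).resolve_left hx₀
  obtain ⟨z, hz⟩ := exists_herm_eq hF hv 1
  have hz' : hermForm 3 F p v z = 1 := by rw [herm_conj hF z v, hz, one_pow]
  set c := -(f ⬝ᵥ z) ^ p with hcdef
  have hfx : ∀ x, f ⬝ᵥ x = c * hermForm 3 F p x v := by
    intro x
    have e := key x z
    rw [hz', hvv] at e
    linear_combination e
  have hc : c + c ^ p = 0 := by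
    have e := key z z
    rw [hz', hz, hvv, hfx z, hz, mul_one] at e
    linear_combination e
  have hc0 : c ≠ 0 := fun h => hx₀ (by rw [hfx, h, zero_mul])
  have hgt : g = tv hF v c hvv hc := su_ext fun x => by rw [hact, tv_act, hfx]
  refine (centre_iff hF hvv).2 fun d hd => ?_
  obtain ⟨n, hn⟩ : ∃ n : ℕ, d * c⁻¹ = (n : F) := by
    have hfix : (d * c⁻¹) ^ p = d * c⁻¹ := by
      rw [mul_pow, inv_pow, show d ^ p = -d by linear_combination hd, show c ^ p = -c by linear_combination hc,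
        inv_neg, neg_mul_neg]
    obtain ⟨y, hy⟩ : d * c⁻¹ ∈ (ZMod.castHom (dvd_refl p) F).fieldRange := by
      rw [ZMod.fieldRange_castHom_eq_bot, Subfield.mem_bot_iff_pow_eq_self]; exact hfix
    exact ⟨y.val, by rw [← hy, ← ZMod.natCast_zmod_val y, map_natCast, ZMod.natCast_zmod_val]⟩
  have hpow : ∀ k : ℕ, ∀ x, act (g ^ k) x = x + ((k : F) * c * hermForm 3 F p x v) • v := by
    intro k
    induction k with
    | zero => intro x; rw [pow_zero, act_one]; simp
    | succ k ih =>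
      intro x
      rw [pow_succ, OrthUnitaryTransvection.act_mul, ih, hgt, tv_act, herm_add_left, herm_smul_left, hvv, mul_zero, add_zero, Nat.cast_succ]
      module
  have : tv hF v d hvv hd = g ^ n := su_ext fun x => by
    rw [tv_act, hpow, ← hn, inv_mul_cancel_right₀ hc0]
  rw [this]
  exact pow_mem hg n

/-- Clause (7) of the list of maximal subgroups of `SU(3,q)`. -/
theorem maximal_hess (q : ℕ) (hF : Fintype.card F = q ^ 2) (hq3 : 3 ≤ q) :
    ∀ (p : ℕ) (R : Subgroup (Matrix.GeneralLinearGroup (Fin 3) F)), p.Prime → q = p → p % 3 = 2 → 11 ≤ p → Cfsg.Geo.IsSymplecticTypeGroup 3 R → Cfsg.Geo.ActsAbsolutelyIrreducibly (Cfsg.Geo.matrixSet R) → R ≤ Cfsg.Geo.similarityGroup (Cfsg.hermForm 3 F q) → Nat.card R = 27 → Nat.card (Subgroup.center R) = 3 → Cfsg.Geo.IsMaximalIn (Cfsg.GU 3 F q ⊓ Cfsg.Geo.specialLinear (Fin 3) F) (Cfsg.Geo.subgroupNormalizer R ⊓ (Cfsg.GU 3 F q ⊓ Cfsg.Geo.specialLinear (Fin 3) F)) := by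
  classical
  intro p R hp hqp hmod h11 hsymp _ hsim h27 hz
  subst hqp
  haveI : Fact q.Prime := ⟨hp⟩
  haveI : CharP F q := by
    obtain ⟨e, hp', he⟩ := FiniteField.card F (ringChar F)
    rw [hF] at he
    exact ((Nat.prime_dvd_prime_iff_eq hp' hp).mp (hp'.dvd_of_dvd_pow (he ▸ dvd_pow_self _ e.pos.ne'))) ▸
      ringChar.charP F
  have hne : ∀ n : ℕ, n.Prime → n ≠ q → ((n : ℕ) : F) ≠ 0 := fun n hn hnp h =>
    hnp ((Nat.prime_dvd_prime_iff_eq hp hn).mp ((CharP.cast_eq_zero_iff F q n).mp h)).symm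
  have two : (2 : F) ≠ 0 := by exact_mod_cast hne 2 Nat.prime_two (by omega)
  have three : (3 : F) ≠ 0 := by exact_mod_cast hne 3 Nat.prime_three (by omega)
  have five : (5 : F) ≠ 0 := by exact_mod_cast hne 5 (by norm_num) (by omega)
  have hunits : Nat.card Fˣ = (q + 1) * (q - 1) := by
    rw [Nat.card_units, Nat.card_eq_fintype_card, hF, ← Nat.sq_sub_sq, one_pow]
  obtain ⟨ω₀, hω, hω1⟩ : ∃ ω : F, ω ^ 3 = 1 ∧ ω ≠ 1 := by
    haveI := Fact.mk Nat.prime_three
    obtain ⟨u, hu⟩ := exists_prime_orderOf_dvd_card' (G := Fˣ) 3 (by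
      rw [hunits]; exact Dvd.dvd.mul_right (by omega) _)
    refine ⟨u, ?_, fun h => ?_⟩
    · rw [← Units.val_pow_eq_pow_val, ← hu, pow_orderOf_eq_one, Units.val_one]
    · rw [Units.val_eq_one] at h
      rw [h, orderOf_one] at hu
      exact absurd hu (by norm_num)
  have hexp : Monoid.exponent R = 3 := by rw [hsymp.exponent_eq]; rfl
  have hna : ¬ IsMulCommutative R := by
    intro h
    have htop : Subgroup.center R = ⊤ :=
      eq_top_iff.mpr fun x _ => Subgroup.mem_center_iff.mpr fun y => h.is_comm.comm y x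
    rw [htop, Subgroup.card_top, h27] at hz
    omega
  obtain ⟨T⟩ := exists_form three hω hω1 R h27 hexp hna
  have hw : Omega T.ω := ⟨T.cube, T.ne, two, three, five⟩
  obtain ⟨μ, hμ, hscale⟩ := form_scaled hF hmod T hsim
  set P := T.P
  have hP : ∀ x, x ∈ GU 3 F q → P * x * P⁻¹ ∈ GU 3 F q := by
    intro x hx
    refine mem_gu.mpr fun u v => ?_
    have hu : ∀ y, P.val *ᵥ ((P⁻¹ : GL (Fin 3) F).val *ᵥ y) = y := fun y => by
      rw [mulVec_mulVec, ← Units.val_mul, mul_inv_cancel, Units.val_one, one_mulVec]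
    rw [Units.val_mul, Units.val_mul, ← mulVec_mulVec, ← mulVec_mulVec, ← mulVec_mulVec, ← mulVec_mulVec,
      hscale, mem_gu.mp hx, ← hscale, hu, hu]
  have hdet : ∀ x : GL (Fin 3) F, P * x * P⁻¹ ∈ Cfsg.Geo.specialLinear (Fin 3) F ↔
      x ∈ Cfsg.Geo.specialLinear (Fin 3) F := fun x => by
    show GeneralLinearGroup.det (P * x * P⁻¹) = 1 ↔ GeneralLinearGroup.det x = 1
    rw [map_mul, map_mul, map_inv, mul_comm (GeneralLinearGroup.det P), mul_inv_cancel_right]
  have lift : ∀ x, x ∈ GU 3 F q → GeneralLinearGroup.det x = 1 → ∃ g : SU 3 F q, toGLn g = P * x * P⁻¹ := by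
    intro x h1 h2
    have : P * x * P⁻¹ ∈ (toGLn (n := 3) (F := F) (q := q)).range :=
      range_toGLn (n := 3) (F := F) (q := q) ▸ ⟨hP x h1, (hdet x).mpr h2⟩
    exact this
  have hmap : ∀ x ∈ std T.ω, P * x * P⁻¹ ∈ R := fun x hx =>
    (std_le (K := R.comap (MulAut.conj P).toMonoidHom) T.memD T.memC) hx
  have hback : ∀ r ∈ R, P⁻¹ * r * P ∈ std T.ω := by
    intro r hr
    rw [← T.gen] at hr
    refine (Subgroup.closure_le (K := (std T.ω).comap (MulAut.conj P⁻¹).toMonoidHom)).mpr ?_ hr |> fun h => by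
      simpa using h
    rintro _ (rfl | rfl)
    · show P⁻¹ * (P * dd T.ω * P⁻¹) * P⁻¹⁻¹ ∈ std T.ω
      rw [show P⁻¹ * (P * dd T.ω * P⁻¹) * P⁻¹⁻¹ = dd T.ω by group]
      exact dd_mem _
    · show P⁻¹ * (P * cyc * P⁻¹) * P⁻¹⁻¹ ∈ std T.ω
      rw [show P⁻¹ * (P * cyc * P⁻¹) * P⁻¹⁻¹ = cyc by group]
      exact cyc_mem _
  refine SUThree44Base.isMaximalIn_of3 hF _ ?_ fun M hLM g hgM hgL => ?_
  · -- a unitary element outside the normaliser
    obtain ⟨z, hz'⟩ := IsCyclic.exists_ofOrder_eq_natCard (α := Fˣ)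
    set l := z ^ (q - 1) with hl
    have hlo : orderOf l = q + 1 := by
      rw [hl, orderOf_pow_of_dvd (by omega) (by rw [hz', hunits]; exact dvd_mul_left _ _), hz', hunits,
        Nat.mul_div_left _ (by omega)]
    have hl1 : (l : F) * (l : F) ^ q = 1 := by
      rw [← pow_succ', ← Units.val_pow_eq_pow_val, ← hlo, pow_orderOf_eq_one, Units.val_one]
    have hl2 : ((l⁻¹ : Fˣ) : F) * ((l⁻¹ : Fˣ) : F) ^ q = 1 := by
      rw [Units.val_inv_eq_inv_val, inv_pow, ← mul_inv, hl1, inv_one]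
    have hxu : dg ![l, l⁻¹, 1] ∈ GU 3 F q := by
      refine mem_gu.mpr fun u v => ?_
      simp [herm_three, dg_val, mulVec_diagonal, mul_pow]
      rw [Units.val_inv_eq_inv_val] at hl2
      linear_combination (u 0 * v 0 ^ q) * hl1 + (u 1 * v 1 ^ q) * hl2
    obtain ⟨g, hg⟩ := lift _ hxu (by
      apply Units.ext
      simp [GeneralLinearGroup.val_det_apply, dg_val, Fin.prod_univ_three])
    refine ⟨g, fun hm => ?_⟩
    have h1 := hback _ ((Subgroup.mem_set_normalizer_iff.mp hm (P * cyc * P⁻¹)).mp T.memC)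
    rw [hg, show P⁻¹ * (P * dg ![l, l⁻¹, 1] * P⁻¹ * (P * cyc * P⁻¹) * (P * dg ![l, l⁻¹, 1] * P⁻¹)⁻¹) * P =
      dg ![l, l⁻¹, 1] * cyc * (dg ![l, l⁻¹, 1])⁻¹ by group] at h1
    obtain ⟨a, u, k, ha, -, hv⟩ := (mem_std hw).mp h1
    have e : (dg ![l, l⁻¹, 1] : GL (Fin 3) F).val * (cyc : GL (Fin 3) F).val =
        (a • mon u k) * (dg ![l, l⁻¹, 1] : GL (Fin 3) F).val := by
      rw [← hv, ← Units.val_mul, ← Units.val_mul, inv_mul_cancel_right]
    have e02 := congrFun (congrFun e 0) 2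
    fin_cases k <;> simp [mon, val_cyc, dg_val, mul_apply, Fin.sum_univ_three] at e02
    · have : l ^ 3 = 1 := Units.ext (by rw [Units.val_pow_eq_pow_val, e02, ha, Units.val_one])
      have hd := Nat.le_of_dvd (by norm_num) (orderOf_dvd_of_pow_eq_one this)
      omega
  · -- overgroups
    set Mg := M.map toGLn with hMg
    let M' : Subgroup (GL (Fin 3) F) := Mg.comap (MulAut.conj P).toMonoidHom
    have inM : ∀ x, x ∈ GU 3 F q → GeneralLinearGroup.det x = 1 →
        P * x * P⁻¹ ∈ Cfsg.Geo.subgroupNormalizer R → P * x * P⁻¹ ∈ Mg := by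
      intro x h1 h2 h3
      obtain ⟨g', hg'⟩ := lift x h1 h2
      exact ⟨g', hLM (show toGLn g' ∈ _ by rw [hg']; exact h3), hg'⟩
    have hN : ∀ {r : GL (Fin 3) F}, r ∈ R → r ∈ Cfsg.Geo.subgroupNormalizer R :=
      fun h => Subgroup.le_normalizer h
    have H : Over hw M' := by
      refine ⟨?_, inM _ (dd_mem_gu hmod hw) (det_dd hw) (hN T.memD),
        inM _ cyc_mem_gu det_cyc (hN T.memC), fun c hc => inM _ (jj_mem_gu hF hmod hw hc) (det_jj hw c) ?_⟩
      · rintro x ⟨g', -, hg'⟩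
        have : toGLn g' ∈ GU 3 F q ⊓ Cfsg.Geo.specialLinear (Fin 3) F := range_toGLn (F := F) ▸ ⟨g', rfl⟩
        rw [hg'] at this
        exact (hdet x).mp this.2
      · obtain ⟨hn, -⟩ := nrm_jj hw hc
        exact T.mem_normalizer (hmap _ (hn _ (dd_mem _))) (hmap _ (hn _ (cyc_mem _)))
          (inv_mul_cancel_right _ _).symm (inv_mul_cancel_right _ _).symm
    rcases normalises_or_hasTv H with h | ⟨v, f, hv, hf, hfv, htv⟩
    · exfalso
      apply hgL
      have fwd : ∀ g ∈ M, ∀ r ∈ R, toGLn g * r * (toGLn g)⁻¹ ∈ R := by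
        intro g hg r hr
        have hx : P⁻¹ * toGLn g * P ∈ M' := ⟨g, hg, by
          show toGLn g = P * (P⁻¹ * toGLn g * P) * P⁻¹
          group⟩
        have := hmap _ (h _ hx _ (hback r hr))
        rwa [show P * (P⁻¹ * toGLn g * P * (P⁻¹ * r * P) * (P⁻¹ * toGLn g * P)⁻¹) * P⁻¹ =
          toGLn g * r * (toGLn g)⁻¹ by group] at this
      refine Subgroup.mem_set_normalizer_iff.mpr fun r => ⟨fun hr => fwd g hgM r hr, fun hr => ?_⟩
      have := fwd _ (inv_mem hgM) _ hr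
      rwa [map_inv, show (toGLn g)⁻¹ * (toGLn g * r * (toGLn g)⁻¹) * (toGLn g)⁻¹⁻¹ = r by group] at this
    · obtain ⟨g', hg'M, hg'⟩ := htv
      have hg'' : toGLn g' = P * TransvectionMax.tv v f * P⁻¹ := hg'
      obtain ⟨h0, hconj⟩ := tv_conj P hfv
      rw [hconj] at hg''
      have hact : ∀ x, act g' x = x + ((f ᵥ* (P⁻¹ : GL (Fin 3) F).val) ⬝ᵥ x) • (P.val *ᵥ v) := fun x => by
        rw [← toGLn_act, hg'', TransvectionMax.tv_act h0]
      have hv' : P.val *ᵥ v ≠ 0 := fun h' => hv (by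
        have := congrArg (fun y => (P⁻¹ : GL (Fin 3) F).val *ᵥ y) h'
        simpa [mulVec_mulVec, ← Units.val_mul] using this)
      have hf' : f ᵥ* (P⁻¹ : GL (Fin 3) F).val ≠ 0 := fun h' => hf (by
        have := congrArg (fun y => y ᵥ* P.val) h'
        simpa [vecMul_vecMul, ← Units.val_mul] using this)
      refine SUThree44Base.top_of_root hF hq3 hv' (centre_of_tv hF hg'M hv' hf' h0 hact) fun x hx => ?_
      by_contra hno
      push Not at hno
      set y := (P⁻¹ : GL (Fin 3) F).val *ᵥ x with hy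
      have hy0 : y ≠ 0 := fun h' => hx (by
        have := congrArg (fun y => P.val *ᵥ y) h'
        simpa [hy, mulVec_mulVec, ← Units.val_mul] using this)
      have eig : ∀ s, s ∈ M' → ∀ r ∈ (F ∙ y), s.val *ᵥ r ∈ (F ∙ y) := by
        intro s hs r hr
        obtain ⟨t, rfl⟩ := Submodule.mem_span_singleton.mp hr
        obtain ⟨g2, hg2, hg2'⟩ := hs
        obtain ⟨a, ha⟩ := hno g2 hg2
        refine Submodule.mem_span_singleton.mpr ⟨t * a, ?_⟩
        have hs' : s = P⁻¹ * toGLn g2 * P := by rw [hg2']; show s = P⁻¹ * (P * s * P⁻¹) * P; group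
        rw [hs', mulVec_smul, ← smul_smul, hy, Units.val_mul, Units.val_mul, ← mulVec_mulVec, ← mulVec_mulVec,
          show P.val *ᵥ ((P⁻¹ : GL (Fin 3) F).val *ᵥ x) = x by
            rw [mulVec_mulVec, ← Units.val_mul, mul_inv_cancel, Units.val_one, one_mulVec],
          toGLn_act, ha, mulVec_smul]
      have htop := invariant_top hw (F ∙ y) (eig _ H.d_mem) (eig _ H.c_mem) (Submodule.mem_span_singleton_self _) hy0
      have h1 := finrank_span_singleton (K := F) hy0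
      rw [htop, finrank_top, Module.finrank_fin_fun] at h1
      omega

end Cfsg.Agent.Hessian85
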