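import Cfsg.Agent.Lib.Heis12Base
import Cfsg.Agent.Lib.Heis12UDefs
import Cfsg.Agent.Lib.Hessian85Unitary
import Cfsg.Agent.Lib.OrthUnitaryPSU

/-!
One qutrit over the field of `q^2` elements, `q ≥ 11`: a group properly above the normaliser contains the special
unitary group, and so does every non-scalar subgroup normalised by it.
-/

set_option autoImplicit false
set_option linter.unusedSectionVars false
set_option linter.unusedSimpArgs false
set_option linter.unusedVariables false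

namespace Cfsg.Agent.Heis12

open Matrix Cfsg.Agent
open Cfsg.Agent.OrthUnitaryHerm Cfsg.Agent.OrthUnitaryTransvection Cfsg.Agent.OrthUnitaryMaximal
open scoped MatrixGroups

variable {F : Type*} [Field F]

theorem mem_SUo_iff_range [Fintype F] {q : ℕ} {g : GL Z3 F} :
    g ∈ SUo Z3 F q ↔ (g : GL (Fin 3) F) ∈ (toGLn (n := 3) (F := F) (q := q)).range := by
  rw [range_toGLn]
  exact Iff.rfl

namespace Ctx

variable (c : Ctx F)

/-- A group above the one-qutrit normaliser normalises or contains the special unitary group. -/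
theorem su_dichotomy [Fintype F] {q : ℕ} (hq : q.Prime) (hF : Fintype.card F = q ^ 2) (h3 : q % 3 = 2)
    (h11 : 11 ≤ q) {G : Subgroup (GL Z3 F)} (hG : G ≤ Un Z3 F q)
    (hN : ∀ x ∈ Cfsg.Geo.specialLinear Z3 F, c.Nr1 x → x ∈ G) :
    (∀ g ∈ G, c.Nr1 g) ∨ SUo Z3 F q ≤ G := by
  classical
  haveI : Fact q.Prime := ⟨hq⟩
  haveI : CharP F q := charP_of_card_eq_prime_pow hF
  have h5 : (5 : F) ≠ 0 := fun h => by
    have h' : ((5 : ℕ) : F) = 0 := by exact_mod_cast h
    rw [CharP.cast_eq_zero_iff F q] at h'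
    have := Nat.le_of_dvd (by norm_num) h'
    omega
  have h := c.omega85 h5
  have eC : (HeisenbergThree.cyc : GL Z3 F) = c.WU (1, 0) := c.cyc_eq
  have eD : (Hessian85.dd c.wU : GL Z3 F) = c.WU (0, 1) := c.dd_eq
  let M : Subgroup (GL (Fin 3) F) := (G ⊓ Cfsg.Geo.specialLinear Z3 F : Subgroup (GL Z3 F))
  have hMn : ∀ x ∈ Cfsg.Geo.specialLinear Z3 F, c.Nr1 x → x ∈ (G ⊓ Cfsg.Geo.specialLinear Z3 F) :=
    fun x hx hn => ⟨hN x hx hn, hx⟩
  have hover : Hessian85.Over h M :=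
    { sl := fun x hx => hx.2
      d_mem := eD.symm ▸ hMn _ (c.WU_mem_sl _) (c.nr_WU _)
      c_mem := eC.symm ▸ hMn _ (c.WU_mem_sl _) (c.nr_WU _)
      j_mem := fun u hu => by
        obtain ⟨φ, hd, hg⟩ := c.nr_gam hu
        have hj : c.Act (Hessian85.j0 h) tF := by rw [c.j0_eq h]; exact c.act_Fq
        refine hMn (Hessian85.jj h u) ?_ (c.act_nr (c.act_mul (c.act_mul hg hj) (c.act_inv hg hd)))
        exact MonoidHom.mem_ker.2 (Hessian85.det_jj h u) }
  rcases Hessian85.normalises_or_hasTv hover with hn | ⟨v, f, hv, hf, hfv, htv⟩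
  · have hnr : ∀ g ∈ G ⊓ Cfsg.Geo.specialLinear Z3 F, c.Nr1 g := by
      intro g hg v
      let S : Subgroup (GL Z3 F) := Hessian85.std c.wU
      have hT : c.WU (1, 0) ∈ S := eC ▸ Subgroup.subset_closure (Or.inr rfl)
      have hD : c.WU (0, 1) ∈ S := eD ▸ Subgroup.subset_closure (Or.inl rfl)
      have p1 : ∀ n : ℕ, c.W (1, 0) ^ n = c.W ((n : ZMod 3), 0) := fun n => by
        induction n with
        | zero => simp [show ((0, 0) : Ph) = 0 from rfl, W_zero]
        | succ n ih => rw [pow_succ, ih, W_mul]; simp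
      have p2 : ∀ n : ℕ, c.W (0, 1) ^ n = c.W (0, (n : ZMod 3)) := fun n => by
        induction n with
        | zero => simp [show ((0, 0) : Ph) = 0 from rfl, W_zero]
        | succ n ih => rw [pow_succ, ih, W_mul]; simp
      have hxv : ((c.WU (1, 0) ^ v.1.val * c.WU (0, 1) ^ v.2.val : GL Z3 F) : Matrix Z3 Z3 F) = c.W v := by
        rw [Units.val_mul, Units.val_pow_eq_pow_val, Units.val_pow_eq_pow_val, WU_val, WU_val, p1, p2, W_mul]
        simp
      obtain ⟨a, w, haw⟩ := c.std_rep (hn g hg _ (S.mul_mem (S.pow_mem hT v.1.val) (S.pow_mem hD v.2.val)))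
      refine ⟨a, w, ?_⟩
      have := congrArg (fun X => X * (g : Matrix Z3 Z3 F)) haw
      rw [← hxv, ← Units.val_mul]
      generalize c.WU (1, 0) ^ v.1.val * c.WU (0, 1) ^ v.2.val = x at this ⊢
      rw [show g * x = g * x * g⁻¹ * g by group, Units.val_mul]
      exact this.trans (Matrix.smul_mul _ _ _)
    have hsl : ∀ x ∈ Cfsg.Geo.specialLinear Z3 F, ∀ y, y * x * y⁻¹ ∈ Cfsg.Geo.specialLinear Z3 F := by
      intro x hx y
      rw [mem_sl] at hx ⊢
      rw [Units.val_mul, Units.val_mul, Matrix.det_units_conj, hx]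
    exact Or.inl fun g hg => c.nr_of_conj
      (fun x hx hn => hnr _ ⟨G.mul_mem (G.mul_mem hg (hN x hx hn)) (G.inv_mem hg), hsl x hx g⟩)
      (fun x hx hn => hnr _ ⟨G.mul_mem (G.mul_mem (G.inv_mem hg) (hN x hx hn)) hg, by simpa using hsl x hx g⁻¹⟩)
  · right
    have hMS : ∀ x ∈ M, x ∈ (toGLn (n := 3) (F := F) (q := q)).range := fun x hx =>
      mem_SUo_iff_range.1 (Subgroup.mem_inf.2 ⟨hG hx.1, hx.2⟩)
    obtain ⟨g, hg⟩ := hMS _ htv
    have hact : ∀ x, act g x = x + (f ⬝ᵥ x) • v := fun x => by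
      rw [← toGLn_act, hg, TransvectionMax.tv_act hfv]
    have htop : M.comap (toGLn (n := 3) (F := F) (q := q)) = ⊤ := by
      refine SUThree44Base.top_of_root hF (by omega) hv
        (Hessian85.centre_of_tv hF (show toGLn g ∈ M from hg ▸ htv) hv hf hfv hact) fun x hx => ?_
      by_contra hno
      push Not at hno
      have eig : ∀ s, s ∈ M → ∀ r ∈ (F ∙ x), s.val *ᵥ r ∈ (F ∙ x) := by
        intro s hs r hr
        obtain ⟨t, rfl⟩ := Submodule.mem_span_singleton.mp hr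
        obtain ⟨g2, hg2⟩ := hMS s hs
        obtain ⟨a, ha⟩ := hno g2 (show toGLn g2 ∈ M from hg2 ▸ hs)
        refine Submodule.mem_span_singleton.mpr ⟨t * a, ?_⟩
        rw [← hg2, mulVec_smul, toGLn_act, ha, smul_smul]
      have h1 := finrank_span_singleton (K := F) hx
      rw [Hessian85.invariant_top h (F ∙ x) (eig _ hover.d_mem) (eig _ hover.c_mem)
        (Submodule.mem_span_singleton_self _) hx, finrank_top, Module.finrank_fin_fun] at h1
      omega
    intro x hx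
    obtain ⟨g', hg'⟩ := mem_SUo_iff_range.1 hx
    have : g' ∈ M.comap (toGLn (n := 3) (F := F) (q := q)) := htop ▸ Subgroup.mem_top g'
    rw [Subgroup.mem_comap, hg'] at this
    exact this.1

/-- A non-scalar group normalised by a group properly above the normaliser contains the special unitary group. -/
theorem big_row [Fintype F] {q : ℕ} (hq : q.Prime) (hF : Fintype.card F = q ^ 2) (h3 : q % 3 = 2) (h11 : 11 ≤ q)
    {S G : Subgroup (GL Z3 F)} (hS : S ≤ SUo Z3 F q) (hG : G ≤ Un Z3 F q)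
    (hN : ∀ x ∈ Cfsg.Geo.specialLinear Z3 F, c.Nr1 x → x ∈ G) (hnorm : ∀ g ∈ G, ∀ x ∈ S, g * x * g⁻¹ ∈ S)
    (hns : ∃ x ∈ S, ∀ a : F, (x : Matrix Z3 Z3 F) ≠ a • 1) (hnr : ¬ ∀ g ∈ G, c.Nr1 g) :
    SUo Z3 F q ≤ S := by
  classical
  have hGS : SUo Z3 F q ≤ G := (c.su_dichotomy hq hF h3 h11 hG hN).resolve_left hnr
  let N : Subgroup (SU 3 F q) := (S : Subgroup (GL (Fin 3) F)).comap toGLn
  haveI : N.Normal := ⟨fun n hn g => by
    show toGLn (g * n * g⁻¹) ∈ (S : Subgroup (GL (Fin 3) F))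
    rw [map_mul, map_mul, map_inv]
    exact hnorm _ (hGS (mem_SUo_iff_range.2 ⟨g, rfl⟩)) _ hn⟩
  obtain ⟨x, hx, hxs⟩ := hns
  obtain ⟨n₀, hn₀⟩ := mem_SUo_iff_range.1 (hS hx)
  obtain ⟨u, hu, hmv⟩ : ∃ u, hermForm 3 F q u u = 0 ∧ ∀ a : F, act n₀ u ≠ a • u := by
    by_contra h
    push Not at h
    obtain ⟨a, ha⟩ := OrthUnitaryPSU.eq_smul_of_fix_lines hF (by norm_num) n₀ h
    refine hxs a (Matrix.mulVec_injective (funext fun y => ?_))
    rw [← hn₀, Matrix.smul_mulVec, Matrix.one_mulVec]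
    exact (toGLn_act n₀ y).trans (ha y)
  have htop : N = ⊤ := OrthUnitaryPSU.eq_top_of_moves hF (le_refl 3) (by omega) N n₀
    (show toGLn n₀ ∈ (S : Subgroup (GL (Fin 3) F)) by rw [hn₀]; exact hx) hu hmv
  intro y hy
  obtain ⟨g, hg⟩ := mem_SUo_iff_range.1 hy
  have : g ∈ N := htop ▸ Subgroup.mem_top g
  change toGLn g ∈ (S : Subgroup (GL (Fin 3) F)) at this
  rw [hg] at this
  exact this

end Ctx

end Cfsg.Agent.Heis12
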