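import Cfsg.Agent.Lib.Heis12Main
import Cfsg.Agent.Lib.Heis12UDefs
import Mathlib.GroupTheory.Transfer

/-!
One row of the grid over the field of twenty-five elements: a non-scalar subgroup of the special
unitary group normalised by the normaliser of the Weyl matrices contains the Weyl matrices and the
inversion, unless everything normalises.
-/

set_option autoImplicit false
set_option linter.unusedSectionVars false
set_option linter.style.haveILetI false

namespace Cfsg.Agent.Heis12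

open Matrix
open scoped MatrixGroups

/-- A subgroup with a `p`-group inside, central in the normaliser up to a central part, has a normal
set of elements of order prime to `p`. -/
theorem exists_prime_to_part {X : Type*} [Group X] [Finite X] {p : ℕ} [Fact p.Prime] (P : Sylow p X)
    (Z : Subgroup X) (hZP : Z ≤ P) (hZc : Z ≤ Subgroup.center X)
    (hcomm : ∀ g ∈ Subgroup.normalizer ((P : Subgroup X) : Set X), ∀ x ∈ (P : Subgroup X),
      g * x * g⁻¹ * x⁻¹ ∈ Z) :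
    ∃ L : Subgroup X, ¬ p ∣ Nat.card L ∧ (∀ x, x ∈ L ↔ x ^ Nat.card L = 1) ∧ (L = ⊥ → (P : Subgroup X) = ⊤) := by
  have hp : p.Prime := Fact.out
  haveI hZn : Z.Normal := ⟨fun z hz g => by
    rw [Subgroup.mem_center_iff.1 (hZc hz) g, mul_inv_cancel_right]
    exact hz⟩
  let q := QuotientGroup.mk' Z
  have hq : Function.Surjective q := QuotientGroup.mk'_surjective Z
  let P' : Sylow p (X ⧸ Z) := P.mapSurjective hq
  have hP' : (P' : Subgroup (X ⧸ Z)) = (P : Subgroup X).map q := Sylow.coe_mapSurjective hq P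
  have hcm : ((P : Subgroup X).map q).comap q = P := by
    rw [Subgroup.comap_map_eq, QuotientGroup.ker_mk', sup_eq_left.2 hZP]
  have hN : Subgroup.normalizer ((P' : Subgroup (X ⧸ Z)) : Set (X ⧸ Z)) ≤
      Subgroup.centralizer ((P' : Subgroup (X ⧸ Z)) : Set (X ⧸ Z)) := by
    intro y hy
    obtain ⟨g, rfl⟩ := hq y
    rw [hP'] at hy ⊢
    rw [Subgroup.mem_centralizer_iff]
    rintro _ ⟨x, hx, rfl⟩
    have hg : g ∈ Subgroup.normalizer ((P : Subgroup X) : Set X) := by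
      rw [Subgroup.mem_normalizer_iff] at hy ⊢
      intro z
      have := hy (q z)
      rw [← hcm]
      simpa [Subgroup.mem_comap, map_mul, map_inv] using this
    have h1 : q (g * x * g⁻¹ * x⁻¹) = 1 := (QuotientGroup.eq_one_iff _).2 (hcomm g hg x hx)
    rw [map_mul, map_mul, map_mul, map_inv, map_inv] at h1
    have h2 := mul_inv_eq_one.1 h1
    rw [mul_inv_eq_iff_eq_mul] at h2
    exact h2.symm
  let K : Subgroup X := (MonoidHom.transferSylow P' hN).ker.comap q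
  have hK0 : ¬ p ∣ Nat.card (MonoidHom.transferSylow P' hN).ker :=
    MonoidHom.not_dvd_card_ker_transferSylow P' hN
  have hZK : Z ≤ K := fun z hz => by
    rw [Subgroup.mem_comap, show q z = 1 from (QuotientGroup.eq_one_iff z).2 hz]
    exact Subgroup.one_mem _
  let Zk : Subgroup K := Z.subgroupOf K
  have hidx : ¬ p ∣ Zk.index := by
    let θ : K →* (MonoidHom.transferSylow P' hN).ker :=
      (q.comp K.subtype).codRestrict _ fun k => k.2
    have hθ : θ.ker = Zk := by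
      ext k
      rw [MonoidHom.mem_ker, Subgroup.mem_subgroupOf, Subtype.ext_iff]
      exact QuotientGroup.eq_one_iff (k : X)
    rw [← hθ, Subgroup.index_ker]
    exact fun h => hK0 (h.trans (Subgroup.card_subgroup_dvd_card θ.range))
  have hZkp : IsPGroup p Zk :=
    (P.isPGroup'.to_le hZP).of_equiv (Subgroup.subgroupOfEquivOfLe hZK).symm
  obtain ⟨j, hj⟩ := IsPGroup.iff_card.1 hZkp
  haveI : Zk.Normal := hZn.subgroupOf K
  have hcop : Nat.Coprime (Nat.card Zk) Zk.index := by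
    rw [hj]
    exact Nat.Coprime.pow_left _ (hp.coprime_iff_not_dvd.2 hidx)
  obtain ⟨L', hL'⟩ := Subgroup.exists_right_complement'_of_coprime hcop
  refine ⟨L'.map K.subtype, ?_, fun x => ⟨fun hx => ?_, fun hx => ?_⟩, fun hL => ?_⟩
  · rw [Subgroup.card_map_of_injective K.subtype_injective, ← hL'.symm.index_eq_card]
    exact hidx
  · have := congrArg Subtype.val (pow_card_eq_one' (x := (⟨x, hx⟩ : ↥(L'.map K.subtype))))
    simpa using this
  · rw [Subgroup.card_map_of_injective K.subtype_injective] at hx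
    have hcp : Nat.Coprime (Nat.card L') p := by
      rw [← hL'.symm.index_eq_card]
      exact (hp.coprime_iff_not_dvd.2 hidx).symm
    have hxK : x ∈ K := by
      rw [Subgroup.mem_comap, MonoidHom.mem_ker]
      obtain ⟨i, hi⟩ := P'.isPGroup' ((MonoidHom.transferSylow P' hN) (q x))
      have h1 : (MonoidHom.transferSylow P' hN (q x)) ^ Nat.card L' = 1 := by
        rw [← map_pow, ← map_pow, hx, map_one, map_one]
      exact (pow_eq_one_iff_of_coprime (Nat.Coprime.pow_right i hcp)).1 ⟨h1, hi⟩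
    obtain ⟨⟨z, l⟩, hzl : (z : K) * (l : K) = ⟨x, hxK⟩⟩ := hL'.2 ⟨x, hxK⟩
    have hzc : Commute (z : K) (l : K) := Subtype.ext (Subgroup.mem_center_iff.1 (hZc z.2) (l : K)).symm
    have h1 : ((z : K)) ^ Nat.card L' = 1 := by
      have h2 : (⟨x, hxK⟩ : K) ^ Nat.card L' = 1 := Subtype.ext (by simpa using hx)
      rw [← hzl, hzc.mul_pow] at h2
      have h3 : ((l : K)) ^ Nat.card L' = 1 := by
        rw [← Subgroup.coe_pow, pow_card_eq_one', Subgroup.coe_one]
      rwa [h3, mul_one] at h2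
    obtain ⟨i, hi⟩ := hZkp z
    have hz1 : (z : K) = 1 := (pow_eq_one_iff_of_coprime (Nat.Coprime.pow_right i hcp)).1
      ⟨h1, by have := congrArg Subtype.val hi; simpa using this⟩
    rw [hz1, one_mul] at hzl
    exact ⟨l, l.2, congrArg Subtype.val hzl⟩
  · have hL0 : L' = ⊥ := (Subgroup.map_eq_bot_iff_of_injective _ K.subtype_injective).1 hL
    have hKZ : K ≤ Z := fun k hk => by
      obtain ⟨⟨z, l⟩, hzl : (z : K) * (l : K) = ⟨k, hk⟩⟩ := hL'.2 ⟨k, hk⟩
      have hl : (l : K) = 1 := Subgroup.mem_bot.1 (hL0 ▸ l.2)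
      rw [hl, mul_one] at hzl
      have := z.2
      rw [hzl] at this
      exact this
    have hker : (MonoidHom.transferSylow P' hN).ker = ⊥ := by
      rw [eq_bot_iff]
      intro y hy
      obtain ⟨g, rfl⟩ := hq y
      exact Subgroup.mem_bot.2 ((QuotientGroup.eq_one_iff g).2 (hKZ hy))
    have htop : (P' : Subgroup (X ⧸ Z)) = ⊤ := by
      have := MonoidHom.ker_transferSylow_isComplement' P' hN
      rw [hker] at this
      exact Subgroup.isComplement'_bot_left.1 this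
    rw [← hcm, ← hP', htop, Subgroup.comap_top]

variable {F : Type*} [Field F]

theorem conj_smul_eq {ι : Type} [Fintype ι] [DecidableEq ι] {A B : GL ι F} {a : F}
    (h : (A : Matrix ι ι F) = a • (B : Matrix ι ι F)) (x : GL ι F) : A * x * A⁻¹ = B * x * B⁻¹ := by
  have h1 : A * x * B = B * x * A := Units.ext (by
    simp only [Units.val_mul, h, Matrix.smul_mul, Matrix.mul_smul])
  have h2 : A * B = B * A := Units.ext (by
    simp only [Units.val_mul, h, Matrix.smul_mul, Matrix.mul_smul])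
  calc A * x * A⁻¹ = A * x * B * (A * B)⁻¹ := by group
    _ = B * x * A * (B * A)⁻¹ := by rw [h1, h2]
    _ = B * x * B⁻¹ := by group

theorem exists_tap : ∀ u v : Ph, u ≠ 0 → v ≠ 0 → ∃ ψ : Tw, InQ ψ ∧ tap ψ u = v := by decide

theorem inQ_tneg_or_sq (φ : Tw) (h : InQ φ) (hne : φ ≠ tone) : φ = tneg ∨ tmul φ φ = tneg := by
  rcases inQ_cases φ h with rfl | rfl | rfl | rfl | rfl | rfl | rfl | rfl
  · exact absurd rfl hne
  · exact Or.inl rfl
  all_goals exact Or.inr (by decide)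

theorem ph_ne : ((1, 0) : Ph) ≠ 0 ∧ ((0, 1) : Ph) ≠ 0 := by decide

/-- The product over all points against the products over the four lines. -/
theorem lines_identity {H : Type*} [CommGroup H] (f : Ph → H) :
    f 0 ^ 3 * ((f 0 * f (0, 1) * f (0, 2)) * (f (1, 0) * f (1, 1) * f (1, 2)) *
        (f (2, 0) * f (2, 1) * f (2, 2))) =
      (f 0 * f (0, 1) * f (0, 2)) * (f 0 * f (1, 0) * f (2, 0)) * (f 0 * f (1, 1) * f (2, 2)) *
        (f 0 * f (1, 2) * f (2, 1)) := by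
  apply Additive.ofMul.injective
  simp only [ofMul_mul, ofMul_pow]
  abel

/-- Three signs of product one killing the characters are equal. -/
theorem sign_cases {a b b' X Y : F} (ha : a = 1 ∨ a = -1) (hb : b = 1 ∨ b = -1) (hb' : b' = 1 ∨ b' = -1)
    (hp : a * b * b' = 1) (e : a + b * X + b' * Y = 0) (hs : 1 + X + Y = 0) (h2 : (2 : F) ≠ 0) (hX : X ≠ 0)
    (hY : Y ≠ 0) : a = b ∧ b = b' := by
  rcases ha with rfl | rfl <;> rcases hb with rfl | rfl <;> rcases hb' with rfl | rfl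
  · exact ⟨rfl, rfl⟩
  · exact absurd (by linear_combination -hp) h2
  · exact absurd (by linear_combination -hp) h2
  · exact absurd (by linear_combination e + hs) h2
  · exact absurd (by linear_combination -hp) h2
  · exact absurd (by linear_combination e + hs) (mul_ne_zero h2 hX)
  · exact absurd (by linear_combination e + hs) (mul_ne_zero h2 hY)
  · exact ⟨rfl, rfl⟩

namespace Ctx

variable (c : Ctx F)

/-- The Weyl matrices times scalars of determinant one. -/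
def T3 : Subgroup (GL Z3 F) := c.triv ⊓ Cfsg.Geo.specialLinear Z3 F

theorem mem_T3 {g : GL Z3 F} : g ∈ c.T3 ↔ c.Act g tone ∧ g.val.det = 1 := by
  rw [T3, Subgroup.mem_inf, mem_sl]
  rfl

theorem T3_spec {g : GL Z3 F} (hg : g ∈ c.T3) :
    ∃ (k : ZMod 3) (u : Ph), (g : Matrix Z3 Z3 F) = c.χ k • c.W u := by
  obtain ⟨a, u, h⟩ := c.eq_smul_W (c.mem_T3.1 hg).1
  have hd := (c.mem_T3.1 hg).2
  rw [h, Matrix.det_smul, W_det, mul_one, ZMod.card] at hd
  obtain ⟨k, rfl⟩ := c.exists_χ hd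
  exact ⟨k, u, h⟩

theorem T3_cube {g : GL Z3 F} (hg : g ∈ c.T3) : g ^ 3 = 1 := by
  obtain ⟨k, u, h⟩ := c.T3_spec hg
  refine Units.ext ?_
  rw [Units.val_pow_eq_pow_val, h, smul_pow, c.χ_cube, one_smul, pow_succ', pow_two, c.W_cube, Units.val_one]

theorem T3_isPGroup : IsPGroup 3 c.T3 := fun g =>
  ⟨1, Subtype.ext (by simpa using c.T3_cube g.2)⟩

theorem WU_mem_T3 (v : Ph) : c.WU v ∈ c.T3 := c.mem_T3.2 ⟨c.act_W v, c.W_det v⟩

/-- A normalising element keeps the group. -/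
theorem conj_T3 {g : GL Z3 F} {φ : Tw} (hg : c.Act g φ) (hd : tdet φ = 1) {x : GL Z3 F} (hx : x ∈ c.T3) :
    g * x * g⁻¹ ∈ c.T3 := by
  rw [mem_T3] at hx ⊢
  refine ⟨?_, by rw [Units.val_mul, Units.val_mul, Matrix.det_units_conj, hx.2]⟩
  have h := c.act_mul (c.act_mul hg hx.1) (c.act_inv hg hd)
  rwa [(show ∀ φ : Tw, tdet φ = 1 → tmul (tmul φ tone) (tinv φ) = tone by decide) φ hd] at h

theorem nr_of_normalises {g : GL Z3 F} (h : ∀ x ∈ c.T3, g * x * g⁻¹ ∈ c.T3) : c.Nr1 g := fun v => by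
  obtain ⟨k, u, hu⟩ := c.T3_spec (h _ (c.WU_mem_T3 v))
  refine ⟨c.χ k, u, ?_⟩
  have := congrArg (fun X => X * (g : Matrix Z3 Z3 F)) hu
  simpa [Units.val_mul, mul_assoc, WU_val, Matrix.smul_mul] using this

/-- The scalars of the group. -/
def Z3g (_c : Ctx F) : Subgroup (GL Z3 F) := scal Z3 F ⊓ Cfsg.Geo.specialLinear Z3 F

theorem Z3g_le : c.Z3g ≤ c.T3 := fun g hg => by
  obtain ⟨a, ha⟩ := hg.1
  refine c.mem_T3.2 ⟨fun v => ⟨1, ?_⟩, mem_sl.1 hg.2⟩
  rw [tap_one, one_smul, ha, Matrix.smul_mul, Matrix.mul_smul, one_mul, mul_one]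

theorem Z3g_comm {g : GL Z3 F} (hg : g ∈ c.Z3g) (x : GL Z3 F) : x * g = g * x := by
  obtain ⟨a, ha⟩ := hg.1
  refine Units.ext ?_
  rw [Units.val_mul, Units.val_mul, ha, Matrix.smul_mul, Matrix.mul_smul, one_mul, mul_one]

theorem comm_mem_Z3g {x y : GL Z3 F} (hx : x ∈ c.T3) (hy : y ∈ c.T3) : x * y * x⁻¹ * y⁻¹ ∈ c.Z3g := by
  refine ⟨?_, (c.T3.mul_mem (c.T3.mul_mem (c.T3.mul_mem hx hy) (c.T3.inv_mem hx)) (c.T3.inv_mem hy)).2⟩
  obtain ⟨k, u, hu⟩ := c.T3_spec hx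
  obtain ⟨l, v, hv⟩ := c.T3_spec hy
  refine ⟨c.χ (u.2 * v.1 - u.1 * v.2), ?_⟩
  have h1 : ((x * y : GL Z3 F) : Matrix Z3 Z3 F) =
      c.χ (u.2 * v.1 - u.1 * v.2) • ((y * x : GL Z3 F) : Matrix Z3 Z3 F) := by
    simp only [Units.val_mul, hu, hv, Matrix.smul_mul, Matrix.mul_smul, smul_smul]
    rw [c.W_comm u v, smul_smul]
    congr 1
    ring
  rw [show x * y * x⁻¹ * y⁻¹ = x * y * (y * x)⁻¹ by group, Units.val_mul (x * y), h1, Matrix.smul_mul,
    Units.mul_inv]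

variable [Fintype F]

theorem pow_nine_cube (hF : Fintype.card F = 25) {a : F} (h : a ^ 9 = 1) : a ^ 3 = 1 := by
  have ha : a ≠ 0 := fun e => by simp [e] at h
  have h24 : a ^ (25 - 1) = 1 := hF ▸ FiniteField.pow_card_sub_one_eq_one a ha
  have e : a ^ 27 = (a ^ 9) ^ 3 := by rw [← pow_mul]
  rw [h, one_pow, show (27 : ℕ) = 24 + 3 from rfl, pow_add, show (24 : ℕ) = 25 - 1 from rfl, h24, one_mul] at e
  exact e

theorem det_eq_one (hF : Fintype.card F = 25) {A : GL Z3 F} {φ : Tw} (hA : c.Act A φ)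
    (h4 : tmul (tmul φ φ) (tmul φ φ) = tone) (hd : A.val.det ^ 3 = 1) : A.val.det = 1 := by
  have h : c.Act (A * A * (A * A)) tone := h4 ▸ c.act_mul (c.act_mul hA hA) (c.act_mul hA hA)
  obtain ⟨a, u, e⟩ := c.eq_smul_W h
  have e' := congrArg Matrix.det e
  rw [Units.val_mul, Units.val_mul, Matrix.det_mul, Matrix.det_mul, Matrix.det_smul, W_det, mul_one, ZMod.card]
    at e'
  have h9 : a ^ 9 = 1 := by
    rw [show (9 : ℕ) = 3 * 3 from rfl, pow_mul, ← e']
    linear_combination (A.val.det ^ 9 + A.val.det ^ 6 + A.val.det ^ 3 + 1) * hd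
  rw [pow_nine_cube hF h9] at e'
  linear_combination e' - A.val.det * hd

/-- Determinant one forces the action into the quaternion group. -/
theorem inQ_of_det (hF : Fintype.card F = 25) {g : GL Z3 F} {φ : Tw} (hg : c.Act g φ) (hd : tdet φ = 1)
    (hdet : g.val.det = 1) : InQ φ := by
  have hK : c.Kq.val.det = c.χ 2 := by
    rw [Kq_val, Matrix.det_diagonal, show ∀ f : ZMod 3 → F, ∏ y, f y = f 0 * f 1 * f 2 from
      fun f => Fin.prod_univ_three f, ← c.χ_add, ← c.χ_add]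
    congr 1
  have hK' : c.Act c.Kq⁻¹ (tinv tK) := c.act_inv c.act_Kq (by decide)
  have hKi : ((c.Kq⁻¹ : GL Z3 F) : Matrix Z3 Z3 F).det = c.χ 1 := by
    have := congrArg (fun X : GL Z3 F => (X : Matrix Z3 Z3 F).det) (mul_inv_cancel c.Kq)
    simp only [Units.val_mul, Matrix.det_mul, hK, Units.val_one, Matrix.det_one] at this
    refine mul_left_cancel₀ (c.χ_ne 2) (this.trans ?_)
    rw [← c.χ_add, show (2 : ZMod 3) + 1 = 0 from rfl, χ_zero]
  rcases (show ∀ φ : Tw, tdet φ = 1 → InQ φ ∨ InQ (tmul (tinv tK) φ) ∨ InQ (tmul (tinv tK) (tmul (tinv tK) φ))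
    by decide) φ hd with h | h | h
  · exact h
  · exfalso
    have := c.det_eq_one hF (c.act_mul hK' hg) h.2 (by rw [Units.val_mul, Matrix.det_mul, hKi, hdet, mul_one, c.χ_cube])
    rw [Units.val_mul, Matrix.det_mul, hKi, hdet, mul_one] at this
    exact absurd (c.χ_eq_one this) (by decide)
  · exfalso
    have := c.det_eq_one hF (c.act_mul hK' (c.act_mul hK' hg)) h.2 (by
      rw [Units.val_mul, Units.val_mul, Matrix.det_mul, Matrix.det_mul, hKi, hdet, mul_one, ← c.χ_add, c.χ_cube])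
    rw [Units.val_mul, Units.val_mul, Matrix.det_mul, Matrix.det_mul, hKi, hdet, mul_one, ← c.χ_add] at this
    exact absurd (c.χ_eq_one this) (by decide)

/-- A three-group of the special unitary group containing the Weyl matrices equals them. -/
theorem T3_max (hF : Fintype.card F = 25) {X : Subgroup (GL Z3 F)} (hX : X ≤ Cfsg.Geo.specialLinear Z3 F)
    (h3 : IsPGroup 3 X) (hle : c.T3 ≤ X) : X ≤ c.T3 := by
  by_contra hne
  haveI : Fact (Nat.Prime 3) := ⟨Nat.prime_three⟩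
  haveI : Group.IsNilpotent X := h3.isNilpotent
  have hlt : c.T3.subgroupOf X < ⊤ := lt_top_iff_ne_top.2 fun e => hne (Subgroup.subgroupOf_eq_top.1 e)
  have h1 := Group.normalizerCondition_of_isNilpotent (G := X) _ hlt
  obtain ⟨⟨g, hgX⟩, hgn, hgT⟩ := Set.exists_of_ssubset (SetLike.coe_ssubset_coe.2 h1)
  rw [SetLike.mem_coe, Subgroup.mem_subgroupOf] at hgT
  have hN : c.Nr1 g := c.nr_of_normalises fun x hx => by
    have := (Subgroup.mem_normalizer_iff.1 hgn ⟨x, hle hx⟩).1 (Subgroup.mem_subgroupOf.2 hx)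
    simpa [Subgroup.mem_subgroupOf] using this
  obtain ⟨φ, hd, hact⟩ := c.nr_act hN
  have hdet := mem_sl.1 (hX hgX)
  have hQ := c.inQ_of_det hF hact hd hdet
  obtain ⟨i, hi⟩ := h3 ⟨g, hgX⟩
  have hgi : g ^ (3 ^ i) = 1 := by simpa using congrArg Subtype.val hi
  have hg4 : g ^ 4 ∈ c.triv := by
    have := c.act_mul (c.act_mul hact hact) (c.act_mul hact hact)
    rw [hQ.2] at this
    rw [show g ^ 4 = g * g * (g * g) by simp [pow_succ, mul_assoc]]
    exact this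
  have hgt : g ∈ c.triv := mem_of_pows c.triv (m := 4) (n := 3 ^ i) (Nat.Coprime.pow_right i (by norm_num))
    hg4 (by rw [hgi]; exact c.triv.one_mem)
  exact hgT (c.mem_T3.2 ⟨hgt, hdet⟩)

section row

variable {S G : Subgroup (GL Z3 F)}

theorem T3_le (hN : ∀ x ∈ Cfsg.Geo.specialLinear Z3 F, c.Nr1 x → x ∈ G) : c.T3 ≤ G :=
  fun g hg => hN g hg.2 (c.act_nr (c.mem_T3.1 hg).1)

theorem exists_q (hF : Fintype.card F = 25) (hN : ∀ x ∈ Cfsg.Geo.specialLinear Z3 F, c.Nr1 x → x ∈ G)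
    {ψ : Tw} (hψ : InQ ψ) : ∃ B ∈ G, c.Act B ψ := by
  obtain ⟨A, hA, -, hA3⟩ := c.exists_word ψ hψ.1
  exact ⟨A, hN A (mem_sl.2 (c.det_eq_one hF hA hψ.2 hA3)) (c.act_nr hA), hA⟩

theorem W01_diag : c.W (0, 1) = Matrix.diagonal fun y => c.χ y := by
  ext x y
  rw [W_apply, Matrix.diagonal_apply, add_zero, one_mul]
  by_cases h : x = y
  · subst h; simp
  · simp [h]

/-- An element commuting with the clock is diagonal, with entries of order dividing six. -/
theorem diag_six {y : GL Z3 F} (hy : y ∈ Un Z3 F 5) (hc : Commute y (c.WU (0, 1))) :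
    ∃ d : Z3 → F, (y : Matrix Z3 Z3 F) = Matrix.diagonal d ∧ ∀ x, d x ^ 6 = 1 := by
  have hoff : ∀ i j, i ≠ j → (y : Matrix Z3 Z3 F) i j = 0 := fun i j hij => by
    have h := congrArg (fun M : Matrix Z3 Z3 F => M i j) (congrArg Units.val hc.eq)
    rw [Units.val_mul, Units.val_mul, WU_val, W01_diag, Matrix.mul_diagonal, Matrix.diagonal_mul] at h
    by_contra hne
    exact hij (c.χ_inj (mul_right_cancel₀ hne (by linear_combination h))).symm
  refine ⟨fun x => (y : Matrix Z3 Z3 F) x x, ?_, fun x => ?_⟩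
  · ext i j
    by_cases hij : i = j
    · subst hij; rw [Matrix.diagonal_apply_eq]
    · rw [Matrix.diagonal_apply_ne _ hij, hoff i j hij]
  · have h := mem_Un.1 hy (Pi.single x 1) (Pi.single x 1)
    rw [Finset.sum_eq_single x, Finset.sum_eq_single x] at h
    · simp only [Matrix.mulVec_single_one, Matrix.col_apply, Pi.single_eq_same, one_pow, mul_one] at h
      rw [pow_succ']
      exact h
    · intro b _ hb; simp [Pi.single_eq_of_ne hb]
    · simp
    · intro b _ hb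
      simp [Matrix.mulVec_single_one, hoff b x hb]
    · simp

/-- An element commuting with a Weyl matrix becomes diagonal under a normalising element. -/
theorem exists_diag (hF : Fintype.card F = 25) (hG : G ≤ Un Z3 F 5)
    (hN : ∀ x ∈ Cfsg.Geo.specialLinear Z3 F, c.Nr1 x → x ∈ G) {y : GL Z3 F} (hy : y ∈ Un Z3 F 5)
    {v : Ph} (hv : v ≠ 0) (hc : Commute y (c.WU v)) :
    ∃ B ∈ G, ∃ d : Z3 → F, ((B⁻¹ * y * B : GL Z3 F) : Matrix Z3 Z3 F) = Matrix.diagonal d ∧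
      ∀ x, d x ^ 6 = 1 := by
  obtain ⟨ψ, hψ, hψv⟩ := (show ∀ v : Ph, v ≠ 0 → ∃ ψ : Tw, InQ ψ ∧ tap ψ (0, 1) = v by decide) v hv
  obtain ⟨B, hBG, hB⟩ := c.exists_q hF hN hψ
  obtain ⟨a, ha⟩ := hB (0, 1)
  rw [hψv] at ha
  have hconj : ((B * c.WU (0, 1) * B⁻¹ : GL Z3 F) : Matrix Z3 Z3 F) = a • c.W v := by
    rw [Units.val_mul, Units.val_mul, WU_val, ha, Matrix.smul_mul, mul_assoc, Units.mul_inv, mul_one]
  have hc' : Commute y (B * c.WU (0, 1) * B⁻¹) := Units.ext (by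
    rw [Units.val_mul y, Units.val_mul _ y, hconj, Matrix.mul_smul, Matrix.smul_mul, ← WU_val, ← Units.val_mul,
      hc.eq, Units.val_mul])
  refine ⟨B, hBG, c.diag_six
    ((Un Z3 F 5).mul_mem ((Un Z3 F 5).mul_mem ((Un Z3 F 5).inv_mem (hG hBG)) hy) (hG hBG)) ?_⟩
  have h := congrArg (fun z => B⁻¹ * z * B) hc'.eq
  show B⁻¹ * y * B * c.WU (0, 1) = c.WU (0, 1) * (B⁻¹ * y * B)
  simpa [mul_assoc] using h

theorem fixed_six (hF : Fintype.card F = 25) (hG : G ≤ Un Z3 F 5)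
    (hN : ∀ x ∈ Cfsg.Geo.specialLinear Z3 F, c.Nr1 x → x ∈ G) {y : GL Z3 F} (hy : y ∈ Un Z3 F 5)
    {v : Ph} (hv : v ≠ 0) (hc : Commute y (c.WU v)) : y ^ 6 = 1 := by
  obtain ⟨B, -, d, hd, hd6⟩ := c.exists_diag hF hG hN hy hv hc
  have h : (B⁻¹ * y * B) ^ 6 = 1 := Units.ext (by
    rw [Units.val_pow_eq_pow_val, hd, Matrix.diagonal_pow, Units.val_one, ← Matrix.diagonal_one]
    exact congrArg Matrix.diagonal (funext hd6))
  have : B⁻¹ * y ^ 6 * B = 1 := by
    rw [← h, show (B⁻¹ * y * B) = B⁻¹ * y * (B⁻¹)⁻¹ by rw [inv_inv], conj_pow, inv_inv]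
  calc y ^ 6 = B * (B⁻¹ * y ^ 6 * B) * B⁻¹ := by group
    _ = 1 := by rw [this, mul_one, mul_inv_cancel]

/-- An abelian group of order prime to three normalised by the Weyl matrices has exponent two, and a
non-trivial one contains a non-trivial element commuting with a Weyl matrix. -/
theorem abelian_step (hF : Fintype.card F = 25) (hG : G ≤ Un Z3 F 5)
    (hN : ∀ x ∈ Cfsg.Geo.specialLinear Z3 F, c.Nr1 x → x ∈ G) {A : Subgroup (GL Z3 F)} (hA : A ≤ SUo Z3 F 5)
    [IsMulCommutative A] (hAn : ∀ v, ∀ x ∈ A, c.WU v * x * (c.WU v)⁻¹ ∈ A)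
    (h3 : ¬ 3 ∣ Nat.card A) {x : GL Z3 F} (hx : x ∈ A) :
    x * x = 1 ∧ (x = 1 ∨ ∃ y ∈ A, y ≠ 1 ∧ ∃ v : Ph, v ≠ 0 ∧ Commute y (c.WU v)) := by
  letI : CommGroup A := { (inferInstance : Group A) with mul_comm := (inferInstance : IsMulCommutative A).is_comm.comm }
  let f : Ph → A := fun v => ⟨c.WU v * x * (c.WU v)⁻¹, hAn v x hx⟩
  have hcop : Nat.Coprime (Nat.card A) 3 := (Nat.prime_three.coprime_iff_not_dvd.2 h3).symm
  have hcube : ∀ a : A, a ^ 3 = 1 → a = 1 := fun a ha =>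
    (pow_eq_one_iff_of_coprime hcop).1 ⟨pow_card_eq_one', ha⟩
  have htr : ∀ u v : Ph, c.WU u * (f v : GL Z3 F) * (c.WU u)⁻¹ = (f (u + v) : GL Z3 F) := fun u v => by
    show c.WU u * (c.WU v * x * (c.WU v)⁻¹) * (c.WU u)⁻¹ = c.WU (u + v) * x * (c.WU (u + v))⁻¹
    rw [← conj_smul_eq (A := c.WU u * c.WU v) (B := c.WU (u + v)) (c.W_mul u v)]
    group
  let N : Ph → A := fun v => f 0 * f v * f (v + v)
  have hNc : ∀ v, Commute (N v : GL Z3 F) (c.WU v) := fun v => by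
    have h : c.WU v * (N v : GL Z3 F) * (c.WU v)⁻¹ = (N v : GL Z3 F) := by
      have e : c.WU v * (N v : GL Z3 F) * (c.WU v)⁻¹ =
          ((f v * f (v + v) * f 0 : A) : GL Z3 F) := by
        simp only [N, Subgroup.coe_mul]
        calc _ = (c.WU v * (f 0 : GL Z3 F) * (c.WU v)⁻¹) * (c.WU v * (f v : GL Z3 F) * (c.WU v)⁻¹) *
              (c.WU v * (f (v + v) : GL Z3 F) * (c.WU v)⁻¹) := by group
          _ = _ := by
            rw [htr, htr, htr, add_zero, (show ∀ v : Ph, v + (v + v) = 0 by decide) v]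
      rw [e, show f v * f (v + v) * f 0 = N v from (mul_comm _ _).trans (mul_assoc _ _ _).symm]
    exact (mul_inv_eq_iff_eq_mul.1 h).symm
  have hN2 : ∀ v, v ≠ 0 → N v * N v = 1 := fun v hv => hcube _ (by
    have h6 := c.fixed_six hF hG hN (hA (N v).2).1 hv (hNc v)
    refine Subtype.ext ?_
    rw [Subgroup.coe_pow, Subgroup.coe_mul, Subgroup.coe_one, ← pow_two, ← pow_mul]
    exact h6)
  let R : Z3 → A := fun i => f (i, 0) * f (i, 1) * f (i, 2)
  have hR : ∀ i, ((R i : A) : GL Z3 F) = c.WU (i, 0) * (N (0, 1) : GL Z3 F) * (c.WU (i, 0))⁻¹ := fun i => by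
    simp only [R, N, Subgroup.coe_mul]
    calc _ = (c.WU (i, 0) * (f 0 : GL Z3 F) * (c.WU (i, 0))⁻¹) *
          (c.WU (i, 0) * (f (0, 1) : GL Z3 F) * (c.WU (i, 0))⁻¹) *
          (c.WU (i, 0) * (f (0, 2) : GL Z3 F) * (c.WU (i, 0))⁻¹) := by
            rw [htr, htr, htr, add_zero, Prod.mk_add_mk, Prod.mk_add_mk, add_zero, zero_add, zero_add]
      _ = _ := by
        rw [show ((0, 1) : Ph) + (0, 1) = (0, 2) by decide]
        group
  have key : f 0 ^ 3 * (R 0 * R 1 * R 2) = N (0, 1) * N (1, 0) * N (1, 1) * N (1, 2) := by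
    have := lines_identity f
    simpa [R, N, Prod.mk_zero_zero, show ((0, 1) : Ph) + (0, 1) = (0, 2) by decide, show ((1, 0) : Ph) + (1, 0) = (2, 0) by decide,
      show ((1, 1) : Ph) + (1, 1) = (2, 2) by decide, show ((1, 2) : Ph) + (1, 2) = (2, 1) by decide] using this
  have hR2 : ∀ i, R i * R i = 1 := fun i => by
    refine Subtype.ext ?_
    rw [Subgroup.coe_mul, hR, Subgroup.coe_one]
    have := congrArg Subtype.val (hN2 (0, 1) (by decide))
    rw [Subgroup.coe_mul, Subgroup.coe_one] at this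
    calc _ = c.WU (i, 0) * ((N (0, 1) : GL Z3 F) * (N (0, 1) : GL Z3 F)) * (c.WU (i, 0))⁻¹ := by group
      _ = 1 := by rw [this, mul_one, mul_inv_cancel]
  have hf0 : ((f 0 : A) : GL Z3 F) = x := by
    have : c.WU 0 = 1 := Units.ext c.W_zero
    show c.WU 0 * x * (c.WU 0)⁻¹ = x
    rw [this, one_mul, inv_one, mul_one]
  have hx2 : f 0 * f 0 = 1 := hcube _ (by
    have h := congrArg (fun a => a ^ 2) key
    simp only [mul_pow, pow_two (R _), pow_two (N _)] at h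
    rw [hR2, hR2, hR2, hN2 _ (by decide), hN2 _ (by decide), hN2 _ (by decide), hN2 _ (by decide), mul_one,
      mul_one, mul_one] at h
    rw [← pow_two, ← pow_mul]
    simpa [← pow_mul] using h)
  refine ⟨by rw [← hf0, ← Subgroup.coe_mul, hx2, Subgroup.coe_one], ?_⟩
  by_contra hcon
  push Not at hcon
  obtain ⟨hx1, hno⟩ := hcon
  have hN1 : ∀ v, v ≠ 0 → N v = 1 := fun v hv => by
    by_contra hne
    exact hno _ (N v).2 (fun e => hne (Subtype.ext e)) v hv (hNc v)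
  have hR1 : ∀ i, R i = 1 := fun i => Subtype.ext (by
    rw [hR, hN1 _ (by decide), Subgroup.coe_one, mul_one, mul_inv_cancel])
  rw [hR1, hR1, hR1, hN1 _ (by decide), hN1 _ (by decide), hN1 _ (by decide), hN1 _ (by decide), mul_one, mul_one,
    mul_one, mul_one] at key
  exact hx1 (by rw [← hf0, hcube _ key, Subgroup.coe_one])

/-- A Sylow subgroup fixed by the Weyl matrices. -/
theorem fixed_sylow {r : ℕ} [Fact r.Prime] {H : Subgroup (GL Z3 F)}
    (hH : ∀ g ∈ c.T3, ∀ x ∈ H, g * x * g⁻¹ ∈ H) (hc : ¬ 3 ∣ Nat.card (Sylow r H)) :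
    ∃ Q : Sylow r H, ∀ g ∈ c.T3, ∀ x ∈ (Q : Subgroup H).map H.subtype,
      g * x * g⁻¹ ∈ (Q : Subgroup H).map H.subtype := by
  haveI : Fact (Nat.Prime 3) := ⟨Nat.prime_three⟩
  let ρ : c.T3 →* MulAut H :=
    { toFun := fun g =>
        { toFun := fun x => ⟨g.1 * x.1 * g.1⁻¹, hH _ g.2 _ x.2⟩
          invFun := fun x => ⟨g.1⁻¹ * x.1 * g.1, by simpa using hH _ (c.T3.inv_mem g.2) _ x.2⟩
          left_inv := fun x => Subtype.ext (by group)
          right_inv := fun x => Subtype.ext (by group)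
          map_mul' := fun x y => Subtype.ext (by simp only [Subgroup.coe_mul]; group) }
      map_one' := MulEquiv.ext fun x => Subtype.ext (by simp)
      map_mul' := fun g h => MulEquiv.ext fun x => Subtype.ext (by
        simp only [MulAut.mul_apply, MulEquiv.coe_mk, Equiv.coe_fn_mk, Subgroup.coe_mul]; group) }
  letI : MulDistribMulAction c.T3 H := MulDistribMulAction.compHom H ρ
  obtain ⟨Q, hQ⟩ := c.T3_isPGroup.nonempty_fixed_point_of_prime_not_dvd_card (Sylow r H) hc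
  refine ⟨Q, fun g hg => ?_⟩
  rintro _ ⟨x, hx, rfl⟩
  have h1 := congrArg (fun P : Sylow r H => (P : Subgroup H)) (hQ ⟨g, hg⟩)
  refine ⟨ρ ⟨g, hg⟩ x, ?_, rfl⟩
  rw [SetLike.mem_coe] at hx ⊢
  have h2 := Subgroup.smul_mem_pointwise_smul x (⟨g, hg⟩ : c.T3) _ hx
  exact h1 ▸ h2

set_option maxHeartbeats 800000 in
/-- A subgroup of order prime to three normalised by the normaliser is trivial. -/
theorem three_prime_trivial (hF : Fintype.card F = 25) (hG : G ≤ Un Z3 F 5)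
    (hN : ∀ x ∈ Cfsg.Geo.specialLinear Z3 F, c.Nr1 x → x ∈ G) {H : Subgroup (GL Z3 F)} (hH : H ≤ SUo Z3 F 5)
    (hHn : ∀ g ∈ G, ∀ x ∈ H, g * x * g⁻¹ ∈ H) (h3 : ¬ 3 ∣ Nat.card H) : H = ⊥ := by
  have hT := c.T3_le hN
  -- the center of a subgroup normalised by some elements
  have hcen : ∀ Q : Subgroup (GL Z3 F), ∀ g, (∀ x ∈ Q, g * x * g⁻¹ ∈ Q) → (∀ x ∈ Q, g⁻¹ * x * g ∈ Q) →
      ∀ x ∈ Q ⊓ Subgroup.centralizer (Q : Set (GL Z3 F)), g * x * g⁻¹ ∈ Q ⊓ Subgroup.centralizer (Q : Set (GL Z3 F)) := by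
    intro Q g h1 h2 x hx
    refine ⟨h1 x hx.1, Subgroup.mem_centralizer_iff.2 fun y hy => ?_⟩
    have := Subgroup.mem_centralizer_iff.1 hx.2 _ (h2 y hy)
    have e := congrArg (fun z => g * z * g⁻¹) this
    simpa [mul_assoc] using e
  have habel : ∀ Q : Subgroup (GL Z3 F), IsMulCommutative ↥(Q ⊓ Subgroup.centralizer (Q : Set (GL Z3 F))) :=
    fun Q => ⟨⟨fun a b => Subtype.ext (Subgroup.mem_centralizer_iff.1 b.2.2 _ a.2.1)⟩⟩
  -- a nontrivial group of prime power order has nontrivial centre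
  have hnt : ∀ {r : ℕ} [Fact r.Prime] (Q : Subgroup (GL Z3 F)), IsPGroup r Q → Q ≠ ⊥ →
      ∃ x ∈ Q ⊓ Subgroup.centralizer (Q : Set (GL Z3 F)), x ≠ 1 := by
    intro r _ Q hQ hne
    haveI : Nontrivial Q := (Subgroup.nontrivial_iff_ne_bot Q).2 hne
    haveI := hQ.center_nontrivial
    obtain ⟨z, hz⟩ := exists_ne (1 : Subgroup.center Q)
    refine ⟨((z : Q) : GL Z3 F), ⟨(z : Q).2, Subgroup.mem_centralizer_iff.2 fun y hy =>
      congrArg Subtype.val (Subgroup.mem_center_iff.1 z.2 ⟨y, hy⟩)⟩, fun e => hz (Subtype.ext (Subtype.ext e))⟩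
  have hdvd : ∀ Q : Subgroup (GL Z3 F), Q ≤ H → ¬ 3 ∣ Nat.card Q := fun Q hQ h =>
    h3 (h.trans (Subgroup.card_dvd_of_le hQ))
  -- two is the only prime
  have h2 : ∀ r : ℕ, r.Prime → r ∣ Nat.card H → r = 2 := by
    intro r hr hrH
    by_contra hr2
    haveI := Fact.mk hr
    have hs : ¬ 3 ∣ Nat.card (Sylow r H) := fun h => h3 (h.trans
      ((Sylow.card_dvd_index default).trans (Subgroup.index_dvd_card _)))
    obtain ⟨Q, hQ⟩ := c.fixed_sylow (fun g hg => hHn g (hT hg)) hs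
    set Qg := (Q : Subgroup H).map H.subtype with hQg
    have hQH : Qg ≤ H := Subgroup.map_subtype_le _
    have hQr : IsPGroup r Qg := Q.isPGroup'.map _
    have hne : Qg ≠ ⊥ := fun e => by
      have := (Subgroup.map_eq_bot_iff_of_injective _ H.subtype_injective).1 e
      have h1 := Q.dvd_card_of_dvd_card hrH
      rw [this, Subgroup.card_bot] at h1
      exact hr.one_lt.ne' (Nat.dvd_one.1 h1)
    obtain ⟨x, hx, hx1⟩ := hnt Qg hQr hne
    haveI := habel Qg
    have hx2 := (c.abelian_step hF hG hN (inf_le_left.trans (hQH.trans hH))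
      (fun v y hy => hcen Qg _ (hQ _ (c.WU_mem_T3 v))
        (fun z hz => by simpa using hQ _ (c.T3.inv_mem (c.WU_mem_T3 v)) z hz) y hy)
      (hdvd _ (inf_le_left.trans hQH)) hx).1
    obtain ⟨i, hi⟩ := hQr ⟨x, hx.1⟩
    have hi' : x ^ r ^ i = 1 := by simpa using congrArg Subtype.val hi
    exact hx1 ((pow_eq_one_iff_of_coprime (Nat.Coprime.pow_right i
      ((Nat.coprime_primes Nat.prime_two hr).2 (Ne.symm hr2)))).1 ⟨(pow_two x).trans hx2, hi'⟩)
  by_contra hne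
  haveI : Fact (Nat.Prime 2) := ⟨Nat.prime_two⟩
  have hH2 : IsPGroup 2 H := by
    have hpos : 0 < Nat.card H := Nat.card_pos
    exact IsPGroup.of_card (Nat.eq_prime_pow_of_unique_prime_dvd hpos.ne' fun {d} hd hdH => h2 d hd hdH)
  set A := H ⊓ Subgroup.centralizer (H : Set (GL Z3 F))
  obtain ⟨x, hx, hx1⟩ := hnt H hH2 hne
  haveI : IsMulCommutative A := habel H
  have hAn : ∀ g ∈ G, ∀ y ∈ A, g * y * g⁻¹ ∈ A := fun g hg =>
    hcen H g (hHn g hg) fun z hz => by simpa using hHn _ (G.inv_mem hg) z hz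
  have hAU : A ≤ SUo Z3 F 5 := inf_le_left.trans hH
  obtain ⟨-, hy⟩ := c.abelian_step hF hG hN hAU (fun v y hy => hAn _ (hT (c.WU_mem_T3 v)) y hy)
    (hdvd _ inf_le_left) hx
  obtain ⟨y, hyA, hy1, v, hv, hyc⟩ := hy.resolve_left hx1
  obtain ⟨B, hBG, d, hd, -⟩ := c.exists_diag hF hG hN (hAU hyA).1 hv hyc
  have hzA : B⁻¹ * y * B ∈ A := by simpa using hAn _ (G.inv_mem hBG) y hyA
  set z := B⁻¹ * y * B with hz
  have hz1 : z ≠ 1 := fun e => hy1 (by
    rw [show y = B * z * B⁻¹ by rw [hz]; group, e, mul_one, mul_inv_cancel])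
  have hzz : z * z = 1 :=
    (c.abelian_step hF hG hN hAU (fun v y hy => hAn _ (hT (c.WU_mem_T3 v)) y hy) (hdvd _ inf_le_left) hzA).1
  have hds : ∀ i, d i = 1 ∨ d i = -1 := fun i => by
    have := congrArg (fun M : Matrix Z3 Z3 F => M i i) (congrArg Units.val hzz)
    rw [Units.val_mul z z, hd] at this
    rw [ Matrix.diagonal_mul_diagonal, Matrix.diagonal_apply_eq, Units.val_one,
      Matrix.one_apply_eq] at this
    exact mul_self_eq_one_iff.1 this
  have hdp : d 0 * d 1 * d 2 = 1 := by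
    have h1 := mem_sl.1 (hAU hzA).2
    rw [hd, Matrix.det_diagonal] at h1
    rw [← h1]
    exact (Fin.prod_univ_three d).symm
  -- the Fourier conjugate
  have hFG : c.Fq ∈ G := hN _ (mem_sl.2 c.Fq_det) (c.act_nr c.act_Fq)
  have hw := hAn _ hFG z hzA
  set w := c.Fq * z * c.Fq⁻¹
  have hcm : z * w = w * z := congrArg Subtype.val (mul_comm' (⟨z, hzA⟩ : A) ⟨w, hw⟩)
  have hentry : ∀ i j, d i ≠ d j → ∑ k, d k * c.χ (k * (i - j)) = 0 := by
    intro i j hij
    have h := congrArg (fun M : Matrix Z3 Z3 F => M i j) (congrArg Units.val hcm)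
    rw [Units.val_mul z w, Units.val_mul w z, hd] at h
    rw [ Matrix.diagonal_mul, Matrix.mul_diagonal] at h
    have h0 : (w : Matrix Z3 Z3 F) i j = 0 := by
      by_contra hne'
      exact hij (mul_right_cancel₀ hne' (by linear_combination h))
    rw [show (w : Matrix Z3 Z3 F) = c.Fq.val * Matrix.diagonal d * (c.Fq⁻¹ : GL Z3 F).val by
      rw [← hd]; rfl] at h0
    have e : (c.Fq.val * Matrix.diagonal d * (c.Fq⁻¹ : GL Z3 F).val) i j =
        3⁻¹ * ∑ k, d k * c.χ (k * (i - j)) := by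
      rw [Matrix.mul_apply, Finset.mul_sum]
      refine Finset.sum_congr rfl fun k _ => ?_
      rw [Matrix.mul_diagonal, Fq_val,
        show ((c.Fq⁻¹ : GL Z3 F) : Matrix Z3 Z3 F) k j = c.s * 3⁻¹ * c.χ (-(k * j)) from rfl,
        show k * (i - j) = i * k + -(k * j) by ring, c.χ_add]
      field_simp [c.s_ne]
    rw [e] at h0
    exact (mul_eq_zero.1 h0).resolve_left (inv_ne_zero c.three)
  have hm : ∀ m : ZMod 3, m ≠ 0 → d 0 + d 1 * c.χ m + d 2 * c.χ (m + m) = 0 → d 0 = d 1 ∧ d 1 = d 2 := by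
    intro m hm0 e
    have hs : 1 + c.χ m + c.χ (m + m) = 0 := by
      have := c.χ_sum m
      rw [if_neg hm0, c.sum_z] at this
      simpa [show (2 : ZMod 3) * m = m + m by ring] using this
    have hne1 : c.χ m ≠ 1 := fun e1 => hm0 (c.χ_eq_one e1)
    have hne2 : c.χ (m + m) ≠ 1 := fun e1 => hm0 ((show ∀ m : ZMod 3, m + m = 0 → m = 0 by decide) m (c.χ_eq_one e1))
    have h2 := c.two
    have hm1 : c.χ m ≠ 0 := c.χ_ne m
    have hm2 : c.χ (m + m) ≠ 0 := c.χ_ne _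
    exact sign_cases (hds 0) (hds 1) (hds 2) hdp e hs c.two hm1 hm2
  have hall : ∀ i j, d i = d j := fun i j => by
    by_contra hij
    have e := hentry i j hij
    rw [c.sum_z] at e
    have hij' : i - j ≠ 0 := fun h => hij (by rw [sub_eq_zero.1 h])
    obtain ⟨h01, h12⟩ := hm (i - j) hij' (by simpa [show (2 : ZMod 3) * (i - j) = (i - j) + (i - j) by ring] using e)
    rcases (show ∀ a : ZMod 3, a = 0 ∨ a = 1 ∨ a = 2 by decide) i with rfl | rfl | rfl <;>
      rcases (show ∀ a : ZMod 3, a = 0 ∨ a = 1 ∨ a = 2 by decide) j with rfl | rfl | rfl <;>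
      simp_all
  refine hz1 (Units.ext ?_)
  rw [hd, Units.val_one, ← Matrix.diagonal_one]
  refine congrArg Matrix.diagonal (funext fun i => ?_)
  rcases hds i with e | e
  · exact e
  · rw [hall 0 i, hall 1 i, hall 2 i, e] at hdp
    have : (2 : F) = 0 := by linear_combination -hdp
    exact absurd this c.two

/-- The three-part is the whole group as soon as the prime-to-three part is normalised. -/
theorem le_three_part (hF : Fintype.card F = 25) (hG : G ≤ Un Z3 F 5)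
    (hN : ∀ x ∈ Cfsg.Geo.specialLinear Z3 F, c.Nr1 x → x ∈ G) (hS : S ≤ SUo Z3 F 5)
    (hnorm : ∀ g ∈ G, ∀ x ∈ S, g * x * g⁻¹ ∈ S) [Fact (Nat.Prime 3)] (P : Sylow 3 S)
    (hP : (P : Subgroup S) ≤ c.T3.subgroupOf S) (hZ : c.Z3g.subgroupOf S ≤ P)
    (hcomm : ∀ g ∈ Subgroup.normalizer ((P : Subgroup S) : Set S), ∀ x ∈ (P : Subgroup S),
      g * x * g⁻¹ * x⁻¹ ∈ c.Z3g.subgroupOf S) :
    S ≤ c.T3 := by
  obtain ⟨L, hL3, hLmem, hLtop⟩ := exists_prime_to_part P _ hZ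
    (fun z hz => Subgroup.mem_center_iff.2 fun y => Subtype.ext (c.Z3g_comm (Subgroup.mem_subgroupOf.1 hz) y)) hcomm
  have hb : L.map S.subtype = ⊥ := by
    refine c.three_prime_trivial hF hG hN ((Subgroup.map_subtype_le L).trans hS) ?_ ?_
    · rintro g hg _ ⟨x, hx, rfl⟩
      refine ⟨⟨g * x * g⁻¹, hnorm g hg _ x.2⟩, ?_, rfl⟩
      rw [SetLike.mem_coe, hLmem] at hx ⊢
      refine Subtype.ext ?_
      have h := congrArg Subtype.val hx
      simp only [Subgroup.coe_pow, Subgroup.coe_one] at h ⊢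
      rw [conj_pow, h, mul_one, mul_inv_cancel]
    · rw [Subgroup.card_map_of_injective S.subtype_injective]
      exact hL3
  have hP' : (P : Subgroup S) = ⊤ := hLtop ((Subgroup.map_eq_bot_iff_of_injective _ S.subtype_injective).1 hb)
  intro s hs
  exact Subgroup.mem_subgroupOf.1 (hP (hP' ▸ Subgroup.mem_top (⟨s, hs⟩ : S)))

end row

/-- One row over the field of twenty-five elements. -/
theorem five_row (hF : Fintype.card F = 25) {S G : Subgroup (GL Z3 F)} (hS : S ≤ SUo Z3 F 5)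
    (hG : G ≤ Un Z3 F 5) (hN : ∀ x ∈ Cfsg.Geo.specialLinear Z3 F, c.Nr1 x → x ∈ G)
    (hnorm : ∀ g ∈ G, ∀ x ∈ S, g * x * g⁻¹ ∈ S) (hns : ∃ x ∈ S, ∀ a : F, (x : Matrix Z3 Z3 F) ≠ a • 1)
    (hnr : ¬ ∀ g ∈ G, c.Nr1 g) : c.WU (1, 0) ∈ S ∧ c.WU (0, 1) ∈ S ∧ c.Jn ∈ S := by
  haveI : Fact (Nat.Prime 3) := ⟨Nat.prime_three⟩
  have hT := c.T3_le hN
  have hSsl : S ≤ Cfsg.Geo.specialLinear Z3 F := hS.trans inf_le_right
  -- a Sylow subgroup inside the Weyl matrices
  obtain ⟨P, hPfix⟩ := c.fixed_sylow (r := 3) (fun g hg => hnorm g (hT hg)) (not_dvd_card_sylow 3 S)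
  have hP : (P : Subgroup S) ≤ c.T3.subgroupOf S := by
    set Pg := (P : Subgroup S).map S.subtype with hPg
    have hsup : IsPGroup 3 (Pg ⊔ c.T3 : Subgroup (GL Z3 F)) :=
      IsPGroup.to_sup_of_normal_left' (P.isPGroup'.map _) c.T3_isPGroup (fun g hg =>
        Subgroup.mem_normalizer_iff.2 fun x => ⟨hPfix g hg x, fun hx => by
          simpa [mul_assoc] using hPfix g⁻¹ (c.T3.inv_mem hg) _ hx⟩)
    have h := c.T3_max hF (sup_le ((Subgroup.map_subtype_le _).trans hSsl) inf_le_right) hsup le_sup_right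
    intro x hx
    exact Subgroup.mem_subgroupOf.2 (h (Subgroup.mem_sup_left (Subgroup.mem_map_of_mem S.subtype hx)))
  have hTP : c.T3.subgroupOf S ≤ P := by
    refine le_of_eq (P.3 (c.T3_isPGroup.comap_of_injective _ S.subtype_injective) hP)
  have hZ : c.Z3g.subgroupOf S ≤ P := fun x hx =>
    hTP (Subgroup.mem_subgroupOf.2 (c.Z3g_le (Subgroup.mem_subgroupOf.1 hx)))
  have hnot : ¬ S ≤ c.T3 ∨ ∃ x ∈ S, x ∈ c.T3 ∧ ∀ a : F, (x : Matrix Z3 Z3 F) ≠ a • 1 := by
    obtain ⟨x, hx, hxa⟩ := hns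
    by_cases h : x ∈ c.T3
    · exact Or.inr ⟨x, hx, h, hxa⟩
    · exact Or.inl fun hle => h (hle hx)
  -- some Weyl matrix is in the group
  have hW : ∃ x ∈ S, x ∈ c.T3 ∧ ∀ a : F, (x : Matrix Z3 Z3 F) ≠ a • 1 := by
    by_contra hcon
    push Not at hcon
    have hsc : ∀ x ∈ S, x ∈ c.T3 → x ∈ c.Z3g := fun x hx hxT => ⟨hcon x hx hxT, hSsl hx⟩
    rcases hnot with h | ⟨x, hx, hxT, hxa⟩
    · refine h (c.le_three_part hF hG hN hS hnorm P hP hZ fun g _ x hx => ?_)
      have hxZ := hsc _ x.2 (Subgroup.mem_subgroupOf.1 (hP hx))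
      rw [Subgroup.mem_subgroupOf]
      show (g : GL Z3 F) * x * (g : GL Z3 F)⁻¹ * (x : GL Z3 F)⁻¹ ∈ c.Z3g
      rw [c.Z3g_comm hxZ, mul_inv_cancel_right, mul_inv_cancel]
      exact Subgroup.one_mem _
    · obtain ⟨a, ha⟩ := hcon x hx hxT
      exact hxa a ha
  obtain ⟨x, hxS, hxT, hxa⟩ := hW
  obtain ⟨k, u, hxu⟩ := c.T3_spec hxT
  have hu : u ≠ 0 := fun e => hxa (c.χ k) (by rw [hxu, e, W_zero])
  have hmove : ∀ v : Ph, v ≠ 0 → ∃ y ∈ S, y ∈ c.T3 ∧ ∃ a : F, (y : Matrix Z3 Z3 F) = a • c.W v := by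
    intro v hv
    obtain ⟨ψ, hψ, hψv⟩ := exists_tap u v hu hv
    obtain ⟨B, hBG, hB⟩ := c.exists_q hF hN hψ
    obtain ⟨a, ha⟩ := hB u
    rw [hψv] at ha
    refine ⟨B * x * B⁻¹, hnorm B hBG x hxS, c.conj_T3 hB hψ.1 hxT, c.χ k * a, ?_⟩
    rw [Units.val_mul, Units.val_mul, hxu, Matrix.mul_smul, ha, Matrix.smul_mul, Matrix.smul_mul, mul_assoc,
      Units.mul_inv, mul_one, smul_smul]
  obtain ⟨y1, hy1S, hy1T, a1, hy1⟩ := hmove (1, 0) ph_ne.1
  obtain ⟨y2, hy2S, hy2T, a2, hy2⟩ := hmove (0, 1) ph_ne.2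
  -- the scalars
  have hω : ∀ k : ZMod 3, ∀ z : GL Z3 F, (z : Matrix Z3 Z3 F) = c.χ k • 1 → z ∈ S := by
    have h1 : ((y2 * y1 * y2⁻¹ * y1⁻¹ : GL Z3 F) : Matrix Z3 Z3 F) = c.χ 1 • 1 := by
      have h : ((y2 * y1 : GL Z3 F) : Matrix Z3 Z3 F) = c.χ 1 • ((y1 * y2 : GL Z3 F) : Matrix Z3 Z3 F) := by
        simp only [Units.val_mul, hy1, hy2, Matrix.smul_mul, Matrix.mul_smul, smul_smul]
        rw [c.W_comm (0, 1) (1, 0), smul_smul]
        simp only [mul_one, zero_mul, sub_zero]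
        congr 1
        ring
      rw [show y2 * y1 * y2⁻¹ * y1⁻¹ = y2 * y1 * (y1 * y2)⁻¹ by group, Units.val_mul (y2 * y1), h,
        Matrix.smul_mul, Units.mul_inv]
    intro k z hz
    have hm : y2 * y1 * y2⁻¹ * y1⁻¹ ∈ S := S.mul_mem (S.mul_mem (S.mul_mem hy2S hy1S) (S.inv_mem hy2S)) (S.inv_mem hy1S)
    have : z = (y2 * y1 * y2⁻¹ * y1⁻¹) ^ k.val := Units.ext (by
      rw [Units.val_pow_eq_pow_val, h1, smul_pow, one_pow, hz, c.χ_one]
      rfl)
    rw [this]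
    exact S.pow_mem hm _
  -- all of the Weyl matrices
  have hTS : c.T3 ≤ S := by
    intro g hg
    obtain ⟨l, v, hgv⟩ := c.T3_spec hg
    by_cases hv : v = 0
    · exact hω l g (by rw [hgv, hv, W_zero])
    obtain ⟨y, hyS, hyT, a, hy⟩ := hmove v hv
    obtain ⟨m, w, hym⟩ := c.T3_spec hyT
    have hwv : w = v := by
      have e : c.W w = ((c.χ m)⁻¹ * a) • c.W v := by
        rw [← smul_smul, ← hy, hym, smul_smul, inv_mul_cancel₀ (c.χ_ne m), one_smul]
      exact (c.W_inj e).1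
    rw [hwv] at hym
    have hgy : ((g * y⁻¹ : GL Z3 F) : Matrix Z3 Z3 F) = c.χ (l - m) • 1 := by
      have e : (g : Matrix Z3 Z3 F) = c.χ (l - m) • (y : Matrix Z3 Z3 F) := by
        rw [hgv, hym, smul_smul, ← c.χ_add, sub_add_cancel]
      rw [Units.val_mul, e, Matrix.smul_mul, Units.mul_inv]
    have := S.mul_mem (hω _ _ hgy) hyS
    rwa [inv_mul_cancel_right] at this
  refine ⟨hTS (c.WU_mem_T3 _), hTS (c.WU_mem_T3 _), ?_⟩
  -- some element moves the Weyl matrices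
  have hmv : ∃ g ∈ S, ∃ φ, c.Act g φ ∧ tdet φ = 1 ∧ φ ≠ tone := by
    by_contra hcon
    push Not at hcon
    have hle : S ≤ c.T3 := c.le_three_part hF hG hN hS hnorm P hP hZ fun g hg x hx => by
      have hgN : c.Nr1 (g : GL Z3 F) := c.nr_of_normalises fun y hy => by
        have := (Subgroup.mem_normalizer_iff.1 hg ⟨y, hTS hy⟩).1 (hTP (Subgroup.mem_subgroupOf.2 hy))
        have := hP this
        rw [Subgroup.mem_subgroupOf] at this
        exact this
      obtain ⟨φ, hd, hact⟩ := c.nr_act hgN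
      have hφ : φ = tone := hcon g g.2 φ hact hd
      rw [Subgroup.mem_subgroupOf]
      exact c.comm_mem_Z3g (c.mem_T3.2 ⟨hφ ▸ hact, mem_sl.1 (hSsl g.2)⟩) (Subgroup.mem_subgroupOf.1 (hP hx))
    exact hnr fun g hg => c.nr_of_normalises fun y hy => hle (hnorm g hg y (hTS hy))
  obtain ⟨g, hgS, φ, hact, hd, hne⟩ := hmv
  have hQ := c.inQ_of_det hF hact hd (mem_sl.1 (hSsl hgS))
  obtain ⟨z, hzS, hz⟩ : ∃ z ∈ S, c.Act z tneg := by
    rcases inQ_tneg_or_sq φ hQ hne with e | e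
    · exact ⟨g, hgS, e ▸ hact⟩
    · exact ⟨g * g, S.mul_mem hgS hgS, e ▸ c.act_mul hact hact⟩
  have hJ : c.Jn * z⁻¹ ∈ c.T3 := by
    refine c.mem_T3.2 ⟨?_, ?_⟩
    · have := c.act_mul c.act_Jn (c.act_inv hz (by decide))
      rwa [show tmul tneg (tinv tneg) = tone by decide] at this
    · have h1 : (z⁻¹ : GL Z3 F).val.det = 1 := mem_sl.1 (hSsl (S.inv_mem hzS))
      rw [Units.val_mul, Matrix.det_mul, h1, mul_one, Jn, Units.val_mul, Matrix.det_mul, Fq_det, one_mul]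
  have := S.mul_mem (hTS hJ) hzS
  rwa [inv_mul_cancel_right] at this

end Ctx

end Cfsg.Agent.Heis12
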