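import Cfsg.Agent.Lib.TensorWreathU84Glue

/-!
Tensor wreath stabilisers are maximal in the special unitary group, in dimension at least four
(the argument of the general statement, without its bound on the dimension).
-/

set_option autoImplicit false
set_option linter.unusedSectionVars false

namespace Cfsg.Agent.Heis12

open scoped Matrix
open Cfsg.Agent.TensorWreath43 (TI lift liftHom pureT pureV permT permU MemU phi)
open Cfsg.Agent.TensorWreathU84

/-- C7 maximality in the special unitary group. -/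
theorem isMaximalIn_uwreath {F : Type*} [Field F] [Fintype F] (n q : ℕ) (hF : Fintype.card F = q ^ 2) (hn : 4 ≤ n) (k t : ℕ)
    (hk : 3 ≤ k) (ht : 2 ≤ t) (hex : ¬ (q = 2 ∧ k = 3)) (e : Fin n ≃ (Fin t → Fin k))
    (P : Matrix.GeneralLinearGroup (Fin n) F) (f₁ : (Fin k → F) → (Fin k → F) → F)
    (hf₁ : Cfsg.Geo.IsUnitaryFormPow q f₁)
    (hT : Cfsg.Geo.IsTensorPowerFormStructure (fun x : F => x ^ q) (Cfsg.hermForm n F q) f₁ e P) :
    Cfsg.Geo.IsMaximalIn (Cfsg.GU n F q ⊓ Cfsg.Geo.specialLinear (Fin n) F)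
      (Cfsg.Geo.tensorWreathSubgroup k t e P ⊓ (Cfsg.GU n F q ⊓ Cfsg.Geo.specialLinear (Fin n) F)) := by
  classical
  haveI : NeZero k := ⟨by omega⟩
  obtain ⟨τ, hτ, hfU⟩ := TransvectionUnitaryGen.herm_isUnitaryForm (n := n) hF
  obtain ⟨c, hc, hT⟩ := hT
  let σ : F →+* F := τ.toRingHom
  have hσ : ∀ x, σ x = x ^ q := hτ
  have hinv : ∀ x, σ (σ x) = x := hfU.involutive
  have hne : ∃ x, σ x ≠ x := TransvectionUnitary.exists_not_fixed hfU.ne_refl
  -- the Gram matrix
  set G := Cfsg.Geo.gramMatrix f₁ with hGdef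
  have hherm : ∀ x y, σ (f₁ x y) = f₁ y x := fun x y => by rw [hσ]; exact (hf₁.herm y x).symm
  have hlin : ∀ x a, f₁ x a = ∑ p, x p * f₁ (Pi.single p 1) a := by
    intro x a
    let L : (Fin k → F) →ₗ[F] F :=
      { toFun := fun x => f₁ x a
        map_add' := fun x y => hf₁.add_left x y a
        map_smul' := fun s x => hf₁.smul_left s x a }
    calc f₁ x a = L (∑ p, x p • Pi.single p (1 : F)) := by
          rw [← pi_eq_sum_univ' x]
          rfl
      _ = _ := by rw [map_sum]; exact Finset.sum_congr rfl fun p _ => by rw [map_smul]; rfl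
  have hfG : ∀ x a, f₁ x a = fH σ G x a := by
    intro x a
    rw [hlin, fH, dotProduct]
    refine Finset.sum_congr rfl fun p _ => congrArg _ ?_
    rw [← hherm, hlin, map_sum, row, Matrix.mulVec, dotProduct]
    exact Finset.sum_congr rfl fun b _ => by rw [map_mul, hherm, mul_comm]; rfl
  have hG : HG σ G := by
    refine ⟨?_, ?_, hinv, hne⟩
    · ext a b
      exact hherm _ _
    · refine isUnit_iff_ne_zero.2 fun h0 => ?_
      obtain ⟨v, hv0, hv⟩ := Matrix.exists_vecMul_eq_zero_iff.2 h0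
      obtain ⟨y, hy⟩ := (hf₁.nondegenerate v hv0).2
      refine hy ?_
      rw [hfG, fH, row, Matrix.dotProduct_mulVec, hv, zero_dotProduct]
  have hTf : ∀ x y : TI t k → F, Cfsg.hermForm n F q ((P : Matrix (Fin n) (Fin n) F) *ᵥ (x ∘ e))
      ((P : Matrix (Fin n) (Fin n) F) *ᵥ (y ∘ e)) = c * fH σ (GT t G) x y := fun x y => by
    rw [hT]
    congr 1
    simp only [fH, row, dotProduct, Matrix.mulVec, Finset.mul_sum, hσ, GT, TensorWreath43.pureT]
    exact Finset.sum_congr rfl fun a _ => Finset.sum_congr rfl fun b _ => by rw [hGdef]; ring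
  have hGT := hG.gt t
  obtain ⟨w, hw⟩ := hG.exists_iso (by omega)
  obtain ⟨r, hr, hwr, hrw⟩ := hG.exists_partner hw
  -- the constant is fixed
  have hcfix : σ c = c := by
    obtain ⟨x, -, -, hx⟩ := hG.exists_perp_val hk hw hr (by rw [hwr]; exact one_ne_zero) (map_one σ)
    have hV : fH σ (GT t G) (pureV fun _ : Fin t => x) (pureV fun _ => x) = 1 := by
      rw [fH_pureV]; simp [hx]
    have h := hfU.herm ((P : Matrix (Fin n) (Fin n) F) *ᵥ ((pureV fun _ : Fin t => x) ∘ e))
      ((P : Matrix (Fin n) (Fin n) F) *ᵥ ((pureV fun _ : Fin t => x) ∘ e))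
    change _ = σ _ at h
    rw [hTf, hV, mul_one] at h
    exact h.symm
  have hsurj : ∀ v : Fin n → F, ∃ V : TI t k → F, v = (P : Matrix (Fin n) (Fin n) F) *ᵥ (V ∘ e) := fun v =>
    ⟨(((P⁻¹ : GL (Fin n) F) : Matrix (Fin n) (Fin n) F) *ᵥ v) ∘ e.symm, by
      rw [Function.comp_assoc, Equiv.symm_comp_self, Function.comp_id, Matrix.mulVec_mulVec, Units.mul_inv,
        Matrix.one_mulVec]⟩
  have hcomap : ∀ g : GL (TI t k) F, phi e P g ∈ Cfsg.GU n F q ⊓ Cfsg.Geo.specialLinear (Fin n) F ↔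
      adj σ (GT t G) (g : Matrix (TI t k) (TI t k) F) * (g : Matrix (TI t k) (TI t k) F) = 1 ∧
        (g : Matrix (TI t k) (TI t k) F).det = 1 := by
    intro g
    constructor
    · rintro ⟨hgU, hgS⟩
      refine ⟨adj_mul_of_fH hGT fun x a => ?_, by rw [← TensorWreath43.phi_det e P g]; exact congrArg Units.val hgS⟩
      have h := hgU ((P : Matrix (Fin n) (Fin n) F) *ᵥ (x ∘ e)) ((P : Matrix (Fin n) (Fin n) F) *ᵥ (a ∘ e))
      change Cfsg.hermForm n F q ((phi e P g : Matrix (Fin n) (Fin n) F) *ᵥ _)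
        ((phi e P g : Matrix (Fin n) (Fin n) F) *ᵥ _) = _ at h
      rw [TensorWreath43.phi_mulVec, TensorWreath43.phi_mulVec, hTf, hTf] at h
      exact mul_left_cancel₀ hc h
    · rintro ⟨hgi, hgd⟩
      refine ⟨fun x y => ?_, Units.ext (by
        rw [Matrix.GeneralLinearGroup.val_det_apply, Units.val_one]
        exact (TensorWreath43.phi_det e P g).trans hgd)⟩
      obtain ⟨u, rfl⟩ := hsurj x
      obtain ⟨v, rfl⟩ := hsurj y
      show Cfsg.hermForm n F q ((phi e P g : Matrix (Fin n) (Fin n) F) *ᵥ _)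
        ((phi e P g : Matrix (Fin n) (Fin n) F) *ᵥ _) = _
      rw [TensorWreath43.phi_mulVec, TensorWreath43.phi_mulVec, hTf, hTf, hGT.iso_fH hgi]
  refine TensorWreath43.isMaximalIn_of e P _ ?_ (fun M h1' h2' => ?_)
  · -- a transvection outside
    obtain ⟨z, hz0, hz⟩ := hG.exists_skew
    set W : TI t k → F := pureV (fun _ => w) with hW
    have hWW : fH σ (GT t G) W W = 0 := by
      rw [hW, fH_pureV, Finset.prod_eq_zero (Finset.mem_univ (⟨0, by omega⟩ : Fin t)) hw.2]
    have hdet : (1 + z • E σ (GT t G) W W).det = 1 := by rw [det_one_add_E, hWW, mul_zero, add_zero]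
    refine ⟨Matrix.GeneralLinearGroup.mkOfDetNeZero _ (by rw [hdet]; exact one_ne_zero), (hcomap _).2 ⟨?_, hdet⟩,
      fun hgk => ?_⟩
    · show adj σ (GT t G) (1 + z • E σ (GT t G) W W) * (1 + z • E σ (GT t G) W W) = 1
      rw [adj_add, hGT.adj_one, hGT.adj_smul_E_self hz]
      simp only [add_mul, mul_add, one_mul, mul_one, neg_mul, smul_mul_assoc, mul_smul_comm, E_self_sq hWW, smul_zero]
      abel
    · obtain ⟨ys, hys⟩ := TensorWreath43.pureV_image hgk (fun _ => r)
      refine not_pure hG ht hw.2 hr.2 hwr hrw hz0 ys ?_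
      rw [← hys]
      show _ = (1 + z • E σ (GT t G) W W) *ᵥ _
      rw [Matrix.add_mulVec, Matrix.one_mulVec, Matrix.smul_mulVec, E_mulVec, hW, fH_pureV, hrw, Finset.prod_const,
        one_pow, one_smul]
  · have hM : UOver σ G M := by
      refine ⟨hG, hk, ht, fun hfix => ?_, fun j η hη hd => ?_, fun π hπ => ?_, fun g hg => ((hcomap g).1 (h2' hg)).1⟩
      · have := q_eq_two hF hσ hinv hfix
        by_contra h
        exact hex ⟨this, by omega⟩
      · refine h1' ⟨?_, (hcomap _).2 ⟨?_, ?_⟩⟩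
        · rw [TensorWreath43.liftU_eq_pureU]
          exact TensorWreath43.pureU_mem_wreath _
        · show adj σ (GT t G) (lift j (η : Matrix (Fin k) (Fin k) F)) * lift j (η : Matrix (Fin k) (Fin k) F) = 1
          rw [adj_lift hG, ← TensorWreath43.lift_mul, hη, TensorWreath43.lift_one]
        · show (lift j (η : Matrix (Fin k) (Fin k) F)).det = 1
          rw [TensorWreath43.lift_det, hd, one_pow]
      · exact h1' ⟨TensorWreath43.permU_mem_wreath π, (hcomap _).2 ⟨adj_permT hG π, TensorWreath43.permT_det_eq_one hπ⟩⟩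
    by_cases hBig : Big σ G M
    · right
      have hsu : Cfsg.GU n F q ⊓ Cfsg.Geo.specialLinear (Fin n) F ≤ M.map (phi e P).toMonoidHom := by
        refine TensorUnitLow74.su_le hF (by omega) fun v s hv hs => ?_
        obtain ⟨V, rfl⟩ := hsurj v
        rw [hTf, mul_eq_zero] at hv
        have hs' : σ (s * c) = -(s * c) := by
          rw [map_mul, hcfix, hσ, eq_neg_of_add_eq_zero_right hs, neg_mul]
        obtain ⟨g, hg, hgX⟩ := hBig V (hv.resolve_left hc) (s * c) hs'
        refine ⟨phi e P g, ⟨g, hg, rfl⟩, fun x => ?_⟩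
        obtain ⟨u, rfl⟩ := hsurj x
        rw [TensorWreath43.phi_mulVec, hgX, Matrix.add_mulVec, Matrix.one_mulVec, Matrix.smul_mulVec, E_mulVec, hTf,
          smul_smul, mul_assoc]
        show (P : Matrix (Fin n) (Fin n) F) *ᵥ (u ∘ e + (s * (c * fH σ (GT t G) u V)) • (V ∘ e)) = _
        rw [Matrix.mulVec_add, Matrix.mulVec_smul]
      refine (Subgroup.comap_mono hsu).trans (le_of_eq ?_)
      exact Subgroup.comap_map_eq_self_of_injective (phi e P).injective M
    · exact Or.inl (hM.le_wreath hBig)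

end Cfsg.Agent.Heis12
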