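import Cfsg.Agent.Lib.Heis12Qutrit

/-!
The Fourier matrix, the quadratic phase, and the quaternion group of one qutrit.
-/

set_option autoImplicit false
set_option linter.unusedSectionVars false

namespace Cfsg.Agent.Heis12

open Matrix
open scoped MatrixGroups

variable {F : Type*} [Field F]

namespace Ctx

variable (c : Ctx F)

/-- The Fourier matrix. -/
def Fq : GL Z3 F where
  val := Matrix.of fun x y => c.s⁻¹ * c.χ (x * y)
  inv := Matrix.of fun x y => c.s * 3⁻¹ * c.χ (-(x * y))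
  val_inv := by
    ext x z
    simp only [Matrix.mul_apply, Matrix.of_apply, Matrix.one_apply]
    rw [show ∑ y, c.s⁻¹ * c.χ (x * y) * (c.s * 3⁻¹ * c.χ (-(y * z))) = 3⁻¹ * ∑ y, c.χ (y * (x - z)) by
      rw [Finset.mul_sum]
      refine Finset.sum_congr rfl fun y _ => ?_
      rw [show y * (x - z) = x * y + -(y * z) by ring, c.χ_add]
      field_simp [c.s_ne], χ_sum]
    simp [sub_eq_zero, inv_mul_cancel₀ c.three]
  inv_val := by
    ext x z
    simp only [Matrix.mul_apply, Matrix.of_apply, Matrix.one_apply]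
    rw [show ∑ y, c.s * 3⁻¹ * c.χ (-(x * y)) * (c.s⁻¹ * c.χ (y * z)) = 3⁻¹ * ∑ y, c.χ (y * (z - x)) by
      rw [Finset.mul_sum]
      refine Finset.sum_congr rfl fun y _ => ?_
      rw [show y * (z - x) = -(x * y) + y * z by ring, c.χ_add]
      field_simp [c.s_ne], χ_sum]
    simp [sub_eq_zero, inv_mul_cancel₀ c.three, eq_comm]

theorem Fq_val (x y : Z3) : (c.Fq : Matrix Z3 Z3 F) x y = c.s⁻¹ * c.χ (x * y) := rfl

/-- The quadratic phase. -/
def Kq : GL Z3 F where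
  val := Matrix.diagonal fun x => c.χ (x * x)
  inv := Matrix.diagonal fun x => c.χ (-(x * x))
  val_inv := by simp [Matrix.diagonal_mul_diagonal, ← χ_add]
  inv_val := by simp [Matrix.diagonal_mul_diagonal, ← χ_add]

theorem Kq_val : (c.Kq : Matrix Z3 Z3 F) = Matrix.diagonal fun x => c.χ (x * x) := rfl

/-- The inversion of the indices. -/
def Jm (_c : Ctx F) : Matrix Z3 Z3 F := Matrix.of fun x y => if x = -y then 1 else 0

theorem Jm_mul (X : Matrix Z3 Z3 F) (x y : Z3) : (c.Jm * X) x y = X (-x) y := by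
  rw [Matrix.mul_apply, Finset.sum_eq_single (-x)]
  · simp [Jm]
  · intro b _ hb
    have : ¬ x = -b := fun e => hb (by rw [e, neg_neg])
    simp [Jm, this]
  · simp

theorem mul_Jm (X : Matrix Z3 Z3 F) (x y : Z3) : (X * c.Jm) x y = X x (-y) := by
  rw [Matrix.mul_apply, Finset.sum_eq_single (-y)]
  · simp [Jm]
  · intro b _ hb
    simp [Jm, hb]
  · simp

/-- Commuting with the inversion. -/
def Even' (X : Matrix Z3 Z3 F) : Prop := c.Jm * X = X * c.Jm

theorem even_iff {X : Matrix Z3 Z3 F} : c.Even' X ↔ ∀ x y, X (-x) (-y) = X x y := by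
  constructor
  · intro h x y
    have := congrFun (congrFun h x) (-y)
    rwa [Jm_mul, mul_Jm, neg_neg] at this
  · intro h
    ext x y
    rw [Jm_mul, mul_Jm, ← h (-x) y, neg_neg]

theorem even_mul {X Y : Matrix Z3 Z3 F} (hX : c.Even' X) (hY : c.Even' Y) : c.Even' (X * Y) := by
  show _ * _ = _ * _
  rw [← mul_assoc, hX, mul_assoc, hY, mul_assoc]

theorem even_inv {A : GL Z3 F} (hA : c.Even' (A : Matrix Z3 Z3 F)) : c.Even' ((A⁻¹ : GL Z3 F) : Matrix Z3 Z3 F) := by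
  have := congrArg (fun X => ((A⁻¹ : GL Z3 F) : Matrix Z3 Z3 F) * X * ((A⁻¹ : GL Z3 F) : Matrix Z3 Z3 F)) hA
  simp only [mul_assoc, Units.mul_inv, mul_one] at this
  rw [← mul_assoc _ (A : Matrix Z3 Z3 F), Units.inv_mul, one_mul] at this
  exact this.symm

theorem even_one : c.Even' (1 : Matrix Z3 Z3 F) := by
  show _ * _ = _ * _
  rw [mul_one, one_mul]

theorem Fq_even : c.Even' (c.Fq : Matrix Z3 Z3 F) :=
  c.even_iff.2 fun x y => by rw [Fq_val, Fq_val, neg_mul_neg]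

theorem Kq_even : c.Even' (c.Kq : Matrix Z3 Z3 F) :=
  c.even_iff.2 fun x y => by
    rw [Kq_val, Matrix.diagonal_apply, Matrix.diagonal_apply]
    by_cases h : x = y
    · subst h; simp
    · simp [h, neg_inj]

theorem act_Fq : c.Act c.Fq tF := fun v => ⟨c.χ (-(v.1 * v.2)), by
  ext x y
  rw [Matrix.smul_apply, Matrix.mul_apply, Matrix.mul_apply, Finset.sum_eq_single (y + v.1),
    Finset.sum_eq_single (x - (tap tF v).1)]
  · simp only [W_apply, Fq_val, if_true, smul_eq_mul, sub_add_cancel]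
    have e : c.χ (x * (y + v.1)) * c.χ (v.2 * y) =
        c.χ (-(v.1 * v.2)) * (c.χ ((tap tF v).2 * (x - (tap tF v).1)) * c.χ ((x - (tap tF v).1) * y)) := by
      simp only [← c.χ_add, tap, tF]
      congr 1
      ring
    linear_combination c.s⁻¹ * e
  · intro b _ hb
    rw [W_apply, if_neg (fun e => hb (by rw [e, add_sub_cancel_right])), zero_mul]
  · simp
  · intro b _ hb
    rw [W_apply, if_neg hb, mul_zero]
  · simp⟩

theorem act_Kq : c.Act c.Kq tK := fun v => ⟨c.χ (v.1 * v.1), by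
  ext x y
  rw [Matrix.smul_apply, Kq_val, Matrix.diagonal_mul, Matrix.mul_diagonal, W_apply, W_apply, smul_eq_mul]
  simp only [tap, tK, one_mul, zero_mul, add_zero]
  split_ifs with h
  · subst h
    simp only [← c.χ_add]
    congr 1
    ring
  · simp⟩

theorem even_W {a : F} (ha : a ≠ 0) {u : Ph} (h : c.Even' (a • c.W u)) : u = 0 := by
  have h' := c.even_iff.1 h (0 + u.1) 0
  simp only [Matrix.smul_apply, W_apply, neg_zero, smul_eq_mul, if_true, mul_zero, χ_zero, mul_one] at h'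
  have h1 : u.1 = 0 := by
    by_contra hne
    rw [if_neg (by
      intro e
      exact hne ((show ∀ z : ZMod 3, -(0 + z) = 0 + z → z = 0 by decide) u.1 e)), mul_zero] at h'
    exact ha h'.symm
  have h'' := c.even_iff.1 h 1 1
  simp only [Matrix.smul_apply, W_apply, h1, add_zero, if_true, smul_eq_mul] at h''
  have := c.χ_inj (mul_left_cancel₀ ha h'')
  exact Prod.ext h1 ((show ∀ z : ZMod 3, z * -1 = z * 1 → z = 0 by decide) u.2 this)

/-- An even element is determined by its action up to a scalar. -/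
theorem even_unique {A B : GL Z3 F} {φ : Tw} (hd : tdet φ = 1) (hA : c.Act A φ) (hB : c.Act B φ)
    (hAe : c.Even' (A : Matrix Z3 Z3 F)) (hBe : c.Even' (B : Matrix Z3 Z3 F)) :
    ∃ a : F, a ≠ 0 ∧ (A : Matrix Z3 Z3 F) = a • (B : Matrix Z3 Z3 F) := by
  have h1 := c.act_mul (c.act_inv hB hd) hA
  rw [(tinv_mul φ hd).1] at h1
  obtain ⟨a, u, hau⟩ := c.eq_smul_W h1
  have ha : a ≠ 0 := fun e => (B⁻¹ * A).ne_zero (by rw [hau, e, zero_smul])
  have he : c.Even' (a • c.W u) := hau ▸ c.even_mul (c.even_inv hBe) hAe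
  rw [c.even_W ha he, W_zero, Units.val_mul] at hau
  refine ⟨a, ha, ?_⟩
  have := congrArg (fun X => (B : Matrix Z3 Z3 F) * X) hau
  simpa [← mul_assoc, Matrix.mul_smul] using this

theorem Fq_det_cube : ((c.Fq : Matrix Z3 Z3 F).det) ^ 3 = 1 := by
  have : (c.Fq : Matrix Z3 Z3 F).det = 1 := by
    show Matrix.det (Matrix.of fun x y => c.s⁻¹ * c.χ (x * y) : Matrix (Fin 3) (Fin 3) F) = 1
    rw [Matrix.det_fin_three]
    simp only [Matrix.of_apply]
    have e : ∀ (a b : Fin 3), c.χ ((a : ZMod 3) * b) = c.ω ^ ((a.val * b.val) % 3) := by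
      intro a b
      show c.ω ^ ((a : ZMod 3) * b).val = _
      rfl
    simp only [e, Fin.val_zero, Fin.val_one, Fin.val_two]
    norm_num
    field_simp [c.s_ne]
    have hs : c.s = c.ω - c.ω ^ 2 := rfl
    rw [hs]
    linear_combination (c.ω ^ 3 - 3 * c.ω ^ 2 + 3 * c.ω - 1) * c.sum_eq +
      (c.ω ^ 3 - 4 * c.ω ^ 2 + 4 * c.ω - 1) * c.cube
  rw [this, one_pow]

theorem Kq_det_cube : ((c.Kq : Matrix Z3 Z3 F).det) ^ 3 = 1 := by
  rw [Kq_val, Matrix.det_diagonal, ← Finset.prod_pow]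
  exact Finset.prod_eq_one fun x _ => c.χ_cube _

/-- Every map of determinant one is realised by an even element whose determinant is a cube root of one. -/
theorem exists_word (φ : Tw) (hd : tdet φ = 1) :
    ∃ A : GL Z3 F, c.Act A φ ∧ c.Even' (A : Matrix Z3 Z3 F) ∧ (A : Matrix Z3 Z3 F).det ^ 3 = 1 := by
  let P : Tw → Prop := fun φ => ∃ A : GL Z3 F, c.Act A φ ∧ c.Even' (A : Matrix Z3 Z3 F) ∧ (A : Matrix Z3 Z3 F).det ^ 3 = 1
  have hone : P tone := ⟨1, c.act_one, c.even_one, by simp⟩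
  have step : ∀ (G : GL Z3 F) (g : Tw), c.Act G g → c.Even' (G : Matrix Z3 Z3 F) → (G : Matrix Z3 Z3 F).det ^ 3 = 1 →
      ∀ ψ, P ψ → P (tmul g ψ) := fun G g h1 h2 h3 ψ ⟨A, ha, he, hdA⟩ =>
    ⟨G * A, c.act_mul h1 ha, by rw [Units.val_mul]; exact c.even_mul h2 he,
      by rw [Units.val_mul, Matrix.det_mul, mul_pow, h3, hdA, one_mul]⟩
  have sK := step _ _ c.act_Kq c.Kq_even c.Kq_det_cube
  have sF := step _ _ c.act_Fq c.Fq_even c.Fq_det_cube
  have iK : ∀ (n : ℕ) ψ, P ψ → P ((tmul tK)^[n] ψ) := fun n => by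
    induction n with
    | zero => exact fun ψ h => h
    | succ n ih => exact fun ψ h => by rw [Function.iterate_succ_apply]; exact ih _ (sK ψ h)
  have mulP : ∀ φ ψ, P φ → P ψ → P (tmul φ ψ) := fun φ ψ ⟨A, ha, he, hdA⟩ hψ => step A φ ha he hdA ψ hψ
  obtain ⟨i, j, k, l, rfl⟩ := words_cover φ hd
  refine mulP _ _ (iK _ _ hone) (sF _ (mulP _ _ (iK _ _ hone) (sF _ (mulP _ _ (iK _ _ hone) ?_))))
  generalize l.val = n
  induction n with
  | zero => exact hone
  | succ n ih => rw [Function.iterate_succ_apply']; exact sF _ ih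

/-- The odd vector. -/
def ov (_c : Ctx F) : Z3 → F := fun x => if x = 1 then 1 else if x = 2 then -1 else 0

/-- The quaternion group of one qutrit. -/
def Q8 : Subgroup (GL Z3 F) where
  carrier := {A | (∃ φ, InQ φ ∧ c.Act A φ) ∧ c.Even' (A : Matrix Z3 Z3 F) ∧ (A : Matrix Z3 Z3 F) *ᵥ c.ov = c.ov}
  one_mem' := ⟨⟨tone, by decide, c.act_one⟩, c.even_one, by simp⟩
  mul_mem' := by
    rintro A B ⟨⟨φ, hφ, hA⟩, hAe, hAo⟩ ⟨⟨ψ, hψ, hB⟩, hBe, hBo⟩
    refine ⟨⟨_, inQ_mul hφ hψ, c.act_mul hA hB⟩, by rw [Units.val_mul]; exact c.even_mul hAe hBe, ?_⟩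
    rw [Units.val_mul, ← Matrix.mulVec_mulVec, hBo, hAo]
  inv_mem' := by
    rintro A ⟨⟨φ, hφ, hA⟩, hAe, hAo⟩
    refine ⟨⟨_, inQ_inv hφ, c.act_inv hA hφ.1⟩, c.even_inv hAe, ?_⟩
    conv_lhs => rw [← hAo]
    rw [Matrix.mulVec_mulVec, Units.inv_mul, Matrix.one_mulVec]

theorem ov_ne : c.ov ≠ 0 := fun h => by simpa [ov] using congrFun h 1

theorem sum_z (_c : Ctx F) (f : Z3 → F) : ∑ a, f a = f 0 + f 1 + f 2 := sum_three f

theorem Fq_ov : (c.Fq : Matrix Z3 Z3 F) *ᵥ c.ov = c.ov := by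
  have hs := c.s_ne
  have e0 : (2 : ZMod 3) ≠ 1 := by decide
  funext x
  rw [Matrix.mulVec, dotProduct, c.sum_z]
  rcases (show ∀ a : ZMod 3, a = 0 ∨ a = 1 ∨ a = 2 by decide) x with rfl | rfl | rfl
  · simp [ov, Fq_val, e0, show (0 : ZMod 3) ≠ 2 by decide]
  · simp [ov, Fq_val, e0, show (0 : ZMod 3) ≠ 2 by decide, c.χ_one, c.χ_two]
    field_simp
    simp only [s]
    ring
  · simp [ov, Fq_val, e0, show (0 : ZMod 3) ≠ 2 by decide, c.χ_one, c.χ_two, show (2 : ZMod 3) * 2 = 1 by decide]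
    field_simp
    simp only [s]
    ring

theorem Fq_mem : c.Fq ∈ c.Q8 := ⟨⟨tF, by decide, c.act_Fq⟩, c.Fq_even, c.Fq_ov⟩

/-- The second generator. -/
def Gq : GL Z3 F := c.Kq * c.Fq * c.Kq⁻¹

theorem Kq_ov : (c.Kq : Matrix Z3 Z3 F) *ᵥ c.ov = c.ω • c.ov := by
  funext x
  rw [Kq_val, Matrix.mulVec_diagonal, Pi.smul_apply, smul_eq_mul]
  rcases (show ∀ a : ZMod 3, a = 0 ∨ a = 1 ∨ a = 2 by decide) x with rfl | rfl | rfl
  · simp [ov, show (0 : ZMod 3) ≠ 2 by decide]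
  · simp [ov, c.χ_one]
  · simp [ov, show (2 : ZMod 3) * 2 = 1 by decide, c.χ_one, show (2 : ZMod 3) ≠ 1 by decide]

theorem Gq_mem : c.Gq ∈ c.Q8 := by
  have hd : tdet tK = 1 := by decide
  refine ⟨⟨tmul (tmul tK tF) (tinv tK), by decide, c.act_mul (c.act_mul c.act_Kq c.act_Fq) (c.act_inv c.act_Kq hd)⟩, ?_, ?_⟩
  · rw [Gq, Units.val_mul, Units.val_mul]
    exact c.even_mul (c.even_mul c.Kq_even c.Fq_even) (c.even_inv c.Kq_even)
  · have h1 : ((c.Kq⁻¹ : GL Z3 F) : Matrix Z3 Z3 F) *ᵥ c.ov = c.ω⁻¹ • c.ov := by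
      have := congrArg (fun v => ((c.Kq⁻¹ : GL Z3 F) : Matrix Z3 Z3 F) *ᵥ v) c.Kq_ov
      simp only [Matrix.mulVec_mulVec, Units.inv_mul, Matrix.one_mulVec, Matrix.mulVec_smul] at this
      have hω : c.ω ≠ 0 := fun e => by simpa [e] using c.cube
      conv_rhs => rw [this, smul_smul, inv_mul_cancel₀ hω, one_smul]
    rw [Gq, Units.val_mul, Units.val_mul, ← Matrix.mulVec_mulVec, ← Matrix.mulVec_mulVec, h1, Matrix.mulVec_smul,
      Fq_ov, Matrix.mulVec_smul, Kq_ov, smul_smul, inv_mul_cancel₀ (fun e => by simpa [e] using c.cube), one_smul]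

/-- An element of the quaternion group is determined by its action. -/
theorem Q8_ext {A B : GL Z3 F} {φ : Tw} (hA : A ∈ c.Q8) (hB : B ∈ c.Q8) (ha : c.Act A φ) (hb : c.Act B φ) :
    A = B := by
  obtain ⟨⟨ψ, hψ, hAψ⟩, hAe, hAo⟩ := hA
  have hd : tdet φ = 1 := by rw [c.act_unique ha hAψ]; exact hψ.1
  obtain ⟨a, -, e⟩ := c.even_unique hd ha hb hAe hB.2.1
  rw [e, Matrix.smul_mulVec, hB.2.2] at hAo
  have h1 := congrFun hAo 1
  have ha1 : a = 1 := by simpa [ov] using h1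
  exact Units.ext (by rw [e, ha1, one_smul])

/-- Minus the inversion, as the square of the Fourier matrix. -/
def Jn : GL Z3 F := c.Fq * c.Fq

theorem Jn_val : (c.Jn : Matrix Z3 Z3 F) = -c.Jm := by
  ext x z
  rw [Jn, Units.val_mul, Matrix.mul_apply]
  simp only [Fq_val, Matrix.neg_apply, Jm, Matrix.of_apply]
  rw [show ∑ y, c.s⁻¹ * c.χ (x * y) * (c.s⁻¹ * c.χ (y * z)) = (c.s * c.s)⁻¹ * ∑ y, c.χ (y * (x + z)) by
    rw [Finset.mul_sum]
    refine Finset.sum_congr rfl fun y _ => ?_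
    rw [show y * (x + z) = x * y + y * z by ring, c.χ_add, mul_inv]
    ring, χ_sum, s_sq]
  by_cases h : x = -z
  · rw [if_pos (by rw [h, neg_add_cancel]), if_pos h]
    field_simp [c.three]
  · rw [if_neg (fun e => h (eq_neg_of_add_eq_zero_left e)), if_neg h]
    simp

theorem act_Jn : c.Act c.Jn tneg := by
  have := c.act_mul c.act_Fq c.act_Fq
  rwa [show tmul tF tF = tneg by decide] at this

theorem Jn_mem : c.Jn ∈ c.Q8 := c.Q8.mul_mem c.Fq_mem c.Fq_mem

theorem Jm_trace : c.Jm.trace = 1 := by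
  rw [Matrix.trace, c.sum_z]
  simp [Jm, show (1 : ZMod 3) ≠ -1 by decide, show (2 : ZMod 3) ≠ -2 by decide]

theorem Jn_trace : (c.Jn : Matrix Z3 Z3 F).trace = -1 := by
  rw [Jn_val, Matrix.trace_neg, Jm_trace]

theorem Q8_sq {A : GL Z3 F} (hA : A ∈ c.Q8) (h : A * A = 1) : A = 1 ∨ A = c.Jn := by
  obtain ⟨φ, hφ, hact⟩ := hA.1
  have h2 := c.act_mul hact hact
  rw [h] at h2
  rcases inQ_sq hφ (c.act_unique h2 c.act_one) with rfl | rfl
  · exact Or.inl (c.Q8_ext hA c.Q8.one_mem hact c.act_one)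
  · exact Or.inr (c.Q8_ext hA c.Jn_mem hact c.act_Jn)

theorem Q8_pow_four {A : GL Z3 F} (hA : A ∈ c.Q8) : A ^ 4 = 1 := by
  obtain ⟨φ, hφ, hact⟩ := hA.1
  have h4 : c.Act (A ^ 4) tone := by
    have h2 := c.act_mul (c.act_mul hact hact) (c.act_mul hact hact)
    rw [hφ.2] at h2
    rwa [show A ^ 4 = A * A * (A * A) by simp [pow_succ, mul_assoc]]
  exact c.Q8_ext (c.Q8.pow_mem hA 4) c.Q8.one_mem h4 c.act_one

end Ctx

end Cfsg.Agent.Heis12
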