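import Cfsg.Agent.Lib.Heis12Coord
import Cfsg.Agent.Lib.OrthUnitaryHerm
import Cfsg.Prelude.Def_LieClassical

/-!
Coordinates for a group of symplectic type of order `3^5` in dimension nine inside the similarity group of a
unitary form: an orthogonal basis in which the group consists of the Weyl operators of two qutrits.
The construction of the basis follows that of the linear case.
-/

set_option autoImplicit false
set_option linter.unusedSectionVars false
set_option linter.unusedSimpArgs false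
set_option linter.unusedVariables false
set_option maxHeartbeats 1000000

namespace Cfsg.Agent.Heis75

open Matrix Cfsg.Agent
open scoped MatrixGroups commutatorElement

/-- The nine indices. -/
abbrev Pt9 : Type := ZMod 3 × ZMod 3

variable {F : Type*} [Field F]

/-- A primitive cube root of unity. -/
structure Root (F : Type*) [Field F] where
  /-- the root -/
  ω : F
  cube : ω ^ 3 = 1
  ne_one : ω ≠ 1
  three : (3 : F) ≠ 0

namespace Root

variable (c : Root F)

/-- The additive character. -/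
def χ (a : ZMod 3) : F := c.ω ^ a.val

theorem sum_eq : 1 + c.ω + c.ω ^ 2 = 0 := by
  have h : (c.ω - 1) * (1 + c.ω + c.ω ^ 2) = 0 := by linear_combination c.cube
  exact (mul_eq_zero.1 h).resolve_left (sub_ne_zero.2 c.ne_one)

@[simp] theorem χ_zero : c.χ 0 = 1 := by simp [χ]

theorem χ_one : c.χ 1 = c.ω := by simp [χ, ZMod.val_one]

theorem χ_two : c.χ 2 = c.ω ^ 2 := rfl

theorem χ_add (a b : ZMod 3) : c.χ (a + b) = c.χ a * c.χ b := by
  rw [χ, χ, χ, ← pow_add, ZMod.val_add]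
  exact (pow_eq_pow_mod _ c.cube).symm

theorem χ_cube (a : ZMod 3) : c.χ a ^ 3 = 1 := by
  rw [χ, ← pow_mul, mul_comm, pow_mul, c.cube, one_pow]

theorem χ_ne (a : ZMod 3) : c.χ a ≠ 0 := fun h => by simpa [h] using c.χ_cube a

theorem χ_eq_one {a : ZMod 3} (h : c.χ a = 1) : a = 0 := by
  rcases (show ∀ a : ZMod 3, a = 0 ∨ a = 1 ∨ a = 2 by decide) a with rfl | rfl | rfl
  · rfl
  · exact absurd (c.χ_one ▸ h) c.ne_one
  · rw [c.χ_two] at h
    exact absurd (show c.ω = 1 by linear_combination c.cube - c.ω * h) c.ne_one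

theorem χ_inj {a b : ZMod 3} (h : c.χ a = c.χ b) : a = b := by
  have h' : c.χ (a - b) = 1 := by
    have h2 := c.χ_add (a - b) b
    rw [sub_add_cancel, h] at h2
    exact (mul_eq_right₀ (c.χ_ne b)).1 h2.symm
  exact sub_eq_zero.1 (c.χ_eq_one h')

theorem exists_χ {x : F} (h : x ^ 3 = 1) : ∃ a, x = c.χ a := by
  have h' : (x - 1) * ((x - c.ω) * (x - c.ω ^ 2)) = 0 := by
    linear_combination h + (-x ^ 2 + x) * c.sum_eq + (x - 1) * c.cube
  rcases mul_eq_zero.1 h' with e | e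
  · exact ⟨0, by simpa [sub_eq_zero] using e⟩
  rcases mul_eq_zero.1 e with e | e
  · exact ⟨1, by rw [χ_one]; exact sub_eq_zero.1 e⟩
  · exact ⟨2, by rw [χ_two]; exact sub_eq_zero.1 e⟩

theorem χ_sum (a : ZMod 3) : ∑ x, c.χ (x * a) = if a = 0 then 3 else 0 := by
  rw [show (∑ x, c.χ (x * a)) = c.χ (0 * a) + c.χ (1 * a) + c.χ (2 * a) from Fin.sum_univ_three _]
  rcases (show ∀ a : ZMod 3, a = 0 ∨ a = 1 ∨ a = 2 by decide) a with rfl | rfl | rfl
  · simp; norm_num
  · simp [c.χ_one, c.χ_two, c.sum_eq]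
  · rw [if_neg (by decide)]
    simp only [zero_mul, one_mul, χ_zero]
    rw [show (2 : ZMod 3) * 2 = 1 by decide, c.χ_one, c.χ_two]
    linear_combination c.sum_eq

/-- The Weyl operator. -/
def wop (a b : Pt9) (u : Pt9 → F) : Pt9 → F := fun x =>
  c.χ (b.1 * (x.1 - a.1) + b.2 * (x.2 - a.2)) * u (x - a)

theorem wop_single (a b x : Pt9) :
    c.wop a b (Pi.single x 1) = c.χ (b.1 * x.1 + b.2 * x.2) • Pi.single (x + a) 1 := by
  funext z
  rcases eq_or_ne z (x + a) with rfl | h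
  · simp [wop]
  · have : z - a ≠ x := fun e => h (by rw [← e, sub_add_cancel])
    simp [wop, h, this]

end Root

open Cfsg.Agent.Heis12 (z3_gen z3_neg z3_ne commutator_central mem_sl_iff)

theorem z3_double : ∀ a : ZMod 3, a + a = -a := by decide

theorem exists_eigen9 (c : Root F) {ι : Type} [Fintype ι] [DecidableEq ι] {b : Matrix ι ι F} (hb : b * (b * b) = 1)
    {u : ι → F} (hu : u ≠ 0) :
    ∃ k, u + c.χ (-k) • (b *ᵥ u) + c.χ (-(2 * k)) • (b *ᵥ (b *ᵥ u)) ≠ 0 ∧
      b *ᵥ (u + c.χ (-k) • (b *ᵥ u) + c.χ (-(2 * k)) • (b *ᵥ (b *ᵥ u))) =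
        c.χ k • (u + c.χ (-k) • (b *ᵥ u) + c.χ (-(2 * k)) • (b *ᵥ (b *ᵥ u))) := by
  have h3 : b *ᵥ (b *ᵥ (b *ᵥ u)) = u := by rw [mulVec_mulVec, mulVec_mulVec, mul_assoc, hb, one_mulVec]
  have heq : ∀ k, b *ᵥ (u + c.χ (-k) • (b *ᵥ u) + c.χ (-(2 * k)) • (b *ᵥ (b *ᵥ u))) =
      c.χ k • (u + c.χ (-k) • (b *ᵥ u) + c.χ (-(2 * k)) • (b *ᵥ (b *ᵥ u))) := fun k => by
    rw [mulVec_add, mulVec_add, mulVec_smul, mulVec_smul, h3, smul_add, smul_add, smul_smul, smul_smul, ← c.χ_add,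
      ← c.χ_add, add_neg_cancel, c.χ_zero, one_smul, show k + -(2 * k) = -k by ring,
      show -(2 * k) = k from (show ∀ k : ZMod 3, -(2 * k) = k by decide) k]
    abel
  by_contra h
  push Not at h
  have hz : ∀ k, u + c.χ (-k) • (b *ᵥ u) + c.χ (-(2 * k)) • (b *ᵥ (b *ᵥ u)) = 0 := fun k => by
    by_contra hne
    exact h k hne (heq k)
  refine hu (funext fun r => ?_)
  have e0 := congrFun (hz 0) r
  have e1 := congrFun (hz 1) r
  have e2 := congrFun (hz 2) r
  simp only [Pi.add_apply, Pi.smul_apply, smul_eq_mul, Pi.zero_apply,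
    show (-0 : ZMod 3) = 0 from neg_zero, show (2 * 0 : ZMod 3) = 0 from mul_zero 2, show (-(2 * 1) : ZMod 3) = 1 from rfl,
    show (-1 : ZMod 3) = 2 from rfl, show (-(2 * 2) : ZMod 3) = 2 from rfl, show (-2 : ZMod 3) = 1 from rfl,
    c.χ_zero, c.χ_one, c.χ_two] at e0 e1 e2
  refine (mul_eq_zero.1 (show (3 : F) * u r = 0 from ?_)).resolve_left c.three
  linear_combination e0 + e1 + e2 - ((b *ᵥ u) r + (b *ᵥ (b *ᵥ u)) r) * c.sum_eq

theorem exists_frame [Fintype F] {q : ℕ} (hq3 : q % 3 = 2) (hF : Fintype.card F = q ^ 2)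
    {R : Subgroup (GL (Fin 9) F)} (hR : Cfsg.Geo.IsSymplecticTypeGroup 3 R)
    (hirr' : Cfsg.Geo.ActsAbsolutelyIrreducibly (Cfsg.Geo.matrixSet R)) (hZ : Nat.card (Subgroup.center R) = 3)
    (hsim : R ≤ Cfsg.Geo.similarityGroup (Cfsg.hermForm 9 F q))
    (c : Root F) : ∃ (L : (Pt9 → F) ≃ₗ[F] (Fin 9 → F)) (η : F), η ≠ 0 ∧ η ^ q = η ∧
      (∀ u w, Cfsg.hermForm 9 F q (L u) (L w) = η * ∑ x, u x * w x ^ q) ∧
      ∀ g : GL (Fin 9) F, g ∈ R ↔ ∃ (k : ZMod 3) (a b : Pt9), ∀ u,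
        (g : Matrix (Fin 9) (Fin 9) F) *ᵥ L u = c.χ k • L (c.wop a b u) := by
  classical
  haveI : Fact (Nat.Prime 3) := ⟨Nat.prime_three⟩
  haveI : Finite R := Subtype.finite
  have hirr : AschPrimeBasic.AbsIrred R := hirr'
  have hexp : ∀ x ∈ R, x * (x * x) = 1 := fun x hx => by
    have h := congrArg Subtype.val (Monoid.pow_exponent_eq_one (⟨x, hx⟩ : R))
    rw [hR.exponent_eq, show 3 * Nat.gcd 2 3 = 3 from rfl, Subgroup.coe_pow, Subgroup.coe_one,
      pow_succ', pow_two] at h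
    exact h
  let sc : ZMod 3 → GL (Fin 9) F := fun k => Units.map (Matrix.scalar (Fin 9) : F →+* _).toMonoidHom
    (Units.mk0 (c.χ k) (c.χ_ne k))
  have hscv : ∀ k, (sc k : Matrix (Fin 9) (Fin 9) F) = c.χ k • 1 := fun k => by
    simp [sc, Matrix.smul_one_eq_diagonal]
  have hcen : ∀ z : R, z ∈ Subgroup.center R → ∃ k, (z : GL (Fin 9) F) = sc k := by
    intro z hz
    obtain ⟨a, ha⟩ := hirr.2 ((z : GL (Fin 9) F) : Matrix (Fin 9) (Fin 9) F) (by
      rintro _ ⟨u, hu, rfl⟩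
      rw [← Units.val_mul, ← Units.val_mul]
      exact congrArg Units.val (congrArg Subtype.val ((Subgroup.mem_center_iff.1 hz) ⟨u, hu⟩)).symm)
    have h3 := congrArg (fun g : GL (Fin 9) F => (g : Matrix (Fin 9) (Fin 9) F) 0 0) (hexp z z.2)
    simp only [Units.val_mul, Units.val_one, ha, smul_mul_smul_comm, one_mul, Matrix.smul_apply, Matrix.one_apply_eq,
      smul_eq_mul, mul_one] at h3
    obtain ⟨k, hk⟩ := c.exists_χ (show a ^ 3 = 1 by rw [← h3]; ring)
    exact ⟨k, Units.ext (by rw [ha, hscv, hk])⟩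
  have hscm : ∀ k, sc k ∈ R := by
    obtain ⟨z, hz⟩ := exists_prime_orderOf_dvd_card' (G := Subgroup.center R) 3 (by rw [hZ])
    obtain ⟨k₀, hk₀⟩ := hcen z z.2
    have hk0 : k₀ ≠ 0 := fun e => by
      have h1 : ((z : R) : GL (Fin 9) F) = 1 := hk₀.trans (Units.ext (by rw [hscv, e, c.χ_zero, one_smul]; rfl))
      have h2 : z = 1 := Subtype.ext (Subtype.ext h1)
      rw [h2, orderOf_one] at hz
      omega
    have hmul : ∀ k l, sc (k + l) = sc k * sc l := fun k l => Units.ext (by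
      rw [Units.val_mul, hscv, hscv, hscv, smul_mul_smul_comm, one_mul, c.χ_add])
    have h1 : sc k₀ ∈ R := hk₀ ▸ (z : R).2
    have h2 : sc (k₀ + k₀) ∈ R := hmul k₀ k₀ ▸ R.mul_mem h1 h1
    intro k
    rcases z3_gen k₀ k hk0 with rfl | rfl | rfl
    · exact h1
    · exact h2
    · rw [show sc 0 = 1 from Units.ext (by rw [hscv, c.χ_zero, one_smul]; rfl)]
      exact one_mem _
  have hscz : ∀ {x : GL (Fin 9) F}, x ∈ R → x ∈ Cfsg.Geo.scalars (Fin 9) F → ∃ k, x = sc k := by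
    intro x hx hxs
    refine hcen ⟨x, hx⟩ (Subgroup.mem_center_iff.2 fun g => Subtype.ext (Units.ext ?_))
    obtain ⟨a, ha⟩ := (Cfsg.Geo.mem_scalars_iff _).1 hxs
    simp [ha]
  have hcl : ∀ x y : R, ∃ k, (x : GL (Fin 9) F) * y = sc k * (y * x) := fun x y => by
    obtain ⟨k, hk⟩ := hcen _ (commutator_central (by norm_num) hR.pGroup
      hR.cyclic_of_characteristic x y)
    refine ⟨k, ?_⟩
    rw [← hk]
    simp only [commutatorElement_def, Subgroup.coe_mul, Subgroup.coe_inv]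
    group
  choose B hB using hcl
  have hscinj : ∀ {k l} {g : GL (Fin 9) F}, sc k * g = sc l * g → k = l := fun {k l g} h => by
    have := congrArg (fun g : GL (Fin 9) F => (g : Matrix (Fin 9) (Fin 9) F) 0 0) (mul_right_cancel h)
    simp only [hscv, Matrix.smul_apply, Matrix.one_apply_eq, smul_eq_mul, mul_one] at this
    exact c.χ_inj this
  have hscc : ∀ k (g : GL (Fin 9) F), g * sc k = sc k * g := fun k g => Units.ext (by
    simp [hscv])
  have hscadd : ∀ k l, sc k * sc l = sc (k + l) := fun k l => Units.ext (by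
    rw [Units.val_mul, hscv, hscv, hscv, smul_mul_smul_comm, one_mul, c.χ_add])
  have hBmul : ∀ x y z : R, B (x * y) z = B x z + B y z := fun x y z => by
    refine hscinj (g := (z : GL (Fin 9) F) * (x * y : R)) ?_
    rw [← hB, Subgroup.coe_mul, mul_assoc (x : GL (Fin 9) F), hB y z, ← mul_assoc (x : GL (Fin 9) F), hscc, mul_assoc,
      ← mul_assoc (x : GL (Fin 9) F), hB x z, ← hscadd]
    simp only [mul_assoc]
    rw [← mul_assoc (sc (B y z)), hscadd, ← mul_assoc (sc (B x z)), hscadd, add_comm]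
  have hBanti : ∀ x y : R, B y x = -B x y := fun x y => by
    refine hscinj (g := (x : GL (Fin 9) F) * y) ?_
    rw [← hB, hB x y, ← mul_assoc, hscadd, neg_add_cancel, show sc 0 = 1 from Units.ext (by
      rw [hscv, c.χ_zero, one_smul]; rfl), one_mul]
  have hBmul' : ∀ x y z : R, B z (x * y) = B z x + B z y := fun x y z => by
    rw [hBanti, hBmul, hBanti z x, hBanti z y]; ring
  have hBself : ∀ x : R, B x x = 0 := fun x =>
    z3_neg _ (hBanti x x)
  have hBone : ∀ z : R, B 1 z = 0 := fun z => by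
    have := hBmul 1 1 z
    rw [one_mul] at this
    exact add_eq_left.1 this.symm
  have hBpow : ∀ (x z : R) (n : ℕ), B (x ^ n) z = n * B x z := fun x z n => by
    induction n with
    | zero => rw [pow_zero, hBone, Nat.cast_zero, zero_mul]
    | succ n ih => rw [pow_succ, hBmul, ih, Nat.cast_succ]; ring
  have hBsc : ∀ {x : R}, (x : GL (Fin 9) F) ∈ Cfsg.Geo.scalars (Fin 9) F → ∀ z, B x z = 0 := fun {x} hx z => by
    obtain ⟨k, hk⟩ := hscz x.2 hx
    refine hscinj (g := (z : GL (Fin 9) F) * x) ?_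
    rw [← hB, hk, ← hscc, show sc 0 = 1 from Units.ext (by rw [hscv, c.χ_zero, one_smul]; rfl), one_mul]
  -- the quotient by the scalars
  let Z := (Cfsg.Geo.scalars (Fin 9) F).subgroupOf R
  have hq : Nat.card (R ⧸ Z) = 81 := by
    rw [AschGenExtra.card_quot (N := R) hirr (fun x hx y hy => ?_), Fintype.card_fin]
    obtain ⟨k, hk⟩ := hcen _ (commutator_central (by norm_num) hR.pGroup
      hR.cyclic_of_characteristic (⟨x, hx⟩ : R) ⟨y, hy⟩)
    refine (Cfsg.Geo.mem_scalars_iff _).2 ⟨Units.mk0 (c.χ k) (c.χ_ne k), ?_⟩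
    simp only [commutatorElement_def, Subgroup.coe_mul, Subgroup.coe_inv] at hk ⊢
    rw [hk, hscv]
    rfl
  have hsep : ∀ {x y : R}, (∀ z, B x z = B y z) → QuotientGroup.mk (s := Z) x = QuotientGroup.mk y := by
    intro x y h
    have h0 : ∀ z, B (x⁻¹ * y) z = 0 := fun z => by
      have e := hBmul x (x⁻¹ * y) z
      rw [mul_inv_cancel_left, ← h z] at e
      exact add_eq_left.1 e.symm
    refine (QuotientGroup.eq).2 ?_
    have hc : ∀ g : R, g * (x⁻¹ * y) = x⁻¹ * y * g := fun g => Subtype.ext (by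
      show (g : GL (Fin 9) F) * ((x⁻¹ * y : R) : GL (Fin 9) F) = ((x⁻¹ * y : R) : GL (Fin 9) F) * g
      rw [hB (x⁻¹ * y) g, h0, show sc 0 = 1 from Units.ext (by
        rw [hscv, c.χ_zero, one_smul]; rfl), one_mul])
    obtain ⟨k, hk⟩ := hcen (x⁻¹ * y) (Subgroup.mem_center_iff.2 hc)
    show ((x⁻¹ * y : R) : GL (Fin 9) F) ∈ Cfsg.Geo.scalars (Fin 9) F
    rw [hk]
    exact (Cfsg.Geo.mem_scalars_iff _).2 ⟨Units.mk0 (c.χ k) (c.χ_ne k), hscv k⟩
  have hcardle : ∀ {α : Type} [Finite α] (f : R → α), (∀ x y, f x = f y → QuotientGroup.mk (s := Z) x = QuotientGroup.mk y) →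
      81 ≤ Nat.card α := fun {α} _ f hf => by
    rw [← hq]
    exact Nat.card_le_card_of_injective (fun q : R ⧸ Z => f q.out) fun q q' e => by
      simpa using hf _ _ e
  -- two commuting hyperbolic pairs
  have hscale : ∀ x y : R, B x y ≠ 0 → ∃ b : R, B b y = 1 ∧ ∀ z, B x z = 0 → B b z = 0 := fun x y h => by
    rcases z3_ne _ h with e | e
    · exact ⟨x, e, fun _ hz => hz⟩
    · exact ⟨x * x, by rw [hBmul, e]; rfl, fun z hz => by rw [hBmul, hz, add_zero]⟩
  obtain ⟨b₁, a₁, h₁⟩ : ∃ b a : R, B b a = 1 := by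
    by_contra h
    push Not at h
    have := hcardle (α := Unit) (fun _ => ()) fun x y _ => hsep fun z => by
      have h0 : ∀ x, B x z = 0 := fun x => by
        by_contra hne
        obtain ⟨b, hb, -⟩ := hscale x z hne
        exact h b z hb
      rw [h0, h0]
    simp at this
  obtain ⟨b₂, a₂, h₂, hba, hbb, haa, hab⟩ : ∃ b a : R, B b a = 1 ∧ B b a₁ = 0 ∧ B b b₁ = 0 ∧ B a a₁ = 0 ∧ B a b₁ = 0 := by
    by_contra h
    push Not at h
    have hC : ∀ x y : R, B x a₁ = 0 → B x b₁ = 0 → B y a₁ = 0 → B y b₁ = 0 → B x y = 0 := fun x y h1 h3 h4 h5 => by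
      by_contra hne
      obtain ⟨b, hb, hb'⟩ := hscale x y hne
      exact h b y hb (hb' _ h1) (hb' _ h3) h4 h5
    have := hcardle (α := ZMod 3 × ZMod 3) (fun x => (B x a₁, B x b₁)) fun x y e => hsep fun z => by
      obtain ⟨e1, e2⟩ := Prod.mk.inj e
      let d := x * y⁻¹
      have hd : ∀ w, B d w = B x w - B y w := fun w => by
        have := hBmul d y w
        rw [inv_mul_cancel_right] at this
        linear_combination -this
      let i := B z a₁
      let j := B z b₁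
      let z' := z * b₁ ^ (-i).val * a₁ ^ j.val
      have hb1 : B b₁ a₁ = 1 := h₁
      have hz1 : B z' a₁ = 0 := by
        simp only [z', hBmul, hBpow, hb1, hBself, ZMod.natCast_zmod_val, i]; ring
      have hz2 : B z' b₁ = 0 := by
        simp only [z', hBmul, hBpow, hBself, hBanti b₁ a₁, hb1, ZMod.natCast_zmod_val, j]; ring
      have := hC d z' (by rw [hd, e1, sub_self]) (by rw [hd, e2, sub_self]) hz1 hz2
      rw [hBanti, neg_eq_zero] at this
      simp only [z', hBmul, hBpow] at this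
      have hda : B a₁ d = 0 := by rw [hBanti, hd, e1, sub_self, neg_zero]
      have hdb : B b₁ d = 0 := by rw [hBanti, hd, e2, sub_self, neg_zero]
      rw [hda, hdb, mul_zero, mul_zero, add_zero, add_zero, hBanti, hd, neg_eq_zero, sub_eq_zero] at this
      exact this
    simp [ZMod.card] at this
  -- a common eigenvector
  obtain ⟨v, k₁, k₂, hv, hv₁, hv₂⟩ : ∃ (v : Fin 9 → F) (k₁ k₂ : ZMod 3), v ≠ 0 ∧
      ((b₁ : GL (Fin 9) F) : Matrix (Fin 9) (Fin 9) F) *ᵥ v = c.χ k₁ • v ∧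
      ((b₂ : GL (Fin 9) F) : Matrix (Fin 9) (Fin 9) F) *ᵥ v = c.χ k₂ • v := by
    have hcub : ∀ x : R, ((x : GL (Fin 9) F) : Matrix (Fin 9) (Fin 9) F) * (((x : GL (Fin 9) F) : Matrix (Fin 9) (Fin 9) F) *
        ((x : GL (Fin 9) F) : Matrix (Fin 9) (Fin 9) F)) = 1 := fun x => by
      rw [← Units.val_mul, ← Units.val_mul, hexp x x.2, Units.val_one]
    obtain ⟨k₁, hne, he⟩ := exists_eigen9 c (hcub b₁) (u := Pi.single 0 1) (by simp)
    generalize hu : (Pi.single 0 1 + c.χ (-k₁) • _ + c.χ (-(2 * k₁)) • _ : Fin 9 → F) = u at hne he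
    obtain ⟨k₂, hne', he'⟩ := exists_eigen9 c (hcub b₂) hne
    refine ⟨_, k₁, k₂, hne', ?_, he'⟩
    have hcm : ∀ w : Fin 9 → F, ((b₁ : GL (Fin 9) F) : Matrix (Fin 9) (Fin 9) F) *ᵥ
        (((b₂ : GL (Fin 9) F) : Matrix (Fin 9) (Fin 9) F) *ᵥ w) = ((b₂ : GL (Fin 9) F) : Matrix (Fin 9) (Fin 9) F) *ᵥ
        (((b₁ : GL (Fin 9) F) : Matrix (Fin 9) (Fin 9) F) *ᵥ w) := fun w => by
      rw [mulVec_mulVec, mulVec_mulVec, ← Units.val_mul, ← Units.val_mul, hB b₁ b₂, hBanti b₂ b₁, hbb, neg_zero,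
        show sc 0 = 1 from Units.ext (by rw [hscv, c.χ_zero, one_smul]; rfl), one_mul]
    simp only [mulVec_add, mulVec_smul, hcm, he, smul_add, smul_smul, mul_comm (c.χ k₁)]
  let B₁ : R := ⟨sc (-k₁) * b₁, R.mul_mem (hscm _) b₁.2⟩
  let B₂ : R := ⟨sc (-k₂) * b₂, R.mul_mem (hscm _) b₂.2⟩
  have hscR : ∀ k, ∀ z, B ⟨sc k, hscm k⟩ z = 0 := fun k z => hBsc ((Cfsg.Geo.mem_scalars_iff _).2
    ⟨Units.mk0 (c.χ k) (c.χ_ne k), by rw [hscv]; rfl⟩) z
  have hB₁ : ∀ z, B B₁ z = B b₁ z := fun z => by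
    rw [show B₁ = ⟨sc (-k₁), hscm _⟩ * b₁ from rfl, hBmul, hscR, zero_add]
  have hB₂ : ∀ z, B B₂ z = B b₂ z := fun z => by
    rw [show B₂ = ⟨sc (-k₂), hscm _⟩ * b₂ from rfl, hBmul, hscR, zero_add]
  let m : R → Matrix (Fin 9) (Fin 9) F := fun x => ((x : GL (Fin 9) F) : Matrix (Fin 9) (Fin 9) F)
  have hm : ∀ x y, m (x * y) = m x * m y := fun x y => by simp [m]
  have hfix : ∀ {b : R} {k : ZMod 3}, m b *ᵥ v = c.χ k • v → m (⟨sc (-k) * b, R.mul_mem (hscm _) b.2⟩) *ᵥ v = v := by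
    intro b k h
    show ((sc (-k) * b : GL (Fin 9) F) : Matrix (Fin 9) (Fin 9) F) *ᵥ v = v
    rw [Units.val_mul, ← mulVec_mulVec, hscv, smul_mulVec, one_mulVec, show ((b : GL (Fin 9) F) : Matrix (Fin 9) (Fin 9) F) *ᵥ v = _ from h,
      smul_smul, ← c.χ_add, neg_add_cancel, c.χ_zero, one_smul]
  have hv₁' : m B₁ *ᵥ v = v := hfix hv₁
  have hv₂' : m B₂ *ᵥ v = v := hfix hv₂
  have hswap : ∀ (x y : R) (w : Fin 9 → F), m x *ᵥ (m y *ᵥ w) = c.χ (B x y) • (m y *ᵥ (m x *ᵥ w)) := fun x y w => by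
    simp only [m, mulVec_mulVec, ← Units.val_mul, hB x y]
    rw [Units.val_mul, hscv, Matrix.smul_mul, one_mul, smul_mulVec]
  let A : Pt9 → R := fun x => a₁ ^ x.1.val * a₂ ^ x.2.val
  let E : Pt9 → Fin 9 → F := fun x => m (A x) *ᵥ v
  have hBA : ∀ (z : R) (x : Pt9), B z (A x) = x.1 * B z a₁ + x.2 * B z a₂ := fun z x => by
    simp only [A, hBmul', hBanti (a₁ ^ _) z, hBanti (a₂ ^ _) z, hBpow, ZMod.natCast_zmod_val, hBanti z a₁, hBanti z a₂]
    ring
  have hb₁a₂ : B b₁ a₂ = 0 := by rw [hBanti, hab, neg_zero]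
  have hE₁ : ∀ x, m B₁ *ᵥ E x = c.χ x.1 • E x := fun x => by
    simp only [E]
    rw [hswap, hv₁', hBA, hB₁, hB₁, h₁, hb₁a₂, mul_one, mul_zero, add_zero]
  have hE₂ : ∀ x, m B₂ *ᵥ E x = c.χ x.2 • E x := fun x => by
    simp only [E]
    rw [hswap, hv₂', hBA, hB₂, hB₂, h₂, hba, mul_one, mul_zero, zero_add]
  have hpow3 : ∀ (x : R) (i j : ZMod 3), x ^ (i + j).val = x ^ i.val * x ^ j.val := fun x i j => by
    rw [← pow_add, ZMod.val_add]
    exact (pow_eq_pow_mod _ (Subtype.ext (by rw [Subgroup.coe_pow, pow_succ', pow_two, hexp x x.2]; rfl))).symm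
  have hEA : ∀ x y : Pt9, m (A x) *ᵥ E y = E (x + y) := fun x y => by
    simp only [E]
    rw [mulVec_mulVec, ← hm]
    congr 2
    have hc0 : Commute a₂ a₁ := Subtype.ext (by
      rw [Subgroup.coe_mul, Subgroup.coe_mul, hB a₂ a₁, haa, show sc 0 = 1 from Units.ext (by
        rw [hscv, c.χ_zero, one_smul]; rfl), one_mul])
    have hc : Commute (a₂ ^ x.2.val) (a₁ ^ y.1.val) := hc0.pow_pow _ _
    simp only [A, Prod.fst_add, Prod.snd_add, hpow3]
    rw [mul_assoc, ← mul_assoc (a₂ ^ x.2.val), hc.eq]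
    simp only [mul_assoc]
  have hEne : ∀ x, E x ≠ 0 := fun x h => hv (by
    have h' := congrArg (fun w => (((A x : GL (Fin 9) F)⁻¹ : GL (Fin 9) F) : Matrix (Fin 9) (Fin 9) F) *ᵥ w) h
    simpa [E, m, mulVec_mulVec] using h')
  have hind : LinearIndependent F E := by
    rw [Fintype.linearIndependent_iff]
    intro g hg y
    have hproj : ∀ (b : R) (t : ZMod 3) (co : Pt9 → ZMod 3), (∀ x, m b *ᵥ E x = c.χ (co x) • E x) → ∀ g : Pt9 → F,
        ∑ x, g x • E x = 0 → ∑ x, (g x * if co x = t then 1 else 0) • E x = 0 := by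
      intro b t co hb g hg
      have h1 : ∑ x, (g x * c.χ (co x)) • E x = 0 := by
        have := congrArg (fun w => m b *ᵥ w) hg
        simpa only [mulVec_sum, mulVec_smul, hb, smul_smul, mulVec_zero] using this
      have h3 : ∑ x, (g x * c.χ (2 * co x)) • E x = 0 := by
        have := congrArg (fun w => m b *ᵥ w) h1
        simpa only [mulVec_sum, mulVec_smul, hb, smul_smul, mulVec_zero, mul_assoc, ← c.χ_add, ← two_mul] using this
      have h4 : ∑ x, (g x * ∑ i, c.χ (i * (co x - t))) • E x = 0 := by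
        have e : ∀ x, g x * ∑ i, c.χ (i * (co x - t)) =
            g x + c.χ (-t) * (g x * c.χ (co x)) + c.χ (-(2 * t)) * (g x * c.χ (2 * co x)) := fun x => by
          rw [show (∑ i, c.χ (i * (co x - t))) = c.χ (0 * (co x - t)) + c.χ (1 * (co x - t)) + c.χ (2 * (co x - t)) from Fin.sum_univ_three _, zero_mul, c.χ_zero, one_mul, sub_eq_add_neg, c.χ_add, mul_add (2 : ZMod 3), c.χ_add, mul_neg]
          ring
        simp only [e, add_smul, Finset.sum_add_distrib, ← smul_smul (c.χ _), ← Finset.smul_sum, hg, h1, h3,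
          smul_zero, add_zero]
      simp only [c.χ_sum, sub_eq_zero] at h4
      refine (smul_eq_zero.1 (show (3 : F) • ∑ x, (g x * if co x = t then (1 : F) else 0) • E x = 0 from ?_)).resolve_left c.three
      rw [Finset.smul_sum, ← h4]
      refine Finset.sum_congr rfl fun x _ => ?_
      rw [smul_smul]
      split_ifs <;> ring_nf
    have := hproj B₂ y.2 Prod.snd hE₂ _ (hproj B₁ y.1 Prod.fst hE₁ g hg)
    rw [Finset.sum_eq_single y (fun x _ hxy => ?_) (by simp)] at this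
    · simpa [hEne y] using this
    · rcases not_and_or.1 (fun h => hxy (Prod.ext h.1 h.2) : ¬ (x.1 = y.1 ∧ x.2 = y.2)) with h | h <;> simp [h]
  let bas := basisOfLinearIndependentOfCardEqFinrank hind (by simp [ZMod.card])
  have hL : ∀ x, bas.equivFun.symm (Pi.single x 1) = E x := fun x => by
    simp [bas, Module.Basis.equivFun_symm_apply, Pi.single_apply]
  -- the form in these coordinates
  obtain ⟨σ, hσ⟩ : ∃ σ : F →+* F, ∀ x, σ x = x ^ q := OrthUnitaryHerm.exists_frobHom hF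
  set f := Cfsg.hermForm 9 F q with hf
  have hfl : ∀ (a : F) u w, f (a • u) w = a * f u w := fun a u w => by
    simp [hf, Cfsg.hermForm, Finset.mul_sum, mul_assoc]
  have hfr : ∀ (a : F) u w, f u (a • w) = a ^ q * f u w := fun a u w => by
    simp only [hf, Cfsg.hermForm, Pi.smul_apply, smul_eq_mul, mul_pow, Finset.mul_sum]
    exact Finset.sum_congr rfl fun x _ => by ring
  have hfsum : ∀ (u w : Pt9 → F), f (∑ x, u x • E x) (∑ x, w x • E x) =
      ∑ x, ∑ y, u x * w y ^ q * f (E x) (E y) := fun u w => by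
    simp only [hf, Cfsg.hermForm, Finset.sum_apply, Pi.smul_apply, smul_eq_mul, ← hσ, map_sum, map_mul,
      Finset.sum_mul, Finset.mul_sum]
    refine Eq.trans (Finset.sum_congr rfl fun i _ => Finset.sum_comm) ?_
    rw [Finset.sum_comm]
    refine Finset.sum_congr rfl fun x _ => ?_
    rw [Finset.sum_comm]
    exact Finset.sum_congr rfl fun y _ => Finset.sum_congr rfl fun i _ => by ring
  have hqq : ∀ x : F, (x ^ q) ^ q = x := fun x => by
    rw [← pow_mul, ← pow_two, ← hF, FiniteField.pow_card]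
  have hsym : ∀ u w, f u w ^ q = f w u := fun u w => by
    simp only [hf, Cfsg.hermForm, ← hσ, map_sum, map_mul]
    exact Finset.sum_congr rfl fun x _ => by rw [hσ, hσ, hσ, hqq, mul_comm]
  -- the elements of `R` are isometries
  have hiso : ∀ (z : R) u w, f (m z *ᵥ u) (m z *ᵥ w) = f u w := by
    intro z u w
    obtain ⟨d, hd⟩ := hsim z.2
    have hd1 : (d : F) = 1 := by
      let u₀ : Fin 9 → F := Pi.single 0 1
      have h0 : f u₀ u₀ = 1 := by
        rw [hf, Cfsg.hermForm, Finset.sum_eq_single 0 (fun i _ hi => by simp [u₀, hi]) (by simp)]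
        simp [u₀]
      have hdq : (d : F) ^ q = d := by
        have h1 := hsym (m z *ᵥ u₀) (m z *ᵥ u₀)
        rwa [show f (m z *ᵥ u₀) (m z *ᵥ u₀) = (d : F) * f u₀ u₀ from hd u₀ u₀, h0, mul_one] at h1
      have hd3 : (d : F) * ((d : F) * (d : F)) = 1 := by
        have h2 : ∀ v, m z *ᵥ (m z *ᵥ (m z *ᵥ v)) = v := fun v => by
          simp only [m, mulVec_mulVec, ← Units.val_mul]
          rw [← mul_assoc, mul_assoc, hexp z z.2, Units.val_one, one_mulVec]
        have h3 := congrArg (fun v => f v v) (h2 u₀)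
        simp only [m] at h3
        rw [hd, hd, hd, h0, mul_one] at h3
        exact h3
      have hqm : q = 3 * (q / 3) + 2 := by omega
      rw [hqm, pow_add, pow_mul, show (d : F) ^ 3 = 1 by rw [← hd3]; ring, one_pow, one_mul] at hdq
      exact mul_left_cancel₀ d.ne_zero (by rw [mul_one, ← pow_two]; exact hdq)
    rw [show f (m z *ᵥ u) (m z *ᵥ w) = (d : F) * f u w from hd u w, hd1, one_mul]
  have hχq : ∀ a, c.χ a ^ q = c.χ (-a) := fun a => by
    rw [show q = 3 * (q / 3) + 2 by omega, pow_add, pow_mul, c.χ_cube, one_pow, one_mul, pow_two, ← c.χ_add]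
    congr 1
    exact z3_double a
  have horth : ∀ x y, x ≠ y → f (E x) (E y) = 0 := by
    intro x y hxy
    by_contra hne
    have key : ∀ (b : R) (co : Pt9 → ZMod 3), (∀ x, m b *ᵥ E x = c.χ (co x) • E x) → co x = co y := by
      intro b co hb
      have h1 := hiso b (E x) (E y)
      rw [hb, hb, hfl, hfr, hχq, ← mul_assoc, ← c.χ_add, mul_eq_right₀ hne, ← sub_eq_add_neg] at h1
      exact sub_eq_zero.1 (c.χ_eq_one h1)
    exact hxy (Prod.ext (key B₁ Prod.fst hE₁) (key B₂ Prod.snd hE₂))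
  have hdiag : ∀ x, f (E x) (E x) = f v v := fun x => hiso (A x) v v
  have hLsum : ∀ u : Pt9 → F, bas.equivFun.symm u = ∑ x, u x • E x := fun u => by
    simp [bas, Module.Basis.equivFun_symm_apply]
  have hform : ∀ u w, f (bas.equivFun.symm u) (bas.equivFun.symm w) = f v v * ∑ x, u x * w x ^ q := fun u w => by
    rw [hLsum, hLsum, hfsum, Finset.mul_sum]
    refine Finset.sum_congr rfl fun x _ => ?_
    rw [Finset.sum_eq_single x (fun y _ hy => by rw [horth x y hy.symm, mul_zero]) (by simp), hdiag]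
    ring
  have hη : f v v ≠ 0 := fun h0 => by
    have h := hform (bas.equivFun (Pi.single 0 1)) (bas.equivFun (Pi.single 0 1))
    rw [h0, zero_mul, LinearEquiv.symm_apply_apply] at h
    simp [hf, Cfsg.hermForm, Pi.single_apply, apply_ite, zero_pow (show q ≠ 0 by omega)] at h
  refine ⟨bas.equivFun.symm, f v v, hη, hsym v v, hform, ?_⟩
  have himg : ∀ (a b : Pt9) (u : Pt9 → F), m (A a * B₁ ^ b.1.val * B₂ ^ b.2.val) *ᵥ bas.equivFun.symm u =
      bas.equivFun.symm (c.wop a b u) := by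
    intro a b
    have hpw : ∀ (b : R) (co : Pt9 → ZMod 3), (∀ x, m b *ᵥ E x = c.χ (co x) • E x) → ∀ (n : ℕ) x,
        m (b ^ n) *ᵥ E x = c.χ (n * co x) • E x := by
      intro b co hb n x
      induction n with
      | zero => simp [m]
      | succ n ih =>
        rw [pow_succ, hm, ← mulVec_mulVec, hb, mulVec_smul, ih, smul_smul, ← c.χ_add, Nat.cast_succ]
        congr 2
        ring
    have h1 : ∀ x, m (A a * B₁ ^ b.1.val * B₂ ^ b.2.val) *ᵥ E x = bas.equivFun.symm (c.wop a b (Pi.single x 1)) := by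
      intro x
      rw [hm, hm, ← mulVec_mulVec, ← mulVec_mulVec, hpw B₂ Prod.snd hE₂, mulVec_smul, hpw B₁ Prod.fst hE₁,
        mulVec_smul, mulVec_smul, hEA, c.wop_single, map_smul, hL, smul_smul, ← c.χ_add, add_comm a x]
      simp only [ZMod.natCast_zmod_val]
      rw [add_comm (b.2 * x.2)]
    intro u
    rw [hLsum, mulVec_sum]
    simp only [mulVec_smul, h1, ← map_smul, ← map_sum]
    congr 1
    funext z
    simp only [Finset.sum_apply, Pi.smul_apply, smul_eq_mul, Root.wop]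
    rw [Finset.sum_eq_single (z - a) (fun y _ hy => by simp [Ne.symm hy]) (by simp)]
    simp
    ring
  intro g
  constructor
  · intro hg
    let z : R := ⟨_, hg⟩
    let w : Pt9 × Pt9 := ((-B z B₁, B z a₁), (-B z B₂, B z a₂))
    let y : R := A (w.1.1, w.2.1) * B₁ ^ w.1.2.val * B₂ ^ w.2.2.val
    have hy : ∀ u, B y u = w.1.1 * B a₁ u + w.2.1 * B a₂ u + w.1.2 * B b₁ u + w.2.2 * B b₂ u := fun u => by
      simp only [y, A, hBmul, hBpow, hB₁, hB₂, ZMod.natCast_zmod_val]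
    let f : R → (ZMod 3 × ZMod 3) × (ZMod 3 × ZMod 3) := fun x => ((B x B₁, B x a₁), (B x B₂, B x a₂))
    have hfy : f y = f z := by
      have e1 : ∀ u, B u B₁ = B u b₁ := fun u => by rw [hBanti, hB₁, hBanti u b₁]; ring
      have e2 : ∀ u, B u B₂ = B u b₂ := fun u => by rw [hBanti, hB₂, hBanti u b₂]; ring
      have h1' : B a₁ b₁ = -1 := by rw [hBanti, h₁]
      have h2' : B a₂ b₂ = -1 := by rw [hBanti, h₂]
      have h3 : B a₁ a₂ = 0 := by rw [hBanti, haa, neg_zero]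
      have h4 : B a₁ b₂ = 0 := by rw [hBanti, hba, neg_zero]
      have h5 : B b₁ b₂ = 0 := by rw [hBanti, hbb, neg_zero]
      simp only [f, e1, e2, hy, w, h₁, h₂, hba, hbb, haa, hab, hb₁a₂, hBself, h1', h2', h3, h4, h5]
      ext <;> simp
    have hfs : Function.Surjective (fun q : R ⧸ Z => f q.out) := by
      rintro ⟨⟨r1, r2⟩, ⟨r3, r4⟩⟩
      let y' : R := A (-r1, -r3) * B₁ ^ r2.val * B₂ ^ r4.val
      refine ⟨QuotientGroup.mk y', ?_⟩
      obtain ⟨u, hu⟩ := QuotientGroup.mk_out_eq_mul Z y'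
      have hu0 : ∀ t, B (u : R) t = 0 := fun t => hBsc u.2 t
      have hy' : ∀ t, B (QuotientGroup.mk (s := Z) y').out t = -r1 * B a₁ t + -r3 * B a₂ t + r2 * B b₁ t + r4 * B b₂ t :=
        fun t => by
          rw [hu, hBmul, hu0, add_zero]
          simp only [y', A, hBmul, hBpow, hB₁, hB₂, ZMod.natCast_zmod_val]
      have e1 : ∀ u, B u B₁ = B u b₁ := fun u => by rw [hBanti, hB₁, hBanti u b₁]; ring
      have e2 : ∀ u, B u B₂ = B u b₂ := fun u => by rw [hBanti, hB₂, hBanti u b₂]; ring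
      have h1' : B a₁ b₁ = -1 := by rw [hBanti, h₁]
      have h2' : B a₂ b₂ = -1 := by rw [hBanti, h₂]
      have h3 : B a₁ a₂ = 0 := by rw [hBanti, haa, neg_zero]
      have h4 : B a₁ b₂ = 0 := by rw [hBanti, hba, neg_zero]
      have h5 : B b₁ b₂ = 0 := by rw [hBanti, hbb, neg_zero]
      simp only [f, e1, e2, hy', h₁, h₂, hba, hbb, haa, hab, hb₁a₂, hBself, h1', h2', h3, h4, h5]
      ext <;> simp
    haveI : Fintype (R ⧸ Z) := Fintype.ofFinite _
    have hfb := (Fintype.bijective_iff_surjective_and_card _).2 ⟨hfs, by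
      rw [← Nat.card_eq_fintype_card, hq]; simp [ZMod.card]⟩
    have hout : ∀ x : R, f (QuotientGroup.mk (s := Z) x).out = f x := fun x => by
      obtain ⟨u, hu⟩ := QuotientGroup.mk_out_eq_mul Z x
      have hu0 : ∀ t, B (u : R) t = 0 := fun t => hBsc u.2 t
      simp only [f, hu, hBmul, hu0, add_zero]
    have hzy : QuotientGroup.mk (s := Z) y = QuotientGroup.mk z :=
      hfb.1 (show f _ = f _ by rw [hout, hout, hfy])
    obtain ⟨k, hk⟩ := hscz (x := ((y⁻¹ * z : R) : GL (Fin 9) F)) (SetLike.coe_mem _) ((QuotientGroup.eq (s := Z)).1 hzy)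
    refine ⟨k, (w.1.1, w.2.1), (w.1.2, w.2.2), fun u => ?_⟩
    rw [← himg]
    have hzy' : (g : Matrix (Fin 9) (Fin 9) F) = c.χ k • m y := by
      have h' : (z : GL (Fin 9) F) = sc k * (y : GL (Fin 9) F) := by
        rw [← hscc, ← hk, ← Subgroup.coe_mul, mul_inv_cancel_left]
      show m z = _
      simp only [m]
      rw [h', Units.val_mul, hscv, Matrix.smul_mul, one_mul]
    rw [hzy', smul_mulVec]
  · rintro ⟨k, a, b, h⟩
    have : g = sc k * ((A a * B₁ ^ b.1.val * B₂ ^ b.2.val : R) : GL (Fin 9) F) := by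
      refine Units.ext (Matrix.toLin'.injective (LinearMap.ext fun w => ?_))
      obtain ⟨u, rfl⟩ := bas.equivFun.symm.surjective w
      rw [Matrix.toLin'_apply, Matrix.toLin'_apply, h, Units.val_mul, hscv, Matrix.smul_mul, one_mul, smul_mulVec]
      exact congrArg (c.χ k • ·) (himg a b u).symm
    rw [this]
    exact R.mul_mem (hscm k) (SetLike.coe_mem _)

end Cfsg.Agent.Heis75
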