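import Cfsg.Agent.Lib.Heis75SU2Field

/-!
The Weyl operators, generators of their normaliser, and the action of the centraliser of the parity on the
four-dimensional space of symmetric vectors.
-/

set_option autoImplicit false
set_option linter.unusedSectionVars false
set_option linter.unusedSimpArgs false

namespace Cfsg.Agent.Heis75

variable {F : Type*} [Field F]

/-- A linear map of indices. -/
abbrev L4 : Type := ZMod 3 × ZMod 3 × ZMod 3 × ZMod 3

/-- Evaluation. -/
def lap (l : L4) (x : Pt) : Pt := (l.1 * x.1 + l.2.1 * x.2, l.2.2.1 * x.1 + l.2.2.2 * x.2)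

/-- The transpose. -/
def ltr (l : L4) : L4 := (l.1, l.2.2.1, l.2.1, l.2.2.2)

/-- The determinant. -/
def ldet (l : L4) : ZMod 3 := l.1 * l.2.2.2 - l.2.1 * l.2.2.1

/-- The inverse, for an invertible map. -/
def linv (l : L4) : L4 :=
  (ldet l * l.2.2.2, -(ldet l * l.2.1), -(ldet l * l.2.2.1), ldet l * l.1)

theorem det_sq : ∀ d : ZMod 3, d ≠ 0 → d * d = 1 := by decide

theorem linv_lap (l : L4) (h : ldet l ≠ 0) (x : Pt) :
    lap (linv l) (lap l x) = x ∧ lap l (lap (linv l) x) = x := by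
  have h' := det_sq _ h
  have hd : ldet l = l.1 * l.2.2.2 - l.2.1 * l.2.2.1 := rfl
  obtain ⟨x1, x2⟩ := x
  constructor <;> ext <;> simp only [lap, linv]
  · linear_combination x1 * h' - ldet l * x1 * hd
  · linear_combination x2 * h' - ldet l * x2 * hd
  · linear_combination x1 * h' - ldet l * x1 * hd
  · linear_combination x2 * h' - ldet l * x2 * hd

/-- The affine permutation. -/
def aff (l : L4) (e : Pt) (h : ldet l ≠ 0) : Equiv.Perm Pt where
  toFun x := lap l x + e
  invFun x := lap (linv l) (x - e)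
  left_inv x := by simp [(linv_lap l h x).1]
  right_inv x := by simp [(linv_lap l h (x - e)).2]

theorem lap_add (l : L4) (x y : Pt) : lap l (x + y) = lap l x + lap l y := by
  ext <;> simp [lap] <;> ring

theorem lap_sub (l : L4) (x y : Pt) : lap l (x - y) = lap l x - lap l y := by
  ext <;> simp [lap] <;> ring

theorem dot_lap (b x : Pt) (l : L4) : dot b (lap l x) = dot (lap (ltr l) b) x := by
  simp only [dot, lap, ltr]
  ring

theorem dot_sub (b x y : Pt) : dot b (x - y) = dot b x - dot b y := by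
  simp only [dot, Prod.fst_sub, Prod.snd_sub]
  ring

/-- The four pairs of non-zero points. -/
def P : Fin 4 → Pt := ![(1, 0), (0, 1), (1, 1), (1, 2)]

/-- The parity. -/
def tt : Vg F := pm (Equiv.neg Pt)

theorem tt_apply (u : Pt → F) (x : Pt) : tt u x = u (-x) := rfl

theorem tt_tt : (tt : Vg F) * tt = 1 :=
  LinearEquiv.ext fun u => funext fun x => by
    show tt (tt u) x = u x
    simp [tt_apply]

/-- Extensionality on the nine points. -/
theorem pt_ext {u v : Pt → F} (h0 : u (0, 0) = v (0, 0)) (h : ∀ j, u (P j) = v (P j))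
    (h' : ∀ j, u (-P j) = v (-P j)) : u = v := by
  funext x
  have hx : x = (0, 0) ∨ (∃ j, x = P j) ∨ ∃ j, x = -P j := by
    revert x
    decide
  rcases hx with rfl | ⟨j, rfl⟩ | ⟨j, rfl⟩
  · exact h0
  · exact h j
  · exact h' j

/-- The symmetric vector with given values on the pairs. -/
def wv : (Fin 4 → F) →ₗ[F] (Pt → F) where
  toFun β x := ∑ j, if x = P j ∨ x = -P j then β j else 0
  map_add' β γ := funext fun x => by
    simp only [Pi.add_apply, ← Finset.sum_add_distrib]
    exact Finset.sum_congr rfl fun j _ => by split_ifs <;> simp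
  map_smul' a β := funext fun x => by simp [Finset.mul_sum, mul_ite]

/-- A preimage of `wv`. -/
def emb : (Fin 4 → F) →ₗ[F] (Pt → F) where
  toFun β x := ∑ j, if x = P j then β j else 0
  map_add' β γ := funext fun x => by
    simp only [Pi.add_apply, ← Finset.sum_add_distrib]
    exact Finset.sum_congr rfl fun j _ => by split_ifs <;> simp
  map_smul' a β := funext fun x => by simp [Finset.mul_sum, mul_ite]

/-- The values of `u + tt u` on the pairs. -/
def dn : (Pt → F) →ₗ[F] (Fin 4 → F) where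
  toFun u j := u (P j) + u (-P j)
  map_add' u v := funext fun j => by simp only [Pi.add_apply]; ring
  map_smul' a u := funext fun j => by simp [mul_add]

theorem dn_apply (u : Pt → F) (j : Fin 4) : dn u j = u (P j) + u (-P j) := rfl

theorem wv_P (β : Fin 4 → F) (j : Fin 4) : wv β (P j) = β j := by
  simp only [wv, emb, LinearMap.coe_mk, AddHom.coe_mk]
  rw [Finset.sum_eq_single j (fun i _ hi => if_neg (by revert hi; revert i j; decide)) (by simp)]
  simp

theorem wv_neg (β : Fin 4 → F) (j : Fin 4) : wv β (-P j) = β j := by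
  simp only [wv, emb, LinearMap.coe_mk, AddHom.coe_mk]
  rw [Finset.sum_eq_single j (fun i _ hi => if_neg (by revert hi; revert i j; decide)) (by simp)]
  simp

theorem wv_zero (β : Fin 4 → F) : wv β (0, 0) = 0 := by
  simp only [wv, emb, LinearMap.coe_mk, AddHom.coe_mk]
  exact Finset.sum_eq_zero fun i _ => if_neg (by revert i; decide)

theorem emb_P (β : Fin 4 → F) (j : Fin 4) : emb β (P j) = β j := by
  simp only [wv, emb, LinearMap.coe_mk, AddHom.coe_mk]
  rw [Finset.sum_eq_single j (fun i _ hi => if_neg (by revert hi; revert i j; decide)) (by simp)]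
  simp

theorem emb_neg (β : Fin 4 → F) (j : Fin 4) : emb β (-P j) = 0 := by
  simp only [wv, emb, LinearMap.coe_mk, AddHom.coe_mk]
  exact Finset.sum_eq_zero fun i _ => if_neg (by revert i j; decide)

theorem emb_zero (β : Fin 4 → F) : emb β (0, 0) = 0 := by
  simp only [wv, emb, LinearMap.coe_mk, AddHom.coe_mk]
  exact Finset.sum_eq_zero fun i _ => if_neg (by revert i; decide)

theorem dn_emb (β : Fin 4 → F) : dn (emb β) = β := funext fun j => by
  rw [dn_apply, emb_P, emb_neg, add_zero]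

theorem wv_inj {β γ : Fin 4 → F} (h : wv β = wv γ) : β = γ :=
  funext fun j => by rw [← wv_P β j, h, wv_P]

/-- The form on the values at the pairs. -/
def bb (α β : Fin 4 → F) : F := ∑ j, α j * β j ^ 2

theorem bb_single_left (i : Fin 4) (a : F) (β : Fin 4 → F) : bb (Pi.single i a) β = a * β i ^ 2 := by
  rw [bb, Finset.sum_eq_single i (fun y _ hy => by simp [hy]) (by simp), Pi.single_eq_same]

theorem bb_single_right (i : Fin 4) (a : F) (α : Fin 4 → F) : bb α (Pi.single i a) = α i * a ^ 2 := by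
  rw [bb, Finset.sum_eq_single i (fun y _ hy => by simp [hy]) (by simp), Pi.single_eq_same]

theorem sum_pt {A : Type*} [AddCommMonoid A] (g : Pt → A) :
    ∑ x, g x = g (0, 0) + ∑ j, (g (P j) + g (-P j)) := by
  have e0 : P 0 = (1, 0) ∧ -P 0 = (2, 0) := by decide
  have e1 : P 1 = (0, 1) ∧ -P 1 = (0, 2) := by decide
  have e2 : P 2 = (1, 1) ∧ -P 2 = (2, 2) := by decide
  have e3 : P 3 = (1, 2) ∧ -P 3 = (2, 1) := by decide
  rw [Fintype.sum_prod_type]
  simp only [sum_z3, Fin.sum_univ_four]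
  rw [e0.2, e1.2, e2.2, e3.2, e0.1, e1.1, e2.1, e3.1]
  abel

theorem f_wv (v : Pt → F) (β : Fin 4 → F) : f v (wv β) = bb (dn v) β := by
  rw [f, sum_pt, wv_zero, bb]
  simp only [wv_P, wv_neg, dn_apply, add_mul]
  simp

namespace C2

variable (c : C2 F)
include c

theorem dn_wv (β : Fin 4 → F) : dn (wv β) = 0 := funext fun j => by
  rw [dn_apply, wv_P, wv_neg, Pi.zero_apply, c.add_self]

theorem wv_dn (u : Pt → F) : wv (dn u) = u + tt u := by
  refine pt_ext ?_ (fun j => ?_) (fun j => ?_)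
  · rw [wv_zero, Pi.add_apply, tt_apply, show (-(0, 0) : Pt) = (0, 0) by decide, c.add_self]
  · rw [wv_P, Pi.add_apply, tt_apply, dn_apply]
  · rw [wv_neg, Pi.add_apply, tt_apply, neg_neg, dn_apply, add_comm]

theorem bb_add_right (α β γ : Fin 4 → F) : bb α (β + γ) = bb α β + bb α γ := by
  simp [bb, c.sq_add', mul_add, Finset.sum_add_distrib]

theorem bb_smul_right (a : F) (α β : Fin 4 → F) : bb α (a • β) = a ^ 2 * bb α β := by
  simp only [bb, Pi.smul_apply, smul_eq_mul, mul_pow, Finset.mul_sum]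
  exact Finset.sum_congr rfl fun j _ => by ring

end C2

theorem bb_add_left (α β γ : Fin 4 → F) : bb (α + β) γ = bb α γ + bb β γ := by
  simp [bb, add_mul, Finset.sum_add_distrib]

theorem bb_smul_left (a : F) (α β : Fin 4 → F) : bb (a • α) β = a * bb α β := by
  simp [bb, Finset.mul_sum, mul_assoc]

/-! ### Weyl operators and their normaliser -/

namespace C2

variable (c : C2 F)
include c

/-- The Weyl operator. -/
def W (a b : Pt) : Vg F := pm (Equiv.addRight a) * c.dg fun x => dot b x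

theorem W_apply (a b : Pt) (u : Pt → F) (x : Pt) : c.W a b u x = c.χ (dot b (x - a)) * u (x - a) := by
  show pm (Equiv.addRight a) (c.dg (fun x => dot b x) u) x = _
  simp [pm_apply, dg_apply, sub_eq_add_neg]

theorem W_mem (a b : Pt) : c.W a b ∈ G2 :=
  mul_mem (pm_mem c _) (c.dg_mem (by
    have : ∀ b : Pt, ∑ x : Pt, dot b x = 0 := by decide
    exact this b))

/-- Normalising the Weyl operators up to scalars. -/
def Nr (g : Vg F) : Prop :=
  ∀ a b, ∃ (k : F) (a' b' : Pt), ∀ u, g (c.W a b u) = k • c.W a' b' (g u)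

/-- The normalising special unitary operators. -/
def Good (g : Vg F) : Prop := g ∈ G2 ∧ c.Nr g

theorem good_one : c.Good 1 := ⟨one_mem _, fun a b => ⟨1, a, b, fun u => by simp⟩⟩

theorem Good.mul {g h : Vg F} (hg : c.Good g) (hh : c.Good h) : c.Good (g * h) := by
  refine ⟨mul_mem hg.1 hh.1, fun a b => ?_⟩
  obtain ⟨k, a₁, b₁, e₁⟩ := hh.2 a b
  obtain ⟨l, a₂, b₂, e₂⟩ := hg.2 a₁ b₁
  exact ⟨k * l, a₂, b₂, fun u => by
    simp only [LinearEquiv.mul_apply, e₁, map_smul, e₂, smul_smul]⟩

theorem Good.pow {g : Vg F} (hg : c.Good g) : ∀ n : ℕ, c.Good (g ^ n)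
  | 0 => c.good_one
  | n + 1 => by rw [pow_succ]; exact (Good.pow hg n).mul c hg

theorem Good.inv [Finite F] {g : Vg F} (hg : c.Good g) : c.Good g⁻¹ := by
  have : Finite (Vg F) := Finite.of_injective (fun g : Vg F => (g : (Pt → F) → (Pt → F)))
    DFunLike.coe_injective
  have hfin := isOfFinOrder_of_finite g
  have h := hfin.orderOf_pos
  rw [show g⁻¹ = g ^ (orderOf g - 1) from inv_eq_of_mul_eq_one_right (by
    rw [← pow_succ', Nat.sub_add_cancel h, pow_orderOf_eq_one])]
  exact hg.pow c _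

theorem W_W_comm (a b a' b' : Pt) (u : Pt → F) :
    c.W a b (c.W a' b' u) = c.χ (dot b a' - dot b' a) • c.W a' b' (c.W a b u) := by
  funext x
  simp only [Pi.smul_apply, smul_eq_mul, W_apply, ← mul_assoc, ← c.χ_add, sub_sub, add_comm a a']
  congr 2
  simp only [dot, Prod.fst_sub, Prod.snd_sub, Prod.fst_add, Prod.snd_add]
  ring

theorem W_good (a b : Pt) : c.Good (c.W a b) :=
  ⟨c.W_mem a b, fun a' b' => ⟨_, a', b', fun u => c.W_W_comm a b a' b' u⟩⟩

theorem aff_good (l : L4) (e : Pt) (h : ldet l ≠ 0) : c.Good (pm (aff l e h)) := by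
  refine ⟨pm_mem c _, fun a b => ⟨c.χ (-dot b (lap (linv l) e)), lap l a, lap (ltr (linv l)) b, fun u => ?_⟩⟩
  funext x
  simp only [Pi.smul_apply, smul_eq_mul, W_apply, pm_apply, aff, Equiv.coe_fn_symm_mk]
  have hs : lap (linv l) (x - lap l a - e) = lap (linv l) (x - e) - a := by
    rw [show x - lap l a - e = x - e - lap l a by abel, lap_sub, (linv_lap l h a).1]
  rw [hs, ← mul_assoc, ← c.χ_add, ← dot_lap]
  congr 2
  rw [lap_sub, lap_sub, (linv_lap l h a).1, dot_sub, dot_sub, dot_sub]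
  ring

/-- The quadratic exponents. -/
def quad (q : ZMod 3 × ZMod 3 × ZMod 3 × ZMod 3) (x : Pt) : ZMod 3 :=
  q.1 + q.2.1 * x.1 * x.1 + q.2.2.1 * x.1 * x.2 + q.2.2.2 * x.2 * x.2

theorem quad_good (q : ZMod 3 × ZMod 3 × ZMod 3 × ZMod 3) : c.Good (c.dg (quad q)) := by
  refine ⟨c.dg_mem (by revert q; decide +kernel), fun a b => ?_⟩
  refine ⟨c.χ (quad q a - q.1), a,
    b + (2 * q.2.1 * a.1 + q.2.2.1 * a.2, q.2.2.1 * a.1 + 2 * q.2.2.2 * a.2), fun u => ?_⟩
  funext x
  simp only [Pi.smul_apply, smul_eq_mul, W_apply, dg_apply, ← mul_assoc, ← c.χ_add]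
  congr 2
  simp only [quad, dot, Prod.fst_sub, Prod.snd_sub, Prod.fst_add, Prod.snd_add]
  ring

theorem hh_good : c.Good c.hh := by
  refine ⟨c.hh_mem, fun a b => ⟨c.χ (-(a.1 * b.1)), (-b.1, a.2), (a.1, b.2), fun u => ?_⟩⟩
  funext x
  simp only [Pi.smul_apply, smul_eq_mul, W_apply, hh_apply, Finset.mul_sum, ← mul_assoc, ← c.χ_add]
  refine Fintype.sum_equiv (Equiv.subRight a.1) _ _ fun z => ?_
  simp only [Equiv.subRight_apply, Prod.fst_sub, Prod.snd_sub, dot]
  congr 2
  · ring

/-! ### The action on the pairs -/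

/-- The action of an operator on the values at the pairs. -/
def act (g : Vg F) : (Fin 4 → F) →ₗ[F] (Fin 4 → F) :=
  dn ∘ₗ (g : (Pt → F) →ₗ[F] (Pt → F)) ∘ₗ emb

omit c in
theorem act_apply (g : Vg F) (α : Fin 4 → F) : act g α = dn (g (emb α)) := rfl

theorem dn_comm {g : Vg F} (hg : Commute g tt) (u : Pt → F) : wv (dn (g u)) = g (wv (dn u)) := by
  rw [c.wv_dn, c.wv_dn, map_add]
  congr 1
  exact (LinearEquiv.congr_fun hg.eq u).symm

theorem g_wv {g : Vg F} (hg : Commute g tt) (α : Fin 4 → F) : g (wv α) = wv (act g α) := by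
  rw [act_apply, c.dn_comm hg, dn_emb]

theorem dn_g {g : Vg F} (hg : Commute g tt) (u : Pt → F) : dn (g u) = act g (dn u) :=
  wv_inj (by rw [c.dn_comm hg, c.g_wv hg])

theorem act_mul {g h : Vg F} (hg : Commute g tt) (α : Fin 4 → F) :
    act (g * h) α = act g (act h α) := by
  rw [act_apply, LinearEquiv.mul_apply, c.dn_g hg, act_apply h]

theorem bb_act {g : Vg F} (hg : Commute g tt) (hu : InU g) (α β : Fin 4 → F) :
    bb (act g α) (act g β) = bb α β := by
  rw [act_apply, ← f_wv, ← c.g_wv hg, hu, f_wv, dn_emb]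

/-- A map realised by a normalising operator commuting with the parity. -/
def Real (T : (Fin 4 → F) → Fin 4 → F) : Prop :=
  ∃ n, c.Good n ∧ Commute n tt ∧ ∀ α, act n α = T α

theorem Real.comp {T S : (Fin 4 → F) → Fin 4 → F} (hT : c.Real T) (hS : c.Real S) :
    c.Real (T ∘ S) := by
  obtain ⟨n, hn, hnt, hna⟩ := hT
  obtain ⟨m, hm, hmt, hma⟩ := hS
  exact ⟨n * m, hn.mul c hm, hnt.mul_left hmt, fun α => by rw [c.act_mul hnt, hma, hna]; rfl⟩

theorem tt_comm_pm (σ : Equiv.Perm Pt) (h : ∀ x, σ (-x) = -σ x) : Commute (pm σ : Vg F) tt := by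
  rw [Commute, SemiconjBy, tt, ← map_mul, ← map_mul]
  congr 1
  exact Equiv.ext fun x => h x

theorem tt_good : c.Good (tt : Vg F) := by
  have h : ldet (-1, 0, 0, -1) ≠ 0 := by decide
  have e : (Equiv.neg Pt) = aff (-1, 0, 0, -1) (0, 0) h := Equiv.ext fun x => (by decide : ∀ x : Pt, -x = lap (-1, 0, 0, -1) x + (0, 0)) x
  rw [tt, e]
  exact c.aff_good _ _ _

theorem real_aff (l : L4) (h : ldet l ≠ 0) (σ : Equiv.Perm (Fin 4))
    (hσ : ∀ j, lap l (P j) = P (σ j) ∨ lap l (P j) = -P (σ j)) :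
    c.Real (fun α i => α (σ.symm i) : (Fin 4 → F) → Fin 4 → F) := by
  have h0 : ∀ x, lap l (-x) = -lap l x := fun x => by ext <;> simp [lap] <;> ring
  refine ⟨pm (aff l (0, 0) h), c.aff_good _ _ _, c.tt_comm_pm _ fun x => by
    show lap l (-x) + (0, 0) = -(lap l x + (0, 0))
    simp [h0, Prod.mk_zero_zero], fun α => funext fun i => ?_⟩
  set j := σ.symm i with hj
  have hi : i = σ j := by simp [hj]
  have hinv : ∀ y, (pm (aff l (0, 0) h) (emb α) : Pt → F) (lap l y) = emb α y := fun y => by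
    show emb α (lap (linv l) (lap l y - (0, 0))) = _
    rw [show lap l y - ((0, 0) : Pt) = lap l y from sub_zero _, (linv_lap l h y).1]
  rw [act_apply, dn_apply, hi]
  rcases hσ j with e | e
  · rw [← e, ← h0, hinv, hinv, emb_P, emb_neg, add_zero]
    simp
  · rw [show P (σ j) = lap l (-P j) by rw [h0, e, neg_neg], ← h0, neg_neg, hinv, hinv, emb_P, emb_neg,
      zero_add]
    simp

theorem real_id : c.Real (fun α => α : (Fin 4 → F) → Fin 4 → F) :=
  ⟨1, c.good_one, Commute.one_left _, fun α => dn_emb α⟩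

theorem real_perm (σ : Equiv.Perm (Fin 4)) :
    c.Real (fun α i => α (σ.symm i) : (Fin 4 → F) → Fin 4 → F) := by
  have hm : σ ∈ Submonoid.closure (Set.range fun i : Fin 3 => Equiv.swap i.castSucc i.succ) := by
    rw [Equiv.Perm.mclosure_swap_castSucc_succ]; trivial
  induction hm using Submonoid.closure_induction with
  | mem x hx =>
    obtain ⟨i, rfl⟩ := hx
    fin_cases i
    · exact c.real_aff (0, 1, 1, 0) (by decide) _ (by decide)
    · exact c.real_aff (2, 1, 0, 1) (by decide) _ (by decide)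
    · exact c.real_aff (1, 0, 0, 2) (by decide) _ (by decide)
  | one => exact c.real_id
  | mul x y _ _ hx hy => exact hx.comp c hy

theorem real_diag (e : Fin 4 → ZMod 3) :
    c.Real (fun α j => c.χ (e j) * α j : (Fin 4 → F) → Fin 4 → F) := by
  obtain ⟨q, hq⟩ : ∃ q, ∀ j, quad q (P j) = e j := by
    revert e
    decide +kernel
  have hev : ∀ x, quad q (-x) = quad q x := fun x => by simp [quad]
  refine ⟨c.dg (quad q), c.quad_good q, LinearEquiv.ext fun u => funext fun x => ?_,
    fun α => funext fun j => ?_⟩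
  · show c.dg (quad q) (tt u) x = tt (c.dg (quad q) u) x
    simp [dg_apply, tt_apply, hev]
  · rw [act_apply, dn_apply, dg_apply, dg_apply, emb_P, emb_neg, mul_zero, add_zero, hq]

/-- The Fourier map on the values at the pairs. -/
def fh (α : Fin 4 → F) : Fin 4 → F :=
  ![α 0, α 1 + α 2 + α 3, α 1 + c.ω * α 2 + c.ω ^ 2 * α 3, α 1 + c.ω ^ 2 * α 2 + c.ω * α 3]

theorem hh_comm : Commute c.hh tt :=
  LinearEquiv.ext fun u => funext fun x => by
    show c.hh (tt u) x = tt (c.hh u) x
    simp only [hh_apply, tt_apply]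
    refine Fintype.sum_equiv (Equiv.neg _) _ _ fun z => ?_
    simp [neg_mul_neg]

theorem real_fh : c.Real c.fh := by
  refine ⟨c.hh, c.hh_good, c.hh_comm, fun α => funext fun i => ?_⟩
  rw [act_apply, dn_apply, hh_apply, hh_apply, sum_z3, sum_z3]
  simp only [emb, LinearMap.coe_mk, AddHom.coe_mk, Fin.sum_univ_four]
  fin_cases i <;> simp +decide [P, fh, c.χ_one, c.χ_two, show (-1 : ZMod 3) = 2 from rfl] <;>
    first
      | ring1
      | linear_combination α 0 * c.root - α 0 * c.two
      | linear_combination α 0 * c.root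

end C2

end Cfsg.Agent.Heis75
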