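import Cfsg.Agent.Lib.Heis75SU2Core
import Cfsg.Agent.Lib.Heis75Coord9
import Cfsg.Agent.S0779
import Cfsg.Agent.S0780

/-!
The normaliser of a group of symplectic type of order `3^5` is maximal in the special unitary group of
dimension nine over the field of four elements.
-/

set_option autoImplicit false
set_option linter.unusedSectionVars false
set_option linter.unusedSimpArgs false
set_option linter.unusedVariables false

namespace Cfsg.Agent.Heis75

open Matrix
open scoped MatrixGroups

variable {F : Type*} [Field F]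

theorem exists_c2 [Fintype F] (hF : Fintype.card F = 4) : Nonempty (C2 F) := by
  classical
  have : Fact (Nat.Prime 3) := ⟨Nat.prime_three⟩
  have : Fact (Nat.Prime 2) := ⟨Nat.prime_two⟩
  have : CharP F 2 := charP_of_card_eq_prime_pow (f := 2) (by rw [hF]; rfl)
  have h2 : (2 : F) = 0 := by exact_mod_cast CharP.cast_eq_zero F 2
  obtain ⟨u, hu⟩ := exists_prime_orderOf_dvd_card (G := Fˣ) 3 (by
    rw [Fintype.card_units, hF])
  have h3 : (u : F) ^ 3 = 1 := by rw [← Units.val_pow_eq_pow_val, ← hu, pow_orderOf_eq_one, Units.val_one]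
  have h1 : (u : F) ≠ 1 := fun e => by
    rw [Units.val_eq_one.1 e, orderOf_one] at hu
    omega
  have hr : (u : F) * u + u + 1 = 0 := by
    refine (mul_eq_zero.1 (show ((u : F) - 1) * ((u : F) * u + u + 1) = 0 from ?_)).resolve_left (sub_ne_zero.2 h1)
    linear_combination h3
  refine ⟨⟨(u : F), hr, h2, fun x => ?_⟩⟩
  have hS : ({0, 1, (u : F), (u : F) + 1} : Finset F) = Finset.univ := by
    refine Finset.eq_univ_of_card _ ?_
    rw [hF, Finset.card_insert_of_notMem, Finset.card_insert_of_notMem, Finset.card_insert_of_notMem,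
      Finset.card_singleton]
    · simp
    · simp only [Finset.mem_insert, Finset.mem_singleton, not_or]
      exact ⟨Ne.symm h1, fun e => u.ne_zero (by linear_combination -e)⟩
    · simp only [Finset.mem_insert, Finset.mem_singleton, not_or]
      exact ⟨zero_ne_one, Ne.symm u.ne_zero, fun e => h1 (by linear_combination -e - h2)⟩
  simpa [← hS] using Finset.mem_univ x

/-- Transport of an invertible matrix through coordinates. -/
noncomputable def phi (L : (Pt → F) ≃ₗ[F] (Fin 9 → F)) : GL (Fin 9) F ≃* Vg F :=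
  (Matrix.GeneralLinearGroup.toLin.trans (LinearMap.GeneralLinearGroup.congrLinearEquiv L.symm)).trans
    (LinearMap.GeneralLinearGroup.generalLinearEquiv F (Pt → F))

theorem phi_apply (L : (Pt → F) ≃ₗ[F] (Fin 9 → F)) (g : GL (Fin 9) F) (u : Pt → F) :
    phi L g u = L.symm ((g : Matrix (Fin 9) (Fin 9) F) *ᵥ L u) := rfl

theorem phi_det (L : (Pt → F) ≃ₗ[F] (Fin 9 → F)) (g : GL (Fin 9) F) :
    ((LinearEquiv.det (phi L g) : Fˣ) : F) = (g : Matrix (Fin 9) (Fin 9) F).det := by
  rw [LinearEquiv.coe_det]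
  have : ((phi L g : Vg F) : (Pt → F) →ₗ[F] (Pt → F)) =
      (L.symm : (Fin 9 → F) →ₗ[F] (Pt → F)) ∘ₗ (Matrix.toLin' (g : Matrix (Fin 9) (Fin 9) F)) ∘ₗ
        (L.symm.symm : (Pt → F) →ₗ[F] (Fin 9 → F)) :=
    LinearMap.ext fun u => phi_apply L g u
  rw [this, LinearMap.det_conj, LinearMap.det_toLin']

/-- The clause for the field of four elements. -/
theorem maximal_two [Fintype F] (hF : Fintype.card F = 2 ^ 2) (R : Subgroup (GL (Fin 9) F))
    (hR : Cfsg.Geo.IsSymplecticTypeGroup 3 R)
    (hirr : Cfsg.Geo.ActsAbsolutelyIrreducibly (Cfsg.Geo.matrixSet R))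
    (hsim : R ≤ Cfsg.Geo.similarityGroup (Cfsg.hermForm 9 F 2))
    (hZ : Nat.card (Subgroup.center R) = 3) :
    Cfsg.Geo.IsMaximalIn (Cfsg.GU 9 F 2 ⊓ Cfsg.Geo.specialLinear (Fin 9) F)
      (Cfsg.Geo.subgroupNormalizer R ⊓ (Cfsg.GU 9 F 2 ⊓ Cfsg.Geo.specialLinear (Fin 9) F)) := by
  classical
  obtain ⟨c⟩ := exists_c2 (F := F) (by rw [hF]; rfl)
  let r : Root F := ⟨c.ω, c.cube, c.ne_one, fun h => one_ne_zero (α := F) (by linear_combination h - c.two)⟩
  obtain ⟨L, η, hη, hηq, hform, hmem⟩ := exists_frame (q := 2) rfl hF hR hirr hZ hsim r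
  have hη1 : η = 1 := mul_left_cancel₀ hη (by rw [mul_one, ← pow_two]; exact hηq)
  have hf : ∀ u w, Cfsg.hermForm 9 F 2 (L u) (L w) = f u w := fun u w => by rw [hform, hη1, one_mul]; rfl
  have hW : ∀ a b u, r.wop a b u = c.W a b u := fun a b u => by
    funext x
    rw [C2.W_apply]
    rfl
  set G := Cfsg.GU 9 F 2 ⊓ Cfsg.Geo.specialLinear (Fin 9) F
  have hG : ∀ g, g ∈ G ↔ phi L g ∈ G2 := fun g => by
    rw [Subgroup.mem_inf, mem_G2]
    refine and_congr ?_ ?_
    · constructor
      · intro h u w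
        rw [← hf, ← hf, phi_apply, phi_apply, L.apply_symm_apply, L.apply_symm_apply]
        exact h (L u) (L w)
      · intro h u w
        obtain ⟨u, rfl⟩ := L.surjective u
        obtain ⟨w, rfl⟩ := L.surjective w
        have := h u w
        rw [← hf, ← hf, phi_apply, phi_apply, L.apply_symm_apply, L.apply_symm_apply] at this
        exact this
    · rw [Heis12.mem_sl_iff, Units.ext_iff, phi_det, Units.val_one]
  have hRmem : ∀ g, g ∈ R ↔ ∃ (k : ZMod 3) (a b : Pt), ∀ u, phi L g u = c.χ k • c.W a b u := fun g => by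
    rw [hmem]
    refine exists_congr fun k => exists_congr fun a => exists_congr fun b => forall_congr' fun u => ?_
    rw [phi_apply, ← hW, LinearEquiv.symm_apply_eq, map_smul]
    rfl
  have hN : ∀ g, g ∈ Cfsg.Geo.subgroupNormalizer R ↔ c.Nr (phi L g) := by
    intro g
    constructor
    · intro h a b
      have h1 : (phi L).symm (c.W a b) ∈ R := (hRmem _).2 ⟨0, a, b, fun u => by
        rw [MulEquiv.apply_symm_apply, c.χ_zero, one_smul]⟩
      obtain ⟨k, a', b', e⟩ := (hRmem _).1 ((Subgroup.mem_normalizer_iff.1 h _).1 h1)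
      refine ⟨c.χ k, a', b', fun u => ?_⟩
      have := e (phi L g u)
      rw [map_mul, map_mul, map_inv, MulEquiv.apply_symm_apply] at this
      change phi L g (c.W a b ((phi L g).symm (phi L g u))) = _ at this
      rwa [LinearEquiv.symm_apply_apply] at this
    · intro h
      have : Finite (GL (Fin 9) F) := inferInstance
      refine Subgroup.mem_normalizer_fintype fun x hx => ?_
      obtain ⟨k, a, b, e⟩ := (hRmem x).1 hx
      obtain ⟨l, a', b', e'⟩ := h a b
      have hl : l ≠ 0 := fun h0 => by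
        have h1 := e' (Pi.single 0 1)
        rw [h0, zero_smul, C2.W_single] at h1
        have h2 := (phi L g).map_eq_zero_iff.1 h1
        rw [Pi.single_eq_zero_iff, mul_one] at h2
        exact c.χ_ne _ h2
      obtain ⟨m, hm⟩ := c.exists_χ hl
      refine (hRmem _).2 ⟨k + m, a', b', fun u => ?_⟩
      rw [map_mul, map_mul, map_inv]
      show phi L g (phi L x ((phi L g).symm u)) = _
      rw [e, map_smul, e', LinearEquiv.apply_symm_apply, smul_smul, hm, c.χ_add]
  refine ⟨lt_of_le_of_ne inf_le_right fun h => ?_, fun M hHM hMG => ?_⟩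
  · let g := (phi L).symm (pm (Equiv.swap ((0, 0) : Pt) (1, 0)))
    have hg : g ∈ G := (hG g).2 (by rw [MulEquiv.apply_symm_apply]; exact pm_mem c _)
    rw [← h, Subgroup.mem_inf, hN, MulEquiv.apply_symm_apply] at hg
    obtain ⟨k, a', b', e⟩ := hg.1 (0, 1) (0, 0)
    have key : ∀ x : Pt, Equiv.swap ((0, 0) : Pt) (1, 0) (x + (0, 1)) = Equiv.swap ((0, 0) : Pt) (1, 0) x + a' :=
      fun x => by
        have h1 := e (Pi.single x 1)
        rw [C2.W_single, pm_single, pm_single, C2.W_single, ← Pi.single_smul] at h1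
        have h2 := congrFun h1 (Equiv.swap ((0, 0) : Pt) (1, 0) (x + (0, 1)))
        rw [Pi.single_eq_same] at h2
        by_contra hne
        rw [Pi.single_eq_of_ne hne] at h2
        exact mul_ne_zero (c.χ_ne _) one_ne_zero h2
    have : ¬ ∀ x : Pt, Equiv.swap ((0, 0) : Pt) (1, 0) (x + (0, 1)) = Equiv.swap ((0, 0) : Pt) (1, 0) x + a' := by
      clear * -
      revert a'
      decide +kernel
    exact this key
  · let M' : Subgroup (Vg F) := M.map (phi L).toMonoidHom
    have hO : c.Over M' := by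
      refine ⟨?_, fun g hg => ⟨(phi L).symm g, hHM ?_, MulEquiv.apply_symm_apply _ _⟩⟩
      · rintro _ ⟨g, hg, rfl⟩
        exact (hG g).1 (hMG hg)
      · rw [Subgroup.mem_inf, hN, hG, MulEquiv.apply_symm_apply]
        exact ⟨hg.2, hg.1⟩
    rcases c.core hO with h | h
    · exact Or.inl (le_antisymm (fun g hg => Subgroup.mem_inf.2
        ⟨(hN g).2 (h _ ⟨g, hg, rfl⟩), hMG hg⟩) hHM)
    · refine Or.inr (le_antisymm hMG fun g hg => ?_)
      let i : Cfsg.SU 9 F 2 →* GL (Fin 9) F := Matrix.SpecialLinearGroup.toGL.comp (Cfsg.SU 9 F 2).subtype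
      have htop : M.comap i = ⊤ := by
        rw [eq_top_iff, ← S0780.result hF 9 (by norm_num) (by norm_num), Subgroup.closure_le]
        rintro A ⟨v, d, hv, hA⟩
        show i A ∈ M
        have hiA : ((i A : GL (Fin 9) F) : Matrix (Fin 9) (Fin 9) F) = Cfsg.unitaryTransvection 9 2 v d := hA
        have hone : Cfsg.unitaryTransvection 9 2 v d = 1 → i A ∈ M := fun e => by
          rw [show i A = 1 from Units.ext (by rw [hiA, e, Units.val_one])]
          exact one_mem _
        by_cases hv0 : v = 0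
        · exact hone (by subst hv0; ext i j; simp [Cfsg.unitaryTransvection, Matrix.vecMulVec_apply])
        rcases (S0779.result hF 9 v hv0 hv d).1 (fun x y => by rw [← hA]; exact A.2 x y) with hd | hd
        · exact hone (by simp [Cfsg.unitaryTransvection, hd])
        have hd1 : d = 1 := by
          rw [show (2 : ℕ) - 1 = 1 from rfl, pow_one, c.neg_eq] at hd
          exact hd
        set u := L.symm v with hu
        have hLu : L u = v := L.apply_symm_apply v
        obtain ⟨-, t, ⟨g', hg', hgt⟩, htv⟩ := h u (by rw [← hf, hLu, hv]) (fun e => hv0 (by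
          rw [← hLu, e, map_zero]))
        suffices i A = g' from this ▸ hg'
        refine (phi L).injective (LinearEquiv.ext fun x => ?_)
        rw [show phi L g' = t from hgt, htv, phi_apply, hiA, LinearEquiv.symm_apply_eq, tvFun, map_add, map_smul,
          hLu, ← hf, hLu, hd1, Cfsg.unitaryTransvection, one_smul, Matrix.add_mulVec, Matrix.one_mulVec,
          Matrix.vecMulVec_mulVec]
        congr 1
        funext j
        simp [Cfsg.hermForm, dotProduct, mul_comm]
      have hgd : (g : Matrix (Fin 9) (Fin 9) F).det = 1 := (Heis12.mem_sl_iff g).1 hg.2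
      have := (SetLike.ext_iff.1 htop ⟨⟨(g : Matrix (Fin 9) (Fin 9) F), hgd⟩, hg.1⟩).2 trivial
      change i ⟨⟨(g : Matrix (Fin 9) (Fin 9) F), hgd⟩, hg.1⟩ ∈ M at this
      rwa [show i ⟨⟨(g : Matrix (Fin 9) (Fin 9) F), hgd⟩, hg.1⟩ = g from Units.ext rfl] at this

end Cfsg.Agent.Heis75
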