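import Cfsg.Agent.Lib.Heis75SU2Herm

/-!
An involution of an overgroup that commutes with the parity and is conjugate to it is the parity, when it
normalises the Weyl operators.
-/

set_option autoImplicit false
set_option linter.unusedSectionVars false
set_option linter.unusedSimpArgs false
set_option linter.unusedVariables false

namespace Cfsg.Agent.Heis75

open Module

variable {F : Type*} [Field F]

theorem exists_pairing : ∀ a b : Pt, ¬(a = 0 ∧ b = 0) → ∃ a' b' : Pt, dot b a' - dot b' a ≠ 0 := by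
  decide +kernel

theorem neg_fix : ∀ x : Pt, -x = x → x = 0 := by decide

namespace C2

variable (c : C2 F)
include c

theorem W_single (a b x : Pt) (r : F) : c.W a b (Pi.single x r) = Pi.single (x + a) (c.χ (dot b x) * r) := by
  funext z
  rw [W_apply]
  rcases eq_or_ne z (x + a) with rfl | h
  · simp
  · have : z - a ≠ x := fun e => h (by rw [← e, sub_add_cancel])
    simp [h, this]

theorem W_inj {a b a' b' : Pt} {k : F} (h : ∀ u, c.W a b u = k • c.W a' b' u) : a = a' ∧ b = b' := by
  have hx := fun x => h (Pi.single x 1)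
  simp only [c.W_single, mul_one, ← Pi.single_smul, smul_eq_mul] at hx
  have ha : a = a' := by
    by_contra hne
    have := congrFun (hx 0) (0 + a)
    rw [Pi.single_eq_same, Pi.single_eq_of_ne (fun e => hne (add_left_cancel e))] at this
    exact c.χ_ne _ this
  subst ha
  have hv : ∀ x, c.χ (dot b x) = k * c.χ (dot b' x) := fun x => by
    have := congrFun (hx x) (x + a)
    simpa using this
  have hk : k = 1 := by
    have := hv 0
    simpa [dot] using this.symm
  refine ⟨rfl, Prod.ext ?_ ?_⟩
  · have := c.χ_inj ((hv (1, 0)).trans (by rw [hk, one_mul]))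
    simpa [dot] using this
  · have := c.χ_inj ((hv (0, 1)).trans (by rw [hk, one_mul]))
    simpa [dot] using this

theorem W_W (a b a' b' : Pt) (u : Pt → F) :
    c.W a b (c.W a' b' u) = c.χ (dot b a') • c.W (a + a') (b + b') u := by
  funext x
  simp only [Pi.smul_apply, smul_eq_mul, W_apply, ← mul_assoc, ← c.χ_add, sub_sub]
  congr 2
  simp only [dot, Prod.fst_sub, Prod.snd_sub, Prod.fst_add, Prod.snd_add]
  ring

theorem W_zero (u : Pt → F) : c.W 0 0 u = u := by
  funext x
  simp [W_apply, dot]

theorem W_cube (a b : Pt) (u : Pt → F) : c.W a b (c.W a b (c.W a b u)) = u := by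
  rw [c.W_W, c.W_W, smul_smul, ← c.χ_add,
    show a + a + a = 0 from (by decide : ∀ a : Pt, a + a + a = 0) a,
    show b + b + b = 0 from (by decide : ∀ b : Pt, b + b + b = 0) b,
    show dot b a + dot (b + b) a = 0 from (by decide : ∀ a b : Pt, dot b a + dot (b + b) a = 0) a b,
    c.χ_zero, one_smul, c.W_zero]

theorem tt_W (a b : Pt) (u : Pt → F) : tt (c.W a b u) = c.W (-a) (-b) (tt u) := by
  funext x
  simp only [tt_apply, W_apply]
  rw [show -(x - -a) = -x - a by abel]
  congr 2
  simp only [dot, Prod.fst_sub, Prod.snd_sub, Prod.fst_neg, Prod.snd_neg]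
  ring

/-- An operator commuting with all Weyl operators up to scalars is a multiple of one of them. -/
theorem eq_smul_W {x : Vg F} (h : ∀ a b, ∃ k : F, ∀ u, x (c.W a b u) = k • c.W a b (x u)) :
    ∃ (μ : F) (qa qb : Pt), ∀ u, x u = μ • c.W qa qb u := by
  classical
  choose k hk using h
  have hk0 : ∀ a b, k a b ≠ 0 := fun a b h0 => by
    have h1 := hk a b (Pi.single 0 1)
    rw [h0, zero_smul, c.W_single] at h1
    have h2 := x.map_eq_zero_iff.1 h1
    rw [Pi.single_eq_zero_iff, mul_one] at h2
    exact c.χ_ne _ h2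
  choose e he using fun a b => c.exists_χ (hk0 a b)
  have hW : ∀ a b {k l : F} (v : Pt → F), v ≠ 0 → k • c.W a b v = l • c.W a b v → k = l := fun a b k l v hv h => by
    by_contra hne
    rw [← sub_eq_zero, ← sub_smul, smul_eq_zero] at h
    exact hv ((c.W a b).map_eq_zero_iff.1 (h.resolve_left (sub_ne_zero.2 hne)))
  have hadd : ∀ a b a' b', e (a + a') (b + b') = e a b + e a' b' := fun a b a' b' => by
    refine c.χ_inj ?_
    rw [c.χ_add, ← he, ← he, ← he]
    have hx0 : x (Pi.single 0 1) ≠ 0 := fun h0 => one_ne_zero (α := F) (by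
      simpa using x.map_eq_zero_iff.1 h0)
    have h1 := hk a b (c.W a' b' (Pi.single 0 1))
    rw [hk a' b', map_smul, c.W_W, c.W_W, map_smul, hk (a + a') (b + b'), smul_smul, smul_smul,
      smul_smul] at h1
    have := hW _ _ _ hx0 h1
    exact mul_left_cancel₀ (c.χ_ne (dot b a')) (this.trans (by ring))
  let E : Pt × Pt →+ ZMod 3 := AddMonoidHom.mk' (fun p => e p.1 p.2) fun p q => hadd _ _ _ _
  let qa : Pt := (-e 0 (1, 0), -e 0 (0, 1))
  let qb : Pt := (e (1, 0) 0, e (0, 1) 0)
  have hq : ∀ a b : Pt, e a b = dot qb a - dot b qa := fun a b => by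
    have hdec : ((a, b) : Pt × Pt) = a.1.val • (((1, 0), 0) : Pt × Pt) + a.2.val • (((0, 1), 0) : Pt × Pt) +
        b.1.val • ((0, (1, 0)) : Pt × Pt) + b.2.val • ((0, (0, 1)) : Pt × Pt) := by
      simp [Prod.smul_mk, Prod.mk_add_mk]
    show E (a, b) = _
    rw [hdec, map_add, map_add, map_add, map_nsmul, map_nsmul, map_nsmul, map_nsmul]
    simp only [E, AddMonoidHom.mk'_apply, nsmul_eq_mul, ZMod.natCast_zmod_val, qa, qb, dot]
    ring
  let q := c.W qa qb
  have hcom : ∀ a b u, q.symm (x (c.W a b u)) = c.W a b (q.symm (x u)) := fun a b u => by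
    rw [hk, map_smul]
    apply q.injective
    rw [map_smul, q.apply_symm_apply, c.W_W_comm qa qb a b, q.apply_symm_apply, he, hq]
  set y : (Pt → F) →ₗ[F] (Pt → F) := (q.symm : (Pt → F) →ₗ[F] (Pt → F)) ∘ₗ (x : (Pt → F) →ₗ[F] (Pt → F))
  have hy : ∀ a b u, y (c.W a b u) = c.W a b (y u) := hcom
  let μ := y (Pi.single 0 1) 0
  have hsupp : y (Pi.single 0 1) = Pi.single 0 μ := by
    funext z
    rcases eq_or_ne z 0 with rfl | hz
    · simp [μ]
    · obtain ⟨b, hb⟩ : ∃ b, dot b z ≠ 0 := by
        revert hz; revert z; decide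
      have h1 := congrFun (hy 0 b (Pi.single 0 1)) z
      rw [c.W_single, W_apply, add_zero, sub_zero, show dot b (0 : Pt) = 0 by simp [dot], c.χ_zero,
        one_mul] at h1
      rw [Pi.single_eq_of_ne hz]
      by_contra hne
      exact hb (c.χ_eq_one ((mul_eq_right₀ hne).1 h1.symm))
  refine ⟨μ, qa, qb, fun u => ?_⟩
  have hall : y = μ • LinearMap.id := LinearMap.pi_ext fun z r => by
    have h1 := hy z 0 (Pi.single 0 1)
    rw [hsupp, c.W_single, c.W_single, zero_add, show dot (0 : Pt) 0 = 0 by simp [dot], c.χ_zero, one_mul,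
      one_mul] at h1
    rw [show (Pi.single z r : Pt → F) = r • Pi.single z 1 by rw [← Pi.single_smul, smul_eq_mul, mul_one],
      map_smul, h1]
    funext w
    simp [Pi.single_apply, mul_comm]
  have h2 : q.symm (x u) = μ • u := LinearMap.congr_fun hall u
  rw [← q.apply_symm_apply (x u), h2, map_smul]

/-- A unipotent involution commuting with a non-trivial Weyl operator has fixed space of dimension at least six. -/
theorem rank_le {s : Vg F} (hs : s * s = 1) {a b : Pt} (hne : ¬(a = 0 ∧ b = 0))
    (hc : ∀ u, s (c.W a b u) = c.W a b (s u)) :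
    finrank F (LinearMap.range ((s : (Pt → F) →ₗ[F] (Pt → F)) + LinearMap.id)) ≤ 3 := by
  classical
  obtain ⟨a', b', hm⟩ := exists_pairing a b hne
  set w := c.W a b
  set m := dot b a' - dot b' a with hmdef
  set N : (Pt → F) →ₗ[F] (Pt → F) := (s : (Pt → F) →ₗ[F] (Pt → F)) + LinearMap.id with hN
  let V : ZMod 3 → Submodule F (Pt → F) := fun k =>
    LinearMap.ker ((w : (Pt → F) →ₗ[F] (Pt → F)) - c.χ k • LinearMap.id)
  have hV : ∀ k u, u ∈ V k ↔ w u = c.χ k • u := fun k u => by
    simp [V, sub_eq_zero]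
  let p : ZMod 3 → (Pt → F) →ₗ[F] (Pt → F) := fun k =>
    LinearMap.id + c.χ (-k) • (w : (Pt → F) →ₗ[F] (Pt → F)) +
      c.χ (-(k + k)) • ((w : (Pt → F) →ₗ[F] (Pt → F)) ∘ₗ (w : (Pt → F) →ₗ[F] (Pt → F)))
  have hp : ∀ k u, p k u = u + c.χ (-k) • w u + c.χ (-(k + k)) • w (w u) := fun k u => rfl
  have hpV : ∀ k u, p k u ∈ V k := fun k u => by
    rw [hV, hp, map_add, map_add, map_smul, map_smul, c.W_cube a b, smul_add, smul_add, smul_smul,
      smul_smul, ← c.χ_add, ← c.χ_add, add_neg_cancel, c.χ_zero, one_smul,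
      show k + -(k + k) = -k by ring, show -(k + k) = k from (by decide : ∀ k : ZMod 3, -(k + k) = k) k]
    abel
  have hpk : ∀ k l u, u ∈ V l → p k u = (if k = l then (1 : F) else 0) • u := fun k l u hu => by
    rw [hV] at hu
    rw [hp, hu, map_smul, hu, smul_smul, smul_smul, smul_smul, ← c.χ_add, ← c.χ_add, ← c.χ_add,
      show -(k + k) + l + l = (-k + l) * 2 by ring, add_smul_one]
    have := c.χ_sum (-k + l)
    rw [sum_z3, zero_mul, one_mul, c.χ_zero, mul_comm (2 : ZMod 3)] at this
    rw [show (1 : F) + c.χ (-k + l) + c.χ ((-k + l) * 2) = if -k + l = 0 then 1 else 0 from this]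
    by_cases hkl : k = l
    · simp [hkl]
    · rw [if_neg hkl, if_neg fun e => hkl (by linear_combination -e)]
  have hsum : ∀ u, p 0 u + p 1 u + p 2 u = u := fun u => by
    funext z
    simp only [hp, Pi.add_apply, Pi.smul_apply, smul_eq_mul, neg_zero, add_zero, c.χ_zero, one_mul,
      show (-1 : ZMod 3) = 2 from rfl, show (-(1 + 1) : ZMod 3) = 1 from rfl,
      show (-2 : ZMod 3) = 1 from rfl, show (-(2 + 2) : ZMod 3) = 2 from rfl, c.χ_one, c.χ_two]
    linear_combination u z * c.two + (w u z + w (w u) z) * c.root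
  have hstep : ∀ k, finrank F (V k) ≤ finrank F (V (k + m)) := fun k => by
    refine LinearMap.finrank_le_finrank_of_injective
      (f := ((c.W a' b' : (Pt → F) →ₗ[F] (Pt → F))).restrict (p := V k) (q := V (k + m)) ?_) ?_
    · intro u hu
      rw [hV] at hu ⊢
      show w (c.W a' b' u) = _
      rw [c.W_W_comm a b a' b', hu, map_smul, smul_smul, ← c.χ_add, add_comm]
      rfl
    · exact fun u v h => Subtype.ext ((c.W a' b').injective (congrArg Subtype.val h))
  have heq : ∀ k, finrank F (V k) = finrank F (V 0) := fun k => by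
    have h1 := hstep 0
    have h2 := hstep (0 + m)
    have h3 := hstep (0 + m + m)
    rw [show 0 + m + m + m = 0 from (by decide : ∀ m : ZMod 3, 0 + m + m + m = 0) m] at h3
    rcases (by decide : ∀ m k : ZMod 3, m ≠ 0 → k = 0 ∨ k = 0 + m ∨ k = 0 + m + m) m k hm with rfl | rfl | rfl
    · rfl
    · omega
    · omega
  have hn : finrank F (V 0) ≤ 3 := by
    let Φ : (V 0 × V 1 × V 2) →ₗ[F] (Pt → F) :=
      (V 0).subtype.coprod ((V 1).subtype.coprod (V 2).subtype)
    have hΦ : Function.Injective Φ := by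
      rw [← LinearMap.ker_eq_bot, LinearMap.ker_eq_bot']
      rintro ⟨⟨x, hx⟩, ⟨y, hy⟩, ⟨z, hz⟩⟩ h
      have h' : x + (y + z) = 0 := h
      have e : ∀ k, p k x + (p k y + p k z) = 0 := fun k => by rw [← map_add, ← map_add, h', map_zero]
      have e0 := e 0
      have e1 := e 1
      have e2 := e 2
      rw [hpk _ _ _ hx, hpk _ _ _ hy, hpk _ _ _ hz] at e0 e1 e2
      simp +decide at e0 e1 e2
      simp [e0, e1, e2]
    have h9 := LinearMap.finrank_le_finrank_of_injective hΦ
    rw [finrank_prod, finrank_prod, heq 1, heq 2, finrank_fintype_fun_eq_card] at h9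
    simp [ZMod.card] at h9
    omega
  have hNN : ∀ u, N (N u) = 0 := fun u => by
    have e : s (s u) = u := LinearEquiv.congr_fun hs u
    show s (s u + u) + (s u + u) = 0
    rw [map_add, e]
    funext z
    simp only [Pi.add_apply, Pi.zero_apply]
    linear_combination (u z + s u z) * c.two
  have hNV : ∀ k, ∀ u ∈ V k, N u ∈ V k := fun k u hu => by
    rw [hV] at hu ⊢
    show w (s u + u) = c.χ k • (s u + u)
    rw [map_add, hu, ← hc, hu, map_smul, smul_add]
  have hmap : ∀ k, finrank F ((V k).map N) ≤ 1 := fun k => by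
    let N' := N.restrict (hNV k)
    have h1 : LinearMap.range N' ≤ LinearMap.ker N' := by
      rintro _ ⟨u, rfl⟩
      exact Subtype.ext (hNN u)
    have h2 := LinearMap.finrank_range_add_finrank_ker N'
    have h3 := Submodule.finrank_mono h1
    have h4 : (V k).map N = (LinearMap.range N').map (V k).subtype := by
      ext z
      constructor
      · rintro ⟨u, hu, rfl⟩
        exact ⟨N' ⟨u, hu⟩, LinearMap.mem_range_self _ _, rfl⟩
      · rintro ⟨_, ⟨u, rfl⟩, rfl⟩
        exact ⟨u, u.2, rfl⟩
    rw [h4, Submodule.finrank_map_subtype_eq]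
    have := heq k
    omega
  have hr : LinearMap.range N ≤ (V 0).map N ⊔ (V 1).map N ⊔ (V 2).map N := by
    rintro _ ⟨u, rfl⟩
    rw [show N u = N (p 0 u) + N (p 1 u) + N (p 2 u) by rw [← map_add, ← map_add, hsum]]
    exact Submodule.add_mem_sup (Submodule.add_mem_sup ⟨_, hpV 0 u, rfl⟩ ⟨_, hpV 1 u, rfl⟩) ⟨_, hpV 2 u, rfl⟩
  refine (Submodule.finrank_mono hr).trans ((Submodule.finrank_add_le_finrank_add_finrank _ _).trans ?_)
  have := Submodule.finrank_add_le_finrank_add_finrank ((V 0).map N) ((V 1).map N)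
  have := hmap 0
  have := hmap 1
  have := hmap 2
  omega
where
  add_smul_one {u : Pt → F} {r t : F} : u + r • u + t • u = (1 + r + t) • u := by
    rw [add_smul, add_smul, one_smul]

/-- An involution normalising the Weyl operators, commuting with the parity and conjugate to it, is the parity. -/
theorem eq_tt {s : Vg F} (hs : c.Good s) (hst : Commute s tt) (g : Vg F) (hg : s = g * tt * g⁻¹) : s = tt := by
  classical
  have hs2 : s * s = 1 := by
    rw [hg, show g * tt * g⁻¹ * (g * tt * g⁻¹) = g * (tt * tt) * g⁻¹ by group, tt_tt, mul_one, mul_inv_cancel]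
  have hss : ∀ u, s (s u) = u := fun u => LinearEquiv.congr_fun hs2 u
  choose k A B hk using hs.2
  have hk0 : ∀ a b, k a b ≠ 0 := fun a b h0 => by
    have h1 := hk a b (Pi.single 0 1)
    rw [h0, zero_smul, c.W_single] at h1
    have h2 := s.map_eq_zero_iff.1 h1
    rw [Pi.single_eq_zero_iff, mul_one] at h2
    exact c.χ_ne _ h2
  have hinv : ∀ a b, A (A a b) (B a b) = a ∧ B (A a b) (B a b) = b := fun a b => by
    obtain ⟨e1, e2⟩ := c.W_inj (a := a) (b := b) (a' := A (A a b) (B a b)) (b' := B (A a b) (B a b))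
      (k := k a b * k (A a b) (B a b)) fun u => by
        have := congrArg s (hk a b u)
        rwa [hss, map_smul, hk, smul_smul, hss] at this
    exact ⟨e1.symm, e2.symm⟩
  have hadd : ∀ a b a' b', A (a + a') (b + b') = A a b + A a' b' ∧ B (a + a') (b + b') = B a b + B a' b' :=
    fun a b a' b' => by
    refine c.W_inj (k := (c.χ (dot b a') * k (a + a') (b + b'))⁻¹ *
      (k a b * k a' b' * c.χ (dot (B a b) (A a' b')))) fun u => ?_
    obtain ⟨u, rfl⟩ : ∃ v, s v = u := ⟨s u, hss u⟩
    have h1 := hk a b (c.W a' b' u)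
    rw [hk a' b', map_smul, c.W_W, c.W_W, map_smul, hk, smul_smul, smul_smul, smul_smul] at h1
    refine (smul_right_injective (Pt → F) (mul_ne_zero (c.χ_ne (dot b a')) (hk0 (a + a') (b + b')))) ?_
    show _ • _ = _ • _
    rw [h1, smul_smul, mul_inv_cancel_left₀ (mul_ne_zero (c.χ_ne _) (hk0 _ _))]
  by_cases hfix : ∃ a b, ¬(a + A a b = 0 ∧ b + B a b = 0)
  · exfalso
    obtain ⟨a, b, hab⟩ := hfix
    have hf := hadd a b (A a b) (B a b)
    rw [(hinv a b).1, (hinv a b).2, add_comm (A a b), add_comm (B a b)] at hf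
    have hc : ∀ u, s (c.W (a + A a b) (b + B a b) u) = c.W (a + A a b) (b + B a b) (s u) := fun u => by
      have h1 := hk (a + A a b) (b + B a b) u
      rw [hf.1, hf.2] at h1
      set l := k (a + A a b) (b + B a b) with hl
      have h2 : ∀ v, s (c.W (a + A a b) (b + B a b) v) = l • c.W (a + A a b) (b + B a b) (s v) := fun v => by
        have := hk (a + A a b) (b + B a b) v
        rwa [hf.1, hf.2] at this
      have h3 := congrArg s (h2 (Pi.single 0 1))
      rw [hss, map_smul, h2, hss, smul_smul, c.W_single] at h3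
      have h4 := congrFun h3 (0 + (a + A a b))
      simp only [Pi.smul_apply, Pi.single_eq_same, mul_one, smul_eq_mul] at h4
      have h5 : l * l = 1 := (mul_eq_right₀ (c.χ_ne _)).1 h4.symm
      have h6 : l = 1 := by linear_combination c.cube_eq (show l ≠ 0 from hk0 _ _) - l * h5
      rw [h1, h6, one_smul]
    have hle := c.rank_le hs2 hab hc
    have hge : 4 ≤ finrank F (LinearMap.range ((s : (Pt → F) →ₗ[F] (Pt → F)) + LinearMap.id)) := by
      have h := LinearMap.finrank_le_finrank_of_injective (R := F)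
        (f := LinearMap.codRestrict (LinearMap.range ((s : (Pt → F) →ₗ[F] (Pt → F)) + LinearMap.id))
          ((g : (Pt → F) →ₗ[F] (Pt → F)) ∘ₗ wv) fun α => ⟨g (emb α), by
            show s (g (emb α)) + g (emb α) = g (wv α)
            rw [show s (g (emb α)) = g (tt (emb α)) by
              rw [hg]
              show g (tt (g.symm (g (emb α)))) = _
              rw [g.symm_apply_apply], ← map_add, add_comm, ← c.wv_dn, dn_emb]⟩)
        (fun α β h => wv_inj (g.injective (congrArg Subtype.val h)))
      simpa using h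
    omega
  · push Not at hfix
    have hneg : ∀ a b, A a b = -a ∧ B a b = -b := fun a b =>
      ⟨eq_neg_of_add_eq_zero_right (hfix a b).1, eq_neg_of_add_eq_zero_right (hfix a b).2⟩
    obtain ⟨μ, qa, qb, hq⟩ := c.eq_smul_W (x := s * tt) fun a b => ⟨k (-a) (-b), fun u => by
      show s (tt (c.W a b u)) = _
      rw [c.tt_W, hk, (hneg _ _).1, (hneg _ _).2, neg_neg, neg_neg]
      rfl⟩
    have hμ0 : μ ≠ 0 := fun h0 => by
      have h1 := hq (Pi.single 0 1)
      rw [h0, zero_smul] at h1
      have h2 := congrFun ((s * tt).map_eq_zero_iff.1 h1) 0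
      simp at h2
    have hq0 : qa = 0 ∧ qb = 0 := by
      have h : ∀ u, c.W qa qb u = (1 : F) • c.W (-qa) (-qb) u := fun u => by
        obtain ⟨u, rfl⟩ : ∃ v, tt v = u := ⟨tt u, LinearEquiv.congr_fun tt_tt u⟩
        rw [one_smul, ← c.tt_W]
        refine smul_right_injective (Pt → F) hμ0 ?_
        show μ • _ = μ • _
        rw [← hq, ← map_smul, ← hq]
        exact LinearEquiv.congr_fun (hst.mul_left (Commute.refl tt)).eq u
      obtain ⟨e1, e2⟩ := c.W_inj h
      exact ⟨neg_fix _ e1.symm, neg_fix _ e2.symm⟩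
    have hx : ∀ u, s (tt u) = μ • u := fun u => by
      have := hq u
      rwa [hq0.1, hq0.2, c.W_zero] at this
    have hμ : μ = 1 := by
      have h1 : (s * tt) * (s * tt) = 1 := by
        rw [hst.symm.mul_mul_mul_comm, hs2, tt_tt, one_mul]
      have h2 := congrFun (LinearEquiv.congr_fun h1 (Pi.single 0 1)) 0
      change s (tt (s (tt (Pi.single 0 1)))) 0 = _ at h2
      rw [hx, hx] at h2
      simp at h2
      linear_combination c.cube_eq hμ0 - μ * h2
    refine LinearEquiv.ext fun u => ?_
    have := hx (tt u)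
    rwa [hμ, one_smul, show tt (tt u) = u from LinearEquiv.congr_fun tt_tt u] at this

end C2

end Cfsg.Agent.Heis75
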