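import Cfsg.Agent.Lib.Heis75SU2Trans
import Cfsg.Agent.Lib.Heis75SU2Eigen
import Cfsg.Agent.Lib.ZStarTheorem

/-!
The dichotomy for overgroups of the normaliser of the Weyl operators of two qutrits over the field of four
elements: such a group normalises them or contains every unitary transvection.
-/

set_option autoImplicit false
set_option linter.unusedSectionVars false
set_option linter.unusedSimpArgs false
set_option linter.unusedVariables false

namespace Cfsg.Agent.Heis75

variable {F : Type*} [Field F]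

/-- The transvection of the values at the pairs. -/
def tau (b α : Fin 4 → F) : Fin 4 → F := α + bb α b • b

theorem exists_third : ∀ i j : Fin 4, ∃ k : Fin 4, k ≠ i ∧ k ≠ j := by decide

namespace C2

variable (c : C2 F)
include c

theorem bb_symm (α β : Fin 4 → F) : bb α β = bb β α ^ 2 := by
  have : CharP F 2 := CharTwo.of_one_ne_zero_of_two_eq_zero one_ne_zero c.two
  simp only [bb, CharTwo.sum_sq, mul_pow, c.pow_four]
  exact Finset.sum_congr rfl fun x _ => by ring

theorem tau_smul {r : F} (hr : r ≠ 0) (b α : Fin 4 → F) : tau (r • b) α = tau b α := by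
  rw [tau, tau, c.bb_smul_right, smul_smul]
  congr 2
  linear_combination bb α b * c.cube_eq hr

/-- The scalar operator. -/
def sc (k : ZMod 3) : Vg F := c.dg (quad (k, 0, 0, 0))

theorem sc_apply (k : ZMod 3) (u : Pt → F) : c.sc k u = c.χ k • u := by
  funext x
  simp [sc, dg_apply, quad]

theorem sc_good (k : ZMod 3) : c.Good (c.sc k) := c.quad_good _

theorem sc_comm (k : ZMod 3) (g : Vg F) : Commute (c.sc k) g :=
  LinearEquiv.ext fun u => by
    show c.sc k (g u) = g (c.sc k u)
    rw [c.sc_apply, c.sc_apply, map_smul]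

theorem act_inv {g : Vg F} (hg : Commute g tt) (α : Fin 4 → F) : act g⁻¹ (act g α) = α := by
  rw [← c.act_mul hg.inv_left, inv_mul_cancel]
  exact c.act_one α

theorem act_inv' {g : Vg F} (hg : Commute g tt) (α : Fin 4 → F) : act g (act g⁻¹ α) = α := by
  rw [← c.act_mul hg, mul_inv_cancel]
  exact c.act_one α

theorem tt_ne_one : (tt : Vg F) ≠ 1 := fun e => by
  have := congrFun (LinearEquiv.congr_fun e (Pi.single (1, 0) 1)) (1, 0)
  rw [tt_apply] at this
  simp +decide at this

theorem core [Finite F] {M : Subgroup (Vg F)} (hM : c.Over M) :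
    (∀ g ∈ M, c.Nr g) ∨ ∀ u : Pt → F, f u u = 0 → u ≠ 0 → Cen M u := by
  classical
  have : Finite (Vg F) := Finite.of_injective (fun g : Vg F => (g : (Pt → F) → (Pt → F)))
    DFunLike.coe_injective
  by_cases hA : ∀ x ∈ M, Commute x tt → (∀ α, x (wv α) = wv α) → x = 1 ∨ x = tt
  case neg =>
    push Not at hA
    obtain ⟨x, hx, hxt, hw, h1, ht⟩ := hA
    exact Or.inr fun u hu hu0 => c.all_cen hM (c.exists_transvection hM hx hxt hw h1 ht) u hu hu0
  refine Or.inl ?_
  have httM : (tt : Vg F) ∈ M := hM.2 _ c.tt_good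
  -- the centraliser normalises
  have hgood : ∀ g ∈ M, Commute g tt → c.Good g := fun g hg hgt => by
    obtain ⟨n, hn, hnt, hna⟩ := c.adjust (hM.1 hg) hgt
    have hng := hnt.mul_left hgt
    rcases hA _ (mul_mem (hM.2 n hn) hg) hng (c.fix_wv hng hna) with e | e
    · rw [eq_inv_of_mul_eq_one_right e]
      exact hn.inv c
    · rw [show g = n⁻¹ * tt by rw [← e, inv_mul_cancel_left]]
      exact (hn.inv c).mul c c.tt_good
  -- the parity is isolated
  let z : M := ⟨tt, httM⟩
  have hz : Cfsg.IsIsolatedInvolution z := by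
    refine ⟨orderOf_eq_prime (by rw [pow_two]; exact Subtype.ext tt_tt)
      (fun e => c.tt_ne_one (congrArg Subtype.val e)), fun g hg => Subtype.ext ?_⟩
    have hst : Commute ((g : Vg F) * tt * (g : Vg F)⁻¹) tt := (congrArg Subtype.val hg.eq).symm
    exact c.eq_tt (hgood _ (mul_mem (mul_mem g.2 httM) (inv_mem g.2)) hst) hst g rfl
  obtain ⟨N, hNn, hNo, hNc⟩ := ZStarTheorem.exists_odd_normal hz
  let O : Subgroup (Vg F) := N.map M.subtype
  have hOM : ∀ y ∈ O, y ∈ M := by
    rintro _ ⟨y, -, rfl⟩
    exact y.2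
  have hOc : ∀ g ∈ M, ∀ y ∈ O, g * y * g⁻¹ ∈ O := by
    rintro g hg _ ⟨y, hy, rfl⟩
    exact ⟨_, hNn.conj_mem y hy ⟨g, hg⟩, rfl⟩
  have hOt : ∀ g ∈ M, tt * g * tt⁻¹ * g⁻¹ ∈ O := fun g hg => ⟨_, hNc ⟨g, hg⟩, rfl⟩
  have hOodd : ∀ y ∈ O, y * y = 1 → y = 1 := by
    rintro _ ⟨y, hy, rfl⟩ h
    obtain ⟨k, hk⟩ := hNo
    have h1 : y ^ Nat.card N = 1 := congrArg Subtype.val (pow_card_eq_one' (x := (⟨y, hy⟩ : N)))
    have h2 : y * y = 1 := Subtype.ext h
    rw [hk, pow_succ, pow_mul, pow_two, h2, one_pow, one_mul] at h1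
    rw [h1, map_one]
  have httO : (tt : Vg F) ∉ O := fun h => c.tt_ne_one (hOodd _ h tt_tt)
  have htriv : ∀ y ∈ O, Commute y tt → (∀ α, act y (act y α) = α) → y = 1 := fun y hy hyt ha => by
    have h1 : ∀ α, act (y * y) α = α := fun α => by rw [c.act_mul hyt, ha]
    rcases hA _ (hOM _ (mul_mem hy hy)) (hyt.mul_left hyt) (c.fix_wv (hyt.mul_left hyt) h1) with e | e
    · exact hOodd y hy e
    · exact absurd (e ▸ mul_mem hy hy) httO
  have hconj : ∀ T P P' : (Fin 4 → F) → Fin 4 → F, c.Real T → (∀ α, T (P α) = P' (T α)) →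
      (∃ q ∈ O, Commute q tt ∧ ∀ α, act q α = P α) → ∃ q ∈ O, Commute q tt ∧ ∀ α, act q α = P' α := by
    rintro T P P' ⟨n, hn, hnt, hna⟩ hTP ⟨q, hq, hqt, hqa⟩
    refine ⟨n * q * n⁻¹, hOc n (hM.2 n hn) q hq, (hnt.mul_left hqt).mul_left hnt.inv_left, fun α => ?_⟩
    rw [c.act_mul (hnt.mul_left hqt), c.act_mul hnt, hqa, hna, hTP, ← hna, c.act_inv' hnt]
  -- elements of the odd normal subgroup commuting with the parity are scalars
  have hscal : ∀ y ∈ O, Commute y tt → ∃ μ : F, ∀ u, y u = μ • u := by
    intro y hy hyt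
    have hU : InU y := (hM.1 (hOM y hy)).1
    have hbA := c.bb_act hyt hU
    have heig : ∀ i j : Fin 4, i ≠ j → ∀ l : F, l ≠ 0 →
        ∃ ν : F, act y (Pi.single i 1 + Pi.single j l) = ν • (Pi.single i 1 + Pi.single j l) := by
      intro i j hij l hl
      obtain ⟨κ, hκ⟩ := c.exists_χ hl
      set a : Fin 4 → F := Pi.single i 1 + Pi.single j l with ha
      set e : Fin 4 → ZMod 3 := fun k => if k = i then -κ else if k = j then κ else 0 with he
      obtain ⟨n, hn, hnt, hna⟩ := (c.real_diag e).comp c (c.real_perm (Equiv.swap i j))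
      have hbaa : bb a a = 0 := by
        rw [ha, bb_add_left, bb_single_left, bb_single_left]
        simp [hij, hij.symm]
        linear_combination c.cube_eq hl + c.two
      have hnτ : ∀ α, act n α = tau a α := fun α => by
        rw [hna]
        funext k
        simp only [Function.comp_apply, Equiv.symm_swap, tau, ha, c.bb_add_right, bb_single_right,
          Pi.add_apply, Pi.smul_apply, smul_eq_mul, he]
        rcases eq_or_ne k i with rfl | hki
        · simp [hij, ← c.χ_sq, ← hκ]
          linear_combination -(α k) * c.two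
        rcases eq_or_ne k j with rfl | hkj
        · simp [hki, ← hκ]
          linear_combination (-α k) * c.cube_eq hl - α k * c.two
        · simp [hki, hkj, Equiv.swap_apply_of_ne_of_ne hki hkj]
      have hττ : ∀ α, tau a (tau a α) = α := fun α => by
        simp only [tau, bb_add_left, bb_smul_left, hbaa, mul_zero, add_zero]
        funext k
        simp only [Pi.add_apply, Pi.smul_apply, smul_eq_mul]
        linear_combination (bb α a * a k) * c.two
      have hninv : ∀ α, act n⁻¹ α = tau a α := fun α => by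
        conv_lhs => rw [← hττ α, ← hnτ, c.act_inv hnt]
      set b := act y a with hb
      have hbbb : bb b b = 0 := by rw [hb, hbA, hbaa]
      set w := y * (n * y⁻¹ * n⁻¹) with hw
      have hwO : w ∈ O := mul_mem hy (hOc n (hM.2 n hn) _ (inv_mem hy))
      have h3 : Commute (n * y⁻¹ * n⁻¹) tt := (hnt.mul_left hyt.inv_left).mul_left hnt.inv_left
      have hwt : Commute w tt := hyt.mul_left h3
      have hwa : ∀ α, act w α = tau b (tau a α) := fun α => by
        rw [hw, c.act_mul hyt, c.act_mul (hnt.mul_left hyt.inv_left), c.act_mul hnt, hninv, hnτ]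
        generalize tau a α = β
        conv_rhs => rw [← c.act_inv' hyt β]
        rw [tau, tau, map_add, map_smul, hbA]
      by_cases hc0 : bb b a = 0
      · have hab : bb a b = 0 := by rw [c.bb_symm, hc0]; simp
        have hw1 : w = 1 := htriv w hwO hwt fun α => by
          rw [hwa, hwa]
          simp only [tau, bb_add_left, bb_smul_left, hbaa, hbbb, hab, hc0, mul_zero, add_zero]
          funext k
          simp only [Pi.add_apply, Pi.smul_apply, smul_eq_mul]
          linear_combination (bb α a * a k + bb α b * b k) * c.two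
        have h1 := hwa (Pi.single i 1)
        rw [hw1, c.act_one] at h1
        simp only [tau, bb_add_left, bb_smul_left, hab, mul_zero, add_zero, bb_single_left, one_mul] at h1
        have hai : a i = 1 := by simp [ha, hij]
        rw [hai, one_pow, one_smul] at h1
        have h2 : a = b i ^ 2 • b := funext fun k => c.eq_of_add (by
          have := congrFun h1 k
          simp only [Pi.add_apply, Pi.smul_apply, smul_eq_mul] at this
          simp only [Pi.smul_apply, smul_eq_mul]
          linear_combination -this)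
        have hr : b i ^ 2 ≠ 0 := fun h0 => by
          rw [h0, zero_smul] at h2
          rw [h2, Pi.zero_apply] at hai
          exact zero_ne_one hai
        exact ⟨(b i ^ 2)⁻¹, by conv_rhs => rw [h2, smul_smul, inv_mul_cancel₀ hr, one_smul]⟩
      · exfalso
        have hν : (bb b a)⁻¹ ≠ 0 := inv_ne_zero hc0
        set b' := (bb b a)⁻¹ • b with hb'
        have hba : bb b' a = 1 := by rw [hb', bb_smul_left, inv_mul_cancel₀ hc0]
        have hab : bb a b' = 1 := by rw [c.bb_symm, hba, one_pow]
        have hb'b : bb b' b' = 0 := by rw [hb', bb_smul_left, c.bb_smul_right, hbbb, mul_zero, mul_zero]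
        set u1 := a + c.ω • b' with hu1
        set u2 := a + c.ω ^ 2 • b' with hu2
        have huu : bb u1 u1 = 1 ∧ bb u2 u2 = 1 ∧ bb u2 u1 = 0 := by
          refine ⟨?_, ?_, ?_⟩ <;>
            simp only [hu1, hu2, bb_add_left, bb_smul_left, c.bb_add_right, c.bb_smul_right, hbaa, hba, hab,
              hb'b, mul_zero, add_zero, zero_add, mul_one, c.pow_four]
          · linear_combination c.root - c.two
          · linear_combination c.root - c.two
          · linear_combination c.ω ^ 2 * c.two
        obtain ⟨n1, hn1, hn1t, -, h11⟩ :=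
          c.column 0 u1 (fun i hi => absurd hi (Fin.not_lt_zero i)) huu.1
        have hβ : act n1 u2 0 = 0 := by
          have := c.bb_act hn1t hn1.1.1 u2 u1
          rw [h11, bb_single_right, one_pow, mul_one, huu.2.2] at this
          exact this
        obtain ⟨n2, hn2, hn2t, hfix, h22⟩ := c.column 1 (act n1 u2) (fun i hi => by
          obtain rfl : i = 0 := Fin.ext (by have : i.val < 1 := hi; omega)
          exact hβ) (by rw [c.bb_act hn1t hn1.1.1]; exact huu.2.1)
        set n3 := n2 * n1
        have hn3t : Commute n3 tt := hn2t.mul_left hn1t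
        have e1 : act n3 u1 = Pi.single 0 1 := by rw [c.act_mul hn2t, h11, hfix 0 (by decide)]
        have e2 : act n3 u2 = Pi.single 1 1 := by rw [c.act_mul hn2t, h22]
        have haA : act n3 a = c.ω ^ 2 • Pi.single 0 1 + c.ω • Pi.single 1 1 := by
          rw [← e1, ← e2, ← map_smul, ← map_smul, ← map_add]
          congr 1
          funext k
          simp only [hu1, hu2, Pi.add_apply, Pi.smul_apply, smul_eq_mul]
          linear_combination -(a k) * c.root + a k * c.two - c.ω ^ 3 * b' k * c.two
        have hbB : act n3 b' = Pi.single 0 1 + Pi.single 1 1 := by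
          rw [← e1, ← e2, ← map_add]
          congr 1
          funext k
          simp only [hu1, hu2, Pi.add_apply, Pi.smul_apply, smul_eq_mul]
          linear_combination -(a k) * c.two - b' k * c.root + b' k * c.two
        have hconjτ : ∀ v α, act n3 (tau v α) = tau (act n3 v) (act n3 α) := fun v α => by
          rw [tau, tau, map_add, map_smul, c.bb_act hn3t (hn2.1.1.mul hn1.1.1)]
        have hp : ∃ q ∈ O, Commute q tt ∧ ∀ α, act q α =
            ![c.ω ^ 2 * α 0, c.ω * α 1, α 2, α 3] := by
          refine hconj (fun α => act n3 α) (fun α => act w α) _ ⟨n3, hn2.mul c hn1, hn3t, fun α => rfl⟩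
            (fun α => ?_) ⟨w, hwO, hwt, fun α => rfl⟩
          show act n3 (act w α) = _
          rw [hwa, ← c.tau_smul hν b, ← hb', hconjτ, hconjτ, haA, hbB]
          generalize act n3 α = β
          funext k
          fin_cases k <;>
            simp [tau, bb, Fin.sum_univ_four, Pi.single_apply]
          · linear_combination (β 0 * (1 + c.ω ^ 6) + β 1 * (c.ω ^ 4 + 1)) * c.two +
              (c.ω ^ 2 * β 0 + β 1) * c.cube
          · linear_combination (β 0 * (c.ω ^ 5 + 1) + β 1 * (1 + c.ω ^ 3)) * c.two +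
              ((c.ω ^ 3 + 1) * β 0 + c.ω * β 1) * c.cube
        -- a product of two elements of order three of even order
        obtain ⟨q, hq, hqt, hqa⟩ := hp
        have hd : ∃ q ∈ O, Commute q tt ∧ ∀ α, act q α = ![c.ω * α 0, c.ω ^ 2 * α 1, α 2, α 3] :=
          ⟨q * q, mul_mem hq hq, hqt.mul_left hqt, fun α => by
            rw [c.act_mul hqt, hqa, hqa]
            funext k
            fin_cases k <;> simp
            · linear_combination (α 0 * c.ω) * c.cube
            · ring⟩
        let T1 : (Fin 4 → F) → Fin 4 → F := fun α => ![c.ω * α 0, c.ω ^ 2 * α 1 + c.ω * α 2 + c.ω * α 3,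
          c.ω * α 1 + c.ω ^ 2 * α 2 + c.ω * α 3, c.ω * α 1 + c.ω * α 2 + c.ω ^ 2 * α 3]
        let T2 : (Fin 4 → F) → Fin 4 → F := fun α => ![c.ω ^ 2 * α 0 + c.ω * α 2 + c.ω * α 3, c.ω * α 1,
          c.ω * α 0 + c.ω ^ 2 * α 2 + c.ω * α 3, c.ω * α 0 + c.ω * α 2 + c.ω ^ 2 * α 3]
        have h1 : ∃ q ∈ O, Commute q tt ∧ ∀ α, act q α = T1 α := by
          refine hconj c.fh _ T1 c.real_fh (fun α => ?_) hd
          funext k
          fin_cases k <;> simp [T1, fh]
          · linear_combination -(c.ω * α 1 + c.ω ^ 2 * (α 2 + α 3)) * c.two - (α 2 + α 3) * c.cube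
          · linear_combination -(c.ω * α 1 + c.ω ^ 3 * α 2 + c.ω * α 3) * c.two - c.ω * α 3 * c.cube
          · linear_combination -(c.ω * α 1 + c.ω ^ 3 * α 3 + c.ω * α 2) * c.two - c.ω * α 2 * c.cube
        have h2 : ∃ q ∈ O, Commute q tt ∧ ∀ α, act q α = T2 α := by
          refine hconj _ _ T2 (c.real_perm (Equiv.swap 0 1)) (fun α => ?_) h1
          funext k
          fin_cases k <;> simp +decide [T1, T2, Equiv.swap_apply_def]
        obtain ⟨q1, hq1, hq1t, hq1a⟩ := h1
        obtain ⟨q2, hq2, hq2t, hq2a⟩ := h2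
        let X : (Fin 4 → F) → Fin 4 → F := fun α => ![α 0 + c.ω ^ 2 * α 2 + c.ω ^ 2 * α 3,
          α 1 + c.ω * α 2 + c.ω * α 3, c.ω * α 0 + c.ω ^ 2 * α 1 + α 2, c.ω * α 0 + c.ω ^ 2 * α 1 + α 3]
        have hX : ∀ α, act (q1 * q2) α = X α := fun α => by
          rw [c.act_mul hq1t, hq1a, hq2a]
          funext k
          fin_cases k <;> simp [T1, T2, X]
          · linear_combination α 0 * c.cube
          · linear_combination α 1 * c.cube + c.ω ^ 2 * α 0 * c.two +
              (α 2 + α 3) * (c.cube + c.root - c.ω * c.two)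
          · linear_combination α 0 * (c.cube + c.root - c.ω * c.two) +
              α 2 * (c.ω * c.cube + c.root - c.two) + α 3 * c.ω ^ 3 * c.two
          · linear_combination α 0 * (c.cube + c.root - c.ω * c.two) +
              α 3 * (c.ω * c.cube + c.root - c.two) + α 2 * c.ω ^ 3 * c.two
        have hX1 : q1 * q2 = 1 := htriv _ (mul_mem hq1 hq2) (hq1t.mul_left hq2t) fun α => by
          rw [hX, hX]
          funext k
          fin_cases k <;> simp [X]
          · linear_combination
              (c.ω ^ 2 * (α 2 + α 3) + c.ω ^ 3 * α 0 + c.ω ^ 4 * α 1) * c.two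
          · linear_combination
              (c.ω * (α 2 + α 3) + c.ω ^ 2 * α 0 + c.ω ^ 3 * α 1) * c.two
          · linear_combination
              (c.ω * α 0 + c.ω ^ 2 * α 1 + c.ω ^ 3 * α 2 + c.ω ^ 3 * α 3) * c.two
          · linear_combination
              (c.ω * α 0 + c.ω ^ 2 * α 1 + c.ω ^ 3 * α 2 + c.ω ^ 3 * α 3) * c.two
        have hbad := congrFun (hX (Pi.single 2 1)) 0
        rw [hX1, c.act_one] at hbad
        simp [X] at hbad
        exact pow_ne_zero 2 c.ne_zero hbad.symm
    -- scalar on the pairs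
    have hoff : ∀ i j k : Fin 4, i ≠ j → k ≠ i → k ≠ j → act y (Pi.single j 1) k = 0 := fun i j k hij hki hkj => by
      obtain ⟨ν, hν⟩ := heig i j hij 1 one_ne_zero
      obtain ⟨ν', hν'⟩ := heig i j hij c.ω c.ne_zero
      have e1 := congrFun hν k
      have e2 := congrFun hν' k
      have hs : (Pi.single j c.ω : Fin 4 → F) = c.ω • Pi.single j 1 := by
        rw [← Pi.single_smul, smul_eq_mul, mul_one]
      rw [map_add] at e1 e2
      rw [hs, map_smul] at e2
      simp [hki, hkj] at e1 e2
      have : (1 + c.ω) * act y (Pi.single j 1) k = 0 := by linear_combination e2 - e1 + act y (Pi.single j 1) k * c.two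
      refine (mul_eq_zero.1 this).resolve_left fun h => c.ne_one ?_
      linear_combination h - c.two
    have hdiag : ∀ i j : Fin 4, i ≠ j → act y (Pi.single i 1) i = act y (Pi.single j 1) j := fun i j hij => by
      obtain ⟨ν, hν⟩ := heig i j hij 1 one_ne_zero
      have e1 := congrFun hν i
      have e2 := congrFun hν j
      obtain ⟨l, hli, hlj⟩ := exists_third i j
      rw [map_add] at e1 e2
      simp [hij, hij.symm, hoff l j i hlj hli.symm hij, hoff l i j hli hlj.symm hij.symm] at e1 e2
      rw [e1, e2]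
    set μ := act y (Pi.single 0 1) 0 with hμ
    have hall : ∀ α, act y α = μ • α := fun α => by
      have : act y = μ • (LinearMap.id : (Fin 4 → F) →ₗ[F] (Fin 4 → F)) :=
        LinearMap.pi_ext' fun i => LinearMap.ext_ring (funext fun k => by
          rcases eq_or_ne k i with rfl | hki
          · rcases eq_or_ne k 0 with rfl | hk0
            · simp [hμ]
            · simp [hμ, hdiag 0 k hk0.symm]
          · obtain ⟨l, hli, hlk⟩ := exists_third i k
            simp [hki, hoff l i k hli hlk.symm hki])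
      rw [this]
      rfl
    have hμ0 : μ ≠ 0 := fun h0 => by
      have := hbA (Pi.single 0 1) (Pi.single 0 1)
      rw [hall, h0, zero_smul, bb_single_left] at this
      simp [bb] at this
    obtain ⟨κ, hκ⟩ := c.exists_χ hμ0
    have hxt : Commute (c.sc (-κ) * y) tt := (c.sc_comm _ _).mul_left hyt
    have hxa : ∀ α, act (c.sc (-κ) * y) α = α := fun α => by
      rw [c.act_mul (c.sc_comm _ _), hall, act_apply, c.sc_apply, map_smul, dn_emb, smul_smul, hκ, ← c.χ_add,
        neg_add_cancel, c.χ_zero, one_smul]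
    have hy' : ∀ v, y v = c.χ κ • (c.sc (-κ) * y) v := fun v => by
      rw [LinearEquiv.mul_apply, c.sc_apply, smul_smul, ← c.χ_add, add_neg_cancel, c.χ_zero, one_smul]
    rcases hA _ (mul_mem (hM.2 _ (c.sc_good _)) (hOM y hy)) hxt (c.fix_wv hxt hxa) with e | e
    · exact ⟨c.χ κ, fun u => by rw [hy', e]; rfl⟩
    · refine absurd ?_ httO
      have h3 : y * y * y = tt := LinearEquiv.ext fun u => by
        show y (y (y u)) = tt u
        rw [hy' u, e, map_smul, hy' (tt u), e, map_smul, map_smul, hy' (tt (tt u)), e,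
          show tt (tt u) = u from LinearEquiv.congr_fun tt_tt u, smul_smul, smul_smul,
          show c.χ κ * c.χ κ * c.χ κ = 1 by linear_combination c.χ_cube κ, one_smul]
      exact h3 ▸ mul_mem (mul_mem hy hy) hy
  -- the odd normal subgroup modulo scalars is abelian
  let Z : Subgroup O :=
    { carrier := {x | ∃ μ : F, ∀ u, (x : Vg F) u = μ • u}
      one_mem' := ⟨1, fun u => by simp⟩
      mul_mem' := by
        rintro x x' ⟨μ, hμ⟩ ⟨ν, hν⟩
        exact ⟨ν * μ, fun u => by
          show (x : Vg F) ((x' : Vg F) u) = _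
          rw [hν, map_smul, hμ, smul_smul]⟩
      inv_mem' := by
        rintro x ⟨μ, hμ⟩
        refine ⟨μ⁻¹, fun u => ?_⟩
        apply (x : Vg F).injective
        show (x : Vg F) ((x : Vg F).symm u) = _
        rw [LinearEquiv.apply_symm_apply, map_smul, hμ, smul_smul]
        rcases eq_or_ne μ 0 with rfl | h
        · simpa using ((x : Vg F).apply_symm_apply u).symm.trans (hμ _)
        · rw [inv_mul_cancel₀ h, one_smul] }
  have hZn : Z.Normal := ⟨by
    rintro x ⟨μ, hμ⟩ g
    refine ⟨μ, fun u => ?_⟩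
    show (g : Vg F) ((x : Vg F) ((g : Vg F).symm u)) = _
    rw [hμ, map_smul, LinearEquiv.apply_symm_apply]⟩
  have htti : (tt : Vg F)⁻¹ = tt := inv_eq_of_mul_eq_one_right tt_tt
  let σ : O →* O :=
    { toFun := fun x => ⟨tt * (x : Vg F) * tt, by
        have h := hOc tt httM x x.2
        rwa [htti] at h⟩
      map_one' := Subtype.ext (by simp [tt_tt])
      map_mul' := fun x x' => Subtype.ext (by
        show (tt : Vg F) * ((x : Vg F) * (x' : Vg F)) * tt = (tt : Vg F) * (x : Vg F) * tt * (tt * (x' : Vg F) * tt)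
        simp only [mul_assoc]
        rw [← mul_assoc (tt : Vg F) tt, tt_tt, one_mul]) }
  have hσσ : ∀ x, σ (σ x) = x := fun x => Subtype.ext (by
    show (tt : Vg F) * ((tt : Vg F) * (x : Vg F) * tt) * tt = (x : Vg F)
    simp only [mul_assoc, tt_tt, mul_one]
    rw [← mul_assoc, tt_tt, one_mul])
  have hσZ : Z ≤ Z.comap σ := by
    rintro x ⟨μ, hμ⟩
    refine ⟨μ, fun u => ?_⟩
    show tt ((x : Vg F) (tt u)) = _
    rw [hμ, map_smul, show tt (tt u) = u from LinearEquiv.congr_fun tt_tt u]
  let φ : O ⧸ Z →* O ⧸ Z := QuotientGroup.map Z Z σ hσZ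
  have hinv : Function.Involutive φ := fun x => by
    induction x using QuotientGroup.induction_on with
    | H x => show QuotientGroup.mk (σ (σ x)) = _; rw [hσσ]
  have hfpf : MonoidHom.FixedPointFree φ := fun x hx => by
    induction x using QuotientGroup.induction_on with
    | H x =>
      obtain ⟨μ, hμ⟩ := (QuotientGroup.eq (s := Z)).1 (show QuotientGroup.mk (σ x) = QuotientGroup.mk x from hx).symm
      have he : ∀ u, tt ((x : Vg F) (tt u)) = μ • (x : Vg F) u := fun u => by
        have h := congrArg (x : Vg F) (hμ u)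
        change (x : Vg F) ((x : Vg F).symm (tt ((x : Vg F) (tt u)))) = _ at h
        rwa [LinearEquiv.apply_symm_apply, map_smul] at h
      have htt : ∀ v : Pt → F, tt (tt v) = v := fun v => LinearEquiv.congr_fun tt_tt v
      have hxt : ∀ u, (x : Vg F) (tt u) = μ • tt ((x : Vg F) u) := fun u => by
        rw [← map_smul, ← he, htt]
      have h2 : μ * μ = 1 := by
        obtain ⟨u, hu⟩ : ∃ u, (x : Vg F) u = Pi.single 0 1 := ⟨_, (x : Vg F).apply_symm_apply _⟩
        have h := hxt (tt u)
        rw [htt, hxt, map_smul, htt, smul_smul, hu] at h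
        have := congrFun h 0
        simpa using this.symm
      have hμ0 : μ ≠ 0 := fun e => by rw [e, mul_zero] at h2; exact zero_ne_one h2
      have hμ1 : μ = 1 := by linear_combination c.cube_eq hμ0 - μ * h2
      have hcomm : Commute (x : Vg F) tt := LinearEquiv.ext fun u => by
        show (x : Vg F) (tt u) = tt ((x : Vg F) u)
        rw [hxt, hμ1, one_smul]
      exact (QuotientGroup.eq_one_iff x).2 (hscal x x.2 hcomm)
  have hab := hfpf.commute_all_of_involutive hinv
  -- conclusion
  have hWO : ∀ a b, ∃ m ∈ O, ∀ u, m u = c.χ (-dot b a) • c.W a b u := fun a b => by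
    refine ⟨_, hOt _ (hM.2 _ (c.W_good a b)), fun u => ?_⟩
    obtain ⟨v, rfl⟩ : ∃ v, c.W a b v = u := ⟨_, (c.W a b).apply_symm_apply u⟩
    show tt (c.W a b ((tt : Vg F).symm ((c.W a b).symm (c.W a b v)))) = _
    rw [LinearEquiv.symm_apply_apply, c.tt_W, LinearEquiv.apply_symm_apply, c.W_W, smul_smul, ← c.χ_add,
      neg_add_cancel, c.χ_zero, one_smul,
      show a + a = -a from (by decide : ∀ a : Pt, a + a = -a) a,
      show b + b = -b from (by decide : ∀ b : Pt, b + b = -b) b]
  intro g hg a b
  obtain ⟨m, hm, hma⟩ := hWO a b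
  have hxO := hOc g hg m hm
  obtain ⟨μ, qa, qb, hq⟩ := c.eq_smul_W (x := g * m * g⁻¹) fun a' b' => by
    obtain ⟨m', hm', hma'⟩ := hWO a' b'
    obtain ⟨ζ, hζ⟩ := (QuotientGroup.eq (s := Z)).1
      (hab (QuotientGroup.mk (⟨m', hm'⟩ : O)) (QuotientGroup.mk (⟨_, hxO⟩ : O))).eq
    refine ⟨ζ, fun u => ?_⟩
    have h1 := congrArg (fun v => m' ((g * m * g⁻¹) v)) (hζ u)
    change m' ((g * m * g⁻¹) ((g * m * g⁻¹).symm (m'.symm ((g * m * g⁻¹) (m' u))))) = _ at h1
    simp only [LinearEquiv.apply_symm_apply] at h1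
    simp only [map_smul, hma', smul_smul] at h1
    refine smul_right_injective (Pt → F) (c.χ_ne (-dot b' a')) ?_
    show _ • _ = _ • _
    rw [h1, smul_smul]
  refine ⟨c.χ (dot b a) * μ, qa, qb, fun u => ?_⟩
  have h1 := hq (g u)
  change g (m (g.symm (g u))) = _ at h1
  rw [g.symm_apply_apply, hma, map_smul] at h1
  rw [← smul_smul, ← h1, smul_smul, ← c.χ_add, add_neg_cancel, c.χ_zero, one_smul]

end C2

end Cfsg.Agent.Heis75
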