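import Mathlib

/-!
Two qutrits over the field of four elements: the unitary form, monomial operators and the Fourier
operator.
-/

set_option autoImplicit false
set_option linter.unusedSectionVars false

namespace Cfsg.Agent.Heis75

/-- The nine coordinates. -/
abbrev Pt : Type := ZMod 3 × ZMod 3

variable (F : Type*) [Field F]

/-- A field of four elements with a chosen cube root of unity. -/
structure C2 where
  /-- the root -/
  ω : F
  root : ω * ω + ω + 1 = 0
  two : (2 : F) = 0
  cases : ∀ x : F, x = 0 ∨ x = 1 ∨ x = ω ∨ x = ω + 1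

/-- The operators. -/
abbrev Vg : Type _ := (Pt → F) ≃ₗ[F] (Pt → F)

variable {F}

/-- The scalar product of indices. -/
def dot (b x : Pt) : ZMod 3 := b.1 * x.1 + b.2 * x.2

theorem sum_z3 {A : Type*} [AddCommMonoid A] (g : ZMod 3 → A) : ∑ a, g a = g 0 + g 1 + g 2 :=
  Fin.sum_univ_three g

theorem z3_cases : ∀ a : ZMod 3, a = 0 ∨ a = 1 ∨ a = 2 := by decide

namespace C2

variable (c : C2 F)
include c

theorem cube : c.ω ^ 3 = 1 := by linear_combination (c.ω - 1) * c.root

theorem ne_zero : c.ω ≠ 0 := fun h => by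
  have := c.root
  simp [h] at this

theorem ne_one : c.ω ≠ 1 := fun h => by
  have := c.root
  rw [h] at this
  exact one_ne_zero (α := F) (by linear_combination this - c.two)

theorem sq_add' (x y : F) : (x + y) ^ 2 = x ^ 2 + y ^ 2 := by linear_combination (x * y) * c.two

theorem add_self (x : F) : x + x = 0 := by linear_combination x * c.two

theorem neg_eq (x : F) : -x = x := by linear_combination (-x) * c.two

theorem sub_eq (x y : F) : x - y = x + y := by rw [sub_eq_add_neg, c.neg_eq]

theorem eq_of_add {x y : F} (h : x + y = 0) : x = y := by linear_combination h - y * c.two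

theorem cube_eq {x : F} (h : x ≠ 0) : x ^ 3 = 1 := by
  rcases c.cases x with rfl | rfl | rfl | rfl
  · exact absurd rfl h
  · simp
  · exact c.cube
  · linear_combination (c.ω + 2) * c.root - (1 : F) * c.two

theorem pow_four (x : F) : (x ^ 2) ^ 2 = x := by
  rcases eq_or_ne x 0 with rfl | h
  · simp
  · linear_combination x * c.cube_eq h

/-- The additive character. -/
def χ (a : ZMod 3) : F := c.ω ^ a.val

@[simp] theorem χ_zero : c.χ 0 = 1 := by simp [χ]

theorem χ_one : c.χ 1 = c.ω := by simp [χ, ZMod.val_one]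

theorem χ_two : c.χ 2 = c.ω ^ 2 := rfl

theorem χ_add (a b : ZMod 3) : c.χ (a + b) = c.χ a * c.χ b := by
  rw [χ, χ, χ, ← pow_add, ZMod.val_add]
  exact (pow_eq_pow_mod _ c.cube).symm

theorem χ_sub (a b : ZMod 3) : c.χ (a - b) * c.χ b = c.χ a := by rw [← c.χ_add, sub_add_cancel]

theorem χ_cube (a : ZMod 3) : c.χ a ^ 3 = 1 := by
  rw [χ, ← pow_mul, mul_comm, pow_mul, c.cube, one_pow]

theorem χ_ne (a : ZMod 3) : c.χ a ≠ 0 := fun h => by simpa [h] using c.χ_cube a

theorem χ_sq (a : ZMod 3) : c.χ a ^ 2 = c.χ (-a) := by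
  have h := c.χ_add (-a) a
  rw [neg_add_cancel, χ_zero] at h
  linear_combination c.χ (-a) * c.χ_cube a + c.χ a ^ 2 * h

theorem χ_eq_one {a : ZMod 3} (h : c.χ a = 1) : a = 0 := by
  rcases z3_cases a with rfl | rfl | rfl
  · rfl
  · exact absurd (c.χ_one ▸ h) c.ne_one
  · rw [c.χ_two] at h
    exact absurd (show c.ω = 1 by linear_combination c.cube - c.ω * h) c.ne_one

theorem χ_inj {a b : ZMod 3} (h : c.χ a = c.χ b) : a = b := by
  have h1 : c.χ (a - b) = 1 := by
    have h2 := c.χ_sub a b
    rw [h] at h2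
    exact (mul_eq_right₀ (c.χ_ne b)).1 h2
  exact sub_eq_zero.1 (c.χ_eq_one h1)

theorem exists_χ {x : F} (h : x ≠ 0) : ∃ a, x = c.χ a := by
  rcases c.cases x with rfl | rfl | rfl | rfl
  · exact absurd rfl h
  · exact ⟨0, c.χ_zero.symm⟩
  · exact ⟨1, c.χ_one.symm⟩
  · exact ⟨2, by rw [c.χ_two]; linear_combination -c.root + (c.ω + 1) * c.two⟩

theorem χ_sum (a : ZMod 3) : ∑ x, c.χ (x * a) = if a = 0 then 1 else 0 := by
  rw [sum_z3]
  rcases z3_cases a with rfl | rfl | rfl
  · simp; linear_combination c.two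
  · rw [if_neg (by decide), zero_mul, one_mul, mul_one, c.χ_zero, c.χ_one, c.χ_two]
    linear_combination c.root
  · rw [if_neg (by decide), zero_mul, one_mul, c.χ_zero, c.χ_two, show (2 : ZMod 3) * 2 = 1 by decide,
      c.χ_one]
    linear_combination c.root

theorem χ_prod {ι : Type*} (s : Finset ι) (e : ι → ZMod 3) : ∏ x ∈ s, c.χ (e x) = c.χ (∑ x ∈ s, e x) := by
  classical
  induction s using Finset.induction_on with
  | empty => simp
  | insert a s ha ih => rw [Finset.prod_insert ha, Finset.sum_insert ha, c.χ_add, ih]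

end C2

/-! ### The form -/

/-- The unitary form. -/
def f (u v : Pt → F) : F := ∑ x, u x * (v x) ^ 2

/-- The isometries. -/
def InU (g : Vg F) : Prop := ∀ u v, f (g u) (g v) = f u v

theorem InU.mul {g h : Vg F} (hg : InU g) (hh : InU h) : InU (g * h) := fun u v =>
  (hg _ _).trans (hh u v)

/-- The special unitary group. -/
def G2 : Subgroup (Vg F) where
  carrier := {g | InU g ∧ LinearEquiv.det g = 1}
  mul_mem' hg hh := ⟨hg.1.mul hh.1, by rw [map_mul, hg.2, hh.2, one_mul]⟩
  one_mem' := ⟨fun _ _ => rfl, map_one _⟩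
  inv_mem' {g} hg := ⟨fun u v => by
    conv_rhs => rw [← g.apply_symm_apply u, ← g.apply_symm_apply v]
    exact (hg.1 _ _).symm, by rw [map_inv, hg.2, inv_one]⟩

theorem mem_G2 {g : Vg F} : g ∈ G2 ↔ InU g ∧ LinearEquiv.det g = 1 := Iff.rfl

theorem f_add_left (u u' v : Pt → F) : f (u + u') v = f u v + f u' v := by
  simp [f, add_mul, Finset.sum_add_distrib]

theorem f_smul_left (a : F) (u v : Pt → F) : f (a • u) v = a * f u v := by
  simp [f, Finset.mul_sum, mul_assoc]

theorem f_smul_right (a : F) (u v : Pt → F) : f u (a • v) = a ^ 2 * f u v := by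
  simp only [f, Finset.mul_sum, Pi.smul_apply, smul_eq_mul, mul_pow]
  exact Finset.sum_congr rfl fun x _ => by ring

theorem f_zero_left (v : Pt → F) : f 0 v = 0 := by simp [f]

theorem f_single_left (x : Pt) (a : F) (v : Pt → F) : f (Pi.single x a) v = a * v x ^ 2 := by
  rw [f, Finset.sum_eq_single x (fun y _ hy => by simp [hy]) (by simp), Pi.single_eq_same]

theorem f_add_right (c : C2 F) (u v v' : Pt → F) : f u (v + v') = f u v + f u v' := by
  simp [f, c.sq_add', mul_add, Finset.sum_add_distrib]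

theorem f_symm (c : C2 F) (u v : Pt → F) : f u v = f v u ^ 2 := by
  simp only [f]
  have : CharP F 2 := CharTwo.of_one_ne_zero_of_two_eq_zero one_ne_zero c.two
  rw [CharTwo.sum_sq]
  exact Finset.sum_congr rfl fun x _ => by rw [mul_pow, c.pow_four]; ring

theorem f_nondeg {u : Pt → F} (h : ∀ v, f v u = 0) : u = 0 := funext fun x => by
  simpa [f_single_left] using h (Pi.single x 1)

/-! ### Monomial operators -/

/-- The permutation operators. -/
def pm : Equiv.Perm Pt →* Vg F where
  toFun σ := LinearEquiv.funCongrLeft F F σ.symm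
  map_one' := rfl
  map_mul' _ _ := rfl

theorem pm_apply (σ : Equiv.Perm Pt) (u : Pt → F) (x : Pt) : pm σ u x = u (σ.symm x) := rfl

theorem pm_single (σ : Equiv.Perm Pt) (x : Pt) (a : F) : pm σ (Pi.single x a) = Pi.single (σ x) a := by
  funext y
  simp [pm_apply, Pi.single_apply, Equiv.symm_apply_eq]

theorem pm_inU (σ : Equiv.Perm Pt) : InU (pm σ : Vg F) := fun u v =>
  Equiv.sum_comp σ.symm fun x => u x * v x ^ 2

theorem det_eq_one_of_pow_four (c : C2 F) {g : Vg F} (h : g ^ 4 = 1) : LinearEquiv.det g = 1 := by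
  have h4 : ((LinearEquiv.det g : Fˣ) : F) ^ 4 = 1 := by
    rw [← Units.val_pow_eq_pow_val, ← map_pow, h, map_one, Units.val_one]
  have h3 := c.cube_eq (Units.ne_zero (LinearEquiv.det g))
  exact Units.ext (by rw [Units.val_one]; linear_combination h4 - ((LinearEquiv.det g : Fˣ) : F) * h3)

theorem pm_det (c : C2 F) (σ : Equiv.Perm Pt) : LinearEquiv.det (pm σ : Vg F) = 1 := by
  induction σ using Equiv.Perm.swap_induction_on with
  | one => simp
  | swap_mul f x y _ ih =>
    rw [map_mul, map_mul, ih, mul_one]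
    refine det_eq_one_of_pow_four c ?_
    rw [← map_pow, show 4 = 2 * 2 from rfl, pow_mul, pow_two (Equiv.swap x y), Equiv.swap_mul_self,
      one_pow, map_one]

theorem pm_mem (c : C2 F) (σ : Equiv.Perm Pt) : (pm σ : Vg F) ∈ G2 := ⟨pm_inU σ, pm_det c σ⟩

namespace C2

variable (c : C2 F)

/-- The diagonal operators with cube roots of unity. -/
def dg (e : Pt → ZMod 3) : Vg F where
  toFun u x := c.χ (e x) * u x
  invFun u x := c.χ (-e x) * u x
  map_add' u v := funext fun x => mul_add _ _ _
  map_smul' a u := funext fun x => mul_left_comm _ _ _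
  left_inv u := funext fun x => by
    show c.χ (-e x) * (c.χ (e x) * u x) = u x
    rw [← mul_assoc, ← c.χ_add, neg_add_cancel, χ_zero, one_mul]
  right_inv u := funext fun x => by
    show c.χ (e x) * (c.χ (-e x) * u x) = u x
    rw [← mul_assoc, ← c.χ_add, add_neg_cancel, χ_zero, one_mul]

theorem dg_apply (e : Pt → ZMod 3) (u : Pt → F) (x : Pt) : c.dg e u x = c.χ (e x) * u x := rfl

theorem dg_inU (e : Pt → ZMod 3) : InU (c.dg e) := fun u v =>
  Finset.sum_congr rfl fun x _ => by
    simp only [dg_apply]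
    linear_combination (u x * v x ^ 2) * c.χ_cube (e x)

theorem dg_det (e : Pt → ZMod 3) : ((LinearEquiv.det (c.dg e) : Fˣ) : F) = c.χ (∑ x, e x) := by
  classical
  rw [LinearEquiv.coe_det]
  have : ((c.dg e : Vg F) : (Pt → F) →ₗ[F] (Pt → F)) = Matrix.toLin' (Matrix.diagonal fun x => c.χ (e x)) :=
    LinearMap.ext fun u => funext fun x => by
      simp [dg_apply, Matrix.mulVec_diagonal]
  rw [this, LinearMap.det_toLin', Matrix.det_diagonal, c.χ_prod]

theorem dg_mem {e : Pt → ZMod 3} (h : ∑ x, e x = 0) : c.dg e ∈ G2 :=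
  ⟨c.dg_inU e, Units.ext (by rw [dg_det, h, χ_zero, Units.val_one])⟩

/-- The Fourier sums along the first coordinate. -/
def four (s : ZMod 3) (u : Pt → F) (x : Pt) : F := ∑ z, c.χ (s * x.1 * z) * u (z, x.2)

theorem four_four {s t : ZMod 3} (h : s * t = -1) (u : Pt → F) : c.four s (c.four t u) = u := by
  funext x
  simp only [four, Finset.mul_sum, ← mul_assoc, ← c.χ_add]
  rw [Finset.sum_comm]
  have hs : ∀ s t x z w : ZMod 3, s * t = -1 → s * x * z + t * z * w = z * (s * (x - w)) := by decide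
  have hz : ∀ s t x w : ZMod 3, s * t = -1 → s * (x - w) = 0 → w = x := by decide
  simp only [hs s t _ _ _ h, ← Finset.sum_mul, c.χ_sum]
  rw [Finset.sum_eq_single x.1 (fun w _ hw => by rw [if_neg fun e => hw (hz s t _ _ h e), zero_mul]) (by simp)]
  simp

/-- The Fourier operator. -/
def hh : Vg F where
  toFun u := c.four 1 u
  invFun u := c.four 2 u
  map_add' u v := funext fun x => by simp [four, mul_add, Finset.sum_add_distrib]
  map_smul' a u := funext fun x => by simp [four, Finset.mul_sum, mul_left_comm]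
  left_inv u := c.four_four (by decide) u
  right_inv u := c.four_four (by decide) u

theorem hh_apply (u : Pt → F) (x : Pt) : c.hh u x = ∑ z, c.χ (x.1 * z) * u (z, x.2) := by
  show c.four 1 u x = _
  simp [four]

theorem hh_hh (u : Pt → F) (x : Pt) : c.hh (c.hh u) x = u (-x.1, x.2) := by
  have h1 : c.hh (c.hh u) x = ∑ z, ∑ w, c.χ (x.1 * z + z * w) * u (w, x.2) := by
    simp only [hh_apply, Finset.mul_sum, ← mul_assoc, ← c.χ_add]
  rw [h1, Finset.sum_comm]
  have hs : ∀ x z w : ZMod 3, x * z + z * w = z * (x + w) := by decide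
  simp only [hs, ← Finset.sum_mul, c.χ_sum]
  rw [Finset.sum_eq_single (-x.1) (fun w _ hw => by
    rw [if_neg fun e => hw (by linear_combination e), zero_mul]) (by simp)]
  simp

theorem hh_pow : c.hh ^ 4 = 1 := by
  refine LinearEquiv.ext fun u => funext fun x => ?_
  show c.hh (c.hh (c.hh (c.hh u))) x = u x
  rw [hh_hh, hh_hh]
  simp

theorem hh_inU : InU c.hh := fun u v => by
  simp only [f, hh_apply, Fintype.sum_prod_type]
  rw [Finset.sum_comm]
  conv_rhs => rw [Finset.sum_comm]
  refine Finset.sum_congr rfl fun y _ => ?_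
  have : CharP F 2 := CharTwo.of_one_ne_zero_of_two_eq_zero one_ne_zero c.two
  simp only [CharTwo.sum_sq, mul_pow, c.χ_sq, Finset.sum_mul, Finset.mul_sum]
  rw [Finset.sum_comm]
  refine Finset.sum_congr rfl fun a _ => ?_
  rw [Finset.sum_comm]
  have hs : ∀ x a b : ZMod 3, x * a + -(x * b) = x * (a - b) := by decide
  have e : ∀ x b : ZMod 3, c.χ (x * b) * u (b, y) * (c.χ (-(x * a)) * v (a, y) ^ 2) =
      c.χ (x * (b - a)) * (u (b, y) * v (a, y) ^ 2) := fun x b => by
    rw [← hs, c.χ_add]; ring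
  simp only [e, ← Finset.sum_mul, c.χ_sum]
  rw [Finset.sum_eq_single a (fun b _ hb => by rw [if_neg (sub_ne_zero.2 hb), zero_mul]) (by simp)]
  simp

theorem hh_mem : c.hh ∈ G2 := ⟨c.hh_inU, det_eq_one_of_pow_four c c.hh_pow⟩

end C2

end Cfsg.Agent.Heis75
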