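import Cfsg.Agent.Lib.Heis75SU2Basic

/-!
The centraliser of the parity: reduction to the operators fixing the symmetric vectors, and a transvection
from a non-trivial such operator.
-/

set_option autoImplicit false
set_option linter.unusedSectionVars false
set_option linter.unusedSimpArgs false
set_option linter.unusedVariables false

namespace Cfsg.Agent.Heis75

open Matrix

variable {F : Type*} [Field F]

/-- The vector of a point. -/
abbrev e00 : Pt → F := Pi.single (0, 0) 1

theorem e00_P (j : Fin 4) : (e00 : Pt → F) (P j) = 0 :=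
  Pi.single_eq_of_ne (by revert j; decide) _

theorem e00_neg (j : Fin 4) : (e00 : Pt → F) (-P j) = 0 :=
  Pi.single_eq_of_ne (by revert j; decide) _

/-- The values at the chosen points. -/
def dnP : (Pt → F) →ₗ[F] (Fin 4 → F) := LinearMap.pi fun j => LinearMap.proj (P j)

/-- The transvection map of a vector. -/
def tvFun (w : Pt → F) (v : Pt → F) : Pt → F := v + f v w • w

theorem column_cases : ∀ (j : Fin 4) (s : Fin 4 → Bool), (∀ i < j, s i = false) →
    (Finset.univ.filter fun i => s i = true).card % 2 = 1 →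
    ∃ σ : Equiv.Perm (Fin 4), (∀ i < j, σ.symm i = i) ∧
      ((∀ i, s (σ.symm i) = decide (i = j)) ∨ (j.val ≤ 1 ∧ ∀ i, s (σ.symm i) = decide (i ≠ 0))) := by
  decide +kernel

theorem perm_pair : ∀ i j i' j' : Fin 4, i ≠ j → i' ≠ j' →
    ∃ σ : Equiv.Perm (Fin 4), σ.symm i' = i ∧ σ.symm j' = j := by
  decide +kernel

namespace C2

variable (c : C2 F)
include c

theorem column (j : Fin 4) (β : Fin 4 → F) (h0 : ∀ i < j, β i = 0) (h1 : bb β β = 1) :
    ∃ n, c.Good n ∧ Commute n tt ∧
      (∀ i < j, act n (Pi.single i 1) = Pi.single i 1) ∧ act n β = Pi.single j 1 := by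
  classical
  have he : ∀ i, ∃ k : ZMod 3, (β i = 0 → k = 0) ∧ c.χ k * β i = if β i = 0 then 0 else 1 := fun i => by
    by_cases hb : β i = 0
    · exact ⟨0, fun _ => rfl, by simp [hb]⟩
    · obtain ⟨a, ha⟩ := c.exists_χ (inv_ne_zero hb)
      exact ⟨a, fun h => absurd h hb, by rw [if_neg hb, ← ha, inv_mul_cancel₀ hb]⟩
  choose e he0 he1 using he
  let s : Fin 4 → Bool := fun i => decide (β i ≠ 0)
  have hcard : (Finset.univ.filter fun i => s i = true).card % 2 = 1 := by
    have h : bb β β = ((Finset.univ.filter fun i => s i = true).card : F) := by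
      rw [bb, Finset.natCast_card_filter]
      refine Finset.sum_congr rfl fun i _ => ?_
      by_cases hb : β i = 0
      · simp [s, hb]
      · simp only [s, hb, ne_eq, not_false_eq_true, decide_true, if_true]
        linear_combination c.cube_eq hb
    rw [h1] at h
    by_contra hne
    obtain ⟨k, hk⟩ : 2 ∣ (Finset.univ.filter fun i => s i = true).card := by omega
    rw [hk, Nat.cast_mul, show ((2 : ℕ) : F) = 0 by exact_mod_cast c.two, zero_mul] at h
    exact one_ne_zero h
  obtain ⟨σ, hσ, hcase⟩ := column_cases j s (fun i hi => by simp [s, h0 i hi]) hcard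
  have hR := (c.real_perm σ).comp c (c.real_diag e)
  obtain ⟨n, hn, hnt, hna⟩ := hR
  have hfix : ∀ i < j, act n (Pi.single i 1) = Pi.single i 1 := fun i hi => by
    rw [hna]
    funext l
    simp only [Function.comp_apply]
    by_cases hl : l = i
    · subst hl
      simp [hσ l hi, he0 l (h0 l hi)]
    · have : σ.symm l ≠ i := fun e => hl (by
        have := hσ i hi
        exact σ.symm.injective (e.trans this.symm))
      simp [this, hl]
  have hval : act n β = fun i => if s (σ.symm i) then 1 else 0 := by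
    rw [hna]
    funext i
    simp only [Function.comp_apply, he1, s]
    by_cases hb : β (σ.symm i) = 0 <;> simp [hb]
  rcases hcase with hs | ⟨hj, hs⟩
  · refine ⟨n, hn, hnt, hfix, hval.trans (funext fun i => ?_)⟩
    simp [hs, Pi.single_apply]
  · obtain ⟨m, hm, hmt, hma⟩ := (c.real_perm (Equiv.swap 1 j)).comp c c.real_fh
    refine ⟨m * n, hm.mul c hn, hmt.mul_left hnt, fun i hi => ?_, ?_⟩
    · rw [c.act_mul hmt, hfix i hi, hma]
      obtain rfl : j = 1 := Fin.ext (le_antisymm hj (by
        rw [Fin.val_one]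
        have : i.val < j.val := hi
        omega))
      obtain rfl : i = 0 := Fin.ext (by
        have : i.val < 1 := hi
        omega)
      funext l
      fin_cases l <;> simp [fh]
    · rw [c.act_mul hmt, hval, hma]
      have hv : c.fh (fun i => if s (σ.symm i) then (1 : F) else 0) = Pi.single 1 1 := by
        funext l
        fin_cases l <;> simp [fh, hs]
        · linear_combination c.two
        · linear_combination c.root
        · linear_combination c.root
      funext l
      simp only [Function.comp_apply, hv, Pi.single_apply, Equiv.symm_swap]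
      rcases eq_or_ne l j with rfl | hl
      · simp
      · rw [if_neg hl, if_neg]
        intro e
        have := (Equiv.swap_apply_eq_iff).1 e
        rw [Equiv.swap_apply_left] at this
        exact hl this

theorem act_one (α : Fin 4 → F) : act (1 : Vg F) α = α := dn_emb α

theorem adjust {g : Vg F} (hg : g ∈ G2) (hgt : Commute g tt) :
    ∃ n, c.Good n ∧ Commute n tt ∧ ∀ α, act (n * g) α = α := by
  suffices H : ∀ k : ℕ, k ≤ 4 → ∃ n, c.Good n ∧ Commute n tt ∧
      ∀ i : Fin 4, i.val < k → act (n * g) (Pi.single i 1) = Pi.single i 1 by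
    obtain ⟨n, hn, hnt, h⟩ := H 4 le_rfl
    refine ⟨n, hn, hnt, fun α => ?_⟩
    have : act (n * g) = (LinearMap.id : (Fin 4 → F) →ₗ[F] (Fin 4 → F)) :=
      LinearMap.pi_ext' fun i => LinearMap.ext_ring (h i i.isLt)
    rw [this]
    rfl
  intro k
  induction k with
  | zero => exact fun _ => ⟨1, c.good_one, Commute.one_left _, fun i hi => absurd hi (Nat.not_lt_zero _)⟩
  | succ k ih =>
    intro hk
    obtain ⟨n, hn, hnt, h⟩ := ih (by omega)
    have hng : Commute (n * g) tt := hnt.mul_left hgt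
    have hU : InU (n * g) := hn.1.1.mul hg.1
    let j : Fin 4 := ⟨k, by omega⟩
    have hz : ∀ i : Fin 4, i < j → act (n * g) (Pi.single j 1) i = 0 := fun i hi => by
      have := c.bb_act hng hU (Pi.single j 1) (Pi.single i 1)
      rw [h i hi, bb_single_right, bb_single_right, Pi.single_apply, if_neg (ne_of_lt hi), zero_mul,
        one_pow, mul_one] at this
      exact this
    obtain ⟨m, hm, hmt, hmfix, hmj⟩ := c.column j (act (n * g) (Pi.single j 1)) hz (by
      rw [c.bb_act hng hU, bb_single_left]; simp)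
    refine ⟨m * n, hm.mul c hn, hmt.mul_left hnt, fun i hi => ?_⟩
    rw [mul_assoc, c.act_mul hmt]
    rcases lt_or_eq_of_le (Nat.lt_succ_iff.1 hi) with hi | hi
    · rw [h i hi, hmfix i hi]
    · rw [show i = j from Fin.ext hi, hmj]

theorem fix_wv {x : Vg F} (hx : Commute x tt) (h : ∀ α, act x α = α) (α : Fin 4 → F) : x (wv α) = wv α := by
  rw [c.g_wv hx, h]

/-! ### Operators fixing the symmetric vectors -/

theorem decomp {z : Pt → F} (h : dn z = 0) : z = z (0, 0) • e00 + wv (fun j => z (P j)) := by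
  refine pt_ext ?_ (fun j => ?_) (fun j => ?_)
  · simp [wv_zero]
  · rw [Pi.add_apply, Pi.smul_apply, wv_P, e00_P, smul_zero, zero_add]
  · rw [Pi.add_apply, Pi.smul_apply, wv_neg, e00_neg, smul_zero, zero_add]
    exact (c.eq_of_add (congrFun h j)).symm

theorem dn_e00 : dn (e00 : Pt → F) = 0 := funext fun j => by
  rw [dn_apply, e00_P, e00_neg, add_zero, Pi.zero_apply]

theorem uni {y : Vg F} (hw : ∀ α, y (wv α) = wv α) (hd : ∀ u, dn (y u) = dn u) (a : Fin 4 → F)
    (he : y e00 = e00 + wv a) (u : Pt → F) : y (y u) = u + (y u (0, 0) + u (0, 0)) • wv a := by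
  have hz : dn (y u + u) = 0 := by
    rw [map_add, hd]
    exact funext fun j => c.add_self _
  have e := c.decomp hz
  set k := (y u + u) (0, 0) with hk
  set γ : Fin 4 → F := fun j => (y u + u) (P j)
  have hyu : y u = u + (k • e00 + wv γ) := by
    rw [← e]
    funext x
    simp only [Pi.add_apply]
    linear_combination -(u x) * c.two
  conv_lhs => rw [hyu, map_add, map_add, map_smul, he, hw, hyu]
  rw [show y u (0, 0) + u (0, 0) = k from rfl]
  funext x
  simp only [Pi.add_apply, Pi.smul_apply, smul_eq_mul]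
  linear_combination (k * (e00 : Pt → F) x + wv γ x) * c.two

theorem pow_four_uni {y : Vg F} (hw : ∀ α, y (wv α) = wv α) (hd : ∀ u, dn (y u) = dn u) (a : Fin 4 → F)
    (he : y e00 = e00 + wv a) : y ^ 4 = 1 := by
  refine LinearEquiv.ext fun u => ?_
  show y (y (y (y u))) = u
  rw [c.uni hw hd a he u, map_add, map_smul, hw, map_add, map_smul, hw, c.uni hw hd a he u]
  funext x
  simp only [Pi.add_apply, Pi.smul_apply, smul_eq_mul]
  linear_combination ((y u (0, 0) + u (0, 0)) * wv a x) * c.two

/-- The operator of a matrix on the pairs. -/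
def xi (H : Matrix (Fin 4) (Fin 4) F) : Vg F :=
  LinearEquiv.ofInvolutive (LinearMap.id + wv ∘ₗ H.mulVecLin ∘ₗ dn) fun u => by
    simp only [LinearMap.add_apply, LinearMap.id_apply, LinearMap.comp_apply, map_add, c.dn_wv,
      map_zero, add_zero]
    funext x
    simp only [Pi.add_apply]
    linear_combination (wv (H.mulVecLin (dn u)) x) * c.two

theorem xi_apply (H : Matrix (Fin 4) (Fin 4) F) (u : Pt → F) : c.xi H u = u + wv (H *ᵥ dn u) := rfl

theorem xi_mul (H K : Matrix (Fin 4) (Fin 4) F) : c.xi H * c.xi K = c.xi (H + K) :=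
  LinearEquiv.ext fun u => by
    rw [LinearEquiv.mul_apply, xi_apply, xi_apply, xi_apply, map_add, c.dn_wv, add_zero, Matrix.add_mulVec,
      map_add]
    abel

theorem xi_zero : c.xi 0 = 1 := LinearEquiv.ext fun u => by
  rw [xi_apply, Matrix.zero_mulVec, map_zero, add_zero]
  rfl

theorem xi_one : c.xi 1 = tt := LinearEquiv.ext fun u => by
  rw [xi_apply, Matrix.one_mulVec, c.wv_dn]
  funext x
  simp only [Pi.add_apply]
  linear_combination u x * c.two

theorem xi_herm {H : Matrix (Fin 4) (Fin 4) F} (h : InU (c.xi H)) (i j : Fin 4) : H i j = H j i ^ 2 := by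
  have e := h (emb (Pi.single j 1)) (emb (Pi.single i 1))
  rw [xi_apply, xi_apply, dn_emb, dn_emb, f_add_left, f_add_right c, f_add_right c, f_wv, dn_emb,
    f_wv, c.dn_wv, f_symm c (wv (H *ᵥ Pi.single j 1)) (emb (Pi.single i 1)), f_wv, dn_emb,
    bb_single_left, bb_single_left] at e
  simp only [Matrix.mulVec_single_one, Matrix.col_apply, one_mul, bb, Pi.zero_apply, zero_mul,
    Finset.sum_const_zero, add_zero] at e
  rw [c.pow_four, add_assoc] at e
  have := add_eq_left.1 e
  exact (c.eq_of_add (by linear_combination this)).symm.symm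

/-- The overgroups. -/
def Over (M : Subgroup (Vg F)) : Prop := M ≤ G2 ∧ ∀ g, c.Good g → g ∈ M

variable {M : Subgroup (Vg F)}

/-- A non-trivial matrix in the overgroup. -/
theorem exists_xi (hM : c.Over M) {x : Vg F} (hx : x ∈ M) (hxt : Commute x tt) (hw : ∀ α, x (wv α) = wv α)
    (h1 : x ≠ 1) (ht : x ≠ tt) : ∃ H, c.xi H ∈ M ∧ H ≠ 0 ∧ H ≠ 1 := by
  classical
  have hd : ∀ u, dn (x u) = dn u := fun u => wv_inj (by rw [c.dn_comm hxt, hw])
  have hU : InU x := (hM.1 hx).1
  set a : Fin 4 → F := fun j => x e00 (P j) with ha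
  set lam := x e00 (0, 0) with hlam
  have hxe : x e00 = lam • e00 + wv a := c.decomp (by rw [hd, c.dn_e00])
  have hl0 : lam ≠ 0 := fun h0 => by
    have h := hU e00 e00
    rw [hxe, h0, zero_smul, zero_add, f_wv, c.dn_wv] at h
    simp [bb, f_single_left] at h
  obtain ⟨κ, hκ⟩ := c.exists_χ hl0
  have hlam1 : lam = 1 := by
    let d := c.dg fun p => if p = (0, 0) then -κ else 0
    have hdP : ∀ u, dn (d u) = dn u := fun u => funext fun j => by
      rw [dn_apply, dn_apply, dg_apply, dg_apply, if_neg (by revert j; decide), if_neg (by revert j; decide),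
        c.χ_zero, one_mul, one_mul]
    have hdw : ∀ α, d (wv α) = wv α := fun α => by
      refine pt_ext ?_ (fun j => ?_) (fun j => ?_)
      · rw [dg_apply, wv_zero, mul_zero]
      · rw [dg_apply, if_neg (by revert j; decide), c.χ_zero, one_mul]
      · rw [dg_apply, if_neg (by revert j; decide), c.χ_zero, one_mul]
    have hde : d e00 = c.χ (-κ) • e00 := funext fun p => by
      rw [dg_apply, Pi.smul_apply, smul_eq_mul]
      by_cases hp : p = (0, 0) <;> simp [hp]
    have h4 : (d * x) ^ 4 = 1 := by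
      refine c.pow_four_uni (fun α => ?_) (fun u => ?_) a ?_
      · rw [LinearEquiv.mul_apply, hw, hdw]
      · rw [LinearEquiv.mul_apply, hdP, hd]
      · rw [LinearEquiv.mul_apply, hxe, map_add, map_smul, hde, hdw, smul_smul, hκ, ← c.χ_add,
          add_neg_cancel, c.χ_zero, one_smul]
    have h5 := det_eq_one_of_pow_four c h4
    rw [map_mul, (hM.1 hx).2, mul_one] at h5
    have h6 := congrArg (fun u : Fˣ => (u : F)) h5
    simp only [d, c.dg_det, Finset.sum_ite_eq', Finset.mem_univ, if_true, Units.val_one] at h6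
    rw [hκ, show κ = 0 from neg_eq_zero.1 (c.χ_eq_one h6), c.χ_zero]
  rw [hlam1, one_smul] at hxe
  have hc : ∀ u, x u (0, 0) + u (0, 0) = bb (dn u) a := fun u => by
    have h := hU u e00
    rw [hxe, f_add_right c, f_wv, hd, f_symm c _ e00, f_symm c _ e00, f_single_left, f_single_left, one_mul,
      one_mul, c.pow_four, c.pow_four] at h
    linear_combination -h + x u (0, 0) * c.two
  by_cases ha0 : a = 0
  · rw [ha0, map_zero, add_zero] at hxe
    let γ : (Pt → F) → (Fin 4 → F) := fun u j => (x u + u) (P j)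
    have hu : ∀ u, x u = u + wv (γ u) := fun u => by
      have hz : dn (x u + u) = 0 := by
        rw [map_add, hd]
        exact funext fun j => c.add_self _
      have e := c.decomp hz
      rw [Pi.add_apply, hc, ha0] at e
      simp only [bb, Pi.zero_apply, ne_eq, OfNat.ofNat_ne_zero, not_false_eq_true, zero_pow, mul_zero,
        Finset.sum_const_zero, zero_smul, zero_add] at e
      show x u = u + wv fun j => (x u + u) (P j)
      rw [← e]
      funext p
      simp only [Pi.add_apply]
      linear_combination -(u p) * c.two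
    have hfix : ∀ u, dn u = 0 → x u = u := fun u h => by
      rw [c.decomp h, map_add, map_smul, hxe, hw]
    let H : Matrix (Fin 4) (Fin 4) F :=
      LinearMap.toMatrix' (dnP ∘ₗ ((x : (Pt → F) →ₗ[F] (Pt → F)) + LinearMap.id) ∘ₗ emb)
    have hH : x = c.xi H := LinearEquiv.ext fun u => by
      have h0 : x u = x (emb (dn u)) + (u - emb (dn u)) := by
        have h := map_add x (emb (dn u)) (u - emb (dn u))
        rw [add_sub_cancel, hfix (u - emb (dn u)) (by rw [map_sub, dn_emb, sub_self])] at h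
        exact h
      rw [xi_apply, show H *ᵥ dn u = γ (emb (dn u)) by
        rw [← Matrix.toLin'_apply, Matrix.toLin'_toMatrix']; funext i; simp [dnP, γ], h0, hu]
      abel
    refine ⟨H, hH ▸ hx, fun e => h1 ?_, fun e => ht ?_⟩
    · rw [hH, e, c.xi_zero]
    · rw [hH, e, c.xi_one]
  · obtain ⟨i, hi⟩ := Function.ne_iff.1 ha0
    refine ⟨Matrix.of fun k l => a k * a l ^ 2, ?_, ?_, ?_⟩
    · have : c.xi (Matrix.of fun k l => a k * a l ^ 2) = x * x := LinearEquiv.ext fun u => by
        rw [xi_apply, LinearEquiv.mul_apply, c.uni hw hd a hxe, hc, ← map_smul]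
        congr 2
        funext k
        simp only [Matrix.mulVec, dotProduct, Matrix.of_apply, Pi.smul_apply, smul_eq_mul, bb, Finset.sum_mul]
        exact Finset.sum_congr rfl fun l _ => by ring
      rw [this]
      exact mul_mem hx hx
    · intro e
      have := congrFun (congrFun e i) i
      simp only [Matrix.of_apply, Matrix.zero_apply] at this
      exact absurd this (mul_ne_zero hi (pow_ne_zero _ hi))
    · intro e
      obtain ⟨k, hk⟩ : ∃ k : Fin 4, k ≠ i := ⟨i + 1, (by decide : ∀ i : Fin 4, i + 1 ≠ i) i⟩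
      have e1 := congrFun (congrFun e k) i
      have e2 := congrFun (congrFun e k) k
      rw [Matrix.of_apply, Matrix.one_apply_ne hk, mul_eq_zero, pow_eq_zero_iff (by norm_num)] at e1
      rw [Matrix.of_apply, Matrix.one_apply_eq, e1.resolve_right hi, zero_mul] at e2
      exact zero_ne_one e2

theorem xi_add (hM : c.Over M) {H K : Matrix (Fin 4) (Fin 4) F} (hH : c.xi H ∈ M) (hK : c.xi K ∈ M) :
    c.xi (H + K) ∈ M := c.xi_mul H K ▸ mul_mem hH hK

theorem xi_conj (hM : c.Over M) {T : (Fin 4 → F) → Fin 4 → F} (hT : c.Real T)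
    {H K : Matrix (Fin 4) (Fin 4) F} (hHK : ∀ α, T (H *ᵥ α) = K *ᵥ T α) (hH : c.xi H ∈ M) : c.xi K ∈ M := by
  obtain ⟨n, hn, hnt, hna⟩ := hT
  have : c.xi K = n * c.xi H * n⁻¹ := by
    rw [eq_mul_inv_iff_mul_eq]
    refine LinearEquiv.ext fun u => ?_
    rw [LinearEquiv.mul_apply, LinearEquiv.mul_apply, xi_apply, xi_apply, map_add, c.g_wv hnt, c.dn_g hnt,
      hna, hna, hHK]
  rw [this]
  exact mul_mem (mul_mem (hM.2 n hn) hH) (inv_mem (hM.2 n hn))

/-- The matrix of the Fourier map on the pairs. -/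
def Fh : Matrix (Fin 4) (Fin 4) F :=
  !![1, 0, 0, 0; 0, 1, 1, 1; 0, 1, c.ω, c.ω ^ 2; 0, 1, c.ω ^ 2, c.ω]

/-- Its inverse. -/
def Fi : Matrix (Fin 4) (Fin 4) F :=
  !![1, 0, 0, 0; 0, 1, 1, 1; 0, 1, c.ω ^ 2, c.ω; 0, 1, c.ω, c.ω ^ 2]

theorem Fh_mulVec (α : Fin 4 → F) : c.Fh *ᵥ α = c.fh α := by
  funext i
  fin_cases i <;> simp [Fh, fh, Matrix.mulVec, dotProduct, Fin.sum_univ_four]

theorem Fi_Fh : c.Fi * c.Fh = 1 := by
  ext i j
  fin_cases i <;> fin_cases j <;> simp [Fi, Fh, Matrix.mul_apply, Fin.sum_univ_four] <;>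
    first
      | linear_combination c.two
      | linear_combination c.root
      | linear_combination c.ω ^ 3 * c.two
      | linear_combination c.root + c.ω * c.cube

theorem xi_fh (hM : c.Over M) {H : Matrix (Fin 4) (Fin 4) F} (hH : c.xi H ∈ M) :
    c.xi (c.Fh * H * c.Fi) ∈ M :=
  c.xi_conj hM c.real_fh (fun α => by
    rw [← c.Fh_mulVec, ← c.Fh_mulVec, Matrix.mulVec_mulVec, Matrix.mulVec_mulVec, mul_assoc _ c.Fi, c.Fi_Fh,
      mul_one]) hH

theorem xi_diag (hM : c.Over M) {H : Matrix (Fin 4) (Fin 4) F} (hH : c.xi H ∈ M) (e : Fin 4 → ZMod 3) :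
    c.xi (Matrix.of fun i j => c.χ (e i - e j) * H i j) ∈ M :=
  c.xi_conj hM (c.real_diag e) (fun α => funext fun i => by
    simp only [Matrix.mulVec, dotProduct, Matrix.of_apply, Finset.mul_sum]
    exact Finset.sum_congr rfl fun j _ => by rw [← c.χ_sub (e i) (e j)]; ring) hH

theorem xi_perm (hM : c.Over M) {H : Matrix (Fin 4) (Fin 4) F} (hH : c.xi H ∈ M) (σ : Equiv.Perm (Fin 4)) :
    c.xi (H.submatrix σ.symm σ.symm) ∈ M :=
  c.xi_conj hM (c.real_perm σ) (fun α => funext fun i => by
    simp only [Matrix.mulVec, dotProduct, Matrix.submatrix_apply]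
    exact (Equiv.sum_comp σ.symm fun j => H (σ.symm i) j * α j).symm) hH

/-- The matrix of a pair. -/
def Pr (i j : Fin 4) (a : F) : Matrix (Fin 4) (Fin 4) F :=
  Matrix.of fun k l => if k = i ∧ l = j then a else if k = j ∧ l = i then a ^ 2 else 0

theorem pair_of_off (hM : c.Over M) {H : Matrix (Fin 4) (Fin 4) F} (hH : c.xi H ∈ M) {i j : Fin 4}
    (hij : i ≠ j) (h : H i j ≠ 0) (k l : Fin 4) (hkl : k ≠ l) (a : F) : c.xi (Pr k l a) ∈ M := by
  classical
  have hh := c.xi_herm (hM.1 hH).1 j i
  have h1 := c.xi_add hM hH (c.xi_diag hM hH (Pi.single i 1))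
  have h2 := c.xi_add hM h1 (c.xi_diag hM h1 (Pi.single j 1))
  have e : H + (Matrix.of fun p q => c.χ ((Pi.single i 1 : Fin 4 → ZMod 3) p - (Pi.single i 1 : Fin 4 → ZMod 3) q) * H p q) +
      (Matrix.of fun p q => c.χ ((Pi.single j 1 : Fin 4 → ZMod 3) p - (Pi.single j 1 : Fin 4 → ZMod 3) q) *
        (H + Matrix.of fun p q => c.χ ((Pi.single i 1 : Fin 4 → ZMod 3) p - (Pi.single i 1 : Fin 4 → ZMod 3) q) * H p q) p q) =
      Pr i j (H i j) := by
    ext p q
    have h0 : (1 : F) + 1 = 0 := c.add_self 1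
    have h12 : (1 + c.χ 1) * (1 + c.χ 2) = 1 := by
      rw [c.χ_one, c.χ_two]
      linear_combination c.root + c.cube
    have h21 : (1 + c.χ 2) * (1 + c.χ 1) = 1 := by rw [mul_comm, h12]
    set ei : Fin 4 → ZMod 3 := Pi.single i 1
    set ej : Fin 4 → ZMod 3 := Pi.single j 1
    have hgen : ∀ a b x : F, x + a * x + b * (x + a * x) = (1 + b) * (1 + a) * x := fun a b x => by ring
    simp only [Matrix.add_apply, Matrix.of_apply, Pr, hgen]
    simp only [ei, ej, Pi.single_apply]
    have hm : (-1 : ZMod 3) = 2 := rfl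
    by_cases hpi : p = i <;> by_cases hqi : q = i <;> by_cases hpj : p = j <;> by_cases hqj : q = j <;>
      simp_all
  rw [e] at h2
  have h3 : ∀ b, c.xi (Pr i j b) ∈ M := fun b => by
    rcases eq_or_ne b 0 with rfl | hb
    · rw [show Pr i j (0 : F) = 0 by ext p q; simp [Pr], c.xi_zero]
      exact one_mem _
    obtain ⟨t, ht⟩ := c.exists_χ (mul_ne_zero hb (inv_ne_zero h))
    have := c.xi_diag hM h2 (Pi.single i t)
    convert this using 2
    ext p q
    simp only [Matrix.of_apply, Pr]
    have hb' : b = c.χ t * H i j := by rw [← ht, mul_assoc, inv_mul_cancel₀ h, mul_one]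
    split_ifs with h5 h6
    · obtain ⟨rfl, rfl⟩ := h5
      simp [hij.symm, hb']
    · obtain ⟨rfl, rfl⟩ := h6
      simp [hij.symm, hb', mul_pow, c.χ_sq]
    · rw [mul_zero]
  obtain ⟨σ, hσi, hσj⟩ := perm_pair i j k l hij hkl
  convert c.xi_perm hM (h3 a) σ using 2
  ext p q
  simp only [Pr, Matrix.of_apply, Matrix.submatrix_apply, ← hσi, ← hσj, σ.symm.injective.eq_iff]

theorem all_pairs (hM : c.Over M) {H : Matrix (Fin 4) (Fin 4) F} (hH : c.xi H ∈ M) (h0 : H ≠ 0) (h1 : H ≠ 1)
    (k l : Fin 4) (hkl : k ≠ l) (a : F) : c.xi (Pr k l a) ∈ M := by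
  classical
  by_cases hoff : ∃ i j, i ≠ j ∧ H i j ≠ 0
  · obtain ⟨i, j, hij, h⟩ := hoff
    exact c.pair_of_off hM hH hij h k l hkl a
  push Not at hoff
  have hd : ∀ i, H i i = 0 ∨ H i i = 1 := fun i => by
    rcases eq_or_ne (H i i) 0 with h | h
    · exact Or.inl h
    · exact Or.inr (mul_right_cancel₀ h (by rw [one_mul]; linear_combination -c.xi_herm (hM.1 hH).1 i i))
  let d : Fin 4 → Bool := fun i => decide (H i i = 1)
  have hD : H = Matrix.diagonal fun i => if d i then 1 else 0 := by
    ext i j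
    rcases eq_or_ne i j with rfl | hij
    · rw [Matrix.diagonal_apply_eq]
      rcases hd i with h | h <;> simp [d, h]
    · rw [Matrix.diagonal_apply_ne _ hij, hoff i j hij]
  have hne : ∃ i, d i ≠ d 0 := by
    by_contra hc
    push Not at hc
    rcases hb : d 0 with _ | _
    · exact h0 (hD.trans (by ext i j; simp [hc, hb, Matrix.diagonal_apply]))
    · exact h1 (hD.trans (by simp [hc, hb]))
  obtain ⟨σ, hσ⟩ : ∃ σ : Equiv.Perm (Fin 4), ¬ (d (σ.symm 1) = d (σ.symm 2) ∧ d (σ.symm 2) = d (σ.symm 3)) := by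
    revert hne
    generalize d = d
    revert d
    decide +kernel
  have hK := c.xi_fh hM (c.xi_perm hM hH σ)
  refine c.pair_of_off hM hK (show (1 : Fin 4) ≠ 2 by decide) ?_ k l hkl a
  rw [hD, Matrix.submatrix_diagonal _ _ σ.symm.injective]
  simp [Matrix.mul_apply, Fin.sum_univ_four, Fh, Fi, Matrix.vecMul_diagonal, Matrix.diagonal_apply,
    Function.comp_apply]
  revert hσ
  have hw0 := c.ne_zero
  cases d (σ.symm 1) <;> cases d (σ.symm 2) <;> cases d (σ.symm 3) <;> simp [hw0] <;>
    intro h <;>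
    first
      | exact hw0 (by linear_combination h)
      | exact hw0 (by linear_combination c.root - h)
      | exact one_ne_zero (α := F) (by linear_combination c.root - h)
      | exact c.ne_one (by linear_combination h - c.two)

/-- A transvection in the overgroup. -/
theorem exists_transvection (hM : c.Over M) {x : Vg F} (hx : x ∈ M) (hxt : Commute x tt)
    (hw : ∀ α, x (wv α) = wv α) (h1 : x ≠ 1) (ht : x ≠ tt) :
    ∃ g ∈ M, ∀ v, g v = tvFun (wv ![0, 0, 1, 1]) v := by
  obtain ⟨H, hH, h0, h1⟩ := c.exists_xi hM hx hxt hw h1 ht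
  have hP := c.all_pairs hM hH h0 h1
  have hK := c.xi_fh hM (hP 1 2 (by decide) 1)
  have hE := c.xi_add hM (c.xi_add hM (c.xi_add hM hK (hP 1 2 (by decide) c.ω))
    (hP 1 3 (by decide) (c.ω ^ 2))) (hP 2 3 (by decide) 1)
  have hEq : c.Fh * Pr 1 2 1 * c.Fi + Pr 1 2 c.ω + Pr 1 3 (c.ω ^ 2) + Pr 2 3 1 =
      Matrix.of fun i j => (![0, 0, 1, 1] : Fin 4 → F) i * (![0, 0, 1, 1] : Fin 4 → F) j := by
    ext i j
    simp only [Matrix.add_apply, Matrix.mul_apply, Fin.sum_univ_four, Matrix.of_apply, Pr]
    fin_cases i <;> fin_cases j <;> simp +decide [Fh, Fi] <;>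
      first
        | linear_combination c.two
        | linear_combination c.root
        | linear_combination c.root + c.ω * c.cube
        | linear_combination c.root - c.two
        | linear_combination c.ω * c.two
        | linear_combination c.ω ^ 2 * c.two
  rw [hEq] at hE
  refine ⟨_, hE, fun v => ?_⟩
  rw [xi_apply, tvFun, f_wv, ← map_smul]
  congr 2
  funext i
  simp only [Matrix.mulVec, dotProduct, Matrix.of_apply, Pi.smul_apply, smul_eq_mul, bb, Finset.sum_mul]
  refine Finset.sum_congr rfl fun j _ => ?_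
  fin_cases i <;> fin_cases j <;> simp

end C2

end Cfsg.Agent.Heis75
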