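import Cfsg.Agent.Lib.Heis75SU2Herm

/-!
An overgroup containing one transvection of the centraliser of the parity contains all transvections.
-/

set_option autoImplicit false
set_option linter.unusedSectionVars false
set_option linter.unusedSimpArgs false
set_option linter.unusedVariables false

namespace Cfsg.Agent.Heis75

variable {F : Type*} [Field F]

theorem exists_line : ∀ d : Pt, d ≠ 0 → ∃ l : L4, ldet l ≠ 0 ∧ lap l (2, 2) = d := by
  decide +kernel

theorem exists_clock : ∀ d : Pt, d ≠ 0 → ∀ k : ZMod 3, ∃ b : Pt, dot b d = k := by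
  decide +kernel

namespace C2

variable (c : C2 F)
include c

omit c in
/-- Vectors whose transvection lies in the overgroup. -/
def Cen (M : Subgroup (Vg F)) (w : Pt → F) : Prop :=
  f w w = 0 ∧ ∃ g ∈ M, ∀ v, g v = tvFun w v

/-- The vector of two points. -/
def ps (x y : Pt) (a : F) : Pt → F := Pi.single x 1 + Pi.single y a

variable {M : Subgroup (Vg F)}

theorem cen_map (hM : c.Over M) {w : Pt → F} (hw : Cen M w) {g : Vg F} (hg : g ∈ M) : Cen M (g w) := by
  obtain ⟨h0, t, ht, htv⟩ := hw
  have hU := (hM.1 hg).1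
  refine ⟨by rw [hU, h0], g * t * g⁻¹, mul_mem (mul_mem hg ht) (inv_mem hg), fun v => ?_⟩
  have e : g (g.symm v) = v := g.apply_symm_apply v
  show g (t (g.symm v)) = _
  rw [htv, tvFun, map_add, map_smul, e, tvFun]
  congr 2
  rw [← hU, e]

theorem cen_smul {w : Pt → F} (hw : Cen M w) {a : F} (ha : a ≠ 0) : Cen M (a • w) := by
  obtain ⟨h0, t, ht, htv⟩ := hw
  refine ⟨by rw [f_smul_left, f_smul_right, h0, mul_zero, mul_zero], t, ht, fun v => ?_⟩
  rw [htv, tvFun, tvFun, f_smul_right, smul_smul]
  congr 2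
  linear_combination (-f v w) * c.cube_eq ha

theorem cen_step (hM : c.Over M) {w v : Pt → F} (hw : Cen M w) (hv : Cen M v) : Cen M (tvFun w v) := by
  obtain ⟨h0, t, ht, htv⟩ := hw
  rw [← htv]
  exact c.cen_map hM hv ht

theorem cen_start (hM : c.Over M) (h : ∃ g ∈ M, ∀ v, g v = tvFun (wv ![0, 0, 1, 1]) v) :
    Cen M (Pi.single (0, 2) 1 + Pi.single (2, 1) 1 : Pt → F) := by
  classical
  have hs : Cen M (wv (![0, 0, 1, 1] : Fin 4 → F)) := ⟨by rw [f_wv, c.dn_wv]; simp [bb], h⟩
  obtain ⟨n, hn, hnt, hna⟩ := c.real_perm (Equiv.swap 0 2 * Equiv.swap 1 3)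
  have hv : Cen M (Pi.single (1, 0) 1 + Pi.single (2, 0) 1 + Pi.single (0, 1) 1 + Pi.single (0, 2) 1 : Pt → F) := by
    have h1 := c.cen_map hM hs (hM.2 n hn)
    rw [c.g_wv hnt, hna] at h1
    have hσ : ∀ i, (Equiv.swap 0 2 * Equiv.swap 1 3 : Equiv.Perm (Fin 4)).symm i = ![2, 3, 0, 1] i := by
      decide +kernel
    simp only [hσ] at h1
    have e : ∀ j, ((-P j : Pt) = ![(2, 0), (0, 2), (2, 2), (2, 1)] j) := by decide
    convert h1 using 1
    refine pt_ext ?_ (fun j => ?_) (fun j => ?_)
    · rw [wv_zero]; simp +decide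
    · rw [wv_P]; fin_cases j <;> simp +decide [P]
    · rw [wv_neg, e]; fin_cases j <;> simp +decide [P]
  have hg := hM.2 _ (c.aff_good (0, 1, 1, 2) (2, 2) (by decide))
  have hw := c.cen_map hM hv hg
  simp only [map_add, pm_single] at hw
  rw [show aff (0, 1, 1, 2) (2, 2) (by decide) (1, 0) = ((2, 0) : Pt) by decide,
    show aff (0, 1, 1, 2) (2, 2) (by decide) (2, 0) = ((2, 1) : Pt) by decide,
    show aff (0, 1, 1, 2) (2, 2) (by decide) (0, 1) = ((0, 1) : Pt) by decide,
    show aff (0, 1, 1, 2) (2, 2) (by decide) (0, 2) = ((1, 0) : Pt) by decide] at hw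
  convert c.cen_step hM hw hv using 1
  simp only [tvFun, f_add_left, f_single_left, Pi.add_apply, Pi.smul_apply, Pi.single_apply]
  simp +decide
  funext x
  simp only [Pi.add_apply, Pi.smul_apply, smul_eq_mul]
  linear_combination -(((Pi.single (1, 0) 1 : Pt → F) x + (Pi.single (2, 0) 1 : Pt → F) x +
    (Pi.single (0, 1) 1 : Pt → F) x) * 2 + (Pi.single (2, 1) 1 : Pt → F) x) * c.two

theorem cen_pair (hM : c.Over M) (h : ∃ g ∈ M, ∀ v, g v = tvFun (wv ![0, 0, 1, 1]) v) {x y : Pt} (hxy : x ≠ y)
    {a : F} (ha : a ≠ 0) : Cen M (ps x y a) := by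
  classical
  obtain ⟨l, hl, hld⟩ := exists_line (y - x) (sub_ne_zero.2 hxy.symm)
  have h1 := c.cen_map hM (c.cen_start hM h) (hM.2 _ (c.aff_good l (x - lap l (0, 2)) hl))
  rw [map_add, pm_single, pm_single] at h1
  have ex : aff l (x - lap l (0, 2)) hl (0, 2) = x := add_sub_cancel _ _
  have ey : aff l (x - lap l (0, 2)) hl (2, 1) = y := by
    show lap l (2, 1) + (x - lap l (0, 2)) = y
    have : lap l (2, 1) - lap l (0, 2) = y - x := by
      rw [← lap_sub, show ((2, 1) : Pt) - (0, 2) = (2, 2) by decide, hld]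
    rw [add_sub, add_comm (lap l (2, 1)), ← add_sub, this, add_sub_cancel]
  rw [ex, ey] at h1
  obtain ⟨k, hk⟩ := c.exists_χ ha
  obtain ⟨b, hb⟩ := exists_clock (y - x) (sub_ne_zero.2 hxy.symm) k
  have h2 := c.cen_smul (c.cen_map hM h1 (hM.2 _ (c.W_good (0, 0) b))) (c.χ_ne (-dot b x))
  convert h2 using 1
  funext z
  simp only [ps, Pi.smul_apply, smul_eq_mul, W_apply, Pi.add_apply, show z - ((0, 0) : Pt) = z from sub_zero z,
    ← mul_assoc, ← c.χ_add]
  rcases eq_or_ne z x with rfl | hzx
  · simp [hxy]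
  rcases eq_or_ne z y with rfl | hzy
  · rw [show -dot b x + dot b z = k by rw [← hb, dot_sub]; ring, hk]
    simp [hzx]
  · simp [hzx, hzy]

theorem cen_move (hM : c.Over M) (h : ∃ g ∈ M, ∀ v, g v = tvFun (wv ![0, 0, 1, 1]) v) {v : Pt → F}
    (hv : Cen M v) {x y : Pt} (hx : v x ≠ 0) (hy : v y = 0) {a : F} (ha : a ≠ 0) :
    Cen M (fun z => if z = y then a else if z = x then 0 else v z) := by
  classical
  have hxy : x ≠ y := fun e => hx (e ▸ hy)
  have hl : a * (v x)⁻¹ ≠ 0 := mul_ne_zero ha (inv_ne_zero hx)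
  convert c.cen_step hM (c.cen_pair hM h hxy hl) hv using 1
  funext z
  have hf : f v (ps x y (a * (v x)⁻¹)) = v x := by
    rw [ps, f_add_right c, f_symm c v, f_symm c v, f_single_left, f_single_left, hy]
    simp [c.pow_four]
  rw [tvFun, hf, Pi.add_apply, Pi.smul_apply, smul_eq_mul, ps, Pi.add_apply]
  rcases eq_or_ne z y with rfl | hzy
  · simp [hy, hxy.symm]
    field_simp
  rcases eq_or_ne z x with rfl | hzx
  · simp [hzy, c.add_self]
  · simp [hzy, hzx]

omit c in
theorem card_supp (c : C2 F) [DecidableEq F] (u : Pt → F) :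
    f u u = ((Finset.univ.filter fun z => u z ≠ 0).card : F) := by
  rw [f, Finset.natCast_card_filter]
  refine Finset.sum_congr rfl fun i _ => ?_
  by_cases hb : u i = 0
  · simp [hb]
  · rw [if_pos hb]; linear_combination c.cube_eq hb

theorem cen_four [DecidableEq F] (hM : c.Over M) (h : ∃ g ∈ M, ∀ v, g v = tvFun (wv ![0, 0, 1, 1]) v) (n : ℕ) :
    ∀ u v : Pt → F, Cen M v → (Finset.univ.filter fun z => v z ≠ 0).card = 4 →
      (Finset.univ.filter fun z => u z ≠ 0).card = 4 → (Finset.univ.filter fun z => v z ≠ u z).card ≤ n →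
      Cen M u := by
  induction n with
  | zero =>
    intro u v hv _ _ hd
    rw [Nat.le_zero, Finset.card_eq_zero, Finset.filter_eq_empty_iff] at hd
    rwa [show u = v from funext fun z => (not_not.1 (hd (Finset.mem_univ z))).symm]
  | succ n ih =>
    intro u v hv hv4 hu4 hd
    have hfin : ∀ v' : Pt → F, Cen M v' → (Finset.univ.filter fun z => v' z ≠ 0).card = 4 →
        ∀ p, v p ≠ u p → v' p = u p → (∀ z, v z = u z → v' z = u z) → Cen M u := fun v' h1 h2 p hp hp' h3 => by
      refine ih u v' h1 h2 hu4 ?_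
      have : (Finset.univ.filter fun z => v' z ≠ u z) ⊂ (Finset.univ.filter fun z => v z ≠ u z) := by
        refine (Finset.ssubset_iff_of_subset fun z hz => ?_).2 ⟨p, by simp [hp], by simp [hp']⟩
        simp only [Finset.mem_filter, Finset.mem_univ, true_and] at hz ⊢
        exact fun e => hz (h3 z e)
      have := Finset.card_lt_card this
      omega
    have hcard : ∀ (w : Pt → F) (x y : Pt) (b : F), w x ≠ 0 → w y = 0 → b ≠ 0 →
        (Finset.univ.filter fun z => (if z = y then b else if z = x then 0 else w z) ≠ 0).card =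
          (Finset.univ.filter fun z => w z ≠ 0).card := fun w x y b hx hy hb => by
      have e : (Finset.univ.filter fun z => (if z = y then b else if z = x then 0 else w z) ≠ 0) =
          insert y ((Finset.univ.filter fun z => w z ≠ 0).erase x) := by
        ext z
        by_cases hzy : z = y <;> by_cases hzx : z = x <;> simp [hzy, hzx, hb]
      rw [e, Finset.card_insert_of_notMem (by simp [hy]),
        Finset.card_erase_of_mem (by simp [hx]), Nat.sub_add_cancel]
      exact Finset.card_pos.2 ⟨x, by simp [hx]⟩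
    by_cases heq : ∀ z, v z = u z
    · rwa [show u = v from (funext heq).symm]
    by_cases hsupp : ∃ y, u y ≠ 0 ∧ v y = 0
    · obtain ⟨y, hy, hvy⟩ := hsupp
      obtain ⟨x, hvx, hux⟩ : ∃ x, v x ≠ 0 ∧ u x = 0 := by
        by_contra hc
        push Not at hc
        have hle : (Finset.univ.filter fun z => v z ≠ 0) ⊂ (Finset.univ.filter fun z => u z ≠ 0) := by
          refine (Finset.ssubset_iff_of_subset fun z hz => ?_).2 ⟨y, by simp [hy], by simp [hvy]⟩
          simp only [Finset.mem_filter, Finset.mem_univ, true_and] at hz ⊢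
          exact hc z hz
        have := Finset.card_lt_card hle
        omega
      refine hfin _ (c.cen_move hM h hv hvx hvy hy) ((hcard v x y _ hvx hvy hy).trans hv4) y
        (by rw [hvy]; exact Ne.symm hy) (by simp) fun z hz => ?_
      have hzy : z ≠ y := fun e => hy (by rw [← e, ← hz, e, hvy])
      have hzx : z ≠ x := fun e => hvx (by rw [← e, hz, e, hux])
      simp [hzy, hzx, hz]
    push Not at hsupp
    push Not at heq
    obtain ⟨x, hx⟩ := heq
    have hux : u x ≠ 0 := fun e => by
      have hsub : (Finset.univ.filter fun z => u z ≠ 0) ⊂ (Finset.univ.filter fun z => v z ≠ 0) := by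
        refine (Finset.ssubset_iff_of_subset fun z hz => ?_).2
          ⟨x, by simp [show v x ≠ 0 from fun e' => hx (e'.trans e.symm)], by simp [e]⟩
        simp only [Finset.mem_filter, Finset.mem_univ, true_and] at hz ⊢
        exact hsupp z hz
      have := Finset.card_lt_card hsub
      omega
    have hvx : v x ≠ 0 := hsupp x hux
    obtain ⟨z₀, hz₀⟩ : ∃ z, v z = 0 := by
      by_contra hc
      push Not at hc
      rw [Finset.filter_true_of_mem fun z _ => hc z] at hv4
      simp [ZMod.card] at hv4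
    have hxz : z₀ ≠ x := fun e => hvx (e ▸ hz₀)
    have h1 := c.cen_move hM h hv hvx hz₀ one_ne_zero
    have hc1 := (hcard v x z₀ 1 hvx hz₀ one_ne_zero).trans hv4
    have a1 : (fun z => if z = z₀ then (1 : F) else if z = x then 0 else v z) z₀ ≠ 0 := by simp
    have a2 : (fun z => if z = z₀ then (1 : F) else if z = x then 0 else v z) x = 0 := by simp [hxz.symm]
    refine hfin _ (c.cen_move hM h h1 a1 a2 hux) ((hcard _ z₀ x _ a1 a2 hux).trans hc1) x hx (by simp)
      fun z hz => ?_
    have hzx : z ≠ x := fun e => hx (e ▸ hz)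
    by_cases hzz : z = z₀
    · subst hzz
      simp [hzx, ← hz, hz₀]
    · simp [hzx, hzz, hz]

theorem all_cen (hM : c.Over M) (h : ∃ g ∈ M, ∀ v, g v = tvFun (wv ![0, 0, 1, 1]) v) (u : Pt → F)
    (hu : f u u = 0) (hu0 : u ≠ 0) : Cen M u := by
  classical
  suffices H : ∀ (n : ℕ) (u : Pt → F), (Finset.univ.filter fun z => u z ≠ 0).card ≤ n → f u u = 0 → u ≠ 0 →
      Cen M u from H _ u le_rfl hu hu0
  intro n
  induction n using Nat.strong_induction_on with
  | _ n ih =>
  intro u hn hu hu0
  set S := Finset.univ.filter fun z => u z ≠ 0 with hS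
  have hpos : 0 < S.card := by
    obtain ⟨x, hx⟩ := Function.ne_iff.1 hu0
    exact Finset.card_pos.2 ⟨x, by simpa [hS] using hx⟩
  have heven : S.card % 2 = 0 := by
    by_contra hne
    have e := card_supp c u
    rw [hu] at e
    rw [← hS, show S.card = 2 * (S.card / 2) + 1 by omega, Nat.cast_add, Nat.cast_mul,
      show ((2 : ℕ) : F) = 0 by exact_mod_cast c.two, zero_mul, zero_add, Nat.cast_one] at e
    exact zero_ne_one e
  have hle : S.card ≤ 9 := by
    have := Finset.card_le_univ S
    simpa [ZMod.card] using this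
  by_cases h2 : S.card = 2
  · obtain ⟨x, y, hxy, hxy'⟩ := Finset.card_eq_two.1 h2
    have hx : u x ≠ 0 := by
      have : x ∈ S := by rw [hxy']; simp
      simpa [hS] using this
    have hy : u y ≠ 0 := by
      have : y ∈ S := by rw [hxy']; simp
      simpa [hS] using this
    convert c.cen_smul (c.cen_pair hM h hxy (mul_ne_zero hy (inv_ne_zero hx))) hx using 1
    funext z
    simp only [ps, Pi.smul_apply, Pi.add_apply, smul_eq_mul]
    rcases eq_or_ne z x with rfl | hzx
    · simp [hxy]
    rcases eq_or_ne z y with rfl | hzy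
    · simp [hzx]; field_simp
    · have : z ∉ S := by rw [hxy']; simp [hzx, hzy]
      simp [hS] at this
      simp [hzx, hzy, this]
  have hfour : ∀ w : Pt → F, (Finset.univ.filter fun z => w z ≠ 0).card = 4 → Cen M w := fun w hw => by
    have hsF := c.cen_start hM h
    have hs : Cen M (wv (![0, 0, 1, 1] : Fin 4 → F)) := ⟨by rw [f_wv, c.dn_wv]; simp [bb], h⟩
    refine c.cen_four hM h 9 w _ hs ?_ hw ((Finset.card_le_univ _).trans (by simp [ZMod.card]))
    rw [show (Finset.univ.filter fun z => wv (![0, 0, 1, 1] : Fin 4 → F) z ≠ 0) =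
      ({P 2, -P 2, P 3, -P 3} : Finset Pt) from ?_]
    · decide
    ext z
    simp only [Finset.mem_filter, Finset.mem_univ, true_and, Finset.mem_insert, Finset.mem_singleton]
    have hz : z = (0, 0) ∨ (∃ j, z = P j) ∨ ∃ j, z = -P j := by
      clear * -
      revert z
      decide
    rcases hz with rfl | ⟨j, rfl⟩ | ⟨j, rfl⟩
    · rw [wv_zero]; simp +decide
    · rw [wv_P]; fin_cases j <;> simp +decide
    · rw [wv_neg]; fin_cases j <;> simp +decide
  by_cases h4 : S.card = 4
  · exact hfour u h4
  -- reduce the weight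
  obtain ⟨T, hTS, hT⟩ := Finset.exists_subset_card_eq (show 3 ≤ S.card by omega)
  obtain ⟨z₀, hz₀⟩ : ∃ z, z ∉ S := by
    by_contra hc
    push Not at hc
    rw [Finset.eq_univ_iff_forall.2 hc, Finset.card_univ] at heven
    simp [ZMod.card] at heven
  let v : Pt → F := fun z => if z ∈ T then u z else if z = z₀ then 1 else 0
  have hTu : ∀ z ∈ T, u z ≠ 0 := fun z hz => by
    have := hTS hz
    simpa [hS] using this
  have hz₀T : z₀ ∉ T := fun h => hz₀ (hTS h)
  have hv : Cen M v := hfour v (by
    rw [show (Finset.univ.filter fun z => v z ≠ 0) = insert z₀ T by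
      ext z
      rcases eq_or_ne z z₀ with rfl | hzz
      · simp [v, hz₀T]
      · by_cases hzT : z ∈ T <;> simp [v, hzT, hzz, hTu _]]
    rw [Finset.card_insert_of_notMem hz₀T, hT])
  have huz : u z₀ = 0 := by simpa [hS] using hz₀
  have hf : f u v = 1 := by
    rw [f, ← Finset.sum_subset (Finset.subset_univ T) fun z _ hz => by
      by_cases hzz : z = z₀ <;> simp [v, hz, hzz, huz]]
    rw [Finset.sum_congr rfl fun z hz => (show u z * v z ^ 2 = 1 by
      simp only [v, hz, if_true]; linear_combination c.cube_eq (hTu z hz)), Finset.sum_const, hT]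
    simp
    linear_combination c.two
  have hu' : u = tvFun v (tvFun v u) := by
    have hvv := hv.1
    funext z
    simp only [tvFun, f_add_left, f_smul_left, hvv, hf, Pi.add_apply, Pi.smul_apply, smul_eq_mul]
    linear_combination -(v z) * c.two
  rw [hu']
  refine c.cen_step hM hv (ih (S.card - 2) (by omega) _ ?_ ?_ ?_)
  · have hsub : (Finset.univ.filter fun z => tvFun v u z ≠ 0) ⊆ insert z₀ (S \ T) := fun z hz => by
      simp only [Finset.mem_filter, Finset.mem_univ, true_and, tvFun, hf, one_smul, Pi.add_apply, v] at hz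
      by_cases hzT : z ∈ T
      · simp [hzT, c.add_self] at hz
      by_cases hzz : z = z₀
      · simp [hzz]
      · simpa [hzT, hzz, hS] using hz
    refine (Finset.card_le_card hsub).trans ((Finset.card_insert_le _ _).trans ?_)
    rw [Finset.card_sdiff_of_subset hTS]
    omega
  · obtain ⟨-, g, hg, hgv⟩ := hv
    rw [← hgv, (hM.1 hg).1, hu]
  · intro e
    have := congrFun e z₀
    simp [tvFun, hf, v, hz₀T, huz] at this

end C2

end Cfsg.Agent.Heis75
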