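import Cfsg.Agent.Lib.Heis12UDefs
import Cfsg.Agent.Lib.Heis12Main
import Cfsg.Agent.Lib.Heis12Coord
import Cfsg.Agent.Lib.Heis75Coord9
import Cfsg.Agent.Lib.Heis75SU2Clause

/-!
Maximality of the normaliser of a group of symplectic type of order `3^5` in the special unitary group of
dimension nine, from the statement about overgroups in the model.
-/

set_option autoImplicit false
set_option linter.unusedSectionVars false
set_option linter.unusedSimpArgs false
set_option linter.unusedVariables false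
set_option maxHeartbeats 1000000

namespace Cfsg.Agent.Heis75

open Matrix Cfsg.Agent
open Cfsg.Agent.Heis12 (glIso glIso_val glIso_det matIso_mulVec)
open scoped MatrixGroups Kronecker

variable {F : Type*} [Field F]

theorem exists_ctx12 [Fintype F] {p : ℕ} (hp : p.Prime) (hp5 : 5 ≤ p) (hp3 : p % 3 = 2)
    (hF : Fintype.card F = p ^ 2) : Nonempty (Heis12.Ctx F) := by
  classical
  haveI : Fact (Nat.Prime 3) := ⟨Nat.prime_three⟩
  haveI : Fact p.Prime := ⟨hp⟩
  haveI : CharP F p := charP_of_card_eq_prime_pow hF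
  have hne : ∀ r : ℕ, r.Prime → p ≠ r → ((r : ℕ) : F) ≠ 0 := fun r hr hne e =>
    hne ((Nat.prime_dvd_prime_iff_eq hp hr).1 ((CharP.cast_eq_zero_iff F p r).1 e))
  obtain ⟨u, hu⟩ := exists_prime_orderOf_dvd_card (G := Fˣ) 3 (by
    rw [Fintype.card_units, hF]
    refine (Nat.modEq_iff_dvd' (Nat.one_le_pow _ _ hp.pos)).1 ?_
    rw [Nat.ModEq, Nat.pow_mod, hp3])
  refine ⟨⟨(u : F), ?_, fun e => ?_, ?_, ?_⟩⟩
  · rw [← Units.val_pow_eq_pow_val, ← hu, pow_orderOf_eq_one, Units.val_one]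
  · rw [Units.val_eq_one.1 e, orderOf_one] at hu
    omega
  · exact_mod_cast hne 2 Nat.prime_two (by omega)
  · exact_mod_cast hne 3 Nat.prime_three (by omega)

/-- An element of determinant one normalising the Weyl matrices is unitary. -/
theorem nr2_unitary [Fintype F] {p : ℕ} (hp : p.Prime) (hp3 : p % 3 = 2) (hF : Fintype.card F = p ^ 2)
    (c : Heis12.Ctx F) {g : GL Heis12.Pt F} (hn : c.Nr2 g) (hd : (g : Matrix Heis12.Pt Heis12.Pt F).det = 1) :
    g ∈ Heis12.Un Heis12.Pt F p := by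
  classical
  haveI : Fact p.Prime := ⟨hp⟩
  haveI : CharP F p := charP_of_card_eq_prime_pow hF
  let σ : F →+* F := frobenius F p
  have hσ : ∀ x : F, σ x = x ^ p := fun x => rfl
  have hσσ : ∀ x : F, σ (σ x) = x := fun x => by
    rw [hσ, hσ, ← pow_mul, ← pow_two, ← hF, FiniteField.pow_card]
  have hcube : ∀ a : F, a ^ 3 = 1 → a * σ a = 1 := fun a ha => by
    rw [hσ, ← pow_succ', show p + 1 = 3 * ((p + 1) / 3) by omega, pow_mul, ha, one_pow]
  have hχ : ∀ k, σ (c.χ k) = c.χ (-k) := fun k => by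
    have h := hcube _ (c.χ_cube k)
    have h' : c.χ k * c.χ (-k) = 1 := by rw [← c.χ_add, add_neg_cancel, c.χ_zero]
    exact mul_left_cancel₀ (c.χ_ne k) (h.trans h'.symm)
  let G : Matrix Heis12.Pt Heis12.Pt F := (g : Matrix Heis12.Pt Heis12.Pt F)
  let cj : Matrix Heis12.Pt Heis12.Pt F → Matrix Heis12.Pt Heis12.Pt F := fun X => X.map σ
  let H : Matrix Heis12.Pt Heis12.Pt F := Gᵀ * cj G
  have hWc : ∀ v : Heis12.Ph × Heis12.Ph, cj (c.W2 v) = c.W2 ((v.1.1, -v.1.2), (v.2.1, -v.2.2)) := fun v => by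
    ext x y
    simp only [cj, Matrix.map_apply, Heis12.Ctx.W2, Matrix.kronecker, Matrix.kroneckerMap_apply,
      Heis12.Ctx.W_apply, map_mul, apply_ite σ, map_zero, hχ, neg_mul]
  have hW1 : ∀ v : Heis12.Ph, (c.W v)ᵀ * c.W (v.1, -v.2) = 1 := fun v => by
    ext y y'
    rw [Matrix.mul_apply, Finset.sum_eq_single (y + v.1)]
    · simp only [Matrix.transpose_apply, Heis12.Ctx.W_apply, if_true, Matrix.one_apply]
      by_cases h : y = y'
      · subst h
        simp [← c.χ_add]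
      · simp [h]
    · intro z _ hz
      simp [Heis12.Ctx.W_apply, hz]
    · simp
  have hW2 : ∀ v : Heis12.Ph × Heis12.Ph, (c.W2 v)ᵀ * cj (c.W2 v) = 1 := fun v => by
    rw [hWc, Heis12.Ctx.W2, Heis12.Ctx.W2, ← Matrix.kroneckerMap_transpose, ← Matrix.mul_kronecker_mul,
      hW1, hW1, Matrix.one_kronecker_one]
  have hW3 : ∀ v : Heis12.Ph × Heis12.Ph, c.W2 v * (c.W2 v * c.W2 v) = 1 := fun v => by
    rw [Heis12.Ctx.W2, ← Matrix.mul_kronecker_mul, ← Matrix.mul_kronecker_mul, c.W_cube, c.W_cube,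
      Matrix.one_kronecker_one]
  have hcomm : ∀ v, H * c.W2 v = c.W2 v * H := by
    have h1 : ∀ v, H * cj (c.W2 v) = cj (c.W2 v) * H := fun v => by
      obtain ⟨a, w, e⟩ := hn v
      change G * c.W2 v = a • (c.W2 w * G) at e
      have ha : a ^ 3 = 1 := by
        have e3 : G * (c.W2 v * (c.W2 v * c.W2 v)) = a ^ 3 • (c.W2 w * (c.W2 w * c.W2 w) * G) := by
          rw [← mul_assoc, e, Matrix.smul_mul, mul_assoc, ← mul_assoc G, e, Matrix.smul_mul, Matrix.mul_smul,
            mul_assoc (c.W2 w) G, e, Matrix.mul_smul, Matrix.mul_smul, smul_smul, smul_smul,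
            show a * a * a = a ^ 3 by ring]
          simp only [mul_assoc]
        rw [hW3, hW3, mul_one, one_mul] at e3
        by_contra h
        refine g.ne_zero ?_
        have : (a ^ 3 - 1) • G = 0 := by rw [sub_smul, one_smul, ← e3, sub_self]
        exact (smul_eq_zero.1 this).resolve_left (sub_ne_zero.2 h)
      have eT : (c.W2 v)ᵀ * Gᵀ = a • (Gᵀ * (c.W2 w)ᵀ) := by
        rw [← Matrix.transpose_mul, e, Matrix.transpose_smul, Matrix.transpose_mul]
      have eC : cj G * cj (c.W2 v) = σ a • (cj (c.W2 w) * cj G) := by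
        simp only [cj]
        rw [← Matrix.map_mul, e, ← Matrix.map_mul]
        ext x y
        simp only [Matrix.map_apply, Matrix.smul_apply, smul_eq_mul, map_mul]
      have hconj : (c.W2 v)ᵀ * (H * cj (c.W2 v)) = H := by
        show (c.W2 v)ᵀ * (Gᵀ * cj G * cj (c.W2 v)) = Gᵀ * cj G
        rw [mul_assoc Gᵀ, eC, Matrix.mul_smul, Matrix.mul_smul, ← mul_assoc, eT, Matrix.smul_mul, smul_smul,
          mul_comm (σ a), hcube a ha, one_smul, mul_assoc, ← mul_assoc (c.W2 w)ᵀ, hW2, one_mul]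
      calc H * cj (c.W2 v) = cj (c.W2 v) * (c.W2 v)ᵀ * (H * cj (c.W2 v)) := by
            rw [mul_eq_one_comm.1 (hW2 v), one_mul]
        _ = cj (c.W2 v) * H := by rw [mul_assoc, hconj]
    intro v
    have := h1 ((v.1.1, -v.1.2), (v.2.1, -v.2.2))
    rwa [hWc, neg_neg, neg_neg] at this
  obtain ⟨s, hs⟩ := c.scalar2 hcomm
  have hs9 : s ^ 9 = 1 := by
    have h := congrArg Matrix.det hs
    have hdc : (cj G).det = 1 := by
      show (σ.mapMatrix G).det = 1
      rw [← RingHom.map_det, show G.det = 1 from hd, map_one]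
    rw [Matrix.det_mul, Matrix.det_transpose, show G.det = 1 from hd, hdc, mul_one, Matrix.det_smul,
      Matrix.det_one, mul_one] at h
    simpa using h.symm
  have hsσ : σ s = s := by
    have h00 := congrFun (congrFun hs 0) 0
    simp only [H, cj, Matrix.mul_apply, Matrix.transpose_apply, Matrix.map_apply, Matrix.smul_apply,
      Matrix.one_apply_eq, smul_eq_mul, mul_one] at h00
    rw [← h00, map_sum]
    refine Finset.sum_congr rfl fun z _ => ?_
    rw [map_mul, hσσ, mul_comm]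
  have hs1 : s = 1 := by
    have hs0 : s ≠ 0 := fun h => by simp [h] at hs9
    have h1 : s ^ (p - 1) = 1 := mul_right_cancel₀ hs0 (by
      rw [← pow_succ, Nat.sub_add_cancel hp.one_le, one_mul]; exact hsσ)
    have hcop : Nat.gcd (p - 1) (3 ^ 2) = 1 :=
      Nat.Coprime.pow_right _ ((Nat.prime_three.coprime_iff_not_dvd.2 (by omega)).symm)
    have := pow_gcd_eq_one.2 ⟨h1, show s ^ (3 ^ 2) = 1 from hs9⟩
    rwa [hcop, pow_one] at this
  rw [hs1, one_smul] at hs
  refine Heis12.mem_Un.2 fun u v => ?_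
  have hv : (fun x => (G *ᵥ v) x ^ p) = cj G *ᵥ fun x => v x ^ p := funext fun x => by
    show σ ((G *ᵥ v) x) = _
    rw [Matrix.mulVec, dotProduct, map_sum]
    simp [cj, Matrix.mulVec, dotProduct, hσ, mul_pow]
  show (G *ᵥ u) ⬝ᵥ (fun x => (G *ᵥ v) x ^ p) = u ⬝ᵥ fun x => v x ^ p
  rw [hv, Matrix.dotProduct_mulVec, ← Matrix.vecMul_transpose, Matrix.vecMul_vecMul]
  show u ᵥ* H ⬝ᵥ _ = _
  rw [hs, Matrix.vecMul_one]

/-- A diagonal matrix with two entries minus one does not normalise. -/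
theorem exists_not_nr_unitary {q : ℕ} (hq : Odd q) (c : Heis12.Ctx F) :
    ∃ g : GL Heis12.Pt F, g ∈ Heis12.SUo Heis12.Pt F q ∧ ¬ c.Nr2 g := by
  classical
  let d : Heis12.Pt → F := fun x => if x = (0, 0) ∨ x = (0, 1) then -1 else 1
  have hd2 : ∀ x, d x * d x = 1 := fun x => by simp only [d]; split_ifs <;> ring
  let g : GL Heis12.Pt F :=
    ⟨Matrix.diagonal d, Matrix.diagonal d, by rw [Matrix.diagonal_mul_diagonal]; simp [hd2],
      by rw [Matrix.diagonal_mul_diagonal]; simp [hd2]⟩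
  refine ⟨g, Subgroup.mem_inf.2 ⟨Heis12.mem_Un.2 fun u v => ?_, (Heis12.mem_sl_iff g).2 ?_⟩, fun h => ?_⟩
  · refine Finset.sum_congr rfl fun x _ => ?_
    show (Matrix.diagonal d *ᵥ u) x * (Matrix.diagonal d *ᵥ v) x ^ q = _
    rw [Matrix.mulVec_diagonal, Matrix.mulVec_diagonal]
    simp only [d]
    split_ifs <;> simp [mul_pow, hq.neg_one_pow, hq.neg_pow]
  · show (Matrix.diagonal d).det = 1
    rw [Matrix.det_diagonal, ← Finset.prod_subset (Finset.subset_univ {((0, 0) : Heis12.Pt), (0, 1)})]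
    · rw [Finset.prod_insert (by decide), Finset.prod_singleton]
      simp [d]
    · intro x _ hx
      simp only [Finset.mem_insert, Finset.mem_singleton] at hx
      simp [d, hx]
  obtain ⟨a, w, e⟩ := h ((1, 0), (0, 0))
  change Matrix.diagonal d * _ = a • (_ * Matrix.diagonal d) at e
  have key : ∀ y : Heis12.Pt, d (y.1 + 1, y.2) =
      a * ((if y.1 + 1 = y.1 + w.1.1 then c.χ (w.1.2 * y.1) else 0) *
        (if y.2 = y.2 + w.2.1 then c.χ (w.2.2 * y.2) else 0) * d y) := fun y => by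
    have := congrFun (congrFun e (y.1 + 1, y.2)) y
    simpa [Matrix.diagonal_mul, Matrix.mul_diagonal, Heis12.Ctx.W2, Heis12.Ctx.W_apply] using this
  have h00 := key (0, 0)
  simp only [zero_add, mul_zero, c.χ_zero] at h00
  have hw : 1 = w.1.1 ∧ (0 : ZMod 3) = w.2.1 := by
    by_contra hw
    rcases not_and_or.1 hw with hw | hw <;> simp [hw, d, show (1 : ZMod 3) ≠ 0 from by decide] at h00
  rw [← hw.1, ← hw.2] at h00
  have ha : a = -1 := by
    simp [d, show (1 : ZMod 3) ≠ 0 from by decide] at h00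
    linear_combination h00
  have h10 := key (1, 0)
  rw [← hw.1, ← hw.2, ha] at h10
  simp [d, show (1 : ZMod 3) ≠ 0 from by decide, show (1 + 1 : ZMod 3) ≠ 0 from by decide] at h10
  have h3 := c.χ_cube w.1.2
  rw [show c.χ w.1.2 = -1 by linear_combination h10] at h3
  exact c.two (by linear_combination -h3)

theorem wop_W2 (c : Heis12.Ctx F) (r : Root F) (hr : ∀ k, r.χ k = c.χ k) (a b : Pt9) (u : Pt9 → F) :
    c.W2 ((a.1, b.1), (a.2, b.2)) *ᵥ u = r.wop a b u := by
  funext x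
  rw [Matrix.mulVec, dotProduct, Finset.sum_eq_single (x - a)]
  · simp [Root.wop, Heis12.Ctx.W2, Heis12.Ctx.W_apply, hr, c.χ_add]
  · intro y _ hy
    have : ¬(x.1 = y.1 + a.1 ∧ x.2 = y.2 + a.2) := fun h =>
      hy (Prod.ext (by simp [h.1]) (by simp [h.2]))
    rcases not_and_or.1 this with h | h <;> simp [Heis12.Ctx.W2, Heis12.Ctx.W_apply, h]
  · simp

/-- The clause for the groups of symplectic type, given the statement about overgroups in the model. -/
theorem su9_c6_maximal {F : Type*} [Field F] [Fintype F] (q : ℕ) (hF : Fintype.card F = q ^ 2)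
    (hcore : 5 ≤ q → ∀ (c : Heis12.Ctx F) (M : Subgroup (GL Heis12.Pt F)), c.Over M →
      M ≤ Heis12.Un Heis12.Pt F q → (∀ g ∈ M, c.Nr2 g) ∨ Heis12.SUo Heis12.Pt F q ≤ M) :
    ∀ (p : ℕ) (R : Subgroup (Matrix.GeneralLinearGroup (Fin 9) F)), p.Prime → q = p → p % 3 = 2 →
      Cfsg.Geo.IsSymplecticTypeGroup 3 R → Cfsg.Geo.ActsAbsolutelyIrreducibly (Cfsg.Geo.matrixSet R) →
      R ≤ Cfsg.Geo.similarityGroup (Cfsg.hermForm 9 F q) → Nat.card R = 243 → Nat.card (Subgroup.center R) = 3 →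
      Cfsg.Geo.IsMaximalIn (Cfsg.GU 9 F q ⊓ Cfsg.Geo.specialLinear (Fin 9) F)
        (Cfsg.Geo.subgroupNormalizer R ⊓ (Cfsg.GU 9 F q ⊓ Cfsg.Geo.specialLinear (Fin 9) F)) := by
  intro p R hp hqp hp3 hR hirr hsim _ hZ
  subst hqp
  rcases eq_or_ne q 2 with rfl | hne
  · exact maximal_two hF R hR hirr hsim hZ
  classical
  have hq5 : 5 ≤ q := by have := hp.two_le; omega
  obtain ⟨c⟩ := exists_ctx12 hp hq5 hp3 hF
  let r : Root F := ⟨c.ω, c.cube, c.ne_one, c.three⟩
  obtain ⟨L, η, hη, -, hform, hmem⟩ := exists_frame hp3 hF hR hirr hZ hsim r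
  have hL : ∀ g, glIso L g ∈ R ↔ c.InR0 g := fun g => by
    rw [hmem]
    constructor
    · rintro ⟨k, a, b, h⟩
      refine ⟨k, ((a.1, b.1), (a.2, b.2)), Matrix.mulVec_injective (funext fun u => L.injective ?_)⟩
      rw [Matrix.smul_mulVec, map_smul, wop_W2 c r (fun _ => rfl), ← matIso_mulVec, ← glIso_val]
      exact h u
    · rintro ⟨k, v, h⟩
      refine ⟨k, (v.1.1, v.2.1), (v.1.2, v.2.2), fun u => ?_⟩
      rw [glIso_val, matIso_mulVec, h, Matrix.smul_mulVec, map_smul, ← wop_W2 c r (fun _ => rfl)]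
      rfl
  have hexp : ∀ x ∈ R, x ^ 3 = 1 := fun x hx => by
    have h := congrArg Subtype.val (Monoid.pow_exponent_eq_one (⟨x, hx⟩ : R))
    rwa [hR.exponent_eq, show 3 * Nat.gcd 2 3 = 3 from rfl, Subgroup.coe_pow, Subgroup.coe_one] at h
  have hN : ∀ g, glIso L g ∈ Cfsg.Geo.subgroupNormalizer R ↔ c.Nr2 g := by
    intro g
    constructor
    · intro h v
      have h1 : glIso L (c.WU2 v) ∈ R := (hL _).2 ⟨0, v, by rw [c.χ_zero, one_smul]; rfl⟩
      have h3 := (Subgroup.mem_normalizer_iff.1 h _).1 h1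
      rw [← map_inv, ← map_mul, ← map_mul] at h3
      obtain ⟨k, w, e⟩ := (hL _).1 h3
      refine ⟨c.χ k, w, ?_⟩
      rw [Units.val_mul, Units.val_mul, c.WU2_val] at e
      have e' := congrArg (fun X => X * (g : Matrix Heis12.Pt Heis12.Pt F)) e
      simp only [mul_assoc, Units.inv_mul, mul_one, Matrix.smul_mul] at e'
      exact e'
    · intro h
      haveI : Finite (GL (Fin 9) F) := inferInstance
      refine Subgroup.mem_normalizer_fintype fun x hx => ?_
      obtain ⟨x, rfl⟩ := (glIso L).surjective x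
      obtain ⟨k, v, hv⟩ := (hL x).1 hx
      obtain ⟨a, w, e⟩ := h v
      show glIso L g * glIso L x * (glIso L g)⁻¹ ∈ R
      rw [← map_inv, ← map_mul, ← map_mul]
      have hval : ((g * x * g⁻¹ : GL Heis12.Pt F) : Matrix Heis12.Pt Heis12.Pt F) = (c.χ k * a) • c.W2 w := by
        rw [Units.val_mul, Units.val_mul, hv, Matrix.mul_smul, e, smul_smul, Matrix.smul_mul, mul_assoc,
          Units.mul_inv, mul_one]
      have hw3 : c.W2 w ^ 3 = 1 := by
        have h1 := hexp _ ((hL (c.WU2 w)).2 ⟨0, w, by rw [c.χ_zero, one_smul]; rfl⟩)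
        rw [← map_pow, ← map_one (glIso L), (glIso L).injective.eq_iff] at h1
        simpa [c.WU2_val] using congrArg Units.val h1
      have hx3 : (g * x * g⁻¹) ^ 3 = 1 := by
        have h1 := hexp _ hx
        rw [← map_pow, ← map_one (glIso L), (glIso L).injective.eq_iff] at h1
        rw [conj_pow, h1, mul_one, mul_inv_cancel]
      have ha : (c.χ k * a) ^ 3 = 1 := by
        have h1 := congrArg (fun u : GL Heis12.Pt F => (u : Matrix Heis12.Pt Heis12.Pt F)) hx3
        simp only [Units.val_pow_eq_pow_val] at h1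
        rw [hval, smul_pow, hw3, Units.val_one] at h1
        simpa using congrFun (congrFun h1 0) 0
      obtain ⟨l, hl⟩ := c.exists_χ ha
      exact (hL _).2 ⟨l, w, by rw [hval, hl]⟩
  have hU : ∀ g, glIso L g ∈ Cfsg.GU 9 F q ↔ g ∈ Heis12.Un Heis12.Pt F q := fun g => by
    constructor
    · intro h
      refine Heis12.mem_Un.2 fun u v => mul_left_cancel₀ hη ?_
      rw [← hform, ← hform, ← matIso_mulVec, ← matIso_mulVec, ← glIso_val]
      exact h (L u) (L v)
    · intro h u v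
      obtain ⟨u, rfl⟩ := L.surjective u
      obtain ⟨v, rfl⟩ := L.surjective v
      show Cfsg.hermForm 9 F q ((glIso L g : Matrix (Fin 9) (Fin 9) F) *ᵥ L u)
        ((glIso L g : Matrix (Fin 9) (Fin 9) F) *ᵥ L v) = _
      rw [glIso_val, matIso_mulVec, matIso_mulVec, hform, hform, Heis12.mem_Un.1 h u v]
  have hG : ∀ g, glIso L g ∈ Cfsg.GU 9 F q ⊓ Cfsg.Geo.specialLinear (Fin 9) F ↔
      g ∈ Heis12.SUo Heis12.Pt F q := fun g => by
    rw [Heis12.SUo, Subgroup.mem_inf, Subgroup.mem_inf, hU, Heis12.mem_sl_iff, Heis12.mem_sl_iff, glIso_det]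
  refine ⟨lt_of_le_of_ne inf_le_right fun h => ?_, fun M hHM hMG => ?_⟩
  · obtain ⟨t, ht, htn⟩ := exists_not_nr_unitary (hp.odd_of_ne_two hne) c
    have := (hG t).2 ht
    rw [← h, Subgroup.mem_inf, hN] at this
    exact htn this.1
  · let M' : Subgroup (GL Heis12.Pt F) := M.comap (glIso L).toMonoidHom
    have hM' : M' ≤ Heis12.SUo Heis12.Pt F q := fun g hg => (hG g).1 (hMG hg)
    have hO : c.Over M' := ⟨fun g hg => (hM' hg).2, fun g hg hn => hHM (Subgroup.mem_inf.2
      ⟨(hN g).2 hn, (hG g).2 ⟨nr2_unitary hp hp3 hF c hn ((Heis12.mem_sl_iff g).1 hg), hg⟩⟩)⟩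
    rcases hcore hq5 c M' hO (fun g hg => (hM' hg).1) with h | h
    · refine Or.inl (le_antisymm (fun g hg => ?_) hHM)
      obtain ⟨g, rfl⟩ := (glIso L).surjective g
      exact Subgroup.mem_inf.2 ⟨(hN g).2 (h g hg), hMG hg⟩
    · refine Or.inr (le_antisymm hMG fun g hg => ?_)
      obtain ⟨g, rfl⟩ := (glIso L).surjective g
      exact h ((hG g).1 hg)

end Cfsg.Agent.Heis75
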