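import Mathlib
import Cfsg.Prelude.Def_Transfer
import Cfsg.Agent.Lib.PGroupsBasic

/-!
# Frames of an extraspecial group of order `3³` and exponent `3`
-/

set_option autoImplicit false

namespace Cfsg.Agent.HeisFrame29

open Subgroup Cfsg.Agent
open scoped commutatorElement

variable {R : Type*} [Group R]

/-- `x ^ a` for `a : ℤ/3`. -/
def pw (x : R) (a : ZMod 3) : R := x ^ a.val

theorem pw_add {x : R} (hx : x ^ 3 = 1) (a b : ZMod 3) : pw x (a + b) = pw x a * pw x b := by
  rw [pw, pw, pw, ← pow_add, ZMod.val_add]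
  conv_rhs => rw [← Nat.mod_add_div (a.val + b.val) 3, pow_add, pow_mul, hx, one_pow, mul_one]

theorem pw_zero (x : R) : pw x 0 = 1 := by simp [pw]

theorem pw_one (x : R) : pw x 1 = x := by simp [pw, ZMod.val_one]

theorem pw_natCast {x : R} (hx : x ^ 3 = 1) (n : ℕ) : pw x (n : ZMod 3) = x ^ n := by
  rw [pw, ZMod.val_natCast]
  conv_rhs => rw [← Nat.mod_add_div n 3, pow_add, pow_mul, hx, one_pow, mul_one]

theorem pw_neg {x : R} (hx : x ^ 3 = 1) (a : ZMod 3) : pw x (-a) = (pw x a)⁻¹ := by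
  rw [eq_inv_iff_mul_eq_one, ← pw_add hx, neg_add_cancel, pw_zero]

/-- A frame: two generators and the central commutator. -/
structure Frame (R : Type*) [Group R] where
  x1 : R
  x2 : R
  exp : ∀ r : R, r ^ 3 = 1
  card : Nat.card R = 27
  central : ∀ a b : R, ⁅a, b⁆ ∈ center R
  ne : ⁅x2, x1⁆ ≠ 1

namespace Frame

variable (fr : Frame R)

/-- The central generator. -/
def z : R := ⁅fr.x2, fr.x1⁆

theorem z_comm (r : R) : r * fr.z = fr.z * r := mem_center_iff.1 (fr.central _ _) r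

theorem x2_pw_x1 (b c : ZMod 3) :
    pw fr.x2 b * pw fr.x1 c = pw fr.x1 c * pw fr.x2 b * pw fr.z (b * c) := by
  have h : ⁅fr.x2 ^ b.val, fr.x1 ^ c.val⁆ = fr.z ^ (b.val * c.val) := by
    have h1 : ⁅fr.x2, fr.x1 ^ c.val⁆ = fr.z ^ c.val :=
      PGroupsBasic.commutatorElement_pow_right (fr.central _ _) _
    rw [PGroupsBasic.commutatorElement_pow_left (fr.central _ _), h1, ← pow_mul, mul_comm]
  have e : pw fr.z (b * c) = fr.z ^ (b.val * c.val) := by
    rw [← pw_natCast (fr.exp _), Nat.cast_mul, ZMod.natCast_zmod_val, ZMod.natCast_zmod_val]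
  rw [e, pw, pw, PGroupsBasic.comm_mul_eq (fr.x2 ^ b.val) (fr.x1 ^ c.val), h,
    ((Commute.pow_left (show Commute fr.z _ from (fr.z_comm _).symm)) _).eq]

/-- The element with coordinates `(a, b, k)`. -/
def el (a b k : ZMod 3) : R := pw fr.x1 a * pw fr.x2 b * pw fr.z k

theorem pwz_comm (r : R) (k : ZMod 3) : pw fr.z k * r = r * pw fr.z k :=
  (Commute.pow_left (show Commute fr.z r from (fr.z_comm r).symm) _).eq

theorem el_mul (a b k c d l : ZMod 3) :
    fr.el a b k * fr.el c d l = fr.el (a + c) (b + d) (k + l + b * c) := by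
  simp only [el, pw_add (fr.exp _)]
  calc pw fr.x1 a * pw fr.x2 b * pw fr.z k * (pw fr.x1 c * pw fr.x2 d * pw fr.z l)
      = pw fr.x1 a * pw fr.x2 b * (pw fr.z k * (pw fr.x1 c * pw fr.x2 d)) * pw fr.z l := by group
    _ = pw fr.x1 a * (pw fr.x2 b * pw fr.x1 c) * pw fr.x2 d * (pw fr.z k * pw fr.z l) := by
        rw [fr.pwz_comm]; group
    _ = pw fr.x1 a * pw fr.x1 c * pw fr.x2 b * (pw fr.z (b * c) * pw fr.x2 d) *
          (pw fr.z k * pw fr.z l) := by rw [fr.x2_pw_x1]; group
    _ = pw fr.x1 a * pw fr.x1 c * (pw fr.x2 b * pw fr.x2 d) *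
          (pw fr.z (b * c) * (pw fr.z k * pw fr.z l)) := by rw [fr.pwz_comm]; group
    _ = pw fr.x1 a * pw fr.x1 c * (pw fr.x2 b * pw fr.x2 d) *
          (pw fr.z k * pw fr.z l * pw fr.z (b * c)) := by rw [fr.pwz_comm]

theorem el_zero : fr.el 0 0 0 = 1 := by simp [el, pw_zero]

theorem el_x1 : fr.el 1 0 0 = fr.x1 := by simp [el, pw_zero, pw_one]

theorem el_x2 : fr.el 0 1 0 = fr.x2 := by simp [el, pw_zero, pw_one]

theorem el_z (k : ZMod 3) : fr.el 0 0 k = pw fr.z k := by simp [el, pw_zero]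

theorem el_inv (a b k : ZMod 3) : (fr.el a b k)⁻¹ = fr.el (-a) (-b) (-k + a * b) := by
  refine inv_eq_of_mul_eq_one_right ?_
  rw [el_mul, ← el_zero]
  congr 1 <;> ring

theorem el_eq_one {a b k : ZMod 3} (h : fr.el a b k = 1) : a = 0 ∧ b = 0 ∧ k = 0 := by
  have hz : ∀ j : ZMod 3, pw fr.z j = 1 → j = 0 := by
    intro j hj
    have hz1 : fr.z ≠ 1 := fr.ne
    have ho : orderOf fr.z = 3 := orderOf_eq_prime (fr.exp _) hz1
    have := orderOf_dvd_of_pow_eq_one hj
    rw [ho] at this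
    have h3 := j.val_lt
    exact (ZMod.val_eq_zero j).1 (Nat.eq_zero_of_dvd_of_lt this h3)
  have ha : a = 0 := by
    have h1 : fr.el 0 1 0 * fr.el a b k = fr.el a b k * fr.el 0 1 0 := by rw [h, mul_one, one_mul]
    rw [el_mul, el_mul] at h1
    simp only [el, zero_add, add_zero, one_mul, mul_zero, add_comm b 1,
      pw_add (fr.exp fr.z)] at h1
    rw [mul_right_inj] at h1
    exact hz a (mul_eq_left.1 h1)
  have hb : b = 0 := by
    have h1 : fr.el 1 0 0 * fr.el a b k = fr.el a b k * fr.el 1 0 0 := by rw [h, mul_one, one_mul]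
    rw [el_mul, el_mul] at h1
    simp only [el, zero_add, add_zero, mul_one, zero_mul, add_comm a 1,
      pw_add (fr.exp fr.z)] at h1
    rw [mul_right_inj] at h1
    exact hz b (mul_eq_left.1 h1.symm)
  subst ha hb
  exact ⟨rfl, rfl, hz k (by rwa [← el_z])⟩

theorem el_bijective : Function.Bijective fun v : ZMod 3 × ZMod 3 × ZMod 3 => fr.el v.1 v.2.1 v.2.2 := by
  haveI : Finite R := Nat.finite_of_card_ne_zero (by rw [fr.card]; norm_num)
  refine (Nat.bijective_iff_injective_and_card _).2 ⟨?_, by simp [fr.card]⟩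
  rintro ⟨a, b, k⟩ ⟨c, d, l⟩ h
  simp only at h
  have h1 : fr.el a b k * (fr.el c d l)⁻¹ = 1 := by rw [h, mul_inv_cancel]
  rw [el_inv, el_mul] at h1
  obtain ⟨e1, e2, e3⟩ := fr.el_eq_one h1
  obtain rfl : a = c := by linear_combination e1
  obtain rfl : b = d := by linear_combination e2
  obtain rfl : k = l := by linear_combination e3
  rfl

/-- Coordinates. -/
noncomputable def co (r : R) : ZMod 3 × ZMod 3 × ZMod 3 := (Equiv.ofBijective _ fr.el_bijective).symm r

theorem el_co (r : R) : fr.el (fr.co r).1 (fr.co r).2.1 (fr.co r).2.2 = r :=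
  (Equiv.ofBijective _ fr.el_bijective).apply_symm_apply r

theorem co_el (a b k : ZMod 3) : fr.co (fr.el a b k) = (a, b, k) :=
  (Equiv.ofBijective _ fr.el_bijective).symm_apply_apply (a, b, k)

/-- The projection to `R / Z`. -/
noncomputable def proj (r : R) : Fin 2 → ZMod 3 := ![(fr.co r).1, (fr.co r).2.1]

/-- The symmetrised central coordinate. -/
noncomputable def ht (r : R) : ZMod 3 := (fr.co r).2.2 + (fr.co r).1 * (fr.co r).2.1

theorem proj_el (a b k : ZMod 3) : fr.proj (fr.el a b k) = ![a, b] := by simp [proj, co_el]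

theorem ht_el (a b k : ZMod 3) : fr.ht (fr.el a b k) = k + a * b := by simp [ht, co_el]

theorem proj_mul (r s : R) : fr.proj (r * s) = fr.proj r + fr.proj s := by
  rw [← fr.el_co r, ← fr.el_co s, el_mul, proj_el, proj_el, proj_el]
  funext i; fin_cases i <;> simp

theorem ht_mul (r s : R) : fr.ht (r * s) =
    fr.ht r + fr.ht s + (fr.proj r 0 * fr.proj s 1 - fr.proj s 0 * fr.proj r 1) := by
  rw [← fr.el_co r, ← fr.el_co s, el_mul, proj_el, proj_el, ht_el, ht_el, ht_el]
  simp only [Matrix.cons_val_zero, Matrix.cons_val_one]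
  have h3 : (3 : ZMod 3) = 0 := by decide
  linear_combination ((fr.co r).2.1 * (fr.co s).1) * h3

theorem proj_one : fr.proj 1 = 0 := by
  have := fr.proj_mul 1 1
  rw [mul_one] at this
  exact left_eq_add.1 this

theorem ht_one : fr.ht 1 = 0 := by
  have := fr.ht_mul 1 1
  rw [mul_one, proj_one] at this
  simpa using this

theorem proj_inv (r : R) : fr.proj r⁻¹ = -fr.proj r := by
  have := fr.proj_mul r r⁻¹
  rw [mul_inv_cancel, proj_one] at this
  exact eq_neg_of_add_eq_zero_right this.symm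

theorem ht_inv (r : R) : fr.ht r⁻¹ = -fr.ht r := by
  have := fr.ht_mul r r⁻¹
  rw [mul_inv_cancel, ht_one, proj_inv] at this
  simp only [Pi.neg_apply] at this
  linear_combination -this

theorem proj_x1 : fr.proj fr.x1 = ![1, 0] := by rw [← fr.el_x1, proj_el]

theorem proj_x2 : fr.proj fr.x2 = ![0, 1] := by rw [← fr.el_x2, proj_el]

theorem ext {r s : R} (h1 : fr.proj r = fr.proj s) (h2 : fr.ht r = fr.ht s) : r = s := by
  obtain ⟨⟨a, b, k⟩, rfl⟩ := fr.el_bijective.2 r
  obtain ⟨⟨c, d, l⟩, rfl⟩ := fr.el_bijective.2 s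
  simp only [proj_el, ht_el] at h1 h2
  obtain rfl : a = c := by simpa using congrFun h1 0
  obtain rfl : b = d := by simpa using congrFun h1 1
  obtain rfl : k = l := by linear_combination h2
  rfl

theorem proj_eq_zero_iff {r : R} : fr.proj r = 0 ↔ r ∈ center R := by
  rw [mem_center_iff]
  constructor
  · intro h s
    apply fr.ext
    · rw [proj_mul, proj_mul, add_comm]
    · rw [ht_mul, ht_mul, h]
      simp [add_comm]
  · intro h
    have h1 := congrArg fr.ht (h fr.x1)
    have h2 := congrArg fr.ht (h fr.x2)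
    rw [ht_mul, ht_mul, proj_x1] at h1
    rw [ht_mul, ht_mul, proj_x2] at h2
    simp only [Matrix.cons_val_zero, Matrix.cons_val_one] at h1 h2
    have h3 : (3 : ZMod 3) = 0 := by decide
    funext i
    fin_cases i
    · show fr.proj r 0 = 0
      linear_combination h2 + fr.proj r 0 * h3
    · show fr.proj r 1 = 0
      linear_combination -h1 + fr.proj r 1 * h3

theorem proj_z : fr.proj fr.z = 0 := (fr.proj_eq_zero_iff).2 (fr.central _ _)

theorem ht_z : fr.ht fr.z = 1 := by
  rw [← pw_one fr.z, ← el_z, ht_el]; simp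

theorem eq_pw_z {r : R} (h : fr.proj r = 0) : r = pw fr.z (fr.ht r) := by
  apply fr.ext
  · rw [h, ← el_z, proj_el]
    funext i; fin_cases i <;> simp
  · rw [← el_z, ht_el]; simp

/-- The matrix of an endomorphism on `R / Z`. -/
noncomputable def mat (c : R →* R) : Matrix (Fin 2) (Fin 2) (ZMod 3) :=
  Matrix.of fun i j => fr.proj (c (if j = 0 then fr.x1 else fr.x2)) i

/-- `proj` as a homomorphism. -/
noncomputable def projHom : R →* Multiplicative (Fin 2 → ZMod 3) where
  toFun r := Multiplicative.ofAdd (fr.proj r)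
  map_one' := by rw [proj_one]; rfl
  map_mul' r s := by rw [proj_mul]; rfl

theorem proj_pw (x : R) (a : ZMod 3) : fr.proj (pw x a) = a • fr.proj x := by
  have h := congrArg Multiplicative.toAdd (map_pow fr.projHom x a.val)
  rw [toAdd_pow] at h
  refine h.trans ?_
  conv_rhs => rw [← ZMod.natCast_zmod_val a, Nat.cast_smul_eq_nsmul]
  rfl

theorem proj_map {c : R →* R} (hc : ∀ r, r ∈ center R → c r ∈ center R) (r : R) :
    fr.proj (c r) = (fr.mat c).mulVec (fr.proj r) := by
  have hcp : ∀ (x : R) (a : ZMod 3), c (pw x a) = pw (c x) a := fun x a => map_pow c x a.val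
  conv_lhs => rw [← fr.el_co r, el]
  rw [map_mul, map_mul, hcp, hcp, hcp, proj_mul, proj_mul, proj_pw, proj_pw, proj_pw,
    (fr.proj_eq_zero_iff).2 (hc _ (fr.central _ _) : c fr.z ∈ center R), smul_zero, add_zero]
  funext i
  simp [mat, proj, Matrix.mulVec, dotProduct, Fin.sum_univ_two, mul_comm]
  fin_cases i <;> simp

theorem ht_map_z (c : R →* R) : fr.ht (c fr.z) = (fr.mat c).det := by
  have h : c fr.z = ⁅c fr.x2, c fr.x1⁆ := map_commutatorElement c _ _
  rw [h, commutatorElement_def, ht_mul, ht_mul, ht_mul, proj_mul, proj_mul, proj_inv, proj_inv,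
    ht_inv, ht_inv, Matrix.det_fin_two]
  have e1 : fr.mat c 0 0 = fr.proj (c fr.x1) 0 := rfl
  have e2 : fr.mat c 1 0 = fr.proj (c fr.x1) 1 := rfl
  have e3 : fr.mat c 0 1 = fr.proj (c fr.x2) 0 := rfl
  have e4 : fr.mat c 1 1 = fr.proj (c fr.x2) 1 := rfl
  rw [e1, e2, e3, e4]
  simp only [Pi.neg_apply, Pi.add_apply, proj_mul]
  have h3 : (3 : ZMod 3) = 0 := by decide
  linear_combination (fr.proj (c fr.x2) 0 * fr.proj (c fr.x1) 1 -
    fr.proj (c fr.x1) 0 * fr.proj (c fr.x2) 1) * h3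

theorem mat_comp {c d : R →* R} (hc : ∀ r, r ∈ center R → c r ∈ center R) :
    fr.mat (c.comp d) = fr.mat c * fr.mat d := by
  ext i j
  show fr.proj (c (d _)) i = _
  rw [fr.proj_map hc, Matrix.mul_apply, Matrix.mulVec, dotProduct]
  rfl

theorem mat_id : fr.mat (MonoidHom.id R) = 1 := by
  ext i j
  fin_cases i <;> fin_cases j <;> simp [mat, proj_x1, proj_x2]

end Frame

end Cfsg.Agent.HeisFrame29
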