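import Mathlib
import Cfsg.Prelude.Def_Classical
import Cfsg.Agent.Lib.SymplecticBasic

/-!
# The stabiliser of a vector in `Sp₄(F)`

The elements `uSp a b k` (Heisenberg group) and `lamSp A` (`A ∈ SL₂(F)`), and the decomposition of
the stabiliser of the first basis vector.
-/

set_option autoImplicit false

open Matrix Cfsg.Agent.SymplecticBasic

namespace Cfsg.Agent.HeisSLModel29

variable {F : Type*} [Field F]

/-- The vector `e`. -/
def eVec : Fin 2 ⊕ Fin 2 → F := Pi.single (Sum.inl 0) 1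

/-- The matrix of `u(a, b, k)`. -/
def uMat (a b k : F) : Matrix (Fin 2 ⊕ Fin 2) (Fin 2 ⊕ Fin 2) F :=
  fromBlocks !![1, -b; 0, 1] !![k, a; a, 0] !![0, 0; 0, 0] !![1, 0; b, 1]

/-- The matrix of `λ(A)`. -/
def lamMat (A : Matrix (Fin 2) (Fin 2) F) : Matrix (Fin 2 ⊕ Fin 2) (Fin 2 ⊕ Fin 2) F :=
  fromBlocks !![1, 0; 0, A 0 0] !![0, 0; 0, A 0 1] !![0, 0; 0, A 1 0] !![1, 0; 0, A 1 1]

theorem uMat_mem (a b k : F) : uMat a b k ∈ symplecticGroup (Fin 2) F := by
  rw [SymplecticGroup.mem_iff, uMat, J, fromBlocks_transpose, fromBlocks_multiply,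
    fromBlocks_multiply]
  congr 1 <;> (ext i j; fin_cases i <;> fin_cases j <;>
    simp [Matrix.mul_apply, Matrix.vecMul, dotProduct, Fin.sum_univ_two] <;> ring)

theorem lamMat_mem (A : SpecialLinearGroup (Fin 2) F) :
    lamMat A.1 ∈ symplecticGroup (Fin 2) F := by
  have hd : A.1 0 0 * A.1 1 1 - A.1 0 1 * A.1 1 0 = 1 := by
    rw [← det_fin_two]; exact A.2
  rw [SymplecticGroup.mem_iff, lamMat, J, fromBlocks_transpose, fromBlocks_multiply,
    fromBlocks_multiply]
  congr 1 <;> (ext i j; fin_cases i <;> fin_cases j <;> simp [Matrix.mul_apply, Matrix.vecMul, dotProduct, Fin.sum_univ_two] <;>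
    first | ring1 | linear_combination hd | linear_combination (-1 : F) * hd)

/-- `u(a, b, k)`. -/
def uSp (a b k : F) : symplecticGroup (Fin 2) F := ⟨uMat a b k, uMat_mem a b k⟩

/-- `λ(A)`. -/
def lamSp (A : SpecialLinearGroup (Fin 2) F) : symplecticGroup (Fin 2) F :=
  ⟨lamMat A.1, lamMat_mem A⟩

theorem uSp_mul (a b k a' b' k' : F) :
    uSp a b k * uSp a' b' k' = uSp (a + a') (b + b') (k + k' + (a * b' - a' * b)) := by
  apply Subtype.ext
  show uMat a b k * uMat a' b' k' = uMat _ _ _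
  simp only [uMat, fromBlocks_multiply]
  congr 1 <;> (ext i j; fin_cases i <;> fin_cases j <;>
    simp [Matrix.mul_apply, Matrix.vecMul, dotProduct, Fin.sum_univ_two] <;> ring)

theorem uSp_zero : uSp (0 : F) 0 0 = 1 := by
  apply Subtype.ext
  show uMat (0 : F) 0 0 = 1
  rw [uMat, ← fromBlocks_one]
  congr 1 <;> (ext i j; fin_cases i <;> fin_cases j <;> simp)

theorem lamSp_mul (A B : SpecialLinearGroup (Fin 2) F) : lamSp (A * B) = lamSp A * lamSp B := by
  apply Subtype.ext
  show lamMat (A * B).1 = lamMat A.1 * lamMat B.1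
  simp only [lamMat, fromBlocks_multiply]
  congr 1 <;> (ext i j; fin_cases i <;> fin_cases j <;>
    simp [Matrix.mul_apply, Matrix.vecMul, dotProduct, Fin.sum_univ_two])

theorem lamSp_mul_uSp (A : SpecialLinearGroup (Fin 2) F) (a b k : F) :
    lamSp A * uSp a b k =
      uSp (A.1 0 0 * a + A.1 0 1 * b) (A.1 1 0 * a + A.1 1 1 * b) k * lamSp A := by
  have hd : A.1 0 0 * A.1 1 1 - A.1 0 1 * A.1 1 0 = 1 := by
    rw [← det_fin_two]; exact A.2
  apply Subtype.ext
  show lamMat A.1 * uMat a b k = uMat _ _ _ * lamMat A.1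
  simp only [lamMat, uMat, fromBlocks_multiply]
  congr 1 <;> (ext i j; fin_cases i <;> fin_cases j <;>
    simp [Matrix.mul_apply, Matrix.vecMul, dotProduct, Fin.sum_univ_two] <;>
    first | ring1 | linear_combination a * hd | linear_combination (-a) * hd | linear_combination b * hd | linear_combination (-b) * hd)

theorem uSp_smul_eVec (a b k : F) : uSp a b k • (eVec : _ → F) = eVec := by
  rw [smul_def, eVec, Matrix.mulVec_single_one]
  show (uMat a b k)ᵀ (Sum.inl 0) = _
  funext i
  rcases i with i | i <;> fin_cases i <;> simp [uMat]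

theorem lamSp_smul_eVec (A : SpecialLinearGroup (Fin 2) F) : lamSp A • (eVec : _ → F) = eVec := by
  rw [smul_def, eVec, Matrix.mulVec_single_one]
  show (lamMat A.1)ᵀ (Sum.inl 0) = _
  funext i
  rcases i with i | i <;> fin_cases i <;> simp [lamMat]

theorem uSp_mul_lamSp_eq_one {a b k : F} {A : SpecialLinearGroup (Fin 2) F}
    (h : uSp a b k * lamSp A = 1) : a = 0 ∧ b = 0 ∧ k = 0 ∧ A = 1 := by
  have h' : uMat a b k * lamMat A.1 = 1 := congrArg Subtype.val h
  simp only [uMat, lamMat, fromBlocks_multiply] at h'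
  have e := fun i j => congrFun (congrFun h' i) j
  have h1 := e (Sum.inl 1) (Sum.inr 0)
  have h2 := e (Sum.inr 1) (Sum.inr 0)
  have h3 := e (Sum.inl 0) (Sum.inr 0)
  simp [Matrix.mul_apply, Matrix.vecMul, dotProduct, Fin.sum_univ_two] at h1 h2 h3
  subst h1 h2 h3
  refine ⟨rfl, rfl, rfl, ?_⟩
  have g00 := e (Sum.inl 1) (Sum.inl 1)
  have g01 := e (Sum.inl 1) (Sum.inr 1)
  have g10 := e (Sum.inr 1) (Sum.inl 1)
  have g11 := e (Sum.inr 1) (Sum.inr 1)
  simp [Matrix.mul_apply, Matrix.vecMul, dotProduct, Fin.sum_univ_two] at g00 g01 g10 g11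
  ext i j
  fin_cases i <;> fin_cases j <;> simp [g00, g01, g10, g11]

/-- Elements fixing `e` decompose as `u λ`. -/
theorem exists_eq_of_smul_eVec {g : symplecticGroup (Fin 2) F} (h : g • (eVec : _ → F) = eVec) :
    ∃ (a b k : F) (A : SpecialLinearGroup (Fin 2) F), g = uSp a b k * lamSp A := by
  set f : Fin 2 ⊕ Fin 2 → F := Pi.single (Sum.inr 0) 1 with hf
  set x := g • f with hx
  have h1 : x (Sum.inr 0) = 1 := by
    have := form_map g f eVec
    rw [h, form_eq_sum, form_eq_sum] at this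
    simpa [eVec, f, Fin.sum_univ_two, hx] using this
  set a := x (Sum.inl 1)
  set b := x (Sum.inr 1)
  set k := x (Sum.inl 0)
  set k' := uSp (-a) (-b) (-k) * g with hk'
  have he' : k' • (eVec : _ → F) = eVec := by rw [hk', mul_smul, h, uSp_smul_eVec]
  have hf' : k' • f = f := by
    rw [hk', mul_smul, ← hx, smul_def]
    funext i
    show (uMat (-a) (-b) (-k) *ᵥ x) i = _
    rcases i with i | i <;> fin_cases i <;>
      simp [uMat, Matrix.mulVec, dotProduct, Fintype.sum_sum_type, Fin.sum_univ_two, f, h1, a, b, k]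
    ring
  set c1 := k' • (Pi.single (Sum.inl 1) 1 : Fin 2 ⊕ Fin 2 → F) with hc1
  set c2 := k' • (Pi.single (Sum.inr 1) 1 : Fin 2 ⊕ Fin 2 → F) with hc2
  have q1 : c1 (Sum.inr 0) = 0 := by
    have := form_map k' (Pi.single (Sum.inl 1) 1) eVec
    rw [he', form_eq_sum, form_eq_sum] at this
    simpa [eVec, Fin.sum_univ_two, hc1] using this
  have q2 : c2 (Sum.inr 0) = 0 := by
    have := form_map k' (Pi.single (Sum.inr 1) 1) eVec
    rw [he', form_eq_sum, form_eq_sum] at this
    simpa [eVec, Fin.sum_univ_two, hc2] using this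
  have q3 : c1 (Sum.inl 0) = 0 := by
    have := form_map k' f (Pi.single (Sum.inl 1) 1)
    rw [hf', form_eq_sum, form_eq_sum] at this
    simpa [f, Fin.sum_univ_two, hc1] using this
  have q4 : c2 (Sum.inl 0) = 0 := by
    have := form_map k' f (Pi.single (Sum.inr 1) 1)
    rw [hf', form_eq_sum, form_eq_sum] at this
    simpa [f, Fin.sum_univ_two, hc2] using this
  have hd : c1 (Sum.inl 1) * c2 (Sum.inr 1) - c2 (Sum.inl 1) * c1 (Sum.inr 1) = 1 := by
    have := form_map k' (Pi.single (Sum.inr 1) 1) (Pi.single (Sum.inl 1) 1)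
    rw [← hc1, ← hc2, form_eq_sum, form_eq_sum] at this
    simp [Fin.sum_univ_two, q1, q2] at this
    linear_combination this
  let A : SpecialLinearGroup (Fin 2) F :=
    ⟨!![c1 (Sum.inl 1), c2 (Sum.inl 1); c1 (Sum.inr 1), c2 (Sum.inr 1)], by
      rw [det_fin_two]; simpa using hd⟩
  refine ⟨a, b, k, A, ?_⟩
  have hlam : k' = lamSp A := by
    refine ext_smul_single fun i => ?_
    rcases i with i | i <;> fin_cases i
    · refine he'.trans (lamSp_smul_eVec A).symm
    · show c1 = _
      rw [smul_def, Matrix.mulVec_single_one]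
      show c1 = (lamMat A.1)ᵀ (Sum.inl 1)
      funext j
      rcases j with j | j <;> fin_cases j <;> simp [lamMat, A, q1, q3]
    · show k' • f = lamSp A • f
      rw [hf', smul_def, hf, Matrix.mulVec_single_one]
      show Pi.single (Sum.inr 0) 1 = (lamMat A.1)ᵀ (Sum.inr 0)
      funext j
      rcases j with j | j <;> fin_cases j <;> simp [lamMat]
    · show c2 = _
      rw [smul_def, Matrix.mulVec_single_one]
      show c2 = (lamMat A.1)ᵀ (Sum.inr 1)
      funext j
      rcases j with j | j <;> fin_cases j <;> simp [lamMat, A, q2, q4]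
  rw [← hlam, hk', ← mul_assoc, uSp_mul]
  rw [show a + -a = 0 by ring, show b + -b = 0 by ring,
    show k + -k + (a * -b - -a * b) = 0 by ring, uSp_zero, one_mul]

end Cfsg.Agent.HeisSLModel29
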