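import Mathlib
import Cfsg.Prelude.Def_GeometricClasses

/-!
An extraspecial group of order 27 and exponent 3 in dimension three: monomial form and elements of
its normaliser.
-/

set_option autoImplicit false

namespace Cfsg.Agent.HeisenbergThree

open Matrix

variable {F : Type*} [Field F]

/-- An invertible diagonal matrix. -/
def dg (d : Fin 3 → Fˣ) : GL (Fin 3) F :=
  ⟨diagonal fun i => (d i : F), diagonal fun i => ((d i)⁻¹ : Fˣ),
    by rw [diagonal_mul_diagonal]; simp, by rw [diagonal_mul_diagonal]; simp⟩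

theorem dg_val (d : Fin 3 → Fˣ) : (dg d : Matrix (Fin 3) (Fin 3) F) = diagonal fun i => (d i : F) :=
  rfl

/-- The cyclic permutation matrix. -/
def cyc : GL (Fin 3) F :=
  ⟨!![0, 0, 1; 1, 0, 0; 0, 1, 0], !![0, 1, 0; 0, 0, 1; 1, 0, 0],
    by ext i j; fin_cases i <;> fin_cases j <;> simp [mul_apply, Fin.sum_univ_three],
    by ext i j; fin_cases i <;> fin_cases j <;> simp [mul_apply, Fin.sum_univ_three]⟩

/-- Minus a transposition matrix. -/
def inv2 : GL (Fin 3) F :=
  ⟨!![-1, 0, 0; 0, 0, -1; 0, -1, 0], !![-1, 0, 0; 0, 0, -1; 0, -1, 0],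
    by ext i j; fin_cases i <;> fin_cases j <;> simp [mul_apply, Fin.sum_univ_three],
    by ext i j; fin_cases i <;> fin_cases j <;> simp [mul_apply, Fin.sum_univ_three]⟩

/-- A basis of eigenvectors gives a diagonalisation. -/
theorem diag_of_span (X : Matrix (Fin 3) (Fin 3) F) (T : Set F)
    (h : ∀ w : Fin 3 → F, w ∈ Submodule.span F {v | ∃ t ∈ T, X *ᵥ v = t • v}) :
    ∃ (P : GL (Fin 3) F) (l : Fin 3 → F), (∀ i, l i ∈ T) ∧
      X * (P : Matrix (Fin 3) (Fin 3) F) = (P : Matrix (Fin 3) (Fin 3) F) * diagonal l := by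
  classical
  set S := {v : Fin 3 → F | ∃ t ∈ T, X *ᵥ v = t • v}
  obtain ⟨b, hbS, hsp, hli⟩ := exists_linearIndependent F S
  let B : Module.Basis b F (Fin 3 → F) := Module.Basis.mk hli (by
    rw [Subtype.range_coe_subtype, Set.ofPred_mem_eq, hsp]; exact fun w _ => h w)
  haveI : Fintype b := FiniteDimensional.fintypeBasisIndex B
  have hc : Fintype.card b = 3 := by rw [← Module.finrank_eq_card_basis B, Module.finrank_fin_fun]
  let e : Fin 3 ≃ b := (Fintype.equivFinOfCardEq hc).symm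
  choose l hl hX using fun i => hbS (e i).2
  let M : Matrix (Fin 3) (Fin 3) F := Matrix.of fun i j => (e j : Fin 3 → F) i
  have hM : IsUnit M := by
    rw [← Matrix.linearIndependent_cols_iff_isUnit]
    exact hli.comp e e.injective
  refine ⟨hM.unit, l, hl, ?_⟩
  rw [IsUnit.unit_spec]
  ext i j
  rw [mul_diagonal]
  calc (X * M) i j = (X *ᵥ (e j : Fin 3 → F)) i := rfl
    _ = _ := by rw [hX j, Pi.smul_apply, smul_eq_mul, mul_comm]; rfl

/-- Diagonalisation of an element of order dividing two. -/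
theorem diag_two (h2 : (2 : F) ≠ 0) {X : Matrix (Fin 3) (Fin 3) F} (hX : X * X = 1) :
    ∃ (P : GL (Fin 3) F) (l : Fin 3 → F), (∀ i, l i = 1 ∨ l i = -1) ∧
      X * (P : Matrix (Fin 3) (Fin 3) F) = (P : Matrix (Fin 3) (Fin 3) F) * diagonal l := by
  refine diag_of_span X {t | t = 1 ∨ t = -1} fun w => ?_
  have hw : X *ᵥ (X *ᵥ w) = w := by rw [mulVec_mulVec, hX, one_mulVec]
  have e : w = (2⁻¹ : F) • (w + X *ᵥ w) + (2⁻¹ : F) • (w - X *ᵥ w) := by
    rw [← smul_add, show w + X *ᵥ w + (w - X *ᵥ w) = (2 : F) • w by rw [two_smul]; abel, smul_smul,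
      inv_mul_cancel₀ h2, one_smul]
  rw [e]
  refine add_mem (Submodule.smul_mem _ _ (Submodule.subset_span ⟨1, Or.inl rfl, ?_⟩))
    (Submodule.smul_mem _ _ (Submodule.subset_span ⟨-1, Or.inr rfl, ?_⟩))
  · rw [mulVec_add, hw, one_smul, add_comm]
  · rw [mulVec_sub, hw, neg_one_smul, neg_sub]

/-- The sum of the cube roots of unity. -/
theorem omega_sum {ω : F} (h : ω ^ 3 = 1) (h1 : ω ≠ 1) : 1 + ω + ω ^ 2 = 0 :=
  (mul_eq_zero.mp (show (ω - 1) * (1 + ω + ω ^ 2) = 0 by linear_combination h)).resolve_left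
    (sub_ne_zero.mpr h1)

/-- Eigenvectors of an element of order dividing three span. -/
theorem span_three {ω : F} (h : ω ^ 3 = 1) (h1 : ω ≠ 1) (h3 : (3 : F) ≠ 0)
    {X : Matrix (Fin 3) (Fin 3) F} (hX : X * X * X = 1) (w : Fin 3 → F) :
    w ∈ Submodule.span F {v | ∃ t ∈ {t : F | ∃ k : ℕ, t = ω ^ k}, X *ᵥ v = t • v} := by
  have hs := omega_sum h h1
  have hw : X *ᵥ (X *ᵥ (X *ᵥ w)) = w := by rw [mulVec_mulVec, mulVec_mulVec, hX, one_mulVec]
  let u : ℕ → Fin 3 → F := fun k => w + ((ω ^ k) ^ 2) • (X *ᵥ w) + (ω ^ k) • (X *ᵥ (X *ᵥ w))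
  have hu : ∀ k, u k ∈ Submodule.span F {v | ∃ t ∈ {t : F | ∃ k : ℕ, t = ω ^ k}, X *ᵥ v = t • v} := by
    refine fun k => Submodule.subset_span ⟨ω ^ k, ⟨k, rfl⟩, ?_⟩
    have e3 : (ω ^ k) ^ 3 = 1 := by rw [← pow_mul, mul_comm, pow_mul, h, one_pow]
    simp only [u, mulVec_add, mulVec_smul, hw, smul_add, smul_smul]
    rw [show ω ^ k * (ω ^ k) ^ 2 = 1 by rw [← pow_succ', e3],
      show ω ^ k * ω ^ k = (ω ^ k) ^ 2 by rw [pow_two], one_smul]
    abel
  have e : w = (3⁻¹ : F) • (u 0 + u 1 + u 2) := by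
    rw [eq_inv_smul_iff₀ h3]
    simp only [u, pow_zero, one_pow, one_smul, pow_one]
    ext i
    simp only [Pi.add_apply, Pi.smul_apply, smul_eq_mul]
    linear_combination (-((X *ᵥ w) i) * ω) * h - ((X *ᵥ w) i + (X *ᵥ (X *ᵥ w)) i) * hs
  rw [e]
  exact Submodule.smul_mem _ _ (add_mem (add_mem (hu 0) (hu 1)) (hu 2))

/-- Elements with the same diagonal form are conjugate by a matrix of determinant one. -/
theorem conj_of_diag {x y P Q : GL (Fin 3) F} {l : Fin 3 → F}
    (hx : (x : Matrix (Fin 3) (Fin 3) F) * P = (P : Matrix (Fin 3) (Fin 3) F) * diagonal l)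
    (hy : (y : Matrix (Fin 3) (Fin 3) F) * Q = (Q : Matrix (Fin 3) (Fin 3) F) * diagonal l) :
    ∃ g ∈ Cfsg.Geo.specialLinear (Fin 3) F, g⁻¹ * x * g = y := by
  set s : Fˣ := GeneralLinearGroup.det Q / GeneralLinearGroup.det P with hs
  set Δ := dg ![s, 1, 1]
  have hΔ : GeneralLinearGroup.det Δ = s := by
    apply Units.ext
    simp [Δ, GeneralLinearGroup.val_det_apply, dg_val, Fin.prod_univ_three]
  have hc : diagonal l * (Δ : Matrix (Fin 3) (Fin 3) F) = (Δ : Matrix (Fin 3) (Fin 3) F) * diagonal l := by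
    rw [dg_val, diagonal_mul_diagonal, diagonal_mul_diagonal]
    exact congrArg diagonal (funext fun i => mul_comm _ _)
  refine ⟨P * Δ * Q⁻¹, ?_, ?_⟩
  · show GeneralLinearGroup.det (P * Δ * Q⁻¹) = 1
    rw [map_mul, map_mul, map_inv, hΔ, hs, mul_div_cancel, mul_inv_cancel]
  · rw [mul_assoc, inv_mul_eq_iff_eq_mul]
    apply Units.ext
    simp only [Units.val_mul]
    set Qi := ((Q⁻¹ : GL (Fin 3) F) : Matrix (Fin 3) (Fin 3) F) with hQi
    have hy' : diagonal l * Qi = Qi * (y : Matrix (Fin 3) (Fin 3) F) := by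
      calc diagonal l * Qi = Qi * ((Q : Matrix (Fin 3) (Fin 3) F) * diagonal l) * Qi := by
            rw [hQi, ← mul_assoc, Units.inv_mul, one_mul]
        _ = _ := by rw [← hy, hQi, mul_assoc, mul_assoc, Units.mul_inv, mul_one]
    rw [← mul_assoc, ← mul_assoc, hx, mul_assoc (P : Matrix (Fin 3) (Fin 3) F), hc, ← mul_assoc,
      mul_assoc, hy', ← mul_assoc]

/-- Scalar matrices in `GL`. -/
def sc (z : Fˣ) : GL (Fin 3) F := dg fun _ => z

theorem sc_val (z : Fˣ) : (sc z : Matrix (Fin 3) (Fin 3) F) = (z : F) • (1 : Matrix (Fin 3) (Fin 3) F) := by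
  rw [sc, dg_val, Matrix.smul_one_eq_diagonal]

theorem sc_comm (z : Fˣ) (g : GL (Fin 3) F) : sc z * g = g * sc z := by
  apply Units.ext
  simp only [Units.val_mul, sc_val, smul_mul_assoc, one_mul, mul_smul_comm, mul_one]

/-- The powers of a non-trivial cube root of unity are distinct. -/
theorem pow_inj3 {w : F} (h : w ^ 3 = 1) (h1 : w ≠ 1) : Function.Injective fun i : Fin 3 => w ^ (i : ℕ) := by
  haveI : Fact (Nat.Prime 3) := ⟨Nat.prime_three⟩
  intro i j e
  exact Fin.ext ((IsPrimitiveRoot.iff_orderOf.mpr (orderOf_eq_prime h h1)).pow_inj i.2 j.2 e)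

omit [Field F] in
/-- A non-constant triple has an entry occurring once. -/
theorem exists_single {l : Fin 3 → F} (h : ¬ ∀ i j, l i = l j) : ∃ i, ∀ j, j ≠ i → l i ≠ l j := by
  have mk : ∀ i j k : Fin 3, (∀ m, m = i ∨ m = j ∨ m = k) → l i ≠ l j → l i ≠ l k →
      ∃ i, ∀ j, j ≠ i → l i ≠ l j := fun i j k hall a b => ⟨i, fun m hm => by
    rcases hall m with rfl | rfl | rfl
    · exact absurd rfl hm
    · exact a
    · exact b⟩
  by_cases a : l 0 = l 1
  · refine mk 2 0 1 (by decide) (fun e => h ?_) (fun e => h ?_)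
    · intro i j; fin_cases i <;> fin_cases j <;> simp [← a, e]
    · intro i j; fin_cases i <;> fin_cases j <;> simp [a, e]
  · by_cases b : l 0 = l 2
    · exact mk 1 0 2 (by decide) (Ne.symm a) (by rw [← b]; exact Ne.symm a)
    · exact mk 0 1 2 (by decide) a b

variable [Fintype F]

/-- The monomial form of the group. -/
structure Form (R : Subgroup (GL (Fin 3) F)) where
  ω : Fˣ
  P : GL (Fin 3) F
  cube : ω ^ 3 = 1
  ne : ω ≠ 1
  scal : sc ω ∈ R
  memD : P * dg ![1, ω, ω ^ 2] * P⁻¹ ∈ R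
  memC : P * cyc * P⁻¹ ∈ R
  gen : Subgroup.closure {P * dg ![1, ω, ω ^ 2] * P⁻¹, P * cyc * P⁻¹} = R

theorem exists_form (h3 : (3 : F) ≠ 0) {ω₀ : F} (hω : ω₀ ^ 3 = 1) (hω1 : ω₀ ≠ 1)
    (R : Subgroup (GL (Fin 3) F)) (hR : Nat.card R = 27) (hRe : Monoid.exponent R = 3)
    (hRna : ¬ IsMulCommutative R) : Nonempty (Form R) := by
  classical
  haveI : Fact (Nat.Prime 3) := ⟨Nat.prime_three⟩
  have cube : ∀ g ∈ R, g ^ 3 = 1 := fun g hg => by
    have := Monoid.pow_exponent_eq_one (⟨g, hg⟩ : R)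
    rw [hRe] at this
    exact congrArg Subtype.val this
  have hRp : IsPGroup 3 R := IsPGroup.of_card (n := 3) (by rw [hR]; norm_num)
  haveI : Nontrivial R := Finite.one_lt_card_iff_nontrivial.mp (by rw [hR]; norm_num)
  -- central commutators
  have hcent : ∀ a ∈ R, ∀ b ∈ R, ∀ g ∈ R, Commute (a * b * a⁻¹ * b⁻¹) g := by
    intro a ha b hb g hg
    have hnt := hRp.center_nontrivial
    have h1 : 3 ≤ Nat.card (Subgroup.center R) := by
      obtain ⟨n, hn⟩ := IsPGroup.iff_card.mp (hRp.to_subgroup (Subgroup.center R))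
      rcases n with - | n
      · rw [pow_zero] at hn
        exact absurd (Finite.one_lt_card_iff_nontrivial.mpr hnt) (by omega)
      · rw [hn]; exact Nat.le_self_pow (by omega) 3
    obtain ⟨n, hn⟩ := IsPGroup.iff_card.mp (hRp.to_quotient (Subgroup.center R))
    have hmul := Subgroup.card_eq_card_quotient_mul_card_subgroup (Subgroup.center R)
    have hq : IsMulCommutative (R ⧸ Subgroup.center R) := by
      rw [hR, hn] at hmul
      have hn2 : n ≤ 2 := by
        by_contra hc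
        have : 27 ≤ 3 ^ n := le_trans (by norm_num) (Nat.pow_le_pow_right (by norm_num) (show 3 ≤ n by omega))
        nlinarith
      interval_cases n
      · haveI := (Nat.card_eq_one_iff_unique.mp hn).1
        exact ⟨⟨fun x y => Subsingleton.elim _ _⟩⟩
      · haveI := isCyclic_of_prime_card (p := 3) (hn.trans (pow_one 3))
        exact IsCyclic.isMulCommutative
      · exact IsPGroup.isMulCommutative_of_card_eq_prime_sq (p := 3) hn
    have hm : (⟨a, ha⟩ * ⟨b, hb⟩ * (⟨a, ha⟩ : R)⁻¹ * (⟨b, hb⟩ : R)⁻¹) ∈ Subgroup.center R := by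
      rw [← QuotientGroup.eq_one_iff]
      simp only [QuotientGroup.mk_mul, QuotientGroup.mk_inv]
      rw [hq.is_comm.comm ((⟨a, ha⟩ : R) : R ⧸ Subgroup.center R)]
      group
    exact (congrArg Subtype.val (Subgroup.mem_center_iff.mp hm ⟨g, hg⟩)).symm
  obtain ⟨a, ha, b, hb, hab⟩ : ∃ a ∈ R, ∃ b ∈ R, a * b ≠ b * a := by
    by_contra hc
    push Not at hc
    exact hRna ⟨⟨fun x y => Subtype.ext (hc x x.2 y y.2)⟩⟩
  set c := a * b * a⁻¹ * b⁻¹ with hcdef
  have hc1 : c ≠ 1 := fun e => hab (by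
    rw [hcdef, mul_inv_eq_one, mul_inv_eq_iff_eq_mul] at e; exact e)
  have hcR : c ∈ R := R.mul_mem (R.mul_mem (R.mul_mem ha hb) (R.inv_mem ha)) (R.inv_mem hb)
  -- `c` is a scalar
  obtain ⟨Q, l, hl, hQ⟩ := diag_of_span (c : Matrix (Fin 3) (Fin 3) F) {t | ∃ k : ℕ, t = ω₀ ^ k}
    (span_three hω hω1 h3 (by
      rw [← Units.val_mul, ← Units.val_mul, ← pow_two, ← pow_succ, cube c hcR, Units.val_one]))
  have hl3 : ∀ i, l i ^ 3 = 1 := fun i => by
    obtain ⟨k, hk⟩ := hl i
    rw [hk, ← pow_mul, mul_comm, pow_mul, hω, one_pow]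
  set A := Q⁻¹ * a * Q with hA
  set B := Q⁻¹ * b * Q with hB
  set Λ := Q⁻¹ * c * Q with hΛdef
  have hΛv : (Λ : Matrix (Fin 3) (Fin 3) F) = diagonal l := by
    rw [hΛdef, Units.val_mul, Units.val_mul, mul_assoc, hQ, ← mul_assoc, Units.inv_mul, one_mul]
  have hΛA : Commute Λ A := by
    have := hcent a ha b hb a ha
    rw [← hcdef] at this
    rw [hΛdef, hA, Commute, SemiconjBy]
    calc Q⁻¹ * c * Q * (Q⁻¹ * a * Q) = Q⁻¹ * (c * a) * Q := by group
      _ = Q⁻¹ * (a * c) * Q := by rw [this.eq]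
      _ = _ := by group
  have hΛB : Commute Λ B := by
    have := hcent a ha b hb b hb
    rw [← hcdef] at this
    rw [hΛdef, hB, Commute, SemiconjBy]
    calc Q⁻¹ * c * Q * (Q⁻¹ * b * Q) = Q⁻¹ * (c * b) * Q := by group
      _ = Q⁻¹ * (b * c) * Q := by rw [this.eq]
      _ = _ := by group
  have hcomm : A * B = Λ * (B * A) := by
    rw [hA, hB, hΛdef, hcdef]; group
  have offz : ∀ M : GL (Fin 3) F, Commute Λ M → ∀ i j, l i ≠ l j →
      (M : Matrix (Fin 3) (Fin 3) F) i j = 0 := by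
    intro M hM i j hij
    have e := congrFun (congrFun (congrArg (fun g : GL (Fin 3) F => (g : Matrix (Fin 3) (Fin 3) F)) hM.eq) i) j
    simp only [Units.val_mul, hΛv, diagonal_mul, mul_diagonal] at e
    exact (mul_eq_zero.mp (show (l i - l j) * (M : Matrix (Fin 3) (Fin 3) F) i j = 0 by
      linear_combination e)).resolve_left (sub_ne_zero.mpr hij)
  have hconst : ∀ i j, l i = l j := by
    by_contra hne
    -- some eigenvalue occurs once
    obtain ⟨i, hi⟩ := exists_single hne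
    have rowA : ∀ (M : GL (Fin 3) F), Commute Λ M → ∀ N : GL (Fin 3) F,
        ((M * N : GL (Fin 3) F) : Matrix (Fin 3) (Fin 3) F) i i =
          (M : Matrix (Fin 3) (Fin 3) F) i i * (N : Matrix (Fin 3) (Fin 3) F) i i := fun M hM N => by
      rw [Units.val_mul, mul_apply, Finset.sum_eq_single i (fun j _ hj => by
        rw [offz M hM i j (hi j hj), zero_mul]) (fun hh => absurd (Finset.mem_univ i) hh)]
    have hne0 : ∀ (M : GL (Fin 3) F), Commute Λ M → (M : Matrix (Fin 3) (Fin 3) F) i i ≠ 0 := fun M hM h0 => by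
      have := rowA M hM M⁻¹
      rw [mul_inv_cancel, Units.val_one, one_apply_eq, h0, zero_mul] at this
      exact one_ne_zero this
    have e := congrArg (fun g : GL (Fin 3) F => (g : Matrix (Fin 3) (Fin 3) F) i i) hcomm
    simp only [rowA A hΛA, rowA Λ (Commute.refl _), rowA B hΛB, hΛv, diagonal_apply_eq] at e
    have li : l i = 1 := mul_right_cancel₀ (mul_ne_zero (hne0 A hΛA) (hne0 B hΛB)) (by
      linear_combination -e)
    have hdet : ∏ j, l j = 1 := by
      have e1 : GeneralLinearGroup.det Λ = 1 := by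
        rw [hΛdef, hcdef]
        simp only [map_mul, map_inv]
        rw [mul_comm (GeneralLinearGroup.det a) (GeneralLinearGroup.det b)]
        simp [mul_comm]
      have e2 := congrArg Units.val e1
      rw [GeneralLinearGroup.val_det_apply, hΛv, det_diagonal, Units.val_one] at e2
      exact e2
    -- the other two eigenvalues are equal
    obtain ⟨j, k, hji, hki, hjk, hprod⟩ : ∃ j k, j ≠ i ∧ k ≠ i ∧ (∀ m, m = i ∨ m = j ∨ m = k) ∧
        ∏ m, l m = l i * l j * l k := by
      fin_cases i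
      · exact ⟨1, 2, by decide, by decide, by decide, by rw [Fin.prod_univ_three]; rfl⟩
      · exact ⟨0, 2, by decide, by decide, by decide, by
          rw [Fin.prod_univ_three]; show l 0 * l 1 * l 2 = l 1 * l 0 * l 2; ring⟩
      · exact ⟨0, 1, by decide, by decide, by decide, by
          rw [Fin.prod_univ_three]; show l 0 * l 1 * l 2 = l 2 * l 0 * l 1; ring⟩
    rw [hprod, li, one_mul] at hdet
    have hljk : l j = l k := by
      by_contra hjk'
      -- then all three are distinct, so everything is diagonal and commutes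
      have inj : ∀ m n : Fin 3, m ≠ n → l m ≠ l n := fun m n hmn => by
        rcases hjk m with rfl | rfl | rfl <;> rcases hjk n with rfl | rfl | rfl <;>
          first | exact absurd rfl hmn | exact hi _ hji | exact hi _ hki | exact (hi _ hji).symm |
            exact (hi _ hki).symm | exact hjk' | exact Ne.symm hjk'
      have diagM : ∀ M : GL (Fin 3) F, Commute Λ M →
          (M : Matrix (Fin 3) (Fin 3) F) = diagonal fun m => (M : Matrix (Fin 3) (Fin 3) F) m m :=
        fun M hM => by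
          ext m n
          by_cases hmn : m = n
          · subst hmn; rw [diagonal_apply_eq]
          · rw [diagonal_apply_ne _ hmn, offz M hM m n (inj m n hmn)]
      have : A * B = B * A := by
        apply Units.ext
        show (A : Matrix (Fin 3) (Fin 3) F) * (B : Matrix (Fin 3) (Fin 3) F) =
          (B : Matrix (Fin 3) (Fin 3) F) * (A : Matrix (Fin 3) (Fin 3) F)
        rw [diagM A hΛA, diagM B hΛB, diagonal_mul_diagonal,
          diagonal_mul_diagonal]
        exact congrArg diagonal (funext fun m => mul_comm _ _)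
      apply hab
      calc a * b = Q * (A * B) * Q⁻¹ := by rw [hA, hB]; group
        _ = Q * (B * A) * Q⁻¹ := by rw [this]
        _ = b * a := by rw [hA, hB]; group
    have : l j = 1 := by
      have h3' := hl3 j
      rw [← hljk] at hdet
      linear_combination h3' - l j * hdet
    exact hi j hji (li.trans this.symm)
  obtain ⟨w, hw⟩ : ∃ w : Fˣ, (w : F) = l 0 :=
    ⟨Units.mk0 (l 0) (fun e => by simpa [e] using hl3 0), rfl⟩
  have hcw : c = sc w := by
    have e1 : Λ = sc w := Units.ext (by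
      rw [hΛv, sc, dg_val]; exact congrArg diagonal (funext fun i => by rw [hw]; exact hconst i 0))
    calc c = Q * Λ * Q⁻¹ := by rw [hΛdef]; group
      _ = sc w := by rw [e1, ← sc_comm]; group
  have hw3 : w ^ 3 = 1 := Units.ext (by rw [Units.val_pow_eq_pow_val, hw, hl3, Units.val_one])
  have hw1 : w ≠ 1 := fun e => hc1 (by
    rw [hcw, e]; exact Units.ext (by rw [sc_val, Units.val_one, one_smul, Units.val_one]))
  have hw1' : (w : F) ≠ 1 := fun e => hw1 (Units.ext e)
  have hw3' : (w : F) ^ 3 = 1 := by rw [← Units.val_pow_eq_pow_val, hw3, Units.val_one]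
  -- an eigenvector with value one after a central change
  obtain ⟨v₀, t, hv₀, htT, hv₀e⟩ : ∃ (v : Fin 3 → F) (t : F), v ≠ 0 ∧ (∃ k : ℕ, t = (w : F) ^ k) ∧
      (a : Matrix (Fin 3) (Fin 3) F) *ᵥ v = t • v := by
    by_contra hno
    push Not at hno
    have h0 : ∀ u : Fin 3 → F, u ∈ Submodule.span F
        {v | ∃ t ∈ {t : F | ∃ k : ℕ, t = (w : F) ^ k}, (a : Matrix (Fin 3) (Fin 3) F) *ᵥ v = t • v} :=
      span_three hw3' hw1' h3 (by
        rw [← Units.val_mul, ← Units.val_mul, ← pow_two, ← pow_succ, cube a ha, Units.val_one])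
    have hle : Submodule.span F
        {v | ∃ t ∈ {t : F | ∃ k : ℕ, t = (w : F) ^ k}, (a : Matrix (Fin 3) (Fin 3) F) *ᵥ v = t • v} ≤ ⊥ :=
      Submodule.span_le.mpr fun v ⟨t, ⟨k, hk⟩, hv⟩ => by
        by_contra hv0
        exact hno v t (by simpa using hv0) ⟨k, hk⟩ hv
    have := hle (h0 (Pi.single 0 1))
    simp at this
  obtain ⟨k, rfl⟩ := htT
  set a' := sc w ^ (2 * k) * a with ha'
  have ha'R : a' ∈ R := R.mul_mem (R.pow_mem (hcw ▸ hcR) _) ha
  have hscpow : ∀ m : ℕ, sc w ^ m = sc (w ^ m) := fun m => by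
    induction m with
    | zero => exact Units.ext (by simp [sc_val])
    | succ m ih => rw [pow_succ, ih]; exact Units.ext (by
        rw [Units.val_mul, sc_val, sc_val, sc_val, Units.val_pow_eq_pow_val, Units.val_pow_eq_pow_val]
        rw [smul_mul_assoc, one_mul, smul_smul, pow_succ])
  have hv1 : (a' : Matrix (Fin 3) (Fin 3) F) *ᵥ v₀ = v₀ := by
    rw [ha', hscpow, Units.val_mul, ← mulVec_mulVec, hv₀e, sc_val, smul_mulVec, one_mulVec, smul_smul,
      Units.val_pow_eq_pow_val, ← pow_add, show 2 * k + k = 3 * k by ring, pow_mul, hw3', one_pow,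
      one_smul]
  have hba : a' * b = sc w * b * a' := by
    have e1 : a * b = sc w * b * a := by rw [← hcw, hcdef]; group
    rw [ha', hscpow, mul_assoc, e1, ← mul_assoc, ← mul_assoc, sc_comm (w ^ (2 * k)) (sc w),
      mul_assoc (sc w), sc_comm (w ^ (2 * k)) b]
    simp only [mul_assoc]
  let am := (a' : Matrix (Fin 3) (Fin 3) F)
  let bm := (b : Matrix (Fin 3) (Fin 3) F)
  have hstep : ∀ (u : Fin 3 → F) (t : F), am *ᵥ u = t • u → am *ᵥ (bm *ᵥ u) = ((w : F) * t) • (bm *ᵥ u) := by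
    intro u t hu
    show (a' : Matrix (Fin 3) (Fin 3) F) *ᵥ _ = _
    rw [mulVec_mulVec, ← Units.val_mul, hba, mul_assoc, Units.val_mul, sc_val, ← mulVec_mulVec,
      Units.val_mul, ← mulVec_mulVec, hu, mulVec_smul, smul_mulVec, one_mulVec, smul_smul]
  let col : Fin 3 → Fin 3 → F := ![v₀, bm *ᵥ v₀, bm *ᵥ (bm *ᵥ v₀)]
  have hne : ∀ i, col i ≠ 0 := by
    have hinj := Matrix.mulVec_injective_of_isUnit b.isUnit
    have h1 : bm *ᵥ v₀ ≠ 0 := fun e => hv₀ (hinj (e.trans (mulVec_zero _).symm))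
    intro i
    fin_cases i
    · exact hv₀
    · exact h1
    · exact fun e => h1 (hinj (e.trans (mulVec_zero _).symm))
  have e1 := hstep v₀ 1 (by rw [one_smul]; exact hv1)
  rw [mul_one] at e1
  have e2 := hstep _ _ e1
  have heig : ∀ i, am *ᵥ col i = ((w : F) ^ (i : ℕ)) • col i := by
    intro i
    fin_cases i
    · simpa [col] using hv1
    · simpa [col] using e1
    · simpa [col, pow_two] using e2
  have hli : LinearIndependent F col := by
    refine Module.End.eigenvectors_linearIndependent' (Matrix.toLin' am) (fun i : Fin 3 => (w : F) ^ (i : ℕ))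
      ?_ col fun i => ⟨Module.End.mem_eigenspace_iff.mpr (by rw [Matrix.toLin'_apply]; exact heig i), hne i⟩
    exact pow_inj3 hw3' hw1'
  let M : Matrix (Fin 3) (Fin 3) F := Matrix.of fun i j => col j i
  have hM : IsUnit M := by rw [← Matrix.linearIndependent_cols_iff_isUnit]; exact hli
  set P : GL (Fin 3) F := hM.unit with hP
  have hPv : (P : Matrix (Fin 3) (Fin 3) F) = M := hM.unit_spec
  have hb3 : bm *ᵥ (bm *ᵥ (bm *ᵥ v₀)) = v₀ := by
    rw [mulVec_mulVec, mulVec_mulVec, ← Units.val_mul, ← Units.val_mul, ← pow_two, ← pow_succ, cube b hb,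
      Units.val_one, one_mulVec]
  have hb3' : (bm * (bm * bm)) *ᵥ v₀ = v₀ := by rw [← mulVec_mulVec, ← mulVec_mulVec]; exact hb3
  have hbP : b = P * cyc * P⁻¹ := by
    rw [eq_mul_inv_iff_mul_eq]
    apply Units.ext
    rw [Units.val_mul, Units.val_mul, hPv]
    ext i j
    have hbc : (bm * M) i j = (bm *ᵥ col j) i := rfl
    rw [hbc, mul_apply, Fin.sum_univ_three]
    fin_cases j <;> simp [M, col, cyc, hb3, hb3']
  have haP : a' = P * dg ![1, w, w ^ 2] * P⁻¹ := by
    rw [eq_mul_inv_iff_mul_eq]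
    apply Units.ext
    show (a' : Matrix (Fin 3) (Fin 3) F) * (P : Matrix (Fin 3) (Fin 3) F) =
      (P : Matrix (Fin 3) (Fin 3) F) * (dg ![1, w, w ^ 2] : Matrix (Fin 3) (Fin 3) F)
    rw [hPv, dg_val]
    ext i j
    have hbc : (am * M) i j = (am *ᵥ col j) i := rfl
    rw [hbc, heig, mul_diagonal]
    fin_cases j <;> simp [M, mul_comm]
  refine ⟨⟨w, P, hw3, hw1, hcw ▸ hcR, haP ▸ ha'R, hbP ▸ hb, ?_⟩⟩
  rw [← haP, ← hbP]
  set K := Subgroup.closure {a', b} with hK
  have hKR : K ≤ R := (Subgroup.closure_le _).mpr (by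
    rintro _ (rfl | rfl)
    · exact ha'R
    · exact hb)
  refine Subgroup.eq_of_le_of_card_ge hKR ?_
  have hnc : ¬ IsMulCommutative K := fun h => by
    have e := congrArg Subtype.val (h.is_comm.comm ⟨a', Subgroup.subset_closure (by simp)⟩
      ⟨b, Subgroup.subset_closure (by simp)⟩)
    simp only [Subgroup.coe_mul] at e
    rw [hba, mul_assoc, mul_eq_right] at e
    have e2 : ((sc w : GL (Fin 3) F) : Matrix (Fin 3) (Fin 3) F) = 1 := by rw [e, Units.val_one]
    refine hw1' ?_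
    have e3 := congrFun (congrFun e2 0) 0
    simpa [sc_val] using e3
  obtain ⟨n, -, hn⟩ := (Nat.dvd_prime_pow Nat.prime_three).mp
    (show Nat.card K ∣ 3 ^ 3 by
      rw [show (3 : ℕ) ^ 3 = Nat.card R by rw [hR]; norm_num]; exact Subgroup.card_dvd_of_le hKR)
  rw [hR, hn]
  by_contra hlt
  apply hnc
  have hn2 : n ≤ 2 := by
    by_contra hc
    exact hlt (le_trans (by norm_num) (Nat.pow_le_pow_right (by norm_num) (show 3 ≤ n by omega)))
  interval_cases n
  · haveI := (Nat.card_eq_one_iff_unique.mp hn).1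
    exact ⟨⟨fun x y => Subsingleton.elim _ _⟩⟩
  · haveI := isCyclic_of_prime_card (p := 3) (hn.trans (pow_one 3))
    exact IsCyclic.isMulCommutative
  · exact IsPGroup.isMulCommutative_of_card_eq_prime_sq (p := 3) hn

variable {R : Subgroup (GL (Fin 3) F)} (T : Form R)
include T

/-- A criterion for membership in the normaliser. -/
theorem Form.mem_normalizer {x : GL (Fin 3) F} {u v : GL (Fin 3) F}
    (hu : T.P * u * T.P⁻¹ ∈ R) (hv : T.P * v * T.P⁻¹ ∈ R)
    (eu : x * dg ![1, T.ω, T.ω ^ 2] = u * x) (ev : x * cyc = v * x) :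
    T.P * x * T.P⁻¹ ∈ Cfsg.Geo.subgroupNormalizer R := by
  set y := T.P * x * T.P⁻¹
  have hle : R.map (MulAut.conj y).toMonoidHom ≤ R := by
    conv_lhs => rw [← T.gen]
    rw [MonoidHom.map_closure, Subgroup.closure_le]
    rintro _ ⟨g, hg, rfl⟩
    simp only [MulEquiv.coe_toMonoidHom, MulAut.conj_apply]
    rcases hg with rfl | rfl
    · rw [show y * (T.P * dg ![1, T.ω, T.ω ^ 2] * T.P⁻¹) * y⁻¹ =
        T.P * (x * dg ![1, T.ω, T.ω ^ 2] * x⁻¹) * T.P⁻¹ by simp only [y]; group, eu, mul_inv_cancel_right]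
      exact hu
    · rw [show y * (T.P * cyc * T.P⁻¹) * y⁻¹ = T.P * (x * cyc * x⁻¹) * T.P⁻¹ by simp only [y]; group,
        ev, mul_inv_cancel_right]
      exact hv
  have heq : R.map (MulAut.conj y).toMonoidHom = R := Subgroup.eq_of_le_of_card_ge hle
    (by rw [Subgroup.card_map_of_injective (MulAut.conj y).injective])
  rw [Cfsg.Geo.subgroupNormalizer, Subgroup.mem_set_normalizer_iff]
  intro g
  constructor
  · exact fun hg => hle ⟨g, hg, rfl⟩
  · intro hg
    obtain ⟨g', hg', e⟩ := heq.ge hg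
    simp only [MulEquiv.coe_toMonoidHom, MulAut.conj_apply] at e
    rwa [mul_left_cancel (mul_right_cancel e)] at hg'

theorem Form.det_one {g : GL (Fin 3) F} (hg : g ∈ R) : GeneralLinearGroup.det g = 1 := by
  have h : R ≤ Cfsg.Geo.specialLinear (Fin 3) F := by
    conv_lhs => rw [← T.gen]
    rw [Subgroup.closure_le]
    rintro _ (rfl | rfl) <;> show GeneralLinearGroup.det _ = 1 <;>
      rw [map_mul, map_mul, map_inv, mul_comm (GeneralLinearGroup.det T.P), mul_inv_cancel_right] <;>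
      apply Units.ext <;> rw [GeneralLinearGroup.val_det_apply, Units.val_one]
    · simp [dg_val, Fin.prod_univ_three]
      rw [← pow_succ', ← Units.val_pow_eq_pow_val, T.cube, Units.val_one]
    · simp [cyc, det_fin_three]
  exact h hg

/-- A diagonal matrix whose ratios are cube roots of unity normalises the group. -/
theorem Form.diag_mem (ζ : Fˣ) (k : Fin 3 → ℕ) :
    T.P * dg (fun i => ζ * T.ω ^ k i) * T.P⁻¹ ∈ Cfsg.Geo.subgroupNormalizer R := by
  refine T.mem_normalizer (u := dg ![1, T.ω, T.ω ^ 2])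
    (v := sc T.ω ^ (k 0 + 2 * k 2) * (dg ![1, T.ω, T.ω ^ 2] ^ (k 0 + k 1 + k 2) * cyc)) T.memD ?_ ?_ ?_
  · have e : T.P * (sc T.ω ^ (k 0 + 2 * k 2) * (dg ![1, T.ω, T.ω ^ 2] ^ (k 0 + k 1 + k 2) * cyc)) * T.P⁻¹ =
        sc T.ω ^ (k 0 + 2 * k 2) * ((T.P * dg ![1, T.ω, T.ω ^ 2] * T.P⁻¹) ^ (k 0 + k 1 + k 2) *
          (T.P * cyc * T.P⁻¹)) := by
      rw [conj_pow, ← mul_assoc T.P, ((show Commute (sc T.ω) T.P from sc_comm _ _).pow_left _).eq.symm]
      group
    rw [e]
    exact R.mul_mem (R.pow_mem T.scal _) (R.mul_mem (R.pow_mem T.memD _) T.memC)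
  · exact Units.ext (by
      rw [Units.val_mul, Units.val_mul, dg_val, dg_val, diagonal_mul_diagonal, diagonal_mul_diagonal]
      exact congrArg diagonal (funext fun i => mul_comm _ _))
  · have hc : (T.ω : F) ^ 3 = 1 := by rw [← Units.val_pow_eq_pow_val, T.cube, Units.val_one]
    apply Units.ext
    simp only [Units.val_mul, Units.val_pow_eq_pow_val, dg_val, sc_val, smul_pow, one_pow, diagonal_pow,
      smul_mul_assoc, one_mul, mul_assoc]
    ext i j
    simp only [Matrix.smul_apply, diagonal_mul, mul_diagonal, smul_eq_mul, Pi.pow_apply, cyc]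
    have c0 : ((T.ω : F) ^ 3) ^ (k 2) = 1 := by rw [hc, one_pow]
    have c1 : ((T.ω : F) ^ 3) ^ (k 0 + k 2) = 1 := by rw [hc, one_pow]
    have c2 : ((T.ω : F) ^ 3) ^ (k 0 + k 1 + k 2) = 1 := by rw [hc, one_pow]
    fin_cases i <;> fin_cases j <;> simp [← pow_mul, ← pow_add, mul_add, add_mul] <;>
      first
        | (rw [← mul_left_inj' ζ.ne_zero]; ring_nf; linear_combination (-(ζ : F) * (T.ω : F) ^ k 0) * c0)
        | (linear_combination (-(ζ : F) * (T.ω : F) ^ k 0) * c0)
        | (linear_combination (-(ζ : F) * (T.ω : F) ^ k 1) * c1)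
        | (linear_combination (-(ζ : F) * (T.ω : F) ^ k 2) * c2)

/-- Minus the transposition normalises the group. -/
theorem Form.inv2_mem : T.P * inv2 * T.P⁻¹ ∈ Cfsg.Geo.subgroupNormalizer R := by
  have hc : (T.ω : F) ^ 3 = 1 := by rw [← Units.val_pow_eq_pow_val, T.cube, Units.val_one]
  refine T.mem_normalizer (u := dg ![1, T.ω, T.ω ^ 2] * dg ![1, T.ω, T.ω ^ 2]) (v := cyc * cyc)
    ?_ ?_ ?_ ?_
  · rw [show T.P * (dg ![1, T.ω, T.ω ^ 2] * dg ![1, T.ω, T.ω ^ 2]) * T.P⁻¹ =
      (T.P * dg ![1, T.ω, T.ω ^ 2] * T.P⁻¹) * (T.P * dg ![1, T.ω, T.ω ^ 2] * T.P⁻¹) by group]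
    exact R.mul_mem T.memD T.memD
  · rw [show T.P * (cyc * cyc) * T.P⁻¹ = (T.P * cyc * T.P⁻¹) * (T.P * cyc * T.P⁻¹) by group]
    exact R.mul_mem T.memC T.memC
  · apply Units.ext
    simp only [Units.val_mul, dg_val, diagonal_mul_diagonal]
    ext i j
    fin_cases i <;> fin_cases j <;> simp [inv2, diagonal_mul, mul_diagonal] <;>
      first | linear_combination (T.ω : F) * hc | linear_combination -(T.ω : F) * hc | ring
  · apply Units.ext
    ext i j
    fin_cases i <;> fin_cases j <;> simp [inv2, cyc, mul_apply, Fin.sum_univ_three]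

/-- The centraliser consists of scalars. -/
theorem Form.centralizer {x : GL (Fin 3) F} (hx : ∀ g ∈ R, Commute x g) :
    ∃ z : F, (x : Matrix (Fin 3) (Fin 3) F) = z • (1 : Matrix (Fin 3) (Fin 3) F) := by
  set y := T.P⁻¹ * x * T.P with hy
  have hcm : ∀ u : GL (Fin 3) F, T.P * u * T.P⁻¹ ∈ R → y * u = u * y := fun u hu => by
    have := (hx _ hu).eq
    calc y * u = T.P⁻¹ * (x * (T.P * u * T.P⁻¹)) * T.P := by rw [hy]; group
      _ = T.P⁻¹ * ((T.P * u * T.P⁻¹) * x) * T.P := by rw [this]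
      _ = u * y := by rw [hy]; group
  have hd := congrArg (fun g : GL (Fin 3) F => (g : Matrix (Fin 3) (Fin 3) F)) (hcm _ T.memD)
  have hc := congrArg (fun g : GL (Fin 3) F => (g : Matrix (Fin 3) (Fin 3) F)) (hcm _ T.memC)
  simp only [Units.val_mul, dg_val] at hd hc
  set Y := (y : Matrix (Fin 3) (Fin 3) F) with hY
  have w1 : (T.ω : F) ≠ 1 := fun e => T.ne (Units.ext e)
  have w3 : (T.ω : F) ^ 3 = 1 := by rw [← Units.val_pow_eq_pow_val, T.cube, Units.val_one]
  have off : ∀ i j, i ≠ j → Y i j = 0 := fun i j hij => by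
    have e := congrFun (congrFun hd i) j
    rw [mul_diagonal, diagonal_mul] at e
    have hval : ∀ i : Fin 3, ((![1, T.ω, T.ω ^ 2] i : Fˣ) : F) = (T.ω : F) ^ (i : ℕ) := fun i => by
      fin_cases i <;> simp
    rw [hval, hval] at e
    refine (mul_eq_zero.mp (show ((T.ω : F) ^ (i : ℕ) - (T.ω : F) ^ (j : ℕ)) * Y i j = 0 by
      linear_combination -e)).resolve_left (sub_ne_zero.mpr fun e' => hij (pow_inj3 w3 w1 e'))
  have d1 : Y 1 1 = Y 0 0 := by
    have e := congrFun (congrFun hc 1) 0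
    simpa [cyc, mul_apply, Fin.sum_univ_three, off 1 0 (by decide), off 1 2 (by decide),
      off 0 2 (by decide), off 2 0 (by decide)] using e
  have d2 : Y 2 2 = Y 1 1 := by
    have e := congrFun (congrFun hc 2) 1
    simpa [cyc, mul_apply, Fin.sum_univ_three, off 2 0 (by decide), off 2 1 (by decide),
      off 0 1 (by decide), off 1 0 (by decide)] using e
  have hYs : Y = Y 0 0 • (1 : Matrix (Fin 3) (Fin 3) F) := by
    ext i j
    by_cases hij : i = j
    · subst hij
      fin_cases i <;> simp [d1, d2]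
    · simp [off i j hij, one_apply_ne hij]
  refine ⟨Y 0 0, ?_⟩
  have ex : x = T.P * y * T.P⁻¹ := by rw [hy]; group
  rw [ex, Units.val_mul, Units.val_mul, ← hY]
  conv_lhs => rw [hYs]
  rw [mul_smul_comm, mul_one, smul_mul_assoc, Units.mul_inv]

end Cfsg.Agent.HeisenbergThree
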