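import Mathlib
import Cfsg.Agent.Lib.HeisenbergThree
import Cfsg.Agent.Lib.TransvectionMax

/-!
The standard group `3^(1+2)` of monomial matrices of degree three and elements normalising it.
-/

set_option autoImplicit false

namespace Cfsg.Agent.Hessian85

open Matrix
open Cfsg.Agent.HeisenbergThree (dg dg_val cyc inv2 sc sc_val sc_comm omega_sum pow_inj3)

variable {F : Type*} [Field F]

local notation "M3" => Matrix (Fin 3) (Fin 3) F

/-- The diagonal generator. -/
def dd (w : Fˣ) : GL (Fin 3) F := dg ![1, w, w ^ 2]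

/-- The diagonal matrix `(1, c, c)`. -/
def gam (c : Fˣ) : GL (Fin 3) F := dg ![1, c, c]

/-- The Fourier matrix of order three over its square root. -/
def fm (w : F) : M3 :=
  (w - w ^ 2)⁻¹ • !![1, 1, 1; 1, w, w ^ 2; 1, w ^ 2, w]

/-- The standard subgroup. -/
def std (w : Fˣ) : Subgroup (GL (Fin 3) F) := Subgroup.closure {dd w, cyc}

/-- A subgroup contains the cube root data used everywhere below. -/
structure Omega (w : Fˣ) : Prop where
  cube : w ^ 3 = 1
  ne : w ≠ 1
  two : (2 : F) ≠ 0
  three : (3 : F) ≠ 0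
  five : (5 : F) ≠ 0

namespace Omega

variable {w : Fˣ} (hw : Omega w)
include hw

theorem c3 : (w : F) ^ 3 = 1 := by rw [← Units.val_pow_eq_pow_val, hw.cube, Units.val_one]

theorem c1 : (w : F) ≠ 1 := fun e => hw.ne (Units.ext e)

theorem sum : 1 + (w : F) + (w : F) ^ 2 = 0 := omega_sum hw.c3 hw.c1

theorem s_ne : (w : F) - (w : F) ^ 2 ≠ 0 := fun e => hw.c1
  (mul_left_cancel₀ w.ne_zero (show (w : F) * w = w * 1 by linear_combination -e))

theorem s_sq : ((w : F) - (w : F) ^ 2) ^ 2 = -3 := by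
  linear_combination ((w : F) - 2) * hw.c3 + hw.sum

end Omega

theorem val_dd (w : Fˣ) : (dd w : M3) = diagonal ![1, (w : F), (w : F) ^ 2] := by
  rw [dd, dg_val]; congr 1; ext i; fin_cases i <;> simp

theorem val_dd' (w : Fˣ) : (dd w : M3) = !![1, 0, 0; 0, (w : F), 0; 0, 0, (w : F) ^ 2] := by
  rw [val_dd]; ext i j; fin_cases i <;> fin_cases j <;> simp

theorem val_gam (c : Fˣ) : (gam c : M3) = diagonal ![1, (c : F), (c : F)] := by
  rw [gam, dg_val]; congr 1; ext i; fin_cases i <;> simp

theorem val_cyc : (cyc : GL (Fin 3) F).val = !![0, 0, 1; 1, 0, 0; 0, 1, 0] := rfl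

theorem val_inv2 : (inv2 : GL (Fin 3) F).val = !![-1, 0, 0; 0, 0, -1; 0, -1, 0] := rfl

theorem det_fm {w : Fˣ} (hw : Omega w) : (fm (w : F)).det = 1 := by
  rw [fm, det_smul, Fintype.card_fin, inv_pow, det_fin_three]
  simp
  rw [inv_mul_eq_one₀ (pow_ne_zero 3 hw.s_ne)]
  linear_combination ((w : F) - (w : F) ^ 2) * hw.s_sq + (w : F) * hw.c3

theorem fm_mul_fm {w : Fˣ} (hw : Omega w) : fm (w : F) * fm (w : F) = (inv2 : GL (Fin 3) F).val := by
  have h := hw.s_sq
  have hs := hw.sum
  have hc := hw.c3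
  rw [fm, smul_mul_smul_comm, ← mul_inv, ← pow_two, h, val_inv2]
  have h3 : (-3 : F) ≠ 0 := by simpa using hw.three
  rw [inv_smul_eq_iff₀ h3]
  ext i j
  fin_cases i <;> fin_cases j <;> simp [mul_apply, Fin.sum_univ_three] <;>
    first
      | linear_combination hs
      | linear_combination (w : F) * hc + hs
      | linear_combination (2 : F) * hc
      | linear_combination (0 : F) * hc

/-- The Fourier element of the normaliser. -/
noncomputable def j0 {w : Fˣ} (hw : Omega w) : GL (Fin 3) F :=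
  GeneralLinearGroup.mkOfDetNeZero (fm (w : F)) (by rw [det_fm hw]; exact one_ne_zero)

/-- The elements of order four of the normaliser centralising `inv2`. -/
noncomputable def jj {w : Fˣ} (hw : Omega w) (c : Fˣ) : GL (Fin 3) F :=
  gam c * j0 hw * (gam c)⁻¹

theorem val_j0 {w : Fˣ} (hw : Omega w) : (j0 hw : M3) = fm (w : F) := rfl

theorem j0_sq {w : Fˣ} (hw : Omega w) : j0 hw * j0 hw = inv2 :=
  Units.ext (fm_mul_fm hw)

theorem inv2_sq : (inv2 : GL (Fin 3) F) * inv2 = 1 := by
  apply Units.ext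
  ext i j
  fin_cases i <;> fin_cases j <;> simp [inv2, mul_apply, Fin.sum_univ_three]

theorem inv2_inv : (inv2 : GL (Fin 3) F)⁻¹ = inv2 := inv_eq_of_mul_eq_one_right inv2_sq

theorem gam_inv2 (c : Fˣ) : gam c * inv2 = inv2 * gam c := by
  apply Units.ext
  ext i j
  fin_cases i <;> fin_cases j <;> simp [val_gam, val_inv2, diagonal_mul, mul_diagonal]

theorem jj_sq {w : Fˣ} (hw : Omega w) (c : Fˣ) : jj hw c * jj hw c = inv2 := by
  rw [jj, show gam c * j0 hw * (gam c)⁻¹ * (gam c * j0 hw * (gam c)⁻¹) =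
    gam c * (j0 hw * j0 hw) * (gam c)⁻¹ by group, j0_sq, gam_inv2, mul_inv_cancel_right]

theorem jj_inv2 {w : Fˣ} (hw : Omega w) (c : Fˣ) : jj hw c * inv2 = inv2 * jj hw c := by
  rw [← jj_sq hw c, mul_assoc]

theorem det_jj {w : Fˣ} (hw : Omega w) (c : Fˣ) : GeneralLinearGroup.det (jj hw c) = 1 := by
  rw [jj, map_mul, map_mul, map_inv, mul_comm (GeneralLinearGroup.det (gam c)), mul_inv_cancel_right]
  exact Units.ext (det_fm hw)

/-- The matrix of `jj`. -/
theorem val_jj {w : Fˣ} (hw : Omega w) {c : Fˣ} (hc : c ^ 3 = 1) :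
    (jj hw c : M3) = ((w : F) - (w : F) ^ 2)⁻¹ •
      !![1, (c : F) ^ 2, (c : F) ^ 2; (c : F), (w : F), (w : F) ^ 2; (c : F), (w : F) ^ 2, (w : F)] := by
  have hc' : (c : F) ^ 3 = 1 := by rw [← Units.val_pow_eq_pow_val, hc, Units.val_one]
  rw [jj, Units.val_mul, Units.val_mul, val_j0, fm]
  have hg : ((gam c)⁻¹ : GL (Fin 3) F).val = diagonal ![1, (c : F) ^ 2, (c : F) ^ 2] := by
    rw [show (gam c)⁻¹ = gam (c ^ 2) by
      refine inv_eq_of_mul_eq_one_right (Units.ext ?_)
      rw [Units.val_mul, val_gam, val_gam, diagonal_mul_diagonal, Units.val_one, ← diagonal_one]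
      congr 1
      ext i
      fin_cases i <;> simp <;> linear_combination hc', val_gam, Units.val_pow_eq_pow_val]
  rw [hg, val_gam, mul_smul_comm, smul_mul_assoc]
  congr 1
  ext i j
  fin_cases i <;> fin_cases j <;> simp [diagonal_mul, mul_diagonal] <;>
    first | linear_combination (w : F) * hc' | linear_combination (w : F) ^ 2 * hc'

theorem val_sc_mul (c : Fˣ) (g : GL (Fin 3) F) : ((sc c * g : GL (Fin 3) F) : M3) = (c : F) • (g : M3) := by
  rw [Units.val_mul, sc_val, smul_mul_assoc, one_mul]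

theorem cyc_three : (cyc : GL (Fin 3) F) * cyc * cyc = 1 := by
  apply Units.ext
  ext i j
  fin_cases i <;> fin_cases j <;> simp [cyc, mul_apply, Fin.sum_univ_three]

theorem dd_three {w : Fˣ} (hw : Omega w) : dd w * dd w * dd w = 1 := by
  apply Units.ext
  rw [Units.val_mul, Units.val_mul, val_dd, diagonal_mul_diagonal, diagonal_mul_diagonal, Units.val_one,
    ← diagonal_one]
  congr 1
  ext i
  fin_cases i <;> simp <;>
    first | linear_combination hw.c3 | linear_combination ((w : F) ^ 3 + 1) * hw.c3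

theorem dd_cyc {w : Fˣ} (hw : Omega w) : dd w * cyc = sc w * (cyc * dd w) := by
  apply Units.ext
  rw [val_sc_mul, Units.val_mul, Units.val_mul, val_dd', val_cyc]
  ext i j
  fin_cases i <;> fin_cases j <;> simp [diagonal_mul, mul_diagonal, mul_apply, Fin.sum_univ_three, diagonal_apply] <;>
    first | linear_combination -hw.c3 | ring

theorem inv2_dd {w : Fˣ} (hw : Omega w) : inv2 * dd w * inv2 = dd w * dd w := by
  apply Units.ext
  rw [Units.val_mul, Units.val_mul, Units.val_mul, val_dd', val_inv2]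
  ext i j
  fin_cases i <;> fin_cases j <;> simp [mul_apply, Fin.sum_univ_three, diagonal_apply] <;>
    first | linear_combination -(w : F) * hw.c3 | linear_combination (w : F) * hw.c3 | ring

theorem inv2_cyc : inv2 * cyc * inv2 = (cyc : GL (Fin 3) F) * cyc := by
  apply Units.ext
  rw [Units.val_mul, Units.val_mul, Units.val_mul, val_cyc, val_inv2]
  ext i j
  fin_cases i <;> fin_cases j <;> simp [mul_apply, Fin.sum_univ_three]

theorem j0_dd {w : Fˣ} (hw : Omega w) : j0 hw * dd w = cyc * cyc * j0 hw := by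
  apply Units.ext
  rw [Units.val_mul, Units.val_mul, Units.val_mul, val_dd, val_cyc, val_j0, fm, smul_mul_assoc,
    mul_smul_comm]
  congr 1
  ext i j
  fin_cases i <;> fin_cases j <;> simp [mul_apply, Fin.sum_univ_three] <;>
    first | linear_combination hw.c3 | linear_combination (w : F) * hw.c3 | ring

theorem j0_cyc {w : Fˣ} (hw : Omega w) : j0 hw * cyc = dd w * j0 hw := by
  apply Units.ext
  rw [Units.val_mul, Units.val_mul, val_dd, val_cyc, val_j0, fm, smul_mul_assoc, mul_smul_comm]
  congr 1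
  ext i j
  fin_cases i <;> fin_cases j <;> simp [mul_apply, Fin.sum_univ_three] <;>
    first | linear_combination -hw.c3 | linear_combination hw.c3 | linear_combination -(w : F) * hw.c3 |
      linear_combination (w : F) * hw.c3 | ring

theorem gam_dd (c w : Fˣ) : gam c * dd w = dd w * gam c := by
  apply Units.ext
  rw [Units.val_mul, Units.val_mul, val_dd, val_gam, diagonal_mul_diagonal, diagonal_mul_diagonal]
  exact congrArg diagonal (funext fun i => mul_comm _ _)

theorem det_dd {w : Fˣ} (hw : Omega w) : GeneralLinearGroup.det (dd w) = 1 := by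
  apply Units.ext
  rw [GeneralLinearGroup.val_det_apply, val_dd, det_diagonal, Fin.prod_univ_three, Units.val_one]
  simp
  linear_combination hw.c3

theorem det_cyc : GeneralLinearGroup.det (cyc : GL (Fin 3) F) = 1 := by
  apply Units.ext
  rw [GeneralLinearGroup.val_det_apply, val_cyc, det_fin_three, Units.val_one]
  simp

theorem det_inv2 : GeneralLinearGroup.det (inv2 : GL (Fin 3) F) = 1 := by
  apply Units.ext
  rw [GeneralLinearGroup.val_det_apply, val_inv2, det_fin_three, Units.val_one]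
  simp

/-- The standard group lies in a subgroup containing the generators. -/
theorem std_le {w : Fˣ} {K : Subgroup (GL (Fin 3) F)} (h1 : dd w ∈ K) (h2 : cyc ∈ K) : std w ≤ K :=
  (Subgroup.closure_le _).mpr (by rintro _ (rfl | rfl) <;> assumption)

theorem dd_mem (w : Fˣ) : dd w ∈ std w := Subgroup.subset_closure (Set.mem_insert _ _)

theorem cyc_mem (w : Fˣ) : cyc ∈ std w := Subgroup.subset_closure (Set.mem_insert_of_mem _ rfl)

theorem sc_mem {w : Fˣ} (hw : Omega w) : sc w ∈ std w := by
  have e : sc w = dd w * cyc * (cyc * dd w)⁻¹ := by rw [dd_cyc hw, mul_inv_cancel_right]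
  rw [e]
  exact mul_mem (mul_mem (dd_mem w) (cyc_mem w))
    (inv_mem (mul_mem (cyc_mem w) (dd_mem w)))

/-- The hypotheses on an overgroup of the normaliser, in standard position. -/
structure Over {w : Fˣ} (hw : Omega w) (M : Subgroup (GL (Fin 3) F)) : Prop where
  sl : M ≤ Cfsg.Geo.specialLinear (Fin 3) F
  d_mem : dd w ∈ M
  c_mem : cyc ∈ M
  j_mem : ∀ c : Fˣ, c ^ 3 = 1 → jj hw c ∈ M

namespace Over

variable {w : Fˣ} {hw : Omega w} {M : Subgroup (GL (Fin 3) F)} (H : Over hw M)
include H

theorem le : std w ≤ M := std_le H.d_mem H.c_mem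

theorem z_mem : (inv2 : GL (Fin 3) F) ∈ M := by
  rw [← jj_sq hw 1]; exact mul_mem (H.j_mem 1 (one_pow 3)) (H.j_mem 1 (one_pow 3))

theorem det_one {g : GL (Fin 3) F} (hg : g ∈ M) : (g : M3).det = 1 := by
  have h : GeneralLinearGroup.det g = 1 := H.sl hg
  rw [← GeneralLinearGroup.val_det_apply, h, Units.val_one]

end Over

end Cfsg.Agent.Hessian85
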