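import Cfsg.Agent.Lib.Hessian85Shape

/-!
No four-group of conjugates of the central involution is permuted by the diagonal generator.
-/

set_option autoImplicit false

namespace Cfsg.Agent.Hessian85

open Matrix
open Cfsg.Agent.HeisenbergThree (dg dg_val cyc inv2 sc sc_val sc_comm)

variable {F : Type*} [Field F]

local notation "M3" => Matrix (Fin 3) (Fin 3) F
local notation "V3" => Fin 3 → F
local notation "zc" => Subgroup.centralizer ({(inv2 : GL (Fin 3) F)} : Set (GL (Fin 3) F))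
local notation:73 g " ⊛ " x:72 => Matrix.mulVec (Units.val g) x

theorem act_mul (g h : GL (Fin 3) F) (x : V3) : (g * h) ⊛ x = g ⊛ (h ⊛ x) := by
  rw [mulVec_mulVec, Units.val_mul]

theorem act_inj {g : GL (Fin 3) F} {x y : V3} (h : g ⊛ x = g ⊛ y) : x = y := by
  have := congrArg (fun v => g⁻¹ ⊛ v) h
  simpa [← act_mul] using this

theorem act_eq_iff {g : GL (Fin 3) F} {x y : V3} : g⁻¹ ⊛ x = y ↔ x = g ⊛ y := by
  constructor
  · intro h; rw [← h, ← act_mul, mul_inv_cancel, Units.val_one, one_mulVec]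
  · intro h; rw [h, ← act_mul, inv_mul_cancel, Units.val_one, one_mulVec]

theorem act_inv2 (x : V3) : (inv2 : GL (Fin 3) F) ⊛ x = ![-x 0, -x 2, -x 1] := by
  funext i
  fin_cases i <;> simp [val_inv2, mulVec, dotProduct, Fin.sum_univ_three]

theorem act_dd (w : Fˣ) (x : V3) : dd w ⊛ x = ![x 0, (w : F) * x 1, (w : F) ^ 2 * x 2] := by
  funext i
  fin_cases i <;> simp [val_dd', mulVec, dotProduct, Fin.sum_univ_three]

/-- The fixed vector of `inv2`. -/
def d0 : V3 := ![0, 1, -1]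

theorem d0_ne : (d0 : V3) ≠ 0 := fun h => by simpa [d0] using congrFun h 1

theorem act_inv2_d0 : (inv2 : GL (Fin 3) F) ⊛ (d0 : V3) = d0 := by
  funext i; fin_cases i <;> simp [act_inv2, d0]

/-- A conjugate of `inv2` fixes a line only. -/
theorem fixed_line (h2 : (2 : F) ≠ 0) {f g : GL (Fin 3) F} (hf : f = g * inv2 * g⁻¹) {x y : V3} (hx : f ⊛ x = x)
    (hx0 : x ≠ 0) (hy : f ⊛ y = y) : ∃ m : F, y = m • x := by
  have key : ∀ u : V3, f ⊛ u = u → ∃ m : F, g⁻¹ ⊛ u = m • d0 := by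
    intro u hu
    have h : (inv2 : GL (Fin 3) F) ⊛ (g⁻¹ ⊛ u) = g⁻¹ ⊛ u := by
      rw [hf, act_mul, act_mul] at hu
      conv_rhs => rw [← hu, ← act_mul g⁻¹ g, inv_mul_cancel, Units.val_one, one_mulVec]
    refine ⟨(g⁻¹ ⊛ u) 1, ?_⟩
    rw [act_inv2] at h
    have e0 := congrFun h 0
    have e1 := congrFun h 1
    simp at e0 e1
    funext i
    fin_cases i <;> simp [d0]
    · exact mul_left_cancel₀ h2 (by linear_combination -e0)
    · linear_combination -e1
  obtain ⟨m, hm⟩ := key x hx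
  obtain ⟨n, hn⟩ := key y hy
  have hx' := act_eq_iff.mp hm
  have hy' := act_eq_iff.mp hn
  have hm0 : m ≠ 0 := by rintro rfl; apply hx0; rw [hx', zero_smul, mulVec_zero]
  refine ⟨n * m⁻¹, ?_⟩
  rw [hy', hx', mulVec_smul, mulVec_smul, smul_smul, mul_assoc, inv_mul_cancel₀ hm0, mul_one]

variable {w : Fˣ} {hw : Omega w} {M : Subgroup (GL (Fin 3) F)}

set_option maxHeartbeats 4000000 in
/-- The impossible configuration. -/
theorem no_triple (H : NoTv hw M) {h e : GL (Fin 3) F} (hh : h ∈ M) (heh : e = h * inv2 * h⁻¹)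
    (he : Shp M e) (e2 : GL (Fin 3) F) (he2 : e2 = dd w * e * (dd w)⁻¹)
    (hc : e * e2 = e2 * e) (hne : e2 ≠ e) (hde : dd w * e2 * (dd w)⁻¹ = e * e2)
    (hz2 : inv2 * e2 * inv2 = e * e2) : False := by
  have two := hw.two
  have hzm : (inv2 : GL (Fin 3) F) ∈ M := H.z_mem
  have hdm := H.d_mem
  have he2m : e2 ∈ M := he2 ▸ mul_mem (mul_mem hdm he.mem) (inv_mem hdm)
  have he2' : e2 = (dd w * h) * inv2 * (dd w * h)⁻¹ := by rw [he2, heh]; group
  have he3' : e * e2 = (dd w * dd w * h) * inv2 * (dd w * dd w * h)⁻¹ := by rw [← hde, he2']; group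
  have he22 : e2 * e2 = 1 := by
    rw [he2', conj_mul, inv2_sq, mul_one, mul_inv_cancel]
  have hze : e * inv2 = inv2 * e := mem_zc.mp he.cent
  have he2z : e2 * inv2 = inv2 * (e * e2) := by
    rw [← hz2, ← mul_assoc, ← mul_assoc, inv2_sq, one_mul]
  -- the fixed vector of `e`
  have hfix : e ⊛ (h ⊛ d0) = h ⊛ d0 := by
    rw [heh, ← act_mul, inv_mul_cancel_right, act_mul, act_inv2_d0]
  have hfix0 : h ⊛ (d0 : V3) ≠ 0 := fun h' => d0_ne (act_inj (g := h) (h'.trans (mulVec_zero _).symm))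
  have hed : e ⊛ (d0 : V3) = -d0 := by
    obtain ⟨a1, a2, a3, a4⟩ := shape_gl he.cent
    have hl := he.line
    simp only [lv] at hl
    funext i
    fin_cases i <;> simp [mulVec, dotProduct, Fin.sum_univ_three, d0, a1, a3, a4]
    · linear_combination hl
    · linear_combination -hl
  obtain ⟨a, b, hab⟩ : ∃ a b : F, h ⊛ (d0 : V3) = ![a, b, b] := by
    obtain ⟨m, hm⟩ := fixed_line two heh hfix hfix0 (y := (inv2 : GL (Fin 3) F) ⊛ (h ⊛ d0)) (by
      rw [← act_mul, hze, act_mul, hfix])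
    set v := h ⊛ (d0 : V3)
    have hm2 : m * m = 1 := by
      have e1 : (inv2 : GL (Fin 3) F) ⊛ ((inv2 : GL (Fin 3) F) ⊛ v) = v := by
        rw [← act_mul, inv2_sq, Units.val_one, one_mulVec]
      rw [hm, mulVec_smul, hm, smul_smul] at e1
      by_contra hne'
      apply hfix0
      have : (m * m - 1) • v = 0 := by rw [sub_smul, one_smul, e1, sub_self]
      exact (smul_eq_zero.mp this).resolve_left (sub_ne_zero.mpr hne')
    rcases mul_self_eq_one_iff.mp hm2 with rfl | rfl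
    · exfalso
      rw [one_smul] at hm
      obtain ⟨n, hn⟩ := fixed_line two (f := inv2) (g := 1) (by group) act_inv2_d0 d0_ne hm
      have h' := hfix
      rw [hn, mulVec_smul, hed, smul_neg] at h'
      apply hfix0
      rw [hn]
      funext i
      have := congrFun h' i
      simp only [Pi.neg_apply, Pi.smul_apply, smul_eq_mul] at this
      exact mul_left_cancel₀ two (by simp only [Pi.smul_apply, smul_eq_mul, Pi.zero_apply]; linear_combination -this)
    · refine ⟨v 0, v 1, ?_⟩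
      rw [act_inv2, neg_one_smul] at hm
      have e1 := congrFun hm 1
      simp at e1
      funext i
      fin_cases i <;> simp [e1]
  set u := h ⊛ (d0 : V3) with hu
  have hcy : ∀ x : V3, dd w ⊛ (dd w ⊛ (dd w ⊛ x)) = x := fun x => by
    rw [← act_mul, ← act_mul, dd_three hw, Units.val_one, one_mulVec]
  have hd2 : e2 ⊛ (dd w ⊛ u) = dd w ⊛ u := by
    rw [he2, ← act_mul, inv_mul_cancel_right, act_mul, hfix]
  have hd3 : (e * e2) ⊛ (dd w ⊛ (dd w ⊛ u)) = dd w ⊛ (dd w ⊛ u) := by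
    rw [← hde, ← act_mul, inv_mul_cancel_right, act_mul, hd2]
  by_cases hb : b = 0
  · -- all three involutions fix the same line
    subst hb
    have hDu : dd w ⊛ u = u := by rw [act_dd, hab]; funext i; fin_cases i <;> simp
    rw [hDu] at hd2
    rw [hDu, hDu] at hd3
    obtain ⟨s, hs⟩ := fixed_line two heh hfix hfix0 (y := d0 + e ⊛ d0) (by
      rw [mulVec_add, ← act_mul, he.sq, Units.val_one, one_mulVec, add_comm])
    rw [hed, add_neg_cancel] at hs
    obtain ⟨t, ht⟩ := fixed_line two he2' hd2 hfix0 (y := d0 + e2 ⊛ d0) (by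
      rw [mulVec_add, ← act_mul, he22, Units.val_one, one_mulVec, add_comm])
    obtain ⟨r, hr⟩ := fixed_line two he3' hd3 hfix0 (y := d0 + (e * e2) ⊛ d0) (by
      rw [mulVec_add, ← act_mul, show e * e2 * (e * e2) = 1 by
        rw [show e * e2 * (e * e2) = e * (e2 * e) * e2 by group, ← hc, ← mul_assoc, he.sq, one_mul, he22], Units.val_one, one_mulVec, add_comm])
    rw [act_mul, show e2 ⊛ d0 = t • u - d0 from eq_sub_of_add_eq' ht, mulVec_sub, mulVec_smul, hed, hfix] at hr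
    have := congrFun hr 1
    simp [hab, d0] at this
    exact two (by linear_combination this)
  -- the three fixed vectors
  set a' := b⁻¹ * a with ha'
  set v1 : V3 := ![a', 1, 1] with hv1
  have huv : u = b • v1 := by
    rw [hab, hv1, ha']
    funext i
    fin_cases i <;> simp [mul_inv_cancel_left₀ hb]
  have ev1 : e ⊛ v1 = v1 := by
    have := hfix
    rw [huv, mulVec_smul] at this
    exact smul_right_injective _ hb this
  set v2 : V3 := ![a', (w : F), (w : F) ^ 2] with hv2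
  set v3 : V3 := ![a', (w : F) ^ 2, (w : F)] with hv3
  have hw3 := hw.c3
  have d1 : dd w ⊛ v1 = v2 := by rw [act_dd]; funext i; fin_cases i <;> simp [hv1, hv2]
  have d2 : dd w ⊛ v2 = v3 := by
    rw [act_dd]; funext i; fin_cases i <;> simp [hv2, hv3]
    · ring
    · linear_combination (w : F) * hw3
  have d3 : dd w ⊛ v3 = v1 := by rw [← d2, ← d1, hcy]
  have e2v2 : e2 ⊛ v2 = v2 := by
    rw [← d1, he2, ← act_mul, inv_mul_cancel_right, act_mul, ev1]
  have e3v3 : (e * e2) ⊛ v3 = v3 := by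
    rw [← d2, ← hde, ← act_mul, inv_mul_cancel_right, act_mul, e2v2]
  have hs3 := hw.sum
  have hwne : (w : F) - (w : F) ^ 2 ≠ 0 := hw.s_ne
  have ind : ∀ m n : F, m • v2 = n • v3 → m = 0 ∧ n = 0 := by
    intro m n h'
    have e1 := congrFun h' 1
    have e2 := congrFun h' 2
    simp [hv2, hv3] at e1 e2
    have hm : m = 0 := by
      refine (mul_eq_zero.mp (show m * (1 - (w : F)) = 0 from ?_)).resolve_right (sub_ne_zero.mpr (Ne.symm hw.c1))
      linear_combination (w : F) * e2 - e1 - m * hw3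
    refine ⟨hm, ?_⟩
    subst hm
    exact (mul_eq_zero.mp (show n * (w : F) = 0 by linear_combination -e2)).resolve_right w.ne_zero
  have ev2 : e ⊛ v2 = -v2 := by
    obtain ⟨m, hm⟩ := fixed_line two he2' e2v2 (fun h' => by simpa [hv2] using congrFun h' 1) (y := e ⊛ v2) (by
      rw [← act_mul, ← hc, act_mul, e2v2])
    have hm2 : m * m = 1 := by
      have e1 : e ⊛ (e ⊛ v2) = v2 := by rw [← act_mul, he.sq, Units.val_one, one_mulVec]
      rw [hm, mulVec_smul, hm, smul_smul] at e1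
      have := congrFun e1 1
      simp [hv2] at this
      exact this
    rcases mul_self_eq_one_iff.mp hm2 with rfl | rfl
    · exfalso
      rw [one_smul] at hm
      obtain ⟨n, hn⟩ := fixed_line two heh ev1 (fun h' => by simpa [hv1] using congrFun h' 1) hm
      have e1 := congrFun hn 1
      have e2 := congrFun hn 2
      simp [hv1, hv2] at e1 e2
      exact hwne (by linear_combination e1 - e2)
    · rwa [neg_one_smul] at hm
  have he3c : e * (e * e2) = e * e2 * e := by rw [mul_assoc, hc]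
  have ev3 : e ⊛ v3 = -v3 := by
    obtain ⟨m, hm⟩ := fixed_line two he3' e3v3 (fun h' => by simpa [hv3] using congrFun h' 2) (y := e ⊛ v3) (by
      rw [← act_mul, ← he3c, act_mul, e3v3])
    have hm2 : m * m = 1 := by
      have e1 : e ⊛ (e ⊛ v3) = v3 := by rw [← act_mul, he.sq, Units.val_one, one_mulVec]
      rw [hm, mulVec_smul, hm, smul_smul] at e1
      have := congrFun e1 2
      simp [hv3] at this
      exact this
    rcases mul_self_eq_one_iff.mp hm2 with rfl | rfl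
    · exfalso
      rw [one_smul] at hm
      obtain ⟨n, hn⟩ := fixed_line two heh ev1 (fun h' => by simpa [hv1] using congrFun h' 1) hm
      have e1 := congrFun hn 1
      have e2 := congrFun hn 2
      simp [hv1, hv3] at e1 e2
      exact hwne (by linear_combination e2 - e1)
    · rwa [neg_one_smul] at hm
  have ha0 : a' ≠ 0 := by
    intro ha
    have e1 : v2 + v3 = -v1 := by
      funext i
      fin_cases i <;> simp [hv1, hv2, hv3, ha] <;> linear_combination hs3
    have e2 : e ⊛ (v2 + v3) = -(v2 + v3) := by rw [mulVec_add, ev2, ev3]; abel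
    rw [e1, mulVec_neg, ev1, neg_neg] at e2
    have := congrFun e2 1
    simp [hv1] at this
    exact two (by linear_combination -this)
  have e2v1 : e2 ⊛ v1 = -v1 := by
    conv_lhs => rw [← d3, he2, ← act_mul, inv_mul_cancel_right, act_mul, ev3, mulVec_neg, d3]
  have e2v3 : e2 ⊛ v3 = -v3 := by
    conv_lhs => rw [← d2, he2, ← act_mul, inv_mul_cancel_right, act_mul, ev2, mulVec_neg, d2]
  have zv1 : (inv2 : GL (Fin 3) F) ⊛ v1 = -v1 := by
    rw [act_inv2]; funext i; fin_cases i <;> simp [hv1]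
  have zv2 : (inv2 : GL (Fin 3) F) ⊛ v2 = -v3 := by
    rw [act_inv2]; funext i; fin_cases i <;> simp [hv2, hv3]
  have zv3 : (inv2 : GL (Fin 3) F) ⊛ v3 = -v2 := by
    rw [act_inv2]; funext i; fin_cases i <;> simp [hv2, hv3]
  -- equality on the basis
  have ext3 : ∀ p q : GL (Fin 3) F, p ⊛ v1 = q ⊛ v1 → p ⊛ v2 = q ⊛ v2 → p ⊛ v3 = q ⊛ v3 → p = q := by
    intro p q h1 h2 h3
    let U : M3 := Matrix.of fun i j => ![v1, v2, v3] j i
    have hU : IsUnit U := by
      rw [isUnit_iff_isUnit_det, isUnit_iff_ne_zero]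
      have : U.det = 3 * a' * ((w : F) ^ 2 - (w : F)) := by
        simp [U, det_fin_three, hv1, hv2, hv3]
        linear_combination a' * (w : F) * 0 + (0 : F) * hw3 - a' * (w : F) * hw3
      rw [this]
      refine mul_ne_zero (mul_ne_zero hw.three ha0) (fun h' => hwne ?_)
      linear_combination -h'
    apply Units.ext
    refine hU.mul_left_injective ?_
    show p.val * U = q.val * U
    ext i j
    fin_cases j
    · exact congrFun h1 i
    · exact congrFun h2 i
    · exact congrFun h3 i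
  obtain ⟨j1, hj1⟩ : ∃ x, x = inv2 * e2 := ⟨_, rfl⟩
  have j1m : j1 ∈ M := hj1 ▸ mul_mem hzm he2m
  have j1v1 : j1 ⊛ v1 = v1 := by rw [hj1, act_mul, e2v1, mulVec_neg, zv1, neg_neg]
  have j1v2 : j1 ⊛ v2 = -v3 := by rw [hj1, act_mul, e2v2, zv2]
  have j1v3 : j1 ⊛ v3 = v2 := by rw [hj1, act_mul, e2v3, mulVec_neg, zv3, neg_neg]
  have j1e2 : j1 * e2 * j1⁻¹ = e * e2 := by
    rw [hj1, _root_.mul_inv_rev, inv2_inv, inv_eq_of_mul_eq_one_right he22, ← hz2,
      show inv2 * e2 * e2 * (e2 * inv2) = inv2 * (e2 * e2) * e2 * inv2 by group, he22, mul_one]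
  -- an element carrying `e2` to `inv2` and fixing `e`
  have hshpz : Shp M (h⁻¹ * inv2 * h) := by
    refine shp_of H (mul_mem (mul_mem (inv_mem hh) hzm) hh) ?_ ?_ ?_ ?_
    · calc h⁻¹ * inv2 * h * inv2 = h⁻¹ * (inv2 * (h * inv2 * h⁻¹)) * h := by group
        _ = h⁻¹ * ((h * inv2 * h⁻¹) * inv2) * h := by rw [← heh, hze]
        _ = inv2 * (h⁻¹ * inv2 * h) := by group
    · rw [show h⁻¹ * inv2 * h * (h⁻¹ * inv2 * h) = h⁻¹ * (inv2 * inv2) * h by group, inv2_sq]; group
    · intro q1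
      have : (inv2 : GL (Fin 3) F) = 1 := by
        calc (inv2 : GL (Fin 3) F) = h * (h⁻¹ * inv2 * h) * h⁻¹ := by group
          _ = 1 := by rw [q1]; group
      have := congrArg (fun x : GL (Fin 3) F => x.val 0 0) this
      simp [val_inv2] at this
      exact two (by linear_combination -this)
    · intro q1
      have : e = inv2 := by
        rw [heh]
        calc h * inv2 * h⁻¹ = h * (h⁻¹ * inv2 * h) * h⁻¹ := by rw [q1]
          _ = inv2 := by group
      have hl := he.line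
      rw [this, lv_inv2] at hl
      exact two (by linear_combination hl)
  have hshp2 : Shp M (h⁻¹ * e2 * h) := by
    refine shp_of H (mul_mem (mul_mem (inv_mem hh) he2m) hh) ?_ ?_ ?_ ?_
    · calc h⁻¹ * e2 * h * inv2 = h⁻¹ * (e2 * (h * inv2 * h⁻¹)) * h := by group
        _ = h⁻¹ * ((h * inv2 * h⁻¹) * e2) * h := by rw [← heh, hc]
        _ = inv2 * (h⁻¹ * e2 * h) := by group
    · rw [show h⁻¹ * e2 * h * (h⁻¹ * e2 * h) = h⁻¹ * (e2 * e2) * h by group, he22]; group
    · intro q1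
      have h1 : e2 = 1 := by
        calc e2 = h * (h⁻¹ * e2 * h) * h⁻¹ := by group
          _ = 1 := by rw [q1]; group
      have := e2v1
      rw [h1, Units.val_one, one_mulVec] at this
      have := congrFun this 1
      simp [hv1] at this
      exact two (by linear_combination this)
    · intro q1
      apply hne
      calc e2 = h * (h⁻¹ * e2 * h) * h⁻¹ := by group
        _ = e := by rw [q1, heh]
  obtain ⟨g, hgm, hge, hg2⟩ : ∃ g ∈ M, g * e = e * g ∧ g * e2 * g⁻¹ = inv2 := by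
    obtain ⟨g0, hg0, hg0z, hg⟩ := conj_shp H hshp2 hshpz
    have hg0z' := mem_zc.mp hg0z
    set g := h * g0 * h⁻¹ with hgdef
    have hgm : g ∈ M := mul_mem (mul_mem hh hg0) (inv_mem hh)
    have hge : g * e = e * g := by
      rw [heh, hgdef]
      calc h * g0 * h⁻¹ * (h * inv2 * h⁻¹) = h * (g0 * inv2) * h⁻¹ := by group
        _ = h * (inv2 * g0) * h⁻¹ := by rw [hg0z']
        _ = h * inv2 * h⁻¹ * (h * g0 * h⁻¹) := by group
    have hgc : g * e2 * g⁻¹ = h * (g0 * (h⁻¹ * e2 * h) * g0⁻¹) * h⁻¹ := by rw [hgdef]; group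
    rcases hg with hg | hg
    · refine ⟨g, hgm, hge, ?_⟩
      rw [hgc, hg]; group
    · refine ⟨g * j1, mul_mem hgm j1m, ?_, ?_⟩
      · rw [mul_assoc, show j1 * e = e * j1 by rw [hj1, mul_assoc, ← hc, ← mul_assoc, ← hze, mul_assoc],
          ← mul_assoc, hge, mul_assoc]
      · have hgc' : g * e2 * g⁻¹ = e * inv2 := by rw [hgc, hg, heh]; group
        rw [_root_.mul_inv_rev, show g * j1 * e2 * (j1⁻¹ * g⁻¹) = g * (j1 * e2 * j1⁻¹) * g⁻¹ by group, j1e2,
          show g * (e * e2) * g⁻¹ = g * e * g⁻¹ * (g * e2 * g⁻¹) by group, hgc', hge, mul_inv_cancel_right,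
          ← mul_assoc, he.sq, one_mul]
  have hg3 : g * (e * e2) * g⁻¹ = e * inv2 := by
    rw [show g * (e * e2) * g⁻¹ = g * e * g⁻¹ * (g * e2 * g⁻¹) by group, hg2, hge, mul_inv_cancel_right]
  obtain ⟨d', hd'⟩ : ∃ x : V3, x = v2 - v3 := ⟨_, rfl⟩
  obtain ⟨w', hw'⟩ : ∃ x : V3, x = v2 + v3 := ⟨_, rfl⟩
  have zd' : (inv2 : GL (Fin 3) F) ⊛ d' = d' := by rw [hd', mulVec_sub, zv2, zv3]; abel
  have zw' : (inv2 : GL (Fin 3) F) ⊛ w' = -w' := by rw [hw', mulVec_add, zv2, zv3]; abel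
  have ew' : e ⊛ w' = -w' := by rw [hw', mulVec_add, ev2, ev3]; abel
  have edd : e ⊛ d' = -d' := by rw [hd', mulVec_sub, ev2, ev3]; abel
  have hd'1 : d' 1 = (w : F) - (w : F) ^ 2 := by simp [hd', hv2, hv3]
  have hw'1 : w' 1 = -1 := by
    simp [hw', hv2, hv3]; linear_combination hs3
  have hd'0 : d' ≠ 0 := fun h' => hwne (by rw [← hd'1, h']; rfl)
  have hw'0 : w' ≠ 0 := fun h' => by
    rw [h'] at hw'1; simp at hw'1
  obtain ⟨δ, hgv1, hδ⟩ : ∃ δ : F, g ⊛ v1 = δ • v1 ∧ δ ≠ 0 := by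
    have hv10 : v1 ≠ 0 := fun h' => by simpa [hv1] using congrFun h' 1
    obtain ⟨δ, hδ⟩ := fixed_line two heh ev1 hv10 (y := g ⊛ v1) (by rw [← act_mul, ← hge, act_mul, ev1])
    refine ⟨δ, hδ, fun h0 => hv10 (act_inj (g := g) ?_)⟩
    rw [hδ, h0, zero_smul, mulVec_zero]
  obtain ⟨α, hgv2, hα⟩ : ∃ α : F, g ⊛ v2 = α • d' ∧ α ≠ 0 := by
    obtain ⟨α, hα⟩ := fixed_line two (f := inv2) (g := 1) (by group) zd' hd'0 (y := g ⊛ v2) (by
      rw [← act_mul, ← hg2, inv_mul_cancel_right, act_mul, e2v2])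
    refine ⟨α, hα, fun h0 => ?_⟩
    have := act_inj (g := g) (x := v2) (y := 0) (by rw [hα, h0, zero_smul, mulVec_zero])
    simpa [hv2] using congrFun this 1
  obtain ⟨α', hgv3, hα'⟩ : ∃ α' : F, g ⊛ v3 = α' • w' ∧ α' ≠ 0 := by
    obtain ⟨α', hα'⟩ := fixed_line two (f := e * inv2) (g := g * (dd w * dd w * h)) (by
        rw [← hg3, he3']; group) (x := w') (y := g ⊛ v3) (by rw [act_mul, zw', mulVec_neg, ew', neg_neg]) hw'0 (by
      rw [← act_mul, ← hg3, inv_mul_cancel_right, act_mul, e3v3])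
    refine ⟨α', hα', fun h0 => ?_⟩
    have := act_inj (g := g) (x := v3) (y := 0) (by rw [hα', h0, zero_smul, mulVec_zero])
    simpa [hv3] using congrFun this 2
  have half : ∀ p q : GL (Fin 3) F, p ⊛ v1 = q ⊛ v1 → p ⊛ d' = q ⊛ d' → p ⊛ w' = q ⊛ w' → p = q := by
    intro p q h1 h2 h3
    have e2 : (2 : F) • v2 = d' + w' := by rw [two_smul, hd', hw']; abel
    have e3 : (2 : F) • v3 = w' - d' := by rw [two_smul, hd', hw']; abel
    refine ext3 p q h1 (smul_right_injective _ two ?_) (smul_right_injective _ two ?_)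
    · show (2 : F) • (p ⊛ v2) = (2 : F) • (q ⊛ v2)
      rw [← mulVec_smul, ← mulVec_smul, e2, mulVec_add, mulVec_add, h2, h3]
    · show (2 : F) • (p ⊛ v3) = (2 : F) • (q ⊛ v3)
      rw [← mulVec_smul, ← mulVec_smul, e3, mulVec_sub, mulVec_sub, h2, h3]
  have j1d : j1 ⊛ d' = -w' := by rw [hd', hw', mulVec_sub, j1v2, j1v3]; abel
  have j1w : j1 ⊛ w' = d' := by rw [hw', hd', mulVec_add, j1v2, j1v3]; abel
  -- the ratio of the two multipliers
  have hσ : α' = α ∨ α' = -α := by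
    obtain ⟨k, hk⟩ : ∃ k, k = g * j1 * g⁻¹ * j1⁻¹ := ⟨_, rfl⟩
    have hkm : k ∈ M := hk ▸ mul_mem (mul_mem (mul_mem hgm j1m) (inv_mem hgm)) (inv_mem j1m)
    have key : ∀ x : V3, k ⊛ (j1 ⊛ (g ⊛ x)) = g ⊛ (j1 ⊛ x) := fun x => by
      rw [← act_mul, ← act_mul, ← act_mul, hk]
      congr 2
      group
    have k1 : k ⊛ v1 = v1 := by
      have := key v1
      rw [hgv1, mulVec_smul, j1v1, hgv1, mulVec_smul] at this
      exact smul_right_injective _ hδ this
    have kw : k ⊛ w' = (α⁻¹ * α') • w' := by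
      have := key v2
      rw [hgv2, mulVec_smul, j1d, j1v2, mulVec_neg, hgv3, mulVec_smul, mulVec_neg, smul_neg, neg_inj] at this
      rw [← smul_smul, ← this, smul_smul, inv_mul_cancel₀ hα, one_smul]
    have kd : k ⊛ d' = (α'⁻¹ * α) • d' := by
      have := key v3
      rw [hgv3, mulVec_smul, j1w, j1v3, hgv2, mulVec_smul] at this
      rw [← smul_smul, ← this, smul_smul, inv_mul_cancel₀ hα', one_smul]
    have hkz : k * inv2 = inv2 * k := half _ _
      (by rw [act_mul, act_mul, zv1, mulVec_neg, k1, zv1])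
      (by rw [act_mul, act_mul, zd', kd, mulVec_smul, zd'])
      (by rw [act_mul, act_mul, zw', mulVec_neg, kw, mulVec_smul, zw', smul_neg])
    have hke : k * e = e * k := half _ _
      (by rw [act_mul, act_mul, ev1, k1, ev1])
      (by rw [act_mul, act_mul, edd, mulVec_neg, kd, mulVec_smul, edd, smul_neg])
      (by rw [act_mul, act_mul, ew', mulVec_neg, kw, mulVec_smul, ew', smul_neg])
    obtain ⟨t, ht3, ht⟩ := four H he hh heh hkm (mem_zc.mpr hkz) hke
    have hw1 := congrFun kw 1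
    have hv := congrFun k1 1
    rcases ht with h1 | h1 | h1 | h1 <;>
      simp only [h1, smul_mulVec, one_mulVec, Units.val_mul, ← mulVec_mulVec, zv1, ev1, zw', ew', mulVec_neg, zv1,
        Pi.smul_apply, Pi.neg_apply, smul_eq_mul, hw'1, neg_neg] at hw1 hv <;>
      simp [hv1] at hw1 hv
    · exact Or.inl (mul_left_cancel₀ (inv_ne_zero hα) (by rw [inv_mul_cancel₀ hα]; linear_combination hv - hw1))
    · exact absurd ht3 (fun h' => two (by linear_combination -h' + ((t : F) ^ 2 - t + 1) * hv * (-1)))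
    · exact Or.inr (mul_left_cancel₀ (inv_ne_zero hα) (by rw [mul_neg, inv_mul_cancel₀ hα]; linear_combination hw1 - hv))
    · exact absurd ht3 (fun h' => two (by linear_combination -h' + ((t : F) ^ 2 - t + 1) * hv * (-1)))
  -- a squared element with a scalar block
  have scalblock : ∀ q ∈ M, ∀ m n : F, q ⊛ v1 = m • v1 → q ⊛ v2 = n • v2 → q ⊛ v3 = n • v3 → m = n ∨ m = -n := by
    intro q hq m n q1 q2 q3
    have hqz : q * inv2 = inv2 * q := ext3 _ _
      (by rw [act_mul, act_mul, zv1, mulVec_neg, q1, mulVec_smul, zv1, smul_neg])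
      (by rw [act_mul, act_mul, zv2, mulVec_neg, q3, q2, mulVec_smul, zv2, smul_neg])
      (by rw [act_mul, act_mul, zv3, mulVec_neg, q2, q3, mulVec_smul, zv3, smul_neg])
    have hqe : q * e = e * q := ext3 _ _
      (by rw [act_mul, act_mul, ev1, q1, mulVec_smul, ev1])
      (by rw [act_mul, act_mul, ev2, mulVec_neg, q2, mulVec_smul, ev2, smul_neg])
      (by rw [act_mul, act_mul, ev3, mulVec_neg, q3, mulVec_smul, ev3, smul_neg])
    obtain ⟨t, ht3, ht⟩ := four H he hh heh hq (mem_zc.mpr hqz) hqe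
    rcases ht with h1 | h1 | h1 | h1 <;>
      simp only [h1, smul_mulVec, one_mulVec, Units.val_mul, ← mulVec_mulVec, zv1, ev1, zv2, ev2, mulVec_neg,
        neg_neg, smul_neg] at q1 q2
    · have := congrFun q1 1
      have h2' := congrFun q2 1
      simp [hv1, hv2] at this h2'
      exact Or.inl (by rw [← this, h2'])
    · exfalso
      rw [← neg_smul] at q2
      obtain ⟨-, h0⟩ := ind n (-t) q2.symm
      rw [neg_eq_zero] at h0
      simp [h0] at ht3
    · have := congrFun q1 1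
      have h2' := congrFun q2 1
      simp [hv1, hv2] at this h2'
      rw [← neg_mul] at h2'
      exact Or.inr (by rw [← this, ← mul_right_cancel₀ w.ne_zero h2', neg_neg])
    · exfalso
      obtain ⟨-, h0⟩ := ind n t q2.symm
      simp [h0] at ht3
  have hδ2 : δ * δ = 2 * (α * α) ∨ δ * δ = -(2 * (α * α)) := by
    rcases hσ with rfl | rfl
    · refine scalblock (e2 * inv2 * (g * g)) (mul_mem (mul_mem he2m hzm) (mul_mem hgm hgm)) _ _ ?_ ?_ ?_
      · rw [act_mul, act_mul, act_mul, hgv1, mulVec_smul, hgv1, smul_smul, mulVec_smul, zv1, mulVec_smul,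
          mulVec_neg, e2v1, neg_neg]
      · rw [act_mul, act_mul, act_mul, hgv2, mulVec_smul, hd', mulVec_sub, hgv2, hgv3, ← smul_sub, smul_smul,
          mulVec_smul, mulVec_smul, hd', hw']
        simp only [mulVec_add, mulVec_sub, mulVec_neg, zv2, zv3, e2v2, e2v3]
        module
      · rw [act_mul, act_mul, act_mul, hgv3, mulVec_smul, hw', mulVec_add, hgv2, hgv3, ← smul_add, smul_smul,
          mulVec_smul, mulVec_smul, hd', hw']
        simp only [mulVec_add, mulVec_sub, mulVec_neg, zv2, zv3, e2v2, e2v3]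
        module
    · refine scalblock (g * g) (mul_mem hgm hgm) _ _ ?_ ?_ ?_
      · rw [act_mul, hgv1, mulVec_smul, hgv1, smul_smul]
      · rw [act_mul, hgv2, mulVec_smul, hd', mulVec_sub, hgv2, hgv3, hd', hw']
        module
      · rw [act_mul, hgv3, mulVec_smul, hw', mulVec_add, hgv2, hgv3, hd', hw']
        module
  -- an element comparable with a standard one
  obtain ⟨j2, hj2⟩ : ∃ x, x = dd w * j1 * (dd w)⁻¹ := ⟨_, rfl⟩
  have j2v : ∀ x y : V3, j1 ⊛ x = y → j2 ⊛ (dd w ⊛ x) = dd w ⊛ y := by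
    intro x y hxy
    rw [hj2, ← act_mul, inv_mul_cancel_right, act_mul, hxy]
  have j2v2 : j2 ⊛ v2 = v2 := by rw [← d1, j2v _ _ j1v1]
  have j2v1 : j2 ⊛ v1 = v3 := by rw [← d3, j2v _ _ j1v3, d2]
  have j1e : j1 * e = e * j1 := by rw [hj1, mul_assoc, ← hc, ← mul_assoc, ← hze, mul_assoc]
  have j2c : j2 * e2 = e2 * j2 := by
    rw [hj2, he2, show dd w * j1 * (dd w)⁻¹ * (dd w * e * (dd w)⁻¹) = dd w * (j1 * e) * (dd w)⁻¹ by group, j1e]
    group
  have j2e : j2 * e * j2⁻¹ = e * e2 := by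
    have hd33 : (dd w)⁻¹ = dd w * dd w := inv_eq_of_mul_eq_one_right (by rw [← mul_assoc, dd_three hw])
    have h1 : (dd w)⁻¹ * e * dd w = e * e2 := by
      calc (dd w)⁻¹ * e * dd w =
          (dd w * dd w * dd w) * ((dd w)⁻¹ * e * dd w) * (dd w * dd w * dd w)⁻¹ := by rw [dd_three hw]; group
        _ = dd w * (dd w * e * (dd w)⁻¹) * (dd w)⁻¹ := by group
        _ = _ := by rw [← he2, hde]
    have h2 : j1 * (e * e2) * j1⁻¹ = e2 := by
      rw [← j1e2, hj1]
      have : inv2 * e2 * (inv2 * e2) = e := by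
        rw [show inv2 * e2 * (inv2 * e2) = inv2 * e2 * inv2 * e2 by group, hz2, mul_assoc, he22, mul_one]
      rw [show inv2 * e2 * (inv2 * e2 * e2 * (inv2 * e2)⁻¹) * (inv2 * e2)⁻¹ =
        (inv2 * e2 * (inv2 * e2)) * e2 * (inv2 * e2 * (inv2 * e2))⁻¹ by group, this, hc,
        mul_inv_cancel_right]
    rw [hj2, show dd w * j1 * (dd w)⁻¹ * e * (dd w * j1 * (dd w)⁻¹)⁻¹ =
      dd w * (j1 * ((dd w)⁻¹ * e * dd w) * j1⁻¹) * (dd w)⁻¹ by group, h1, h2, hde]
  obtain ⟨q0, hq0⟩ : ∃ x, x = g * j2 * g⁻¹ := ⟨_, rfl⟩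
  have hq0m : q0 ∈ M := hq0 ▸ hj2 ▸ mul_mem (mul_mem hgm (mul_mem (mul_mem hdm j1m) (inv_mem hdm))) (inv_mem hgm)
  have q0d : q0 ⊛ d' = d' := by
    have : q0 ⊛ (g ⊛ v2) = g ⊛ v2 := by rw [hq0, ← act_mul, inv_mul_cancel_right, act_mul, j2v2]
    rw [hgv2, mulVec_smul] at this
    exact smul_right_injective _ hα this
  have q0v : q0 ⊛ v1 = (δ⁻¹ * α') • w' := by
    have : q0 ⊛ (g ⊛ v1) = g ⊛ v3 := by rw [hq0, ← act_mul, inv_mul_cancel_right, act_mul, j2v1]
    rw [hgv1, mulVec_smul, hgv3] at this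
    rw [← smul_smul, ← this, smul_smul, inv_mul_cancel₀ hδ, one_smul]
  obtain ⟨c, hc3, hce⟩ := swap H he
  have hc' : (c : F) ^ 3 = 1 := by rw [← Units.val_pow_eq_pow_val, hc3, Units.val_one]
  obtain ⟨k, hk⟩ : ∃ k, k = q0⁻¹ * jj hw c := ⟨_, rfl⟩
  have hkm : k ∈ M := hk ▸ mul_mem (inv_mem hq0m) (H.j_mem c hc3)
  have q0z : q0 * inv2 = inv2 * q0 := by
    rw [← hg2, hq0]
    calc g * j2 * g⁻¹ * (g * e2 * g⁻¹) = g * (j2 * e2) * g⁻¹ := by group
      _ = g * (e2 * j2) * g⁻¹ := by rw [j2c]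
      _ = g * e2 * g⁻¹ * (g * j2 * g⁻¹) := by group
  have q0e : q0 * e * q0⁻¹ = inv2 * e := by
    have hge' : g⁻¹ * e * g = e := by rw [mul_assoc, ← hge, inv_mul_cancel_left]
    rw [hq0, show g * j2 * g⁻¹ * e * (g * j2 * g⁻¹)⁻¹ = g * (j2 * (g⁻¹ * e * g) * j2⁻¹) * g⁻¹ by group, hge',
      j2e, hg3, hze]
  have hkz : k * inv2 = inv2 * k := by
    rw [hk, mul_assoc, jj_inv2, ← mul_assoc, ← mul_assoc]
    congr 1
    calc q0⁻¹ * inv2 = q0⁻¹ * (inv2 * q0) * q0⁻¹ := by group
      _ = inv2 * q0⁻¹ := by rw [← q0z]; group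
  have hke : k * e = e * k := by
    have : k * e * k⁻¹ = e := by
      rw [hk, show q0⁻¹ * jj hw c * e * (q0⁻¹ * jj hw c)⁻¹ = q0⁻¹ * (jj hw c * e * (jj hw c)⁻¹) * q0 by group,
        hce, ← q0e]
      group
    calc k * e = k * e * k⁻¹ * k := by group
      _ = e * k := by rw [this]
  have jd : jj hw c ⊛ d' = d' := by
    have : d' = ((w : F) - (w : F) ^ 2) • d0 := by
      funext i; fin_cases i <;> simp [hd', hv2, hv3, d0] <;> ring
    rw [this, mulVec_smul]
    congr 1
    funext i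
    fin_cases i <;> simp [val_jj hw hc3, mulVec, dotProduct, Fin.sum_univ_three, d0]
    · linear_combination inv_mul_cancel₀ hwne
    · linear_combination -(inv_mul_cancel₀ hwne)
  have kd : k ⊛ d' = d' := by
    rw [hk, act_mul, jd]
    exact act_eq_iff.mpr q0d.symm
  obtain ⟨t, ht3, ht⟩ := four H he hh heh hkm (mem_zc.mpr hkz) hke
  have hjv : jj hw c ⊛ v1 = (δ⁻¹ * α') • w' ∨ jj hw c ⊛ v1 = -((δ⁻¹ * α') • w') := by
    have back : jj hw c = q0 * k := by rw [hk, mul_inv_cancel_left]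
    have hkd := congrFun kd 1
    rcases ht with h1 | h1 | h1 | h1 <;>
      simp only [h1, smul_mulVec, one_mulVec, Units.val_mul, ← mulVec_mulVec, zd', edd, mulVec_neg,
        Pi.smul_apply, Pi.neg_apply, smul_eq_mul, hd'1] at hkd
    · left
      rw [mul_eq_right₀ hwne] at hkd
      rw [back, act_mul, h1, hkd, one_smul, one_mulVec, q0v]
    · right
      rw [mul_eq_right₀ hwne] at hkd
      rw [back, act_mul, h1, hkd, one_smul, zv1, mulVec_neg, q0v]
    · exfalso
      rw [mul_neg, ← neg_mul, mul_eq_right₀ hwne] at hkd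
      exact two (by linear_combination ht3 * (-1) + ((t : F) ^ 2 - t + 1) * hkd * (-1))
    · exfalso
      rw [mul_neg, ← neg_mul, mul_eq_right₀ hwne] at hkd
      exact two (by linear_combination ht3 * (-1) + ((t : F) ^ 2 - t + 1) * hkd * (-1))
  obtain ⟨β, hβ, hjv⟩ : ∃ β : F, (2 * (β * β) = 1 ∨ 2 * (β * β) = -1) ∧ jj hw c ⊛ v1 = β • w' := by
    have hαα : α' * α' = α * α := by rcases hσ with rfl | rfl <;> ring
    have hb2 : ∀ β : F, β * β = (δ⁻¹ * α') * (δ⁻¹ * α') → 2 * (β * β) = 1 ∨ 2 * (β * β) = -1 := by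
      intro β hb
      have hδi := inv_mul_cancel₀ hδ
      rcases hδ2 with h' | h'
      · exact Or.inl (by linear_combination 2 * hb + 2 * δ⁻¹ * δ⁻¹ * hαα - δ⁻¹ * δ⁻¹ * h' + (δ⁻¹ * δ + 1) * hδi)
      · exact Or.inr (by linear_combination 2 * hb + 2 * δ⁻¹ * δ⁻¹ * hαα + δ⁻¹ * δ⁻¹ * h' - (δ⁻¹ * δ + 1) * hδi)
    rcases hjv with h' | h'
    · exact ⟨_, hb2 _ rfl, h'⟩
    · exact ⟨-(δ⁻¹ * α'), hb2 _ (by ring), by rw [h', neg_smul]⟩
  have f0 := congrFun hjv 0
  have f1 := congrFun hjv 1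
  simp [val_jj hw hc3, mulVec, dotProduct, Fin.sum_univ_three, hv1, hv2, hv3, hw'] at f0 f1
  set s := (w : F) - (w : F) ^ 2 with hs
  have hsi := mul_inv_cancel₀ hwne
  have hs2 : s * s = -3 := by rw [← pow_two, hw.s_sq]
  set T := (c : F) * a' with hT
  have hγ : T - 1 = -(β * s) := by
    linear_combination s * f1 - (T - 1) * hsi + (-(s * s⁻¹) + β * s) * hs3
  have hq : T + 2 = 2 * T * (β * s) := by
    linear_combination (c : F) * s * f0 - (T + 2 * (c : F) ^ 3) * hsi - 2 * hc'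
  have hquad : 2 * T ^ 2 - T + 2 = 0 := by linear_combination hq + 2 * T * hγ
  have hγ2 : (T - 1) ^ 2 * 2 = -3 * (2 * (β * β)) := by
    linear_combination 2 * (T - 1 - β * s) * hγ + 2 * β * β * hs2
  rcases hβ with h' | h'
  · rw [h'] at hγ2
    have hT1 : T = 1 := mul_left_cancel₀ hw.three (by linear_combination hquad - hγ2)
    rw [hT1] at hquad
    exact hw.three (by linear_combination hquad)
  · rw [h'] at hγ2
    have hT1 : T = -1 := mul_left_cancel₀ hw.three (by linear_combination hquad - hγ2)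
    rw [hT1] at hquad
    exact hw.five (by linear_combination hquad)

end Cfsg.Agent.Hessian85
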