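import Mathlib
import Cfsg.Agent.Lib.Dickson
import Cfsg.Agent.Lib.PSLCard

/-!
Four-groups and outside involutions in subgroups of order prime to `p` of `PGL(2,p)`.
-/

set_option autoImplicit false

namespace Cfsg.Agent.Hessian85

open scoped commutatorElement

section Abstract

variable {G : Type*} [Group G]

/-- Two commuting involutions spanning a four-group. -/
def IsFour (a b : G) : Prop := a * a = 1 ∧ b * b = 1 ∧ a * b = b * a ∧ a ≠ 1 ∧ b ≠ 1 ∧ a ≠ b

/-- An involution none of whose conjugates lies in the four-group. -/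
def Outside (a b x : G) : Prop :=
  x * x = 1 ∧ ∀ h : G, h * x * h⁻¹ ≠ 1 ∧ h * x * h⁻¹ ≠ a ∧ h * x * h⁻¹ ≠ b ∧ h * x * h⁻¹ ≠ a * b

/-- The facts used about a group. -/
def Good (G : Type*) [Group G] : Prop :=
  (∀ a b : G, a ^ 4 = 1 → b ^ 4 = 1 → a * a * (b * b) = b * b * (a * a)) ∧
  ∀ a b x : G, IsFour a b → Outside a b x →
    (∀ g : G, g * x = x * g → g * g = 1) ∧
    (a * x = x * a ∨ b * x = x * b ∨ a * b * x = x * (a * b)) ∧
    (∀ y : G, Outside a b y → ∃ h : G, h * x * h⁻¹ = y) ∧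
    (∀ g : G, g * g * g = 1 → g ∈ commutator G)

theorem good_of_equiv {H : Type*} [Group H] (e : G ≃* H) (h : Good H) : Good G := by
  obtain ⟨h1, h2⟩ := h
  refine ⟨fun a b ha hb => e.injective ?_, fun a b x hab hx => ?_⟩
  · simpa using h1 (e a) (e b) (by rw [← map_pow, ha, map_one]) (by rw [← map_pow, hb, map_one])
  have hab' : IsFour (e a) (e b) := by
    obtain ⟨r1, r2, r3, r4, r5, r6⟩ := hab
    refine ⟨?_, ?_, ?_, ?_, ?_, e.injective.ne r6⟩
    · rw [← map_mul, r1, map_one]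
    · rw [← map_mul, r2, map_one]
    · rw [← map_mul, r3, map_mul]
    · exact fun q => r4 (e.injective (q.trans (map_one e).symm))
    · exact fun q => r5 (e.injective (q.trans (map_one e).symm))
  have out : ∀ y : G, Outside a b y → Outside (e a) (e b) (e y) := by
    rintro y ⟨hy, hy'⟩
    refine ⟨by rw [← map_mul, hy, map_one], fun h => ?_⟩
    obtain ⟨k, rfl⟩ := e.surjective h
    obtain ⟨q1, q2, q3, q4⟩ := hy' k
    simp only [← map_mul, ← map_inv]
    exact ⟨fun q => q1 (e.injective (q.trans (map_one e).symm)), fun q => q2 (e.injective q),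
      fun q => q3 (e.injective q), fun q => q4 (e.injective q)⟩
  obtain ⟨k1, k2, k3, k4⟩ := h2 _ _ _ hab' (out x hx)
  refine ⟨fun g hg => e.injective ?_, ?_, fun y hy => ?_, fun g hg => ?_⟩
  · rw [map_mul, map_one]; exact k1 (e g) (by rw [← map_mul, hg, map_mul])
  · simp only [← map_mul, e.injective.eq_iff] at k2; exact k2
  · obtain ⟨h, hh⟩ := k3 _ (out y hy)
    obtain ⟨k, rfl⟩ := e.surjective h
    exact ⟨k, e.injective (by rw [map_mul, map_mul, map_inv, hh])⟩
  · have hc : e g ∈ commutator H := k4 _ (by rw [← map_mul, ← map_mul, hg, map_one])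
    have hm : (commutator G).map e.toMonoidHom = commutator H := by
      rw [commutator_def, commutator_def, Subgroup.map_commutator,
        Subgroup.map_top_of_surjective e.toMonoidHom e.surjective]
    rw [← hm] at hc
    obtain ⟨k, hk, hke⟩ := hc
    exact e.injective hke ▸ hk

theorem good_cyclic [IsCyclic G] [Finite G] : Good G := by
  have : IsMulCommutative G := IsCyclic.isMulCommutative
  have hc : ∀ a b : G, a * b = b * a := fun a b => this.is_comm.comm a b
  refine ⟨fun a b _ _ => hc _ _, fun a b x ⟨ha, hb, _, ha1, hb1, hne⟩ _ => absurd ?_ hne⟩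
  classical
  let : Fintype G := Fintype.ofFinite G
  by_contra hne'
  have h3 : ({1, a, b} : Finset G).card = 3 := by
    rw [Finset.card_insert_of_notMem (by simp [Ne.symm ha1, Ne.symm hb1]),
      Finset.card_insert_of_notMem (by simp [hne']), Finset.card_singleton]
  have hsub : ({1, a, b} : Finset G) ⊆ Finset.univ.filter fun y => y ^ 2 = 1 := by
    intro y hy
    simp only [Finset.mem_insert, Finset.mem_singleton] at hy
    rcases hy with rfl | rfl | rfl <;> simp [pow_two, ha, hb]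
  have := (Finset.card_le_card hsub).trans (IsCyclic.card_pow_eq_one_le two_pos)
  omega

end Abstract

theorem mem_commutator_of_eq {G : Type*} [Group G] {g p q : G} (h : g = ⁅p, q⁆) : g ∈ commutator G := by
  rw [h, commutator_def]
  exact Subgroup.commutator_mem_commutator (Subgroup.mem_top _) (Subgroup.mem_top _)

set_option synthInstance.maxSize 3000
set_option synthInstance.maxHeartbeats 200000

theorem good_alt4 : Good (alternatingGroup (Fin 4)) := by
  refine ⟨by decide +kernel, fun a b x hab hx => absurd hx ?_⟩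
  have key : ∀ a b x : alternatingGroup (Fin 4),
      a * a = 1 → b * b = 1 → a * b = b * a → a ≠ 1 → b ≠ 1 → a ≠ b → x * x = 1 →
      x = 1 ∨ x = a ∨ x = b ∨ x = a * b := by decide +kernel
  rintro ⟨hx2, hx'⟩
  obtain ⟨q1, q2, q3, q4⟩ := hx' 1
  obtain ⟨r1, r2, r3, r4, r5, r6⟩ := hab
  simp only [one_mul, inv_one, mul_one] at q1 q2 q3 q4
  rcases key a b x r1 r2 r3 r4 r5 r6 hx2 with h | h | h | h
  exacts [q1 h, q2 h, q3 h, q4 h]

theorem good_alt5 : Good (alternatingGroup (Fin 5)) := by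
  have h4 : ∀ a : alternatingGroup (Fin 5), a ^ 4 = 1 → a * a = 1 := by decide +kernel
  refine ⟨fun a b ha hb => by rw [h4 a ha, h4 b hb], fun a b x hab hx => absurd hx ?_⟩
  have key : ∀ a x : alternatingGroup (Fin 5), a * a = 1 → x * x = 1 → a ≠ 1 → x ≠ 1 →
      ∃ h, h * x * h⁻¹ = a := by decide +kernel
  rintro ⟨hx2, hx'⟩
  obtain ⟨h, hh⟩ := key a x hab.1 hx2 hab.2.2.2.1 fun q => by simpa [q] using (hx' 1).1
  exact (hx' h).2.1 hh

theorem good_perm4 : Good (Equiv.Perm (Fin 4)) := by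
  refine ⟨by decide +kernel, fun a b x hab hx => ?_⟩
  obtain ⟨ha, hb, hc, ha1, hb1, hne⟩ := hab
  obtain ⟨hx2, hx'⟩ := hx
  have hx1 : x ≠ 1 := fun q => by simpa [q] using (hx' 1).1
  have hab1 : a * b ≠ 1 := fun q => hne (by
    calc a = a * (b * b) := by rw [hb, mul_one]
      _ = _ := by rw [← mul_assoc, q, one_mul])
  have hab2 : a * b * (a * b) = 1 := by
    rw [mul_assoc a b, ← mul_assoc b a b, ← hc, mul_assoc a b b, hb, mul_one, ha]
  have conj_even : ∀ x y : Equiv.Perm (Fin 4), x * x = 1 → x ≠ 1 → y * y = 1 → y ≠ 1 →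
      Equiv.Perm.sign x = Equiv.Perm.sign y → ∃ h, h * x * h⁻¹ = y := by decide +kernel
  have sgn : ∀ y : Equiv.Perm (Fin 4), Equiv.Perm.sign y = 1 ∨ Equiv.Perm.sign y = -1 :=
    fun y => Int.units_eq_one_or _
  -- a member of the four-group is even
  obtain ⟨v, hv2, hv1, hve, hvne⟩ : ∃ v, v * v = 1 ∧ v ≠ 1 ∧ Equiv.Perm.sign v = 1 ∧
      ∀ h, h * x * h⁻¹ ≠ v := by
    rcases sgn a with e | e
    · exact ⟨a, ha, ha1, e, fun h => (hx' h).2.1⟩
    rcases sgn b with e' | e'
    · exact ⟨b, hb, hb1, e', fun h => (hx' h).2.2.1⟩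
    exact ⟨a * b, hab2, hab1, by rw [Equiv.Perm.sign_mul, e, e']; rfl, fun h => (hx' h).2.2.2⟩
  have hodd : ∀ y : Equiv.Perm (Fin 4), y * y = 1 → y ≠ 1 → (∀ h, h * y * h⁻¹ ≠ v) →
      Equiv.Perm.sign y = -1 := fun y hy hy1 hyv => (sgn y).resolve_left fun e => by
    obtain ⟨h, hh⟩ := conj_even y v hy hy1 hv2 hv1 (e.trans hve.symm)
    exact hyv h hh
  have hxo := hodd x hx2 hx1 hvne
  have ae : Equiv.Perm.sign a = 1 := (sgn a).resolve_right fun e => by
    obtain ⟨h, hh⟩ := conj_even x a hx2 hx1 ha ha1 (hxo.trans e.symm)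
    exact (hx' h).2.1 hh
  have be : Equiv.Perm.sign b = 1 := (sgn b).resolve_right fun e => by
    obtain ⟨h, hh⟩ := conj_even x b hx2 hx1 hb hb1 (hxo.trans e.symm)
    exact (hx' h).2.2.1 hh
  have cent : ∀ g x : Equiv.Perm (Fin 4), Equiv.Perm.sign x = -1 → x * x = 1 → g * x = x * g →
      g * g = 1 := by decide +kernel
  have dbl : ∀ x : Equiv.Perm (Fin 4), ∃ v, Equiv.Perm.sign x = -1 → x * x = 1 →
      v * v = 1 ∧ v ≠ 1 ∧ Equiv.Perm.sign v = 1 ∧ v * x = x * v := by decide +kernel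
  have only : ∀ a b v : Equiv.Perm (Fin 4), Equiv.Perm.sign a = 1 → Equiv.Perm.sign b = 1 →
      Equiv.Perm.sign v = 1 → a * a = 1 → b * b = 1 → v * v = 1 → a ≠ 1 → b ≠ 1 → v ≠ 1 → a ≠ b →
      v = a ∨ v = b ∨ v = a * b := by decide +kernel
  have com : ∀ g : Equiv.Perm (Fin 4), ∃ p q : Equiv.Perm (Fin 4), g * g * g = 1 → g = ⁅p, q⁆ := by decide +kernel
  refine ⟨fun g hg => cent g x hxo hx2 hg, ?_, fun y hy => ?_, fun g hg => ?_⟩
  · obtain ⟨u, hu⟩ := dbl x
    obtain ⟨hu2, hu1, hue, hux⟩ := hu hxo hx2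
    rcases only a b u ae be hue ha hb hu2 ha1 hb1 hu1 hne with rfl | rfl | rfl
    · exact Or.inl hux
    · exact Or.inr (Or.inl hux)
    · exact Or.inr (Or.inr hux)
  · obtain ⟨hy2, hy'⟩ := hy
    have hy1 : y ≠ 1 := fun q => by simpa [q] using (hy' 1).1
    have hyo : Equiv.Perm.sign y = -1 := (sgn y).resolve_left fun e => by
      obtain ⟨h, hh⟩ := conj_even y a hy2 hy1 ha ha1 (e.trans ae.symm)
      exact (hy' h).2.1 hh
    exact conj_even x y hx2 hx1 hy2 hy1 (hxo.trans hyo.symm)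
  · obtain ⟨p, q, hpq⟩ := com g
    exact mem_commutator_of_eq (hpq hg)

theorem good_dihedral (n : ℕ) [NeZero n] : Good (DihedralGroup n) := by
  have half : ∀ i j : ZMod n, i + i = 0 → j + j = 0 → i ≠ 0 → j ≠ 0 → i = j := by
    intro i j hi hj hi0 hj0
    have key : ∀ k : ZMod n, k + k = 0 → k ≠ 0 → 2 * k.val = n := by
      intro k hk hk0
      have hd : n ∣ k.val + k.val := by
        exact (ZMod.natCast_eq_zero_iff _ _).mp (by push_cast; rw [ZMod.natCast_zmod_val, hk])
      obtain ⟨t, ht⟩ := hd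
      have hlt := ZMod.val_lt k
      have hpos : k.val ≠ 0 := fun e => hk0 ((ZMod.val_eq_zero k).mp e)
      have : t = 1 := by
        rcases t with - | _ | t
        · omega
        · rfl
        · nlinarith
      subst this
      omega
    exact ZMod.val_injective n (by have := key i hi hi0; have := key j hj hj0; omega)
  have even_diff : ∀ i j : ZMod n, (∀ m, i ≠ m + m) → (∀ m, j ≠ m + m) → ∃ m, i - j = m + m := by
    intro i j hi hj
    have odd : ∀ k : ZMod n, (∀ m, k ≠ m + m) → k.val % 2 = 1 := fun k hk => by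
      by_contra h
      refine hk ((k.val / 2 : ℕ) : ZMod n) ?_
      rw [← Nat.cast_add, show k.val / 2 + k.val / 2 = k.val by omega, ZMod.natCast_zmod_val]
    have oi := odd i hi
    have oj := odd j hj
    refine ⟨((i.val / 2 : ℕ) : ZMod n) - ((j.val / 2 : ℕ) : ZMod n), ?_⟩
    have ei : i = ((i.val / 2 + i.val / 2 + 1 : ℕ) : ZMod n) := by
      rw [show i.val / 2 + i.val / 2 + 1 = i.val by omega, ZMod.natCast_zmod_val]
    have ej : j = ((j.val / 2 + j.val / 2 + 1 : ℕ) : ZMod n) := by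
      rw [show j.val / 2 + j.val / 2 + 1 = j.val by omega, ZMod.natCast_zmod_val]
    push_cast at ei ej
    linear_combination ei - ej
  have sqrot : ∀ g : DihedralGroup n, ∃ i, g * g = DihedralGroup.r i := by
    rintro (i | i)
    · exact ⟨i + i, by simp⟩
    · exact ⟨0, by simp⟩
  refine ⟨fun a b _ _ => ?_, fun a b x hab hx => ?_⟩
  · obtain ⟨i, hi⟩ := sqrot a
    obtain ⟨j, hj⟩ := sqrot b
    rw [hi, hj, DihedralGroup.r_mul_r, DihedralGroup.r_mul_r, add_comm]
  obtain ⟨ha, hb, hc, ha1, hb1, hne⟩ := hab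
  -- a rotation and a reflection in the four-group
  obtain ⟨h, hh, hh0, hr, k, hk1, hk2⟩ : ∃ h : ZMod n, h + h = 0 ∧ h ≠ 0 ∧
      (DihedralGroup.r h = a ∨ DihedralGroup.r h = b ∨ DihedralGroup.r h = a * b) ∧ ∃ k,
      (DihedralGroup.sr k = a ∨ DihedralGroup.sr k = b ∨ DihedralGroup.sr k = a * b) ∧
      (DihedralGroup.sr (k + h) = a ∨ DihedralGroup.sr (k + h) = b ∨
        DihedralGroup.sr (k + h) = a * b) := by
    rcases a with i | i <;> rcases b with j | j
    · rw [DihedralGroup.r_mul_r, DihedralGroup.one_def, DihedralGroup.r.injEq] at ha hb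
      rw [DihedralGroup.one_def, ne_eq, DihedralGroup.r.injEq] at ha1 hb1
      exact absurd (congrArg DihedralGroup.r (half i j ha hb ha1 hb1)) hne
    · rw [DihedralGroup.r_mul_r, DihedralGroup.one_def, DihedralGroup.r.injEq] at ha
      rw [DihedralGroup.one_def, ne_eq, DihedralGroup.r.injEq] at ha1
      refine ⟨i, ha, ha1, Or.inl rfl, j - i, Or.inr (Or.inr (by simp)), Or.inr (Or.inl ?_)⟩
      simp
    · rw [DihedralGroup.r_mul_r, DihedralGroup.one_def, DihedralGroup.r.injEq] at hb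
      rw [DihedralGroup.one_def, ne_eq, DihedralGroup.r.injEq] at hb1
      exact ⟨j, hb, hb1, Or.inr (Or.inl rfl), i, Or.inl rfl, Or.inr (Or.inr (by simp))⟩
    · rw [DihedralGroup.sr_mul_sr, DihedralGroup.sr_mul_sr, DihedralGroup.r.injEq] at hc
      refine ⟨j - i, by linear_combination hc, sub_ne_zero.mpr fun e => hne (by rw [e]),
        Or.inr (Or.inr (by simp)), i, Or.inl rfl, Or.inr (Or.inl (by simp))⟩
  have notin : ∀ y, Outside a b y → ∀ g u,
      (u = a ∨ u = b ∨ u = a * b) → g * y * g⁻¹ ≠ u := by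
    rintro y ⟨-, hy⟩ g u (rfl | rfl | rfl)
    exacts [(hy g).2.1, (hy g).2.2.1, (hy g).2.2.2]
  have cj : ∀ m i : ZMod n, DihedralGroup.r m * DihedralGroup.sr i * (DihedralGroup.r m)⁻¹ =
      DihedralGroup.sr (i - (m + m)) := fun m i => by
    simp only [DihedralGroup.inv_r, DihedralGroup.r_mul_sr, DihedralGroup.sr_mul_r]
    ring_nf
  have refl : ∀ y, Outside a b y → ∃ i, y = DihedralGroup.sr i ∧ ∀ m, i - k ≠ m + m := by
    intro y hy
    rcases y with i | i
    · exfalso
      have h2 := hy.1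
      rw [DihedralGroup.r_mul_r, DihedralGroup.one_def, DihedralGroup.r.injEq] at h2
      have h1 := (hy.2 1).1
      rw [one_mul, inv_one, mul_one, DihedralGroup.one_def, ne_eq, DihedralGroup.r.injEq] at h1
      have e := half i h h2 hh h1 hh0
      exact notin _ hy 1 _ hr (by rw [one_mul, inv_one, mul_one, e])
    · refine ⟨i, rfl, fun m hm => notin _ hy (DihedralGroup.r m) _ hk1 ?_⟩
      rw [cj, ← hm, sub_sub_cancel]
  obtain ⟨i, rfl, hi⟩ := refl x hx
  refine ⟨fun g hg => ?_, ?_, fun y hy => ?_, fun g hg => ?_⟩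
  · rcases g with j | j
    · rw [DihedralGroup.r_mul_sr, DihedralGroup.sr_mul_r, DihedralGroup.sr.injEq] at hg
      rw [DihedralGroup.r_mul_r, DihedralGroup.one_def, DihedralGroup.r.injEq]
      linear_combination -hg
    · simp
  · have hcr : DihedralGroup.r h * DihedralGroup.sr i = DihedralGroup.sr i * DihedralGroup.r h := by
      rw [DihedralGroup.r_mul_sr, DihedralGroup.sr_mul_r, DihedralGroup.sr.injEq]
      linear_combination -hh
    rcases hr with e | e | e <;> rw [e] at hcr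
    · exact Or.inl hcr
    · exact Or.inr (Or.inl hcr)
    · exact Or.inr (Or.inr hcr)
  · obtain ⟨l, rfl, hl⟩ := refl y hy
    obtain ⟨m, hm⟩ := even_diff _ _ hi hl
    exact ⟨DihedralGroup.r m, by rw [cj, show i - (m + m) = l by linear_combination hm]⟩
  · rcases g with j | j
    · rw [DihedralGroup.r_mul_r, DihedralGroup.r_mul_r, DihedralGroup.one_def, DihedralGroup.r.injEq] at hg
      refine mem_commutator_of_eq (p := DihedralGroup.r (-j)) (q := DihedralGroup.sr 0) ?_
      simp [commutatorElement_def]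
      linear_combination hg
    · simp at hg
      rw [DihedralGroup.one_def] at hg
      exact absurd hg (by simp only [reduceCtorEq, not_false_eq_true])

/-- A subgroup of order prime to `p` of `PGL(2,p)`. -/
theorem good_subgroup {F : Type*} [Field F] [Fintype F] (p : ℕ) [Fact p.Prime] [CharP F p]
    (J : Subgroup (Matrix.ProjGenLinGroup (Fin 2) F)) (hJ : ¬ p ∣ Nat.card J) : Good J := by
  rcases Dickson.dickson_pgl p J with ⟨hc, -⟩ | ⟨-, -, h⟩ | ⟨C, -, -, -, h2, ⟨e⟩⟩ | ⟨⟨e⟩⟩ | ⟨⟨e⟩⟩ |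
      ⟨⟨e⟩⟩ | ⟨R, hR, hiso⟩
  · exact good_cyclic
  · exact absurd h hJ
  · haveI : NeZero (Nat.card C) := ⟨by omega⟩
    exact good_of_equiv e (good_dihedral _)
  · exact good_of_equiv e good_alt4
  · exact good_of_equiv e good_perm4
  · exact good_of_equiv e good_alt5
  · exfalso
    have hp := Fact.out (p := p.Prime)
    haveI : CharP R p := (RingHom.charP_iff R.subtype R.subtype.injective p).mpr inferInstance
    have hRp : p ∣ Nat.card R := by
      have h : addOrderOf (1 : R) ∣ Nat.card R := addOrderOf_dvd_natCard _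
      rwa [CharP.eq R (CharP.addOrderOf_one R) (inferInstance : CharP R p)] at h
    rcases hiso with ⟨⟨e⟩⟩ | ⟨hodd, ⟨e⟩⟩
    · rw [Nat.card_congr e.toEquiv, PSLCard.card_PGL2] at hJ
      exact hJ (hRp.mul_right _)
    · rw [Nat.card_congr e.toEquiv, PSLCard.card_PSL2_odd hodd] at hJ
      apply hJ
      have h2 : 2 ∣ Nat.card R ^ 2 - 1 := by
        have : Nat.card R ^ 2 % 2 = 1 := Nat.odd_iff.mp (hodd.pow)
        omega
      rw [Nat.mul_div_assoc _ h2]
      exact hRp.mul_right _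

end Cfsg.Agent.Hessian85
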