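import Cfsg.Agent.Lib.Hessian85Basic

/-!
The centraliser of the involution `inv2`: the action on the line `(0,1,-1)` and on the plane of
vectors `(x,y,y)`.
-/

set_option autoImplicit false

namespace Cfsg.Agent.Hessian85

open Matrix
open Cfsg.Agent.HeisenbergThree (dg dg_val cyc inv2 sc sc_val sc_comm)
open Cfsg.Agent.TransvectionMax (tv tv_act gl_ext)

variable {F : Type*} [Field F]

local notation "M3" => Matrix (Fin 3) (Fin 3) F
local notation "M2" => Matrix (Fin 2) (Fin 2) F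
local notation "zc" => Subgroup.centralizer ({(inv2 : GL (Fin 3) F)} : Set (GL (Fin 3) F))

/-- A matrix commuting with `inv2` is symmetric in the last two coordinates. -/
theorem shape {A : M3} (h : A * (inv2 : GL (Fin 3) F).val = (inv2 : GL (Fin 3) F).val * A) :
    A 0 2 = A 0 1 ∧ A 2 0 = A 1 0 ∧ A 2 2 = A 1 1 ∧ A 2 1 = A 1 2 := by
  have e : ∀ i j, _ = _ := fun i j => congrFun (congrFun h i) j
  have h1 := e 0 1
  have h2 := e 1 0
  have h3 := e 1 2
  have h4 := e 2 2
  simp [val_inv2, mul_apply, Fin.sum_univ_three] at h1 h2 h3 h4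
  exact ⟨h1, h2.symm, h3.symm, h4⟩

theorem mem_zc {g : GL (Fin 3) F} : g ∈ zc ↔ g * inv2 = inv2 * g :=
  Subgroup.mem_centralizer_singleton_iff

theorem shape_gl {g : GL (Fin 3) F} (h : g ∈ zc) :
    g.val 0 2 = g.val 0 1 ∧ g.val 2 0 = g.val 1 0 ∧ g.val 2 2 = g.val 1 1 ∧ g.val 2 1 = g.val 1 2 :=
  shape (by rw [← Units.val_mul, ← Units.val_mul, mem_zc.mp h])

/-- The matrix on the plane. -/
def pl (A : M3) : M2 := !![A 0 0, 2 * A 0 1; A 1 0, A 1 1 + A 1 2]

/-- The scalar on the line. -/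
def lv (A : M3) : F := A 1 1 - A 1 2

theorem pl_one : pl (1 : M3) = 1 := by
  ext i j; fin_cases i <;> fin_cases j <;> simp [pl]

/-- The action on the plane as a homomorphism. -/
def plM : ↥(zc) →* M2 where
  toFun g := pl (g : GL (Fin 3) F).val
  map_one' := pl_one
  map_mul' g h := by
    obtain ⟨a1, a2, a3, a4⟩ := shape_gl g.2
    obtain ⟨b1, b2, b3, b4⟩ := shape_gl h.2
    ext i j
    fin_cases i <;> fin_cases j <;>
      simp [pl, mul_apply, Fin.sum_univ_three, Fin.sum_univ_two, a1, a2, a3, a4, b1, b2, b3, b4] <;> ring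

/-- The action on the line as a homomorphism. -/
def lvM : ↥(zc) →* F where
  toFun g := lv (g : GL (Fin 3) F).val
  map_one' := by simp [lv]
  map_mul' g h := by
    obtain ⟨a1, a2, a3, a4⟩ := shape_gl g.2
    obtain ⟨b1, b2, b3, b4⟩ := shape_gl h.2
    simp [lv, mul_apply, Fin.sum_univ_three, b1, b2, b3, b4]
    ring

/-- The image in the projective group of the plane. -/
def toP : ↥(zc) →* ProjGenLinGroup (Fin 2) F :=
  ProjGenLinGroup.mk.comp (plM (F := F)).toHomUnits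

theorem toP_eq {g h : ↥(zc)} (c : Fˣ) (e : plM g = (c : F) • plM h) : toP g = toP h := by
  refine ProjGenLinGroup.mk_eq_mk_iff.mpr ⟨c⁻¹, Units.ext ?_⟩
  rw [Units.val_mul]
  show plM g * Matrix.scalar (Fin 2) ((c⁻¹ : Fˣ) : F) = plM h
  rw [Matrix.scalar_apply, ← Matrix.smul_one_eq_diagonal, mul_smul_comm, mul_one, e, smul_smul,
    Units.inv_mul, one_smul]

theorem exists_of_toP {g h : ↥(zc)} (e : toP g = toP h) : ∃ c : Fˣ, plM g = (c : F) • plM h := by
  obtain ⟨c, hc⟩ := ProjGenLinGroup.mk_eq_mk_iff.mp e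
  refine ⟨c⁻¹, ?_⟩
  have h1 := congrArg Units.val hc
  rw [Units.val_mul] at h1
  have h2 : plM g * Matrix.scalar (Fin 2) (c : F) = plM h := h1
  rw [← h2, Matrix.scalar_apply, ← Matrix.smul_one_eq_diagonal, mul_smul_comm, mul_one, smul_smul,
    Units.inv_mul, one_smul]

theorem det_eq {g : GL (Fin 3) F} (h : g ∈ zc) : g.val.det = lv g.val * (pl g.val).det := by
  obtain ⟨a1, a2, a3, a4⟩ := shape_gl h
  simp [det_fin_three, det_fin_two, pl, lv, a1, a2, a3, a4]
  ring

/-- An element of the centraliser is determined by the two actions. -/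
theorem ext_zc (h2 : (2 : F) ≠ 0) {g h : GL (Fin 3) F} (hg : g ∈ zc) (hh : h ∈ zc) (ea : lv g.val = lv h.val)
    (ep : pl g.val = pl h.val) : g = h := by
  obtain ⟨a1, a2, a3, a4⟩ := shape_gl hg
  obtain ⟨b1, b2, b3, b4⟩ := shape_gl hh
  have e00 := congrFun (congrFun ep 0) 0
  have e01 := congrFun (congrFun ep 0) 1
  have e10 := congrFun (congrFun ep 1) 0
  have e11 := congrFun (congrFun ep 1) 1
  simp [pl, lv] at e00 e01 e10 e11 ea
  have f01 : g.val 0 1 = h.val 0 1 := e01.resolve_right h2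
  have f11 : g.val 1 1 = h.val 1 1 := mul_left_cancel₀ h2 (by linear_combination e11 + ea)
  have f12 : g.val 1 2 = h.val 1 2 := mul_left_cancel₀ h2 (by linear_combination e11 - ea)
  apply Units.ext
  ext i j
  fin_cases i <;> fin_cases j <;> simp [a1, a2, a3, a4, b1, b2, b3, b4, e00, e10, f01, f11, f12]

theorem inv2_zc : (inv2 : GL (Fin 3) F) ∈ zc := mem_zc.mpr rfl

theorem lv_inv2 : lv (inv2 : GL (Fin 3) F).val = 1 := by simp [lv, val_inv2]

theorem pl_inv2 : pl (inv2 : GL (Fin 3) F).val = -1 := by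
  ext i j; fin_cases i <;> fin_cases j <;> simp [pl, val_inv2]

/-- The image of `jj` on the plane. -/
def vmat (c : F) : M2 := !![1, 2 * c ^ 2; c, -1]

theorem jj_zc {w : Fˣ} (hw : Omega w) (c : Fˣ) : jj hw c ∈ zc := mem_zc.mpr (jj_inv2 hw c)

theorem lv_jj {w : Fˣ} (hw : Omega w) {c : Fˣ} (hc : c ^ 3 = 1) : lv (jj hw c).val = 1 := by
  simp [lv, val_jj hw hc]
  rw [← mul_sub, inv_mul_cancel₀ hw.s_ne]

theorem pl_jj {w : Fˣ} (hw : Omega w) {c : Fˣ} (hc : c ^ 3 = 1) :
    pl (jj hw c).val = ((w : F) - (w : F) ^ 2)⁻¹ • vmat (c : F) := by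
  ext i j
  fin_cases i <;> fin_cases j <;> simp [pl, vmat, val_jj hw hc] <;>
    first | linear_combination ((w : F) - (w : F) ^ 2)⁻¹ * hw.sum | ring

/-- A unipotent matrix of order two is a transvection. -/
theorem nilpotent_two {N : M2} (h : IsNilpotent N) : ∃ v f : Fin 2 → F,
    f ⬝ᵥ v = 0 ∧ N = vecMulVec v f := by
  have hd : N.det = 0 := by
    obtain ⟨k, hk⟩ := h
    have h0 : (N ^ k).det = 0 := by rw [hk, det_zero]
    rw [det_pow] at h0
    exact pow_eq_zero_iff'.mp h0 |>.1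
  have ht : N.trace = 0 := (Matrix.isNilpotent_trace_of_isNilpotent h).eq_zero
  rw [det_fin_two] at hd
  rw [trace_fin_two] at ht
  by_cases hb : N 0 1 = 0
  · have h00 : N 0 0 = 0 := mul_self_eq_zero.mp (by linear_combination N 0 0 * ht - hd - N 1 0 * hb)
    have h11 : N 1 1 = 0 := by linear_combination ht - h00
    refine ⟨![0, 1], ![N 1 0, 0], by simp [dotProduct, Fin.sum_univ_two], ?_⟩
    ext i j
    fin_cases i <;> fin_cases j <;> simp [vecMulVec_apply, h00, hb, h11]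
  · refine ⟨![N 0 1, N 1 1], ![N 0 0 / N 0 1, 1], ?_, ?_⟩
    · simp [dotProduct, Fin.sum_univ_two]
      rw [div_mul_cancel₀ _ hb]
      exact ht
    · ext i j
      fin_cases i <;> fin_cases j <;> simp [vecMulVec_apply, mul_div_cancel₀ _ hb]
      rw [← mul_div_assoc, eq_div_iff hb]
      linear_combination -hd

/-- A subgroup contains a transvection. -/
def HasTv (M : Subgroup (GL (Fin 3) F)) : Prop :=
  ∃ v f : Fin 3 → F, v ≠ 0 ∧ f ≠ 0 ∧ f ⬝ᵥ v = 0 ∧ tv v f ∈ M

/-- A unipotent block of size two gives a transvection. -/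
theorem hasTv_of_block {M : Subgroup (GL (Fin 3) F)} {g : GL (Fin 3) F} (hg : g ∈ M) {A : M2}
    (hA : IsNilpotent (A - 1)) (hA1 : A ≠ 1) (e : Fin 2 → Fin 3 → F) (e' : Fin 2 → Fin 3 → F)
    (hee : ∀ i j, e' i ⬝ᵥ e j = if i = j then 1 else 0)
    (hact : ∀ x, g.val *ᵥ x = x + ∑ i, (∑ j, (A - 1) i j * (e' j ⬝ᵥ x)) • e i) : HasTv M := by
  obtain ⟨v, f, hfv, hN⟩ := nilpotent_two hA
  have hv0 : v ≠ 0 := fun h => hA1 (sub_eq_zero.mp (by
    rw [hN, h]; ext i j; simp [vecMulVec_apply]))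
  have hf0 : f ≠ 0 := fun h => hA1 (sub_eq_zero.mp (by
    rw [hN, h]; ext i j; simp [vecMulVec_apply]))
  let V : Fin 3 → F := ∑ i, v i • e i
  let G : Fin 3 → F := ∑ j, f j • e' j
  have hV : ∀ i, e' i ⬝ᵥ V = v i := fun i => by
    simp only [V, dotProduct_sum, dotProduct_smul, hee]
    simp
  have hG : ∀ x, G ⬝ᵥ x = ∑ j, f j * (e' j ⬝ᵥ x) := fun x => by
    simp only [G, sum_dotProduct, smul_dotProduct, smul_eq_mul]
  have hGV : G ⬝ᵥ V = 0 := by rw [hG]; simp only [hV]; exact hfv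
  refine ⟨V, G, fun h => hv0 (funext fun i => by rw [← hV i, h, dotProduct_zero]; rfl), fun h => ?_,
    hGV, ?_⟩
  · refine hf0 (funext fun j => ?_)
    have := hG (e j)
    rw [h, zero_dotProduct] at this
    simp [hee] at this
    exact this.symm
  · convert hg
    refine gl_ext fun x => ?_
    rw [tv_act hGV, hact]
    congr 1
    simp only [hN, vecMulVec_apply, mul_assoc, ← Finset.mul_sum, ← hG, V, Finset.smul_sum, smul_smul]
    exact Finset.sum_congr rfl fun i _ => by rw [mul_comm]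

end Cfsg.Agent.Hessian85
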