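import Cfsg.Agent.Lib.Hessian85Plane
import Cfsg.Agent.Lib.Hessian85Four

/-!
Involutions of an overgroup without transvection that commute with the central involution.
-/

set_option autoImplicit false

namespace Cfsg.Agent.Hessian85

open Matrix
open Cfsg.Agent.HeisenbergThree (dg dg_val cyc inv2 sc sc_val sc_comm)

variable {F : Type*} [Field F]

local notation "M3" => Matrix (Fin 3) (Fin 3) F
local notation "M2" => Matrix (Fin 2) (Fin 2) F
local notation "zc" => Subgroup.centralizer ({(inv2 : GL (Fin 3) F)} : Set (GL (Fin 3) F))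
local notation "PG" => ProjGenLinGroup (Fin 2) F

theorem prime_char [Finite F] : (ringChar F).Prime := CharP.char_is_prime F (ringChar F)

theorem eq_one_of_pow [Finite F] (hp : (ringChar F).Prime) {x : F} (h : x ^ ringChar F = 1) : x = 1 := by
  haveI := Fact.mk hp
  have : (x - 1) ^ ringChar F = 0 := by rw [sub_pow_char, h, one_pow, sub_self]
  exact sub_eq_zero.mp (pow_eq_zero_iff hp.ne_zero |>.mp this)

theorem nilpotent_of_pow [Finite F] (hp : (ringChar F).Prime) {A : M2} (h : A ^ ringChar F = 1) :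
    IsNilpotent (A - 1) := by
  haveI := Fact.mk hp
  haveI : CharP M2 (ringChar F) := inferInstance
  exact ⟨ringChar F, by rw [sub_pow_char_of_commute (ringChar F) (Commute.one_right A), h, one_pow, sub_self]⟩

/-- A homomorphism into `PGL(2,p)` with no element of order `p` has good image. -/
theorem good_range [Finite F] (hp : (ringChar F).Prime) {G : Type*} [Group G] [Finite G] (f : G →* PG)
    (h : ∀ k : G, orderOf k ≠ ringChar F) : Good f.range := by
  letI := Fintype.ofFinite F
  haveI := Fact.mk hp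
  refine good_subgroup (ringChar F) f.range fun hd => ?_
  obtain ⟨k, hk⟩ := exists_prime_orderOf_dvd_card' (ringChar F) (hd.trans (Subgroup.card_range_dvd f))
  exact h k hk

/-- The homomorphism from the centraliser in `M`. -/
def toM (M : Subgroup (GL (Fin 3) F)) : ↥(M ⊓ zc) →* PG :=
  toP.comp (Subgroup.inclusion inf_le_right)

theorem no_p_in_centralizer [Finite F] (hp : (ringChar F).Prime) (h2 : (2 : F) ≠ 0)
    {M : Subgroup (GL (Fin 3) F)} (hnt : ¬ HasTv M) (k : ↥(M ⊓ zc)) : orderOf k ≠ ringChar F := by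
  intro hk
  apply hnt
  obtain ⟨g, hgM, hgz⟩ := k
  have hpow : g ^ ringChar F = 1 := by rw [← hk, ← Subgroup.orderOf_coe, pow_orderOf_eq_one]
  have hne : g ≠ 1 := fun e => hp.one_lt.ne' (by rw [← hk, ← Subgroup.orderOf_coe]; simp [e])
  let g' : ↥(zc) := ⟨g, hgz⟩
  have hg' : g' ^ ringChar F = 1 := Subtype.ext hpow
  have hl : lv g.val = 1 := eq_one_of_pow hp (by
    show (lvM g') ^ ringChar F = 1
    rw [← map_pow, hg', map_one])
  have hA : IsNilpotent (pl g.val - 1) := nilpotent_of_pow hp (by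
    show (plM g') ^ ringChar F = 1
    rw [← map_pow, hg', map_one])
  have hA1 : pl g.val ≠ 1 := fun e => hne (ext_zc h2 hgz (one_mem _) (by rw [hl]; simp [lv])
    (by rw [e, Units.val_one, pl_one]))
  refine hasTv_of_block hgM hA hA1 ![![1, 0, 0], ![0, 1, 1]] ![![1, 0, 0], ![0, 2⁻¹, 2⁻¹]] ?_ fun x => ?_
  · intro i j
    fin_cases i <;> fin_cases j <;> simp [dotProduct, Fin.sum_univ_three]
    field_simp
    norm_num
  · obtain ⟨a1, a2, a3, a4⟩ := shape_gl hgz
    simp only [lv] at hl
    funext i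
    simp only [mulVec, dotProduct, Fin.sum_univ_three, Fin.sum_univ_two, Pi.add_apply, Pi.smul_apply,
      smul_eq_mul]
    fin_cases i <;> simp [pl, a1, a2, a3, a4] <;> field_simp
    · ring
    · linear_combination (x 1 - x 2) * hl
    · linear_combination (x 2 - x 1) * hl

/-- The homomorphism to the block on the last two coordinates. -/
def bc (w : Fˣ) : GL (Fin 3) F := dg ![w, 1, 1]

theorem bc_shape {w : Fˣ} (hw : Omega w) {g : GL (Fin 3) F} :
    g ∈ Subgroup.centralizer {bc w} ↔ g.val 0 1 = 0 ∧ g.val 0 2 = 0 ∧ g.val 1 0 = 0 ∧ g.val 2 0 = 0 := by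
  rw [Subgroup.mem_centralizer_singleton_iff]
  have h1 : (w : F) - 1 ≠ 0 := sub_ne_zero.mpr hw.c1
  constructor
  · intro h
    have hv : g.val * (bc w).val = (bc w).val * g.val := by rw [← Units.val_mul, h, Units.val_mul]
    have e : ∀ i j, _ = _ := fun i j => congrFun (congrFun hv i) j
    have a1 := e 0 1
    have a2 := e 0 2
    have a3 := e 1 0
    have a4 := e 2 0
    simp [bc, dg_val, mul_apply, Fin.sum_univ_three] at a1 a2 a3 a4
    refine ⟨?_, ?_, ?_, ?_⟩
    · exact (mul_eq_zero.mp (show ((w : F) - 1) * g.val 0 1 = 0 by linear_combination -a1)).resolve_left h1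
    · exact (mul_eq_zero.mp (show ((w : F) - 1) * g.val 0 2 = 0 by linear_combination -a2)).resolve_left h1
    · exact (mul_eq_zero.mp (show ((w : F) - 1) * g.val 1 0 = 0 by linear_combination a3)).resolve_left h1
    · exact (mul_eq_zero.mp (show ((w : F) - 1) * g.val 2 0 = 0 by linear_combination a4)).resolve_left h1
  · rintro ⟨a1, a2, a3, a4⟩
    apply Units.ext
    ext i j
    fin_cases i <;> fin_cases j <;> simp [bc, dg_val, mul_apply, Fin.sum_univ_three, a1, a2, a3, a4] <;> ring

/-- The block on the last two coordinates as a homomorphism. -/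
def bl {w : Fˣ} (hw : Omega w) : ↥(Subgroup.centralizer {bc w}) →* M2 where
  toFun g := !![g.1.val 1 1, g.1.val 1 2; g.1.val 2 1, g.1.val 2 2]
  map_one' := by ext i j; fin_cases i <;> fin_cases j <;> simp
  map_mul' g h := by
    obtain ⟨a1, a2, a3, a4⟩ := (bc_shape hw).mp g.2
    obtain ⟨b1, b2, b3, b4⟩ := (bc_shape hw).mp h.2
    ext i j
    fin_cases i <;> fin_cases j <;> simp [mul_apply, Fin.sum_univ_three, Fin.sum_univ_two, a3, a4]

variable {w : Fˣ} {hw : Omega w} {M : Subgroup (GL (Fin 3) F)}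

theorem no_p_in_block [Finite F] (hp : (ringChar F).Prime) (hnt : ¬ HasTv M)
    (hw : Omega w) (k : ↥(M ⊓ Subgroup.centralizer {bc w})) : orderOf k ≠ ringChar F := by
  intro hk
  apply hnt
  obtain ⟨g, hgM, hgb⟩ := k
  have hpow : g ^ ringChar F = 1 := by rw [← hk, ← Subgroup.orderOf_coe, pow_orderOf_eq_one]
  have hne : g ≠ 1 := fun e => hp.one_lt.ne' (by rw [← hk, ← Subgroup.orderOf_coe]; simp [e])
  obtain ⟨a1, a2, a3, a4⟩ := (bc_shape hw).mp hgb
  have h00 : g.val 0 0 = 1 := by
    let f : ↥(Subgroup.centralizer {bc w}) →* F :=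
      { toFun := fun h => h.1.val 0 0
        map_one' := by simp
        map_mul' := fun h h' => by
          obtain ⟨b1, b2, b3, b4⟩ := (bc_shape hw).mp h.2
          simp [mul_apply, Fin.sum_univ_three, b1, b2] }
    refine eq_one_of_pow hp ?_
    show (f ⟨g, hgb⟩) ^ ringChar F = 1
    rw [← map_pow, show (⟨g, hgb⟩ : ↥(Subgroup.centralizer {bc w})) ^ ringChar F = 1 from Subtype.ext hpow,
      map_one]
  have hA : IsNilpotent (bl hw ⟨g, hgb⟩ - 1) := nilpotent_of_pow hp (by
    rw [← map_pow, show (⟨g, hgb⟩ : ↥(Subgroup.centralizer {bc w})) ^ ringChar F = 1 from Subtype.ext hpow,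
      map_one])
  have hA1 : bl hw ⟨g, hgb⟩ ≠ 1 := fun e => hne (by
    have e11 := congrFun (congrFun e 0) 0
    have e12 := congrFun (congrFun e 0) 1
    have e21 := congrFun (congrFun e 1) 0
    have e22 := congrFun (congrFun e 1) 1
    simp [bl] at e11 e12 e21 e22
    apply Units.ext
    ext i j
    fin_cases i <;> fin_cases j <;> simp [a1, a2, a3, a4, h00, e11, e12, e21, e22])
  refine hasTv_of_block hgM hA hA1 ![![0, 1, 0], ![0, 0, 1]] ![![0, 1, 0], ![0, 0, 1]] ?_ fun x => ?_
  · intro i j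
    fin_cases i <;> fin_cases j <;> simp [dotProduct, Fin.sum_univ_three]
  · funext i
    simp only [mulVec, dotProduct, Fin.sum_univ_three, Fin.sum_univ_two, Pi.add_apply, Pi.smul_apply,
      smul_eq_mul]
    fin_cases i <;> simp [bl, a1, a2, a3, a4, h00] <;> ring

/-- Standing hypotheses: an overgroup without transvection. -/
structure NoTv {w : Fˣ} (hw : Omega w) (M : Subgroup (GL (Fin 3) F)) : Prop extends Over hw M where
  fin : Finite F
  prime : (ringChar F).Prime
  notv : ¬ HasTv M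

variable (H : NoTv hw M)
include H

/-- No element acts as `-1` on the line and as a scalar on the plane. -/
theorem no_scalar_plane {g : GL (Fin 3) F} (hgM : g ∈ M) (hgz : g ∈ zc) (hl : lv g.val = -1) {c : F}
    (hpl : pl g.val = c • 1) : False := by
  haveI := H.fin
  have hgood := good_range H.prime (ProjGenLinGroup.mk.comp
    ((bl hw).comp (Subgroup.inclusion (inf_le_right : M ⊓ Subgroup.centralizer {bc w} ≤ _))).toHomUnits)
    (no_p_in_block H.prime H.notv hw)
  have hc : c ^ 2 = -1 := by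
    have := H.det_one hgM
    rw [det_eq hgz, hl, hpl, det_smul, det_one, Fintype.card_fin] at this
    linear_combination -this
  obtain ⟨a1, a2, a3, a4⟩ := shape_gl hgz
  have e01 := congrFun (congrFun hpl 0) 1
  have e10 := congrFun (congrFun hpl 1) 0
  simp [pl] at e01 e10
  have h01 : g.val 0 1 = 0 := e01.resolve_left hw.two
  have hgb : g ∈ Subgroup.centralizer {bc w} :=
    (bc_shape hw).mpr ⟨h01, by rw [a1, h01], e10, by rw [a2, e10]⟩
  have hdb : dd w ∈ Subgroup.centralizer {bc w} := by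
    refine (bc_shape hw).mpr ⟨?_, ?_, ?_, ?_⟩ <;> simp [val_dd']
  have hsq : g * g = inv2 := by
    refine ext_zc hw.two (mul_mem hgz hgz) inv2_zc ?_ ?_
    · show lvM (⟨g, hgz⟩ * ⟨g, hgz⟩) = _
      rw [map_mul, lv_inv2]; show lv g.val * lv g.val = 1; rw [hl]; ring
    · show plM (⟨g, hgz⟩ * ⟨g, hgz⟩) = _
      rw [map_mul, pl_inv2]; show pl g.val * pl g.val = -1
      rw [hpl, smul_mul_smul_comm, one_mul, ← pow_two, hc, neg_one_smul]
  let G := ↥(M ⊓ Subgroup.centralizer {bc w})
  let x : G := ⟨g, hgM, hgb⟩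
  let d : G := ⟨dd w, H.d_mem, hdb⟩
  have hx4 : x ^ 4 = 1 := Subtype.ext (show g ^ 4 = 1 by
    rw [show g ^ 4 = (g * g) * (g * g) by simp [pow_succ, mul_assoc], hsq, inv2_sq])
  set f := ProjGenLinGroup.mk.comp
    ((bl hw).comp (Subgroup.inclusion (inf_le_right : M ⊓ Subgroup.centralizer {bc w} ≤ _))).toHomUnits
  have key := hgood.1 (f.rangeRestrict x) (f.rangeRestrict (d * x * d⁻¹))
    (by rw [← map_pow, hx4, map_one]) (by rw [← map_pow, conj_pow, hx4, mul_one, mul_inv_cancel, map_one])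
  have key' : f (x * x * ((d * x * d⁻¹) * (d * x * d⁻¹))) = f ((d * x * d⁻¹) * (d * x * d⁻¹) * (x * x)) := by
    have := congrArg Subtype.val key
    simpa only [map_mul, Subgroup.coe_mul, MonoidHom.coe_rangeRestrict] using this
  obtain ⟨k, hk⟩ := ProjGenLinGroup.mk_eq_mk_iff.mp key'
  have hk' := congrArg Units.val hk
  rw [Units.val_mul] at hk'
  set zd : GL (Fin 3) F := dd w * inv2 * (dd w)⁻¹
  have eL : (x * x * ((d * x * d⁻¹) * (d * x * d⁻¹)) : G).1 = inv2 * zd := by
    show g * g * (dd w * g * (dd w)⁻¹ * (dd w * g * (dd w)⁻¹)) = _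
    rw [show dd w * g * (dd w)⁻¹ * (dd w * g * (dd w)⁻¹) = dd w * (g * g) * (dd w)⁻¹ by group, hsq]
  have eR : ((d * x * d⁻¹) * (d * x * d⁻¹) * (x * x) : G).1 = zd * inv2 := by
    show dd w * g * (dd w)⁻¹ * (dd w * g * (dd w)⁻¹) * (g * g) = _
    rw [show dd w * g * (dd w)⁻¹ * (dd w * g * (dd w)⁻¹) = dd w * (g * g) * (dd w)⁻¹ by group, hsq]
  have hzd : zd.val = !![-1, 0, 0; 0, 0, -(w : F) ^ 2; 0, -(w : F), 0] := by
    show (dd w * inv2 * (dd w)⁻¹ : GL (Fin 3) F).val = _
    rw [show (dd w)⁻¹ = dd w * dd w from inv_eq_of_mul_eq_one_right (by rw [← mul_assoc, dd_three hw]),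
      Units.val_mul, Units.val_mul, Units.val_mul, val_dd', val_inv2]
    have := hw.c3
    ext i j
    fin_cases i <;> fin_cases j <;> simp [mul_apply, Fin.sum_univ_three] <;>
      first | ring1 | linear_combination this | linear_combination -this | linear_combination (w : F) * this | linear_combination -(w : F) * this | linear_combination (w : F) ^ 2 * this | linear_combination -(w : F) ^ 2 * this
  have hbl : ∀ y : G, bl hw (Subgroup.inclusion inf_le_right y) = !![y.1.val 1 1, y.1.val 1 2; y.1.val 2 1, y.1.val 2 2] :=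
    fun _ => rfl
  have hk'' : bl hw (Subgroup.inclusion inf_le_right (x * x * ((d * x * d⁻¹) * (d * x * d⁻¹)))) *
      Matrix.scalar (Fin 2) (k : F) =
      bl hw (Subgroup.inclusion inf_le_right ((d * x * d⁻¹) * (d * x * d⁻¹) * (x * x))) := hk'
  rw [hbl, hbl, eL, eR] at hk''
  have f00 := congrFun (congrFun hk'' 0) 0
  have f11 := congrFun (congrFun hk'' 1) 1
  simp [Units.val_mul, hzd, val_inv2, mul_apply, Fin.sum_univ_three, Fin.sum_univ_two] at f00 f11
  have hk2 : (k : F) = (w : F) := by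
    refine mul_left_cancel₀ (pow_ne_zero 1 (Units.ne_zero w)) ?_
    linear_combination f00
  rw [hk2] at f11
  exact hw.c1 (by linear_combination hw.c3 - f11)

/-- An involution commuting with `inv2`, other than it. -/
structure Shp (M : Subgroup (GL (Fin 3) F)) (e : GL (Fin 3) F) : Prop where
  mem : e ∈ M
  cent : e ∈ zc
  sq : e * e = 1
  line : lv e.val = -1

omit H in
/-- An element of the centraliser is fixed by its square. -/
theorem sq_facts {e : GL (Fin 3) F} (he : e ∈ zc) (hsq : e * e = 1) :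
    lv e.val * lv e.val = 1 ∧ pl e.val * pl e.val = 1 := by
  constructor
  · show lvM ⟨e, he⟩ * lvM ⟨e, he⟩ = 1
    rw [← map_mul, show (⟨e, he⟩ : ↥(zc)) * ⟨e, he⟩ = 1 from Subtype.ext hsq, map_one]
  · show plM ⟨e, he⟩ * plM ⟨e, he⟩ = 1
    rw [← map_mul, show (⟨e, he⟩ : ↥(zc)) * ⟨e, he⟩ = 1 from Subtype.ext hsq, map_one]

theorem shp_of {e : GL (Fin 3) F} (hM : e ∈ M) (hz : e * inv2 = inv2 * e) (hsq : e * e = 1) (h1 : e ≠ 1)
    (h2 : e ≠ inv2) : Shp M e := by
  have he : e ∈ zc := mem_zc.mpr hz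
  obtain ⟨hl, hP⟩ := sq_facts he hsq
  refine ⟨hM, he, hsq, (mul_self_eq_one_iff.mp hl).resolve_left fun hl1 => ?_⟩
  have hd : (pl e.val).det = 1 := by
    have := H.det_one hM
    rwa [det_eq he, hl1, one_mul] at this
  have e00 := congrFun (congrFun hP 0) 0
  have e01 := congrFun (congrFun hP 0) 1
  have e10 := congrFun (congrFun hP 1) 0
  have e11 := congrFun (congrFun hP 1) 1
  simp only [mul_apply, Fin.sum_univ_two, one_apply_eq, ne_eq, Fin.isValue, zero_ne_one, one_ne_zero,
    not_false_eq_true, one_apply_ne] at e00 e01 e10 e11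
  rw [det_fin_two] at hd
  set a := pl e.val 0 0
  set b := pl e.val 0 1
  set c := pl e.val 1 0
  set d := pl e.val 1 1
  -- the square and the determinant give `(a + d) a = 2`
  have ht : (a + d) * a = 2 := by linear_combination e00 + hd
  have hne : a + d ≠ 0 := fun h => hw.two (by rw [← ht, h, zero_mul])
  have hb : b = 0 := (mul_eq_zero.mp (show b * (a + d) = 0 by linear_combination e01)).resolve_right hne
  have hc : c = 0 := (mul_eq_zero.mp (show c * (a + d) = 0 by linear_combination e10)).resolve_right hne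
  have ha : a * a = 1 := by linear_combination e00 - c * hb
  have hda : d = a := by linear_combination a * hd + a * c * hb - d * ha
  have hA : pl e.val = a • 1 := by
    ext i j
    fin_cases i <;> fin_cases j <;> simp <;> first | exact hb | exact hc | exact hda | rfl
  rcases mul_self_eq_one_iff.mp ha with h | h
  · exact h1 (ext_zc hw.two he (one_mem _) (by rw [hl1]; simp [lv])
      (by rw [hA, h, one_smul, Units.val_one, pl_one]))
  · exact h2 (ext_zc hw.two he inv2_zc (by rw [hl1, lv_inv2])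
      (by rw [hA, h, neg_one_smul, pl_inv2]))

variable {e : GL (Fin 3) F} (he : Shp M e)
include he

theorem shp_sq : pl e.val * pl e.val = 1 := (sq_facts he.cent he.sq).2

theorem shp_det : (pl e.val).det = -1 := by
  have := H.det_one he.mem
  rw [det_eq he.cent, he.line] at this
  linear_combination -this

theorem shp_not_scalar (c : F) : pl e.val ≠ c • 1 := fun h => no_scalar_plane H he.mem he.cent he.line h

theorem shp_trace : pl e.val 1 1 = -pl e.val 0 0 := by
  have hP := shp_sq H he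
  have hd := shp_det H he
  have e00 := congrFun (congrFun hP 0) 0
  have e01 := congrFun (congrFun hP 0) 1
  have e10 := congrFun (congrFun hP 1) 0
  have e11 := congrFun (congrFun hP 1) 1
  simp only [mul_apply, Fin.sum_univ_two, one_apply_eq, ne_eq, Fin.isValue, zero_ne_one, one_ne_zero,
    not_false_eq_true, one_apply_ne] at e00 e01 e10 e11
  rw [det_fin_two] at hd
  set a := pl e.val 0 0
  set b := pl e.val 0 1
  set c := pl e.val 1 0
  set d := pl e.val 1 1
  by_contra hne
  have hne' : a + d ≠ 0 := fun h => hne (by linear_combination h)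
  have hb : b = 0 := (mul_eq_zero.mp (show b * (a + d) = 0 by linear_combination e01)).resolve_right hne'
  have hc : c = 0 := (mul_eq_zero.mp (show c * (a + d) = 0 by linear_combination e10)).resolve_right hne'
  have ha : a = 0 := (mul_eq_zero.mp (show a * (a + d) = 0 by linear_combination e00 + hd)).resolve_right hne'
  rw [ha, hb] at e00
  simp at e00

/-- Linear independence of `1` and the plane matrix. -/
theorem shp_indep {x y : F} (h : x • (1 : M2) + y • pl e.val = 0) : x = 0 ∧ y = 0 := by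
  by_cases hy : y = 0
  · subst hy
    have := congrFun (congrFun h 0) 0
    simp at this
    exact ⟨this, rfl⟩
  · refine absurd ?_ (shp_not_scalar H he (-(y⁻¹ * x)))
    rw [neg_smul, eq_neg_iff_add_eq_zero, mul_smul, ← inv_smul_smul₀ hy (pl e.val), ← smul_add, add_comm, h,
      smul_zero]

/-- The commutant of the plane matrix. -/
theorem shp_commutant {X : M2} (h : X * pl e.val = pl e.val * X) :
    ∃ x y : F, X = x • (1 : M2) + y • pl e.val := by
  have hP := shp_sq H he
  have ht := shp_trace H he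
  have e00 := congrFun (congrFun hP 0) 0
  have c00 := congrFun (congrFun h 0) 0
  have c01 := congrFun (congrFun h 0) 1
  have c10 := congrFun (congrFun h 1) 0
  simp only [mul_apply, Fin.sum_univ_two, one_apply_eq, ht] at e00 c00 c01 c10
  set p := pl e.val 0 0
  set q := pl e.val 0 1
  set r := pl e.val 1 0
  refine ⟨2⁻¹ * (X 0 0 + X 1 1), 2⁻¹ * (p * (X 0 0 - X 1 1) + q * X 1 0 + r * X 0 1), ?_⟩
  ext i j
  refine mul_left_cancel₀ hw.two ?_
  fin_cases i <;> fin_cases j <;>
    simp [mul_add, ← mul_assoc, mul_inv_cancel₀ hw.two, ht]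
  · linear_combination -(X 0 0 - X 1 1) * e00 + r * c01 + p * c00
  · linear_combination -(2 * X 0 1) * e00 + q * c00 - p * c01
  · linear_combination -(2 * X 1 0) * e00 + p * c10 - r * c00
  · linear_combination (X 0 0 - X 1 1) * e00 - r * c01 - p * c00

omit he in
/-- The four-group in the image. -/
noncomputable def va (H : NoTv hw M) (c : Fˣ) (hc : c ^ 3 = 1) : (toM M).range :=
  (toM M).rangeRestrict ⟨jj hw c, H.j_mem c hc, jj_zc hw c⟩

omit he in
theorem pl_mul {g h : GL (Fin 3) F} (hg : g ∈ zc) (hh : h ∈ zc) : pl (g * h).val = pl g.val * pl h.val :=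
  plM.map_mul ⟨g, hg⟩ ⟨h, hh⟩

omit he in
theorem lv_mul {g h : GL (Fin 3) F} (hg : g ∈ zc) (hh : h ∈ zc) : lv (g * h).val = lv g.val * lv h.val :=
  lvM.map_mul ⟨g, hg⟩ ⟨h, hh⟩

omit he in
theorem pl_jj_sq (c : Fˣ) : pl (jj hw c).val * pl (jj hw c).val = -1 := by
  rw [← pl_mul H (jj_zc hw c) (jj_zc hw c), jj_sq, pl_inv2]

omit he in
theorem va_four : IsFour (va H 1 (one_pow 3)) (va H w hw.cube) ∧
    va H 1 (one_pow 3) * va H w hw.cube =
      va H (w ^ 2) (by rw [← pow_mul, mul_comm, pow_mul, hw.cube, one_pow]) := by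
  have hw2 : (w ^ 2 : Fˣ) ^ 3 = 1 := by rw [← pow_mul, mul_comm, pow_mul, hw.cube, one_pow]
  have hs := hw.sum
  have h3 := hw.c3
  have hi := inv_mul_cancel₀ hw.s_ne
  set σ := ((w : F) - (w : F) ^ 2)⁻¹ with hσ
  have pj : ∀ (c : Fˣ) (hc : c ^ 3 = 1), pl (jj hw c).val = σ • vmat (c : F) := fun c hc => pl_jj hw hc
  have hσ0 : σ ≠ 0 := inv_ne_zero hw.s_ne
  have sq : ∀ (c : Fˣ) (hc : c ^ 3 = 1), va H c hc * va H c hc = 1 := by
    intro c hc
    apply Subtype.ext
    show toM M _ * toM M _ = 1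
    rw [← map_mul, ← map_one (toM M)]
    refine toP_eq (-1) ?_
    show pl (jj hw c * jj hw c).val = ((-1 : Fˣ) : F) • pl (1 : GL (Fin 3) F).val
    rw [jj_sq, pl_inv2, Units.val_one, pl_one, Units.val_neg, Units.val_one, neg_one_smul]
  have prod : ∀ (c d : Fˣ) (hc : c ^ 3 = 1) (hd : d ^ 3 = 1),
      pl (jj hw c * jj hw d).val = (σ * σ) • (vmat (c : F) * vmat (d : F)) := by
    intro c d hc hd
    rw [pl_mul H (jj_zc hw c) (jj_zc hw d), pj c hc, pj d hd, smul_mul_smul_comm]
  have key : vmat (1 : F) * vmat (w : F) = (1 + 2 * (w : F)) • vmat ((w : F) ^ 2) := by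
    ext i j
    fin_cases i <;> fin_cases j <;> simp [vmat, mul_apply, Fin.sum_univ_two] <;> first
      | ring1 | linear_combination (-2 : F) * hs - (2 * (w : F) + 4 * (w : F) ^ 2) * h3 | linear_combination -hs - 2 * h3 | linear_combination (2 : F) * hs
  have key' : vmat (w : F) * vmat (1 : F) = (-1 : F) • (vmat (1 : F) * vmat (w : F)) := by
    ext i j
    fin_cases i <;> fin_cases j <;> simp [vmat, mul_apply, Fin.sum_univ_two] <;> first
      | ring1 | linear_combination (2 : F) * hs | linear_combination (-2 : F) * hs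
  have h12 : (1 : F) + 2 * (w : F) ≠ 0 := fun e => hw.three (by
    linear_combination (4 : F) * hs - (1 + 2 * (w : F)) * e)
  refine ⟨⟨sq _ _, sq _ _, ?_, ?_, ?_, ?_⟩, ?_⟩
  · apply Subtype.ext
    show toM M _ * toM M _ = toM M _ * toM M _
    rw [← map_mul, ← map_mul]
    refine toP_eq (-1) ?_
    show pl (jj hw 1 * jj hw w).val = ((-1 : Fˣ) : F) • pl (jj hw w * jj hw 1).val
    rw [prod _ _ (one_pow 3) hw.cube, prod _ _ hw.cube (one_pow 3), Units.val_one, key', Units.val_neg,
      Units.val_one, smul_smul, smul_smul]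
    congr 1; ring
  · intro e
    obtain ⟨k, hk⟩ := exists_of_toP (F := F) ((congrArg Subtype.val e).trans (map_one (toM M)).symm)
    have hk' : pl (jj hw 1).val = (k : F) • pl (1 : GL (Fin 3) F).val := hk
    rw [pj _ (one_pow 3), Units.val_one, Units.val_one, pl_one] at hk'
    have := congrFun (congrFun hk' 1) 0
    simp [vmat, hσ0] at this
  · intro e
    obtain ⟨k, hk⟩ := exists_of_toP (F := F) ((congrArg Subtype.val e).trans (map_one (toM M)).symm)
    have hk' : pl (jj hw w).val = (k : F) • pl (1 : GL (Fin 3) F).val := hk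
    rw [pj _ hw.cube, Units.val_one, pl_one] at hk'
    have := congrFun (congrFun hk' 1) 0
    simp [vmat, hσ0] at this
  · intro e
    obtain ⟨k, hk⟩ := exists_of_toP (F := F) (congrArg Subtype.val e)
    have hk' : pl (jj hw 1).val = (k : F) • pl (jj hw w).val := hk
    rw [pj _ hw.cube, pj _ (one_pow 3), Units.val_one] at hk'
    have e00 := congrFun (congrFun hk' 0) 0
    have e10 := congrFun (congrFun hk' 1) 0
    simp [vmat] at e00 e10
    exact hw.c1 (mul_left_cancel₀ hσ0 (by linear_combination -e10 + (w : F) * e00))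
  · apply Subtype.ext
    show toM M _ * toM M _ = toM M _
    rw [← map_mul]
    refine toP_eq (Units.mk0 (σ * (1 + 2 * (w : F))) (mul_ne_zero hσ0 h12)) ?_
    show pl (jj hw 1 * jj hw w).val = _ • pl (jj hw (w ^ 2)).val
    rw [prod _ _ (one_pow 3) hw.cube, pj _ hw2, Units.val_one, key, Units.val_pow_eq_pow_val, Units.val_mk0,
      smul_smul, smul_smul]
    congr 1; ring

omit he in
theorem va_cases (v : (toM M).range)
    (hv : v = va H 1 (one_pow 3) ∨ v = va H w hw.cube ∨ v = va H 1 (one_pow 3) * va H w hw.cube) :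
    ∃ (c : Fˣ) (hc : c ^ 3 = 1), v = va H c hc := by
  rcases hv with h | h | h
  · exact ⟨_, _, h⟩
  · exact ⟨_, _, h⟩
  · exact ⟨_, _, h.trans (va_four H).2⟩

/-- The image of a shaped involution. -/
theorem shp_outside : Outside (va H 1 (one_pow 3)) (va H w hw.cube)
    ((toM M).rangeRestrict ⟨e, he.mem, he.cent⟩) := by
  refine ⟨by rw [← map_mul, show (⟨e, he.mem, he.cent⟩ : ↥(M ⊓ zc)) * ⟨e, he.mem, he.cent⟩ = 1 from
    Subtype.ext he.sq, map_one], fun k => ?_⟩
  obtain ⟨⟨g, hgM, hgz⟩, rfl⟩ := (toM M).rangeRestrict_surjective k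
  have e' : Shp M (g * e * g⁻¹) := by
    refine ⟨mul_mem (mul_mem hgM he.mem) (inv_mem hgM), mul_mem (mul_mem hgz he.cent) (inv_mem hgz), ?_, ?_⟩
    · rw [conj_mul, he.sq, mul_one, mul_inv_cancel]
    · rw [lv_mul H (mul_mem hgz he.cent) (inv_mem hgz), lv_mul H hgz he.cent, mul_comm (lv g.val),
        mul_assoc, ← lv_mul H hgz (inv_mem hgz), mul_inv_cancel, he.line]
      simp [lv]
  have e1 : (toM M).rangeRestrict ⟨g, hgM, hgz⟩ * (toM M).rangeRestrict ⟨e, he.mem, he.cent⟩ *
      ((toM M).rangeRestrict ⟨g, hgM, hgz⟩)⁻¹ = (toM M).rangeRestrict ⟨g * e * g⁻¹, e'.mem, e'.cent⟩ := by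
    rw [← map_inv, ← map_mul, ← map_mul]; rfl
  rw [e1]
  have nj : ∀ (c : Fˣ) (hc : c ^ 3 = 1), (toM M).rangeRestrict ⟨g * e * g⁻¹, e'.mem, e'.cent⟩ ≠ va H c hc := by
    intro c hc h
    obtain ⟨k, hk⟩ := exists_of_toP (F := F) (congrArg Subtype.val h)
    have hk' : pl (g * e * g⁻¹).val = (k : F) • pl (jj hw c).val := hk
    refine no_scalar_plane H (mul_mem e'.mem (H.j_mem c hc)) (mul_mem e'.cent (jj_zc hw c)) (c := -(k : F)) ?_ ?_
    · rw [lv_mul H e'.cent (jj_zc hw c), e'.line, lv_jj hw hc, mul_one]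
    · rw [pl_mul H e'.cent (jj_zc hw c), hk', smul_mul_assoc, pl_jj_sq H, smul_neg, neg_smul]
  refine ⟨fun h => ?_, nj _ _, nj _ _, fun h => nj _ _ (h.trans (va_four H).2)⟩
  obtain ⟨k, hk⟩ := exists_of_toP (F := F) ((congrArg Subtype.val h).trans (map_one (toM M)).symm)
  have hk' : pl (g * e * g⁻¹).val = (k : F) • pl (1 : GL (Fin 3) F).val := hk
  rw [Units.val_one, pl_one] at hk'
  exact shp_not_scalar H e' _ hk'

omit he in
theorem good_image : Good (toM M).range :=
  haveI := H.fin
  good_range H.prime (toM M) (no_p_in_centralizer H.prime hw.two H.notv)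

/-- An element commuting with `inv2` and `e` squares to a scalar on the plane. -/
theorem plane_sq {g : GL (Fin 3) F} (hgM : g ∈ M) (hgz : g ∈ zc) (hge : g * e = e * g) :
    ∃ k : F, pl (g * g).val = k • 1 := by
  obtain ⟨h1, -, -, -⟩ := (good_image H).2 _ _ _ (va_four H).1 (shp_outside H he)
  have := h1 ((toM M).rangeRestrict ⟨g, hgM, hgz⟩) (by
    rw [← map_mul, ← map_mul]; exact congrArg _ (Subtype.ext hge))
  rw [← map_mul] at this
  obtain ⟨k, hk⟩ := exists_of_toP (F := F) ((congrArg Subtype.val this).trans (map_one (toM M)).symm)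
  refine ⟨k, ?_⟩
  have hk' : pl (g * g).val = (k : F) • pl (1 : GL (Fin 3) F).val := hk
  rwa [Units.val_one, pl_one] at hk'

/-- The plane part of an element commuting with `inv2` and `e`. -/
theorem plane_cases {g : GL (Fin 3) F} (hgM : g ∈ M) (hgz : g ∈ zc) (hge : g * e = e * g) :
    (∃ k : F, pl g.val = k • 1) ∨ ∃ k : F, pl g.val = k • pl e.val := by
  obtain ⟨k, hk⟩ := plane_sq H he hgM hgz hge
  obtain ⟨x, y, hxy⟩ := shp_commutant H he (X := pl g.val) (by
    rw [← pl_mul H hgz he.cent, hge, pl_mul H he.cent hgz])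
  rw [pl_mul H hgz hgz, hxy] at hk
  have h0 : (x * x + y * y - k) • (1 : M2) + (2 * x * y) • pl e.val = 0 := by
    have hP := shp_sq H he
    rw [← sub_eq_zero] at hk
    rw [← hk, add_mul, mul_add, mul_add, smul_mul_smul_comm, smul_mul_smul_comm, smul_mul_smul_comm,
      smul_mul_smul_comm, one_mul, one_mul, mul_one, hP]
    module
  have h2 := (shp_indep H he h0).2
  rcases mul_eq_zero.mp h2 with h | h
  · exact Or.inr ⟨y, by rw [hxy, (mul_eq_zero.mp h).resolve_left hw.two, zero_smul, zero_add]⟩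
  · exact Or.inl ⟨x, by rw [hxy, h, zero_smul, add_zero]⟩

/-- Lemma B: one of the standard elements exchanges `e` and `inv2 * e`. -/
theorem swap : ∃ c : Fˣ, c ^ 3 = 1 ∧ jj hw c * e * (jj hw c)⁻¹ = inv2 * e := by
  obtain ⟨-, h2, -, -⟩ := (good_image H).2 _ _ _ (va_four H).1 (shp_outside H he)
  obtain ⟨v, hv, hc⟩ : ∃ v, (v = va H 1 (one_pow 3) ∨ v = va H w hw.cube ∨
      v = va H 1 (one_pow 3) * va H w hw.cube) ∧ v * (toM M).rangeRestrict ⟨e, he.mem, he.cent⟩ =
        (toM M).rangeRestrict ⟨e, he.mem, he.cent⟩ * v := by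
    rcases h2 with h | h | h
    · exact ⟨_, Or.inl rfl, h⟩
    · exact ⟨_, Or.inr (Or.inl rfl), h⟩
    · exact ⟨_, Or.inr (Or.inr rfl), h⟩
  obtain ⟨c, hc3, rfl⟩ := va_cases H v hv
  refine ⟨c, hc3, ?_⟩
  rw [va, ← map_mul, ← map_mul] at hc
  obtain ⟨k, hk⟩ := exists_of_toP (F := F) (congrArg Subtype.val hc)
  have hk' : pl (jj hw c * e).val = (k : F) • pl (e * jj hw c).val := hk
  rw [pl_mul H (jj_zc hw c) he.cent, pl_mul H he.cent (jj_zc hw c)] at hk'
  set J := pl (jj hw c).val with hJdef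
  set P := pl e.val with hPdef
  have hP := shp_sq H he
  have hJ : J * J = -1 := pl_jj_sq H c
  have hkk : (k : F) * k = 1 := by
    have e3 : -P = ((k : F) * k) • -P := by
      calc -P = J * (J * P) := by rw [← mul_assoc, hJ, neg_mul, one_mul]
        _ = (k : F) • (J * P * J) := by rw [hk', Matrix.mul_smul, ← mul_assoc, hk']
        _ = ((k : F) * k) • -P := by rw [hk', smul_mul_assoc, smul_smul, mul_assoc, hJ, mul_neg, mul_one]
    have h0 : (0 : F) • (1 : M2) + ((k : F) * k - 1) • P = 0 := by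
      rw [smul_neg, neg_inj] at e3
      rw [zero_smul, zero_add, sub_smul, one_smul, ← e3, sub_self]
    exact sub_eq_zero.mp (shp_indep H he h0).2
  rcases mul_self_eq_one_iff.mp hkk with h | h
  · exfalso
    rw [h, one_smul] at hk'
    obtain ⟨x, y, hxy⟩ := shp_commutant H he (X := J) hk'
    have htr : J 0 0 + J 1 1 = 0 := by
      rw [hJdef, pl_jj hw hc3]
      simp [vmat]
    rw [hxy] at htr
    simp [shp_trace H he] at htr
    have hx : x = 0 := mul_left_cancel₀ hw.two (by linear_combination htr)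
    rw [hx, zero_smul, zero_add] at hxy
    have hy : y ≠ 0 := by
      rintro rfl
      rw [zero_smul] at hxy
      rw [hxy, mul_zero] at hJ
      simpa using congrFun (congrFun hJ 0) 0
    obtain ⟨-, hn⟩ := shp_outside H he
    obtain ⟨q1, q2, q3, q4⟩ := hn 1
    simp only [one_mul, inv_one, mul_one] at q1 q2 q3 q4
    have hx' : (toM M).rangeRestrict ⟨e, he.mem, he.cent⟩ = va H c hc3 := by
      apply Subtype.ext
      refine toP_eq (Units.mk0 y⁻¹ (inv_ne_zero hy)) ?_
      show P = y⁻¹ • J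
      rw [hxy, smul_smul, inv_mul_cancel₀ hy, one_smul]
    rcases hv with h' | h' | h'
    · exact q2 (hx'.trans h')
    · exact q3 (hx'.trans h')
    · exact q4 (hx'.trans h')
  · rw [h, neg_one_smul] at hk'
    refine ext_zc hw.two (mul_mem (mul_mem (jj_zc hw c) he.cent) (inv_mem (jj_zc hw c)))
      (mul_mem inv2_zc he.cent) ?_ ?_
    · rw [lv_mul H (mul_mem (jj_zc hw c) he.cent) (inv_mem (jj_zc hw c)), lv_mul H (jj_zc hw c) he.cent,
        mul_comm (lv (jj hw c).val), mul_assoc, ← lv_mul H (jj_zc hw c) (inv_mem (jj_zc hw c)), mul_inv_cancel,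
        lv_mul H inv2_zc he.cent, lv_inv2]
      simp [lv]
    · rw [pl_mul H (mul_mem (jj_zc hw c) he.cent) (inv_mem (jj_zc hw c)), pl_mul H (jj_zc hw c) he.cent, hk',
        neg_mul, mul_assoc, ← pl_mul H (jj_zc hw c) (inv_mem (jj_zc hw c)), mul_inv_cancel, Units.val_one,
        pl_one, mul_one, pl_mul H inv2_zc he.cent, pl_inv2, neg_one_mul]

/-- Lemma C. -/
theorem conj_shp {e' : GL (Fin 3) F} (he' : Shp M e') :
    ∃ g ∈ M, g ∈ zc ∧ (g * e * g⁻¹ = e' ∨ g * e * g⁻¹ = inv2 * e') := by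
  obtain ⟨-, -, h3, -⟩ := (good_image H).2 _ _ _ (va_four H).1 (shp_outside H he)
  obtain ⟨y, hy⟩ := h3 _ (shp_outside H he')
  obtain ⟨⟨g, hgM, hgz⟩, rfl⟩ := (toM M).rangeRestrict_surjective y
  rw [← map_inv, ← map_mul, ← map_mul] at hy
  obtain ⟨k, hk⟩ := exists_of_toP (F := F) (congrArg Subtype.val hy)
  have hk' : pl (g * e * g⁻¹).val = (k : F) • pl e'.val := hk
  have hz : g * e * g⁻¹ ∈ zc := mul_mem (mul_mem hgz he.cent) (inv_mem hgz)
  have hl : lv (g * e * g⁻¹).val = -1 := by
    rw [lv_mul H (mul_mem hgz he.cent) (inv_mem hgz), lv_mul H hgz he.cent, mul_comm (lv g.val),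
      mul_assoc, ← lv_mul H hgz (inv_mem hgz), mul_inv_cancel, he.line]
    simp [lv]
  have hkk : (k : F) * k = 1 := by
    have hsq : pl (g * e * g⁻¹).val * pl (g * e * g⁻¹).val = 1 := by
      rw [← pl_mul H hz hz, conj_mul, he.sq, mul_one, mul_inv_cancel, Units.val_one, pl_one]
    rw [hk', smul_mul_smul_comm, shp_sq H he'] at hsq
    simpa using congrFun (congrFun hsq 0) 0
  refine ⟨g, hgM, hgz, ?_⟩
  rcases mul_self_eq_one_iff.mp hkk with h | h
  · exact Or.inl (ext_zc hw.two hz he'.cent (by rw [hl, he'.line]) (by rw [hk', h, one_smul]))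
  · refine Or.inr (ext_zc hw.two hz (mul_mem inv2_zc he'.cent) ?_ ?_)
    · rw [hl, lv_mul H inv2_zc he'.cent, lv_inv2, he'.line, one_mul]
    · rw [hk', h, pl_mul H inv2_zc he'.cent, pl_inv2, neg_one_smul, neg_one_mul]

/-- Lemma A: the common centraliser of `inv2` and a conjugate `e` of it. -/
theorem four {h : GL (Fin 3) F} (hh : h ∈ M) (heh : e = h * inv2 * h⁻¹) {g : GL (Fin 3) F} (hgM : g ∈ M)
    (hgz : g ∈ zc) (hge : g * e = e * g) : ∃ t : F, t ^ 3 = 1 ∧ (g.val = t • 1 ∨
      g.val = t • (inv2 : GL (Fin 3) F).val ∨ g.val = t • e.val ∨ g.val = t • (inv2 * e).val) := by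
  have hze : e * inv2 = inv2 * e := mem_zc.mp he.cent
  -- reduction to a scalar on the plane
  have scal : ∀ q ∈ M, q ∈ zc → q * e = e * q → ∀ k : F, pl q.val = k • 1 →
      ∃ t : F, q.val = t • 1 ∨ q.val = t • (inv2 : GL (Fin 3) F).val := by
    intro q hq hqz hqe k hk
    have hz' : Shp M (h⁻¹ * inv2 * h) := by
      refine shp_of H (mul_mem (mul_mem (inv_mem hh) H.z_mem) hh) ?_ ?_ ?_ ?_
      · calc h⁻¹ * inv2 * h * inv2 = h⁻¹ * (inv2 * (h * inv2 * h⁻¹)) * h := by group
          _ = h⁻¹ * ((h * inv2 * h⁻¹) * inv2) * h := by rw [← heh, hze]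
          _ = inv2 * (h⁻¹ * inv2 * h) := by group
      · rw [show h⁻¹ * inv2 * h * (h⁻¹ * inv2 * h) = h⁻¹ * (inv2 * inv2) * h by group, inv2_sq]; group
      · intro q1
        apply shp_not_scalar H he (-1)
        have : (inv2 : GL (Fin 3) F) = 1 := by
          calc (inv2 : GL (Fin 3) F) = h * (h⁻¹ * inv2 * h) * h⁻¹ := by group
            _ = 1 := by rw [q1]; group
        rw [heh, this, mul_one, mul_inv_cancel, Units.val_one, pl_one, neg_one_smul]
        exfalso
        have := congrArg (fun x : GL (Fin 3) F => x.val 0 0) this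
        simp [val_inv2] at this
        exact hw.two (by linear_combination -this)
      · intro q1
        have : e = inv2 := by
          rw [heh]
          calc h * inv2 * h⁻¹ = h * (h⁻¹ * inv2 * h) * h⁻¹ := by rw [q1]
            _ = inv2 := by group
        have hl := he.line
        rw [this, lv_inv2] at hl
        exact hw.two (by linear_combination hl)
    set α := 2⁻¹ * (lv q.val + k)
    set β := 2⁻¹ * (lv q.val - k)
    have hq2 : q.val = α • (1 : M3) + β • (inv2 : GL (Fin 3) F).val := by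
      obtain ⟨a1, a2, a3, a4⟩ := shape_gl hqz
      have f00 := congrFun (congrFun hk 0) 0
      have f01 := congrFun (congrFun hk 0) 1
      have f10 := congrFun (congrFun hk 1) 0
      have f11 := congrFun (congrFun hk 1) 1
      simp [pl] at f00 f01 f10 f11
      have g01 := f01.resolve_left hw.two
      ext i j
      refine mul_left_cancel₀ hw.two ?_
      fin_cases i <;> fin_cases j <;>
        simp [α, β, lv, val_inv2, a1, a2, a3, a4, g01, f10, f00, mul_add, ← mul_assoc, mul_inv_cancel₀ hw.two] <;>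
        first | linear_combination f11 | linear_combination -f11 | ring1
    set q' := h⁻¹ * q * h
    have hq'z : q' ∈ zc := mem_zc.mpr (by
      calc h⁻¹ * q * h * inv2 = h⁻¹ * (q * (h * inv2 * h⁻¹)) * h := by group
        _ = h⁻¹ * ((h * inv2 * h⁻¹) * q) * h := by rw [← heh, hqe]
        _ = inv2 * (h⁻¹ * q * h) := by group)
    have hq'e : q' * (h⁻¹ * inv2 * h) = h⁻¹ * inv2 * h * q' := by
      calc h⁻¹ * q * h * (h⁻¹ * inv2 * h) = h⁻¹ * (q * inv2) * h := by group
        _ = h⁻¹ * (inv2 * q) * h := by rw [mem_zc.mp hqz]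
        _ = h⁻¹ * inv2 * h * (h⁻¹ * q * h) := by group
    have hq'v : q'.val = α • (1 : M3) + β • (h⁻¹ * inv2 * h).val := by
      simp only [q', Units.val_mul, hq2, mul_add, add_mul, Matrix.mul_smul, Matrix.smul_mul, mul_one]
      rw [← Units.val_mul, inv_mul_cancel, Units.val_one]
    have hpq : pl q'.val = α • (1 : M2) + β • pl (h⁻¹ * inv2 * h).val := by
      rw [hq'v]
      ext i j
      fin_cases i <;> fin_cases j <;> simp [pl] <;> ring
    have hb : α = 0 ∨ β = 0 := by
      rcases plane_cases H hz' (mul_mem (mul_mem (inv_mem hh) hq) hh) hq'z hq'e with ⟨m, hm⟩ | ⟨m, hm⟩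
      · refine Or.inr (shp_indep H hz' (x := α - m) ?_).2
        rw [sub_smul, ← hm, hpq]; abel
      · refine Or.inl (shp_indep H hz' (y := β - m) ?_).1
        rw [sub_smul, ← hm, hpq]; abel
    rcases hb with h0 | h0
    · exact ⟨β, Or.inr (by rw [hq2, h0, zero_smul, zero_add])⟩
    · exact ⟨α, Or.inl (by rw [hq2, h0, zero_smul, add_zero])⟩
  obtain ⟨t, ht⟩ : ∃ t : F, g.val = t • 1 ∨ g.val = t • (inv2 : GL (Fin 3) F).val ∨ g.val = t • e.val ∨
      g.val = t • (inv2 * e).val := by
    rcases plane_cases H he hgM hgz hge with ⟨k, hk⟩ | ⟨k, hk⟩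
    · obtain ⟨t, h1 | h1⟩ := scal g hgM hgz hge k hk
      · exact ⟨t, Or.inl h1⟩
      · exact ⟨t, Or.inr (Or.inl h1)⟩
    · have back : g.val = (g * e).val * e.val := by rw [← Units.val_mul, mul_assoc, he.sq, mul_one]
      obtain ⟨t, h1 | h1⟩ := scal (g * e) (mul_mem hgM he.mem) (mul_mem hgz he.cent)
        (by rw [mul_assoc, ← mul_assoc e, ← hge, mul_assoc]) k (by
          rw [pl_mul H hgz he.cent, hk, smul_mul_assoc, shp_sq H he])
      · exact ⟨t, Or.inr (Or.inr (Or.inl (by rw [back, h1, smul_mul_assoc, one_mul])))⟩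
      · exact ⟨t, Or.inr (Or.inr (Or.inr (by rw [back, h1, smul_mul_assoc, ← Units.val_mul])))⟩
  refine ⟨t, ?_, ht⟩
  have hd := H.det_one hgM
  rcases ht with h1 | h1 | h1 | h1 <;> rw [h1, det_smul, Fintype.card_fin] at hd
  · rwa [det_one, mul_one] at hd
  · rwa [H.det_one H.z_mem, mul_one] at hd
  · rwa [H.det_one he.mem, mul_one] at hd
  · rwa [H.det_one (mul_mem H.z_mem he.mem), mul_one] at hd

end Cfsg.Agent.Hessian85
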