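import Cfsg.Agent.Lib.Hessian85Plane

/-!
An overgroup in degree three over a prime field with a transvection contains the special linear group.
-/

set_option autoImplicit false

namespace Cfsg.Agent.Hessian85

open Matrix
open Cfsg.Agent.HeisenbergThree (dg dg_val cyc inv2 sc sc_val)
open Cfsg.Agent.TransvectionMax (tv tv_act tv_add tv_inv tv_zero_right gl_ext mul_act inv_act_act act_inv_act
  specialLinear_le)

variable {F : Type*} [Field F]

local notation "V3" => Fin 3 → F

theorem tv_smul_left (v f : V3) (h : f ⬝ᵥ v = 0) (c : F) : tv (c • v) f = tv v (c • f) := by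
  refine gl_ext fun x => ?_
  rw [tv_act (by rw [dotProduct_smul, h, smul_zero]), tv_act (by rw [smul_dotProduct, h, smul_zero]),
    smul_dotProduct, smul_smul, smul_eq_mul, mul_comm c]

theorem tv_add_left (v w f : V3) (h : f ⬝ᵥ v = 0) (h' : f ⬝ᵥ w = 0) :
    tv v f * tv w f = tv (v + w) f := by
  refine gl_ext fun x => ?_
  rw [mul_act, tv_act h, tv_act h', tv_act (by rw [dotProduct_add, h, h', add_zero]), dotProduct_add,
    dotProduct_smul, h', smul_zero, add_zero, smul_add]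
  abel

theorem tv_conj (g : GL (Fin 3) F) {v f : V3} (h : f ⬝ᵥ v = 0) :
    (f ᵥ* ((g⁻¹ : GL (Fin 3) F) : Matrix (Fin 3) (Fin 3) F)) ⬝ᵥ ((g : Matrix (Fin 3) (Fin 3) F) *ᵥ v) = 0 ∧
    g * tv v f * g⁻¹ =
      tv ((g : Matrix (Fin 3) (Fin 3) F) *ᵥ v) (f ᵥ* ((g⁻¹ : GL (Fin 3) F) : Matrix (Fin 3) (Fin 3) F)) := by
  have h0 : (f ᵥ* ((g⁻¹ : GL (Fin 3) F) : Matrix (Fin 3) (Fin 3) F)) ⬝ᵥ
      ((g : Matrix (Fin 3) (Fin 3) F) *ᵥ v) = 0 := by
    rw [← dotProduct_mulVec, inv_act_act, h]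
  refine ⟨h0, gl_ext fun x => ?_⟩
  rw [mul_act, mul_act, tv_act h, tv_act h0, mulVec_add, act_inv_act, mulVec_smul, ← dotProduct_mulVec]

/-- A nonzero invariant subspace of the standard group is everything. -/
theorem invariant_top {w : Fˣ} (hw : Omega w) (W : Submodule F V3)
    (hd : ∀ x ∈ W, (dd w).val *ᵥ x ∈ W) (hc : ∀ x ∈ W, (cyc : GL (Fin 3) F).val *ᵥ x ∈ W)
    {x : V3} (hx : x ∈ W) (hx0 : x ≠ 0) : W = ⊤ := by
  have h3 := hw.c3
  have hs := hw.sum
  have proj : ∀ (y : V3), y ∈ W → ∀ j : Fin 3, (3 * y j) • (Pi.single j (1 : F) : V3) ∈ W := by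
    intro y hy j
    have e : (3 * y j) • (Pi.single j (1 : F) : V3) =
        y + ((w : F) ^ (j : ℕ)) ^ 2 • ((dd w).val *ᵥ y) +
          (w : F) ^ (j : ℕ) • ((dd w).val *ᵥ ((dd w).val *ᵥ y)) := by
      funext i
      simp only [val_dd, mulVec_diagonal, Pi.add_apply, Pi.smul_apply, smul_eq_mul]
      fin_cases j <;> fin_cases i <;> simp <;>
        first
          | linear_combination (0 : F) * h3
          | linear_combination -(y 0) * hs
          | linear_combination -(y 1) * hs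
          | linear_combination -(y 2) * hs
          | linear_combination -(y 1) * hs - (y 1 * (w : F)) * h3
          | linear_combination -(y 2) * hs - (y 2 * (w : F)) * h3
          | linear_combination -(y 0) * hs - (y 0 * (w : F)) * h3
          | linear_combination -(2 * y 1) * h3
          | linear_combination -(2 * y 2 * ((w : F) ^ 3 + 1)) * h3
          | linear_combination -(y 1) * hs - (y 1 * ((w : F) + (w : F) ^ 2)) * h3
          | linear_combination -(y 2) * hs - (y 2 * ((w : F) + (w : F) ^ 2)) * h3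
          | linear_combination -(y 2) * hs - (y 2 * ((w : F) + (w : F) ^ 2 + (w : F) ^ 3)) * h3
    rw [e]
    exact add_mem (add_mem hy (W.smul_mem _ (hd y hy))) (W.smul_mem _ (hd _ (hd y hy)))
  obtain ⟨j, hj⟩ := Function.ne_iff.mp hx0
  have hej : (Pi.single j (1 : F) : V3) ∈ W := by
    have := W.smul_mem (3 * x j)⁻¹ (proj x hx j)
    rwa [smul_smul, inv_mul_cancel₀ (mul_ne_zero hw.three hj), one_smul] at this
  have step : ∀ i : Fin 3, (Pi.single i (1 : F) : V3) ∈ W → (Pi.single (i + 1) (1 : F) : V3) ∈ W := by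
    intro i hi
    have e : (cyc : GL (Fin 3) F).val *ᵥ (Pi.single i (1 : F) : V3) = Pi.single (i + 1) 1 := by
      funext k
      rw [mulVec_single_one]
      fin_cases i <;> fin_cases k <;> simp [val_cyc]
    exact e ▸ hc _ hi
  have all : ∀ i : Fin 3, (Pi.single i (1 : F) : V3) ∈ W := by
    have h1 := step j hej
    have h2 := step _ h1
    intro i
    rcases (show i = j ∨ i = j + 1 ∨ i = j + 1 + 1 by omega) with rfl | rfl | rfl
    exacts [hej, h1, h2]
  refine Submodule.eq_top_iff'.mpr fun y => ?_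
  rw [pi_eq_sum_univ' y]
  exact Submodule.sum_mem _ fun i _ => W.smul_mem _ (all i)

variable [Fintype F]

/-- Independent covectors cut out at most a line. -/
theorem line_of_two {f g : V3} (hf : f ≠ 0) (hg : ∀ c : F, g ≠ c • f) {u v : V3} (hu : u ≠ 0)
    (h1 : f ⬝ᵥ u = 0) (h2 : g ⬝ᵥ u = 0) (h3 : f ⬝ᵥ v = 0) (h4 : g ⬝ᵥ v = 0) : ∃ c : F, v = c • u := by
  let L : V3 →ₗ[F] F × F :=
    { toFun := fun x => (f ⬝ᵥ x, g ⬝ᵥ x)
      map_add' := fun a b => by simp [dotProduct_add]
      map_smul' := fun c a => by simp [dotProduct_smul] }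
  have hli : LinearIndependent F ![f, g] := (LinearIndependent.pair_iff' hf).mpr fun c h => hg c h.symm
  have hsurj : Function.Surjective L := by
    rw [← LinearMap.range_eq_top]
    by_contra hne
    obtain ⟨φ, hφ0, hφ⟩ := Submodule.exists_le_ker_of_lt_top _ (lt_top_iff_ne_top.mpr hne)
    have key : ∀ x, φ (1, 0) * (f ⬝ᵥ x) + φ (0, 1) * (g ⬝ᵥ x) = 0 := fun x => by
      have := LinearMap.mem_ker.mp (hφ ⟨x, rfl⟩)
      rw [show L x = (f ⬝ᵥ x) • ((1 : F), (0 : F)) + (g ⬝ᵥ x) • ((0 : F), (1 : F)) by simp [L]] at this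
      rw [map_add, map_smul, map_smul, smul_eq_mul, smul_eq_mul] at this
      linear_combination this
    have h0 : φ (1, 0) • f + φ (0, 1) • g = 0 := by
      funext i
      have := key (Pi.single i 1)
      simpa using this
    obtain ⟨a, b⟩ := LinearIndependent.pair_iff.mp hli _ _ h0
    refine hφ0 (LinearMap.ext fun ⟨s, t⟩ => ?_)
    rw [show ((s, t) : F × F) = s • ((1 : F), (0 : F)) + t • ((0 : F), (1 : F)) by simp, map_add, map_smul,
      map_smul, a, b]
    simp
  have hk : Module.finrank F (LinearMap.ker L) = 1 := by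
    have := L.finrank_range_add_finrank_ker
    rw [LinearMap.range_eq_top.mpr hsurj, finrank_top, Module.finrank_prod, Module.finrank_self,
      Module.finrank_fin_fun] at this
    omega
  have hmem : ∀ x, f ⬝ᵥ x = 0 → g ⬝ᵥ x = 0 → x ∈ LinearMap.ker L := fun x a b => by
    simp [L, a, b]
  obtain ⟨c, hc⟩ := (finrank_eq_one_iff_of_nonzero' (⟨u, hmem u h1 h2⟩ : LinearMap.ker L)
    (fun e => hu (congrArg Subtype.val e))).mp hk ⟨v, hmem v h3 h4⟩
  exact ⟨c, (congrArg Subtype.val hc).symm⟩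

theorem sl_le_of_hasTv {w : Fˣ} {hw : Omega w} {M : Subgroup (GL (Fin 3) F)} (H : Over hw M)
    (hp : (Nat.card F).Prime) (ht : HasTv M) : Cfsg.Geo.specialLinear (Fin 3) F ≤ M := by
  classical
  haveI : Fact (Nat.card F).Prime := ⟨hp⟩
  have mult : ∀ {v f : V3}, f ⬝ᵥ v = 0 → tv v f ∈ M → ∀ c : F, tv v (c • f) ∈ M := by
    intro v f h hm c
    let S : AddSubgroup F :=
      { carrier := {c | tv v (c • f) ∈ M}
        add_mem' := fun {a b} ha hb => by
          show tv v ((a + b) • f) ∈ M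
          rw [add_smul, ← tv_add (by rw [smul_dotProduct, h, smul_zero]) (by rw [smul_dotProduct, h, smul_zero])]
          exact mul_mem ha hb
        zero_mem' := by show tv v ((0 : F) • f) ∈ M; rw [zero_smul, tv_zero_right]; exact one_mem _
        neg_mem' := fun {a} ha => by
          show tv v (-a • f) ∈ M
          rw [neg_smul, ← tv_inv (by rw [smul_dotProduct, h, smul_zero])]
          exact inv_mem ha }
    have h1 : (1 : F) ∈ S := by show tv v ((1 : F) • f) ∈ M; rwa [one_smul]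
    have hS : S = ⊤ := by
      refine (S.eq_bot_or_eq_top_of_prime_card).resolve_left fun e => one_ne_zero (α := F) ?_
      simpa [e] using h1
    exact (show c ∈ S from hS ▸ AddSubgroup.mem_top c)
  let Full : V3 → Prop := fun v => ∀ f, f ⬝ᵥ v = 0 → tv v f ∈ M
  have full_conj : ∀ g ∈ M, ∀ v, Full v → Full (g.val *ᵥ v) := by
    intro g hg v hv f hf
    have h0 : (f ᵥ* g.val) ⬝ᵥ v = 0 := by rw [← dotProduct_mulVec, hf]
    have := mul_mem (mul_mem hg (hv _ h0)) (inv_mem hg)
    rw [(tv_conj g h0).2, vecMul_vecMul, ← Units.val_mul, mul_inv_cancel, Units.val_one, vecMul_one] at this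
    exact this
  -- two transvections, the centre of the first on the axis of the second
  have gen : ∀ {v₁ f₁ v₂ f₂ : V3}, v₁ ≠ 0 → f₁ ≠ 0 → f₁ ⬝ᵥ v₁ = 0 → tv v₁ f₁ ∈ M → f₂ ⬝ᵥ v₂ = 0 →
      tv v₂ f₂ ∈ M → v₂ ≠ 0 → (∀ c : F, f₂ ≠ c • f₁) → f₂ ⬝ᵥ v₁ = 0 → Full v₁ := by
    intro v₁ f₁ v₂ f₂ hv₁ hf₁ h₁ m₁ h₂ m₂ hv₂ hind h21
    have m12 : tv v₁ f₂ ∈ M := by
      by_cases h12 : f₁ ⬝ᵥ v₂ = 0
      · obtain ⟨c, rfl⟩ := line_of_two hf₁ hind hv₁ h₁ h21 h12 h₂
        have hc : c ≠ 0 := fun e => hv₂ (by rw [e, zero_smul])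
        have := mult (f := c • f₂) (v := v₁) (by rw [smul_dotProduct, h21, smul_zero])
          (by rwa [← tv_smul_left v₁ f₂ h21]) c⁻¹
        rwa [smul_smul, inv_mul_cancel₀ hc, one_smul] at this
      · set a := f₁ ⬝ᵥ v₂
        obtain ⟨hd, hconj⟩ := tv_conj (tv v₁ f₁) h₂
        have e1 : (tv v₁ f₁).val *ᵥ v₂ = v₂ + a • v₁ := tv_act h₁ v₂
        have e2 : f₂ ᵥ* ((tv v₁ f₁)⁻¹ : GL (Fin 3) F).val = f₂ := by
          funext i
          have := dotProduct_mulVec f₂ ((tv v₁ f₁)⁻¹ : GL (Fin 3) F).val (Pi.single i 1)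
          rw [tv_inv h₁, tv_act (by rw [neg_dotProduct, h₁, neg_zero]), dotProduct_add, dotProduct_smul,
            h21, smul_zero, add_zero] at this
          rw [tv_inv h₁]
          simpa using this.symm
        have m3 := mul_mem (mul_mem (mul_mem m₁ m₂) (inv_mem m₁)) (inv_mem m₂)
        rw [hconj, e1, e2, tv_inv h₂] at m3
        have hav : f₂ ⬝ᵥ (v₂ + a • v₁) = 0 := by rw [dotProduct_add, dotProduct_smul, h₂, h21]; simp
        have e3 : tv v₂ (-f₂) = tv (-v₂) f₂ := by
          rw [← neg_one_smul F f₂, ← tv_smul_left v₂ f₂ h₂, neg_one_smul]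
        rw [e3, tv_add_left _ _ _ hav (by rw [dotProduct_neg, h₂, neg_zero]),
          show v₂ + a • v₁ + -v₂ = a • v₁ by abel, tv_smul_left v₁ f₂ h21] at m3
        have := mult (f := a • f₂) (by rw [smul_dotProduct, h21, smul_zero]) m3 a⁻¹
        rwa [smul_smul, inv_mul_cancel₀ h12, one_smul] at this
    intro f hf
    -- every covector killing the centre is a combination
    let P : V3 →ₗ[F] F := { toFun := fun x => x ⬝ᵥ v₁, map_add' := fun a b => add_dotProduct a b v₁,
                            map_smul' := fun c a => smul_dotProduct c a v₁ }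
    have hP : LinearMap.range P = ⊤ := by
      obtain ⟨j, hj⟩ := Function.ne_iff.mp hv₁
      refine LinearMap.range_eq_top.mpr fun c => ⟨Pi.single j (c / v₁ j), ?_⟩
      show Pi.single j (c / v₁ j) ⬝ᵥ v₁ = c
      rw [single_dotProduct, div_mul_cancel₀ c hj]
    have hk : Module.finrank F (LinearMap.ker P) = 2 := by
      have := P.finrank_range_add_finrank_ker
      rw [hP, finrank_top, Module.finrank_self, Module.finrank_fin_fun] at this
      omega
    have hli : LinearIndependent F ![f₁, f₂] := (LinearIndependent.pair_iff' hf₁).mpr fun c h => hind c h.symm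
    have hsp : Submodule.span F (Set.range ![f₁, f₂]) = LinearMap.ker P := by
      refine Submodule.eq_of_le_of_finrank_eq (Submodule.span_le.mpr ?_) ?_
      · rintro _ ⟨i, rfl⟩
        fin_cases i
        · exact h₁
        · exact h21
      · rw [finrank_span_eq_card hli, hk, Fintype.card_fin]
    have hfm : f ∈ Submodule.span F (Set.range ![f₁, f₂]) := hsp ▸ hf
    rw [Matrix.range_cons, Matrix.range_cons, Matrix.range_empty, Set.union_empty,
      show ({f₁} ∪ {f₂} : Set V3) = {f₁, f₂} from rfl, Submodule.mem_span_pair] at hfm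
    obtain ⟨s, t, rfl⟩ := hfm
    rw [← tv_add (by rw [smul_dotProduct, h₁, smul_zero]) (by rw [smul_dotProduct, h21, smul_zero])]
    exact mul_mem (mult h₁ m₁ s) (mult h21 m12 t)
  -- some full centre
  obtain ⟨v₀, hv₀, hfull⟩ : ∃ v, v ≠ 0 ∧ Full v := by
    obtain ⟨v₁, f₁, hv₁, hf₁, h₁, m₁⟩ := ht
    let A : Set V3 := {f | ∃ v, v ≠ 0 ∧ f ⬝ᵥ v = 0 ∧ tv v f ∈ M}
    let W : Submodule F V3 :=
      { carrier := {x | ∀ f ∈ A, f ⬝ᵥ x = 0}
        add_mem' := fun {a b} ha hb f hf => by rw [dotProduct_add, ha f hf, hb f hf, add_zero]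
        zero_mem' := fun f _ => dotProduct_zero f
        smul_mem' := fun c x hx f hf => by rw [dotProduct_smul, hx f hf, smul_zero] }
    have hWinv : ∀ g ∈ M, ∀ x ∈ W, g.val *ᵥ x ∈ W := by
      rintro g hg x hx f ⟨v, hv, hfv, hm⟩
      rw [dotProduct_mulVec]
      refine hx _ ⟨((g⁻¹ : GL (Fin 3) F).val) *ᵥ v, fun e => hv ?_, ?_, ?_⟩
      · rw [← act_inv_act g v, e, mulVec_zero]
      · rw [← dotProduct_mulVec, act_inv_act, hfv]
      · have := mul_mem (mul_mem (inv_mem hg) hm) hg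
        have e := (tv_conj g⁻¹ hfv).2
        rw [inv_inv] at e
        rwa [e] at this
    have hno : ∀ x, x ∈ W → x = 0 := fun x hx => by
      by_contra hx0
      have hW := invariant_top hw W (hWinv _ H.d_mem) (hWinv _ H.c_mem) hx hx0
      refine hf₁ (funext fun i => ?_)
      have h := (show (Pi.single i 1 : V3) ∈ W from hW ▸ Submodule.mem_top) f₁ ⟨v₁, hv₁, h₁, m₁⟩
      rwa [dotProduct_single, mul_one] at h
    have perp2 : ∀ g g' : V3, ∃ x, x ≠ 0 ∧ g ⬝ᵥ x = 0 ∧ g' ⬝ᵥ x = 0 := by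
      intro g g'
      let L : V3 →ₗ[F] F × F :=
        { toFun := fun x => (g ⬝ᵥ x, g' ⬝ᵥ x)
          map_add' := fun a b => by simp [dotProduct_add]
          map_smul' := fun c a => by simp [dotProduct_smul] }
      obtain ⟨x, hx, hx0⟩ := Submodule.exists_mem_ne_zero_of_ne_bot
        (LinearMap.ker_ne_bot_of_finrank_lt (f := L) (by
          rw [Module.finrank_prod, Module.finrank_self, Module.finrank_fin_fun]; omega))
      rw [LinearMap.mem_ker] at hx
      exact ⟨x, hx0, congrArg Prod.fst hx, congrArg Prod.snd hx⟩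
    obtain ⟨f₂, v₂, hv₂, h₂, m₂, hi2⟩ : ∃ f₂ v₂, v₂ ≠ 0 ∧ f₂ ⬝ᵥ v₂ = 0 ∧ tv v₂ f₂ ∈ M ∧
        ∀ c : F, f₂ ≠ c • f₁ := by
      by_contra hc
      push Not at hc
      obtain ⟨x, hx0, hx, -⟩ := perp2 f₁ f₁
      refine hx0 (hno x ?_)
      rintro f ⟨v, hv, hfv, hm⟩
      obtain ⟨c, rfl⟩ := hc f v hv hfv hm
      rw [smul_dotProduct, hx, smul_zero]
    by_cases h21 : f₂ ⬝ᵥ v₁ = 0
    · exact ⟨v₁, hv₁, gen hv₁ hf₁ h₁ m₁ h₂ m₂ hv₂ hi2 h21⟩
    obtain ⟨f₃, v₃, hv₃, h₃, m₃, hi3⟩ : ∃ f₃ v₃, v₃ ≠ 0 ∧ f₃ ⬝ᵥ v₃ = 0 ∧ tv v₃ f₃ ∈ M ∧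
        ∀ a b : F, f₃ ≠ a • f₁ + b • f₂ := by
      by_contra hc
      push Not at hc
      obtain ⟨x, hx0, hx, hx'⟩ := perp2 f₁ f₂
      refine hx0 (hno x ?_)
      rintro f ⟨v, hv, hfv, hm⟩
      obtain ⟨a, b, rfl⟩ := hc f v hv hfv hm
      rw [add_dotProduct, smul_dotProduct, smul_dotProduct, hx, hx', smul_zero, smul_zero, add_zero]
    have hf₂ : f₂ ≠ 0 := fun e => hi2 0 (by rw [e, zero_smul])
    have hi32 : ∀ c : F, f₃ ≠ c • f₂ := fun c e => hi3 0 c (by rw [e, zero_smul, zero_add])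
    by_cases h32 : f₃ ⬝ᵥ v₂ = 0
    · exact ⟨v₂, hv₂, gen hv₂ hf₂ h₂ m₂ h₃ m₃ hv₃ hi32 h32⟩
    -- move the first transvection
    set μ : F := -(f₃ ⬝ᵥ v₁) / ((f₂ ⬝ᵥ v₁) * (f₃ ⬝ᵥ v₂)) with hμ
    have hμ2 : (μ • f₂) ⬝ᵥ v₂ = 0 := by rw [smul_dotProduct, h₂, smul_zero]
    obtain ⟨hd, hconj⟩ := tv_conj (tv v₂ (μ • f₂)) h₁
    have mg := mult h₂ m₂ μ
    have m1' := mul_mem (mul_mem mg m₁) (inv_mem mg)
    rw [hconj] at m1'
    set v' := (tv v₂ (μ • f₂)).val *ᵥ v₁ with hv'
    set f' := f₁ ᵥ* ((tv v₂ (μ • f₂))⁻¹ : GL (Fin 3) F).val with hf'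
    have ev : v' = v₁ + (μ * (f₂ ⬝ᵥ v₁)) • v₂ := by
      rw [hv', tv_act hμ2, smul_dotProduct, smul_eq_mul]
    have ef : f' = f₁ + (-(μ * (f₁ ⬝ᵥ v₂))) • f₂ := by
      funext i
      have := dotProduct_mulVec f₁ ((tv v₂ (μ • f₂))⁻¹ : GL (Fin 3) F).val (Pi.single i 1)
      rw [← hf', tv_inv hμ2, tv_act (by rw [neg_dotProduct, hμ2, neg_zero]), dotProduct_add,
        dotProduct_smul, dotProduct_single, dotProduct_single] at this
      simp at this
      rw [← this]
      simp
      ring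
    have hv'0 : v' ≠ 0 := fun e => hv₁ (by
      have := congrArg (fun x => ((tv v₂ (μ • f₂))⁻¹ : GL (Fin 3) F).val *ᵥ x) e
      simpa [hv', inv_act_act] using this)
    have hf'0 : f' ≠ 0 := fun e => by
      rw [ef] at e
      by_cases hz : μ * (f₁ ⬝ᵥ v₂) = 0
      · exact hf₁ (by simpa [hz] using e)
      · refine hi2 (μ * (f₁ ⬝ᵥ v₂))⁻¹ ?_
        rw [neg_smul, add_neg_eq_zero] at e
        exact ((inv_smul_eq_iff₀ hz).mpr e).symm
    refine ⟨v', hv'0, gen hv'0 hf'0 hd m1' h₃ m₃ hv₃ (fun c e => hi3 c (c * -(μ * (f₁ ⬝ᵥ v₂))) ?_) ?_⟩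
    · rw [e, ef, smul_add, smul_smul]
    · rw [ev, dotProduct_add, dotProduct_smul, smul_eq_mul, hμ]
      field_simp
      ring
  -- every centre is full
  have join : ∀ x y : V3, x ≠ 0 → (∀ c : F, y ≠ c • x) → Full x → Full y → ∀ c : F, Full (y + c • x) := by
    intro x y hx hind fx fy c
    obtain ⟨f, hfx, hfy⟩ : ∃ f : V3, f ⬝ᵥ x = 0 ∧ f ⬝ᵥ y = c := by
      let L : V3 →ₗ[F] F × F :=
        { toFun := fun f => (f ⬝ᵥ x, f ⬝ᵥ y)
          map_add' := fun a b => by simp [add_dotProduct]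
          map_smul' := fun c a => by simp [smul_dotProduct] }
      suffices h : ((0 : F), (1 : F)) ∈ LinearMap.range L by
        obtain ⟨f, hf⟩ := h
        simp [L, Prod.ext_iff] at hf
        exact ⟨c • f, by rw [smul_dotProduct, hf.1, smul_zero], by rw [smul_dotProduct, hf.2, smul_eq_mul, mul_one]⟩
      obtain ⟨f, hfx, hfy⟩ : ∃ f : V3, f ⬝ᵥ x = 0 ∧ f ⬝ᵥ y ≠ 0 := by
        obtain ⟨j, hj⟩ := Function.ne_iff.mp hx
        by_contra hc
        push Not at hc
        refine hind (y j / x j) (funext fun i => ?_)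
        have := hc (Pi.single i (x j) - Pi.single j (x i)) (by simp [sub_dotProduct]; ring)
        simp [sub_dotProduct] at this
        have hj' : x j ≠ 0 := hj
        show y i = y j / x j * x i
        rw [div_mul_eq_mul_div, eq_div_iff hj']
        linear_combination this
      exact ⟨(f ⬝ᵥ y)⁻¹ • f, by simp [L, hfx, hfy]⟩
    have := full_conj _ (fx f hfx) y fy
    rwa [tv_act hfx, hfy] at this
  let S : Submodule F V3 :=
    { carrier := {v | Full v}
      zero_mem' := fun f _ => by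
        have : tv (0 : V3) f = 1 := gl_ext fun x => by
          rw [tv_act (dotProduct_zero f), smul_zero, add_zero, Units.val_one, one_mulVec]
        rw [this]; exact one_mem M
      add_mem' := fun {a b} ha hb => by
        by_cases hb0 : b = 0
        · rwa [hb0, add_zero]
        by_cases hab : ∃ c : F, a = c • b
        · obtain ⟨c, rfl⟩ := hab
          intro f hf
          rw [show c • b + b = (c + 1) • b by rw [add_smul, one_smul]] at hf ⊢
          by_cases hc : c + 1 = 0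
          · rw [hc, zero_smul, ← smul_zero (0 : F), tv_smul_left _ _ (dotProduct_zero f), zero_smul,
              tv_zero_right]
            exact one_mem M
          · rw [dotProduct_smul] at hf
            have hfb : f ⬝ᵥ b = 0 := (smul_eq_zero.mp hf).resolve_left hc
            rw [tv_smul_left b f hfb]
            exact mult hfb (hb f hfb) _
        · push Not at hab
          simpa using join b a hb0 hab hb ha 1
      smul_mem' := fun c x hx f hf => by
        by_cases hc : c = 0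
        · rw [hc, zero_smul, ← smul_zero (0 : F), tv_smul_left _ _ (dotProduct_zero f), zero_smul,
            tv_zero_right]
          exact one_mem M
        · rw [dotProduct_smul] at hf
          have hfx : f ⬝ᵥ x = 0 := (smul_eq_zero.mp hf).resolve_left hc
          rw [tv_smul_left x f hfx]
          exact mult hfx (hx f hfx) _ }
  have hS : S = ⊤ := invariant_top hw S (fun x hx => full_conj _ H.d_mem x hx)
    (fun x hx => full_conj _ H.c_mem x hx) hfull hv₀
  exact specialLinear_le fun v f hf => (show v ∈ S from hS ▸ Submodule.mem_top) f hf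

end Cfsg.Agent.Hessian85
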