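import Cfsg.Prelude.Def_SporadicCombinatorics

/-!
The hexacode over a field of order 4, computed in a model with `Fin 4` standing for 0, 1, ω, ω².
-/

set_option autoImplicit false

namespace Cfsg.Agent.Hexacode

open Cfsg

/-- Addition table. -/
def add4 (x y : Fin 4) : Fin 4 :=
  ![![0, 1, 2, 3], ![1, 0, 3, 2], ![2, 3, 0, 1], ![3, 2, 1, 0]] x y

/-- Multiplication table. -/
def mul4 (x y : Fin 4) : Fin 4 :=
  ![![0, 0, 0, 0], ![0, 1, 2, 3], ![0, 2, 3, 1], ![0, 3, 1, 2]] x y

/-- Systematic encoding of a hexacode word by its first three entries. -/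
def word4 (v : Fin 4 × Fin 4 × Fin 4) : Fin 6 → Fin 4 :=
  ![v.1, v.2.1, v.2.2, add4 (add4 v.1 v.2.1) v.2.2,
    add4 (add4 (mul4 3 v.1) (mul4 2 v.2.1)) v.2.2,
    add4 (add4 (mul4 2 v.1) (mul4 3 v.2.1)) v.2.2]

/-- The three systematic basis words. -/
def unit4 : Fin 3 → Fin 6 → Fin 4 := ![word4 (1, 0, 0), word4 (0, 1, 0), word4 (0, 0, 1)]

/-- The three defining words. -/
def gen4 : Fin 3 → Fin 6 → Fin 4 :=
  ![![2, 3, 3, 2, 3, 2], ![3, 2, 2, 3, 3, 2], ![3, 2, 3, 2, 2, 3]]

/-- Coefficients of the systematic basis words on the defining words. -/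
def unitCoeff : Fin 3 → Fin 4 × Fin 4 × Fin 4 := ![(2, 3, 0), (3, 3, 1), (0, 1, 1)]

variable {F : Type*} [Field F] (ω : F)

/-- The embedding of the model into the field. -/
def phi : Fin 4 → F := ![0, 1, ω, ω ^ 2]

variable [Fintype F]

theorem two_eq_zero (hF : Fintype.card F = 4) : (2 : F) = 0 := by
  have h4 : ((Fintype.card F : ℕ) : F) = 0 := FiniteField.cast_card_eq_zero F
  rw [hF] at h4
  have h : (2 : F) ^ 2 = 0 := by
    push_cast at h4
    linear_combination h4
  exact eq_zero_of_pow_eq_zero h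

variable {ω}

theorem omega_cube (hω : ω ^ 2 + ω + 1 = 0) : ω ^ 3 = 1 := by
  linear_combination (ω - 1) * hω

theorem omega_ne (hF : Fintype.card F = 4) (hω : ω ^ 2 + ω + 1 = 0) : ω ≠ 0 ∧ ω ≠ 1 := by
  refine ⟨fun h => ?_, fun h => ?_⟩
  · rw [h] at hω; simp at hω
  · rw [h] at hω
    exact one_ne_zero (α := F) (by linear_combination hω - two_eq_zero hF)

theorem phi_bijective (hF : Fintype.card F = 4) (hω : ω ^ 2 + ω + 1 = 0) :
    Function.Bijective (phi ω) := by
  obtain ⟨h0, h1⟩ := omega_ne hF hω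
  have h3 := omega_cube hω
  have hsq0 : ω ^ 2 ≠ 0 := pow_ne_zero 2 h0
  have hsq1 : ω ^ 2 ≠ 1 := fun h => h1 (by linear_combination h3 - ω * h)
  have hsqw : ω ^ 2 ≠ ω := fun h => h1 (mul_left_cancel₀ h0 (by linear_combination h))
  rw [Fintype.bijective_iff_injective_and_card]
  refine ⟨?_, by rw [hF, Fintype.card_fin]⟩
  intro i j hij
  fin_cases i <;> fin_cases j <;>
    first
      | rfl
      | exact absurd hij h0
      | exact absurd hij one_ne_zero
      | exact absurd hij.symm one_ne_zero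
      | exact absurd hij.symm h0
      | exact absurd hij h1
      | exact absurd hij.symm h1
      | exact absurd hij hsq0
      | exact absurd hij.symm hsq0
      | exact absurd hij hsq1
      | exact absurd hij.symm hsq1
      | exact absurd hij hsqw
      | exact absurd hij.symm hsqw

theorem phi_add (hF : Fintype.card F = 4) (hω : ω ^ 2 + ω + 1 = 0) (x y : Fin 4) :
    phi ω (add4 x y) = phi ω x + phi ω y := by
  have h2 := two_eq_zero hF
  fin_cases x <;> fin_cases y <;> simp [phi, add4] <;>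
    first
      | linear_combination (-1 : F) * h2
      | linear_combination -ω * h2
      | linear_combination -ω ^ 2 * h2
      | linear_combination hω - (1 + ω) * h2
      | linear_combination hω - (1 + ω ^ 2) * h2
      | linear_combination hω - (ω + ω ^ 2) * h2

theorem phi_mul (hω : ω ^ 2 + ω + 1 = 0) (x y : Fin 4) :
    phi ω (mul4 x y) = phi ω x * phi ω y := by
  have h3 := omega_cube hω
  fin_cases x <;> fin_cases y <;> simp [phi, mul4] <;>
    first
      | ring1
      | linear_combination -h3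
      | linear_combination -ω * h3

omit [Fintype F] in
theorem comb_apply {v : Fin 6 → F} (a b c : F) (u₁ u₂ u₃ : Fin 6 → F)
    (h : ∀ i, v i = a * u₁ i + b * u₂ i + c * u₃ i) : v = a • u₁ + b • u₂ + c • u₃ := by
  funext i
  simp [h i]

variable (ω)

/-- A word of the model moved into the field. -/
def toF (y : Fin 6 → Fin 4) : Fin 6 → F := fun i => phi ω (y i)

omit [Fintype F] in
theorem hexacode_eq_span :
    hexacode F ω = Submodule.span F (Set.range fun k : Fin 3 => toF ω (gen4 k)) := by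
  have h : ∀ k : Fin 3, toF ω (gen4 k) =
      (![![ω, ω ^ 2, ω ^ 2, ω, ω ^ 2, ω], ![ω ^ 2, ω, ω, ω ^ 2, ω ^ 2, ω],
        ![ω ^ 2, ω, ω ^ 2, ω, ω, ω ^ 2]] : Fin 3 → Fin 6 → F) k := by
    intro k
    funext i
    fin_cases k <;> fin_cases i <;> rfl
  rw [hexacode]
  congr 1
  ext x
  simp only [Set.mem_insert_iff, Set.mem_singleton_iff, Set.mem_range, h]
  constructor
  · rintro (rfl | rfl | rfl)
    exacts [⟨0, rfl⟩, ⟨1, rfl⟩, ⟨2, rfl⟩]
  · rintro ⟨k, rfl⟩
    fin_cases k
    exacts [Or.inl rfl, Or.inr (Or.inl rfl), Or.inr (Or.inr rfl)]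

variable {ω}

theorem toF_word4 (hF : Fintype.card F = 4) (hω : ω ^ 2 + ω + 1 = 0) (v : Fin 4 × Fin 4 × Fin 4) :
    toF ω (word4 v) = phi ω v.1 • toF ω (unit4 0) + phi ω v.2.1 • toF ω (unit4 1)
      + phi ω v.2.2 • toF ω (unit4 2) := by
  have h : ∀ v i, word4 v i =
      add4 (add4 (mul4 v.1 (unit4 0 i)) (mul4 v.2.1 (unit4 1 i))) (mul4 v.2.2 (unit4 2 i)) := by
    decide +kernel
  apply comb_apply
  intro i
  simp only [toF, h v i, phi_add hF hω, phi_mul hω]

theorem mem_iff (hF : Fintype.card F = 4) (hω : ω ^ 2 + ω + 1 = 0) (x : Fin 6 → F) :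
    x ∈ hexacode F ω ↔ ∃ v, toF ω (word4 v) = x := by
  rw [hexacode_eq_span]
  constructor
  · intro hx
    induction hx using Submodule.span_induction with
    | mem y hy =>
      obtain ⟨k, rfl⟩ := hy
      refine ⟨(gen4 k 0, gen4 k 1, gen4 k 2), ?_⟩
      congr 1
      revert k
      decide +kernel
    | zero =>
      refine ⟨(0, 0, 0), ?_⟩
      funext i
      fin_cases i <;> rfl
    | add a b _ _ ha hb =>
      obtain ⟨u, rfl⟩ := ha
      obtain ⟨w, rfl⟩ := hb
      refine ⟨(add4 u.1 w.1, add4 u.2.1 w.2.1, add4 u.2.2 w.2.2), ?_⟩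
      funext i
      have h : ∀ u w i, word4 (add4 u.1 w.1, add4 u.2.1 w.2.1, add4 u.2.2 w.2.2) i
          = add4 (word4 u i) (word4 w i) := by decide +kernel
      simp only [Pi.add_apply, toF, h, phi_add hF hω]
    | smul r a _ ha =>
      obtain ⟨u, rfl⟩ := ha
      obtain ⟨t, rfl⟩ := (phi_bijective hF hω).2 r
      refine ⟨(mul4 t u.1, mul4 t u.2.1, mul4 t u.2.2), ?_⟩
      funext i
      have h : ∀ t u i, word4 (mul4 t u.1, mul4 t u.2.1, mul4 t u.2.2) i
          = mul4 t (word4 u i) := by decide +kernel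
      simp only [Pi.smul_apply, smul_eq_mul, toF, h, phi_mul hω]
  · rintro ⟨v, rfl⟩
    rw [toF_word4 hF hω]
    have hu : ∀ k, toF ω (unit4 k) ∈ Submodule.span F (Set.range fun j : Fin 3 => toF ω (gen4 j)) := by
      intro k
      have h : ∀ k i, unit4 k i = add4 (add4 (mul4 (unitCoeff k).1 (gen4 0 i))
          (mul4 (unitCoeff k).2.1 (gen4 1 i))) (mul4 (unitCoeff k).2.2 (gen4 2 i)) := by
        decide +kernel
      have hc : toF ω (unit4 k) = phi ω (unitCoeff k).1 • toF ω (gen4 0)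
          + phi ω (unitCoeff k).2.1 • toF ω (gen4 1) + phi ω (unitCoeff k).2.2 • toF ω (gen4 2) := by
        apply comb_apply
        intro i
        simp only [toF, h k i, phi_add hF hω, phi_mul hω]
      rw [hc]
      exact add_mem (add_mem (Submodule.smul_mem _ _ (Submodule.subset_span ⟨0, rfl⟩))
        (Submodule.smul_mem _ _ (Submodule.subset_span ⟨1, rfl⟩)))
        (Submodule.smul_mem _ _ (Submodule.subset_span ⟨2, rfl⟩))
    exact add_mem (add_mem (Submodule.smul_mem _ _ (hu 0)) (Submodule.smul_mem _ _ (hu 1)))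
      (Submodule.smul_mem _ _ (hu 2))

theorem toF_word4_injective (hF : Fintype.card F = 4) (hω : ω ^ 2 + ω + 1 = 0) :
    Function.Injective fun v => toF ω (word4 v) := by
  intro u v h
  have hi : ∀ i, word4 u i = word4 v i := fun i => (phi_bijective hF hω).1 (congrFun h i)
  exact Prod.ext (hi 0) (Prod.ext (hi 1) (hi 2))

/-- Model of a scalar: `Fin 3` for the nonzero elements. -/
def nz (a : Fin 3) : Fin 4 := a.succ

/-- A monomial map in the model preserves the code. -/
def Pres4 (σ : Equiv.Perm (Fin 6)) (c : Fin 6 → Fin 3) : Prop :=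
  ∀ k : Fin 3, ∀ i : Fin 6,
    word4 (mul4 (nz (c 0)) (unit4 k (σ.symm 0)), mul4 (nz (c 1)) (unit4 k (σ.symm 1)),
      mul4 (nz (c 2)) (unit4 k (σ.symm 2))) i = mul4 (nz (c i)) (unit4 k (σ.symm i))

instance pres4Decidable (σ : Equiv.Perm (Fin 6)) (c : Fin 6 → Fin 3) : Decidable (Pres4 σ c) := by
  unfold Pres4; infer_instance

/-- The scalar tuples with first entry one. -/
def tup (p : Fin 3 × Fin 3 × Fin 3 × Fin 3 × Fin 3) : Fin 6 → Fin 3 :=
  ![0, p.1, p.2.1, p.2.2.1, p.2.2.2.1, p.2.2.2.2]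

theorem pres4_const (p : Fin 3 × Fin 3 × Fin 3 × Fin 3 × Fin 3) (h : Pres4 1 (tup p)) :
    p = (0, 0, 0, 0, 0) := by
  revert p; decide +kernel

theorem swap_pairs (x y : Fin 6) (hxy : x ≠ y) :
    (∃ p, Pres4 (Equiv.swap x y * Equiv.swap 0 1) (tup p)) ∧
      ∃ p, Pres4 (Equiv.swap 0 1 * Equiv.swap x y) (tup p) := by
  revert x y; decide +kernel

theorem swap_not_liftable (p : Fin 3 × Fin 3 × Fin 3 × Fin 3 × Fin 3) :
    ¬ Pres4 (Equiv.swap 0 1) (tup p) := by
  revert p; decide +kernel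

theorem phi_nz_ne (hF : Fintype.card F = 4) (hω : ω ^ 2 + ω + 1 = 0) (a : Fin 3) :
    phi ω (nz a) ≠ 0 := by
  intro h
  exact Fin.succ_ne_zero a ((phi_bijective hF hω).1 (show phi ω (nz a) = phi ω 0 from h))

/-- The unit attached to a model scalar. -/
noncomputable def unitOf (hF : Fintype.card F = 4) (hω : ω ^ 2 + ω + 1 = 0) (a : Fin 3) : Fˣ :=
  Units.mk0 _ (phi_nz_ne hF hω a)

theorem unitOf_surjective (hF : Fintype.card F = 4) (hω : ω ^ 2 + ω + 1 = 0) :
    Function.Surjective (unitOf hF hω) := by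
  intro u
  obtain ⟨t, ht⟩ := (phi_bijective hF hω).2 (u : F)
  have ht0 : t ≠ 0 := by
    rintro rfl
    exact u.ne_zero ht.symm
  obtain ⟨a, rfl⟩ := Fin.exists_succ_eq.mpr ht0
  exact ⟨a, Units.ext ht⟩

theorem pres_iff (hF : Fintype.card F = 4) (hω : ω ^ 2 + ω + 1 = 0) (σ : Equiv.Perm (Fin 6))
    (c : Fin 6 → Fin 3) :
    (∀ x ∈ hexacode F ω, monomialMap σ (fun i => unitOf hF hω (c i)) x ∈ hexacode F ω)
      ↔ Pres4 σ c := by
  have hmon : ∀ y : Fin 6 → Fin 4, monomialMap σ (fun i => unitOf hF hω (c i)) (toF ω y)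
      = toF ω (fun i => mul4 (nz (c i)) (y (σ.symm i))) := by
    intro y
    funext i
    simp only [monomialMap, toF, unitOf, Units.val_mk0, phi_mul hω]
  have hu : ∀ k, toF ω (unit4 k) ∈ hexacode F ω := fun k => (mem_iff hF hω _).mpr
    ⟨(unit4 k 0, unit4 k 1, unit4 k 2), congrArg _ (funext (by revert k; decide +kernel))⟩
  constructor
  · intro h k i
    obtain ⟨v, hv⟩ := (mem_iff hF hω _).mp (h _ (hu k))
    rw [hmon] at hv
    have hi : ∀ j, word4 v j = mul4 (nz (c j)) (unit4 k (σ.symm j)) := fun j =>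
      (phi_bijective hF hω).1 (congrFun hv j)
    rw [← hi i, ← hi 0, ← hi 1, ← hi 2]
    rfl
  · intro h x hx
    have hk : ∀ k, monomialMap σ (fun i => unitOf hF hω (c i)) (toF ω (unit4 k)) ∈ hexacode F ω :=
      fun k => (mem_iff hF hω _).mpr ⟨_, (congrArg (toF ω) (funext (h k))).trans (hmon _).symm⟩
    obtain ⟨v, rfl⟩ := (mem_iff hF hω x).mp hx
    rw [toF_word4 hF hω]
    have hlin : ∀ (a b d : F) (u₁ u₂ u₃ : Fin 6 → F),
        monomialMap σ (fun i => unitOf hF hω (c i)) (a • u₁ + b • u₂ + d • u₃)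
          = a • monomialMap σ (fun i => unitOf hF hω (c i)) u₁
          + b • monomialMap σ (fun i => unitOf hF hω (c i)) u₂
          + d • monomialMap σ (fun i => unitOf hF hω (c i)) u₃ := by
      intro a b d u₁ u₂ u₃
      funext i
      simp only [monomialMap, Pi.add_apply, Pi.smul_apply, smul_eq_mul]
      ring
    rw [hlin]
    exact add_mem (add_mem (Submodule.smul_mem _ _ (hk 0)) (Submodule.smul_mem _ _ (hk 1)))
      (Submodule.smul_mem _ _ (hk 2))

end Cfsg.Agent.Hexacode
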