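import Mathlib
import Cfsg.Agent.Lib.EngelClass65

/-!
2-groups with an automorphism of order three without fixed points and a central four-group `V`:
normal forms for the two nonabelian types of order 64 and the homocyclic case.
-/

set_option autoImplicit false

namespace Cfsg.Agent.HigmanFour65

open Cfsg.Agent.EngelClass65
open scoped commutatorElement

/-! ### normal forms -/

abbrev E2 := Bool × Bool

def add (a b : E2) : E2 := (xor a.1 b.1, xor a.2 b.2)

def sc (t : Bool) (a : E2) : E2 := (t && a.1, t && a.2)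

abbrev Crd := E2 × E2 × E2

def zero : Crd := ((false, false), (false, false), (false, false))

structure Par where
  q1 : E2
  q2 : E2
  q3 : E2
  q4 : E2
  d13 : E2
  d14 : E2
  d23 : E2
  d24 : E2

namespace Par

variable (P : Par)

def sx1 (u : Crd) : Crd :=
  ((!u.1.1, u.1.2), u.2.1, add u.2.2 (add (sc u.1.1 P.q1) (add (sc u.2.1.1 P.d13) (sc u.2.1.2 P.d14))))

def sx2 (u : Crd) : Crd :=
  ((u.1.1, !u.1.2), u.2.1, add u.2.2 (add (sc u.1.2 P.q2) (add (sc u.2.1.1 P.d23) (sc u.2.1.2 P.d24))))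

def sy1 (u : Crd) : Crd := (u.1, (!u.2.1.1, u.2.1.2), add u.2.2 (sc u.2.1.1 P.q3))

def sy2 (u : Crd) : Crd := (u.1, (u.2.1.1, !u.2.1.2), add u.2.2 (sc u.2.1.2 P.q4))

def iff' (t : Bool) (f : Crd → Crd) (u : Crd) : Crd := if t then f u else u

def addE (e : E2) (u : Crd) : Crd := (u.1, u.2.1, add u.2.2 e)

def mulC (a b : Crd) : Crd :=
  addE b.2.2 (iff' b.2.1.2 P.sy2 (iff' b.2.1.1 P.sy1 (iff' b.1.2 P.sx2 (iff' b.1.1 P.sx1 a))))

def invC (b : Crd) : Crd :=
  iff' b.1.1 (fun u => addE P.q1 (P.sx1 u)) (iff' b.1.2 (fun u => addE P.q2 (P.sx2 u))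
    (iff' b.2.1.1 (fun u => addE P.q3 (P.sy1 u)) (iff' b.2.1.2 (fun u => addE P.q4 (P.sy2 u))
      (addE b.2.2 zero))))

end Par

/-- the parameters of the Sylow subgroups of `L_3(4)` -/
def PL : Par :=
  ⟨(false, false), (false, false), (false, false), (false, false),
    (true, false), (true, true), (true, true), (false, true)⟩

/-- the parameters of the Sylow subgroups of `U_3(4)` -/
def PU : Par :=
  ⟨(true, false), (false, true), (true, false), (false, true),
    (false, true), (true, false), (true, false), (true, true)⟩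

theorem cancel_PL : ∀ a b : Crd, PL.mulC a (PL.invC b) = zero → a = b := by decide +kernel

theorem cancel_PU : ∀ a b : Crd, PU.mulC a (PU.invC b) = zero → a = b := by decide +kernel

variable {T : Type*} [Group T]

/-- `g` or `1` -/
def pw (g : T) (t : Bool) : T := if t then g else 1

theorem pw_true (g : T) : pw g true = g := rfl
theorem pw_false (g : T) : pw g false = 1 := rfl

/-- generators with the relations given by `P` -/
structure Data (P : Par) (T : Type*) [Group T] where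
  x1 : T
  x2 : T
  y1 : T
  y2 : T
  v : T
  w : T
  cv : ∀ g : T, g * v = v * g
  cw : ∀ g : T, g * w = w * g
  v2 : v * v = 1
  w2 : w * w = 1
  hx : x2 * x1 = x1 * x2
  hy : y2 * y1 = y1 * y2
  hq1 : x1 * x1 = pw v P.q1.1 * pw w P.q1.2
  hq2 : x2 * x2 = pw v P.q2.1 * pw w P.q2.2
  hq3 : y1 * y1 = pw v P.q3.1 * pw w P.q3.2
  hq4 : y2 * y2 = pw v P.q4.1 * pw w P.q4.2
  h13 : y1 * x1 = x1 * y1 * (pw v P.d13.1 * pw w P.d13.2)
  h14 : y2 * x1 = x1 * y2 * (pw v P.d14.1 * pw w P.d14.2)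
  h23 : y1 * x2 = x2 * y1 * (pw v P.d23.1 * pw w P.d23.2)
  h24 : y2 * x2 = x2 * y2 * (pw v P.d24.1 * pw w P.d24.2)

namespace Data

variable {P : Par} (D : Data P T)

def ev (e : E2) : T := pw D.v e.1 * pw D.w e.2

theorem ev_comm (e : E2) (g : T) : g * D.ev e = D.ev e * g := by
  obtain ⟨a, b⟩ := e
  have c1 : Commute g (pw D.v a) := by
    cases a
    · exact Commute.one_right g
    · exact D.cv g
  have c2 : Commute g (pw D.w b) := by
    cases b
    · exact Commute.one_right g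
    · exact D.cw g
  exact (c1.mul_right c2).eq

theorem ev_zero : D.ev (false, false) = 1 := by simp [ev, pw]

theorem ev_add (a b : E2) : D.ev a * D.ev b = D.ev (add a b) := by
  have hvw : D.w * D.v = D.v * D.w := D.cv D.w
  have key : ∀ s t : Bool, pw D.v s * pw D.v t = pw D.v (xor s t) := by
    intro s t; cases s <;> cases t <;> simp [pw, D.v2]
  have key2 : ∀ s t : Bool, pw D.w s * pw D.w t = pw D.w (xor s t) := by
    intro s t; cases s <;> cases t <;> simp [pw, D.w2]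
  have c : Commute (pw D.w a.2) (pw D.v b.1) := by
    cases a.2 <;> cases b.1 <;>
      first
        | exact Commute.one_left _
        | exact Commute.one_right _
        | exact hvw
  show pw D.v a.1 * pw D.w a.2 * (pw D.v b.1 * pw D.w b.2) = _
  rw [show pw D.v a.1 * pw D.w a.2 * (pw D.v b.1 * pw D.w b.2) =
      pw D.v a.1 * (pw D.w a.2 * pw D.v b.1) * pw D.w b.2 by group, c.eq]
  rw [show pw D.v a.1 * (pw D.v b.1 * pw D.w a.2) * pw D.w b.2 =
      (pw D.v a.1 * pw D.v b.1) * (pw D.w a.2 * pw D.w b.2) by group, key, key2]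
  rfl

/-- the normal form -/
def nf (u : Crd) : T :=
  pw D.x1 u.1.1 * pw D.x2 u.1.2 * (pw D.y1 u.2.1.1 * pw D.y2 u.2.1.2) * D.ev u.2.2

theorem nf_zero : D.nf zero = 1 := by simp [nf, zero, pw, ev]

theorem nf_addE (u : Crd) (e : E2) : D.nf u * D.ev e = D.nf (Par.addE e u) := by
  simp only [nf, Par.addE]
  rw [mul_assoc, D.ev_add]

theorem pw_step (g : T) (q : E2) (hq : g * g = D.ev q) (t : Bool) :
    pw g t * g = pw g (!t) * D.ev (sc t q) := by
  cases t
  · show 1 * g = g * D.ev (false, false)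
    rw [ev_zero, one_mul, mul_one]
  · show g * g = 1 * D.ev (true && q.1, true && q.2)
    rw [one_mul, Bool.true_and, Bool.true_and, hq]

theorem pw_swap (g h : T) (d : E2) (hd : g * h = h * g * D.ev d) (t : Bool) :
    pw g t * h = h * pw g t * D.ev (sc t d) := by
  cases t
  · show 1 * h = h * 1 * D.ev (false, false)
    rw [ev_zero, one_mul, mul_one, mul_one]
  · show g * h = h * g * D.ev (true && d.1, true && d.2)
    rw [Bool.true_and, Bool.true_and, hd]

theorem nf_sy2 (u : Crd) : D.nf u * D.y2 = D.nf (P.sy2 u) := by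
  obtain ⟨⟨i, j⟩, ⟨k, l⟩, e⟩ := u
  simp only [nf, Par.sy2]
  calc pw D.x1 i * pw D.x2 j * (pw D.y1 k * pw D.y2 l) * D.ev e * D.y2
      = pw D.x1 i * pw D.x2 j * (pw D.y1 k * (pw D.y2 l * D.y2)) * D.ev e := by
        rw [mul_assoc _ (D.ev e), ← D.ev_comm e D.y2]; group
    _ = pw D.x1 i * pw D.x2 j * (pw D.y1 k * pw D.y2 (!l)) * (D.ev (sc l P.q4) * D.ev e) := by
        rw [D.pw_step _ _ D.hq4]; group
    _ = _ := by rw [← D.ev_comm (sc l P.q4) (D.ev e), D.ev_add]

theorem nf_sy1 (u : Crd) : D.nf u * D.y1 = D.nf (P.sy1 u) := by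
  obtain ⟨⟨i, j⟩, ⟨k, l⟩, e⟩ := u
  simp only [nf, Par.sy1]
  have hl : Commute (pw D.y2 l) D.y1 := by
    cases l
    · exact Commute.one_left _
    · exact D.hy
  calc pw D.x1 i * pw D.x2 j * (pw D.y1 k * pw D.y2 l) * D.ev e * D.y1
      = pw D.x1 i * pw D.x2 j * (pw D.y1 k * (pw D.y2 l * D.y1)) * D.ev e := by
        rw [mul_assoc _ (D.ev e), ← D.ev_comm e D.y1]; group
    _ = pw D.x1 i * pw D.x2 j * ((pw D.y1 k * D.y1) * pw D.y2 l) * D.ev e := by
        rw [hl.eq]; group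
    _ = pw D.x1 i * pw D.x2 j * (pw D.y1 (!k) * (D.ev (sc k P.q3) * pw D.y2 l)) * D.ev e := by
        rw [D.pw_step _ _ D.hq3]; group
    _ = pw D.x1 i * pw D.x2 j * (pw D.y1 (!k) * pw D.y2 l) * (D.ev (sc k P.q3) * D.ev e) := by
        rw [← D.ev_comm (sc k P.q3) (pw D.y2 l)]; group
    _ = _ := by rw [← D.ev_comm (sc k P.q3) (D.ev e), D.ev_add]

theorem nf_sx2 (u : Crd) : D.nf u * D.x2 = D.nf (P.sx2 u) := by
  obtain ⟨⟨i, j⟩, ⟨k, l⟩, e⟩ := u
  simp only [nf, Par.sx2]
  have h1 := D.pw_swap _ _ P.d23 D.h23 k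
  have h2 := D.pw_swap _ _ P.d24 D.h24 l
  calc pw D.x1 i * pw D.x2 j * (pw D.y1 k * pw D.y2 l) * D.ev e * D.x2
      = pw D.x1 i * pw D.x2 j * (pw D.y1 k * (pw D.y2 l * D.x2)) * D.ev e := by
        rw [mul_assoc _ (D.ev e), ← D.ev_comm e D.x2]; group
    _ = pw D.x1 i * pw D.x2 j * ((pw D.y1 k * D.x2) * pw D.y2 l) * (D.ev (sc l P.d24) * D.ev e) := by
        rw [h2]; group
    _ = pw D.x1 i * (pw D.x2 j * D.x2) * (pw D.y1 k * (D.ev (sc k P.d23) * pw D.y2 l))
          * (D.ev (sc l P.d24) * D.ev e) := by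
        rw [h1]; group
    _ = pw D.x1 i * pw D.x2 (!j) * (D.ev (sc j P.q2) * (pw D.y1 k * pw D.y2 l))
          * (D.ev (sc k P.d23) * (D.ev (sc l P.d24) * D.ev e)) := by
        rw [D.pw_step _ _ D.hq2, ← D.ev_comm (sc k P.d23) (pw D.y2 l)]; group
    _ = pw D.x1 i * pw D.x2 (!j) * (pw D.y1 k * pw D.y2 l)
          * (D.ev (sc j P.q2) * D.ev (sc k P.d23) * D.ev (sc l P.d24) * D.ev e) := by
        rw [← D.ev_comm (sc j P.q2) (pw D.y1 k * pw D.y2 l)]; group
    _ = _ := by
        rw [D.ev_add, D.ev_add, ← D.ev_comm _ (D.ev e), D.ev_add]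
        congr 2
        simp only [add, sc]
        refine Prod.ext ?_ ?_ <;> simp [Bool.xor_assoc]

theorem nf_sx1 (u : Crd) : D.nf u * D.x1 = D.nf (P.sx1 u) := by
  obtain ⟨⟨i, j⟩, ⟨k, l⟩, e⟩ := u
  simp only [nf, Par.sx1]
  have h1 := D.pw_swap _ _ P.d13 D.h13 k
  have h2 := D.pw_swap _ _ P.d14 D.h14 l
  have hj : Commute (pw D.x2 j) D.x1 := by
    cases j
    · exact Commute.one_left _
    · exact D.hx
  calc pw D.x1 i * pw D.x2 j * (pw D.y1 k * pw D.y2 l) * D.ev e * D.x1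
      = pw D.x1 i * pw D.x2 j * (pw D.y1 k * (pw D.y2 l * D.x1)) * D.ev e := by
        rw [mul_assoc _ (D.ev e), ← D.ev_comm e D.x1]; group
    _ = pw D.x1 i * pw D.x2 j * ((pw D.y1 k * D.x1) * pw D.y2 l) * (D.ev (sc l P.d14) * D.ev e) := by
        rw [h2]; group
    _ = pw D.x1 i * (pw D.x2 j * D.x1) * (pw D.y1 k * (D.ev (sc k P.d13) * pw D.y2 l))
          * (D.ev (sc l P.d14) * D.ev e) := by
        rw [h1]; group
    _ = (pw D.x1 i * D.x1) * pw D.x2 j * (pw D.y1 k * pw D.y2 l)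
          * (D.ev (sc k P.d13) * (D.ev (sc l P.d14) * D.ev e)) := by
        rw [hj.eq, ← D.ev_comm (sc k P.d13) (pw D.y2 l)]; group
    _ = pw D.x1 (!i) * (D.ev (sc i P.q1) * (pw D.x2 j * (pw D.y1 k * pw D.y2 l)))
          * (D.ev (sc k P.d13) * (D.ev (sc l P.d14) * D.ev e)) := by
        rw [D.pw_step _ _ D.hq1]; group
    _ = pw D.x1 (!i) * pw D.x2 j * (pw D.y1 k * pw D.y2 l)
          * (D.ev (sc i P.q1) * D.ev (sc k P.d13) * D.ev (sc l P.d14) * D.ev e) := by
        rw [← D.ev_comm (sc i P.q1) (pw D.x2 j * (pw D.y1 k * pw D.y2 l))]; group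
    _ = _ := by
        rw [D.ev_add, D.ev_add, ← D.ev_comm _ (D.ev e), D.ev_add]
        congr 2
        simp only [add, sc]
        refine Prod.ext ?_ ?_ <;> simp [Bool.xor_assoc]

theorem nf_iff (t : Bool) (g : T) (f : Crd → Crd) (hf : ∀ u, D.nf u * g = D.nf (f u)) (u : Crd) :
    D.nf u * pw g t = D.nf (Par.iff' t f u) := by
  cases t
  · simp [pw, Par.iff']
  · simpa [pw, Par.iff'] using hf u

theorem nf_mul (a b : Crd) : D.nf a * D.nf b = D.nf (P.mulC a b) := by
  obtain ⟨⟨i, j⟩, ⟨k, l⟩, e⟩ := b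
  rw [Par.mulC, ← D.nf_addE, ← D.nf_iff l D.y2 _ D.nf_sy2, ← D.nf_iff k D.y1 _ D.nf_sy1,
    ← D.nf_iff j D.x2 _ D.nf_sx2, ← D.nf_iff i D.x1 _ D.nf_sx1]
  simp only [nf, mul_assoc]

/-- The independence criterion. -/
theorem ker_trivial (A : Subgroup T) (hv : D.v ∈ A) (hw : D.w ∈ A) (hx1 : D.x1 ∈ A) (hx2 : D.x2 ∈ A)
    (hy1 : D.y1 ∉ A) (hy2 : D.y2 ∉ A) (hy3 : D.y1 * D.y2 ∉ A)
    (B : Subgroup T) (hvB : D.v ∈ B) (hwB : D.w ∈ B)
    (hx1' : D.x1 ∉ B) (hx2' : D.x2 ∉ B) (hx3' : D.x1 * D.x2 ∉ B)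
    (hv1 : D.v ≠ 1) (hw1 : D.w ≠ 1) (hvw : D.v ≠ D.w) (u : Crd) (h : D.nf u = 1) : u = zero := by
  obtain ⟨⟨i, j⟩, ⟨k, l⟩, e⟩ := u
  have memev : ∀ (C : Subgroup T), D.v ∈ C → D.w ∈ C → D.ev e ∈ C := by
    intro C h1 h2
    refine mul_mem ?_ ?_
    · cases e.1
      · exact one_mem C
      · exact h1
    · cases e.2
      · exact one_mem C
      · exact h2
  simp only [nf] at h
  have hX : pw D.x1 i * pw D.x2 j ∈ A := by
    refine mul_mem ?_ ?_
    · cases i
      · exact one_mem A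
      · exact hx1
    · cases j
      · exact one_mem A
      · exact hx2
  have hY : pw D.y1 k * pw D.y2 l ∈ A := by
    have h1 : (pw D.y1 k * pw D.y2 l) =
        (pw D.x1 i * pw D.x2 j)⁻¹ * (pw D.x1 i * pw D.x2 j * (pw D.y1 k * pw D.y2 l) * D.ev e) *
          (D.ev e)⁻¹ := by group
    rw [h1, h]
    exact mul_mem (mul_mem (inv_mem hX) (one_mem A)) (inv_mem (memev A hv hw))
  obtain ⟨rfl, rfl⟩ : k = false ∧ l = false := by
    cases k <;> cases l <;> simp [pw] at hY <;> first | exact ⟨rfl, rfl⟩ | exact absurd hY ‹_›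
  have hX' : pw D.x1 i * pw D.x2 j ∈ B := by
    have h1 : pw D.x1 i * pw D.x2 j = (D.ev e)⁻¹ := by
      apply eq_inv_of_mul_eq_one_left
      simpa [pw] using h
    rw [h1]
    exact inv_mem (memev B hvB hwB)
  obtain ⟨rfl, rfl⟩ : i = false ∧ j = false := by
    cases i <;> cases j <;> simp [pw] at hX' <;> first | exact ⟨rfl, rfl⟩ | exact absurd hX' ‹_›
  obtain ⟨a, b⟩ := e
  have hwinv : D.w⁻¹ = D.w := inv_eq_of_mul_eq_one_right D.w2
  simp [pw, ev] at h
  cases a <;> cases b <;> simp at h ⊢ <;> first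
    | rfl
    | exact absurd h hv1
    | exact absurd h hw1
    | exact absurd ((eq_inv_of_mul_eq_one_left h).trans hwinv) hvw

theorem injective (hc : ∀ a b : Crd, P.mulC a (P.invC b) = zero → a = b)
    (hinvC : ∀ b : Crd, P.mulC b (P.invC b) = zero)
    (hker : ∀ u, D.nf u = 1 → u = zero) : Function.Injective D.nf := by
  intro a b h
  refine hc a b (hker _ ?_)
  rw [← D.nf_mul, h, D.nf_mul, hinvC, D.nf_zero]

/-- The subgroup of normal forms. -/
def sub (hinvC : ∀ b : Crd, P.mulC b (P.invC b) = zero) : Subgroup T where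
  carrier := Set.range D.nf
  one_mem' := ⟨zero, D.nf_zero⟩
  mul_mem' := by
    rintro _ _ ⟨a, rfl⟩ ⟨b, rfl⟩
    exact ⟨_, (D.nf_mul a b).symm⟩
  inv_mem' := by
    rintro _ ⟨b, rfl⟩
    exact ⟨P.invC b, eq_inv_of_mul_eq_one_right (by rw [D.nf_mul, hinvC, D.nf_zero])⟩

theorem bijective [Finite T] (hinj : Function.Injective D.nf) (hcard : Nat.card T ≤ 64) :
    Function.Bijective D.nf :=
  hinj.bijective_of_nat_card_le (by simpa [Crd, E2] using hcard)

/-- Two groups with the same parameters are isomorphic. -/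
theorem nonempty_equiv {T' : Type*} [Group T'] (D' : Data P T') (h : Function.Bijective D.nf)
    (h' : Function.Bijective D'.nf) : Nonempty (T ≃* T') := by
  let e := (Equiv.ofBijective _ h).symm.trans (Equiv.ofBijective _ h')
  refine ⟨MulEquiv.mk' e fun x y => ?_⟩
  obtain ⟨a, rfl⟩ := h.2 x
  obtain ⟨b, rfl⟩ := h.2 y
  rw [D.nf_mul]
  have key : ∀ u, e (D.nf u) = D'.nf u := fun u => by
    show (Equiv.ofBijective _ h') ((Equiv.ofBijective _ h).symm (Equiv.ofBijective _ h u)) = _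
    rw [Equiv.symm_apply_apply]; rfl
  rw [key, key, key, D'.nf_mul]

end Data

theorem invC_PL : ∀ b : Crd, PL.mulC b (PL.invC b) = zero := by decide +kernel

theorem invC_PU : ∀ b : Crd, PU.mulC b (PU.invC b) = zero := by decide +kernel

theorem mem_closure_pair' {G : Type*} [Group G] [Finite G] {a b x : G} (h : Commute a b)
    (hx : x ∈ Subgroup.closure ({a, b} : Set G)) : ∃ i j : ℕ, a ^ i * b ^ j = x := by
  induction hx using Subgroup.closure_induction with
  | mem y hy =>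
    simp only [Set.mem_insert_iff, Set.mem_singleton_iff] at hy
    rcases hy with rfl | rfl
    · exact ⟨1, 0, by simp⟩
    · exact ⟨0, 1, by simp⟩
  | one => exact ⟨0, 0, by simp⟩
  | mul y z _ _ hy hz =>
    obtain ⟨i, j, rfl⟩ := hy
    obtain ⟨k, l, rfl⟩ := hz
    refine ⟨i + k, j + l, ?_⟩
    rw [pow_add, pow_add]
    exact (Commute.mul_mul_mul_comm (h.symm.pow_pow j k) (a ^ i) (b ^ l)).symm
  | inv y _ hy =>
    obtain ⟨i, j, rfl⟩ := hy
    refine ⟨i * (Nat.card G - 1), j * (Nat.card G - 1), eq_inv_of_mul_eq_one_left ?_⟩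
    have hc : 1 ≤ Nat.card G := Nat.card_pos
    rw [pow_mul, pow_mul, ← ((h.pow_pow i j).mul_pow _), ← pow_succ, Nat.sub_add_cancel hc,
      pow_card_eq_one']

/-! ### the hypotheses -/

/-- a central four-group and an automorphism of order three without fixed points -/
structure Base (r : T ≃* T) (V : Subgroup T) : Prop where
  isP : IsPGroup 2 T
  fpf : Fpf3 r
  card4 : Nat.card V = 4
  sq : ∀ x ∈ V, x * x = 1
  central : ∀ g : T, ∀ x ∈ V, g * x = x * g
  map : ∀ x ∈ V, r x ∈ V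

namespace Base

variable [Finite T] {r : T ≃* T} {V : Subgroup T} (B : Base r V)
include B

theorem twice : Base (r.trans r) V :=
  ⟨B.isP, B.fpf.twice, B.card4, B.sq, B.central, fun x hx => B.map _ (B.map _ hx)⟩

theorem comm_mem_center (a b : T) : ⁅a, b⁆ ∈ Subgroup.center T :=
  B.fpf.commutator_mem_center B.isP a b

theorem comm_mul_left (a b c : T) : ⁅a * b, c⁆ = ⁅a, c⁆ * ⁅b, c⁆ :=
  PGroupsBasic.commutatorElement_mul_left_of_central (B.comm_mem_center b c)

theorem comm_mul_right (a b c : T) : ⁅a, b * c⁆ = ⁅a, b⁆ * ⁅a, c⁆ :=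
  PGroupsBasic.commutatorElement_mul_right_of_central (B.comm_mem_center a c)

theorem swap_eq (a b : T) : b * a = a * b * ⁅b, a⁆ := by
  rw [Subgroup.mem_center_iff.1 (B.comm_mem_center b a) (a * b), commutatorElement_def]; group

theorem comm_self_r (x : T) : ⁅x, r x⁆ = 1 :=
  commutatorElement_eq_one_iff_mul_comm.2 (B.fpf.comm_r x).eq

theorem vw_three {v : T} (hv : v ∈ V) : r (r v) = v * r v := by
  rw [B.fpf.sq v, mul_inv_rev, inv_eq_of_mul_eq_one_right (B.sq v hv),
    inv_eq_of_mul_eq_one_right (B.sq _ (B.map v hv))]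
  exact (B.central (r v) v hv)

theorem mem_cases {v u : T} (hv : v ∈ V) (hv1 : v ≠ 1) (hu : u ∈ V) :
    u = 1 ∨ u = v ∨ u = r v ∨ u = v * r v := by
  have hrv := B.map v hv
  have hrv1 : r v ≠ 1 := fun h => hv1 (r.injective (h.trans (map_one r).symm))
  have hne : v ≠ r v := fun h => hv1 (B.fpf.free v h.symm)
  have hp1 : v * r v ≠ 1 := fun h => hne (by
    rw [← inv_eq_of_mul_eq_one_right h, inv_eq_of_mul_eq_one_right (B.sq v hv)])
  have hsub : ({1, v, r v, v * r v} : Set T) ⊆ (V : Set T) := by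
    intro x hx
    simp only [Set.mem_insert_iff, Set.mem_singleton_iff] at hx
    rcases hx with rfl | rfl | rfl | rfl
    exacts [one_mem V, hv, hrv, mul_mem hv hrv]
  have hcard : ({1, v, r v, v * r v} : Set T).ncard = 4 := by
    rw [Set.ncard_insert_of_notMem (by
        simp only [Set.mem_insert_iff, Set.mem_singleton_iff]
        push Not
        exact ⟨hv1.symm, hrv1.symm, hp1.symm⟩),
      Set.ncard_eq_three.2 ⟨v, r v, v * r v, hne,
        fun h => hrv1 (mul_left_cancel (a := v) (by rw [← h, mul_one])),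
        fun h => hv1 (mul_right_cancel (b := r v) (by rw [← h, one_mul])), rfl⟩]
  have hset : ({1, v, r v, v * r v} : Set T) = (V : Set T) :=
    Set.eq_of_subset_of_ncard_le hsub (by rw [hcard, ← B.card4]; rfl) (Set.toFinite _)
  have : u ∈ ({1, v, r v, v * r v} : Set T) := hset ▸ hu
  simpa using this

theorem exists_ne_one : ∃ v ∈ V, v ≠ 1 := by
  refine (Subgroup.bot_or_exists_ne_one V).resolve_left fun h => ?_
  have := B.card4
  rw [h, Subgroup.card_bot] at this
  omega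

/-- `⁅a, r b⁆` for `⁅a, b⁆ ∈ V`. -/
theorem comm_r_formula {a b : T} (h : ⁅a, b⁆ ∈ V) :
    ⁅a, r b⁆ = r (r ⁅a, b⁆) ∧ ⁅r a, b⁆ = r (r ⁅a, b⁆) := by
  set u := ⁅a, b⁆ with hu
  have hsym : ⁅r a, b⁆ = ⁅a, r b⁆ := by
    have h1 := B.comm_self_r (a * b)
    rw [map_mul, B.comm_mul_left, B.comm_mul_right, B.comm_mul_right, B.comm_self_r, B.comm_self_r,
      one_mul, mul_one] at h1
    rw [← commutatorElement_inv b (r a)]
    exact (eq_inv_of_mul_eq_one_left h1).symm
  set s := ⁅a, r b⁆ with hs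
  -- apply the automorphism
  have hrs : r s = r u⁻¹ * s⁻¹ := by
    have e1 : r s = ⁅r a, r (r b)⁆ := by rw [hs, map_commutatorElement]
    have h2 : ⁅r a, b⁆ * ⁅r a, r b⁆ * r s = 1 := by
      rw [e1, ← B.comm_mul_right, ← B.comm_mul_right, B.fpf.prod_eq b, commutatorElement_one_right]
    rw [hsym, show ⁅r a, r b⁆ = r u by rw [hu, map_commutatorElement]] at h2
    rw [← inv_eq_of_mul_eq_one_right h2, mul_inv_rev, map_inv]
  have huinv : u⁻¹ = u := inv_eq_of_mul_eq_one_right (B.sq u h)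
  rw [huinv] at hrs
  -- solve
  have hk := B.fpf.prod_eq s
  have h3 : r (r s) = r (r u) * (r s)⁻¹ := by
    conv_lhs => rw [hrs]
    rw [map_mul, map_inv]
  rw [h3, hrs] at hk
  have hcs : ∀ g : T, g * s = s * g := fun g => Subgroup.mem_center_iff.1 (B.comm_mem_center a (r b)) g
  have hru := B.map u h
  have hkey : r (r u) * s = 1 := by
    have e : s * (r u * s⁻¹) * (r (r u) * (r u * s⁻¹)⁻¹) = r (r u) * s := by
      rw [show s * (r u * s⁻¹) = r u from by rw [← mul_assoc, ← hcs, mul_inv_cancel_right], mul_inv_rev,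
        inv_inv, inv_eq_of_mul_eq_one_right (B.sq _ hru), ← mul_assoc (r (r u)) s (r u), ← mul_assoc,
        ← B.central (r (r u) * s) (r u) hru, mul_assoc (r (r u) * s), B.sq _ hru, mul_one]
    rw [← e]; exact hk
  have hs' : s = r (r u) := by
    rw [← inv_eq_of_mul_eq_one_right hkey]
    exact inv_eq_of_mul_eq_one_right (B.sq _ (B.map _ hru))
  exact ⟨hs', hsym.trans hs'⟩

/-- Independence modulo an invariant subgroup. -/
theorem indep {N : Subgroup T} (hN : ∀ x ∈ N, r x ∈ N) {x : T} (hx : x ∉ N) :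
    r x ∉ N ∧ x * r x ∉ N ∧ r x * x ∉ N := by
  have h1 : r x ∉ N := fun h => hx (by
    have := hN _ (hN _ h)
    rwa [B.fpf.cube] at this)
  have h2 : x * r x ∉ N := fun h => hx (by
    have := inv_mem h
    rw [← B.fpf.sq x] at this
    have := hN _ this
    rwa [B.fpf.cube] at this)
  exact ⟨h1, h2, by rw [← (B.fpf.comm_r x).eq]; exact h2⟩

/-- Four cosets. -/
theorem card_four {N Q : Subgroup T} (hN : ∀ x ∈ N, r x ∈ N) (hNQ : N ≤ Q) {x : T} (hxQ : x ∈ Q)
    (hrxQ : r x ∈ Q) (hx : x ∉ N) (hx2 : x * x ∈ N) (hNc : ∀ n ∈ N, ∀ g : T, g * n = n * g) :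
    4 * Nat.card N ≤ Nat.card Q := by
  obtain ⟨h1, h2, h3⟩ := B.indep hN hx
  let f : E2 × N → Q := fun p => ⟨pw x p.1.1 * pw (r x) p.1.2 * p.2.1, by
    refine mul_mem (mul_mem ?_ ?_) (hNQ p.2.2)
    · cases p.1.1
      · exact one_mem Q
      · exact hxQ
    · cases p.1.2
      · exact one_mem Q
      · exact hrxQ⟩
  have hinj : Function.Injective f := by
    rintro ⟨⟨a, b⟩, n, hn⟩ ⟨⟨a', b'⟩, n', hn'⟩ h
    have h' : pw x a * pw (r x) b * n = pw x a' * pw (r x) b' * n' := congrArg Subtype.val h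
    have hmem : (pw x a' * pw (r x) b')⁻¹ * (pw x a * pw (r x) b) ∈ N := by
      have : (pw x a' * pw (r x) b')⁻¹ * (pw x a * pw (r x) b) =
          (pw x a' * pw (r x) b')⁻¹ * (pw x a * pw (r x) b * n) * n⁻¹ := by group
      rw [this, h', inv_mul_cancel_left]
      exact mul_mem hn' (inv_mem hn)
    have hrx2 : r x * r x ∈ N := by rw [← map_mul]; exact hN _ hx2
    let π : Subgroup T := N
    haveI : N.Normal := ⟨fun n hn g => by rw [hNc n hn g, mul_inv_cancel_right]; exact hn⟩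
    let φ := QuotientGroup.mk' N
    have hφ : φ (pw x a * pw (r x) b) = φ (pw x a' * pw (r x) b') :=
      ((QuotientGroup.eq).2 hmem).symm
    have hp : ∀ (g : T) (t : Bool), φ (pw g t) = pw (φ g) t := fun g t => by cases t <;> simp [pw]
    rw [map_mul, map_mul, hp, hp, hp, hp] at hφ
    have e1 : φ x ≠ 1 := fun e => hx ((QuotientGroup.eq_one_iff x).1 e)
    have e2 : φ (r x) ≠ 1 := fun e => h1 ((QuotientGroup.eq_one_iff _).1 e)
    have e3 : φ x * φ (r x) ≠ 1 := fun e => h2 ((QuotientGroup.eq_one_iff _).1 (by rw [← e, ← map_mul]; rfl))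
    have e4 : φ x * φ x = 1 := by rw [← map_mul]; exact (QuotientGroup.eq_one_iff _).2 hx2
    have e5 : φ x ≠ φ (r x) := fun e => e3 (by rw [← e]; exact e4)
    have hab : a = a' ∧ b = b' := by
      cases a <;> cases b <;> cases a' <;> cases b' <;> simp [pw] at hφ <;>
        first
          | exact ⟨rfl, rfl⟩
          | exact absurd hφ e1
          | exact absurd hφ.symm e1
          | exact absurd hφ e2
          | exact absurd hφ.symm e2
          | exact absurd hφ e3
          | exact absurd hφ.symm e3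
          | exact absurd hφ e5
          | exact absurd hφ.symm e5
    obtain ⟨rfl, rfl⟩ := hab
    obtain rfl : n = n' := mul_left_cancel h'
    rfl
  have := Nat.card_le_card_of_injective f hinj
  simpa using this

/-- `T` is generated by `y, r y` modulo `N`. -/
theorem generated {N : Subgroup T} (hN : ∀ x ∈ N, r x ∈ N) (hNc : ∀ n ∈ N, ∀ g : T, g * n = n * g)
    (hcomm : ∀ a b : T, ⁅a, b⁆ ∈ N) (hNne : N ≠ ⊤) (Q : Subgroup T) (hQ : ∀ x, x ∈ Q ↔ x * x ∈ N)
    (hQcard : Nat.card Q ≤ 4 * Nat.card N) :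
    ∃ (y : T) (e : ℕ), 1 ≤ e ∧ y ^ 2 ^ (e - 1) ∉ N ∧ y ^ 2 ^ e ∈ N ∧
      ∀ x : T, ∃ i j : ℕ, ∃ n ∈ N, x = y ^ i * r y ^ j * n := by
  haveI : N.Normal := ⟨fun n hn g => by rw [hNc n hn g, mul_inv_cancel_right]; exact hn⟩
  let φ := QuotientGroup.mk' N
  have hφc : ∀ a b : T, Commute (φ a) (φ b) := fun a b => by
    refine commutatorElement_eq_one_iff_mul_comm.1 ?_
    rw [← map_commutatorElement]
    exact (QuotientGroup.eq_one_iff _).2 (hcomm a b)
  -- an element of maximal order modulo N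
  obtain ⟨y, hy⟩ := Finite.exists_max fun g : T => orderOf (φ g)
  obtain ⟨e, he⟩ := IsPGroup.iff_orderOf.1 (B.isP.to_quotient N) (φ y)
  have he1 : 1 ≤ e := by
    by_contra h
    obtain rfl : e = 0 := by omega
    apply hNne
    rw [eq_top_iff]
    intro g _
    have := hy g
    simp only [he, pow_zero] at this
    exact (QuotientGroup.eq_one_iff g).1 (orderOf_eq_one_iff.1 (le_antisymm this (orderOf_pos _)))
  have hye : y ^ 2 ^ e ∈ N := by
    rw [← QuotientGroup.eq_one_iff]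
    show φ (y ^ 2 ^ e) = 1
    rw [map_pow, ← he, pow_orderOf_eq_one]
  have hye' : y ^ 2 ^ (e - 1) ∉ N := fun h => by
    have h1 : orderOf (φ y) ∣ 2 ^ (e - 1) := orderOf_dvd_of_pow_eq_one (by
      rw [← map_pow]; exact (QuotientGroup.eq_one_iff _).2 h)
    rw [he] at h1
    have := (Nat.pow_dvd_pow_iff_le_right (show 1 < 2 by norm_num)).1 h1
    omega
  refine ⟨y, e, he1, hye', hye, ?_⟩
  set y1 := y ^ 2 ^ (e - 1) with hy1
  have hy1Q : y1 ∈ Q := by
    rw [hQ, hy1, ← pow_add, ← two_mul, ← pow_succ', Nat.sub_add_cancel he1]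
    exact hye
  have hry1Q : r y1 ∈ Q := by
    rw [hQ, ← map_mul]
    exact hN _ ((hQ y1).1 hy1Q)
  have hNQ : N ≤ Q := fun n hn => (hQ n).2 (mul_mem hn hn)
  -- the subgroup generated modulo N
  let S : Subgroup T := (Subgroup.closure ({φ y, φ (r y)} : Set (T ⧸ N))).comap φ
  have hyS : y ∈ S := Subgroup.subset_closure (by simp)
  have hryS : r y ∈ S := Subgroup.subset_closure (by simp)
  have hNS : N ≤ S := fun n hn => by
    refine Subgroup.mem_comap.2 ?_
    rw [show φ n = 1 from (QuotientGroup.eq_one_iff n).2 hn]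
    exact one_mem _
  have hQS : Q ≤ S := by
    have hQQ : Q ⊓ S = Q := by
      refine Subgroup.eq_of_le_of_card_ge inf_le_left (le_trans hQcard ?_)
      exact B.card_four hN (le_inf hNQ hNS) ⟨hy1Q, pow_mem hyS _⟩
        ⟨hry1Q, by rw [hy1, map_pow]; exact pow_mem hryS _⟩ hye' ((hQ _).1 hy1Q) hNc
    exact inf_eq_left.1 hQQ
  -- induction on the order modulo N
  have hall : ∀ (f : ℕ) (x : T), x ^ 2 ^ f ∈ N → x ∈ S := by
    intro f
    induction f with
    | zero => intro x hx; rw [pow_zero, pow_one] at hx; exact hNS hx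
    | succ f ih =>
      intro x hx
      obtain ⟨g, hg⟩ := IsPGroup.iff_orderOf.1 (B.isP.to_quotient N) (φ x)
      by_cases hgf : g ≤ f
      · exact ih x ((QuotientGroup.eq_one_iff _).1 (orderOf_dvd_iff_pow_eq_one.1
          (hg ▸ Nat.pow_dvd_pow 2 hgf) |> fun h => by show φ _ = 1; rw [map_pow]; exact h))
      have hge : g ≤ e := by
        have := hy x
        simp only [he, hg] at this
        exact (Nat.pow_le_pow_iff_right (show 1 < 2 by norm_num)).1 this
      have hfe : f + 1 ≤ e := by omega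
      have hxQ : x ^ 2 ^ f ∈ Q := by rw [hQ, ← pow_add, ← two_mul, ← pow_succ']; exact hx
      obtain ⟨i, j, hij⟩ : ∃ i j : ℕ, φ (x ^ 2 ^ f) = φ y ^ (i * 2 ^ (e - 1)) * φ (r y) ^ (j * 2 ^ (e - 1)) := by
        let S1 : Subgroup T := (Subgroup.closure ({φ y1, φ (r y1)} : Set (T ⧸ N))).comap φ
        have hQS1 : Q ≤ S1 := by
          have h1 : Q ⊓ S1 = Q := by
            refine Subgroup.eq_of_le_of_card_ge inf_le_left (le_trans hQcard ?_)
            refine B.card_four hN (le_inf hNQ fun n hn => ?_) ⟨hy1Q, Subgroup.subset_closure (by simp)⟩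
              ⟨hry1Q, Subgroup.subset_closure (by simp)⟩ hye' ((hQ _).1 hy1Q) hNc
            refine Subgroup.mem_comap.2 ?_
            rw [show φ n = 1 from (QuotientGroup.eq_one_iff n).2 hn]
            exact one_mem _
          exact inf_eq_left.1 h1
        obtain ⟨a, b, hab⟩ := mem_closure_pair' (hφc _ _) (hQS1 hxQ)
        refine ⟨a, b, ?_⟩
        rw [← hab, hy1, map_pow, map_pow, map_pow, ← pow_mul, ← pow_mul, mul_comm a, mul_comm b]
      obtain ⟨d, hd⟩ : ∃ d, e - 1 = f + d := ⟨e - 1 - f, by omega⟩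
      set w := y ^ (i * 2 ^ d) * r y ^ (j * 2 ^ d) with hw
      have hwS : w ∈ S := mul_mem (pow_mem hyS _) (pow_mem hryS _)
      have hxw : x * w⁻¹ ∈ S := by
        apply ih
        rw [← QuotientGroup.eq_one_iff]
        show φ ((x * w⁻¹) ^ 2 ^ f) = 1
        rw [map_pow, map_mul, (hφc x w⁻¹).mul_pow, map_inv, inv_pow, mul_inv_eq_one, ← map_pow, hij,
          hw, map_mul, (hφc _ _).mul_pow, map_pow, map_pow, ← pow_mul, ← pow_mul, hd, pow_add]
        ring_nf
      have := mul_mem hxw hwS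
      rwa [inv_mul_cancel_right] at this
  intro x
  obtain ⟨k, hk⟩ := B.isP x
  have hxS : x ∈ S := hall k x (by rw [hk]; exact one_mem N)
  obtain ⟨i, j, hij⟩ := mem_closure_pair' (hφc _ _) hxS
  refine ⟨i, j, (y ^ i * r y ^ j)⁻¹ * x, ?_, by group⟩
  rw [← QuotientGroup.eq_one_iff]
  show φ _ = 1
  rw [map_mul, map_inv, map_mul, map_pow, map_pow, hij, inv_mul_cancel]

theorem omega_eq (hinv : ∀ x : T, x * x = 1 → x ∈ V) {x : T} : x * x = 1 ↔ x ∈ V :=
  ⟨hinv x, B.sq x⟩

/-- the abelian case -/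
theorem homocyclic (hab : ∀ a b : T, a * b = b * a) (hinv : ∀ x : T, x * x = 1 → x ∈ V) :
    ∃ n : ℕ, 1 ≤ n ∧ Nonempty (T ≃* Multiplicative (ZMod (2 ^ n)) × Multiplicative (ZMod (2 ^ n))) := by
  obtain ⟨v, hv, hv1⟩ := B.exists_ne_one
  have hne : (⊥ : Subgroup T) ≠ ⊤ := fun h => hv1 (Subgroup.mem_bot.1 (h ▸ Subgroup.mem_top v))
  have hbot : ∀ x ∈ (⊥ : Subgroup T), r x ∈ (⊥ : Subgroup T) := fun x hx => by
    rw [Subgroup.mem_bot] at hx ⊢
    rw [hx, map_one]
  obtain ⟨y, e, he, hye', hye, hgen⟩ := B.generated (N := ⊥) hbot (fun n _ g => hab g n)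
    (fun a b => by rw [Subgroup.mem_bot, commutatorElement_eq_one_iff_mul_comm]; exact hab a b) hne V
    (fun x => by rw [Subgroup.mem_bot]; exact (B.omega_eq hinv).symm) (by simp [B.card4])
  rw [Subgroup.mem_bot] at hye hye'
  have ho : orderOf y = 2 ^ e := by
    obtain ⟨e', rfl⟩ : ∃ e', e = e' + 1 := ⟨e - 1, by omega⟩
    exact orderOf_eq_prime_pow hye' hye
  have hro : orderOf (r y) = 2 ^ e := by rw [MulEquiv.orderOf_eq, ho]
  have hrye : r y ^ 2 ^ e = 1 := by rw [← map_pow, hye, map_one]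
  -- the two cyclic subgroups meet trivially
  have hdisj : ∀ g : T, g ∈ Subgroup.zpowers y → g ∈ Subgroup.zpowers (r y) → g = 1 := by
    intro g h1 h2
    by_contra hg
    obtain ⟨k, hk⟩ := B.isP g
    have hex : ∃ k, g ^ 2 ^ k = 1 := ⟨k, hk⟩
    classical
    have hk0 : Nat.find hex ≠ 0 := fun h0 => hg (by
      have := Nat.find_spec hex; rwa [h0, pow_zero, pow_one] at this)
    set z := g ^ 2 ^ (Nat.find hex - 1) with hz
    have hz1 : z ≠ 1 := Nat.find_min hex (by omega)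
    have hz2 : z ^ 2 = 1 := by
      rw [hz, ← pow_mul, ← pow_succ, Nat.sub_add_cancel (by omega)]
      exact Nat.find_spec hex
    have hoz : orderOf z = 2 := orderOf_eq_prime hz2 hz1
    set y1 := y ^ 2 ^ (e - 1) with hy1
    have hoy1 : orderOf y1 = 2 := by
      refine orderOf_eq_prime ?_ hye'
      rw [hy1, ← pow_mul, ← pow_succ, Nat.sub_add_cancel he, hye]
    have huniq : ∀ (u : T) (w : T), orderOf w = 2 → w ∈ Subgroup.zpowers u →
        z ∈ Subgroup.zpowers u → z = w := by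
      intro u w hw hwu hzu
      have h := PGroupsCyclicAux u w z hw hoz hwu hzu
      exact h
    have e1 : z = y1 := huniq y y1 hoy1 (pow_mem (Subgroup.mem_zpowers y) _) (pow_mem h1 _)
    have e2 : z = r y1 := huniq (r y) (r y1) (by rw [MulEquiv.orderOf_eq, hoy1])
      (by rw [hy1, map_pow]; exact pow_mem (Subgroup.mem_zpowers _) _) (pow_mem h2 _)
    exact hye' (B.fpf.free y1 (e2.symm.trans e1))
  haveI : NeZero (2 ^ e) := ⟨by positivity⟩
  letI : CommGroup T := { (inferInstance : Group T) with mul_comm := hab }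
  let Φ : Multiplicative (ZMod (2 ^ e)) × Multiplicative (ZMod (2 ^ e)) →* T :=
    { toFun := fun p => y ^ (Multiplicative.toAdd p.1).val * r y ^ (Multiplicative.toAdd p.2).val
      map_one' := by simp
      map_mul' := fun p q => by
        have key : ∀ (u : T), u ^ 2 ^ e = 1 → ∀ a b : ZMod (2 ^ e), u ^ (a + b).val = u ^ a.val * u ^ b.val := by
          intro u hu a b
          rw [← pow_add, ZMod.val_add, ← pow_mod_orderOf u, ← pow_mod_orderOf u (a.val + b.val),
            Nat.mod_mod_of_dvd _ (orderOf_dvd_of_pow_eq_one hu)]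
        simp only [Prod.fst_mul, Prod.snd_mul, toAdd_mul]
        rw [key y hye, key (r y) hrye]
        exact mul_mul_mul_comm _ _ _ _ }
  have hΦinj : Function.Injective Φ := by
    rw [injective_iff_map_eq_one]
    rintro ⟨a, b⟩ hab'
    have h1 : y ^ (Multiplicative.toAdd a).val = (r y ^ (Multiplicative.toAdd b).val)⁻¹ :=
      eq_inv_of_mul_eq_one_left hab'
    have h2 : y ^ (Multiplicative.toAdd a).val = 1 := hdisj _ (pow_mem (Subgroup.mem_zpowers y) _)
      (h1 ▸ inv_mem (pow_mem (Subgroup.mem_zpowers _) _))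
    have h3 : r y ^ (Multiplicative.toAdd b).val = 1 := by
      rw [h2, eq_comm, inv_eq_one] at h1; exact h1
    have h4 : ∀ (u : T) (c : ZMod (2 ^ e)), orderOf u = 2 ^ e → u ^ c.val = 1 → c = 0 := by
      intro u c hu hc
      rw [← orderOf_dvd_iff_pow_eq_one, hu] at hc
      exact (ZMod.val_eq_zero c).1 (Nat.eq_zero_of_dvd_of_lt hc (ZMod.val_lt c))
    exact Prod.ext (h4 y _ ho h2) (h4 (r y) _ hro h3)
  have hΦsurj : Function.Surjective Φ := by
    intro x
    obtain ⟨i, j, n, hn, rfl⟩ := hgen x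
    rw [Subgroup.mem_bot] at hn
    refine ⟨(Multiplicative.ofAdd (i : ZMod (2 ^ e)), Multiplicative.ofAdd (j : ZMod (2 ^ e))), ?_⟩
    show y ^ ((i : ZMod (2 ^ e))).val * r y ^ ((j : ZMod (2 ^ e))).val = _
    rw [ZMod.val_natCast, ZMod.val_natCast, hn, mul_one]
    nth_rw 1 [← ho]; rw [pow_mod_orderOf]
    nth_rw 1 [← hro]; rw [pow_mod_orderOf]
  exact ⟨e, he, ⟨(MulEquiv.ofBijective Φ ⟨hΦinj, hΦsurj⟩).symm⟩⟩
where
  PGroupsCyclicAux (u w z : T) (hw : orderOf w = 2) (hz : orderOf z = 2)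
      (hwu : w ∈ Subgroup.zpowers u) (hzu : z ∈ Subgroup.zpowers u) : z = w := by
    classical
    by_contra hne
    haveI := Fintype.ofFinite (Subgroup.zpowers u)
    have hd : 2 ∣ Fintype.card (Subgroup.zpowers u) := by
      rw [← Nat.card_eq_fintype_card, ← hw]
      rw [← Subgroup.orderOf_mk w hwu]
      exact orderOf_dvd_natCard _
    have h := IsCyclic.card_orderOf_eq_totient (α := Subgroup.zpowers u) hd
    rw [Nat.totient_two] at h
    have h2 : ({⟨w, hwu⟩, ⟨z, hzu⟩} : Finset (Subgroup.zpowers u)) ⊆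
        Finset.univ.filter fun a => orderOf a = 2 := by
      intro a ha
      simp only [Finset.mem_insert, Finset.mem_singleton] at ha
      rcases ha with rfl | rfl <;> simp [Subgroup.orderOf_mk, hw, hz]
    have h3 := Finset.card_le_card h2
    rw [Finset.card_pair (fun e => hne (congrArg Subtype.val e).symm), h] at h3
    omega

end Base

end Cfsg.Agent.HigmanFour65
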