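import Mathlib
import Cfsg.Agent.Lib.HigmanFour65

/-!
The two nonabelian types: Sylow 2-subgroups of `U_3(4)` (all involutions in `V`) and of `L_3(4)`
(with an involution `τ` having fixed group `V`).
-/

set_option autoImplicit false

namespace Cfsg.Agent.HigmanFour65

open Cfsg.Agent.EngelClass65
open scoped commutatorElement

namespace Base

variable {T : Type*} [Group T] [Finite T] {r : T ≃* T} {V : Subgroup T} (B : Base r V)
include B

theorem comm_sq (a b : T) : ⁅a * a, b⁆ = ⁅a, b⁆ * ⁅a, b⁆ := B.comm_mul_left a a b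

theorem mul_sq (a b : T) : a * b * (a * b) = a * a * (b * b) * ⁅b, a⁆ := by
  have h := B.swap_eq a b
  calc a * b * (a * b) = a * (b * a) * b := by group
    _ = a * (a * b * (⁅b, a⁆ * b)) := by rw [h]; group
    _ = a * (a * b * (b * ⁅b, a⁆)) := by rw [Subgroup.mem_center_iff.1 (B.comm_mem_center b a) b]
    _ = _ := by group

theorem inv_eq {x : T} (hx : x ∈ V) : x⁻¹ = x := inv_eq_of_mul_eq_one_right (B.sq x hx)

theorem V_le_center : V ≤ Subgroup.center T :=
  fun x hx => Subgroup.mem_center_iff.2 fun g => B.central g x hx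

/-! ### all involutions in `V` -/

theorem center_eq_V (hinv : ∀ x : T, x * x = 1 → x ∈ V) (hna : ¬ ∀ a b : T, a * b = b * a) :
    Subgroup.center T = V := by
  refine le_antisymm ?_ B.V_le_center
  by_contra hle
  obtain ⟨z, hz, hzV⟩ := SetLike.not_le_iff_exists.1 hle
  set Z := Subgroup.center T with hZ
  have hZr : ∀ x ∈ Z, r x ∈ Z := fun x hx => by
    rw [Subgroup.mem_center_iff] at hx ⊢
    intro g
    apply r.symm.injective
    rw [map_mul, map_mul, r.symm_apply_apply]
    exact hx _
  -- the squares of the centre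
  let sq : Z →* Z :=
    { toFun := fun x => x * x
      map_one' := by simp
      map_mul' := fun x y => by
        have h : (y : T) * x = x * y := Subgroup.mem_center_iff.1 x.2 y
        apply Subtype.ext
        show (x : T) * y * (x * y) = x * x * (y * y)
        calc (x : T) * y * (x * y) = x * (y * x) * y := by group
          _ = _ := by rw [h]; group }
  have hker : Nat.card sq.ker = 4 := by
    rw [← B.card4]
    refine Nat.card_congr
      { toFun := fun x => ⟨x.1.1, hinv _ (congrArg Subtype.val x.2)⟩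
        invFun := fun x => ⟨⟨x.1, B.V_le_center x.2⟩, Subtype.ext (B.sq x.1 x.2)⟩
        left_inv := fun x => rfl
        right_inv := fun x => rfl }
  have hidx : sq.range.index = 4 := by
    have h1 := sq.range.card_mul_index
    have h2 := sq.ker.card_mul_index
    rw [Subgroup.index_ker, hker] at h2
    rw [← h2, mul_comm 4] at h1
    exact Nat.eq_of_mul_eq_mul_left Nat.card_pos h1
  let Z2 : Subgroup T := sq.range.map Z.subtype
  have hmemZ2 : ∀ t, t ∈ Z2 ↔ ∃ c ∈ Z, c * c = t := by
    intro t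
    constructor
    · rintro ⟨_, ⟨c, rfl⟩, rfl⟩
      exact ⟨c.1, c.2, rfl⟩
    · rintro ⟨c, hc, rfl⟩
      exact ⟨_, ⟨⟨c, hc⟩, rfl⟩, rfl⟩
  -- V is contained in the squares
  have hV2 : ∀ x ∈ V, x ∈ Z2 := by
    have hne : Z2 ≠ ⊥ := fun h => hzV (hinv z (by
      have : z * z ∈ Z2 := (hmemZ2 _).2 ⟨z, hz, rfl⟩
      rwa [h, Subgroup.mem_bot] at this))
    haveI : Fact (Nat.Prime 2) := ⟨Nat.prime_two⟩
    obtain ⟨u, hu, huo⟩ := PGroupsBasic.exists_orderOf_eq_of_ne_bot (p := 2) (B.isP.to_subgroup Z2) hne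
    have hu1 : u ≠ 1 := fun h => by rw [h, orderOf_one] at huo; omega
    have huV : u ∈ V := hinv u (by rw [← pow_two, ← huo, pow_orderOf_eq_one])
    have hru : r u ∈ Z2 := by
      obtain ⟨c, hc, rfl⟩ := (hmemZ2 u).1 hu
      exact (hmemZ2 _).2 ⟨r c, hZr c hc, (map_mul r c c).symm⟩
    intro x hx
    rcases B.mem_cases huV hu1 hx with rfl | rfl | rfl | rfl
    exacts [one_mem _, hu, hru, mul_mem hu hru]
  -- the elements with central square
  let Q : Subgroup T :=
    { carrier := {x | x * x ∈ Z}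
      one_mem' := by simp
      mul_mem' := fun {a b} (ha : a * a ∈ Z) (hb : b * b ∈ Z) => by
        show a * b * (a * b) ∈ Z
        rw [B.mul_sq]
        exact mul_mem (mul_mem ha hb) (B.comm_mem_center b a)
      inv_mem' := fun {a} (ha : a * a ∈ Z) => by
        show a⁻¹ * a⁻¹ ∈ Z
        rw [← mul_inv_rev]
        exact inv_mem ha }
  have hVsq : ∀ a b : T, a * a ∈ Z → ⁅b, a⁆ ∈ V := fun a b ha => hinv _ (by
    have h1 : ⁅a * a, b⁆ = 1 :=
      commutatorElement_eq_one_iff_mul_comm.2 (Subgroup.mem_center_iff.1 ha b).symm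
    rw [B.comm_sq] at h1
    rw [← commutatorElement_inv a b, ← mul_inv_rev, h1, inv_one])
  let ψ : Q →* Z ⧸ sq.range :=
    MonoidHom.mk' (fun x => QuotientGroup.mk (⟨x.1 * x.1, x.2⟩ : Z)) fun x y => by
      rw [← QuotientGroup.mk_mul, QuotientGroup.eq]
      obtain ⟨c, hc, hcc⟩ := (hmemZ2 _).1 (hV2 _ (hVsq x.1 y.1 x.2))
      refine ⟨⟨c, hc⟩⁻¹, Subtype.ext ?_⟩
      show c⁻¹ * c⁻¹ = (x.1 * y.1 * (x.1 * y.1))⁻¹ * (x.1 * x.1 * (y.1 * y.1))
      rw [B.mul_sq, ← mul_inv_rev, hcc]
      group
  have hψker : ∀ x : Q, x ∈ ψ.ker → x.1 ∈ Z := by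
    intro x hx
    obtain ⟨c, hc⟩ := (QuotientGroup.eq_one_iff _).1 hx
    have hcc : (c : T) * c = x.1 * x.1 := congrArg Subtype.val hc
    have h1 : (x.1 * (c : T)⁻¹) ∈ V := hinv _ (by
      have hcom := (Subgroup.mem_center_iff.1 (inv_mem c.2) x.1)
      calc x.1 * (c : T)⁻¹ * (x.1 * (c : T)⁻¹) = x.1 * ((c : T)⁻¹ * x.1) * (c : T)⁻¹ := by group
        _ = x.1 * x.1 * ((c : T) * c)⁻¹ := by rw [← hcom]; group
        _ = 1 := by rw [hcc, mul_inv_cancel])
    have := mul_mem (B.V_le_center h1) c.2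
    rwa [inv_mul_cancel_right] at this
  have hQcard : Nat.card Q ≤ 4 * Nat.card Z := by
    rw [← ψ.ker.card_mul_index, Subgroup.index_ker, mul_comm 4]
    refine Nat.mul_le_mul ?_ ?_
    · exact Nat.card_le_card_of_injective (fun x : ψ.ker => (⟨x.1.1, hψker x.1 x.2⟩ : Z))
        fun x y h => by
          have h' : x.1.1 = y.1.1 := by simpa using h
          exact Subtype.ext (Subtype.ext h')
    · calc Nat.card ψ.range ≤ Nat.card (Z ⧸ sq.range) :=
            Nat.card_le_card_of_injective Subtype.val Subtype.val_injective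
        _ = 4 := hidx
  have hne : Z ≠ ⊤ := fun h => hna fun a b =>
    (Subgroup.mem_center_iff.1 (h ▸ Subgroup.mem_top b : b ∈ Z) a)
  obtain ⟨y, e, -, -, -, hgen⟩ := B.generated hZr (fun n hn g => Subgroup.mem_center_iff.1 hn g)
    B.comm_mem_center hne Q (fun x => Iff.rfl) hQcard
  apply hna
  intro a b
  obtain ⟨i, j, n, hn, rfl⟩ := hgen a
  obtain ⟨k, l, m, hm, rfl⟩ := hgen b
  have c : Commute y (r y) := B.fpf.comm_r y
  have cn : ∀ g, Commute g n := fun g => Subgroup.mem_center_iff.1 hn g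
  have cm : ∀ g, Commute g m := fun g => Subgroup.mem_center_iff.1 hm g
  refine Commute.mul_left (Commute.mul_right ?_ (cm _)) ((cn _).symm)
  exact Commute.mul_left (Commute.mul_right ((Commute.refl y).pow_pow _ _) (c.pow_pow _ _))
    (Commute.mul_right (c.symm.pow_pow _ _) ((Commute.refl (r y)).pow_pow _ _))

omit [Finite T] B in
theorem subset_range_of {C : Subgroup T} {x : T} {U : Subgroup T}
    (h : ∀ y ∈ C, ∃ i j : Bool, ∃ n ∈ U, y = pw x i * pw (r x) j * n) [Finite T] :
    Nat.card C ≤ 4 * Nat.card U := by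
  have h' : ∀ y : C, ∃ p : E2 × U, (y : T) = pw x p.1.1 * pw (r x) p.1.2 * p.2.1 := by
    intro y
    obtain ⟨i, j, n, hn, hy⟩ := h y.1 y.2
    exact ⟨((i, j), ⟨n, hn⟩), hy⟩
  choose f hf using h'
  have := Nat.card_le_card_of_injective f fun y y' e => Subtype.ext (by rw [hf y, hf y', e])
  simpa using this

omit B in
theorem dataU_aux {r : T ≃* T} (B : Base r V) (hinv : ∀ x : T, x * x = 1 → x ∈ V)
    (hc : Subgroup.center T = V) {x y : T} (hxV : x ∉ V) (hy : y * y = x * x)
    (hu : ⁅x, y⁆ = r (x * x)) (hu1 : ⁅x, y⁆ ≠ 1) : ∃ D : Data PU T, Function.Bijective D.nf := by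
  have hsqV : ∀ g : T, g * g ∈ V := by
    intro g
    rw [← hc, Subgroup.mem_center_iff]
    intro h
    refine (commutatorElement_eq_one_iff_mul_comm.1 ?_).symm
    rw [B.comm_sq]
    exact B.sq _ (hc ▸ B.comm_mem_center g h)
  have hcV : ∀ a b : T, ⁅a, b⁆ ∈ V := fun a b => hc ▸ B.comm_mem_center a b
  set v := x * x with hv
  have hvV : v ∈ V := hsqV x
  have hv1 : v ≠ 1 := fun h => hxV (hinv x h)
  have hrvV := B.map v hvV
  set w := r v with hw
  have hrrv : r (r v) = v * w := B.vw_three hvV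
  have hformula := B.comm_r_formula (hcV x y)
  rw [hu] at hformula
  rw [B.fpf.cube] at hformula
  have hrc : ⁅r x, r y⁆ = v * w := by rw [← map_commutatorElement, hu, hrrv]
  have rev : ∀ a b : T, ⁅b, a⁆ = ⁅a, b⁆ := fun a b => by
    rw [← commutatorElement_inv a b, B.inv_eq (hcV a b)]
  let D : Data PU T :=
    { x1 := x
      x2 := r x
      y1 := y
      y2 := r y
      v := v
      w := w
      cv := fun g => B.central g v hvV
      cw := fun g => B.central g w hrvV
      v2 := B.sq v hvV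
      w2 := B.sq w hrvV
      hx := (B.fpf.comm_r x).symm.eq
      hy := (B.fpf.comm_r y).symm.eq
      hq1 := by show x * x = v * 1; rw [mul_one]
      hq2 := by show r x * r x = 1 * w; rw [one_mul, ← map_mul]
      hq3 := by show y * y = v * 1; rw [mul_one, hy]
      hq4 := by show r y * r y = 1 * w; rw [one_mul, ← map_mul, hy]
      h13 := by
        show y * x = x * y * (1 * w)
        rw [one_mul, B.swap_eq x y, rev x y, hu]
      h14 := by
        show r y * x = x * r y * (v * 1)
        rw [mul_one, B.swap_eq x (r y), rev x (r y), hformula.1]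
      h23 := by
        show y * r x = r x * y * (v * 1)
        rw [mul_one, B.swap_eq (r x) y, rev (r x) y, hformula.2]
      h24 := by
        show r y * r x = r x * r y * (v * w)
        rw [B.swap_eq (r x) (r y), rev (r x) (r y), hrc] }
  let C := Subgroup.centralizer ({x} : Set T)
  have hC : ∀ g, g ∈ C ↔ ⁅x, g⁆ = 1 := fun g => by
    rw [commutatorElement_eq_one_iff_mul_comm, Subgroup.mem_centralizer_singleton_iff]
    exact eq_comm
  have hCr : ∀ g ∈ C, r g ∈ C := by
    intro g hg
    rw [hC] at hg ⊢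
    have := (B.comm_r_formula (hcV x g)).1
    rwa [hg, map_one, map_one] at this
  have hVC : V ≤ C := fun n hn => Subgroup.mem_centralizer_singleton_iff.2 (B.central x n hn).symm
  have hyC : y ∉ C := fun h => hu1 ((hC y).1 h)
  obtain ⟨hy2, hy3, -⟩ := B.indep hCr hyC
  obtain ⟨hx2, hx3, -⟩ := B.indep B.map hxV
  have hw1 : w ≠ 1 := fun h => hv1 (r.injective (h.trans (map_one r).symm))
  have hvw : v ≠ w := fun h => hv1 (B.fpf.free v h.symm)
  have hinj : Function.Injective D.nf :=
    D.injective cancel_PU invC_PU (D.ker_trivial C (hVC hvV) (hVC hrvV) ((hC x).2 (commutatorElement_self x))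
      ((hC _).2 (B.comm_self_r x)) hyC hy2 hy3 V hvV hrvV hxV hx2 hx3 hv1 hw1 hvw)
  -- the centraliser of x has order at most 16
  have hC16 : Nat.card C ≤ 4 * Nat.card V := by
    refine subset_range_of (r := r) (x := x) fun g hg => ?_
    by_cases hgV : g ∈ V
    · exact ⟨false, false, g, hgV, by simp [pw]⟩
    have hg1 : g * g ≠ 1 := fun h => hgV (hinv g h)
    have key : ∀ c : T, Commute c g → c * c = g * g → c⁻¹ * g ∈ V := by
      intro c hcg he
      refine hinv _ ?_
      rw [hcg.inv_left.eq, mul_assoc, ← mul_assoc c⁻¹, hcg.inv_left.eq, mul_assoc, ← mul_inv_rev, he]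
      group
    have h0 : Commute x g := (Subgroup.mem_centralizer_singleton_iff.1 hg).symm
    have h1 : Commute (r x) g := by
      refine commutatorElement_eq_one_iff_mul_comm.1 ?_
      have := (B.comm_r_formula (hcV x g)).2
      rwa [(hC g).1 hg, map_one, map_one] at this
    rcases B.mem_cases hvV hv1 (hsqV g) with h | h | h | h
    · exact absurd h hg1
    · exact ⟨true, false, _, key x h0 h.symm, by simp [pw]⟩
    · exact ⟨false, true, _, key (r x) h1 (by rw [← map_mul, h]), by simp [pw]⟩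
    · refine ⟨true, true, _, key (x * r x) (h0.mul_left h1) ?_, by simp [pw]; group⟩
      rw [h, Commute.mul_mul_mul_comm (B.fpf.comm_r x).symm x (r x), ← map_mul]
  have hcard : Nat.card T ≤ 64 := by
    let θ : T →* V := MonoidHom.mk' (fun g => ⟨⁅x, g⁆, hcV x g⟩) fun g h =>
      Subtype.ext (B.comm_mul_right x g h)
    rw [← θ.ker.card_mul_index, Subgroup.index_ker]
    have hk : θ.ker ≤ C := fun g hg => (hC g).2 (congrArg Subtype.val hg)
    have h1 := le_trans (Subgroup.card_le_of_le hk) hC16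
    have h2 : Nat.card θ.range ≤ 4 := B.card4 ▸ Nat.card_le_card_of_injective Subtype.val Subtype.val_injective
    rw [B.card4] at h1
    calc Nat.card θ.ker * Nat.card θ.range ≤ (4 * 4) * 4 := Nat.mul_le_mul h1 h2
      _ = 64 := by norm_num
  exact ⟨D, D.bijective hinj hcard⟩

/-- All involutions in `V`, nonabelian: the type of `U_3(4)`. -/
theorem exists_dataU (hinv : ∀ x : T, x * x = 1 → x ∈ V) (hna : ¬ ∀ a b : T, a * b = b * a) :
    ∃ D : Data PU T, Function.Bijective D.nf := by
  have hc := B.center_eq_V hinv hna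
  obtain ⟨x, hx⟩ : ∃ x : T, x ∉ V := by
    by_contra h
    push Not at h
    exact hna fun a b => B.central a b (h b)
  have hcV : ∀ a b : T, ⁅a, b⁆ ∈ V := fun a b => hc ▸ B.comm_mem_center a b
  have hsqV : ∀ g : T, g * g ∈ V := by
    intro g
    rw [← hc, Subgroup.mem_center_iff]
    intro h
    refine (commutatorElement_eq_one_iff_mul_comm.1 ?_).symm
    rw [B.comm_sq]
    exact B.sq _ (hcV g h)
  have hvV := hsqV x
  have hv1 : x * x ≠ 1 := fun h => hx (hinv x h)
  obtain ⟨y0, hy0⟩ : ∃ y : T, ⁅x, y⁆ ≠ 1 := by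
    by_contra h
    push Not at h
    exact hx (hc ▸ Subgroup.mem_center_iff.2 fun g => (commutatorElement_eq_one_iff_mul_comm.1 (h g)).symm)
  have hmove : ∀ g, ⁅x, g⁆ ≠ 1 → ⁅x, r g⁆ ≠ 1 := by
    intro g hg h
    rw [(B.comm_r_formula (hcV x g)).1] at h
    exact hg (r.injective (r.injective (by rw [h, map_one, map_one])))
  obtain ⟨y, hy, hyu⟩ : ∃ y : T, y * y = x * x ∧ ⁅x, y⁆ ≠ 1 := by
    have hy1 : y0 * y0 ≠ 1 := fun h => hy0 (commutatorElement_eq_one_iff_mul_comm.2 (B.central x y0 (hinv _ h)))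
    rcases B.mem_cases hvV hv1 (hsqV y0) with h | h | h | h
    · exact absurd h hy1
    · exact ⟨y0, h, hy0⟩
    · refine ⟨r (r y0), ?_, hmove _ (hmove _ hy0)⟩
      rw [← map_mul, ← map_mul, h, B.fpf.cube]
    · refine ⟨r y0, ?_, hmove _ hy0⟩
      rw [← map_mul, h, ← B.vw_three hvV, B.fpf.cube]
  rcases B.mem_cases hvV hv1 (hcV x y) with h | h | h | h
  · exact absurd h hyu
  · -- an involution outside V otherwise
    exfalso
    have h1 : ⁅x, r y⁆ = r (r (x * x)) := by rw [(B.comm_r_formula (hcV x y)).1, h]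
    have h2 : (x * r y) * (x * r y) = 1 := by
      rw [B.mul_sq, ← map_mul r y y, hy, ← commutatorElement_inv x (r y), h1, B.vw_three hvV,
        B.inv_eq (mul_mem hvV (B.map _ hvV))]
      exact B.sq _ (mul_mem hvV (B.map _ hvV))
    have h3 := hinv _ h2
    have h4 : ⁅x, x * r y⁆ = 1 := commutatorElement_eq_one_iff_mul_comm.2 (B.central x _ h3)
    rw [B.comm_mul_right, commutatorElement_self, one_mul] at h4
    exact hmove y hyu h4
  · exact dataU_aux B hinv hc hx hy h hyu
  · refine dataU_aux B.twice hinv hc hx hy ?_ hyu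
    rw [h, ← B.vw_three hvV]; rfl

/-! ### an involution with fixed group `V` -/

omit B in
/-- a fixed coset of an invariant proper subgroup -/
theorem exists_fixed_coset (hT : IsPGroup 2 T) (τ : T ≃* T) (hτ : ∀ x, τ (τ x) = x) (S : Subgroup T)
    (hS : ∀ x ∈ S, τ x ∈ S) (hne : S ≠ ⊤) : ∃ w, w ∉ S ∧ w⁻¹ * τ w ∈ S := by
  haveI : Fact (Nat.Prime 2) := ⟨Nat.prime_two⟩
  classical
  haveI := Fintype.ofFinite (T ⧸ S)
  let f : T ⧸ S → T ⧸ S := Quotient.map' τ fun a b hab => by
    rw [QuotientGroup.leftRel_apply] at hab ⊢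
    rw [← map_inv, ← map_mul]
    exact hS _ hab
  have hf : ∀ t : T, f (QuotientGroup.mk t) = QuotientGroup.mk (τ t) := fun t => rfl
  have hff : Function.Involutive f := fun q => by
    induction q using QuotientGroup.induction_on with
    | _ t => rw [hf, hf, hτ]
  let σ : Equiv.Perm (T ⧸ S) := hff.toPerm
  have hσ : σ ^ 2 ^ 1 = 1 := by
    rw [pow_one, pow_two]
    exact Equiv.ext fun q => hff q
  have hdvd : 2 ∣ Fintype.card (T ⧸ S) := by
    obtain ⟨k, hk⟩ := hT.index S
    rw [← Nat.card_eq_fintype_card, ← Subgroup.index, hk]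
    refine dvd_pow_self 2 ?_
    rintro rfl
    exact hne (Subgroup.index_eq_one.1 hk)
  obtain ⟨b, hb, hb1⟩ := Equiv.Perm.exists_fixed_point_of_prime' hdvd hσ
    (a := (QuotientGroup.mk (1 : T) : T ⧸ S)) (by
      show f (QuotientGroup.mk (1 : T)) = QuotientGroup.mk (1 : T)
      rw [hf, map_one])
  induction b using QuotientGroup.induction_on with
  | _ w =>
    refine ⟨w, fun h => hb1 ?_, ?_⟩
    · rw [QuotientGroup.eq, mul_one]; exact inv_mem h
    · have : (QuotientGroup.mk (τ w) : T ⧸ S) = QuotientGroup.mk w := hb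
      exact QuotientGroup.eq.1 this.symm

/-- the involution `τ` -/
structure Tau (r τ : T ≃* T) (V : Subgroup T) : Prop where
  invol : ∀ x, τ (τ x) = x
  comm : ∀ x, τ (r x) = r (τ x)
  fix : ∀ x, τ x = x ↔ x ∈ V

variable {τ : T ≃* T} (H : Tau r τ V)
include H

theorem X_card_le : ∀ S : Subgroup T, (∀ x ∈ S, x⁻¹ * τ x ∈ V) → Nat.card S ≤ 16 := by
  intro S hS
  let f : S →* V := MonoidHom.mk' (fun x => ⟨x.1⁻¹ * τ x.1, hS x.1 x.2⟩) fun x y => Subtype.ext (by
    show (x.1 * y.1)⁻¹ * τ (x.1 * y.1) = x.1⁻¹ * τ x.1 * (y.1⁻¹ * τ y.1)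
    rw [map_mul, mul_inv_rev, mul_assoc, ← mul_assoc x.1⁻¹, ← mul_assoc, B.central y.1⁻¹ _ (hS x.1 x.2)]
    group)
  rw [← f.ker.card_mul_index, Subgroup.index_ker]
  have h1 : Nat.card f.ker ≤ 4 := by
    rw [← B.card4]
    refine Nat.card_le_card_of_injective (fun x : f.ker => (⟨x.1.1, ?_⟩ : V)) fun x y h => ?_
    · exact (H.fix _).1 (inv_mul_eq_one.1 (congrArg Subtype.val x.2)).symm
    · have h' : x.1.1 = y.1.1 := by simpa using h
      exact Subtype.ext (Subtype.ext h')
  have h2 : Nat.card f.range ≤ 4 :=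
    B.card4 ▸ Nat.card_le_card_of_injective Subtype.val Subtype.val_injective
  calc Nat.card f.ker * Nat.card f.range ≤ 4 * 4 := Nat.mul_le_mul h1 h2
    _ = 16 := rfl

/-- An invariant elementary abelian subgroup of order 16 is everything. -/
theorem eq_top_of_elementary (A : Subgroup T) (hA : Nat.card A = 16) (hA2 : ∀ x ∈ A, x * x = 1)
    (hAτ : ∀ x ∈ A, τ x ∈ A) : A = ⊤ := by
  by_contra hne
  obtain ⟨w, hw, hz⟩ := exists_fixed_coset B.isP τ H.invol A hAτ hne
  have hVfix : ∀ x ∈ A, x⁻¹ * τ x ∈ V := by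
    intro x hx
    rw [← H.fix, map_mul, map_inv, H.invol, inv_eq_of_mul_eq_one_right (hA2 _ (hAτ x hx)),
      inv_eq_of_mul_eq_one_right (hA2 x hx)]
    have := hA2 _ (mul_mem (hAτ x hx) hx)
    rw [← inv_eq_of_mul_eq_one_right this, mul_inv_rev, inv_eq_of_mul_eq_one_right (hA2 _ (hAτ x hx)),
      inv_eq_of_mul_eq_one_right (hA2 x hx)]
  have hzV : w⁻¹ * τ w ∈ V := by
    rw [← H.fix, map_mul, map_inv, H.invol]
    have h2 := hA2 _ hz
    rw [← inv_eq_of_mul_eq_one_right h2]
    group
  let X : Subgroup T :=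
    { carrier := {x | x⁻¹ * τ x ∈ V}
      one_mem' := by simp
      mul_mem' := fun {x y} (hx : x⁻¹ * τ x ∈ V) (hy : y⁻¹ * τ y ∈ V) => by
        show (x * y)⁻¹ * τ (x * y) ∈ V
        have e : (x * y)⁻¹ * τ (x * y) = x⁻¹ * τ x * (y⁻¹ * τ y) := by
          rw [map_mul, mul_inv_rev, mul_assoc, ← mul_assoc x⁻¹, ← mul_assoc, B.central y⁻¹ _ hx]; group
        rw [e]
        exact mul_mem hx hy
      inv_mem' := fun {x} (hx : x⁻¹ * τ x ∈ V) => by
        show x⁻¹⁻¹ * τ x⁻¹ ∈ V
        have e : x⁻¹⁻¹ * τ x⁻¹ = x * (x⁻¹ * τ x)⁻¹ * x⁻¹ := by rw [map_inv]; group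
        rw [e, B.central x _ (inv_mem hx), mul_inv_cancel_right]
        exact inv_mem hx }
  have hAX : A ≤ X := hVfix
  have hXA : A = X := Subgroup.eq_of_le_of_card_ge hAX (hA ▸ B.X_card_le H X fun x hx => hx)
  exact hw (hXA ▸ hzV)

omit [Group T] [Finite T] B H in
/-- τC -/
theorem solveL : ∀ u : Crd, PL.mulC (PL.mulC (((false, false), u.1, (false, false)))
    ((u.2.1, (false, false), u.2.2))) u = zero →
    ∃ s : Crd, PL.mulC (PL.invC s) (PL.mulC (((false, false), s.1, (false, false)))
      ((s.2.1, (false, false), s.2.2))) = u := by decide +kernel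

/-- Some involution outside the centre: the type of `L_3(4)`. -/
theorem exists_dataL (hom : ∀ x ∈ Subgroup.center T, x * x = 1 → x ∈ V) {a : T} (ha2 : a * a = 1)
    (haZ : a ∉ Subgroup.center T) : ∃ D : Data PL T, Function.Bijective D.nf := by
  have haV : a ∉ V := fun h => haZ (B.V_le_center h)
  have hinvol : ∀ g h : T, g * g = 1 → ⁅g, h⁆ ∈ V := fun g h hg =>
    hom _ (B.comm_mem_center g h) (by rw [← B.comm_sq, hg, commutatorElement_one_left])
  have hra2 : r a * r a = 1 := by rw [← map_mul, ha2, map_one]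
  -- the elementary abelian subgroup of a
  let A : Subgroup T := Subgroup.closure ({a, r a} ∪ (V : Set T))
  have hgens : ∀ x ∈ ({a, r a} ∪ (V : Set T)), ∀ y ∈ ({a, r a} ∪ (V : Set T)), x * y = y * x := by
    intro x hx y hy
    simp only [Set.mem_union, Set.mem_insert_iff, Set.mem_singleton_iff, SetLike.mem_coe] at hx hy
    rcases hx with (hx | hx) | hx <;> rcases hy with (hy | hy) | hy <;>
      first
        | exact B.central _ _ hy
        | exact (B.central _ _ hx).symm
        | (subst hx hy; rfl)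
        | (rw [hx, hy]; first | exact (B.fpf.comm_r a).eq | exact (B.fpf.comm_r a).symm.eq)
  haveI : IsMulCommutative A := Subgroup.isMulCommutative_closure hgens
  have hA2 : ∀ x ∈ A, x * x = 1 := by
    intro x hx
    induction hx using Subgroup.closure_induction with
    | mem y hy =>
      simp only [Set.mem_union, Set.mem_insert_iff, Set.mem_singleton_iff, SetLike.mem_coe] at hy
      rcases hy with (rfl | rfl) | hy
      exacts [ha2, hra2, B.sq _ hy]
    | one => exact one_mul _
    | mul y z hy hz ihy ihz =>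
      have hc : z * y = y * z := congrArg Subtype.val (mul_comm' (⟨z, hz⟩ : A) ⟨y, hy⟩)
      calc y * z * (y * z) = y * (z * y) * z := by group
        _ = (y * y) * (z * z) := by rw [hc]; group
        _ = 1 := by rw [ihy, ihz, one_mul]
    | inv y _ ihy => rw [← mul_inv_rev, ihy, inv_one]
  have hAform : ∀ x ∈ A, ∃ i j : Bool, ∃ n ∈ V, x = pw a i * pw (r a) j * n := by
    intro x hx
    induction hx using Subgroup.closure_induction with
    | mem y hy =>
      simp only [Set.mem_union, Set.mem_insert_iff, Set.mem_singleton_iff, SetLike.mem_coe] at hy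
      rcases hy with (rfl | rfl) | hy
      · exact ⟨true, false, 1, one_mem V, by simp [pw]⟩
      · exact ⟨false, true, 1, one_mem V, by simp [pw]⟩
      · exact ⟨false, false, y, hy, by simp [pw]⟩
    | one => exact ⟨false, false, 1, one_mem V, by simp [pw]⟩
    | mul y z _ _ ihy ihz =>
      obtain ⟨i, j, n, hn, rfl⟩ := ihy
      obtain ⟨k, l, m, hm, rfl⟩ := ihz
      refine ⟨xor i k, xor j l, n * m, mul_mem hn hm, ?_⟩
      have key : ∀ (g : T), g * g = 1 → ∀ s t : Bool, pw g s * pw g t = pw g (xor s t) := by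
        intro g hg s t; cases s <;> cases t <;> simp [pw, hg]
      have hc : Commute (pw (r a) j) (pw a k) := by
        cases j <;> cases k <;> simp [pw]
        exact (B.fpf.comm_r a).symm
      calc pw a i * pw (r a) j * n * (pw a k * pw (r a) l * m)
          = pw a i * pw (r a) j * (n * (pw a k * pw (r a) l)) * m := by group
        _ = pw a i * (pw (r a) j * pw a k) * pw (r a) l * n * m := by
            rw [← B.central (pw a k * pw (r a) l) n hn]; group
        _ = (pw a i * pw a k) * (pw (r a) j * pw (r a) l) * (n * m) := by rw [hc.eq]; group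
        _ = _ := by rw [key a ha2, key (r a) hra2]
    | inv y hy ihy => rw [inv_eq_of_mul_eq_one_right (hA2 y hy)]; exact ihy
  have hVA : V ≤ A := fun n hn => Subgroup.subset_closure (Or.inr hn)
  have haA : a ∈ A := Subgroup.subset_closure (by simp)
  have hraA : r a ∈ A := Subgroup.subset_closure (by simp)
  have hA16 : Nat.card A = 16 := by
    refine le_antisymm ?_ ?_
    · have := subset_range_of (r := r) hAform
      rwa [B.card4] at this
    · have := B.card_four B.map hVA haA hraA haV (by rw [ha2]; exact one_mem V)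
        (fun n hn g => B.central g n hn)
      rwa [B.card4] at this
  -- τ moves every element of A outside V out of A
  have hmove : ∀ c ∈ A, c ∉ V → τ c ∉ A := by
    intro c hc hcV hτc
    have hτV : ∀ n ∈ V, τ n ∈ A := fun n hn => by rw [(H.fix n).2 hn]; exact hVA hn
    have hrc : r c ∈ A := by
      obtain ⟨i, j, n, hn, rfl⟩ := hAform c hc
      rw [map_mul, map_mul]
      refine mul_mem (mul_mem ?_ ?_) (hVA (B.map n hn))
      · cases i
        · simpa [pw] using one_mem A
        · exact hraA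
      · cases j
        · simpa [pw] using one_mem A
        · show r (r a) ∈ A
          rw [B.fpf.sq a]
          exact inv_mem (mul_mem haA hraA)
    have hτrc : τ (r c) ∈ A := by
      obtain ⟨i, j, n, hn, he⟩ := hAform (τ c) hτc
      rw [H.comm, he, map_mul, map_mul]
      refine mul_mem (mul_mem ?_ ?_) (hVA (B.map n hn))
      · cases i
        · simpa [pw] using one_mem A
        · exact hraA
      · cases j
        · simpa [pw] using one_mem A
        · show r (r a) ∈ A
          rw [B.fpf.sq a]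
          exact inv_mem (mul_mem haA hraA)
    have hall : A ⊓ A.comap τ.toMonoidHom = A := by
      refine Subgroup.eq_of_le_of_card_ge inf_le_left ?_
      have := B.card_four B.map (Q := A ⊓ A.comap τ.toMonoidHom)
        (fun n hn => ⟨hVA hn, hτV n hn⟩) ⟨hc, hτc⟩ ⟨hrc, hτrc⟩ hcV
        (by rw [hA2 c hc]; exact one_mem V) (fun n hn g => B.central g n hn)
      rw [hA16]
      rwa [B.card4] at this
    have htop := B.eq_top_of_elementary H A hA16 hA2 (inf_eq_left.1 hall)
    apply haZ
    rw [Subgroup.mem_center_iff]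
    intro g
    exact congrArg Subtype.val (mul_comm' (⟨g, htop ▸ Subgroup.mem_top g⟩ : A) ⟨a, haA⟩)
  set b := τ a with hb
  have hbA : b ∉ A := hmove a haA haV
  set v := ⁅a, b⁆ with hv
  have hvV : v ∈ V := hinvol a b ha2
  have hv1 : v ≠ 1 := by
    intro h
    have hc : a * b = b * a := commutatorElement_eq_one_iff_mul_comm.1 h
    have h1 : τ (a * b) = a * b := by rw [map_mul, hb, H.invol, ← hb, hc]
    have h2 := (H.fix _).1 h1
    exact hbA (by have := mul_mem haA (hVA h2); rwa [← mul_assoc, ha2, one_mul] at this)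
  set w := r v with hw
  have hwV := B.map v hvV
  have hb2 : b * b = 1 := by rw [hb, ← map_mul, ha2, map_one]
  have hrb2 : r b * r b = 1 := by rw [← map_mul, hb2, map_one]
  obtain ⟨hf1, hf2⟩ := B.comm_r_formula hvV
  have hvw' : r (r v) = v * w := B.vw_three hvV
  have rev : ∀ g h : T, g * g = 1 → ⁅h, g⁆ = ⁅g, h⁆ := fun g h hg => by
    rw [← commutatorElement_inv g h, B.inv_eq (hinvol g h hg)]
  let D : Data PL T :=
    { x1 := a
      x2 := r a
      y1 := b
      y2 := r b
      v := v
      w := w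
      cv := fun g => B.central g v hvV
      cw := fun g => B.central g w hwV
      v2 := B.sq v hvV
      w2 := B.sq w hwV
      hx := (B.fpf.comm_r a).symm.eq
      hy := (B.fpf.comm_r b).symm.eq
      hq1 := by show a * a = 1 * 1; rw [one_mul, ha2]
      hq2 := by show r a * r a = 1 * 1; rw [one_mul, hra2]
      hq3 := by show b * b = 1 * 1; rw [one_mul, hb2]
      hq4 := by show r b * r b = 1 * 1; rw [one_mul, hrb2]
      h13 := by
        show b * a = a * b * (v * 1)
        rw [mul_one, B.swap_eq a b, rev a b ha2]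
      h14 := by
        show r b * a = a * r b * (v * w)
        rw [B.swap_eq a (r b), rev a (r b) ha2, hf1, hvw']
      h23 := by
        show b * r a = r a * b * (v * w)
        rw [B.swap_eq (r a) b, rev (r a) b hra2, hf2, hvw']
      h24 := by
        show r b * r a = r a * r b * (1 * w)
        rw [one_mul, B.swap_eq (r a) (r b), rev (r a) (r b) hra2, ← map_commutatorElement] }
  obtain ⟨hx2, hx3, -⟩ := B.indep B.map haV
  have hτra : τ (r a) = r b := H.comm a
  have hy2 : r b ∉ A := hτra ▸ hmove _ hraA hx2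
  have hy3 : b * r b ∉ A := by
    rw [← hτra, hb, ← map_mul]
    exact hmove _ (mul_mem haA hraA) hx3
  have hw1 : w ≠ 1 := fun h => hv1 (r.injective (h.trans (map_one r).symm))
  have hvw : v ≠ w := fun h => hv1 (B.fpf.free v h.symm)
  have hker := D.ker_trivial A (hVA hvV) (hVA hwV) haA hraA hbA hy2 hy3 V hvV hwV haV hx2 hx3 hv1 hw1 hvw
  have hinj : Function.Injective D.nf := D.injective cancel_PL invC_PL hker
  -- τ on normal forms
  have hτnf : ∀ u : Crd, τ (D.nf u) = D.nf (PL.mulC (((false, false), u.1, (false, false)))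
      ((u.2.1, (false, false), u.2.2))) := by
    intro u
    rw [← D.nf_mul]
    have hp : ∀ (g : T) (t : Bool), τ (pw g t) = pw (τ g) t := fun g t => by cases t <;> simp [pw]
    have hev : τ (D.ev u.2.2) = D.ev u.2.2 := by
      show τ (pw v u.2.2.1 * pw w u.2.2.2) = _
      rw [map_mul, hp, hp, (H.fix v).2 hvV, (H.fix w).2 hwV]
      rfl
    have e1 : τ b = a := by rw [hb, H.invol]
    have e2 : τ (r b) = r a := by rw [H.comm, e1]
    show τ (pw a u.1.1 * pw (r a) u.1.2 * (pw b u.2.1.1 * pw (r b) u.2.1.2) * D.ev u.2.2) = _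
    rw [map_mul, map_mul, map_mul, map_mul, hp, hp, hp, hp, hev, hτra, e1, e2, ← hb]
    simp only [Data.nf, pw_false, one_mul, mul_one, Data.ev_zero, mul_assoc]
    rfl
  let S := D.sub invC_PL
  have hS : ∀ x ∈ S, τ x ∈ S := by
    rintro _ ⟨u, rfl⟩
    exact ⟨_, (hτnf u).symm⟩
  have hVS : ∀ n ∈ V, n ∈ S := by
    have hvS : v ∈ S := ⟨((false, false), (false, false), (true, false)), by simp [Data.nf, Data.ev, pw]; rfl⟩
    have hwS : w ∈ S := ⟨((false, false), (false, false), (false, true)), by simp [Data.nf, Data.ev, pw]; rfl⟩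
    intro n hn
    rcases B.mem_cases hvV hv1 hn with rfl | rfl | rfl | rfl
    exacts [one_mem S, hvS, hwS, mul_mem hvS hwS]
  have hStop : S = ⊤ := by
    by_contra hne
    obtain ⟨g, hg, hz⟩ := exists_fixed_coset B.isP τ H.invol S hS hne
    obtain ⟨u, hu⟩ := hz
    have h1 : τ (D.nf u) * D.nf u = 1 := by
      rw [hu, map_mul, map_inv, H.invol]; group
    rw [hτnf, D.nf_mul] at h1
    obtain ⟨s, hs⟩ := solveL u (hker _ h1)
    have h2 : (D.nf s)⁻¹ * τ (D.nf s) = g⁻¹ * τ g := by
      rw [← hu, ← hs, ← D.nf_mul, ← hτnf]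
      congr 1
      exact inv_eq_of_mul_eq_one_right (by rw [D.nf_mul, invC_PL, D.nf_zero])
    have h3 : τ (g * (D.nf s)⁻¹) = g * (D.nf s)⁻¹ := by
      rw [map_mul, map_inv]
      have e : τ g = g * ((D.nf s)⁻¹ * τ (D.nf s)) := by rw [h2]; group
      rw [e]; group
    have h4 := mul_mem (hVS _ ((H.fix _).1 h3)) (⟨s, rfl⟩ : D.nf s ∈ S)
    rw [inv_mul_cancel_right] at h4
    exact hg h4
  refine ⟨D, hinj, fun x => ?_⟩
  have : x ∈ S := hStop ▸ Subgroup.mem_top x
  exact this

end Base

end Cfsg.Agent.HigmanFour65
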