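import Mathlib
import Cfsg.Agent.Lib.PSL2Elements
import Cfsg.Agent.Lib.ChevalleySL2

/-!
Higman's theorem on `SL(2, 2^n)` acting with elements of order three fixed point free, ring form:
a representation by `2 × 2` matrices over a ring of characteristic two, standard on `u(1)` and
`v(1)`, in which every element of trace one satisfies `X² + X + 1 = 0`, is given by a ring
homomorphism from the field.
-/

set_option autoImplicit false
set_option linter.all false

namespace Cfsg.Agent.HigmanSL2Ring

open Matrix Cfsg.Agent.PSL2Elements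
open scoped MatrixGroups

variable {K : Type*} [Field K] [CharP K 2]

/-- Lower unitriangular matrix. -/
def lo (x : K) : SL(2, K) := mk2 1 0 x 1 (by ring)

theorem neg_eq (x : K) : -x = x := CharTwo.neg_eq x

theorem two0 : (1 : K) + 1 = 0 := CharTwo.add_self_eq_zero 1

theorem w_eq : (w : SL(2, K)) = u 1 * lo 1 * u 1 := by
  apply ext2 <;> simp [u, lo, w, two0, neg_eq]

theorem lo_eq (x : K) : lo x = w * u x * w := by
  apply ext2 <;> simp [u, lo, w, two0, neg_eq]

theorem d_eq (a : Kˣ) : d a = u (a : K) * lo ((a⁻¹ : Kˣ) : K) * u (a : K) * w := by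
  apply ext2 <;> simp [u, lo, w, d, two0, neg_eq]

theorem tr_u_lo (a : Kˣ) : tr (u (a : K) * lo ((a⁻¹ : Kˣ) : K)) = 1 := by
  simp [tr, u, lo, add_assoc, two0]

theorem lo_u_eq (a b : K) : lo b * u a = (u a * lo b)⁻¹ := by
  rw [_root_.mul_inv_rev]
  congr 1 <;> rw [eq_inv_iff_mul_eq_one] <;> apply ext2 <;> simp [u, lo, CharTwo.add_self_eq_zero]

theorem commute_list {A : Type*} [Monoid A] {I : Type*} (f : I → A)
    (hc : ∀ i j, f i * f j = f j * f i) :
    ∀ (l : List I) (a : I), a ∈ l → ∃ r : A, (l.map f).prod = f a * r := by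
  intro l
  induction l with
  | nil => intro a h; simp at h
  | cons b l ih =>
    intro a h
    rcases List.mem_cons.mp h with rfl | h
    · exact ⟨(l.map f).prod, by simp⟩
    · obtain ⟨r, hr⟩ := ih a h
      exact ⟨f b * r, by rw [List.map_cons, List.prod_cons, hr, ← mul_assoc, hc, mul_assoc]⟩

variable {A : Type*} [Ring A] [Finite K]

set_option maxHeartbeats 1000000 in
/-- Higman's theorem, ring form. -/
theorem exists_ringHom (h2 : ∀ x : A, x + x = 0) (hK : ∃ k : K, k ≠ 0 ∧ k ≠ 1)
    (R : SL(2, K) →* Matrix (Fin 2) (Fin 2) A)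
    (hu1 : R (u 1) = !![1, 1; 0, 1]) (hv1 : R (lo 1) = !![1, 0; 1, 1])
    (hR : ∀ g : SL(2, K), tr g = 1 → R g * R g + R g + 1 = 0) :
    ∃ φ : K →+* A, ∀ g : SL(2, K), R g = g.1.map φ := by
  have hneg : ∀ x : A, -x = x := fun x => neg_eq_of_add_eq_zero_left (h2 x)
  have hsub : ∀ x y : A, x - y = x + y := fun x y => by rw [sub_eq_add_neg, hneg]
  have eq_of : ∀ x y : A, x + y = 0 → x = y := fun x y h => by
    rw [eq_neg_of_add_eq_zero_left h, hneg]
  let α : K → A := fun a => R (u a) 0 0
  let β : K → A := fun a => R (u a) 0 1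
  have hw : R (w : SL(2, K)) = !![0, 1; 1, 0] := by
    rw [w_eq, map_mul, map_mul, hu1, hv1]
    ext i j; fin_cases i <;> fin_cases j <;> simp [Matrix.mul_apply, Fin.sum_univ_two, h2]
  have hRu : ∀ a, R (u a) = !![α a, β a; 0, α a] := by
    intro a
    have h := congrArg R (show u a * u 1 = u 1 * u a by rw [u_mul, u_mul, add_comm])
    rw [map_mul, map_mul, hu1] at h
    have h00 := congrFun (congrFun h 0) 0
    have h01 := congrFun (congrFun h 0) 1
    simp [Matrix.mul_apply, Fin.sum_univ_two] at h00 h01
    have h11 : R (u a) 1 1 = R (u a) 0 0 := by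
      rw [add_comm (R (u a) 0 1)] at h01
      exact (add_right_cancel h01).symm
    ext i j; fin_cases i <;> fin_cases j <;> simp [α, β, h00, h11]
  have hRv : ∀ a, R (lo a) = !![α a, 0; β a, α a] := by
    intro a
    rw [lo_eq, map_mul, map_mul, hw, hRu]
    ext i j; fin_cases i <;> fin_cases j <;> simp [Matrix.mul_apply, Fin.sum_univ_two]
  have hadd : ∀ a c, α (a + c) = α a * α c ∧ β (a + c) = α a * β c + β a * α c := by
    intro a c
    have h := congrArg R (u_mul a c)
    rw [map_mul, hRu a, hRu c, hRu (a + c)] at h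
    have h00 := congrFun (congrFun h 0) 0
    have h01 := congrFun (congrFun h 0) 1
    simp [Matrix.mul_apply, Fin.sum_univ_two] at h00 h01
    exact ⟨h00.symm, h01.symm⟩
  have hα0 : α 0 = 1 := by simp [α, u_zero]
  have hβ0 : β 0 = 0 := by simp [β, u_zero]
  have hα1 : α 1 = 1 := by simp [α, hu1]
  have hβ1 : β 1 = 1 := by simp [β, hu1]
  have hαc : ∀ a c, α a * α c = α c * α a := fun a c => by
    rw [← (hadd a c).1, ← (hadd c a).1, add_comm]
  have hαα : ∀ a, α a * α a = 1 := fun a => by
    rw [← (hadd a a).1, CharTwo.add_self_eq_zero, hα0]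
  let N : K → A := fun a => α a + 1
  have hαN : ∀ a, α a = N a + 1 := fun a => by
    simp only [N]; rw [add_assoc, h2, add_zero]
  have hNN : ∀ a, N a * N a = 0 := fun a => by
    simp only [N, add_mul, mul_add, hαα, one_mul, mul_one]
    rw [show (1 : A) + α a + (α a + 1) = (1 + 1) + (α a + α a) by abel, h2, h2, add_zero]
  have hNc : ∀ a c, N a * N c = N c * N a := fun a c => by
    simp only [N, add_mul, mul_add, one_mul, mul_one, hαc a c]; abel
  -- elements of trace one
  have hone : ∀ g : SL(2, K), tr g = 1 → R g + R g⁻¹ = 1 := by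
    intro g hg
    have hneg' : ∀ X : Matrix (Fin 2) (Fin 2) A, -X = X := fun X => by ext i j; simp [hneg]
    have h1 : R g * (R g + 1) = 1 := by
      rw [mul_add, mul_one, eq_neg_of_add_eq_zero_left (hR g hg), hneg']
    have h4 : R g⁻¹ = R g + 1 := by
      calc R g⁻¹ = R g⁻¹ * (R g * (R g + 1)) := by rw [h1, mul_one]
        _ = R g + 1 := by rw [← mul_assoc, ← map_mul, inv_mul_cancel, map_one, one_mul]
    rw [h4, ← add_assoc]
    ext i j; simp [h2]
  have hpair : ∀ a : Kˣ, β a * β ((a⁻¹ : Kˣ) : K) = 1 ∧
      β (a : K) * α ((a⁻¹ : Kˣ) : K) = α ((a⁻¹ : Kˣ) : K) * β (a : K) := by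
    intro a
    have h := hone _ (tr_u_lo a)
    rw [← lo_u_eq, map_mul, map_mul, hRu, hRv] at h
    set b : K := ((a⁻¹ : Kˣ) : K)
    have h00 := congrFun (congrFun h 0) 0
    have h01 := congrFun (congrFun h 0) 1
    simp [Matrix.mul_apply, Fin.sum_univ_two] at h00 h01
    refine ⟨?_, eq_of _ _ h01⟩
    rwa [hαc b (a : K), show ∀ x y : A, x + y + x = y from fun x y => by
      rw [add_comm x y, add_assoc, h2, add_zero]] at h00
  have hinv' : ∀ a : Kˣ, β ((a⁻¹ : Kˣ) : K) * β a = 1 := fun a => by simpa using (hpair a⁻¹).1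
  let M : Kˣ → A := fun a => N a + N ((a⁻¹ : Kˣ) : K)
  have hMα : ∀ a : Kˣ, M a = α a + α ((a⁻¹ : Kˣ) : K) := fun a => by
    simp only [M, N]
    rw [show ∀ x y : A, x + 1 + (y + 1) = x + y + (1 + 1) from fun x y => by abel, h2, add_zero]
  have hRd : ∀ a : Kˣ, R (d a) = !![β a, M a; M a, β ((a⁻¹ : Kˣ) : K)] := by
    intro a
    rw [d_eq, map_mul, map_mul, map_mul, hRu, hRv, hw, hMα]
    obtain ⟨e1, c1⟩ := hpair a
    obtain ⟨-, c2⟩ := hpair a⁻¹
    rw [inv_inv] at c2
    set b : K := ((a⁻¹ : Kˣ) : K)
    have c0 : α (a : K) * β (a : K) = β (a : K) * α (a : K) := by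
      have h := (hadd (a : K) a).2
      rw [CharTwo.add_self_eq_zero, hβ0] at h
      exact eq_of _ _ h.symm
    have cαb : α b * α (a : K) = α (a : K) * α b := hαc _ _
    have e2 : β b * β (a : K) = 1 := hinv' a
    have s1 : α (a : K) * α b * α (a : K) = α b := by
      rw [mul_assoc, cαb, ← mul_assoc, hαα, one_mul]
    have g00 : (α (a : K) * α b + β (a : K) * β b) * α (a : K) = α (a : K) + α b := by
      rw [e1, add_mul, s1, one_mul, add_comm]
    have g01 : (α (a : K) * α b + β (a : K) * β b) * β (a : K) + β (a : K) * α b * α (a : K)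
        = β (a : K) := by
      rw [e1, add_mul, one_mul, c1, mul_assoc (α b), ← c0, ← mul_assoc, cαb,
        show ∀ x y : A, x + y + x = y from fun x y => by
          rw [add_comm x y, add_assoc, h2, add_zero]]
    have g10 : α (a : K) * β b * β (a : K) + α (a : K) * α b * α (a : K) = α (a : K) + α b := by
      rw [mul_assoc (α (a : K)) (β b), e2, mul_one, s1]
    have g11 : α (a : K) * β b * α (a : K) = β b := by
      rw [mul_assoc, c2, ← mul_assoc, hαα, one_mul]
    ext i j; fin_cases i <;> fin_cases j <;> simp [Matrix.mul_apply, Fin.sum_univ_two]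
    all_goals assumption
  -- the diagonal conjugates the upper unitriangular group
  have hdu : ∀ (a : Kˣ) (c : K),
      β (a : K) * N c = N ((a : K) ^ 2 * c) * β (a : K) + β ((a : K) ^ 2 * c) * M a ∧
      M a * β c + β ((a⁻¹ : Kˣ) : K) * N c = N ((a : K) ^ 2 * c) * β ((a⁻¹ : Kˣ) : K) ∧
      β ((a : K) ^ 2 * c) * β ((a⁻¹ : Kˣ) : K) = β (a : K) * β c := by
    intro a c
    have h := congrArg R (show d a * u c = u ((a : K) ^ 2 * c) * d a by
      rw [← mul_inv_eq_iff_eq_mul, d_conj_u])
    rw [map_mul, map_mul, hRu, hRu, hRd] at h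
    set x := (a : K) ^ 2 * c
    have h00 := congrFun (congrFun h 0) 0
    have h01 := congrFun (congrFun h 0) 1
    have h10 := congrFun (congrFun h 1) 0
    have h11 := congrFun (congrFun h 1) 1
    simp [Matrix.mul_apply, Fin.sum_univ_two, -Units.val_inv_eq_inv_val] at h00 h01 h10 h11
    refine ⟨?_, ?_, ?_⟩
    · rw [hαN c, hαN x, mul_add, add_mul, mul_one, one_mul,
        show ∀ q r s : A, q + r + s = q + s + r from fun q r s => add_right_comm q r s] at h00
      exact add_right_cancel h00
    · rw [hαN c, hαN x, mul_add, mul_one, add_mul (N x), one_mul, ← add_assoc] at h11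
      exact add_right_cancel h11
    · rw [h10, add_comm (α x * M a)] at h01
      exact (add_right_cancel h01).symm
  have hdd : ∀ a b : Kˣ, β ((a * b : Kˣ) : K) = β a * β b + M a * M b ∧
      M (a * b) = β a * M b + M a * β ((b⁻¹ : Kˣ) : K) := by
    intro a b
    have h := congrArg R (d_mul a b)
    rw [map_mul, hRd a, hRd b, hRd (a * b)] at h
    have h00 := congrFun (congrFun h 0) 0
    have h01 := congrFun (congrFun h 0) 1
    simp [Matrix.mul_apply, Fin.sum_univ_two, -Units.val_inv_eq_inv_val] at h00 h01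
    exact ⟨by simpa using h00.symm, h01.symm⟩
  have hMM : ∀ a : Kˣ, M a * M a = 0 ∧ β (a : K) * M a = M a * β (a : K) ∧
      β ((a⁻¹ : Kˣ) : K) * M a = M a * β ((a⁻¹ : Kˣ) : K) := by
    intro a
    have hM' : M a⁻¹ = M a := by simp only [M, inv_inv]; exact add_comm _ _
    obtain ⟨h1, h3⟩ := hdd a a⁻¹
    rw [mul_inv_cancel, Units.val_one, hβ1, (hpair a).1, hM'] at h1
    rw [mul_inv_cancel, hM', inv_inv] at h3
    have e : M (1 : Kˣ) = 0 := by simp [M, N, hα1, h2]
    rw [e] at h3
    have hc : β (a : K) * M a = M a * β (a : K) := eq_of _ _ h3.symm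
    refine ⟨by simpa using h1.symm, hc, ?_⟩
    calc β ((a⁻¹ : Kˣ) : K) * M a
        = β ((a⁻¹ : Kˣ) : K) * (M a * β (a : K)) * β ((a⁻¹ : Kˣ) : K) := by
          rw [mul_assoc, mul_assoc (M a), (hpair a).1, mul_one]
      _ = M a * β ((a⁻¹ : Kˣ) : K) := by rw [← hc, ← mul_assoc, hinv' a, one_mul]
  have hsq : ∀ e : K, e ≠ 0 → ∀ a : Kˣ, ∃ c : K, e = (a : K) ^ 2 * c := fun e _ a =>
    ⟨((a : K) ^ 2)⁻¹ * e, by rw [← mul_assoc, mul_inv_cancel₀ (pow_ne_zero 2 a.ne_zero), one_mul]⟩
  -- the vanishing spaces are invariant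
  have hL : ∀ (a : K) (r : A), (∀ e, N e * r = 0) → ∀ e, N e * (β a * r) = 0 := by
    intro a r hr e
    rcases eq_or_ne a 0 with rfl | ha
    · rw [hβ0, zero_mul, mul_zero]
    rcases eq_or_ne e 0 with rfl | he
    · simp [N, hα0, h2]
    obtain ⟨c, rfl⟩ := hsq e he (Units.mk0 a ha)
    obtain ⟨h1, -, -⟩ := hdu (Units.mk0 a ha) c
    have h := congrArg (· * r) h1
    have hMr : M (Units.mk0 a ha) * r = 0 := by simp only [M, add_mul, hr, add_zero]
    simp only [Units.val_mk0, add_mul, mul_assoc, hr, hMr, mul_zero, add_zero] at h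
    simpa using h.symm
  have hL2 : ∀ (a : K) (r : A), (∀ e e', N e * (N e' * r) = 0) →
      ∀ e e', N e * (N e' * (β a * r)) = 0 := by
    intro a r hr b e
    rcases eq_or_ne a 0 with rfl | ha
    · simp [hβ0]
    rcases eq_or_ne e 0 with rfl | he
    · simp [N, hα0, h2]
    obtain ⟨c, rfl⟩ := hsq e he (Units.mk0 a ha)
    obtain ⟨h1, -, -⟩ := hdu (Units.mk0 a ha) c
    have h := congrArg (fun z => N b * (z * r)) h1
    have hMr : ∀ e', N e' * (M (Units.mk0 a ha) * r) = 0 := fun e' => by
      simp only [M, add_mul, mul_add, hr, add_zero]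
    simp only [Units.val_mk0, add_mul, mul_add, mul_assoc, hL _ _ (fun e' => hr e' c),
      hL _ _ hMr, add_zero] at h
    simpa using h.symm
  have hstep : ∀ r : A, (∀ e e', N e * (N e' * r) = 0) → ∀ e, N e * r = 0 := by
    intro r hr
    have hNr : ∀ e e', N e' * (N e * r) = 0 := fun e e' => hr e' e
    -- on `r`, the map `β` is multiplicative and commutes
    have hmul : ∀ (a b : Kˣ) (s : A), (∀ e e', N e * (N e' * s) = 0) →
        β ((a * b : Kˣ) : K) * s = β a * (β b * s) := by
      intro a b s hs
      rw [(hdd a b).1, add_mul, mul_assoc, mul_assoc]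
      simp [M, add_mul, mul_add, hs]
    have hmul' : ∀ (a b : K) (s : A), (∀ e e', N e * (N e' * s) = 0) →
        β (a * b) * s = β a * (β b * s) := by
      intro a b s hs
      rcases eq_or_ne a 0 with rfl | ha
      · simp [hβ0]
      rcases eq_or_ne b 0 with rfl | hb
      · simp [hβ0]
      simpa using hmul (Units.mk0 a ha) (Units.mk0 b hb) s hs
    have hcom : ∀ (a b : K) (s : A), (∀ e e', N e * (N e' * s) = 0) →
        β a * (β b * s) = β b * (β a * s) := by
      intro a b s hs
      rw [← hmul' a b s hs, ← hmul' b a s hs, mul_comm]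
    have haddL : ∀ (a b : K) (s : A), (∀ e, N e * s = 0) →
        β (a + b) * s = β a * s + β b * s := by
      intro a b s hs
      rw [(hadd a b).2, hαN a, hαN b]
      simp only [add_mul, mul_add, mul_one, one_mul, mul_assoc, hs, hL _ _ hs, mul_zero, zero_add]
      rw [add_comm]
    have hsym : ∀ a c : K, N a * β c + β a * N c = N c * β a + β c * N a := by
      intro a c
      have h : α a * β c + β a * α c = α c * β a + β c * α a := by
        rw [← (hadd a c).2, ← (hadd c a).2, add_comm]
      simp only [hαN, add_mul, mul_add, one_mul, mul_one] at h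
      rw [add_add_add_comm, add_add_add_comm (N c * β a), add_comm (β a) (β c)] at h
      exact add_right_cancel h
    -- `N` commutes with `β` on `r`
    have hNβ : ∀ (a : Kˣ), (a : K) ≠ 1 → ∀ c, N c * (β a * r) = β a * (N c * r) := by
      intro a ha1 c
      obtain ⟨e1, e2, e3⟩ := hdu a c
      set x := (a : K) ^ 2 * c
      set b := ((a⁻¹ : Kˣ) : K) with hb
      set B := β (a : K) with hB
      set B' := β b with hB'
      have BB : ∀ z, B * (B' * z) = z := fun z => by rw [← mul_assoc, (hpair a).1, one_mul]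
      have BB' : ∀ z, B' * (B * z) = z := fun z => by rw [← mul_assoc, hinv' a, one_mul]
      -- two expressions for `N x`
      have f2 : N x = (M a * β c + B' * N c) * B := by
        rw [e2, mul_assoc, hinv' a, mul_one]
      have f1 : N x = (B * N c + β x * M a) * B' := by
        rw [e1, show ∀ p q : A, p + q + q = p from fun p q => by rw [add_assoc, h2, add_zero],
          mul_assoc, (hpair a).1, mul_one]
      have f3 : β x * M a * B' = B * β c * M a := by
        rw [mul_assoc, ← (hMM a).2.2, ← mul_assoc, e3]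
      have h := congrArg (· * r) (f1.symm.trans f2)
      simp only [add_mul, f3] at h
      -- the symmetric commutator
      have g1 := congrArg (· * r) (hsym (a : K) c)
      have g2 := congrArg (· * r) (hsym b c)
      simp only [add_mul, mul_assoc] at h g1 g2
      have hM1 : M a * (β c * (B * r)) = B * (M a * (β c * r)) := by
        rw [hcom c (a : K) r hr, ← mul_assoc (M a), ← (hMM a).2.1, mul_assoc]
      rw [hM1] at h
      have hMc : M a * (β c * r) + β c * (M a * r)
          = (N c * (B * r) + B * (N c * r)) + (N c * (B' * r) + B' * (N c * r)) := by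
        have q : ∀ p q s t : A, p + q = s + t → p + t = s + q := fun p q s t h => by
          calc p + t = (p + q) + (q + t) := by
                rw [show p + q + (q + t) = p + t + (q + q) by abel, h2, add_zero]
            _ = s + q := by rw [h, show s + t + (q + t) = s + q + (t + t) by abel, h2, add_zero]
        rw [show M a = N (a : K) + N b from rfl]
        simp only [add_mul, mul_add]
        rw [add_add_add_comm, q _ _ _ _ g1, q _ _ _ _ g2]
      have k1 : B * (N c * (B' * r)) + B' * (N c * (B * r))
          + B * ((N c * (B * r) + B * (N c * r)) + (N c * (B' * r) + B' * (N c * r))) = 0 := by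
        rw [← hMc, mul_add]
        have q : ∀ p q s t : A, p + q = s + t → p + t + (s + q) = 0 := fun p q s t h => by
          rw [show p + t + (s + q) = p + q + (s + t) by abel, h, h2]
        rw [show ∀ p q s t : A, p + q + (s + t) = p + q + (t + s) from fun p q s t => by abel]
        refine (?_ : _ = _).trans (q _ _ _ _ h)
        abel
      simp only [mul_add, BB] at k1
      set s := N c * (B * r) + B * (N c * r) with hs
      have k2 : B' * (N c * (B * r)) + B * (N c * (B * r)) + B * (B * (N c * r)) + N c * r = 0 := by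
        refine Eq.trans ?_ k1
        rw [show ∀ p q u v z : A, p + q + (u + v + (p + z)) = (p + p) + (q + u + v + z) from
          fun p q u v z => by abel, h2, zero_add]
      have k3 := congrArg (fun z => B * z) k2
      simp only [mul_add, BB, mul_zero] at k3
      have k4 : s + B * (B * s) = 0 := by
        refine Eq.trans ?_ k3
        rw [hs, mul_add, mul_add]; abel
      have hsL : ∀ e, N e * s = 0 := fun e => by
        rw [hs, mul_add, hL2 _ r hr e c, hL _ _ (hNr c) e, add_zero]
      have hsL2 : ∀ e e', N e * (N e' * s) = 0 := fun e e' => by rw [hsL, mul_zero]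
      rw [← hmul a a s hsL2] at k4
      have ha2 : (1 : K) + (a : K) * a ≠ 0 := fun h => ha1 (by
        have h' : ((a : K) + 1) * ((a : K) + 1) = 0 := by
          rw [add_mul_self_eq, mul_one, CharTwo.two_eq_zero, zero_mul, add_zero, one_mul,
            add_comm, h]
        exact CharTwo.add_eq_zero.mp (mul_self_eq_zero.mp h'))
      have k5 : β (1 + (a : K) * a) * s = 0 := by
        rw [haddL _ _ _ hsL, hβ1, one_mul]
        simpa using k4
      have k6 : s = 0 := by
        rw [← one_mul s, ← hinv' (Units.mk0 _ ha2), mul_assoc, Units.val_mk0, k5, mul_zero]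
      exact eq_of _ _ k6
    have hNβ' : ∀ a c : K, N c * (β a * r) = β a * (N c * r) := by
      intro a c
      rcases eq_or_ne a 0 with rfl | ha
      · simp [hβ0]
      rcases eq_or_ne a 1 with rfl | ha1
      · simp [hβ1]
      exact hNβ (Units.mk0 a ha) ha1 c
    -- the cocycle identity
    have hrec : ∀ (a : Kˣ) (c : K),
        N ((a : K) ^ 2 * c) * r = β c * (β (a : K) * (M a * r)) + N c * r := by
      intro a c
      obtain ⟨-, e2, -⟩ := hdu a c
      have f2 : N ((a : K) ^ 2 * c) = (M a * β c + β ((a⁻¹ : Kˣ) : K) * N c) * β (a : K) := by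
        rw [e2, mul_assoc, hinv' a, mul_one]
      rw [f2]
      simp only [add_mul, mul_assoc]
      rw [hNβ', ← mul_assoc (β ((a⁻¹ : Kˣ) : K)), hinv' a, one_mul]
      congr 1
      have q : ∀ e, N e * (β c * (β (a : K) * r)) = β c * (β (a : K) * (N e * r)) := fun e => by
        rw [← hmul' _ _ r hr, hNβ', hmul' _ _ (N e * r) (fun u v => by rw [hNr, mul_zero])]
      simp only [M, add_mul, mul_add, q]
    have hfn : ∀ x c : K, x ≠ 0 → N (x * c) * r = β c * (N x * r) + N c * r := by
      intro x c hx
      obtain ⟨y, hy⟩ := FiniteField.isSquare_of_char_two (ringChar.eq K 2) x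
      have hy0 : y ≠ 0 := fun h => hx (by rw [hy, h, mul_zero])
      have h1 := hrec (Units.mk0 y hy0) 1
      have h2' := hrec (Units.mk0 y hy0) c
      rw [Units.val_mk0, pow_two, ← hy] at h1 h2'
      rw [mul_one, hβ1, one_mul, show N (1 : K) = 0 by simp [N, hα1, h2], zero_mul, add_zero] at h1
      rw [h2', h1]
    have hNadd : ∀ x : K, N (x + 1) * r = N x * r := by
      intro x; simp only [N, (hadd x 1).1, hα1, mul_one]
    intro e
    rcases eq_or_ne e 0 with rfl | he
    · simp [N, hα0, h2]
    rcases eq_or_ne e 1 with rfl | he1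
    · simp [N, hα1, h2]
    -- compare `x = e` and `x + 1`
    have key : ∀ x : K, x ≠ 0 → β (1 + e) * (N x * r) = β (1 + x) * (N e * r) := by
      intro x hx
      have p1 := hfn x e hx
      have p2 := hfn e x he
      rw [mul_comm e x, p1] at p2
      rw [haddL _ _ _ (hNr x), haddL _ _ _ (hNr e), hβ1, one_mul, one_mul]
      calc N x * r + β e * (N x * r) = (β e * (N x * r) + N e * r) + (N x * r + N e * r) := by
            rw [show ∀ p q s : A, p + s + (q + s) = q + p + (s + s) from fun p q s => by abel,
              h2, add_zero]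
        _ = (β x * (N e * r) + N x * r) + (N x * r + N e * r) := by rw [p2]
        _ = N e * r + β x * (N e * r) := by
            rw [show ∀ p q s : A, p + q + (q + s) = s + p + (q + q) from fun p q s => by abel,
              h2, add_zero]
    obtain ⟨k, hk0, hk1⟩ := hK
    have e1 : e + 1 ≠ 0 := fun h => he1 (CharTwo.add_eq_zero.mp h)
    have q1 := key k hk0
    have q2 := key (k + 1) fun h => hk1 (CharTwo.add_eq_zero.mp h)
    rw [hNadd, q1, haddL _ _ _ (hNr e), haddL _ _ _ (hNr e), haddL _ _ _ (hNr e), hβ1, one_mul] at q2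
    rw [← add_assoc, add_comm (N e * r + β k * (N e * r))] at q2
    exact (add_eq_right.mp q2.symm)
  -- hence `N = 0`
  have hP : ∀ n : ℕ, (∀ l : List K, l.length = n + 1 → (l.map N).prod = 0) →
      ∀ l : List K, l.length = n → 0 < n → (l.map N).prod = 0 := by
    intro n hn l hl hn0
    match l with
    | [] => simp at hl; omega
    | e :: l =>
      rw [List.map_cons, List.prod_cons]
      refine hstep _ (fun b b' => ?_) e
      have := hn (b :: b' :: l) (by simp at hl ⊢; omega)
      simpa using this
  have hdup : ∀ l : List K, ¬ l.Nodup → (l.map N).prod = 0 := by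
    intro l
    induction l with
    | nil => simp
    | cons b l ih =>
      intro h
      rw [List.map_cons, List.prod_cons]
      by_cases hb : b ∈ l
      · obtain ⟨r, hr⟩ := commute_list N hNc l b hb
        rw [hr, ← mul_assoc, hNN, zero_mul]
      · rw [ih fun hl => h (List.nodup_cons.mpr ⟨hb, hl⟩), mul_zero]
  have hN0 : ∀ e, N e = 0 := by
    have hall : ∀ k : ℕ, ∀ l : List K, 0 < l.length → Nat.card K < l.length + k →
        (l.map N).prod = 0 := by
      intro k
      induction k with
      | zero =>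
        intro l _ hl
        refine hdup l fun hnd => ?_
        haveI := Fintype.ofFinite K
        have := hnd.length_le_card
        rw [Nat.card_eq_fintype_card] at hl
        omega
      | succ k ih =>
        intro l hl0 hl
        exact hP l.length (fun l' hl' => ih l' (by omega) (by omega)) l rfl hl0
    intro e
    simpa using hall (Nat.card K + 1) [e] (by simp) (by simp; omega)
  have hα : ∀ a, α a = 1 := fun a => by rw [hαN, hN0, zero_add]
  let φ : K →+* A :=
    { toFun := β
      map_one' := hβ1
      map_zero' := hβ0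
      map_add' := fun a b => by rw [(hadd a b).2, hα, hα, one_mul, mul_one, add_comm]
      map_mul' := fun a b => by
        rcases eq_or_ne a 0 with rfl | ha
        · simp [hβ0]
        rcases eq_or_ne b 0 with rfl | hb
        · simp [hβ0]
        have := (hdd (Units.mk0 a ha) (Units.mk0 b hb)).1
        simpa [M, hN0] using this }
  refine ⟨φ, fun g => ?_⟩
  have hmap : R = (φ.mapMatrix.toMonoidHom.comp
      ({ toFun := fun g => g.1, map_one' := rfl, map_mul' := fun _ _ => rfl } :
        SL(2, K) →* Matrix (Fin 2) (Fin 2) K)) := by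
    refine MonoidHom.eq_of_eqOn_denseM ChevalleySL2.gen_top ?_
    rintro _ (⟨t, rfl⟩ | rfl)
    · rw [show (ChevalleySL2.upper t : SL(2, K)) = u t from
        ext2 (by simp [u, ChevalleySL2.upper]) (by simp [u, ChevalleySL2.upper])
          (by simp [u, ChevalleySL2.upper]) (by simp [u, ChevalleySL2.upper]), hRu, hα]
      ext i j; fin_cases i <;> fin_cases j <;> simp [u, φ, hβ0, hβ1]
    · rw [show (ChevalleySL2.wel : SL(2, K)) = w from
        ext2 (by simp [w, ChevalleySL2.wel]) (by simp [w, ChevalleySL2.wel, neg_eq])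
          (by simp [w, ChevalleySL2.wel, neg_eq]) (by simp [w, ChevalleySL2.wel]), hw]
      ext i j; fin_cases i <;> fin_cases j <;> simp [w, φ, hβ0, hβ1, neg_eq]
  exact DFunLike.congr_fun hmap g

end Cfsg.Agent.HigmanSL2Ring
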