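import Mathlib
import Cfsg.Agent.Lib.HigmanSL2Ring

/-!
Higman's theorem on `SL(2, 2^n)` acting with elements of order three fixed point free, module form:
such a module of exponent dividing four is elementary, and an elementary one has natural coordinates.
-/

set_option autoImplicit false
set_option linter.all false

namespace Cfsg.Agent.HigmanSL2Module

open Matrix Cfsg.Agent.PSL2Elements Cfsg.Agent.HigmanSL2Ring
open scoped MatrixGroups

variable {K : Type*} [Field K] [CharP K 2] [Finite K]

/-- Elements of trace one satisfy `x² + x + 1 = 0`. -/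
def Fpf {M : Type*} [AddCommGroup M] (ρ : SL(2, K) →* AddMonoid.End M) : Prop :=
  ∀ g : SL(2, K), tr g = 1 → ∀ m : M, ρ g (ρ g m) + ρ g m + m = 0

theorem tr_u_lo_one : tr (u (1 : K) * lo 1) = 1 := by simpa using tr_u_lo (1 : Kˣ)

variable {M : Type*} [AddCommGroup M] {ρ : SL(2, K) →* AddMonoid.End M}

theorem u_u (x : K) : u x * u x = (1 : SL(2, K)) := by
  rw [u_mul, CharTwo.add_self_eq_zero, u_zero]

theorem lo_lo (x : K) : lo x * lo x = (1 : SL(2, K)) := by
  apply ext2 <;> simp [lo, CharTwo.add_self_eq_zero]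

theorem act_act {g h : SL(2, K)} (hgh : g * h = 1) (m : M) : ρ g (ρ h m) = m := by
  have := DFunLike.congr_fun (ρ.map_mul g h) m
  rw [hgh, map_one] at this
  exact this.symm

theorem act_mul (g h : SL(2, K)) (m : M) : ρ (g * h) m = ρ g (ρ h m) :=
  DFunLike.congr_fun (ρ.map_mul g h) m

/-- The relation between `u(1)` and `v(1)`. -/
theorem st_ts (hf : Fpf ρ) (m : M) :
    ρ (u 1) (ρ (lo 1) m) + ρ (lo 1) (ρ (u 1) m) + m = 0 := by
  set g := u (1 : K) * lo 1
  have h := hf g tr_u_lo_one (ρ (lo 1 * u 1) m)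
  have hg : g * (lo 1 * u 1) = 1 := by
    rw [lo_u_eq, mul_inv_cancel]
  rw [act_act hg, act_mul (u 1) (lo 1) m |> fun e => e, act_mul (lo 1) (u 1) m] at h
  rw [← h]; abel

/-- Natural coordinates on an elementary module. -/
theorem exists_coord (hK : ∃ k : K, k ≠ 0 ∧ k ≠ 1) (h2 : ∀ m : M, m + m = 0) (hf : Fpf ρ) :
    ∃ (C : AddSubgroup M) (φ : K →+* AddMonoid.End C) (Φ : M ≃+ (Fin 2 → C)),
      ∀ (g : SL(2, K)) (m : M) (i : Fin 2), Φ (ρ g m) i = ∑ j, φ (g.1 i j) (Φ m j) := by
  classical
  set s := ρ (u (1 : K)) with hs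
  set t := ρ (lo (1 : K)) with ht
  let N : M →+ M := { toFun := fun m => s m + m, map_zero' := by simp,
                      map_add' := fun a b => by simp [add_add_add_comm] }
  let P : M →+ M := { toFun := fun m => t m + m, map_zero' := by simp,
                      map_add' := fun a b => by simp [add_add_add_comm] }
  have hN : ∀ m, N m = s m + m := fun m => rfl
  have hP : ∀ m, P m = t m + m := fun m => rfl
  have hss : ∀ m, s (s m) = m := act_act (u_u 1)
  have htt : ∀ m, t (t m) = m := act_act (lo_lo 1)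
  have hNN : ∀ m, N (N m) = 0 := fun m => by
    rw [hN, hN, map_add, hss, show m + s m + (s m + m) = (m + m) + (s m + s m) by abel, h2, h2,
      add_zero]
  have hPP : ∀ m, P (P m) = 0 := fun m => by
    rw [hP, hP, map_add, htt, show m + t m + (t m + m) = (m + m) + (t m + t m) by abel, h2, h2,
      add_zero]
  have hNP : ∀ m, N (P m) + P (N m) = m := fun m => by
    rw [hN, hP, hP, hN, map_add, map_add,
      show s (t m) + s m + (t m + m) + (t (s m) + t m + (s m + m))
        = (s (t m) + t (s m) + m) + (s m + s m) + (t m + t m) + m by abel,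
      st_ts hf, h2, zero_add, h2, zero_add, zero_add]
  have hNPN : ∀ m, N (P (N m)) = N m := fun m => by
    have := congrArg N (hNP m)
    rwa [map_add, hNN, zero_add] at this
  let C : AddSubgroup M := N.range
  have hC : ∀ c : C, N (c : M) = 0 ∧ N (P (c : M)) = c := by
    rintro ⟨_, x, rfl⟩; exact ⟨hNN x, hNPN x⟩
  let Φ : M ≃+ (Fin 2 → C) :=
    { toFun := fun m => ![⟨N (P m), P m, rfl⟩, ⟨N m, m, rfl⟩]
      invFun := fun f => (f 0 : M) + P (f 1 : M)
      left_inv := fun m => hNP m
      right_inv := fun f => by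
        funext i
        fin_cases i <;> apply Subtype.ext
        · show N (P ((f 0 : M) + P (f 1 : M))) = f 0
          rw [map_add, map_add, (hC _).2, hPP, map_zero, add_zero]
        · show N ((f 0 : M) + P (f 1 : M)) = f 1
          rw [map_add, (hC _).1, (hC _).2, zero_add]
      map_add' := fun a b => by
        funext i
        fin_cases i <;> apply Subtype.ext <;> simp }
  let R' : SL(2, K) → Matrix (Fin 2) (Fin 2) (AddMonoid.End C) := fun g => Matrix.of fun i j =>
    AddMonoidHom.mk' (fun c => Φ (ρ g (Φ.symm (Pi.single j c))) i)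
      (fun a b => by rw [Pi.single_add, map_add, map_add, map_add]; rfl)
  have hR' : ∀ g i j (c : C), R' g i j c = Φ (ρ g (Φ.symm (Pi.single j c))) i := fun _ _ _ _ => rfl
  have hrep : ∀ g (m : M) i, ∑ j, R' g i j (Φ m j) = Φ (ρ g m) i := by
    intro g m i
    simp only [hR']
    rw [← Finset.sum_apply, ← map_sum Φ, ← map_sum (ρ g), ← map_sum Φ.symm,
      Finset.univ_sum_single, AddEquiv.symm_apply_apply]
  let R : SL(2, K) →* Matrix (Fin 2) (Fin 2) (AddMonoid.End C) :=
    { toFun := R'
      map_one' := by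
        refine Matrix.ext fun i j => DFunLike.ext _ _ fun c => ?_
        rw [hR', map_one]
        show Φ (Φ.symm (Pi.single j c)) i = _
        rw [AddEquiv.apply_symm_apply, Matrix.one_apply]
        rcases eq_or_ne i j with rfl | hij
        · rw [if_pos rfl, Pi.single_eq_same]; rfl
        · rw [if_neg hij, Pi.single_eq_of_ne hij]; rfl
      map_mul' := fun g h => by
        refine Matrix.ext fun i j => DFunLike.ext _ _ fun c => ?_
        rw [hR', act_mul, ← hrep g, Matrix.mul_apply]
        exact (AddMonoidHom.finsetSum_apply (M := C) (N := C)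
          (fun k => R' g i k * R' h k j) Finset.univ c).symm }
  have h2C : ∀ X : AddMonoid.End C, X + X = 0 := fun X =>
    DFunLike.ext _ _ fun c => Subtype.ext (h2 _)
  have hmat : ∀ (g : SL(2, K)) (X : Matrix (Fin 2) (Fin 2) (AddMonoid.End C)),
      (∀ (f : Fin 2 → C) i, Φ (ρ g (Φ.symm f)) i = ∑ j, X i j (f j)) → R g = X := by
    intro g X hX
    refine Matrix.ext fun i j => DFunLike.ext _ _ fun c => ?_
    show R' g i j c = _
    rw [hR', hX, Finset.sum_eq_single j, Pi.single_eq_same]
    · intro k _ hk; rw [Pi.single_eq_of_ne hk, map_zero]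
    · intro h; exact absurd (Finset.mem_univ j) h
  have hs1 : R (u 1) = !![1, 1; 0, 1] := by
    refine hmat _ _ fun f i => ?_
    show Φ (s ((f 0 : M) + P (f 1 : M))) i = _
    have e : s ((f 0 : M) + P (f 1 : M)) = ((f 0 + f 1 : C) : M) + P (f 1 : M) := by
      have : ∀ x, s x = N x + x := fun x => by rw [hN, add_assoc, h2, add_zero]
      rw [this, map_add, (hC _).1, (hC _).2, zero_add, AddSubgroup.coe_add]; abel
    rw [e, show ((f 0 + f 1 : C) : M) + P (f 1 : M) = Φ.symm ![f 0 + f 1, f 1] from rfl,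
      AddEquiv.apply_symm_apply]
    fin_cases i <;> simp [Fin.sum_univ_two]
  have ht1 : R (lo 1) = !![1, 0; 1, 1] := by
    refine hmat _ _ fun f i => ?_
    show Φ (t ((f 0 : M) + P (f 1 : M))) i = _
    have e : t ((f 0 : M) + P (f 1 : M)) = (f 0 : M) + P ((f 0 + f 1 : C) : M) := by
      have : ∀ x, t x = P x + x := fun x => by rw [hP, add_assoc, h2, add_zero]
      rw [this, AddSubgroup.coe_add, map_add, map_add, hPP, add_zero]; abel
    rw [e, show (f 0 : M) + P ((f 0 + f 1 : C) : M) = Φ.symm ![f 0, f 0 + f 1] from rfl,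
      AddEquiv.apply_symm_apply]
    fin_cases i <;> simp [Fin.sum_univ_two]
  have hR : ∀ g : SL(2, K), tr g = 1 → R g * R g + R g + 1 = 0 := by
    intro g hg
    rw [← map_mul]
    refine Matrix.ext fun i j => DFunLike.ext _ _ fun c => ?_
    have hf' := hf g hg (Φ.symm (Pi.single j c))
    have := congrFun (congrArg Φ hf') i
    simp only [map_add, map_zero, Pi.add_apply, Pi.zero_apply, AddEquiv.apply_symm_apply] at this
    show R' (g * g) i j c + R' g i j c + (1 : Matrix (Fin 2) (Fin 2) (AddMonoid.End C)) i j c = 0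
    rw [hR', hR', act_mul, Matrix.one_apply]
    rcases eq_or_ne i j with rfl | hij
    · rw [if_pos rfl]; rw [Pi.single_eq_same] at this; exact this
    · rw [if_neg hij]; rw [Pi.single_eq_of_ne hij] at this; exact this
  obtain ⟨φ, hφ⟩ := exists_ringHom h2C hK R hs1 ht1 hR
  refine ⟨C, φ, Φ, fun g m i => ?_⟩
  rw [← hrep g m i]
  refine Finset.sum_congr rfl fun j _ => ?_
  exact DFunLike.congr_fun (congrFun (congrFun (hφ g) i) j) _

/-- A module of exponent dividing four is elementary. -/
theorem add_self_eq_zero (hK : ∃ k : K, k ≠ 0 ∧ k ≠ 1) (h4 : ∀ m : M, (m + m) + (m + m) = 0)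
    (hf : Fpf ρ) : ∀ m : M, m + m = 0 := by
  classical
  let T : AddSubgroup M :=
    { carrier := {m | m + m = 0}
      zero_mem' := add_zero _
      add_mem' := fun {a b} ha hb => by
        show a + b + (a + b) = 0
        rw [add_add_add_comm, ha, hb, add_zero]
      neg_mem' := fun {a} ha => by
        show -a + -a = 0
        rw [← neg_add, ha, neg_zero] }
  let A := AddMonoid.End M
  have hmemT : ∀ x : M, x ∈ T ↔ x + x = 0 := fun x => Iff.rfl
  have hT2 : ∀ x : M, x + x ∈ T := h4
  have hX : ∀ (X : A) {x : M}, x ∈ T → X x ∈ T := fun X x hx => by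
    rw [hmemT, ← map_add, (hmemT x).mp hx, map_zero]
  let σ : SL(2, K) →* AddMonoid.End T :=
    { toFun := fun g => ((ρ g : M →+ M).comp T.subtype).codRestrict T (fun x => hX (ρ g) x.2)
      map_one' := DFunLike.ext _ _ fun x => Subtype.ext (by
        show ρ 1 (x : M) = x
        rw [map_one]; rfl)
      map_mul' := fun g h => DFunLike.ext _ _ fun x => Subtype.ext (act_mul g h x.1) }
  have hσ : Fpf σ := fun g hg x => Subtype.ext (hf g hg x.1)
  have h2T : ∀ x : T, x + x = 0 := fun x => Subtype.ext x.2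
  obtain ⟨C, φ, Φ, hΦ⟩ := exists_coord hK h2T hσ
  let res : A →+* AddMonoid.End T :=
    { toFun := fun X => ((X : M →+ M).comp T.subtype).codRestrict T (fun x => hX X x.2)
      map_one' := DFunLike.ext _ _ fun x => Subtype.ext rfl
      map_mul' := fun X Y => DFunLike.ext _ _ fun x => Subtype.ext rfl
      map_zero' := DFunLike.ext _ _ fun x => Subtype.ext rfl
      map_add' := fun X Y => DFunLike.ext _ _ fun x => Subtype.ext rfl }
  let κ : K →+* AddMonoid.End T :=
    { toFun := fun a => AddMonoidHom.mk' (fun x => Φ.symm fun i => φ a (Φ x i)) (fun x y => by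
        rw [← map_add Φ.symm]; congr 1; funext i; simp)
      map_one' := DFunLike.ext _ _ fun x => by
        show Φ.symm (fun i => φ 1 (Φ x i)) = x
        simp
      map_mul' := fun a b => DFunLike.ext _ _ fun x => by
        show Φ.symm (fun i => φ (a * b) (Φ x i))
          = Φ.symm (fun i => φ a (Φ (Φ.symm fun j => φ b (Φ x j)) i))
        simp
      map_zero' := DFunLike.ext _ _ fun x => by
        show Φ.symm (fun i => φ 0 (Φ x i)) = 0
        rw [← map_zero Φ.symm]; congr 1; funext i; simp
      map_add' := fun a b => DFunLike.ext _ _ fun x => by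
        show Φ.symm (fun i => φ (a + b) (Φ x i))
          = Φ.symm (fun i => φ a (Φ x i)) + Φ.symm (fun i => φ b (Φ x i))
        rw [← map_add Φ.symm]; congr 1; funext i; simp only [map_add]; rfl }
  have hext : ∀ X Y : AddMonoid.End T, (∀ x i, Φ (X x) i = Φ (Y x) i) → X = Y := fun X Y h =>
    DFunLike.ext _ _ fun x => Φ.injective (funext (h x))
  have hκ : ∀ a x i, Φ (κ a x) i = φ a (Φ x i) := fun a x i =>
    congrFun (Φ.apply_symm_apply fun i => φ a (Φ x i)) i
  let U : K → A := fun a => ρ (u a) - 1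
  let P : A := ρ (lo 1) - 1
  let N : A := U 1
  let S : K → A := fun a => U a * P + P * U a
  have hσU : ∀ a x, res (U a) x = σ (u a) x - x := fun a x => Subtype.ext rfl
  have hσP : ∀ x, res P x = σ (lo 1) x - x := fun x => Subtype.ext rfl
  have hU : ∀ a x, Φ (res (U a) x) 0 = φ a (Φ x 1) ∧ Φ (res (U a) x) 1 = 0 := by
    intro a x
    constructor <;> rw [hσU, map_sub, Pi.sub_apply, hΦ] <;> simp [Fin.sum_univ_two, u]
  have hPT : ∀ x, Φ (res P x) 0 = 0 ∧ Φ (res P x) 1 = Φ x 0 := by
    intro x
    constructor <;> rw [hσP, map_sub, Pi.sub_apply, hΦ] <;> simp [Fin.sum_univ_two, lo]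
  have hUN : ∀ a, res (U a) = res N * κ a ∧ res (U a) = κ a * res N := by
    intro a
    constructor
    · refine hext _ _ fun x i => ?_
      show _ = Φ (res (U 1) (κ a x)) i
      fin_cases i
      · simp [(hU a x).1, (hU 1 (κ a x)).1, hκ]
      · simp [(hU a x).2, (hU 1 (κ a x)).2]
    · refine hext _ _ fun x i => ?_
      show _ = Φ (κ a (res (U 1) x)) i
      rw [hκ]
      fin_cases i
      · simp [(hU a x).1, (hU 1 x).1]
      · simp [(hU a x).2, (hU 1 x).2]
  have hNP : res N * res P + res P * res N = 1 := by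
    refine hext _ _ fun x i => ?_
    show Φ (res (U 1) (res P x) + res P (res (U 1) x)) i = Φ x i
    rw [map_add, Pi.add_apply]
    fin_cases i
    · simp [(hU 1 (res P x)).1, (hPT x).2, (hPT (res (U 1) x)).1]
    · simp [(hU 1 (res P x)).2, (hPT (res (U 1) x)).2, (hU 1 x).1]
  have hNκ : ∀ a, Commute (res N) (κ a) := fun a => (hUN a).1.symm.trans (hUN a).2
  have hPκ : ∀ a, Commute (res P) (κ a) := fun a => hext _ _ fun x i => by
    show Φ (res P (κ a x)) i = Φ (κ a (res P x)) i
    rw [hκ]
    fin_cases i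
    · simp [(hPT (κ a x)).1, (hPT x).1]
    · simp [(hPT (κ a x)).2, (hPT x).2, hκ]
  have hS : ∀ a, res (S a) = κ a := fun a => by
    rw [map_add, map_mul, map_mul, (hUN a).2, mul_assoc (κ a), ← mul_assoc (res P),
      (hPκ a).eq, mul_assoc (κ a), ← mul_add, hNP, mul_one]
  -- exponent four
  have h4A : ∀ X : A, (X + X) + (X + X) = 0 := fun X => DFunLike.ext _ _ fun m => h4 _
  have heqT : ∀ X Y : A, res X = res Y → X + X = Y + Y := fun X Y h =>
    DFunLike.ext _ _ fun m => by
      have := congrArg Subtype.val (DFunLike.congr_fun h ⟨m + m, hT2 m⟩)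
      have : X (m + m) = Y (m + m) := this
      rw [map_add, map_add] at this
      exact this
  have himT : ∀ X : A, X + X = 0 → ∀ m, X m ∈ T := fun X h m => DFunLike.congr_fun h m
  have hker : ∀ X Y : A, res X = 0 → (∀ m, Y m ∈ T) → X * Y = 0 := fun X Y h hY =>
    DFunLike.ext _ _ fun m => congrArg Subtype.val (DFunLike.congr_fun h ⟨Y m, hY m⟩)
  have hneg2 : ∀ X : A, -(X + X) = X + X := fun X => neg_eq_of_add_eq_zero_left (h4A X)
  have huu : ∀ a, ρ (u a) * ρ (u a) = 1 := fun a => by rw [← map_mul, u_u, map_one]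
  have hUU : ∀ a, U a * U a = U a + U a := fun a => by
    rw [← hneg2 (U a)]
    simp only [U, sub_mul, mul_sub, huu, one_mul, mul_one]; abel
  have hUN' : ∀ a, U a * N = N * U a := fun a => by
    simp only [N, U, sub_mul, mul_sub, one_mul, mul_one, ← map_mul, u_mul, add_comm a 1]; abel
  obtain ⟨k, hk0, hk1⟩ := hK
  obtain ⟨r, hr⟩ : 2 ∣ Nat.card K := by
    haveI := Fintype.ofFinite K
    rw [Nat.card_eq_fintype_card]
    exact Nat.dvd_of_mod_eq_zero (FiniteField.even_card_of_char_two (ringChar.eq K 2))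
  have hk : k ^ (2 * r) = k := by
    haveI := Fintype.ofFinite K
    rw [← hr, Nat.card_eq_fintype_card, FiniteField.pow_card]
  set V := S k with hV
  set E := U k - N * V with hE
  set H := N * E with hH
  set c := N * (V * V) + N * V with hc
  have hV' : res V = κ k := hS k
  have hE0 : res E = 0 := by rw [hE, map_sub, map_mul, hV', (hUN k).1, sub_self]
  have hE2 : E + E = 0 := by rw [heqT E 0 (by rw [hE0, map_zero]), add_zero]
  have e1 : U k * E = V * H := by
    have := hker (U k - V * N) E (by rw [map_sub, map_mul, hV', (hUN k).2, sub_self]) (himT E hE2)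
    rw [sub_mul, sub_eq_zero] at this
    rw [this, hH, mul_assoc]
  have e2 : U k * N = (N * V + N * V) + H := by
    rw [hUN', show U k = N * V + E by rw [hE]; abel, mul_add, ← mul_assoc, hUU, add_mul, hH]
  have e3 : U k * (N * V) + U k * E = U k + U k := by
    rw [← mul_add, show N * V + E = U k by rw [hE]; abel, hUU]
  rw [← mul_assoc, e2, e1, add_mul (N * V + N * V) H V, add_mul (N * V) (N * V) V] at e3
  have e4 : U k + U k = N * V + N * V := heqT _ _ (by rw [map_mul, hV', (hUN k).1])
  have hrel : H * V + V * H = c + c := by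
    calc H * V + V * H
        = (N * V * V + N * V * V + H * V + V * H) - (N * V * V + N * V * V) := by abel
      _ = (N * V + N * V) + -(N * V * V + N * V * V) := by rw [e3, e4]; abel
      _ = c + c := by rw [hneg2, hc, mul_assoc]; abel
  have hcκ : Commute (res c) (κ k) := by
    rw [hc, map_add, map_mul, map_mul, map_mul, hV']
    exact (((hNκ k).mul_left ((Commute.refl _).mul_left (Commute.refl _))).add_left
      ((hNκ k).mul_left (Commute.refl _)))
  have hcV : (c + c) * V = V * (c + c) := by
    rw [add_mul c c V, mul_add V c c]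
    exact heqT _ _ (by rw [map_mul, map_mul, hV']; exact hcκ)
  have hcomm2 : Commute H (V * V) := by
    have a1 : H * V = (c + c) + -(V * H) := eq_add_neg_of_add_eq hrel
    show H * (V * V) = V * V * H
    rw [← mul_assoc, a1, add_mul (c + c) (-(V * H)) V, neg_mul, mul_assoc V H V, a1,
      mul_add V (c + c) (-(V * H)), hcV, mul_neg, neg_add,
      neg_neg, add_neg_cancel_left, mul_assoc]
  have hH0 : res H = 0 := by rw [hH, map_mul, hE0, mul_zero]
  have hHm : ∀ m, H m ∈ T := fun m => hX N (himT E hE2 m)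
  have hD : res (V - (V * V) ^ r) = 0 := by
    rw [map_sub, map_pow, map_mul, hV', ← map_mul, ← map_pow, ← pow_two, ← pow_mul, hk, sub_self]
  have hD2 : (V - (V * V) ^ r) + (V - (V * V) ^ r) = 0 := by
    rw [heqT _ 0 (by rw [hD, map_zero]), add_zero]
  have hHV : H * V = V * H := by
    have d1 := hker H _ hH0 (himT _ hD2)
    have d2 := hker _ H hD hHm
    rw [mul_sub, sub_eq_zero] at d1
    rw [sub_mul, sub_eq_zero] at d2
    rw [d1, d2, (hcomm2.pow_right r).eq]
  have hc0 : c + c = 0 := by
    rw [← hrel, hHV]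
    exact DFunLike.ext _ _ fun m => hX V (hHm m)
  have hkk : k * k + k ≠ 0 := fun h => by
    rw [← mul_add_one, mul_eq_zero] at h
    exact hk1 (CharTwo.add_eq_zero.mp (h.resolve_left hk0))
  have hN2 : N + N = 0 := by
    rw [heqT N (c * S (k * k + k)⁻¹) (by
      rw [hc, map_mul, map_add, map_mul, map_mul, map_mul, hV', hS, ← map_mul κ, ← mul_add,
        ← map_add κ, mul_assoc, ← map_mul κ, mul_inv_cancel₀ hkk, map_one, mul_one]),
      ← add_mul, hc0, zero_mul]
  have h1 : (1 : A) + 1 = 0 := by
    rw [← heqT (N * P + P * N) 1 (by rw [map_add, map_mul, map_mul, hNP, map_one]),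
      show N * P + P * N + (N * P + P * N) = (N + N) * P + P * (N + N) by
        rw [add_mul, mul_add]; abel, hN2, zero_mul, mul_zero, add_zero]
  intro m
  exact DFunLike.congr_fun h1 m

end Cfsg.Agent.HigmanSL2Module
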