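import Mathlib
import Cfsg.Agent.Lib.HigmanSL2Module

/-!
Higman's theorem: a `2`-group extended by `SL(2, 2^n)` with an element of order three acting fixed
point free is elementary abelian.
-/

set_option autoImplicit false
set_option linter.all false

namespace Cfsg.Agent.HigmanSL2Group

open Matrix Cfsg.Agent.PSL2Elements Cfsg.Agent.HigmanSL2Ring Cfsg.Agent.HigmanSL2Module
open scoped MatrixGroups commutatorElement IsMulCommutative

universe u

variable {K : Type*} [Field K] [CharP K 2] [Finite K]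

theorem tr_eq_one {A : SL(2, K)} (h3 : A ^ 3 = 1) (h1 : A ≠ 1) : tr A = 1 := by
  by_contra ht
  have hs := sq_eq A
  have h3' : A.1 * A.1 * A.1 = 1 := by
    rw [← coe_mul', ← coe_mul']
    exact (congrArg Subtype.val ((pow_three' A).symm.trans h3))
  have hu : tr A + 1 ≠ 0 := fun h => ht (CharTwo.add_eq_zero.mp h)
  have e1 : A.1 * A.1 * A.1 = (tr A * tr A - 1) • A.1 - tr A • (1 : Matrix (Fin 2) (Fin 2) K) := by
    rw [hs, sub_mul, smul_mul_assoc, one_mul, hs, smul_sub, smul_smul, sub_smul, one_smul]; abel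
  rw [h3'] at e1
  have e : ∀ i j, (tr A + 1) * A.1 i j = (1 : Matrix (Fin 2) (Fin 2) K) i j := by
    intro i j
    have e2 := congrFun (congrFun e1 i) j
    simp only [Matrix.sub_apply, Matrix.smul_apply, smul_eq_mul, CharTwo.sub_eq_add] at e2
    refine mul_left_cancel₀ hu ?_
    set o := (1 : Matrix (Fin 2) (Fin 2) K) i j
    set a := A.1 i j
    have h0 : (tr A * tr A + 1) * a + tr A * o + o = 0 := by
      rw [← e2]; exact CharTwo.add_self_eq_zero o
    rw [← sub_eq_zero, CharTwo.sub_eq_add, ← mul_assoc, ← h0]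
    linear_combination (tr A * a) * (CharTwo.two_eq_zero (R := K))
  have hd := det_eq A
  have e00 := e 0 0
  have e11 := e 1 1
  have e01 := e 0 1
  have e10 := e 1 0
  simp [hu] at e00 e11 e01 e10
  rw [e01, e10, zero_mul, sub_zero] at hd
  have hsq : (tr A + 1) * (tr A + 1) = 1 := by
    calc (tr A + 1) * (tr A + 1) = (tr A + 1) * (tr A + 1) * (A.1 0 0 * A.1 1 1) := by rw [hd, mul_one]
      _ = ((tr A + 1) * A.1 0 0) * ((tr A + 1) * A.1 1 1) := by ring
      _ = 1 := by rw [e00, e11, one_mul]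
  have h1' : tr A + 1 = 1 := by
    rcases mul_self_eq_one_iff.mp hsq with h | h
    · exact h
    · rw [h, CharTwo.neg_eq]
  rw [h1', one_mul] at e00 e11
  exact h1 (ext2 (by simpa using e00) (by simpa using e01) (by simpa using e10) (by simpa using e11))

/-- A lift with the two identities of a fixed point free automorphism of order three. -/
def Good {G : Type u} [Group G] (π : G →* SL(2, K)) : Prop :=
  ∀ g : SL(2, K), tr g = 1 → ∃ y : G, π y = g ∧ ∀ q ∈ π.ker,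
    q * (y * q * y⁻¹) * (y * (y * q * y⁻¹) * y⁻¹) = 1 ∧ q * (y * q * y⁻¹) = y * q * y⁻¹ * q

theorem good_of_fpf {G : Type u} [Group G] [Finite G] {π : G →* SL(2, K)}
    (hπ : Function.Surjective π)
    (x : G) (hx3 : x ^ 3 = 1) (hx : π x ≠ 1)
    (hfpf : ∀ q ∈ π.ker, x * q * x⁻¹ = q → q = 1) : Good π := by
  have hid : ∀ q ∈ π.ker, q * (x * q * x⁻¹) * (x * (x * q * x⁻¹) * x⁻¹) = 1 := by
    intro q hq
    let f : π.ker → π.ker := fun a =>
      ⟨(a : G)⁻¹ * (x * a * x⁻¹), mul_mem (inv_mem a.2) ((MonoidHom.normal_ker π).conj_mem _ a.2 x)⟩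
    have hf : Function.Injective f := by
      intro a b hab
      have h : (a : G)⁻¹ * (x * a * x⁻¹) = (b : G)⁻¹ * (x * b * x⁻¹) := congrArg Subtype.val hab
      have := hfpf ((b : G) * (a : G)⁻¹) (mul_mem b.2 (inv_mem a.2)) (by
        calc x * ((b : G) * (a : G)⁻¹) * x⁻¹
            = (b : G) * ((b : G)⁻¹ * (x * b * x⁻¹)) * ((a : G)⁻¹ * (x * a * x⁻¹))⁻¹ * (a : G)⁻¹ := by
              group
          _ = (b : G) * (a : G)⁻¹ := by rw [h, mul_inv_cancel_right])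
      exact Subtype.ext (mul_inv_eq_one.mp this).symm
    obtain ⟨a, ha⟩ := (Finite.injective_iff_surjective.mp hf) ⟨q, hq⟩
    have ha' : (a : G)⁻¹ * (x * a * x⁻¹) = q := congrArg Subtype.val ha
    rw [← ha']
    calc _ = (a : G)⁻¹ * (x * (x * x)) * a * (x * (x * x))⁻¹ := by group
      _ = 1 := by rw [← pow_three, hx3]; group
  intro g hg
  have htr : tr (π x) = 1 := tr_eq_one (by rw [← map_pow, hx3, map_one]) hx
  obtain ⟨c, hc⟩ := isConj_iff.mp (isConj_of_tr_eq (A := π x) (B := g) (by rw [htr, hg]) (by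
    rw [htr, one_pow]
    intro h
    exact one_ne_zero (h.trans (by
      rw [show (4 : K) = 2 * 2 by norm_num, CharTwo.two_eq_zero, zero_mul]))))
  obtain ⟨c, rfl⟩ := hπ c
  refine ⟨c * x * c⁻¹, by rw [map_mul, map_mul, map_inv, hc], ?_⟩
  have hy : ∀ q ∈ π.ker, q * (c * x * c⁻¹ * q * (c * x * c⁻¹)⁻¹) *
      (c * x * c⁻¹ * (c * x * c⁻¹ * q * (c * x * c⁻¹)⁻¹) * (c * x * c⁻¹)⁻¹) = 1 := by
    intro q hq
    have hq' : c⁻¹ * q * c ∈ π.ker := by
      simpa using (MonoidHom.normal_ker π).conj_mem q hq c⁻¹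
    calc _ = c * ((c⁻¹ * q * c) * (x * (c⁻¹ * q * c) * x⁻¹) *
          (x * (x * (c⁻¹ * q * c) * x⁻¹) * x⁻¹)) * c⁻¹ := by group
      _ = 1 := by rw [hid _ hq']; group
  intro q hq
  refine ⟨hy q hq, ?_⟩
  set y := c * x * c⁻¹
  have h1 := hy q hq
  have h2 := hy q⁻¹ (inv_mem hq)
  have h3 : y * (y * q * y⁻¹) * y⁻¹ = (q * (y * q * y⁻¹))⁻¹ := eq_inv_of_mul_eq_one_right h1
  have h4 : y * (y * q * y⁻¹) * y⁻¹ = (y * q * y⁻¹ * q)⁻¹ := by
    refine eq_inv_of_mul_eq_one_left ?_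
    calc y * (y * q * y⁻¹) * y⁻¹ * (y * q * y⁻¹ * q)
        = (q⁻¹ * (y * q⁻¹ * y⁻¹) * (y * (y * q⁻¹ * y⁻¹) * y⁻¹))⁻¹ := by simp [mul_assoc]
      _ = 1 := by rw [h2, inv_one]
  exact inv_injective (h3.symm.trans h4)

/-- The action on a commutative kernel. -/
theorem exists_rep {G : Type u} [Group G] [Finite G] (π : G →* SL(2, K))
    (hπ : Function.Surjective π) (hg : Good π) [hQc : IsMulCommutative π.ker] :
    ∃ ρ : SL(2, K) →* AddMonoid.End (Additive π.ker), Fpf ρ ∧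
      ∀ (y : G) (m : Additive π.ker), ((ρ (π y) m).toMul : G) = y * (m.toMul : G) * y⁻¹ := by
  have hc : ∀ a ∈ π.ker, ∀ b ∈ π.ker, a * b = b * a := fun a ha b hb =>
    congrArg Subtype.val (hQc.1.comm ⟨a, ha⟩ ⟨b, hb⟩)
  have hker : ∀ (y y' : G) (q : π.ker), π y = π y' → y * (q : G) * y⁻¹ = y' * q * y'⁻¹ := by
    intro y y' q h
    have hz : y'⁻¹ * y ∈ π.ker := by rw [MonoidHom.mem_ker, map_mul, map_inv, h, inv_mul_cancel]
    calc y * (q : G) * y⁻¹ = y' * ((y'⁻¹ * y) * q * (y'⁻¹ * y)⁻¹) * y'⁻¹ := by group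
      _ = _ := by rw [hc _ hz _ q.2, mul_inv_cancel_right]
  let act : SL(2, K) → AddMonoid.End (Additive π.ker) := fun g =>
    AddMonoidHom.mk' (fun m => Additive.ofMul
      ⟨Function.surjInv hπ g * (m.toMul : G) * (Function.surjInv hπ g)⁻¹,
        (MonoidHom.normal_ker π).conj_mem _ (Additive.toMul m).2 _⟩) (fun a b => by
      apply Additive.toMul.injective; apply Subtype.ext
      show _ * ((a.toMul : G) * b.toMul) * _⁻¹
        = (_ * (a.toMul : G) * _⁻¹) * (_ * (b.toMul : G) * _⁻¹)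
      group)
  have hact : ∀ (y : G) (m : Additive π.ker),
      ((act (π y) m).toMul : G) = y * (m.toMul : G) * y⁻¹ := fun y m =>
    hker _ y _ (Function.surjInv_eq hπ (π y))
  let ρ : SL(2, K) →* AddMonoid.End (Additive π.ker) :=
    { toFun := act
      map_one' := DFunLike.ext _ _ fun m => by
        apply Additive.toMul.injective; apply Subtype.ext
        rw [← map_one π, hact]; simp
      map_mul' := fun g h => DFunLike.ext _ _ fun m => by
        apply Additive.toMul.injective; apply Subtype.ext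
        obtain ⟨y, rfl⟩ := hπ g
        obtain ⟨z, rfl⟩ := hπ h
        rw [← map_mul π, hact]
        show _ = ((act (π y) (act (π z) m)).toMul : G)
        rw [hact, hact]; group }
  have hf : Fpf ρ := by
    intro g hg' m
    obtain ⟨y, rfl, hy⟩ := hg g hg'
    apply Additive.toMul.injective; apply Subtype.ext
    show ((act (π y) (act (π y) m)).toMul : G) * ((act (π y) m).toMul : G) * (m.toMul : G) = 1
    rw [hact, hact]
    have hQ := MonoidHom.normal_ker π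
    set q : G := (m.toMul : G)
    have hq : q ∈ π.ker := (Additive.toMul m).2
    rw [mul_assoc (y * _ * _), hc _ (hQ.conj_mem q hq y) _ hq,
      hc _ (hQ.conj_mem _ (hQ.conj_mem q hq y) y) _ (mul_mem hq (hQ.conj_mem q hq y))]
    exact (hy q hq).1
  exact ⟨ρ, hf, hact⟩

/-- The abelian case. -/
theorem sq_eq_one_of_comm {G : Type u} [Group G] [Finite G] (hK : ∃ k : K, k ≠ 0 ∧ k ≠ 1)
    (π : G →* SL(2, K)) (hπ : Function.Surjective π) (hg : Good π)
    (hc : ∀ a ∈ π.ker, ∀ b ∈ π.ker, a * b = b * a) (h4 : ∀ a ∈ π.ker, (a * a) * (a * a) = 1) :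
    ∀ a ∈ π.ker, a * a = 1 := by
  haveI : IsMulCommutative π.ker := ⟨⟨fun a b => Subtype.ext (hc _ a.2 _ b.2)⟩⟩
  obtain ⟨ρ, hf, -⟩ := exists_rep π hπ hg
  intro a ha
  have := HigmanSL2Module.add_self_eq_zero (ρ := ρ) hK (fun m => by
    apply Additive.toMul.injective; apply Subtype.ext
    exact h4 _ (Additive.toMul m).2) hf (Additive.ofMul ⟨a, ha⟩)
  exact congrArg Subtype.val (congrArg Additive.toMul this)

/-- Natural coordinates on an elementary kernel. -/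
theorem exists_coord {G : Type u} [Group G] [Finite G] (hK : ∃ k : K, k ≠ 0 ∧ k ≠ 1)
    (π : G →* SL(2, K)) (hπ : Function.Surjective π) (hg : Good π)
    (hc : ∀ a ∈ π.ker, ∀ b ∈ π.ker, a * b = b * a) (h2 : ∀ a ∈ π.ker, a * a = 1) :
    ∃ (C : Type u) (_ : AddCommGroup C) (φ : K →+* AddMonoid.End C) (co : π.ker → Fin 2 → C),
      Function.Bijective co ∧ (∀ a b, co (a * b) = co a + co b) ∧
      ∀ (y : G) (q : π.ker) (i : Fin 2),
        co ⟨y * q * y⁻¹, (MonoidHom.normal_ker π).conj_mem _ q.2 y⟩ i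
          = ∑ j, φ ((π y).1 i j) (co q j) := by
  haveI : IsMulCommutative π.ker := ⟨⟨fun a b => Subtype.ext (hc _ a.2 _ b.2)⟩⟩
  obtain ⟨ρ, hf, hact⟩ := exists_rep π hπ hg
  obtain ⟨C, φ, Φ, hΦ⟩ := HigmanSL2Module.exists_coord (ρ := ρ) hK (fun m => by
    apply Additive.toMul.injective; apply Subtype.ext
    exact h2 _ (Additive.toMul m).2) hf
  refine ⟨C, inferInstance, φ, fun q => Φ (Additive.ofMul q),
    Φ.bijective.comp Additive.ofMul.bijective, fun a b => map_add Φ _ _, fun y q i => ?_⟩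
  show Φ (Additive.ofMul _) i = _
  rw [← hΦ]
  refine congrFun (congrArg Φ (Additive.toMul.injective (Subtype.ext ?_))) i
  exact (hact y (Additive.ofMul q)).symm

/-- Upper nilpotent matrix. -/
def eU (t : K) : Matrix (Fin 2) (Fin 2) K := !![0, t; 0, 0]

/-- An element of trace one. -/
def g1 (a c : K) (hc : c ≠ 0) : SL(2, K) :=
  mk2 a ((a * a + a + 1) / c) c (a + 1) (by
    rw [div_mul_cancel₀ _ hc]
    linear_combination (-1 : K) * CharTwo.two_eq_zero (R := K))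

theorem tr_g1 (a c : K) (hc : c ≠ 0) : tr (g1 a c hc) = 1 := by
  simp [tr, g1]
  linear_combination a * CharTwo.two_eq_zero (R := K)

/-- An additive family of matrices containing `1` and the elements of trace one contains the
matrix units. -/
theorem units_mem (hK : ∃ k : K, k ≠ 0 ∧ k ≠ 1) (S : AddSubgroup (Matrix (Fin 2) (Fin 2) K))
    (h1 : (1 : Matrix (Fin 2) (Fin 2) K) ∈ S) (hS : ∀ g : SL(2, K), tr g = 1 → g.1 ∈ S) :
    !![0, 1; 0, 0] ∈ S ∧ !![0, 0; 1, 0] ∈ S ∧ !![1, 0; 0, 0] ∈ S := by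
  obtain ⟨k, hk0, hk1⟩ := hK
  have h2 := CharTwo.two_eq_zero (R := K)
  have hk : k + 1 ≠ 0 := fun h => hk1 (CharTwo.add_eq_zero.mp h)
  set c := (k + 1) * (k + 1) with hc
  have hc0 : c ≠ 0 := mul_ne_zero hk hk
  have hkc : k * c ≠ 0 := mul_ne_zero hk0 hc0
  have tsp : ∀ g : SL(2, K), tr g = 1 →
      ∃ g' : SL(2, K), tr g' = 1 ∧ g'.1 = g.1.transpose := fun g hg =>
    ⟨mk2 (g.1 0 0) (g.1 1 0) (g.1 0 1) (g.1 1 1) (by rw [mul_comm (g.1 1 0)]; exact det_eq g),
      by simpa [tr] using hg, by ext i j; fin_cases i <;> fin_cases j <;> simp⟩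
  have hsum : (g1 0 c hc0).1 + (g1 k c hc0).1 + (g1 0 (k * c) hkc).1 + (g1 k (k * c) hkc).1
      = !![0, 1; 0, 0] := by
    ext i j; fin_cases i <;> fin_cases j <;> simp [g1]
    · linear_combination k * h2
    · field_simp
      rw [hc]
      linear_combination (k + 1) * h2
    · linear_combination c * (1 + k) * h2
    · linear_combination (k + 2) * h2
  have he : !![0, 1; 0, 0] ∈ S := by
    rw [← hsum]
    exact add_mem (add_mem (add_mem (hS _ (tr_g1 ..)) (hS _ (tr_g1 ..))) (hS _ (tr_g1 ..)))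
      (hS _ (tr_g1 ..))
  have hf : !![0, 0; 1, 0] ∈ S := by
    obtain ⟨a, ha, ea⟩ := tsp _ (tr_g1 0 c hc0)
    obtain ⟨b, hb, eb⟩ := tsp _ (tr_g1 k c hc0)
    obtain ⟨a', ha', ea'⟩ := tsp _ (tr_g1 0 (k * c) hkc)
    obtain ⟨b', hb', eb'⟩ := tsp _ (tr_g1 k (k * c) hkc)
    have : a.1 + b.1 + a'.1 + b'.1 = !![0, 0; 1, 0] := by
      rw [ea, eb, ea', eb', ← transpose_add, ← transpose_add, ← transpose_add, hsum]
      ext i j; fin_cases i <;> fin_cases j <;> simp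
    rw [← this]
    exact add_mem (add_mem (add_mem (hS _ ha) (hS _ hb)) (hS _ ha')) (hS _ hb')
  refine ⟨he, hf, ?_⟩
  have : (1 : Matrix (Fin 2) (Fin 2) K) + (g1 0 1 one_ne_zero).1 + !![0, 1; 0, 0] + !![0, 0; 1, 0]
      = !![1, 0; 0, 0] := by
    ext i j; fin_cases i <;> fin_cases j <;> simp [g1, CharTwo.add_self_eq_zero]
  rw [← this]
  exact add_mem (add_mem (add_mem h1 (hS _ (tr_g1 ..))) he) hf

/-- **Higman.** The kernel is elementary abelian. -/
theorem elementary (hK : ∃ k : K, k ≠ 0 ∧ k ≠ 1) : ∀ (n : ℕ) {G : Type u} [Group G] [Finite G]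
    (π : G →* SL(2, K)), Nat.card π.ker = n → Function.Surjective π → IsPGroup 2 π.ker → Good π →
      (∀ a ∈ π.ker, a * a = 1) ∧ ∀ a ∈ π.ker, ∀ b ∈ π.ker, a * b = b * a := by
  intro n
  induction n using Nat.strong_induction_on with
  | _ n ih =>
  intro G _ _ π hn hπ hp hg
  haveI : Fact (Nat.Prime 2) := ⟨Nat.prime_two⟩
  have hQn := MonoidHom.normal_ker π
  set Q := π.ker with hQ
  by_cases hne : Q = ⊥
  · rw [hne]
    constructor
    · intro a ha; rw [Subgroup.mem_bot.mp ha, one_mul]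
    · intro a ha b hb; rw [Subgroup.mem_bot.mp ha, Subgroup.mem_bot.mp hb]
  let Z : Subgroup G :=
    { carrier := {z | z ∈ Q ∧ z * z = 1 ∧ ∀ q ∈ Q, z * q = q * z}
      one_mem' := ⟨one_mem _, one_mul _, fun q _ => by rw [one_mul, mul_one]⟩
      mul_mem' := fun {a b} ha hb => ⟨mul_mem ha.1 hb.1, by
        rw [mul_assoc, ← mul_assoc b, hb.2.2 a ha.1, mul_assoc a b b, hb.2.1, mul_one, ha.2.1],
        fun q hq => by rw [mul_assoc, hb.2.2 q hq, ← mul_assoc, ha.2.2 q hq, mul_assoc]⟩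
      inv_mem' := fun {a} ha => by
        rw [show a⁻¹ = a from inv_eq_of_mul_eq_one_right ha.2.1]; exact ha }
  haveI hZn : Z.Normal := ⟨fun z hz y => ⟨hQn.conj_mem z hz.1 y, by
      rw [show y * z * y⁻¹ * (y * z * y⁻¹) = y * (z * z) * y⁻¹ by group, hz.2.1]; group,
    fun q hq => by
      have hq' : y⁻¹ * q * y ∈ Q := by simpa using hQn.conj_mem q hq y⁻¹
      calc y * z * y⁻¹ * q = y * (z * (y⁻¹ * q * y)) * y⁻¹ := by group
        _ = y * ((y⁻¹ * q * y) * z) * y⁻¹ := by rw [hz.2.2 _ hq']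
        _ = _ := by group⟩⟩
  have hZne : Z ≠ ⊥ := by
    haveI : Nontrivial Q := (Subgroup.nontrivial_iff_ne_bot Q).mpr hne
    haveI := hp.center_nontrivial
    obtain ⟨z, hz⟩ := exists_prime_orderOf_dvd_card' (G := Subgroup.center Q) 2 (by
      obtain ⟨k, hk, hk'⟩ := (hp.to_subgroup (Subgroup.center Q)).nontrivial_iff_card.mp inferInstance
      rw [hk']; exact dvd_pow_self 2 hk.ne')
    intro hbot
    have hz1 : ((z : Q) : G) ∈ Z := ⟨(z : Q).2, by
      have := congrArg (fun q : Subgroup.center Q => ((q : Q) : G)) (hz ▸ pow_orderOf_eq_one z)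
      simpa [pow_two] using this, fun q hq =>
      (congrArg Subtype.val (Subgroup.mem_center_iff.mp z.2 ⟨q, hq⟩)).symm⟩
    rw [hbot, Subgroup.mem_bot] at hz1
    have : z = 1 := Subtype.ext (Subtype.ext hz1)
    rw [this, orderOf_one] at hz
    norm_num at hz
  have hZQ : Z ≤ Q := fun z hz => hz.1
  let π' : G ⧸ Z →* SL(2, K) := QuotientGroup.lift Z π (fun z hz => hZQ hz)
  have hπ'e : ∀ g : G, π' (g : G ⧸ Z) = π g := fun g => rfl
  have hπ' : Function.Surjective π' := fun s => by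
    obtain ⟨g, rfl⟩ := hπ s; exact ⟨g, rfl⟩
  have hker : π'.ker = Q.map (QuotientGroup.mk' Z) := by
    ext s
    obtain ⟨g, rfl⟩ := QuotientGroup.mk'_surjective Z s
    constructor
    · intro h; exact Subgroup.mem_map_of_mem _ h
    · rintro ⟨q, hq, e⟩
      show π g = 1
      rw [← hπ'e g, ← QuotientGroup.mk'_apply, ← e]
      exact hq
  have hcard : Nat.card π'.ker < n := by
    rw [hker, ← hn]
    obtain ⟨z, hz, hz1⟩ := (Subgroup.bot_or_exists_ne_one Z).resolve_left hZne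
    have hf : Function.Surjective ((QuotientGroup.mk' Z).subgroupMap Q) :=
      MonoidHom.subgroupMap_surjective _ _
    refine lt_of_le_of_ne (Nat.card_le_card_of_surjective _ hf) fun he => hz1 ?_
    have hb := (Nat.bijective_iff_surjective_and_card _).mpr ⟨hf, he.symm⟩
    exact congrArg Subtype.val (hb.1 (a₁ := ⟨z, hZQ hz⟩) (a₂ := 1) (Subtype.ext (by
      show ((z : G) : G ⧸ Z) = ((1 : G) : G ⧸ Z)
      rw [QuotientGroup.mk_one, QuotientGroup.eq_one_iff]; exact hz)))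
  have hp' : IsPGroup 2 π'.ker := by rw [hker]; exact hp.map _
  have hg' : Good π' := by
    intro g hg'
    obtain ⟨y, hy, hy'⟩ := hg g hg'
    refine ⟨(y : G ⧸ Z), hy, fun s hs => ?_⟩
    rw [hker] at hs
    obtain ⟨q, hq, rfl⟩ := hs
    exact ⟨congrArg (QuotientGroup.mk' Z) (hy' q hq).1, congrArg (QuotientGroup.mk' Z) (hy' q hq).2⟩
  obtain ⟨hI2, hIc⟩ := ih _ hcard π' rfl hπ' hp' hg'
  have hmk : ∀ a ∈ Q, (a : G ⧸ Z) ∈ π'.ker := fun a ha => by
    rw [hker]; exact Subgroup.mem_map_of_mem _ ha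
  have hsqZ : ∀ a ∈ Q, a * a ∈ Z := fun a ha =>
    (QuotientGroup.eq_one_iff _).mp (hI2 _ (hmk a ha))
  have hcomZ : ∀ a ∈ Q, ∀ b ∈ Q, ⁅a, b⁆ ∈ Z := fun a ha b hb => by
    refine (QuotientGroup.eq_one_iff _).mp ?_
    show QuotientGroup.mk' Z ⁅a, b⁆ = 1
    rw [map_commutatorElement, commutatorElement_eq_one_iff_mul_comm]
    exact hIc _ (hmk a ha) _ (hmk b hb)
  suffices hcomm : ∀ a ∈ Q, ∀ b ∈ Q, a * b = b * a by
    refine ⟨sq_eq_one_of_comm hK π hπ hg hcomm (fun a ha => (hsqZ a ha).2.1), hcomm⟩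
  obtain ⟨C, _, φ, co', hbij, hadd, hconj⟩ := exists_coord hK π' hπ' hg' hIc hI2
  let co : Q → Fin 2 → C := fun a => co' ⟨(a : G ⧸ Z), hmk a a.2⟩
  have co_add : ∀ a b : Q, co (a * b) = co a + co b := fun a b => hadd ⟨_, hmk a a.2⟩ ⟨_, hmk b b.2⟩
  have co_surj : ∀ v, ∃ a : Q, co a = v := fun v => by
    obtain ⟨⟨s, hs⟩, rfl⟩ := hbij.2 v
    rw [hker] at hs
    obtain ⟨q, hq, rfl⟩ := hs
    exact ⟨⟨q, hq⟩, rfl⟩
  have co_eq : ∀ a a' : Q, co a = co a' → (a : G)⁻¹ * a' ∈ Z := fun a a' h =>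
    QuotientGroup.eq.mp (congrArg Subtype.val (hbij.1 h))
  have hB1 : ∀ a b c : Q, ⁅((a * c : Q) : G), (b : G)⁆ = ⁅(a : G), (b : G)⁆ * ⁅(c : G), (b : G)⁆ := by
    intro a b c
    have hz := hcomZ _ c.2 _ b.2
    rw [Subgroup.coe_mul, commutatorElement_mul_left_eq_conj_mul,
      (hz.2.2 _ a.2).symm, mul_inv_cancel_right]
    exact hz.2.2 _ (hcomZ _ a.2 _ b.2).1
  have hBinv : ∀ a b : Q, ⁅(a : G), (b : G)⁆ = ⁅(b : G), (a : G)⁆ := by
    intro a b
    rw [← commutatorElement_inv, inv_eq_of_mul_eq_one_right (hcomZ _ b.2 _ a.2).2.1]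
  have hB2 : ∀ a b c : Q, ⁅(a : G), ((b * c : Q) : G)⁆ = ⁅(a : G), (b : G)⁆ * ⁅(a : G), (c : G)⁆ := by
    intro a b c
    rw [hBinv a (b * c), hB1, hBinv a b, hBinv a c]
  have hBZ : ∀ a a' b : Q, co a = co a' → ⁅(a : G), (b : G)⁆ = ⁅(a' : G), (b : G)⁆ := by
    intro a a' b h
    have hz := co_eq a a' h
    have : a' = a * ⟨(a : G)⁻¹ * a', hZQ hz⟩ := Subtype.ext (by simp)
    rw [this, hB1, show ⁅(((⟨(a : G)⁻¹ * a', hZQ hz⟩ : Q)) : G), (b : G)⁆ = 1 from
      commutatorElement_eq_one_iff_mul_comm.mpr (hz.2.2 _ b.2), mul_one]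
  -- the balanced matrices
  have φadd : ∀ (p q : K) (v : C), φ (p + q) v = φ p v + φ q v := fun p q v => by
    rw [map_add]; rfl
  let Rel : Matrix (Fin 2) (Fin 2) K → Q → Q → Prop :=
    fun r a a' => ∀ i, co a' i = ∑ j, φ (r i j) (co a j)
  have hex : ∀ r a, ∃ a', Rel r a a' := fun r a => by
    obtain ⟨a', ha'⟩ := co_surj (fun i => ∑ j, φ (r i j) (co a j))
    exact ⟨a', fun i => congrFun ha' i⟩
  let S : AddSubgroup (Matrix (Fin 2) (Fin 2) K) :=
    { carrier := {r | ∀ a a' b b' : Q, Rel r a a' → Rel r b b' →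
        ⁅(a : G), (b' : G)⁆ = ⁅(a' : G), (b : G)⁆}
      zero_mem' := fun a a' b b' ha hb => by
        have h0 : ∀ c : Q, (∀ i, co c i = 0) → co c = co 1 := fun c hc => by
          have h1 := co_add 1 1
          rw [one_mul, left_eq_add] at h1
          rw [h1]; exact funext hc
        rw [hBZ a' 1 b (h0 a' fun i => by simpa using ha i), hBinv a b',
          hBZ b' 1 a (h0 b' fun i => by simpa using hb i), Subgroup.coe_one,
          commutatorElement_one_left, commutatorElement_one_left]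
      add_mem' := fun {r s} hr hs a a' b b' ha hb => by
        obtain ⟨a1, ha1⟩ := hex r a
        obtain ⟨a2, ha2⟩ := hex s a
        obtain ⟨b1, hb1⟩ := hex r b
        obtain ⟨b2, hb2⟩ := hex s b
        have ea : co a' = co (a1 * a2) := funext fun i => by
          rw [co_add, Pi.add_apply, ha, ha1, ha2, ← Finset.sum_add_distrib]
          exact Finset.sum_congr rfl fun j _ => φadd _ _ _
        have eb : co b' = co (b1 * b2) := funext fun i => by
          rw [co_add, Pi.add_apply, hb, hb1, hb2, ← Finset.sum_add_distrib]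
          exact Finset.sum_congr rfl fun j _ => φadd _ _ _
        rw [hBinv a b', hBZ _ _ a eb, ← hBinv a, hB2, hBZ _ _ b ea, hB1, hr a a1 b b1 ha1 hb1,
          hs a a2 b b2 ha2 hb2]
      neg_mem' := fun {r} hr => by
        rw [show -r = r by ext i j; simp [CharTwo.neg_eq]]; exact hr }
  have h1S : (1 : Matrix (Fin 2) (Fin 2) K) ∈ S := by
    intro a a' b b' ha hb
    have e : ∀ c c' : Q, Rel 1 c c' → co c' = co c := fun c c' h => funext fun i => by
      rw [h i, Finset.sum_eq_single i (fun j _ hj => by rw [Matrix.one_apply_ne hj.symm, map_zero]; rfl)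
        (fun hi => absurd (Finset.mem_univ i) hi), Matrix.one_apply_eq, map_one]; rfl
    rw [hBinv a b', hBZ _ _ a (e b b' hb), hBinv b a, hBZ _ _ b (e a a' ha)]
  have hSg : ∀ g : SL(2, K), tr g = 1 → g.1 ∈ S := by
    intro g hg1 a a' b b' ha hb
    obtain ⟨y, rfl, hy⟩ := hg g hg1
    let cj : Q → Q := fun c => ⟨y * c * y⁻¹, hQn.conj_mem _ c.2 y⟩
    have e : ∀ c c' : Q, Rel (π y).1 c c' → co c' = co (cj c) := fun c c' h => funext fun i => by
      rw [h i]; exact (hconj (y : G ⧸ Z) ⟨_, hmk c c.2⟩ i).symm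
    have hm : ∀ c d : Q, cj (c * d) = cj c * cj d := fun c d => Subtype.ext (by
      show y * ((c : G) * d) * y⁻¹ = y * c * y⁻¹ * (y * d * y⁻¹)
      group)
    have h0 : ∀ c : Q, ⁅(c : G), (cj c : G)⁆ = 1 := fun c =>
      commutatorElement_eq_one_iff_mul_comm.mpr (hy c c.2).2
    have h := h0 (a * b)
    rw [hm, hB1, hB2, hB2, h0, h0, one_mul, mul_one] at h
    rw [hBinv a b', hBZ _ _ a (e b b' hb), ← hBinv a, hBZ _ _ b (e a a' ha), hBinv (cj a) b]
    exact eq_inv_of_mul_eq_one_left h |>.trans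
      (inv_eq_of_mul_eq_one_right (hcomZ _ b.2 _ (cj a).2).2.1)
  obtain ⟨he, hf, hd⟩ := units_mem hK S h1S hSg
  intro a ha b hb
  rw [← commutatorElement_eq_one_iff_mul_comm]
  obtain ⟨a₀, ha₀⟩ := hex !![0, 1; 0, 0] ⟨a, ha⟩
  obtain ⟨a₁, ha₁⟩ := hex !![0, 0; 1, 0] a₀
  obtain ⟨a₂, ha₂⟩ := hex !![1, 0; 0, 0] ⟨a, ha⟩
  obtain ⟨b₁, hb₁⟩ := hex !![0, 0; 1, 0] ⟨b, hb⟩
  obtain ⟨b₀, hb₀⟩ := hex !![0, 1; 0, 0] b₁
  obtain ⟨b₂, hb₂⟩ := hex !![1, 0; 0, 0] ⟨b, hb⟩
  have eb : co b₂ = co b₀ := funext fun i => by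
    rw [hb₂, hb₀]
    fin_cases i <;> simp [Fin.sum_univ_two, hb₁ 1]
  have ea : co (⟨a, ha⟩ : Q) = co (a₁ * a₂) := funext fun i => by
    rw [co_add, Pi.add_apply, ha₁, ha₂]
    fin_cases i <;> simp [Fin.sum_univ_two, ha₀ 0]
  have k1 := he ⟨a, ha⟩ a₀ b₁ b₀ ha₀ hb₀
  have k2 := hf a₀ a₁ ⟨b, hb⟩ b₁ ha₁ hb₁
  have k3 := hd ⟨a, ha⟩ a₂ ⟨b, hb⟩ b₂ ha₂ hb₂
  rw [hBinv ⟨a, ha⟩ b₂, hBZ _ _ _ eb, ← hBinv ⟨a, ha⟩, k1, k2] at k3
  show ⁅((⟨a, ha⟩ : Q) : G), ((⟨b, hb⟩ : Q) : G)⁆ = 1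
  rw [hBZ _ _ _ ea, hB1, k3]
  exact (hcomZ _ a₂.2 _ hb).2.1

end Cfsg.Agent.HigmanSL2Group
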