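import Cfsg.Agent.Lib.PointBlockGraph70
import Cfsg.Agent.Lib.LeechCoOneSimple
import Cfsg.Agent.Lib.LeechCertFix4

/-!
The Higman-Sims group acting on the point-block graph of an S(3,6,22).
-/

set_option autoImplicit false

namespace Cfsg.Agent.HigmanSimsModel70

open Cfsg Finset Cfsg.Agent.LeechBasic Cfsg.Agent.LeechAut Cfsg.Agent.LeechCert
open Cfsg.Agent.SteinerTwoPoint70 Cfsg.Agent.SteinerTwoPointAut70
open scoped Pointwise

/-- The group fixing the two standard vectors. -/
abbrev HSStab : Subgroup Co0 :=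
  MulAction.stabilizer Co0 Spor.leechV ⊓ MulAction.stabilizer Co0 Spor.leechU'

/-- The hundred vectors. -/
def hundred : Set leechLattice :=
  {x | sqNorm (x : GolayPt → ℤ) = 32 ∧ dotInt Spor.vecV (x : GolayPt → ℤ) = -24 ∧
    dotInt (-(Spor.vecV + Spor.vecU')) (x : GolayPt → ℤ) = 24}

theorem census_eq : LeechCensus.censusSum Fix4.fixedCodes 32 (-24, 24, 0) Fix4.profiles = 100 := by
  decide +kernel

theorem ncard_hundred : hundred.ncard = 100 := by
  rw [show hundred = census (cV, cW, c0) 32 (-24, 24, 0) from Set.ext fun x => by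
    rw [mem_census₂, vec_cV, vec_cW]; rfl]
  exact (ncard_census Fix4.profiles_ok (by norm_num) _).trans census_eq

/-- A multiple of an indicator. -/
def blockVec (n : ℤ) (o : Finset GolayPt) : GolayPt → ℤ := fun p => if p ∈ o then n else 0

theorem dot_blockVec (n : ℤ) (o : Finset GolayPt) (x : GolayPt → ℤ) :
    dotInt (blockVec n o) x = n * ∑ p ∈ o, x p := by
  simp only [dotInt, blockVec, ite_mul, zero_mul]
  rw [sum_ite_mem, univ_inter, mul_sum]

theorem dot_blockVec' (n : ℤ) (o : Finset GolayPt) (x : GolayPt → ℤ) :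
    dotInt x (blockVec n o) = n * ∑ p ∈ o, x p := by
  rw [LeechAut.dotInt_comm, dot_blockVec]

theorem sum_blockVec (n : ℤ) (o s : Finset GolayPt) :
    ∑ p ∈ s, blockVec n o p = n * (s ∩ o).card := by
  simp only [blockVec]
  rw [sum_ite_mem, sum_const, nsmul_eq_mul, mul_comm]

/-- The vector of a point. -/
def ptVec (q : GolayPt) : GolayPt → ℤ := fun p => if p = q then -3 else 1

theorem sum_ptVec (q : GolayPt) (s : Finset GolayPt) :
    ∑ p ∈ s, ptVec q p = (s.card : ℤ) - if q ∈ s then 4 else 0 := by
  have e : ∀ p, ptVec q p = 1 - if p = q then 4 else 0 := fun p => by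
    simp only [ptVec]; split_ifs <;> norm_num
  simp only [e, sum_sub_distrib, sum_const, nsmul_eq_mul, mul_one, sum_ite_eq']

theorem dot_ptVec (q : GolayPt) (x : GolayPt → ℤ) :
    dotInt (ptVec q) x = (∑ p, x p) - 4 * x q := by
  have e : ∀ p, ptVec q p * x p = x p - if p = q then 4 * x p else 0 := fun p => by
    simp only [ptVec]; split_ifs <;> ring
  simp only [dotInt, e, sum_sub_distrib, sum_ite_eq', mem_univ, if_true]

theorem vecV_eq : Spor.vecV = fun p => -1 - if p = none then 4 else 0 := by
  funext p; simp only [Spor.vecV]; split_ifs <;> norm_num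

theorem dot_vecV (x : GolayPt → ℤ) : dotInt Spor.vecV x = -(∑ p, x p) - 4 * x none := by
  have e : ∀ p, Spor.vecV p * x p = -x p - if p = none then 4 * x p else 0 := fun p => by
    simp only [vecV_eq]; split_ifs <;> ring
  simp only [dotInt, e, sum_sub_distrib, sum_neg_distrib, sum_ite_eq', mem_univ, if_true]

theorem dot_vecW (x : GolayPt → ℤ) :
    dotInt (-(Spor.vecV + Spor.vecU')) x = (∑ p, x p) + 4 * x (some 0) := by
  have e : ∀ p, (-(Spor.vecV + Spor.vecU')) p * x p =
      x p + if p = some 0 then 4 * x p else 0 := fun p => by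
    simp only [Pi.neg_apply, Pi.add_apply, Spor.vecV, Spor.vecU']
    split_ifs <;> simp_all <;> ring
  simp only [dotInt, e, sum_add_distrib, sum_ite_eq', mem_univ, if_true]

theorem card_univ24 : ((univ : Finset GolayPt).card : ℤ) = 24 := by
  rw [LeechBasic.card_univ_pt]; norm_num

theorem four_pair_mem : blockVec 4 pair ∈ leechLattice :=
  AddSubgroup.subset_closure (Spor.mem_leechSet_of_const_mod_four _ 0 0 (by decide) (by decide) (by decide))

theorem ptVec_mem (q : GolayPt) : ptVec q ∈ leechLattice := by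
  refine AddSubgroup.subset_closure (Spor.mem_leechSet_of_const_mod_four _ 1 1 (by decide) (fun i => ?_) ?_)
  · simp only [ptVec]; split_ifs <;> decide
  · rw [sum_ptVec, card_univ24, if_pos (mem_univ q)]; decide

theorem two_octad_mem {o : Finset GolayPt} (ho : o ∈ octads) : blockVec 2 o ∈ leechLattice := by
  refine mem_leechLattice.2 ⟨fun i => ?_, ?_, ?_⟩
  · simp only [blockVec]; split_ifs <;> rfl
  · rw [sum_blockVec, univ_inter, ho.2]
    simp only [blockVec]; split_ifs <;> rfl
  · obtain ⟨w, hw, hwo⟩ := ho.1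
    suffices wbit (blockVec 2 o) = w by rw [this]; exact hw
    funext p
    have hp : p ∈ o ↔ w p ≠ 0 := by rw [← hwo]; simp [support₂]
    simp only [wbit, blockVec]
    rcases AbstractGolay.z2 (w p) with h | h
    · rw [if_neg (by rw [hp]; simp [h]), h]; rfl
    · rw [if_pos (hp.2 (by rw [h]; exact one_ne_zero)), h]; rfl

variable {α : Type*} {B : Set (Finset α)} {E : Option (Option α) ≃ GolayPt}

/-- The coordinate vector of a vertex. -/
def vtx (E : Option (Option α) ≃ GolayPt) : Option (α ⊕ B) → GolayPt → ℤ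
  | none => blockVec 4 pair
  | some (Sum.inl a) => ptVec (E (some (some a)))
  | some (Sum.inr b) => blockVec 2 ((ext2 (b : Finset α)).map E.toEmbedding)

variable [Fintype α] [DecidableEq α]

theorem dot_vtx (hv : Fintype.card α = 22) (hB : IsSteinerSystem 3 6 B) (h0 : E none = none)
    (h1 : E (some none) = some 0) (x y : Option (α ⊕ B)) :
    (x = y → dotInt (vtx E x) (vtx E y) = 32) ∧
      (x ≠ y → dotInt (vtx E x) (vtx E y) = 8 ∨ dotInt (vtx E x) (vtx E y) = 16) ∧
      ((pointBlockGraph B).Adj x y ↔ dotInt (vtx E x) (vtx E y) = 8) := by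
  classical
  have hp2 : (pair : Finset GolayPt).card = 2 := by decide
  have hnp : ∀ a : α, E (some (some a)) ∉ pair := fun a => (not_mem_pair_iff E h0 h1).2 ⟨a, rfl⟩
  have hsub : ∀ b : Finset α, pair ∩ (ext2 b).map E.toEmbedding = pair := fun b =>
    inter_eq_left.2 fun p hp => by
      rcases mem_pair.1 hp with rfl | rfl
      · exact mem_map.2 ⟨none, none_mem_ext2 b, h0⟩
      · exact mem_map.2 ⟨some none, some_none_mem_ext2 b, h1⟩
  have hmem : ∀ (a : α) (b : Finset α), E (some (some a)) ∈ (ext2 b).map E.toEmbedding ↔ a ∈ b :=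
    fun a b => by rw [show E (some (some a)) = E.toEmbedding (some (some a)) from rfl, mem_map', mem_ext2]
  have hc8 : ∀ b : B, ((ext2 (b : Finset α)).map E.toEmbedding).card = 8 := fun b => by
    rw [card_map, card_ext2, hB.1 _ b.2]
  have hint : ∀ b c : Finset α, ((ext2 b).map E.toEmbedding ∩ (ext2 c).map E.toEmbedding).card =
      (b ∩ c).card + 2 := fun b c => by rw [← map_inter, card_map, ext2_inter, card_ext2]
  rcases x with _ | (a | b) <;> rcases y with _ | (c | d)
  · simp [vtx, dot_blockVec, sum_blockVec, hp2]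
  · simp [vtx, dot_blockVec, sum_ptVec, hp2, hnp, PointBlockGraph70.adj_none_inl]
  · simp [vtx, dot_blockVec, sum_blockVec, hp2, hsub, PointBlockGraph70.not_adj_none_inr]
  · simp [vtx, dot_blockVec', sum_ptVec, hp2, hnp, PointBlockGraph70.adj_none_inl a |>.symm]
  · have hd : dotInt (ptVec (E (some (some a)))) (ptVec (E (some (some c)))) =
        if a = c then 32 else 16 := by
      rw [dot_ptVec, sum_ptVec, card_univ24, if_pos (mem_univ _)]
      simp only [ptVec, E.injective.eq_iff, Option.some.injEq]
      split_ifs <;> norm_num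
    simp only [vtx, hd, PointBlockGraph70.not_adj_inl_inl, Option.some.injEq, Sum.inl.injEq]
    split_ifs with h <;> simp [h]
  · have hd : dotInt (ptVec (E (some (some a)))) (blockVec 2 ((ext2 (d : Finset α)).map E.toEmbedding)) =
        if a ∈ (d : Finset α) then 8 else 16 := by
      rw [dot_blockVec', sum_ptVec, hc8]
      simp only [hmem]
      split_ifs <;> norm_num
    simp only [vtx, hd, PointBlockGraph70.adj_inl_inr]
    split_ifs with h <;> simp [h]
  · have hd : dotInt (blockVec 2 ((ext2 (b : Finset α)).map E.toEmbedding)) (blockVec 4 pair) = 16 := by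
      rw [dot_blockVec', sum_blockVec, hsub, hp2]; norm_num
    simp only [vtx, hd]
    exact ⟨by simp, by simp, iff_of_false (fun h => PointBlockGraph70.not_adj_none_inr b h.symm) (by norm_num)⟩
  · have hd : dotInt (blockVec 2 ((ext2 (b : Finset α)).map E.toEmbedding)) (ptVec (E (some (some c)))) =
        if c ∈ (b : Finset α) then 8 else 16 := by
      rw [dot_blockVec, sum_ptVec, hc8]
      simp only [hmem]
      split_ifs <;> norm_num
    simp only [vtx, hd]
    rw [SimpleGraph.adj_comm, PointBlockGraph70.adj_inl_inr]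
    split_ifs with h <;> simp [h]
  · have hd : dotInt (blockVec 2 ((ext2 (b : Finset α)).map E.toEmbedding))
        (blockVec 2 ((ext2 (d : Finset α)).map E.toEmbedding)) =
        4 * (((b : Finset α) ∩ (d : Finset α)).card + 2 : ℤ) := by
      rw [dot_blockVec, sum_blockVec, hint]; push_cast; ring
    simp only [vtx, hd, PointBlockGraph70.adj_inr_inr, Option.some.injEq, Sum.inr.injEq]
    rcases eq_or_ne b d with rfl | hne
    · simp [hB.1 _ b.2]
    · have h2 := SteinerTriangle.inter6 (B := (Set.toFinite B).toFinset) (by simpa using hB) hv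
        (b := (b : Finset α)) (c := (d : Finset α)) (by simp) (by simp)
        (fun e => hne (Subtype.ext e))
      rcases h2 with h2 | h2
      · simp [hne, h2, disjoint_iff_inter_eq_empty, card_eq_zero.1 h2]
      · have hnd : ¬ Disjoint (b : Finset α) d := fun h => by
          rw [disjoint_iff_inter_eq_empty] at h; rw [h] at h2; simp at h2
        simp [hne, h2, hnd]

theorem vtx_mem (hE : ∀ b : Finset α, b ∈ B ↔ (ext2 b).image E ∈ octads) (v : Option (α ⊕ B)) :
    vtx E v ∈ leechLattice := by
  rcases v with _ | (a | b)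
  · exact four_pair_mem
  · exact ptVec_mem _
  · refine two_octad_mem ?_
    rw [map_eq_image]
    exact (hE b).1 b.2

theorem vtx_hundred (hv : Fintype.card α = 22) (hB : IsSteinerSystem 3 6 B) (h0 : E none = none)
    (h1 : E (some none) = some 0) (hE : ∀ b : Finset α, b ∈ B ↔ (ext2 b).image E ∈ octads)
    (v : Option (α ⊕ B)) : (⟨vtx E v, vtx_mem hE v⟩ : leechLattice) ∈ hundred := by
  have hsq : sqNorm (vtx E v) = 32 := by
    rw [← (dot_vtx hv hB h0 h1 v v).1 rfl]
    simp [sqNorm, dotInt, sq]
  refine ⟨hsq, ?_⟩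
  show dotInt Spor.vecV (vtx E v) = -24 ∧ dotInt (-(Spor.vecV + Spor.vecU')) (vtx E v) = 24
  rw [dot_vecV, dot_vecW]
  rcases v with _ | (a | b)
  · simp only [vtx, sum_blockVec, univ_inter]
    exact ⟨by decide, by decide⟩
  · have hn : (none : GolayPt) ≠ E (some (some a)) := fun h => by
      rw [← h0] at h; simpa using E.injective h
    have hz : (some 0 : GolayPt) ≠ E (some (some a)) := fun h => by
      rw [← h1] at h; simpa using E.injective h
    simp only [vtx, sum_ptVec, card_univ24, mem_univ, if_true]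
    simp [ptVec, hn, hz]
  · simp only [vtx, sum_blockVec, univ_inter, card_map, card_ext2, hB.1 _ b.2]
    have hn : (none : GolayPt) ∈ (ext2 (b : Finset α)).map E.toEmbedding :=
      mem_map.2 ⟨none, none_mem_ext2 _, h0⟩
    have hz : (some 0 : GolayPt) ∈ (ext2 (b : Finset α)).map E.toEmbedding :=
      mem_map.2 ⟨some none, some_none_mem_ext2 _, h1⟩
    simp only [blockVec, if_pos hn, if_pos hz]
    norm_num

theorem smul_hundred {g : Co0} (hg : g ∈ HSStab) {x : leechLattice} (hx : x ∈ hundred) :
    g • x ∈ hundred := by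
  obtain ⟨hV, hU⟩ := hg
  obtain ⟨h1, h2, h3⟩ := hx
  refine ⟨by rw [sqNorm_smul]; exact h1, ?_, ?_⟩
  · have := dotInt_smul g Spor.leechV x
    rw [MulAction.mem_stabilizer_iff.1 hV] at this
    exact this.trans h2
  · have := dotInt_smul g (-(Spor.leechV + Spor.leechU')) x
    rw [smul_neg_vec, smul_add_vec, MulAction.mem_stabilizer_iff.1 hV,
      MulAction.mem_stabilizer_iff.1 hU] at this
    exact this.trans h3

theorem exists_HS (hv : Fintype.card α = 22) (hB : IsSteinerSystem 3 6 B) :
    ∃ φ : HSStab →* (pointBlockGraph B ≃g pointBlockGraph B), Function.Injective φ := by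
  classical
  obtain ⟨E, h0, h1, hE, -⟩ := standard22' hv hB
  let Φ : Option (α ⊕ B) → hundred := fun v => ⟨_, vtx_hundred hv hB h0 h1 hE v⟩
  have hΦinj : Function.Injective Φ := fun x y h => by
    by_contra hne
    have h2 : vtx E x = vtx E y := congrArg (fun z : hundred => ((z.1 : leechLattice) : GolayPt → ℤ)) h
    have h3 := (dot_vtx hv hB h0 h1 x x).1 rfl
    have h4 := (dot_vtx hv hB h0 h1 x y).2.1 hne
    rw [← h2] at h4
    omega
  have hbij : Function.Bijective Φ := by
    have : Finite hundred := Set.finite_of_ncard_pos (by rw [ncard_hundred]; norm_num)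
    exact (Nat.bijective_iff_injective_and_card Φ).2 ⟨hΦinj, by
      rw [PointBlockGraph70.card_vertices hv hB, Nat.card_coe_set_eq, ncard_hundred]⟩
  let Ψ := Equiv.ofBijective Φ hbij
  let act : HSStab → Option (α ⊕ B) → Option (α ⊕ B) := fun g v =>
    Ψ.symm ⟨g.1 • (Φ v).1, smul_hundred g.2 (Φ v).2⟩
  have hact : ∀ g v, (Φ (act g v)).1 = g.1 • (Φ v).1 := fun g v =>
    congrArg Subtype.val (Ψ.apply_symm_apply _)
  have hΦ1 : ∀ {x y}, (Φ x).1 = (Φ y).1 → x = y := fun h => hΦinj (Subtype.ext h)
  have hmul : ∀ g h v, act (g * h) v = act g (act h v) := fun g h v => hΦ1 (by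
    rw [hact, hact, hact, Subgroup.coe_mul, mul_smul])
  have hone : ∀ v, act 1 v = v := fun v => hΦ1 (by rw [hact, OneMemClass.coe_one, one_smul])
  let φ : HSStab →* (pointBlockGraph B ≃g pointBlockGraph B) :=
    { toFun := fun g =>
        { toFun := act g
          invFun := act g⁻¹
          left_inv := fun v => by rw [← hmul, inv_mul_cancel, hone]
          right_inv := fun v => by rw [← hmul, mul_inv_cancel, hone]
          map_rel_iff' := by
            intro x y
            show (pointBlockGraph B).Adj (act g x) (act g y) ↔ _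
            rw [(dot_vtx hv hB h0 h1 (act g x) (act g y)).2.2, (dot_vtx hv hB h0 h1 x y).2.2]
            have e := dotInt_smul g.1 (Φ x).1 (Φ y).1
            rw [← hact, ← hact] at e
            exact iff_of_eq (congrArg (fun t => t = (8 : ℤ)) e) }
      map_one' := RelIso.ext hone
      map_mul' := fun g h => RelIso.ext (hmul g h) }
  refine ⟨φ, (MonoidHom.ker_eq_bot_iff φ).1 ?_⟩
  have := LeechCoOneSimple.isSimple_HS
  refine ((MonoidHom.normal_ker φ).eq_bot_or_eq_top).resolve_right fun htop => ?_
  -- a permutation of the coordinates moves a point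
  obtain ⟨σ, hσ, hσx⟩ := GolayM24.exists_map_five_five ![none, some 0, some 1, some 2, some 3]
    ![none, some 0, some 2, some 1, some 3] (by decide) (by decide)
  have s0 : σ none = none := hσx 0
  have s1 : σ (some 0) = some 0 := hσx 1
  have s2 : σ (some 1) = some 2 := hσx 2
  have hfix : ∀ x : leechLattice, (∀ p, (x : GolayPt → ℤ) (σ.symm p) = (x : GolayPt → ℤ) p) →
      monomial σ hσ ∅ empty_mem_supports • x = x := fun x hx => Subtype.ext (funext fun p => by
    rw [coe_monomial_smul]
    simpa [signedPerm] using hx p)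
  have hmon : monomial σ hσ ∅ empty_mem_supports ∈ HSStab := by
    refine ⟨hfix _ fun p => ?_, hfix _ fun p => ?_⟩
    · show Spor.vecV _ = Spor.vecV p
      simp only [Spor.vecV, Equiv.symm_apply_eq, s0]
    · show Spor.vecU' _ = Spor.vecU' p
      simp only [Spor.vecU', Equiv.symm_apply_eq, s0, s1]
  obtain ⟨a, ha⟩ := (not_mem_pair_iff E h0 h1).1 (show (some 1 : GolayPt) ∉ pair by decide)
  have hk : φ ⟨_, hmon⟩ = 1 := MonoidHom.mem_ker.1 (htop ▸ Subgroup.mem_top _)
  have h5 := hact ⟨_, hmon⟩ (some (Sum.inl a))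
  have h6 : act ⟨_, hmon⟩ (some (Sum.inl a)) = some (Sum.inl a) :=
    DFunLike.congr_fun hk (some (Sum.inl a))
  rw [h6] at h5
  have h7 : ptVec (E (some (some a))) (some 2) =
      signedPerm σ ∅ (ptVec (E (some (some a)))) (some 2) :=
    congrArg (fun x : leechLattice => (x : GolayPt → ℤ) (some 2)) h5
  rw [ha] at h7
  simp [ptVec, signedPerm, ← s2] at h7
  revert h7
  rw [s2]
  decide

theorem exists_move (hv : Fintype.card α = 22) (hB : IsSteinerSystem 3 6 B) :
    ∃ f : pointBlockGraph B ≃g pointBlockGraph B, f none ≠ none := by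
  obtain ⟨φ, hφ⟩ := exists_HS hv hB
  by_contra hc
  simp only [not_exists, not_not] at hc
  have : Finite (pointBlockGraph B ≃g pointBlockGraph B) :=
    Finite.of_injective (fun f => f.toEquiv) fun f g h => RelIso.ext fun v => Equiv.congr_fun h v
  have hle := Nat.card_le_card_of_injective
    (fun g : HSStab => (⟨φ g, hc (φ g)⟩ : PointBlockGraph70.stabNone B))
    (fun a b h => hφ (congrArg Subtype.val h))
  rw [PointBlockGraph70.card_stabNone hv hB,
    Nat.card_congr (LeechCertOrders.infStabEquiv₂ Spor.leechV Spor.leechU').toEquiv] at hle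
  have h2 := LeechCertOrders.card_HS
  unfold Spor.HS Spor.Co3 at h2
  omega

theorem isHS_sub (hv : Fintype.card α = 22) (hB : IsSteinerSystem 3 6 B) :
    ∃ H : Subgroup (pointBlockGraph B ≃g pointBlockGraph B), IsHS H := by
  obtain ⟨φ, hφ⟩ := exists_HS hv hB
  have e := (MonoidHom.ofInjective hφ).symm.trans
    (LeechCertOrders.infStabEquiv₂ Spor.leechV Spor.leechU')
  refine ⟨φ.range, ?_, ?_⟩
  · have := LeechCoOneSimple.isHS_HS.1
    exact MulEquiv.isSimpleGroup (H := Spor.HS) e
  · rw [Nat.card_congr e.toEquiv]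
    exact LeechCertOrders.card_HS

theorem card_aut (hv : Fintype.card α = 22) (hB : IsSteinerSystem 3 6 B) :
    Nat.card (pointBlockGraph B ≃g pointBlockGraph B) = 88704000 := by
  obtain ⟨f, hf⟩ := exists_move hv hB
  exact PointBlockGraph70.card_aut hv hB hf

end Cfsg.Agent.HigmanSimsModel70
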