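import Cfsg.Agent.Lib.PointBlockGraph70

/-!
A strongly regular graph with parameters (100, 22, 0, 6) comes from an S(3,6,22).
-/

set_option autoImplicit false

namespace Cfsg.Agent.HigmanSimsRecon70

open Cfsg Finset

variable {V : Type*} [Fintype V] [DecidableEq V] {G : SimpleGraph V} [DecidableRel G.Adj]

/-- Common neighbours. -/
def both (G : SimpleGraph V) [DecidableRel G.Adj] (x y : V) : Finset V :=
  G.neighborFinset x ∩ G.neighborFinset y

theorem mem_both {x y v : V} : v ∈ both G x y ↔ G.Adj x v ∧ G.Adj y v := by simp [both]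

theorem both_self (hG : G.IsSRGWith 100 22 0 6) (x : V) : (both G x x).card = 22 := by
  rw [both, inter_self, G.card_neighborFinset_eq_degree]
  exact hG.regular x

theorem both_adj (hG : G.IsSRGWith 100 22 0 6) {x y : V} (h : G.Adj x y) : (both G x y).card = 0 := by
  have := hG.of_adj x y h
  rw [← this, ← Set.toFinset_card]
  congr 1
  ext v
  simp [both, SimpleGraph.mem_commonNeighbors]

theorem both_nonadj (hG : G.IsSRGWith 100 22 0 6) {x y : V} (hne : x ≠ y) (h : ¬ G.Adj x y) :
    (both G x y).card = 6 := by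
  have := hG.of_not_adj hne h
  rw [← this, ← Set.toFinset_card]
  congr 1
  ext v
  simp [both, SimpleGraph.mem_commonNeighbors]

theorem no_common (hG : G.IsSRGWith 100 22 0 6) {x y v : V} (h : G.Adj x y) (hx : G.Adj x v) :
    ¬ G.Adj y v := fun hy =>
  notMem_empty v (card_eq_zero.1 (both_adj hG h) ▸ mem_both.2 ⟨hx, hy⟩)

/-- The vertices away from a given one. -/
def far (G : SimpleGraph V) [DecidableRel G.Adj] (z : V) : Finset V :=
  univ.filter fun v => v ≠ z ∧ ¬ G.Adj z v

theorem mem_far {z v : V} : v ∈ far G z ↔ v ≠ z ∧ ¬ G.Adj z v := by simp [far]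

theorem card_far (hG : G.IsSRGWith 100 22 0 6) (z : V) : (far G z).card = 77 := by
  have h : far G z = (insert z (G.neighborFinset z))ᶜ := by
    ext v; simp [far]
  rw [h, card_compl, card_insert_of_notMem (by simp), G.card_neighborFinset_eq_degree,
    hG.regular z, hG.card]

theorem meet_two (hG : G.IsSRGWith 100 22 0 6) {z w u : V} (hw : w ∈ far G z) (hu : u ∈ far G z)
    (hne : u ≠ w) (hadj : ¬ G.Adj w u) : (both G z w ∩ both G z u).card = 2 := by
  obtain ⟨hwz, hwa⟩ := mem_far.1 hw
  set b := both G z w with hb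
  have hb6 : b.card = 6 := both_nonadj hG (Ne.symm hwz) hwa
  set U := ((far G z).erase w).filter fun v => ¬ G.Adj w v with hU
  have hU60 : U.card = 60 := by
    have h1 : ((far G z).erase w).filter (fun v => G.Adj w v) = G.neighborFinset w \ b := by
      ext v
      simp only [mem_filter, mem_erase, mem_far, hb, mem_both, mem_sdiff, SimpleGraph.mem_neighborFinset]
      constructor
      · rintro ⟨⟨-, -, h⟩, hv⟩; exact ⟨hv, fun h' => h h'.1⟩
      · rintro ⟨hv, h⟩
        have hvz : v ≠ z := fun e => hwa (by rw [e] at hv; exact hv.symm)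
        exact ⟨⟨fun e => G.loopless.irrefl w (e ▸ hv), hvz, fun h' => h ⟨h', hv⟩⟩, hv⟩
    have h2 := card_filter_add_card_filter_not (s := (far G z).erase w) (p := fun v => G.Adj w v)
    rw [h1, card_erase_of_mem hw, card_far hG] at h2
    rw [card_sdiff_of_subset (fun v hv => by
      rw [SimpleGraph.mem_neighborFinset]; exact (mem_both.1 hv).2),
      G.card_neighborFinset_eq_degree, hG.regular w, hb6] at h2
    change 22 - 6 + U.card = 77 - 1 at h2
    omega
  -- in `U`, the vertices joined to two given points of `b`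
  have hpair : ∀ a ∈ b, ∀ c ∈ b, (U.filter fun v => G.Adj a v ∧ G.Adj c v).card =
      if a = c then 20 else 4 := by
    intro a ha c hc
    obtain ⟨haz, haw⟩ := mem_both.1 ha
    obtain ⟨hcz, hcw⟩ := mem_both.1 hc
    have h : U.filter (fun v => G.Adj a v ∧ G.Adj c v) = (both G a c) \ {z, w} := by
      ext v
      simp only [hU, mem_filter, mem_erase, mem_far, mem_both, mem_sdiff, mem_insert, mem_singleton,
        not_or]
      constructor
      · rintro ⟨⟨⟨h1, h2, -⟩, -⟩, h3⟩; exact ⟨h3, h2, h1⟩
      · rintro ⟨h3, h2, h1⟩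
        exact ⟨⟨⟨h1, h2, fun h => no_common hG haz h h3.1⟩,
          fun h => no_common hG haw h h3.1⟩, h3⟩
    rw [h, card_sdiff_of_subset (by
      intro v hv
      simp only [mem_insert, mem_singleton] at hv
      rcases hv with rfl | rfl
      · exact mem_both.2 ⟨haz.symm, hcz.symm⟩
      · exact mem_both.2 ⟨haw.symm, hcw.symm⟩), card_pair (Ne.symm hwz)]
    split_ifs with he
    · rw [he, both_self hG]
    · have : ¬ G.Adj a c := fun h => no_common hG haz hcz h
      rw [both_nonadj hG he this]
  have hcount : ∀ v, (b ∩ both G z v).card = (b.filter fun a => G.Adj a v).card := fun v => by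
    congr 1
    ext a
    simp only [hb, mem_inter, mem_both, mem_filter]
    constructor
    · rintro ⟨h, -, h'⟩; exact ⟨h, h'.symm⟩
    · rintro ⟨h, h'⟩; exact ⟨h, h.1, h'.symm⟩
  have hs1 : ∑ v ∈ U, (b ∩ both G z v).card = 120 := by
    simp only [hcount, card_filter]
    rw [sum_comm, sum_congr rfl (g := fun _ => 20) fun a ha => ?_, sum_const, hb6]
    · rfl
    · rw [← card_filter]
      have := hpair a ha a ha
      simpa using this
  have hs2 : ∑ v ∈ U, (b ∩ both G z v).card ^ 2 = 240 := by
    simp only [hcount, card_filter, sq, sum_mul_sum]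
    rw [sum_comm]
    rw [sum_congr rfl (g := fun _ => 40) fun a ha => ?_, sum_const, hb6]
    · rfl
    · rw [sum_comm, sum_congr rfl (g := fun c => if a = c then 20 else 4) fun c hc => ?_]
      · rw [sum_ite, filter_eq, if_pos ha, filter_ne]
        simp [card_erase_of_mem ha, hb6]
      · rw [← hpair a ha c hc, card_filter]
        refine sum_congr rfl fun v _ => ?_
        split_ifs <;> simp_all
  have hz : ∑ v ∈ U, (((b ∩ both G z v).card : ℤ) - 2) ^ 2 = 0 := by
    have e1 : ∑ v ∈ U, ((b ∩ both G z v).card : ℤ) = 120 := by exact_mod_cast hs1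
    have e2 : ∑ v ∈ U, ((b ∩ both G z v).card : ℤ) ^ 2 = 240 := by exact_mod_cast hs2
    simp only [sub_sq, sum_add_distrib, sum_sub_distrib, sum_const, hU60, ← sum_mul, ← mul_sum,
      e1, e2]
    norm_num
  have huU : u ∈ U := by simp [hU, hne, hu, hadj]
  have := (sum_eq_zero_iff_of_nonneg fun v _ => sq_nonneg _).1 hz u huU
  have h2 := sub_eq_zero.1 (sq_eq_zero_iff.1 this)
  exact_mod_cast h2

theorem meet_le (hG : G.IsSRGWith 100 22 0 6) {z w u : V} (hw : w ∈ far G z) (hu : u ∈ far G z)
    (hne : u ≠ w) : (both G z w ∩ both G z u).card ≤ 2 := by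
  by_cases h : G.Adj w u
  · rw [eq_empty_of_forall_notMem (s := both G z w ∩ both G z u) fun a ha => ?_]
    · simp
    · obtain ⟨h1, h2⟩ := mem_inter.1 ha
      exact no_common hG h (mem_both.1 h1).2 (mem_both.1 h2).2
  · rw [meet_two hG hw hu hne h]

theorem adj_iff_disjoint (hG : G.IsSRGWith 100 22 0 6) {z w u : V} (hw : w ∈ far G z)
    (hu : u ∈ far G z) (hne : u ≠ w) : G.Adj w u ↔ Disjoint (both G z w) (both G z u) := by
  rw [disjoint_iff_inter_eq_empty, ← card_eq_zero]
  constructor
  · intro h
    rw [card_eq_zero]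
    refine eq_empty_of_forall_notMem fun a ha => ?_
    obtain ⟨h1, h2⟩ := mem_inter.1 ha
    exact no_common hG h (mem_both.1 h1).2 (mem_both.1 h2).2
  · intro h0
    by_contra h
    rw [meet_two hG hw hu hne h] at h0
    omega

theorem exists_system (hG : G.IsSRGWith 100 22 0 6) (z : V) :
    ∃ B : Set (Finset {v : V // G.Adj z v}), IsSteinerSystem 3 6 B ∧
      Nonempty (pointBlockGraph B ≃g G) := by
  let blk : V → Finset {v : V // G.Adj z v} := fun w => univ.filter fun a => G.Adj a.1 w
  have hblk : ∀ w, (blk w).map (Function.Embedding.subtype _) = both G z w := fun w => by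
    ext v
    simp [blk, mem_both, G.adj_comm v w, and_comm]
  have hcard : ∀ w ∈ far G z, (blk w).card = 6 := fun w hw => by
    rw [← card_map (Function.Embedding.subtype _), hblk,
      both_nonadj hG (Ne.symm (mem_far.1 hw).1) (mem_far.1 hw).2]
  have hinter : ∀ w u, (blk w ∩ blk u).card = (both G z w ∩ both G z u).card := fun w u => by
    rw [← card_map (Function.Embedding.subtype _), map_inter, hblk, hblk]
  have hinj : Set.InjOn blk (far G z : Set V) := fun w hw u hu h => by
    by_contra hne
    have := meet_le hG hw hu (Ne.symm hne)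
    rw [← hinter, h, inter_self, hcard u hu] at this
    omega
  have hsub : ∀ w ∈ far G z, ∀ u ∈ far G z, ∀ s : Finset {v : V // G.Adj z v}, s.card = 3 →
      s ⊆ blk w → s ⊆ blk u → w = u := by
    intro w hw u hu s hs h1 h2
    by_contra hne
    have := (card_le_card (subset_inter h1 h2)).trans_eq (hinter w u)
    have := meet_le hG hw hu (Ne.symm hne)
    omega
  have h22 : Fintype.card {v : V // G.Adj z v} = 22 := by
    rw [Fintype.card_subtype, ← G.neighborFinset_eq_filter, G.card_neighborFinset_eq_degree]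
    exact hG.regular z
  have hB : IsSteinerSystem 3 6 (blk '' (far G z : Set V)) := by
    constructor
    · rintro _ ⟨w, hw, rfl⟩; exact hcard w hw
    · intro s hs
      have hall : (far G z).biUnion (fun w => (blk w).powersetCard 3) = univ.powersetCard 3 := by
        refine eq_of_subset_of_card_le (fun t ht => ?_) (le_of_eq ?_)
        · obtain ⟨w, -, ht⟩ := mem_biUnion.1 ht
          exact mem_powersetCard.2 ⟨subset_univ _, (mem_powersetCard.1 ht).2⟩
        · rw [card_biUnion (fun w hw u hu hne => disjoint_left.2 fun t ht ht' =>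
              hne (hsub w hw u hu t (mem_powersetCard.1 ht).2 (mem_powersetCard.1 ht).1
                (mem_powersetCard.1 ht').1)),
            sum_congr rfl (g := fun _ => Nat.choose 6 3) (fun w hw => by rw [card_powersetCard, hcard w hw]),
            sum_const, card_far hG, card_powersetCard, card_univ, h22]
          rfl
      obtain ⟨w, hw, hsw⟩ := mem_biUnion.1 (hall.symm ▸ mem_powersetCard.2 ⟨subset_univ s, hs⟩)
      refine ⟨blk w, ⟨⟨w, hw, rfl⟩, (mem_powersetCard.1 hsw).1⟩, ?_⟩
      rintro _ ⟨⟨u, hu, rfl⟩, hsu⟩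
      rw [hsub u hu w hw s hs hsu (mem_powersetCard.1 hsw).1]
  refine ⟨_, hB, ⟨?_⟩⟩
  let φ : Option ({v : V // G.Adj z v} ⊕ (blk '' (far G z : Set V) : Set _)) → V := fun x =>
    match x with
    | none => z
    | some (Sum.inl a) => a.1
    | some (Sum.inr b) => b.2.choose
  have hsp : ∀ b : (blk '' (far G z : Set V) : Set _), φ (some (Sum.inr b)) ∈ far G z ∧
      blk (φ (some (Sum.inr b))) = b.1 := fun b => b.2.choose_spec
  have hφ : Function.Injective φ := by
    intro x y h
    rcases x with _ | (a | b) <;> rcases y with _ | (c | d)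
    · rfl
    · have h' : z = c.1 := h
      exact absurd h' c.2.ne
    · exact absurd h.symm (mem_far.1 (hsp d).1).1
    · have h' : a.1 = z := h
      exact absurd h'.symm a.2.ne
    · exact congrArg (fun q => some (Sum.inl q)) (Subtype.ext h)
    · exact absurd (show G.Adj z (φ (some (Sum.inr d))) from h ▸ a.2) (mem_far.1 (hsp d).1).2
    · exact absurd h (mem_far.1 (hsp b).1).1
    · exact absurd (show G.Adj z (φ (some (Sum.inr b))) from h.symm ▸ c.2) (mem_far.1 (hsp b).1).2
    · refine congrArg (fun q => some (Sum.inr q)) (Subtype.ext ?_)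
      rw [← (hsp b).2, ← (hsp d).2, h]
  have hbij : Function.Bijective φ := by
    refine (Nat.bijective_iff_injective_and_card φ).2 ⟨hφ, ?_⟩
    rw [PointBlockGraph70.card_vertices h22 hB, Nat.card_eq_fintype_card, hG.card]
  have hmix : ∀ a b, G.Adj (φ (some (Sum.inl a))) (φ (some (Sum.inr b))) ↔ a ∈ (b.1 : Finset _) := by
    intro a b
    conv_rhs => rw [← (hsp b).2]
    simp [blk, φ]
  have hinr : ∀ b d, G.Adj (φ (some (Sum.inr b))) (φ (some (Sum.inr d))) ↔
      b ≠ d ∧ Disjoint (b.1 : Finset _) d.1 := by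
    intro b d
    rcases eq_or_ne b d with rfl | hne
    · simp
    · simp only [hne, ne_eq, not_false_eq_true, true_and]
      rw [adj_iff_disjoint hG (hsp b).1 (hsp d).1 fun h => hne.symm (Sum.inr.inj (Option.some.inj (hφ h))),
        ← hblk, ← hblk, disjoint_map, (hsp b).2, (hsp d).2]
  refine ⟨Equiv.ofBijective φ hbij, fun {x y} => ?_⟩
  show G.Adj (φ x) (φ y) ↔ _
  rcases x with _ | (a | b) <;> rcases y with _ | (c | d)
  · simp [φ]
  · exact iff_of_true c.2 (PointBlockGraph70.adj_none_inl c)
  · exact iff_of_false (mem_far.1 (hsp d).1).2 (PointBlockGraph70.not_adj_none_inr d)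
  · exact iff_of_true a.2.symm (PointBlockGraph70.adj_none_inl a).symm
  · exact iff_of_false (no_common hG a.2 c.2) (PointBlockGraph70.not_adj_inl_inl a c)
  · rw [hmix, PointBlockGraph70.adj_inl_inr]
  · exact iff_of_false (fun h => (mem_far.1 (hsp b).1).2 h.symm)
      (fun h => PointBlockGraph70.not_adj_none_inr b h.symm)
  · rw [G.adj_comm, hmix, SimpleGraph.adj_comm, PointBlockGraph70.adj_inl_inr]
  · rw [hinr, PointBlockGraph70.adj_inr_inr]

theorem unique {W : Type*} [Fintype W] [DecidableEq W] {H : SimpleGraph W} [DecidableRel H.Adj]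
    (hG : G.IsSRGWith 100 22 0 6) (hH : H.IsSRGWith 100 22 0 6) : Nonempty (G ≃g H) := by
  obtain ⟨z⟩ : Nonempty V := Fintype.card_pos_iff.1 (by rw [hG.card]; norm_num)
  obtain ⟨y⟩ : Nonempty W := Fintype.card_pos_iff.1 (by rw [hH.card]; norm_num)
  obtain ⟨B, hB, ⟨i⟩⟩ := exists_system hG z
  obtain ⟨B', hB', ⟨j⟩⟩ := exists_system hH y
  have h22 : ∀ {U : Type _} [Fintype U] [DecidableEq U] (K : SimpleGraph U) [DecidableRel K.Adj],
      K.IsSRGWith 100 22 0 6 → ∀ x : U, Fintype.card {v : U // K.Adj x v} = 22 := by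
    intro U _ _ K _ hK x
    rw [Fintype.card_subtype, ← K.neighborFinset_eq_filter, K.card_neighborFinset_eq_degree]
    exact hK.regular x
  have hv : Fintype.card {v : V // G.Adj z v} = 22 := by
    rw [Fintype.card_subtype, ← G.neighborFinset_eq_filter, G.card_neighborFinset_eq_degree]
    exact hG.regular z
  obtain ⟨e, he⟩ := SteinerTwoPointAut70.iso22 hv (h22 H hH y) hB hB'
  exact ⟨(i.symm.trans (PointBlockGraph70.liftIso e he)).trans j⟩

end Cfsg.Agent.HigmanSimsRecon70
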