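import Cfsg.Agent.Lib.HigmanSimsModel70
import Cfsg.Agent.Lib.HigmanSimsRecon70
import Cfsg.Agent.Lib.GolayM24

/-!
Rank 3 groups on 100 points with subdegrees 22 and 77.
-/

set_option autoImplicit false

namespace Cfsg.Agent.HigmanSimsRank3

open Cfsg Finset Cfsg.Agent
open scoped Pointwise

variable {V : Type*} [Fintype V] [DecidableEq V]

theorem trace_idem (E : Matrix V V ℚ) (h : E * E = E) : ∃ m : ℕ, Matrix.trace E = m := by
  have hi : IsIdempotentElem (Matrix.toLin' E) := by
    rw [IsIdempotentElem, Module.End.mul_eq_comp, ← Matrix.toLin'_mul, h]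
  obtain ⟨p, hp⟩ := (LinearMap.isProj_iff_isIdempotentElem _).mpr hi
  exact ⟨Module.finrank ℚ p, by rw [← Matrix.trace_toLin'_eq, hp.trace]⟩

variable {Γ : SimpleGraph V} [DecidableRel Γ.Adj] {l m : ℕ}

theorem matrix_square (h : Γ.IsSRGWith 100 22 l m) :
    Γ.adjMatrix ℚ * Γ.adjMatrix ℚ = ((22 : ℚ) - m) • (1 : Matrix V V ℚ) +
      ((l : ℚ) - m) • Γ.adjMatrix ℚ + (m : ℚ) • Matrix.of fun _ _ => (1 : ℚ) := by
  rw [← sq, h.matrix_eq]
  ext i j
  simp only [Matrix.add_apply, Matrix.smul_apply]
  simp only [SimpleGraph.adjMatrix_apply, Matrix.one_apply, Matrix.of_apply, SimpleGraph.compl_adj,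
    nsmul_eq_mul, smul_eq_mul]
  by_cases hij : i = j
  · subst hij; simp
  · by_cases ha : Γ.Adj i j <;> simp [hij, ha]

theorem adj_all (h : Γ.IsSRGWith 100 22 l m) :
    Γ.adjMatrix ℚ * (Matrix.of fun _ _ => (1 : ℚ)) = (22 : ℚ) • Matrix.of fun _ _ => (1 : ℚ) := by
  ext i j
  simp [h.regular i]

theorem all_adj (h : Γ.IsSRGWith 100 22 l m) :
    (Matrix.of fun _ _ => (1 : ℚ)) * Γ.adjMatrix ℚ = (22 : ℚ) • Matrix.of fun _ _ => (1 : ℚ) := by
  ext i j
  simp [h.regular j]

theorem all_all (h : Γ.IsSRGWith 100 22 l m) :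
    (Matrix.of fun (_ : V) (_ : V) => (1 : ℚ)) * (Matrix.of fun _ _ => (1 : ℚ)) =
      (100 : ℚ) • Matrix.of fun _ _ => (1 : ℚ) := by
  ext i j
  simp [Matrix.mul_apply, h.card]

theorem trace_eq (h : Γ.IsSRGWith 100 22 l m) (a b : ℚ) :
    Matrix.trace (Γ.adjMatrix ℚ + a • (1 : Matrix V V ℚ) + b • Matrix.of fun _ _ => (1 : ℚ)) =
      100 * a + 100 * b := by
  simp only [Matrix.trace, Matrix.diag, Matrix.add_apply, Matrix.smul_apply, Matrix.of_apply,
    Matrix.one_apply_eq, SimpleGraph.adjMatrix_apply, SimpleGraph.irrefl, if_false, smul_eq_mul,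
    mul_one, zero_add, Finset.sum_const, Finset.card_univ, h.card, nsmul_eq_mul]
  ring

theorem params (h : Γ.IsSRGWith 100 22 l m) (hl : l ≤ 21) : l = 0 ∧ m = 6 := by
  have he := h.param_eq _ (by norm_num)
  have hcases : (l = 0 ∧ m = 6) ∨ (l = 7 ∧ m = 4) ∨ (l = 14 ∧ m = 2) ∨ (l = 21 ∧ m = 0) := by
    omega
  set J : Matrix V V ℚ := Matrix.of fun _ _ => (1 : ℚ) with hJ
  rcases hcases with hc | ⟨rfl, rfl⟩ | ⟨rfl, rfl⟩ | ⟨rfl, rfl⟩
  · exact hc
  · exfalso
    have hA := matrix_square h
    rw [← hJ] at hA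
    set A := Γ.adjMatrix ℚ with hAdef
    have e1 : A * J = (22 : ℚ) • J := adj_all h
    have e2 : J * A = (22 : ℚ) • J := all_adj h
    have e3 : J * J = (100 : ℚ) • J := all_all h
    obtain ⟨k, hk⟩ := trace_idem ((1 / 9 : ℚ) • (A + (3 : ℚ) • (1 : Matrix V V ℚ) + (-(1 / 4) : ℚ) • J)) (by
      simp only [add_mul, mul_add, smul_mul_assoc, mul_smul_comm, one_mul, mul_one, hA,
        e1, e2, e3]
      push_cast
      module)
    rw [Matrix.trace_smul, trace_eq h, smul_eq_mul] at hk
    have : (275 : ℚ) = ((9 * k : ℕ) : ℚ) := by push_cast; linarith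
    have : 275 = 9 * k := by exact_mod_cast this
    omega
  · exfalso
    obtain ⟨x⟩ : Nonempty V := Fintype.card_pos_iff.1 (by rw [h.card]; norm_num)
    obtain ⟨y, hy⟩ : (Γ.neighborFinset x).Nonempty := by
      rw [← card_pos, Γ.card_neighborFinset_eq_degree, h.regular x]; norm_num
    rw [SimpleGraph.mem_neighborFinset] at hy
    set C : V → V → Finset V := fun u v => Γ.neighborFinset u ∩ Γ.neighborFinset v with hC
    have hcard : ∀ u v, (C u v).card = Fintype.card (Γ.commonNeighbors u v) := fun u v => by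
      rw [← Set.toFinset_card]; congr 1; ext; simp [hC, SimpleGraph.mem_commonNeighbors]
    obtain ⟨z, hzN, hzn⟩ : ∃ z ∈ Γ.neighborFinset x, z ∉ insert y (C x y) := by
      by_contra hall
      push Not at hall
      have := card_le_card (fun z hz => hall z hz : Γ.neighborFinset x ⊆ insert y (C x y))
      rw [Γ.card_neighborFinset_eq_degree, h.regular x] at this
      have := card_insert_le y (C x y)
      rw [hcard, h.of_adj x y hy] at this
      omega
    rw [SimpleGraph.mem_neighborFinset] at hzN
    simp only [hC, mem_insert, mem_inter, SimpleGraph.mem_neighborFinset, not_or, not_and] at hzn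
    have hyz : ¬ Γ.Adj y z := hzn.2 hzN
    have hsub : C x y ∪ C x z ⊆ ((Γ.neighborFinset x).erase y).erase z := by
      intro w hw
      simp only [hC, mem_union, mem_inter, SimpleGraph.mem_neighborFinset] at hw
      simp only [mem_erase, SimpleGraph.mem_neighborFinset]
      refine ⟨?_, ?_, by tauto⟩
      · rintro rfl
        rcases hw with hw | hw
        · exact hyz hw.2
        · exact Γ.irrefl hw.2
      · rintro rfl
        rcases hw with hw | hw
        · exact Γ.irrefl hw.2
        · exact hyz hw.2.symm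
    have h1 := card_le_card hsub
    rw [card_erase_of_mem (by simp [hzN, hzn.1]), card_erase_of_mem (by simp [hy]),
      Γ.card_neighborFinset_eq_degree, h.regular x] at h1
    have h2 := card_union_add_card_inter (C x y) (C x z)
    rw [hcard x y, hcard x z, h.of_adj x y hy, h.of_adj x z hzN] at h2
    have h3 : C x y ∩ C x z ⊆ C y z := by
      intro w hw
      simp only [hC, mem_inter, SimpleGraph.mem_neighborFinset] at hw ⊢
      exact ⟨hw.1.2, hw.2.2⟩
    have h4 := card_le_card h3
    rw [hcard y z, h.of_not_adj (Ne.symm hzn.1) hyz] at h4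
    omega
  · exfalso
    have hA := matrix_square h
    rw [← hJ] at hA
    set A := Γ.adjMatrix ℚ with hAdef
    have e1 : A * J = (22 : ℚ) • J := adj_all h
    have e2 : J * A = (22 : ℚ) • J := all_adj h
    have e3 : J * J = (100 : ℚ) • J := all_all h
    obtain ⟨k, hk⟩ := trace_idem ((1 / 23 : ℚ) • (A + (1 : ℚ) • (1 : Matrix V V ℚ) + (0 : ℚ) • J)) (by
      simp only [add_mul, mul_add, smul_mul_assoc, mul_smul_comm, one_mul, mul_one, hA,
        e1, e2, e3]
      push_cast
      module)
    rw [Matrix.trace_smul, trace_eq h, smul_eq_mul] at hk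
    have : (100 : ℚ) = ((23 * k : ℕ) : ℚ) := by push_cast; linarith
    have : 100 = 23 * k := by exact_mod_cast this
    omega

section Action

variable {G : Type*} [Group G] [Finite G] [MulAction G V] [MulAction.IsPretransitive G V]

/-- A transitive group with point stabiliser orbits of sizes 22 and 77 on 100 points preserves a
strongly regular graph with parameters (100, 22, 0, 6). -/
theorem exists_srg (hV : Fintype.card V = 100) (a b c : V)
    (hb : (MulAction.orbit (MulAction.stabilizer G a) b).ncard = 22)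
    (hc : (MulAction.orbit (MulAction.stabilizer G a) c).ncard = 77) :
    ∃ (Γ : SimpleGraph V) (_ : DecidableRel Γ.Adj), Γ.IsSRGWith 100 22 0 6 ∧
      ∀ (g : G) (x y : V), Γ.Adj (g • x) (g • y) ↔ Γ.Adj x y := by
  classical
  set O := (MulAction.orbit (MulAction.stabilizer G a) b).toFinset with hO
  set P := (MulAction.orbit (MulAction.stabilizer G a) c).toFinset with hP
  have hOc : O.card = 22 := by rw [hO, ← Set.ncard_eq_toFinset_card', hb]
  have hPc : P.card = 77 := by rw [hP, ← Set.ncard_eq_toFinset_card', hc]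
  have horb : ∀ {u : V} (k : MulAction.stabilizer G a) (x : V),
      x ∈ MulAction.orbit (MulAction.stabilizer G a) u →
      (k : G) • x ∈ MulAction.orbit (MulAction.stabilizer G a) u := fun {u} k x hx =>
    MulAction.mem_orbit_of_mem_orbit k hx
  have hOinv : ∀ (k : G), k • a = a → ∀ x, x ∈ O → k • x ∈ O := fun k hk x hx => by
    rw [hO, Set.mem_toFinset] at hx ⊢; exact horb ⟨k, hk⟩ x hx
  have haU : ∀ u : V, a ∈ MulAction.orbit (MulAction.stabilizer G a) u →
      (MulAction.orbit (MulAction.stabilizer G a) u).ncard = 1 := fun u hu => by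
    rw [← MulAction.orbit_eq_iff.2 hu, Set.ncard_eq_one]
    refine ⟨a, Set.eq_singleton_iff_unique_mem.2 ⟨MulAction.mem_orbit_self _, ?_⟩⟩
    rintro _ ⟨k, rfl⟩
    exact k.2
  have hOP : ∀ x ∈ O, x ∉ P := fun x hx hx' => by
    rw [hO, Set.mem_toFinset] at hx; rw [hP, Set.mem_toFinset] at hx'
    rw [← MulAction.orbit_eq_iff.2 hx] at hb
    rw [← MulAction.orbit_eq_iff.2 hx', hb] at hc
    omega
  have haO : a ∉ O := fun h => by rw [hO, Set.mem_toFinset] at h; have := haU b h; omega
  have haP : a ∉ P := fun h => by rw [hP, Set.mem_toFinset] at h; have := haU c h; omega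
  have hcover : ∀ x, x = a ∨ x ∈ O ∨ x ∈ P := by
    have : insert a (O ∪ P) = univ := eq_univ_of_card _ (by
      rw [card_insert_of_notMem (by simp [haO, haP]), card_union_of_disjoint (disjoint_left.2 hOP),
        hOc, hPc, hV])
    intro x
    have hx := mem_univ x
    rw [← this] at hx
    simpa using hx
  let R : V → V → Prop := fun x y => ∃ g : G, g • x = a ∧ g • y ∈ O
  have hRa : ∀ y, R a y ↔ y ∈ O := fun y =>
    ⟨fun ⟨g, hg, hy⟩ => by
      simpa using hOinv g⁻¹ (inv_smul_eq_iff.2 hg.symm) _ hy, fun h => ⟨1, one_smul _ _, by rwa [one_smul]⟩⟩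
  have hRinv : ∀ (g : G) (x y : V), R x y → R (g • x) (g • y) := fun g x y ⟨k, hk, hky⟩ =>
    ⟨k * g⁻¹, by rw [mul_smul, inv_smul_smul, hk], by rwa [mul_smul, inv_smul_smul]⟩
  have hRiff : ∀ (g : G) (x y : V), R (g • x) (g • y) ↔ R x y := fun g x y =>
    ⟨fun h => by simpa using hRinv g⁻¹ _ _ h, hRinv g x y⟩
  -- in-degree
  have hout : ∀ x, (univ.filter fun y => R x y).card = 22 := by
    intro x
    obtain ⟨g, hg⟩ := MulAction.exists_smul_eq G x a
    rw [← hOc]
    refine card_equiv (MulAction.toPerm g) fun y => ?_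
    simp [← hRiff g x y, hg, hRa]
  have hin : ∀ y, (univ.filter fun x => R x y).card = (univ.filter fun x => R x a).card := by
    intro y
    obtain ⟨g, hg⟩ := MulAction.exists_smul_eq G y a
    refine card_equiv (MulAction.toPerm g) fun x => ?_
    simp [← hRiff g x y, hg]
  have hin22 : (univ.filter fun x => R x a).card = 22 := by
    have h := sum_card_bipartiteAbove_eq_sum_card_bipartiteBelow R (s := (univ : Finset V))
      (t := (univ : Finset V))
    simp only [bipartiteAbove, bipartiteBelow] at h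
    rw [sum_congr rfl (fun x _ => hout x), sum_congr rfl (fun y _ => hin y), sum_const, sum_const,
      card_univ, hV, smul_eq_mul, smul_eq_mul] at h
    omega
  have hsymmO : (univ.filter fun x => R x a) = O := by
    refine eq_of_subset_of_card_le (fun x hx => ?_) (by rw [hOc, hin22])
    have hxR := (mem_filter.1 hx).2
    rcases hcover x with rfl | h | h
    · exact absurd ((hRa x).1 hxR) haO
    · exact h
    · exfalso
      have hsub : P ⊆ univ.filter fun x => R x a := fun z hz => by
        rw [hP, Set.mem_toFinset] at h hz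
        rw [← MulAction.orbit_eq_iff.2 h] at hz
        obtain ⟨k, rfl⟩ := hz
        refine mem_filter.2 ⟨mem_univ _, ?_⟩
        have := hRinv (k : G) _ _ hxR
        rwa [show (k : G) • a = a from k.2] at this
      have := card_le_card hsub
      omega
  have hsymm : ∀ x y, R x y → R y x := by
    intro x y h
    obtain ⟨g, hg⟩ := MulAction.exists_smul_eq G x a
    rw [← hRiff g y x, hg]
    have h' := (hRa _).1 (hg ▸ hRinv g x y h)
    rw [← hsymmO] at h'
    exact (mem_filter.1 h').2
  have hirr : ∀ x, ¬ R x x := fun x ⟨g, hg, hgO⟩ => haO (hg ▸ hgO)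
  let Γ : SimpleGraph V := { Adj := R, symm := ⟨hsymm⟩, loopless := ⟨hirr⟩ }
  refine ⟨Γ, inferInstance, ?_, fun g x y => hRiff g x y⟩
  have hcn : ∀ u v, Fintype.card (Γ.commonNeighbors u v) =
      (univ.filter fun w => R u w ∧ R v w).card := fun u v => by
    rw [← Set.toFinset_card]; congr 1; ext w; simp [Γ, SimpleGraph.mem_commonNeighbors]
  have hshift : ∀ (g : G) (u v : V), (univ.filter fun w => R (g • u) w ∧ R (g • v) w).card =
      (univ.filter fun w => R u w ∧ R v w).card := fun g u v => by
    refine (card_equiv (MulAction.toPerm g) fun w => ?_).symm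
    simp [hRiff]
  have hconst : ∀ u v : V, (∃ k : MulAction.stabilizer G a, (k : G) • u = v) →
      (univ.filter fun w => R a w ∧ R v w).card = (univ.filter fun w => R a w ∧ R u w).card := by
    rintro u v ⟨k, rfl⟩
    have h := hshift (k : G) a u
    rwa [show (k : G) • a = a from k.2] at h
  set l := (univ.filter fun w => R a w ∧ R b w).card with hl
  set m := (univ.filter fun w => R a w ∧ R c w).card with hm
  have hsrg : Γ.IsSRGWith 100 22 l m := by
    refine ⟨hV, fun x => ?_, fun x y hxy => ?_, fun x y hne hxy => ?_⟩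
    · rw [← hout x, ← Γ.card_neighborFinset_eq_degree]
      congr 1; ext w; simp [Γ]
    · obtain ⟨g, hg⟩ := MulAction.exists_smul_eq G x a
      rw [hcn, ← hshift g, hg, hl]
      apply hconst
      have : g • y ∈ O := (hRa _).1 (hg ▸ hRinv g x y hxy)
      rw [hO, Set.mem_toFinset] at this
      obtain ⟨k, hk⟩ := this
      exact ⟨k, hk⟩
    · obtain ⟨g, hg⟩ := MulAction.exists_smul_eq G x a
      rw [hcn, ← hshift g, hg, hm]
      apply hconst
      rcases hcover (g • y) with h | h | h
      · exact absurd (MulAction.injective g (h.trans hg.symm)).symm hne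
      · exact absurd ((hRiff g x y).1 (by rw [hg]; exact (hRa _).2 h)) hxy
      · rw [hP, Set.mem_toFinset] at h
        obtain ⟨k, hk⟩ := h
        exact ⟨k, hk⟩
  have hl21 : l ≤ 21 := by
    have hbO : b ∈ O := by rw [hO, Set.mem_toFinset]; exact MulAction.mem_orbit_self _
    have hsub : (univ.filter fun w => R a w ∧ R b w) ⊆ O.erase b := fun w hw => by
      obtain ⟨h1, h2⟩ := (mem_filter.1 hw).2
      exact mem_erase.2 ⟨fun e => hirr b (e ▸ h2), (hRa w).1 h1⟩
    have := card_le_card hsub
    rw [card_erase_of_mem hbO, hOc] at this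
    exact this
  obtain ⟨h0, h6⟩ := params hsrg hl21
  rwa [h0, h6] at hsrg

end Action

/-- The automorphism group of an isomorphic graph. -/
def autConj {U W : Type*} {X : SimpleGraph U} {Y : SimpleGraph W} (i : X ≃g Y) : (Y ≃g Y) ≃* (X ≃g X) where
  toFun f := (i.trans f).trans i.symm
  invFun f := (i.symm.trans f).trans i
  left_inv f := RelIso.ext fun x => by simp
  right_inv f := RelIso.ext fun x => by simp
  map_mul' f g := RelIso.ext fun x => by
    show i.symm (f (g (i x))) = i.symm (f (i (i.symm (g (i x)))))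
    rw [i.apply_symm_apply]

theorem isoHS {Ω : Type*} [Fintype Ω] [DecidableEq Ω] (hΩ : Fintype.card Ω = 100)
    (G : Subgroup (Equiv.Perm Ω)) [MulAction.IsPretransitive G Ω] (a : Ω)
    (e : MulAction.stabilizer G a ≃* Spor.M22) (b c : Ω)
    (hb : (MulAction.orbit (MulAction.stabilizer G a) b).ncard = 22)
    (hc : (MulAction.orbit (MulAction.stabilizer G a) c).ncard = 77) : Spor.IsoHS G := by
  classical
  obtain ⟨Γ, _, hsrg, hinv⟩ := exists_srg hΩ a b c hb hc
  obtain ⟨B, hB, ⟨i⟩⟩ := HigmanSimsRecon70.exists_system hsrg a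
  have hv : Fintype.card {v : Ω // Γ.Adj a v} = 22 := by
    rw [Fintype.card_subtype, ← Γ.neighborFinset_eq_filter, Γ.card_neighborFinset_eq_degree]
    exact hsrg.regular a
  let toAut : G →* (Γ ≃g Γ) :=
    { toFun := fun g => { toEquiv := (g : Equiv.Perm Ω), map_rel_iff' := fun {x y} => hinv g x y }
      map_one' := RelIso.ext fun _ => rfl
      map_mul' := fun _ _ => RelIso.ext fun _ => rfl }
  let ψ := (autConj i).toMonoidHom.comp toAut
  have hψ : Function.Injective ψ := (autConj i).injective.comp fun g h hgh =>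
    Subtype.ext (Equiv.ext fun x => DFunLike.congr_fun hgh x)
  obtain ⟨φ, hφ⟩ := HigmanSimsModel70.exists_HS hv hB
  have hA := HigmanSimsModel70.card_aut hv hB
  have eH := (MonoidHom.ofInjective hφ).symm.trans
    (LeechCertOrders.infStabEquiv₂ Spor.leechV Spor.leechU')
  have hsimp : IsSimpleGroup φ.range := by
    have := LeechCoOneSimple.isHS_HS.1
    exact MulEquiv.isSimpleGroup (H := Spor.HS) eH
  have hcH : Nat.card φ.range = 44352000 := by
    rw [Nat.card_congr eH.toEquiv]; exact LeechCertOrders.card_HS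
  have hcK : Nat.card ψ.range = 44352000 := by
    rw [← Nat.card_congr (MonoidHom.ofInjective hψ).toEquiv,
      ← (MulAction.stabilizer G a).card_mul_index, MulAction.index_stabilizer_of_transitive,
      Nat.card_congr e.toEquiv, GolayM24.card_M22, Nat.card_eq_fintype_card, hΩ]
  have hidx : ψ.range.index = 2 := by
    have := ψ.range.card_mul_index
    rw [hcK, hA] at this
    omega
  have := Subgroup.normal_of_index_eq_two hidx
  have hle : φ.range ≤ ψ.range := by
    rcases (Subgroup.Normal.subgroupOf (H := ψ.range) inferInstance φ.range).eq_bot_or_eq_top with h | h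
    · exfalso
      have : Finite (pointBlockGraph B ≃g pointBlockGraph B) :=
        Nat.finite_of_card_ne_zero (by rw [hA]; norm_num)
      have h1 : (ψ.range.subgroupOf φ.range).index ∣ ψ.range.index :=
        Subgroup.relIndex_dvd_index_of_normal ψ.range φ.range
      rw [h, Subgroup.index_bot, hcH, hidx] at h1
      norm_num at h1
    · exact Subgroup.subgroupOf_eq_top.1 h
  have heq : φ.range = ψ.range := by
    have : Finite (pointBlockGraph B ≃g pointBlockGraph B) :=
      Nat.finite_of_card_ne_zero (by rw [hA]; norm_num)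
    exact Subgroup.eq_of_le_of_card_ge hle (by rw [hcH, hcK])
  exact ⟨((MonoidHom.ofInjective hψ).trans (MulEquiv.subgroupCongr heq.symm)).trans eH⟩

end Cfsg.Agent.HigmanSimsRank3
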