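import Mathlib

set_option autoImplicit false
set_option maxRecDepth 100000

/-! Coordinate data for the icosian ring: doubled coordinates over the basis `1, τ`. -/

namespace Cfsg.Agent.IcosianData

/-- An element of `ℍ` with doubled coordinates `(a0 + b0 τ, a1 + b1 τ, a2 + b2 τ, a3 + b3 τ)`. -/
structure Ico where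
  a0 : ℤ
  b0 : ℤ
  a1 : ℤ
  b1 : ℤ
  a2 : ℤ
  b2 : ℤ
  a3 : ℤ
  b3 : ℤ
deriving DecidableEq

/-- A triple. -/
structure Ico3 where
  x : Ico
  y : Ico
  z : Ico
deriving DecidableEq

/-- The 120 units. -/
def units : List Ico := [
  ⟨2, 0, 0, 0, 0, 0, 0, 0⟩,
  ⟨0, 0, 2, 0, 0, 0, 0, 0⟩,
  ⟨1, 0, 1, -1, 0, 0, 0, 1⟩,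
  ⟨-2, 0, 0, 0, 0, 0, 0, 0⟩,
  ⟨-1, 1, 1, 0, 0, -1, 0, 0⟩,
  ⟨-1, 1, 1, 0, 0, 1, 0, 0⟩,
  ⟨-1, 0, 1, -1, 0, 0, 0, 1⟩,
  ⟨0, 0, -2, 0, 0, 0, 0, 0⟩,
  ⟨-1, 0, -1, 1, 0, 0, 0, -1⟩,
  ⟨-1, 0, -1, 1, 0, 0, 0, 1⟩,
  ⟨-1, 1, -1, 0, 0, -1, 0, 0⟩,
  ⟨-1, 1, 0, 1, 0, 0, 1, 0⟩,
  ⟨-1, 1, -1, 0, 0, 1, 0, 0⟩,
  ⟨1, -1, -1, 0, 0, 1, 0, 0⟩,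
  ⟨1, -1, -1, 0, 0, -1, 0, 0⟩,
  ⟨1, 0, -1, 1, 0, 0, 0, -1⟩,
  ⟨0, -1, -1, 1, -1, 0, 0, 0⟩,
  ⟨1, 0, -1, 1, 0, 0, 0, 1⟩,
  ⟨0, -1, -1, 1, 1, 0, 0, 0⟩,
  ⟨0, 0, -1, 1, 0, -1, 1, 0⟩,
  ⟨0, 0, -1, 1, 0, 1, 1, 0⟩,
  ⟨1, 0, 1, -1, 0, 0, 0, -1⟩,
  ⟨1, -1, 1, 0, 0, 1, 0, 0⟩,
  ⟨1, -1, 0, -1, 0, 0, -1, 0⟩,
  ⟨1, -1, 1, 0, 0, -1, 0, 0⟩,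
  ⟨1, -1, 0, -1, 0, 0, 1, 0⟩,
  ⟨1, -1, 0, 0, -1, 0, 0, -1⟩,
  ⟨1, -1, 0, 0, -1, 0, 0, 1⟩,
  ⟨1, -1, 0, 1, 0, 0, -1, 0⟩,
  ⟨1, -1, 0, 0, 1, 0, 0, 1⟩,
  ⟨1, -1, 0, 0, 1, 0, 0, -1⟩,
  ⟨1, -1, 0, 1, 0, 0, 1, 0⟩,
  ⟨0, 1, 1, -1, 1, 0, 0, 0⟩,
  ⟨-1, 0, 1, -1, 0, 0, 0, -1⟩,
  ⟨0, 1, 1, -1, -1, 0, 0, 0⟩,
  ⟨0, 0, 1, -1, 0, 1, -1, 0⟩,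
  ⟨0, 0, 1, -1, 0, -1, -1, 0⟩,
  ⟨0, -1, 1, -1, 1, 0, 0, 0⟩,
  ⟨0, 0, 1, -1, 0, -1, 1, 0⟩,
  ⟨0, 0, 1, -1, 0, 1, 1, 0⟩,
  ⟨0, -1, 1, -1, -1, 0, 0, 0⟩,
  ⟨1, 0, 1, 0, -1, 0, -1, 0⟩,
  ⟨0, -1, 1, 0, 0, 0, -1, 1⟩,
  ⟨1, 0, 1, 0, 1, 0, -1, 0⟩,
  ⟨-1, 1, 0, 1, 0, 0, -1, 0⟩,
  ⟨-1, 1, 0, 0, 1, 0, 0, 1⟩,
  ⟨-1, 1, 0, 0, 1, 0, 0, -1⟩,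
  ⟨-1, 1, 0, -1, 0, 0, 1, 0⟩,
  ⟨-1, 1, 0, 0, -1, 0, 0, -1⟩,
  ⟨-1, 1, 0, 0, -1, 0, 0, 1⟩,
  ⟨-1, 1, 0, -1, 0, 0, -1, 0⟩,
  ⟨-1, 0, 1, 0, 1, 0, -1, 0⟩,
  ⟨-1, 0, 0, -1, 1, -1, 0, 0⟩,
  ⟨-1, 0, 1, 0, 1, 0, 1, 0⟩,
  ⟨-1, 0, 1, 0, -1, 0, 1, 0⟩,
  ⟨-1, 0, 0, -1, -1, 1, 0, 0⟩,
  ⟨-1, 0, 1, 0, -1, 0, -1, 0⟩,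
  ⟨0, 1, 1, 0, 0, 0, -1, 1⟩,
  ⟨0, 1, -1, 1, -1, 0, 0, 0⟩,
  ⟨0, 0, -1, 1, 0, 1, -1, 0⟩,
  ⟨0, 0, -1, 1, 0, -1, -1, 0⟩,
  ⟨0, 1, -1, 1, 1, 0, 0, 0⟩,
  ⟨-1, 0, -1, 0, 1, 0, 1, 0⟩,
  ⟨0, 1, -1, 0, 0, 0, 1, -1⟩,
  ⟨-1, 0, -1, 0, -1, 0, 1, 0⟩,
  ⟨-1, 0, -1, 0, -1, 0, -1, 0⟩,
  ⟨0, 1, -1, 0, 0, 0, -1, 1⟩,
  ⟨-1, 0, -1, 0, 1, 0, -1, 0⟩,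
  ⟨-1, 0, 0, 1, 1, -1, 0, 0⟩,
  ⟨-1, 0, 0, 0, 0, -1, 1, -1⟩,
  ⟨-1, 0, 0, 0, 0, 1, 1, -1⟩,
  ⟨-1, 0, 0, 1, -1, 1, 0, 0⟩,
  ⟨1, 0, -1, 0, -1, 0, 1, 0⟩,
  ⟨1, 0, 0, 1, -1, 1, 0, 0⟩,
  ⟨1, 0, -1, 0, -1, 0, -1, 0⟩,
  ⟨1, 0, -1, 0, 1, 0, -1, 0⟩,
  ⟨1, 0, 0, 1, 1, -1, 0, 0⟩,
  ⟨1, 0, -1, 0, 1, 0, 1, 0⟩,
  ⟨0, -1, -1, 0, 0, 0, 1, -1⟩,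
  ⟨0, 0, -1, 0, -1, 1, 0, -1⟩,
  ⟨0, 0, -1, 0, -1, 1, 0, 1⟩,
  ⟨0, -1, -1, 0, 0, 0, -1, 1⟩,
  ⟨0, 0, -1, 0, 1, -1, 0, 1⟩,
  ⟨0, 0, -1, 0, 1, -1, 0, -1⟩,
  ⟨0, 0, 0, 1, 1, 0, 1, -1⟩,
  ⟨0, 0, 0, 1, -1, 0, 1, -1⟩,
  ⟨1, 0, 1, 0, 1, 0, 1, 0⟩,
  ⟨0, -1, 1, 0, 0, 0, 1, -1⟩,
  ⟨1, 0, 1, 0, -1, 0, 1, 0⟩,
  ⟨1, 0, 0, -1, -1, 1, 0, 0⟩,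
  ⟨1, 0, 0, 0, 0, 1, -1, 1⟩,
  ⟨1, 0, 0, 0, 0, -1, -1, 1⟩,
  ⟨1, 0, 0, -1, 1, -1, 0, 0⟩,
  ⟨1, 0, 0, 0, 0, -1, 1, -1⟩,
  ⟨1, 0, 0, 0, 0, 1, 1, -1⟩,
  ⟨0, -1, 0, 0, -1, 1, 1, 0⟩,
  ⟨0, -1, 0, 0, -1, 1, -1, 0⟩,
  ⟨0, -1, 0, 0, 1, -1, -1, 0⟩,
  ⟨0, -1, 0, 0, 1, -1, 1, 0⟩,
  ⟨0, 0, 1, 0, 1, -1, 0, 1⟩,
  ⟨0, 0, 1, 0, 1, -1, 0, -1⟩,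
  ⟨0, 1, 1, 0, 0, 0, 1, -1⟩,
  ⟨0, 0, 1, 0, -1, 1, 0, -1⟩,
  ⟨0, 0, 1, 0, -1, 1, 0, 1⟩,
  ⟨0, 0, 0, -1, -1, 0, -1, 1⟩,
  ⟨0, 0, 0, -1, 1, 0, -1, 1⟩,
  ⟨0, 0, 0, -1, 1, 0, 1, -1⟩,
  ⟨0, 0, 0, -1, -1, 0, 1, -1⟩,
  ⟨0, 0, 0, 0, 0, 0, -2, 0⟩,
  ⟨-1, 0, 0, 0, 0, 1, -1, 1⟩,
  ⟨-1, 0, 0, 0, 0, -1, -1, 1⟩,
  ⟨0, 1, 0, 0, 1, -1, -1, 0⟩,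
  ⟨0, 1, 0, 0, 1, -1, 1, 0⟩,
  ⟨0, 1, 0, 0, -1, 1, 1, 0⟩,
  ⟨0, 1, 0, 0, -1, 1, -1, 0⟩,
  ⟨0, 0, 0, 0, 2, 0, 0, 0⟩,
  ⟨0, 0, 0, 0, -2, 0, 0, 0⟩,
  ⟨0, 0, 0, 1, -1, 0, -1, 1⟩,
  ⟨0, 0, 0, 1, 1, 0, -1, 1⟩,
  ⟨0, 0, 0, 0, 0, 0, 2, 0⟩]

/-- Parent and generator for each unit. -/
def unitTree : List (ℕ × ℕ) := [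
  (0, 0),
  (0, 0),
  (0, 1),
  (1, 0),
  (1, 1),
  (2, 0),
  (2, 1),
  (3, 0),
  (3, 1),
  (4, 0),
  (4, 1),
  (5, 1),
  (6, 0),
  (7, 1),
  (8, 0),
  (8, 1),
  (9, 1),
  (10, 0),
  (11, 0),
  (11, 1),
  (12, 1),
  (13, 0),
  (13, 1),
  (14, 1),
  (15, 0),
  (16, 0),
  (16, 1),
  (17, 1),
  (18, 1),
  (19, 0),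
  (20, 0),
  (20, 1),
  (21, 1),
  (22, 0),
  (23, 0),
  (23, 1),
  (24, 1),
  (25, 1),
  (26, 0),
  (27, 0),
  (27, 1),
  (28, 1),
  (29, 1),
  (30, 1),
  (32, 0),
  (32, 1),
  (33, 1),
  (34, 1),
  (35, 0),
  (36, 0),
  (36, 1),
  (37, 1),
  (38, 1),
  (39, 1),
  (41, 0),
  (42, 0),
  (42, 1),
  (43, 1),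
  (44, 1),
  (45, 0),
  (46, 0),
  (46, 1),
  (47, 1),
  (48, 1),
  (49, 1),
  (51, 0),
  (52, 0),
  (52, 1),
  (53, 1),
  (54, 1),
  (55, 1),
  (57, 0),
  (58, 1),
  (59, 1),
  (60, 1),
  (62, 0),
  (63, 0),
  (63, 1),
  (64, 1),
  (65, 1),
  (66, 1),
  (68, 0),
  (69, 0),
  (69, 1),
  (70, 1),
  (71, 1),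
  (72, 0),
  (73, 0),
  (73, 1),
  (74, 1),
  (75, 1),
  (76, 1),
  (78, 0),
  (79, 0),
  (79, 1),
  (80, 1),
  (81, 1),
  (84, 0),
  (85, 0),
  (86, 1),
  (87, 1),
  (89, 0),
  (90, 0),
  (90, 1),
  (91, 1),
  (92, 1),
  (95, 0),
  (96, 0),
  (97, 1),
  (99, 0),
  (99, 1),
  (100, 1),
  (101, 1),
  (104, 0),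
  (105, 0),
  (106, 1),
  (108, 0),
  (111, 0),
  (112, 0),
  (113, 1)]

/-- Parity classes of icosians. -/
def parities : List ℕ := [0, 30, 39, 57, 75, 85, 108, 114, 141, 147, 170, 180, 198, 216, 225, 255]

/-- Representatives of the parity classes. -/
def parityRep : List Ico := [
  ⟨0, 0, 0, 0, 0, 0, 0, 0⟩,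
  ⟨0, -1, -1, 1, -1, 0, 0, 0⟩,
  ⟨-1, 1, 1, 0, 0, -1, 0, 0⟩,
  ⟨-1, 0, 0, 1, -1, -1, 0, 0⟩,
  ⟨-1, 1, 0, 1, 0, 0, 1, 0⟩,
  ⟨-1, 0, -1, 2, -1, 0, 1, 0⟩,
  ⟨-2, 2, 1, 1, 0, -1, 1, 0⟩,
  ⟨-2, 1, 0, 2, -1, -1, 1, 0⟩,
  ⟨1, 0, 1, -1, 0, 0, 0, 1⟩,
  ⟨1, -1, 0, 0, -1, 0, 0, 1⟩,
  ⟨0, 1, 2, -1, 0, -1, 0, 1⟩,
  ⟨0, 0, 1, 0, -1, -1, 0, 1⟩,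
  ⟨0, 1, 1, 0, 0, 0, 1, 1⟩,
  ⟨0, 0, 0, 1, -1, 0, 1, 1⟩,
  ⟨-1, 2, 2, 0, 0, -1, 1, 1⟩,
  ⟨-1, 1, 1, 1, -1, -1, 1, 1⟩]

/-- Unit indices summing to each representative. -/
def parityWord : List (List ℕ) := [[], [16], [4], [4, 16], [11], [11, 16], [4, 11], [4, 11, 16], [2], [2, 16], [2, 4], [2, 4, 16], [2, 11], [2, 11, 16], [2, 4, 11], [2, 4, 11, 16]]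

/-- Twice the coordinate vectors as sums of two units. -/
def basisWord : List (Ico × ℕ × ℕ) := [(⟨2, 0, 0, 0, 0, 0, 0, 0⟩, 2, 15), (⟨0, 2, 0, 0, 0, 0, 0, 0⟩, 32, 58), (⟨0, 0, 2, 0, 0, 0, 0, 0⟩, 4, 22), (⟨0, 0, 0, 2, 0, 0, 0, 0⟩, 11, 28), (⟨0, 0, 0, 0, 2, 0, 0, 0⟩, 18, 32), (⟨0, 0, 0, 0, 0, 2, 0, 0⟩, 5, 13), (⟨0, 0, 0, 0, 0, 0, 2, 0⟩, 11, 25), (⟨0, 0, 0, 0, 0, 0, 0, 2⟩, 2, 9)]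

/-- Additive generators of the icosian ring. -/
def gensI : List Ico := [
  ⟨1, 0, 1, -1, 0, 0, 0, 1⟩,
  ⟨-1, 1, 1, 0, 0, -1, 0, 0⟩,
  ⟨-1, 1, 0, 1, 0, 0, 1, 0⟩,
  ⟨0, -1, -1, 1, -1, 0, 0, 0⟩,
  ⟨2, 0, 0, 0, 0, 0, 0, 0⟩,
  ⟨0, 2, 0, 0, 0, 0, 0, 0⟩,
  ⟨0, 0, 2, 0, 0, 0, 0, 0⟩,
  ⟨0, 0, 0, 2, 0, 0, 0, 0⟩,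
  ⟨0, 0, 0, 0, 2, 0, 0, 0⟩,
  ⟨0, 0, 0, 0, 0, 2, 0, 0⟩,
  ⟨0, 0, 0, 0, 0, 0, 2, 0⟩,
  ⟨0, 0, 0, 0, 0, 0, 0, 2⟩]

/-- Additive generators of the icosian Leech lattice. -/
def gensL : List Ico3 := [
  ⟨⟨-1, -3, 1, -2, 0, -1, 0, 0⟩, ⟨1, 0, 1, -1, 0, 0, 0, 1⟩, ⟨1, 0, 1, -1, 0, 0, 0, 1⟩⟩,
  ⟨⟨-3, -2, 1, -1, 0, 0, 0, 1⟩, ⟨-1, 1, 1, 0, 0, -1, 0, 0⟩, ⟨-1, 1, 1, 0, 0, -1, 0, 0⟩⟩,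
  ⟨⟨-3, -1, 0, -1, -2, 0, 1, 0⟩, ⟨-1, 1, 0, 1, 0, 0, 1, 0⟩, ⟨-1, 1, 0, 1, 0, 0, 1, 0⟩⟩,
  ⟨⟨-2, -3, -1, -1, -3, 0, 0, 0⟩, ⟨0, -1, -1, 1, -1, 0, 0, 0⟩, ⟨0, -1, -1, 1, -1, 0, 0, 0⟩⟩,
  ⟨⟨-1, -2, 1, 0, 1, 0, 1, 0⟩, ⟨2, 0, 0, 0, 0, 0, 0, 0⟩, ⟨2, 0, 0, 0, 0, 0, 0, 0⟩⟩,
  ⟨⟨-2, -1, 0, -1, 0, -1, 0, -1⟩, ⟨0, 2, 0, 0, 0, 0, 0, 0⟩, ⟨0, 2, 0, 0, 0, 0, 0, 0⟩⟩,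
  ⟨⟨-3, -2, 3, 0, -1, 0, -1, 0⟩, ⟨0, 0, 2, 0, 0, 0, 0, 0⟩, ⟨0, 0, 2, 0, 0, 0, 0, 0⟩⟩,
  ⟨⟨-2, -3, 0, 1, 0, 1, 0, 1⟩, ⟨0, 0, 0, 2, 0, 0, 0, 0⟩, ⟨0, 0, 0, 2, 0, 0, 0, 0⟩⟩,
  ⟨⟨-3, -2, -1, 0, 3, 0, -1, 0⟩, ⟨0, 0, 0, 0, 2, 0, 0, 0⟩, ⟨0, 0, 0, 0, 2, 0, 0, 0⟩⟩,
  ⟨⟨-2, -3, 0, 1, 0, 1, 0, 1⟩, ⟨0, 0, 0, 0, 0, 2, 0, 0⟩, ⟨0, 0, 0, 0, 0, 2, 0, 0⟩⟩,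
  ⟨⟨-3, -2, -1, 0, -1, 0, 3, 0⟩, ⟨0, 0, 0, 0, 0, 0, 2, 0⟩, ⟨0, 0, 0, 0, 0, 0, 2, 0⟩⟩,
  ⟨⟨-2, -3, 0, 1, 0, 1, 0, 1⟩, ⟨0, 0, 0, 0, 0, 0, 0, 2⟩, ⟨0, 0, 0, 0, 0, 0, 0, 2⟩⟩,
  ⟨⟨0, -1, 2, -1, 0, 1, 0, -1⟩, ⟨0, -1, 2, -1, 0, 1, 0, -1⟩, ⟨0, 0, 0, 0, 0, 0, 0, 0⟩⟩,
  ⟨⟨-2, 1, 0, -1, 0, 1, 0, 1⟩, ⟨-2, 1, 0, -1, 0, 1, 0, 1⟩, ⟨0, 0, 0, 0, 0, 0, 0, 0⟩⟩,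
  ⟨⟨-2, 0, -2, 0, 0, 0, 0, 0⟩, ⟨-2, 0, -2, 0, 0, 0, 0, 0⟩, ⟨0, 0, 0, 0, 0, 0, 0, 0⟩⟩,
  ⟨⟨2, 0, -2, 0, 0, 0, 0, 0⟩, ⟨2, 0, -2, 0, 0, 0, 0, 0⟩, ⟨0, 0, 0, 0, 0, 0, 0, 0⟩⟩,
  ⟨⟨1, -2, 1, 0, 1, 0, 1, 0⟩, ⟨1, -2, 1, 0, 1, 0, 1, 0⟩, ⟨0, 0, 0, 0, 0, 0, 0, 0⟩⟩,
  ⟨⟨-2, -1, 0, 1, 0, 1, 0, 1⟩, ⟨-2, -1, 0, 1, 0, 1, 0, 1⟩, ⟨0, 0, 0, 0, 0, 0, 0, 0⟩⟩,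
  ⟨⟨-1, 0, 1, -2, -1, 0, 1, 0⟩, ⟨-1, 0, 1, -2, -1, 0, 1, 0⟩, ⟨0, 0, 0, 0, 0, 0, 0, 0⟩⟩,
  ⟨⟨0, -1, -2, -1, 0, -1, 0, 1⟩, ⟨0, -1, -2, -1, 0, -1, 0, 1⟩, ⟨0, 0, 0, 0, 0, 0, 0, 0⟩⟩,
  ⟨⟨-1, 0, 1, 0, 1, -2, -1, 0⟩, ⟨-1, 0, 1, 0, 1, -2, -1, 0⟩, ⟨0, 0, 0, 0, 0, 0, 0, 0⟩⟩,
  ⟨⟨0, -1, 0, 1, -2, -1, 0, -1⟩, ⟨0, -1, 0, 1, -2, -1, 0, -1⟩, ⟨0, 0, 0, 0, 0, 0, 0, 0⟩⟩,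
  ⟨⟨-1, 0, -1, 0, 1, 0, 1, -2⟩, ⟨-1, 0, -1, 0, 1, 0, 1, -2⟩, ⟨0, 0, 0, 0, 0, 0, 0, 0⟩⟩,
  ⟨⟨0, -1, 0, -1, 0, 1, -2, -1⟩, ⟨0, -1, 0, -1, 0, 1, -2, -1⟩, ⟨0, 0, 0, 0, 0, 0, 0, 0⟩⟩,
  ⟨⟨2, 0, 2, -2, 0, 0, 0, 2⟩, ⟨0, 0, 0, 0, 0, 0, 0, 0⟩, ⟨0, 0, 0, 0, 0, 0, 0, 0⟩⟩,
  ⟨⟨-2, 2, 2, 0, 0, -2, 0, 0⟩, ⟨0, 0, 0, 0, 0, 0, 0, 0⟩, ⟨0, 0, 0, 0, 0, 0, 0, 0⟩⟩,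
  ⟨⟨-2, 2, 0, 2, 0, 0, 2, 0⟩, ⟨0, 0, 0, 0, 0, 0, 0, 0⟩, ⟨0, 0, 0, 0, 0, 0, 0, 0⟩⟩,
  ⟨⟨0, -2, -2, 2, -2, 0, 0, 0⟩, ⟨0, 0, 0, 0, 0, 0, 0, 0⟩, ⟨0, 0, 0, 0, 0, 0, 0, 0⟩⟩,
  ⟨⟨4, 0, 0, 0, 0, 0, 0, 0⟩, ⟨0, 0, 0, 0, 0, 0, 0, 0⟩, ⟨0, 0, 0, 0, 0, 0, 0, 0⟩⟩,
  ⟨⟨0, 4, 0, 0, 0, 0, 0, 0⟩, ⟨0, 0, 0, 0, 0, 0, 0, 0⟩, ⟨0, 0, 0, 0, 0, 0, 0, 0⟩⟩,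
  ⟨⟨0, 0, 4, 0, 0, 0, 0, 0⟩, ⟨0, 0, 0, 0, 0, 0, 0, 0⟩, ⟨0, 0, 0, 0, 0, 0, 0, 0⟩⟩,
  ⟨⟨0, 0, 0, 4, 0, 0, 0, 0⟩, ⟨0, 0, 0, 0, 0, 0, 0, 0⟩, ⟨0, 0, 0, 0, 0, 0, 0, 0⟩⟩,
  ⟨⟨0, 0, 0, 0, 4, 0, 0, 0⟩, ⟨0, 0, 0, 0, 0, 0, 0, 0⟩, ⟨0, 0, 0, 0, 0, 0, 0, 0⟩⟩,
  ⟨⟨0, 0, 0, 0, 0, 4, 0, 0⟩, ⟨0, 0, 0, 0, 0, 0, 0, 0⟩, ⟨0, 0, 0, 0, 0, 0, 0, 0⟩⟩,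
  ⟨⟨0, 0, 0, 0, 0, 0, 4, 0⟩, ⟨0, 0, 0, 0, 0, 0, 0, 0⟩, ⟨0, 0, 0, 0, 0, 0, 0, 0⟩⟩,
  ⟨⟨0, 0, 0, 0, 0, 0, 0, 4⟩, ⟨0, 0, 0, 0, 0, 0, 0, 0⟩, ⟨0, 0, 0, 0, 0, 0, 0, 0⟩⟩]

end Cfsg.Agent.IcosianData
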