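import Cfsg.Prelude.Def_Spor_J2
import Cfsg.Agent.Lib.IcosianData

set_option autoImplicit false
set_option maxRecDepth 100000

/-! Exact integer coordinates for the icosian ring and the icosian Leech lattice. -/

namespace Cfsg.Agent.IcosianCoords

open Cfsg.Agent.IcosianData Cfsg.Spor Quaternion

/-- Zero. -/
def zero : Ico := ⟨0, 0, 0, 0, 0, 0, 0, 0⟩
/-- One. -/
def one : Ico := ⟨2, 0, 0, 0, 0, 0, 0, 0⟩
/-- `i`. -/
def qi : Ico := ⟨0, 0, 2, 0, 0, 0, 0, 0⟩
/-- The second generator. -/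
def qg : Ico := ⟨1, 0, 1, -1, 0, 0, 0, 1⟩
/-- `h`. -/
def hh : Ico := ⟨1, -2, 1, 0, 1, 0, 1, 0⟩
/-- Sum. -/
def add (p q : Ico) : Ico :=
  ⟨p.a0 + q.a0, p.b0 + q.b0, p.a1 + q.a1, p.b1 + q.b1, p.a2 + q.a2, p.b2 + q.b2, p.a3 + q.a3, p.b3 + q.b3⟩
/-- Difference. -/
def sub (p q : Ico) : Ico :=
  ⟨p.a0 - q.a0, p.b0 - q.b0, p.a1 - q.a1, p.b1 - q.b1, p.a2 - q.a2, p.b2 - q.b2, p.a3 - q.a3, p.b3 - q.b3⟩
/-- Negation. -/
def neg (q : Ico) : Ico := ⟨-q.a0, -q.b0, -q.a1, -q.b1, -q.a2, -q.b2, -q.a3, -q.b3⟩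
/-- Integer multiple. -/
def smul (n : ℤ) (q : Ico) : Ico :=
  ⟨n * q.a0, n * q.b0, n * q.a1, n * q.b1, n * q.a2, n * q.b2, n * q.a3, n * q.b3⟩
/-- Conjugate. -/
def conj (q : Ico) : Ico := ⟨q.a0, q.b0, -q.a1, -q.b1, -q.a2, -q.b2, -q.a3, -q.b3⟩
/-- Product in doubled coordinates, times two. -/
def rawmul (p q : Ico) : Ico :=
  ⟨(p.a0 * q.a0 + p.b0 * q.b0) - (p.a1 * q.a1 + p.b1 * q.b1) - (p.a2 * q.a2 + p.b2 * q.b2) - (p.a3 * q.a3 + p.b3 * q.b3),
   (p.a0 * q.b0 + p.b0 * q.a0 + p.b0 * q.b0) - (p.a1 * q.b1 + p.b1 * q.a1 + p.b1 * q.b1)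
     - (p.a2 * q.b2 + p.b2 * q.a2 + p.b2 * q.b2) - (p.a3 * q.b3 + p.b3 * q.a3 + p.b3 * q.b3),
   (p.a0 * q.a1 + p.b0 * q.b1) + (p.a1 * q.a0 + p.b1 * q.b0) + (p.a2 * q.a3 + p.b2 * q.b3) - (p.a3 * q.a2 + p.b3 * q.b2),
   (p.a0 * q.b1 + p.b0 * q.a1 + p.b0 * q.b1) + (p.a1 * q.b0 + p.b1 * q.a0 + p.b1 * q.b0)
     + (p.a2 * q.b3 + p.b2 * q.a3 + p.b2 * q.b3) - (p.a3 * q.b2 + p.b3 * q.a2 + p.b3 * q.b2),
   (p.a0 * q.a2 + p.b0 * q.b2) - (p.a1 * q.a3 + p.b1 * q.b3) + (p.a2 * q.a0 + p.b2 * q.b0) + (p.a3 * q.a1 + p.b3 * q.b1),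
   (p.a0 * q.b2 + p.b0 * q.a2 + p.b0 * q.b2) - (p.a1 * q.b3 + p.b1 * q.a3 + p.b1 * q.b3)
     + (p.a2 * q.b0 + p.b2 * q.a0 + p.b2 * q.b0) + (p.a3 * q.b1 + p.b3 * q.a1 + p.b3 * q.b1),
   (p.a0 * q.a3 + p.b0 * q.b3) + (p.a1 * q.a2 + p.b1 * q.b2) - (p.a2 * q.a1 + p.b2 * q.b1) + (p.a3 * q.a0 + p.b3 * q.b0),
   (p.a0 * q.b3 + p.b0 * q.a3 + p.b0 * q.b3) + (p.a1 * q.b2 + p.b1 * q.a2 + p.b1 * q.b2)
     - (p.a2 * q.b1 + p.b2 * q.a1 + p.b2 * q.b1) + (p.a3 * q.b0 + p.b3 * q.a0 + p.b3 * q.b0)⟩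
/-- Division of every coordinate. -/
def div (n : ℤ) (q : Ico) : Ico :=
  ⟨q.a0 / n, q.b0 / n, q.a1 / n, q.b1 / n, q.a2 / n, q.b2 / n, q.a3 / n, q.b3 / n⟩
/-- The product of two icosians. -/
def mul (p q : Ico) : Ico := div 2 (rawmul p q)

/-- The parity code. -/
def par (q : Ico) : ℕ :=
  ((q.a0 % 2) + 2 * (q.b0 % 2) + 4 * (q.a1 % 2) + 8 * (q.b1 % 2) + 16 * (q.a2 % 2) + 32 * (q.b2 % 2)
    + 64 * (q.a3 % 2) + 128 * (q.b3 % 2)).toNat
/-- Membership in the icosian ring. -/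
def inI (q : Ico) : Bool := parities.contains (par q)
/-- Membership in the left ideal generated by `h`. -/
def inIh (h q : Ico) : Bool :=
  inI q && decide (rawmul q (conj h) = smul 4 (div 4 (rawmul q (conj h)))) && inI (div 4 (rawmul q (conj h)))
/-- Membership in the icosian Leech lattice. -/
def inL (v : Ico3) : Bool :=
  inI v.x && inI v.y && inI v.z && inIh hh (sub v.x v.y) && inIh hh (sub v.y v.z) &&
    inIh (conj hh) (add (add v.x v.y) v.z)

/-- The quaternion with given doubled coordinates. -/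
noncomputable def val (q : Ico) : ℍ[ℝ] :=
  ⟨((q.a0 : ℝ) + q.b0 * tau) / 2, ((q.a1 : ℝ) + q.b1 * tau) / 2, ((q.a2 : ℝ) + q.b2 * tau) / 2,
    ((q.a3 : ℝ) + q.b3 * tau) / 2⟩

lemma val_re (q : Ico) : (val q).re = ((q.a0 : ℝ) + q.b0 * tau) / 2 := rfl
lemma val_imI (q : Ico) : (val q).imI = ((q.a1 : ℝ) + q.b1 * tau) / 2 := rfl
lemma val_imJ (q : Ico) : (val q).imJ = ((q.a2 : ℝ) + q.b2 * tau) / 2 := rfl
lemma val_imK (q : Ico) : (val q).imK = ((q.a3 : ℝ) + q.b3 * tau) / 2 := rfl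

/-- The vector with given coordinates. -/
noncomputable def val3 (v : Ico3) : Fin 3 → ℍ[ℝ] := ![val v.x, val v.y, val v.z]

lemma tau_sq : tau * tau = tau + 1 := by
  have h := Real.mul_self_sqrt (show (0 : ℝ) ≤ 5 by norm_num)
  simp only [tau]
  linear_combination h / 4

lemma sqrt_five : Real.sqrt 5 = 2 * tau - 1 := by simp only [tau]; ring

lemma sig_eq : sig = 1 - tau := by simp only [sig, tau]; ring

lemma int_tau_zero {a b : ℤ} (h : (a : ℝ) + b * tau = 0) : a = 0 ∧ b = 0 := by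
  have hirr : Irrational (Real.sqrt 5) := by
    simpa using (show Nat.Prime 5 by norm_num).irrational_sqrt
  have hb : b = 0 := by
    by_contra hb
    refine hirr ⟨(-2 * a - b : ℚ) / b, ?_⟩
    have hb' : (b : ℝ) ≠ 0 := by exact_mod_cast hb
    rw [sqrt_five]
    push_cast
    field_simp
    linear_combination -2 * h
  subst hb
  simpa using h

lemma int_tau_inj {a b c d : ℤ} (h : (a : ℝ) + b * tau = c + d * tau) : a = c ∧ b = d := by
  have := int_tau_zero (a := a - c) (b := b - d) (by push_cast; linear_combination h)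
  omega

lemma val_injective : Function.Injective val := by
  rintro ⟨a0, b0, a1, b1, a2, b2, a3, b3⟩ ⟨c0, d0, c1, d1, c2, d2, c3, d3⟩ h
  have e0 := congrArg QuaternionAlgebra.re h
  have e1 := congrArg QuaternionAlgebra.imI h
  have e2 := congrArg QuaternionAlgebra.imJ h
  have e3 := congrArg QuaternionAlgebra.imK h
  simp only [val_re, val_imI, val_imJ, val_imK, div_left_inj' (two_ne_zero : (2 : ℝ) ≠ 0)] at e0 e1 e2 e3
  obtain ⟨r0, s0⟩ := int_tau_inj e0
  obtain ⟨r1, s1⟩ := int_tau_inj e1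
  obtain ⟨r2, s2⟩ := int_tau_inj e2
  obtain ⟨r3, s3⟩ := int_tau_inj e3
  subst_vars; rfl

lemma val3_injective : Function.Injective val3 := by
  rintro ⟨a, b, c⟩ ⟨a', b', c'⟩ h
  have e0 := val_injective (congrFun h 0)
  have e1 := val_injective (congrFun h 1)
  have e2 := val_injective (congrFun h 2)
  simp at e0 e1 e2
  subst_vars; rfl

lemma val_add (p q : Ico) : val (add p q) = val p + val q := by
  ext <;> simp [val_re, val_imI, val_imJ, val_imK, add] <;> ring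

lemma val_sub (p q : Ico) : val (sub p q) = val p - val q := by
  ext <;> simp [val_re, val_imI, val_imJ, val_imK, sub] <;> ring

lemma val_neg (q : Ico) : val (neg q) = -val q := by
  ext <;> simp [val_re, val_imI, val_imJ, val_imK, neg] <;> ring

lemma val_smul (n : ℤ) (q : Ico) : val (smul n q) = (n : ℝ) • val q := by
  ext <;> simp [val_re, val_imI, val_imJ, val_imK, smul] <;> ring

lemma val_conj (q : Ico) : val (conj q) = star (val q) := by
  ext <;> simp [val_re, val_imI, val_imJ, val_imK, conj] <;> ring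

lemma val_zero : val zero = 0 := by ext <;> simp [val_re, val_imI, val_imJ, val_imK, zero]

lemma val_one : val one = 1 := by ext <;> simp [val_re, val_imI, val_imJ, val_imK, one]

lemma val_qi : val qi = qI := by
  simp only [val, qi, qI]
  congr 1 <;> push_cast <;> ring

lemma val_qg : val qg = (⟨1 / 2, sig / 2, 0, tau / 2⟩ : ℍ[ℝ]) := by
  simp only [val, qg, sig_eq]
  congr 1 <;> push_cast <;> ring

lemma val_hh : val hh = icoH := by
  simp only [val, hh, icoH, sqrt_five]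
  congr 1 <;> push_cast <;> ring

lemma val_rawmul (p q : Ico) : val p * val q = (1 / 2 : ℝ) • val (rawmul p q) := by
  have h := tau_sq
  ext <;> simp [val_re, val_imI, val_imJ, val_imK, rawmul] <;> grind

lemma val_mul {p q r : Ico} (h : rawmul p q = smul 2 r) : val p * val q = val r := by
  rw [val_rawmul, h, val_smul, smul_smul]
  norm_num

lemma val_hh_norm : val hh * star (val hh) = 2 ∧ star (val hh) * val hh = 2 := by
  rw [← val_conj, val_rawmul, val_rawmul]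
  have e1 : rawmul hh (conj hh) = smul 4 one := by decide
  have e2 : rawmul (conj hh) hh = smul 4 one := by decide
  rw [e1, e2, val_smul, smul_smul, val_one]
  have : ((1 / 2 : ℝ) * ((4 : ℤ) : ℝ)) • (1 : ℍ[ℝ]) = 2 := by
    rw [show ((1 / 2 : ℝ) * ((4 : ℤ) : ℝ)) = 2 by norm_num, two_smul]; exact one_add_one_eq_two
  exact ⟨this, this⟩

lemma gens_mul_mem : ∀ a ∈ gensI, ∀ b ∈ gensI,
    rawmul a b = smul 2 (mul a b) ∧ inI (mul a b) = true := by decide +kernel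

lemma gens_inI : ∀ a ∈ gensI, inI a = true := by decide +kernel

lemma par_lt (q : Ico) (h : inI q = true) : par q ∈ parities := List.contains_iff_mem.mp h

lemma inI_decomp {q : Ico} (h : inI q = true) : ∃ c ∈ parityRep, ∃ w : Ico, q = add c (smul 2 w) := by
  have hp := par_lt q h
  have key : ∀ k ∈ parities, ∃ c ∈ parityRep, par c = k := by decide +kernel
  obtain ⟨c, hc, hk⟩ := key _ hp
  refine ⟨c, hc, div 2 (sub q c), ?_⟩
  obtain ⟨a0, b0, a1, b1, a2, b2, a3, b3⟩ := q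
  obtain ⟨c0, d0, c1, d1, c2, d2, c3, d3⟩ := c
  simp only [par] at hk
  simp only [add, smul, div, sub, Ico.mk.injEq]
  omega

lemma span_of_rep : ∀ c ∈ parityRep, ∃ l : List Ico, l.all (fun x => gensI.contains x) = true ∧
    c = l.foldr add zero := by
  have key : ∀ c ∈ parityRep, ∃ l ∈ (gensI.take 4).sublists, c = l.foldr add zero := by decide +kernel
  intro c hc
  obtain ⟨l, hl, e⟩ := key c hc
  refine ⟨l, List.all_eq_true.mpr fun x hx => ?_, e⟩
  exact List.contains_iff_mem.mpr (List.mem_of_mem_take ((List.mem_sublists.mp hl).subset hx))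

lemma val_sum_mem (S : AddSubgroup ℍ[ℝ]) (l : List Ico) (h : ∀ x ∈ l, val x ∈ S) : val (l.foldr add zero) ∈ S := by
  induction l with
  | nil => simp [val_zero]
  | cons a t ih =>
    simp only [List.foldr_cons, val_add]
    exact add_mem (h a (by simp)) (ih fun x hx => h x (by simp [hx]))

lemma two_basis_mem : ∀ k, k < 8 → gensI[4 + k]? = some
    ([⟨2,0,0,0,0,0,0,0⟩, ⟨0,2,0,0,0,0,0,0⟩, ⟨0,0,2,0,0,0,0,0⟩, ⟨0,0,0,2,0,0,0,0⟩,
      ⟨0,0,0,0,2,0,0,0⟩, ⟨0,0,0,0,0,2,0,0⟩, ⟨0,0,0,0,0,0,2,0⟩, ⟨0,0,0,0,0,0,0,2⟩].getD k zero) := by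
  decide +kernel

/-- An additive subgroup containing the generators contains every icosian. -/
lemma mem_of_gens (S : AddSubgroup ℍ[ℝ]) (hS : ∀ a ∈ gensI, val a ∈ S) {q : Ico} (h : inI q = true) :
    val q ∈ S := by
  obtain ⟨c, hc, w, rfl⟩ := inI_decomp h
  rw [val_add]
  refine add_mem ?_ ?_
  · obtain ⟨l, hl, rfl⟩ := span_of_rep c hc
    exact val_sum_mem S l fun x hx => hS x (List.contains_iff_mem.mp (List.all_eq_true.mp hl x hx))
  · have he : ∀ k, k < 8 → val ([⟨2,0,0,0,0,0,0,0⟩, ⟨0,2,0,0,0,0,0,0⟩, ⟨0,0,2,0,0,0,0,0⟩, ⟨0,0,0,2,0,0,0,0⟩,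
      ⟨0,0,0,0,2,0,0,0⟩, ⟨0,0,0,0,0,2,0,0⟩, ⟨0,0,0,0,0,0,2,0⟩, ⟨0,0,0,0,0,0,0,2⟩].getD k zero) ∈ S :=
      fun k hk => hS _ (List.mem_of_getElem? (two_basis_mem k hk))
    have e : val (smul 2 w) = w.a0 • val ⟨2,0,0,0,0,0,0,0⟩ + w.b0 • val ⟨0,2,0,0,0,0,0,0⟩ +
        w.a1 • val ⟨0,0,2,0,0,0,0,0⟩ + w.b1 • val ⟨0,0,0,2,0,0,0,0⟩ +
        w.a2 • val ⟨0,0,0,0,2,0,0,0⟩ + w.b2 • val ⟨0,0,0,0,0,2,0,0⟩ +
        w.a3 • val ⟨0,0,0,0,0,0,2,0⟩ + w.b3 • val ⟨0,0,0,0,0,0,0,2⟩ := by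
      ext <;> simp [val_re, val_imI, val_imJ, val_imK, smul] <;> ring
    rw [e]
    exact add_mem (add_mem (add_mem (add_mem (add_mem (add_mem (add_mem
      (zsmul_mem (he 0 (by norm_num)) _) (zsmul_mem (he 1 (by norm_num)) _))
      (zsmul_mem (he 2 (by norm_num)) _)) (zsmul_mem (he 3 (by norm_num)) _))
      (zsmul_mem (he 4 (by norm_num)) _)) (zsmul_mem (he 5 (by norm_num)) _))
      (zsmul_mem (he 6 (by norm_num)) _)) (zsmul_mem (he 7 (by norm_num)) _)

lemma par_add_two (x w : Ico) : par (add x (smul 2 w)) = par x := by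
  simp only [par, add, smul, Int.add_mul_emod_self_left]

lemma inI_add {p q : Ico} (hp : inI p = true) (hq : inI q = true) : inI (add p q) = true := by
  have key : ∀ a ∈ parityRep, ∀ b ∈ parityRep, inI (add a b) = true := by decide +kernel
  obtain ⟨a, ha, u, rfl⟩ := inI_decomp hp
  obtain ⟨b, hb, w, rfl⟩ := inI_decomp hq
  have e : add (add a (smul 2 u)) (add b (smul 2 w)) = add (add a b) (smul 2 (add u w)) := by
    simp only [add, smul, Ico.mk.injEq]; omega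
  rw [inI, e, par_add_two]
  exact key a ha b hb

lemma inI_neg {q : Ico} (hq : inI q = true) : inI (neg q) = true := by
  obtain ⟨a, ha, w, rfl⟩ := inI_decomp hq
  have e : neg (add a (smul 2 w)) = add a (smul 2 (sub (neg a) w)) := by
    simp only [add, neg, sub, smul, Ico.mk.injEq]; omega
  rw [inI, e, par_add_two]
  have key : ∀ a ∈ parityRep, inI a = true := by decide +kernel
  exact key a ha

lemma inI_sub {p q : Ico} (hp : inI p = true) (hq : inI q = true) : inI (sub p q) = true := by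
  have e : sub p q = add p (neg q) := by simp only [add, neg, sub, Ico.mk.injEq]; omega
  rw [e]; exact inI_add hp (inI_neg hq)

/-- The image of the coordinate icosians as an additive subgroup. -/
noncomputable def imageI : AddSubgroup ℍ[ℝ] where
  carrier := {x | ∃ q, inI q = true ∧ val q = x}
  zero_mem' := ⟨zero, by decide +kernel, val_zero⟩
  add_mem' := by
    rintro _ _ ⟨p, hp, rfl⟩ ⟨q, hq, rfl⟩
    exact ⟨add p q, inI_add hp hq, val_add p q⟩
  neg_mem' := by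
    rintro _ ⟨q, hq, rfl⟩
    exact ⟨neg q, inI_neg hq, val_neg q⟩

lemma imageI_mul {x y : ℍ[ℝ]} (hx : x ∈ imageI) (hy : y ∈ imageI) : x * y ∈ imageI := by
  obtain ⟨p, hp, rfl⟩ := hx
  obtain ⟨q, hq, rfl⟩ := hy
  refine mem_of_gens (imageI.comap (AddMonoidHom.mulRight (val q))) (fun a ha => ?_) hp
  show val a * val q ∈ imageI
  refine mem_of_gens (imageI.comap (AddMonoidHom.mulLeft (val a))) (fun b hb => ?_) hq
  show val a * val b ∈ imageI
  obtain ⟨e, hi⟩ := gens_mul_mem a ha b hb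
  exact ⟨mul a b, hi, (val_mul e).symm⟩

lemma units_mem : ∀ k, k < 120 → val (units.getD k zero) ∈ icosians := by
  have key : ∀ k, k < 120 → k = 0 ∧ units.getD k zero = one ∨
      (unitTree.getD k (0, 0)).1 < k ∧
      rawmul (units.getD (unitTree.getD k (0, 0)).1 zero) (if (unitTree.getD k (0, 0)).2 = 0 then qi else qg) =
        smul 2 (units.getD k zero) := by decide +kernel
  intro k
  induction k using Nat.strong_induction_on with
  | _ k ih =>
    intro hk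
    rcases key k hk with ⟨-, e⟩ | ⟨hlt, e⟩
    · rw [e, val_one]; exact one_mem _
    · rw [← val_mul e]
      refine mul_mem (ih _ hlt (by omega)) ?_
      split_ifs
      · rw [val_qi]; exact Subring.subset_closure (Or.inl rfl)
      · rw [val_qg]; exact Subring.subset_closure (Or.inr rfl)

theorem mem_icosians (x : ℍ[ℝ]) : x ∈ icosians ↔ ∃ q, inI q = true ∧ val q = x := by
  constructor
  · intro hx
    suffices h : x ∈ imageI from h
    induction hx using Subring.closure_induction with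
    | mem y hy =>
      rcases hy with rfl | rfl
      · exact ⟨qi, by decide +kernel, val_qi⟩
      · exact ⟨qg, by decide +kernel, val_qg⟩
    | zero => exact zero_mem _
    | one => exact ⟨one, by decide +kernel, val_one⟩
    | add a b _ _ ha hb => exact add_mem ha hb
    | neg a _ ha => exact neg_mem ha
    | mul a b _ _ ha hb => exact imageI_mul ha hb
  · rintro ⟨q, hq, rfl⟩
    refine mem_of_gens icosians.toAddSubgroup (fun a ha => ?_) hq
    show val a ∈ icosians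
    have key : ∀ a ∈ gensI, (∃ k, k < 120 ∧ a = units.getD k zero) ∨
        ∃ e ∈ basisWord, a = e.1 ∧ e.2.1 < 120 ∧ e.2.2 < 120 ∧
          a = add (units.getD e.2.1 zero) (units.getD e.2.2 zero) := by decide +kernel
    rcases key a ha with ⟨k, hk, rfl⟩ | ⟨e, -, -, h1, h2, rfl⟩
    · exact units_mem k hk
    · rw [val_add]; exact add_mem (units_mem _ h1) (units_mem _ h2)

lemma smul_cancel {n : ℤ} (hn : n ≠ 0) {p q : Ico} (h : smul n p = smul n q) : p = q := by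
  obtain ⟨a0, b0, a1, b1, a2, b2, a3, b3⟩ := p
  simp only [smul, Ico.mk.injEq, mul_right_inj' hn] at h
  obtain ⟨rfl, rfl, rfl, rfl, rfl, rfl, rfl, rfl⟩ := h
  rfl

lemma div_smul {n : ℤ} (hn : n ≠ 0) (q : Ico) : div n (smul n q) = q := by
  simp [div, smul, Int.mul_ediv_cancel_left _ hn]

theorem inIh_iff {h : Ico} (h1 : val h * star (val h) = 2) (h2 : star (val h) * val h = 2) {q : Ico}
    (hq : inI q = true) : inIh h q = true ↔ val q ∈ leftIdeal (val h) := by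
  constructor
  · intro hh'
    simp only [inIh, Bool.and_eq_true, decide_eq_true_eq] at hh'
    obtain ⟨⟨-, e⟩, hc⟩ := hh'
    refine ⟨val (div 4 (rawmul q (conj h))), (mem_icosians _).mpr ⟨_, hc, rfl⟩, ?_⟩
    have e2 : val q * star (val h) = (2 : ℝ) • val (div 4 (rawmul q (conj h))) := by
      rw [← val_conj, val_rawmul]
      conv_lhs => rw [e, val_smul, smul_smul]
      norm_num
    have e3 : val q * star (val h) * val h = (2 : ℝ) • val q := by
      rw [mul_assoc, h2, two_smul, mul_two]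
    rw [e2, smul_mul_assoc] at e3
    exact (smul_right_injective ℍ[ℝ] (two_ne_zero : (2 : ℝ) ≠ 0) e3).symm
  · rintro ⟨a, ha, e⟩
    obtain ⟨c, hc, rfl⟩ := (mem_icosians _).mp ha
    have e2 : rawmul q (conj h) = smul 4 c := by
      apply val_injective
      have e3 : val q * star (val h) = (2 : ℝ) • val c := by
        rw [e, mul_assoc, h1, two_smul, mul_two]
      rw [← val_conj, val_rawmul] at e3
      rw [val_smul]
      have e4 := congrArg ((2 : ℝ) • ·) e3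
      simp only [smul_smul] at e4
      norm_num at e4 ⊢
      exact e4
    simp [inIh, hq, e2, div_smul (by norm_num : (4 : ℤ) ≠ 0), hc]

lemma leftIdeal_add {a x y : ℍ[ℝ]} (hx : x ∈ leftIdeal a) (hy : y ∈ leftIdeal a) : x + y ∈ leftIdeal a := by
  obtain ⟨u, hu, rfl⟩ := hx
  obtain ⟨v, hv, rfl⟩ := hy
  exact ⟨u + v, add_mem hu hv, (add_mul u v a).symm⟩

lemma leftIdeal_neg {a x : ℍ[ℝ]} (hx : x ∈ leftIdeal a) : -x ∈ leftIdeal a := by
  obtain ⟨u, hu, rfl⟩ := hx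
  exact ⟨-u, neg_mem hu, (neg_mul u a).symm⟩

lemma leftIdeal_mul {a x c : ℍ[ℝ]} (hc : c ∈ icosians) (hx : x ∈ leftIdeal a) : c * x ∈ leftIdeal a := by
  obtain ⟨u, hu, rfl⟩ := hx
  exact ⟨c * u, mul_mem hc hu, (mul_assoc c u a).symm⟩

/-- The lattice as an additive subgroup. -/
noncomputable def lattice : AddSubgroup (Fin 3 → ℍ[ℝ]) where
  carrier := icoLeech
  zero_mem' := ⟨fun t => zero_mem _, ⟨0, zero_mem _, by simp⟩, ⟨0, zero_mem _, by simp⟩, ⟨0, zero_mem _, by simp⟩⟩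
  add_mem' := by
    rintro v w ⟨h1, h2, h3, h4⟩ ⟨g1, g2, g3, g4⟩
    refine ⟨fun t => add_mem (h1 t) (g1 t), ?_, ?_, ?_⟩
    · show (v 0 + w 0) - (v 1 + w 1) ∈ _
      rw [add_sub_add_comm]; exact leftIdeal_add h2 g2
    · show (v 1 + w 1) - (v 2 + w 2) ∈ _
      rw [add_sub_add_comm]; exact leftIdeal_add h3 g3
    · show (v 0 + w 0) + (v 1 + w 1) + (v 2 + w 2) ∈ _
      rw [show (v 0 + w 0) + (v 1 + w 1) + (v 2 + w 2) = (v 0 + v 1 + v 2) + (w 0 + w 1 + w 2) by abel]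
      exact leftIdeal_add h4 g4
  neg_mem' := by
    rintro v ⟨h1, h2, h3, h4⟩
    refine ⟨fun t => neg_mem (h1 t), ?_, ?_, ?_⟩
    · show -v 0 - -v 1 ∈ _
      rw [show -v 0 - -v 1 = -(v 0 - v 1) by abel]; exact leftIdeal_neg h2
    · show -v 1 - -v 2 ∈ _
      rw [show -v 1 - -v 2 = -(v 1 - v 2) by abel]; exact leftIdeal_neg h3
    · show -v 0 + -v 1 + -v 2 ∈ _
      rw [show -v 0 + -v 1 + -v 2 = -(v 0 + v 1 + v 2) by abel]; exact leftIdeal_neg h4

lemma lattice_smul {c : ℍ[ℝ]} (hc : c ∈ icosians) {v : Fin 3 → ℍ[ℝ]} (hv : v ∈ icoLeech) :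
    (fun t => c * v t) ∈ icoLeech := by
  obtain ⟨h1, h2, h3, h4⟩ := hv
  refine ⟨fun t => mul_mem hc (h1 t), ?_, ?_, ?_⟩
  · show c * v 0 - c * v 1 ∈ _; rw [← mul_sub]; exact leftIdeal_mul hc h2
  · show c * v 1 - c * v 2 ∈ _; rw [← mul_sub]; exact leftIdeal_mul hc h3
  · show c * v 0 + c * v 1 + c * v 2 ∈ _; rw [← mul_add, ← mul_add]; exact leftIdeal_mul hc h4

theorem inL_iff (v : Ico3) : inL v = true ↔ val3 v ∈ icoLeech := by
  have hb1 := val_hh_norm
  have hb2 : val (conj hh) * star (val (conj hh)) = 2 ∧ star (val (conj hh)) * val (conj hh) = 2 := by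
    rw [val_conj, star_star]; exact ⟨hb1.2, hb1.1⟩
  have c0 : val3 v 0 = val v.x := rfl
  have c1 : val3 v 1 = val v.y := rfl
  have c2 : val3 v 2 = val v.z := rfl
  constructor
  · intro h
    simp only [inL, Bool.and_eq_true] at h
    obtain ⟨⟨⟨⟨⟨hx, hy⟩, hz⟩, d1⟩, d2⟩, d3⟩ := h
    refine ⟨fun t => (mem_icosians _).mpr ?_, ?_, ?_, ?_⟩
    · fin_cases t
      exacts [⟨v.x, hx, rfl⟩, ⟨v.y, hy, rfl⟩, ⟨v.z, hz, rfl⟩]
    · rw [c0, c1, ← val_hh, ← val_sub]
      exact (inIh_iff hb1.1 hb1.2 (inI_sub hx hy)).mp d1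
    · rw [c1, c2, ← val_hh, ← val_sub]
      exact (inIh_iff hb1.1 hb1.2 (inI_sub hy hz)).mp d2
    · rw [c0, c1, c2, ← val_hh, ← val_conj, ← val_add, ← val_add]
      exact (inIh_iff hb2.1 hb2.2 (inI_add (inI_add hx hy) hz)).mp d3
  · rintro ⟨hI, d1, d2, d3⟩
    have key : ∀ q : Ico, val q ∈ icosians → inI q = true := fun q hq => by
      obtain ⟨p, hp, e⟩ := (mem_icosians _).mp hq
      rw [← val_injective e]; exact hp
    have hx := key v.x (hI 0)
    have hy := key v.y (hI 1)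
    have hz := key v.z (hI 2)
    rw [c0, c1, ← val_hh, ← val_sub, ← inIh_iff hb1.1 hb1.2 (inI_sub hx hy)] at d1
    rw [c1, c2, ← val_hh, ← val_sub, ← inIh_iff hb1.1 hb1.2 (inI_sub hy hz)] at d2
    rw [c0, c1, c2, ← val_hh, ← val_conj, ← val_add, ← val_add,
      ← inIh_iff hb2.1 hb2.2 (inI_add (inI_add hx hy) hz)] at d3
    simp [inL, hx, hy, hz, d1, d2, d3]

theorem mem_icoLeech (w : Fin 3 → ℍ[ℝ]) : w ∈ icoLeech ↔ ∃ v, inL v = true ∧ val3 v = w := by
  constructor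
  · intro hw
    obtain ⟨a, -, ha⟩ := (mem_icosians _).mp (hw.1 0)
    obtain ⟨b, -, hb⟩ := (mem_icosians _).mp (hw.1 1)
    obtain ⟨c, -, hc⟩ := (mem_icosians _).mp (hw.1 2)
    have e : val3 ⟨a, b, c⟩ = w := by
      funext t; fin_cases t
      exacts [ha, hb, hc]
    exact ⟨_, (inL_iff _).mpr (e ▸ hw), e⟩
  · rintro ⟨v, hv, rfl⟩
    exact (inL_iff v).mp hv

end Cfsg.Agent.IcosianCoords
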