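import Cfsg.Agent.Lib.IcosianCoords
import Cfsg.Agent.Lib.J2VectorData

set_option autoImplicit false
set_option maxRecDepth 100000

/-! Quaternionic reflections of the icosian Leech lattice in coordinates. -/

namespace Cfsg.Agent.IcosianRefl

open Cfsg.Agent.IcosianData Cfsg.Agent.IcosianCoords Cfsg.Agent.J2VectorData Cfsg.Spor Quaternion

/-- Left multiple of a vector. -/
noncomputable def lsmul (c : ℍ[ℝ]) (v : Fin 3 → ℍ[ℝ]) : Fin 3 → ℍ[ℝ] := fun t => c * v t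

lemma qip_add_left (x y r : Fin 3 → ℍ[ℝ]) : qip (x + y) r = qip x r + qip y r := by
  simp [qip, add_mul, Finset.sum_add_distrib]

lemma qip_lsmul_left (c : ℍ[ℝ]) (x r : Fin 3 → ℍ[ℝ]) : qip (lsmul c x) r = c * qip x r := by
  simp [qip, lsmul, Finset.mul_sum, mul_assoc]

lemma qip_lsmul_right (c : ℍ[ℝ]) (x r : Fin 3 → ℍ[ℝ]) : qip x (lsmul c r) = qip x r * star c := by
  simp [qip, lsmul, Finset.sum_mul, mul_assoc]

lemma star_qip (x y : Fin 3 → ℍ[ℝ]) : star (qip x y) = qip y x := by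
  simp [qip, star_sum]

lemma qrefl_eq (r x : Fin 3 → ℍ[ℝ]) : qrefl r x = x - lsmul ((1 / 2 : ℝ) • qip x r) r := rfl

lemma qip_sub_left (x y r : Fin 3 → ℍ[ℝ]) : qip (x - y) r = qip x r - qip y r := by
  simp [qip, sub_mul, Finset.sum_sub_distrib]

lemma qip_sub_right (x r s : Fin 3 → ℍ[ℝ]) : qip x (r - s) = qip x r - qip x s := by
  simp [qip, mul_sub, Finset.sum_sub_distrib]

lemma qrefl_add (r x y : Fin 3 → ℍ[ℝ]) : qrefl r (x + y) = qrefl r x + qrefl r y := by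
  rw [qrefl_eq, qrefl_eq, qrefl_eq, qip_add_left, smul_add]
  funext t
  simp only [lsmul, Pi.sub_apply, Pi.add_apply, add_mul]
  abel

lemma qrefl_lsmul (c : ℍ[ℝ]) (r x : Fin 3 → ℍ[ℝ]) : qrefl r (lsmul c x) = lsmul c (qrefl r x) := by
  rw [qrefl_eq, qrefl_eq, qip_lsmul_left]
  funext t
  simp only [lsmul, Pi.sub_apply, mul_sub]
  rw [← mul_smul_comm, mul_assoc]

lemma half_four : ((1 / 2 : ℝ) • (4 : ℍ[ℝ])) = 2 := by
  rw [show (4 : ℍ[ℝ]) = (2 : ℝ) • 2 by rw [two_smul]; norm_num, smul_smul]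
  norm_num

lemma qrefl_self {r : Fin 3 → ℍ[ℝ]} (hr : qip r r = 4) : qrefl r r = -r := by
  rw [qrefl_eq, hr, half_four]
  funext t
  simp only [lsmul, Pi.sub_apply, Pi.neg_apply, two_mul]
  abel

lemma qip_qrefl_self {r : Fin 3 → ℍ[ℝ]} (hr : qip r r = 4) (x : Fin 3 → ℍ[ℝ]) :
    qip (qrefl r x) r = -qip x r := by
  rw [qrefl_eq, qip_sub_left, qip_lsmul_left, hr]
  have h : ((1 / 2 : ℝ) • qip x r) * (4 : ℍ[ℝ]) = qip x r + qip x r := by
    rw [smul_mul_assoc, ← mul_smul_comm, half_four, mul_two]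
  rw [h]; abel

lemma qrefl_qrefl {r : Fin 3 → ℍ[ℝ]} (hr : qip r r = 4) (x : Fin 3 → ℍ[ℝ]) : qrefl r (qrefl r x) = x := by
  conv_lhs => rw [qrefl_eq, qip_qrefl_self hr, qrefl_eq]
  funext t
  simp only [lsmul, Pi.sub_apply, smul_neg, neg_mul]
  abel

lemma qip_qrefl {r : Fin 3 → ℍ[ℝ]} (hr : qip r r = 4) (x y : Fin 3 → ℍ[ℝ]) :
    qip (qrefl r x) (qrefl r y) = qip x y := by
  conv_lhs => rw [qrefl_eq r y, qip_sub_right, qip_lsmul_right, qip_qrefl_self hr, qrefl_eq, qip_sub_left,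
    qip_lsmul_left]
  rw [Quaternion.star_smul, star_qip, smul_mul_assoc, neg_mul, mul_smul_comm]
  abel

lemma qrefl_unit {u : ℍ[ℝ]} (hu : star u * u = 1) (r x : Fin 3 → ℍ[ℝ]) : qrefl (lsmul u r) x = qrefl r x := by
  rw [qrefl_eq, qrefl_eq, qip_lsmul_right]
  funext t
  simp only [lsmul, Pi.sub_apply]
  rw [← smul_mul_assoc, mul_assoc, ← mul_assoc (star u), hu, one_mul]

/-- Conjugating a reflection by another. -/
lemma qrefl_conj {g : Fin 3 → ℍ[ℝ]} (hg : qip g g = 4) (r x : Fin 3 → ℍ[ℝ]) :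
    qrefl g (qrefl r (qrefl g x)) = qrefl (qrefl g r) x := by
  have h : qip (qrefl g x) r = qip x (qrefl g r) := by
    conv_lhs => rw [← qrefl_qrefl hg r]
    rw [qip_qrefl hg]
  rw [qrefl_eq r, h, qrefl_eq (qrefl g r) x]
  have hs : ∀ a b, qrefl g (a - b) = qrefl g a - qrefl g b := fun a b => by
    have := qrefl_add g (a - b) b
    rw [sub_add_cancel] at this
    rw [this, add_sub_cancel_right]
  rw [hs, qrefl_qrefl hg, qrefl_lsmul]

/-- Componentwise sum. -/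
def add3 (v w : Ico3) : Ico3 := ⟨add v.x w.x, add v.y w.y, add v.z w.z⟩
/-- Left multiple. -/
def mul3 (u : Ico) (v : Ico3) : Ico3 := ⟨mul u v.x, mul u v.y, mul u v.z⟩
/-- Negation. -/
def neg3 (v : Ico3) : Ico3 := ⟨neg v.x, neg v.y, neg v.z⟩
/-- Twice the doubled inner product. -/
def dot (v w : Ico3) : Ico :=
  add (add (rawmul v.x (conj w.x)) (rawmul v.y (conj w.y))) (rawmul v.z (conj w.z))
/-- The image under a reflection. -/
def reflC (r x : Ico3) : Ico3 :=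
  ⟨sub x.x (mul (div 4 (dot x r)) r.x), sub x.y (mul (div 4 (dot x r)) r.y), sub x.z (mul (div 4 (dot x r)) r.z)⟩
/-- Exactness of `reflC`. -/
def reflOK (r x : Ico3) : Bool :=
  decide (dot x r = smul 4 (div 4 (dot x r))) &&
  decide (rawmul (div 4 (dot x r)) r.x = smul 2 (mul (div 4 (dot x r)) r.x)) &&
  decide (rawmul (div 4 (dot x r)) r.y = smul 2 (mul (div 4 (dot x r)) r.y)) &&
  decide (rawmul (div 4 (dot x r)) r.z = smul 2 (mul (div 4 (dot x r)) r.z))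
/-- Exactness of `mul3`. -/
def mulOK (u : Ico) (v : Ico3) : Bool :=
  decide (rawmul u v.x = smul 2 (mul u v.x)) && decide (rawmul u v.y = smul 2 (mul u v.y)) &&
    decide (rawmul u v.z = smul 2 (mul u v.z))
/-- Norm four. -/
def norm4 (v : Ico3) : Bool := decide (dot v v = ⟨16, 0, 0, 0, 0, 0, 0, 0⟩)

lemma qip_val3 (v w : Ico3) : qip (val3 v) (val3 w) = (1 / 2 : ℝ) • val (dot v w) := by
  simp only [qip, Fin.sum_univ_three, dot, val_add, smul_add, ← val_rawmul, val_conj]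
  rfl

lemma qrefl_val3 {r x : Ico3} (h : reflOK r x = true) : qrefl (val3 r) (val3 x) = val3 (reflC r x) := by
  simp only [reflOK, Bool.and_eq_true, decide_eq_true_eq] at h
  obtain ⟨⟨⟨h0, h1⟩, h2⟩, h3⟩ := h
  set s := div 4 (dot x r) with hs
  have hsv : (1 / 2 : ℝ) • qip (val3 x) (val3 r) = val s := by
    rw [qip_val3, h0, val_smul, smul_smul, smul_smul]
    norm_num
  rw [qrefl_eq, hsv]
  funext t
  fin_cases t
  · show val x.x - val s * val r.x = val (sub x.x (mul s r.x))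
    rw [val_sub, val_mul h1]
  · show val x.y - val s * val r.y = val (sub x.y (mul s r.y))
    rw [val_sub, val_mul h2]
  · show val x.z - val s * val r.z = val (sub x.z (mul s r.z))
    rw [val_sub, val_mul h3]

lemma val3_mul3 {u : Ico} {v : Ico3} (h : mulOK u v = true) : val3 (mul3 u v) = lsmul (val u) (val3 v) := by
  simp only [mulOK, Bool.and_eq_true, decide_eq_true_eq] at h
  obtain ⟨⟨h1, h2⟩, h3⟩ := h
  funext t
  fin_cases t
  exacts [(val_mul h1).symm, (val_mul h2).symm, (val_mul h3).symm]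

lemma val3_neg3 (v : Ico3) : val3 (neg3 v) = -val3 v := by
  funext t
  fin_cases t
  exacts [val_neg v.x, val_neg v.y, val_neg v.z]

lemma norm4_iff (v : Ico3) : norm4 v = true ↔ qip (val3 v) (val3 v) = 4 := by
  have h4 : (4 : ℍ[ℝ]) = (1 / 2 : ℝ) • val ⟨16, 0, 0, 0, 0, 0, 0, 0⟩ := by
    rw [show (⟨16, 0, 0, 0, 0, 0, 0, 0⟩ : Ico) = smul 8 one from rfl, val_smul, val_one, smul_smul]
    rw [show (1 / 2 : ℝ) * ((8 : ℤ) : ℝ) = 4 by norm_num,
      show (4 : ℝ) = 1 + 1 + 1 + 1 by norm_num, add_smul, add_smul, add_smul, one_smul]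
    norm_num
  rw [qip_val3, h4, norm4, decide_eq_true_eq]
  constructor
  · rintro h; rw [h]
  · intro h
    exact val_injective (smul_right_injective ℍ[ℝ] (by norm_num : (1 / 2 : ℝ) ≠ 0) h)

theorem units_norm : ∀ u ∈ units, rawmul (conj u) u = smul 2 one ∧ rawmul u (conj u) = smul 2 one ∧
    inI u = true ∧ inI (conj u) = true := by decide +kernel

lemma unit_star {u : Ico} (hu : u ∈ units) : star (val u) * val u = 1 ∧ val u * star (val u) = 1 := by
  obtain ⟨h1, h2, -, -⟩ := units_norm u hu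
  rw [← val_conj, val_mul h1, val_mul h2, val_one]
  exact ⟨rfl, rfl⟩

theorem gensL_inL : ∀ g ∈ gensL, inL g = true := by decide +kernel

theorem gensL_step : (gensL.take 12).map (fun g => g.z) = gensI ∧
    ((gensL.drop 12).take 12).map (fun g => g.y) = gensI.map (fun b => mul b hh) ∧
    ((gensL.drop 12).take 12).all (fun g => decide (g.z = zero)) = true ∧
    (gensL.drop 24).map (fun g => g.x) = gensI.map (fun b => smul 2 b) ∧
    (gensL.drop 24).all (fun g => decide (g.y = zero) && decide (g.z = zero)) = true ∧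
    gensI.all (fun b => decide (rawmul b hh = smul 2 (mul b hh))) = true := by decide +kernel

/-- Parities for elements of both left ideals. -/
theorem double_ideal_classes : ∀ c ∈ parityRep, ∀ a0 ∈ [0, 1], ∀ b0 ∈ [0, 1], ∀ a1 ∈ [0, 1], ∀ b1 ∈ [0, 1],
    ∀ a2 ∈ [0, 1], ∀ b2 ∈ [0, 1], ∀ a3 ∈ [0, 1], ∀ b3 ∈ [0, 1],
    inIh hh (add c (smul 2 ⟨a0, b0, a1, b1, a2, b2, a3, b3⟩)) = true →
    inIh (conj hh) (add c (smul 2 ⟨a0, b0, a1, b1, a2, b2, a3, b3⟩)) = true →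
    c = zero ∧ inI ⟨a0, b0, a1, b1, a2, b2, a3, b3⟩ = true := by decide +kernel

lemma double_ideal {x : ℍ[ℝ]} (h1 : x ∈ leftIdeal icoH) (h2 : x ∈ leftIdeal (star icoH)) :
    ∃ w, inI w = true ∧ x = val (smul 2 w) := by
  obtain ⟨a, ha, rfl⟩ := h1
  obtain ⟨p, hp, rfl⟩ := (mem_icosians _).mp ha
  have hI : val p * icoH ∈ icosians := by
    rw [← val_hh]
    exact mul_mem ((mem_icosians _).mpr ⟨p, hp, rfl⟩) ((mem_icosians _).mpr ⟨hh, by decide +kernel, rfl⟩)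
  obtain ⟨q, hq, hqe⟩ := (mem_icosians _).mp hI
  rw [← hqe] at h2 ⊢
  have hb1 := val_hh_norm
  have hb2 : val (conj hh) * star (val (conj hh)) = 2 ∧ star (val (conj hh)) * val (conj hh) = 2 := by
    rw [val_conj, star_star]; exact ⟨hb1.2, hb1.1⟩
  obtain ⟨c, hc, w, rfl⟩ := inI_decomp hq
  -- reduce `w` modulo 2
  set w0 : Ico := ⟨w.a0 % 2, w.b0 % 2, w.a1 % 2, w.b1 % 2, w.a2 % 2, w.b2 % 2, w.a3 % 2, w.b3 % 2⟩ with hw0
  have hd : add c (smul 2 w) = add (add c (smul 2 w0)) (smul 4 (div 2 (sub w w0))) := by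
    simp only [add, smul, div, sub, hw0, Ico.mk.injEq]; omega
  set e := div 2 (sub w w0)
  have hfour : ∀ h : Ico, inI h = true → inI (conj h) = true → val h * star (val h) = 2 →
      star (val h) * val h = 2 → val (smul 4 e) ∈ leftIdeal (val h) := by
    intro h _ hch _ n2
    refine ⟨val (smul 2 e) * val (conj h), mul_mem ((mem_icosians _).mpr ⟨smul 2 e, ?_, rfl⟩)
      ((mem_icosians _).mpr ⟨conj h, hch, rfl⟩), ?_⟩
    · have e1 : smul 2 e = add zero (smul 2 e) := by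
        simp only [add, zero, smul, Ico.mk.injEq]; omega
      rw [e1, inI, par_add_two]
      decide +kernel
    · rw [mul_assoc, val_conj, n2, mul_two, ← val_add]
      congr 1
      simp only [add, smul, Ico.mk.injEq]; omega
  have hsub : ∀ h : Ico, inI h = true → inI (conj h) = true → val h * star (val h) = 2 →
      star (val h) * val h = 2 → val (add c (smul 2 w)) ∈ leftIdeal (val h) →
      inIh h (add c (smul 2 w0)) = true := by
    intro h a b n1 n2 hm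
    refine (inIh_iff n1 n2 ?_).mpr ?_
    · rw [inI, par_add_two]
      have key : ∀ a ∈ parityRep, inI a = true := by decide +kernel
      exact key c hc
    · have := leftIdeal_add hm (leftIdeal_neg (hfour h a b n1 n2))
      rwa [hd, val_add, add_neg_cancel_right] at this
  have k1 := hsub hh (by decide +kernel) (by decide +kernel) hb1.1 hb1.2 (by
    rw [hqe, val_hh]; exact ⟨val p, ha, rfl⟩)
  have k2 := hsub (conj hh) (by decide +kernel) (by decide +kernel) hb2.1 hb2.2 (by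
    rw [val_conj, val_hh]; exact h2)
  have hm : ∀ a : ℤ, a % 2 ∈ ([0, 1] : List ℤ) := fun a => by
    rcases Int.emod_two_eq a with h | h <;> simp [h]
  obtain ⟨rfl, hw⟩ := double_ideal_classes c hc _ (hm w.a0) _ (hm w.b0) _ (hm w.a1) _ (hm w.b1) _ (hm w.a2) _
    (hm w.b2) _ (hm w.a3) _ (hm w.b3) k1 k2
  refine ⟨w, ?_, congrArg val (by simp only [add, zero, smul, Ico.mk.injEq]; omega)⟩
  have e1 : ∀ u : Ico, u = add ⟨u.a0 % 2, u.b0 % 2, u.a1 % 2, u.b1 % 2, u.a2 % 2, u.b2 % 2, u.a3 % 2, u.b3 % 2⟩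
      (smul 2 (div 2 (sub u ⟨u.a0 % 2, u.b0 % 2, u.a1 % 2, u.b1 % 2, u.a2 % 2, u.b2 % 2, u.a3 % 2, u.b3 % 2⟩))) := by
    rintro ⟨a0, b0, a1, b1, a2, b2, a3, b3⟩
    simp only [add, smul, div, sub, Ico.mk.injEq]; omega
  rw [e1 w, inI, par_add_two]
  exact hw

/-- An additive subgroup containing the 36 generators contains the lattice. -/
theorem lattice_le (S : AddSubgroup (Fin 3 → ℍ[ℝ])) (hS : ∀ g ∈ gensL, val3 g ∈ S) : lattice ≤ S := by
  obtain ⟨hA, hB, hB0, hC, hC0, hmul⟩ := gensL_step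
  intro v hv
  have main : ∀ v ∈ lattice, ∃ s ∈ S, s ∈ lattice ∧ s 2 = v 2 := by
    intro v hv
    obtain ⟨c, hc, hce⟩ := (mem_icosians _).mp (hv.1 2)
    let T : AddSubgroup ℍ[ℝ] := (S ⊓ lattice).map (Pi.evalAddMonoidHom (fun _ : Fin 3 => ℍ[ℝ]) 2)
    have : val c ∈ T := by
      refine mem_of_gens T (fun a ha => ?_) hc
      rw [← hA] at ha
      obtain ⟨g, hg, rfl⟩ := List.mem_map.mp ha
      have hg' := List.mem_of_mem_take hg
      exact ⟨val3 g, ⟨hS g hg', (inL_iff g).mp (gensL_inL g hg')⟩, rfl⟩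
    obtain ⟨s, ⟨hs1, hs2⟩, hs3⟩ := this
    exact ⟨s, hs1, hs2, hs3.trans hce⟩
  obtain ⟨s, hs, hsl, hs2⟩ := main v hv
  have hw : v - s ∈ lattice := sub_mem hv hsl
  have hw2 : (v - s) 2 = 0 := sub_eq_zero.mpr hs2.symm
  obtain ⟨a, ha, hae⟩ := hw.2.2.1
  rw [hw2, sub_zero] at hae
  obtain ⟨c, hc, rfl⟩ := (mem_icosians _).mp ha
  let T1 : AddSubgroup ℍ[ℝ] :=
    (((S ⊓ lattice) ⊓ (Pi.evalAddMonoidHom (fun _ : Fin 3 => ℍ[ℝ]) 2).ker).map
      (Pi.evalAddMonoidHom (fun _ : Fin 3 => ℍ[ℝ]) 1)).comap (AddMonoidHom.mulRight icoH)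
  have : val c ∈ T1 := by
    refine mem_of_gens T1 (fun b hb => ?_) hc
    have hb' : mul b hh ∈ gensI.map (fun b => mul b hh) := List.mem_map.mpr ⟨b, hb, rfl⟩
    rw [← hB] at hb'
    obtain ⟨g, hg, hge⟩ := List.mem_map.mp hb'
    have hg' : g ∈ gensL := List.mem_of_mem_drop (List.mem_of_mem_take hg)
    refine ⟨val3 g, ⟨⟨hS g hg', (inL_iff g).mp (gensL_inL g hg')⟩, ?_⟩, ?_⟩
    · show val g.z = 0
      rw [of_decide_eq_true (List.all_eq_true.mp hB0 g hg), val_zero]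
    · show val g.y = val b * icoH
      rw [hge, ← val_mul (of_decide_eq_true (List.all_eq_true.mp hmul b hb)), val_hh]
  obtain ⟨s', ⟨⟨hs1, hsl'⟩, hsk⟩, hs'⟩ := this
  have hsk' : s' 2 = 0 := hsk
  have hs'1 : s' 1 = val c * icoH := hs'
  have hu : v - s - s' ∈ lattice := sub_mem hw hsl'
  have hu2 : (v - s - s') 2 = 0 := by simp only [Pi.sub_apply] at hw2 ⊢; rw [hw2, hsk', sub_zero]
  have hu1 : (v - s - s') 1 = 0 := by rw [Pi.sub_apply, hae, hs'1, sub_self]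
  have d1 := hu.2.1
  have d3 := hu.2.2.2
  rw [hu1, sub_zero] at d1
  rw [hu1, hu2, add_zero, add_zero] at d3
  obtain ⟨w, hw', he⟩ := double_ideal d1 d3
  let T0 : AddSubgroup ℍ[ℝ] :=
    ((S ⊓ (Pi.evalAddMonoidHom (fun _ : Fin 3 => ℍ[ℝ]) 1).ker ⊓ (Pi.evalAddMonoidHom (fun _ : Fin 3 => ℍ[ℝ]) 2).ker).map
      (Pi.evalAddMonoidHom (fun _ : Fin 3 => ℍ[ℝ]) 0)).comap
        (AddMonoidHom.mulLeft (2 : ℍ[ℝ]))
  have hdbl : ∀ b : Ico, (2 : ℍ[ℝ]) * val b = val (smul 2 b) := fun b => by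
    rw [val_smul, two_mul, show ((2 : ℤ) : ℝ) = 1 + 1 by norm_num, add_smul, one_smul]
  have : val w ∈ T0 := by
    refine mem_of_gens T0 (fun b hb => ?_) hw'
    have hb' : smul 2 b ∈ gensI.map (fun b => smul 2 b) := List.mem_map.mpr ⟨b, hb, rfl⟩
    rw [← hC] at hb'
    obtain ⟨g, hg, hge⟩ := List.mem_map.mp hb'
    have h0 := List.all_eq_true.mp hC0 g hg
    simp only [Bool.and_eq_true, decide_eq_true_eq] at h0
    refine ⟨val3 g, ⟨⟨hS g (List.mem_of_mem_drop hg), ?_⟩, ?_⟩, ?_⟩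
    · show val g.y = 0; rw [h0.1, val_zero]
    · show val g.z = 0; rw [h0.2, val_zero]
    · show val g.x = (2 : ℍ[ℝ]) * val b; rw [hge, hdbl]
  obtain ⟨t, ⟨⟨ht, ht1⟩, ht2⟩, ht0⟩ := this
  have : v - s - s' = t := by
    funext j
    fin_cases j
    · exact he.trans ((hdbl w).symm.trans ht0.symm)
    · exact hu1.trans (show t 1 = 0 from ht1).symm
    · exact hu2.trans (show t 2 = 0 from ht2).symm
  have hv' : v = s + s' + t := by rw [← this]; abel
  rw [hv']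
  exact add_mem (add_mem hs hs1) ht

theorem gens_refl_ok : ∀ k ∈ genIdx, (norm4 (roots.getD k ⟨zero, zero, zero⟩) && inL (roots.getD k ⟨zero, zero, zero⟩) &&
    gensL.all fun g => reflOK (roots.getD k ⟨zero, zero, zero⟩) g && inL (reflC (roots.getD k ⟨zero, zero, zero⟩) g)) = true := by
  decide +kernel

/-- The generating reflections preserve the lattice. -/
theorem gen_preserves {k : ℕ} (hk : k ∈ genIdx) {x : Fin 3 → ℍ[ℝ]} (hx : x ∈ icoLeech) :
    qrefl (val3 (roots.getD k ⟨zero, zero, zero⟩)) x ∈ icoLeech := by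
  set r := roots.getD k ⟨zero, zero, zero⟩ with hr
  have h := gens_refl_ok k hk
  simp only [← hr, Bool.and_eq_true, List.all_eq_true] at h
  obtain ⟨-, hg⟩ := h
  let φ : (Fin 3 → ℍ[ℝ]) →+ (Fin 3 → ℍ[ℝ]) := AddMonoidHom.mk' (qrefl (val3 r)) (qrefl_add (val3 r))
  refine lattice_le (lattice.comap φ) (fun g hg' => ?_) hx
  obtain ⟨ho, hi⟩ := hg g hg'
  show qrefl (val3 r) (val3 g) ∈ icoLeech
  rw [qrefl_val3 ho]
  exact (inL_iff _).mp hi

end Cfsg.Agent.IcosianRefl
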