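import Mathlib
import Cfsg.Agent.Lib.GlaubermanZJ
import Cfsg.Agent.Lib.GlaubermanStable
import Cfsg.Agent.Lib.QuadraticMain
import Cfsg.Agent.Lib.QuadraticQd
import Cfsg.Agent.Lib.ConjFunctorMaster

/-!
# Inverted elements are pushed into `N(ZJ(T))`

For odd `p`, if some nontrivial `p`-element of `G` is inverted, then this happens inside `N(ZJ(T))`
for a Sylow subgroup `T`.  The engine: a quadratic element outside `O_p` commutes with an
involution.
-/

set_option autoImplicit false
set_option linter.style.haveILetI false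

open scoped commutatorElement

namespace Cfsg.Agent.InvertedPush

open Subgroup GlaubermanZJ

universe u

variable {G : Type u} [Group G] {p n : ℕ}

theorem quad_of {B A : Subgroup G} [B.Normal] (hA : ∀ a ∈ A, ∀ b ∈ A, a * b = b * a)
    (hB : B ≤ normalizer (A : Set G)) {a : G} (ha : a ∈ A) :
    ⁅⁅B, zpowers a⁆, zpowers a⁆ = ⊥ := by
  have h1 : ⁅B, zpowers a⁆ ≤ A := commutator_le.mpr fun b hb c hc => by
    have hcA : c ∈ A := zpowers_le.mpr ha hc
    rw [commutatorElement_def]
    exact mul_mem ((mem_normalizer_iff.mp (hB hb) c).mp hcA) (inv_mem hcA)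
  refine le_bot_iff.mp ((commutator_mono h1 (zpowers_le.mpr ha)).trans ?_)
  exact commutator_le.mpr fun b hb c hc =>
    mem_bot.mpr (commutatorElement_eq_one_iff_commute.mpr (hA b hb c hc))

/-- Glauberman's ZJ theorem, with stability asked only where its proof needs it. -/
theorem thomY_normal' [Finite G] [hp : Fact p.Prime] (hp2 : p ≠ 2) (hn0' : n = 0)
    (P : Sylow p G) (D : Subgroup G) (hD : Cfsg.IsStronglyClosed D (P : Subgroup G))
    (hst : ∀ (B : Subgroup G) [B.Normal], IsPGroup p B →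
      (∀ N : Subgroup G, N.Normal → IsPGroup p N → thomY n D ≤ N → B ≤ N) →
      ∀ A ∈ maxFam n D, ∀ a ∈ A, ⁅⁅B, zpowers a⁆, zpowers a⁆ = ⊥ → a ∈ actCore p B)
    (hc : centralizer (Cfsg.pCore p G : Set G) ≤ Cfsg.pCore p G) :
    (thomY n D).Normal := by
  have hn : n = 0 ∨ n = p := Or.inl hn0'
  set Y := thomY n D with hYdef
  have hYP : Y ≤ (P : Subgroup G) := (thomY_le D).trans hD.1
  have hPY : (P : Subgroup G) ≤ normalizer (Y : Set G) :=
    (le_normalizer_of_isStronglyClosed hD).trans (normalizer_le_thomY D)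
  haveI hQn := HallCore.pCore_normal p G
  have hQp : IsPGroup p (Cfsg.pCore p G) := HallCore.isPGroup_pCore p G
  have hQP : Cfsg.pCore p G ≤ (P : Subgroup G) := HallCore.pCore_le_sylow P
  have hYQ : Y ≤ Cfsg.pCore p G := by
    intro y hy
    by_contra hyQ
    obtain ⟨A, hA⟩ := exists_maxFam n D
    have h1 := hst _ hQp (fun N hN hNp hYN => (hyQ (HallCore.le_pCore hNp (hYN hy))).elim) A hA y
      (mem_of_commute hA (thomY_le D hy) (by rw [hn0']; exact pow_zero y) fun a ha => thomY_comm hA hy ha)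
      (quad_of (fun a ha b hb => thomY_isComm ha hb) (hQP.trans hPY) hy)
    have h2 : IsPGroup p (actCore p (Cfsg.pCore p G)) :=
      HallCore.isPGroup_comap_mk' (hQp.to_le hc) (HallCore.isPGroup_pCore p _)
    exact hyQ (HallCore.le_pCore h2 h1)
  suffices key : ∀ (k : ℕ) (B : Subgroup G), Nat.card B = k → B.Normal → IsPGroup p B →
      (B ⊓ Y).Normal by
    simpa [inf_eq_right.mpr hYQ] using key _ _ rfl hQn hQp
  intro k
  induction k using Nat.strong_induction_on with
  | _ k ih =>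
  intro B hk hBn hBp
  have hsmall : ∀ B' : Subgroup G, B' < B → B'.Normal → (B' ⊓ Y).Normal := fun B' hlt hn' =>
    ih _ (hk ▸ Set.Finite.card_lt_card (Set.toFinite _) hlt) B' rfl hn' (hBp.to_le hlt.le)
  by_contra hbad
  have hBne : B ≠ ⊥ := by
    rintro rfl
    exact hbad (by rw [bot_inf_eq]; infer_instance)
  have hBP : B ≤ (P : Subgroup G) := (HallCore.le_pCore hBp).trans hQP
  set Z := B ⊓ Y with hZdef
  -- `B` is generated by the conjugates of `Z`
  have hgen : normalClosure (Z : Set G) = B := by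
    have hle : normalClosure (Z : Set G) ≤ B := normalClosure_le_normal (inf_le_left (b := Y))
    refine eq_of_le_of_not_lt hle fun hlt => hbad ?_
    have h1 : normalClosure (Z : Set G) ⊓ Y = Z :=
      le_antisymm (inf_le_inf_right _ hle) (le_inf subset_normalClosure inf_le_right)
    rw [← h1]
    exact hsmall _ hlt normalClosure_normal
  have hBD : B ≤ D := by
    rw [← hgen, normalClosure, closure_le]
    intro x hx
    obtain ⟨z, hz, hzx⟩ := Group.mem_conjugatesOfSet_iff.mp hx
    obtain ⟨g, rfl⟩ := isConj_iff.mp hzx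
    exact hD.2 z (thomY_le D hz.2) g (hBP (hBn.conj_mem z hz.1 g))
  -- the derived group of `B`
  have hder : ⁅B, B⁆ < B := commutator_lt_of_pGroup hBp hBne
  set K := ⁅B, B⁆ ⊓ Y with hKdef
  haveI hKn : K.Normal := hsmall _ hder inferInstance
  have hZB : ⁅Z, B⁆ ≤ K := by
    refine le_inf (commutator_mono inf_le_left le_rfl) (commutator_le.mpr fun z hz b hb => ?_)
    rw [commutatorElement_def, mul_assoc z, mul_assoc]
    exact mul_mem hz.2 ((mem_normalizer_iff.mp (hPY (hBP hb)) _).mp (inv_mem hz.2))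
  have hBK : ⁅B, B⁆ ≤ K := by
    rw [← QuotientGroup.ker_mk' K, ← Subgroup.map_eq_bot_iff, map_commutator,
      commutator_eq_bot_iff_le_centralizer, map_le_iff_le_comap]
    set M := (centralizer ((B.map (QuotientGroup.mk' K) : Subgroup (G ⧸ K)) : Set (G ⧸ K))).comap
      (QuotientGroup.mk' K) with hM
    haveI : (B.map (QuotientGroup.mk' K)).Normal :=
      hBn.map _ (QuotientGroup.mk'_surjective K)
    haveI : M.Normal := Normal.comap inferInstance _
    conv_lhs => rw [← hgen]
    refine normalClosure_le_normal fun z hz => ?_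
    refine mem_comap.mpr (mem_centralizer_iff.mpr ?_)
    rintro _ ⟨b, hb, rfl⟩
    have h1 : QuotientGroup.mk' K ⁅z, b⁆ = 1 :=
      (QuotientGroup.eq_one_iff _).mpr (hZB (commutator_mem_commutator hz hb))
    rw [map_commutatorElement, commutatorElement_eq_one_iff_commute] at h1
    exact h1.eq.symm
  have hKZ : K ≤ Z := inf_le_inf_right _ hder.le
  -- class two
  have hcls : ⁅⁅B, B⁆, B⁆ = ⊥ := by
    rw [commutator_eq_bot_iff_le_centralizer]
    refine hBK.trans ?_
    rw [le_centralizer_iff]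
    haveI : (centralizer (K : Set G)).Normal := normal_centralizer
    conv_lhs => rw [← hgen]
    exact normalClosure_le_normal fun z hz =>
      mem_centralizer_iff.mpr fun t ht => thomY_isComm ht.2 hz.2
  have hcomB : ∀ t ∈ ⁅B, B⁆, ∀ b ∈ B, Commute b t := fun t ht b hb =>
    mem_centralizer_iff.mp (commutator_eq_bot_iff_le_centralizer.mp hcls ht) b hb
  -- the elements of `B` killed by `n`
  set B1 := closure {b : G | b ∈ B ∧ b ^ n = 1} with hB1
  have hB1B : B1 ≤ B := (closure_le _).mpr fun b hb => hb.1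
  have hB1pow : ∀ b ∈ B1, b ^ n = 1 := by
    intro b hb
    induction hb using closure_induction with
    | mem x hx => exact hx.2
    | one => exact one_pow _
    | mul x y hx hy ihx ihy =>
      rcases hn with hn0 | hnp
      · rw [hn0]; exact pow_zero _
      · rw [hnp] at ihx ihy ⊢
        have hxB := hB1B hx
        have hyB := hB1B hy
        have hzK : ⁅y⁻¹, x⁻¹⁆ ∈ ⁅B, B⁆ :=
          commutator_mem_commutator (inv_mem hyB) (inv_mem hxB)
        have hz : ⁅y⁻¹, x⁻¹⁆ ^ p = 1 :=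
          commutator_pow_eq_one (hcomB _ hzK _ (inv_mem hyB)) (by rw [inv_pow, ihy, inv_one])
        obtain ⟨j, hj⟩ := Nat.Prime.dvd_choose_self hp.out two_ne_zero
          (lt_of_le_of_ne hp.out.two_le (Ne.symm hp2))
        rw [OmegaCoprime.mul_pow_class_two (z := ⁅y⁻¹, x⁻¹⁆)
          (by rw [commutatorElement_def]; group) (hcomB _ hzK _ hxB).symm (hcomB _ hzK _ hyB).symm,
          ihx, ihy, hj, pow_mul, hz, one_pow, one_mul, one_mul]
    | inv x _ ih => rw [inv_pow, ih, inv_one]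
  have hB1iff : ∀ b, b ∈ B1 ↔ b ∈ B ∧ b ^ n = 1 :=
    fun b => ⟨fun h => ⟨hB1B h, hB1pow b h⟩, fun h => subset_closure h⟩
  haveI hB1n : B1.Normal := ⟨fun b hb g => (hB1iff _).mpr
    ⟨hBn.conj_mem b (hB1B hb) g, by rw [conj_pow, hB1pow b hb, mul_one, mul_inv_cancel]⟩⟩
  have hB1p : IsPGroup p B1 := hBp.to_le hB1B
  have hB1A : ∀ A ∈ maxFam n D, ⁅B1, B1⁆ ≤ A := by
    intro A hA
    refine commutator_le.mpr fun b hb c hc' => ?_
    have ht := commutator_mem_commutator (hB1B hb) (hB1B hc')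
    have htY : ⁅b, c⁆ ∈ Y := (hBK ht).2
    exact mem_of_commute hA (thomY_le D htY)
      (commutator_pow_eq_one (hcomB _ ht b (hB1B hb)) (hB1pow b hb))
      fun a ha => thomY_comm hA htY ha
  have hB1cls : ⁅⁅B1, B1⁆, B1⁆ = ⊥ :=
    le_bot_iff.mp (hcls ▸ commutator_mono (commutator_mono hB1B hB1B) hB1B)
  -- the action kernels of `B1` and `B`
  set L := actCore p B with hLdef
  have hLB1 : actCore p B1 ≤ L := by
    set C := centralizer (B : Set G) with hC
    have hCC : ∀ c ∈ centralizer (B1 : Set G), ∃ i, c ^ p ^ i ∈ C := by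
      intro c hc'
      obtain ⟨i, m, hm, hcm⟩ :=
        Nat.exists_eq_pow_mul_and_not_dvd (orderOf_pos c).ne' p hp.out.ne_one
      refine ⟨i, mem_centralizer_iff.mpr fun b hb => ?_⟩
      have hcop : (orderOf (c ^ p ^ i)).Coprime p := by
        rw [orderOf_pow_of_dvd (pow_ne_zero _ hp.out.ne_zero) (hcm ▸ dvd_mul_right _ _), hcm,
          Nat.mul_div_cancel_left _ (pow_pos hp.out.pos i)]
        exact (hp.out.coprime_iff_not_dvd.mpr hm).symm
      refine (OmegaCoprime.commute_of_forall_pow_eq_one hp2 hcop B hBp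
        (fun x hx => hBn.conj_mem x hx _) (fun x hx hxp => ?_) b hb).symm.eq
      have hx1 : x ∈ B1 := by
        refine (hB1iff x).mpr ⟨hx, ?_⟩
        rcases hn with hn0 | hnp
        · rw [hn0]; exact pow_zero x
        · rw [hnp]; exact hxp
      have hci : c ^ p ^ i ∈ centralizer (B1 : Set G) := pow_mem hc' _
      exact (mem_centralizer_iff.mp hci x hx1).symm
    refine map_le_iff_le_comap.mp ?_
    haveI : ((actCore p B1).map (QuotientGroup.mk' C)).Normal :=
      (actCore_normal p B1).map _ (QuotientGroup.mk'_surjective C)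
    refine HallCore.le_pCore ?_
    rintro ⟨_, g, hg, rfl⟩
    obtain ⟨i, hi⟩ := HallCore.isPGroup_pCore p (G ⧸ centralizer (B1 : Set G)) ⟨_, hg⟩
    have hi' : g ^ p ^ i ∈ centralizer (B1 : Set G) := by
      rw [← QuotientGroup.eq_one_iff]
      exact congrArg Subtype.val hi
    obtain ⟨j, hj⟩ := hCC _ hi'
    refine ⟨i + j, Subtype.ext ?_⟩
    rw [SubgroupClass.coe_pow, OneMemClass.coe_one]
    change (QuotientGroup.mk' C g) ^ p ^ (i + j) = 1
    rw [← map_pow, QuotientGroup.mk'_apply, QuotientGroup.eq_one_iff, pow_add, pow_mul]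
    exact hj
  have hAL : ∀ A ∈ maxFam n D, B1 ≤ normalizer (A : Set G) → A ≤ L := fun A hA hnA a ha =>
    hLB1 (hst B1 hB1p (fun N hN _ hYN => by
      haveI := hN
      exact hB1B.trans (hgen.symm.le.trans (normalClosure_le_normal (inf_le_right.trans hYN))))
      A hA a ha (quad_of hA.1.comm hnA ha))
  -- replacement inside `D`
  have hrep : ∀ A ∈ maxFam n D, ¬ B1 ≤ normalizer (A : Set G) →
      ∃ As ∈ maxFam n D, A ⊓ B1 < As ⊓ B1 ∧ As ≤ normalizer (A : Set G) := by
    intro A hA hnot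
    obtain ⟨As, hc1, hcard, hlt, hnorm, -, hle, hpow, -⟩ :=
      GlaubermanReplace.replacement hp2 (A := A) (B := B1)
        (P.isPGroup'.to_le (sup_le (hA.1.le.trans hD.1) (hB1B.trans hBP)))
        ⟨⟨fun a b => Subtype.ext (hA.1.comm a a.2 b b.2)⟩⟩ hB1cls (hB1A A hA)
        (le_normalizer_of_normal : A ≤ normalizer (B1 : Set G)) hnot
    refine ⟨As, ⟨⟨hle.trans (sup_le hA.1.le (hB1B.trans hBD)),
      fun a ha b hb => congrArg Subtype.val (hc1.is_comm.comm (⟨a, ha⟩ : As) ⟨b, hb⟩),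
      hpow n hA.1.pow⟩, fun A' hA' => hcard ▸ hA.2 A' hA'⟩, hlt, hnorm⟩
  obtain ⟨A0, hA0, hA0max⟩ := Set.exists_max_image (maxFam n D)
    (fun A => Nat.card (A ⊓ B1 : Subgroup G)) (Set.toFinite _) (exists_maxFam n D)
  have hA0L : A0 ≤ L := hAL A0 hA0 <| by
    by_contra h
    obtain ⟨As, hAs, hlt, -⟩ := hrep A0 hA0 h
    exact absurd (hA0max As hAs) (not_le.mpr (Set.Finite.card_lt_card (Set.toFinite _) hlt))
  -- Frattini
  set PL := (P : Subgroup G) ⊓ L with hPL
  set DL := D ⊓ L with hDL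
  have hN : normalizer (PL : Set G) ≤ normalizer (DL : Set G) := by
    refine LocalBasics.le_normalizer_of_conj fun g hg d hd => ?_
    have h1 : g * d * g⁻¹ ∈ PL := (mem_normalizer_iff.mp hg d).mp ⟨hD.1 hd.1, hd.2⟩
    exact ⟨hD.2 d hd.1 g h1.1, h1.2⟩
  have hnormal : ∀ X : Subgroup G, X ≤ B → normalizer (DL : Set G) ≤ normalizer (X : Set G) →
      X.Normal := by
    intro X hXB hX
    rw [← normalizer_eq_top_iff, ← top_le_iff, ← centralizer_sup_normalizer P B]
    exact sup_le (OffendersReplace.le_normalizer_of_commute fun c hc' x hx =>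
      (mem_centralizer_iff.mp hc' x (hXB hx)).symm) (hN.trans hX)
  have hfam : ∀ A ∈ maxFam n D, A ≤ L → A ∈ maxFam n DL := fun A hA hle =>
    ⟨⟨le_inf hA.1.le hle, hA.1.comm, hA.1.pow⟩,
      fun A' hA' => hA.2 A' ⟨hA'.le.trans inf_le_left, hA'.comm, hA'.pow⟩⟩
  have hfam' : ∀ A ∈ maxFam n DL, A ∈ maxFam n D := fun A hA =>
    ⟨⟨hA.1.le.trans inf_le_left, hA.1.comm, hA.1.pow⟩,
      fun A' hA' => (hA0.2 A' hA').trans (hA.2 A0 (hfam A0 hA0 hA0L).1)⟩
  have hJle : thomJ n DL ≤ thomJ n D := sSup_le fun A hA => le_thomJ (hfam' A hA)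
  by_cases hall : ∀ A ∈ maxFam n D, A ≤ L
  · have hJeq : thomJ n DL = thomJ n D :=
      le_antisymm hJle (sSup_le fun A hA => le_thomJ (hfam A hA (hall A hA)))
    refine hbad (hnormal Z inf_le_left ?_)
    have hYeq : thomY n DL = Y := by rw [hYdef, thomY, thomY, hJeq]
    exact LocalBasics.le_normalizer_inf (le_normalizer_of_normal)
      (hYeq ▸ normalizer_le_thomY DL)
  · -- `B` centralizes `J(DL)`
    set X := B ⊓ centralizer (thomJ n DL : Set G) with hX
    haveI hXn : X.Normal := hnormal X inf_le_left (LocalBasics.le_normalizer_inf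
      le_normalizer_of_normal (LocalBasics.le_normalizer_centralizer (normalizer_le_thomJ DL)))
    have hBX : B ≤ centralizer (thomJ n DL : Set G) := by
      conv_lhs => rw [← hgen]
      refine (normalClosure_le_normal (N := X) fun z hz => ⟨hz.1, ?_⟩).trans inf_le_right
      exact centralizer_le hJle hz.2.2
    push Not at hall
    obtain ⟨A1, ⟨hA1, hA1L⟩, hA1max⟩ := Set.exists_max_image {A ∈ maxFam n D | ¬ A ≤ L}
      (fun A => Nat.card (A ⊓ B1 : Subgroup G)) (Set.toFinite _)
      (by obtain ⟨A, hA, hA'⟩ := hall; exact ⟨A, hA, hA'⟩)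
    have hnot : ¬ B1 ≤ normalizer (A1 : Set G) := fun h => hA1L (hAL A1 hA1 h)
    obtain ⟨As, hAs, hlt, hAsN⟩ := hrep A1 hA1 hnot
    have hAsL : As ≤ L := by
      by_contra h
      exact absurd (hA1max As ⟨hAs, h⟩) (not_le.mpr (Set.Finite.card_lt_card (Set.toFinite _) hlt))
    refine hnot (fun b hb => hAsN (mem_of_commute hAs (hBD (hB1B hb)) (hB1pow b hb) fun a ha => ?_))
    exact mem_centralizer_iff.mp (hBX (hB1B hb)) a (le_thomJ (hfam As hAs hAsL) ha)


section rep

variable [Fact p.Prime] {H : Type*} [Group H] [Finite H] {M : Type*} [AddCommGroup M]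
  [Module (ZMod p) M] [Finite M]

omit [Finite M] in
/-- In a group generated by two quadratic elements, `h + h⁻¹` is central in the algebra. -/
theorem trace_comm (ρ : H →* Module.End (ZMod p) M) {a b : H} {u w : Module.End (ZMod p) M}
    (hu : u * u = 0) (hw : w * w = 0) (ha : ρ a = 1 + u) (hb : ρ b = 1 + w)
    (hgen : Subgroup.closure ({a, b} : Set H) = ⊤) (h g : H) :
    Commute (ρ h + ρ h⁻¹) (ρ g) := by
  set s := u * w + w * u with hs
  have hsu : Commute s u := by
    show s * u = u * s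
    rw [hs, add_mul, mul_add, mul_assoc w, hu, mul_zero, add_zero, ← mul_assoc u u, hu, zero_mul,
      zero_add, mul_assoc]
  have hsw : Commute s w := by
    show s * w = w * s
    rw [hs, add_mul, mul_add, mul_assoc u, hw, mul_zero, zero_add, ← mul_assoc w w, hw, zero_mul,
      add_zero, mul_assoc]
  set Z := Subalgebra.centralizer (ZMod p) ({u, w} : Set (Module.End (ZMod p) M)) with hZ
  have hsZ : s ∈ Z := by
    rw [hZ, Subalgebra.mem_centralizer_iff]
    rintro x (rfl | rfl)
    exacts [hsu.eq.symm, hsw.eq.symm]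
  have hZc : ∀ z ∈ Z, z * u = u * z ∧ z * w = w * z := fun z hz => by
    rw [hZ, Subalgebra.mem_centralizer_iff] at hz
    exact ⟨(hz u (Or.inl rfl)).symm, (hz w (Or.inr rfl)).symm⟩
  -- coordinates with respect to `1, u, w, uw`
  have key : ∀ x : H, ∃ α ∈ Z, ∃ β ∈ Z, ∃ γ ∈ Z, ∃ δ ∈ Z,
      ρ x = α + β * u + γ * w + δ * (u * w) ∧
        ρ x⁻¹ = α - β * u - γ * w + δ * (w * u) := by
    have hinv : ∀ {c : H} {e : Module.End (ZMod p) M}, e * e = 0 → ρ c = 1 + e → ρ c⁻¹ = 1 - e := by
      intro c e he hc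
      have h1 : ρ c * (1 - e) = 1 := by
        rw [hc, add_mul, one_mul, mul_sub, mul_one, he, sub_zero, sub_add_cancel]
      calc ρ c⁻¹ = ρ c⁻¹ * (ρ c * (1 - e)) := by rw [h1, mul_one]
        _ = 1 - e := by rw [← mul_assoc, ← map_mul, inv_mul_cancel, map_one, one_mul]
    intro x
    have hx : x ∈ Submonoid.closure ({a, b} : Set H) := by
      rw [← Subgroup.closure_toSubmonoid_of_finite, hgen]
      trivial
    induction hx using Submonoid.closure_induction_left with
    | one => exact ⟨1, one_mem _, 0, zero_mem _, 0, zero_mem _, 0, zero_mem _, by simp, by simp⟩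
    | mul_left c hc y _ ih =>
      obtain ⟨α, hα, β, hβ, γ, hγ, δ, hδ, e1, e2⟩ := ih
      obtain ⟨au, aw⟩ := hZc α hα
      obtain ⟨bu, bw⟩ := hZc β hβ
      obtain ⟨cu, cw⟩ := hZc γ hγ
      obtain ⟨du, dw⟩ := hZc δ hδ
      rcases hc with rfl | rfl
      · refine ⟨α, hα, α + β, add_mem hα hβ, γ, hγ, γ + δ, add_mem hγ hδ, ?_, ?_⟩
        · have t1 : u * (β * u) = 0 := by rw [← mul_assoc, ← bu, mul_assoc, hu, mul_zero]
          have t2 : u * (γ * w) = γ * (u * w) := by rw [← mul_assoc, ← cu, mul_assoc]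
          have t3 : u * (δ * (u * w)) = 0 := by
            rw [← mul_assoc, ← du, mul_assoc, ← mul_assoc u u, hu, zero_mul, mul_zero]
          rw [map_mul, ha, e1, add_mul, one_mul, mul_add u, mul_add u, mul_add u, ← au, t1, t2, t3,
            add_zero, add_zero, add_mul, add_mul]
          abel
        · have t1 : β * u * u = 0 := by rw [mul_assoc, hu, mul_zero]
          have t2 : δ * (w * u) * u = 0 := by rw [mul_assoc, mul_assoc, hu, mul_zero, mul_zero]
          rw [mul_inv_rev, map_mul, hinv hu ha, e2, mul_sub, mul_one, add_mul _ _ u, sub_mul _ _ u,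
            sub_mul _ _ u, t1, t2, mul_assoc γ w u, sub_zero, add_zero, add_mul, add_mul]
          abel
      · refine ⟨α + β * s, add_mem hα (mul_mem hβ hsZ), β, hβ, α + γ + δ * s,
          add_mem (add_mem hα hγ) (mul_mem hδ hsZ), δ - β, sub_mem hδ hβ, ?_, ?_⟩
        · have t1 : w * (β * u) = β * (w * u) := by rw [← mul_assoc, ← bw, mul_assoc]
          have t2 : w * (γ * w) = 0 := by rw [← mul_assoc, ← cw, mul_assoc, hw, mul_zero]
          have t3 : w * (δ * (u * w)) = δ * (s * w) := by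
            rw [← mul_assoc, ← dw, mul_assoc, ← mul_assoc w u, hs, add_mul (u * w), mul_assoc u w w,
              hw, mul_zero, zero_add]
          have t4 : β * (w * u) = β * s - β * (u * w) := by rw [hs, mul_add]; abel
          rw [map_mul, hb, e1, add_mul, one_mul, mul_add w, mul_add w, mul_add w, ← aw, t1, t2, t3,
            add_zero, t4, ← mul_assoc δ s, add_mul, add_mul, sub_mul]
          abel
        · have t1 : γ * w * w = 0 := by rw [mul_assoc, hw, mul_zero]
          have t2 : δ * (w * u) * w = δ * (s * w) := by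
            rw [mul_assoc, hs, add_mul (u * w), mul_assoc u w w, hw, mul_zero, zero_add]
          have t4 : β * (w * u) = β * s - β * (u * w) := by rw [hs, mul_add]; abel
          rw [mul_inv_rev, map_mul, hinv hw hb, e2, mul_sub, mul_one, add_mul _ _ w, sub_mul _ _ w,
            sub_mul _ _ w, t1, t2, mul_assoc β u w, sub_zero, ← mul_assoc δ s, add_mul, add_mul,
            sub_mul, t4]
          abel
  obtain ⟨α, hα, β, hβ, γ, hγ, δ, hδ, e1, e2⟩ := key h
  have hsum : ρ h + ρ h⁻¹ = α + α + δ * s := by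
    rw [e1, e2, hs, mul_add]
    abel
  obtain ⟨cu, cw⟩ := hZc _ (add_mem (add_mem hα hα) (mul_mem hδ hsZ))
  rw [hsum]
  have hx : g ∈ Submonoid.closure ({a, b} : Set H) := by
    rw [← Subgroup.closure_toSubmonoid_of_finite, hgen]
    trivial
  induction hx using Submonoid.closure_induction with
  | mem c hc =>
    rcases hc with rfl | rfl
    · rw [ha]; exact (Commute.one_right _).add_right cu
    · rw [hb]; exact (Commute.one_right _).add_right cw
  | one => rw [map_one]; exact Commute.one_right _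
  | mul x y _ _ hx hy => rw [map_mul]; exact hx.mul_right hy

/-- A quadratic element outside `O_p` commutes with an involution. -/
theorem exists_involution_commute (hp : p ≠ 2) (ρ : H →* Module.End (ZMod p) M)
    (hρ : Function.Injective ρ) {a : H} (ha : (ρ a - 1) * (ρ a - 1) = 0)
    (hna : a ∉ Cfsg.pCore p H) : ∃ t : H, orderOf t = 2 ∧ t * a = a * t := by
  obtain ⟨g, hnp⟩ := QuadraticQd.exists_pair ρ hρ ha hna
  set b := g * a * g⁻¹ with hb
  set K := Subgroup.closure ({a, b} : Set H) with hK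
  let ρK := ρ.comp K.subtype
  have hρK : Function.Injective ρK := hρ.comp K.subtype_injective
  set a' : K := ⟨a, Subgroup.subset_closure (Or.inl rfl)⟩
  set b' : K := ⟨b, Subgroup.subset_closure (Or.inr rfl)⟩
  have hqa : (ρK a' - 1) * (ρK a' - 1) = 0 := ha
  have hqb : (ρK b' - 1) * (ρK b' - 1) = 0 := QuadraticMain.quad_conj ρ g ha
  have hgen : Subgroup.closure ({a', b'} : Set K) = ⊤ := QuadraticGroup.closure_pair a b
  obtain ⟨c, hqc, hc⟩ : ∃ c : K, (ρK c - 1) * (ρK c - 1) = 0 ∧ c ∉ Cfsg.pCore p K := by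
    by_contra hno
    push Not at hno
    refine hnp ((HallCore.isPGroup_pCore p K).of_surjective (Subgroup.subtype _) ?_)
    intro x
    refine ⟨⟨x, ?_⟩, rfl⟩
    refine (hgen.ge.trans ((closure_le _).mpr ?_)) (mem_top x)
    rintro _ (rfl | rfl)
    exacts [hno _ hqa, hno _ hqb]
  obtain ⟨T⟩ := (inferInstance : Nonempty (Sylow 2 K))
  have hT : (T : Subgroup K) ≠ ⊥ := by
    intro h
    refine QuadraticMain.sylow_two_nonabelian ρK hp hρK hqc hc T ⟨⟨fun x y => ?_⟩⟩
    have hx : ∀ z : T, z = 1 := fun z => Subtype.ext (mem_bot.mp (h ▸ z.2))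
    rw [hx x, hx y]
  obtain ⟨t, ht⟩ : ∃ t : K, orderOf t = 2 := by
    haveI : Fact (Nat.Prime 2) := ⟨Nat.prime_two⟩
    refine exists_prime_orderOf_dvd_card' 2 ?_
    obtain ⟨k, hk⟩ := IsPGroup.iff_card.mp T.isPGroup'
    have hk0 : k ≠ 0 := fun h0 => hT (eq_bot_of_card_eq _ (by rw [hk, h0, pow_zero]))
    exact ((dvd_pow_self 2 hk0).trans hk.symm.dvd).trans (card_subgroup_dvd_card _)
  refine ⟨t, by rw [Subgroup.orderOf_coe]; exact ht, ?_⟩
  have hti : t⁻¹ = t := inv_eq_of_mul_eq_one_right (by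
    rw [← sq]; exact ht ▸ pow_orderOf_eq_one t)
  have h2 := trace_comm ρK (u := ρK a' - 1) (w := ρK b' - 1) hqa hqb (by abel) (by abel) hgen t a'
  rw [hti, ← two_smul (ZMod p), Commute, SemiconjBy, smul_mul_assoc, mul_smul_comm] at h2
  have h20 : (2 : ZMod p) ≠ 0 := by
    intro h
    have h' : ((2 : ℕ) : ZMod p) = 0 := by exact_mod_cast h
    rw [ZMod.natCast_eq_zero_iff] at h'
    exact hp ((Nat.prime_dvd_prime_iff_eq Fact.out Nat.prime_two).mp h')
  have h3 : ρK t * ρK a' = ρK a' * ρK t := by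
    have := congrArg (fun z => (2 : ZMod p)⁻¹ • z) h2
    simpa [smul_smul, inv_mul_cancel₀ h20] using this
  rw [← map_mul, ← map_mul] at h3
  exact congrArg Subtype.val (hρK h3)

end rep

/-! ### Inverted elements -/

/-- Some nontrivial `p`-element of `H` is inverted by an element of `H`. -/
def Bad (p : ℕ) (H : Subgroup G) : Prop :=
  ∃ g ∈ H, ∃ x ∈ H, x ≠ 1 ∧ (∃ k : ℕ, x ^ p ^ k = 1) ∧ g * x * g⁻¹ = x⁻¹

theorem Bad.mono {H K : Subgroup G} (h : Bad p H) (hle : H ≤ K) : Bad p K := by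
  obtain ⟨g, hg, x, hx, h1, h2, h3⟩ := h
  exact ⟨g, hle hg, x, hle hx, h1, h2, h3⟩

theorem Bad.map {G' : Type*} [Group G'] {H : Subgroup G} (h : Bad p H) {f : G →* G'}
    (hf : Function.Injective f) : Bad p (H.map f) := by
  obtain ⟨g, hg, x, hx, h1, ⟨k, hk⟩, h3⟩ := h
  exact ⟨f g, mem_map_of_mem f hg, f x, mem_map_of_mem f hx, fun h => h1 (hf (by rw [h, map_one])),
    ⟨k, by rw [← map_pow, hk, map_one]⟩, by rw [← map_inv, ← map_mul, ← map_mul, h3, map_inv]⟩

theorem Bad.top {H : Subgroup G} (h : Bad p H) : Bad p (⊤ : Subgroup H) := by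
  obtain ⟨g, hg, x, hx, h1, ⟨k, hk⟩, h3⟩ := h
  exact ⟨⟨g, hg⟩, mem_top _, ⟨x, hx⟩, mem_top _, fun h => h1 (congrArg Subtype.val h),
    ⟨k, Subtype.ext (by simpa using hk)⟩, Subtype.ext h3⟩

theorem eq_one_of_inv_eq [hp : Fact p.Prime] (hp2 : p ≠ 2) {x : G} {k : ℕ} (hk : x ^ p ^ k = 1)
    (h : x⁻¹ = x) : x = 1 := by
  have h2 : x ^ 2 = 1 := by rw [sq]; nth_rw 1 [← h]; exact inv_mul_cancel x
  refine orderOf_eq_one_iff.mp (Nat.eq_one_of_dvd_coprimes ?_ (orderOf_dvd_of_pow_eq_one h2)
    (orderOf_dvd_of_pow_eq_one hk))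
  exact ((Nat.coprime_primes Nat.prime_two hp.out).mpr (Ne.symm hp2)).pow_right k

theorem conj_pow_inv {g x : G} (h : g * x * g⁻¹ = x⁻¹) (j : ℕ) :
    g ^ (2 * j + 1) * x * (g ^ (2 * j + 1))⁻¹ = x⁻¹ := by
  induction j with
  | zero => simpa using h
  | succ j ih =>
    have h' : g * x⁻¹ * g⁻¹ = x := by simpa [mul_assoc] using congrArg (·⁻¹) h
    calc g ^ (2 * (j + 1) + 1) * x * (g ^ (2 * (j + 1) + 1))⁻¹
        = g * (g * (g ^ (2 * j + 1) * x * (g ^ (2 * j + 1))⁻¹) * g⁻¹) * g⁻¹ := by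
          rw [show 2 * (j + 1) + 1 = (2 * j + 1) + 1 + 1 by ring, pow_succ', pow_succ']; group
      _ = x⁻¹ := by rw [ih, h', h]


/-- An odd power of every element is a `2`-element. -/
theorem exists_odd_pow [Finite G] (g : G) :
    ∃ j k : ℕ, (g ^ (2 * j + 1)) ^ 2 ^ k = 1 := by
  obtain ⟨i, m, hm, hgm⟩ :=
    Nat.exists_eq_pow_mul_and_not_dvd (orderOf_pos g).ne' 2 (by norm_num)
  obtain ⟨j, rfl⟩ : ∃ j, m = 2 * j + 1 := ⟨m / 2, by omega⟩
  exact ⟨j, i, by rw [← pow_mul, mul_comm, ← hgm, pow_orderOf_eq_one]⟩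

/-- A `2`-element acting nontrivially on a `p`-group inverts one of its elements. -/
theorem bad_of_action {H R : Subgroup G} (hRH : R ≤ H) (hR : IsPGroup p R) :
    ∀ (k : ℕ) (h : G), h ∈ H → h ∈ normalizer (R : Set G) → h ^ 2 ^ k = 1 →
      h ∉ centralizer (R : Set G) → Bad p H := by
  intro k
  induction k with
  | zero =>
    intro h _ _ h1 hc
    rw [pow_zero, pow_one] at h1
    exact absurd (h1 ▸ one_mem _) hc
  | succ k ih =>
    intro h hH hN h1 hc
    by_cases hsq : h ^ 2 ∈ centralizer (R : Set G)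
    · obtain ⟨r, hr, hne⟩ : ∃ r ∈ R, r * h ≠ h * r := by
        by_contra hno
        push Not at hno
        exact hc (mem_centralizer_iff.mpr hno)
      set x := h * r * h⁻¹ * r⁻¹ with hx
      have hxR : x ∈ R := mul_mem ((mem_normalizer_iff.mp hN r).mp hr) (inv_mem hr)
      obtain ⟨j, hj⟩ := hR ⟨x, hxR⟩
      refine ⟨h, hH, x, hRH hxR, fun h0 => hne ?_, ⟨j, congrArg Subtype.val hj⟩, ?_⟩
      · have e : h * r = x * r * h := by rw [hx]; group
        rw [e, h0, one_mul]
      · have e : h * h * r = r * (h * h) := by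
          rw [← sq]; exact (mem_centralizer_iff.mp hsq r hr).symm
        calc h * x * h⁻¹ = (h * h * r) * (h * h)⁻¹ * h * r⁻¹ * h⁻¹ := by rw [hx]; group
          _ = x⁻¹ := by rw [e, hx]; group
    · exact ih (h ^ 2) (pow_mem hH 2) (pow_mem hN 2) (by rw [← pow_mul, ← pow_succ']; exact h1) hsq

/-- An inversion lifts through a normal subgroup of order prime to `p`. -/
theorem lift_inverted [Finite G] [Fact p.Prime] {X : Type*} [Group X] {π : G →* X}
    (hK : (Nat.card π.ker).Coprime p) {t g : G} (ht : IsPGroup p (zpowers t))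
    (h : π g * π t * (π g)⁻¹ = (π t)⁻¹) : ∃ g' : G, π g' = π g ∧ g' * t * g'⁻¹ = t⁻¹ := by
  have hN : π g ∈ normalizer (((zpowers t).map π : Subgroup X) : Set X) := by
    rw [MonoidHom.map_zpowers]
    refine mem_normalizer_iff_map_conj_eq.mpr ?_
    simp [MonoidHom.map_zpowers, MulAut.conj_apply, h, zpowers_inv]
  obtain ⟨r, hr, hrN⟩ := GlaubermanStable.exists_mem_normalizer_lift hK ht hN
  have he : π (r * g) = π g := by rw [map_mul, MonoidHom.mem_ker.mp hr, one_mul]
  refine ⟨r * g, he, ?_⟩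
  have hmem : (r * g) * t * (r * g)⁻¹ * t ∈ zpowers t ⊓ π.ker :=
    ⟨mul_mem ((mem_normalizer_iff.mp hrN t).mp (mem_zpowers t)) (mem_zpowers t), by
      show π (r * g * t * (r * g)⁻¹ * t) = 1
      rw [map_mul, map_mul, map_mul, map_inv, he, h,
        inv_mul_cancel]⟩
  rw [GlaubermanStable.inf_eq_bot_of_isPGroup ht hK, mem_bot] at hmem
  exact eq_inv_of_mul_eq_one_left hmem

/-- The `p`-part data of an inversion modulo `N`. -/
theorem exists_inverted_quotient [Finite G] [Fact p.Prime] {X : Type*} [Group X] [Finite X]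
    {π : G →* X} (hπ : Function.Surjective π) (hK : (Nat.card π.ker).Coprime p)
    (h : Bad p (⊤ : Subgroup X)) : Bad p (⊤ : Subgroup G) := by
  obtain ⟨g, -, x, -, h1, ⟨k, hk⟩, h3⟩ := h
  obtain ⟨A, hA, hAx⟩ := GlaubermanStable.exists_isPGroup_map_eq' hπ (zpowers x) (fun z => by
    refine ⟨k, Subtype.ext ?_⟩
    obtain ⟨i, hi⟩ := z.2
    rw [SubgroupClass.coe_pow, ← hi, ← zpow_natCast, ← zpow_mul, mul_comm, zpow_mul, zpow_natCast,
      hk, one_zpow, OneMemClass.coe_one])
  obtain ⟨t, ht, htx⟩ : x ∈ A.map π := hAx ▸ mem_zpowers x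
  obtain ⟨g₀, rfl⟩ := hπ g
  subst htx
  obtain ⟨g', -, hg'⟩ := lift_inverted hK (hA.to_le (zpowers_le.mpr ht)) (g := g₀) h3
  obtain ⟨j, hj⟩ := hA ⟨t, ht⟩
  exact ⟨g', mem_top _, t, mem_top _, fun h0 => h1 (by rw [h0, map_one]),
    ⟨j, congrArg Subtype.val hj⟩, hg'⟩

/-- A quadratic element outside the stability core gives an involution modulo a proper kernel. -/
theorem exists_centralizing [hp : Fact p.Prime] (hp2 : p ≠ 2) :
    ∀ (k : ℕ) (Y : Type u) [Group Y] [Finite Y] (P : Subgroup Y) [P.Normal], Nat.card P = k →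
      IsPGroup p P → ∀ a : Y, ⁅⁅P, zpowers a⁆, zpowers a⁆ = ⊥ → a ∉ actCore p P →
      ∃ M : Subgroup Y, M.Normal ∧ P ≤ M ∧ centralizer (P : Set Y) ≤ M ∧ (∃ y : Y, ⁅y, a⁆ ∉ M) ∧
        ∃ t : Y, t ∉ M ∧ t ^ 2 ∈ M ∧ ⁅t, a⁆ ∈ M := by
  intro k
  induction k using Nat.strong_induction_on with
  | _ k ih =>
  intro Y _ _ P hPn hk hP a ha hna
  have hne : P ≠ ⊥ := by
    rintro rfl
    refine hna (centralizer_le_actCore p _ (mem_centralizer_iff.mpr fun x hx => ?_))
    rw [SetLike.mem_coe, mem_bot] at hx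
    rw [hx, one_mul, mul_one]
  set V := Cfsg.omegaOne p (P ⊓ centralizer (P : Set Y)) with hVdef
  have hVP : V ≤ P := (closure_le _).mpr fun y hy => hy.1.1
  haveI hVn : V.Normal := by
    rw [← normalizer_eq_top_iff, ← top_le_iff, ← normalizer_eq_top_iff.mpr
      (inferInstance : (P ⊓ centralizer (P : Set Y)).Normal)]
    exact normalizer_le_omegaOne p _
  have hVea : Cfsg.IsElementaryAbelian p V :=
    Offenders.omegaOne_ea fun x hx y hy => (hx.2 y hy.1).symm
  have hqV : ⁅⁅V, zpowers a⁆, zpowers a⁆ = ⊥ := le_bot_iff.mp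
    (ha ▸ commutator_mono (commutator_mono hVP le_rfl) le_rfl)
  by_cases haV : a ∈ actCore p V
  · have hVne : V ≠ ⊥ := by
      refine omegaOne_ne_bot (hP.to_le inf_le_left) fun h => ?_
      haveI : Nontrivial P := (nontrivial_iff_ne_bot P).mpr hne
      haveI := hP.center_nontrivial
      obtain ⟨z, hz⟩ := exists_ne (1 : Subgroup.center P)
      have h1 : ((z : P) : Y) ∈ P ⊓ centralizer (P : Set Y) :=
        ⟨(z : P).2, mem_centralizer_iff.mpr fun y hy =>
          congrArg Subtype.val (mem_center_iff.mp z.2 ⟨y, hy⟩)⟩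
      rw [h, mem_bot] at h1
      exact hz (Subtype.ext (Subtype.ext h1))
    set π := QuotientGroup.mk' V with hπ
    haveI hPb : (P.map π).Normal := hPn.map _ (QuotientGroup.mk'_surjective V)
    have hlt : Nat.card (P.map π) < k := by
      rw [← hk, ← HallCore.card_map_mk'_mul V P hVP]
      exact lt_mul_of_one_lt_right Nat.card_pos
        (Finite.one_lt_card_iff_nontrivial.mpr ((nontrivial_iff_ne_bot V).mpr hVne))
    have hqb : ⁅⁅P.map π, zpowers (π a)⁆, zpowers (π a)⁆ = ⊥ := by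
      rw [← MonoidHom.map_zpowers, ← map_commutator, ← map_commutator, ha, Subgroup.map_bot]
    have hnb : π a ∉ actCore p (P.map π) := by
      intro hab
      apply hna
      haveI : ((actCore p (P.map π)).comap π).Normal := Normal.comap inferInstance _
      refine GlaubermanStable.le_actCore (D := actCore p V ⊓ (actCore p (P.map π)).comap π)
        (fun g hg => ?_) ⟨haV, hab⟩
      obtain ⟨i, hi⟩ := GlaubermanStable.exists_pow_mem_centralizer hg.1
      obtain ⟨j, hj⟩ := GlaubermanStable.exists_pow_mem_centralizer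
        (show π g ∈ actCore p (P.map π) from hg.2)
      obtain ⟨l, hl⟩ := GlaubermanStable.exists_pow_coprime (p := p) g
      refine ⟨i + j + l, ?_⟩
      have hcop : (orderOf (g ^ p ^ (i + j + l))).Coprime p := by
        rw [show p ^ (i + j + l) = p ^ l * p ^ (i + j) by ring, pow_mul]
        exact GlaubermanStable.coprime_pow hl _
      have hcV : g ^ p ^ (i + j + l) ∈ centralizer (V : Set Y) := by
        rw [show p ^ (i + j + l) = p ^ i * p ^ (j + l) by ring, pow_mul]
        exact pow_mem hi _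
      have hcP : π (g ^ p ^ (i + j + l)) ∈
          centralizer ((P.map π : Subgroup (Y ⧸ V)) : Set (Y ⧸ V)) := by
        rw [map_pow, show p ^ (i + j + l) = p ^ j * p ^ (i + l) by ring, pow_mul]
        exact pow_mem hj _
      set h := g ^ p ^ (i + j + l)
      refine mem_centralizer_iff.mpr fun x hx => ?_
      refine (OmegaCoprime.commute_of_fixed_comms hP (fun y hy => hPn.conj_mem y hy h) hcop
        (fun y hy => ?_) x hx).eq.symm
      have h1 : y⁻¹ * (h * y * h⁻¹) ∈ V := by
        rw [← QuotientGroup.eq_one_iff]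
        change π (y⁻¹ * (h * y * h⁻¹)) = 1
        rw [map_mul, map_mul, map_mul, map_inv, map_inv,
          ← mem_centralizer_iff.mp hcP (π y) (mem_map_of_mem π hy)]
        group
      exact (mem_centralizer_iff.mp hcV _ h1).symm
    obtain ⟨M, hM, hPM, hCM, ⟨y, hy⟩, t, ht1, ht2, ht3⟩ :=
      ih _ hlt (Y ⧸ V) (P.map π) rfl (hP.map π) (π a) hqb hnb
    obtain ⟨y, rfl⟩ := QuotientGroup.mk'_surjective V y
    obtain ⟨t, rfl⟩ := QuotientGroup.mk'_surjective V t
    refine ⟨M.comap π, hM.comap π, map_le_iff_le_comap.mp hPM, fun c hc => hCM ?_,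
      ⟨y, fun h => hy ?_⟩, t, ht1, ?_, ?_⟩
    · refine mem_centralizer_iff.mpr ?_
      rintro _ ⟨r, hr, rfl⟩
      rw [← map_mul, ← map_mul, mem_centralizer_iff.mp hc r hr]
    · rw [← map_commutatorElement]; exact h
    · rw [mem_comap, map_pow]; exact ht2
    · rw [mem_comap, map_commutatorElement]; exact ht3
  · -- the action on `V`
    obtain ⟨i1, i2, ρ, hρ, hq⟩ := QuadraticMain.exists_rep_quotient (p := p) V hVea
    letI := i1
    letI := i2
    set π := QuotientGroup.mk' (centralizer (V : Set Y)) with hπ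
    obtain ⟨t, ht, hta⟩ := exists_involution_commute hp2 ρ hρ (hq a hqV) haV
    obtain ⟨t, rfl⟩ := QuotientGroup.mk'_surjective _ t
    have hker : ∀ {z : Y}, z ∈ centralizer (V : Set Y) ↔ π z = 1 := fun {z} =>
      (QuotientGroup.eq_one_iff z).symm
    refine ⟨centralizer (V : Set Y), inferInstance, fun r hr => ?_, centralizer_le hVP, ?_, t,
      fun h => ?_, ?_, ?_⟩
    · exact mem_centralizer_iff.mpr fun v hv => mem_centralizer_iff.mp
        (((closure_le _).mpr fun w hw => hw.1.2 : V ≤ centralizer (P : Set Y)) hv) r hr |>.symm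
    · by_contra hno
      push Not at hno
      apply haV
      haveI : (zpowers (π a)).Normal := ⟨fun n hn q => by
        obtain ⟨y, rfl⟩ := QuotientGroup.mk'_surjective _ q
        obtain ⟨i, rfl⟩ := hn
        have hc : Commute (π y) (π a) := by
          rw [← commutatorElement_eq_one_iff_commute, ← map_commutatorElement]
          exact hker.mp (hno y)
        show π y * π a ^ i * (π y)⁻¹ ∈ zpowers (π a)
        rw [(hc.zpow_right i).eq, mul_inv_cancel_right]
        exact ⟨i, rfl⟩⟩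
      refine HallCore.le_pCore (N := zpowers (π a)) (fun z => ⟨1, Subtype.ext ?_⟩)
        (mem_zpowers _)
      obtain ⟨i, hi⟩ := z.2
      rw [SubgroupClass.coe_pow, ← hi, pow_one, ← zpow_natCast, ← zpow_mul, mul_comm, zpow_mul,
        zpow_natCast, show π a ^ p = 1 from QuadraticMain.pow_eq_one_of_quad ρ hρ (hq a hqV), one_zpow,
        OneMemClass.coe_one]
    · rw [hker.mp h, orderOf_one] at ht
      omega
    · rw [hker, map_pow, ← ht, pow_orderOf_eq_one]
    · rw [hker, map_commutatorElement, commutatorElement_eq_one_iff_commute]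
      exact hta

/-- Climbing from a bad proper subgroup to `N(ZJ(T))`. -/
theorem climb [Finite G] [hp : Fact p.Prime] (T : Sylow p G)
    (ih : ∀ X : Subgroup G, X ≠ ⊤ → Bad p X → ∀ S : Subgroup G, S ≤ X → IsPGroup p S →
      (∀ R : Subgroup G, S ≤ R → R ≤ X → IsPGroup p R → R = S) →
      Bad p (X ⊓ normalizer (thomY 0 S : Set G)))
    (P : Subgroup G → Prop) (hPup : ∀ S R : Subgroup G, S ≤ R → IsPGroup p R → P S → P R)
    (hPn : ∀ S : Subgroup G, IsPGroup p S → P S → (thomY 0 S).Normal → False)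
    (hini : ∃ X S : Subgroup G, X ≠ ⊤ ∧ S ≤ X ∧ Bad p X ∧ IsPGroup p S ∧ P S) :
    Bad p (normalizer (thomY 0 (T : Subgroup G) : Set G)) := by
  obtain ⟨X₀, S₀, h0, h1, h2, h3, h4⟩ := hini
  obtain ⟨S, ⟨hS, hPS, X, hX, hSX, hXb⟩, hmax⟩ := Set.exists_max_image
    {S : Subgroup G | IsPGroup p S ∧ P S ∧ ∃ X, X ≠ ⊤ ∧ S ≤ X ∧ Bad p X}
    (fun S => Nat.card S) (Set.toFinite _) ⟨S₀, h3, h4, X₀, h0, h1, h2⟩
  have hmax' : ∀ R : Subgroup G, S ≤ R → IsPGroup p R → (∃ X, X ≠ ⊤ ∧ R ≤ X ∧ Bad p X) → R = S :=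
    fun R hSR hR h => (eq_of_le_of_card_ge hSR (hmax R ⟨hR, hPup S R hSR hR hPS, h⟩)).symm
  set W := thomY 0 S with hW
  have hbW : Bad p (normalizer (W : Set G)) :=
    (ih X hX hXb S hSX hS fun R hSR hRX hR => hmax' R hSR hR ⟨X, hX, hRX, hXb⟩).mono inf_le_right
  have hWn : normalizer (W : Set G) ≠ ⊤ := fun h => hPn S hS hPS (normalizer_eq_top_iff.mp h)
  have hNS : normalizer (S : Set G) ≤ normalizer (W : Set G) := normalizer_le_thomY S
  obtain ⟨T', hT'⟩ := hS.exists_le_sylow
  have hST : S = (T' : Subgroup G) := by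
    by_contra hne
    have hlt := T'.isPGroup'.isNilpotent
    have h5 : S.subgroupOf T' < normalizer ((S.subgroupOf T' : Subgroup T') : Set T') := by
      refine (Group.normalizerCondition_of_isNilpotent (G := T')) _ (lt_top_iff_ne_top.mpr fun h => hne ?_)
      exact le_antisymm hT' (subgroupOf_eq_top.mp h)
    obtain ⟨r, hr, hrS⟩ := SetLike.exists_of_lt h5
    have hrN : (r : G) ∈ normalizer (S : Set G) := by
      refine mem_normalizer_iff.mpr fun z => ⟨fun hz => ?_, fun hz => ?_⟩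
      · exact mem_subgroupOf.mp ((mem_normalizer_iff.mp hr ⟨z, hT' hz⟩).mp (mem_subgroupOf.mpr hz))
      · have hzT : z ∈ (T' : Subgroup G) := by
          have := mul_mem (mul_mem (inv_mem r.2) (hT' hz)) r.2
          simpa [mul_assoc] using this
        exact mem_subgroupOf.mp ((mem_normalizer_iff.mp hr ⟨z, hzT⟩).mpr (mem_subgroupOf.mpr hz))
    have h6 := hmax' ((T' : Subgroup G) ⊓ normalizer (S : Set G)) (le_inf hT' le_normalizer)
      (T'.isPGroup'.to_le inf_le_left) ⟨_, hWn, inf_le_right.trans hNS, hbW⟩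
    exact hrS (mem_subgroupOf.mpr (h6 ▸ ⟨r.2, hrN⟩))
  obtain ⟨g, rfl⟩ := MulAction.exists_smul_eq G T' T
  have hTe : ((g • T' : Sylow p G) : Subgroup G) = S.map (MulAut.conj g).toMonoidHom := by
    rw [hST]; rfl
  have h7 := hbW.map (f := (MulAut.conj g).toMonoidHom) (MulAut.conj g).injective
  rw [map_equiv_normalizer_eq] at h7
  rw [hTe, thomY_map (MulAut.conj g).injective]
  exact h7

/-- **Inverted elements are pushed into `N(ZJ(T))`.** -/
theorem bad_normalizer [hp : Fact p.Prime] (hp2 : p ≠ 2) :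
    ∀ (m : ℕ) (G : Type u) [Group G] [Finite G], Nat.card G = m → ∀ T : Sylow p G,
      Bad p (⊤ : Subgroup G) → Bad p (normalizer (thomY 0 (T : Subgroup G) : Set G)) := by
  intro m
  induction m using Nat.strong_induction_on with
  | _ m ih =>
  intro G _ _ hm T hbad
  -- proper subgroups
  have ihX : ∀ X : Subgroup G, X ≠ ⊤ → Bad p X → ∀ S : Subgroup G, S ≤ X → IsPGroup p S →
      (∀ R : Subgroup G, S ≤ R → R ≤ X → IsPGroup p R → R = S) →
      Bad p (X ⊓ normalizer (thomY 0 S : Set G)) := by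
    intro X hX hb S hSX hS hmax
    let S' : Sylow p X :=
      { toSubgroup := S.subgroupOf X
        isPGroup' := hS.comap_subtype
        is_maximal' := fun {R} hR hle => by
          have h1 : R.map X.subtype = S := hmax _
            (by rw [← map_subgroupOf_eq_of_le hSX]; exact map_mono hle) (map_subtype_le R)
            (hR.map _)
          rw [← h1, subgroupOf, comap_map_eq_self_of_injective X.subtype_injective] }
    have h1 := (ih _ (hm ▸ lt_of_le_of_ne (card_le_card_group X) fun h =>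
      hX (eq_top_of_card_eq X h)) X rfl S' hb.top).map (f := X.subtype) X.subtype_injective
    refine h1.mono (le_inf (map_subtype_le _) ?_)
    refine (le_normalizer_map _).trans (le_of_eq ?_)
    rw [← thomY_map X.subtype_injective]
    show normalizer (thomY 0 ((S.subgroupOf X).map X.subtype) : Set G) = _
    rw [map_subgroupOf_eq_of_le hSX]
  haveI hQn := HallCore.pCore_normal p G
  set Q := Cfsg.pCore p G with hQdef
  have hQp : IsPGroup p Q := HallCore.isPGroup_pCore p G
  have hQT : Q ≤ (T : Subgroup G) := HallCore.pCore_le_sylow T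
  have hTN : (T : Subgroup G) ≤ normalizer (thomY 0 (T : Subgroup G) : Set G) :=
    le_normalizer.trans (normalizer_le_thomY _)
  obtain ⟨g, -, x, -, hx1, ⟨k, hxk⟩, hgx⟩ := id hbad
  have hxp : IsPGroup p (zpowers x) := fun z => ⟨k, Subtype.ext (by
    obtain ⟨i, hi⟩ := z.2
    rw [SubgroupClass.coe_pow, ← hi, ← zpow_natCast, ← zpow_mul, mul_comm, zpow_mul, zpow_natCast,
      hxk, one_zpow, OneMemClass.coe_one])⟩
  -- `O_{p'}`
  by_cases hM : Cfsg.pPrimeCore p G = ⊥
  swap
  · haveI := HallCore.pPrimeCore_normal p G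
    set M := Cfsg.pPrimeCore p G with hMdef
    set π := QuotientGroup.mk' M with hπ
    have hπs : Function.Surjective π := QuotientGroup.mk'_surjective M
    have hker : (Nat.card π.ker).Coprime p := by
      rw [QuotientGroup.ker_mk']; exact HallCore.coprime_card_pPrimeCore p G
    have hinj : Set.InjOn π (T : Subgroup G) := by
      intro a ha b hb hab
      have ha' : a ∈ (T : Subgroup G) := ha
      have hb' : b ∈ (T : Subgroup G) := hb
      have h1 : a⁻¹ * b ∈ (T : Subgroup G) ⊓ π.ker := ⟨Subgroup.mul_mem _ (Subgroup.inv_mem _ ha') hb', by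
        show π (a⁻¹ * b) = 1
        rw [map_mul, map_inv, hab, inv_mul_cancel]⟩
      rw [GlaubermanStable.inf_eq_bot_of_isPGroup T.isPGroup' hker, mem_bot] at h1
      exact inv_mul_eq_one.mp h1
    have hlt : Nat.card (G ⧸ M) < m := by
      rw [← hm, card_eq_card_quotient_mul_card_subgroup M]
      exact lt_mul_of_one_lt_right Nat.card_pos
        (Finite.one_lt_card_iff_nontrivial.mpr ((nontrivial_iff_ne_bot M).mpr hM))
    have hbq : Bad p (⊤ : Subgroup (G ⧸ M)) := by
      refine ⟨π g, mem_top _, π x, mem_top _, fun h => hx1 ?_, ⟨k, by rw [← map_pow, hxk, map_one]⟩,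
        by rw [← map_inv, ← map_mul, ← map_mul, hgx, map_inv]⟩
      have h1 : x ∈ zpowers x ⊓ π.ker := ⟨mem_zpowers x, h⟩
      rwa [GlaubermanStable.inf_eq_bot_of_isPGroup hxp hker, mem_bot] at h1
    set T' : Sylow p (G ⧸ M) := T.mapSurjective hπs with hT'
    have hW' : thomY 0 (T' : Subgroup (G ⧸ M)) = (thomY 0 (T : Subgroup G)).map π := by
      rw [hT', Sylow.coe_mapSurjective]; exact thomY_map_of_injOn _ hinj
    obtain ⟨g', hg', x', hx', hx1', ⟨k', hk'⟩, hgx'⟩ := ih _ hlt (G ⧸ M) rfl T' hbq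
    rw [hW'] at hg' hx'
    set N := normalizer (thomY 0 (T : Subgroup G) : Set G) with hN
    have hNs : ∀ y, π y ∈ normalizer (((thomY 0 (T : Subgroup G)).map π : Subgroup (G ⧸ M)) :
        Set (G ⧸ M)) → ∃ n ∈ N, π n = π y := by
      intro y hy
      obtain ⟨r, hr, hry⟩ := GlaubermanStable.exists_mem_normalizer_lift hker
        (T.isPGroup'.to_le (thomY_le _)) hy
      exact ⟨r * y, hry, by rw [map_mul, MonoidHom.mem_ker.mp hr, one_mul]⟩
    obtain ⟨y, rfl⟩ := hπs g'
    obtain ⟨z, rfl⟩ := hπs x'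
    obtain ⟨n, hn, hny⟩ := hNs y hg'
    obtain ⟨z₀, hz₀, hz₀e⟩ := hNs z hx'
    let πN : N →* G ⧸ M := π.comp N.subtype
    have hkerN : (Nat.card πN.ker).Coprime p := by
      have hle : πN.ker = π.ker.subgroupOf N := rfl
      rw [hle]
      exact hker.coprime_dvd_left (HallCore.card_subgroupOf_dvd _ _)
    have hbN : Bad p (⊤ : Subgroup πN.range) := by
      refine ⟨⟨π n, ⟨⟨n, hn⟩, rfl⟩⟩, mem_top _, ⟨π z₀, ⟨⟨z₀, hz₀⟩, rfl⟩⟩, mem_top _, fun h => ?_,
        ⟨k', Subtype.ext ?_⟩, Subtype.ext ?_⟩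
      · exact hx1' (hz₀e ▸ congrArg Subtype.val h)
      · show π z₀ ^ p ^ k' = 1
        rw [hz₀e]; exact hk'
      · show π n * π z₀ * (π n)⁻¹ = (π z₀)⁻¹
        rw [hny, hz₀e]; exact hgx'
    have h8 := exists_inverted_quotient (π := πN.rangeRestrict) πN.rangeRestrict_surjective
      (by rw [MonoidHom.ker_rangeRestrict]; exact hkerN) hbN
    exact (h8.map (f := N.subtype) N.subtype_injective).mono (map_subtype_le _)
  by_cases hQ : Q = ⊥
  · refine climb T ihX (fun S => S ≠ ⊥) (fun S R h _ hS hR => hS (le_bot_iff.mp (hR ▸ h)))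
      (fun S hS hne hn => ?_) ⟨normalizer (zpowers x : Set G), zpowers x, fun h => ?_, le_normalizer,
        ⟨g, ?_, x, le_normalizer (mem_zpowers x), hx1, ⟨k, hxk⟩, hgx⟩, hxp, ?_⟩
    · refine thomY_ne_bot (Or.inl rfl) hS hne (le_bot_iff.mp ?_)
      haveI := hn
      exact (HallCore.le_pCore (hS.to_le (thomY_le S))).trans hQ.le
    · haveI := normalizer_eq_top_iff.mp h
      exact hx1 (mem_bot.mp (hQ ▸ HallCore.le_pCore hxp (mem_zpowers x)))
    · refine mem_normalizer_iff_map_conj_eq.mpr ?_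
      simp [MonoidHom.map_zpowers, MulAut.conj_apply, hgx, zpowers_inv]
    · exact fun h => hx1 (mem_bot.mp (h ▸ mem_zpowers x))
  -- the proper subgroups over `T` have no inverted elements
  by_contra hN
  have hover : ∀ X : Subgroup G, X ≠ ⊤ → (T : Subgroup G) ≤ X → ¬ Bad p X := fun X hX hTX hb =>
    hN ((ihX X hX hb _ hTX T.isPGroup' fun R hR _ hRp => (T.is_maximal' hRp hR)).mono inf_le_right)
  -- every inverted element lies in `Q`
  have hxQ : x ∈ Q := by
    by_contra hxQ
    set π := QuotientGroup.mk' Q with hπ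
    have hπs : Function.Surjective π := QuotientGroup.mk'_surjective Q
    have hlt : Nat.card (G ⧸ Q) < m := by
      rw [← hm, card_eq_card_quotient_mul_card_subgroup Q]
      exact lt_mul_of_one_lt_right Nat.card_pos
        (Finite.one_lt_card_iff_nontrivial.mpr ((nontrivial_iff_ne_bot Q).mpr hQ))
    have hπx : π x ≠ 1 := fun h => hxQ ((QuotientGroup.eq_one_iff x).mp h)
    set T' : Sylow p (G ⧸ Q) := T.mapSurjective hπs
    have hT'b : (T' : Subgroup (G ⧸ Q)) ≠ ⊥ := by
      intro h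
      obtain ⟨T'', hT''⟩ := (hxp.map π).exists_le_sylow
      obtain ⟨c, rfl⟩ := MulAction.exists_smul_eq (G ⧸ Q) T' T''
      rw [Sylow.coe_subgroup_smul, h, Subgroup.smul_bot, MonoidHom.map_zpowers, zpowers_le,
        mem_bot] at hT''
      exact hπx hT''
    obtain ⟨g', hg', x', hx', hx1', ⟨k', hk'⟩, hgx'⟩ := ih _ hlt (G ⧸ Q) rfl T'
      ⟨π g, mem_top _, π x, mem_top _, hπx, ⟨k, by rw [← map_pow, hxk, map_one]⟩,
        by rw [← map_inv, ← map_mul, ← map_mul, hgx, map_inv]⟩
    set W' := thomY 0 (T' : Subgroup (G ⧸ Q))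
    set X := (normalizer (W' : Set (G ⧸ Q))).comap π with hXdef
    have hXtop : X ≠ ⊤ := by
      intro h
      have h1 : W'.Normal := normalizer_eq_top_iff.mp (eq_top_iff.mpr fun q _ => by
        obtain ⟨y, rfl⟩ := hπs q
        exact (h.ge (mem_top y) : y ∈ X))
      refine thomY_ne_bot (Or.inl rfl) T'.isPGroup' hT'b (le_bot_iff.mp ?_)
      exact (HallCore.le_pCore (T'.isPGroup'.to_le (thomY_le _))).trans
        (HallCore.pCore_quotient_self p G).le
    have hTX : (T : Subgroup G) ≤ X := by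
      rw [hXdef, ← map_le_iff_le_comap]
      exact le_normalizer.trans (normalizer_le_thomY _)
    refine hover X hXtop hTX ?_
    obtain ⟨y, rfl⟩ := hπs g'
    obtain ⟨z, rfl⟩ := hπs x'
    obtain ⟨j, l, hjl⟩ := exists_odd_pow y
    set R := (zpowers (π z)).comap π with hR
    have hRp : IsPGroup p R := by
      refine IsPGroup.comap_of_ker_isPGroup (fun w => ⟨k', Subtype.ext ?_⟩) π
        (by rw [QuotientGroup.ker_mk']; exact hQp)
      obtain ⟨i, hi⟩ := w.2
      rw [SubgroupClass.coe_pow, ← hi, ← zpow_natCast, ← zpow_mul, mul_comm, zpow_mul,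
        zpow_natCast, hk', one_zpow, OneMemClass.coe_one]
    have hinv := conj_pow_inv hgx' j
    rw [← map_pow] at hinv
    refine bad_of_action (R := R) (comap_mono (zpowers_le.mpr hx')) hRp l _ (pow_mem hg' _ :)
      ?_ hjl fun hc => hx1' (eq_one_of_inv_eq hp2 hk' ?_)
    · refine le_normalizer_comap π (mem_normalizer_iff_map_conj_eq.mpr ?_)
      rw [MonoidHom.map_zpowers]
      show zpowers (π (y ^ (2 * j + 1)) * π z * (π (y ^ (2 * j + 1)))⁻¹) = zpowers (π z)
      rw [hinv, zpowers_inv]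
    · rw [← hinv, ← map_inv, ← map_mul, ← map_mul]
      rw [← mem_centralizer_iff.mp hc z (show z ∈ R from mem_zpowers (π z)), mul_inv_cancel_right]
  -- `G` is constrained
  have hc : centralizer (Q : Set G) ≤ Q := by
    refine ConjFunctorMaster.centralizer_pCore_le hM (S := T) ?_
    by_contra hR
    set R := (T : Subgroup G) ⊓ centralizer (Q : Set G) with hRdef
    haveI : (centralizer (Q : Set G)).Normal := normal_centralizer
    have hXtop : normalizer (R : Set G) ≠ ⊤ := fun h => hR <| by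
      haveI := normalizer_eq_top_iff.mp h
      exact HallCore.le_pCore (T.isPGroup'.to_le inf_le_left)
    have hTX : (T : Subgroup G) ≤ normalizer (R : Set G) :=
      LocalBasics.le_normalizer_inf le_normalizer (LocalBasics.le_normalizer_of_normal _)
    obtain ⟨S, hS⟩ := LocalBasics.exists_sylow_inf T (centralizer (Q : Set G))
    have hfr := Sylow.normalizer_sup_eq_top S
    rw [hS, subgroupOf_map_subtype, sup_comm] at hfr
    obtain ⟨c, hc', n, hn, hcn⟩ := mem_sup_of_normal_left.mp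
      (hfr ▸ mem_top g : g ∈ centralizer (Q : Set G) ⊔ normalizer (R : Set G))
    refine hover _ hXtop hTX ⟨n, hn, x, hTX (hQT hxQ), hx1, ⟨k, hxk⟩, ?_⟩
    have hnQ : n * x * n⁻¹ ∈ Q := hQn.conj_mem x hxQ n
    rw [← hgx, ← hcn]
    calc n * x * n⁻¹ = c * (n * x * n⁻¹) * c⁻¹ := by
          rw [← mem_centralizer_iff.mp hc' _ hnQ, mul_inv_cancel_right]
      _ = c * n * x * (c * n)⁻¹ := by group
  -- `Z(J(T))` is normal
  have hTclosed : Cfsg.IsStronglyClosed (T : Subgroup G) (T : Subgroup G) :=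
    ⟨le_rfl, fun a _ g h => h⟩
  have hWn : (thomY 0 (T : Subgroup G)).Normal := by
    refine thomY_normal' hp2 rfl T _ hTclosed (fun B hBn hBp hBW A hA a ha hq => ?_) hc
    by_contra hna
    haveI := hBn
    obtain ⟨M, hMn, hBM, hCM, ⟨y, hy⟩, t, htM, ht2, hta⟩ :=
      exists_centralizing hp2 _ G B rfl hBp a hq hna
    haveI := hMn
    set π := QuotientGroup.mk' M with hπ
    have hker : ∀ {z : G}, z ∈ M ↔ π z = 1 := fun {z} => (QuotientGroup.eq_one_iff z).symm
    set X := (centralizer ({π a} : Set (G ⧸ M))).comap π with hXdef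
    have hXmem : ∀ {z : G}, z ∈ X ↔ ⁅z, a⁆ ∈ M := fun {z} => by
      rw [hXdef, mem_comap, mem_centralizer_singleton_iff, hker, map_commutatorElement,
        commutatorElement_eq_one_iff_mul_comm]
    have hMX : M ≤ X := fun z hz => hXmem.mpr (by
      rw [commutatorElement_def, mul_assoc z, mul_assoc]
      exact mul_mem hz (hMn.conj_mem _ (inv_mem hz) a))
    obtain ⟨j, l, hjl⟩ := exists_odd_pow t
    have ht' : t ^ (2 * j + 1) ∈ X := pow_mem (hXmem.mpr hta) _
    have ht'M : t ^ (2 * j + 1) ∉ M := by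
      intro h
      rw [pow_succ, pow_mul] at h
      exact htM ((mul_mem_cancel_left (pow_mem ht2 j)).mp h)
    have hbX : Bad p X := bad_of_action (R := B) (hBM.trans hMX) hBp l _ ht'
      (LocalBasics.le_normalizer_of_normal X ht') hjl fun h => ht'M (hCM h)
    have haC : ¬ A ≤ centralizer (B : Set G) :=
      fun h => hna (centralizer_le_actCore p B (h ha))
    refine hN (climb T ihX
      (fun S => ∃ A' : Subgroup G, A' ≤ S ∧ (∀ u ∈ A', ∀ v ∈ A', u * v = v * u) ∧
        Nat.card A' = Nat.card A ∧ ¬ A' ≤ centralizer (B : Set G))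
      (fun S R h _ ⟨A', h1, h2⟩ => ⟨A', h1.trans h, h2⟩) (fun S hS hP hn => ?_)
      ⟨X, A, fun h => hy (hXmem.mp (h ▸ mem_top y)), fun u hu => ?_, hbX,
        T.isPGroup'.to_le hA.1.le, A, le_rfl, hA.1.comm, rfl, haC⟩)
    swap
    · rw [hXmem, commutatorElement_eq_one_iff_mul_comm.mpr (hA.1.comm u hu a ha)]
      exact one_mem M
    obtain ⟨A', hA'S, hA'c, hA'card, hA'C⟩ := hP
    -- conjugate into `T`
    obtain ⟨T', hT'⟩ := hS.exists_le_sylow
    obtain ⟨c, hc'⟩ := MulAction.exists_smul_eq G T' T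
    set φ := (MulAut.conj c).toMonoidHom
    have hφ : Function.Injective φ := (MulAut.conj c).injective
    have hST : S.map φ ≤ (T : Subgroup G) := by
      rw [← hc']; exact map_mono hT'
    set A'' := A'.map φ
    have hA''F : IsFam 0 (S.map φ) A'' := by
      refine ⟨map_mono hA'S, ?_, fun u _ => pow_zero u⟩
      rintro _ ⟨u, hu, rfl⟩ _ ⟨v, hv, rfl⟩
      rw [← map_mul, ← map_mul, hA'c u hu v hv]
    have hcard : Nat.card A'' = Nat.card A := by
      rw [card_map_of_injective hφ, hA'card]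
    have hA''S : A'' ∈ maxFam 0 (S.map φ) := ⟨hA''F, fun D hD => hcard ▸ hA.2 D
      ⟨hD.le.trans hST, hD.comm, hD.pow⟩⟩
    have hA''T : A'' ∈ maxFam 0 (T : Subgroup G) := ⟨⟨hA''F.le.trans hST, hA''F.comm, hA''F.pow⟩,
      fun D hD => hcard ▸ hA.2 D hD⟩
    have hJ : thomJ 0 (S.map φ) ≤ thomJ 0 (T : Subgroup G) := sSup_le fun D hD => le_thomJ
      ⟨⟨hD.1.le.trans hST, hD.1.comm, hD.1.pow⟩,
        fun E hE => (hA''T.2 E hE).trans (hD.2 A'' hA''F)⟩
    have hWW : thomY 0 (T : Subgroup G) ≤ thomY 0 (S.map φ) := fun w hw => by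
      have h1 : w ∈ A'' := mem_of_commute hA''T (thomY_le _ hw) (pow_zero w)
        fun u hu => thomY_comm hA''T hw hu
      exact ⟨le_thomJ hA''S h1, mem_centralizer_iff.mpr fun u hu =>
        mem_centralizer_iff.mp hw.2 u (hJ hu)⟩
    haveI : (thomY 0 (S.map φ)).Normal := by
      rw [thomY_map hφ]; exact hn.map _ (MulAut.conj c).surjective
    have hB0 : B ≤ thomY 0 (S.map φ) := hBW _ inferInstance
      ((T.isPGroup'.to_le hST).to_le (thomY_le _)) hWW
    refine hA'C fun u hu => mem_centralizer_iff.mpr fun v hv => ?_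
    refine hφ ?_
    rw [map_mul, map_mul]
    exact (thomY_comm hA''S (hB0 (hBn.conj_mem v hv c)) (mem_map_of_mem φ hu)).symm
  exact hN (hbad.mono (normalizer_eq_top_iff.mpr hWn).ge)

end Cfsg.Agent.InvertedPush
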