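import Cfsg.Agent.Lib.InvolADERank

/-!
Involution classes from the certificates: every involution is conjugate to a listed product, and products with
different ranks are not conjugate.
-/

set_option autoImplicit false
set_option linter.unusedSectionVars false

namespace Cfsg.Agent.InvolADE

open Cfsg.Lie Cfsg.Agent.ChevalleyCert Cfsg.Agent.ChevalleyCore Cfsg.Agent.ChevBruhat

variable {D : ChevalleyDatum} (C : Cert D) (hL : laceOK D = true) {F : Type*} [Field F] [CharP F 2]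

include C hL

/-- every involution is conjugate to one of the classes, given moves from each representative to an earlier one -/
theorem classes_cover [Fintype F] (S : Sys D F) {reps : List (List ℕ)} {tab : List (List (List ℕ × ℕ))}
    (hR : repsB D reps tab = true) (cls : List (List ℕ))
    (hred : ∀ R ∈ reps, R ≠ [] → ∃ g ∈ D.group F, ∃ R' ∈ cls, g * lp C R * g⁻¹ = lp C R')
    {x : GL D.Idx F} (hx : x ∈ D.group F) (hx2 : orderOf x = 2) :
    ∃ g ∈ D.group F, ∃ R ∈ cls, g * x * g⁻¹ = lp C R := by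
  obtain ⟨g, hg, T, hT0, -, hT, hpw, he⟩ := invol_orth C hL S hx hx2
  obtain ⟨g', hg', R, hR', he', hne⟩ := reps_sound (F := F) C hL hR T (fun r hr => (hT r hr).2) hpw
  obtain ⟨g'', hg'', R', hR'', he''⟩ := hred R hR' (hne hT0)
  refine ⟨g'' * (g' * g), mul_mem hg'' (mul_mem hg' hg), R', hR'', ?_⟩
  rw [← he'', ← he', ← he]
  group

omit hL in
theorem trans_conj {R R' R'' : List ℕ} (h1 : ∃ g ∈ D.group F, g * lp C R * g⁻¹ = lp C R')
    (h2 : ∃ g ∈ D.group F, g * lp C R' * g⁻¹ = lp C R'') :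
    ∃ g ∈ D.group F, g * lp C (F := F) R * g⁻¹ = lp C R'' := by
  obtain ⟨g, hg, e⟩ := h1
  obtain ⟨g', hg', e'⟩ := h2
  exact ⟨g' * g, mul_mem hg' hg, by rw [← e', ← e]; group⟩

omit hL in
theorem refl_conj_self (R : List ℕ) : ∃ g ∈ D.group F, g * lp C (F := F) R * g⁻¹ = lp C R :=
  ⟨1, one_mem _, by simp⟩

/-- a product over orthogonal roots of positive rank is an involution -/
theorem lp_order {T : List ℕ} (ho : orthB D T = true) (hT : ∀ r ∈ T, r < D.nroots)
    (hne : 0 < (((lp C (F := F) T : GL D.Idx F) : Matrix D.Idx D.Idx F) - 1).rank) :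
    lp C (F := F) T ∈ D.group F ∧ orderOf (lp C (F := F) T) = 2 := by
  refine ⟨lp_mem_group C hL T, orderOf_eq_prime ?_ fun h => ?_⟩
  · have hrev : lp C (F := F) T.reverse = lp C T := lp_perm C hL (List.reverse_perm T) ho hT
    rw [lp_reverse C hL] at hrev
    rw [pow_two]
    nth_rewrite 1 [← hrev]
    exact inv_mul_cancel _
  · rw [h, Units.val_one, sub_self, Matrix.rank_zero] at hne
    exact lt_irrefl 0 hne

theorem coe_lp (T : List ℕ) :
    ((lp C (F := F) T : GL D.Idx F) : Matrix D.Idx D.Idx F) = (T.map fun r => D.x F r 1).prod := by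
  induction T with
  | nil => simp [lp]
  | cons a T ih => rw [lp_cons C hL, Units.val_mul, ih, coe_xg, List.map_cons, List.prod_cons]

/-- the three-part form of the classification -/
theorem classes_three [Fintype F] (S : Sys D F) {reps : List (List ℕ)} {tab : List (List (List ℕ × ℕ))}
    (hR : repsB D reps tab = true) (cls : List (List ℕ)) (rk : List ℕ → ℕ)
    (hcls : ∀ R ∈ cls, orthB D R = true ∧ (∀ r ∈ R, r < D.nroots) ∧ 0 < rk R ∧
      (((lp C (F := F) R : GL D.Idx F) : Matrix D.Idx D.Idx F) - 1).rank = rk R)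
    (hinj : ∀ R ∈ cls, ∀ R' ∈ cls, rk R = rk R' → R = R')
    (hred : ∀ R ∈ reps, R ≠ [] → ∃ g ∈ D.group F, ∃ R' ∈ cls, g * lp C R * g⁻¹ = lp C R')
    (L : List (Matrix D.Idx D.Idx F)) (hL' : L = cls.map fun R => (R.map fun r => D.x F r 1).prod) :
    (∀ y : GL D.Idx F, ((y : GL D.Idx F) : Matrix D.Idx D.Idx F) ∈ L → y ∈ D.group F ∧ orderOf y = 2) ∧
    (∀ g ∈ D.group F, orderOf g = 2 → ∃ y ∈ D.group F, ((y : GL D.Idx F) : Matrix D.Idx D.Idx F) ∈ L ∧
      ∃ h ∈ D.group F, h * g * h⁻¹ = y) ∧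
    (∀ y₁ ∈ D.group F, ∀ y₂ ∈ D.group F, ((y₁ : GL D.Idx F) : Matrix D.Idx D.Idx F) ∈ L →
      ((y₂ : GL D.Idx F) : Matrix D.Idx D.Idx F) ∈ L → (∃ h ∈ D.group F, h * y₁ * h⁻¹ = y₂) →
      ((y₁ : GL D.Idx F) : Matrix D.Idx D.Idx F) = ((y₂ : GL D.Idx F) : Matrix D.Idx D.Idx F)) := by
  subst hL'
  have key : ∀ y : GL D.Idx F,
      ((y : GL D.Idx F) : Matrix D.Idx D.Idx F) ∈ cls.map (fun R => (R.map fun r => D.x F r 1).prod) →
      ∃ R ∈ cls, y = lp C R := by
    intro y hy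
    obtain ⟨R, hR, e⟩ := List.mem_map.1 hy
    exact ⟨R, hR, Units.ext (by rw [coe_lp C hL, e])⟩
  refine ⟨fun y hy => ?_, fun g hg hg2 => ?_, fun y₁ _ y₂ _ h1 h2 hc => ?_⟩
  · obtain ⟨R, hR, rfl⟩ := key y hy
    obtain ⟨a, b, c, d⟩ := hcls R hR
    exact lp_order C hL a b (d ▸ c)
  · obtain ⟨h, hh, R, hR', he⟩ := classes_cover C hL S hR cls hred hg hg2
    refine ⟨lp C R, lp_mem_group C hL R, ?_, h, hh, he⟩
    rw [coe_lp C hL]
    exact List.mem_map_of_mem hR'
  · obtain ⟨R, hR1, rfl⟩ := key y₁ h1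
    obtain ⟨R', hR2, rfl⟩ := key y₂ h2
    obtain ⟨h, -, he⟩ := hc
    have := rank_conj (D := D) he
    rw [(hcls R hR1).2.2.2, (hcls R' hR2).2.2.2] at this
    rw [hinj R' hR2 R hR1 this]

/-- the number of classes -/
theorem classes_ncard [Fintype F] (S : Sys D F) {reps : List (List ℕ)} {tab : List (List (List ℕ × ℕ))}
    (hR : repsB D reps tab = true) (cls : List (List ℕ)) (hnd : cls.Nodup) (rk : List ℕ → ℕ)
    (hcls : ∀ R ∈ cls, orthB D R = true ∧ (∀ r ∈ R, r < D.nroots) ∧ 0 < rk R ∧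
      (((lp C (F := F) R : GL D.Idx F) : Matrix D.Idx D.Idx F) - 1).rank = rk R)
    (hinj : ∀ R ∈ cls, ∀ R' ∈ cls, rk R = rk R' → R = R')
    (hred : ∀ R ∈ reps, R ≠ [] → ∃ g ∈ D.group F, ∃ R' ∈ cls, g * lp C R * g⁻¹ = lp C R') :
    (ConjClasses.mk '' {g : ↥(D.group F) | orderOf g = 2}).ncard = cls.length := by
  classical
  let f : List ℕ → ConjClasses ↥(D.group F) := fun R => ConjClasses.mk ⟨lp C R, lp_mem_group C hL R⟩
  have himg : ConjClasses.mk '' {g : ↥(D.group F) | orderOf g = 2} = f '' (cls.toFinset : Set (List ℕ)) := by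
    ext c
    constructor
    · rintro ⟨g, hg, rfl⟩
      have hg' : orderOf (g : GL D.Idx F) = 2 := by rw [Subgroup.orderOf_coe]; exact hg
      obtain ⟨h, hh, R, hR', he⟩ := classes_cover C hL S hR cls hred g.2 hg'
      refine ⟨R, by simpa using hR', ?_⟩
      exact (ConjClasses.mk_eq_mk_iff_isConj.2
        (isConj_iff.2 ⟨⟨h, hh⟩, Subtype.ext (by simpa using he)⟩)).symm
    · rintro ⟨R, hR', rfl⟩
      obtain ⟨a, b, c, d⟩ := hcls R (by simpa using hR')
      refine ⟨_, ?_, rfl⟩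
      show orderOf (⟨lp C R, lp_mem_group C hL R⟩ : ↥(D.group F)) = 2
      rw [← Subgroup.orderOf_coe]
      exact (lp_order C hL a b (d ▸ c)).2
  rw [himg, Set.InjOn.ncard_image, Set.ncard_coe_finset, List.toFinset_card_of_nodup hnd]
  intro R hR1 R' hR2 he
  simp only [List.coe_toFinset, Set.mem_setOf_eq] at hR1 hR2
  obtain ⟨h, hh⟩ := isConj_iff.1 (ConjClasses.mk_eq_mk_iff_isConj.1 he)
  have := rank_conj (D := D) (congrArg Subtype.val hh)
  rw [(hcls R hR1).2.2.2, (hcls R' hR2).2.2.2] at this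
  exact (hinj R' hR2 R hR1 this).symm

end Cfsg.Agent.InvolADE
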