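import Cfsg.Agent.Lib.InvolADERank
import Cfsg.Prelude.Def_ChevE6

/-!
Certificates for the classes of involutions of E6 in characteristic two: orbit representatives of sets of
orthogonal roots, conjugating words and ranks.
-/

set_option autoImplicit false
set_option maxRecDepth 50000

namespace Cfsg.Agent.InvolADE.E6Data

open Cfsg.Lie Cfsg.Agent.InvolADE

/-- the representatives -/
def reps : List (List ℕ) := [
    [],
    [71],
    [68, 66],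
    [55, 65, 67],
    [55, 65, 67, 46]]

/-- extensions of representative 0 -/
def row0 : List (List ℕ × ℕ) := [
    ([1, 3, 4, 2, 3, 0, 2, 1, 3, 4, 5, 4, 3, 2, 1, 3, 4, 0, 2, 3, 1], 1),
    ([3, 4, 2, 3, 0, 2, 1, 3, 4, 5, 4, 3, 2, 1, 3, 4, 0, 2, 3, 1], 1),
    ([4, 2, 3, 0, 2, 1, 3, 4, 5, 4, 3, 2, 1, 3, 4, 0, 2, 3, 1], 1),
    ([2, 3, 0, 2, 1, 3, 4, 5, 4, 3, 2, 1, 3, 4, 0, 2, 3, 1], 1),
    ([2, 3, 0, 2, 1, 3, 4, 5, 3, 2, 1, 3, 4, 0, 2, 3, 1], 1),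
    ([4, 3, 0, 2, 1, 3, 4, 5, 4, 3, 2, 1, 3, 4, 0, 2, 3, 1], 1),
    ([3, 0, 2, 1, 3, 4, 5, 4, 3, 2, 1, 3, 4, 0, 2, 3, 1], 1),
    ([3, 0, 2, 1, 3, 4, 5, 3, 2, 1, 3, 4, 0, 2, 3, 1], 1),
    ([0, 2, 1, 3, 4, 5, 4, 3, 2, 1, 3, 4, 0, 2, 3, 1], 1),
    ([0, 2, 1, 3, 4, 5, 3, 2, 1, 3, 4, 0, 2, 3, 1], 1),
    ([0, 2, 1, 3, 4, 5, 2, 1, 3, 4, 0, 2, 3, 1], 1),
    ([0, 2, 3, 4, 5, 4, 3, 2, 1, 3, 4, 0, 2, 3, 1], 1),
    ([0, 2, 3, 4, 5, 3, 2, 1, 3, 4, 0, 2, 3, 1], 1),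
    ([0, 2, 3, 4, 5, 2, 1, 3, 4, 0, 2, 3, 1], 1),
    ([0, 2, 3, 4, 5, 1, 3, 4, 0, 2, 3, 1], 1),
    ([0, 2, 3, 4, 5, 1, 3, 4, 2, 3, 1], 1),
    ([4, 3, 2, 1, 3, 4, 5, 4, 3, 2, 1, 3, 4, 0, 2, 3, 1], 1),
    ([3, 2, 1, 3, 4, 5, 4, 3, 2, 1, 3, 4, 0, 2, 3, 1], 1),
    ([3, 2, 1, 3, 4, 5, 3, 2, 1, 3, 4, 0, 2, 3, 1], 1),
    ([2, 1, 3, 4, 5, 4, 3, 2, 1, 3, 4, 0, 2, 3, 1], 1),
    ([2, 1, 3, 4, 5, 3, 2, 1, 3, 4, 0, 2, 3, 1], 1),
    ([2, 1, 3, 4, 5, 2, 1, 3, 4, 0, 2, 3, 1], 1),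
    ([1, 3, 4, 5, 4, 3, 2, 1, 3, 4, 0, 2, 3, 1], 1),
    ([1, 3, 4, 5, 3, 2, 1, 3, 4, 0, 2, 3, 1], 1),
    ([1, 3, 4, 5, 2, 1, 3, 4, 0, 2, 3, 1], 1),
    ([1, 3, 4, 5, 2, 3, 4, 0, 2, 3, 1], 1),
    ([2, 3, 4, 5, 4, 3, 2, 1, 3, 4, 0, 2, 3, 1], 1),
    ([2, 3, 4, 5, 3, 2, 1, 3, 4, 0, 2, 3, 1], 1),
    ([2, 3, 4, 5, 2, 1, 3, 4, 0, 2, 3, 1], 1),
    ([2, 3, 4, 5, 1, 3, 4, 0, 2, 3, 1], 1),
    ([3, 4, 5, 4, 3, 2, 1, 3, 4, 0, 2, 3, 1], 1),
    ([3, 4, 5, 3, 2, 1, 3, 4, 0, 2, 3, 1], 1),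
    ([3, 4, 5, 2, 1, 3, 4, 0, 2, 3, 1], 1),
    ([4, 5, 4, 3, 2, 1, 3, 4, 0, 2, 3, 1], 1),
    ([4, 5, 3, 2, 1, 3, 4, 0, 2, 3, 1], 1),
    ([5, 4, 3, 2, 1, 3, 4, 0, 2, 3, 1], 1),
    ([4, 3, 2, 1, 3, 4, 0, 2, 3, 1], 1),
    ([5, 3, 2, 1, 3, 4, 0, 2, 3, 1], 1),
    ([3, 2, 1, 3, 4, 0, 2, 3, 1], 1),
    ([4, 5, 2, 1, 3, 4, 0, 2, 3, 1], 1),
    ([5, 2, 1, 3, 4, 0, 2, 3, 1], 1),
    ([2, 1, 3, 4, 0, 2, 3, 1], 1),
    ([3, 4, 5, 1, 3, 4, 0, 2, 3, 1], 1),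
    ([4, 5, 1, 3, 4, 0, 2, 3, 1], 1),
    ([5, 1, 3, 4, 0, 2, 3, 1], 1),
    ([1, 3, 4, 0, 2, 3, 1], 1),
    ([3, 4, 5, 2, 3, 4, 0, 2, 3, 1], 1),
    ([4, 5, 2, 3, 4, 0, 2, 3, 1], 1),
    ([5, 2, 3, 4, 0, 2, 3, 1], 1),
    ([2, 3, 4, 0, 2, 3, 1], 1),
    ([4, 5, 3, 4, 0, 2, 3, 1], 1),
    ([5, 3, 4, 0, 2, 3, 1], 1),
    ([3, 4, 0, 2, 3, 1], 1),
    ([5, 4, 0, 2, 3, 1], 1),
    ([4, 0, 2, 3, 1], 1),
    ([0, 2, 3, 1], 1),
    ([2, 3, 4, 5, 1, 3, 4, 2, 3, 1], 1),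
    ([3, 4, 5, 1, 3, 4, 2, 3, 1], 1),
    ([4, 5, 1, 3, 4, 2, 3, 1], 1),
    ([5, 1, 3, 4, 2, 3, 1], 1),
    ([1, 3, 4, 2, 3, 1], 1),
    ([4, 5, 3, 4, 2, 3, 1], 1),
    ([5, 3, 4, 2, 3, 1], 1),
    ([3, 4, 2, 3, 1], 1),
    ([5, 4, 2, 3, 1], 1),
    ([4, 2, 3, 1], 1),
    ([2, 3, 1], 1),
    ([5, 4, 3, 1], 1),
    ([4, 3, 1], 1),
    ([3, 1], 1),
    ([1], 1),
    ([], 1)]

/-- extensions of representative 1 -/
def row1 : List (List ℕ × ℕ) := [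
    ([0, 2, 3, 4, 5, 4, 3, 2, 1, 3, 4, 0], 2),
    ([0, 2, 3, 4, 5, 3, 2, 1, 3, 4, 0], 2),
    ([0, 2, 3, 4, 5, 2, 1, 3, 4, 0], 2),
    ([0, 2, 3, 4, 5, 1, 3, 4, 0], 2),
    ([0, 2, 3, 4, 5, 1, 3, 2], 2),
    ([2, 3, 4, 5, 4, 3, 2, 1, 3, 4, 0], 2),
    ([2, 3, 4, 5, 3, 2, 1, 3, 4, 0], 2),
    ([2, 3, 4, 5, 2, 1, 3, 4, 0], 2),
    ([2, 3, 4, 5, 1, 3, 4, 0], 2),
    ([3, 4, 5, 4, 3, 2, 1, 3, 4, 0], 2),
    ([3, 4, 5, 3, 2, 1, 3, 4, 0], 2),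
    ([3, 4, 5, 2, 1, 3, 4, 0], 2),
    ([4, 5, 4, 3, 2, 1, 3, 4, 0], 2),
    ([4, 5, 3, 2, 1, 3, 4, 0], 2),
    ([5, 4, 3, 2, 1, 3, 4, 0], 2),
    ([4, 3, 2, 1, 3, 4, 0], 2),
    ([5, 3, 2, 1, 3, 4, 0], 2),
    ([3, 2, 1, 3, 4, 0], 2),
    ([4, 5, 2, 1, 3, 4, 0], 2),
    ([5, 2, 1, 3, 4, 0], 2),
    ([2, 1, 3, 4, 0], 2),
    ([3, 4, 5, 1, 3, 4, 0], 2),
    ([4, 5, 1, 3, 4, 0], 2),
    ([5, 1, 3, 4, 0], 2),
    ([1, 3, 4, 0], 2),
    ([2, 3, 4, 5, 1, 3, 2], 2),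
    ([3, 4, 5, 1, 3, 2], 2),
    ([4, 5, 1, 3, 2], 2),
    ([5, 1, 3, 2], 2),
    ([1, 3, 2], 2)]

/-- extensions of representative 2 -/
def row2 : List (List ℕ × ℕ) := [
    ([3, 2, 1, 3, 4, 5, 3, 2, 1, 3, 0], 3),
    ([2, 1, 3, 4, 5, 3, 2, 1, 3, 0], 3),
    ([1, 3, 4, 5, 2, 1, 3, 0], 3),
    ([1, 3, 4, 5, 2, 3, 0], 3),
    ([2, 3, 4, 5, 3, 2, 1, 3, 0], 3),
    ([3, 4, 5, 2, 1, 3, 0], 3),
    ([4, 5, 2, 1, 3, 0], 3),
    ([5, 1, 3, 0], 3),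
    ([3, 4, 5, 2, 3, 0], 3),
    ([4, 5, 2, 3, 0], 3),
    ([5, 3, 0], 3),
    ([5, 0], 3)]

/-- extensions of representative 3 -/
def row3 : List (List ℕ × ℕ) := [
    ([1], 4),
    ([], 4)]

/-- extensions of representative 4 -/
def row4 : List (List ℕ × ℕ) := [
]

/-- the table -/
def tab : List (List (List ℕ × ℕ)) := [row0, row1, row2, row3, row4]

theorem lace : laceOK chevE6 = true := by decide +kernel

theorem reps_ok : repsB chevE6 reps tab = true := by decide +kernel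

theorem move4 : moveB chevE6 [55, 65, 67, 46] [13, 27, 30, 49, 61, 51] [55, 65, 67] [] [55, 65, 67] = true := by
  decide +kernel

/-- pivot columns of class 1 -/
def piv1 : List ℕ := [1, 7, 8, 9, 10, 11, 12, 13, 14, 15, 16, 22, 23, 24, 25, 26, 27, 28, 29, 30, 31, 6]

/-- functionals of class 1 -/
def fun1 : List (List ℕ) := [
    [5, 77],
    [52],
    [53],
    [54],
    [55],
    [56],
    [57],
    [58],
    [59],
    [60],
    [61],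
    [67],
    [68],
    [69],
    [70],
    [71],
    [72],
    [73],
    [74],
    [75],
    [76],
    [5]]

/-- column combinations of class 1 -/
def comb1 : List (List ℕ) := [
    [],
    [0],
    [],
    [],
    [],
    [],
    [21],
    [1],
    [2],
    [3],
    [4],
    [5],
    [6],
    [7],
    [8],
    [9],
    [10],
    [],
    [],
    [],
    [],
    [],
    [11],
    [12],
    [13],
    [14],
    [15],
    [16],
    [17],
    [18],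
    [19],
    [20],
    [],
    [],
    [],
    [],
    [],
    [],
    [],
    [],
    [],
    [],
    [],
    [],
    [],
    [],
    [],
    [],
    [],
    [],
    [],
    [],
    [],
    [],
    [],
    [],
    [],
    [],
    [],
    [],
    [],
    [],
    [],
    [],
    [],
    [],
    [],
    [],
    [],
    [],
    [],
    [],
    [],
    [],
    [],
    [],
    [],
    []]

theorem rank1 : rankB chevE6 [71] piv1 fun1 comb1 = true ∧ piv1.length = 22 ∧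
    fun1.all (fun l => l.all fun x => decide (x < chevE6.rank + chevE6.nroots)) = true := by
  decide +kernel

/-- pivot columns of class 2 -/
def piv2 : List ℕ := [0, 5, 10, 13, 15, 16, 18, 19, 20, 21, 22, 23, 25, 27, 28, 32, 34, 35, 36, 39, 41, 43, 46, 54, 6, 7, 8, 12, 14, 17, 9, 11]

/-- functionals of class 2 -/
def fun2 : List (List ℕ) := [
    [4, 5, 72],
    [4, 74],
    [42],
    [44],
    [47],
    [51],
    [55],
    [58],
    [60],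
    [61],
    [62],
    [63],
    [64],
    [29, 66],
    [65],
    [67],
    [37, 69],
    [40, 71],
    [68],
    [70],
    [73],
    [48, 75],
    [49, 76],
    [56, 77],
    [29],
    [37],
    [40],
    [48],
    [49],
    [56],
    [4],
    [4, 5]]

/-- column combinations of class 2 -/
def comb2 : List (List ℕ) := [
    [0],
    [],
    [0, 1],
    [],
    [0, 1],
    [1],
    [24],
    [25],
    [26],
    [30],
    [2],
    [31],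
    [27],
    [3],
    [28],
    [4],
    [5],
    [29],
    [6],
    [7],
    [8],
    [9],
    [10],
    [11],
    [],
    [12],
    [],
    [13],
    [14],
    [13],
    [],
    [],
    [15],
    [],
    [16],
    [17],
    [18],
    [16],
    [],
    [19],
    [17],
    [20],
    [],
    [21],
    [],
    [],
    [22],
    [],
    [21],
    [22],
    [],
    [],
    [],
    [],
    [23],
    [],
    [23],
    [],
    [],
    [],
    [],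
    [],
    [],
    [],
    [],
    [],
    [],
    [],
    [],
    [],
    [],
    [],
    [],
    [],
    [],
    [],
    [],
    []]

theorem rank2 : rankB chevE6 [68, 66] piv2 fun2 comb2 = true ∧ piv2.length = 32 ∧
    fun2.all (fun l => l.all fun x => decide (x < chevE6.rank + chevE6.nroots)) = true := by
  decide +kernel

/-- pivot columns of class 3 -/
def piv3 : List ℕ := [3, 14, 15, 17, 18, 20, 21, 25, 27, 29, 30, 32, 34, 35, 37, 38, 42, 43, 44, 47, 55, 0, 2, 8, 9, 11, 13, 16, 19, 23, 24, 26, 33, 10, 22, 12, 6, 7]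

/-- functionals of class 3 -/
def fun3 : List (List ℕ) := [
    [1, 61, 71, 73],
    [45],
    [49],
    [53],
    [56],
    [39, 59],
    [40, 60],
    [46],
    [65],
    [51],
    [66],
    [54],
    [68],
    [41, 70],
    [58],
    [69],
    [48, 74],
    [62, 72],
    [63, 75],
    [47, 76],
    [55, 77],
    [1, 4, 61],
    [1, 5, 73],
    [39],
    [41],
    [40],
    [48],
    [47, 64],
    [55, 67],
    [62],
    [63],
    [47, 50],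
    [55, 57],
    [1, 5],
    [1, 4],
    [1, 4, 5],
    [47, 50, 64],
    [55, 57, 67]]

/-- column combinations of class 3 -/
def comb3 : List (List ℕ) := [
    [21],
    [],
    [22],
    [0],
    [21],
    [22],
    [36],
    [37],
    [23],
    [24],
    [33],
    [25],
    [35],
    [26],
    [1],
    [2],
    [27],
    [3],
    [4],
    [28],
    [5],
    [6],
    [34],
    [29],
    [30],
    [7],
    [31],
    [8],
    [19, 27, 31],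
    [9],
    [10],
    [],
    [11],
    [32],
    [12],
    [13],
    [20, 28, 32],
    [14],
    [15],
    [5],
    [6],
    [13],
    [16],
    [17],
    [18],
    [],
    [],
    [19],
    [16],
    [],
    [19],
    [],
    [],
    [],
    [],
    [20],
    [],
    [20],
    [],
    [],
    [],
    [],
    [17],
    [18],
    [19],
    [],
    [],
    [20],
    [],
    [],
    [],
    [],
    [],
    [],
    [],
    [],
    [],
    []]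

theorem rank3 : rankB chevE6 [55, 65, 67] piv3 fun3 comb3 = true ∧ piv3.length = 38 ∧
    fun3.all (fun l => l.all fun x => decide (x < chevE6.rank + chevE6.nroots)) = true := by
  decide +kernel

end Cfsg.Agent.InvolADE.E6Data
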