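import Cfsg.Agent.Lib.InvolADERank
import Cfsg.Prelude.Def_ChevE7

/-!
Certificates for the classes of involutions of E7 in characteristic two: orbit representatives of sets of
orthogonal roots, conjugating words and ranks.
-/

set_option autoImplicit false
set_option maxRecDepth 50000

namespace Cfsg.Agent.InvolADE.E7Data

open Cfsg.Lie Cfsg.Agent.InvolADE

/-- the representatives -/
def reps : List (List ℕ) := [
    [],
    [63],
    [63, 66],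
    [63, 66, 73],
    [63, 66, 78],
    [63, 66, 73, 78],
    [63, 66, 73, 125],
    [63, 66, 73, 78, 87],
    [63, 66, 73, 78, 87, 92],
    [63, 66, 73, 78, 87, 92, 125]]

/-- extensions of representative 0 -/
def row0 : List (List ℕ × ℕ) := [
    ([0, 2, 3, 4, 5, 1, 3, 4, 2, 3, 0, 2, 1, 3, 4, 5, 6], 1),
    ([2, 3, 4, 5, 1, 3, 4, 2, 3, 0, 2, 1, 3, 4, 5, 6], 1),
    ([3, 4, 5, 1, 3, 4, 2, 3, 0, 2, 1, 3, 4, 5, 6], 1),
    ([4, 5, 1, 3, 4, 2, 3, 0, 2, 1, 3, 4, 5, 6], 1),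
    ([5, 1, 3, 4, 2, 3, 0, 2, 1, 3, 4, 5, 6], 1),
    ([1, 3, 4, 2, 3, 0, 2, 1, 3, 4, 5, 6], 1),
    ([1, 3, 4, 2, 3, 0, 2, 1, 3, 4, 5, 6, 5], 1),
    ([4, 5, 3, 4, 2, 3, 0, 2, 1, 3, 4, 5, 6], 1),
    ([5, 3, 4, 2, 3, 0, 2, 1, 3, 4, 5, 6], 1),
    ([3, 4, 2, 3, 0, 2, 1, 3, 4, 5, 6], 1),
    ([3, 4, 2, 3, 0, 2, 1, 3, 4, 5, 6, 5], 1),
    ([5, 4, 2, 3, 0, 2, 1, 3, 4, 5, 6], 1),
    ([4, 2, 3, 0, 2, 1, 3, 4, 5, 6], 1),
    ([4, 2, 3, 0, 2, 1, 3, 4, 5, 6, 5], 1),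
    ([2, 3, 0, 2, 1, 3, 4, 5, 6], 1),
    ([2, 3, 0, 2, 1, 3, 4, 5, 6, 5], 1),
    ([2, 3, 0, 2, 1, 3, 4, 5, 6, 4, 5], 1),
    ([5, 4, 3, 0, 2, 1, 3, 4, 5, 6], 1),
    ([4, 3, 0, 2, 1, 3, 4, 5, 6], 1),
    ([4, 3, 0, 2, 1, 3, 4, 5, 6, 5], 1),
    ([3, 0, 2, 1, 3, 4, 5, 6], 1),
    ([3, 0, 2, 1, 3, 4, 5, 6, 5], 1),
    ([3, 0, 2, 1, 3, 4, 5, 6, 4, 5], 1),
    ([0, 2, 1, 3, 4, 5, 6], 1),
    ([0, 2, 1, 3, 4, 5, 6, 5], 1),
    ([0, 2, 1, 3, 4, 5, 6, 4, 5], 1),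
    ([0, 2, 1, 3, 4, 5, 6, 3, 4, 5], 1),
    ([0, 2, 3, 4, 5, 6], 1),
    ([0, 2, 3, 4, 5, 6, 5], 1),
    ([0, 2, 3, 4, 5, 6, 4, 5], 1),
    ([0, 2, 3, 4, 5, 6, 3, 4, 5], 1),
    ([0, 2, 3, 4, 5, 6, 2, 3, 4, 5], 1),
    ([0, 2, 3, 4, 5, 6, 0, 2, 3, 4, 5], 1),
    ([5, 4, 3, 2, 1, 3, 4, 5, 6], 1),
    ([4, 3, 2, 1, 3, 4, 5, 6], 1),
    ([4, 3, 2, 1, 3, 4, 5, 6, 5], 1),
    ([3, 2, 1, 3, 4, 5, 6], 1),
    ([3, 2, 1, 3, 4, 5, 6, 5], 1),
    ([3, 2, 1, 3, 4, 5, 6, 4, 5], 1),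
    ([2, 1, 3, 4, 5, 6], 1),
    ([2, 1, 3, 4, 5, 6, 5], 1),
    ([2, 1, 3, 4, 5, 6, 4, 5], 1),
    ([2, 1, 3, 4, 5, 6, 3, 4, 5], 1),
    ([1, 3, 4, 5, 6], 1),
    ([1, 3, 4, 5, 6, 5], 1),
    ([1, 3, 4, 5, 6, 4, 5], 1),
    ([1, 3, 4, 5, 6, 3, 4, 5], 1),
    ([1, 3, 4, 5, 6, 1, 3, 4, 5], 1),
    ([2, 3, 4, 5, 6], 1),
    ([2, 3, 4, 5, 6, 5], 1),
    ([2, 3, 4, 5, 6, 4, 5], 1),
    ([2, 3, 4, 5, 6, 3, 4, 5], 1),
    ([2, 3, 4, 5, 6, 2, 3, 4, 5], 1),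
    ([3, 4, 5, 6], 1),
    ([3, 4, 5, 6, 5], 1),
    ([3, 4, 5, 6, 4, 5], 1),
    ([3, 4, 5, 6, 3, 4, 5], 1),
    ([4, 5, 6], 1),
    ([4, 5, 6, 5], 1),
    ([4, 5, 6, 4, 5], 1),
    ([5, 6], 1),
    ([5, 6, 5], 1),
    ([6], 1),
    ([], 1),
    ([6, 5], 1),
    ([5], 1),
    ([5, 6, 4, 5], 1),
    ([6, 4, 5], 1),
    ([4, 5], 1),
    ([4, 5, 6, 3, 4, 5], 1),
    ([5, 6, 3, 4, 5], 1),
    ([6, 3, 4, 5], 1),
    ([3, 4, 5], 1),
    ([3, 4, 5, 6, 2, 3, 4, 5], 1),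
    ([4, 5, 6, 2, 3, 4, 5], 1),
    ([5, 6, 2, 3, 4, 5], 1),
    ([6, 2, 3, 4, 5], 1),
    ([2, 3, 4, 5], 1),
    ([3, 4, 5, 6, 1, 3, 4, 5], 1),
    ([4, 5, 6, 1, 3, 4, 5], 1),
    ([5, 6, 1, 3, 4, 5], 1),
    ([6, 1, 3, 4, 5], 1),
    ([1, 3, 4, 5], 1),
    ([4, 5, 6, 2, 1, 3, 4, 5], 1),
    ([5, 6, 2, 1, 3, 4, 5], 1),
    ([6, 2, 1, 3, 4, 5], 1),
    ([2, 1, 3, 4, 5], 1),
    ([5, 6, 3, 2, 1, 3, 4, 5], 1),
    ([6, 3, 2, 1, 3, 4, 5], 1),
    ([3, 2, 1, 3, 4, 5], 1),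
    ([6, 4, 3, 2, 1, 3, 4, 5], 1),
    ([4, 3, 2, 1, 3, 4, 5], 1),
    ([5, 4, 3, 2, 1, 3, 4, 5], 1),
    ([2, 3, 4, 5, 6, 0, 2, 3, 4, 5], 1),
    ([3, 4, 5, 6, 0, 2, 3, 4, 5], 1),
    ([4, 5, 6, 0, 2, 3, 4, 5], 1),
    ([5, 6, 0, 2, 3, 4, 5], 1),
    ([6, 0, 2, 3, 4, 5], 1),
    ([0, 2, 3, 4, 5], 1),
    ([4, 5, 6, 0, 2, 1, 3, 4, 5], 1),
    ([5, 6, 0, 2, 1, 3, 4, 5], 1),
    ([6, 0, 2, 1, 3, 4, 5], 1),
    ([0, 2, 1, 3, 4, 5], 1),
    ([5, 6, 3, 0, 2, 1, 3, 4, 5], 1),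
    ([6, 3, 0, 2, 1, 3, 4, 5], 1),
    ([3, 0, 2, 1, 3, 4, 5], 1),
    ([6, 4, 3, 0, 2, 1, 3, 4, 5], 1),
    ([4, 3, 0, 2, 1, 3, 4, 5], 1),
    ([5, 4, 3, 0, 2, 1, 3, 4, 5], 1),
    ([5, 6, 2, 3, 0, 2, 1, 3, 4, 5], 1),
    ([6, 2, 3, 0, 2, 1, 3, 4, 5], 1),
    ([2, 3, 0, 2, 1, 3, 4, 5], 1),
    ([6, 4, 2, 3, 0, 2, 1, 3, 4, 5], 1),
    ([4, 2, 3, 0, 2, 1, 3, 4, 5], 1),
    ([5, 4, 2, 3, 0, 2, 1, 3, 4, 5], 1),
    ([6, 3, 4, 2, 3, 0, 2, 1, 3, 4, 5], 1),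
    ([3, 4, 2, 3, 0, 2, 1, 3, 4, 5], 1),
    ([5, 3, 4, 2, 3, 0, 2, 1, 3, 4, 5], 1),
    ([4, 5, 3, 4, 2, 3, 0, 2, 1, 3, 4, 5], 1),
    ([6, 1, 3, 4, 2, 3, 0, 2, 1, 3, 4, 5], 1),
    ([1, 3, 4, 2, 3, 0, 2, 1, 3, 4, 5], 1),
    ([5, 1, 3, 4, 2, 3, 0, 2, 1, 3, 4, 5], 1),
    ([4, 5, 1, 3, 4, 2, 3, 0, 2, 1, 3, 4, 5], 1),
    ([3, 4, 5, 1, 3, 4, 2, 3, 0, 2, 1, 3, 4, 5], 1),
    ([2, 3, 4, 5, 1, 3, 4, 2, 3, 0, 2, 1, 3, 4, 5], 1),
    ([0, 2, 3, 4, 5, 1, 3, 4, 2, 3, 0, 2, 1, 3, 4, 5], 1)]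

/-- extensions of representative 1 -/
def row1 : List (List ℕ × ℕ) := [
    ([5, 6, 0, 2, 3, 4, 5, 1, 3, 4, 2, 3, 0, 2, 1, 3, 4, 5, 6, 2, 3, 4, 0, 2, 3], 2),
    ([5, 6, 2, 3, 4, 5, 1, 3, 4, 2, 3, 0, 2, 1, 3, 4, 5, 6, 2, 3, 4, 0, 2, 3], 2),
    ([5, 6, 3, 4, 5, 1, 3, 4, 2, 3, 0, 2, 1, 3, 4, 5, 6, 2, 3, 4, 0, 2, 3], 2),
    ([5, 6, 4, 5, 1, 3, 4, 2, 3, 0, 2, 1, 3, 4, 5, 6, 2, 3, 4, 0, 2, 3], 2),
    ([5, 6, 4, 5, 1, 3, 4, 2, 3, 0, 2, 1, 3, 4, 5, 6, 5, 2, 3, 4, 0, 2, 3], 2),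
    ([5, 6, 4, 5, 3, 4, 2, 3, 0, 2, 1, 3, 4, 5, 6, 2, 3, 4, 0, 2, 3], 2),
    ([5, 6, 4, 5, 3, 4, 2, 3, 0, 2, 1, 3, 4, 5, 6, 5, 2, 3, 4, 0, 2, 3], 2),
    ([5, 6, 4, 5, 3, 4, 2, 3, 0, 2, 1, 3, 4, 5, 6, 4, 5, 2, 3, 4, 0, 2, 3], 2),
    ([2, 3, 0, 2, 1, 3, 4], 2),
    ([5, 4, 3, 2, 1, 3, 4, 5, 6, 5, 4, 3, 2, 1, 3, 4, 5, 0, 2, 3, 4, 0, 2, 3], 2),
    ([3, 0, 2, 1, 3, 4], 2),
    ([0, 2, 1, 3, 4], 2),
    ([0, 2, 1, 3, 4, 3], 2),
    ([0, 2, 3, 4], 2),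
    ([0, 2, 3, 4, 3], 2),
    ([0, 2, 3, 4, 2, 3], 2),
    ([0, 2, 3, 4, 0, 2, 3], 2),
    ([5, 4, 3, 0, 2, 1, 3, 4, 5, 6, 5, 4, 3, 2, 1, 3, 4, 5, 0, 2, 3, 4, 0, 2, 3], 2),
    ([3, 2, 1, 3, 4], 2),
    ([2, 1, 3, 4], 2),
    ([2, 1, 3, 4, 3], 2),
    ([1, 3, 4], 2),
    ([1, 3, 4, 3], 2),
    ([1, 3, 4, 1, 3], 2),
    ([2, 3, 4], 2),
    ([2, 3, 4, 3], 2),
    ([2, 3, 4, 2, 3], 2),
    ([3, 4], 2),
    ([3, 4, 3], 2),
    ([4], 2),
    ([], 2),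
    ([4, 3], 2),
    ([3], 2),
    ([3, 4, 2, 3], 2),
    ([4, 2, 3], 2),
    ([2, 3], 2),
    ([3, 4, 1, 3], 2),
    ([4, 1, 3], 2),
    ([1, 3], 2),
    ([4, 2, 1, 3], 2),
    ([2, 1, 3], 2),
    ([3, 2, 1, 3], 2),
    ([0, 2, 3, 4, 5, 6, 4, 5, 3, 4, 2, 3, 0, 2, 1, 3, 4, 5, 2, 3, 4, 0, 2, 3], 2),
    ([2, 3, 4, 0, 2, 3], 2),
    ([3, 4, 0, 2, 3], 2),
    ([4, 0, 2, 3], 2),
    ([0, 2, 3], 2),
    ([4, 0, 2, 1, 3], 2),
    ([0, 2, 1, 3], 2),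
    ([3, 0, 2, 1, 3], 2),
    ([2, 3, 4, 5, 6, 4, 5, 3, 4, 2, 3, 0, 2, 1, 3, 4, 5, 2, 3, 4, 0, 2, 3], 2),
    ([2, 3, 0, 2, 1, 3], 2),
    ([3, 4, 5, 6, 4, 5, 3, 4, 2, 3, 0, 2, 1, 3, 4, 5, 2, 3, 4, 0, 2, 3], 2),
    ([4, 5, 6, 4, 5, 3, 4, 2, 3, 0, 2, 1, 3, 4, 5, 2, 3, 4, 0, 2, 3], 2),
    ([5, 6, 4, 5, 3, 4, 2, 3, 0, 2, 1, 3, 4, 5, 2, 3, 4, 0, 2, 3], 2),
    ([5, 4, 3, 2, 1, 3, 4, 5, 6, 5, 4, 3, 2, 1, 3, 4, 5, 4, 0, 2, 1, 3], 2),
    ([5, 4, 3, 2, 1, 3, 4, 5, 6, 5, 4, 3, 2, 1, 3, 4, 5, 0, 2, 1, 3], 2),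
    ([5, 4, 3, 2, 1, 3, 4, 5, 6, 5, 4, 3, 2, 1, 3, 4, 5, 3, 0, 2, 1, 3], 2),
    ([5, 4, 3, 2, 1, 3, 4, 5, 6, 5, 4, 3, 2, 1, 3, 4, 5, 2, 3, 0, 2, 1, 3], 2),
    ([5, 4, 3, 0, 2, 1, 3, 4, 5, 6, 5, 4, 3, 2, 1, 3, 4, 5, 2, 3, 0, 2, 1, 3], 2)]

/-- extensions of representative 2 -/
def row2 : List (List ℕ × ℕ) := [
    ([3, 4, 5, 6, 0, 2, 3, 4, 5, 1, 3, 4, 2, 3, 0, 2, 1, 3, 4, 5, 6, 4, 3, 2, 0], 3),
    ([3, 4, 5, 6, 2, 3, 4, 5, 1, 3, 4, 2, 3, 0, 2, 1, 3, 4, 5, 6, 4, 3, 2, 0], 3),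
    ([3, 2, 1, 3, 4, 5, 6, 3, 2, 1, 3, 4, 5, 3, 2, 1, 3, 4, 3, 2, 1, 3, 0, 2, 0], 3),
    ([5, 6, 4, 5, 3, 4, 2, 3, 0, 2, 1, 3, 4, 2, 0], 3),
    ([3, 4, 2, 3, 0, 2, 1, 3, 4, 2, 0], 3),
    ([5, 6, 4, 5, 3, 2, 1, 3, 4, 3, 2, 1, 3, 0, 2, 0], 3),
    ([3, 2, 1, 3, 4, 3, 2, 1, 3, 0, 2, 0], 3),
    ([0, 2], 3),
    ([0, 2, 0], 3),
    ([5, 6, 4, 5, 3, 0, 2, 1, 3, 4, 3, 2, 1, 3, 0, 2, 0], 3),
    ([3, 0, 2, 1, 3, 4, 3, 2, 1, 3, 0, 2, 0], 3),
    ([1], 4),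
    ([2], 3),
    ([], 3),
    ([], 4),
    ([0, 2, 3, 4, 2, 3, 0, 2, 1, 3, 2, 0], 3),
    ([5, 6, 4, 5, 0, 2, 3, 4, 2, 3, 0, 2, 1, 3, 2, 0], 3),
    ([2, 0], 3),
    ([0], 3),
    ([2, 3, 4, 2, 3, 0, 2, 1, 3, 2, 0], 3),
    ([5, 6, 4, 5, 2, 3, 4, 2, 3, 0, 2, 1, 3, 2, 0], 3),
    ([3, 4, 2, 3, 0, 2, 1, 3, 2, 0], 3),
    ([5, 6, 4, 5, 3, 4, 2, 3, 0, 2, 1, 3, 2, 0], 3),
    ([3, 2, 1, 3, 4, 5, 6, 3, 2, 1, 3, 4, 5, 2, 3, 4, 2, 3, 0, 2, 1, 3, 2, 0], 3),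
    ([3, 2, 1, 3, 4, 5, 6, 3, 2, 1, 3, 4, 5, 3, 4, 2, 3, 0, 2, 1, 3, 2, 0], 3),
    ([3, 0, 2, 1, 3, 4, 5, 6, 3, 2, 1, 3, 4, 5, 3, 4, 2, 3, 0, 2, 1, 3, 2, 0], 3)]

/-- extensions of representative 3 -/
def row3 : List (List ℕ × ℕ) := [
    ([0, 2, 3, 4, 5, 1, 3, 4, 2, 3, 0, 2, 1, 3, 4, 5, 6, 0, 2, 3, 4, 1, 3, 2, 0], 6),
    ([5, 6, 4, 5, 3, 4, 2, 3, 1], 5),
    ([3, 4, 2, 3, 1], 5),
    ([1], 5),
    ([], 5),
    ([3, 4, 2, 3], 5),
    ([5, 6, 4, 5, 3, 4, 2, 3], 5),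
    ([], 6)]

/-- extensions of representative 4 -/
def row4 : List (List ℕ × ℕ) := [
    ([0, 2, 3, 4, 5, 6, 1, 3, 4, 5, 2, 3, 4, 1, 3, 0, 2], 5),
    ([2, 3, 4, 5, 6, 1, 3, 4, 5, 2, 3, 4, 1, 3, 0, 2], 5),
    ([3, 4, 5, 6, 1, 3, 4, 5, 2, 3, 4, 1, 3, 0, 2], 5),
    ([5, 6, 4, 5, 2, 3, 4, 1, 3, 0, 2], 5),
    ([2, 3, 4, 1, 3, 0, 2], 5),
    ([5, 6, 4, 5, 3, 4, 1, 3, 0, 2], 5),
    ([3, 4, 1, 3, 0, 2], 5),
    ([0, 2], 5),
    ([0, 2, 0], 5),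
    ([5, 6, 4, 5, 3, 4, 1, 3, 2], 5),
    ([3, 4, 1, 3, 2], 5),
    ([2], 5),
    ([], 5),
    ([3, 4, 1, 3], 5),
    ([5, 6, 4, 5, 3, 4, 1, 3], 5),
    ([2, 0], 5),
    ([0], 5),
    ([3, 4, 1, 3, 0], 5),
    ([5, 6, 4, 5, 3, 4, 1, 3, 0], 5),
    ([2, 3, 4, 1, 3, 0], 5),
    ([5, 6, 4, 5, 2, 3, 4, 1, 3, 0], 5),
    ([3, 4, 5, 6, 1, 3, 4, 5, 2, 3, 4, 1, 3, 0], 5),
    ([2, 3, 4, 5, 6, 1, 3, 4, 5, 2, 3, 4, 1, 3, 0], 5),
    ([0, 2, 3, 4, 5, 6, 1, 3, 4, 5, 2, 3, 4, 1, 3, 0], 5)]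

/-- extensions of representative 5 -/
def row5 : List (List ℕ × ℕ) := [
    ([0, 2, 3, 4, 5, 6, 1, 3, 4, 5, 2, 3, 4, 0, 2, 3, 1], 7),
    ([5, 6, 4, 5, 3, 4, 2, 3, 1], 7),
    ([3, 4, 2, 3, 1], 7),
    ([], 7),
    ([5, 6, 4, 5], 7),
    ([0, 2, 3, 4, 5, 6, 1, 3, 4, 5, 2, 0], 7)]

/-- extensions of representative 6 -/
def row6 : List (List ℕ × ℕ) := [
    ([5, 6, 4, 5, 3, 4, 2, 3, 0, 2, 1, 3, 4, 5, 6, 1, 3, 4, 5, 2, 0], 7),
    ([3, 4, 2, 3, 0, 2, 1, 3, 4, 5, 6, 1, 3, 4, 5, 2, 0], 7),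
    ([0, 2, 1, 3, 4, 5, 6, 1, 3, 4, 5, 2, 0], 7),
    ([0, 2, 3, 4, 5, 6, 1, 3, 4, 5, 2, 0], 7),
    ([0, 2, 3, 4, 5, 6, 2, 3, 0, 2, 1, 3, 4, 5, 2, 0], 7),
    ([0, 2, 3, 4, 5, 6, 4, 5, 3, 4, 2, 3, 0, 2, 1, 3, 4, 5, 2, 0], 7)]

/-- extensions of representative 7 -/
def row7 : List (List ℕ × ℕ) := [
    ([0, 2, 3, 4, 5, 6, 1, 3, 4, 5, 2, 3, 4, 0, 2, 3, 1], 8),
    ([5, 6, 4, 5, 3, 4, 2, 3, 1], 8),
    ([], 8),
    ([0, 2, 3, 4, 1, 3, 2, 0], 8)]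

/-- extensions of representative 8 -/
def row8 : List (List ℕ × ℕ) := [
    ([0, 2, 3, 4, 5, 6, 1, 3, 4, 5, 2, 3, 4, 0, 2, 3, 1], 9),
    ([], 9)]

/-- extensions of representative 9 -/
def row9 : List (List ℕ × ℕ) := [
]

/-- the table -/
def tab : List (List (List ℕ × ℕ)) := [row0, row1, row2, row3, row4, row5, row6, row7, row8, row9]

theorem lace : laceOK chevE7 = true := by decide +kernel

theorem reps_ok : repsB chevE7 reps tab = true := by decide +kernel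

theorem move6 : moveB chevE7 [63, 66, 73, 125] [105, 106, 110, 107, 112, 111] [63, 66, 73] [] [63, 66, 73] = true := by
  decide +kernel

theorem move7 : moveB chevE7 [63, 66, 73, 78, 87] [70, 74, 79, 75, 83, 80] [66, 73, 78, 63] [] [63, 66, 73, 78] = true := by
  decide +kernel

theorem move8 : moveB chevE7 [63, 66, 73, 78, 87, 92] [65, 67, 88, 68, 90, 89] [63, 66, 87, 73, 78] [] [63, 66, 73, 78, 87] = true := by
  decide +kernel

theorem move9 : moveB chevE7 [63, 66, 73, 78, 87, 92, 125] [105, 106, 110, 107, 112, 111] [63, 66, 73, 78, 87, 92] [] [63, 66, 73, 78, 87, 92] = true := by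
  decide +kernel

/-- pivot columns of class 1 -/
def piv1 : List ℕ := [5, 12, 16, 19, 21, 25, 27, 30, 34, 41, 43, 46, 50, 55, 60, 64, 67, 71, 74, 78, 83, 88, 92, 95, 97, 104, 108, 111, 113, 117, 119, 122, 126, 69]

/-- functionals of class 1 -/
def fun1 : List (List ℕ) := [
    [6, 70],
    [13],
    [17],
    [20],
    [22],
    [26],
    [28],
    [31],
    [35],
    [42],
    [44],
    [47],
    [51],
    [56],
    [61],
    [65],
    [68],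
    [72],
    [75],
    [79],
    [84],
    [89],
    [93],
    [96],
    [98],
    [105],
    [109],
    [112],
    [114],
    [118],
    [120],
    [123],
    [127],
    [6]]

/-- column combinations of class 1 -/
def comb1 : List (List ℕ) := [
    [],
    [],
    [],
    [],
    [],
    [0],
    [],
    [],
    [],
    [],
    [],
    [],
    [1],
    [],
    [],
    [],
    [2],
    [],
    [],
    [3],
    [],
    [4],
    [],
    [],
    [],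
    [5],
    [],
    [6],
    [],
    [],
    [7],
    [],
    [],
    [],
    [8],
    [],
    [],
    [],
    [],
    [],
    [],
    [9],
    [],
    [10],
    [],
    [],
    [11],
    [],
    [],
    [],
    [12],
    [],
    [],
    [],
    [],
    [13],
    [],
    [],
    [],
    [],
    [14],
    [],
    [],
    [],
    [15],
    [],
    [],
    [16],
    [],
    [33],
    [],
    [17],
    [],
    [],
    [18],
    [],
    [],
    [],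
    [19],
    [],
    [],
    [],
    [],
    [20],
    [],
    [],
    [],
    [],
    [21],
    [],
    [],
    [],
    [22],
    [],
    [],
    [23],
    [],
    [24],
    [],
    [],
    [],
    [],
    [],
    [],
    [25],
    [],
    [],
    [],
    [26],
    [],
    [],
    [27],
    [],
    [28],
    [],
    [],
    [],
    [29],
    [],
    [30],
    [],
    [],
    [31],
    [],
    [],
    [],
    [32],
    [],
    [],
    [],
    [],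
    [],
    []]

theorem rank1 : rankB chevE7 [63] piv1 fun1 comb1 = true ∧ piv1.length = 34 ∧
    fun1.all (fun l => l.all fun x => decide (x < chevE7.rank + chevE7.nroots)) = true := by
  decide +kernel

/-- pivot columns of class 2 -/
def piv2 : List ℕ := [3, 10, 12, 14, 16, 20, 26, 30, 32, 34, 36, 42, 46, 48, 50, 52, 55, 57, 60, 62, 65, 72, 76, 78, 81, 83, 86, 88, 90, 92, 96, 102, 104, 106, 108, 112, 118, 122, 124, 126, 128, 5, 66, 69, 19, 25, 41, 64, 71, 95, 111, 117]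

/-- functionals of class 2 -/
def fun2 : List (List ℕ) := [
    [4, 6, 70, 73],
    [11],
    [13],
    [15],
    [17],
    [21, 22],
    [27, 28],
    [31],
    [33],
    [35],
    [37],
    [43, 44],
    [47],
    [49],
    [51],
    [53],
    [56],
    [58],
    [61],
    [63],
    [67, 68],
    [74, 75],
    [77],
    [79],
    [82],
    [84],
    [87],
    [89],
    [91],
    [93],
    [97, 98],
    [103],
    [105],
    [107],
    [109],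
    [113, 114],
    [119, 120],
    [123],
    [125],
    [127],
    [129],
    [6, 70],
    [4],
    [6],
    [21],
    [27],
    [43],
    [67],
    [74],
    [97],
    [113],
    [119]]

/-- column combinations of class 2 -/
def comb2 : List (List ℕ) := [
    [],
    [],
    [],
    [0],
    [],
    [41],
    [],
    [],
    [],
    [],
    [1],
    [],
    [2],
    [],
    [3],
    [],
    [4],
    [],
    [],
    [44],
    [5],
    [5],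
    [],
    [],
    [],
    [45],
    [6],
    [6],
    [],
    [],
    [7],
    [],
    [8],
    [],
    [9],
    [],
    [10],
    [],
    [],
    [],
    [],
    [46],
    [11],
    [11],
    [],
    [],
    [12],
    [],
    [13],
    [],
    [14],
    [],
    [15],
    [],
    [],
    [16],
    [],
    [17],
    [],
    [],
    [18],
    [],
    [19],
    [],
    [47],
    [20],
    [42],
    [20],
    [],
    [43],
    [],
    [48],
    [21],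
    [],
    [21],
    [],
    [22],
    [],
    [23],
    [],
    [],
    [24],
    [],
    [25],
    [],
    [],
    [26],
    [],
    [27],
    [],
    [28],
    [],
    [29],
    [],
    [],
    [49],
    [30],
    [30],
    [],
    [],
    [],
    [],
    [31],
    [],
    [32],
    [],
    [33],
    [],
    [34],
    [],
    [],
    [50],
    [35],
    [35],
    [],
    [],
    [],
    [51],
    [36],
    [36],
    [],
    [],
    [37],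
    [],
    [38],
    [],
    [39],
    [],
    [40],
    [],
    [],
    [],
    []]

theorem rank2 : rankB chevE7 [63, 66] piv2 fun2 comb2 = true ∧ piv2.length = 52 ∧
    fun2.all (fun l => l.all fun x => decide (x < chevE7.rank + chevE7.nroots)) = true := by
  decide +kernel

/-- pivot columns of class 3 -/
def piv3 : List ℕ := [0, 8, 10, 12, 14, 16, 18, 22, 23, 30, 32, 34, 36, 38, 42, 47, 49, 56, 58, 65, 72, 77, 79, 87, 89, 96, 100, 102, 104, 106, 108, 110, 114, 115, 122, 124, 126, 128, 130, 3, 5, 59, 66, 69, 20, 21, 41, 46, 48, 55, 57, 64, 71, 76, 78, 86, 88, 95, 112, 113, 19, 111]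

/-- functionals of class 3 -/
def fun3 : List (List ℕ) := [
    [2, 4, 6, 70, 73, 80],
    [9],
    [11],
    [13],
    [15],
    [17],
    [24],
    [25, 26, 27, 28],
    [29],
    [31],
    [33],
    [35],
    [37],
    [39],
    [43, 44],
    [50, 51],
    [52, 53],
    [60, 61],
    [62, 63],
    [67, 68],
    [74, 75],
    [81, 82],
    [83, 84],
    [90, 91],
    [92, 93],
    [97, 98],
    [101],
    [103],
    [105],
    [107],
    [109],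
    [116],
    [117, 118, 119, 120],
    [121],
    [123],
    [125],
    [127],
    [129],
    [131],
    [4, 6, 70, 73],
    [6, 70],
    [2],
    [4],
    [6],
    [25, 26],
    [25, 27],
    [43],
    [50],
    [52],
    [60],
    [62],
    [67],
    [74],
    [81],
    [83],
    [90],
    [92],
    [97],
    [117, 118],
    [117, 119],
    [25],
    [117]]

/-- column combinations of class 3 -/
def comb3 : List (List ℕ) := [
    [0],
    [],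
    [],
    [39],
    [],
    [40],
    [],
    [],
    [1],
    [],
    [2],
    [],
    [3],
    [],
    [4],
    [],
    [5],
    [],
    [6],
    [60],
    [44],
    [45],
    [7],
    [8],
    [],
    [7, 44, 45],
    [7],
    [7],
    [],
    [],
    [9],
    [],
    [10],
    [],
    [11],
    [],
    [12],
    [],
    [13],
    [],
    [],
    [46],
    [14],
    [14],
    [],
    [],
    [47],
    [15],
    [48],
    [16],
    [15],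
    [],
    [16],
    [],
    [],
    [49],
    [17],
    [50],
    [18],
    [41],
    [17],
    [],
    [18],
    [],
    [51],
    [19],
    [42],
    [19],
    [],
    [43],
    [],
    [52],
    [20],
    [],
    [20],
    [],
    [53],
    [21],
    [54],
    [22],
    [],
    [21],
    [],
    [22],
    [],
    [],
    [55],
    [23],
    [56],
    [24],
    [23],
    [],
    [24],
    [],
    [],
    [57],
    [25],
    [25],
    [],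
    [],
    [26],
    [],
    [27],
    [],
    [28],
    [],
    [29],
    [],
    [30],
    [],
    [31],
    [61],
    [58],
    [59],
    [32],
    [33],
    [],
    [32, 58, 59],
    [32],
    [32],
    [],
    [],
    [34],
    [],
    [35],
    [],
    [36],
    [],
    [37],
    [],
    [38],
    [],
    []]

theorem rank3 : rankB chevE7 [63, 66, 73] piv3 fun3 comb3 = true ∧ piv3.length = 62 ∧
    fun3.all (fun l => l.all fun x => decide (x < chevE7.rank + chevE7.nroots)) = true := by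
  decide +kernel

/-- pivot columns of class 4 -/
def piv4 : List ℕ := [11, 13, 20, 26, 31, 33, 42, 47, 49, 51, 53, 65, 72, 77, 79, 82, 84, 96, 103, 105, 112, 118, 123, 125, 3, 5, 54, 66, 69, 10, 12, 19, 25, 30, 32, 41, 46, 48, 50, 52, 64, 71, 76, 78, 81, 83, 95, 102, 104, 111, 117, 122, 124]

/-- functionals of class 4 -/
def fun4 : List (List ℕ) := [
    [14, 15],
    [16, 17],
    [21, 22],
    [27, 28],
    [34, 35],
    [36, 37],
    [43, 44],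
    [55, 56],
    [57, 58],
    [60, 61],
    [62, 63],
    [67, 68],
    [74, 75],
    [86, 87],
    [88, 89],
    [90, 91],
    [92, 93],
    [97, 98],
    [106, 107],
    [108, 109],
    [113, 114],
    [119, 120],
    [126, 127],
    [128, 129],
    [4, 6, 70, 73],
    [6, 70],
    [4, 6, 70, 73, 85],
    [4],
    [6],
    [14],
    [16],
    [21],
    [27],
    [34],
    [36],
    [43],
    [55],
    [57],
    [60],
    [62],
    [67],
    [74],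
    [86],
    [88],
    [90],
    [92],
    [97],
    [106],
    [108],
    [113],
    [119],
    [126],
    [128]]

/-- column combinations of class 4 -/
def comb4 : List (List ℕ) := [
    [],
    [],
    [],
    [24],
    [],
    [25],
    [],
    [],
    [],
    [],
    [29],
    [0],
    [30],
    [1],
    [0],
    [],
    [1],
    [],
    [],
    [31],
    [2],
    [2],
    [],
    [],
    [],
    [32],
    [3],
    [3],
    [],
    [],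
    [33],
    [4],
    [34],
    [5],
    [4],
    [],
    [5],
    [],
    [],
    [],
    [],
    [35],
    [6],
    [6],
    [],
    [],
    [36],
    [7],
    [37],
    [8],
    [38],
    [9],
    [39],
    [10],
    [26],
    [7],
    [],
    [8],
    [],
    [],
    [9],
    [],
    [10],
    [],
    [40],
    [11],
    [27],
    [11],
    [],
    [28],
    [],
    [41],
    [12],
    [],
    [12],
    [],
    [42],
    [13],
    [43],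
    [14],
    [],
    [44],
    [15],
    [45],
    [16],
    [],
    [13],
    [],
    [14],
    [],
    [15],
    [],
    [16],
    [],
    [],
    [46],
    [17],
    [17],
    [],
    [],
    [],
    [],
    [47],
    [18],
    [48],
    [19],
    [18],
    [],
    [19],
    [],
    [],
    [49],
    [20],
    [20],
    [],
    [],
    [],
    [50],
    [21],
    [21],
    [],
    [],
    [51],
    [22],
    [52],
    [23],
    [22],
    [],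
    [23],
    [],
    [],
    [],
    []]

theorem rank4 : rankB chevE7 [63, 66, 78] piv4 fun4 comb4 = true ∧ piv4.length = 53 ∧
    fun4.all (fun l => l.all fun x => decide (x < chevE7.rank + chevE7.nroots)) = true := by
  decide +kernel

/-- pivot columns of class 5 -/
def piv5 : List ℕ := [0, 8, 11, 13, 18, 22, 23, 31, 33, 38, 42, 51, 53, 65, 72, 82, 84, 96, 100, 103, 105, 110, 114, 115, 123, 125, 130, 5, 54, 59, 66, 69, 3, 10, 12, 20, 21, 30, 32, 41, 47, 49, 50, 52, 64, 71, 77, 79, 81, 83, 95, 102, 104, 112, 113, 122, 124, 19, 46, 48, 76, 78, 111]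

/-- functionals of class 5 -/
def fun5 : List (List ℕ) := [
    [2, 4, 6, 70, 73, 80],
    [9],
    [14, 15],
    [16, 17],
    [24],
    [25, 26, 27, 28],
    [29],
    [34, 35],
    [36, 37],
    [39],
    [43, 44],
    [55, 56, 60, 61],
    [57, 58, 62, 63],
    [67, 68],
    [74, 75],
    [86, 87, 90, 91],
    [88, 89, 92, 93],
    [97, 98],
    [101],
    [106, 107],
    [108, 109],
    [116],
    [117, 118, 119, 120],
    [121],
    [126, 127],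
    [128, 129],
    [131],
    [6, 70],
    [4, 6, 70, 73, 85],
    [2],
    [4],
    [6],
    [4, 6, 70, 73],
    [14],
    [16],
    [25, 26],
    [25, 27],
    [34],
    [36],
    [43],
    [55, 56],
    [57, 58],
    [55, 60],
    [57, 62],
    [67],
    [74],
    [86, 87],
    [88, 89],
    [86, 90],
    [88, 92],
    [97],
    [106],
    [108],
    [117, 118],
    [117, 119],
    [126],
    [128],
    [25],
    [55],
    [57],
    [86],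
    [88],
    [117]]

/-- column combinations of class 5 -/
def comb5 : List (List ℕ) := [
    [0],
    [],
    [],
    [32],
    [],
    [27],
    [],
    [],
    [1],
    [],
    [33],
    [2],
    [34],
    [3],
    [2],
    [],
    [3],
    [],
    [4],
    [57],
    [35],
    [36],
    [5],
    [6],
    [],
    [5, 35, 36],
    [5],
    [5],
    [],
    [],
    [37],
    [7],
    [38],
    [8],
    [7],
    [],
    [8],
    [],
    [9],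
    [],
    [],
    [39],
    [10],
    [10],
    [],
    [],
    [58],
    [40],
    [59],
    [41],
    [42],
    [11],
    [43],
    [12],
    [28],
    [11, 40, 42],
    [11],
    [12, 41, 43],
    [12],
    [29],
    [11],
    [],
    [12],
    [],
    [44],
    [13],
    [30],
    [13],
    [],
    [31],
    [],
    [45],
    [14],
    [],
    [14],
    [],
    [60],
    [46],
    [61],
    [47],
    [],
    [48],
    [15],
    [49],
    [16],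
    [],
    [15, 46, 48],
    [15],
    [16, 47, 49],
    [16],
    [15],
    [],
    [16],
    [],
    [],
    [50],
    [17],
    [17],
    [],
    [],
    [18],
    [],
    [51],
    [19],
    [52],
    [20],
    [19],
    [],
    [20],
    [],
    [21],
    [62],
    [53],
    [54],
    [22],
    [23],
    [],
    [22, 53, 54],
    [22],
    [22],
    [],
    [],
    [55],
    [24],
    [56],
    [25],
    [24],
    [],
    [25],
    [],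
    [26],
    [],
    []]

theorem rank5 : rankB chevE7 [63, 66, 73, 78] piv5 fun5 comb5 = true ∧ piv5.length = 63 ∧
    fun5.all (fun l => l.all fun x => decide (x < chevE7.rank + chevE7.nroots)) = true := by
  decide +kernel

end Cfsg.Agent.InvolADE.E7Data
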