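import Cfsg.Agent.Lib.InvolADEFast
import Cfsg.Prelude.Def_ChevE8

/-!
The tables of E8 pass the simply laced check.
-/

set_option autoImplicit false
set_option maxRecDepth 50000

namespace Cfsg.Agent.InvolADE.E8Data

open Cfsg.Lie Cfsg.Agent.InvolADE

theorem laceLen_ok : laceLen chevE8 = true := by decide +kernel

theorem lace0 : laceChunk chevE8 0 40 = true := by decide +kernel

theorem lace40 : laceChunk chevE8 40 80 = true := by decide +kernel

theorem lace80 : laceChunk chevE8 80 120 = true := by decide +kernel

theorem lace120 : laceChunk chevE8 120 160 = true := by decide +kernel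

theorem lace160 : laceChunk chevE8 160 200 = true := by decide +kernel

theorem lace200 : laceChunk chevE8 200 240 = true := by decide +kernel

theorem lace : laceOK chevE8 = true := by
  refine laceOK_of_chunks laceLen_ok [(0, 40), (40, 80), (80, 120), (120, 160), (160, 200), (200, 240)] ?_ (by decide +kernel)
  intro c hc
  simp only [List.mem_cons, List.not_mem_nil, or_false] at hc
  rcases hc with rfl | rfl | rfl | rfl | rfl | rfl
  exacts [lace0, lace40, lace80, lace120, lace160, lace200]

end Cfsg.Agent.InvolADE.E8Data
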