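import Cfsg.Agent.Lib.InvolADEFast
import Cfsg.Prelude.Def_ChevE8

/-!
Conjugating words of E8.
-/

set_option autoImplicit false
set_option maxRecDepth 50000

namespace Cfsg.Agent.InvolADE.E8Data

open Cfsg.Lie Cfsg.Agent.InvolADE

theorem move5 : moveB chevE8 [228, 222, 218, 120] [53, 60, 80, 160, 187, 180] [218, 222, 228] [] [228, 222, 218] = true := by
  decide +kernel

theorem move6 : moveB chevE8 [226, 220, 213, 216, 126] [54, 63, 84, 158, 188, 179] [216, 220, 226, 213] [] [226, 220, 213, 216] = true := by
  decide +kernel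

theorem move7 : moveB chevE8 [226, 220, 213, 216, 126, 132] [55, 67, 88, 160, 194, 181] [213, 220, 226, 216, 126] [] [226, 220, 213, 216, 126] = true := by
  decide +kernel

theorem move8 : moveB chevE8 [226, 220, 213, 216, 126, 132, 139] [55, 67, 88, 160, 194, 181] [213, 220, 226, 216, 126, 139] [6, 2] [226, 220, 213, 216, 126, 132] = true := by
  decide +kernel

theorem move9 : moveB chevE8 [226, 220, 213, 216, 126, 132, 139, 168] [55, 67, 88, 160, 194, 181] [213, 220, 226, 216, 126, 139, 168] [6, 7, 2, 0] [226, 220, 213, 216, 126, 132, 139] = true := by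
  decide +kernel


end Cfsg.Agent.InvolADE.E8Data
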