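import Cfsg.Agent.Lib.InvolADERank
import Cfsg.Prelude.Def_ChevE8

/-!
Rank certificate of class 1 of E8.
-/

set_option autoImplicit false
set_option maxRecDepth 50000

namespace Cfsg.Agent.InvolADE.E8Data

open Cfsg.Lie Cfsg.Agent.InvolADE

/-- pivot columns of class 1 -/
def piv1 : List ℕ := [7, 9, 10, 11, 12, 13, 14, 15, 16, 17, 18, 19, 20, 22, 23, 24, 25, 26, 27, 29, 30, 31, 32, 34, 35, 36, 38, 39, 41, 44, 45, 46, 48, 49, 51, 54, 55, 57, 60, 64, 65, 67, 70, 74, 79, 86, 87, 89, 92, 96, 101, 107, 113, 118, 122, 125, 127, 8]

/-- functionals of class 1 -/
def fun1 : List (List ℕ) := [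
    [6, 247],
    [128],
    [130],
    [133],
    [137],
    [142],
    [148],
    [154],
    [159],
    [163],
    [166],
    [168],
    [169],
    [176],
    [181],
    [185],
    [188],
    [190],
    [191],
    [195],
    [198],
    [200],
    [201],
    [204],
    [206],
    [207],
    [209],
    [210],
    [211],
    [214],
    [216],
    [217],
    [219],
    [220],
    [221],
    [223],
    [224],
    [225],
    [226],
    [228],
    [229],
    [230],
    [231],
    [232],
    [233],
    [235],
    [236],
    [237],
    [238],
    [239],
    [240],
    [241],
    [242],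
    [243],
    [244],
    [245],
    [246],
    [6]]

/-- column combinations of class 1 -/
def comb1 : List (List ℕ) := [
    [],
    [],
    [],
    [],
    [],
    [],
    [],
    [0],
    [57],
    [1],
    [2],
    [3],
    [4],
    [5],
    [6],
    [7],
    [8],
    [9],
    [10],
    [11],
    [12],
    [],
    [13],
    [14],
    [15],
    [16],
    [17],
    [18],
    [],
    [19],
    [20],
    [21],
    [22],
    [],
    [23],
    [24],
    [25],
    [],
    [26],
    [27],
    [],
    [28],
    [],
    [],
    [29],
    [30],
    [31],
    [],
    [32],
    [33],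
    [],
    [34],
    [],
    [],
    [35],
    [36],
    [],
    [37],
    [],
    [],
    [38],
    [],
    [],
    [],
    [39],
    [40],
    [],
    [41],
    [],
    [],
    [42],
    [],
    [],
    [],
    [43],
    [],
    [],
    [],
    [],
    [44],
    [],
    [],
    [],
    [],
    [],
    [],
    [45],
    [46],
    [],
    [47],
    [],
    [],
    [48],
    [],
    [],
    [],
    [49],
    [],
    [],
    [],
    [],
    [50],
    [],
    [],
    [],
    [],
    [],
    [51],
    [],
    [],
    [],
    [],
    [],
    [52],
    [],
    [],
    [],
    [],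
    [53],
    [],
    [],
    [],
    [54],
    [],
    [],
    [55],
    [],
    [56],
    [],
    [],
    [],
    [],
    [],
    [],
    [],
    [],
    [],
    [],
    [],
    [],
    [],
    [],
    [],
    [],
    [],
    [],
    [],
    [],
    [],
    [],
    [],
    [],
    [],
    [],
    [],
    [],
    [],
    [],
    [],
    [],
    [],
    [],
    [],
    [],
    [],
    [],
    [],
    [],
    [],
    [],
    [],
    [],
    [],
    [],
    [],
    [],
    [],
    [],
    [],
    [],
    [],
    [],
    [],
    [],
    [],
    [],
    [],
    [],
    [],
    [],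
    [],
    [],
    [],
    [],
    [],
    [],
    [],
    [],
    [],
    [],
    [],
    [],
    [],
    [],
    [],
    [],
    [],
    [],
    [],
    [],
    [],
    [],
    [],
    [],
    [],
    [],
    [],
    [],
    [],
    [],
    [],
    [],
    [],
    [],
    [],
    [],
    [],
    [],
    [],
    [],
    [],
    [],
    [],
    [],
    [],
    [],
    [],
    [],
    [],
    [],
    [],
    [],
    [],
    [],
    [],
    [],
    [],
    []]

theorem rank1 : rankB chevE8 [239] piv1 fun1 comb1 = true ∧ piv1.length = 58 ∧
    fun1.all (fun l => l.all fun x => decide (x < chevE8.rank + chevE8.nroots)) = true := by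
  decide +kernel


end Cfsg.Agent.InvolADE.E8Data
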