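import Cfsg.Agent.Lib.InvolADERank
import Cfsg.Prelude.Def_ChevE8

/-!
Rank certificate of class 2 of E8.
-/

set_option autoImplicit false
set_option maxRecDepth 50000

namespace Cfsg.Agent.InvolADE.E8Data

open Cfsg.Lie Cfsg.Agent.InvolADE

/-- pivot columns of class 2 -/
def piv2 : List ℕ := [0, 22, 23, 24, 25, 26, 27, 28, 29, 30, 31, 32, 33, 34, 35, 36, 37, 38, 39, 40, 41, 42, 43, 44, 45, 46, 47, 48, 49, 50, 51, 52, 53, 54, 55, 56, 57, 58, 59, 60, 61, 62, 63, 64, 65, 66, 67, 68, 69, 70, 71, 72, 73, 74, 75, 76, 77, 78, 79, 80, 81, 82, 83, 84, 85, 101, 102, 103, 104, 105, 106, 143, 144, 145, 146, 147, 148, 1, 8, 9, 10, 11, 12, 13, 16, 17, 18, 19, 20, 21, 15, 14]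

/-- functionals of class 2 -/
def fun2 : List (List ℕ) := [
    [7, 240, 241],
    [170],
    [171],
    [172],
    [173],
    [174],
    [175],
    [176],
    [177],
    [178],
    [179],
    [180],
    [181],
    [182],
    [183],
    [184],
    [185],
    [186],
    [187],
    [188],
    [189],
    [190],
    [191],
    [192],
    [193],
    [194],
    [195],
    [196],
    [197],
    [198],
    [199],
    [200],
    [201],
    [202],
    [203],
    [204],
    [205],
    [206],
    [207],
    [208],
    [209],
    [210],
    [211],
    [212],
    [213],
    [214],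
    [215],
    [216],
    [217],
    [218],
    [219],
    [220],
    [221],
    [222],
    [223],
    [224],
    [225],
    [226],
    [227],
    [228],
    [229],
    [230],
    [231],
    [232],
    [233],
    [107, 234],
    [108, 235],
    [109, 236],
    [110, 237],
    [111, 238],
    [112, 239],
    [149, 242],
    [150, 243],
    [151, 244],
    [152, 245],
    [153, 246],
    [154, 247],
    [2, 7, 240],
    [107],
    [108],
    [109],
    [110],
    [111],
    [112],
    [149],
    [150],
    [151],
    [152],
    [153],
    [154],
    [2, 7],
    [2]]

/-- column combinations of class 2 -/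
def comb2 : List (List ℕ) := [
    [0],
    [77],
    [77],
    [],
    [],
    [],
    [],
    [],
    [78],
    [79],
    [80],
    [81],
    [82],
    [83],
    [91],
    [90],
    [84],
    [85],
    [86],
    [87],
    [88],
    [89],
    [1],
    [2],
    [3],
    [4],
    [5],
    [6],
    [7],
    [8],
    [9],
    [10],
    [11],
    [12],
    [13],
    [14],
    [15],
    [16],
    [17],
    [18],
    [19],
    [20],
    [21],
    [22],
    [23],
    [24],
    [25],
    [26],
    [27],
    [28],
    [29],
    [30],
    [31],
    [32],
    [33],
    [34],
    [35],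
    [36],
    [37],
    [38],
    [39],
    [40],
    [41],
    [42],
    [43],
    [44],
    [45],
    [46],
    [47],
    [48],
    [49],
    [50],
    [51],
    [52],
    [53],
    [54],
    [55],
    [56],
    [57],
    [58],
    [59],
    [60],
    [61],
    [62],
    [63],
    [64],
    [],
    [],
    [],
    [],
    [],
    [],
    [],
    [],
    [],
    [],
    [],
    [],
    [],
    [],
    [],
    [65],
    [66],
    [67],
    [68],
    [69],
    [70],
    [65],
    [66],
    [67],
    [68],
    [69],
    [70],
    [],
    [],
    [],
    [],
    [],
    [],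
    [],
    [],
    [],
    [],
    [],
    [],
    [],
    [],
    [],
    [],
    [],
    [],
    [],
    [],
    [],
    [],
    [],
    [],
    [],
    [],
    [],
    [],
    [],
    [],
    [71],
    [72],
    [73],
    [74],
    [75],
    [76],
    [71],
    [72],
    [73],
    [74],
    [75],
    [76],
    [],
    [],
    [],
    [],
    [],
    [],
    [],
    [],
    [],
    [],
    [],
    [],
    [],
    [],
    [],
    [],
    [],
    [],
    [],
    [],
    [],
    [],
    [],
    [],
    [],
    [],
    [],
    [],
    [],
    [],
    [],
    [],
    [],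
    [],
    [],
    [],
    [],
    [],
    [],
    [],
    [],
    [],
    [],
    [],
    [],
    [],
    [],
    [],
    [],
    [],
    [],
    [],
    [],
    [],
    [],
    [],
    [],
    [],
    [],
    [],
    [],
    [],
    [],
    [],
    [],
    [],
    [],
    [],
    [],
    [],
    [],
    [],
    [],
    [],
    [],
    [],
    [],
    [],
    [],
    [],
    [],
    [],
    [],
    [],
    [],
    [],
    [],
    [],
    [],
    [],
    [],
    [],
    []]

theorem rank2 : rankB chevE8 [232, 233] piv2 fun2 comb2 = true ∧ piv2.length = 92 ∧
    fun2.all (fun l => l.all fun x => decide (x < chevE8.rank + chevE8.nroots)) = true := by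
  decide +kernel


end Cfsg.Agent.InvolADE.E8Data
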