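import Cfsg.Agent.Lib.InvolADERank
import Cfsg.Prelude.Def_ChevE8

/-!
Rank certificate of class 3 of E8.
-/

set_option autoImplicit false
set_option maxRecDepth 50000

namespace Cfsg.Agent.InvolADE.E8Data

open Cfsg.Lie Cfsg.Agent.InvolADE

/-- pivot columns of class 3 -/
def piv3 : List ℕ := [6, 20, 21, 27, 28, 32, 33, 36, 37, 39, 40, 41, 42, 46, 47, 49, 50, 51, 52, 55, 56, 57, 58, 62, 63, 65, 66, 70, 71, 73, 74, 75, 77, 78, 79, 80, 82, 83, 84, 85, 89, 90, 92, 93, 96, 97, 100, 101, 102, 107, 108, 111, 112, 113, 114, 118, 119, 122, 123, 125, 126, 131, 134, 135, 139, 140, 146, 151, 152, 157, 161, 164, 167, 168, 186, 0, 2, 10, 11, 12, 13, 14, 15, 16, 17, 18, 22, 23, 24, 26, 30, 31, 34, 35, 38, 44, 45, 48, 54, 60, 61, 64, 67, 68, 86, 19, 29, 25, 8, 9]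

/-- functionals of class 3 -/
def fun3 : List (List ℕ) := [
    [7, 226, 230, 236],
    [129],
    [130],
    [132],
    [133],
    [136],
    [137],
    [141],
    [142],
    [147],
    [148],
    [175],
    [176],
    [153],
    [154],
    [158],
    [159],
    [180],
    [181],
    [162],
    [163],
    [184],
    [185],
    [69, 169],
    [91, 191],
    [165],
    [166],
    [197],
    [198],
    [94, 201],
    [203],
    [204],
    [98, 207],
    [103, 210],
    [213],
    [214],
    [109, 217],
    [115, 220],
    [120, 224],
    [124, 229],
    [189],
    [190],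
    [199],
    [200],
    [205],
    [206],
    [104, 211],
    [208],
    [209],
    [215],
    [216],
    [116, 221],
    [121, 225],
    [218],
    [219],
    [222],
    [223],
    [227],
    [228],
    [234],
    [235],
    [170, 237],
    [143, 231],
    [171, 238],
    [144, 232],
    [172, 239],
    [173, 240],
    [155, 233],
    [177, 241],
    [178, 242],
    [182, 243],
    [192, 244],
    [167, 246],
    [168, 247],
    [193, 245],
    [5, 226, 230],
    [4, 7, 226],
    [69],
    [91],
    [94],
    [98],
    [103],
    [109],
    [115],
    [120],
    [124],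
    [104],
    [116],
    [121],
    [170],
    [143],
    [171],
    [144],
    [172],
    [173],
    [155],
    [177],
    [178],
    [182],
    [167, 194],
    [168, 195],
    [192],
    [167, 187],
    [168, 188],
    [193],
    [5, 7],
    [4, 7],
    [4, 5, 7],
    [167, 187, 194],
    [168, 188, 195]]

/-- column combinations of class 3 -/
def comb3 : List (List ℕ) := [
    [75],
    [],
    [76],
    [],
    [76],
    [75],
    [0],
    [],
    [108],
    [109],
    [77],
    [78],
    [79],
    [80],
    [81],
    [82],
    [83],
    [84],
    [85],
    [105],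
    [1],
    [2],
    [86],
    [87],
    [88],
    [107],
    [89],
    [3],
    [4],
    [106],
    [90],
    [91],
    [5],
    [6],
    [92],
    [93],
    [7],
    [8],
    [94],
    [9],
    [10],
    [11],
    [12],
    [],
    [95],
    [96],
    [13],
    [14],
    [97],
    [15],
    [16],
    [17],
    [18],
    [],
    [98],
    [19],
    [20],
    [21],
    [22],
    [],
    [99],
    [100],
    [23],
    [24],
    [101],
    [25],
    [26],
    [102],
    [103],
    [23],
    [27],
    [28],
    [],
    [29],
    [30],
    [31],
    [],
    [32],
    [33],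
    [34],
    [35],
    [],
    [36],
    [37],
    [38],
    [39],
    [104],
    [72, 99, 102],
    [73, 100, 103],
    [40],
    [41],
    [24],
    [42],
    [43],
    [29],
    [],
    [44],
    [45],
    [32],
    [],
    [46],
    [47],
    [48],
    [33],
    [46],
    [],
    [],
    [49],
    [50],
    [36],
    [],
    [51],
    [52],
    [53],
    [54],
    [37],
    [51],
    [],
    [55],
    [56],
    [38],
    [52],
    [57],
    [58],
    [39],
    [59],
    [60],
    [],
    [],
    [],
    [],
    [61],
    [],
    [],
    [62],
    [63],
    [],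
    [],
    [],
    [64],
    [65],
    [],
    [],
    [62],
    [64],
    [],
    [66],
    [],
    [],
    [],
    [],
    [67],
    [68],
    [],
    [],
    [67],
    [],
    [69],
    [],
    [],
    [],
    [70],
    [],
    [],
    [71],
    [],
    [],
    [72],
    [73],
    [],
    [61],
    [63],
    [65],
    [66],
    [],
    [],
    [],
    [68],
    [69],
    [],
    [],
    [],
    [70],
    [],
    [],
    [],
    [74],
    [72],
    [73],
    [],
    [],
    [],
    [71],
    [74],
    [72],
    [73],
    [],
    [],
    [],
    [],
    [],
    [],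
    [],
    [],
    [],
    [],
    [],
    [],
    [],
    [],
    [],
    [],
    [],
    [],
    [],
    [],
    [],
    [],
    [],
    [],
    [],
    [],
    [],
    [],
    [],
    [],
    [],
    [],
    [],
    [],
    [],
    [],
    [],
    [],
    [],
    [],
    [],
    [],
    [],
    [],
    [],
    [],
    [],
    [],
    [],
    [],
    [],
    []]

theorem rank3 : rankB chevE8 [228, 222, 218] piv3 fun3 comb3 = true ∧ piv3.length = 110 ∧
    fun3.all (fun l => l.all fun x => decide (x < chevE8.rank + chevE8.nroots)) = true := by
  decide +kernel


end Cfsg.Agent.InvolADE.E8Data
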