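import Cfsg.Agent.Lib.InvolADERank
import Cfsg.Prelude.Def_ChevE8

/-!
Rank certificate of class 4 of E8.
-/

set_option autoImplicit false
set_option maxRecDepth 50000

namespace Cfsg.Agent.InvolADE.E8Data

open Cfsg.Lie Cfsg.Agent.InvolADE

/-- pivot columns of class 4 -/
def piv4 : List ℕ := [1, 44, 45, 46, 47, 48, 49, 50, 54, 57, 58, 60, 61, 65, 67, 69, 70, 72, 74, 77, 78, 80, 81, 82, 83, 84, 85, 88, 90, 91, 93, 94, 97, 99, 100, 103, 104, 105, 106, 109, 110, 111, 112, 116, 117, 128, 129, 130, 131, 132, 133, 135, 136, 137, 141, 142, 148, 153, 154, 159, 163, 166, 168, 169, 191, 0, 2, 3, 15, 16, 17, 18, 19, 20, 23, 24, 25, 26, 28, 29, 30, 32, 33, 35, 36, 37, 38, 39, 40, 41, 42, 43, 51, 52, 53, 55, 56, 59, 62, 63, 66, 68, 71, 73, 75, 76, 95, 98, 21, 31, 27, 34, 8, 9, 10, 11, 12, 13, 14, 22]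

/-- functionals of class 4 -/
def fun4 : List (List ℕ) := [
    [4, 221, 224, 228, 234],
    [149],
    [150],
    [155],
    [177],
    [151],
    [156],
    [178],
    [152],
    [161],
    [183],
    [164],
    [186],
    [158],
    [162],
    [194],
    [165],
    [197],
    [167],
    [205],
    [208],
    [107, 212],
    [113, 213],
    [118, 215],
    [122, 218],
    [125, 222],
    [127, 227],
    [181],
    [185],
    [195],
    [188],
    [198],
    [190],
    [206],
    [209],
    [201],
    [207],
    [210],
    [211],
    [114, 214],
    [119, 216],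
    [123, 219],
    [126, 223],
    [120, 217],
    [124, 220],
    [170, 235],
    [143, 229],
    [171, 236],
    [138, 225],
    [144, 230],
    [172, 237],
    [139, 226],
    [145, 231],
    [173, 238],
    [146, 232],
    [174, 239],
    [175, 240],
    [153, 233],
    [154, 241],
    [159, 242],
    [163, 243],
    [166, 244],
    [168, 245],
    [169, 246],
    [191, 247],
    [4, 7, 234],
    [6, 228, 234],
    [4, 5, 224, 228, 234],
    [107],
    [113],
    [118],
    [122],
    [125],
    [127],
    [114],
    [119],
    [123],
    [126],
    [170],
    [120],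
    [124],
    [143],
    [171],
    [138],
    [144],
    [172],
    [139],
    [145],
    [173],
    [146],
    [174],
    [175],
    [153, 160],
    [154, 182],
    [159, 192],
    [153, 157],
    [154, 179],
    [163, 193],
    [166, 196],
    [168, 202],
    [159, 180],
    [163, 184],
    [166, 187],
    [169, 203],
    [168, 189],
    [169, 199],
    [191, 204],
    [191, 200],
    [4, 7],
    [4, 5, 6],
    [4, 6, 7],
    [5],
    [153, 157, 160],
    [154, 179, 182],
    [159, 180, 192],
    [163, 184, 193],
    [166, 187, 196],
    [168, 189, 202],
    [169, 199, 203],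
    [191, 200, 204]]

/-- column combinations of class 4 -/
def comb4 : List (List ℕ) := [
    [65],
    [0],
    [66],
    [67],
    [],
    [67],
    [66],
    [65],
    [112],
    [113],
    [114],
    [115],
    [116],
    [117],
    [118],
    [68],
    [69],
    [70],
    [71],
    [72],
    [73],
    [108],
    [119],
    [74],
    [75],
    [76],
    [77],
    [110],
    [78],
    [79],
    [80],
    [109],
    [81],
    [82],
    [111],
    [83],
    [84],
    [85],
    [86],
    [87],
    [88],
    [89],
    [90],
    [91],
    [1],
    [2],
    [3],
    [4],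
    [5],
    [6],
    [7],
    [92],
    [93],
    [94],
    [8],
    [95],
    [96],
    [9],
    [10],
    [97],
    [11],
    [12],
    [98],
    [99],
    [57, 92, 95],
    [13],
    [100],
    [14],
    [101],
    [15],
    [16],
    [102],
    [17],
    [103],
    [18],
    [104],
    [105],
    [19],
    [20],
    [],
    [21],
    [22],
    [23],
    [24],
    [25],
    [26],
    [58, 93, 96],
    [59, 94, 100],
    [27],
    [60, 97, 101],
    [28],
    [29],
    [61, 98, 102],
    [30],
    [31],
    [106],
    [62, 99, 104],
    [32],
    [107],
    [33],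
    [34],
    [63, 103, 105],
    [64, 106, 107],
    [35],
    [36],
    [37],
    [38],
    [21],
    [],
    [39],
    [40],
    [41],
    [42],
    [22],
    [39],
    [],
    [43],
    [44],
    [23],
    [40],
    [43],
    [],
    [24],
    [41],
    [44],
    [25],
    [42],
    [26],
    [45],
    [46],
    [47],
    [48],
    [49],
    [50],
    [],
    [51],
    [52],
    [53],
    [48],
    [51],
    [],
    [54],
    [55],
    [46],
    [49],
    [52],
    [54],
    [],
    [56],
    [],
    [],
    [],
    [],
    [57],
    [58],
    [],
    [],
    [57],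
    [],
    [59],
    [57],
    [],
    [],
    [60],
    [],
    [],
    [61],
    [],
    [62],
    [63],
    [45],
    [47],
    [50],
    [53],
    [55],
    [56],
    [],
    [],
    [],
    [58],
    [59],
    [],
    [58],
    [],
    [60],
    [],
    [],
    [61],
    [],
    [62],
    [],
    [64],
    [59],
    [60],
    [],
    [],
    [61],
    [],
    [],
    [63],
    [64],
    [],
    [62],
    [63],
    [64],
    [],
    [],
    [],
    [],
    [],
    [],
    [],
    [],
    [],
    [],
    [],
    [],
    [],
    [],
    [],
    [],
    [],
    [],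
    [],
    [],
    [],
    [],
    [],
    [],
    [],
    [],
    [],
    [],
    [],
    [],
    [],
    [],
    [],
    [],
    [],
    [],
    [],
    [],
    [],
    [],
    [],
    [],
    []]

theorem rank4 : rankB chevE8 [226, 220, 213, 216] piv4 fun4 comb4 = true ∧ piv4.length = 120 ∧
    fun4.all (fun l => l.all fun x => decide (x < chevE8.rank + chevE8.nroots)) = true := by
  decide +kernel


end Cfsg.Agent.InvolADE.E8Data
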