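import Cfsg.Agent.Lib.InvolADEMoves

/-!
Cheaper forms of the certificate checks for large tables: the simple reflections packed into numbers, and the
checks split into rows.
-/

set_option autoImplicit false
set_option linter.unusedSectionVars false

namespace Cfsg.Agent.InvolADE

open Cfsg.Lie Cfsg.Agent.ChevalleyEngine Cfsg.Agent.ChevalleyCert Cfsg.Agent.ChevalleyRoots

variable {D : ChevalleyDatum}

/-- a packed permutation applied to a root -/
def pk (P : List ℕ) (i s : ℕ) : ℕ := (P.getD i 0 >>> (8 * s)) % 256

/-- the packed reflections are the reflections -/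
def permB (D : ChevalleyDatum) (P : List ℕ) : Bool :=
  (List.range D.rank).all fun i => (List.range D.nroots).all fun s => pk P i s == D.reflectRoot i s

/-- apply packed reflections -/
def reflP (P : List ℕ) (w T : List ℕ) : List ℕ := w.foldl (fun T i => T.map (pk P i)) T

/-- one row of the closure check -/
def rowP (D : ChevalleyDatum) (P : List ℕ) (reps : List (List ℕ)) (R : List ℕ) (row : List (List ℕ × ℕ)) : Bool :=
  (orthTo D R).length == row.length && ((orthTo D R).zip row).all fun q =>
    decide (q.2.2 < reps.length) && (q.2.1.all fun i => decide (i < D.rank)) &&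
      (reflP P q.2.1 (q.1 :: R)).isPerm (reps.getD q.2.2 [])

/-- one interval of rows of the table check -/
def laceChunk (D : ChevalleyDatum) (a b : ℕ) : Bool := (List.range' a (b - a)).all (laceRow D)

/-- the lengths of the rows of the Cartan table -/
def laceLen (D : ChevalleyDatum) : Bool :=
  (List.range D.rank).all fun j => (D.cartanSR.getD j #[]).toList.length == D.nroots

theorem laceOK_of_chunks (h0 : laceLen D = true) (cuts : List (ℕ × ℕ))
    (hc : ∀ c ∈ cuts, laceChunk D c.1 c.2 = true)
    (hcov : ∀ k < D.nroots, ∃ c ∈ cuts, c.1 ≤ k ∧ k < c.2) : laceOK D = true := by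
  simp only [laceOK, Bool.and_eq_true]
  refine ⟨h0, List.all_eq_true.2 fun k hk => ?_⟩
  obtain ⟨c, hcm, h1, h2⟩ := hcov k (List.mem_range.1 hk)
  exact List.all_eq_true.1 (hc c hcm) k (List.mem_range'_1.2 ⟨h1, by omega⟩)

variable (C : Cert D) (hL : laceOK D = true)
include C

theorem reflP_eq {P : List ℕ} (hP : permB D P = true) : ∀ (w T : List ℕ), (∀ i ∈ w, i < D.rank) →
    (∀ r ∈ T, r < D.nroots) → reflP P w T = refl D w T := by
  intro w
  induction w with
  | nil => intros; rfl
  | cons i w ih =>
    intro T hw hT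
    have hi := hw i List.mem_cons_self
    have e : T.map (pk P i) = T.map (D.reflectRoot i) := by
      simp only [permB, List.all_eq_true, beq_iff_eq] at hP
      exact List.map_congr_left fun r hr => hP i (List.mem_range.2 hi) r (List.mem_range.2 (hT r hr))
    show reflP P w (T.map (pk P i)) = refl D w (T.map (D.reflectRoot i))
    rw [e]
    refine ih _ (fun j hj => hw j (List.mem_cons_of_mem _ hj)) fun r hr => ?_
    obtain ⟨r0, h0, rfl⟩ := List.mem_map.1 hr
    exact C.w_lt i r0 hi (hT r0 h0)

include hL in
theorem repsB_of_rows {P : List ℕ} (hP : permB D P = true) {reps : List (List ℕ)}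
    {tab : List (List (List ℕ × ℕ))}
    (h1 : (reps.length == tab.length && reps.getD 0 [1] == [] &&
      (reps.all fun R => orthB D R && R.all fun r => decide (r < D.nroots))) = true)
    (hrows : ∀ p ∈ List.zip reps tab, rowP D P reps p.1 p.2 = true) : repsB D reps tab = true := by
  simp only [repsB, Bool.and_eq_true]
  simp only [Bool.and_eq_true] at h1
  refine ⟨h1, List.all_eq_true.2 fun p hp => ?_⟩
  have hR := hrows p hp
  simp only [rowP, Bool.and_eq_true, List.all_eq_true, decide_eq_true_eq, beq_iff_eq] at hR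
  obtain ⟨hl, hq⟩ := hR
  simp only [Bool.and_eq_true, List.all_eq_true, decide_eq_true_eq, beq_iff_eq]
  refine ⟨hl, fun q hq' => ?_⟩
  obtain ⟨⟨a, b⟩, c⟩ := hq q hq'
  refine ⟨⟨a, b⟩, ?_⟩
  have h2 := (List.all_eq_true.1 h1.2) p.1 (List.of_mem_zip hp).1
  simp only [Bool.and_eq_true, List.all_eq_true, decide_eq_true_eq] at h2
  rwa [reflP_eq C hP q.2.1 (q.1 :: p.1) b] at c
  intro r hr
  rcases List.mem_cons.1 hr with rfl | hr
  · exact ((mem_orthTo hL).1 (List.of_mem_zip (show (q.1, q.2) ∈ _ from hq')).1).1
  · exact h2.2 r hr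

end Cfsg.Agent.InvolADE
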