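import Cfsg.Agent.Lib.ChevRootLists
import Cfsg.Agent.Lib.ChevalleySylow

/-!
Root arithmetic of simply laced Chevalley data, read off a linear-time check of the tables, and the resulting
rules for root elements in characteristic two.
-/

set_option autoImplicit false
set_option linter.unusedSectionVars false

namespace Cfsg.Agent.InvolADE

open Cfsg.Lie Cfsg.Agent.ChevalleyEngine Cfsg.Agent.ChevalleyCert Cfsg.Agent.ChevalleyRoots
open Cfsg.Agent.ChevalleyCore Cfsg.Agent.ChevalleyUnipotent Cfsg.Agent.ChevBruhat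

variable (D : ChevalleyDatum)

/-- `acc + v • row`, evaluating the scalar once -/
def axpy : ℤ → List ℤ → List ℤ → List ℤ
  | .ofNat m, acc, row => List.zipWith (fun a c => a + Int.ofNat m * c) acc row
  | .negSucc m, acc, row => List.zipWith (fun a c => a + Int.negSucc m * c) acc row

theorem axpy_eq : ∀ (v : ℤ) (acc row : List ℤ), axpy v acc row = List.zipWith (fun a c => a + v * c) acc row
  | .ofNat _, _, _ => rfl
  | .negSucc _, _, _ => rfl

/-- the pairings of `h_k` with all roots -/
def pRow (k : ℕ) : List ℤ :=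
  (List.range D.rank).foldl (fun acc j => axpy (cc D k j) acc (D.cartanSR.getD j #[]).toList)
    (List.replicate D.nroots 0)

/-- one row of the check: the roots one can add to `k` are those of pairing `-1` -/
def laceRow (k : ℕ) : Bool :=
  (((List.range D.nroots).zip (pRow D k)).filterMap fun p => if p.2 = -1 then some p.1 else none) ==
      (D.chain.getD k #[]).toList.map Prod.fst &&
    ((D.chain.getD k #[]).toList.all fun e => e.2.toList.length == 1 && e.2.toList.all fun q => q.2 % 2 != 0) &&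
    (((List.range D.nroots).zip (pRow D k)).all fun p =>
      decide (-1 ≤ p.2 ∧ p.2 ≤ 1) || p.1 == k || p.1 == D.neg k) &&
    pRow D (D.neg k) == (pRow D k).map (fun a => -a)

/-- simply laced, with odd structure constants -/
def laceOK : Bool :=
  ((List.range D.rank).all fun j => (D.cartanSR.getD j #[]).toList.length == D.nroots) &&
    (List.range D.nroots).all (laceRow D)

variable {D}

theorem fold_zip {A : ℕ → List ℤ} {c : ℕ → ℤ} {n : ℕ} : ∀ (L : List ℕ) (acc : List ℤ), acc.length = n →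
    (∀ j ∈ L, (A j).length = n) →
    (L.foldl (fun acc j => List.zipWith (fun a x => a + c j * x) acc (A j)) acc).length = n ∧
      ∀ s < n, (L.foldl (fun acc j => List.zipWith (fun a x => a + c j * x) acc (A j)) acc).getD s 0 =
        acc.getD s 0 + (L.map fun j => c j * (A j).getD s 0).sum := by
  intro L
  induction L with
  | nil => intro acc h _; simp [h]
  | cons j L ih =>
    intro acc h hA
    have hl : (List.zipWith (fun a x => a + c j * x) acc (A j)).length = n := by
      rw [List.length_zipWith, h, hA j List.mem_cons_self, min_self]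
    obtain ⟨h1, h2⟩ := ih _ hl fun i hi => hA i (List.mem_cons_of_mem _ hi)
    refine ⟨h1, fun s hs => ?_⟩
    rw [List.foldl_cons, h2 s hs, List.map_cons, List.sum_cons, ← add_assoc]
    congr 1
    have h3 := hA j List.mem_cons_self
    rw [List.getD_eq_getElem _ _ (hl ▸ hs), List.getD_eq_getElem _ _ (h ▸ hs), List.getD_eq_getElem _ _ (h3 ▸ hs),
      List.getElem_zipWith]

theorem array_getD_toList (a : Array ℤ) (s : ℕ) : a.toList.getD s 0 = a.getD s 0 := by
  simp [List.getD_eq_getElem?_getD, Array.getD_eq_getD_getElem?]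

theorem pRow_spec (h : laceOK D = true) (k : ℕ) :
    (pRow D k).length = D.nroots ∧ ∀ s < D.nroots, (pRow D k).getD s 0 = D.pairing k s := by
  simp only [laceOK, Bool.and_eq_true, List.all_eq_true, beq_iff_eq] at h
  obtain ⟨h1, h2⟩ := fold_zip (A := fun j => (D.cartanSR.getD j #[]).toList) (c := fun j => cc D k j)
    (List.range D.rank) (List.replicate D.nroots (0 : ℤ)) List.length_replicate fun j hj => h.1 j hj
  refine ⟨by simp only [pRow, axpy_eq]; exact h1, fun s hs => ?_⟩
  simp only [pRow, axpy_eq]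
  rw [h2 s hs, List.getD_replicate _ hs, zero_add]
  simp [ChevalleyDatum.pairing, ChevalleyDatum.cartan, cc, array_getD_toList]

theorem row_spec (h : laceOK D = true) {k : ℕ} (hk : k < D.nroots) : laceRow D k = true := by
  simp only [laceOK, Bool.and_eq_true, List.all_eq_true] at h
  exact h.2 k (List.mem_range.2 hk)

theorem mem_zip_pRow (h : laceOK D = true) (k : ℕ) {p : ℕ × ℤ} :
    p ∈ (List.range D.nroots).zip (pRow D k) ↔ p.1 < D.nroots ∧ p.2 = D.pairing k p.1 := by
  obtain ⟨hl, hv⟩ := pRow_spec h k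
  rw [List.mem_iff_getElem]
  constructor
  · rintro ⟨i, hi, rfl⟩
    rw [List.length_zip, List.length_range, hl, min_self] at hi
    simp [hi, ← hv i hi, List.getD_eq_getElem?_getD, hl]
  · rintro ⟨h1, h2⟩
    refine ⟨p.1, by simp [hl, h1], Prod.ext ?_ ?_⟩
    · simp
    · rw [h2, ← hv _ h1]; simp [List.getD_eq_getElem?_getD, hl, h1]

/-- the root `r + s`, if there is one -/
def ad (D : ChevalleyDatum) (r s : ℕ) : Option ℕ := (hdN D r s).map Prod.fst

theorem entry_spec (h : laceOK D = true) {r : ℕ} (hr : r < D.nroots) (s : ℕ) :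
    (D.chainEntry r s = [] ∧ ¬ (s < D.nroots ∧ D.pairing r s = -1)) ∨
    ∃ u M, D.chainEntry r s = [(u, M)] ∧ M % 2 ≠ 0 ∧ s < D.nroots ∧ D.pairing r s = -1 := by
  have hrow := row_spec h hr
  simp only [laceRow, Bool.and_eq_true, beq_iff_eq, List.all_eq_true, bne_iff_ne] at hrow
  obtain ⟨⟨⟨hfst, hlen⟩, -⟩, -⟩ := hrow
  have hmem : s ∈ (D.chain.getD r #[]).toList.map Prod.fst ↔ (s < D.nroots ∧ D.pairing r s = -1) := by
    rw [← hfst, List.mem_filterMap]
    constructor
    · rintro ⟨p, hp, hps⟩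
      obtain ⟨h1, h2⟩ := (mem_zip_pRow h r).1 hp
      split at hps
      · rename_i h3
        obtain rfl : p.1 = s := Option.some.inj hps
        exact ⟨h1, h2 ▸ h3⟩
      · simp at hps
    · rintro ⟨h1, h2⟩
      exact ⟨(s, D.pairing r s), (mem_zip_pRow h r).2 ⟨h1, rfl⟩, by simp [h2]⟩
  rw [ChevalleyDatum.chainEntry]
  rcases hf : (D.chain.getD r #[]).toList.find? (fun e => decide (e.1 = s)) with _ | e
  · left
    refine ⟨by rw [hf], fun hs => ?_⟩
    obtain ⟨e, he, hes⟩ := List.mem_map.1 (hmem.2 hs)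
    have := List.find?_eq_none.1 hf e he
    simp [hes] at this
  · right
    have he := List.mem_of_find?_eq_some hf
    have hes : e.1 = s := by simpa using List.find?_some hf
    obtain ⟨h1, h2⟩ := hlen e he
    obtain ⟨⟨u, M⟩, hq⟩ := List.length_eq_one_iff.1 h1
    exact ⟨u, M, by rw [hf]; exact hq, by simpa [hq] using h2 (u, M) (by simp [hq]), hmem.1 (hes ▸ List.mem_map_of_mem he)⟩

variable (C : Cert D) (hL : laceOK D = true)
include C hL

theorem ad_some {r s : ℕ} (hr : r < D.nroots) :
    (ad D r s).isSome ↔ s < D.nroots ∧ D.pairing r s = -1 := by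
  rcases entry_spec hL hr s with ⟨h1, h2⟩ | ⟨u, M, h1, -, h3⟩
  · simp [ad, hdN, h1, h2]
  · simp [ad, hdN, h1, h3.1, h3.2]

theorem ad_coef {r s u : ℕ} (hr : r < D.nroots) (h : ad D r s = some u) :
    s < D.nroots ∧ u < D.nroots ∧ D.pairing r s = -1 ∧ ∀ j, j < D.rank → C.coef u j = C.coef r j + C.coef s j := by
  obtain ⟨h1, h2⟩ := (ad_some C hL hr).1 (by rw [h]; rfl)
  obtain ⟨q, hq, rfl⟩ := Option.map_eq_some_iff.1 h
  refine ⟨h1, ?_, h2, C.coef_add r s q hr h1 hq⟩
  have hq' : (D.chainEntry r s)[0]? = some q := by rw [← hdN_eq C r s]; exact hq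
  exact (entry_getElem C hr hq').2.2.2.2.1

theorem pairing_bound {r s : ℕ} (hr : r < D.nroots) (hs : s < D.nroots) (h1 : s ≠ r) (h2 : s ≠ D.neg r) :
    -1 ≤ D.pairing r s ∧ D.pairing r s ≤ 1 := by
  have hrow := row_spec hL hr
  simp only [laceRow, Bool.and_eq_true, beq_iff_eq, List.all_eq_true, bne_iff_ne] at hrow
  have := hrow.1.2 (s, D.pairing r s) ((mem_zip_pRow hL r).2 ⟨hs, rfl⟩)
  simpa [h1, h2] using this

theorem pairing_negL {r s : ℕ} (hr : r < D.nroots) (hs : s < D.nroots) :
    D.pairing (D.neg r) s = - D.pairing r s := by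
  have hrow := row_spec hL hr
  simp only [laceRow, Bool.and_eq_true, beq_iff_eq, List.all_eq_true, bne_iff_ne] at hrow
  rw [← (pRow_spec hL (D.neg r)).2 s hs, hrow.2, ← (pRow_spec hL r).2 s hs]
  simp [List.getD_eq_getElem?_getD, (pRow_spec hL r).1, hs]

theorem pairing_negR {r s : ℕ} (hs : s < D.nroots) : D.pairing r (D.neg s) = - D.pairing r s :=
  ChevBruhatInstance.pairing_neg C hs

theorem pairing_m1_symm {r s : ℕ} (hr : r < D.nroots) (hs : s < D.nroots) (h : D.pairing r s = -1) :
    D.pairing s r = -1 := by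
  obtain ⟨u, hu⟩ := Option.isSome_iff_exists.1 ((ad_some C hL hr).2 ⟨hs, h⟩)
  obtain ⟨q, hq, -⟩ := Option.map_eq_some_iff.1 hu
  refine ((ad_some C hL hs).1 ?_).2
  rw [ad, C.antisym r s hr hs, hq]; rfl

theorem pairing_symm {r s : ℕ} (hr : r < D.nroots) (hs : s < D.nroots) : D.pairing r s = D.pairing s r := by
  by_cases h1 : s = r
  · rw [h1]
  by_cases h2 : s = D.neg r
  · subst h2
    rw [pairing_negR C hL hr, pairing_negL C hL hr hr]
  have h1' : r ≠ s := Ne.symm h1
  have h2' : r ≠ D.neg s := fun e => h2 (by rw [e, neg_neg' C hs])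
  have b1 := pairing_bound C hL hr hs h1 h2
  have b2 := pairing_bound C hL hs hr h1' h2'
  have key : ∀ a b, a < D.nroots → b < D.nroots → D.pairing a b = 1 → D.pairing b a = 1 := by
    intro a b ha hb h
    have e1 : D.pairing a (D.neg b) = -1 := by rw [pairing_negR C hL hb, h]
    have e2 := pairing_m1_symm C hL ha (C.neg_lt b) e1
    rw [pairing_negL C hL hb ha] at e2
    omega
  rcases show D.pairing r s = -1 ∨ D.pairing r s = 0 ∨ D.pairing r s = 1 by omega with e | e | e
  · rw [e, pairing_m1_symm C hL hr hs e]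
  · rcases show D.pairing s r = -1 ∨ D.pairing s r = 0 ∨ D.pairing s r = 1 by omega with e' | e' | e'
    · rw [pairing_m1_symm C hL hs hr e'] at e; omega
    · rw [e, e']
    · rw [key _ _ hs hr e'] at e; omega
  · rw [e, key _ _ hr hs e]

theorem pairing_add {k r s u : ℕ} (hr : r < D.nroots) (h : ad D r s = some u) :
    D.pairing k u = D.pairing k r + D.pairing k s := by
  obtain ⟨hs, hu, -, hc⟩ := ad_coef C hL hr h
  rw [pairing_eq C, pairing_eq C, pairing_eq C, ← Finset.sum_add_distrib]
  refine Finset.sum_congr rfl fun j hj => ?_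
  rw [cartan_comb C (Finset.mem_range.1 hj) hr hs hu 1 1 fun i hi => by rw [hc i hi]; ring]
  ring

theorem key_add {r s u : ℕ} (hr : r < D.nroots) (h : ad D r s = some u) : key C u = key C r + key C s := by
  obtain ⟨-, -, -, hc⟩ := ad_coef C hL hr h
  rw [key_lin C (r := r) (s := s) (k := u) 1 1 fun j hj => by rw [hc j hj]; ring]
  ring

theorem key_inj {r s : ℕ} (hr : r < D.nroots) (hs : s < D.nroots) (h : key C r = key C s) : r = s := by
  rcases lt_trichotomy r s with e | e | e
  · have := key_lt C hs e; omega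
  · exact e
  · have := key_lt C hr e; omega

/-! ### root elements in characteristic two -/

variable {F : Type*} [Field F] [CharP F 2]

omit hL in
theorem xg_inv_two (r : ℕ) (t : F) : (xg C r t)⁻¹ = xg C r t := by rw [xg_inv, CharTwo.neg_eq]

omit hL in
theorem xg_sq (r : ℕ) (t : F) : xg C r t * xg C r t = 1 := by rw [xg_mul, CharTwo.add_self_eq_zero, xg_zero]

theorem commTerms_eq {r s : ℕ} (hr : r < D.nroots) (hs : s < D.nroots) :
    (ad D r s = none ∧ D.commTerms r s = []) ∨
      ∃ u M, ad D r s = some u ∧ M % 2 ≠ 0 ∧ D.commTerms r s = [(u, M, 1, 1)] := by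
  have h23 : ∀ a b k, a < D.nroots → 2 ≤ k → D.chainRoot a b k = none := by
    intro a b k ha hk
    rcases entry_spec hL ha b with ⟨h1, -⟩ | ⟨u, M, h1, -⟩ <;>
      simp [ChevalleyDatum.chainRoot, h1] <;> omega
  have c2 := h23 r s 2 hr le_rfl
  have c3 := h23 r s 3 hr (by omega)
  have d2 := h23 s r 2 hs le_rfl
  have d3 := h23 s r 3 hs (by omega)
  rcases entry_spec hL hr s with ⟨h1, -⟩ | ⟨u, M, h1, hM, -⟩
  · refine Or.inl ⟨by simp [ad, hdN, h1], ?_⟩
    have c1 : D.chainRoot r s 1 = none := by simp [ChevalleyDatum.chainRoot, h1]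
    simp [ChevalleyDatum.commTerms, c1, c2, c3, d2, d3]
  · refine Or.inr ⟨u, M, by simp [ad, hdN, h1], hM, ?_⟩
    have c1 : D.chainRoot r s 1 = some u := by simp [ChevalleyDatum.chainRoot, h1]
    have m1 : D.chainM r s 1 = M := by simp [ChevalleyDatum.chainM, h1]
    simp [ChevalleyDatum.commTerms, c1, c2, c3, d2, d3, m1]

theorem conj_none {r s : ℕ} (hr : r < D.nroots) (hs : s < D.nroots) (h2 : s ≠ D.neg r)
    (h : ad D r s = none) (t c : F) : xg C r t * xg C s c * (xg C r t)⁻¹ = xg C s c := by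
  by_cases h1 : s = r
  · subst h1; rw [mul_inv_eq_iff_eq_mul, xg_mul, xg_mul, add_comm]
  rw [ChevRootLists.conj_xg C hr hs h1 h2]
  rcases commTerms_eq C hL hr hs with ⟨-, e⟩ | ⟨u, M, e, -⟩
  · simp [ChevalleyDatum.commWord, e, wg]
  · rw [h] at e; simp at e

theorem conj_some {r s u : ℕ} (hr : r < D.nroots) (hs : s < D.nroots) (h : ad D r s = some u) (t c : F) :
    xg C r t * xg C s c * (xg C r t)⁻¹ = xg C s c * xg C u (t * c) := by
  have hp := (ad_coef C hL hr h).2.2.1
  have h1 : s ≠ r := fun e => by subst e; rw [C.pair_self _ hr] at hp; omega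
  have h2 : s ≠ D.neg r := fun e => by
    subst e; rw [pairing_negR C hL hr, C.pair_self r hr] at hp; omega
  rw [ChevRootLists.conj_xg C hr hs h1 h2]
  rcases commTerms_eq C hL hr hs with ⟨e, -⟩ | ⟨v, M, e, hM, e'⟩
  · rw [h] at e; simp at e
  · rw [h] at e
    obtain rfl := Option.some.inj e
    have : (M : F) = 1 := by
      obtain ⟨m, rfl⟩ : ∃ m, M = 2 * m + 1 := ⟨M / 2, by omega⟩
      simp [CharTwo.two_eq_zero]
    simp [ChevalleyDatum.commWord, e', wg, this, CharTwo.neg_eq]

theorem comm_none {r s : ℕ} (hr : r < D.nroots) (hs : s < D.nroots) (h2 : s ≠ D.neg r)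
    (h : ad D r s = none) (t c : F) : Commute (xg C r t) (xg C s c) :=
  mul_inv_eq_iff_eq_mul.1 (conj_none C hL hr hs h2 h t c)

theorem comm_orth {r s : ℕ} (hr : r < D.nroots) (hs : s < D.nroots) (h : D.pairing r s = 0) (t c : F) :
    Commute (xg C r t) (xg C s c) := by
  refine comm_none C hL hr hs (fun e => ?_) ?_ t c
  · subst e; rw [pairing_negR C hL hr, C.pair_self r hr] at h; omega
  · rcases e : ad D r s with _ | u
    · rfl
    · have := (ad_coef C hL hr e).2.2.1; omega

end Cfsg.Agent.InvolADE
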