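import Cfsg.Agent.Lib.InvolADEOrth

/-!
Certified conjugations between products of root elements with parameter one: simple reflections, and words of
root elements checked by collection.
-/

set_option autoImplicit false
set_option linter.unusedSectionVars false

namespace Cfsg.Agent.InvolADE

open Cfsg.Lie Cfsg.Agent.ChevalleyEngine Cfsg.Agent.ChevalleyCert Cfsg.Agent.ChevalleyRoots
open Cfsg.Agent.ChevalleyCore Cfsg.Agent.ChevalleyUnipotent Cfsg.Agent.ChevBruhat

variable {D : ChevalleyDatum}

/-- one collection step -/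
def cstep (D : ChevalleyDatum) : List ℕ → List ℕ
  | a :: b :: l =>
    if a < b ∨ D.nroots ≤ a ∨ D.nroots ≤ b then a :: cstep D (b :: l)
    else if a = b then l
    else if b = D.neg a then a :: cstep D (b :: l)
    else b :: (ad D a b).toList ++ a :: l
  | l => l
  termination_by l => l.length

/-- collection with fuel -/
def nf (D : ChevalleyDatum) : ℕ → List ℕ → List ℕ
  | 0, l => l
  | n + 1, l => let l' := cstep D l; if l' == l then l else nf D n l'

/-- apply reflections -/
def refl (D : ChevalleyDatum) (w : List ℕ) (T : List ℕ) : List ℕ :=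
  w.foldl (fun T i => T.map (D.reflectRoot i)) T

/-- the root orthogonal to all of `R`, from the rows of pairings -/
def orthTo (D : ChevalleyDatum) (R : List ℕ) : List ℕ :=
  ((List.range D.nroots).zip
      (R.foldl (fun f s => List.zipWith (fun b v => b && v == 0) f (pRow D s)) (List.replicate D.nroots true))).filterMap
    fun p => if p.2 then some p.1 else none

theorem orthFold {n : ℕ} {A : ℕ → List ℤ} : ∀ (R : List ℕ) (f : List Bool), f.length = n →
    (∀ s ∈ R, (A s).length = n) →
    (R.foldl (fun f s => List.zipWith (fun b v => b && v == 0) f (A s)) f).length = n ∧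
      ∀ r < n, ((R.foldl (fun f s => List.zipWith (fun b v => b && v == 0) f (A s)) f).getD r false = true ↔
        f.getD r false = true ∧ ∀ s ∈ R, (A s).getD r 0 = 0) := by
  intro R
  induction R with
  | nil => intro f h _; simp [h]
  | cons a R ih =>
    intro f h hA
    have h3 := hA a List.mem_cons_self
    have hl : (List.zipWith (fun b v => b && v == 0) f (A a)).length = n := by
      rw [List.length_zipWith, h, h3, min_self]
    obtain ⟨h1, h2⟩ := ih _ hl fun i hi => hA i (List.mem_cons_of_mem _ hi)
    refine ⟨h1, fun r hr => ?_⟩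
    rw [List.foldl_cons, h2 r hr, List.getD_eq_getElem _ _ (hl ▸ hr), List.getD_eq_getElem _ _ (h ▸ hr),
      List.getElem_zipWith]
    simp [List.getD_eq_getElem?_getD, h3, hr, and_assoc]

theorem mem_orthTo (hL : laceOK D = true) {R : List ℕ} {r : ℕ} :
    r ∈ orthTo D R ↔ r < D.nroots ∧ ∀ s ∈ R, D.pairing s r = 0 := by
  obtain ⟨h1, h2⟩ := orthFold (A := pRow D) R (List.replicate D.nroots true) List.length_replicate
    fun s _ => (pRow_spec hL s).1
  rw [orthTo, List.mem_filterMap]
  constructor
  · rintro ⟨p, hp, hpr⟩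
    obtain ⟨i, hi, rfl⟩ := List.mem_iff_getElem.1 hp
    rw [List.length_zip, List.length_range, h1, min_self] at hi
    simp only [List.getElem_zip, List.getElem_range] at hpr
    split at hpr
    · rename_i h3
      obtain rfl : i = r := Option.some.inj hpr
      have := (h2 i hi).1 (by rw [List.getD_eq_getElem _ _ (h1.symm ▸ hi)]; exact h3)
      exact ⟨hi, fun s hs => ((pRow_spec hL s).2 i hi).symm.trans (this.2 s hs)⟩
    · simp at hpr
  · rintro ⟨hr, hs⟩
    have := (h2 r hr).2 ⟨by simp [List.getD_eq_getElem?_getD, hr],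
      fun s h => ((pRow_spec hL s).2 r hr).trans (hs s h)⟩
    rw [List.getD_eq_getElem _ _ (h1.symm ▸ hr)] at this
    refine ⟨(r, true), List.mem_iff_getElem.2 ⟨r, by simp [h1, hr], ?_⟩, by simp⟩
    simp [this]

/-- pairwise orthogonality -/
def orthB (D : ChevalleyDatum) : List ℕ → Bool
  | [] => true
  | a :: l => (l.all fun b => D.pairing a b == 0) && orthB D l

/-- the check of the closure of a list of orbit representatives under adjoining an orthogonal root -/
def closB (D : ChevalleyDatum) (reps : List (List ℕ)) (tab : List (List (List ℕ × ℕ))) : Bool :=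
  (List.zip reps tab).all fun p =>
    let rs := orthTo D p.1
    rs.length == p.2.length && (rs.zip p.2).all fun q =>
      decide (q.2.2 < reps.length) && (q.2.1.all fun i => decide (i < D.rank)) &&
        (refl D q.2.1 (q.1 :: p.1)).isPerm (reps.getD q.2.2 [])

/-- the check of the representatives -/
def repsB (D : ChevalleyDatum) (reps : List (List ℕ)) (tab : List (List (List ℕ × ℕ))) : Bool :=
  reps.length == tab.length && reps.getD 0 [1] == [] &&
    (reps.all fun R => orthB D R && R.all fun r => decide (r < D.nroots)) && closB D reps tab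

/-- the check of one conjugation by a word of root elements followed by reflections -/
def moveB (D : ChevalleyDatum) (R : List ℕ) (h T : List ℕ) (w : List ℕ) (R' : List ℕ) : Bool :=
  (h.all fun r => decide (r < D.nroots)) && (T.all fun r => decide (r < D.nroots)) &&
    (nf D 500 (h ++ R ++ h.reverse) == nf D 500 T) && (w.all fun i => decide (i < D.rank)) &&
    orthB D R' && (R'.all fun r => decide (r < D.nroots)) && (refl D w T).isPerm R'

variable (C : Cert D) (hL : laceOK D = true) {F : Type*} [Field F] [CharP F 2]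

include C hL

theorem lp_append (a b : List ℕ) : lp C (F := F) (a ++ b) = lp C a * lp C b := by simp [lp]

theorem lp_cons (a : ℕ) (b : List ℕ) : lp C (F := F) (a :: b) = xg C a 1 * lp C b := by simp [lp]

theorem lp_reverse (l : List ℕ) : lp C (F := F) l.reverse = (lp C l)⁻¹ := by
  induction l with
  | nil => simp [lp]
  | cons a l ih =>
    rw [List.reverse_cons, lp_append C hL, ih, lp_cons C hL a l, mul_inv_rev, xg_inv_two C a (1 : F)]
    simp [lp]

theorem lp_mem_group (l : List ℕ) : lp C (F := F) l ∈ D.group F := by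
  refine list_prod_mem fun g hg => ?_
  obtain ⟨r, -, rfl⟩ := List.mem_map.1 hg
  exact xg_mem_group C r 1

theorem cstep_sound : ∀ l : List ℕ, lp C (F := F) (cstep D l) = lp C l
  | [] => by simp [cstep]
  | [a] => by simp [cstep]
  | a :: b :: l => by
    rw [cstep]
    split_ifs with h1 h2 h3
    · rw [lp_cons C hL, cstep_sound (b :: l), ← lp_cons C hL]
    · subst h2
      rw [lp_cons C hL a, lp_cons C hL a, ← mul_assoc, xg_sq C a (1 : F), one_mul]
    · rw [lp_cons C hL, cstep_sound (b :: l), ← lp_cons C hL]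
    · push Not at h1
      obtain ⟨-, ha, hb⟩ := h1
      rcases e : ad D a b with _ | u
      · simp only [Option.toList_none, List.singleton_append, lp_cons C hL]
        rw [← mul_assoc, ← mul_assoc, (comm_none C hL ha hb h3 e (1 : F) 1).eq]
      · simp only [Option.toList_some, List.cons_append, List.nil_append, lp_cons C hL]
        have := conj_some C hL ha hb e (1 : F) 1
        rw [mul_inv_eq_iff_eq_mul, one_mul] at this
        rw [← mul_assoc (xg C a 1), this]
        simp only [mul_assoc]
  termination_by l => l.length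

theorem nf_sound : ∀ n l, lp C (F := F) (nf D n l) = lp C l
  | 0, l => rfl
  | n + 1, l => by
    rw [nf]
    split
    · rfl
    · rw [nf_sound, cstep_sound C hL]

omit C hL in
theorem refl_cons (i : ℕ) (w T : List ℕ) : refl D (i :: w) T = refl D w (T.map (D.reflectRoot i)) := rfl

/-- a word of simple reflections is realised in the group, on all root elements at once -/
theorem refl_conj : ∀ w : List ℕ, (∀ i ∈ w, i < D.rank) → ∃ g ∈ D.group F, ∀ r, r < D.nroots →
    ∃ r', r' < D.nroots ∧ refl D w [r] = [r'] ∧ g * xg C r (1 : F) * g⁻¹ = xg C r' 1 := by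
  intro w
  induction w with
  | nil => exact fun _ => ⟨1, one_mem _, fun r hr => ⟨r, hr, rfl, by simp⟩⟩
  | cons i w ih =>
    intro hw
    have hi := hw i List.mem_cons_self
    obtain ⟨g, hg, h⟩ := ih fun j hj => hw j (List.mem_cons_of_mem _ hj)
    refine ⟨g * ng C (D.simple i) 1, mul_mem hg (mul_mem (mul_mem (xg_mem_group C _ _) (xg_mem_group C _ _))
      (xg_mem_group C _ _)), fun r hr => ?_⟩
    have hr' : D.reflectRoot i r < D.nroots := C.w_lt i r hi hr
    obtain ⟨r', h1, h2, h3⟩ := h _ hr'
    refine ⟨r', h1, h2, ?_⟩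
    have he : (C.eta i r : F) = 1 := by
      rcases C.eta_sq i r with e | e <;> simp [e, CharTwo.neg_eq]
    rw [← h3]
    calc g * ng C (D.simple i) 1 * xg C r (1 : F) * (g * ng C (D.simple i) 1)⁻¹
        = g * (ng C (D.simple i) 1 * xg C r (1 : F) * (ng C (D.simple i) 1)⁻¹) * g⁻¹ := by group
      _ = _ := by rw [ng_simple_conj C hi hr, he, one_mul]

omit C hL in
theorem refl_split : ∀ (w : List ℕ) (a : ℕ) (T : List ℕ), refl D w (a :: T) = refl D w [a] ++ refl D w T
  | [], a, T => rfl
  | i :: w, a, T => by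
    simp only [refl_cons, List.map_cons, List.map_nil]
    exact refl_split w _ _

theorem refl_lp {w : List ℕ} {g : GL D.Idx F} (hgw : ∀ r, r < D.nroots →
    ∃ r', r' < D.nroots ∧ refl D w [r] = [r'] ∧ g * xg C r (1 : F) * g⁻¹ = xg C r' 1) :
    ∀ T : List ℕ, (∀ r ∈ T, r < D.nroots) → refl D w T = T.flatMap (fun r => refl D w [r]) ∧
      g * lp C T * g⁻¹ = lp C (refl D w T) := by
  intro T
  induction T with
  | nil =>
    intro _
    have : refl D w [] = [] := by
      clear hgw
      induction w with
      | nil => rfl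
      | cons i w ih => rw [refl_cons]; exact ih
    simp [lp, this]
  | cons a T ih =>
    intro hT
    obtain ⟨h1, h2⟩ := ih fun r hr => hT r (List.mem_cons_of_mem _ hr)
    obtain ⟨a', -, h3, h4⟩ := hgw a (hT a List.mem_cons_self)
    refine ⟨by rw [refl_split, List.flatMap_cons, h1], ?_⟩
    rw [refl_split, h3, lp_cons C hL, List.singleton_append, lp_cons C hL, ← h4, ← h2]
    group

theorem orthB_spec {T : List ℕ} (h : orthB D T = true) :
    T.Pairwise (fun a b => D.pairing a b = 0) := by
  induction T with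
  | nil => exact List.Pairwise.nil
  | cons a l ih =>
    simp only [orthB, Bool.and_eq_true, List.all_eq_true, beq_iff_eq] at h
    exact List.pairwise_cons.2 ⟨h.1, ih h.2⟩

theorem lp_perm {T T' : List ℕ} (hp : T.Perm T') (h : orthB D T' = true) (hlt : ∀ r ∈ T', r < D.nroots) :
    lp C (F := F) T = lp C T' := by
  refine (List.Perm.prod_eq' (hp.symm.map _) ?_).symm
  rw [List.pairwise_map]
  refine List.Pairwise.imp_of_mem ?_ (orthB_spec C hL h)
  intro a b ha hb hab
  exact comm_orth C hL (hlt a ha) (hlt b hb) hab 1 1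

theorem move_sound {R h T w R' : List ℕ} (hm : moveB D R h T w R' = true) :
    ∃ g ∈ D.group F, g * lp C R * g⁻¹ = lp C R' := by
  simp only [moveB, Bool.and_eq_true, List.all_eq_true, decide_eq_true_eq, beq_iff_eq] at hm
  obtain ⟨⟨⟨⟨⟨⟨-, hT⟩, hnf⟩, hw⟩, ho⟩, hR'⟩, hp⟩ := hm
  obtain ⟨g, hg, hgw⟩ := refl_conj C hL (F := F) w hw
  refine ⟨g * lp C h, mul_mem hg (lp_mem_group C hL h), ?_⟩
  have e : lp C (F := F) h * lp C R * (lp C h)⁻¹ = lp C T := by
    rw [← lp_reverse C hL, ← lp_append C hL, ← lp_append C hL, ← nf_sound C hL 500, hnf, nf_sound C hL]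
  rw [← lp_perm C hL (List.isPerm_iff.1 hp) ho hR', ← (refl_lp C hL hgw T hT).2, ← e]
  group

/-- every product over orthogonal roots is conjugate, by a product of reflections, to a representative -/
theorem reps_sound {reps : List (List ℕ)} {tab : List (List (List ℕ × ℕ))} (hR : repsB D reps tab = true) :
    ∀ T : List ℕ, (∀ r ∈ T, r < D.nroots) → T.Pairwise (fun a b => D.pairing a b = 0) →
      ∃ g ∈ D.group F, ∃ R ∈ reps, g * lp C T * g⁻¹ = lp C R ∧ (T ≠ [] → R ≠ []) := by
  simp only [repsB, Bool.and_eq_true, List.all_eq_true, decide_eq_true_eq, beq_iff_eq] at hR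
  obtain ⟨⟨⟨hlen, h0⟩, hreps⟩, hclos⟩ := hR
  suffices H : ∀ T : List ℕ, (∀ r ∈ T, r < D.nroots) → T.Pairwise (fun a b => D.pairing a b = 0) →
      ∃ g ∈ D.group F, ∃ w : List ℕ, (∀ i ∈ w, i < D.rank) ∧ (∀ r, r < D.nroots → ∃ r', r' < D.nroots ∧
        refl D w [r] = [r'] ∧ g * xg C r (1 : F) * g⁻¹ = xg C r' 1) ∧
        ∃ R ∈ reps, (refl D w T).Perm R by
    intro T hT hpw
    obtain ⟨g, hg, w, -, hgw, R, hRm, hp⟩ := H T hT hpw
    refine ⟨g, hg, R, hRm, ?_, fun hne he => hne ?_⟩
    · rw [(refl_lp C hL hgw T hT).2, lp_perm C hL hp (hreps R hRm).1 (hreps R hRm).2]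
    · subst he
      obtain ⟨h1, -⟩ := refl_lp C hL hgw T hT
      rw [hp.eq_nil] at h1
      rcases T with _ | ⟨a, T⟩
      · rfl
      · obtain ⟨a', -, e, -⟩ := hgw a (hT a List.mem_cons_self)
        simp [e] at h1
  intro T
  induction T with
  | nil =>
    intro _ _
    refine ⟨1, one_mem _, [], by simp, fun r hr => ⟨r, hr, rfl, by simp⟩, [], ?_, List.Perm.refl _⟩
    rcases reps with _ | ⟨R, L⟩
    · simp at h0
    · simp at h0; simp [h0]
  | cons a T ih =>
    intro hT hpw
    obtain ⟨hpa, hpw'⟩ := List.pairwise_cons.1 hpw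
    obtain ⟨g, hg, w, hw, hgw, R, hRm, hp⟩ := ih (fun r hr => hT r (List.mem_cons_of_mem _ hr)) hpw'
    obtain ⟨a', ha', hwa, -⟩ := hgw a (hT a List.mem_cons_self)
    obtain ⟨j, hj, rfl⟩ := List.mem_iff_getElem.1 hRm
    have hzip : (reps[j], tab[j]'(hlen ▸ hj)) ∈ List.zip reps tab := by
      rw [List.mem_iff_getElem]
      exact ⟨j, by simp [List.length_zip, hlen]; omega, by simp⟩
    have horth : ∀ s ∈ reps[j], D.pairing a' s = 0 := by
      intro s hs
      have hs' : s ∈ refl D w T := hp.mem_iff.2 hs
      have key : ∀ (w : List ℕ), (∀ i ∈ w, i < D.rank) → ∀ (a a' : ℕ) (T : List ℕ), a < D.nroots →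
          (∀ r ∈ T, r < D.nroots ∧ D.pairing a r = 0) → refl D w [a] = [a'] →
          ∀ s ∈ refl D w T, D.pairing a' s = 0 := by
        intro w
        induction w with
        | nil =>
          intro _ a a' T _ hT' he s hs
          obtain rfl : a = a' := by simpa [refl] using he
          exact (hT' s hs).2
        | cons i w ihw =>
          intro hwl a a' T ha hT' he s hs
          have hi := hwl i List.mem_cons_self
          refine ihw (fun j hj => hwl j (List.mem_cons_of_mem _ hj)) (D.reflectRoot i a) a'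
            (T.map (D.reflectRoot i)) (C.w_lt i a hi ha) ?_ he s hs
          intro r hr
          obtain ⟨r0, hr0, rfl⟩ := List.mem_map.1 hr
          obtain ⟨h1, h2⟩ := hT' r0 hr0
          exact ⟨C.w_lt i r0 hi h1, by rw [pairing_w C hi ha h1, h2]⟩
      exact key w hw a a' T (hT a List.mem_cons_self)
        (fun r hr => ⟨hT r (List.mem_cons_of_mem _ hr), hpa r hr⟩) hwa s hs'
    have hc := hclos
    simp only [closB, Bool.and_eq_true, List.all_eq_true, decide_eq_true_eq, beq_iff_eq] at hc
    obtain ⟨hl, hq⟩ := hc _ hzip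
    set rs := orthTo D reps[j] with hrs
    have hmem : a' ∈ rs := (mem_orthTo hL).2 ⟨ha', fun s hs => by
      rw [pairing_symm C hL ((hreps _ (List.getElem_mem hj)).2 s hs) ha']; exact horth s hs⟩
    obtain ⟨m, hm, he⟩ := List.mem_iff_getElem.1 hmem
    have := hq (rs[m], (tab[j]'(hlen ▸ hj))[m]'(hl ▸ hm))
      (List.mem_iff_getElem.2 ⟨m, by simp [List.length_zip, ← hl]; omega, by simp⟩)
    obtain ⟨⟨ht, hw2⟩, hperm⟩ := this
    set q := (tab[j]'(hlen ▸ hj))[m]'(hl ▸ hm) with hqdef
    obtain ⟨g2, hg2, hgw2⟩ := refl_conj C hL (F := F) q.1 hw2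
    refine ⟨g2 * g, mul_mem hg2 hg, w ++ q.1, fun i hi => ?_, fun r hr => ?_, reps.getD q.2 [], ?_, ?_⟩
    · rcases List.mem_append.1 hi with h | h
      · exact hw i h
      · exact hw2 i h
    · obtain ⟨r', h1, h2, h3⟩ := hgw r hr
      obtain ⟨r'', k1, k2, k3⟩ := hgw2 r' h1
      refine ⟨r'', k1, ?_, ?_⟩
      · rw [refl, List.foldl_append]
        show refl D q.1 (refl D w [r]) = _
        rw [h2, k2]
      · rw [← k3, ← h3]; group
    · rw [List.getD_eq_getElem _ _ ht]; exact List.getElem_mem ht
    · rw [refl, List.foldl_append]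
      show (refl D q.1 (refl D w (a :: T))).Perm _
      rw [refl_split, hwa, List.singleton_append]
      refine List.Perm.trans ?_ (List.isPerm_iff.1 hperm)
      rw [he]
      have hmap : ∀ (w : List ℕ) {A B : List ℕ}, A.Perm B → (refl D w A).Perm (refl D w B) := by
        intro w
        induction w with
        | nil => exact fun h => h
        | cons i w ihw => exact fun h => ihw (h.map _)
      exact hmap _ (hp.cons a')

end Cfsg.Agent.InvolADE
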