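import Cfsg.Agent.Lib.InvolADELace

/-!
In a simply laced Chevalley group of characteristic two every involution of the positive unipotent subgroup is
conjugate to a product of root elements with parameter one over pairwise orthogonal positive roots.
-/

set_option autoImplicit false
set_option linter.unusedSectionVars false

namespace Cfsg.Agent.InvolADE

open Cfsg.Lie Cfsg.Agent.ChevalleyEngine Cfsg.Agent.ChevalleyCert Cfsg.Agent.ChevalleyRoots
open Cfsg.Agent.ChevalleyCore Cfsg.Agent.ChevalleyUnipotent Cfsg.Agent.ChevBruhat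

variable {D : ChevalleyDatum}

/-- closed under addition of roots -/
def Closed (D : ChevalleyDatum) (Q : Finset ℕ) : Prop :=
  ∀ r ∈ Q, ∀ s ∈ Q, ∀ u, ad D r s = some u → u ∈ Q

/-- not the sum of two members -/
def Indec (D : ChevalleyDatum) (Q : Finset ℕ) (r : ℕ) : Prop := ∀ a ∈ Q, ∀ b ∈ Q, ad D a b ≠ some r

/-- the positive roots orthogonal to `S` -/
def Psi (D : ChevalleyDatum) (S : Finset ℕ) : Finset ℕ :=
  (Finset.Ico (D.nroots / 2) D.nroots).filter fun r => ∀ s ∈ S, D.pairing s r = 0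

theorem mem_Psi {S : Finset ℕ} {r : ℕ} :
    r ∈ Psi D S ↔ (D.nroots / 2 ≤ r ∧ r < D.nroots) ∧ ∀ s ∈ S, D.pairing s r = 0 := by
  simp [Psi]

variable (C : Cert D) (hL : laceOK D = true)

include C hL

theorem key_posR {r : ℕ} (h : D.nroots / 2 ≤ r ∧ r < D.nroots) : 0 < key C r := (key_pos C h.2).2 h.1

theorem lt_of_key {r s : ℕ} (hr : r < D.nroots) (h : key C r < key C s) : r < s := by
  rcases lt_trichotomy r s with e | e | e
  · exact e
  · subst e; omega
  · have := key_lt C hr e; omega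

theorem eq_of_coef {r s : ℕ} (hr : r < D.nroots) (hs : s < D.nroots)
    (h : ∀ j, j < D.rank → C.coef r j = C.coef s j) : r = s :=
  key_inj C hL hr hs (key_congr C h)

/-- the difference of two roots with pairing one -/
theorem exists_diff {a b : ℕ} (ha : a < D.nroots) (hb : b < D.nroots) (h : D.pairing a b = 1) :
    ∃ c, c < D.nroots ∧ ad D (D.neg a) b = some c ∧ ad D a c = some b ∧ key C b = key C a + key C c := by
  have h1 : D.pairing (D.neg a) b = -1 := by rw [pairing_negL C hL ha hb, h]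
  obtain ⟨c, hc⟩ := Option.isSome_iff_exists.1 ((ad_some C hL (C.neg_lt a)).2 ⟨hb, h1⟩)
  obtain ⟨-, hcn, -, hcoef⟩ := ad_coef C hL (C.neg_lt a) hc
  have h2 : D.pairing a c = -1 := by
    rw [pairing_add C hL (C.neg_lt a) hc, h, pairing_negR C hL ha, C.pair_self a ha]; norm_num
  obtain ⟨u, hu⟩ := Option.isSome_iff_exists.1 ((ad_some C hL ha).2 ⟨hcn, h2⟩)
  obtain ⟨-, hun, -, hucoef⟩ := ad_coef C hL ha hu
  obtain rfl : u = b := eq_of_coef C hL hun hb fun j hj => by
    rw [hucoef j hj, hcoef j hj, C.coef_neg a j ha hj]; ring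
  exact ⟨c, hcn, hc, hu, key_add C hL ha hu⟩

theorem ad_comm {r s u : ℕ} (hr : r < D.nroots) (h : ad D r s = some u) : ad D s r = some u := by
  obtain ⟨hs, hu, hp, hc⟩ := ad_coef C hL hr h
  obtain ⟨v, hv⟩ := Option.isSome_iff_exists.1 ((ad_some C hL hs).2 ⟨hr, pairing_m1_symm C hL hr hs hp⟩)
  obtain ⟨-, hvn, -, hvc⟩ := ad_coef C hL hs hv
  rw [hv, eq_of_coef C hL hvn hu fun j hj => by rw [hvc j hj, hc j hj]; ring]

theorem ad_none {r s : ℕ} (hr : r < D.nroots) (h : D.pairing r s ≠ -1) : ad D r s = none := by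
  rcases e : ad D r s with _ | u
  · rfl
  · exact absurd (ad_coef C hL hr e).2.2.1 h

theorem ne_neg {a r : ℕ} (ha : D.nroots / 2 ≤ a ∧ a < D.nroots) (hr : D.nroots / 2 ≤ r ∧ r < D.nroots) :
    r ≠ D.neg a := by
  have := C.neg_eq a ha.2; have := C.even; omega

theorem bound_pos {a r : ℕ} (ha : D.nroots / 2 ≤ a ∧ a < D.nroots) (hr : D.nroots / 2 ≤ r ∧ r < D.nroots) :
    (r = a ∧ D.pairing a r = 2) ∨ (-1 ≤ D.pairing a r ∧ D.pairing a r ≤ 1) := by
  by_cases h : r = a
  · exact Or.inl ⟨h, by rw [h, C.pair_self a ha.2]⟩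
  · exact Or.inr (pairing_bound C hL ha.2 hr.2 h (ne_neg C hL ha hr))

theorem sum_pos {a b u : ℕ} (ha : D.nroots / 2 ≤ a ∧ a < D.nroots) (hb : D.nroots / 2 ≤ b ∧ b < D.nroots)
    (h : ad D a b = some u) : (D.nroots / 2 ≤ u ∧ u < D.nroots) ∧ a < u ∧ b < u := by
  have hu := (ad_coef C hL ha.2 h).2.1
  have h1 := key_add C hL ha.2 h
  have h2 := key_posR C hL ha
  have h3 := key_posR C hL hb
  exact ⟨⟨(key_pos C hu).1 (by omega), hu⟩, lt_of_key C hL ha.2 (by omega), lt_of_key C hL hb.2 (by omega)⟩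

theorem Psi_pos {S : Finset ℕ} {r : ℕ} (h : r ∈ Psi D S) : D.nroots / 2 ≤ r ∧ r < D.nroots := (mem_Psi.1 h).1

theorem Psi_closed (S : Finset ℕ) : Closed D (Psi D S) := by
  intro r hr s hs u h
  rw [mem_Psi] at hr hs ⊢
  refine ⟨(sum_pos C hL hr.1 hs.1 h).1, fun x hx => ?_⟩
  rw [pairing_add C hL hr.1.2 h, hr.2 x hx, hs.2 x hx, add_zero]

theorem Psi_sub {S : Finset ℕ} {a b : ℕ} (ha : a ∈ Psi D S) (hb : b ∈ Psi D S) (h : D.pairing a b = 1)
    (hlt : a < b) : ∃ c ∈ Psi D S, ad D a c = some b := by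
  obtain ⟨ha', hao⟩ := mem_Psi.1 ha
  obtain ⟨hb', hbo⟩ := mem_Psi.1 hb
  obtain ⟨c, hc, h1, h2, h3⟩ := exists_diff C hL ha'.2 hb'.2 h
  have := key_lt C hb'.2 hlt
  refine ⟨c, mem_Psi.2 ⟨⟨(key_pos C hc).1 (by omega), hc⟩, fun x hx => ?_⟩, h2⟩
  have := pairing_add C hL (k := x) ha'.2 h2
  rw [hao x hx, hbo x hx] at this
  omega

variable {F : Type*} [Field F] [CharP F 2]

/-- the group generated by the root subgroups in `Q` -/
def US (Q : Finset ℕ) : Subgroup (GL D.Idx F) :=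
  Subgroup.closure {g | ∃ r ∈ Q, ∃ c : F, g = xg C r c}

/-- the subgroup generated by the root subgroups orthogonal to `S` -/
def Lev (S : Finset ℕ) : Subgroup (GL D.Idx F) :=
  Subgroup.closure {g | ∃ r, r < D.nroots ∧ (∀ s ∈ S, D.pairing s r = 0) ∧ ∃ c : F, g = xg C r c}

theorem mem_US {Q : Finset ℕ} {r : ℕ} (h : r ∈ Q) (c : F) : xg C r c ∈ US C Q :=
  Subgroup.subset_closure ⟨r, h, c, rfl⟩

theorem US_mono {Q Q' : Finset ℕ} (h : Q ⊆ Q') : US C (F := F) Q ≤ US C Q' :=
  Subgroup.closure_mono fun _ ⟨r, hr, c, e⟩ => ⟨r, h hr, c, e⟩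

theorem US_empty : US C (F := F) ∅ = ⊥ := by
  rw [US, Subgroup.closure_eq_bot_iff]
  rintro g ⟨r, hr, -⟩
  simp at hr

theorem mem_Lev {S : Finset ℕ} {r : ℕ} (hr : r < D.nroots) (h : ∀ s ∈ S, D.pairing s r = 0) (c : F) :
    xg C r c ∈ Lev C S := Subgroup.subset_closure ⟨r, hr, h, c, rfl⟩

theorem Lev_le_group (S : Finset ℕ) : Lev C (F := F) S ≤ D.group F := by
  rw [Lev, Subgroup.closure_le]
  rintro g ⟨r, -, -, c, rfl⟩
  exact xg_mem_group C r c

theorem Lev_mono {S S' : Finset ℕ} (h : S ⊆ S') : Lev C (F := F) S' ≤ Lev C S :=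
  Subgroup.closure_mono fun _ ⟨r, hr, ho, e⟩ => ⟨r, hr, fun s hs => ho s (h hs), e⟩

theorem Lev_comm {S : Finset ℕ} {s : ℕ} (hs : s ∈ S) (hsn : s < D.nroots) (c : F) {g : GL D.Idx F}
    (hg : g ∈ Lev C S) : Commute (xg C s c) g := by
  induction hg using Subgroup.closure_induction with
  | mem x hx => obtain ⟨r, hr, ho, d, rfl⟩ := hx; exact comm_orth C hL hsn hr (ho s hs) c d
  | one => exact Commute.one_right _
  | mul a b _ _ ha hb => exact ha.mul_right hb
  | inv a _ ha => exact ha.inv_right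

/-- root elements normalising the group of `Q` -/
theorem conj_US {Q : Finset ℕ} {a : ℕ} (ha : a < D.nroots)
    (hQ : ∀ r ∈ Q, r < D.nroots ∧ r ≠ D.neg a ∧ ∀ u, ad D a r = some u → u ∈ Q) (t : F) {v : GL D.Idx F}
    (hv : v ∈ US C Q) : xg C a t * v * (xg C a t)⁻¹ ∈ US C Q := by
  refine Sys.conj_closure_le (T := {g : GL D.Idx F | ∃ r ∈ Q, ∃ c : F, g = xg C r c}) _ ?_ hv
  rintro x ⟨r, hr, c, rfl⟩
  obtain ⟨h1, h2, h3⟩ := hQ r hr
  rcases e : ad D a r with _ | u
  · rw [conj_none C hL ha h1 h2 e]; exact mem_US C hL hr c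
  · rw [conj_some C hL ha h1 e]; exact mul_mem (mem_US C hL hr c) (mem_US C hL (h3 u e) _)

theorem closed_erase {Q : Finset ℕ} {r : ℕ} (hc : Closed D Q) (hi : Indec D Q r) : Closed D (Q.erase r) := by
  intro a ha b hb u h
  rw [Finset.mem_erase] at ha hb ⊢
  exact ⟨fun e => hi a ha.2 b hb.2 (e ▸ h), hc a ha.2 b hb.2 u h⟩

theorem split {Q : Finset ℕ} (hp : ∀ r ∈ Q, D.nroots / 2 ≤ r ∧ r < D.nroots) {r : ℕ} (hr : r ∈ Q)
    (hc : Closed D Q) (hi : Indec D Q r) {g : GL D.Idx F} (hg : g ∈ US C Q) :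
    ∃ c : F, ∃ h ∈ US C (Q.erase r), g = xg C r c * h := by
  have hn : ∀ (c : F) h, h ∈ US C (Q.erase r) → xg C r c * h * (xg C r c)⁻¹ ∈ US C (Q.erase r) := by
    intro c h hh
    refine conj_US C hL (hp r hr).2 (fun s hs => ?_) c hh
    rw [Finset.mem_erase] at hs
    refine ⟨(hp s hs.2).2, ne_neg C hL (hp r hr) (hp s hs.2), fun u hu => ?_⟩
    exact Finset.mem_erase.2 ⟨fun e => hi r hr s hs.2 (e ▸ hu), hc r hr s hs.2 u hu⟩
  induction hg using Subgroup.closure_induction with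
  | mem x hx =>
    obtain ⟨s, hs, c, rfl⟩ := hx
    by_cases h : s = r
    · subst h; exact ⟨c, 1, one_mem _, (mul_one _).symm⟩
    · exact ⟨0, _, mem_US C hL (Finset.mem_erase.2 ⟨h, hs⟩) c, by simp⟩
  | one => exact ⟨0, 1, one_mem _, by simp⟩
  | mul x y _ _ hx hy =>
    obtain ⟨a, k, hk, rfl⟩ := hx
    obtain ⟨b, l, hl, rfl⟩ := hy
    refine ⟨a + b, xg C r b * k * (xg C r b)⁻¹ * l, mul_mem (hn b k hk) hl, ?_⟩
    rw [← xg_mul, xg_inv_two C r b]
    calc xg C r a * k * (xg C r b * l) = xg C r a * (xg C r b * xg C r b) * k * (xg C r b * l) := by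
          rw [xg_sq C r b, mul_one]
      _ = _ := by simp only [mul_assoc]
  | inv x _ hx =>
    obtain ⟨a, k, hk, rfl⟩ := hx
    refine ⟨a, xg C r a * k⁻¹ * (xg C r a)⁻¹, hn a _ (inv_mem hk), ?_⟩
    rw [mul_inv_rev, xg_inv_two C r a, ← mul_assoc, ← mul_assoc, xg_sq C r a, one_mul]

theorem indec_min {Q : Finset ℕ} (hp : ∀ r ∈ Q, D.nroots / 2 ≤ r ∧ r < D.nroots) {m : ℕ}
    (hle : ∀ r ∈ Q, m ≤ r) : Indec D Q m := by
  intro a ha b hb h
  have := (sum_pos C hL (hp a ha) (hp b hb) h).2.1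
  have := hle a ha
  omega

theorem notin_US : ∀ {Q : Finset ℕ}, (∀ r ∈ Q, D.nroots / 2 ≤ r ∧ r < D.nroots) → Closed D Q →
    ∀ {r : ℕ}, (D.nroots / 2 ≤ r ∧ r < D.nroots) → r ∉ Q → ∀ {c : F}, xg C r c ∈ US C Q → c = 0 := by
  intro Q
  induction Q using Finset.strongInduction with
  | H Q ih =>
    intro hp hc r hr hrQ c h
    have key' : ∀ (m : ℕ) (P : Finset ℕ), (∀ s ∈ P, D.nroots / 2 ≤ s ∧ s < D.nroots) → (∀ s ∈ P, m < s) →
        US C (F := F) P ≤ uGe C (m + 1) := by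
      intro m P hP hm
      rw [US, Subgroup.closure_le]
      rintro g ⟨s, hs, d, rfl⟩
      exact xg_mem_uGe C (hm s hs) (hP s hs).1 (hP s hs).2 d
    by_cases hne : Q.Nonempty
    · set m := Q.min' hne
      have hm := Q.min'_mem hne
      have hi : Indec D Q m := indec_min C hL hp fun s hs => Q.min'_le s hs
      obtain ⟨d, v, hv, e⟩ := split C hL hp hm hc hi h
      rcases lt_or_gt_of_ne (fun e : r = m => hrQ (e ▸ hm)) with hlt | hgt
      · have h1 : xg C r c * 1 = xg C r 0 * xg C r c := by simp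
        refine (coeff_unique C hr.1 hr.2 (one_mem _) ?_ h1).1
        rw [e]
        refine mul_mem (xg_mem_uGe C hlt (hp m hm).1 (hp m hm).2 _) ?_
        exact key' r _ (fun s hs => hp s (Finset.mem_of_mem_erase hs))
          (fun s hs => lt_of_lt_of_le hlt (Q.min'_le s (Finset.mem_of_mem_erase hs))) hv
      · have h1 : xg C m 0 * xg C r c = xg C m d * v := by rw [xg_zero, one_mul, e]
        have hv' : v ∈ uGe C (m + 1) := key' m _ (fun s hs => hp s (Finset.mem_of_mem_erase hs))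
          (fun s hs => lt_of_le_of_ne (Q.min'_le s (Finset.mem_of_mem_erase hs))
            (Finset.ne_of_mem_erase hs).symm) hv
        obtain ⟨-, e2⟩ := coeff_unique C (hp m hm).1 (hp m hm).2 (xg_mem_uGe C hgt hr.1 hr.2 c) hv' h1
        exact ih _ (Finset.erase_ssubset hm) (fun s hs => hp s (Finset.mem_of_mem_erase hs))
          (closed_erase C hL hc hi) hr (fun hs => hrQ (Finset.mem_of_mem_erase hs)) (e2 ▸ hv)
    · rw [Finset.not_nonempty_iff_eq_empty.1 hne, US_empty C hL, Subgroup.mem_bot] at h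
      exact (coeff_unique C hr.1 hr.2 (v := 1) (v' := 1) (one_mem _) (one_mem _)
        (by rw [h, xg_zero] : xg C r c * 1 = xg C r 0 * 1)).1

theorem leading : ∀ {Q : Finset ℕ}, (∀ r ∈ Q, D.nroots / 2 ≤ r ∧ r < D.nroots) → Closed D Q →
    ∀ {w : GL D.Idx F}, w ∈ US C Q → w ≠ 1 →
      ∃ k ∈ Q, ∃ t : F, t ≠ 0 ∧ ∃ v ∈ US C (Q.filter (k < ·)), w = xg C k t * v := by
  intro Q
  induction Q using Finset.strongInduction with
  | H Q ih =>
    intro hp hc w hw hw1
    by_cases hne : Q.Nonempty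
    · have hm := Q.min'_mem hne
      have hi : Indec D Q (Q.min' hne) := indec_min C hL hp fun s hs => Q.min'_le s hs
      obtain ⟨d, v, hv, rfl⟩ := split C hL hp hm hc hi hw
      by_cases hd : d = 0
      · subst hd
        rw [xg_zero, one_mul] at hw1 ⊢
        obtain ⟨k, hk, t, ht, v', hv', e⟩ := ih _ (Finset.erase_ssubset hm)
          (fun s hs => hp s (Finset.mem_of_mem_erase hs)) (closed_erase C hL hc hi) hv hw1
        exact ⟨k, Finset.mem_of_mem_erase hk, t, ht, v',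
          US_mono C hL (Finset.filter_subset_filter _ (Finset.erase_subset _ _)) hv', e⟩
      · refine ⟨_, hm, d, hd, v, US_mono C hL (fun s hs => Finset.mem_filter.2 ?_) hv, rfl⟩
        exact ⟨Finset.mem_of_mem_erase hs,
          lt_of_le_of_ne (Q.min'_le s (Finset.mem_of_mem_erase hs)) (Finset.ne_of_mem_erase hs).symm⟩
    · rw [Finset.not_nonempty_iff_eq_empty.1 hne, US_empty C hL, Subgroup.mem_bot] at hw
      exact absurd hw hw1

/-- `x_b(1) x_{-b}(1) x_b(1)` -/
def nn (b : ℕ) : GL D.Idx F := xg C b 1 * xg C (D.neg b) 1 * xg C b 1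

theorem nn_fix {b r : ℕ} (hb : b < D.nroots) (hr : r < D.nroots) (h : D.pairing b r = 0) (z : F) :
    nn C b * xg C r z * (nn C b)⁻¹ = xg C r z := by
  have h' : D.pairing (D.neg b) r = 0 := by rw [pairing_negL C hL hb hr, h, neg_zero]
  exact mul_inv_eq_iff_eq_mul.2 (((comm_orth C hL hb hr h 1 z).mul_left
    (comm_orth C hL (C.neg_lt b) hr h' 1 z)).mul_left (comm_orth C hL hb hr h 1 z))

theorem nn_move {b r u : ℕ} (hb : b < D.nroots) (hr : r < D.nroots) (h : ad D b r = some u) (z : F) :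
    nn C b * xg C r z * (nn C b)⁻¹ = xg C u z ∧ nn C b * xg C u z * (nn C b)⁻¹ = xg C r z := by
  obtain ⟨-, hu, hp, hcoef⟩ := ad_coef C hL hb h
  have hnb := C.neg_lt b
  have hbu : D.pairing b u = 1 := by rw [pairing_add C hL hb h, C.pair_self b hb, hp]; norm_num
  have hru : D.pairing r u = 1 := by
    rw [pairing_add C hL hb h, pairing_m1_symm C hL hb hr hp, C.pair_self r hr]; norm_num
  have hnu : ad D (D.neg b) u = some r := by
    obtain ⟨v, hv⟩ := Option.isSome_iff_exists.1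
      ((ad_some C hL hnb).2 ⟨hu, by rw [pairing_negL C hL hb hu, hbu]⟩)
    obtain ⟨-, hv', -, hvc⟩ := ad_coef C hL hnb hv
    rw [hv, eq_of_coef C hL hv' hr fun j hj => by rw [hvc j hj, hcoef j hj, C.coef_neg b j hb hj]; ring]
  have n1 : ad D (D.neg b) r = none :=
    ad_none C hL hnb (by rw [pairing_negL C hL hb hr, hp]; norm_num)
  have e1 : r ≠ D.neg (D.neg b) := by
    rw [neg_neg' C hb]; rintro rfl; rw [C.pair_self _ hb] at hp; omega
  have e2 : u ≠ D.neg b := fun e => by rw [e, pairing_negR C hL hb, C.pair_self b hb] at hbu; omega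
  have e3 : u ≠ D.neg r := fun e => by rw [e, pairing_negR C hL hr, C.pair_self r hr] at hru; omega
  have cb : xg C b (1 : F) * xg C r z * (xg C b 1)⁻¹ = xg C r z * xg C u z := by
    rw [conj_some C hL hb hr h, one_mul]
  have cbu : xg C b (1 : F) * xg C u z * (xg C b 1)⁻¹ = xg C u z :=
    conj_none C hL hb hu e2 (ad_none C hL hb (by rw [hbu]; norm_num)) _ _
  have cn : xg C (D.neg b) (1 : F) * xg C r z * (xg C (D.neg b) 1)⁻¹ = xg C r z :=
    conj_none C hL hnb hr e1 n1 _ _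
  have cnu : xg C (D.neg b) (1 : F) * xg C u z * (xg C (D.neg b) 1)⁻¹ = xg C u z * xg C r z := by
    rw [conj_some C hL hnb hu hnu, one_mul]
  have cru : Commute (xg C r z) (xg C u z) :=
    comm_none C hL hr hu e3 (ad_none C hL hr (by rw [hru]; norm_num)) z z
  have first : nn C b * xg C r z * (nn C b)⁻¹ = xg C u z := by
    have e : nn C b * xg C r z * (nn C b)⁻¹ = MulAut.conj (xg C b (1 : F))
        (MulAut.conj (xg C (D.neg b) (1 : F)) (MulAut.conj (xg C b (1 : F)) (xg C r z))) := by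
      simp [nn, mul_assoc]
    rw [e]
    simp only [MulAut.conj_apply] at *
    rw [cb]
    rw [show xg C (D.neg b) (1 : F) * (xg C r z * xg C u z) * (xg C (D.neg b) 1)⁻¹ =
        (xg C (D.neg b) (1 : F) * xg C r z * (xg C (D.neg b) 1)⁻¹) *
          (xg C (D.neg b) (1 : F) * xg C u z * (xg C (D.neg b) 1)⁻¹) by group, cn, cnu,
      show xg C r z * (xg C u z * xg C r z) = xg C u z by
        rw [← mul_assoc, cru.eq, mul_assoc, xg_sq C r z, mul_one], cbu]
  refine ⟨first, ?_⟩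
  rw [← first]
  have hsq : nn C (F := F) b * nn C b = 1 := by
    unfold nn
    rw [show ∀ A B : GL D.Idx F, A * B * A * (A * B * A) = A * B * (A * A) * B * A from
      fun A B => by simp only [mul_assoc], xg_sq C b (1 : F), mul_one, mul_assoc (xg C b (1 : F)),
      xg_sq C (D.neg b) (1 : F), mul_one, xg_sq C b (1 : F)]
  have hinv : (nn C (F := F) b)⁻¹ = nn C b := inv_eq_of_mul_eq_one_right hsq
  rw [hinv]
  calc nn C b * (nn C b * xg C r z * nn C b) * nn C b
      = (nn C b * nn C b) * xg C r z * (nn C b * nn C b) := by simp only [mul_assoc]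
    _ = xg C r z := by rw [hsq, one_mul, mul_one]

/-- a conjugate has a non-zero coefficient at an indecomposable root -/
theorem to_indec {S : Finset ℕ} {w : GL D.Idx F} (hw : w ∈ US C (Psi D S)) (hw1 : w ≠ 1) :
    ∃ g ∈ Lev C S, ∃ k ∈ Psi D S, Indec D (Psi D S) k ∧ ∃ t : F, t ≠ 0 ∧
      ∃ v ∈ US C ((Psi D S).erase k), g * w * g⁻¹ = xg C k t * v := by
  obtain ⟨k, hk, t, ht, v, hv, rfl⟩ :=
    leading C hL (fun r hr => Psi_pos C hL hr) (Psi_closed C hL S) hw hw1
  by_cases hi : Indec D (Psi D S) k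
  · exact ⟨1, one_mem _, k, hk, hi, t, ht, v, US_mono C hL (fun s hs => Finset.mem_erase.2
      ⟨(Finset.mem_filter.1 hs).2.ne', (Finset.mem_filter.1 hs).1⟩) hv, by simp⟩
  have hex : ∃ c, c ∈ Psi D S ∧ ∃ b ∈ Psi D S, ad D b c = some k := by
    simp only [Indec] at hi
    push Not at hi
    obtain ⟨a, ha, b, hb, hab⟩ := hi
    exact ⟨b, hb, a, ha, hab⟩
  classical
  obtain ⟨hc, b, hb, hbc⟩ := Nat.find_spec hex
  set c := Nat.find hex with hcdef
  have hb' := Psi_pos C hL hb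
  have hc' := Psi_pos C hL hc
  have hk' := Psi_pos C hL hk
  have hpbc := (ad_coef C hL hb'.2 hbc).2.2.1
  have hci : Indec D (Psi D S) c := by
    have aux : ∀ c₁ ∈ Psi D S, ∀ c₂ ∈ Psi D S, ad D c₁ c₂ = some c → D.pairing b c₁ ≠ -1 := by
      intro c₁ h1 c₂ h2 h12 hp
      have h1' := Psi_pos C hL h1
      have h2' := Psi_pos C hL h2
      obtain ⟨e, he⟩ := Option.isSome_iff_exists.1 ((ad_some C hL hb'.2).2 ⟨h1'.2, hp⟩)
      obtain ⟨-, he', -, hec⟩ := ad_coef C hL hb'.2 he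
      have hpe : D.pairing e c₂ = -1 := by
        rw [pairing_symm C hL he' h2'.2, pairing_add C hL hb'.2 he, pairing_symm C hL h2'.2 hb'.2,
          pairing_symm C hL h2'.2 h1'.2]
        have := pairing_add C hL (k := b) h1'.2 h12
        have := (ad_coef C hL h1'.2 h12).2.2.1
        omega
      obtain ⟨k', hk2⟩ := Option.isSome_iff_exists.1 ((ad_some C hL he').2 ⟨h2'.2, hpe⟩)
      obtain ⟨-, hk2', -, hkc⟩ := ad_coef C hL he' hk2
      obtain rfl : k' = k := eq_of_coef C hL hk2' hk'.2 fun j hj => by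
        rw [hkc j hj, hec j hj, (ad_coef C hL hb'.2 hbc).2.2.2 j hj, (ad_coef C hL h1'.2 h12).2.2.2 j hj]; ring
      exact Nat.find_min hex (sum_pos C hL h1' h2' h12).2.2
        ⟨h2, e, Psi_closed C hL S b hb c₁ h1 e he, hk2⟩
    intro c₁ h1 c₂ h2 h12
    have h1' := Psi_pos C hL h1
    have h2' := Psi_pos C hL h2
    have hs := pairing_add C hL (k := b) h1'.2 h12
    have n1 := aux c₁ h1 c₂ h2 h12
    have n2 := aux c₂ h2 c₁ h1 (ad_comm C hL h1'.2 h12)
    rcases bound_pos C hL hb' h1' with ⟨-, p1⟩ | p1 <;> rcases bound_pos C hL hb' h2' with ⟨-, p2⟩ | p2 <;> omega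
  have hbk := (sum_pos C hL hb' hc' hbc).2.1
  have hck := (sum_pos C hL hb' hc' hbc).2.2
  have hg : nn C (F := F) b ∈ Lev C S := by
    have hbo := (mem_Psi.1 hb).2
    refine mul_mem (mul_mem (mem_Lev C hL hb'.2 hbo 1) (mem_Lev C hL (C.neg_lt b) (fun s hs => ?_) 1))
      (mem_Lev C hL hb'.2 hbo 1)
    rw [pairing_negR C hL hb'.2, hbo s hs, neg_zero]
  refine ⟨nn C b, hg, c, hc, hci, t, ht, nn C b * v * (nn C b)⁻¹, ?_, ?_⟩
  · refine Sys.conj_closure_le (T := {g : GL D.Idx F | ∃ r ∈ (Psi D S).filter (k < ·), ∃ c : F, g = xg C r c})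
      _ ?_ hv
    rintro x ⟨r, hr, z, rfl⟩
    obtain ⟨hrP, hkr⟩ := Finset.mem_filter.1 hr
    have hr' := Psi_pos C hL hrP
    rcases bound_pos C hL hb' hr' with ⟨e, -⟩ | hp
    · omega
    rcases show D.pairing b r = -1 ∨ D.pairing b r = 0 ∨ D.pairing b r = 1 by omega with e | e | e
    · obtain ⟨u, hu⟩ := Option.isSome_iff_exists.1 ((ad_some C hL hb'.2).2 ⟨hr'.2, e⟩)
      rw [(nn_move C hL hb'.2 hr'.2 hu z).1]
      have := (sum_pos C hL hb' hr' hu).2.2
      exact mem_US C hL (Finset.mem_erase.2 ⟨by omega, Psi_closed C hL S b hb r hrP u hu⟩) z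
    · rw [nn_fix C hL hb'.2 hr'.2 e]
      exact mem_US C hL (Finset.mem_erase.2 ⟨by omega, hrP⟩) z
    · obtain ⟨d, hd, hbd⟩ := Psi_sub C hL hb hrP e (by omega)
      have hd' := Psi_pos C hL hd
      rw [(nn_move C hL hb'.2 hd'.2 hbd z).2]
      refine mem_US C hL (Finset.mem_erase.2 ⟨fun e => ?_, hd⟩) z
      rw [e, hbc] at hbd
      have := Option.some.inj hbd
      omega
  · rw [← (nn_move C hL hb'.2 hc'.2 hbc t).2]; group

theorem kill_step {S : Finset ℕ} {k : ℕ} (hk : k ∈ Psi D S) {t : F} (ht : t ≠ 0) :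
    ∀ (Q : Finset ℕ), Q ⊆ Psi D S → k ∉ Q → Closed D Q →
      (∀ r ∈ Q, ∀ u, ad D k r = some u → u ∈ Q) →
      (∀ r ∈ Q, D.pairing k r = 1 → ∃ s ∈ Q, ad D k s = some r) →
      (∀ r ∈ Psi D (insert k S), r ∈ Q) →
      ∀ v ∈ US C Q, (xg C k t * v) * (xg C k t * v) = 1 →
        ∃ g ∈ Lev C S, ∃ v' ∈ US C (Psi D (insert k S)), g * (xg C k t * v) * g⁻¹ = xg C k t * v' := by
  intro Q
  induction Q using Finset.strongInduction with
  | H Q ih =>
    intro hQ hkQ hc hup hdown hO v hv hinv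
    have hk' := Psi_pos C hL hk
    have hp : ∀ r ∈ Q, D.nroots / 2 ≤ r ∧ r < D.nroots := fun r hr => Psi_pos C hL (hQ hr)
    have hbd : ∀ r ∈ Q, -1 ≤ D.pairing k r ∧ D.pairing k r ≤ 1 := fun r hr => by
      rcases bound_pos C hL hk' (hp r hr) with ⟨e, -⟩ | h
      · exact absurd (e ▸ hr) hkQ
      · exact h
    by_cases hN : (Q.filter fun r => D.pairing k r = -1).Nonempty
    swap
    · refine ⟨1, one_mem _, v, US_mono C hL (fun r hr => ?_) hv, by simp⟩
      rw [Finset.not_nonempty_iff_eq_empty, Finset.filter_eq_empty_iff] at hN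
      have h0 : D.pairing k r = 0 := by
        rcases show D.pairing k r = -1 ∨ D.pairing k r = 0 ∨ D.pairing k r = 1 by have := hbd r hr; omega
          with e | e | e
        · exact absurd e (hN hr)
        · exact e
        · obtain ⟨s, hs, hks⟩ := hdown r hr e
          exact absurd (ad_coef C hL hk'.2 hks).2.2.1 (hN hs)
      obtain ⟨h1, h2⟩ := mem_Psi.1 (hQ hr)
      refine mem_Psi.2 ⟨h1, fun s hs => ?_⟩
      rcases Finset.mem_insert.1 hs with rfl | hs
      · exact h0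
      · exact h2 s hs
    obtain ⟨r, hrN, hmin⟩ := Finset.exists_min_image _ (fun r => key C r) hN
    rw [Finset.mem_filter] at hrN
    obtain ⟨hrQ, hkr⟩ := hrN
    have hr' := hp r hrQ
    have hmin' : ∀ s ∈ Q, D.pairing k s = -1 → key C r ≤ key C s :=
      fun s hs e => hmin s (Finset.mem_filter.2 ⟨hs, e⟩)
    obtain ⟨m, hm⟩ := Option.isSome_iff_exists.1 ((ad_some C hL hk'.2).2 ⟨hr'.2, hkr⟩)
    have hmQ := hup r hrQ m hm
    have hm' := hp m hmQ
    have hkm : D.pairing k m = 1 := by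
      rw [pairing_add C hL hk'.2 hm, C.pair_self k hk'.2, hkr]; norm_num
    have hrm : r ≠ m := fun e => by rw [e] at hkr; omega
    have hkeym := key_add C hL hk'.2 hm
    have hir : Indec D Q r := by
      intro a ha b hb hab
      have h1 := pairing_add C hL (k := k) (hp a ha).2 hab
      have := key_add C hL (hp a ha).2 hab
      have := key_posR C hL (hp a ha)
      have := key_posR C hL (hp b hb)
      rcases show D.pairing k a = -1 ∨ D.pairing k b = -1 by have := hbd a ha; have := hbd b hb; omega with e | e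
      · have := hmin' a ha e; omega
      · have := hmin' b hb e; omega
    have him : Indec D Q m := by
      intro a ha b hb hab
      have h1 := pairing_add C hL (k := k) (hp a ha).2 hab
      have := key_add C hL (hp a ha).2 hab
      have := key_posR C hL (hp a ha)
      have := key_posR C hL (hp b hb)
      rcases show D.pairing k a = 1 ∨ D.pairing k b = 1 by have := hbd a ha; have := hbd b hb; omega with e | e
      · obtain ⟨s, hs, hks⟩ := hdown a ha e
        have := key_add C hL hk'.2 hks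
        have := hmin' s hs (ad_coef C hL hk'.2 hks).2.2.1
        omega
      · obtain ⟨s, hs, hks⟩ := hdown b hb e
        have := key_add C hL hk'.2 hks
        have := hmin' s hs (ad_coef C hL hk'.2 hks).2.2.1
        omega
    have hc1 := closed_erase C hL hc hir
    have him1 : Indec D (Q.erase r) m := fun a ha b hb =>
      him a (Finset.mem_of_mem_erase ha) b (Finset.mem_of_mem_erase hb)
    set Q' := (Q.erase r).erase m with hQ'def
    have hc2 : Closed D Q' := closed_erase C hL hc1 him1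
    have hsub : ∀ s ∈ Q', s ∈ Q := fun s hs => Finset.mem_of_mem_erase (Finset.mem_of_mem_erase hs)
    have mem' : ∀ s, s ∈ Q' ↔ s ≠ m ∧ s ≠ r ∧ s ∈ Q := fun s => by simp [hQ'def]
    have hup' : ∀ s ∈ Q', ∀ u, ad D k s = some u → u ∈ Q' := by
      intro s hs u hu
      rw [mem'] at hs ⊢
      refine ⟨fun e => hs.2.1 ?_, fun e => ?_, hup s hs.2.2 u hu⟩
      · have := key_add C hL hk'.2 hu
        rw [e, hkeym] at this
        exact key_inj C hL (hp s hs.2.2).2 hr'.2 (by omega)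
      · have := pairing_add C hL (k := k) hk'.2 hu
        rw [e, hkr, C.pair_self k hk'.2] at this
        have := hbd s hs.2.2
        omega
    have hdown' : ∀ s ∈ Q', D.pairing k s = 1 → ∃ a ∈ Q', ad D k a = some s := by
      intro s hs h
      rw [mem'] at hs
      obtain ⟨a, ha, hka⟩ := hdown s hs.2.2 h
      refine ⟨a, (mem' a).2 ⟨fun e => ?_, fun e => ?_, ha⟩, hka⟩
      · have := (ad_coef C hL hk'.2 hka).2.2.1
        rw [e] at this; omega
      · rw [e, hm] at hka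
        exact hs.1 (Option.some.inj hka).symm
    have hO' : ∀ s ∈ Psi D (insert k S), s ∈ Q' := by
      intro s hs
      have h0 := (mem_Psi.1 hs).2 k (Finset.mem_insert_self k S)
      exact (mem' s).2 ⟨fun e => by rw [e] at h0; omega, fun e => by rw [e] at h0; omega, hO s hs⟩
    have nk : ∀ (a : F) h, h ∈ US C Q' → xg C k a * h * (xg C k a)⁻¹ ∈ US C Q' := fun a h hh =>
      conj_US C hL hk'.2
        (fun s hs => ⟨(hp s (hsub s hs)).2, ne_neg C hL hk' (hp s (hsub s hs)), hup' s hs⟩) a hh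
    have nrm : ∀ x, x = r ∨ x = m → ∀ (a : F) h, h ∈ US C Q' →
        xg C x a * h * (xg C x a)⁻¹ ∈ US C Q' := by
      intro x hx a h hh
      have hxQ : x ∈ Q := by rcases hx with rfl | rfl <;> assumption
      refine conj_US C hL (hp x hxQ).2 (fun s hs => ⟨(hp s (hsub s hs)).2,
        ne_neg C hL (hp x hxQ) (hp s (hsub s hs)), fun u hu => (mem' u).2
          ⟨fun e => him x hxQ s (hsub s hs) (e ▸ hu), fun e => hir x hxQ s (hsub s hs) (e ▸ hu),
            hc x hxQ s (hsub s hs) u hu⟩⟩) a hh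
    obtain ⟨c, v1, hv1, rfl⟩ := split C hL hp hrQ hc hir hv
    obtain ⟨e, h, hh, rfl⟩ := split C hL (fun s hs => hp s (Finset.mem_of_mem_erase hs))
      (Finset.mem_erase.2 ⟨hrm.symm, hmQ⟩) hc1 him1 hv1
    have hrk : ad D r k = some m := ad_comm C hL hk'.2 hm
    have hrmp : D.pairing r m = 1 := by
      rw [pairing_add C hL hk'.2 hm, C.pair_self r hr'.2, pairing_m1_symm C hL hk'.2 hr'.2 hkr]; norm_num
    have crm : ∀ a b : F, Commute (xg C r a) (xg C m b) := fun a b =>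
      comm_none C hL hr'.2 hm'.2 (ne_neg C hL hr' hm') (ad_none C hL hr'.2 (by omega)) a b
    have ckm : ∀ a b : F, Commute (xg C k a) (xg C m b) := fun a b =>
      comm_none C hL hk'.2 hm'.2 (ne_neg C hL hk' hm') (ad_none C hL hk'.2 (by omega)) a b
    have ekr := conj_some C hL hk'.2 hr'.2 hm t c
    set K := xg C k t with hK
    set X := xg C r c with hX
    set M := xg C m e with hM
    have hKK : K⁻¹ = K := xg_inv_two C k t
    have hc0 : c = 0 := by
      have h1 : K * (X * (M * h)) * K = (X * (M * h))⁻¹ := by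
        rw [eq_inv_iff_mul_eq_one, ← hinv]; simp only [mul_assoc]
      have h2 : K * (X * (M * h)) * K = X * xg C m (t * c + e) * (K * h * K⁻¹) := by
        rw [← xg_mul, ← hM]
        calc K * (X * (M * h)) * K = K * (X * (M * h)) * K⁻¹ := by rw [hKK]
          _ = (K * X * K⁻¹) * ((K * M * K⁻¹) * (K * h * K⁻¹)) := by group
          _ = _ := by rw [ekr, mul_inv_eq_iff_eq_mul.2 (ckm t e).eq]; simp only [hM, mul_assoc]
      have h3 : (X * (M * h))⁻¹ = X * M * ((X * M)⁻¹ * h⁻¹ * (X * M)) := by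
        have : (X * M)⁻¹ = X * M := by
          rw [mul_inv_rev, xg_inv_two C r c, xg_inv_two C m e, (crm c e).eq]
        rw [← mul_assoc X M h, mul_inv_rev, ← mul_assoc (X * M) _ (X * M), ← mul_assoc (X * M), mul_inv_cancel,
          one_mul, this]
      have hin : (X * M)⁻¹ * h⁻¹ * (X * M) ∈ US C Q' := by
        have := nrm m (Or.inr rfl) e _ (nrm r (Or.inl rfl) c _ (inv_mem hh))
        simpa [xg_inv_two, hX, hM, mul_assoc] using this
      rw [h2, h3, mul_assoc X, mul_assoc X M, mul_right_inj] at h1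
      have h4 : xg C m (t * c) ∈ US C Q' := by
        have e1 : M * xg C m (t * c + e) = xg C m (t * c) := by
          rw [hM, xg_mul, add_left_comm, CharTwo.add_self_eq_zero, add_zero]
        have h5 : xg C m (t * c) * (K * h * K⁻¹) = (X * M)⁻¹ * h⁻¹ * (X * M) := by
          rw [← e1, mul_assoc, h1, ← mul_assoc, show M * M = 1 from xg_sq C m e, one_mul]
        exact (Subgroup.mul_mem_cancel_right _ (nk t h hh)).1 (h5 ▸ hin)
      rcases mul_eq_zero.1 (notin_US C hL (fun s hs => hp s (hsub s hs)) hc2 hm'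
        (fun hs => ((mem' m).1 hs).1 rfl) h4) with h | h
      · exact absurd h ht
      · exact h
    have hX1 : X = 1 := by rw [hX, hc0, xg_zero]
    rw [hX1, one_mul] at hinv ⊢
    set g := xg C r (e / t) with hg
    have hgL : g ∈ Lev C S := mem_Lev C hL hr'.2 (mem_Psi.1 (hQ hrQ)).2 _
    have hconj : g * (K * (M * h)) * g⁻¹ = K * (g * h * g⁻¹) := by
      calc g * (K * (M * h)) * g⁻¹ = (g * K * g⁻¹) * (g * M * g⁻¹) * (g * h * g⁻¹) := by group
        _ = _ := by
          rw [hg, hK, conj_some C hL hr'.2 hk'.2 hrk, div_mul_cancel₀ _ ht, hM,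
            mul_inv_eq_iff_eq_mul.2 (crm (e / t) e).eq, mul_assoc (xg C k t), xg_sq C m e, mul_one]
    obtain ⟨g', hg', v', hv', heq⟩ := ih Q' (Finset.ssubset_iff_of_subset (fun s hs => hsub s hs) |>.2
        ⟨r, hrQ, fun hs => ((mem' r).1 hs).2.1 rfl⟩) (fun s hs => hQ (hsub s hs))
      (fun hs => hkQ (hsub k hs)) hc2 hup' hdown' hO' _ (nrm r (Or.inl rfl) (e / t) h hh) (by
        rw [← hconj]
        calc g * (K * (M * h)) * g⁻¹ * (g * (K * (M * h)) * g⁻¹)
            = g * (K * (M * h) * (K * (M * h))) * g⁻¹ := by group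
          _ = 1 := by rw [hinv, mul_one, mul_inv_cancel])
    exact ⟨g' * g, mul_mem hg' hgL, v', hv', by rw [← heq, ← hconj]; group⟩

theorem kill {S : Finset ℕ} {k : ℕ} (hk : k ∈ Psi D S) (hi : Indec D (Psi D S) k) {t : F} (ht : t ≠ 0)
    {v : GL D.Idx F} (hv : v ∈ US C ((Psi D S).erase k)) (h2 : (xg C k t * v) * (xg C k t * v) = 1) :
    ∃ g ∈ Lev C S, ∃ v' ∈ US C (Psi D (insert k S)), g * (xg C k t * v) * g⁻¹ = xg C k t * v' := by
  have hk' := Psi_pos C hL hk
  refine kill_step C hL hk ht _ (Finset.erase_subset _ _) (Finset.notMem_erase _ _)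
    (closed_erase C hL (Psi_closed C hL S) hi) ?_ ?_ ?_ v hv h2
  · intro r hr u hu
    have hr' := Psi_pos C hL (Finset.mem_of_mem_erase hr)
    exact Finset.mem_erase.2 ⟨(sum_pos C hL hk' hr' hu).2.1.ne',
      Psi_closed C hL S k hk r (Finset.mem_of_mem_erase hr) u hu⟩
  · intro r hr h
    have hrP := Finset.mem_of_mem_erase hr
    have hr' := Psi_pos C hL hrP
    rcases lt_or_gt_of_ne (Finset.ne_of_mem_erase hr) with e | e
    · obtain ⟨c, hc, hrc⟩ := Psi_sub C hL hrP hk (by rw [pairing_symm C hL hr'.2 hk'.2, h]) e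
      exact absurd hrc (hi r hrP c hc)
    · obtain ⟨c, hc, hkc⟩ := Psi_sub C hL hk hrP h e
      refine ⟨c, Finset.mem_erase.2 ⟨fun e => ?_, hc⟩, hkc⟩
      have := (ad_coef C hL hk'.2 hkc).2.2.1
      rw [e, C.pair_self k hk'.2] at this
      omega
  · intro r hr
    obtain ⟨h1, h2⟩ := mem_Psi.1 hr
    refine Finset.mem_erase.2 ⟨fun e => ?_, mem_Psi.2 ⟨h1, fun s hs => h2 s (Finset.mem_insert_of_mem hs)⟩⟩
    have := h2 k (Finset.mem_insert_self _ _)
    rw [e, C.pair_self k hk'.2] at this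
    omega

/-- product of root elements with parameter one -/
def lp (T : List ℕ) : GL D.Idx F := (T.map fun r => xg C r (1 : F)).prod

theorem exists_orth [Fintype F] : ∀ (S : Finset ℕ) (w : GL D.Idx F), w ∈ US C (Psi D S) → w * w = 1 →
    ∃ g ∈ Lev C S, ∃ T : List ℕ, T.Nodup ∧ (∀ r ∈ T, r ∈ Psi D S) ∧
      T.Pairwise (fun a b => D.pairing a b = 0) ∧ g * w * g⁻¹ = lp C T := by
  suffices H : ∀ n (S : Finset ℕ), (Psi D S).card = n → ∀ w : GL D.Idx F, w ∈ US C (Psi D S) → w * w = 1 →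
      ∃ g ∈ Lev C S, ∃ T : List ℕ, T.Nodup ∧ (∀ r ∈ T, r ∈ Psi D S) ∧
        T.Pairwise (fun a b => D.pairing a b = 0) ∧ g * w * g⁻¹ = lp C T from fun S => H _ S rfl
  intro n
  induction n using Nat.strong_induction_on with
  | _ n ih =>
    intro S hn w hw h2
    by_cases hw1 : w = 1
    · exact ⟨1, one_mem _, [], List.nodup_nil, by simp, List.Pairwise.nil, by simp [hw1, lp]⟩
    obtain ⟨g1, hg1, k, hk, hi, t, ht, v, hv, e1⟩ := to_indec C hL hw hw1
    have hinv : (xg C k t * v) * (xg C k t * v) = 1 := by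
      rw [← e1]
      calc g1 * w * g1⁻¹ * (g1 * w * g1⁻¹) = g1 * (w * w) * g1⁻¹ := by group
        _ = 1 := by rw [h2, mul_one, mul_inv_cancel]
    obtain ⟨g2, hg2, v', hv', e2⟩ := kill C hL hk hi ht hv hinv
    have hk' := Psi_pos C hL hk
    have hsub : Psi D (insert k S) ⊆ Psi D S := fun r hr =>
      mem_Psi.2 ⟨(mem_Psi.1 hr).1, fun s hs => (mem_Psi.1 hr).2 s (Finset.mem_insert_of_mem hs)⟩
    have hlt : (Psi D (insert k S)).card < n := by
      rw [← hn]
      refine Finset.card_lt_card (Finset.ssubset_iff_of_subset hsub |>.2 ⟨k, hk, fun h => ?_⟩)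
      have := (mem_Psi.1 h).2 k (Finset.mem_insert_self _ _)
      rw [C.pair_self k hk'.2] at this
      omega
    have cv : Commute (xg C k t) v' := by
      have hle : US C (F := F) (Psi D (insert k S)) ≤ Lev C (insert k S) :=
        Subgroup.closure_mono fun x ⟨r, hr, c, e⟩ => ⟨r, (mem_Psi.1 hr).1.2, (mem_Psi.1 hr).2, c, e⟩
      exact Lev_comm C hL (Finset.mem_insert_self k S) hk'.2 t (hle hv')
    have hv2 : v' * v' = 1 := by
      have h : g2 * (xg C k t * v) * g2⁻¹ * (g2 * (xg C k t * v) * g2⁻¹) = 1 := by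
        calc g2 * (xg C k t * v) * g2⁻¹ * (g2 * (xg C k t * v) * g2⁻¹)
            = g2 * ((xg C k t * v) * (xg C k t * v)) * g2⁻¹ := by group
          _ = 1 := by rw [hinv, mul_one, mul_inv_cancel]
      rw [e2] at h
      calc v' * v' = xg C k t * xg C k t * (v' * v') := by rw [xg_sq C k t, one_mul]
        _ = xg C k t * (xg C k t * v') * v' := by simp only [mul_assoc]
        _ = xg C k t * (v' * xg C k t) * v' := by rw [cv.eq]
        _ = xg C k t * v' * (xg C k t * v') := by simp only [mul_assoc]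
        _ = 1 := h
    obtain ⟨g3, hg3, T, hnd, hT, hpw, e3⟩ := ih _ hlt (insert k S) rfl v' hv' hv2
    obtain ⟨c, hc⟩ : ∃ c : F, c ^ 2 = t⁻¹ :=
      (bijective_frobenius (R := F) (p := 2)).2 t⁻¹
    have hc0 : c ≠ 0 := fun e => inv_ne_zero ht (by rw [← hc, e]; norm_num)
    set d := hg C k c with hd
    have hdL : d ∈ Lev C S := by
      have hko := (mem_Psi.1 hk).2
      have hnk : ∀ s ∈ S, D.pairing s (D.neg k) = 0 := fun s hs => by
        rw [pairing_negR C hL hk'.2, hko s hs, neg_zero]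
      have hn1 : ∀ a : F, ng C k a ∈ Lev C S := fun a =>
        mul_mem (mul_mem (mem_Lev C hL hk'.2 hko a) (mem_Lev C hL (C.neg_lt k) hnk _)) (mem_Lev C hL hk'.2 hko a)
      exact mul_mem (hn1 c) (hn1 (-1))
    have hdk : d * xg C k t * d⁻¹ = xg C k 1 := by
      rw [hd, hg_conj_xg C hk'.2 hk'.2 hc0, mul_inv_cancel_right, C.pair_self k hk'.2, zpow_two, ← pow_two, hc,
        inv_mul_cancel₀ ht]
    have hdT : d * lp C T * d⁻¹ = lp C T := by
      have : ∀ r ∈ T, d * xg C r (1 : F) * d⁻¹ = xg C r 1 := fun r hr => by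
        rw [hd, hg_conj_xg C hk'.2 (mem_Psi.1 (hT r hr)).1.2 hc0, mul_inv_cancel_right,
          (mem_Psi.1 (hT r hr)).2 k (Finset.mem_insert_self _ _), zpow_zero, one_mul]
      rw [← MulAut.conj_apply, lp, map_list_prod, List.map_map]
      exact congrArg List.prod (List.map_congr_left fun r hr => this r hr)
    refine ⟨d * g3 * g2 * g1, mul_mem (mul_mem (mul_mem hdL (Lev_mono C hL (Finset.subset_insert k S) hg3)) hg2) hg1,
      k :: T, ?_, ?_, ?_, ?_⟩
    · refine List.nodup_cons.2 ⟨fun h => ?_, hnd⟩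
      have := (mem_Psi.1 (hT k h)).2 k (Finset.mem_insert_self _ _)
      rw [C.pair_self k hk'.2] at this
      omega
    · intro r hr
      rcases List.mem_cons.1 hr with rfl | hr
      · exact hk
      · exact hsub (hT r hr)
    · exact List.pairwise_cons.2 ⟨fun r hr => (mem_Psi.1 (hT r hr)).2 k (Finset.mem_insert_self _ _), hpw⟩
    · have c3 : g3 * xg C k t * g3⁻¹ = xg C k t :=
        mul_inv_eq_iff_eq_mul.2 (Lev_comm C hL (Finset.mem_insert_self k S) hk'.2 t hg3).symm.eq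
      calc d * g3 * g2 * g1 * w * (d * g3 * g2 * g1)⁻¹
          = d * (g3 * (g2 * (g1 * w * g1⁻¹) * g2⁻¹) * g3⁻¹) * d⁻¹ := by group
        _ = d * ((g3 * xg C k t * g3⁻¹) * (g3 * v' * g3⁻¹)) * d⁻¹ := by rw [e1, e2]; group
        _ = (d * xg C k t * d⁻¹) * (d * lp C T * d⁻¹) := by rw [c3, e3]; group
        _ = lp C (k :: T) := by rw [hdk, hdT]; simp [lp]

variable (S : Sys D F)

include S in
/-- every involution of the group is conjugate to a product over orthogonal positive roots -/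
theorem invol_orth [Fintype F] {x : GL D.Idx F} (hx : x ∈ D.group F) (hx2 : orderOf x = 2) :
    ∃ g ∈ D.group F, ∃ T : List ℕ, T ≠ [] ∧ T.Nodup ∧ (∀ r ∈ T, D.nroots / 2 ≤ r ∧ r < D.nroots) ∧
      T.Pairwise (fun a b => D.pairing a b = 0) ∧ g * x * g⁻¹ = lp C T := by
  haveI : Fact (Nat.Prime 2) := ⟨Nat.prime_two⟩
  obtain ⟨P, hP⟩ := ChevalleySylow.exists_sylow C S 2
  set y : ↥(D.group F) := ⟨x, hx⟩
  have hy : orderOf y = 2 := by rw [← Subgroup.orderOf_coe]; exact hx2
  have hpg : IsPGroup 2 ↥(Subgroup.zpowers y) :=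
    IsPGroup.of_card (n := 1) (by rw [Nat.card_zpowers, hy, pow_one])
  obtain ⟨Q, hQ⟩ := hpg.exists_le_sylow
  obtain ⟨h, hh⟩ := MulAction.exists_smul_eq ↥(D.group F) Q P
  have hmem : h * y * h⁻¹ ∈ (P : Subgroup ↥(D.group F)) := by
    rw [← hh, Sylow.coe_subgroup_smul, Subgroup.mem_pointwise_smul_iff_inv_smul_mem]
    simpa [MulAut.smul_def, MulAut.conj_inv_apply, mul_assoc] using hQ (Subgroup.mem_zpowers y)
  rw [hP, Subgroup.mem_subgroupOf] at hmem
  have hU : (h : GL D.Idx F) * x * (h : GL D.Idx F)⁻¹ ∈ US C (F := F) (Psi D ∅) := by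
    refine (show D.posUnipotent F ≤ US C (Psi D ∅) from le_of_eq ?_) hmem
    rw [US, ChevalleyDatum.posUnipotent]
    congr 1
    ext g
    constructor
    · rintro ⟨r, t, hr, hg⟩
      exact ⟨r, mem_Psi.2 ⟨(isPos C).1 hr, by simp⟩, t, (xg_eq_iff C).1 hg⟩
    · rintro ⟨r, hr, t, rfl⟩
      exact ⟨r, t, (isPos C).2 (mem_Psi.1 hr).1, coe_xg C r t⟩
  have hsq : x * x = 1 := by rw [← pow_two, ← hx2, pow_orderOf_eq_one]
  obtain ⟨g, hg, T, hnd, hT, hpw, he⟩ := exists_orth C hL ∅ _ hU (by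
    calc (h : GL D.Idx F) * x * (h : GL D.Idx F)⁻¹ * ((h : GL D.Idx F) * x * (h : GL D.Idx F)⁻¹)
        = (h : GL D.Idx F) * (x * x) * (h : GL D.Idx F)⁻¹ := by group
      _ = 1 := by rw [hsq, mul_one, mul_inv_cancel])
  refine ⟨g * h, mul_mem (Lev_le_group C hL ∅ hg) h.2, T, ?_, hnd, fun r hr => (mem_Psi.1 (hT r hr)).1, hpw,
    by rw [← he]; group⟩
  rintro rfl
  have h1 : x = 1 := by
    have : g * ((h : GL D.Idx F) * x * (h : GL D.Idx F)⁻¹) * g⁻¹ = 1 := by rw [he]; simp [lp]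
    rw [conj_eq_one_iff, conj_eq_one_iff] at this
    exact this
  simp [h1] at hx2

end Cfsg.Agent.InvolADE
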