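import Cfsg.Agent.Lib.InvolADEMoves

/-!
The rank of `g - 1` for a product of root elements with parameter one, from sparse certificates over the field
with two elements.
-/

set_option autoImplicit false
set_option linter.unusedSectionVars false

namespace Cfsg.Agent.InvolADE

open Cfsg.Lie Cfsg.Agent.ChevalleyEngine Cfsg.Agent.ChevalleyCert Cfsg.Agent.ChevalleyRoots
open Cfsg.Agent.ChevalleyCore Cfsg.Agent.ChevalleyExp
open scoped Matrix

variable {D : ChevalleyDatum}

/-- the image of a basis vector under `x_r(1)` modulo two, as a list of codes -/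
def colX (D : ChevalleyDatum) (r c : ℕ) : List ℕ :=
  if c < D.rank then c :: (if D.cartan c r % 2 = 0 then [] else [D.rank + r])
  else
    if c - D.rank = r then [c]
    else if c - D.rank = D.neg r then
      c :: (D.rank + r) :: (List.range D.rank).filter (fun j => cc D r j % 2 != 0)
    else c :: ((ad D r (c - D.rank)).map fun u => D.rank + u).toList

/-- the image of a basis vector under a product of root elements -/
def imgC (D : ChevalleyDatum) : List ℕ → ℕ → List ℕ
  | [], c => [c]
  | r :: T, c => (imgC D T c).flatMap (colX D r)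

/-- insert or cancel -/
def tog : ℕ → List ℕ → List ℕ
  | c, [] => [c]
  | c, a :: l => if c < a then c :: a :: l else if c = a then l else a :: tog c l

/-- cancel repetitions -/
def red (l : List ℕ) : List ℕ := l.foldr tog []

/-- a column of `g - 1` -/
def dcol (D : ChevalleyDatum) (T : List ℕ) (c : ℕ) : List ℕ := red (c :: imgC D T c)

/-- the parity of the pairing of two supports -/
def dotB (a b : List ℕ) : Bool := (a.map fun x => b.count x).sum % 2 == 1

/-- the certificate check -/
def rankB (D : ChevalleyDatum) (T : List ℕ) (P : List ℕ) (L : List (List ℕ)) (U : List (List ℕ)) : Bool :=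
  let cols := P.map (dcol D T)
  (T.all fun r => decide (r < D.nroots)) && (P.all fun c => decide (c < D.rank + D.nroots)) &&
    L.length == P.length && U.length == D.rank + D.nroots &&
    ((List.range (D.rank + D.nroots)).zip U).all (fun p =>
      dcol D T p.1 == red (p.2.flatMap fun i => cols.getD i [])) &&
    (L.zipIdx.all fun l => cols.zipIdx.all fun v => dotB l.1 v.1 == (l.2 == v.2))

variable (C : Cert D) (hL : laceOK D = true) {F : Type*} [Field F] [CharP F 2]

/-- the vector of a list of codes -/
def vec (D : ChevalleyDatum) (F : Type*) [Field F] (l : List ℕ) : D.Idx → F := fun q => (l.count (enc D q) : F)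

include C hL

theorem cast_odd (z : ℤ) : (z : F) = if z % 2 = 0 then 0 else 1 := by
  split
  · exact (CharP.intCast_eq_zero_iff F 2 z).2 (Int.dvd_of_emod_eq_zero ‹_›)
  · obtain ⟨m, rfl⟩ : ∃ m, z = 2 * m + 1 := ⟨z / 2, by omega⟩
    simp [CharTwo.two_eq_zero]

omit C hL in
theorem count_filter_range (n j : ℕ) (p : ℕ → Bool) :
    ((List.range n).filter p).count j = if j < n ∧ p j = true then 1 else 0 := by
  rw [List.Nodup.count ((List.nodup_range).filter _)]
  simp [List.mem_filter]

theorem entry_eq {r : ℕ} (hr : r < D.nroots) (q p : D.Idx) :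
    D.x F r 1 q p = ((colX D r (enc D p)).count (enc D q) : F) := by
  have co := cast_odd C hL (F := F)
  rw [x_eq_xR C hr]
  rcases p with i | s
  · rcases q with j | u
    · by_cases h : D.cartan i.val r % 2 = 0 <;>
        simp [xR, xm, castM, colX, enc, h, Matrix.one_apply, List.count_cons, i.isLt, Fin.ext_iff, show ¬ D.rank + r = j.val by omega] <;>
        split_ifs <;> first | rfl | omega
    · have hne : ¬ i.val = D.rank + u.val := by omega
      by_cases hu : u.val = r
      · subst hu
        by_cases h : D.cartan i.val u.val % 2 = 0 <;>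
          simp [xR, xm, castM, colX, enc, h, co, Matrix.one_apply, List.count_cons, i.isLt, hne, CharTwo.neg_eq]
      · by_cases h : D.cartan i.val r % 2 = 0 <;>
          simp [xR, xm, castM, colX, enc, h, hu, Matrix.one_apply, List.count_cons, i.isLt, hne, Ne.symm hu]
  · have hs : ¬ D.rank + s.val < D.rank := by omega
    by_cases h1 : s.val = r
    · rcases q with j | u
      · have : ¬ D.rank + s.val = j.val := by omega
        simp [xR, xm, castM, colX, enc, h1, Matrix.one_apply, List.count_cons, show D.rank + r ≠ j.val by omega]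
      · simp [xR, xm, castM, colX, enc, h1, Matrix.one_apply, List.count_cons, Fin.ext_iff]
        split_ifs <;> first | rfl | omega
    by_cases h2 : s.val = D.neg r
    · have hne : r ≠ D.neg r := fun e => neg_ne C hr e.symm
      rcases q with j | u
      · by_cases h : cc D r j.val % 2 = 0 <;>
          simp [xR, xm, castM, colX, enc, h1, h2, h, co, hne.symm, Matrix.one_apply, List.count_cons,
            count_filter_range, show D.rank + D.neg r ≠ j.val by omega, show D.rank + r ≠ j.val by omega]
      · have hc : ((List.range D.rank).filter (fun j => cc D r j % 2 != 0)).count (D.rank + u.val) = 0 := by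
          rw [count_filter_range]; simp
        have hc' : u.val = r → ((List.range D.rank).filter (fun j => cc D r j % 2 != 0)).count (D.rank + r) = 0 := fun e => e ▸ hc
        by_cases hu : u.val = r
        · simp [xR, xm, castM, colX, enc, h1, h2, hu, hne, hne.symm, hc' hu, Matrix.one_apply, List.count_cons, Fin.ext_iff,
            CharTwo.neg_eq]
        · simp [xR, xm, castM, colX, enc, h1, h2, hu, Ne.symm hu, hne, hne.symm, hc, Matrix.one_apply, List.count_cons, Fin.ext_iff]
          split_ifs <;> first | rfl | omega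
    rcases entry_spec hL hr s.val with ⟨e, -⟩ | ⟨v, M, e, hM, -, hp⟩
    · rcases q with j | u <;>
        simp [xR, xm, castM, colX, enc, ad, hdN, h1, h2, e, ChevalleyDatum.chainRoot, Matrix.one_apply,
          List.count_cons, Fin.ext_iff] <;> (try split_ifs) <;> first | rfl | omega
    · have hM1 : (M : F) = 1 := by rw [co, if_neg hM]
      have hvs : v ≠ s.val := by
        intro hvs
        have h := key_add C hL (r := r) (s := s.val) (u := v) hr (by simp [ad, hdN, e])
        rw [hvs] at h
        exact key_ne_zero C hr (by omega)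
      rcases q with j | u
      · simp [xR, xm, castM, colX, enc, ad, hdN, h1, h2, e, ChevalleyDatum.chainRoot, Matrix.one_apply,
          List.count_cons, show D.rank + s.val ≠ j.val by omega, show D.rank + v ≠ j.val by omega]
      · by_cases hu : u.val = v
        · simp [xR, xm, castM, colX, enc, ad, hdN, h1, h2, e, hu, hM1, hvs, hvs.symm, ChevalleyDatum.chainRoot,
            ChevalleyDatum.chainM, Matrix.one_apply, List.count_cons, Fin.ext_iff]
        · simp [xR, xm, castM, colX, enc, ad, hdN, h1, h2, e, hu, Ne.symm hu, ChevalleyDatum.chainRoot,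
            ChevalleyDatum.chainM, Matrix.one_apply, List.count_cons, Fin.ext_iff]
          split_ifs <;> first | rfl | omega

omit C hL in
theorem vec_cons (a : ℕ) (l : List ℕ) : vec D F (a :: l) = vec D F [a] + vec D F l := by
  funext q
  simp [vec, List.count_cons, add_comm]

omit C hL in
theorem vec_append (a b : List ℕ) : vec D F (a ++ b) = vec D F a + vec D F b := by
  funext q; simp [vec, List.count_append]

omit C hL in
theorem vec_enc (p : D.Idx) : vec D F [enc D p] = Pi.single p 1 := by
  funext q
  by_cases h : q = p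
  · subst h; simp [vec]
  · have : enc D p ≠ enc D q := fun e => h (enc_injective D e).symm
    simp [vec, List.count_cons, this, Pi.single_apply, h]

omit C hL in
theorem exists_enc {c : ℕ} (h : c < D.rank + D.nroots) : ∃ p : D.Idx, enc D p = c := by
  by_cases h' : c < D.rank
  · exact ⟨Sum.inl ⟨c, h'⟩, rfl⟩
  · exact ⟨Sum.inr ⟨c - D.rank, by omega⟩, by simp [enc]; omega⟩

theorem colX_lt {r c : ℕ} (hr : r < D.nroots) (hc : c < D.rank + D.nroots) :
    ∀ x ∈ colX D r c, x < D.rank + D.nroots := by
  intro x hx
  rw [colX] at hx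
  split_ifs at hx with h1 h2 h3 h4 <;> simp at hx
  · omega
  · omega
  · omega
  · rcases hx with rfl | rfl | ⟨h, -⟩ <;> omega
  · rcases hx with rfl | ⟨u, hu, rfl⟩
    · omega
    · have := (ad_coef C hL hr hu).2.1; omega

theorem mulVec_vec {r : ℕ} (hr : r < D.nroots) : ∀ l : List ℕ, (∀ c ∈ l, c < D.rank + D.nroots) →
    D.x F r 1 *ᵥ vec D F l = vec D F (l.flatMap (colX D r)) := by
  intro l
  induction l with
  | nil => intro _; funext q; simp [vec, Matrix.mulVec, dotProduct]
  | cons a l ih =>
    intro hl
    obtain ⟨p, rfl⟩ := exists_enc (hl a List.mem_cons_self)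
    rw [vec_cons, Matrix.mulVec_add, ih fun c hc => hl c (List.mem_cons_of_mem _ hc), List.flatMap_cons, vec_append,
      vec_enc, Matrix.mulVec_single_one]
    congr 1
    funext q
    exact entry_eq C hL hr q p

theorem imgC_spec : ∀ T : List ℕ, (∀ r ∈ T, r < D.nroots) → ∀ c, c < D.rank + D.nroots →
    ((lp C (F := F) T : GL D.Idx F) : Matrix D.Idx D.Idx F) *ᵥ vec D F [c] = vec D F (imgC D T c) ∧
      ∀ x ∈ imgC D T c, x < D.rank + D.nroots := by
  intro T
  induction T with
  | nil => intro _ c hc; simp [lp, imgC, hc]
  | cons r T ih =>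
    intro hT c hc
    have hr := hT r List.mem_cons_self
    obtain ⟨h1, h2⟩ := ih (fun s hs => hT s (List.mem_cons_of_mem _ hs)) c hc
    refine ⟨?_, fun x hx => ?_⟩
    · rw [lp_cons C hL, Units.val_mul, coe_xg, ← Matrix.mulVec_mulVec, h1, mulVec_vec C hL hr _ h2]
      rfl
    · obtain ⟨y, hy, hxy⟩ := List.mem_flatMap.1 hx
      exact colX_lt C hL hr (h2 y hy) x hxy

omit C hL in
theorem vec_tog : ∀ (c : ℕ) (l : List ℕ), vec D F (tog c l) = vec D F [c] + vec D F l
  | c, [] => by funext q; simp [tog, vec]
  | c, a :: l => by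
    rw [tog]
    split_ifs with h1 h2
    · rw [vec_cons]
    · subst h2
      rw [vec_cons c l, ← add_assoc]
      funext q
      simp [CharTwo.add_self_eq_zero]
    · rw [vec_cons a (tog c l), vec_tog c l, vec_cons a l]
      abel

omit C hL in
theorem vec_red : ∀ l : List ℕ, vec D F (red l) = vec D F l
  | [] => rfl
  | a :: l => by rw [red, List.foldr_cons, vec_tog, ← red, vec_red l, ← vec_cons]

theorem dcol_spec {T : List ℕ} (hT : ∀ r ∈ T, r < D.nroots) {c : ℕ} (hc : c < D.rank + D.nroots) :
    (((lp C (F := F) T : GL D.Idx F) : Matrix D.Idx D.Idx F) - 1) *ᵥ vec D F [c] = vec D F (dcol D T c) := by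
  rw [dcol, vec_red, vec_cons c (imgC D T c), Matrix.sub_mulVec, (imgC_spec C hL T hT c hc).1, Matrix.one_mulVec]
  funext q
  simp [CharTwo.sub_eq_add, add_comm]

theorem dot_spec (a b : List ℕ) (ha : ∀ x ∈ a, x < D.rank + D.nroots) :
    vec D F a ⬝ᵥ vec D F b = if dotB a b = true then 1 else 0 := by
  have h : vec D F a ⬝ᵥ vec D F b = (((a.map fun x => b.count x).sum : ℕ) : F) := by
    induction a with
    | nil => simp [vec, dotProduct]
    | cons x a ih =>
      obtain ⟨p, rfl⟩ := exists_enc (ha x List.mem_cons_self)
      rw [vec_cons, add_dotProduct, ih fun y hy => ha y (List.mem_cons_of_mem _ hy), vec_enc, single_dotProduct,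
        one_mul, List.map_cons, List.sum_cons, Nat.cast_add]
      rfl
  rw [h, dotB, (CharP.cast_eq_mod F 2 ((a.map fun x => b.count x).sum))]
  rcases Nat.mod_two_eq_zero_or_one (a.map fun x => b.count x).sum with e | e <;> simp [e]

/-- the rank -/
theorem rank_spec {T P : List ℕ} {L : List (List ℕ)} {U : List (List ℕ)} (h : rankB D T P L U = true)
    (hLlt : L.all (fun l => l.all fun x => decide (x < D.rank + D.nroots)) = true) :
    (((lp C (F := F) T : GL D.Idx F) : Matrix D.Idx D.Idx F) - 1).rank = P.length := by
  simp only [rankB, Bool.and_eq_true, List.all_eq_true, decide_eq_true_eq, beq_iff_eq] at h hLlt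
  obtain ⟨⟨⟨⟨⟨hT, hP⟩, hLl⟩, hUl⟩, hU⟩, hdot⟩ := h
  set M := ((lp C (F := F) T : GL D.Idx F) : Matrix D.Idx D.Idx F) - 1 with hM
  let v : Fin P.length → D.Idx → F := fun i => vec D F (dcol D T P[i.val])
  have hli : LinearIndependent F v := by
    rw [Fintype.linearIndependent_iff]
    intro g hg i
    have hi : i.val < L.length := by rw [hLl]; exact i.isLt
    have hlt := hLlt _ (List.getElem_mem hi)
    have h1 : vec D F L[i.val] ⬝ᵥ ∑ j, g j • v j = 0 := by rw [hg, dotProduct_zero]
    rw [dotProduct_sum, Finset.sum_eq_single i] at h1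
    · have := hdot (L[i.val], i.val) (by simp [List.mem_iff_getElem, hi])
        (dcol D T P[i.val], i.val) (List.mem_iff_getElem.2 ⟨i.val, by simp, by simp⟩)
      rw [dotProduct_smul, dot_spec C hL _ _ hlt, this] at h1
      simpa using h1
    · intro j _ hji
      have := hdot (L[i.val], i.val) (by simp [List.mem_iff_getElem, hi])
        (dcol D T P[j.val], j.val) (List.mem_iff_getElem.2 ⟨j.val, by simp, by simp⟩)
      rw [dotProduct_smul, dot_spec C hL _ _ hlt, this]
      simp [Fin.val_ne_of_ne (Ne.symm hji)]
    · simp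
  have hv : ∀ i, v i ∈ LinearMap.range M.mulVecLin := fun i =>
    ⟨vec D F [P[i.val]], dcol_spec C hL hT (hP _ (List.getElem_mem i.isLt))⟩
  have hspan : LinearMap.range M.mulVecLin = Submodule.span F (Set.range v) := by
    refine le_antisymm ?_ (Submodule.span_le.2 (Set.range_subset_iff.2 hv))
    rw [Matrix.range_mulVecLin, Submodule.span_le]
    rintro x ⟨p, rfl⟩
    have hc := enc_lt D p
    obtain ⟨S, hS⟩ : ∃ S, U[enc D p]'(hUl.symm ▸ hc) = S := ⟨_, rfl⟩
    have := hU (enc D p, S) (List.mem_iff_getElem.2 ⟨enc D p, by simp [List.length_zip, hUl, hc], by simp [hS]⟩)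
    have hcol : M.col p = vec D F (dcol D T (enc D p)) := by
      rw [← dcol_spec C hL hT hc, vec_enc, Matrix.mulVec_single_one]
    rw [hcol, this, vec_red]
    clear this hS
    induction S with
    | nil => rw [List.flatMap_nil, show vec D F [] = 0 from funext fun q => by simp [vec]]; exact Submodule.zero_mem _
    | cons a S ih =>
      rw [List.flatMap_cons, vec_append]
      refine Submodule.add_mem _ ?_ ih
      by_cases ha : a < P.length
      · rw [List.getD_eq_getElem _ _ (by simpa using ha), List.getElem_map]
        exact Submodule.subset_span ⟨⟨a, ha⟩, rfl⟩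
      · rw [List.getD_eq_default _ _ (by simpa using ha), show vec D F [] = 0 from funext fun q => by simp [vec]]
        exact Submodule.zero_mem _
  rw [Matrix.rank, hspan, finrank_span_eq_card hli, Fintype.card_fin]

omit C hL in
theorem rank_conj {g y z : GL D.Idx F} (h : g * y * g⁻¹ = z) :
    ((z : Matrix D.Idx D.Idx F) - 1).rank = ((y : Matrix D.Idx D.Idx F) - 1).rank := by
  have e : (z : Matrix D.Idx D.Idx F) - 1 =
      (g : Matrix D.Idx D.Idx F) * ((y : Matrix D.Idx D.Idx F) - 1) * ((g⁻¹ : GL D.Idx F) : Matrix D.Idx D.Idx F) := by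
    rw [← h, mul_sub, sub_mul, mul_one, Units.val_mul, Units.val_mul, Units.mul_inv]
  rw [e, Matrix.rank_mul_eq_left_of_isUnit_det _ _ ((Matrix.isUnit_iff_isUnit_det _).1 (g⁻¹).isUnit),
    Matrix.rank_mul_eq_right_of_isUnit_det _ _ ((Matrix.isUnit_iff_isUnit_det _).1 g.isUnit)]

end Cfsg.Agent.InvolADE
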