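import Mathlib

/-!
An involution with any number `k` of transpositions on `a * t` points respects some partition
of the points into `t` blocks of size `a`.
-/

set_option autoImplicit false

namespace Cfsg.Agent.InvolBlocks

/-- The involution on `(Fin k × Fin 2) ⊕ Fin r` swapping the pairs. -/
def swapPairs {k r : ℕ} : (Fin k × Fin 2) ⊕ Fin r → (Fin k × Fin 2) ⊕ Fin r :=
  Sum.map (fun p => (p.1, p.2.rev)) id

theorem swapPairs_involutive {k r : ℕ} : Function.Involutive (swapPairs (k := k) (r := r)) := by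
  rintro (⟨m, e⟩ | j) <;> simp [swapPairs]

theorem exists_blocks (k r a t : ℕ) (ha : 1 ≤ a) (h : 2 * k + r = a * t) :
    ∃ (f : (Fin k × Fin 2) ⊕ Fin r → Fin t) (σ : Equiv.Perm (Fin t)),
      (∀ j, Nat.card {i // f i = j} = a) ∧ ∀ i, f (swapPairs i) = σ (f i) := by
  classical
  set s := k / a with hs
  have hk : a * s + k % a = k := Nat.div_add_mod k a
  have hka : k % a < a := Nat.mod_lt _ ha
  have hst : 2 * s ≤ t := by
    by_contra hc
    have : a * (t + 1) ≤ a * (2 * s) := Nat.mul_le_mul_left a (by omega)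
    rw [Nat.mul_succ, Nat.mul_left_comm] at this
    omega
  set l := a / 2 with hl
  have hcap : k % a ≤ (t - 2 * s) * l := by
    have e : a * t = 2 * (a * s) + a * (t - 2 * s) := by
      rw [← Nat.mul_left_comm, ← Nat.mul_add, Nat.add_sub_cancel' hst]
    rcases Nat.lt_or_ge (t - 2 * s) 2 with h2 | h2
    · have : t - 2 * s = 0 ∨ t - 2 * s = 1 := by omega
      rcases this with h3 | h3 <;> rw [h3] at e ⊢ <;> omega
    · calc k % a ≤ 2 * l := by omega
        _ ≤ (t - 2 * s) * l := Nat.mul_le_mul_right _ h2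
  have hb : ∀ m, m < k → a * s ≤ m → (m - a * s) / l < t - 2 * s ∧ 1 ≤ l := by
    intro m hm hm'
    have hl1 : 1 ≤ l := by
      by_contra hc
      have hl0 : l = 0 := by omega
      rw [hl0, mul_zero] at hcap
      omega
    exact ⟨(Nat.div_lt_iff_lt_mul hl1).mpr (by omega), hl1⟩
  have hlow : ∀ m, m < a * s → m / a < s := fun m hm =>
    (Nat.div_lt_iff_lt_mul ha).mpr (by rwa [Nat.mul_comm])
  let g : Fin k × Fin 2 → Fin t × Fin a := fun p =>
    if hp : (p.1 : ℕ) < a * s then
      (⟨2 * (p.1 / a) + p.2, by have := hlow _ hp; omega⟩, ⟨p.1 % a, Nat.mod_lt _ ha⟩)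
    else
      (⟨2 * s + (p.1 - a * s) / l, by have := hb _ p.1.2 (by omega); omega⟩,
       ⟨2 * ((p.1 - a * s) % l) + p.2, by
        have := Nat.mod_lt (p.1 - a * s) (hb _ p.1.2 (by omega)).2
        omega⟩)
  have hg : Function.Injective g := by
    rintro ⟨m, e⟩ ⟨m', e'⟩ hh
    simp only [g] at hh
    split_ifs at hh with h1 h2 h2
    · simp only [Prod.mk.injEq, Fin.mk.injEq] at hh
      have e1 := Nat.div_add_mod (m : ℕ) a
      have e2 := Nat.div_add_mod (m' : ℕ) a
      have e3 : (m : ℕ) / a = m' / a := by omega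
      rw [e3] at e1
      ext <;> simp <;> omega
    · simp only [Prod.mk.injEq, Fin.mk.injEq] at hh
      have := hlow _ h1; have := Nat.zero_le (((m' : ℕ) - a * s) / l); omega
    · simp only [Prod.mk.injEq, Fin.mk.injEq] at hh
      have := hlow _ h2; have := Nat.zero_le (((m : ℕ) - a * s) / l); omega
    · simp only [Prod.mk.injEq, Fin.mk.injEq] at hh
      have e1 := Nat.div_add_mod ((m : ℕ) - a * s) l
      have e2 := Nat.div_add_mod ((m' : ℕ) - a * s) l
      have e3 : ((m : ℕ) - a * s) / l = (m' - a * s) / l := by omega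
      rw [e3] at e1
      ext <;> simp <;> omega
  have hcompl : Fintype.card (Fin r) = Fintype.card {y // y ∉ Set.range g} := by
    rw [Fintype.card_subtype_compl, Fintype.card_fin, Fintype.card_prod, Fintype.card_fin,
      Fintype.card_fin]
    have h1 : Fintype.card {y // y ∈ Set.range g} = k * 2 := by
      rw [← Fintype.card_congr (Equiv.ofInjective g hg), Fintype.card_prod, Fintype.card_fin,
        Fintype.card_fin]
    rw [h1, Nat.mul_comm t a]
    omega
  obtain ⟨er⟩ : Nonempty (Fin r ≃ {y // y ∉ Set.range g}) := ⟨Fintype.equivOfCardEq hcompl⟩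
  let E : (Fin k × Fin 2) ⊕ Fin r ≃ Fin t × Fin a :=
    (Equiv.sumCongr (Equiv.ofInjective g hg) er).trans (Equiv.sumCompl (· ∈ Set.range g))
  have hEl : ∀ p, E (Sum.inl p) = g p := fun p => by simp [E]
  have hEr : ∀ j, E (Sum.inr j) = er j := fun j => by simp [E]
  let σf : Fin t → Fin t := fun j =>
    if hj : (j : ℕ) < 2 * s then
      ⟨if (j : ℕ) % 2 = 0 then j + 1 else j - 1, by split_ifs <;> omega⟩
    else j
  have hσv : ∀ j, (σf j : ℕ) = if (j : ℕ) < 2 * s then
      (if (j : ℕ) % 2 = 0 then (j : ℕ) + 1 else j - 1) else j := by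
    intro j
    simp only [σf]
    split_ifs <;> simp
  have hσ : Function.Involutive σf := by
    intro j
    ext
    rw [hσv, hσv]
    split_ifs <;> omega
  refine ⟨fun i => (E i).1, hσ.toPerm σf, fun j => ?_, ?_⟩
  · rw [Nat.card_congr (Equiv.subtypeEquiv (q := fun y : Fin t × Fin a => y.1 = j) E fun _ => Iff.rfl),
      Nat.card_congr (β := Fin a)
        ⟨fun y => y.1.2, fun i => ⟨(j, i), rfl⟩, fun y => by
          rcases y with ⟨⟨a, b⟩, rfl⟩; rfl, fun i => rfl⟩, Nat.card_fin]
  · rintro (⟨m, e⟩ | j)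
    · simp only [swapPairs, Sum.map_inl, hEl, Function.Involutive.coe_toPerm]
      ext
      rw [hσv]
      simp only [g]
      by_cases h1 : (m : ℕ) < a * s
      · rw [dif_pos h1, dif_pos h1]
        have := hlow _ h1
        simp only [Fin.val_rev]
        have he := e.2
        split_ifs <;> omega
      · rw [dif_neg h1, dif_neg h1]
        simp only
        have := Nat.zero_le (((m : ℕ) - a * s) / l)
        split_ifs <;> omega
    · simp only [swapPairs, Sum.map_inr, id_eq, hEr, Function.Involutive.coe_toPerm]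
      ext
      rw [hσv, if_neg]
      intro hlt
      apply (er j).2
      set y := ((er j : {y // y ∉ Set.range g}) : Fin t × Fin a)
      have hm : a * ((y.1 : ℕ) / 2) + y.2 < a * s := by
        have : (y.1 : ℕ) / 2 + 1 ≤ s := by omega
        have h2 := Nat.mul_le_mul_left a this
        rw [Nat.mul_succ] at h2
        omega
      refine ⟨(⟨a * ((y.1 : ℕ) / 2) + y.2, by omega⟩, ⟨(y.1 : ℕ) % 2, by omega⟩), ?_⟩
      simp only [g, dif_pos hm]
      have e1 : (a * ((y.1 : ℕ) / 2) + y.2) / a = (y.1 : ℕ) / 2 := by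
        rw [Nat.mul_add_div ha, Nat.div_eq_of_lt y.2.2, add_zero]
      have e2 : (a * ((y.1 : ℕ) / 2) + y.2) % a = y.2 := by
        rw [Nat.mul_add_mod, Nat.mod_eq_of_lt y.2.2]
      ext <;> simp [e1, e2]
      omega

end Cfsg.Agent.InvolBlocks
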