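import Cfsg.Agent.Lib.TwoGenCert98
import Cfsg.Agent.Lib.TwistedTools

/-!
Signed action of monomial words on root elements; closure of a set of root coefficients under the torus.
-/

set_option autoImplicit false
set_option linter.unusedSectionVars false
set_option linter.unusedSimpArgs false

namespace Cfsg.Agent.TwistSeed98

open Cfsg.Lie Cfsg.Agent.ChevalleyEngine Cfsg.Agent.ChevalleyCert Cfsg.Agent.ChevalleyRoots
  Cfsg.Agent.ChevalleyCore Cfsg.Agent.ChevalleyTorus Cfsg.Agent.TwoGenCert98

variable {D : ChevalleyDatum} (C : Cert D)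

/-- the sign picked up by a root element under a word -/
def sgnw : List ℕ → ℕ → ℤ
  | [], _ => 1
  | i :: l, r => C.eta i (wact (D := D) l r) * sgnw l r

/-- all letters are nodes -/
def lettersOK (D : ChevalleyDatum) (l : List ℕ) : Bool := l.all fun i => decide (i < D.rank)

theorem letters_lt {l : List ℕ} (h : lettersOK D l = true) : ∀ i ∈ l, i < D.rank := by
  simpa [lettersOK, List.all_eq_true] using h

/-- the word spelled by indices of an alphabet -/
def spell (al : List (List ℕ)) (js : List ℕ) : List ℕ := js.flatMap fun j => al.getD j []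

theorem sgnw_sq : ∀ (l : List ℕ) (r : ℕ), sgnw C l r * sgnw C l r = 1
  | [], r => rfl
  | i :: l, r => by
    rw [sgnw, mul_mul_mul_comm, sgnw_sq l r, mul_one]
    rcases C.eta_sq i (wact (D := D) l r) with e | e <;> rw [e] <;> rfl

theorem sgnw_cases (l : List ℕ) (r : ℕ) : sgnw C l r = 1 ∨ sgnw C l r = -1 :=
  Int.eq_one_or_neg_one_of_mul_eq_one (sgnw_sq C l r)

variable {F : Type*} [Field F]

include C

theorem conj_xg : ∀ {l : List ℕ}, (∀ i ∈ l, i < D.rank) → ∀ {r : ℕ}, r < D.nroots → ∀ t : F,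
    nwd C l * xg C r t * (nwd C l)⁻¹ = xg C (wact (D := D) l r) ((sgnw C l r : F) * t)
  | [], _, r, _, t => by simp [nwd, wact, sgnw]
  | i :: l, hl, r, hr, t => by
    have hi := hl i (List.mem_cons_self ..)
    have hl' : ∀ j ∈ l, j < D.rank := fun j hj => hl j (List.mem_cons_of_mem _ hj)
    have hc := ng_simple_conj C hi (wact_lt C hl' hr) ((sgnw C l r : F) * t)
    rw [wact_cons, sgnw, Int.cast_mul, mul_assoc (C.eta i _ : F), ← hc, ← conj_xg hl' hr t, nwd_cons, mul_inv_rev]
    simp only [mul_assoc]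

theorem nwd_append (l l' : List ℕ) : nwd C (F := F) (l ++ l') = nwd C l * nwd C l' := by simp [nwd]

theorem spell_mem {M : Subgroup (GL D.Idx F)} {al : List (List ℕ)} (h : ∀ l ∈ al, nwd C l ∈ M) :
    ∀ js : List ℕ, nwd C (spell al js) ∈ M
  | [] => by simp [spell, nwd]
  | j :: js => by
    rw [spell, List.flatMap_cons, nwd_append]
    refine mul_mem ?_ (spell_mem h js)
    by_cases hj : j < al.length
    · rw [List.getD_eq_getElem _ _ hj]; exact h _ (List.getElem_mem hj)
    · rw [List.getD_eq_default _ _ (Nat.le_of_not_lt hj)]; simp [nwd]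

/-- the elements with coefficients `1` and `-1` travel along words -/
theorem pm_move {M : Subgroup (GL D.Idx F)} {l : List ℕ} (hl : lettersOK D l = true) (hM : nwd C l ∈ M) {r : ℕ}
    (hr : r < D.nroots) (h : xg C r (1 : F) ∈ M) :
    xg C (wact (D := D) l r) (1 : F) ∈ M ∧ xg C (wact (D := D) l r) (-1 : F) ∈ M := by
  have h1 := mul_mem (mul_mem hM h) (inv_mem hM)
  rw [conj_xg C (letters_lt hl) hr, mul_one] at h1
  have h2 := inv_mem h1
  rw [xg_inv] at h2
  rcases sgnw_cases C l r with e | e <;> rw [e] at h1 h2 <;> push_cast at h1 h2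
  · exact ⟨h1, h2⟩
  · rw [neg_neg] at h2; exact ⟨h2, h1⟩

/-- all elements with coefficients in a set closed under negation travel along words -/
theorem set_move {M : Subgroup (GL D.Idx F)} {P : F → Prop} (hP : ∀ t, P t → P (-t)) {l : List ℕ}
    (hl : lettersOK D l = true) (hM : nwd C l ∈ M) {r : ℕ} (hr : r < D.nroots) (h : ∀ t, P t → xg C r t ∈ M)
    (t : F) (ht : P t) : xg C (wact (D := D) l r) t ∈ M := by
  have h' : ∀ u, P u → xg C (wact (D := D) l r) ((sgnw C l r : F) * u) ∈ M := fun u hu => by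
    rw [← conj_xg C (letters_lt hl) hr]
    exact mul_mem (mul_mem hM (h u hu)) (inv_mem hM)
  rcases sgnw_cases C l r with e | e
  · have := h' t ht
    rwa [e, Int.cast_one, one_mul] at this
  · have := h' (-t) (hP t ht)
    rwa [e, Int.cast_neg, Int.cast_one, neg_one_mul, neg_neg] at this

theorem hg_comm {a b : ℕ} (ha : a < D.nroots) (hb : b < D.nroots) {s t : F} (hs : s ≠ 0) (ht : t ≠ 0) :
    hg C a s * hg C b t = hg C b t * hg C a s :=
  H_comm C (hg_mem_H C ha hs) (hg_mem_H C hb ht)

omit C in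
/-- the fixed points of `t ↦ t^q` are the norms of a generator -/
theorem exists_norm_pow [Fintype F] (k : Fˣ) (hk : ∀ u : Fˣ, u ∈ Subgroup.zpowers k) {q Q : ℕ} (hq : 1 < q)
    (hQ : Fintype.card F - 1 = (q - 1) * Q) {c : F} (hc : c ^ q = c) (h0 : c ≠ 0) :
    ∃ j : ℕ, c = ((k : F) ^ Q) ^ j := by
  classical
  obtain ⟨m, hm⟩ := (mem_powers_iff_mem_zpowers).2 (hk (Units.mk0 c h0))
  have hm' : (k : F) ^ m = c := by simpa using congrArg Units.val hm
  have hord : orderOf k = (q - 1) * Q := by
    rw [orderOf_eq_card_of_forall_mem_zpowers hk, Nat.card_units, Nat.card_eq_fintype_card, hQ]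
  have h1 : k ^ (m * (q - 1)) = 1 := by
    apply Units.ext
    rw [Units.val_pow_eq_pow_val, pow_mul, hm', Units.val_one]
    have : c ^ (q - 1) * c = 1 * c := by rw [← pow_succ, Nat.sub_add_cancel hq.le, hc, one_mul]
    exact mul_right_cancel₀ h0 this
  have h2 := orderOf_dvd_of_pow_eq_one h1
  rw [hord, mul_comm m] at h2
  obtain ⟨j, rfl⟩ := Nat.dvd_of_mul_dvd_mul_left (by omega) h2
  exact ⟨j, by rw [← hm', pow_mul]⟩

end Cfsg.Agent.TwistSeed98
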