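import Cfsg.Agent.Lib.InvolADEOrth
import Cfsg.Agent.Lib.TwistSeed98

/-!
Elimination below a root, with the conjugating element in the roots of pairing `-1` and its uniqueness; intersections
of the groups of closed sets of roots; words of reflections acting on these groups.
-/

set_option autoImplicit false
set_option linter.unusedSectionVars false
set_option linter.unusedSimpArgs false

namespace Cfsg.Agent.InvolTwistKill33

open Cfsg.Lie Cfsg.Agent.ChevalleyEngine Cfsg.Agent.ChevalleyCert Cfsg.Agent.ChevalleyRoots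
open Cfsg.Agent.ChevalleyCore Cfsg.Agent.ChevalleyTorus Cfsg.Agent.ChevalleyUnipotent Cfsg.Agent.ChevBruhat
open Cfsg.Agent.TwoGenCert98 Cfsg.Agent.TwistSeed98 Cfsg.Agent.InvolADE

variable {D : ChevalleyDatum}

/-- the positive roots -/
def posR (D : ChevalleyDatum) : Finset ℕ := Finset.Ico (D.nroots / 2) D.nroots

/-- closure under sums, decidable -/
def closedB (D : ChevalleyDatum) (Q : Finset ℕ) : Prop :=
  Q ⊆ posR D ∧ ∀ r ∈ Q, ∀ s ∈ Q, (ad D r s).all (fun u => decide (u ∈ Q)) = true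

instance (Q : Finset ℕ) : Decidable (closedB D Q) := by unfold closedB; infer_instance

/-- indecomposability, decidable -/
def indecB (D : ChevalleyDatum) (Q : Finset ℕ) (r : ℕ) : Prop :=
  r ∈ Q ∧ ∀ a ∈ Q, ∀ b ∈ Q, (ad D a b).all (fun u => decide (u ≠ r)) = true

instance (Q : Finset ℕ) (r : ℕ) : Decidable (indecB D Q r) := by unfold indecB; infer_instance

theorem closedB_closed {Q : Finset ℕ} (h : closedB D Q) :
    (∀ r ∈ Q, D.nroots / 2 ≤ r ∧ r < D.nroots) ∧ Closed D Q := by
  refine ⟨fun r hr => by simpa [posR] using h.1 hr, fun r hr s hs u hu => ?_⟩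
  simpa [hu] using h.2 r hr s hs

theorem indecB_indec {Q : Finset ℕ} {r : ℕ} (h : indecB D Q r) : Indec D Q r := by
  intro a ha b hb hu
  simpa [hu] using h.2 a ha b hb

variable (C : Cert D) (hL : laceOK D = true) {F : Type*} [Field F] [CharP F 2]

include C hL

theorem closed_ge {Q : Finset ℕ} (hp : ∀ r ∈ Q, D.nroots / 2 ≤ r ∧ r < D.nroots) (hc : Closed D Q) (n : ℕ) :
    Closed D (Q.filter (n ≤ ·)) := by
  intro r hr s hs u hu
  rw [Finset.mem_filter] at hr hs ⊢
  exact ⟨hc r hr.1 s hs.1 u hu, le_trans hr.2 (sum_pos C hL (hp r hr.1) (hp s hs.1) hu).2.1.le⟩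

theorem US_le_uGe {Q : Finset ℕ} (hp : ∀ r ∈ Q, D.nroots / 2 ≤ r ∧ r < D.nroots) {n : ℕ} (hn : ∀ r ∈ Q, n ≤ r) :
    US C (F := F) Q ≤ uGe C n := by
  refine (Subgroup.closure_le _).2 ?_
  rintro g ⟨r, hr, c, rfl⟩
  exact xg_mem_uGe C (hn r hr) (hp r hr).1 (hp r hr).2 c

/-- the groups of two closed sets meet in the group of the intersection -/
theorem US_inter {A B : Finset ℕ} (hA : ∀ r ∈ A, D.nroots / 2 ≤ r ∧ r < D.nroots) (cA : Closed D A)
    (hB : ∀ r ∈ B, D.nroots / 2 ≤ r ∧ r < D.nroots) (cB : Closed D B) {w : GL D.Idx F} (h1 : w ∈ US C A)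
    (h2 : w ∈ US C B) : w ∈ US C (A ∩ B) := by
  suffices key : ∀ d n, D.nroots / 2 ≤ n → D.nroots - n = d → ∀ w : GL D.Idx F, w ∈ US C (A.filter (n ≤ ·)) →
      w ∈ US C (B.filter (n ≤ ·)) → w ∈ US C (A ∩ B) by
    refine key _ (D.nroots / 2) le_rfl rfl w ?_ ?_
    · rwa [Finset.filter_true_of_mem fun r hr => (hA r hr).1]
    · rwa [Finset.filter_true_of_mem fun r hr => (hB r hr).1]
  intro d
  induction d with
  | zero =>
    intro n hn hd w h1 _
    have he : A.filter (n ≤ ·) = ∅ := Finset.filter_eq_empty_iff.2 fun r hr => by have := (hA r hr).2; omega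
    rw [he, US_empty C hL, Subgroup.mem_bot] at h1
    rw [h1]; exact one_mem _
  | succ d ih =>
    intro n hn hd w h1 h2
    have step : ∀ {X : Finset ℕ}, (∀ r ∈ X, D.nroots / 2 ≤ r ∧ r < D.nroots) → Closed D X →
        ∀ {z : GL D.Idx F}, z ∈ US C (X.filter (n ≤ ·)) →
          ∃ c : F, (n ∉ X → c = 0) ∧ ∃ v, v ∈ US C (X.filter (n + 1 ≤ ·)) ∧ v ∈ uGe C (n + 1) ∧
            z = xg C n c * v := by
      intro X hX cX z hz
      have hp : ∀ r ∈ X.filter (n ≤ ·), D.nroots / 2 ≤ r ∧ r < D.nroots := fun r hr =>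
        hX r (Finset.mem_filter.1 hr).1
      have hle : US C (F := F) (X.filter (n + 1 ≤ ·)) ≤ uGe C (n + 1) :=
        US_le_uGe C hL (fun r hr => hX r (Finset.mem_filter.1 hr).1) fun r hr => (Finset.mem_filter.1 hr).2
      by_cases hnX : n ∈ X
      · obtain ⟨c, v, hv, rfl⟩ := split C hL hp (Finset.mem_filter.2 ⟨hnX, le_rfl⟩) (closed_ge C hL hX cX n)
          (indec_min C hL hp fun r hr => (Finset.mem_filter.1 hr).2) hz
        have hv' : v ∈ US C (X.filter (n + 1 ≤ ·)) := by
          refine US_mono C hL (fun r hr => ?_) hv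
          rw [Finset.mem_erase, Finset.mem_filter] at hr
          exact Finset.mem_filter.2 ⟨hr.2.1, by omega⟩
        exact ⟨c, fun h => absurd hnX h, v, hv', hle hv', rfl⟩
      · have e : X.filter (n ≤ ·) = X.filter (n + 1 ≤ ·) := Finset.filter_congr fun r hr =>
          ⟨fun h => Nat.lt_of_le_of_ne h fun e => hnX (e ▸ hr), fun h => by omega⟩
        rw [e] at hz
        exact ⟨0, fun _ => rfl, z, hz, hle hz, by rw [xg_zero, one_mul]⟩
    obtain ⟨a, ha, v, hv, hvu, rfl⟩ := step hA cA h1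
    obtain ⟨b, hb, v', hv', hvu', e⟩ := step hB cB h2
    obtain ⟨hab, hvv⟩ := coeff_unique C hn (by omega) hvu hvu' e
    subst hvv
    refine mul_mem ?_ (ih (n + 1) (by omega) (by omega) v hv hv')
    by_cases hin : n ∈ A ∩ B
    · exact mem_US C hL hin a
    · rw [Finset.mem_inter, not_and_or] at hin
      rcases hin with h | h
      · rw [ha h, xg_zero]; exact one_mem _
      · rw [hab, hb h, xg_zero]; exact one_mem _

omit hL in
theorem sgnw_one (l : List ℕ) (r : ℕ) : (sgnw C l r : F) = 1 := by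
  rcases sgnw_cases C l r with e | e <;> simp [e, CharTwo.neg_eq]

omit hL in
theorem conj_nwd {l : List ℕ} (hl : ∀ i ∈ l, i < D.rank) {r : ℕ} (hr : r < D.nroots) (t : F) :
    nwd C l * xg C r t * (nwd C l)⁻¹ = xg C (wact (D := D) l r) t := by
  rw [conj_xg C hl hr, sgnw_one C, one_mul]

theorem conj_nwd_US {l : List ℕ} (hl : ∀ i ∈ l, i < D.rank) {Q Q' : Finset ℕ} (hQ : Q ⊆ posR D)
    (h : ∀ r ∈ Q, wact (D := D) l r ∈ Q') {z : GL D.Idx F} (hz : z ∈ US C Q) :
    nwd C l * z * (nwd C l)⁻¹ ∈ US C Q' := by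
  refine Sys.conj_closure_le (T := {g : GL D.Idx F | ∃ r ∈ Q, ∃ c : F, g = xg C r c}) _ ?_ hz
  rintro x ⟨r, hr, c, rfl⟩
  rw [conj_nwd C hl (Finset.mem_Ico.1 (hQ hr)).2]
  exact mem_US C hL (h r hr) c

omit hL in
theorem nwd_reverse {l : List ℕ} (hl : ∀ i ∈ l, i < D.rank) : nwd C (F := F) l * nwd C l.reverse = 1 := by
  induction l with
  | nil => simp [nwd]
  | cons i l ih =>
    rw [List.reverse_cons, nwd_cons, nwd_append, mul_assoc, ← mul_assoc (nwd C l) (nwd C l.reverse),
      ih fun j hj => hl j (List.mem_cons_of_mem _ hj), one_mul]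
    rw [show nwd C (F := F) [i] = ns C i by simp [nwd]]
    exact ns_sq_two C (hl i (List.mem_cons_self ..)) CharTwo.two_eq_zero

/-- the roots of pairing `-1` with `k` orthogonal to `S` -/
def Rm (D : ChevalleyDatum) (S : Finset ℕ) (k : ℕ) : Finset ℕ :=
  (Psi D S).filter fun r => D.pairing k r = -1

theorem kill_step' {S : Finset ℕ} {k : ℕ} (hk : k ∈ Psi D S) {t : F} (ht : t ≠ 0) :
    ∀ (Q : Finset ℕ), Q ⊆ Psi D S → k ∉ Q → Closed D Q →
      (∀ r ∈ Q, ∀ u, ad D k r = some u → u ∈ Q) →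
      (∀ r ∈ Q, D.pairing k r = 1 → ∃ s ∈ Q, ad D k s = some r) →
      (∀ r ∈ Psi D (insert k S), r ∈ Q) →
      ∀ v ∈ US C Q, (xg C k t * v) * (xg C k t * v) = 1 →
        ∃ g ∈ US C (Rm D S k), ∃ v' ∈ US C (Psi D (insert k S)), g * (xg C k t * v) * g⁻¹ = xg C k t * v' := by
  intro Q
  induction Q using Finset.strongInduction with
  | H Q ih =>
    intro hQ hkQ hc hup hdown hO v hv hinv
    have hk' := Psi_pos C hL hk
    have hp : ∀ r ∈ Q, D.nroots / 2 ≤ r ∧ r < D.nroots := fun r hr => Psi_pos C hL (hQ hr)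
    have hbd : ∀ r ∈ Q, -1 ≤ D.pairing k r ∧ D.pairing k r ≤ 1 := fun r hr => by
      rcases bound_pos C hL hk' (hp r hr) with ⟨e, -⟩ | h
      · exact absurd (e ▸ hr) hkQ
      · exact h
    by_cases hN : (Q.filter fun r => D.pairing k r = -1).Nonempty
    swap
    · refine ⟨1, one_mem _, v, US_mono C hL (fun r hr => ?_) hv, by simp⟩
      rw [Finset.not_nonempty_iff_eq_empty, Finset.filter_eq_empty_iff] at hN
      have h0 : D.pairing k r = 0 := by
        rcases show D.pairing k r = -1 ∨ D.pairing k r = 0 ∨ D.pairing k r = 1 by have := hbd r hr; omega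
          with e | e | e
        · exact absurd e (hN hr)
        · exact e
        · obtain ⟨s, hs, hks⟩ := hdown r hr e
          exact absurd (ad_coef C hL hk'.2 hks).2.2.1 (hN hs)
      obtain ⟨h1, h2⟩ := mem_Psi.1 (hQ hr)
      refine mem_Psi.2 ⟨h1, fun s hs => ?_⟩
      rcases Finset.mem_insert.1 hs with rfl | hs
      · exact h0
      · exact h2 s hs
    obtain ⟨r, hrN, hmin⟩ := Finset.exists_min_image _ (fun r => key C r) hN
    rw [Finset.mem_filter] at hrN
    obtain ⟨hrQ, hkr⟩ := hrN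
    have hr' := hp r hrQ
    have hmin' : ∀ s ∈ Q, D.pairing k s = -1 → key C r ≤ key C s :=
      fun s hs e => hmin s (Finset.mem_filter.2 ⟨hs, e⟩)
    obtain ⟨m, hm⟩ := Option.isSome_iff_exists.1 ((ad_some C hL hk'.2).2 ⟨hr'.2, hkr⟩)
    have hmQ := hup r hrQ m hm
    have hm' := hp m hmQ
    have hkm : D.pairing k m = 1 := by
      rw [pairing_add C hL hk'.2 hm, C.pair_self k hk'.2, hkr]; norm_num
    have hrm : r ≠ m := fun e => by rw [e] at hkr; omega
    have hkeym := key_add C hL hk'.2 hm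
    have hir : Indec D Q r := by
      intro a ha b hb hab
      have h1 := pairing_add C hL (k := k) (hp a ha).2 hab
      have := key_add C hL (hp a ha).2 hab
      have := key_posR C hL (hp a ha)
      have := key_posR C hL (hp b hb)
      rcases show D.pairing k a = -1 ∨ D.pairing k b = -1 by have := hbd a ha; have := hbd b hb; omega with e | e
      · have := hmin' a ha e; omega
      · have := hmin' b hb e; omega
    have him : Indec D Q m := by
      intro a ha b hb hab
      have h1 := pairing_add C hL (k := k) (hp a ha).2 hab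
      have := key_add C hL (hp a ha).2 hab
      have := key_posR C hL (hp a ha)
      have := key_posR C hL (hp b hb)
      rcases show D.pairing k a = 1 ∨ D.pairing k b = 1 by have := hbd a ha; have := hbd b hb; omega with e | e
      · obtain ⟨s, hs, hks⟩ := hdown a ha e
        have := key_add C hL hk'.2 hks
        have := hmin' s hs (ad_coef C hL hk'.2 hks).2.2.1
        omega
      · obtain ⟨s, hs, hks⟩ := hdown b hb e
        have := key_add C hL hk'.2 hks
        have := hmin' s hs (ad_coef C hL hk'.2 hks).2.2.1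
        omega
    have hc1 := closed_erase C hL hc hir
    have him1 : Indec D (Q.erase r) m := fun a ha b hb =>
      him a (Finset.mem_of_mem_erase ha) b (Finset.mem_of_mem_erase hb)
    set Q' := (Q.erase r).erase m with hQ'def
    have hc2 : Closed D Q' := closed_erase C hL hc1 him1
    have hsub : ∀ s ∈ Q', s ∈ Q := fun s hs => Finset.mem_of_mem_erase (Finset.mem_of_mem_erase hs)
    have mem' : ∀ s, s ∈ Q' ↔ s ≠ m ∧ s ≠ r ∧ s ∈ Q := fun s => by simp [hQ'def]
    have hup' : ∀ s ∈ Q', ∀ u, ad D k s = some u → u ∈ Q' := by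
      intro s hs u hu
      rw [mem'] at hs ⊢
      refine ⟨fun e => hs.2.1 ?_, fun e => ?_, hup s hs.2.2 u hu⟩
      · have := key_add C hL hk'.2 hu
        rw [e, hkeym] at this
        exact key_inj C hL (hp s hs.2.2).2 hr'.2 (by omega)
      · have := pairing_add C hL (k := k) hk'.2 hu
        rw [e, hkr, C.pair_self k hk'.2] at this
        have := hbd s hs.2.2
        omega
    have hdown' : ∀ s ∈ Q', D.pairing k s = 1 → ∃ a ∈ Q', ad D k a = some s := by
      intro s hs h
      rw [mem'] at hs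
      obtain ⟨a, ha, hka⟩ := hdown s hs.2.2 h
      refine ⟨a, (mem' a).2 ⟨fun e => ?_, fun e => ?_, ha⟩, hka⟩
      · have := (ad_coef C hL hk'.2 hka).2.2.1
        rw [e] at this; omega
      · rw [e, hm] at hka
        exact hs.1 (Option.some.inj hka).symm
    have hO' : ∀ s ∈ Psi D (insert k S), s ∈ Q' := by
      intro s hs
      have h0 := (mem_Psi.1 hs).2 k (Finset.mem_insert_self k S)
      exact (mem' s).2 ⟨fun e => by rw [e] at h0; omega, fun e => by rw [e] at h0; omega, hO s hs⟩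
    have nk : ∀ (a : F) h, h ∈ US C Q' → xg C k a * h * (xg C k a)⁻¹ ∈ US C Q' := fun a h hh =>
      conj_US C hL hk'.2
        (fun s hs => ⟨(hp s (hsub s hs)).2, ne_neg C hL hk' (hp s (hsub s hs)), hup' s hs⟩) a hh
    have nrm : ∀ x, x = r ∨ x = m → ∀ (a : F) h, h ∈ US C Q' →
        xg C x a * h * (xg C x a)⁻¹ ∈ US C Q' := by
      intro x hx a h hh
      have hxQ : x ∈ Q := by rcases hx with rfl | rfl <;> assumption
      refine conj_US C hL (hp x hxQ).2 (fun s hs => ⟨(hp s (hsub s hs)).2,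
        ne_neg C hL (hp x hxQ) (hp s (hsub s hs)), fun u hu => (mem' u).2
          ⟨fun e => him x hxQ s (hsub s hs) (e ▸ hu), fun e => hir x hxQ s (hsub s hs) (e ▸ hu),
            hc x hxQ s (hsub s hs) u hu⟩⟩) a hh
    obtain ⟨c, v1, hv1, rfl⟩ := split C hL hp hrQ hc hir hv
    obtain ⟨e, h, hh, rfl⟩ := split C hL (fun s hs => hp s (Finset.mem_of_mem_erase hs))
      (Finset.mem_erase.2 ⟨hrm.symm, hmQ⟩) hc1 him1 hv1
    have hrk : ad D r k = some m := ad_comm C hL hk'.2 hm
    have hrmp : D.pairing r m = 1 := by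
      rw [pairing_add C hL hk'.2 hm, C.pair_self r hr'.2, pairing_m1_symm C hL hk'.2 hr'.2 hkr]; norm_num
    have crm : ∀ a b : F, Commute (xg C r a) (xg C m b) := fun a b =>
      comm_none C hL hr'.2 hm'.2 (ne_neg C hL hr' hm') (ad_none C hL hr'.2 (by omega)) a b
    have ckm : ∀ a b : F, Commute (xg C k a) (xg C m b) := fun a b =>
      comm_none C hL hk'.2 hm'.2 (ne_neg C hL hk' hm') (ad_none C hL hk'.2 (by omega)) a b
    have ekr := conj_some C hL hk'.2 hr'.2 hm t c
    set K := xg C k t with hK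
    set X := xg C r c with hX
    set M := xg C m e with hM
    have hKK : K⁻¹ = K := xg_inv_two C k t
    have hc0 : c = 0 := by
      have h1 : K * (X * (M * h)) * K = (X * (M * h))⁻¹ := by
        rw [eq_inv_iff_mul_eq_one, ← hinv]; simp only [mul_assoc]
      have h2 : K * (X * (M * h)) * K = X * xg C m (t * c + e) * (K * h * K⁻¹) := by
        rw [← xg_mul, ← hM]
        calc K * (X * (M * h)) * K = K * (X * (M * h)) * K⁻¹ := by rw [hKK]
          _ = (K * X * K⁻¹) * ((K * M * K⁻¹) * (K * h * K⁻¹)) := by group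
          _ = _ := by rw [ekr, mul_inv_eq_iff_eq_mul.2 (ckm t e).eq]; simp only [hM, mul_assoc]
      have h3 : (X * (M * h))⁻¹ = X * M * ((X * M)⁻¹ * h⁻¹ * (X * M)) := by
        have : (X * M)⁻¹ = X * M := by
          rw [mul_inv_rev, xg_inv_two C r c, xg_inv_two C m e, (crm c e).eq]
        rw [← mul_assoc X M h, mul_inv_rev, ← mul_assoc (X * M) _ (X * M), ← mul_assoc (X * M), mul_inv_cancel,
          one_mul, this]
      have hin : (X * M)⁻¹ * h⁻¹ * (X * M) ∈ US C Q' := by
        have := nrm m (Or.inr rfl) e _ (nrm r (Or.inl rfl) c _ (inv_mem hh))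
        simpa [xg_inv_two, hX, hM, mul_assoc] using this
      rw [h2, h3, mul_assoc X, mul_assoc X M, mul_right_inj] at h1
      have h4 : xg C m (t * c) ∈ US C Q' := by
        have e1 : M * xg C m (t * c + e) = xg C m (t * c) := by
          rw [hM, xg_mul, add_left_comm, CharTwo.add_self_eq_zero, add_zero]
        have h5 : xg C m (t * c) * (K * h * K⁻¹) = (X * M)⁻¹ * h⁻¹ * (X * M) := by
          rw [← e1, mul_assoc, h1, ← mul_assoc, show M * M = 1 from xg_sq C m e, one_mul]
        exact (Subgroup.mul_mem_cancel_right _ (nk t h hh)).1 (h5 ▸ hin)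
      rcases mul_eq_zero.1 (notin_US C hL (fun s hs => hp s (hsub s hs)) hc2 hm'
        (fun hs => ((mem' m).1 hs).1 rfl) h4) with h | h
      · exact absurd h ht
      · exact h
    have hX1 : X = 1 := by rw [hX, hc0, xg_zero]
    rw [hX1, one_mul] at hinv ⊢
    set g := xg C r (e / t) with hg
    have hgL : g ∈ US C (Rm D S k) := mem_US C hL (Finset.mem_filter.2 ⟨hQ hrQ, hkr⟩) _
    have hconj : g * (K * (M * h)) * g⁻¹ = K * (g * h * g⁻¹) := by
      calc g * (K * (M * h)) * g⁻¹ = (g * K * g⁻¹) * (g * M * g⁻¹) * (g * h * g⁻¹) := by group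
        _ = _ := by
          rw [hg, hK, conj_some C hL hr'.2 hk'.2 hrk, div_mul_cancel₀ _ ht, hM,
            mul_inv_eq_iff_eq_mul.2 (crm (e / t) e).eq, mul_assoc (xg C k t), xg_sq C m e, mul_one]
    obtain ⟨g', hg', v', hv', heq⟩ := ih Q' (Finset.ssubset_iff_of_subset (fun s hs => hsub s hs) |>.2
        ⟨r, hrQ, fun hs => ((mem' r).1 hs).2.1 rfl⟩) (fun s hs => hQ (hsub s hs))
      (fun hs => hkQ (hsub k hs)) hc2 hup' hdown' hO' _ (nrm r (Or.inl rfl) (e / t) h hh) (by
        rw [← hconj]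
        calc g * (K * (M * h)) * g⁻¹ * (g * (K * (M * h)) * g⁻¹)
            = g * (K * (M * h) * (K * (M * h))) * g⁻¹ := by group
          _ = 1 := by rw [hinv, mul_one, mul_inv_cancel])
    exact ⟨g' * g, mul_mem hg' hgL, v', hv', by rw [← heq, ← hconj]; group⟩

theorem kill' {S : Finset ℕ} {k : ℕ} (hk : k ∈ Psi D S) (hi : Indec D (Psi D S) k) {t : F} (ht : t ≠ 0)
    {v : GL D.Idx F} (hv : v ∈ US C ((Psi D S).erase k)) (h2 : (xg C k t * v) * (xg C k t * v) = 1) :
    ∃ g ∈ US C (Rm D S k), ∃ v' ∈ US C (Psi D (insert k S)), g * (xg C k t * v) * g⁻¹ = xg C k t * v' := by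
  have hk' := Psi_pos C hL hk
  refine kill_step' C hL hk ht _ (Finset.erase_subset _ _) (Finset.notMem_erase _ _)
    (closed_erase C hL (Psi_closed C hL S) hi) ?_ ?_ ?_ v hv h2
  · intro r hr u hu
    have hr' := Psi_pos C hL (Finset.mem_of_mem_erase hr)
    exact Finset.mem_erase.2 ⟨(sum_pos C hL hk' hr' hu).2.1.ne',
      Psi_closed C hL S k hk r (Finset.mem_of_mem_erase hr) u hu⟩
  · intro r hr h
    have hrP := Finset.mem_of_mem_erase hr
    have hr' := Psi_pos C hL hrP
    rcases lt_or_gt_of_ne (Finset.ne_of_mem_erase hr) with e | e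
    · obtain ⟨c, hc, hrc⟩ := Psi_sub C hL hrP hk (by rw [pairing_symm C hL hr'.2 hk'.2, h]) e
      exact absurd hrc (hi r hrP c hc)
    · obtain ⟨c, hc, hkc⟩ := Psi_sub C hL hk hrP h e
      refine ⟨c, Finset.mem_erase.2 ⟨fun e => ?_, hc⟩, hkc⟩
      have := (ad_coef C hL hk'.2 hkc).2.2.1
      rw [e, C.pair_self k hk'.2] at this
      omega
  · intro r hr
    obtain ⟨h1, h2⟩ := mem_Psi.1 hr
    refine Finset.mem_erase.2 ⟨fun e => ?_, mem_Psi.2 ⟨h1, fun s hs => h2 s (Finset.mem_insert_of_mem hs)⟩⟩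
    have := h2 k (Finset.mem_insert_self _ _)
    rw [e, C.pair_self k hk'.2] at this
    omega

/-- uniqueness of the conjugating element -/
theorem kill_unique {S : Finset ℕ} {k : ℕ} (hk : k ∈ Psi D S) {t : F} (ht : t ≠ 0) {g v v' : GL D.Idx F}
    (hg : g ∈ US C (Rm D S k)) (hv : v ∈ US C (Psi D (insert k S))) (hv' : v' ∈ US C (Psi D (insert k S)))
    (h : g * (xg C k t * v) * g⁻¹ = xg C k t * v') : g = 1 := by
  classical
  have hk' := Psi_pos C hL hk
  set P := xg C k t
  have hPP : P⁻¹ = P := xg_inv_two C k t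
  set Y := (Psi D S).filter fun u => D.pairing k u ≤ 0
  have hZY : Psi D (insert k S) ⊆ Y := fun r hr => by
    obtain ⟨h1, h2⟩ := mem_Psi.1 hr
    exact Finset.mem_filter.2 ⟨mem_Psi.2 ⟨h1, fun s hs => h2 s (Finset.mem_insert_of_mem hs)⟩,
      (h2 k (Finset.mem_insert_self k S)).le⟩
  have hAY : Rm D S k ⊆ Y := fun r hr => by
    obtain ⟨h1, h2⟩ := Finset.mem_filter.1 hr
    exact Finset.mem_filter.2 ⟨h1, by omega⟩
  have hmain : P * g * P⁻¹ ∈ US C Y := by
    have e : P * g * P⁻¹ = v' * g * v⁻¹ := by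
      have h1 : g * P * v = P * (v' * g) := by
        calc g * P * v = g * (P * v) * g⁻¹ * g := by group
          _ = _ := by rw [h]; group
      have h2 : P * g * P * v = v' * g := by
        calc P * g * P * v = P * (g * P * v) := by group
          _ = P * P * (v' * g) := by rw [h1]; group
          _ = _ := by rw [show P * P = 1 from xg_sq C k t, one_mul]
      rw [hPP, ← h2]; group
    rw [e]
    exact mul_mem (mul_mem (US_mono C hL hZY hv') (US_mono C hL hAY hg)) (inv_mem (US_mono C hL hZY hv))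
  suffices key : ∀ Q : Finset ℕ, Q ⊆ Rm D S k → ∀ z ∈ US C (F := F) Q, P * z * P⁻¹ ∈ US C Y → z = 1 from
    key _ (Finset.Subset.refl _) g hg hmain
  intro Q
  induction Q using Finset.strongInduction with
  | H Q ih =>
    intro hQ z hz hP
    by_cases hne : Q.Nonempty
    swap
    · rwa [Finset.not_nonempty_iff_eq_empty.1 hne, US_empty C hL, Subgroup.mem_bot] at hz
    obtain ⟨r, hrQ, hmin⟩ := Finset.exists_min_image Q (fun r => key C r) hne
    obtain ⟨hrS, hkr⟩ := Finset.mem_filter.1 (hQ hrQ)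
    have hr' := Psi_pos C hL hrS
    have hp : ∀ s ∈ Q, D.nroots / 2 ≤ s ∧ s < D.nroots := fun s hs =>
      Psi_pos C hL (Finset.mem_filter.1 (hQ hs)).1
    have hno : ∀ a ∈ Q, ∀ b ∈ Q, ad D a b = none := by
      intro a ha b hb
      rcases e : ad D a b with _ | u
      · rfl
      · obtain ⟨hup, hau, -⟩ := sum_pos C hL (hp a ha) (hp b hb) e
        have h1 := pairing_add C hL (k := k) (hp a ha).2 e
        rw [(Finset.mem_filter.1 (hQ ha)).2, (Finset.mem_filter.1 (hQ hb)).2] at h1
        rcases bound_pos C hL hk' hup with ⟨-, e2⟩ | e2 <;> omega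
    obtain ⟨c, z', hz', rfl⟩ := split C hL hp hrQ (fun a ha b hb u hu => by rw [hno a ha b hb] at hu; simp at hu)
      (fun a ha b hb hu => by rw [hno a ha b hb] at hu; simp at hu) hz
    obtain ⟨m, hm⟩ := Option.isSome_iff_exists.1 ((ad_some C hL hk'.2).2 ⟨hr'.2, hkr⟩)
    have hm' := sum_pos C hL hk' hr' hm
    have hkm : D.pairing k m = 1 := by
      rw [pairing_add C hL hk'.2 hm, C.pair_self k hk'.2, hkr]; norm_num
    have hkeym := key_add C hL hk'.2 hm
    set M := (Psi D S).filter fun u => u ≠ k ∧ (D.pairing k u ≤ 0 ∨ key C m < key C u)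
    have hMp : ∀ u ∈ M, D.nroots / 2 ≤ u ∧ u < D.nroots := fun u hu => Psi_pos C hL (Finset.mem_filter.1 hu).1
    have hMc : Closed D M := by
      intro a ha b hb u hu
      obtain ⟨haS, hak, ha2⟩ := Finset.mem_filter.1 ha
      obtain ⟨hbS, hbk, hb2⟩ := Finset.mem_filter.1 hb
      have h1 := pairing_add C hL (k := k) (hMp a ha).2 hu
      have h2 := key_add C hL (hMp a ha).2 hu
      have := key_posR C hL (hMp a ha)
      have := key_posR C hL (hMp b hb)
      have ba := bound_pos C hL hk' (hMp a ha)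
      have bb := bound_pos C hL hk' (hMp b hb)
      have hkeyk := key_posR C hL hk'
      refine Finset.mem_filter.2 ⟨Psi_closed C hL S a haS b hbS u hu, fun e => ?_, ?_⟩
      · subst e
        rw [C.pair_self _ hk'.2] at h1
        have := key_posR C hL hr'
        rcases ha2 with ha2 | ha2 <;> rcases hb2 with hb2 | hb2 <;> omega
      · rcases ha2 with ha2 | ha2
        · rcases hb2 with hb2 | hb2
          · left; omega
          · right; omega
        · right; omega
    have hkM : ∀ s ∈ Q, s ∈ M ∧ ∀ u, ad D k s = some u → s ≠ r → u ∈ M := by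
      intro s hs
      obtain ⟨hsS, hks⟩ := Finset.mem_filter.1 (hQ hs)
      refine ⟨Finset.mem_filter.2 ⟨hsS, fun e => ?_, Or.inl (by omega)⟩, fun u hu hsr => ?_⟩
      · rw [e, C.pair_self k hk'.2] at hks; omega
      · refine Finset.mem_filter.2 ⟨Psi_closed C hL S k hk s hsS u hu,
          ((sum_pos C hL hk' (hp s hs) hu).2.1).ne', Or.inr ?_⟩
        have h1 := key_add C hL hk'.2 hu
        have h2 := hmin s hs
        rcases lt_or_eq_of_le h2 with h3 | h3
        · omega
        · exact absurd (key_inj C hL hr'.2 (hp s hs).2 h3).symm hsr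
    have hYM : US C (F := F) Y ≤ US C M := by
      refine (Subgroup.closure_le _).2 ?_
      rintro x ⟨u, hu, d, rfl⟩
      obtain ⟨huS, hu0⟩ := Finset.mem_filter.1 hu
      exact mem_US C hL (Finset.mem_filter.2 ⟨huS, fun e => by
        rw [e, C.pair_self k hk'.2] at hu0; omega, Or.inl hu0⟩) d
    have hcz : P * z' * P⁻¹ ∈ US C M := by
      refine Sys.conj_closure_le (T := {g : GL D.Idx F | ∃ s ∈ Q.erase r, ∃ c : F, g = xg C s c}) _ ?_ hz'
      rintro x ⟨s, hs, d, rfl⟩
      obtain ⟨hsr, hsQ⟩ := Finset.mem_erase.1 hs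
      rcases e : ad D k s with _ | u
      · rw [conj_none C hL hk'.2 (hp s hsQ).2 (ne_neg C hL hk' (hp s hsQ)) e]
        exact mem_US C hL (hkM s hsQ).1 d
      · rw [conj_some C hL hk'.2 (hp s hsQ).2 e]
        exact mul_mem (mem_US C hL (hkM s hsQ).1 d) (mem_US C hL ((hkM s hsQ).2 u e hsr) _)
    have hPr : P * xg C r c * P⁻¹ = xg C r c * xg C m (t * c) := conj_some C hL hk'.2 hr'.2 hm t c
    have e : xg C m (t * c) = (xg C r c)⁻¹ * (P * (xg C r c * z') * P⁻¹) * (P * z' * P⁻¹)⁻¹ := by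
      rw [show P * (xg C r c * z') * P⁻¹ = P * xg C r c * P⁻¹ * (P * z' * P⁻¹) by group, hPr]
      group
    have h0 : xg C m (t * c) ∈ US C M := by
      rw [e]
      exact mul_mem (mul_mem (inv_mem (mem_US C hL (hkM r hrQ).1 c)) (hYM hP)) (inv_mem hcz)
    have hmM : m ∉ M := fun hmM => by
      obtain ⟨-, -, h1⟩ := Finset.mem_filter.1 hmM
      omega
    obtain rfl : c = 0 :=
      (mul_eq_zero.1 (notin_US C hL hMp hMc hm'.1 hmM h0)).resolve_left ht
    rw [xg_zero, one_mul] at hP ⊢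
    exact ih _ (Finset.erase_ssubset hrQ) ((Finset.erase_subset _ _).trans hQ) z' hz' hP

end Cfsg.Agent.InvolTwistKill33
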