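import Cfsg.Agent.Lib.TwistedWeyl

/-!
The order of the fixed part of `U`.
-/

set_option autoImplicit false
set_option linter.unusedSectionVars false

namespace Cfsg.Agent.TwistedCore

open Cfsg.Lie Cfsg.Agent.ChevalleyCert Cfsg.Agent.ChevWeyl Cfsg.Agent.ChevBruhat

variable {D : ChevalleyDatum} {C : Cert D} {F : Type*} [Field F] [Fintype F]

namespace Classes

variable {T : Twist C F} {G1 : Subgroup (GL D.Idx F)} (K : Classes T G1)

include K in
/-- the order of `U¹` -/
theorem card_U1 : Nat.card ↥(D.posUnipotent F ⊓ G1) ^ K.e = K.Q ^ (D.nroots / 2) := by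
  obtain ⟨w0, hw0, -, hU⟩ := T.exists_w0_fix
  rw [K.U1_eq hw0 hU, (K.main hw0).2.1]
  congr 1
  have h1 := T.S.card_Uw w0
  rw [← hU, ChevalleyUnipotent.card_U C, ← Nat.card_eq_fintype_card] at h1
  exact (Nat.pow_right_injective (by rw [Nat.card_eq_fintype_card]; exact Fintype.one_lt_card) h1).symm

end Classes

end Cfsg.Agent.TwistedCore
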