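import Cfsg.Agent.Lib.TwistedE6Data
import Cfsg.Agent.Lib.TwistedOrders
import Cfsg.Agent.Lib.ChevalleyTorusCard

/-!
The torus, the Weyl group and the order of `²E₆(q)`.
-/

set_option autoImplicit false
set_option linter.unusedSectionVars false
set_option maxRecDepth 20000

namespace Cfsg.Agent.TwistedE6

open Cfsg.Lie Cfsg.Agent.ChevalleyCert Cfsg.Agent.ChevalleyCore Cfsg.Agent.ChevalleyRoots Cfsg.Agent.ChevalleyTorus
  Cfsg.Agent.TwistedCore Cfsg.Agent.TwistedTools Cfsg.Agent.ChevWeyl Cfsg.Agent.ChevBruhat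
  Cfsg.Agent.TwistedE6Data

variable {K : Type*} [Field K]

theorem tchar_aux (z : Fin chevE6.rank → Kˣ) (s : ℕ) :
    tchar chevE6 z s = z (nd 0) ^ chevE6.cartan 0 s * z (nd 1) ^ chevE6.cartan 1 s * z (nd 2) ^ chevE6.cartan 2 s *
      z (nd 3) ^ chevE6.cartan 3 s * z (nd 4) ^ chevE6.cartan 4 s * z (nd 5) ^ chevE6.cartan 5 s := by
  show (∏ i : Fin 6, z i ^ chevE6.cartan i.val s) = _
  rw [Fin.prod_univ_six]
  rfl

theorem cartan_table : (List.range 6).map (fun j => (List.range 6).map fun i => chevE6.cartan i (chevE6.simple j)) =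
    [[2, 0, -1, 0, 0, 0], [0, 2, 0, -1, 0, 0], [-1, 0, 2, -1, 0, 0], [0, -1, -1, 2, -1, 0], [0, 0, 0, -1, 2, -1],
      [0, 0, 0, 0, -1, 2]] := by
  decide +kernel

theorem tchar_simples (z : Fin chevE6.rank → Kˣ) :
    tchar chevE6 z (chevE6.simple 0) = z (nd 0) ^ 2 * (z (nd 2))⁻¹ ∧
    tchar chevE6 z (chevE6.simple 1) = z (nd 1) ^ 2 * (z (nd 3))⁻¹ ∧
    tchar chevE6 z (chevE6.simple 2) = z (nd 2) ^ 2 * (z (nd 0) * z (nd 3))⁻¹ ∧
    tchar chevE6 z (chevE6.simple 3) = z (nd 3) ^ 2 * (z (nd 1) * z (nd 2) * z (nd 4))⁻¹ ∧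
    tchar chevE6 z (chevE6.simple 4) = z (nd 4) ^ 2 * (z (nd 3) * z (nd 5))⁻¹ ∧
    tchar chevE6 z (chevE6.simple 5) = z (nd 5) ^ 2 * (z (nd 4))⁻¹ := by
  have h := cartan_table
  simp only [show List.range 6 = [0, 1, 2, 3, 4, 5] from rfl, List.map_cons, List.map_nil, List.cons.injEq, and_true] at h
  obtain ⟨⟨a0, a1, a2, a3, a4, a5⟩, ⟨b0, b1, b2, b3, b4, b5⟩, ⟨c0, c1, c2, c3, c4, c5⟩, ⟨d0, d1, d2, d3, d4, d5⟩,
    ⟨e0, e1, e2, e3, e4, e5⟩, f0, f1, f2, f3, f4, f5⟩ := h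
  refine ⟨?_, ?_, ?_, ?_, ?_, ?_⟩ <;> rw [tchar_aux] <;>
    simp only [a0, a1, a2, a3, a4, a5, b0, b1, b2, b3, b4, b5, c0, c1, c2, c3, c4, c5, d0, d1, d2, d3, d4, d5,
      e0, e1, e2, e3, e4, e5, f0, f1, f2, f3, f4, f5, zpow_zero, mul_one, one_mul, zpow_neg_one, zpow_two, pow_two,
      mul_inv] <;>
    try ac_rfl

theorem ker_eqs {z : Fin chevE6.rank → Kˣ} (h : torus chevE6 z = 1) :
    z (nd 1) = 1 ∧ z (nd 3) = 1 ∧ z (nd 0) ^ 3 = 1 ∧ z (nd 2) = z (nd 0) ^ 2 ∧ z (nd 4) = z (nd 0) ∧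
      z (nd 5) = z (nd 0) ^ 2 := by
  have h' := (torus_eq_one_iff c6 z).mp h
  obtain ⟨t0, t1, t2, t3, t4, t5⟩ := tchar_simples z
  have a := h' (nd 0); have b := h' (nd 1); have c := h' (nd 2)
  have d := h' (nd 3); have e := h' (nd 4); have g := h' (nd 5)
  simp only [t0, t1, t2, t3, t4, t5, mul_inv_eq_one] at a b c d e g
  set c0 := z (nd 0)
  set c1 := z (nd 1)
  set c2 := z (nd 2)
  set c3 := z (nd 3)
  set c4 := z (nd 4)
  set c5 := z (nd 5)
  have h3 : c3 = c0 ^ 3 := by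
    apply mul_left_cancel (a := c0)
    rw [← c, ← a, ← pow_mul, ← pow_succ']
  have h3' : c3 = c5 ^ 3 := by
    apply mul_right_cancel (b := c5)
    rw [← e, ← g, ← pow_mul, ← pow_succ]
  have h14 : c1 * c5 ^ 2 = c0 ^ 4 := by
    apply mul_left_cancel (a := c0 ^ 2)
    calc c0 ^ 2 * (c1 * c5 ^ 2) = c1 * c2 * c4 := by rw [a, g]; ac_rfl
      _ = c3 ^ 2 := d.symm
      _ = c0 ^ 2 * c0 ^ 4 := by rw [h3, ← pow_mul, ← pow_add]
  have h55 : c5 ^ 4 = c0 ^ 5 := by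
    apply mul_left_cancel (a := c0 ^ 3)
    calc c0 ^ 3 * c5 ^ 4 = c1 ^ 2 * c5 ^ 4 := by rw [b, h3]
      _ = (c1 * c5 ^ 2) ^ 2 := by rw [mul_pow, ← pow_mul]
      _ = c0 ^ 3 * c0 ^ 5 := by rw [h14, ← pow_mul, ← pow_add]
  have h5 : c5 = c0 ^ 2 := by
    apply mul_left_cancel (a := c0 ^ 3)
    calc c0 ^ 3 * c5 = c5 ^ 3 * c5 := by rw [← h3, ← h3']
      _ = c0 ^ 3 * c0 ^ 2 := by rw [← pow_succ, h55, ← pow_add]
  have h0 : c0 ^ 3 = 1 := by
    apply mul_left_cancel (a := c0 ^ 3)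
    rw [mul_one, ← pow_add]
    calc c0 ^ (3 + 3) = c5 ^ 3 := by rw [h5, ← pow_mul]
      _ = c0 ^ 3 := by rw [← h3', ← h3]
  have h4 : c4 = c0 := by rw [← g, h5, ← pow_mul, show 2 * 2 = 3 + 1 from rfl, pow_succ, h0, one_mul]
  refine ⟨?_, by rw [h3, h0], h0, a.symm, h4, h5⟩
  apply mul_right_cancel (b := c5 ^ 2)
  rw [one_mul, h14, h5, ← pow_mul]

theorem torus_ker {w : Kˣ} (hw : w ^ 3 = 1) :
    torus chevE6 (fun i : Fin chevE6.rank => ([w, 1, w ^ 2, 1, w, w ^ 2] : List Kˣ).getD i.val 1) = 1 := by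
  rw [torus_eq_one_iff c6]
  obtain ⟨t0, t1, t2, t3, t4, t5⟩ := tchar_simples
    (fun i : Fin chevE6.rank => ([w, 1, w ^ 2, 1, w, w ^ 2] : List Kˣ).getD i.val 1)
  simp only [List.getD_cons_succ, List.getD_cons_zero] at t0 t1 t2 t3 t4 t5
  have h4 : w ^ 4 = w := by rw [pow_succ, hw, one_mul]
  intro j
  have hj : j = nd 0 ∨ j = nd 1 ∨ j = nd 2 ∨ j = nd 3 ∨ j = nd 4 ∨ j = nd 5 := by revert j; decide
  rcases hj with rfl | rfl | rfl | rfl | rfl | rfl
  · rw [t0, mul_inv_cancel]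
  · rw [t1]; simp
  · rw [t2, ← pow_mul, h4]; simp
  · rw [t3, one_mul, ← pow_succ, hw]; simp
  · rw [t4, one_mul, mul_inv_cancel]
  · rw [t5, ← pow_mul, h4, mul_inv_cancel]

variable {q : ℕ} (f : K →+* K) (hf : ∀ t, f t = t ^ q)

include hf in
theorem f_units (t : Kˣ) : Units.map f.toMonoidHom t = t ^ q := Units.ext (by simp [hf])

include hf in
theorem tσ_vals (c : Fin chevE6.rank → Kˣ) :
    (tw f).tσ c (nd 0) = c (nd 5) ^ q ∧ (tw f).tσ c (nd 1) = c (nd 1) ^ q ∧ (tw f).tσ c (nd 2) = c (nd 4) ^ q ∧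
      (tw f).tσ c (nd 3) = c (nd 3) ^ q ∧ (tw f).tσ c (nd 4) = c (nd 2) ^ q ∧ (tw f).tσ c (nd 5) = c (nd 0) ^ q :=
  ⟨f_units f hf _, f_units f hf _, f_units f hf _, f_units f hf _, f_units f hf _, f_units f hf _⟩

variable (K q) in
/-- the units of the subfield with `q` elements -/
def fixU : Subgroup Kˣ where
  carrier := {t | t ^ q = t}
  one_mem' := one_pow q
  mul_mem' {a b} ha hb := by
    simp only [Set.mem_setOf_eq] at ha hb ⊢
    rw [mul_pow, ha, hb]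
  inv_mem' {a} ha := by
    simp only [Set.mem_setOf_eq] at ha ⊢
    rw [inv_pow, ha]

variable (q) in
/-- parameters of the fixed torus -/
def tp (a1 a3 b0 b2 : Kˣ) : Fin chevE6.rank → Kˣ := fun i =>
  ([b0, a1, b2, a3, b2 ^ q, b0 ^ q] : List Kˣ).getD i.val 1

/-- the homomorphism onto the fixed torus -/
noncomputable def psi : (↥(fixU K q) × ↥(fixU K q)) × (Kˣ × Kˣ) →* GL chevE6.Idx K where
  toFun p := torus chevE6 (tp q p.1.1 p.1.2 p.2.1 p.2.2)
  map_one' := by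
    rw [← map_one (torus chevE6 (F := K))]
    congr 1
    funext i
    have hi : i = nd 0 ∨ i = nd 1 ∨ i = nd 2 ∨ i = nd 3 ∨ i = nd 4 ∨ i = nd 5 := by revert i; decide
    rcases hi with rfl | rfl | rfl | rfl | rfl | rfl <;> simp [tp]
  map_mul' p p' := by
    rw [← map_mul]
    congr 1
    funext i
    have hi : i = nd 0 ∨ i = nd 1 ∨ i = nd 2 ∨ i = nd 3 ∨ i = nd 4 ∨ i = nd 5 := by revert i; decide
    rcases hi with rfl | rfl | rfl | rfl | rfl | rfl <;> simp [tp, mul_pow]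

include hf in
theorem hg_pair_mem (j : Fin 2) (t : Kˣ) :
    torus chevE6 (Pi.mulSingle (pn j) t * Pi.mulSingle (pm j) (t ^ q)) ∈ twistedE6 K q := by
  rw [map_mul, ← hg_simple c6, ← hg_simple c6]
  have e : hg c6 (ra j) (t : K) * hg c6 (rb j) ((t : K) ^ q) = pnn j (t : K) ((t : K) ^ q) * pnn j (-1) (-1) := by
    unfold hg pnn
    calc ng c6 (ra j) (t : K) * ng c6 (ra j) (-1) * (ng c6 (rb j) ((t : K) ^ q) * ng c6 (rb j) (-1))
        = ng c6 (ra j) (t : K) * (ng c6 (ra j) (-1) * ng c6 (rb j) ((t : K) ^ q)) * ng c6 (rb j) (-1) := by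
          simp only [mul_assoc]
      _ = _ := by rw [(commute_ng j (-1) ((t : K) ^ q)).eq]; simp only [mul_assoc]
  rw [Units.val_pow_eq_pow_val]
  show hg c6 (ra j) (t : K) * hg c6 (rb j) ((t : K) ^ q) ∈ _
  rw [e]
  refine mul_mem (pnn_mem f hf j _) ?_
  have := pnn_mem f hf j (-1 : K)
  rwa [← hf, map_neg, map_one] at this

include hf in
theorem hg_single_mem (j : Fin 2) {t : Kˣ} (ht : t ^ q = t) :
    torus chevE6 (Pi.mulSingle (sn j) t) ∈ twistedE6 K q := by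
  rw [← hg_simple c6]
  have h1 : ((-1 : K)) ^ q = -1 := by rw [← hf, map_neg, map_one]
  exact mul_mem (ngs_mem f hf j (by rw [← Units.val_pow_eq_pow_val, ht])) (ngs_mem f hf j h1)

include hf in
theorem psi_mem (p : (↥(fixU K q) × ↥(fixU K q)) × (Kˣ × Kˣ)) :
    psi p ∈ chevE6.diagonalSubgroup K ⊓ twistedE6 K q := by
  refine ⟨torus_mem_H c6 _, ?_⟩
  have hsplit : tp q (p.1.1 : Kˣ) p.1.2 p.2.1 p.2.2 =
      Pi.mulSingle (sn 0) (p.1.1 : Kˣ) * Pi.mulSingle (sn 1) (p.1.2 : Kˣ) *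
        (Pi.mulSingle (pn 0) p.2.1 * Pi.mulSingle (pm 0) (p.2.1 ^ q)) *
        (Pi.mulSingle (pn 1) p.2.2 * Pi.mulSingle (pm 1) (p.2.2 ^ q)) := by
    funext i
    have hi : i = nd 0 ∨ i = nd 1 ∨ i = nd 2 ∨ i = nd 3 ∨ i = nd 4 ∨ i = nd 5 := by revert i; decide
    rcases hi with rfl | rfl | rfl | rfl | rfl | rfl <;> simp [tp, sn, pn, pm, Pi.mulSingle_apply]
  show torus chevE6 (tp q (p.1.1 : Kˣ) p.1.2 p.2.1 p.2.2) ∈ twistedE6 K q
  rw [hsplit, map_mul, map_mul, map_mul]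
  exact mul_mem (mul_mem (mul_mem (hg_single_mem f hf 0 p.1.1.2) (hg_single_mem f hf 1 p.1.2.2))
    (hg_pair_mem f hf 0 _)) (hg_pair_mem f hf 1 _)

variable [Fintype K] (hK : Fintype.card K = q ^ 2)

include hK in
theorem units_q2 (t : Kˣ) : (t ^ q) ^ q = t :=
  Units.ext (by rw [Units.val_pow_eq_pow_val, Units.val_pow_eq_pow_val, pow_q2 hK])

include hf hK in
theorem psi_range : (psi (K := K) (q := q)).range = chevE6.diagonalSubgroup K ⊓ twistedE6 K q := by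
  refine le_antisymm (by rintro _ ⟨p, rfl⟩; exact psi_mem f hf p) ?_
  rintro x ⟨hxH, hxG⟩
  obtain ⟨c, rfl⟩ := (mem_H_iff c6).1 hxH
  have hfix := (le_fixed f hf hK hxG).2
  rw [(tw f).sg_torus] at hfix
  have hz : torus chevE6 ((tw f).tσ c * c⁻¹) = 1 := by rw [map_mul, map_inv, hfix, mul_inv_cancel]
  obtain ⟨v0, v1, v2, v3, v4, v5⟩ := tσ_vals f hf c
  obtain ⟨z1, z3, z03, z2, z4, z5⟩ := ker_eqs hz
  simp only [Pi.mul_apply, Pi.inv_apply, v0, v1, v2, v3, v4, v5] at z1 z3 z03 z2 z4 z5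
  set w := c (nd 5) ^ q * (c (nd 0))⁻¹ with hw
  have h1 : c (nd 0) ^ q = c (nd 5) * w ^ 2 := by rw [← z5, mul_comm, inv_mul_cancel_right]
  have h2 : c (nd 2) ^ q = c (nd 4) * w := by rw [← z4, mul_comm, inv_mul_cancel_right]
  have h21 : w ^ (2 * q + 1) = 1 := by
    rw [pow_succ, pow_mul, ← z5, mul_pow, inv_pow, units_q2 hK, hw]
    simp [mul_comm, mul_left_comm]
  have key : ∀ a b : ℕ, (q % 3 ≠ 2 → a % 3 = b % 3) → w ^ a = w ^ b := by
    intro a b h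
    by_cases h2' : q % 3 = 2
    · have hw1 : w = 1 := by
        rw [pow_eq_pow_mod (2 * q + 1) z03, show (2 * q + 1) % 3 = 2 by omega] at h21
        have := z03
        rwa [pow_succ, h21, one_mul] at this
      simp [hw1]
    · rw [pow_eq_pow_mod a z03, h h2', ← pow_eq_pow_mod b z03]
  set u := w ^ (q + 1) with hu
  have hu3 : u ^ 3 = 1 := by rw [hu, ← pow_mul, mul_comm, pow_mul, z03, one_pow]
  have ha : c (nd 1) ^ q = c (nd 1) := mul_inv_eq_one.mp z1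
  have hb : c (nd 3) ^ q = c (nd 3) := mul_inv_eq_one.mp z3
  have e5 : (c (nd 0) * u) ^ q = c (nd 5) * u ^ 2 := by
    rw [mul_pow, h1, mul_assoc, hu, ← pow_mul, ← pow_mul, ← pow_add]
    refine congrArg _ (key _ _ fun h => ?_)
    rcases (show q % 3 = 0 ∨ q % 3 = 1 by omega) with e | e <;> simp [Nat.add_mod, Nat.mul_mod, e]
  have e4 : (c (nd 2) * u ^ 2) ^ q = c (nd 4) * u := by
    rw [mul_pow, h2, mul_assoc, hu, ← pow_mul, ← pow_mul, ← pow_succ']
    refine congrArg _ (key _ _ fun h => ?_)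
    rcases (show q % 3 = 0 ∨ q % 3 = 1 by omega) with e | e <;> simp [Nat.add_mod, Nat.mul_mod, e]
  refine ⟨((⟨c (nd 1), ha⟩, ⟨c (nd 3), hb⟩), (c (nd 0) * u, c (nd 2) * u ^ 2)), ?_⟩
  show torus chevE6 (tp q (c (nd 1)) (c (nd 3)) (c (nd 0) * u) (c (nd 2) * u ^ 2)) = torus chevE6 c
  have he : tp q (c (nd 1)) (c (nd 3)) (c (nd 0) * u) (c (nd 2) * u ^ 2) =
      c * fun i : Fin chevE6.rank => ([u, 1, u ^ 2, 1, u, u ^ 2] : List Kˣ).getD i.val 1 := by
    funext i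
    have hi : i = nd 0 ∨ i = nd 1 ∨ i = nd 2 ∨ i = nd 3 ∨ i = nd 4 ∨ i = nd 5 := by revert i; decide
    rcases hi with rfl | rfl | rfl | rfl | rfl | rfl <;> simp [tp, e4, e5]
  rw [he, map_mul, torus_ker hu3, mul_one]

include hf hK in
theorem card_ker : Nat.card (psi (K := K) (q := q)).ker = Nat.gcd 3 (q + 1) := by
  have hq := TwistedField.one_lt_base hK
  have hd : Nat.gcd 3 (q + 1) ∣ Fintype.card K - 1 := by
    obtain ⟨k, rfl⟩ : ∃ k, q = k + 1 := ⟨q - 1, by omega⟩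
    have : (k + 1) ^ 2 - 1 = (k + 1 + 1) * k := by
      have : (k + 1) ^ 2 = (k + 1 + 1) * k + 1 := by ring
      omega
    rw [hK, this]
    exact Dvd.dvd.mul_right (Nat.gcd_dvd_right _ _) k
  have hcard : Nat.card {t : Kˣ // t ^ Nat.gcd 3 (q + 1) = 1} = Nat.gcd 3 (q + 1) := by
    rw [TwistedField.card_units_pow, Nat.gcd_eq_right hd]
  rw [← hcard]
  have hto : ∀ p : (psi (K := K) (q := q)).ker, (p.1.1.1 : Kˣ) = 1 ∧ (p.1.1.2 : Kˣ) = 1 ∧ p.1.2.1 ^ 3 = 1 ∧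
      p.1.2.2 = p.1.2.1 ^ 2 ∧ p.1.2.1 ^ (q + 1) = 1 := by
    intro p
    have hp := MonoidHom.mem_ker.mp p.2
    change torus chevE6 (tp q p.1.1.1 p.1.1.2 p.1.2.1 p.1.2.2) = 1 at hp
    obtain ⟨z1, z3, z03, z2, z4, z5⟩ := ker_eqs hp
    simp only [tp, List.getD_cons_succ, List.getD_cons_zero] at z1 z3 z03 z2 z4 z5
    exact ⟨z1, z3, z03, z2, by rw [pow_succ, z5, ← pow_succ, z03]⟩
  have hof : ∀ b : Kˣ, b ^ Nat.gcd 3 (q + 1) = 1 → psi (K := K) (q := q) ((1, 1), (b, b ^ 2)) = 1 := by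
    intro b hb
    have h3 : b ^ 3 = 1 := by
      obtain ⟨k, hk⟩ := Nat.gcd_dvd_left 3 (q + 1)
      rw [hk, pow_mul, hb, one_pow]
    have hq1 : b ^ (q + 1) = 1 := by
      obtain ⟨k, hk⟩ := Nat.gcd_dvd_right 3 (q + 1)
      rw [hk, pow_mul, hb, one_pow]
    have h5 : b ^ q = b ^ 2 := mul_right_cancel (b := b) (by rw [← pow_succ, ← pow_succ, hq1, h3])
    have h4 : (b ^ 2) ^ q = b := by
      rw [← pow_mul, mul_comm, pow_mul, h5, ← pow_mul, show 2 * 2 = 3 + 1 from rfl, pow_succ, h3, one_mul]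
    show torus chevE6 (tp q ((1 : ↥(fixU K q)) : Kˣ) ((1 : ↥(fixU K q)) : Kˣ) b (b ^ 2)) = 1
    rw [← torus_ker h3]
    congr 1
    funext i
    have hi : i = nd 0 ∨ i = nd 1 ∨ i = nd 2 ∨ i = nd 3 ∨ i = nd 4 ∨ i = nd 5 := by revert i; decide
    rcases hi with rfl | rfl | rfl | rfl | rfl | rfl <;> simp [tp, h4, h5]
  refine Nat.card_congr
    { toFun := fun p => ⟨p.1.2.1, pow_gcd_eq_one.mpr ⟨(hto p).2.2.1, (hto p).2.2.2.2⟩⟩
      invFun := fun b => ⟨((1, 1), (b.1, b.1 ^ 2)), hof b.1 b.2⟩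
      left_inv := fun p => ?_
      right_inv := fun b => rfl }
  obtain ⟨h1, h3, -, h2, -⟩ := hto p
  exact Subtype.ext (Prod.ext (Prod.ext (Subtype.ext h1.symm) (Subtype.ext h3.symm)) (Prod.ext rfl h2.symm))

include hf hK in
theorem card_H1 : Nat.gcd 3 (q + 1) * Nat.card ↥(chevE6.diagonalSubgroup K ⊓ twistedE6 K q) =
    (q - 1) ^ 4 * (q + 1) ^ 2 := by
  have h := (psi (K := K) (q := q)).ker.card_mul_index
  rw [Subgroup.index_ker, psi_range f hf hK, card_ker f hf hK] at h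
  rw [h, Nat.card_prod, Nat.card_prod, Nat.card_prod]
  have hu : Nat.card ↥(fixU K q) = q - 1 := TwistedField.card_units_fix hK
  rw [hu, TwistedField.card_units_eq, hK]
  have hq := TwistedField.one_lt_base hK
  obtain ⟨k, rfl⟩ : ∃ k, q = k + 1 := ⟨q - 1, by omega⟩
  have : (k + 1) ^ 2 - 1 = (k + 1 + 1) * k := by
    have : (k + 1) ^ 2 = (k + 1 + 1) * k + 1 := by ring
    omega
  rw [this, Nat.add_sub_cancel]
  ring

theorem sum_map_count (g : ℕ → ℕ) (N : ℕ) :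
    ∀ l : List ℕ, (∀ i ∈ l, i < N) → (l.map g).sum = ∑ i ∈ Finset.range N, l.count i * g i
  | [], _ => by simp
  | a :: l, h => by
    rw [List.map_cons, List.sum_cons, sum_map_count g N l fun i hi => h i (List.mem_cons_of_mem _ hi)]
    have ha : a ∈ Finset.range N := Finset.mem_range.mpr (h a List.mem_cons_self)
    have : ∀ i, (a :: l).count i * g i = l.count i * g i + if a = i then g a else 0 := by
      intro i
      by_cases hi : a = i
      · subst hi; simp [add_mul]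
      · simp [hi]
    rw [Finset.sum_congr rfl fun i _ => this i, Finset.sum_add_distrib, Finset.sum_ite_eq, if_pos ha, add_comm]

theorem finite_F4 : Finite CoxeterMatrix.F₄.Group := ChevWeylData.f4.instFiniteW

theorem card_F4 : Nat.card CoxeterMatrix.F₄.Group ≤ 1152 := by
  have hfin : Finite ChevWeylData.f4.W := inferInstance
  let := Fintype.ofFinite ChevWeylData.f4.W
  have h := ChevWeylData.f4.poincare 1
  simp only [one_pow, Finset.sum_const, Finset.card_univ, smul_eq_mul, mul_one] at h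
  show Nat.card ChevWeylData.f4.W ≤ 1152
  rw [Nat.card_eq_fintype_card, h]
  decide +kernel

theorem tw_P : (tw f).X.P = ChevWeylData.e6.P := rfl

theorem classes_cl : (classes f hf hK).cl = cl6 := rfl

attribute [local irreducible] TwistedE6Data.words TwistedE6Data.chkLt

/-- the word of classes of a code -/
def wordsL : List (List (Fin 4)) := TwistedE6Data.words.map (decW 25)

set_option maxHeartbeats 800000 in
include hf hK in
theorem fixW_eq : ∃ _φ : CoxeterMatrix.F₄.Group ≃* ↥(tw f).fixW,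
    ∀ [Fintype ↥(tw f).fixW] (g : ℕ → ℕ), ∑ w : ↥(tw f).fixW, g ((tw f).X.inv (w : (tw f).X.W)) =
      ∑ i ∈ Finset.range 37, hist.getD i 0 * g i := by
  haveI := finite_F4
  let e : Fin 4 → (classes f hf hK).κ := fun a => cle a
  have he : Function.Surjective e := by
    have key : ∀ J : Fin 2 ⊕ Fin 2, ∃ a, cle a = J := by decide +kernel
    exact key
  have hcword : ∀ n, (classes f hf hK).cword e (decW 25 n) = expand n := fun n => rfl
  have hcode : ((fun v => wcode chevE6 ChevWeylData.e6.P ((classes f hf hK).cword e v)) ∘ decW 25) =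
      fun n => wcode chevE6 ChevWeylData.e6.P (expand n) := funext fun n => by simp only [Function.comp_apply, hcword]
  have hinv : ((fun v => winv chevE6 ChevWeylData.e6.P ((classes f hf hK).cword e v)) ∘ decW 25) =
      fun n => winv chevE6 ChevWeylData.e6.P (expand n) := funext fun n => by simp only [Function.comp_apply, hcword]
  obtain ⟨φ, -, hφ⟩ := (classes f hf hK).fixW_model CoxeterMatrix.F₄ e he
    (by rw [classes_cl, tw_P]; exact words_rel) wordsL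
    (card_F4.trans (by rw [wordsL, List.length_map, words_length]))
    (by
      rw [tw_P, wordsL, List.map_map, hcode]
      exact pairwise_of_chkLt _ words_sorted)
  refine ⟨φ, fun g => (hφ g).trans ?_⟩
  rw [tw_P, wordsL, List.map_map (l := TwistedE6Data.words), hinv]
  rw [sum_map_count g 37]
  · refine Finset.sum_congr rfl fun i hi => ?_
    rw [← words_hist, List.getD_eq_getElem _ _ (by simpa using hi), List.getElem_map, List.getElem_range]
  · intro i hi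
    have := words_bound
    rw [List.all_eq_true] at this
    simpa using this i hi

include hf hK in
theorem card_U1 : Nat.card ↥(chevE6.posUnipotent K ⊓ twistedE6 K q) = q ^ 36 := by
  have h := (classes f hf hK).card_U1
  rw [show (classes f hf hK).e = 1 from rfl, pow_one] at h
  rw [h]
  rfl

theorem hist_poly (q : ℕ) : ∑ i ∈ Finset.range 37, hist.getD i 0 * q ^ i =
    (q + 1) ^ 2 * (q ^ 5 + 1) * (q ^ 9 + 1) * (q ^ 4 + q ^ 2 + 1) * (q ^ 6 + q ^ 4 + q ^ 2 + 1) *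
      (q ^ 10 + q ^ 8 + q ^ 6 + q ^ 4 + q ^ 2 + 1) := by
  simp only [Finset.sum_range_succ, Finset.sum_range_zero, hist, List.getD_cons_zero, List.getD_cons_succ]
  ring

include hf hK in
theorem card_group : Nat.gcd 3 (q + 1) * Nat.card ↥(twistedE6 K q) =
    q ^ 36 * (q ^ 2 - 1) * (q ^ 5 + 1) * (q ^ 6 - 1) * (q ^ 8 - 1) * (q ^ 9 + 1) * (q ^ 12 - 1) := by
  let := Fintype.ofFinite ↥(tw f).fixW
  obtain ⟨_, hsum⟩ := fixW_eq f hf hK
  have hUF : ∀ w : ↥(tw f).fixW, Nat.card ↥((tw f).UF (w : (tw f).X.W)) = q ^ (tw f).X.inv (w : (tw f).X.W) := by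
    intro w
    have h := ((classes f hf hK).main w.2).2.1
    rw [show (classes f hf hK).e = 1 from rfl, pow_one] at h
    exact h
  rw [(classes f hf hK).card_G1, (classes f hf hK).card_B1, Finset.sum_congr rfl fun w _ => hUF w,
    hsum fun i => q ^ i, hist_poly, card_U1 f hf hK]
  simp only [← mul_assoc]
  rw [card_H1 f hf hK]
  have hq := TwistedField.one_lt_base hK
  obtain ⟨k, rfl⟩ : ∃ k, q = k + 1 := ⟨q - 1, by omega⟩
  set p := k + 1 with hp
  have h2 : p ^ 2 - 1 = k * (p + 1) := by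
    have : p ^ 2 = k * (p + 1) + 1 := by rw [hp]; ring
    omega
  have h6 : p ^ 6 - 1 = k * (p + 1) * (p ^ 4 + p ^ 2 + 1) := by
    have : p ^ 6 = k * (p + 1) * (p ^ 4 + p ^ 2 + 1) + 1 := by rw [hp]; ring
    omega
  have h8 : p ^ 8 - 1 = k * (p + 1) * (p ^ 6 + p ^ 4 + p ^ 2 + 1) := by
    have : p ^ 8 = k * (p + 1) * (p ^ 6 + p ^ 4 + p ^ 2 + 1) + 1 := by rw [hp]; ring
    omega
  have h12 : p ^ 12 - 1 = k * (p + 1) * (p ^ 10 + p ^ 8 + p ^ 6 + p ^ 4 + p ^ 2 + 1) := by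
    have : p ^ 12 = k * (p + 1) * (p ^ 10 + p ^ 8 + p ^ 6 + p ^ 4 + p ^ 2 + 1) + 1 := by rw [hp]; ring
    omega
  rw [h2, h6, h8, h12, show p - 1 = k from by omega]
  ring

include hf hK in
theorem exists_N1 :
    ∃ φ : ↥(chevE6.monomialSubgroup K ⊓ twistedE6 K q) →* CoxeterMatrix.F₄.Group, Function.Surjective φ ∧
      φ.ker = (chevE6.diagonalSubgroup K ⊓ twistedE6 K q).subgroupOf (chevE6.monomialSubgroup K ⊓ twistedE6 K q) := by
  obtain ⟨e, -⟩ := fixW_eq f hf hK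
  obtain ⟨φ, hs, hk⟩ := (classes f hf hK).exists_N1_hom
  refine ⟨e.symm.toMonoidHom.comp φ, e.symm.surjective.comp hs, ?_⟩
  rw [← hk]
  ext x
  simp

end Cfsg.Agent.TwistedE6
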