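import Cfsg.Agent.Lib.InvolTwistPeel33
import Cfsg.Agent.Lib.InvolADEClasses
import Cfsg.Agent.Lib.TwistedE6Torus

/-!
`²E₆(q)`, `q` even, has three classes of involutions.
-/

set_option autoImplicit false
set_option linter.unusedSectionVars false
set_option linter.unusedSimpArgs false
set_option linter.unusedVariables false
set_option maxRecDepth 20000
set_option synthInstance.maxSize 2000
set_option synthInstance.maxHeartbeats 400000
set_option maxHeartbeats 1600000

namespace Cfsg.Agent.InvolTwistMain33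

open Cfsg.Lie Cfsg.Agent.ChevalleyEngine Cfsg.Agent.ChevalleyCert Cfsg.Agent.ChevalleyRoots
open Cfsg.Agent.ChevalleyCore Cfsg.Agent.ChevalleyTorus Cfsg.Agent.ChevalleyUnipotent Cfsg.Agent.ChevBruhat
open Cfsg.Agent.TwistedCore Cfsg.Agent.TwistedE6 Cfsg.Agent.TwoGenCert98 Cfsg.Agent.TwistSeed98
open Cfsg.Agent.InvolADE Cfsg.Agent.InvolTwistKill33 Cfsg.Agent.InvolTwistSteps33 Cfsg.Agent.InvolTwistPeel33

set_option quotPrecheck false

/-- the symmetry -/
local notation "ρ₆" => (Cfsg.Agent.ChevalleyGraph.symE6).rho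

/-- the next states -/
theorem peel0 : peelOK ∅ 39 71 [0, 1, 3, 2, 1, 3, 0] = true ∧ peelOK ∅ 46 71 [0, 1, 3, 2, 1, 3, 1] = true := by
  decide +kernel

theorem peel1 : peelOK {71} 39 60 [2, 3] = true := by decide +kernel

theorem peel2 : peelOK {71, 60} 39 44 [3] = true := by decide +kernel

theorem peel3 : peelOK {71, 60, 44} 39 39 [] = true := by decide +kernel

theorem state_eq : (insert 71 ∅ : Finset ℕ) = {71} ∧ (insert 60 {71} : Finset ℕ) = {71, 60} ∧
    (insert 44 {71, 60} : Finset ℕ) = {71, 60, 44} ∧ Psi chevE6 (insert 39 {71, 60, 44}) = ∅ ∧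
    Ps ∅ = posR chevE6 := by
  decide +kernel

theorem reps_fixed : ∀ r ∈ [71, 60, 44, 39, 63, 51, 47], chevE6.nroots / 2 ≤ r ∧ r < chevE6.nroots ∧ ρ₆ r = r := by
  decide +kernel

theorem four_ok : InvolADE.nf chevE6 500 ([63, 51, 44, 47] ++ [71, 60, 44, 39] ++ [63, 51, 44, 47].reverse) =
      InvolADE.nf chevE6 500 [39, 44, 60] ∧ orthB chevE6 [71, 60, 44] = true ∧
    (wact (D := chevE6) (cw6 [3, 2, 0, 1, 3, 1, 0]) 39, wact (D := chevE6) (cw6 [3, 2, 0, 1, 3, 1, 0]) 44,
      wact (D := chevE6) (cw6 [3, 2, 0, 1, 3, 1, 0]) 60) ∈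
      [(71, 60, 44), (71, 44, 60), (60, 71, 44), (60, 44, 71), (44, 71, 60), (44, 60, 71)] := by
  decide +kernel

theorem move_two : moveB chevE6 [71, 60] [] [71, 60] [1, 3, 2] [68, 66] = true := by decide +kernel

theorem move_three : moveB chevE6 [71, 60, 44] [] [71, 60, 44] [0, 1, 3, 2, 0] [55, 65, 67] = true := by
  decide +kernel

variable {K : Type*} [Field K] [CharP K 2] {q : ℕ} (f : K →+* K) (hf : ∀ t, f t = t ^ q)
variable [Fintype K] (hK : Fintype.card K = q ^ 2)

include hf hK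

/-- one step of the descent -/
theorem step {S : Finset ℕ} (hS : S ∈ states) {r : ℕ} (hr : r < chevE6.nroots)
    (hpeel : ∀ m ∈ fixedNodes S, ∃ js, peelOK S m r js = true) (Ts : List (List ℕ))
    (hnext : ∀ w' ∈ US c6 (F := K) (Psi chevE6 (insert r S)), w' ∈ twistedE6 K q → w' * w' = 1 →
      ∃ g ∈ GS (K := K) (q := q) (insert r S), ∃ T ∈ Ts, g * w' * g⁻¹ = InvolADE.lp c6 T) :
    ∀ w ∈ US c6 (F := K) (Ps S), w ∈ twistedE6 K q → w * w = 1 →
      ∃ g ∈ GS (K := K) (q := q) S, ∃ T ∈ [] :: Ts.map (r :: ·), g * w * g⁻¹ = InvolADE.lp c6 T := by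
  intro w hwU hw hw2
  by_cases hne : w = 1
  · exact ⟨1, one_mem _, [], List.mem_cons_self, by simp [hne, InvolADE.lp]⟩
  obtain ⟨g, hg, hgU, m, hm, hnot⟩ := nonzero f hf hK hS hw hw2 hwU hne
  obtain ⟨js, hok⟩ := hpeel m hm
  have hgG := (mem_GS.1 hg).1
  obtain ⟨g', hg', w', hw'U, hw'G, hw'2, he⟩ := peel f hf hK hok (mul_mem (mul_mem hgG hw) (inv_mem hgG))
    (by calc g * w * g⁻¹ * (g * w * g⁻¹) = g * (w * w) * g⁻¹ := by group
          _ = 1 := by rw [hw2, mul_one, mul_inv_cancel]) hgU hnot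
  obtain ⟨g'', hg'', T, hT, he'⟩ := hnext w' hw'U hw'G hw'2
  have hsub : GS (K := K) (q := q) (insert r S) ≤ GS (K := K) (q := q) S := fun x hx =>
    mem_GS.2 ⟨(mem_GS.1 hx).1, fun s hs => (mem_GS.1 hx).2 s (Finset.mem_insert_of_mem hs)⟩
  have hcm := (mem_GS.1 hg'').2 r (Finset.mem_insert_self r S)
  refine ⟨g'' * g' * g, mul_mem (mul_mem (hsub hg'') hg') hg, r :: T,
    List.mem_cons_of_mem _ (List.mem_map_of_mem hT), ?_⟩
  calc g'' * g' * g * w * (g'' * g' * g)⁻¹ = g'' * (g' * (g * w * g⁻¹) * g'⁻¹) * g''⁻¹ := by group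
    _ = (g'' * xg c6 r 1) * w' * g''⁻¹ := by rw [he]; group
    _ = xg c6 r 1 * (g'' * w' * g''⁻¹) := by rw [← hcm.eq]; group
    _ = _ := by rw [he']; simp [InvolADE.lp]

/-- the products of fixed root elements met -/
theorem lp_G1 {T : List ℕ} (hT : ∀ r ∈ T, r ∈ [71, 60, 44, 39, 63, 51, 47]) :
    InvolADE.lp c6 (F := K) T ∈ twistedE6 K q := by
  refine list_prod_mem fun g hg => ?_
  obtain ⟨r, hr, rfl⟩ := List.mem_map.1 hg
  obtain ⟨h1, h2, h3⟩ := reps_fixed r (hT r hr)
  exact (classes f hf hK).fixed_U_le (ChevalleyUnipotent.xg_mem_U c6 h1 h2 1) (single_fixed f hf hK h2 h3 (map_one f))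

/-- every involution in the positive unipotent subgroup is conjugate to a representative -/
theorem cover_U {w : GL chevE6.Idx K} (hwU : w ∈ chevE6.posUnipotent K) (hw : w ∈ twistedE6 K q) (hw2 : w * w = 1)
    (hne : w ≠ 1) :
    ∃ g ∈ twistedE6 K q, ∃ T ∈ [[71], [71, 60], [71, 60, 44]], g * w * g⁻¹ = InvolADE.lp c6 T := by
  obtain ⟨s1, s2, s3, s4, s0⟩ := state_eq
  have c3 := step f hf hK (S := {71, 60, 44}) (by simp [states]) (r := 39) (by decide +kernel)
    (fun m hm => by simp [fixedNodes] at hm; subst hm; exact ⟨_, peel3⟩) [[]] (fun w' hw' _ _ =>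
      ⟨1, one_mem _, [], by simp, by
        rw [s4, US_empty c6 hL, Subgroup.mem_bot] at hw'
        simp [hw', InvolADE.lp]⟩)
  have c2 := step f hf hK (S := {71, 60}) (by simp [states]) (r := 44) (by decide +kernel)
    (fun m hm => by simp [fixedNodes] at hm; subst hm; exact ⟨_, peel2⟩) _ (by rw [s3]; exact c3)
  have c1 := step f hf hK (S := {71}) (by simp [states]) (r := 60) (by decide +kernel)
    (fun m hm => by simp [fixedNodes] at hm; subst hm; exact ⟨_, peel1⟩) _ (by rw [s2]; exact c2)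
  have c0 := step f hf hK (S := ∅) (by simp [states]) (r := 71) (by decide +kernel)
    (fun m hm => by
      simp [fixedNodes] at hm
      rcases hm with rfl | rfl
      · exact ⟨_, peel0.1⟩
      · exact ⟨_, peel0.2⟩) _ (by rw [s1]; exact c1)
  have hU : w ∈ US c6 (Ps ∅) := by
    rw [s0]
    refine (show chevE6.posUnipotent K ≤ US c6 (posR chevE6) from ?_) hwU
    rw [ChevalleyUnipotent.posUnipotent_eq c6]
    refine (Subgroup.closure_le _).2 ?_
    rintro g ⟨r, t, h1, h2, h3, rfl⟩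
    exact mem_US c6 hL (Finset.mem_Ico.2 ⟨h2, h3⟩) t
  obtain ⟨g, hg, T, hT, he⟩ := c0 w hU hw hw2
  have hgG := (mem_GS.1 hg).1
  simp only [List.map_cons, List.map_nil, List.mem_cons, List.not_mem_nil, or_false] at hT
  rcases hT with rfl | rfl | rfl | rfl | rfl
  · exact absurd (conj_eq_one_iff.1 (he.trans (by simp [InvolADE.lp]))) hne
  · exact ⟨g, hgG, _, by simp, he⟩
  · exact ⟨g, hgG, _, by simp, he⟩
  · exact ⟨g, hgG, _, by simp, he⟩
  -- four roots
  obtain ⟨hnf, ho, hperm⟩ := four_ok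
  set h := InvolADE.lp c6 (F := K) [63, 51, 44, 47]
  have hhG : h ∈ twistedE6 K q := lp_G1 f hf hK (by simp)
  have e : h * InvolADE.lp c6 [71, 60, 44, 39] * h⁻¹ = InvolADE.lp c6 [39, 44, 60] := by
    rw [← lp_reverse c6 hL, ← lp_append c6 hL, ← lp_append c6 hL, ← nf_sound c6 hL 500, hnf, nf_sound c6 hL]
  set l := cw6 [3, 2, 0, 1, 3, 1, 0]
  have hlt : ∀ r ∈ ([39, 44, 60] : List ℕ), r < chevE6.nroots := by decide +kernel
  have e2 : nwd c6 (F := K) l * InvolADE.lp c6 [39, 44, 60] * (nwd c6 l)⁻¹ =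
      InvolADE.lp c6 [wact (D := chevE6) l 39, wact (D := chevE6) l 44, wact (D := chevE6) l 60] := by
    simp only [InvolADE.lp, List.map_cons, List.map_nil, List.prod_cons, List.prod_nil, mul_one]
    rw [← conj_mul, ← conj_mul, InvolTwistKill33.conj_nwd c6 (cw6_lt _) (hlt 39 (by simp)),
      InvolTwistKill33.conj_nwd c6 (cw6_lt _) (hlt 44 (by simp)),
      InvolTwistKill33.conj_nwd c6 (cw6_lt _) (hlt 60 (by simp))]
  have e3 : InvolADE.lp c6 (F := K) [wact (D := chevE6) l 39, wact (D := chevE6) l 44, wact (D := chevE6) l 60] =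
      InvolADE.lp c6 [71, 60, 44] := by
    refine lp_perm c6 hL ?_ ho (by decide +kernel)
    simp only [List.mem_cons, List.not_mem_nil, or_false, Prod.mk.injEq] at hperm
    rcases hperm with ⟨a, b, c⟩ | ⟨a, b, c⟩ | ⟨a, b, c⟩ | ⟨a, b, c⟩ | ⟨a, b, c⟩ | ⟨a, b, c⟩ <;>
      rw [a, b, c] <;> decide
  refine ⟨nwd c6 l * h * g, mul_mem (mul_mem (cw6_mem f hf hK _) hhG) hgG, [71, 60, 44], by simp, ?_⟩
  rw [← e3, ← e2, ← e, ← he]
  group

omit hf hK in
/-- the ranks -/
theorem rank_T : (((InvolADE.lp c6 (F := K) [71] : GL chevE6.Idx K) : Matrix chevE6.Idx chevE6.Idx K) - 1).rank = 22 ∧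
    (((InvolADE.lp c6 (F := K) [71, 60] : GL chevE6.Idx K) : Matrix chevE6.Idx chevE6.Idx K) - 1).rank = 32 ∧
    (((InvolADE.lp c6 (F := K) [71, 60, 44] : GL chevE6.Idx K) : Matrix chevE6.Idx chevE6.Idx K) - 1).rank = 38 := by
  refine ⟨?_, ?_, ?_⟩
  · rw [InvolADE.rank_spec c6 hL E6Data.rank1.1 E6Data.rank1.2.2, E6Data.rank1.2.1]
  · obtain ⟨g, -, e⟩ := move_sound (F := K) c6 hL move_two
    rw [← rank_conj (D := chevE6) e, InvolADE.rank_spec c6 hL E6Data.rank2.1 E6Data.rank2.2.2, E6Data.rank2.2.1]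
  · obtain ⟨g, -, e⟩ := move_sound (F := K) c6 hL move_three
    rw [← rank_conj (D := chevE6) e, InvolADE.rank_spec c6 hL E6Data.rank3.1 E6Data.rank3.2.2, E6Data.rank3.2.1]

/-- the count -/
theorem ncard_classes : (ConjClasses.mk '' {g : ↥(twistedE6 K q) | orderOf g = 2}).ncard = 3 := by
  classical
  obtain ⟨r1, r2, r3⟩ := rank_T (K := K)
  set A : ↥(twistedE6 K q) := ⟨InvolADE.lp c6 [71], lp_G1 f hf hK (by simp)⟩ with hA
  set B : ↥(twistedE6 K q) := ⟨InvolADE.lp c6 [71, 60], lp_G1 f hf hK (by simp)⟩ with hB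
  set C : ↥(twistedE6 K q) := ⟨InvolADE.lp c6 [71, 60, 44], lp_G1 f hf hK (by simp)⟩ with hC
  have hord : ∀ T : List ℕ, orthB chevE6 T = true → (∀ r ∈ T, r < chevE6.nroots) → ∀ n, 0 < n →
      (((InvolADE.lp c6 (F := K) T : GL chevE6.Idx K) : Matrix chevE6.Idx chevE6.Idx K) - 1).rank = n →
        ∀ x : ↥(twistedE6 K q), (x : GL chevE6.Idx K) = InvolADE.lp c6 T → orderOf x = 2 := fun T ho hT n hn hr x hx => by
    rw [← Subgroup.orderOf_coe, hx]
    exact (lp_order c6 hL ho hT (hr ▸ hn)).2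
  have hA2 := hord [71] (by decide +kernel) (by decide +kernel) 22 (by norm_num) r1 A rfl
  have hB2 := hord [71, 60] (by decide +kernel) (by decide +kernel) 32 (by norm_num) r2 B rfl
  have hC2 := hord [71, 60, 44] (by decide +kernel) (by decide +kernel) 38 (by norm_num) r3 C rfl
  have hdiff : ∀ x y : ↥(twistedE6 K q), ∀ a b : ℕ, a ≠ b →
      (((x : GL chevE6.Idx K) : Matrix chevE6.Idx chevE6.Idx K) - 1).rank = a →
      (((y : GL chevE6.Idx K) : Matrix chevE6.Idx chevE6.Idx K) - 1).rank = b →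
        ConjClasses.mk x ≠ ConjClasses.mk y := fun x y a b hab hx hy e => by
    obtain ⟨z, hz⟩ := isConj_iff.1 (ConjClasses.mk_eq_mk_iff_isConj.1 e)
    have := rank_conj (D := chevE6) (congrArg Subtype.val hz)
    rw [hx, hy] at this
    exact hab (by omega)
  have himg : ConjClasses.mk '' {g : ↥(twistedE6 K q) | orderOf g = 2} =
      {ConjClasses.mk A, ConjClasses.mk B, ConjClasses.mk C} := by
    ext c
    simp only [Set.mem_image, Set.mem_setOf_eq, Set.mem_insert_iff, Set.mem_singleton_iff]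
    constructor
    · rintro ⟨s, hs, rfl⟩
      have hs2 : s * s = 1 := by rw [← pow_two, ← hs, pow_orderOf_eq_one]
      set H := (chevE6.posUnipotent K ⊓ twistedE6 K q).subgroupOf (twistedE6 K q)
      have hq := TwistedField.one_lt_base hK
      have hqe : q % 2 = 0 := by
        obtain ⟨n, -, hn⟩ := FiniteField.card K 2
        rw [hK] at hn
        have : 2 ∣ q ^ 2 := hn ▸ dvd_pow_self 2 n.ne_zero
        have := Nat.Prime.dvd_of_dvd_pow Nat.prime_two this
        omega
      have hodd : ¬ 2 ∣ H.index := by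
        intro hd
        have h := Subgroup.card_mul_index H
        rw [Nat.card_congr (Subgroup.subgroupOfEquivOfLe inf_le_right).toEquiv, card_U1 f hf hK] at h
        have h2 := card_group f hf hK
        rw [← h, mul_left_comm, mul_assoc (q ^ 36), mul_assoc (q ^ 36), mul_assoc (q ^ 36), mul_assoc (q ^ 36),
          mul_assoc (q ^ 36)] at h2
        have h3 := Nat.eq_of_mul_eq_mul_left (pow_pos (by omega) 36) h2
        have k : ∀ n, n ≠ 0 → q ^ n % 2 = 0 := fun n hn => by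
          rw [Nat.pow_mod, hqe, zero_pow hn, Nat.zero_mod]
        have p1 : ∀ n, 1 ≤ q ^ n := fun n => Nat.one_le_pow _ _ (by omega)
        have h4 : 2 ∣ (q ^ 2 - 1) * (q ^ 5 + 1) * (q ^ 6 - 1) * (q ^ 8 - 1) * (q ^ 9 + 1) * (q ^ 12 - 1) :=
          h3 ▸ dvd_mul_of_dvd_right hd _
        simp only [Nat.Prime.dvd_mul Nat.prime_two] at h4
        have := k 2 (by norm_num); have := k 5 (by norm_num); have := k 6 (by norm_num)
        have := k 8 (by norm_num); have := k 9 (by norm_num); have := k 12 (by norm_num)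
        have := p1 2; have := p1 6; have := p1 8; have := p1 12
        omega
      have : Fintype (↥(twistedE6 K q) ⧸ H) := Fintype.ofFinite _
      set σ : Equiv.Perm (↥(twistedE6 K q) ⧸ H) := MulAction.toPerm s
      have hσ : σ ^ (2 : ℕ) ^ 1 = 1 := by
        rw [pow_one, pow_two]
        ext x
        show s • s • x = x
        rw [smul_smul, hs2, one_smul]
      obtain ⟨x, hx⟩ := Equiv.Perm.exists_fixed_point_of_prime (p := 2) (n := 1)
        (by rw [← Nat.card_eq_fintype_card]; exact hodd) hσ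
      obtain ⟨y, rfl⟩ := QuotientGroup.mk_surjective x
      have hy : y⁻¹ * (s * y) ∈ H := QuotientGroup.eq.1 (Eq.symm hx)
      set u := y⁻¹ * (s * y) with hu
      have hu2 : u * u = 1 := by
        rw [hu]
        calc y⁻¹ * (s * y) * (y⁻¹ * (s * y)) = y⁻¹ * (s * s) * y := by group
          _ = 1 := by rw [hs2, mul_one, inv_mul_cancel]
      have hune : u ≠ 1 := fun e => by
        have hs1 : s = 1 := by
          have := congrArg (fun z => y * z * y⁻¹) e
          simpa [hu, mul_assoc] using this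
        rw [hs1, orderOf_one] at hs
        omega
      obtain ⟨g, hg, T, hT, he⟩ := cover_U f hf hK (Subgroup.mem_subgroupOf.1 hy).1 u.2 (congrArg Subtype.val hu2)
        (fun e => hune (Subtype.ext e))
      have key : ∀ X : ↥(twistedE6 K q), (X : GL chevE6.Idx K) = InvolADE.lp c6 T → ConjClasses.mk s = ConjClasses.mk X :=
        fun X hX => by
          rw [ConjClasses.mk_eq_mk_iff_isConj, isConj_iff]
          refine ⟨⟨g, hg⟩ * y⁻¹, Subtype.ext ?_⟩
          rw [hX, ← he]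
          simp [hu, mul_assoc]
      simp only [List.mem_cons, List.not_mem_nil, or_false] at hT
      rcases hT with rfl | rfl | rfl
      · exact Or.inl (key A rfl)
      · exact Or.inr (Or.inl (key B rfl))
      · exact Or.inr (Or.inr (key C rfl))
    · rintro (rfl | rfl | rfl)
      exacts [⟨A, hA2, rfl⟩, ⟨B, hB2, rfl⟩, ⟨C, hC2, rfl⟩]
  rw [himg]
  exact Set.ncard_eq_three.2 ⟨_, _, _, hdiff A B 22 32 (by norm_num) r1 r2, hdiff A C 22 38 (by norm_num) r1 r3,
    hdiff B C 32 38 (by norm_num) r2 r3, rfl⟩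

end Cfsg.Agent.InvolTwistMain33
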