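import Cfsg.Agent.Lib.InvolTwistSteps33

/-!
Involutions of `²E₆(q)`, `q` even: peeling a long root element off.
-/

set_option autoImplicit false
set_option linter.unusedSectionVars false
set_option linter.unusedSimpArgs false
set_option linter.unusedVariables false
set_option maxRecDepth 20000
set_option synthInstance.maxSize 2000
set_option synthInstance.maxHeartbeats 400000
set_option maxHeartbeats 1600000

namespace Cfsg.Agent.InvolTwistPeel33

open Cfsg.Lie Cfsg.Agent.ChevalleyEngine Cfsg.Agent.ChevalleyCert Cfsg.Agent.ChevalleyRoots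
open Cfsg.Agent.ChevalleyCore Cfsg.Agent.ChevalleyTorus Cfsg.Agent.ChevalleyUnipotent Cfsg.Agent.ChevBruhat
open Cfsg.Agent.TwistedCore Cfsg.Agent.TwistedE6 Cfsg.Agent.TwoGenCert98 Cfsg.Agent.TwistSeed98
open Cfsg.Agent.InvolADE Cfsg.Agent.InvolTwistKill33 Cfsg.Agent.InvolTwistSteps33

set_option quotPrecheck false

/-- the symmetry -/
local notation "ρ₆" => (Cfsg.Agent.ChevalleyGraph.symE6).rho

/-- after reflecting the far pair at the middle one -/
abbrev X1 (S : Finset ℕ) : Finset ℕ := Ps S \ {42, 37, 56, 36, 57, 38}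

/-- after reflecting at `39` -/
abbrev X2 (S : Finset ℕ) : Finset ℕ := Ps S \ {39, 56, 36, 58, 41}

/-- after reflecting at the far pair -/
abbrev X3 (S : Finset ℕ) : Finset ℕ := Ps S \ {39, 56, 36, 43, 40}

/-- the start -/
abbrev R1 (S : Finset ℕ) : Finset ℕ := ((((YA S).erase 56).erase 36).erase 57).erase 38

theorem farOK : ∀ S ∈ statesB, (∀ s ∈ S, s < chevE6.nroots ∧ wact (D := chevE6) (cw6 [1]) s = s ∧
      wact (D := chevE6) (cw6 [2]) s = s ∧ wact (D := chevE6) (cw6 [3]) s = s) ∧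
    (∀ r ∈ ([42, 37, 56, 36, 57, 38, 58, 41, 43, 40] : List ℕ), r ∈ Ps S) ∧
    closedB chevE6 ((Ps S).erase 39) ∧ closedB chevE6 (YA S) ∧ indecB chevE6 (YA S) 56 ∧ indecB chevE6 (YA S) 36 ∧
    closedB chevE6 (((YA S).erase 56).erase 36) ∧ indecB chevE6 (((YA S).erase 56).erase 36) 57 ∧
    indecB chevE6 (((YA S).erase 56).erase 36) 38 ∧
    closedB chevE6 (X1 S) ∧ closedB chevE6 (X2 S) ∧ closedB chevE6 (X3 S) ∧ closedB chevE6 (insert 37 (YA S)) ∧
    (∀ s ∈ ((YA S).erase 56).erase 36, ρ₆ s ∈ ((YA S).erase 56).erase 36) ∧ (∀ s ∈ R1 S, ρ₆ s ∈ R1 S) ∧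
    (∀ r ∈ ([42, 37] : List ℕ), normOK r (R1 S)) ∧
    (∀ r ∈ ([57, 38] : List ℕ), r ∈ (Ps S).erase 39) ∧ (∀ r ∈ ([58, 41, 43, 40] : List ℕ), r ∈ YA S) ∧
    42 ∉ insert 37 (YA S) ∧
    (∀ r ∈ R1 S, wact (D := chevE6) (cw6 [3]) r ∈ X1 S) ∧
    (∀ r ∈ X1 S ∩ (Ps S).erase 39, wact (D := chevE6) (cw6 [1]) r ∈ X2 S) ∧
    (∀ r ∈ X2 S ∩ YA S, wact (D := chevE6) (cw6 [2]) r ∈ X3 S) ∧
    (∀ r ∈ X3 S ∩ YA S, wact (D := chevE6) (cw6 [1]) r ∈ YA S) := by
  decide +kernel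

theorem ads2 : ad chevE6 42 57 = none ∧ ad chevE6 42 38 = none ∧ ad chevE6 37 57 = none ∧ ad chevE6 37 38 = none := by
  decide +kernel

variable {K : Type*} [Field K] [CharP K 2] {q : ℕ} (f : K →+* K) (hf : ∀ t, f t = t ^ q)
variable [Fintype K] (hK : Fintype.card K = q ^ 2)

include hf hK

theorem pe_US {Q : Finset ℕ} {r r' : ℕ} (h : r ∈ Q) (h' : r' ∈ Q) (a : K) : pe f r r' a ∈ US c6 Q :=
  mul_mem (mem_US c6 hL h _) (mem_US c6 hL h' _)

/-- `pe₄₂(u)` on the pairs `56` and `57` -/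
theorem conjA (u a d : K) : pe f 42 37 u * pe f 56 36 a * (pe f 42 37 u)⁻¹ = pe f 56 36 a * pe f 57 38 (u * a) ∧
    pe f 42 37 u * pe f 57 38 d * (pe f 42 37 u)⁻¹ = pe f 57 38 d := by
  obtain ⟨-, -, -, -, -, -, -, -, -, -, -, -, b1, b2, n1, n2, n3, n4, n5⟩ := ads
  obtain ⟨m1, m2, m3, m4⟩ := ads2
  have L := lt6
  have l := fun r (h : r ∈ ([39, 42, 37, 43, 40, 44, 56, 36, 57, 38, 58, 41] : List ℕ)) => (L r h).1
  have ne := fun r (h : r ∈ ([39, 42, 37, 43, 40, 44, 56, 36, 57, 38, 58, 41] : List ℕ)) s hs => (L r h).2 s hs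
  constructor
  · have e1 : xg c6 37 (f u) * xg c6 36 (f a) * (xg c6 37 (f u))⁻¹ = xg c6 36 (f a) * xg c6 38 (f u * f a) :=
      conj_some c6 hL (l 37 (by simp)) (l 36 (by simp)) b2 _ _
    have e2 : xg c6 42 u * xg c6 56 a * (xg c6 42 u)⁻¹ = xg c6 56 a * xg c6 57 (u * a) :=
      conj_some c6 hL (l 42 (by simp)) (l 56 (by simp)) b1 _ _
    have c1 := one_comm f hf hK (l 37 (by simp)) (l 56 (by simp)) (ne 37 (by simp) 56 (by simp)) n2 (f u) a
    have c2 := one_comm f hf hK (l 42 (by simp)) (l 36 (by simp)) (ne 42 (by simp) 36 (by simp)) n1 u (f a)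
    have c3 := one_comm f hf hK (l 42 (by simp)) (l 38 (by simp)) (ne 42 (by simp) 38 (by simp)) n4 u (f u * f a)
    have c4 : Commute (xg c6 57 (u * a)) (xg c6 36 (f a)) :=
      comm_none c6 hL (l 57 (by simp)) (l 36 (by simp)) (ne 57 (by simp) 36 (by simp)) n3 _ _
    calc pe f 42 37 u * pe f 56 36 a * (pe f 42 37 u)⁻¹
        = xg c6 42 u * ((xg c6 37 (f u) * xg c6 56 a * (xg c6 37 (f u))⁻¹) *
            (xg c6 37 (f u) * xg c6 36 (f a) * (xg c6 37 (f u))⁻¹)) * (xg c6 42 u)⁻¹ := by unfold pe; group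
      _ = (xg c6 42 u * xg c6 56 a * (xg c6 42 u)⁻¹) * (xg c6 42 u * xg c6 36 (f a) * (xg c6 42 u)⁻¹) *
            (xg c6 42 u * xg c6 38 (f u * f a) * (xg c6 42 u)⁻¹) := by rw [c1, e1]; group
      _ = xg c6 56 a * (xg c6 57 (u * a) * xg c6 36 (f a)) * xg c6 38 (f u * f a) := by rw [e2, c2, c3]; group
      _ = _ := by rw [c4.eq, ← map_mul]; unfold pe; group
  · have d1 := one_comm f hf hK (l 37 (by simp)) (l 57 (by simp)) (ne 37 (by simp) 57 (by simp)) m3 (f u) d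
    have d2 := one_comm f hf hK (l 37 (by simp)) (l 38 (by simp)) (ne 37 (by simp) 38 (by simp)) m4 (f u) (f d)
    have d3 := one_comm f hf hK (l 42 (by simp)) (l 57 (by simp)) (ne 42 (by simp) 57 (by simp)) m1 u d
    have d4 := one_comm f hf hK (l 42 (by simp)) (l 38 (by simp)) (ne 42 (by simp) 38 (by simp)) m2 u (f d)
    calc pe f 42 37 u * pe f 57 38 d * (pe f 42 37 u)⁻¹
        = xg c6 42 u * ((xg c6 37 (f u) * xg c6 57 d * (xg c6 37 (f u))⁻¹) *
            (xg c6 37 (f u) * xg c6 38 (f d) * (xg c6 37 (f u))⁻¹)) * (xg c6 42 u)⁻¹ := by unfold pe; group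
      _ = (xg c6 42 u * xg c6 57 d * (xg c6 42 u)⁻¹) * (xg c6 42 u * xg c6 38 (f d) * (xg c6 42 u)⁻¹) := by
            rw [d1, d2]; group
      _ = _ := by rw [d3, d4, pe]

omit hf hK in
theorem stB : ∀ S ∈ statesB, S ∈ statesA := by decide

/-- the conjugates have no coefficient at the far pair -/
theorem far {S : Finset ℕ} (hS : S ∈ statesB) {z : GL chevE6.Idx K} (hz : Good (q := q) S z) :
    z ∈ US c6 (((YA S).erase 56).erase 36) := by
  have hSA := stB S hS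
  obtain ⟨hS1, hroots, hc0, hcY, i56, i36, hcY', i57, i38, hcX1, hcX2, hcX3, hcI, hρY, hρR, hnorm, hin39, hinY,
    h42, hs3, hs1, hs2, hs1'⟩ := farOK S hS
  obtain ⟨p42, p43, p56, p57, p58, ρ39, -, ⟨w1, w2⟩, ⟨v1, v2⟩, ⟨u1, u2⟩, ⟨t1, t2⟩, ⟨r1, r2⟩, -⟩ := roots_ok
  have hSlt : ∀ t ∈ S, t < chevE6.nroots := fun t ht => (hS1 t ht).1
  obtain ⟨a, h1, hh1, rfl, hh1f⟩ := InvolTwistSteps33.split_pair f hf hK hcY p56 (by decide) i56 i36 hρY
    (mid f hf hK hSA hz) ((classes f hf hK).G1_le hz.mem)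
  by_cases ha : a = 0
  · subst ha; simpa [pe] using hh1
  exfalso
  obtain ⟨d, h2, hh2, rfl, -⟩ := InvolTwistSteps33.split_pair f hf hK hcY' p57 (by decide) i57 i38 hρR hh1 hh1f
  have hYPs : YA S ⊆ Ps S := fun r hr => by
    simp only [Finset.mem_erase] at hr; exact hr.2.2.2
  have hR1Ps : R1 S ⊆ Ps S := fun r hr => by
    simp only [R1, Finset.mem_erase] at hr; exact hr.2.2.2.2.2.2.2
  have hPsX : ∀ X : Finset ℕ, Ps S \ X ⊆ Ps S := fun X => Finset.sdiff_subset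
  -- clear the pair `57`
  set u := d / a with hu
  have hR : pe f 42 37 u ∈ GS (K := K) (q := q) S :=
    US_fixed_GS f hf hK hSlt (Finset.Subset.refl _) (pe_US f hf hK (hroots 42 (by simp)) (hroots 37 (by simp)) u)
      (pe_fixed f hf hK p42 u)
  set h3 := pe f 42 37 u * h2 * (pe f 42 37 u)⁻¹
  have hh3 : h3 ∈ US c6 (R1 S) := pe_conj_US f (hnorm 42 (by simp)) (hnorm 37 (by simp)) u hh2
  have e1 : pe f 42 37 u * (pe f 56 36 a * (pe f 57 38 d * h2)) * (pe f 42 37 u)⁻¹ = pe f 56 36 a * h3 := by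
    calc pe f 42 37 u * (pe f 56 36 a * (pe f 57 38 d * h2)) * (pe f 42 37 u)⁻¹
        = (pe f 42 37 u * pe f 56 36 a * (pe f 42 37 u)⁻¹) * (pe f 42 37 u * pe f 57 38 d * (pe f 42 37 u)⁻¹) *
            h3 := by simp only [h3]; group
      _ = pe f 56 36 a * (pe f 57 38 d * pe f 57 38 d) * h3 := by
          rw [(conjA f hf hK u a d).1, (conjA f hf hK u a d).2, hu, div_mul_cancel₀ d ha]; group
      _ = _ := by rw [pe_sq f hf hK p57, mul_one]
  have G1' := Good.conj f hf hK hz hR (e1 ▸ mul_mem (pe_US f hf hK (hroots 56 (by simp)) (hroots 36 (by simp)) a)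
    (US_mono c6 hL hR1Ps hh3))
  rw [e1] at G1'
  -- reflect at the middle pair
  have hn3 := nwd_GS f hf hK hSlt (cw6_lt [3]) (cw6_mem f hf hK [3]) fun t ht => (hS1 t ht).2.2.2
  set h4 := nwd c6 (cw6 [3]) * h3 * (nwd c6 (cw6 [3]))⁻¹
  have hh4 : h4 ∈ US c6 (X1 S) :=
    conj_nwd_US c6 hL (cw6_lt [3]) (fun r hr => Finset.mem_Ico.2 (Psi_pos c6 hL (hR1Ps hr))) hs3 hh3
  have e2 : nwd c6 (cw6 [3]) * (pe f 56 36 a * h3) * (nwd c6 (cw6 [3]))⁻¹ = pe f 57 38 a * h4 := by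
    rw [← conj_mul, conj_pe f hf hK (cw6_lt [3]) p56 v1 v2]
  have G2' := Good.conj f hf hK G1' hn3 (e2 ▸ mul_mem (pe_US f hf hK (hroots 57 (by simp)) (hroots 38 (by simp)) a)
    (US_mono c6 hL (hPsX _) hh4))
  rw [e2] at G2'
  have hh4' : h4 ∈ US c6 (X1 S ∩ (Ps S).erase 39) :=
    US_inter c6 hL (closed_of hcX1).1 (closed_of hcX1).2 (closed_of hc0).1 (closed_of hc0).2 hh4
      ((Subgroup.mul_mem_cancel_left _ (pe_US f hf hK (hin39 57 (by simp)) (hin39 38 (by simp)) a)).1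
        (Good.self f hf hK G2'))
  -- reflect at `39`
  have hn1 := nwd_GS f hf hK hSlt (cw6_lt [1]) (cw6_mem f hf hK [1]) fun t ht => (hS1 t ht).2.1
  set h5 := nwd c6 (cw6 [1]) * h4 * (nwd c6 (cw6 [1]))⁻¹
  have hh5 : h5 ∈ US c6 (X2 S) :=
    conj_nwd_US c6 hL (cw6_lt [1]) (Finset.inter_subset_left.trans hcX1.1) hs1 hh4'
  have e3 : nwd c6 (cw6 [1]) * (pe f 57 38 a * h4) * (nwd c6 (cw6 [1]))⁻¹ = pe f 58 41 a * h5 := by
    rw [← conj_mul, conj_pe f hf hK (cw6_lt [1]) p57 u1 u2]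
  have G3' := Good.conj f hf hK G2' hn1 (e3 ▸ mul_mem (pe_US f hf hK (hroots 58 (by simp)) (hroots 41 (by simp)) a)
    (US_mono c6 hL (hPsX _) hh5))
  rw [e3] at G3'
  have hh5' : h5 ∈ US c6 (X2 S ∩ YA S) :=
    US_inter c6 hL (closed_of hcX2).1 (closed_of hcX2).2 (closed_of hcY).1 (closed_of hcY).2 hh5
      ((Subgroup.mul_mem_cancel_left _ (pe_US f hf hK (hinY 58 (by simp)) (hinY 41 (by simp)) a)).1
        (mid f hf hK hSA G3'))
  -- reflect at the far pair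
  have hn2 := nwd_GS f hf hK hSlt (cw6_lt [2]) (cw6_mem f hf hK [2]) fun t ht => (hS1 t ht).2.2.1
  set h6 := nwd c6 (cw6 [2]) * h5 * (nwd c6 (cw6 [2]))⁻¹
  have hh6 : h6 ∈ US c6 (X3 S) :=
    conj_nwd_US c6 hL (cw6_lt [2]) (Finset.inter_subset_left.trans hcX2.1) hs2 hh5'
  have e4 : nwd c6 (cw6 [2]) * (pe f 58 41 a * h5) * (nwd c6 (cw6 [2]))⁻¹ = pe f 43 40 a * h6 := by
    rw [← conj_mul, conj_pe f hf hK (cw6_lt [2]) p58 t1 t2]
  have G4' := Good.conj f hf hK G3' hn2 (e4 ▸ mul_mem (pe_US f hf hK (hroots 43 (by simp)) (hroots 40 (by simp)) a)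
    (US_mono c6 hL (hPsX _) hh6))
  rw [e4] at G4'
  have hh6' : h6 ∈ US c6 (X3 S ∩ YA S) :=
    US_inter c6 hL (closed_of hcX3).1 (closed_of hcX3).2 (closed_of hcY).1 (closed_of hcY).2 hh6
      ((Subgroup.mul_mem_cancel_left _ (pe_US f hf hK (hinY 43 (by simp)) (hinY 40 (by simp)) a)).1
        (mid f hf hK hSA G4'))
  -- back
  set h7 := nwd c6 (cw6 [1]) * h6 * (nwd c6 (cw6 [1]))⁻¹
  have hh7 : h7 ∈ US c6 (YA S) :=
    conj_nwd_US c6 hL (cw6_lt [1]) (Finset.inter_subset_left.trans hcX3.1) hs1' hh6'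
  have e5 : nwd c6 (cw6 [1]) * (pe f 43 40 a * h6) * (nwd c6 (cw6 [1]))⁻¹ = pe f 42 37 a * h7 := by
    rw [← conj_mul, conj_pe f hf hK (cw6_lt [1]) p43 r1 r2]
  have G5' := Good.conj f hf hK G4' hn1 (e5 ▸ mul_mem (pe_US f hf hK (hroots 42 (by simp)) (hroots 37 (by simp)) a)
    (US_mono c6 hL hYPs hh7))
  rw [e5] at G5'
  exact ha (pe_zero f hcI (Psi_pos c6 hL (hroots 42 (by simp))) h42
    ((Subgroup.mul_mem_cancel_right _ hh7).1 (mid f hf hK hSA G5')))

/-! ### a coefficient at a fixed fundamental root -/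

omit hf hK in
/-- the fixed fundamental roots of a state -/
def fixedNodes (S : Finset ℕ) : List ℕ := if S = ∅ then [39, 46] else [39]

omit hf hK in
/-- the decomposable roots of a state -/
def D0 (S : Finset ℕ) : Finset ℕ :=
  if S = ∅ then (((YA S).erase 56).erase 36).erase 46
  else if S = {71} then ((YA S).erase 56).erase 36
  else if S = {71, 60} then YA S else (Ps S).erase 39

omit hf hK in
/-- the check of a chain of reflections emptying `A` -/
def okChain (S : Finset ℕ) : Finset ℕ → List ℕ → Bool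
  | A, [] => decide (A = ∅)
  | A, j :: js => decide (closedB chevE6 A) && decide (closedB chevE6 (A.image (wact (D := chevE6) (cw6 [j]).reverse))) &&
      decide (∀ r ∈ A, wact (D := chevE6) (cw6 [j]) r ∈ Ps S) &&
      decide (∀ s ∈ S, wact (D := chevE6) (cw6 [j]) s = s) &&
      okChain S (A ∩ A.image (wact (D := chevE6) (cw6 [j]).reverse)) js

omit hf hK in
/-- the chain of a state -/
def chainOf (S : Finset ℕ) : List ℕ :=
  if S = ∅ then [0, 1, 2, 3, 0, 1, 2, 3, 1, 2, 0] else if S = {71} then [1, 2, 3, 2]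
  else if S = {71, 60} then [1, 3] else []

omit hf hK in
/-- the states -/
def states : List (Finset ℕ) := [∅, {71}, {71, 60}, {71, 60, 44}]

omit hf hK in
theorem chain_ok : ∀ S ∈ states, (∀ s ∈ S, s < chevE6.nroots) ∧ okChain S (D0 S) (chainOf S) = true := by
  decide +kernel

omit hf hK in
theorem zeroOK : closedB chevE6 ((Ps ∅).erase 46) ∧
    closedB chevE6 (((YA ∅).erase 56).erase 36) ∧
    (((YA ∅).erase 56).erase 36) ∩ (Ps ∅).erase 46 ⊆ D0 ∅ ∧
    ((YA {71}).erase 56).erase 36 ⊆ D0 {71} ∧ YA {71, 60} ⊆ D0 {71, 60} ∧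
    (Ps {71, 60, 44}).erase 39 ⊆ D0 {71, 60, 44} := by
  decide +kernel

/-- some conjugate has a non-zero coefficient at a fixed fundamental root -/
theorem nonzero {S : Finset ℕ} (hS : S ∈ states) {w : GL chevE6.Idx K} (hw : w ∈ twistedE6 K q) (hw2 : w * w = 1)
    (hwU : w ∈ US c6 (Ps S)) (hne : w ≠ 1) :
    ∃ g ∈ GS (K := K) (q := q) S, g * w * g⁻¹ ∈ US c6 (Ps S) ∧
      ∃ m ∈ fixedNodes S, g * w * g⁻¹ ∉ US c6 ((Ps S).erase m) := by
  classical
  by_contra hc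
  push Not at hc
  apply hne
  obtain ⟨hSlt, hchain⟩ := chain_ok S hS
  have hgood : ∀ g ∈ GS (K := K) (q := q) S, g * w * g⁻¹ ∈ US c6 (Ps S) → Good (q := q) S (g * w * g⁻¹) := by
    intro g hg hgU
    refine Good.conj f hf hK ⟨hw, hw2, hwU, fun g' hg' h' => hc g' hg' h' 39 ?_⟩ hg hgU
    simp [fixedNodes]; split <;> simp
  have hD0 : ∀ g ∈ GS (K := K) (q := q) S, g * w * g⁻¹ ∈ US c6 (Ps S) → g * w * g⁻¹ ∈ US c6 (D0 S) := by
    intro g hg hgU
    have G := hgood g hg hgU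
    obtain ⟨z1, z2, z3, z4, z5, z6⟩ := zeroOK
    simp only [states, List.mem_cons, List.not_mem_nil, or_false] at hS
    rcases hS with rfl | rfl | rfl | rfl
    · exact US_mono c6 hL z3 (US_inter c6 hL (closed_of z2).1 (closed_of z2).2 (closed_of z1).1 (closed_of z1).2
        (far f hf hK (by simp [statesB]) G) (hc g hg hgU 46 (by simp [fixedNodes])))
    · exact US_mono c6 hL z4 (far f hf hK (by simp [statesB]) G)
    · exact US_mono c6 hL z5 (mid f hf hK (by simp [statesA]) G)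
    · exact US_mono c6 hL z6 (Good.self f hf hK G)
  suffices key : ∀ js A, okChain S A js = true →
      (∀ g ∈ GS (K := K) (q := q) S, g * w * g⁻¹ ∈ US c6 (Ps S) → g * w * g⁻¹ ∈ US c6 A) → w = 1 from
    key _ _ hchain hD0
  intro js
  induction js with
  | nil =>
    intro A hA h
    simp only [okChain, decide_eq_true_eq] at hA
    have := h 1 (one_mem _) (by simpa using hwU)
    rw [hA, US_empty c6 hL, Subgroup.mem_bot] at this
    simpa using this
  | cons j js ih =>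
    intro A hA h
    simp only [okChain, Bool.and_eq_true, decide_eq_true_eq] at hA
    obtain ⟨⟨⟨⟨hcA, hcB⟩, himg⟩, hfix⟩, hrest⟩ := hA
    refine ih _ hrest fun g hg hgU => ?_
    set n := nwd c6 (F := K) (cw6 [j])
    have hn : n ∈ GS (K := K) (q := q) S := nwd_GS f hf hK hSlt (cw6_lt [j]) (cw6_mem f hf hK [j]) hfix
    have e : n * g * w * (n * g)⁻¹ = n * (g * w * g⁻¹) * n⁻¹ := by group
    have h1 := h g hg hgU
    have h2 : n * g * w * (n * g)⁻¹ ∈ US c6 (Ps S) := e ▸ conj_nwd_US c6 hL (cw6_lt [j]) hcA.1 himg h1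
    have h3 := h (n * g) (mul_mem hn hg) h2
    rw [e] at h3
    set n' := nwd c6 (F := K) (cw6 [j]).reverse
    have hn' : n' = n⁻¹ := eq_inv_of_mul_eq_one_right (nwd_reverse c6 (cw6_lt [j]))
    have h4 : n' * (n * (g * w * g⁻¹) * n⁻¹) * n'⁻¹ ∈ US c6 (A.image (wact (D := chevE6) (cw6 [j]).reverse)) :=
      conj_nwd_US c6 hL (fun i hi => cw6_lt [j] i (List.mem_reverse.1 hi)) hcA.1
        (fun r hr => Finset.mem_image_of_mem _ hr) h3
    rw [hn', show n⁻¹ * (n * (g * w * g⁻¹) * n⁻¹) * n⁻¹⁻¹ = g * w * g⁻¹ by group] at h4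
    exact US_inter c6 hL (closed_of hcA).1 (closed_of hcA).2 (closed_of hcB).1 (closed_of hcB).2 h1 h4

/-! ### peeling -/

omit hf hK in
/-- the facts for peeling off the root `r` after starting from `m` -/
def peelOK (S : Finset ℕ) (m r : ℕ) (js : List ℕ) : Bool :=
  decide (closedB chevE6 (Ps S)) && decide (indecB chevE6 (Ps S) m) && decide (ρ₆ m = m) &&
  decide (∀ s ∈ Ps S, ρ₆ s ∈ Ps S) && decide (∀ s ∈ (Ps S).erase m, ρ₆ s ∈ (Ps S).erase m) &&
  decide (∀ s ∈ Rm chevE6 S m, ρ₆ s ∈ Rm chevE6 S m) &&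
  decide (∀ s ∈ Psi chevE6 (insert m S), ρ₆ s ∈ Psi chevE6 (insert m S)) &&
  decide (wact (D := chevE6) (cw6 js) m = r) && decide (∀ s ∈ S, s < chevE6.nroots ∧ wact (D := chevE6) (cw6 js) s = s) &&
  decide (∀ s ∈ Psi chevE6 (insert m S), wact (D := chevE6) (cw6 js) s ∈ Psi chevE6 (insert r S)) &&
  decide (ρ₆ (chevE6.neg m) = chevE6.neg m)

theorem peel {S : Finset ℕ} {m r : ℕ} {js : List ℕ} (hok : peelOK S m r js = true) {w : GL chevE6.Idx K}
    (hw : w ∈ twistedE6 K q) (hw2 : w * w = 1) (hwU : w ∈ US c6 (Ps S)) (hnz : w ∉ US c6 ((Ps S).erase m)) :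
    ∃ g ∈ GS (K := K) (q := q) S, ∃ w' ∈ US c6 (Psi chevE6 (insert r S)), w' ∈ twistedE6 K q ∧ w' * w' = 1 ∧
      g * w * g⁻¹ = xg c6 r 1 * w' := by
  simp only [peelOK, Bool.and_eq_true, decide_eq_true_eq] at hok
  obtain ⟨⟨⟨⟨⟨⟨⟨⟨⟨⟨hc, hi⟩, hρm⟩, hρP⟩, hρE⟩, hρR⟩, hρZ⟩, hwm⟩, hfix⟩, himg⟩, hρn⟩ := hok
  set C1 := classes f hf hK
  have hSlt : ∀ s ∈ S, s < chevE6.nroots := fun s hs => (hfix s hs).1
  have hm' := Psi_pos c6 hL hi.1
  obtain ⟨t, htf, v, hv, rfl, hvf⟩ := split_single f hf hK hc hi hρm hρE hwU (C1.G1_le hw)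
  have ht : t ≠ 0 := by
    rintro rfl
    exact hnz (by simpa using hv)
  obtain ⟨g, hgR, v', hv', he⟩ := kill' c6 hL hi.1 (indecB_indec hi) ht hv hw2
  have hgg : g ∈ chevE6.group K := by
    refine (Subgroup.closure_le _).2 ?_ hgR
    rintro x ⟨s, -, d, rfl⟩; exact xg_mem_group c6 s d
  have hv'g : v' ∈ chevE6.group K := by
    refine (Subgroup.closure_le _).2 ?_ hv'
    rintro x ⟨s, -, d, rfl⟩; exact xg_mem_group c6 s d
  have hRsub : Rm chevE6 S m ⊆ posR chevE6 := fun s hs =>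
    Finset.mem_Ico.2 (Psi_pos c6 hL (Finset.mem_filter.1 hs).1)
  have hZsub : Psi chevE6 (insert m S) ⊆ posR chevE6 := fun s hs => Finset.mem_Ico.2 (Psi_pos c6 hL hs)
  have hsg := sg_US f hf hK hRsub hρR hgR
  have hsv := sg_US f hf hK hZsub hρZ hv'
  set P := xg c6 m t
  have hPf : P ∈ (tw f).Fixed := single_fixed f hf hK hm'.2 hρm htf
  have he2 : (tw f).sg g * (P * v) * ((tw f).sg g)⁻¹ = P * (tw f).sg v' := by
    have h1 := congrArg (tw f).sg he
    rw [(tw f).sg_mul (mul_mem hgg (C1.G1_le hw).1) (inv_mem hgg), (tw f).sg_mul hgg (C1.G1_le hw).1,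
      (tw f).sg_inv hgg, (C1.G1_le hw).2, (tw f).sg_mul hPf.1 hv'g, hPf.2] at h1
    exact h1
  have hgf : g ∈ (tw f).Fixed := by
    refine ⟨hgg, ?_⟩
    have h1 := kill_unique c6 hL hi.1 ht (g := (tw f).sg g * g⁻¹) (mul_mem hsg (inv_mem hgR)) hv' hsv (by
      rw [← he, ← he2]; group)
    exact mul_inv_eq_one.1 h1
  have hgGS : g ∈ GS (K := K) (q := q) S :=
    US_fixed_GS f hf hK hSlt (Finset.filter_subset _ _) hgR hgf
  have hz : P * v' ∈ twistedE6 K q := he ▸ mul_mem (mul_mem (mem_GS.1 hgGS).1 hw) (inv_mem (mem_GS.1 hgGS).1)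
  -- scale
  obtain ⟨c, hc2⟩ : ∃ c : K, c ^ 2 = t⁻¹ := (bijective_frobenius (R := K) (p := 2)).2 t⁻¹
  have hc0 : c ≠ 0 := fun e => inv_ne_zero ht (by rw [← hc2, e]; norm_num)
  have hcf : f c = c := by
    have h1 : (f c) ^ 2 = c ^ 2 := by rw [← map_pow, hc2, map_inv₀, htf]
    exact CharTwo.sq_injective h1
  set d := hg c6 m c
  have hdGS : d ∈ GS (K := K) (q := q) S := by
    have hn1 : ∀ a : K, f a = a → ng c6 m a ∈ GS (K := K) (q := q) S := fun a ha => by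
      have hmem : ∀ s, s < chevE6.nroots → ρ₆ s = s → (∀ u ∈ S, chevE6.pairing u s = 0) → ∀ b, f b = b →
          xg c6 s b ∈ GS (K := K) (q := q) S := fun s hs hρ ho b hb =>
        mem_GS.2 ⟨TwistSubfieldMain33.long_mem (TwistSubfieldE6_33.shape f hf hK) C1 TwistSubfieldE6_33.facts6
          (TwistSubfieldE6_33.nwd_al f hf hK) hs hρ hb, fun u hu => comm_orth c6 hL (hSlt u hu) hs (ho u hu) 1 b⟩
      have ho := (mem_Psi.1 hi.1).2
      unfold ng
      refine mul_mem (mul_mem (hmem m hm'.2 hρm ho a ha) (hmem _ (c6.neg_lt m) hρn (fun u hu => ?_) _ ?_))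
        (hmem m hm'.2 hρm ho a ha)
      · rw [pairing_negR c6 hL hm'.2, ho u hu, neg_zero]
      · rw [map_neg, map_inv₀, ha]
    exact mul_mem (hn1 c hcf) (hn1 (-1) (by rw [map_neg, map_one]))
  have hdm : d * P * d⁻¹ = xg c6 m 1 := by
    simp only [d, P]
    rw [hg_conj_xg c6 hm'.2 hm'.2 hc0, mul_inv_cancel_right, c6.pair_self m hm'.2, zpow_two, ← pow_two, hc2,
      inv_mul_cancel₀ ht]
  have hdv : d * v' * d⁻¹ = v' := by
    have : Commute d v' := by
      suffices key : ∀ u ∈ US c6 (F := K) (Psi chevE6 (insert m S)), Commute d u from key _ hv'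
      intro u hu
      induction hu using Subgroup.closure_induction with
      | mem x hx =>
        obtain ⟨s, hs, b, rfl⟩ := hx
        show d * _ = _ * d
        simp only [d]
        rw [hg_conj_xg c6 hm'.2 (Psi_pos c6 hL hs).2 hc0, (mem_Psi.1 hs).2 m (Finset.mem_insert_self m S),
          zpow_zero, one_mul]
      | one => exact Commute.one_right _
      | mul a b _ _ ha hb => exact ha.mul_right hb
      | inv a _ ha => exact ha.inv_right
    rw [this.eq, mul_inv_cancel_right]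
  set n := nwd c6 (F := K) (cw6 js)
  have hn : n ∈ GS (K := K) (q := q) S :=
    nwd_GS f hf hK hSlt (cw6_lt js) (cw6_mem f hf hK js) fun s hs => (hfix s hs).2
  refine ⟨n * d * g, mul_mem (mul_mem hn hdGS) hgGS, n * v' * n⁻¹, conj_nwd_US c6 hL (cw6_lt js) hZsub himg hv',
    ?_, ?_, ?_⟩
  · have hnG := (mem_GS.1 hn).1
    refine mul_mem (mul_mem hnG ?_) (inv_mem hnG)
    have : P ∈ twistedE6 K q := TwistSubfieldMain33.long_mem (TwistSubfieldE6_33.shape f hf hK) C1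
      TwistSubfieldE6_33.facts6 (TwistSubfieldE6_33.nwd_al f hf hK) hm'.2 hρm htf
    have := mul_mem (inv_mem this) hz
    rwa [inv_mul_cancel_left] at this
  · have hcm : Commute P v' := by
      refine Lev_comm c6 hL (Finset.mem_insert_self m S) hm'.2 t ?_
      refine (Subgroup.closure_le _).2 ?_ hv'
      rintro x ⟨s, hs, b, rfl⟩
      exact mem_Lev c6 hL (Psi_pos c6 hL hs).2 (mem_Psi.1 hs).2 b
    have h2 : (P * v') * (P * v') = 1 := by
      rw [← he]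
      calc g * (P * v) * g⁻¹ * (g * (P * v) * g⁻¹) = g * ((P * v) * (P * v)) * g⁻¹ := by group
        _ = 1 := by rw [hw2, mul_one, mul_inv_cancel]
    have h3 : v' * v' = 1 := by
      calc v' * v' = P * P * (v' * v') := by rw [InvolADE.xg_sq c6 m t, one_mul]
        _ = P * (P * v') * v' := by simp only [mul_assoc]
        _ = (P * v') * (P * v') := by rw [hcm.eq]; simp only [mul_assoc]; rw [← mul_assoc P v', hcm.eq, mul_assoc]
        _ = 1 := h2
    calc n * v' * n⁻¹ * (n * v' * n⁻¹) = n * (v' * v') * n⁻¹ := by group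
      _ = 1 := by rw [h3, mul_one, mul_inv_cancel]
  · have e : n * xg c6 m (1 : K) * n⁻¹ = xg c6 r 1 := by
      rw [InvolTwistKill33.conj_nwd c6 (cw6_lt js) hm'.2, hwm]
    calc n * d * g * (P * v) * (n * d * g)⁻¹ = n * (d * (g * (P * v) * g⁻¹) * d⁻¹) * n⁻¹ := by group
      _ = n * ((d * P * d⁻¹) * (d * v' * d⁻¹)) * n⁻¹ := by rw [he]; group
      _ = (n * xg c6 m 1 * n⁻¹) * (n * v' * n⁻¹) := by rw [hdm, hdv]; group
      _ = _ := by rw [e]

end Cfsg.Agent.InvolTwistPeel33
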