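import Cfsg.Agent.Lib.TwistedE6Torus
import Cfsg.Agent.Lib.TwistedSimple
import Cfsg.Agent.S1050

/-!
`²E₆(q)` is perfect and simple.
-/

set_option autoImplicit false
set_option linter.unusedSectionVars false
set_option maxRecDepth 20000

namespace Cfsg.Agent.TwistedE6

open Cfsg.Lie Cfsg.Agent.ChevalleyCert Cfsg.Agent.ChevalleyCore Cfsg.Agent.ChevalleyRoots Cfsg.Agent.ChevalleyTorus
  Cfsg.Agent.TwistedCore Cfsg.Agent.TwistedTools Cfsg.Agent.ChevWeyl Cfsg.Agent.ChevBruhat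
open scoped commutatorElement

variable {K : Type*} [Field K] {q : ℕ} (f : K →+* K) (hf : ∀ t, f t = t ^ q)
variable [Fintype K] (hK : Fintype.card K = q ^ 2)

theorem sg_all {r : ℕ} (hr : r < chevE6.nroots) (t : K) :
    (tw f).sg (xg c6 r t) =
      xg c6 (ChevalleyGraph.symE6.rho r) ((ChevalleyGraph.symE6.eps r : K) * f t) := by
  rw [(tw f).sg_eq (xg_mem_group c6 r t)]
  show (Units.mapEquiv (ChevalleyGraph.conjM (F := K) chevE6 ChevalleyGraph.symE6))
    (Matrix.GeneralLinearGroup.map f (xg c6 r t)) = _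
  rw [xg_map]
  apply Units.ext
  exact ChevalleyGraph.conjM_x ChevalleyGraph.symE6 c6 hr (f t)

include hf in
theorem torus_tp_mem {a1 a3 : Kˣ} (h1 : a1 ^ q = a1) (h3 : a3 ^ q = a3) (b0 b2 : Kˣ) :
    torus chevE6 (tp q a1 a3 b0 b2) ∈ twistedE6 K q :=
  (psi_mem f hf ((⟨a1, h1⟩, ⟨a3, h3⟩), (b0, b2))).2

include hf hK in
theorem pair_comm (j : Fin 2) (t : K) : pr j t (t ^ q) ∈ ⁅twistedE6 K q, twistedE6 K q⁆ := by
  have hq := TwistedField.one_lt_base hK
  obtain ⟨b, hb⟩ : ∃ b : Kˣ, (b : K)⁻¹ - 1 ≠ 0 := by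
    have h1 : 1 < Nat.card Kˣ := by
      rw [TwistedField.card_units_eq, hK]
      have : 2 ^ 2 ≤ q ^ 2 := Nat.pow_le_pow_left hq 2
      omega
    haveI := (Finite.one_lt_card_iff_nontrivial (α := Kˣ)).mp h1
    obtain ⟨b, hb⟩ := exists_ne (1 : Kˣ)
    exact ⟨b, sub_ne_zero.mpr fun h => hb (Units.ext (inv_eq_one.mp h))⟩
  obtain ⟨z, hz, hc1, hc2⟩ : ∃ z : Fin chevE6.rank → Kˣ, torus chevE6 z ∈ twistedE6 K q ∧
      (tchar chevE6 z (ra j) : K) = (b : K)⁻¹ ∧ (tchar chevE6 z (rb j) : K) = ((b : K)⁻¹) ^ q := by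
    fin_cases j
    · obtain ⟨t0, t1, t2, t3, t4, t5⟩ := tchar_simples (tp q (1 : Kˣ) 1 1 b)
      refine ⟨_, torus_tp_mem f hf (one_pow q) (one_pow q) 1 b, ?_, ?_⟩
      · show ((tchar chevE6 (tp q (1 : Kˣ) 1 1 b) (chevE6.simple 0) : Kˣ) : K) = _
        rw [t0]; simp [tp]
      · show ((tchar chevE6 (tp q (1 : Kˣ) 1 1 b) (chevE6.simple 5) : Kˣ) : K) = _
        rw [t5]; simp [tp]
    · obtain ⟨t0, t1, t2, t3, t4, t5⟩ := tchar_simples (tp q (1 : Kˣ) 1 b 1)
      refine ⟨_, torus_tp_mem f hf (one_pow q) (one_pow q) b 1, ?_, ?_⟩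
      · show ((tchar chevE6 (tp q (1 : Kˣ) 1 b 1) (chevE6.simple 2) : Kˣ) : K) = _
        rw [t2]; simp [tp]
      · show ((tchar chevE6 (tp q (1 : Kˣ) 1 b 1) (chevE6.simple 4) : Kˣ) : K) = _
        rw [t4]; simp [tp]
  set x := t / ((b : K)⁻¹ - 1) with hx
  have hconj : torus chevE6 z * pr j x (x ^ q) * (torus chevE6 z)⁻¹ =
      pr j ((b : K)⁻¹ * x) (((b : K)⁻¹ * x) ^ q) := by
    have e : torus chevE6 z * pr j x (x ^ q) * (torus chevE6 z)⁻¹ =
        (torus chevE6 z * xg c6 (ra j) x * (torus chevE6 z)⁻¹) *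
          (torus chevE6 z * xg c6 (rb j) (x ^ q) * (torus chevE6 z)⁻¹) := by unfold pr; group
    rw [e, torus_conj_xg c6 (simple_lt c6 (pn j).isLt), torus_conj_xg c6 (simple_lt c6 (pm j).isLt), hc1, hc2, pr,
      mul_pow]
  have hinv : (pr j x (x ^ q))⁻¹ = pr j (-x) (-(x ^ q)) := by
    apply inv_eq_of_mul_eq_one_right
    rw [pr_mul]; simp [pr]
  have key : ⁅torus chevE6 z, pr j x (x ^ q)⁆ = pr j t (t ^ q) := by
    rw [commutatorElement_def, hconj, hinv, pr_mul]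
    have h1 : (b : K)⁻¹ * x + -x = t := by
      rw [← sub_eq_add_neg, ← sub_one_mul, hx, mul_div_cancel₀ _ hb]
    rw [h1]
    congr 1
    rw [← hf, ← hf, ← hf, ← map_neg, ← map_add, h1]
  rw [← key]
  exact Subgroup.commutator_mem_commutator hz (pr_mem q j x).1

theorem long_pairs : ∀ j : Fin 2, ∃ r < chevE6.nroots, ∃ s < chevE6.nroots, chevE6.neg r ≠ s ∧ r ≠ s ∧
    chevE6.IsPosRoot r ∧ chevE6.IsNegRoot s ∧ ChevalleyGraph.symE6.rho r = r ∧ ChevalleyGraph.symE6.rho s = s ∧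
    (chevE6.commTerms r s = [(sr j, 1, 1, 1)] ∨ chevE6.commTerms r s = [(sr j, -1, 1, 1)]) := by
  intro j
  fin_cases j
  · exact ⟨71, by decide +kernel, 1, by decide +kernel, by decide +kernel⟩
  · exact ⟨70, by decide +kernel, 2, by decide +kernel, by decide +kernel⟩

include hf hK in
theorem single_comm (j : Fin 2) {t : K} (ht : t ^ q = t) :
    xg c6 (sr j) t ∈ ⁅twistedE6 K q, twistedE6 K q⁆ := by
  have hq := TwistedField.one_lt_base hK
  rcases Nat.lt_or_ge 2 q with hq2 | hq2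
  · obtain ⟨b, hbq, hb⟩ : ∃ b : Kˣ, b ^ q = b ∧ (b : K)⁻¹ - 1 ≠ 0 := by
      have h1 : 1 < Nat.card ↥(fixU K q) := by
        rw [show Nat.card ↥(fixU K q) = q - 1 from TwistedField.card_units_fix hK]
        omega
      haveI := (Finite.one_lt_card_iff_nontrivial (α := ↥(fixU K q))).mp h1
      obtain ⟨b, hb⟩ := exists_ne (1 : ↥(fixU K q))
      exact ⟨b.1, b.2, sub_ne_zero.mpr fun h => hb (Subtype.ext (Units.ext (inv_eq_one.mp h)))⟩
    obtain ⟨z, hz, hc⟩ : ∃ z : Fin chevE6.rank → Kˣ, torus chevE6 z ∈ twistedE6 K q ∧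
        (tchar chevE6 z (sr j) : K) = (b : K)⁻¹ := by
      fin_cases j
      · obtain ⟨t0, t1, t2, t3, t4, t5⟩ := tchar_simples (tp q 1 b 1 1)
        refine ⟨_, torus_tp_mem f hf (one_pow q) hbq 1 1, ?_⟩
        show ((tchar chevE6 (tp q (1 : Kˣ) b 1 1) (chevE6.simple 1) : Kˣ) : K) = _
        rw [t1]; simp [tp]
      · obtain ⟨t0, t1, t2, t3, t4, t5⟩ := tchar_simples (tp q b 1 1 1)
        refine ⟨_, torus_tp_mem f hf hbq (one_pow q) 1 1, ?_⟩
        show ((tchar chevE6 (tp q b (1 : Kˣ) 1 1) (chevE6.simple 3) : Kˣ) : K) = _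
        rw [t3]; simp [tp]
    set c := (b : K)⁻¹ - 1 with hc'
    have hcq : c ^ q = c := by
      rw [hc', ← hf, map_sub, map_one, map_inv₀, hf, ← Units.val_pow_eq_pow_val, hbq]
    have hxq : (t / c) ^ q = t / c := by rw [div_pow, ht, hcq]
    have key : ⁅torus chevE6 z, xg c6 (sr j) (t / c)⁆ = xg c6 (sr j) t := by
      rw [commutatorElement_def, torus_conj_xg c6 (simple_lt c6 (sn j).isLt), hc, xg_inv c6, xg_mul c6]
      congr 1
      rw [← sub_eq_add_neg, ← sub_one_mul, ← hc', mul_div_cancel₀ _ hb]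
    rw [← key]
    exact Subgroup.commutator_mem_commutator hz (xg_mem_sr q j hxq).1
  · have hq2' : q = 2 := by omega
    haveI : CharP K 2 := charP_of_card_eq_prime_pow (p := 2) (f := 2) (by rw [hK, hq2'])
    have ht' : t = 0 ∨ t = 1 := by
      rw [hq2'] at ht
      have h0 : t * (t - 1) = 0 := by rw [mul_sub, mul_one, ← pow_two, ht, sub_self]
      exact (mul_eq_zero.mp h0).imp id sub_eq_zero.mp
    rcases ht' with rfl | rfl
    · rw [xg_zero]; exact one_mem _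
    obtain ⟨r, hr, s, hs, hne, hrs, hp, hn, er, es, hterm⟩ := long_pairs j
    have hneg : (-1 : K) = 1 := CharTwo.neg_eq 1
    have heps : ∀ r, r < chevE6.nroots → ((ChevalleyGraph.symE6.eps r : ℤ) : K) = 1 := by
      intro r hr
      rcases mul_self_eq_one_iff.mp (ChevalleyGraph.symE6.neg_ok r hr).2.2 with e | e <;> simp [e, hneg]
    have hu : xg c6 r (1 : K) ∈ twistedE6 K q :=
      (classes f hf hK).fixed_U_le ((tw f).S.xg_mem_U hp 1)
        ⟨xg_mem_group c6 _ _, by rw [sg_all f hr, er, map_one, heps r hr, one_mul]⟩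
    have hv : xg c6 s (1 : K) ∈ twistedE6 K q :=
      (classes f hf hK).fixed_V_le ((tw f).S.xg_mem_V hn 1)
        ⟨xg_mem_group c6 _ _, by rw [sg_all f hs, es, map_one, heps s hs, one_mul]⟩
    have hform := comm_formula c6 hr hs hrs.symm hne.symm (1 : K) 1
    have hw : wg c6 (chevE6.commWord K r s (1 : K) 1) = xg c6 (sr j) 1 := by
      rcases hterm with e | e <;> simp [ChevalleyDatum.commWord, e, wg, hneg]
    rw [hw] at hform
    have e : xg c6 (sr j) (1 : K) = ⁅(xg c6 s (1 : K))⁻¹, (xg c6 r (1 : K))⁻¹⁆ := by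
      rw [commutatorElement_def, inv_inv, inv_inv, mul_assoc _ (xg c6 s (1 : K)), hform]
      group
    rw [e]
    exact Subgroup.commutator_mem_commutator (inv_mem hv) (inv_mem hu)

set_option maxHeartbeats 800000 in
include hf hK in
theorem perfect : commutator ↥(twistedE6 K q) = ⊤ := by
  refine (classes f hf hK).perfect_of _ rfl ?_ ?_
  · intro a ha
    obtain ⟨w, hw, he⟩ := ha
    obtain rfl : a = wg c6 w := Units.ext (he.trans (coe_wg c6 w).symm)
    have hfix := le_fixed f hf hK (mem_gen c6 hw)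
    obtain ⟨e0, e1, a0, b0, a1, b1, g0, g1, c0, d0, c1', d1⟩ := roots_eq
    have hV : ∀ (J : Fin 2 ⊕ Fin 2), ∀ r ∈ lst J, ∀ t : K,
        xg c6 (chevE6.neg r) t ∈ (tw f).Vw ((tw f).wd (cl6 J)) := fun J r hr t =>
      Subgroup.subset_closure ⟨r, t, (mem_invSet_cl6 f J r).mpr hr, rfl⟩
    have mkU : ∀ (J : Fin 2 ⊕ Fin 2) (a : GL chevE6.Idx K), a ∈ (tw f).S.Uw ((tw f).wd (cl6 J)) →
        a ∈ (tw f).Fixed → ∃ J : (classes f hf hK).κ,
          a ∈ (tw f).UF ((classes f hf hK).cw J) ∨ a ∈ (tw f).Vw ((classes f hf hK).cw J) :=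
      fun J a h h' => ⟨J, Or.inl ⟨h, h'⟩⟩
    have mkV : ∀ (J : Fin 2 ⊕ Fin 2) (a : GL chevE6.Idx K), a ∈ (tw f).Vw ((tw f).wd (cl6 J)) →
        ∃ J : (classes f hf hK).κ,
          a ∈ (tw f).UF ((classes f hf hK).cw J) ∨ a ∈ (tw f).Vw ((classes f hf hK).cw J) :=
      fun J a h => ⟨J, Or.inr h⟩
    rcases hw with ⟨t, ht, r, hr, rfl⟩ | ⟨t, rs, hrs, rfl⟩
    · have e : wg c6 [(r, t)] = xg c6 r t := by simp [wg]
      rw [e] at hfix ⊢
      simp only [List.mem_cons, List.not_mem_nil, or_false] at hr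
      rcases hr with rfl | rfl | rfl | rfl
      · refine mkU (.inl 0) _ ?_ hfix
        rw [← e0]; exact xg_mem_Uw f _ (by simp [lst]) _
      · refine mkV (.inl 0) _ ?_
        rw [← g0]; exact hV (.inl 0) _ (by simp [lst]) t
      · refine mkU (.inl 1) _ ?_ hfix
        rw [← e1]; exact xg_mem_Uw f _ (by simp [lst]) _
      · refine mkV (.inl 1) _ ?_
        rw [← g1]; exact hV (.inl 1) _ (by simp [lst]) t
    · have e : wg c6 [(rs.1, t), (rs.2, t ^ q)] = xg c6 rs.1 t * xg c6 rs.2 (t ^ q) := by simp [wg]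
      rw [e] at hfix ⊢
      simp only [List.mem_cons, List.not_mem_nil, or_false] at hrs
      rcases hrs with rfl | rfl | rfl | rfl
      · refine mkU (.inr 0) _ ?_ hfix
        rw [← a0, ← b0]; exact pr_mem_Uw f 0 _ _
      · refine mkV (.inr 0) _ ?_
        rw [← c0, ← d0]
        exact mul_mem (hV (.inr 0) (ra 0) (by simp [lst]) _) (hV (.inr 0) (rb 0) (by simp [lst]) _)
      · refine mkU (.inr 1) _ ?_ hfix
        rw [← a1, ← b1]; exact pr_mem_Uw f 1 _ _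
      · refine mkV (.inr 1) _ ?_
        rw [← c1', ← d1]
        exact mul_mem (hV (.inr 1) (ra 1) (by simp [lst]) _) (hV (.inr 1) (rb 1) (by simp [lst]) _)
  · intro J u hu
    rcases J with j | j
    · obtain ⟨t, ht, rfl⟩ := UF_single f hf j hu
      exact single_comm f hf hK j ht
    · obtain ⟨t, rfl⟩ := UF_pair f hf j hu
      exact pair_comm f hf hK j t

theorem cl6_noncomm : ∀ p ∈ ([(.inl 0, .inl 1), (.inl 1, .inr 1), (.inr 1, .inr 0)] :
    List ((Fin 2 ⊕ Fin 2) × (Fin 2 ⊕ Fin 2))), ∃ r < chevE6.nroots,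
    pact ChevWeylData.e6.P (cl6 p.1 ++ cl6 p.2) r ≠ pact ChevWeylData.e6.P (cl6 p.2 ++ cl6 p.1) r := by
  decide +kernel

include hf hK in
theorem simple : IsSimpleGroup ↥(twistedE6 K q) ∧ ¬ IsMulCommutative ↥(twistedE6 K q) := by
  refine (classes f hf hK).simple_of (S1050.result chevE6 (by simp)) ((classes f hf hK).core_eq_bot (coef f hf hK))
    (perfect f hf hK) ?_ (by decide)
  intro A hA hA'
  change Set (Fin 2 ⊕ Fin 2) at A
  by_contra hcon
  push Not at hcon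
  have edge : ∀ p ∈ ([(.inl 0, .inl 1), (.inl 1, .inr 1), (.inr 1, .inr 0)] :
      List ((Fin 2 ⊕ Fin 2) × (Fin 2 ⊕ Fin 2))), (p.1 ∈ A ↔ p.2 ∈ A) := by
    intro p hp
    obtain ⟨r, hr, hne⟩ := cl6_noncomm p hp
    by_cases h1 : p.1 ∈ A <;> by_cases h2 : p.2 ∈ A
    · exact iff_of_true h1 h2
    · exact absurd (hcon p.1 h1 p.2 h2 r hr) hne
    · exact absurd (hcon p.2 h2 p.1 h1 r hr).symm hne
    · exact iff_of_false h1 h2
  have e1 := edge (.inl 0, .inl 1) (by simp)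
  have e2 := edge (.inl 1, .inr 1) (by simp)
  have e3 := edge (.inr 1, .inr 0) (by simp)
  have all : ∀ J : Fin 2 ⊕ Fin 2, J ∈ A ↔ (.inl 0 : Fin 2 ⊕ Fin 2) ∈ A := by
    rintro (j | j) <;> fin_cases j
    · exact Iff.rfl
    · exact e1.symm
    · exact e3.symm.trans (e2.symm.trans e1.symm)
    · exact e2.symm.trans e1.symm
  obtain ⟨J, hJ⟩ := hA
  obtain ⟨L, hL⟩ := hA'
  exact hL ((all L).mpr ((all J).mp hJ))

end Cfsg.Agent.TwistedE6
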