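import Cfsg.Agent.Lib.TwistSubfieldLevi33
import Cfsg.Agent.Lib.TwistedE6Simple

/-!
The elements of `²E₆(q)` with entries in the field of order `q` form a maximal subgroup.
-/

set_option autoImplicit false
set_option linter.unusedSectionVars false
set_option linter.unusedSimpArgs false
set_option maxRecDepth 20000
set_option synthInstance.maxSize 2000
set_option synthInstance.maxHeartbeats 400000
set_option maxHeartbeats 1600000

namespace Cfsg.Agent.TwistSubfieldE6_33

open Cfsg.Lie Cfsg.Agent.ChevalleyEngine Cfsg.Agent.ChevalleyCert Cfsg.Agent.ChevalleyRoots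
  Cfsg.Agent.ChevalleyCore Cfsg.Agent.ChevalleyTorus Cfsg.Agent.ChevalleyUnipotent Cfsg.Agent.ChevSubfieldData
  Cfsg.Agent.ChevFrobeniusFixed Cfsg.Agent.TwistedCore Cfsg.Agent.TwistedTools Cfsg.Agent.TwistedE6
  Cfsg.Agent.TwoGenCert98 Cfsg.Agent.TwistSeed98 Cfsg.Agent.TwistSubfieldGrade33
  Cfsg.Agent.TwistSubfieldOrbit33 Cfsg.Agent.TwistSubfieldMain33 Cfsg.Agent.TwistSubfieldLevi33

set_option quotPrecheck false

/-- the symmetry -/
local notation "ρ₆" => (Cfsg.Agent.ChevalleyGraph.symE6).rho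

/-- the signs -/
local notation "ε₆" => (Cfsg.Agent.ChevalleyGraph.symE6).eps

/-- the classes of nodes -/
def al : List (List ℕ) := [[1], [3], [0, 5], [2, 4]]

/-- the word of the longest element -/
def w0 : List ℕ := (List.replicate 6 [0, 1, 3, 2]).flatten

theorem graded6 : Graded chevE6 := by
  refine ⟨?_, ?_, ?_, ?_, ?_, ?_⟩ <;> decide +kernel

theorem radical6 : Radical chevE6 ρ₆ ε₆ 2 := by
  refine ⟨?_, ?_, ?_, ?_, ?_, ?_, ?_⟩ <;> decide +kernel

theorem facts6 : Facts chevE6 ρ₆ 2 al w0 := by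
  refine ⟨?_, ?_, ?_, ?_, ?_, ?_, ?_, ?_, ?_, ?_, ?_⟩ <;> decide +kernel

/-- paths from the moved roots of the radical to the fundamental pairs -/
def paths : List (ℕ × List ℕ × List ℕ) :=
  [(48, [3, 1, 0, 2, 3], [1, 0, 3]), (49, [3, 1, 0, 2, 3, 2], [1, 0, 3, 2]), (50, [3, 1, 0, 2], [1, 0]),
   (52, [3, 1, 0, 3, 2], [1, 0, 2, 3, 2]), (54, [3, 1, 0, 3, 1, 2], [1, 0, 2, 3, 1, 2]),
   (55, [3, 1, 0, 3, 1, 2, 3], [1, 0, 2, 3, 1, 2, 3]), (61, [3, 1, 0], [1, 0, 2]),
   (62, [3, 1, 0, 3], [1, 0, 2, 3]), (64, [3, 1, 0, 3, 1], [1, 0, 2, 3, 1]),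
   (66, [3, 1, 0, 3, 1, 2, 3, 2], [1, 0, 2, 3, 1, 2, 3, 2]),
   (67, [3, 1, 0, 3, 1, 3], [1, 0, 2, 3, 1, 3]), (68, [3, 1, 0, 3, 1, 3, 2], [1, 0, 2, 3, 1, 3, 2])]

/-- the word taking a root to a fundamental root -/
def path (j : Fin 2) (s : ℕ) : List ℕ :=
  match paths.find? fun p => p.1 == s with
  | none => []
  | some p => spell al (if j.val = 0 then p.2.1 else p.2.2)

theorem path_ok : ∀ j : Fin 2, ∀ s ∈ ql chevE6, ρ₆ s ≠ s →
    wact (D := chevE6) (path j s) s = ra j ∧ wact (D := chevE6) (path j s) (ρ₆ s) = rb j := by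
  decide +kernel

theorem flip_ok : ∀ j : Fin 2, wact (D := chevE6) [(pn j).val, (pm j).val] (ra j) = chevE6.neg (ra j) ∧
    wact (D := chevE6) [(pn j).val, (pm j).val] (rb j) = chevE6.neg (rb j) := by
  decide +kernel

/-- the isolating roots of degree zero -/
def isoOK (a b : ℕ) : Bool :=
  decide (ρ₆ a = a) && flat chevE6 a && flat chevE6 (chevE6.neg a) &&
    match chevE6.chainRoot a b 1 with
    | none => false
    | some u => decide (u ∈ ql chevE6) && decide (chevE6.chainRoot (chevE6.neg a) u 1 = some b) &&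
        decide ((chevE6.chainM a b 1).natAbs = 1) && decide ((chevE6.chainM (chevE6.neg a) u 1).natAbs = 1) &&
        (ql chevE6).all fun c => decide (ρ₆ c = c) || decide (c = b) || decide (c = ρ₆ b) ||
          decide (chevE6.chainRoot a c 1 = none)

theorem iso_ok : ∀ b ∈ ql chevE6, ρ₆ b ≠ b → ∃ a ∈ List.range chevE6.nroots, isoOK a b = true := by
  decide +kernel

theorem rho_facts : ∀ b ∈ ql chevE6, ρ₆ (ρ₆ b) = b ∧ ρ₆ (prt chevE6 b) = prt chevE6 (ρ₆ b) ∧
    (ρ₆ b ≠ b → ρ₆ (prt chevE6 b) ≠ prt chevE6 b) := by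
  decide +kernel

variable {K : Type*} [Field K] {q : ℕ} (f : K →+* K) (hf : ∀ t, f t = t ^ q)
variable [Fintype K] (hK : Fintype.card K = q ^ 2)

include hf hK

theorem f2 (t : K) : f (f t) = t := by rw [hf, hf, pow_q2 hK]

theorem shape : Shape (tw f) f ε₆ 2 :=
  ⟨fun r hr t => sg_all f hr t, fun t => f2 f hf hK t, graded6, radical6⟩

theorem nwd_al : ∀ l ∈ al, nwd c6 (F := K) l ∈ twistedE6 K q := by
  intro l hl
  have hs : ∀ j : Fin 2, nwd c6 (F := K) [(sn j).val] ∈ twistedE6 K q := fun j => by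
    have h : nwd c6 (F := K) [(sn j).val] = ng c6 (sr j) 1 := by simp [nwd]
    rw [h]; exact ngs_mem f hf j (one_pow q)
  have hp : ∀ j : Fin 2, nwd c6 (F := K) [(pn j).val, (pm j).val] ∈ twistedE6 K q := fun j => by
    have h : nwd c6 (F := K) [(pn j).val, (pm j).val] = pnn j 1 1 := by simp [nwd, pnn]
    have h2 := pnn_mem f hf j (1 : K)
    rw [one_pow] at h2
    rw [h]; exact h2
  simp only [al, List.mem_cons, List.not_mem_nil, or_false] at hl
  rcases hl with rfl | rfl | rfl | rfl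
  · exact hs 0
  · exact hs 1
  · exact hp 0
  · exact hp 1

variable {H : Subgroup (GL chevE6.Idx K)} (hMH : ∀ g ∈ twistedE6 K q, fr f g = g → g ∈ H)
  (hHG : H ≤ twistedE6 K q)

omit hMH hHG in
/-- the orbit elements lie in the group -/
theorem E_G1 {s : ℕ} (hs : s ∈ ql chevE6) (hns : ρ₆ s ≠ s) (t : K) :
    E (tw f) f ε₆ 2 s t ∈ twistedE6 K q :=
  (classes f hf hK).fixed_U_le (Q_le_U c6 graded6 (E_Q (shape f hf hK) hs t))
    (E_Fixed (shape f hf hK) hs fun h => absurd h hns)

include hMH hHG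

/-- an element of `H` congruent to an orbit element modulo the fixed ones -/
theorem E_absorb {b : ℕ} (hb : b ∈ ql chevE6) (hnb : ρ₆ b ≠ b) {e : K}
    (he : ∀ s ∈ ql chevE6, ∀ t : K, y (xg c6 s t) b = if s = prt chevE6 b then e * t else 0)
    {g : GL chevE6.Idx K} (hg : g ∈ Q c6 K) (hgH : g ∈ H) {t : K} (hgb : f (e * t - y g b) = e * t - y g b)
    (hoff : ∀ c ∈ ql chevE6, ρ₆ c ≠ c → c ≠ b → c ≠ ρ₆ b → f (y g c) = y g c) :
    E (tw f) f ε₆ 2 (prt chevE6 b) t ∈ H := by
  set P := shape f hf hK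
  have hp : prt chevE6 b ∈ ql chevE6 := (graded6.partner b hb).1
  have hnp := (rho_facts b hb).2.2 hnb
  refine absorb_reps P (classes f hf hK) hMH hHG ((ql chevE6).filter fun c => decide (c ≠ ρ₆ b)) ?_
    (E_Q P hp t) (E_G1 f hf hK hp hnp t) hg hgH ?_
  · intro c hc
    refine Or.inr ?_
    by_cases h : c = ρ₆ b
    · exact ⟨b, List.mem_filter.2 ⟨hb, by simpa using Ne.symm hnb⟩, hb, 1, by norm_num, h.symm⟩
    · exact ⟨c, List.mem_filter.2 ⟨hc, by simpa using h⟩, hc, 0, by norm_num, rfl⟩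
  · intro c hc
    simp only [List.mem_filter, decide_eq_true_eq] at hc
    obtain ⟨hc, hcb'⟩ := hc
    by_cases hcb : c = b
    · subst hcb
      rw [(y_E P hp t hc he).1 rfl]
      exact hgb
    by_cases hρc : ρ₆ c = c
    · rw [map_sub, fix_of_rho P hc hρc hg ((classes f hf hK).G1_le (hHG hgH)),
        fix_of_rho P hc hρc (E_Q P hp t) ((classes f hf hK).G1_le (E_G1 f hf hK hp hnp t))]
    obtain ⟨e', -, he'⟩ := y_partner c6 graded6 (F := K) hc
    have hne : ∀ j < per ρ₆ 2 (prt chevE6 b), prt chevE6 c ≠ ρ₆^[j] (prt chevE6 b) := by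
      intro j hj h
      obtain ⟨-, h1, -⟩ := graded6.partner c hc
      obtain ⟨-, h2, -⟩ := graded6.partner b hb
      rw [per, if_neg hnp] at hj
      interval_cases j
      · simp only [Function.iterate_zero, id_eq] at h
        rw [h, h2] at h1
        exact hcb h1.symm
      · simp only [Function.iterate_one] at h
        rw [(rho_facts b hb).2.1] at h
        obtain ⟨-, h3, -⟩ := graded6.partner _ (iter_ql P hb 1)
        rw [h] at h1
        exact hcb' (h1.symm.trans h3)
    rw [(y_E P hp t hc he').2 hne, zero_sub, map_neg, hoff c hc hρc hcb hcb']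

/-- an unfixed coordinate puts a whole orbit into `H` -/
theorem orbit_full {g : GL chevE6.Idx K} (hg : g ∈ Q c6 K) (hgH : g ∈ H) {b : ℕ} (hb : b ∈ ql chevE6)
    (hy : f (y g b) ≠ y g b) :
    ρ₆ (prt chevE6 b) ≠ prt chevE6 b ∧ ∀ t, E (tw f) f ε₆ 2 (prt chevE6 b) t ∈ H := by
  set P := shape f hf hK
  set C1 := classes f hf hK
  have hgF := C1.G1_le (hHG hgH)
  have hnb : ρ₆ b ≠ b := fun h => hy (fix_of_rho P hb h hg hgF)
  refine ⟨(rho_facts b hb).2.2 hnb, ?_⟩
  obtain ⟨e, hee, he⟩ := y_partner c6 graded6 (F := K) hb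
  have hfe : f e = e := map_sign hee
  obtain ⟨a, ha, hiso⟩ := iso_ok b hb hnb
  have ha' : a < chevE6.nroots := List.mem_range.1 ha
  unfold isoOK at hiso
  cases hu : chevE6.chainRoot a b 1 with
  | none => simp [hu] at hiso
  | some u =>
    simp only [hu, Bool.and_eq_true, Bool.or_eq_true, decide_eq_true_eq, List.all_eq_true] at hiso
    obtain ⟨⟨⟨hρa, hfa⟩, hfn⟩, ⟨⟨⟨huq, hun⟩, hM⟩, hM'⟩, hoff⟩ := hiso
    have hal := nwd_al f hf hK
    have hroot : ∀ r < chevE6.nroots, ρ₆ r = r → ∀ c, f c = c → xg c6 r c ∈ H := fun r hr h c hc =>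
      hMH _ (long_mem P C1 facts6 hal hr h hc) (by rw [fr_xg f c6, hc])
    have hρn : ρ₆ (chevE6.neg a) = chevE6.neg a := by
      rw [show ρ₆ (chevE6.neg a) = chevE6.neg (ρ₆ a) from (tw f).ρ_neg a ha', hρa]
    obtain ⟨g1, hg1, hg1H, hy1⟩ := delta_mem P hMH hfn (hroot _ (c6.neg_lt _) hρn 1 (map_one f)) hg hgH
    set c : K := (chevE6.chainM a b 1 : K) * (chevE6.chainM (chevE6.neg a) u 1 : K) * y g b with hc
    have hcne : f c ≠ c := by
      intro h
      have hMM : ((chevE6.chainM a b 1 : K) * (chevE6.chainM (chevE6.neg a) u 1 : K)) *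
          ((chevE6.chainM a b 1 : K) * (chevE6.chainM (chevE6.neg a) u 1 : K)) = 1 := by
        linear_combination (chevE6.chainM (chevE6.neg a) u 1 : K) * (chevE6.chainM (chevE6.neg a) u 1 : K) *
          sign_sq hM (F := K) + sign_sq hM' (F := K)
      apply hy
      have : y g b = ((chevE6.chainM a b 1 : K) * (chevE6.chainM (chevE6.neg a) u 1 : K)) * c := by
        rw [hc, ← mul_assoc, hMM, one_mul]
      rw [this, map_mul, map_sign hMM, h]
    have hlin : ∀ l, f l = l → E (tw f) f ε₆ 2 (prt chevE6 b) (e * (l * c)) ∈ H := by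
      intro l hl
      obtain ⟨g2, hg2, hg2H, hy2⟩ := delta_mem P hMH hfa (hroot a ha' hρa l hl) hg1 hg1H
      refine E_absorb f hf hK hMH hHG hb hnb he hg2 hg2H ?_ ?_
      · have : y g2 b = l * c := by
          simp only [hy2 b hb, shift, hu, hy1 u huq, hun, hc]
          ring
        rw [this, ← mul_assoc, hee, one_mul, sub_self, map_zero]
      · intro d hd h1 h2 h3
        have hd' : chevE6.chainRoot a d 1 = none := by
          rcases hoff d hd with ((h | h) | h) | h
          exacts [absurd h h1, absurd h h2, absurd h h3, h]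
        simp only [hy2 d hd, shift, hd', mul_zero, neg_zero, map_zero]
    have hadd : ∀ v w, E (tw f) f ε₆ 2 (prt chevE6 b) v ∈ H → E (tw f) f ε₆ 2 (prt chevE6 b) w ∈ H →
        E (tw f) f ε₆ 2 (prt chevE6 b) (v + w) ∈ H := by
      intro v w hv hw
      have hp : prt chevE6 b ∈ ql chevE6 := (graded6.partner b hb).1
      refine E_absorb f hf hK hMH hHG hb hnb he (mul_mem (E_Q P hp v) (E_Q P hp w)) (mul_mem hv hw) ?_ ?_
      · rw [y_mul c6 graded6 (E_Q P hp v) (E_Q P hp w) hb, (y_E P hp v hb he).1 rfl, (y_E P hp w hb he).1 rfl,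
          ← mul_add, sub_self, map_zero]
      · intro d hd h1 h2 h3
        obtain ⟨e', -, he'⟩ := y_partner c6 graded6 (F := K) hd
        have hne : ∀ j < per ρ₆ 2 (prt chevE6 b), prt chevE6 d ≠ ρ₆^[j] (prt chevE6 b) := by
          intro j hj h
          obtain ⟨-, e1, -⟩ := graded6.partner d hd
          obtain ⟨-, e2, -⟩ := graded6.partner b hb
          rw [per, if_neg ((rho_facts b hb).2.2 hnb)] at hj
          interval_cases j
          · simp only [Function.iterate_zero, id_eq] at h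
            rw [h, e2] at e1
            exact h2 e1.symm
          · simp only [Function.iterate_one] at h
            rw [(rho_facts b hb).2.1] at h
            obtain ⟨-, e3, -⟩ := graded6.partner _ (iter_ql P hb 1)
            rw [h] at e1
            exact h3 (e1.symm.trans e3)
        rw [y_mul c6 graded6 (E_Q P hp v) (E_Q P hp w) hd, (y_E P hp v hd he').2 hne, (y_E P hp w hd he').2 hne,
          add_zero, map_zero]
    intro t
    have hd : f (e * c) - e * c ≠ 0 := by
      rw [map_mul, hfe, ← mul_sub]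
      refine mul_ne_zero (fun h => ?_) (sub_ne_zero.2 hcne)
      rw [h, zero_mul] at hee
      exact zero_ne_one hee
    set l := (f t - t) / (f (e * c) - e * c) with hldef
    have hl : f l = l := by
      rw [hldef, map_div₀, map_sub, map_sub, f2 f hf hK, f2 f hf hK, ← neg_div_neg_eq, neg_sub, neg_sub]
    have ha0 : f (t - l * (e * c)) = t - l * (e * c) := by
      rw [map_sub, map_mul, hl]
      linear_combination (div_mul_cancel₀ (f t - t) hd).symm
    have h1 := hadd _ _ (E_H_fixed P hMH (fun h h' => C1.fixed_U_le (Q_le_U c6 graded6 h) h')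
      ((graded6.partner b hb).1) ha0) (hlin l hl)
    rwa [show t - l * (e * c) + e * (l * c) = t by ring] at h1

/-- if some element of `H` in the radical is moved then `H` is everything -/
theorem top_of_moved {g : GL chevE6.Idx K} (hgH : g ∈ H) (hg : g ∈ Q c6 K) (hne : fr f g ≠ g) :
    twistedE6 K q ≤ H := by
  set P := shape f hf hK
  set C1 := classes f hf hK
  have hal := nwd_al f hf hK
  obtain ⟨b, hb, hy⟩ : ∃ b ∈ ql chevE6, f (y g b) ≠ y g b := by
    by_contra hc
    exact hne (fixed_of_y P hg (C1.G1_le (hHG hgH)) fun b hb => by_contra fun h => hc ⟨b, hb, h⟩)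
  obtain ⟨hns, hfull⟩ := orbit_full f hf hK hMH hHG hg hgH hb hy
  have hs : prt chevE6 b ∈ ql chevE6 := (graded6.partner b hb).1
  have hsl := (mem_ql.1 hs).1
  have hpr : ∀ (j : Fin 2) (a : K), pr j a (a ^ q) ∈ H := by
    intro j a
    set s := prt chevE6 b
    obtain ⟨h1, h2⟩ := path_ok j s hs hns
    have hl : ∀ i ∈ path j s, i < chevE6.rank := by
      unfold path; split
      · simp
      · exact spell_ok (T := tw f) facts6 _
    have hnG : nwd c6 (F := K) (path j s) ∈ twistedE6 K q := by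
      unfold path; split
      · simp [nwd]
      · exact spell_mem c6 hal _
    have hnH := hMH _ hnG (fr_nwd _)
    set ε : K := (sgnw c6 (path j s) s : K)
    have hε : ε * ε = 1 := by rw [← Int.cast_mul, sgnw_sq, Int.cast_one]
    have h3 := mul_mem (mul_mem hnH (hfull (ε * a))) (inv_mem hnH)
    have h4 : E (tw f) f ε₆ 2 s (ε * a) =
        xg c6 s (ε * a) * xg c6 (ρ₆ s) ((ε₆ s : K) * f (ε * a)) := by
      have hp : per (tw f).ρ 2 s = 2 := if_neg hns
      rw [TwistSubfieldOrbit33.E, hp]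
      simp [List.range_succ, TwistSubfieldOrbit33.mem, sc]
      rfl
    rw [h4, ← conj_mul, conj_xg c6 hl hsl, conj_xg c6 hl (show ρ₆ s < chevE6.nroots from (P.radical.L_rho s hsl).1), h1, h2, ← mul_assoc ε, hε,
      one_mul] at h3
    have h5 := (C1.G1_le (hHG h3)).2
    change (tw f).sg (pr j a _) = pr j a _ at h5
    rw [(sg_pr f hf j _ _).1] at h5
    change pr j a _ ∈ H at h3
    rwa [← (pr_inj j h5).2] at h3
  have hprn : ∀ (j : Fin 2) (a : K), prn j a (a ^ q) ∈ H := by
    intro j a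
    obtain ⟨h1, h2⟩ := flip_ok j
    have hl : ∀ i ∈ [(pn j).val, (pm j).val], i < chevE6.rank := by simp
    have hnG : nwd c6 (F := K) [(pn j).val, (pm j).val] ∈ twistedE6 K q := by
      fin_cases j
      · exact hal [0, 5] (by simp [al])
      · exact hal [2, 4] (by simp [al])
    set n := nwd c6 (F := K) [(pn j).val, (pm j).val]
    set α : K := (sgnw c6 [(pn j).val, (pm j).val] (ra j) : K) * a
    set β : K := (sgnw c6 [(pn j).val, (pm j).val] (rb j) : K) * a ^ q
    have e : n * pr j α β * n⁻¹ = prn j a (a ^ q) := by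
      rw [pr, ← conj_mul, conj_xg c6 hl (simple_lt c6 (pn j).isLt), conj_xg c6 hl (simple_lt c6 (pm j).isLt), h1, h2,
        ← mul_assoc, ← Int.cast_mul, sgnw_sq, Int.cast_one, one_mul, ← mul_assoc, ← Int.cast_mul, sgnw_sq,
        Int.cast_one, one_mul]
      rfl
    have hin : pr j α β ∈ twistedE6 K q := by
      have := mul_mem (mul_mem (inv_mem hnG) (pr_mem q j a).2) hnG
      rwa [← e, show n⁻¹ * (n * pr j α β * n⁻¹) * n = pr j α β by group] at this
    have h5 := (C1.G1_le hin).2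
    rw [(sg_pr f hf j _ _).1] at h5
    have hnH := hMH n hnG (fr_nwd _)
    rw [← e, ← (pr_inj j h5).2]
    exact mul_mem (mul_mem hnH (hpr j α)) (inv_mem hnH)
  obtain ⟨-, -, a0, b0, a1, b1, -, -, c0, d0, c1', d1⟩ := roots_eq
  refine gen_le c6 ?_
  rintro w (⟨t, ht, r, hr, rfl⟩ | ⟨t, rs, hrs, rfl⟩)
  · have hr' : r < chevE6.nroots ∧ ρ₆ r = r :=
      (by decide +kernel : ∀ r ∈ [e6p2, e6m2, e6p4, e6m4], r < chevE6.nroots ∧ ρ₆ r = r) r hr
    have hft : f t = t := by rw [hf, ht]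
    rw [show wg c6 [(r, t)] = xg c6 r t by simp [wg]]
    exact hMH _ (long_mem P C1 facts6 hal hr'.1 hr'.2 hft) (by rw [fr_xg f c6, hft])
  · rw [show wg c6 [(rs.1, t), (rs.2, t ^ q)] = xg c6 rs.1 t * xg c6 rs.2 (t ^ q) by simp [wg]]
    simp only [List.mem_cons, List.not_mem_nil, or_false] at hrs
    rcases hrs with rfl | rfl | rfl | rfl
    · rw [← a0, ← b0]; exact hpr 0 t
    · rw [← c0, ← d0]; exact hprn 0 t
    · rw [← a1, ← b1]; exact hpr 1 t
    · rw [← c1', ← d1]; exact hprn 1 t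

omit hMH hHG in
/-- maximality -/
theorem maximal (M : Subgroup (GL chevE6.Idx K))
    (hM : ∀ g, g ∈ M ↔ g ∈ twistedE6 K q ∧ fr f g = g) :
    M ≠ twistedE6 K q ∧ ∀ H : Subgroup (GL chevE6.Idx K), M ≤ H → H ≤ twistedE6 K q → H = M ∨ H = twistedE6 K q := by
  have hq := TwistedField.one_lt_base hK
  refine ⟨fun h => ?_, fun H hMH hHG => ?_⟩
  · obtain ⟨t, ht⟩ : ∃ t : K, t ^ q ≠ t := by
      by_contra hc
      push Not at hc
      have h1 : Nat.card {t : K // t ^ q = t} = Nat.card K := Nat.card_congr (Equiv.subtypeUnivEquiv hc)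
      rw [TwistedField.card_fix hK, Nat.card_eq_fintype_card, hK] at h1
      have := lt_self_pow₀ hq one_lt_two
      omega
    have h1 : pr 0 t (t ^ q) ∈ M := h ▸ (pr_mem q 0 t).1
    have h2 := ((hM _).1 h1).2
    rw [pr, map_mul, fr_xg f c6, fr_xg f c6] at h2
    have h3 : pr 0 (f t) (f (t ^ q)) = pr 0 t (t ^ q) := h2
    exact ht (by rw [← hf]; exact (pr_inj 0 h3).1)
  · have hMH' : ∀ g ∈ twistedE6 K q, fr f g = g → g ∈ H := fun g h1 h2 => hMH ((hM g).2 ⟨h1, h2⟩)
    by_cases hQ : ∀ g ∈ H, g ∈ Q c6 K → fr f g = g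
    · left
      refine le_antisymm (fun h hh => (hM h).2 ⟨hHG hh, ?_⟩) hMH
      exact overgroup (shape f hf hK) (classes f hf hK) facts6 (nwd_al f hf hK) hMH' hHG hQ hh
    · right
      push Not at hQ
      obtain ⟨g, h1, h2, h3⟩ := hQ
      exact le_antisymm hHG (top_of_moved f hf hK hMH' hHG h1 h2 h3)

end Cfsg.Agent.TwistSubfieldE6_33
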