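import Cfsg.Agent.Lib.InvolTwistKill33
import Cfsg.Agent.Lib.InvolADEE6Data
import Cfsg.Agent.Lib.TwistSubfieldE6_33

/-!
Involutions of `²E₆(q)`, `q` even: a conjugate has a non-zero coefficient at a fundamental root fixed by the twist.
-/

set_option autoImplicit false
set_option linter.unusedSectionVars false
set_option linter.unusedSimpArgs false
set_option linter.unusedVariables false
set_option maxRecDepth 20000
set_option synthInstance.maxSize 2000
set_option synthInstance.maxHeartbeats 400000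
set_option maxHeartbeats 1600000

namespace Cfsg.Agent.InvolTwistSteps33

open Cfsg.Lie Cfsg.Agent.ChevalleyEngine Cfsg.Agent.ChevalleyCert Cfsg.Agent.ChevalleyRoots
open Cfsg.Agent.ChevalleyCore Cfsg.Agent.ChevalleyTorus Cfsg.Agent.ChevalleyUnipotent Cfsg.Agent.ChevBruhat
open Cfsg.Agent.TwistedCore Cfsg.Agent.TwistedE6 Cfsg.Agent.TwoGenCert98 Cfsg.Agent.TwistSeed98
open Cfsg.Agent.InvolADE Cfsg.Agent.InvolTwistKill33

set_option quotPrecheck false

/-- the symmetry -/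
local notation "ρ₆" => (Cfsg.Agent.ChevalleyGraph.symE6).rho

/-- the check of the simply laced table -/
theorem hL : laceOK chevE6 = true := InvolADE.E6Data.lace

/-- the roots orthogonal to `S` -/
abbrev Ps (S : Finset ℕ) : Finset ℕ := Psi chevE6 S

theorem rho2 : ∀ r < chevE6.nroots, ρ₆ (ρ₆ r) = r := by decide +kernel

variable {K : Type*} [Field K] [CharP K 2] {q : ℕ} (f : K →+* K) (hf : ∀ t, f t = t ^ q)
variable [Fintype K] (hK : Fintype.card K = q ^ 2)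

include hf hK

theorem sgx {r : ℕ} (hr : r < chevE6.nroots) (t : K) : (tw f).sg (xg c6 r t) = xg c6 (ρ₆ r) (f t) := by
  rw [sg_all f hr]
  rcases mul_self_eq_one_iff.1 (TwistSubfieldE6_33.radical6.eps_sq r hr) with e | e <;>
    simp [e, CharTwo.neg_eq]

theorem sg_US {Q : Finset ℕ} (hQ : Q ⊆ posR chevE6) (h : ∀ r ∈ Q, ρ₆ r ∈ Q) {g : GL chevE6.Idx K}
    (hg : g ∈ US c6 Q) : (tw f).sg g ∈ US c6 Q := by
  refine (tw f).sg_closure_le (A := {g | ∃ r ∈ Q, ∃ c : K, g = xg c6 r c}) ?_ ?_ hg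
  · rintro x ⟨r, -, c, rfl⟩
    exact xg_mem_group c6 r c
  · rintro x ⟨r, hr, c, rfl⟩
    rw [sgx f hf hK (Finset.mem_Ico.1 (hQ hr)).2]
    exact mem_US c6 hL (h r hr) _

/-- the part of the twisted group fixing the root elements of `S` -/
def GS (S : Finset ℕ) : Subgroup (GL chevE6.Idx K) :=
  twistedE6 K q ⊓ Subgroup.centralizer ((fun s => xg c6 s (1 : K)) '' (S : Set ℕ))

omit hf hK in
theorem mem_GS {S : Finset ℕ} {g : GL chevE6.Idx K} :
    g ∈ GS (K := K) (q := q) S ↔ g ∈ twistedE6 K q ∧ ∀ s ∈ S, Commute (xg c6 s (1 : K)) g := by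
  simp [GS, Subgroup.mem_centralizer_iff, Commute, SemiconjBy]

theorem US_fixed_GS {S : Finset ℕ} (hS : ∀ s ∈ S, s < chevE6.nroots) {Q : Finset ℕ} (hQ : Q ⊆ Ps S)
    {g : GL chevE6.Idx K} (hg : g ∈ US c6 Q) (hgf : g ∈ (tw f).Fixed) : g ∈ GS (K := K) (q := q) S := by
  refine mem_GS.2 ⟨(classes f hf hK).fixed_U_le ?_ hgf, fun s hs => Lev_comm c6 hL hs (hS s hs) 1 ?_⟩
  · refine (Subgroup.closure_le _).2 ?_ hg
    rintro x ⟨r, hr, c, rfl⟩
    have := Psi_pos c6 hL (hQ hr)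
    exact ChevalleyUnipotent.xg_mem_U c6 this.1 this.2 c
  · refine (Subgroup.closure_le _).2 ?_ hg
    rintro x ⟨r, hr, c, rfl⟩
    exact mem_Lev c6 hL (Finset.mem_Ico.1 (Finset.mem_filter.1 (hQ hr)).1).2 (Finset.mem_filter.1 (hQ hr)).2 c

/-- a class word -/
theorem nwd_GS {S : Finset ℕ} (hS : ∀ s ∈ S, s < chevE6.nroots) {l : List ℕ} (hl : ∀ i ∈ l, i < chevE6.rank)
    (hG : nwd c6 (F := K) l ∈ twistedE6 K q) (hfix : ∀ s ∈ S, wact (D := chevE6) l s = s) :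
    nwd c6 (F := K) l ∈ GS (K := K) (q := q) S := by
  refine mem_GS.2 ⟨hG, fun s hs => ?_⟩
  have h := InvolTwistKill33.conj_nwd c6 (F := K) hl (hS s hs) 1
  rw [hfix s hs] at h
  exact (mul_inv_eq_iff_eq_mul.1 h).symm

/-- the word of classes with indices `js` -/
abbrev cw6 (js : List ℕ) : List ℕ := spell TwistSubfieldE6_33.al js

theorem cw6_mem (js : List ℕ) : nwd c6 (F := K) (cw6 js) ∈ twistedE6 K q :=
  spell_mem c6 (TwistSubfieldE6_33.nwd_al f hf hK) js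

omit hf hK in
theorem cw6_lt (js : List ℕ) : ∀ i ∈ cw6 js, i < chevE6.rank := by
  intro i hi
  obtain ⟨j, -, hj⟩ := List.mem_flatMap.1 hi
  by_cases h : j < TwistSubfieldE6_33.al.length
  · rw [List.getD_eq_getElem _ _ h] at hj
    exact TwistSubfieldE6_33.facts6.al_ok _ (List.getElem_mem h) i hj
  · rw [List.getD_eq_default _ _ (Nat.le_of_not_lt h)] at hj
    simp at hj

/-- a pair of root elements -/
noncomputable def pe (f : K →+* K) (r r' : ℕ) (a : K) : GL chevE6.Idx K := xg c6 r a * xg c6 r' (f a)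

/-- facts making a pair a fixed element -/
abbrev pairOK (r r' : ℕ) : Prop :=
  r < chevE6.nroots ∧ r' < chevE6.nroots ∧ ρ₆ r = r' ∧ ρ₆ r' = r ∧ r' ≠ chevE6.neg r ∧ ad chevE6 r r' = none

theorem pair_comm_xg {r r' : ℕ} (h : pairOK r r') (a b : K) : Commute (xg c6 r a) (xg c6 r' b) :=
  comm_none c6 hL h.1 h.2.1 h.2.2.2.2.1 h.2.2.2.2.2 a b

theorem pe_fixed {r r' : ℕ} (h : pairOK r r') (a : K) : pe f r r' a ∈ (tw f).Fixed := by
  have ⟨h1, h2, h3, h4, _, _⟩ := h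
  refine ⟨mul_mem (xg_mem_group c6 _ _) (xg_mem_group c6 _ _), ?_⟩
  rw [pe, (tw f).sg_mul (xg_mem_group c6 _ _) (xg_mem_group c6 _ _), sgx f hf hK h1, sgx f hf hK h2, h3, h4,
    TwistSubfieldE6_33.f2 f hf hK]
  exact (pair_comm_xg f hf hK h a (f a)).eq.symm

theorem single_fixed {r : ℕ} (hr : r < chevE6.nroots) (h : ρ₆ r = r) {t : K} (ht : f t = t) :
    xg c6 r t ∈ (tw f).Fixed :=
  ⟨xg_mem_group c6 _ _, by rw [sgx f hf hK hr, h, ht]⟩

omit hf hK in
/-- the groups of closed sets -/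
theorem closed_of {Q : Finset ℕ} (h : closedB chevE6 Q) :
    (∀ r ∈ Q, chevE6.nroots / 2 ≤ r ∧ r < chevE6.nroots) ∧ Closed chevE6 Q := closedB_closed h

/-- the coefficient at a fixed root -/
theorem split_single {Q : Finset ℕ} (hc : closedB chevE6 Q) {r : ℕ} (hi : indecB chevE6 Q r) (hρ : ρ₆ r = r)
    (hQρ : ∀ s ∈ Q.erase r, ρ₆ s ∈ Q.erase r) {w : GL chevE6.Idx K} (hw : w ∈ US c6 Q)
    (hwf : w ∈ (tw f).Fixed) :
    ∃ c : K, f c = c ∧ ∃ h ∈ US c6 (Q.erase r), w = xg c6 r c * h ∧ h ∈ (tw f).Fixed := by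
  obtain ⟨hp, hcl⟩ := closed_of hc
  obtain ⟨c, h, hh, rfl⟩ := InvolADE.split c6 hL hp hi.1 hcl (indecB_indec hi) hw
  have hr := (hp r hi.1).2
  have hg : h ∈ chevE6.group K := by
    refine (Subgroup.closure_le _).2 ?_ hh
    rintro x ⟨s, -, d, rfl⟩; exact xg_mem_group c6 s d
  have e := hwf.2
  rw [(tw f).sg_mul (xg_mem_group c6 _ _) hg, sgx f hf hK hr, hρ] at e
  have hsh := sg_US f hf hK (fun s hs => hc.1 (Finset.mem_of_mem_erase hs)) hQρ hh
  have e2 : xg c6 r (f c + c) = h * ((tw f).sg h)⁻¹ := by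
    rw [show f c + c = c + f c from add_comm _ _, ← xg_mul c6]
    calc xg c6 r c * xg c6 r (f c) = xg c6 r c * (xg c6 r (f c) * (tw f).sg h) * ((tw f).sg h)⁻¹ := by group
      _ = _ := by rw [e, ← mul_assoc, InvolADE.xg_sq c6 r c, one_mul]
  have h0 : f c + c = 0 := notin_US c6 hL (fun s hs => hp s (Finset.mem_of_mem_erase hs))
    (closed_erase c6 hL hcl (indecB_indec hi)) (hp r hi.1) (Finset.notMem_erase r Q)
    (e2 ▸ mul_mem hh (inv_mem hsh))
  have hfc : f c = c := by rwa [CharTwo.add_eq_zero] at h0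
  exact ⟨c, hfc, h, hh, rfl, by
    have := mul_mem (inv_mem (single_fixed f hf hK hr hρ hfc)) hwf
    rwa [inv_mul_cancel_left] at this⟩

/-- the coefficient at a pair of roots -/
theorem split_pair {Q : Finset ℕ} (hc : closedB chevE6 Q) {r r' : ℕ} (hp' : pairOK r r') (hne : r ≠ r')
    (hi : indecB chevE6 Q r) (hi' : indecB chevE6 Q r')
    (hQρ : ∀ s ∈ (Q.erase r).erase r', ρ₆ s ∈ (Q.erase r).erase r') {w : GL chevE6.Idx K}
    (hw : w ∈ US c6 Q) (hwf : w ∈ (tw f).Fixed) :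
    ∃ c : K, ∃ h ∈ US c6 ((Q.erase r).erase r'), w = pe f r r' c * h ∧ h ∈ (tw f).Fixed := by
  obtain ⟨hp, hcl⟩ := closed_of hc
  have hcl1 := closed_erase c6 hL hcl (indecB_indec hi)
  have hp1 : ∀ s ∈ Q.erase r, chevE6.nroots / 2 ≤ s ∧ s < chevE6.nroots :=
    fun s hs => hp s (Finset.mem_of_mem_erase hs)
  obtain ⟨c, h1, hh1, rfl⟩ := InvolADE.split c6 hL hp hi.1 hcl (indecB_indec hi) hw
  have hr'1 : r' ∈ Q.erase r := Finset.mem_erase.2 ⟨hne.symm, hi'.1⟩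
  obtain ⟨d, h, hh, rfl⟩ := InvolADE.split c6 hL hp1 hr'1 hcl1
    (fun a ha b hb => indecB_indec hi' a (Finset.mem_of_mem_erase ha) b (Finset.mem_of_mem_erase hb)) hh1
  have ⟨o1, o2, o3, o4, _, _⟩ := hp'
  have hg : h ∈ chevE6.group K := by
    refine (Subgroup.closure_le _).2 ?_ hh
    rintro x ⟨s, -, d, rfl⟩; exact xg_mem_group c6 s d
  have e := hwf.2
  rw [(tw f).sg_mul (xg_mem_group c6 _ _) (mul_mem (xg_mem_group c6 _ _) hg),
    (tw f).sg_mul (xg_mem_group c6 _ _) hg, sgx f hf hK o1, sgx f hf hK o2, o3, o4] at e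
  have hsh := sg_US f hf hK (fun s hs => hc.1 (Finset.mem_of_mem_erase (Finset.mem_of_mem_erase hs))) hQρ hh
  have hsub : US c6 (F := K) ((Q.erase r).erase r') ≤ US c6 (Q.erase r) :=
    US_mono c6 hL (Finset.erase_subset _ _)
  have hcm := pair_comm_xg f hf hK hp' (f d) (f c)
  have e3 : xg c6 r (f d + c) =
      (xg c6 r' d * h) * (xg c6 r' (f c) * (tw f).sg h)⁻¹ := by
    rw [show f d + c = c + f d from add_comm _ _, ← xg_mul c6]
    calc xg c6 r c * xg c6 r (f d)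
        = xg c6 r c * (xg c6 r (f d) * xg c6 r' (f c) * (tw f).sg h) * (xg c6 r' (f c) * (tw f).sg h)⁻¹ := by group
      _ = _ := by
          rw [hcm.eq, mul_assoc (xg c6 r' (f c)), e, ← mul_assoc, InvolADE.xg_sq c6 r c, one_mul]
  have h0 : f d + c = 0 := notin_US c6 hL hp1 hcl1 (hp r hi.1) (Finset.notMem_erase r Q)
    (e3 ▸ mul_mem (mul_mem (mem_US c6 hL hr'1 _) (hsub hh)) (inv_mem (mul_mem (mem_US c6 hL hr'1 _) (hsub hsh))))
  rw [CharTwo.add_eq_zero] at h0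
  have hd : d = f c := by rw [← h0, TwistSubfieldE6_33.f2 f hf hK]
  subst hd
  refine ⟨c, h, hh, by rw [pe, mul_assoc], ?_⟩
  have := mul_mem (inv_mem (pe_fixed f hf hK hp' c)) hwf
  rwa [pe, ← mul_assoc (xg c6 r c), inv_mul_cancel_left] at this

omit hf hK in
/-- no coefficient at a pair -/
theorem pe_zero {Y : Finset ℕ} {r r' : ℕ} (hY : closedB chevE6 (insert r' Y))
    (hr : chevE6.nroots / 2 ≤ r ∧ r < chevE6.nroots) (hn : r ∉ insert r' Y) {a : K}
    (h : pe f r r' a ∈ US c6 Y) : a = 0 := by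
  obtain ⟨hp, hcl⟩ := closed_of hY
  refine notin_US c6 hL hp hcl hr hn (c := a) ?_
  have : xg c6 r a = pe f r r' a * (xg c6 r' (f a))⁻¹ := by rw [pe, mul_inv_cancel_right]
  rw [this]
  exact mul_mem (US_mono c6 hL (Finset.subset_insert _ _) h)
    (inv_mem (mem_US c6 hL (Finset.mem_insert_self _ _) _))

theorem pe_mul {r r' : ℕ} (h : pairOK r r') (a b : K) : pe f r r' a * pe f r r' b = pe f r r' (a + b) := by
  have hc := pair_comm_xg f hf hK h b (f a)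
  unfold pe
  rw [map_add, ← xg_mul c6, ← xg_mul c6]
  calc xg c6 r a * xg c6 r' (f a) * (xg c6 r b * xg c6 r' (f b))
      = xg c6 r a * (xg c6 r' (f a) * xg c6 r b) * xg c6 r' (f b) := by group
    _ = _ := by rw [← hc.eq]; group

theorem pe_sq {r r' : ℕ} (h : pairOK r r') (a : K) : pe f r r' a * pe f r r' a = 1 := by
  rw [pe_mul f hf hK h, CharTwo.add_self_eq_zero]
  simp [pe]

theorem pe_inv {r r' : ℕ} (h : pairOK r r') (a : K) : (pe f r r' a)⁻¹ = pe f r r' a :=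
  inv_eq_of_mul_eq_one_right (pe_sq f hf hK h a)

omit hf hK in
theorem pe_conj_US {Q : Finset ℕ} {r r' : ℕ}
    (h1 : r < chevE6.nroots ∧ ∀ s ∈ Q, s < chevE6.nroots ∧ s ≠ chevE6.neg r ∧
      (ad chevE6 r s).all (fun u => decide (u ∈ Q)) = true)
    (h2 : r' < chevE6.nroots ∧ ∀ s ∈ Q, s < chevE6.nroots ∧ s ≠ chevE6.neg r' ∧
      (ad chevE6 r' s).all (fun u => decide (u ∈ Q)) = true)
    (a : K) {h : GL chevE6.Idx K} (hh : h ∈ US c6 Q) : pe f r r' a * h * (pe f r r' a)⁻¹ ∈ US c6 Q := by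
  have k : ∀ r, (r < chevE6.nroots ∧ ∀ s ∈ Q, s < chevE6.nroots ∧ s ≠ chevE6.neg r ∧
      (ad chevE6 r s).all (fun u => decide (u ∈ Q)) = true) → ∀ (t : K) (z : GL chevE6.Idx K),
      z ∈ US c6 Q → xg c6 r t * z * (xg c6 r t)⁻¹ ∈ US c6 Q := fun r hr t z hz =>
    conj_US c6 hL hr.1 (fun s hs => ⟨(hr.2 s hs).1, (hr.2 s hs).2.1, fun u hu => by
      simpa [hu] using (hr.2 s hs).2.2⟩) t hz
  have := k r h1 a _ (k r' h2 (f a) h hh)
  simpa [pe, mul_assoc] using this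

theorem conj_pe {l : List ℕ} (hl : ∀ i ∈ l, i < chevE6.rank) {r r' s s' : ℕ} (h : pairOK r r')
    (e : wact (D := chevE6) l r = s) (e' : wact (D := chevE6) l r' = s') (a : K) :
    nwd c6 l * pe f r r' a * (nwd c6 l)⁻¹ = pe f s s' a := by
  rw [pe, ← conj_mul, InvolTwistKill33.conj_nwd c6 hl h.1, InvolTwistKill33.conj_nwd c6 hl h.2.1, e, e', pe]

/-- the standing state: an involution all of whose conjugates have zero coefficient at `39` -/
structure Good (S : Finset ℕ) (z : GL chevE6.Idx K) : Prop where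
  mem : z ∈ twistedE6 K q
  sq : z * z = 1
  inU : z ∈ US c6 (Ps S)
  zero : ∀ g ∈ GS (K := K) (q := q) S, g * z * g⁻¹ ∈ US c6 (Ps S) → g * z * g⁻¹ ∈ US c6 ((Ps S).erase 39)

theorem Good.conj {S : Finset ℕ} {z : GL chevE6.Idx K} (hz : Good (q := q) S z) {g : GL chevE6.Idx K}
    (hg : g ∈ GS (K := K) (q := q) S) (h : g * z * g⁻¹ ∈ US c6 (Ps S)) : Good (q := q) S (g * z * g⁻¹) where
  mem := mul_mem (mul_mem (mem_GS.1 hg).1 hz.mem) (inv_mem (mem_GS.1 hg).1)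
  sq := by
    calc g * z * g⁻¹ * (g * z * g⁻¹) = g * (z * z) * g⁻¹ := by group
      _ = 1 := by rw [hz.sq, mul_one, mul_inv_cancel]
  inU := h
  zero g' hg' h' := by
    have e : g' * (g * z * g⁻¹) * g'⁻¹ = g' * g * z * (g' * g)⁻¹ := by group
    rw [e] at h' ⊢
    exact hz.zero _ (mul_mem hg' hg) h'

theorem Good.self {S : Finset ℕ} {z : GL chevE6.Idx K} (hz : Good (q := q) S z) :
    z ∈ US c6 ((Ps S).erase 39) := by
  simpa using hz.zero 1 (one_mem _) (by simpa using hz.inU)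

/-- the states in which `39` is adjacent to the pair `42, 37` -/
def statesA : List (Finset ℕ) := [∅, {71}, {71, 60}]

/-- the states in which there is also the pair `56, 36` -/
def statesB : List (Finset ℕ) := [∅, {71}]

/-- the set left after the first split -/
abbrev YA (S : Finset ℕ) : Finset ℕ := (((Ps S).erase 39).erase 42).erase 37

/-- the set left after the second split -/
abbrev QA (S : Finset ℕ) : Finset ℕ := ((YA S).erase 43).erase 40

/-- conjugation conditions -/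
abbrev normOK (r : ℕ) (Q : Finset ℕ) : Prop :=
  r < chevE6.nroots ∧ ∀ s ∈ Q, s < chevE6.nroots ∧ s ≠ chevE6.neg r ∧
    (ad chevE6 r s).all (fun u => decide (u ∈ Q)) = true

omit hf hK in
theorem roots_ok : pairOK 42 37 ∧ pairOK 43 40 ∧ pairOK 56 36 ∧ pairOK 57 38 ∧ pairOK 58 41 ∧ ρ₆ 39 = 39 ∧
    ρ₆ 44 = 44 ∧ (wact (D := chevE6) (cw6 [1]) 42 = 43 ∧ wact (D := chevE6) (cw6 [1]) 37 = 40) ∧
    (wact (D := chevE6) (cw6 [3]) 56 = 57 ∧ wact (D := chevE6) (cw6 [3]) 36 = 38) ∧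
    (wact (D := chevE6) (cw6 [1]) 57 = 58 ∧ wact (D := chevE6) (cw6 [1]) 38 = 41) ∧
    (wact (D := chevE6) (cw6 [2]) 58 = 43 ∧ wact (D := chevE6) (cw6 [2]) 41 = 40) ∧
    (wact (D := chevE6) (cw6 [1]) 43 = 42 ∧ wact (D := chevE6) (cw6 [1]) 40 = 37) ∧
    wact (D := chevE6) (cw6 [3]) 44 = 39 := by
  decide +kernel

omit hf hK in
theorem ads : ad chevE6 39 42 = some 43 ∧ ad chevE6 39 37 = some 40 ∧ ad chevE6 43 37 = some 44 ∧
    ad chevE6 37 43 = some 44 ∧ ad chevE6 42 40 = some 44 ∧ ad chevE6 42 43 = none ∧ ad chevE6 37 40 = none ∧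
    ad chevE6 42 44 = none ∧ ad chevE6 37 44 = none ∧ ad chevE6 43 40 = none ∧ ad chevE6 44 43 = none ∧
    ad chevE6 44 40 = none ∧
    ad chevE6 42 56 = some 57 ∧ ad chevE6 37 36 = some 38 ∧ ad chevE6 42 36 = none ∧ ad chevE6 37 56 = none ∧
    ad chevE6 57 36 = none ∧ ad chevE6 42 38 = none ∧ ad chevE6 37 57 = none := by
  decide +kernel

omit hf hK in
theorem midOK : ∀ S ∈ statesA, (∀ s ∈ S, s < chevE6.nroots ∧ wact (D := chevE6) (cw6 [1]) s = s ∧
    wact (D := chevE6) (cw6 [3]) s = s) ∧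
    (∀ r ∈ ([39, 42, 37, 43, 40, 44] : List ℕ), r ∈ Ps S) ∧
    closedB chevE6 ((Ps S).erase 39) ∧ indecB chevE6 ((Ps S).erase 39) 42 ∧ indecB chevE6 ((Ps S).erase 39) 37 ∧
    closedB chevE6 (YA S) ∧ indecB chevE6 (YA S) 43 ∧ indecB chevE6 (YA S) 40 ∧
    closedB chevE6 (QA S) ∧ indecB chevE6 (QA S) 44 ∧
    (∀ s ∈ YA S, ρ₆ s ∈ YA S) ∧ (∀ s ∈ QA S, ρ₆ s ∈ QA S) ∧ (∀ s ∈ (QA S).erase 44, ρ₆ s ∈ (QA S).erase 44) ∧
    (∀ r ∈ ([42, 37, 43, 40, 44] : List ℕ), normOK r ((QA S).erase 44)) ∧ normOK 39 (QA S) ∧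
    (∀ r ∈ QA S, wact (D := chevE6) (cw6 [1]) r ∈ QA S) ∧
    (∀ r ∈ (QA S).erase 44, wact (D := chevE6) (cw6 [3]) r ∈ (Ps S).erase 39) ∧
    (∀ r ∈ ([43, 40] : List ℕ), wact (D := chevE6) (cw6 [3]) r ∈ (Ps S).erase 39) := by
  decide +kernel

theorem one_comm {r s : ℕ} (hr : r < chevE6.nroots) (hs : s < chevE6.nroots) (h2 : s ≠ chevE6.neg r)
    (h : ad chevE6 r s = none) (t c : K) : xg c6 r t * xg c6 s c * (xg c6 r t)⁻¹ = xg c6 s c :=
  conj_none c6 hL hr hs h2 h t c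

omit hf hK in
theorem lt6 : ∀ r ∈ ([39, 42, 37, 43, 40, 44, 56, 36, 57, 38, 58, 41] : List ℕ), r < chevE6.nroots ∧
    ∀ s ∈ ([39, 42, 37, 43, 40, 44, 56, 36, 57, 38, 58, 41] : List ℕ), s ≠ chevE6.neg r := by
  decide +kernel

/-- `P P₂ P = P₂ x₄₄(tr)` -/
theorem PP2 (a c : K) : pe f 42 37 a * pe f 43 40 c * (pe f 42 37 a)⁻¹ =
    pe f 43 40 c * xg c6 44 (f a * c + a * f c) := by
  obtain ⟨-, -, -, a37, a42, n1, n2, n3, n4, -, -, n40, -⟩ := ads
  have L := lt6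
  have e1 : xg c6 37 (f a) * xg c6 43 c * (xg c6 37 (f a))⁻¹ = xg c6 43 c * xg c6 44 (f a * c) :=
    conj_some c6 hL (L 37 (by simp)).1 (L 43 (by simp)).1 a37 _ _
  have e2 : xg c6 42 a * xg c6 40 (f c) * (xg c6 42 a)⁻¹ = xg c6 40 (f c) * xg c6 44 (a * f c) :=
    conj_some c6 hL (L 42 (by simp)).1 (L 40 (by simp)).1 a42 _ _
  have c1 := one_comm f hf hK (L 37 (by simp)).1 (L 40 (by simp)).1 ((L 37 (by simp)).2 40 (by simp)) n2 (f a) (f c)
  have c2 := one_comm f hf hK (L 42 (by simp)).1 (L 43 (by simp)).1 ((L 42 (by simp)).2 43 (by simp)) n1 a c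
  have c3 := one_comm f hf hK (L 42 (by simp)).1 (L 44 (by simp)).1 ((L 42 (by simp)).2 44 (by simp)) n3 a (f a * c)
  have c4 : Commute (xg c6 44 (f a * c)) (xg c6 40 (f c)) :=
    comm_none c6 hL (L 44 (by simp)).1 (L 40 (by simp)).1 ((L 44 (by simp)).2 40 (by simp)) n40 _ _
  calc pe f 42 37 a * pe f 43 40 c * (pe f 42 37 a)⁻¹
      = xg c6 42 a * (xg c6 37 (f a) * xg c6 43 c * (xg c6 37 (f a))⁻¹) *
          (xg c6 37 (f a) * xg c6 40 (f c) * (xg c6 37 (f a))⁻¹) * (xg c6 42 a)⁻¹ := by unfold pe; group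
    _ = xg c6 42 a * (xg c6 43 c * xg c6 44 (f a * c)) * xg c6 40 (f c) * (xg c6 42 a)⁻¹ := by rw [e1, c1]
    _ = (xg c6 42 a * xg c6 43 c * (xg c6 42 a)⁻¹) * (xg c6 42 a * xg c6 44 (f a * c) * (xg c6 42 a)⁻¹) *
          (xg c6 42 a * xg c6 40 (f c) * (xg c6 42 a)⁻¹) := by group
    _ = xg c6 43 c * (xg c6 44 (f a * c) * xg c6 40 (f c)) * xg c6 44 (a * f c) := by rw [c2, c3, e2]; group
    _ = _ := by rw [c4.eq, ← xg_mul]; unfold pe; group

/-- `x₃₉ P x₃₉ = P P₂ x₄₄` -/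
theorem conj39 (a s : K) (hs : f s = s) : xg c6 39 s * pe f 42 37 a * (xg c6 39 s)⁻¹ =
    pe f 42 37 a * pe f 43 40 (s * a) * xg c6 44 (s * a * f a) := by
  obtain ⟨a1, a2, a43, -, -, -, -, -, -, n4340, n4443, n4440, -⟩ := ads
  have L := lt6
  have e1 : xg c6 39 s * xg c6 42 a * (xg c6 39 s)⁻¹ = xg c6 42 a * xg c6 43 (s * a) :=
    conj_some c6 hL (L 39 (by simp)).1 (L 42 (by simp)).1 a1 _ _
  have e2 : xg c6 39 s * xg c6 37 (f a) * (xg c6 39 s)⁻¹ = xg c6 37 (f a) * xg c6 40 (s * f a) :=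
    conj_some c6 hL (L 39 (by simp)).1 (L 37 (by simp)).1 a2 _ _
  have e3 : xg c6 43 (s * a) * xg c6 37 (f a) =
      xg c6 37 (f a) * xg c6 44 (s * a * f a) * xg c6 43 (s * a) :=
    mul_inv_eq_iff_eq_mul.1 (conj_some c6 hL (L 43 (by simp)).1 (L 37 (by simp)).1 a43 _ _)
  have c1 : Commute (xg c6 44 (s * a * f a)) (xg c6 43 (s * a)) :=
    comm_none c6 hL (L 44 (by simp)).1 (L 43 (by simp)).1 ((L 44 (by simp)).2 43 (by simp)) n4443 _ _
  have c2 : Commute (xg c6 44 (s * a * f a)) (xg c6 40 (s * f a)) :=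
    comm_none c6 hL (L 44 (by simp)).1 (L 40 (by simp)).1 ((L 44 (by simp)).2 40 (by simp)) n4440 _ _
  calc xg c6 39 s * pe f 42 37 a * (xg c6 39 s)⁻¹
      = (xg c6 39 s * xg c6 42 a * (xg c6 39 s)⁻¹) * (xg c6 39 s * xg c6 37 (f a) * (xg c6 39 s)⁻¹) := by
        unfold pe; group
    _ = xg c6 42 a * (xg c6 43 (s * a) * xg c6 37 (f a)) * xg c6 40 (s * f a) := by rw [e1, e2]; group
    _ = xg c6 42 a * xg c6 37 (f a) * (xg c6 44 (s * a * f a) * xg c6 43 (s * a)) * xg c6 40 (s * f a) := by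
        rw [e3]; group
    _ = xg c6 42 a * xg c6 37 (f a) * xg c6 43 (s * a) * (xg c6 44 (s * a * f a) * xg c6 40 (s * f a)) := by
        rw [c1.eq]; group
    _ = _ := by
        rw [c2.eq]
        unfold pe
        rw [map_mul, hs]
        group

/-- the conjugates have no coefficient at the pair next to `39` -/
theorem mid {S : Finset ℕ} (hS : S ∈ statesA) {z : GL chevE6.Idx K} (hz : Good (q := q) S z) :
    z ∈ US c6 (YA S) := by
  set C1 := classes f hf hK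
  obtain ⟨hS1, hroots, hc0, i42, i37, hcY, i43, i40, hcQ, i44, hρY, hρQ, hρL, hnorm, hn39, hsm, hsJ, hsJ'⟩ :=
    midOK S hS
  obtain ⟨p42, p43, -, -, -, ρ39, ρ44, ⟨w1, w2⟩, -, -, -, -, w44⟩ := roots_ok
  obtain ⟨a, h1, hh1, rfl, hh1f⟩ := split_pair f hf hK hc0 p42 (by decide) i42 i37 hρY (Good.self f hf hK hz)
    (C1.G1_le hz.mem)
  by_cases ha : a = 0
  · subst ha
    simpa [pe] using hh1
  exfalso
  obtain ⟨c, h2, hh2, rfl, hh2f⟩ := split_pair f hf hK hcY p43 (by decide) i43 i40 hρQ hh1 hh1f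
  set P := pe f 42 37 a
  set P2 := pe f 43 40 c
  obtain ⟨e2, h3, hh3, rfl⟩ := InvolADE.split c6 hL (closed_of hcQ).1 i44.1 (closed_of hcQ).2 (indecB_indec i44) hh2
  set X := P * P2
  have hXc : ∀ v ∈ US c6 (F := K) ((QA S).erase 44), X * v * X⁻¹ ∈ US c6 ((QA S).erase 44) := by
    intro v hv
    have := pe_conj_US f (hnorm 42 (by simp)) (hnorm 37 (by simp)) a
      (pe_conj_US f (hnorm 43 (by simp)) (hnorm 40 (by simp)) c hv)
    simpa [X, P, P2, mul_assoc] using this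
  have hLc : ∀ (t : K), ∀ v ∈ US c6 (F := K) ((QA S).erase 44),
      xg c6 44 t * v * (xg c6 44 t)⁻¹ ∈ US c6 ((QA S).erase 44) := fun t v hv =>
    conj_US c6 hL (hnorm 44 (by simp)).1 (fun s hs => ⟨((hnorm 44 (by simp)).2 s hs).1,
      ((hnorm 44 (by simp)).2 s hs).2.1, fun u hu => by
        simpa [hu] using ((hnorm 44 (by simp)).2 s hs).2.2⟩) t hv
  have hsq : X * X = xg c6 44 (f a * c + a * f c) := by
    have h := PP2 f hf hK a c
    rw [show (pe f 42 37 a)⁻¹ = P from pe_inv f hf hK p42 a] at h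
    have L := lt6
    obtain ⟨-, -, -, -, -, -, -, -, -, -, n4443, n4440, -⟩ := ads
    have hc : Commute (xg c6 44 (f a * c + a * f c)) P2 :=
      (comm_none c6 hL (L 44 (by simp)).1 (L 43 (by simp)).1 ((L 44 (by simp)).2 43 (by simp)) n4443 _ _).mul_right
        (comm_none c6 hL (L 44 (by simp)).1 (L 40 (by simp)).1 ((L 44 (by simp)).2 40 (by simp)) n4440 _ _)
    calc X * X = P * P2 * P * P2 := by simp only [X]; group
      _ = P2 * xg c6 44 (f a * c + a * f c) * P2 := by rw [h]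
      _ = P2 * (P2 * xg c6 44 (f a * c + a * f c)) := by rw [mul_assoc, hc.eq]
      _ = _ := by rw [← mul_assoc, pe_sq f hf hK p43, one_mul]
  set tr := f a * c + a * f c
  have L := lt6
  obtain ⟨-, -, -, -, -, -, -, n4244, n3744, -, n4443, n4440, -⟩ := ads
  have hXe : Commute X (xg c6 44 e2) :=
    Commute.mul_left
      ((comm_none c6 hL (L 42 (by simp)).1 (L 44 (by simp)).1 ((L 42 (by simp)).2 44 (by simp)) n4244 _ _).mul_left
        (comm_none c6 hL (L 37 (by simp)).1 (L 44 (by simp)).1 ((L 37 (by simp)).2 44 (by simp)) n3744 _ _))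
      (((comm_none c6 hL (L 44 (by simp)).1 (L 43 (by simp)).1 ((L 44 (by simp)).2 43 (by simp)) n4443 _ _).mul_right
        (comm_none c6 hL (L 44 (by simp)).1 (L 40 (by simp)).1 ((L 44 (by simp)).2 40 (by simp)) n4440 _ _)).symm)
  have htr : tr = 0 := by
    obtain ⟨hp, hcl⟩ := closed_of hcQ
    refine notin_US c6 hL (fun s hs => hp s (Finset.mem_of_mem_erase hs)) (closed_erase c6 hL hcl (indecB_indec i44))
      (hp 44 i44.1) (Finset.notMem_erase 44 _) (c := tr) ?_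
    have key : X * X * ((xg c6 44 e2 * (X⁻¹ * h3 * X) * (xg c6 44 e2)⁻¹) * h3) = 1 := by
      calc X * X * ((xg c6 44 e2 * (X⁻¹ * h3 * X) * (xg c6 44 e2)⁻¹) * h3)
          = X * (X * xg c6 44 e2 * X⁻¹) * h3 * (X * (xg c6 44 e2)⁻¹) * h3 := by group
        _ = (P * (P2 * (xg c6 44 e2 * h3))) * (P * (P2 * (xg c6 44 e2 * h3))) := by
            rw [hXe.eq, mul_inv_cancel_right, show (xg c6 44 e2)⁻¹ = xg c6 44 e2 from InvolADE.xg_inv_two c6 44 e2]
            simp only [X]; group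
        _ = 1 := hz.sq
    rw [hsq] at key
    rw [eq_inv_of_mul_eq_one_left key]
    refine inv_mem (mul_mem (hLc _ _ ?_) hh3)
    obtain ⟨v, hv, e⟩ : ∃ v ∈ US c6 (F := K) ((QA S).erase 44), X⁻¹ = (X * X)⁻¹ * X ∧ v = X * h3 * X⁻¹ :=
      ⟨_, hXc h3 hh3, by group, rfl⟩
    have e1 : X⁻¹ * h3 * X = (xg c6 44 tr)⁻¹ * (X * h3 * X⁻¹) * (xg c6 44 tr)⁻¹⁻¹ := by
      rw [← hsq]; group
    rw [e1, InvolADE.xg_inv_two c6]
    exact hLc _ _ (hXc h3 hh3)
  -- remove the coefficient at `43`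
  have hfa : f a ≠ 0 := (map_ne_zero f).2 ha
  have hf2 := TwistSubfieldE6_33.f2 f hf hK
  set s := c / a with hs
  have hsf : f s = s := by
    rw [hs, map_div₀, div_eq_div_iff hfa ha]
    have h1 : a * f c = f a * c := by
      have := CharTwo.add_eq_zero.1 htr
      exact this.symm
    linear_combination h1
  have hSlt : ∀ t ∈ S, t < chevE6.nroots := fun t ht => (hS1 t ht).1
  have hg1 : xg c6 39 s ∈ GS (K := K) (q := q) S :=
    US_fixed_GS f hf hK hSlt (Finset.Subset.refl _) (mem_US c6 hL (hroots 39 (by simp)) s)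
      (single_fixed f hf hK (L 39 (by simp)).1 ρ39 hsf)
  have hn39' : ∀ v ∈ US c6 (F := K) (QA S), xg c6 39 s * v * (xg c6 39 s)⁻¹ ∈ US c6 (QA S) := fun v hv =>
    conj_US c6 hL hn39.1 (fun u hu => ⟨(hn39.2 u hu).1, (hn39.2 u hu).2.1, fun w hw => by
        simpa [hw] using (hn39.2 u hu).2.2⟩) s hv
  have hQY : QA S ⊆ Ps S := fun r hr => by
    simp only [Finset.mem_erase] at hr
    exact hr.2.2.2.2.2
  have hL44 : xg c6 44 e2 * h3 ∈ US c6 (QA S) :=
    mul_mem (mem_US c6 hL i44.1 _) (US_mono c6 hL (Finset.erase_subset _ _) hh3)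
  have hP2 : xg c6 39 s * P2 * (xg c6 39 s)⁻¹ = P2 := by
    have o : ∀ r ∈ ([43, 40] : List ℕ), ad chevE6 39 r = none := by decide +kernel
    calc xg c6 39 s * P2 * (xg c6 39 s)⁻¹ = (xg c6 39 s * xg c6 43 c * (xg c6 39 s)⁻¹) *
          (xg c6 39 s * xg c6 40 (f c) * (xg c6 39 s)⁻¹) := by simp only [P2, pe]; group
      _ = _ := by
          rw [one_comm f hf hK (L 39 (by simp)).1 (L 43 (by simp)).1 ((L 39 (by simp)).2 43 (by simp))
              (o 43 (by simp)), one_comm f hf hK (L 39 (by simp)).1 (L 40 (by simp)).1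
              ((L 39 (by simp)).2 40 (by simp)) (o 40 (by simp))]
          rfl
  set h4 := xg c6 44 (s * a * f a) * (xg c6 39 s * (xg c6 44 e2 * h3) * (xg c6 39 s)⁻¹)
  have hh4 : h4 ∈ US c6 (QA S) := mul_mem (mem_US c6 hL i44.1 _) (hn39' _ hL44)
  have hz1 : xg c6 39 s * (P * (P2 * (xg c6 44 e2 * h3))) * (xg c6 39 s)⁻¹ = P * h4 := by
    have hsa : s * a = c := by rw [hs, div_mul_cancel₀ c ha]
    calc xg c6 39 s * (P * (P2 * (xg c6 44 e2 * h3))) * (xg c6 39 s)⁻¹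
        = (xg c6 39 s * P * (xg c6 39 s)⁻¹) * (xg c6 39 s * P2 * (xg c6 39 s)⁻¹) *
            (xg c6 39 s * (xg c6 44 e2 * h3) * (xg c6 39 s)⁻¹) := by group
      _ = P * P2 * (xg c6 44 (s * a * f a) * P2) * (xg c6 39 s * (xg c6 44 e2 * h3) * (xg c6 39 s)⁻¹) := by
          rw [conj39 f hf hK a s hsf, hP2, hsa]; simp only [P, P2]; group
      _ = P * (P2 * P2) * h4 := by
          have hc : Commute (xg c6 44 (s * a * f a)) P2 :=
            (comm_none c6 hL (L 44 (by simp)).1 (L 43 (by simp)).1 ((L 44 (by simp)).2 43 (by simp)) n4443 _ _).mul_right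
              (comm_none c6 hL (L 44 (by simp)).1 (L 40 (by simp)).1 ((L 44 (by simp)).2 40 (by simp)) n4440 _ _)
          rw [hc.eq]; simp only [h4]; group
      _ = _ := by rw [pe_sq f hf hK p43, mul_one]
  have hz1U : P * h4 ∈ US c6 (Ps S) :=
    mul_mem (mul_mem (mem_US c6 hL (hroots 42 (by simp)) _) (mem_US c6 hL (hroots 37 (by simp)) _))
      (US_mono c6 hL hQY hh4)
  have G1' := Good.conj f hf hK hz hg1 (hz1 ▸ hz1U)
  rw [hz1] at G1'
  -- reflect at `39`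
  have hnm := nwd_GS f hf hK hSlt (cw6_lt [1]) (cw6_mem f hf hK [1]) fun t ht => (hS1 t ht).2.1
  set h5 := nwd c6 (cw6 [1]) * h4 * (nwd c6 (cw6 [1]))⁻¹
  have hh5 : h5 ∈ US c6 (QA S) := conj_nwd_US c6 hL (cw6_lt [1]) hcQ.1 hsm hh4
  have hz2 : nwd c6 (cw6 [1]) * (P * h4) * (nwd c6 (cw6 [1]))⁻¹ = pe f 43 40 a * h5 := by
    rw [← conj_mul, conj_pe f hf hK (cw6_lt [1]) p42 w1 w2]
  have hz2U : pe f 43 40 a * h5 ∈ US c6 (Ps S) :=
    mul_mem (mul_mem (mem_US c6 hL (hroots 43 (by simp)) _) (mem_US c6 hL (hroots 40 (by simp)) _))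
      (US_mono c6 hL hQY hh5)
  have G2' := Good.conj f hf hK G1' hnm (hz2 ▸ hz2U)
  rw [hz2] at G2'
  have hh5f : h5 ∈ (tw f).Fixed := by
    have := mul_mem (inv_mem (pe_fixed f hf hK p43 a)) (C1.G1_le G2'.mem)
    rwa [inv_mul_cancel_left] at this
  obtain ⟨e, hef, h6, hh6, hh5e, -⟩ := split_single f hf hK hcQ i44 ρ44 hρL hh5 hh5f
  -- make the coefficient at `44` non-zero
  obtain ⟨u, hu⟩ : ∃ u : K, f u * a + u * f a + e ≠ 0 := by
    by_cases he : e = 0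
    · obtain ⟨v, hv⟩ : ∃ v : K, v + f v ≠ 0 := by
        by_contra hc
        push Not at hc
        have h0 : Nat.card {t : K // t ^ q = t} = Nat.card K :=
          Nat.card_congr (Equiv.subtypeUnivEquiv fun t => by rw [← hf, ← CharTwo.add_eq_zero, add_comm]; exact hc t)
        rw [TwistedField.card_fix hK, Nat.card_eq_fintype_card, hK] at h0
        have := lt_self_pow₀ (TwistedField.one_lt_base hK) one_lt_two
        omega
      refine ⟨v * a, ?_⟩
      rw [he, add_zero, map_mul, show f v * f a * a + v * a * f a = (v + f v) * (a * f a) by ring]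
      exact mul_ne_zero hv (mul_ne_zero ha hfa)
    · exact ⟨0, by simpa using he⟩
  set R := pe f 42 37 u
  have hRg : R ∈ GS (K := K) (q := q) S :=
    US_fixed_GS f hf hK hSlt (Finset.Subset.refl _)
      (mul_mem (mem_US c6 hL (hroots 42 (by simp)) _) (mem_US c6 hL (hroots 37 (by simp)) _)) (pe_fixed f hf hK p42 u)
  set h7 := R * h6 * R⁻¹
  have hh7 : h7 ∈ US c6 ((QA S).erase 44) :=
    pe_conj_US f (hnorm 42 (by simp)) (hnorm 37 (by simp)) u hh6
  set τ := f u * a + u * f a + e with hτ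
  have hR44 : Commute R (xg c6 44 e) :=
    (comm_none c6 hL (L 42 (by simp)).1 (L 44 (by simp)).1 ((L 42 (by simp)).2 44 (by simp)) n4244 _ _).mul_left
      (comm_none c6 hL (L 37 (by simp)).1 (L 44 (by simp)).1 ((L 37 (by simp)).2 44 (by simp)) n3744 _ _)
  have hz3 : R * (pe f 43 40 a * h5) * R⁻¹ = pe f 43 40 a * (xg c6 44 τ * h7) := by
    calc R * (pe f 43 40 a * h5) * R⁻¹ = (R * pe f 43 40 a * R⁻¹) * (R * xg c6 44 e * R⁻¹) * h7 := by
          rw [hh5e]; simp only [h7]; group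
      _ = pe f 43 40 a * (xg c6 44 (f u * a + u * f a) * xg c6 44 e) * h7 := by
          rw [PP2 f hf hK u a, hR44.eq, mul_inv_cancel_right]; group
      _ = _ := by rw [xg_mul, hτ]; group
  have hz3U : pe f 43 40 a * (xg c6 44 τ * h7) ∈ US c6 (Ps S) :=
    mul_mem (mul_mem (mem_US c6 hL (hroots 43 (by simp)) _) (mem_US c6 hL (hroots 40 (by simp)) _))
      (mul_mem (mem_US c6 hL (hroots 44 (by simp)) _)
        (US_mono c6 hL ((Finset.erase_subset _ _).trans hQY) hh7))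
  have G3' := Good.conj f hf hK G2' hRg (hz3 ▸ hz3U)
  rw [hz3] at G3'
  -- reflect at the pair
  have hnJ := nwd_GS f hf hK hSlt (cw6_lt [3]) (cw6_mem f hf hK [3]) fun t ht => (hS1 t ht).2.2
  set n := nwd c6 (F := K) (cw6 [3])
  set p := n * pe f 43 40 a * n⁻¹
  have hp : p ∈ US c6 ((Ps S).erase 39) := by
    simp only [p, pe]
    rw [← conj_mul, InvolTwistKill33.conj_nwd c6 (cw6_lt [3]) (L 43 (by simp)).1,
      InvolTwistKill33.conj_nwd c6 (cw6_lt [3]) (L 40 (by simp)).1]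
    exact mul_mem (mem_US c6 hL (hsJ' 43 (by simp)) _) (mem_US c6 hL (hsJ' 40 (by simp)) _)
  set h8 := n * h7 * n⁻¹
  have hh8 : h8 ∈ US c6 ((Ps S).erase 39) :=
    conj_nwd_US c6 hL (cw6_lt [3]) ((Finset.erase_subset _ _).trans hcQ.1) hsJ hh7
  have hz4 : n * (pe f 43 40 a * (xg c6 44 τ * h7)) * n⁻¹ = p * (xg c6 39 τ * h8) := by
    calc n * (pe f 43 40 a * (xg c6 44 τ * h7)) * n⁻¹ = p * ((n * xg c6 44 τ * n⁻¹) * h8) := by
          simp only [p, h8]; group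
      _ = _ := by rw [InvolTwistKill33.conj_nwd c6 (cw6_lt [3]) (L 44 (by simp)).1, w44]
  have hz4U : p * (xg c6 39 τ * h8) ∈ US c6 (Ps S) :=
    mul_mem (US_mono c6 hL (Finset.erase_subset _ _) hp)
      (mul_mem (mem_US c6 hL (hroots 39 (by simp)) _) (US_mono c6 hL (Finset.erase_subset _ _) hh8))
  have G4' := G3'.zero _ hnJ (hz4 ▸ hz4U)
  rw [hz4] at G4'
  have h39 : xg c6 39 τ ∈ US c6 ((Ps S).erase 39) :=
    (Subgroup.mul_mem_cancel_right _ hh8).1 ((Subgroup.mul_mem_cancel_left _ hp).1 G4')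
  exact hu (notin_US c6 hL (closed_of hc0).1 (closed_of hc0).2 (Psi_pos c6 hL (hroots 39 (by simp)))
    (Finset.notMem_erase _ _) h39)

end Cfsg.Agent.InvolTwistSteps33
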