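import Mathlib

set_option autoImplicit false

/-!
Elementary counting with involutions: pairs of involutions with a given product, the extended
centralizer, the Brauer–Fowler bounds.
-/

namespace Cfsg.Agent.InvolutionCount

variable {G : Type*} [Group G]

lemma inv_self {t : G} (ht : orderOf t = 2) : t⁻¹ = t :=
  inv_eq_of_mul_eq_one_left (by rw [← pow_two, ← ht, pow_orderOf_eq_one])

lemma sq_self {t : G} (ht : orderOf t = 2) : t * t = 1 := by
  rw [← pow_two, ← ht, pow_orderOf_eq_one]

lemma ne_one {t : G} (ht : orderOf t = 2) : t ≠ 1 := by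
  rintro rfl; simp at ht

lemma orderOf_eq_two {t : G} (h : t * t = 1) (h1 : t ≠ 1) : orderOf t = 2 :=
  orderOf_eq_prime (by rw [pow_two, h]) h1

lemma orderOf_conj (g t : G) : orderOf (g * t * g⁻¹) = orderOf t :=
  orderOf_injective (MulAut.conj g).toMonoidHom (MulAut.conj g).injective t

lemma mem_centralizer_singleton {x g : G} :
    g ∈ Subgroup.centralizer ({x} : Set G) ↔ g * x = x * g := by
  rw [Subgroup.mem_centralizer_singleton_iff]

lemma left_inverts {u v x : G} (hu : orderOf u = 2) (hv : orderOf v = 2) (h : u * v = x) :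
    u * x * u⁻¹ = x⁻¹ := by
  subst h
  rw [mul_inv_rev, inv_self hu, inv_self hv, ← mul_assoc u u v, sq_self hu, one_mul]

lemma right_inverts {u v x : G} (hu : orderOf u = 2) (hv : orderOf v = 2) (h : u * v = x) :
    v * x * v⁻¹ = x⁻¹ := by
  subst h
  rw [mul_inv_rev, inv_self hu, inv_self hv, mul_assoc, mul_assoc, sq_self hv, mul_one]

/-- The elements `g` with `g x g⁻¹ ∈ {x, x⁻¹}`. -/
def starCentralizer (x : G) : Subgroup G where
  carrier := {g | g * x * g⁻¹ = x ∨ g * x * g⁻¹ = x⁻¹}
  one_mem' := by simp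
  mul_mem' {a b} ha hb := by
    have e : a * b * x * (a * b)⁻¹ = a * (b * x * b⁻¹) * a⁻¹ := by
      simp [mul_assoc]
    simp only [Set.mem_ofPred_eq] at ha hb ⊢
    rw [e]
    rcases hb with hb | hb <;> rcases ha with ha | ha <;> rw [hb]
    · exact Or.inl ha
    · exact Or.inr ha
    · exact Or.inr (by rw [← conj_inv, ha])
    · exact Or.inl (by rw [← conj_inv, ha, inv_inv])
  inv_mem' {a} ha := by
    simp only [Set.mem_ofPred_eq, inv_inv] at ha ⊢
    rcases ha with ha | ha
    · left; conv_lhs => rw [← ha]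
      simp [mul_assoc]
    · right
      have h := congrArg (fun y => (a⁻¹ * y * a)⁻¹) ha
      simp only [mul_assoc, inv_mul_cancel_left, inv_mul_cancel, mul_one, mul_inv_rev, inv_inv] at h
      rw [h]; simp [mul_assoc]

lemma mem_starCentralizer {x g : G} :
    g ∈ starCentralizer x ↔ g * x * g⁻¹ = x ∨ g * x * g⁻¹ = x⁻¹ := Iff.rfl

variable [Finite G]

/-- The number of ordered pairs of involutions with product `x`. -/
noncomputable def pairCount (x : G) : ℕ :=
  Nat.card {p : G × G // orderOf p.1 = 2 ∧ orderOf p.2 = 2 ∧ p.1 * p.2 = x}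

lemma exists_of_pairCount_ne_zero {x : G} (h : pairCount x ≠ 0) :
    ∃ t : G, orderOf t = 2 ∧ t * x * t⁻¹ = x⁻¹ := by
  obtain ⟨⟨⟨u, v⟩, hu, hv, huv⟩⟩ := (Nat.card_pos_iff.1 (Nat.pos_of_ne_zero h)).1
  exact ⟨u, hu, left_inverts hu hv huv⟩

lemma pairCount_le_centralizer (x : G) :
    pairCount x ≤ Nat.card (Subgroup.centralizer ({x} : Set G)) := by
  by_cases h : pairCount x = 0
  · omega
  obtain ⟨t, ht, htx⟩ := exists_of_pairCount_ne_zero h
  refine Nat.card_le_card_of_injective
    (fun p => ⟨t⁻¹ * p.1.1, ?_⟩) ?_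
  · obtain ⟨⟨u, v⟩, hu, hv, huv⟩ := p
    have e := left_inverts hu hv huv
    rw [← htx] at e
    rw [mem_centralizer_singleton]
    calc t⁻¹ * u * x = t⁻¹ * (u * x * u⁻¹) * u := by simp [mul_assoc]
    _ = x * (t⁻¹ * u) := by rw [e]; simp [mul_assoc]
  · rintro ⟨⟨u, v⟩, hu, hv, huv⟩ ⟨⟨u', v'⟩, hu', hv', huv'⟩ h
    simp only [Subtype.mk.injEq, mul_right_inj] at h
    subst h
    simp_all only [Subtype.mk.injEq, Prod.mk.injEq, true_and]
    exact mul_left_cancel (huv.trans huv'.symm)

lemma pairCount_le_two (x : G) (hx : orderOf x = 2) :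
    pairCount x + 2 ≤ Nat.card (Subgroup.centralizer ({x} : Set G)) := by
  let C := Subgroup.centralizer ({x} : Set G)
  have key : ∀ p : {p : G × G // orderOf p.1 = 2 ∧ orderOf p.2 = 2 ∧ p.1 * p.2 = x}, p.1.1 ∈ C := by
    rintro ⟨⟨u, v⟩, hu, hv, huv⟩
    have e := left_inverts hu hv huv
    rw [inv_self hx, mul_inv_eq_iff_eq_mul] at e
    exact mem_centralizer_singleton.2 e
  let f : {p : G × G // orderOf p.1 = 2 ∧ orderOf p.2 = 2 ∧ p.1 * p.2 = x} ⊕ Bool → C :=
    Sum.elim (fun p => ⟨p.1.1, key p⟩)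
      (fun b => if b then ⟨x, mem_centralizer_singleton.2 rfl⟩ else 1)
  have hf : Function.Injective f := by
    apply Function.Injective.sumElim
    · rintro ⟨⟨u, v⟩, hu, hv, huv⟩ ⟨⟨u', v'⟩, hu', hv', huv'⟩ h
      obtain rfl : u = u' := congrArg Subtype.val h
      simp only [Subtype.mk.injEq, Prod.mk.injEq, true_and]
      exact mul_left_cancel (huv.trans huv'.symm)
    · intro a b h
      have h0 : (1 : C) ≠ ⟨x, mem_centralizer_singleton.2 rfl⟩ :=
        fun e => ne_one hx (congrArg Subtype.val e).symm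
      revert h; cases a <;> cases b <;> simp [h0, h0.symm]
    · rintro ⟨⟨u, v⟩, hu, hv, huv⟩ b h
      have h := congrArg Subtype.val h
      cases b
      · exact ne_one hu (by simpa using h)
      · obtain rfl : u = x := by simpa using h
        exact ne_one hv (by simpa using huv)
  have := Nat.card_le_card_of_injective f hf
  rwa [Nat.card_sum, Nat.card_eq_fintype_card (α := Bool), Fintype.card_bool] at this

/-- Either some proper subgroup has index 2, or `2 c(x)` is at most the order of a proper subgroup,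
for `x² ≠ 1`. -/
lemma pairCount_small (x : G) (hx : x * x ≠ 1) :
    (∃ H : Subgroup G, H.index = 2) ∨
      ∃ H : Subgroup G, H ≠ ⊤ ∧ 2 * pairCount x ≤ Nat.card H := by
  by_cases h : pairCount x = 0
  · right
    refine ⟨⊥, fun e => hx ?_, by omega⟩
    have : x ∈ (⊥ : Subgroup G) := e ▸ Subgroup.mem_top x
    rw [Subgroup.mem_bot] at this
    simp [this]
  obtain ⟨t, ht, htx⟩ := exists_of_pairCount_ne_zero h
  let C := Subgroup.centralizer ({x} : Set G)
  have hne : ∀ g : G, g * x * g⁻¹ = x → g * x * g⁻¹ ≠ x⁻¹ := fun g h1 h2 =>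
    hx (mul_eq_one_iff_eq_inv.2 (h1.symm.trans h2))
  have hC : ∀ g, g ∈ C ↔ g * x * g⁻¹ = x := fun g => by
    rw [mul_inv_eq_iff_eq_mul]; exact mem_centralizer_singleton
  let S := starCentralizer x
  have hCS : C ≤ S := fun g hg => Or.inl ((hC g).1 hg)
  have htS : t ∈ S := Or.inr htx
  have htC : t ∉ C := fun h => hne t ((hC t).1 h) htx
  have hdbl : 2 * Nat.card C ≤ Nat.card S := by
    let f : C ⊕ C → S := Sum.elim (fun c => ⟨c, hCS c.2⟩) (fun c => ⟨t * c, mul_mem htS (hCS c.2)⟩)
    have hf : Function.Injective f := by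
      apply Function.Injective.sumElim
      · intro a b e; exact Subtype.ext (congrArg (fun s : S => (s : G)) e)
      · intro a b e; exact Subtype.ext (mul_left_cancel (congrArg (fun s : S => (s : G)) e))
      · intro a b e
        refine htC ?_
        have e : (a : G) = t * b := congrArg Subtype.val e
        have : t = a * (b : G)⁻¹ := by rw [e]; simp
        exact this ▸ mul_mem a.2 (inv_mem b.2)
    simpa [two_mul] using Nat.card_le_card_of_injective f hf
  by_cases hS : S = ⊤
  · left
    refine ⟨C, Subgroup.index_eq_two_iff.2 ⟨t, fun b => ?_⟩⟩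
    have hb : b ∈ S := hS ▸ Subgroup.mem_top b
    have e : b * t * x * (b * t)⁻¹ = b * (t * x * t⁻¹) * b⁻¹ := by simp [mul_assoc]
    rcases hb with hb | hb
    · refine Or.inr ⟨(hC b).2 hb, fun hbt => ?_⟩
      apply htC
      simpa using mul_mem (inv_mem ((hC b).2 hb)) hbt
    · refine Or.inl ⟨(hC _).2 ?_, fun hb' => hne b ((hC b).1 hb') hb⟩
      rw [e, htx, ← conj_inv, hb, inv_inv]
  · exact Or.inr ⟨S, hS, le_trans (Nat.mul_le_mul_left 2 (pairCount_le_centralizer x)) hdbl⟩

lemma pairCount_one : pairCount (1 : G) = Nat.card {t : G // orderOf t = 2} := by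
  refine Nat.card_congr
    { toFun := fun p => ⟨p.1.1, p.2.1⟩
      invFun := fun t => ⟨(t.1, t.1), t.2, t.2, sq_self t.2⟩
      left_inv := ?_
      right_inv := fun t => rfl }
  rintro ⟨⟨u, v⟩, hu, hv, huv⟩
  have : v = u⁻¹ := eq_inv_of_mul_eq_one_right huv
  simp [this, inv_self hu]

lemma sum_pairCount [Fintype G] :
    ∑ x : G, pairCount x = Nat.card {t : G // orderOf t = 2} ^ 2 := by
  rw [pow_two, ← Nat.card_prod]
  rw [← Nat.card_congr (Equiv.sigmaFiberEquiv
    (fun p : {t : G // orderOf t = 2} × {t : G // orderOf t = 2} => p.1.1 * p.2.1))]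
  rw [Nat.card_sigma]
  refine Finset.sum_congr rfl fun x _ => Nat.card_congr ?_
  exact
    { toFun := fun p => ⟨(⟨p.1.1, p.2.1⟩, ⟨p.1.2, p.2.2.1⟩), p.2.2.2⟩
      invFun := fun p => ⟨(p.1.1.1, p.1.2.1), p.1.1.2, p.1.2.2, p.2⟩
      left_inv := fun p => rfl
      right_inv := fun p => rfl }

/-- The counting core of Brauer–Fowler: if no subgroup has index 2 and no involution is central,
some proper subgroup `H` has `2 n ^ 2 < |H| (|G| + n)`. -/
lemma exists_large_subgroup (h2 : ∀ H : Subgroup G, H.index ≠ 2)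
    (hz : ∀ t : G, orderOf t = 2 → t ∉ Subgroup.center G) {t₀ : G} (ht₀ : orderOf t₀ = 2) :
    ∃ H : Subgroup G, H ≠ ⊤ ∧
      2 * Nat.card {t : G // orderOf t = 2} ^ 2 <
        Nat.card H * (Nat.card G + Nat.card {t : G // orderOf t = 2}) := by
  classical
  have : Fintype G := Fintype.ofFinite G
  set n := Nat.card {t : G // orderOf t = 2} with hn
  have npos : 0 < n := by
    have : Nonempty {t : G // orderOf t = 2} := ⟨⟨t₀, ht₀⟩⟩
    exact Nat.card_pos
  have hne : Nontrivial G := ⟨t₀, 1, ne_one ht₀⟩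
  have hex : {H : Subgroup G | H ≠ ⊤}.Nonempty := ⟨⊥, bot_ne_top⟩
  obtain ⟨H, hH, hmax⟩ := Set.exists_max_image _ (fun H : Subgroup G => Nat.card H)
    (Set.toFinite {H : Subgroup G | H ≠ ⊤}) hex
  refine ⟨H, hH, ?_⟩
  set M := Nat.card H
  have hpos : 0 < M := Nat.card_pos
  have hb : ∀ x ∈ (Finset.univ.erase (1 : G)),
      2 * pairCount x + (if orderOf x = 2 then 4 else 0) ≤ M + (if orderOf x = 2 then M else 0) := by
    intro x hx
    simp only [Finset.mem_erase, Finset.mem_univ, and_true] at hx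
    split_ifs with h
    · have h1 := pairCount_le_two x h
      have : Subgroup.centralizer ({x} : Set G) ≠ ⊤ := by
        intro e
        exact hz x h (Subgroup.mem_center_iff.2 fun g =>
          mem_centralizer_singleton.1 (e ▸ Subgroup.mem_top g))
      have h3 : Nat.card (Subgroup.centralizer ({x} : Set G)) ≤ M := hmax _ this
      omega
    · rcases pairCount_small x (fun e => h (orderOf_eq_two e hx)) with ⟨K, hK⟩ | ⟨K, hK, hc⟩
      · exact absurd hK (h2 K)
      · have h3 : Nat.card K ≤ M := hmax K hK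
        omega
  have hs := Finset.sum_le_sum hb
  have hcard : ((Finset.univ.erase (1 : G)).filter fun x => orderOf x = 2).card = n := by
    rw [hn, Nat.card_eq_fintype_card, Fintype.card_subtype]
    congr 1; ext x
    simp only [Finset.mem_filter, Finset.mem_erase, Finset.mem_univ, and_true, true_and]
    exact ⟨fun h => h.2, fun h => ⟨ne_one h, h⟩⟩
  have hsum := sum_pairCount (G := G)
  rw [← Finset.add_sum_erase _ _ (Finset.mem_univ (1 : G)), pairCount_one, ← hn] at hsum
  simp only [Finset.sum_add_distrib, ← Finset.mul_sum, Finset.sum_ite, Finset.sum_const_zero,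
    add_zero, Finset.sum_const, hcard, smul_eq_mul] at hs
  have hcardG : (Finset.univ.erase (1 : G)).card + 1 = Nat.card G := by
    rw [Finset.card_erase_add_one (Finset.mem_univ _), Finset.card_univ, Nat.card_eq_fintype_card]
  rw [← hcardG]
  nlinarith

omit [Finite G] in
lemma no_central_of_one_lt {t : G} (ht : orderOf t = 2)
    (h : Subgroup.centralizer ({t} : Set G) ≠ ⊤) : t ∉ Subgroup.center G := fun hc =>
  h (eq_top_iff.2 fun g _ => mem_centralizer_singleton.2 (Subgroup.mem_center_iff.1 hc g))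

omit [Finite G] in
lemma centralizer_ne_top {t : G} (h : t ∉ Subgroup.center G) :
    Subgroup.centralizer ({t} : Set G) ≠ ⊤ := fun e =>
  h (Subgroup.mem_center_iff.2 fun g => mem_centralizer_singleton.1 (e ▸ Subgroup.mem_top g))

/-- The number of involutions times the centralizer order of one of them is at least `|G|`. -/
lemma card_le_mul_centralizer {t : G} (ht : orderOf t = 2) :
    Nat.card G ≤ Nat.card {u : G // orderOf u = 2} *
      Nat.card (Subgroup.centralizer ({t} : Set G)) := by
  rw [← Subgroup.index_mul_card (Subgroup.centralizer ({t} : Set G))]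
  refine Nat.mul_le_mul_right _ ?_
  refine Nat.card_le_card_of_injective (fun c : G ⧸ Subgroup.centralizer ({t} : Set G) =>
    ⟨c.out * t * c.out⁻¹, by rw [orderOf_conj, ht]⟩) ?_
  intro a b h
  have h : a.out * t * a.out⁻¹ = b.out * t * b.out⁻¹ := congrArg Subtype.val h
  rw [← QuotientGroup.out_eq' a, ← QuotientGroup.out_eq' b, QuotientGroup.eq]
  refine mem_centralizer_singleton.2 ?_
  calc a.out⁻¹ * b.out * t = a.out⁻¹ * (b.out * t * b.out⁻¹) * b.out := by simp [mul_assoc]
  _ = t * (a.out⁻¹ * b.out) := by rw [← h]; simp [mul_assoc]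

/-- Two non-conjugate involutions commute with a common involution. -/
lemma exists_commuting_involution {s t : G} (hs : orderOf s = 2) (ht : orderOf t = 2)
    (hns : ¬ IsConj s t) : ∃ z : G, orderOf z = 2 ∧ Commute z s ∧ Commute z t := by
  set r := s * t with hr
  have htr : t * r * t⁻¹ = r⁻¹ := right_inverts hs ht hr.symm
  have hsr : s * r * s⁻¹ = r⁻¹ := left_inverts hs ht hr.symm
  rcases Nat.even_or_odd (orderOf r) with ⟨k, hk⟩ | ⟨k, hk⟩
  · have hpos := orderOf_pos r
    set z := r ^ k
    have hz2 : z * z = 1 := by rw [← pow_add, ← hk, pow_orderOf_eq_one]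
    have hz1 : z ≠ 1 := pow_ne_one_of_lt_orderOf (by omega) (by omega)
    have hzinv : z⁻¹ = z := inv_eq_of_mul_eq_one_left hz2
    have key : ∀ u : G, u * r * u⁻¹ = r⁻¹ → Commute z u := fun u hu => by
      have : u * z * u⁻¹ = z := by rw [← conj_pow, hu, inv_pow, hzinv]
      exact (mul_inv_eq_iff_eq_mul.1 this).symm
    exact ⟨z, orderOf_eq_two hz2 hz1, key s hsr, key t htr⟩
  · refine absurd (isConj_comm.1 (isConj_iff.2 ⟨r ^ (k + 1), ?_⟩)) hns
    have htrj : r ^ (k + 1) * t = t * (r ^ (k + 1))⁻¹ := by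
      rw [← inv_pow, ← htr, conj_pow]
      simp only [← mul_assoc, inv_self ht, sq_self ht, one_mul]
    have h2 : r ^ (k + 1) * r ^ (k + 1) = r := by
      rw [← pow_add, show k + 1 + (k + 1) = orderOf r + 1 by omega, pow_succ, pow_orderOf_eq_one,
        one_mul]
    calc r ^ (k + 1) * t * (r ^ (k + 1))⁻¹ = t * (r ^ (k + 1) * r ^ (k + 1))⁻¹ := by
          rw [htrj, mul_inv_rev, mul_assoc]
    _ = s := by rw [h2, hr, mul_inv_rev, ← mul_assoc, mul_inv_cancel, one_mul, inv_self hs]

end Cfsg.Agent.InvolutionCount
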