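import Mathlib

/-!
An abelian group `T` of automorphisms of a finite abelian `p`-group `N` leaving no proper
non-trivial subgroup invariant generates a field, on which its normalizer acts semilinearly.
-/

set_option autoImplicit false

namespace Cfsg.Agent.IrreducibleAbelianAction

variable {G : Type*} [Group G] [Finite G]

theorem structure_theorem (N : Subgroup G) [hNn : N.Normal] (hNab : IsMulCommutative N) (H T : Subgroup G)
    (hTH : T ≤ H) (hHT : H ≤ Subgroup.normalizer (T : Set G)) (hTab : IsMulCommutative T) (hT1 : T ≠ ⊥)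
    (hfaith : ∀ h ∈ H, (∀ n ∈ N, h * n = n * h) → h = 1)
    (hcent : ∀ h ∈ H, (∀ t ∈ T, t * h = h * t) → h ∈ T)
    (hirr : ∀ L : Subgroup G, L ≤ N → T ≤ Subgroup.normalizer (L : Set G) → L = ⊥ ∨ L = N)
    (p q d : ℕ) [hp : Fact p.Prime] (hq : q.Prime) (hTq : ∀ t ∈ T, t ^ q = 1)
    (hNp : ∀ n ∈ N, n ^ p = 1) (hN : Nat.card N = p ^ d) (hd : 0 < d) :
    Nat.card T = q ∧ q ∣ p ^ d - 1 ∧ (∀ i : ℕ, 0 < i → i < d → ¬ q ∣ p ^ i - 1) ∧
      (∃ h : G, H = T ⊔ Subgroup.zpowers h) ∧ Nat.card H ∣ q * d := by
  classical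
  letI : CommGroup N := { (inferInstance : Group N) with mul_comm := hNab.is_comm.comm }
  haveI : Finite (Additive N) := inferInstanceAs (Finite N)
  haveI : Nontrivial (Additive N) := by
    refine Finite.one_lt_card_iff_nontrivial.mp ?_
    show 1 < Nat.card N
    rw [hN]
    exact Nat.one_lt_pow hd.ne' hp.out.one_lt
  haveI : Finite (AddMonoid.End (Additive N)) :=
    Finite.of_injective (fun f => (f : Additive N → Additive N)) DFunLike.coe_injective
  let ρ : G →* AddMonoid.End (Additive N) :=
    { toFun := fun g => MonoidHom.toAdditive (MulAut.conjNormal g : MulAut N).toMonoidHom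
      map_one' := by
        ext x
        show ((MulAut.conjNormal (1 : G) : MulAut N) x.toMul : G) = x.toMul
        rw [map_one]; rfl
      map_mul' := fun a b => by
        ext x
        show ((MulAut.conjNormal (a * b) : MulAut N) x.toMul : G) = _
        rw [map_mul]; rfl }
  have hρ : ∀ (g : G) (n : N), (((ρ g) (Additive.ofMul n)).toMul : G) = g * n * g⁻¹ := fun g n => rfl
  have hinj : ∀ a ∈ H, ∀ b ∈ H, ρ a = ρ b → a = b := by
    intro a ha b hb hab
    refine (inv_mul_eq_one.mp (hfaith (b⁻¹ * a) (H.mul_mem (H.inv_mem hb) ha) fun n hn => ?_)).symm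
    have h1 : a * n * a⁻¹ = b * n * b⁻¹ := by
      have := congrArg (fun f : AddMonoid.End (Additive N) => ((f (Additive.ofMul ⟨n, hn⟩)).toMul : G)) hab
      exact this
    calc b⁻¹ * a * n = b⁻¹ * (a * n * a⁻¹) * a := by group
      _ = b⁻¹ * (b * n * b⁻¹) * a := by rw [h1]
      _ = n * (b⁻¹ * a) := by group
  have hcommS : ∀ x ∈ ρ '' (T : Set G), ∀ y ∈ ρ '' (T : Set G), x * y = y * x := by
    rintro _ ⟨s, hs, rfl⟩ _ ⟨t, ht, rfl⟩
    rw [← map_mul, ← map_mul, show s * t = t * s from congrArg Subtype.val (hTab.is_comm.comm (⟨s, hs⟩ : T) ⟨t, ht⟩)]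
  set R := Subring.closure (ρ '' (T : Set G)) with hR
  letI : CommRing R := Subring.closureCommRingOfComm hcommS
  have hmemR : ∀ t ∈ T, ρ t ∈ R := fun t ht => Subring.subset_closure ⟨t, ht, rfl⟩
  -- elements of `R` commute with `T`
  have hRT : ∀ r : R, ∀ t ∈ T, (r : AddMonoid.End (Additive N)) * ρ t = ρ t * r := by
    intro r t ht
    exact congrArg Subtype.val (mul_comm r ⟨ρ t, hmemR t ht⟩)
  -- images and kernels are invariant
  have hkey : ∀ (K : AddSubgroup (Additive N)), (∀ t ∈ T, ∀ v ∈ K, ρ t v ∈ K) → K = ⊥ ∨ K = ⊤ := by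
    intro K hK
    set L : Subgroup G := (AddSubgroup.toSubgroup' K).map N.subtype with hL
    have hLmem : ∀ v : Additive N, (v.toMul : G) ∈ L ↔ v ∈ K := by
      intro v
      constructor
      · rintro ⟨w, hw, hwv⟩
        have e : w = v.toMul := Subtype.ext hwv
        rw [e] at hw
        exact hw
      · intro hv
        exact ⟨v.toMul, hv, rfl⟩
    have hn : T ≤ Subgroup.normalizer (L : Set G) := by
      intro t ht
      rw [Subgroup.mem_normalizer_iff]
      have key : ∀ t ∈ T, ∀ x ∈ L, t * x * t⁻¹ ∈ L := by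
        rintro t ht _ ⟨w, hw, rfl⟩
        exact (hLmem _).mpr (hK t ht (Additive.ofMul w) hw)
      exact fun x => ⟨key t ht x, fun hx => by simpa [mul_assoc] using key t⁻¹ (T.inv_mem ht) _ hx⟩
    rcases hirr L (Subgroup.map_subtype_le _) hn with h | h
    · left
      rw [eq_bot_iff]
      intro v hv
      have := (hLmem v).mpr hv
      rw [h, Subgroup.mem_bot] at this
      exact AddSubgroup.mem_bot.mpr (Additive.toMul.injective (Subtype.ext this))
    · right
      rw [eq_top_iff]
      intro v _
      exact (hLmem v).mp (by rw [h]; exact v.toMul.2)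
  have hinjR : ∀ r : R, r ≠ 0 → ∀ v, (r : AddMonoid.End (Additive N)) v = 0 → v = 0 := by
    intro r hr v hv
    let f : Additive N →+ Additive N := (r : AddMonoid.End (Additive N))
    rcases hkey f.ker (fun t ht w hw => by
        show f (ρ t w) = 0
        have := congrArg (fun F : AddMonoid.End (Additive N) => F w) (hRT r t ht)
        refine this.trans ?_
        show ρ t (f w) = 0
        rw [AddMonoidHom.mem_ker.mp hw, map_zero]) with h | h
    · have : v ∈ f.ker := hv
      rw [h] at this
      exact AddSubgroup.mem_bot.mp this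
    · exfalso
      apply hr
      apply Subtype.ext
      apply AddMonoidHom.ext
      intro w
      have : w ∈ f.ker := h ▸ AddSubgroup.mem_top w
      exact this
  haveI : Nontrivial R := ⟨⟨0, 1, fun e => by
    obtain ⟨v, hv⟩ := exists_ne (0 : Additive N)
    exact hv (congrArg (fun F : AddMonoid.End (Additive N) => F v) (congrArg Subtype.val e)).symm⟩⟩
  haveI : NoZeroDivisors R := by
    refine ⟨fun {r s} h => ?_⟩
    by_contra hcon
    push Not at hcon
    obtain ⟨v, hv⟩ := exists_ne (0 : Additive N)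
    have h1 : (r : AddMonoid.End (Additive N)) ((s : AddMonoid.End (Additive N)) v) = 0 :=
      congrArg (fun F : AddMonoid.End (Additive N) => F v) (congrArg Subtype.val h)
    exact hv (hinjR s hcon.2 v (hinjR r hcon.1 _ h1))
  haveI : IsDomain R := NoZeroDivisors.to_isDomain R
  haveI : Fintype R := Fintype.ofFinite R
  -- the order of `R`
  have hcardR : Nat.card R = p ^ d := by
    obtain ⟨v, hv⟩ := exists_ne (0 : Additive N)
    let ev : R →+ Additive N :=
      { toFun := fun r => (r : AddMonoid.End (Additive N)) v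
        map_zero' := rfl
        map_add' := fun a b => rfl }
    have hevi : Function.Injective ev := (injective_iff_map_eq_zero ev).mpr fun r hr => by
      by_contra hne
      exact hv (hinjR r hne v hr)
    have hevs : Function.Surjective ev := by
      rcases hkey ev.range (fun t ht w hw => by
          obtain ⟨r, rfl⟩ := hw
          exact ⟨⟨ρ t, hmemR t ht⟩ * r, rfl⟩) with h | h
      · exfalso
        have : v ∈ ev.range := ⟨1, rfl⟩
        rw [h] at this
        exact hv (AddSubgroup.mem_bot.mp this)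
      · exact AddMonoidHom.range_eq_top.mp h
    rw [← hN]
    exact Nat.card_congr (Equiv.ofBijective ev ⟨hevi, hevs⟩)
  let e : T →* R :=
    { toFun := fun t => ⟨ρ (t : G), hmemR _ t.2⟩
      map_one' := Subtype.ext (map_one ρ)
      map_mul' := fun a b => Subtype.ext (map_mul ρ (a : G) b) }
  have he : Function.Injective e := fun a b h =>
    Subtype.ext (hinj a (hTH a.2) b (hTH b.2) (congrArg Subtype.val h))
  haveI : IsCyclic T := isCyclic_of_injective_ringHom e he
  obtain ⟨g, hg⟩ := IsCyclic.exists_ofOrder_eq_natCard (α := T)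
  haveI : Nontrivial T := (Subgroup.nontrivial_iff_ne_bot T).mpr hT1
  have hTcard : Nat.card T = q := by
    have h1 : orderOf g ∣ q := orderOf_dvd_of_pow_eq_one (Subtype.ext (by simpa using hTq g g.2))
    rw [hg] at h1
    exact ((Nat.dvd_prime hq).mp h1).resolve_left (Finite.one_lt_card (α := T)).ne'
  have hgo : orderOf (e g) = q := by rw [orderOf_injective e he, hg, hTcard]
  have hgen : ∀ t : T, ∃ i : ℕ, g ^ i = t := by
    intro t
    have ht : t ∈ Subgroup.zpowers g := by
      rw [(Subgroup.card_eq_iff_eq_top (Subgroup.zpowers g)).mp (by rw [Nat.card_zpowers, hg])]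
      exact Subgroup.mem_top t
    rw [← mem_powers_iff_mem_zpowers] at ht
    exact ht
  haveI : CharP R p := by
    have hp0 : (p : R) = 0 := by
      apply Subtype.ext
      rw [Subring.coe_natCast, ZeroMemClass.coe_zero]
      apply AddMonoidHom.ext
      intro v
      show (p : AddMonoid.End (Additive N)) v = (0 : Additive N)
      rw [AddMonoid.End.natCast_apply]
      exact congrArg Additive.ofMul (Subtype.ext (by simpa using hNp v.toMul v.toMul.2) : v.toMul ^ p = 1)
    haveI := ringChar.of_eq (CharP.ringChar_of_prime_eq_zero hp.out hp0)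
    infer_instance
  letI : Field R := Fintype.fieldOfDomain R
  letI : Algebra (ZMod p) R := ZMod.algebra R p
  have hfin : Module.finrank (ZMod p) R = d := by
    have h := Module.natCard_eq_pow_finrank (K := ZMod p) (V := R)
    rw [Nat.card_zmod, hcardR] at h
    exact (Nat.pow_right_injective hp.out.two_le h).symm
  have hge0 : e g ≠ 0 := fun h0 => by
    have h1 : (e g) ^ q = 1 := hgo ▸ pow_orderOf_eq_one _
    rw [h0, zero_pow hq.ne_zero] at h1
    exact zero_ne_one h1
  have hqd : q ∣ p ^ d - 1 := by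
    rw [← hcardR, Nat.card_eq_fintype_card, ← hgo]
    exact orderOf_dvd_of_pow_eq_one (FiniteField.pow_card_sub_one_eq_one _ hge0)
  refine ⟨hTcard, hqd, fun i hi hid hdvd => ?_, ?_⟩
  · -- the `p ^ i`-th power map is the identity
    obtain ⟨k, hk⟩ := hdvd
    have hfix : ∀ t : T, (e t) ^ p ^ i = e t := by
      intro t
      obtain ⟨j, rfl⟩ := hgen t
      have : (e g) ^ p ^ i = e g := by
        have h1 : p ^ i = q * k + 1 := by have := Nat.one_le_pow i p hp.out.pos; omega
        rw [h1, pow_succ, pow_mul, ← hgo, pow_orderOf_eq_one, one_pow, one_mul]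
      rw [map_pow, ← pow_mul, mul_comm, pow_mul, this]
    have hall : ∀ x : R, x ^ p ^ i = x := by
      haveI : ExpChar R p := ExpChar.prime hp.out
      have : ∀ x (hx : x ∈ R), (⟨x, hx⟩ : R) ^ p ^ i = ⟨x, hx⟩ := by
        intro x hx
        induction hx using Subring.closure_induction with
        | mem y hy =>
          obtain ⟨t, ht, rfl⟩ := hy
          exact hfix ⟨t, ht⟩
        | zero =>
          show (0 : R) ^ p ^ i = 0
          exact zero_pow (pow_ne_zero _ hp.out.ne_zero)
        | one => exact one_pow _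
        | add a b ha hb iha ihb =>
          show ((⟨a, ha⟩ : R) + ⟨b, hb⟩) ^ p ^ i = _
          rw [add_pow_expChar_pow, iha, ihb]; rfl
        | neg a ha iha =>
          show (-(⟨a, ha⟩ : R)) ^ p ^ i = -(⟨a, ha⟩ : R)
          have : ((⟨a, ha⟩ : R) + -⟨a, ha⟩) ^ p ^ i = 0 := by
            rw [add_neg_cancel, zero_pow (pow_ne_zero _ hp.out.ne_zero)]
          rw [add_pow_expChar_pow, iha] at this
          exact eq_neg_of_add_eq_zero_right this
        | mul a b ha hb iha ihb =>
          show ((⟨a, ha⟩ : R) * ⟨b, hb⟩) ^ p ^ i = _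
          rw [mul_pow, iha, ihb]; rfl
      exact fun x => this x x.2
    have h2 : Fintype.card R ≤ p ^ i := by
      have h1i : 1 < p ^ i := Nat.one_lt_pow hi.ne' hp.out.one_lt
      have hpol : (Polynomial.X ^ p ^ i - Polynomial.X : Polynomial R) ≠ 0 :=
        FiniteField.X_pow_card_sub_X_ne_zero R h1i
      have h := Polynomial.card_le_degree_of_subset_roots (R := R)
        (p := Polynomial.X ^ p ^ i - Polynomial.X) (Z := Finset.univ) (fun x _ => by
          rw [Polynomial.mem_roots hpol]
          simp [hall x])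
      rwa [FiniteField.X_pow_card_sub_X_natDegree_eq R h1i, Finset.card_univ] at h
    rw [← Nat.card_eq_fintype_card, hcardR] at h2
    exact absurd h2 (not_le.mpr (Nat.pow_lt_pow_right hp.out.one_lt hid))
  · -- the semilinear action of `H`
    have hmaps : ∀ h ∈ H, ∀ x ∈ R, ρ h * x * ρ h⁻¹ ∈ R := by
      intro h hh x hx
      induction hx using Subring.closure_induction with
      | mem y hy =>
        obtain ⟨t, ht, rfl⟩ := hy
        rw [← map_mul, ← map_mul]
        exact hmemR _ ((Subgroup.mem_normalizer_iff.mp (hHT hh) t).mp ht)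
      | zero => rw [mul_zero, zero_mul]; exact R.zero_mem
      | one => rw [mul_one, ← map_mul, mul_inv_cancel, map_one]; exact R.one_mem
      | add a b _ _ iha ihb => rw [mul_add, add_mul]; exact R.add_mem iha ihb
      | neg a _ iha =>
        have e : ρ h * (-a) * ρ h⁻¹ + ρ h * a * ρ h⁻¹ = 0 := by
          rw [← add_mul, ← mul_add, neg_add_cancel, mul_zero, zero_mul]
        rw [eq_neg_of_add_eq_zero_left e]
        exact R.neg_mem iha
      | mul a b _ _ iha ihb =>
        have : ρ h * (a * b) * ρ h⁻¹ = (ρ h * a * ρ h⁻¹) * (ρ h * b * ρ h⁻¹) := by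
          have h1 : ρ h⁻¹ * ρ h = 1 := by rw [← map_mul, inv_mul_cancel, map_one]
          simp only [mul_assoc]
          rw [← mul_assoc (ρ h⁻¹) (ρ h), h1, one_mul]
        rw [this]
        exact R.mul_mem iha ihb
    have hc : ∀ (a b : G) (r : AddMonoid.End (Additive N)),
        ρ a * (ρ b * r * ρ b⁻¹) * ρ a⁻¹ = ρ (a * b) * r * ρ (a * b)⁻¹ := by
      intro a b r
      simp only [map_mul, mul_inv_rev, mul_assoc]
    let θ : H → (R ≃+* R) := fun h =>
      { toFun := fun r => ⟨ρ (h : G) * r * ρ (h : G)⁻¹, hmaps h h.2 r r.2⟩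
        invFun := fun r => ⟨ρ (h : G)⁻¹ * r * ρ ((h : G)⁻¹)⁻¹, hmaps _ (H.inv_mem h.2) r r.2⟩
        left_inv := fun r => Subtype.ext (by
          show ρ (h : G)⁻¹ * (ρ (h : G) * r * ρ (h : G)⁻¹) * ρ ((h : G)⁻¹)⁻¹ = r
          rw [hc, inv_mul_cancel, inv_one, map_one, one_mul, mul_one])
        right_inv := fun r => Subtype.ext (by
          show ρ (h : G) * (ρ (h : G)⁻¹ * r * ρ ((h : G)⁻¹)⁻¹) * ρ (h : G)⁻¹ = r
          rw [hc, mul_inv_cancel, inv_one, map_one, one_mul, mul_one])
        map_mul' := fun a b => Subtype.ext (by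
          show ρ (h : G) * ((a : AddMonoid.End (Additive N)) * b) * ρ (h : G)⁻¹ =
            (ρ (h : G) * a * ρ (h : G)⁻¹) * (ρ (h : G) * b * ρ (h : G)⁻¹)
          have h1 : ρ (h : G)⁻¹ * ρ (h : G) = 1 := by rw [← map_mul, inv_mul_cancel, map_one]
          simp only [mul_assoc]
          rw [← mul_assoc (ρ (h : G)⁻¹) (ρ (h : G)), h1, one_mul])
        map_add' := fun a b => Subtype.ext (by
          show ρ (h : G) * ((a : AddMonoid.End (Additive N)) + b) * ρ (h : G)⁻¹ =
            ρ (h : G) * a * ρ (h : G)⁻¹ + ρ (h : G) * b * ρ (h : G)⁻¹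
          rw [mul_add, add_mul]) }
    let σ : H → (R ≃ₐ[ZMod p] R) := fun h => AlgEquiv.ofRingEquiv (f := θ h) (fun x =>
      RingHom.congr_fun (RingHom.ext_zmod ((θ h).toRingHom.comp (algebraMap (ZMod p) R)) (algebraMap (ZMod p) R)) x)
    let Φ : H →* (R ≃ₐ[ZMod p] R) := MonoidHom.mk' σ (fun a b => AlgEquiv.ext fun r => Subtype.ext (hc (a : G) b r).symm)
    have hΦ : ∀ (h : H) (r : R), ((Φ h r : R) : AddMonoid.End (Additive N)) = ρ (h : G) * r * ρ (h : G)⁻¹ :=
      fun h r => rfl
    have hker : Φ.ker = T.subgroupOf H := by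
      ext h
      rw [MonoidHom.mem_ker, Subgroup.mem_subgroupOf]
      constructor
      · intro hh
        refine hcent h h.2 fun t ht => ?_
        have h1 : ρ ((h : G) * t * (h : G)⁻¹) = ρ t := by
          rw [map_mul, map_mul]
          have := hΦ h ⟨ρ t, hmemR t ht⟩
          rw [hh] at this
          exact this.symm
        have h2 := hinj _ (H.mul_mem (H.mul_mem h.2 (hTH ht)) (H.inv_mem h.2)) t (hTH ht) h1
        exact (mul_inv_eq_iff_eq_mul.mp h2).symm
      · intro hh
        refine AlgEquiv.ext fun r => Subtype.ext ?_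
        rw [hΦ]
        show _ = (r : AddMonoid.End (Additive N))
        rw [← hRT r _ hh, mul_assoc, ← map_mul, mul_inv_cancel, map_one, mul_one]
    have hran : Nat.card Φ.range ∣ d := by
      have h1 := Subgroup.card_subgroup_dvd_card Φ.range
      rwa [IsGalois.card_aut_eq_finrank, hfin] at h1
    obtain ⟨a, ha⟩ := (inferInstance : IsCyclic Φ.range).exists_generator
    obtain ⟨h₀, hh₀⟩ := a.2
    refine ⟨⟨(h₀ : G), le_antisymm (fun x hx => ?_) (sup_le hTH (Subgroup.zpowers_le.mpr h₀.2))⟩, ?_⟩
    · obtain ⟨j, hj⟩ := Subgroup.mem_zpowers_iff.mp (ha ⟨Φ ⟨x, hx⟩, ⟨⟨x, hx⟩, rfl⟩⟩)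
      have hj' : Φ h₀ ^ j = Φ ⟨x, hx⟩ := by
        rw [hh₀]
        exact congrArg Subtype.val hj
      have hm : (⟨x, hx⟩ : H) * (h₀ ^ j)⁻¹ ∈ T.subgroupOf H := by
        rw [← hker, MonoidHom.mem_ker, map_mul, map_inv, map_zpow, hj', mul_inv_cancel]
      have hm' : x * ((h₀ : G) ^ j)⁻¹ ∈ T := by simpa [Subgroup.mem_subgroupOf] using hm
      have := Subgroup.mul_mem_sup hm' (Subgroup.zpow_mem_zpowers (h₀ : G) j)
      rwa [inv_mul_cancel_right] at this
    · rw [← Subgroup.card_mul_index Φ.ker, hker]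
      rw [Nat.card_congr (Subgroup.subgroupOfEquivOfLe hTH).toEquiv, hTcard, ← hker, Subgroup.index_ker]
      exact Nat.mul_dvd_mul_left q hran

end Cfsg.Agent.IrreducibleAbelianAction
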