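import Mathlib

set_option autoImplicit false

/-! Frobenius groups `V ⋊ C` with `V = (ZMod p)^4` and a fixed-point-free complement `C` given by a table. -/

namespace Cfsg.Agent.TableFrobenius

open Matrix

/-- Checkable data for a fixed-point-free group of 4 × 4 matrices. -/
structure Data where
  p : ℕ
  n : ℕ
  depth : ℕ
  mat : Fin (n + 1) → Matrix (Fin 4) (Fin 4) (ZMod p)
  mul : Fin (n + 1) → Fin (n + 1) → Fin (n + 1)
  inv : Fin (n + 1) → Fin (n + 1)
  par : Fin (n + 1) → Fin (n + 1)
  gen : Fin (n + 1) → Fin (n + 1)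
  fix : Fin (n + 1) → Matrix (Fin 4) (Fin 4) (ZMod p)
  chain : ℕ → Fin (n + 1) → Bool

namespace Data

/-- The checks (each by kernel computation at the use site). -/
structure Valid (D : Data) : Prop where
  prime : D.p.Prime
  mat_zero : D.mat 0 = 1
  mat_gen : ∀ i j, D.mat i * D.mat (D.gen j) = D.mat (D.mul i (D.gen j))
  par_lt : ∀ j, j ≠ 0 → D.par j < j
  mul_par : ∀ j, j ≠ 0 → D.mul (D.par j) (D.gen j) = j
  mul_zero : ∀ i, D.mul i 0 = i
  mul_word : ∀ i j, j ≠ 0 → D.mul i j = D.mul (D.mul i (D.par j)) (D.gen j)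
  mul_inv : ∀ i, D.mul i (D.inv i) = 0 ∧ D.mul (D.inv i) i = 0
  fix_mul : ∀ i, i ≠ 0 → (1 - D.mat i) * D.fix i = 1
  chain_zero : ∀ i, D.chain 0 i = true
  chain_one : ∀ k ≤ D.depth, D.chain k 0 = true
  chain_mul : ∀ k ≤ D.depth, ∀ i j, D.chain k i = true → D.chain k j = true → D.chain k (D.mul i j) = true
  chain_inv : ∀ k ≤ D.depth, ∀ i, D.chain k i = true → D.chain k (D.inv i) = true
  chain_comm : ∀ k < D.depth, ∀ i j, D.chain k i = true → D.chain k j = true →
    D.chain (k + 1) (D.mul (D.mul i j) (D.mul (D.inv i) (D.inv j))) = true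
  chain_last : ∀ i, D.chain D.depth i = true → i = 0

variable {D : Data}

lemma Valid.mat_mul (hD : D.Valid) (i j : Fin (D.n + 1)) : D.mat i * D.mat j = D.mat (D.mul i j) := by
  suffices ∀ m : ℕ, ∀ j : Fin (D.n + 1), j.val = m → D.mat i * D.mat j = D.mat (D.mul i j) from this _ j rfl
  intro m
  induction m using Nat.strong_induction_on with
  | _ m ih =>
    intro j hjm
    by_cases hj : j = 0
    · subst hj; rw [hD.mat_zero, mul_one, hD.mul_zero]
    · have h1 : D.mat j = D.mat (D.par j) * D.mat (D.gen j) := by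
        rw [hD.mat_gen, hD.mul_par j hj]
      have h2 := ih (D.par j).val (hjm ▸ hD.par_lt j hj) (D.par j) rfl
      rw [h1, ← mul_assoc, h2, hD.mat_gen, ← hD.mul_word i j hj]

/-- The matrix with index `i` as an element of `GL`. -/
def unit (hD : D.Valid) (i : Fin (D.n + 1)) : GL (Fin 4) (ZMod D.p) :=
  ⟨D.mat i, D.mat (D.inv i), by rw [hD.mat_mul, (hD.mul_inv i).1, hD.mat_zero],
    by rw [hD.mat_mul, (hD.mul_inv i).2, hD.mat_zero]⟩

lemma unit_mul (hD : D.Valid) (i j : Fin (D.n + 1)) : unit hD i * unit hD j = unit hD (D.mul i j) :=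
  Units.ext (hD.mat_mul i j)

lemma unit_zero (hD : D.Valid) : unit hD 0 = 1 := Units.ext hD.mat_zero

lemma unit_inv (hD : D.Valid) (i : Fin (D.n + 1)) : (unit hD i)⁻¹ = unit hD (D.inv i) :=
  Units.ext rfl

/-- The subgroup on the `k`-th term of the chain. -/
def term (hD : D.Valid) (k : ℕ) (hk : k ≤ D.depth) : Subgroup (GL (Fin 4) (ZMod D.p)) where
  carrier := {g | ∃ i, D.chain k i = true ∧ g = unit hD i}
  one_mem' := ⟨0, hD.chain_one k hk, (unit_zero hD).symm⟩
  mul_mem' := by
    rintro _ _ ⟨i, hi, rfl⟩ ⟨j, hj, rfl⟩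
    exact ⟨_, hD.chain_mul k hk i j hi hj, unit_mul hD i j⟩
  inv_mem' := by
    rintro _ ⟨i, hi, rfl⟩
    exact ⟨_, hD.chain_inv k hk i hi, unit_inv hD i⟩

/-- The complement `C`. -/
def compl (hD : D.Valid) : Subgroup (GL (Fin 4) (ZMod D.p)) := term hD 0 (Nat.zero_le _)

/-- An element of the complement. -/
def elt (hD : D.Valid) (i : Fin (D.n + 1)) : compl hD := ⟨unit hD i, i, hD.chain_zero i, rfl⟩

lemma exists_elt (hD : D.Valid) (g : compl hD) : ∃ i, g = elt hD i := by
  obtain ⟨g, i, _, rfl⟩ := g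
  exact ⟨i, rfl⟩

lemma compl_solvable (hD : D.Valid) : Group.IsSolvable (compl hD) := by
  have key : ∀ k, (hk : k ≤ D.depth) → (derivedSeries (compl hD) k).map (compl hD).subtype ≤ term hD k hk := by
    intro k
    induction k with
    | zero =>
      intro _
      exact Subgroup.map_subtype_le _
    | succ k ih =>
      intro hk
      rw [derivedSeries_succ, Subgroup.map_commutator, Subgroup.commutator_le]
      intro a ha b hb
      obtain ⟨i, hi, rfl⟩ := ih (by omega) ha
      obtain ⟨j, hj, rfl⟩ := ih (by omega) hb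
      refine ⟨_, hD.chain_comm k (by omega) i j hi hj, ?_⟩
      rw [commutatorElement_def, unit_inv, unit_inv, unit_mul, mul_assoc, unit_mul, unit_mul]
  refine ⟨⟨D.depth, ?_⟩⟩
  rw [Subgroup.eq_bot_iff_forall]
  intro x hx
  obtain ⟨i, hi, hxi⟩ := key D.depth le_rfl (Subgroup.mem_map_of_mem _ hx)
  rw [hD.chain_last i hi, unit_zero] at hxi
  exact Subtype.ext hxi

/-- The translation part. -/
abbrev Vec (D : Data) : Type := Multiplicative (Fin 4 → ZMod D.p)

/-- The action of the complement on the translations. -/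
def act (hD : D.Valid) : compl hD →* MulAut (Vec D) where
  toFun g := AddEquiv.toMultiplicative
    { toFun := fun v => (g.1 : Matrix (Fin 4) (Fin 4) (ZMod D.p)) *ᵥ v
      invFun := fun v => ((g.1⁻¹ : GL (Fin 4) (ZMod D.p)) : Matrix (Fin 4) (Fin 4) (ZMod D.p)) *ᵥ v
      left_inv := fun v => by simp [Matrix.mulVec_mulVec]
      right_inv := fun v => by simp [Matrix.mulVec_mulVec]
      map_add' := fun v w => Matrix.mulVec_add _ v w }
  map_one' := by
    ext v
    simp
  map_mul' g h := by
    ext v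
    simp [Matrix.mulVec_mulVec]

/-- The Frobenius group `V ⋊ C`. -/
abbrev Frob (hD : D.Valid) : Type := SemidirectProduct (Vec D) (compl hD) (act hD)

lemma frob_solvable (hD : D.Valid) : Group.IsSolvable (Frob hD) := by
  haveI := compl_solvable hD
  refine Group.isSolvable_of_ker_le_range (SemidirectProduct.inl : Vec D →* Frob hD) SemidirectProduct.rightHom ?_
  rw [SemidirectProduct.range_inl_eq_ker_rightHom]

lemma frob_finite (hD : D.Valid) : Finite (Frob hD) := by
  haveI := Fact.mk hD.prime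
  exact Finite.of_equiv _ SemidirectProduct.equivProd.symm

/-- Every element is a translation or conjugate to an element of the complement. -/
lemma cases_elt (hD : D.Valid) (x : Frob hD) :
    x ^ D.p = 1 ∨ ∃ i, IsConj (SemidirectProduct.inr (elt hD i)) x := by
  obtain ⟨v, g⟩ := x
  obtain ⟨i, rfl⟩ := exists_elt hD g
  by_cases hi : i = 0
  · left
    subst hi
    have h1 : elt hD 0 = 1 := Subtype.ext (unit_zero hD)
    rw [h1]
    have : (⟨v, 1⟩ : Frob hD) = SemidirectProduct.inl v := rfl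
    rw [this, ← map_pow]
    have hv : v ^ D.p = 1 := by
      apply Multiplicative.toAdd.injective
      rw [toAdd_pow, toAdd_one]
      ext k
      simp
    rw [hv, map_one]
  · right
    refine ⟨i, ?_⟩
    let u : Vec D := Multiplicative.ofAdd (D.fix i *ᵥ v.toAdd)
    rw [isConj_iff]
    refine ⟨SemidirectProduct.inl u, ?_⟩
    refine SemidirectProduct.ext ?_ ?_
    · simp only [SemidirectProduct.mul_left, SemidirectProduct.mul_right, SemidirectProduct.left_inl,
        SemidirectProduct.right_inl, SemidirectProduct.left_inr, SemidirectProduct.right_inr,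
        SemidirectProduct.inv_left, SemidirectProduct.inv_right, map_one, MulAut.one_apply, one_mul, mul_one,
        inv_one]
      apply Multiplicative.toAdd.injective
      show D.fix i *ᵥ v.toAdd + D.mat i *ᵥ (-(D.fix i *ᵥ v.toAdd)) = v.toAdd
      rw [Matrix.mulVec_neg, ← sub_eq_add_neg, Matrix.mulVec_mulVec, ← Matrix.sub_mulVec]
      conv_rhs => rw [← Matrix.one_mulVec v.toAdd]
      rw [← hD.fix_mul i hi, sub_mul, one_mul]
    · simp

lemma elt_pow (hD : D.Valid) (i : Fin (D.n + 1)) (k : ℕ) : elt hD i ^ k = elt hD ((D.mul i)^[k] 0) := by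
  induction k with
  | zero => exact Subtype.ext (unit_zero hD).symm
  | succ k ih =>
    rw [pow_succ', ih, Function.iterate_succ_apply']
    exact Subtype.ext (unit_mul hD _ _)

end Data

/-- A finite group whose exponents are covered by `ks`, each of which is the order of an element. -/
lemma range_orderOf {G : Type*} [Group G] (ks : Finset ℕ) (h0 : ∀ k ∈ ks, 0 < k)
    (h1 : ∀ x : G, ∃ k ∈ ks, x ^ k = 1) (h2 : ∀ k ∈ ks, ∃ x : G, orderOf x = k) :
    Set.range (orderOf : G → ℕ) = {m | ∃ k ∈ ks, m ∣ k} := by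
  ext m
  constructor
  · rintro ⟨x, rfl⟩
    obtain ⟨k, hk, hx⟩ := h1 x
    exact ⟨k, hk, orderOf_dvd_of_pow_eq_one hx⟩
  · rintro ⟨k, hk, hm⟩
    obtain ⟨x, rfl⟩ := h2 k hk
    exact ⟨x ^ (orderOf x / m), orderOf_pow_orderOf_div (h0 _ hk).ne' hm⟩

namespace Data

variable {D : Data}

theorem frob_range (hD : D.Valid) (ks : Finset ℕ) (h0 : ∀ k ∈ ks, 0 < k)
    (h1 : ∀ i, ∃ k ∈ ks, (D.mul i)^[k] 0 = 0)
    (h2 : ∀ k ∈ ks, ∃ i, (D.mul i)^[k] 0 = 0 ∧ ∀ m < k, 0 < m → D.mat ((D.mul i)^[m] 0) ≠ 1) :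
    Set.range (orderOf : Frob hD → ℕ) = {m | ∃ k ∈ insert D.p ks, m ∣ k} := by
  refine range_orderOf _ ?_ ?_ ?_
  · intro k hk
    rcases Finset.mem_insert.1 hk with rfl | hk
    · exact hD.prime.pos
    · exact h0 k hk
  · intro x
    rcases cases_elt hD x with h | ⟨i, hi⟩
    · exact ⟨D.p, Finset.mem_insert_self _ _, h⟩
    · obtain ⟨k, hk, hk'⟩ := h1 i
      refine ⟨k, Finset.mem_insert_of_mem hk, ?_⟩
      obtain ⟨c, hc⟩ := isConj_iff.1 hi
      have : elt hD i ^ k = 1 := by rw [elt_pow, hk']; exact Subtype.ext (unit_zero hD)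
      rw [← hc, conj_pow, ← map_pow, this, map_one, mul_one, mul_inv_cancel]
  · intro k hk
    rcases Finset.mem_insert.1 hk with rfl | hk
    · haveI := Fact.mk hD.prime
      refine ⟨SemidirectProduct.inl (Multiplicative.ofAdd (fun _ => (1 : ZMod D.p))), ?_⟩
      rw [orderOf_injective _ SemidirectProduct.inl_injective]
      refine orderOf_eq_prime ?_ ?_
      · apply Multiplicative.toAdd.injective
        rw [toAdd_pow, toAdd_one]
        ext i
        simp
      · intro h
        have := congrFun (congrArg Multiplicative.toAdd h) 0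
        simp at this
    · obtain ⟨i, hi, hm⟩ := h2 k hk
      refine ⟨SemidirectProduct.inr (elt hD i), ?_⟩
      rw [orderOf_injective _ SemidirectProduct.inr_injective, orderOf_eq_iff (h0 k hk)]
      refine ⟨by rw [elt_pow, hi]; exact Subtype.ext (unit_zero hD), fun m hmk hm0 h => hm m hmk hm0 ?_⟩
      rw [elt_pow] at h
      exact congrArg Units.val (congrArg Subtype.val h)

end Data

end Cfsg.Agent.TableFrobenius
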