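import Mathlib
import Cfsg.Agent.Lib.TableFrobenius

set_option autoImplicit false

/-! Solvable groups of unbounded order isospectral to `PGL(2,9)`: `(3^4)^k ⋊ (C5 : C8)`. -/

namespace Cfsg.Agent.IsospectralPGL29

open Cfsg.Agent.TableFrobenius Matrix

/-- Matrix with sixteen 4-bit entries. -/
def matOf (p c : ℕ) : Matrix (Fin 4) (Fin 4) (ZMod p) :=
  Matrix.of fun a b => ((c / 2 ^ (4 * (4 * a.val + b.val)) % 16 : ℕ) : ZMod p)

/-- Table data: a fixed-point-free group `C5 : C8` of order 40. -/
def data : Data where
  p := 3
  n := 39
  depth := 2
  mat i := matOf 3 (([1152922604119523329, 1229519055204978945, 1224996691386634768, 72655797653409826,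
    1306327570769313808, 153422623297053200, 2377919295488401953, 1157461392715940097,
    81082527767335170, 153720659097223697, 2459530614258278689, 2382968261202542624,
    1234569180798386209, 1153205320643842050, 144151472530128930, 1162246471883424274,
    2449993381964816672, 2455027092461523488, 148654049688822273, 2306407136544038913,
    1297618476086665250, 76860329548710178, 1229765410235093522, 2378501082629415202,
    2454779633087873042, 2310365446584468000, 1306624438909870113, 2305845208239046658,
    77161664739414304, 1297074076347601170, 2382720871088394258, 1234268945671921936,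
    1161966160305062160, 1297336932371599889, 2458985333801492994, 2378219538967826449,
    2314870008823415298, 72077385532506129, 144414392962916369, 2310929354586063137] : List ℕ).getD i.val 0)
  mul i j := Fin.ofNat 40 ((([1093317306902421746902640126436031210600226870931347987187368312011759680,
    15768979763406236847266319592496434446777897095966248038997281524695233,
    498652133620591535550748404422149015056307724342735326168342660496777538,
    44605286993892745168321951188924858311893219777071527834512962982019523,
    776454914220000376850857713497206338377274827603203695347246183463035460,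
    59145334673519099705945966785968258478874847463901419778577569120830149,
    281261468965372152479804731763931979462735000705728989706356255870739270,
    83043523182324240055902650172761657162795852259441276919254114028508103,
    581924911739682000196409156163611694613097721050270086832531858516939784,
    117433799177291456371571095418128224135188013539473035192596109497808009,
    477542803110670294605467801167262407841700733018865903667315550016848266,
    146028826164174971761997404431417343831620446433368422463633124690584907,
    534059391534650006089543605151616802567870289129968820979964761202062412,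
    173117657046452814900630672946921744000982416481147869672814790915757581,
    645788820207866361044621800146288238695746820395744918055870979912087182,
    193849095509678910390260627598855263397990982536548984063431478937687759,
    225785084281612301631591398284732883051187712957915260973666617531684624,
    343849167882509218236674202295302871738560486685972344899036074439467665,
    260797465758980950037559862679009299553170917805671679708023654607876242,
    814037695371324603348153538852792302382995905250996245521823878948979475,
    889532738519298073376839238253297585419265399124969851561554237604636756,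
    304802949007585755098828682441997730429056468506647853067533908202017301,
    861500909741594086330506894512618489445738760779331108343853897434937174,
    979268786430311912881146060787639646627366948018032888593042879925601175,
    363393783063005577976687100553361570282288337340497131668367770727880664,
    842535966554421249205799622621936102225832476134704363829749304050645209,
    401806759240296248815960017445954803026423405167959895083498613423224858,
    415493988192034448871533626970122076384593069252059778545982903135307931,
    451013792236859960177905377560573725035616057380590655203564977700307228,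
    617817417652533570235870845844712229361922566673092898534731299968668893,
    1030203719556767566196461578420219251258323211891792368584336186299803230,
    665278511353188693336065520648926644851478380072586836558693171583100319,
    727832431925260928496773326710755361434214943193919180026938403288675616,
    563520223314988503538562076668613476515144489686148392895027307718670689,
    748544548353026899567466238037152392021516016015538517698841380689852834,
    706286382788482531004709208792196177725311486915449620921493202205677027,
    1060870795039690471102789147666139047842294865201312757680300154981304804,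
    925031604980160360543169022490695553171107510561923185319357722187270053,
    945312971437085010013239166324831516778877414750453846561697387966703910,
    1008737427953649259227877751260410369368334897756264498291862135812476967] : List ℕ).getD i.val 0 >>> (6 * j.val)) % 64)
  inv i := Fin.ofNat 40 (([0, 39, 37, 36, 33, 32, 29, 38, 20, 26, 22, 23, 24, 19, 16, 34, 14, 31, 35, 13, 8, 30, 10, 11, 12,
    28, 9, 27, 25, 6, 21, 17, 5, 4, 15, 18, 3, 2, 7, 1] : List ℕ).getD i.val 0)
  par i := Fin.ofNat 40 (([0, 0, 0, 1, 1, 2, 2, 3, 3, 4, 4, 5, 5, 6, 6, 7, 8, 8, 9, 9, 10, 11, 11, 12, 13, 13, 14, 14, 16, 16,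
    17, 18, 19, 20, 20, 22, 23, 29, 30, 32] : List ℕ).getD i.val 0)
  gen i := Fin.ofNat 40 (([1, 1, 2, 1, 2, 1, 2, 1, 2, 1, 2, 1, 2, 1, 2, 1, 1, 2, 1, 2, 2, 1, 2, 2, 1, 2, 1, 2, 1, 2, 2, 2, 2,
    1, 2, 2, 2, 2, 2, 2] : List ℕ).getD i.val 0)
  fix i := matOf 3 (([0, 2386927671312454146, 2449993381662753298, 1225279334593400850, 4802671655592450,
    1306062661482446866, 144151472228077841, 9570158334968354, 1297338100873171472,
    2459564772671099392, 76842806115570193, 9326130674860288, 1301857028968349713, 1153484532424515584,
    72077385517895713, 1306361796861501970, 1297074076617089040, 81346341552398610,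
    2310364343297974528, 282716524318721, 72658005235081505, 153704037857886224, 1306608010138755360,
    1158007991443784193, 81646576678862880, 2310648012468265250, 2382703347655254273,
    2305845208239046658, 2315450610538844690, 1224996691368878624, 1229799362486337569,
    1302104488342000162, 76596520039743522, 1162527946575057154, 77141808836055330,
    2314886569931182593, 144713460142448674, 2377919294949425442, 1157707683287007506,
    2454499322618847490] : List ℕ).getD i.val 0)
  chain k i := ((([1099511627775, 85899378697, 1] : List ℕ).getD k 1) / 2 ^ i.val) % 2 == 1

theorem data_valid : data.Valid where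
  prime := by norm_num [data]
  mat_zero := by decide +kernel
  mat_gen := by decide +kernel
  par_lt := by decide +kernel
  mul_par := by decide +kernel
  mul_zero := by decide +kernel
  mul_word := by decide +kernel
  mul_inv := by decide +kernel
  fix_mul := by decide +kernel
  chain_zero := by decide +kernel
  chain_one := by decide +kernel
  chain_mul := by decide +kernel
  chain_inv := by decide +kernel
  chain_comm := by decide +kernel
  chain_last := by decide +kernel

theorem data_exp : ∀ i, (data.mul i)^[8] 0 = 0 ∨ (data.mul i)^[10] 0 = 0 := by decide +kernel

theorem data_eight : (data.mul 2)^[8] 0 = 0 ∧ ∀ m < 8, 0 < m → data.mat ((data.mul 2)^[m] 0) ≠ 1 := by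
  decide +kernel

theorem data_ten : (data.mul 1)^[10] 0 = 0 ∧ ∀ m < 10, 0 < m → data.mat ((data.mul 1)^[m] 0) ≠ 1 := by
  decide +kernel

variable {D : Data} (hD : D.Valid) (k : ℕ)

/-- Several copies of the translations. -/
abbrev VecPow (D : Data) (k : ℕ) : Type := Fin k → Data.Vec D

/-- The diagonal action on several copies. -/
def actPow : Data.compl hD →* MulAut (VecPow D k) where
  toFun g := MulEquiv.piCongrRight fun _ => Data.act hD g
  map_one' := by
    ext v j : 2
    show Data.act hD 1 (v j) = v j
    rw [map_one]; rfl
  map_mul' g h := by
    ext v j : 2
    show Data.act hD (g * h) (v j) = Data.act hD g (Data.act hD h (v j))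
    rw [map_mul]; rfl

/-- The group `V^k ⋊ C`. -/
abbrev FrobPow : Type := SemidirectProduct (VecPow D k) (Data.compl hD) (actPow hD k)

lemma vecPow_pow (v : VecPow D k) : v ^ D.p = 1 := by
  funext j
  apply Multiplicative.toAdd.injective
  rw [Pi.pow_apply, toAdd_pow, Pi.one_apply, toAdd_one]
  ext i
  simp

lemma cases_pow (x : FrobPow hD k) :
    x ^ D.p = 1 ∨ ∃ i, IsConj (SemidirectProduct.inr (Data.elt hD i)) x := by
  obtain ⟨v, g⟩ := x
  obtain ⟨i, rfl⟩ := Data.exists_elt hD g
  by_cases hi : i = 0
  · left
    subst hi
    have h1 : Data.elt hD 0 = 1 := Subtype.ext (Data.unit_zero hD)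
    rw [h1]
    have : (⟨v, 1⟩ : FrobPow hD k) = SemidirectProduct.inl v := rfl
    rw [this, ← map_pow, vecPow_pow, map_one]
  · right
    refine ⟨i, ?_⟩
    let u : VecPow D k := fun j => Multiplicative.ofAdd (D.fix i *ᵥ (v j).toAdd)
    rw [isConj_iff]
    refine ⟨SemidirectProduct.inl u, ?_⟩
    refine SemidirectProduct.ext ?_ ?_
    · simp only [SemidirectProduct.mul_left, SemidirectProduct.mul_right, SemidirectProduct.left_inl,
        SemidirectProduct.right_inl, SemidirectProduct.left_inr, SemidirectProduct.right_inr,
        SemidirectProduct.inv_left, map_one, MulAut.one_apply, one_mul, mul_one, inv_one]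
      funext j
      apply Multiplicative.toAdd.injective
      show D.fix i *ᵥ (v j).toAdd + D.mat i *ᵥ (-(D.fix i *ᵥ (v j).toAdd)) = (v j).toAdd
      rw [Matrix.mulVec_neg, ← sub_eq_add_neg, Matrix.mulVec_mulVec, ← Matrix.sub_mulVec]
      conv_rhs => rw [← Matrix.one_mulVec (v j).toAdd]
      rw [← hD.fix_mul i hi, sub_mul, one_mul]
    · simp

/-- Groups of unbounded order with the element orders of `PGL(2,9)`. -/
theorem exists_large (N : ℕ) :
    ∃ (H : Type) (_ : Group H) (_ : Fintype H), N < Fintype.card H ∧
      Set.range (orderOf : H → ℕ) = {d | d ∣ 3 ∨ d ∣ 8 ∨ d ∣ 10} := by
  haveI : Fact (Nat.Prime data.p) := ⟨data_valid.prime⟩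
  let k := N + 1
  haveI : Finite (FrobPow data_valid k) := Finite.of_equiv _ SemidirectProduct.equivProd.symm
  letI : Fintype (FrobPow data_valid k) := Fintype.ofFinite _
  refine ⟨FrobPow data_valid k, inferInstance, inferInstance, ?_, ?_⟩
  · let f : (Fin k → Fin 2) → FrobPow data_valid k := fun a =>
      SemidirectProduct.inl fun j => Multiplicative.ofAdd fun _ => ((a j).val : ZMod data.p)
    have hf : Function.Injective f := by
      intro a b hab
      funext j
      have h := congrArg (fun w : FrobPow data_valid k => (w.left j).toAdd 0) hab
      simp only [f, SemidirectProduct.left_inl, toAdd_ofAdd] at h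
      have hlt : ∀ x y : Fin 2, (x.val : ZMod 3) = (y.val : ZMod 3) → x = y := by decide
      exact hlt _ _ h
    have := Fintype.card_le_of_injective f hf
    rw [Fintype.card_fun, Fintype.card_fin, Fintype.card_fin] at this
    have := Nat.lt_two_pow_self (n := k)
    omega
  · ext d
    constructor
    · rintro ⟨x, rfl⟩
      rcases cases_pow data_valid k x with h | ⟨i, hi⟩
      · exact Or.inl (orderOf_dvd_of_pow_eq_one h)
      · obtain ⟨c, hc⟩ := isConj_iff.1 hi
        have hk : ∀ n, (data.mul i)^[n] 0 = 0 → x ^ n = 1 := by
          intro n hn
          have : Data.elt data_valid i ^ n = 1 := by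
            rw [Data.elt_pow, hn]; exact Subtype.ext (Data.unit_zero data_valid)
          rw [← hc, conj_pow, ← map_pow, this, map_one, mul_one, mul_inv_cancel]
        rcases data_exp i with h | h
        · exact Or.inr (Or.inl (orderOf_dvd_of_pow_eq_one (hk 8 h)))
        · exact Or.inr (Or.inr (orderOf_dvd_of_pow_eq_one (hk 10 h)))
    · have hpow : ∀ (x : FrobPow data_valid k) (n : ℕ), orderOf x = n → n ≠ 0 → d ∣ n →
          d ∈ Set.range (orderOf : FrobPow data_valid k → ℕ) := fun x n hx hn hd =>
        ⟨x ^ (orderOf x / d), orderOf_pow_orderOf_div (hx ▸ hn) (hx ▸ hd)⟩
      have helt : ∀ (i : Fin (data.n + 1)) (n : ℕ), 0 < n → ((data.mul i)^[n] 0 = 0 ∧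
          ∀ m < n, 0 < m → data.mat ((data.mul i)^[m] 0) ≠ 1) →
          orderOf (SemidirectProduct.inr (Data.elt data_valid i) : FrobPow data_valid k) = n := by
        intro i n hn hs
        rw [orderOf_injective _ SemidirectProduct.inr_injective, orderOf_eq_iff hn]
        refine ⟨by rw [Data.elt_pow, hs.1]; exact Subtype.ext (Data.unit_zero data_valid),
          fun m hm hm0 h => hs.2 m hm hm0 ?_⟩
        rw [Data.elt_pow] at h
        exact congrArg Units.val (congrArg Subtype.val h)
      rintro (h | h | h)
      · let v : VecPow data k := fun _ => Multiplicative.ofAdd fun _ => (1 : ZMod data.p)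
        refine hpow (SemidirectProduct.inl v) 3 ?_ (by norm_num) h
        rw [orderOf_injective _ SemidirectProduct.inl_injective]
        haveI : Fact (Nat.Prime 3) := ⟨Nat.prime_three⟩
        refine orderOf_eq_prime (vecPow_pow k v) ?_
        intro h
        have := congrFun (congrArg Multiplicative.toAdd (congrFun h ⟨0, by omega⟩)) 0
        simp [v] at this
      · exact hpow _ 8 (helt _ _ (by norm_num) data_eight) (by norm_num) h
      · exact hpow _ 10 (helt _ _ (by norm_num) data_ten) (by norm_num) h

end Cfsg.Agent.IsospectralPGL29
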