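import Mathlib
import Cfsg.Agent.Lib.PSL2Elements

set_option autoImplicit false

/-!
For a prime `p ≥ 5`, arbitrarily large extensions `V ⋊ PSL(2,p)` (`V` an elementary abelian 2-group on which
the elements of order `p` act fixed-point-freely) whose element orders are those of `PGL(2,p)`.
`V` consists of the functions on `PSL(2,p)` summing to zero along all cosets of subgroups of order `p`;
the indicator of the classes of an elliptic trace lies in it and has nonzero norm on both tori.
-/

namespace Cfsg.Agent.IsospectralPSL2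

open Matrix hiding comp
open Finset
open scoped MatrixGroups

section Abstract

variable (G : Type) [Group G] (k p : ℕ)

/-- Functions with vanishing sums along cosets of subgroups of order `p`. -/
def fpfModule : Subgroup (Multiplicative (Fin k → G → ZMod 2)) where
  carrier := {φ | ∀ (j : Fin k) (y u : G), u ^ p = 1 → u ≠ 1 → ∑ i ∈ range p, φ.toAdd j (y * u ^ i) = 0}
  one_mem' := by intro j y u _ _; simp
  mul_mem' := by
    intro a b ha hb j y u h1 h2
    simp [Finset.sum_add_distrib, ha j y u h1 h2, hb j y u h1 h2]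
  inv_mem' := by
    intro a ha j y u h1 h2
    simp [ha j y u h1 h2]

variable {G k p}

/-- Right translation of functions. -/
def translate (g : G) (φ : Fin k → G → ZMod 2) : Fin k → G → ZMod 2 := fun j y => φ j (y * g)

lemma translate_mem (g : G) {φ : Multiplicative (Fin k → G → ZMod 2)} (hφ : φ ∈ fpfModule G k p) :
    Multiplicative.ofAdd (translate g φ.toAdd) ∈ fpfModule G k p := by
  intro j y u h1 h2
  have h3 : (g⁻¹ * u * g) ^ p = 1 := by
    rw [show g⁻¹ * u * g = g⁻¹ * u * (g⁻¹)⁻¹ by rw [inv_inv], conj_pow, h1, mul_one, mul_inv_cancel]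
  have h4 : g⁻¹ * u * g ≠ 1 := by
    intro h
    apply h2
    have := congrArg (fun z => g * z * g⁻¹) h
    simpa [mul_assoc] using this
  rw [← hφ j (y * g) _ h3 h4]
  refine Finset.sum_congr rfl fun i _ => ?_
  show φ.toAdd j (y * u ^ i * g) = _
  congr 1
  rw [show g⁻¹ * u * g = g⁻¹ * u * (g⁻¹)⁻¹ by rw [inv_inv], conj_pow, inv_inv]
  group

variable (G k p)

/-- The action by right translation. -/
def act : G →* MulAut (fpfModule G k p) where
  toFun g :=
    { toFun := fun φ => ⟨Multiplicative.ofAdd (translate g φ.1.toAdd), translate_mem g φ.2⟩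
      invFun := fun φ => ⟨Multiplicative.ofAdd (translate g⁻¹ φ.1.toAdd), translate_mem g⁻¹ φ.2⟩
      left_inv := fun φ => by
        apply Subtype.ext; apply Multiplicative.toAdd.injective; funext j y
        simp [translate, mul_assoc]
      right_inv := fun φ => by
        apply Subtype.ext; apply Multiplicative.toAdd.injective; funext j y
        simp [translate, mul_assoc]
      map_mul' := fun φ ψ => rfl }
  map_one' := by
    ext φ : 2
    apply Multiplicative.toAdd.injective; funext j y
    show φ.1.toAdd j (y * 1) = φ.1.toAdd j y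
    rw [mul_one]
  map_mul' g h := by
    ext φ : 2
    apply Multiplicative.toAdd.injective; funext j y
    show φ.1.toAdd j (y * (g * h)) = φ.1.toAdd j (y * g * h)
    rw [mul_assoc]

/-- The extension. -/
abbrev Ext : Type := SemidirectProduct (fpfModule G k p) G (act G k p)

variable {G k p}

lemma pow_left_apply (x : Ext G k p) (n : ℕ) (j : Fin k) (y : G) :
    (x ^ n).left.1.toAdd j y = ∑ i ∈ range n, x.left.1.toAdd j (y * x.right ^ i) := by
  induction n generalizing y with
  | zero => simp
  | succ n ih =>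
    rw [pow_succ, Finset.sum_range_succ, SemidirectProduct.mul_left, Subgroup.coe_mul, toAdd_mul,
      ← SemidirectProduct.rightHom_eq_right, map_pow]
    show (x ^ n).left.1.toAdd j y + x.left.1.toAdd j (y * x.right ^ n) = _
    rw [ih]
    rfl

lemma pow_right (x : Ext G k p) (n : ℕ) : (x ^ n).right = x.right ^ n :=
  map_pow SemidirectProduct.rightHom x n

lemma mul_self_fpf (v : fpfModule G k p) : v * v = 1 := by
  apply Subtype.ext; apply Multiplicative.toAdd.injective; funext j y
  show v.1.toAdd j y + v.1.toAdd j y = 0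
  exact CharTwo.add_self_eq_zero _

lemma pow_two_mul (x : Ext G k p) {n : ℕ} (h : x.right ^ n = 1) : x ^ (2 * n) = 1 := by
  have h1 : x ^ n = SemidirectProduct.inl (x ^ n).left := by
    apply SemidirectProduct.ext
    · simp
    · simp [pow_right, h]
  rw [mul_comm, pow_mul, h1, ← map_pow, sq, mul_self_fpf, map_one]

lemma pow_p (x : Ext G k p) (h : x.right ^ p = 1) (h1 : x.right ≠ 1) : x ^ p = 1 := by
  apply SemidirectProduct.ext
  · apply Subtype.ext; apply Multiplicative.toAdd.injective; funext j y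
    rw [pow_left_apply]
    exact x.left.2 j y _ h h1
  · simpa [pow_right] using h

lemma exists_orderOf_two_mul (v : fpfModule G k p) (c : G) {n : ℕ} (hn : 0 < n) (hc : orderOf c = n)
    (j : Fin k) (y : G) (hv : ∑ i ∈ range n, v.1.toAdd j (y * c ^ i) ≠ 0) :
    orderOf (⟨v, c⟩ : Ext G k p) = 2 * n := by
  set x : Ext G k p := ⟨v, c⟩
  have h2 : x ^ (2 * n) = 1 := pow_two_mul x (by show c ^ n = 1; rw [← hc, pow_orderOf_eq_one])
  have hd : n ∣ orderOf x := hc ▸ orderOf_map_dvd SemidirectProduct.rightHom x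
  obtain ⟨l, hl⟩ := hd
  have hl2 : l ∣ 2 := by
    have := orderOf_dvd_of_pow_eq_one h2
    rw [hl, mul_comm 2 n] at this
    exact Nat.dvd_of_mul_dvd_mul_left hn this
  rcases (Nat.dvd_prime Nat.prime_two).1 hl2 with rfl | rfl
  · exfalso
    apply hv
    have h3 : x ^ n = 1 := by
      rw [show n = orderOf x by rw [hl, mul_one], pow_orderOf_eq_one]
    have := pow_left_apply x n j y
    rw [h3] at this
    exact this.symm
  · rw [hl, mul_comm]

end Abstract

section PSL

variable (p : ℕ) [Fact p.Prime]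

/-- `PSL(2,p)`. -/
abbrev P : Type := ProjectiveSpecialLinearGroup (Fin 2) (ZMod p)

/-- The projection. -/
abbrev proj : SL(2, ZMod p) →* P p := QuotientGroup.mk' _

variable {p}

open PSL2Elements

lemma two_ne_zero' (h5 : 5 ≤ p) : (2 : ZMod p) ≠ 0 := by
  intro h
  have h' : ((2 : ℕ) : ZMod p) = 0 := by exact_mod_cast h
  have := Nat.le_of_dvd (by norm_num) ((ZMod.natCast_eq_zero_iff 2 p).1 h')
  omega

lemma proj_eq_one_iff (A : SL(2, ZMod p)) : proj p A = 1 ↔ A = 1 ∨ A = -1 := by
  rw [QuotientGroup.mk'_apply, QuotientGroup.eq_one_iff, mem_center_iff]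

lemma proj_eq_iff (A B : SL(2, ZMod p)) : proj p A = proj p B ↔ A = B ∨ A = -B := by
  have : proj p A = proj p B ↔ proj p (A * B⁻¹) = 1 := by
    rw [map_mul, map_inv, mul_inv_eq_one]
  rw [this, proj_eq_one_iff, mul_inv_eq_one, mul_inv_eq_iff_eq_mul, neg_one_mul]

lemma orderOf_proj (h5 : 5 ≤ p) (C : SL(2, ZMod p)) {n : ℕ} (hn : 0 < n) (hC : orderOf C = 2 * n) :
    orderOf (proj p C) = n := by
  have key : ∀ j, proj p C ^ j = 1 ↔ n ∣ j := by
    intro j
    rw [← map_pow, proj_eq_one_iff]
    constructor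
    · intro h
      have : C ^ (2 * j) = 1 := by
        rw [mul_comm, pow_mul]
        rcases h with h | h <;> rw [h] <;> simp
      have := orderOf_dvd_of_pow_eq_one this
      rw [hC] at this
      exact Nat.dvd_of_mul_dvd_mul_left (by norm_num) this
    · rintro ⟨l, rfl⟩
      apply eq_one_or_neg_one_of_sq_eq_one (two_ne_zero' h5)
      rw [← pow_mul, show n * l * 2 = (2 * n) * l by ring, pow_mul, ← hC, pow_orderOf_eq_one, one_pow]
  exact Nat.dvd_antisymm (orderOf_dvd_of_pow_eq_one ((key n).2 dvd_rfl)) ((key _).1 (pow_orderOf_eq_one _))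

lemma pow_cases (h5 : 5 ≤ p) {m : ℕ} (hm : p = 2 * m + 1) (g : P p) :
    g ^ p = 1 ∨ g ^ m = 1 ∨ g ^ (m + 1) = 1 := by
  obtain ⟨A, rfl⟩ := QuotientGroup.mk'_surjective _ g
  have h2 := two_ne_zero' h5
  rcases pow_trichotomy p A with ⟨-, h⟩ | ⟨-, h⟩ | h | h
  · exact Or.inl (by rw [← map_pow, h, map_one])
  · refine Or.inl ?_
    have : proj p A = proj p (-A) := (proj_eq_iff _ _).2 (Or.inr (neg_neg A).symm)
    rw [show (QuotientGroup.mk' _ : SL(2, ZMod p) →* P p) A = proj p A from rfl, this, ← map_pow, h, map_one]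
  · refine Or.inr (Or.inl ?_)
    rw [← map_pow]
    refine (proj_eq_one_iff _).2 (eq_one_or_neg_one_of_sq_eq_one h2 ?_)
    rw [← pow_mul, show m * 2 = Nat.card (ZMod p) - 1 by rw [Nat.card_zmod]; omega, h]
  · refine Or.inr (Or.inr ?_)
    rw [← map_pow]
    refine (proj_eq_one_iff _).2 (eq_one_or_neg_one_of_sq_eq_one h2 ?_)
    rw [← pow_mul, show (m + 1) * 2 = Nat.card (ZMod p) + 1 by rw [Nat.card_zmod]; omega, h]

lemma exists_elliptic (h5 : 5 ≤ p) : ∃ t : ZMod p, (∀ r : ZMod p, r ^ 2 - t * r + 1 ≠ 0) ∧ t ≠ 0 ∧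
    orderOf (comp t) = p + 1 := by
  obtain ⟨A, hA⟩ := exists_nonsplit (F := ZMod p)
  obtain ⟨hcyc, hcard⟩ := centralizer_nonsplit hA
  obtain ⟨⟨C, hCm⟩, hC⟩ := hcyc.exists_ofOrder_eq_natCard
  rw [hcard, Nat.card_zmod, Subgroup.orderOf_mk] at hC
  have hns : ∀ r : ZMod p, r ^ 2 - tr C * r + 1 ≠ 0 := by
    rcases trichotomy C with ⟨x, hx⟩ | ⟨a, -, hx⟩ | h
    · exfalso
      have hp' : C ^ (2 * p) = 1 := by
        rcases hx with hx | hx
        · have := pow_char p ((tr_eq_of_isConj hx).trans (tr_u x))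
          rw [mul_comm, pow_mul, this, one_pow]
        · have := pow_char p (A := -C) (by rw [tr_neg, tr_eq_of_isConj hx, tr_neg, tr_u, neg_neg])
          rw [pow_mul, ← neg_sq, ← pow_mul, mul_comm, pow_mul, this, one_pow]
      have hd := orderOf_dvd_of_pow_eq_one hp'
      rw [hC] at hd
      have hcop : Nat.Coprime (p + 1) p := by simp
      have := Nat.le_of_dvd (by norm_num) (hcop.dvd_of_dvd_mul_right hd)
      omega
    · exfalso
      obtain ⟨g, hg⟩ := isConj_iff.1 hx.symm
      have h1 : C ^ (p - 1) = 1 := by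
        have hh := pow_card_sub_one_d a
        rw [Nat.card_zmod] at hh
        rw [← hg, conj_pow, hh, mul_one, mul_inv_cancel]
      have := Nat.le_of_dvd (by omega) (hC ▸ orderOf_dvd_of_pow_eq_one h1)
      omega
    · exact h
  have h4 : tr C ^ 2 ≠ 4 := by
    intro h
    refine hns (tr C / 2) ?_
    have h2 := two_ne_zero' h5
    field_simp
    linear_combination -h
  refine ⟨tr C, hns, ?_, ?_⟩
  · intro h0
    have := (sq_eq_neg_one_iff C (two_ne_zero' h5)).2 h0
    have h4' : C ^ 4 = 1 := by rw [show 4 = 2 * 2 from rfl, pow_mul, this, neg_one_sq]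
    have := Nat.le_of_dvd (by norm_num) (hC ▸ orderOf_dvd_of_pow_eq_one h4')
    omega
  · rw [← hC]
    obtain ⟨g, hg⟩ := isConj_iff.1 (isConj_comp h4)
    rw [← hg]
    exact (MulAut.conj g).orderOf_eq C

open Classical in
/-- Indicator of the classes with trace `± t`. -/
noncomputable def ind (t : ZMod p) (g : P p) : ZMod 2 :=
  if ∃ A, proj p A = g ∧ tr A = t then 1 else 0

lemma ind_proj (t : ZMod p) (A : SL(2, ZMod p)) :
    ind t (proj p A) = if tr A = t ∨ tr A = -t then 1 else 0 := by
  unfold ind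
  congr 1
  simp only [eq_iff_iff]
  constructor
  · rintro ⟨B, hB, ht⟩
    rcases (proj_eq_iff _ _).1 hB with rfl | rfl
    · exact Or.inl ht
    · right; rw [tr_neg] at ht; rw [← ht, neg_neg]
  · rintro (h | h)
    · exact ⟨A, rfl, h⟩
    · exact ⟨-A, (proj_eq_iff _ _).2 (Or.inr rfl), by rw [tr_neg, h, neg_neg]⟩

lemma sum_ind_eq_zero (h5 : 5 ≤ p) {t : ZMod p} (ht : ∀ r : ZMod p, r ^ 2 - t * r + 1 ≠ 0) (ht0 : t ≠ 0)
    (y u : P p) (hu : u ^ p = 1) (hu1 : u ≠ 1) :
    ∑ i ∈ range p, ind t (y * u ^ i) = 0 := by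
  obtain ⟨U, rfl⟩ := QuotientGroup.mk'_surjective _ u
  obtain ⟨X, rfl⟩ := QuotientGroup.mk'_surjective _ y
  obtain ⟨s, g, hs⟩ : ∃ s, ∃ g, proj p U = proj p (g * PSL2Elements.u s * g⁻¹) := by
    rcases trichotomy U with ⟨s, hx | hx⟩ | ⟨a, -, hx⟩ | h
    · obtain ⟨g, hg⟩ := isConj_iff.1 hx.symm
      exact ⟨s, g, by rw [hg]⟩
    · obtain ⟨g, hg⟩ := isConj_iff.1 hx.symm
      exact ⟨s, g, (proj_eq_iff _ _).2 (Or.inr (by rw [← hg]; simp))⟩
    · exfalso
      obtain ⟨g, hg⟩ := isConj_iff.1 hx.symm
      have h1 : U ^ (p - 1) = 1 := by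
        have hh := pow_card_sub_one_d a
        rw [Nat.card_zmod] at hh
        rw [← hg, conj_pow, hh, mul_one, mul_inv_cancel]
      have h2 : proj p U ^ (p - 1) = 1 := by rw [← map_pow, h1, map_one]
      apply hu1
      have := pow_sub_mul_pow (proj p U) (m := p - 1) (n := p) (by omega)
      rw [h2, hu, mul_one, show p - (p - 1) = 1 by omega, pow_one] at this
      exact this
    · exfalso
      obtain ⟨-, hcard⟩ := centralizer_nonsplit h
      have := orderOf_dvd_natCard
        (⟨U, Subgroup.mem_centralizer_singleton_iff.2 rfl⟩ : Subgroup.centralizer ({U} : Set SL(2, ZMod p)))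
      rw [hcard, Subgroup.orderOf_mk, Nat.card_zmod, orderOf_dvd_iff_pow_eq_one] at this
      apply hu1
      have h2 : proj p U ^ (p + 1) = 1 := by rw [← map_pow, this, map_one]
      rwa [pow_succ, hu, one_mul] at h2
  have hs0 : s ≠ 0 := by
    rintro rfl
    apply hu1
    show proj p U = 1
    rw [hs, u_zero, mul_one, mul_inv_cancel, map_one]
  set Y := g⁻¹ * X * g with hY
  have hterm : ∀ i : ℕ, ind t (proj p X * proj p U ^ i) =
      if tr Y + (i : ZMod p) * s * Y.1 1 0 = t ∨ tr Y + (i : ZMod p) * s * Y.1 1 0 = -t then 1 else 0 := by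
    intro i
    have hpow : ∀ i : ℕ, PSL2Elements.u s ^ i = PSL2Elements.u ((i : ZMod p) * s) := by
      intro i
      induction i with
      | zero => simp [u_zero]
      | succ i ih => rw [pow_succ, ih, u_mul]; congr 1; push_cast; ring
    rw [hs, ← map_pow, conj_pow, hpow, ← map_mul, ind_proj]
    have : tr (X * (g * PSL2Elements.u ((i : ZMod p) * s) * g⁻¹)) = tr Y + (i : ZMod p) * s * Y.1 1 0 := by
      rw [show X * (g * PSL2Elements.u ((i : ZMod p) * s) * g⁻¹) = g * (Y * PSL2Elements.u ((i : ZMod p) * s)) * g⁻¹ by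
        rw [hY]; group, tr_conj]
      simp only [tr, mul_apply2]
      simp [PSL2Elements.u]
      ring
    rw [this]
  rw [show (QuotientGroup.mk' _ : SL(2, ZMod p) →* P p) X = proj p X from rfl,
    show (QuotientGroup.mk' _ : SL(2, ZMod p) →* P p) U = proj p U from rfl]
  simp only [hterm]
  have hrange : ∀ h : ZMod p → ZMod 2, ∑ i ∈ range p, h (i : ZMod p) = ∑ z : ZMod p, h z := by
    intro h
    refine Finset.sum_bij' (fun i _ => (i : ZMod p)) (fun z _ => z.val) ?_ ?_ ?_ ?_ ?_
    · intro i _; exact Finset.mem_univ _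
    · intro z _; exact Finset.mem_range.2 (ZMod.val_lt z)
    · intro i hi; exact ZMod.val_cast_of_lt (Finset.mem_range.1 hi)
    · intro z _; exact ZMod.natCast_zmod_val z
    · intro i _; rfl
  rw [hrange (fun z => if tr Y + z * s * Y.1 1 0 = t ∨ tr Y + z * s * Y.1 1 0 = -t then 1 else 0)]
  by_cases hc : Y.1 1 0 = 0
  · apply Finset.sum_eq_zero
    intro z _
    rw [hc, mul_zero, add_zero, if_neg]
    have hd := det_eq Y
    rw [hc, mul_zero, sub_zero] at hd
    rintro (h | h)
    · exact ht (Y.1 0 0) (by rw [← h, tr]; linear_combination -hd)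
    · exact ht (-(Y.1 0 0)) (by rw [show t = -tr Y by rw [h, neg_neg], tr]; linear_combination -hd)
  · have hne : t ≠ -t := by
      intro h
      have : (2 : ZMod p) * t = 0 := by linear_combination h
      exact ht0 ((mul_eq_zero.1 this).resolve_left (two_ne_zero' h5))
    let e : ZMod p ≃ ZMod p :=
      Equiv.ofBijective (fun z => tr Y + z * s * Y.1 1 0)
        (Finite.injective_iff_bijective.1 (fun a b h => by
          have h' : (a - b) * (s * Y.1 1 0) = 0 := by linear_combination h
          exact sub_eq_zero.1 ((mul_eq_zero.1 h').resolve_right (mul_ne_zero hs0 hc))))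
    refine Eq.trans (e.sum_comp (fun w => if w = t ∨ w = -t then (1 : ZMod 2) else 0)) ?_
    rw [Finset.sum_boole, show (Finset.univ.filter fun w : ZMod p => w = t ∨ w = -t) = {t, -t} by
      ext w; simp, Finset.card_pair hne]
    decide

lemma exists_norm_ne_zero (h5 : 5 ≤ p) {t : ZMod p} (C : SL(2, ZMod p)) {n : ℕ} (hn : 0 < n)
    (hC : orderOf C = 2 * n) (X : SL(2, ZMod p)) (hX : tr X = t)
    (huniq : ∀ i : ℕ, (tr (X * C ^ i) = t ∨ tr (X * C ^ i) = -t) → C ^ i = 1 ∨ C ^ i = -1) :
    ∑ i ∈ range n, ind t (proj p X * proj p C ^ i) ≠ 0 := by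
  rw [Finset.sum_eq_single 0]
  · rw [pow_zero, mul_one, ind_proj, if_pos (Or.inl hX)]
    exact one_ne_zero
  · intro i hi hi0
    rw [← map_pow, ← map_mul, ind_proj, if_neg]
    intro h
    have h1 : proj p C ^ i = 1 := by rw [← map_pow, proj_eq_one_iff]; exact huniq i h
    have := Nat.le_of_dvd (by omega) (orderOf_proj h5 C hn hC ▸ orderOf_dvd_of_pow_eq_one h1)
    rw [Finset.mem_range] at hi
    omega
  · intro h
    exact absurd (Finset.mem_range.2 hn) h

/-- The isospectral extensions. -/
theorem exists_large (h5 : 5 ≤ p) (N : ℕ) :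
    ∃ (H : Type) (_ : Group H) (_ : Fintype H), N < Fintype.card H ∧
      Set.range (orderOf : H → ℕ) = {d | d ∣ p ∨ d ∣ p - 1 ∨ d ∣ p + 1} := by
  have h2 := two_ne_zero' h5
  obtain ⟨m, hm⟩ : ∃ m, p = 2 * m + 1 := by
    rcases (Fact.out : p.Prime).eq_two_or_odd with h | h
    · omega
    · exact ⟨p / 2, by omega⟩
  obtain ⟨t, ht, ht0, hord⟩ := exists_elliptic h5
  have ht4 : t ^ 2 ≠ 4 := by
    intro h
    refine ht (t / 2) ?_
    field_simp
    linear_combination -h
  -- a witness for the split torus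
  obtain ⟨z, hz⟩ := IsCyclic.exists_ofOrder_eq_natCard (α := (ZMod p)ˣ)
  rw [Nat.card_units, Nat.card_zmod] at hz
  have hD : orderOf (d z) = 2 * m := by
    rw [show d z = dHom z from rfl, orderOf_injective _ dHom_injective, hz]; omega
  haveI : NeZero (2 : ZMod p) := ⟨h2⟩
  have htt : t / 2 * 2 = t := div_mul_cancel₀ t h2
  let X₁ : SL(2, ZMod p) := mk2 (t / 2) 1 (t / 2 * (t / 2) - 1) (t / 2) (by ring)
  have hX₁ : tr X₁ = t := by simp [tr, X₁, add_halves]
  have hu₁ : ∀ i : ℕ, (tr (X₁ * d z ^ i) = t ∨ tr (X₁ * d z ^ i) = -t) → d z ^ i = 1 ∨ d z ^ i = -1 := by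
    intro i hi
    have hpow : d z ^ i = d (z ^ i) := (map_pow dHom z i).symm
    rw [hpow] at hi ⊢
    set a := z ^ i
    have htr : tr (X₁ * d a) = t / 2 * ((a : ZMod p) + (a : ZMod p)⁻¹) := by
      simp only [tr, mul_apply2]
      simp only [X₁, d, mk2_coe, Matrix.of_apply, Matrix.cons_val', Matrix.cons_val_zero, Matrix.cons_val_one,
        Matrix.cons_val_fin_one, Matrix.empty_val', Units.val_inv_eq_inv_val]
      ring
    rw [htr] at hi
    have ha : (a : ZMod p) * (a : ZMod p)⁻¹ = 1 := mul_inv_cancel₀ a.ne_zero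
    rcases hi with h | h
    · left
      have h' : ((a : ZMod p) - 1) * ((a : ZMod p) - 1) = 0 := by
        have : (a : ZMod p) + (a : ZMod p)⁻¹ = 2 := by
          apply mul_left_cancel₀ (div_ne_zero ht0 h2)
          rw [h, div_mul_cancel₀ t h2]
        linear_combination (a : ZMod p) * this - ha
      rw [show a = 1 from Units.ext (by simpa using sub_eq_zero.1 (mul_self_eq_zero.1 h')), d_one]
    · right
      have h' : ((a : ZMod p) + 1) * ((a : ZMod p) + 1) = 0 := by
        have : (a : ZMod p) + (a : ZMod p)⁻¹ = -2 := by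
          apply mul_left_cancel₀ (div_ne_zero ht0 h2)
          rw [h, mul_neg, div_mul_cancel₀ t h2]
        linear_combination (a : ZMod p) * this - ha
      rw [show a = -1 from Units.ext (by simpa using eq_neg_of_add_eq_zero_left (mul_self_eq_zero.1 h'))]
      apply ext2 <;> simp [d]
  -- a witness for the non-split torus
  obtain ⟨α, γ, hαγ⟩ := exists_rep (1 : ZMod p) t 1 (t / 2 * (t / 2) - 1)
    (fun h => ht4 (by linear_combination h))
    (fun h => ht4 (by linear_combination 4 * h - (t + t / 2 * 2) * htt))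
  let X₂ : SL(2, ZMod p) := mk2 (α + t / 2) (γ + t * α) γ (t / 2 - α) (by linear_combination -hαγ)
  have hX₂ : tr X₂ = t := by simp [tr, X₂]; linear_combination htt
  have hX₂C : tr (X₂ * comp t) = t ^ 2 / 2 := by
    simp only [tr, mul_apply2]
    simp [X₂, comp]
    ring
  have hu₂ : ∀ i : ℕ, (tr (X₂ * comp t ^ i) = t ∨ tr (X₂ * comp t ^ i) = -t) →
      comp t ^ i = 1 ∨ comp t ^ i = -1 := by
    intro i hi
    have hnc : comp t ∉ Subgroup.center SL(2, ZMod p) := fun hc =>
      ht4 (by simpa using tr_sq_eq_four_of_mem_center hc)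
    obtain ⟨a, b, hab⟩ := exists_eq_of_commute hnc (B := (comp t ^ i).1)
      (congrArg Subtype.val ((Commute.refl (comp t)).pow_left i).eq)
    have hdet : a ^ 2 + t * a * b + b ^ 2 = 1 := by
      have := (comp t ^ i).2
      rw [hab, Matrix.det_fin_two] at this
      simp [comp] at this
      linear_combination this
    have htr : tr (X₂ * comp t ^ i) = a * t + b * (t ^ 2 / 2) := by
      rw [tr_eq, coe_mul', hab, mul_add, Matrix.mul_smul, Matrix.mul_smul, mul_one, Matrix.trace_add,
        Matrix.trace_smul, Matrix.trace_smul, ← coe_mul', ← tr_eq, ← tr_eq, hX₂, hX₂C, smul_eq_mul, smul_eq_mul]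
    rw [htr] at hi
    have hsolve : ∀ e : ZMod p, e * e = 1 → a * t + b * (t ^ 2 / 2) = e * t → a = e ∧ b = 0 := by
      intro e he h
      have ha : a = e - b * t / 2 := by
        apply mul_right_cancel₀ ht0
        linear_combination h
      have hb : b * b * (4 - t ^ 2) = 0 := by
        rw [ha] at hdet
        field_simp at hdet
        linear_combination hdet - 4 * he
      have hb0 : b = 0 :=
        mul_self_eq_zero.1 ((mul_eq_zero.1 hb).resolve_right (sub_ne_zero.2 (Ne.symm ht4)))
      exact ⟨by rw [ha, hb0]; ring, hb0⟩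
    rcases hi with h | h
    · obtain ⟨rfl, rfl⟩ := hsolve 1 (one_mul 1) (by rw [h, one_mul])
      exact Or.inl (Subtype.ext (by simpa using hab))
    · obtain ⟨rfl, rfl⟩ := hsolve (-1) (by norm_num) (by rw [h, neg_one_mul])
      exact Or.inr (Subtype.ext (by simpa using hab))
  -- the group
  haveI : Finite (P p) := Quotient.finite _
  let k := N + 1
  let v : fpfModule (P p) k p := ⟨Multiplicative.ofAdd (fun _ => ind t), fun _ y u h1 h2' =>
    sum_ind_eq_zero h5 ht ht0 y u h1 h2'⟩
  haveI : Finite (Ext (P p) k p) := Finite.of_equiv _ SemidirectProduct.equivProd.symm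
  letI : Fintype (Ext (P p) k p) := Fintype.ofFinite _
  refine ⟨Ext (P p) k p, inferInstance, inferInstance, ?_, ?_⟩
  · let f : (Fin k → ZMod 2) → Ext (P p) k p := fun a => SemidirectProduct.inl
      ⟨Multiplicative.ofAdd (fun j y => a j * ind t y), fun j y u h1 h2' => by
        simp [← Finset.mul_sum, sum_ind_eq_zero h5 ht ht0 y u h1 h2']⟩
    have hf : Function.Injective f := by
      intro a b hab
      funext j
      have := congrArg (fun w : Ext (P p) k p => w.left.1.toAdd j (proj p X₁)) hab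
      have hi : ind t (proj p X₁) = 1 := by rw [ind_proj, if_pos (Or.inl hX₁)]
      simp only [f, SemidirectProduct.left_inl, toAdd_ofAdd] at this
      rw [hi, mul_one, mul_one] at this
      exact this
    have := Fintype.card_le_of_injective f hf
    rw [Fintype.card_fun, ZMod.card, Fintype.card_fin] at this
    have := Nat.lt_two_pow_self (n := k)
    omega
  · ext d'
    constructor
    · rintro ⟨x, rfl⟩
      by_cases h1 : x.right = 1
      · right; left
        refine (orderOf_dvd_of_pow_eq_one (pow_two_mul x (n := 1) (by rw [h1, one_pow]))).trans ?_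
        omega
      rcases pow_cases h5 hm x.right with h | h | h
      · exact Or.inl (orderOf_dvd_of_pow_eq_one (pow_p x h h1))
      · right; left
        rw [show p - 1 = 2 * m by omega]
        exact orderOf_dvd_of_pow_eq_one (pow_two_mul x h)
      · right; right
        rw [show p + 1 = 2 * (m + 1) by omega]
        exact orderOf_dvd_of_pow_eq_one (pow_two_mul x h)
    · have hpow : ∀ (x : Ext (P p) k p) (n : ℕ), orderOf x = n → n ≠ 0 → d' ∣ n →
          d' ∈ Set.range (orderOf : Ext (P p) k p → ℕ) := fun x n hx hn hd =>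
        ⟨x ^ (orderOf x / d'), orderOf_pow_orderOf_div (hx ▸ hn) (hx ▸ hd)⟩
      let j0 : Fin k := ⟨0, by omega⟩
      rintro (h | h | h)
      · refine hpow (SemidirectProduct.inr (proj p (PSL2Elements.u 1))) p ?_ (by omega) h
        rw [orderOf_injective _ SemidirectProduct.inr_injective]
        refine orderOf_eq_prime ?_ ?_
        · rw [← map_pow, pow_char p (tr_u (1 : ZMod p)), map_one]
        · rw [Ne, proj_eq_one_iff]
          rintro (h | h) <;>
            simpa [PSL2Elements.u] using congrArg (fun A : SL(2, ZMod p) => A.1 0 1) h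
      · refine hpow ⟨v, proj p (d z)⟩ (p - 1) ?_ (by omega) h
        rw [show p - 1 = 2 * m by omega]
        exact exists_orderOf_two_mul v (proj p (d z)) (by omega) (orderOf_proj h5 _ (by omega) hD) j0
          (proj p X₁) (exists_norm_ne_zero h5 _ (by omega) hD X₁ hX₁ hu₁)
      · refine hpow ⟨v, proj p (comp t)⟩ (p + 1) ?_ (by omega) h
        rw [show p + 1 = 2 * (m + 1) by omega]
        exact exists_orderOf_two_mul v (proj p (comp t)) (by omega)
          (orderOf_proj h5 _ (by omega) (by rw [hord]; omega)) j0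
          (proj p X₂) (exists_norm_ne_zero h5 _ (by omega) (by rw [hord]; omega) X₂ hX₂ hu₂)

end PSL

end Cfsg.Agent.IsospectralPSL2
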