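import Mathlib

set_option autoImplicit false

/-!
Semidirect products `V^k ⋊ W` for a linear group `W` on `V`: element orders by geometric sums.
-/

namespace Cfsg.Agent.LinearExtension

open Matrix Finset

variable {ι K : Type} [Fintype ι] [DecidableEq ι] [Field K] (k : ℕ) (W : Subgroup (Matrix ι ι K)ˣ)

/-- The diagonal action on `k` copies of the natural module. -/
def act : W →* MulAut (Multiplicative (Fin k → ι → K)) where
  toFun g :=
    { toFun := fun v => Multiplicative.ofAdd fun j => ((g : (Matrix ι ι K)ˣ) : Matrix ι ι K) *ᵥ v.toAdd j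
      invFun := fun v => Multiplicative.ofAdd fun j =>
        ((g⁻¹ : W) : (Matrix ι ι K)ˣ).val *ᵥ v.toAdd j
      left_inv := fun v => by
        apply Multiplicative.toAdd.injective; funext j
        simp [Matrix.mulVec_mulVec]
      right_inv := fun v => by
        apply Multiplicative.toAdd.injective; funext j
        simp [Matrix.mulVec_mulVec]
      map_mul' := fun v w => by
        apply Multiplicative.toAdd.injective; funext j
        simp [Matrix.mulVec_add] }
  map_one' := by
    ext v : 1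
    apply Multiplicative.toAdd.injective; funext j
    simp
  map_mul' g h := by
    ext v : 1
    apply Multiplicative.toAdd.injective; funext j
    simp [Matrix.mulVec_mulVec]

/-- The extension. -/
abbrev Ext : Type := SemidirectProduct (Multiplicative (Fin k → ι → K)) W (act k W)

variable {k W}

/-- The matrix of the image in `W`. -/
abbrev mat (x : Ext k W) : Matrix ι ι K := ((x.right : (Matrix ι ι K)ˣ) : Matrix ι ι K)

lemma pow_right (x : Ext k W) (n : ℕ) : (x ^ n).right = x.right ^ n :=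
  map_pow SemidirectProduct.rightHom x n

lemma pow_left_apply (x : Ext k W) (n : ℕ) (j : Fin k) :
    (x ^ n).left.toAdd j = (∑ i ∈ range n, mat x ^ i) *ᵥ x.left.toAdd j := by
  induction n with
  | zero => simp
  | succ n ih =>
    rw [pow_succ, Finset.sum_range_succ, SemidirectProduct.mul_left, toAdd_mul, Pi.add_apply, ih,
      Matrix.add_mulVec, pow_right]
    simp [act, mat]

lemma pow_eq_one (x : Ext k W) {m : ℕ} (h1 : mat x ^ m = 1) (h2 : ∑ i ∈ range m, mat x ^ i = 0) : x ^ m = 1 := by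
  apply SemidirectProduct.ext
  · apply Multiplicative.toAdd.injective; funext j
    rw [pow_left_apply, h2]
    simp
  · rw [pow_right]
    apply Subtype.ext; apply Units.ext
    simpa using h1

lemma pow_eq_one_of_det (x : Ext k W) {m : ℕ} (h1 : mat x ^ m = 1) (h2 : (mat x - 1).det ≠ 0) : x ^ m = 1 := by
  refine pow_eq_one x h1 ?_
  have h := mul_geom_sum (mat x) m
  rw [h1, sub_self] at h
  calc ∑ i ∈ range m, mat x ^ i
      = (mat x - 1)⁻¹ * ((mat x - 1) * ∑ i ∈ range m, mat x ^ i) := by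
        rw [← mul_assoc, Matrix.nonsing_inv_mul _ (isUnit_iff_ne_zero.2 h2), one_mul]
    _ = 0 := by rw [h, mul_zero]

lemma geom_sum_mul_period (M : Matrix ι ι K) {n : ℕ} (h : M ^ n = 1) (a : ℕ) :
    ∑ i ∈ range (a * n), M ^ i = a • ∑ i ∈ range n, M ^ i := by
  induction a with
  | zero => simp
  | succ a ih =>
    rw [add_mul, one_mul, Finset.sum_range_add, ih, succ_nsmul]
    congr 1
    refine Finset.sum_congr rfl fun i _ => ?_
    rw [pow_add, mul_comm a n, pow_mul, h, one_pow, one_mul]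

lemma pow_mul_char (p : ℕ) [CharP K p] (x : Ext k W) {n : ℕ} (h : mat x ^ n = 1) : x ^ (p * n) = 1 := by
  refine pow_eq_one x (by rw [mul_comm, pow_mul, h, one_pow]) ?_
  rw [geom_sum_mul_period _ h, ← Nat.cast_smul_eq_nsmul K, CharP.cast_eq_zero, zero_smul]

lemma geom_sum_eq_sub_one_pow (p : ℕ) [Fact p.Prime] [CharP K p] (M : Matrix ι ι K) :
    ∑ i ∈ range p, M ^ i = (M - 1) ^ (p - 1) := by
  have hp := (Fact.out : p.Prime)
  have h : (Polynomial.X - 1) * (∑ i ∈ range p, (Polynomial.X : Polynomial K) ^ i) =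
      (Polynomial.X - 1) * (Polynomial.X - 1) ^ (p - 1) := by
    rw [mul_geom_sum, ← pow_succ', Nat.sub_add_cancel hp.one_le, sub_pow_char, one_pow]
  have h2 := congrArg (Polynomial.aeval M)
    (mul_left_cancel₀ (by simpa using Polynomial.X_sub_C_ne_zero (1 : K)) h)
  simpa using h2

lemma exists_orderOf_right (w : W) : ∃ x : Ext k W, orderOf x = orderOf w :=
  ⟨SemidirectProduct.inr w, orderOf_injective _ SemidirectProduct.inr_injective w⟩

lemma orderOf_eq_mat (w : W) : orderOf w = orderOf ((w : (Matrix ι ι K)ˣ) : Matrix ι ι K) := by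
  rw [orderOf_units, Subgroup.orderOf_coe]

lemma exists_orderOf_mul (p : ℕ) [Fact p.Prime] [CharP K p] (hk : 0 < k) (w : W) {n : ℕ} (hn : 0 < n)
    (hw : orderOf ((w : (Matrix ι ι K)ˣ) : Matrix ι ι K) = n) (v : ι → K)
    (hv : (∑ i ∈ range n, ((w : (Matrix ι ι K)ˣ) : Matrix ι ι K) ^ i) *ᵥ v ≠ 0) :
    ∃ x : Ext k W, orderOf x = p * n := by
  refine ⟨⟨Multiplicative.ofAdd fun _ => v, w⟩, ?_⟩
  set x : Ext k W := ⟨Multiplicative.ofAdd fun _ => v, w⟩
  have h2 : x ^ (p * n) = 1 := pow_mul_char p x (by show _ ^ n = 1; rw [← hw, pow_orderOf_eq_one])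
  have hd : n ∣ orderOf x := by
    rw [← hw, ← orderOf_eq_mat]; exact orderOf_map_dvd SemidirectProduct.rightHom x
  obtain ⟨l, hl⟩ := hd
  have hl2 : l ∣ p := by
    have := orderOf_dvd_of_pow_eq_one h2
    rw [hl, mul_comm p n] at this
    exact Nat.dvd_of_mul_dvd_mul_left hn this
  rcases (Nat.dvd_prime Fact.out).1 hl2 with rfl | rfl
  · exfalso
    apply hv
    have h3 : x ^ n = 1 := by
      rw [show n = orderOf x by rw [hl, mul_one], pow_orderOf_eq_one]
    have := pow_left_apply x n ⟨0, hk⟩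
    rw [h3] at this
    exact this.symm
  · rw [hl, mul_comm]

lemma exists_orderOf_fixed (p : ℕ) [Fact p.Prime] [CharP K p] (hk : 0 < k) (w : W) {n : ℕ} (hn : 0 < n)
    (hw : orderOf ((w : (Matrix ι ι K)ˣ) : Matrix ι ι K) = n) (hc : (n : K) ≠ 0) (v : ι → K) (hv : v ≠ 0)
    (hfix : ((w : (Matrix ι ι K)ˣ) : Matrix ι ι K) *ᵥ v = v) :
    ∃ x : Ext k W, orderOf x = p * n := by
  refine exists_orderOf_mul p hk w hn hw v ?_
  have : ∀ i : ℕ, ((w : (Matrix ι ι K)ˣ) : Matrix ι ι K) ^ i *ᵥ v = v := by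
    intro i
    induction i with
    | zero => simp
    | succ i ih => rw [pow_succ, ← Matrix.mulVec_mulVec, hfix, ih]
  rw [Matrix.sum_mulVec, Finset.sum_congr rfl (fun i _ => this i), Finset.sum_const, card_range,
    ← Nat.cast_smul_eq_nsmul K]
  exact smul_ne_zero hc hv

variable [Fintype K] [Nonempty ι]

variable (W) in
/-- Packaging: a spectrum given by generators, realised in unbounded order. -/
theorem exists_large (S : Finset ℕ) (N : ℕ)
    (upper : ∀ x : Ext (N + 1) W, ∃ m ∈ S, x ^ m = 1)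
    (lower : ∀ m ∈ S, ∃ x : Ext (N + 1) W, m ∣ orderOf x) :
    ∃ (H : Type) (_ : Group H) (_ : Fintype H), N < Fintype.card H ∧
      ∀ d, (∃ x : H, orderOf x = d) ↔ ∃ m ∈ S, d ∣ m := by
  classical
  let H := Ext (N + 1) W
  haveI : Finite H := Finite.of_equiv _ SemidirectProduct.equivProd.symm
  letI : Fintype H := Fintype.ofFinite H
  refine ⟨H, inferInstance, inferInstance, ?_, fun d => ⟨?_, ?_⟩⟩
  · rw [← Nat.card_eq_fintype_card]
    refine lt_of_lt_of_le ?_ (Nat.card_le_card_of_injective (SemidirectProduct.inl : _ →* H)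
      SemidirectProduct.inl_injective)
    rw [Nat.card_congr Multiplicative.toAdd, Nat.card_eq_fintype_card, Fintype.card_fun, Fintype.card_fin]
    exact lt_of_lt_of_le (Nat.lt_succ_self N)
      ((Nat.lt_two_pow_self).le.trans (Nat.pow_le_pow_left Fintype.one_lt_card _))
  · rintro ⟨x, rfl⟩
    obtain ⟨m, hm, h⟩ := upper x
    exact ⟨m, hm, orderOf_dvd_of_pow_eq_one h⟩
  · rintro ⟨m, hm, hd⟩
    obtain ⟨x, hx⟩ := lower m hm
    exact ⟨_, orderOf_pow_orderOf_div (orderOf_pos x).ne' (hd.trans hx)⟩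

end Cfsg.Agent.LinearExtension
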