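import Mathlib
import Cfsg.Prelude.Def_Classical
import Cfsg.Agent.Lib.SymplecticBasic
import Cfsg.Agent.Lib.SymplecticSimple
import Cfsg.Agent.Lib.PSL2Elements

set_option autoImplicit false

/-!
The element orders of `PSp(4,q)`: the divisors of `(q²±1)/g`, `p(q±1)` and of `4` (`p = 2`) or `9` (`p = 3`).
-/

namespace Cfsg.Agent.PSp4Orders

open Matrix hiding comp
open Polynomial

variable {F : Type*} [Field F]

local notation "M4" => Matrix (Fin 2 ⊕ Fin 2) (Fin 2 ⊕ Fin 2) F
local notation "Sp4" => Matrix.symplecticGroup (Fin 2) F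

/-- The factor `(2, q-1)`, by the characteristic. -/
def gfac (p : ℕ) : ℕ := if p = 2 then 1 else 2

/-- The exceptional unipotent exponent. -/
def extra (p : ℕ) : ℕ := if p = 2 then 4 else if p = 3 then 9 else p

/-- The maximal orders. -/
def exps (p q : ℕ) : Finset ℕ :=
  {(q ^ 2 + 1) / gfac p, (q ^ 2 - 1) / gfac p, p * (q + 1), p * (q - 1), extra p}

lemma mk_eq_one_iff (g : Sp4) :
    (QuotientGroup.mk g : Cfsg.PSp 2 F) = 1 ↔ ∃ a : F, (g : M4) = a • (1 : M4) := by
  rw [QuotientGroup.eq_one_iff]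
  constructor
  · intro h
    obtain ⟨a, -, ha⟩ := (SymplecticSimple.mem_center_iff (by norm_num : 1 ≤ 2)).1 h
    refine ⟨a, ?_⟩
    ext i j
    have := congrFun (ha (Pi.single j 1)) i
    simp only [SymplecticBasic.smul_def, Matrix.mulVec_single, Pi.smul_apply, op_smul_eq_smul, Matrix.col_apply,
      smul_eq_mul, one_mul] at this
    rw [this, Matrix.smul_apply, Matrix.one_apply, Pi.single_apply]
    simp
  · rintro ⟨a, ha⟩
    refine SymplecticSimple.mem_center_of_scalar (a := a) fun v => ?_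
    rw [SymplecticBasic.smul_def, ha, Matrix.smul_mulVec, Matrix.one_mulVec]

lemma mk_pow_eq_one_iff (g : Sp4) (n : ℕ) :
    (QuotientGroup.mk g : Cfsg.PSp 2 F) ^ n = 1 ↔ ∃ a : F, (g : M4) ^ n = a • (1 : M4) := by
  rw [← QuotientGroup.mk_pow, mk_eq_one_iff, SubmonoidClass.coe_pow]

lemma orderOf_eq_of_iff {G : Type*} [Monoid G] {x : G} {k : ℕ} (h : ∀ n, x ^ n = 1 ↔ k ∣ n) : orderOf x = k :=
  Nat.dvd_antisymm (orderOf_dvd_of_pow_eq_one ((h k).2 dvd_rfl)) ((h _).1 (pow_orderOf_eq_one x))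

/-! ### Upper bound -/

lemma charpoly_form (g : Sp4) :
    ∃ a b : F, (g : M4).charpoly = X ^ 4 - C a * X ^ 3 + C b * X ^ 2 - C a * X + 1 := by
  set A : M4 := (g : M4) with hA
  have hdet : A.det = 1 := SymplecticGroup.det_eq_one g.2
  have hu : IsUnit A := (Matrix.isUnit_iff_isUnit_det A).2 (by rw [hdet]; exact isUnit_one)
  have hinv : A⁻¹.charpoly = A.charpoly := by
    rw [← SymplecticGroup.coe_inv', SymplecticGroup.coe_inv, ← hA, mul_assoc, Matrix.charpoly_mul_comm,
      mul_assoc, mul_neg, Matrix.J_squared, neg_neg, mul_one, Matrix.charpoly_transpose]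
  have hrev : A.charpoly.reverse = A.charpoly := by
    rw [Matrix.reverse_charpoly]
    have h := Matrix.charpoly_inv A hu
    rw [hinv, hdet, Ring.inverse_one, map_one, mul_one] at h
    conv_rhs => rw [h]
    rw [show Fintype.card (Fin 2 ⊕ Fin 2) = 4 by simp]
    norm_num
  have hdeg : A.charpoly.natDegree = 4 := by
    rw [Matrix.charpoly_natDegree_eq_dim]; simp
  have h4 : A.charpoly.coeff 4 = 1 := by
    rw [← hdeg]; exact (Matrix.charpoly_monic A).coeff_natDegree
  have hsym : ∀ i ≤ 4, A.charpoly.coeff i = A.charpoly.coeff (4 - i) := by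
    intro i hi
    conv_lhs => rw [← hrev]
    rw [Polynomial.coeff_reverse, hdeg, Polynomial.revAt_le hi]
  refine ⟨-(A.charpoly.coeff 3), A.charpoly.coeff 2, ?_⟩
  conv_lhs => rw [A.charpoly.as_sum_range' 5 (by omega)]
  simp only [Finset.sum_range_succ, Finset.sum_range_zero, ← C_mul_X_pow_eq_monomial]
  rw [hsym 0 (by norm_num), hsym 1 (by norm_num)]
  norm_num [h4]
  ring

/-- If all roots have the same `k`-th power and small multiplicity, a power is scalar. -/
lemma pow_scalar {L : Type*} [Field L] [DecidableEq L] (p : ℕ) [Fact p.Prime] [CharP L p]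
    (A : Matrix (Fin 2 ⊕ Fin 2) (Fin 2 ⊕ Fin 2) L) (R : Multiset L) (hA : A.charpoly = (R.map fun r => X - C r).prod)
    (k e : ℕ) (hk : 0 < k) (c : L) (h1 : ∀ r ∈ R, r ^ k = c) (h2 : ∀ r, R.count r ≤ p ^ e) :
    A ^ (p ^ e * k) = c ^ (p ^ e) • (1 : Matrix (Fin 2 ⊕ Fin 2) (Fin 2 ⊕ Fin 2) L) := by
  have hP0 : (X ^ k - C c : L[X]) ≠ 0 := X_pow_sub_C_ne_zero hk c
  have hP : ((X ^ k - C c) ^ (p ^ e) : L[X]) ≠ 0 := pow_ne_zero _ hP0
  have hdvd : A.charpoly ∣ ((X ^ k - C c) ^ (p ^ e) : L[X]) := by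
    rw [hA, Multiset.prod_X_sub_C_dvd_iff_le_roots hP, Multiset.le_iff_count]
    intro r
    by_cases hr : r ∈ R
    · rw [Polynomial.roots_pow, Multiset.count_nsmul]
      have h3 : 1 ≤ (X ^ k - C c : L[X]).roots.count r := by
        rw [Multiset.one_le_count_iff_mem, Polynomial.mem_roots hP0]
        simp [h1 r hr]
      exact (h2 r).trans (Nat.le_mul_of_pos_right _ h3)
    · rw [Multiset.count_eq_zero_of_notMem hr]; exact Nat.zero_le _
  obtain ⟨Q, hQ⟩ := hdvd
  have hfrob : ((X ^ k - C c) ^ (p ^ e) : L[X]) = X ^ (p ^ e * k) - C (c ^ (p ^ e)) := by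
    rw [sub_pow_char_pow, ← pow_mul, mul_comm k, map_pow]
  have h := congrArg (Polynomial.aeval A) hQ
  rw [hfrob, map_mul, Matrix.aeval_self_charpoly, zero_mul, map_sub, map_pow, Polynomial.aeval_X,
    Polynomial.aeval_C, sub_eq_zero] at h
  rw [h, Algebra.algebraMap_eq_smul_one]

section Count

variable {L : Type*} [DecidableEq L] {a b c r : L}

lemma count_four (a b c d r : L) : (a ::ₘ b ::ₘ c ::ₘ d ::ₘ (0 : Multiset L)).count r =
    (if r = a then 1 else 0) + (if r = b then 1 else 0) + (if r = c then 1 else 0) + (if r = d then 1 else 0) := by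
  simp only [Multiset.count_cons, Multiset.count_zero]
  omega

lemma count_pairs (h : a ≠ b) : (a ::ₘ a ::ₘ b ::ₘ b ::ₘ (0 : Multiset L)).count r ≤ 2 := by
  rw [count_four]; split_ifs <;> simp_all

lemma count_pairs' (h : a ≠ b) : (a ::ₘ b ::ₘ a ::ₘ b ::ₘ (0 : Multiset L)).count r ≤ 2 := by
  rw [count_four]; split_ifs <;> simp_all

lemma count_pairs'' (h : a ≠ b) : (a ::ₘ b ::ₘ b ::ₘ a ::ₘ (0 : Multiset L)).count r ≤ 2 := by
  rw [count_four]; split_ifs <;> simp_all

lemma count_three (h1 : a ≠ b) (h2 : a ≠ c) (h3 : b ≠ c) :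
    (a ::ₘ a ::ₘ b ::ₘ c ::ₘ (0 : Multiset L)).count r ≤ 2 := by
  rw [count_four]; split_ifs <;> simp_all

lemma count_three' (h1 : a ≠ b) (h2 : a ≠ c) (h3 : b ≠ c) :
    (b ::ₘ c ::ₘ a ::ₘ a ::ₘ (0 : Multiset L)).count r ≤ 2 := by
  rw [count_four]; split_ifs <;> simp_all

lemma count_distinct {d : L} (h1 : a ≠ b) (h2 : a ≠ c) (h3 : a ≠ d) (h4 : b ≠ c) (h5 : b ≠ d) (h6 : c ≠ d) :
    (a ::ₘ b ::ₘ c ::ₘ d ::ₘ (0 : Multiset L)).count r ≤ 1 := by
  rw [count_four]; split_ifs <;> simp_all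

end Count

section Roots

variable {L : Type*} [Field L]

lemma eq_or_eq_inv {r s : L} (hr : r ≠ 0) (hs : s ≠ 0) (h : r + r⁻¹ = s + s⁻¹) : r = s ∨ r = s⁻¹ := by
  have h' : (r - s) * (r - s⁻¹) = 0 := by
    linear_combination r * h + mul_inv_cancel₀ hs - mul_inv_cancel₀ hr
  exact (mul_eq_zero.1 h').imp sub_eq_zero.1 sub_eq_zero.1

lemma inv_eq_self {r : L} (h : r ^ 2 = 1) : r⁻¹ = r :=
  inv_eq_of_mul_eq_one_right (by rw [← pow_two]; exact h)

lemma inv_ne_self {r : L} (hr : r ≠ 0) (h : r ^ 2 ≠ 1) : r⁻¹ ≠ r := by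
  intro e
  apply h
  rw [pow_two]; nth_rw 1 [← e]; exact inv_mul_cancel₀ hr

lemma pow_sub_add {r : L} {q : ℕ} (hq : 1 ≤ q) (hr : r ≠ 0) (h : r ^ q = r ∨ r ^ q = r⁻¹) :
    r ^ (q - 1) = 1 ∨ r ^ (q + 1) = 1 := by
  rcases h with h | h
  · left
    apply mul_right_cancel₀ hr
    rw [one_mul, ← pow_succ, Nat.sub_add_cancel hq, h]
  · right
    rw [pow_succ, h, inv_mul_cancel₀ hr]

end Roots

/-- The roots of the characteristic polynomial of a symplectic `4 × 4` matrix, in the algebraic closure. -/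
structure RootData (L : Type*) [Field L] (q : ℕ) where
  /-- a root -/
  l : L
  /-- a second root -/
  m : L
  l0 : l ≠ 0
  m0 : m ≠ 0
  frob : (l + l⁻¹) ^ q = l + l⁻¹ ∧ (m + m⁻¹) ^ q = m + m⁻¹ ∨
    (l + l⁻¹) ^ q = m + m⁻¹ ∧ (m + m⁻¹) ^ q = l + l⁻¹
  addHom : ∀ x : L, x ≠ 0 → (x + x⁻¹) ^ q = x ^ q + (x ^ q)⁻¹
  negFix : (-1 : L) ^ q = -1

lemma gfac_dvd {p q : ℕ} (hqodd : p ≠ 2 → q % 2 = 1) : gfac p ∣ q - 1 ∧ gfac p ∣ q + 1 := by
  unfold gfac; split_ifs with h
  · exact ⟨one_dvd _, one_dvd _⟩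
  · have := hqodd h; omega

lemma gfac_le (p : ℕ) : gfac p ≤ 2 := by
  unfold gfac; split_ifs <;> norm_num

lemma gfac_pos (p : ℕ) : 0 < gfac p := by
  unfold gfac; split_ifs <;> norm_num

lemma mem_exps {p q K : ℕ} (h : K = (q ^ 2 + 1) / gfac p ∨ K = (q ^ 2 - 1) / gfac p ∨ K = p * (q + 1) ∨
    K = p * (q - 1) ∨ K = extra p) : K ∈ exps p q := by
  simpa [exps] using h

/-- The case analysis on the roots. -/
lemma exists_exponent {L : Type*} [Field L] [DecidableEq L] (p q : ℕ) [Fact p.Prime] [CharP L p] (hq : 2 ≤ q)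
    (hqodd : p ≠ 2 → q % 2 = 1) (D : RootData L q) :
    ∃ (k e : ℕ) (c : L), 0 < k ∧ (∀ r ∈ D.l ::ₘ D.l⁻¹ ::ₘ D.m ::ₘ D.m⁻¹ ::ₘ (0 : Multiset L), r ^ k = c) ∧
      (∀ r, (D.l ::ₘ D.l⁻¹ ::ₘ D.m ::ₘ D.m⁻¹ ::ₘ (0 : Multiset L)).count r ≤ p ^ e) ∧
      ∃ K ∈ exps p q, p ^ e * k ∣ K := by
  obtain ⟨l, m, hl0, hm0, hfrob, hadd, hneg⟩ := D
  simp only
  have hp2 : 2 ≤ p := (Fact.out : p.Prime).two_le
  have hg := gfac_dvd hqodd
  have hsq : q ^ 2 - 1 = (q + 1) * (q - 1) := by rw [← Nat.sq_sub_sq, one_pow]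
  have hsq4 : 4 ≤ q ^ 2 := by nlinarith
  have memR : ∀ r ∈ l ::ₘ l⁻¹ ::ₘ m ::ₘ m⁻¹ ::ₘ (0 : Multiset L), r = l ∨ r = l⁻¹ ∨ r = m ∨ r = m⁻¹ := by
    intro r hr; simpa using hr
  have all_pow : ∀ (k : ℕ) (c : L), c⁻¹ = c → l ^ k = c → m ^ k = c →
      ∀ r ∈ l ::ₘ l⁻¹ ::ₘ m ::ₘ m⁻¹ ::ₘ (0 : Multiset L), r ^ k = c := by
    intro k c hc hl hm r hr
    rcases memR r hr with rfl | rfl | rfl | rfl
    exacts [hl, by rw [inv_pow, hl, hc], hm, by rw [inv_pow, hm, hc]]
  have real : ∀ x : L, x ≠ 0 → (x + x⁻¹) ^ q = x + x⁻¹ → x ^ (q - 1) = 1 ∨ x ^ (q + 1) = 1 := by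
    intro x hx h
    exact pow_sub_add (by omega) hx (eq_or_eq_inv (pow_ne_zero _ hx) hx (by rw [← hadd x hx, h]))
  have even_pow : ∀ x : L, x ^ 2 = 1 → ∀ k, (k = q - 1 ∨ k = q + 1) → x ^ k = 1 := by
    intro x hx k hk
    by_cases hp : p = 2
    · subst hp
      have h' : (x + 1) ^ 2 = 0 := by rw [CharTwo.add_sq, hx, one_pow, CharTwo.add_self_eq_zero]
      rw [CharTwo.add_eq_zero.1 (eq_zero_of_pow_eq_zero h'), one_pow]
    · have : 2 ∣ k := by have := hqodd hp; omega
      obtain ⟨j, rfl⟩ := this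
      rw [pow_mul, hx, one_pow]
  have hkey : ∀ k, (k = q - 1 ∨ k = q + 1) → p ^ 1 * k ∈ exps p q := by
    intro k hk; rw [pow_one]; rcases hk with rfl | rfl <;> exact mem_exps (by tauto)
  have hfrob' : ((l + l⁻¹) ^ q = l + l⁻¹ ∧ (m + m⁻¹) ^ q = m + m⁻¹) ∨
      ((l + l⁻¹) ^ q = m + m⁻¹ ∧ (m + m⁻¹) ^ q = l + l⁻¹ ∧ l + l⁻¹ ≠ m + m⁻¹) := by
    rcases hfrob with h | ⟨h1, h2⟩
    · exact Or.inl h
    · by_cases hab : l + l⁻¹ = m + m⁻¹
      · exact Or.inl ⟨h1.trans hab.symm, h2.trans hab⟩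
      · exact Or.inr ⟨h1, h2, hab⟩
  rcases hfrob' with ⟨hfl, hfm⟩ | ⟨hfl, hfm, hab⟩
  · by_cases hl1 : l ^ 2 = 1
    · by_cases hm1 : m ^ 2 = 1
      · by_cases hlm : l = m
        · -- a single eigenvalue
          subst hlm
          refine ⟨1, if p = 2 ∨ p = 3 then 2 else 1, l, one_pos,
            all_pow 1 l (inv_eq_self hl1) (pow_one l) (pow_one l), fun r => ?_, extra p, mem_exps (by tauto), ?_⟩
          · refine le_trans (Multiset.count_le_card r _) ?_
            simp only [Multiset.card_cons, Multiset.card_zero]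
            split_ifs with h
            · rcases h with rfl | rfl <;> norm_num
            · rw [pow_one]; omega
          · split_ifs with h
            · rcases h with rfl | rfl <;> simp [extra]
            · simp [extra, not_or.1 h]
        · -- both signs
          have hp : p ≠ 2 := by
            rintro rfl
            apply hlm
            rw [← pow_one l, ← pow_one m]
            have h1 : ∀ x : L, x ^ 2 = 1 → x = 1 := by
              intro x hx
              have h' : (x + 1) ^ 2 = 0 := by rw [CharTwo.add_sq, hx, one_pow, CharTwo.add_self_eq_zero]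
              exact CharTwo.add_eq_zero.1 (eq_zero_of_pow_eq_zero h')
            rw [h1 l hl1, h1 m hm1]
          refine ⟨2, 1, 1, by norm_num, all_pow 2 1 inv_one hl1 hm1, fun r => ?_, p * (q - 1),
            mem_exps (by tauto), ?_⟩
          · rw [inv_eq_self hl1, inv_eq_self hm1, pow_one]
            exact (count_pairs hlm).trans hp2
          · rw [pow_one]
            exact Nat.mul_dvd_mul_left p (by have := hqodd hp; omega)
      · -- `l = ±1`, a real pair
        have hcount : ∀ r, (l ::ₘ l⁻¹ ::ₘ m ::ₘ m⁻¹ ::ₘ (0 : Multiset L)).count r ≤ p ^ 1 := by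
          intro r
          rw [inv_eq_self hl1, pow_one]
          refine (count_three ?_ ?_ (inv_ne_self hm0 hm1).symm).trans hp2
          · exact fun h => hm1 (h ▸ hl1)
          · intro h; apply hm1; rw [h, inv_pow, inv_eq_one] at hl1; exact hl1
        rcases real m hm0 hfm with h | h
        · exact ⟨q - 1, 1, 1, by omega, all_pow _ 1 inv_one (even_pow l hl1 _ (Or.inl rfl)) h, hcount, _,
            hkey _ (Or.inl rfl), dvd_rfl⟩
        · exact ⟨q + 1, 1, 1, by omega, all_pow _ 1 inv_one (even_pow l hl1 _ (Or.inr rfl)) h, hcount, _,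
            hkey _ (Or.inr rfl), dvd_rfl⟩
    · by_cases hm1 : m ^ 2 = 1
      · have hcount : ∀ r, (l ::ₘ l⁻¹ ::ₘ m ::ₘ m⁻¹ ::ₘ (0 : Multiset L)).count r ≤ p ^ 1 := by
          intro r
          rw [inv_eq_self hm1, pow_one]
          refine (count_three' ?_ ?_ (inv_ne_self hl0 hl1).symm).trans hp2
          · exact fun h => hl1 (h ▸ hm1)
          · intro h; apply hl1; rw [h, inv_pow, inv_eq_one] at hm1; exact hm1
        rcases real l hl0 hfl with h | h
        · exact ⟨q - 1, 1, 1, by omega, all_pow _ 1 inv_one h (even_pow m hm1 _ (Or.inl rfl)), hcount, _,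
            hkey _ (Or.inl rfl), dvd_rfl⟩
        · exact ⟨q + 1, 1, 1, by omega, all_pow _ 1 inv_one h (even_pow m hm1 _ (Or.inr rfl)), hcount, _,
            hkey _ (Or.inr rfl), dvd_rfl⟩
      · have hll := (inv_ne_self hl0 hl1).symm
        by_cases hab : l + l⁻¹ = m + m⁻¹
        · -- a double real pair
          have hlm := eq_or_eq_inv hl0 hm0 hab
          have hcount : ∀ r, (l ::ₘ l⁻¹ ::ₘ m ::ₘ m⁻¹ ::ₘ (0 : Multiset L)).count r ≤ p ^ 1 := by
            intro r
            rw [pow_one]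
            rcases hlm with h | h
            · subst h; exact (count_pairs' hll).trans hp2
            · have h' : m = l⁻¹ := by rw [h, inv_inv]
              subst h'; rw [inv_inv]; exact (count_pairs'' hll).trans hp2
          have hmk : ∀ k, l ^ k = 1 → m ^ k = 1 := by
            intro k hk
            rcases hlm with h | h
            · rwa [← h]
            · rw [← inv_inv m, ← h, inv_pow, hk, inv_one]
          rcases real l hl0 hfl with h | h
          · exact ⟨q - 1, 1, 1, by omega, all_pow _ 1 inv_one h (hmk _ h), hcount, _, hkey _ (Or.inl rfl), dvd_rfl⟩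
          · exact ⟨q + 1, 1, 1, by omega, all_pow _ 1 inv_one h (hmk _ h), hcount, _, hkey _ (Or.inr rfl), dvd_rfl⟩
        · -- two different real pairs
          have hK : ∀ {r : L}, r ^ (q - 1) = 1 ∨ r ^ (q + 1) = 1 → r ^ ((q ^ 2 - 1) / gfac p) = 1 := by
            intro r hr
            rw [hsq]
            rcases hr with h | h
            · rw [mul_comm, Nat.mul_div_assoc _ hg.2, pow_mul, h, one_pow]
            · rw [Nat.mul_div_assoc _ hg.1, pow_mul, h, one_pow]
          refine ⟨(q ^ 2 - 1) / gfac p, 0, 1, Nat.div_pos (by have := gfac_le p; omega) (gfac_pos p),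
            all_pow _ 1 inv_one (hK (real l hl0 hfl)) (hK (real m hm0 hfm)), fun r => ?_, (q ^ 2 - 1) / gfac p,
            mem_exps (by tauto), by rw [pow_zero, one_mul]⟩
          rw [pow_zero]
          refine count_distinct hll ?_ ?_ ?_ ?_ (inv_ne_self hm0 hm1).symm
          · exact fun h => hab (by rw [h])
          · exact fun h => hab (by rw [h, inv_inv, add_comm])
          · exact fun h => hab (by rw [← h, inv_inv, add_comm])
          · exact fun h => hab (by rw [inv_injective h])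
  · have hfix : ∀ x : L, x ^ 2 = 1 → (x + x⁻¹) ^ q = x + x⁻¹ := by
      intro x hx
      rcases sq_eq_one_iff.1 hx with e | e
      · rw [e, hadd 1 one_ne_zero, one_pow]
      · rw [e, hadd (-1) (neg_ne_zero.2 one_ne_zero), hneg]
    have hl1 : l ^ 2 ≠ 1 := fun h => hab ((hfix l h).symm.trans hfl)
    have hm1 : m ^ 2 ≠ 1 := fun h => hab (hfm.symm.trans (hfix m h))
    have hσm : l ^ q = m ∨ l ^ q = m⁻¹ :=
      eq_or_eq_inv (pow_ne_zero _ hl0) hm0 (by rw [← hadd l hl0, hfl])
    have hl2 : l ^ (q ^ 2 - 1) = 1 ∨ l ^ (q ^ 2 + 1) = 1 := by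
      refine pow_sub_add (by omega) hl0 (eq_or_eq_inv (pow_ne_zero _ hl0) hl0 ?_)
      rw [pow_two, pow_mul, ← hadd _ (pow_ne_zero _ hl0), ← hadd l hl0, hfl, hfm]
    have hd1 : gfac p ∣ q ^ 2 - 1 := hsq ▸ Dvd.dvd.mul_left hg.1 _
    have hd2 : gfac p ∣ q ^ 2 + 1 := by
      unfold gfac at hd1 ⊢; split_ifs at hd1 ⊢ <;> omega
    have half : ∀ N, gfac p ∣ N → l ^ N = 1 → l ^ (N / gfac p) = 1 ∨ l ^ (N / gfac p) = -1 := by
      intro N hN h
      unfold gfac at hN ⊢
      split_ifs at hN ⊢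
      · left; rwa [Nat.div_one]
      · refine sq_eq_one_iff.1 ?_
        rw [← pow_mul, Nat.div_mul_cancel hN, h]
    obtain ⟨k, hk, hkpos, hlk⟩ : ∃ k, (k = (q ^ 2 + 1) / gfac p ∨ k = (q ^ 2 - 1) / gfac p) ∧ 0 < k ∧
        (l ^ k = 1 ∨ l ^ k = -1) := by
      rcases hl2 with h | h
      · exact ⟨_, Or.inr rfl, Nat.div_pos (by have := gfac_le p; omega) (gfac_pos p), half _ hd1 h⟩
      · exact ⟨_, Or.inl rfl, Nat.div_pos (by have := gfac_le p; omega) (gfac_pos p), half _ hd2 h⟩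
    obtain ⟨c, hlc, hc⟩ : ∃ c : L, l ^ k = c ∧ (c = 1 ∨ c = -1) := ⟨_, rfl, hlk⟩
    have hcinv : c⁻¹ = c := by rcases hc with e | e <;> rw [e] <;> simp
    have hcq : c ^ q = c := by
      rcases hc with e | e <;> rw [e]
      · exact one_pow q
      · exact hneg
    have hmc : m ^ k = c := by
      rcases hσm with e | e
      · rw [← e, ← pow_mul, mul_comm, pow_mul, hlc, hcq]
      · rw [← inv_inv m, ← e, inv_pow, ← pow_mul, mul_comm, pow_mul, hlc, hcq, hcinv]
    refine ⟨k, 0, c, hkpos, all_pow k c hcinv hlc hmc, fun r => ?_, k, mem_exps (by tauto),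
      by rw [pow_zero, one_mul]⟩
    rw [pow_zero]
    refine count_distinct (inv_ne_self hl0 hl1).symm ?_ ?_ ?_ ?_ (inv_ne_self hm0 hm1).symm
    · exact fun h => hab (by rw [h])
    · exact fun h => hab (by rw [h, inv_inv, add_comm])
    · exact fun h => hab (by rw [← h, inv_inv, add_comm])
    · exact fun h => hab (by rw [inv_injective h])

theorem exists_root_data [Fintype F] (p : ℕ) [Fact p.Prime] [CharP F p] (g : Sp4) :
    ∃ D : RootData (AlgebraicClosure F) (Fintype.card F),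
      ((g : M4).map (algebraMap F (AlgebraicClosure F))).charpoly =
        ((D.l ::ₘ D.l⁻¹ ::ₘ D.m ::ₘ D.m⁻¹ ::ₘ 0).map fun r => X - C r).prod := by
  obtain ⟨a, b, hab⟩ := charpoly_form g
  have key : ∀ (L : Type _) [Field L] [Algebra F L] [IsAlgClosed L],
      ∃ D : RootData L (Fintype.card F), ((g : M4).map (algebraMap F L)).charpoly =
        ((D.l ::ₘ D.l⁻¹ ::ₘ D.m ::ₘ D.m⁻¹ ::ₘ 0).map fun r => X - C r).prod := by
    intro L _ _ _
    let σ : L →ₐ[F] L := FiniteField.frobeniusAlgHom F L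
    have hσ : ∀ z : L, σ z = z ^ Fintype.card F := fun z => rfl
    obtain ⟨α, hα⟩ : ∃ α : L, α ^ 2 - algebraMap F L a * α + (algebraMap F L b - 2) = 0 := by
      obtain ⟨α, hα⟩ := IsAlgClosed.exists_root
        (X ^ 2 - C (algebraMap F L a) * X + C (algebraMap F L b - 2) : L[X]) (by
        have : (X ^ 2 - C (algebraMap F L a) * X + C (algebraMap F L b - 2) : L[X]).degree = 2 := by
          compute_degree!
        rw [this]; decide)
      exact ⟨α, by simpa [IsRoot] using hα⟩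
    set β := algebraMap F L a - α with hβ
    have hroot : ∀ t : L, ∃ r : L, r ≠ 0 ∧ t = r + r⁻¹ := by
      intro t
      obtain ⟨r, hr⟩ := IsAlgClosed.exists_root (X ^ 2 - C t * X + 1 : L[X]) (by
        have : (X ^ 2 - C t * X + 1 : L[X]).degree = 2 := by compute_degree!
        rw [this]; decide)
      have hr' : r ^ 2 - t * r + 1 = 0 := by simpa [IsRoot] using hr
      have hr0 : r ≠ 0 := by rintro rfl; simp at hr'
      refine ⟨r, hr0, mul_left_cancel₀ hr0 ?_⟩
      linear_combination -hr' - mul_inv_cancel₀ hr0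
    obtain ⟨l, hl0, hαl⟩ := hroot α
    obtain ⟨m, hm0, hβm⟩ := hroot β
    have hσα : σ α = α ∨ σ α = β := by
      have h1 : (σ α) ^ 2 - algebraMap F L a * σ α + (algebraMap F L b - 2) = 0 := by
        have := congrArg σ hα
        simp only [map_add, map_sub, map_mul, map_pow, map_zero, map_ofNat, AlgHom.commutes] at this
        exact this
      have h2 : (σ α - α) * (σ α - β) = 0 := by rw [hβ]; linear_combination h1 - hα
      exact (mul_eq_zero.1 h2).imp sub_eq_zero.1 sub_eq_zero.1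
    have hσβ : σ β = algebraMap F L a - σ α := by rw [hβ, map_sub, AlgHom.commutes]
    refine ⟨⟨l, m, hl0, hm0, ?_, ?_, ?_⟩, ?_⟩
    · rw [← hαl, ← hβm, ← hσ, ← hσ, hσβ]
      rcases hσα with h | h
      · exact Or.inl ⟨h, by rw [h]⟩
      · exact Or.inr ⟨h, by rw [h, hβ, sub_sub_cancel]⟩
    · intro x hx
      rw [← hσ, map_add, map_inv₀, hσ]
    · rw [← hσ, map_neg, map_one]
    · have hquad : ∀ r : L, r ≠ 0 → (X - C r) * (X - C r⁻¹) = (X ^ 2 - C (r + r⁻¹) * X + 1 : L[X]) := by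
        intro r hr
        have h : (C r * C r⁻¹ : L[X]) = 1 := by rw [← map_mul, mul_inv_cancel₀ hr, map_one]
        rw [map_add]
        linear_combination h
      have e1 : (C (algebraMap F L a) : L[X]) = C α + C β := by rw [← map_add, hβ, add_sub_cancel]
      have e2 : (C (algebraMap F L b) : L[X]) = C α * C β + 2 := by
        rw [← map_mul, show (2 : L[X]) = C 2 from (map_ofNat C 2).symm, ← map_add]
        congr 1
        rw [hβ]; linear_combination hα
      rw [show ((l ::ₘ l⁻¹ ::ₘ m ::ₘ m⁻¹ ::ₘ 0).map fun r => X - C r).prod =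
          ((X - C l) * (X - C l⁻¹)) * ((X - C m) * (X - C m⁻¹)) by simp [mul_assoc],
        hquad l hl0, hquad m hm0, ← hαl, ← hβm, Matrix.charpoly_map, hab]
      simp only [Polynomial.map_add, Polynomial.map_sub, Polynomial.map_mul, Polynomial.map_pow,
        Polynomial.map_X, Polynomial.map_C, Polynomial.map_one]
      rw [e1, e2]
      ring
  exact key _

theorem pow_cases [Fintype F] (p : ℕ) [Fact p.Prime] [CharP F p] (x : Cfsg.PSp 2 F) :
    ∃ k ∈ exps p (Fintype.card F), x ^ k = 1 := by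
  classical
  obtain ⟨g, rfl⟩ := QuotientGroup.mk_surjective x
  obtain ⟨D, hD⟩ := exists_root_data p g
  haveI : CharP (AlgebraicClosure F) p :=
    charP_of_injective_algebraMap (algebraMap F (AlgebraicClosure F)).injective p
  obtain ⟨n, -, hn⟩ := FiniteField.card F p
  have hqodd : p ≠ 2 → Fintype.card F % 2 = 1 := by
    intro hp
    rw [hn]
    exact Nat.odd_iff.1 (((Fact.out : p.Prime).odd_of_ne_two hp).pow)
  obtain ⟨k, e, c, hk, h1, h2, K, hK, d, rfl⟩ := exists_exponent p _ Fintype.one_lt_card hqodd D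
  refine ⟨_, hK, ?_⟩
  rw [pow_mul]
  suffices (QuotientGroup.mk g : Cfsg.PSp 2 F) ^ (p ^ e * k) = 1 by rw [this, one_pow]
  have h := pow_scalar p _ _ hD k e hk c h1 h2
  rw [← RingHom.mapMatrix_apply, ← map_pow, RingHom.mapMatrix_apply] at h
  rw [mk_pow_eq_one_iff]
  refine ⟨((g : M4) ^ (p ^ e * k)) (Sum.inl 0) (Sum.inl 0), ?_⟩
  have hc : algebraMap F (AlgebraicClosure F) (((g : M4) ^ (p ^ e * k)) (Sum.inl 0) (Sum.inl 0)) = c ^ (p ^ e) := by
    have := congrFun (congrFun h (Sum.inl 0)) (Sum.inl 0)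
    simpa using this
  ext i j
  apply (algebraMap F (AlgebraicClosure F)).injective
  have := congrFun (congrFun h i) j
  simp only [Matrix.map_apply, Matrix.smul_apply, smul_eq_mul] at this
  rw [this, Matrix.smul_apply, smul_eq_mul, map_mul, hc]
  congr 1
  simp only [Matrix.one_apply]
  split_ifs <;> simp

/-! ### Elements of the maximal orders -/

/-- The block diagonal element `diag(A, D)` for `A Dᵀ = 1`. -/
def levi (A D : Matrix (Fin 2) (Fin 2) F) (h : A * Dᵀ = 1) : Sp4 :=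
  ⟨Matrix.fromBlocks A 0 0 D, by
    rw [SymplecticGroup.mem_iff, Matrix.J, Matrix.fromBlocks_transpose, Matrix.fromBlocks_multiply,
      Matrix.fromBlocks_multiply]
    have h' : D * Aᵀ = 1 := by
      have := congrArg Matrix.transpose h
      rwa [Matrix.transpose_mul, Matrix.transpose_transpose, Matrix.transpose_one] at this
    simp [h, h']⟩

lemma half_iff {R : Type*} [Monoid R] [HasDistribNeg R] (x : R) (p M : ℕ) (h : orderOf x = gfac p * M)
    (h1 : p = 2 → (-1 : R) = 1) (h2 : p ≠ 2 → ∀ n, (x ^ n) ^ 2 = 1 → x ^ n = 1 ∨ x ^ n = -1) (n : ℕ) :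
    (x ^ n = 1 ∨ x ^ n = -1) ↔ M ∣ n := by
  by_cases hp : p = 2
  · rw [h1 hp, or_self, ← orderOf_dvd_iff_pow_eq_one, h]
    simp [gfac, hp]
  · have hg : gfac p = 2 := by simp [gfac, hp]
    rw [hg] at h
    constructor
    · intro hn
      have : x ^ (2 * n) = 1 := by
        rw [mul_comm, pow_mul]
        rcases hn with e | e <;> rw [e] <;> simp
      exact Nat.dvd_of_mul_dvd_mul_left (by norm_num) (h ▸ orderOf_dvd_of_pow_eq_one this)
    · rintro ⟨j, rfl⟩
      refine h2 hp _ ?_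
      rw [← pow_mul, show M * j * 2 = 2 * M * j by ring, ← h, pow_mul, pow_orderOf_eq_one, one_pow]

section Extension

variable [Fintype F] (p : ℕ) [Fact p.Prime] [CharP F p]

lemma dvd_levi : ∃ x : Cfsg.PSp 2 F, orderOf x = (Fintype.card F ^ 2 - 1) / gfac p := by
  classical
  let K := FiniteField.Extension F p 2
  haveI : Finite K := Module.finite_of_finite F
  let b : Module.Basis (Fin 2) F K := Module.finBasisOfFinrankEq F K (FiniteField.finrank_extension F p 2)
  let φ := Algebra.leftMulMatrix b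
  have hφ : Function.Injective φ := Algebra.leftMulMatrix_injective b
  haveI : CharP K p := charP_of_injective_algebraMap (algebraMap F K).injective p
  obtain ⟨z, hz⟩ := IsCyclic.exists_ofOrder_eq_natCard (α := Kˣ)
  rw [Nat.card_units, FiniteField.natCard_extension, Nat.card_eq_fintype_card] at hz
  have h : φ (z : K) * ((φ ((z⁻¹ : Kˣ) : K))ᵀ)ᵀ = 1 := by
    rw [Matrix.transpose_transpose, ← map_mul, ← Units.val_mul, mul_inv_cancel, Units.val_one, map_one]
  set g := levi (φ (z : K)) ((φ ((z⁻¹ : Kˣ) : K))ᵀ) h with hg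
  have hpow : ∀ n : ℕ, (g : M4) ^ n =
      Matrix.fromBlocks (φ ((z : K) ^ n)) 0 0 ((φ (((z⁻¹ : Kˣ) : K) ^ n))ᵀ) := by
    intro n
    show (Matrix.fromBlocks _ 0 0 _) ^ n = _
    rw [Matrix.fromBlocks_diagonal_pow, ← map_pow, ← Matrix.transpose_pow, ← map_pow]
  obtain ⟨n', -, hn'⟩ := FiniteField.card F p
  have hgdvd : gfac p ∣ Fintype.card F ^ 2 - 1 := by
    unfold gfac; split_ifs with hp
    · exact one_dvd _
    · have : Odd (Fintype.card F ^ 2) := by
        rw [hn']; exact (((Fact.out : p.Prime).odd_of_ne_two hp).pow).pow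
      obtain ⟨j, hj⟩ := this; omega
  have key := half_iff (z : K) p ((Fintype.card F ^ 2 - 1) / gfac p)
    (by rw [orderOf_units, hz, Nat.mul_div_cancel' hgdvd])
    (fun hp => by subst hp; exact CharTwo.neg_eq 1) (fun _ n hn => sq_eq_one_iff.1 hn)
  refine ⟨QuotientGroup.mk g, orderOf_eq_of_iff fun n => ?_⟩
  rw [mk_pow_eq_one_iff, hpow, ← key n]
  constructor
  · rintro ⟨a, ha⟩
    rw [← Matrix.fromBlocks_one, Matrix.fromBlocks_smul, Matrix.fromBlocks_inj] at ha
    obtain ⟨h1, -, -, h4⟩ := ha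
    rw [← Algebra.algebraMap_eq_smul_one, ← AlgHom.commutes φ] at h1
    rw [← Matrix.transpose_inj, Matrix.transpose_transpose, Matrix.transpose_smul, Matrix.transpose_one,
      ← Algebra.algebraMap_eq_smul_one, ← AlgHom.commutes φ] at h4
    have e1 := hφ h1
    have e2 := hφ h4
    refine sq_eq_one_iff.1 ?_
    rw [pow_two]
    nth_rw 2 [e1]
    rw [← e2, ← mul_pow, ← Units.val_mul, mul_inv_cancel, Units.val_one, one_pow]
  · intro hn
    obtain ⟨c, hc, hc'⟩ : ∃ c : F, (z : K) ^ n = algebraMap F K c ∧ c⁻¹ = c := by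
      rcases hn with e | e
      · exact ⟨1, by rw [e, map_one], inv_one⟩
      · exact ⟨-1, by rw [e, map_neg, map_one], by rw [inv_neg, inv_one]⟩
    refine ⟨c, ?_⟩
    rw [Units.val_inv_eq_inv_val, inv_pow, hc, ← map_inv₀, hc', AlgHom.commutes,
      Algebra.algebraMap_eq_smul_one, Matrix.transpose_smul, Matrix.transpose_one, ← Matrix.fromBlocks_one,
      Matrix.fromBlocks_smul]
    simp

/-- Restriction of scalars from `SL(2,K)` to `Sp(4,F)`, in a basis and its trace-dual. -/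
lemma exists_hom : ∃ Φ : Matrix.SpecialLinearGroup (Fin 2) (FiniteField.Extension F p 2) →* Sp4,
    ∀ (A : Matrix.SpecialLinearGroup (Fin 2) (FiniteField.Extension F p 2)) (a : F),
      (Φ A : M4) = a • (1 : M4) ↔ A.1 = algebraMap F (FiniteField.Extension F p 2) a • 1 := by
  classical
  let K := FiniteField.Extension F p 2
  haveI : Finite K := Module.finite_of_finite F
  haveI : FiniteDimensional F K := inferInstance
  let b : Module.Basis (Fin 2) F K := Module.finBasisOfFinrankEq F K (FiniteField.finrank_extension F p 2)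
  let φ := Algebra.leftMulMatrix b
  have hφ : Function.Injective φ := Algebra.leftMulMatrix_injective b
  set G : Matrix (Fin 2) (Fin 2) F := Algebra.traceMatrix F b with hG
  have hdet : IsUnit G.det := by
    rw [isUnit_iff_ne_zero]
    have := (LinearMap.BilinForm.nondegenerate_iff_det_ne_zero b).1 (traceForm_nondegenerate F K)
    rwa [← Algebra.traceMatrix_of_basis] at this
  have hGt : Gᵀ = G := by
    ext i j
    simp [hG, Algebra.traceMatrix_apply, Algebra.traceForm_apply, mul_comm]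
  have hGx : ∀ x : K, G * φ x = (φ x)ᵀ * G := by
    intro x
    ext i j
    have key : ∀ i j, (G * φ x) i j = Algebra.trace F K (b i * (x * b j)) := by
      intro i j
      rw [Matrix.mul_apply]
      conv_rhs => rw [← b.sum_repr (x * b j)]
      rw [Finset.mul_sum, map_sum]
      refine Finset.sum_congr rfl fun k _ => ?_
      rw [mul_smul_comm, map_smul, smul_eq_mul, mul_comm, hG, Algebra.traceMatrix_apply,
        Algebra.traceForm_apply, Algebra.leftMulMatrix_eq_repr_mul]
    calc (G * φ x) i j = Algebra.trace F K (b i * (x * b j)) := key i j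
      _ = Algebra.trace F K (b j * (x * b i)) := by congr 1; ring
      _ = (G * φ x) j i := (key j i).symm
      _ = ((φ x)ᵀ * G) i j := by
        rw [← Matrix.transpose_apply (G * φ x) i j, Matrix.transpose_mul, hGt]
  let Gi := G⁻¹
  have hG1 : G * Gi = 1 := Matrix.mul_nonsing_inv G hdet
  have hG2 : Gi * G = 1 := Matrix.nonsing_inv_mul G hdet
  have hGit : Giᵀ = Gi := by rw [Matrix.transpose_nonsing_inv, hGt]
  have hxt : ∀ x : K, G * φ x * Gi = (φ x)ᵀ := by
    intro x; rw [hGx, mul_assoc, hG1, mul_one]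
  have hxg : ∀ x : K, φ x * Gi = Gi * (φ x)ᵀ := by
    intro x
    rw [← hxt x, ← mul_assoc, ← mul_assoc, hG2, one_mul]
  let B : Matrix (Fin 2) (Fin 2) K → M4 := fun X =>
    Matrix.fromBlocks (φ (X 0 0)) (φ (X 0 1)) (φ (X 1 0)) (φ (X 1 1))
  let P : M4 := Matrix.fromBlocks 1 0 0 G
  let Q : M4 := Matrix.fromBlocks 1 0 0 Gi
  have hQP : Q * P = 1 := by
    simp [P, Q, Matrix.fromBlocks_multiply, hG2, Matrix.fromBlocks_one]
  have hPQ : P * Q = 1 := by
    simp [P, Q, Matrix.fromBlocks_multiply, hG1, Matrix.fromBlocks_one]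
  let Ψ : Matrix (Fin 2) (Fin 2) K → M4 := fun X => P * B X * Q
  have hΨone : Ψ 1 = 1 := by
    have : B 1 = 1 := by simp [B, Matrix.fromBlocks_one]
    simp only [Ψ, this, mul_one, hPQ]
  have hΨmul : ∀ X Y, Ψ (X * Y) = Ψ X * Ψ Y := by
    intro X Y
    have h : B (X * Y) = B X * B Y := by
      simp [B, Matrix.fromBlocks_multiply, Matrix.mul_apply, Fin.sum_univ_two]
    simp only [Ψ, h]
    rw [show P * B X * Q * (P * B Y * Q) = P * B X * (Q * P) * (B Y * Q) by noncomm_ring, hQP, mul_one]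
    noncomm_ring
  have hmem : ∀ X : Matrix (Fin 2) (Fin 2) K, X.det = 1 → Ψ X ∈ Matrix.symplecticGroup (Fin 2) F := by
    intro X hX
    rw [Matrix.det_fin_two] at hX
    have t1 : ∀ x y : K, φ x * Gi * (φ y)ᵀ = φ (x * y) * Gi := by
      intro x y; rw [mul_assoc, ← hxg, ← mul_assoc, map_mul]
    have hQJ : Q * Matrix.J (Fin 2) F * Qᵀ = Matrix.fromBlocks 0 (-Gi) Gi 0 := by
      simp [Q, Matrix.J, Matrix.fromBlocks_transpose, Matrix.fromBlocks_multiply, hGit]
    have hB : B X * Matrix.fromBlocks 0 (-Gi) Gi 0 * (B X)ᵀ = Matrix.fromBlocks 0 (-Gi) Gi 0 := by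
      simp only [B, Matrix.fromBlocks_transpose, Matrix.fromBlocks_multiply, mul_zero, zero_mul, zero_add,
        add_zero, mul_neg, neg_mul, t1, ← sub_eq_add_neg, ← sub_mul, ← map_sub]
      rw [show X 0 1 * X 0 0 - X 0 0 * X 0 1 = 0 by ring,
        show X 1 1 * X 1 0 - X 1 0 * X 1 1 = 0 by ring,
        show X 0 1 * X 1 0 - X 0 0 * X 1 1 = -1 by linear_combination -hX,
        show X 1 1 * X 0 0 - X 1 0 * X 0 1 = 1 by linear_combination hX,
        map_zero, map_neg, map_one, zero_mul, neg_mul, one_mul]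
    have hPJ : P * Matrix.fromBlocks 0 (-Gi) Gi 0 * Pᵀ = Matrix.J (Fin 2) F := by
      simp [P, Matrix.J, Matrix.fromBlocks_transpose, Matrix.fromBlocks_multiply, hGt, hG1, hG2]
    rw [SymplecticGroup.mem_iff]
    simp only [Ψ, Matrix.transpose_mul]
    rw [show P * B X * Q * Matrix.J (Fin 2) F * (Qᵀ * ((B X)ᵀ * Pᵀ)) =
      P * (B X * (Q * Matrix.J (Fin 2) F * Qᵀ) * (B X)ᵀ) * Pᵀ by simp only [mul_assoc], hQJ, hB, hPJ]
  let Φ : Matrix.SpecialLinearGroup (Fin 2) K →* Sp4 :=
    { toFun := fun A => ⟨Ψ A.1, hmem A.1 A.2⟩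
      map_one' := Subtype.ext hΨone
      map_mul' := fun A B => Subtype.ext (hΨmul A.1 B.1) }
  refine ⟨Φ, fun A a => ?_⟩
  show P * B A.1 * Q = a • (1 : M4) ↔ _
  have hmove : P * B A.1 * Q = a • (1 : M4) ↔ B A.1 = a • (1 : M4) := by
    constructor
    · intro h
      have h' : Q * (P * B A.1 * Q) * P = Q * (a • (1 : M4)) * P := congrArg (fun Y : M4 => Q * Y * P) h
      rw [show Q * (P * B A.1 * Q) * P = (Q * P) * B A.1 * (Q * P) by noncomm_ring, hQP, one_mul, mul_one,
        Matrix.mul_smul, Matrix.smul_mul, mul_one, hQP] at h'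
      exact h'
    · intro h
      rw [h, Matrix.mul_smul, Matrix.smul_mul, mul_one, hPQ]
  rw [hmove, ← Matrix.fromBlocks_one, Matrix.fromBlocks_smul]
  simp only [B, Matrix.fromBlocks_inj, smul_zero]
  have hscal : φ (algebraMap F K a) = a • (1 : Matrix (Fin 2) (Fin 2) F) := by
    rw [AlgHom.commutes, Algebra.algebraMap_eq_smul_one]
  constructor
  · rintro ⟨h1, h2, h3, h4⟩
    have e2 : A.1 0 1 = 0 := hφ (by rw [h2, map_zero])
    have e3 : A.1 1 0 = 0 := hφ (by rw [h3, map_zero])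
    have e1 : A.1 0 0 = algebraMap F K a := hφ (by rw [h1, hscal])
    have e4 : A.1 1 1 = algebraMap F K a := hφ (by rw [h4, hscal])
    rw [Matrix.eta_fin_two A.1, e1, e2, e3, e4]
    ext i j
    fin_cases i <;> fin_cases j <;> simp [K]
  · intro h
    have e : ∀ i j, A.1 i j = if i = j then algebraMap F K a else 0 := by
      intro i j
      rw [h, Matrix.smul_apply, Matrix.one_apply, smul_eq_mul, mul_ite, mul_one, mul_zero]
    refine ⟨?_, ?_, ?_, ?_⟩
    · rw [e, if_pos rfl, hscal]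
    · rw [e, if_neg (by decide), map_zero]
    · rw [e, if_neg (by decide), map_zero]
    · rw [e, if_pos rfl, hscal]

lemma dvd_elliptic : ∃ x : Cfsg.PSp 2 F, orderOf x = (Fintype.card F ^ 2 + 1) / gfac p := by
  classical
  let K := FiniteField.Extension F p 2
  haveI : Finite K := Module.finite_of_finite F
  haveI : CharP K p := charP_of_injective_algebraMap (algebraMap F K).injective p
  obtain ⟨A, hA⟩ := PSL2Elements.exists_nonsplit (F := K)
  obtain ⟨hcyc, hcard⟩ := PSL2Elements.centralizer_nonsplit hA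
  obtain ⟨⟨Cc, hCm⟩, hC⟩ := hcyc.exists_ofOrder_eq_natCard
  rw [hcard, FiniteField.natCard_extension, Nat.card_eq_fintype_card, Subgroup.orderOf_mk] at hC
  obtain ⟨Φ, hΦ⟩ := exists_hom (F := F) p
  obtain ⟨n', -, hn'⟩ := FiniteField.card F p
  have hgdvd : gfac p ∣ Fintype.card F ^ 2 + 1 := by
    unfold gfac; split_ifs with hp
    · exact one_dvd _
    · have : Odd (Fintype.card F ^ 2) := by
        rw [hn']; exact (((Fact.out : p.Prime).odd_of_ne_two hp).pow).pow
      obtain ⟨j, hj⟩ := this; omega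
  have key := half_iff Cc p ((Fintype.card F ^ 2 + 1) / gfac p)
    (by rw [hC, Nat.mul_div_cancel' hgdvd])
    (fun hp => by subst hp; apply Subtype.ext; simp [CharTwo.neg_eq])
    (fun hp n hn => PSL2Elements.eq_one_or_neg_one_of_sq_eq_one (fun h2 => hp (by
      have h' : ((2 : ℕ) : K) = 0 := by exact_mod_cast h2
      exact (Nat.prime_dvd_prime_iff_eq Fact.out Nat.prime_two).1 ((CharP.cast_eq_zero_iff K p 2).1 h'))) hn)
  refine ⟨QuotientGroup.mk (Φ Cc), orderOf_eq_of_iff fun n => ?_⟩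
  rw [mk_pow_eq_one_iff, ← SubmonoidClass.coe_pow, ← map_pow, ← key n]
  constructor
  · rintro ⟨a, ha⟩
    rw [hΦ] at ha
    rw [← PSL2Elements.mem_center_iff, PSL2Elements.mem_center_iff_entries, ha]
    simp
  · rintro (e | e)
    · exact ⟨1, by rw [hΦ, e]; simp⟩
    · refine ⟨-1, ?_⟩
      rw [hΦ, e]
      simp

lemma dvd_mixed (T : Matrix.SpecialLinearGroup (Fin 2) F) (N : ℕ) (hT : orderOf T = N) (hN : p.Coprime N) :
    ∃ x : Cfsg.PSp 2 F, orderOf x = p * N := by
  classical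
  let U : Matrix.SpecialLinearGroup (Fin 2) F := PSL2Elements.u 1
  let emb : Matrix.SpecialLinearGroup (Fin 2) F × Matrix.SpecialLinearGroup (Fin 2) F → Sp4 := fun x =>
    ⟨Matrix.fromBlocks (Matrix.diagonal ![x.1.1 0 0, x.2.1 0 0]) (Matrix.diagonal ![x.1.1 0 1, x.2.1 0 1])
      (Matrix.diagonal ![x.1.1 1 0, x.2.1 1 0]) (Matrix.diagonal ![x.1.1 1 1, x.2.1 1 1]), by
      have h1 := PSL2Elements.det_eq x.1
      have h2 := PSL2Elements.det_eq x.2
      rw [SymplecticGroup.mem_iff, Matrix.J, Matrix.fromBlocks_transpose, Matrix.fromBlocks_multiply,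
        Matrix.fromBlocks_multiply]
      simp only [Matrix.diagonal_transpose, mul_zero, zero_add, mul_one, add_zero, mul_neg, neg_mul,
        Matrix.diagonal_mul_diagonal]
      congr 1 <;>
        · ext i j
          fin_cases i <;> fin_cases j <;> simp <;> grind⟩
  let φ : Matrix.SpecialLinearGroup (Fin 2) F × Matrix.SpecialLinearGroup (Fin 2) F →* Sp4 :=
    { toFun := emb
      map_one' := by
        apply Subtype.ext
        show Matrix.fromBlocks _ _ _ _ = (1 : M4)
        rw [← Matrix.fromBlocks_one]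
        congr 1 <;>
          · ext i j
            fin_cases i <;> fin_cases j <;> simp
      map_mul' := fun x y => by
        apply Subtype.ext
        show Matrix.fromBlocks _ _ _ _ = Matrix.fromBlocks _ _ _ _ * Matrix.fromBlocks _ _ _ _
        rw [Matrix.fromBlocks_multiply]
        simp only [Matrix.diagonal_mul_diagonal, Matrix.diagonal_add]
        congr 1 <;>
          · ext i j
            fin_cases i <;> fin_cases j <;> simp [PSL2Elements.mul_apply2] }
  refine ⟨QuotientGroup.mk (φ (U, T)), orderOf_eq_of_iff fun n => ?_⟩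
  rw [mk_pow_eq_one_iff, ← SubmonoidClass.coe_pow, ← map_pow]
  have hU : ∀ m : ℕ, U ^ m = PSL2Elements.u (m : F) := by
    intro m
    induction m with
    | zero => simp [PSL2Elements.u_zero]
    | succ m ih => rw [pow_succ, ih, PSL2Elements.u_mul]; push_cast; rfl
  constructor
  · rintro ⟨a, ha⟩
    rw [← Matrix.fromBlocks_one, Matrix.fromBlocks_smul] at ha
    obtain ⟨hA', hB', hC', hD'⟩ := Matrix.fromBlocks_inj.1 ha
    have a0 := congrFun (congrFun hA' 0) 0
    have a1 := congrFun (congrFun hA' 1) 1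
    have b0 := congrFun (congrFun hB' 0) 0
    have b1 := congrFun (congrFun hB' 1) 1
    have c1 := congrFun (congrFun hC' 1) 1
    have d1 := congrFun (congrFun hD' 1) 1
    simp [hU, PSL2Elements.u] at a0 a1 b0 b1 c1 d1
    have hp : p ∣ n := (CharP.cast_eq_zero_iff F p n).1 b0
    have hTn : T ^ n = 1 := by
      apply PSL2Elements.ext2 <;> simp [a1, b1, c1, d1, ← a0]
    exact hN.mul_dvd_of_dvd_of_dvd hp (hT ▸ orderOf_dvd_of_pow_eq_one hTn)
  · intro h
    refine ⟨1, ?_⟩
    have h1 : U ^ n = 1 := by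
      rw [hU, (CharP.cast_eq_zero_iff F p n).2 ((dvd_mul_right p N).trans h), PSL2Elements.u_zero]
    have h2 : T ^ n = 1 := orderOf_dvd_iff_pow_eq_one.1 (hT ▸ (dvd_mul_left N p).trans h)
    rw [Prod.pow_mk, h1, h2, show ((1, 1) : Matrix.SpecialLinearGroup (Fin 2) F ×
      Matrix.SpecialLinearGroup (Fin 2) F) = 1 from rfl, map_one, one_smul]
    rfl

lemma exists_order_sub_one : ∃ T : Matrix.SpecialLinearGroup (Fin 2) F, orderOf T = Fintype.card F - 1 := by
  classical
  obtain ⟨z, hz⟩ := IsCyclic.exists_ofOrder_eq_natCard (α := Fˣ)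
  rw [Nat.card_units, Nat.card_eq_fintype_card] at hz
  exact ⟨PSL2Elements.dHom z, by rw [orderOf_injective _ PSL2Elements.dHom_injective, hz]⟩

lemma exists_order_add_one : ∃ T : Matrix.SpecialLinearGroup (Fin 2) F, orderOf T = Fintype.card F + 1 := by
  classical
  obtain ⟨A, hA⟩ := PSL2Elements.exists_nonsplit (F := F)
  obtain ⟨hcyc, hcard⟩ := PSL2Elements.centralizer_nonsplit hA
  obtain ⟨⟨C', hCm⟩, hC⟩ := hcyc.exists_ofOrder_eq_natCard
  rw [hcard, Nat.card_eq_fintype_card, Subgroup.orderOf_mk] at hC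
  exact ⟨C', hC⟩

/-- A regular unipotent, over the prime field. -/
def regU (R : Type*) [CommRing R] : Matrix (Fin 2 ⊕ Fin 2) (Fin 2 ⊕ Fin 2) R :=
  Matrix.fromBlocks !![1, 1; 0, 1] !![0, 1; 0, 1] 0 !![1, 0; -1, 1]

lemma regU_mem : regU F ∈ Matrix.symplecticGroup (Fin 2) F := by
  rw [SymplecticGroup.mem_iff, regU, Matrix.J, Matrix.fromBlocks_transpose, Matrix.fromBlocks_multiply,
    Matrix.fromBlocks_multiply]
  congr 1 <;>
    · ext i j
      fin_cases i <;> fin_cases j <;> simp [Matrix.mul_apply, Matrix.vecMul, dotProduct, Fin.sum_univ_two]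

lemma regU_two : regU (ZMod 2) ^ 2 ^ 2 = 1 ∧ ∃ i j, i ≠ j ∧ (regU (ZMod 2) ^ 2) i j ≠ 0 := by
  refine ⟨by decide, Sum.inl 0, Sum.inr 0, by decide, by decide⟩

lemma regU_three : regU (ZMod 3) ^ 3 ^ 2 = 1 ∧ ∃ i j, i ≠ j ∧ (regU (ZMod 3) ^ 3) i j ≠ 0 := by
  refine ⟨by decide, Sum.inl 0, Sum.inr 0, by decide, by decide⟩

lemma exists_order_prime_sq (hp : p = 2 ∨ p = 3) : ∃ x : Cfsg.PSp 2 F, orderOf x = p ^ 2 := by
  classical
  let f : ZMod p →+* F := ZMod.castHom dvd_rfl F
  have hmap : regU F = (regU (ZMod p)).map f := by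
    rw [regU, regU, Matrix.fromBlocks_map]
    congr 1 <;>
      · ext i j
        fin_cases i <;> fin_cases j <;> simp
  have hpow : ∀ n, regU F ^ n = (regU (ZMod p) ^ n).map f := by
    intro n
    rw [hmap, ← RingHom.mapMatrix_apply, ← map_pow, RingHom.mapMatrix_apply]
  have h0 : regU (ZMod p) ^ p ^ 2 = 1 ∧ ∃ i j, i ≠ j ∧ (regU (ZMod p) ^ p) i j ≠ 0 := by
    rcases hp with rfl | rfl
    · exact regU_two
    · exact regU_three
  refine ⟨QuotientGroup.mk ⟨regU F, regU_mem⟩, ?_⟩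
  refine orderOf_eq_prime_pow ?_ ?_
  · rw [pow_one, mk_pow_eq_one_iff]
    rintro ⟨a, ha⟩
    obtain ⟨i, j, hij, hne⟩ := h0.2
    apply hne
    apply f.injective
    have := congrFun (congrFun ((hpow p).symm.trans ha) i) j
    rw [map_zero]
    simpa [hij] using this
  · rw [mk_pow_eq_one_iff]
    exact ⟨1, by rw [one_smul, hpow, h0.1, Matrix.map_one f (map_zero f) (map_one f)]⟩

theorem exists_orderOf_iff (d : ℕ) :
    (∃ x : Cfsg.PSp 2 F, orderOf x = d) ↔ ∃ k ∈ exps p (Fintype.card F), d ∣ k := by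
  classical
  constructor
  · rintro ⟨x, rfl⟩
    obtain ⟨k, hk, h⟩ := pow_cases p x
    exact ⟨k, hk, orderOf_dvd_of_pow_eq_one h⟩
  · rintro ⟨k, hk, hd⟩
    suffices ∃ x : Cfsg.PSp 2 F, orderOf x = k by
      obtain ⟨x, hx⟩ := this
      exact ⟨_, orderOf_pow_orderOf_div (orderOf_pos x).ne' (hx.symm ▸ hd)⟩
    have hpq : p ∣ Fintype.card F := by
      rw [← CharP.cast_eq_zero_iff F p]; exact FiniteField.cast_card_eq_zero F
    have hp := (Fact.out : p.Prime)
    have hcop : ∀ N : ℕ, N + 1 = Fintype.card F ∨ Fintype.card F + 1 = N → p.Coprime N := by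
      intro N hN
      rw [hp.coprime_iff_not_dvd]
      intro h
      apply hp.not_dvd_one
      rcases hN with e | e
      · exact (Nat.dvd_add_right h).1 (e ▸ hpq)
      · exact (Nat.dvd_add_right hpq).1 (e ▸ h)
    have hq : 1 ≤ Fintype.card F := Fintype.card_pos
    simp only [exps, Finset.mem_insert, Finset.mem_singleton] at hk
    rcases hk with rfl | rfl | rfl | rfl | rfl
    · exact dvd_elliptic p
    · exact dvd_levi p
    · obtain ⟨T, hT⟩ := exists_order_add_one (F := F)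
      exact dvd_mixed p T _ hT (hcop _ (Or.inr rfl))
    · obtain ⟨T, hT⟩ := exists_order_sub_one (F := F)
      exact dvd_mixed p T _ hT (hcop _ (Or.inl (Nat.sub_add_cancel hq)))
    · unfold extra
      split_ifs with h2 h3
      · subst h2; exact exists_order_prime_sq 2 (Or.inl rfl)
      · subst h3; exact exists_order_prime_sq 3 (Or.inr rfl)
      · simpa using dvd_mixed p (1 : Matrix.SpecialLinearGroup (Fin 2) F) 1 orderOf_one (Nat.coprime_one_right p)

end Extension

end Cfsg.Agent.PSp4Orders
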