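import Mathlib
import Cfsg.Agent.Lib.PSL2Elements

set_option autoImplicit false

/-!
Twisted tensor representations of `SL(2)`: `A ⊗ f(A)`, `Sym²`, and the fixed vector criterion.
-/

namespace Cfsg.Agent.TensorRep

open Matrix hiding comp
open scoped Kronecker MatrixGroups

variable {R S : Type*} [CommRing R] [CommRing S]

/-- `X ↦ X ⊗ f(X)`. -/
def tens (f : R →+* R) : Matrix (Fin 2) (Fin 2) R →* Matrix (Fin 2 × Fin 2) (Fin 2 × Fin 2) R where
  toFun X := X ⊗ₖ X.map f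
  map_one' := by rw [Matrix.map_one f (map_zero f) (map_one f), Matrix.one_kronecker_one]
  map_mul' X Y := by rw [Matrix.map_mul, Matrix.mul_kronecker_mul]

lemma tens_apply (f : R →+* R) (X : Matrix (Fin 2) (Fin 2) R) (i j : Fin 2 × Fin 2) :
    tens f X i j = X i.1 j.1 * f (X i.2 j.2) := rfl

lemma tens_map (f : R →+* R) (g : S →+* S) (φ : R →+* S) (h : ∀ x, φ (f x) = g (φ x))
    (X : Matrix (Fin 2) (Fin 2) R) : (tens f X).map φ = tens g (X.map φ) := by
  ext i j; simp [tens_apply, h]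

/-- The symmetric square. -/
def sym2 : Matrix (Fin 2) (Fin 2) R →* Matrix (Fin 3) (Fin 3) R where
  toFun X := !![X 0 0 ^ 2, X 0 0 * X 0 1, X 0 1 ^ 2;
    2 * X 0 0 * X 1 0, X 0 0 * X 1 1 + X 0 1 * X 1 0, 2 * X 0 1 * X 1 1;
    X 1 0 ^ 2, X 1 0 * X 1 1, X 1 1 ^ 2]
  map_one' := by ext i j; fin_cases i <;> fin_cases j <;> simp
  map_mul' X Y := by
    ext i j
    fin_cases i <;> fin_cases j <;>
      simp [Matrix.mul_apply, Fin.sum_univ_two, Fin.sum_univ_three] <;> ring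

lemma sym2_map (φ : R →+* S) (X : Matrix (Fin 2) (Fin 2) R) : (sym2 X).map φ = sym2 (X.map φ) := by
  ext i j; fin_cases i <;> fin_cases j <;> simp [sym2, map_ofNat]

/-- `X ↦ X ⊗ f(X) ⊗ Sym²(g(X))`. -/
def triple (f g : R →+* R) :
    Matrix (Fin 2) (Fin 2) R →* Matrix ((Fin 2 × Fin 2) × Fin 3) ((Fin 2 × Fin 2) × Fin 3) R where
  toFun X := tens f X ⊗ₖ sym2 (X.map g)
  map_one' := by rw [map_one, Matrix.map_one g (map_zero g) (map_one g), map_one, Matrix.one_kronecker_one]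
  map_mul' X Y := by rw [map_mul, Matrix.map_mul, map_mul, Matrix.mul_kronecker_mul]

lemma triple_apply (f g : R →+* R) (X : Matrix (Fin 2) (Fin 2) R) (i j : (Fin 2 × Fin 2) × Fin 3) :
    triple f g X i j = X i.1.1 j.1.1 * f (X i.1.2 j.1.2) * sym2 (X.map g) i.2 j.2 := rfl

lemma triple_map (f g : R →+* R) (f' g' : S →+* S) (φ : R →+* S) (hf : ∀ x, φ (f x) = f' (φ x))
    (hg : ∀ x, φ (g x) = g' (φ x)) (X : Matrix (Fin 2) (Fin 2) R) :
    (triple f g X).map φ = triple f' g' (X.map φ) := by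
  have e : (sym2 (X.map g)).map φ = sym2 ((X.map φ).map g') := by
    rw [sym2_map]; congr 1; ext i j; simp [hg]
  ext i j
  rw [Matrix.map_apply, triple_apply, triple_apply, ← e]
  simp [hf]

section Field

variable {K L : Type*} [Field K] [Field L]

/-- The weights of `tens`. -/
def tensW (f : L →+* L) (l : L) (i : Fin 2 × Fin 2) : L :=
  ![l, l⁻¹] i.1 * f (![l, l⁻¹] i.2)

/-- The weights of `triple`. -/
def tripleW (f g : L →+* L) (l : L) (i : (Fin 2 × Fin 2) × Fin 3) : L :=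
  tensW f l i.1 * ![g l ^ 2, 1, (g l)⁻¹ ^ 2] i.2

lemma tens_diag (f : L →+* L) (l : L) : tens f !![l, 0; 0, l⁻¹] = diagonal (tensW f l) := by
  ext ⟨a, b⟩ ⟨c, d⟩
  fin_cases a <;> fin_cases b <;> fin_cases c <;> fin_cases d <;> simp [tens_apply, tensW]

lemma triple_diag (f g : L →+* L) {l : L} (hl : l ≠ 0) :
    triple f g !![l, 0; 0, l⁻¹] = diagonal (tripleW f g l) := by
  ext ⟨a, b⟩ ⟨c, d⟩
  rw [triple_apply]
  have h : sym2 ((!![l, 0; 0, l⁻¹] : Matrix (Fin 2) (Fin 2) L).map g) =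
      diagonal ![g l ^ 2, 1, (g l)⁻¹ ^ 2] := by
    ext i j
    fin_cases i <;> fin_cases j <;> simp [sym2, map_inv₀, (map_ne_zero g).2 hl]
  have h2 := congrFun (congrFun (tens_diag f l) a) c
  rw [tens_apply] at h2
  rw [h, h2, Matrix.diagonal_apply, Matrix.diagonal_apply, Matrix.diagonal_apply, tripleW]
  simp only [Prod.mk.injEq]
  split_ifs <;> simp_all

/-- Diagonalisation. -/
lemma exists_diag [IsAlgClosed L] (B : Matrix (Fin 2) (Fin 2) L) (hdet : B.det = 1) (htr : B.trace ^ 2 ≠ 4) :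
    ∃ (P : (Matrix (Fin 2) (Fin 2) L)ˣ) (l : L), l ≠ 0 ∧ l + l⁻¹ = B.trace ∧
      B = P.val * !![l, 0; 0, l⁻¹] * (P⁻¹).val := by
  rw [Matrix.trace_fin_two] at htr ⊢
  rw [Matrix.det_fin_two] at hdet
  obtain ⟨a, b, c, d, rfl⟩ : ∃ a b c d, B = !![a, b; c, d] := ⟨_, _, _, _, Matrix.eta_fin_two B⟩
  simp at htr hdet
  show ∃ (P : (Matrix (Fin 2) (Fin 2) L)ˣ) (l : L), l ≠ 0 ∧ l + l⁻¹ = a + d ∧
    !![a, b; c, d] = P.val * !![l, 0; 0, l⁻¹] * (P⁻¹).val
  obtain ⟨l, hl0, hl, hla⟩ : ∃ l : L, l ≠ 0 ∧ l + l⁻¹ = a + d ∧ (b = 0 → l = a) := by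
    by_cases hb : b = 0
    · subst hb
      have ha : a ≠ 0 := by rintro rfl; simp at hdet
      refine ⟨a, ha, ?_, fun _ => rfl⟩
      rw [inv_eq_of_mul_eq_one_right (by linear_combination hdet : a * d = 1)]
    · obtain ⟨r, hr⟩ := IsAlgClosed.exists_root
        (Polynomial.X ^ 2 - Polynomial.C (a + d) * Polynomial.X + 1 : Polynomial L) (by
        have : (Polynomial.X ^ 2 - Polynomial.C (a + d) * Polynomial.X + 1 : Polynomial L).degree = 2 := by
          compute_degree!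
        rw [this]; decide)
      have hr' : r ^ 2 - (a + d) * r + 1 = 0 := by simpa [Polynomial.IsRoot] using hr
      have hr0 : r ≠ 0 := by rintro rfl; simp at hr'
      refine ⟨r, hr0, mul_left_cancel₀ hr0 ?_, fun h => absurd h hb⟩
      linear_combination hr' + mul_inv_cancel₀ hr0
  have hne : l ≠ l⁻¹ := by
    intro h
    apply htr
    rw [← hl, ← h]
    have : l * l = 1 := by nth_rw 2 [h]; exact mul_inv_cancel₀ hl0
    linear_combination 4 * this
  have hinv : l * l⁻¹ = 1 := mul_inv_cancel₀ hl0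
  have key : ∀ x y z w : L, x * w - y * z ≠ 0 → a * x + b * z = l * x → c * x + d * z = l * z →
      a * y + b * w = l⁻¹ * y → c * y + d * w = l⁻¹ * w →
      ∃ (P : (Matrix (Fin 2) (Fin 2) L)ˣ) (l : L), l ≠ 0 ∧ l + l⁻¹ = a + d ∧
        !![a, b; c, d] = P.val * !![l, 0; 0, l⁻¹] * (P⁻¹).val := by
    intro x y z w hP h1 h2 h3 h4
    have hu : IsUnit (!![x, y; z, w] : Matrix (Fin 2) (Fin 2) L) := by
      rw [Matrix.isUnit_iff_isUnit_det, Matrix.det_fin_two_of]
      exact isUnit_iff_ne_zero.2 hP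
    refine ⟨hu.unit, l, hl0, hl, (Units.eq_mul_inv_iff_mul_eq _).2 ?_⟩
    rw [IsUnit.unit_spec]
    ext i j
    fin_cases i <;> fin_cases j <;> simp [Matrix.mul_apply, Fin.sum_univ_two]
    · linear_combination h1
    · linear_combination h3
    · linear_combination h2
    · linear_combination h4
  by_cases hb : b = 0
  · have := hla hb
    subst this hb
    have hd : d = l⁻¹ := by linear_combination -hl
    refine key (l - l⁻¹) 0 c 1 ?_ ?_ ?_ ?_ ?_
    · simpa [sub_eq_zero] using hne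
    · ring
    · rw [hd]; ring
    · ring
    · rw [hd]; ring
  · refine key b b (l - a) (l⁻¹ - a) ?_ ?_ ?_ ?_ ?_
    · rw [show b * (l⁻¹ - a) - b * (l - a) = b * (l⁻¹ - l) by ring]
      exact mul_ne_zero hb (sub_ne_zero.2 hne.symm)
    · ring
    · linear_combination -hdet - l * hl + hinv
    · ring
    · linear_combination -hdet - l⁻¹ * hl + hinv

lemma diag_pow (l : L) (m : ℕ) :
    (!![l, 0; 0, l⁻¹] : Matrix (Fin 2) (Fin 2) L) ^ m = !![l ^ m, 0; 0, (l ^ m)⁻¹] := by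
  induction m with
  | zero => simp [Matrix.one_fin_two]
  | succ m ih =>
    rw [pow_succ, ih, pow_succ]
    ext i j
    fin_cases i <;> fin_cases j <;> simp [Matrix.mul_apply, Fin.sum_univ_two, mul_comm]

/-- A semisimple element fixes a nonzero vector only if some weight is trivial at its eigenvalue. -/
theorem weights [IsAlgClosed L] {ι : Type*} [Fintype ι] [DecidableEq ι] (φ : K →+* L)
    (ρ : Matrix (Fin 2) (Fin 2) K →* Matrix ι ι K) (ρ' : Matrix (Fin 2) (Fin 2) L →* Matrix ι ι L)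
    (hρ : ∀ X, (ρ X).map φ = ρ' (X.map φ)) (w : L → ι → L)
    (hw : ∀ l, l ≠ 0 → ρ' !![l, 0; 0, l⁻¹] = diagonal (w l))
    (A : SL(2, K)) (htr : PSL2Elements.tr A ^ 2 ≠ 4) :
    ∃ l : L, l ≠ 0 ∧ l + l⁻¹ = φ (PSL2Elements.tr A) ∧ (∀ m : ℕ, A ^ m = 1 ↔ l ^ m = 1) ∧
      ((ρ A.1 - 1).det = 0 → ∃ i, w l i = 1) := by
  set B := A.1.map φ with hB
  have hdet : B.det = 1 := by
    rw [hB, ← RingHom.mapMatrix_apply, ← RingHom.map_det, A.2, map_one]
  have htrB : B.trace = φ (PSL2Elements.tr A) := by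
    simp [hB, Matrix.trace_fin_two, PSL2Elements.tr]
  obtain ⟨P, l, hl0, hl, hP⟩ := exists_diag B hdet (by
    rw [htrB]; intro h; apply htr; apply φ.injective; rw [map_pow, h, map_ofNat])
  refine ⟨l, hl0, hl.trans htrB, fun m => ?_, fun h => ?_⟩
  · have h1 : A ^ m = 1 ↔ B ^ m = 1 := by
      rw [hB, ← RingHom.mapMatrix_apply, ← map_pow,
        ← map_one φ.mapMatrix, RingHom.mapMatrix_apply, RingHom.mapMatrix_apply,
        (Matrix.map_injective φ.injective).eq_iff, ← PSL2Elements.coe_pow', ← PSL2Elements.coe_one']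
      exact Subtype.ext_iff
    rw [h1, hP, Units.conj_pow, Units.mul_inv_eq_iff_eq_mul, one_mul, diag_pow]
    constructor
    · intro h
      have := congrFun (congrFun ((Units.mul_right_inj P).1 (h.trans (mul_one P.val).symm)) 0) 0
      simpa using this
    · intro h; rw [h]; simp [← Matrix.one_fin_two]
  · have h0 : ((ρ A.1).map φ - 1).det = 0 := by
      have := congrArg φ h
      rwa [RingHom.map_det, map_zero, map_sub, map_one, RingHom.mapMatrix_apply] at this
    rw [hρ, ← hB, hP, map_mul, map_mul, hw l hl0] at h0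
    have h1 : (ρ' P.val * diagonal (w l) * ρ' (P⁻¹).val - 1) =
        ρ' P.val * (diagonal (w l) - 1) * ρ' (P⁻¹).val := by
      rw [mul_sub, mul_one, sub_mul, ← map_mul ρ' P.val, Units.mul_inv, map_one]
    have h2 : (ρ' P.val).det * (ρ' (P⁻¹).val).det = 1 := by
      rw [← Matrix.det_mul, ← map_mul, Units.mul_inv, map_one, Matrix.det_one]
    rw [h1, Matrix.det_mul, Matrix.det_mul, mul_comm (Matrix.det (ρ' P.val)), mul_assoc, h2, mul_one,
      show diagonal (w l) - 1 = diagonal (fun i => w l i - 1) by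
        rw [← Matrix.diagonal_one, Matrix.diagonal_sub], Matrix.det_diagonal, Finset.prod_eq_zero_iff] at h0
    obtain ⟨i, -, hi⟩ := h0
    exact ⟨i, sub_eq_zero.1 hi⟩

end Field

end Cfsg.Agent.TensorRep
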