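import Mathlib
import Cfsg.Agent.Lib.PSL2Elements
import Cfsg.Agent.Lib.LinearExtension
import Cfsg.Agent.Lib.TensorRep
import Cfsg.Agent.Lib.PSp4Orders

set_option autoImplicit false

/-!
For `q` even, `q` a power of a prime `≥ 5`, or `q = 9^j`, groups of unbounded order with the element orders
of `PSp(4,q)`: linear extensions of twisted tensor modules of `SL(2,q²)`.
-/

namespace Cfsg.Agent.IsospectralPSp4

open Matrix hiding comp
open Finset
open scoped MatrixGroups
open LinearExtension TensorRep PSp4Orders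

variable {K : Type} [Field K] (p n : ℕ) [Fact p.Prime] [CharP K p]

/-- The coercion to matrices. -/
def coeHom : SL(2, K) →* Matrix (Fin 2) (Fin 2) K where
  toFun A := A.1
  map_one' := rfl
  map_mul' _ _ := rfl

/-- The twist `x ↦ x^(p^n)`. -/
abbrev fr : K →+* K := iterateFrobenius K p n

lemma fr_apply (x : K) : fr p n x = x ^ p ^ n := iterateFrobenius_def p n x

/-- `A ⊗ A^(q)`. -/
def rep4 : SL(2, K) →* Matrix (Fin 2 × Fin 2) (Fin 2 × Fin 2) K := (tens (fr p n)).comp coeHom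

lemma rep4_apply (A : SL(2, K)) : rep4 p n A = tens (fr p n) A.1 := rfl

/-- `A ⊗ A^(3) ⊗ Sym²(A^(q))`. -/
def rep12 : SL(2, K) →* Matrix ((Fin 2 × Fin 2) × Fin 3) ((Fin 2 × Fin 2) × Fin 3) K :=
  (triple (fr p 1) (fr p n)).comp coeHom

section General

variable {ι : Type} [Fintype ι] [DecidableEq ι] (ρ : SL(2, K) →* Matrix ι ι K)

/-- The linear group. -/
def img : Subgroup (Matrix ι ι K)ˣ := ρ.toHomUnits.range

/-- The element of the image. -/
def toImg (A : SL(2, K)) : img ρ := ⟨ρ.toHomUnits A, ⟨A, rfl⟩⟩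

lemma mat_toImg (A : SL(2, K)) : ((toImg ρ A : (Matrix ι ι K)ˣ) : Matrix ι ι K) = ρ A :=
  MonoidHom.coe_toHomUnits ρ A

lemma exists_img {k : ℕ} (x : Ext k (img ρ)) : ∃ A : SL(2, K), mat x = ρ A := by
  obtain ⟨A, hA⟩ := x.right.2
  exact ⟨A, by rw [mat, ← hA, MonoidHom.coe_toHomUnits]⟩

omit [CharP K p] in
lemma two_ne_zero' [CharP K p] (hp : p ≠ 2) : (2 : K) ≠ 0 := by
  intro h
  have h' : ((2 : ℕ) : K) = 0 := by exact_mod_cast h
  exact hp ((Nat.prime_dvd_prime_iff_eq Fact.out Nat.prime_two).1 ((CharP.cast_eq_zero_iff K p 2).1 h'))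

lemma neg_one_eq_one (hp : p = 2) : (-1 : SL(2, K)) = 1 := by
  subst hp
  apply Subtype.ext
  simp [CharTwo.neg_eq]

variable {p}

lemma pow_half (A : SL(2, K)) (hker : ∀ A, ρ A = 1 ↔ A = 1 ∨ A = -1) {N : ℕ} (hg : gfac p ∣ N)
    (h : A ^ N = 1) : ρ A ^ (N / gfac p) = 1 := by
  rw [← map_pow, hker]
  unfold gfac at hg ⊢
  split_ifs at hg ⊢ with hp
  · left; rwa [Nat.div_one]
  · exact PSL2Elements.eq_one_or_neg_one_of_sq_eq_one (two_ne_zero' p hp)
      (by rw [← pow_mul, Nat.div_mul_cancel hg, h])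

lemma orderOf_rep (A : SL(2, K)) (hker : ∀ A, ρ A = 1 ↔ A = 1 ∨ A = -1) {M : ℕ}
    (h : orderOf A = gfac p * M) : orderOf (ρ A) = M := by
  refine orderOf_eq_of_iff fun m => ?_
  rw [← map_pow, hker]
  exact half_iff A p M h (neg_one_eq_one p)
    (fun hp j hj => PSL2Elements.eq_one_or_neg_one_of_sq_eq_one (two_ne_zero' p hp) hj) m

omit [CharP K p] in
lemma exists_unit_order [Finite K] {d : ℕ} (h : d ∣ Nat.card K - 1) : ∃ z : Kˣ, orderOf z = d := by
  obtain ⟨z, hz⟩ := IsCyclic.exists_ofOrder_eq_natCard (α := Kˣ)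
  rw [Nat.card_units] at hz
  exact ⟨_, orderOf_pow_orderOf_div (orderOf_pos z).ne' (hz.symm ▸ h)⟩

lemma exists_sl_orders [Finite K] : (∃ A : SL(2, K), orderOf A = Nat.card K - 1) ∧
    ∃ A : SL(2, K), orderOf A = Nat.card K + 1 := by
  constructor
  · obtain ⟨z, hz⟩ := exists_unit_order (K := K) dvd_rfl
    exact ⟨PSL2Elements.dHom z, by rw [orderOf_injective _ PSL2Elements.dHom_injective, hz]⟩
  · obtain ⟨A, hA⟩ := PSL2Elements.exists_nonsplit (F := K)
    obtain ⟨hcyc, hcard⟩ := PSL2Elements.centralizer_nonsplit hA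
    obtain ⟨⟨C, hCm⟩, hC⟩ := hcyc.exists_ofOrder_eq_natCard
    rw [hcard, Subgroup.orderOf_mk] at hC
    exact ⟨C, hC⟩

lemma orderOf_d {z : Kˣ} : orderOf (PSL2Elements.d z) = orderOf z :=
  orderOf_injective _ PSL2Elements.dHom_injective z

omit [CharP K p] in
lemma d_val (z : Kˣ) : (PSL2Elements.d z).1 = !![(z : K), 0; 0, (z : K)⁻¹] := by
  ext i j; fin_cases i <;> fin_cases j <;> simp [PSL2Elements.d, PSL2Elements.mk2]

omit [CharP K p] in
lemma diagonal_mulVec_single_of_eq_one (w : ι → K) (i : ι) (h : w i = 1) :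
    diagonal w *ᵥ Pi.single i 1 = Pi.single i 1 := by
  funext j
  rw [Matrix.mulVec_diagonal]
  by_cases hj : j = i
  · subst hj; simp [h]
  · simp [Pi.single_eq_of_ne hj]

lemma trichotomy' [Finite K] (A : SL(2, K)) :
    (PSL2Elements.tr A ^ 2 = 4 ∧ (A ^ p = 1 ∨ (-A) ^ p = 1)) ∨
      (PSL2Elements.tr A ^ 2 ≠ 4 ∧ (A ^ (Nat.card K - 1) = 1 ∨ A ^ (Nat.card K + 1) = 1)) := by
  by_cases h : PSL2Elements.tr A ^ 2 = 4
  · refine Or.inl ⟨h, ?_⟩
    have h' : (PSL2Elements.tr A - 2) * (PSL2Elements.tr A + 2) = 0 := by linear_combination h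
    rcases mul_eq_zero.1 h' with e | e
    · exact Or.inl (PSL2Elements.pow_char p (sub_eq_zero.1 e))
    · exact Or.inr (PSL2Elements.pow_char p (by rw [PSL2Elements.tr_neg]; linear_combination -e))
  · refine Or.inr ⟨h, ?_⟩
    rcases PSL2Elements.pow_trichotomy p A with ⟨e, -⟩ | ⟨e, -⟩ | e | e
    · exact absurd (by rw [e]; norm_num) h
    · exact absurd (by rw [e]; norm_num) h
    · exact Or.inl e
    · exact Or.inr e

lemma rep_pow_char (A : SL(2, K)) (hker : ∀ A, ρ A = 1 ↔ A = 1 ∨ A = -1)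
    (h : A ^ p = 1 ∨ (-A) ^ p = 1) : ρ A ^ p = 1 := by
  rcases h with h | h
  · rw [← map_pow, h, map_one]
  · rw [← map_pow, hker]
    rcases neg_one_pow_eq_or SL(2, K) p with e | e <;> rw [neg_pow, e] at h
    · left; rwa [one_mul] at h
    · right; rwa [neg_one_mul, neg_eq_iff_eq_neg] at h

end General

section Frame

variable {p}

lemma rep4_ker (A : SL(2, K)) : rep4 p n A = 1 ↔ A = 1 ∨ A = -1 := by
  constructor
  · intro h
    rw [rep4_apply] at h
    have e : ∀ i j : Fin 2 × Fin 2, A.1 i.1 j.1 * fr p n (A.1 i.2 j.2) = (1 : Matrix (Fin 2 × Fin 2) _ K) i j :=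
      fun i j => congrFun (congrFun h i) j
    have h01 := e (0, 0) (1, 1)
    have h10 := e (1, 1) (0, 0)
    have h00 := e (0, 0) (0, 0)
    have h11 := e (0, 1) (0, 1)
    simp at h01 h10 h00 h11
    have b : A.1 0 1 = 0 := h01
    have c : A.1 1 0 = 0 := h10
    have a0 : A.1 0 0 ≠ 0 := by intro h; rw [h, zero_mul] at h00; exact zero_ne_one h00
    have had : A.1 0 0 = A.1 1 1 := (fr p n).injective (mul_left_cancel₀ a0 (h00.trans h11.symm))
    rw [← PSL2Elements.mem_center_iff, PSL2Elements.mem_center_iff_entries]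
    exact ⟨b, c, had⟩
  · rintro (rfl | rfl)
    · exact map_one _
    · ext i j
      simp [rep4_apply, tens_apply, Matrix.one_apply, Prod.ext_iff, map_neg]
      split_ifs <;> simp_all

variable (p) in
/-- The hypotheses on the field. -/
def Big (K : Type) (n : ℕ) : Prop := Nat.card K = (p ^ n) ^ 2 ∧ 1 ≤ n

variable {n}

lemma Big.two_le (h : Big p K n) : 2 ≤ p ^ n :=
  le_trans (Fact.out : p.Prime).two_le (Nat.le_self_pow (by have := h.2; omega) p)

lemma Big.sq_sub (h : Big p K n) : Nat.card K - 1 = (p ^ n + 1) * (p ^ n - 1) := by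
  rw [h.1, ← Nat.sq_sub_sq, one_pow]

lemma Big.gfac_dvd' (h : Big p K n) :
    gfac p ∣ p ^ n - 1 ∧ gfac p ∣ p ^ n + 1 ∧ gfac p ∣ Nat.card K - 1 ∧ gfac p ∣ Nat.card K + 1 := by
  have h' := gfac_dvd (p := p) (q := p ^ n) (fun hp =>
    Nat.odd_iff.1 (((Fact.out : p.Prime).odd_of_ne_two hp).pow))
  refine ⟨h'.1, h'.2, h.sq_sub ▸ Dvd.dvd.mul_left h'.1 _, ?_⟩
  unfold gfac at h' ⊢; split_ifs at h' ⊢ with hp
  · exact one_dvd _
  · have : Odd (p ^ n) := ((Fact.out : p.Prime).odd_of_ne_two hp).pow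
    have h2 := this.pow (n := 2)
    rw [← h.1] at h2
    exact (Odd.add_one h2).two_dvd

lemma Big.fr_fr [Fintype K] (h : Big p K n) (x : K) : fr p n (fr p n x) = x := by
  rw [fr_apply, fr_apply, ← pow_mul, ← pow_two, ← h.1, Nat.card_eq_fintype_card, FiniteField.pow_card]

lemma Big.mem_exps (h : Big p K n) :
    (Nat.card K - 1) / gfac p ∈ exps p (p ^ n) ∧ (Nat.card K + 1) / gfac p ∈ exps p (p ^ n) := by
  rw [h.1]
  exact ⟨PSp4Orders.mem_exps (Or.inr (Or.inl rfl)), PSp4Orders.mem_exps (Or.inl rfl)⟩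

/-- The semisimple elements of the inner part of `V^k ⋊ W`. -/
lemma rep4_semisimple [Finite K] (hb : Big p K n) {k : ℕ} {W : Subgroup (Matrix (Fin 2 × Fin 2) (Fin 2 × Fin 2) K)ˣ}
    (x : Ext k W) (A : SL(2, K)) (hx : mat x = rep4 p n A) (htr : PSL2Elements.tr A ^ 2 ≠ 4)
    (hA : A ^ (Nat.card K - 1) = 1 ∨ A ^ (Nat.card K + 1) = 1) : ∃ m ∈ exps p (p ^ n), x ^ m = 1 := by
  by_cases hd : (mat x - 1).det = 0
  · let L := AlgebraicClosure K
    haveI : CharP L p := charP_of_injective_algebraMap (algebraMap K L).injective p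
    obtain ⟨l, hl0, -, hl, hw⟩ := weights (algebraMap K L) (tens (fr p n)) (tens (fr p n))
      (tens_map _ _ _ fun z => by rw [fr_apply, fr_apply, map_pow]) (tensW (fr p n))
      (fun l _ => tens_diag _ l) A htr
    rw [hx, rep4_apply] at hd
    obtain ⟨⟨a, b⟩, hi⟩ := hw hd
    have h2 : l ^ (p ^ n) = l ∨ l ^ (p ^ n) = l⁻¹ := by
      fin_cases a <;> fin_cases b <;> simp [tensW, fr_apply, map_inv₀, inv_pow] at hi
      · exact Or.inr (eq_inv_of_mul_eq_one_right hi)
      · left; exact ((mul_inv_eq_one₀ (a := l) (b := l ^ p ^ n) (pow_ne_zero _ hl0)).1 hi).symm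
      · left; exact ((inv_mul_eq_one₀ hl0).1 hi).symm
      · right
        rw [← mul_inv, inv_eq_one] at hi
        exact eq_inv_of_mul_eq_one_right hi
    rcases pow_sub_add (by have := hb.two_le; omega) hl0 h2 with e | e
    · refine ⟨p * (p ^ n - 1), PSp4Orders.mem_exps (by tauto), pow_mul_char p x ?_⟩
      rw [hx, ← map_pow, (hl _).2 e, map_one]
    · refine ⟨p * (p ^ n + 1), PSp4Orders.mem_exps (by tauto), pow_mul_char p x ?_⟩
      rw [hx, ← map_pow, (hl _).2 e, map_one]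
  · rcases hA with e | e
    · exact ⟨_, hb.mem_exps.1, pow_eq_one_of_det x (hx ▸ pow_half _ A (rep4_ker n) hb.gfac_dvd'.2.2.1 e) hd⟩
    · exact ⟨_, hb.mem_exps.2, pow_eq_one_of_det x (hx ▸ pow_half _ A (rep4_ker n) hb.gfac_dvd'.2.2.2 e) hd⟩

/-- The maximal orders of semisimple elements without fixed points. -/
lemma exists_tori [Finite K] (hb : Big p K n) {ι : Type} [Fintype ι] [DecidableEq ι]
    (ρ : SL(2, K) →* Matrix ι ι K) (hker : ∀ A, ρ A = 1 ↔ A = 1 ∨ A = -1) (k : ℕ)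
    (W : Subgroup (Matrix ι ι K)ˣ) (hW : img ρ ≤ W) :
    (∃ x : Ext k W, orderOf x = ((p ^ n) ^ 2 + 1) / gfac p) ∧
      ∃ x : Ext k W, orderOf x = ((p ^ n) ^ 2 - 1) / gfac p := by
  have key : ∀ A : SL(2, K), ∀ M, orderOf A = gfac p * M → ∃ x : Ext k W, orderOf x = M := by
    intro A M h
    obtain ⟨x, hx⟩ := exists_orderOf_right (k := k) (⟨_, hW (toImg ρ A).2⟩ : W)
    exact ⟨x, by rw [hx, orderOf_eq_mat, mat_toImg]; exact orderOf_rep ρ A hker h⟩
  obtain ⟨⟨A, hA⟩, B, hB⟩ := exists_sl_orders (K := K)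
  rw [← hb.1]
  exact ⟨key B _ (by rw [hB, Nat.mul_div_cancel' hb.gfac_dvd'.2.2.2]),
    key A _ (by rw [hA, Nat.mul_div_cancel' hb.gfac_dvd'.2.2.1])⟩

lemma orderOf_u_one : orderOf (PSL2Elements.u (1 : K)) = p := by
  refine orderOf_eq_prime (PSL2Elements.pow_char p (PSL2Elements.tr_u 1)) ?_
  rw [← PSL2Elements.u_zero]
  exact fun h => one_ne_zero (PSL2Elements.u_injective h)

lemma cast_add_one (h : Big p K n) : ((p ^ n + 1 : ℕ) : K) = 1 := by
  push_cast
  rw [CharP.cast_eq_zero, zero_pow (by have := h.2; omega), zero_add]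

lemma cast_sub_one (h : Big p K n) : ((p ^ n - 1 : ℕ) : K) = -1 := by
  rw [Nat.cast_sub (by have := h.two_le; omega)]
  push_cast
  rw [CharP.cast_eq_zero, zero_pow (by have := h.2; omega), zero_sub]

end Frame

/-! ### Characteristic 2 -/

theorem exists_large_two {n : ℕ} [CharP K 2] [Fintype K] (hb : Big 2 K n) (N : ℕ) :
    ∃ (H : Type) (_ : Group H) (_ : Fintype H), N < Fintype.card H ∧
      ∀ d, (∃ x : H, orderOf x = d) ↔ ∃ m ∈ exps 2 (2 ^ n), d ∣ m := by
  have hker : ∀ A : SL(2, K), rep4 2 n A = 1 ↔ A = 1 ∨ A = -1 := fun A => rep4_ker n A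
  refine LinearExtension.exists_large (img (rep4 (K := K) 2 n)) _ N (fun x => ?_) (fun m hm => ?_)
  · obtain ⟨A, hA⟩ := exists_img _ x
    rcases trichotomy' (p := 2) A with ⟨-, h⟩ | ⟨htr, h⟩
    · exact ⟨2 * 2, PSp4Orders.mem_exps (by simp [extra]), pow_mul_char 2 x (hA ▸ rep_pow_char _ A hker h)⟩
    · exact rep4_semisimple hb x A hA htr h
  · have htori := exists_tori hb (rep4 2 n) hker (N + 1) _ le_rfl
    have key : ∀ (z : Kˣ) (M : ℕ) (i : Fin 2 × Fin 2), 0 < M → orderOf z = M → (M : K) ≠ 0 →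
        tensW (fr 2 n) (z : K) i = 1 → ∃ x : Ext (N + 1) (img (rep4 (K := K) 2 n)), orderOf x = 2 * M := by
      intro z M i hM hz hc hw
      refine exists_orderOf_fixed 2 (Nat.succ_pos N) (toImg _ (PSL2Elements.d z)) hM ?_ hc
        (Pi.single i 1) (by simp) ?_
      · rw [mat_toImg]; exact orderOf_rep (p := 2) _ _ hker (by rw [orderOf_d, hz]; simp [gfac])
      · rw [mat_toImg, rep4_apply, d_val, tens_diag]
        exact diagonal_mulVec_single_of_eq_one _ i hw
    have hdvd := hb.sq_sub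
    simp only [exps, Finset.mem_insert, Finset.mem_singleton] at hm
    rcases hm with rfl | rfl | rfl | rfl | rfl
    · obtain ⟨x, hx⟩ := htori.1; exact ⟨x, hx.symm.dvd⟩
    · obtain ⟨x, hx⟩ := htori.2; exact ⟨x, hx.symm.dvd⟩
    · obtain ⟨z, hz⟩ := exists_unit_order (K := K) (Dvd.intro _ hdvd.symm)
      obtain ⟨x, hx⟩ := key z _ (0, 0) (Nat.succ_pos _) hz (by rw [cast_add_one hb]; exact one_ne_zero) (by
        have h := congrArg Units.val (orderOf_dvd_iff_pow_eq_one.1 (hz ▸ dvd_rfl : orderOf z ∣ 2 ^ n + 1))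
        simp at h
        simp [tensW, fr_apply]
        rw [← pow_succ']; exact h)
      exact ⟨x, hx.symm.dvd⟩
    · obtain ⟨z, hz⟩ := exists_unit_order (K := K) (Dvd.intro_left _ hdvd.symm)
      obtain ⟨x, hx⟩ := key z _ (0, 1) (by have := hb.two_le; omega) hz
        (by rw [cast_sub_one hb]; simp) (by
        have h := congrArg Units.val (orderOf_dvd_iff_pow_eq_one.1 (hz ▸ dvd_rfl : orderOf z ∣ 2 ^ n - 1))
        simp at h
        have h' : (z : K) ^ (2 ^ n) = z := by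
          conv_lhs => rw [← Nat.sub_add_cancel (le_trans one_le_two hb.two_le), pow_succ, h, one_mul]
        simp [tensW, fr_apply, h'])
      exact ⟨x, hx.symm.dvd⟩
    · obtain ⟨x, hx⟩ := exists_orderOf_mul 2 (Nat.succ_pos N) (toImg (rep4 2 n) (PSL2Elements.u (1 : K)))
        two_pos (by rw [mat_toImg]; exact orderOf_rep (p := 2) _ _ hker (by rw [orderOf_u_one (p := 2)]; simp [gfac]))
        (Pi.single (1, 1) 1) (fun h => by
          have h' := congrFun h (0, 0)
          rw [mat_toImg] at h'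
          simp [Finset.sum_range_succ, Matrix.one_apply] at h'
          rw [rep4_apply] at h'
          simp [tens_apply, PSL2Elements.u, PSL2Elements.mk2] at h')
      exact ⟨x, by rw [hx]; simp [extra]⟩

/-! ### Characteristic 3, an even exponent -/

lemma rep12_ker [CharP K 3] (n : ℕ) (A : SL(2, K)) : rep12 3 n A = 1 ↔ A = 1 ∨ A = -1 := by
  constructor
  · intro h
    have hdet := PSL2Elements.det_eq A
    have e : ∀ i j : (Fin 2 × Fin 2) × Fin 3,
        A.1 i.1.1 j.1.1 * fr 3 1 (A.1 i.1.2 j.1.2) * sym2 (A.1.map (fr 3 n)) i.2 j.2 =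
          (1 : Matrix ((Fin 2 × Fin 2) × Fin 3) _ K) i j := fun i j => congrFun (congrFun h i) j
    have h01 := e ((0, 0), 0) ((1, 1), 2)
    have h10 := e ((1, 1), 2) ((0, 0), 0)
    have h00 := e ((0, 0), 1) ((0, 0), 1)
    have h11 := e ((0, 1), 1) ((0, 1), 1)
    simp [sym2] at h01 h10
    have b : A.1 0 1 = 0 := h01
    have c : A.1 1 0 = 0 := h10
    rw [b, c, mul_zero, sub_zero] at hdet
    have hm : sym2 (A.1.map (fr 3 n)) 1 1 = 1 := by
      simp [sym2, b, c, ← map_mul, hdet]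
    simp [hm, frobenius_def] at h00 h11
    rw [← PSL2Elements.mem_center_iff, PSL2Elements.mem_center_iff_entries]
    refine ⟨b, c, ?_⟩
    linear_combination (-A.1 0 0) * h11 + (A.1 0 0 * A.1 1 1 ^ 2 + A.1 1 1) * hdet
  · rintro (rfl | rfl)
    · exact map_one _
    · have hm : sym2 ((-1 : Matrix (Fin 2) (Fin 2) K).map (fr 3 n)) = 1 := by
        ext i j; fin_cases i <;> fin_cases j <;> simp [sym2]
      ext i j
      show (-1 : Matrix (Fin 2) (Fin 2) K) i.1.1 j.1.1 * fr 3 1 ((-1 : Matrix (Fin 2) (Fin 2) K) i.1.2 j.1.2) *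
        sym2 ((-1 : Matrix (Fin 2) (Fin 2) K).map (fr 3 n)) i.2 j.2 = _
      rw [hm]
      simp [Matrix.one_apply, Prod.ext_iff]
      split_ifs <;> simp_all

lemma five_dvd_of_even (n : ℕ) (h : Even n) : 5 ∣ 3 ^ n - 1 ∨ 5 ∣ 3 ^ n + 1 := by
  obtain ⟨j, rfl⟩ := h
  have hm : 3 ^ (j + j) % 5 = if Even j then 1 else 4 := by
    induction j with
    | zero => simp
    | succ j ih =>
      rw [show j + 1 + (j + 1) = j + j + 2 by omega, pow_add, Nat.mul_mod, ih]
      by_cases hj : Even j <;> simp [hj, Nat.even_add_one]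
  split_ifs at hm <;> omega

lemma triple_weight {L : Type} [Field L] [CharP L 3] (n Q : ℕ) (hQ0 : Q = (3 ^ n) ^ 2) (hQpos : 0 < Q)
    (hn1 : 1 ≤ n) (hn : Even n) (l : L) (hl0 : l ≠ 0) (h : l ^ (Q - 1) = 1 ∨ l ^ (Q + 1) = 1)
    (a b : Fin 2) (c : Fin 3) (hi : tripleW (fr (K := L) 3 1) (fr (K := L) 3 n) l ((a, b), c) = 1) :
    (l ^ 2) ^ (3 ^ n - 1) = 1 ∨ (l ^ 2) ^ (3 ^ n + 1) = 1 := by
  generalize hq : 3 ^ n = q at *
  have hq1 : 2 ≤ q := hq ▸ le_trans (by norm_num) (Nat.le_self_pow (by omega : n ≠ 0) 3)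
  have hm0 : l ^ 2 ≠ 0 := pow_ne_zero 2 hl0
  have hQ : (l ^ 2) ^ (q * q) = l ^ 2 ∨ (l ^ 2) ^ (q * q) = (l ^ 2)⁻¹ := by
    have hc : Q = q * q := by rw [hQ0, pow_two]
    rcases h with e | e
    · left
      rw [← hc, ← Nat.sub_add_cancel (hQpos : 1 ≤ Q),
        pow_succ, ← pow_mul, mul_comm 2, pow_mul, e, one_pow, one_mul]
    · right
      refine eq_inv_of_mul_eq_one_left ?_
      rw [← hc, ← pow_succ, ← pow_mul, mul_comm 2, pow_mul, e, one_pow]
  have hfour : l ^ 4 = 1 → (l ^ 2) ^ (q - 1) = 1 := by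
    intro h4
    have hodd : q % 2 = 1 := by rw [← hq, Nat.pow_mod]; simp
    obtain ⟨j, hj⟩ : 2 ∣ q - 1 := by omega
    rw [hj, pow_mul, ← pow_mul l 2 2, h4, one_pow]
  have hsmall : ∀ s : L, s ^ q = s * s ∨ s ^ q = (s * s)⁻¹ → s ^ (q * q) = s ∨ s ^ (q * q) = s⁻¹ →
      s ≠ 0 → s ^ (q - 1) = 1 ∨ s ^ (q + 1) = 1 := by
    intro s hs1 hs2 hs0
    have h4 : s ^ (q * q) = s ^ 4 := by
      rcases hs1 with e | e
      · rw [pow_mul, e, mul_pow, e]; ring
      · rw [pow_mul, e, inv_pow, mul_pow, e, ← mul_inv, inv_inv]; ring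
    rw [h4] at hs2
    rcases hs2 with e | e
    · left
      have h3 : s ^ 3 = 1 := mul_right_cancel₀ hs0 (by rw [← pow_succ, e, one_mul])
      have h' : (s - 1) ^ 3 = 0 := by rw [sub_pow_char, h3, one_pow, sub_self]
      rw [sub_eq_zero.1 (eq_zero_of_pow_eq_zero h'), one_pow]
    · have h5 : s ^ 5 = 1 := by rw [pow_succ, e, inv_mul_cancel₀ hs0]
      refine (five_dvd_of_even n hn).imp ?_ ?_ <;> rintro ⟨j, hj⟩ <;> rw [← hq, hj, pow_mul, h5, one_pow]
  have hgl : fr 3 n l ^ 2 = (l ^ 2) ^ q := by rw [fr_apply, hq, ← pow_mul, ← pow_mul, mul_comm]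
  have hgl' : (fr 3 n l)⁻¹ ^ 2 = ((l ^ 2) ^ q)⁻¹ := by rw [inv_pow, hgl]
  obtain ⟨w, hw1, hw2⟩ : ∃ w : L, tensW (fr 3 1) l (a, b) = w ∧
      (w = l ^ 2 * l ^ 2 ∨ w = (l ^ 2 * l ^ 2)⁻¹ ∨ w = l ^ 2 ∨ w = (l ^ 2)⁻¹) := by
    refine ⟨_, rfl, ?_⟩
    fin_cases a <;> fin_cases b <;> simp [tensW, frobenius_def]
    · left; ring
    · right; right; right; field_simp
    · right; right; left; field_simp
    · right; left; field_simp
  simp only [tripleW, hw1] at hi
  fin_cases c <;> simp [hgl, hgl'] at hi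
  · have hwi := eq_inv_of_mul_eq_one_right hi
    rcases hw2 with e | e | e | e <;> rw [e] at hwi
    · exact hsmall _ (Or.inr hwi) hQ hm0
    · rw [inv_inv] at hwi; exact hsmall _ (Or.inl hwi) hQ hm0
    · exact pow_sub_add (by omega) hm0 (Or.inr hwi)
    · rw [inv_inv] at hwi; exact pow_sub_add (by omega) hm0 (Or.inl hwi)
  · left
    apply hfour
    rcases hw2 with e | e | e | e <;> rw [e] at hi
    · linear_combination hi
    · rw [inv_eq_one] at hi; linear_combination hi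
    · linear_combination (l ^ 2 + 1) * hi
    · rw [inv_eq_one] at hi; linear_combination (l ^ 2 + 1) * hi
  · have hwi : (l ^ 2) ^ q = w := ((mul_inv_eq_one₀ (a := w) (b := (l ^ 2) ^ q) (pow_ne_zero _ hm0)).1 hi).symm
    rcases hw2 with e | e | e | e <;> rw [e] at hwi
    · exact hsmall _ (Or.inl hwi) hQ hm0
    · exact hsmall _ (Or.inr hwi) hQ hm0
    · exact pow_sub_add (by omega) hm0 (Or.inl hwi)
    · exact pow_sub_add (by omega) hm0 (Or.inr hwi)

theorem exists_large_three {n : ℕ} [CharP K 3] [Fintype K] (hb : Big 3 K n) (hn : Even n) (N : ℕ) :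
    ∃ (H : Type) (_ : Group H) (_ : Fintype H), N < Fintype.card H ∧
      ∀ d, (∃ x : H, orderOf x = d) ↔ ∃ m ∈ exps 3 (3 ^ n), d ∣ m := by
  have hker : ∀ A : SL(2, K), rep12 3 n A = 1 ↔ A = 1 ∨ A = -1 := fun A => rep12_ker n A
  refine LinearExtension.exists_large (img (rep12 (K := K) 3 n)) _ N (fun x => ?_) (fun m hm => ?_)
  · obtain ⟨A, hA⟩ := exists_img _ x
    rcases trichotomy' (p := 3) A with ⟨-, h⟩ | ⟨htr, h⟩
    · exact ⟨3 * 3, PSp4Orders.mem_exps (by simp [extra]), pow_mul_char 3 x (hA ▸ rep_pow_char _ A hker h)⟩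
    by_cases hd : (mat x - 1).det = 0
    · let L := AlgebraicClosure K
      haveI : CharP L 3 := charP_of_injective_algebraMap (algebraMap K L).injective 3
      obtain ⟨l, hl0, -, hl, hw⟩ := weights (algebraMap K L) (triple (fr 3 1) (fr 3 n)) (triple (fr 3 1) (fr 3 n))
        (triple_map _ _ _ _ _ (fun z => by rw [fr_apply, fr_apply, map_pow])
          fun z => by rw [fr_apply, fr_apply, map_pow]) (tripleW (fr 3 1) (fr 3 n))
        (fun l hl => triple_diag _ _ hl) A htr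
      rw [hA] at hd
      obtain ⟨⟨⟨a, b⟩, c⟩, hi⟩ := hw hd
      have key := triple_weight n (Nat.card K) hb.1 Nat.card_pos hb.2 hn l hl0
        (h.imp (hl _).1 (hl _).1) a b c hi
      have fin : ∀ M, (l ^ 2) ^ M = 1 → x ^ (3 * M) = 1 := by
        intro M hM
        refine pow_mul_char 3 x ?_
        rw [hA]
        have h2 : (A ^ M) ^ 2 = 1 := by rw [← pow_mul, mul_comm, (hl _).2 (by rw [pow_mul, hM])]
        rw [← map_pow, hker]
        exact PSL2Elements.eq_one_or_neg_one_of_sq_eq_one (two_ne_zero' 3 (by norm_num)) h2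
      rcases key with e | e
      · exact ⟨_, PSp4Orders.mem_exps (by tauto), fin _ e⟩
      · exact ⟨_, PSp4Orders.mem_exps (by tauto), fin _ e⟩
    · rcases h with e | e
      · exact ⟨_, hb.mem_exps.1, pow_eq_one_of_det x (hA ▸ pow_half _ A hker hb.gfac_dvd'.2.2.1 e) hd⟩
      · exact ⟨_, hb.mem_exps.2, pow_eq_one_of_det x (hA ▸ pow_half _ A hker hb.gfac_dvd'.2.2.2 e) hd⟩
  · have htori := exists_tori hb (rep12 3 n) hker (N + 1) _ le_rfl
    have key : ∀ (z : Kˣ) (M : ℕ) (i : (Fin 2 × Fin 2) × Fin 3), 0 < M → orderOf z = 2 * M → (M : K) ≠ 0 →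
        tripleW (fr 3 1) (fr 3 n) (z : K) i = 1 →
        ∃ x : Ext (N + 1) (img (rep12 (K := K) 3 n)), orderOf x = 3 * M := by
      intro z M i hM hz hc hw
      refine exists_orderOf_fixed 3 (Nat.succ_pos N) (toImg _ (PSL2Elements.d z)) hM ?_ hc
        (Pi.single i 1) (by simp) ?_
      · rw [mat_toImg]; exact orderOf_rep (p := 3) _ _ hker (by rw [orderOf_d, hz]; simp [gfac])
      · rw [mat_toImg, show rep12 3 n (PSL2Elements.d z) = triple (fr 3 1) (fr 3 n) (PSL2Elements.d z).1 from rfl,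
          d_val, triple_diag _ _ z.ne_zero]
        exact diagonal_mulVec_single_of_eq_one _ i hw
    have hdvd := hb.sq_sub
    have heven := hb.gfac_dvd'
    simp only [gfac, if_neg (by norm_num : ¬(3 = 2))] at heven
    simp only [exps, Finset.mem_insert, Finset.mem_singleton] at hm
    rcases hm with rfl | rfl | rfl | rfl | rfl
    · obtain ⟨x, hx⟩ := htori.1; exact ⟨x, hx.symm.dvd⟩
    · obtain ⟨x, hx⟩ := htori.2; exact ⟨x, hx.symm.dvd⟩
    · obtain ⟨z, hz⟩ := exists_unit_order (K := K) (d := 2 * (3 ^ n + 1)) (by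
        rw [hdvd, mul_comm]; exact Nat.mul_dvd_mul_left _ heven.1)
      obtain ⟨x, hx⟩ := key z _ ((1, 0), 0) (Nat.succ_pos _) hz (by rw [cast_add_one hb]; exact one_ne_zero) (by
        have h := congrArg Units.val (hz ▸ pow_orderOf_eq_one z)
        simp only [Units.val_pow_eq_pow_val, Units.val_one] at h
        simp [tripleW, tensW, fr_apply, frobenius_def]
        field_simp
        rw [← h]; ring)
      exact ⟨x, hx.symm.dvd⟩
    · obtain ⟨z, hz⟩ := exists_unit_order (K := K) (d := 2 * (3 ^ n - 1)) (by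
        rw [hdvd]; exact Nat.mul_dvd_mul heven.2.1 dvd_rfl)
      obtain ⟨x, hx⟩ := key z _ ((0, 1), 0) (by have := hb.two_le; omega) hz
        (by rw [cast_sub_one hb]; simp) (by
        have h := congrArg Units.val (hz ▸ pow_orderOf_eq_one z)
        simp only [Units.val_pow_eq_pow_val, Units.val_one] at h
        simp [tripleW, tensW, fr_apply, frobenius_def]
        have h' : ((z : K) ^ (3 ^ n)) ^ 2 = (z : K) ^ 2 := by
          rw [← pow_mul, show 3 ^ n * 2 = 2 * (3 ^ n - 1) + 2 by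
            have := Nat.one_le_pow n 3 (by norm_num); omega, pow_add, h, one_mul]
        rw [h']; field_simp)
      exact ⟨x, hx.symm.dvd⟩
    · obtain ⟨x, hx⟩ := exists_orderOf_mul 3 (Nat.succ_pos N) (toImg (rep12 3 n) (PSL2Elements.u (1 : K)))
        (by norm_num : 0 < 3)
        (by
          rw [mat_toImg]
          refine orderOf_eq_prime (by
            rw [← map_pow, PSL2Elements.pow_char 3 (PSL2Elements.tr_u 1), map_one]) fun h => ?_
          rcases (hker _).1 h with e | e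
          · have := congrArg (fun B : SL(2, K) => B.1 0 1) e
            simp [PSL2Elements.u, PSL2Elements.mk2] at this
          · have := congrArg (fun B : SL(2, K) => B.1 0 1) e
            simp [PSL2Elements.u, PSL2Elements.mk2] at this)
        (Pi.single ((1, 1), 2) 1) (fun h => by
          have h' := congrFun h ((0, 0), 0)
          rw [mat_toImg] at h'
          simp [Finset.sum_range_succ, ← map_pow, pow_two, PSL2Elements.u_mul] at h'
          change triple (fr 3 1) (fr 3 n) (PSL2Elements.u (1 : K)).1 _ _ +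
            triple (fr 3 1) (fr 3 n) (PSL2Elements.u (1 + 1 : K)).1 _ _ = 0 at h'
          simp [triple_apply, sym2, PSL2Elements.u, PSL2Elements.mk2, frobenius_def] at h'
          have h3 : (3 : K) = 0 := by exact_mod_cast CharP.cast_eq_zero K 3
          exact two_ne_zero' (K := K) 3 (by norm_num) (by linear_combination h' - 21 * h3))
      exact ⟨x, by rw [hx]; simp [extra]⟩

end Cfsg.Agent.IsospectralPSp4
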