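import Mathlib
import Cfsg.Agent.Lib.IsospectralPSp4

set_option autoImplicit false

/-!
For `q` a power of a prime `p ≥ 5`: groups of unbounded order with the element orders of `PSp(4,q)`;
the linear group is the twisted tensor image of `SL(2,q²)` extended by minus the swap of the factors.
-/

namespace Cfsg.Agent.IsospectralPSp4Odd

open Matrix hiding comp
open Finset
open scoped MatrixGroups
open LinearExtension TensorRep PSp4Orders IsospectralPSp4

variable {K : Type} [Field K] {p n : ℕ} [Fact p.Prime] [CharP K p]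

local notation "M4" => Matrix (Fin 2 × Fin 2) (Fin 2 × Fin 2) K

/-- Minus the swap of the tensor factors. -/
def S : M4 := fun i j => if j = i.swap then -1 else 0

omit [Fact p.Prime] [CharP K p] in
lemma S_mul_apply (X : M4) (i j : Fin 2 × Fin 2) : (S * X : M4) i j = -X i.swap j := by
  rw [Matrix.mul_apply, Finset.sum_eq_single i.swap (fun k _ hk => by simp [S, hk]) (by simp)]
  simp [S]

omit [Fact p.Prime] [CharP K p] in
lemma mul_S_apply (X : M4) (i j : Fin 2 × Fin 2) : (X * S : M4) i j = -X i j.swap := by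
  rw [Matrix.mul_apply, Finset.sum_eq_single j.swap (fun k _ hk => by
    have : j ≠ k.swap := fun h => hk (by rw [h, Prod.swap_swap])
    simp [S, this]) (by simp)]
  simp [S]

omit [Fact p.Prime] [CharP K p] in
lemma S_sq : (S * S : M4) = 1 := by
  ext i j
  rw [S_mul_apply, Matrix.one_apply]
  simp only [S, Prod.swap_swap, eq_comm (a := i) (b := j)]
  split_ifs <;> simp

variable (p n) in
/-- The conjugate matrix. -/
abbrev conjSL : SL(2, K) →* SL(2, K) := Matrix.SpecialLinearGroup.map (fr p n)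

lemma conjSL_apply (A : SL(2, K)) (i j : Fin 2) : (conjSL p n A).1 i j = fr p n (A.1 i j) := rfl

variable [Fintype K]

lemma rep4_mul_S (hb : Big p K n) (A : SL(2, K)) : rep4 p n A * S = S * rep4 p n (conjSL p n A) := by
  ext i j
  rw [mul_S_apply, S_mul_apply, rep4_apply, rep4_apply, tens_apply, tens_apply]
  simp only [Prod.fst_swap, Prod.snd_swap, conjSL_apply, hb.fr_fr]
  ring

variable (K p n) in
/-- The linear group. -/
def W (hb : Big p K n) : Subgroup (Matrix (Fin 2 × Fin 2) (Fin 2 × Fin 2) K)ˣ where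
  carrier := {M | ∃ A : SL(2, K), M.val = rep4 p n A ∨ M.val = S * rep4 p n A}
  one_mem' := ⟨1, Or.inl (by rw [map_one]; rfl)⟩
  mul_mem' := by
    rintro M M' ⟨A, hA⟩ ⟨A', hA'⟩
    rcases hA with hA | hA <;> rcases hA' with hA' | hA'
    · exact ⟨A * A', Or.inl (by rw [Units.val_mul, hA, hA', map_mul])⟩
    · exact ⟨conjSL p n A * A', Or.inr (by
        rw [Units.val_mul, hA, hA', ← mul_assoc, rep4_mul_S hb, mul_assoc, ← map_mul])⟩
    · exact ⟨A * A', Or.inr (by rw [Units.val_mul, hA, hA', map_mul, mul_assoc])⟩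
    · exact ⟨conjSL p n A * A', Or.inl (by
        rw [Units.val_mul, hA, hA', mul_assoc, ← mul_assoc (rep4 p n A), rep4_mul_S hb, ← mul_assoc,
          ← mul_assoc, S_sq, one_mul, ← map_mul])⟩
  inv_mem' := by
    rintro M ⟨A, hA | hA⟩
    · exact ⟨A⁻¹, Or.inl (Units.inv_eq_of_mul_eq_one_right (by rw [hA, ← map_mul, mul_inv_cancel, map_one]))⟩
    · refine ⟨conjSL p n A⁻¹, Or.inr (Units.inv_eq_of_mul_eq_one_right ?_)⟩
      rw [hA, ← rep4_mul_S hb, mul_assoc, ← mul_assoc (rep4 p n A), ← map_mul, mul_inv_cancel, map_one,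
        one_mul, S_sq]

lemma geom_sum_two_mul (M : M4) (m : ℕ) :
    ∑ i ∈ range (2 * m), M ^ i = (1 + M) * ∑ i ∈ range m, (M ^ 2) ^ i := by
  induction m with
  | zero => simp
  | succ m ih =>
    rw [Nat.mul_succ, Finset.sum_range_succ, Finset.sum_range_succ, ih, Finset.sum_range_succ, ← pow_mul,
      mul_add, pow_succ' M (2 * m)]
    noncomm_ring

lemma sub_one_pow_eq_zero (h5 : 5 ≤ p) (N : M4) (h : N ^ p = 1) : (N - 1) ^ (p - 1) = 0 := by
  have hz : IsNilpotent (N - 1) := by
    refine ⟨p, ?_⟩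
    haveI : CharP M4 p := inferInstance
    rw [sub_pow_char_of_commute p (Commute.one_right N), h, one_pow, sub_self]
  have h4 : (N - 1) ^ 4 = 0 := by
    have := sub_eq_zero.1 (Matrix.isNilpotent_charpoly_sub_pow_of_isNilpotent hz).eq_zero
    have h' := Matrix.aeval_self_charpoly (N - 1)
    rw [this] at h'
    simpa using h'
  exact pow_eq_zero_of_le (by omega) h4

lemma upper (h5 : 5 ≤ p) (hb : Big p K n) {k : ℕ} (x : Ext k (W K p n hb)) :
    ∃ m ∈ exps p (p ^ n), x ^ m = 1 := by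
  have hp2 : p ≠ 2 := by omega
  have hker : ∀ A : SL(2, K), rep4 p n A = 1 ↔ A = 1 ∨ A = -1 := fun A => rep4_ker n A
  have hextra : extra p = p := by rw [extra, if_neg hp2, if_neg (by omega)]
  obtain ⟨A, hA | hA⟩ := x.right.2
  · have hA' : mat x = rep4 p n A := hA
    rcases trichotomy' (p := p) A with ⟨-, h⟩ | ⟨htr, h⟩
    · have hM := hA' ▸ rep_pow_char _ A hker h
      refine ⟨p, PSp4Orders.mem_exps (by simp [hextra]), pow_eq_one x hM ?_⟩
      rw [geom_sum_eq_sub_one_pow p, sub_one_pow_eq_zero h5 _ hM]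
    · exact rep4_semisimple hb x A hA' htr h
  · have hA' : mat x = S * rep4 p n A := hA
    set B := conjSL p n A * A with hB
    have hsq : mat x ^ 2 = rep4 p n B := by
      rw [pow_two, hA', hB, map_mul, mul_assoc, ← mul_assoc (rep4 p n A), rep4_mul_S hb, ← mul_assoc,
        ← mul_assoc, S_sq, one_mul]
    have hfix : fr p n (PSL2Elements.tr B) = PSL2Elements.tr B := by
      simp only [hB, PSL2Elements.tr, PSL2Elements.mul_apply2, conjSL_apply, map_add, map_mul, hb.fr_fr]
      ring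
    obtain ⟨hg1, hg2, -, -⟩ := hb.gfac_dvd'
    have hg : gfac p = 2 := if_neg hp2
    rw [hg] at hg1 hg2
    rcases trichotomy' (p := p) B with ⟨-, h⟩ | ⟨htr, -⟩
    · have h1 : (mat x ^ 2) ^ p = 1 := hsq ▸ rep_pow_char _ B hker h
      refine ⟨p * (p ^ n - 1), PSp4Orders.mem_exps (by tauto), ?_⟩
      obtain ⟨j, hj⟩ := hg1
      have hx : x ^ (2 * p) = 1 := by
        refine pow_eq_one x (by rw [pow_mul, h1]) ?_
        rw [geom_sum_two_mul, geom_sum_eq_sub_one_pow p, sub_one_pow_eq_zero h5 _ h1, mul_zero]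
      rw [hj, show p * (2 * j) = 2 * p * j by ring, pow_mul, hx, one_pow]
    · let L := AlgebraicClosure K
      haveI : CharP L p := charP_of_injective_algebraMap (algebraMap K L).injective p
      obtain ⟨l, hl0, hlt, hl, -⟩ := weights (algebraMap K L) (tens (fr p n)) (tens (fr p n))
        (tens_map _ _ _ fun z => by rw [fr_apply, fr_apply, map_pow]) (tensW (fr p n))
        (fun l _ => tens_diag _ l) B htr
      have h2 : l ^ (p ^ n) = l ∨ l ^ (p ^ n) = l⁻¹ := by
        refine eq_or_eq_inv (pow_ne_zero _ hl0) hl0 ?_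
        have := congrArg (algebraMap K L) hfix
        rw [fr_apply, map_pow, ← hlt] at this
        rwa [← iterateFrobenius_def p n (l + l⁻¹), map_add, map_inv₀, iterateFrobenius_def] at this
      have hn2 := hb.two_le
      have fin : ∀ N, 2 ∣ N → l ^ N = 1 → x ^ (p * N) = 1 := by
        rintro N ⟨j, rfl⟩ hN
        refine pow_mul_char p x ?_
        rw [pow_mul, hsq]
        have := pow_half (p := p) (rep4 p n) B hker (N := 2 * j) (by rw [hg]; exact dvd_mul_right 2 j) ((hl _).2 hN)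
        rwa [hg, Nat.mul_div_cancel_left _ two_pos] at this
      rcases pow_sub_add (by omega) hl0 h2 with e | e
      · exact ⟨_, PSp4Orders.mem_exps (by tauto), fin _ hg1 e⟩
      · exact ⟨_, PSp4Orders.mem_exps (by tauto), fin _ hg2 e⟩

/-- The outer element attached to `A`. -/
def outer (hb : Big p K n) (A : SL(2, K)) : W K p n hb :=
  ⟨⟨S * rep4 p n A, rep4 p n A⁻¹ * S,
    by rw [mul_assoc, ← mul_assoc (rep4 p n A), ← map_mul, mul_inv_cancel, map_one, one_mul, S_sq],
    by rw [mul_assoc, ← mul_assoc S S, S_sq, one_mul, ← map_mul, inv_mul_cancel, map_one]⟩, A, Or.inr rfl⟩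

lemma outer_val (hb : Big p K n) (A : SL(2, K)) :
    ((outer hb A : (M4)ˣ) : M4) = S * rep4 p n A := rfl

/-- The order of an outer element all whose odd powers are nontrivial. -/
lemma orderOf_outer (hb : Big p K n) (h5 : 5 ≤ p) (A : SL(2, K)) (ν : Kˣ) (m : ℕ) (hν : orderOf ν = 2 * m)
    (hB : conjSL p n A * A = PSL2Elements.d ν ∨ conjSL p n A * A = -PSL2Elements.d ν)
    (hodd : ∀ j, (rep4 p n (PSL2Elements.d ν) ^ j * (S * rep4 p n A) : M4) ≠ 1) :
    orderOf (S * rep4 p n A : M4) = 2 * m := by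
  have hker : ∀ A : SL(2, K), rep4 p n A = 1 ↔ A = 1 ∨ A = -1 := fun A => rep4_ker n A
  have hsq : (S * rep4 p n A : M4) ^ 2 = rep4 p n (PSL2Elements.d ν) := by
    have h0 : (S * rep4 p n A : M4) ^ 2 = rep4 p n (conjSL p n A * A) := by
      rw [pow_two, map_mul, mul_assoc, ← mul_assoc (rep4 p n A), rep4_mul_S hb, ← mul_assoc,
        ← mul_assoc, S_sq, one_mul]
    rcases hB with e | e <;> rw [h0, e]
    rw [show -PSL2Elements.d ν = (-1 : SL(2, K)) * PSL2Elements.d ν from (neg_one_mul _).symm, map_mul,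
      (hker _).2 (Or.inr rfl), one_mul]
  have hm : orderOf ((S * rep4 p n A : M4) ^ 2) = m := by
    rw [hsq]
    exact orderOf_rep (p := p) _ _ hker (by rw [orderOf_d, hν, gfac, if_neg (by omega)])
  refine orderOf_eq_of_iff fun j => ?_
  rcases Nat.even_or_odd' j with ⟨i, rfl | rfl⟩
  · rw [pow_mul, ← orderOf_dvd_iff_pow_eq_one, hm, Nat.mul_dvd_mul_iff_left two_pos]
  · constructor
    · intro h
      rw [pow_succ, pow_mul, hsq] at h
      exact absurd h (hodd i)
    · intro h
      exact absurd ((dvd_mul_right 2 m).trans h) (by omega)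

lemma exists_mixed (h5 : 5 ≤ p) (hb : Big p K n) (k : ℕ) (hk : 0 < k) :
    (∃ x : Ext k (W K p n hb), orderOf x = p * (p ^ n - 1)) ∧
      ∃ x : Ext k (W K p n hb), orderOf x = p * (p ^ n + 1) := by
  have hQ := hb.sq_sub
  have hq := hb.two_le
  obtain ⟨a, ha⟩ := exists_unit_order (K := K) (d := Nat.card K - 1) dvd_rfl
  have hord : ∀ N M, N * M = Nat.card K - 1 → 0 < N → 0 < M → orderOf (a ^ N) = M := by
    intro N M h hN hM
    rw [orderOf_pow' a hN.ne', ha, ← h, Nat.gcd_eq_right (dvd_mul_right N M), Nat.mul_div_cancel_left _ hN]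
  have hpa : ∀ (N : ℕ), ((a ^ N : Kˣ) : K) = (a : K) ^ N := fun N => Units.val_pow_eq_pow_val a N
  obtain ⟨hg1, hg2, -, -⟩ := hb.gfac_dvd'
  rw [gfac, if_neg (by omega : ¬p = 2)] at hg1 hg2
  obtain ⟨m1, hm1⟩ := hg1
  obtain ⟨m2, hm2⟩ := hg2
  have ha0 : (a : K) ≠ 0 := a.ne_zero
  have hpn : p ^ n ≠ 0 := by omega
  have hneg : ∀ z : K, (-z) ^ p ^ n = -z ^ p ^ n := fun z => by
    rw [← fr_apply, ← fr_apply, map_neg]
  have hfa : fr p n (a : K) ≠ 0 := (map_ne_zero _).2 ha0
  have dpow : ∀ (ν : Kˣ) (j : ℕ), rep4 p n (PSL2Elements.d ν) ^ j = rep4 p n (PSL2Elements.d (ν ^ j)) := by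
    intro ν j
    rw [← map_pow]
    exact congrArg _ (map_pow PSL2Elements.dHom ν j).symm
  constructor
  · let A := PSL2Elements.d a
    have hord1 : orderOf (S * rep4 p n A : M4) = p ^ n - 1 := by
      rw [hm1]
      refine orderOf_outer hb h5 A (a ^ (p ^ n + 1)) m1 ?_ (Or.inl ?_) fun j h => ?_
      · rw [hord _ (p ^ n - 1) hQ.symm (by omega) (by omega), hm1]
      · apply PSL2Elements.ext2 <;> simp only [PSL2Elements.mul_apply2, conjSL_apply] <;>
          simp [A, PSL2Elements.d, PSL2Elements.mk2, fr_apply, pow_succ, mul_comm, zero_pow hpn]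
      · have h' := congrFun (congrFun h (0, 1)) (0, 1)
        rw [dpow, ← mul_assoc, rep4_mul_S hb, mul_assoc, ← map_mul, S_mul_apply, rep4_apply, tens_apply] at h'
        simp only [PSL2Elements.mul_apply2, conjSL_apply, Prod.fst_swap, Prod.snd_swap] at h'
        simp [A, PSL2Elements.d, PSL2Elements.mk2] at h'
    refine exists_orderOf_fixed p hk (outer hb A) (by omega) ?_ ?_
      (Pi.single (0, 1) 1 + (-((a : K) * fr p n (a : K)⁻¹)) • Pi.single (1, 0) 1) ?_ ?_
    · rw [outer_val]; exact hord1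
    · rw [cast_sub_one hb]; simp
    · intro h
      simpa using congrFun h (0, 1)
    · funext i
      obtain ⟨i1, i2⟩ := i
      rw [outer_val, Matrix.mulVec, dotProduct, Fintype.sum_prod_type]
      simp only [Fin.sum_univ_two, S_mul_apply, rep4_apply, tens_apply]
      fin_cases i1 <;> fin_cases i2 <;>
        simp [A, PSL2Elements.d, PSL2Elements.mk2, map_inv₀, Pi.single_apply] <;> field_simp
  · let A : SL(2, K) := PSL2Elements.mk2 0 (a : K) (-(a : K)⁻¹) 0 (by field_simp; ring)
    have hord1 : orderOf (S * rep4 p n A : M4) = p ^ n + 1 := by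
      rw [hm2]
      refine orderOf_outer hb h5 A (a ^ (p ^ n - 1)) m2 ?_ (Or.inr ?_) fun j h => ?_
      · rw [hord _ (p ^ n + 1) (by rw [mul_comm]; exact hQ.symm) (by omega) (by omega), hm2]
      · have e : (a : K) ^ (p ^ n - 1) = (a : K)⁻¹ * (a : K) ^ p ^ n := by
          rw [pow_sub₀ _ ha0 (by omega), pow_one, mul_comm]
        apply PSL2Elements.ext2 <;>
          simp only [PSL2Elements.mul_apply2, conjSL_apply, PSL2Elements.coe_neg', Matrix.neg_apply] <;>
          simp [A, PSL2Elements.d, PSL2Elements.mk2, fr_apply, hpa, e, mul_comm, zero_pow hpn, hneg]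
      · have h' := congrFun (congrFun h (0, 0)) (0, 0)
        rw [dpow, ← mul_assoc, rep4_mul_S hb, mul_assoc, ← map_mul, S_mul_apply, rep4_apply, tens_apply] at h'
        simp only [PSL2Elements.mul_apply2, conjSL_apply, Prod.fst_swap, Prod.snd_swap] at h'
        simp [A, PSL2Elements.d, PSL2Elements.mk2] at h'
    refine exists_orderOf_fixed p hk (outer hb A) (by omega) ?_ ?_
      (Pi.single (0, 0) 1 + (-((a : K)⁻¹ * fr p n (a : K)⁻¹)) • Pi.single (1, 1) 1) ?_ ?_
    · rw [outer_val]; exact hord1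
    · rw [cast_add_one hb]; exact one_ne_zero
    · intro h
      simpa using congrFun h (0, 0)
    · funext i
      obtain ⟨i1, i2⟩ := i
      rw [outer_val, Matrix.mulVec, dotProduct, Fintype.sum_prod_type]
      simp only [Fin.sum_univ_two, S_mul_apply, rep4_apply, tens_apply]
      fin_cases i1 <;> fin_cases i2 <;>
        simp [A, PSL2Elements.mk2, map_inv₀, Pi.single_apply] <;> field_simp

theorem exists_large (h5 : 5 ≤ p) (hb : Big p K n) (N : ℕ) :
    ∃ (H : Type) (_ : Group H) (_ : Fintype H), N < Fintype.card H ∧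
      ∀ d, (∃ x : H, orderOf x = d) ↔ ∃ m ∈ exps p (p ^ n), d ∣ m := by
  have hker : ∀ A : SL(2, K), rep4 p n A = 1 ↔ A = 1 ∨ A = -1 := fun A => rep4_ker n A
  refine LinearExtension.exists_large (W K p n hb) _ N (fun x => upper h5 hb x) (fun m hm => ?_)
  have hle : img (rep4 (K := K) p n) ≤ W K p n hb := by
    rintro _ ⟨A, rfl⟩
    exact ⟨A, Or.inl (MonoidHom.coe_toHomUnits _ A)⟩
  have htori := exists_tori hb (rep4 p n) hker (N + 1) _ hle
  obtain ⟨⟨x1, hx1⟩, x2, hx2⟩ := exists_mixed h5 hb (N + 1) (Nat.succ_pos N)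
  simp only [exps, Finset.mem_insert, Finset.mem_singleton] at hm
  rcases hm with rfl | rfl | rfl | rfl | rfl
  · obtain ⟨x, hx⟩ := htori.1; exact ⟨x, hx.symm.dvd⟩
  · obtain ⟨x, hx⟩ := htori.2; exact ⟨x, hx.symm.dvd⟩
  · exact ⟨x2, hx2.symm.dvd⟩
  · exact ⟨x1, hx1.symm.dvd⟩
  · refine ⟨x2, ?_⟩
    rw [hx2, extra, if_neg (by omega), if_neg (by omega)]
    exact dvd_mul_right p _

end Cfsg.Agent.IsospectralPSp4Odd
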