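import Mathlib
import Cfsg.Agent.Lib.LinearExtension
import Cfsg.Agent.Lib.PSp4Orders

set_option autoImplicit false

/-!
Groups of unbounded order with the element orders `{1,2,3,4,5,6,9,12}` of `PSp(4,3)`: extensions of the
signed heart of the permutation module of `S5` over the field of three elements.
-/

namespace Cfsg.Agent.IsospectralPSp4Three

open Matrix hiding comp
open Finset
open LinearExtension PSp4Orders

/-- The signed heart, as matrices. -/
def M (π : Equiv.Perm (Fin 5)) : Matrix (Fin 4) (Fin 4) (ZMod 3) := fun i j =>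
  ((Equiv.Perm.sign π : ℤˣ) : ℤ) *
    ((if π j.castSucc = i.castSucc then (1 : ZMod 3) else 0) - if π 4 = i.castSucc then 1 else 0)

lemma M_one : M 1 = 1 := by
  ext i j
  have h : ∀ i : Fin 4, (4 : Fin 5) ≠ i.castSucc := by decide
  simp [M, Matrix.one_apply, eq_comm (a := i), h]

lemma M_mul (π σ : Equiv.Perm (Fin 5)) : M (π * σ) = M π * M σ := by
  ext i j
  let f : Fin 5 → ZMod 3 := fun l =>
    ((if π l = i.castSucc then 1 else 0) - if π 4 = i.castSucc then 1 else 0) *
      ((if σ j.castSucc = l then 1 else 0) - if σ 4 = l then 1 else 0)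
  have h : (M π * M σ) i j =
      ((Equiv.Perm.sign π : ℤˣ) : ℤ) * ((Equiv.Perm.sign σ : ℤˣ) : ℤ) * ∑ l : Fin 5, f l := by
    rw [Fin.sum_univ_castSucc, show f (Fin.last 4) = 0 by simp [f, show Fin.last 4 = (4 : Fin 5) from rfl],
      add_zero, Matrix.mul_apply, Finset.mul_sum]
    refine Finset.sum_congr rfl fun l _ => ?_
    simp only [M, f]
    ring
  have hs : ∑ l : Fin 5, f l = (if π (σ j.castSucc) = i.castSucc then (1 : ZMod 3) else 0) -
      if π (σ 4) = i.castSucc then 1 else 0 := by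
    simp only [f, mul_sub, mul_ite, mul_one, mul_zero, Finset.sum_sub_distrib, Finset.sum_ite_eq,
      Finset.mem_univ, if_true]
    ring
  rw [h, hs]
  simp only [M, Equiv.Perm.mul_apply, map_mul, Units.val_mul, Int.cast_mul]
  rfl

/-- The representation. -/
def rep : Equiv.Perm (Fin 5) →* Matrix (Fin 4) (Fin 4) (ZMod 3) where
  toFun := M
  map_one' := M_one
  map_mul' := M_mul

/-- A geometric sum, entrywise. -/
def geom (π : Equiv.Perm (Fin 5)) (k : ℕ) (i j : Fin 4) : ZMod 3 :=
  ((List.range k).map fun t => M (π ^ t) i j).sum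

lemma geom_eq (π : Equiv.Perm (Fin 5)) (k : ℕ) (i j : Fin 4) :
    (∑ t ∈ Finset.range k, rep π ^ t) i j = geom π k i j := by
  induction k with
  | zero => simp [geom]
  | succ k ih =>
    rw [Finset.sum_range_succ, Matrix.add_apply, ih, ← map_pow]
    simp [geom, List.range_succ, rep]

lemma table : ∀ π : Equiv.Perm (Fin 5), ∃ k ∈ [5, 9, 12], π ^ k = 1 ∧ ∀ i j, geom π k i j = 0 := by
  decide +kernel

/-- The linear group. -/
abbrev W : Subgroup (Matrix (Fin 4) (Fin 4) (ZMod 3))ˣ := rep.toHomUnits.range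

theorem exists_large (N : ℕ) :
    ∃ (H : Type) (_ : Group H) (_ : Fintype H), N < Fintype.card H ∧
      ∀ d, (∃ x : H, orderOf x = d) ↔ ∃ m ∈ exps 3 3, d ∣ m := by
  suffices ∃ (H : Type) (_ : Group H) (_ : Fintype H), N < Fintype.card H ∧
      ∀ d, (∃ x : H, orderOf x = d) ↔ ∃ m ∈ ({5, 9, 12} : Finset ℕ), d ∣ m by
    obtain ⟨H, i1, i2, hN, hH⟩ := this
    refine ⟨H, i1, i2, hN, fun d => (hH d).trans ⟨?_, ?_⟩⟩ <;> rintro ⟨m, hm, hd⟩
    · refine ⟨m, ?_, hd⟩
      simp [exps, gfac, extra] at hm ⊢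
      omega
    · have h : m ∈ ({5, 4, 12, 6, 9} : Finset ℕ) := by
        simpa [exps, gfac, extra] using hm
      simp only [Finset.mem_insert, Finset.mem_singleton] at h
      rcases h with rfl | rfl | rfl | rfl | rfl
      exacts [⟨5, by simp, hd⟩, ⟨12, by simp, hd.trans (by norm_num)⟩, ⟨12, by simp, hd⟩,
        ⟨12, by simp, hd.trans (by norm_num)⟩, ⟨9, by simp, hd⟩]
  refine LinearExtension.exists_large W _ N (fun x => ?_) (fun m hm => ?_)
  · obtain ⟨π, hπ⟩ := x.right.2
    have hx : mat x = rep π := by rw [mat, ← hπ, MonoidHom.coe_toHomUnits]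
    obtain ⟨k, hk, h1, h2⟩ := table π
    refine ⟨k, by simpa using hk, pow_eq_one x (by rw [hx, ← map_pow, h1, map_one]) ?_⟩
    ext i j
    rw [hx, geom_eq, h2]
    rfl
  · have wit : ∀ (π : Equiv.Perm (Fin 5)), orderOf (⟨rep.toHomUnits π, π, rfl⟩ : W) = orderOf (rep π) := by
      intro π; rw [LinearExtension.orderOf_eq_mat]; rfl
    simp only [Finset.mem_insert, Finset.mem_singleton] at hm
    rcases hm with rfl | rfl | rfl
    · obtain ⟨x, hx⟩ := exists_orderOf_right (k := N + 1)
        (⟨rep.toHomUnits (finRotate 5), finRotate 5, rfl⟩ : W)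
      refine ⟨x, (dvd_of_eq ?_)⟩
      haveI := Fact.mk Nat.prime_five
      rw [hx, wit]
      refine (orderOf_eq_prime (by rw [← map_pow, show finRotate 5 ^ 5 = 1 by decide +kernel, map_one]) ?_).symm
      show M (finRotate 5) ≠ 1
      decide +kernel
    · obtain ⟨x, hx⟩ := exists_orderOf_mul 3 (Nat.succ_pos N)
        (⟨rep.toHomUnits (Equiv.swap (0 : Fin 5) 1 * Equiv.swap 1 2), _, rfl⟩ : W) (by norm_num : 0 < 3)
        (by
          refine orderOf_eq_prime (by
            show rep (Equiv.swap (0 : Fin 5) 1 * Equiv.swap 1 2) ^ 3 = 1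
            rw [← map_pow, show (Equiv.swap (0 : Fin 5) 1 * Equiv.swap 1 2) ^ 3 = 1 by decide +kernel, map_one]) ?_
          show M (Equiv.swap (0 : Fin 5) 1 * Equiv.swap 1 2) ≠ 1
          decide +kernel)
        (Pi.single 0 1) (fun h => by
          have h' := congrFun h 1
          rw [Matrix.mulVec_single] at h'
          simp only [Pi.smul_apply, MulOpposite.op_one, one_smul, Matrix.col_apply] at h'
          rw [MonoidHom.coe_toHomUnits, geom_eq] at h'
          revert h'
          decide +kernel)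
      exact ⟨x, hx.symm.dvd⟩
    · obtain ⟨x, hx⟩ := exists_orderOf_fixed 3 (Nat.succ_pos N)
        (⟨rep.toHomUnits (Equiv.swap (0 : Fin 5) 1 * Equiv.swap 1 2 * Equiv.swap 2 3), _, rfl⟩ : W)
        (n := 2 ^ 2) (by norm_num : 0 < 2 ^ 2)
        (by
          refine orderOf_eq_prime_pow ?_ ?_
          · show ¬ rep (Equiv.swap (0 : Fin 5) 1 * Equiv.swap 1 2 * Equiv.swap 2 3) ^ 2 ^ 1 = 1
            rw [← map_pow]
            show ¬ M _ = 1
            decide +kernel
          · show rep (Equiv.swap (0 : Fin 5) 1 * Equiv.swap 1 2 * Equiv.swap 2 3) ^ 2 ^ (1 + 1) = 1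
            rw [← map_pow, show (Equiv.swap (0 : Fin 5) 1 * Equiv.swap 1 2 * Equiv.swap 2 3) ^ 2 ^ (1 + 1) = 1
              by decide +kernel, map_one])
        (by decide) (![1, 2, 1, 2] : Fin 4 → ZMod 3) (by decide) (by
          show M (Equiv.swap (0 : Fin 5) 1 * Equiv.swap 1 2 * Equiv.swap 2 3) *ᵥ _ = _
          decide +kernel)
      exact ⟨x, by rw [hx]; norm_num⟩

end Cfsg.Agent.IsospectralPSp4Three
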