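import Cfsg.Agent.Lib.J1Model91

/-!
Finite facts about `C₂ × A₅` used for the uniqueness of the first Janko group: the twist, linear maps of
`C₂ × V₄`, and the elements of order 5 inverted by given involutions.
-/

set_option autoImplicit false
set_option synthInstance.maxSize 4000
set_option synthInstance.maxHeartbeats 400000
set_option maxRecDepth 4000

namespace Cfsg.Agent.J1Order91

open Equiv

/-- The first basis involution of `V₄`. -/
def mA : M :=
  (1, ⟨swap (0 : Fin 5) 1 * swap 2 3, by rw [Perm.mem_alternatingGroup]; decide⟩)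

/-- The second basis involution of `V₄`. -/
def mB : M :=
  (1, ⟨swap (0 : Fin 5) 2 * swap 1 3, by rw [Perm.mem_alternatingGroup]; decide⟩)

/-- An involution inverting `mX`. -/
def mV : M :=
  (1, ⟨swap (1 : Fin 5) 2 * swap 3 4, by rw [Perm.mem_alternatingGroup]; decide⟩)

/-- The automorphism of the model induced by a transposition. -/
def twist : M →* M :=
  MonoidHom.prodMap (MonoidHom.id _) (MulAut.conjNormal (swap (1 : Fin 5) 2)).toMonoidHom

/-- The linear map of `C₂ × V₄` with prescribed values on the basis `mT, mA, mB`. -/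
def lin (a b c s : M) : M :=
  (if s.1 = 1 then 1 else a) *
  (if (s.2 : Perm (Fin 5)) 0 = 1 ∨ (s.2 : Perm (Fin 5)) 0 = 3 then b else 1) *
  (if (s.2 : Perm (Fin 5)) 0 = 2 ∨ (s.2 : Perm (Fin 5)) 0 = 3 then c else 1)

/-- The chosen action of the element of order 7. -/
def L0 (s : M) : M := lin mA (mA * mB) (mT * mB) s

/-- The elements of `C₂ × V₄`. -/
def P8 : List M := [1, mT, mA, mB, mA * mB, mT * mA, mT * mB, mT * (mA * mB)]

theorem mem_P8 : ∀ m : M, InP m → m ∈ P8 := by decide +kernel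

theorem inP_basis : InP mT ∧ InP mA ∧ InP mB ∧ (∀ a ∈ P8, InP a) ∧
    ∀ s : M, InP s → lin mT mA mB s = s := by decide +kernel

theorem lin_inP {a b c : M} (ha : InP a) (hb : InP b) (hc : InP c) (s : M) : InP (lin a b c s) := by
  unfold lin
  have h1 : InP (1 : M) := model_sylow.1
  have hm : ∀ x : M, InP x → ∀ y : M, InP y → InP (x * y) := fun x hx y hy =>
    (model_sylow.2.2.1 x hx y hy).1
  exact hm _ (hm _ (by split_ifs <;> assumption) _ (by split_ifs <;> assumption)) _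
    (by split_ifs <;> assumption)

theorem lin_P8 : ∀ a ∈ P8, ∀ b ∈ P8, ∀ c ∈ P8,
    (lin a b c)^[7] mT = mT → lin a b c mT ≠ mT →
    (∀ s ∈ P8, mX * lin a b c s * mX⁻¹ = lin a b c (lin a b c (mX * s * mX⁻¹))) →
    ∃ i : Fin 7, (lin a b c)^[(i : ℕ)] mT = L0 mT ∧ (lin a b c)^[(i : ℕ)] mA = L0 mA ∧
      (lin a b c)^[(i : ℕ)] mB = L0 mB := by
  decide +kernel

theorem lin_L0 : ∀ s : M, InP s → lin (L0 mT) (L0 mA) (L0 mB) s = L0 s := by decide +kernel

theorem L0_transitive : ∀ s : M, InP s → s ≠ 1 → ∃ i : Fin 7, L0^[(i : ℕ)] mT = s := by decide +kernel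

theorem twist_spec : twist mT = mT ∧ twist mX = mX⁻¹ ∧ (∀ m : M, twist (twist m) = m) ∧
    ∀ m : M, InP m → InP (twist m) := by decide +kernel

theorem normalizer_count :
    (Finset.univ.filter fun m : M => ∀ a ∈ P8, InP (m * a * m⁻¹)).card = 24 := by decide +kernel

theorem centralizer_inP : ∀ m : M, (∀ a ∈ P8, m * a = a * m) → InP m := by decide +kernel

theorem centralizer_X : (Finset.univ.filter fun m : M => m * mX = mX * m).card = 6 := by decide +kernel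

theorem v_facts : (∀ e : Fin 2, mV * mX * mV⁻¹ = mX⁻¹ ∧ mT ^ (e : ℕ) * mV * (mT ^ (e : ℕ) * mV) = 1) ∧
    mY * L0 mT * mY⁻¹ = mV ∧
    mY * mX⁻¹ * (L0^[6] mT) * (mY * mX⁻¹)⁻¹ = mT * mV ∧
    mY⁻¹ * mT * mY = mT ∧ (mY * mX⁻¹)⁻¹ * mT * (mY * mX⁻¹) = mT := by decide +kernel

theorem five_inverted :
    (∀ z : M, z ^ 5 = 1 → z ≠ 1 → L0^[6] mT * z * (L0^[6] mT)⁻¹ = z⁻¹ →
      ∃ i : Fin 5, z ^ (i : ℕ) = mY ∨ z ^ (i : ℕ) = mY * mX) ∧
    (∀ z : M, z ^ 5 = 1 → z ≠ 1 → L0 mT * z * (L0 mT)⁻¹ = z⁻¹ →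
      ∃ i : Fin 5, z ^ (i : ℕ) = mX * mY⁻¹ * mX ∨ z ^ (i : ℕ) = mX * mY⁻¹ * mY⁻¹) := by decide +kernel

theorem rels_model :
    InP (mX * mY * mX * mY⁻¹) ∧ InP (mY * mX * mY⁻¹ * mX) ∧
    L0 mT = mX * mY * mX * mY⁻¹ ∧
    L0 (mX * mY * mX * mY⁻¹) = mX * mY * mX⁻¹ * mY⁻¹ * mX ∧
    L0 (mY * mX * mY⁻¹ * mX) = mY * mX * mY⁻¹ * mX * mT := by decide +kernel

end Cfsg.Agent.J1Order91
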