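import Mathlib
import Cfsg.Agent.Lib.SimpleOrderCheck

/-!
The arithmetic behind the order of the first Janko group.
-/

set_option autoImplicit false
set_option maxRecDepth 8000
set_option synthInstance.maxSize 8000
set_option synthInstance.maxHeartbeats 400000

namespace Cfsg.Agent.J1Order91

/-- The possible signed degrees congruent to `5` modulo `8`. -/
def L5 : List ℤ := ((List.range 225).map fun k : ℕ => 8 * (k : ℤ) - 899).filter fun x => decide (13 ≤ x ∨ x ≤ -35)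

/-- The possible signed degrees congruent to `3` modulo `8`. -/
def L3 : List ℤ := (List.range 226).map fun k : ℕ => 8 * (k : ℤ) - 901

/-- The possible signed degrees congruent to `6` modulo `8`. -/
def L6 : List ℤ := (List.range 226).map fun k : ℕ => 8 * (k : ℤ) - 898

/-- The surviving pairs with their group orders. -/
def six : List (ℤ × ℤ × ℤ) :=
  [(-35, 45, 68040), (21, -75, 693000), (21, -35, 189000), (29, -35, 121800), (77, 133, 175560), (125, -155, 93000)]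

/-- The group order determined by the two degrees of type five. -/
def gA (p q : ℤ) : ℤ := 86400 * (p * q * (p + q - 1)) / (p * q * (p + q - 1) + p * q - 25 * (p + q) * (p + q - 1))

/-- The group order in the second configuration. -/
def gB (p : ℤ) : ℤ := 86400 * (p * ((1 - p) / 2)) / (p * ((1 - p) / 2) - 25 * ((1 - p) / 2) - 8 * p)

theorem stage_one : ∀ p ∈ L5, ∀ q ∈ L5, p.natAbs ≤ q.natAbs →
    86400 * (p * q * (p + q - 1)) % (p * q * (p + q - 1) + p * q - 25 * (p + q) * (p + q - 1)) = 0 →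
    0 < gA p q →
    gA p q % 120 = 0 →
    gA p q % 16 ≠ 0 →
    gA p q % p = 0 →
    gA p q % q = 0 →
    gA p q % (p + q - 1) = 0 →
    (p, q, gA p q) ∈ six := by
  decide +kernel

theorem stage_two : ∀ e ∈ six, ∀ x ∈ L3, x * x < e.2.2 → e.2.2 % x = 0 → -e.1 - e.2.1 - x ≠ 0 →
    e.2.2 % (-e.1 - e.2.1 - x) = 0 →
    e.2.2 * (25 * (e.1 + e.2.1) * x * (-e.1 - e.2.1 - x) + 9 * (-e.1 - e.2.1) * e.1 * e.2.1) =
      57600 * e.1 * e.2.1 * x * (-e.1 - e.2.1 - x) →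
    e.2.2 = 175560 ∨ (e.2.2 = 189000 ∧ e.1 = 21 ∧ e.2.1 = -35 ∧ x % 7 = 0 ∧ (-e.1 - e.2.1 - x) % 7 = 0) := by
  decide +kernel

theorem stage_b : ∀ p ∈ L5, p.natAbs ≤ 470 →
    86400 * (p * ((1 - p) / 2)) % (p * ((1 - p) / 2) - 25 * ((1 - p) / 2) - 8 * p) = 0 →
    0 < gB p →
    gB p % 120 = 0 →
    gB p % 16 ≠ 0 →
    ∀ q ∈ L6, q * q < gB p →
    -p - q - (1 - p) / 2 ≠ 0 →
    gB p *
        (25 * q * ((1 - p) / 2) * (-p - q - (1 - p) / 2) + 36 * p * ((1 - p) / 2) * (-p - q - (1 - p) / 2) +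
          4 * p * q * (-p - q - (1 - p) / 2) + 9 * p * q * ((1 - p) / 2)) ≠
      57600 * p * q * ((1 - p) / 2) * (-p - q - (1 - p) / 2) := by
  decide +kernel

/-- The possible products of the three columns on the overlapping supports. -/
theorem sign_key : ∀ x1 ∈ ([-1, 0, 1] : List ℤ), ∀ x2 ∈ ([-1, 0, 1] : List ℤ), ∀ x3 ∈ ([-1, 0, 1] : List ℤ),
    ∀ x4 ∈ ([-1, 0, 1] : List ℤ), ∀ x5 ∈ ([-1, 0, 1] : List ℤ), ∀ x6 ∈ ([-1, 0, 1] : List ℤ),
    x1 + x2 + x3 + x4 = -2 → x1 + x2 + x5 + x6 = -2 →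
    x1 * x1 + x2 * x2 + x3 * x3 + x4 * x4 + x5 * x5 + x6 * x6 ≤ 3 →
    (x1 = -1 ∧ x2 = -1 ∧ x3 = 0 ∧ x4 = 0 ∧ x5 = 0 ∧ x6 = 0) ∨
    (((x1 = -1 ∧ x2 = 0) ∨ (x1 = 0 ∧ x2 = -1)) ∧ ((x3 = -1 ∧ x4 = 0) ∨ (x3 = 0 ∧ x4 = -1)) ∧
      ((x5 = -1 ∧ x6 = 0) ∨ (x5 = 0 ∧ x6 = -1))) := by
  decide +kernel

/-- An involution count that is `0` or a divisor of an odd centralizer order cannot occur. -/
theorem stage_seven : ∀ C ∈ [2625, 875, 525, 175, 35], ∀ a ∈ List.range 2626, (a = 0 ∨ C % a = 0) →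
    ∀ du ∈ List.range 308, 28 ≤ du → du % 8 = 4 → 189000 % du = 0 → du % 7 ≠ 0 →
    ((a : ℤ) - 14) * du % 420 = 0 → (((a : ℤ) - 14) * du / 420 - du) % 7 = 0 →
    (C : ℤ) < 2 * (((a : ℤ) - 14) * du / 420) * (((a : ℤ) - 14) * du / 420) := by
  decide +kernel

open Cfsg.Agent.SimpleOrderCheck in
/-- The possible odd centralizer orders of an element of order seven in a simple group of order `189000`. -/
theorem seven_centralizers : ∀ d ∈ cand 189000 7 27000, ∀ e ∈ eList 189000 7 d,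
    189000 / d / e % 2 = 0 ∨ 189000 / d / e ∈ [2625, 875, 525, 175, 35] := by
  decide +kernel

end Cfsg.Agent.J1Order91
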