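import Mathlib

/-!
Packed 7 × 7 matrices over `ZMod 11`: one natural number with 49 slots of 24 bits.
-/

set_option autoImplicit false

namespace Cfsg.Agent.J1Code

/-- Pack the digits `f 0, ..., f (N-1)`. -/
def encN (f : ℕ → ℕ) (N : ℕ) : ℕ := ∑ p ∈ Finset.range N, f p * 2 ^ (24 * p)

theorem encN_lt (f : ℕ → ℕ) : ∀ N, (∀ p < N, f p < 2 ^ 24) → encN f N < 2 ^ (24 * N)
  | 0, _ => by simp [encN]
  | N + 1, h => by
    have ih := encN_lt f N (fun p hp => h p (by omega))
    have e : encN f (N + 1) = encN f N + f N * 2 ^ (24 * N) := Finset.sum_range_succ _ _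
    have h1 : f N + 1 ≤ 2 ^ 24 := h N (by omega)
    calc encN f (N + 1) = encN f N + f N * 2 ^ (24 * N) := e
      _ < 2 ^ (24 * N) + f N * 2 ^ (24 * N) := by omega
      _ = (f N + 1) * 2 ^ (24 * N) := by ring
      _ ≤ 2 ^ 24 * 2 ^ (24 * N) := Nat.mul_le_mul_right _ h1
      _ = 2 ^ (24 * (N + 1)) := by rw [← pow_add]; ring_nf

theorem testBit_encN (f : ℕ → ℕ) : ∀ N, (∀ p < N, f p < 2 ^ 24) → ∀ n,
    (encN f N).testBit n = (decide (n / 24 < N) && (f (n / 24)).testBit (n % 24))
  | 0, _, n => by simp [encN]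
  | N + 1, h, n => by
    have ih := testBit_encN f N (fun p hp => h p (by omega)) n
    have hlt := encN_lt f N (fun p hp => h p (by omega))
    have e : encN f (N + 1) = 2 ^ (24 * N) * f N + encN f N := by
      rw [encN, Finset.sum_range_succ, ← encN]; ring
    rw [e, Nat.testBit_two_pow_mul_add _ hlt]
    by_cases hn : n < 24 * N
    · rw [if_pos hn, ih]
      simp [show n / 24 < N by omega, show n / 24 < N + 1 by omega]
    · rw [if_neg hn]
      by_cases hn' : n / 24 < N + 1
      · obtain rfl : n / 24 = N := by omega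
        simp [show n - 24 * (n / 24) = n % 24 by omega]
      · have : (f N).testBit (n - 24 * N) = false := by
          apply Nat.testBit_lt_two_pow
          exact lt_of_lt_of_le (h N (by omega)) (Nat.pow_le_pow_right (by norm_num) (by omega))
        simp [this, hn']

theorem encN_inj (f g : ℕ → ℕ) (N : ℕ) (hf : ∀ p < N, f p < 2 ^ 24) (hg : ∀ p < N, g p < 2 ^ 24)
    (h : encN f N = encN g N) (p : ℕ) (hp : p < N) : f p = g p := by
  apply Nat.eq_of_testBit_eq
  intro r
  by_cases hr : r < 24
  · have h1 := testBit_encN f N hf (24 * p + r)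
    rw [h, testBit_encN g N hg] at h1
    rw [show (24 * p + r) / 24 = p by omega, show (24 * p + r) % 24 = r by omega] at h1
    simpa [hp] using h1.symm
  · rw [Nat.testBit_lt_two_pow, Nat.testBit_lt_two_pow]
    · exact lt_of_lt_of_le (hg p hp) (Nat.pow_le_pow_right (by norm_num) (by omega))
    · exact lt_of_lt_of_le (hf p hp) (Nat.pow_le_pow_right (by norm_num) (by omega))

theorem encN_seven (f : ℕ → ℕ) :
    encN f 49 = ∑ i : Fin 7, ∑ j : Fin 7, f (7 * i + j) * 2 ^ (24 * (7 * (i : ℕ) + j)) := by
  simp only [encN, Finset.sum_range_succ, Finset.sum_range_zero, Fin.sum_univ_seven]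
  simp
  ring

/-- digit function of a matrix -/
def dig (a : Matrix (Fin 7) (Fin 7) (ZMod 11)) (p : ℕ) : ℕ :=
  if h : p < 49 then (a ⟨p / 7, by omega⟩ ⟨p % 7, by omega⟩).val else 0

theorem dig_lt (a : Matrix (Fin 7) (Fin 7) (ZMod 11)) (p : ℕ) : dig a p < 11 := by
  unfold dig
  split
  · exact ZMod.val_lt _
  · norm_num

theorem dig_eq (a : Matrix (Fin 7) (Fin 7) (ZMod 11)) (i j : Fin 7) :
    dig a (7 * (i : ℕ) + j) = (a i j).val := by
  unfold dig
  rw [dif_pos (by omega)]
  congr 2 <;> apply Fin.ext <;> dsimp <;> omega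

/-- The code of a matrix. -/
def encM (a : Matrix (Fin 7) (Fin 7) (ZMod 11)) : ℕ := encN (dig a) 49

theorem encM_injective : Function.Injective encM := by
  intro a b h
  ext i j
  have := encN_inj (dig a) (dig b) 49 (fun p _ => (dig_lt a p).trans (by norm_num))
    (fun p _ => (dig_lt b p).trans (by norm_num)) h (7 * (i : ℕ) + j) (by omega)
  rw [dig_eq, dig_eq] at this
  rw [ZMod.val_injective 11 this]

/-- mask of the seven leading slots of the rows -/
def colMask : ℕ := encN (fun p => if p % 7 = 0 then 2 ^ 24 - 1 else 0) 49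

/-- mask of the first row -/
def rowMask : ℕ := encN (fun p => if p < 7 then 2 ^ 24 - 1 else 0) 49

/-- mask of the low six bits of each slot -/
def qMask : ℕ := encN (fun _ => 2 ^ 6 - 1) 49

/-- slot-wise reduction modulo 11 -/
def red (qm x : ℕ) : ℕ := x - 11 * (Nat.land (Nat.shiftRight (x * 2979) 15) qm)

/-- product of column `k` of `A` and row `k` of `B` -/
def term (cm rm A B k : ℕ) : ℕ :=
  Nat.land (Nat.shiftRight A (24 * k)) cm * Nat.land (Nat.shiftRight B (168 * k)) rm

theorem testBit_mask (r : ℕ) (hr : r < 24) (m : ℕ) : (2 ^ m - 1 : ℕ).testBit r = decide (r < m) :=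
  Nat.testBit_two_pow_sub_one m r

theorem col_eq (a : Matrix (Fin 7) (Fin 7) (ZMod 11)) (k : Fin 7) :
    Nat.land (Nat.shiftRight (encM a) (24 * k)) colMask =
      encN (fun p => if p % 7 = 0 then dig a (p + k) else 0) 49 := by
  apply Nat.eq_of_testBit_eq
  intro n
  show ((encM a >>> (24 * (k : ℕ))) &&& colMask).testBit n = _
  rw [Nat.testBit_and, Nat.testBit_shiftRight, encM, colMask,
    testBit_encN (dig a) 49 (fun p _ => (dig_lt a p).trans (by norm_num)),
    testBit_encN _ 49 (fun p _ => by split <;> norm_num),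
    testBit_encN _ 49 (fun p _ => by split; exact (dig_lt a _).trans (by norm_num); norm_num),
    show (24 * (k : ℕ) + n) / 24 = n / 24 + k by omega, show (24 * (k : ℕ) + n) % 24 = n % 24 by omega]
  by_cases h7 : n / 24 % 7 = 0
  · simp only [if_pos h7, testBit_mask _ (Nat.mod_lt n (by norm_num)), Nat.mod_lt n (show 24 > 0 by norm_num)]
    by_cases h : n / 24 < 49
    · simp [h, show n / 24 + (k : ℕ) < 49 by omega]
    · simp [h]
  · simp [if_neg h7]

theorem row_eq (b : Matrix (Fin 7) (Fin 7) (ZMod 11)) (k : Fin 7) :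
    Nat.land (Nat.shiftRight (encM b) (168 * k)) rowMask =
      encN (fun p => if p < 7 then dig b (7 * k + p) else 0) 49 := by
  apply Nat.eq_of_testBit_eq
  intro n
  show ((encM b >>> (168 * (k : ℕ))) &&& rowMask).testBit n = _
  rw [Nat.testBit_and, Nat.testBit_shiftRight, encM, rowMask,
    testBit_encN (dig b) 49 (fun p _ => (dig_lt b p).trans (by norm_num)),
    testBit_encN _ 49 (fun p _ => by split <;> norm_num),
    testBit_encN _ 49 (fun p _ => by split; exact (dig_lt b _).trans (by norm_num); norm_num),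
    show (168 * (k : ℕ) + n) / 24 = 7 * k + n / 24 by omega, show (168 * (k : ℕ) + n) % 24 = n % 24 by omega]
  by_cases h7 : n / 24 < 7
  · simp only [if_pos h7, testBit_mask _ (Nat.mod_lt n (by norm_num)), Nat.mod_lt n (show 24 > 0 by norm_num)]
    simp [show n / 24 < 49 by omega, show 7 * (k : ℕ) + n / 24 < 49 by omega]
  · simp [if_neg h7]

theorem col_sum (a : Matrix (Fin 7) (Fin 7) (ZMod 11)) (k : Fin 7) :
    encN (fun p => if p % 7 = 0 then dig a (p + k) else 0) 49 =
      ∑ i : Fin 7, (a i k).val * 2 ^ (24 * (7 * (i : ℕ))) := by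
  rw [encN_seven]
  apply Finset.sum_congr rfl
  intro i _
  rw [Finset.sum_eq_single (0 : Fin 7)]
  · simp [← dig_eq]
  · intro j _ hj
    have : (j : ℕ) ≠ 0 := fun h => hj (Fin.ext h)
    rw [if_neg (by omega), zero_mul]
  · simp

theorem row_sum (b : Matrix (Fin 7) (Fin 7) (ZMod 11)) (k : Fin 7) :
    encN (fun p => if p < 7 then dig b (7 * k + p) else 0) 49 =
      ∑ j : Fin 7, (b k j).val * 2 ^ (24 * (j : ℕ)) := by
  rw [encN_seven, Finset.sum_eq_single (0 : Fin 7)]
  · apply Finset.sum_congr rfl
    intro j _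
    simp [← dig_eq, show (j : ℕ) < 7 by omega]
  · intro i _ hi
    have : (i : ℕ) ≠ 0 := fun h => hi (Fin.ext h)
    exact Finset.sum_eq_zero fun j _ => by rw [if_neg (by omega), zero_mul]
  · simp

/-- product of codes, with the three masks given as numbers -/
def mulW (cm rm qm A B : ℕ) : ℕ :=
  red qm (term cm rm A B 0 + term cm rm A B 1 + term cm rm A B 2 + term cm rm A B 3 + term cm rm A B 4 +
    term cm rm A B 5 + term cm rm A B 6)

theorem sum_lt (a b : Matrix (Fin 7) (Fin 7) (ZMod 11)) (i j : Fin 7) :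
    (∑ k : Fin 7, (a i k).val * (b k j).val) ≤ 700 := by
  calc (∑ k : Fin 7, (a i k).val * (b k j).val) ≤ ∑ _k : Fin 7, 100 :=
        Finset.sum_le_sum fun k _ => by
          have h1 := ZMod.val_lt (a i k)
          have h2 := ZMod.val_lt (b k j)
          exact le_trans (Nat.mul_le_mul (Nat.le_of_lt_succ h1) (Nat.le_of_lt_succ h2)) (le_refl _)
    _ = 700 := by simp

theorem barrett : ∀ x, x < 701 → x * 2979 / 2 ^ 15 = x / 11 := by decide +kernel

/-- unreduced digits of a product -/
def pdig (a b : Matrix (Fin 7) (Fin 7) (ZMod 11)) (p : ℕ) : ℕ :=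
  if h : p < 49 then ∑ k : Fin 7, (a ⟨p / 7, by omega⟩ k).val * (b k ⟨p % 7, by omega⟩).val else 0

theorem mulW_encM (a b : Matrix (Fin 7) (Fin 7) (ZMod 11)) :
    mulW colMask rowMask qMask (encM a) (encM b) = encM (a * b) := by
  have hp : ∀ p, pdig a b p ≤ 700 := by
    intro p; unfold pdig
    split
    · exact sum_lt _ _ _ _
    · norm_num
  have hterm : ∀ k : Fin 7, term colMask rowMask (encM a) (encM b) (k : ℕ) =
      ∑ i : Fin 7, ∑ j : Fin 7, (a i k).val * (b k j).val * 2 ^ (24 * (7 * (i : ℕ) + j)) := by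
    intro k
    rw [term, col_eq, row_eq, col_sum, row_sum, Finset.sum_mul_sum]
    apply Finset.sum_congr rfl; intro i _
    apply Finset.sum_congr rfl; intro j _
    rw [mul_add 24, pow_add]; ring
  have hsum : term colMask rowMask (encM a) (encM b) 0 + term colMask rowMask (encM a) (encM b) 1 +
      term colMask rowMask (encM a) (encM b) 2 + term colMask rowMask (encM a) (encM b) 3 +
      term colMask rowMask (encM a) (encM b) 4 + term colMask rowMask (encM a) (encM b) 5 +
      term colMask rowMask (encM a) (encM b) 6 = encN (pdig a b) 49 := by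
    have e : ∑ k : Fin 7, term colMask rowMask (encM a) (encM b) (k : ℕ) = encN (pdig a b) 49 := by
      simp only [hterm]
      rw [encN_seven, Finset.sum_comm]
      apply Finset.sum_congr rfl; intro i _
      rw [Finset.sum_comm]
      apply Finset.sum_congr rfl; intro j _
      rw [← Finset.sum_mul]
      congr 1
      unfold pdig
      rw [dif_pos (by omega)]
      apply Finset.sum_congr rfl; intro k _
      congr 3 <;> apply Fin.ext <;> dsimp <;> omega
    rw [← e, Fin.sum_univ_seven]
    simp
  rw [mulW, hsum, red]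
  have hq : Nat.land (Nat.shiftRight (encN (pdig a b) 49 * 2979) 15) qMask =
      encN (fun p => pdig a b p / 11) 49 := by
    have e : encN (pdig a b) 49 * 2979 = encN (fun p => pdig a b p * 2979) 49 := by
      rw [encN, encN, Finset.sum_mul]
      exact Finset.sum_congr rfl fun p _ => by ring
    apply Nat.eq_of_testBit_eq
    intro n
    show (((encN (pdig a b) 49 * 2979) >>> 15) &&& qMask).testBit n = _
    rw [e, Nat.testBit_and, Nat.testBit_shiftRight, qMask,
      testBit_encN (fun _ => 2 ^ 6 - 1) 49 (fun p _ => by norm_num),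
      testBit_encN (fun p => pdig a b p * 2979) 49 (fun p _ => by have := hp p; norm_num; omega),
      testBit_encN (fun p => pdig a b p / 11) 49 (fun p _ => by have := hp p; norm_num; omega)]
    rw [testBit_mask _ (Nat.mod_lt n (by norm_num))]
    by_cases h6 : n % 24 < 6
    · rw [show (15 + n) / 24 = n / 24 by omega, show (15 + n) % 24 = 15 + n % 24 by omega,
        ← barrett (pdig a b (n / 24)) (by have := hp (n / 24); omega), Nat.testBit_div_two_pow]
      simp only [h6, decide_true, Bool.and_true]
      rw [add_comm 15]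
      cases decide (n / 24 < 49) <;> simp
    · have : (pdig a b (n / 24) / 11).testBit (n % 24) = false := by
        apply Nat.testBit_lt_two_pow
        have := hp (n / 24)
        calc pdig a b (n / 24) / 11 < 2 ^ 6 := by norm_num; omega
          _ ≤ 2 ^ (n % 24) := Nat.pow_le_pow_right (by norm_num) (by omega)
      simp [h6, this]
  rw [hq, encM]
  have hdig : ∀ p < 49, dig (a * b) p = pdig a b p % 11 := by
    intro p hp'
    unfold dig pdig
    rw [dif_pos hp', dif_pos hp', Matrix.mul_apply]
    rw [← ZMod.val_natCast 11]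
    congr 1
    push_cast [ZMod.natCast_zmod_val]
    rfl
  have e2 : encN (dig (a * b)) 49 + 11 * encN (fun p => pdig a b p / 11) 49 = encN (pdig a b) 49 := by
    rw [encN, encN, encN, Finset.mul_sum, ← Finset.sum_add_distrib]
    apply Finset.sum_congr rfl
    intro p hp'
    rw [hdig p (Finset.mem_range.1 hp'), ← mul_assoc, ← add_mul]
    congr 1
    exact Nat.mod_add_div _ 11
  omega

end Cfsg.Agent.J1Code
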