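import Mathlib
import Cfsg.Prelude.Def_Spor_J1
import Cfsg.Agent.Lib.J1Code
import Cfsg.Agent.Lib.J1Data

/-!
Kernel-checked certificate for the Janko group J1: cosets of the centralizer of an involution `t`
(order 120) correspond to the 1463 conjugates of `t`.
-/

set_option autoImplicit false

namespace Cfsg.Agent.J1Cert

open Cfsg.Agent.J1Code Cfsg.Agent.J1Data

/-- lookup in a tree -/
noncomputable def getT (t : Tr) : ℕ → ℕ → ℕ :=
  Tr.rec (motive := fun _ => ℕ → ℕ → ℕ) (fun n _ _ => n)
    (fun _ _ l r s i => cond (Nat.blt i (s / 2)) (l (s / 2) i) (r (s / 2) (i - s / 2))) t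

/-- lookup in a packed table -/
def gt (T i : ℕ) : ℕ := Nat.land (Nat.shiftRight T (12 * i)) 4095

/-- `∀ i < n` as a Boolean -/
noncomputable def allB (n : ℕ) (p : ℕ → Bool) : Bool :=
  Nat.rec (motive := fun _ => Bool) true (fun k b => p k && b) n

theorem allB_spec {n : ℕ} {p : ℕ → Bool} (h : allB n p = true) : ∀ i < n, p i = true := by
  induction n with
  | zero => intro i hi; omega
  | succ k ih =>
    intro i hi
    simp only [allB, Bool.and_eq_true] at h
    rcases Nat.lt_succ_iff_lt_or_eq.1 hi with h' | h'
    · exact ih h.2 i h'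
    · exact h' ▸ h.1

/-- the mask numbers -/
def cmN : ℕ := colMask
/-- product of codes -/
noncomputable def M (A B : ℕ) : ℕ :=
  mulW 0xffffff000000000000000000000000000000000000ffffff000000000000000000000000000000000000ffffff000000000000000000000000000000000000ffffff000000000000000000000000000000000000ffffff000000000000000000000000000000000000ffffff000000000000000000000000000000000000ffffff
    0xffffffffffffffffffffffffffffffffffffffffff
    0x3f00003f00003f00003f00003f00003f00003f00003f00003f00003f00003f00003f00003f00003f00003f00003f00003f00003f00003f00003f00003f00003f00003f00003f00003f00003f00003f00003f00003f00003f00003f00003f00003f00003f00003f00003f00003f00003f00003f00003f00003f00003f00003f00003f00003f00003f00003f00003f00003f A B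

theorem M_eq (A B : ℕ) : M A B = mulW colMask rowMask qMask A B := by
  have h1 : colMask = 0xffffff000000000000000000000000000000000000ffffff000000000000000000000000000000000000ffffff000000000000000000000000000000000000ffffff000000000000000000000000000000000000ffffff000000000000000000000000000000000000ffffff000000000000000000000000000000000000ffffff := by decide +kernel
  have h2 : rowMask = 0xffffffffffffffffffffffffffffffffffffffffff := by decide +kernel
  have h3 : qMask = 0x3f00003f00003f00003f00003f00003f00003f00003f00003f00003f00003f00003f00003f00003f00003f00003f00003f00003f00003f00003f00003f00003f00003f00003f00003f00003f00003f00003f00003f00003f00003f00003f00003f00003f00003f00003f00003f00003f00003f00003f00003f00003f00003f00003f00003f00003f00003f00003f00003f := by decide +kernel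
  rw [M, h1, h2, h3]

/-- the code of a group element -/
noncomputable def code (g : GL (Fin 7) (ZMod 11)) : ℕ := encM (g : Matrix (Fin 7) (Fin 7) (ZMod 11))

theorem code_mul (g h : GL (Fin 7) (ZMod 11)) : code (g * h) = M (code g) (code h) := by
  rw [M_eq, code, code, code, mulW_encM, Units.val_mul]

theorem code_injective : Function.Injective code := fun _ _ h => Units.ext (encM_injective h)

/-- code of the identity -/
def oneC : ℕ := encM 1
/-- code of X -/
def xC : ℕ := encM Cfsg.jankoMatrixX
/-- code of Y -/
def yC : ℕ := encM Cfsg.jankoMatrixY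

theorem code_one : code 1 = oneC := by rw [code, Units.val_one, oneC]
theorem code_x : code Cfsg.Spor.jankoX = xC := rfl
theorem code_y : code Cfsg.Spor.jankoY = yC := rfl

/-- the two generators -/
def gen (b : Bool) : GL (Fin 7) (ZMod 11) := cond b Cfsg.Spor.jankoY Cfsg.Spor.jankoX
/-- their codes -/
def genC (b : Bool) : ℕ := cond b yC xC

theorem code_gen (b : Bool) : code (gen b) = genC b := by cases b <;> rfl

theorem gen_mem (b : Bool) : gen b ∈ Cfsg.Spor.J1 := by
  apply Subgroup.subset_closure
  cases b <;> simp [gen]

/-- evaluation of a word on codes -/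
noncomputable def wordC : List Bool → ℕ := fun w =>
  List.rec (motive := fun _ => ℕ) oneC (fun b _ r => M (genC b) r) w

theorem word_mem (w : List Bool) : ∃ g ∈ Cfsg.Spor.J1, code g = wordC w := by
  induction w with
  | nil => exact ⟨1, one_mem _, code_one⟩
  | cons b w ih =>
    obtain ⟨g, hg, hgc⟩ := ih
    exact ⟨gen b * g, mul_mem (gen_mem b) hg, by rw [code_mul, code_gen, hgc]; rfl⟩

/-- representative code -/
noncomputable def repC (c : ℕ) : ℕ := getT repT 2048 c
/-- involution code -/
noncomputable def uC (c : ℕ) : ℕ := getT uT 2048 c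
/-- centralizer element code -/
noncomputable def sC (i : ℕ) : ℕ := getT sT 128 i
/-- code of a generator of the centralizer -/
def hC (j : ℕ) : ℕ := match j with | 0 => hCode0 | 1 => hCode1 | _ => hCode2
/-- edge tables -/
def eT (b : Bool) : ℕ := cond b eT1 eT0
/-- edge tables -/
def eS (b : Bool) : ℕ := cond b eS1 eS0

/-- generators of the centralizer are words -/
noncomputable def chkWords : Bool :=
  Nat.beq (wordC hWord0) hCode0 && Nat.beq (wordC hWord1) hCode1 && Nat.beq (wordC hWord2) hCode2 &&
    Nat.beq hCode0 tCode && Nat.beq (repC 0) oneC && Nat.beq (sC 0) oneC && Nat.beq (uC 0) tCode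

/-- spanning tree of the centralizer, closure under generators, commutation with t -/
noncomputable def chkS : Bool :=
  allB 120 fun i =>
    (Nat.beq i 0 || (Nat.blt (gt sParT i) i && Nat.blt (gt sParG i) 3 &&
      Nat.beq (M (sC (gt sParT i)) (hC (gt sParG i))) (sC i))) &&
    allB 3 (fun j => Nat.blt (gt sMulT (3 * i + j)) 120 &&
      Nat.beq (M (sC i) (hC j)) (sC (gt sMulT (3 * i + j)))) &&
    Nat.beq (M (sC i) tCode) (M tCode (sC i)) &&
    Nat.blt (gt sPos i) 120 && Nat.beq (gt sOrd (gt sPos i)) i &&
    (Nat.ble 119 i || Nat.blt (sC (gt sOrd i)) (sC (gt sOrd (i + 1))))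

/-- spanning tree of the cosets, edges -/
noncomputable def chkR : Bool :=
  allB 1463 fun c =>
    (Nat.beq c 0 || (Nat.blt (gt parT c) c &&
      Nat.beq (M (repC (gt parT c)) (genC (Nat.beq (gt parG c) 1))) (repC c))) &&
    (Nat.blt (gt eT0 c) 1463 && Nat.blt (gt eS0 c) 120 &&
      Nat.beq (M (repC c) xC) (M (sC (gt eS0 c)) (repC (gt eT0 c)))) &&
    (Nat.blt (gt eT1 c) 1463 && Nat.blt (gt eS1 c) 120 &&
      Nat.beq (M (repC c) yC) (M (sC (gt eS1 c)) (repC (gt eT1 c))))

/-- the conjugates of t are distinct -/
noncomputable def chkU : Bool :=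
  allB 1463 fun c =>
    Nat.beq (M tCode (repC c)) (M (repC c) (uC c)) &&
    Nat.blt (gt uPos c) 1463 && Nat.beq (gt uOrd (gt uPos c)) c &&
    (Nat.ble 1462 c || Nat.blt (uC (gt uOrd c)) (uC (gt uOrd (c + 1))))

/-- double coset representatives -/
noncomputable def chkO : Bool :=
  allB 1463 fun c =>
    Nat.blt (gt orbK c) 22 && Nat.blt (gt orbW c) 120 && Nat.blt (gt orbV c) 120 &&
    Nat.blt (gt repsT (gt orbK c)) 1463 &&
    Nat.beq (M (repC (gt repsT (gt orbK c))) (sC (gt orbW c))) (M (sC (gt orbV c)) (repC c))

/-- power of a code -/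
noncomputable def powC (g : ℕ) (n : ℕ) : ℕ :=
  Nat.rec (motive := fun _ => ℕ) oneC (fun _ r => M r g) n

theorem code_pow (g : GL (Fin 7) (ZMod 11)) (n : ℕ) : code (g ^ n) = powC (code g) n := by
  induction n with
  | zero => rw [pow_zero, code_one]; rfl
  | succ k ih => rw [pow_succ, code_mul, ih]; rfl

/-- the order certificate for one element -/
noncomputable def chkOne (G tag : ℕ) : Bool :=
  cond (Nat.beq tag 0) (Nat.beq G oneC)
    (cond (Nat.ble 16 tag && Nat.blt (tag - 16) 1463 && Nat.beq (uC (tag - 16)) G) true
      ((Nat.beq tag 3 || Nat.beq tag 5 || Nat.beq tag 6 || Nat.beq tag 7 || Nat.beq tag 10 ||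
        Nat.beq tag 11 || Nat.beq tag 15 || Nat.beq tag 19) && Nat.beq (powC G tag) oneC &&
        !(Nat.beq (M G G) oneC)))

/-- element orders on double coset representatives -/
noncomputable def chkE (lo : ℕ) : Bool :=
  allB 11 fun k =>
    allB 120 fun i =>
      chkOne (M (sC i) (repC (gt repsT (lo + k)))) (gt tagT (120 * (lo + k) + i))

/-- normal form of the stored involution codes -/
noncomputable def chkN : Bool :=
  allB 1463 fun k =>
    Nat.beq (encM (Matrix.of fun i j : Fin 7 =>
      ((Nat.land (Nat.shiftRight (uC k) (24 * (7 * (i : ℕ) + j))) (2 ^ 24 - 1) : ℕ) : ZMod 11))) (uC k)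

/-- witnesses and generators as products of two involutions -/
noncomputable def chkW : Bool :=
  Nat.blt 5 wit.length &&
  wit.all (fun w =>
    Nat.blt w.2.1 22 && Nat.blt w.2.2 120 && Nat.beq (gt tagT (120 * w.2.1 + w.2.2)) w.1) &&
  Nat.beq (M (uC 51) (uC 516)) xC && Nat.beq (M (uC 7) (uC 51)) yC

set_option maxRecDepth 100000 in
theorem hWords : chkWords = true := by decide +kernel
set_option maxRecDepth 100000 in
theorem hS : chkS = true := by decide +kernel
set_option maxRecDepth 100000 in
theorem hR : chkR = true := by decide +kernel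
set_option maxRecDepth 100000 in
theorem hU : chkU = true := by decide +kernel
set_option maxRecDepth 100000 in
theorem hO : chkO = true := by decide +kernel
set_option maxRecDepth 100000 in
theorem hE0 : chkE 0 = true := by decide +kernel
set_option maxRecDepth 100000 in
theorem hE1 : chkE 11 = true := by decide +kernel

set_option maxRecDepth 100000 in
theorem hUnorm : allB 1463 (fun k => Nat.beq (encM (Matrix.of fun i j : Fin 7 =>
      ((Nat.land (Nat.shiftRight (uC k) (24 * (7 * (i : ℕ) + j))) (2 ^ 24 - 1) : ℕ) : ZMod 11))) (uC k)) = true := by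
  decide +kernel
set_option maxRecDepth 100000 in
theorem hWit : chkW = true := by decide +kernel

end Cfsg.Agent.J1Cert
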