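import Mathlib
import Cfsg.Agent.Lib.J1Cert

/-!
Basic facts about the Janko group `Cfsg.Spor.J1`: order 175560, the centralizer of an involution,
one class of involutions, element orders.
-/

set_option autoImplicit false

namespace Cfsg.Agent.J1Basic

open Cfsg.Agent.J1Code Cfsg.Agent.J1Data Cfsg.Agent.J1Cert

attribute [local irreducible] getT gt allB M encM oneC xC yC wordC powC sC repC uC

theorem allowed_gens (i : ℕ) (hi : i < 3) : ∃ g ∈ Cfsg.Spor.J1, code g = hC i := by
  have h := hWords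
  simp only [chkWords, Bool.and_eq_true, Nat.beq_eq] at h
  match i, hi with
  | 0, _ =>
    obtain ⟨g, hg, hgc⟩ := word_mem hWord0
    exact ⟨g, hg, hgc.trans h.1.1.1.1.1.1⟩
  | 1, _ =>
    obtain ⟨g, hg, hgc⟩ := word_mem hWord1
    exact ⟨g, hg, hgc.trans h.1.1.1.1.1.2⟩
  | 2, _ =>
    obtain ⟨g, hg, hgc⟩ := word_mem hWord2
    exact ⟨g, hg, hgc.trans h.1.1.1.1.2⟩

theorem rep_zero : repC 0 = oneC ∧ sC 0 = oneC ∧ uC 0 = tCode ∧ hCode0 = tCode := by
  have h := hWords
  simp only [chkWords, Bool.and_eq_true, Nat.beq_eq] at h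
  exact ⟨h.1.1.2, h.1.2, h.2, h.1.1.1.2⟩

theorem exists_s : ∀ i : ℕ, i < 120 → ∃ g ∈ Cfsg.Spor.J1, code g = sC i := by
  intro i
  induction i using Nat.strong_induction_on with
  | _ i ih =>
    intro hi
    have h := allB_spec hS i hi
    simp only [Bool.and_eq_true, Bool.or_eq_true, Nat.beq_eq, Nat.blt_eq] at h
    rcases h.1.1.1.1.1 with h0 | ⟨⟨hp, hg⟩, he⟩
    · subst h0
      exact ⟨1, one_mem _, code_one.trans rep_zero.2.1.symm⟩
    · obtain ⟨a, ha, hac⟩ := ih _ hp (by omega)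
      obtain ⟨b, hb, hbc⟩ := allowed_gens _ hg
      exact ⟨a * b, mul_mem ha hb, by rw [code_mul, hac, hbc, he]⟩

theorem exists_r : ∀ c : ℕ, c < 1463 → ∃ g ∈ Cfsg.Spor.J1, code g = repC c := by
  intro c
  induction c using Nat.strong_induction_on with
  | _ c ih =>
    intro hc
    have h := allB_spec hR c hc
    simp only [Bool.and_eq_true, Bool.or_eq_true, Nat.beq_eq, Nat.blt_eq] at h
    rcases h.1.1 with h0 | ⟨hp, he⟩
    · subst h0
      exact ⟨1, one_mem _, code_one.trans rep_zero.1.symm⟩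
    · obtain ⟨a, ha, hac⟩ := ih _ hp (by omega)
      exact ⟨a * gen (Nat.beq (gt parG c) 1), mul_mem ha (gen_mem _), by rw [code_mul, hac, code_gen, he]⟩

/-- the element of C(t) with index `i` -/
noncomputable def sEl (i : Fin 120) : Cfsg.Spor.J1 :=
  ⟨(exists_s i i.2).choose, (exists_s i i.2).choose_spec.1⟩

theorem code_sEl (i : Fin 120) : code (sEl i : GL (Fin 7) (ZMod 11)) = sC i :=
  (exists_s i i.2).choose_spec.2

/-- coset representatives -/
noncomputable def rEl (c : Fin 1463) : Cfsg.Spor.J1 :=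
  ⟨(exists_r c c.2).choose, (exists_r c c.2).choose_spec.1⟩

theorem code_rEl (c : Fin 1463) : code (rEl c : GL (Fin 7) (ZMod 11)) = repC c :=
  (exists_r c c.2).choose_spec.2

theorem eq_of_code {a b : Cfsg.Spor.J1}
    (h : code (a : GL (Fin 7) (ZMod 11)) = code (b : GL (Fin 7) (ZMod 11))) : a = b :=
  Subtype.ext (code_injective h)

theorem code_mul' (a b : Cfsg.Spor.J1) :
    code ((a * b : Cfsg.Spor.J1) : GL (Fin 7) (ZMod 11)) =
      M (code (a : GL (Fin 7) (ZMod 11))) (code (b : GL (Fin 7) (ZMod 11))) := by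
  rw [Subgroup.coe_mul, code_mul]

theorem code_one' : code ((1 : Cfsg.Spor.J1) : GL (Fin 7) (ZMod 11)) = oneC := by
  rw [Subgroup.coe_one, code_one]

/-- the generators of C(t) -/
noncomputable def hEl (j : Fin 3) : Cfsg.Spor.J1 :=
  ⟨(allowed_gens j j.2).choose, (allowed_gens j j.2).choose_spec.1⟩

theorem code_hEl (j : Fin 3) : code (hEl j : GL (Fin 7) (ZMod 11)) = hC j :=
  (allowed_gens j j.2).choose_spec.2

/-- the chosen involution -/
noncomputable def t : Cfsg.Spor.J1 := hEl 0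

theorem code_t : code (t : GL (Fin 7) (ZMod 11)) = tCode :=
  (code_hEl 0).trans rep_zero.2.2.2

theorem sEl_zero : sEl 0 = 1 := eq_of_code ((code_sEl 0).trans (rep_zero.2.1.trans code_one'.symm))

theorem rEl_zero : rEl 0 = 1 := eq_of_code ((code_rEl 0).trans (rep_zero.1.trans code_one'.symm))

theorem s_mul_gen (i : Fin 120) (j : Fin 3) :
    ∃ k : Fin 120, (k : ℕ) = gt sMulT (3 * i + j) ∧ sEl i * hEl j = sEl k := by
  have h := allB_spec hS i i.2
  simp only [Bool.and_eq_true, Nat.blt_eq] at h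
  have h2 := allB_spec h.1.1.1.1.2 j j.2
  simp only [Bool.and_eq_true, Nat.blt_eq, Nat.beq_eq] at h2
  refine ⟨⟨_, h2.1⟩, rfl, eq_of_code ?_⟩
  rw [code_mul', code_sEl, code_hEl, code_sEl]
  exact h2.2

theorem s_commute (i : Fin 120) : sEl i * t = t * sEl i := by
  have h := allB_spec hS i i.2
  simp only [Bool.and_eq_true, Nat.beq_eq] at h
  apply eq_of_code
  rw [code_mul', code_mul', code_sEl, code_t]
  exact h.1.1.1.2

theorem sEl_injective : Function.Injective sEl := by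
  have hmono : ∀ i j : ℕ, i < j → j < 120 → sC (gt sOrd i) < sC (gt sOrd j) := by
    intro i j hij hj
    induction j with
    | zero => omega
    | succ j ih =>
      have h := allB_spec hS j (by omega)
      simp only [Bool.and_eq_true, Bool.or_eq_true, Nat.blt_eq, Nat.ble_eq] at h
      have hs := h.2.resolve_left (by omega)
      rcases Nat.lt_succ_iff_lt_or_eq.1 hij with h' | h'
      · exact (ih h' (by omega)).trans hs
      · exact h' ▸ hs
  intro a b hab
  have ha := allB_spec hS a a.2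
  have hb := allB_spec hS b b.2
  simp only [Bool.and_eq_true, Nat.blt_eq, Nat.beq_eq] at ha hb
  have hc : sC a = sC b := by rw [← code_sEl, ← code_sEl, hab]
  rcases lt_trichotomy (gt sPos a) (gt sPos b) with h | h | h
  · have := hmono _ _ h hb.1.1.2
    rw [ha.1.2, hb.1.2] at this
    omega
  · exact Fin.ext (by rw [← ha.1.2, ← hb.1.2, h])
  · have := hmono _ _ h ha.1.1.2
    rw [ha.1.2, hb.1.2] at this
    omega

theorem tree_step (i : Fin 120) (hi : (i : ℕ) ≠ 0) :
    ∃ (p : Fin 120) (j : Fin 3), (p : ℕ) = gt sParT i ∧ (j : ℕ) = gt sParG i ∧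
      (p : ℕ) < i ∧ sEl i = sEl p * hEl j := by
  have h := allB_spec hS i i.2
  simp only [Bool.and_eq_true, Bool.or_eq_true, Nat.beq_eq, Nat.blt_eq] at h
  obtain ⟨⟨hp, hg⟩, he⟩ := h.1.1.1.1.1.resolve_left hi
  refine ⟨⟨_, lt_trans hp i.2⟩, ⟨_, hg⟩, rfl, rfl, hp, eq_of_code ?_⟩
  rw [code_mul', code_sEl, code_sEl, code_hEl]
  exact he.symm

theorem s_closed (i : Fin 120) : ∀ k : Fin 120, ∃ l : Fin 120, sEl i * sEl k = sEl l := by
  intro k
  obtain ⟨n, hn⟩ : ∃ n : ℕ, (k : ℕ) = n := ⟨_, rfl⟩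
  induction n using Nat.strong_induction_on generalizing k with
  | _ n ih =>
    by_cases h0 : (k : ℕ) = 0
    · exact ⟨i, by rw [show k = 0 from Fin.ext h0, sEl_zero, mul_one]⟩
    · obtain ⟨p, j, -, -, hlt, he⟩ := tree_step k h0
      obtain ⟨l, hl⟩ := ih p (hn ▸ hlt) p rfl
      obtain ⟨m, -, hm⟩ := s_mul_gen l j
      exact ⟨m, by rw [he, ← mul_assoc, hl, hm]⟩

theorem edge (c : Fin 1463) (b : Bool) :
    ∃ (s : Fin 120) (d : Fin 1463), rEl c * ⟨gen b, gen_mem b⟩ = sEl s * rEl d := by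
  have h := allB_spec hR c c.2
  simp only [Bool.and_eq_true, Nat.beq_eq, Nat.blt_eq] at h
  cases b
  · refine ⟨⟨_, h.1.2.1.2⟩, ⟨_, h.1.2.1.1⟩, eq_of_code ?_⟩
    rw [code_mul', code_mul', code_rEl, code_rEl, code_sEl, code_gen]
    exact h.1.2.2
  · refine ⟨⟨_, h.2.1.2⟩, ⟨_, h.2.1.1⟩, eq_of_code ?_⟩
    rw [code_mul', code_mul', code_rEl, code_rEl, code_sEl, code_gen]
    exact h.2.2

/-- The parametrisation of J1. -/
noncomputable def param (x : Fin 120 × Fin 1463) : Cfsg.Spor.J1 := sEl x.1 * rEl x.2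

theorem param_surjective : Function.Surjective param := by
  intro g
  suffices h : ∀ g : GL (Fin 7) (ZMod 11), g ∈ Cfsg.Spor.J1 → ∃ x, ((param x : Cfsg.Spor.J1) : GL (Fin 7) (ZMod 11)) = g by
    obtain ⟨x, hx⟩ := h g g.2
    exact ⟨x, Subtype.ext hx⟩
  intro g hg
  have hg' : g ∈ Submonoid.closure ({Cfsg.Spor.jankoX, Cfsg.Spor.jankoY} : Set (GL (Fin 7) (ZMod 11))) := by
    rw [← Subgroup.closure_toSubmonoid_of_finite]
    exact hg
  clear hg
  induction hg' using Submonoid.closure_induction_right with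
  | one => exact ⟨(0, 0), by simp [param, sEl_zero, rEl_zero]⟩
  | mul_right x hx y hy ih =>
    obtain ⟨⟨i, c⟩, hic⟩ := ih
    obtain ⟨b, rfl⟩ : ∃ b, gen b = y := by
      rcases hy with rfl | rfl
      · exact ⟨false, rfl⟩
      · exact ⟨true, rfl⟩
    obtain ⟨s, d, he⟩ := edge c b
    obtain ⟨l, hl⟩ := s_closed i s
    refine ⟨(l, d), ?_⟩
    rw [← hic]
    show ((param (l, d) : Cfsg.Spor.J1) : GL (Fin 7) (ZMod 11)) =
      (param (i, c) : GL (Fin 7) (ZMod 11)) * gen b
    rw [show (param (i, c) : GL (Fin 7) (ZMod 11)) * gen b =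
      ((param (i, c) * ⟨gen b, gen_mem b⟩ : Cfsg.Spor.J1) : GL (Fin 7) (ZMod 11)) from rfl]
    congr 1
    simp only [param]
    rw [mul_assoc, he, ← mul_assoc, hl]

/-- the conjugate of t attached to a coset -/
noncomputable def uEl (c : Fin 1463) : Cfsg.Spor.J1 := (rEl c)⁻¹ * t * rEl c

theorem code_uEl (c : Fin 1463) : code (uEl c : GL (Fin 7) (ZMod 11)) = uC c := by
  have h := allB_spec hU c c.2
  simp only [Bool.and_eq_true, Nat.beq_eq] at h
  -- recover `u` from `t * r = r * u`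
  have hmat : ∃ U : Matrix (Fin 7) (Fin 7) (ZMod 11), encM U = uC c := by
    have hd : ∀ k : ℕ, k < 1463 → encM (Matrix.of fun i j : Fin 7 =>
        ((Nat.land (Nat.shiftRight (uC k) (24 * (7 * (i : ℕ) + j))) (2 ^ 24 - 1) : ℕ) : ZMod 11)) = uC k := by
      intro k hk
      have := allB_spec hUnorm k hk
      simp only [Nat.beq_eq] at this
      exact this
    exact ⟨_, hd c c.2⟩
  obtain ⟨U, hU'⟩ := hmat
  have e : ((t : GL (Fin 7) (ZMod 11)) : Matrix (Fin 7) (Fin 7) (ZMod 11)) * (rEl c : GL (Fin 7) (ZMod 11)) =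
      ((rEl c : GL (Fin 7) (ZMod 11)) : Matrix (Fin 7) (Fin 7) (ZMod 11)) * U := by
    apply encM_injective
    rw [← mulW_encM, ← mulW_encM, ← M_eq, ← M_eq, hU']
    exact (code_t.symm ▸ (code_rEl c).symm ▸ h.1.1.1 :
      M (code (t : GL (Fin 7) (ZMod 11))) (code (rEl c : GL (Fin 7) (ZMod 11))) =
        M (code (rEl c : GL (Fin 7) (ZMod 11))) (uC c))
  show encM _ = _
  rw [← hU']
  congr 1
  simp only [uEl, Subgroup.coe_mul, Subgroup.coe_inv, Units.val_mul, mul_assoc, e]
  rw [← mul_assoc, Units.inv_mul, one_mul]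

theorem uEl_injective : Function.Injective uEl := by
  have hmono : ∀ i j : ℕ, i < j → j < 1463 → uC (gt uOrd i) < uC (gt uOrd j) := by
    intro i j hij hj
    induction j with
    | zero => omega
    | succ j ih =>
      have h := allB_spec hU j (by omega)
      simp only [Bool.and_eq_true, Bool.or_eq_true, Nat.blt_eq, Nat.ble_eq] at h
      have hs := h.2.resolve_left (by omega)
      rcases Nat.lt_succ_iff_lt_or_eq.1 hij with h' | h'
      · exact (ih h' (by omega)).trans hs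
      · exact h' ▸ hs
  intro a b hab
  have ha := allB_spec hU a a.2
  have hb := allB_spec hU b b.2
  simp only [Bool.and_eq_true, Nat.blt_eq, Nat.beq_eq] at ha hb
  have hc : uC a = uC b := by rw [← code_uEl, ← code_uEl, hab]
  rcases lt_trichotomy (gt uPos a) (gt uPos b) with h | h | h
  · have := hmono _ _ h hb.1.1.2
    rw [ha.1.2, hb.1.2] at this
    omega
  · exact Fin.ext (by rw [← ha.1.2, ← hb.1.2, h])
  · have := hmono _ _ h ha.1.1.2
    rw [ha.1.2, hb.1.2] at this
    omega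

theorem param_conj (i : Fin 120) (c : Fin 1463) : (param (i, c))⁻¹ * t * param (i, c) = uEl c := by
  simp only [param, uEl, mul_inv_rev, mul_assoc]
  rw [← mul_assoc t (sEl i), ← s_commute, mul_assoc, inv_mul_cancel_left]

theorem param_injective : Function.Injective param := by
  rintro ⟨i, c⟩ ⟨j, d⟩ h
  have hc : c = d := uEl_injective (by rw [← param_conj i c, ← param_conj j d, h])
  subst hc
  simp only [param, mul_left_inj] at h
  rw [sEl_injective h]

theorem card_J1 : Nat.card Cfsg.Spor.J1 = 175560 := by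
  rw [← Nat.card_eq_of_bijective param ⟨param_injective, param_surjective⟩]
  simp

theorem mem_centralizer_t (g : Cfsg.Spor.J1) :
    g * t = t * g ↔ ∃ i, sEl i = g := by
  constructor
  · intro h
    obtain ⟨⟨i, c⟩, rfl⟩ := param_surjective g
    have h1 := param_conj i c
    rw [mul_assoc, ← h, inv_mul_cancel_left] at h1
    have h0 : uEl 0 = t := by simp [uEl, rEl_zero]
    have hc : c = 0 := uEl_injective (h1.symm.trans h0.symm)
    exact ⟨i, by simp [param, hc, rEl_zero]⟩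
  · rintro ⟨i, rfl⟩
    exact s_commute i

/-- The set of element orders of J1. -/
def orders : Set ℕ := {1, 2, 3, 5, 6, 7, 10, 11, 15, 19}

theorem rep_cases (g : Cfsg.Spor.J1) :
    ∃ (k : ℕ) (i : Fin 120) (d : Fin 1463), k < 22 ∧ (d : ℕ) = gt repsT k ∧ IsConj g (sEl i * rEl d) := by
  obtain ⟨⟨i, c⟩, rfl⟩ := param_surjective g
  have h := allB_spec hO c c.2
  simp only [Bool.and_eq_true, Nat.beq_eq, Nat.blt_eq] at h
  obtain ⟨⟨⟨⟨hk, hw⟩, hv⟩, hd⟩, he⟩ := h
  set w := sEl ⟨_, hw⟩ with hwdef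
  set v := sEl ⟨_, hv⟩ with hvdef
  set r := rEl ⟨_, hd⟩ with hrdef
  have e : r * w = v * rEl c := by
    apply eq_of_code
    rw [code_mul', code_mul', code_rEl, code_rEl, code_sEl, code_sEl]
    exact he
  have hinv : ∀ j : Fin 120, ∃ l, sEl l = (sEl j)⁻¹ := fun j => by
    apply (mem_centralizer_t _).1
    exact (Commute.inv_left (s_commute j) : Commute (sEl j)⁻¹ t)
  obtain ⟨l, hl⟩ := hinv ⟨_, hv⟩
  obtain ⟨m, hm⟩ := s_closed i l
  obtain ⟨n, hn⟩ := s_closed ⟨_, hw⟩ m
  refine ⟨_, n, ⟨_, hd⟩, hk, rfl, isConj_iff.2 ⟨w, ?_⟩⟩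
  rw [← hn, ← hm, hl, ← hvdef, ← hwdef, ← hrdef]
  simp only [param]
  have e2 : rEl c = v⁻¹ * (r * w) := by rw [e, inv_mul_cancel_left]
  rw [e2]
  group

theorem orders_dvd {n m : ℕ} (hm : m ∈ ({3, 5, 6, 7, 10, 11, 15, 19} : Set ℕ)) (h : n ∣ m) : n ∈ orders := by
  have hm0 : m ≠ 0 := by rcases hm with rfl|rfl|rfl|rfl|rfl|rfl|rfl|rfl <;> norm_num
  have hn := Nat.le_of_dvd (Nat.pos_of_ne_zero hm0) h
  simp only [orders, Set.mem_insert_iff, Set.mem_singleton_iff] at hm ⊢
  rcases hm with rfl|rfl|rfl|rfl|rfl|rfl|rfl|rfl <;> interval_cases n <;> simp at h ⊢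

/-- certified data of a double coset representative -/
theorem rep_cert (k : ℕ) (hk : k < 22) (i : Fin 120) (d : Fin 1463) (hd : (d : ℕ) = gt repsT k) :
    chkOne (code ((sEl i * rEl d : Cfsg.Spor.J1) : GL (Fin 7) (ZMod 11))) (gt tagT (120 * k + i)) = true := by
  rw [code_mul', code_sEl, code_rEl, hd]
  rcases lt_or_ge k 11 with h | h
  · have := allB_spec (allB_spec hE0 k h) i i.2
    simpa using this
  · have := allB_spec (allB_spec hE1 (k - 11) (by omega)) i i.2
    simpa [show 11 + (k - 11) = k by omega] using this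

theorem t_sq : t * t = 1 := by
  obtain ⟨k, hk⟩ : ∃ k, (0 : Fin 120) = k := ⟨0, rfl⟩
  apply eq_of_code
  rw [code_mul', code_t, code_one']
  decide +kernel

theorem uEl_sq (c : Fin 1463) : uEl c * uEl c = 1 := by
  simp only [uEl, mul_assoc]
  rw [mul_inv_cancel_left, ← mul_assoc t t, t_sq, one_mul, inv_mul_cancel]

theorem cond_split {a b x y : Bool} (h : cond a x (cond b true y) = true) :
    (a = true ∧ x = true) ∨ b = true ∨ y = true := by
  cases a <;> cases b <;> cases x <;> cases y <;> simp_all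

theorem blt_lt {a b : ℕ} (h : Nat.blt a b = true) : a < b := Nat.blt_eq.mp h

theorem cert_cases (g : Cfsg.Spor.J1) (tag : ℕ)
    (h : chkOne (code (g : GL (Fin 7) (ZMod 11))) tag = true) :
    g = 1 ∨ (∃ c, uEl c = g) ∨
      (tag ∈ ({3, 5, 6, 7, 10, 11, 15, 19} : Set ℕ) ∧ g ^ tag = 1 ∧ g * g ≠ 1) := by
  rw [chkOne] at h
  rcases cond_split h with ⟨-, h1⟩ | h1 | h1
  · exact Or.inl (eq_of_code ((Nat.eq_of_beq_eq_true h1).trans code_one'.symm))
  · rw [Bool.and_eq_true, Bool.and_eq_true] at h1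
    exact Or.inr (Or.inl ⟨⟨_, blt_lt h1.1.2⟩, eq_of_code ((code_uEl _).trans (Nat.eq_of_beq_eq_true h1.2))⟩)
  · rw [Bool.and_eq_true, Bool.and_eq_true] at h1
    refine Or.inr (Or.inr ⟨?_, ?_, ?_⟩)
    · have h2 := h1.1.1
      simp only [Bool.or_eq_true, Nat.beq_eq] at h2
      simp only [Set.mem_insert_iff, Set.mem_singleton_iff]
      tauto
    · apply eq_of_code
      rw [Subgroup.coe_pow, code_pow, Nat.eq_of_beq_eq_true h1.1.2, code_one']
    · intro hc
      have h2 := h1.2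
      rw [Bool.not_eq_true', ← code_mul', hc, code_one'] at h2
      rw [Nat.beq_refl] at h2
      exact absurd h2 (by decide)

/-- Every element order of J1 lies in `orders`. -/
theorem orderOf_mem (g : Cfsg.Spor.J1) : orderOf g ∈ orders := by
  obtain ⟨k, i, d, hk, hd, hc⟩ := rep_cases g
  obtain ⟨w, hw⟩ := isConj_iff.1 hc
  have ho : orderOf g = orderOf (sEl i * rEl d) := by
    rw [← hw]
    exact (orderOf_injective (MulAut.conj w).toMonoidHom (MulAut.conj w).injective g).symm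
  rw [ho]
  rcases cert_cases _ _ (rep_cert k hk i d hd) with h | ⟨c, h⟩ | ⟨h, h'⟩
  · rw [h, orderOf_one]; simp [orders]
  · have h2 : (sEl i * rEl d) ^ 2 = 1 := by rw [pow_two, ← h, uEl_sq]
    have := orderOf_dvd_of_pow_eq_one h2
    rcases (Nat.dvd_prime Nat.prime_two).1 this with h3 | h3 <;> simp [orders, h3]
  · exact orders_dvd h (orderOf_dvd_of_pow_eq_one h'.1)

/-- All involutions are conjugate. -/
theorem involution_conj (g : Cfsg.Spor.J1) (hg : orderOf g = 2) : IsConj t g := by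
  obtain ⟨k, i, d, hk, hd, hc⟩ := rep_cases g
  obtain ⟨w, hw⟩ := isConj_iff.1 hc
  have ho : orderOf (sEl i * rEl d) = 2 := by
    rw [← hw, ← hg]
    exact orderOf_injective (MulAut.conj w).toMonoidHom (MulAut.conj w).injective g
  rcases cert_cases _ _ (rep_cert k hk i d hd) with h | ⟨c, h⟩ | ⟨h, h'⟩
  · rw [h, orderOf_one] at ho; omega
  · refine IsConj.trans ?_ hc.symm
    rw [← h]
    exact isConj_iff.2 ⟨(rEl c)⁻¹, by simp [uEl]⟩
  · exfalso
    apply h'.2
    rw [← pow_two, ← ho, pow_orderOf_eq_one]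

end Cfsg.Agent.J1Basic
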