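import Cfsg.Agent.Lib.J1Five91

/-!
The additional relation between the centralizer of an involution and the element of order 7, and the
generation of a group of order 175560 by them.
-/

set_option autoImplicit false
set_option linter.style.haveILetI false
set_option linter.unusedSectionVars false
set_option synthInstance.maxSize 4000
set_option synthInstance.maxHeartbeats 400000

namespace Cfsg.Agent.J1Order91

open Cfsg

attribute [local instance] Classical.propDecidable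

/-- The elements of order 5 occurring in the four cases of the additional relation. -/
def caseZ (k : Fin 4) : M := ![mY, mY * mX, mX * mY⁻¹ * mX, mX * mY⁻¹ * mY⁻¹] k

theorem case_facts : (mY⁻¹ * mT * mY = mT) ∧ (mX * mY⁻¹) * mT * (mY * mX⁻¹) = mT ∧
    L0 (L0^[6] mT) = mT ∧ ∀ m : M, m ^ 3 = 1 → m * mT = mT * m := by decide +kernel

theorem transitive_P8 : ∀ s ∈ P8, s ≠ 1 → ∃ i : Fin 7, L0^[(i : ℕ)] mT = s := by decide +kernel

variable {G : Type*} [Group G]

/-- The conjugating elements of the four cases. -/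
def Frame.caseW (F : Frame G) (k : Fin 4) : G :=
  ![F.φ mY * F.r, F.φ mY * F.r, F.φ mY * (F.φ mX)⁻¹ * F.r⁻¹, F.φ mY * (F.φ mX)⁻¹ * F.r⁻¹] k

/-- The additional relation in case `k`. -/
def Frame.Rel (F : Frame G) (k : Fin 4) : Prop :=
  F.φ mX * (F.caseW k * F.φ (caseZ k) * (F.caseW k)⁻¹) =
    F.caseW k * F.φ (caseZ k) * (F.caseW k)⁻¹ * F.φ mX

theorem L0_inP (i : ℕ) {s : M} (hs : InP s) : InP (L0^[i] s) := by
  induction i with
  | zero => exact hs
  | succ i ih =>
    rw [Function.iterate_succ_apply']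
    have hm : ∀ x : M, InP x → ∀ y : M, InP y → InP (x * y) := fun x hx y hy =>
      (model_sylow.2.2.1 x hx y hy).1
    exact lin_inP inP_basis.2.1 (hm _ inP_basis.2.1 _ inP_basis.2.2.1) (hm _ inP_basis.1 _ inP_basis.2.2.1) _

theorem Frame.pow_conj (F : Frame G) (i : ℕ) {s : M} (hs : InP s) :
    F.r ^ i * F.φ s * (F.r ^ i)⁻¹ = F.φ (L0^[i] s) := by
  induction i with
  | zero => simp
  | succ i ih =>
    rw [Function.iterate_succ_apply', ← F.r_S _ (L0_inP i hs), ← ih, pow_succ']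
    group

variable [Finite G] [IsSimpleGroup G]

theorem five_dvd_centralizer_X (d : Data G) (hT : IsTwoCentralInvolution d.t) (hcard : Nat.card G = 175560) :
    5 ∣ Nat.card ↥(Subgroup.centralizer ({d.φ mX} : Set G)) := by
  haveI : Fintype G := Fintype.ofFinite G
  haveI : Fact (Nat.Prime 3) := ⟨Nat.prime_three⟩
  set C := Subgroup.centralizer ({d.φ mX} : Set G) with hC
  set R := Subgroup.zpowers (d.φ mX) with hRdef
  set N := Subgroup.normalizer (R : Set G) with hN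
  have hx3 : orderOf (d.φ mX) = 3 := by
    rw [orderOf_injective d.φ d.inj]
    exact orderOf_eq_prime model_orders.2.2.2.1 model_orders.2.2.1
  obtain ⟨o, ho, hod, ho1⟩ := card_normalizer_zpowers (d.φ mX)
  rw [hx3, Nat.totient_prime Nat.prime_three] at hod
  have hV : d.φ mV * d.φ mX * (d.φ mV)⁻¹ = (d.φ mX)⁻¹ := by
    rw [← map_inv, ← map_mul, ← map_mul, (v_facts.1 0).1, map_inv]
  have hVN : d.φ mV ∈ N := by
    apply Subgroup.mem_normalizer_fintype
    rintro g hg
    obtain ⟨k, rfl⟩ := Subgroup.mem_zpowers_iff.1 hg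
    rw [← conj_zpow, hV]
    exact Subgroup.zpow_mem _ (Subgroup.inv_mem _ (Subgroup.mem_zpowers _)) k
  have ho2 : o = 2 := by
    rcases (Nat.dvd_prime Nat.prime_two).1 hod with h | h
    · exfalso
      have h1 := Subgroup.mem_centralizer_singleton_iff.1 (ho1 h hVN)
      rw [← mul_inv_eq_iff_eq_mul, hV, inv_eq_iff_mul_eq_one, ← pow_two] at h1
      have h2 := orderOf_dvd_of_pow_eq_one h1
      rw [hx3] at h2
      omega
    · exact h
  have hR : Nat.card ↥R = 3 ^ (Nat.card G).factorization 3 := by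
    rw [Nat.card_zpowers, hx3, hcard, show (175560 : ℕ) = 3 ^ 1 * 58520 by norm_num,
      Nat.factorization_mul (by norm_num) (by norm_num), Nat.factorization_pow]
    simp [Nat.factorization_eq_zero_of_not_dvd (show ¬ 3 ∣ 58520 by norm_num),
      Nat.prime_three.factorization_self]
  have hsyl : N.index % 3 = 1 := by
    have h := card_sylow_modEq_one 3 G
    rw [(Sylow.ofCard R hR).card_eq_index_normalizer] at h
    exact h
  have h6 : 6 ∣ Nat.card ↥C := by
    have hcX : d.φ mX ∈ C := Subgroup.mem_centralizer_singleton_iff.2 rfl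
    have htX : d.t ∈ C := Subgroup.mem_centralizer_singleton_iff.2 (by
      rw [Data.t, ← map_mul, ← map_mul, model_central.1])
    have h3 := orderOf_dvd_natCard (⟨_, hcX⟩ : ↥C)
    rw [← Subgroup.orderOf_coe, hx3] at h3
    have h2 := orderOf_dvd_natCard (⟨_, htX⟩ : ↥C)
    rw [← Subgroup.orderOf_coe, orderOf_t] at h2
    exact Nat.Coprime.mul_dvd_of_dvd_of_dvd (by norm_num : Nat.Coprime 2 3) h2 h3
  obtain ⟨m, hm⟩ := h6
  have hN' := N.index_mul_card
  rw [ho, ho2, hm, hcard] at hN'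
  by_contra h5
  have h5m : ¬ 5 ∣ m := fun h => h5 (hm ▸ dvd_mul_of_dvd_right h 6)
  have h11m : ¬ 11 ∣ m := fun h => no_eleven d hT hcard (hm ▸ dvd_mul_of_dvd_right h 6)
  have h2m : ¬ 2 ∣ m := fun h => factor_two_centralizer_X d hT (by
    obtain ⟨c, hc⟩ := h; exact ⟨3 * c, by rw [hm, hc]; ring⟩)
  have hcop : Nat.Coprime m 110 := by
    rw [Nat.coprime_comm, show (110 : ℕ) = 2 * 5 * 11 by norm_num, Nat.coprime_mul_iff_left,
      Nat.coprime_mul_iff_left]
    exact ⟨⟨(Nat.Prime.coprime_iff_not_dvd Nat.prime_two).2 h2m,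
      (Nat.Prime.coprime_iff_not_dvd (by norm_num)).2 h5m⟩,
      (Nat.Prime.coprime_iff_not_dvd (by norm_num)).2 h11m⟩
  have hm133 : m ∈ Nat.divisors 133 :=
    Nat.mem_divisors.2 ⟨hcop.dvd_of_dvd_mul_left ⟨N.index, by linarith⟩, by norm_num⟩
  rw [show Nat.divisors 133 = {1, 7, 19, 133} by decide +kernel] at hm133
  simp only [Finset.mem_insert, Finset.mem_singleton] at hm133
  rcases hm133 with rfl | rfl | rfl | rfl <;> omega

theorem exists_case (F : Frame G) (hT : IsTwoCentralInvolution F.toData.t) (hcard : Nat.card G = 175560) :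
    ∃ k : Fin 4, F.Rel k := by
  obtain ⟨f, hf, hfx, hft, hfv⟩ :=
    exists_inverted F.toData hT hcard (Or.inl rfl) (five_dvd_centralizer_X F.toData hT hcard)
  have hf5 : f ^ 5 = 1 := hf ▸ pow_orderOf_eq_one f
  have main : ∀ (w : G) (tau v' : M), w * F.φ mT * w⁻¹ = F.φ v' → w⁻¹ * F.φ mT * w = F.φ tau →
      F.φ v' * f = f * F.φ v' →
      ∃ z : M, z ^ 5 = 1 ∧ z ≠ 1 ∧ tau * z * tau⁻¹ = z⁻¹ ∧
        ∀ i : ℕ, F.φ mX * (w * F.φ (z ^ i) * w⁻¹) = w * F.φ (z ^ i) * w⁻¹ * F.φ mX := by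
    intro w tau v' h1 h2 h3
    obtain ⟨z, hz⟩ := mem_range_of_commute F.toData (g := w⁻¹ * f * w) (by
      show w⁻¹ * f * w * F.φ mT = F.φ mT * (w⁻¹ * f * w)
      calc w⁻¹ * f * w * F.φ mT = w⁻¹ * (f * (w * F.φ mT * w⁻¹)) * w := by group
        _ = w⁻¹ * ((w * F.φ mT * w⁻¹) * f) * w := by rw [h1, h3]
        _ = _ := by group)
    refine ⟨z, F.inj ?_, fun e => ?_, F.inj ?_, fun i => ?_⟩
    · rw [map_pow, hz, map_one]
      calc (w⁻¹ * f * w) ^ 5 = (w⁻¹ * f * w⁻¹⁻¹) ^ 5 := by rw [inv_inv]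
        _ = 1 := by rw [conj_pow, hf5]; group
    · rw [e, map_one] at hz
      have : f = 1 := by
        calc f = w * (w⁻¹ * f * w) * w⁻¹ := by group
          _ = 1 := by rw [← hz]; group
      rw [this, orderOf_one] at hf
      omega
    · rw [map_mul, map_mul, map_inv, map_inv, ← h2, hz]
      have ht : F.φ mT * f * (F.φ mT)⁻¹ = f⁻¹ := hft
      calc w⁻¹ * F.φ mT * w * (w⁻¹ * f * w) * (w⁻¹ * F.φ mT * w)⁻¹
          = w⁻¹ * (F.φ mT * f * (F.φ mT)⁻¹) * w := by group
        _ = _ := by rw [ht]; group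
    · rw [map_pow, hz]
      have e : w * (w⁻¹ * f * w) ^ i * w⁻¹ = f ^ i := by
        rw [← conj_pow]; congr 1; group
      rw [e]
      exact (Commute.pow_left (show Commute f (F.φ mX) from hfx) i).eq.symm
  have hr1 : F.r * F.φ mT * F.r⁻¹ = F.φ (L0 mT) := F.r_S mT inP_basis.1
  have hr6 : F.r⁻¹ * F.φ mT * F.r = F.φ (L0^[6] mT) := by
    have h := F.pow_conj 6 inP_basis.1
    have e : F.r ^ 6 = F.r⁻¹ := eq_inv_of_mul_eq_one_left (by rw [← pow_succ]; exact F.r_pow)
    rwa [e, inv_inv] at h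
  have hc : (F.φ mV * f = f * F.φ mV) ∨ (F.φ (mT * mV) * f = f * F.φ (mT * mV)) := by
    rcases hfv with h | h
    · exact Or.inl (mul_inv_eq_iff_eq_mul.1 h)
    · refine Or.inr (mul_inv_eq_iff_eq_mul.1 ?_)
      have ht : F.φ mT * f⁻¹ * (F.φ mT)⁻¹ = f := by
        rw [← conj_inv, show F.φ mT * f * (F.φ mT)⁻¹ = f⁻¹ from hft, inv_inv]
      rw [map_mul]
      calc F.φ mT * F.φ mV * f * (F.φ mT * F.φ mV)⁻¹
          = F.φ mT * (F.φ mV * f * (F.φ mV)⁻¹) * (F.φ mT)⁻¹ := by group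
        _ = f := by rw [h]; exact ht
  rcases hc with hc | hc
  · obtain ⟨z, hz5, hz1, hzt, hz⟩ := main (F.φ mY * F.r) (L0^[6] mT) mV
      (by
        rw [← v_facts.2.1, map_mul, map_mul, map_inv, ← hr1]
        group)
      (by
        rw [← hr6]
        calc (F.φ mY * F.r)⁻¹ * F.φ mT * (F.φ mY * F.r)
            = F.r⁻¹ * ((F.φ mY)⁻¹ * F.φ mT * F.φ mY) * F.r := by group
          _ = _ := by rw [← map_inv, ← map_mul, ← map_mul, case_facts.1])
      hc
    obtain ⟨i, h | h⟩ := five_inverted.1 z hz5 hz1 hzt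
    · exact ⟨0, by simpa [Frame.Rel, Frame.caseW, caseZ, ← h] using hz i⟩
    · exact ⟨1, by simpa [Frame.Rel, Frame.caseW, caseZ, ← h] using hz i⟩
  · obtain ⟨z, hz5, hz1, hzt, hz⟩ := main (F.φ mY * (F.φ mX)⁻¹ * F.r⁻¹) (L0 mT) (mT * mV)
      (by
        rw [← v_facts.2.2.1, map_mul, map_mul, map_inv, ← hr6]
        simp only [map_mul, map_inv, mul_inv_rev, inv_inv]
        group)
      (by
        rw [← hr1]
        calc (F.φ mY * (F.φ mX)⁻¹ * F.r⁻¹)⁻¹ * F.φ mT * (F.φ mY * (F.φ mX)⁻¹ * F.r⁻¹)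
            = F.r * ((F.φ mX * (F.φ mY)⁻¹) * F.φ mT * (F.φ mY * (F.φ mX)⁻¹)) * F.r⁻¹ := by group
          _ = _ := by rw [← map_inv, ← map_inv, ← map_mul, ← map_mul, ← map_mul, ← map_mul, case_facts.2.1])
      hc
    obtain ⟨i, h | h⟩ := five_inverted.2 z hz5 hz1 hzt
    · exact ⟨2, by simpa [Frame.Rel, Frame.caseW, caseZ, ← h] using hz i⟩
    · exact ⟨3, by simpa [Frame.Rel, Frame.caseW, caseZ, ← h] using hz i⟩

end Cfsg.Agent.J1Order91
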