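import Mathlib

/-!
Kernel-checkable certificates for coset enumeration in groups with generators paired with their inverses
(letter `x` is inverse to letter `x ^^^ 1`).

A certificate is a table of facts about a map `v : ℕ → X` (X a set with an action): a fact `(p, q, c)` says
`v p = v q` when `c = 0` and `g (c - 1) • v p = v q` otherwise. Every fact is justified by a path of
earlier facts spelling a relator, a subgroup generator, or a trivial word.
-/

set_option autoImplicit false

namespace Cfsg.Agent.J1CertCore91


/-- A binary tree of packed chunks of 256 entries. -/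
inductive Tbl : Type
  | leaf (n : Nat) : Tbl
  | node (l r : Tbl) : Tbl

/-- Evaluate `n` before passing it on (kernel evaluation aid). -/
noncomputable def force {β : Type} (n : Nat) (k : Nat → β) : β :=
  Nat.rec (motive := fun _ => β) (k 0) (fun m _ => k (m + 1)) n

theorem force_eq {β : Type} (n : Nat) (k : Nat → β) : force n k = k n := by
  cases n <;> rfl

/-- The chunk number `i` of a tree. -/
noncomputable def chunk (t : Tbl) : Nat → Nat :=
  Tbl.rec (motive := fun _ => Nat → Nat) (fun n _ => n)
    (fun _ _ l r i => force (Nat.shiftRight i 1) fun j =>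
      cond (Nat.beq (Nat.land i 1) 0) (l j) (r j)) t

/-- Entry `i` of a table with entries of `w` bits. -/
noncomputable def entry (t : Tbl) (w i : Nat) : Nat :=
  Nat.land (Nat.shiftRight (chunk t (Nat.shiftRight i 8)) (Nat.land i 255 * w)) (2 ^ w - 1)

/-- Letter code (0: equality, `x + 1`: generator `x`) of a packed fact. -/
def fc (e : Nat) : Nat := Nat.land e 15
/-- First endpoint of a packed fact. -/
def fp (e : Nat) : Nat := Nat.land (Nat.shiftRight e 4) 16777215
/-- Second endpoint of a packed fact. -/
def fq (e : Nat) : Nat := Nat.shiftRight e 28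

/-- Follow `fuel` facts with indices packed in `pk` starting from `cur`, spelling exactly the word `W`. -/
noncomputable def walk (F : Nat → Nat) (bound : Nat) :
    Nat → Nat → Nat → List Nat → Option Nat := fun fuel =>
  Nat.rec (motive := fun _ => Nat → Nat → List Nat → Option Nat)
    (fun _ cur W => List.rec (motive := fun _ => Option Nat) (some cur) (fun _ _ _ => none) W)
    (fun _ ih pk cur W =>
      force (Nat.land pk 1048575) fun f =>
      force (F f) fun e =>
      force (cond (Nat.beq cur (fp e)) (fq e) (fp e)) fun nx =>
      force (Nat.shiftRight pk 20) fun pk' =>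
      cond (Nat.blt f bound && (Nat.beq cur (fp e) || Nat.beq cur (fq e)))
        (cond (Nat.beq (fc e) 0) (ih pk' nx W)
          (List.rec (motive := fun _ => Option Nat) none
            (fun y r _ => cond (Nat.beq cur (fp e) && Nat.beq (y + 1) (fc e)) (ih pk' (fq e) r)
              (cond (Nat.beq cur (fq e) && Nat.beq (Nat.xor y 1 + 1) (fc e)) (ih pk' (fp e) r) none)) W))
        none) fuel

/-- Case analysis on an optional number as a Boolean. -/
def optAll (o : Option Nat) (k : Nat → Bool) : Bool :=
  match o with
  | none => false
  | some a => k a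

/-- The static data of a certificate. -/
structure Cert where
  F : Tbl
  D : Tbl
  rels : List (List Nat)
  sgens : List (List Nat)

/-- Fact number `i`. -/
noncomputable def Cert.fact (C : Cert) (i : Nat) : Nat := entry C.F 64 i

/-- Check a path `p → mid → q` through the word `B` and then `A` (the letter of the fact completes `A`). -/
noncomputable def splitCheck (C : Cert) (i e split len pk : Nat) (B A : List Nat) (k : Nat → Bool) : Bool :=
  optAll (walk C.fact i split pk (fp e) B) fun mid =>
    force mid fun m =>
    k m && optAll (walk C.fact i (len - split) (Nat.shiftRight pk (20 * split)) m A) fun r =>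
      Nat.beq r (fq e)

/-- Check a word justification. -/
noncomputable def wordCheck (C : Cert) (i e rot split len pk : Nat) (w : List Nat) (k : Nat → Bool) : Bool :=
  cond (Nat.beq (fc e) 0) (splitCheck C i e split len pk (w.drop rot) (w.take rot) k)
    (Nat.blt 0 rot && Nat.ble rot w.length && Nat.beq (Nat.xor (w.getD (rot - 1) 0) 1 + 1) (fc e) &&
      splitCheck C i e split len pk (w.drop rot) (w.take (rot - 1)) k)

/-- Check a justification `j` of fact `i` whose packed value is `e`. -/
noncomputable def justOk (C : Cert) (i e j : Nat) : Bool :=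
  force (Nat.land j 255) fun code =>
  force (Nat.land (Nat.shiftRight j 8) 4095) fun rot =>
  force (Nat.land (Nat.shiftRight j 20) 4095) fun split =>
  force (Nat.land (Nat.shiftRight j 32) 4095) fun len =>
  force (Nat.shiftRight j 44) fun pk =>
  cond (Nat.beq code 0)
    (Nat.blt 0 (fc e) && Nat.blt (fp e) (fq e) && Nat.beq (entry C.D 32 (fq e)) i)
    (cond (Nat.beq code 1)
      (optAll (walk C.fact i len pk (fp e) (cond (Nat.beq (fc e) 0) [] [fc e - 1]))
        fun r => Nat.beq r (fq e))
      (cond (Nat.beq code 2)
        (Nat.beq (fc e) 0 && optAll (walk C.fact i len pk (fp e) [rot, Nat.xor rot 1]) fun r => Nat.beq r (fq e))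
        (cond (Nat.blt (code - 3) C.rels.length)
          (wordCheck C i e rot split len pk (C.rels.getD (code - 3) []) fun _ => true)
          (Nat.blt (code - 3 - C.rels.length) C.sgens.length &&
            wordCheck C i e rot split len pk (C.sgens.getD (code - 3 - C.rels.length) [])
              fun m => Nat.beq m 0))))

/-- Check the justifications `L` of the facts numbered from `lo` on. -/
noncomputable def checkList (C : Cert) (L : List Nat) : Nat → Bool :=
  List.rec (motive := fun _ => Nat → Bool) (fun _ => true)
    (fun j _ ih i => force (C.fact i) (fun e => justOk C i e j) && force (i + 1) ih) L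

theorem walk_zero (F : Nat → Nat) (bound pk cur : Nat) (W : List Nat) :
    walk F bound 0 pk cur W = if W = [] then some cur else none := by
  cases W <;> rfl

/-- One step of `walk`. -/
noncomputable def stepTo (F : Nat → Nat) (f cur : Nat) : Nat :=
  cond (Nat.beq cur (fp (F f))) (fq (F f)) (fp (F f))

theorem walk_succ_nil (F : Nat → Nat) (bound n pk cur : Nat) :
    walk F bound (n + 1) pk cur [] =
      cond (Nat.blt (Nat.land pk 1048575) bound &&
          (Nat.beq cur (fp (F (Nat.land pk 1048575))) || Nat.beq cur (fq (F (Nat.land pk 1048575)))))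
        (cond (Nat.beq (fc (F (Nat.land pk 1048575))) 0)
          (walk F bound n (Nat.shiftRight pk 20) (stepTo F (Nat.land pk 1048575) cur) []) none)
        none := by
  simp only [walk, stepTo, force_eq]

theorem walk_succ_cons (F : Nat → Nat) (bound n pk cur y : Nat) (t : List Nat) :
    walk F bound (n + 1) pk cur (y :: t) =
      cond (Nat.blt (Nat.land pk 1048575) bound &&
          (Nat.beq cur (fp (F (Nat.land pk 1048575))) || Nat.beq cur (fq (F (Nat.land pk 1048575)))))
        (cond (Nat.beq (fc (F (Nat.land pk 1048575))) 0)
          (walk F bound n (Nat.shiftRight pk 20) (stepTo F (Nat.land pk 1048575) cur) (y :: t))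
          (cond (Nat.beq cur (fp (F (Nat.land pk 1048575))) &&
              Nat.beq (y + 1) (fc (F (Nat.land pk 1048575))))
            (walk F bound n (Nat.shiftRight pk 20) (fq (F (Nat.land pk 1048575))) t)
            (cond (Nat.beq cur (fq (F (Nat.land pk 1048575))) &&
                Nat.beq (Nat.xor y 1 + 1) (fc (F (Nat.land pk 1048575))))
              (walk F bound n (Nat.shiftRight pk 20) (fp (F (Nat.land pk 1048575))) t) none)))
        none := by
  simp only [walk, stepTo, force_eq]

theorem checkList_cons (C : Cert) (j : Nat) (t : List Nat) (i : Nat) :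
    checkList C (j :: t) i = (justOk C i (C.fact i) j && checkList C t (i + 1)) := by
  simp only [checkList, force_eq]

section Semantics

variable {G X : Type*} [Group G] [MulAction G X] (g : Nat → G)

/-- Act successively by the letters of a word. -/
def act (w : List Nat) (a : X) : X := w.foldl (fun a x => g x • a) a

/-- The group element by which a word acts: the product of its letters in reverse order. -/
def val : List Nat → G
  | [] => 1
  | x :: w => val w * g x

theorem act_nil (a : X) : act g [] a = a := rfl

theorem act_cons (x : Nat) (w : List Nat) (a : X) : act g (x :: w) a = act g w (g x • a) := rfl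

theorem act_append (w₁ w₂ : List Nat) (a : X) : act g (w₁ ++ w₂) a = act g w₂ (act g w₁ a) := by
  simp [act, List.foldl_append]

theorem act_eq (w : List Nat) (a : X) : act g w a = val g w • a := by
  induction w generalizing a with
  | nil => simp [act, val]
  | cons x w ih => rw [act_cons, ih, val, mul_smul]

theorem act_rel {w : List Nat} (hw : val g w = 1) (a : X) : act g w a = a := by
  rw [act_eq g, hw, one_smul]

theorem smul_partner (hg : ∀ x, g (Nat.xor x 1) * g x = 1) (x : Nat) (a : X) :
    g (Nat.xor x 1) • (g x • a) = a := by
  rw [smul_smul, hg, one_smul]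

theorem act_inj (w : List Nat) {a b : X} (h : act g w a = act g w b) : a = b := by
  rw [act_eq g, act_eq g] at h
  exact MulAction.injective _ h

variable (v : Nat → X)

/-- Meaning of a packed fact. -/
def Sem (e : Nat) : Prop :=
  if fc e = 0 then v (fp e) = v (fq e) else g (fc e - 1) • v (fp e) = v (fq e)

/-- All facts below `n` hold. -/
def AllValid (C : Cert) (n : Nat) : Prop := ∀ i < n, Sem g v (C.fact i)

theorem walk_sound (hg : ∀ x, g (Nat.xor x 1) * g x = 1) (F : Nat → Nat) (bound : Nat)
    (hF : ∀ i < bound, Sem g v (F i)) :
    ∀ (fuel pk cur : Nat) (W : List Nat) (r : Nat),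
      walk F bound fuel pk cur W = some r → act g W (v cur) = v r := by
  intro fuel
  induction fuel with
  | zero =>
    intro pk cur W r h
    rw [walk_zero] at h
    split at h
    · rename_i hW
      subst hW
      simp only [Option.some.injEq] at h
      rw [h, act_nil]
    · simp at h
  | succ n ih =>
    intro pk cur W r h
    have key : (Nat.blt (Nat.land pk 1048575) bound = true) →
        (Nat.beq cur (fp (F (Nat.land pk 1048575))) ||
          Nat.beq cur (fq (F (Nat.land pk 1048575)))) = true →
        fc (F (Nat.land pk 1048575)) = 0 → v (stepTo F (Nat.land pk 1048575) cur) = v cur := by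
      intro hb hor h0
      generalize Nat.land pk 1048575 = f at hb hor h0 ⊢
      have hs := hF f (Nat.blt_eq.mp hb)
      simp only [Bool.or_eq_true, Nat.beq_eq] at hor
      unfold Sem at hs
      unfold stepTo
      rw [if_pos h0] at hs
      by_cases hp : cur = fp (F f)
      · rw [Nat.beq_eq.mpr hp, cond_true, hp]; exact hs.symm
      · have hb2 : Nat.beq cur (fp (F f)) = false := by
          rw [← Bool.not_eq_true, Nat.beq_eq]; exact hp
        rw [hb2, cond_false, hor.resolve_left hp]; exact hs
    cases W with
    | nil =>
      rw [walk_succ_nil] at h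
      simp only [Bool.cond_eq_ite, Bool.and_eq_true] at h
      split at h
      · rename_i hc
        split at h
        · rename_i h0
          rw [← ih _ _ _ _ h, key hc.1 hc.2 (Nat.beq_eq.mp h0)]
        · simp at h
      · simp at h
    | cons y t =>
      rw [walk_succ_cons] at h
      simp only [Bool.cond_eq_ite, Bool.and_eq_true] at h
      split at h
      · rename_i hc
        have hs := hF _ (Nat.blt_eq.mp hc.1)
        split at h
        · rename_i h0
          rw [← ih _ _ _ _ h, key hc.1 hc.2 (Nat.beq_eq.mp h0)]
        · split at h
          · rename_i hy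
            have hcur := Nat.beq_eq.mp hy.1
            have hy2 := Nat.beq_eq.mp hy.2
            unfold Sem at hs
            rw [if_neg (by omega), show fc (F (Nat.land pk 1048575)) - 1 = y by omega] at hs
            rw [act_cons, ← ih _ _ _ _ h, hcur, hs]
          · split at h
            · rename_i hy
              have hcur := Nat.beq_eq.mp hy.1
              have hy2 := Nat.beq_eq.mp hy.2
              unfold Sem at hs
              rw [if_neg (by omega),
                show fc (F (Nat.land pk 1048575)) - 1 = Nat.xor y 1 by omega] at hs
              rw [act_cons, ← ih _ _ _ _ h, hcur, ← hs, smul_smul, mul_eq_one_comm.mp (hg y), one_smul]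
            · simp at h
      · simp at h

theorem optAll_eq_true {o : Option Nat} {k : Nat → Bool} (h : optAll o k = true) :
    ∃ r, o = some r ∧ k r = true := by
  cases o with
  | none => simp [optAll] at h
  | some a => exact ⟨a, rfl, h⟩

theorem take_succ_getD (w : List Nat) {r : Nat} (h0 : 0 < r) (h1 : r ≤ w.length) :
    w.take r = w.take (r - 1) ++ [w.getD (r - 1) 0] := by
  obtain ⟨s, rfl⟩ : ∃ s, r = s + 1 := ⟨r - 1, by omega⟩
  rw [Nat.add_sub_cancel, List.take_succ_eq_append_getElem (by omega)]
  rw [List.getD_eq_getElem _ _ (by omega)]

theorem splitCheck_sound (hg : ∀ x, g (Nat.xor x 1) * g x = 1) (C : Cert) {i : Nat} (hv : AllValid g v C i)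
    {e split len pk : Nat} {B A : List Nat} {k : Nat → Bool}
    (h : splitCheck C i e split len pk B A k = true) :
    ∃ mid, k mid = true ∧ act g B (v (fp e)) = v mid ∧ act g A (v mid) = v (fq e) := by
  obtain ⟨mid, hm, h⟩ := optAll_eq_true h
  rw [force_eq, Bool.and_eq_true] at h
  obtain ⟨r, hr, h2⟩ := optAll_eq_true h.2
  refine ⟨mid, h.1, walk_sound g v hg C.fact i hv _ _ _ _ _ hm, ?_⟩
  rw [walk_sound g v hg C.fact i hv _ _ _ _ _ hr, Nat.beq_eq.mp h2]

/-- Core of the soundness of a word justification. -/
theorem wordCheck_sound (hg : ∀ x, g (Nat.xor x 1) * g x = 1) (C : Cert) {i : Nat} (hv : AllValid g v C i)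
    {e rot split len pk : Nat} {w : List Nat} {k : Nat → Bool}
    (hk : ∀ m, k m = true → act g w (v m) = v m)
    (h : wordCheck C i e rot split len pk w k = true) : Sem g v e := by
  unfold wordCheck at h
  unfold Sem
  by_cases h0 : fc e = 0
  · rw [h0] at h
    simp only [Nat.beq_refl, cond_true] at h
    obtain ⟨mid, hm, hB, hA⟩ := splitCheck_sound g v hg C hv h
    rw [if_pos h0]
    have hw := hk mid hm
    rw [← List.take_append_drop rot w, act_append, hA] at hw
    exact act_inj g (w.drop rot) (hB.trans hw.symm)
  · have hb : Nat.beq (fc e) 0 = false := by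
      rw [← Bool.not_eq_true, Nat.beq_eq]; exact h0
    rw [hb] at h
    simp only [cond_false, Bool.and_eq_true, Nat.blt_eq, Nat.ble_eq, Nat.beq_eq] at h
    obtain ⟨⟨⟨h1, h2⟩, h3⟩, h4⟩ := h
    obtain ⟨mid, hm, hB, hA⟩ := splitCheck_sound g v hg C hv h4
    rw [if_neg h0]
    have hw := hk mid hm
    rw [← List.take_append_drop rot w, act_append, take_succ_getD w h1 h2, act_append, hA] at hw
    have : act g [w.getD (rot - 1) 0] (v (fq e)) = v (fp e) :=
      act_inj g (w.drop rot) (hw.trans hB.symm)
    rw [act_cons, act_nil] at this
    rw [show fc e - 1 = Nat.xor (w.getD (rot - 1) 0) 1 by omega, ← this, smul_partner g hg]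

variable (base : X)

/-- The hypotheses under which a certificate is sound. -/
structure Ctx (C : Cert) : Prop where
  partner : ∀ x, g (Nat.xor x 1) * g x = 1
  rels : ∀ w ∈ C.rels, val g w = 1
  sgens : ∀ w ∈ C.sgens, act g w base = base

/-- The map from nodes to points: follow the definition facts down to node 0. -/
noncomputable def nodeVal (C : Cert) : Nat → X :=
  Nat.strongRec fun n ih =>
    if h : fp (C.fact (entry C.D 32 n)) < n then
      g (fc (C.fact (entry C.D 32 n)) - 1) • ih _ h
    else base

theorem nodeVal_eq (C : Cert) (n : Nat) : nodeVal g base C n =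
    if fp (C.fact (entry C.D 32 n)) < n then
      g (fc (C.fact (entry C.D 32 n)) - 1) • nodeVal g base C (fp (C.fact (entry C.D 32 n)))
    else base := by
  conv_lhs => unfold nodeVal; rw [Nat.strongRec_eq]
  split <;> rfl

theorem nodeVal_zero (C : Cert) : nodeVal g base C 0 = base := by
  rw [nodeVal_eq, if_neg (Nat.not_lt_zero _)]

theorem justOk_sound {C : Cert} (hC : Ctx g base C) {i j : Nat}
    (hv : AllValid g (nodeVal g base C) C i) (h : justOk C i (C.fact i) j = true) :
    Sem g (nodeVal g base C) (C.fact i) := by
  simp only [justOk, force_eq] at h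
  generalize hcode : Nat.land j 255 = code at h
  generalize hrot : Nat.land (Nat.shiftRight j 8) 4095 = rot at h
  generalize hsplit : Nat.land (Nat.shiftRight j 20) 4095 = split at h
  generalize hlen : Nat.land (Nat.shiftRight j 32) 4095 = len at h
  generalize hpk : Nat.shiftRight j 44 = pk at h
  cases hc0 : Nat.beq code 0 with
  | true =>
    rw [hc0] at h
    simp only [cond_true, Bool.and_eq_true, Nat.blt_eq, Nat.beq_eq] at h
    obtain ⟨⟨h1, h2⟩, h3⟩ := h
    unfold Sem
    rw [if_neg (by omega), nodeVal_eq g base C (fq (C.fact i)), h3, if_pos h2]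
  | false =>
    rw [hc0] at h
    cases hc1 : Nat.beq code 1 with
    | true =>
      rw [hc1] at h
      obtain ⟨r, hr, hq⟩ := optAll_eq_true (by simpa only [cond_true, cond_false] using h)
      have hw := walk_sound g _ hC.partner C.fact i hv _ _ _ _ _ hr
      rw [Nat.beq_eq.mp hq] at hw
      unfold Sem
      by_cases h0 : fc (C.fact i) = 0
      · rw [if_pos h0]; simpa [h0, act] using hw
      · have hb : Nat.beq (fc (C.fact i)) 0 = false := by
          rw [← Bool.not_eq_true, Nat.beq_eq]; exact h0
        rw [if_neg h0]; simpa [hb, act] using hw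
    | false =>
      rw [hc1] at h
      cases hc2 : Nat.beq code 2 with
      | true =>
        rw [hc2] at h
        simp only [cond_true, cond_false, Bool.and_eq_true, Nat.beq_eq] at h
        obtain ⟨r, hr, hq⟩ := optAll_eq_true h.2
        have hw := walk_sound g _ hC.partner C.fact i hv _ _ _ _ _ hr
        rw [Nat.beq_eq.mp hq] at hw
        unfold Sem
        rw [if_pos h.1, ← hw, act_cons, act_cons, act_nil, smul_partner g hC.partner]
      | false =>
        rw [hc2] at h
        simp only [cond_false] at h
        cases hr : Nat.blt (code - 3) C.rels.length with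
        | true =>
          rw [hr] at h
          simp only [cond_true] at h
          refine wordCheck_sound g _ hC.partner C hv (fun m _ => ?_) h
          apply act_rel g
          apply hC.rels
          rw [Nat.blt_eq] at hr
          rw [List.getD_eq_getElem _ _ hr]
          exact List.getElem_mem hr
        | false =>
          rw [hr] at h
          simp only [cond_false, Bool.and_eq_true, Nat.blt_eq] at h
          refine wordCheck_sound g _ hC.partner C hv (fun m hm => ?_) h.2
          rw [Nat.beq_eq.mp hm, nodeVal_zero]
          apply hC.sgens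
          rw [List.getD_eq_getElem _ _ h.1]
          exact List.getElem_mem h.1

theorem checkList_sound {C : Cert} (hC : Ctx g base C) :
    ∀ (L : List Nat) (lo : Nat), AllValid g (nodeVal g base C) C lo → checkList C L lo = true →
      AllValid g (nodeVal g base C) C (lo + L.length) := by
  intro L
  induction L with
  | nil => intro lo h _; simpa using h
  | cons j t ih =>
    intro lo hv h
    rw [checkList_cons, Bool.and_eq_true] at h
    have hs := justOk_sound g base hC hv h.1
    have hv' : AllValid g (nodeVal g base C) C (lo + 1) := by
      intro k hk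
      rcases Nat.lt_succ_iff_lt_or_eq.mp hk with hk | hk
      · exact hv k hk
      · rw [hk]; exact hs
    have := ih (lo + 1) hv' h.2
    rw [List.length_cons, show lo + (t.length + 1) = lo + 1 + t.length by omega]
    exact this

end Semantics

/-- One entry of the closure table: the image of node `L[i]` under letter `x` is node `L[idx]`, `idx < N`. -/
noncomputable def closedEntry (C : Cert) (E L : Tbl) (nf N i j x : Nat) : Bool :=
  force (entry E 32 (4 * i + j)) fun e =>
  force (Nat.shiftRight e 20) fun idx =>
  optAll (walk C.fact nf 1 (Nat.land e 1048575) (entry L 32 i) [x]) fun r =>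
    Nat.blt idx N && Nat.beq r (entry L 32 idx)

/-- Row `i` of the closure table. -/
noncomputable def closedRow (C : Cert) (E L : Tbl) (nf N i : Nat) : Bool :=
  closedEntry C E L nf N i 0 0 && closedEntry C E L nf N i 1 2 &&
  closedEntry C E L nf N i 2 4 && closedEntry C E L nf N i 3 6

/-- All rows below `k` of the closure table. -/
noncomputable def closedUpTo (C : Cert) (E L : Tbl) (nf N : Nat) : Nat → Bool :=
  Nat.rec (motive := fun _ => Bool) true (fun k b => closedRow C E L nf N k && b)

section Orbit

variable {Γ X : Type*} [Group Γ] [MulAction Γ X] {g : Nat → Γ} {base : X} {C : Cert} {E L : Tbl} {nf N : Nat}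

theorem closed_sound (hC : Ctx g base C) (hv : AllValid g (nodeVal g base C) C nf)
    (h : closedUpTo C E L nf N N = true) :
    ∀ i < N, ∀ x ∈ [0, 2, 4, 6], ∃ k < N,
      g x • nodeVal g base C (entry L 32 i) = nodeVal g base C (entry L 32 k) := by
  have aux : ∀ k, closedUpTo C E L nf N k = true → ∀ i < k, closedRow C E L nf N i = true := by
    intro k
    induction k with
    | zero => intro _ i hi; omega
    | succ k ih =>
      intro hk i hi
      simp only [closedUpTo, Bool.and_eq_true] at hk
      rcases Nat.lt_succ_iff_lt_or_eq.mp hi with hi | hi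
      · exact ih hk.2 i hi
      · exact hi ▸ hk.1
  intro i hi x hx
  have hr := aux N h i hi
  simp only [closedRow, Bool.and_eq_true] at hr
  have go : ∀ {j y : Nat}, closedEntry C E L nf N i j y = true →
      ∃ k < N, g y • nodeVal g base C (entry L 32 i) = nodeVal g base C (entry L 32 k) := by
    intro j y h
    simp only [closedEntry, force_eq] at h
    obtain ⟨r, hr, hk⟩ := optAll_eq_true h
    simp only [Bool.and_eq_true, Nat.blt_eq, Nat.beq_eq] at hk
    exact ⟨_, hk.1, by rw [← hk.2]; simpa [act] using walk_sound g _ hC.partner C.fact nf hv _ _ _ _ _ hr⟩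
  simp only [List.mem_cons, List.not_mem_nil, or_false] at hx
  rcases hx with rfl | rfl | rfl | rfl
  exacts [go hr.1.1.1, go hr.1.1.2, go hr.1.2, go hr.2]

theorem orbit_mem [Finite Γ] (hN : 0 < N) (h0 : entry L 32 0 = 0)
    (hcl : ∀ i < N, ∀ x ∈ [0, 2, 4, 6], ∃ k < N,
      g x • nodeVal g base C (entry L 32 i) = nodeVal g base C (entry L 32 k))
    (hgen : Subgroup.closure {g 0, g 2, g 4, g 6} = ⊤) (γ : Γ) :
    ∃ k < N, γ • base = nodeVal g base C (entry L 32 k) := by
  let S : Submonoid Γ :=
    { carrier := {a | ∀ i < N, ∃ k < N,
        a • nodeVal g base C (entry L 32 i) = nodeVal g base C (entry L 32 k)}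
      one_mem' := fun i hi => ⟨i, hi, one_smul _ _⟩
      mul_mem' := fun {a b} ha hb i hi => by
        obtain ⟨q, hq, h1⟩ := hb i hi
        obtain ⟨r, hr, h2⟩ := ha q hq
        exact ⟨r, hr, by rw [mul_smul, h1, h2]⟩ }
  let K : Subgroup Γ :=
    { S with
      inv_mem' := fun {a} ha => by
        rw [inv_eq_of_mul_eq_one_left (b := a) (a := a ^ (orderOf a - 1))
          (by rw [← pow_succ, Nat.sub_add_cancel (orderOf_pos a)]; exact pow_orderOf_eq_one a)]
        exact S.pow_mem ha _ }
  have hle : Subgroup.closure {g 0, g 2, g 4, g 6} ≤ K := by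
    rw [Subgroup.closure_le]
    intro a ha i hi
    simp only [Set.mem_insert_iff, Set.mem_singleton_iff] at ha
    rcases ha with rfl | rfl | rfl | rfl <;> exact hcl i hi _ (by simp)
  obtain ⟨k, hk, h⟩ := hle (hgen ▸ Subgroup.mem_top γ) 0 hN
  exact ⟨k, hk, by rwa [h0, nodeVal_zero] at h⟩

end Orbit

end Cfsg.Agent.J1CertCore91
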