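import Cfsg.Agent.Lib.J1Local91
import Cfsg.Agent.Lib.BlockCount91
import Cfsg.Agent.Lib.GaloisChar80

/-!
The integral columns attached to the section of the involution in a group with involution
centralizer `C₂ × A₅`.
-/

set_option autoImplicit false
set_option linter.style.haveILetI false
set_option linter.unusedSectionVars false

open scoped ComplexConjugate

namespace Cfsg.Agent.J1Order91

open Cfsg Cfsg.Agent.BlockCount91 Cfsg.Agent.BlockPrincipal81

attribute [local instance] Classical.propDecidable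

universe u

variable {G : Type u} [Group G] [Fintype G]

/-- Values at odd powers of an element `g` with `g ^ (2p) = 1` in terms of integer weights. -/
theorem exists_split {p : ℕ} [NeZero p] (hp : Odd p) {ω : ℂ} (hω : IsPrimitiveRoot ω p) (χ : IrrCharacter G) {g : G}
    (hg : g ^ (2 * p) = 1) :
    ∃ m : Fin p → ℤ, ∀ k : ℕ, Odd k → (χ : G → ℂ) (g ^ k) = ∑ j, (m j : ℂ) * ω ^ ((j : ℕ) * k) := by
  obtain ⟨n, ρ, -, hρ⟩ := χ.2
  obtain ⟨b, μ, -, hμ, -, hpow⟩ := CharBasic.exists_rep_eigenbasis ρ g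
  have hn : ∀ i, μ i ^ (2 * p) = 1 := fun i => by
    obtain ⟨c, hc⟩ := orderOf_dvd_of_pow_eq_one hg
    rw [hc, pow_mul, hμ, one_pow]
  have hs : ∀ i, μ i ^ p = 1 ∨ μ i ^ p = -1 := fun i => by
    rw [← sq_eq_one_iff, ← pow_mul, mul_comm, hn]
  have hj : ∀ i, ∃ j : Fin p, (μ i * μ i ^ p) = ω ^ (j : ℕ) := fun i => by
    obtain ⟨j, hj, he⟩ := hω.eq_pow_of_pow_eq_one (ξ := μ i * μ i ^ p) (by
      have h2 : μ i ^ p * μ i ^ p = 1 := by rw [← pow_add, ← two_mul, hn]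
      rcases hs i with h | h
      · rw [h, mul_one, h]
      · rw [h, mul_pow, h, hp.neg_one_pow]; norm_num)
    exact ⟨⟨j, hj⟩, he.symm⟩
  choose j hj using hj
  set s : Fin (Module.finrank ℂ (Fin n → ℂ)) → ℤ := fun i => if μ i ^ p = 1 then 1 else -1 with hsdef
  refine ⟨fun a => ∑ i ∈ Finset.univ.filter (fun i => j i = a), s i, fun k hk => ?_⟩
  rw [← hρ, hpow]
  simp only [Int.cast_sum, Finset.sum_mul]
  rw [← Finset.sum_fiberwise Finset.univ j]
  refine Finset.sum_congr rfl fun a _ => Finset.sum_congr rfl fun i hi => ?_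
  rw [Finset.mem_filter] at hi
  rw [← hi.2, pow_mul, ← hj, mul_pow, hsdef]
  rcases hs i with h | h
  · simp only [h, one_pow, mul_one, if_true, Int.cast_one, one_mul]
  · simp only [h, hk.neg_one_pow, mul_neg, mul_one, if_neg (show (-1 : ℂ) ≠ 1 by norm_num), Int.cast_neg,
      Int.cast_one, neg_mul, one_mul, neg_neg]

/-- The fibre of conjugation. -/
theorem card_conj_fibre (c h : G) :
    (Finset.univ.filter fun w : G => w * c * w⁻¹ = h).card =
      if IsConj c h then Nat.card ↥(Subgroup.centralizer ({c} : Set G)) else 0 := by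
  split_ifs with hc
  · obtain ⟨w₀, rfl⟩ := isConj_iff.1 hc
    rw [← Fintype.card_subtype, ← Nat.card_eq_fintype_card]
    refine (Nat.card_eq_of_bijective (fun a : ↥(Subgroup.centralizer ({c} : Set G)) =>
      (⟨w₀ * a, ?_⟩ : {w : G // w * c * w⁻¹ = w₀ * c * w₀⁻¹}))
      ⟨fun a b hab => Subtype.ext (mul_left_cancel (congrArg Subtype.val hab)), ?_⟩).symm
    · have := Subgroup.mem_centralizer_singleton_iff.1 a.2
      calc w₀ * (a : G) * c * (w₀ * a)⁻¹ = w₀ * ((a : G) * c) * (a : G)⁻¹ * w₀⁻¹ := by group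
        _ = _ := by rw [this]; group
    · rintro ⟨w, hw⟩
      refine ⟨⟨w₀⁻¹ * w, Subgroup.mem_centralizer_singleton_iff.2 ?_⟩, Subtype.ext (mul_inv_cancel_left _ _)⟩
      calc w₀⁻¹ * w * c = w₀⁻¹ * (w * c * w⁻¹) * w := by group
        _ = _ := by rw [hw]; group
  · rw [Finset.card_eq_zero, Finset.filter_eq_empty_iff]
    exact fun w _ hw => hc (isConj_iff.2 ⟨w, hw⟩)

/-- Counting products of two conjugates of an involution whose class is the class of all involutions. -/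
theorem count_triple {t : G} (ht : orderOf t = 2) (hall : ∀ i : G, orderOf i = 2 → IsConj t i) (c : G) :
    Nat.card ↥(Subgroup.centralizer ({c} : Set G)) * Nat.card {z : G // IsConj c (t * (z * t * z⁻¹))} =
      Nat.card ↥(Subgroup.centralizer ({t} : Set G)) * (Nat.card ↥(Subgroup.centralizer ({t} : Set G)) *
        Nat.card {i : G // orderOf i = 2 ∧ orderOf (i * c) = 2}) := by
  haveI : Fact (Nat.Prime 2) := ⟨Nat.prime_two⟩
  have htt : t * t = 1 := by rw [← pow_two]; exact (orderOf_eq_prime_iff.1 ht).1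
  have hconj : ∀ i : G, IsConj t i ↔ orderOf i = 2 := fun i => ⟨fun h => by
    obtain ⟨w, rfl⟩ := isConj_iff.1 h
    rw [show orderOf (w * t * w⁻¹) = orderOf t from
      orderOf_injective (MulAut.conj w).toMonoidHom (MulAut.conj w).injective t, ht], hall i⟩
  set n := Nat.card ↥(Subgroup.centralizer ({t} : Set G))
  -- count the pairs in two orders
  have h1 : ∑ z : G, ∑ w : G, (if w * c * w⁻¹ = t * (z * t * z⁻¹) then 1 else 0) =
      Nat.card {z : G // IsConj c (t * (z * t * z⁻¹))} * Nat.card ↥(Subgroup.centralizer ({c} : Set G)) := by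
    rw [Finset.sum_congr rfl fun z _ => ((Finset.card_filter _ _).symm.trans (card_conj_fibre c _)),
      ← Finset.sum_filter, Finset.sum_const, smul_eq_mul, Nat.card_eq_fintype_card
        (α := {z : G // IsConj c (t * (z * t * z⁻¹))}), Fintype.card_subtype]
  have h2 : ∑ w : G, ∑ z : G, (if w * c * w⁻¹ = t * (z * t * z⁻¹) then 1 else 0) =
      (Finset.univ.filter fun w : G => orderOf (t * (w * c * w⁻¹)) = 2).card * n := by
    rw [Finset.card_filter, Finset.sum_mul]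
    refine Finset.sum_congr rfl fun w _ => ?_
    have he : ∀ z : G, w * c * w⁻¹ = t * (z * t * z⁻¹) ↔ z * t * z⁻¹ = t * (w * c * w⁻¹) := fun z =>
      ⟨fun e => by rw [e, ← mul_assoc t t, htt, one_mul], fun e => by rw [e, ← mul_assoc t t, htt, one_mul]⟩
    simp only [he]
    rw [← Finset.card_filter, card_conj_fibre]
    simp only [hconj, boole_mul]
    rfl
  have h3 : (Finset.univ.filter fun w : G => orderOf (t * (w * c * w⁻¹)) = 2).card =
      Nat.card {i : G // orderOf i = 2 ∧ orderOf (i * c) = 2} * n := by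
    rw [Nat.card_eq_fintype_card, Fintype.card_subtype,
      Finset.card_eq_sum_card_fiberwise (f := fun w : G => w⁻¹ * t * w)
        (t := Finset.univ.filter fun i : G => orderOf i = 2 ∧ orderOf (i * c) = 2) ?_]
    · refine Finset.sum_const_nat fun i hi => ?_
      obtain ⟨-, hi1, hi2⟩ := Finset.mem_filter.1 hi
      rw [Finset.filter_filter]
      refine Eq.trans ?_ ((card_conj_fibre t i).trans (if_pos (hall i hi1)))
      refine Finset.card_bij (fun w _ => w⁻¹) (fun w hw => ?_) (fun _ _ _ _ h => inv_injective h)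
        fun u hu => ⟨u⁻¹, ?_, inv_inv u⟩
      · simp only [Finset.mem_filter, Finset.mem_univ, true_and, inv_inv] at hw ⊢
        exact hw.2
      · simp only [Finset.mem_filter, Finset.mem_univ, true_and, inv_inv] at hu ⊢
        refine ⟨?_, hu⟩
        refine (orderOf_injective (MulAut.conj u).toMonoidHom (MulAut.conj u).injective _).symm.trans
          ((congrArg orderOf ?_).trans hi2)
        rw [← hu]
        simp [mul_assoc]
    · intro w hw
      simp only [Finset.mem_coe, Finset.mem_filter, Finset.mem_univ, true_and] at hw ⊢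
      refine ⟨(hconj _).1 (isConj_iff.2 ⟨w⁻¹, by rw [inv_inv]⟩), ?_⟩
      rw [← hw, show w⁻¹ * t * w * c = (MulAut.conj w⁻¹).toMonoidHom (t * (w * c * w⁻¹)) by simp [mul_assoc]]
      exact orderOf_injective _ (MulAut.conj w⁻¹).injective _
  rw [Finset.sum_comm, h1] at h2
  rw [mul_comm, h2, h3]
  ring

/-- The columns. -/
structure Cols (d : Data G) where
  a : IrrCharacter G → ℤ
  B : IrrCharacter G → ℤ
  C : IrrCharacter G → ℤ
  E : IrrCharacter G → ℤ
  σ : IrrCharacter G → IrrCharacter G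
  val : ∀ χ : IrrCharacter G, (χ : G → ℂ) d.t = ((a χ + 3 * B χ + 3 * C χ + 4 * E χ : ℤ) : ℂ)
  one : a (oneChar G) = 1 ∧ B (oneChar G) = 0 ∧ C (oneChar G) = 0 ∧ E (oneChar G) = 0
  gram : (∑ χ, a χ * a χ = 4 ∧ ∑ χ, B χ * B χ = 4 ∧ ∑ χ, C χ * C χ = 4 ∧ ∑ χ, E χ * E χ = 2) ∧
    (∑ χ, B χ * C χ = 2 ∧ ∑ χ, a χ * B χ = -2 ∧ ∑ χ, a χ * C χ = -2) ∧
    (∑ χ, a χ * E χ = 0 ∧ ∑ χ, B χ * E χ = 0 ∧ ∑ χ, C χ * E χ = 0)
  degree : ∑ χ, a χ * (deg χ : ℤ) = 0 ∧ ∑ χ, B χ * (deg χ : ℤ) = 0 ∧ ∑ χ, C χ * (deg χ : ℤ) = 0 ∧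
    ∑ χ, E χ * (deg χ : ℤ) = 0
  order : ∀ (u : IrrCharacter G → ℤ) (r : ℂ), (u = a ∧ r = 86400) ∨ (u = B ∧ r = 57600) ∨ (u = E ∧ r = 0) →
    ∑ χ : IrrCharacter G, (χ : G → ℂ) d.t * (χ : G → ℂ) d.t * (u χ : ℂ) / (deg χ : ℂ) = r / (Nat.card G : ℂ)
  twist : Function.Injective σ ∧ ∀ χ, deg (σ χ) = deg χ ∧ a (σ χ) = a χ ∧ E (σ χ) = E χ ∧ B (σ χ) = C χ
  perp : ∀ z : G, orderOf z = 7 → ∑ χ : IrrCharacter G, (a χ : ℂ) * (χ : G → ℂ) z = 0 ∧
    ∑ χ : IrrCharacter G, (E χ : ℂ) * (χ : G → ℂ) z = 0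

variable (d : Data G)

/-- The four class representatives of the section of `t`. -/
def Data.rep (i : Fin 4) : M := ![mT, mT * mX, mT * mY, mT * mY ^ 2] i

theorem conj_val {g : G} (h : IsConj g g⁻¹) (χ : IrrCharacter G) :
    conj ((χ : G → ℂ) g) = (χ : G → ℂ) g := by
  rw [← CharBasic.isCharacter_inv (CharBasic.isCharacter_of_isIrrCharacter χ.2)]
  exact (ClassAlgebraVal.irr_conj χ h).symm

theorem rep_spec : ∀ i : Fin 4, IsConj (d.φ (Data.rep i)) (d.φ (Data.rep i))⁻¹ ∧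
    Nat.card ↥(Subgroup.centralizer ({d.φ (Data.rep i)} : Set G)) = ![120, 6, 10, 10] i ∧
    Nat.card {z : G // orderOf z = 2 ∧ orderOf (z * d.φ (Data.rep i)) = 2} = ![30, 6, 10, 10] i ∧
    orderOf (d.φ (Data.rep i)) ≠ 7 := by
  have hord : ∀ m : M, ¬ (7 ∣ orderOf (d.φ m)) := fun m h => by
    rw [orderOf_injective d.φ d.inj] at h
    have := h.trans (orderOf_dvd_natCard m)
    rw [card_model] at this
    omega
  have hreal : ∀ {m g : M}, g * m = m⁻¹ * g → IsConj (d.φ m) (d.φ m)⁻¹ := fun {m g} h => isConj_iff.2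
    ⟨d.φ g, by rw [← map_mul, h, map_mul, map_inv, mul_inv_cancel_right]⟩
  obtain ⟨⟨g3, h3⟩, ⟨g5, h5⟩, -⟩ := model_real
  intro i
  fin_cases i
  · refine ⟨?_, card_centralizer_t d, (card_pairs d (pow_one mT)).trans model_pairs.1, fun h => hord _ (by rw [h])⟩
    show IsConj (d.φ mT) (d.φ mT)⁻¹
    rw [← map_inv, inv_eq_of_mul_eq_one_right model_orders.2.1]
  · exact ⟨hreal h3, (card_centralizer_of_pow d model_powers.1).trans model_centralizers.1,
      (card_pairs d model_powers.1).trans model_pairs.2.1, fun h => hord _ (by rw [h])⟩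
  · exact ⟨hreal h5, (card_centralizer_of_pow d model_powers.2.1).trans model_centralizers.2.1,
      (card_pairs d model_powers.2.1).trans model_pairs.2.2.1, fun h => hord _ (by rw [h])⟩
  · refine ⟨?_, (card_centralizer_of_pow d model_powers.2.2).trans model_centralizers.2.2,
      (card_pairs d model_powers.2.2).trans model_pairs.2.2.2, fun h => hord _ (by rw [h])⟩
    refine hreal (m := mT * mY ^ 2) (g := g5) ?_
    have e : mT * mY ^ 2 = (mT * mY) ^ 7 := by decide +kernel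
    rw [e, ← inv_pow]
    exact SemiconjBy.pow_right h5 7

theorem rep_not_conj {i j : Fin 4} (hij : i ≠ j) : ¬ IsConj (d.φ (Data.rep i)) (d.φ (Data.rep j)) := by
  intro h
  obtain ⟨g, hg⟩ := isConj_iff.1 h
  obtain ⟨m, hm⟩ : ∃ k : ℕ, (Data.rep i) ^ k = mT ∧ (Data.rep j) ^ k = mT := by
    have key2 : ∀ i : Fin 4, Data.rep i ^ 15 = mT := by decide +kernel
    exact ⟨15, key2 i, key2 j⟩
  have hgt : g * d.t = d.t * g := by
    have e := congrArg (· ^ m) hg
    simp only [conj_pow, ← map_pow, hm.1, hm.2] at e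
    exact mul_inv_eq_iff_eq_mul.1 e
  obtain ⟨g', rfl⟩ := mem_range_of_commute d hgt
  rw [← map_inv, ← map_mul, ← map_mul] at hg
  have hg' := d.inj hg
  have key : ∀ i j : Fin 4, i ≠ j → ∀ g : M, g * Data.rep i * g⁻¹ ≠ Data.rep j := by decide +kernel
  exact key i j hij g' hg'

theorem combine {u w : Fin 4 → ℂ} :
    ∑ χ : IrrCharacter G, (∑ i, u i * (χ : G → ℂ) (d.φ (Data.rep i))) *
      (∑ i, w i * (χ : G → ℂ) (d.φ (Data.rep i))) =
      u 0 * w 0 * 120 + u 1 * w 1 * 6 + u 2 * w 2 * 10 + u 3 * w 3 * 10 := by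
  have horth : ∀ i j : Fin 4, ∑ χ : IrrCharacter G, (χ : G → ℂ) (d.φ (Data.rep i)) * (χ : G → ℂ) (d.φ (Data.rep j)) =
      if i = j then ((![120, 6, 10, 10] i : ℕ) : ℂ) else 0 := fun i j => by
    have h := CharBasicOrth.sum_irr_mul_conj (d.φ (Data.rep i)) (d.φ (Data.rep j))
    rw [Finset.sum_congr rfl fun χ _ => by rw [conj_val (rep_spec d j).1 χ]] at h
    rw [h]
    rcases eq_or_ne i j with rfl | hij
    · rw [if_pos (IsConj.refl _), if_pos rfl, (rep_spec d i).2.1]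
    · rw [if_neg (rep_not_conj d hij), if_neg hij]
  simp only [Finset.sum_mul, Finset.mul_sum]
  rw [Finset.sum_comm, Finset.sum_congr rfl fun i _ => Finset.sum_comm]
  simp only [show ∀ (x y z v : ℂ), x * y * (z * v) = x * z * (y * v) from fun _ _ _ _ => by ring, ← Finset.mul_sum,
    horth, mul_ite, mul_zero, Finset.sum_ite_eq, Finset.mem_univ, if_true, Fin.sum_univ_four]
  simp [Fin.ext_iff]

/-- A square root of five, as the difference of the two periods. -/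
theorem exists_root : ∃ ω : ℂ, IsPrimitiveRoot ω 5 ∧ ω ^ 5 = 1 ∧ 1 + ω + ω ^ 2 + ω ^ 3 + ω ^ 4 = 0 ∧
    (ω + ω ^ 4 - ω ^ 2 - ω ^ 3) * (ω + ω ^ 4 - ω ^ 2 - ω ^ 3) = 5 := by
  obtain ⟨ω, hω⟩ : ∃ ω : ℂ, IsPrimitiveRoot ω 5 := ⟨_, Complex.isPrimitiveRoot_exp 5 (by norm_num)⟩
  have h5 := hω.pow_eq_one
  have hsum : 1 + ω + ω ^ 2 + ω ^ 3 + ω ^ 4 = 0 := by
    have h := hω.geom_sum_eq_zero (by norm_num)
    simpa [Finset.sum_range_succ] using h
  refine ⟨ω, hω, h5, hsum, ?_⟩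
  linear_combination (4 + ω ^ 3 - ω - 2 * ω ^ 2) * h5 - hsum

theorem exists_coords [IsSimpleGroup G] {ω r : ℂ} (hω : IsPrimitiveRoot ω 5) (h5 : ω ^ 5 = 1)
    (hsum : 1 + ω + ω ^ 2 + ω ^ 3 + ω ^ 4 = 0) (hr : r = ω + ω ^ 4 - ω ^ 2 - ω ^ 3) (χ : IrrCharacter G) :
    ∃ a B C E : ℤ,
      (χ : G → ℂ) (d.φ (Data.rep 0)) = (a : ℂ) + 3 * B + 3 * C + 4 * E ∧
      (χ : G → ℂ) (d.φ (Data.rep 1)) = (a : ℂ) + E ∧
      2 * (χ : G → ℂ) (d.φ (Data.rep 2)) = 2 * (a : ℂ) + B + C + r * (B - C) - 2 * E ∧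
      2 * (χ : G → ℂ) (d.φ (Data.rep 3)) = 2 * (a : ℂ) + B + C - r * (B - C) - 2 * E := by
  obtain ⟨ζ, hζ⟩ : ∃ ζ : ℂ, IsPrimitiveRoot ζ 3 := ⟨_, Complex.isPrimitiveRoot_exp 3 (by norm_num)⟩
  have hζ3 := hζ.pow_eq_one
  have hζsum : 1 + ζ + ζ ^ 2 = 0 := by
    have h := hζ.geom_sum_eq_zero (by norm_num)
    simpa [Finset.sum_range_succ] using h
  have hpow6 : (d.φ (mT * mX)) ^ (2 * 3) = 1 := by rw [← map_pow, pow_mul', model_powers.1, pow_two, model_orders.2.1, map_one]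
  have hpow10 : (d.φ (mT * mY)) ^ (2 * 5) = 1 := by rw [← map_pow, pow_mul', model_powers.2.1, pow_two, model_orders.2.1, map_one]
  obtain ⟨n, hn₀⟩ := exists_split (by decide) hζ χ hpow6
  obtain ⟨m, hm₀⟩ := exists_split (by decide) hω χ hpow10
  have hn : ∀ k : ℕ, Odd k →
      (χ : G → ℂ) (d.φ (mT * mX) ^ k) = ∑ j, (n j : ℂ) * ζ ^ ((j : ℕ) * k % 3) := fun k hk =>
    (hn₀ k hk).trans (Finset.sum_congr rfl fun j _ => by rw [pow_eq_pow_mod _ hζ3])
  have hm : ∀ k : ℕ, Odd k →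
      (χ : G → ℂ) (d.φ (mT * mY) ^ k) = ∑ j, (m j : ℂ) * ω ^ ((j : ℕ) * k % 5) := fun k hk =>
    (hm₀ k hk).trans (Finset.sum_congr rfl fun j _ => by rw [pow_eq_pow_mod _ h5])
  simp only [Fin.sum_univ_three, Fin.sum_univ_five, ← map_pow, Fin.val_zero, Fin.val_one, Fin.val_two] at hn hm
  have e7 : (mT * mY) ^ 7 = mT * mY ^ 2 := by decide +kernel
  have f1 := hn 3 (by decide)
  have fx := hn 1 (by decide)
  have fx' := hn 5 (by decide)
  have g1 := hm 5 (by decide)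
  have gy := hm 1 (by decide)
  have gy' := hm 9 (by decide)
  have gz := hm 7 (by decide)
  have gz' := hm 3 (by decide)
  have hinv : ∀ {c : M} {k l : ℕ}, IsConj (d.φ (c ^ k)) (d.φ (c ^ k))⁻¹ → c ^ k * c ^ l = 1 →
      (χ : G → ℂ) (d.φ (c ^ l)) = (χ : G → ℂ) (d.φ (c ^ k)) := fun {c k l} h e => by
    rw [← inv_eq_of_mul_eq_one_right e, map_inv]
    exact (ClassAlgebraVal.irr_conj χ h).symm
  have hx' : (χ : G → ℂ) (d.φ ((mT * mX) ^ 5)) = (χ : G → ℂ) (d.φ ((mT * mX) ^ 1)) := by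
    refine hinv ?_ (by decide +kernel)
    rw [pow_one]
    exact (rep_spec d 1).1
  have hy' : (χ : G → ℂ) (d.φ ((mT * mY) ^ 9)) = (χ : G → ℂ) (d.φ ((mT * mY) ^ 1)) := by
    refine hinv ?_ (by decide +kernel)
    rw [pow_one]
    exact (rep_spec d 2).1
  have hz' : (χ : G → ℂ) (d.φ ((mT * mY) ^ 3)) = (χ : G → ℂ) (d.φ ((mT * mY) ^ 7)) := by
    refine hinv ?_ (by decide +kernel)
    rw [e7]
    exact (rep_spec d 3).1
  rw [model_powers.1] at f1
  rw [model_powers.2.1] at g1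
  rw [hx'] at fx'
  rw [hy'] at gy'
  rw [hz'] at gz'
  rw [pow_one] at fx gy
  rw [e7] at gz gz'
  norm_num at f1 fx fx' g1 gy gy' gz gz'
  -- symmetry of the weights
  have hn12 : (n 1 : ℂ) = n 2 := by
    have h : ((n 1 : ℂ) - n 2) * (ζ - ζ ^ 2) = 0 := by
      linear_combination (-1 : ℂ) * fx + fx'
    rcases mul_eq_zero.1 h with h | h
    · exact sub_eq_zero.1 h
    · exfalso
      have e : ζ ^ 1 = ζ ^ 2 := by rw [pow_one]; exact sub_eq_zero.1 h
      exact absurd (hζ.pow_inj (by norm_num) (by norm_num) e) (by norm_num)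
  have hA : ((m 1 : ℂ) - m 4) * (ω - ω ^ 4) + ((m 2 : ℂ) - m 3) * (ω ^ 2 - ω ^ 3) = 0 := by
    linear_combination (-1 : ℂ) * gy + gy'
  have hB : ((m 1 : ℂ) - m 4) * (ω ^ 2 - ω ^ 3) - ((m 2 : ℂ) - m 3) * (ω - ω ^ 4) = 0 := by
    linear_combination (-1 : ℂ) * gz + gz'
  have hm14 : (m 1 : ℂ) = m 4 := by
    have h : ((m 1 : ℂ) - m 4) * (-5) = 0 := by
      linear_combination (ω - ω ^ 4) * hA + (ω ^ 2 - ω ^ 3) * hB - ((m 1 : ℂ) - m 4) * hsum -
        ((m 1 : ℂ) - m 4) * (ω ^ 3 + ω - 4) * h5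
    exact sub_eq_zero.1 ((mul_eq_zero.1 h).resolve_right (by norm_num))
  have hm23 : (m 2 : ℂ) = m 3 := by
    have h : ((m 2 : ℂ) - m 3) * (-5) = 0 := by
      linear_combination (ω ^ 2 - ω ^ 3) * hA - (ω - ω ^ 4) * hB - ((m 2 : ℂ) - m 3) * hsum -
        ((m 2 : ℂ) - m 3) * (ω ^ 3 + ω - 4) * h5
    exact sub_eq_zero.1 ((mul_eq_zero.1 h).resolve_right (by norm_num))
  have hpar : ((n 0 + n 1 + n 2 : ℤ) : ℂ) = ((m 0 + m 1 + m 2 + m 3 + m 4 : ℤ) : ℂ) := by
    push_cast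
    linear_combination g1 - f1
  have hpar' : n 0 + n 1 + n 2 = m 0 + m 1 + m 2 + m 3 + m 4 := by exact_mod_cast hpar
  have i1 : n 1 = n 2 := by exact_mod_cast hn12
  have i2 : m 1 = m 4 := by exact_mod_cast hm14
  have i3 : m 2 = m 3 := by exact_mod_cast hm23
  obtain ⟨E, hE⟩ : ∃ E : ℤ, n 0 - m 0 = 2 * E := ⟨m 1 + m 2 - n 1, by omega⟩
  have hEc : (n 0 : ℂ) = m 0 + 2 * E := by exact_mod_cast (by omega : n 0 = m 0 + 2 * E)
  have hn1 : (n 1 : ℂ) = m 1 + m 2 - E := by exact_mod_cast (by omega : n 1 = m 1 + m 2 - E)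
  refine ⟨m 0 - (m 1 - E) - (m 2 - E), m 1 - E, m 2 - E, E, ?_, ?_, ?_, ?_⟩ <;> push_cast <;>
    simp only [Data.rep, Matrix.cons_val_zero, Matrix.cons_val_one, Matrix.cons_val, map_mul, map_pow]
  · linear_combination g1 - hm14 - hm23
  · linear_combination fx + hEc - hn1 + ((n 1 : ℂ)) * hζsum - ζ ^ 2 * hn12
  · rw [hr]
    linear_combination 2 * gy - 2 * ω ^ 4 * hm14 - 2 * ω ^ 3 * hm23 + (m 1 + m 2 : ℂ) * hsum
  · rw [hr]
    linear_combination 2 * gz - 2 * ω ^ 3 * hm14 - 2 * ω * hm23 + (m 1 + m 2 : ℂ) * hsum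


theorem exists_cols [IsSimpleGroup G] (hT : IsTwoCentralInvolution d.t) : Nonempty (Cols d) := by
  obtain ⟨ω, hω, h5, hsum, hr5⟩ := exists_root
  set r := ω + ω ^ 4 - ω ^ 2 - ω ^ 3 with hr
  choose a B C E he0 he1 he2 he3 using fun χ : IrrCharacter G => exists_coords d hω h5 hsum hr χ
  set v : Fin 4 → IrrCharacter G → ℂ := fun i χ => (χ : G → ℂ) (d.φ (Data.rep i)) with hv
  set ua : Fin 4 → ℂ := ![-1 / 15, 2 / 3, 1 / 5, 1 / 5] with hua
  set uE : Fin 4 → ℂ := ![1 / 15, 1 / 3, -1 / 5, -1 / 5] with huE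
  set uB : Fin 4 → ℂ := ![2 / 15, -1 / 3, 1 / 10 + r / 10, 1 / 10 - r / 10] with huB
  set uC : Fin 4 → ℂ := ![2 / 15, -1 / 3, 1 / 10 - r / 10, 1 / 10 + r / 10] with huC
  have ca : ∀ χ, (a χ : ℂ) = ∑ i, ua i * v i χ := fun χ => by
    simp only [Fin.sum_univ_four, hua, hv, Matrix.cons_val_zero, Matrix.cons_val_one, Matrix.cons_val]
    linear_combination (1 / 15 : ℂ) * he0 χ - (2 / 3 : ℂ) * he1 χ - (1 / 10 : ℂ) * he2 χ - (1 / 10 : ℂ) * he3 χ
  have cE : ∀ χ, (E χ : ℂ) = ∑ i, uE i * v i χ := fun χ => by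
    simp only [Fin.sum_univ_four, huE, hv, Matrix.cons_val_zero, Matrix.cons_val_one, Matrix.cons_val]
    linear_combination (-1 / 15 : ℂ) * he0 χ - (1 / 3 : ℂ) * he1 χ + (1 / 10 : ℂ) * he2 χ + (1 / 10 : ℂ) * he3 χ
  have cB : ∀ χ, (B χ : ℂ) = ∑ i, uB i * v i χ := fun χ => by
    simp only [Fin.sum_univ_four, huB, hv, Matrix.cons_val_zero, Matrix.cons_val_one, Matrix.cons_val]
    linear_combination (-2 / 15 : ℂ) * he0 χ + (1 / 3 : ℂ) * he1 χ - (1 / 20 + r / 20) * he2 χ -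
      (1 / 20 - r / 20) * he3 χ - ((B χ : ℂ) - C χ) / 10 * hr5
  have cC : ∀ χ, (C χ : ℂ) = ∑ i, uC i * v i χ := fun χ => by
    simp only [Fin.sum_univ_four, huC, hv, Matrix.cons_val_zero, Matrix.cons_val_one, Matrix.cons_val]
    linear_combination (-2 / 15 : ℂ) * he0 χ + (1 / 3 : ℂ) * he1 χ - (1 / 20 - r / 20) * he2 χ -
      (1 / 20 + r / 20) * he3 χ + ((B χ : ℂ) - C χ) / 10 * hr5
  have hall : ∀ i : G, orderOf i = 2 → IsConj d.t i := fun i hi => isConj_t d hT hi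
  have hrep1 : ∀ i : Fin 4, ¬ IsConj (d.φ (Data.rep i)) 1 := fun i h => by
    rw [isConj_one_left, map_eq_one_iff d.φ d.inj] at h
    revert h
    revert i
    decide +kernel
  have hdeg : ∀ i : Fin 4, ∑ χ : IrrCharacter G, v i χ * (deg χ : ℂ) = 0 := fun i => by
    have h := CharBasicOrth.sum_irr_mul_conj (d.φ (Data.rep i)) (1 : G)
    rw [if_neg (hrep1 i), Finset.sum_congr rfl fun χ _ => by rw [apply_one, Complex.conj_natCast]] at h
    exact h
  have horder : ∀ i : Fin 4, ∑ χ : IrrCharacter G, (χ : G → ℂ) d.t * (χ : G → ℂ) d.t * v i χ / (deg χ : ℂ) =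
      14400 * ((![30, 6, 10, 10] i : ℕ) : ℂ) / (Nat.card G : ℂ) := fun i => by
    have h := ClassAlgebraVal.sum_irr_triple d.t d.t (d.φ (Data.rep i))
    rw [← Nat.cast_mul, count_triple (orderOf_t d) hall, card_centralizer_t, (rep_spec d i).2.2.1,
      Finset.sum_congr rfl fun χ _ => by rw [conj_val (rep_spec d i).1 χ, apply_one]] at h
    rw [h]
    push_cast
    ring
  have hperp : ∀ z : G, orderOf z = 7 → ∀ i : Fin 4, ∑ χ : IrrCharacter G, v i χ * (χ : G → ℂ) z = 0 := by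
    intro z hz i
    have hn : ¬ IsConj z (d.φ (Data.rep i)) := fun h => by
      obtain ⟨w, hw⟩ := isConj_iff.1 h
      refine (rep_spec d i).2.2.2 ?_
      rw [← hw]
      exact (orderOf_injective (MulAut.conj w).toMonoidHom (MulAut.conj w).injective z).trans hz
    have h := CharBasicOrth.sum_irr_mul_conj z (d.φ (Data.rep i))
    rw [if_neg hn, Finset.sum_congr rfl fun χ _ => by rw [conj_val (rep_spec d i).1 χ, mul_comm]] at h
    exact h
  -- the power map exchanging the two classes of order ten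
  obtain ⟨k, hkn, hkp, hk30⟩ := Nat.forall_exists_prime_gt_and_modEq (Nat.card G) (q := 30) (a := 7)
    (by norm_num) (by norm_num)
  have hk : k.Coprime (Nat.card G) := hkp.coprime_iff_not_dvd.2 fun h =>
    absurd (Nat.le_of_dvd Nat.card_pos h) (by omega)
  have hrep : ∀ i : Fin 4, Data.rep i ^ k = Data.rep i ^ 7 := fun i => by
    have h30 : ∀ i : Fin 4, Data.rep i ^ 30 = 1 := by decide +kernel
    rw [pow_eq_pow_mod k (h30 i), show k % 30 = 7 from hk30]
  have hpi : Data.rep 0 ^ 7 = Data.rep 0 ∧ Data.rep 1 ^ 7 = Data.rep 1 ∧ Data.rep 2 ^ 7 = Data.rep 3 ∧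
      Data.rep 3 ^ 7 = (Data.rep 2)⁻¹ := by decide +kernel
  have htw : ∀ (χ : IrrCharacter G) (i : Fin 4), v i (GaloisChar80.twist hk χ) = v (![0, 1, 3, 2] i) χ := by
    intro χ i
    simp only [hv, GaloisChar80.twist_apply, ← map_pow, hrep]
    fin_cases i <;> simp only [Matrix.cons_val_zero, Matrix.cons_val_one, Matrix.cons_val, Fin.reduceFinMk,
      Fin.zero_eta, Fin.mk_one]
    · rw [hpi.1]
    · rw [hpi.2.1]
    · rw [hpi.2.2.1]
    · rw [hpi.2.2.2, map_inv]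
      exact (ClassAlgebraVal.irr_conj χ (rep_spec d 2).1).symm
  refine ⟨⟨a, B, C, E, GaloisChar80.twist hk, fun χ => ?_, ?_, ?_, ?_, ?_, ⟨GaloisChar80.twist_injective hk, fun χ => ?_⟩, ?_⟩⟩
  · rw [Data.t, show mT = Data.rep 0 from rfl, he0]
    push_cast
    ring
  · have h1 : ∀ i, v i (oneChar G) = 1 := fun i => by simp [hv, BlockPrincipal81.oneChar]
    refine ⟨?_, ?_, ?_, ?_⟩ <;> rw [← Int.cast_inj (α := ℂ)]
    · rw [ca]; simp only [h1, mul_one, Fin.sum_univ_four, hua, Matrix.cons_val_zero, Matrix.cons_val_one, Matrix.cons_val]; norm_num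
    · rw [cB]; simp only [h1, mul_one, Fin.sum_univ_four, huB]; simp only [Matrix.cons_val_zero, Matrix.cons_val_one, Matrix.cons_val]; push_cast; ring
    · rw [cC]; simp only [h1, mul_one, Fin.sum_univ_four, huC]; simp only [Matrix.cons_val_zero, Matrix.cons_val_one, Matrix.cons_val]; push_cast; ring
    · rw [cE]; simp only [h1, mul_one, Fin.sum_univ_four, huE, Matrix.cons_val_zero, Matrix.cons_val_one, Matrix.cons_val]; norm_num
  · refine ⟨⟨?_, ?_, ?_, ?_⟩, ⟨?_, ?_, ?_⟩, ?_, ?_, ?_⟩ <;> rw [← Int.cast_inj (α := ℂ)] <;> push_cast <;>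
      simp only [ca, cB, cC, cE, hv] <;> rw [combine] <;>
      simp only [hua, huB, huC, huE, Matrix.cons_val_zero, Matrix.cons_val_one, Matrix.cons_val] <;>
      first | ring1 | linear_combination (1 / 5 : ℂ) * hr5 | linear_combination (-1 / 5 : ℂ) * hr5
  · refine ⟨?_, ?_, ?_, ?_⟩ <;> rw [← Int.cast_inj (α := ℂ)] <;> push_cast <;>
      simp only [ca, cB, cC, cE, Finset.sum_mul] <;> rw [Finset.sum_comm] <;>
      simp only [mul_assoc, ← Finset.mul_sum, hdeg, mul_zero, Finset.sum_const_zero]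
  · intro u c huc
    have hgen : ∀ (w : Fin 4 → ℂ), (∀ χ, (u χ : ℂ) = ∑ i, w i * v i χ) →
        ∑ χ : IrrCharacter G, (χ : G → ℂ) d.t * (χ : G → ℂ) d.t * (u χ : ℂ) / (deg χ : ℂ) =
          ∑ i, w i * (14400 * ((![30, 6, 10, 10] i : ℕ) : ℂ) / (Nat.card G : ℂ)) := by
      intro w hw
      simp only [← horder, Finset.mul_sum]
      rw [Finset.sum_comm]
      refine Finset.sum_congr rfl fun χ _ => ?_
      rw [hw χ, Finset.mul_sum, Finset.sum_div]
      exact Finset.sum_congr rfl fun i _ => by ring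
    rcases huc with ⟨rfl, rfl⟩ | ⟨rfl, rfl⟩ | ⟨rfl, rfl⟩
    · rw [hgen ua ca]; simp [hua, Fin.sum_univ_four]; ring
    · rw [hgen uB cB]; simp [huB, Fin.sum_univ_four]; ring
    · rw [hgen uE cE]; simp [huE, Fin.sum_univ_four]; ring
  · refine ⟨?_, ?_, ?_, ?_⟩
    · apply Nat.cast_injective (R := ℂ)
      rw [← apply_one, ← apply_one, GaloisChar80.twist_apply, one_pow]
    all_goals rw [← Int.cast_inj (α := ℂ)]
    · rw [ca, ca]; simp only [htw, Fin.sum_univ_four, hua, Matrix.cons_val_zero, Matrix.cons_val_one, Matrix.cons_val]; ring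
    · rw [cE, cE]; simp only [htw, Fin.sum_univ_four, huE, Matrix.cons_val_zero, Matrix.cons_val_one, Matrix.cons_val]; ring
    · rw [cB, cC]; simp only [htw, Fin.sum_univ_four, huB, huC, Matrix.cons_val_zero, Matrix.cons_val_one, Matrix.cons_val]; ring
  · intro z hz
    refine ⟨?_, ?_⟩ <;> simp only [ca, cE, Finset.sum_mul] <;> rw [Finset.sum_comm] <;>
      simp only [mul_assoc, ← Finset.mul_sum, hperp z hz, mul_zero, Finset.sum_const_zero]

end Cfsg.Agent.J1Order91
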