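import Cfsg.Agent.Lib.J1Degrees91

/-!
The two configurations of the columns, and the order of the group.
-/

set_option autoImplicit false
set_option linter.style.haveILetI false
set_option linter.unusedSectionVars false

open scoped ComplexConjugate

namespace Cfsg.Agent.J1Order91

open Cfsg Cfsg.Agent.BlockCount91 Cfsg.Agent.BlockPrincipal81

attribute [local instance] Classical.propDecidable

theorem supp_four {ι K : Type*} [Fintype ι] [CommRing K] {f : ι → ℤ} {p q r s : ι} (F : ι → K)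
    (hf : ∀ x, f x ≠ 0 → x = p ∨ x = q ∨ x = r ∨ x = s) (h1 : p ≠ q) (h2 : p ≠ r) (h3 : p ≠ s)
    (h4 : q ≠ r) (h5 : q ≠ s) (h6 : r ≠ s) :
    ∑ x, (f x : K) * F x = (f p : K) * F p + (f q : K) * F q + (f r : K) * F r + (f s : K) * F s := by
  rw [← Finset.sum_subset (Finset.subset_univ ({p, q, r, s} : Finset ι)) (fun x _ hx => by
    have : f x = 0 := by
      by_contra h
      exact hx (by simpa using hf x h)
    rw [this, Int.cast_zero, zero_mul]),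
    Finset.sum_insert (by simp [h1, h2, h3]), Finset.sum_insert (by simp [h4, h5]), Finset.sum_pair h6]
  ring

theorem unit_entries {ι : Type*} [Fintype ι] {f w : ι → ℤ} {n : ℤ} (hw : ∀ x, 0 < w x)
    (h : ∑ x, f x * f x = n) (hn : n ≤ 4) (h0 : ∑ x, f x * w x = 0) :
    (∀ x, f x = 0 ∨ f x = 1 ∨ f x = -1) ∧ ((Finset.univ.filter fun x => f x ≠ 0).card : ℤ) = n := by
  have hu : ∀ x, f x = 0 ∨ f x = 1 ∨ f x = -1 := by
    intro x
    by_contra hx
    have h4 : 4 ≤ f x * f x := by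
      rcases (by omega : 2 ≤ f x ∨ f x ≤ -2) with h2 | h2 <;> nlinarith
    have hrest : ∀ y, y ≠ x → f y = 0 := by
      intro y hy
      by_contra hy0
      have h2 := Finset.sum_le_sum_of_subset_of_nonneg (f := fun z => f z * f z)
        (Finset.subset_univ ({x, y} : Finset ι)) fun z _ _ => mul_self_nonneg _
      rw [Finset.sum_pair (Ne.symm hy), h] at h2
      have := mul_self_pos.2 hy0
      omega
    rw [Finset.sum_eq_single x (fun y _ hy => by rw [hrest y hy, zero_mul])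
      (fun h => absurd (Finset.mem_univ x) h)] at h0
    rcases mul_eq_zero.1 h0 with e | e
    · omega
    · have := hw x
      omega
  refine ⟨hu, ?_⟩
  rw [← h, Finset.card_filter, Nat.cast_sum]
  refine Finset.sum_congr rfl fun x _ => ?_
  rcases hu x with e | e | e <;> simp [e]

variable {G : Type*} [Group G] [IsSimpleGroup G] [Fintype G] {d : Data G} (cs : Cols d)

/-- The value at the involution. -/
def Cols.X (χ : IrrCharacter G) : ℤ := cs.a χ + 3 * cs.B χ + 3 * cs.C χ + 4 * cs.E χ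

theorem congr_eight (hT : IsTwoCentralInvolution d.t) (χ : IrrCharacter G) :
    ∃ n : ℕ, (deg χ : ℤ) + 7 * cs.X χ = 8 * n := by
  obtain ⟨n, hn⟩ := ClassAlgebraVal.exists_sum_subgroup (ClassAlgebraVal.irr_isCharacter χ) d.P
  refine ⟨n, ?_⟩
  have hval : ∀ u ∈ Finset.univ.erase (1 : ↥d.P), conj ((χ : G → ℂ) (u : G)) = (cs.X χ : ℂ) := by
    intro u hu
    obtain ⟨m, hm, hme⟩ := u.2
    have hu1 : (u : G) ≠ 1 := fun e => (Finset.mem_erase.1 hu).1 (Subtype.ext e)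
    have hu2 : orderOf (u : G) = 2 := by
      haveI : Fact (Nat.Prime 2) := ⟨Nat.prime_two⟩
      refine orderOf_eq_prime ?_ hu1
      rw [← hme, ← map_pow, pow_two, model_sq m hm, map_one]
    rw [ClassAlgebraVal.irr_conj χ (isConj_t d hT hu2).symm, cs.val χ, map_intCast]
    rfl
  rw [← Finset.add_sum_erase _ _ (Finset.mem_univ (1 : ↥d.P)), Finset.sum_congr rfl hval, OneMemClass.coe_one,
    apply_one, Complex.conj_natCast, Finset.sum_const, Finset.card_erase_of_mem (Finset.mem_univ _),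
    Finset.card_univ, ← Nat.card_eq_fintype_card, card_P] at hn
  have : (((deg χ : ℤ) + 7 * cs.X χ : ℤ) : ℂ) = ((8 * (n : ℤ) : ℤ) : ℂ) := by
    push_cast
    simpa using hn
  exact_mod_cast this

theorem deg_ne (χ : IrrCharacter G) (h : χ ≠ oneChar G) : (deg χ : ℤ) ≠ cs.X χ := by
  intro e
  refine h (eq_one_of_fixes (u := d.t) (fun h1 => ?_) ?_)
  · have := orderOf_t d
    rw [h1, orderOf_one] at this
    omega
  · rw [cs.val χ, apply_one, ← Int.cast_natCast (deg χ), e]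
    rfl

theorem order_facts (hT : IsTwoCentralInvolution d.t) :
    120 ∣ Nat.card G ∧ ¬ 16 ∣ Nat.card G := by
  refine ⟨card_centralizer_t d ▸ (Subgroup.centralizer ({d.t} : Set G)).card_subgroup_dvd_card, fun h => ?_⟩
  have := (Nat.Prime.pow_dvd_iff_le_factorization Nat.prime_two Nat.card_pos.ne').1 (show 2 ^ 4 ∣ Nat.card G from h)
  rw [(two_part d hT).2] at this
  omega

theorem sq_lt {χ : IrrCharacter G} (h : χ ≠ oneChar G) {b : ℤ} (hb : b = 1 ∨ b = -1) :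
    b * (deg χ : ℤ) * (b * (deg χ : ℤ)) < (Nat.card G : ℤ) ∧ b * (deg χ : ℤ) ∣ (Nat.card G : ℤ) := by
  have h1 : ((deg χ * deg χ : ℕ) : ℤ) < (Nat.card G : ℤ) := by exact_mod_cast deg_sq_lt h
  have h2 : (deg χ : ℤ) ∣ (Nat.card G : ℤ) := by exact_mod_cast deg_dvd χ
  push_cast at h1
  rcases hb with rfl | rfl
  · simpa using And.intro h1 h2
  · simpa using And.intro h1 h2

theorem entries_E (χ : IrrCharacter G) (h : cs.E χ ≠ 0) :
    cs.a χ = 0 ∧ cs.B χ = 0 ∧ cs.C χ = 0 ∧ ∃ u v : IrrCharacter G, u ≠ v ∧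
      (∀ x, cs.E x ≠ 0 → x = u ∨ x = v) ∧ (χ = u ∨ χ = v) ∧ (cs.E u = 1 ∨ cs.E u = -1) ∧
      cs.E v = -cs.E u ∧ deg u = deg v ∧ cs.X u = 4 * cs.E u ∧ cs.X v = 4 * cs.E v := by
  obtain ⟨⟨gaa, gBB, gCC, gEE⟩, ⟨gBC, gaB, gaC⟩, gaE, gBE, gCE⟩ := cs.gram
  obtain ⟨dega, degB, degC, degE⟩ := cs.degree
  have hw : ∀ x : IrrCharacter G, (0 : ℤ) < deg x := fun x => by exact_mod_cast deg_pos x
  obtain ⟨hEu, hEc⟩ := unit_entries hw gEE (by norm_num) degE
  obtain ⟨haU, -⟩ := unit_entries hw gaa (by norm_num) dega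
  obtain ⟨hBU, -⟩ := unit_entries hw gBB (by norm_num) degB
  obtain ⟨hCU, -⟩ := unit_entries hw gCC (by norm_num) degC
  obtain ⟨u, v, huv, hS⟩ := Finset.card_eq_two.1 (by exact_mod_cast hEc :
    (Finset.univ.filter fun x => cs.E x ≠ 0).card = 2)
  have hsupp : ∀ x, cs.E x ≠ 0 → x = u ∨ x = v := fun x hx => by
    have hm : x ∈ (Finset.univ.filter fun x => cs.E x ≠ 0) := by simp [hx]
    simpa [hS] using hm
  have hu0 : cs.E u ≠ 0 := by
    have hm : u ∈ (Finset.univ.filter fun x => cs.E x ≠ 0) := by rw [hS]; simp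
    simpa using hm
  have hv0 : cs.E v ≠ 0 := by
    have hm : v ∈ (Finset.univ.filter fun x => cs.E x ≠ 0) := by rw [hS]; simp
    simpa using hm
  have hsum : ∀ (K : Type) [CommRing K] (F : IrrCharacter G → K),
      ∑ x, (cs.E x : K) * F x = (cs.E u : K) * F u + (cs.E v : K) * F v := fun K _ F => by
    rw [← Finset.sum_subset (Finset.subset_univ ({u, v} : Finset (IrrCharacter G))) (fun x _ hx => by
      have : cs.E x = 0 := by
        by_contra h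
        exact hx (by simpa using hsupp x h)
      rw [this, Int.cast_zero, zero_mul]), Finset.sum_pair huv]
  have hd : cs.E u * deg u + cs.E v * deg v = 0 := by
    have h := hsum ℤ fun x => (deg x : ℤ)
    simp only [Int.cast_id] at h
    rw [← h, degE]
  have hu1 : cs.E u = 1 ∨ cs.E u = -1 := (hEu u).resolve_left hu0
  have hv1 : cs.E v = 1 ∨ cs.E v = -1 := (hEu v).resolve_left hv0
  have := hw u
  have := hw v
  have hev : cs.E v = -cs.E u := by
    rcases hu1 with e1 | e1 <;> rcases hv1 with e2 | e2 <;> rw [e1, e2] at hd <;> omega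
  have hdd : deg u = deg v := by
    rcases hu1 with e1 | e1 <;> rw [hev, e1] at hd <;> omega
  have hX : cs.X u = 4 * cs.E u ∧ cs.X v = 4 * cs.E v := by
    have h1 := cs.order cs.E 0 (Or.inr (Or.inr ⟨rfl, rfl⟩))
    rw [zero_div, Finset.sum_congr rfl fun (x : IrrCharacter G) _ => show
      (x : G → ℂ) d.t * (x : G → ℂ) d.t * (cs.E x : ℂ) / (deg x : ℂ) =
        (cs.E x : ℂ) * ((cs.X x : ℂ) * (cs.X x : ℂ) / (deg x : ℂ)) by rw [cs.val x, Cols.X]; ring,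
      hsum ℂ, hev, hdd] at h1
    have hsq : cs.X u * cs.X u = cs.X v * cs.X v := by
      have hne : (cs.E u : ℂ) ≠ 0 := Int.cast_ne_zero.2 hu0
      have hdv : (deg v : ℂ) ≠ 0 := Nat.cast_ne_zero.2 (deg_pos v).ne'
      push_cast at h1
      have h1' : (cs.E u : ℂ) / (deg v : ℂ) * ((cs.X u : ℂ) * cs.X u - (cs.X v : ℂ) * cs.X v) = 0 := by
        linear_combination h1
      have h2 := sub_eq_zero.1 ((mul_eq_zero.1 h1').resolve_left (div_ne_zero hne hdv))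
      exact_mod_cast h2
    have h8 : cs.E u * cs.X u + cs.E v * cs.X v = 8 := by
      have h := hsum ℤ fun x => cs.X x
      simp only [Int.cast_id] at h
      rw [← h]
      rw [Finset.sum_congr rfl fun x _ => show cs.E x * cs.X x =
        cs.a x * cs.E x + 3 * (cs.B x * cs.E x) + 3 * (cs.C x * cs.E x) + 4 * (cs.E x * cs.E x) by
          rw [Cols.X]; ring]
      simp only [Finset.sum_add_distrib, ← Finset.mul_sum]
      rw [gaE, gBE, gCE, gEE]
      norm_num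
    have hfac : (cs.X u - cs.X v) * (cs.X u + cs.X v) = 0 := by linear_combination hsq
    rw [hev] at h8 ⊢
    rcases hu1 with e | e <;> rw [e] at h8 ⊢ <;> rcases mul_eq_zero.1 hfac with h | h <;> omega
  have hz : ∀ x, x = u ∨ x = v → cs.a x = 0 ∧ cs.C x = -cs.B x := by
    intro x hx
    have e : cs.X x = 4 * cs.E x := by rcases hx with rfl | rfl; exacts [hX.1, hX.2]
    simp only [Cols.X] at e
    rcases haU x with h | h | h <;> omega
  have hB0 : cs.B u = 0 ∧ cs.B v = 0 := by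
    have h := hsum ℤ fun x => cs.B x
    simp only [Int.cast_id] at h
    rw [Finset.sum_congr rfl (fun x _ => mul_comm (cs.E x) (cs.B x)), gBE, hev] at h
    have heq : cs.B v = cs.B u := by
      rcases hu1 with e | e <;> rw [e] at h <;> omega
    refine ⟨?_, ?_⟩ <;> by_contra hne
    all_goals
      have h2 := Finset.sum_le_sum_of_subset_of_nonneg (f := fun x => cs.B x * cs.B x - cs.B x * cs.C x)
        (Finset.subset_univ ({u, v} : Finset (IrrCharacter G))) fun x _ _ => by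
          rcases hBU x with e | e | e <;> rcases hCU x with e' | e' | e' <;> simp [e, e']
      rw [Finset.sum_pair huv, (hz u (Or.inl rfl)).2, (hz v (Or.inr rfl)).2, Finset.sum_sub_distrib, gBB, gBC, heq] at h2
      rcases hBU u with e | e | e <;> rw [e] at h2 heq <;> omega
  refine ⟨?_, ?_, ?_, u, v, huv, hsupp, hsupp χ h, hu1, hev, hdd, hX⟩ <;> rcases hsupp χ h with rfl | rfl
  · exact (hz _ (Or.inl rfl)).1
  · exact (hz _ (Or.inr rfl)).1
  · exact hB0.1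
  · exact hB0.2
  · rw [(hz _ (Or.inl rfl)).2, hB0.1, neg_zero]
  · rw [(hz _ (Or.inr rfl)).2, hB0.2, neg_zero]

theorem order_rat {u : IrrCharacter G → ℤ} {c : ℕ}
    (h : (u = cs.a ∧ c = 86400) ∨ (u = cs.B ∧ c = 57600)) :
    ∑ x, (u x : ℚ) * ((cs.X x : ℚ) * (cs.X x : ℚ) / (deg x : ℚ)) = (c : ℚ) / (Nat.card G : ℚ) := by
  have h1 := cs.order u (c : ℂ) (by
    rcases h with ⟨rfl, rfl⟩ | ⟨rfl, rfl⟩
    · exact Or.inl ⟨rfl, by norm_num⟩
    · exact Or.inr (Or.inl ⟨rfl, by norm_num⟩))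
  apply Rat.cast_injective (α := ℂ)
  push_cast
  rw [← h1]
  refine Finset.sum_congr rfl fun x _ => ?_
  rw [cs.val x, Cols.X]
  push_cast
  ring

theorem term_eq {b : ℤ} (hb : b = 1 ∨ b = -1) (c : ℤ) (n : ℕ) :
    (b : ℚ) * (((c * b : ℤ) : ℚ) * ((c * b : ℤ) : ℚ) / (n : ℚ)) = (c : ℚ) * c / ((b * (n : ℤ) : ℤ) : ℚ) := by
  rcases hb with rfl | rfl <;> push_cast <;> ring

/-- What remains of the exceptional case of order `189000`. -/
def Exceptional : Prop :=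
  Nat.card G = 189000 ∧ ∃ w : IrrCharacter G, w ≠ oneChar G ∧ cs.a w = -1 ∧ deg w = 15 ∧ cs.X w = -1 ∧ cs.E w = 0 ∧
    (∀ x, cs.a x ≠ 0 → x = oneChar G ∨ x = w ∨ 7 ∣ deg x) ∧
    ∀ x, cs.X x ≠ 0 → cs.E x = 0 → x = oneChar G ∨ x = w ∨ 7 ∣ deg x

theorem case_first (hT : IsTwoCentralInvolution d.t)
    (haCard : ((Finset.univ.filter fun x => cs.a x ≠ 0).card : ℤ) = 4) {p q r1 r2 s1 s2 : IrrCharacter G}
    (hBsupp : ∀ x, cs.B x ≠ 0 → x = p ∨ x = q ∨ x = r1 ∨ x = r2)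
    (hCsupp : ∀ x, cs.C x ≠ 0 → x = p ∨ x = q ∨ x = s1 ∨ x = s2)
    (hpq : p ≠ q) (n1 : p ≠ r1) (n2 : p ≠ r2) (n3 : q ≠ r1) (n4 : q ≠ r2) (hr12 : r1 ≠ r2)
    (hp : cs.B p ≠ 0 ∧ cs.C p ≠ 0) (hq : cs.B q ≠ 0 ∧ cs.C q ≠ 0)
    (hr1 : cs.B r1 ≠ 0 ∧ cs.C r1 = 0) (hr2 : cs.B r2 ≠ 0 ∧ cs.C r2 = 0)
    (hs1 : cs.C s1 ≠ 0 ∧ cs.B s1 = 0) (hs2 : cs.C s2 ≠ 0 ∧ cs.B s2 = 0)
    (hCp : cs.C p = cs.B p) (hCq : cs.C q = cs.B q) (hap : cs.B p * cs.a p = -1) (haq : cs.B q * cs.a q = -1)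
    (har1 : cs.B r1 * cs.a r1 = 0) (har2 : cs.B r2 * cs.a r2 = 0) (has1 : cs.C s1 * cs.a s1 = 0)
    (has2 : cs.C s2 * cs.a s2 = 0) : Nat.card G = 175560 ∨ Exceptional cs := by
  obtain ⟨⟨gaa, gBB, -, -⟩, -, -⟩ := cs.gram
  obtain ⟨dega, degB, -, -⟩ := cs.degree
  obtain ⟨a1, B1, C1, E1⟩ := cs.one
  have hw : ∀ x : IrrCharacter G, (0 : ℤ) < deg x := fun x => by exact_mod_cast deg_pos x
  obtain ⟨haU, -⟩ := unit_entries hw gaa (by norm_num) dega
  obtain ⟨hBU, -⟩ := unit_entries hw gBB (by norm_num) degB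
  have hb := fun {x : IrrCharacter G} (h : cs.B x ≠ 0) => (hBU x).resolve_left h
  have hE0 : ∀ {x : IrrCharacter G}, cs.a x ≠ 0 ∨ cs.B x ≠ 0 ∨ cs.C x ≠ 0 → cs.E x = 0 := fun {x} h => by
    by_contra hE
    obtain ⟨h1, h2, h3, -⟩ := entries_E cs x hE
    tauto
  have apv : cs.a p = -cs.B p := by rcases hb hp.1 with e | e <;> rw [e] at hap ⊢ <;> omega
  have aqv : cs.a q = -cs.B q := by rcases hb hq.1 with e | e <;> rw [e] at haq ⊢ <;> omega
  have ar1 : cs.a r1 = 0 := (mul_eq_zero.1 har1).resolve_left hr1.1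
  have ar2 : cs.a r2 = 0 := (mul_eq_zero.1 har2).resolve_left hr2.1
  have as1 : cs.a s1 = 0 := (mul_eq_zero.1 has1).resolve_left hs1.1
  have as2 : cs.a s2 = 0 := (mul_eq_zero.1 has2).resolve_left hs2.1
  have o1 : p ≠ oneChar G := fun e => hp.1 (e ▸ B1)
  have o2 : q ≠ oneChar G := fun e => hq.1 (e ▸ B1)
  set S := Finset.univ.filter fun x => cs.a x ≠ 0 with hS
  have hsub : ({oneChar G, p, q} : Finset (IrrCharacter G)) ⊆ S := by
    intro x hx
    simp only [Finset.mem_insert, Finset.mem_singleton] at hx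
    rw [hS, Finset.mem_filter]
    refine ⟨Finset.mem_univ _, ?_⟩
    rcases hx with rfl | rfl | rfl
    · omega
    · have := hp.1; omega
    · have := hq.1; omega
  obtain ⟨w, hw1⟩ : ∃ w, S \ {oneChar G, p, q} = {w} := Finset.card_eq_one.1 (by
    rw [Finset.card_sdiff_of_subset hsub, show S.card = 4 by exact_mod_cast haCard,
      Finset.card_insert_of_notMem (by simp [Ne.symm o1, Ne.symm o2]), Finset.card_pair hpq])
  have hwm : cs.a w ≠ 0 ∧ ¬ (w = oneChar G ∨ w = p ∨ w = q) := by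
    have h : w ∈ S \ {oneChar G, p, q} := by rw [hw1]; simp
    simpa [hS] using h
  have hasupp : ∀ x, cs.a x ≠ 0 → x = oneChar G ∨ x = p ∨ x = q ∨ x = w := fun x hx => by
    by_cases h : x ∈ ({oneChar G, p, q} : Finset (IrrCharacter G))
    · simp only [Finset.mem_insert, Finset.mem_singleton] at h
      tauto
    · have : x ∈ S \ {oneChar G, p, q} := by simp only [Finset.mem_sdiff, hS]; exact ⟨by simp [hx], h⟩
      rw [hw1, Finset.mem_singleton] at this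
      tauto
  obtain ⟨hwa, hwn⟩ := hwm
  push_neg at hwn
  have Bw : cs.B w = 0 := by
    by_contra h
    rcases hBsupp w h with e | e | e | e
    exacts [hwn.2.1 e, hwn.2.2 e, hwa (e ▸ ar1), hwa (e ▸ ar2)]
  have Cw : cs.C w = 0 := by
    by_contra h
    rcases hCsupp w h with e | e | e | e
    exacts [hwn.2.1 e, hwn.2.2 e, hwa (e ▸ as1), hwa (e ▸ as2)]
  have haw := (haU w).resolve_left hwa
  -- values
  have Xp : cs.X p = 5 * cs.B p := by rw [Cols.X, apv, hCp, hE0 (Or.inr (Or.inl hp.1))]; ring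
  have Xq : cs.X q = 5 * cs.B q := by rw [Cols.X, aqv, hCq, hE0 (Or.inr (Or.inl hq.1))]; ring
  have Xr1 : cs.X r1 = 3 * cs.B r1 := by rw [Cols.X, ar1, hr1.2, hE0 (Or.inr (Or.inl hr1.1))]; ring
  have Xr2 : cs.X r2 = 3 * cs.B r2 := by rw [Cols.X, ar2, hr2.2, hE0 (Or.inr (Or.inl hr2.1))]; ring
  have Xw : cs.X w = 1 * cs.a w := by rw [Cols.X, Bw, Cw, hE0 (Or.inl hwa)]; ring
  have X1 : cs.X (oneChar G) = 1 := by rw [Cols.X, a1, B1, C1, E1]; ring
  -- signed degrees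
  have o3 : r1 ≠ oneChar G := fun e => hr1.1 (e ▸ B1)
  have o4 : r2 ≠ oneChar G := fun e => hr2.1 (e ▸ B1)
  have hdegB : cs.B p * deg p + cs.B q * deg q + cs.B r1 * deg r1 + cs.B r2 * deg r2 = 0 := by
    have h := supp_four (K := ℤ) (fun x => (deg x : ℤ)) hBsupp hpq n1 n2 n3 n4 hr12
    simp only [Int.cast_id] at h
    rw [← h, degB]
  have hdega : 1 + cs.a p * deg p + cs.a q * deg q + cs.a w * deg w = 0 := by
    have h := supp_four (K := ℤ) (fun x => (deg x : ℤ)) hasupp (Ne.symm o1) (Ne.symm o2) (Ne.symm hwn.1) hpq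
      (Ne.symm hwn.2.1) (Ne.symm hwn.2.2)
    simp only [Int.cast_id, a1, deg_one, Nat.cast_one, mul_one] at h
    rw [← h, dega]
  have eA : (1 : ℚ) - 25 / ((cs.B p * deg p : ℤ) : ℚ) - 25 / ((cs.B q * deg q : ℤ) : ℚ) +
      1 / ((cs.a w * deg w : ℤ) : ℚ) = 86400 / (Nat.card G : ℚ) := by
    have h := order_rat cs (u := cs.a) (c := 86400) (Or.inl ⟨rfl, rfl⟩)
    rw [supp_four (fun x => (cs.X x : ℚ) * (cs.X x : ℚ) / (deg x : ℚ)) hasupp (Ne.symm o1) (Ne.symm o2)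
      (Ne.symm hwn.1) hpq (Ne.symm hwn.2.1) (Ne.symm hwn.2.2), X1, Xp, Xq, Xw, term_eq haw, a1, deg_one,
      apv, aqv, Int.cast_neg, Int.cast_neg, neg_mul, neg_mul, term_eq (hb hp.1), term_eq (hb hq.1)] at h
    push_cast at h ⊢
    linear_combination h
  have eB : (25 : ℚ) / ((cs.B p * deg p : ℤ) : ℚ) + 25 / ((cs.B q * deg q : ℤ) : ℚ) +
      9 / ((cs.B r1 * deg r1 : ℤ) : ℚ) + 9 / ((cs.B r2 * deg r2 : ℤ) : ℚ) = 57600 / (Nat.card G : ℚ) := by
    have h := order_rat cs (u := cs.B) (c := 57600) (Or.inr ⟨rfl, rfl⟩)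
    rw [supp_four (fun x => (cs.X x : ℚ) * (cs.X x : ℚ) / (deg x : ℚ)) hBsupp hpq n1 n2 n3 n4 hr12,
      Xp, Xq, Xr1, Xr2, term_eq (hb hp.1), term_eq (hb hq.1), term_eq (hb hr1.1), term_eq (hb hr2.1)] at h
    push_cast at h ⊢
    linear_combination h
  obtain ⟨h120, h16⟩ := order_facts hT
  obtain ⟨hp2, hpd⟩ := sq_lt o1 (hb hp.1)
  obtain ⟨hq2, hqd⟩ := sq_lt o2 (hb hq.1)
  obtain ⟨hx2, hxd⟩ := sq_lt o3 (hb hr1.1)
  obtain ⟨hy2, hyd⟩ := sq_lt o4 (hb hr2.1)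
  obtain ⟨-, hzd⟩ := sq_lt hwn.1 haw
  have v5 : ∀ x : IrrCharacter G, x ≠ oneChar G → cs.B x ≠ 0 → cs.X x = 5 * cs.B x →
      cs.B x * (deg x : ℤ) % 8 = 5 ∧ (13 ≤ cs.B x * (deg x : ℤ) ∨ cs.B x * (deg x : ℤ) ≤ -35) := by
    intro x hx hB hX
    obtain ⟨n, hn⟩ := congr_eight cs hT x
    have hne := deg_ne cs x hx
    rw [hX] at hn hne
    rcases hb hB with e | e <;> rw [e] at hn hne ⊢ <;> omega
  have v3 : ∀ x : IrrCharacter G, x ≠ oneChar G → cs.B x ≠ 0 → cs.X x = 3 * cs.B x →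
      cs.B x * (deg x : ℤ) % 8 = 3 := by
    intro x hx hB hX
    obtain ⟨n, hn⟩ := congr_eight cs hT x
    rw [hX] at hn
    rcases hb hB with e | e <;> rw [e] at hn ⊢ <;> omega
  have hz1 : cs.a w * (deg w : ℤ) ≠ 1 := by
    have hne := deg_ne cs w hwn.1
    have := hw w
    rw [Xw] at hne
    rcases haw with e | e <;> rw [e] at hne ⊢ <;> omega
  obtain ⟨pm, pv⟩ := v5 p o1 hp.1 Xp
  obtain ⟨qm, qv⟩ := v5 q o2 hq.1 Xq
  have xm := v3 r1 o3 hr1.1 Xr1
  have ym := v3 r2 o4 hr2.1 Xr2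
  have hzeq : cs.a w * (deg w : ℤ) = cs.B p * deg p + cs.B q * deg q - 1 := by
    rw [apv, aqv] at hdega
    linarith
  have hfin : Nat.card G = 175560 ∨ (Nat.card G = 189000 ∧ (7 : ℤ) ∣ cs.B p * deg p ∧ (7 : ℤ) ∣ cs.B q * deg q ∧
      (7 : ℤ) ∣ cs.B r1 * deg r1 ∧ (7 : ℤ) ∣ cs.B r2 * deg r2 ∧ cs.a w * (deg w : ℤ) = -15) := by
    rcases Nat.le_total (cs.B p * (deg p : ℤ)).natAbs (cs.B q * (deg q : ℤ)).natAbs with hle | hle
    · exact arith_first' pm qm xm ym pv qv hzeq hz1 hdegB h120 h16 Nat.card_pos hpd hqd hzd hxd hyd hq2 hx2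
        eA eB hle
    · rcases arith_first' qm pm xm ym qv pv (by rw [hzeq]; ring) hz1 (by linarith) h120 h16 Nat.card_pos hqd hpd
        hzd hxd hyd hp2 hx2 (by linear_combination eA) (by linear_combination eB) hle with h | h
      · exact Or.inl h
      · exact Or.inr ⟨h.1, h.2.2.1, h.2.1, h.2.2.2⟩
  rcases hfin with h | ⟨h, hp7, hq7, hx7, hy7, hz15⟩
  · exact Or.inl h
  · have hd15 : cs.a w = -1 ∧ deg w = 15 := by
      have := hw w
      rcases haw with e | e <;> rw [e] at hz15 ⊢ <;> omega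
    have h7 : ∀ x : IrrCharacter G, cs.B x ≠ 0 → 7 ∣ deg x := fun x hx => by
      have hd : (7 : ℤ) ∣ cs.B x * (deg x : ℤ) := by
        rcases hBsupp x hx with rfl | rfl | rfl | rfl
        exacts [hp7, hq7, hx7, hy7]
      rcases hb hx with e | e <;> rw [e] at hd <;> omega
    have h7C : ∀ x : IrrCharacter G, cs.C x ≠ 0 → 7 ∣ deg x := fun x hx => by
      rw [← (cs.twist.2 x).1]
      exact h7 _ (by rw [(cs.twist.2 x).2.2.2]; exact hx)
    refine Or.inr ⟨h, w, hwn.1, hd15.1, hd15.2, by rw [Xw, hd15.1]; norm_num, hE0 (Or.inl hwa), fun x hx => ?_,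
      fun x hx hE => ?_⟩
    · rcases hasupp x hx with rfl | rfl | rfl | rfl
      exacts [Or.inl rfl, Or.inr (Or.inr (h7 _ hp.1)), Or.inr (Or.inr (h7 _ hq.1)), Or.inr (Or.inl rfl)]
    · by_cases hB : cs.B x = 0
      · by_cases hC : cs.C x = 0
        · rcases hasupp x (fun ha => hx (by rw [Cols.X, ha, hB, hC, hE]; ring)) with rfl | rfl | rfl | rfl
          exacts [Or.inl rfl, absurd hB hp.1, absurd hB hq.1, Or.inr (Or.inl rfl)]
        · exact Or.inr (Or.inr (h7C x hC))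
      · exact Or.inr (Or.inr (h7 x hB))

theorem case_second (hT : IsTwoCentralInvolution d.t)
    (haCard : ((Finset.univ.filter fun x => cs.a x ≠ 0).card : ℤ) = 4) {p q r1 r2 s1 : IrrCharacter G}
    (hBsupp : ∀ x, cs.B x ≠ 0 → x = p ∨ x = q ∨ x = r1 ∨ x = r2)
    (hpq : p ≠ q) (hr12 : r1 ≠ r2)
    (hp : cs.B p ≠ 0 ∧ cs.C p ≠ 0) (hq : cs.B q ≠ 0 ∧ cs.C q ≠ 0)
    (hr1 : cs.B r1 ≠ 0 ∧ cs.C r1 = 0) (hr2 : cs.B r2 ≠ 0 ∧ cs.C r2 = 0)
    (hs1 : cs.C s1 ≠ 0 ∧ cs.B s1 = 0)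
    (hCp : cs.C p = cs.B p) (hCq : cs.C q = cs.B q) (hap : cs.B p * cs.a p = -1) (haq : cs.B q * cs.a q = 0)
    (har1 : cs.B r1 * cs.a r1 = -1) (har2 : cs.B r2 * cs.a r2 = 0) (has1 : cs.C s1 * cs.a s1 = -1) : False := by
  obtain ⟨⟨gaa, gBB, gCC, -⟩, -, -⟩ := cs.gram
  obtain ⟨dega, degB, degC, -⟩ := cs.degree
  obtain ⟨a1, B1, C1, E1⟩ := cs.one
  have hw : ∀ x : IrrCharacter G, (0 : ℤ) < deg x := fun x => by exact_mod_cast deg_pos x
  obtain ⟨hBU, -⟩ := unit_entries hw gBB (by norm_num) degB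
  obtain ⟨hCU, -⟩ := unit_entries hw gCC (by norm_num) degC
  have hb := fun {x : IrrCharacter G} (h : cs.B x ≠ 0) => (hBU x).resolve_left h
  have hE0 : ∀ {x : IrrCharacter G}, cs.a x ≠ 0 ∨ cs.B x ≠ 0 ∨ cs.C x ≠ 0 → cs.E x = 0 := fun {x} h => by
    by_contra hE
    obtain ⟨h1, h2, h3, -⟩ := entries_E cs x hE
    tauto
  have hc1 := (hCU s1).resolve_left hs1.1
  have apv : cs.a p = -cs.B p := by rcases hb hp.1 with e | e <;> rw [e] at hap ⊢ <;> omega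
  have ar1 : cs.a r1 = -cs.B r1 := by rcases hb hr1.1 with e | e <;> rw [e] at har1 ⊢ <;> omega
  have as1 : cs.a s1 = -cs.C s1 := by rcases hc1 with e | e <;> rw [e] at has1 ⊢ <;> omega
  have aqv : cs.a q = 0 := (mul_eq_zero.1 haq).resolve_left hq.1
  have ar2 : cs.a r2 = 0 := (mul_eq_zero.1 har2).resolve_left hr2.1
  have n1 : p ≠ r1 := fun e => hp.2 (e ▸ hr1.2)
  have n2 : p ≠ r2 := fun e => hp.2 (e ▸ hr2.2)
  have n3 : q ≠ r1 := fun e => hq.2 (e ▸ hr1.2)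
  have n4 : q ≠ r2 := fun e => hq.2 (e ▸ hr2.2)
  have n5 : p ≠ s1 := fun e => hp.1 (e ▸ hs1.2)
  have n6 : r1 ≠ s1 := fun e => hr1.1 (e ▸ hs1.2)
  have o1 : p ≠ oneChar G := fun e => hp.1 (e ▸ B1)
  have o2 : q ≠ oneChar G := fun e => hq.1 (e ▸ B1)
  have o3 : r1 ≠ oneChar G := fun e => hr1.1 (e ▸ B1)
  have o4 : r2 ≠ oneChar G := fun e => hr2.1 (e ▸ B1)
  have o5 : s1 ≠ oneChar G := fun e => hs1.1 (e ▸ C1)
  have hasupp : ∀ x, cs.a x ≠ 0 → x = oneChar G ∨ x = p ∨ x = r1 ∨ x = s1 := fun x hx => by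
    by_contra h
    have hsub : ({x, oneChar G, p, r1, s1} : Finset (IrrCharacter G)) ⊆ Finset.univ.filter fun y => cs.a y ≠ 0 := by
      intro y hy
      simp only [Finset.mem_insert, Finset.mem_singleton] at hy
      rw [Finset.mem_filter]
      refine ⟨Finset.mem_univ _, ?_⟩
      rcases hy with rfl | rfl | rfl | rfl | rfl
      · exact hx
      · omega
      · have := hp.1; omega
      · have := hr1.1; omega
      · have := hs1.1; omega
    have h5 := Finset.card_le_card hsub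
    push_neg at h
    rw [Finset.card_insert_of_notMem (by simp [h.1, h.2.1, h.2.2.1, h.2.2.2]),
      Finset.card_insert_of_notMem (by simp [Ne.symm o1, Ne.symm o3, Ne.symm o5]),
      Finset.card_insert_of_notMem (by simp [n1, n5]), Finset.card_pair n6] at h5
    omega
  have Xp : cs.X p = 5 * cs.B p := by rw [Cols.X, apv, hCp, hE0 (Or.inr (Or.inl hp.1))]; ring
  have Xq : cs.X q = 6 * cs.B q := by rw [Cols.X, aqv, hCq, hE0 (Or.inr (Or.inl hq.1))]; ring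
  have Xr1 : cs.X r1 = 2 * cs.B r1 := by rw [Cols.X, ar1, hr1.2, hE0 (Or.inr (Or.inl hr1.1))]; ring
  have Xr2 : cs.X r2 = 3 * cs.B r2 := by rw [Cols.X, ar2, hr2.2, hE0 (Or.inr (Or.inl hr2.1))]; ring
  have Xs1 : cs.X s1 = 2 * cs.C s1 := by rw [Cols.X, as1, hs1.2, hE0 (Or.inr (Or.inr hs1.1))]; ring
  have X1 : cs.X (oneChar G) = 1 := by rw [Cols.X, a1, B1, C1, E1]; ring
  have vmod : ∀ (x : IrrCharacter G) (c b : ℤ), cs.X x = c * b → (b = 1 ∨ b = -1) → 0 ≤ c → c < 8 →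
      b * (deg x : ℤ) % 8 = c := by
    intro x c b hX hb' hc0 hc8
    obtain ⟨n, hn⟩ := congr_eight cs hT x
    rw [hX] at hn
    rcases hb' with e | e <;> rw [e] at hn ⊢ <;> omega
  have pm := vmod p 5 _ Xp (hb hp.1) (by norm_num) (by norm_num)
  have qm := vmod q 6 _ Xq (hb hq.1) (by norm_num) (by norm_num)
  have rm := vmod r1 2 _ Xr1 (hb hr1.1) (by norm_num) (by norm_num)
  have sm := vmod s1 2 _ Xs1 hc1 (by norm_num) (by norm_num)
  obtain ⟨n, hn⟩ := congr_eight cs hT p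
  have hne := deg_ne cs p o1
  have pv : 13 ≤ cs.B p * (deg p : ℤ) ∨ cs.B p * (deg p : ℤ) ≤ -35 := by
    rw [Xp] at hn hne
    rcases hb hp.1 with e | e <;> rw [e] at hn hne ⊢ <;> omega
  -- the Galois conjugate of `s1` is `r1`
  have hσ : cs.σ s1 = r1 := by
    obtain ⟨hd1, ha1, -, hB1⟩ := cs.twist.2 s1
    have hBne : cs.B (cs.σ s1) ≠ 0 := by rw [hB1]; exact hs1.1
    have hane : cs.a (cs.σ s1) ≠ 0 := by rw [ha1, as1]; exact neg_ne_zero.2 hs1.1
    rcases hasupp _ hane with e | e | e | e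
    · exact absurd (e ▸ B1) hBne
    · exfalso
      have h1 : (deg p : ℤ) = deg s1 := by rw [← e, hd1]
      rcases hb hp.1 with u | u <;> rw [u] at pm <;> rcases hc1 with v | v <;> rw [v] at sm <;> omega
    · exact e
    · exact absurd ((congrArg cs.B e).trans hs1.2) hBne
  obtain ⟨hd1, -, -, hB1⟩ := cs.twist.2 s1
  rw [hσ] at hd1 hB1
  have hsx : cs.C s1 * (deg s1 : ℤ) = cs.B r1 * (deg r1 : ℤ) := by rw [hd1, hB1]
  have hdegB : cs.B p * deg p + cs.B q * deg q + cs.B r1 * deg r1 + cs.B r2 * deg r2 = 0 := by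
    have h := supp_four (K := ℤ) (fun x => (deg x : ℤ)) hBsupp hpq n1 n2 n3 n4 hr12
    simp only [Int.cast_id] at h
    rw [← h, degB]
  have hdega : 2 * (cs.B r1 * (deg r1 : ℤ)) = 1 - cs.B p * deg p := by
    have h := supp_four (K := ℤ) (fun x => (deg x : ℤ)) hasupp (Ne.symm o1) (Ne.symm o3) (Ne.symm o5) n1 n5 n6
    simp only [Int.cast_id, a1, deg_one, Nat.cast_one, mul_one, apv, ar1, as1, neg_mul, hsx] at h
    rw [dega] at h
    linarith
  have eA : (1 : ℚ) - 25 / ((cs.B p * deg p : ℤ) : ℚ) - 8 / ((cs.B r1 * deg r1 : ℤ) : ℚ) =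
      86400 / (Nat.card G : ℚ) := by
    have h := order_rat cs (u := cs.a) (c := 86400) (Or.inl ⟨rfl, rfl⟩)
    rw [supp_four (fun x => (cs.X x : ℚ) * (cs.X x : ℚ) / (deg x : ℚ)) hasupp (Ne.symm o1) (Ne.symm o3)
      (Ne.symm o5) n1 n5 n6, X1, Xp, Xr1, Xs1, a1, deg_one, apv, ar1, as1, Int.cast_neg, Int.cast_neg,
      Int.cast_neg, neg_mul, neg_mul, neg_mul, term_eq (hb hp.1), term_eq (hb hr1.1), term_eq hc1, hsx] at h
    push_cast at h ⊢
    linear_combination h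
  have eB : (25 : ℚ) / ((cs.B p * deg p : ℤ) : ℚ) + 36 / ((cs.B q * deg q : ℤ) : ℚ) +
      4 / ((cs.B r1 * deg r1 : ℤ) : ℚ) + 9 / ((cs.B r2 * deg r2 : ℤ) : ℚ) = 57600 / (Nat.card G : ℚ) := by
    have h := order_rat cs (u := cs.B) (c := 57600) (Or.inr ⟨rfl, rfl⟩)
    rw [supp_four (fun x => (cs.X x : ℚ) * (cs.X x : ℚ) / (deg x : ℚ)) hBsupp hpq n1 n2 n3 n4 hr12,
      Xp, Xq, Xr1, Xr2, term_eq (hb hp.1), term_eq (hb hq.1), term_eq (hb hr1.1), term_eq (hb hr2.1)] at h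
    push_cast at h ⊢
    linear_combination h
  obtain ⟨h120, h16⟩ := order_facts hT
  exact arith_second pm qm pv hdega hdegB (mul_ne_zero hr2.1 (by have := hw r2; omega)) h120 h16 Nat.card_pos
    (sq_lt o1 (hb hp.1)).1 (sq_lt o2 (hb hq.1)).1 eA eB

set_option maxHeartbeats 800000 in
theorem configuration (hT : IsTwoCentralInvolution d.t) : Nat.card G = 175560 ∨ Exceptional cs := by
  obtain ⟨⟨gaa, gBB, gCC, gEE⟩, ⟨gBC, gaB, gaC⟩, gaE, gBE, gCE⟩ := cs.gram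
  obtain ⟨dega, degB, degC, degE⟩ := cs.degree
  obtain ⟨a1, B1, C1, E1⟩ := cs.one
  have hw : ∀ x : IrrCharacter G, (0 : ℤ) < deg x := fun x => by exact_mod_cast deg_pos x
  obtain ⟨haU, haCard⟩ := unit_entries hw gaa (by norm_num) dega
  obtain ⟨hBU, hBcard⟩ := unit_entries hw gBB (by norm_num) degB
  obtain ⟨hCU, hCcard⟩ := unit_entries hw gCC (by norm_num) degC
  have hδ : ∀ x, cs.B x - cs.C x = 0 ∨ cs.B x - cs.C x = 1 ∨ cs.B x - cs.C x = -1 := by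
    refine (unit_entries hw ?_ (le_refl 4) ?_).1
    · simp only [sub_mul, mul_sub, Finset.sum_sub_distrib, mul_comm (cs.C _) (cs.B _)]
      rw [gBB, gBC, gCC]
      norm_num
    · simp only [sub_mul, Finset.sum_sub_distrib]
      rw [degB, degC]
      norm_num
  have hagree : ∀ x, cs.B x ≠ 0 → cs.C x ≠ 0 → cs.C x = cs.B x := fun x h1 h2 => by
    rcases hδ x with h | h | h <;> rcases hBU x with e | e | e <;> rcases hCU x with e' | e' | e' <;> omega
  set P2 := Finset.univ.filter fun x => cs.B x ≠ 0 ∧ cs.C x ≠ 0 with hP2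
  have hP2c : P2.card = 2 := by
    have : (P2.card : ℤ) = 2 := by
      rw [← gBC, hP2, Finset.card_filter, Nat.cast_sum]
      refine Finset.sum_congr rfl fun x _ => ?_
      rcases hBU x with e | e | e <;> rcases hCU x with e' | e' | e' <;> simp [e, e'] <;>
        have := hagree x (by omega) (by omega) <;> omega
    exact_mod_cast this
  obtain ⟨p, q, hpq, hPS⟩ := Finset.card_eq_two.1 hP2c
  have hsplit : ∀ (f g : IrrCharacter G → ℤ),
      (Finset.univ.filter fun x => f x ≠ 0 ∧ g x = 0).card +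
        (Finset.univ.filter fun x => f x ≠ 0 ∧ g x ≠ 0).card = (Finset.univ.filter fun x => f x ≠ 0).card := by
    intro f g
    rw [← Finset.card_filter_add_card_filter_not (s := Finset.univ.filter fun x => f x ≠ 0) (fun x => g x = 0),
      Finset.filter_filter, Finset.filter_filter]
  have hBc : (Finset.univ.filter fun x => cs.B x ≠ 0).card = 4 := by exact_mod_cast hBcard
  have hCc : (Finset.univ.filter fun x => cs.C x ≠ 0).card = 4 := by exact_mod_cast hCcard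
  have hRB : (Finset.univ.filter fun x => cs.B x ≠ 0 ∧ cs.C x = 0).card = 2 := by
    have := hsplit cs.B cs.C
    rw [← hP2] at this
    omega
  have hRC : (Finset.univ.filter fun x => cs.C x ≠ 0 ∧ cs.B x = 0).card = 2 := by
    have := hsplit cs.C cs.B
    rw [show (Finset.univ.filter fun x => cs.C x ≠ 0 ∧ cs.B x ≠ 0) = P2 from
      Finset.filter_congr fun x _ => and_comm] at this
    omega
  obtain ⟨r1, r2, hr12, hRBS⟩ := Finset.card_eq_two.1 hRB
  obtain ⟨s1, s2, hs12, hRCS⟩ := Finset.card_eq_two.1 hRC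
  have mP : ∀ x, (cs.B x ≠ 0 ∧ cs.C x ≠ 0) ↔ (x = p ∨ x = q) := fun x => by
    have h := Finset.ext_iff.1 hPS x
    simpa [hP2] using h
  have mB : ∀ x, (cs.B x ≠ 0 ∧ cs.C x = 0) ↔ (x = r1 ∨ x = r2) := fun x => by
    simpa using Finset.ext_iff.1 hRBS x
  have mC : ∀ x, (cs.C x ≠ 0 ∧ cs.B x = 0) ↔ (x = s1 ∨ x = s2) := fun x => by
    simpa using Finset.ext_iff.1 hRCS x
  have hp := (mP p).2 (Or.inl rfl)
  have hq := (mP q).2 (Or.inr rfl)
  have hr1 := (mB r1).2 (Or.inl rfl)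
  have hr2 := (mB r2).2 (Or.inr rfl)
  have hs1 := (mC s1).2 (Or.inl rfl)
  have hs2 := (mC s2).2 (Or.inr rfl)
  have hBsupp : ∀ x, cs.B x ≠ 0 → x = p ∨ x = q ∨ x = r1 ∨ x = r2 := fun x hx => by
    by_cases hc : cs.C x = 0
    · rcases (mB x).1 ⟨hx, hc⟩ with h | h <;> simp [h]
    · rcases (mP x).1 ⟨hx, hc⟩ with h | h <;> simp [h]
  have hCsupp : ∀ x, cs.C x ≠ 0 → x = p ∨ x = q ∨ x = s1 ∨ x = s2 := fun x hx => by
    by_cases hb : cs.B x = 0
    · rcases (mC x).1 ⟨hx, hb⟩ with h | h <;> simp [h]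
    · rcases (mP x).1 ⟨hb, hx⟩ with h | h <;> simp [h]
  have n1 : p ≠ r1 := fun e => hp.2 (e ▸ hr1.2)
  have n2 : p ≠ r2 := fun e => hp.2 (e ▸ hr2.2)
  have n3 : q ≠ r1 := fun e => hq.2 (e ▸ hr1.2)
  have n4 : q ≠ r2 := fun e => hq.2 (e ▸ hr2.2)
  have n5 : p ≠ s1 := fun e => hp.1 (e ▸ hs1.2)
  have n6 : p ≠ s2 := fun e => hp.1 (e ▸ hs2.2)
  have n7 : q ≠ s1 := fun e => hq.1 (e ▸ hs1.2)
  have n8 : q ≠ s2 := fun e => hq.1 (e ▸ hs2.2)
  have n9 : ∀ r s : IrrCharacter G, cs.B r ≠ 0 → cs.B s = 0 → r ≠ s := fun r s h h' e => h (e ▸ h')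
  have sB : cs.B p * cs.a p + cs.B q * cs.a q + cs.B r1 * cs.a r1 + cs.B r2 * cs.a r2 = -2 := by
    have h := supp_four (K := ℤ) cs.a hBsupp hpq n1 n2 n3 n4 hr12
    simp only [Int.cast_id] at h
    rw [← h, ← gaB]
    exact Finset.sum_congr rfl fun x _ => mul_comm _ _
  have sC : cs.B p * cs.a p + cs.B q * cs.a q + cs.C s1 * cs.a s1 + cs.C s2 * cs.a s2 = -2 := by
    have h := supp_four (K := ℤ) cs.a hCsupp hpq n5 n6 n7 n8 hs12
    simp only [Int.cast_id, hagree p hp.1 hp.2, hagree q hq.1 hq.2] at h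
    rw [← h, ← gaC]
    exact Finset.sum_congr rfl fun x _ => mul_comm _ _
  have hone : ∀ x, cs.B x ≠ 0 ∨ cs.C x ≠ 0 → x ≠ oneChar G := fun x hx e => by
    subst e
    rcases hx with h | h
    exacts [h B1, h C1]
  have o1 := hone p (Or.inl hp.1)
  have o2 := hone q (Or.inl hq.1)
  have o3 := hone r1 (Or.inl hr1.1)
  have o4 := hone r2 (Or.inl hr2.1)
  have o5 := hone s1 (Or.inr hs1.1)
  have o6 := hone s2 (Or.inr hs2.1)
  have sA : cs.a p * cs.a p + cs.a q * cs.a q + cs.a r1 * cs.a r1 + cs.a r2 * cs.a r2 + cs.a s1 * cs.a s1 +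
      cs.a s2 * cs.a s2 ≤ 3 := by
    have h := Finset.sum_le_sum_of_subset_of_nonneg (f := fun x => cs.a x * cs.a x)
      (Finset.subset_univ ({oneChar G, p, q, r1, r2, s1, s2} : Finset (IrrCharacter G)))
      fun x _ _ => mul_self_nonneg _
    rw [gaa, Finset.sum_insert (by simp [Ne.symm o1, Ne.symm o2, Ne.symm o3, Ne.symm o4, Ne.symm o5, Ne.symm o6]),
      Finset.sum_insert (by simp [hpq, n1, n2, n5, n6]), Finset.sum_insert (by simp [n3, n4, n7, n8]),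
      Finset.sum_insert (by simp [hr12, n9 r1 s1 hr1.1 hs1.2, n9 r1 s2 hr1.1 hs2.2]),
      Finset.sum_insert (by simp [n9 r2 s1 hr2.1 hs1.2, n9 r2 s2 hr2.1 hs2.2]), Finset.sum_pair hs12, a1] at h
    omega
  have hmem : ∀ (b x : ℤ), (b = 0 ∨ b = 1 ∨ b = -1) → (x = 0 ∨ x = 1 ∨ x = -1) → b * x ∈ ([-1, 0, 1] : List ℤ) := by
    intro b x hb hx
    rcases hb with rfl | rfl | rfl <;> rcases hx with rfl | rfl | rfl <;> simp
  have hsq : ∀ (b x : ℤ), (b = 1 ∨ b = -1) → b * x * (b * x) = x * x := by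
    intro b x hb
    rcases hb with rfl | rfl <;> ring
  have hk := sign_key _ (hmem _ _ (hBU p) (haU p)) _ (hmem _ _ (hBU q) (haU q)) _ (hmem _ _ (hBU r1) (haU r1))
    _ (hmem _ _ (hBU r2) (haU r2)) _ (hmem _ _ (hCU s1) (haU s1)) _ (hmem _ _ (hCU s2) (haU s2)) sB sC (by
      rw [hsq _ _ ((hBU p).resolve_left hp.1), hsq _ _ ((hBU q).resolve_left hq.1),
        hsq _ _ ((hBU r1).resolve_left hr1.1), hsq _ _ ((hBU r2).resolve_left hr2.1),
        hsq _ _ ((hCU s1).resolve_left hs1.1), hsq _ _ ((hCU s2).resolve_left hs2.1)]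
      exact sA)
  rcases hk with ⟨hap, haq, har1, har2, has1, has2⟩ | ⟨hpqc, hrc, hsc⟩
  · exact case_first cs hT haCard hBsupp hCsupp hpq n1 n2 n3 n4 hr12 hp hq hr1 hr2 hs1 hs2 (hagree p hp.1 hp.2)
      (hagree q hq.1 hq.2) hap haq har1 har2 has1 has2
  · exfalso
    have hsw : ∀ p q r1 r2 s1 s2 : IrrCharacter G,
        (∀ x, cs.B x ≠ 0 → x = p ∨ x = q ∨ x = r1 ∨ x = r2) →
        p ≠ q → r1 ≠ r2 → cs.B p ≠ 0 ∧ cs.C p ≠ 0 → cs.B q ≠ 0 ∧ cs.C q ≠ 0 →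
        cs.B r1 ≠ 0 ∧ cs.C r1 = 0 → cs.B r2 ≠ 0 ∧ cs.C r2 = 0 → cs.C s1 ≠ 0 ∧ cs.B s1 = 0 →
        cs.B p * cs.a p = -1 → cs.B q * cs.a q = 0 → cs.B r1 * cs.a r1 = -1 → cs.B r2 * cs.a r2 = 0 →
        cs.C s1 * cs.a s1 = -1 → False :=
      fun p q r1 r2 s1 _ h1 h2 h3 h4 h5 h6 h7 h8 e1 e2 e3 e4 e5 =>
        case_second cs hT haCard h1 h2 h3 h4 h5 h6 h7 h8 (hagree p h4.1 h4.2) (hagree q h5.1 h5.2) e1 e2 e3 e4 e5
    rcases hpqc with ⟨e1, e2⟩ | ⟨e2, e1⟩ <;> rcases hrc with ⟨e3, e4⟩ | ⟨e4, e3⟩ <;>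
      rcases hsc with ⟨e5, -⟩ | ⟨-, e5⟩
    · exact hsw p q r1 r2 s1 s2 hBsupp hpq hr12 hp hq hr1 hr2 hs1 e1 e2 e3 e4 e5
    · exact hsw p q r1 r2 s2 s1 hBsupp hpq hr12 hp hq hr1 hr2 hs2 e1 e2 e3 e4 e5
    · exact hsw p q r2 r1 s1 s2 (fun x hx => by have := hBsupp x hx; tauto) hpq hr12.symm hp hq hr2 hr1 hs1 e1 e2 e3 e4 e5
    · exact hsw p q r2 r1 s2 s1 (fun x hx => by have := hBsupp x hx; tauto) hpq hr12.symm hp hq hr2 hr1 hs2 e1 e2 e3 e4 e5
    · exact hsw q p r1 r2 s1 s2 (fun x hx => by have := hBsupp x hx; tauto) hpq.symm hr12 hq hp hr1 hr2 hs1 e1 e2 e3 e4 e5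
    · exact hsw q p r1 r2 s2 s1 (fun x hx => by have := hBsupp x hx; tauto) hpq.symm hr12 hq hp hr1 hr2 hs2 e1 e2 e3 e4 e5
    · exact hsw q p r2 r1 s1 s2 (fun x hx => by have := hBsupp x hx; tauto) hpq.symm hr12.symm hq hp hr2 hr1 hs1 e1 e2 e3 e4 e5
    · exact hsw q p r2 r1 s2 s1 (fun x hx => by have := hBsupp x hx; tauto) hpq.symm hr12.symm hq hp hr2 hr1 hs2 e1 e2 e3 e4 e5

end Cfsg.Agent.J1Order91
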