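import Cfsg.Agent.Lib.J1Columns91
import Cfsg.Agent.Lib.J1Arith91

/-!
The degrees in the section of the involution: the two possible configurations and their arithmetic.
-/

set_option autoImplicit false
set_option linter.style.haveILetI false
set_option linter.unusedSectionVars false

namespace Cfsg.Agent.J1Order91

open Cfsg Cfsg.Agent.BlockCount91 Cfsg.Agent.BlockPrincipal81

attribute [local instance] Classical.propDecidable

theorem mem_L5 {p : ℤ} (hp : p % 8 = 5) (hv : 13 ≤ p ∨ p ≤ -35) (hb : p.natAbs < 900) : p ∈ L5 := by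
  simp only [L5, List.mem_filter, List.mem_map, List.mem_range, decide_eq_true_eq]
  exact ⟨⟨((p + 899) / 8).toNat, by omega, by omega⟩, hv⟩

theorem mem_L3 {p : ℤ} (hp : p % 8 = 3) (hb : p.natAbs < 900) : p ∈ L3 := by
  simp only [L3, List.mem_map, List.mem_range]
  exact ⟨((p + 901) / 8).toNat, by omega, by omega⟩

theorem mem_L6 {p : ℤ} (hp : p % 8 = 6) (hb : p.natAbs < 898) : p ∈ L6 := by
  simp only [L6, List.mem_map, List.mem_range]
  exact ⟨((p + 898) / 8).toNat, by omega, by omega⟩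

theorem abs_div_le {c : ℚ} {x : ℤ} {B : ℕ} (hc : 0 ≤ c) (hB : 0 < B) (hx : B ≤ x.natAbs) :
    |c / (x : ℚ)| ≤ c / B := by
  have h : (B : ℚ) ≤ |(x : ℚ)| := by
    rw [← Int.cast_abs, ← Int.natCast_natAbs, Int.cast_natCast]
    exact_mod_cast hx
  rw [abs_div, abs_of_nonneg hc]
  exact div_le_div_of_nonneg_left hc (by exact_mod_cast hB) h

theorem arith_first' {p q z x y : ℤ} {g : ℕ} (hp : p % 8 = 5) (hq : q % 8 = 5) (hx : x % 8 = 3)
    (hy : y % 8 = 3) (hpv : 13 ≤ p ∨ p ≤ -35) (hqv : 13 ≤ q ∨ q ≤ -35) (hz : z = p + q - 1) (hz1 : z ≠ 1)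
    (hsum : p + q + x + y = 0) (h120 : 120 ∣ g) (h16 : ¬ 16 ∣ g) (hg : 0 < g)
    (hpg : p ∣ (g : ℤ)) (hqg : q ∣ (g : ℤ)) (hzg : z ∣ (g : ℤ)) (hxg : x ∣ (g : ℤ)) (hyg : y ∣ (g : ℤ))
    (hq2 : q * q < g) (hx2 : x * x < g)
    (eA : (1 : ℚ) - 25 / p - 25 / q + 1 / z = 86400 / g)
    (eB : (25 : ℚ) / p + 25 / q + 9 / x + 9 / y = 57600 / g) (hle : p.natAbs ≤ q.natAbs) :
    g = 175560 ∨ (g = 189000 ∧ (7 : ℤ) ∣ p ∧ (7 : ℤ) ∣ q ∧ (7 : ℤ) ∣ x ∧ (7 : ℤ) ∣ y ∧ z = -15) := by
  have hp0 : (p : ℚ) ≠ 0 := by exact_mod_cast (by omega : p ≠ 0)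
  have hq0 : (q : ℚ) ≠ 0 := by exact_mod_cast (by omega : q ≠ 0)
  have hz0 : (z : ℚ) ≠ 0 := by exact_mod_cast (by omega : z ≠ 0)
  have hx0 : (x : ℚ) ≠ 0 := by exact_mod_cast (by omega : x ≠ 0)
  have hy0 : (y : ℚ) ≠ 0 := by exact_mod_cast (by omega : y ≠ 0)
  have hg0 : (g : ℚ) ≠ 0 := by exact_mod_cast hg.ne'
  -- bound
  have hqb : q.natAbs < 900 := by
    by_contra hcon
    have hqq : (810000 : ℤ) ≤ q * q := by
      rw [← Int.natAbs_mul_self' q]
      have := Nat.mul_le_mul (Nat.le_of_not_lt hcon) (Nat.le_of_not_lt hcon)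
      omega
    have hsmall : (86400 : ℚ) / g < 8 / 75 := by
      rw [div_lt_div_iff₀ (by exact_mod_cast hg) (by norm_num)]
      have : (810000 : ℚ) < g := by exact_mod_cast (show (810000 : ℤ) < g by omega)
      linarith
    have hpos : (0 : ℚ) < 86400 / g := div_pos (by norm_num) (by exact_mod_cast hg)
    obtain ⟨h1, h1'⟩ := abs_le.1 (abs_div_le (c := 25) (x := q) (B := 900) (by norm_num) (by norm_num) (Nat.le_of_not_lt hcon))
    rcases Nat.lt_or_ge p.natAbs 51 with hs | hl
    · obtain ⟨h2, h2'⟩ := abs_le.1 (abs_div_le (c := 1) (x := z) (B := 848) (by norm_num) (by norm_num) (by omega))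
      rcases hpv with hpp | hpn
      · rcases le_or_gt p 21 with h21 | h21
        · have : (25 : ℚ) / 21 ≤ 25 / p :=
            div_le_div_of_nonneg_left (by norm_num) (by exact_mod_cast (by omega : 0 < p)) (by exact_mod_cast h21)
          norm_num at h1 h1' h2 h2' eA
          linarith
        · have : (25 : ℚ) / p ≤ 25 / 29 :=
            div_le_div_of_nonneg_left (by norm_num) (by norm_num) (by exact_mod_cast (by omega : (29 : ℤ) ≤ p))
          norm_num at h1 h1' h2 h2' eA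
          linarith
      · have : (25 : ℚ) / p ≤ 0 :=
          div_nonpos_of_nonneg_of_nonpos (by norm_num) (by exact_mod_cast (by omega : p ≤ 0))
        norm_num at h1 h1' h2 h2' eA
        linarith
    · obtain ⟨h2, h2'⟩ := abs_le.1 (abs_div_le (c := 1) (x := z) (B := 7) (by norm_num) (by norm_num) (by omega))
      obtain ⟨h3, h3'⟩ := abs_le.1 (abs_div_le (c := 25) (x := p) (B := 51) (by norm_num) (by norm_num) hl)
      norm_num at h1 h1' h2 h2' h3 h3' eA
      linarith
  have eA' : (g : ℤ) * (p * q * z + p * q - 25 * (p + q) * z) = 86400 * (p * q * z) := by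
    have : (((g : ℤ) * (p * q * z + p * q - 25 * (p + q) * z) : ℤ) : ℚ) = ((86400 * (p * q * z) : ℤ) : ℚ) := by
      push_cast
      field_simp at eA
      linear_combination eA
    exact_mod_cast this
  subst hz
  set num := p * q * (p + q - 1) + p * q - 25 * (p + q) * (p + q - 1) with hnum
  have hnum0 : num ≠ 0 := fun h => by
    rw [h, mul_zero] at eA'
    have : p * q * (p + q - 1) ≠ 0 := mul_ne_zero (mul_ne_zero (by omega) (by omega)) (by omega)
    omega
  have hgA : gA p q = g := by rw [gA, ← eA', ← hnum, Int.mul_ediv_cancel _ hnum0]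
  have h1 := stage_one p (mem_L5 hp hpv (by omega)) q (mem_L5 hq hqv hqb) hle
    (by rw [← eA', ← hnum, Int.mul_emod_left])
  rw [hgA] at h1
  have h6 := h1 (by exact_mod_cast hg) (by omega) (by omega) (Int.emod_eq_zero_of_dvd hpg)
    (Int.emod_eq_zero_of_dvd hqg) (Int.emod_eq_zero_of_dvd hzg)
  have hxb : x.natAbs < 900 := by
    by_contra hcon
    have hxx : (810000 : ℤ) ≤ x * x := by
      rw [← Int.natAbs_mul_self' x]
      have := Nat.mul_le_mul (Nat.le_of_not_lt hcon) (Nat.le_of_not_lt hcon)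
      omega
    simp only [six, List.mem_cons, List.not_mem_nil, or_false, Prod.mk.injEq] at h6
    omega
  have hy' : y = -p - q - x := by omega
  subst hy'
  have h2 := stage_two _ h6 x (mem_L3 hx hxb) hx2 (Int.emod_eq_zero_of_dvd hxg) (by simp only; omega)
    (Int.emod_eq_zero_of_dvd hyg) (by
      have : (((g : ℤ) * (25 * (p + q) * x * (-p - q - x) + 9 * (-p - q) * p * q) : ℤ) : ℚ) =
          ((57600 * p * q * x * (-p - q - x) : ℤ) : ℚ) := by
        push_cast at eB hy0 ⊢
        field_simp at eB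
        linear_combination eB
      exact_mod_cast this)
  rcases h2 with h | ⟨h, rfl, rfl, h7x, h7y⟩
  · exact Or.inl (by simp only at h; omega)
  · exact Or.inr ⟨by simp only at h; omega, by norm_num, by norm_num, Int.dvd_of_emod_eq_zero h7x,
      Int.dvd_of_emod_eq_zero h7y, by norm_num⟩

theorem arith_second {p q x y : ℤ} {g : ℕ} (hp : p % 8 = 5) (hq : q % 8 = 6) (hpv : 13 ≤ p ∨ p ≤ -35)
    (hx : 2 * x = 1 - p) (hsum : p + q + x + y = 0) (hy : y ≠ 0) (h120 : 120 ∣ g) (h16 : ¬ 16 ∣ g) (hg : 0 < g)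
    (hp2 : p * p < g) (hq2 : q * q < g)
    (eA : (1 : ℚ) - 25 / p - 8 / x = 86400 / g)
    (eB : (25 : ℚ) / p + 36 / q + 4 / x + 9 / y = 57600 / g) : False := by
  have hx0 : x ≠ 0 := by omega
  have hp0 : p ≠ 0 := by omega
  have hq0 : q ≠ 0 := by omega
  have hp0' : (p : ℚ) ≠ 0 := by exact_mod_cast hp0
  have hx0' : (x : ℚ) ≠ 0 := by exact_mod_cast hx0
  have hq0' : (q : ℚ) ≠ 0 := by exact_mod_cast hq0
  have hy0' : (y : ℚ) ≠ 0 := by exact_mod_cast hy
  have hg0 : (g : ℚ) ≠ 0 := by exact_mod_cast hg.ne'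
  have eA' : (g : ℤ) * (p * x - 25 * x - 8 * p) = 86400 * (p * x) := by
    have : (((g : ℤ) * (p * x - 25 * x - 8 * p) : ℤ) : ℚ) = ((86400 * (p * x) : ℤ) : ℚ) := by
      push_cast
      field_simp at eA
      linear_combination eA
    exact_mod_cast this
  have hgb : (g : ℤ) ≤ 216000 := by
    have hpp : 0 ≤ 6 * (p * p) - 96 * p + 250 := by
      rcases hpv with h | h
      · have : (0 : ℤ) ≤ (p - 13) * (6 * p - 18) := mul_nonneg (by omega) (by omega)
        nlinarith
      · nlinarith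
    -- `5 (p x - 25 x - 8 p)` against `2 p x`, both of the sign of `p x`
    have hneg : p * x < 0 := by
      rcases hpv with h | h
      · exact mul_neg_of_pos_of_neg (by omega) (by omega)
      · exact mul_neg_of_neg_of_pos (by omega) (by omega)
    have hkey : 5 * (p * x - 25 * x - 8 * p) ≤ 2 * (p * x) := by
      nlinarith
    by_contra hcon
    nlinarith
  have hb : ∀ w : ℤ, w * w < g → w.natAbs ≤ 465 := fun w hw => by
    by_contra hcon
    have := Nat.mul_le_mul (Nat.lt_of_not_le hcon : 465 + 1 ≤ w.natAbs) (Nat.lt_of_not_le hcon : 465 + 1 ≤ w.natAbs)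
    have e := Int.natAbs_mul_self' w
    omega
  have hxe : (1 - p) / 2 = x := by omega
  have hden : p * x - 25 * x - 8 * p ≠ 0 := fun h => by
    rw [h, mul_zero] at eA'
    have := mul_ne_zero hp0 hx0
    omega
  have hgB : gB p = g := by rw [gB, hxe, ← eA', Int.mul_ediv_cancel _ hden]
  have hb1 := hb p hp2
  have hb2 := hb q hq2
  have h := stage_b p (mem_L5 hp hpv (by omega)) (by omega) (by rw [hxe, ← eA', Int.mul_emod_left])
  rw [hgB] at h
  refine h (by exact_mod_cast hg) (by omega) (by omega) q (mem_L6 hq (by omega)) hq2 (by omega) ?_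
  rw [hxe, show -p - q - x = y by omega]
  have : (((g : ℤ) * (25 * q * x * y + 36 * p * x * y + 4 * p * q * y + 9 * p * q * x) : ℤ) : ℚ) =
      ((57600 * p * q * x * y : ℤ) : ℚ) := by
    push_cast
    field_simp at eB
    linear_combination eB
  exact_mod_cast this

end Cfsg.Agent.J1Order91
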