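import Mathlib
import Cfsg.Agent.Lib.J1Basic

/-!
Consequences of the J1 certificate: witnesses of the element orders, simplicity.
-/

set_option autoImplicit false

namespace Cfsg.Agent.J1Facts

open Cfsg.Agent.J1Code Cfsg.Agent.J1Data Cfsg.Agent.J1Cert Cfsg.Agent.J1Basic

attribute [local irreducible] getT gt allB M encM oneC xC yC wordC powC sC repC uC

/-- exact order check on a code -/
noncomputable def ordChk (G o : ℕ) : Bool :=
  Nat.beq (powC G o) oneC && allB o (fun m => Nat.beq m 0 || !(Nat.beq (powC G m) oneC))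

theorem orderOf_of_ordChk (g : Cfsg.Spor.J1) (o : ℕ) (ho : 0 < o)
    (h : ordChk (code (g : GL (Fin 7) (ZMod 11))) o = true) : orderOf g = o := by
  rw [ordChk, Bool.and_eq_true] at h
  rw [orderOf_eq_iff ho]
  refine ⟨eq_of_code ?_, fun m hm hm0 hc => ?_⟩
  · rw [Subgroup.coe_pow, code_pow, Nat.eq_of_beq_eq_true h.1, code_one']
  · have h2 := allB_spec h.2 m hm
    rw [Bool.or_eq_true, Bool.not_eq_true'] at h2
    rcases h2 with h2 | h2
    · exact absurd (Nat.eq_of_beq_eq_true h2) (by omega)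
    · rw [show powC (code (g : GL (Fin 7) (ZMod 11))) m = oneC by
        rw [← code_pow, ← Subgroup.coe_pow, hc, code_one'], Nat.beq_refl] at h2
      exact absurd h2 (by decide)

/-- all witnesses are exact -/
noncomputable def witChk : Bool :=
  wit.all (fun w => Nat.blt w.2.2 120 && Nat.blt (gt repsT w.2.1) 1463 &&
    ordChk (M (sC w.2.2) (repC (gt repsT w.2.1))) w.1)

set_option maxRecDepth 100000 in
theorem hwit : witChk = true ∧ wit.map (·.1) = [6, 7, 10, 11, 15, 19] := by
  constructor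
  · decide +kernel
  · rfl

theorem exists_orderOf_aux {o : ℕ} (ho : o ∈ [6, 7, 10, 11, 15, 19]) : ∃ g : Cfsg.Spor.J1, orderOf g = o := by
  have hpos : 0 < o := by
    simp only [List.mem_cons, List.not_mem_nil, or_false] at ho
    omega
  rw [← hwit.2, List.mem_map] at ho
  obtain ⟨w, hw, rfl⟩ := ho
  have h := List.all_eq_true.1 hwit.1 w hw
  rw [Bool.and_eq_true, Bool.and_eq_true] at h
  refine ⟨sEl ⟨_, blt_lt h.1.1⟩ * rEl ⟨_, blt_lt h.1.2⟩, orderOf_of_ordChk _ _ hpos ?_⟩
  rw [code_mul', code_sEl, code_rEl]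
  exact h.2

/-- The element orders of J1 are exactly 1, 2, 3, 5, 6, 7, 10, 11, 15, 19. -/
theorem range_orderOf : Set.range (orderOf : Cfsg.Spor.J1 → ℕ) = orders := by
  ext m
  constructor
  · rintro ⟨g, rfl⟩; exact orderOf_mem g
  intro hm
  obtain ⟨g6, h6⟩ := exists_orderOf_aux (o := 6) (by simp)
  obtain ⟨g15, h15⟩ := exists_orderOf_aux (o := 15) (by simp)
  simp only [orders, Set.mem_insert_iff, Set.mem_singleton_iff] at hm
  rcases hm with rfl | rfl | rfl | rfl | rfl | rfl | rfl | rfl | rfl | rfl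
  · exact ⟨1, orderOf_one⟩
  · exact ⟨g6 ^ 3, by rw [orderOf_pow, h6]; rfl⟩
  · exact ⟨g6 ^ 2, by rw [orderOf_pow, h6]; rfl⟩
  · exact ⟨g15 ^ 3, by rw [orderOf_pow, h15]; rfl⟩
  all_goals exact exists_orderOf_aux (by simp)

theorem gen_pairs : M (uC 51) (uC 516) = xC ∧ M (uC 7) (uC 51) = yC := by
  have h := hWit
  rw [chkW, Bool.and_eq_true, Bool.and_eq_true] at h
  exact ⟨Nat.eq_of_beq_eq_true h.1.2, Nat.eq_of_beq_eq_true h.2⟩

/-- A normal subgroup containing an involution is everything. -/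
theorem eq_top_of_involution (N : Subgroup Cfsg.Spor.J1) (hN : N.Normal) (g : Cfsg.Spor.J1)
    (hg : orderOf g = 2) (hgN : g ∈ N) : N = ⊤ := by
  obtain ⟨w, hw⟩ := isConj_iff.1 (involution_conj g hg)
  have ht : t ∈ N := by
    have := hN.conj_mem g hgN w⁻¹
    rw [← hw] at this
    simpa [mul_assoc] using this
  have hu : ∀ c, uEl c ∈ N := fun c => by
    have := hN.conj_mem t ht (rEl c)⁻¹
    simpa [uEl] using this
  have hx : (⟨Cfsg.Spor.jankoX, gen_mem false⟩ : Cfsg.Spor.J1) ∈ N := by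
    have e : uEl ⟨51, by norm_num⟩ * uEl ⟨516, by norm_num⟩ =
        (⟨Cfsg.Spor.jankoX, gen_mem false⟩ : Cfsg.Spor.J1) := by
      apply eq_of_code
      rw [code_mul', code_uEl, code_uEl]
      exact gen_pairs.1.trans code_x.symm
    rw [← e]; exact mul_mem (hu _) (hu _)
  have hy : (⟨Cfsg.Spor.jankoY, gen_mem true⟩ : Cfsg.Spor.J1) ∈ N := by
    have e : uEl ⟨7, by norm_num⟩ * uEl ⟨51, by norm_num⟩ =
        (⟨Cfsg.Spor.jankoY, gen_mem true⟩ : Cfsg.Spor.J1) := by
      apply eq_of_code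
      rw [code_mul', code_uEl, code_uEl]
      exact gen_pairs.2.trans code_y.symm
    rw [← e]; exact mul_mem (hu _) (hu _)
  rw [Subgroup.eq_top_iff']
  rintro ⟨a, ha⟩
  induction ha using Subgroup.closure_induction with
  | mem x hx' =>
    rcases hx' with rfl | rfl
    · exact hx
    · exact hy
  | one => exact N.one_mem
  | mul x y hx' hy' ihx ihy => exact N.mul_mem ihx ihy
  | inv x hx' ihx => exact N.inv_mem ihx

/-- J1 is simple. -/
theorem isSimple : IsSimpleGroup Cfsg.Spor.J1 := by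
  have hcard := card_J1
  have : Finite Cfsg.Spor.J1 := inferInstance
  refine { exists_pair_ne := ?_, eq_bot_or_eq_top_of_normal := ?_ }
  · refine ⟨uEl 0, uEl 1, fun h => ?_⟩
    have := uEl_injective h
    simp [Fin.ext_iff] at this
  intro N hN
  by_contra hcon
  push Not at hcon
  obtain ⟨hbot, htop⟩ := hcon
  have hodd : ¬ 2 ∣ Nat.card N := by
    intro h2
    obtain ⟨g, hg⟩ := exists_prime_orderOf_dvd_card' 2 h2
    exact htop (eq_top_of_involution N hN g (by rw [Subgroup.orderOf_coe]; exact hg) g.2)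
  have hdvd : Nat.card N ∣ 175560 := hcard ▸ N.card_subgroup_dvd_card
  -- Frattini: a prime power coprime to `#N` divides the normalizer of a Sylow subgroup of N
  have hfrat : ∀ p : ℕ, p.Prime → p ∣ Nat.card N → ∀ q k : ℕ, q.Prime → ¬ q ∣ Nat.card N → q ^ k ∣ 175560 →
      ∃ (P : Subgroup Cfsg.Spor.J1) (Q : Subgroup Cfsg.Spor.J1), Nat.card P = p ∧ Nat.card Q = q ^ k ∧
        ∀ x ∈ Q, ∀ z ∈ P, x * z * x⁻¹ ∈ P := by
    intro p hp hpN q k hq hqN hqk
    have : Fact p.Prime := ⟨hp⟩
    have : Fact q.Prime := ⟨hq⟩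
    obtain ⟨P⟩ : Nonempty (Sylow p N) := inferInstance
    have hPc : Nat.card (P : Subgroup N) = p := by
      rw [P.card_eq_multiplicity]
      have hN0 : Nat.card N ≠ 0 := Nat.card_pos.ne'
      have h1 : 1 ≤ (Nat.card N).factorization p := hp.factorization_pos_of_dvd hN0 hpN
      have h2 : (Nat.card N).factorization p ≤ 1 := by
        by_contra h3
        push Not at h3
        have h4 : p ^ 2 ∣ Nat.card N := (pow_dvd_pow p h3).trans (Nat.ordProj_dvd _ _)
        have hp2 : p ≠ 2 := fun e => hodd (e ▸ hpN)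
        have h5 : p ^ 2 ∣ 8 * 21945 := h4.trans hdvd
        have h6 : p ^ 2 ∣ 21945 :=
          (Nat.Coprime.pow_left 2 (show Nat.Coprime p 8 from
            (Nat.Coprime.pow_right 3 ((Nat.coprime_primes hp Nat.prime_two).2 hp2)))).dvd_of_dvd_mul_left h5
        have h7 : Squarefree (21945 : ℕ) := by decide +kernel
        exact hp.one_lt.ne' (Nat.isUnit_iff.1 (h7 p (by rwa [← pow_two])))
      rw [show (Nat.card N).factorization p = 1 by omega, pow_one]
    set P' : Subgroup Cfsg.Spor.J1 := (P : Subgroup N).map N.subtype with hP'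
    have hfr := Sylow.normalizer_sup_eq_top P
    set M' := Subgroup.normalizer ((P' : Subgroup Cfsg.Spor.J1) : Set Cfsg.Spor.J1) with hM'
    have hdiv : 175560 ∣ Nat.card M' * Nat.card N := by
      have h1 : N.relIndex (M' ⊔ N) = N.relIndex M' := Subgroup.relIndex_sup_right M' N
      rw [show M' ⊔ N = ⊤ from hfr, Subgroup.relIndex_top_right] at h1
      rw [← hcard, ← N.card_mul_index, h1, mul_comm (Nat.card M')]
      exact Nat.mul_dvd_mul_left _ (Subgroup.relIndex_dvd_card _ _)
    have hqM : q ^ k ∣ Nat.card M' :=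
      (Nat.Coprime.pow_left k ((Nat.Prime.coprime_iff_not_dvd hq).2 hqN)).dvd_of_dvd_mul_right (hqk.trans hdiv)
    obtain ⟨Q, hQ⟩ := Sylow.exists_subgroup_card_pow_prime q hqM
    refine ⟨P', Q.map M'.subtype, ?_, ?_, ?_⟩
    · rw [hP', Subgroup.card_map_of_injective N.subtype_injective, hPc]
    · rw [Subgroup.card_map_of_injective M'.subtype_injective, hQ]
    · intro x hx z hz
      obtain ⟨⟨y, hy⟩, _, rfl⟩ := hx
      exact (Subgroup.mem_normalizer_iff.1 hy z).1 hz
  have hno : ∀ (p r : ℕ), p.Prime → r.Prime → p ≠ r → p * r ∉ orders →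
      ∀ z x : Cfsg.Spor.J1, orderOf z = p → orderOf x = r → x * z ≠ z * x := by
    intro p r hp hr hpr hnot z x hz hx hc
    apply hnot
    have : orderOf (z * x) = p * r := by
      rw [(show Commute z x from hc.symm).orderOf_mul_eq_mul_orderOf_of_coprime (by rw [hz, hx]; exact (Nat.coprime_primes hp hr).2 hpr), hz, hx]
    exact this ▸ orderOf_mem _
  have hsmall : ∀ p : ℕ, p.Prime → p ∣ Nat.card N → p = 3 ∨ p = 5 := by
    intro p hp hpN
    have : Fact p.Prime := ⟨hp⟩
    have hp2 : p ≠ 2 := fun e => hodd (e ▸ hpN)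
    obtain ⟨P, Q, hP, hQ, hnorm⟩ := hfrat p hp hpN 2 3 Nat.prime_two hodd (by norm_num)
    by_contra hp35
    obtain ⟨z, hz⟩ := exists_prime_orderOf_dvd_card' (G := P) p (by rw [hP])
    have hzo : orderOf (z : Cfsg.Spor.J1) = p := by rw [Subgroup.orderOf_coe]; exact hz
    have hsq : ∀ e ∈ Q, e * e = (1 : Cfsg.Spor.J1) := by
      intro e he
      have h1 : orderOf e ∣ 2 ^ 3 := by
        have := orderOf_dvd_natCard (⟨e, he⟩ : Q)
        rwa [hQ, ← Subgroup.orderOf_coe] at this
      have h2 := orderOf_mem e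
      obtain ⟨i, hi, hei⟩ := (Nat.dvd_prime_pow Nat.prime_two).1 h1
      rw [hei] at h2
      have : i ≤ 1 := by
        interval_cases i <;> simp [orders] at h2 ⊢
      rw [← pow_two, ← orderOf_dvd_iff_pow_eq_one, hei]
      exact pow_dvd_pow 2 this
    have hpm : ∀ e ∈ Q, e * z * e⁻¹ = z ∨ e * z * e⁻¹ = (z : Cfsg.Spor.J1)⁻¹ := by
      intro e he
      have hzgen : Subgroup.zpowers (z : Cfsg.Spor.J1) = P :=
        Subgroup.eq_of_le_of_card_ge (Subgroup.zpowers_le.2 z.2) (by rw [hP, Nat.card_zpowers, hzo])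
      have hmem : e * z * e⁻¹ ∈ Subgroup.zpowers (z : Cfsg.Spor.J1) := by
        rw [hzgen]; exact hnorm e he z z.2
      obtain ⟨a, ha⟩ := Subgroup.mem_zpowers_iff.1 hmem
      have h2 : (z : Cfsg.Spor.J1) ^ (a * a) = z := by
        rw [zpow_mul, ha]
        have : (e * z * e⁻¹) ^ a = e * (z : Cfsg.Spor.J1) ^ a * e⁻¹ := conj_zpow
        rw [this, ha]
        calc e * (e * z * e⁻¹) * e⁻¹ = (e * e) * z * (e * e)⁻¹ := by group
          _ = z := by rw [hsq e he]; group
      have h3 : ((p : ℕ) : ℤ) ∣ a * a - 1 := by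
        rw [← hzo, orderOf_dvd_iff_zpow_eq_one, zpow_sub, h2, zpow_one, mul_inv_cancel]
      rw [show a * a - 1 = (a - 1) * (a + 1) by ring] at h3
      rcases (Nat.prime_iff_prime_int.1 hp).dvd_or_dvd h3 with h4 | h4
      · left
        rw [← ha]
        rw [← hzo, orderOf_dvd_iff_zpow_eq_one, zpow_sub, zpow_one, mul_inv_eq_one] at h4
        exact h4
      · right
        rw [← ha]
        rw [← hzo, orderOf_dvd_iff_zpow_eq_one, zpow_add, zpow_one] at h4
        exact eq_inv_of_mul_eq_one_left h4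
    have hcent : ∀ e ∈ Q, e ≠ 1 → e * z * e⁻¹ ≠ z := by
      intro e he he1 hc
      refine hno p 2 hp Nat.prime_two hp2 ?_ z e hzo ?_ (by rwa [mul_inv_eq_iff_eq_mul] at hc)
      · intro h
        simp only [orders, Set.mem_insert_iff, Set.mem_singleton_iff] at h
        have := hp.two_le
        omega
      · exact orderOf_eq_prime (by rw [pow_two]; exact hsq e he) he1
    -- two distinct involutions in Q
    have hQtwo : ∃ e1 ∈ Q, ∃ e2 ∈ Q, e1 ≠ 1 ∧ e2 ≠ 1 ∧ e1 ≠ e2 := by
      by_contra hcon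
      push Not at hcon
      have : Fintype Q := Fintype.ofFinite _
      classical
      have h8 : 2 < (Finset.univ : Finset Q).card := by
        rw [Finset.card_univ, ← Nat.card_eq_fintype_card, hQ]; norm_num
      obtain ⟨a, -, b, -, c, -, hab, hac, hbc⟩ := Finset.two_lt_card.1 h8
      have key : ∀ u v : Q, u ≠ 1 → v ≠ 1 → u = v := fun u v hu hv =>
        Subtype.ext (hcon u u.2 v v.2 (fun e => hu (Subtype.ext e)) (fun e => hv (Subtype.ext e)))
      by_cases ha : a = 1
      · exact hbc (key b c (fun e => hab (ha.trans e.symm)) (fun e => hac (ha.trans e.symm)))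
      · by_cases hb : b = 1
        · exact hac (key a c ha (fun e => hbc (hb.trans e.symm)))
        · exact hab (key a b ha hb)
    obtain ⟨e1, he1, e2, he2, h1, h2, h12⟩ := hQtwo
    have k1 := (hpm e1 he1).resolve_left (hcent e1 he1 h1)
    have k2 := (hpm e2 he2).resolve_left (hcent e2 he2 h2)
    have hne : e1 * e2 ≠ 1 := by
      intro h
      apply h12
      rw [← hsq e2 he2] at h
      exact mul_right_cancel h
    apply hcent (e1 * e2) (mul_mem he1 he2) hne
    calc e1 * e2 * z * (e1 * e2)⁻¹ = e1 * (e2 * z * e2⁻¹) * e1⁻¹ := by group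
      _ = (e1 * z * e1⁻¹)⁻¹ := by rw [k2]; group
      _ = z := by rw [k1, inv_inv]
  have hN1 : Nat.card N ≠ 1 := fun h => hbot (Subgroup.eq_bot_of_card_eq N h)
  obtain ⟨p, hp, hpN⟩ := Nat.exists_prime_and_dvd hN1
  have hp35 := hsmall p hp hpN
  have h7N : ¬ 7 ∣ Nat.card N := fun h => by rcases hsmall 7 (by norm_num) h with h | h <;> omega
  have : Fact p.Prime := ⟨hp⟩
  have : Fact (Nat.Prime 7) := ⟨by norm_num⟩
  obtain ⟨P, Q, hP, hQ, hnorm⟩ := hfrat p hp hpN 7 1 (by norm_num) h7N (by norm_num)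
  obtain ⟨z, hz⟩ := exists_prime_orderOf_dvd_card' (G := P) p (by rw [hP])
  obtain ⟨x, hx⟩ := exists_prime_orderOf_dvd_card' (G := Q) 7 (by rw [hQ, pow_one])
  refine hno p 7 hp (by norm_num) (by omega) ?_ z x (by rw [Subgroup.orderOf_coe]; exact hz)
    (by rw [Subgroup.orderOf_coe]; exact hx) ?_
  · rcases hp35 with rfl | rfl <;> simp [orders]
  · -- the permutation of P induced by x has order dividing 7, and P has fewer than 7 elements
    let σ : Equiv.Perm P :=
      { toFun := fun w => ⟨(x : Cfsg.Spor.J1) * w * (x : Cfsg.Spor.J1)⁻¹, hnorm x x.2 w w.2⟩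
        invFun := fun w => ⟨(x : Cfsg.Spor.J1)⁻¹ * w * (x : Cfsg.Spor.J1), by
          have := hnorm _ (Q.inv_mem x.2) w w.2
          simpa using this⟩
        left_inv := fun w => Subtype.ext (by show (x : Cfsg.Spor.J1)⁻¹ * ((x : Cfsg.Spor.J1) * w * (x : Cfsg.Spor.J1)⁻¹) * x = w; group)
        right_inv := fun w => Subtype.ext (by show (x : Cfsg.Spor.J1) * ((x : Cfsg.Spor.J1)⁻¹ * w * x) * (x : Cfsg.Spor.J1)⁻¹ = w; group) }
    have hpow : ∀ (n : ℕ) (w : P), (((σ ^ n) w : P) : Cfsg.Spor.J1) = (x : Cfsg.Spor.J1) ^ n * w * ((x : Cfsg.Spor.J1) ^ n)⁻¹ := by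
      intro n
      induction n with
      | zero => intro w; simp
      | succ n ih =>
        intro w
        rw [pow_succ', Equiv.Perm.mul_apply]
        show (x : Cfsg.Spor.J1) * ((σ ^ n) w : P) * (x : Cfsg.Spor.J1)⁻¹ = _
        rw [ih, pow_succ']
        group
    have h7 : σ ^ 7 = 1 := by
      apply Equiv.ext
      intro w
      apply Subtype.ext
      rw [hpow, show (x : Cfsg.Spor.J1) ^ 7 = 1 from orderOf_dvd_iff_pow_eq_one.1 (by rw [Subgroup.orderOf_coe, hx])]
      simp
    have hone : σ = 1 := by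
      rw [← orderOf_eq_one_iff]
      have hd1 : orderOf σ ∣ 7 := orderOf_dvd_of_pow_eq_one h7
      have hd2 : orderOf σ ∣ Nat.factorial p := by
        have := orderOf_dvd_natCard σ
        rwa [Nat.card_perm, hP] at this
      rcases (Nat.dvd_prime (by norm_num)).1 hd1 with h | h
      · exact h
      · exfalso
        rw [h] at hd2
        have := ((by norm_num : Nat.Prime 7).dvd_factorial).1 hd2
        omega
    have := congrArg (fun τ : Equiv.Perm P => ((τ z : P) : Cfsg.Spor.J1)) hone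
    simp only [Equiv.Perm.one_apply] at this
    rw [← mul_inv_eq_iff_eq_mul]
    exact this

end Cfsg.Agent.J1Facts
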