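import Cfsg.Agent.Lib.J1Seventh91

/-!
An element of order 5 centralising the element of order 3 of the centralizer `C₂ × A₅`, in a group of
order 175560.
-/

set_option autoImplicit false
set_option linter.style.haveILetI false
set_option linter.unusedSectionVars false
set_option synthInstance.maxSize 4000
set_option synthInstance.maxHeartbeats 400000

namespace Cfsg.Agent.J1Order91

open Cfsg

attribute [local instance] Classical.propDecidable

theorem no_commuting_five : (∀ m : M, m * mX = mX * m → m ^ 5 = 1 → m = 1) ∧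
    ∀ m : M, m * mX = mX * m → m ^ 11 = 1 → m = 1 := by decide +kernel

/-- The Klein four group generated by `mT` and `mV`. -/
def mE : Subgroup M where
  carrier := {m | m = 1 ∨ m = mT ∨ m = mV ∨ m = mT * mV}
  mul_mem' {a b} ha hb := (by decide +kernel : ∀ a : M, (a = 1 ∨ a = mT ∨ a = mV ∨ a = mT * mV) →
    ∀ b : M, (b = 1 ∨ b = mT ∨ b = mV ∨ b = mT * mV) →
      (a * b = 1 ∨ a * b = mT ∨ a * b = mV ∨ a * b = mT * mV)) a ha b hb
  one_mem' := Or.inl rfl
  inv_mem' {a} ha := (by decide +kernel : ∀ a : M, (a = 1 ∨ a = mT ∨ a = mV ∨ a = mT * mV) →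
    (a⁻¹ = 1 ∨ a⁻¹ = mT ∨ a⁻¹ = mV ∨ a⁻¹ = mT * mV)) a ha

theorem mE_facts : (Finset.univ.filter fun m : M => m = 1 ∨ m = mT ∨ m = mV ∨ m = mT * mV).card = 4 ∧
    ∀ m : M, (m = 1 ∨ m = mT ∨ m = mV ∨ m = mT * mV) → m * mX * m⁻¹ = mX ∨ m * mX * m⁻¹ = mX⁻¹ := by
  decide +kernel

theorem card_mE : Nat.card ↥mE = 4 := by
  rw [← mE_facts.1]
  refine (Nat.card_congr (Equiv.subtypeEquivRight fun m => Iff.rfl)).trans ?_
  rw [Nat.card_eq_fintype_card, Fintype.card_subtype]
  congr 1
  ext m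
  simp only [Finset.mem_filter, Finset.mem_univ, true_and]
  rfl

variable {G : Type*} [Group G] [Finite G] [IsSimpleGroup G] (d : Data G)

/-- The order of the normalizer of a cyclic subgroup. -/
theorem card_normalizer_zpowers (g : G) :
    ∃ o : ℕ, Nat.card ↥(Subgroup.normalizer (Subgroup.zpowers g : Set G)) =
        o * Nat.card ↥(Subgroup.centralizer ({g} : Set G)) ∧
      o ∣ Nat.totient (orderOf g) ∧
      (o = 1 → Subgroup.normalizer (Subgroup.zpowers g : Set G) ≤ Subgroup.centralizer ({g} : Set G)) := by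
  set H := Subgroup.zpowers g with hH
  set N := Subgroup.normalizer (H : Set G) with hN
  have hC : Subgroup.centralizer (H : Set G) = Subgroup.centralizer ({g} : Set G) := by
    rw [hH, Subgroup.zpowers_eq_closure, Subgroup.centralizer_closure]
  have hle : Subgroup.centralizer ({g} : Set G) ≤ N := hC ▸ Subgroup.centralizer_le_normalizer _
  refine ⟨((Subgroup.centralizer ({g} : Set G)).subgroupOf N).index, ?_, ?_, fun h => ?_⟩
  · rw [← Nat.card_congr (Subgroup.subgroupOfEquivOfLe hle).toEquiv, Subgroup.index_mul_card]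
  · rw [← hC, ← Subgroup.normalizerMonoidHom_ker, Subgroup.index_ker, ← Nat.card_zpowers,
      ← IsCyclic.card_mulAut]
    exact Subgroup.card_subgroup_dvd_card _
  · exact Subgroup.relIndex_eq_one.1 h

/-- Orders of 2-subgroups commuting with the element of order 3. -/
theorem factor_two_centralizer_X (hT : IsTwoCentralInvolution d.t) :
    ¬ 4 ∣ Nat.card ↥(Subgroup.centralizer ({d.φ mX} : Set G)) := by
  haveI : Fact (Nat.Prime 2) := ⟨Nat.prime_two⟩
  intro h4
  set C := Subgroup.centralizer ({d.φ mX} : Set G) with hC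
  have htC : d.t ∈ C := Subgroup.mem_centralizer_singleton_iff.2 (by
    rw [Data.t, ← map_mul, ← map_mul, model_central.1])
  set tC : ↥C := ⟨d.t, htC⟩ with htCdef
  have hp : IsPGroup 2 ↥(Subgroup.zpowers tC) :=
    IsPGroup.of_card (n := 1) (by rw [Nat.card_zpowers, ← Subgroup.orderOf_coe, htCdef, orderOf_t, pow_one])
  obtain ⟨Q, hQ⟩ := hp.exists_le_sylow
  have hp' : IsPGroup 2 ↥((Q : Subgroup ↥C).map C.subtype) := Q.2.map _
  obtain ⟨S, hS⟩ := hp'.exists_le_sylow
  obtain ⟨g, hg⟩ := MulAction.exists_smul_eq G (sylowP d hT) S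
  have hle : (Q : Subgroup ↥C).map C.subtype ≤ Subgroup.centralizer ({d.t} : Set G) ⊓ C := by
    intro q hq
    refine ⟨?_, Subgroup.map_subtype_le _ hq⟩
    have hq' := hS hq
    have ht' := hS ⟨tC, hQ (Subgroup.mem_zpowers _), rfl⟩
    rw [← hg, Sylow.coe_subgroup_smul, Subgroup.mem_pointwise_smul_iff_inv_smul_mem, ← map_inv,
      MulAut.smul_def, MulAut.conj_apply, inv_inv] at hq' ht'
    obtain ⟨a, ha, hae⟩ := hq'
    obtain ⟨b, hb, hbe⟩ := ht'
    refine Subgroup.mem_centralizer_singleton_iff.2 ?_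
    have e : g⁻¹ * q * g * (g⁻¹ * d.t * g) = g⁻¹ * d.t * g * (g⁻¹ * q * g) := by
      rw [← hae, show g⁻¹ * d.t * g = d.φ b from hbe.symm, ← map_mul, ← map_mul,
        (model_sylow.2.2.1 a ha b hb).2]
    calc q * d.t = g * (g⁻¹ * q * g * (g⁻¹ * d.t * g)) * g⁻¹ := by group
      _ = _ := by rw [e]; group
  have h6 : Nat.card ↥(Subgroup.centralizer ({d.t} : Set G) ⊓ C : Subgroup G) = 6 := by
    rw [← centralizer_X, ← Fintype.card_subtype, ← Nat.card_eq_fintype_card]
    refine (Nat.card_eq_of_bijective (fun m : {m : M // m * mX = mX * m} =>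
      (⟨d.φ m, Subgroup.mem_centralizer_singleton_iff.2 (by rw [Data.t, ← map_mul, ← map_mul, model_central.1]),
        Subgroup.mem_centralizer_singleton_iff.2 (by rw [← map_mul, ← map_mul, m.2])⟩ :
        ↥(Subgroup.centralizer ({d.t} : Set G) ⊓ C : Subgroup G)))
      ⟨fun a b h => Subtype.ext (d.inj (congrArg Subtype.val h)), ?_⟩).symm
    rintro ⟨q, hq1, hq2⟩
    obtain ⟨m, rfl⟩ := mem_range_of_commute d (g := q) (Subgroup.mem_centralizer_singleton_iff.1 hq1)
    exact ⟨⟨m, d.inj (by rw [map_mul, map_mul]; exact Subgroup.mem_centralizer_singleton_iff.1 hq2)⟩, rfl⟩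
  have hd := Subgroup.card_dvd_of_le hle
  rw [h6, Subgroup.card_map_of_injective C.subtype_injective] at hd
  have hfour : 4 ∣ Nat.card ↥(Q : Subgroup ↥C) := by
    rw [Q.card_eq_multiplicity]
    exact pow_dvd_pow 2 ((Nat.Prime.pow_dvd_iff_le_factorization Nat.prime_two Nat.card_pos.ne').1 (show 2 ^ 2 ∣ _ from h4))
  have := hfour.trans hd
  omega

/-- An element of order `p ∈ {5, 11}` centralising `mX` can be chosen inverted by `t` and normalised by `mV`. -/
theorem exists_inverted (hT : IsTwoCentralInvolution d.t) (hcard : Nat.card G = 175560) {p : ℕ}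
    (hp : p = 5 ∨ p = 11) (h : p ∣ Nat.card ↥(Subgroup.centralizer ({d.φ mX} : Set G))) :
    ∃ f : G, orderOf f = p ∧ f * d.φ mX = d.φ mX * f ∧ d.t * f * d.t⁻¹ = f⁻¹ ∧
      (d.φ mV * f * (d.φ mV)⁻¹ = f ∨ d.φ mV * f * (d.φ mV)⁻¹ = f⁻¹) := by
  haveI : Fintype G := Fintype.ofFinite G
  have hpr : p.Prime := by rcases hp with rfl | rfl <;> norm_num
  haveI : Fact p.Prime := ⟨hpr⟩
  haveI : Fact (Nat.Prime 2) := ⟨Nat.prime_two⟩
  set C := Subgroup.centralizer ({d.φ mX} : Set G) with hC
  have htC : d.t ∈ C := Subgroup.mem_centralizer_singleton_iff.2 (by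
    rw [Data.t, ← map_mul, ← map_mul, model_central.1])
  have h2 : 2 ∣ Nat.card ↥C := by
    have h := orderOf_dvd_natCard (⟨d.t, htC⟩ : ↥C)
    rwa [← Subgroup.orderOf_coe, orderOf_t] at h
  obtain ⟨P2⟩ := (inferInstance : Nonempty (Sylow 2 ↥C))
  have hP2 : Nat.card ↥(P2 : Subgroup ↥C) = 2 := by
    rw [P2.card_eq_multiplicity]
    have h1 := (Nat.Prime.dvd_iff_one_le_factorization Nat.prime_two Nat.card_pos.ne').1 h2
    have h2' : (Nat.card ↥C).factorization 2 < 2 := by
      by_contra hge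
      exact factor_two_centralizer_X d hT ((pow_dvd_pow 2 (not_lt.1 hge)).trans (Nat.ordProj_dvd _ 2))
    rw [show (Nat.card ↥C).factorization 2 = 1 by omega, pow_one]
  haveI : IsCyclic ↥(P2 : Subgroup ↥C) := isCyclic_of_prime_card hP2
  have hmin : (Nat.card ↥C).minFac = 2 := (Nat.minFac_eq_two_iff _).2 h2
  have hK := IsCyclic.isComplement' hmin (P := P2) inferInstance
  set K := (MonoidHom.transferSylow P2 (IsCyclic.normalizer_le_centralizer hmin inferInstance)).ker with hKdef
  have hKc := hK.card_mul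
  rw [hP2] at hKc
  have hKodd : ¬ 2 ∣ Nat.card ↥K := by
    rintro ⟨c, hc⟩
    exact factor_two_centralizer_X d hT ⟨c, by rw [← hKc, hc]; ring⟩
  have hKindex : K.index = 2 := by
    have h := K.index_mul_card
    rw [← hKc, mul_comm] at h
    exact Nat.eq_of_mul_eq_mul_left Nat.card_pos h
  set K' := K.map C.subtype with hK'
  have hmemK : ∀ g : G, g ∈ K' ↔ g ∈ C ∧ ¬ 2 ∣ orderOf g := by
    intro g
    constructor
    · rintro ⟨k, hk, rfl⟩
      refine ⟨k.2, fun h => hKodd (h.trans ?_)⟩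
      have hd := orderOf_dvd_natCard (⟨k, hk⟩ : ↥K)
      rwa [← Subgroup.orderOf_coe, ← Subgroup.orderOf_coe] at hd
    · rintro ⟨hg, ho⟩
      refine ⟨⟨g, hg⟩, ?_, rfl⟩
      obtain ⟨c, hc⟩ : ∃ c, orderOf g = 2 * c + 1 := ⟨orderOf g / 2, by omega⟩
      have hsq : (⟨g, hg⟩ : ↥C) = ((⟨g, hg⟩ : ↥C) ^ 2) ^ (c + 1) := by
        refine Subtype.ext ?_
        rw [Subgroup.coe_pow, Subgroup.coe_pow, ← pow_mul]
        show g = g ^ _
        rw [show 2 * (c + 1) = orderOf g + 1 by omega, pow_add, pow_orderOf_eq_one, one_mul, pow_one]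
      rw [hsq]
      refine K.pow_mem ?_ _
      rw [← hKindex]
      exact K.pow_index_mem _
  have hK'card : Nat.card ↥K' = Nat.card ↥K := Subgroup.card_map_of_injective C.subtype_injective
  have hnorm : ∀ m ∈ mE, d.φ m ∈ Subgroup.normalizer (K' : Set G) := by
    intro m hm
    apply Subgroup.mem_normalizer_fintype
    intro g hg
    obtain ⟨hgC, hgo⟩ := (hmemK g).1 hg
    refine (hmemK _).2 ⟨?_, ?_⟩
    · rw [hC, Subgroup.mem_centralizer_singleton_iff] at hgC ⊢
      have hcomm : Commute g (d.φ mX) := hgC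
      rcases mE_facts.2 m hm with e | e <;> replace e := congrArg d.φ e <;>
        simp only [map_mul, map_inv] at e
      · have h := Commute.conj_iff (d.φ m) |>.2 hcomm
        rw [e] at h
        exact h.eq
      · have h := Commute.conj_iff (d.φ m) |>.2 hcomm
        rw [e, Commute.inv_right_iff] at h
        exact h.eq
    · have ho : orderOf (MulAut.conj (d.φ m) g) = orderOf g :=
        orderOf_injective (MulAut.conj (d.φ m)).toMonoidHom (MulAut.conj (d.φ m)).injective g
      rw [MulAut.conj_apply] at ho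
      rwa [ho]
  let η : ↥mE →* MulAut ↥K' :=
    K'.normalizerMonoidHom.comp ((d.φ.comp mE.subtype).codRestrict _ fun m => hnorm m m.2)
  letI : MulAction ↥mE (Sylow p ↥K') := MulAction.compHom _ η
  have hodd : ¬ 2 ∣ Nat.card (Sylow p ↥K') := by
    intro h
    obtain ⟨Q⟩ := (inferInstance : Nonempty (Sylow p ↥K'))
    exact hKodd (hK'card ▸ h.trans (Q.card_dvd_index.trans (Subgroup.index_dvd_card _)))
  obtain ⟨Q, hQ⟩ := (IsPGroup.of_card (n := 2) card_mE : IsPGroup 2 ↥mE).nonempty_fixed_point_of_prime_not_dvd_card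
    (Sylow p ↥K') hodd
  have hQp : Nat.card ↥(Q : Subgroup ↥K') = p := by
    rw [Q.card_eq_multiplicity]
    have h1 : p ∣ Nat.card ↥K' := by
      rw [hK'card]
      rw [← hKc] at h
      refine (hpr.dvd_mul.1 h).resolve_right fun h' => ?_
      have := Nat.le_of_dvd (by norm_num) h'
      omega
    have hge := (hpr.dvd_iff_one_le_factorization Nat.card_pos.ne').1 h1
    have hlt : (Nat.card ↥K').factorization p < 2 := by
      by_contra hge2
      have hd : p ^ 2 ∣ 175560 :=
        (((pow_dvd_pow p (not_lt.1 hge2)).trans (Nat.ordProj_dvd _ p)).trans K'.card_subgroup_dvd_card).trans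
          (dvd_of_eq hcard)
      rcases hp with rfl | rfl <;> norm_num at hd
    rw [show (Nat.card ↥K').factorization p = 1 by omega, pow_one]
  obtain ⟨f₀, hf₀⟩ := exists_prime_orderOf_dvd_card' p (G := ↥(Q : Subgroup ↥K')) (by rw [hQp])
  rw [← Subgroup.orderOf_coe, ← Subgroup.orderOf_coe] at hf₀
  set f : G := ((f₀ : ↥K') : G) with hfdef
  have hfC : f ∈ C := ((hmemK f).1 (f₀ : ↥K').2).1
  have hconj : ∀ m ∈ mE, d.φ m * f * (d.φ m)⁻¹ ∈ Subgroup.zpowers f := by
    intro m hm
    have hfix : η ⟨m, hm⟩ • Q = Q := hQ ⟨m, hm⟩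
    have hmem : η ⟨m, hm⟩ • (f₀ : ↥K') ∈ ((η ⟨m, hm⟩ • Q : Sylow p ↥K') : Subgroup ↥K') :=
      Subgroup.smul_mem_pointwise_smul _ _ _ f₀.2
    replace hmem : η ⟨m, hm⟩ • (f₀ : ↥K') ∈ (Q : Subgroup ↥K') :=
      le_of_eq (congrArg Sylow.toSubgroup hfix) hmem
    have hgen : Subgroup.zpowers (f₀ : ↥K') = (Q : Subgroup ↥K') :=
      Subgroup.eq_of_le_of_card_ge (Subgroup.zpowers_le.2 f₀.2)
        (by rw [Nat.card_zpowers, ← Subgroup.orderOf_coe, hf₀, hQp])
    replace hmem : η ⟨m, hm⟩ • (f₀ : ↥K') ∈ Subgroup.zpowers (f₀ : ↥K') := by rw [hgen]; exact hmem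
    rw [Subgroup.mem_zpowers_iff] at hmem
    obtain ⟨k, hk⟩ := hmem
    exact Subgroup.mem_zpowers_iff.2 ⟨k, by
      have h := congrArg Subtype.val hk
      rw [Subgroup.coe_zpow] at h
      exact h⟩
  have hsq : ∀ m ∈ mE, m * m = 1 →
      d.φ m * f * (d.φ m)⁻¹ = f ∨ d.φ m * f * (d.φ m)⁻¹ = f⁻¹ := by
    intro m hm hm2
    have h := hconj m hm
    rw [mem_zpowers_iff_mem_range_orderOf, hf₀, Finset.mem_image] at h
    obtain ⟨j, hj, hje⟩ := h
    rw [Finset.mem_range] at hj
    have h2 : f ^ (j * j) = f ^ 1 := by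
      rw [pow_mul, hje, conj_pow, hje, pow_one]
      calc d.φ m * (d.φ m * f * (d.φ m)⁻¹) * (d.φ m)⁻¹
          = d.φ m * d.φ m * f * (d.φ m * d.φ m)⁻¹ := by group
        _ = f := by rw [← map_mul, hm2, map_one]; group
    have h3 := pow_eq_pow_iff_modEq.1 h2
    rw [hf₀] at h3
    have hcases : j = 1 ∨ j = p - 1 := by
      unfold Nat.ModEq at h3
      rcases hp with rfl | rfl <;> interval_cases j <;>
        first
        | exact Or.inl rfl
        | exact Or.inr rfl
        | exact absurd h3 (by decide)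
    rcases hcases with rfl | rfl
    · left; rw [← hje, pow_one]
    · right
      rw [← hje]
      refine eq_inv_of_mul_eq_one_left ?_
      rw [← pow_succ, Nat.sub_add_cancel hpr.one_le]
      exact hf₀ ▸ pow_orderOf_eq_one f
  refine ⟨f, hf₀, Subgroup.mem_centralizer_singleton_iff.1 hfC, ?_,
    hsq mV (Or.inr (Or.inr (Or.inl rfl))) (by simpa using (v_facts.1 0).2)⟩
  refine (hsq mT (Or.inr (Or.inl rfl)) model_orders.2.1).resolve_left fun e => ?_
  rw [mul_inv_eq_iff_eq_mul] at e
  obtain ⟨m, hm⟩ := mem_range_of_commute d (g := f) e.symm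
  have hmx : m * mX = mX * m := d.inj (by
    rw [map_mul, map_mul, hm]; exact Subgroup.mem_centralizer_singleton_iff.1 hfC)
  have hmp : m ^ p = 1 := d.inj (by rw [map_pow, hm, map_one, ← hf₀]; exact pow_orderOf_eq_one f)
  have hm1 : m = 1 := by
    rcases hp with rfl | rfl
    · exact no_commuting_five.1 m hmx hmp
    · exact no_commuting_five.2 m hmx hmp
  rw [← hm, hm1, map_one, orderOf_one] at hf₀
  exact hpr.ne_one hf₀.symm

theorem no_eleven (hT : IsTwoCentralInvolution d.t) (hcard : Nat.card G = 175560) :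
    ¬ 11 ∣ Nat.card ↥(Subgroup.centralizer ({d.φ mX} : Set G)) := by
  haveI : Fintype G := Fintype.ofFinite G
  haveI : Fact (Nat.Prime 11) := ⟨by norm_num⟩
  haveI : Fact (Nat.Prime 2) := ⟨Nat.prime_two⟩
  intro h
  obtain ⟨f, hf, hfx, hft, -⟩ := exists_inverted d hT hcard (Or.inr rfl) h
  set C := Subgroup.centralizer ({f} : Set G) with hC
  set N := Subgroup.normalizer (Subgroup.zpowers f : Set G) with hN
  obtain ⟨o, ho, hod, -⟩ := card_normalizer_zpowers f
  have hodd : ¬ 2 ∣ Nat.card ↥C := by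
    intro h2
    obtain ⟨i, hi⟩ := exists_prime_orderOf_dvd_card' 2 h2
    rw [← Subgroup.orderOf_coe] at hi
    obtain ⟨c, hc⟩ := isConj_iff.1 (isConj_t d hT hi)
    have hcomm : c⁻¹ * f * c * d.t = d.t * (c⁻¹ * f * c) := by
      have h := Subgroup.mem_centralizer_singleton_iff.1 i.2
      rw [← hc] at h
      calc c⁻¹ * f * c * d.t = c⁻¹ * (f * (c * d.t * c⁻¹)) * c := by group
        _ = c⁻¹ * (c * d.t * c⁻¹ * f) * c := by rw [h]
        _ = _ := by group
    obtain ⟨m, hm⟩ := mem_range_of_commute d hcomm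
    have h11 : orderOf m = 11 := by
      rw [← orderOf_injective d.φ d.inj, hm]
      have := orderOf_injective (MulAut.conj c⁻¹).toMonoidHom (MulAut.conj c⁻¹).injective f
      simpa [hf] using this
    have := orderOf_dvd_natCard m
    rw [h11, card_model] at this
    omega
  have h33 : 33 ∣ Nat.card ↥C := by
    have h3 : 3 ∣ Nat.card ↥C := by
      have h := orderOf_dvd_natCard (⟨d.φ mX, Subgroup.mem_centralizer_singleton_iff.2 hfx.symm⟩ : ↥C)
      rwa [← Subgroup.orderOf_coe, orderOf_injective d.φ d.inj,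
        orderOf_eq_prime model_orders.2.2.2.1 model_orders.2.2.1] at h
    have h11 : 11 ∣ Nat.card ↥C := by
      have h := orderOf_dvd_natCard (⟨f, Subgroup.mem_centralizer_singleton_iff.2 rfl⟩ : ↥C)
      rwa [← Subgroup.orderOf_coe, hf] at h
    exact Nat.Coprime.mul_dvd_of_dvd_of_dvd (by norm_num : Nat.Coprime 3 11) h3 h11
  have h2o : 2 ∣ o := by
    have ht : d.t ∈ N := by
      apply Subgroup.mem_normalizer_fintype
      rintro g hg
      obtain ⟨k, rfl⟩ := Subgroup.mem_zpowers_iff.1 hg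
      rw [← conj_zpow, hft]
      exact Subgroup.zpow_mem _ (Subgroup.inv_mem _ (Subgroup.mem_zpowers f)) k
    have h := orderOf_dvd_natCard (⟨d.t, ht⟩ : ↥N)
    rw [← Subgroup.orderOf_coe, orderOf_t, ho] at h
    exact (Nat.prime_two.dvd_mul.1 h).resolve_right hodd
  have hsyl : (N.index : ℕ) % 11 = 1 := by
    have hR : Nat.card ↥(Subgroup.zpowers f) = 11 ^ (Nat.card G).factorization 11 := by
      rw [Nat.card_zpowers, hf, hcard, show (175560 : ℕ) = 11 ^ 1 * 15960 by norm_num,
        Nat.factorization_mul (by norm_num) (by norm_num), Nat.factorization_pow]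
      simp [Nat.factorization_eq_zero_of_not_dvd (show ¬ 11 ∣ 15960 by norm_num),
        (show Nat.Prime 11 by norm_num).factorization_self]
    have h := card_sylow_modEq_one 11 G
    rw [(Sylow.ofCard (Subgroup.zpowers f) hR).card_eq_index_normalizer] at h
    exact h
  obtain ⟨k, hk⟩ := h33
  have hN' := N.index_mul_card
  rw [ho, hk, hcard] at hN'
  rw [hf, Nat.totient_prime (by norm_num)] at hod
  have hk665 : k ∈ Nat.divisors 665 := by
    obtain ⟨o', ho'⟩ := h2o
    have hodk : Nat.Coprime k 4 := by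
      rw [Nat.coprime_comm, show (4 : ℕ) = 2 ^ 2 by norm_num]
      exact Nat.Coprime.pow_left 2 ((Nat.Prime.coprime_iff_not_dvd Nat.prime_two).2
        fun h => hodd (hk ▸ dvd_mul_of_dvd_right h 33))
    refine Nat.mem_divisors.2 ⟨hodk.dvd_of_dvd_mul_left ⟨N.index * o', ?_⟩, by norm_num⟩
    subst ho'
    nlinarith
  have ho10 : o = 2 ∨ o = 10 := by
    have := Nat.le_of_dvd (by norm_num) hod
    obtain ⟨o', rfl⟩ := h2o
    have : o' ≤ 5 := by omega
    interval_cases o' <;> first | omega | (norm_num at hod)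
  rw [show Nat.divisors 665 = {1, 5, 7, 19, 35, 95, 133, 665} by decide +kernel] at hk665
  simp only [Finset.mem_insert, Finset.mem_singleton] at hk665
  rcases hk665 with rfl | rfl | rfl | rfl | rfl | rfl | rfl | rfl <;> rcases ho10 with rfl | rfl <;> omega

end Cfsg.Agent.J1Order91
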