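import Mathlib

/-!
Finite facts about the group `C₂ × A₅`, the centralizer of an involution in the first Janko group.
-/

set_option autoImplicit false
set_option synthInstance.maxSize 4000
set_option synthInstance.maxHeartbeats 400000
set_option linter.style.haveILetI false

namespace Cfsg.Agent.J1Order91

open Equiv

/-- The model `C₂ × A₅`. -/
abbrev M : Type := Multiplicative (ZMod 2) × alternatingGroup (Fin 5)

/-- The central involution of the model. -/
def mT : M := (Multiplicative.ofAdd 1, 1)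

/-- An element of order 3. -/
def mX : M :=
  (1, ⟨swap (0 : Fin 5) 1 * swap 1 2, by rw [Perm.mem_alternatingGroup]; decide⟩)

/-- An element of order 5. -/
def mY : M :=
  (1, ⟨swap (0 : Fin 5) 1 * swap 1 2 * (swap 2 3 * swap 3 4), by rw [Perm.mem_alternatingGroup]; decide⟩)

theorem model_orders : mT ≠ 1 ∧ mT * mT = 1 ∧ mX ≠ 1 ∧ mX ^ 3 = 1 ∧ mY ≠ 1 ∧ mY ^ 5 = 1 := by
  decide +kernel

theorem model_central : (∀ m : M, m * mT = mT * m) ∧
    ∀ m : M, m * mX = mX * m → m * mY = mY * m → m = 1 ∨ m = mT := by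
  decide +kernel

theorem model_real : (∃ g : M, g * (mT * mX) = (mT * mX)⁻¹ * g) ∧
    (∃ g : M, g * (mT * mY) = (mT * mY)⁻¹ * g) ∧ ∀ g : M, g * (mT * mY) ≠ (mT * mY ^ 2) * g := by
  decide +kernel

theorem model_centralizers :
    (Finset.univ.filter fun m : M => m * (mT * mX) = (mT * mX) * m).card = 6 ∧
    (Finset.univ.filter fun m : M => m * (mT * mY) = (mT * mY) * m).card = 10 ∧
    (Finset.univ.filter fun m : M => m * (mT * mY ^ 2) = (mT * mY ^ 2) * m).card = 10 := by
  decide +kernel

/-- The involutions whose product with `c` is again an involution. -/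
def invPairs (c : M) : Finset M :=
  Finset.univ.filter fun i : M => i ≠ 1 ∧ i * i = 1 ∧ i * c ≠ 1 ∧ i * c * (i * c) = 1

theorem model_powers : (mT * mX) ^ 3 = mT ∧ (mT * mY) ^ 5 = mT ∧ (mT * mY ^ 2) ^ 5 = mT := by
  decide +kernel

theorem model_pairs : (invPairs mT).card = 30 ∧ (invPairs (mT * mX)).card = 6 ∧
    (invPairs (mT * mY)).card = 10 ∧ (invPairs (mT * mY ^ 2)).card = 10 := by
  decide +kernel

/-- Membership in the Sylow subgroup `C₂ × V₄`. -/
def InP (m : M) : Prop := (m.2 : Perm (Fin 5)) 4 = 4 ∧ m.2 * m.2 = 1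

instance : DecidablePred InP := fun m => by unfold InP; infer_instance

theorem model_sylow : InP 1 ∧ InP mT ∧ (∀ a : M, InP a → ∀ b : M, InP b → InP (a * b) ∧ a * b = b * a) ∧
    (∀ a : M, InP a → InP a⁻¹) ∧ (Finset.univ.filter fun m : M => InP m).card = 8 ∧
    (∀ a : M, InP a → InP (mX * a * mX⁻¹)) ∧
    (∀ a : M, InP a → mX * a * mX⁻¹ = a → a = 1 ∨ a = mT) := by
  decide +kernel

theorem model_sq : ∀ m : M, InP m → m * m = 1 := by
  decide +kernel

/-- The subgroup `C₂ × V₄`. -/
def mP : Subgroup M where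
  carrier := {m | InP m}
  mul_mem' {a b} ha hb := (model_sylow.2.2.1 a ha b hb).1
  one_mem' := model_sylow.1
  inv_mem' {a} ha := model_sylow.2.2.2.1 a ha

end Cfsg.Agent.J1Order91
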