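import Cfsg.Prelude.Def_SporadicB
import Cfsg.Agent.Lib.J1Model91
import Cfsg.Agent.Lib.ZStarTheorem
import Cfsg.Agent.Lib.ZStarBasic
import Cfsg.Agent.Lib.SimpleOrder

/-!
Local structure of a simple group with an involution centralizer `C₂ × A₅`.
-/

set_option autoImplicit false
set_option linter.style.haveILetI false
set_option linter.unusedSectionVars false

namespace Cfsg.Agent.J1Order91

open Cfsg

attribute [local instance] Classical.propDecidable

variable {G : Type*} [Group G]

/-- An embedding of the model onto the centralizer of the image of its central involution. -/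
structure Data (G : Type*) [Group G] where
  φ : M →* G
  inj : Function.Injective φ
  range_eq : φ.range = Subgroup.centralizer ({φ mT} : Set G)

theorem exists_data {t : G} (ht : orderOf t = 2)
    (e : Subgroup.centralizer ({t} : Set G) ≃* M) : ∃ d : Data G, d.φ mT = t := by
  have htC : t ∈ Subgroup.centralizer ({t} : Set G) := Subgroup.mem_centralizer_singleton_iff.2 rfl
  set τ := e ⟨t, htC⟩ with hτ
  have hcomm : ∀ m : M, m * τ = τ * m := fun m => by
    have h : (e.symm m) * ⟨t, htC⟩ = ⟨t, htC⟩ * (e.symm m) :=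
      Subtype.ext (Subgroup.mem_centralizer_singleton_iff.1 (e.symm m).2)
    have h' := congrArg e h
    rwa [map_mul, map_mul, e.apply_symm_apply] at h'
  have hτm : τ = mT := by
    rcases model_central.2 τ (hcomm mX).symm (hcomm mY).symm with h | h
    · have h' : (⟨t, htC⟩ : ↥(Subgroup.centralizer ({t} : Set G))) = 1 := e.injective (h.trans (map_one e).symm)
      rw [show t = 1 from congrArg Subtype.val h', orderOf_one] at ht
      omega
    · exact h
  have hφt : ((Subgroup.centralizer ({t} : Set G)).subtype.comp e.symm.toMonoidHom) mT = t := by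
    rw [← hτm, hτ]
    simp
  refine ⟨⟨(Subgroup.centralizer ({t} : Set G)).subtype.comp e.symm.toMonoidHom,
    Subtype.val_injective.comp e.symm.injective, ?_⟩, hφt⟩
  rw [hφt]
  ext g
  constructor
  · rintro ⟨m, rfl⟩
    exact (e.symm m).2
  · intro hg
    exact ⟨e ⟨g, hg⟩, by simp⟩

variable (d : Data G)

/-- The distinguished involution. -/
def Data.t : G := d.φ mT

theorem card_model : Nat.card M = 120 := by
  rw [Nat.card_prod, nat_card_alternatingGroup, Nat.card_fin, Nat.card_eq_fintype_card,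
    Fintype.card_multiplicative, ZMod.card]
  decide

theorem card_centralizer_t : Nat.card ↥(Subgroup.centralizer ({d.t} : Set G)) = 120 := by
  rw [show Subgroup.centralizer ({d.t} : Set G) = d.φ.range from d.range_eq.symm,
    Nat.card_congr (MonoidHom.ofInjective d.inj).symm.toEquiv, card_model]

theorem orderOf_t : orderOf d.t = 2 := by
  rw [Data.t, orderOf_injective d.φ d.inj]
  exact orderOf_eq_prime (by rw [pow_two]; exact model_orders.2.1) model_orders.1

theorem mem_range_of_commute {g : G} (h : g * d.t = d.t * g) : ∃ m : M, d.φ m = g := by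
  have hg : g ∈ Subgroup.centralizer ({d.φ mT} : Set G) := Subgroup.mem_centralizer_singleton_iff.2 h
  rwa [← d.range_eq] at hg

theorem card_centralizer_of_pow {c : M} {k : ℕ} (hc : c ^ k = mT) :
    Nat.card ↥(Subgroup.centralizer ({d.φ c} : Set G)) =
      (Finset.univ.filter fun m : M => m * c = c * m).card := by
  rw [← Fintype.card_subtype, ← Nat.card_eq_fintype_card]
  refine (Nat.card_eq_of_bijective (fun m : {m : M // m * c = c * m} => (⟨d.φ m,
    Subgroup.mem_centralizer_singleton_iff.2 (by rw [← map_mul, m.2, map_mul])⟩ :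
      ↥(Subgroup.centralizer ({d.φ c} : Set G)))) ⟨fun a b h => Subtype.ext (d.inj (congrArg Subtype.val h)), ?_⟩).symm
  rintro ⟨g, hg⟩
  have hg' : Commute g (d.φ c) := Subgroup.mem_centralizer_singleton_iff.1 hg
  obtain ⟨m, rfl⟩ := mem_range_of_commute d (g := g) (by
    have h := hg'.pow_right k
    rw [← map_pow, hc] at h
    exact h)
  exact ⟨⟨m, d.inj (by rw [map_mul, map_mul]; exact hg'.eq)⟩, rfl⟩

/-- The involutions `i` with `i * φ c` an involution correspond to those in the model. -/
theorem card_pairs {c : M} {k : ℕ} (hc : c ^ k = mT) :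
    Nat.card {i : G // orderOf i = 2 ∧ orderOf (i * d.φ c) = 2} = (invPairs c).card := by
  haveI : Fact (Nat.Prime 2) := ⟨Nat.prime_two⟩
  have ho : ∀ m : M, orderOf (d.φ m) = 2 ↔ m ≠ 1 ∧ m * m = 1 := fun m => by
    rw [orderOf_injective d.φ d.inj, orderOf_eq_prime_iff, pow_two]
    exact and_comm
  change Nat.card ↥{i : G | orderOf i = 2 ∧ orderOf (i * d.φ c) = 2} = _
  rw [Nat.card_coe_set_eq, ← Set.ncard_coe_finset (invPairs c), ← Set.ncard_image_of_injective _ d.inj]
  congr 1
  ext g
  simp only [Set.mem_setOf_eq, Set.mem_image, Finset.mem_coe, invPairs, Finset.mem_filter, Finset.mem_univ, true_and]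
  constructor
  · rintro ⟨h1, h2⟩
    have hgg : g⁻¹ = g := inv_eq_of_mul_eq_one_right (by rw [← pow_two, ← h1]; exact pow_orderOf_eq_one g)
    have hgc : g * d.φ c * (g * d.φ c) = 1 := (pow_two _).symm.trans (orderOf_eq_prime_iff.1 h2).1
    have hinv : g * d.φ c * g⁻¹ = (d.φ c)⁻¹ := by
      rw [hgg]
      refine eq_inv_of_mul_eq_one_left ?_
      simpa only [mul_assoc] using hgc
    obtain ⟨m, rfl⟩ := mem_range_of_commute d (g := g) (by
      have h := congrArg (· ^ k) hinv
      simp only [conj_pow, inv_pow, ← map_pow, hc] at h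
      rw [mul_inv_eq_iff_eq_mul] at h
      rw [show d.t = d.φ mT from rfl, h, ← map_inv, inv_eq_of_mul_eq_one_right model_orders.2.1])
    rw [← map_mul] at h2
    exact ⟨m, ⟨((ho m).1 h1).1, ((ho m).1 h1).2, (ho _).1 h2⟩, rfl⟩
  · rintro ⟨m, ⟨h1, h2, h3⟩, rfl⟩
    exact ⟨(ho m).2 ⟨h1, h2⟩, by rw [← map_mul]; exact (ho _).2 h3⟩

/-- The subgroup `C₂ × V₄` of `G`. -/
def Data.P : Subgroup G := mP.map d.φ

theorem card_P : Nat.card ↥d.P = 8 := by
  rw [Data.P, Subgroup.card_map_of_injective d.inj]
  change Nat.card {m : M // InP m} = 8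
  rw [Nat.card_eq_fintype_card, Fintype.card_subtype]
  exact model_sylow.2.2.2.2.1

variable [Finite G]

theorem two_part (hT : IsTwoCentralInvolution d.t) :
    8 ∣ Nat.card G ∧ (Nat.card G).factorization 2 = 3 := by
  haveI : Fact (Nat.Prime 2) := ⟨Nat.prime_two⟩
  have h8 : 8 ∣ Nat.card G := card_P d ▸ d.P.card_subgroup_dvd_card
  refine ⟨h8, le_antisymm ?_ ((Nat.Prime.pow_dvd_iff_le_factorization Nat.prime_two Nat.card_pos.ne').1 h8)⟩
  obtain ⟨-, Q, -, hQ⟩ := hT
  have hle : (Q : Subgroup G) ≤ Subgroup.centralizer ({d.t} : Set G) :=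
    fun x hx => Subgroup.mem_centralizer_singleton_iff.2 (hQ x hx)
  have h := Subgroup.card_dvd_of_le hle
  rw [card_centralizer_t, Q.card_eq_multiplicity] at h
  by_contra hlt
  have h16 : 2 ^ 4 ∣ 120 := (pow_dvd_pow 2 (by omega)).trans h
  omega

/-- `C₂ × V₄` as a Sylow subgroup. -/
noncomputable def sylowP (hT : IsTwoCentralInvolution d.t) : Sylow 2 G :=
  haveI : Fact (Nat.Prime 2) := ⟨Nat.prime_two⟩
  Sylow.ofCard d.P (by rw [card_P, (two_part d hT).2]; norm_num)

theorem sylowP_coe (hT : IsTwoCentralInvolution d.t) : (sylowP d hT : Subgroup G) = d.P := rfl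

theorem isConj_t [IsSimpleGroup G] (hT : IsTwoCentralInvolution d.t) {i : G} (hi : orderOf i = 2) :
    IsConj d.t i := by
  haveI : Fact (Nat.Prime 2) := ⟨Nat.prime_two⟩
  haveI : Fintype G := Fintype.ofFinite G
  haveI hab : IsMulCommutative ↥(sylowP d hT : Subgroup G) := by
    refine ⟨⟨?_⟩⟩
    rintro ⟨a, a', ha, rfl⟩ ⟨b, b', hb, rfl⟩
    exact Subtype.ext (by simp only [Subgroup.coe_mul, ← map_mul, (model_sylow.2.2.1 a' ha b' hb).2])
  set O : Finset M := Finset.univ.filter fun m => InP m ∧ IsConj d.t (d.φ m) with hO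
  have hTO : mT ∈ O := by
    rw [hO, Finset.mem_filter]
    exact ⟨Finset.mem_univ _, model_sylow.2.1, IsConj.refl _⟩
  -- the orbit has odd length
  set N : Subgroup G := Subgroup.normalizer ((sylowP d hT : Subgroup G) : Set G) with hN
  have htP : d.t ∈ (sylowP d hT : Subgroup G) := ⟨mT, model_sylow.2.1, rfl⟩
  have hfib : Nat.card ↥N = O.card * Nat.card ↥(Subgroup.centralizer ({d.t} : Set G) ⊓ N : Subgroup G) := by
    have himg : (Finset.univ.image fun n : ↥N => (n : G) * d.t * (n : G)⁻¹) = O.image d.φ := by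
      ext g
      simp only [Finset.mem_image, Finset.mem_univ, true_and]
      constructor
      · rintro ⟨n, rfl⟩
        obtain ⟨m, hm, hme⟩ := (Subgroup.mem_normalizer_iff.1 n.2 d.t).1 htP
        exact ⟨m, by rw [hO, Finset.mem_filter]; exact ⟨Finset.mem_univ _, hm, isConj_iff.2 ⟨n, hme.symm⟩⟩, hme⟩
      · rintro ⟨m, hm, rfl⟩
        rw [hO, Finset.mem_filter] at hm
        obtain ⟨-, hmP, hmc⟩ := hm
        obtain ⟨c, hc⟩ := isConj_iff.1 hmc
        obtain ⟨n, hn, hne⟩ := Sylow.conj_eq_normalizer_conj_of_mem (sylowP d hT) d.t c⁻¹ htP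
          (by rw [inv_inv, hc]; exact ⟨m, hmP, rfl⟩)
        refine ⟨⟨n⁻¹, N.inv_mem hn⟩, ?_⟩
        rw [inv_inv, hc] at hne
        simp [hne]
    rw [← Finset.card_image_of_injective O d.inj, ← himg, Nat.card_eq_fintype_card, ← Finset.card_univ,
      Finset.card_eq_sum_card_image (fun n : ↥N => (n : G) * d.t * (n : G)⁻¹)]
    refine Finset.sum_const_nat fun g hg => ?_
    obtain ⟨n₀, -, rfl⟩ := Finset.mem_image.1 hg
    rw [← Fintype.card_subtype, ← Nat.card_eq_fintype_card]
    refine (Nat.card_eq_of_bijective (fun c : ↥(Subgroup.centralizer ({d.t} : Set G) ⊓ N : Subgroup G) =>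
      (⟨n₀ * ⟨c, c.2.2⟩, ?_⟩ : {n : ↥N // (n : G) * d.t * (n : G)⁻¹ = (n₀ : G) * d.t * (n₀ : G)⁻¹}))
      ⟨fun a b h => Subtype.ext (by simpa using congrArg (fun z => ((z.1 : ↥N) : G)) h), ?_⟩).symm
    · have hc := Subgroup.mem_centralizer_singleton_iff.1 c.2.1
      simp only [Subgroup.coe_mul, mul_inv_rev]
      calc (n₀ : G) * c * d.t * ((c : G)⁻¹ * (n₀ : G)⁻¹) = (n₀ : G) * ((c : G) * d.t) * ((c : G)⁻¹ * (n₀ : G)⁻¹) := by group
        _ = _ := by rw [hc]; group
    · rintro ⟨n, hn⟩
      refine ⟨⟨(n₀ : G)⁻¹ * n, Subgroup.mem_centralizer_singleton_iff.2 ?_, N.mul_mem (N.inv_mem n₀.2) n.2⟩, ?_⟩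
      · calc (n₀ : G)⁻¹ * n * d.t = (n₀ : G)⁻¹ * ((n : G) * d.t * (n : G)⁻¹) * n := by group
          _ = _ := by rw [hn]; group
      · exact Subtype.ext (Subtype.ext (by simp))
  have hodd : ¬ 2 ∣ O.card := by
    intro h2
    have hle : d.P ≤ Subgroup.centralizer ({d.t} : Set G) ⊓ N := by
      refine le_inf ?_ (sylowP_coe d hT ▸ Subgroup.le_normalizer)
      rintro x ⟨x', -, rfl⟩
      exact Subgroup.mem_centralizer_singleton_iff.2 (by rw [Data.t, ← map_mul, ← map_mul, model_central.1])
    have h16 : 2 ^ 4 ∣ Nat.card G := by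
      refine Nat.dvd_trans ?_ N.card_subgroup_dvd_card
      rw [hfib]
      have h8 := Subgroup.card_dvd_of_le hle
      rw [card_P] at h8
      show 2 * 8 ∣ _
      exact Nat.mul_dvd_mul h2 h8
    have := (Nat.Prime.pow_dvd_iff_le_factorization Nat.prime_two Nat.card_pos.ne').1 h16
    rw [(two_part d hT).2] at this
    omega
  have hsub : ∀ m ∈ O, InP m ∧ m ≠ 1 := fun m hm => by
    rw [hO, Finset.mem_filter] at hm
    refine ⟨hm.2.1, fun e => ?_⟩
    have h2 := hm.2.2
    rw [e, map_one, isConj_one_left] at h2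
    have := orderOf_t d
    rw [h2, orderOf_one] at this
    omega
  have hsub' : O ⊆ (Finset.univ.filter fun m : M => InP m).erase 1 := fun m hm => by
    simp [(hsub m hm).1, (hsub m hm).2]
  have hsz : ((Finset.univ.filter fun m : M => InP m).erase 1).card = 7 := by
    rw [Finset.card_erase_of_mem (by simp [model_sylow.1]), model_sylow.2.2.2.2.1]
  have h7 : O.card ≤ 7 := hsz ▸ Finset.card_le_card hsub'
  have hmod : 3 ∣ (O.erase mT).card := by
    by_contra h3
    haveI : Fact (Nat.Prime 3) := ⟨Nat.prime_three⟩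
    have hmap : ∀ m ∈ O.erase mT, mX * m * mX⁻¹ ∈ O.erase mT := fun m hm => by
      rw [Finset.mem_erase, hO, Finset.mem_filter] at hm ⊢
      refine ⟨fun e => hm.1 ?_, Finset.mem_univ _, model_sylow.2.2.2.2.2.1 m hm.2.2.1,
        hm.2.2.2.trans (isConj_iff.2 ⟨d.φ mX, by rw [map_mul, map_mul, map_inv]⟩)⟩
      have e' := congrArg (fun z => mX⁻¹ * z * mX) e
      rw [model_central.1, mul_assoc mT, inv_mul_cancel, mul_one] at e'
      rw [← e']; group
    let f : Equiv.Perm ↥(O.erase mT) := Equiv.ofBijective (fun m => ⟨mX * m * mX⁻¹, hmap m m.2⟩)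
      (Finite.injective_iff_bijective.1 fun a b h => Subtype.ext (by
        exact mul_left_cancel (mul_right_cancel (congrArg Subtype.val h))))
    have hf : f ^ 3 ^ 1 = 1 := by
      refine Equiv.ext fun m => Subtype.ext ?_
      show mX * (mX * (mX * (m : M) * mX⁻¹) * mX⁻¹) * mX⁻¹ = (m : M)
      calc _ = mX ^ 3 * (m : M) * (mX ^ 3)⁻¹ := by simp only [pow_succ, pow_zero, one_mul, mul_inv_rev, mul_assoc]
        _ = _ := by rw [model_orders.2.2.2.1]; group
    obtain ⟨m, hm⟩ := Equiv.Perm.exists_fixed_point_of_prime (by rwa [Fintype.card_coe]) hf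
    have hmO := Finset.mem_erase.1 m.2
    rcases model_sylow.2.2.2.2.2.2 m (hsub m hmO.2).1 (congrArg Subtype.val hm) with e | e
    · exact (hsub m hmO.2).2 e
    · exact hmO.1 e
  rw [Finset.card_erase_of_mem hTO] at hmod
  have hpos : 0 < O.card := Finset.card_pos.2 ⟨mT, hTO⟩
  have hseven : O.card = 7 := by
    rcases Nat.lt_or_ge O.card 2 with h1 | h1
    · exfalso
      have hO1 : ∀ m ∈ O, m = mT := fun m hm => Finset.card_le_one.1 (by omega) m hm mT hTO
      have hiso : IsIsolatedInvolution d.t := by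
        refine ZStarBasic.isolated_of_sylow (sylowP d hT) d.t (orderOf_t d) htP fun g hg => ?_
        obtain ⟨m, hm, hme⟩ := hg
        have hmO : m ∈ O := by
          rw [hO, Finset.mem_filter]
          exact ⟨Finset.mem_univ _, hm, isConj_iff.2 ⟨g, hme.symm⟩⟩
        rw [← hme, hO1 m hmO, Data.t]
      have hcore : pPrimeCore 2 G = ⊥ := (SimpleOrder.eq_bot_or_top inferInstance).resolve_right
        fun e => ZStarTheorem.notMem_pPrimeCore (orderOf_t d) (by rw [e]; exact Subgroup.mem_top _)
      have hz := ZStarTheorem.mem_center_of_isolated hiso hcore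
      have hC : Subgroup.centralizer ({d.t} : Set G) = ⊤ := eq_top_iff.2 fun g _ =>
        Subgroup.mem_centralizer_singleton_iff.2 (Subgroup.mem_center_iff.1 hz g)
      have hc : Subgroup.center G = ⊤ := (SimpleOrder.eq_bot_or_top inferInstance).resolve_left fun e => by
        rw [e, Subgroup.mem_bot] at hz
        have := orderOf_t d
        rw [hz, orderOf_one] at this
        omega
      have h := model_central.2 mX rfl (d.inj (by
        rw [map_mul, map_mul]
        exact (Subgroup.mem_center_iff.1 (hc ▸ Subgroup.mem_top (d.φ mX)) (d.φ mY)).symm))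
      rcases h with h | h
      · exact model_orders.2.2.1 h
      · have h' := model_orders.2.2.2.1
        rw [h, pow_succ, pow_two, model_orders.2.1, one_mul] at h'
        exact model_orders.1 h'
    · omega
  -- every involution is conjugate into the Sylow subgroup
  have hp : IsPGroup 2 ↥(Subgroup.zpowers i) :=
    IsPGroup.of_card (n := 1) (by rw [Nat.card_zpowers, hi, pow_one])
  obtain ⟨Q, hQ⟩ := hp.exists_le_sylow
  obtain ⟨g, hg⟩ := MulAction.exists_smul_eq G (sylowP d hT) Q
  have hmem := hQ (Subgroup.mem_zpowers i)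
  rw [← hg, Sylow.coe_subgroup_smul, Subgroup.mem_pointwise_smul_iff_inv_smul_mem] at hmem
  rw [← map_inv, MulAut.smul_def, MulAut.conj_apply, inv_inv] at hmem
  obtain ⟨m, hm, hme⟩ := hmem
  have hm1 : m ≠ 1 := fun e => by
    rw [e, map_one] at hme
    have : i = 1 := by
      calc i = g * (g⁻¹ * i * g) * g⁻¹ := by group
        _ = 1 := by rw [← hme]; group
    rw [this, orderOf_one] at hi
    omega
  have hmO : m ∈ O := by
    have heq := Finset.eq_of_subset_of_card_le hsub' (by rw [hsz, hseven])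
    rw [heq]
    simp [hm1, show InP m from hm]
  rw [hO, Finset.mem_filter] at hmO
  exact hmO.2.2.trans (isConj_iff.2 ⟨g, by rw [hme]; group⟩)

end Cfsg.Agent.J1Order91
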