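import Cfsg.Agent.Lib.J1Pres91

/-!
Uniqueness of the group of order 175560 with an involution centralizer `C₂ × A₅`.
-/

set_option autoImplicit false
set_option linter.style.haveILetI false
set_option linter.unusedSectionVars false
set_option synthInstance.maxSize 4000
set_option synthInstance.maxHeartbeats 400000

namespace Cfsg.Agent.J1Order91

open Cfsg

attribute [local instance] Classical.propDecidable

theorem caseZ_order : (caseZ 1) ^ 5 = 1 ∧ caseZ 1 ≠ 1 := by decide +kernel

variable {G : Type*} [Group G] [Finite G] [IsSimpleGroup G]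

theorem generated (F : Frame G) (hT : IsTwoCentralInvolution F.toData.t) (hcard : Nat.card G = 175560)
    (hrel : F.Rel 1) : Subgroup.closure (Set.range F.φ ∪ {F.r}) = ⊤ := by
  haveI : Fintype G := Fintype.ofFinite G
  haveI : Fact (Nat.Prime 2) := ⟨Nat.prime_two⟩
  haveI : Fact (Nat.Prime 3) := ⟨Nat.prime_three⟩
  set L := Subgroup.closure (Set.range F.φ ∪ {F.r}) with hL
  by_contra hne
  have hφL : ∀ m : M, F.φ m ∈ L := fun m => Subgroup.subset_closure (Or.inl ⟨m, rfl⟩)
  have hrL : F.r ∈ L := Subgroup.subset_closure (Or.inr rfl)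
  have hPL : (sylowP F.toData hT : Subgroup G) ≤ L := by
    rintro _ ⟨m, -, rfl⟩
    exact hφL m
  have hfus : ∀ i ∈ L, orderOf i = 2 → ∃ l ∈ L, l * F.φ mT * l⁻¹ = i := by
    intro i hi ho
    have hp : IsPGroup 2 ↥(Subgroup.zpowers (⟨i, hi⟩ : ↥L)) :=
      IsPGroup.of_card (n := 1) (by rw [Nat.card_zpowers, ← Subgroup.orderOf_coe, ho, pow_one])
    obtain ⟨Q, hQ⟩ := hp.exists_le_sylow
    obtain ⟨a, ha⟩ := MulAction.exists_smul_eq ↥L ((sylowP F.toData hT).subtype hPL) Q
    have hmem := hQ (Subgroup.mem_zpowers _)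
    rw [← ha, Sylow.coe_subgroup_smul, Subgroup.mem_pointwise_smul_iff_inv_smul_mem, ← map_inv,
      MulAut.smul_def, MulAut.conj_apply, inv_inv, Sylow.coe_subtype, Subgroup.mem_subgroupOf] at hmem
    obtain ⟨s, hs, hse⟩ := hmem
    have hs1 : s ≠ 1 := fun e => by
      rw [e, map_one] at hse
      have : i = 1 := by
        calc i = (a : G) * ((a : G)⁻¹ * i * a) * (a : G)⁻¹ := by group
          _ = 1 := by
            have h' : (a : G)⁻¹ * i * a = 1 := by simpa using hse.symm
            rw [h']; group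
      rw [this, orderOf_one] at ho
      omega
    obtain ⟨j, hj⟩ := transitive_P8 s (mem_P8 s hs) hs1
    refine ⟨(a : G) * F.r ^ (j : ℕ), L.mul_mem a.2 (L.pow_mem hrL _), ?_⟩
    have h' : F.φ s = (a : G)⁻¹ * i * a := by simpa using hse
    calc (a : G) * F.r ^ (j : ℕ) * F.φ mT * ((a : G) * F.r ^ (j : ℕ))⁻¹
        = (a : G) * (F.r ^ (j : ℕ) * F.φ mT * (F.r ^ (j : ℕ))⁻¹) * (a : G)⁻¹ := by group
      _ = i := by rw [F.pow_conj j inP_basis.1, hj, h']; group
  -- the distinguished involution fixes exactly one coset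
  have hfix : ∀ g : G, g⁻¹ * F.φ mT * g ∈ L → g ∈ L := by
    intro g hg
    have ho : orderOf (g⁻¹ * F.φ mT * g) = 2 := by
      have h := orderOf_injective (MulAut.conj g⁻¹).toMonoidHom (MulAut.conj g⁻¹).injective (F.φ mT)
      simpa [show orderOf (F.φ mT) = 2 from orderOf_t F.toData] using h
    obtain ⟨l, hl, hle⟩ := hfus _ hg ho
    obtain ⟨m, hm⟩ := mem_range_of_commute F.toData (g := g * l) (by
      show g * l * F.φ mT = F.φ mT * (g * l)
      calc g * l * F.φ mT = g * (l * F.φ mT * l⁻¹) * l := by group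
        _ = g * (g⁻¹ * F.φ mT * g) * l := by rw [hle]
        _ = _ := by group)
    have h := L.mul_mem (hφL m) (L.inv_mem hl)
    rwa [hm, mul_inv_cancel_right] at h
  set n := L.index with hn
  set σ : Equiv.Perm (G ⧸ L) := MulAction.toPermHom G (G ⧸ L) (F.φ mT) with hσ
  haveI : Fintype (G ⧸ L) := Fintype.ofFinite _
  have hσ2 : σ ^ 2 = 1 := by
    rw [hσ, ← map_pow, ← map_pow, pow_two, model_orders.2.1, map_one, map_one]
  have hfix1 : Fintype.card (Function.fixedPoints σ) = 1 := by
    rw [Fintype.card_eq_one_iff]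
    refine ⟨⟨((1 : G) : G ⧸ L), ?_⟩, ?_⟩
    · show F.φ mT • ((1 : G) : G ⧸ L) = ((1 : G) : G ⧸ L)
      rw [MulAction.Quotient.smul_coe, QuotientGroup.eq, smul_eq_mul, mul_one, mul_one]
      exact L.inv_mem (hφL mT)
    · rintro ⟨x, hx⟩
      induction x using QuotientGroup.induction_on with
      | _ g =>
        replace hx : F.φ mT • ((g : G) : G ⧸ L) = ((g : G) : G ⧸ L) := hx
        rw [MulAction.Quotient.smul_coe, QuotientGroup.eq, smul_eq_mul] at hx
        have hg : g ∈ L := hfix g (by
          have h := L.inv_mem hx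
          simpa [mul_assoc] using h)
        apply Subtype.ext
        show ((g : G) : G ⧸ L) = ((1 : G) : G ⧸ L)
        rw [QuotientGroup.eq]
        simpa using L.inv_mem hg
  have hsign : Equiv.Perm.sign σ = 1 := by
    set s : G →* ℤˣ := Equiv.Perm.sign.comp (MulAction.toPermHom G (G ⧸ L)) with hs
    rcases SimpleOrder.eq_bot_or_top (H := s.ker) inferInstance with h | h
    · exfalso
      have h2 := Nat.card_le_card_of_injective s (s.ker_eq_bot_iff.1 h)
      rw [hcard, Nat.card_eq_fintype_card, Fintype.card_units_int] at h2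
      omega
    · have : F.φ mT ∈ s.ker := h ▸ Subgroup.mem_top _
      exact this
  rw [Equiv.Perm.sign_of_pow_two_eq_one hσ2, hfix1, neg_one_pow_eq_one_iff_even (by decide),
    ← Nat.card_eq_fintype_card, ← Subgroup.index_eq_card, ← hn] at hsign
  -- the possible indices
  have hLc := L.index_mul_card
  rw [← hn, hcard] at hLc
  have h840 : 840 ∣ Nat.card ↥L := by
    have h120 : 120 ∣ Nat.card ↥L := by
      rw [← card_centralizer_t F.toData]
      refine Subgroup.card_dvd_of_le ?_
      rintro g hg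
      obtain ⟨m, rfl⟩ := mem_range_of_commute F.toData (Subgroup.mem_centralizer_singleton_iff.1 hg)
      exact hφL m
    have h7 : 7 ∣ Nat.card ↥L := by
      haveI : Fact (Nat.Prime 7) := ⟨by norm_num⟩
      have h := orderOf_dvd_natCard (⟨F.r, hrL⟩ : ↥L)
      rwa [← Subgroup.orderOf_coe, orderOf_eq_prime F.r_pow
        (fun e => F.r_notMem (e ▸ one_mem _))] at h
    exact Nat.Coprime.mul_dvd_of_dvd_of_dvd (by norm_num : Nat.Coprime 120 7) h120 h7
  obtain ⟨c, hc⟩ := h840
  have hn1 : n ≠ 1 := fun h => hne (Subgroup.index_eq_one.1 h)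
  have hn209 : n ∈ Nat.divisors 209 :=
    Nat.mem_divisors.2 ⟨⟨c, by rw [hc] at hLc; linarith⟩, by norm_num⟩
  rw [show Nat.divisors 209 = {1, 11, 19, 209} by decide +kernel] at hn209
  simp only [Finset.mem_insert, Finset.mem_singleton] at hn209
  rcases hn209 with h | h | h | h
  · exact hn1 h
  · rw [h] at hsign; revert hsign; decide
  · rw [h] at hsign; revert hsign; decide
  have hL840 : Nat.card ↥L = 840 := by
    rw [h] at hLc
    omega
  -- the normalizer of the subgroup of order 3 inside `L`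
  set R := Subgroup.zpowers (F.φ mX) with hR
  set N := Subgroup.normalizer (R : Set G) with hN
  have hRL : R ≤ L := Subgroup.zpowers_le.2 (hφL mX)
  have hx3 : orderOf (F.φ mX) = 3 := by
    rw [orderOf_injective F.φ F.inj]
    exact orderOf_eq_prime model_orders.2.2.2.1 model_orders.2.2.1
  have hRc : Nat.card ↥(R.subgroupOf L) = 3 ^ (Nat.card ↥L).factorization 3 := by
    rw [Nat.card_congr (Subgroup.subgroupOfEquivOfLe hRL).toEquiv, Nat.card_zpowers, hx3, hL840,
      show (840 : ℕ) = 3 ^ 1 * 280 by norm_num, Nat.factorization_mul (by norm_num) (by norm_num),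
      Nat.factorization_pow]
    simp [Nat.factorization_eq_zero_of_not_dvd (show ¬ 3 ∣ 280 by norm_num),
      Nat.prime_three.factorization_self]
  have hsyl := card_sylow_modEq_one 3 ↥L
  rw [(Sylow.ofCard (R.subgroupOf L) hRc).card_eq_index_normalizer] at hsyl
  change (Subgroup.normalizer ((R.subgroupOf L : Subgroup ↥L) : Set ↥L)).index ≡ 1 [MOD 3] at hsyl
  rw [← Subgroup.subgroupOf_normalizer_eq hRL, ← hN] at hsyl
  have hidx := (N.subgroupOf L).index_mul_card
  rw [hL840] at hidx
  have h60 : 60 ∣ Nat.card ↥(N.subgroupOf L) := by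
    have hmem : ∀ g : G, g ∈ N → g ∈ L → orderOf g ∣ Nat.card ↥(N.subgroupOf L) := fun g h1 h2 => by
      have h := orderOf_dvd_natCard (⟨⟨g, h2⟩, h1⟩ : ↥(N.subgroupOf L))
      rwa [← Subgroup.orderOf_coe, ← Subgroup.orderOf_coe] at h
    have hcomm : ∀ g : G, g * F.φ mX = F.φ mX * g → g ∈ N := fun g hg => by
      apply Subgroup.centralizer_le_normalizer
      rw [hR, Subgroup.zpowers_eq_closure, Subgroup.centralizer_closure]
      exact Subgroup.mem_centralizer_singleton_iff.2 hg
    set f := F.caseW 1 * F.φ (caseZ 1) * (F.caseW 1)⁻¹ with hf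
    have hwL : F.caseW 1 ∈ L := L.mul_mem (hφL mY) hrL
    have hfL : f ∈ L := L.mul_mem (L.mul_mem hwL (hφL _)) (L.inv_mem hwL)
    have h5 : 5 ∣ Nat.card ↥(N.subgroupOf L) := by
      have ho : orderOf f = 5 := by
        haveI : Fact (Nat.Prime 5) := ⟨by norm_num⟩
        refine orderOf_eq_prime ?_ fun e => caseZ_order.2 (F.inj ?_)
        · rw [hf, conj_pow, ← map_pow, caseZ_order.1, map_one, mul_one, mul_inv_cancel]
        · rw [map_one]
          exact conj_eq_one_iff.1 e
      exact ho ▸ hmem f (hcomm f hrel.symm) hfL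
    have h3 : 3 ∣ Nat.card ↥(N.subgroupOf L) := hx3 ▸ hmem _ (hcomm _ rfl) (hφL mX)
    have h4 : 4 ∣ Nat.card ↥(N.subgroupOf L) := by
      have hmN : ∀ m ∈ mE, F.φ m ∈ N := fun m hm => by
        apply Subgroup.mem_normalizer_fintype
        rintro g hg
        obtain ⟨k, rfl⟩ := Subgroup.mem_zpowers_iff.1 hg
        rw [← conj_zpow]
        refine Subgroup.zpow_mem _ ?_ k
        rcases mE_facts.2 m hm with e | e <;> rw [← map_inv, ← map_mul, ← map_mul, e]
        · exact Subgroup.mem_zpowers _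
        · rw [map_inv]; exact Subgroup.inv_mem _ (Subgroup.mem_zpowers _)
      rw [← card_mE]
      exact Subgroup.card_dvd_of_injective
        (((F.φ.comp mE.subtype).codRestrict L fun m => hφL _).codRestrict (N.subgroupOf L) fun m => hmN m m.2)
        fun a b e => Subtype.ext (F.inj (congrArg Subtype.val (congrArg Subtype.val e)))
    exact Nat.Coprime.mul_dvd_of_dvd_of_dvd (by norm_num : Nat.Coprime 12 5)
      (Nat.Coprime.mul_dvd_of_dvd_of_dvd (by norm_num : Nat.Coprime 4 3) h4 h3) h5
  have h8 : ¬ 8 ∣ Nat.card ↥(N.subgroupOf L) := by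
    intro h8
    obtain ⟨o, ho, hod, -⟩ := card_normalizer_zpowers (F.φ mX)
    rw [hx3, Nat.totient_prime Nat.prime_three] at hod
    have hd : Nat.card ↥(N.subgroupOf L) ∣ Nat.card ↥N :=
      Subgroup.card_dvd_of_injective (L.subtype.subgroupComap N) fun a b e =>
        Subtype.ext (Subtype.ext (congrArg (Subtype.val : ↥N → G) e))
    rw [ho] at hd
    have h' : 2 * 4 ∣ 2 * Nat.card ↥(Subgroup.centralizer ({F.φ mX} : Set G)) :=
      h8.trans (hd.trans (Nat.mul_dvd_mul_right hod _))
    exact factor_two_centralizer_X F.toData hT (Nat.dvd_of_mul_dvd_mul_left (by norm_num) h')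
  obtain ⟨e, he⟩ := h60
  rw [he] at hidx h8
  unfold Nat.ModEq at hsyl
  have he14 : e ∈ Nat.divisors 14 :=
    Nat.mem_divisors.2 ⟨⟨(N.subgroupOf L).index, by linarith⟩, by norm_num⟩
  rw [show Nat.divisors 14 = {1, 2, 7, 14} by decide +kernel] at he14
  simp only [Finset.mem_insert, Finset.mem_singleton] at he14
  rcases he14 with rfl | rfl | rfl | rfl <;> omega

theorem exists_standard (d : Data G) (hT : IsTwoCentralInvolution d.t) (hcard : Nat.card G = 175560) :
    ∃ (φ : M →* G) (r : G), Amalg φ r 1 ∧ Subgroup.closure (Set.range φ ∪ {r}) = ⊤ := by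
  obtain ⟨F, hF⟩ := exists_frame d hT
  have hT' : IsTwoCentralInvolution F.toData.t := hF ▸ hT
  obtain ⟨k, hk⟩ := exists_case F hT' hcard
  have hk1 : k = 1 := by
    by_contra h
    exact F.r_notMem (collapse (F.amalg hk) h)
  subst hk1
  exact ⟨F.φ, F.r, F.amalg hk, generated F hT' hcard hk⟩

theorem surjective_proj {P C : Type*} [Group P] [Group C] (π : P →* C) {ν : M →* P} {p : P} (χ : M →* C) (c : C)
    (h1 : π.comp ν = χ) (h2 : π p = c) (h3 : Subgroup.closure (Set.range χ ∪ {c}) = ⊤) :
    Function.Surjective (π.comp (Subgroup.closure (Set.range ν ∪ {p})).subtype) := by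
  rw [← MonoidHom.range_eq_top, MonoidHom.range_comp, Subgroup.range_subtype, MonoidHom.map_closure,
    Set.image_union, Set.image_singleton, ← Set.range_comp, h2, ← MonoidHom.coe_comp, h1, h3]

theorem iso_of_standard {A B : Type*} [Group A] [Finite A] [Group B] [Finite B] {φ : M →* A} {r : A}
    {χ : M →* B} {s : B} (hA : Amalg φ r 1) (hB : Amalg χ s 1)
    (gA : Subgroup.closure (Set.range φ ∪ {r}) = ⊤) (gB : Subgroup.closure (Set.range χ ∪ {s}) = ⊤)
    (cA : Nat.card A = 175560) (cB : Nat.card B = 175560) : Nonempty (A ≃* B) := by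
  set D := Subgroup.closure (Set.range (φ.prod χ) ∪ {(r, s)}) with hD
  have hr : (r, s) ∈ D := Subgroup.subset_closure (Or.inr rfl)
  have hm : ∀ m, φ.prod χ m ∈ D := fun m => Subgroup.subset_closure (Or.inl ⟨m, rfl⟩)
  set ψ : M →* ↥D := (φ.prod χ).codRestrict D hm with hψ
  set R : ↥D := ⟨(r, s), hr⟩ with hR
  have hW : ∀ k, ((amalgW ψ R k : ↥D) : A × B) = (amalgW φ r k, amalgW χ s k) := by
    intro k
    fin_cases k <;> rfl
  have h : Amalg ψ R 1 := by
    refine ⟨Subtype.ext (Prod.ext hA.pow hB.pow), Subtype.ext (Prod.ext hA.conjX hB.conjX),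
      fun m hm => Subtype.ext (Prod.ext (hA.conjS m hm) (hB.conjS m hm)), Subtype.ext ?_⟩
    simp only [Subgroup.coe_mul, Subgroup.coe_inv, hW]
    exact Prod.ext hA.rel hB.rel
  have hgen : Subgroup.closure (Set.range ψ ∪ {R}) = ⊤ := by
    apply Subgroup.map_injective D.subtype_injective
    rw [MonoidHom.map_closure, ← MonoidHom.range_eq_map, Subgroup.range_subtype, Set.image_union,
      Set.image_singleton, ← Set.range_comp]
    exact hD.symm
  have hle : Nat.card ↥D ≤ 175560 := card_le_of_generated h hgen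
  have sA := surjective_proj (MonoidHom.fst A B) (ν := φ.prod χ) (p := (r, s)) φ r (MonoidHom.fst_comp_prod φ χ) rfl gA
  have sB := surjective_proj (MonoidHom.snd A B) (ν := φ.prod χ) (p := (r, s)) χ s (MonoidHom.snd_comp_prod φ χ) rfl gB
  have bA : Function.Bijective ((MonoidHom.fst A B).comp D.subtype) :=
    sA.bijective_of_nat_card_le (by rw [cA]; exact hle)
  have bB : Function.Bijective ((MonoidHom.snd A B).comp D.subtype) :=
    sB.bijective_of_nat_card_le (by rw [cB]; exact hle)
  exact ⟨(MulEquiv.ofBijective _ bA).symm.trans (MulEquiv.ofBijective _ bB)⟩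

theorem iso_of_data {H : Type*} [Group H] [Finite H] [IsSimpleGroup H] (d : Data G) (d' : Data H)
    (hT : IsTwoCentralInvolution d.t) (hT' : IsTwoCentralInvolution d'.t)
    (cG : Nat.card G = 175560) (cH : Nat.card H = 175560) : Nonempty (G ≃* H) := by
  obtain ⟨φ, r, hA, gA⟩ := exists_standard d hT cG
  obtain ⟨χ, s, hB, gB⟩ := exists_standard d' hT' cH
  exact iso_of_standard hA hB gA gB cG cH

end Cfsg.Agent.J1Order91
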