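import Cfsg.Agent.Lib.J1Basic
import Cfsg.Agent.Lib.J1Facts
import Cfsg.Agent.Lib.J1Unique91

/-!
The matrix group J1 has an involution with centralizer `C₂ × A₅`.
-/

set_option autoImplicit false
set_option linter.style.haveILetI false
set_option linter.unusedSectionVars false
set_option synthInstance.maxSize 4000
set_option synthInstance.maxHeartbeats 400000
set_option maxRecDepth 8000

namespace Cfsg.Agent.J1Order91

open Cfsg Cfsg.Agent.J1Basic Cfsg.Agent.J1Cert Cfsg.Agent.J1Data

/-- Model elements matching the tabulated elements of the centralizer. -/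
def matIdx : List ℕ :=
  [0, 1, 16, 2, 23, 4, 20, 29, 6, 27, 41, 10, 17, 38, 32, 9, 24, 50, 44, 13, 3, 58, 30, 57, 19, 5,
  72, 42, 71, 26, 35, 8, 33, 7, 37, 52, 36, 47, 12, 45, 11, 49, 66, 48, 39, 59, 105, 56, 15, 54, 14,
  51, 73, 111, 70, 22, 68, 21, 65, 62, 64, 82, 115, 81, 28, 79, 76, 78, 93, 118, 92, 40, 89, 60, 88,
  86, 84, 85, 90, 100, 74, 99, 97, 95, 96, 101, 63, 18, 31, 83, 104, 103, 102, 77, 25, 43, 94, 110,
  109, 108, 114, 87, 34, 55, 53, 61, 117, 98, 46, 69, 67, 75, 106, 116, 80, 112, 119, 91, 107, 113]

/-- The model element of the word with number `i`. -/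
def wordEl (i : ℕ) : M := ((modelWords.getD i []).map ![mT, mX, mY]).prod

/-- The model element matching the centralizer element number `i`. -/
def matModel (i : Fin 120) : M := wordEl (matIdx.getD i 0)

/-- The model elements matching the three generators of the centralizer. -/
def matGen (j : Fin 3) : M := ![mT, wordEl 16, wordEl 2] j

theorem matModel_table : (∀ (i : Fin 120) (j : Fin 3),
    matModel ⟨gt sMulT (3 * i + j) % 120, Nat.mod_lt _ (by norm_num)⟩ = matModel i * matGen j) ∧
    matModel 0 = 1 := by decide +kernel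

theorem matModel_injective : Function.Injective matModel := by
  have h : ∀ i j : Fin 120, matIdx.getD i 0 = matIdx.getD j 0 → i = j := by decide +kernel
  have h2 : ∀ i : Fin 120, matIdx.getD i 0 < 120 := by decide +kernel
  have hs : Function.Surjective (fun i : Fin 120 => wordEl i) := by
    intro m
    obtain ⟨w, hw, rfl⟩ := List.mem_map.1 (mem_words m)
    obtain ⟨i, hi, rfl⟩ := List.mem_iff_getElem.1 hw
    have hl : modelWords.length = 120 := by decide +kernel
    exact ⟨⟨i, hl ▸ hi⟩, by simp [wordEl, List.getElem?_eq_getElem hi]⟩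
  have hi := (hs.bijective_of_nat_card_le (by rw [card_model]; simp)).1
  intro i j hij
  exact h i j (congrArg Fin.val (@hi ⟨_, h2 i⟩ ⟨_, h2 j⟩ hij))

theorem matModel_mul_gen (i : Fin 120) (j : Fin 3) :
    ∃ k : Fin 120, sEl i * hEl j = sEl k ∧ matModel k = matModel i * matGen j := by
  obtain ⟨k, hk, h⟩ := s_mul_gen i j
  refine ⟨k, h, ?_⟩
  rw [← matModel_table.1 i j]
  congr 1
  exact Fin.ext (by show (k : ℕ) = gt sMulT (3 * i + j) % 120; rw [← hk, Nat.mod_eq_of_lt k.2])

theorem matModel_mul (i : Fin 120) : ∀ k l : Fin 120, sEl i * sEl k = sEl l →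
    matModel l = matModel i * matModel k := by
  intro k
  obtain ⟨n, hn⟩ : ∃ n : ℕ, (k : ℕ) = n := ⟨_, rfl⟩
  induction n using Nat.strong_induction_on generalizing k with
  | _ n ih =>
    intro l hl
    by_cases h0 : (k : ℕ) = 0
    · rw [show k = 0 from Fin.ext h0] at hl ⊢
      rw [sEl_zero, mul_one] at hl
      rw [matModel_table.2, mul_one, sEl_injective hl]
    · obtain ⟨p, j, -, -, hlt, he⟩ := tree_step k h0
      obtain ⟨q, hq⟩ := s_closed i p
      obtain ⟨m, hm, hm'⟩ := matModel_mul_gen q j
      obtain ⟨k', hk, hk'⟩ := matModel_mul_gen p j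
      have e1 : k' = k := sEl_injective (hk.symm.trans he.symm)
      have e2 : l = m := sEl_injective (by rw [← hl, he, ← mul_assoc, hq, hm])
      rw [e2, hm', ← e1, hk', ih p (hn ▸ hlt) p rfl q hq, mul_assoc]

theorem matModel_bijective : Function.Bijective matModel :=
  matModel_injective.bijective_of_nat_card_le (by rw [card_model]; simp)

/-- The embedding of the model into J1. -/
noncomputable def matHom : M →* Cfsg.Spor.J1 :=
  MonoidHom.mk' (fun m => sEl ((Equiv.ofBijective _ matModel_bijective).symm m)) fun a b => by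
    set e := Equiv.ofBijective _ matModel_bijective with he
    obtain ⟨l, hl⟩ := s_closed (e.symm a) (e.symm b)
    rw [hl]
    congr 1
    apply matModel_bijective.1
    have h := matModel_mul _ _ _ hl
    have ha : ∀ m, matModel (e.symm m) = m := fun m => e.apply_symm_apply m
    rw [h, ha, ha, ha]

theorem matHom_apply (i : Fin 120) : matHom (matModel i) = sEl i :=
  congrArg sEl ((Equiv.ofBijective _ matModel_bijective).symm_apply_apply i)

theorem matHom_T : matHom mT = J1Basic.t := by
  obtain ⟨k, hk, hk'⟩ := matModel_mul_gen 0 0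
  rw [sEl_zero, one_mul] at hk
  rw [matModel_table.2, one_mul] at hk'
  rw [show mT = matModel k from hk'.symm, matHom_apply]
  exact hk.symm

/-- The centralizer data of the matrix group J1. -/
noncomputable def matData : Data Cfsg.Spor.J1 where
  φ := matHom
  inj a b h := by
    obtain ⟨i, rfl⟩ := matModel_bijective.2 a
    obtain ⟨j, rfl⟩ := matModel_bijective.2 b
    rw [matHom_apply, matHom_apply] at h
    rw [sEl_injective h]
  range_eq := by
    ext g
    rw [Subgroup.mem_centralizer_singleton_iff, matHom_T, mem_centralizer_t]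
    constructor
    · rintro ⟨m, rfl⟩
      obtain ⟨i, rfl⟩ := matModel_bijective.2 m
      exact ⟨i, (matHom_apply i).symm⟩
    · rintro ⟨i, rfl⟩
      exact ⟨matModel i, matHom_apply i⟩

/-- The distinguished involution is 2-central as soon as the order has 2-part 8. -/
theorem twoCentral {G : Type*} [Group G] [Finite G] (d : Data G) (h : (Nat.card G).factorization 2 = 3) :
    IsTwoCentralInvolution d.t := by
  haveI : Fact (Nat.Prime 2) := ⟨Nat.prime_two⟩
  refine ⟨orderOf_t d, Sylow.ofCard d.P (by rw [card_P, h]; norm_num), ?_, ?_⟩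
  · exact ⟨mT, model_sylow.2.1, rfl⟩
  · rintro x ⟨m, -, rfl⟩
    rw [Data.t, ← map_mul, ← map_mul, model_central.1]

theorem factorization_two_order : (175560 : ℕ).factorization 2 = 3 := by
  rw [show (175560 : ℕ) = 2 ^ 3 * 21945 by norm_num, Nat.factorization_mul (by norm_num) (by norm_num),
    Nat.factorization_pow]
  simp [Nat.factorization_eq_zero_of_not_dvd (show ¬ 2 ∣ 21945 by norm_num),
    Nat.prime_two.factorization_self]

/-- A group with centralizer data and order 175560 is the matrix group J1. -/
theorem isoJ1_of_data {G : Type*} [Group G] [Finite G] [IsSimpleGroup G] (d : Data G)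
    (hT : IsTwoCentralInvolution d.t) (hcard : Nat.card G = 175560) : Cfsg.Spor.IsoJ1 G := by
  haveI := J1Facts.isSimple
  exact iso_of_data d matData hT (twoCentral matData (by rw [card_J1]; exact factorization_two_order))
    hcard card_J1

end Cfsg.Agent.J1Order91
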