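import Cfsg.Agent.Lib.J1UCert91C0_0
import Cfsg.Agent.Lib.J1UCert91C1_0
import Cfsg.Agent.Lib.J1UCert91C1_1
import Cfsg.Agent.Lib.J1UCert91C1_2
import Cfsg.Agent.Lib.J1UCert91C1_3
import Cfsg.Agent.Lib.J1UCert91C1_4
import Cfsg.Agent.Lib.J1UCert91C1_5
import Cfsg.Agent.Lib.J1UCert91C2_0
import Cfsg.Agent.Lib.J1UCert91C3_0

/-!
The coset enumeration certificates for the uniqueness of the first Janko group: all facts hold.
-/

set_option autoImplicit false

namespace Cfsg.Agent.J1UCert91

open Cfsg.Agent.J1CertCore91

theorem closed1 : closedUpTo cert1 E1 L1 29731 1463 1463 = true ∧ entry L1 32 0 = 0 := by decide +kernel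

variable {Γ X : Type*} [Group Γ] [MulAction Γ X] {g : Nat → Γ} {base : X}

/-- All facts of certificate 0 hold. -/
theorem valid0 (hC : Ctx g base cert0) : AllValid g (nodeVal g base cert0) cert0 1151 := by
  have h0 : AllValid g (nodeVal g base cert0) cert0 0 := fun i hi => absurd hi (Nat.not_lt_zero i)
  have h1 : AllValid g (nodeVal g base cert0) cert0 500 := by
    have h := checkList_sound g base hC j0_0 0 h0 ok0_0
    rw [len0_0] at h
    exact h
  have h2 : AllValid g (nodeVal g base cert0) cert0 1000 := by
    have h := checkList_sound g base hC j0_1 500 h1 ok0_1
    rw [len0_1] at h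
    exact h
  have h3 : AllValid g (nodeVal g base cert0) cert0 1151 := by
    have h := checkList_sound g base hC j0_2 1000 h2 ok0_2
    rw [len0_2] at h
    exact h
  exact h3

/-- All facts of certificate 1 hold. -/
theorem valid1 (hC : Ctx g base cert1) : AllValid g (nodeVal g base cert1) cert1 29731 := by
  have h0 : AllValid g (nodeVal g base cert1) cert1 0 := fun i hi => absurd hi (Nat.not_lt_zero i)
  have h1 : AllValid g (nodeVal g base cert1) cert1 500 := by
    have h := checkList_sound g base hC j1_0 0 h0 ok1_0
    rw [len1_0] at h
    exact h
  have h2 : AllValid g (nodeVal g base cert1) cert1 1000 := by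
    have h := checkList_sound g base hC j1_1 500 h1 ok1_1
    rw [len1_1] at h
    exact h
  have h3 : AllValid g (nodeVal g base cert1) cert1 1500 := by
    have h := checkList_sound g base hC j1_2 1000 h2 ok1_2
    rw [len1_2] at h
    exact h
  have h4 : AllValid g (nodeVal g base cert1) cert1 2000 := by
    have h := checkList_sound g base hC j1_3 1500 h3 ok1_3
    rw [len1_3] at h
    exact h
  have h5 : AllValid g (nodeVal g base cert1) cert1 2500 := by
    have h := checkList_sound g base hC j1_4 2000 h4 ok1_4
    rw [len1_4] at h
    exact h
  have h6 : AllValid g (nodeVal g base cert1) cert1 3000 := by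
    have h := checkList_sound g base hC j1_5 2500 h5 ok1_5
    rw [len1_5] at h
    exact h
  have h7 : AllValid g (nodeVal g base cert1) cert1 3500 := by
    have h := checkList_sound g base hC j1_6 3000 h6 ok1_6
    rw [len1_6] at h
    exact h
  have h8 : AllValid g (nodeVal g base cert1) cert1 4000 := by
    have h := checkList_sound g base hC j1_7 3500 h7 ok1_7
    rw [len1_7] at h
    exact h
  have h9 : AllValid g (nodeVal g base cert1) cert1 4500 := by
    have h := checkList_sound g base hC j1_8 4000 h8 ok1_8
    rw [len1_8] at h
    exact h
  have h10 : AllValid g (nodeVal g base cert1) cert1 5000 := by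
    have h := checkList_sound g base hC j1_9 4500 h9 ok1_9
    rw [len1_9] at h
    exact h
  have h11 : AllValid g (nodeVal g base cert1) cert1 5500 := by
    have h := checkList_sound g base hC j1_10 5000 h10 ok1_10
    rw [len1_10] at h
    exact h
  have h12 : AllValid g (nodeVal g base cert1) cert1 6000 := by
    have h := checkList_sound g base hC j1_11 5500 h11 ok1_11
    rw [len1_11] at h
    exact h
  have h13 : AllValid g (nodeVal g base cert1) cert1 6500 := by
    have h := checkList_sound g base hC j1_12 6000 h12 ok1_12
    rw [len1_12] at h
    exact h
  have h14 : AllValid g (nodeVal g base cert1) cert1 7000 := by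
    have h := checkList_sound g base hC j1_13 6500 h13 ok1_13
    rw [len1_13] at h
    exact h
  have h15 : AllValid g (nodeVal g base cert1) cert1 7500 := by
    have h := checkList_sound g base hC j1_14 7000 h14 ok1_14
    rw [len1_14] at h
    exact h
  have h16 : AllValid g (nodeVal g base cert1) cert1 8000 := by
    have h := checkList_sound g base hC j1_15 7500 h15 ok1_15
    rw [len1_15] at h
    exact h
  have h17 : AllValid g (nodeVal g base cert1) cert1 8500 := by
    have h := checkList_sound g base hC j1_16 8000 h16 ok1_16
    rw [len1_16] at h
    exact h
  have h18 : AllValid g (nodeVal g base cert1) cert1 9000 := by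
    have h := checkList_sound g base hC j1_17 8500 h17 ok1_17
    rw [len1_17] at h
    exact h
  have h19 : AllValid g (nodeVal g base cert1) cert1 9500 := by
    have h := checkList_sound g base hC j1_18 9000 h18 ok1_18
    rw [len1_18] at h
    exact h
  have h20 : AllValid g (nodeVal g base cert1) cert1 10000 := by
    have h := checkList_sound g base hC j1_19 9500 h19 ok1_19
    rw [len1_19] at h
    exact h
  have h21 : AllValid g (nodeVal g base cert1) cert1 10500 := by
    have h := checkList_sound g base hC j1_20 10000 h20 ok1_20
    rw [len1_20] at h
    exact h
  have h22 : AllValid g (nodeVal g base cert1) cert1 11000 := by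
    have h := checkList_sound g base hC j1_21 10500 h21 ok1_21
    rw [len1_21] at h
    exact h
  have h23 : AllValid g (nodeVal g base cert1) cert1 11500 := by
    have h := checkList_sound g base hC j1_22 11000 h22 ok1_22
    rw [len1_22] at h
    exact h
  have h24 : AllValid g (nodeVal g base cert1) cert1 12000 := by
    have h := checkList_sound g base hC j1_23 11500 h23 ok1_23
    rw [len1_23] at h
    exact h
  have h25 : AllValid g (nodeVal g base cert1) cert1 12500 := by
    have h := checkList_sound g base hC j1_24 12000 h24 ok1_24
    rw [len1_24] at h
    exact h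
  have h26 : AllValid g (nodeVal g base cert1) cert1 13000 := by
    have h := checkList_sound g base hC j1_25 12500 h25 ok1_25
    rw [len1_25] at h
    exact h
  have h27 : AllValid g (nodeVal g base cert1) cert1 13500 := by
    have h := checkList_sound g base hC j1_26 13000 h26 ok1_26
    rw [len1_26] at h
    exact h
  have h28 : AllValid g (nodeVal g base cert1) cert1 14000 := by
    have h := checkList_sound g base hC j1_27 13500 h27 ok1_27
    rw [len1_27] at h
    exact h
  have h29 : AllValid g (nodeVal g base cert1) cert1 14500 := by
    have h := checkList_sound g base hC j1_28 14000 h28 ok1_28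
    rw [len1_28] at h
    exact h
  have h30 : AllValid g (nodeVal g base cert1) cert1 15000 := by
    have h := checkList_sound g base hC j1_29 14500 h29 ok1_29
    rw [len1_29] at h
    exact h
  have h31 : AllValid g (nodeVal g base cert1) cert1 15500 := by
    have h := checkList_sound g base hC j1_30 15000 h30 ok1_30
    rw [len1_30] at h
    exact h
  have h32 : AllValid g (nodeVal g base cert1) cert1 16000 := by
    have h := checkList_sound g base hC j1_31 15500 h31 ok1_31
    rw [len1_31] at h
    exact h
  have h33 : AllValid g (nodeVal g base cert1) cert1 16500 := by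
    have h := checkList_sound g base hC j1_32 16000 h32 ok1_32
    rw [len1_32] at h
    exact h
  have h34 : AllValid g (nodeVal g base cert1) cert1 17000 := by
    have h := checkList_sound g base hC j1_33 16500 h33 ok1_33
    rw [len1_33] at h
    exact h
  have h35 : AllValid g (nodeVal g base cert1) cert1 17500 := by
    have h := checkList_sound g base hC j1_34 17000 h34 ok1_34
    rw [len1_34] at h
    exact h
  have h36 : AllValid g (nodeVal g base cert1) cert1 18000 := by
    have h := checkList_sound g base hC j1_35 17500 h35 ok1_35
    rw [len1_35] at h
    exact h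
  have h37 : AllValid g (nodeVal g base cert1) cert1 18500 := by
    have h := checkList_sound g base hC j1_36 18000 h36 ok1_36
    rw [len1_36] at h
    exact h
  have h38 : AllValid g (nodeVal g base cert1) cert1 19000 := by
    have h := checkList_sound g base hC j1_37 18500 h37 ok1_37
    rw [len1_37] at h
    exact h
  have h39 : AllValid g (nodeVal g base cert1) cert1 19500 := by
    have h := checkList_sound g base hC j1_38 19000 h38 ok1_38
    rw [len1_38] at h
    exact h
  have h40 : AllValid g (nodeVal g base cert1) cert1 20000 := by
    have h := checkList_sound g base hC j1_39 19500 h39 ok1_39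
    rw [len1_39] at h
    exact h
  have h41 : AllValid g (nodeVal g base cert1) cert1 20500 := by
    have h := checkList_sound g base hC j1_40 20000 h40 ok1_40
    rw [len1_40] at h
    exact h
  have h42 : AllValid g (nodeVal g base cert1) cert1 21000 := by
    have h := checkList_sound g base hC j1_41 20500 h41 ok1_41
    rw [len1_41] at h
    exact h
  have h43 : AllValid g (nodeVal g base cert1) cert1 21500 := by
    have h := checkList_sound g base hC j1_42 21000 h42 ok1_42
    rw [len1_42] at h
    exact h
  have h44 : AllValid g (nodeVal g base cert1) cert1 22000 := by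
    have h := checkList_sound g base hC j1_43 21500 h43 ok1_43
    rw [len1_43] at h
    exact h
  have h45 : AllValid g (nodeVal g base cert1) cert1 22500 := by
    have h := checkList_sound g base hC j1_44 22000 h44 ok1_44
    rw [len1_44] at h
    exact h
  have h46 : AllValid g (nodeVal g base cert1) cert1 23000 := by
    have h := checkList_sound g base hC j1_45 22500 h45 ok1_45
    rw [len1_45] at h
    exact h
  have h47 : AllValid g (nodeVal g base cert1) cert1 23500 := by
    have h := checkList_sound g base hC j1_46 23000 h46 ok1_46
    rw [len1_46] at h
    exact h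
  have h48 : AllValid g (nodeVal g base cert1) cert1 24000 := by
    have h := checkList_sound g base hC j1_47 23500 h47 ok1_47
    rw [len1_47] at h
    exact h
  have h49 : AllValid g (nodeVal g base cert1) cert1 24500 := by
    have h := checkList_sound g base hC j1_48 24000 h48 ok1_48
    rw [len1_48] at h
    exact h
  have h50 : AllValid g (nodeVal g base cert1) cert1 25000 := by
    have h := checkList_sound g base hC j1_49 24500 h49 ok1_49
    rw [len1_49] at h
    exact h
  have h51 : AllValid g (nodeVal g base cert1) cert1 25500 := by
    have h := checkList_sound g base hC j1_50 25000 h50 ok1_50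
    rw [len1_50] at h
    exact h
  have h52 : AllValid g (nodeVal g base cert1) cert1 26000 := by
    have h := checkList_sound g base hC j1_51 25500 h51 ok1_51
    rw [len1_51] at h
    exact h
  have h53 : AllValid g (nodeVal g base cert1) cert1 26500 := by
    have h := checkList_sound g base hC j1_52 26000 h52 ok1_52
    rw [len1_52] at h
    exact h
  have h54 : AllValid g (nodeVal g base cert1) cert1 27000 := by
    have h := checkList_sound g base hC j1_53 26500 h53 ok1_53
    rw [len1_53] at h
    exact h
  have h55 : AllValid g (nodeVal g base cert1) cert1 27500 := by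
    have h := checkList_sound g base hC j1_54 27000 h54 ok1_54
    rw [len1_54] at h
    exact h
  have h56 : AllValid g (nodeVal g base cert1) cert1 28000 := by
    have h := checkList_sound g base hC j1_55 27500 h55 ok1_55
    rw [len1_55] at h
    exact h
  have h57 : AllValid g (nodeVal g base cert1) cert1 28500 := by
    have h := checkList_sound g base hC j1_56 28000 h56 ok1_56
    rw [len1_56] at h
    exact h
  have h58 : AllValid g (nodeVal g base cert1) cert1 29000 := by
    have h := checkList_sound g base hC j1_57 28500 h57 ok1_57
    rw [len1_57] at h
    exact h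
  have h59 : AllValid g (nodeVal g base cert1) cert1 29500 := by
    have h := checkList_sound g base hC j1_58 29000 h58 ok1_58
    rw [len1_58] at h
    exact h
  have h60 : AllValid g (nodeVal g base cert1) cert1 29731 := by
    have h := checkList_sound g base hC j1_59 29500 h59 ok1_59
    rw [len1_59] at h
    exact h
  exact h60

/-- All facts of certificate 2 hold. -/
theorem valid2 (hC : Ctx g base cert2) : AllValid g (nodeVal g base cert2) cert2 3611 := by
  have h0 : AllValid g (nodeVal g base cert2) cert2 0 := fun i hi => absurd hi (Nat.not_lt_zero i)
  have h1 : AllValid g (nodeVal g base cert2) cert2 500 := by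
    have h := checkList_sound g base hC j2_0 0 h0 ok2_0
    rw [len2_0] at h
    exact h
  have h2 : AllValid g (nodeVal g base cert2) cert2 1000 := by
    have h := checkList_sound g base hC j2_1 500 h1 ok2_1
    rw [len2_1] at h
    exact h
  have h3 : AllValid g (nodeVal g base cert2) cert2 1500 := by
    have h := checkList_sound g base hC j2_2 1000 h2 ok2_2
    rw [len2_2] at h
    exact h
  have h4 : AllValid g (nodeVal g base cert2) cert2 2000 := by
    have h := checkList_sound g base hC j2_3 1500 h3 ok2_3
    rw [len2_3] at h
    exact h
  have h5 : AllValid g (nodeVal g base cert2) cert2 2500 := by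
    have h := checkList_sound g base hC j2_4 2000 h4 ok2_4
    rw [len2_4] at h
    exact h
  have h6 : AllValid g (nodeVal g base cert2) cert2 3000 := by
    have h := checkList_sound g base hC j2_5 2500 h5 ok2_5
    rw [len2_5] at h
    exact h
  have h7 : AllValid g (nodeVal g base cert2) cert2 3500 := by
    have h := checkList_sound g base hC j2_6 3000 h6 ok2_6
    rw [len2_6] at h
    exact h
  have h8 : AllValid g (nodeVal g base cert2) cert2 3611 := by
    have h := checkList_sound g base hC j2_7 3500 h7 ok2_7
    rw [len2_7] at h
    exact h
  exact h8

/-- All facts of certificate 3 hold. -/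
theorem valid3 (hC : Ctx g base cert3) : AllValid g (nodeVal g base cert3) cert3 2945 := by
  have h0 : AllValid g (nodeVal g base cert3) cert3 0 := fun i hi => absurd hi (Nat.not_lt_zero i)
  have h1 : AllValid g (nodeVal g base cert3) cert3 500 := by
    have h := checkList_sound g base hC j3_0 0 h0 ok3_0
    rw [len3_0] at h
    exact h
  have h2 : AllValid g (nodeVal g base cert3) cert3 1000 := by
    have h := checkList_sound g base hC j3_1 500 h1 ok3_1
    rw [len3_1] at h
    exact h
  have h3 : AllValid g (nodeVal g base cert3) cert3 1500 := by
    have h := checkList_sound g base hC j3_2 1000 h2 ok3_2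
    rw [len3_2] at h
    exact h
  have h4 : AllValid g (nodeVal g base cert3) cert3 2000 := by
    have h := checkList_sound g base hC j3_3 1500 h3 ok3_3
    rw [len3_3] at h
    exact h
  have h5 : AllValid g (nodeVal g base cert3) cert3 2500 := by
    have h := checkList_sound g base hC j3_4 2000 h4 ok3_4
    rw [len3_4] at h
    exact h
  have h6 : AllValid g (nodeVal g base cert3) cert3 2945 := by
    have h := checkList_sound g base hC j3_5 2500 h5 ok3_5
    rw [len3_5] at h
    exact h
  exact h6

end Cfsg.Agent.J1UCert91
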