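import Cfsg.Agent.Lib.J1Amalgam91

/-!
The model `C₂ × A₅` is generated by `mT`, `mX`, `mY`.
-/

set_option autoImplicit false
set_option synthInstance.maxSize 4000
set_option synthInstance.maxHeartbeats 400000
set_option maxRecDepth 8000

namespace Cfsg.Agent.J1Order91

/-- A word for every element of the model. -/
def modelWords : List (List (Fin 3)) :=
  [[], [0], [1], [2], [0, 1], [0, 2], [1, 1], [1, 2], [2, 1], [2, 2], [0, 1, 1], [0, 1, 2], [0, 2,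
  1], [0, 2, 2], [1, 1, 2], [1, 2, 1], [1, 2, 2], [2, 1, 1], [2, 1, 2], [2, 2, 1], [2, 2, 2], [0, 1,
  1, 2], [0, 1, 2, 1], [0, 1, 2, 2], [0, 2, 1, 1], [0, 2, 1, 2], [0, 2, 2, 1], [0, 2, 2, 2], [1, 1,
  2, 1], [1, 1, 2, 2], [1, 2, 1, 1], [1, 2, 1, 2], [1, 2, 2, 2], [2, 1, 1, 2], [2, 1, 2, 1], [2, 1,
  2, 2], [2, 2, 1, 1], [2, 2, 1, 2], [2, 2, 2, 1], [2, 2, 2, 2], [0, 1, 1, 2, 1], [0, 1, 1, 2, 2],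
  [0, 1, 2, 1, 1], [0, 1, 2, 1, 2], [0, 1, 2, 2, 2], [0, 2, 1, 1, 2], [0, 2, 1, 2, 1], [0, 2, 1, 2,
  2], [0, 2, 2, 1, 1], [0, 2, 2, 1, 2], [0, 2, 2, 2, 1], [0, 2, 2, 2, 2], [1, 1, 2, 1, 1], [1, 1, 2,
  1, 2], [1, 2, 1, 1, 2], [1, 2, 1, 2, 1], [1, 2, 1, 2, 2], [1, 2, 2, 2, 1], [1, 2, 2, 2, 2], [2, 1,
  1, 2, 2], [2, 1, 2, 1, 1], [2, 1, 2, 1, 2], [2, 1, 2, 2, 2], [2, 2, 1, 1, 2], [2, 2, 2, 1, 2], [2,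
  2, 2, 2, 1], [0, 1, 1, 2, 1, 1], [0, 1, 1, 2, 1, 2], [0, 1, 2, 1, 1, 2], [0, 1, 2, 1, 2, 1], [0,
  1, 2, 1, 2, 2], [0, 1, 2, 2, 2, 1], [0, 1, 2, 2, 2, 2], [0, 2, 1, 1, 2, 2], [0, 2, 1, 2, 1, 1],
  [0, 2, 1, 2, 1, 2], [0, 2, 1, 2, 2, 2], [0, 2, 2, 1, 1, 2], [0, 2, 2, 2, 1, 2], [0, 2, 2, 2, 2,
  1], [1, 1, 2, 1, 2, 1], [1, 1, 2, 1, 2, 2], [1, 2, 1, 1, 2, 2], [1, 2, 1, 2, 1, 1], [1, 2, 1, 2,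
  2, 2], [1, 2, 2, 2, 1, 2], [2, 1, 2, 1, 1, 2], [2, 1, 2, 1, 2, 2], [2, 1, 2, 2, 2, 1], [2, 1, 2,
  2, 2, 2], [2, 2, 2, 2, 1, 2], [0, 1, 1, 2, 1, 2, 1], [0, 1, 1, 2, 1, 2, 2], [0, 1, 2, 1, 1, 2, 2],
  [0, 1, 2, 1, 2, 1, 1], [0, 1, 2, 1, 2, 2, 2], [0, 1, 2, 2, 2, 1, 2], [0, 2, 1, 2, 1, 1, 2], [0, 2,
  1, 2, 1, 2, 2], [0, 2, 1, 2, 2, 2, 1], [0, 2, 1, 2, 2, 2, 2], [0, 2, 2, 2, 2, 1, 2], [1, 1, 2, 1,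
  2, 2, 2], [1, 2, 1, 2, 1, 1, 2], [1, 2, 1, 2, 2, 2, 1], [1, 2, 1, 2, 2, 2, 2], [2, 1, 2, 1, 1, 2,
  2], [2, 1, 2, 1, 2, 2, 2], [0, 1, 1, 2, 1, 2, 2, 2], [0, 1, 2, 1, 2, 1, 1, 2], [0, 1, 2, 1, 2, 2,
  2, 1], [0, 1, 2, 1, 2, 2, 2, 2], [0, 2, 1, 2, 1, 1, 2, 2], [0, 2, 1, 2, 1, 2, 2, 2], [1, 1, 2, 1,
  2, 2, 2, 1], [1, 1, 2, 1, 2, 2, 2, 2], [1, 2, 1, 2, 1, 1, 2, 2], [0, 1, 1, 2, 1, 2, 2, 2, 1], [0,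
  1, 1, 2, 1, 2, 2, 2, 2], [0, 1, 2, 1, 2, 1, 1, 2, 2]]

theorem mem_words : ∀ m : M, m ∈ modelWords.map (fun w => (w.map ![mT, mX, mY]).prod) := by decide +kernel

theorem closure_gens : Subgroup.closure ({mT, mX, mY} : Set M) = ⊤ := by
  refine eq_top_iff.2 fun m _ => ?_
  obtain ⟨w, -, rfl⟩ := List.mem_map.1 (mem_words m)
  refine list_prod_mem fun a ha => ?_
  obtain ⟨i, -, rfl⟩ := List.mem_map.1 ha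
  apply Subgroup.subset_closure
  fin_cases i <;> simp

end Cfsg.Agent.J1Order91
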