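import Cfsg.Agent.Lib.J1Case91
import Cfsg.Agent.Lib.J1Words91
import Cfsg.Agent.Lib.J1UCert91

/-!
Consequences of the coset enumerations: in three cases the element of order 7 lies in the image of
`C₂ × A₅`, and in the remaining case the amalgam has order at most `120 · 1463`.
-/

set_option autoImplicit false
set_option linter.style.haveILetI false
set_option linter.unusedSectionVars false
set_option synthInstance.maxSize 4000
set_option synthInstance.maxHeartbeats 400000

namespace Cfsg.Agent.J1Order91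

open Cfsg.Agent.J1CertCore91 Cfsg.Agent.J1UCert91

/-- The element conjugating in case `k`. -/
def amalgW {Γ : Type*} [Group Γ] (ψ : M →* Γ) (R : Γ) (k : Fin 4) : Γ :=
  ![ψ mY * R, ψ mY * R, ψ mY * (ψ mX)⁻¹ * R⁻¹, ψ mY * (ψ mX)⁻¹ * R⁻¹] k

/-- The relations of the amalgam of case `k`. -/
structure Amalg {Γ : Type*} [Group Γ] (ψ : M →* Γ) (R : Γ) (k : Fin 4) : Prop where
  pow : R ^ 7 = 1
  conjX : ψ mX * R * (ψ mX)⁻¹ = R ^ 2
  conjS : ∀ s : M, InP s → R * ψ s * R⁻¹ = ψ (L0 s)
  rel : ψ mX * (amalgW ψ R k * ψ (caseZ k) * (amalgW ψ R k)⁻¹) =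
    amalgW ψ R k * ψ (caseZ k) * (amalgW ψ R k)⁻¹ * ψ mX

theorem Frame.amalg {G : Type*} [Group G] (F : Frame G) {k : Fin 4} (h : F.Rel k) :
    Amalg F.φ F.r k :=
  ⟨F.r_pow, F.r_X, F.r_S, h⟩

/-- The images of the eight letters. -/
def letters {Γ : Type*} [Group Γ] (ψ : M →* Γ) (R : Γ) : ℕ → Γ
  | 0 => (ψ mT)⁻¹
  | 1 => ψ mT
  | 2 => (ψ mX)⁻¹
  | 3 => ψ mX
  | 4 => (ψ mY)⁻¹
  | 5 => ψ mY
  | 6 => R⁻¹
  | 7 => R
  | _ => 1

variable {Γ : Type*} [Group Γ] (ψ : M →* Γ) (R : Γ)

theorem letters_big {x : ℕ} (h : 8 ≤ x) : letters ψ R x = 1 := by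
  obtain ⟨y, rfl⟩ := Nat.exists_eq_add_of_le h
  rw [add_comm]
  rfl

theorem letters_partner (x : ℕ) : letters ψ R (Nat.xor x 1) * letters ψ R x = 1 := by
  by_cases h : x < 8
  · interval_cases x <;> simp [letters]
  · rw [letters_big ψ R (by omega : 8 ≤ x), mul_one]
    apply letters_big
    show 8 ≤ x ^^^ 1
    rcases Nat.even_or_odd x with he | he
    · rw [Nat.xor_one_of_even he]; omega
    · rw [Nat.xor_one_of_odd he]
      obtain ⟨c, rfl⟩ := he
      omega

theorem model_rels : ∀ w ∈ [[0, 0], [2, 2, 2], [4, 4, 4, 4, 4], [0, 2, 1, 3], [0, 4, 1, 5],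
    [2, 4, 2, 4, 2, 4, 2, 4, 2, 4], [3, 4, 3, 4, 3, 4]],
    val (letters ψ R) w = 1 := by
  intro w hw
  simp only [List.mem_cons, List.not_mem_nil, or_false] at hw
  rcases hw with rfl | rfl | rfl | rfl | rfl | rfl | rfl <;>
    simp only [val, letters, one_mul, ← map_inv, ← map_mul] <;>
    (refine (congrArg ψ ?_).trans (map_one ψ); decide +kernel)

variable {ψ R} {k : Fin 4}

theorem frame_rels (h : Amalg ψ R k) :
    ∀ w ∈ [[6, 0, 7, 4, 3, 5, 3], [6, 2, 4, 2, 5, 7, 3, 4, 2, 5, 3], [6, 4, 2, 5, 2, 7, 1, 3, 4, 3, 5],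
      [6, 6, 6, 6, 6, 6, 6], [2, 6, 3, 7, 7]], val (letters ψ R) w = 1 := by
  intro w hw
  simp only [List.mem_cons, List.not_mem_nil, or_false] at hw
  rcases hw with rfl | rfl | rfl | rfl | rfl <;> simp only [val, letters, one_mul]
  · have h1 := h.conjS mT inP_basis.1
    rw [rels_model.2.2.1] at h1
    calc _ = ψ mX * ψ mY * ψ mX * (ψ mY)⁻¹ * (R * ψ mT * R⁻¹)⁻¹ := by group
      _ = 1 := by rw [h1]; simp only [map_mul, map_inv, mul_inv_cancel]
  · have h1 := h.conjS _ rels_model.1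
    rw [rels_model.2.2.2.1] at h1
    calc _ = ψ mX * ψ mY * (ψ mX)⁻¹ * (ψ mY)⁻¹ * ψ mX *
          (R * (ψ mX * ψ mY * ψ mX * (ψ mY)⁻¹) * R⁻¹)⁻¹ := by group
      _ = 1 := by
        simp only [map_mul, map_inv] at h1
        rw [h1, mul_inv_cancel]
  · have h1 := h.conjS _ rels_model.2.1
    rw [rels_model.2.2.2.2] at h1
    calc _ = ψ mY * ψ mX * (ψ mY)⁻¹ * ψ mX * ψ mT *
          (R * (ψ mY * ψ mX * (ψ mY)⁻¹ * ψ mX) * R⁻¹)⁻¹ := by group
      _ = 1 := by
        simp only [map_mul, map_inv] at h1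
        rw [h1, mul_inv_cancel]
  · calc _ = (R ^ 7)⁻¹ := by group
      _ = 1 := by rw [h.pow, inv_one]
  · calc _ = R * R * (ψ mX * R * (ψ mX)⁻¹)⁻¹ := by group
      _ = 1 := by rw [h.conjX, ← pow_two, mul_inv_cancel]

theorem rel_val (h : Amalg ψ R k) :
    amalgW ψ R k * ψ (caseZ k) * (amalgW ψ R k)⁻¹ * ψ mX *
      (amalgW ψ R k * ψ (caseZ k) * (amalgW ψ R k)⁻¹)⁻¹ * (ψ mX)⁻¹ = 1 := by
  rw [← h.rel]; group

theorem case_rel0 (h : Amalg ψ R 0) :
    val (letters ψ R) [2, 4, 6, 4, 7, 5, 3, 4, 6, 5, 7, 5] = 1 := by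
  simp only [val, letters, one_mul]
  refine Eq.trans ?_ (rel_val h)
  simp [amalgW, caseZ, map_mul, map_inv]
  group

theorem case_rel1 (h : Amalg ψ R 1) :
    val (letters ψ R) [2, 4, 6, 4, 2, 7, 5, 3, 4, 6, 3, 5, 7, 5] = 1 := by
  simp only [val, letters, one_mul]
  refine Eq.trans ?_ (rel_val h)
  simp [amalgW, caseZ, map_mul, map_inv]
  group

theorem case_rel2 (h : Amalg ψ R 2) :
    val (letters ψ R) [2, 4, 3, 7, 2, 5, 2, 6, 2, 5, 3, 4, 3, 7, 3, 4, 3, 6, 2, 5] = 1 := by
  simp only [val, letters, one_mul]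
  refine Eq.trans ?_ (rel_val h)
  simp [amalgW, caseZ, map_mul, map_inv]
  group

theorem case_rel3 (h : Amalg ψ R 3) :
    val (letters ψ R) [2, 4, 3, 7, 2, 5, 5, 6, 2, 5, 3, 4, 3, 7, 4, 4, 3, 6, 2, 5] = 1 := by
  simp only [val, letters, one_mul]
  refine Eq.trans ?_ (rel_val h)
  simp [amalgW, caseZ, map_mul, map_inv]
  group

theorem ctx_of (h : Amalg ψ R k) {C : Cert} (hS : C.sgens = [[0], [2], [4]])
    (hR : ∀ w ∈ C.rels, w ∈ [[0, 0], [2, 2, 2], [4, 4, 4, 4, 4], [0, 2, 1, 3], [0, 4, 1, 5],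
        [2, 4, 2, 4, 2, 4, 2, 4, 2, 4], [3, 4, 3, 4, 3, 4]] ∨
      w ∈ [[6, 0, 7, 4, 3, 5, 3], [6, 2, 4, 2, 5, 7, 3, 4, 2, 5, 3], [6, 4, 2, 5, 2, 7, 1, 3, 4, 3, 5],
        [6, 6, 6, 6, 6, 6, 6], [2, 6, 3, 7, 7]] ∨ val (letters ψ R) w = 1) :
    Ctx (letters ψ R) ((1 : Γ) : Γ ⧸ ψ.range) C where
  partner := letters_partner ψ R
  rels w hw := by
    rcases hR w hw with h' | h' | h'
    · exact model_rels ψ R w h'
    · exact frame_rels h w h'
    · exact h'
  sgens w hw := by
    rw [hS] at hw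
    simp only [List.mem_cons, List.not_mem_nil, or_false] at hw
    rcases hw with rfl | rfl | rfl <;>
      (simp only [act, List.foldl_cons, List.foldl_nil, letters]
       rw [MulAction.Quotient.smul_coe, QuotientGroup.eq]
       simp only [smul_eq_mul, mul_one, inv_inv]
       exact ⟨_, rfl⟩)

theorem mem_range_of_collapse {C : Cert} (hC : Ctx (letters ψ R) ((1 : Γ) : Γ ⧸ ψ.range) C) {nf i : ℕ}
    (hv : AllValid (letters ψ R) (nodeVal (letters ψ R) ((1 : Γ) : Γ ⧸ ψ.range) C) C nf)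
    (hw : walk C.fact nf 1 i 0 [6] = some 0) : R ∈ ψ.range := by
  have h := walk_sound (letters ψ R) _ hC.partner C.fact nf hv _ _ _ _ _ hw
  rw [nodeVal_zero] at h
  simp only [act, List.foldl_cons, List.foldl_nil, letters] at h
  rw [MulAction.Quotient.smul_coe, QuotientGroup.eq] at h
  simpa using h

theorem walk0 : walk cert0.fact 1151 1 1150 0 [6] = some 0 := by decide +kernel
theorem walk2 : walk cert2.fact 3611 1 3610 0 [6] = some 0 := by decide +kernel
theorem walk3 : walk cert3.fact 2945 1 2944 0 [6] = some 0 := by decide +kernel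

/-- In three of the four cases the element of order 7 lies in the image of the model. -/
theorem collapse (h : Amalg ψ R k) (hk : k ≠ 1) : R ∈ ψ.range := by
  fin_cases k
  · have hC : Ctx (letters ψ R) ((1 : Γ) : Γ ⧸ ψ.range) cert0 := ctx_of h rfl (by
      intro w hw
      simp only [cert0, rels0, List.mem_cons, List.not_mem_nil, or_false] at hw
      rcases hw with rfl | rfl | rfl | rfl | rfl | rfl | rfl | rfl | rfl | rfl | rfl | rfl | rfl <;>
        first
        | (left; decide)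
        | (right; left; decide)
        | exact Or.inr (Or.inr (case_rel0 h)))
    exact mem_range_of_collapse hC (valid0 hC) walk0
  · exact absurd rfl hk
  · have hC : Ctx (letters ψ R) ((1 : Γ) : Γ ⧸ ψ.range) cert2 := ctx_of h rfl (by
      intro w hw
      simp only [cert2, rels2, List.mem_cons, List.not_mem_nil, or_false] at hw
      rcases hw with rfl | rfl | rfl | rfl | rfl | rfl | rfl | rfl | rfl | rfl | rfl | rfl | rfl <;>
        first
        | (left; decide)
        | (right; left; decide)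
        | exact Or.inr (Or.inr (case_rel2 h)))
    exact mem_range_of_collapse hC (valid2 hC) walk2
  · have hC : Ctx (letters ψ R) ((1 : Γ) : Γ ⧸ ψ.range) cert3 := ctx_of h rfl (by
      intro w hw
      simp only [cert3, rels3, List.mem_cons, List.not_mem_nil, or_false] at hw
      rcases hw with rfl | rfl | rfl | rfl | rfl | rfl | rfl | rfl | rfl | rfl | rfl | rfl | rfl <;>
        first
        | (left; decide)
        | (right; left; decide)
        | exact Or.inr (Or.inr (case_rel3 h)))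
    exact mem_range_of_collapse hC (valid3 hC) walk3

/-- In the remaining case the generated group has order at most 175560. -/
theorem card_le_of_generated [Finite Γ] (h : Amalg ψ R 1)
    (hgen : Subgroup.closure (Set.range ψ ∪ {R}) = ⊤) : Nat.card Γ ≤ 175560 := by
  have hC : Ctx (letters ψ R) ((1 : Γ) : Γ ⧸ ψ.range) cert1 := ctx_of h rfl (by
    intro w hw
    simp only [cert1, rels1, List.mem_cons, List.not_mem_nil, or_false] at hw
    rcases hw with rfl | rfl | rfl | rfl | rfl | rfl | rfl | rfl | rfl | rfl | rfl | rfl | rfl <;>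
      first
      | (left; decide)
      | (right; left; decide)
      | exact Or.inr (Or.inr (case_rel1 h)))
  set g := letters ψ R with hg
  set base : Γ ⧸ ψ.range := ((1 : Γ) : Γ ⧸ ψ.range) with hbase
  have hgen' : Subgroup.closure {g 0, g 2, g 4, g 6} = ⊤ := by
    refine eq_top_iff.2 (hgen ▸ (Subgroup.closure_le _).2 ?_)
    set K := Subgroup.closure {g 0, g 2, g 4, g 6} with hK
    have hm : ∀ x : Γ, x⁻¹ ∈ ({g 0, g 2, g 4, g 6} : Set Γ) → x ∈ K := fun x hx =>
      inv_mem_iff.1 (Subgroup.subset_closure hx)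
    have hle : Subgroup.closure ({mT, mX, mY} : Set M) ≤ K.comap ψ := by
      rw [Subgroup.closure_le]
      intro a ha
      simp only [Set.mem_insert_iff, Set.mem_singleton_iff] at ha
      rcases ha with rfl | rfl | rfl <;> exact hm _ (by simp [hg, letters])
    rw [closure_gens] at hle
    rintro x (⟨m, rfl⟩ | hx)
    · exact hle (Subgroup.mem_top m)
    · rw [Set.mem_singleton_iff] at hx
      exact hx ▸ hm _ (by simp [hg, letters])
  have hcl := closed_sound hC (valid1 hC) closed1.1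
  have hsurj : Function.Surjective (fun q : Fin 1463 => nodeVal g base cert1 (entry L1 32 q)) := by
    intro x
    induction x using QuotientGroup.induction_on with
    | _ γ =>
      obtain ⟨q, hq, h⟩ := orbit_mem (by norm_num) closed1.2 hcl hgen' γ
      refine ⟨⟨q, hq⟩, h.symm.trans ?_⟩
      rw [hbase, MulAction.Quotient.smul_coe, smul_eq_mul, mul_one]
  have h1 : Nat.card (Γ ⧸ ψ.range) ≤ 1463 := by
    simpa using Nat.card_le_card_of_surjective _ hsurj
  have h2 : Nat.card ↥ψ.range ≤ 120 := by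
    rw [← card_model]
    exact Nat.card_le_card_of_surjective _ ψ.rangeRestrict_surjective
  rw [Subgroup.card_eq_card_quotient_mul_card_subgroup ψ.range]
  exact le_trans (Nat.mul_le_mul h1 h2) (by norm_num)

end Cfsg.Agent.J1Order91
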