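import Cfsg.Agent.Lib.J1Config91
import Cfsg.Agent.Lib.SimpleOrderCheck
import Cfsg.Agent.S0165

/-!
A group with involution centralizer `C₂ × A₅` has no order `189000`: the number of involutions inverting an
element of order seven would be incompatible with its centralizer.
-/

set_option autoImplicit false
set_option linter.style.haveILetI false
set_option linter.unusedSectionVars false

open scoped ComplexConjugate

namespace Cfsg.Agent.J1Order91

open Cfsg Cfsg.Agent.BlockCount91 Cfsg.Agent.BlockPrincipal81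

attribute [local instance] Classical.propDecidable

variable {G : Type*} [Group G] [IsSimpleGroup G] [Fintype G] {d : Data G} (cs : Cols d)

omit [IsSimpleGroup G] in
/-- A rational integral value of a character at an element of order `p` is congruent to the degree. -/
theorem dvd_deg_sub {p : ℕ} [hp : Fact p.Prime] (hodd : Odd p) (χ : IrrCharacter G) {z : G}
    (hz : orderOf z = p) {c : ℤ} (hc : (χ : G → ℂ) z = (c : ℂ)) : (p : ℤ) ∣ (deg χ : ℤ) - c := by
  obtain ⟨ω, hω⟩ : ∃ ω : ℂ, IsPrimitiveRoot ω p := ⟨_, Complex.isPrimitiveRoot_exp p hp.out.ne_zero⟩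
  obtain ⟨m, hm⟩ := exists_split hodd hω χ (g := z)
    (by rw [mul_comm, pow_mul, ← hz, pow_orderOf_eq_one, one_pow])
  have h1 := hm p hodd
  have hzp : z ^ p = 1 := hz ▸ pow_orderOf_eq_one z
  rw [hzp, apply_one] at h1
  have hsum : (deg χ : ℤ) = ∑ j, m j := by
    have : ((deg χ : ℤ) : ℂ) = ((∑ j, m j : ℤ) : ℂ) := by
      push_cast
      rw [h1]
      refine Finset.sum_congr rfl fun j _ => ?_
      rw [mul_comm ((j : ℕ)) p, pow_mul, hω.pow_eq_one, one_pow, mul_one]
    exact_mod_cast this
  set q : Polynomial ℤ := ∑ j : Fin p, Polynomial.C (m j) * Polynomial.X ^ (j : ℕ) - Polynomial.C c with hq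
  have hq0 : Polynomial.aeval ω q = 0 := by
    have h2 := hm 1 odd_one
    rw [pow_one, hc] at h2
    simp only [hq, map_sub, map_sum, map_mul, Polynomial.aeval_C, map_pow, Polynomial.aeval_X]
    simp only [mul_one, algebraMap_int_eq, eq_intCast] at h2 ⊢
    rw [h2, sub_self]
  have hdvd : Polynomial.cyclotomic p ℤ ∣ q := by
    rw [Polynomial.cyclotomic_eq_minpoly hω hp.out.pos]
    exact minpoly.isIntegrallyClosed_dvd (hω.isIntegral hp.out.pos) hq0
  have h3 := Polynomial.eval_dvd (x := (1 : ℤ)) hdvd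
  rw [Polynomial.eval_one_cyclotomic_prime, hq] at h3
  simp only [Polynomial.eval_sub, Polynomial.eval_finset_sum, Polynomial.eval_mul, Polynomial.eval_C,
    Polynomial.eval_pow, Polynomial.eval_X, one_pow, mul_one] at h3
  rwa [hsum]

theorem apply_eq_zero_of_seven (h : Nat.card G = 189000) {χ : IrrCharacter G} (h7 : 7 ∣ deg χ) {z : G}
    (hz : orderOf z = 7) : (χ : G → ℂ) z = 0 := by
  obtain ⟨n, ρ, hi, hρ⟩ := χ.2
  haveI := hi
  have hd : Module.finrank ℂ (Fin n → ℂ) = deg χ := by
    have h1 := apply_one χ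
    rw [← hρ, Representation.char_one] at h1
    exact_mod_cast h1
  rw [← hρ]
  exact S0165.result ρ 7 1 (by norm_num) (by rw [h]; norm_num) (by rw [h]; norm_num)
    (by rw [hd, pow_one]; exact h7) z (by rw [hz])

theorem not_exceptional (hT : IsTwoCentralInvolution d.t) : ¬ Exceptional cs := by
  rintro ⟨hn, w, hw1, haw, hdw, hXw, hEw, hasupp, hXsupp⟩
  haveI : Fact (Nat.Prime 7) := ⟨by norm_num⟩
  haveI : Fact (Nat.Prime 2) := ⟨Nat.prime_two⟩
  obtain ⟨z, hz⟩ := exists_prime_orderOf_dvd_card' (G := G) 7 (by rw [hn]; norm_num)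
  have hz' : orderOf z⁻¹ = 7 := by rw [orderOf_inv, hz]
  have hconj : ∀ i : G, orderOf i = 2 → IsConj d.t i := fun i hi => isConj_t d hT hi
  -- the centralizer of `z`
  set Cz := Subgroup.centralizer ({z} : Set G) with hCz
  have hodd : ¬ 2 ∣ Nat.card ↥Cz := by
    intro h2
    obtain ⟨⟨i, hi⟩, hi2⟩ := exists_prime_orderOf_dvd_card' (G := ↥Cz) 2 h2
    rw [Subgroup.orderOf_mk] at hi2
    obtain ⟨g, hg⟩ := isConj_iff.1 (hconj i hi2)
    have hcom : z * i = i * z := (Subgroup.mem_centralizer_singleton_iff.1 hi).symm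
    have hmem : g⁻¹ * z * g ∈ Subgroup.centralizer ({d.t} : Set G) := by
      rw [Subgroup.mem_centralizer_singleton_iff]
      calc g⁻¹ * z * g * d.t = g⁻¹ * (z * (g * d.t * g⁻¹)) * g := by group
        _ = g⁻¹ * ((g * d.t * g⁻¹) * z) * g := by rw [hg, hcom]
        _ = d.t * (g⁻¹ * z * g) := by group
    have h := Subgroup.orderOf_dvd_natCard _ hmem
    rw [show g⁻¹ * z * g = (MulAut.conj g⁻¹).toMonoidHom z by simp,
      orderOf_injective _ (MulAut.conj g⁻¹).injective, hz, card_centralizer_t] at h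
    norm_num at h
  have hClist : Nat.card ↥Cz ∈ [2625, 875, 525, 175, 35] := by
    obtain ⟨P, hP⟩ := (IsPGroup.of_card (G := ↥(Subgroup.zpowers z)) (p := 7) (n := 1)
      (by rw [Nat.card_zpowers, hz, pow_one])).exists_le_sylow
    have hP7 : Nat.card ↥(P : Subgroup G) = 7 :=
      SimpleOrderCheck.sylow_card_of_once (by rw [hn]) (by rw [hn]; norm_num) P
    have hPz : (P : Subgroup G) = Subgroup.zpowers z :=
      (Subgroup.eq_of_le_of_card_ge hP (by rw [Nat.card_zpowers, hz, hP7])).symm
    have hG : ¬ IsMulCommutative G := SimpleOrder.not_comm_of_not_prime (by rw [hn]; norm_num)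
    have hd := SimpleOrderCheck.mem_cand hG (p := 7) (v := 1) (m := 27000) Nat.one_pos (by rw [hn]; norm_num)
      (by norm_num)
    obtain ⟨e, he, hC, -⟩ := SimpleOrderCheck.exists_eList hG P hP7
    rw [hn] at hd he hC
    rw [hPz, Subgroup.zpowers_eq_closure, Subgroup.centralizer_closure] at hC
    have key := seven_centralizers _ hd e he
    rw [hC] at key
    exact key.resolve_left fun h => hodd (Nat.dvd_of_mod_eq_zero h)
  -- the involutions whose product with `z` is an involution
  set I := Finset.univ.filter fun i : G => orderOf i = 2 ∧ orderOf (i * z) = 2 with hI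
  have hsq : ∀ {i : G}, orderOf i = 2 → i * i = 1 := fun {i} h => by
    rw [← pow_two, ← h]; exact pow_orderOf_eq_one i
  have hinv : ∀ i ∈ I, i * z * i = z⁻¹ := fun i hi => by
    obtain ⟨h1, h2⟩ := (Finset.mem_filter.1 hi).2
    refine eq_inv_of_mul_eq_one_left ?_
    simpa only [mul_assoc] using hsq h2
  have hAdvd : I.card = 0 ∨ Nat.card ↥Cz % I.card = 0 := by
    rcases Finset.eq_empty_or_nonempty I with h | ⟨i, hi⟩
    · exact Or.inl (Finset.card_eq_zero.2 h)
    refine Or.inr (Nat.mod_eq_zero_of_dvd ⟨Nat.card ↥(Cz ⊓ Subgroup.centralizer ({i} : Set G) : Subgroup G), ?_⟩)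
    have hi2 := (Finset.mem_filter.1 hi).2.1
    have himg : (Finset.univ.image fun c : ↥Cz => (c : G) * i * (c : G)⁻¹) = I := by
      ext j
      simp only [Finset.mem_image, Finset.mem_univ, true_and]
      constructor
      · rintro ⟨⟨c, hc⟩, rfl⟩
        have hcz := Subgroup.mem_centralizer_singleton_iff.1 hc
        rw [hI, Finset.mem_filter]
        refine ⟨Finset.mem_univ _, ?_, ?_⟩
        · rw [show c * i * c⁻¹ = (MulAut.conj c).toMonoidHom i by simp,
            orderOf_injective _ (MulAut.conj c).injective, hi2]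
        · rw [show c * i * c⁻¹ * z = (MulAut.conj c).toMonoidHom (i * z) from ?_,
            orderOf_injective _ (MulAut.conj c).injective]
          · exact (Finset.mem_filter.1 hi).2.2
          · calc c * i * c⁻¹ * z = c * i * (c⁻¹ * (z * c)) * c⁻¹ := by group
              _ = c * i * (c⁻¹ * (c * z)) * c⁻¹ := by rw [hcz]
              _ = _ := by simp [mul_assoc]
      · intro hj
        have hjj := hsq (Finset.mem_filter.1 hj).2.1
        have hii := hsq hi2
        have hiinv : i⁻¹ = i := inv_eq_of_mul_eq_one_right hii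
        have hjinv : j⁻¹ = j := inv_eq_of_mul_eq_one_right hjj
        have hwC : i * j ∈ Cz := by
          rw [hCz, Subgroup.mem_centralizer_singleton_iff]
          have hj' : j * z = z⁻¹ * j := by rw [← hinv j hj, mul_assoc _ j j, hjj, mul_one]
          have hi' : i * z⁻¹ = z * i := by
            rw [← hinv i hi, ← mul_assoc, ← mul_assoc, hii, one_mul]
          rw [mul_assoc, hj', ← mul_assoc, hi', mul_assoc]
        obtain ⟨k, hk⟩ : Odd (orderOf (i * j)) := Nat.not_even_iff_odd.1 fun hev =>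
          hodd ((even_iff_two_dvd.1 hev).trans (Subgroup.orderOf_dvd_natCard _ hwC))
        set v := (i * j) ^ (k + 1) with hv
        have hvv : v * v = i * j := by
          rw [hv, ← pow_add, show k + 1 + (k + 1) = orderOf (i * j) + 1 by omega, pow_succ, pow_orderOf_eq_one,
            one_mul]
        have hiv : i * v = v⁻¹ * i := by
          have h1 : i * (i * j) * i⁻¹ = (i * j)⁻¹ := by
            rw [mul_inv_rev, hjinv, hiinv, ← mul_assoc i i j, hii, one_mul]
          have h2 := congrArg (· ^ (k + 1)) h1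
          simp only [conj_pow, inv_pow, ← hv] at h2
          exact mul_inv_eq_iff_eq_mul.1 h2
        refine ⟨⟨v⁻¹, Cz.inv_mem (Cz.pow_mem hwC _)⟩, ?_⟩
        show v⁻¹ * i * v⁻¹⁻¹ = j
        rw [inv_inv, mul_assoc, hiv, ← mul_assoc, ← mul_inv_rev, hvv, mul_inv_rev, hjinv, hiinv, mul_assoc, hii,
          mul_one]
    rw [← himg, Nat.card_eq_fintype_card (α := ↥Cz), ← Finset.card_univ,
      Finset.card_eq_sum_card_image (fun c : ↥Cz => (c : G) * i * (c : G)⁻¹)]
    refine Finset.sum_const_nat fun g hg => ?_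
    obtain ⟨c₀, -, rfl⟩ := Finset.mem_image.1 hg
    rw [← Fintype.card_subtype, ← Nat.card_eq_fintype_card]
    refine (Nat.card_eq_of_bijective (fun c : ↥(Cz ⊓ Subgroup.centralizer ({i} : Set G) : Subgroup G) =>
      (⟨c₀ * ⟨c, c.2.1⟩, ?_⟩ : {n : ↥Cz // (n : G) * i * (n : G)⁻¹ = (c₀ : G) * i * (c₀ : G)⁻¹}))
      ⟨fun a b h => Subtype.ext (by simpa using congrArg (fun z => ((z.1 : ↥Cz) : G)) h), ?_⟩).symm
    · have hc := Subgroup.mem_centralizer_singleton_iff.1 c.2.2
      simp only [Subgroup.coe_mul, mul_inv_rev]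
      calc (c₀ : G) * c * i * ((c : G)⁻¹ * (c₀ : G)⁻¹) = (c₀ : G) * ((c : G) * i) * ((c : G)⁻¹ * (c₀ : G)⁻¹) := by group
        _ = _ := by rw [hc]; group
    · rintro ⟨n, hn'⟩
      refine ⟨⟨(c₀ : G)⁻¹ * n, Cz.mul_mem (Cz.inv_mem c₀.2) n.2, Subgroup.mem_centralizer_singleton_iff.2 ?_⟩, ?_⟩
      · calc (c₀ : G)⁻¹ * n * i = (c₀ : G)⁻¹ * ((n : G) * i * (n : G)⁻¹) * n := by group
          _ = _ := by rw [hn']; group
      · exact Subtype.ext (Subtype.ext (by simp))
  -- the pair of characters in the extra column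
  obtain ⟨u₀, hu₀⟩ : ∃ x, cs.E x ≠ 0 := by
    by_contra h
    push_neg at h
    have h2 := cs.gram.1.2.2.2
    simp [h] at h2
  obtain ⟨-, -, -, u, v, huv, hEs, -, hu1, hev, hduv, hXu, hXv⟩ := entries_E cs u₀ hu₀
  have hu0 : cs.E u ≠ 0 := by omega
  have hv0 : cs.E v ≠ 0 := by omega
  obtain ⟨Eu0, Bu0, Cu0, -⟩ := entries_E cs u hu0
  have huo : u ≠ oneChar G := fun e => hu0 (e ▸ cs.one.2.2.2)
  have hvo : v ≠ oneChar G := fun e => hv0 (e ▸ cs.one.2.2.2)
  have huw : u ≠ w := fun e => hu0 (e ▸ hEw)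
  have hvw : v ≠ w := fun e => hv0 (e ▸ hEw)
  obtain ⟨hpa, hpE⟩ := cs.perp z⁻¹ hz'
  have hχw : (w : G → ℂ) z⁻¹ = 1 := by
    rw [← Finset.sum_subset (Finset.subset_univ ({oneChar G, w} : Finset (IrrCharacter G))) (fun x _ hx => by
      by_cases ha : cs.a x = 0
      · rw [ha, Int.cast_zero, zero_mul]
      · simp only [Finset.mem_insert, Finset.mem_singleton, not_or] at hx
        rcases hasupp x ha with e | e | e
        exacts [absurd e hx.1, absurd e hx.2, by rw [apply_eq_zero_of_seven hn e hz', mul_zero]]),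
      Finset.sum_pair (Ne.symm hw1), cs.one.1, haw] at hpa
    simp only [BlockPrincipal81.oneChar, Int.cast_one, Int.cast_neg, one_mul, neg_mul] at hpa
    linear_combination -hpa
  have hχuv : (u : G → ℂ) z⁻¹ = (v : G → ℂ) z⁻¹ := by
    rw [← Finset.sum_subset (Finset.subset_univ ({u, v} : Finset (IrrCharacter G))) (fun x _ hx => by
      have : cs.E x = 0 := by
        by_contra h
        exact hx (by simpa using hEs x h)
      rw [this, Int.cast_zero, zero_mul]), Finset.sum_pair huv, hev] at hpE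
    have h : (cs.E u : ℂ) * ((u : G → ℂ) z⁻¹ - (v : G → ℂ) z⁻¹) = 0 := by
      push_cast at hpE
      linear_combination hpE
    exact sub_eq_zero.1 ((mul_eq_zero.1 h).resolve_left (Int.cast_ne_zero.2 hu0))
  -- the class algebra equation
  have hA : 420 * (u : G → ℂ) z⁻¹ = ((I.card : ℂ) - 14) * (deg u : ℂ) := by
    have h := ClassAlgebraVal.sum_irr_triple d.t d.t z
    rw [← Nat.cast_mul, count_triple (orderOf_t d) hconj, card_centralizer_t,
      Nat.card_eq_fintype_card (α := {i : G // orderOf i = 2 ∧ orderOf (i * z) = 2}), Fintype.card_subtype, ← hI,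
      hn, Finset.sum_congr rfl fun (x : IrrCharacter G) _ => show
        (x : G → ℂ) d.t * (x : G → ℂ) d.t * conj ((x : G → ℂ) z) / (x : G → ℂ) 1 =
          ((cs.X x : ℂ) * (cs.X x : ℂ)) * (x : G → ℂ) z⁻¹ / (deg x : ℂ) by
        rw [CharBasic.isCharacter_inv (CharBasic.isCharacter_of_isIrrCharacter x.2), cs.val x, apply_one, Cols.X],
      ← Finset.sum_subset (Finset.subset_univ ({oneChar G, w, u, v} : Finset (IrrCharacter G))) (fun x _ hx => by
        simp only [Finset.mem_insert, Finset.mem_singleton, not_or] at hx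
        by_cases hX : cs.X x = 0
        · rw [hX]; simp
        · have hE : cs.E x = 0 := by
            by_contra h
            rcases hEs x h with e | e
            exacts [hx.2.2.1 e, hx.2.2.2 e]
          rcases hXsupp x hX hE with e | e | e
          exacts [absurd e hx.1, absurd e hx.2.1, by rw [apply_eq_zero_of_seven hn e hz']; simp]),
      Finset.sum_insert (by simp [Ne.symm hw1, Ne.symm huo, Ne.symm hvo]),
      Finset.sum_insert (by simp [Ne.symm huw, Ne.symm hvw]), Finset.sum_pair huv,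
      hXw, hdw, hχw, hXu, hXv, hev, ← hduv, ← hχuv, deg_one,
      show cs.X (oneChar G) = 1 by rw [Cols.X, cs.one.1, cs.one.2.1, cs.one.2.2.1, cs.one.2.2.2]; ring] at h
    have hd0 : (deg u : ℂ) ≠ 0 := Nat.cast_ne_zero.2 (deg_pos u).ne'
    simp only [BlockPrincipal81.oneChar] at h
    push_cast at h
    rcases hu1 with e | e <;> rw [e] at h <;> push_cast at h <;> field_simp at h <;> linear_combination (1 / 216000 : ℂ) * h
  -- degree of `u`
  have hXub : cs.X u = 4 * cs.E u := hXu
  obtain ⟨nu, hnu⟩ := congr_eight cs hT u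
  obtain ⟨nv, hnv⟩ := congr_eight cs hT v
  rw [hXu] at hnu
  rw [hXv, hev, ← hduv] at hnv
  have hdu : 28 ≤ deg u ∧ deg u % 8 = 4 := by
    rcases hu1 with e | e <;> rw [e] at hnu hnv <;> omega
  have hdd : 189000 % deg u = 0 := Nat.mod_eq_zero_of_dvd (hn ▸ deg_dvd u)
  have hdlt : deg u < 308 := by
    have h1 := sum_subset_le ({u, v} : Finset (IrrCharacter G))
    rw [Finset.sum_pair huv, hn, ← hduv] at h1
    by_contra hc
    have := Nat.pow_le_pow_left (Nat.le_of_not_lt hc) 2
    omega
  -- the value is an integer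
  obtain ⟨c, hc⟩ : ∃ c : ℤ, (u : G → ℂ) z⁻¹ = (c : ℂ) := by
    have hint := CharBasic.isCharacter_integral (CharBasic.isCharacter_of_isIrrCharacter u.2) z⁻¹
    have e : (u : G → ℂ) z⁻¹ = algebraMap ℚ ℂ (((I.card : ℚ) - 14) * deg u / 420) := by
      simp only [eq_ratCast, Rat.cast_div, Rat.cast_mul, Rat.cast_sub, Rat.cast_natCast, Rat.cast_ofNat]
      rw [eq_div_iff (by norm_num)]
      linear_combination hA
    rw [e, isIntegral_algebraMap_iff (algebraMap ℚ ℂ).injective] at hint
    obtain ⟨c, hc⟩ := IsIntegrallyClosed.isIntegral_iff.1 hint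
    exact ⟨c, by rw [e, ← hc]; simp⟩
  have hAc : 420 * c = ((I.card : ℤ) - 14) * deg u := by
    have : ((420 * c : ℤ) : ℂ) = ((((I.card : ℤ) - 14) * deg u : ℤ) : ℂ) := by
      push_cast
      rw [← hc]
      exact hA
    exact_mod_cast this
  -- norm
  have hCle : I.card ≤ 2625 := by
    rcases hAdvd with h | h
    · omega
    · have := Nat.le_of_dvd Nat.card_pos (Nat.dvd_of_mod_eq_zero h)
      simp only [List.mem_cons, List.not_mem_nil, or_false] at hClist
      omega
  have hnorm : 2 * c * c ≤ (Nat.card ↥Cz : ℤ) := by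
    have h := CharBasicOrth.sum_irr_mul_conj z⁻¹ z⁻¹
    rw [if_pos (IsConj.refl _), show Subgroup.centralizer ({z⁻¹} : Set G) = Cz by
      ext g
      simp only [hCz, Subgroup.mem_centralizer_singleton_iff]
      exact ⟨fun h => (Commute.inv_right_iff.1 h : Commute g z), fun h => Commute.inv_right (h : Commute g z)⟩] at h
    simp only [Complex.mul_conj, ← Complex.ofReal_sum] at h
    have h' : ∑ x : IrrCharacter G, Complex.normSq ((x : G → ℂ) z⁻¹) = (Nat.card ↥Cz : ℝ) := by exact_mod_cast h
    have hle := Finset.sum_le_sum_of_subset_of_nonneg (f := fun x : IrrCharacter G => Complex.normSq ((x : G → ℂ) z⁻¹))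
      (Finset.subset_univ ({u, v} : Finset (IrrCharacter G))) fun _ _ _ => Complex.normSq_nonneg _
    rw [h', Finset.sum_pair huv, ← hχuv, hc, Complex.normSq_intCast] at hle
    have : ((2 * c * c : ℤ) : ℝ) ≤ ((Nat.card ↥Cz : ℤ) : ℝ) := by
      push_cast
      linarith
    exact_mod_cast this
  by_cases h7 : deg u % 7 = 0
  · have h0 := apply_eq_zero_of_seven hn (Nat.dvd_of_mod_eq_zero h7) hz' (χ := u)
    rw [hc] at h0
    have hc0 : c = 0 := by exact_mod_cast h0
    rw [hc0, mul_zero] at hAc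
    have h14 : I.card = 14 := by
      rcases mul_eq_zero.1 hAc.symm with h | h <;> omega
    rcases hAdvd with h | h
    · omega
    · exact hodd ((by norm_num : 2 ∣ 14).trans (h14 ▸ Nat.dvd_of_mod_eq_zero h))
  · have hkey := stage_seven _ hClist _ (List.mem_range.2 (Nat.lt_succ_of_le hCle)) hAdvd _ (List.mem_range.2 hdlt)
      hdu.1 hdu.2 hdd h7 (by rw [← hAc]; omega) (by
        rw [← hAc, Int.mul_ediv_cancel_left _ (by norm_num)]
        have := dvd_deg_sub (by decide) u hz' hc
        omega)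
    rw [← hAc, Int.mul_ediv_cancel_left _ (by norm_num)] at hkey
    omega

end Cfsg.Agent.J1Order91
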