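import Cfsg.Agent.Lib.J1Local91
import Cfsg.Agent.Lib.J1Amalgam91

/-!
The element of order 7 normalising a Sylow 2-subgroup of a group with an involution centralizer `C₂ × A₅`.
-/

set_option autoImplicit false
set_option linter.style.haveILetI false
set_option linter.unusedSectionVars false

namespace Cfsg.Agent.J1Order91

open Cfsg

attribute [local instance] Classical.propDecidable

variable {G : Type*} [Group G]

/-- An embedding of the model together with a normalised element of order 7. -/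
structure Frame (G : Type*) [Group G] extends Data G where
  r : G
  r_pow : r ^ 7 = 1
  r_notMem : r ∉ toData.φ.range
  r_X : toData.φ mX * r * (toData.φ mX)⁻¹ = r ^ 2
  r_S : ∀ s : M, InP s → r * toData.φ s * r⁻¹ = toData.φ (L0 s)

variable [Finite G] [IsSimpleGroup G] (d : Data G)

theorem card_normalizer_P (hT : IsTwoCentralInvolution d.t) :
    Nat.card ↥(Subgroup.normalizer (d.P : Set G)) = 168 := by
  haveI : Fintype G := Fintype.ofFinite G
  haveI : Fact (Nat.Prime 2) := ⟨Nat.prime_two⟩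
  set N := Subgroup.normalizer (d.P : Set G) with hN
  letI : MulAction ↥N G := MulAction.compHom G (MulAut.conj.comp N.subtype)
  have hsm : ∀ (n : ↥N) (g : G), n • g = (n : G) * g * (n : G)⁻¹ := fun n g => rfl
  have hab : IsMulCommutative ↥(sylowP d hT : Subgroup G) := by
    refine ⟨⟨?_⟩⟩
    rintro ⟨a, a', ha, rfl⟩ ⟨b, b', hb, rfl⟩
    exact Subtype.ext (by simp only [Subgroup.coe_mul, ← map_mul, (model_sylow.2.2.1 a' ha b' hb).2])
  have horb : MulAction.orbit ↥N d.t =
      ↑(((Finset.univ.filter fun m : M => InP m).erase 1).image d.φ) := by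
    ext g
    simp only [Finset.coe_image, Set.mem_image, Finset.mem_coe, Finset.mem_erase, Finset.mem_filter,
      Finset.mem_univ, true_and, MulAction.mem_orbit_iff, hsm]
    constructor
    · rintro ⟨n, rfl⟩
      obtain ⟨m, hm, hme⟩ := (Subgroup.mem_normalizer_iff.1 n.2 d.t).1 ⟨mT, model_sylow.2.1, rfl⟩
      refine ⟨m, ⟨fun e => ?_, hm⟩, hme⟩
      rw [e, map_one, eq_comm, mul_inv_eq_one, mul_eq_left] at hme
      have h := orderOf_t d
      rw [hme, orderOf_one] at h
      omega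
    · rintro ⟨m, ⟨hm1, hm⟩, rfl⟩
      have ho : orderOf (d.φ m) = 2 := by
        rw [orderOf_injective d.φ d.inj]
        exact orderOf_eq_prime (by rw [pow_two]; exact model_sq m hm) hm1
      obtain ⟨c, hc⟩ := isConj_iff.1 (isConj_t d hT ho)
      haveI := hab
      obtain ⟨n, hn, hne⟩ := Sylow.conj_eq_normalizer_conj_of_mem (sylowP d hT) d.t c⁻¹
        ⟨mT, model_sylow.2.1, rfl⟩ (by rw [inv_inv, hc]; exact ⟨m, hm, rfl⟩)
      refine ⟨⟨n⁻¹, N.inv_mem hn⟩, ?_⟩
      rw [inv_inv, hc] at hne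
      simp [hne]
  have hstab : Nat.card ↥(MulAction.stabilizer ↥N d.t) = 24 := by
    rw [← normalizer_count, ← Fintype.card_subtype, ← Nat.card_eq_fintype_card]
    have hmem : ∀ m : M, (∀ a ∈ P8, InP (m * a * m⁻¹)) → d.φ m ∈ N := by
      intro m hm
      apply Subgroup.mem_normalizer_fintype
      rintro _ ⟨a, ha, rfl⟩
      exact ⟨m * a * m⁻¹, hm a (mem_P8 a ha), by rw [map_mul, map_mul, map_inv]⟩
    refine (Nat.card_eq_of_bijective (fun m : {m : M // ∀ a ∈ P8, InP (m * a * m⁻¹)} =>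
      (⟨⟨d.φ m, hmem m m.2⟩, ?_⟩ : ↥(MulAction.stabilizer ↥N d.t))) ⟨fun a b h => ?_, ?_⟩).symm
    · rw [MulAction.mem_stabilizer_iff, hsm]
      show d.φ m * d.φ mT * (d.φ m)⁻¹ = d.φ mT
      rw [← map_inv, ← map_mul, ← map_mul, model_central.1, mul_assoc, mul_inv_cancel, mul_one]
    · exact Subtype.ext (d.inj (congrArg (fun z => ((z.1 : ↥N) : G)) h))
    · rintro ⟨⟨n, hn⟩, hs⟩
      rw [MulAction.mem_stabilizer_iff, hsm, mul_inv_eq_iff_eq_mul] at hs
      obtain ⟨m, rfl⟩ := mem_range_of_commute d (g := n) hs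
      refine ⟨⟨m, fun a ha => ?_⟩, rfl⟩
      obtain ⟨a', ha', e⟩ := (Subgroup.mem_normalizer_iff.1 hn (d.φ a)).1 ⟨a, inP_basis.2.2.2.1 a ha, rfl⟩
      rw [← map_inv, ← map_mul, ← map_mul] at e
      exact d.inj e ▸ ha'
  have h := MulAction.index_stabilizer ↥N d.t
  have h2 := Subgroup.index_mul_card (MulAction.stabilizer ↥N d.t)
  rw [h, hstab, horb, Set.ncard_coe_finset, Finset.card_image_of_injective _ d.inj,
    Finset.card_erase_of_mem (by simp [model_sylow.1]), model_sylow.2.2.2.2.1] at h2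
  exact h2.symm

/-- Conjugation by a normalising element is given by a linear map. -/
theorem exists_lin {n : G} (hn : n ∈ Subgroup.normalizer (d.P : Set G)) :
    ∃ a b c : M, InP a ∧ InP b ∧ InP c ∧
      ∀ s : M, InP s → n * d.φ s * n⁻¹ = d.φ (lin a b c s) := by
  have h : ∀ s : M, InP s → ∃ u : M, InP u ∧ d.φ u = n * d.φ s * n⁻¹ := fun s hs =>
    (Subgroup.mem_normalizer_iff.1 hn (d.φ s)).1 ⟨s, hs, rfl⟩
  obtain ⟨a, ha, hae⟩ := h mT inP_basis.1
  obtain ⟨b, hb, hbe⟩ := h mA inP_basis.2.1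
  obtain ⟨c, hc, hce⟩ := h mB inP_basis.2.2.1
  refine ⟨a, b, c, ha, hb, hc, fun s hs => ?_⟩
  conv_lhs => rw [← inP_basis.2.2.2.2 s hs]
  simp only [lin, map_mul, apply_ite d.φ, map_one, hae, hbe, hce]
  split_ifs <;> simp [mul_assoc]

/-- The normalised element of order 7, given one with the right action of `mX`. -/
theorem exists_frame_of_twist (d : Data G) {n : G} (hn : n ∈ Subgroup.normalizer (d.P : Set G)) (h7 : orderOf n = 7)
    (hX : d.φ mX * n * (d.φ mX)⁻¹ = n ^ 2) : ∃ F : Frame G, F.toData = d := by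
  obtain ⟨a, b, c, ha, hb, hc, hlin⟩ := exists_lin d hn
  set L := lin a b c with hL
  have hLP : ∀ (i : ℕ) (s : M), InP s → InP (L^[i] s) := by
    intro i
    induction i with
    | zero => exact fun s hs => hs
    | succ i ih =>
      intro s hs
      rw [Function.iterate_succ_apply']
      exact lin_inP ha hb hc _
  have hiter : ∀ (i : ℕ) (s : M), InP s → n ^ i * d.φ s * (n ^ i)⁻¹ = d.φ (L^[i] s) := by
    intro i
    induction i with
    | zero => intro s _; simp
    | succ i ih =>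
      intro s hs
      rw [Function.iterate_succ_apply', ← hlin _ (hLP i s hs), ← ih s hs, pow_succ']
      group
  have hn7 : n ^ 7 = 1 := h7 ▸ pow_orderOf_eq_one n
  have hnot : ∀ g : G, orderOf g = 7 → g ∉ d.φ.range := by
    rintro g hg ⟨m, rfl⟩
    rw [orderOf_injective d.φ d.inj] at hg
    have h := orderOf_dvd_natCard m
    rw [hg, card_model] at h
    omega
  have hTne : L mT ≠ mT := by
    intro e
    obtain ⟨m, hm⟩ := mem_range_of_commute d (g := n) (by
      have h := hlin mT inP_basis.1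
      rw [e, mul_inv_eq_iff_eq_mul] at h
      exact h)
    exact hnot n h7 ⟨m, hm⟩
  obtain ⟨i, hiT, hiA, hiB⟩ := lin_P8 a (mem_P8 a ha) b (mem_P8 b hb) c (mem_P8 c hc) (d.inj (by
      rw [← hiter 7 mT inP_basis.1, ← h7, pow_orderOf_eq_one, one_mul, inv_one, mul_one])) hTne
    (fun s hs => d.inj (by
      have hs' := inP_basis.2.2.2.1 s hs
      have hxs := model_sylow.2.2.2.2.2.1 s hs'
      rw [map_mul, map_mul, map_inv, ← hlin s hs', ← hlin _ (lin_inP ha hb hc _), ← hlin _ hxs, map_mul, map_mul, map_inv]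
      have e : d.φ mX * n = n ^ 2 * d.φ mX := mul_inv_eq_iff_eq_mul.1 hX
      calc d.φ mX * (n * d.φ s * n⁻¹) * (d.φ mX)⁻¹
          = (d.φ mX * n) * d.φ s * (d.φ mX * n)⁻¹ := by group
        _ = _ := by rw [e, pow_two]; group))
  have hi0 : (i : ℕ) ≠ 0 := by
    intro e
    rw [e, Function.iterate_zero_apply] at hiT
    exact absurd hiT (by decide +kernel)
  have hr7 : orderOf (n ^ (i : ℕ)) = 7 := by
    haveI : Fact (Nat.Prime 7) := ⟨by norm_num⟩
    refine orderOf_eq_prime (by rw [← pow_mul, mul_comm, pow_mul, hn7, one_pow]) fun e => hi0 ?_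
    have hd := orderOf_dvd_of_pow_eq_one e
    rw [h7] at hd
    exact Nat.eq_zero_of_dvd_of_lt hd i.2
  refine ⟨⟨d, n ^ (i : ℕ), by rw [← pow_mul, mul_comm, pow_mul, hn7, one_pow], hnot _ hr7, ?_, ?_⟩, rfl⟩
  · rw [← conj_pow, hX, ← pow_mul, ← pow_mul, mul_comm]
  · intro s hs
    conv_lhs => rw [← inP_basis.2.2.2.2 s hs]
    have hrT := (hiter i mT inP_basis.1).trans (congrArg d.φ hiT)
    have hrA := (hiter i mA inP_basis.2.1).trans (congrArg d.φ hiA)
    have hrB := (hiter i mB inP_basis.2.2.1).trans (congrArg d.φ hiB)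
    rw [← lin_L0 s hs]
    simp only [lin, map_mul, apply_ite d.φ, map_one]
    rw [← hrT, ← hrA, ← hrB]
    split_ifs <;> simp [mul_assoc]

/-- Every such group has a frame at the given involution. -/
theorem exists_frame (hT : IsTwoCentralInvolution d.t) : ∃ F : Frame G, F.toData.t = d.t := by
  haveI : Fintype G := Fintype.ofFinite G
  haveI h7f : Fact (Nat.Prime 7) := ⟨by norm_num⟩
  haveI : Fact (Nat.Prime 3) := ⟨Nat.prime_three⟩
  set N := Subgroup.normalizer (d.P : Set G) with hN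
  have hXN : d.φ mX ∈ N := by
    apply Subgroup.mem_normalizer_fintype
    rintro _ ⟨a, ha, rfl⟩
    exact ⟨mX * a * mX⁻¹, model_sylow.2.2.2.2.2.1 a ha, by rw [map_mul, map_mul, map_inv]⟩
  have hcard := card_normalizer_P d hT
  have h3 : ¬ 3 ∣ Nat.card (Sylow 7 ↥N) := by
    obtain ⟨Q⟩ := (inferInstance : Nonempty (Sylow 7 ↥N))
    have hd : Nat.card (Sylow 7 ↥N) ∣ 24 := by
      have h := Q.card_dvd_index
      have h2 := (Q : Subgroup ↥N).index_mul_card
      rw [Q.card_eq_multiplicity, hcard] at h2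
      have hf : (168 : ℕ).factorization 7 = 1 := by
        rw [show (168 : ℕ) = 7 ^ 1 * 24 by norm_num, Nat.factorization_mul (by norm_num) (by norm_num),
          Nat.factorization_pow]
        simp [Nat.factorization_eq_zero_of_not_dvd (show ¬ 7 ∣ 24 by norm_num),
          (show Nat.Prime 7 by norm_num).factorization_self]
      rw [hf, pow_one] at h2
      have : (Q : Subgroup ↥N).index = 24 := by omega
      rwa [this] at h
    have hm := card_sylow_modEq_one 7 ↥N
    intro h
    have hle := Nat.le_of_dvd (by norm_num) hd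
    unfold Nat.ModEq at hm
    obtain ⟨k, hk⟩ := h
    interval_cases Nat.card (Sylow 7 ↥N) <;> omega
  set x : ↥N := ⟨d.φ mX, hXN⟩ with hx
  have hp : IsPGroup 3 ↥(Subgroup.zpowers x) := by
    refine IsPGroup.of_card (n := 1) ?_
    rw [Nat.card_zpowers, ← Subgroup.orderOf_coe, hx, orderOf_injective d.φ d.inj, pow_one]
    exact orderOf_eq_prime model_orders.2.2.2.1 model_orders.2.2.1
  obtain ⟨Q, hQ⟩ := hp.nonempty_fixed_point_of_prime_not_dvd_card (Sylow 7 ↥N) h3
  have hQx : x • Q = Q := hQ ⟨x, Subgroup.mem_zpowers x⟩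
  have hQc : Nat.card ↥(Q : Subgroup ↥N) = 7 := by
    rw [Q.card_eq_multiplicity, hcard, show (168 : ℕ) = 7 ^ 1 * 24 by norm_num,
      Nat.factorization_mul (by norm_num) (by norm_num), Nat.factorization_pow]
    simp [Nat.factorization_eq_zero_of_not_dvd (show ¬ 7 ∣ 24 by norm_num),
      (show Nat.Prime 7 by norm_num).factorization_self]
  obtain ⟨n₀, hn₀⟩ := exists_prime_orderOf_dvd_card' 7 (G := ↥(Q : Subgroup ↥N)) (by rw [hQc])
  rw [← Subgroup.orderOf_coe] at hn₀
  have hgen : Subgroup.zpowers (n₀ : ↥N) = (Q : Subgroup ↥N) :=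
    Subgroup.eq_of_le_of_card_ge (Subgroup.zpowers_le.2 n₀.2) (by rw [Nat.card_zpowers, hn₀, hQc])
  have hconj : x * (n₀ : ↥N) * x⁻¹ ∈ (Q : Subgroup ↥N) := by
    have h : x * (n₀ : ↥N) * x⁻¹ ∈ ((x • Q : Sylow 7 ↥N) : Subgroup ↥N) := by
      rw [Sylow.coe_subgroup_smul, Subgroup.mem_pointwise_smul_iff_inv_smul_mem, ← map_inv,
        MulAut.smul_def, MulAut.conj_apply, inv_inv]
      have e : x⁻¹ * (x * (n₀ : ↥N) * x⁻¹) * x = (n₀ : ↥N) := by group
      rw [e]
      exact n₀.2
    rwa [hQx] at h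
  replace hconj : x * (n₀ : ↥N) * x⁻¹ ∈ Subgroup.zpowers (n₀ : ↥N) := by rw [hgen]; exact hconj
  rw [mem_zpowers_iff_mem_range_orderOf, hn₀, Finset.mem_image] at hconj
  obtain ⟨k, hk7, hk⟩ := hconj
  set n : G := ((n₀ : ↥N) : G) with hndef
  have hnN : n ∈ N := (n₀ : ↥N).2
  have ho : orderOf n = 7 := by rw [hndef, Subgroup.orderOf_coe, hn₀]
  replace hk : d.φ mX * n * (d.φ mX)⁻¹ = n ^ k := by
    have := congrArg Subtype.val hk.symm
    simpa [hx] using this
  rw [Finset.mem_range] at hk7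
  have hk3 : k * (k * k) % 7 = 1 := by
    have e : ∀ j : ℕ, d.φ mX * n ^ j * (d.φ mX)⁻¹ = n ^ (k * j) := fun j => by
      rw [← conj_pow, hk, pow_mul]
    have h := e (k * k)
    have h2 := e k
    rw [← h2, ← hk] at h
    have h3 : d.φ mX ^ 3 * n * (d.φ mX ^ 3)⁻¹ = n ^ (k * (k * k)) := by
      rw [← h]
      simp only [pow_succ, pow_zero, one_mul, mul_inv_rev, mul_assoc]
    rw [← map_pow, model_orders.2.2.2.1, map_one, one_mul, inv_one, mul_one] at h3
    conv_lhs at h3 => rw [← pow_one n]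
    have h4 := pow_eq_pow_iff_modEq.1 h3
    rw [ho] at h4
    exact h4.symm
  interval_cases k <;> norm_num at hk3
  · -- `mX` would centralize `n`
    exfalso
    rw [pow_one, mul_inv_eq_iff_eq_mul] at hk
    obtain ⟨m, hm, hme⟩ := (Subgroup.mem_normalizer_iff.1 hnN d.t).1 ⟨mT, model_sylow.2.1, rfl⟩
    have hfix : mX * m * mX⁻¹ = m := d.inj (by
      rw [map_mul, map_mul, map_inv, hme]
      have hc : d.φ mX * d.t = d.t * d.φ mX := by rw [Data.t, ← map_mul, ← map_mul, model_central.1]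
      calc d.φ mX * (n * d.t * n⁻¹) * (d.φ mX)⁻¹
          = (d.φ mX * n) * d.t * (d.φ mX * n)⁻¹ := by group
        _ = n * (d.φ mX * d.t) * (n * d.φ mX)⁻¹ := by rw [hk]; group
        _ = _ := by rw [hc]; group)
    rcases model_sylow.2.2.2.2.2.2 m hm hfix with e | e
    · rw [e, map_one, eq_comm, mul_inv_eq_one, mul_eq_left] at hme
      have h := orderOf_t d
      rw [hme, orderOf_one] at h
      omega
    · rw [e, eq_comm, mul_inv_eq_iff_eq_mul] at hme
      obtain ⟨m', hm'⟩ := mem_range_of_commute d (g := n) hme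
      rw [← hm', orderOf_injective d.φ d.inj] at ho
      have h := orderOf_dvd_natCard m'
      rw [ho, card_model] at h
      omega
  · obtain ⟨F, hF⟩ := exists_frame_of_twist d hnN ho hk
    exact ⟨F, by rw [hF]⟩
  · -- use the twisted embedding
    have hsurj : Function.Surjective twist := fun m => ⟨twist m, twist_spec.2.2.1 m⟩
    let d' : Data G := ⟨d.φ.comp twist,
      d.inj.comp fun a b h => by rw [← twist_spec.2.2.1 a, ← twist_spec.2.2.1 b, h],
      by rw [MonoidHom.range_comp, MonoidHom.range_eq_top.2 hsurj, ← MonoidHom.range_eq_map, d.range_eq,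
        MonoidHom.comp_apply, twist_spec.1]⟩
    have hP : d'.P = d.P := by
      ext g
      constructor
      · rintro ⟨m, hm, rfl⟩
        exact ⟨twist m, twist_spec.2.2.2 m hm, rfl⟩
      · rintro ⟨m, hm, rfl⟩
        exact ⟨twist m, twist_spec.2.2.2 m hm, congrArg d.φ (twist_spec.2.2.1 m)⟩
    obtain ⟨F, hF⟩ := exists_frame_of_twist d' (n := n) (hP ▸ hnN) ho (by
      show d.φ (twist mX) * n * (d.φ (twist mX))⁻¹ = n ^ 2
      rw [twist_spec.2.1, map_inv, inv_inv]
      have h2 : d.φ mX * n ^ 2 * (d.φ mX)⁻¹ = n := by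
        rw [← conj_pow, hk, ← pow_mul]
        have : n ^ (4 * 2) = n ^ 1 := pow_eq_pow_iff_modEq.2 (by rw [ho]; decide)
        rw [this, pow_one]
      conv_lhs => rw [← h2]
      group)
    exact ⟨F, by rw [hF]; exact congrArg d.φ twist_spec.1⟩

end Cfsg.Agent.J1Order91
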