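import Cfsg.Agent.Lib.J1Basic

/-!
Subgroups of odd order of the Janko group have fewer than 1463 elements.
-/

set_option autoImplicit false

namespace Cfsg.Agent.J1WeakClosure91

theorem exists_order_lift {D A : Type*} [Group D] [Finite D] [Group A] (f : D →* A) (hf : Function.Surjective f)
    {a : A} {n : ℕ} (ha : orderOf a = n) : ∃ d : D, orderOf d = n := by
  obtain ⟨d, rfl⟩ := hf a
  obtain ⟨c, hc⟩ := orderOf_map_dvd f d
  have hn : 0 < n := by
    rw [← ha]
    exact Nat.pos_of_ne_zero fun e => by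
      rw [e, zero_mul] at hc
      exact (orderOf_pos d).ne' hc
  exact ⟨d ^ (orderOf d / n), orderOf_pow_orderOf_div (orderOf_pos d).ne' (ha ▸ orderOf_map_dvd f d)⟩

theorem exists_mul_of_commutator {D : Type*} [Group D] [Finite D] [IsZGroup D] {q p : ℕ} [Fact q.Prime] [Fact p.Prime]
    (hqp : q ≠ p) (hr : ∀ r : ZMod q, r ^ p = 1 → r = 1) (hq : q ∣ Nat.card (commutator D)) (hp : p ∣ Nat.card D) :
    ∃ d : D, orderOf d = q * p := by
  classical
  have := IsZGroup.isCyclic_commutator (G := D)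
  obtain ⟨x, hx⟩ := exists_prime_orderOf_dvd_card' (G := commutator D) q hq
  obtain ⟨y, hy⟩ := exists_prime_orderOf_dvd_card' (G := D) p hp
  have hxo : orderOf (x : D) = q := by rw [Subgroup.orderOf_coe, hx]
  have hyx : y * (x : D) * y⁻¹ ∈ Subgroup.zpowers (x : D) := by
    let z : commutator D := ⟨y * x * y⁻¹, (inferInstance : (commutator D).Normal).conj_mem _ x.2 y⟩
    have hz : z ^ q = 1 := Subtype.ext (by
      show (y * (x : D) * y⁻¹) ^ q = 1
      rw [conj_pow, ← hxo, pow_orderOf_eq_one]; group)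
    have : Fintype (commutator D) := Fintype.ofFinite _
    have hle := IsCyclic.card_pow_eq_one_le (α := commutator D) (Fact.out : q.Prime).pos
    have hsub : (Subgroup.zpowers x : Set (commutator D)).toFinset ⊆ Finset.univ.filter fun a => a ^ q = 1 := by
      intro a ha
      rw [Set.mem_toFinset] at ha
      obtain ⟨i, rfl⟩ := Subgroup.mem_zpowers_iff.1 ha
      simp only [Finset.mem_filter, Finset.mem_univ, true_and]
      rw [← zpow_natCast, ← zpow_mul, mul_comm, zpow_mul, zpow_natCast, ← hx, pow_orderOf_eq_one, one_zpow]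
    have heq := Finset.eq_of_subset_of_card_le hsub (by
      rw [Set.toFinset_card, ← Nat.card_eq_fintype_card]
      exact hle.trans (le_of_eq (by rw [SetLike.coe_sort_coe, Nat.card_zpowers, hx])))
    have hzm : z ∈ Subgroup.zpowers x := by
      have : z ∈ (Finset.univ.filter fun a : commutator D => a ^ q = 1) := by simp [hz]
      rw [← heq, Set.mem_toFinset] at this
      exact this
    obtain ⟨i, hi⟩ := Subgroup.mem_zpowers_iff.1 hzm
    exact Subgroup.mem_zpowers_iff.2 ⟨i, by rw [← Subgroup.coe_zpow, hi]⟩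
  obtain ⟨r, hr'⟩ := Subgroup.mem_zpowers_iff.1 hyx
  have hpow : ∀ n : ℕ, y ^ n * (x : D) * (y ^ n)⁻¹ = (x : D) ^ (r ^ n) := by
    intro n
    induction n with
    | zero => simp
    | succ n ih =>
      rw [pow_succ' y, mul_inv_rev, show y * y ^ n * (x : D) * ((y ^ n)⁻¹ * y⁻¹) = y * (y ^ n * (x : D) * (y ^ n)⁻¹) * y⁻¹ by group,
        ih, ← conj_zpow, ← hr', ← zpow_mul, pow_succ']
  have h1 := hpow p
  rw [← hy, pow_orderOf_eq_one, inv_one, mul_one, one_mul, hy] at h1
  have h2 : ((r ^ p : ℤ) : ZMod q) = ((1 : ℤ) : ZMod q) := by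
    rw [ZMod.intCast_eq_intCast_iff, ← hxo]
    exact zpow_eq_zpow_iff_modEq.1 (by rw [zpow_one]; exact h1.symm)
  push_cast at h2
  have h3 := hr _ h2
  have hxy : y * (x : D) * y⁻¹ = x := by
    rw [← hr']
    conv_rhs => rw [← zpow_one (x : D)]
    rw [zpow_eq_zpow_iff_modEq, hxo, ← ZMod.intCast_eq_intCast_iff]
    push_cast
    exact h3
  refine ⟨(x : D) * y, ?_⟩
  rw [(show Commute (x : D) y from (mul_inv_eq_iff_eq_mul.1 hxy).symm).orderOf_mul_eq_mul_orderOf_of_coprime
    (by rw [hxo, hy]; exact (Nat.coprime_primes Fact.out Fact.out).2 hqp), hxo, hy]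

theorem exists_mul {D : Type*} [Group D] [Finite D] [IsZGroup D] {q p : ℕ} [Fact q.Prime] [Fact p.Prime]
    (hqp : q ≠ p) (hr : ∀ r : ZMod q, r ^ p = 1 → r = 1) (hr' : ∀ r : ZMod p, r ^ q = 1 → r = 1)
    (hq : q ∣ Nat.card D) (hp : p ∣ Nat.card D) : ∃ d : D, orderOf d = q * p := by
  by_cases hq' : q ∣ Nat.card (commutator D)
  · exact exists_mul_of_commutator hqp hr hq' hp
  by_cases hp' : p ∣ Nat.card (commutator D)
  · rw [mul_comm]; exact exists_mul_of_commutator hqp.symm hr' hp' hq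
  have hc := (commutator D).card_eq_card_quotient_mul_card_subgroup
  rw [hc] at hq hp
  have hq2 := ((Fact.out : q.Prime).dvd_mul.1 hq).resolve_right hq'
  have hp2 := ((Fact.out : p.Prime).dvd_mul.1 hp).resolve_right hp'
  have hqp2 := ((Nat.coprime_primes Fact.out Fact.out).2 hqp).mul_dvd_of_dvd_of_dvd hq2 hp2
  obtain ⟨g, hg⟩ := IsCyclic.exists_generator (α := Abelianization D)
  have hgo : orderOf g = Nat.card (Abelianization D) := orderOf_eq_card_of_forall_mem_zpowers hg
  exact exists_order_lift (Abelianization.of (G := D)) Quotient.mk_surjective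
    (a := g ^ (orderOf g / (q * p))) (orderOf_pow_orderOf_div (orderOf_pos g).ne' (hgo ▸ hqp2))

theorem zmod_seven : (∀ r : ZMod 19, r ^ 7 = 1 → r = 1) ∧ (∀ r : ZMod 7, r ^ 19 = 1 → r = 1) := by
  decide +kernel

theorem zmod_eleven : (∀ r : ZMod 19, r ^ 11 = 1 → r = 1) ∧ (∀ r : ZMod 11, r ^ 19 = 1 → r = 1) := by
  decide +kernel

theorem no_big_odd (H : Subgroup Cfsg.Spor.J1) (hodd : Odd (Nat.card H)) (hbig : 1463 ≤ Nat.card H) : False := by
  have hd := H.card_subgroup_dvd_card
  rw [J1Basic.card_J1, show 175560 = 2 ^ 3 * 21945 by norm_num] at hd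
  set d := Nat.card H with hdef
  have hd' : d ∣ 21945 := (Nat.Coprime.pow_right 3 (Nat.coprime_two_right.2 hodd)).dvd_of_dvd_mul_left hd
  have hsq : Squarefree d := Squarefree.squarefree_of_dvd hd' (by
    rw [Nat.squarefree_iff_nodup_primeFactorsList (by norm_num)]
    rw [show (21945 : ℕ).primeFactorsList = [3, 5, 7, 11, 19] by norm_num [Nat.primeFactorsList]]
    decide)
  have : IsZGroup H := IsZGroup.of_squarefree (hdef ▸ hsq)
  have h19 : 19 ∣ d := by
    by_contra h
    have hcop : d.Coprime 19 := ((Nat.Prime.coprime_iff_not_dvd (by norm_num)).2 h).symm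
    have := Nat.le_of_dvd (by norm_num) (hcop.dvd_of_dvd_mul_right (show d ∣ 1155 * 19 by norm_num; exact hd'))
    omega
  have h7 : 7 ∣ d ∨ 11 ∣ d := by
    by_contra! h
    have hcop : d.Coprime 77 := Nat.Coprime.mul_right (m := 7) (n := 11)
      ((Nat.Prime.coprime_iff_not_dvd (by norm_num)).2 h.1).symm ((Nat.Prime.coprime_iff_not_dvd (by norm_num)).2 h.2).symm
    have := Nat.le_of_dvd (by norm_num) (hcop.dvd_of_dvd_mul_right (show d ∣ 285 * 77 by norm_num; exact hd'))
    omega
  have f19 : Fact (Nat.Prime 19) := ⟨by norm_num⟩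
  rcases h7 with h | h
  · have : Fact (Nat.Prime 7) := ⟨by norm_num⟩
    obtain ⟨g, hg⟩ := exists_mul (D := H) (q := 19) (p := 7) (by norm_num) zmod_seven.1 zmod_seven.2 h19 h
    have := J1Basic.orderOf_mem (g : Cfsg.Spor.J1)
    rw [Subgroup.orderOf_coe, hg] at this
    simp [J1Basic.orders] at this
  · have : Fact (Nat.Prime 11) := ⟨by norm_num⟩
    obtain ⟨g, hg⟩ := exists_mul (D := H) (q := 19) (p := 11) (by norm_num) zmod_eleven.1 zmod_eleven.2 h19 h
    have := J1Basic.orderOf_mem (g : Cfsg.Spor.J1)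
    rw [Subgroup.orderOf_coe, hg] at this
    simp [J1Basic.orders] at this

end Cfsg.Agent.J1WeakClosure91
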