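import Cfsg.Agent.Lib.J1WeakClosure91Fusion

/-!
The centralizers of the seven involutions have a common complement to their weak closures.
-/

set_option autoImplicit false
set_option linter.unusedSectionVars false

namespace Cfsg.Agent.J1WeakClosure91

open Cfsg.Agent.SignalizerStrongEmb (involution_mul_self involution_ne_one orderOf_conj orderOf_eq_two_of_mul_self)

variable {G : Type*} [Group G]

/-- The join of the seven weak closures. -/
def Yw (t : G) (S : Sylow 2 G) : Subgroup G :=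
  Subgroup.closure {x | Cl t x ∧ ∃ s ∈ Hyp.Ee t S, s ≠ 1 ∧ x * s = s * x}

/-- Its centralizer. -/
def Kw (t : G) (S : Sylow 2 G) : Subgroup G := Subgroup.centralizer (Yw t S : Set G)

namespace Hyp

variable [Finite G] {t : G} {S : Sylow 2 G} (h : Hyp t S)
include h

theorem t_ne : t ≠ 1 := involution_ne_one h.ord

theorem Wof_le_Y {s : G} (hs : s ∈ Ee t S) (hs1 : s ≠ 1) : Wof t s ≤ Yw t S :=
  (Subgroup.closure_le _).2 fun x hx => Subgroup.subset_closure ⟨hx.1, s, hs, hs1, hx.2⟩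

theorem E_le_Y : Ee t S ≤ Yw t S := fun _ hx => h.Wof_le_Y h.t_mem_E h.t_ne hx.2

theorem K_comm {k y : G} (hk : k ∈ Kw t S) (hy : y ∈ Yw t S) : k * y = y * k :=
  (Subgroup.mem_centralizer_iff.1 hk y hy).symm

theorem mem_K {k : G} (hk : ∀ s ∈ Ee t S, s ≠ 1 → ∀ w ∈ Wof t s, k * w = w * k) : k ∈ Kw t S := by
  rw [Kw, Subgroup.mem_centralizer_iff]
  intro y hy
  have : Yw t S ≤ Cz k := by
    rw [Yw, Subgroup.closure_le]
    rintro x ⟨hx, s, hs, hs1, hxs⟩
    exact mem_Cz.2 (hk s hs hs1 x (mem_Wof hx hxs)).symm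
  exact mem_Cz.1 (this hy)

/-- In a weak closure only `s` is central. -/
theorem center_Wof {s w : G} {ι : A5 →* G} (hd : Dec t s ι) (hw : w ∈ Wof t s)
    (hc : ∀ z ∈ Wof t s, w * z = z * w) : w = 1 ∨ w = s := by
  obtain ⟨u, e | e⟩ := hd.split w hw
  · have hu : u = 1 := a5_center u fun g => hd.inj (by rw [map_mul, map_mul, ← e]; exact (hc _ (hd.le g)).symm)
    exact Or.inl (by rw [e, hu, map_one])
  · have hu : u = 1 := a5_center u fun g => hd.inj (by
      rw [map_mul, map_mul]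
      refine mul_left_cancel (a := s) ?_
      have := (hc _ (hd.le g)).symm
      rw [e] at this
      rw [← mul_assoc, ← hd.comm g, mul_assoc, this, mul_assoc])
    exact Or.inr (by rw [e, hu, map_one, mul_one])

/-- An element centralizing `E` is a member of `E` times an element centralizing a given weak closure. -/
theorem near_cent {s y : G} (hs : s ∈ Ee t S) (hs1 : s ≠ 1) (hy : ∀ e ∈ Ee t S, y * e = e * y) :
    ∃ e ∈ Ee t S, ∀ w ∈ Wof t s, e * y * w = w * (e * y) := by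
  obtain ⟨ι, a, b, x, hd, h4, hxa, hxb, hmem⟩ := h.frameOf hs hs1
  have hys := hy s hs
  have hmem' : ∀ u, y * ι u * y⁻¹ ∈ ι.range := fun u => by
    rw [hd.range]
    refine conj_Wd_fix hys ?_
    rw [← hd.range]
    exact ⟨u, rfl⟩
  let φ : A5 →* A5 := (MonoidHom.ofInjective hd.inj).symm.toMonoidHom.comp
    (((MulAut.conj y).toMonoidHom.comp ι).codRestrict ι.range fun u => by simpa using hmem' u)
  have hφ : ∀ u, ι (φ u) = y * ι u * y⁻¹ := fun u => by
    simp only [φ, MonoidHom.comp_apply, MulEquiv.coe_toMonoidHom]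
    rw [← MonoidHom.ofInjective_apply hd.inj, MulEquiv.apply_symm_apply]
    rfl
  have hfix : ∀ {v}, InFour a b v → φ v = v := fun {v} hv => hd.inj (by
    rw [hφ, hy _ ((hmem _).2 ⟨v, hv, Or.inl rfl⟩), mul_inv_cancel_right])
  obtain ⟨v, hv, hv'⟩ := fix_four h4 φ (hfix (Or.inr (Or.inl rfl))) (hfix (Or.inr (Or.inr (Or.inl rfl))))
  have hvE : ι v ∈ Ee t S := (hmem _).2 ⟨v, hv, Or.inl rfl⟩
  refine ⟨(ι v)⁻¹, Subgroup.inv_mem _ hvE, fun w hw => ?_⟩
  have hu : ∀ u, (ι v)⁻¹ * y * ι u = ι u * ((ι v)⁻¹ * y) := fun u => by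
    calc (ι v)⁻¹ * y * ι u = (ι v)⁻¹ * (y * ι u * y⁻¹) * y := by group
      _ = (ι v)⁻¹ * ι (v * u * v⁻¹) * y := by rw [← hφ, hv']
      _ = _ := by rw [map_mul, map_mul, map_inv]; group
  have hsc : (ι v)⁻¹ * y * s = s * ((ι v)⁻¹ * y) := by
    rw [mul_assoc, hys, ← mul_assoc, ← mul_assoc, h.E_comm (Subgroup.inv_mem _ hvE) hs]
  obtain ⟨u, rfl | rfl⟩ := hd.split w hw
  · exact hu u
  · rw [← mul_assoc, hsc, mul_assoc, hu, ← mul_assoc]

/-- Every element centralizing `E` is a member of `E` times a member of `K`. -/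
theorem cent_E {y : G} (hy : ∀ e ∈ Ee t S, y * e = e * y) : ∃ e ∈ Ee t S, e * y ∈ Kw t S := by
  classical
  have : Fact (Nat.Prime 2) := ⟨Nat.prime_two⟩
  let P := {s : Ee t S // (s : G) ≠ 1}
  choose f hf hf' using fun s : P => h.near_cent (y := y) s.1.2 s.2 hy
  let g : P × Bool → Ee t S := fun p => if p.2 then p.1.1 * ⟨f p.1, hf p.1⟩ else ⟨f p.1, hf p.1⟩
  have hg : ∀ p : P × Bool, ∀ w ∈ Wof t (p.1.1 : G), (g p : G) * y * w = w * ((g p : G) * y) := by
    rintro ⟨s, b⟩ w hw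
    cases b
    · exact hf' s w hw
    · show (s.1 : G) * f s * y * w = w * ((s.1 : G) * f s * y)
      rw [mul_assoc (s.1 : G) (f s) y, mul_assoc (s.1 : G), hf' s w hw, ← mul_assoc, ← mem_Cz.1 (Wof_le_Cz t _ hw),
        mul_assoc]
  have : Fintype (Ee t S) := Fintype.ofFinite _
  have hcard : Fintype.card (Ee t S) < Fintype.card (P × Bool) := by
    have h1 : Fintype.card P = Fintype.card (Ee t S) - 1 := by
      rw [Fintype.card_congr (Equiv.subtypeEquivRight (q := fun s : Ee t S => ¬ s = 1) fun s => by simp),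
        Fintype.card_subtype_compl, Fintype.card_subtype_eq]
    have h8 : Fintype.card (Ee t S) = 8 := by rw [← Nat.card_eq_fintype_card, h.card_E]
    simp [Fintype.card_prod, h1, h8]
  obtain ⟨p, q, hpq, he⟩ := Fintype.exists_ne_map_eq_of_card_lt g hcard
  have hne : p.1 ≠ q.1 := by
    intro e
    obtain ⟨p1, pb⟩ := p
    obtain ⟨q1, qb⟩ := q
    simp only at e
    subst e
    cases pb <;> cases qb <;> simp [g] at hpq he
    · exact p1.2 (by rw [he]; rfl)
    · exact p1.2 (by rw [he]; rfl)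
  refine ⟨g p, (g p).2, ?_⟩
  set z := (g p : G) * y with hz
  have hzs : ∀ w ∈ Wof t (p.1.1 : G), z * w = w * z := hg p
  have hzq : ∀ w ∈ Wof t (q.1.1 : G), z * w = w * z := fun w hw => by
    rw [hz, he]; exact hg q w hw
  obtain ⟨ι, a, b, x, hF⟩ := h.frameOf p.1.1.2 p.1.2
  obtain ⟨ι', a', b', x', hF'⟩ := h.frameOf q.1.1.2 q.1.2
  let L := NE t S ⊓ Cz z
  have hxL : ι x ∈ L := ⟨h.frame_x_mem hF, mem_Cz.2 (hzs _ (hF.dec.le x)).symm⟩
  have hxL' : ι' x' ∈ L := ⟨h.frame_x_mem hF', mem_Cz.2 (hzq _ (hF'.dec.le x')).symm⟩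
  let O : G → Prop := fun r => ∃ l ∈ L, l * (p.1.1 : G) * l⁻¹ = r
  have hall : ∀ r ∈ Ee t S, r ≠ 1 → O r := by
    intro r hr hr1
    refine h.full_of_odd hF (O := O) ⟨1, L.one_mem, by group⟩ ?_ ?_ ?_ ?_ hr hr1
    · rintro r ⟨l, hl, rfl⟩
      exact ⟨conj_mem_normalizer hl.1 p.1.1.2, fun e => p.1.2 (conj_eq_one_iff.1 e)⟩
    · rintro r ⟨l, hl, rfl⟩
      exact ⟨ι x * l, L.mul_mem hxL hl, by group⟩
    · refine ⟨ι' x' * (p.1.1 : G) * (ι' x')⁻¹, ⟨ι' x', hxL', rfl⟩, fun e => hne (Subtype.ext (Subtype.ext ?_))⟩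
      obtain ⟨hd', h4', hxa, hxb, hmem'⟩ := hF'
      obtain ⟨v, hv, e'⟩ := (hmem' _).1 p.1.1.2
      have hxv : x' * v * x'⁻¹ = v := by
        rcases e' with e' | e'
        · rw [e'] at e
          exact hd'.inj (by rw [map_mul, map_mul, map_inv, e])
        · rw [e', show ι' x' * ((q.1.1 : G) * ι' v) * (ι' x')⁻¹ = (ι' x' * (q.1.1 : G)) * ι' v * (ι' x')⁻¹ by group,
            hd'.comm, mul_assoc, mul_assoc, mul_left_cancel_iff, ← mul_assoc] at e
          exact hd'.inj (by rw [map_mul, map_mul, map_inv, e])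
      have hv1 : v = 1 := by
        rcases hv with rfl | rfl | rfl | rfl
        · rfl
        · exact absurd (hxv.symm.trans hxa) h4'.ne
        · exact absurd (hxb.symm.trans hxv) (fun e2 => h4'.a1 (right_eq_mul.1 e2.symm))
        · exfalso
          have hxab : x' * (a' * b') * x'⁻¹ = a' := by
            calc x' * (a' * b') * x'⁻¹ = x' * a' * x'⁻¹ * (x' * b' * x'⁻¹) := by group
              _ = b' * (a' * b') := by rw [hxa, hxb]
              _ = a' := by rw [h4'.comm, ← mul_assoc, h4'.b2, one_mul]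
          exact h4'.b1 (left_eq_mul.1 (hxab.symm.trans hxv))
      subst hv1
      rw [map_one, mul_one] at e'
      exact e'.resolve_left p.1.2
    · obtain ⟨Q⟩ : Nonempty (Sylow 2 L) := inferInstance
      refine orbit_odd (Q := (Q : Subgroup L).map L.subtype) ?_ ?_
      · rintro _ ⟨l, hl, rfl⟩
        obtain ⟨k, hk⟩ := Q.2 ⟨l, hl⟩
        refine mem_Cz.2 (h.two_comm k _ l.2.1 ?_ _ p.1.1.2)
        exact congrArg Subtype.val (congrArg Subtype.val hk)
      · rw [Subgroup.relIndex, Subgroup.subgroupOf, Subgroup.comap_map_eq_self_of_injective L.subtype_injective]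
        exact Q.not_dvd_index
  refine h.mem_K fun r hr hr1 w hw => ?_
  obtain ⟨l, hl, rfl⟩ := hall r hr hr1
  have h1 := hzs (l⁻¹ * w * l) (by
    have := conj_Wof l⁻¹ hw
    rwa [show l⁻¹ * (l * (p.1.1 : G) * l⁻¹) * l⁻¹⁻¹ = p.1.1 by group, inv_inv] at this)
  have hlz : l * z = z * l := mem_Cz.1 hl.2
  calc z * w = (z * l) * (l⁻¹ * w * l) * l⁻¹ := by group
    _ = l * (z * (l⁻¹ * w * l)) * l⁻¹ := by rw [← hlz]; group
    _ = l * ((l⁻¹ * w * l) * z) * l⁻¹ := by rw [h1]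
    _ = w * (l * z) * l⁻¹ := by group
    _ = _ := by rw [hlz]; group

theorem E_inf_K {e : G} (he : e ∈ Ee t S) (hk : e ∈ Kw t S) : e = 1 := by
  obtain ⟨ι, hd⟩ := h.dec (Cl.refl t)
  have hWE : Wof t t ≤ Yw t S := h.Wof_le_Y h.t_mem_E h.t_ne
  rcases h.center_Wof hd he.2 (fun z hz => h.K_comm hk (hWE hz)) with e1 | e1
  · exact e1
  · obtain ⟨ι', a, b, x, hd', h4, -, -, hmem⟩ := h.frameOf h.t_mem_E h.t_ne
    have hsE : ι' a ∈ Ee t S := (hmem _).2 ⟨a, Or.inr (Or.inl rfl), Or.inl rfl⟩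
    have hs1 : ι' a ≠ 1 := fun e2 => h4.a1 (hd'.inj (by rw [e2, map_one]))
    obtain ⟨ι'', hd''⟩ := h.dec (h.all_cl hsE hs1)
    rcases h.center_Wof hd'' (h.E_le_Wof hsE he) (fun z hz => h.K_comm hk (h.Wof_le_Y hsE hs1 hz)) with e2 | e2
    · exact e2
    · exact absurd (e2.symm.trans e1) (hd'.not_mem a)

/-- A weak closure meets `K` trivially. -/
theorem Wof_inf_K {s w : G} (hs : s ∈ Ee t S) (hs1 : s ≠ 1) (hw : w ∈ Wof t s) (hk : w ∈ Kw t S) : w = 1 := by
  obtain ⟨ι, hd⟩ := h.dec (h.all_cl hs hs1)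
  rcases h.center_Wof hd hw (fun z hz => h.K_comm hk (h.Wof_le_Y hs hs1 hz)) with e | e
  · exact e
  · exact h.E_inf_K (e ▸ hs) hk

/-- The centralizer of each of the seven is its weak closure times `K`. -/
theorem Cz_eq {s c : G} (hs : s ∈ Ee t S) (hs1 : s ≠ 1) (hc : c * s = s * c) :
    ∃ w ∈ Wof t s, ∃ k ∈ Kw t S, c = w * k := by
  have hB : (Ee t S).map (MulAut.conj c).toMonoidHom ≤ Wof t s := by
    rintro _ ⟨x, hx, rfl⟩
    exact conj_Wof_fix hc (h.E_le_Wof hs hx)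
  obtain ⟨w, hw, P, hPW, pP, hEP, hP⟩ := exists_conj_common (h.E_le_Wof hs) hB h.two_group_E (h.two_group_E.map _)
  have hPE := h.two_group_eq hs hs1 hPW pP hEP
  obtain ⟨ι, a, b, x, hF⟩ := h.frameOf hs hs1
  obtain ⟨hd, h4, hxa, hxb, hmem⟩ := id hF
  have hn : w * c ∈ NE t S := mem_normalizer_of_forall fun y hy => by
    have := hP _ ⟨y, hy, rfl⟩
    rw [hPE, MulEquiv.coe_toMonoidHom, MulAut.conj_apply] at this
    rwa [show w * c * y * (w * c)⁻¹ = w * (c * y * c⁻¹) * w⁻¹ by group]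
  have hns : w * c * s = s * (w * c) := by
    rw [mul_assoc, hc, ← mul_assoc, mem_Cz.1 (Wof_le_Cz t s hw), mul_assoc]
  have hxab : x * (a * b) * x⁻¹ = a := by
    calc x * (a * b) * x⁻¹ = x * a * x⁻¹ * (x * b * x⁻¹) := by group
      _ = b * (a * b) := by rw [hxa, hxb]
      _ = a := by rw [h4.comm, ← mul_assoc, h4.b2, one_mul]
  -- conjugation by an element of the normalizer centralizing `s`, inside the frame
  have key : ∀ {n : G}, n ∈ NE t S → n * s = s * n → ∀ {v}, InFour a b v → v ≠ 1 →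
      ∃ u, (u = a ∨ u = b ∨ u = a * b) ∧ n * ι v * n⁻¹ = ι u := by
    intro n hn hns v hv hv1
    have h1 : n * ι v * n⁻¹ ∈ Wd t s := conj_Wd_fix hns (by rw [← hd.range]; exact ⟨v, rfl⟩)
    rw [← hd.range] at h1
    obtain ⟨u, hu⟩ := h1
    obtain ⟨u', hu', e⟩ := (hmem (n * ι v * n⁻¹)).1 (conj_mem_normalizer hn ((hmem _).2 ⟨v, hv, Or.inl rfl⟩))
    rcases e with e | e
    · refine ⟨u', hu'.resolve_left ?_, e⟩
      intro h1
      rw [h1, map_one, conj_eq_one_iff] at e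
      exact hv1 (hd.inj (by rw [e, map_one]))
    · rw [← hu] at e
      exact absurd (show ι (u * u'⁻¹) = s by rw [map_mul, map_inv, e, mul_inv_cancel_right]) (hd.not_mem _)
  obtain ⟨u, hu, hua⟩ := key hn hns (v := a) (Or.inr (Or.inl rfl)) h4.a1
  obtain ⟨r, hr, hrn, hra⟩ : ∃ r ∈ Wof t s, r ∈ NE t S ∧ r * (w * c) * ι a * (r * (w * c))⁻¹ = ι a := by
    have hx := h.frame_x_mem hF
    have e : ∀ r : A5, ι r * (w * c) * ι a * (ι r * (w * c))⁻¹ = ι (r * u * r⁻¹) := fun r => by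
      rw [map_mul, map_mul, map_inv, ← hua]; group
    rcases hu with rfl | rfl | rfl
    · exact ⟨1, Subgroup.one_mem _, Subgroup.one_mem _, by rw [one_mul]; exact hua⟩
    · refine ⟨ι (x * x), hd.le _, by rw [map_mul]; exact Subgroup.mul_mem _ hx hx, ?_⟩
      rw [e, show x * x * u * (x * x)⁻¹ = x * (x * u * x⁻¹) * x⁻¹ by group, hxb, hxab]
    · exact ⟨ι x, hd.le _, hx, by rw [e, hxab]⟩
  set n := r * (w * c) with hndef
  have hnN : n ∈ NE t S := Subgroup.mul_mem _ hrn hn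
  have hns' : n * s = s * n := by
    rw [hndef, mul_assoc, hns, ← mul_assoc, mem_Cz.1 (Wof_le_Cz t s hr), mul_assoc]
  have hnE : ∀ y ∈ Ee t S, n * y = y * n := by
    have hna : n * ι a = ι a * n := mul_inv_eq_iff_eq_mul.1 hra
    obtain ⟨u, hu, hub⟩ := key hnN hns' (v := b) (Or.inr (Or.inr (Or.inl rfl))) h4.b1
    have hnb : n * ι b = ι b * n := by
      rcases hu with rfl | rfl | rfl
      · exfalso
        exact h4.ne (hd.inj (mul_left_cancel (mul_right_cancel (hra.trans hub.symm))))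
      · exact mul_inv_eq_iff_eq_mul.1 hub
      · -- an odd power would act as an involution and be a 2-element
        exfalso
        have h2 : n * n * ι b = ι b * (n * n) := by
          have e1 : n * ι (a * b) * n⁻¹ = ι b := by
            rw [map_mul, show n * (ι a * ι b) * n⁻¹ = (n * ι a * n⁻¹) * (n * ι b * n⁻¹) by group, hub, hra,
              map_mul, ← mul_assoc, ← map_mul, h4.a2, map_one, one_mul]
          rw [← mul_inv_eq_iff_eq_mul, show n * n * ι b * (n * n)⁻¹ = n * (n * ι b * n⁻¹) * n⁻¹ by group, hub, e1]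
        obtain ⟨k, m, hm, hkm⟩ := Nat.exists_eq_two_pow_mul_odd (orderOf_pos n).ne'
        obtain ⟨j, rfl⟩ := hm
        have hp := h.two_comm k _ (Subgroup.pow_mem _ hnN (2 * j + 1))
          (by rw [← pow_mul, mul_comm, ← hkm, pow_orderOf_eq_one]) (ι b) ((hmem _).2 ⟨b, Or.inr (Or.inr (Or.inl rfl)), Or.inl rfl⟩)
        have hj : Commute ((n * n) ^ j) (ι b) := (show Commute (n * n) (ι b) from h2).pow_left j
        have hpow : n ^ (2 * j + 1) = (n * n) ^ j * n := by rw [pow_succ, pow_mul, pow_two]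
        rw [hpow] at hp
        have h3 : (n * n) ^ j * ι (a * b) * n = (n * n) ^ j * ι b * n := by
          calc (n * n) ^ j * ι (a * b) * n = (n * n) ^ j * (n * ι b) := by
                rw [mul_assoc, ← mul_inv_eq_iff_eq_mul.1 hub]
            _ = ι b * ((n * n) ^ j * n) := by rw [← mul_assoc, hp]
            _ = _ := by rw [← mul_assoc, hj.eq]
        exact h4.a1 (mul_eq_right.1 (hd.inj (mul_left_cancel (mul_right_cancel h3))))
    intro y hy
    obtain ⟨v, hv, e⟩ := (hmem y).1 hy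
    have hv' : n * ι v = ι v * n := by
      rcases hv with rfl | rfl | rfl | rfl
      · rw [map_one, one_mul, mul_one]
      · exact hna
      · exact hnb
      · rw [map_mul, ← mul_assoc, hna, mul_assoc, hnb, mul_assoc]
    rcases e with rfl | rfl
    · exact hv'
    · rw [← mul_assoc, hns', mul_assoc, hv', mul_assoc]
  obtain ⟨e, he, hek⟩ := h.cent_E hnE
  refine ⟨(e * r * w)⁻¹, Subgroup.inv_mem _ (Subgroup.mul_mem _ (Subgroup.mul_mem _ (h.E_le_Wof hs he) hr) hw),
    e * n, hek, ?_⟩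
  rw [hndef]; group

end Hyp

end Cfsg.Agent.J1WeakClosure91
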