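import Cfsg.Agent.Lib.J1WeakClosure91Cent

/-!
The normalizer of the join of the seven weak closures controls the conjugates of the involution.
-/

set_option autoImplicit false
set_option linter.unusedSectionVars false

namespace Cfsg.Agent.J1WeakClosure91

open Cfsg.Agent.SignalizerStrongEmb (involution_mul_self involution_ne_one orderOf_conj orderOf_eq_two_of_mul_self)

variable {G : Type*} [Group G]

/-- The normalizer of the join. -/
def Mw (t : G) (S : Sylow 2 G) : Subgroup G := Subgroup.normalizer (Yw t S : Set G)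

/-- Products of an element of `E` and one of `K`. -/
def EKmem (t : G) (S : Sylow 2 G) (x : G) : Prop := ∃ e ∈ Hyp.Ee t S, e * x ∈ Kw t S

namespace Hyp

variable [Finite G] {t : G} {S : Sylow 2 G} (h : Hyp t S)
include h

theorem NE_le_M : NE t S ≤ Mw t S := by
  intro n hn
  refine mem_normalizer_of_forall fun y hy => ?_
  have : Yw t S ≤ (Yw t S).comap (MulAut.conj n).toMonoidHom := (Subgroup.closure_le _).2 fun x ⟨hx, s, hs, hs1, hxs⟩ => by
    refine Subgroup.subset_closure ⟨hx.conj n, n * s * n⁻¹, conj_mem_normalizer hn hs,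
      fun e => hs1 (conj_eq_one_iff.1 e), ?_⟩
    show n * x * n⁻¹ * (n * s * n⁻¹) = n * s * n⁻¹ * (n * x * n⁻¹)
    calc n * x * n⁻¹ * (n * s * n⁻¹) = n * (x * s) * n⁻¹ := by group
      _ = n * (s * x) * n⁻¹ := by rw [hxs]
      _ = _ := by group
  exact this hy

theorem Y_le_M : Yw t S ≤ Mw t S := Subgroup.le_normalizer

theorem K_le_M : Kw t S ≤ Mw t S := fun k hk => mem_normalizer_of_forall fun y hy => by
  rw [h.K_comm hk hy, mul_inv_cancel_right]; exact hy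

theorem K_conj {m k : G} (hm : m ∈ Mw t S) (hk : k ∈ Kw t S) : m * k * m⁻¹ ∈ Kw t S := by
  rw [Kw, Subgroup.mem_centralizer_iff]
  intro y hy
  have hy' : m⁻¹ * y * m ∈ Yw t S := by
    have := conj_mem_normalizer ((Mw t S).inv_mem hm) hy
    rwa [inv_inv] at this
  calc y * (m * k * m⁻¹) = m * ((m⁻¹ * y * m) * k) * m⁻¹ := by group
    _ = m * (k * (m⁻¹ * y * m)) * m⁻¹ := by rw [h.K_comm hk hy']
    _ = _ := by group

theorem Cz_le_M {s : G} (hs : s ∈ Ee t S) (hs1 : s ≠ 1) : Cz s ≤ Mw t S := by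
  intro c hc
  obtain ⟨w, hw, k, hk, rfl⟩ := h.Cz_eq hs hs1 (mem_Cz.1 hc)
  exact Subgroup.mul_mem _ (h.Y_le_M (h.Wof_le_Y hs hs1 hw)) (h.K_le_M hk)

theorem S_le_M : (S : Subgroup G) ≤ Mw t S := h.S_le.trans (h.Cz_le_M h.t_mem_E h.t_ne)

theorem t_mem_Y : t ∈ Yw t S := h.E_le_Y h.t_mem_E

/-- Conjugates of `t` in `M` are conjugate to it in `M`. -/
theorem conj_M {x : G} (hx : Cl t x) (hxM : x ∈ Mw t S) : ∃ m ∈ Mw t S, m * t * m⁻¹ = x := by
  obtain ⟨c, hc, P, -, pP, hSP, hxP⟩ := exists_conj_common (A := (S : Subgroup G)) (B := Subgroup.zpowers x)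
    h.S_le_M (Subgroup.zpowers_le.2 hxM) S.2 (isPGroup_zpowers_two (h.cl_ord hx))
  have hP := S.3 pP hSP
  have hE := h.cl_S (hx.conj c) (hP ▸ hxP x (Subgroup.mem_zpowers x))
  obtain ⟨n, hn, hn'⟩ := h.all_fused hE (h.cl_ne (hx.conj c))
  refine ⟨c⁻¹ * n, Subgroup.mul_mem _ (Subgroup.inv_mem _ hc) (h.NE_le_M hn), ?_⟩
  calc c⁻¹ * n * t * (c⁻¹ * n)⁻¹ = c⁻¹ * (n * t * n⁻¹) * c := by group
    _ = x := by rw [hn']; group

theorem mem_M_of_conj {g : G} (hg : g * t * g⁻¹ ∈ Mw t S) : g ∈ Mw t S := by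
  obtain ⟨m, hm, hmg⟩ := h.conj_M ⟨g, rfl⟩ hg
  have hc : m⁻¹ * g ∈ Cz t := mem_Cz.2 (mul_inv_eq_iff_eq_mul.1 (by
    calc m⁻¹ * g * t * (m⁻¹ * g)⁻¹ = m⁻¹ * (g * t * g⁻¹) * m := by group
      _ = t := by rw [← hmg]; group))
  have := Subgroup.mul_mem _ hm (h.Cz_le_M h.t_mem_E h.t_ne hc)
  rwa [mul_inv_cancel_left] at this

theorem cl_M_Y {x : G} (hx : Cl t x) (hxM : x ∈ Mw t S) : x ∈ Yw t S := by
  obtain ⟨m, hm, rfl⟩ := h.conj_M hx hxM
  exact conj_mem_normalizer hm h.t_mem_Y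

theorem Cz_le_of_cl {s : G} (hs : Cl t s) (hsM : s ∈ Mw t S) : Cz s ≤ Mw t S := by
  obtain ⟨m, hm, rfl⟩ := h.conj_M hs hsM
  intro c hc
  have hc' : m⁻¹ * c * m ∈ Cz t := mem_Cz.2 (by
    calc m⁻¹ * c * m * t = m⁻¹ * (c * (m * t * m⁻¹)) * m := by group
      _ = m⁻¹ * (m * t * m⁻¹ * c) * m := by rw [mem_Cz.1 hc]
      _ = _ := by group)
  have := Subgroup.mul_mem _ (Subgroup.mul_mem _ hm (h.Cz_le_M h.t_mem_E h.t_ne hc')) (Subgroup.inv_mem _ hm)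
  rwa [show m * (m⁻¹ * c * m) * m⁻¹ = c by group] at this

/-- The normalizer is the product of the join and `K`. -/
theorem M_decomp {m : G} (hm : m ∈ Mw t S) : ∃ y ∈ Yw t S, ∃ k ∈ Kw t S, m = y * k := by
  obtain ⟨c, hc, P, hPY, pP, hEP, hxP⟩ := exists_conj_common (A := Ee t S) (B := Subgroup.zpowers (m * t * m⁻¹))
    h.E_le_Y (Subgroup.zpowers_le.2 (conj_mem_normalizer hm h.t_mem_Y)) h.two_group_E
    (isPGroup_zpowers_two (h.cl_ord ⟨m, rfl⟩))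
  have hx : Cl t (c * (m * t * m⁻¹) * c⁻¹) := (Cl.refl t |>.conj m).conj c
  have hxE := h.two_group_cl pP (fun y hy _ => hEP hy) hx (hxP _ (Subgroup.mem_zpowers _))
  obtain ⟨ι, a, b, x, hF⟩ := h.frameOf h.t_mem_E h.t_ne
  obtain ⟨e₀, he₀, he₁, hne₀⟩ : ∃ e₀, e₀ ∈ Ee t S ∧ e₀ ≠ 1 ∧ e₀ ≠ t :=
    ⟨ι a, (hF.memE _).2 ⟨a, Or.inr (Or.inl rfl), Or.inl rfl⟩,
      fun e => hF.four.a1 (hF.dec.inj (by rw [e, map_one])), hF.dec.not_mem a⟩
  obtain ⟨ι', a', b', x', hF'⟩ := h.frameOf he₀ he₁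
  let L := NE t S ⊓ Yw t S
  have hL : ι x ∈ L := ⟨h.frame_x_mem hF, h.Wof_le_Y h.t_mem_E h.t_ne (hF.dec.le x)⟩
  have hL' : ι' x' ∈ L := ⟨h.frame_x_mem hF', h.Wof_le_Y he₀ he₁ (hF'.dec.le x')⟩
  obtain ⟨l, hl, hlx⟩ : ∃ l ∈ L, l * t * l⁻¹ = c * (m * t * m⁻¹) * c⁻¹ := by
    refine h.full_of_odd hF (O := fun r => ∃ l ∈ L, l * t * l⁻¹ = r) ⟨1, L.one_mem, by group⟩ ?_ ?_ ?_ ?_ hxE
      (h.cl_ne hx)
    · rintro r ⟨l, hl, rfl⟩
      exact ⟨conj_mem_normalizer hl.1 h.t_mem_E, h.cl_ne ⟨l, rfl⟩⟩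
    · rintro r ⟨l, hl, rfl⟩
      exact ⟨ι x * l, L.mul_mem hL hl, by group⟩
    · refine ⟨ι' x' * t * (ι' x')⁻¹, ⟨ι' x', hL', rfl⟩, fun e => ?_⟩
      obtain ⟨hd', h4', hxa, hxb, hmem'⟩ := hF'
      have hxab : x' * (a' * b') * x'⁻¹ = a' := by
        calc x' * (a' * b') * x'⁻¹ = x' * a' * x'⁻¹ * (x' * b' * x'⁻¹) := by group
          _ = b' * (a' * b') := by rw [hxa, hxb]
          _ = a' := by rw [h4'.comm, ← mul_assoc, h4'.b2, one_mul]
      obtain ⟨v, hv, e'⟩ := (hmem' t).1 h.t_mem_E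
      have hxv : x' * v * x'⁻¹ = v := by
        rcases e' with e' | e'
        · rw [e'] at e
          exact hd'.inj (by rw [map_mul, map_mul, map_inv, e])
        · rw [e', show ι' x' * (e₀ * ι' v) * (ι' x')⁻¹ = (ι' x' * e₀) * ι' v * (ι' x')⁻¹ by group,
            hd'.comm, mul_assoc, mul_assoc, mul_left_cancel_iff, ← mul_assoc] at e
          exact hd'.inj (by rw [map_mul, map_mul, map_inv, e])
      have hv1 : v = 1 := by
        rcases hv with rfl | rfl | rfl | rfl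
        · rfl
        · exact absurd (hxv.symm.trans hxa) h4'.ne
        · exact absurd (hxb.symm.trans hxv) (fun e2 => h4'.a1 (right_eq_mul.1 e2.symm))
        · exact absurd (hxab.symm.trans hxv) (fun e2 => h4'.b1 (left_eq_mul.1 e2))
      subst hv1
      rw [map_one, mul_one] at e'
      exact hne₀ (e'.resolve_left h.t_ne).symm
    · have : Fact (Nat.Prime 2) := ⟨Nat.prime_two⟩
      obtain ⟨Q⟩ : Nonempty (Sylow 2 L) := inferInstance
      refine orbit_odd (Q := (Q : Subgroup L).map L.subtype) ?_ ?_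
      · rintro _ ⟨z, hz, rfl⟩
        obtain ⟨k, hk⟩ := Q.2 ⟨z, hz⟩
        exact mem_Cz.2 (h.two_comm k _ z.2.1 (congrArg Subtype.val (congrArg Subtype.val hk)) _ h.t_mem_E)
      · rw [Subgroup.relIndex, Subgroup.subgroupOf, Subgroup.comap_map_eq_self_of_injective L.subtype_injective]
        exact Q.not_dvd_index
  have hz : (c⁻¹ * l)⁻¹ * m * t = t * ((c⁻¹ * l)⁻¹ * m) := by
    refine mul_inv_eq_iff_eq_mul.1 ?_
    calc (c⁻¹ * l)⁻¹ * m * t * ((c⁻¹ * l)⁻¹ * m)⁻¹ = l⁻¹ * (c * (m * t * m⁻¹) * c⁻¹) * l := by group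
      _ = t := by rw [← hlx]; group
  obtain ⟨w, hw, k, hk, e⟩ := h.Cz_eq h.t_mem_E h.t_ne hz
  refine ⟨c⁻¹ * l * w, Subgroup.mul_mem _ (Subgroup.mul_mem _ (Subgroup.inv_mem _ hc) hl.2)
    (h.Wof_le_Y h.t_mem_E h.t_ne hw), k, hk, ?_⟩
  rw [mul_assoc (c⁻¹ * l) w k, ← e, mul_inv_cancel_left]

/-- Involutions of a weak closure are conjugates of `t`. -/
theorem inv_Wof_cl {s z : G} (hs : Cl t s) (hz : z ∈ Wof t s) (hz2 : orderOf z = 2) : Cl t z := by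
  obtain ⟨g, rfl⟩ := hs
  have hz' : g⁻¹ * z * g ∈ Wof t t := by
    have := conj_Wof g⁻¹ hz
    rwa [show g⁻¹ * (g * t * g⁻¹) * g⁻¹⁻¹ = t by group, inv_inv] at this
  have ho : orderOf (g⁻¹ * z * g) = 2 := by
    rw [show g⁻¹ * z * g = g⁻¹ * z * g⁻¹⁻¹ by group, orderOf_conj, hz2]
  obtain ⟨c, hc, P, hPW, pP, hEP, hxP⟩ := exists_conj_common (A := Ee t S) (B := Subgroup.zpowers (g⁻¹ * z * g))
    inf_le_right (Subgroup.zpowers_le.2 hz') h.two_group_E (isPGroup_zpowers_two ho)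
  have hx := hxP _ (Subgroup.mem_zpowers _)
  rw [h.two_group_eq h.t_mem_E h.t_ne hPW pP hEP] at hx
  have hne : c * (g⁻¹ * z * g) * c⁻¹ ≠ 1 := involution_ne_one (by rw [orderOf_conj, ho])
  have := ((h.all_cl hx hne).conj c⁻¹).conj g
  rwa [show g * (c⁻¹ * (c * (g⁻¹ * z * g) * c⁻¹) * c⁻¹⁻¹) * g⁻¹ = z by group] at this

/-- Two conjugates with product of even order commute with a third. -/
theorem even_third {s u : G} (hs : Cl t s) (hu : Cl t u) (he : Even (orderOf (s * u))) :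
    ∃ z, Cl t z ∧ z * s = s * z ∧ z * u = u * z := by
  have hso := h.cl_ord hs
  have huo := h.cl_ord hu
  obtain ⟨w, hw, hwo, hsw, huw⟩ := Cfsg.Agent.SignalizerStrongEmb.exists_commuting_of_even hso huo he
  obtain ⟨m, rfl⟩ := Subgroup.mem_zpowers_iff.1 hw
  set x := s * u with hx
  have hsx : ∀ j : ℤ, x ^ j * s * (x ^ j)⁻¹ = x ^ (2 * j) * s := by
    intro j
    have h1 : s * x * s⁻¹ = x⁻¹ := Cfsg.Agent.SignalizerStrongEmb.conj_mul_eq_inv hso huo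
    have h2 : s * x ^ j * s⁻¹ = (x ^ j)⁻¹ := by rw [← conj_zpow, h1, inv_zpow]
    calc x ^ j * s * (x ^ j)⁻¹ = x ^ j * s * (s * x ^ j * s⁻¹) := by rw [h2]
      _ = x ^ j * (s * s) * x ^ j * s⁻¹ := by group
      _ = _ := by rw [involution_mul_self hso, Cfsg.Agent.SignalizerStrongEmb.involution_inv hso, mul_one, ← zpow_add, two_mul]
  have hcl : Cl t (x ^ m * s) := by
    obtain ⟨j, rfl | rfl⟩ := Int.even_or_odd' m
    · rw [← hsx j]; exact hs.conj _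
    · have hv : x ^ (2 * (j + 1)) * s * (x⁻¹) = x ^ (2 * (j + 1)) * (s * x⁻¹) := mul_assoc _ _ _
      have hxs : x⁻¹ * s = u := by
        rw [hx, mul_inv_rev, Cfsg.Agent.SignalizerStrongEmb.involution_inv hso,
          Cfsg.Agent.SignalizerStrongEmb.involution_inv huo, mul_assoc, involution_mul_self hso, mul_one]
      have e : x ^ (2 * j + 1) * s = x ^ (j + 1) * u * (x ^ (j + 1))⁻¹ := by
        rw [← hxs, show x ^ (j + 1) * (x⁻¹ * s) * (x ^ (j + 1))⁻¹ = x⁻¹ * (x ^ (j + 1) * s * (x ^ (j + 1))⁻¹) by group,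
          hsx, ← mul_assoc, ← zpow_neg_one, ← zpow_add]
        congr 2
        omega
      rw [e]; exact hu.conj _
  have hc : x ^ m * s * s = s * (x ^ m * s) := by rw [← mul_assoc, hsw]
  refine ⟨x ^ m, h.inv_Wof_cl hs ?_ hwo, hsw.symm, huw.symm⟩
  have := Subgroup.mul_mem _ (mem_Wof (s := s) hcl hc) (mem_Wof (s := s) hs rfl)
  rwa [mul_assoc, involution_mul_self hso, mul_one] at this

/-- A conjugate inside and a conjugate outside have product of odd order. -/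
theorem odd_of {s u : G} (hs : Cl t s) (hsM : s ∈ Mw t S) (hu : Cl t u) (huM : u ∉ Mw t S) :
    Odd (orderOf (s * u)) := by
  rw [← Nat.not_even_iff_odd]
  intro he
  obtain ⟨z, hz, hzs, hzu⟩ := h.even_third hs hu he
  have hzM : z ∈ Mw t S := h.Cz_le_of_cl hs hsM (mem_Cz.2 hzs)
  exact huM (h.Cz_le_of_cl hz hzM (mem_Cz.2 hzu.symm))

theorem ek_mem {x : G} (hx : EKmem t S x) : ∀ e ∈ Ee t S, x * e = e * x := by
  obtain ⟨e₀, he₀, hk⟩ := hx
  intro e he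
  have h1 := h.K_comm hk (h.E_le_Y he)
  calc x * e = e₀⁻¹ * (e₀ * x * e) := by group
    _ = e₀⁻¹ * (e * (e₀ * x)) := by rw [h1]
    _ = e₀⁻¹ * (e * e₀) * x := by group
    _ = e₀⁻¹ * (e₀ * e) * x := by rw [h.E_comm he he₀]
    _ = _ := by group

theorem S_ek {x : G} (hx : x ∈ (S : Subgroup G)) : EKmem t S x := by
  obtain ⟨k, hk⟩ := S.2 ⟨x, hx⟩
  exact h.cent_E (h.two_comm k x (h.S_le_NE hx) (congrArg Subtype.val hk))

end Hyp

end Cfsg.Agent.J1WeakClosure91
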