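import Cfsg.Agent.Lib.J1WeakClosure91Proper

/-!
The normal closure of the involution is the Janko group.
-/

set_option autoImplicit false
set_option linter.unusedSectionVars false

namespace Cfsg.Agent.J1WeakClosure91

open scoped commutatorElement IsMulCommutative
open Cfsg.Agent.SignalizerStrongEmb (involution_mul_self involution_ne_one orderOf_conj orderOf_eq_two_of_mul_self)

variable {G : Type*} [Group G]

namespace Hyp

variable [Finite G] {t : G} {S : Sylow 2 G} (h : Hyp t S)
include h

theorem Y_normal : (Yw t S).Normal := by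
  refine ⟨fun y hy g => ?_⟩
  exact conj_mem_normalizer (show g ∈ Mw t S by rw [h.M_eq_top]; exact Subgroup.mem_top g) hy

theorem Y_eq : Subgroup.normalClosure ({t} : Set G) = Yw t S := by
  have := h.Y_normal
  refine le_antisymm (Subgroup.normalClosure_le_normal (Set.singleton_subset_iff.2 h.t_mem_Y)) ?_
  rw [Yw, Subgroup.closure_le]
  rintro x ⟨⟨g, rfl⟩, -⟩
  exact (Subgroup.normalClosure_normal (s := ({t} : Set G))).conj_mem t (Subgroup.subset_normalClosure rfl) g

theorem Y_perfect : ⁅Yw t S, Yw t S⁆ = Yw t S := by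
  have hY := h.Y_normal
  refine le_antisymm (Subgroup.commutator_le_self _) ?_
  have hD : (⁅Yw t S, Yw t S⁆).Normal := Subgroup.commutator_normal _ _
  have hWd : ∀ {s : G}, s ∈ Ee t S → s ≠ 1 → Wd t s ≤ ⁅Yw t S, Yw t S⁆ := fun hs hs1 =>
    Subgroup.commutator_mono (h.Wof_le_Y hs hs1) (h.Wof_le_Y hs hs1)
  obtain ⟨ι, a, b, x, hd, h4, -, -, hmem⟩ := h.frameOf h.t_mem_E h.t_ne
  have hsE : ι a ∈ Ee t S := (hmem _).2 ⟨a, Or.inr (Or.inl rfl), Or.inl rfl⟩
  have hs1 : ι a ≠ 1 := fun e => h4.a1 (hd.inj (by rw [e, map_one]))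
  have hsD : ι a ∈ ⁅Yw t S, Yw t S⁆ := hWd h.t_mem_E h.t_ne (by rw [← hd.range]; exact ⟨a, rfl⟩)
  have htD : t ∈ ⁅Yw t S, Yw t S⁆ := by
    obtain ⟨ι', a', b', x', hd', -, -, -, hmem'⟩ := h.frameOf hsE hs1
    obtain ⟨v, -, e⟩ := (hmem' t).1 h.t_mem_E
    have hv : ι' v ∈ ⁅Yw t S, Yw t S⁆ := hWd hsE hs1 (by rw [← hd'.range]; exact ⟨v, rfl⟩)
    rcases e with e | e
    · exact (congrArg (fun w => w ∈ ⁅Yw t S, Yw t S⁆) e).mpr hv
    · exact (congrArg (fun w => w ∈ ⁅Yw t S, Yw t S⁆) e).mpr (Subgroup.mul_mem _ hsD hv)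
  conv_lhs => rw [← h.Y_eq]
  exact Subgroup.normalClosure_le_normal (Set.singleton_subset_iff.2 htD)

theorem main : Cfsg.Spor.IsoJ1 ↥(Subgroup.normalClosure ({t} : Set G)) := by
  classical
  obtain ⟨f, hf, hker⟩ := h.quot_iso
  let F : Yw t S →* Cfsg.Spor.J1 := f.comp (Subgroup.inclusion h.Y_le_M)
  have hF : ∀ y : Yw t S, F y = 1 ↔ (y : G) ∈ Kw t S := fun y => hker _
  have hFs : Function.Surjective F := by
    intro j
    obtain ⟨m, rfl⟩ := hf j
    obtain ⟨y, hy, k, hk, e⟩ := h.M_decomp m.2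
    refine ⟨⟨y, hy⟩, ?_⟩
    show f ⟨y, h.Y_le_M hy⟩ = f m
    rw [show m = ⟨y, h.Y_le_M hy⟩ * ⟨k, h.K_le_M hk⟩ from Subtype.ext e, map_mul, (hker ⟨k, _⟩).2 hk, mul_one]
  have hcentral : ∀ z : Yw t S, F z = 1 → ∀ y : Yw t S, z * y = y * z := fun z hz y =>
    Subtype.ext (h.K_comm ((hF z).1 hz) y.2)
  have hFi : Function.Injective F := by
    refine (injective_iff_map_eq_one F).2 fun z₀ hz₀ => ?_
    by_contra hne
    obtain ⟨p, hp, hpd⟩ := Nat.exists_prime_and_dvd (n := orderOf z₀) (fun e => hne (orderOf_eq_one_iff.1 e))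
    have hfp : Fact p.Prime := ⟨hp⟩
    set z := z₀ ^ (orderOf z₀ / p) with hzdef
    have hzo : orderOf z = p := orderOf_pow_orderOf_div (orderOf_pos z₀).ne' hpd
    have hz : F z = 1 := by rw [hzdef, map_pow, hz₀, one_pow]
    have hzc : ∀ y : Yw t S, z * y = y * z := hcentral z hz
    -- an abelian Sylow subgroup containing `z`
    obtain ⟨P, hzP, hPc⟩ : ∃ P : Sylow p (Yw t S), z ∈ P ∧ ∀ a ∈ P, ∀ b ∈ P, a * b = b * a := by
      have hany : ∀ P : Sylow p (Yw t S), z ∈ P := fun P => by
        obtain ⟨Q, hQ⟩ := (IsPGroup.of_card (p := p) (n := 1)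
          (by rw [Nat.card_zpowers, hzo, pow_one]) : IsPGroup p (Subgroup.zpowers z)).exists_le_sylow
        obtain ⟨g, hg⟩ := MulAction.exists_smul_eq (Yw t S) Q P
        rw [← hg]
        show z ∈ ((g • Q : Sylow p (Yw t S)) : Subgroup (Yw t S))
        rw [Sylow.coe_subgroup_smul, Subgroup.mem_pointwise_smul_iff_inv_smul_mem, ← map_inv, MulAut.smul_def,
          MulAut.conj_apply, inv_inv, show g⁻¹ * z * g = z by rw [mul_assoc, hzc, inv_mul_cancel_left]]
        exact hQ (Subgroup.mem_zpowers z)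
      have hcard : ∀ P : Sylow p (Yw t S), ∃ k, Nat.card ((P : Subgroup (Yw t S)).map F) = p ^ k ∧ p ^ k ∣ 175560 :=
        fun P => by
        obtain ⟨k, hk⟩ := IsPGroup.iff_card.1 (P.2.map F)
        refine ⟨k, hk, ?_⟩
        rw [← hk, ← J1Basic.card_J1]
        exact Subgroup.card_subgroup_dvd_card _
      by_cases hp2 : p = 2
      · subst hp2
        obtain ⟨P, hP⟩ := (h.two_group_E.comap_of_injective (Yw t S).subtype (Yw t S).subtype_injective).exists_le_sylow
        refine ⟨P, hany P, ?_⟩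
        obtain ⟨k, hk, hk'⟩ := hcard P
        let EF : Subgroup Cfsg.Spor.J1 := ((Ee t S).comap (Yw t S).subtype).map F
        have h8 : 8 ≤ Nat.card EF := by
          rw [← h.card_E]
          refine Nat.card_le_card_of_injective (fun e : Ee t S => (⟨F ⟨e, h.E_le_Y e.2⟩, ⟨_, e.2, rfl⟩⟩ : EF)) ?_
          intro e e' he
          have h1 : F ⟨e, h.E_le_Y e.2⟩ = F ⟨e', h.E_le_Y e'.2⟩ := congrArg Subtype.val he
          rw [← inv_mul_eq_one, ← map_inv, ← map_mul, hF] at h1
          exact Subtype.ext (inv_mul_eq_one.1 (h.E_inf_K (Subgroup.mul_mem _ (Subgroup.inv_mem _ e.2) e'.2) h1))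
        have hk3 : k ≤ 3 := by
          by_contra hlt
          have := (Nat.pow_dvd_pow 2 (show 4 ≤ k by omega)).trans hk'
          norm_num at this
        have heq : EF = (P : Subgroup (Yw t S)).map F := Subgroup.eq_of_le_of_card_ge (Subgroup.map_mono hP) (by
          rw [hk]; exact (Nat.pow_le_pow_right (by norm_num : 0 < 2) hk3).trans h8)
        have key : ∀ a ∈ P, ∃ e : Yw t S, (e : G) ∈ Ee t S ∧ F (e⁻¹ * a) = 1 := by
          intro a ha
          have : F a ∈ EF := by rw [heq]; exact ⟨a, ha, rfl⟩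
          obtain ⟨e, he, hea⟩ := this
          exact ⟨e, he, by rw [map_mul, map_inv, hea, inv_mul_cancel]⟩
        intro a ha b hb
        obtain ⟨e, he, hze⟩ := key a ha
        obtain ⟨e', he', hze'⟩ := key b hb
        have hee : e * e' = e' * e := Subtype.ext (h.E_comm he he')
        have c1 := hcentral _ hze
        have c2 := hcentral _ hze'
        have ea : a = e * (e⁻¹ * a) := by group
        have eb : b = e' * (e'⁻¹ * b) := by group
        rw [ea, eb]
        set x := e⁻¹ * a
        set y := e'⁻¹ * b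
        calc e * x * (e' * y) = e * (x * e') * y := by group
          _ = e * e' * (x * y) := by rw [c1]; group
          _ = e' * e * (y * x) := by rw [hee, c2]
          _ = e' * (e * y) * x := by group
          _ = _ := by rw [← c2]; group
      · obtain ⟨P⟩ : Nonempty (Sylow p (Yw t S)) := inferInstance
        refine ⟨P, hany P, fun a ha b hb => ?_⟩
        obtain ⟨k, hk, hk'⟩ := hcard P
        have hk1 : k ≤ 1 := by
          by_contra hlt
          have h1 : p * p ∣ 175560 := by
            have := (Nat.pow_dvd_pow p (show 2 ≤ k by omega)).trans hk'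
            rwa [pow_two] at this
          rw [show 175560 = 2 ^ 3 * 21945 by norm_num] at h1
          have hco : Nat.Coprime (p * p) (2 ^ 3) := by
            have : p.Coprime 2 := (Nat.coprime_primes hp Nat.prime_two).2 hp2
            exact (this.mul_left this).pow_right 3
          have hsq : Squarefree 21945 := by
            rw [Nat.squarefree_iff_nodup_primeFactorsList (by norm_num)]
            rw [show (21945 : ℕ).primeFactorsList = [3, 5, 7, 11, 19] by norm_num [Nat.primeFactorsList]]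
            decide
          exact hp.ne_one (Nat.isUnit_iff.1 (hsq p (hco.dvd_of_dvd_mul_left h1)))
        have : IsCyclic ((P : Subgroup (Yw t S)).map F) := by
          rcases Nat.le_one_iff_eq_zero_or_eq_one.1 hk1 with e | e
          · rw [e, pow_zero] at hk
            have := (Nat.card_eq_one_iff_unique.1 hk).1
            infer_instance
          · rw [e, pow_one] at hk
            exact isCyclic_of_prime_card hk
        have := commutative_of_cyclic_center_quotient (F.subgroupMap (P : Subgroup (Yw t S))) (fun q hq =>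
          Subgroup.mem_center_iff.2 fun r => Subtype.ext (hcentral q (congrArg Subtype.val (MonoidHom.mem_ker.1 hq)) r).symm)
          ⟨a, ha⟩ ⟨b, hb⟩
        exact congrArg Subtype.val this
    have hPi : IsMulCommutative (P : Subgroup (Yw t S)) := ⟨⟨fun a b => Subtype.ext (hPc _ a.2 _ b.2)⟩⟩
    have key : ∀ (k : ℕ) (g₀ : Yw t S), g₀⁻¹ * z ^ k * g₀ ∈ (P : Subgroup (Yw t S)) → g₀⁻¹ * z ^ k * g₀ = z ^ k :=
      fun k g₀ _ => by rw [mul_assoc, (show Commute z g₀ from hzc g₀).pow_left k |>.eq, inv_mul_cancel_left]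
    have htr := MonoidHom.transfer_eq_pow (MonoidHom.id (P : Subgroup (Yw t S))) z key
    have hzcom : z ∈ commutator (Yw t S) := by
      have h1 : (commutator (Yw t S)).map (Yw t S).subtype = Yw t S := by
        rw [commutator_def, Subgroup.map_commutator, ← MonoidHom.range_eq_map, Subgroup.range_subtype, h.Y_perfect]
      have h2 : (z : G) ∈ (commutator (Yw t S)).map (Yw t S).subtype := by rw [h1]; exact z.2
      obtain ⟨w, hw, e⟩ := h2
      rwa [← Subtype.ext (a1 := w) (a2 := z) e]
    have h0 : MonoidHom.transfer (MonoidHom.id (P : Subgroup (Yw t S))) z = 1 :=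
      MonoidHom.mem_ker.1 (Abelianization.commutator_subset_ker _ hzcom)
    rw [htr, MonoidHom.id_apply] at h0
    have h1 : z ^ (P : Subgroup (Yw t S)).index = 1 := congrArg Subtype.val h0
    have h2 := orderOf_dvd_of_pow_eq_one h1
    rw [hzo] at h2
    exact P.not_dvd_index h2
  exact ⟨(MulEquiv.subgroupCongr h.Y_eq).trans (MulEquiv.ofBijective F ⟨hFi, hFs⟩)⟩

end Hyp

end Cfsg.Agent.J1WeakClosure91
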