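import Cfsg.Agent.Lib.J1WeakClosure91Local

/-!
All seven involutions of the Sylow subgroup of the weak closure are conjugate under its normalizer.
-/

set_option autoImplicit false
set_option linter.unusedSectionVars false

namespace Cfsg.Agent.J1WeakClosure91

open Cfsg.Agent.SignalizerStrongEmb (involution_mul_self involution_ne_one orderOf_conj orderOf_eq_two_of_mul_self)

variable {G : Type*} [Group G]

/-- The orbit of `s` under a subgroup, counted. -/
theorem orbit_card (L : Subgroup G) (s : G) :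
    Nat.card {y // ∃ l ∈ L, l * s * l⁻¹ = y} = (Cz s).relIndex L := by
  have hiff : ∀ l l' : L, QuotientGroup.leftRel ((Cz s).subgroupOf L) l l' ↔
      (l : G) * s * (l : G)⁻¹ = (l' : G) * s * (l' : G)⁻¹ := by
    intro l l'
    rw [QuotientGroup.leftRel_apply, Subgroup.mem_subgroupOf, mem_Cz, Subgroup.coe_mul, Subgroup.coe_inv]
    constructor
    · intro h
      calc (l : G) * s * (l : G)⁻¹ = l * (s * ((l : G)⁻¹ * l')) * (l' : G)⁻¹ := by group
        _ = l * (((l : G)⁻¹ * l') * s) * (l' : G)⁻¹ := by rw [h]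
        _ = _ := by group
    · intro h
      calc (l : G)⁻¹ * l' * s = (l : G)⁻¹ * ((l' : G) * s * (l' : G)⁻¹) * l' := by group
        _ = (l : G)⁻¹ * ((l : G) * s * (l : G)⁻¹) * l' := by rw [h]
        _ = _ := by group
  let f : L ⧸ (Cz s).subgroupOf L → {y // ∃ l ∈ L, l * s * l⁻¹ = y} :=
    Quotient.lift (fun l : L => ⟨(l : G) * s * (l : G)⁻¹, l, l.2, rfl⟩) fun l l' e => Subtype.ext ((hiff l l').1 e)
  refine (Nat.card_eq_of_bijective f ⟨?_, ?_⟩).symm
  · rintro ⟨l⟩ ⟨l'⟩ e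
    exact Quotient.sound ((hiff l l').2 (congrArg Subtype.val e))
  · rintro ⟨y, l, hl, rfl⟩
    exact ⟨QuotientGroup.mk ⟨l, hl⟩, rfl⟩

theorem orbit_odd [Finite G] {L Q : Subgroup G} {s : G} (hQ : Q ≤ Cz s) (hodd : ¬ 2 ∣ Q.relIndex L) :
    Odd (Nat.card {y // ∃ l ∈ L, l * s * l⁻¹ = y}) := by
  rw [orbit_card, ← Nat.not_even_iff_odd, even_iff_two_dvd]
  exact fun h2 => hodd (h2.trans (Subgroup.relIndex_dvd_of_le_left L hQ))

theorem mem_normalizer_of_forall [Finite G] {E : Subgroup G} {g : G} (h : ∀ x ∈ E, g * x * g⁻¹ ∈ E) :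
    g ∈ Subgroup.normalizer (E : Set G) := by
  rw [Subgroup.mem_normalizer_iff]
  intro x
  refine ⟨h x, fun hx => ?_⟩
  let f : E → E := fun y => ⟨g * y * g⁻¹, h y y.2⟩
  have hf : Function.Injective f := fun y z e =>
    Subtype.ext (mul_left_cancel (mul_right_cancel (congrArg Subtype.val e)))
  obtain ⟨y, hy⟩ := (Finite.injective_iff_surjective.1 hf) ⟨_, hx⟩
  have := mul_left_cancel (mul_right_cancel (congrArg Subtype.val hy))
  exact this ▸ y.2

theorem conj_mem_normalizer {E : Subgroup G} {g x : G} (hg : g ∈ Subgroup.normalizer (E : Set G)) (hx : x ∈ E) :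
    g * x * g⁻¹ ∈ E := (Subgroup.mem_normalizer_iff.1 hg x).1 hx

namespace Hyp

variable [Finite G] {t : G} {S : Sylow 2 G} (h : Hyp t S)
include h

/-- The normalizer of the Sylow subgroup of the weak closure. -/
abbrev NE (t : G) (S : Sylow 2 G) : Subgroup G := Subgroup.normalizer (Ee t S : Set G)

theorem S_le_NE : (S : Subgroup G) ≤ NE t S := fun g hg => mem_normalizer_of_forall fun x hx =>
  ⟨Subgroup.mul_mem _ (Subgroup.mul_mem _ hg hx.1) (Subgroup.inv_mem _ hg), conj_Wof_fix (h.cen g hg) hx.2⟩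

theorem two_group_cl {P : Subgroup G} (pP : IsPGroup 2 P) (hT : ∀ x ∈ Ee t S, Cl t x → x ∈ P) {x : G}
    (hx : Cl t x) (hxP : x ∈ P) : x ∈ Ee t S := by
  have : Fact (Nat.Prime 2) := ⟨Nat.prime_two⟩
  obtain ⟨Q, hQ⟩ := pP.exists_le_sylow
  obtain ⟨g, hg⟩ := MulAction.exists_smul_eq G S Q
  have hback : ∀ {y}, y ∈ (Q : Subgroup G) → g⁻¹ * y * g ∈ (S : Subgroup G) := by
    intro y hy
    rw [← hg, Sylow.coe_subgroup_smul, Subgroup.mem_pointwise_smul_iff_inv_smul_mem, ← map_inv, MulAut.smul_def,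
      MulAut.conj_apply, inv_inv] at hy
    exact hy
  let f : {y // y ∈ Ee t S ∧ Cl t y} → {y // y ∈ Ee t S ∧ Cl t y} := fun y =>
    ⟨g⁻¹ * y.1 * g, by
      have hc : Cl t (g⁻¹ * y.1 * g) := by
        have := y.2.2.conj g⁻¹
        rwa [inv_inv] at this
      exact ⟨h.cl_S hc (hback (hQ (hT y.1 y.2.1 y.2.2))), hc⟩⟩
  have hf : Function.Injective f := fun y z e =>
    Subtype.ext (mul_left_cancel (mul_right_cancel (congrArg Subtype.val e)))
  have hc : Cl t (g⁻¹ * x * g) := by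
    have := hx.conj g⁻¹
    rwa [inv_inv] at this
  obtain ⟨y, hy⟩ := (Finite.injective_iff_surjective.1 hf) ⟨_, h.cl_S hc (hback (hQ hxP)), hc⟩
  have := mul_left_cancel (mul_right_cancel (congrArg Subtype.val hy))
  exact this ▸ y.2.1

/-- Fusion inside a subgroup is induced by the normalizer. -/
theorem fuse (hgen : ∀ P : Subgroup G, (∀ x ∈ Ee t S, Cl t x → x ∈ P) → Ee t S ≤ P) {H : Subgroup G}
    (hE : Ee t S ≤ H) {g u v : G} (hg : g ∈ H) (hu : u ∈ Ee t S) (hv : v ∈ Ee t S) (huv : g * u * g⁻¹ = v) :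
    ∃ n ∈ H, n ∈ NE t S ∧ n * u * n⁻¹ = v := by
  have hA : Ee t S ≤ H ⊓ Cz v := fun x hx => ⟨hE hx, mem_Cz.2 (h.E_comm hx hv)⟩
  have hB : (Ee t S).map (MulAut.conj g).toMonoidHom ≤ H ⊓ Cz v := by
    rintro _ ⟨x, hx, rfl⟩
    refine ⟨H.mul_mem (H.mul_mem hg (hE hx)) (H.inv_mem hg), mem_Cz.2 ?_⟩
    rw [← huv]
    show g * x * g⁻¹ * (g * u * g⁻¹) = g * u * g⁻¹ * (g * x * g⁻¹)
    calc g * x * g⁻¹ * (g * u * g⁻¹) = g * (x * u) * g⁻¹ := by group
      _ = g * (u * x) * g⁻¹ := by rw [h.E_comm hx hu]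
      _ = _ := by group
  obtain ⟨c, hc, P, -, pP, hEP, hP⟩ := exists_conj_common hA hB h.two_group_E (h.two_group_E.map _)
  refine ⟨c * g, H.mul_mem hc.1 hg, mem_normalizer_of_forall ?_, ?_⟩
  · have hle : Ee t S ≤ (Ee t S).comap (MulAut.conj (c * g)).toMonoidHom := hgen _ fun x hx hcl => by
      refine h.two_group_cl pP (fun y hy _ => hEP hy) (hcl.conj (c * g)) ?_
      have := hP _ ⟨x, hx, rfl⟩
      rw [MulEquiv.coe_toMonoidHom, MulAut.conj_apply] at this
      show c * g * x * (c * g)⁻¹ ∈ P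
      rwa [show c * g * x * (c * g)⁻¹ = c * (g * x * g⁻¹) * c⁻¹ by group]
    exact fun x hx => hle hx
  · rw [show c * g * u * (c * g)⁻¹ = c * (g * u * g⁻¹) * c⁻¹ by group, huv, mem_Cz.1 hc.2, mul_inv_cancel_right]

/-- A set of odd size, stable under the three-cycle of a frame, is all of the seven. -/
theorem full_of_odd {s : G} {ι : A5 →* G} {a b x : A5} (hF : Frame t S s ι a b x) {O : G → Prop}
    (hOs : O s) (hsub : ∀ y, O y → y ∈ Ee t S ∧ y ≠ 1) (hinv : ∀ y, O y → O (ι x * y * (ι x)⁻¹))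
    (hne : ∃ y, O y ∧ y ≠ s) (hodd : Odd (Nat.card {y // O y})) {y : G} (hy : y ∈ Ee t S) (hy1 : y ≠ 1) : O y := by
  obtain ⟨hd, h4, hxa, hxb, hmem⟩ := hF
  have hxab : x * (a * b) * x⁻¹ = a := by
    calc x * (a * b) * x⁻¹ = x * a * x⁻¹ * (x * b * x⁻¹) := by group
      _ = b * (a * b) := by rw [hxa, hxb]
      _ = a := by rw [h4.comm, ← mul_assoc, h4.b2, one_mul]
  have hconj : ∀ v, ι x * ι v * (ι x)⁻¹ = ι (x * v * x⁻¹) := fun v => by rw [map_mul, map_mul, map_inv]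
  have hconj' : ∀ v, ι x * (s * ι v) * (ι x)⁻¹ = s * ι (x * v * x⁻¹) := fun v => by
    rw [← hconj]
    calc ι x * (s * ι v) * (ι x)⁻¹ = (ι x * s) * ι v * (ι x)⁻¹ := by group
      _ = _ := by rw [hd.comm]; group
  have cyc : ∀ {P : A5 → Prop}, (∀ v, P v → P (x * v * x⁻¹)) →
      ∀ {v}, (v = a ∨ v = b ∨ v = a * b) → P v → P a ∧ P b ∧ P (a * b) := by
    intro P hP v hv pv
    have h1 : P a → P b := fun p => by have := hP a p; rwa [hxa] at this
    have h2 : P b → P (a * b) := fun p => by have := hP b p; rwa [hxb] at this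
    have h3 : P (a * b) → P a := fun p => by have := hP _ p; rwa [hxab] at this
    rcases hv with rfl | rfl | rfl <;> tauto
  have cA : ∀ {v}, (v = a ∨ v = b ∨ v = a * b) → O (ι v) → O (ι a) ∧ O (ι b) ∧ O (ι (a * b)) :=
    cyc (P := fun v => O (ι v)) fun v pv => by have := hinv _ pv; rwa [hconj] at this
  have cB : ∀ {v}, (v = a ∨ v = b ∨ v = a * b) → O (s * ι v) →
      O (s * ι a) ∧ O (s * ι b) ∧ O (s * ι (a * b)) :=
    cyc (P := fun v => O (s * ι v)) fun v pv => by have := hinv _ pv; rwa [hconj'] at this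
  have cases7 : ∀ {z}, z ∈ Ee t S → z ≠ 1 → z = s ∨ (∃ v, (v = a ∨ v = b ∨ v = a * b) ∧ z = ι v) ∨
      (∃ v, (v = a ∨ v = b ∨ v = a * b) ∧ z = s * ι v) := by
    intro z hz hz1
    obtain ⟨v, hv, e | e⟩ := (hmem z).1 hz
    · rcases hv with rfl | hv
      · exact absurd (by rw [e, map_one]) hz1
      · exact Or.inr (Or.inl ⟨v, hv, e⟩)
    · rcases hv with rfl | hv
      · exact Or.inl (by rw [e, map_one, mul_one])
      · exact Or.inr (Or.inr ⟨v, hv, e⟩)
  have hab : a ≠ a * b ∧ b ≠ a * b := ⟨fun e => h4.b1 (left_eq_mul.1 e), fun e => h4.a1 (right_eq_mul.1 e)⟩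
  have four : ∀ (p q r : G), p ≠ q → p ≠ r → q ≠ r → s ≠ p → s ≠ q → s ≠ r →
      (∀ z, O z ↔ z = s ∨ z = p ∨ z = q ∨ z = r) → False := by
    intro p q r h1 h2 h3 h4 h5 h6 hO
    have hc : Nat.card {z // O z} = ({s, p, q, r} : Set G).ncard := by
      rw [← Nat.card_coe_set_eq]
      exact Nat.card_congr (Equiv.subtypeEquivRight fun z => by simp [hO])
    rw [Set.ncard_insert_of_notMem (by simp [h4, h5, h6]), Set.ncard_insert_of_notMem (by simp [h1, h2]),
      Set.ncard_insert_of_notMem (by simp [h3]), Set.ncard_singleton] at hc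
    rw [hc] at hodd
    exact absurd hodd (by decide)
  have hAB : (∃ v, (v = a ∨ v = b ∨ v = a * b) ∧ O (ι v)) ∧ (∃ v, (v = a ∨ v = b ∨ v = a * b) ∧ O (s * ι v)) := by
    obtain ⟨z, hz, hzs⟩ := hne
    have hz' := (cases7 (hsub z hz).1 (hsub z hz).2).resolve_left hzs
    by_contra hno
    rcases hz' with ⟨v, hv, rfl⟩ | ⟨v, hv, rfl⟩
    · obtain ⟨oa, ob, oab⟩ := cA hv hz
      refine four (ι a) (ι b) (ι (a * b)) (hd.inj.ne h4.ne) (hd.inj.ne hab.1) (hd.inj.ne hab.2)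
        (fun e => hd.not_mem _ e.symm) (fun e => hd.not_mem _ e.symm) (fun e => hd.not_mem _ e.symm) fun w => ⟨?_, ?_⟩
      · intro ow
        rcases cases7 (hsub w ow).1 (hsub w ow).2 with e | ⟨u, hu, e⟩ | ⟨u, hu, e⟩
        · exact Or.inl e
        · rcases hu with rfl | rfl | rfl <;> simp [e]
        · exact absurd ⟨⟨v, hv, hz⟩, u, hu, e ▸ ow⟩ hno
      · rintro (rfl | rfl | rfl | rfl) <;> assumption
    · obtain ⟨oa, ob, oab⟩ := cB hv hz
      have inj' : ∀ {p q : A5}, p ≠ q → s * ι p ≠ s * ι q := fun hpq e => hpq (hd.inj (mul_left_cancel e))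
      have ns : ∀ {p : A5}, p ≠ 1 → s ≠ s * ι p := fun hp e => hp (hd.inj (by rw [map_one]; exact (left_eq_mul.1 e)))
      refine four (s * ι a) (s * ι b) (s * ι (a * b)) (inj' h4.ne) (inj' hab.1) (inj' hab.2)
        (ns h4.a1) (ns h4.b1) (ns fun e => h4.ne (mul_left_cancel (e.trans h4.a2.symm)).symm) fun w => ⟨?_, ?_⟩
      · intro ow
        rcases cases7 (hsub w ow).1 (hsub w ow).2 with e | ⟨u, hu, e⟩ | ⟨u, hu, e⟩
        · exact Or.inl e
        · exact absurd ⟨⟨u, hu, e ▸ ow⟩, v, hv, hz⟩ hno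
        · rcases hu with rfl | rfl | rfl <;> simp [e]
      · rintro (rfl | rfl | rfl | rfl) <;> assumption
  obtain ⟨⟨v, hv, ov⟩, u, hu, ou⟩ := hAB
  obtain ⟨a1', a2', a3'⟩ := cA hv ov
  obtain ⟨b1', b2', b3'⟩ := cB hu ou
  rcases cases7 hy hy1 with e | ⟨w, hw, e⟩ | ⟨w, hw, e⟩
  · rw [e]; exact hOs
  · rw [e]; rcases hw with rfl | rfl | rfl <;> assumption
  · rw [e]; rcases hw with rfl | rfl | rfl <;> assumption

/-- All involutions of the Sylow subgroup of the weak closure are conjugate by its normalizer. -/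
theorem all_fused {y : G} (hy : y ∈ Ee t S) (hy1 : y ≠ 1) : ∃ n ∈ NE t S, n * t * n⁻¹ = y := by
  have : Fact (Nat.Prime 2) := ⟨Nat.prime_two⟩
  obtain ⟨ι, a, b, x, hF⟩ := h.frame h.t_mem_E (Cl.refl t) inf_le_right
  obtain ⟨hd, h4, hxa, hxb, hmem⟩ := id hF
  have hρE : ι x ∈ NE t S := mem_normalizer_of_forall fun z hz => by
    obtain ⟨v, hv, e⟩ := (hmem z).1 hz
    have hxab : x * (a * b) * x⁻¹ = a := by
      calc x * (a * b) * x⁻¹ = x * a * x⁻¹ * (x * b * x⁻¹) := by group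
        _ = b * (a * b) := by rw [hxa, hxb]
        _ = a := by rw [h4.comm, ← mul_assoc, h4.b2, one_mul]
    have hv' : InFour a b (x * v * x⁻¹) := by
      rcases hv with rfl | rfl | rfl | rfl
      · exact Or.inl (by group)
      · exact Or.inr (Or.inr (Or.inl hxa))
      · exact Or.inr (Or.inr (Or.inr hxb))
      · exact Or.inr (Or.inl hxab)
    refine (hmem _).2 ⟨_, hv', e.imp (fun e => ?_) fun e => ?_⟩
    · rw [e, map_mul, map_mul, map_inv]
    · rw [e, map_mul, map_mul, map_inv]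
      calc ι x * (t * ι v) * (ι x)⁻¹ = (ι x * t) * ι v * (ι x)⁻¹ := by group
        _ = _ := by rw [hd.comm]; group
  -- a conjugate other than `t`
  obtain ⟨e₀, he₀, hce₀, hne₀⟩ : ∃ e₀, e₀ ∈ Ee t S ∧ Cl t e₀ ∧ e₀ ≠ t := by
    by_contra! hall
    have hW : Wof t t ≤ Subgroup.zpowers t := by
      rw [Wof, Subgroup.closure_le]
      rintro z ⟨hz, hzt⟩
      obtain ⟨c, hc, P, -, pP, hSP, hzP⟩ := exists_conj_common (A := (S : Subgroup G)) (B := Subgroup.zpowers z)
        h.S_le (Subgroup.zpowers_le.2 (mem_Cz.2 hzt)) S.2 (isPGroup_zpowers_two (h.cl_ord hz))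
      have hP := S.3 pP hSP
      have h1 := hall _ (h.cl_S (hz.conj c) (hP ▸ hzP z (Subgroup.mem_zpowers z))) (hz.conj c)
      have : z = c⁻¹ * (c * z * c⁻¹) * c := by group
      rw [this, h1, mul_assoc, ← mem_Cz.1 hc, inv_mul_cancel_left]
      exact Subgroup.mem_zpowers t
    have h2 := Subgroup.card_dvd_of_le hW
    rw [hd.card, Nat.card_zpowers, h.ord] at h2
    norm_num at h2
  have hgen : ∀ P : Subgroup G, (∀ z ∈ Ee t S, Cl t z → z ∈ P) → Ee t S ≤ P := by
    intro P hP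
    have htP : t ∈ P := hP t h.t_mem_E (Cl.refl t)
    have hstable : ∀ z ∈ Ee t S, Cl t z → ι x * z * (ι x)⁻¹ ∈ P := fun z hz hc =>
      hP _ (conj_mem_normalizer hρE hz) (hc.conj _)
    obtain ⟨v, hv, e⟩ := (hmem e₀).1 he₀
    have hv1 : v ≠ 1 := by
      intro hv1
      subst hv1
      rcases e with e | e
      · exact h.cl_ne hce₀ (by rw [e, map_one])
      · exact hne₀ (by rw [e, map_one, mul_one])
    have h3 : ι v ∈ P ∧ ι (x * v * x⁻¹) ∈ P := by
      have hb := hP _ he₀ hce₀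
      have hc := hstable _ he₀ hce₀
      rcases e with e | e
      · rw [e] at hb hc
        exact ⟨hb, by rwa [map_mul, map_mul, map_inv]⟩
      · rw [e] at hb hc
        refine ⟨(P.mul_mem_cancel_left htP).1 hb, (P.mul_mem_cancel_left htP).1 ?_⟩
        rw [map_mul, map_mul, map_inv]
        rwa [show ι x * (t * ι v) * (ι x)⁻¹ = (ι x * t) * ι v * (ι x)⁻¹ by group, hd.comm,
          show t * ι x * ι v * (ι x)⁻¹ = t * (ι x * ι v * (ι x)⁻¹) by group] at hc
    have hfour : ι a ∈ P ∧ ι b ∈ P := by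
      have hxab : x * (a * b) * x⁻¹ = a := by
        calc x * (a * b) * x⁻¹ = x * a * x⁻¹ * (x * b * x⁻¹) := by group
          _ = b * (a * b) := by rw [hxa, hxb]
          _ = a := by rw [h4.comm, ← mul_assoc, h4.b2, one_mul]
      rcases hv.resolve_left hv1 with rfl | rfl | rfl
      · rw [hxa] at h3; exact h3
      · rw [hxb, map_mul] at h3
        exact ⟨(P.mul_mem_cancel_right h3.1).1 h3.2, h3.1⟩
      · rw [hxab, map_mul] at h3
        exact ⟨h3.2, (P.mul_mem_cancel_left h3.2).1 h3.1⟩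
    intro z hz
    obtain ⟨w, hw, e⟩ := (hmem z).1 hz
    have hwP : ι w ∈ P := by
      rcases hw with rfl | rfl | rfl | rfl
      · rw [map_one]; exact P.one_mem
      · exact hfour.1
      · exact hfour.2
      · rw [map_mul]; exact P.mul_mem hfour.1 hfour.2
    rcases e with rfl | rfl
    exacts [hwP, P.mul_mem htP hwP]
  let O : G → Prop := fun z => ∃ n ∈ NE t S, n * t * n⁻¹ = z
  refine h.full_of_odd hF (O := O) ⟨1, Subgroup.one_mem _, by group⟩ ?_ ?_ ⟨e₀, ?_, hne₀⟩ ?_ hy hy1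
  · rintro z ⟨n, hn, rfl⟩
    exact ⟨conj_mem_normalizer hn h.t_mem_E, h.cl_ne ⟨n, rfl⟩⟩
  · rintro z ⟨n, hn, rfl⟩
    exact ⟨ι x * n, Subgroup.mul_mem _ hρE hn, by group⟩
  · obtain ⟨g, hg⟩ := hce₀
    obtain ⟨n, -, hn, hn'⟩ := h.fuse hgen (H := ⊤) le_top (Subgroup.mem_top g) h.t_mem_E he₀ hg
    exact ⟨n, hn, hn'⟩
  · refine orbit_odd (Q := (S : Subgroup G)) h.S_le fun h2 => S.not_dvd_index ?_
    exact h2.trans (Subgroup.relIndex_dvd_index_of_le h.S_le_NE)

theorem all_cl {y : G} (hy : y ∈ Ee t S) (hy1 : y ≠ 1) : Cl t y := by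
  obtain ⟨n, -, hn⟩ := h.all_fused hy hy1
  exact ⟨n, hn⟩

theorem E_le_Wof {s : G} (hs : s ∈ Ee t S) : Ee t S ≤ Wof t s := by
  intro z hz
  by_cases hz1 : z = 1
  · rw [hz1]; exact Subgroup.one_mem _
  · exact mem_Wof (h.all_cl hz hz1) (h.E_comm hz hs)

theorem frameOf {s : G} (hs : s ∈ Ee t S) (hs1 : s ≠ 1) :
    ∃ (ι : A5 →* G) (a b x : A5), Frame t S s ι a b x := h.frame hs (h.all_cl hs hs1) (h.E_le_Wof hs)

theorem fuseE {H : Subgroup G} (hE : Ee t S ≤ H) {g u v : G} (hg : g ∈ H) (hu : u ∈ Ee t S) (hv : v ∈ Ee t S)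
    (huv : g * u * g⁻¹ = v) : ∃ n ∈ H, n ∈ NE t S ∧ n * u * n⁻¹ = v := by
  refine h.fuse (fun P hP z hz => ?_) hE hg hu hv huv
  by_cases hz1 : z = 1
  · rw [hz1]; exact P.one_mem
  · exact hP z hz (h.all_cl hz hz1)

/-- The Sylow subgroup of a weak closure at one of the seven. -/
theorem two_group_eq {P : Subgroup G} {s : G} (hs : s ∈ Ee t S) (hs1 : s ≠ 1) (hP : P ≤ Wof t s)
    (pP : IsPGroup 2 P) (hEP : Ee t S ≤ P) : P = Ee t S := by
  obtain ⟨k, hk, hk'⟩ := h.card_two_dvd (h.all_cl hs hs1) hP pP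
  refine (Subgroup.eq_of_le_of_card_ge hEP ?_).symm
  rw [hk', h.card_E]
  exact Nat.pow_le_pow_right (by norm_num : 0 < 2) hk

theorem frame_x_mem {s : G} {ι : A5 →* G} {a b x : A5} (hF : Frame t S s ι a b x) : ι x ∈ NE t S := by
  obtain ⟨hd, h4, hxa, hxb, hmem⟩ := hF
  refine mem_normalizer_of_forall fun z hz => ?_
  obtain ⟨v, hv, e⟩ := (hmem z).1 hz
  have hxab : x * (a * b) * x⁻¹ = a := by
    calc x * (a * b) * x⁻¹ = x * a * x⁻¹ * (x * b * x⁻¹) := by group
      _ = b * (a * b) := by rw [hxa, hxb]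
      _ = a := by rw [h4.comm, ← mul_assoc, h4.b2, one_mul]
  have hv' : InFour a b (x * v * x⁻¹) := by
    rcases hv with rfl | rfl | rfl | rfl
    · exact Or.inl (by group)
    · exact Or.inr (Or.inr (Or.inl hxa))
    · exact Or.inr (Or.inr (Or.inr hxb))
    · exact Or.inr (Or.inl hxab)
  refine (hmem _).2 ⟨_, hv', e.imp (fun e => ?_) fun e => ?_⟩
  · rw [e, map_mul, map_mul, map_inv]
  · rw [e, map_mul, map_mul, map_inv]
    calc ι x * (s * ι v) * (ι x)⁻¹ = (ι x * s) * ι v * (ι x)⁻¹ := by group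
      _ = _ := by rw [hd.comm]; group

/-- The 2-elements of the normalizer centralize the Sylow subgroup of the weak closure. -/
theorem two_comm (k : ℕ) : ∀ p ∈ NE t S, p ^ 2 ^ k = 1 → ∀ z ∈ Ee t S, p * z = z * p := by
  induction k with
  | zero =>
    intro p _ hp z _
    rw [pow_zero, pow_one] at hp
    rw [hp, one_mul, mul_one]
  | succ k ih =>
    intro p hp hk z hz
    by_contra hne
    have h2 := ih (p * p) (Subgroup.mul_mem _ hp hp) (by rw [← pow_two, ← pow_mul, ← pow_succ', hk]) z hz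
    set z' := p * z * p⁻¹ with hz'def
    have hz' : z' ∈ Ee t S := conj_mem_normalizer hp hz
    have hpz' : p * z' * p⁻¹ = z := by
      rw [hz'def]
      calc p * (p * z * p⁻¹) * p⁻¹ = p * p * z * (p * p)⁻¹ := by group
        _ = z := by rw [h2, mul_inv_cancel_right]
    set c := z * z' with hc
    have hcE : c ∈ Ee t S := Subgroup.mul_mem _ hz hz'
    have hc1 : c ≠ 1 := fun e => hne (by
      have h1 : z' = z := by rw [← inv_eq_of_mul_eq_one_right (h.sq_of_two hz)]; exact (inv_eq_of_mul_eq_one_right e).symm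
      exact mul_inv_eq_iff_eq_mul.1 h1)
    have hpc : p * c = c * p := by
      rw [← mul_inv_eq_iff_eq_mul, hc, show p * (z * z') * p⁻¹ = (p * z * p⁻¹) * (p * z' * p⁻¹) by group, hpz',
        ← hz'def, h.E_comm hz' hz]
    obtain ⟨ι, a, b, x, hd, h4, hxa, hxb, hmem⟩ := h.frameOf hcE hc1
    obtain ⟨v, -, e⟩ := (hmem z).1 hz
    have hv' : p * ι v * p⁻¹ ∈ ι.range := by
      rw [hd.range]
      refine conj_Wd_fix hpc ?_
      rw [← hd.range]
      exact ⟨v, rfl⟩
    obtain ⟨w, hw⟩ := hv'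
    have hcc : c * c = 1 := h.sq_of_two hcE
    have : c = ι (v * w) := by
      rw [map_mul, hw]
      rcases e with e | e
      · show z * (p * z * p⁻¹) = _
        rw [e]
      · show z * (p * z * p⁻¹) = _
        rw [e, show p * (c * ι v) * p⁻¹ = (p * c) * ι v * p⁻¹ by group, hpc]
        calc c * ι v * (c * p * ι v * p⁻¹) = c * (ι v * c) * p * ι v * p⁻¹ := by group
          _ = c * (c * ι v) * p * ι v * p⁻¹ := by rw [hd.comm]
          _ = c * c * (ι v * (p * ι v * p⁻¹)) := by group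
          _ = _ := by rw [hcc, one_mul]
    exact hd.not_mem _ this.symm

end Hyp

end Cfsg.Agent.J1WeakClosure91
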