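import Cfsg.Agent.Lib.AltCommCent91

/-!
The group of order two times the alternating group of degree five.
-/

set_option autoImplicit false
set_option maxRecDepth 20000

namespace Cfsg.Agent.J1WeakClosure91

open scoped commutatorElement

abbrev A5 := alternatingGroup (Fin 5)
abbrev M2 := Multiplicative (ZMod 2) × A5

open Equiv in
def a0 : A5 := ⟨swap 0 1 * swap 2 3, Equiv.Perm.mem_alternatingGroup.2 (by decide)⟩
open Equiv in
def b0 : A5 := ⟨swap 0 2 * swap 1 3, Equiv.Perm.mem_alternatingGroup.2 (by decide)⟩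
open Equiv in
def x0 : A5 := ⟨swap 1 2 * swap 2 3, Equiv.Perm.mem_alternatingGroup.2 (by decide)⟩
open Equiv in
def z0 : A5 := ⟨swap 0 1 * swap 1 2 * (swap 2 3 * swap 3 4), Equiv.Perm.mem_alternatingGroup.2 (by decide)⟩

/-- A four group. -/
structure Four {A : Type*} [Group A] (a b : A) : Prop where
  a2 : a * a = 1
  b2 : b * b = 1
  a1 : a ≠ 1
  b1 : b ≠ 1
  ne : a ≠ b
  comm : a * b = b * a

/-- Membership in the four group. -/
def InFour {A : Type*} [Group A] (a b v : A) : Prop := v = 1 ∨ v = a ∨ v = b ∨ v = a * b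

set_option synthInstance.maxSize 4000 in
set_option synthInstance.maxHeartbeats 200000 in
theorem four_canon : ∀ a : A5, a * a = 1 → a ≠ 1 → ∀ b : A5, b * b = 1 → b ≠ 1 → a ≠ b → a * b = b * a →
    ∃ g : A5, (g * a0 * g⁻¹ = a ∧ g * b0 * g⁻¹ = b) ∨ (g * a0 * g⁻¹ = b ∧ g * b0 * g⁻¹ = a) := by
  decide +kernel

theorem four_cent_canon : ∀ w : A5, w * a0 = a0 * w → w * b0 = b0 * w → w ∈ [1, a0, b0, a0 * b0] := by
  decide +kernel

theorem four_decomp : ∀ g : A5, ∃ v ∈ [1, a0, b0, a0 * b0], ∃ i : Fin 3, ∃ j : Fin 5,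
    g = v * x0 ^ (i : ℕ) * z0 ^ (j : ℕ) := by
  decide +kernel

theorem x0_conj : x0 * a0 * x0⁻¹ = b0 ∧ x0 * b0 * x0⁻¹ = a0 * b0 ∧ x0 ^ 3 = 1 := by decide +kernel

theorem z0_rels : z0 ^ 5 = 1 ∧ (z0 * a0) ^ 3 = 1 ∧ (z0 * b0) ^ 5 = 1 ∧ (z0 * z0 * x0) ^ 2 = 1 := by decide +kernel

theorem x_cands : ∀ x : A5, x * a0 * x⁻¹ = b0 → x * b0 * x⁻¹ = a0 * b0 → x ^ 3 = 1 →
    ∀ z : A5, z ^ 5 = 1 → (z * a0) ^ 3 = 1 → (z * b0) ^ 5 = 1 → (z * z * x) ^ 2 = 1 →
    ∃ v ∈ [1, a0, b0, a0 * b0], x = v * x0 * v⁻¹ ∧ z = v * z0 * v⁻¹ := by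
  decide +kernel

theorem a5_center : ∀ v : A5, (∀ g : A5, g * v = v * g) → v = 1 := by decide +kernel

/-- An endomorphism fixing a four group is conjugation by one of its elements. -/
theorem fix_four {a b : A5} (h : Four a b) (φ : A5 →* A5) (ha : φ a = a) (hb : φ b = b) :
    ∃ v, InFour a b v ∧ ∀ g, φ g = v * g * v⁻¹ := by
  obtain ⟨c, hc⟩ := four_canon a h.a2 h.a1 b h.b2 h.b1 h.ne h.comm
  suffices H : ∀ a b : A5, φ a = a → φ b = b → c * a0 * c⁻¹ = a → c * b0 * c⁻¹ = b →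
      ∃ v, InFour a b v ∧ ∀ g, φ g = v * g * v⁻¹ by
    rcases hc with ⟨hca, hcb⟩ | ⟨hca, hcb⟩
    · exact H a b ha hb hca hcb
    · obtain ⟨v, hv, hv'⟩ := H b a hb ha hca hcb
      exact ⟨v, by simp only [InFour, h.comm] at hv ⊢; tauto, hv'⟩
  intro a b ha hb hca hcb
  let ψ : A5 →* A5 := ((MulAut.conj c⁻¹).toMonoidHom.comp φ).comp (MulAut.conj c).toMonoidHom
  have hψ : ∀ g, ψ g = c⁻¹ * φ (c * g * c⁻¹) * c := fun g => by simp [ψ]
  have pa : ψ a0 = a0 := by rw [hψ, hca, ha, ← hca]; group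
  have pb : ψ b0 = b0 := by rw [hψ, hcb, hb, ← hcb]; group
  obtain ⟨r1, r2, r3, r4⟩ := z0_rels
  obtain ⟨x1, x2, x3⟩ := x0_conj
  obtain ⟨v, hv, hvx, hvz⟩ := x_cands (ψ x0)
    (by rw [← pa, ← pb, ← map_inv, ← map_mul, ← map_mul, x1])
    (by rw [← pa, ← pb, ← map_inv, ← map_mul, ← map_mul, ← map_mul, x2])
    (by rw [← map_pow, x3, map_one]) (ψ z0)
    (by rw [← map_pow, r1, map_one]) (by rw [← pa, ← map_mul, ← map_pow, r2, map_one])
    (by rw [← pb, ← map_mul, ← map_pow, r3, map_one]) (by rw [← map_mul, ← map_mul, ← map_pow, r4, map_one])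
  have hab : a0 * b0 = b0 * a0 ∧ a0 * a0 = 1 ∧ b0 * b0 = 1 := by decide +kernel
  have hvV : v * a0 * v⁻¹ = a0 ∧ v * b0 * v⁻¹ = b0 := by
    simp only [List.mem_cons, List.not_mem_nil, or_false] at hv
    rcases hv with rfl | rfl | rfl | rfl <;> refine ⟨mul_inv_eq_iff_eq_mul.2 ?_, mul_inv_eq_iff_eq_mul.2 ?_⟩ <;>
      decide +kernel
  have heq : ψ = (MulAut.conj v).toMonoidHom := by
    refine MonoidHom.ext fun g => ?_
    obtain ⟨u, hu, i, j, rfl⟩ := four_decomp g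
    have hu' : ψ u = v * u * v⁻¹ := by
      simp only [List.mem_cons, List.not_mem_nil, or_false] at hu
      rcases hu with rfl | rfl | rfl | rfl
      · simp
      · rw [pa, hvV.1]
      · rw [pb, hvV.2]
      · rw [map_mul, pa, pb, show v * (a0 * b0) * v⁻¹ = v * a0 * v⁻¹ * (v * b0 * v⁻¹) by group, hvV.1, hvV.2]
    simp only [map_mul, map_pow, hu', hvx, hvz, MulEquiv.coe_toMonoidHom, MulAut.conj_apply]
  refine ⟨c * v * c⁻¹, ?_, fun g => ?_⟩
  · simp only [List.mem_cons, List.not_mem_nil, or_false] at hv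
    rcases hv with rfl | rfl | rfl | rfl
    · exact Or.inl (by group)
    · exact Or.inr (Or.inl hca)
    · exact Or.inr (Or.inr (Or.inl hcb))
    · exact Or.inr (Or.inr (Or.inr (by rw [← hca, ← hcb]; group)))
  · have h1 := DFunLike.congr_fun heq (c⁻¹ * g * c)
    rw [hψ, MulEquiv.coe_toMonoidHom, MulAut.conj_apply,
      show c * (c⁻¹ * g * c) * c⁻¹ = g by group] at h1
    calc φ g = c * (c⁻¹ * φ g * c) * c⁻¹ := by group
      _ = _ := by rw [h1]; group

/-- The centraliser of a four group. -/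
theorem four_cent {a b : A5} (h : Four a b) {w : A5} (hwa : w * a = a * w) (hwb : w * b = b * w) : InFour a b w := by
  obtain ⟨c, hc⟩ := four_canon a h.a2 h.a1 b h.b2 h.b1 h.ne h.comm
  have key : ∀ {p q : A5}, c * p * c⁻¹ = q → w * q = q * w → c⁻¹ * w * c * p = p * (c⁻¹ * w * c) := by
    intro p q e he
    rw [← e] at he
    calc c⁻¹ * w * c * p = c⁻¹ * (w * (c * p * c⁻¹)) * c := by group
      _ = c⁻¹ * (c * p * c⁻¹ * w) * c := by rw [he]
      _ = _ := by group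
  have hmem : c⁻¹ * w * c ∈ [1, a0, b0, a0 * b0] := by
    rcases hc with ⟨h1, h2⟩ | ⟨h1, h2⟩
    · exact four_cent_canon _ (key h1 hwa) (key h2 hwb)
    · exact four_cent_canon _ (key h1 hwb) (key h2 hwa)
  have e : ∀ p, c⁻¹ * w * c = p → w = c * p * c⁻¹ := fun p hp => by rw [← hp]; group
  have e4 : c * (a0 * b0) * c⁻¹ = c * a0 * c⁻¹ * (c * b0 * c⁻¹) := by group
  simp only [List.mem_cons, List.not_mem_nil, or_false] at hmem
  rcases hmem with hp | hp | hp | hp <;> have hw := e _ hp <;> rcases hc with ⟨h1, h2⟩ | ⟨h1, h2⟩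
  · exact Or.inl (by rw [hw]; group)
  · exact Or.inl (by rw [hw]; group)
  · exact Or.inr (Or.inl (hw.trans h1))
  · exact Or.inr (Or.inr (Or.inl (hw.trans h1)))
  · exact Or.inr (Or.inr (Or.inl (hw.trans h2)))
  · exact Or.inr (Or.inl (hw.trans h2))
  · exact Or.inr (Or.inr (Or.inr (by rw [hw, e4, h1, h2])))
  · exact Or.inr (Or.inr (Or.inr (by rw [hw, e4, h1, h2, h.comm])))

theorem commutator_A5 : commutator A5 = ⊤ := by
  refine (IsSimpleGroup.eq_bot_or_eq_top_of_normal _ inferInstance).resolve_left fun h => ?_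
  have h1 : ⁅a0, x0⁆ ∈ commutator A5 :=
    Subgroup.commutator_mem_commutator (Subgroup.mem_top a0) (Subgroup.mem_top x0)
  rw [h, Subgroup.mem_bot] at h1
  revert h1
  decide +kernel

/-- The central involution. -/
def cM : M2 := (Multiplicative.ofAdd 1, 1)

theorem mult2_cases : ∀ u : Multiplicative (ZMod 2), u = 1 ∨ u = Multiplicative.ofAdd 1 := by decide

theorem mult2_one_ne : (Multiplicative.ofAdd (1 : ZMod 2)) ≠ 1 := by decide

theorem eq_cM {m : M2} (hc : ∀ g : M2, g * m = m * g) (h1 : m ≠ 1) : m = cM := by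
  have h2 : m.2 = 1 := a5_center _ fun g => congrArg Prod.snd (hc (1, g))
  rcases mult2_cases m.1 with h | h
  · exact absurd (Prod.ext h h2) h1
  · exact Prod.ext h h2

theorem cM_central (g : M2) : g * cM = cM * g :=
  Prod.ext (mul_comm _ _) (by show g.2 * 1 = 1 * g.2; rw [mul_one, one_mul])

theorem M2_decomp (m : M2) : ∃ u : A5, m = (1, u) ∨ m = cM * (1, u) := by
  refine ⟨m.2, ?_⟩
  rcases mult2_cases m.1 with h | h
  · exact Or.inl (Prod.ext h rfl)
  · exact Or.inr (Prod.ext (by simp [cM, h]) (by simp [cM]))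

theorem commutator_M2 : commutator M2 = (MonoidHom.inr (Multiplicative (ZMod 2)) A5).range := by
  refine le_antisymm ?_ ?_
  · rw [commutator_def, Subgroup.commutator_le]
    intro x _ y _
    refine ⟨⁅x.2, y.2⁆, ?_⟩
    refine Prod.ext ?_ rfl
    show (1 : Multiplicative (ZMod 2)) = x.1 * y.1 * x.1⁻¹ * y.1⁻¹
    rw [mul_comm x.1, mul_inv_cancel_right, mul_inv_cancel]
  · rw [MonoidHom.range_eq_map, ← commutator_A5, commutator_def, Subgroup.map_commutator]
    exact Subgroup.commutator_mono le_top le_top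

theorem card_M2 : Nat.card M2 = 120 := by
  rw [Nat.card_prod, AltCommCent91.card_five, Nat.card_eq_fintype_card]
  rfl

end Cfsg.Agent.J1WeakClosure91
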