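import Mathlib
import Cfsg.Agent.Lib.J1WeakClosure91Model
import Cfsg.Agent.Lib.SignalizerStrongEmb

/-!
An involution whose weak closure in its centralizer is of type `2 × A5`: its conjugates in a Sylow subgroup.
-/

set_option autoImplicit false
set_option linter.unusedSectionVars false

namespace Cfsg.Agent.J1WeakClosure91

open scoped commutatorElement Pointwise
open Cfsg.Agent.SignalizerStrongEmb (involution_mul_self involution_ne_one orderOf_conj orderOf_eq_two_of_mul_self)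

variable {G : Type*} [Group G]

/-- The conjugates of `t`. -/
def Cl (t x : G) : Prop := ∃ g : G, g * t * g⁻¹ = x

/-- The centralizer of an element. -/
abbrev Cz (s : G) : Subgroup G := Subgroup.centralizer ({s} : Set G)

/-- The weak closure of `t` in the centralizer of `s`. -/
def Wof (t s : G) : Subgroup G := Subgroup.closure {x | Cl t x ∧ x * s = s * x}

/-- Its derived subgroup. -/
def Wd (t s : G) : Subgroup G := ⁅Wof t s, Wof t s⁆

theorem Cl.refl (t : G) : Cl t t := ⟨1, by group⟩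

theorem Cl.conj {t x : G} (h : Cl t x) (g : G) : Cl t (g * x * g⁻¹) := by
  obtain ⟨k, rfl⟩ := h
  exact ⟨g * k, by group⟩

theorem mem_Cz {s x : G} : x ∈ Cz s ↔ x * s = s * x := Subgroup.mem_centralizer_singleton_iff

theorem Wof_le_Cz (t s : G) : Wof t s ≤ Cz s := (Subgroup.closure_le _).2 fun _ hx => mem_Cz.2 hx.2

theorem mem_Wof {t s x : G} (h : Cl t x) (hc : x * s = s * x) : x ∈ Wof t s := Subgroup.subset_closure ⟨h, hc⟩

theorem conj_Wof {t s x : G} (g : G) (hx : x ∈ Wof t s) : g * x * g⁻¹ ∈ Wof t (g * s * g⁻¹) := by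
  have : Wof t s ≤ (Wof t (g * s * g⁻¹)).comap (MulAut.conj g).toMonoidHom := by
    rw [Wof, Subgroup.closure_le]
    rintro y ⟨hy, hc⟩
    refine mem_Wof (hy.conj g) ?_
    show g * y * g⁻¹ * (g * s * g⁻¹) = g * s * g⁻¹ * (g * y * g⁻¹)
    calc g * y * g⁻¹ * (g * s * g⁻¹) = g * (y * s) * g⁻¹ := by group
      _ = g * (s * y) * g⁻¹ := by rw [hc]
      _ = _ := by group
  simpa using this hx

theorem map_Wof (t s g : G) : (Wof t s).map (MulAut.conj g).toMonoidHom = Wof t (g * s * g⁻¹) := by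
  refine le_antisymm ?_ fun y hy => ?_
  · rintro _ ⟨x, hx, rfl⟩
    exact conj_Wof g hx
  · refine ⟨g⁻¹ * y * g, ?_, by simp [mul_assoc]⟩
    have h := conj_Wof g⁻¹ hy
    rwa [show g⁻¹ * (g * s * g⁻¹) * g⁻¹⁻¹ = s by group, inv_inv] at h

theorem conj_Wof_fix {t s x : G} {g : G} (hg : g * s = s * g) (hx : x ∈ Wof t s) : g * x * g⁻¹ ∈ Wof t s := by
  have h := conj_Wof g hx
  rwa [show g * s * g⁻¹ = s by rw [hg, mul_inv_cancel_right]] at h

theorem conj_Wd_fix {t s x : G} {g : G} (hg : g * s = s * g) (hx : x ∈ Wd t s) : g * x * g⁻¹ ∈ Wd t s := by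
  have h : (Wd t s).map (MulAut.conj g).toMonoidHom = Wd t s := by
    rw [Wd, Subgroup.map_commutator, map_Wof, show g * s * g⁻¹ = s by rw [hg, mul_inv_cancel_right]]
  rw [← h]
  exact ⟨x, hx, rfl⟩

/-- The standing hypotheses. -/
structure Hyp (t : G) (S : Sylow 2 G) : Prop where
  ord : orderOf t = 2
  mem : t ∈ (S : Subgroup G)
  cen : ∀ s ∈ (S : Subgroup G), s * t = t * s
  iso : Nonempty (Wof t t ≃* M2)

/-- A decomposition of a weak closure. -/
structure Dec (t s : G) (ι : A5 →* G) : Prop where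
  inj : Function.Injective ι
  range : ι.range = Wd t s
  mem_s : s ∈ Wof t s
  le : ∀ a, ι a ∈ Wof t s
  comm : ∀ a, ι a * s = s * ι a
  split : ∀ w ∈ Wof t s, ∃ a, w = ι a ∨ w = s * ι a
  not_mem : ∀ a, ι a ≠ s
  card : Nat.card (Wof t s) = 120

theorem exists_conj_common [Finite G] {C A B : Subgroup G} (hA : A ≤ C) (hB : B ≤ C) (pA : IsPGroup 2 A)
    (pB : IsPGroup 2 B) : ∃ c ∈ C, ∃ P : Subgroup G, P ≤ C ∧ IsPGroup 2 P ∧ A ≤ P ∧ ∀ b ∈ B, c * b * c⁻¹ ∈ P := by
  have : Fact (Nat.Prime 2) := ⟨Nat.prime_two⟩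
  obtain ⟨P, hP⟩ := (pA.comap_of_injective C.subtype C.subtype_injective).exists_le_sylow
  obtain ⟨Q, hQ⟩ := (pB.comap_of_injective C.subtype C.subtype_injective).exists_le_sylow
  obtain ⟨c, hc⟩ := MulAction.exists_smul_eq C Q P
  refine ⟨c, c.2, (P : Subgroup C).map C.subtype, Subgroup.map_subtype_le _, P.2.map _,
    fun a ha => ⟨⟨a, hA ha⟩, hP ha, rfl⟩, fun b hb => ⟨c * ⟨b, hB hb⟩ * c⁻¹, ?_, rfl⟩⟩
  rw [← hc]
  show c * ⟨b, hB hb⟩ * c⁻¹ ∈ ((c • Q : Sylow 2 C) : Subgroup C)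
  rw [Sylow.coe_subgroup_smul]
  exact Subgroup.smul_mem_pointwise_smul _ (MulAut.conj c) _ (hQ hb)

theorem isPGroup_zpowers_two {x : G} (hx : orderOf x = 2) : IsPGroup 2 (Subgroup.zpowers x) :=
  IsPGroup.of_card (n := 1) (by rw [Nat.card_zpowers, hx, pow_one])

namespace Hyp

variable [Finite G] {t : G} {S : Sylow 2 G} (h : Hyp t S)
include h

theorem sq : t * t = 1 := involution_mul_self h.ord

theorem cl_ord {x : G} (hx : Cl t x) : orderOf x = 2 := by
  obtain ⟨g, rfl⟩ := hx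
  rw [orderOf_conj, h.ord]

theorem cl_sq {x : G} (hx : Cl t x) : x * x = 1 := involution_mul_self (h.cl_ord hx)

theorem cl_ne {x : G} (hx : Cl t x) : x ≠ 1 := involution_ne_one (h.cl_ord hx)

theorem dec {s : G} (hs : Cl t s) : ∃ ι : A5 →* G, Dec t s ι := by
  obtain ⟨g, hg⟩ := hs
  have hm : (Wof t t).map (MulAut.conj g).toMonoidHom = Wof t s := by rw [map_Wof, hg]
  obtain ⟨e⟩ := h.iso
  let ε : Wof t s ≃* M2 := (((MulAut.conj g).subgroupMap (Wof t t)).trans (MulEquiv.subgroupCongr hm)).symm.trans e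
  have hsW : s ∈ Wof t s := mem_Wof ⟨g, hg⟩ rfl
  have hcs : ε ⟨s, hsW⟩ = cM := by
    refine eq_cM (fun m => ?_) fun e1 => h.cl_ne ⟨g, hg⟩ ?_
    · obtain ⟨y, rfl⟩ := ε.surjective m
      rw [← map_mul, ← map_mul]
      exact congrArg ε (Subtype.ext (mem_Cz.1 (Wof_le_Cz t s y.2)))
    · exact congrArg Subtype.val ((EmbeddingLike.map_eq_one_iff (f := ε)).1 e1)
  let ι : A5 →* G := (Wof t s).subtype.comp (ε.symm.toMonoidHom.comp (MonoidHom.inr (Multiplicative (ZMod 2)) A5))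
  have hι : ∀ a, ι a = (ε.symm (1, a) : Wof t s) := fun a => rfl
  refine ⟨ι, ⟨fun a b e1 => ?_, ?_, hsW, fun a => (ε.symm (1, a)).2, fun a => mem_Cz.1 (Wof_le_Cz t s (ε.symm (1, a)).2),
    fun w hw => ?_, fun a e1 => ?_, ?_⟩⟩
  · exact congrArg Prod.snd (ε.symm.injective (Subtype.ext e1))
  · rw [show ι.range = ((commutator M2).map ε.symm.toMonoidHom).map (Wof t s).subtype by
      rw [commutator_M2, MonoidHom.map_range, MonoidHom.map_range]]
    rw [commutator_def, Subgroup.map_commutator, Subgroup.map_top_of_surjective _ ε.symm.surjective,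
      Subgroup.map_commutator, ← MonoidHom.range_eq_map, Subgroup.range_subtype]
    rfl
  · obtain ⟨u, hu⟩ := M2_decomp (ε ⟨w, hw⟩)
    refine ⟨u, hu.imp (fun e1 => ?_) fun e1 => ?_⟩
    · rw [hι, ← e1, MulEquiv.symm_apply_apply]
    · rw [← hcs] at e1
      have := congrArg (fun z => ((ε.symm z : Wof t s) : G)) e1
      simpa [map_mul, hι] using this
  · have := congrArg ε (show ε.symm (1, a) = (⟨s, hsW⟩ : Wof t s) from Subtype.ext e1)
    rw [MulEquiv.apply_symm_apply, hcs] at this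
    exact mult2_one_ne (congrArg Prod.fst this).symm
  · rw [Nat.card_congr ε.toEquiv, card_M2]

omit h in
variable (t S) in
/-- The Sylow subgroup of the weak closure. -/
def Ee : Subgroup G := (S : Subgroup G) ⊓ Wof t t

theorem S_le : (S : Subgroup G) ≤ Cz t := fun x hx => mem_Cz.2 (h.cen x hx)

theorem two_group_E : IsPGroup 2 (Ee t S) := S.2.to_le inf_le_left

theorem card_two_dvd {P : Subgroup G} {s : G} (hs : Cl t s) (hP : P ≤ Wof t s) (p2 : IsPGroup 2 P) :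
    ∃ k ≤ 3, Nat.card P = 2 ^ k := by
  have : Fact (Nat.Prime 2) := ⟨Nat.prime_two⟩
  obtain ⟨ι, hd⟩ := h.dec hs
  obtain ⟨k, hk⟩ := IsPGroup.iff_card.1 p2
  refine ⟨k, ?_, hk⟩
  by_contra hlt
  have h1 := Subgroup.card_dvd_of_le hP
  rw [hk, hd.card] at h1
  have := (Nat.pow_dvd_pow 2 (show 4 ≤ k by omega)).trans h1
  norm_num at this

theorem card_E : Nat.card (Ee t S) = 8 := by
  have : Fact (Nat.Prime 2) := ⟨Nat.prime_two⟩
  obtain ⟨k, hk, hk'⟩ := h.card_two_dvd (P := Ee t S) (Cl.refl t) inf_le_right h.two_group_E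
  obtain ⟨ι, hd⟩ := h.dec (Cl.refl t)
  obtain ⟨P⟩ : Nonempty (Sylow 2 (Wof t t)) := inferInstance
  have hP : Nat.card (P : Subgroup (Wof t t)) = 8 := by
    obtain ⟨j, hj⟩ := IsPGroup.iff_card.1 P.2
    have h1 : 2 ^ 3 ∣ Nat.card (Wof t t) := by rw [hd.card]; norm_num
    obtain ⟨Q, hQc⟩ := Sylow.exists_subgroup_card_pow_prime 2 h1
    obtain ⟨Q', hQ'⟩ := (IsPGroup.of_card hQc).exists_le_sylow
    have h2 := Subgroup.card_dvd_of_le hQ'
    rw [hQc, Q'.card_eq_multiplicity, ← P.card_eq_multiplicity, hj] at h2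
    have h3 := (P : Subgroup (Wof t t)).card_subgroup_dvd_card
    rw [hj, hd.card] at h3
    rw [hj]
    have hj3 := (Nat.pow_dvd_pow_iff_le_right (by norm_num)).1 h2
    rcases Nat.eq_or_lt_of_le hj3 with e | e
    · rw [← e]; norm_num
    · have := (Nat.pow_dvd_pow 2 (show 4 ≤ j by omega)).trans h3
      norm_num at this
  obtain ⟨c, hc, Q, hQC, hQ2, hSQ, hPQ⟩ := exists_conj_common (A := (S : Subgroup G))
    (B := (P : Subgroup (Wof t t)).map (Wof t t).subtype) h.S_le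
    ((Subgroup.map_subtype_le _).trans (Wof_le_Cz t t)) S.2 (P.2.map _)
  have hQS : Q = (S : Subgroup G) := S.3 hQ2 hSQ
  let f : ↥(P : Subgroup (Wof t t)) → Ee t S := fun x => ⟨c * ((x : Wof t t) : G) * c⁻¹,
    hQS ▸ hPQ _ ⟨x.1, x.2, rfl⟩, conj_Wof_fix (mem_Cz.1 hc) x.1.2⟩
  have hf : Function.Injective f := fun x y e =>
    Subtype.ext (Subtype.ext (mul_left_cancel (mul_right_cancel (congrArg Subtype.val e))))
  have h4 := Nat.card_le_card_of_injective f hf
  rw [hP, hk'] at h4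
  rw [hk']
  rcases Nat.eq_or_lt_of_le hk with e | e
  · rw [e]; norm_num
  · have : 2 ^ k ≤ 2 ^ 2 := Nat.pow_le_pow_right (by norm_num) (by omega)
    omega

theorem sq_of_two {x : G} (hx : x ∈ Ee t S) : x * x = 1 := by
  obtain ⟨ι, hd⟩ := h.dec (Cl.refl t)
  obtain ⟨k, hk⟩ := h.two_group_E ⟨x, hx⟩
  have hk' : x ^ 2 ^ k = 1 := congrArg Subtype.val hk
  have key : ∀ (a) (k : ℕ), (ι a) ^ 2 ^ k = 1 → a * a = 1 := by
    intro a k ha
    rw [← map_pow, ← map_one ι] at ha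
    have ha' := hd.inj ha
    obtain ⟨i, -, hi⟩ := (Nat.dvd_prime_pow Nat.prime_two).1 (orderOf_dvd_of_pow_eq_one ha')
    have hi3 : i ≤ 3 := by
      by_contra hlt
      exact AltCommCent91.small_five.ndvd
        ((Nat.pow_dvd_pow 2 (show 3 ≤ i by omega)).trans (hi ▸ orderOf_dvd_natCard _))
    exact AltCommCent91.small_five.pow8 a (orderOf_dvd_iff_pow_eq_one.1 (hi ▸ Nat.pow_dvd_pow 2 hi3))
  obtain ⟨a, rfl | rfl⟩ := hd.split x hx.2
  · rw [← map_mul, key a k hk', map_one]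
  · have hc : Commute t (ι a) := (hd.comm a).symm
    have : (ι a) ^ 2 ^ (k + 1) = 1 := by
      have h1 : ((t * ι a) ^ 2) ^ 2 ^ k = 1 := by rw [← pow_mul, mul_comm, pow_mul, hk', one_pow]
      rwa [hc.mul_pow, pow_two t, h.sq, one_mul, ← pow_mul, ← pow_succ'] at h1
    have h2 : a * a = 1 := key a (k + 1) this
    rw [show t * ι a * (t * ι a) = t * (ι a * t) * ι a by group, hd.comm, show t * (t * ι a) * ι a =
      t * t * (ι a * ι a) by group, h.sq, one_mul, ← map_mul, h2, map_one]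

theorem E_comm {x y : G} (hx : x ∈ Ee t S) (hy : y ∈ Ee t S) : x * y = y * x := by
  have a := h.sq_of_two hx
  have b := h.sq_of_two hy
  have c := h.sq_of_two (Subgroup.mul_mem _ hx hy)
  calc x * y = x * (x * y * (x * y)) * y := by rw [c, mul_one]
    _ = x * x * (y * x) * (y * y) := by group
    _ = y * x := by rw [a, b, one_mul, mul_one]

theorem t_mem_E : t ∈ Ee t S := ⟨h.mem, mem_Wof (Cl.refl t) rfl⟩

theorem cl_S {x : G} (hx : Cl t x) (hxS : x ∈ (S : Subgroup G)) : x ∈ Ee t S := ⟨hxS, mem_Wof hx (h.cen x hxS)⟩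

/-- The local frame at an element of the Sylow subgroup. -/
structure Frame (t : G) (S : Sylow 2 G) (s : G) (ι : A5 →* G) (a b x : A5) : Prop where
  dec : Dec t s ι
  four : Four a b
  xa : x * a * x⁻¹ = b
  xb : x * b * x⁻¹ = a * b
  memE : ∀ y, y ∈ Ee t S ↔ ∃ v, InFour a b v ∧ (y = ι v ∨ y = s * ι v)

theorem frame {s : G} (hsE : s ∈ Ee t S) (hs : Cl t s) (hle : Ee t S ≤ Wof t s) :
    ∃ (ι : A5 →* G) (a b x : A5), Frame t S s ι a b x := by
  obtain ⟨ι, hd⟩ := h.dec hs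
  let V : Subgroup A5 := (Ee t S).comap ι
  have hcard : 4 ≤ Nat.card V := by
    let f : Bool × V → G := fun p => (if p.1 then s else 1) * ι p.2
    have hsub : (Ee t S : Set G) ⊆ Set.range f := by
      intro y hy
      obtain ⟨v, e | e⟩ := hd.split y (hle hy)
      · exact ⟨(false, ⟨v, show ι v ∈ Ee t S from e ▸ hy⟩), by simp [f, e]⟩
      · refine ⟨(true, ⟨v, ?_⟩), by simp [f, e]⟩
        show ι v ∈ Ee t S
        have := Subgroup.mul_mem _ (Subgroup.inv_mem _ hsE) hy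
        rwa [e, inv_mul_cancel_left] at this
    have h1 := Nat.card_mono (Set.finite_range f) hsub
    have h2 := Finite.card_range_le f
    rw [Nat.card_prod, show Nat.card Bool = 2 by simp] at h2
    have h3 : Nat.card (Ee t S : Set G) = 8 := h.card_E
    omega
  obtain ⟨a, ha, ha1, b, hb, hb1, hba⟩ : ∃ a ∈ V, a ≠ 1 ∧ ∃ b ∈ V, b ≠ 1 ∧ b ≠ a := by
    obtain ⟨a, ha⟩ : ∃ a : V, a ≠ 1 := by
      by_contra! hne
      have : Subsingleton V := ⟨fun p q => by rw [hne p, hne q]⟩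
      have := Nat.card_unique (α := V)
      omega
    obtain ⟨b, hb1, hb2⟩ : ∃ b : V, b ≠ 1 ∧ b ≠ a := by
      by_contra! hne
      have hs : Function.Surjective (fun p : Bool => if p then a else (1 : V)) := fun b => by
        by_cases hb : b = 1
        · exact ⟨false, by simp [hb]⟩
        · exact ⟨true, by simp [hne b hb]⟩
      have := Nat.card_le_card_of_surjective _ hs
      simp at this
      omega
    exact ⟨a, a.2, fun e => ha (Subtype.ext e), b, b.2, fun e => hb1 (Subtype.ext e), fun e => hb2 (Subtype.ext e)⟩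
  have hV2 : ∀ {v : A5}, v ∈ V → v * v = 1 := fun {v} hv => hd.inj (by
    rw [map_mul, map_one]; exact h.sq_of_two hv)
  have hVc : ∀ {v w : A5}, v ∈ V → w ∈ V → v * w = w * v := fun {v w} hv hw => hd.inj (by
    rw [map_mul, map_mul]; exact h.E_comm hv hw)
  have h4 : Four a b := ⟨hV2 ha, hV2 hb, ha1, hb1, hba.symm, hVc ha hb⟩
  obtain ⟨c, hc⟩ := four_canon a h4.a2 h4.a1 b h4.b2 h4.b1 h4.ne h4.comm
  obtain ⟨x1, x2, x3⟩ := x0_conj
  obtain ⟨x, hxa, hxb⟩ : ∃ x, x * a * x⁻¹ = b ∧ x * b * x⁻¹ = a * b := by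
    rcases hc with ⟨h1, h2⟩ | ⟨h1, h2⟩
    · refine ⟨c * x0 * c⁻¹, ?_, ?_⟩
      · rw [← h1, ← h2, ← x1]; group
      · rw [← h2, ← h1, show c * a0 * c⁻¹ * (c * b0 * c⁻¹) = c * (a0 * b0) * c⁻¹ by group, ← x2]; group
    · refine ⟨c * x0⁻¹ * c⁻¹, ?_, ?_⟩
      · have : x0⁻¹ * b0 * x0 = a0 := by rw [← x1]; group
        rw [← h1, ← h2, ← this]; group
      · have : x0⁻¹ * a0 * x0 = b0 * a0 := by decide +kernel
        rw [← h1, ← h2, show c * b0 * c⁻¹ * (c * a0 * c⁻¹) = c * (b0 * a0) * c⁻¹ by group, ← this]; group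
  refine ⟨ι, a, b, x, hd, h4, hxa, hxb, fun y => ⟨fun hy => ?_, ?_⟩⟩
  · obtain ⟨v, e | e⟩ := hd.split y (hle hy)
    · have hv : v ∈ V := show ι v ∈ Ee t S by rwa [← e]
      exact ⟨v, four_cent h4 (hVc hv ha) (hVc hv hb), Or.inl e⟩
    · have hv : v ∈ V := by
        have := Subgroup.mul_mem _ (Subgroup.inv_mem _ hsE) hy
        rwa [e, inv_mul_cancel_left] at this
      exact ⟨v, four_cent h4 (hVc hv ha) (hVc hv hb), Or.inr e⟩
  · rintro ⟨v, hv, hy⟩
    have hvV : v ∈ V := by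
      rcases hv with rfl | rfl | rfl | rfl
      exacts [V.one_mem, ha, hb, V.mul_mem ha hb]
    rcases hy with rfl | rfl
    exacts [hvV, Subgroup.mul_mem _ hsE hvV]

end Hyp

end Cfsg.Agent.J1WeakClosure91
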