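import Cfsg.Agent.Lib.J1WeakClosure91Quot
import Cfsg.Agent.Lib.J1WeakClosure91Arith

/-!
The normalizer of the join is the whole group.
-/

set_option autoImplicit false
set_option linter.unusedSectionVars false

namespace Cfsg.Agent.J1WeakClosure91

open Cfsg.Agent.SignalizerStrongEmb (involution_mul_self involution_ne_one involution_inv orderOf_conj orderOf_eq_two_of_mul_self exists_conj_of_odd)

variable {G : Type*} [Group G]

namespace Hyp

variable [Finite G] {t : G} {S : Sylow 2 G} (h : Hyp t S)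
include h

/-- An element of `K` inverted by an outer conjugate and a product of two outer conjugates is trivial. -/
theorem k_trivial {x₁ x₂ k : G} (h1 : Cl t x₁) (h1M : x₁ ∉ Mw t S) (h2 : Cl t x₂) (hk : k ∈ Kw t S)
    (hx : k = x₂ * x₁) : k = 1 := by
  by_contra hk1
  have hx1 := h.cl_sq h1
  have hx2 := h.cl_sq h2
  have i1 : x₁⁻¹ = x₁ := inv_eq_of_mul_eq_one_left hx1
  have i2 : x₂⁻¹ = x₂ := inv_eq_of_mul_eq_one_left hx2
  have hinv : x₁ * k * x₁⁻¹ = k⁻¹ := by rw [hx, mul_inv_rev, i1, i2, mul_assoc x₁, mul_assoc x₂, hx1, mul_one]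
  have hkt : k * t = t * k := h.K_comm hk h.t_mem_Y
  let N : Subgroup G :=
    { carrier := {g | g * k * g⁻¹ = k ∨ g * k * g⁻¹ = k⁻¹}
      one_mem' := Or.inl (by group)
      mul_mem' := by
        intro a b ha hb
        simp only [Set.mem_setOf_eq] at ha hb ⊢
        rw [show a * b * k * (a * b)⁻¹ = a * (b * k * b⁻¹) * a⁻¹ by group]
        rcases hb with e | e
        · rw [e]; exact ha
        · rw [e, ← conj_inv]
          rcases ha with e' | e'
          · exact Or.inr (by rw [e'])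
          · exact Or.inl (by rw [e', inv_inv])
      inv_mem' := by
        intro a ha
        simp only [Set.mem_setOf_eq] at ha ⊢
        rcases ha with e | e
        · refine Or.inl ?_
          calc a⁻¹ * k * a⁻¹⁻¹ = a⁻¹ * (a * k * a⁻¹) * a := by rw [e, inv_inv]
            _ = k := by group
        · refine Or.inr ?_
          have e' : a * k⁻¹ * a⁻¹ = k := by rw [← conj_inv, e, inv_inv]
          calc a⁻¹ * k * a⁻¹⁻¹ = a⁻¹ * (a * k⁻¹ * a⁻¹) * a := by rw [e']; group
            _ = k⁻¹ := by group }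
  obtain ⟨w, hw, hwt⟩ := exists_conj_of_odd h.ord (h.cl_ord h1) (h.odd_of (Cl.refl t) (h.S_le_M h.mem) h1 h1M)
  have hwN : w ∈ N := Subgroup.zpowers_le.2 (show t * x₁ ∈ N from Or.inr (by
    calc t * x₁ * k * (t * x₁)⁻¹ = t * (x₁ * k * x₁⁻¹) * t⁻¹ := by group
      _ = k⁻¹ := by rw [hinv, ← conj_inv, ← hkt, mul_inv_cancel_right])) hw
  have hfix : x₁ * k * x₁⁻¹ = k := by
    rw [← hwt]
    rcases (N.inv_mem hwN : w⁻¹ * k * w⁻¹⁻¹ = k ∨ w⁻¹ * k * w⁻¹⁻¹ = k⁻¹) with e | e <;> rw [inv_inv] at e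
    · calc w * t * w⁻¹ * k * (w * t * w⁻¹)⁻¹ = w * (t * (w⁻¹ * k * w) * t⁻¹) * w⁻¹ := by group
        _ = w * k * w⁻¹ := by rw [e, ← hkt, mul_inv_cancel_right]
        _ = k := by
          have : k = w * (w⁻¹ * k * w) * w⁻¹ := by group
          rw [e] at this; exact this.symm
    · calc w * t * w⁻¹ * k * (w * t * w⁻¹)⁻¹ = w * (t * (w⁻¹ * k * w) * t⁻¹) * w⁻¹ := by group
        _ = w * k⁻¹ * w⁻¹ := by rw [e, ← conj_inv, ← hkt, mul_inv_cancel_right]
        _ = k := by
          have : k = w * (w⁻¹ * k * w) * w⁻¹ := by group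
          rw [e] at this; exact this.symm
  have hk2 : k⁻¹ = k := hinv.symm.trans hfix
  have hkk : k * k = 1 := by nth_rw 1 [← hk2]; exact inv_mul_cancel k
  have hcomm : x₂ * x₁ = x₁ * x₂ := by
    have := hk2
    rw [hx, mul_inv_rev, i1, i2] at this
    exact this.symm
  have hkW : k ∈ Wof t x₁ := hx ▸ Subgroup.mul_mem _ (mem_Wof h2 hcomm) (mem_Wof h1 rfl)
  have hkc := h.inv_Wof_cl h1 hkW (orderOf_eq_two_of_mul_self hkk hk1)
  exact hk1 (h.Wof_inf_K h.t_mem_E h.t_ne (mem_Wof hkc hkt) hk)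

/-- A subgroup of the Sylow group normalized by an outer conjugate lies in `K`. -/
theorem le_K_of_inv {u : G} (hu : Cl t u) (huM : u ∉ Mw t S) {R : Subgroup G} (hR : R ≤ (S : Subgroup G))
    (hinv : ∀ r ∈ R, u * r * u⁻¹ ∈ R) : R ≤ Kw t S := by
  intro r₀ hr₀
  by_contra hr₀K
  have huu : u * u = 1 := h.cl_sq hu
  have huinv : u⁻¹ = u := inv_eq_of_mul_eq_one_left huu
  -- choose an invariant subgroup with cyclic projection
  obtain ⟨r, hr, hrK, R₁, hR₁, hR₁inv, hrR₁, hR₁gen⟩ : ∃ r ∈ R, r ∉ Kw t S ∧ ∃ R₁ ≤ R,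
      (∀ x ∈ R₁, u * x * u⁻¹ ∈ R₁) ∧ r ∈ R₁ ∧ R₁ ≤ Subgroup.closure ({r} ∪ (Kw t S : Set G)) := by
    by_cases hc : ∃ x ∈ R, x * (u * x⁻¹ * u⁻¹) ∉ Kw t S
    · obtain ⟨x, hx, hxK⟩ := hc
      set c := x * (u * x⁻¹ * u⁻¹) with hc
      have hcR : c ∈ R := R.mul_mem hx (hinv _ (R.inv_mem hx))
      have hci : u * c * u⁻¹ = c⁻¹ := by
        rw [hc, huinv]
        calc u * (x * (u * x⁻¹ * u)) * u = (u * x * u) * x⁻¹ * (u * u) := by group
          _ = _ := by rw [huu, mul_one, mul_inv_rev, mul_inv_rev, mul_inv_rev, inv_inv, huinv, ← mul_assoc u x u]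
      refine ⟨c, hcR, hxK, Subgroup.zpowers c, Subgroup.zpowers_le.2 hcR, ?_, Subgroup.mem_zpowers c,
        Subgroup.zpowers_le.2 (Subgroup.subset_closure (Or.inl rfl))⟩
      intro y hy
      obtain ⟨i, rfl⟩ := Subgroup.mem_zpowers_iff.1 hy
      rw [← conj_zpow, hci]
      exact Subgroup.zpow_mem _ (Subgroup.inv_mem _ (Subgroup.mem_zpowers c)) i
    · push Not at hc
      refine ⟨r₀, hr₀, hr₀K, Subgroup.closure ({r₀} ∪ ((R : Set G) ∩ Kw t S)), ?_, ?_,
        Subgroup.subset_closure (Or.inl rfl), Subgroup.closure_mono (Set.union_subset_union_right _ Set.inter_subset_right)⟩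
      · rw [Subgroup.closure_le]
        rintro x (rfl | ⟨hx, -⟩)
        exacts [hr₀, hx]
      · intro x hx
        have hle : Subgroup.closure ({r₀} ∪ ((R : Set G) ∩ Kw t S)) ≤
            (Subgroup.closure ({r₀} ∪ ((R : Set G) ∩ Kw t S))).comap (MulAut.conj u).toMonoidHom := by
          refine (Subgroup.closure_le _).2 ?_
          intro y hy
          show u * y * u⁻¹ ∈ Subgroup.closure ({r₀} ∪ ((R : Set G) ∩ Kw t S))
          have hyR : y ∈ R := by
            rcases hy with rfl | ⟨hy, -⟩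
            exacts [hr₀, hy]
          have hk := hc y hyR
          set k := y * (u * y⁻¹ * u⁻¹) with hkdef
          have e : u * y * u⁻¹ = k⁻¹ * y := by rw [hkdef]; group
          rw [e]
          refine Subgroup.mul_mem _ (Subgroup.inv_mem _ (Subgroup.subset_closure (Or.inr ⟨?_, hk⟩)))
            (Subgroup.subset_closure hy)
          exact R.mul_mem hyR (hinv _ (R.inv_mem hyR))
        exact hle hx
  obtain ⟨e, he, hek⟩ := h.S_ek (hR hr)
  have he1 : e ≠ 1 := fun e0 => hrK (by rwa [e0, one_mul] at hek)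
  -- products of a power of `e` and a member of `K`
  let P : Subgroup G :=
    { carrier := {x | x ∈ Kw t S ∨ e * x ∈ Kw t S}
      one_mem' := Or.inl (Subgroup.one_mem _)
      mul_mem' := by
        intro a b ha hb
        simp only [Set.mem_setOf_eq] at ha hb ⊢
        rcases ha with ha | ha <;> rcases hb with hb | hb
        · exact Or.inl (Subgroup.mul_mem _ ha hb)
        · refine Or.inr ?_
          rw [show e * (a * b) = (e * a * e⁻¹) * (e * b) by group, ← h.K_comm ha (h.E_le_Y he), mul_inv_cancel_right]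
          exact Subgroup.mul_mem _ ha hb
        · exact Or.inr (by rw [← mul_assoc]; exact Subgroup.mul_mem _ ha hb)
        · refine Or.inl ?_
          have hc : e * a * e = e * (e * a) := (h.K_comm ha (h.E_le_Y he))
          have : a * b = (e * a) * (e * b) := by
            calc a * b = (e * e) * a * b := by rw [h.sq_of_two he, one_mul]
              _ = e * (e * a) * b := by group
              _ = e * a * e * b := by rw [hc]
              _ = _ := by group
          rw [this]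
          exact Subgroup.mul_mem _ ha hb
      inv_mem' := by
        intro a ha
        simp only [Set.mem_setOf_eq] at ha ⊢
        refine ha.imp (fun ha => Subgroup.inv_mem _ ha) fun ha => ?_
        have hc := h.K_comm (Subgroup.inv_mem _ ha) (h.E_le_Y he)
        have hee := h.sq_of_two he
        have : e * a⁻¹ = (e * a)⁻¹ := by
          calc e * a⁻¹ = e * ((e * a)⁻¹ * e) := by group
            _ = e * (e * (e * a)⁻¹) := by rw [hc]
            _ = (e * e) * (e * a)⁻¹ := by group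
            _ = _ := by rw [hee, one_mul]
        rw [this]
        exact Subgroup.inv_mem _ ha }
  have hR₁P : R₁ ≤ P := hR₁gen.trans ((Subgroup.closure_le _).2 (by
    rintro x (rfl | hx)
    exacts [Or.inr hek, Or.inl hx]))
  set H := Subgroup.normalizer (R₁ : Set G) with hH
  have hEH : Ee t S ≤ H := fun z hz => mem_normalizer_of_forall fun x hx => by
    rw [← h.ek_mem (h.S_ek (hR (hR₁ hx))) z hz, mul_inv_cancel_right]
    exact hx
  have huH : u ∈ H := mem_normalizer_of_forall hR₁inv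
  have hfix : ∀ n ∈ H, n ∈ NE t S → n * e * n⁻¹ = e := by
    intro n hn hnE
    have hmem : n * r * n⁻¹ ∈ P := hR₁P (conj_mem_normalizer hn hrR₁)
    have hk : n * (e * r) * n⁻¹ ∈ Kw t S := h.K_conj (h.NE_le_M hnE) hek
    have hne : n * e * n⁻¹ ∈ Ee t S := conj_mem_normalizer hnE he
    rcases hmem with hm | hm
    · exfalso
      refine he1 (conj_eq_one_iff.1 (h.E_inf_K hne ?_))
      rw [show n * e * n⁻¹ = (n * (e * r) * n⁻¹) * (n * r * n⁻¹)⁻¹ by group]
      exact Subgroup.mul_mem _ hk (Subgroup.inv_mem _ hm)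
    · have := h.E_inf_K (Subgroup.mul_mem _ hne (Subgroup.inv_mem _ he)) (by
        rw [show n * e * n⁻¹ * e⁻¹ = (n * (e * r) * n⁻¹) * (e * (n * r * n⁻¹))⁻¹ by group]
        exact Subgroup.mul_mem _ hk (Subgroup.inv_mem _ hm))
      exact mul_inv_eq_one.1 this
  -- every member of the seven is conjugate to `u` in `H`
  have hconj : ∀ s ∈ Ee t S, s ≠ 1 → ∃ w ∈ H, w * s * w⁻¹ = u := by
    intro s hs hs1
    have hcl := h.all_cl hs hs1
    obtain ⟨w, hw, hwe⟩ := exists_conj_of_odd (h.cl_ord hcl) (h.cl_ord hu)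
      (h.odd_of hcl (h.Y_le_M (h.E_le_Y hs)) hu huM)
    exact ⟨w, Subgroup.zpowers_le.2 (Subgroup.mul_mem _ (hEH hs) huH) hw, hwe⟩
  obtain ⟨ι, a, b, x, hF⟩ := h.frameOf he he1
  have hsE : ι a ∈ Ee t S := (hF.memE _).2 ⟨a, Or.inr (Or.inl rfl), Or.inl rfl⟩
  obtain ⟨w₁, hw₁, e₁⟩ := hconj e he he1
  obtain ⟨w₂, hw₂, e₂⟩ := hconj (ι a) hsE (fun e0 => hF.four.a1 (hF.dec.inj (by rw [e0, map_one])))
  obtain ⟨n, hn, hnE, hne⟩ := h.fuseE hEH (Subgroup.mul_mem _ (Subgroup.inv_mem _ hw₂) hw₁) he hsE (by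
    calc w₂⁻¹ * w₁ * e * (w₂⁻¹ * w₁)⁻¹ = w₂⁻¹ * (w₁ * e * w₁⁻¹) * w₂ := by group
      _ = ι a := by rw [e₁, ← e₂]; group)
  exact hF.dec.not_mem a ((hfix n hn hnE).symm.trans hne).symm

theorem M_eq_top : Mw t S = ⊤ := by
  classical
  have hf2 : Fact (Nat.Prime 2) := ⟨Nat.prime_two⟩
  by_contra hne
  have : Fintype G := Fintype.ofFinite G
  have : Fintype (G ⧸ Mw t S) := Fintype.ofFinite _
  set A := Finset.univ.filter fun x : G => Cl t x ∧ x ∉ Mw t S with hA
  set B := Finset.univ.filter fun c : G ⧸ Mw t S => c ≠ ((1 : G) : G ⧸ Mw t S) with hB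
  have hidx : 1 < (Mw t S).index := by
    have h0 := (Mw t S).index_ne_zero_of_finite
    have h1 : (Mw t S).index ≠ 1 := fun e => hne (Subgroup.index_eq_one.1 e)
    omega
  have hcl : (Finset.univ.filter fun x : G => Cl t x).card = 1463 * (Mw t S).index := by
    have h1 := Subgroup.relIndex_mul_index (h.Cz_le_M h.t_mem_E h.t_ne)
    rw [h.relIndex_Cz] at h1
    rw [h1, ← Fintype.card_subtype, ← Nat.card_eq_fintype_card, ← Subgroup.relIndex_top_right, ← orbit_card ⊤ t]
    exact Nat.card_congr (Equiv.subtypeEquivRight fun x => by simp [Cl])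
  have hclM : (Finset.univ.filter fun x : G => Cl t x ∧ x ∈ Mw t S).card = 1463 := by
    rw [← Fintype.card_subtype, ← Nat.card_eq_fintype_card, h.card_cl_M, h.relIndex_Cz]
  have hAc : A.card = 1463 * ((Mw t S).index - 1) := by
    have := Finset.card_filter_add_card_filter_not (s := Finset.univ.filter fun x : G => Cl t x)
      (p := fun x => x ∈ Mw t S)
    rw [Finset.filter_filter, Finset.filter_filter, hcl, hclM] at this
    rw [Nat.mul_sub, mul_one, hA]
    omega
  have hBc : B.card = (Mw t S).index - 1 := by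
    rw [hB, Finset.filter_ne', Finset.card_erase_of_mem (Finset.mem_univ _), Finset.card_univ,
      ← Nat.card_eq_fintype_card, ← Subgroup.index_eq_card]
  obtain ⟨c, hcB, hc⟩ := Finset.exists_le_card_fiber_of_mul_le_card_of_maps_to
    (f := fun x : G => (QuotientGroup.mk x : G ⧸ Mw t S)) (s := A) (t := B) (n := 1463) (by
      intro x hx
      simp only [hA, Finset.mem_filter, Finset.mem_univ, true_and] at hx
      simp only [hB, Finset.mem_filter, Finset.mem_univ, true_and, ne_eq, QuotientGroup.eq, mul_one, inv_mem_iff]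
      exact hx.2) (by rw [← Finset.card_pos, hBc]; omega) (by rw [hAc, hBc, mul_comm])
  set F := A.filter fun x : G => (QuotientGroup.mk x : G ⧸ Mw t S) = c
  obtain ⟨u, huF⟩ := Finset.card_pos.1 (show 0 < F.card by omega)
  simp only [F, hA, Finset.mem_filter, Finset.mem_univ, true_and] at huF
  obtain ⟨⟨hu, huM⟩, huc⟩ := huF
  have huu : u * u = 1 := h.cl_sq hu
  have huinv : u⁻¹ = u := inv_eq_of_mul_eq_one_left huu
  let D : Subgroup G := Mw t S ⊓ (Mw t S).comap (MulAut.conj u).toMonoidHom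
  have memD : ∀ {d}, d ∈ D ↔ d ∈ Mw t S ∧ u * d * u⁻¹ ∈ Mw t S := fun {d} => Iff.rfl
  have hDu : ∀ d ∈ D, u * d * u⁻¹ ∈ D := fun d hd => memD.2 ⟨(memD.1 hd).2, by
    rw [show u * (u * d * u⁻¹) * u⁻¹ = (u * u) * d * (u * u)⁻¹ by group, huu, inv_one, one_mul, mul_one]
    exact (memD.1 hd).1⟩
  have hmem : ∀ x, x ∈ F → Cl t x ∧ x ∉ Mw t S ∧ u * x ∈ D := by
    intro x hx
    simp only [F, hA, Finset.mem_filter, Finset.mem_univ, true_and] at hx
    obtain ⟨⟨hxc, hxM⟩, hxe⟩ := hx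
    have h1 := QuotientGroup.eq.1 (huc.trans hxe.symm)
    rw [huinv] at h1
    refine ⟨hxc, hxM, memD.2 ⟨h1, ?_⟩⟩
    have h2 := (Mw t S).inv_mem h1
    rw [mul_inv_rev, huinv, inv_eq_of_mul_eq_one_left (h.cl_sq hxc)] at h2
    rwa [← mul_assoc u u x, huu, one_mul, huinv]
  obtain ⟨f, hf, hker⟩ := h.quot_iso
  let fD : D →* Cfsg.Spor.J1 := f.comp (Subgroup.inclusion inf_le_left)
  have hbig : 1463 ≤ Nat.card fD.range := by
    refine hc.trans ?_
    rw [← Nat.card_eq_finsetCard]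
    refine Nat.card_le_card_of_injective (fun x : F => (⟨fD ⟨u * x, (hmem x x.2).2.2⟩, ⟨_, rfl⟩⟩ : fD.range)) ?_
    rintro ⟨x₁, hx₁⟩ ⟨x₂, hx₂⟩ e
    have e1 : fD ⟨u * x₁, (hmem x₁ hx₁).2.2⟩ = fD ⟨u * x₂, (hmem x₂ hx₂).2.2⟩ := congrArg Subtype.val e
    rw [← inv_mul_eq_one, ← map_inv, ← map_mul] at e1
    have hk : (u * x₁)⁻¹ * (u * x₂) ∈ Kw t S := (hker _).1 e1
    rw [mul_inv_rev, inv_eq_of_mul_eq_one_left (h.cl_sq (hmem x₁ hx₁).1), huinv, mul_assoc, ← mul_assoc u u, huu,
      one_mul] at hk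
    have h1 := h.k_trivial (hmem x₂ hx₂).1 (hmem x₂ hx₂).2.1 (hmem x₁ hx₁).1 hk rfl
    have h2 : x₁ = x₂⁻¹ := eq_inv_of_mul_eq_one_left h1
    rw [inv_eq_of_mul_eq_one_left (h.cl_sq (hmem x₂ hx₂).1)] at h2
    exact Subtype.ext h2
  refine no_big_odd fD.range (Nat.not_even_iff_odd.1 fun hev => ?_) hbig
  obtain ⟨q, hq, hq2⟩ := SignalizerStrongEmb.exists_involution_of_even hev
  obtain ⟨d, rfl⟩ := hq
  obtain ⟨i, m, hm, hdm⟩ := Nat.exists_eq_two_pow_mul_odd (orderOf_pos d).ne'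
  set r := d ^ m with hr
  have hr2 : r ^ 2 ^ i = 1 := by rw [hr, ← pow_mul, mul_comm, ← hdm, pow_orderOf_eq_one]
  have hrK : (r : G) ∉ Kw t S := by
    intro hk
    have h1 : fD r = 1 := (hker _).2 hk
    rw [hr, map_pow] at h1
    have := orderOf_dvd_of_pow_eq_one h1
    rw [hq2] at this
    exact (Nat.not_even_iff_odd.2 hm) (even_iff_two_dvd.2 this)
  -- a Sylow subgroup normalized by `u`
  let C : Subgroup G := D ⊔ Subgroup.zpowers u
  have hCD : ∀ c ∈ C, ∀ d ∈ D, c * d * c⁻¹ ∈ D := by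
    have hle : C ≤ Subgroup.normalizer (D : Set G) := sup_le Subgroup.le_normalizer
      (Subgroup.zpowers_le.2 (mem_normalizer_of_forall hDu))
    exact fun c hc d hd => conj_mem_normalizer (hle hc) hd
  have pr : IsPGroup 2 (Subgroup.zpowers (r : G)) := by
    refine IsPGroup.of_card (n := Nat.log 2 (Nat.card (Subgroup.zpowers (r : G)))) ?_
    have h1 : orderOf (r : G) ∣ 2 ^ i := orderOf_dvd_of_pow_eq_one (by rw [← Subgroup.coe_pow, hr2, Subgroup.coe_one])
    obtain ⟨j, -, hj⟩ := (Nat.dvd_prime_pow Nat.prime_two).1 h1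
    rw [Nat.card_zpowers, hj, Nat.log_pow (by norm_num)]
  obtain ⟨c, hcC, P, hPC, pP, huP, hrP⟩ := exists_conj_common (C := C) (A := Subgroup.zpowers u)
    (B := Subgroup.zpowers (r : G)) le_sup_right ((Subgroup.zpowers_le.2 r.2).trans le_sup_left)
    (isPGroup_zpowers_two (h.cl_ord hu)) pr
  -- conjugate back inside `D`, keeping an outer conjugate normalizing
  set u' := c⁻¹ * u * c with hu'
  have hr' : ∀ z ∈ Subgroup.zpowers (r : G), c * z * c⁻¹ ∈ P := hrP
  let R₂ : Subgroup G := D ⊓ P.comap (MulAut.conj c).toMonoidHom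
  have memR₂ : ∀ {z}, z ∈ R₂ ↔ z ∈ D ∧ c * z * c⁻¹ ∈ P := fun {z} => Iff.rfl
  have hu'D : ∀ z ∈ D, u' * z * u'⁻¹ ∈ D := fun z hz =>
    hCD u' (C.mul_mem (C.mul_mem (C.inv_mem hcC) (Subgroup.mem_sup_right (Subgroup.mem_zpowers u))) hcC) z hz
  have hu'R : ∀ z ∈ R₂, u' * z * u'⁻¹ ∈ R₂ := fun z hz => memR₂.2 ⟨hu'D z (memR₂.1 hz).1, by
    rw [show c * (u' * z * u'⁻¹) * c⁻¹ = u * (c * z * c⁻¹) * u⁻¹ by rw [hu']; group]
    exact P.mul_mem (P.mul_mem (huP (Subgroup.mem_zpowers u)) (memR₂.1 hz).2) (P.inv_mem (huP (Subgroup.mem_zpowers u)))⟩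
  have hu'cl : Cl t u' := by
    have := hu.conj c⁻¹
    rwa [inv_inv] at this
  have hu'M : u' ∉ Mw t S := by
    intro hM
    have hDM : ∀ z ∈ D, z ∈ Mw t S := fun z hz => (memD.1 hz).1
    -- `u'` is congruent to `u` modulo `D`
    have hcong : ∀ c ∈ C, u * (c⁻¹ * u * c) ∈ D := by
      intro c hc
      have hCsup : C ≤ ({ carrier := {c | u * c * u⁻¹ * c⁻¹ ∈ D ∧ ∀ d ∈ D, c * d * c⁻¹ ∈ D ∧ c⁻¹ * d * c ∈ D}
                          one_mem' := by
                            refine ⟨by simp, fun d hd => by simp [hd]⟩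
                          mul_mem' := by
                            rintro a b ⟨ha, ha'⟩ ⟨hb, hb'⟩
                            refine ⟨?_, fun d hd => ⟨?_, ?_⟩⟩
                            · rw [show u * (a * b) * u⁻¹ * (a * b)⁻¹ = (u * a * u⁻¹ * a⁻¹) * (a * (u * b * u⁻¹ * b⁻¹) * a⁻¹) by group]
                              exact D.mul_mem ha (ha' _ hb).1
                            · rw [show a * b * d * (a * b)⁻¹ = a * (b * d * b⁻¹) * a⁻¹ by group]
                              exact (ha' _ (hb' d hd).1).1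
                            · rw [show (a * b)⁻¹ * d * (a * b) = b⁻¹ * (a⁻¹ * d * a) * b by group]
                              exact (hb' _ (ha' d hd).2).2
                          inv_mem' := by
                            rintro a ⟨ha, ha'⟩
                            refine ⟨?_, fun d hd => ⟨?_, ?_⟩⟩
                            · rw [show u * a⁻¹ * u⁻¹ * a⁻¹⁻¹ = (a⁻¹ * (u * a * u⁻¹ * a⁻¹) * a)⁻¹ by group]
                              exact D.inv_mem (ha' _ ha).2
                            · rw [inv_inv]; exact (ha' d hd).2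
                            · rw [inv_inv]; exact (ha' d hd).1 } : Subgroup G) := by
        refine sup_le (fun d hd => ⟨D.mul_mem (hDu d hd) (D.inv_mem hd), fun e he =>
          ⟨D.mul_mem (D.mul_mem hd he) (D.inv_mem hd), D.mul_mem (D.mul_mem (D.inv_mem hd) he) hd⟩⟩)
          (Subgroup.zpowers_le.2 ⟨?_, fun e he => ⟨hDu e he, ?_⟩⟩)
        · rw [show u * u * u⁻¹ * u⁻¹ = 1 by group]; exact D.one_mem
        · have := hDu e he
          rw [huinv] at this ⊢
          exact this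
      obtain ⟨h1, h2⟩ := hCsup (C.inv_mem hc)
      have := D.inv_mem h1
      rw [inv_inv] at this h1
      rwa [huinv, show u * c⁻¹ * u * c = u * (c⁻¹ * u * c) by group] at h1
    have h1 := (memD.1 (hcong c hcC)).1
    have := Subgroup.mul_mem _ h1 (Subgroup.inv_mem _ hM)
    rw [hu', mul_inv_cancel_right] at this
    exact huM this
  -- conjugate into the Sylow subgroup
  have pR₂ : IsPGroup 2 R₂ :=
    (pP.comap_of_injective (MulAut.conj c).toMonoidHom (MulAut.conj c).injective).to_le inf_le_right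
  obtain ⟨g, hg, Q, -, pQ, hSQ, hRQ⟩ := exists_conj_common (A := (S : Subgroup G)) (B := R₂)
    h.S_le_M (inf_le_left.trans inf_le_left) S.2 pR₂
  have hQ := S.3 pQ hSQ
  have hrR₂ : (r : G) ∈ R₂ := memR₂.2 ⟨r.2, hr' _ (Subgroup.mem_zpowers _)⟩
  let R₃ := R₂.map (MulAut.conj g).toMonoidHom
  have hres := h.le_K_of_inv (u := g * u' * g⁻¹) (hu'cl.conj g) (fun hM => hu'M (by
      have := Subgroup.mul_mem _ (Subgroup.mul_mem _ (Subgroup.inv_mem _ hg) hM) hg
      rwa [show g⁻¹ * (g * u' * g⁻¹) * g = u' by group] at this))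
    (R := R₃) (by rintro _ ⟨z, hz, rfl⟩; exact hQ ▸ hRQ z hz)
    (by
      rintro _ ⟨z, hz, rfl⟩
      refine ⟨u' * z * u'⁻¹, hu'R z hz, ?_⟩
      show g * (u' * z * u'⁻¹) * g⁻¹ = g * u' * g⁻¹ * (g * z * g⁻¹) * (g * u' * g⁻¹)⁻¹
      group)
  have hgr : g * (r : G) * g⁻¹ ∈ Kw t S := hres ⟨(r : G), hrR₂, rfl⟩
  have := h.K_conj (Subgroup.inv_mem _ hg) hgr
  rw [show g⁻¹ * (g * (r : G) * g⁻¹) * g⁻¹⁻¹ = (r : G) by group] at this
  exact hrK this

end Hyp

end Cfsg.Agent.J1WeakClosure91
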