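import Cfsg.Agent.Lib.J1WeakClosure91Embed
import Cfsg.Agent.Lib.CentTwoAlt91
import Cfsg.Agent.Lib.J1Basic
import Cfsg.Agent.S1644

/-!
The quotient of the normalizer by `K` is the Janko group.
-/

set_option autoImplicit false
set_option linter.unusedSectionVars false

namespace Cfsg.Agent.J1WeakClosure91

open Cfsg.Agent.SignalizerStrongEmb (involution_mul_self involution_ne_one orderOf_conj orderOf_eq_two_of_mul_self)

variable {G : Type*} [Group G]

namespace Hyp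

variable [Finite G] {t : G} {S : Sylow 2 G} (h : Hyp t S)
include h

theorem card_cl_M :
    Nat.card {x // Cl t x ∧ x ∈ Mw t S} = (Cz t).relIndex (Mw t S) := by
  rw [← orbit_card]
  exact Nat.card_congr (Equiv.subtypeEquivRight fun x => ⟨fun ⟨hx, hxM⟩ => h.conj_M hx hxM,
    fun ⟨m, hm, e⟩ => ⟨⟨m, e⟩, e ▸ Subgroup.mul_mem _ (Subgroup.mul_mem _ hm (h.S_le_M h.mem)) (Subgroup.inv_mem _ hm)⟩⟩)

theorem card_Cz : Nat.card (Cz t) = 120 * Nat.card (Kw t S) := by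
  obtain ⟨ι, hd⟩ := h.dec (Cl.refl t)
  rw [← hd.card, ← Nat.card_prod]
  symm
  refine Nat.card_eq_of_bijective (fun p : Wof t t × Kw t S => (⟨(p.1 : G) * p.2, mem_Cz.2 ?_⟩ : Cz t)) ⟨?_, ?_⟩
  · rw [mul_assoc, h.K_comm p.2.2 h.t_mem_Y, ← mul_assoc, mem_Cz.1 (Wof_le_Cz t t p.1.2), mul_assoc]
  · rintro ⟨w, k⟩ ⟨w', k'⟩ e
    have e' : (w : G) * k = w' * k' := congrArg Subtype.val e
    have h1 : (w' : G)⁻¹ * w = k' * (k : G)⁻¹ := by
      calc (w' : G)⁻¹ * w = (w' : G)⁻¹ * ((w : G) * k) * (k : G)⁻¹ := by group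
        _ = _ := by rw [e']; group
    have h2 := h.Wof_inf_K h.t_mem_E h.t_ne (Subgroup.mul_mem _ (Subgroup.inv_mem _ w'.2) w.2)
      (h1 ▸ Subgroup.mul_mem _ k'.2 (Subgroup.inv_mem _ k.2))
    have h3 : (w : G) = w' := (inv_mul_eq_one.1 h2).symm
    rw [h3] at e'
    exact Prod.ext (Subtype.ext h3) (Subtype.ext (mul_left_cancel e'))
  · rintro ⟨c, hc⟩
    obtain ⟨w, hw, k, hk, rfl⟩ := h.Cz_eq h.t_mem_E h.t_ne (mem_Cz.1 hc)
    exact ⟨(⟨w, hw⟩, ⟨k, hk⟩), rfl⟩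

theorem K_normal : ((Kw t S).subgroupOf (Mw t S)).Normal :=
  ⟨fun k hk m => h.K_conj m.2 hk⟩

theorem quot_iso : ∃ f : ↥(Mw t S) →* Cfsg.Spor.J1, Function.Surjective f ∧ ∀ m, f m = 1 ↔ (m : G) ∈ Kw t S := by
  classical
  have hf2 : Fact (Nat.Prime 2) := ⟨Nat.prime_two⟩
  set K' := (Kw t S).subgroupOf (Mw t S) with hK'
  have hN : K'.Normal := h.K_normal
  let π : ↥(Mw t S) →* ↥(Mw t S) ⧸ K' := QuotientGroup.mk' K'
  have hπ : ∀ m, π m = 1 ↔ (m : G) ∈ Kw t S := fun m => QuotientGroup.eq_one_iff m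
  have hπs : Function.Surjective π := QuotientGroup.mk'_surjective _
  have hEM : Ee t S ≤ Mw t S := h.E_le_Y.trans h.Y_le_M
  have hWM : Wof t t ≤ Mw t S := (h.Wof_le_Y h.t_mem_E h.t_ne).trans h.Y_le_M
  let φ : Wof t t →* ↥(Mw t S) ⧸ K' := π.comp (Subgroup.inclusion hWM)
  have hφi : Function.Injective φ := (injective_iff_map_eq_one φ).2 fun w hw =>
    Subtype.ext (h.Wof_inf_K h.t_mem_E h.t_ne w.2 ((hπ _).1 hw))
  set t' : ↥(Mw t S) := ⟨t, h.S_le_M h.mem⟩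
  set T := π t' with hT
  have hT2 : orderOf T = 2 := by
    refine orderOf_eq_two_of_mul_self ?_ ?_
    · rw [hT, ← map_mul, show t' * t' = 1 from Subtype.ext h.sq, map_one]
    · intro e
      exact h.t_ne (h.E_inf_K h.t_mem_E ((hπ t').1 e))
  -- the centralizer
  have hcent : Subgroup.centralizer ({T} : Set (↥(Mw t S) ⧸ K')) = φ.range := by
    ext q
    obtain ⟨m, rfl⟩ := hπs q
    rw [Subgroup.mem_centralizer_singleton_iff]
    constructor
    · intro hq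
      rw [hT, ← map_mul, ← map_mul, ← inv_mul_eq_one, ← map_inv, ← map_mul, hπ] at hq
      have hk : ((m : G) * t)⁻¹ * (t * m) ∈ Kw t S := hq
      have hk2 := h.K_conj m.2 hk
      set x := (m : G) * t * (m : G)⁻¹ with hx
      have e : (m : G) * (((m : G) * t)⁻¹ * (t * m)) * (m : G)⁻¹ = x * t := by
        rw [hx, mul_inv_rev, SignalizerStrongEmb.involution_inv h.ord]; group
      rw [e] at hk2
      have hxt : x * t = t * x := by
        have := h.K_comm hk2 h.t_mem_Y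
        rw [mul_assoc x t t, h.sq, mul_one, ← mul_assoc] at this
        calc x * t = t * x * t * t := by rw [← this]
          _ = t * x := by rw [mul_assoc, h.sq, mul_one]
      have h1 := h.Wof_inf_K h.t_mem_E h.t_ne
        (Subgroup.mul_mem _ (mem_Wof ⟨(m : G), hx.symm⟩ hxt) (mem_Wof (Cl.refl t) rfl)) hk2
      have hmt : (m : G) * t = t * m := by
        have h2 : x = t := by rw [eq_inv_of_mul_eq_one_left h1, SignalizerStrongEmb.involution_inv h.ord]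
        rw [hx] at h2
        exact mul_inv_eq_iff_eq_mul.1 h2
      obtain ⟨w, hw, k, hk', e'⟩ := h.Cz_eq h.t_mem_E h.t_ne hmt
      refine ⟨⟨w, hw⟩, ?_⟩
      show π (Subgroup.inclusion hWM ⟨w, hw⟩) = π m
      rw [← inv_mul_eq_one, ← map_inv, ← map_mul, hπ]
      show w⁻¹ * (m : G) ∈ Kw t S
      rwa [e', inv_mul_cancel_left]
    · rintro ⟨w, hw⟩
      rw [← hw, hT]
      show π (Subgroup.inclusion hWM w) * π t' = π t' * π (Subgroup.inclusion hWM w)
      rw [← map_mul, ← map_mul]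
      exact congrArg π (Subtype.ext (mem_Cz.1 (Wof_le_Cz t t w.2)))
  -- the Sylow subgroup
  let E' : Subgroup (↥(Mw t S) ⧸ K') := ((Ee t S).subgroupOf (Mw t S)).map π
  let P := Sylow.mapSurjective hπs (S.subtype h.S_le_M)
  have hP : (P : Subgroup (↥(Mw t S) ⧸ K')) = E' := by
    show ((S.subtype h.S_le_M : Sylow 2 ↥(Mw t S)) : Subgroup ↥(Mw t S)).map π = E'
    rw [Sylow.coe_subtype]
    refine le_antisymm ?_ (Subgroup.map_mono fun m hm => hm.1)
    rintro _ ⟨m, hm, rfl⟩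
    obtain ⟨e, he, hk⟩ := h.S_ek (x := (m : G)) hm
    refine ⟨⟨e⁻¹, hEM (Subgroup.inv_mem _ he)⟩, Subgroup.inv_mem _ he, ?_⟩
    rw [← inv_mul_eq_one, ← map_inv, ← map_mul, hπ]
    show e⁻¹⁻¹ * (m : G) ∈ Kw t S
    rwa [inv_inv]
  have hE8 : Nat.card E' = 8 := by
    rw [← h.card_E]
    symm
    refine Nat.card_eq_of_bijective
      (fun e : Ee t S => (⟨π ⟨e, hEM e.2⟩, ⟨⟨e, hEM e.2⟩, e.2, rfl⟩⟩ : E')) ⟨?_, ?_⟩
    · intro e e' he
      have := congrArg Subtype.val he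
      simp only at this
      rw [← inv_mul_eq_one, ← map_inv, ← map_mul, hπ] at this
      exact Subtype.ext (inv_mul_eq_one.1 (h.E_inf_K (Subgroup.mul_mem _ (Subgroup.inv_mem _ e.2) e'.2) this))
    · rintro ⟨_, m, hm, rfl⟩
      exact ⟨⟨m, hm⟩, rfl⟩
  have hEcomm : ∀ {p q}, p ∈ E' → q ∈ E' → p * q = q * p := by
    rintro _ _ ⟨m, hm, rfl⟩ ⟨n, hn, rfl⟩
    rw [← map_mul, ← map_mul]
    exact congrArg π (Subtype.ext (h.E_comm hm hn))
  have hconj : ∀ q, orderOf q = 2 → IsConj T q := by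
    intro q hq
    obtain ⟨R, hR⟩ := (isPGroup_zpowers_two hq).exists_le_sylow
    obtain ⟨g, hg⟩ := MulAction.exists_smul_eq (↥(Mw t S) ⧸ K') P R
    have hmem := hR (Subgroup.mem_zpowers q)
    rw [← hg, Sylow.coe_subgroup_smul, Subgroup.mem_pointwise_smul_iff_inv_smul_mem, ← map_inv,
      MulAut.smul_def, MulAut.conj_apply, inv_inv, hP] at hmem
    obtain ⟨e, he, hge⟩ := hmem
    have he1 : (e : G) ≠ 1 := fun h0 => by
      have h1 : π e = 1 := by rw [show e = 1 from Subtype.ext h0, map_one]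
      rw [hge] at h1
      refine involution_ne_one hq ?_
      calc q = g * (g⁻¹ * q * g) * g⁻¹ := by group
        _ = 1 := by rw [h1]; group
    obtain ⟨n, hn, hn'⟩ := h.all_fused he he1
    refine isConj_iff.2 ⟨g * π ⟨n, h.NE_le_M hn⟩, ?_⟩
    rw [hT, show g * π ⟨n, h.NE_le_M hn⟩ * π t' * (g * π ⟨n, h.NE_le_M hn⟩)⁻¹ =
      g * π (⟨n, h.NE_le_M hn⟩ * t' * (⟨n, h.NE_le_M hn⟩)⁻¹) * g⁻¹ by simp only [map_mul, map_inv]; group,
      show (⟨n, h.NE_le_M hn⟩ : ↥(Mw t S)) * t' * (⟨n, h.NE_le_M hn⟩)⁻¹ = e from Subtype.ext hn', hge]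
    group
  obtain ⟨ι, hd⟩ := h.dec (Cl.refl t)
  let ι' : A5 →* ↥(Mw t S) ⧸ K' := φ.comp (ι.codRestrict _ hd.le)
  have hι' : Function.Injective ι' := hφi.comp fun a b e => hd.inj (congrArg Subtype.val e)
  have hmid : CentTwoAlt91.Mid T ι'.range A5 := by
    refine ⟨⟨⟨hT2, P, ?_, fun x hx => ?_⟩, ?_, ?_, ?_, ?_, ?_⟩, AltCommCent91.small_five,
      ⟨(MonoidHom.ofInjective hι').symm⟩⟩
    · show T ∈ (P : Subgroup _)
      rw [hP]
      exact ⟨t', h.t_mem_E, rfl⟩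
    · refine hEcomm ?_ ⟨t', h.t_mem_E, rfl⟩
      rw [← hP]; exact hx
    · rw [hcent]
      exact Subgroup.zpowers_le.2 ⟨⟨t, mem_Wof (Cl.refl t) rfl⟩, rfl⟩
    · rw [hcent]
      rintro _ ⟨a, rfl⟩
      exact ⟨⟨ι a, hd.le a⟩, rfl⟩
    · rintro p hp _ ⟨a, rfl⟩
      obtain ⟨i, rfl⟩ := Subgroup.mem_zpowers_iff.1 hp
      refine (Commute.zpow_left ?_ i).eq
      show π t' * π (Subgroup.inclusion hWM ⟨ι a, hd.le a⟩) = π (Subgroup.inclusion hWM ⟨ι a, hd.le a⟩) * π t'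
      rw [← map_mul, ← map_mul]
      exact congrArg π (Subtype.ext (hd.comm a).symm)
    · rw [Subgroup.eq_bot_iff_forall]
      rintro p ⟨hp, a, ha⟩
      have hp' : p = 1 ∨ p = T := by
        obtain ⟨i, rfl⟩ := Subgroup.mem_zpowers_iff.1 hp
        rw [← zpow_mod_orderOf T i, hT2]
        rcases Int.emod_two_eq_zero_or_one i with e | e <;> simp [e]
      refine hp'.resolve_right fun e => ?_
      exact hd.not_mem a (congrArg Subtype.val (hφi (a₁ := ⟨ι a, hd.le a⟩) (a₂ := ⟨t, mem_Wof (Cl.refl t) rfl⟩)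
        (ha.trans e)))
    · rw [hcent]
      refine le_antisymm (sup_le (Subgroup.zpowers_le.2 ⟨⟨t, mem_Wof (Cl.refl t) rfl⟩, rfl⟩) ?_) ?_
      · rintro _ ⟨a, rfl⟩
        exact ⟨⟨ι a, hd.le a⟩, rfl⟩
      · rintro _ ⟨⟨w, hw⟩, rfl⟩
        obtain ⟨a, rfl | rfl⟩ := hd.split w hw
        · exact Subgroup.mem_sup_right ⟨a, rfl⟩
        · have e : (⟨t * ι a, hw⟩ : Wof t t) = ⟨t, mem_Wof (Cl.refl t) rfl⟩ * ⟨ι a, hd.le a⟩ := rfl
          rw [e, map_mul]
          exact Subgroup.mul_mem _ (Subgroup.mem_sup_left (Subgroup.mem_zpowers T)) (Subgroup.mem_sup_right ⟨a, rfl⟩)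
  have hnt : Nontrivial (↥(Mw t S) ⧸ K') := ⟨⟨T, 1, involution_ne_one hT2⟩⟩
  have hsimple : IsSimpleGroup (↥(Mw t S) ⧸ K') := ⟨fun N hN' => by
    by_cases hev : Even (Nat.card N)
    · right
      obtain ⟨q, hqN, hq2⟩ := SignalizerStrongEmb.exists_involution_of_even hev
      have hall : ∀ {r}, orderOf r = 2 → r ∈ N := fun {r} hr => by
        obtain ⟨c, hc⟩ := isConj_iff.1 ((hconj q hq2).symm.trans (hconj r hr))
        rw [← hc]
        exact hN'.conj_mem q hqN c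
      rw [eq_top_iff]
      intro r _
      obtain ⟨m, rfl⟩ := hπs r
      obtain ⟨y, hy, k, hk, e⟩ := h.M_decomp m.2
      have hY : Yw t S ≤ (N.comap π).map (Mw t S).subtype := by
        rw [Yw, Subgroup.closure_le]
        rintro x ⟨hx, s, hs, hs1, hxs⟩
        have hxM : x ∈ Mw t S := h.Cz_le_M hs hs1 (mem_Cz.2 hxs)
        refine ⟨⟨x, hxM⟩, hall (orderOf_eq_two_of_mul_self ?_ fun e => ?_), rfl⟩
        · rw [← map_mul, show (⟨x, hxM⟩ : ↥(Mw t S)) * ⟨x, hxM⟩ = 1 from Subtype.ext (h.cl_sq hx), map_one]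
        · have hK := (hπ ⟨x, hxM⟩).1 e
          exact h.cl_ne hx (h.Wof_inf_K hs hs1 (mem_Wof hx hxs) hK)
      obtain ⟨y', hy', hyy⟩ := hY hy
      have : m = y' * ⟨k, h.K_le_M hk⟩ := Subtype.ext (by rw [e, ← hyy]; rfl)
      rw [this, map_mul, (hπ ⟨k, _⟩).2 hk, mul_one]
      exact hy'
    · exact Or.inl (hmid.odd_normal_eq_bot hconj hN' (Nat.not_even_iff_odd.1 hev))⟩
  obtain ⟨e⟩ := h.iso
  let eC : Subgroup.centralizer ({T} : Set (↥(Mw t S) ⧸ K')) ≃* Multiplicative (ZMod 2) × alternatingGroup (Fin 5) :=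
    (MulEquiv.subgroupCongr hcent).trans ((MonoidHom.ofInjective hφi).symm.trans e)
  obtain ⟨J⟩ := S1644.result (G := ↥(Mw t S) ⧸ K') P
    ⟨⟨fun a b => Subtype.ext (hEcomm (hP ▸ a.2) (hP ▸ b.2))⟩⟩ (by rw [← hE8, ← hP]) T hT2 eC
  exact ⟨J.toMonoidHom.comp π, J.surjective.comp hπs, fun m => by
    rw [MonoidHom.comp_apply]
    exact (EmbeddingLike.map_eq_one_iff (f := J)).trans (hπ m)⟩

theorem card_M : Nat.card (Mw t S) = 175560 * Nat.card (Kw t S) := by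
  obtain ⟨f, hf, hker⟩ := h.quot_iso
  have h1 := f.ker.card_eq_card_quotient_mul_card_subgroup
  rw [Nat.card_congr (QuotientGroup.quotientKerEquivOfSurjective f hf).toEquiv, J1Basic.card_J1,
    show f.ker = (Kw t S).subgroupOf (Mw t S) from Subgroup.ext fun m => (MonoidHom.mem_ker.trans (hker m)),
    Nat.card_congr (Subgroup.subgroupOfEquivOfLe h.K_le_M).toEquiv] at h1
  exact h1

theorem relIndex_Cz : (Cz t).relIndex (Mw t S) = 1463 := by
  have h1 := (((Cz t).subgroupOf (Mw t S))).card_mul_index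
  rw [Nat.card_congr (Subgroup.subgroupOfEquivOfLe (h.Cz_le_M h.t_mem_E h.t_ne)).toEquiv, h.card_Cz, h.card_M] at h1
  have hk : 0 < Nat.card (Kw t S) := Nat.card_pos
  rw [show 175560 * Nat.card (Kw t S) = 120 * Nat.card (Kw t S) * 1463 by ring] at h1
  exact Nat.eq_of_mul_eq_mul_left (by positivity) h1

end Hyp

end Cfsg.Agent.J1WeakClosure91
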