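import Cfsg.Agent.Lib.J2Simple
import Cfsg.Agent.Lib.PGroupsBasic
import Cfsg.Prelude.Def_Transfer

set_option autoImplicit false
set_option maxRecDepth 100000

/-! The centraliser of a reflection in `J2` is `2^{1+4}.A5`. -/

namespace Cfsg.Agent.J2Centralizer

open Cfsg.Agent.J2ChainDefs Cfsg.Agent.J2ChainData Cfsg.Agent.J2OrderData Cfsg.Agent.J2OrderDefs
  Cfsg.Agent.J2Lines Cfsg.Agent.J2Group Cfsg.Agent.J2Chain Cfsg.Agent.J2Simple

open scoped commutatorElement

theorem distinct_ok : ((List.range 315).all fun j => Nat.beq j 0 ||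
    (let P := t1 j
     let G := gp 0
     (List.range 315).any fun i => !Nat.beq (at9 P (at9 G i)) (at9 G (at9 P i)))) = true := by
  decide +kernel

theorem lineRefl_eq_zero {j : Fin 315} (h : lineRefl j = lineRefl 0) : j = 0 := by
  by_contra hne
  have hc : T j * gperm 0 = gperm 0 * T j := by
    have h1 := lineRefl_conj (T_mem j) 0
    rw [T_zero, h, lineRefl_zero, mul_inv_eq_iff_eq_mul] at h1
    exact h1
  have h2 := List.all_eq_true.mp distinct_ok j (List.mem_range.mpr j.2)
  simp only [Bool.or_eq_true] at h2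
  rcases h2 with e | e
  · exact hne (Fin.ext (Nat.eq_of_beq_eq_true e))
  · obtain ⟨i, hi, he⟩ := List.any_eq_true.mp e
    rw [List.mem_range] at hi
    have h3 := congrArg (fun f : Equiv.Perm (Fin 315) => (f ⟨i, hi⟩ : ℕ)) hc
    simp only [Equiv.Perm.mul_apply, T_rep j _, rep_gperm 0 _, Fin.val_zero] at h3
    rw [h3, Nat.beq_refl] at he
    exact Bool.noConfusion he

theorem commute_iff {σ : Equiv.Perm (Fin 315)} (hσ : σ ∈ lineGroup) :
    σ * lineRefl 0 = lineRefl 0 * σ ↔ σ 0 = 0 := by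
  rw [← mul_inv_eq_iff_eq_mul, lineRefl_conj hσ]
  exact ⟨lineRefl_eq_zero, fun h => by rw [h]⟩

/-- A point image under an element of the stabiliser on five letters. -/
def five (a b : ℕ) (i : Fin 5) : Fin 5 :=
  ⟨(((fiveAction.getD a []).getD b 0) >>> (3 * i.val)) % 8 % 5, Nat.mod_lt _ (by norm_num)⟩

/-- A point image under a generator on five letters. -/
def fiveGen (j : ℕ) (i : Fin 5) : Fin 5 := ⟨((fiveGens.getD j 0) >>> (3 * i.val)) % 8 % 5, Nat.mod_lt _ (by norm_num)⟩

theorem five_hom : ((List.range 2).all fun j => (List.range 160).all fun a => (List.range 12).all fun b =>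
    let e := f2 j a
    let a' := e / 16
    let b' := m3 (e % 16) b
    [(0 : Fin 5), 1, 2, 3, 4].all fun i => decide (five a' b' i = fiveGen j (five a b i))) = true := by
  decide +kernel

theorem five_one : ∀ i, five 0 0 i = i := by decide +kernel

theorem fiveGen_even : ∀ j : Fin 2, ∀ σ : Equiv.Perm (Fin 5), (∀ i, σ i = fiveGen j i) →
    Equiv.Perm.sign σ = 1 := by decide +kernel

lemma all_five {p : Fin 5 → Bool} (h : [(0 : Fin 5), 1, 2, 3, 4].all p = true) (i : Fin 5) : p i = true :=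
  List.all_eq_true.mp h i (by fin_cases i <;> simp)

lemma exists_index (h : stab0) : ∃ p : Fin 160 × Fin 12, h.1 = A p.1 * B p.2 := by
  obtain ⟨a, b, e⟩ := stab0_eq h.2
  exact ⟨(a, b), e⟩

/-- The action function of the stabiliser on five letters. -/
noncomputable def act (h : stab0) (i : Fin 5) : Fin 5 :=
  five (exists_index h).choose.1 (exists_index h).choose.2 i

lemma act_eq {h : stab0} {a : Fin 160} {b : Fin 12} (e : h.1 = A a * B b) (i : Fin 5) : act h i = five a b i := by
  obtain ⟨ha, hb⟩ := AB_inj ((exists_index h).choose_spec.symm.trans e)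
  rw [act, ha, hb]

lemma act_one (i : Fin 5) : act 1 i = i := by
  rw [act_eq (a := 0) (b := 0) (by rw [A_zero, B_zero, one_mul]; rfl)]
  exact five_one i

lemma B_mul_eq (p q : Fin 12) : ∃ h : m3 p q < 12, B p * B q = B ⟨m3 p q, h⟩ := by
  have h := List.all_eq_true.mp (List.all_eq_true.mp table3_ok p (List.mem_range.mpr p.2)) q (List.mem_range.mpr q.2)
  simp only [Bool.and_eq_true, Nat.blt_eq] at h
  refine ⟨h.1, Equiv.ext fun i => Fin.ext ?_⟩
  rw [Equiv.Perm.mul_apply, B_rep, B_rep, B_rep]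
  exact Nat.eq_of_beq_eq_true (List.all_eq_true.mp h.2 i (List.mem_range.mpr i.2))

lemma act_gen (j : Fin 2) (h : stab0) (i : Fin 5) :
    act (⟨S j, Subgroup.subset_closure ⟨j, rfl⟩⟩ * h) i = fiveGen j (act h i) := by
  obtain ⟨a, b, e⟩ := stab0_eq h.2
  obtain ⟨ha, hb, hc⟩ := check2_spec j a
  obtain ⟨hm, hB⟩ := B_mul_eq ⟨_, hb⟩ b
  have h1 : S j * A a = A ⟨_, ha⟩ * B ⟨_, hb⟩ := Equiv.ext fun x => Fin.ext (by
    rw [Equiv.Perm.mul_apply, Equiv.Perm.mul_apply, S_rep, A_rep, A_rep, B_rep]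
    exact hc x)
  rw [act_eq (h := _ * h) (a := ⟨_, ha⟩) (b := ⟨_, hm⟩) (by
      rw [Subgroup.coe_mul, e, ← mul_assoc, h1, mul_assoc, hB]),
    act_eq e]
  have h2 := List.all_eq_true.mp (List.all_eq_true.mp (List.all_eq_true.mp five_hom j (List.mem_range.mpr j.2)) a
    (List.mem_range.mpr a.2)) b (List.mem_range.mpr b.2)
  exact of_decide_eq_true (all_five h2 i)

theorem act_mul (x y : stab0) (i : Fin 5) : act (x * y) i = act x (act y i) := by
  obtain ⟨x, hx⟩ := x
  induction hx using Subgroup.closure_induction generalizing y i with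
  | mem s hs =>
    obtain ⟨j, rfl⟩ := hs
    have h1 := act_gen j 1 (act y i)
    rw [mul_one, act_one] at h1
    exact (act_gen j y i).trans h1.symm
  | one => exact (congrArg (fun z => act z i) (one_mul y)).trans (act_one _).symm
  | mul a b ha hb iha ihb =>
    show act ((⟨a, ha⟩ : stab0) * ⟨b, hb⟩ * y) i = act ((⟨a, ha⟩ : stab0) * ⟨b, hb⟩) (act y i)
    rw [mul_assoc, iha, ihb, iha]
  | inv a ha iha =>
    show act ((⟨a, ha⟩ : stab0)⁻¹ * y) i = act ((⟨a, ha⟩ : stab0)⁻¹) (act y i)
    have h1 : ∀ k, act ⟨a, ha⟩ (act (⟨a, ha⟩ : stab0)⁻¹ k) = k := fun k => by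
      rw [← iha, mul_inv_cancel, act_one]
    have hinj : Function.Injective (act ⟨a, ha⟩) :=
      Finite.injective_iff_surjective.mpr fun k => ⟨_, h1 k⟩
    refine hinj ?_
    rw [h1, ← iha, mul_inv_cancel_left]

/-- The action of the stabiliser on five letters. -/
noncomputable def phi : stab0 →* Equiv.Perm (Fin 5) where
  toFun h :=
    { toFun := act h
      invFun := act h⁻¹
      left_inv := fun i => by rw [← act_mul, inv_mul_cancel, act_one]
      right_inv := fun i => by rw [← act_mul, mul_inv_cancel, act_one] }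
  map_one' := Equiv.ext act_one
  map_mul' x y := Equiv.ext (act_mul x y)

theorem range_le : phi.range ≤ alternatingGroup (Fin 5) := by
  rintro _ ⟨⟨x, hx⟩, rfl⟩
  rw [Equiv.Perm.mem_alternatingGroup]
  induction hx using Subgroup.closure_induction with
  | mem s hs =>
    obtain ⟨j, rfl⟩ := hs
    refine fiveGen_even j _ fun i => ?_
    have h := act_gen j 1 i
    rw [mul_one, act_one] at h
    exact h
  | one => exact (congrArg _ phi.map_one).trans (map_one _)
  | mul a b ha hb iha ihb =>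
    show Equiv.Perm.sign (phi (⟨a, ha⟩ * ⟨b, hb⟩)) = 1
    rw [map_mul, map_mul, iha, ihb, one_mul]
  | inv a ha iha =>
    show Equiv.Perm.sign (phi (⟨a, ha⟩ : stab0)⁻¹) = 1
    rw [map_inv, map_inv, iha, inv_one]

/-- First index of a kernel element. -/
def kA (i : Fin 32) : Fin 160 := ⟨(kernelFive.getD i.val 0) / 12 % 160, Nat.mod_lt _ (by norm_num)⟩
/-- Second index of a kernel element. -/
def kB (i : Fin 32) : Fin 12 := ⟨(kernelFive.getD i.val 0) % 12, Nat.mod_lt _ (by norm_num)⟩
/-- Evaluation of a factorised stabiliser element. -/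
def ev2 (a b p : ℕ) : ℕ := at9 (t2 a) (at9 (t3 b) p)
/-- The product in the kernel. -/
def ktab (i j : Fin 32) : Fin 32 := ⟨(kernelTable >>> (5 * (32 * i.val + j.val))) % 32, Nat.mod_lt _ (by norm_num)⟩
/-- The central involution. -/
def kz : Fin 32 := ⟨kernelCentre % 32, Nat.mod_lt _ (by norm_num)⟩

theorem kernel_fix : ∀ i, ∀ x, five (kA i) (kB i) x = x := by decide +kernel

theorem kernel_all : ((List.range 160).all fun a => (List.range 12).all fun b =>
    !([(0 : Fin 5), 1, 2, 3, 4].all fun x => decide (five a b x = x)) || kernelFive.contains (12 * a + b)) = true := by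
  decide +kernel

theorem kernelFive_length : kernelFive.length = 32 := by decide +kernel

theorem kernel_inj : ∀ i j, kA i = kA j → kB i = kB j → i = j := by decide +kernel

theorem kernel_mul : ∀ i j : Fin 32, ∀ p ∈ [0, 106, 1],
    Nat.beq (ev2 (kA i) (kB i) (ev2 (kA j) (kB j) p)) (ev2 (kA (ktab i j)) (kB (ktab i j)) p) = true := by
  decide +kernel

theorem ktab_facts : kz ≠ 0 ∧ (∀ i, ktab 0 i = i) ∧ (∀ i, ktab i kz = ktab kz i) ∧ (∀ i, ktab i i = 0 ∨ ktab i i = kz) ∧
    (∀ i j, ktab i j = ktab j i ∨ ktab i j = ktab (ktab j i) kz) ∧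
    (∀ i, i ≠ 0 → i ≠ kz → ∃ j, ktab i j ≠ ktab j i) ∧ (∃ i, i ≠ 0 ∧ i ≠ kz) := by
  decide +kernel

/-- A group of order 32 with this table is extraspecial. -/
theorem extraspecial_of_table {G : Type} [Group G] (q : Fin 32 ≃ G) (hq : ∀ i j, q i * q j = q (ktab i j)) :
    Cfsg.IsExtraspecial 2 G := by
  obtain ⟨hz, hone, hzc, hsq, hcomm, hcen, hne⟩ := ktab_facts
  haveI : Finite G := Finite.of_equiv _ q
  haveI : Fact (Nat.Prime 2) := ⟨Nat.prime_two⟩
  have hcard : Nat.card G = 2 ^ 5 := by rw [← Nat.card_congr q, Nat.card_fin]; norm_num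
  have h2 : IsPGroup 2 G := IsPGroup.of_card hcard
  have hq0 : q 0 = 1 := by
    have := hq 0 0
    rw [hone, mul_eq_right] at this
    exact this
  have hcz : q kz ∈ Subgroup.center G := by
    rw [Subgroup.mem_center_iff]
    intro g
    obtain ⟨i, rfl⟩ := q.surjective g
    rw [hq, hq, hzc]
  have hcent : ∀ g ∈ Subgroup.center G, g = 1 ∨ g = q kz := by
    intro g hg
    obtain ⟨i, rfl⟩ := q.surjective g
    by_contra h
    push Not at h
    obtain ⟨j, hj⟩ := hcen i (fun e => h.1 (e ▸ hq0)) (fun e => h.2 (e ▸ rfl))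
    refine hj (q.injective ?_)
    rw [← hq, ← hq]
    exact (Subgroup.mem_center_iff.mp hg (q j)).symm
  have hsub : ∀ i, i = 0 ∨ i = kz → q i ∈ Subgroup.center G := by
    rintro i (rfl | rfl)
    · rw [hq0]; exact Subgroup.one_mem _
    · exact hcz
  have hne1 : q kz ≠ 1 := fun e => hz (q.injective (e.trans hq0.symm))
  have hcardc : Nat.card (Subgroup.center G) = 2 := by
    rw [show (2 : ℕ) = Nat.card Bool by simp]
    refine (Nat.card_eq_of_bijective (fun b : Bool => if b then (⟨q kz, hcz⟩ : Subgroup.center G) else 1) ⟨?_, ?_⟩).symm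
    · intro b c h
      cases b <;> cases c <;> simp_all [Subtype.ext_iff]
    · rintro ⟨g, hg⟩
      rcases hcent g hg with rfl | rfl
      · exact ⟨false, rfl⟩
      · exact ⟨true, rfl⟩
  have hcle : commutator G ≤ Subgroup.center G := by
    rw [commutator_eq_closure, Subgroup.closure_le]
    rintro _ ⟨g, h, rfl⟩
    obtain ⟨i, rfl⟩ := q.surjective g
    obtain ⟨j, rfl⟩ := q.surjective h
    rw [SetLike.mem_coe, commutatorElement_def]
    rcases hcomm i j with e | e
    · rw [show q i * q j = q j * q i by rw [hq, hq, e]]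
      simpa using Subgroup.one_mem _
    · rw [show q i * q j = q j * q i * q kz by rw [hq, hq, hq, e]]
      rw [show q j * q i * q kz * (q i)⁻¹ * (q j)⁻¹ = q j * (q i * q kz * (q i)⁻¹) * (q j)⁻¹ by group,
        show q i * q kz = q kz * q i from Subgroup.mem_center_iff.mp hcz (q i), mul_inv_cancel_right,
        show q j * q kz = q kz * q j from Subgroup.mem_center_iff.mp hcz (q j), mul_inv_cancel_right]
      exact hcz
  have hnab : commutator G ≠ ⊥ := fun e => by
    obtain ⟨i, hi0, hiz⟩ := hne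
    obtain ⟨j, hj⟩ := hcen i hi0 hiz
    have h1 : ⁅q i, q j⁆ ∈ commutator G :=
      Subgroup.commutator_mem_commutator (Subgroup.mem_top _) (Subgroup.mem_top _)
    rw [e, Subgroup.mem_bot, commutatorElement_eq_one_iff_mul_comm, hq, hq] at h1
    exact hj (q.injective h1)
  have hceq : commutator G = Subgroup.center G := by
    refine Subgroup.eq_of_le_of_card_ge hcle ?_
    rw [hcardc]
    exact Subgroup.one_lt_card_iff_ne_bot _ |>.mpr hnab
  haveI : (Subgroup.center G).Normal := inferInstance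
  have hfr : frattini G ≤ Subgroup.center G :=
    PGroupsBasic.frattini_le_of_elementary_quotient (p := 2) hcle fun x => by
      obtain ⟨i, rfl⟩ := q.surjective x
      rw [pow_two, hq]
      exact hsub _ (hsq i)
  refine ⟨⟨h2, le_antisymm hfr ?_, hceq⟩, hcardc⟩
  rw [← hceq]
  exact PGroupsBasic.commutator_le_frattini h2

/-- An element of the kernel. -/
noncomputable def kElem (i : Fin 32) : stab0 := ⟨A (kA i) * B (kB i), mul_mem (A_mem _) (B_mem _)⟩

lemma kElem_mem (i : Fin 32) : phi (kElem i) = 1 :=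
  Equiv.ext fun x => (act_eq (h := kElem i) rfl x).trans (kernel_fix i x)

theorem kElem_inj : Function.Injective kElem := fun i j h => by
  obtain ⟨h1, h2⟩ := AB_inj (congrArg Subtype.val h)
  exact kernel_inj i j h1 h2

theorem kElem_surj {h : stab0} (hh : phi h = 1) : ∃ i, kElem i = h := by
  obtain ⟨a, b, e⟩ := stab0_eq h.2
  have h1 : ([(0 : Fin 5), 1, 2, 3, 4].all fun x => decide (five a b x = x)) = true := by
    refine List.all_eq_true.mpr fun x _ => decide_eq_true ?_
    rw [← act_eq e x]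
    exact Equiv.congr_fun hh x
  have h2 := List.all_eq_true.mp (List.all_eq_true.mp kernel_all a (List.mem_range.mpr a.2)) b (List.mem_range.mpr b.2)
  simp only [h1, Bool.not_true, Bool.false_or, List.contains_iff_mem] at h2
  obtain ⟨i, hi, he⟩ := List.getElem_of_mem h2
  refine ⟨⟨i, kernelFive_length ▸ hi⟩, Subtype.ext ?_⟩
  have ha := a.2
  have hb := b.2
  have hd : kernelFive.getD i 0 = 12 * a.val + b.val := by rw [List.getD_eq_getElem _ _ hi, he]
  rw [e]
  show A (kA _) * B (kB _) = _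
  congr 2
  · refine Fin.ext ?_
    show kernelFive.getD i 0 / 12 % 160 = a.val
    rw [hd]; omega
  · refine Fin.ext ?_
    show kernelFive.getD i 0 % 12 = b.val
    rw [hd]; omega

theorem kElem_mul (i j : Fin 32) : kElem i * kElem j = kElem (ktab i j) := by
  refine Subtype.ext ?_
  set σ : Equiv.Perm (Fin 315) := (kElem (ktab i j)).1⁻¹ * ((kElem i).1 * (kElem j).1) with hσ
  have hmem : σ ∈ lineGroup := stab0_le (mul_mem (inv_mem (kElem _).2) (mul_mem (kElem i).2 (kElem j).2))
  have hev : ∀ (l : Fin 32) (p : Fin 315), (((kElem l).1 p : Fin 315) : ℕ) = ev2 (kA l) (kB l) p := by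
    intro l p
    show ((A (kA l) * B (kB l)) p : ℕ) = _
    rw [Equiv.Perm.mul_apply, A_rep, B_rep]
    rfl
  have hfix : ∀ p : Fin 315, (p : ℕ) ∈ [0, 106, 1] → σ p = p := by
    intro p hp
    rw [hσ, Equiv.Perm.mul_apply, Equiv.Perm.inv_eq_iff_eq]
    refine Fin.ext ?_
    rw [Equiv.Perm.mul_apply, hev, hev, hev]
    exact Nat.eq_of_beq_eq_true (kernel_mul i j p hp)
  have h1 : σ = 1 := eq_one_of_fix hmem (hfix 0 (by simp)) (hfix 106 (by simp)) (hfix 1 (by simp))
  rw [hσ, inv_mul_eq_one] at h1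
  exact h1.symm

theorem card_ker : Nat.card phi.ker = 32 := by
  rw [← Nat.card_fin 32]
  refine (Nat.card_eq_of_bijective (fun i => (⟨kElem i, kElem_mem i⟩ : phi.ker)) ⟨?_, ?_⟩).symm
  · exact fun i j h => kElem_inj (congrArg Subtype.val h)
  · rintro ⟨h, hh⟩
    obtain ⟨i, rfl⟩ := kElem_surj hh
    exact ⟨i, rfl⟩

theorem range_eq : phi.range = alternatingGroup (Fin 5) := by
  refine Subgroup.eq_of_le_of_card_ge range_le ?_
  have h1 : Nat.card phi.range * 32 = 1920 := by
    rw [← card_ker, ← card_stab0, ← Nat.card_congr (QuotientGroup.quotientKerEquivRange phi).toEquiv,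
      ← Subgroup.card_eq_card_quotient_mul_card_subgroup]
  have h2 : 2 * Nat.card (alternatingGroup (Fin 5)) = 120 := by
    rw [two_mul_nat_card_alternatingGroup, Nat.card_perm, Nat.card_fin]; rfl
  omega

/-- Transfer to any group isomorphic to the stabiliser. -/
theorem main_of_equiv {C : Type} [Group C] (e : C ≃* stab0) :
    ∃ (Q : Subgroup C) (_ : Q.Normal), Nat.card Q = 32 ∧ Cfsg.IsExtraspecial 2 Q ∧
      Nonempty (C ⧸ Q ≃* alternatingGroup (Fin 5)) := by
  set ψ : C →* Equiv.Perm (Fin 5) := phi.comp e.toMonoidHom with hψ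
  have hmem : ∀ i, ψ (e.symm (kElem i)) = 1 := fun i => by
    rw [hψ, MonoidHom.comp_apply, MulEquiv.coe_toMonoidHom, MulEquiv.apply_symm_apply]; exact kElem_mem i
  let q : Fin 32 ≃ ψ.ker := Equiv.ofBijective (fun i => ⟨e.symm (kElem i), hmem i⟩)
    ⟨fun i j h => kElem_inj (e.symm.injective (congrArg Subtype.val h)), by
      rintro ⟨c, hc⟩
      obtain ⟨i, hi⟩ := kElem_surj (h := e c) hc
      exact ⟨i, Subtype.ext (by show e.symm (kElem i) = c; rw [hi, MulEquiv.symm_apply_apply])⟩⟩
  have hr : ψ.range = alternatingGroup (Fin 5) := by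
    rw [hψ, MonoidHom.range_comp, MonoidHom.range_eq_top.mpr e.surjective, ← MonoidHom.range_eq_map, range_eq]
  refine ⟨ψ.ker, inferInstance, by rw [← Nat.card_congr q, Nat.card_fin], extraspecial_of_table q fun i j => ?_, ⟨?_⟩⟩
  · refine Subtype.ext ?_
    show e.symm (kElem i) * e.symm (kElem j) = e.symm (kElem (ktab i j))
    rw [← map_mul, kElem_mul]
  · exact (QuotientGroup.quotientKerEquivRange ψ).trans (MulEquiv.subgroupCongr hr)

/-- The centraliser of a reflection is isomorphic to the stabiliser of the first point. -/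
theorem exists_centralizer_equiv (k : Fin 315) :
    Nonempty (Subgroup.centralizer {(QuotientGroup.mk ⟨refl k, refl_mem k⟩ : Cfsg.Spor.J2)} ≃* stab0) := by
  let c : Cfsg.Spor.J2 := QuotientGroup.mk ⟨refl k, refl_mem k⟩
  let e : Cfsg.Spor.J2 ≃* lineGroup := toLineGroup.trans (MulAut.conj (⟨T k, T_mem k⟩ : lineGroup)⁻¹)
  have hc : (e c).1 = lineRefl 0 := by
    show (T k)⁻¹ * (toLines ⟨refl k, refl_mem k⟩) * (T k)⁻¹⁻¹ = lineRefl 0
    rw [show toLines ⟨refl k, refl_mem k⟩ = lineRefl k from rfl, lineRefl_conj (inv_mem (T_mem k))]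
    congr 1
    rw [Equiv.Perm.inv_eq_iff_eq, T_zero]
  have hiff : ∀ x, x ∈ Subgroup.centralizer {c} ↔ (e x).1 0 = 0 := by
    intro x
    rw [Subgroup.mem_centralizer_singleton_iff, ← commute_iff (e x).2, ← hc, ← Subgroup.coe_mul, ← Subgroup.coe_mul,
      ← map_mul, ← map_mul]
    exact ⟨fun h => congrArg _ (congrArg _ h), fun h => e.injective (Subtype.ext h)⟩
  exact ⟨
    { toFun := fun x => ⟨(e x.1).1, mem_stab0 (e x.1).2 ((hiff _).mp x.2)⟩
      invFun := fun h => ⟨e.symm ⟨h.1, stab0_le h.2⟩, (hiff _).mpr (by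
        rw [MulEquiv.apply_symm_apply]; exact stab0_fix h.2)⟩
      left_inv := fun x => Subtype.ext (by simp)
      right_inv := fun h => Subtype.ext (by simp)
      map_mul' := fun x y => Subtype.ext (by simp) }⟩

/-- The structure of a reflection centraliser. -/
theorem main (f : Equiv.Perm ↥Cfsg.Spor.icoLeech) (hf : Cfsg.Spor.IsIcoReflection f) (hfm : f ∈ Cfsg.Spor.twoJ2) :
    ∃ (Q : Subgroup ↥(Subgroup.centralizer {(QuotientGroup.mk ⟨f, hfm⟩ : Cfsg.Spor.J2)})) (_ : Q.Normal),
      Nat.card Q = 32 ∧ Cfsg.IsExtraspecial 2 Q ∧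
      Nonempty (↥(Subgroup.centralizer {(QuotientGroup.mk ⟨f, hfm⟩ : Cfsg.Spor.J2)}) ⧸ Q ≃*
        alternatingGroup (Fin 5)) := by
  obtain ⟨k, rfl⟩ := exists_refl hf
  obtain ⟨e⟩ := exists_centralizer_equiv k
  exact main_of_equiv e

end Cfsg.Agent.J2Centralizer
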