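import Cfsg.Agent.Lib.J2ChainDefs

set_option autoImplicit false
set_option maxRecDepth 100000

/-! Kernel verification of Schreier factorisations for two generators. -/

namespace Cfsg.Agent.J2ChainCheck0

open Cfsg.Agent.J2ChainDefs

set_option maxHeartbeats 0 in
theorem factor_a : (List.range 315).all (check1 0) = true := by decide +kernel

set_option maxHeartbeats 0 in
theorem factor_b : (List.range 315).all (check1 1) = true := by decide +kernel

end Cfsg.Agent.J2ChainCheck0
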