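import Cfsg.Agent.Lib.J2Group
import Cfsg.Agent.Lib.J2ChainCheck0
import Cfsg.Agent.Lib.J2ChainCheck2

set_option autoImplicit false
set_option maxRecDepth 100000

/-! The group of 315 lines has order 604800. -/

namespace Cfsg.Agent.J2Chain

open Cfsg.Agent.J2VectorData Cfsg.Agent.J2ChainData Cfsg.Agent.J2ChainDefs Cfsg.Agent.J2Lines Cfsg.Agent.J2Group

set_option maxHeartbeats 0 in
theorem tree1_ok : ((List.range 315).all fun x =>
    let T := t1 x
    let U := t1 (tree1.getD x (0, 0)).2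
    let G := gp (tree1.getD x (0, 0)).1
    Nat.beq (at9 T 0) x &&
    ((Nat.beq x 0 && onPoints fun i => Nat.beq (at9 T i) i) ||
    (Nat.blt (tree1.getD x (0, 0)).1 4 && Nat.blt (tree1.getD x (0, 0)).2 315 &&
      Nat.blt (rank1.getD (tree1.getD x (0, 0)).2 0) (rank1.getD x 0) &&
      onPoints fun i => Nat.beq (at9 T i) (at9 G (at9 U i))))) = true := by decide +kernel

theorem stab_ok : ([0, 1].all fun j =>
    let g := (stabWord.getD j (0, 0)).1
    let x := (stabWord.getD j (0, 0)).2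
    Nat.blt g 4 && Nat.blt x 315 && onPoints fun i =>
      Nat.blt (at9 (sp j) i) 315 &&
      Nat.beq (at9 (t1 (at9 (gp g) x)) (at9 (sp j) i)) (at9 (gp g) (at9 (t1 x) i))) = true := by decide +kernel

set_option maxHeartbeats 0 in
theorem tree2_ok : ((List.range 160).all fun a =>
    let T := t2 a
    let U := t2 (tree2.getD a (0, 0)).2
    let S := sp (tree2.getD a (0, 0)).1
    Nat.beq (at9 T 0) 0 && Nat.beq (at9 T 106) (points2.getD a 0) &&
    ((Nat.beq a 0 && onPoints fun i => Nat.beq (at9 T i) i) ||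
    (Nat.blt (tree2.getD a (0, 0)).1 2 && Nat.blt (tree2.getD a (0, 0)).2 a &&
      onPoints fun i => Nat.beq (at9 T i) (at9 S (at9 U i))))) = true := by decide +kernel

set_option maxHeartbeats 0 in
theorem factor2_ok : ((List.range 2).all fun j => (List.range 160).all fun a => check2 j a) = true := by
  decide +kernel

theorem tree3_ok : ((List.range 12).all fun b =>
    let T := t3 b
    let w := word3.getD b (0, 0)
    Nat.beq (at9 T 0) 0 && Nat.beq (at9 T 106) 106 && Nat.beq (at9 T 1) (points3.getD b 0) &&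
    (onPoints fun i => Nat.blt (at9 T i) 315) &&
    ((Nat.beq b 0 && onPoints fun i => Nat.beq (at9 T i) i) ||
    (Nat.blt w.1 2 && Nat.blt w.2 160 && Nat.beq (f2 w.1 w.2 % 16) b) ||
    (Nat.beq w.1 2 && Nat.blt (w.2 / 16) b && Nat.blt (w.2 % 16) b &&
      onPoints fun i => Nat.beq (at9 T i) (at9 (t3 (w.2 / 16)) (at9 (t3 (w.2 % 16)) i))))) = true := by
  decide +kernel

theorem table3_ok : ((List.range 12).all fun p => (List.range 12).all fun q =>
    Nat.blt (m3 p q) 12 && onPoints fun i => Nat.beq (at9 (t3 p) (at9 (t3 q) i)) (at9 (t3 (m3 p q)) i)) = true := by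
  decide +kernel

theorem points_nodup : points2.Nodup ∧ points3.Nodup ∧ points2.length = 160 ∧ points3.length = 12 ∧
    points2.getD 0 0 = 106 ∧ points3.getD 0 0 = 1 := by decide +kernel

/-- `P` packs the permutation `σ`. -/
def Rep (P : ℕ) (σ : Equiv.Perm (Fin 315)) : Prop := ∀ i : Fin 315, (σ i : ℕ) = at9 P i

lemma rep_gperm (g : Fin 4) : Rep (gp g) (gperm g) := fun _ => rfl

lemma rep_id {P : ℕ} (h : onPoints (fun i => Nat.beq (at9 P i) i) = true) : Rep P 1 := fun i =>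
  (Nat.eq_of_beq_eq_true (List.all_eq_true.mp h i (List.mem_range.mpr i.2))).symm

lemma rep_comp {P Q R : ℕ} {σ τ : Equiv.Perm (Fin 315)} (h : onPoints (fun i => Nat.beq (at9 R i) (at9 P (at9 Q i))) = true)
    (hσ : Rep P σ) (hτ : Rep Q τ) : Rep R (σ * τ) := fun i => by
  rw [Equiv.Perm.mul_apply, hσ, hτ]
  exact (Nat.eq_of_beq_eq_true (List.all_eq_true.mp h i (List.mem_range.mpr i.2))).symm

theorem exists_T : ∀ x : Fin 315, ∃ σ ∈ lineGroup, Rep (t1 x) σ ∧ σ 0 = x := by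
  have key : ∀ d, ∀ x : Fin 315, rank1.getD x 0 = d → ∃ σ ∈ lineGroup, Rep (t1 x) σ := by
    intro d
    induction d using Nat.strong_induction_on with
    | _ d ih =>
      intro x hd
      have h := List.all_eq_true.mp tree1_ok x (List.mem_range.mpr x.2)
      simp only [Bool.and_eq_true, Bool.or_eq_true, Nat.blt_eq] at h
      rcases h.2 with ⟨-, h1⟩ | ⟨⟨⟨hg, hp⟩, hlt⟩, h1⟩
      · exact ⟨1, one_mem _, rep_id h1⟩
      · obtain ⟨σ, hσ, hr⟩ := ih _ (hd ▸ hlt) ⟨_, hp⟩ rfl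
        exact ⟨gperm ⟨_, hg⟩ * σ, mul_mem (gperm_mem _) hσ, rep_comp h1 (rep_gperm ⟨_, hg⟩) hr⟩
  intro x
  obtain ⟨σ, hσ, hr⟩ := key _ x rfl
  have h := List.all_eq_true.mp tree1_ok x (List.mem_range.mpr x.2)
  simp only [Bool.and_eq_true] at h
  exact ⟨σ, hσ, hr, Fin.ext ((hr 0).trans (Nat.eq_of_beq_eq_true h.1))⟩

/-- First transversal. -/
noncomputable def T (x : Fin 315) : Equiv.Perm (Fin 315) := (exists_T x).choose
lemma T_mem (x : Fin 315) : T x ∈ lineGroup := (exists_T x).choose_spec.1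
lemma T_rep (x : Fin 315) : Rep (t1 x) (T x) := (exists_T x).choose_spec.2.1
lemma T_zero (x : Fin 315) : T x 0 = x := (exists_T x).choose_spec.2.2

theorem exists_S : ∀ j : Fin 2, ∃ σ ∈ lineGroup, Rep (sp j) σ := by
  intro j
  have h := List.all_eq_true.mp stab_ok j.val (by fin_cases j <;> simp)
  simp only [Bool.and_eq_true, Nat.blt_eq] at h
  obtain ⟨⟨hg, hx⟩, h1⟩ := h
  set g : Fin 4 := ⟨(stabWord.getD j.val (0, 0)).1, hg⟩ with hgdef
  set x : Fin 315 := ⟨(stabWord.getD j.val (0, 0)).2, hx⟩ with hxdef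
  refine ⟨(T (gperm g x))⁻¹ * gperm g * T x, mul_mem (mul_mem (inv_mem (T_mem _)) (gperm_mem _)) (T_mem _), fun i => ?_⟩
  have h2 := List.all_eq_true.mp h1 i (List.mem_range.mpr i.2)
  simp only [Bool.and_eq_true, Nat.blt_eq] at h2
  obtain ⟨hlt, he⟩ := h2
  have key : gperm g (T x i) = T (gperm g x) ⟨at9 (sp j) i, hlt⟩ := by
    apply Fin.ext
    rw [rep_gperm g, T_rep x, T_rep (gperm g x)]
    exact (Nat.eq_of_beq_eq_true he).symm
  rw [Equiv.Perm.mul_apply, Equiv.Perm.mul_apply, key, Equiv.Perm.inv_def, Equiv.symm_apply_apply]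

/-- Stabiliser generators. -/
noncomputable def S (j : Fin 2) : Equiv.Perm (Fin 315) := (exists_S j).choose
lemma S_mem (j : Fin 2) : S j ∈ lineGroup := (exists_S j).choose_spec.1
lemma S_rep (j : Fin 2) : Rep (sp j) (S j) := (exists_S j).choose_spec.2

/-- The stabiliser of the first point. -/
noncomputable def stab0 : Subgroup (Equiv.Perm (Fin 315)) := Subgroup.closure (Set.range S)

lemma stab0_le : stab0 ≤ lineGroup := (Subgroup.closure_le _).mpr (by rintro _ ⟨j, rfl⟩; exact S_mem j)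

theorem exists_A : ∀ a : Fin 160, ∃ σ ∈ stab0, Rep (t2 a) σ := by
  have key : ∀ n, ∀ a : Fin 160, a.val = n → ∃ σ ∈ stab0, Rep (t2 a) σ := by
    intro n
    induction n using Nat.strong_induction_on with
    | _ n ih =>
      intro a hn
      have h := List.all_eq_true.mp tree2_ok a (List.mem_range.mpr a.2)
      simp only [Bool.and_eq_true, Bool.or_eq_true, Nat.blt_eq] at h
      rcases h.2 with ⟨-, h1⟩ | ⟨⟨hj, hp⟩, h1⟩
      · exact ⟨1, one_mem _, rep_id h1⟩
      · obtain ⟨σ, hσ, hr⟩ := ih _ (hn ▸ hp) ⟨_, hp.trans a.2⟩ rfl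
        exact ⟨S ⟨_, hj⟩ * σ, mul_mem (Subgroup.subset_closure ⟨_, rfl⟩) hσ, rep_comp h1 (S_rep ⟨_, hj⟩) hr⟩
  exact fun a => key _ a rfl

/-- Second transversal. -/
noncomputable def A (a : Fin 160) : Equiv.Perm (Fin 315) := (exists_A a).choose
lemma A_mem (a : Fin 160) : A a ∈ stab0 := (exists_A a).choose_spec.1
lemma A_rep (a : Fin 160) : Rep (t2 a) (A a) := (exists_A a).choose_spec.2

lemma A_points (a : Fin 160) : A a 0 = 0 ∧ (A a 106 : ℕ) = points2.getD a 0 := by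
  have h := List.all_eq_true.mp tree2_ok a (List.mem_range.mpr a.2)
  simp only [Bool.and_eq_true] at h
  exact ⟨Fin.ext ((A_rep a 0).trans (Nat.eq_of_beq_eq_true h.1.1)), (A_rep a 106).trans (Nat.eq_of_beq_eq_true h.1.2)⟩

lemma check2_spec (j : Fin 2) (a : Fin 160) : f2 j a / 16 < 160 ∧ f2 j a % 16 < 12 ∧
    ∀ i : Fin 315, at9 (sp j) (at9 (t2 a) i) = at9 (t2 (f2 j a / 16)) (at9 (t3 (f2 j a % 16)) i) := by
  have h := List.all_eq_true.mp (List.all_eq_true.mp factor2_ok j (List.mem_range.mpr j.2)) a (List.mem_range.mpr a.2)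
  simp only [check2, Bool.and_eq_true, Nat.blt_eq] at h
  exact ⟨h.1.1, h.1.2, fun i => Nat.eq_of_beq_eq_true (List.all_eq_true.mp h.2 i (List.mem_range.mpr i.2))⟩

theorem exists_B : ∀ b : Fin 12, ∃ σ ∈ stab0, Rep (t3 b) σ := by
  have key : ∀ n, ∀ b : Fin 12, b.val = n → ∃ σ ∈ stab0, Rep (t3 b) σ := by
    intro n
    induction n using Nat.strong_induction_on with
    | _ n ih =>
      intro b hn
      have h := List.all_eq_true.mp tree3_ok b (List.mem_range.mpr b.2)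
      simp only [Bool.and_eq_true, Bool.or_eq_true, Nat.blt_eq] at h
      obtain ⟨⟨-, hlt⟩, h2⟩ := h
      rcases h2 with (⟨-, h1⟩ | ⟨⟨hj, hk⟩, he⟩) | ⟨⟨⟨-, hp⟩, hq⟩, h1⟩
      · exact ⟨1, one_mem _, rep_id h1⟩
      · obtain ⟨ha, -, hc⟩ := check2_spec ⟨_, hj⟩ ⟨_, hk⟩
        refine ⟨(A ⟨_, ha⟩)⁻¹ * S ⟨_, hj⟩ * A ⟨_, hk⟩,
          mul_mem (mul_mem (inv_mem (A_mem _)) (Subgroup.subset_closure ⟨_, rfl⟩)) (A_mem _), fun i => ?_⟩
        have hi := List.all_eq_true.mp hlt i (List.mem_range.mpr i.2)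
        rw [Nat.blt_eq] at hi
        have key : S ⟨_, hj⟩ (A ⟨_, hk⟩ i) = A ⟨_, ha⟩ ⟨at9 (t3 b) i, hi⟩ := by
          apply Fin.ext
          rw [S_rep, A_rep, A_rep]
          have := hc i
          simp only at this
          rw [Nat.eq_of_beq_eq_true he] at this
          exact this
        rw [Equiv.Perm.mul_apply, Equiv.Perm.mul_apply, key, Equiv.Perm.inv_def, Equiv.symm_apply_apply]
      · obtain ⟨σ, hσ, hr⟩ := ih _ (hn ▸ hp) ⟨_, hp.trans b.2⟩ rfl
        obtain ⟨τ, hτ, hr'⟩ := ih _ (hn ▸ hq) ⟨_, hq.trans b.2⟩ rfl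
        exact ⟨σ * τ, mul_mem hσ hτ, rep_comp h1 hr hr'⟩
  exact fun b => key _ b rfl

/-- Third transversal. -/
noncomputable def B (b : Fin 12) : Equiv.Perm (Fin 315) := (exists_B b).choose
lemma B_mem (b : Fin 12) : B b ∈ stab0 := (exists_B b).choose_spec.1
lemma B_rep (b : Fin 12) : Rep (t3 b) (B b) := (exists_B b).choose_spec.2

lemma B_points (b : Fin 12) : B b 0 = 0 ∧ B b 106 = 106 ∧ (B b 1 : ℕ) = points3.getD b 0 := by
  have h := List.all_eq_true.mp tree3_ok b (List.mem_range.mpr b.2)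
  simp only [Bool.and_eq_true] at h
  exact ⟨Fin.ext ((B_rep b 0).trans (Nat.eq_of_beq_eq_true h.1.1.1.1)),
    Fin.ext ((B_rep b 106).trans (Nat.eq_of_beq_eq_true h.1.1.1.2)),
    (B_rep b 1).trans (Nat.eq_of_beq_eq_true h.1.1.2)⟩

lemma A_zero : A 0 = 1 := by
  refine Equiv.ext fun i => Fin.ext ((A_rep 0 i).trans ?_)
  have h := List.all_eq_true.mp tree2_ok 0 (List.mem_range.mpr (by norm_num))
  simp only [Bool.and_eq_true, Bool.or_eq_true, Nat.blt_eq] at h
  rcases h.2 with ⟨-, h1⟩ | ⟨⟨-, hp⟩, -⟩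
  · exact Nat.eq_of_beq_eq_true (List.all_eq_true.mp h1 i (List.mem_range.mpr i.2))
  · exact absurd hp (Nat.not_lt_zero _)

lemma B_zero : B 0 = 1 := by
  refine Equiv.ext fun i => Fin.ext ((B_rep 0 i).trans ?_)
  have h : onPoints (fun i => Nat.beq (at9 (t3 0) i) i) = true := by decide +kernel
  exact Nat.eq_of_beq_eq_true (List.all_eq_true.mp h i (List.mem_range.mpr i.2))

lemma S_mul (j : Fin 2) (a : Fin 160) : ∃ a' b', S j * A a = A a' * B b' := by
  obtain ⟨ha, hb, hc⟩ := check2_spec j a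
  refine ⟨⟨_, ha⟩, ⟨_, hb⟩, Equiv.ext fun i => Fin.ext ?_⟩
  rw [Equiv.Perm.mul_apply, Equiv.Perm.mul_apply, S_rep, A_rep, A_rep, B_rep]
  exact hc i

lemma B_mul (p q : Fin 12) : ∃ r, B p * B q = B r := by
  have h := List.all_eq_true.mp (List.all_eq_true.mp table3_ok p (List.mem_range.mpr p.2)) q (List.mem_range.mpr q.2)
  simp only [Bool.and_eq_true, Nat.blt_eq] at h
  refine ⟨⟨_, h.1⟩, Equiv.ext fun i => Fin.ext ?_⟩
  rw [Equiv.Perm.mul_apply, B_rep, B_rep, B_rep]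
  exact Nat.eq_of_beq_eq_true (List.all_eq_true.mp h.2 i (List.mem_range.mpr i.2))

theorem stab0_eq {h : Equiv.Perm (Fin 315)} (hh : h ∈ stab0) : ∃ a b, h = A a * B b := by
  classical
  induction hh using Subgroup.closure_induction_left with
  | one => exact ⟨0, 0, by rw [A_zero, B_zero, one_mul]⟩
  | mul_left x hx y _ ih =>
    obtain ⟨j, rfl⟩ := hx
    obtain ⟨a, b, rfl⟩ := ih
    obtain ⟨a', b', e⟩ := S_mul j a
    obtain ⟨r, hr⟩ := B_mul b' b
    exact ⟨a', r, by rw [← mul_assoc, e, mul_assoc, hr]⟩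
  | inv_mul_cancel x hx y _ ih =>
    obtain ⟨j, rfl⟩ := hx
    let E : Set (Equiv.Perm (Fin 315)) := {h | ∃ a b, h = A a * B b}
    have hmaps : Set.MapsTo (fun h => S j * h) E E := by
      rintro _ ⟨a, b, rfl⟩
      obtain ⟨a', b', e⟩ := S_mul j a
      obtain ⟨r, hr⟩ := B_mul b' b
      refine ⟨a', r, ?_⟩
      show S j * (A a * B b) = _
      rw [← mul_assoc, e, mul_assoc, hr]
    have hsurj : Set.SurjOn (fun h => S j * h) E E :=
      ((Set.toFinite E).injOn_iff_bijOn_of_mapsTo hmaps).mp (fun u _ v _ e => mul_left_cancel e) |>.surjOn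
    obtain ⟨u, hu, he⟩ := hsurj ih
    rw [← he]
    obtain ⟨a, b, rfl⟩ := hu
    exact ⟨a, b, inv_mul_cancel_left _ _⟩

lemma stab0_fix {h : Equiv.Perm (Fin 315)} (hh : h ∈ stab0) : h 0 = 0 := by
  obtain ⟨a, b, rfl⟩ := stab0_eq hh
  rw [Equiv.Perm.mul_apply, (B_points b).1, (A_points a).1]

lemma gperm_T (g : Fin 4) (x : Fin 315) : ∃ a b, gperm g * T x = T (gperm g x) * (A a * B b) := by
  have h : check1 g x = true := by
    obtain ⟨g, hg⟩ := g
    interval_cases g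
    · exact List.all_eq_true.mp J2ChainCheck0.factor_a x (List.mem_range.mpr x.2)
    · exact List.all_eq_true.mp J2ChainCheck0.factor_b x (List.mem_range.mpr x.2)
    · exact List.all_eq_true.mp J2ChainCheck2.factor_a x (List.mem_range.mpr x.2)
    · exact List.all_eq_true.mp J2ChainCheck2.factor_b x (List.mem_range.mpr x.2)
  simp only [check1, Bool.and_eq_true, Nat.blt_eq] at h
  obtain ⟨⟨ha, hb⟩, he⟩ := h
  refine ⟨⟨_, ha⟩, ⟨_, hb⟩, Equiv.ext fun i => Fin.ext ?_⟩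
  simp only [Equiv.Perm.mul_apply]
  rw [rep_gperm g, T_rep x, T_rep (gperm g x), A_rep, B_rep]
  exact Nat.eq_of_beq_eq_true (List.all_eq_true.mp he i (List.mem_range.mpr i.2))

theorem factor {σ : Equiv.Perm (Fin 315)} (hσ : σ ∈ lineGroup) : ∃ x, ∃ h ∈ stab0, σ = T x * h := by
  classical
  induction hσ using Subgroup.closure_induction_left with
  | one =>
    refine ⟨0, 1, one_mem _, ?_⟩
    rw [mul_one]
    refine (Equiv.ext fun i => Fin.ext ?_).symm
    rw [T_rep, Equiv.Perm.one_apply]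
    have h : onPoints (fun i => Nat.beq (at9 (t1 0) i) i) = true := by decide +kernel
    exact Nat.eq_of_beq_eq_true (List.all_eq_true.mp h i (List.mem_range.mpr i.2))
  | mul_left x hx y _ ih =>
    obtain ⟨g, rfl⟩ := hx
    obtain ⟨x, h, hh, rfl⟩ := ih
    obtain ⟨a, b, e⟩ := gperm_T g x
    exact ⟨gperm g x, A a * B b * h, mul_mem (mul_mem (A_mem a) (B_mem b)) hh, by rw [← mul_assoc, e, mul_assoc]⟩
  | inv_mul_cancel x hx y _ ih =>
    obtain ⟨g, rfl⟩ := hx
    have hinv : (gperm g)⁻¹ = gperm g := Equiv.ext fun i => by rw [Equiv.Perm.inv_def]; rfl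
    rw [hinv]
    obtain ⟨x, h, hh, rfl⟩ := ih
    obtain ⟨a, b, e⟩ := gperm_T g x
    exact ⟨gperm g x, A a * B b * h, mul_mem (mul_mem (A_mem a) (B_mem b)) hh, by rw [← mul_assoc, e, mul_assoc]⟩

/-- An element fixing the first point lies in `stab0`. -/
theorem mem_stab0 {σ : Equiv.Perm (Fin 315)} (hσ : σ ∈ lineGroup) (h0 : σ 0 = 0) : σ ∈ stab0 := by
  obtain ⟨x, h, hh, rfl⟩ := factor hσ
  rw [Equiv.Perm.mul_apply, stab0_fix hh, T_zero] at h0
  subst h0
  obtain ⟨y, h', hh', e⟩ := factor (one_mem lineGroup)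
  have e0 := congrArg (fun f : Equiv.Perm (Fin 315) => f 0) e
  simp only [Equiv.Perm.one_apply, Equiv.Perm.mul_apply, stab0_fix hh', T_zero] at e0
  subst e0
  exact mul_mem (eq_inv_of_mul_eq_one_left e.symm ▸ inv_mem hh') hh

lemma points2_inj {a a' : Fin 160} (h : A a 106 = A a' 106) : a = a' := by
  obtain ⟨h2, -, l2, -⟩ := points_nodup
  have e := congrArg Fin.val h
  rw [(A_points a).2, (A_points a').2, List.getD_eq_getElem _ _ (by omega), List.getD_eq_getElem _ _ (by omega)] at e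
  exact Fin.ext ((h2.getElem_inj_iff).mp e)

lemma points3_inj {b b' : Fin 12} (h : B b 1 = B b' 1) : b = b' := by
  obtain ⟨-, h3, -, l3, -⟩ := points_nodup
  have e := congrArg Fin.val h
  rw [(B_points b).2.2, (B_points b').2.2, List.getD_eq_getElem _ _ (by omega), List.getD_eq_getElem _ _ (by omega)] at e
  exact Fin.ext ((h3.getElem_inj_iff).mp e)

lemma AB_inj {a a' : Fin 160} {b b' : Fin 12} (h : A a * B b = A a' * B b') : a = a' ∧ b = b' := by
  have h1 : A a 106 = A a' 106 := by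
    have e := congrArg (fun f : Equiv.Perm (Fin 315) => f 106) h
    simpa [Equiv.Perm.mul_apply, (B_points _).2.1] using e
  obtain rfl := points2_inj h1
  exact ⟨rfl, points3_inj (congrArg (fun f : Equiv.Perm (Fin 315) => f 1) (mul_left_cancel h))⟩

/-- The base `0, 106, 1` has trivial stabiliser. -/
theorem eq_one_of_fix {σ : Equiv.Perm (Fin 315)} (hσ : σ ∈ lineGroup) (h0 : σ 0 = 0) (h1 : σ 106 = 106)
    (h2 : σ 1 = 1) : σ = 1 := by
  obtain ⟨a, b, rfl⟩ := stab0_eq (mem_stab0 hσ h0)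
  rw [Equiv.Perm.mul_apply, (B_points b).2.1] at h1
  have ha : a = 0 := points2_inj (a' := 0) (by rw [h1, A_zero]; rfl)
  subst ha
  rw [A_zero, one_mul] at h2 ⊢
  rw [points3_inj (b := b) (b' := 0) (by rw [h2, B_zero]; rfl), B_zero]

theorem card_stab0 : Nat.card stab0 = 1920 := by
  rw [show 1920 = Nat.card (Fin 160 × Fin 12) by simp]
  refine (Nat.card_eq_of_bijective (fun p => (⟨A p.1 * B p.2, mul_mem (A_mem _) (B_mem _)⟩ : stab0)) ⟨?_, ?_⟩).symm
  · rintro ⟨a, b⟩ ⟨a', b'⟩ h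
    obtain ⟨rfl, rfl⟩ := AB_inj (congrArg Subtype.val h)
    rfl
  · rintro ⟨h, hh⟩
    obtain ⟨a, b, rfl⟩ := stab0_eq hh
    exact ⟨(a, b), rfl⟩

theorem card_lineGroup : Nat.card lineGroup = 604800 := by
  rw [show 604800 = Nat.card (Fin 315 × stab0) by rw [Nat.card_prod, card_stab0, Nat.card_fin]]
  refine (Nat.card_eq_of_bijective (fun p => (⟨T p.1 * p.2.1, mul_mem (T_mem _) (stab0_le p.2.2)⟩ : lineGroup)) ⟨?_, ?_⟩).symm
  · rintro ⟨x, h, hh⟩ ⟨x', h', hh'⟩ e
    have e' : T x * h = T x' * h' := congrArg Subtype.val e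
    have e0 := congrArg (fun f : Equiv.Perm (Fin 315) => f 0) e'
    simp only [Equiv.Perm.mul_apply, stab0_fix hh, stab0_fix hh', T_zero] at e0
    subst e0
    rw [Prod.mk.injEq]
    exact ⟨rfl, Subtype.ext (mul_left_cancel e')⟩
  · rintro ⟨σ, hσ⟩
    obtain ⟨x, h, hh, rfl⟩ := factor hσ
    exact ⟨(x, ⟨h, hh⟩), rfl⟩

theorem card_J2 : Nat.card Cfsg.Spor.J2 = 604800 :=
  (Nat.card_congr toLineGroup.toEquiv).trans card_lineGroup

theorem card_twoJ2 : Nat.card Cfsg.Spor.twoJ2 = 1209600 := by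
  rw [Subgroup.card_eq_card_quotient_mul_card_subgroup toLines.ker, card_ker,
    Nat.card_congr (QuotientGroup.quotientKerEquivRange toLines).toEquiv, range_toLines, card_lineGroup]

end Cfsg.Agent.J2Chain
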