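import Cfsg.Agent.Lib.J2VectorData
import Cfsg.Agent.Lib.J2ChainData

set_option autoImplicit false
set_option maxRecDepth 100000

/-! Packed permutation helpers for the stabiliser chain. -/

namespace Cfsg.Agent.J2ChainDefs

open Cfsg.Agent.J2VectorData Cfsg.Agent.J2ChainData

/-- An entry of a packed permutation. -/
def at9 (P i : ℕ) : ℕ := (P >>> (9 * i)) % 512
/-- First transversal. -/
def t1 (x : ℕ) : ℕ := (trans1.getD (x / 16) []).getD (x % 16) 0
/-- Second transversal. -/
def t2 (a : ℕ) : ℕ := (trans2.getD (a / 16) []).getD (a % 16) 0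
/-- Third transversal. -/
def t3 (b : ℕ) : ℕ := trans3.getD b 0
/-- Generators. -/
def gp (g : ℕ) : ℕ := genPerm.getD g 0
/-- Stabiliser generators. -/
def sp (j : ℕ) : ℕ := stabPerm.getD j 0
/-- Factorisation of a generator times the first transversal. -/
def f1 (g x : ℕ) : ℕ := (factor1.getD g 0 >>> (12 * x)) % 4096
/-- Factorisation inside the stabiliser. -/
def f2 (j a : ℕ) : ℕ := (factor2.getD j 0 >>> (12 * a)) % 4096
/-- Product in the third transversal. -/
def m3 (p q : ℕ) : ℕ := (table3 >>> (4 * (12 * p + q))) % 16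
/-- Check on all points. -/
def onPoints (f : ℕ → Bool) : Bool := (List.range 315).all f

/-- `g * T1 x = T1 (g x) * A a * B b`. -/
def check1 (g x : ℕ) : Bool :=
  let T := t1 x
  let U := t1 (at9 (gp g) x)
  let A := t2 (f1 g x / 16)
  let B := t3 (f1 g x % 16)
  let G := gp g
  Nat.blt (f1 g x / 16) 160 && Nat.blt (f1 g x % 16) 12 &&
    onPoints fun i => Nat.beq (at9 G (at9 T i)) (at9 U (at9 A (at9 B i)))

/-- `s * A a = A a' * B b`. -/
def check2 (j a : ℕ) : Bool :=
  let S := sp j
  let A := t2 a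
  let A' := t2 (f2 j a / 16)
  let B := t3 (f2 j a % 16)
  Nat.blt (f2 j a / 16) 160 && Nat.blt (f2 j a % 16) 12 &&
    onPoints fun i => Nat.beq (at9 S (at9 A i)) (at9 A' (at9 B i))

end Cfsg.Agent.J2ChainDefs
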