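import Cfsg.Agent.Lib.J2EnumData

set_option autoImplicit false
set_option maxRecDepth 100000

/-! Kernel search over all small vectors with icosian parity. -/

namespace Cfsg.Agent.J2EnumCheck

open Cfsg.Agent.J2EnumData

/-- Norm code. -/
def nk (x : ℕ) : ℕ := x % 65536
/-- Parity. -/
def pp (x : ℕ) : ℕ := (x >>> 16) % 256
/-- Digits. -/
def dg (x : ℕ) : ℕ := x >>> 24
/-- Number of entries and packed entries in a hash bucket. -/
def slot (c : ℕ) : ℕ × ℕ := (hashTable.getD ((c % 1021) / 32) []).getD ((c % 1021) % 32) (0, 0)
/-- An entry of a packed bucket. -/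
def slotEntry (b : ℕ) (k : ℕ) : ℕ := (b >>> (56 * k)) % 72057594037927936
/-- Hash membership. -/
def stored (c : ℕ) : Bool :=
  (List.range (slot c).1).any fun k => Nat.beq (slotEntry (slot c).2 k % 4294967296) c
/-- A leaf of the search. -/
def leafOK (x0 x1 x2 x3 : ℕ) : Bool :=
  let s := nk x0 + nk x1 + nk x2 + nk x3
  Nat.blt 17407 s || otherCodes.any (Nat.beq s) ||
    (usedCodes.any (Nat.beq s) && stored (dg x0 + 256 * dg x1 + 65536 * dg x2 + 16777216 * dg x3))
/-- The search below the first two pairs. -/
def searchTwo (x0 x1 : ℕ) : Bool :=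
  Nat.blt 17000 (nk x0 + nk x1) || pairCodes.all fun x2 =>
    Nat.blt 17200 (nk x0 + nk x1 + nk x2) ||
      [0, 1, 2, 3].all fun c =>
        Nat.beq ((lastMask >>> (4 * (pp x0 + 4 * pp x1 + 16 * pp x2) + c)) % 2) 0 ||
          (pairsByParity.getD c []).all fun x3 => leafOK x0 x1 x2 x3
/-- The search below the first pair. -/
def searchOne (x0 : ℕ) : Bool := pairCodes.all fun x1 => searchTwo x0 x1

set_option maxHeartbeats 0 in
theorem search_low : (pairCodes.take 24).all searchOne = true := by decide +kernel

set_option maxHeartbeats 0 in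
theorem search_high : (pairCodes.drop 24).all searchOne = true := by decide +kernel

theorem search_ok : ∀ x ∈ pairCodes, searchOne x = true := by
  intro x hx
  rw [← List.take_append_drop 24 pairCodes, List.mem_append] at hx
  rcases hx with h | h
  · exact List.all_eq_true.mp search_low x h
  · exact List.all_eq_true.mp search_high x h

end Cfsg.Agent.J2EnumCheck
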