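import Cfsg.Agent.Lib.J2Out76
import Cfsg.Agent.Lib.J2Centralizer
import Cfsg.Agent.Lib.FusionSimpleCrit

/-!
The fusion system of `J2` at the prime two is simple.
-/

set_option autoImplicit false
set_option maxRecDepth 100000

namespace Cfsg.Agent.J2Fusion76

open scoped Pointwise
open Cfsg Cfsg.Agent.J2ChainDefs Cfsg.Agent.J2ChainData Cfsg.Agent.J2OrderData Cfsg.Agent.J2OrderDefs
  Cfsg.Agent.J2Lines Cfsg.Agent.J2Group Cfsg.Agent.J2Chain Cfsg.Agent.J2Simple
  Cfsg.Agent.J2Centralizer Cfsg.Agent.J2Out76 Cfsg.Agent.J2OutData76 Cfsg.Agent.FusionSimpleCrit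

/-- An element of the stabiliser as an element of the line group. -/
noncomputable def cs (a : Fin 160) (b : Fin 12) : lineGroup :=
  ⟨A a * B b, stab0_le (mul_mem (A_mem a) (B_mem b))⟩

theorem cs_rep (a : Fin 160) (b : Fin 12) : RepF (fun i => ev2 a b i) (cs a b) := fun i => by
  show ((A a * B b) i : ℕ) = _
  rw [Equiv.Perm.mul_apply, A_rep, B_rep]
  rfl

theorem cs_mem (a : Fin 160) (b : Fin 12) : (cs a b).1 ∈ stab0 := mul_mem (A_mem a) (B_mem b)

/-- The stabiliser in the line group. -/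
noncomputable def C : Subgroup lineGroup := stab0.subgroupOf lineGroup

theorem mem_C {σ : lineGroup} : σ ∈ C ↔ σ.1 0 = 0 := by
  rw [C, Subgroup.mem_subgroupOf]
  refine ⟨fun h => ?_, fun h => mem_stab0 σ.2 h⟩
  obtain ⟨a, b, e⟩ := stab0_eq h
  rw [e, Equiv.Perm.mul_apply, (B_points b).1, (A_points a).1]

/-- The embedding of the stabiliser. -/
noncomputable def inc : stab0 →* lineGroup := Subgroup.inclusion stab0_le

theorem ref_val (k : Fin 315) : (ref k).1 = lineRefl k := rfl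

theorem ref_inj {j k : Fin 315} (h : ref j = ref k) : j = k := by
  let t : lineGroup := ⟨T k, T_mem k⟩
  have h1 : ref ((t⁻¹ : lineGroup).1 j) = ref ((t⁻¹ : lineGroup).1 k) := by
    rw [← conj_ref, ← conj_ref, h]
  have hk : (t⁻¹ : lineGroup).1 k = 0 := by
    show (T k)⁻¹ k = 0
    rw [Equiv.Perm.inv_eq_iff_eq]
    exact (T_zero k).symm
  rw [hk] at h1
  have h2 : (t⁻¹ : lineGroup).1 j = 0 := lineRefl_eq_zero (j := (t⁻¹ : lineGroup).1 j) (by
    rw [← ref_val, ← ref_val, h1])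
  exact (t⁻¹ : lineGroup).1.injective (h2.trans hk.symm)

theorem commute_ref {σ : lineGroup} {j : Fin 315} (h : σ * ref j = ref j * σ) : σ.1 j = j :=
  ref_inj (by rw [← conj_ref, h, mul_inv_cancel_right])

/-- The radical of the stabiliser. -/
noncomputable def Q : Subgroup lineGroup := phi.ker.map inc

/-- The lines whose reflections generate the radical. -/
def qline (i : Fin 5) : Fin 315 := [0, 9, 306, 307, 308].getD i 0

/-- The indices of those reflections. -/
def qidx (i : Fin 5) : Fin 32 := [21, 18, 7, 5, 27].getD i 0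

theorem kElem_inc (i : Fin 32) : inc (kElem i) = cs (kA i) (kB i) := rfl

theorem kz_one : kElem 0 = 1 := by
  have h := kElem_mul 0 0
  rw [ktab_facts.2.1] at h
  exact mul_eq_left.1 h

theorem gen_ok : ∀ i : Fin 5, ∀ p ∈ [(0 : Fin 315), 106, 1],
    ev2 (kA (qidx i)) (kB (qidx i)) (at9 (t1 (qline i)) p) = at9 (t1 (qline i)) (at9 (gp 0) p) := by
  decide +kernel

theorem gen_ref (i : Fin 5) : inc (kElem (qidx i)) = ref (qline i) := by
  set t := el (qline i) 0 0
  have ht : RepF (at9 (t1 (qline i))) t := fun k => by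
    show ((T (qline i) * (A 0 * B 0)) k : ℕ) = _
    rw [A_zero, B_zero, mul_one, mul_one, T_rep]
  have h := gen_ok i
  have key : inc (kElem (qidx i)) * t = t * ref 0 := by
    refine eq_of_base (f := fun k => ev2 (kA (qidx i)) (kB (qidx i)) (at9 (t1 (qline i)) k))
      (g := fun k => at9 (t1 (qline i)) (at9 (gp 0) k)) (fun k => ?_) (fun k => ?_) ?_
    · show ((inc (kElem (qidx i))).1 (t.1 k) : ℕ) = _
      rw [kElem_inc, cs_rep, ht]
    · show (t.1 ((ref 0).1 k) : ℕ) = _
      rw [ht, ref_rep_zero]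
    · simp only [baseEq, Bool.and_eq_true, Nat.beq_eq]
      exact ⟨⟨h 0 (by simp), h 106 (by simp)⟩, h 1 (by simp)⟩
  have h1 : inc (kElem (qidx i)) = t * ref 0 * t⁻¹ := eq_mul_inv_of_mul_eq key
  rw [h1, conj_ref]
  congr 1
  show (T (qline i) * (A 0 * B 0)) 0 = _
  rw [A_zero, B_zero, mul_one, mul_one, T_zero]

/-- A word in the generators of the radical. -/
def word (e : Fin 32) : Fin 32 :=
  (List.finRange 5).foldl (fun acc i => if e.val.testBit i.val then ktab acc (qidx i) else acc) 0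

theorem word_all : ∀ i : Fin 32, ∃ e, word e = i := by decide +kernel

theorem kElem_mem_gen (i : Fin 32) (U : Subgroup lineGroup) (hU : ∀ j, ref (qline j) ∈ U) :
    inc (kElem i) ∈ U := by
  obtain ⟨e, rfl⟩ := word_all i
  unfold word
  have key : ∀ (l : List (Fin 5)) (acc : Fin 32), inc (kElem acc) ∈ U →
      inc (kElem (l.foldl (fun acc i => if e.val.testBit i.val then ktab acc (qidx i) else acc) acc)) ∈ U := by
    intro l
    induction l with
    | nil => exact fun acc h => h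
    | cons x l ih =>
      intro acc h
      rw [List.foldl_cons]
      refine ih _ ?_
      split
      · rw [← kElem_mul, map_mul, gen_ref]
        exact mul_mem h (hU x)
      · exact h
  exact key _ _ (by rw [kz_one, map_one]; exact one_mem U)

theorem Q_le {U : Subgroup lineGroup} (hU : ∀ j, ref (qline j) ∈ U) : Q ≤ U := by
  rintro _ ⟨h, hh, rfl⟩
  obtain ⟨i, rfl⟩ := kElem_surj hh
  exact kElem_mem_gen i U hU

theorem ref_mem_Q (i : Fin 5) : ref (qline i) ∈ Q := by
  rw [← gen_ref]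
  exact ⟨_, kElem_mem _, rfl⟩

theorem fix_ok : ((List.range 160).all fun a => (List.range 12).all fun b =>
    !(Nat.beq (ev2 a b 9) 9 && Nat.beq (ev2 a b 306) 306 && Nat.beq (ev2 a b 307) 307 &&
      Nat.beq (ev2 a b 308) 308) || (Nat.beq a 0 && Nat.beq b 0) || (Nat.beq a 117 && Nat.beq b 6)) = true := by
  decide +kernel

theorem cs_zero : cs 0 0 = 1 := Subtype.ext (by show A 0 * B 0 = 1; rw [A_zero, B_zero, one_mul])

theorem z_base : baseEq (ev2 117 6) (at9 (gp 0)) = true := by decide +kernel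

theorem cs_z : cs 117 6 = ref 0 := eq_of_base (cs_rep 117 6) ref_rep_zero z_base

/-- The centraliser of the radical has order two. -/
theorem centralizer_Q {x : lineGroup} (hx : ∀ i, x * ref (qline i) = ref (qline i) * x) :
    x = 1 ∨ x = ref 0 := by
  have h0 : x ∈ C := mem_C.2 (commute_ref (hx 0))
  obtain ⟨a, b, e⟩ := stab0_eq (Subgroup.mem_subgroupOf.1 h0)
  have hx' : x = cs a b := Subtype.ext e
  have hf : ∀ i, ev2 a b (qline i) = qline i := fun i => by
    exact (cs_rep a b (qline i)).symm.trans (by rw [← hx', commute_ref (hx i)])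
  have h := List.all_eq_true.mp (List.all_eq_true.mp fix_ok a (List.mem_range.mpr a.2)) b
    (List.mem_range.mpr b.2)
  simp only [Bool.or_eq_true, Bool.and_eq_true, Bool.not_eq_true', Nat.beq_eq] at h
  rcases h with (h | ⟨ha, hb⟩) | ⟨ha, hb⟩
  · have h' := hf 1
    have h2 := hf 2
    have h3 := hf 3
    have h4 := hf 4
    simp [qline] at h' h2 h3 h4
    simp [h', h2, h3, h4] at h
  · exact Or.inl (by rw [hx', Fin.ext (a := a) (b := 0) ha, Fin.ext (a := b) (b := 0) hb, cs_zero])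
  · exact Or.inr (by rw [hx', Fin.ext (a := a) (b := 117) ha, Fin.ext (a := b) (b := 6) hb, cs_z])

theorem ref_zero_mem_C : ref 0 ∈ C := mem_C.2 (commute_ref rfl)

theorem Q_le_C : Q ≤ C := by
  rintro _ ⟨h, -, rfl⟩
  exact Subgroup.mem_subgroupOf.2 h.2

theorem C_normalizes_Q {c q : lineGroup} (hc : c ∈ C) (hq : q ∈ Q) : c * q * c⁻¹ ∈ Q := by
  obtain ⟨h, hh, rfl⟩ := hq
  refine ⟨(⟨c.1, Subgroup.mem_subgroupOf.1 hc⟩ : stab0) * h *
    (⟨c.1, Subgroup.mem_subgroupOf.1 hc⟩ : stab0)⁻¹, phi.normal_ker.conj_mem _ hh _, ?_⟩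
  rw [map_mul, map_mul, map_inv]
  rfl

/-- A four-group of even permutations. -/
def four : Subgroup (Equiv.Perm (Fin 5)) where
  carrier := {σ | σ ∈ [1, Equiv.swap 0 1 * Equiv.swap 2 3, Equiv.swap 0 2 * Equiv.swap 1 3,
    Equiv.swap 0 3 * Equiv.swap 1 2]}
  one_mem' := List.mem_cons_self
  mul_mem' := by
    intro a b ha hb
    simp only [Set.mem_ofPred_eq, List.mem_cons, List.not_mem_nil, or_false] at ha hb ⊢
    rcases ha with rfl | rfl | rfl | rfl <;> rcases hb with rfl | rfl | rfl | rfl <;> decide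
  inv_mem' := by
    intro a ha
    simp only [Set.mem_ofPred_eq, List.mem_cons, List.not_mem_nil, or_false] at ha ⊢
    rcases ha with rfl | rfl | rfl | rfl <;> decide

theorem mem_four {σ : Equiv.Perm (Fin 5)} : σ ∈ four ↔ σ ∈ [1, Equiv.swap 0 1 * Equiv.swap 2 3,
    Equiv.swap 0 2 * Equiv.swap 1 3, Equiv.swap 0 3 * Equiv.swap 1 2] := Iff.rfl

theorem card_four : Nat.card four = 4 := by
  have : four = (four : Subgroup _) := rfl
  have h : ∀ σ, σ ∈ four ↔ σ ∈ ([1, Equiv.swap 0 1 * Equiv.swap 2 3, Equiv.swap 0 2 * Equiv.swap 1 3,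
    Equiv.swap 0 3 * Equiv.swap 1 2] : List (Equiv.Perm (Fin 5))).toFinset := fun σ => by
    rw [List.mem_toFinset, mem_four]
  rw [Nat.card_congr (Equiv.subtypeEquivRight h), Nat.card_eq_fintype_card, Fintype.card_coe]
  decide

theorem four_le : four ≤ phi.range := by
  rw [range_eq]
  intro σ hσ
  simp only [mem_four, List.mem_cons, List.not_mem_nil, or_false] at hσ
  rw [Equiv.Perm.mem_alternatingGroup]
  rcases hσ with rfl | rfl | rfl | rfl <;> decide

/-- A Sylow subgroup. -/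
noncomputable def P : Subgroup lineGroup := (four.comap phi).map inc

theorem card_P : Nat.card P = 128 := by
  rw [P, Nat.card_congr ((four.comap phi).equivMapOfInjective inc
    (Subgroup.inclusion_injective stab0_le)).toEquiv.symm]
  have h1 := Subgroup.card_mul_index (four.comap phi)
  rw [Subgroup.index_comap, card_stab0] at h1
  have h2 := Subgroup.card_mul_index (four.subgroupOf phi.range)
  rw [Nat.card_congr (Subgroup.subgroupOfEquivOfLe four_le).toEquiv, card_four] at h2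
  have h3 : Nat.card phi.range = 60 := by
    have h4 : 2 * Nat.card (alternatingGroup (Fin 5)) = 120 := by
      rw [two_mul_nat_card_alternatingGroup, Nat.card_perm, Nat.card_fin]; rfl
    rw [range_eq]; omega
  rw [h3] at h2
  change 4 * four.relIndex phi.range = 60 at h2
  rw [show four.relIndex phi.range = 15 by omega] at h1
  omega

theorem P_le_C : P ≤ C := by
  rintro _ ⟨h, -, rfl⟩
  exact Subgroup.mem_subgroupOf.2 h.2

theorem Q_le_P : Q ≤ P := Subgroup.map_mono fun h hh => by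
  rw [Subgroup.mem_comap, MonoidHom.mem_ker.1 hh]
  exact one_mem _

theorem five_data : (∀ i, five 140 7 i = ((Equiv.swap 0 1 * Equiv.swap 2 3) : Equiv.Perm (Fin 5)) i) ∧
    (∀ i, five 140 6 i = ((Equiv.swap 0 2 * Equiv.swap 1 3) : Equiv.Perm (Fin 5)) i) ∧
    (∀ i, five 87 0 i = i) ∧ (∀ i, five 77 0 i = i) := by decide +kernel

theorem phi_cs (a : Fin 160) (b : Fin 12) (σ : Equiv.Perm (Fin 5)) (h : ∀ i, five a b i = σ i) :
    phi ⟨(cs a b).1, cs_mem a b⟩ = σ :=
  Equiv.ext fun i => (act_eq (h := ⟨(cs a b).1, cs_mem a b⟩) rfl i).trans (h i)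

theorem cs_mem_P {a : Fin 160} {b : Fin 12} {σ : Equiv.Perm (Fin 5)} (h : ∀ i, five a b i = σ i)
    (hσ : σ ∈ four) : cs a b ∈ P :=
  ⟨⟨(cs a b).1, cs_mem a b⟩, by rw [SetLike.mem_coe, Subgroup.mem_comap, phi_cs a b σ h]; exact hσ, rfl⟩

theorem cs_mem_Q {a : Fin 160} {b : Fin 12} (h : ∀ i, five a b i = i) : cs a b ∈ Q :=
  ⟨⟨(cs a b).1, cs_mem a b⟩, phi_cs a b 1 h, rfl⟩

theorem p_mem : cs 140 7 ∈ P ∧ cs 140 6 ∈ P :=
  ⟨cs_mem_P five_data.1 (by rw [mem_four]; decide), cs_mem_P five_data.2.1 (by rw [mem_four]; decide)⟩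

theorem p_base : baseEq (fun i => ev2 140 7 (ev 310 0 0 i)) (fun i => ev 310 0 0 (ev2 87 0 i)) = true ∧
    baseEq (fun i => ev2 140 6 (ev 309 0 0 i)) (fun i => ev 309 0 0 (ev2 77 0 i)) = true := by
  decide +kernel

theorem conj_p {a a' : Fin 160} {b b' : Fin 12} {x : Fin 315}
    (h : baseEq (fun i => ev2 a b (ev x 0 0 i)) (fun i => ev x 0 0 (ev2 a' b' i)) = true) :
    el x 0 0 * cs a' b' * (el x 0 0)⁻¹ = cs a b := by
  rw [mul_inv_eq_iff_eq_mul]
  refine (eq_of_base (fun i => ?_) (fun i => ?_) h).symm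
  · show ((cs a b).1 ((el x 0 0).1 i) : ℕ) = _
    rw [cs_rep, el_rep]
    rfl
  · show ((el x 0 0).1 ((cs a' b').1 i) : ℕ) = _
    rw [el_rep]
    show ev x 0 0 ((cs a' b').1 i) = _
    rw [cs_rep]

theorem P_le {U : Subgroup lineGroup} (hU : Q ≤ U) (h1 : cs 140 7 ∈ U) (h2 : cs 140 6 ∈ U) : P ≤ U := by
  rintro _ ⟨h, hh, rfl⟩
  have key : ∀ y : stab0, inc y ∈ U → phi h = phi y → inc h ∈ U := fun y hy e => by
    have hq : inc (y⁻¹ * h) ∈ U := hU ⟨_, by rw [SetLike.mem_coe, MonoidHom.mem_ker, map_mul, map_inv, e, inv_mul_cancel], rfl⟩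
    have := mul_mem hy hq
    rwa [← map_mul, mul_inv_cancel_left] at this
  have e1 := phi_cs 140 7 _ five_data.1
  have e2 := phi_cs 140 6 _ five_data.2.1
  rw [SetLike.mem_coe, Subgroup.mem_comap, mem_four] at hh
  simp only [List.mem_cons, List.not_mem_nil, or_false] at hh
  rcases hh with e | e | e | e
  · exact key 1 (by rw [map_one]; exact one_mem U) (by rw [e, map_one])
  · exact key ⟨_, cs_mem 140 7⟩ h1 (by rw [e, e1])
  · exact key ⟨_, cs_mem 140 6⟩ h2 (by rw [e, e2])
  · refine key (⟨_, cs_mem 140 7⟩ * ⟨_, cs_mem 140 6⟩) (by rw [map_mul]; exact mul_mem h1 h2) ?_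
    rw [e, map_mul, e1, e2]
    decide

theorem split_ok : baseEq (at9 (sp 0)) (fun i => ev2 47 3 (ev2 27 3 i)) = true ∧
    baseEq (fun i => ev2 47 3 (ev2 47 3 i)) id = true ∧ baseEq (fun i => ev2 27 3 (ev2 27 3 i)) id = true ∧
    baseEq (fun i => iter (at9 (sp 1)) 4 i) id = true := by decide +kernel

theorem two_power {x : lineGroup} {n : ℕ} (h : x ^ 2 ^ n = 1) : ∃ k, orderOf x = 2 ^ k := by
  obtain ⟨k, -, hk⟩ := (Nat.dvd_prime_pow Nat.prime_two).1 (orderOf_dvd_of_pow_eq_one h)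
  exact ⟨k, hk⟩

theorem C_gen {D : Subgroup lineGroup} (hD : ∀ x ∈ C, ∀ n : ℕ, x ^ 2 ^ n = 1 → x ∈ D) : C ≤ D := by
  have hs : ∀ j : Fin 2, (⟨S j, S_mem j⟩ : lineGroup) ∈ C := fun j =>
    Subgroup.mem_subgroupOf.2 (Subgroup.subset_closure ⟨j, rfl⟩)
  have hinv : ∀ a b, baseEq (fun i => ev2 a b (ev2 a b i)) id = true → ∀ (ha : a < 160) (hb : b < 12),
      cs ⟨a, ha⟩ ⟨b, hb⟩ ∈ D := fun a b h ha hb => hD _ (Subgroup.mem_subgroupOf.2 (cs_mem _ _)) 1 (by
    rw [pow_one, pow_two]
    refine eq_of_base (fun i => ?_) repF_one h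
    show ((cs _ _).1 ((cs _ _).1 i) : ℕ) = _
    rw [cs_rep, cs_rep])
  have h0 : (⟨S 0, S_mem 0⟩ : lineGroup) = cs 47 3 * cs 27 3 := by
    refine eq_of_base (f := at9 (sp 0)) (fun i => S_rep 0 i) (fun i => ?_) split_ok.1
    show ((cs 47 3).1 ((cs 27 3).1 i) : ℕ) = _
    rw [cs_rep, cs_rep]
    rfl
  have key : stab0 ≤ D.map lineGroup.subtype := by
    refine (Subgroup.closure_le _).2 ?_
    rintro _ ⟨j, rfl⟩
    refine ⟨⟨S j, S_mem j⟩, ?_, rfl⟩
    fin_cases j
    · show (⟨S 0, S_mem 0⟩ : lineGroup) ∈ D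
      rw [h0]
      exact mul_mem (hinv 47 3 split_ok.2.1 (by norm_num) (by norm_num))
        (hinv 27 3 split_ok.2.2.1 (by norm_num) (by norm_num))
    · refine hD _ (hs 1) 2 ?_
      exact eq_of_base (repF_iter (f := at9 (sp 1)) (fun i => S_rep 1 i) 4) repF_one split_ok.2.2.2
  intro x hx
  obtain ⟨y, hy, e⟩ := key (Subgroup.mem_subgroupOf.1 hx)
  rwa [show x = y from Subtype.ext e.symm]

theorem ref_zero_mem_Q : ref 0 ∈ Q := ref_mem_Q 0

theorem isSimple_of_equiv {G : Type*} [Group G] [Finite G] (e₀ : lineGroup ≃* G) (S : Sylow 2 G) :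
    (groupFusionSystem (S : Subgroup G)).IsSimple 2 := by
  classical
  have : Fact (Nat.Prime 2) := ⟨Nat.prime_two⟩
  have hG : Nat.card G = 2 ^ 7 * 4725 := by rw [← Nat.card_congr e₀.toEquiv, card_lineGroup]; norm_num
  let T₀ : Sylow 2 G := Sylow.ofCard (P.map e₀.toMonoidHom) (by
    rw [← Nat.card_congr (P.equivMapOfInjective e₀.toMonoidHom e₀.injective).toEquiv, card_P, hG,
      Nat.factorization_mul (by norm_num) (by norm_num), Finsupp.add_apply,
      Nat.Prime.factorization_pow Nat.prime_two, Finsupp.single_eq_same,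
      Nat.factorization_eq_zero_of_not_dvd (by norm_num)]
    rfl)
  obtain ⟨g, hg⟩ := MulAction.exists_smul_eq G T₀ S
  obtain ⟨e, hS⟩ : ∃ e : lineGroup ≃* G, (S : Subgroup G) = P.map e.toMonoidHom := by
    refine ⟨e₀.trans (MulAut.conj g), ?_⟩
    rw [← hg, Sylow.coe_subgroup_smul]
    show (P.map e₀.toMonoidHom).map (MulAut.conj g).toMonoidHom = _
    rw [Subgroup.map_map]
    rfl
  have hmem : ∀ x, e x ∈ (S : Subgroup G) ↔ x ∈ P := fun x => by
    rw [hS]
    exact Subgroup.mem_map_iff_mem e.injective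
  have hcentral : ∀ u ∈ (S : Subgroup G), (∀ s ∈ (S : Subgroup G), s * u = u * s) → u ≠ 1 →
      u = e (ref 0) := by
    intro u hu hc hu1
    obtain ⟨x, rfl⟩ := e.surjective u
    have hx : ∀ i, x * ref (qline i) = ref (qline i) * x := fun i => e.injective (by
      rw [map_mul, map_mul]
      exact (hc _ ((hmem _).2 (Q_le_P (ref_mem_Q i)))).symm)
    rcases centralizer_Q hx with rfl | rfl
    · exact absurd (map_one e) hu1
    · rfl
  have hzS : e (ref 0) ∈ (S : Subgroup G) := (hmem _).2 (Q_le_P ref_zero_mem_Q)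
  have hzc : ∀ x ∈ C, x * ref 0 = ref 0 * x := fun x hx => by
    rw [← mul_inv_eq_iff_eq_mul, conj_ref, mem_C.1 hx]
  refine isSimple_of_closed_gen (fun h => ?_) (fun U hU hne => ?_) ?_
  · have hz : e (ref 0) = 1 := by rwa [h, Subgroup.mem_bot] at hzS
    exact ref_ne_one (e.injective (hz.trans (map_one e).symm))
  · refine le_antisymm hU.1 ?_
    obtain ⟨u, huU, hu1, huS, huc⟩ := exists_central_mem hU hne
    obtain rfl := hcentral u huS huc hu1
    let U' := U.comap e.toMonoidHom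
    have hcl : ∀ x y : lineGroup, y ∈ U' → x * y * x⁻¹ ∈ P → x * y * x⁻¹ ∈ U' := by
      intro x y hy hP
      have := mem_of_conj hU (g := e x) (t := e y) hy (by
        rw [← map_inv, ← map_mul, ← map_mul]
        exact (hmem _).2 hP)
      rw [← map_inv, ← map_mul, ← map_mul] at this
      exact this
    have hq : Q ≤ U' := Q_le fun i => by
      have h := hcl (el (qline i) 0 0) (ref 0) huU
      have e1 : el (qline i) 0 0 * ref 0 * (el (qline i) 0 0)⁻¹ = ref (qline i) := by
        rw [conj_ref]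
        congr 1
        show (T (qline i) * (A 0 * B 0)) 0 = _
        rw [A_zero, B_zero, mul_one, mul_one, T_zero]
      rw [e1] at h
      exact h (Q_le_P (ref_mem_Q i))
    have hp1 : cs 140 7 ∈ U' := by
      have h := hcl (el 310 0 0) (cs 87 0) (hq (cs_mem_Q five_data.2.2.1))
      rw [conj_p (a := 140) (b := 7) (a' := 87) (b' := 0) (x := 310) p_base.1] at h
      exact h p_mem.1
    have hp2 : cs 140 6 ∈ U' := by
      have h := hcl (el 309 0 0) (cs 77 0) (hq (cs_mem_Q five_data.2.2.2))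
      rw [conj_p (a := 140) (b := 6) (a' := 77) (b' := 0) (x := 309) p_base.2] at h
      exact h p_mem.2
    rw [hS]
    rintro _ ⟨x, hx, rfl⟩
    exact P_le hq hp1 hp2 hx
  · intro y hy
    obtain ⟨w, rfl⟩ := e.surjective y
    have hwS : ∀ s : G, s ∈ (S : Subgroup G) ↔ e w * s * (e w)⁻¹ ∈ (S : Subgroup G) :=
      Subgroup.mem_normalizer_iff.1 hy
    have hw : w * ref 0 * w⁻¹ = ref 0 := e.injective (hcentral _ (by
      rw [map_mul, map_mul, map_inv]
      exact (hwS _).1 hzS) (fun s hs => by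
      obtain ⟨t, ht⟩ : ∃ t, t = (e w)⁻¹ * s * e w := ⟨_, rfl⟩
      have hts : s = e w * t * (e w)⁻¹ := by rw [ht]; group
      have htS : t ∈ (S : Subgroup G) := (hwS t).2 (hts ▸ hs)
      obtain ⟨v, rfl⟩ := e.surjective t
      rw [hts, ← map_inv, ← map_mul, ← map_mul, ← map_mul, ← map_mul]
      refine congrArg e ?_
      have hv := hzc v (P_le_C ((hmem v).1 htS))
      calc w * v * w⁻¹ * (w * ref 0 * w⁻¹) = w * (v * ref 0) * w⁻¹ := by group
        _ = w * (ref 0 * v) * w⁻¹ := by rw [hv]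
        _ = w * ref 0 * w⁻¹ * (w * v * w⁻¹) := by group)
      (fun h => ref_ne_one (conj_eq_one_iff.1 (e.injective (h.trans (map_one e).symm)))))
    have hwC : w ∈ C := by
      rw [conj_ref] at hw
      exact mem_C.2 (ref_inj hw)
    set R := Q.map e.toMonoidHom with hR
    have hCN : ∀ c ∈ C, e c ∈ Subgroup.normalizer (R : Set G) := by
      intro c hc
      rw [Subgroup.mem_normalizer_iff]
      intro x
      obtain ⟨v, rfl⟩ := e.surjective x
      rw [← map_inv, ← map_mul, ← map_mul]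
      simp only [hR]
      refine ⟨?_, ?_⟩
      · rintro ⟨q, hq, hqv⟩
        obtain rfl := e.injective hqv
        exact ⟨_, C_normalizes_Q hc hq, rfl⟩
      · rintro ⟨q, hq, hqv⟩
        refine ⟨v, ?_, rfl⟩
        have h := C_normalizes_Q (inv_mem hc) hq
        rw [e.injective hqv] at h
        rwa [show c⁻¹ * (c * v * c⁻¹) * c⁻¹⁻¹ = v by group] at h
    refine Subgroup.subset_closure (Or.inr (Or.inr ⟨hy, R, ?_, ?_, ?_, hCN w hwC, ?_⟩))
    · rw [hS]; exact Subgroup.map_mono Q_le_P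
    · rw [hS]
      rintro _ ⟨v, hv, rfl⟩
      exact hCN v (P_le_C hv)
    · intro x hx
      obtain ⟨v, rfl⟩ := e.surjective x
      have hv : ∀ i, v * ref (qline i) = ref (qline i) * v := fun i => e.injective (by
        rw [map_mul, map_mul]
        exact (Subgroup.mem_centralizer_iff.1 hx _ (Subgroup.mem_map_of_mem _ (ref_mem_Q i))).symm)
      refine Subgroup.mem_map_of_mem _ ?_
      rcases centralizer_Q hv with rfl | rfl
      · exact one_mem Q
      · exact ref_zero_mem_Q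
    · have hle : C ≤ (Subgroup.closure {a : G | a ∈ Subgroup.normalizer (R : Set G) ∧
          ∃ k : ℕ, orderOf a = 2 ^ k}).comap e.toMonoidHom := by
        refine C_gen fun x hx n hn => Subgroup.subset_closure ⟨hCN x hx, ?_⟩
        obtain ⟨k, hk⟩ := two_power hn
        exact ⟨k, by rw [MulEquiv.coe_toMonoidHom, MulEquiv.orderOf_eq, hk]⟩
      exact hle hwC

/-- The fusion system of a group isomorphic to `J2` at the prime two is simple. -/
theorem main {G : Type*} [Group G] [Finite G] (hG : Cfsg.Spor.IsoJ2 G) (S : Sylow 2 G) :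
    (groupFusionSystem (S : Subgroup G)).IsSimple 2 := by
  obtain ⟨e⟩ := hG
  exact isSimple_of_equiv ((e.trans toLineGroup).symm) S

end Cfsg.Agent.J2Fusion76
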