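import Cfsg.Agent.Lib.J2Table
import Cfsg.Agent.Lib.J2Lines

set_option autoImplicit false
set_option maxRecDepth 100000

/-! Kernel verification of the normalised norm-4 triples. -/

namespace Cfsg.Agent.J2Triples

open Cfsg.Agent.IcosianData Cfsg.Agent.IcosianCoords Cfsg.Agent.J2VectorData Cfsg.Agent.J2MinimalData Cfsg.Agent.J2Table

/-- The normalised triples. -/
def triplesOK : Bool :=
  (List.range 9).all fun i => (List.range 9).all fun j => (List.range 9).all fun l =>
    let Ni := usedNorms.getD i (0, 0)
    let Nj := usedNorms.getD j (0, 0)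
    let Nl := usedNorms.getD l (0, 0)
    !(decide (Ni.1 + Nj.1 + Nl.1 = 16) && decide (Ni.2 + Nj.2 + Nl.2 = 0)) ||
    ((normReps.getD i []).all fun r0 =>
      (if i = 0 then normReps.getD j [] else bucket j (key r0)).all fun x =>
        !(key x == key r0) || ((if i = 0 && j = 0 then normReps.getD l [] else bucket l (key x)).all fun y =>
          !(inL ⟨r0, x, y⟩) || roots.contains ⟨r0, x, y⟩))

set_option maxHeartbeats 0 in
theorem triples_ok : triplesOK = true := by decide +kernel

end Cfsg.Agent.J2Triples
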