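import Cfsg.Agent.Lib.J2TableWitness
import Cfsg.Agent.Lib.J2Triples

set_option autoImplicit false
set_option maxRecDepth 100000

/-! Every norm-4 vector of the icosian Leech lattice is a unit multiple of one of the 315 roots. -/

namespace Cfsg.Agent.J2Minimal

open Cfsg.Agent.IcosianData Cfsg.Agent.IcosianCoords Cfsg.Agent.IcosianRefl Cfsg.Agent.J2VectorData
  Cfsg.Agent.J2Lines Cfsg.Agent.J2MinimalData Cfsg.Agent.J2Table Cfsg.Agent.J2TableWitness Cfsg.Agent.J2Triples
  Cfsg.Agent.J2EnumData Cfsg.Agent.J2EnumCheck Cfsg.Spor Quaternion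

/-- Square sum of a pair. -/
def sq2 (p : ℤ × ℤ) : ℤ := p.1 * p.1 + p.2 * p.2
/-- Parity of a pair. -/
def par2 (p : ℤ × ℤ) : ℕ := (p.1 % 2 + 2 * (p.2 % 2)).toNat

theorem normReps_zero : normReps.getD 0 [] = [zero] ∧ usedNorms.getD 0 (0, 0) = (0, 0) ∧ usedNorms.length = 9 ∧
    usedNorms.Nodup ∧ nrm zero = (0, 0) := by decide +kernel

theorem key_lt : key zero = 0 := by decide +kernel

lemma mem_smallPairs {a b : ℤ} (h : a * a + b * b ≤ 16) : (a, b) ∈ smallPairs := by
  have ha : -4 ≤ a ∧ a ≤ 4 := ⟨by nlinarith, by nlinarith⟩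
  have hb : -4 ≤ b ∧ b ≤ 4 := ⟨by nlinarith, by nlinarith⟩
  have key : ∀ i ∈ List.range 9, ∀ j ∈ List.range 9, ((i : ℤ) - 4) * ((i : ℤ) - 4) + ((j : ℤ) - 4) * ((j : ℤ) - 4) ≤ 16 →
      (((i : ℤ) - 4), ((j : ℤ) - 4)) ∈ smallPairs := by decide +kernel
  have := key (a + 4).toNat (List.mem_range.mpr (by omega)) (b + 4).toNat (List.mem_range.mpr (by omega))
  rw [show (((a + 4).toNat : ℕ) : ℤ) - 4 = a by omega, show (((b + 4).toNat : ℕ) : ℤ) - 4 = b by omega] at this
  exact this h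

lemma dec_code {q : Ico} (h : (nrm q).1 ≤ 16) : dec (code q) = q := by
  obtain ⟨a0, b0, a1, b1, a2, b2, a3, b3⟩ := q
  simp only [nrm] at h
  have n0 := mul_self_nonneg a0
  have n1 := mul_self_nonneg b0
  have n2 := mul_self_nonneg a1
  have n3 := mul_self_nonneg b1
  have n4 := mul_self_nonneg a2
  have n5 := mul_self_nonneg b2
  have n6 := mul_self_nonneg a3
  have n7 := mul_self_nonneg b3
  have bound : ∀ a : ℤ, a * a ≤ 16 → -4 ≤ a ∧ a ≤ 4 := fun a ha => ⟨by nlinarith, by nlinarith⟩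
  obtain ⟨p0, q0⟩ := bound a0 (by linarith)
  obtain ⟨p1, q1⟩ := bound b0 (by linarith)
  obtain ⟨p2, q2⟩ := bound a1 (by linarith)
  obtain ⟨p3, q3⟩ := bound b1 (by linarith)
  obtain ⟨p4, q4⟩ := bound a2 (by linarith)
  obtain ⟨p5, q5⟩ := bound b2 (by linarith)
  obtain ⟨p6, q6⟩ := bound a3 (by linarith)
  obtain ⟨p7, q7⟩ := bound b3 (by linarith)
  simp only [dec, code, Ico.mk.injEq]
  omega

/-- Packed code of a pair. -/
def encPair (p : ℤ × ℤ) : ℕ :=
  ((sq2 p * 1024 + (2 * p.1 * p.2 + p.2 * p.2 + 64)) + 65536 * (p.1 % 2 + 2 * (p.2 % 2))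
    + 16777216 * ((p.1 + 4) + 16 * (p.2 + 4))).toNat

theorem enc_ok : ∀ p ∈ smallPairs, encPair p ∈ pairCodes ∧
    encPair p ∈ pairsByParity.getD (par2 p) [] ∧
    (nk (encPair p) : ℤ) = sq2 p * 1024 + (2 * p.1 * p.2 + p.2 * p.2 + 64) ∧
    pp (encPair p) = par2 p ∧ (dg (encPair p) : ℤ) = (p.1 + 4) + 16 * (p.2 + 4) ∧
    0 ≤ 2 * p.1 * p.2 + p.2 * p.2 + 64 ∧ 2 * p.1 * p.2 + p.2 * p.2 + 64 ≤ 100 := by decide +kernel

theorem last_complete : ∀ c ∈ parities,
    (lastMask >>> (4 * (c % 64) + c / 64)) % 2 = 1 ∧ c / 64 ∈ [0, 1, 2, 3] := by decide +kernel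

theorem norm_codes : ∀ s ∈ otherCodes ++ usedCodes,
    (s ∈ otherCodes → (((s / 1024 : ℕ) : ℤ), ((s % 1024 : ℕ) : ℤ) - 256) ∈ otherNorms) ∧
    (s ∈ usedCodes → (((s / 1024 : ℕ) : ℤ), ((s % 1024 : ℕ) : ℤ) - 256) ∈ usedNorms) := by decide +kernel

/-- The search covers every small icosian. -/
theorem small_cases {q : Ico} (hI : inI q = true) (hA : (nrm q).1 ≤ 16) :
    nrm q ∈ otherNorms ∨ (nrm q ∈ usedNorms ∧ q ∈ bucket (nIdx (nrm q)) (key q)) := by
  have hqc : dec (code q) = q := dec_code hA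
  obtain ⟨a0, b0, a1, b1, a2, b2, a3, b3⟩ := q
  simp only [nrm] at hA
  have n0 := mul_self_nonneg a0
  have n1 := mul_self_nonneg b0
  have n2 := mul_self_nonneg a1
  have n3 := mul_self_nonneg b1
  have n4 := mul_self_nonneg a2
  have n5 := mul_self_nonneg b2
  have n6 := mul_self_nonneg a3
  have n7 := mul_self_nonneg b3
  obtain ⟨m0, -, k0, r0, d0, l0, u0⟩ := enc_ok _ (mem_smallPairs (a := a0) (b := b0) (by linarith))
  obtain ⟨m1, -, k1, r1, d1, l1, u1⟩ := enc_ok _ (mem_smallPairs (a := a1) (b := b1) (by linarith))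
  obtain ⟨m2, -, k2, r2, d2, l2, u2⟩ := enc_ok _ (mem_smallPairs (a := a2) (b := b2) (by linarith))
  obtain ⟨-, m3, k3, r3, d3, l3, u3⟩ := enc_ok _ (mem_smallPairs (a := a3) (b := b3) (by linarith))
  simp only [sq2] at k0 k1 k2 k3 d0 d1 d2 d3 l0 l1 l2 l3 u0 u1 u2 u3
  have h := List.all_eq_true.mp (search_ok _ m0) _ m1
  simp only [searchTwo, Bool.or_eq_true, Nat.blt_eq, List.all_eq_true] at h
  rcases h with h | h
  · exfalso; linarith [(by exact_mod_cast h : (17000 : ℤ) < nk (encPair (a0, b0)) + nk (encPair (a1, b1)))]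
  rcases h _ m2 with h' | h'
  · exfalso
    linarith [(by exact_mod_cast h' :
      (17200 : ℤ) < nk (encPair (a0, b0)) + nk (encPair (a1, b1)) + nk (encPair (a2, b2)))]
  obtain ⟨hl, hc⟩ := last_complete _ (par_lt _ hI)
  have hpar := h' _ hc
  have e1 : par ⟨a0, b0, a1, b1, a2, b2, a3, b3⟩ % 64 =
      pp (encPair (a0, b0)) + 4 * pp (encPair (a1, b1)) + 16 * pp (encPair (a2, b2)) := by
    rw [r0, r1, r2]; simp only [par, par2]; omega
  have e2 : par ⟨a0, b0, a1, b1, a2, b2, a3, b3⟩ / 64 = par2 (a3, b3) := by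
    simp only [par, par2]; omega
  rw [e1] at hl
  rcases hpar with hb | hb
  · rw [Nat.eq_of_beq_eq_true hb] at hl
    exact absurd hl (by norm_num)
  rw [e2] at hb
  have hleaf := hb _ m3
  simp only [leafOK, Bool.or_eq_true, Bool.and_eq_true, Nat.blt_eq, List.any_eq_true] at hleaf
  set s := nk (encPair (a0, b0)) + nk (encPair (a1, b1)) + nk (encPair (a2, b2)) + nk (encPair (a3, b3)) with hs
  have hsZ : (s : ℤ) = (nrm ⟨a0, b0, a1, b1, a2, b2, a3, b3⟩).1 * 1024 +
      ((nrm ⟨a0, b0, a1, b1, a2, b2, a3, b3⟩).2 + 256) := by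
    simp only [hs, nrm]; push_cast; linarith
  have hN : (((s / 1024 : ℕ) : ℤ), ((s % 1024 : ℕ) : ℤ) - 256) = nrm ⟨a0, b0, a1, b1, a2, b2, a3, b3⟩ := by
    have hr : 0 ≤ (nrm ⟨a0, b0, a1, b1, a2, b2, a3, b3⟩).2 + 256 ∧
        (nrm ⟨a0, b0, a1, b1, a2, b2, a3, b3⟩).2 + 256 < 1024 := by
      simp only [nrm]; constructor <;> linarith
    refine Prod.ext ?_ ?_ <;> simp only <;> omega
  rcases hleaf with (hb1 | ⟨t, ht, hte⟩) | ⟨⟨t, ht, hte⟩, hst⟩
  · exfalso
    have : (17407 : ℤ) < s := by exact_mod_cast hb1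
    rw [hsZ] at this
    simp only [nrm] at this
    linarith
  · left
    rw [← Nat.eq_of_beq_eq_true hte] at ht
    exact hN ▸ (norm_codes s (List.mem_append_left _ ht)).1 ht
  · right
    rw [← Nat.eq_of_beq_eq_true hte] at ht
    refine ⟨hN ▸ (norm_codes s (List.mem_append_right _ ht)).2 ht, ?_⟩
    set c := dg (encPair (a0, b0)) + 256 * dg (encPair (a1, b1)) + 65536 * dg (encPair (a2, b2)) +
      16777216 * dg (encPair (a3, b3)) with hcdef
    have hcode : c = code ⟨a0, b0, a1, b1, a2, b2, a3, b3⟩ := by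
      simp only [hcdef, code]; omega
    simp only [stored, List.any_eq_true] at hst
    obtain ⟨k, hk, hke⟩ := hst
    have hkc := Nat.eq_of_beq_eq_true hke
    have hmm : slot (c % 1021) = slot c := by simp only [slot, Nat.mod_mod]
    have hp := List.all_eq_true.mp (List.all_eq_true.mp pointers_ok (c % 1021)
      (List.mem_range.mpr (Nat.mod_lt _ (by norm_num)))) k (by rw [hmm]; exact hk)
    rw [hmm] at hp
    simp only [pointerOK, Bool.and_eq_true, decide_eq_true_eq] at hp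
    obtain ⟨⟨p1, p2⟩, p3⟩ := hp
    rw [hkc] at p1
    rw [hkc] at p3
    have hdc : dec c = ⟨a0, b0, a1, b1, a2, b2, a3, b3⟩ := by rw [hcode, hqc]
    rw [hdc] at p1
    rw [p1] at p2 p3
    rw [bucket, List.mem_map]
    exact ⟨_, List.mem_range.mpr p2, by
      rw [show (2 : ℕ) ^ 32 = 4294967296 by norm_num, p3, hcode, hqc]⟩

lemma val_self_mul (q : Ico) : val q * star (val q) =
    (((((nrm q).1 : ℝ) + (nrm q).2 * tau) / 4 : ℝ) : ℍ[ℝ]) := by
  have h := tau_sq
  rw [Quaternion.self_mul_star]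
  congr 1
  rw [Quaternion.normSq_def']
  simp only [val_re, val_imI, val_imJ, val_imK, nrm]
  push_cast
  grind

/-- Coordinates of a norm-4 vector have small norms. -/
lemma coord_cases {v : Ico3} (hv : inL v = true) (hn : norm4 v = true) :
    (nrm v.x).1 + (nrm v.y).1 + (nrm v.z).1 = 16 ∧ (nrm v.x).2 + (nrm v.y).2 + (nrm v.z).2 = 0 ∧
    ∀ q ∈ [v.x, v.y, v.z], inI q = true ∧ (nrm q).1 ≤ 16 ∧ nrm q ∈ usedNorms ∧
      q ∈ bucket (nIdx (nrm q)) (key q) := by
  simp only [inL, Bool.and_eq_true] at hv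
  obtain ⟨⟨⟨⟨⟨hx, hy⟩, hz⟩, -⟩, -⟩, -⟩ := hv
  have h := (norm4_iff v).mp hn
  simp only [qip, Fin.sum_univ_three] at h
  change val v.x * star (val v.x) + val v.y * star (val v.y) + val v.z * star (val v.z) = 4 at h
  rw [val_self_mul, val_self_mul, val_self_mul, ← Quaternion.coe_add, ← Quaternion.coe_add] at h
  have h' := congrArg QuaternionAlgebra.re h
  rw [Quaternion.re_coe] at h'
  have h4 : (4 : ℍ[ℝ]).re = 4 := rfl
  rw [h4] at h'
  have hs := int_tau_inj (a := (nrm v.x).1 + (nrm v.y).1 + (nrm v.z).1) (b := (nrm v.x).2 + (nrm v.y).2 + (nrm v.z).2)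
    (c := 16) (d := 0) (by push_cast; linear_combination 4 * h')
  refine ⟨hs.1, hs.2, ?_⟩
  have hA : ∀ q, 0 ≤ (nrm q).1 := fun q => by
    have := mul_self_nonneg q.a0; have := mul_self_nonneg q.b0; have := mul_self_nonneg q.a1
    have := mul_self_nonneg q.b1; have := mul_self_nonneg q.a2; have := mul_self_nonneg q.b2
    have := mul_self_nonneg q.a3; have := mul_self_nonneg q.b3
    simp only [nrm]; linarith
  have hconj : ∀ q, 0 ≤ ((nrm q).1 : ℝ) + (nrm q).2 * tau ∧ 0 ≤ ((nrm q).1 : ℝ) + (nrm q).2 * (1 - tau) := by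
    intro q
    have ht := tau_sq
    constructor
    · have : ((nrm q).1 : ℝ) + (nrm q).2 * tau = ((q.a0 : ℝ) + q.b0 * tau) ^ 2 + ((q.a1 : ℝ) + q.b1 * tau) ^ 2 +
          ((q.a2 : ℝ) + q.b2 * tau) ^ 2 + ((q.a3 : ℝ) + q.b3 * tau) ^ 2 := by
        simp only [nrm]; push_cast; grind
      rw [this]; positivity
    · have : ((nrm q).1 : ℝ) + (nrm q).2 * (1 - tau) = ((q.a0 : ℝ) + q.b0 * (1 - tau)) ^ 2 +
          ((q.a1 : ℝ) + q.b1 * (1 - tau)) ^ 2 + ((q.a2 : ℝ) + q.b2 * (1 - tau)) ^ 2 +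
          ((q.a3 : ℝ) + q.b3 * (1 - tau)) ^ 2 := by
        simp only [nrm]; push_cast; grind
      rw [this]; positivity
  have hsum1 : ((nrm v.x).1 : ℝ) + (nrm v.y).1 + (nrm v.z).1 = 16 := by exact_mod_cast hs.1
  have hsum2 : ((nrm v.x).2 : ℝ) + (nrm v.y).2 + (nrm v.z).2 = 0 := by exact_mod_cast hs.2
  obtain ⟨x1, x2⟩ := hconj v.x
  obtain ⟨y1, y2⟩ := hconj v.y
  obtain ⟨z1, z2⟩ := hconj v.z
  have hmem : ∀ q ∈ [v.x, v.y, v.z], inI q = true ∧ (nrm q).1 ≤ 16 ∧
      ((nrm q).1 : ℝ) + (nrm q).2 * tau ≤ 16 ∧ ((nrm q).1 : ℝ) + (nrm q).2 * (1 - tau) ≤ 16 := by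
    have := hA v.x; have := hA v.y; have := hA v.z
    intro q hq
    simp only [List.mem_cons, List.not_mem_nil, or_false] at hq
    rcases hq with rfl | rfl | rfl
    · exact ⟨hx, by omega, by nlinarith, by nlinarith⟩
    · exact ⟨hy, by omega, by nlinarith, by nlinarith⟩
    · exact ⟨hz, by omega, by nlinarith, by nlinarith⟩
  intro q hq
  obtain ⟨hI, hle, u1, u2⟩ := hmem q hq
  rcases small_cases hI hle with hc | ⟨hu, hl⟩
  · exfalso
    have htau : 1.618 < tau ∧ tau < 1.6181 := by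
      have h5 : 2.236 < Real.sqrt 5 ∧ Real.sqrt 5 < 2.2362 :=
        ⟨by rw [Real.lt_sqrt (by norm_num)]; norm_num, by rw [Real.sqrt_lt' (by norm_num)]; norm_num⟩
      simp only [tau]; constructor <;> linarith [h5.1, h5.2]
    simp only [otherNorms, List.mem_cons, List.not_mem_nil, or_false] at hc
    obtain ⟨t1, t2⟩ := htau
    rcases hc with e | e | e | e | e | e | e | e | e | e | e | e | e | e <;> rw [e] at u1 u2 <;>
      (norm_num at u1 u2; linarith)
  · exact ⟨hI, hle, hu, hl⟩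

lemma bucket_rep {n c : ℕ} (hn : n < 9) (hc : c < 16) {q : Ico} (h : q ∈ bucket n c) :
    ∃ u ∈ units, ∃ r ∈ normReps.getD n [], val q = val u * val r := by
  rw [bucket, List.mem_map] at h
  obtain ⟨j, hj, rfl⟩ := h
  have h' := List.all_eq_true.mp (List.all_eq_true.mp table_witness (16 * n + c) (List.mem_range.mpr (by omega))) j hj
  simp only [Bool.and_eq_true, decide_eq_true_eq] at h'
  obtain ⟨⟨h1, h2⟩, h3⟩ := h'
  rw [show (16 * n + c) / 16 = n by omega] at h2 h3
  refine ⟨_, ?_, _, ?_, (val_mul h3).symm⟩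
  · rw [List.getD_eq_getElem _ _ (by rw [show units.length = 120 from rfl]; exact h1)]
    exact List.getElem_mem _
  · rw [List.getD_eq_getElem _ _ h2]
    exact List.getElem_mem _

lemma key_lt16 (q : Ico) : key q < 16 := by
  simp only [key]; omega

lemma nIdx_lt {N : ℤ × ℤ} (h : N ∈ usedNorms) : nIdx N < 9 ∧ usedNorms.getD (nIdx N) (0, 0) = N := by
  have hl := normReps_zero.2.2.1
  have hi := List.idxOf_lt_length_iff.mpr h
  refine ⟨hl ▸ hi, ?_⟩
  rw [nIdx, List.getD_eq_getElem _ _ hi, List.getElem_idxOf]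

/-- The four functionals defining the class. -/
def forms (q : Ico) : List ℤ :=
  [2 * q.b2 + 2 * q.b3, 2 * q.a2 + 2 * q.a3, q.b0 + q.b1 + q.b2 + 2 * q.a3 - q.b3,
   q.a0 + q.a1 + q.a2 + q.a3 + 2 * q.b3]

theorem forms_reps : ∀ r ∈ parityRep, ∀ i < 4, (forms (rawmul r hh)).getD i 0 % 8 = 0 := by decide +kernel

lemma forms_raw (w : Ico) : ∀ i < 4, (forms (rawmul w hh)).getD i 0 % 4 = 0 := by
  intro i hi
  interval_cases i <;> simp only [forms, rawmul, hh, List.getD_cons_zero, List.getD_cons_succ] <;> omega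

lemma forms_add_two (r w : Ico) (i : ℕ) (hi : i < 4) :
    (forms (rawmul (add r (smul 2 w)) hh)).getD i 0 =
      (forms (rawmul r hh)).getD i 0 + 2 * (forms (rawmul w hh)).getD i 0 := by
  interval_cases i <;> simp only [forms, rawmul, hh, add, smul, List.getD_cons_zero, List.getD_cons_succ] <;> ring

lemma forms_two (d : Ico) (i : ℕ) (hi : i < 4) : (forms (smul 2 d)).getD i 0 = 2 * (forms d).getD i 0 := by
  interval_cases i <;> simp only [forms, smul, List.getD_cons_zero, List.getD_cons_succ] <;> ring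

lemma forms_ideal {c : Ico} (hc : inI c = true) {d : Ico} (e : rawmul c hh = smul 2 d) :
    ∀ i < 4, (forms d).getD i 0 % 4 = 0 := by
  obtain ⟨r, hr, w, rfl⟩ := inI_decomp hc
  intro i hi
  have h1 := forms_add_two r w i hi
  rw [e, forms_two d i hi] at h1
  have h2 := forms_reps r hr i hi
  have h3 := forms_raw w i hi
  omega

/-- The functionals vanish modulo 4 on the left ideal of `h`. -/
lemma key_eq_of_ideal {p q : Ico} (hp : inI p = true) (hq : inI q = true) (h : inIh hh (sub p q) = true) :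
    key p = key q := by
  have hb := val_hh_norm
  obtain ⟨a, ha, e⟩ := (inIh_iff hb.1 hb.2 (inI_sub hp hq)).mp h
  obtain ⟨c, hc, rfl⟩ := (mem_icosians _).mp ha
  have e2 : rawmul c hh = smul 2 (sub p q) := by
    apply val_injective
    rw [val_smul, e, val_rawmul, smul_smul]
    norm_num
  have hf := forms_ideal hc e2
  have h0 := hf 0 (by norm_num)
  have h1 := hf 1 (by norm_num)
  have h2 := hf 2 (by norm_num)
  have h3 := hf 3 (by norm_num)
  simp only [forms, sub, List.getD_cons_zero, List.getD_cons_succ] at h0 h1 h2 h3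
  have k0 : (2 * p.b2 + 2 * p.b3) % 4 = (2 * q.b2 + 2 * q.b3) % 4 := by omega
  have k1 : (2 * p.a2 + 2 * p.a3) % 4 = (2 * q.a2 + 2 * q.a3) % 4 := by omega
  have k2 : (1 * p.b0 + 1 * p.b1 + 1 * p.b2 + 2 * p.a3 + (-1) * p.b3) % 4 =
      (1 * q.b0 + 1 * q.b1 + 1 * q.b2 + 2 * q.a3 + (-1) * q.b3) % 4 := by omega
  have k3 : (1 * p.a0 + 1 * p.a1 + 1 * p.a2 + 1 * p.a3 + 2 * p.b3) % 4 =
      (1 * q.a0 + 1 * q.a1 + 1 * q.a2 + 1 * q.a3 + 2 * q.b3) % 4 := by omega
  simp only [key, k0, k1, k2, k3]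

lemma val3_eq_of {v : Ico3} {w : Fin 3 → ℍ[ℝ]} (h0 : val v.x = w 0) (h1 : val v.y = w 1) (h2 : val v.z = w 2) :
    val3 v = w := by
  funext t; fin_cases t
  exacts [h0, h1, h2]

lemma normalised_mem {v : Ico3} (hv : inL v = true) (hn : norm4 v = true)
    (hrep : v.x ∈ normReps.getD (nIdx (nrm v.x)) [] ∧
      (v.x = zero → v.y ∈ normReps.getD (nIdx (nrm v.y)) [] ∧
        (v.y = zero → v.z ∈ normReps.getD (nIdx (nrm v.z)) []))) :
    v ∈ roots := by
  obtain ⟨s1, s2, hc⟩ := coord_cases hv hn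
  obtain ⟨hIx, -, hux, hbx⟩ := hc v.x (by simp)
  obtain ⟨hIy, -, huy, hby⟩ := hc v.y (by simp)
  obtain ⟨hIz, -, huz, hbz⟩ := hc v.z (by simp)
  have hL := hv
  simp only [inL, Bool.and_eq_true] at hL
  obtain ⟨⟨⟨-, d1⟩, d2⟩, -⟩ := hL
  have k1 := key_eq_of_ideal hIx hIy d1
  have k2 := key_eq_of_ideal hIy hIz d2
  have ht := triples_ok
  rw [triplesOK, List.all_eq_true] at ht
  have ht1 := List.all_eq_true.mp (List.all_eq_true.mp (ht _ (List.mem_range.mpr (nIdx_lt hux).1)) _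
    (List.mem_range.mpr (nIdx_lt huy).1)) _ (List.mem_range.mpr (nIdx_lt huz).1)
  simp only [(nIdx_lt hux).2, (nIdx_lt huy).2, (nIdx_lt huz).2, s1, s2, Bool.or_eq_true, Bool.not_eq_true',
    decide_true, Bool.and_self, Bool.false_eq_true, false_or, reduceCtorEq] at ht1
  have hz0 : ∀ {q : Ico}, nrm q ∈ usedNorms → q ∈ normReps.getD (nIdx (nrm q)) [] → nIdx (nrm q) = 0 → q = zero := by
    intro q _ hq h0
    rw [h0, normReps_zero.1] at hq
    exact List.mem_singleton.mp hq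
  have t2 := List.all_eq_true.mp ht1 v.x hrep.1 
  have hy' : v.y ∈ (if nIdx (nrm v.x) = 0 then normReps.getD (nIdx (nrm v.y)) [] else
      bucket (nIdx (nrm v.y)) (key v.x)) := by
    split_ifs with h0
    · exact (hrep.2 (hz0 hux hrep.1 h0)).1
    · rw [k1]; exact hby
  have t3 := List.all_eq_true.mp t2 v.y hy'
  simp only [Bool.or_eq_true, Bool.not_eq_true', beq_eq_false_iff_ne, k1, ne_eq, not_true, false_or] at t3
  have hz' : v.z ∈ (if (decide (nIdx (nrm v.x) = 0) && decide (nIdx (nrm v.y) = 0)) = true then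
      normReps.getD (nIdx (nrm v.z)) [] else bucket (nIdx (nrm v.z)) (key v.y)) := by
    split_ifs with h0
    · simp only [Bool.and_eq_true, decide_eq_true_eq] at h0
      have hx0 := hz0 hux hrep.1 h0.1
      exact (hrep.2 hx0).2 (hz0 huy (hrep.2 hx0).1 h0.2)
    · rw [k2]; exact hbz
  have t4 := List.all_eq_true.mp t3 v.z hz'
  simp only [hv, Bool.not_true, Bool.false_or, List.contains_iff_mem] at t4
  exact t4

/-- Every norm-4 vector of the lattice is a unit multiple of a root. -/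
theorem exists_root {r : Fin 3 → ℍ[ℝ]} (hr : r ∈ icoLeech) (hn : qip r r = 4) :
    ∃ k, k < 315 ∧ ∃ u ∈ units, r = lsmul (val u) (val3 (root k)) := by
  obtain ⟨v, hv, rfl⟩ := (mem_icoLeech r).mp hr
  have hn' := (norm4_iff v).mpr hn
  have rep : ∀ q ∈ [v.x, v.y, v.z], ∃ u ∈ units, ∃ s ∈ normReps.getD (nIdx (nrm q)) [],
      val q = val u * val s := by
    intro q hq
    obtain ⟨-, -, hu, hb⟩ := (coord_cases hv hn').2.2 q hq
    exact bucket_rep (nIdx_lt hu).1 (key_lt16 q) hb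
  have main : ∀ w ∈ units, (∀ v' : Ico3, val3 v' = lsmul (star (val w)) (val3 v) → v' ∈ roots) →
      ∃ k, k < 315 ∧ ∃ u ∈ units, val3 v = lsmul (val u) (val3 (root k)) := by
    intro w hw hin
    obtain ⟨hw1, -, -, hwc⟩ := units_norm w hw
    have hl : lsmul (star (val w)) (val3 v) ∈ icoLeech :=
      lattice_smul ((mem_icosians _).mpr ⟨conj w, hwc, val_conj w⟩) ((inL_iff v).mp hv)
    obtain ⟨v', -, hv'⟩ := (mem_icoLeech _).mp hl
    obtain ⟨k, hk, hke⟩ := List.getElem_of_mem (hin v' hv')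
    have hlen : roots.length = 315 := rfl
    refine ⟨k, hlen ▸ hk, w, hw, ?_⟩
    rw [root, List.getD_eq_getElem _ _ hk, hke, hv']
    funext t
    simp only [lsmul]
    rw [← mul_assoc, (unit_star hw).2, one_mul]
  have nrm_unit : ∀ {u s q : Ico}, u ∈ units → val q = val u * val s → nrm q = nrm s := by
    intro u s q hu h
    have e : val q * star (val q) = val s * star (val s) := by
      rw [val_self_mul s, h, star_mul, mul_assoc, ← mul_assoc (val s), val_self_mul s, Quaternion.coe_commutes,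
        ← mul_assoc, (unit_star hu).2, one_mul]
    rw [val_self_mul, val_self_mul, Quaternion.coe_inj] at e
    obtain ⟨e1, e2⟩ := int_tau_inj (a := (nrm q).1) (b := (nrm q).2) (c := (nrm s).1) (d := (nrm s).2)
      (by linear_combination 4 * e)
    exact Prod.ext e1 e2
  obtain ⟨ux, hux, sx, hsx, hx⟩ := rep v.x (by simp)
  obtain ⟨uy, huy, sy, hsy, hy⟩ := rep v.y (by simp)
  obtain ⟨uz, huz, sz, hsz, hz⟩ := rep v.z (by simp)
  obtain ⟨w, hw, hwx, hwy⟩ : ∃ w ∈ units, w = (if sx = zero then (if sy = zero then uz else uy) else ux) ∧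
      True := ⟨_, by split_ifs <;> assumption, rfl, trivial⟩
  refine main w hw fun v' hv' => ?_
  have hL : inL v' = true := by
    rw [inL_iff, hv']
    obtain ⟨-, -, -, hwc⟩ := units_norm w hw
    exact lattice_smul ((mem_icosians _).mpr ⟨conj w, hwc, val_conj w⟩) ((inL_iff v).mp hv)
  have hN : norm4 v' = true := by
    rw [norm4_iff, hv', qip_lsmul_left, qip_lsmul_right, hn, star_star]
    have h4 : (4 : ℍ[ℝ]) * val w = val w * 4 := by
      simp [show (4 : ℍ[ℝ]) = 1 + 1 + 1 + 1 by norm_num, add_mul, mul_add]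
    rw [h4, ← mul_assoc, (unit_star hw).1, one_mul]
  have cx : val v'.x = star (val w) * (val ux * val sx) := by rw [← hx]; exact congrFun hv' 0
  have cy : val v'.y = star (val w) * (val uy * val sy) := by rw [← hy]; exact congrFun hv' 1
  have cz : val v'.z = star (val w) * (val uz * val sz) := by rw [← hz]; exact congrFun hv' 2
  have zero_case : ∀ {u s p : Ico}, s = zero → val p = star (val w) * (val u * val s) → p = zero := by
    intro u s p hs hp
    apply val_injective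
    rw [hp, hs, val_zero, mul_zero, mul_zero]
  have rep_case : ∀ {u s q p : Ico}, u ∈ units → w = u → s ∈ normReps.getD (nIdx (nrm q)) [] →
      val q = val u * val s → val p = star (val w) * (val u * val s) → p ∈ normReps.getD (nIdx (nrm p)) [] := by
    intro u s q p hu hwu hs hq hp
    rw [hwu, ← mul_assoc, (unit_star hu).1, one_mul] at hp
    rw [val_injective hp, ← nrm_unit hu hq]
    exact hs
  have zero_rep : ∀ {p : Ico}, p = zero → p ∈ normReps.getD (nIdx (nrm p)) [] := by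
    intro p hp
    subst hp
    decide +kernel
  refine normalised_mem hL hN ⟨?_, fun hx0 => ⟨?_, fun hy0 => ?_⟩⟩
  all_goals by_cases h1 : sx = zero
  · exact zero_rep (zero_case h1 cx)
  · exact rep_case hux (by rw [hwx, if_neg h1]) hsx hx cx
  · by_cases h2 : sy = zero
    · exact zero_rep (zero_case h2 cy)
    · exact rep_case huy (by rw [hwx, if_pos h1, if_neg h2]) hsy hy cy
  · exfalso
    apply h1
    apply val_injective
    rw [hwx, if_neg h1, ← mul_assoc, (unit_star hux).1, one_mul] at cx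
    rw [← cx, hx0]
  · by_cases h2 : sy = zero
    · exact rep_case huz (by rw [hwx, if_pos h1, if_pos h2]) hsz hz cz
    · exfalso
      apply h2
      apply val_injective
      rw [hwx, if_pos h1, if_neg h2, ← mul_assoc, (unit_star huy).1, one_mul] at cy
      rw [← cy, hy0]
  · exfalso
    apply h1
    apply val_injective
    rw [hwx, if_neg h1, ← mul_assoc, (unit_star hux).1, one_mul] at cx
    rw [← cx, hx0]

end Cfsg.Agent.J2Minimal
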