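import Cfsg.Agent.Lib.SplitVoltageCert

/-!
Certificate data: voltages for the multiplier of J2, part 4.
-/

set_option autoImplicit false
set_option maxRecDepth 100000

namespace Cfsg.Agent.J2Mult76P2Data

open Cfsg.Agent.SplitVoltageCert

/-- table part -/
def nxT_1 : Tr :=
  .nd (.nd (.nd (.nd (.nd (.nd (.nd (.lf 1) (.lf 581)) (.nd (.lf 392) (.lf 0))) (.nd (.nd (.lf 13) (.lf 0)) (.nd (.lf 356) (.lf 0)))) (.nd (.nd (.nd (.lf 106) (.lf 626)) (.nd (.lf 452) (.lf 0))) (.nd (.nd (.lf 103) (.lf 0)) (.nd (.lf 499) (.lf 0))))) (.nd (.nd (.nd (.nd (.lf 39) (.lf 201)) (.nd (.lf 429) (.lf 0))) (.nd (.nd (.lf 262) (.lf 0)) (.nd (.lf 137) (.lf 0)))) (.nd (.nd (.nd (.lf 157) (.lf 432)) (.nd (.lf 230) (.lf 0))) (.nd (.nd (.lf 352) (.lf 0)) (.nd (.lf 220) (.lf 0)))))) (.nd (.nd (.nd (.nd (.nd (.lf 30) (.lf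 586)) (.nd (.lf 411) (.lf 0))) (.nd (.nd (.lf 236) (.lf 0)) (.nd (.lf 527) (.lf 0)))) (.nd (.nd (.nd (.lf 131) (.lf 351)) (.nd (.lf 477) (.lf 0))) (.nd (.nd (.lf 334) (.lf 0)) (.nd (.lf 447) (.lf 0))))) (.nd (.nd (.nd (.nd (.lf 15) (.lf 190)) (.nd (.lf 97) (.lf 0))) (.nd (.nd (.lf 288) (.lf 0)) (.nd (.lf 283) (.lf 0)))) (.nd (.nd (.nd (.lf 184) (.lf 471)) (.nd (.lf 361) (.lf 0))) (.nd (.nd (.lf 372) (.lf 0)) (.nd (.lf 338) (.lf 0))))))) (.nd (.nd (.nd (.nd (.nd (.nd (.lf 16) (.lf 96)) (.nd (.lf 403) (.lf 0))) (.nd (.nd (.lf 223) (.lf 0)) (.nd (.lf 520) (.lf 0)))) (.nd (.nd (.nd (.lf 6) (.lf 437)) (.nd (.lf 45) (.lf 0))) (.nd (.nd (.lf 163) (.lf 0)) (.nd (.lf 371) (.lf 0))))) (.nd (.nd (.nd (.nd (.lf 69) (.lf 577)) (.nd (.lf 74) (.lf 0))) (.nd (.nd (.lf 275) (.lf 0)) (.nd (.lf 540) (.lf 0))))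 (.nd (.nd (.nd (.lf 170) (.lf 610)) (.nd (.lf 497) (.lf 0))) (.nd (.nd (.lf 70) (.lf 0)) (.nd (.lf 494) (.lf 0)))))) (.nd (.nd (.nd (.nd (.nd (.lf 44) (.lf 105)) (.nd (.lf 167) (.lf 0))) (.nd (.nd (.lf 248) (.lf 0)) (.nd (.lf 340) (.lf 0)))) (.nd (.nd (.nd (.lf 8) (.lf 602)) (.nd (.lf 82) (.lf 0))) (.nd (.nd (.lf 296) (.lf 0)) (.nd (.lf 297) (.lf 0))))) (.nd (.nd (.nd (.nd (.lf 93) (.lf 566)) (.nd (.lf 308) (.lf 0))) (.nd (.nd (.lf 300) (.lf 0)) (.nd (.lf 68) (.lf 0)))) (.nd (.nd (.nd (.lf 199) (.lf 579)) (.nd (.lf 506) (.lf 0))) (.nd (.nd (.lf 380) (.lf 0)) (.nd (.lf 588) (.lf 0)))))))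

/-- table part -/
def nxT_2 : Tr :=
  .nd (.nd (.nd (.nd (.nd (.nd (.nd (.lf 2) (.lf 567)) (.nd (.lf 187) (.lf 0))) (.nd (.nd (.lf 216) (.lf 0)) (.nd (.lf 514) (.lf 0)))) (.nd (.nd (.nd (.lf 112) (.lf 599)) (.nd (.lf 468) (.lf 0))) (.nd (.nd (.lf 317) (.lf 0)) (.nd (.lf 469) (.lf 0))))) (.nd (.nd (.nd (.nd (.lf 63) (.lf 303)) (.nd (.lf 434) (.lf 0))) (.nd (.nd (.lf 174) (.lf 0)) (.nd (.lf 213) (.lf 0)))) (.nd (.nd (.nd (.lf 164) (.lf 459)) (.nd (.lf 94) (.lf 0))) (.nd (.nd (.lf 357) (.lf 0)) (.nd (.lf 330) (.lf 0)))))) (.nd (.nd (.nd (.nd (.nd (.lf 4) (.lf 408)) (.nd (.lf 415) (.lf 0))) (.nd (.nd (.lf 243) (.lf 0)) (.nd (.lf 409) (.lf 0)))) (.nd (.nd (.nd (.lf 92) (.lf 589)) (.nd (.lf 358) (.lf 0))) (.nd (.nd (.lf 341) (.lf 0)) (.nd (.lf 463) (.lf 0))))) (.nd (.nd (.nd (.nd (.lf 24) (.lf 504))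 (.nd (.lf 242) (.lf 0))) (.nd (.nd (.lf 295) (.lf 0)) (.nd (.lf 354) (.lf 0)))) (.nd (.nd (.nd (.lf 191) (.lf 435)) (.nd (.lf 368) (.lf 0))) (.nd (.nd (.lf 50) (.lf 0)) (.nd (.lf 585) (.lf 0))))))) (.nd (.nd (.nd (.nd (.nd (.nd (.lf 23) (.lf 541)) (.nd (.lf 381) (.lf 0))) (.nd (.nd (.lf 229) (.lf 0)) (.nd (.lf 417) (.lf 0)))) (.nd (.nd (.nd (.lf 124) (.lf 623)) (.nd (.lf 276) (.lf 0))) (.nd (.nd (.lf 328) (.lf 0)) (.nd (.lf 563) (.lf 0))))) (.nd (.nd (.nd (.nd (.lf 75) (.lf 519)) (.nd (.lf 440) (.lf 0))) (.nd (.nd (.lf 281) (.lf 0)) (.nd (.lf 524) (.lf 0)))) (.nd (.nd (.nd (.lf 177) (.lf 635)) (.nd (.lf 293) (.lf 0))) (.nd (.nd (.lf 367) (.lf 0)) (.nd (.lf 141) (.lf 0)))))) (.nd (.nd (.nd (.nd (.nd (.lf 51) (.lf 545)) (.nd (.lf 425) (.lf 0))) (.nd (.nd (.lf 254) (.lf 0)) (.nd (.lf 241) (.lf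 0)))) (.nd (.nd (.nd (.lf 149) (.lf 631)) (.nd (.lf 486) (.lf 0))) (.nd (.nd (.lf 347) (.lf 0)) (.nd (.lf 532) (.lf 0))))) (.nd (.nd (.nd (.nd (.lf 99) (.lf 614)) (.nd (.lf 127) (.lf 0))) (.nd (.nd (.lf 22) (.lf 0)) (.nd (.lf 274) (.lf 0)))) (.nd (.nd (.nd (.lf 204) (.lf 401)) (.nd (.lf 269) (.lf 0))) (.nd (.nd (.lf 144) (.lf 0)) (.nd (.lf 325) (.lf 0)))))))

/-- table part -/
def nxT_3 : Tr :=
  .nd (.nd (.nd (.nd (.nd (.nd (.nd (.lf 5) (.lf 522)) (.nd (.lf 395) (.lf 0))) (.nd (.nd (.lf 214) (.lf 0)) (.nd (.lf 66) (.lf 0)))) (.nd (.nd (.nd (.lf 109) (.lf 628)) (.nd (.lf 464) (.lf 0))) (.nd (.nd (.lf 314) (.lf 0)) (.nd (.lf 493) (.lf 0))))) (.nd (.nd (.nd (.nd (.lf 59) (.lf 611)) (.nd (.lf 282) (.lf 0))) (.nd (.nd (.lf 266) (.lf 0)) (.nd (.lf 536) (.lf 0)))) (.nd (.nd (.nd (.lf 9) (.lf 391))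 (.nd (.lf 442) (.lf 0))) (.nd (.nd (.lf 355) (.lf 0)) (.nd (.lf 79) (.lf 0)))))) (.nd (.nd (.nd (.nd (.nd (.lf 34) (.lf 603)) (.nd (.lf 413) (.lf 0))) (.nd (.nd (.lf 240) (.lf 0)) (.nd (.lf 180) (.lf 0)))) (.nd (.nd (.nd (.lf 135) (.lf 246)) (.nd (.lf 267) (.lf 0))) (.nd (.nd (.lf 118) (.lf 0)) (.nd (.lf 568) (.lf 0))))) (.nd (.nd (.nd (.nd (.lf 84) (.lf 546)) (.nd (.lf 448) (.lf 0))) (.nd (.nd (.lf 292) (.lf 0)) (.nd (.lf 548) (.lf 0)))) (.nd (.nd (.nd (.lf 188) (.lf 620)) (.nd (.lf 457) (.lf 0))) (.nd (.nd (.lf 117) (.lf 0)) (.nd (.lf 470) (.lf 0))))))) (.nd (.nd (.nd (.nd (.nd (.nd (.lf 20) (.lf 530)) (.nd (.lf 406) (.lf 0))) (.nd (.nd (.lf 47) (.lf 0)) (.nd (.lf 523) (.lf 0)))) (.nd (.nd (.nd (.lf 121) (.lf 601)) (.nd (.lf 455) (.lf 0))) (.nd (.nd (.lf 326) (.lf 0)) (.nd (.lf 239) (.lf 0)))))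 (.nd (.nd (.nd (.nd (.lf 72) (.lf 374)) (.nd (.lf 438) (.lf 0))) (.nd (.nd (.lf 19) (.lf 0)) (.nd (.lf 543) (.lf 0)))) (.nd (.nd (.nd (.lf 173) (.lf 639)) (.nd (.lf 375) (.lf 0))) (.nd (.nd (.lf 365) (.lf 0)) (.nd (.lf 533) (.lf 0)))))) (.nd (.nd (.nd (.nd (.nd (.lf 48) (.lf 608)) (.nd (.lf 422) (.lf 0))) (.nd (.nd (.lf 252) (.lf 0)) (.nd (.lf 301) (.lf 0)))) (.nd (.nd (.nd (.lf 147) (.lf 348)) (.nd (.lf 416) (.lf 0))) (.nd (.nd (.lf 226) (.lf 0)) (.nd (.lf 77) (.lf 0))))) (.nd (.nd (.nd (.nd (.lf 11) (.lf 462)) (.nd (.lf 456) (.lf 0))) (.nd (.nd (.lf 261) (.lf 0)) (.nd (.lf 364) (.lf 0)))) (.nd (.nd (.nd (.lf 138) (.lf 490)) (.nd (.lf 270) (.lf 0))) (.nd (.nd (.lf 384) (.lf 0)) (.nd (.lf 488) (.lf 0)))))))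

/-- table part -/
def nxT_4 : Tr :=
  .nd (.nd (.nd (.nd (.nd (.nd (.nd (.lf 12) (.lf 557)) (.nd (.lf 400) (.lf 0))) (.nd (.nd (.lf 158) (.lf 0)) (.nd (.lf 517) (.lf 0)))) (.nd (.nd (.nd (.lf 87) (.lf 323)) (.nd (.lf 366) (.lf 0))) (.nd (.nd (.lf 265) (.lf 0)) (.nd (.lf 560) (.lf 0))))) (.nd (.nd (.nd (.nd (.lf 33) (.lf 555)) (.nd (.lf 386) (.lf 0))) (.nd (.nd (.lf 272) (.lf 0)) (.nd (.lf 108) (.lf 0)))) (.nd (.nd (.nd (.lf 166) (.lf 622)) (.nd (.lf 476) (.lf 0))) (.nd (.nd (.lf 360) (.lf 0)) (.nd (.lf 525) (.lf 0)))))) (.nd (.nd (.nd (.nd (.nd (.lf 40) (.lf 207)) (.nd (.lf 394) (.lf 0))) (.nd (.nd (.lf 245) (.lf 0)) (.nd (.lf 60) (.lf 0)))) (.nd (.nd (.nd (.lf 140) (.lf 561)) (.nd (.lf 307) (.lf 0))) (.nd (.nd (.lf 222) (.lf 0)) (.nd (.lf 572) (.lf 0))))) (.nd (.nd (.nd (.nd (.lf 89) (.lf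 582)) (.nd (.lf 451) (.lf 0))) (.nd (.nd (.lf 232) (.lf 0)) (.nd (.lf 259) (.lf 0)))) (.nd (.nd (.nd (.lf 195) (.lf 552)) (.nd (.lf 419) (.lf 0))) (.nd (.nd (.lf 255) (.lf 0)) (.nd (.lf 587) (.lf 0))))))) (.nd (.nd (.nd (.nd (.nd (.nd (.lf 0) (.lf 113)) (.nd (.lf 228) (.lf 0))) (.nd (.nd (.lf 182) (.lf 0)) (.nd (.lf 253) (.lf 0)))) (.nd (.nd (.nd (.lf 128) (.lf 630)) (.nd (.lf 474) (.lf 0))) (.nd (.nd (.lf 331) (.lf 0)) (.nd (.lf 565) (.lf 0))))) (.nd (.nd (.nd (.nd (.lf 78) (.lf 500)) (.nd (.lf 125) (.lf 0))) (.nd (.nd (.lf 284) (.lf 0)) (.nd (.lf 299) (.lf 0)))) (.nd (.nd (.nd (.lf 181) (.lf 498)) (.nd (.lf 501) (.lf 0))) (.nd (.nd (.lf 369) (.lf 0)) (.nd (.lf 583) (.lf 0)))))) (.nd (.nd (.nd (.nd (.nd (.lf 53) (.lf 580)) (.nd (.lf 427) (.lf 0))) (.nd (.nd (.lf 258) (.lf 0)) (.nd (.lf 134)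 (.lf 0)))) (.nd (.nd (.nd (.lf 153) (.lf 638)) (.nd (.lf 487) (.lf 0))) (.nd (.nd (.lf 349) (.lf 0)) (.nd (.lf 345) (.lf 0))))) (.nd (.nd (.nd (.nd (.lf 102) (.lf 598)) (.nd (.lf 461) (.lf 0))) (.nd (.nd (.lf 285) (.lf 0)) (.nd (.lf 465) (.lf 0)))) (.nd (.nd (.nd (.lf 208) (.lf 624)) (.nd (.lf 430) (.lf 0))) (.nd (.nd (.lf 389) (.lf 0)) (.nd (.lf 342) (.lf 0)))))))

/-- table part -/
def nxT_5 : Tr :=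
  .nd (.nd (.nd (.nd (.nd (.nd (.nd (.lf 3) (.lf 592)) (.nd (.lf 393) (.lf 0))) (.nd (.nd (.lf 212) (.lf 0)) (.nd (.lf 510) (.lf 0)))) (.nd (.nd (.nd (.lf 27) (.lf 511)) (.nd (.lf 318) (.lf 0))) (.nd (.nd (.lf 312) (.lf 0)) (.nd (.lf 556) (.lf 0))))) (.nd (.nd (.nd (.nd (.lf 58) (.lf 502)) (.nd (.lf 431) (.lf 0))) (.nd (.nd (.lf 264) (.lf 0)) (.nd (.lf 444) (.lf 0)))) (.nd (.nd (.nd (.lf 159) (.lf 287)) (.nd (.lf 491) (.lf 0))) (.nd (.nd (.lf 219) (.lf 0)) (.nd (.lf 420) (.lf 0)))))) (.nd (.nd (.nd (.nd (.nd (.lf 32) (.lf 554)) (.nd (.lf 412) (.lf 0))) (.nd (.nd (.lf 238) (.lf 0)) (.nd (.lf 528) (.lf 0)))) (.nd (.nd (.nd (.lf 133) (.lf 257)) (.nd (.lf 373) (.lf 0))) (.nd (.nd (.lf 336) (.lf 0)) (.nd (.lf 311) (.lf 0))))) (.nd (.nd (.nd (.nd (.lf 83) (.lf 618)) (.nd (.lf 446) (.lf 0))) (.nd (.nd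 (.lf 290) (.lf 0)) (.nd (.lf 547) (.lf 0)))) (.nd (.nd (.nd (.lf 186) (.lf 627)) (.nd (.lf 54) (.lf 0))) (.nd (.nd (.lf 280) (.lf 0)) (.nd (.lf 224) (.lf 0))))))) (.nd (.nd (.nd (.nd (.nd (.nd (.lf 18) (.lf 515)) (.nd (.lf 404) (.lf 0))) (.nd (.nd (.lf 225) (.lf 0)) (.nd (.lf 521) (.lf 0)))) (.nd (.nd (.nd (.lf 119) (.lf 310)) (.nd (.lf 472) (.lf 0))) (.nd (.nd (.lf 324) (.lf 0)) (.nd (.lf 315) (.lf 0))))) (.nd (.nd (.nd (.nd (.lf 71) (.lf 479)) (.nd (.lf 227) (.lf 0))) (.nd (.nd (.lf 277) (.lf 0)) (.nd (.lf 100) (.lf 0)))) (.nd (.nd (.nd (.lf 171) (.lf 595)) (.nd (.lf 146) (.lf 0))) (.nd (.nd (.lf 363) (.lf 0)) (.nd (.lf 559) (.lf 0)))))) (.nd (.nd (.nd (.nd (.nd (.lf 46) (.lf 529)) (.nd (.lf 291) (.lf 0))) (.nd (.nd (.lf 250) (.lf 0)) (.nd (.lf 445) (.lf 0)))) (.nd (.nd (.nd (.lf 145) (.lf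 636)) (.nd (.lf 484) (.lf 0))) (.nd (.nd (.lf 263) (.lf 0)) (.nd (.lf 505) (.lf 0))))) (.nd (.nd (.nd (.nd (.lf 95) (.lf 467)) (.nd (.lf 454) (.lf 0))) (.nd (.nd (.lf 152) (.lf 0)) (.nd (.lf 550) (.lf 0)))) (.nd (.nd (.nd (.lf 132) (.lf 516)) (.nd (.lf 508) (.lf 0))) (.nd (.nd (.lf 382) (.lf 0)) (.nd (.lf 209) (.lf 0)))))))

/-- table part -/
def nxT_6 : Tr :=
  .nd (.nd (.nd (.nd (.nd (.nd (.nd (.lf 10) (.lf 594)) (.nd (.lf 399) (.lf 0))) (.nd (.nd (.lf 218) (.lf 0)) (.nd (.lf 90) (.lf 0)))) (.nd (.nd (.nd (.lf 114) (.lf 398)) (.nd (.lf 150) (.lf 0))) (.nd (.nd (.lf 319) (.lf 0)) (.nd (.lf 305) (.lf 0))))) (.nd (.nd (.nd (.nd (.lf 65) (.lf 485)) (.nd (.lf 436) (.lf 0))) (.nd (.nd (.lf 271) (.lf 0)) (.nd (.lf 160) (.lf 0)))) (.nd (.nd (.nd (.lf 41) (.lf 573)) (.nd (.lf 495) (.lf 0))) (.nd (.nd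 (.lf 353) (.lf 0)) (.nd (.lf 578) (.lf 0)))))) (.nd (.nd (.nd (.nd (.nd (.lf 38) (.lf 604)) (.nd (.lf 161) (.lf 0))) (.nd (.nd (.lf 244) (.lf 0)) (.nd (.lf 200) (.lf 0)))) (.nd (.nd (.nd (.lf 139) (.lf 460)) (.nd (.lf 482) (.lf 0))) (.nd (.nd (.lf 335) (.lf 0)) (.nd (.lf 343) (.lf 0))))) (.nd (.nd (.nd (.nd (.lf 88) (.lf 569)) (.nd (.lf 450) (.lf 0))) (.nd (.nd (.lf 143) (.lf 0)) (.nd (.lf 551) (.lf 0)))) (.nd (.nd (.nd (.lf 193) (.lf 591)) (.nd (.lf 503) (.lf 0))) (.nd (.nd (.lf 377) (.lf 0)) (.nd (.lf 123) (.lf 0))))))) (.nd (.nd (.nd (.nd (.nd (.nd (.lf 25) (.lf 600)) (.nd (.lf 185) (.lf 0))) (.nd (.nd (.lf 231) (.lf 0)) (.nd (.lf 183) (.lf 0)))) (.nd (.nd (.nd (.lf 126) (.lf 633)) (.nd (.lf 192) (.lf 0))) (.nd (.nd (.lf 329) (.lf 0)) (.nd (.lf 120) (.lf 0))))) (.nd (.nd (.nd (.nd (.lf 76)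 (.lf 616)) (.nd (.lf 441) (.lf 0))) (.nd (.nd (.lf 165) (.lf 0)) (.nd (.lf 383) (.lf 0)))) (.nd (.nd (.nd (.lf 179) (.lf 539)) (.nd (.lf 110) (.lf 0))) (.nd (.nd (.lf 337) (.lf 0)) (.nd (.lf 116) (.lf 0)))))) (.nd (.nd (.nd (.nd (.nd (.lf 52) (.lf 609)) (.nd (.lf 313) (.lf 0))) (.nd (.nd (.lf 256) (.lf 0)) (.nd (.lf 396) (.lf 0)))) (.nd (.nd (.nd (.lf 151) (.lf 637)) (.nd (.lf 443) (.lf 0))) (.nd (.nd (.lf 215) (.lf 0)) (.nd (.lf 473) (.lf 0))))) (.nd (.nd (.nd (.nd (.lf 101) (.lf 584)) (.nd (.lf 322) (.lf 0))) (.nd (.nd (.lf 306) (.lf 0)) (.nd (.lf 198) (.lf 0)))) (.nd (.nd (.nd (.lf 206) (.lf 542)) (.nd (.lf 405) (.lf 0))) (.nd (.nd (.lf 387) (.lf 0)) (.nd (.lf 107) (.lf 0)))))))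

/-- table part -/
def nxT_7 : Tr :=
  .nd (.nd (.nd (.nd (.nd (.nd (.nd (.lf 7) (.lf 593)) (.nd (.lf 397) (.lf 0))) (.nd (.nd (.lf 122) (.lf 0)) (.nd (.lf 512) (.lf 0)))) (.nd (.nd (.nd (.lf 111) (.lf 629)) (.nd (.lf 466) (.lf 0))) (.nd (.nd (.lf 316) (.lf 0)) (.nd (.lf 558) (.lf 0))))) (.nd (.nd (.nd (.nd (.lf 61) (.lf 172)) (.nd (.lf 433) (.lf 0))) (.nd (.nd (.lf 268) (.lf 0)) (.nd (.lf 537) (.lf 0)))) (.nd (.nd (.nd (.lf 162) (.lf 612)) (.nd (.lf 81) (.lf 0))) (.nd (.nd (.lf 205) (.lf 0)) (.nd (.lf 320) (.lf 0)))))) (.nd (.nd (.nd (.nd (.nd (.lf 36) (.lf 496)) (.nd (.lf 333) (.lf 0))) (.nd (.nd (.lf 156) (.lf 0)) (.nd (.lf 169) (.lf 0)))) (.nd (.nd (.nd (.lf 37) (.lf 426)) (.nd (.lf 480) (.lf 0))) (.nd (.nd (.lf 339) (.lf 0)) (.nd (.lf 570) (.lf 0))))) (.nd (.nd (.nd (.nd (.lf 26) (.lf 621))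 (.nd (.lf 251) (.lf 0))) (.nd (.nd (.lf 294) (.lf 0)) (.nd (.lf 549) (.lf 0)))) (.nd (.nd (.nd (.lf 189) (.lf 553)) (.nd (.lf 203) (.lf 0))) (.nd (.nd (.lf 57) (.lf 0)) (.nd (.lf 115) (.lf 0))))))) (.nd (.nd (.nd (.nd (.nd (.nd (.lf 21) (.lf 289)) (.nd (.lf 407) (.lf 0))) (.nd (.nd (.lf 31) (.lf 0)) (.nd (.lf 414) (.lf 0)))) (.nd (.nd (.nd (.lf 29) (.lf 424)) (.nd (.lf 327) (.lf 0))) (.nd (.nd (.lf 194) (.lf 0)) (.nd (.lf 562) (.lf 0))))) (.nd (.nd (.nd (.nd (.lf 73) (.lf 410)) (.nd (.lf 439) (.lf 0))) (.nd (.nd (.lf 279) (.lf 0)) (.nd (.lf 509) (.lf 0)))) (.nd (.nd (.nd (.lf 175) (.lf 632)) (.nd (.lf 492) (.lf 0))) (.nd (.nd (.lf 176) (.lf 0)) (.nd (.lf 86) (.lf 0)))))) (.nd (.nd (.nd (.nd (.nd (.lf 49) (.lf 597)) (.nd (.lf 423) (.lf 0))) (.nd (.nd (.lf 148) (.lf 0)) (.nd (.lf 62) (.lf 0))))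 (.nd (.nd (.nd (.lf 85) (.lf 388)) (.nd (.lf 211) (.lf 0))) (.nd (.nd (.lf 346) (.lf 0)) (.nd (.lf 481) (.lf 0))))) (.nd (.nd (.nd (.nd (.lf 98) (.lf 617)) (.nd (.lf 458) (.lf 0))) (.nd (.nd (.lf 304) (.lf 0)) (.nd (.lf 130) (.lf 0)))) (.nd (.nd (.nd (.lf 202) (.lf 607)) (.nd (.lf 56) (.lf 0))) (.nd (.nd (.lf 385) (.lf 0)) (.nd (.lf 136) (.lf 0)))))))

/-- table part -/
def nxT_8 : Tr :=
  .nd (.nd (.nd (.nd (.nd (.nd (.nd (.lf 14) (.lf 362)) (.nd (.lf 402) (.lf 0))) (.nd (.nd (.lf 221) (.lf 0)) (.nd (.lf 518) (.lf 0)))) (.nd (.nd (.nd (.lf 35) (.lf 376)) (.nd (.lf 302) (.lf 0))) (.nd (.nd (.lf 321) (.lf 0)) (.nd (.lf 478) (.lf 0))))) (.nd (.nd (.nd (.nd (.lf 67) (.lf 613)) (.nd (.lf 217) (.lf 0))) (.nd (.nd (.lf 273) (.lf 0)) (.nd (.lf 538) (.lf 0)))) (.nd (.nd (.nd (.lf 168) (.lf 564)) (.nd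 (.lf 237) (.lf 0))) (.nd (.nd (.lf 233) (.lf 0)) (.nd (.lf 507) (.lf 0)))))) (.nd (.nd (.nd (.nd (.nd (.lf 42) (.lf 606)) (.nd (.lf 418) (.lf 0))) (.nd (.nd (.lf 247) (.lf 0)) (.nd (.lf 531) (.lf 0)))) (.nd (.nd (.nd (.lf 142) (.lf 605)) (.nd (.lf 483) (.lf 0))) (.nd (.nd (.lf 344) (.lf 0)) (.nd (.lf 535) (.lf 0))))) (.nd (.nd (.nd (.nd (.lf 91) (.lf 596)) (.nd (.lf 453) (.lf 0))) (.nd (.nd (.lf 298) (.lf 0)) (.nd (.lf 249) (.lf 0)))) (.nd (.nd (.nd (.lf 197) (.lf 634)) (.nd (.lf 449) (.lf 0))) (.nd (.nd (.lf 379) (.lf 0)) (.nd (.lf 359) (.lf 0))))))) (.nd (.nd (.nd (.nd (.nd (.nd (.lf 28) (.lf 421)) (.nd (.lf 64) (.lf 0))) (.nd (.nd (.lf 234) (.lf 0)) (.nd (.lf 526) (.lf 0)))) (.nd (.nd (.nd (.lf 129) (.lf 619)) (.nd (.lf 475) (.lf 0))) (.nd (.nd (.lf 332) (.lf 0)) (.nd (.lf 544) (.lf 0)))))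 (.nd (.nd (.nd (.nd (.lf 80) (.lf 513)) (.nd (.lf 178) (.lf 0))) (.nd (.nd (.lf 286) (.lf 0)) (.nd (.lf 278) (.lf 0)))) (.nd (.nd (.nd (.lf 17) (.lf 615)) (.nd (.lf 154) (.lf 0))) (.nd (.nd (.lf 370) (.lf 0)) (.nd (.lf 378) (.lf 0)))))) (.nd (.nd (.nd (.nd (.nd (.lf 55) (.lf 571)) (.nd (.lf 428) (.lf 0))) (.nd (.nd (.lf 260) (.lf 0)) (.nd (.lf 534) (.lf 0)))) (.nd (.nd (.nd (.lf 155) (.lf 576)) (.nd (.lf 489) (.lf 0))) (.nd (.nd (.lf 350) (.lf 0)) (.nd (.lf 575) (.lf 0))))) (.nd (.nd (.nd (.nd (.lf 104) (.lf 625)) (.nd (.lf 43) (.lf 0))) (.nd (.nd (.lf 309) (.lf 0)) (.nd (.lf 196) (.lf 0)))) (.nd (.nd (.nd (.lf 210) (.lf 574)) (.nd (.lf 235) (.lf 0))) (.nd (.nd (.lf 390) (.lf 0)) (.nd (.lf 590) (.lf 0)))))))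

/-- table part -/
def nxT_9 : Tr :=
  .nd (.nd (.nd (.nd (.nd (.nd (.nd (.lf 2) (.lf 304)) (.nd (.lf 102) (.lf 0))) (.nd (.nd (.lf 211) (.lf 0)) (.nd (.lf 151) (.lf 0)))) (.nd (.nd (.nd (.lf 107) (.lf 611)) (.nd (.lf 463) (.lf 0))) (.nd (.nd (.lf 311) (.lf 0)) (.nd (.lf 188) (.lf 0))))) (.nd (.nd (.nd (.nd (.lf 57) (.lf 106)) (.nd (.lf 430) (.lf 0))) (.nd (.nd (.lf 263) (.lf 0)) (.nd (.lf 535) (.lf 0)))) (.nd (.nd (.nd (.lf 158) (.lf 271)) (.nd (.lf 490) (.lf 0))) (.nd (.nd (.lf 353) (.lf 0)) (.nd (.lf 577) (.lf 0)))))) (.nd (.nd (.nd (.nd (.nd (.lf 31) (.lf 602)) (.nd (.lf 101) (.lf 0))) (.nd (.nd (.lf 237) (.lf 0)) (.nd (.lf 433) (.lf 0)))) (.nd (.nd (.nd (.lf 132) (.lf 336)) (.nd (.lf 478) (.lf 0))) (.nd (.nd (.lf 335) (.lf 0)) (.nd (.lf 316) (.lf 0))))) (.nd (.nd (.nd (.nd (.lf 82) (.lf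 425)) (.nd (.lf 445) (.lf 0))) (.nd (.nd (.lf 289) (.lf 0)) (.nd (.lf 546) (.lf 0)))) (.nd (.nd (.nd (.lf 185) (.lf 225)) (.nd (.lf 238) (.lf 0))) (.nd (.nd (.lf 373) (.lf 0)) (.nd (.lf 406) (.lf 0))))))) (.nd (.nd (.nd (.nd (.nd (.nd (.lf 17) (.lf 181)) (.nd (.lf 275) (.lf 0))) (.nd (.nd (.lf 224) (.lf 0)) (.nd (.lf 155) (.lf 0)))) (.nd (.nd (.nd (.lf 118) (.lf 140)) (.nd (.lf 411) (.lf 0))) (.nd (.nd (.lf 323) (.lf 0)) (.nd (.lf 326) (.lf 0))))) (.nd (.nd (.nd (.nd (.lf 70) (.lf 109)) (.nd (.lf 437) (.lf 0))) (.nd (.nd (.lf 276) (.lf 0)) (.nd (.lf 541) (.lf 0)))) (.nd (.nd (.nd (.lf 34) (.lf 517)) (.nd (.lf 350) (.lf 0))) (.nd (.nd (.lf 44) (.lf 0)) (.nd (.lf 580) (.lf 0)))))) (.nd (.nd (.nd (.nd (.nd (.lf 45) (.lf 281)) (.nd (.lf 420) (.lf 0))) (.nd (.nd (.lf 249) (.lf 0)) (.nd (.lf 495)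 (.lf 0)))) (.nd (.nd (.nd (.lf 144) (.lf 344)) (.nd (.lf 458) (.lf 0))) (.nd (.nd (.lf 119) (.lf 0)) (.nd (.lf 80) (.lf 0))))) (.nd (.nd (.nd (.nd (.lf 94) (.lf 604)) (.nd (.lf 254) (.lf 0))) (.nd (.nd (.lf 301) (.lf 0)) (.nd (.lf 186) (.lf 0)))) (.nd (.nd (.nd (.lf 200) (.lf 633)) (.nd (.lf 507) (.lf 0))) (.nd (.nd (.lf 381) (.lf 0)) (.nd (.lf 589) (.lf 0)))))))

/-- table part -/
def nxT_10 : Tr :=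
  .nd (.nd (.nd (.nd (.nd (.nd (.nd (.lf 9) (.lf 593)) (.nd (.lf 398) (.lf 0))) (.nd (.nd (.lf 217) (.lf 0)) (.nd (.lf 515) (.lf 0)))) (.nd (.nd (.nd (.lf 113) (.lf 631)) (.nd (.lf 469) (.lf 0))) (.nd (.nd (.lf 318) (.lf 0)) (.nd (.lf 349) (.lf 0))))) (.nd (.nd (.nd (.nd (.lf 64) (.lf 290)) (.nd (.lf 435) (.lf 0))) (.nd (.nd (.lf 270) (.lf 0)) (.nd (.lf 474) (.lf 0)))) (.nd (.nd (.nd (.lf 165) (.lf 636)) (.nd (.lf 494) (.lf 0))) (.nd (.nd (.lf 358) (.lf 0)) (.nd (.lf 560) (.lf 0)))))) (.nd (.nd (.nd (.nd (.nd (.lf 3) (.lf 480)) (.nd (.lf 223) (.lf 0))) (.nd (.nd (.lf 67) (.lf 0)) (.nd (.lf 159) (.lf 0)))) (.nd (.nd (.nd (.lf 138) (.lf 629)) (.nd (.lf 481) (.lf 0))) (.nd (.nd (.lf 191) (.lf 0)) (.nd (.lf 571) (.lf 0))))) (.nd (.nd (.nd (.nd (.lf 87) (.lf 622)) (.nd (.lf 61) (.lf 0))) (.nd (.nd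 (.lf 296) (.lf 0)) (.nd (.lf 550) (.lf 0)))) (.nd (.nd (.nd (.lf 192) (.lf 518)) (.nd (.lf 497) (.lf 0))) (.nd (.nd (.lf 376) (.lf 0)) (.nd (.lf 450) (.lf 0))))))) (.nd (.nd (.nd (.nd (.nd (.nd (.lf 24) (.lf 599)) (.nd (.lf 409) (.lf 0))) (.nd (.nd (.lf 230) (.lf 0)) (.nd (.lf 292) (.lf 0)))) (.nd (.nd (.nd (.lf 125) (.lf 575)) (.nd (.lf 461) (.lf 0))) (.nd (.nd (.lf 75) (.lf 0)) (.nd (.lf 506) (.lf 0))))) (.nd (.nd (.nd (.nd (.lf 51) (.lf 363)) (.nd (.lf 111) (.lf 0))) (.nd (.nd (.lf 282) (.lf 0)) (.nd (.lf 545) (.lf 0)))) (.nd (.nd (.nd (.lf 178) (.lf 638)) (.nd (.lf 500) (.lf 0))) (.nd (.nd (.lf 250) (.lf 0)) (.nd (.lf 570) (.lf 0)))))) (.nd (.nd (.nd (.nd (.nd (.lf 46) (.lf 252)) (.nd (.lf 162) (.lf 0))) (.nd (.nd (.lf 255) (.lf 0)) (.nd (.lf 418) (.lf 0)))) (.nd (.nd (.nd (.lf 150) (.lf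 618)) (.nd (.lf 387) (.lf 0))) (.nd (.nd (.lf 25) (.lf 0)) (.nd (.lf 531) (.lf 0))))) (.nd (.nd (.nd (.nd (.lf 100) (.lf 588)) (.nd (.lf 459) (.lf 0))) (.nd (.nd (.lf 305) (.lf 0)) (.nd (.lf 555) (.lf 0)))) (.nd (.nd (.nd (.lf 205) (.lf 543)) (.nd (.lf 300) (.lf 0))) (.nd (.nd (.lf 386) (.lf 0)) (.nd (.lf 244) (.lf 0)))))))

/-- table part -/
def nxT_11 : Tr :=
  .nd (.nd (.nd (.nd (.nd (.nd (.nd (.lf 6) (.lf 277)) (.nd (.lf 396) (.lf 0))) (.nd (.nd (.lf 215) (.lf 0)) (.nd (.lf 511) (.lf 0)))) (.nd (.nd (.nd (.lf 110) (.lf 548)) (.nd (.lf 465) (.lf 0))) (.nd (.nd (.lf 315) (.lf 0)) (.nd (.lf 142) (.lf 0))))) (.nd (.nd (.nd (.nd (.lf 60) (.lf 578)) (.nd (.lf 432) (.lf 0))) (.nd (.nd (.lf 267) (.lf 0)) (.nd (.lf 170) (.lf 0)))) (.nd (.nd (.nd (.lf 161) (.lf 549)) (.nd (.lf 492) (.lf 0))) (.nd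 (.nd (.lf 131) (.lf 0)) (.nd (.lf 379) (.lf 0)))))) (.nd (.nd (.nd (.nd (.nd (.lf 35) (.lf 512)) (.nd (.lf 414) (.lf 0))) (.nd (.nd (.lf 241) (.lf 0)) (.nd (.lf 529) (.lf 0)))) (.nd (.nd (.nd (.lf 136) (.lf 389)) (.nd (.lf 479) (.lf 0))) (.nd (.nd (.lf 338) (.lf 0)) (.nd (.lf 569) (.lf 0))))) (.nd (.nd (.nd (.nd (.lf 85) (.lf 620)) (.nd (.lf 449) (.lf 0))) (.nd (.nd (.lf 293) (.lf 0)) (.nd (.lf 399) (.lf 0)))) (.nd (.nd (.nd (.lf 38) (.lf 637)) (.nd (.lf 456) (.lf 0))) (.nd (.nd (.lf 374) (.lf 0)) (.nd (.lf 584) (.lf 0))))))) (.nd (.nd (.nd (.nd (.nd (.nd (.lf 7) (.lf 597)) (.nd (.lf 98) (.lf 0))) (.nd (.nd (.lf 227) (.lf 0)) (.nd (.lf 429) (.lf 0)))) (.nd (.nd (.nd (.lf 122) (.lf 562)) (.nd (.lf 473) (.lf 0))) (.nd (.nd (.lf 288) (.lf 0)) (.nd (.lf 561) (.lf 0))))) (.nd (.nd (.nd (.nd (.lf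 10) (.lf 536)) (.nd (.lf 395) (.lf 0))) (.nd (.nd (.lf 278) (.lf 0)) (.nd (.lf 544) (.lf 0)))) (.nd (.nd (.nd (.lf 174) (.lf 606)) (.nd (.lf 499) (.lf 0))) (.nd (.nd (.lf 179) (.lf 0)) (.nd (.lf 582) (.lf 0)))))) (.nd (.nd (.nd (.nd (.nd (.lf 0) (.lf 422)) (.nd (.lf 49) (.lf 0))) (.nd (.nd (.lf 16) (.lf 0)) (.nd (.lf 533) (.lf 0)))) (.nd (.nd (.nd (.lf 148) (.lf 628)) (.nd (.lf 65) (.lf 0))) (.nd (.nd (.lf 175) (.lf 0)) (.nd (.lf 547) (.lf 0))))) (.nd (.nd (.nd (.nd (.lf 97) (.lf 624)) (.nd (.lf 457) (.lf 0))) (.nd (.nd (.lf 303) (.lf 0)) (.nd (.lf 434) (.lf 0)))) (.nd (.nd (.nd (.lf 78) (.lf 441)) (.nd (.lf 55) (.lf 0))) (.nd (.nd (.lf 329) (.lf 0)) (.nd (.lf 153) (.lf 0)))))))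

/-- table part -/
def nxT_12 : Tr :=
  .nd (.nd (.nd (.nd (.nd (.nd (.nd (.lf 13) (.lf 595)) (.nd (.lf 401) (.lf 0))) (.nd (.nd (.lf 220) (.lf 0)) (.nd (.lf 451) (.lf 0)))) (.nd (.nd (.nd (.lf 116) (.lf 189)) (.nd (.lf 471) (.lf 0))) (.nd (.nd (.lf 320) (.lf 0)) (.nd (.lf 306) (.lf 0))))) (.nd (.nd (.nd (.nd (.lf 66) (.lf 357)) (.nd (.lf 58) (.lf 0))) (.nd (.nd (.lf 76) (.lf 0)) (.nd (.lf 503) (.lf 0)))) (.nd (.nd (.nd (.lf 167) (.lf 240)) (.nd (.lf 496) (.lf 0))) (.nd (.nd (.lf 361) (.lf 0)) (.nd (.lf 579) (.lf 0)))))) (.nd (.nd (.nd (.nd (.nd (.lf 41) (.lf 508)) (.nd (.lf 417) (.lf 0))) (.nd (.nd (.lf 246) (.lf 0)) (.nd (.lf 139) (.lf 0)))) (.nd (.nd (.nd (.lf 141) (.lf 634)) (.nd (.lf 384) (.lf 0))) (.nd (.nd (.lf 343) (.lf 0)) (.nd (.lf 573) (.lf 0))))) (.nd (.nd (.nd (.nd (.lf 90) (.lf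 268)) (.nd (.lf 452) (.lf 0))) (.nd (.nd (.lf 114) (.lf 0)) (.nd (.lf 553) (.lf 0)))) (.nd (.nd (.nd (.lf 196) (.lf 347)) (.nd (.lf 504) (.lf 0))) (.nd (.nd (.lf 378) (.lf 0)) (.nd (.lf 538) (.lf 0))))))) (.nd (.nd (.nd (.nd (.nd (.nd (.lf 27) (.lf 112)) (.nd (.lf 410) (.lf 0))) (.nd (.nd (.lf 233) (.lf 0)) (.nd (.lf 525) (.lf 0)))) (.nd (.nd (.nd (.lf 23) (.lf 613)) (.nd (.lf 124) (.lf 0))) (.nd (.nd (.lf 314) (.lf 0)) (.nd (.lf 566) (.lf 0))))) (.nd (.nd (.nd (.nd (.lf 79) (.lf 393)) (.nd (.lf 443) (.lf 0))) (.nd (.nd (.lf 285) (.lf 0)) (.nd (.lf 262) (.lf 0)))) (.nd (.nd (.nd (.lf 182) (.lf 245)) (.nd (.lf 52) (.lf 0))) (.nd (.nd (.lf 88) (.lf 0)) (.nd (.lf 84) (.lf 0)))))) (.nd (.nd (.nd (.nd (.nd (.lf 54) (.lf 609)) (.nd (.lf 93) (.lf 0))) (.nd (.nd (.lf 259) (.lf 0)) (.nd (.lf 256) (.lf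 0)))) (.nd (.nd (.nd (.lf 154) (.lf 565)) (.nd (.lf 488) (.lf 0))) (.nd (.nd (.lf 206) (.lf 0)) (.nd (.lf 428) (.lf 0))))) (.nd (.nd (.nd (.nd (.lf 103) (.lf 370)) (.nd (.lf 197) (.lf 0))) (.nd (.nd (.lf 308) (.lf 0)) (.nd (.lf 168) (.lf 0)))) (.nd (.nd (.nd (.lf 209) (.lf 501)) (.nd (.lf 438) (.lf 0))) (.nd (.nd (.lf 145) (.lf 0)) (.nd (.lf 448) (.lf 0)))))))

/-- table part -/
def nxT_13 : Tr :=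
  .nd (.nd (.nd (.nd (.nd (.nd (.nd (.lf 4) (.lf 487)) (.nd (.lf 394) (.lf 0))) (.nd (.nd (.lf 213) (.lf 0)) (.nd (.lf 475) (.lf 0)))) (.nd (.nd (.nd (.lf 108) (.lf 627)) (.nd (.lf 415) (.lf 0))) (.nd (.nd (.lf 313) (.lf 0)) (.nd (.lf 557) (.lf 0))))) (.nd (.nd (.nd (.nd (.lf 20) (.lf 592)) (.nd (.lf 36) (.lf 0))) (.nd (.nd (.lf 265) (.lf 0)) (.nd (.lf 412) (.lf 0)))) (.nd (.nd (.nd (.lf 160) (.lf 484)) (.nd (.lf 48) (.lf 0))) (.nd (.nd (.lf 354) (.lf 0)) (.nd (.lf 341) (.lf 0)))))) (.nd (.nd (.nd (.nd (.nd (.lf 33) (.lf 193)) (.nd (.lf 372) (.lf 0))) (.nd (.nd (.lf 239) (.lf 0)) (.nd (.lf 202) (.lf 0)))) (.nd (.nd (.nd (.lf 134) (.lf 585)) (.nd (.lf 177) (.lf 0))) (.nd (.nd (.lf 337) (.lf 0)) (.nd (.lf 567) (.lf 0))))) (.nd (.nd (.nd (.nd (.lf 63) (.lf 619)) (.nd (.lf 447) (.lf 0))) (.nd (.nd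 (.lf 291) (.lf 0)) (.nd (.lf 279) (.lf 0)))) (.nd (.nd (.nd (.lf 187) (.lf 397)) (.nd (.lf 71) (.lf 0))) (.nd (.nd (.lf 272) (.lf 0)) (.nd (.lf 385) (.lf 0))))))) (.nd (.nd (.nd (.nd (.nd (.nd (.lf 19) (.lf 596)) (.nd (.lf 405) (.lf 0))) (.nd (.nd (.lf 226) (.lf 0)) (.nd (.lf 522) (.lf 0)))) (.nd (.nd (.nd (.lf 120) (.lf 594)) (.nd (.lf 234) (.lf 0))) (.nd (.nd (.lf 325) (.lf 0)) (.nd (.lf 135) (.lf 0))))) (.nd (.nd (.nd (.nd (.lf 59) (.lf 615)) (.nd (.lf 328) (.lf 0))) (.nd (.nd (.lf 18) (.lf 0)) (.nd (.lf 542) (.lf 0)))) (.nd (.nd (.nd (.lf 172) (.lf 454)) (.nd (.lf 498) (.lf 0))) (.nd (.nd (.lf 364) (.lf 0)) (.nd (.lf 581) (.lf 0)))))) (.nd (.nd (.nd (.nd (.nd (.lf 47) (.lf 382)) (.nd (.lf 421) (.lf 0))) (.nd (.nd (.lf 251) (.lf 0)) (.nd (.lf 319) (.lf 0)))) (.nd (.nd (.nd (.lf 146) (.lf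 527)) (.nd (.lf 472) (.lf 0))) (.nd (.nd (.lf 345) (.lf 0)) (.nd (.lf 334) (.lf 0))))) (.nd (.nd (.nd (.nd (.lf 96) (.lf 231)) (.nd (.lf 455) (.lf 0))) (.nd (.nd (.lf 302) (.lf 0)) (.nd (.lf 413) (.lf 0)))) (.nd (.nd (.nd (.lf 201) (.lf 453)) (.nd (.lf 468) (.lf 0))) (.nd (.nd (.lf 383) (.lf 0)) (.nd (.lf 489) (.lf 0)))))))

/-- table part -/
def nxT_14 : Tr :=
  .nd (.nd (.nd (.nd (.nd (.nd (.nd (.lf 11) (.lf 377)) (.nd (.lf 214) (.lf 0))) (.nd (.nd (.lf 219) (.lf 0)) (.nd (.lf 516) (.lf 0)))) (.nd (.nd (.nd (.lf 115) (.lf 243)) (.nd (.lf 470) (.lf 0))) (.nd (.nd (.lf 72) (.lf 0)) (.nd (.lf 559) (.lf 0))))) (.nd (.nd (.nd (.nd (.lf 1) (.lf 612)) (.nd (.lf 346) (.lf 0))) (.nd (.nd (.lf 104) (.lf 0)) (.nd (.lf 439) (.lf 0)))) (.nd (.nd (.nd (.lf 89) (.lf 572)) (.nd (.lf 390) (.lf 0))) (.nd (.nd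 (.lf 359) (.lf 0)) (.nd (.lf 486) (.lf 0)))))) (.nd (.nd (.nd (.nd (.nd (.lf 39) (.lf 605)) (.nd (.lf 416) (.lf 0))) (.nd (.nd (.lf 83) (.lf 0)) (.nd (.lf 266) (.lf 0)))) (.nd (.nd (.nd (.lf 53) (.lf 483)) (.nd (.lf 128) (.lf 0))) (.nd (.nd (.lf 342) (.lf 0)) (.nd (.lf 563) (.lf 0))))) (.nd (.nd (.nd (.nd (.lf 14) (.lf 568)) (.nd (.lf 133) (.lf 0))) (.nd (.nd (.lf 297) (.lf 0)) (.nd (.lf 552) (.lf 0)))) (.nd (.nd (.nd (.lf 194) (.lf 639)) (.nd (.lf 491) (.lf 0))) (.nd (.nd (.lf 332) (.lf 0)) (.nd (.lf 586) (.lf 0))))))) (.nd (.nd (.nd (.nd (.nd (.nd (.lf 26) (.lf 601)) (.nd (.lf 247) (.lf 0))) (.nd (.nd (.lf 232) (.lf 0)) (.nd (.lf 524) (.lf 0)))) (.nd (.nd (.nd (.lf 127) (.lf 147)) (.nd (.lf 166) (.lf 0))) (.nd (.nd (.lf 330) (.lf 0)) (.nd (.lf 564) (.lf 0))))) (.nd (.nd (.nd (.nd (.lf 77)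 (.lf 617)) (.nd (.lf 442) (.lf 0))) (.nd (.nd (.lf 283) (.lf 0)) (.nd (.lf 365) (.lf 0)))) (.nd (.nd (.nd (.lf 180) (.lf 603)) (.nd (.lf 157) (.lf 0))) (.nd (.nd (.lf 368) (.lf 0)) (.nd (.lf 482) (.lf 0)))))) (.nd (.nd (.nd (.nd (.nd (.lf 42) (.lf 427)) (.nd (.lf 426) (.lf 0))) (.nd (.nd (.lf 257) (.lf 0)) (.nd (.lf 523) (.lf 0)))) (.nd (.nd (.nd (.lf 152) (.lf 164)) (.nd (.lf 212) (.lf 0))) (.nd (.nd (.lf 348) (.lf 0)) (.nd (.lf 556) (.lf 0))))) (.nd (.nd (.nd (.nd (.lf 69) (.lf 121)) (.nd (.lf 460) (.lf 0))) (.nd (.nd (.lf 307) (.lf 0)) (.nd (.lf 403) (.lf 0)))) (.nd (.nd (.nd (.lf 207) (.lf 583)) (.nd (.lf 321) (.lf 0))) (.nd (.nd (.lf 388) (.lf 0)) (.nd (.lf 355) (.lf 0)))))))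

/-- table part -/
def nxT_15 : Tr :=
  .nd (.nd (.nd (.nd (.nd (.nd (.nd (.lf 8) (.lf 392)) (.nd (.lf 32) (.lf 0))) (.nd (.nd (.lf 149) (.lf 0)) (.nd (.lf 513) (.lf 0)))) (.nd (.nd (.nd (.lf 30) (.lf 630)) (.nd (.lf 467) (.lf 0))) (.nd (.nd (.lf 208) (.lf 0)) (.nd (.lf 436) (.lf 0))))) (.nd (.nd (.nd (.nd (.lf 62) (.lf 171)) (.nd (.lf 126) (.lf 0))) (.nd (.nd (.lf 269) (.lf 0)) (.nd (.lf 295) (.lf 0)))) (.nd (.nd (.nd (.lf 163) (.lf 210)) (.nd (.lf 493) (.lf 0))) (.nd (.nd (.lf 356) (.lf 0)) (.nd (.lf 558) (.lf 0)))))) (.nd (.nd (.nd (.nd (.nd (.lf 37) (.lf 195)) (.nd (.lf 309) (.lf 0))) (.nd (.nd (.lf 242) (.lf 0)) (.nd (.lf 530) (.lf 0)))) (.nd (.nd (.nd (.lf 137) (.lf 528)) (.nd (.lf 258) (.lf 0))) (.nd (.nd (.lf 340) (.lf 0)) (.nd (.lf 73) (.lf 0))))) (.nd (.nd (.nd (.nd (.lf 86) (.lf 608))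 (.nd (.lf 352) (.lf 0))) (.nd (.nd (.lf 236) (.lf 0)) (.nd (.lf 339) (.lf 0)))) (.nd (.nd (.nd (.lf 190) (.lf 407)) (.nd (.lf 312) (.lf 0))) (.nd (.nd (.lf 375) (.lf 0)) (.nd (.lf 466) (.lf 0))))))) (.nd (.nd (.nd (.nd (.nd (.nd (.lf 22) (.lf 598)) (.nd (.lf 408) (.lf 0))) (.nd (.nd (.lf 228) (.lf 0)) (.nd (.lf 218) (.lf 0)))) (.nd (.nd (.nd (.lf 123) (.lf 632)) (.nd (.lf 248) (.lf 0))) (.nd (.nd (.lf 327) (.lf 0)) (.nd (.lf 423) (.lf 0))))) (.nd (.nd (.nd (.nd (.lf 74) (.lf 440)) (.nd (.lf 380) (.lf 0))) (.nd (.nd (.lf 280) (.lf 0)) (.nd (.lf 173) (.lf 0)))) (.nd (.nd (.nd (.lf 176) (.lf 600)) (.nd (.lf 229) (.lf 0))) (.nd (.nd (.lf 366) (.lf 0)) (.nd (.lf 551) (.lf 0)))))) (.nd (.nd (.nd (.nd (.nd (.lf 50) (.lf 464)) (.nd (.lf 424) (.lf 0))) (.nd (.nd (.lf 253) (.lf 0)) (.nd (.lf 520) (.lf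 0)))) (.nd (.nd (.nd (.lf 99) (.lf 626)) (.nd (.lf 485) (.lf 0))) (.nd (.nd (.lf 264) (.lf 0)) (.nd (.lf 273) (.lf 0))))) (.nd (.nd (.nd (.nd (.lf 5) (.lf 616)) (.nd (.lf 369) (.lf 0))) (.nd (.nd (.lf 21) (.lf 0)) (.nd (.lf 526) (.lf 0)))) (.nd (.nd (.nd (.lf 203) (.lf 625)) (.nd (.lf 509) (.lf 0))) (.nd (.nd (.lf 317) (.lf 0)) (.nd (.lf 534) (.lf 0)))))))

/-- table part -/
def nxT_16 : Tr :=
  .nd (.nd (.nd (.nd (.nd (.nd (.nd (.lf 15) (.lf 95)) (.nd (.lf 294) (.lf 0))) (.nd (.nd (.lf 222) (.lf 0)) (.nd (.lf 519) (.lf 0)))) (.nd (.nd (.nd (.lf 117) (.lf 621)) (.nd (.lf 204) (.lf 0))) (.nd (.nd (.lf 322) (.lf 0)) (.nd (.lf 402) (.lf 0))))) (.nd (.nd (.nd (.nd (.lf 68) (.lf 614)) (.nd (.lf 400) (.lf 0))) (.nd (.nd (.lf 274) (.lf 0)) (.nd (.lf 539) (.lf 0)))) (.nd (.nd (.nd (.lf 169) (.lf 537))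 (.nd (.lf 477) (.lf 0))) (.nd (.nd (.lf 362) (.lf 0)) (.nd (.lf 221) (.lf 0)))))) (.nd (.nd (.nd (.nd (.nd (.lf 43) (.lf 607)) (.nd (.lf 419) (.lf 0))) (.nd (.nd (.lf 129) (.lf 0)) (.nd (.lf 532) (.lf 0)))) (.nd (.nd (.nd (.lf 143) (.lf 635)) (.nd (.lf 404) (.lf 0))) (.nd (.nd (.lf 28) (.lf 0)) (.nd (.lf 574) (.lf 0))))) (.nd (.nd (.nd (.nd (.lf 92) (.lf 623)) (.nd (.lf 40) (.lf 0))) (.nd (.nd (.lf 299) (.lf 0)) (.nd (.lf 554) (.lf 0)))) (.nd (.nd (.nd (.lf 198) (.lf 360)) (.nd (.lf 505) (.lf 0))) (.nd (.nd (.lf 91) (.lf 0)) (.nd (.lf 367) (.lf 0))))))) (.nd (.nd (.nd (.nd (.nd (.nd (.lf 29) (.lf 260)) (.nd (.lf 324) (.lf 0))) (.nd (.nd (.lf 235) (.lf 0)) (.nd (.lf 184) (.lf 0)))) (.nd (.nd (.nd (.lf 130) (.lf 540)) (.nd (.lf 476) (.lf 0))) (.nd (.nd (.lf 333) (.lf 0)) (.nd (.lf 216) (.lf 0)))))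 (.nd (.nd (.nd (.nd (.lf 81) (.lf 587)) (.nd (.lf 444) (.lf 0))) (.nd (.nd (.lf 287) (.lf 0)) (.nd (.lf 521) (.lf 0)))) (.nd (.nd (.nd (.lf 183) (.lf 199)) (.nd (.lf 502) (.lf 0))) (.nd (.nd (.lf 371) (.lf 0)) (.nd (.lf 284) (.lf 0)))))) (.nd (.nd (.nd (.nd (.nd (.lf 56) (.lf 610)) (.nd (.lf 298) (.lf 0))) (.nd (.nd (.lf 261) (.lf 0)) (.nd (.lf 331) (.lf 0)))) (.nd (.nd (.nd (.lf 156) (.lf 514)) (.nd (.lf 446) (.lf 0))) (.nd (.nd (.lf 351) (.lf 0)) (.nd (.lf 576) (.lf 0))))) (.nd (.nd (.nd (.nd (.lf 105) (.lf 590)) (.nd (.lf 462) (.lf 0))) (.nd (.nd (.lf 310) (.lf 0)) (.nd (.lf 510) (.lf 0)))) (.nd (.nd (.nd (.lf 12) (.lf 431)) (.nd (.lf 286) (.lf 0))) (.nd (.nd (.lf 391) (.lf 0)) (.nd (.lf 591) (.lf 0)))))))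

/-- table -/
def nxT : Tr :=
  .nd (.nd (.nd (.nd nxT_1 nxT_2) (.nd nxT_3 nxT_4)) (.nd (.nd nxT_5 nxT_6) (.nd nxT_7 nxT_8))) (.nd (.nd (.nd nxT_9 nxT_10) (.nd nxT_11 nxT_12)) (.nd (.nd nxT_13 nxT_14) (.nd nxT_15 nxT_16)))

/-- table part -/
def pvT_1 : Tr :=
  .nd (.nd (.nd (.nd (.nd (.nd (.nd (.lf 14) (.lf 387)) (.nd (.lf 157) (.lf 0))) (.nd (.nd (.lf 78) (.lf 0)) (.nd (.lf 250) (.lf 0)))) (.nd (.nd (.nd (.lf 271) (.lf 607)) (.nd (.lf 483) (.lf 0))) (.nd (.nd (.lf 333) (.lf 0)) (.nd (.lf 306) (.lf 0))))) (.nd (.nd (.nd (.nd (.lf 17) (.lf 463)) (.nd (.lf 176) (.lf 0))) (.nd (.nd (.lf 421) (.lf 0)) (.nd (.lf 346) (.lf 0)))) (.nd (.nd (.nd (.lf 520) (.lf 538)) (.nd (.lf 224) (.lf 0))) (.nd (.nd (.lf 497) (.lf 0)) (.nd (.lf 339) (.lf 0)))))) (.nd (.nd (.nd (.nd (.nd (.lf 8) (.lf 401)) (.nd (.lf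 166) (.lf 0))) (.nd (.nd (.lf 252) (.lf 0)) (.nd (.lf 262) (.lf 0)))) (.nd (.nd (.nd (.lf 47) (.lf 513)) (.nd (.lf 209) (.lf 0))) (.nd (.nd (.lf 126) (.lf 0)) (.nd (.lf 322) (.lf 0))))) (.nd (.nd (.nd (.nd (.lf 26) (.lf 454)) (.nd (.lf 187) (.lf 0))) (.nd (.nd (.lf 235) (.lf 0)) (.nd (.lf 608) (.lf 0)))) (.nd (.nd (.nd (.lf 68) (.lf 638)) (.nd (.lf 372) (.lf 0))) (.nd (.nd (.lf 146) (.lf 0)) (.nd (.lf 531) (.lf 0))))))) (.nd (.nd (.nd (.nd (.nd (.nd (.lf 88) (.lf 392)) (.nd (.lf 161) (.lf 0))) (.nd (.nd (.lf 507) (.lf 0)) (.nd (.lf 256) (.lf 0)))) (.nd (.nd (.nd (.lf 42) (.lf 573)) (.nd (.lf 204) (.lf 0))) (.nd (.nd (.lf 405) (.lf 0)) (.nd (.lf 314) (.lf 0))))) (.nd (.nd (.nd (.nd (.lf 22) (.lf 630)) (.nd (.lf 216) (.lf 0))) (.nd (.nd (.lf 103) (.lf 0)) (.nd (.lf 587) (.lf 0)))) (.nd (.nd (.nd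 (.lf 63) (.lf 557)) (.nd (.lf 230) (.lf 0))) (.nd (.nd (.lf 182) (.lf 0)) (.nd (.lf 506) (.lf 0)))))) (.nd (.nd (.nd (.nd (.nd (.lf 52) (.lf 418)) (.nd (.lf 241) (.lf 0))) (.nd (.nd (.lf 185) (.lf 0)) (.nd (.lf 532) (.lf 0)))) (.nd (.nd (.nd (.lf 53) (.lf 525)) (.nd (.lf 215) (.lf 0))) (.nd (.nd (.lf 132) (.lf 0)) (.nd (.lf 329) (.lf 0))))) (.nd (.nd (.nd (.nd (.lf 379) (.lf 466)) (.nd (.lf 193) (.lf 0))) (.nd (.nd (.lf 112) (.lf 0)) (.nd (.lf 300) (.lf 0)))) (.nd (.nd (.nd (.lf 461) (.lf 619)) (.nd (.lf 583) (.lf 0))) (.nd (.nd (.lf 152) (.lf 0)) (.nd (.lf 564) (.lf 0)))))))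

/-- table part -/
def pvT_2 : Tr :=
  .nd (.nd (.nd (.nd (.nd (.nd (.nd (.lf 20) (.lf 633)) (.nd (.lf 159) (.lf 0))) (.nd (.nd (.lf 121) (.lf 0)) (.nd (.lf 603) (.lf 0)))) (.nd (.nd (.nd (.lf 440) (.lf 542)) (.nd (.lf 201) (.lf 0))) (.nd (.nd (.lf 447) (.lf 0)) (.nd (.lf 320) (.lf 0))))) (.nd (.nd (.nd (.nd (.lf 19) (.lf 434)) (.nd (.lf 178) (.lf 0))) (.nd (.nd (.lf 100) (.lf 0)) (.nd (.lf 481) (.lf 0)))) (.nd (.nd (.nd (.lf 425) (.lf 611)) (.nd (.lf 384) (.lf 0))) (.nd (.nd (.lf 270) (.lf 0)) (.nd (.lf 345) (.lf 0)))))) (.nd (.nd (.nd (.nd (.nd (.lf 10) (.lf 476)) (.nd (.lf 332) (.lf 0))) (.nd (.nd (.lf 155) (.lf 0)) (.nd (.lf 265) (.lf 0)))) (.nd (.nd (.nd (.lf 50) (.lf 567)) (.nd (.lf 408) (.lf 0))) (.nd (.nd (.lf 129) (.lf 0)) (.nd (.lf 324) (.lf 0))))) (.nd (.nd (.nd (.nd (.lf 29) (.lf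 615)) (.nd (.lf 312) (.lf 0))) (.nd (.nd (.lf 402) (.lf 0)) (.nd (.lf 293) (.lf 0)))) (.nd (.nd (.nd (.lf 493) (.lf 578)) (.nd (.lf 240) (.lf 0))) (.nd (.nd (.lf 149) (.lf 0)) (.nd (.lf 558) (.lf 0))))))) (.nd (.nd (.nd (.nd (.nd (.nd (.lf 6) (.lf 428)) (.nd (.lf 163) (.lf 0))) (.nd (.nd (.lf 86) (.lf 0)) (.nd (.lf 413) (.lf 0)))) (.nd (.nd (.nd (.lf 45) (.lf 504)) (.nd (.lf 207) (.lf 0))) (.nd (.nd (.lf 124) (.lf 0)) (.nd (.lf 597) (.lf 0))))) (.nd (.nd (.nd (.nd (.lf 24) (.lf 449)) (.nd (.lf 184) (.lf 0))) (.nd (.nd (.lf 547) (.lf 0)) (.nd (.lf 287) (.lf 0)))) (.nd (.nd (.nd (.lf 422) (.lf 626)) (.nd (.lf 442) (.lf 0))) (.nd (.nd (.lf 144) (.lf 0)) (.nd (.lf 363) (.lf 0)))))) (.nd (.nd (.nd (.nd (.nd (.lf 15) (.lf 424)) (.nd (.lf 174) (.lf 0))) (.nd (.nd (.lf 147) (.lf 0)) (.nd (.lf 273) (.lf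 0)))) (.nd (.nd (.nd (.lf 84) (.lf 533)) (.nd (.lf 602) (.lf 0))) (.nd (.nd (.lf 480) (.lf 0)) (.nd (.lf 358) (.lf 0))))) (.nd (.nd (.nd (.nd (.lf 406) (.lf 470)) (.nd (.lf 195) (.lf 0))) (.nd (.nd (.lf 114) (.lf 0)) (.nd (.lf 417) (.lf 0)))) (.nd (.nd (.nd (.lf 76) (.lf 601)) (.nd (.lf 248) (.lf 0))) (.nd (.nd (.lf 154) (.lf 0)) (.nd (.lf 377) (.lf 0)))))))

/-- table part -/
def pvT_3 : Tr :=
  .nd (.nd (.nd (.nd (.nd (.nd (.nd (.lf 4) (.lf 388)) (.nd (.lf 158) (.lf 0))) (.nd (.nd (.lf 443) (.lf 0)) (.nd (.lf 294) (.lf 0)))) (.nd (.nd (.nd (.lf 386) (.lf 485)) (.nd (.lf 317) (.lf 0))) (.nd (.nd (.lf 203) (.lf 0)) (.nd (.lf 309) (.lf 0))))) (.nd (.nd (.nd (.nd (.lf 18) (.lf 562)) (.nd (.lf 177) (.lf 0))) (.nd (.nd (.lf 99) (.lf 0)) (.nd (.lf 279) (.lf 0)))) (.nd (.nd (.nd (.lf 59) (.lf 616))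 (.nd (.lf 436) (.lf 0))) (.nd (.nd (.lf 218) (.lf 0)) (.nd (.lf 341) (.lf 0)))))) (.nd (.nd (.nd (.nd (.nd (.lf 9) (.lf 522)) (.nd (.lf 444) (.lf 0))) (.nd (.nd (.lf 361) (.lf 0)) (.nd (.lf 263) (.lf 0)))) (.nd (.nd (.nd (.lf 344) (.lf 517)) (.nd (.lf 496) (.lf 0))) (.nd (.nd (.lf 127) (.lf 0)) (.nd (.lf 323) (.lf 0))))) (.nd (.nd (.nd (.nd (.lf 244) (.lf 459)) (.nd (.lf 189) (.lf 0))) (.nd (.nd (.lf 303) (.lf 0)) (.nd (.lf 292) (.lf 0)))) (.nd (.nd (.nd (.lf 69) (.lf 576)) (.nd (.lf 239) (.lf 0))) (.nd (.nd (.lf 308) (.lf 0)) (.nd (.lf 622) (.lf 0))))))) (.nd (.nd (.nd (.nd (.nd (.nd (.lf 5) (.lf 514)) (.nd (.lf 162) (.lf 0))) (.nd (.nd (.lf 122) (.lf 0)) (.nd (.lf 278) (.lf 0)))) (.nd (.nd (.nd (.lf 296) (.lf 528)) (.nd (.lf 484) (.lf 0))) (.nd (.nd (.lf 123) (.lf 0)) (.nd (.lf 315) (.lf 0)))))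 (.nd (.nd (.nd (.nd (.lf 23) (.lf 529)) (.nd (.lf 183) (.lf 0))) (.nd (.nd (.lf 104) (.lf 0)) (.nd (.lf 595) (.lf 0)))) (.nd (.nd (.nd (.lf 64) (.lf 561)) (.nd (.lf 519) (.lf 0))) (.nd (.nd (.lf 143) (.lf 0)) (.nd (.lf 634) (.lf 0)))))) (.nd (.nd (.nd (.nd (.nd (.lf 51) (.lf 423)) (.nd (.lf 290) (.lf 0))) (.nd (.nd (.lf 367) (.lf 0)) (.nd (.lf 555) (.lf 0)))) (.nd (.nd (.nd (.lf 389) (.lf 600)) (.nd (.lf 219) (.lf 0))) (.nd (.nd (.lf 133) (.lf 0)) (.nd (.lf 334) (.lf 0))))) (.nd (.nd (.nd (.nd (.lf 33) (.lf 467)) (.nd (.lf 194) (.lf 0))) (.nd (.nd (.lf 113) (.lf 0)) (.nd (.lf 354) (.lf 0)))) (.nd (.nd (.nd (.lf 131) (.lf 631)) (.nd (.lf 495) (.lf 0))) (.nd (.nd (.lf 153) (.lf 0)) (.nd (.lf 376) (.lf 0)))))))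

/-- table part -/
def pvT_4 : Tr :=
  .nd (.nd (.nd (.nd (.nd (.nd (.nd (.lf 72) (.lf 391)) (.nd (.lf 160) (.lf 0))) (.nd (.nd (.lf 414) (.lf 0)) (.nd (.lf 255) (.lf 0)))) (.nd (.nd (.nd (.lf 232) (.lf 566)) (.nd (.lf 202) (.lf 0))) (.nd (.nd (.lf 445) (.lf 0)) (.nd (.lf 313) (.lf 0))))) (.nd (.nd (.nd (.nd (.lf 21) (.lf 441)) (.nd (.lf 179) (.lf 0))) (.nd (.nd (.lf 102) (.lf 0)) (.nd (.lf 282) (.lf 0)))) (.nd (.nd (.nd (.lf 62) (.lf 572)) (.nd (.lf 340) (.lf 0))) (.nd (.nd (.lf 352) (.lf 0)) (.nd (.lf 348) (.lf 0)))))) (.nd (.nd (.nd (.nd (.nd (.lf 188) (.lf 415)) (.nd (.lf 431) (.lf 0))) (.nd (.nd (.lf 325) (.lf 0)) (.nd (.lf 266) (.lf 0)))) (.nd (.nd (.nd (.lf 491) (.lf 574)) (.nd (.lf 510) (.lf 0))) (.nd (.nd (.lf 130) (.lf 0)) (.nd (.lf 498) (.lf 0))))) (.nd (.nd (.nd (.nd (.lf 369) (.lf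 568)) (.nd (.lf 585) (.lf 0))) (.nd (.nd (.lf 142) (.lf 0)) (.nd (.lf 298) (.lf 0)))) (.nd (.nd (.nd (.lf 210) (.lf 590)) (.nd (.lf 554) (.lf 0))) (.nd (.nd (.lf 594) (.lf 0)) (.nd (.lf 545) (.lf 0))))))) (.nd (.nd (.nd (.nd (.nd (.nd (.lf 7) (.lf 399)) (.nd (.lf 378) (.lf 0))) (.nd (.nd (.lf 87) (.lf 0)) (.nd (.lf 581) (.lf 0)))) (.nd (.nd (.nd (.lf 46) (.lf 511)) (.nd (.lf 208) (.lf 0))) (.nd (.nd (.lf 125) (.lf 0)) (.nd (.lf 570) (.lf 0))))) (.nd (.nd (.nd (.nd (.lf 25) (.lf 451)) (.nd (.lf 327) (.lf 0))) (.nd (.nd (.lf 164) (.lf 0)) (.nd (.lf 382) (.lf 0)))) (.nd (.nd (.nd (.lf 365) (.lf 614)) (.nd (.lf 326) (.lf 0))) (.nd (.nd (.lf 145) (.lf 0)) (.nd (.lf 488) (.lf 0)))))) (.nd (.nd (.nd (.nd (.nd (.lf 16) (.lf 637)) (.nd (.lf 175) (.lf 0))) (.nd (.nd (.lf 134) (.lf 0)) (.nd (.lf 395) (.lf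 0)))) (.nd (.nd (.nd (.lf 356) (.lf 535)) (.nd (.lf 223) (.lf 0))) (.nd (.nd (.lf 214) (.lf 0)) (.nd (.lf 455) (.lf 0))))) (.nd (.nd (.nd (.nd (.lf 411) (.lf 639)) (.nd (.lf 321) (.lf 0))) (.nd (.nd (.lf 560) (.lf 0)) (.nd (.lf 305) (.lf 0)))) (.nd (.nd (.nd (.lf 77) (.lf 606)) (.nd (.lf 249) (.lf 0))) (.nd (.nd (.lf 156) (.lf 0)) (.nd (.lf 385) (.lf 0)))))))

/-- table part -/
def pvT_5 : Tr :=
  .nd (.nd (.nd (.nd (.nd (.nd (.nd (.lf 0) (.lf 559)) (.nd (.lf 593) (.lf 0))) (.nd (.nd (.lf 79) (.lf 0)) (.nd (.lf 251) (.lf 0)))) (.nd (.nd (.nd (.lf 37) (.lf 552)) (.nd (.lf 199) (.lf 0))) (.nd (.nd (.lf 117) (.lf 0)) (.nd (.lf 375) (.lf 0))))) (.nd (.nd (.nd (.nd (.lf 38) (.lf 540)) (.nd (.lf 523) (.lf 0))) (.nd (.nd (.lf 277) (.lf 0)) (.nd (.lf 396) (.lf 0)))) (.nd (.nd (.nd (.lf 304) (.lf 541))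 (.nd (.lf 229) (.lf 0))) (.nd (.nd (.lf 137) (.lf 0)) (.nd (.lf 475) (.lf 0)))))) (.nd (.nd (.nd (.nd (.nd (.lf 111) (.lf 537)) (.nd (.lf 167) (.lf 0))) (.nd (.nd (.lf 89) (.lf 0)) (.nd (.lf 636) (.lf 0)))) (.nd (.nd (.nd (.lf 355) (.lf 515)) (.nd (.lf 237) (.lf 0))) (.nd (.nd (.lf 505) (.lf 0)) (.nd (.lf 446) (.lf 0))))) (.nd (.nd (.nd (.nd (.lf 27) (.lf 598)) (.nd (.lf 453) (.lf 0))) (.nd (.nd (.lf 108) (.lf 0)) (.nd (.lf 291) (.lf 0)))) (.nd (.nd (.nd (.lf 526) (.lf 575)) (.nd (.lf 238) (.lf 0))) (.nd (.nd (.lf 412) (.lf 0)) (.nd (.lf 360) (.lf 0))))))) (.nd (.nd (.nd (.nd (.nd (.nd (.lf 98) (.lf 393)) (.nd (.lf 198) (.lf 0))) (.nd (.nd (.lf 416) (.lf 0)) (.nd (.lf 257) (.lf 0)))) (.nd (.nd (.nd (.lf 43) (.lf 500)) (.nd (.lf 205) (.lf 0))) (.nd (.nd (.lf 544) (.lf 0)) (.nd (.lf 370) (.lf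 0))))) (.nd (.nd (.nd (.nd (.lf 101) (.lf 627)) (.nd (.lf 472) (.lf 0))) (.nd (.nd (.lf 403) (.lf 0)) (.nd (.lf 284) (.lf 0)))) (.nd (.nd (.nd (.lf 536) (.lf 571)) (.nd (.lf 368) (.lf 0))) (.nd (.nd (.lf 231) (.lf 0)) (.nd (.lf 351) (.lf 0)))))) (.nd (.nd (.nd (.nd (.nd (.lf 13) (.lf 419)) (.nd (.lf 172) (.lf 0))) (.nd (.nd (.lf 94) (.lf 0)) (.nd (.lf 404) (.lf 0)))) (.nd (.nd (.nd (.lf 54) (.lf 586)) (.nd (.lf 478) (.lf 0))) (.nd (.nd (.lf 295) (.lf 0)) (.nd (.lf 477) (.lf 0))))) (.nd (.nd (.nd (.nd (.lf 243) (.lf 565)) (.nd (.lf 285) (.lf 0))) (.nd (.nd (.lf 269) (.lf 0)) (.nd (.lf 301) (.lf 0)))) (.nd (.nd (.nd (.lf 74) (.lf 589)) (.nd (.lf 245) (.lf 0))) (.nd (.nd (.lf 439) (.lf 0)) (.nd (.lf 473) (.lf 0)))))))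

/-- table part -/
def pvT_6 : Tr :=
  .nd (.nd (.nd (.nd (.nd (.nd (.nd (.lf 2) (.lf 390)) (.nd (.lf 186) (.lf 0))) (.nd (.nd (.lf 81) (.lf 0)) (.nd (.lf 254) (.lf 0)))) (.nd (.nd (.nd (.lf 40) (.lf 512)) (.nd (.lf 508) (.lf 0))) (.nd (.nd (.lf 119) (.lf 0)) (.nd (.lf 311) (.lf 0))))) (.nd (.nd (.nd (.nd (.lf 83) (.lf 435)) (.nd (.lf 364) (.lf 0))) (.nd (.nd (.lf 173) (.lf 0)) (.nd (.lf 527) (.lf 0)))) (.nd (.nd (.nd (.lf 61) (.lf 551)) (.nd (.lf 228) (.lf 0))) (.nd (.nd (.lf 140) (.lf 0)) (.nd (.lf 549) (.lf 0)))))) (.nd (.nd (.nd (.nd (.nd (.lf 11) (.lf 490)) (.nd (.lf 169) (.lf 0))) (.nd (.nd (.lf 92) (.lf 0)) (.nd (.lf 381) (.lf 0)))) (.nd (.nd (.nd (.lf 91) (.lf 539)) (.nd (.lf 212) (.lf 0))) (.nd (.nd (.lf 420) (.lf 0)) (.nd (.lf 452) (.lf 0))))) (.nd (.nd (.nd (.nd (.lf 30) (.lf 462))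 (.nd (.lf 191) (.lf 0))) (.nd (.nd (.lf 110) (.lf 0)) (.nd (.lf 584) (.lf 0)))) (.nd (.nd (.nd (.lf 242) (.lf 579)) (.nd (.lf 337) (.lf 0))) (.nd (.nd (.lf 150) (.lf 0)) (.nd (.lf 366) (.lf 0))))))) (.nd (.nd (.nd (.nd (.nd (.nd (.lf 128) (.lf 486)) (.nd (.lf 380) (.lf 0))) (.nd (.nd (.lf 492) (.lf 0)) (.nd (.lf 259) (.lf 0)))) (.nd (.nd (.nd (.lf 474) (.lf 596)) (.nd (.lf 275) (.lf 0))) (.nd (.nd (.lf 227) (.lf 0)) (.nd (.lf 318) (.lf 0))))) (.nd (.nd (.nd (.nd (.lf 328) (.lf 518)) (.nd (.lf 410) (.lf 0))) (.nd (.nd (.lf 106) (.lf 0)) (.nd (.lf 288) (.lf 0)))) (.nd (.nd (.nd (.lf 66) (.lf 563)) (.nd (.lf 234) (.lf 0))) (.nd (.nd (.lf 359) (.lf 0)) (.nd (.lf 450) (.lf 0)))))) (.nd (.nd (.nd (.nd (.nd (.lf 75) (.lf 524)) (.nd (.lf 190) (.lf 0))) (.nd (.nd (.lf 96) (.lf 0)) (.nd (.lf 274) (.lf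 0)))) (.nd (.nd (.nd (.lf 56) (.lf 599)) (.nd (.lf 222) (.lf 0))) (.nd (.nd (.lf 135) (.lf 0)) (.nd (.lf 336) (.lf 0))))) (.nd (.nd (.nd (.nd (.lf 35) (.lf 613)) (.nd (.lf 196) (.lf 0))) (.nd (.nd (.lf 115) (.lf 0)) (.nd (.lf 409) (.lf 0)))) (.nd (.nd (.nd (.lf 302) (.lf 605)) (.nd (.lf 268) (.lf 0))) (.nd (.nd (.lf 398) (.lf 0)) (.nd (.lf 427) (.lf 0)))))))

/-- table part -/
def pvT_7 : Tr :=
  .nd (.nd (.nd (.nd (.nd (.nd (.nd (.lf 1) (.lf 521)) (.nd (.lf 438) (.lf 0))) (.nd (.nd (.lf 80) (.lf 0)) (.nd (.lf 253) (.lf 0)))) (.nd (.nd (.nd (.lf 39) (.lf 632)) (.nd (.lf 582) (.lf 0))) (.nd (.nd (.lf 118) (.lf 0)) (.nd (.lf 310) (.lf 0))))) (.nd (.nd (.nd (.nd (.lf 71) (.lf 433)) (.nd (.lf 281) (.lf 0))) (.nd (.nd (.lf 200) (.lf 0)) (.nd (.lf 374) (.lf 0)))) (.nd (.nd (.nd (.lf 60) (.lf 546))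 (.nd (.lf 226) (.lf 0))) (.nd (.nd (.lf 297) (.lf 0)) (.nd (.lf 343) (.lf 0)))))) (.nd (.nd (.nd (.nd (.nd (.lf 170) (.lf 407)) (.nd (.lf 168) (.lf 0))) (.nd (.nd (.lf 90) (.lf 0)) (.nd (.lf 264) (.lf 0)))) (.nd (.nd (.nd (.lf 49) (.lf 617)) (.nd (.lf 211) (.lf 0))) (.nd (.nd (.lf 347) (.lf 0)) (.nd (.lf 569) (.lf 0))))) (.nd (.nd (.nd (.nd (.lf 28) (.lf 460)) (.nd (.lf 342) (.lf 0))) (.nd (.nd (.lf 109) (.lf 0)) (.nd (.lf 628) (.lf 0)))) (.nd (.nd (.nd (.lf 499) (.lf 625)) (.nd (.lf 456) (.lf 0))) (.nd (.nd (.lf 148) (.lf 0)) (.nd (.lf 448) (.lf 0))))))) (.nd (.nd (.nd (.nd (.nd (.nd (.lf 58) (.lf 394)) (.nd (.lf 338) (.lf 0))) (.nd (.nd (.lf 85) (.lf 0)) (.nd (.lf 258) (.lf 0)))) (.nd (.nd (.nd (.lf 44) (.lf 502)) (.nd (.lf 206) (.lf 0))) (.nd (.nd (.lf 371) (.lf 0)) (.nd (.lf 612) (.lf 0)))))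 (.nd (.nd (.nd (.nd (.lf 319) (.lf 550)) (.nd (.lf 430) (.lf 0))) (.nd (.nd (.lf 105) (.lf 0)) (.nd (.lf 286) (.lf 0)))) (.nd (.nd (.nd (.lf 509) (.lf 591)) (.nd (.lf 233) (.lf 0))) (.nd (.nd (.lf 383) (.lf 0)) (.nd (.lf 353) (.lf 0)))))) (.nd (.nd (.nd (.nd (.nd (.lf 65) (.lf 621)) (.nd (.lf 432) (.lf 0))) (.nd (.nd (.lf 95) (.lf 0)) (.nd (.lf 272) (.lf 0)))) (.nd (.nd (.nd (.lf 55) (.lf 530)) (.nd (.lf 220) (.lf 0))) (.nd (.nd (.lf 225) (.lf 0)) (.nd (.lf 335) (.lf 0))))) (.nd (.nd (.nd (.nd (.lf 34) (.lf 543)) (.nd (.lf 457) (.lf 0))) (.nd (.nd (.lf 260) (.lf 0)) (.nd (.lf 349) (.lf 0)))) (.nd (.nd (.nd (.lf 501) (.lf 620)) (.nd (.lf 247) (.lf 0))) (.nd (.nd (.lf 307) (.lf 0)) (.nd (.lf 487) (.lf 0)))))))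

/-- table part -/
def pvT_8 : Tr :=
  .nd (.nd (.nd (.nd (.nd (.nd (.nd (.lf 3) (.lf 556)) (.nd (.lf 217) (.lf 0))) (.nd (.nd (.lf 82) (.lf 0)) (.nd (.lf 610) (.lf 0)))) (.nd (.nd (.nd (.lf 41) (.lf 494)) (.nd (.lf 331) (.lf 0))) (.nd (.nd (.lf 120) (.lf 0)) (.nd (.lf 330) (.lf 0))))) (.nd (.nd (.nd (.nd (.lf 32) (.lf 437)) (.nd (.lf 180) (.lf 0))) (.nd (.nd (.lf 280) (.lf 0)) (.nd (.lf 283) (.lf 0)))) (.nd (.nd (.nd (.lf 192) (.lf 623)) (.nd (.lf 503) (.lf 0))) (.nd (.nd (.lf 141) (.lf 0)) (.nd (.lf 350) (.lf 0)))))) (.nd (.nd (.nd (.nd (.nd (.lf 12) (.lf 471)) (.nd (.lf 171) (.lf 0))) (.nd (.nd (.lf 93) (.lf 0)) (.nd (.lf 267) (.lf 0)))) (.nd (.nd (.nd (.lf 70) (.lf 580)) (.nd (.lf 469) (.lf 0))) (.nd (.nd (.lf 221) (.lf 0)) (.nd (.lf 624) (.lf 0))))) (.nd (.nd (.nd (.nd (.lf 31) (.lf 516))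 (.nd (.lf 465) (.lf 0))) (.nd (.nd (.lf 397) (.lf 0)) (.nd (.lf 299) (.lf 0)))) (.nd (.nd (.nd (.lf 73) (.lf 604)) (.nd (.lf 362) (.lf 0))) (.nd (.nd (.lf 151) (.lf 0)) (.nd (.lf 373) (.lf 0))))))) (.nd (.nd (.nd (.nd (.nd (.nd (.lf 48) (.lf 400)) (.nd (.lf 165) (.lf 0))) (.nd (.nd (.lf 181) (.lf 0)) (.nd (.lf 261) (.lf 0)))) (.nd (.nd (.nd (.lf 482) (.lf 629)) (.nd (.lf 213) (.lf 0))) (.nd (.nd (.lf 534) (.lf 0)) (.nd (.lf 468) (.lf 0))))) (.nd (.nd (.nd (.nd (.lf 138) (.lf 489)) (.nd (.lf 548) (.lf 0))) (.nd (.nd (.lf 107) (.lf 0)) (.nd (.lf 289) (.lf 0)))) (.nd (.nd (.nd (.lf 67) (.lf 588)) (.nd (.lf 236) (.lf 0))) (.nd (.nd (.lf 458) (.lf 0)) (.nd (.lf 357) (.lf 0)))))) (.nd (.nd (.nd (.nd (.nd (.lf 139) (.lf 426)) (.nd (.lf 609) (.lf 0))) (.nd (.nd (.lf 97) (.lf 0)) (.nd (.lf 276) (.lf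 0)))) (.nd (.nd (.nd (.lf 57) (.lf 635)) (.nd (.lf 592) (.lf 0))) (.nd (.nd (.lf 136) (.lf 0)) (.nd (.lf 553) (.lf 0))))) (.nd (.nd (.nd (.nd (.lf 36) (.lf 479)) (.nd (.lf 197) (.lf 0))) (.nd (.nd (.lf 116) (.lf 0)) (.nd (.lf 464) (.lf 0)))) (.nd (.nd (.nd (.lf 316) (.lf 618)) (.nd (.lf 429) (.lf 0))) (.nd (.nd (.lf 246) (.lf 0)) (.nd (.lf 577) (.lf 0)))))))

/-- table part -/
def pvT_9 : Tr :=
  .nd (.nd (.nd (.nd (.nd (.nd (.nd (.lf 26) (.lf 530)) (.nd (.lf 414) (.lf 0))) (.nd (.nd (.lf 341) (.lf 0)) (.nd (.lf 342) (.lf 0)))) (.nd (.nd (.nd (.lf 36) (.lf 479)) (.nd (.lf 198) (.lf 0))) (.nd (.nd (.lf 116) (.lf 0)) (.nd (.lf 510) (.lf 0))))) (.nd (.nd (.nd (.nd (.lf 259) (.lf 426)) (.nd (.lf 202) (.lf 0))) (.nd (.nd (.lf 97) (.lf 0)) (.nd (.lf 277) (.lf 0)))) (.nd (.nd (.nd (.lf 57) (.lf 563))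 (.nd (.lf 307) (.lf 0))) (.nd (.nd (.lf 136) (.lf 0)) (.nd (.lf 532) (.lf 0)))))) (.nd (.nd (.nd (.nd (.nd (.lf 154) (.lf 595)) (.nd (.lf 241) (.lf 0))) (.nd (.nd (.lf 88) (.lf 0)) (.nd (.lf 295) (.lf 0)))) (.nd (.nd (.nd (.lf 472) (.lf 545)) (.nd (.lf 592) (.lf 0))) (.nd (.nd (.lf 195) (.lf 0)) (.nd (.lf 539) (.lf 0))))) (.nd (.nd (.nd (.nd (.lf 353) (.lf 484)) (.nd (.lf 512) (.lf 0))) (.nd (.nd (.lf 107) (.lf 0)) (.nd (.lf 290) (.lf 0)))) (.nd (.nd (.nd (.lf 526) (.lf 570)) (.nd (.lf 237) (.lf 0))) (.nd (.nd (.lf 614) (.lf 0)) (.nd (.lf 358) (.lf 0))))))) (.nd (.nd (.nd (.nd (.nd (.nd (.lf 3) (.lf 411)) (.nd (.lf 219) (.lf 0))) (.nd (.nd (.lf 82) (.lf 0)) (.nd (.lf 515) (.lf 0)))) (.nd (.nd (.nd (.lf 197) (.lf 498)) (.nd (.lf 297) (.lf 0))) (.nd (.nd (.lf 120) (.lf 0)) (.nd (.lf 370) (.lf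 0))))) (.nd (.nd (.nd (.nd (.lf 311) (.lf 437)) (.nd (.lf 180) (.lf 0))) (.nd (.nd (.lf 446) (.lf 0)) (.nd (.lf 283) (.lf 0)))) (.nd (.nd (.nd (.lf 165) (.lf 571)) (.nd (.lf 631) (.lf 0))) (.nd (.nd (.lf 141) (.lf 0)) (.nd (.lf 350) (.lf 0)))))) (.nd (.nd (.nd (.nd (.nd (.lf 12) (.lf 554)) (.nd (.lf 171) (.lf 0))) (.nd (.nd (.lf 93) (.lf 0)) (.nd (.lf 267) (.lf 0)))) (.nd (.nd (.nd (.lf 238) (.lf 619)) (.nd (.lf 600) (.lf 0))) (.nd (.nd (.lf 463) (.lf 0)) (.nd (.lf 345) (.lf 0))))) (.nd (.nd (.nd (.nd (.lf 31) (.lf 565)) (.nd (.lf 371) (.lf 0))) (.nd (.nd (.lf 399) (.lf 0)) (.nd (.lf 555) (.lf 0)))) (.nd (.nd (.nd (.lf 73) (.lf 587)) (.nd (.lf 244) (.lf 0))) (.nd (.nd (.lf 331) (.lf 0)) (.nd (.lf 374) (.lf 0)))))))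

/-- table part -/
def pvT_10 : Tr :=
  .nd (.nd (.nd (.nd (.nd (.nd (.nd (.lf 1) (.lf 389)) (.nd (.lf 527) (.lf 0))) (.nd (.nd (.lf 80) (.lf 0)) (.nd (.lf 253) (.lf 0)))) (.nd (.nd (.nd (.lf 39) (.lf 488)) (.nd (.lf 271) (.lf 0))) (.nd (.nd (.lf 118) (.lf 0)) (.nd (.lf 310) (.lf 0))))) (.nd (.nd (.nd (.nd (.lf 289) (.lf 578)) (.nd (.lf 396) (.lf 0))) (.nd (.nd (.lf 605) (.lf 0)) (.nd (.lf 280) (.lf 0)))) (.nd (.nd (.nd (.lf 60) (.lf 549)) (.nd (.lf 227) (.lf 0))) (.nd (.nd (.lf 139) (.lf 0)) (.nd (.lf 609) (.lf 0)))))) (.nd (.nd (.nd (.nd (.nd (.lf 33) (.lf 407)) (.nd (.lf 168) (.lf 0))) (.nd (.nd (.lf 90) (.lf 0)) (.nd (.lf 343) (.lf 0)))) (.nd (.nd (.nd (.lf 494) (.lf 521)) (.nd (.lf 211) (.lf 0))) (.nd (.nd (.lf 349) (.lf 0)) (.nd (.lf 377) (.lf 0))))) (.nd (.nd (.nd (.nd (.lf 366) (.lf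 461)) (.nd (.lf 190) (.lf 0))) (.nd (.nd (.lf 109) (.lf 0)) (.nd (.lf 451) (.lf 0)))) (.nd (.nd (.nd (.lf 70) (.lf 602)) (.nd (.lf 273) (.lf 0))) (.nd (.nd (.lf 508) (.lf 0)) (.nd (.lf 364) (.lf 0))))))) (.nd (.nd (.nd (.nd (.nd (.nd (.lf 127) (.lf 397)) (.nd (.lf 566) (.lf 0))) (.nd (.nd (.lf 584) (.lf 0)) (.nd (.lf 258) (.lf 0)))) (.nd (.nd (.nd (.lf 166) (.lf 572)) (.nd (.lf 245) (.lf 0))) (.nd (.nd (.lf 327) (.lf 0)) (.nd (.lf 317) (.lf 0))))) (.nd (.nd (.nd (.nd (.lf 232) (.lf 477)) (.nd (.lf 380) (.lf 0))) (.nd (.nd (.lf 105) (.lf 0)) (.nd (.lf 478) (.lf 0)))) (.nd (.nd (.nd (.lf 65) (.lf 562)) (.nd (.lf 233) (.lf 0))) (.nd (.nd (.lf 179) (.lf 0)) (.nd (.lf 354) (.lf 0)))))) (.nd (.nd (.nd (.nd (.nd (.lf 215) (.lf 591)) (.nd (.lf 495) (.lf 0))) (.nd (.nd (.lf 95) (.lf 0)) (.nd (.lf 417)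 (.lf 0)))) (.nd (.nd (.nd (.lf 55) (.lf 568)) (.nd (.lf 221) (.lf 0))) (.nd (.nd (.lf 134) (.lf 0)) (.nd (.lf 335) (.lf 0))))) (.nd (.nd (.nd (.nd (.lf 34) (.lf 613)) (.nd (.lf 464) (.lf 0))) (.nd (.nd (.lf 448) (.lf 0)) (.nd (.lf 303) (.lf 0)))) (.nd (.nd (.nd (.lf 334) (.lf 612)) (.nd (.lf 299) (.lf 0))) (.nd (.nd (.lf 540) (.lf 0)) (.nd (.lf 534) (.lf 0)))))))

/-- table part -/
def pvT_11 : Tr :=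
  .nd (.nd (.nd (.nd (.nd (.nd (.nd (.lf 0) (.lf 607)) (.nd (.lf 339) (.lf 0))) (.nd (.nd (.lf 79) (.lf 0)) (.nd (.lf 252) (.lf 0)))) (.nd (.nd (.nd (.lf 38) (.lf 546)) (.nd (.lf 199) (.lf 0))) (.nd (.nd (.lf 117) (.lf 0)) (.nd (.lf 500) (.lf 0))))) (.nd (.nd (.nd (.nd (.lf 104) (.lf 432)) (.nd (.lf 548) (.lf 0))) (.nd (.nd (.lf 284) (.lf 0)) (.nd (.lf 412) (.lf 0)))) (.nd (.nd (.nd (.lf 266) (.lf 543)) (.nd (.lf 225) (.lf 0))) (.nd (.nd (.lf 137) (.lf 0)) (.nd (.lf 493) (.lf 0)))))) (.nd (.nd (.nd (.nd (.nd (.lf 169) (.lf 403)) (.nd (.lf 167) (.lf 0))) (.nd (.nd (.lf 89) (.lf 0)) (.nd (.lf 455) (.lf 0)))) (.nd (.nd (.nd (.lf 48) (.lf 585)) (.nd (.lf 210) (.lf 0))) (.nd (.nd (.lf 611) (.lf 0)) (.nd (.lf 499) (.lf 0))))) (.nd (.nd (.nd (.nd (.lf 27) (.lf 586)) (.nd (.lf 454) (.lf 0))) (.nd (.nd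 (.lf 108) (.lf 0)) (.nd (.lf 442) (.lf 0)))) (.nd (.nd (.nd (.lf 182) (.lf 603)) (.nd (.lf 574) (.lf 0))) (.nd (.nd (.lf 147) (.lf 0)) (.nd (.lf 361) (.lf 0))))))) (.nd (.nd (.nd (.nd (.nd (.nd (.lf 42) (.lf 393)) (.nd (.lf 405) (.lf 0))) (.nd (.nd (.lf 84) (.lf 0)) (.nd (.lf 257) (.lf 0)))) (.nd (.nd (.nd (.lf 43) (.lf 501)) (.nd (.lf 205) (.lf 0))) (.nd (.nd (.lf 401) (.lf 0)) (.nd (.lf 344) (.lf 0))))) (.nd (.nd (.nd (.nd (.lf 29) (.lf 439)) (.nd (.lf 287) (.lf 0))) (.nd (.nd (.lf 418) (.lf 0)) (.nd (.lf 285) (.lf 0)))) (.nd (.nd (.nd (.lf 544) (.lf 604)) (.nd (.lf 231) (.lf 0))) (.nd (.nd (.lf 329) (.lf 0)) (.nd (.lf 352) (.lf 0)))))) (.nd (.nd (.nd (.nd (.nd (.lf 13) (.lf 502)) (.nd (.lf 172) (.lf 0))) (.nd (.nd (.lf 94) (.lf 0)) (.nd (.lf 270) (.lf 0)))) (.nd (.nd (.nd (.lf 54) (.lf 528))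 (.nd (.lf 293) (.lf 0))) (.nd (.nd (.lf 395) (.lf 0)) (.nd (.lf 420) (.lf 0))))) (.nd (.nd (.nd (.nd (.lf 294) (.lf 492)) (.nd (.lf 206) (.lf 0))) (.nd (.nd (.lf 440) (.lf 0)) (.nd (.lf 301) (.lf 0)))) (.nd (.nd (.nd (.lf 74) (.lf 598)) (.nd (.lf 246) (.lf 0))) (.nd (.nd (.lf 236) (.lf 0)) (.nd (.lf 460) (.lf 0)))))))

/-- table part -/
def pvT_12 : Tr :=
  .nd (.nd (.nd (.nd (.nd (.nd (.nd (.lf 2) (.lf 628)) (.nd (.lf 430) (.lf 0))) (.nd (.nd (.lf 81) (.lf 0)) (.nd (.lf 357) (.lf 0)))) (.nd (.nd (.nd (.lf 40) (.lf 490)) (.nd (.lf 456) (.lf 0))) (.nd (.nd (.lf 119) (.lf 0)) (.nd (.lf 617) (.lf 0))))) (.nd (.nd (.nd (.nd (.lf 114) (.lf 436)) (.nd (.lf 263) (.lf 0))) (.nd (.nd (.lf 333) (.lf 0)) (.nd (.lf 538) (.lf 0)))) (.nd (.nd (.nd (.lf 256) (.lf 551)) (.nd (.lf 228) (.lf 0))) (.nd (.nd (.lf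 140) (.lf 0)) (.nd (.lf 485) (.lf 0)))))) (.nd (.nd (.nd (.nd (.nd (.lf 11) (.lf 507)) (.nd (.lf 170) (.lf 0))) (.nd (.nd (.lf 92) (.lf 0)) (.nd (.lf 496) (.lf 0)))) (.nd (.nd (.nd (.lf 51) (.lf 523)) (.nd (.lf 213) (.lf 0))) (.nd (.nd (.lf 261) (.lf 0)) (.nd (.lf 325) (.lf 0))))) (.nd (.nd (.nd (.nd (.lf 30) (.lf 462)) (.nd (.lf 191) (.lf 0))) (.nd (.nd (.lf 110) (.lf 0)) (.nd (.lf 382) (.lf 0)))) (.nd (.nd (.nd (.lf 72) (.lf 579)) (.nd (.lf 242) (.lf 0))) (.nd (.nd (.lf 150) (.lf 0)) (.nd (.lf 367) (.lf 0))))))) (.nd (.nd (.nd (.nd (.nd (.nd (.lf 53) (.lf 443)) (.nd (.lf 164) (.lf 0))) (.nd (.nd (.lf 450) (.lf 0)) (.nd (.lf 260) (.lf 0)))) (.nd (.nd (.nd (.lf 122) (.lf 575)) (.nd (.lf 473) (.lf 0))) (.nd (.nd (.lf 222) (.lf 0)) (.nd (.lf 319) (.lf 0))))) (.nd (.nd (.nd (.nd (.lf 28) (.lf 483))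 (.nd (.lf 185) (.lf 0))) (.nd (.nd (.lf 106) (.lf 0)) (.nd (.lf 288) (.lf 0)))) (.nd (.nd (.nd (.lf 66) (.lf 564)) (.nd (.lf 235) (.lf 0))) (.nd (.nd (.lf 368) (.lf 0)) (.nd (.lf 356) (.lf 0)))))) (.nd (.nd (.nd (.nd (.nd (.lf 67) (.lf 425)) (.nd (.lf 383) (.lf 0))) (.nd (.nd (.lf 96) (.lf 0)) (.nd (.lf 274) (.lf 0)))) (.nd (.nd (.nd (.lf 56) (.lf 618)) (.nd (.lf 360) (.lf 0))) (.nd (.nd (.lf 135) (.lf 0)) (.nd (.lf 336) (.lf 0))))) (.nd (.nd (.nd (.nd (.lf 35) (.lf 471)) (.nd (.lf 196) (.lf 0))) (.nd (.nd (.lf 115) (.lf 0)) (.nd (.lf 351) (.lf 0)))) (.nd (.nd (.nd (.lf 291) (.lf 620)) (.nd (.lf 537) (.lf 0))) (.nd (.nd (.lf 312) (.lf 0)) (.nd (.lf 447) (.lf 0)))))))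

/-- table part -/
def pvT_13 : Tr :=
  .nd (.nd (.nd (.nd (.nd (.nd (.nd (.lf 37) (.lf 387)) (.nd (.lf 157) (.lf 0))) (.nd (.nd (.lf 151) (.lf 0)) (.nd (.lf 497) (.lf 0)))) (.nd (.nd (.nd (.lf 346) (.lf 480)) (.nd (.lf 381) (.lf 0))) (.nd (.nd (.lf 529) (.lf 0)) (.nd (.lf 306) (.lf 0))))) (.nd (.nd (.nd (.nd (.lf 17) (.lf 428)) (.nd (.lf 176) (.lf 0))) (.nd (.nd (.lf 98) (.lf 0)) (.nd (.lf 278) (.lf 0)))) (.nd (.nd (.nd (.lf 58) (.lf 542)) (.nd (.lf 224) (.lf 0))) (.nd (.nd (.lf 624) (.lf 0)) (.nd (.lf 340) (.lf 0)))))) (.nd (.nd (.nd (.nd (.nd (.lf 8) (.lf 402)) (.nd (.lf 475) (.lf 0))) (.nd (.nd (.lf 254) (.lf 0)) (.nd (.lf 262) (.lf 0)))) (.nd (.nd (.nd (.lf 47) (.lf 516)) (.nd (.lf 209) (.lf 0))) (.nd (.nd (.lf 126) (.lf 0)) (.nd (.lf 322) (.lf 0))))) (.nd (.nd (.nd (.nd (.lf 282) (.lf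 458)) (.nd (.lf 188) (.lf 0))) (.nd (.nd (.lf 337) (.lf 0)) (.nd (.lf 400) (.lf 0)))) (.nd (.nd (.nd (.lf 68) (.lf 635)) (.nd (.lf 315) (.lf 0))) (.nd (.nd (.lf 146) (.lf 0)) (.nd (.lf 372) (.lf 0))))))) (.nd (.nd (.nd (.nd (.nd (.nd (.lf 4) (.lf 431)) (.nd (.lf 161) (.lf 0))) (.nd (.nd (.lf 83) (.lf 0)) (.nd (.lf 558) (.lf 0)))) (.nd (.nd (.nd (.lf 467) (.lf 593)) (.nd (.lf 250) (.lf 0))) (.nd (.nd (.lf 121) (.lf 0)) (.nd (.lf 314) (.lf 0))))) (.nd (.nd (.nd (.nd (.lf 22) (.lf 438)) (.nd (.lf 181) (.lf 0))) (.nd (.nd (.lf 103) (.lf 0)) (.nd (.lf 560) (.lf 0)))) (.nd (.nd (.nd (.lf 63) (.lf 557)) (.nd (.lf 230) (.lf 0))) (.nd (.nd (.lf 142) (.lf 0)) (.nd (.lf 505) (.lf 0)))))) (.nd (.nd (.nd (.nd (.nd (.lf 220) (.lf 615)) (.nd (.lf 536) (.lf 0))) (.nd (.nd (.lf 506) (.lf 0)) (.nd (.lf 268) (.lf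 0)))) (.nd (.nd (.nd (.lf 101) (.lf 525)) (.nd (.lf 217) (.lf 0))) (.nd (.nd (.lf 132) (.lf 0)) (.nd (.lf 330) (.lf 0))))) (.nd (.nd (.nd (.nd (.lf 32) (.lf 466)) (.nd (.lf 193) (.lf 0))) (.nd (.nd (.lf 112) (.lf 0)) (.nd (.lf 634) (.lf 0)))) (.nd (.nd (.nd (.lf 573) (.lf 632)) (.nd (.lf 517) (.lf 0))) (.nd (.nd (.lf 152) (.lf 0)) (.nd (.lf 375) (.lf 0)))))))

/-- table part -/
def pvT_14 : Tr :=
  .nd (.nd (.nd (.nd (.nd (.nd (.nd (.lf 59) (.lf 616)) (.nd (.lf 159) (.lf 0))) (.nd (.nd (.lf 309) (.lf 0)) (.nd (.lf 594) (.lf 0)))) (.nd (.nd (.nd (.lf 61) (.lf 489)) (.nd (.lf 201) (.lf 0))) (.nd (.nd (.lf 318) (.lf 0)) (.nd (.lf 633) (.lf 0))))) (.nd (.nd (.nd (.nd (.lf 19) (.lf 610)) (.nd (.lf 178) (.lf 0))) (.nd (.nd (.lf 100) (.lf 0)) (.nd (.lf 281) (.lf 0)))) (.nd (.nd (.nd (.lf 272) (.lf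 590)) (.nd (.lf 550) (.lf 0))) (.nd (.nd (.lf 363) (.lf 0)) (.nd (.lf 347) (.lf 0)))))) (.nd (.nd (.nd (.nd (.nd (.lf 187) (.lf 410)) (.nd (.lf 514) (.lf 0))) (.nd (.nd (.lf 131) (.lf 0)) (.nd (.lf 265) (.lf 0)))) (.nd (.nd (.nd (.lf 50) (.lf 522)) (.nd (.lf 481) (.lf 0))) (.nd (.nd (.lf 129) (.lf 0)) (.nd (.lf 324) (.lf 0))))) (.nd (.nd (.nd (.nd (.lf 85) (.lf 606)) (.nd (.lf 275) (.lf 0))) (.nd (.nd (.lf 520) (.lf 0)) (.nd (.lf 296) (.lf 0)))) (.nd (.nd (.nd (.lf 71) (.lf 596)) (.nd (.lf 240) (.lf 0))) (.nd (.nd (.lf 622) (.lf 0)) (.nd (.lf 638) (.lf 0))))))) (.nd (.nd (.nd (.nd (.nd (.nd (.lf 6) (.lf 398)) (.nd (.lf 163) (.lf 0))) (.nd (.nd (.lf 86) (.lf 0)) (.nd (.lf 625) (.lf 0)))) (.nd (.nd (.nd (.lf 45) (.lf 504)) (.nd (.lf 207) (.lf 0))) (.nd (.nd (.lf 124) (.lf 0)) (.nd (.lf 332) (.lf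 0))))) (.nd (.nd (.nd (.nd (.lf 24) (.lf 449)) (.nd (.lf 184) (.lf 0))) (.nd (.nd (.lf 427) (.lf 0)) (.nd (.lf 394) (.lf 0)))) (.nd (.nd (.nd (.lf 552) (.lf 583)) (.nd (.lf 429) (.lf 0))) (.nd (.nd (.lf 144) (.lf 0)) (.nd (.lf 355) (.lf 0)))))) (.nd (.nd (.nd (.nd (.nd (.lf 15) (.lf 424)) (.nd (.lf 174) (.lf 0))) (.nd (.nd (.lf 365) (.lf 0)) (.nd (.lf 441) (.lf 0)))) (.nd (.nd (.nd (.lf 286) (.lf 533)) (.nd (.lf 452) (.lf 0))) (.nd (.nd (.lf 487) (.lf 0)) (.nd (.lf 359) (.lf 0))))) (.nd (.nd (.nd (.nd (.lf 308) (.lf 470)) (.nd (.lf 251) (.lf 0))) (.nd (.nd (.lf 582) (.lf 0)) (.nd (.lf 304) (.lf 0)))) (.nd (.nd (.nd (.lf 76) (.lf 626)) (.nd (.lf 248) (.lf 0))) (.nd (.nd (.lf 155) (.lf 0)) (.nd (.lf 379) (.lf 0)))))))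

/-- table part -/
def pvT_15 : Tr :=
  .nd (.nd (.nd (.nd (.nd (.nd (.nd (.lf 20) (.lf 388)) (.nd (.lf 158) (.lf 0))) (.nd (.nd (.lf 226) (.lf 0)) (.nd (.lf 348) (.lf 0)))) (.nd (.nd (.nd (.lf 148) (.lf 486)) (.nd (.lf 200) (.lf 0))) (.nd (.nd (.lf 531) (.lf 0)) (.nd (.lf 390) (.lf 0))))) (.nd (.nd (.nd (.nd (.lf 18) (.lf 474)) (.nd (.lf 177) (.lf 0))) (.nd (.nd (.lf 99) (.lf 0)) (.nd (.lf 279) (.lf 0)))) (.nd (.nd (.nd (.lf 91) (.lf 576)) (.nd (.lf 509) (.lf 0))) (.nd (.nd (.lf 138) (.lf 0)) (.nd (.lf 597) (.lf 0)))))) (.nd (.nd (.nd (.nd (.nd (.lf 9) (.lf 476)) (.nd (.lf 264) (.lf 0))) (.nd (.nd (.lf 589) (.lf 0)) (.nd (.lf 445) (.lf 0)))) (.nd (.nd (.nd (.lf 149) (.lf 518)) (.nd (.lf 435) (.lf 0))) (.nd (.nd (.lf 128) (.lf 0)) (.nd (.lf 323) (.lf 0))))) (.nd (.nd (.nd (.nd (.lf 44) (.lf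 469)) (.nd (.lf 189) (.lf 0))) (.nd (.nd (.lf 234) (.lf 0)) (.nd (.lf 292) (.lf 0)))) (.nd (.nd (.nd (.lf 69) (.lf 577)) (.nd (.lf 239) (.lf 0))) (.nd (.nd (.lf 581) (.lf 0)) (.nd (.lf 362) (.lf 0))))))) (.nd (.nd (.nd (.nd (.nd (.nd (.lf 5) (.lf 413)) (.nd (.lf 162) (.lf 0))) (.nd (.nd (.lf 406) (.lf 0)) (.nd (.lf 298) (.lf 0)))) (.nd (.nd (.nd (.lf 204) (.lf 559)) (.nd (.lf 415) (.lf 0))) (.nd (.nd (.lf 123) (.lf 0)) (.nd (.lf 316) (.lf 0))))) (.nd (.nd (.nd (.nd (.lf 23) (.lf 444)) (.nd (.lf 183) (.lf 0))) (.nd (.nd (.lf 547) (.lf 0)) (.nd (.lf 541) (.lf 0)))) (.nd (.nd (.nd (.lf 64) (.lf 561)) (.nd (.lf 556) (.lf 0))) (.nd (.nd (.lf 143) (.lf 0)) (.nd (.lf 373) (.lf 0)))))) (.nd (.nd (.nd (.nd (.nd (.lf 14) (.lf 423)) (.nd (.lf 173) (.lf 0))) (.nd (.nd (.lf 392) (.lf 0)) (.nd (.lf 328) (.lf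 0)))) (.nd (.nd (.nd (.lf 247) (.lf 621)) (.nd (.lf 630) (.lf 0))) (.nd (.nd (.lf 133) (.lf 0)) (.nd (.lf 385) (.lf 0))))) (.nd (.nd (.nd (.nd (.lf 41) (.lf 468)) (.nd (.lf 194) (.lf 0))) (.nd (.nd (.lf 113) (.lf 0)) (.nd (.lf 302) (.lf 0)))) (.nd (.nd (.nd (.lf 75) (.lf 599)) (.nd (.lf 482) (.lf 0))) (.nd (.nd (.lf 153) (.lf 0)) (.nd (.lf 376) (.lf 0)))))))

/-- table part -/
def pvT_16 : Tr :=
  .nd (.nd (.nd (.nd (.nd (.nd (.nd (.lf 10) (.lf 391)) (.nd (.lf 160) (.lf 0))) (.nd (.nd (.lf 457) (.lf 0)) (.nd (.lf 255) (.lf 0)))) (.nd (.nd (.nd (.lf 369) (.lf 637)) (.nd (.lf 203) (.lf 0))) (.nd (.nd (.lf 623) (.lf 0)) (.nd (.lf 313) (.lf 0))))) (.nd (.nd (.nd (.nd (.lf 21) (.lf 491)) (.nd (.lf 419) (.lf 0))) (.nd (.nd (.lf 102) (.lf 0)) (.nd (.lf 459) (.lf 0)))) (.nd (.nd (.nd (.lf 62) (.lf 553))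 (.nd (.lf 229) (.lf 0))) (.nd (.nd (.lf 569) (.lf 0)) (.nd (.lf 513) (.lf 0)))))) (.nd (.nd (.nd (.nd (.nd (.lf 78) (.lf 416)) (.nd (.lf 433) (.lf 0))) (.nd (.nd (.lf 384) (.lf 0)) (.nd (.lf 627) (.lf 0)))) (.nd (.nd (.nd (.lf 52) (.lf 524)) (.nd (.lf 214) (.lf 0))) (.nd (.nd (.lf 130) (.lf 0)) (.nd (.lf 326) (.lf 0))))) (.nd (.nd (.nd (.nd (.lf 378) (.lf 465)) (.nd (.lf 192) (.lf 0))) (.nd (.nd (.lf 111) (.lf 0)) (.nd (.lf 421) (.lf 0)))) (.nd (.nd (.nd (.lf 216) (.lf 580)) (.nd (.lf 243) (.lf 0))) (.nd (.nd (.lf 269) (.lf 0)) (.nd (.lf 422) (.lf 0))))))) (.nd (.nd (.nd (.nd (.nd (.nd (.lf 7) (.lf 601)) (.nd (.lf 608) (.lf 0))) (.nd (.nd (.lf 87) (.lf 0)) (.nd (.lf 434) (.lf 0)))) (.nd (.nd (.nd (.lf 46) (.lf 511)) (.nd (.lf 208) (.lf 0))) (.nd (.nd (.lf 125) (.lf 0)) (.nd (.lf 320) (.lf 0)))))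 (.nd (.nd (.nd (.nd (.lf 25) (.lf 453)) (.nd (.lf 186) (.lf 0))) (.nd (.nd (.lf 218) (.lf 0)) (.nd (.lf 639) (.lf 0)))) (.nd (.nd (.nd (.lf 300) (.lf 567)) (.nd (.lf 503) (.lf 0))) (.nd (.nd (.lf 145) (.lf 0)) (.nd (.lf 408) (.lf 0)))))) (.nd (.nd (.nd (.nd (.nd (.lf 16) (.lf 636)) (.nd (.lf 175) (.lf 0))) (.nd (.nd (.lf 404) (.lf 0)) (.nd (.lf 321) (.lf 0)))) (.nd (.nd (.nd (.lf 519) (.lf 535)) (.nd (.lf 223) (.lf 0))) (.nd (.nd (.lf 276) (.lf 0)) (.nd (.lf 338) (.lf 0))))) (.nd (.nd (.nd (.nd (.lf 49) (.lf 588)) (.nd (.lf 409) (.lf 0))) (.nd (.nd (.lf 212) (.lf 0)) (.nd (.lf 305) (.lf 0)))) (.nd (.nd (.nd (.lf 77) (.lf 629)) (.nd (.lf 249) (.lf 0))) (.nd (.nd (.lf 156) (.lf 0)) (.nd (.lf 386) (.lf 0)))))))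

/-- table -/
def pvT : Tr :=
  .nd (.nd (.nd (.nd pvT_1 pvT_2) (.nd pvT_3 pvT_4)) (.nd (.nd pvT_5 pvT_6) (.nd pvT_7 pvT_8))) (.nd (.nd (.nd pvT_9 pvT_10) (.nd pvT_11 pvT_12)) (.nd (.nd pvT_13 pvT_14) (.nd pvT_15 pvT_16)))

/-- table part -/
def parT_1 : Tr :=
  .nd (.nd (.nd (.nd (.nd (.nd (.lf 0) (.lf 774)) (.nd (.lf 314) (.lf 0))) (.nd (.nd (.lf 156) (.lf 0)) (.nd (.lf 500) (.lf 0)))) (.nd (.nd (.nd (.lf 73) (.lf 959)) (.nd (.lf 397) (.lf 0))) (.nd (.nd (.lf 233) (.lf 0)) (.nd (.lf 612) (.lf 0))))) (.nd (.nd (.nd (.nd (.lf 34) (.lf 853)) (.nd (.lf 352) (.lf 0))) (.nd (.nd (.lf 195) (.lf 0)) (.nd (.lf 555) (.lf 0)))) (.nd (.nd (.nd (.lf 115) (.lf 1076)) (.nd (.lf 448) (.lf 0))) (.nd (.nd (.lf 273) (.lf 0)) (.nd (.lf 678) (.lf 0)))))) (.nd (.nd (.nd (.nd (.nd (.lf 16) (.lf 802)) (.nd (.lf 332)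 (.lf 0))) (.nd (.nd (.lf 177) (.lf 0)) (.nd (.lf 524) (.lf 0)))) (.nd (.nd (.nd (.lf 94) (.lf 1026)) (.nd (.lf 418) (.lf 0))) (.nd (.nd (.lf 252) (.lf 0)) (.nd (.lf 644) (.lf 0))))) (.nd (.nd (.nd (.nd (.lf 52) (.lf 908)) (.nd (.lf 374) (.lf 0))) (.nd (.nd (.lf 215) (.lf 0)) (.nd (.lf 581) (.lf 0)))) (.nd (.nd (.nd (.lf 136) (.lf 1141)) (.nd (.lf 475) (.lf 0))) (.nd (.nd (.lf 292) (.lf 0)) (.nd (.lf 717) (.lf 0))))))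

/-- table part -/
def parT_2 : Tr :=
  .nd (.nd (.nd (.nd (.nd (.nd (.lf 7) (.lf 784)) (.nd (.lf 322) (.lf 0))) (.nd (.nd (.lf 165) (.lf 0)) (.nd (.lf 512) (.lf 0)))) (.nd (.nd (.nd (.lf 84) (.lf 997)) (.nd (.lf 408) (.lf 0))) (.nd (.nd (.lf 241) (.lf 0)) (.nd (.lf 628) (.lf 0))))) (.nd (.nd (.nd (.nd (.lf 44) (.lf 875)) (.nd (.lf 361) (.lf 0))) (.nd (.nd (.lf 206) (.lf 0)) (.nd (.lf 567) (.lf 0)))) (.nd (.nd (.nd (.lf 126) (.lf 1114)) (.nd (.lf 460) (.lf 0))) (.nd (.nd (.lf 283) (.lf 0)) (.nd (.lf 701) (.lf 0)))))) (.nd (.nd (.nd (.nd (.nd (.lf 25) (.lf 836)) (.nd (.lf 343) (.lf 0))) (.nd (.nd (.lf 187) (.lf 0)) (.nd (.lf 535) (.lf 0)))) (.nd (.nd (.nd (.lf 106) (.lf 1050)) (.nd (.lf 430) (.lf 0))) (.nd (.nd (.lf 264) (.lf 0)) (.nd (.lf 658) (.lf 0))))) (.nd (.nd (.nd (.nd (.lf 63) (.lf 932))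 (.nd (.lf 386) (.lf 0))) (.nd (.nd (.lf 224) (.lf 0)) (.nd (.lf 600) (.lf 0)))) (.nd (.nd (.nd (.lf 147) (.lf 1175)) (.nd (.lf 489) (.lf 0))) (.nd (.nd (.lf 304) (.lf 0)) (.nd (.lf 749) (.lf 0))))))

/-- table part -/
def parT_3 : Tr :=
  .nd (.nd (.nd (.nd (.nd (.nd (.lf 3) (.lf 779)) (.nd (.lf 318) (.lf 0))) (.nd (.nd (.lf 161) (.lf 0)) (.nd (.lf 507) (.lf 0)))) (.nd (.nd (.nd (.lf 79) (.lf 977)) (.nd (.lf 402) (.lf 0))) (.nd (.nd (.lf 237) (.lf 0)) (.nd (.lf 621) (.lf 0))))) (.nd (.nd (.nd (.nd (.lf 38) (.lf 868)) (.nd (.lf 356) (.lf 0))) (.nd (.nd (.lf 200) (.lf 0)) (.nd (.lf 561) (.lf 0)))) (.nd (.nd (.nd (.lf 121) (.lf 1099)) (.nd (.lf 455) (.lf 0))) (.nd (.nd (.lf 279) (.lf 0)) (.nd (.lf 690) (.lf 0)))))) (.nd (.nd (.nd (.nd (.nd (.lf 20) (.lf 815)) (.nd (.lf 337) (.lf 0))) (.nd (.nd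 (.lf 181) (.lf 0)) (.nd (.lf 530) (.lf 0)))) (.nd (.nd (.nd (.lf 100) (.lf 1043)) (.nd (.lf 423) (.lf 0))) (.nd (.nd (.lf 258) (.lf 0)) (.nd (.lf 648) (.lf 0))))) (.nd (.nd (.nd (.nd (.lf 58) (.lf 923)) (.nd (.lf 381) (.lf 0))) (.nd (.nd (.lf 219) (.lf 0)) (.nd (.lf 586) (.lf 0)))) (.nd (.nd (.nd (.lf 141) (.lf 1156)) (.nd (.lf 480) (.lf 0))) (.nd (.nd (.lf 298) (.lf 0)) (.nd (.lf 729) (.lf 0))))))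

/-- table part -/
def parT_4 : Tr :=
  .nd (.nd (.nd (.nd (.nd (.nd (.lf 12) (.lf 795)) (.nd (.lf 326) (.lf 0))) (.nd (.nd (.lf 172) (.lf 0)) (.nd (.lf 517) (.lf 0)))) (.nd (.nd (.nd (.lf 90) (.lf 1008)) (.nd (.lf 414) (.lf 0))) (.nd (.nd (.lf 248) (.lf 0)) (.nd (.lf 635) (.lf 0))))) (.nd (.nd (.nd (.nd (.lf 48) (.lf 898)) (.nd (.lf 368) (.lf 0))) (.nd (.nd (.lf 211) (.lf 0)) (.nd (.lf 574) (.lf 0)))) (.nd (.nd (.nd (.lf 131) (.lf 1125)) (.nd (.lf 467) (.lf 0))) (.nd (.nd (.lf 288) (.lf 0)) (.nd (.lf 709) (.lf 0)))))) (.nd (.nd (.nd (.nd (.nd (.lf 30) (.lf 848)) (.nd (.lf 348) (.lf 0))) (.nd (.nd (.lf 191) (.lf 0)) (.nd (.lf 546) (.lf 0)))) (.nd (.nd (.nd (.lf 111) (.lf 1066)) (.nd (.lf 443) (.lf 0))) (.nd (.nd (.lf 269) (.lf 0)) (.nd (.lf 671) (.lf 0))))) (.nd (.nd (.nd (.nd (.lf 69) (.lf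 940)) (.nd (.lf 390) (.lf 0))) (.nd (.nd (.lf 228) (.lf 0)) (.nd (.lf 607) (.lf 0)))) (.nd (.nd (.nd (.lf 152) (.lf 1202)) (.nd (.lf 496) (.lf 0))) (.nd (.nd (.lf 308) (.lf 0)) (.nd (.lf 754) (.lf 0))))))

/-- table part -/
def parT_5 : Tr :=
  .nd (.nd (.nd (.nd (.nd (.nd (.lf 1) (.lf 776)) (.nd (.lf 316) (.lf 0))) (.nd (.nd (.lf 159) (.lf 0)) (.nd (.lf 505) (.lf 0)))) (.nd (.nd (.nd (.lf 77) (.lf 970)) (.nd (.lf 399) (.lf 0))) (.nd (.nd (.lf 235) (.lf 0)) (.nd (.lf 618) (.lf 0))))) (.nd (.nd (.nd (.nd (.lf 36) (.lf 865)) (.nd (.lf 354) (.lf 0))) (.nd (.nd (.lf 198) (.lf 0)) (.nd (.lf 558) (.lf 0)))) (.nd (.nd (.nd (.lf 118) (.lf 1087)) (.nd (.lf 451) (.lf 0))) (.nd (.nd (.lf 275) (.lf 0)) (.nd (.lf 682) (.lf 0)))))) (.nd (.nd (.nd (.nd (.nd (.lf 18) (.lf 807)) (.nd (.lf 335) (.lf 0))) (.nd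 (.nd (.lf 179) (.lf 0)) (.nd (.lf 526) (.lf 0)))) (.nd (.nd (.nd (.lf 97) (.lf 1034)) (.nd (.lf 421) (.lf 0))) (.nd (.nd (.lf 254) (.lf 0)) (.nd (.lf 646) (.lf 0))))) (.nd (.nd (.nd (.nd (.lf 55) (.lf 918)) (.nd (.lf 378) (.lf 0))) (.nd (.nd (.lf 217) (.lf 0)) (.nd (.lf 584) (.lf 0)))) (.nd (.nd (.nd (.lf 138) (.lf 1152)) (.nd (.lf 478) (.lf 0))) (.nd (.nd (.lf 295) (.lf 0)) (.nd (.lf 723) (.lf 0))))))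

/-- table part -/
def parT_6 : Tr :=
  .nd (.nd (.nd (.nd (.nd (.nd (.lf 10) (.lf 787)) (.nd (.lf 324) (.lf 0))) (.nd (.nd (.lf 169) (.lf 0)) (.nd (.lf 515) (.lf 0)))) (.nd (.nd (.nd (.lf 87) (.lf 1003)) (.nd (.lf 411) (.lf 0))) (.nd (.nd (.lf 246) (.lf 0)) (.nd (.lf 630) (.lf 0))))) (.nd (.nd (.nd (.nd (.lf 46) (.lf 879)) (.nd (.lf 366) (.lf 0))) (.nd (.nd (.lf 208) (.lf 0)) (.nd (.lf 571) (.lf 0)))) (.nd (.nd (.nd (.lf 128) (.lf 1122)) (.nd (.lf 463) (.lf 0))) (.nd (.nd (.lf 286) (.lf 0)) (.nd (.lf 705) (.lf 0)))))) (.nd (.nd (.nd (.nd (.nd (.lf 27) (.lf 846)) (.nd (.lf 345) (.lf 0))) (.nd (.nd (.lf 189) (.lf 0)) (.nd (.lf 541) (.lf 0)))) (.nd (.nd (.nd (.lf 109) (.lf 1057)) (.nd (.lf 438) (.lf 0))) (.nd (.nd (.lf 266) (.lf 0)) (.nd (.lf 668) (.lf 0))))) (.nd (.nd (.nd (.nd (.lf 66) (.lf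 934)) (.nd (.lf 388) (.lf 0))) (.nd (.nd (.lf 226) (.lf 0)) (.nd (.lf 603) (.lf 0)))) (.nd (.nd (.nd (.lf 149) (.lf 1197)) (.nd (.lf 493) (.lf 0))) (.nd (.nd (.lf 306) (.lf 0)) (.nd (.lf 752) (.lf 0))))))

/-- table part -/
def parT_7 : Tr :=
  .nd (.nd (.nd (.nd (.nd (.nd (.lf 5) (.lf 782)) (.nd (.lf 320) (.lf 0))) (.nd (.nd (.lf 163) (.lf 0)) (.nd (.lf 510) (.lf 0)))) (.nd (.nd (.nd (.lf 81) (.lf 981)) (.nd (.lf 404) (.lf 0))) (.nd (.nd (.lf 239) (.lf 0)) (.nd (.lf 626) (.lf 0))))) (.nd (.nd (.nd (.nd (.lf 42) (.lf 873)) (.nd (.lf 358) (.lf 0))) (.nd (.nd (.lf 204) (.lf 0)) (.nd (.lf 564) (.lf 0)))) (.nd (.nd (.nd (.lf 124) (.lf 1103)) (.nd (.lf 457) (.lf 0))) (.nd (.nd (.lf 281) (.lf 0)) (.nd (.lf 696) (.lf 0)))))) (.nd (.nd (.nd (.nd (.nd (.lf 23) (.lf 830)) (.nd (.lf 341) (.lf 0))) (.nd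 (.nd (.lf 185) (.lf 0)) (.nd (.lf 532) (.lf 0)))) (.nd (.nd (.nd (.lf 103) (.lf 1047)) (.nd (.lf 427) (.lf 0))) (.nd (.nd (.lf 260) (.lf 0)) (.nd (.lf 651) (.lf 0))))) (.nd (.nd (.nd (.nd (.lf 61) (.lf 925)) (.nd (.lf 383) (.lf 0))) (.nd (.nd (.lf 221) (.lf 0)) (.nd (.lf 596) (.lf 0)))) (.nd (.nd (.nd (.lf 145) (.lf 1159)) (.nd (.lf 485) (.lf 0))) (.nd (.nd (.lf 301) (.lf 0)) (.nd (.lf 735) (.lf 0))))))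

/-- table part -/
def parT_8 : Tr :=
  .nd (.nd (.nd (.nd (.nd (.nd (.lf 14) (.lf 798)) (.nd (.lf 329) (.lf 0))) (.nd (.nd (.lf 174) (.lf 0)) (.nd (.lf 521) (.lf 0)))) (.nd (.nd (.nd (.lf 92) (.lf 1022)) (.nd (.lf 416) (.lf 0))) (.nd (.nd (.lf 250) (.lf 0)) (.nd (.lf 639) (.lf 0))))) (.nd (.nd (.nd (.nd (.lf 50) (.lf 902)) (.nd (.lf 371) (.lf 0))) (.nd (.nd (.lf 213) (.lf 0)) (.nd (.lf 577) (.lf 0)))) (.nd (.nd (.nd (.lf 133) (.lf 1129)) (.nd (.lf 471) (.lf 0))) (.nd (.nd (.lf 290) (.lf 0)) (.nd (.lf 713) (.lf 0)))))) (.nd (.nd (.nd (.nd (.nd (.lf 32) (.lf 851)) (.nd (.lf 350) (.lf 0))) (.nd (.nd (.lf 193) (.lf 0)) (.nd (.lf 549) (.lf 0)))) (.nd (.nd (.nd (.lf 113) (.lf 1070)) (.nd (.lf 446) (.lf 0))) (.nd (.nd (.lf 271) (.lf 0)) (.nd (.lf 673) (.lf 0))))) (.nd (.nd (.nd (.nd (.lf 71) (.lf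 943)) (.nd (.lf 393) (.lf 0))) (.nd (.nd (.lf 231) (.lf 0)) (.nd (.lf 610) (.lf 0)))) (.nd (.nd (.nd (.lf 154) (.lf 1212)) (.nd (.lf 498) (.lf 0))) (.nd (.nd (.lf 312) (.lf 0)) (.nd (.lf 770) (.lf 0))))))

/-- table part -/
def parT_9 : Tr :=
  .nd (.nd (.nd (.nd (.nd (.nd (.lf 0) (.lf 775)) (.nd (.lf 315) (.lf 0))) (.nd (.nd (.lf 158) (.lf 0)) (.nd (.lf 502) (.lf 0)))) (.nd (.nd (.nd (.lf 74) (.lf 961)) (.nd (.lf 398) (.lf 0))) (.nd (.nd (.lf 234) (.lf 0)) (.nd (.lf 613) (.lf 0))))) (.nd (.nd (.nd (.nd (.lf 35) (.lf 857)) (.nd (.lf 353) (.lf 0))) (.nd (.nd (.lf 197) (.lf 0)) (.nd (.lf 557) (.lf 0)))) (.nd (.nd (.nd (.lf 117) (.lf 1082)) (.nd (.lf 449) (.lf 0))) (.nd (.nd (.lf 274) (.lf 0)) (.nd (.lf 681) (.lf 0)))))) (.nd (.nd (.nd (.nd (.nd (.lf 17) (.lf 805)) (.nd (.lf 334) (.lf 0))) (.nd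 (.nd (.lf 178) (.lf 0)) (.nd (.lf 525) (.lf 0)))) (.nd (.nd (.nd (.lf 95) (.lf 1030)) (.nd (.lf 419) (.lf 0))) (.nd (.nd (.lf 253) (.lf 0)) (.nd (.lf 645) (.lf 0))))) (.nd (.nd (.nd (.nd (.lf 54) (.lf 917)) (.nd (.lf 377) (.lf 0))) (.nd (.nd (.lf 216) (.lf 0)) (.nd (.lf 582) (.lf 0)))) (.nd (.nd (.nd (.lf 137) (.lf 1150)) (.nd (.lf 476) (.lf 0))) (.nd (.nd (.lf 293) (.lf 0)) (.nd (.lf 720) (.lf 0))))))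

/-- table part -/
def parT_10 : Tr :=
  .nd (.nd (.nd (.nd (.nd (.nd (.lf 9) (.lf 786)) (.nd (.lf 323) (.lf 0))) (.nd (.nd (.lf 167) (.lf 0)) (.nd (.lf 514) (.lf 0)))) (.nd (.nd (.nd (.lf 86) (.lf 1000)) (.nd (.lf 410) (.lf 0))) (.nd (.nd (.lf 243) (.lf 0)) (.nd (.lf 629) (.lf 0))))) (.nd (.nd (.nd (.nd (.lf 45) (.lf 877)) (.nd (.lf 363) (.lf 0))) (.nd (.nd (.lf 207) (.lf 0)) (.nd (.lf 568) (.lf 0)))) (.nd (.nd (.nd (.lf 127) (.lf 1115)) (.nd (.lf 461) (.lf 0))) (.nd (.nd (.lf 285) (.lf 0)) (.nd (.lf 702) (.lf 0)))))) (.nd (.nd (.nd (.nd (.nd (.lf 26) (.lf 838)) (.nd (.lf 344) (.lf 0))) (.nd (.nd (.lf 188) (.lf 0)) (.nd (.lf 537) (.lf 0)))) (.nd (.nd (.nd (.lf 108) (.lf 1051)) (.nd (.lf 435) (.lf 0))) (.nd (.nd (.lf 265) (.lf 0)) (.nd (.lf 661) (.lf 0))))) (.nd (.nd (.nd (.nd (.lf 65) (.lf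 933)) (.nd (.lf 387) (.lf 0))) (.nd (.nd (.lf 225) (.lf 0)) (.nd (.lf 602) (.lf 0)))) (.nd (.nd (.nd (.lf 148) (.lf 1178)) (.nd (.lf 490) (.lf 0))) (.nd (.nd (.lf 305) (.lf 0)) (.nd (.lf 751) (.lf 0))))))

/-- table part -/
def parT_11 : Tr :=
  .nd (.nd (.nd (.nd (.nd (.nd (.lf 4) (.lf 780)) (.nd (.lf 319) (.lf 0))) (.nd (.nd (.lf 162) (.lf 0)) (.nd (.lf 508) (.lf 0)))) (.nd (.nd (.nd (.lf 80) (.lf 979)) (.nd (.lf 403) (.lf 0))) (.nd (.nd (.lf 238) (.lf 0)) (.nd (.lf 622) (.lf 0))))) (.nd (.nd (.nd (.nd (.lf 39) (.lf 870)) (.nd (.lf 357) (.lf 0))) (.nd (.nd (.lf 201) (.lf 0)) (.nd (.lf 563) (.lf 0)))) (.nd (.nd (.nd (.lf 122) (.lf 1102)) (.nd (.lf 456) (.lf 0))) (.nd (.nd (.lf 280) (.lf 0)) (.nd (.lf 695) (.lf 0)))))) (.nd (.nd (.nd (.nd (.nd (.lf 22) (.lf 821)) (.nd (.lf 338) (.lf 0))) (.nd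 (.nd (.lf 184) (.lf 0)) (.nd (.lf 531) (.lf 0)))) (.nd (.nd (.nd (.lf 101) (.lf 1045)) (.nd (.lf 424) (.lf 0))) (.nd (.nd (.lf 259) (.lf 0)) (.nd (.lf 649) (.lf 0))))) (.nd (.nd (.nd (.nd (.lf 60) (.lf 924)) (.nd (.lf 382) (.lf 0))) (.nd (.nd (.lf 220) (.lf 0)) (.nd (.lf 593) (.lf 0)))) (.nd (.nd (.nd (.lf 143) (.lf 1158)) (.nd (.lf 481) (.lf 0))) (.nd (.nd (.lf 300) (.lf 0)) (.nd (.lf 732) (.lf 0))))))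

/-- table part -/
def parT_12 : Tr :=
  .nd (.nd (.nd (.nd (.nd (.nd (.lf 13) (.lf 797)) (.nd (.lf 327) (.lf 0))) (.nd (.nd (.lf 173) (.lf 0)) (.nd (.lf 518) (.lf 0)))) (.nd (.nd (.nd (.lf 91) (.lf 1009)) (.nd (.lf 415) (.lf 0))) (.nd (.nd (.lf 249) (.lf 0)) (.nd (.lf 636) (.lf 0))))) (.nd (.nd (.nd (.nd (.lf 49) (.lf 899)) (.nd (.lf 369) (.lf 0))) (.nd (.nd (.lf 212) (.lf 0)) (.nd (.lf 576) (.lf 0)))) (.nd (.nd (.nd (.lf 132) (.lf 1126)) (.nd (.lf 468) (.lf 0))) (.nd (.nd (.lf 289) (.lf 0)) (.nd (.lf 711) (.lf 0)))))) (.nd (.nd (.nd (.nd (.nd (.lf 31) (.lf 849)) (.nd (.lf 349) (.lf 0))) (.nd (.nd (.lf 192) (.lf 0)) (.nd (.lf 548) (.lf 0)))) (.nd (.nd (.nd (.lf 112) (.lf 1067)) (.nd (.lf 444) (.lf 0))) (.nd (.nd (.lf 270) (.lf 0)) (.nd (.lf 672) (.lf 0))))) (.nd (.nd (.nd (.nd (.lf 70) (.lf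 941)) (.nd (.lf 392) (.lf 0))) (.nd (.nd (.lf 230) (.lf 0)) (.nd (.lf 609) (.lf 0)))) (.nd (.nd (.nd (.lf 153) (.lf 1210)) (.nd (.lf 497) (.lf 0))) (.nd (.nd (.lf 311) (.lf 0)) (.nd (.lf 759) (.lf 0))))))

/-- table part -/
def parT_13 : Tr :=
  .nd (.nd (.nd (.nd (.nd (.nd (.lf 2) (.lf 777)) (.nd (.lf 317) (.lf 0))) (.nd (.nd (.lf 160) (.lf 0)) (.nd (.lf 506) (.lf 0)))) (.nd (.nd (.nd (.lf 78) (.lf 973)) (.nd (.lf 401) (.lf 0))) (.nd (.nd (.lf 236) (.lf 0)) (.nd (.lf 620) (.lf 0))))) (.nd (.nd (.nd (.nd (.lf 37) (.lf 866)) (.nd (.lf 355) (.lf 0))) (.nd (.nd (.lf 199) (.lf 0)) (.nd (.lf 559) (.lf 0)))) (.nd (.nd (.nd (.lf 120) (.lf 1092)) (.nd (.lf 452) (.lf 0))) (.nd (.nd (.lf 277) (.lf 0)) (.nd (.lf 686) (.lf 0)))))) (.nd (.nd (.nd (.nd (.nd (.lf 19) (.lf 814)) (.nd (.lf 336) (.lf 0))) (.nd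 (.nd (.lf 180) (.lf 0)) (.nd (.lf 528) (.lf 0)))) (.nd (.nd (.nd (.lf 98) (.lf 1037)) (.nd (.lf 422) (.lf 0))) (.nd (.nd (.lf 257) (.lf 0)) (.nd (.lf 647) (.lf 0))))) (.nd (.nd (.nd (.nd (.lf 56) (.lf 920)) (.nd (.lf 379) (.lf 0))) (.nd (.nd (.lf 218) (.lf 0)) (.nd (.lf 585) (.lf 0)))) (.nd (.nd (.nd (.lf 139) (.lf 1155)) (.nd (.lf 479) (.lf 0))) (.nd (.nd (.lf 296) (.lf 0)) (.nd (.lf 725) (.lf 0))))))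

/-- table part -/
def parT_14 : Tr :=
  .nd (.nd (.nd (.nd (.nd (.nd (.lf 11) (.lf 788)) (.nd (.lf 325) (.lf 0))) (.nd (.nd (.lf 170) (.lf 0)) (.nd (.lf 516) (.lf 0)))) (.nd (.nd (.nd (.lf 88) (.lf 1004)) (.nd (.lf 412) (.lf 0))) (.nd (.nd (.lf 247) (.lf 0)) (.nd (.lf 633) (.lf 0))))) (.nd (.nd (.nd (.nd (.lf 47) (.lf 889)) (.nd (.lf 367) (.lf 0))) (.nd (.nd (.lf 210) (.lf 0)) (.nd (.lf 572) (.lf 0)))) (.nd (.nd (.nd (.lf 129) (.lf 1123)) (.nd (.lf 466) (.lf 0))) (.nd (.nd (.lf 287) (.lf 0)) (.nd (.lf 706) (.lf 0)))))) (.nd (.nd (.nd (.nd (.nd (.lf 29) (.lf 847)) (.nd (.lf 347) (.lf 0))) (.nd (.nd (.lf 190) (.lf 0)) (.nd (.lf 544) (.lf 0)))) (.nd (.nd (.nd (.lf 110) (.lf 1060)) (.nd (.lf 440) (.lf 0))) (.nd (.nd (.lf 267) (.lf 0)) (.nd (.lf 670) (.lf 0))))) (.nd (.nd (.nd (.nd (.lf 68) (.lf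 937)) (.nd (.lf 389) (.lf 0))) (.nd (.nd (.lf 227) (.lf 0)) (.nd (.lf 605) (.lf 0)))) (.nd (.nd (.nd (.lf 151) (.lf 1199)) (.nd (.lf 494) (.lf 0))) (.nd (.nd (.lf 307) (.lf 0)) (.nd (.lf 753) (.lf 0))))))

/-- table part -/
def parT_15 : Tr :=
  .nd (.nd (.nd (.nd (.nd (.nd (.lf 6) (.lf 783)) (.nd (.lf 321) (.lf 0))) (.nd (.nd (.lf 164) (.lf 0)) (.nd (.lf 511) (.lf 0)))) (.nd (.nd (.nd (.lf 82) (.lf 988)) (.nd (.lf 407) (.lf 0))) (.nd (.nd (.lf 240) (.lf 0)) (.nd (.lf 627) (.lf 0))))) (.nd (.nd (.nd (.nd (.lf 43) (.lf 874)) (.nd (.lf 360) (.lf 0))) (.nd (.nd (.lf 205) (.lf 0)) (.nd (.lf 566) (.lf 0)))) (.nd (.nd (.nd (.lf 125) (.lf 1107)) (.nd (.lf 459) (.lf 0))) (.nd (.nd (.lf 282) (.lf 0)) (.nd (.lf 700) (.lf 0)))))) (.nd (.nd (.nd (.nd (.nd (.lf 24) (.lf 833)) (.nd (.lf 342) (.lf 0))) (.nd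 (.nd (.lf 186) (.lf 0)) (.nd (.lf 534) (.lf 0)))) (.nd (.nd (.nd (.lf 105) (.lf 1049)) (.nd (.lf 429) (.lf 0))) (.nd (.nd (.lf 261) (.lf 0)) (.nd (.lf 653) (.lf 0))))) (.nd (.nd (.nd (.nd (.lf 62) (.lf 931)) (.nd (.lf 385) (.lf 0))) (.nd (.nd (.lf 223) (.lf 0)) (.nd (.lf 598) (.lf 0)))) (.nd (.nd (.nd (.lf 146) (.lf 1161)) (.nd (.lf 487) (.lf 0))) (.nd (.nd (.lf 302) (.lf 0)) (.nd (.lf 746) (.lf 0))))))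

/-- table part -/
def parT_16 : Tr :=
  .nd (.nd (.nd (.nd (.nd (.nd (.lf 15) (.lf 800)) (.nd (.lf 330) (.lf 0))) (.nd (.nd (.lf 175) (.lf 0)) (.nd (.lf 522) (.lf 0)))) (.nd (.nd (.nd (.lf 93) (.lf 1023)) (.nd (.lf 417) (.lf 0))) (.nd (.nd (.lf 251) (.lf 0)) (.nd (.lf 641) (.lf 0))))) (.nd (.nd (.nd (.nd (.lf 51) (.lf 907)) (.nd (.lf 373) (.lf 0))) (.nd (.nd (.lf 214) (.lf 0)) (.nd (.lf 578) (.lf 0)))) (.nd (.nd (.nd (.lf 134) (.lf 1135)) (.nd (.lf 472) (.lf 0))) (.nd (.nd (.lf 291) (.lf 0)) (.nd (.lf 714) (.lf 0)))))) (.nd (.nd (.nd (.nd (.nd (.lf 33) (.lf 852)) (.nd (.lf 351) (.lf 0))) (.nd (.nd (.lf 194) (.lf 0)) (.nd (.lf 552) (.lf 0)))) (.nd (.nd (.nd (.lf 114) (.lf 1071)) (.nd (.lf 447) (.lf 0))) (.nd (.nd (.lf 272) (.lf 0)) (.nd (.lf 677) (.lf 0))))) (.nd (.nd (.nd (.nd (.lf 72) (.lf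 958)) (.nd (.lf 394) (.lf 0))) (.nd (.nd (.lf 232) (.lf 0)) (.nd (.lf 611) (.lf 0)))) (.nd (.nd (.nd (.lf 155) (.lf 1236)) (.nd (.lf 499) (.lf 0))) (.nd (.nd (.lf 313) (.lf 0)) (.nd (.lf 773) (.lf 0))))))

/-- table -/
def parT : Tr :=
  .nd (.nd (.nd (.nd parT_1 parT_2) (.nd parT_3 parT_4)) (.nd (.nd parT_5 parT_6) (.nd parT_7 parT_8))) (.nd (.nd (.nd parT_9 parT_10) (.nd parT_11 parT_12)) (.nd (.nd parT_13 parT_14) (.nd parT_15 parT_16)))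

/-- table part -/
def fmT_1 : Tr :=
  .nd (.nd (.nd (.nd (.nd (.nd (.nd (.lf 0) (.lf 79228176681363786202479591426)) (.nd (.lf 0) (.lf 0))) (.nd (.nd (.lf 0) (.lf 0)) (.nd (.lf 79228162514265182018474082305) (.lf 0)))) (.nd (.nd (.nd (.lf 0) (.lf 0)) (.nd (.lf 79228162514264900543497371648) (.lf 0))) (.nd (.nd (.lf 79228171958997303332834377729) (.lf 0)) (.nd (.lf 79228167236631383413142585346) (.lf 0))))) (.nd (.nd (.nd (.nd (.lf 14167100011558889062402) (.lf 237684487542793575730585272322)) (.nd (.lf 0) (.lf 0))) (.nd (.nd (.lf 0) (.lf 0)) (.nd (.lf 237684487542793575730585272323) (.lf 0)))) (.nd (.nd (.nd (.lf 0) (.lf 237684487542793857205561982979)) (.nd (.lf 4722366482869645213696) (.lf 0))) (.nd (.nd (.lf 0) (.lf 0)) (.nd (.lf 4722366482869645213696) (.lf 0)))))) (.nd (.nd (.nd (.nd (.nd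 (.lf 0) (.lf 79228171958998147757764509696)) (.nd (.lf 0) (.lf 0))) (.nd (.nd (.lf 0) (.lf 0)) (.nd (.lf 0) (.lf 0)))) (.nd (.nd (.nd (.lf 0) (.lf 158456329750895721006686535682)) (.nd (.lf 0) (.lf 0))) (.nd (.nd (.lf 0) (.lf 0)) (.nd (.lf 14167100011558889062400) (.lf 0))))) (.nd (.nd (.nd (.nd (.lf 14167099448608935641088) (.lf 158456334473261640926378328065)) (.nd (.lf 237684496987525978519922278400) (.lf 0))) (.nd (.nd (.lf 0) (.lf 0)) (.nd (.lf 79228162514264619068520660993) (.lf 0)))) (.nd (.nd (.nd (.lf 0) (.lf 14167099448608935641089)) (.nd (.lf 79228171958997584807811088384) (.lf 0))) (.nd (.nd (.lf 0) (.lf 0)) (.nd (.lf 237684496987526541469875699712) (.lf 0))))))) (.nd (.nd (.nd (.nd (.nd (.nd (.lf 0) (.lf 0)) (.nd (.lf 0) (.lf 0))) (.nd (.nd (.lf 0) (.lf 0)) (.nd (.lf 0) (.lf 0))))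 (.nd (.nd (.nd (.lf 0) (.lf 237684496987526259994898989058)) (.nd (.lf 0) (.lf 0))) (.nd (.nd (.lf 9444733528689243848705) (.lf 0)) (.nd (.lf 14167099448608935641090) (.lf 0))))) (.nd (.nd (.nd (.nd (.lf 0) (.lf 79228176681364630627409723395)) (.nd (.lf 237684496987525978519922278402) (.lf 0))) (.nd (.nd (.lf 0) (.lf 0)) (.nd (.lf 0) (.lf 0)))) (.nd (.nd (.nd (.lf 0) (.lf 237684496987525978519922278400)) (.nd (.lf 0) (.lf 0))) (.nd (.nd (.lf 14167100011558889062401) (.lf 0)) (.nd (.lf 79228176681364349152433012737) (.lf 0)))))) (.nd (.nd (.nd (.nd (.nd (.lf 0) (.lf 0)) (.nd (.lf 79228176681363786202479591427) (.lf 0))) (.nd (.nd (.lf 0) (.lf 0)) (.nd (.lf 158456339195628123796023541763) (.lf 0)))) (.nd (.nd (.nd (.lf 0) (.lf 158456334473261922401355038720)) (.nd (.lf 9444732965739290427392)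 (.lf 0))) (.nd (.nd (.lf 79228167236631664888119296001) (.lf 0)) (.nd (.lf 4722366482869645213699) (.lf 0))))) (.nd (.nd (.nd (.nd (.lf 0) (.lf 158456325028528675187087900675)) (.nd (.lf 237684501709893305814497624067) (.lf 0))) (.nd (.nd (.lf 0) (.lf 0)) (.nd (.lf 0) (.lf 0)))) (.nd (.nd (.nd (.lf 0) (.lf 562949953421312)) (.nd (.lf 0) (.lf 0))) (.nd (.nd (.lf 0) (.lf 0)) (.nd (.lf 0) (.lf 0)))))))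

/-- table part -/
def fmT_2 : Tr :=
  .nd (.nd (.nd (.nd (.nd (.nd (.nd (.lf 237684487542793012780631851008) (.lf 237684487542793575730585272321)) (.nd (.lf 79228171958997303332834377728) (.lf 0))) (.nd (.nd (.lf 0) (.lf 0)) (.nd (.lf 0) (.lf 0)))) (.nd (.nd (.nd (.lf 0) (.lf 79228176681364067677456302080)) (.nd (.lf 0) (.lf 0))) (.nd (.nd (.lf 0) (.lf 0)) (.nd (.lf 158456339195628405271000252416) (.lf 0))))) (.nd (.nd (.nd (.nd (.lf 0) (.lf 79228167236631664888119296002)) (.nd (.lf 0) (.lf 0))) (.nd (.nd (.lf 4722366482869645213696) (.lf 0)) (.nd (.lf 158456339195628686745976963073) (.lf 0)))) (.nd (.nd (.nd (.lf 0) (.lf 158456329750895158056733114371)) (.nd (.lf 237684487542793294255608561667) (.lf 0))) (.nd (.nd (.lf 0) (.lf 0)) (.nd (.lf 237684492265159495650277064705) (.lf 0)))))) (.nd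 (.nd (.nd (.nd (.nd (.lf 79228162514264337593543950336) (.lf 79228162514264619068520660995)) (.nd (.lf 0) (.lf 0))) (.nd (.nd (.lf 0) (.lf 0)) (.nd (.lf 158456325028528956662064611330) (.lf 0)))) (.nd (.nd (.nd (.lf 4722366482869645213696) (.lf 158456329750895158056733114371)) (.nd (.lf 79228162514264337593543950337) (.lf 0))) (.nd (.nd (.lf 0) (.lf 0)) (.nd (.lf 79228162514264619068520660992) (.lf 0))))) (.nd (.nd (.nd (.nd (.lf 237684492265159495650277064704) (.lf 237684501709892742864544202755)) (.nd (.lf 14167099448608935641089) (.lf 0))) (.nd (.nd (.lf 0) (.lf 0)) (.nd (.lf 79228167236630820463189164033) (.lf 0)))) (.nd (.nd (.nd (.lf 0) (.lf 237684501709892742864544202752)) (.nd (.lf 9444732965739290427392) (.lf 0))) (.nd (.nd (.lf 14167099448608935641088) (.lf 0)) (.nd (.lf 0) (.lf 0)))))))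 (.nd (.nd (.nd (.nd (.nd (.nd (.lf 0) (.lf 562949953421314)) (.nd (.lf 158456334473261640926378328067) (.lf 0))) (.nd (.nd (.lf 0) (.lf 0)) (.nd (.lf 158456339195628405271000252417) (.lf 0)))) (.nd (.nd (.nd (.lf 0) (.lf 79228162514265182018474082305)) (.nd (.lf 281474976710656) (.lf 0))) (.nd (.nd (.lf 0) (.lf 0)) (.nd (.lf 0) (.lf 0))))) (.nd (.nd (.nd (.nd (.lf 0) (.lf 158456334473262203876331749377)) (.nd (.lf 0) (.lf 0))) (.nd (.nd (.lf 0) (.lf 0)) (.nd (.lf 4722367045819598635011) (.lf 0)))) (.nd (.nd (.nd (.lf 0) (.lf 4722367045819598635010)) (.nd (.lf 237684492265160058600230486018) (.lf 0))) (.nd (.nd (.lf 0) (.lf 0)) (.nd (.lf 158456334473261922401355038720) (.lf 0)))))) (.nd (.nd (.nd (.nd (.nd (.lf 0) (.lf 9444732965739290427395)) (.nd (.lf 0) (.lf 0))) (.nd (.nd (.lf 0) (.lf 0))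 (.nd (.lf 79228176681364067677456302081) (.lf 0)))) (.nd (.nd (.nd (.lf 0) (.lf 4722366482869645213699)) (.nd (.lf 0) (.lf 0))) (.nd (.nd (.lf 0) (.lf 0)) (.nd (.lf 237684496987526259994898989057) (.lf 0))))) (.nd (.nd (.nd (.nd (.lf 0) (.lf 158456334473261640926378328065)) (.nd (.lf 4722366482869645213696) (.lf 0))) (.nd (.nd (.lf 0) (.lf 0)) (.nd (.lf 237684487542793294255608561667) (.lf 0)))) (.nd (.nd (.nd (.lf 0) (.lf 158456339195628405271000252416)) (.nd (.lf 158456329750895158056733114369) (.lf 0))) (.nd (.nd (.lf 14167099448608935641088) (.lf 0)) (.nd (.lf 14167100011558889062400) (.lf 0)))))))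

/-- table part -/
def fmT_3 : Tr :=
  .nd (.nd (.nd (.nd (.nd (.nd (.nd (.lf 0) (.lf 4722366482869645213696)) (.nd (.lf 0) (.lf 0))) (.nd (.nd (.lf 0) (.lf 0)) (.nd (.lf 237684501709892461389567492097) (.lf 0)))) (.nd (.nd (.nd (.lf 0) (.lf 0)) (.nd (.lf 0) (.lf 0))) (.nd (.nd (.lf 0) (.lf 0)) (.nd (.lf 79228167236631101938165874690) (.lf 0))))) (.nd (.nd (.nd (.nd (.lf 0) (.lf 0)) (.nd (.lf 9444732965739290427392) (.lf 0))) (.nd (.nd (.lf 0) (.lf 0)) (.nd (.lf 0) (.lf 0)))) (.nd (.nd (.nd (.lf 0) (.lf 237684496987526259994898989059)) (.nd (.lf 79228171958997584807811088387) (.lf 0))) (.nd (.nd (.lf 0) (.lf 0)) (.nd (.lf 0) (.lf 0)))))) (.nd (.nd (.nd (.nd (.nd (.lf 0) (.lf 0)) (.nd (.lf 0) (.lf 0))) (.nd (.nd (.lf 0) (.lf 0)) (.nd (.lf 79228162514264337593543950337) (.lf 0)))) (.nd (.nd (.nd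 (.lf 0) (.lf 237684496987526259994898989056)) (.nd (.lf 79228176681363786202479591425) (.lf 0))) (.nd (.nd (.lf 14167099448608935641088) (.lf 0)) (.nd (.lf 0) (.lf 0))))) (.nd (.nd (.nd (.nd (.lf 0) (.lf 158456329750895158056733114368)) (.nd (.lf 0) (.lf 0))) (.nd (.nd (.lf 0) (.lf 0)) (.nd (.lf 0) (.lf 0)))) (.nd (.nd (.nd (.lf 0) (.lf 4722366482869645213696)) (.nd (.lf 2) (.lf 0))) (.nd (.nd (.lf 14167099448608935641091) (.lf 0)) (.nd (.lf 844424930131968) (.lf 0))))))) (.nd (.nd (.nd (.nd (.nd (.nd (.lf 0) (.lf 79228167236631101938165874688)) (.nd (.lf 0) (.lf 0))) (.nd (.nd (.lf 158456329750895158056733114371) (.lf 0)) (.nd (.lf 0) (.lf 0)))) (.nd (.nd (.nd (.lf 0) (.lf 79228176681363786202479591424)) (.nd (.lf 79228162514264619068520660994) (.lf 0))) (.nd (.nd (.lf 0) (.lf 0)) (.nd (.lf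 79228167236631101938165874688) (.lf 0))))) (.nd (.nd (.nd (.nd (.lf 0) (.lf 9444733247214267138050)) (.nd (.lf 0) (.lf 0))) (.nd (.nd (.lf 0) (.lf 0)) (.nd (.lf 0) (.lf 0)))) (.nd (.nd (.nd (.lf 0) (.lf 0)) (.nd (.lf 158456325028529238137041321987) (.lf 0))) (.nd (.nd (.lf 0) (.lf 0)) (.nd (.lf 14167099730083912351746) (.lf 0)))))) (.nd (.nd (.nd (.nd (.nd (.lf 0) (.lf 0)) (.nd (.lf 0) (.lf 0))) (.nd (.nd (.lf 0) (.lf 0)) (.nd (.lf 4722367045819598635008) (.lf 0)))) (.nd (.nd (.nd (.lf 0) (.lf 79228171958998147757764509696)) (.nd (.lf 158456329750895721006686535683) (.lf 0))) (.nd (.nd (.lf 237684501709892461389567492097) (.lf 0)) (.nd (.lf 0) (.lf 0))))) (.nd (.nd (.nd (.nd (.lf 79228167236630820463189164032) (.lf 14167099448608935641088)) (.nd (.lf 0) (.lf 0))) (.nd (.nd (.lf 237684492265159495650277064704)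 (.lf 0)) (.nd (.lf 4722367327294575345664) (.lf 0)))) (.nd (.nd (.nd (.lf 158456329750895158056733114369) (.lf 158456329750896002481663246339)) (.nd (.lf 79228176681363786202479591424) (.lf 0))) (.nd (.nd (.lf 0) (.lf 0)) (.nd (.lf 237684492265160058600230486019) (.lf 0)))))))

/-- table part -/
def fmT_4 : Tr :=
  .nd (.nd (.nd (.nd (.nd (.nd (.nd (.lf 0) (.lf 158456329750895721006686535683)) (.nd (.lf 0) (.lf 0))) (.nd (.nd (.lf 79228176681364630627409723392) (.lf 0)) (.nd (.lf 0) (.lf 0)))) (.nd (.nd (.nd (.lf 14167100011558889062403) (.lf 237684492265160340075207196673)) (.nd (.lf 79228162514264337593543950336) (.lf 0))) (.nd (.nd (.lf 158456334473261922401355038720) (.lf 0)) (.nd (.lf 0) (.lf 0))))) (.nd (.nd (.nd (.nd (.lf 562949953421314) (.lf 237684501709892742864544202754)) (.nd (.lf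 79228167236630820463189164035) (.lf 0))) (.nd (.nd (.lf 0) (.lf 0)) (.nd (.lf 9444732965739290427392) (.lf 0)))) (.nd (.nd (.nd (.lf 0) (.lf 14167099730083912351745)) (.nd (.lf 237684496987526541469875699715) (.lf 0))) (.nd (.nd (.lf 0) (.lf 0)) (.nd (.lf 79228162514264337593543950338) (.lf 0)))))) (.nd (.nd (.nd (.nd (.nd (.lf 0) (.lf 79228167236631383413142585347)) (.nd (.lf 237684487542793012780631851011) (.lf 0))) (.nd (.nd (.lf 0) (.lf 0)) (.nd (.lf 0) (.lf 0)))) (.nd (.nd (.nd (.lf 0) (.lf 281474976710658)) (.nd (.lf 14167099730083912351745) (.lf 0))) (.nd (.nd (.lf 4722366482869645213696) (.lf 0)) (.nd (.lf 0) (.lf 0))))) (.nd (.nd (.nd (.nd (.lf 0) (.lf 844424930131970)) (.nd (.lf 0) (.lf 0))) (.nd (.nd (.lf 237684501709893305814497624067) (.lf 0)) (.nd (.lf 79228176681363786202479591426)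 (.lf 0)))) (.nd (.nd (.nd (.lf 0) (.lf 237684496987525978519922278403)) (.nd (.lf 79228167236630820463189164032) (.lf 0))) (.nd (.nd (.lf 79228167236631383413142585344) (.lf 0)) (.nd (.lf 0) (.lf 0))))))) (.nd (.nd (.nd (.nd (.nd (.nd (.lf 0) (.lf 79228176681364067677456302081)) (.nd (.lf 237684496987525978519922278400) (.lf 0))) (.nd (.nd (.lf 158456334473262203876331749378) (.lf 0)) (.nd (.lf 158456334473261640926378328067) (.lf 0)))) (.nd (.nd (.nd (.lf 0) (.lf 9444732965739290427394)) (.nd (.lf 0) (.lf 0))) (.nd (.nd (.lf 0) (.lf 0)) (.nd (.lf 0) (.lf 0))))) (.nd (.nd (.nd (.nd (.lf 0) (.lf 79228167236631383413142585344)) (.nd (.lf 14167099730083912351744) (.lf 0))) (.nd (.nd (.lf 0) (.lf 0)) (.nd (.lf 79228171958998147757764509696) (.lf 0)))) (.nd (.nd (.nd (.lf 0) (.lf 158456339195628686745976963072))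 (.nd (.lf 0) (.lf 0))) (.nd (.nd (.lf 0) (.lf 0)) (.nd (.lf 0) (.lf 0)))))) (.nd (.nd (.nd (.nd (.nd (.lf 0) (.lf 9444733247214267138048)) (.nd (.lf 0) (.lf 0))) (.nd (.nd (.lf 0) (.lf 0)) (.nd (.lf 4722366482869645213698) (.lf 0)))) (.nd (.nd (.nd (.lf 0) (.lf 0)) (.nd (.lf 0) (.lf 0))) (.nd (.nd (.lf 0) (.lf 0)) (.nd (.lf 79228171958998147757764509698) (.lf 0))))) (.nd (.nd (.nd (.nd (.lf 0) (.lf 4722366482869645213697)) (.nd (.lf 0) (.lf 0))) (.nd (.nd (.lf 237684492265159495650277064704) (.lf 0)) (.nd (.lf 562949953421312) (.lf 0)))) (.nd (.nd (.nd (.lf 0) (.lf 237684496987526822944852410371)) (.nd (.lf 79228176681363786202479591425) (.lf 0))) (.nd (.nd (.lf 0) (.lf 0)) (.nd (.lf 281474976710657) (.lf 0)))))))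

/-- table part -/
def fmT_5 : Tr :=
  .nd (.nd (.nd (.nd (.nd (.nd (.nd (.lf 0) (.lf 0)) (.nd (.lf 0) (.lf 0))) (.nd (.nd (.lf 0) (.lf 0)) (.nd (.lf 0) (.lf 0)))) (.nd (.nd (.nd (.lf 14167099448608935641088) (.lf 4722366764344621924352)) (.nd (.lf 9444732965739290427392) (.lf 0))) (.nd (.nd (.lf 0) (.lf 0)) (.nd (.lf 0) (.lf 0))))) (.nd (.nd (.nd (.nd (.lf 0) (.lf 237684501709892742864544202752)) (.nd (.lf 0) (.lf 0))) (.nd (.nd (.lf 0) (.lf 0)) (.nd (.lf 158456325028529519612018032640) (.lf 0)))) (.nd (.nd (.nd (.lf 0) (.lf 9444732965739290427392)) (.nd (.lf 0) (.lf 0))) (.nd (.nd (.lf 79228162514264337593543950339) (.lf 0)) (.nd (.lf 158456339195628686745976963075) (.lf 0)))))) (.nd (.nd (.nd (.nd (.nd (.lf 0) (.lf 4722366482869645213698)) (.nd (.lf 0) (.lf 0))) (.nd (.nd (.lf 0) (.lf 0))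 (.nd (.lf 0) (.lf 0)))) (.nd (.nd (.nd (.lf 0) (.lf 9444732965739290427392)) (.nd (.lf 237684496987526541469875699713) (.lf 0))) (.nd (.nd (.lf 0) (.lf 0)) (.nd (.lf 79228176681363786202479591425) (.lf 0))))) (.nd (.nd (.nd (.nd (.lf 0) (.lf 0)) (.nd (.lf 0) (.lf 0))) (.nd (.nd (.lf 0) (.lf 0)) (.nd (.lf 0) (.lf 0)))) (.nd (.nd (.nd (.lf 0) (.lf 79228167236630820463189164032)) (.nd (.lf 0) (.lf 0))) (.nd (.nd (.lf 158456334473262485351308460032) (.lf 0)) (.nd (.lf 14167099448608935641088) (.lf 0))))))) (.nd (.nd (.nd (.nd (.nd (.nd (.lf 0) (.lf 9444732965739290427392)) (.nd (.lf 0) (.lf 0))) (.nd (.nd (.lf 0) (.lf 0)) (.nd (.lf 0) (.lf 0)))) (.nd (.nd (.nd (.lf 0) (.lf 844424930131971)) (.nd (.lf 0) (.lf 0))) (.nd (.nd (.lf 0) (.lf 0)) (.nd (.lf 281474976710658) (.lf 0))))) (.nd (.nd (.nd (.nd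 (.lf 0) (.lf 237684496987526541469875699713)) (.nd (.lf 237684487542793012780631851008) (.lf 0))) (.nd (.nd (.lf 0) (.lf 0)) (.nd (.lf 14167099448608935641088) (.lf 0)))) (.nd (.nd (.nd (.lf 0) (.lf 237684492265159495650277064707)) (.nd (.lf 237684487542793857205561982976) (.lf 0))) (.nd (.nd (.lf 0) (.lf 0)) (.nd (.lf 237684487542793575730585272323) (.lf 0)))))) (.nd (.nd (.nd (.nd (.nd (.lf 0) (.lf 844424930131971)) (.nd (.lf 4722366482869645213696) (.lf 0))) (.nd (.nd (.lf 0) (.lf 0)) (.nd (.lf 14167100011558889062401) (.lf 0)))) (.nd (.nd (.nd (.lf 0) (.lf 0)) (.nd (.lf 0) (.lf 0))) (.nd (.nd (.lf 237684501709892742864544202754) (.lf 0)) (.nd (.lf 158456334473261640926378328064) (.lf 0))))) (.nd (.nd (.nd (.nd (.lf 0) (.lf 79228167236631101938165874688)) (.nd (.lf 0) (.lf 0))) (.nd (.nd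 (.lf 79228176681364067677456302081) (.lf 0)) (.nd (.lf 158456325028529519612018032640) (.lf 0)))) (.nd (.nd (.nd (.lf 4722366482869645213696) (.lf 79228162514264900543497371649)) (.nd (.lf 0) (.lf 0))) (.nd (.nd (.lf 0) (.lf 0)) (.nd (.lf 79228176681364349152433012736) (.lf 0)))))))

/-- table part -/
def fmT_6 : Tr :=
  .nd (.nd (.nd (.nd (.nd (.nd (.nd (.lf 0) (.lf 0)) (.nd (.lf 0) (.lf 0))) (.nd (.nd (.lf 0) (.lf 0)) (.nd (.lf 237684501709893024339520913411) (.lf 0)))) (.nd (.nd (.nd (.lf 0) (.lf 14167100011558889062402)) (.nd (.lf 79228176681364349152433012739) (.lf 0))) (.nd (.nd (.lf 0) (.lf 0)) (.nd (.lf 14167099448608935641088) (.lf 0))))) (.nd (.nd (.nd (.nd (.lf 0) (.lf 158456329750895158056733114370)) (.nd (.lf 0) (.lf 0))) (.nd (.nd (.lf 0) (.lf 0)) (.nd (.lf 9444733247214267138049)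 (.lf 0)))) (.nd (.nd (.nd (.lf 237684496987525978519922278400) (.lf 158456329750895158056733114371)) (.nd (.lf 0) (.lf 0))) (.nd (.nd (.lf 9444732965739290427392) (.lf 0)) (.nd (.lf 0) (.lf 0)))))) (.nd (.nd (.nd (.nd (.nd (.lf 0) (.lf 0)) (.nd (.lf 14167099448608935641088) (.lf 0))) (.nd (.nd (.lf 0) (.lf 0)) (.nd (.lf 562949953421315) (.lf 0)))) (.nd (.nd (.nd (.lf 0) (.lf 237684492265159777125253775363)) (.nd (.lf 0) (.lf 0))) (.nd (.nd (.lf 158456325028528956662064611328) (.lf 0)) (.nd (.lf 158456339195628968220953673731) (.lf 0))))) (.nd (.nd (.nd (.nd (.lf 0) (.lf 158456339195628123796023541761)) (.nd (.lf 0) (.lf 0))) (.nd (.nd (.lf 158456329750895721006686535682) (.lf 0)) (.nd (.lf 0) (.lf 0)))) (.nd (.nd (.nd (.lf 0) (.lf 4722366482869645213698)) (.nd (.lf 0) (.lf 0))) (.nd (.nd (.lf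 0) (.lf 0)) (.nd (.lf 237684487542793012780631851008) (.lf 0))))))) (.nd (.nd (.nd (.nd (.nd (.nd (.lf 0) (.lf 0)) (.nd (.lf 158456339195628968220953673730) (.lf 0))) (.nd (.nd (.lf 0) (.lf 0)) (.nd (.lf 9444733528689243848706) (.lf 0)))) (.nd (.nd (.nd (.lf 0) (.lf 0)) (.nd (.lf 158456334473262203876331749378) (.lf 0))) (.nd (.nd (.lf 0) (.lf 0)) (.nd (.lf 9444732965739290427392) (.lf 0))))) (.nd (.nd (.nd (.nd (.lf 0) (.lf 0)) (.nd (.lf 0) (.lf 0))) (.nd (.nd (.lf 9444732965739290427392) (.lf 0)) (.nd (.lf 237684487542793012780631851011) (.lf 0)))) (.nd (.nd (.nd (.lf 0) (.lf 237684492265160058600230486017)) (.nd (.lf 158456339195628686745976963074) (.lf 0))) (.nd (.nd (.lf 79228176681364349152433012739) (.lf 0)) (.nd (.lf 281474976710656) (.lf 0)))))) (.nd (.nd (.nd (.nd (.nd (.lf 0) (.lf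 0)) (.nd (.lf 158456339195628405271000252417) (.lf 0))) (.nd (.nd (.lf 0) (.lf 0)) (.nd (.lf 79228176681364067677456302082) (.lf 0)))) (.nd (.nd (.nd (.lf 0) (.lf 0)) (.nd (.lf 158456325028528675187087900675) (.lf 0))) (.nd (.nd (.lf 9444732965739290427392) (.lf 0)) (.nd (.lf 4722367045819598635009) (.lf 0))))) (.nd (.nd (.nd (.nd (.lf 0) (.lf 158456339195628968220953673728)) (.nd (.lf 4722366482869645213696) (.lf 0))) (.nd (.nd (.lf 0) (.lf 0)) (.nd (.lf 14167099448608935641089) (.lf 0)))) (.nd (.nd (.nd (.lf 0) (.lf 0)) (.nd (.lf 4722367327294575345667) (.lf 0))) (.nd (.nd (.lf 0) (.lf 0)) (.nd (.lf 79228171958997303332834377729) (.lf 0)))))))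

/-- table part -/
def fmT_7 : Tr :=
  .nd (.nd (.nd (.nd (.nd (.nd (.nd (.lf 0) (.lf 0)) (.nd (.lf 0) (.lf 0))) (.nd (.nd (.lf 9444732965739290427392) (.lf 0)) (.nd (.lf 0) (.lf 0)))) (.nd (.nd (.nd (.lf 0) (.lf 0)) (.nd (.lf 0) (.lf 0))) (.nd (.nd (.lf 0) (.lf 0)) (.nd (.lf 0) (.lf 0))))) (.nd (.nd (.nd (.nd (.lf 0) (.lf 14167099448608935641088)) (.nd (.lf 0) (.lf 0))) (.nd (.nd (.lf 0) (.lf 0)) (.nd (.lf 0) (.lf 0)))) (.nd (.nd (.nd (.lf 0) (.lf 9444732965739290427393)) (.nd (.lf 158456334473261640926378328067) (.lf 0))) (.nd (.nd (.lf 79228171958997303332834377730) (.lf 0)) (.nd (.lf 158456325028528956662064611329) (.lf 0)))))) (.nd (.nd (.nd (.nd (.nd (.lf 0) (.lf 158456339195628405271000252416)) (.nd (.lf 237684487542793012780631851009) (.lf 0))) (.nd (.nd (.lf 79228176681364630627409723394)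 (.lf 0)) (.nd (.lf 4722366482869645213696) (.lf 0)))) (.nd (.nd (.nd (.lf 4722366482869645213696) (.lf 237684501709893024339520913409)) (.nd (.lf 0) (.lf 0))) (.nd (.nd (.lf 0) (.lf 0)) (.nd (.lf 0) (.lf 0))))) (.nd (.nd (.nd (.nd (.lf 4722366482869645213696) (.lf 0)) (.nd (.lf 237684487542793857205561982977) (.lf 0))) (.nd (.nd (.lf 0) (.lf 0)) (.nd (.lf 0) (.lf 0)))) (.nd (.nd (.nd (.lf 0) (.lf 158456339195628405271000252416)) (.nd (.lf 158456334473261922401355038722) (.lf 0))) (.nd (.nd (.lf 158456334473261640926378328066) (.lf 0)) (.nd (.lf 237684496987526259994898989058) (.lf 0))))))) (.nd (.nd (.nd (.nd (.nd (.nd (.lf 0) (.lf 79228171958997584807811088385)) (.nd (.lf 0) (.lf 0))) (.nd (.nd (.lf 9444732965739290427392) (.lf 0)) (.nd (.lf 237684487542793857205561982978) (.lf 0)))) (.nd (.nd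 (.nd (.lf 79228176681363786202479591424) (.lf 79228167236630820463189164032)) (.nd (.lf 237684487542793294255608561664) (.lf 0))) (.nd (.nd (.lf 158456339195628968220953673728) (.lf 0)) (.nd (.lf 0) (.lf 0))))) (.nd (.nd (.nd (.nd (.lf 0) (.lf 4722366764344621924355)) (.nd (.lf 0) (.lf 0))) (.nd (.nd (.lf 0) (.lf 0)) (.nd (.lf 237684496987525978519922278403) (.lf 0)))) (.nd (.nd (.nd (.lf 0) (.lf 9444733247214267138050)) (.nd (.lf 237684487542793012780631851009) (.lf 0))) (.nd (.nd (.lf 158456329750895439531709825026) (.lf 0)) (.nd (.lf 9444732965739290427392) (.lf 0)))))) (.nd (.nd (.nd (.nd (.nd (.lf 0) (.lf 158456334473261922401355038720)) (.nd (.lf 0) (.lf 0))) (.nd (.nd (.lf 237684492265159777125253775363) (.lf 0)) (.nd (.lf 0) (.lf 0)))) (.nd (.nd (.nd (.lf 9444732965739290427392) (.lf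 281474976710659)) (.nd (.lf 14167099448608935641088) (.lf 0))) (.nd (.nd (.lf 0) (.lf 0)) (.nd (.lf 158456334473262485351308460032) (.lf 0))))) (.nd (.nd (.nd (.nd (.lf 0) (.lf 79228176681364349152433012736)) (.nd (.lf 0) (.lf 0))) (.nd (.nd (.lf 0) (.lf 0)) (.nd (.lf 158456339195628123796023541761) (.lf 0)))) (.nd (.nd (.nd (.lf 0) (.lf 2)) (.nd (.lf 0) (.lf 0))) (.nd (.nd (.lf 0) (.lf 0)) (.nd (.lf 237684496987526541469875699715) (.lf 0)))))))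

/-- table part -/
def fmT_8 : Tr :=
  .nd (.nd (.nd (.nd (.nd (.nd (.nd (.lf 0) (.lf 4722367045819598635011)) (.nd (.lf 0) (.lf 0))) (.nd (.nd (.lf 0) (.lf 0)) (.nd (.lf 0) (.lf 0)))) (.nd (.nd (.nd (.lf 79228171958997303332834377728) (.lf 0)) (.nd (.lf 14167100293033865773056) (.lf 0))) (.nd (.nd (.lf 0) (.lf 0)) (.nd (.lf 237684496987526822944852410369) (.lf 0))))) (.nd (.nd (.nd (.nd (.lf 0) (.lf 0)) (.nd (.lf 237684496987526259994898989059) (.lf 0))) (.nd (.nd (.lf 0) (.lf 0)) (.nd (.lf 0) (.lf 0)))) (.nd (.nd (.nd (.lf 0) (.lf 9444733247214267138051)) (.nd (.lf 844424930131969) (.lf 0))) (.nd (.nd (.lf 237684496987526822944852410371) (.lf 0)) (.nd (.lf 79228171958997866282787799041) (.lf 0)))))) (.nd (.nd (.nd (.nd (.nd (.lf 0) (.lf 0)) (.nd (.lf 0) (.lf 0))) (.nd (.nd (.lf 0) (.lf 0))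 (.nd (.lf 0) (.lf 0)))) (.nd (.nd (.nd (.lf 0) (.lf 237684487542793857205561982976)) (.nd (.lf 0) (.lf 0))) (.nd (.nd (.lf 0) (.lf 0)) (.nd (.lf 79228176681364067677456302080) (.lf 0))))) (.nd (.nd (.nd (.nd (.lf 0) (.lf 79228171958997584807811088384)) (.nd (.lf 0) (.lf 0))) (.nd (.nd (.lf 0) (.lf 0)) (.nd (.lf 4722366764344621924353) (.lf 0)))) (.nd (.nd (.nd (.lf 0) (.lf 158456329750895439531709825025)) (.nd (.lf 79228171958997303332834377731) (.lf 0))) (.nd (.nd (.lf 0) (.lf 0)) (.nd (.lf 237684501709893305814497624064) (.lf 0))))))) (.nd (.nd (.nd (.nd (.nd (.nd (.lf 0) (.lf 9444733810164220559363)) (.nd (.lf 9444732965739290427392) (.lf 0))) (.nd (.nd (.lf 0) (.lf 0)) (.nd (.lf 0) (.lf 0)))) (.nd (.nd (.nd (.lf 0) (.lf 237684487542793575730585272323)) (.nd (.lf 0) (.lf 0))) (.nd (.nd (.lf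 0) (.lf 0)) (.nd (.lf 237684492265159777125253775360) (.lf 0))))) (.nd (.nd (.nd (.nd (.lf 0) (.lf 562949953421315)) (.nd (.lf 237684492265160340075207196672) (.lf 0))) (.nd (.nd (.lf 0) (.lf 0)) (.nd (.lf 14167099448608935641088) (.lf 0)))) (.nd (.nd (.nd (.lf 4722367045819598635010) (.lf 237684496987526259994898989057)) (.nd (.lf 4722366482869645213696) (.lf 0))) (.nd (.nd (.lf 0) (.lf 0)) (.nd (.lf 14167099448608935641088) (.lf 0)))))) (.nd (.nd (.nd (.nd (.nd (.lf 0) (.lf 9444733528689243848704)) (.nd (.lf 0) (.lf 0))) (.nd (.nd (.lf 0) (.lf 0)) (.nd (.lf 0) (.lf 0)))) (.nd (.nd (.nd (.lf 0) (.lf 9444733528689243848704)) (.nd (.lf 0) (.lf 0))) (.nd (.nd (.lf 0) (.lf 0)) (.nd (.lf 0) (.lf 0))))) (.nd (.nd (.nd (.nd (.lf 0) (.lf 0)) (.nd (.lf 0) (.lf 0))) (.nd (.nd (.lf 0) (.lf 0)) (.nd (.lf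 158456325028528956662064611331) (.lf 0)))) (.nd (.nd (.nd (.lf 0) (.lf 79228162514264619068520660993)) (.nd (.lf 237684501709893305814497624067) (.lf 0))) (.nd (.nd (.lf 0) (.lf 0)) (.nd (.lf 0) (.lf 0)))))))

/-- table part -/
def fmT_9 : Tr :=
  .nd (.nd (.nd (.nd (.nd (.nd (.nd (.lf 0) (.lf 158456329750895721006686535680)) (.nd (.lf 237684487542793012780631851008) (.lf 0))) (.nd (.nd (.lf 0) (.lf 0)) (.nd (.lf 4722366482869645213696) (.lf 0)))) (.nd (.nd (.nd (.lf 0) (.lf 158456339195628123796023541760)) (.nd (.lf 0) (.lf 0))) (.nd (.nd (.lf 0) (.lf 0)) (.nd (.lf 844424930131968) (.lf 0))))) (.nd (.nd (.nd (.nd (.lf 0) (.lf 0)) (.nd (.lf 0) (.lf 0))) (.nd (.nd (.lf 0) (.lf 0)) (.nd (.lf 0) (.lf 0)))) (.nd (.nd (.nd (.lf 0) (.lf 14167099448608935641088)) (.nd (.lf 0) (.lf 0))) (.nd (.nd (.lf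 0) (.lf 0)) (.nd (.lf 0) (.lf 0)))))) (.nd (.nd (.nd (.nd (.nd (.lf 0) (.lf 0)) (.nd (.lf 4722366482869645213696) (.lf 0))) (.nd (.nd (.lf 0) (.lf 0)) (.nd (.lf 844424930131971) (.lf 0)))) (.nd (.nd (.nd (.lf 0) (.lf 158456334473262485351308460032)) (.nd (.lf 0) (.lf 0))) (.nd (.nd (.lf 0) (.lf 0)) (.nd (.lf 158456325028529519612018032643) (.lf 0))))) (.nd (.nd (.nd (.nd (.lf 0) (.lf 79228162514264337593543950337)) (.nd (.lf 0) (.lf 0))) (.nd (.nd (.lf 0) (.lf 0)) (.nd (.lf 0) (.lf 0)))) (.nd (.nd (.nd (.lf 0) (.lf 14167100293033865773056)) (.nd (.lf 14167099448608935641088) (.lf 0))) (.nd (.nd (.lf 0) (.lf 0)) (.nd (.lf 9444733528689243848705) (.lf 0))))))) (.nd (.nd (.nd (.nd (.nd (.nd (.lf 0) (.lf 79228162514265182018474082305)) (.nd (.lf 9444732965739290427392) (.lf 0))) (.nd (.nd (.lf 0)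 (.lf 0)) (.nd (.lf 4722366482869645213696) (.lf 0)))) (.nd (.nd (.nd (.lf 0) (.lf 0)) (.nd (.lf 4722367045819598635011) (.lf 0))) (.nd (.nd (.lf 0) (.lf 0)) (.nd (.lf 158456334473261922401355038720) (.lf 0))))) (.nd (.nd (.nd (.nd (.lf 0) (.lf 0)) (.nd (.lf 0) (.lf 0))) (.nd (.nd (.lf 0) (.lf 0)) (.nd (.lf 0) (.lf 0)))) (.nd (.nd (.nd (.lf 4722366482869645213696) (.lf 158456329750896002481663246337)) (.nd (.lf 0) (.lf 0))) (.nd (.nd (.lf 237684487542793012780631851008) (.lf 0)) (.nd (.lf 0) (.lf 0)))))) (.nd (.nd (.nd (.nd (.nd (.lf 0) (.lf 237684501709893305814497624064)) (.nd (.lf 0) (.lf 0))) (.nd (.nd (.lf 0) (.lf 0)) (.nd (.lf 237684487542793012780631851008) (.lf 0)))) (.nd (.nd (.nd (.lf 0) (.lf 237684487542793012780631851009)) (.nd (.lf 4722366764344621924353) (.lf 0))) (.nd (.nd (.lf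 844424930131971) (.lf 0)) (.nd (.lf 79228171958997303332834377731) (.lf 0))))) (.nd (.nd (.nd (.nd (.lf 0) (.lf 158456325028528675187087900675)) (.nd (.lf 9444733528689243848706) (.lf 0))) (.nd (.nd (.lf 0) (.lf 0)) (.nd (.lf 281474976710658) (.lf 0)))) (.nd (.nd (.nd (.lf 0) (.lf 237684496987526822944852410368)) (.nd (.lf 0) (.lf 0))) (.nd (.nd (.lf 0) (.lf 0)) (.nd (.lf 0) (.lf 0)))))))

/-- table part -/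
def fmT_10 : Tr :=
  .nd (.nd (.nd (.nd (.nd (.nd (.nd (.lf 0) (.lf 4722367327294575345665)) (.nd (.lf 0) (.lf 0))) (.nd (.nd (.lf 0) (.lf 0)) (.nd (.lf 0) (.lf 0)))) (.nd (.nd (.nd (.lf 0) (.lf 0)) (.nd (.lf 0) (.lf 0))) (.nd (.nd (.lf 0) (.lf 0)) (.nd (.lf 3) (.lf 0))))) (.nd (.nd (.nd (.nd (.lf 0) (.lf 14167100011558889062402)) (.nd (.lf 0) (.lf 0))) (.nd (.nd (.lf 0) (.lf 0)) (.nd (.lf 844424930131969) (.lf 0)))) (.nd (.nd (.nd (.lf 0) (.lf 237684492265159777125253775363)) (.nd (.lf 0) (.lf 0))) (.nd (.nd (.lf 0) (.lf 0)) (.nd (.lf 9444733247214267138051) (.lf 0)))))) (.nd (.nd (.nd (.nd (.nd (.lf 4722366482869645213696) (.lf 237684501709893305814497624065)) (.nd (.lf 79228162514264619068520660994) (.lf 0))) (.nd (.nd (.lf 158456334473262203876331749376) (.lf 0)) (.nd (.lf 79228171958998147757764509699)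 (.lf 0)))) (.nd (.nd (.nd (.lf 0) (.lf 237684487542793857205561982979)) (.nd (.lf 0) (.lf 0))) (.nd (.nd (.lf 158456325028528956662064611330) (.lf 0)) (.nd (.lf 0) (.lf 0))))) (.nd (.nd (.nd (.nd (.lf 0) (.lf 0)) (.nd (.lf 79228167236630820463189164032) (.lf 0))) (.nd (.nd (.lf 0) (.lf 0)) (.nd (.lf 0) (.lf 0)))) (.nd (.nd (.nd (.lf 0) (.lf 237684487542793012780631851011)) (.nd (.lf 79228167236631101938165874688) (.lf 0))) (.nd (.nd (.lf 0) (.lf 0)) (.nd (.lf 4722367327294575345667) (.lf 0))))))) (.nd (.nd (.nd (.nd (.nd (.nd (.lf 0) (.lf 0)) (.nd (.lf 0) (.lf 0))) (.nd (.nd (.lf 0) (.lf 0)) (.nd (.lf 237684492265160340075207196673) (.lf 0)))) (.nd (.nd (.nd (.lf 0) (.lf 237684492265160058600230486019)) (.nd (.lf 158456325028528956662064611331) (.lf 0))) (.nd (.nd (.lf 4722366482869645213696)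 (.lf 0)) (.nd (.lf 79228176681364349152433012738) (.lf 0))))) (.nd (.nd (.nd (.nd (.lf 79228162514264337593543950336) (.lf 79228171958998147757764509699)) (.nd (.lf 4722366482869645213696) (.lf 0))) (.nd (.nd (.lf 0) (.lf 0)) (.nd (.lf 0) (.lf 0)))) (.nd (.nd (.nd (.lf 0) (.lf 9444733528689243848704)) (.nd (.lf 0) (.lf 0))) (.nd (.nd (.lf 9444732965739290427392) (.lf 0)) (.nd (.lf 4722366764344621924352) (.lf 0)))))) (.nd (.nd (.nd (.nd (.nd (.lf 9444732965739290427392) (.lf 237684501709892742864544202755)) (.nd (.lf 0) (.lf 0))) (.nd (.nd (.lf 0) (.lf 0)) (.nd (.lf 237684496987525978519922278401) (.lf 0)))) (.nd (.nd (.nd (.lf 0) (.lf 158456339195628686745976963074)) (.nd (.lf 237684501709892461389567492097) (.lf 0))) (.nd (.nd (.lf 0) (.lf 0)) (.nd (.lf 14167100011558889062400) (.lf 0)))))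 (.nd (.nd (.nd (.nd (.lf 0) (.lf 79228167236631383413142585345)) (.nd (.lf 0) (.lf 0))) (.nd (.nd (.lf 0) (.lf 0)) (.nd (.lf 0) (.lf 0)))) (.nd (.nd (.nd (.lf 0) (.lf 158456325028529238137041321985)) (.nd (.lf 4722367327294575345667) (.lf 0))) (.nd (.nd (.lf 0) (.lf 0)) (.nd (.lf 79228176681363786202479591427) (.lf 0)))))))

/-- table part -/
def fmT_11 : Tr :=
  .nd (.nd (.nd (.nd (.nd (.nd (.nd (.lf 0) (.lf 79228162514264619068520660992)) (.nd (.lf 0) (.lf 0))) (.nd (.nd (.lf 0) (.lf 0)) (.nd (.lf 0) (.lf 0)))) (.nd (.nd (.nd (.lf 0) (.lf 237684487542793294255608561664)) (.nd (.lf 0) (.lf 0))) (.nd (.nd (.lf 0) (.lf 0)) (.nd (.lf 79228167236630820463189164033) (.lf 0))))) (.nd (.nd (.nd (.nd (.lf 0) (.lf 158456325028528675187087900675)) (.nd (.lf 0) (.lf 0))) (.nd (.nd (.lf 0) (.lf 0)) (.nd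 (.lf 4722366482869645213696) (.lf 0)))) (.nd (.nd (.nd (.lf 0) (.lf 237684496987526541469875699712)) (.nd (.lf 0) (.lf 0))) (.nd (.nd (.lf 158456339195628123796023541763) (.lf 0)) (.nd (.lf 158456325028529238137041321985) (.lf 0)))))) (.nd (.nd (.nd (.nd (.nd (.lf 0) (.lf 158456325028528675187087900675)) (.nd (.lf 0) (.lf 0))) (.nd (.nd (.lf 0) (.lf 0)) (.nd (.lf 0) (.lf 0)))) (.nd (.nd (.nd (.lf 0) (.lf 844424930131968)) (.nd (.lf 0) (.lf 0))) (.nd (.nd (.lf 0) (.lf 0)) (.nd (.lf 0) (.lf 0))))) (.nd (.nd (.nd (.nd (.lf 0) (.lf 0)) (.nd (.lf 0) (.lf 0))) (.nd (.nd (.lf 0) (.lf 0)) (.nd (.lf 14167100293033865773058) (.lf 0)))) (.nd (.nd (.nd (.lf 4722366482869645213696) (.lf 237684501709892742864544202754)) (.nd (.lf 158456325028528956662064611331) (.lf 0))) (.nd (.nd (.lf 0) (.lf 0)) (.nd (.lf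 0) (.lf 0))))))) (.nd (.nd (.nd (.nd (.nd (.nd (.lf 79228167236630820463189164032) (.lf 0)) (.nd (.lf 4722366482869645213696) (.lf 0))) (.nd (.nd (.lf 0) (.lf 0)) (.nd (.lf 79228176681364067677456302081) (.lf 0)))) (.nd (.nd (.nd (.lf 0) (.lf 844424930131968)) (.nd (.lf 0) (.lf 0))) (.nd (.nd (.lf 237684496987526259994898989058) (.lf 0)) (.nd (.lf 0) (.lf 0))))) (.nd (.nd (.nd (.nd (.lf 4722366482869645213696) (.lf 79228162514264619068520660994)) (.nd (.lf 158456325028528956662064611330) (.lf 0))) (.nd (.nd (.lf 0) (.lf 0)) (.nd (.lf 0) (.lf 0)))) (.nd (.nd (.nd (.lf 0) (.lf 158456325028529238137041321985)) (.nd (.lf 0) (.lf 0))) (.nd (.nd (.lf 158456325028529238137041321986) (.lf 0)) (.nd (.lf 0) (.lf 0)))))) (.nd (.nd (.nd (.nd (.nd (.lf 0) (.lf 237684501709893305814497624067)) (.nd (.lf 9444732965739290427392)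 (.lf 0))) (.nd (.nd (.lf 0) (.lf 0)) (.nd (.lf 0) (.lf 0)))) (.nd (.nd (.nd (.lf 0) (.lf 158456329750896002481663246337)) (.nd (.lf 79228176681363786202479591426) (.lf 0))) (.nd (.nd (.lf 158456339195628686745976963073) (.lf 0)) (.nd (.lf 237684501709893024339520913409) (.lf 0))))) (.nd (.nd (.nd (.nd (.lf 0) (.lf 0)) (.nd (.lf 0) (.lf 0))) (.nd (.nd (.lf 0) (.lf 0)) (.nd (.lf 237684501709892742864544202754) (.lf 0)))) (.nd (.nd (.nd (.lf 14167099448608935641088) (.lf 158456334473262203876331749377)) (.nd (.lf 0) (.lf 0))) (.nd (.nd (.lf 158456339195628968220953673731) (.lf 0)) (.nd (.lf 237684492265159777125253775363) (.lf 0)))))))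

/-- table part -/
def fmT_12 : Tr :=
  .nd (.nd (.nd (.nd (.nd (.nd (.nd (.lf 0) (.lf 0)) (.nd (.lf 0) (.lf 0))) (.nd (.nd (.lf 0) (.lf 0)) (.nd (.lf 237684492265159777125253775360) (.lf 0)))) (.nd (.nd (.nd (.lf 0) (.lf 9444733810164220559363)) (.nd (.lf 0) (.lf 0))) (.nd (.nd (.lf 0) (.lf 0)) (.nd (.lf 844424930131971) (.lf 0))))) (.nd (.nd (.nd (.nd (.lf 0) (.lf 158456339195628686745976963073)) (.nd (.lf 4722367045819598635010) (.lf 0))) (.nd (.nd (.lf 562949953421313) (.lf 0)) (.nd (.lf 79228171958997584807811088385) (.lf 0)))) (.nd (.nd (.nd (.lf 0) (.lf 79228176681364349152433012737)) (.nd (.lf 0) (.lf 0))) (.nd (.nd (.lf 0) (.lf 0)) (.nd (.lf 0) (.lf 0)))))) (.nd (.nd (.nd (.nd (.nd (.lf 0) (.lf 79228167236631383413142585346)) (.nd (.lf 0) (.lf 0))) (.nd (.nd (.lf 0) (.lf 0)) (.nd (.lf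 79228167236631664888119296000) (.lf 0)))) (.nd (.nd (.nd (.lf 0) (.lf 0)) (.nd (.lf 237684487542793012780631851010) (.lf 0))) (.nd (.nd (.lf 0) (.lf 0)) (.nd (.lf 0) (.lf 0))))) (.nd (.nd (.nd (.nd (.lf 0) (.lf 237684487542793012780631851008)) (.nd (.lf 0) (.lf 0))) (.nd (.nd (.lf 14167099448608935641088) (.lf 0)) (.nd (.lf 0) (.lf 0)))) (.nd (.nd (.nd (.lf 0) (.lf 14167100293033865773058)) (.nd (.lf 0) (.lf 0))) (.nd (.nd (.lf 0) (.lf 0)) (.nd (.lf 79228171958997303332834377728) (.lf 0))))))) (.nd (.nd (.nd (.nd (.nd (.nd (.lf 0) (.lf 79228162514264337593543950339)) (.nd (.lf 0) (.lf 0))) (.nd (.nd (.lf 0) (.lf 0)) (.nd (.lf 0) (.lf 0)))) (.nd (.nd (.nd (.lf 4722366482869645213696) (.lf 237684492265159495650277064705)) (.nd (.lf 4722366482869645213696) (.lf 0))) (.nd (.nd (.lf 79228162514264337593543950336)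 (.lf 0)) (.nd (.lf 0) (.lf 0))))) (.nd (.nd (.nd (.nd (.lf 0) (.lf 158456339195628686745976963074)) (.nd (.lf 0) (.lf 0))) (.nd (.nd (.lf 0) (.lf 0)) (.nd (.lf 14167100011558889062401) (.lf 0)))) (.nd (.nd (.nd (.lf 0) (.lf 158456329750895439531709825026)) (.nd (.lf 0) (.lf 0))) (.nd (.nd (.lf 4722366482869645213696) (.lf 0)) (.nd (.lf 0) (.lf 0)))))) (.nd (.nd (.nd (.nd (.nd (.lf 0) (.lf 79228171958997303332834377730)) (.nd (.lf 237684501709892461389567492099) (.lf 0))) (.nd (.nd (.lf 0) (.lf 0)) (.nd (.lf 79228167236631664888119296002) (.lf 0)))) (.nd (.nd (.nd (.lf 0) (.lf 237684496987526822944852410371)) (.nd (.lf 0) (.lf 0))) (.nd (.nd (.lf 158456325028528956662064611331) (.lf 0)) (.nd (.lf 562949953421312) (.lf 0))))) (.nd (.nd (.nd (.nd (.lf 0) (.lf 79228176681364349152433012739)) (.nd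 (.lf 14167099448608935641088) (.lf 0))) (.nd (.nd (.lf 0) (.lf 0)) (.nd (.lf 158456334473262203876331749378) (.lf 0)))) (.nd (.nd (.nd (.lf 0) (.lf 9444733810164220559360)) (.nd (.lf 158456334473262485351308460033) (.lf 0))) (.nd (.nd (.lf 237684487542793575730585272323) (.lf 0)) (.nd (.lf 237684492265159777125253775363) (.lf 0)))))))

/-- table part -/
def fmT_13 : Tr :=
  .nd (.nd (.nd (.nd (.nd (.nd (.nd (.lf 0) (.lf 158456334473262203876331749378)) (.nd (.lf 0) (.lf 0))) (.nd (.nd (.lf 0) (.lf 0)) (.nd (.lf 158456329750895721006686535681) (.lf 0)))) (.nd (.nd (.nd (.lf 0) (.lf 0)) (.nd (.lf 158456339195628123796023541761) (.lf 0))) (.nd (.nd (.lf 0) (.lf 0)) (.nd (.lf 0) (.lf 0))))) (.nd (.nd (.nd (.nd (.lf 79228171958997303332834377728) (.lf 158456334473262203876331749379)) (.nd (.lf 0)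 (.lf 0))) (.nd (.nd (.lf 0) (.lf 0)) (.nd (.lf 79228167236630820463189164035) (.lf 0)))) (.nd (.nd (.nd (.lf 0) (.lf 79228167236631101938165874690)) (.nd (.lf 0) (.lf 0))) (.nd (.nd (.lf 0) (.lf 0)) (.nd (.lf 14167099448608935641088) (.lf 0)))))) (.nd (.nd (.nd (.nd (.nd (.lf 0) (.lf 14167099730083912351747)) (.nd (.lf 79228162514264619068520660993) (.lf 0))) (.nd (.nd (.lf 0) (.lf 0)) (.nd (.lf 14167100293033865773056) (.lf 0)))) (.nd (.nd (.nd (.lf 0) (.lf 237684492265159495650277064706)) (.nd (.lf 158456339195628405271000252416) (.lf 0))) (.nd (.nd (.lf 0) (.lf 0)) (.nd (.lf 0) (.lf 0))))) (.nd (.nd (.nd (.nd (.lf 9444732965739290427392) (.lf 0)) (.nd (.lf 0) (.lf 0))) (.nd (.nd (.lf 0) (.lf 0)) (.nd (.lf 0) (.lf 0)))) (.nd (.nd (.nd (.lf 0) (.lf 281474976710658)) (.nd (.lf 158456334473262485351308460035)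 (.lf 0))) (.nd (.nd (.lf 237684496987526822944852410371) (.lf 0)) (.nd (.lf 158456325028528956662064611328) (.lf 0))))))) (.nd (.nd (.nd (.nd (.nd (.nd (.lf 0) (.lf 0)) (.nd (.lf 0) (.lf 0))) (.nd (.nd (.lf 0) (.lf 0)) (.nd (.lf 0) (.lf 0)))) (.nd (.nd (.nd (.lf 0) (.lf 79228162514264900543497371651)) (.nd (.lf 158456339195628686745976963073) (.lf 0))) (.nd (.nd (.lf 0) (.lf 0)) (.nd (.lf 9444732965739290427393) (.lf 0))))) (.nd (.nd (.nd (.nd (.lf 79228176681363786202479591424) (.lf 0)) (.nd (.lf 14167099448608935641090) (.lf 0))) (.nd (.nd (.lf 0) (.lf 0)) (.nd (.lf 0) (.lf 0)))) (.nd (.nd (.nd (.lf 0) (.lf 844424930131969)) (.nd (.lf 0) (.lf 0))) (.nd (.nd (.lf 0) (.lf 0)) (.nd (.lf 0) (.lf 0)))))) (.nd (.nd (.nd (.nd (.nd (.lf 0) (.lf 14167099448608935641090)) (.nd (.lf 0) (.lf 0))) (.nd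 (.nd (.lf 0) (.lf 0)) (.nd (.lf 14167100011558889062402) (.lf 0)))) (.nd (.nd (.nd (.lf 0) (.lf 79228167236631664888119296002)) (.nd (.lf 237684496987525978519922278401) (.lf 0))) (.nd (.nd (.lf 0) (.lf 0)) (.nd (.lf 14167099448608935641088) (.lf 0))))) (.nd (.nd (.nd (.nd (.lf 0) (.lf 237684501709892742864544202752)) (.nd (.lf 0) (.lf 0))) (.nd (.nd (.lf 0) (.lf 0)) (.nd (.lf 281474976710657) (.lf 0)))) (.nd (.nd (.nd (.lf 0) (.lf 4722366482869645213699)) (.nd (.lf 562949953421312) (.lf 0))) (.nd (.nd (.lf 0) (.lf 0)) (.nd (.lf 79228176681364067677456302082) (.lf 0)))))))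

/-- table part -/
def fmT_14 : Tr :=
  .nd (.nd (.nd (.nd (.nd (.nd (.nd (.lf 0) (.lf 237684501709892742864544202752)) (.nd (.lf 237684487542793012780631851008) (.lf 0))) (.nd (.nd (.lf 0) (.lf 0)) (.nd (.lf 0) (.lf 0)))) (.nd (.nd (.nd (.lf 0) (.lf 79228176681364630627409723392)) (.nd (.lf 0) (.lf 0))) (.nd (.nd (.lf 4722366482869645213696) (.lf 0)) (.nd (.lf 0) (.lf 0))))) (.nd (.nd (.nd (.nd (.lf 0) (.lf 0)) (.nd (.lf 158456334473261640926378328064) (.lf 0))) (.nd (.nd (.lf 14167099448608935641088) (.lf 0)) (.nd (.lf 79228171958997866282787799040) (.lf 0)))) (.nd (.nd (.nd (.lf 79228167236631101938165874689) (.lf 4722367045819598635011)) (.nd (.lf 79228167236631383413142585344) (.lf 0))) (.nd (.nd (.lf 0) (.lf 0)) (.nd (.lf 237684496987525978519922278403) (.lf 0)))))) (.nd (.nd (.nd (.nd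 (.nd (.lf 0) (.lf 0)) (.nd (.lf 0) (.lf 0))) (.nd (.nd (.lf 0) (.lf 0)) (.nd (.lf 14167099448608935641088) (.lf 0)))) (.nd (.nd (.nd (.lf 14167099448608935641088) (.lf 237684487542793294255608561667)) (.nd (.lf 4722366482869645213696) (.lf 0))) (.nd (.nd (.lf 0) (.lf 0)) (.nd (.lf 158456329750896002481663246339) (.lf 0))))) (.nd (.nd (.nd (.nd (.lf 4722366482869645213696) (.lf 237684492265159777125253775361)) (.nd (.lf 237684487542793294255608561665) (.lf 0))) (.nd (.nd (.lf 0) (.lf 0)) (.nd (.lf 0) (.lf 0)))) (.nd (.nd (.nd (.lf 0) (.lf 237684496987526541469875699713)) (.nd (.lf 237684496987526822944852410368) (.lf 0))) (.nd (.nd (.lf 4722366482869645213697) (.lf 0)) (.nd (.lf 0) (.lf 0))))))) (.nd (.nd (.nd (.nd (.nd (.nd (.lf 0) (.lf 0)) (.nd (.lf 237684501709892461389567492099) (.lf 0)))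 (.nd (.nd (.lf 0) (.lf 0)) (.nd (.lf 0) (.lf 0)))) (.nd (.nd (.nd (.lf 0) (.lf 0)) (.nd (.lf 237684492265160058600230486019) (.lf 0))) (.nd (.nd (.lf 0) (.lf 0)) (.nd (.lf 0) (.lf 0))))) (.nd (.nd (.nd (.nd (.lf 0) (.lf 0)) (.nd (.lf 0) (.lf 0))) (.nd (.nd (.lf 0) (.lf 0)) (.nd (.lf 158456325028529519612018032642) (.lf 0)))) (.nd (.nd (.nd (.lf 0) (.lf 158456329750895158056733114369)) (.nd (.lf 79228162514265182018474082305) (.lf 0))) (.nd (.nd (.lf 0) (.lf 0)) (.nd (.lf 158456329750895158056733114370) (.lf 0)))))) (.nd (.nd (.nd (.nd (.nd (.lf 237684496987525978519922278400) (.lf 14167099448608935641088)) (.nd (.lf 0) (.lf 0))) (.nd (.nd (.lf 0) (.lf 0)) (.nd (.lf 158456339195628686745976963074) (.lf 0)))) (.nd (.nd (.nd (.lf 0) (.lf 0)) (.nd (.lf 0) (.lf 0))) (.nd (.nd (.lf 0) (.lf 0)) (.nd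 (.lf 237684496987526541469875699712) (.lf 0))))) (.nd (.nd (.nd (.nd (.lf 237684501709892461389567492096) (.lf 0)) (.nd (.lf 0) (.lf 0))) (.nd (.nd (.lf 0) (.lf 0)) (.nd (.lf 158456334473261922401355038721) (.lf 0)))) (.nd (.nd (.nd (.lf 0) (.lf 79228171958998147757764509697)) (.nd (.lf 281474976710658) (.lf 0))) (.nd (.nd (.lf 0) (.lf 0)) (.nd (.lf 158456339195628686745976963073) (.lf 0)))))))

/-- table part -/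
def fmT_15 : Tr :=
  .nd (.nd (.nd (.nd (.nd (.nd (.nd (.lf 0) (.lf 14167099448608935641088)) (.nd (.lf 0) (.lf 0))) (.nd (.nd (.lf 158456329750895158056733114369) (.lf 0)) (.nd (.lf 0) (.lf 0)))) (.nd (.nd (.nd (.lf 14167100011558889062403) (.lf 0)) (.nd (.lf 0) (.lf 0))) (.nd (.nd (.lf 9444732965739290427392) (.lf 0)) (.nd (.lf 14167099448608935641090) (.lf 0))))) (.nd (.nd (.nd (.nd (.lf 0) (.lf 79228167236631101938165874688)) (.nd (.lf 79228171958997866282787799043) (.lf 0))) (.nd (.nd (.lf 0) (.lf 0)) (.nd (.lf 79228167236631664888119296000) (.lf 0)))) (.nd (.nd (.nd (.lf 0) (.lf 158456329750895158056733114368)) (.nd (.lf 0) (.lf 0))) (.nd (.nd (.lf 0) (.lf 0)) (.nd (.lf 237684492265160340075207196673) (.lf 0)))))) (.nd (.nd (.nd (.nd (.nd (.lf 0) (.lf 79228167236631664888119296000)) (.nd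 (.lf 79228176681364349152433012739) (.lf 0))) (.nd (.nd (.lf 0) (.lf 0)) (.nd (.lf 0) (.lf 0)))) (.nd (.nd (.nd (.lf 0) (.lf 237684501709892742864544202752)) (.nd (.lf 79228167236631664888119296000) (.lf 0))) (.nd (.nd (.lf 0) (.lf 0)) (.nd (.lf 0) (.lf 0))))) (.nd (.nd (.nd (.nd (.lf 0) (.lf 237684496987526541469875699713)) (.nd (.lf 79228162514264900543497371649) (.lf 0))) (.nd (.nd (.lf 79228167236630820463189164035) (.lf 0)) (.nd (.lf 158456329750895158056733114370) (.lf 0)))) (.nd (.nd (.nd (.lf 0) (.lf 158456329750896002481663246338)) (.nd (.lf 79228171958997303332834377729) (.lf 0))) (.nd (.nd (.lf 0) (.lf 0)) (.nd (.lf 158456334473261922401355038720) (.lf 0))))))) (.nd (.nd (.nd (.nd (.nd (.nd (.lf 0) (.lf 0)) (.nd (.lf 0) (.lf 0))) (.nd (.nd (.lf 0) (.lf 0)) (.nd (.lf 158456329750895158056733114369)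 (.lf 0)))) (.nd (.nd (.nd (.lf 0) (.lf 0)) (.nd (.lf 14167099730083912351745) (.lf 0))) (.nd (.nd (.lf 0) (.lf 0)) (.nd (.lf 237684496987526259994898989057) (.lf 0))))) (.nd (.nd (.nd (.nd (.lf 0) (.lf 14167100293033865773059)) (.nd (.lf 9444733247214267138049) (.lf 0))) (.nd (.nd (.lf 0) (.lf 0)) (.nd (.lf 4722366482869645213696) (.lf 0)))) (.nd (.nd (.nd (.lf 0) (.lf 79228176681364630627409723392)) (.nd (.lf 79228176681364067677456302081) (.lf 0))) (.nd (.nd (.lf 0) (.lf 0)) (.nd (.lf 237684492265159777125253775362) (.lf 0)))))) (.nd (.nd (.nd (.nd (.nd (.lf 0) (.lf 79228167236631383413142585347)) (.nd (.lf 0) (.lf 0))) (.nd (.nd (.lf 0) (.lf 0)) (.nd (.lf 79228167236630820463189164032) (.lf 0)))) (.nd (.nd (.nd (.lf 237684496987526259994898989056) (.lf 562949953421315)) (.nd (.lf 0) (.lf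 0))) (.nd (.nd (.lf 158456329750895721006686535683) (.lf 0)) (.nd (.lf 79228167236631101938165874690) (.lf 0))))) (.nd (.nd (.nd (.nd (.lf 237684492265159495650277064704) (.lf 158456334473261640926378328066)) (.nd (.lf 79228171958997584807811088384) (.lf 0))) (.nd (.nd (.lf 0) (.lf 0)) (.nd (.lf 237684487542793012780631851009) (.lf 0)))) (.nd (.nd (.nd (.lf 0) (.lf 14167100011558889062402)) (.nd (.lf 0) (.lf 0))) (.nd (.nd (.lf 14167100293033865773056) (.lf 0)) (.nd (.lf 158456339195628405271000252417) (.lf 0)))))))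

/-- table part -/
def fmT_16 : Tr :=
  .nd (.nd (.nd (.nd (.nd (.nd (.nd (.lf 0) (.lf 0)) (.nd (.lf 79228167236630820463189164033) (.lf 0))) (.nd (.nd (.lf 0) (.lf 0)) (.nd (.lf 0) (.lf 0)))) (.nd (.nd (.nd (.lf 0) (.lf 237684496987526541469875699714)) (.nd (.lf 14167099448608935641088) (.lf 0))) (.nd (.nd (.lf 0) (.lf 0)) (.nd (.lf 237684487542793857205561982977) (.lf 0))))) (.nd (.nd (.nd (.nd (.lf 0) (.lf 0)) (.nd (.lf 158456334473262203876331749377) (.lf 0))) (.nd (.nd (.lf 0) (.lf 0)) (.nd (.lf 0) (.lf 0)))) (.nd (.nd (.nd (.lf 0) (.lf 14167100011558889062402)) (.nd (.lf 79228162514264619068520660992) (.lf 0))) (.nd (.nd (.lf 0) (.lf 0)) (.nd (.lf 4722366482869645213696) (.lf 0)))))) (.nd (.nd (.nd (.nd (.nd (.lf 0) (.lf 0)) (.nd (.lf 0) (.lf 0))) (.nd (.nd (.lf 158456329750895721006686535683)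 (.lf 0)) (.nd (.lf 0) (.lf 0)))) (.nd (.nd (.nd (.lf 0) (.lf 0)) (.nd (.lf 14167100011558889062401) (.lf 0))) (.nd (.nd (.lf 9444732965739290427392) (.lf 0)) (.nd (.lf 0) (.lf 0))))) (.nd (.nd (.nd (.nd (.lf 0) (.lf 0)) (.nd (.lf 0) (.lf 0))) (.nd (.nd (.lf 0) (.lf 0)) (.nd (.lf 0) (.lf 0)))) (.nd (.nd (.nd (.lf 0) (.lf 0)) (.nd (.lf 0) (.lf 0))) (.nd (.nd (.lf 4722366482869645213696) (.lf 0)) (.nd (.lf 237684487542793575730585272321) (.lf 0))))))) (.nd (.nd (.nd (.nd (.nd (.nd (.lf 0) (.lf 4722366482869645213696)) (.nd (.lf 237684501709893024339520913410) (.lf 0))) (.nd (.nd (.lf 0) (.lf 0)) (.nd (.lf 79228162514264619068520660993) (.lf 0)))) (.nd (.nd (.nd (.lf 0) (.lf 844424930131969)) (.nd (.lf 0) (.lf 0))) (.nd (.nd (.lf 0) (.lf 0)) (.nd (.lf 158456339195628968220953673730) (.lf 0)))))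 (.nd (.nd (.nd (.nd (.lf 0) (.lf 79228171958997584807811088384)) (.nd (.lf 0) (.lf 0))) (.nd (.nd (.lf 0) (.lf 0)) (.nd (.lf 237684487542793012780631851011) (.lf 0)))) (.nd (.nd (.nd (.lf 0) (.lf 0)) (.nd (.lf 0) (.lf 0))) (.nd (.nd (.lf 0) (.lf 0)) (.nd (.lf 79228162514264337593543950336) (.lf 0)))))) (.nd (.nd (.nd (.nd (.nd (.lf 0) (.lf 0)) (.nd (.lf 9444733810164220559360) (.lf 0))) (.nd (.nd (.lf 0) (.lf 0)) (.nd (.lf 79228171958997866282787799043) (.lf 0)))) (.nd (.nd (.nd (.lf 0) (.lf 14167099730083912351744)) (.nd (.lf 237684487542793575730585272323) (.lf 0))) (.nd (.nd (.lf 0) (.lf 0)) (.nd (.lf 0) (.lf 0))))) (.nd (.nd (.nd (.nd (.lf 0) (.lf 79228176681364067677456302080)) (.nd (.lf 0) (.lf 0))) (.nd (.nd (.lf 0) (.lf 0)) (.nd (.lf 158456334473262203876331749379) (.lf 0)))) (.nd (.nd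 (.nd (.lf 0) (.lf 158456325028529238137041321987)) (.nd (.lf 79228167236630820463189164033) (.lf 0))) (.nd (.nd (.lf 0) (.lf 0)) (.nd (.lf 0) (.lf 0)))))))

/-- table -/
def fmT : Tr :=
  .nd (.nd (.nd (.nd fmT_1 fmT_2) (.nd fmT_3 fmT_4)) (.nd (.nd fmT_5 fmT_6) (.nd fmT_7 fmT_8))) (.nd (.nd (.nd fmT_9 fmT_10) (.nd fmT_11 fmT_12)) (.nd (.nd fmT_13 fmT_14) (.nd fmT_15 fmT_16)))

/-- table part -/
def rkT_1 : Tr :=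
  .nd (.nd (.nd (.nd (.nd (.nd (.nd (.lf 0) (.lf 465)) (.nd (.lf 0) (.lf 0))) (.nd (.nd (.lf 74) (.lf 0)) (.nd (.lf 197) (.lf 0)))) (.nd (.nd (.nd (.lf 0) (.lf 0)) (.nd (.lf 602) (.lf 0))) (.nd (.nd (.lf 507) (.lf 0)) (.nd (.lf 479) (.lf 0))))) (.nd (.nd (.nd (.nd (.lf 261) (.lf 210)) (.nd (.lf 0) (.lf 0))) (.nd (.nd (.lf 0) (.lf 0)) (.nd (.lf 159) (.lf 0)))) (.nd (.nd (.nd (.lf 0) (.lf 144)) (.nd (.lf 114) (.lf 0))) (.nd (.nd (.lf 0) (.lf 0)) (.nd (.lf 76) (.lf 0)))))) (.nd (.nd (.nd (.nd (.nd (.lf 0) (.lf 575)) (.nd (.lf 0) (.lf 0))) (.nd (.nd (.lf 0) (.lf 0)) (.nd (.lf 0) (.lf 0)))) (.nd (.nd (.nd (.lf 0) (.lf 460)) (.nd (.lf 0) (.lf 0))) (.nd (.nd (.lf 0) (.lf 0)) (.nd (.lf 607) (.lf 0))))) (.nd (.nd (.nd (.nd (.lf 110) (.lf 395)) (.nd (.lf 276) (.lf 0))) (.nd (.nd (.lf 0) (.lf 0)) (.nd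 (.lf 143) (.lf 0)))) (.nd (.nd (.nd (.lf 0) (.lf 133)) (.nd (.lf 235) (.lf 0))) (.nd (.nd (.lf 0) (.lf 0)) (.nd (.lf 410) (.lf 0))))))) (.nd (.nd (.nd (.nd (.nd (.nd (.lf 0) (.lf 26)) (.nd (.lf 0) (.lf 0))) (.nd (.nd (.lf 0) (.lf 0)) (.nd (.lf 0) (.lf 0)))) (.nd (.nd (.nd (.lf 95) (.lf 178)) (.nd (.lf 50) (.lf 0))) (.nd (.nd (.lf 333) (.lf 0)) (.nd (.lf 363) (.lf 0))))) (.nd (.nd (.nd (.nd (.lf 0) (.lf 174)) (.nd (.lf 213) (.lf 0))) (.nd (.nd (.lf 0) (.lf 0)) (.nd (.lf 0) (.lf 0)))) (.nd (.nd (.nd (.lf 0) (.lf 583)) (.nd (.lf 0) (.lf 0))) (.nd (.nd (.lf 503) (.lf 0)) (.nd (.lf 193) (.lf 0)))))) (.nd (.nd (.nd (.nd (.nd (.lf 0) (.lf 24)) (.nd (.lf 237) (.lf 0))) (.nd (.nd (.lf 0) (.lf 0)) (.nd (.lf 408) (.lf 0)))) (.nd (.nd (.nd (.lf 83) (.lf 627)) (.nd (.lf 120) (.lf 0))) (.nd (.nd (.lf 283)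 (.lf 0)) (.nd (.lf 289) (.lf 0))))) (.nd (.nd (.nd (.nd (.lf 0) (.lf 335)) (.nd (.lf 391) (.lf 0))) (.nd (.nd (.lf 0) (.lf 0)) (.nd (.lf 38) (.lf 0)))) (.nd (.nd (.nd (.lf 0) (.lf 548)) (.nd (.lf 0) (.lf 0))) (.nd (.nd (.lf 0) (.lf 0)) (.nd (.lf 0) (.lf 0)))))))

/-- table part -/
def rkT_2 : Tr :=
  .nd (.nd (.nd (.nd (.nd (.nd (.nd (.lf 139) (.lf 521)) (.nd (.lf 348) (.lf 0))) (.nd (.nd (.lf 0) (.lf 0)) (.nd (.lf 0) (.lf 0)))) (.nd (.nd (.nd (.lf 0) (.lf 265)) (.nd (.lf 0) (.lf 0))) (.nd (.nd (.lf 0) (.lf 0)) (.nd (.lf 603) (.lf 0))))) (.nd (.nd (.nd (.nd (.lf 0) (.lf 376)) (.nd (.lf 0) (.lf 0))) (.nd (.nd (.lf 70) (.lf 0)) (.nd (.lf 319) (.lf 0)))) (.nd (.nd (.nd (.lf 0) (.lf 540)) (.nd (.lf 196) (.lf 0))) (.nd (.nd (.lf 0) (.lf 0)) (.nd (.lf 138) (.lf 0)))))) (.nd (.nd (.nd (.nd (.nd (.lf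 123) (.lf 513)) (.nd (.lf 0) (.lf 0))) (.nd (.nd (.lf 0) (.lf 0)) (.nd (.lf 426) (.lf 0)))) (.nd (.nd (.nd (.lf 91) (.lf 509)) (.nd (.lf 407) (.lf 0))) (.nd (.nd (.lf 0) (.lf 0)) (.nd (.lf 594) (.lf 0))))) (.nd (.nd (.nd (.nd (.lf 129) (.lf 288)) (.nd (.lf 226) (.lf 0))) (.nd (.nd (.lf 0) (.lf 0)) (.nd (.lf 533) (.lf 0)))) (.nd (.nd (.nd (.lf 0) (.lf 554)) (.nd (.lf 256) (.lf 0))) (.nd (.nd (.lf 92) (.lf 0)) (.nd (.lf 0) (.lf 0))))))) (.nd (.nd (.nd (.nd (.nd (.nd (.lf 0) (.lf 264)) (.nd (.lf 424) (.lf 0))) (.nd (.nd (.lf 0) (.lf 0)) (.nd (.lf 373) (.lf 0)))) (.nd (.nd (.nd (.lf 0) (.lf 287)) (.nd (.lf 636) (.lf 0))) (.nd (.nd (.lf 0) (.lf 0)) (.nd (.lf 0) (.lf 0))))) (.nd (.nd (.nd (.nd (.lf 0) (.lf 474)) (.nd (.lf 0) (.lf 0))) (.nd (.nd (.lf 0) (.lf 0)) (.nd (.lf 304) (.lf 0)))) (.nd (.nd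 (.nd (.lf 0) (.lf 267)) (.nd (.lf 454) (.lf 0))) (.nd (.nd (.lf 0) (.lf 0)) (.nd (.lf 271) (.lf 0)))))) (.nd (.nd (.nd (.nd (.nd (.lf 0) (.lf 305)) (.nd (.lf 0) (.lf 0))) (.nd (.nd (.lf 0) (.lf 0)) (.nd (.lf 241) (.lf 0)))) (.nd (.nd (.nd (.lf 0) (.lf 566)) (.nd (.lf 0) (.lf 0))) (.nd (.nd (.lf 0) (.lf 0)) (.nd (.lf 415) (.lf 0))))) (.nd (.nd (.nd (.nd (.lf 0) (.lf 216)) (.nd (.lf 97) (.lf 0))) (.nd (.nd (.lf 60) (.lf 0)) (.nd (.lf 345) (.lf 0)))) (.nd (.nd (.nd (.lf 0) (.lf 630)) (.nd (.lf 423) (.lf 0))) (.nd (.nd (.lf 84) (.lf 0)) (.nd (.lf 405) (.lf 0)))))))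

/-- table part -/
def rkT_3 : Tr :=
  .nd (.nd (.nd (.nd (.nd (.nd (.nd (.lf 0) (.lf 31)) (.nd (.lf 0) (.lf 0))) (.nd (.nd (.lf 0) (.lf 0)) (.nd (.lf 125) (.lf 0)))) (.nd (.nd (.nd (.lf 0) (.lf 0)) (.nd (.lf 0) (.lf 0))) (.nd (.nd (.lf 0) (.lf 0)) (.nd (.lf 611) (.lf 0))))) (.nd (.nd (.nd (.nd (.lf 0) (.lf 0)) (.nd (.lf 106) (.lf 0))) (.nd (.nd (.lf 0) (.lf 0)) (.nd (.lf 0) (.lf 0)))) (.nd (.nd (.nd (.lf 79) (.lf 595)) (.nd (.lf 451) (.lf 0))) (.nd (.nd (.lf 0) (.lf 0)) (.nd (.lf 32) (.lf 0)))))) (.nd (.nd (.nd (.nd (.nd (.lf 0) (.lf 0)) (.nd (.lf 0) (.lf 0))) (.nd (.nd (.lf 0) (.lf 0)) (.nd (.lf 386) (.lf 0)))) (.nd (.nd (.nd (.lf 0) (.lf 586)) (.nd (.lf 166) (.lf 0))) (.nd (.nd (.lf 96) (.lf 0)) (.nd (.lf 0) (.lf 0))))) (.nd (.nd (.nd (.nd (.lf 0) (.lf 249)) (.nd (.lf 0) (.lf 0))) (.nd (.nd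 (.lf 0) (.lf 0)) (.nd (.lf 0) (.lf 0)))) (.nd (.nd (.nd (.lf 0) (.lf 252)) (.nd (.lf 362) (.lf 0))) (.nd (.nd (.lf 227) (.lf 0)) (.nd (.lf 217) (.lf 0))))))) (.nd (.nd (.nd (.nd (.nd (.nd (.lf 0) (.lf 525)) (.nd (.lf 0) (.lf 0))) (.nd (.nd (.lf 203) (.lf 0)) (.nd (.lf 0) (.lf 0)))) (.nd (.nd (.nd (.lf 0) (.lf 628)) (.nd (.lf 393) (.lf 0))) (.nd (.nd (.lf 0) (.lf 0)) (.nd (.lf 568) (.lf 0))))) (.nd (.nd (.nd (.nd (.lf 0) (.lf 358)) (.nd (.lf 0) (.lf 0))) (.nd (.nd (.lf 64) (.lf 0)) (.nd (.lf 0) (.lf 0)))) (.nd (.nd (.nd (.lf 0) (.lf 0)) (.nd (.lf 478) (.lf 0))) (.nd (.nd (.lf 0) (.lf 0)) (.nd (.lf 418) (.lf 0)))))) (.nd (.nd (.nd (.nd (.nd (.lf 0) (.lf 0)) (.nd (.lf 0) (.lf 0))) (.nd (.nd (.lf 0) (.lf 0)) (.nd (.lf 421) (.lf 0)))) (.nd (.nd (.nd (.lf 0) (.lf 576)) (.nd (.lf 530) (.lf 0))) (.nd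 (.nd (.lf 367) (.lf 0)) (.nd (.lf 35) (.lf 0))))) (.nd (.nd (.nd (.nd (.lf 275) (.lf 54)) (.nd (.lf 0) (.lf 0))) (.nd (.nd (.lf 347) (.lf 0)) (.nd (.lf 452) (.lf 0)))) (.nd (.nd (.nd (.lf 202) (.lf 571)) (.nd (.lf 149) (.lf 0))) (.nd (.nd (.lf 0) (.lf 0)) (.nd (.lf 188) (.lf 0)))))))

/-- table part -/
def rkT_4 : Tr :=
  .nd (.nd (.nd (.nd (.nd (.nd (.nd (.lf 0) (.lf 475)) (.nd (.lf 0) (.lf 0))) (.nd (.nd (.lf 440) (.lf 0)) (.nd (.lf 0) (.lf 0)))) (.nd (.nd (.nd (.lf 502) (.lf 416)) (.nd (.lf 132) (.lf 0))) (.nd (.nd (.lf 527) (.lf 0)) (.nd (.lf 0) (.lf 0))))) (.nd (.nd (.nd (.nd (.lf 260) (.lf 535)) (.nd (.lf 126) (.lf 0))) (.nd (.nd (.lf 0) (.lf 0)) (.nd (.lf 105) (.lf 0)))) (.nd (.nd (.nd (.lf 0) (.lf 400)) (.nd (.lf 434) (.lf 0))) (.nd (.nd (.lf 0) (.lf 0)) (.nd (.lf 625) (.lf 0)))))) (.nd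 (.nd (.nd (.nd (.nd (.lf 0) (.lf 621)) (.nd (.lf 446) (.lf 0))) (.nd (.nd (.lf 0) (.lf 0)) (.nd (.lf 42) (.lf 0)))) (.nd (.nd (.nd (.lf 0) (.lf 569)) (.nd (.lf 321) (.lf 0))) (.nd (.nd (.lf 122) (.lf 0)) (.nd (.lf 0) (.lf 0))))) (.nd (.nd (.nd (.nd (.lf 0) (.lf 417)) (.nd (.lf 0) (.lf 0))) (.nd (.nd (.lf 278) (.lf 0)) (.nd (.lf 312) (.lf 0)))) (.nd (.nd (.nd (.lf 0) (.lf 545)) (.nd (.lf 228) (.lf 0))) (.nd (.nd (.lf 550) (.lf 0)) (.nd (.lf 0) (.lf 0))))))) (.nd (.nd (.nd (.nd (.nd (.nd (.lf 100) (.lf 353)) (.nd (.lf 148) (.lf 0))) (.nd (.nd (.lf 221) (.lf 0)) (.nd (.lf 624) (.lf 0)))) (.nd (.nd (.nd (.lf 0) (.lf 544)) (.nd (.lf 0) (.lf 0))) (.nd (.nd (.lf 0) (.lf 0)) (.nd (.lf 0) (.lf 0))))) (.nd (.nd (.nd (.nd (.lf 0) (.lf 599)) (.nd (.lf 316) (.lf 0))) (.nd (.nd (.lf 0) (.lf 0)) (.nd (.lf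 310) (.lf 0)))) (.nd (.nd (.nd (.lf 0) (.lf 399)) (.nd (.lf 0) (.lf 0))) (.nd (.nd (.lf 0) (.lf 0)) (.nd (.lf 0) (.lf 0)))))) (.nd (.nd (.nd (.nd (.nd (.lf 0) (.lf 192)) (.nd (.lf 0) (.lf 0))) (.nd (.nd (.lf 0) (.lf 0)) (.nd (.lf 444) (.lf 0)))) (.nd (.nd (.nd (.lf 0) (.lf 0)) (.nd (.lf 0) (.lf 0))) (.nd (.nd (.lf 0) (.lf 0)) (.nd (.lf 302) (.lf 0))))) (.nd (.nd (.nd (.nd (.lf 0) (.lf 561)) (.nd (.lf 0) (.lf 0))) (.nd (.nd (.lf 182) (.lf 0)) (.nd (.lf 606) (.lf 0)))) (.nd (.nd (.nd (.lf 0) (.lf 161)) (.nd (.lf 200) (.lf 0))) (.nd (.nd (.lf 0) (.lf 0)) (.nd (.lf 413) (.lf 0)))))))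

/-- table part -/
def rkT_5 : Tr :=
  .nd (.nd (.nd (.nd (.nd (.nd (.nd (.lf 0) (.lf 0)) (.nd (.lf 0) (.lf 0))) (.nd (.nd (.lf 0) (.lf 0)) (.nd (.lf 0) (.lf 0)))) (.nd (.nd (.nd (.lf 101) (.lf 175)) (.nd (.lf 58) (.lf 0))) (.nd (.nd (.lf 0) (.lf 0)) (.nd (.lf 0) (.lf 0))))) (.nd (.nd (.nd (.nd (.lf 0) (.lf 307)) (.nd (.lf 0) (.lf 0))) (.nd (.nd (.lf 0) (.lf 0)) (.nd (.lf 346) (.lf 0)))) (.nd (.nd (.nd (.lf 0) (.lf 156)) (.nd (.lf 0) (.lf 0))) (.nd (.nd (.lf 366) (.lf 0)) (.nd (.lf 318) (.lf 0)))))) (.nd (.nd (.nd (.nd (.nd (.lf 0) (.lf 388)) (.nd (.lf 0) (.lf 0))) (.nd (.nd (.lf 0) (.lf 0)) (.nd (.lf 0) (.lf 0)))) (.nd (.nd (.nd (.lf 0) (.lf 29)) (.nd (.lf 243) (.lf 0))) (.nd (.nd (.lf 0) (.lf 0)) (.nd (.lf 523) (.lf 0))))) (.nd (.nd (.nd (.nd (.lf 0) (.lf 0)) (.nd (.lf 0) (.lf 0))) (.nd (.nd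 (.lf 0) (.lf 0)) (.nd (.lf 0) (.lf 0)))) (.nd (.nd (.nd (.lf 0) (.lf 176)) (.nd (.lf 47) (.lf 0))) (.nd (.nd (.lf 229) (.lf 0)) (.nd (.lf 115) (.lf 0))))))) (.nd (.nd (.nd (.nd (.nd (.nd (.lf 0) (.lf 30)) (.nd (.lf 0) (.lf 0))) (.nd (.nd (.lf 0) (.lf 0)) (.nd (.lf 0) (.lf 0)))) (.nd (.nd (.nd (.lf 0) (.lf 614)) (.nd (.lf 0) (.lf 0))) (.nd (.nd (.lf 0) (.lf 0)) (.nd (.lf 500) (.lf 0))))) (.nd (.nd (.nd (.nd (.lf 0) (.lf 430)) (.nd (.lf 296) (.lf 0))) (.nd (.nd (.lf 0) (.lf 0)) (.nd (.lf 71) (.lf 0)))) (.nd (.nd (.nd (.lf 0) (.lf 580)) (.nd (.lf 234) (.lf 0))) (.nd (.nd (.lf 0) (.lf 0)) (.nd (.lf 462) (.lf 0)))))) (.nd (.nd (.nd (.nd (.nd (.lf 0) (.lf 387)) (.nd (.lf 107) (.lf 0))) (.nd (.nd (.lf 0) (.lf 0)) (.nd (.lf 342) (.lf 0)))) (.nd (.nd (.nd (.lf 0) (.lf 0)) (.nd (.lf 0) (.lf 0))) (.nd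 (.nd (.lf 384) (.lf 0)) (.nd (.lf 483) (.lf 0))))) (.nd (.nd (.nd (.nd (.lf 0) (.lf 339)) (.nd (.lf 0) (.lf 0))) (.nd (.nd (.lf 496) (.lf 0)) (.nd (.lf 534) (.lf 0)))) (.nd (.nd (.nd (.lf 208) (.lf 520)) (.nd (.lf 0) (.lf 0))) (.nd (.nd (.lf 0) (.lf 0)) (.nd (.lf 486) (.lf 0)))))))

/-- table part -/
def rkT_6 : Tr :=
  .nd (.nd (.nd (.nd (.nd (.nd (.nd (.lf 0) (.lf 0)) (.nd (.lf 0) (.lf 0))) (.nd (.nd (.lf 0) (.lf 0)) (.nd (.lf 519) (.lf 0)))) (.nd (.nd (.nd (.lf 0) (.lf 467)) (.nd (.lf 211) (.lf 0))) (.nd (.nd (.lf 0) (.lf 0)) (.nd (.lf 61) (.lf 0))))) (.nd (.nd (.nd (.nd (.lf 0) (.lf 538)) (.nd (.lf 0) (.lf 0))) (.nd (.nd (.lf 0) (.lf 0)) (.nd (.lf 343) (.lf 0)))) (.nd (.nd (.nd (.lf 169) (.lf 215)) (.nd (.lf 0) (.lf 0))) (.nd (.nd (.lf 113) (.lf 0)) (.nd (.lf 0) (.lf 0)))))) (.nd (.nd (.nd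 (.nd (.nd (.lf 0) (.lf 0)) (.nd (.lf 80) (.lf 0))) (.nd (.nd (.lf 0) (.lf 0)) (.nd (.lf 332) (.lf 0)))) (.nd (.nd (.nd (.lf 0) (.lf 493)) (.nd (.lf 0) (.lf 0))) (.nd (.nd (.lf 320) (.lf 0)) (.nd (.lf 588) (.lf 0))))) (.nd (.nd (.nd (.nd (.lf 0) (.lf 334)) (.nd (.lf 0) (.lf 0))) (.nd (.nd (.lf 220) (.lf 0)) (.nd (.lf 0) (.lf 0)))) (.nd (.nd (.nd (.lf 0) (.lf 543)) (.nd (.lf 0) (.lf 0))) (.nd (.nd (.lf 0) (.lf 0)) (.nd (.lf 131) (.lf 0))))))) (.nd (.nd (.nd (.nd (.nd (.nd (.lf 0) (.lf 0)) (.nd (.lf 422) (.lf 0))) (.nd (.nd (.lf 0) (.lf 0)) (.nd (.lf 263) (.lf 0)))) (.nd (.nd (.nd (.lf 0) (.lf 0)) (.nd (.lf 639) (.lf 0))) (.nd (.nd (.lf 0) (.lf 0)) (.nd (.lf 57) (.lf 0))))) (.nd (.nd (.nd (.nd (.lf 0) (.lf 0)) (.nd (.lf 0) (.lf 0))) (.nd (.nd (.lf 69) (.lf 0)) (.nd (.lf 199) (.lf 0)))) (.nd (.nd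 (.nd (.lf 0) (.lf 491)) (.nd (.lf 219) (.lf 0))) (.nd (.nd (.lf 258) (.lf 0)) (.nd (.lf 504) (.lf 0)))))) (.nd (.nd (.nd (.nd (.nd (.lf 0) (.lf 0)) (.nd (.lf 392) (.lf 0))) (.nd (.nd (.lf 0) (.lf 0)) (.nd (.lf 371) (.lf 0)))) (.nd (.nd (.nd (.lf 0) (.lf 0)) (.nd (.lf 323) (.lf 0))) (.nd (.nd (.lf 121) (.lf 0)) (.nd (.lf 301) (.lf 0))))) (.nd (.nd (.nd (.nd (.lf 0) (.lf 214)) (.nd (.lf 59) (.lf 0))) (.nd (.nd (.lf 0) (.lf 0)) (.nd (.lf 277) (.lf 0)))) (.nd (.nd (.nd (.lf 0) (.lf 72)) (.nd (.lf 425) (.lf 0))) (.nd (.nd (.lf 0) (.lf 0)) (.nd (.lf 147) (.lf 0)))))))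

/-- table part -/
def rkT_7 : Tr :=
  .nd (.nd (.nd (.nd (.nd (.nd (.nd (.lf 0) (.lf 0)) (.nd (.lf 0) (.lf 0))) (.nd (.nd (.lf 207) (.lf 0)) (.nd (.lf 0) (.lf 0)))) (.nd (.nd (.nd (.lf 0) (.lf 0)) (.nd (.lf 0) (.lf 0))) (.nd (.nd (.lf 0) (.lf 0)) (.nd (.lf 0) (.lf 0))))) (.nd (.nd (.nd (.nd (.lf 0) (.lf 108)) (.nd (.lf 0) (.lf 0))) (.nd (.nd (.lf 0) (.lf 0)) (.nd (.lf 0) (.lf 0)))) (.nd (.nd (.nd (.lf 0) (.lf 539)) (.nd (.lf 204) (.lf 0))) (.nd (.nd (.lf 292) (.lf 0)) (.nd (.lf 591) (.lf 0)))))) (.nd (.nd (.nd (.nd (.nd (.lf 0) (.lf 433)) (.nd (.lf 638) (.lf 0))) (.nd (.nd (.lf 516) (.lf 0)) (.nd (.lf 81) (.lf 0)))) (.nd (.nd (.nd (.lf 102) (.lf 579)) (.nd (.lf 0) (.lf 0))) (.nd (.nd (.lf 0) (.lf 0)) (.nd (.lf 0) (.lf 0))))) (.nd (.nd (.nd (.nd (.lf 111) (.lf 0)) (.nd (.lf 328) (.lf 0))) (.nd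 (.nd (.lf 0) (.lf 0)) (.nd (.lf 0) (.lf 0)))) (.nd (.nd (.nd (.lf 0) (.lf 313)) (.nd (.lf 364) (.lf 0))) (.nd (.nd (.lf 437) (.lf 0)) (.nd (.lf 481) (.lf 0))))))) (.nd (.nd (.nd (.nd (.nd (.nd (.lf 0) (.lf 449)) (.nd (.lf 0) (.lf 0))) (.nd (.nd (.lf 89) (.lf 0)) (.nd (.lf 370) (.lf 0)))) (.nd (.nd (.nd (.lf 130) (.lf 309)) (.nd (.lf 498) (.lf 0))) (.nd (.nd (.lf 360) (.lf 0)) (.nd (.lf 0) (.lf 0))))) (.nd (.nd (.nd (.nd (.lf 0) (.lf 419)) (.nd (.lf 0) (.lf 0))) (.nd (.nd (.lf 0) (.lf 0)) (.nd (.lf 153) (.lf 0)))) (.nd (.nd (.nd (.lf 0) (.lf 565)) (.nd (.lf 280) (.lf 0))) (.nd (.nd (.lf 184) (.lf 0)) (.nd (.lf 112) (.lf 0)))))) (.nd (.nd (.nd (.nd (.nd (.lf 0) (.lf 457)) (.nd (.lf 0) (.lf 0))) (.nd (.nd (.lf 623) (.lf 0)) (.nd (.lf 40) (.lf 0)))) (.nd (.nd (.nd (.lf 90) (.lf 634)) (.nd (.lf 75)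 (.lf 0))) (.nd (.nd (.lf 0) (.lf 0)) (.nd (.lf 325) (.lf 0))))) (.nd (.nd (.nd (.nd (.lf 0) (.lf 581)) (.nd (.lf 0) (.lf 0))) (.nd (.nd (.lf 0) (.lf 0)) (.nd (.lf 317) (.lf 0)))) (.nd (.nd (.nd (.lf 0) (.lf 268)) (.nd (.lf 45) (.lf 0))) (.nd (.nd (.lf 0) (.lf 0)) (.nd (.lf 191) (.lf 0)))))))

/-- table part -/
def rkT_8 : Tr :=
  .nd (.nd (.nd (.nd (.nd (.nd (.nd (.lf 0) (.lf 477)) (.nd (.lf 0) (.lf 0))) (.nd (.nd (.lf 0) (.lf 0)) (.nd (.lf 0) (.lf 0)))) (.nd (.nd (.nd (.lf 168) (.lf 93)) (.nd (.lf 315) (.lf 0))) (.nd (.nd (.lf 0) (.lf 0)) (.nd (.lf 398) (.lf 0))))) (.nd (.nd (.nd (.nd (.lf 0) (.lf 0)) (.nd (.lf 284) (.lf 0))) (.nd (.nd (.lf 0) (.lf 0)) (.nd (.lf 0) (.lf 0)))) (.nd (.nd (.nd (.lf 0) (.lf 512)) (.nd (.lf 299) (.lf 0))) (.nd (.nd (.lf 279) (.lf 0)) (.nd (.lf 189) (.lf 0))))))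 (.nd (.nd (.nd (.nd (.nd (.lf 0) (.lf 0)) (.nd (.lf 0) (.lf 0))) (.nd (.nd (.lf 0) (.lf 0)) (.nd (.lf 0) (.lf 0)))) (.nd (.nd (.nd (.lf 0) (.lf 266)) (.nd (.lf 0) (.lf 0))) (.nd (.nd (.lf 0) (.lf 0)) (.nd (.lf 163) (.lf 0))))) (.nd (.nd (.nd (.nd (.lf 0) (.lf 510)) (.nd (.lf 0) (.lf 0))) (.nd (.nd (.lf 0) (.lf 0)) (.nd (.lf 357) (.lf 0)))) (.nd (.nd (.nd (.lf 0) (.lf 570)) (.nd (.lf 469) (.lf 0))) (.nd (.nd (.lf 0) (.lf 0)) (.nd (.lf 232) (.lf 0))))))) (.nd (.nd (.nd (.nd (.nd (.nd (.lf 0) (.lf 379)) (.nd (.lf 68) (.lf 0))) (.nd (.nd (.lf 0) (.lf 0)) (.nd (.lf 0) (.lf 0)))) (.nd (.nd (.nd (.lf 0) (.lf 564)) (.nd (.lf 0) (.lf 0))) (.nd (.nd (.lf 0) (.lf 0)) (.nd (.lf 593) (.lf 0))))) (.nd (.nd (.nd (.nd (.lf 0) (.lf 464)) (.nd (.lf 344) (.lf 0))) (.nd (.nd (.lf 0) (.lf 0)) (.nd (.lf 65) (.lf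 0)))) (.nd (.nd (.nd (.lf 262) (.lf 429)) (.nd (.lf 85) (.lf 0))) (.nd (.nd (.lf 0) (.lf 0)) (.nd (.lf 150) (.lf 0)))))) (.nd (.nd (.nd (.nd (.nd (.lf 0) (.lf 584)) (.nd (.lf 0) (.lf 0))) (.nd (.nd (.lf 0) (.lf 0)) (.nd (.lf 0) (.lf 0)))) (.nd (.nd (.nd (.lf 0) (.lf 269)) (.nd (.lf 0) (.lf 0))) (.nd (.nd (.lf 0) (.lf 0)) (.nd (.lf 0) (.lf 0))))) (.nd (.nd (.nd (.nd (.lf 0) (.lf 0)) (.nd (.lf 53) (.lf 0))) (.nd (.nd (.lf 0) (.lf 0)) (.nd (.lf 411) (.lf 0)))) (.nd (.nd (.nd (.lf 0) (.lf 559)) (.nd (.lf 186) (.lf 0))) (.nd (.nd (.lf 0) (.lf 0)) (.nd (.lf 0) (.lf 0)))))))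

/-- table part -/
def rkT_9 : Tr :=
  .nd (.nd (.nd (.nd (.nd (.nd (.nd (.lf 0) (.lf 466)) (.nd (.lf 435) (.lf 0))) (.nd (.nd (.lf 0) (.lf 0)) (.nd (.lf 198) (.lf 0)))) (.nd (.nd (.nd (.lf 0) (.lf 251)) (.nd (.lf 0) (.lf 0))) (.nd (.nd (.lf 0) (.lf 0)) (.nd (.lf 482) (.lf 0))))) (.nd (.nd (.nd (.nd (.lf 0) (.lf 7)) (.nd (.lf 0) (.lf 0))) (.nd (.nd (.lf 0) (.lf 0)) (.nd (.lf 0) (.lf 0)))) (.nd (.nd (.nd (.lf 0) (.lf 146)) (.nd (.lf 0) (.lf 0))) (.nd (.nd (.lf 0) (.lf 0)) (.nd (.lf 0) (.lf 0)))))) (.nd (.nd (.nd (.nd (.nd (.lf 0) (.lf 0)) (.nd (.lf 41) (.lf 0))) (.nd (.nd (.lf 0) (.lf 0)) (.nd (.lf 378) (.lf 0)))) (.nd (.nd (.nd (.lf 0) (.lf 487)) (.nd (.lf 0) (.lf 0))) (.nd (.nd (.lf 0) (.lf 0)) (.nd (.lf 608) (.lf 0))))) (.nd (.nd (.nd (.nd (.lf 0) (.lf 396)) (.nd (.lf 0) (.lf 0))) (.nd (.nd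 (.lf 0) (.lf 0)) (.nd (.lf 0) (.lf 0)))) (.nd (.nd (.nd (.lf 0) (.lf 164)) (.nd (.lf 49) (.lf 0))) (.nd (.nd (.lf 0) (.lf 0)) (.nd (.lf 409) (.lf 0))))))) (.nd (.nd (.nd (.nd (.nd (.nd (.lf 0) (.lf 441)) (.nd (.lf 82) (.lf 0))) (.nd (.nd (.lf 0) (.lf 0)) (.nd (.lf 27) (.lf 0)))) (.nd (.nd (.nd (.lf 0) (.lf 4)) (.nd (.lf 223) (.lf 0))) (.nd (.nd (.lf 0) (.lf 0)) (.nd (.lf 365) (.lf 0))))) (.nd (.nd (.nd (.nd (.lf 0) (.lf 6)) (.nd (.lf 0) (.lf 0))) (.nd (.nd (.lf 0) (.lf 0)) (.nd (.lf 0) (.lf 0)))) (.nd (.nd (.nd (.lf 66) (.lf 555)) (.nd (.lf 116) (.lf 0))) (.nd (.nd (.lf 135) (.lf 0)) (.nd (.lf 0) (.lf 0)))))) (.nd (.nd (.nd (.nd (.nd (.lf 0) (.lf 141)) (.nd (.lf 0) (.lf 0))) (.nd (.nd (.lf 0) (.lf 0)) (.nd (.lf 158) (.lf 0)))) (.nd (.nd (.nd (.lf 0) (.lf 633)) (.nd (.lf 501) (.lf 0))) (.nd (.nd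 (.lf 282) (.lf 0)) (.nd (.lf 136) (.lf 0))))) (.nd (.nd (.nd (.nd (.lf 0) (.lf 336)) (.nd (.lf 517) (.lf 0))) (.nd (.nd (.lf 0) (.lf 0)) (.nd (.lf 349) (.lf 0)))) (.nd (.nd (.nd (.lf 0) (.lf 549)) (.nd (.lf 0) (.lf 0))) (.nd (.nd (.lf 0) (.lf 0)) (.nd (.lf 0) (.lf 0)))))))

/-- table part -/
def rkT_10 : Tr :=
  .nd (.nd (.nd (.nd (.nd (.nd (.nd (.lf 0) (.lf 522)) (.nd (.lf 0) (.lf 0))) (.nd (.nd (.lf 0) (.lf 0)) (.nd (.lf 0) (.lf 0)))) (.nd (.nd (.nd (.lf 0) (.lf 0)) (.nd (.lf 0) (.lf 0))) (.nd (.nd (.lf 0) (.lf 0)) (.nd (.lf 604) (.lf 0))))) (.nd (.nd (.nd (.nd (.lf 0) (.lf 375)) (.nd (.lf 0) (.lf 0))) (.nd (.nd (.lf 0) (.lf 0)) (.nd (.lf 245) (.lf 0)))) (.nd (.nd (.nd (.lf 0) (.lf 629)) (.nd (.lf 0) (.lf 0))) (.nd (.nd (.lf 0) (.lf 0)) (.nd (.lf 394) (.lf 0)))))) (.nd (.nd (.nd (.nd (.nd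 (.lf 173) (.lf 515)) (.nd (.lf 618) (.lf 0))) (.nd (.nd (.lf 438) (.lf 0)) (.nd (.lf 427) (.lf 0)))) (.nd (.nd (.nd (.lf 0) (.lf 542)) (.nd (.lf 0) (.lf 0))) (.nd (.nd (.lf 506) (.lf 0)) (.nd (.lf 0) (.lf 0))))) (.nd (.nd (.nd (.nd (.lf 0) (.lf 0)) (.nd (.lf 171) (.lf 0))) (.nd (.nd (.lf 0) (.lf 0)) (.nd (.lf 0) (.lf 0)))) (.nd (.nd (.nd (.lf 0) (.lf 552)) (.nd (.lf 257) (.lf 0))) (.nd (.nd (.lf 0) (.lf 0)) (.nd (.lf 613) (.lf 0))))))) (.nd (.nd (.nd (.nd (.nd (.nd (.lf 0) (.lf 0)) (.nd (.lf 0) (.lf 0))) (.nd (.nd (.lf 0) (.lf 0)) (.nd (.lf 372) (.lf 0)))) (.nd (.nd (.nd (.lf 0) (.lf 402)) (.nd (.lf 637) (.lf 0))) (.nd (.nd (.lf 51) (.lf 0)) (.nd (.lf 488) (.lf 0))))) (.nd (.nd (.nd (.nd (.lf 134) (.lf 473)) (.nd (.lf 39) (.lf 0))) (.nd (.nd (.lf 0) (.lf 0)) (.nd (.lf 0) (.lf 0)))) (.nd (.nd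 (.nd (.lf 0) (.lf 253)) (.nd (.lf 0) (.lf 0))) (.nd (.nd (.lf 86) (.lf 0)) (.nd (.lf 165) (.lf 0)))))) (.nd (.nd (.nd (.nd (.nd (.lf 118) (.lf 306)) (.nd (.lf 73) (.lf 0))) (.nd (.nd (.lf 0) (.lf 0)) (.nd (.lf 240) (.lf 0)))) (.nd (.nd (.nd (.lf 0) (.lf 557)) (.nd (.lf 556) (.lf 0))) (.nd (.nd (.lf 17) (.lf 0)) (.nd (.lf 514) (.lf 0))))) (.nd (.nd (.nd (.nd (.lf 0) (.lf 401)) (.nd (.lf 0) (.lf 0))) (.nd (.nd (.lf 0) (.lf 0)) (.nd (.lf 0) (.lf 0)))) (.nd (.nd (.nd (.lf 0) (.lf 631)) (.nd (.lf 355) (.lf 0))) (.nd (.nd (.lf 0) (.lf 0)) (.nd (.lf 406) (.lf 0)))))))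

/-- table part -/
def rkT_11 : Tr :=
  .nd (.nd (.nd (.nd (.nd (.nd (.nd (.lf 0) (.lf 526)) (.nd (.lf 0) (.lf 0))) (.nd (.nd (.lf 0) (.lf 0)) (.nd (.lf 0) (.lf 0)))) (.nd (.nd (.nd (.lf 0) (.lf 553)) (.nd (.lf 0) (.lf 0))) (.nd (.nd (.lf 0) (.lf 0)) (.nd (.lf 612) (.lf 0))))) (.nd (.nd (.nd (.nd (.lf 0) (.lf 248)) (.nd (.lf 0) (.lf 0))) (.nd (.nd (.lf 0) (.lf 0)) (.nd (.lf 25) (.lf 0)))) (.nd (.nd (.nd (.lf 0) (.lf 596)) (.nd (.lf 0) (.lf 0))) (.nd (.nd (.lf 205) (.lf 0)) (.nd (.lf 293) (.lf 0)))))) (.nd (.nd (.nd (.nd (.nd (.lf 0) (.lf 641)) (.nd (.lf 0) (.lf 0))) (.nd (.nd (.lf 0) (.lf 0)) (.nd (.lf 0) (.lf 0)))) (.nd (.nd (.nd (.lf 0) (.lf 585)) (.nd (.lf 0) (.lf 0))) (.nd (.nd (.lf 0) (.lf 0)) (.nd (.lf 0) (.lf 0))))) (.nd (.nd (.nd (.nd (.lf 0) (.lf 0)) (.nd (.lf 0) (.lf 0))) (.nd (.nd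 (.lf 0) (.lf 0)) (.nd (.lf 377) (.lf 0)))) (.nd (.nd (.nd (.lf 62) (.lf 255)) (.nd (.lf 573) (.lf 0))) (.nd (.nd (.lf 0) (.lf 0)) (.nd (.lf 0) (.lf 0))))))) (.nd (.nd (.nd (.nd (.nd (.nd (.lf 124) (.lf 0)) (.nd (.lf 43) (.lf 0))) (.nd (.nd (.lf 0) (.lf 0)) (.nd (.lf 448) (.lf 0)))) (.nd (.nd (.nd (.lf 0) (.lf 254)) (.nd (.lf 0) (.lf 0))) (.nd (.nd (.lf 185) (.lf 0)) (.nd (.lf 0) (.lf 0))))) (.nd (.nd (.nd (.nd (.lf 99) (.lf 359)) (.nd (.lf 374) (.lf 0))) (.nd (.nd (.lf 0) (.lf 0)) (.nd (.lf 0) (.lf 0)))) (.nd (.nd (.nd (.lf 0) (.lf 558)) (.nd (.lf 0) (.lf 0))) (.nd (.nd (.lf 218) (.lf 0)) (.nd (.lf 0) (.lf 0)))))) (.nd (.nd (.nd (.nd (.nd (.lf 23) (.lf 145)) (.nd (.lf 104) (.lf 0))) (.nd (.nd (.lf 20) (.lf 0)) (.nd (.lf 0) (.lf 0)))) (.nd (.nd (.nd (.lf 0) (.lf 577)) (.nd (.lf 531) (.lf 0)))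 (.nd (.nd (.lf 368) (.lf 0)) (.nd (.lf 239) (.lf 0))))) (.nd (.nd (.nd (.nd (.lf 0) (.lf 0)) (.nd (.lf 0) (.lf 0))) (.nd (.nd (.lf 0) (.lf 0)) (.nd (.lf 453) (.lf 0)))) (.nd (.nd (.nd (.lf 78) (.lf 572)) (.nd (.lf 11) (.lf 0))) (.nd (.nd (.lf 291) (.lf 0)) (.nd (.lf 187) (.lf 0)))))))

/-- table part -/
def rkT_12 : Tr :=
  .nd (.nd (.nd (.nd (.nd (.nd (.nd (.lf 0) (.lf 0)) (.nd (.lf 0) (.lf 0))) (.nd (.nd (.lf 0) (.lf 0)) (.nd (.lf 597) (.lf 0)))) (.nd (.nd (.nd (.lf 0) (.lf 470)) (.nd (.lf 0) (.lf 0))) (.nd (.nd (.lf 0) (.lf 0)) (.nd (.lf 471) (.lf 0))))) (.nd (.nd (.nd (.nd (.lf 0) (.lf 536)) (.nd (.lf 259) (.lf 0))) (.nd (.nd (.lf 222) (.lf 0)) (.nd (.lf 231) (.lf 0)))) (.nd (.nd (.nd (.lf 0) (.lf 230)) (.nd (.lf 0) (.lf 0))) (.nd (.nd (.lf 0) (.lf 0)) (.nd (.lf 0) (.lf 0)))))) (.nd (.nd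 (.nd (.nd (.nd (.lf 0) (.lf 616)) (.nd (.lf 0) (.lf 0))) (.nd (.nd (.lf 0) (.lf 0)) (.nd (.lf 180) (.lf 0)))) (.nd (.nd (.nd (.lf 0) (.lf 0)) (.nd (.lf 327) (.lf 0))) (.nd (.nd (.lf 0) (.lf 0)) (.nd (.lf 0) (.lf 0))))) (.nd (.nd (.nd (.nd (.lf 0) (.lf 337)) (.nd (.lf 0) (.lf 0))) (.nd (.nd (.lf 63) (.lf 0)) (.nd (.lf 0) (.lf 0)))) (.nd (.nd (.nd (.lf 0) (.lf 546)) (.nd (.lf 0) (.lf 0))) (.nd (.nd (.lf 0) (.lf 0)) (.nd (.lf 308) (.lf 0))))))) (.nd (.nd (.nd (.nd (.nd (.nd (.lf 0) (.lf 352)) (.nd (.lf 0) (.lf 0))) (.nd (.nd (.lf 0) (.lf 0)) (.nd (.lf 0) (.lf 0)))) (.nd (.nd (.nd (.lf 77) (.lf 179)) (.nd (.lf 36) (.lf 0))) (.nd (.nd (.lf 497) (.lf 0)) (.nd (.lf 0) (.lf 0))))) (.nd (.nd (.nd (.nd (.lf 0) (.lf 598)) (.nd (.lf 0) (.lf 0))) (.nd (.nd (.lf 0) (.lf 0)) (.nd (.lf 382) (.lf 0)))) (.nd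 (.nd (.nd (.lf 0) (.lf 403)) (.nd (.lf 12) (.lf 0))) (.nd (.nd (.lf 48) (.lf 0)) (.nd (.lf 9) (.lf 0)))))) (.nd (.nd (.nd (.nd (.nd (.lf 0) (.lf 195)) (.nd (.lf 152) (.lf 0))) (.nd (.nd (.lf 0) (.lf 0)) (.nd (.lf 443) (.lf 0)))) (.nd (.nd (.nd (.lf 0) (.lf 160)) (.nd (.lf 0) (.lf 0))) (.nd (.nd (.lf 322) (.lf 0)) (.nd (.lf 303) (.lf 0))))) (.nd (.nd (.nd (.nd (.lf 0) (.lf 562)) (.nd (.lf 56) (.lf 0))) (.nd (.nd (.lf 0) (.lf 0)) (.nd (.lf 605) (.lf 0)))) (.nd (.nd (.nd (.lf 0) (.lf 162)) (.nd (.lf 311) (.lf 0))) (.nd (.nd (.lf 518) (.lf 0)) (.nd (.lf 472) (.lf 0)))))))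

/-- table part -/
def rkT_13 : Tr :=
  .nd (.nd (.nd (.nd (.nd (.nd (.nd (.lf 0) (.lf 459)) (.nd (.lf 0) (.lf 0))) (.nd (.nd (.lf 0) (.lf 0)) (.nd (.lf 414) (.lf 0)))) (.nd (.nd (.nd (.lf 0) (.lf 0)) (.nd (.lf 619) (.lf 0))) (.nd (.nd (.lf 0) (.lf 0)) (.nd (.lf 0) (.lf 0))))) (.nd (.nd (.nd (.nd (.lf 274) (.lf 458)) (.nd (.lf 15) (.lf 0))) (.nd (.nd (.lf 0) (.lf 0)) (.nd (.lf 246) (.lf 0)))) (.nd (.nd (.nd (.lf 0) (.lf 295)) (.nd (.lf 13) (.lf 0))) (.nd (.nd (.lf 0) (.lf 0)) (.nd (.lf 34) (.lf 0)))))) (.nd (.nd (.nd (.nd (.nd (.lf 0) (.lf 389)) (.nd (.lf 242) (.lf 0))) (.nd (.nd (.lf 0) (.lf 0)) (.nd (.lf 574) (.lf 0)))) (.nd (.nd (.nd (.lf 0) (.lf 455)) (.nd (.lf 244) (.lf 0))) (.nd (.nd (.lf 0) (.lf 0)) (.nd (.lf 0) (.lf 0))))) (.nd (.nd (.nd (.nd (.lf 103) (.lf 0)) (.nd (.lf 0) (.lf 0)))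 (.nd (.nd (.lf 0) (.lf 0)) (.nd (.lf 109) (.lf 0)))) (.nd (.nd (.nd (.lf 0) (.lf 272)) (.nd (.lf 224) (.lf 0))) (.nd (.nd (.lf 236) (.lf 0)) (.nd (.lf 330) (.lf 0))))))) (.nd (.nd (.nd (.nd (.nd (.nd (.lf 0) (.lf 0)) (.nd (.lf 0) (.lf 0))) (.nd (.nd (.lf 0) (.lf 0)) (.nd (.lf 0) (.lf 0)))) (.nd (.nd (.nd (.lf 0) (.lf 615)) (.nd (.lf 290) (.lf 0))) (.nd (.nd (.lf 0) (.lf 0)) (.nd (.lf 361) (.lf 0))))) (.nd (.nd (.nd (.nd (.lf 167) (.lf 0)) (.nd (.lf 297) (.lf 0))) (.nd (.nd (.lf 19) (.lf 0)) (.nd (.lf 0) (.lf 0)))) (.nd (.nd (.nd (.lf 0) (.lf 476)) (.nd (.lf 0) (.lf 0))) (.nd (.nd (.lf 0) (.lf 0)) (.nd (.lf 0) (.lf 0)))))) (.nd (.nd (.nd (.nd (.nd (.lf 0) (.lf 286)) (.nd (.lf 0) (.lf 0))) (.nd (.nd (.lf 0) (.lf 0)) (.nd (.lf 341) (.lf 0)))) (.nd (.nd (.nd (.lf 0) (.lf 632)) (.nd (.lf 137) (.lf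 0))) (.nd (.nd (.lf 0) (.lf 0)) (.nd (.lf 37) (.lf 0))))) (.nd (.nd (.nd (.nd (.lf 0) (.lf 340)) (.nd (.lf 0) (.lf 0))) (.nd (.nd (.lf 0) (.lf 0)) (.nd (.lf 450) (.lf 0)))) (.nd (.nd (.nd (.lf 0) (.lf 508)) (.nd (.lf 404) (.lf 0))) (.nd (.nd (.lf 0) (.lf 0)) (.nd (.lf 485) (.lf 0)))))))

/-- table part -/
def rkT_14 : Tr :=
  .nd (.nd (.nd (.nd (.nd (.nd (.nd (.lf 0) (.lf 587)) (.nd (.lf 350) (.lf 0))) (.nd (.nd (.lf 0) (.lf 0)) (.nd (.lf 0) (.lf 0)))) (.nd (.nd (.nd (.lf 0) (.lf 468)) (.nd (.lf 0) (.lf 0))) (.nd (.nd (.lf 55) (.lf 0)) (.nd (.lf 0) (.lf 0))))) (.nd (.nd (.nd (.nd (.lf 22) (.lf 0)) (.nd (.lf 532) (.lf 0))) (.nd (.nd (.lf 67) (.lf 0)) (.nd (.lf 381) (.lf 0)))) (.nd (.nd (.nd (.lf 225) (.lf 212)) (.nd (.lf 551) (.lf 0))) (.nd (.nd (.lf 0) (.lf 0)) (.nd (.lf 541) (.lf 0)))))) (.nd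 (.nd (.nd (.nd (.nd (.lf 0) (.lf 0)) (.nd (.lf 0) (.lf 0))) (.nd (.nd (.lf 94) (.lf 0)) (.nd (.lf 44) (.lf 0)))) (.nd (.nd (.nd (.lf 88) (.lf 492)) (.nd (.lf 33) (.lf 0))) (.nd (.nd (.lf 0) (.lf 0)) (.nd (.lf 589) (.lf 0))))) (.nd (.nd (.nd (.nd (.lf 87) (.lf 338)) (.nd (.lf 610) (.lf 0))) (.nd (.nd (.lf 0) (.lf 0)) (.nd (.lf 0) (.lf 0)))) (.nd (.nd (.nd (.lf 0) (.lf 563)) (.nd (.lf 233) (.lf 0))) (.nd (.nd (.lf 622) (.lf 0)) (.nd (.lf 0) (.lf 0))))))) (.nd (.nd (.nd (.nd (.nd (.nd (.lf 0) (.lf 0)) (.nd (.lf 495) (.lf 0))) (.nd (.nd (.lf 0) (.lf 0)) (.nd (.lf 0) (.lf 0)))) (.nd (.nd (.nd (.lf 0) (.lf 3)) (.nd (.lf 640) (.lf 0))) (.nd (.nd (.lf 0) (.lf 0)) (.nd (.lf 0) (.lf 0))))) (.nd (.nd (.nd (.nd (.lf 0) (.lf 0)) (.nd (.lf 0) (.lf 0))) (.nd (.nd (.lf 0) (.lf 0)) (.nd (.lf 201) (.lf 0))))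 (.nd (.nd (.nd (.lf 0) (.lf 524)) (.nd (.lf 442) (.lf 0))) (.nd (.nd (.lf 0) (.lf 0)) (.nd (.lf 505) (.lf 0)))))) (.nd (.nd (.nd (.nd (.nd (.lf 128) (.lf 155)) (.nd (.lf 0) (.lf 0))) (.nd (.nd (.lf 0) (.lf 0)) (.nd (.lf 447) (.lf 0)))) (.nd (.nd (.nd (.lf 0) (.lf 2)) (.nd (.lf 324) (.lf 0))) (.nd (.nd (.lf 0) (.lf 0)) (.nd (.lf 484) (.lf 0))))) (.nd (.nd (.nd (.nd (.lf 170) (.lf 5)) (.nd (.lf 0) (.lf 0))) (.nd (.nd (.lf 0) (.lf 0)) (.nd (.lf 528) (.lf 0)))) (.nd (.nd (.nd (.lf 0) (.lf 194)) (.nd (.lf 428) (.lf 0))) (.nd (.nd (.lf 0) (.lf 0)) (.nd (.lf 183) (.lf 0)))))))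

/-- table part -/
def rkT_15 : Tr :=
  .nd (.nd (.nd (.nd (.nd (.nd (.nd (.lf 0) (.lf 28)) (.nd (.lf 16) (.lf 0))) (.nd (.nd (.lf 206) (.lf 0)) (.nd (.lf 0) (.lf 0)))) (.nd (.nd (.nd (.lf 273) (.lf 0)) (.nd (.lf 0) (.lf 0))) (.nd (.nd (.lf 98) (.lf 0)) (.nd (.lf 600) (.lf 0))))) (.nd (.nd (.nd (.nd (.lf 0) (.lf 142)) (.nd (.lf 238) (.lf 0))) (.nd (.nd (.lf 0) (.lf 0)) (.nd (.lf 285) (.lf 0)))) (.nd (.nd (.nd (.lf 0) (.lf 247)) (.nd (.lf 0) (.lf 0))) (.nd (.nd (.lf 0) (.lf 0)) (.nd (.lf 601) (.lf 0)))))) (.nd (.nd (.nd (.nd (.nd (.lf 0) (.lf 432)) (.nd (.lf 609) (.lf 0))) (.nd (.nd (.lf 0) (.lf 0)) (.nd (.lf 0) (.lf 0)))) (.nd (.nd (.nd (.lf 0) (.lf 578)) (.nd (.lf 439) (.lf 0))) (.nd (.nd (.lf 0) (.lf 0)) (.nd (.lf 10) (.lf 0))))) (.nd (.nd (.nd (.nd (.lf 0) (.lf 490)) (.nd (.lf 329) (.lf 0)))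 (.nd (.nd (.lf 127) (.lf 0)) (.nd (.lf 537) (.lf 0)))) (.nd (.nd (.nd (.lf 0) (.lf 431)) (.nd (.lf 390) (.lf 0))) (.nd (.nd (.lf 0) (.lf 0)) (.nd (.lf 480) (.lf 0))))))) (.nd (.nd (.nd (.nd (.nd (.nd (.lf 0) (.lf 0)) (.nd (.lf 0) (.lf 0))) (.nd (.nd (.lf 0) (.lf 0)) (.nd (.lf 369) (.lf 0)))) (.nd (.nd (.nd (.lf 0) (.lf 0)) (.nd (.lf 499) (.lf 0))) (.nd (.nd (.lf 0) (.lf 0)) (.nd (.lf 250) (.lf 0))))) (.nd (.nd (.nd (.nd (.lf 0) (.lf 420)) (.nd (.lf 356) (.lf 0))) (.nd (.nd (.lf 0) (.lf 0)) (.nd (.lf 154) (.lf 0)))) (.nd (.nd (.nd (.lf 0) (.lf 626)) (.nd (.lf 281) (.lf 0))) (.nd (.nd (.lf 0) (.lf 0)) (.nd (.lf 177) (.lf 0)))))) (.nd (.nd (.nd (.nd (.nd (.lf 0) (.lf 494)) (.nd (.lf 0) (.lf 0))) (.nd (.nd (.lf 0) (.lf 0)) (.nd (.lf 436) (.lf 0)))) (.nd (.nd (.nd (.lf 181) (.lf 635)) (.nd (.lf 0)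 (.lf 0))) (.nd (.nd (.lf 529) (.lf 0)) (.nd (.lf 326) (.lf 0))))) (.nd (.nd (.nd (.nd (.lf 140) (.lf 582)) (.nd (.lf 567) (.lf 0))) (.nd (.nd (.lf 18) (.lf 0)) (.nd (.lf 351) (.lf 0)))) (.nd (.nd (.nd (.lf 0) (.lf 270)) (.nd (.lf 0) (.lf 0))) (.nd (.nd (.lf 331) (.lf 0)) (.nd (.lf 617) (.lf 0)))))))

/-- table part -/
def rkT_16 : Tr :=
  .nd (.nd (.nd (.nd (.nd (.nd (.nd (.lf 0) (.lf 8)) (.nd (.lf 385) (.lf 0))) (.nd (.nd (.lf 0) (.lf 0)) (.nd (.lf 0) (.lf 0)))) (.nd (.nd (.nd (.lf 0) (.lf 489)) (.nd (.lf 52) (.lf 0))) (.nd (.nd (.lf 0) (.lf 0)) (.nd (.lf 397) (.lf 0))))) (.nd (.nd (.nd (.nd (.lf 0) (.lf 0)) (.nd (.lf 383) (.lf 0))) (.nd (.nd (.lf 0) (.lf 0)) (.nd (.lf 0) (.lf 0)))) (.nd (.nd (.nd (.lf 0) (.lf 511)) (.nd (.lf 300) (.lf 0))) (.nd (.nd (.lf 0) (.lf 0)) (.nd (.lf 190) (.lf 0))))))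 (.nd (.nd (.nd (.nd (.nd (.lf 0) (.lf 0)) (.nd (.lf 0) (.lf 0))) (.nd (.nd (.lf 294) (.lf 0)) (.nd (.lf 0) (.lf 0)))) (.nd (.nd (.nd (.lf 0) (.lf 0)) (.nd (.lf 590) (.lf 0))) (.nd (.nd (.lf 119) (.lf 0)) (.nd (.lf 0) (.lf 0))))) (.nd (.nd (.nd (.nd (.lf 0) (.lf 0)) (.nd (.lf 14) (.lf 0))) (.nd (.nd (.lf 0) (.lf 0)) (.nd (.lf 0) (.lf 0)))) (.nd (.nd (.nd (.lf 0) (.lf 117)) (.nd (.lf 0) (.lf 0))) (.nd (.nd (.lf 46) (.lf 0)) (.nd (.lf 298) (.lf 0))))))) (.nd (.nd (.nd (.nd (.nd (.nd (.lf 0) (.lf 380)) (.nd (.lf 209) (.lf 0))) (.nd (.nd (.lf 0) (.lf 0)) (.nd (.lf 354) (.lf 0)))) (.nd (.nd (.nd (.lf 0) (.lf 547)) (.nd (.lf 0) (.lf 0))) (.nd (.nd (.lf 0) (.lf 0)) (.nd (.lf 592) (.lf 0))))) (.nd (.nd (.nd (.nd (.lf 0) (.lf 463)) (.nd (.lf 0) (.lf 0))) (.nd (.nd (.lf 0) (.lf 0)) (.nd (.lf 445) (.lf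 0)))) (.nd (.nd (.nd (.lf 0) (.lf 1)) (.nd (.lf 0) (.lf 0))) (.nd (.nd (.lf 0) (.lf 0)) (.nd (.lf 151) (.lf 0)))))) (.nd (.nd (.nd (.nd (.nd (.lf 0) (.lf 0)) (.nd (.lf 314) (.lf 0))) (.nd (.nd (.lf 0) (.lf 0)) (.nd (.lf 620) (.lf 0)))) (.nd (.nd (.nd (.lf 0) (.lf 456)) (.nd (.lf 461) (.lf 0))) (.nd (.nd (.lf 0) (.lf 0)) (.nd (.lf 0) (.lf 0))))) (.nd (.nd (.nd (.nd (.lf 0) (.lf 172)) (.nd (.lf 0) (.lf 0))) (.nd (.nd (.lf 0) (.lf 0)) (.nd (.lf 412) (.lf 0)))) (.nd (.nd (.nd (.lf 21) (.lf 560)) (.nd (.lf 157) (.lf 0))) (.nd (.nd (.lf 0) (.lf 0)) (.nd (.lf 0) (.lf 0)))))))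

/-- table -/
def rkT : Tr :=
  .nd (.nd (.nd (.nd rkT_1 rkT_2) (.nd rkT_3 rkT_4)) (.nd (.nd rkT_5 rkT_6) (.nd rkT_7 rkT_8))) (.nd (.nd (.nd rkT_9 rkT_10) (.nd rkT_11 rkT_12)) (.nd (.nd rkT_13 rkT_14) (.nd rkT_15 rkT_16)))

/-- table part -/
def jsT_1 : Tr :=
  .nd (.nd (.nd (.nd (.nd (.nd (.nd (.lf 0) (.lf 6984)) (.nd (.lf 0) (.lf 0))) (.nd (.nd (.lf 1538) (.lf 0)) (.nd (.lf 4610) (.lf 0)))) (.nd (.nd (.nd (.lf 0) (.lf 0)) (.nd (.lf 29748) (.lf 0))) (.nd (.nd (.lf 26986) (.lf 0)) (.nd (.lf 6000) (.lf 0))))) (.nd (.nd (.nd (.nd (.lf 480) (.lf 11580)) (.nd (.lf 0) (.lf 0))) (.nd (.nd (.lf 0) (.lf 0)) (.nd (.lf 26434) (.lf 0)))) (.nd (.nd (.nd (.lf 0) (.lf 7298)) (.nd (.lf 27288) (.lf 0))) (.nd (.nd (.lf 0) (.lf 0)) (.nd (.lf 5762) (.lf 0)))))) (.nd (.nd (.nd (.nd (.nd (.lf 0) (.lf 7044)) (.nd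 (.lf 0) (.lf 0))) (.nd (.nd (.lf 0) (.lf 0)) (.nd (.lf 0) (.lf 0)))) (.nd (.nd (.nd (.lf 0) (.lf 28896)) (.nd (.lf 0) (.lf 0))) (.nd (.nd (.lf 0) (.lf 0)) (.nd (.lf 28632) (.lf 0))))) (.nd (.nd (.nd (.nd (.lf 192) (.lf 13498)) (.nd (.lf 1176) (.lf 0))) (.nd (.nd (.lf 0) (.lf 0)) (.nd (.lf 35922) (.lf 0)))) (.nd (.nd (.nd (.lf 0) (.lf 32154)) (.nd (.lf 33588) (.lf 0))) (.nd (.nd (.lf 0) (.lf 0)) (.nd (.lf 35604) (.lf 0))))))) (.nd (.nd (.nd (.nd (.nd (.nd (.lf 0) (.lf 6242)) (.nd (.lf 0) (.lf 0))) (.nd (.nd (.lf 0) (.lf 0)) (.nd (.lf 0) (.lf 0)))) (.nd (.nd (.nd (.lf 866) (.lf 14304)) (.nd (.lf 3938) (.lf 0))) (.nd (.nd (.lf 26244) (.lf 0)) (.nd (.lf 28536) (.lf 0))))) (.nd (.nd (.nd (.nd (.lf 0) (.lf 129514)) (.nd (.lf 21978) (.lf 0))) (.nd (.nd (.lf 0) (.lf 0)) (.nd (.lf 0) (.lf 0)))) (.nd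 (.nd (.nd (.lf 0) (.lf 26470)) (.nd (.lf 0) (.lf 0))) (.nd (.nd (.lf 8736) (.lf 0)) (.nd (.lf 49278) (.lf 0)))))) (.nd (.nd (.nd (.nd (.nd (.lf 0) (.lf 6434)) (.nd (.lf 26316) (.lf 0))) (.nd (.nd (.lf 0) (.lf 0)) (.nd (.lf 36672) (.lf 0)))) (.nd (.nd (.nd (.lf 1058) (.lf 15118)) (.nd (.lf 996) (.lf 0))) (.nd (.nd (.lf 32160) (.lf 0)) (.nd (.lf 93874) (.lf 0))))) (.nd (.nd (.nd (.nd (.lf 0) (.lf 29880)) (.nd (.lf 12142) (.lf 0))) (.nd (.nd (.lf 0) (.lf 0)) (.nd (.lf 5282) (.lf 0)))) (.nd (.nd (.nd (.lf 0) (.lf 14734)) (.nd (.lf 0) (.lf 0))) (.nd (.nd (.lf 0) (.lf 0)) (.nd (.lf 0) (.lf 0)))))))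

/-- table part -/
def jsT_2 : Tr :=
  .nd (.nd (.nd (.nd (.nd (.nd (.nd (.lf 7922) (.lf 73978)) (.nd (.lf 26184) (.lf 0))) (.nd (.nd (.lf 0) (.lf 0)) (.nd (.lf 0) (.lf 0)))) (.nd (.nd (.nd (.lf 0) (.lf 30360)) (.nd (.lf 0) (.lf 0))) (.nd (.nd (.lf 0) (.lf 0)) (.nd (.lf 5640) (.lf 0))))) (.nd (.nd (.nd (.nd (.lf 0) (.lf 34212)) (.nd (.lf 0) (.lf 0))) (.nd (.nd (.lf 2100) (.lf 0)) (.nd (.lf 27144) (.lf 0)))) (.nd (.nd (.nd (.lf 0) (.lf 5520)) (.nd (.lf 36660) (.lf 0))) (.nd (.nd (.lf 0) (.lf 0)) (.nd (.lf 28716) (.lf 0)))))) (.nd (.nd (.nd (.nd (.nd (.lf 1) (.lf 98806)) (.nd (.lf 0) (.lf 0))) (.nd (.nd (.lf 0) (.lf 0)) (.nd (.lf 4920) (.lf 0)))) (.nd (.nd (.nd (.lf 1116) (.lf 7074)) (.nd (.lf 40162) (.lf 0))) (.nd (.nd (.lf 0) (.lf 0)) (.nd (.lf 37584) (.lf 0))))) (.nd (.nd (.nd (.nd (.lf 23556)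 (.lf 34554)) (.nd (.lf 23698) (.lf 0))) (.nd (.nd (.lf 0) (.lf 0)) (.nd (.lf 4260) (.lf 0)))) (.nd (.nd (.nd (.lf 0) (.lf 29628)) (.nd (.lf 4466) (.lf 0))) (.nd (.nd (.lf 2930) (.lf 0)) (.nd (.lf 0) (.lf 0))))))) (.nd (.nd (.nd (.nd (.nd (.nd (.lf 0) (.lf 12454)) (.nd (.lf 4584) (.lf 0))) (.nd (.nd (.lf 0) (.lf 0)) (.nd (.lf 13020) (.lf 0)))) (.nd (.nd (.nd (.lf 0) (.lf 99222)) (.nd (.lf 97006) (.lf 0))) (.nd (.nd (.lf 0) (.lf 0)) (.nd (.lf 0) (.lf 0))))) (.nd (.nd (.nd (.nd (.lf 0) (.lf 21270)) (.nd (.lf 0) (.lf 0))) (.nd (.nd (.lf 0) (.lf 0)) (.nd (.lf 6294) (.lf 0)))) (.nd (.nd (.nd (.lf 0) (.lf 30696)) (.nd (.lf 28260) (.lf 0))) (.nd (.nd (.lf 0) (.lf 0)) (.nd (.lf 97414) (.lf 0)))))) (.nd (.nd (.nd (.nd (.nd (.lf 0) (.lf 6552)) (.nd (.lf 0) (.lf 0))) (.nd (.nd (.lf 0) (.lf 0)) (.nd (.lf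 35748) (.lf 0)))) (.nd (.nd (.nd (.lf 0) (.lf 114262)) (.nd (.lf 0) (.lf 0))) (.nd (.nd (.lf 0) (.lf 0)) (.nd (.lf 80010) (.lf 0))))) (.nd (.nd (.nd (.nd (.lf 0) (.lf 7380)) (.nd (.lf 3794) (.lf 0))) (.nd (.nd (.lf 2258) (.lf 0)) (.nd (.lf 25102) (.lf 0)))) (.nd (.nd (.nd (.lf 0) (.lf 15034)) (.nd (.lf 34332) (.lf 0))) (.nd (.nd (.lf 1740) (.lf 0)) (.nd (.lf 28668) (.lf 0)))))))

/-- table part -/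
def jsT_3 : Tr :=
  .nd (.nd (.nd (.nd (.nd (.nd (.nd (.lf 0) (.lf 6276)) (.nd (.lf 0) (.lf 0))) (.nd (.nd (.lf 0) (.lf 0)) (.nd (.lf 77058) (.lf 0)))) (.nd (.nd (.nd (.lf 0) (.lf 0)) (.nd (.lf 0) (.lf 0))) (.nd (.nd (.lf 0) (.lf 0)) (.nd (.lf 5928) (.lf 0))))) (.nd (.nd (.nd (.nd (.lf 0) (.lf 0)) (.nd (.lf 28106) (.lf 0))) (.nd (.nd (.lf 0) (.lf 0)) (.nd (.lf 0) (.lf 0)))) (.nd (.nd (.nd (.lf 1178) (.lf 14206)) (.nd (.lf 127138) (.lf 0))) (.nd (.nd (.lf 0) (.lf 0)) (.nd (.lf 5786) (.lf 0)))))) (.nd (.nd (.nd (.nd (.nd (.lf 0) (.lf 0)) (.nd (.lf 0) (.lf 0))) (.nd (.nd (.lf 0) (.lf 0)) (.nd (.lf 26580) (.lf 0)))) (.nd (.nd (.nd (.lf 0) (.lf 35400)) (.nd (.lf 77994) (.lf 0))) (.nd (.nd (.lf 1428) (.lf 0)) (.nd (.lf 0) (.lf 0))))) (.nd (.nd (.nd (.nd (.lf 0) (.lf 98910)) (.nd (.lf 0) (.lf 0)))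 (.nd (.nd (.lf 0) (.lf 0)) (.nd (.lf 0) (.lf 0)))) (.nd (.nd (.nd (.lf 0) (.lf 7452)) (.nd (.lf 96606) (.lf 0))) (.nd (.nd (.lf 1416) (.lf 0)) (.nd (.lf 37740) (.lf 0))))))) (.nd (.nd (.nd (.nd (.nd (.nd (.lf 0) (.lf 14928)) (.nd (.lf 0) (.lf 0))) (.nd (.nd (.lf 23988) (.lf 0)) (.nd (.lf 0) (.lf 0)))) (.nd (.nd (.nd (.lf 0) (.lf 30276)) (.nd (.lf 25138) (.lf 0))) (.nd (.nd (.lf 0) (.lf 0)) (.nd (.lf 27480) (.lf 0))))) (.nd (.nd (.nd (.nd (.lf 0) (.lf 25330)) (.nd (.lf 0) (.lf 0))) (.nd (.nd (.lf 2042) (.lf 0)) (.nd (.lf 0) (.lf 0)))) (.nd (.nd (.nd (.lf 0) (.lf 0)) (.nd (.lf 4512) (.lf 0))) (.nd (.nd (.lf 0) (.lf 0)) (.nd (.lf 14940) (.lf 0)))))) (.nd (.nd (.nd (.nd (.nd (.lf 0) (.lf 0)) (.nd (.lf 0) (.lf 0))) (.nd (.nd (.lf 0) (.lf 0)) (.nd (.lf 28332) (.lf 0)))) (.nd (.nd (.nd (.lf 0) (.lf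 28534)) (.nd (.lf 5004) (.lf 0))) (.nd (.nd (.lf 2724) (.lf 0)) (.nd (.lf 5690) (.lf 0))))) (.nd (.nd (.nd (.nd (.lf 23292) (.lf 5556)) (.nd (.lf 0) (.lf 0))) (.nd (.nd (.lf 66510) (.lf 0)) (.nd (.lf 28956) (.lf 0)))) (.nd (.nd (.nd (.lf 93262) (.lf 5892)) (.nd (.lf 10428) (.lf 0))) (.nd (.nd (.lf 0) (.lf 0)) (.nd (.lf 39466) (.lf 0)))))))

/-- table part -/
def jsT_4 : Tr :=
  .nd (.nd (.nd (.nd (.nd (.nd (.nd (.lf 0) (.lf 6696)) (.nd (.lf 0) (.lf 0))) (.nd (.nd (.lf 10788) (.lf 0)) (.nd (.lf 0) (.lf 0)))) (.nd (.nd (.nd (.lf 23230) (.lf 94114)) (.nd (.lf 29054) (.lf 0))) (.nd (.nd (.lf 29218) (.lf 0)) (.nd (.lf 0) (.lf 0))))) (.nd (.nd (.nd (.nd (.lf 31524) (.lf 6672)) (.nd (.lf 35354) (.lf 0))) (.nd (.nd (.lf 0) (.lf 0)) (.nd (.lf 1308) (.lf 0)))) (.nd (.nd (.nd (.lf 0) (.lf 13668)) (.nd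 (.lf 14076) (.lf 0))) (.nd (.nd (.lf 0) (.lf 0)) (.nd (.lf 6312) (.lf 0)))))) (.nd (.nd (.nd (.nd (.nd (.lf 0) (.lf 27024)) (.nd (.lf 29304) (.lf 0))) (.nd (.nd (.lf 0) (.lf 0)) (.nd (.lf 4874) (.lf 0)))) (.nd (.nd (.nd (.lf 0) (.lf 6744)) (.nd (.lf 23878) (.lf 0))) (.nd (.nd (.lf 2676) (.lf 0)) (.nd (.lf 0) (.lf 0))))) (.nd (.nd (.nd (.nd (.lf 0) (.lf 11568)) (.nd (.lf 0) (.lf 0))) (.nd (.nd (.lf 97774) (.lf 0)) (.nd (.lf 12274) (.lf 0)))) (.nd (.nd (.nd (.lf 0) (.lf 30408)) (.nd (.lf 78858) (.lf 0))) (.nd (.nd (.lf 30118) (.lf 0)) (.nd (.lf 0) (.lf 0))))))) (.nd (.nd (.nd (.nd (.nd (.nd (.lf 170) (.lf 9924)) (.nd (.lf 33978) (.lf 0))) (.nd (.nd (.lf 2196) (.lf 0)) (.nd (.lf 3048) (.lf 0)))) (.nd (.nd (.nd (.lf 0) (.lf 7572)) (.nd (.lf 0) (.lf 0))) (.nd (.nd (.lf 0) (.lf 0)) (.nd (.lf 0) (.lf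 0))))) (.nd (.nd (.nd (.nd (.lf 0) (.lf 14712)) (.nd (.lf 25500) (.lf 0))) (.nd (.nd (.lf 0) (.lf 0)) (.nd (.lf 97306) (.lf 0)))) (.nd (.nd (.nd (.lf 0) (.lf 25894)) (.nd (.lf 0) (.lf 0))) (.nd (.nd (.lf 0) (.lf 0)) (.nd (.lf 0) (.lf 0)))))) (.nd (.nd (.nd (.nd (.nd (.lf 0) (.lf 82878)) (.nd (.lf 0) (.lf 0))) (.nd (.nd (.lf 0) (.lf 0)) (.nd (.lf 33804) (.lf 0)))) (.nd (.nd (.nd (.lf 0) (.lf 0)) (.nd (.lf 0) (.lf 0))) (.nd (.nd (.lf 0) (.lf 0)) (.nd (.lf 80346) (.lf 0))))) (.nd (.nd (.nd (.nd (.lf 0) (.lf 7188)) (.nd (.lf 0) (.lf 0))) (.nd (.nd (.lf 96706) (.lf 0)) (.nd (.lf 11424) (.lf 0)))) (.nd (.nd (.nd (.lf 0) (.lf 7500)) (.nd (.lf 5172) (.lf 0))) (.nd (.nd (.lf 0) (.lf 0)) (.nd (.lf 13054) (.lf 0)))))))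

/-- table part -/
def jsT_5 : Tr :=
  .nd (.nd (.nd (.nd (.nd (.nd (.nd (.lf 0) (.lf 0)) (.nd (.lf 0) (.lf 0))) (.nd (.nd (.lf 0) (.lf 0)) (.nd (.lf 0) (.lf 0)))) (.nd (.nd (.nd (.lf 336) (.lf 6144)) (.nd (.lf 28574) (.lf 0))) (.nd (.nd (.lf 0) (.lf 0)) (.nd (.lf 0) (.lf 0))))) (.nd (.nd (.nd (.nd (.lf 0) (.lf 6036)) (.nd (.lf 0) (.lf 0))) (.nd (.nd (.lf 0) (.lf 0)) (.nd (.lf 35676) (.lf 0)))) (.nd (.nd (.nd (.lf 0) (.lf 28176)) (.nd (.lf 0) (.lf 0))) (.nd (.nd (.lf 23614) (.lf 0)) (.nd (.lf 21150) (.lf 0)))))) (.nd (.nd (.nd (.nd (.nd (.lf 0) (.lf 6660)) (.nd (.lf 0) (.lf 0))) (.nd (.nd (.lf 0) (.lf 0)) (.nd (.lf 0) (.lf 0)))) (.nd (.nd (.nd (.lf 0) (.lf 27756)) (.nd (.lf 97114) (.lf 0))) (.nd (.nd (.lf 0) (.lf 0)) (.nd (.lf 113722) (.lf 0))))) (.nd (.nd (.nd (.nd (.lf 0) (.lf 0)) (.nd (.lf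 0) (.lf 0))) (.nd (.nd (.lf 0) (.lf 0)) (.nd (.lf 0) (.lf 0)))) (.nd (.nd (.nd (.lf 0) (.lf 7536)) (.nd (.lf 4430) (.lf 0))) (.nd (.nd (.lf 98734) (.lf 0)) (.nd (.lf 5966) (.lf 0))))))) (.nd (.nd (.nd (.nd (.nd (.nd (.lf 0) (.lf 30158)) (.nd (.lf 0) (.lf 0))) (.nd (.nd (.lf 0) (.lf 0)) (.nd (.lf 0) (.lf 0)))) (.nd (.nd (.nd (.lf 0) (.lf 28452)) (.nd (.lf 0) (.lf 0))) (.nd (.nd (.lf 0) (.lf 0)) (.nd (.lf 96142) (.lf 0))))) (.nd (.nd (.nd (.nd (.lf 0) (.lf 38112)) (.nd (.lf 2730) (.lf 0))) (.nd (.nd (.lf 0) (.lf 0)) (.nd (.lf 5102) (.lf 0)))) (.nd (.nd (.nd (.lf 0) (.lf 36180)) (.nd (.lf 61750) (.lf 0))) (.nd (.nd (.lf 0) (.lf 0)) (.nd (.lf 6720) (.lf 0)))))) (.nd (.nd (.nd (.nd (.nd (.lf 0) (.lf 6360)) (.nd (.lf 3504) (.lf 0))) (.nd (.nd (.lf 0) (.lf 0)) (.nd (.lf 34560) (.lf 0)))) (.nd (.nd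 (.nd (.lf 0) (.lf 0)) (.nd (.lf 0) (.lf 0))) (.nd (.nd (.lf 27852) (.lf 0)) (.nd (.lf 97546) (.lf 0))))) (.nd (.nd (.nd (.nd (.lf 0) (.lf 29868)) (.nd (.lf 0) (.lf 0))) (.nd (.nd (.lf 26016) (.lf 0)) (.nd (.lf 6612) (.lf 0)))) (.nd (.nd (.nd (.lf 1596) (.lf 6204)) (.nd (.lf 0) (.lf 0))) (.nd (.nd (.lf 0) (.lf 0)) (.nd (.lf 128950) (.lf 0)))))))

/-- table part -/
def jsT_6 : Tr :=
  .nd (.nd (.nd (.nd (.nd (.nd (.nd (.lf 0) (.lf 0)) (.nd (.lf 0) (.lf 0))) (.nd (.nd (.lf 0) (.lf 0)) (.nd (.lf 24792) (.lf 0)))) (.nd (.nd (.nd (.lf 0) (.lf 4788)) (.nd (.lf 32802) (.lf 0))) (.nd (.nd (.lf 0) (.lf 0)) (.nd (.lf 3672) (.lf 0))))) (.nd (.nd (.nd (.nd (.lf 0) (.lf 5832)) (.nd (.lf 0) (.lf 0))) (.nd (.nd (.lf 0) (.lf 0)) (.nd (.lf 97078) (.lf 0)))) (.nd (.nd (.nd (.lf 1214) (.lf 113170)) (.nd (.lf 0)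 (.lf 0))) (.nd (.nd (.lf 28934) (.lf 0)) (.nd (.lf 0) (.lf 0)))))) (.nd (.nd (.nd (.nd (.nd (.lf 0) (.lf 0)) (.nd (.lf 1944) (.lf 0))) (.nd (.nd (.lf 0) (.lf 0)) (.nd (.lf 127750) (.lf 0)))) (.nd (.nd (.nd (.lf 0) (.lf 50214)) (.nd (.lf 0) (.lf 0))) (.nd (.nd (.lf 28740) (.lf 0)) (.nd (.lf 23998) (.lf 0))))) (.nd (.nd (.nd (.nd (.lf 0) (.lf 25450)) (.nd (.lf 0) (.lf 0))) (.nd (.nd (.lf 19742) (.lf 0)) (.nd (.lf 0) (.lf 0)))) (.nd (.nd (.nd (.lf 0) (.lf 99670)) (.nd (.lf 0) (.lf 0))) (.nd (.nd (.lf 0) (.lf 0)) (.nd (.lf 1488) (.lf 0))))))) (.nd (.nd (.nd (.nd (.nd (.nd (.lf 0) (.lf 0)) (.nd (.lf 98482) (.lf 0))) (.nd (.nd (.lf 0) (.lf 0)) (.nd (.lf 2208) (.lf 0)))) (.nd (.nd (.nd (.lf 0) (.lf 0)) (.nd (.lf 26760) (.lf 0))) (.nd (.nd (.lf 0) (.lf 0)) (.nd (.lf 25416) (.lf 0))))) (.nd (.nd (.nd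 (.nd (.lf 0) (.lf 0)) (.nd (.lf 0) (.lf 0))) (.nd (.nd (.lf 26294) (.lf 0)) (.nd (.lf 5150) (.lf 0)))) (.nd (.nd (.nd (.lf 0) (.lf 30348)) (.nd (.lf 25200) (.lf 0))) (.nd (.nd (.lf 12168) (.lf 0)) (.nd (.lf 24742) (.lf 0)))))) (.nd (.nd (.nd (.nd (.nd (.lf 0) (.lf 0)) (.nd (.lf 3768) (.lf 0))) (.nd (.nd (.lf 0) (.lf 0)) (.nd (.lf 28020) (.lf 0)))) (.nd (.nd (.nd (.lf 0) (.lf 0)) (.nd (.lf 5328) (.lf 0))) (.nd (.nd (.lf 27170) (.lf 0)) (.nd (.lf 30358) (.lf 0))))) (.nd (.nd (.nd (.nd (.lf 0) (.lf 12936)) (.nd (.lf 3876) (.lf 0))) (.nd (.nd (.lf 0) (.lf 0)) (.nd (.lf 77682) (.lf 0)))) (.nd (.nd (.nd (.lf 0) (.lf 6516)) (.nd (.lf 69142) (.lf 0))) (.nd (.nd (.lf 0) (.lf 0)) (.nd (.lf 30346) (.lf 0)))))))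

/-- table part -/
def jsT_7 : Tr :=
  .nd (.nd (.nd (.nd (.nd (.nd (.nd (.lf 0) (.lf 0)) (.nd (.lf 0) (.lf 0))) (.nd (.nd (.lf 32520) (.lf 0)) (.nd (.lf 0) (.lf 0)))) (.nd (.nd (.nd (.lf 0) (.lf 0)) (.nd (.lf 0) (.lf 0))) (.nd (.nd (.lf 0) (.lf 0)) (.nd (.lf 0) (.lf 0))))) (.nd (.nd (.nd (.nd (.lf 0) (.lf 6566)) (.nd (.lf 0) (.lf 0))) (.nd (.nd (.lf 0) (.lf 0)) (.nd (.lf 0) (.lf 0)))) (.nd (.nd (.nd (.lf 0) (.lf 7356)) (.nd (.lf 24058) (.lf 0))) (.nd (.nd (.lf 35004) (.lf 0)) (.nd (.lf 27900) (.lf 0)))))) (.nd (.nd (.nd (.nd (.nd (.lf 0) (.lf 11748)) (.nd (.lf 126190) (.lf 0))) (.nd (.nd (.lf 98410) (.lf 0)) (.nd (.lf 4838) (.lf 0)))) (.nd (.nd (.nd (.lf 998) (.lf 130030)) (.nd (.lf 0) (.lf 0))) (.nd (.nd (.lf 0) (.lf 0)) (.nd (.lf 0) (.lf 0))))) (.nd (.nd (.nd (.nd (.lf 614) (.lf 0)) (.nd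 (.lf 27660) (.lf 0))) (.nd (.nd (.lf 0) (.lf 0)) (.nd (.lf 0) (.lf 0)))) (.nd (.nd (.nd (.lf 0) (.lf 6648)) (.nd (.lf 13154) (.lf 0))) (.nd (.nd (.lf 95082) (.lf 0)) (.nd (.lf 36324) (.lf 0))))))) (.nd (.nd (.nd (.nd (.nd (.nd (.lf 0) (.lf 28200)) (.nd (.lf 0) (.lf 0))) (.nd (.nd (.lf 23688) (.lf 0)) (.nd (.lf 41734) (.lf 0)))) (.nd (.nd (.nd (.lf 902) (.lf 29508)) (.nd (.lf 3936) (.lf 0))) (.nd (.nd (.lf 98818) (.lf 0)) (.nd (.lf 0) (.lf 0))))) (.nd (.nd (.nd (.nd (.lf 0) (.lf 13018)) (.nd (.lf 0) (.lf 0))) (.nd (.nd (.lf 0) (.lf 0)) (.nd (.lf 6120) (.lf 0)))) (.nd (.nd (.nd (.lf 0) (.lf 7596)) (.nd (.lf 36626) (.lf 0))) (.nd (.nd (.lf 68718) (.lf 0)) (.nd (.lf 1044) (.lf 0)))))) (.nd (.nd (.nd (.nd (.nd (.lf 0) (.lf 30334)) (.nd (.lf 0) (.lf 0))) (.nd (.nd (.lf 30178) (.lf 0)) (.nd (.lf 4934)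 (.lf 0)))) (.nd (.nd (.nd (.lf 24710) (.lf 98002)) (.nd (.lf 2544) (.lf 0))) (.nd (.nd (.lf 0) (.lf 0)) (.nd (.lf 97866) (.lf 0))))) (.nd (.nd (.nd (.nd (.lf 0) (.lf 99574)) (.nd (.lf 0) (.lf 0))) (.nd (.nd (.lf 0) (.lf 0)) (.nd (.lf 11314) (.lf 0)))) (.nd (.nd (.nd (.lf 0) (.lf 30708)) (.nd (.lf 4550) (.lf 0))) (.nd (.nd (.lf 0) (.lf 0)) (.nd (.lf 25704) (.lf 0)))))))

/-- table part -/
def jsT_8 : Tr :=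
  .nd (.nd (.nd (.nd (.nd (.nd (.nd (.lf 0) (.lf 27408)) (.nd (.lf 0) (.lf 0))) (.nd (.nd (.lf 0) (.lf 0)) (.nd (.lf 0) (.lf 0)))) (.nd (.nd (.nd (.lf 23760) (.lf 4524)) (.nd (.lf 42550) (.lf 0))) (.nd (.nd (.lf 0) (.lf 0)) (.nd (.lf 35556) (.lf 0))))) (.nd (.nd (.nd (.nd (.lf 0) (.lf 0)) (.nd (.lf 26604) (.lf 0))) (.nd (.nd (.lf 0) (.lf 0)) (.nd (.lf 0) (.lf 0)))) (.nd (.nd (.nd (.lf 0) (.lf 37176)) (.nd (.lf 27456) (.lf 0))) (.nd (.nd (.lf 2808) (.lf 0)) (.nd (.lf 6096) (.lf 0)))))) (.nd (.nd (.nd (.nd (.nd (.lf 0) (.lf 0)) (.nd (.lf 0) (.lf 0))) (.nd (.nd (.lf 0) (.lf 0)) (.nd (.lf 0) (.lf 0)))) (.nd (.nd (.nd (.lf 0) (.lf 69490)) (.nd (.lf 0) (.lf 0))) (.nd (.nd (.lf 0) (.lf 0)) (.nd (.lf 23018) (.lf 0))))) (.nd (.nd (.nd (.nd (.lf 0) (.lf 38208)) (.nd (.lf 0) (.lf 0))) (.nd (.nd (.lf 0)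 (.lf 0)) (.nd (.lf 27612) (.lf 0)))) (.nd (.nd (.nd (.lf 0) (.lf 7620)) (.nd (.lf 96274) (.lf 0))) (.nd (.nd (.lf 0) (.lf 0)) (.nd (.lf 78486) (.lf 0))))))) (.nd (.nd (.nd (.nd (.nd (.nd (.lf 0) (.lf 28248)) (.nd (.lf 24300) (.lf 0))) (.nd (.nd (.lf 0) (.lf 0)) (.nd (.lf 0) (.lf 0)))) (.nd (.nd (.nd (.lf 0) (.lf 30720)) (.nd (.lf 0) (.lf 0))) (.nd (.nd (.lf 0) (.lf 0)) (.nd (.lf 33324) (.lf 0))))) (.nd (.nd (.nd (.nd (.lf 0) (.lf 14796)) (.nd (.lf 34374) (.lf 0))) (.nd (.nd (.lf 0) (.lf 0)) (.nd (.lf 3348) (.lf 0)))) (.nd (.nd (.nd (.lf 1334) (.lf 45202)) (.nd (.lf 4406) (.lf 0))) (.nd (.nd (.lf 0) (.lf 0)) (.nd (.lf 5942) (.lf 0)))))) (.nd (.nd (.nd (.nd (.nd (.lf 0) (.lf 15096)) (.nd (.lf 0) (.lf 0))) (.nd (.nd (.lf 0) (.lf 0)) (.nd (.lf 0) (.lf 0)))) (.nd (.nd (.nd (.lf 0) (.lf 99450)) (.nd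 (.lf 0) (.lf 0))) (.nd (.nd (.lf 0) (.lf 0)) (.nd (.lf 0) (.lf 0))))) (.nd (.nd (.nd (.nd (.lf 0) (.lf 0)) (.nd (.lf 3830) (.lf 0))) (.nd (.nd (.lf 0) (.lf 0)) (.nd (.lf 98122) (.lf 0)))) (.nd (.nd (.nd (.lf 0) (.lf 30324)) (.nd (.lf 34164) (.lf 0))) (.nd (.nd (.lf 0) (.lf 0)) (.nd (.lf 0) (.lf 0)))))))

/-- table part -/
def jsT_9 : Tr :=
  .nd (.nd (.nd (.nd (.nd (.nd (.nd (.lf 0) (.lf 6154)) (.nd (.lf 81106) (.lf 0))) (.nd (.nd (.lf 0) (.lf 0)) (.nd (.lf 40224) (.lf 0)))) (.nd (.nd (.nd (.lf 0) (.lf 38056)) (.nd (.lf 0) (.lf 0))) (.nd (.nd (.lf 0) (.lf 0)) (.nd (.lf 40668) (.lf 0))))) (.nd (.nd (.nd (.nd (.lf 0) (.lf 6532)) (.nd (.lf 0) (.lf 0))) (.nd (.nd (.lf 0) (.lf 0)) (.nd (.lf 0) (.lf 0)))) (.nd (.nd (.nd (.lf 0) (.lf 57114)) (.nd (.lf 0) (.lf 0))) (.nd (.nd (.lf 0) (.lf 0)) (.nd (.lf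 0) (.lf 0)))))) (.nd (.nd (.nd (.nd (.nd (.lf 0) (.lf 0)) (.nd (.lf 39624) (.lf 0))) (.nd (.nd (.lf 0) (.lf 0)) (.nd (.lf 87630) (.lf 0)))) (.nd (.nd (.nd (.lf 0) (.lf 21240)) (.nd (.lf 0) (.lf 0))) (.nd (.nd (.lf 0) (.lf 0)) (.nd (.lf 42204) (.lf 0))))) (.nd (.nd (.nd (.nd (.lf 0) (.lf 43512)) (.nd (.lf 0) (.lf 0))) (.nd (.nd (.lf 0) (.lf 0)) (.nd (.lf 0) (.lf 0)))) (.nd (.nd (.nd (.lf 0) (.lf 21792)) (.nd (.lf 4420) (.lf 0))) (.nd (.nd (.lf 0) (.lf 0)) (.nd (.lf 85342) (.lf 0))))))) (.nd (.nd (.nd (.nd (.nd (.nd (.lf 0) (.lf 116530)) (.nd (.lf 41712) (.lf 0))) (.nd (.nd (.lf 0) (.lf 0)) (.nd (.lf 40272) (.lf 0)))) (.nd (.nd (.nd (.lf 0) (.lf 7012)) (.nd (.lf 43344) (.lf 0))) (.nd (.nd (.lf 0) (.lf 0)) (.nd (.lf 42324) (.lf 0))))) (.nd (.nd (.nd (.nd (.lf 0) (.lf 6628)) (.nd (.lf 0) (.lf 0)))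 (.nd (.nd (.lf 0) (.lf 0)) (.nd (.lf 0) (.lf 0)))) (.nd (.nd (.nd (.lf 38820) (.lf 91170)) (.nd (.lf 42612) (.lf 0))) (.nd (.nd (.lf 2788) (.lf 0)) (.nd (.lf 0) (.lf 0)))))) (.nd (.nd (.nd (.nd (.nd (.lf 0) (.lf 101098)) (.nd (.lf 0) (.lf 0))) (.nd (.nd (.lf 0) (.lf 0)) (.nd (.lf 36664) (.lf 0)))) (.nd (.nd (.nd (.lf 0) (.lf 30678)) (.nd (.lf 43908) (.lf 0))) (.nd (.nd (.lf 86070) (.lf 0)) (.nd (.lf 88434) (.lf 0))))) (.nd (.nd (.nd (.nd (.lf 0) (.lf 60678)) (.nd (.lf 41460) (.lf 0))) (.nd (.nd (.lf 0) (.lf 0)) (.nd (.lf 31426) (.lf 0)))) (.nd (.nd (.nd (.lf 0) (.lf 46008)) (.nd (.lf 0) (.lf 0))) (.nd (.nd (.lf 0) (.lf 0)) (.nd (.lf 0) (.lf 0)))))))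

/-- table part -/
def jsT_10 : Tr :=
  .nd (.nd (.nd (.nd (.nd (.nd (.nd (.lf 0) (.lf 22524)) (.nd (.lf 0) (.lf 0))) (.nd (.nd (.lf 0) (.lf 0)) (.nd (.lf 0) (.lf 0)))) (.nd (.nd (.nd (.lf 0) (.lf 0)) (.nd (.lf 0) (.lf 0))) (.nd (.nd (.lf 0) (.lf 0)) (.nd (.lf 42600) (.lf 0))))) (.nd (.nd (.nd (.nd (.lf 0) (.lf 89694)) (.nd (.lf 0) (.lf 0))) (.nd (.nd (.lf 0) (.lf 0)) (.nd (.lf 87754) (.lf 0)))) (.nd (.nd (.nd (.lf 0) (.lf 46044)) (.nd (.lf 0) (.lf 0))) (.nd (.nd (.lf 0) (.lf 0)) (.nd (.lf 45132) (.lf 0)))))) (.nd (.nd (.nd (.nd (.nd (.lf 38448) (.lf 28998)) (.nd (.lf 21780) (.lf 0))) (.nd (.nd (.lf 39216) (.lf 0)) (.nd (.lf 20712) (.lf 0)))) (.nd (.nd (.nd (.lf 0) (.lf 106906)) (.nd (.lf 0) (.lf 0))) (.nd (.nd (.lf 21156) (.lf 0)) (.nd (.lf 0) (.lf 0))))) (.nd (.nd (.nd (.nd (.lf 0) (.lf 0))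 (.nd (.lf 3700) (.lf 0))) (.nd (.nd (.lf 0) (.lf 0)) (.nd (.lf 0) (.lf 0)))) (.nd (.nd (.nd (.lf 0) (.lf 21922)) (.nd (.lf 44376) (.lf 0))) (.nd (.nd (.lf 0) (.lf 0)) (.nd (.lf 77962) (.lf 0))))))) (.nd (.nd (.nd (.nd (.nd (.nd (.lf 0) (.lf 0)) (.nd (.lf 0) (.lf 0))) (.nd (.nd (.lf 0) (.lf 0)) (.nd (.lf 89442) (.lf 0)))) (.nd (.nd (.nd (.lf 0) (.lf 91762)) (.nd (.lf 43944) (.lf 0))) (.nd (.nd (.lf 39312) (.lf 0)) (.nd (.lf 91594) (.lf 0))))) (.nd (.nd (.nd (.nd (.lf 39024) (.lf 19042)) (.nd (.lf 39744) (.lf 0))) (.nd (.nd (.lf 0) (.lf 0)) (.nd (.lf 0) (.lf 0)))) (.nd (.nd (.nd (.lf 0) (.lf 77146)) (.nd (.lf 0) (.lf 0))) (.nd (.nd (.lf 41412) (.lf 0)) (.nd (.lf 30532) (.lf 0)))))) (.nd (.nd (.nd (.nd (.nd (.lf 38964) (.lf 6490)) (.nd (.lf 40356) (.lf 0))) (.nd (.nd (.lf 0) (.lf 0)) (.nd (.lf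 87762) (.lf 0)))) (.nd (.nd (.nd (.lf 0) (.lf 107038)) (.nd (.lf 4186) (.lf 0))) (.nd (.nd (.lf 2644) (.lf 0)) (.nd (.lf 44784) (.lf 0))))) (.nd (.nd (.nd (.nd (.lf 0) (.lf 22836)) (.nd (.lf 0) (.lf 0))) (.nd (.nd (.lf 0) (.lf 0)) (.nd (.lf 0) (.lf 0)))) (.nd (.nd (.nd (.lf 0) (.lf 44928)) (.nd (.lf 87462) (.lf 0))) (.nd (.nd (.lf 0) (.lf 0)) (.nd (.lf 41340) (.lf 0)))))))

/-- table part -/
def jsT_11 : Tr :=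
  .nd (.nd (.nd (.nd (.nd (.nd (.nd (.lf 0) (.lf 21732)) (.nd (.lf 0) (.lf 0))) (.nd (.nd (.lf 0) (.lf 0)) (.nd (.lf 0) (.lf 0)))) (.nd (.nd (.nd (.lf 0) (.lf 120418)) (.nd (.lf 0) (.lf 0))) (.nd (.nd (.lf 0) (.lf 0)) (.nd (.lf 40116) (.lf 0))))) (.nd (.nd (.nd (.nd (.lf 0) (.lf 38958)) (.nd (.lf 0) (.lf 0))) (.nd (.nd (.lf 0) (.lf 0)) (.nd (.lf 40452) (.lf 0)))) (.nd (.nd (.nd (.lf 0) (.lf 45000)) (.nd (.lf 0) (.lf 0))) (.nd (.nd (.lf 39984) (.lf 0)) (.nd (.lf 5794) (.lf 0)))))) (.nd (.nd (.nd (.nd (.nd (.lf 0) (.lf 119854)) (.nd (.lf 0) (.lf 0))) (.nd (.nd (.lf 0) (.lf 0)) (.nd (.lf 0) (.lf 0)))) (.nd (.nd (.nd (.lf 0) (.lf 22762)) (.nd (.lf 0) (.lf 0))) (.nd (.nd (.lf 0) (.lf 0)) (.nd (.lf 0) (.lf 0))))) (.nd (.nd (.nd (.nd (.lf 0) (.lf 0)) (.nd (.lf 0) (.lf 0))) (.nd (.nd (.lf 0) (.lf 0))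 (.nd (.lf 43200) (.lf 0)))) (.nd (.nd (.nd (.lf 38868) (.lf 72534)) (.nd (.lf 91666) (.lf 0))) (.nd (.nd (.lf 0) (.lf 0)) (.nd (.lf 0) (.lf 0))))))) (.nd (.nd (.nd (.nd (.nd (.nd (.lf 38496) (.lf 0)) (.nd (.lf 39588) (.lf 0))) (.nd (.nd (.lf 0) (.lf 0)) (.nd (.lf 4738) (.lf 0)))) (.nd (.nd (.nd (.lf 0) (.lf 23020)) (.nd (.lf 0) (.lf 0))) (.nd (.nd (.lf 19764) (.lf 0)) (.nd (.lf 0) (.lf 0))))) (.nd (.nd (.nd (.nd (.lf 38532) (.lf 44844)) (.nd (.lf 118306) (.lf 0))) (.nd (.nd (.lf 0) (.lf 0)) (.nd (.lf 0) (.lf 0)))) (.nd (.nd (.nd (.lf 0) (.lf 91750)) (.nd (.lf 0) (.lf 0))) (.nd (.nd (.lf 104446) (.lf 0)) (.nd (.lf 0) (.lf 0)))))) (.nd (.nd (.nd (.nd (.nd (.lf 316) (.lf 20556)) (.nd (.lf 3388) (.lf 0))) (.nd (.nd (.lf 1852) (.lf 0)) (.nd (.lf 0) (.lf 0)))) (.nd (.nd (.nd (.lf 0) (.lf 45948)) (.nd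 (.lf 17016) (.lf 0))) (.nd (.nd (.lf 19632) (.lf 0)) (.nd (.lf 44976) (.lf 0))))) (.nd (.nd (.nd (.nd (.lf 0) (.lf 0)) (.nd (.lf 0) (.lf 0))) (.nd (.nd (.lf 0) (.lf 0)) (.nd (.lf 5314) (.lf 0)))) (.nd (.nd (.nd (.lf 1468) (.lf 21768)) (.nd (.lf 4540) (.lf 0))) (.nd (.nd (.lf 58318) (.lf 0)) (.nd (.lf 18298) (.lf 0)))))))

/-- table part -/
def jsT_12 : Tr :=
  .nd (.nd (.nd (.nd (.nd (.nd (.nd (.lf 0) (.lf 0)) (.nd (.lf 0) (.lf 0))) (.nd (.nd (.lf 0) (.lf 0)) (.nd (.lf 107170) (.lf 0)))) (.nd (.nd (.nd (.lf 0) (.lf 6994)) (.nd (.lf 0) (.lf 0))) (.nd (.nd (.lf 0) (.lf 0)) (.nd (.lf 42978) (.lf 0))))) (.nd (.nd (.nd (.nd (.lf 0) (.lf 20292)) (.nd (.lf 101578) (.lf 0))) (.nd (.nd (.lf 40110) (.lf 0)) (.nd (.lf 100174) (.lf 0)))) (.nd (.nd (.nd (.lf 0) (.lf 46846)) (.nd (.lf 0) (.lf 0))) (.nd (.nd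 (.lf 0) (.lf 0)) (.nd (.lf 0) (.lf 0)))))) (.nd (.nd (.nd (.nd (.nd (.lf 0) (.lf 89466)) (.nd (.lf 0) (.lf 0))) (.nd (.nd (.lf 0) (.lf 0)) (.nd (.lf 100558) (.lf 0)))) (.nd (.nd (.nd (.lf 0) (.lf 0)) (.nd (.lf 50122) (.lf 0))) (.nd (.nd (.lf 0) (.lf 0)) (.nd (.lf 0) (.lf 0))))) (.nd (.nd (.nd (.nd (.lf 0) (.lf 106246)) (.nd (.lf 0) (.lf 0))) (.nd (.nd (.lf 2188) (.lf 0)) (.nd (.lf 0) (.lf 0)))) (.nd (.nd (.nd (.lf 0) (.lf 22296)) (.nd (.lf 0) (.lf 0))) (.nd (.nd (.lf 0) (.lf 0)) (.nd (.lf 76810) (.lf 0))))))) (.nd (.nd (.nd (.nd (.nd (.nd (.lf 0) (.lf 6316)) (.nd (.lf 0) (.lf 0))) (.nd (.nd (.lf 0) (.lf 0)) (.nd (.lf 0) (.lf 0)))) (.nd (.nd (.nd (.lf 38688) (.lf 90618)) (.nd (.lf 39900) (.lf 0))) (.nd (.nd (.lf 85986) (.lf 0)) (.nd (.lf 0) (.lf 0))))) (.nd (.nd (.nd (.nd (.lf 0) (.lf 20050))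 (.nd (.lf 0) (.lf 0))) (.nd (.nd (.lf 0) (.lf 0)) (.nd (.lf 20640) (.lf 0)))) (.nd (.nd (.nd (.lf 0) (.lf 91854)) (.nd (.lf 4396) (.lf 0))) (.nd (.nd (.lf 39468) (.lf 0)) (.nd (.lf 5932) (.lf 0)))))) (.nd (.nd (.nd (.nd (.nd (.lf 0) (.lf 27558)) (.nd (.lf 86586) (.lf 0))) (.nd (.nd (.lf 0) (.lf 0)) (.nd (.lf 18946) (.lf 0)))) (.nd (.nd (.nd (.lf 0) (.lf 20362)) (.nd (.lf 0) (.lf 0))) (.nd (.nd (.lf 87054) (.lf 0)) (.nd (.lf 21180) (.lf 0))))) (.nd (.nd (.nd (.nd (.lf 0) (.lf 6898)) (.nd (.lf 3820) (.lf 0))) (.nd (.nd (.lf 0) (.lf 0)) (.nd (.lf 86866) (.lf 0)))) (.nd (.nd (.nd (.lf 0) (.lf 44424)) (.nd (.lf 43668) (.lf 0))) (.nd (.nd (.lf 53446) (.lf 0)) (.nd (.lf 21334) (.lf 0)))))))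

/-- table part -/
def jsT_13 : Tr :=
  .nd (.nd (.nd (.nd (.nd (.nd (.nd (.lf 0) (.lf 38374)) (.nd (.lf 0) (.lf 0))) (.nd (.nd (.lf 0) (.lf 0)) (.nd (.lf 44112) (.lf 0)))) (.nd (.nd (.nd (.lf 0) (.lf 0)) (.nd (.lf 118522) (.lf 0))) (.nd (.nd (.lf 0) (.lf 0)) (.nd (.lf 0) (.lf 0))))) (.nd (.nd (.nd (.nd (.lf 84538) (.lf 44574)) (.nd (.lf 3472) (.lf 0))) (.nd (.nd (.lf 0) (.lf 0)) (.nd (.lf 28060) (.lf 0)))) (.nd (.nd (.nd (.lf 0) (.lf 103282)) (.nd (.lf 4240) (.lf 0))) (.nd (.nd (.lf 0) (.lf 0)) (.nd (.lf 5776) (.lf 0)))))) (.nd (.nd (.nd (.nd (.nd (.lf 0) (.lf 19860)) (.nd (.lf 42876) (.lf 0))) (.nd (.nd (.lf 0) (.lf 0)) (.nd (.lf 88930) (.lf 0)))) (.nd (.nd (.nd (.lf 0) (.lf 90666)) (.nd (.lf 21408) (.lf 0))) (.nd (.nd (.lf 0) (.lf 0)) (.nd (.lf 0) (.lf 0))))) (.nd (.nd (.nd (.nd (.lf 39168)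 (.lf 0)) (.nd (.lf 0) (.lf 0))) (.nd (.nd (.lf 0) (.lf 0)) (.nd (.lf 41760) (.lf 0)))) (.nd (.nd (.nd (.lf 0) (.lf 46150)) (.nd (.lf 4438) (.lf 0))) (.nd (.nd (.lf 85018) (.lf 0)) (.nd (.lf 43032) (.lf 0))))))) (.nd (.nd (.nd (.nd (.nd (.nd (.lf 0) (.lf 0)) (.nd (.lf 0) (.lf 0))) (.nd (.nd (.lf 0) (.lf 0)) (.nd (.lf 0) (.lf 0)))) (.nd (.nd (.nd (.lf 0) (.lf 45540)) (.nd (.lf 18936) (.lf 0))) (.nd (.nd (.lf 0) (.lf 0)) (.nd (.lf 90562) (.lf 0))))) (.nd (.nd (.nd (.nd (.lf 31432) (.lf 0)) (.nd (.lf 42348) (.lf 0))) (.nd (.nd (.lf 2032) (.lf 0)) (.nd (.lf 0) (.lf 0)))) (.nd (.nd (.nd (.lf 0) (.lf 88438)) (.nd (.lf 0) (.lf 0))) (.nd (.nd (.lf 0) (.lf 0)) (.nd (.lf 0) (.lf 0)))))) (.nd (.nd (.nd (.nd (.nd (.lf 0) (.lf 102010)) (.nd (.lf 0) (.lf 0))) (.nd (.nd (.lf 0) (.lf 0)) (.nd (.lf 85114) (.lf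 0)))) (.nd (.nd (.nd (.lf 0) (.lf 120010)) (.nd (.lf 36388) (.lf 0))) (.nd (.nd (.lf 0) (.lf 0)) (.nd (.lf 5680) (.lf 0))))) (.nd (.nd (.nd (.nd (.lf 0) (.lf 22212)) (.nd (.lf 0) (.lf 0))) (.nd (.nd (.lf 0) (.lf 0)) (.nd (.lf 80722) (.lf 0)))) (.nd (.nd (.nd (.lf 0) (.lf 21418)) (.nd (.lf 22834) (.lf 0))) (.nd (.nd (.lf 0) (.lf 0)) (.nd (.lf 79042) (.lf 0)))))))

/-- table part -/
def jsT_14 : Tr :=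
  .nd (.nd (.nd (.nd (.nd (.nd (.nd (.lf 0) (.lf 42936)) (.nd (.lf 20650) (.lf 0))) (.nd (.nd (.lf 0) (.lf 0)) (.nd (.lf 0) (.lf 0)))) (.nd (.nd (.nd (.lf 0) (.lf 6982)) (.nd (.lf 0) (.lf 0))) (.nd (.nd (.lf 39276) (.lf 0)) (.nd (.lf 0) (.lf 0))))) (.nd (.nd (.nd (.nd (.lf 448) (.lf 0)) (.nd (.lf 77386) (.lf 0))) (.nd (.nd (.lf 1984) (.lf 0)) (.nd (.lf 101758) (.lf 0)))) (.nd (.nd (.nd (.lf 39480) (.lf 21262)) (.nd (.lf 43092) (.lf 0))) (.nd (.nd (.lf 0) (.lf 0)) (.nd (.lf 107182) (.lf 0)))))) (.nd (.nd (.nd (.nd (.nd (.lf 0) (.lf 0)) (.nd (.lf 0) (.lf 0))) (.nd (.nd (.lf 39408) (.lf 0)) (.nd (.lf 4864) (.lf 0)))) (.nd (.nd (.nd (.lf 1024) (.lf 90954)) (.nd (.lf 39948) (.lf 0))) (.nd (.nd (.lf 0) (.lf 0)) (.nd (.lf 45168) (.lf 0))))) (.nd (.nd (.nd (.nd (.lf 38580) (.lf 6790)) (.nd (.lf 89446)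 (.lf 0))) (.nd (.nd (.lf 0) (.lf 0)) (.nd (.lf 0) (.lf 0)))) (.nd (.nd (.nd (.lf 0) (.lf 7558)) (.nd (.lf 44304) (.lf 0))) (.nd (.nd (.lf 21468) (.lf 0)) (.nd (.lf 0) (.lf 0))))))) (.nd (.nd (.nd (.nd (.nd (.nd (.lf 0) (.lf 0)) (.nd (.lf 83806) (.lf 0))) (.nd (.nd (.lf 0) (.lf 0)) (.nd (.lf 0) (.lf 0)))) (.nd (.nd (.nd (.lf 0) (.lf 7072)) (.nd (.lf 40404) (.lf 0))) (.nd (.nd (.lf 0) (.lf 0)) (.nd (.lf 0) (.lf 0))))) (.nd (.nd (.nd (.nd (.lf 0) (.lf 0)) (.nd (.lf 0) (.lf 0))) (.nd (.nd (.lf 0) (.lf 0)) (.nd (.lf 42792) (.lf 0)))) (.nd (.nd (.nd (.lf 0) (.lf 91242)) (.nd (.lf 17544) (.lf 0))) (.nd (.nd (.lf 0) (.lf 0)) (.nd (.lf 5926) (.lf 0)))))) (.nd (.nd (.nd (.nd (.nd (.lf 31228) (.lf 6496)) (.nd (.lf 0) (.lf 0))) (.nd (.nd (.lf 0) (.lf 0)) (.nd (.lf 44688) (.lf 0)))) (.nd (.nd (.nd (.lf 0)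 (.lf 7264)) (.nd (.lf 40956) (.lf 0))) (.nd (.nd (.lf 0) (.lf 0)) (.nd (.lf 45084) (.lf 0))))) (.nd (.nd (.nd (.nd (.lf 39240) (.lf 6880)) (.nd (.lf 0) (.lf 0))) (.nd (.nd (.lf 0) (.lf 0)) (.nd (.lf 43248) (.lf 0)))) (.nd (.nd (.nd (.lf 0) (.lf 45408)) (.nd (.lf 4582) (.lf 0))) (.nd (.nd (.lf 0) (.lf 0)) (.nd (.lf 101122) (.lf 0)))))))

/-- table part -/
def jsT_15 : Tr :=
  .nd (.nd (.nd (.nd (.nd (.nd (.nd (.lf 0) (.lf 6184)) (.nd (.lf 3112) (.lf 0))) (.nd (.nd (.lf 10396) (.lf 0)) (.nd (.lf 0) (.lf 0)))) (.nd (.nd (.nd (.lf 115402) (.lf 0)) (.nd (.lf 0) (.lf 0))) (.nd (.nd (.lf 40908) (.lf 0)) (.nd (.lf 21372) (.lf 0))))) (.nd (.nd (.nd (.nd (.lf 0) (.lf 18744)) (.nd (.lf 87858) (.lf 0))) (.nd (.nd (.lf 0) (.lf 0)) (.nd (.lf 91018) (.lf 0)))) (.nd (.nd (.nd (.lf 0) (.lf 20554)) (.nd (.lf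 0) (.lf 0))) (.nd (.nd (.lf 0) (.lf 0)) (.nd (.lf 120622) (.lf 0)))))) (.nd (.nd (.nd (.nd (.nd (.lf 0) (.lf 22894)) (.nd (.lf 20722) (.lf 0))) (.nd (.nd (.lf 0) (.lf 0)) (.nd (.lf 0) (.lf 0)))) (.nd (.nd (.nd (.lf 0) (.lf 22900)) (.nd (.lf 104746) (.lf 0))) (.nd (.nd (.lf 0) (.lf 0)) (.nd (.lf 5608) (.lf 0))))) (.nd (.nd (.nd (.nd (.lf 0) (.lf 34774)) (.nd (.lf 3694) (.lf 0))) (.nd (.nd (.lf 20004) (.lf 0)) (.nd (.lf 89374) (.lf 0)))) (.nd (.nd (.nd (.lf 0) (.lf 21120)) (.nd (.lf 102274) (.lf 0))) (.nd (.nd (.lf 0) (.lf 0)) (.nd (.lf 21490) (.lf 0))))))) (.nd (.nd (.nd (.nd (.nd (.nd (.lf 0) (.lf 0)) (.nd (.lf 0) (.lf 0))) (.nd (.nd (.lf 0) (.lf 0)) (.nd (.lf 79618) (.lf 0)))) (.nd (.nd (.nd (.lf 0) (.lf 0)) (.nd (.lf 18996) (.lf 0))) (.nd (.nd (.lf 0) (.lf 0)) (.nd (.lf 21924) (.lf 0)))))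 (.nd (.nd (.nd (.nd (.lf 0) (.lf 6670)) (.nd (.lf 35284) (.lf 0))) (.nd (.nd (.lf 0) (.lf 0)) (.nd (.lf 40488) (.lf 0)))) (.nd (.nd (.nd (.lf 0) (.lf 45612)) (.nd (.lf 41160) (.lf 0))) (.nd (.nd (.lf 0) (.lf 0)) (.nd (.lf 57834) (.lf 0)))))) (.nd (.nd (.nd (.nd (.nd (.lf 0) (.lf 43980)) (.nd (.lf 0) (.lf 0))) (.nd (.nd (.lf 0) (.lf 0)) (.nd (.lf 44652) (.lf 0)))) (.nd (.nd (.nd (.lf 17040) (.lf 45924)) (.nd (.lf 0) (.lf 0))) (.nd (.nd (.lf 86854) (.lf 0)) (.nd (.lf 20412) (.lf 0))))) (.nd (.nd (.nd (.nd (.lf 15480) (.lf 45804)) (.nd (.lf 8334) (.lf 0))) (.nd (.nd (.lf 2248) (.lf 0)) (.nd (.lf 44724) (.lf 0)))) (.nd (.nd (.nd (.lf 0) (.lf 45912)) (.nd (.lf 0) (.lf 0))) (.nd (.nd (.lf 31606) (.lf 0)) (.nd (.lf 60934) (.lf 0)))))))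

/-- table part -/
def jsT_16 : Tr :=
  .nd (.nd (.nd (.nd (.nd (.nd (.nd (.lf 0) (.lf 6232)) (.nd (.lf 105586) (.lf 0))) (.nd (.nd (.lf 0) (.lf 0)) (.nd (.lf 0) (.lf 0)))) (.nd (.nd (.nd (.lf 0) (.lf 45864)) (.nd (.lf 3928) (.lf 0))) (.nd (.nd (.lf 0) (.lf 0)) (.nd (.lf 47218) (.lf 0))))) (.nd (.nd (.nd (.nd (.lf 0) (.lf 0)) (.nd (.lf 102442) (.lf 0))) (.nd (.nd (.lf 0) (.lf 0)) (.nd (.lf 0) (.lf 0)))) (.nd (.nd (.nd (.lf 0) (.lf 22174)) (.nd (.lf 44136) (.lf 0))) (.nd (.nd (.lf 0) (.lf 0)) (.nd (.lf 5854) (.lf 0)))))) (.nd (.nd (.nd (.nd (.nd (.lf 0) (.lf 0)) (.nd (.lf 0) (.lf 0))) (.nd (.nd (.lf 19920) (.lf 0)) (.nd (.lf 0) (.lf 0)))) (.nd (.nd (.nd (.lf 0) (.lf 0)) (.nd (.lf 105370) (.lf 0))) (.nd (.nd (.lf 2584) (.lf 0)) (.nd (.lf 0) (.lf 0))))) (.nd (.nd (.nd (.nd (.lf 0) (.lf 0)) (.nd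 (.lf 3736) (.lf 0))) (.nd (.nd (.lf 0) (.lf 0)) (.nd (.lf 0) (.lf 0)))) (.nd (.nd (.nd (.lf 0) (.lf 7576)) (.nd (.lf 0) (.lf 0))) (.nd (.nd (.lf 39504) (.lf 0)) (.nd (.lf 104086) (.lf 0))))))) (.nd (.nd (.nd (.nd (.nd (.nd (.lf 0) (.lf 41532)) (.nd (.lf 86466) (.lf 0))) (.nd (.nd (.lf 0) (.lf 0)) (.nd (.lf 40620) (.lf 0)))) (.nd (.nd (.nd (.lf 0) (.lf 53602)) (.nd (.lf 0) (.lf 0))) (.nd (.nd (.lf 0) (.lf 0)) (.nd (.lf 90934) (.lf 0))))) (.nd (.nd (.nd (.nd (.lf 0) (.lf 90354)) (.nd (.lf 0) (.lf 0))) (.nd (.nd (.lf 0) (.lf 0)) (.nd (.lf 5182) (.lf 0)))) (.nd (.nd (.nd (.lf 0) (.lf 7480)) (.nd (.lf 0) (.lf 0))) (.nd (.nd (.lf 0) (.lf 0)) (.nd (.lf 41820) (.lf 0)))))) (.nd (.nd (.nd (.nd (.nd (.lf 0) (.lf 0)) (.nd (.lf 3454) (.lf 0))) (.nd (.nd (.lf 0) (.lf 0)) (.nd (.lf 86806) (.lf 0)))) (.nd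 (.nd (.nd (.lf 0) (.lf 119866)) (.nd (.lf 21910) (.lf 0))) (.nd (.nd (.lf 0) (.lf 0)) (.nd (.lf 0) (.lf 0))))) (.nd (.nd (.nd (.nd (.lf 0) (.lf 19426)) (.nd (.lf 0) (.lf 0))) (.nd (.nd (.lf 0) (.lf 0)) (.nd (.lf 44532) (.lf 0)))) (.nd (.nd (.nd (.lf 1528) (.lf 7678)) (.nd (.lf 4600) (.lf 0))) (.nd (.nd (.lf 0) (.lf 0)) (.nd (.lf 0) (.lf 0)))))))

/-- table -/
def jsT : Tr :=
  .nd (.nd (.nd (.nd jsT_1 jsT_2) (.nd jsT_3 jsT_4)) (.nd (.nd jsT_5 jsT_6) (.nd jsT_7 jsT_8))) (.nd (.nd (.nd jsT_9 jsT_10) (.nd jsT_11 jsT_12)) (.nd (.nd jsT_13 jsT_14) (.nd jsT_15 jsT_16)))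

/-- relations -/
def rels : List (List (ℕ × Bool)) :=
  [[(0, true), (0, true), (0, true), (0, true), (0, true)],
   [(1, true), (1, true), (1, true), (1, true), (1, true)],
   [(0, false), (1, false), (0, true), (1, true), (0, true), (1, false), (0, true), (1, true), (0, false), (1, true), (0, true), (1, false), (0, false)],
   [(0, true), (0, true), (1, false), (0, true), (0, true), (1, false)],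
   [(1, true), (0, true), (1, true), (0, false), (1, false), (0, true), (1, false), (1, false), (0, true), (0, true), (1, true), (1, true), (0, true), (1, false), (0, false), (1, true), (0, false)],
   [(0, false), (0, false), (1, true), (0, false), (0, false), (1, true)]]

/-- parameter edges -/
def pe : List ℕ := [40]

/-- elimination -/
def fin : List (List (ℕ × ℕ × ℕ)) :=
  [[(0, 11, 3), (0, 57, 1), (0, 74, 1), (0, 115, 2)],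
   [(0, 11, 3), (0, 57, 1), (0, 115, 3), (3, 0, 3)],
   [(0, 11, 3), (0, 57, 1), (0, 115, 2)],
   [(0, 74, 1), (0, 115, 3)],
   [(0, 11, 2), (0, 57, 3), (0, 115, 3)]]

/-- the parameter left -/
def k0 : ℕ := 0

/-- the multiples -/
def cs : List ℕ := [0, 1, 1, 1, 1]

/-- the certificate -/
def cert : Cert :=
  ⟨4, 2, 640, 2, 5, rels, nxT, pvT, parT, fmT, rkT, jsT, pe, fin⟩

/-- table part -/
def keyT_1 : Tr :=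
  .nd (.nd (.nd (.nd (.nd (.nd (.lf 328) (.lf 8251)) (.nd (.lf 18627) (.lf 0))) (.nd (.nd (.lf 73755) (.lf 0)) (.nd (.lf 16134) (.lf 0)))) (.nd (.nd (.nd (.lf 17348) (.lf 3783)) (.nd (.lf 20811) (.lf 0))) (.nd (.nd (.lf 21777) (.lf 0)) (.nd (.lf 18315) (.lf 0))))) (.nd (.nd (.nd (.nd (.lf 6030) (.lf 9202)) (.nd (.lf 8857) (.lf 0))) (.nd (.nd (.lf 20161) (.lf 0)) (.nd (.lf 11260) (.lf 0)))) (.nd (.nd (.nd (.lf 4753) (.lf 3155)) (.nd (.lf 14180) (.lf 0))) (.nd (.nd (.lf 22427) (.lf 0)) (.nd (.lf 2553) (.lf 0)))))) (.nd (.nd (.nd (.nd (.nd (.lf 17026) (.lf 6659)) (.nd (.lf 11683) (.lf 0))) (.nd (.nd (.lf 17998) (.lf 0)) (.nd (.lf 16393) (.lf 0)))) (.nd (.nd (.nd (.lf 10457) (.lf 20481)) (.nd (.lf 17371) (.lf 0))) (.nd (.nd (.lf 11666) (.lf 0)) (.nd (.lf 7926) (.lf 0))))) (.nd (.nd (.nd (.nd (.lf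 12352) (.lf 10411)) (.nd (.lf 5094) (.lf 0))) (.nd (.nd (.lf 74980) (.lf 0)) (.nd (.lf 11705) (.lf 0)))) (.nd (.nd (.nd (.lf 19912) (.lf 5405)) (.nd (.lf 75945) (.lf 0))) (.nd (.nd (.lf 13881) (.lf 0)) (.nd (.lf 14098) (.lf 0))))))

/-- table part -/
def keyT_2 : Tr :=
  .nd (.nd (.nd (.nd (.nd (.nd (.lf 2570) (.lf 17563)) (.nd (.lf 21755) (.lf 0))) (.nd (.nd (.lf 15787) (.lf 0)) (.nd (.lf 1908) (.lf 0)))) (.nd (.nd (.nd (.lf 14562) (.lf 2559)) (.nd (.lf 12655) (.lf 0))) (.nd (.nd (.lf 17393) (.lf 0)) (.nd (.lf 22705) (.lf 0))))) (.nd (.nd (.nd (.nd (.lf 11058) (.lf 22737)) (.nd (.lf 19251) (.lf 0))) (.nd (.nd (.lf 8113) (.lf 0)) (.nd (.lf 17332) (.lf 0)))) (.nd (.nd (.nd (.lf 17880) (.lf 4473)) (.nd (.lf 74041) (.lf 0))) (.nd (.nd (.lf 12027) (.lf 0)) (.nd (.lf 20209) (.lf 0)))))) (.nd (.nd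 (.nd (.nd (.nd (.lf 10739) (.lf 21969)) (.nd (.lf 8426) (.lf 0))) (.nd (.nd (.lf 3491) (.lf 0)) (.nd (.lf 11578) (.lf 0)))) (.nd (.nd (.nd (.lf 19850) (.lf 75961)) (.nd (.lf 11363) (.lf 0))) (.nd (.nd (.lf 10723) (.lf 0)) (.nd (.lf 5707) (.lf 0))))) (.nd (.nd (.nd (.nd (.lf 74389) (.lf 5737)) (.nd (.lf 6650) (.lf 0))) (.nd (.nd (.lf 2564) (.lf 0)) (.nd (.lf 4651) (.lf 0)))) (.nd (.nd (.nd (.lf 20532) (.lf 14545)) (.nd (.lf 3811) (.lf 0))) (.nd (.nd (.lf 10776) (.lf 0)) (.nd (.lf 1595) (.lf 0))))))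

/-- table part -/
def keyT_3 : Tr :=
  .nd (.nd (.nd (.nd (.nd (.nd (.lf 21168) (.lf 75327)) (.nd (.lf 1638) (.lf 0))) (.nd (.nd (.lf 3518) (.lf 0)) (.nd (.lf 9767) (.lf 0)))) (.nd (.nd (.nd (.lf 12317) (.lf 16090)) (.nd (.lf 14514) (.lf 0))) (.nd (.nd (.lf 9803) (.lf 0)) (.nd (.lf 13780) (.lf 0))))) (.nd (.nd (.nd (.nd (.lf 20521) (.lf 21144)) (.nd (.lf 75969) (.lf 0))) (.nd (.nd (.lf 19225) (.lf 0)) (.nd (.lf 5078) (.lf 0)))) (.nd (.nd (.nd (.lf 10766) (.lf 15771)) (.nd (.lf 5404) (.lf 0))) (.nd (.nd (.lf 4465) (.lf 0)) (.nd (.lf 5696) (.lf 0)))))) (.nd (.nd (.nd (.nd (.nd (.lf 10119) (.lf 4113)) (.nd (.lf 8230) (.lf 0))) (.nd (.nd (.lf 7003) (.lf 0)) (.nd (.lf 11889) (.lf 0)))) (.nd (.nd (.nd (.lf 14201) (.lf 21028)) (.nd (.lf 18928) (.lf 0))) (.nd (.nd (.lf 9514) (.lf 0)) (.nd (.lf 7171)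 (.lf 0))))) (.nd (.nd (.nd (.nd (.lf 3705) (.lf 19578)) (.nd (.lf 74089) (.lf 0))) (.nd (.nd (.lf 12211) (.lf 0)) (.nd (.lf 22384) (.lf 0)))) (.nd (.nd (.nd (.lf 16382) (.lf 4122)) (.nd (.lf 7795) (.lf 0))) (.nd (.nd (.lf 9473) (.lf 0)) (.nd (.lf 13151) (.lf 0))))))

/-- table part -/
def keyT_4 : Tr :=
  .nd (.nd (.nd (.nd (.nd (.nd (.lf 75619) (.lf 8889)) (.nd (.lf 12622) (.lf 0))) (.nd (.nd (.lf 14865) (.lf 0)) (.nd (.lf 21481) (.lf 0)))) (.nd (.nd (.nd (.lf 1930) (.lf 15986)) (.nd (.lf 75300) (.lf 0))) (.nd (.nd (.lf 4731) (.lf 0)) (.nd (.lf 74707) (.lf 0))))) (.nd (.nd (.nd (.nd (.lf 19283) (.lf 1287)) (.nd (.lf 17034) (.lf 0))) (.nd (.nd (.lf 7889) (.lf 0)) (.nd (.lf 75001) (.lf 0)))) (.nd (.nd (.nd (.lf 13558) (.lf 20172)) (.nd (.lf 74097) (.lf 0))) (.nd (.nd (.lf 3488) (.lf 0)) (.nd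 (.lf 6339) (.lf 0)))))) (.nd (.nd (.nd (.nd (.nd (.lf 2544) (.lf 4781)) (.nd (.lf 18020) (.lf 0))) (.nd (.nd (.lf 75953) (.lf 0)) (.nd (.lf 7293) (.lf 0)))) (.nd (.nd (.nd (.lf 6681) (.lf 10634)) (.nd (.lf 21345) (.lf 0))) (.nd (.nd (.lf 17083) (.lf 0)) (.nd (.lf 16737) (.lf 0))))) (.nd (.nd (.nd (.nd (.lf 75659) (.lf 18972)) (.nd (.lf 8263) (.lf 0))) (.nd (.nd (.lf 16400) (.lf 0)) (.nd (.lf 6987) (.lf 0)))) (.nd (.nd (.nd (.lf 17384) (.lf 22397)) (.nd (.lf 19258) (.lf 0))) (.nd (.nd (.lf 1326) (.lf 0)) (.nd (.lf 7606) (.lf 0))))))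

/-- table part -/
def keyT_5 : Tr :=
  .nd (.nd (.nd (.nd (.nd (.nd (.lf 13868) (.lf 21786)) (.nd (.lf 17993) (.lf 0))) (.nd (.nd (.lf 10085) (.lf 0)) (.nd (.lf 15360) (.lf 0)))) (.nd (.nd (.nd (.lf 6329) (.lf 16929)) (.nd (.lf 15437) (.lf 0))) (.nd (.nd (.lf 73779) (.lf 0)) (.nd (.lf 20198) (.lf 0))))) (.nd (.nd (.nd (.nd (.lf 20824) (.lf 19601)) (.nd (.lf 75345) (.lf 0))) (.nd (.nd (.lf 21475) (.lf 0)) (.nd (.lf 9784) (.lf 0)))) (.nd (.nd (.nd (.lf 7249) (.lf 12293)) (.nd (.lf 14409) (.lf 0))) (.nd (.nd (.lf 16077) (.lf 0)) (.nd (.lf 14227) (.lf 0)))))) (.nd (.nd (.nd (.nd (.nd (.lf 8201) (.lf 7913)) (.nd (.lf 75611) (.lf 0))) (.nd (.nd (.lf 21150) (.lf 0)) (.nd (.lf 5379) (.lf 0)))) (.nd (.nd (.nd (.lf 19139) (.lf 16706)) (.nd (.lf 7588) (.lf 0))) (.nd (.nd (.lf 13565) (.lf 0)) (.nd (.lf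 13262) (.lf 0))))) (.nd (.nd (.nd (.nd (.lf 22604) (.lf 12945)) (.nd (.lf 12041) (.lf 0))) (.nd (.nd (.lf 7568) (.lf 0)) (.nd (.lf 10094) (.lf 0)))) (.nd (.nd (.nd (.lf 993) (.lf 11077)) (.nd (.lf 17059) (.lf 0))) (.nd (.nd (.lf 9453) (.lf 0)) (.nd (.lf 4329) (.lf 0))))))

/-- table part -/
def keyT_6 : Tr :=
  .nd (.nd (.nd (.nd (.nd (.nd (.lf 75929) (.lf 15452)) (.nd (.lf 14505) (.lf 0))) (.nd (.nd (.lf 6316) (.lf 0)) (.nd (.lf 17365) (.lf 0)))) (.nd (.nd (.nd (.lf 1320) (.lf 74049)) (.nd (.lf 75036) (.lf 0))) (.nd (.nd (.lf 6539) (.lf 0)) (.nd (.lf 19876) (.lf 0))))) (.nd (.nd (.nd (.nd (.lf 21447) (.lf 16451)) (.nd (.lf 10430) (.lf 0))) (.nd (.nd (.lf 3179) (.lf 0)) (.nd (.lf 6038) (.lf 0)))) (.nd (.nd (.nd (.lf 4964) (.lf 3502)) (.nd (.lf 3512) (.lf 0))) (.nd (.nd (.lf 5676) (.lf 0)) (.nd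 (.lf 6343) (.lf 0)))))) (.nd (.nd (.nd (.nd (.nd (.lf 4442) (.lf 17702)) (.nd (.lf 8191) (.lf 0))) (.nd (.nd (.lf 19241) (.lf 0)) (.nd (.lf 22726) (.lf 0)))) (.nd (.nd (.nd (.lf 13911) (.lf 10102)) (.nd (.lf 3801) (.lf 0))) (.nd (.nd (.lf 682) (.lf 0)) (.nd (.lf 2266) (.lf 0))))) (.nd (.nd (.nd (.nd (.lf 74052) (.lf 8880)) (.nd (.lf 8554) (.lf 0))) (.nd (.nd (.lf 351) (.lf 0)) (.nd (.lf 6642) (.lf 0)))) (.nd (.nd (.nd (.lf 15170) (.lf 15186)) (.nd (.lf 2579) (.lf 0))) (.nd (.nd (.lf 661) (.lf 0)) (.nd (.lf 11094) (.lf 0))))))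

/-- table part -/
def keyT_7 : Tr :=
  .nd (.nd (.nd (.nd (.nd (.nd (.lf 6977) (.lf 2534)) (.nd (.lf 998) (.lf 0))) (.nd (.nd (.lf 19266) (.lf 0)) (.nd (.lf 18904) (.lf 0)))) (.nd (.nd (.nd (.lf 18281) (.lf 8844)) (.nd (.lf 74366) (.lf 0))) (.nd (.nd (.lf 17687) (.lf 0)) (.nd (.lf 74390) (.lf 0))))) (.nd (.nd (.nd (.nd (.lf 14194) (.lf 73739)) (.nd (.lf 23017) (.lf 0))) (.nd (.nd (.lf 3388) (.lf 0)) (.nd (.lf 20843) (.lf 0)))) (.nd (.nd (.nd (.lf 17658) (.lf 362)) (.nd (.lf 385) (.lf 0))) (.nd (.nd (.lf 6665) (.lf 0)) (.nd (.lf 13889) (.lf 0)))))) (.nd (.nd (.nd (.nd (.nd (.lf 4016) (.lf 13551)) (.nd (.lf 1905) (.lf 0))) (.nd (.nd (.lf 10320) (.lf 0)) (.nd (.lf 6970) (.lf 0)))) (.nd (.nd (.nd (.lf 22716) (.lf 1316)) (.nd (.lf 20212) (.lf 0))) (.nd (.nd (.lf 21155) (.lf 0)) (.nd (.lf 11367)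 (.lf 0))))) (.nd (.nd (.nd (.nd (.lf 379) (.lf 75014)) (.nd (.lf 1648) (.lf 0))) (.nd (.nd (.lf 5359) (.lf 0)) (.nd (.lf 23059) (.lf 0)))) (.nd (.nd (.nd (.lf 7481) (.lf 8509)) (.nd (.lf 3825) (.lf 0))) (.nd (.nd (.lf 4129) (.lf 0)) (.nd (.lf 18622) (.lf 0))))))

/-- table part -/
def keyT_8 : Tr :=
  .nd (.nd (.nd (.nd (.nd (.nd (.lf 18953) (.lf 11393)) (.nd (.lf 17016) (.lf 0))) (.nd (.nd (.lf 16126) (.lf 0)) (.nd (.lf 13602) (.lf 0)))) (.nd (.nd (.nd (.lf 6056) (.lf 73771)) (.nd (.lf 20509) (.lf 0))) (.nd (.nd (.lf 6937) (.lf 0)) (.nd (.lf 22051) (.lf 0))))) (.nd (.nd (.nd (.nd (.lf 14835) (.lf 5060)) (.nd (.lf 21457) (.lf 0))) (.nd (.nd (.lf 1297) (.lf 0)) (.nd (.lf 5417) (.lf 0)))) (.nd (.nd (.nd (.lf 8835) (.lf 16714)) (.nd (.lf 10461) (.lf 0))) (.nd (.nd (.lf 11352) (.lf 0)) (.nd (.lf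 970) (.lf 0)))))) (.nd (.nd (.nd (.nd (.nd (.lf 4451) (.lf 679)) (.nd (.lf 5719) (.lf 0))) (.nd (.nd (.lf 1277) (.lf 0)) (.nd (.lf 10712) (.lf 0)))) (.nd (.nd (.nd (.lf 11995) (.lf 692)) (.nd (.lf 12922) (.lf 0))) (.nd (.nd (.lf 13876) (.lf 0)) (.nd (.lf 22073) (.lf 0))))) (.nd (.nd (.nd (.nd (.lf 2247) (.lf 19222)) (.nd (.lf 3211) (.lf 0))) (.nd (.nd (.lf 23036) (.lf 0)) (.nd (.lf 15505) (.lf 0)))) (.nd (.nd (.nd (.lf 3207) (.lf 16070)) (.nd (.lf 16106) (.lf 0))) (.nd (.nd (.lf 10138) (.lf 0)) (.nd (.lf 11028) (.lf 0))))))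

/-- table part -/
def keyT_9 : Tr :=
  .nd (.nd (.nd (.nd (.nd (.nd (.lf 16731) (.lf 11714)) (.nd (.lf 20713) (.lf 0))) (.nd (.nd (.lf 74060) (.lf 0)) (.nd (.lf 3844) (.lf 0)))) (.nd (.nd (.nd (.lf 1607) (.lf 14816)) (.nd (.lf 17674) (.lf 0))) (.nd (.nd (.lf 14187) (.lf 0)) (.nd (.lf 19449) (.lf 0))))) (.nd (.nd (.nd (.nd (.lf 6849) (.lf 12610)) (.nd (.lf 12606) (.lf 0))) (.nd (.nd (.lf 9813) (.lf 0)) (.nd (.lf 14494) (.lf 0)))) (.nd (.nd (.nd (.lf 12929) (.lf 13255)) (.nd (.lf 73763) (.lf 0))) (.nd (.nd (.lf 1016) (.lf 0)) (.nd (.lf 15767) (.lf 0)))))) (.nd (.nd (.nd (.nd (.nd (.lf 14876) (.lf 975)) (.nd (.lf 13618) (.lf 0))) (.nd (.nd (.lf 4147) (.lf 0)) (.nd (.lf 14242) (.lf 0)))) (.nd (.nd (.nd (.lf 12034) (.lf 11673)) (.nd (.lf 14731) (.lf 0))) (.nd (.nd (.lf 1958) (.lf 0)) (.nd (.lf 7917)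 (.lf 0))))) (.nd (.nd (.nd (.nd (.lf 5084) (.lf 17965)) (.nd (.lf 21763) (.lf 0))) (.nd (.nd (.lf 7281) (.lf 0)) (.nd (.lf 21743) (.lf 0)))) (.nd (.nd (.nd (.lf 18913) (.lf 14233)) (.nd (.lf 18935) (.lf 0))) (.nd (.nd (.lf 75305) (.lf 0)) (.nd (.lf 9491) (.lf 0))))))

/-- table part -/
def keyT_10 : Tr :=
  .nd (.nd (.nd (.nd (.nd (.nd (.lf 75342) (.lf 17710)) (.nd (.lf 3169) (.lf 0))) (.nd (.nd (.lf 20190) (.lf 0)) (.nd (.lf 2233) (.lf 0)))) (.nd (.nd (.nd (.lf 12663) (.lf 19563)) (.nd (.lf 13240) (.lf 0))) (.nd (.nd (.lf 21464) (.lf 0)) (.nd (.lf 4435) (.lf 0))))) (.nd (.nd (.nd (.nd (.lf 1613) (.lf 74076)) (.nd (.lf 75035) (.lf 0))) (.nd (.nd (.lf 7908) (.lf 0)) (.nd (.lf 3472) (.lf 0)))) (.nd (.nd (.nd (.lf 15462) (.lf 22740)) (.nd (.lf 10151) (.lf 0))) (.nd (.nd (.lf 23049) (.lf 0)) (.nd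 (.lf 17655) (.lf 0)))))) (.nd (.nd (.nd (.nd (.nd (.lf 22915) (.lf 20395)) (.nd (.lf 74694) (.lf 0))) (.nd (.nd (.lf 18507) (.lf 0)) (.nd (.lf 20502) (.lf 0)))) (.nd (.nd (.nd (.lf 16698) (.lf 9691)) (.nd (.lf 13469) (.lf 0))) (.nd (.nd (.lf 697) (.lf 0)) (.nd (.lf 12840) (.lf 0))))) (.nd (.nd (.nd (.nd (.lf 9155) (.lf 5683)) (.nd (.lf 6305) (.lf 0))) (.nd (.nd (.lf 18194) (.lf 0)) (.nd (.lf 6225) (.lf 0)))) (.nd (.nd (.nd (.lf 17956) (.lf 7315)) (.nd (.lf 13928) (.lf 0))) (.nd (.nd (.lf 646) (.lf 0)) (.nd (.lf 18614) (.lf 0))))))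

/-- table part -/
def keyT_11 : Tr :=
  .nd (.nd (.nd (.nd (.nd (.nd (.lf 7614) (.lf 372)) (.nd (.lf 16755) (.lf 0))) (.nd (.nd (.lf 18273) (.lf 0)) (.nd (.lf 21107) (.lf 0)))) (.nd (.nd (.nd (.lf 20233) (.lf 20794)) (.nd (.lf 75937) (.lf 0))) (.nd (.nd (.lf 1944) (.lf 0)) (.nd (.lf 10003) (.lf 0))))) (.nd (.nd (.nd (.nd (.lf 19771) (.lf 18947)) (.nd (.lf 9497) (.lf 0))) (.nd (.nd (.lf 18651) (.lf 0)) (.nd (.lf 11085) (.lf 0)))) (.nd (.nd (.nd (.lf 19547) (.lf 12339)) (.nd (.lf 12300) (.lf 0))) (.nd (.nd (.lf 5986) (.lf 0)) (.nd (.lf 334) (.lf 0)))))) (.nd (.nd (.nd (.nd (.nd (.lf 22412) (.lf 74363)) (.nd (.lf 74728) (.lf 0))) (.nd (.nd (.lf 74068) (.lf 0)) (.nd (.lf 1919) (.lf 0)))) (.nd (.nd (.nd (.lf 73747) (.lf 7878)) (.nd (.lf 22368) (.lf 0))) (.nd (.nd (.lf 12973) (.lf 0)) (.nd (.lf 7275)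 (.lf 0))))) (.nd (.nd (.nd (.nd (.lf 12347) (.lf 13283)) (.nd (.lf 11042) (.lf 0))) (.nd (.nd (.lf 22090) (.lf 0)) (.nd (.lf 17073) (.lf 0)))) (.nd (.nd (.nd (.lf 22417) (.lf 75640)) (.nd (.lf 6962) (.lf 0))) (.nd (.nd (.lf 21134) (.lf 0)) (.nd (.lf 23038) (.lf 0))))))

/-- table part -/
def keyT_12 : Tr :=
  .nd (.nd (.nd (.nd (.nd (.nd (.lf 8526) (.lf 7628)) (.nd (.lf 1283) (.lf 0))) (.nd (.nd (.lf 74403) (.lf 0)) (.nd (.lf 6352) (.lf 0)))) (.nd (.nd (.nd (.lf 17644) (.lf 13573)) (.nd (.lf 9835) (.lf 0))) (.nd (.nd (.lf 22106) (.lf 0)) (.nd (.lf 11659) (.lf 0))))) (.nd (.nd (.nd (.nd (.lf 18600) (.lf 17049)) (.nd (.lf 14827) (.lf 0))) (.nd (.nd (.lf 12626) (.lf 0)) (.nd (.lf 22115) (.lf 0)))) (.nd (.nd (.nd (.lf 74408) (.lf 21770)) (.nd (.lf 75025) (.lf 0))) (.nd (.nd (.lf 21444) (.lf 0))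 (.nd (.lf 1003) (.lf 0)))))) (.nd (.nd (.nd (.nd (.nd (.lf 17977) (.lf 22099)) (.nd (.lf 15182) (.lf 0))) (.nd (.nd (.lf 12670) (.lf 0)) (.nd (.lf 9169) (.lf 0)))) (.nd (.nd (.nd (.lf 10420) (.lf 12001)) (.nd (.lf 7601) (.lf 0))) (.nd (.nd (.lf 16761) (.lf 0)) (.nd (.lf 4747) (.lf 0))))) (.nd (.nd (.nd (.nd (.lf 12966) (.lf 19859)) (.nd (.lf 21793) (.lf 0))) (.nd (.nd (.lf 5385) (.lf 0)) (.nd (.lf 2277) (.lf 0)))) (.nd (.nd (.nd (.lf 14555) (.lf 18339)) (.nd (.lf 18825) (.lf 0))) (.nd (.nd (.lf 7256) (.lf 0)) (.nd (.lf 9057) (.lf 0))))))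

/-- table part -/
def keyT_13 : Tr :=
  .nd (.nd (.nd (.nd (.nd (.nd (.lf 4155) (.lf 3192)) (.nd (.lf 15123) (.lf 0))) (.nd (.nd (.lf 23000) (.lf 0)) (.nd (.lf 75319) (.lf 0)))) (.nd (.nd (.nd (.lf 8740) (.lf 6945)) (.nd (.lf 22291) (.lf 0))) (.nd (.nd (.lf 75318) (.lf 0)) (.nd (.lf 15798) (.lf 0))))) (.nd (.nd (.nd (.nd (.lf 5042) (.lf 15489)) (.nd (.lf 9828) (.lf 0))) (.nd (.nd (.lf 4771) (.lf 0)) (.nd (.lf 11046) (.lf 0)))) (.nd (.nd (.nd (.lf 9141) (.lf 1620)) (.nd (.lf 5390) (.lf 0))) (.nd (.nd (.lf 8827) (.lf 0)) (.nd (.lf 8235) (.lf 0)))))) (.nd (.nd (.nd (.nd (.nd (.lf 11723) (.lf 21123)) (.nd (.lf 74683) (.lf 0))) (.nd (.nd (.lf 7577) (.lf 0)) (.nd (.lf 15671) (.lf 0)))) (.nd (.nd (.nd (.lf 12939) (.lf 14806)) (.nd (.lf 20081) (.lf 0))) (.nd (.nd (.lf 12305) (.lf 0)) (.nd (.lf 75006)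 (.lf 0))))) (.nd (.nd (.nd (.nd (.lf 17251) (.lf 9777)) (.nd (.lf 957) (.lf 0))) (.nd (.nd (.lf 10441) (.lf 0)) (.nd (.lf 11412) (.lf 0)))) (.nd (.nd (.nd (.lf 16300) (.lf 6617)) (.nd (.lf 15042) (.lf 0))) (.nd (.nd (.lf 75648) (.lf 0)) (.nd (.lf 651) (.lf 0))))))

/-- table part -/
def keyT_14 : Tr :=
  .nd (.nd (.nd (.nd (.nd (.nd (.lf 9522) (.lf 4784)) (.nd (.lf 75985) (.lf 0))) (.nd (.nd (.lf 8570) (.lf 0)) (.nd (.lf 3523) (.lf 0)))) (.nd (.nd (.nd (.lf 1306) (.lf 1955)) (.nd (.lf 75656) (.lf 0))) (.nd (.nd (.lf 6016) (.lf 0)) (.nd (.lf 5275) (.lf 0))))) (.nd (.nd (.nd (.nd (.lf 4764) (.lf 8573)) (.nd (.lf 11975) (.lf 0))) (.nd (.nd (.lf 7947) (.lf 0)) (.nd (.lf 74995) (.lf 0)))) (.nd (.nd (.nd (.lf 22081) (.lf 21426)) (.nd (.lf 15134) (.lf 0))) (.nd (.nd (.lf 5726) (.lf 0)) (.nd (.lf 8518)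 (.lf 0)))))) (.nd (.nd (.nd (.nd (.nd (.lf 15817) (.lf 15499)) (.nd (.lf 20491) (.lf 0))) (.nd (.nd (.lf 14523) (.lf 0)) (.nd (.lf 20545) (.lf 0)))) (.nd (.nd (.nd (.lf 5995) (.lf 74713)) (.nd (.lf 4458) (.lf 0))) (.nd (.nd (.lf 16425) (.lf 0)) (.nd (.lf 1626) (.lf 0))))) (.nd (.nd (.nd (.nd (.lf 13606) (.lf 8541)) (.nd (.lf 12522) (.lf 0))) (.nd (.nd (.lf 15758) (.lf 0)) (.nd (.lf 75977) (.lf 0)))) (.nd (.nd (.nd (.lf 15143) (.lf 980)) (.nd (.lf 6369) (.lf 0))) (.nd (.nd (.lf 16415) (.lf 0)) (.nd (.lf 1585) (.lf 0))))))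

/-- table part -/
def keyT_15 : Tr :=
  .nd (.nd (.nd (.nd (.nd (.nd (.lf 11341) (.lf 18027)) (.nd (.lf 16109) (.lf 0))) (.nd (.nd (.lf 341) (.lf 0)) (.nd (.lf 19899) (.lf 0)))) (.nd (.nd (.nd (.lf 15808) (.lf 16617)) (.nd (.lf 9145) (.lf 0))) (.nd (.nd (.lf 2216) (.lf 0)) (.nd (.lf 8863) (.lf 0))))) (.nd (.nd (.nd (.nd (.lf 73731) (.lf 4418)) (.nd (.lf 18302) (.lf 0))) (.nd (.nd (.lf 20823) (.lf 0)) (.nd (.lf 2246) (.lf 0)))) (.nd (.nd (.nd (.lf 15453) (.lf 12988)) (.nd (.lf 9179) (.lf 0))) (.nd (.nd (.lf 10403) (.lf 0)) (.nd (.lf 19586) (.lf 0)))))) (.nd (.nd (.nd (.nd (.nd (.lf 9369) (.lf 18311)) (.nd (.lf 74702) (.lf 0))) (.nd (.nd (.lf 23232) (.lf 0)) (.nd (.lf 10122) (.lf 0)))) (.nd (.nd (.nd (.lf 664) (.lf 5592)) (.nd (.lf 75356) (.lf 0))) (.nd (.nd (.lf 4138) (.lf 0)) (.nd (.lf 11986)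 (.lf 0))))) (.nd (.nd (.nd (.nd (.lf 14861) (.lf 8208)) (.nd (.lf 74673) (.lf 0))) (.nd (.nd (.lf 74352) (.lf 0)) (.nd (.lf 18320) (.lf 0)))) (.nd (.nd (.nd (.lf 18593) (.lf 23021)) (.nd (.lf 10729) (.lf 0))) (.nd (.nd (.lf 15151) (.lf 0)) (.nd (.lf 75667) (.lf 0))))))

/-- table part -/
def keyT_16 : Tr :=
  .nd (.nd (.nd (.nd (.nd (.nd (.lf 19889) (.lf 3816)) (.nd (.lf 1933) (.lf 0))) (.nd (.nd (.lf 13289) (.lf 0)) (.nd (.lf 4096) (.lf 0)))) (.nd (.nd (.nd (.lf 6627) (.lf 9194)) (.nd (.lf 19532) (.lf 0))) (.nd (.nd (.lf 7300) (.lf 0)) (.nd (.lf 75632) (.lf 0))))) (.nd (.nd (.nd (.nd (.lf 74381) (.lf 3190)) (.nd (.lf 13923) (.lf 0))) (.nd (.nd (.lf 13299) (.lf 0)) (.nd (.lf 18640) (.lf 0)))) (.nd (.nd (.nd (.lf 22710) (.lf 5073)) (.nd (.lf 10949) (.lf 0))) (.nd (.nd (.lf 2589) (.lf 0)) (.nd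 (.lf 19885) (.lf 0)))))) (.nd (.nd (.nd (.nd (.nd (.lf 22687) (.lf 73723)) (.nd (.lf 5907) (.lf 0))) (.nd (.nd (.lf 19569) (.lf 0)) (.nd (.lf 20849) (.lf 0)))) (.nd (.nd (.nd (.lf 21656) (.lf 16444)) (.nd (.lf 2260) (.lf 0))) (.nd (.nd (.lf 5105) (.lf 0)) (.nd (.lf 9467) (.lf 0))))) (.nd (.nd (.nd (.nd (.lf 2227) (.lf 22403)) (.nd (.lf 17339) (.lf 0))) (.nd (.nd (.lf 3831) (.lf 0)) (.nd (.lf 74672) (.lf 0)))) (.nd (.nd (.nd (.lf 20838) (.lf 10775)) (.nd (.lf 13237) (.lf 0))) (.nd (.nd (.lf 11401) (.lf 0)) (.nd (.lf 6019) (.lf 0))))))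

/-- table -/
def keyT : Tr :=
  .nd (.nd (.nd (.nd keyT_1 keyT_2) (.nd keyT_3 keyT_4)) (.nd (.nd keyT_5 keyT_6) (.nd keyT_7 keyT_8))) (.nd (.nd (.nd keyT_9 keyT_10) (.nd keyT_11 keyT_12)) (.nd (.nd keyT_13 keyT_14) (.nd keyT_15 keyT_16)))

/-- table part -/
def posT_1 : Tr :=
  .nd (.nd (.nd (.nd (.nd (.nd (.lf 0) (.lf 197)) (.nd (.lf 460) (.lf 0))) (.nd (.nd (.lf 580) (.lf 0)) (.nd (.lf 398) (.lf 0)))) (.nd (.nd (.nd (.lf 426) (.lf 80)) (.nd (.lf 513) (.lf 0))) (.nd (.nd (.lf 540) (.lf 0)) (.nd (.lf 452) (.lf 0))))) (.nd (.nd (.nd (.nd (.lf 140) (.lf 222)) (.nd (.lf 211) (.lf 0))) (.nd (.nd (.lf 496) (.lf 0)) (.nd (.lf 271) (.lf 0)))) (.nd (.nd (.nd (.lf 106) (.lf 64)) (.nd (.lf 344) (.lf 0))) (.nd (.nd (.lf 558) (.lf 0)) (.nd (.lf 58) (.lf 0)))))) (.nd (.nd (.nd (.nd (.nd (.lf 417) (.lf 156))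 (.nd (.lf 283) (.lf 0))) (.nd (.nd (.lf 444) (.lf 0)) (.nd (.lf 401) (.lf 0)))) (.nd (.nd (.nd (.lf 253) (.lf 504)) (.nd (.lf 428) (.lf 0))) (.nd (.nd (.lf 281) (.lf 0)) (.nd (.lf 189) (.lf 0))))) (.nd (.nd (.nd (.nd (.lf 302) (.lf 249)) (.nd (.lf 117) (.lf 0))) (.nd (.nd (.lf 608) (.lf 0)) (.nd (.lf 284) (.lf 0)))) (.nd (.nd (.nd (.lf 494) (.lf 125)) (.nd (.lf 634) (.lf 0))) (.nd (.nd (.lf 338) (.lf 0)) (.nd (.lf 343) (.lf 0))))))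

/-- table part -/
def posT_2 : Tr :=
  .nd (.nd (.nd (.nd (.nd (.nd (.lf 61) (.lf 431)) (.nd (.lf 537) (.lf 0))) (.nd (.nd (.lf 387) (.lf 0)) (.nd (.lf 41) (.lf 0)))) (.nd (.nd (.nd (.lf 358) (.lf 59)) (.nd (.lf 308) (.lf 0))) (.nd (.nd (.lf 430) (.lf 0)) (.nd (.lf 561) (.lf 0))))) (.nd (.nd (.nd (.nd (.lf 267) (.lf 565)) (.nd (.lf 475) (.lf 0))) (.nd (.nd (.lf 191) (.lf 0)) (.nd (.lf 424) (.lf 0)))) (.nd (.nd (.nd (.lf 439) (.lf 102)) (.nd (.lf 584) (.lf 0))) (.nd (.nd (.lf 292) (.lf 0)) (.nd (.lf 500) (.lf 0)))))) (.nd (.nd (.nd (.nd (.nd (.lf 259) (.lf 543)) (.nd (.lf 199) (.lf 0))) (.nd (.nd (.lf 74) (.lf 0)) (.nd (.lf 279) (.lf 0)))) (.nd (.nd (.nd (.lf 488) (.lf 636)) (.nd (.lf 274) (.lf 0))) (.nd (.nd (.lf 257) (.lf 0)) (.nd (.lf 131) (.lf 0))))) (.nd (.nd (.nd (.nd (.lf 596) (.lf 134))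 (.nd (.lf 155) (.lf 0))) (.nd (.nd (.lf 60) (.lf 0)) (.nd (.lf 103) (.lf 0)))) (.nd (.nd (.nd (.lf 509) (.lf 356)) (.nd (.lf 82) (.lf 0))) (.nd (.nd (.lf 262) (.lf 0)) (.nd (.lf 33) (.lf 0))))))

/-- table part -/
def posT_3 : Tr :=
  .nd (.nd (.nd (.nd (.nd (.nd (.lf 526) (.lf 620)) (.nd (.lf 38) (.lf 0))) (.nd (.nd (.lf 77) (.lf 0)) (.nd (.lf 232) (.lf 0)))) (.nd (.nd (.nd (.lf 299) (.lf 394)) (.nd (.lf 354) (.lf 0))) (.nd (.nd (.lf 235) (.lf 0)) (.nd (.lf 335) (.lf 0))))) (.nd (.nd (.nd (.nd (.lf 508) (.lf 523)) (.nd (.lf 637) (.lf 0))) (.nd (.nd (.lf 473) (.lf 0)) (.nd (.lf 115) (.lf 0)))) (.nd (.nd (.nd (.lf 260) (.lf 386)) (.nd (.lf 124) (.lf 0))) (.nd (.nd (.lf 101) (.lf 0)) (.nd (.lf 130) (.lf 0)))))) (.nd (.nd (.nd (.nd (.nd (.lf 243) (.lf 89)) (.nd (.lf 195) (.lf 0))) (.nd (.nd (.lf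 166) (.lf 0)) (.nd (.lf 287) (.lf 0)))) (.nd (.nd (.nd (.lf 347) (.lf 519)) (.nd (.lf 466) (.lf 0))) (.nd (.nd (.lf 229) (.lf 0)) (.nd (.lf 167) (.lf 0))))) (.nd (.nd (.nd (.nd (.lf 79) (.lf 484)) (.nd (.lf 590) (.lf 0))) (.nd (.nd (.lf 295) (.lf 0)) (.nd (.lf 553) (.lf 0)))) (.nd (.nd (.nd (.lf 400) (.lf 90)) (.nd (.lf 183) (.lf 0))) (.nd (.nd (.lf 226) (.lf 0)) (.nd (.lf 319) (.lf 0))))))

/-- table part -/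
def posT_4 : Tr :=
  .nd (.nd (.nd (.nd (.nd (.nd (.lf 625) (.lf 214)) (.nd (.lf 306) (.lf 0))) (.nd (.nd (.lf 365) (.lf 0)) (.nd (.lf 534) (.lf 0)))) (.nd (.nd (.nd (.lf 43) (.lf 391)) (.nd (.lf 616) (.lf 0))) (.nd (.nd (.lf 104) (.lf 0)) (.nd (.lf 605) (.lf 0))))) (.nd (.nd (.nd (.nd (.lf 478) (.lf 26)) (.nd (.lf 418) (.lf 0))) (.nd (.nd (.lf 185) (.lf 0)) (.nd (.lf 610) (.lf 0)))) (.nd (.nd (.nd (.lf 329) (.lf 497)) (.nd (.lf 591) (.lf 0))) (.nd (.nd (.lf 73) (.lf 0)) (.nd (.lf 147) (.lf 0)))))) (.nd (.nd (.nd (.nd (.nd (.lf 57) (.lf 109)) (.nd (.lf 445) (.lf 0))) (.nd (.nd (.lf 635) (.lf 0)) (.nd (.lf 172) (.lf 0)))) (.nd (.nd (.nd (.lf 158) (.lf 255)) (.nd (.lf 527) (.lf 0))) (.nd (.nd (.lf 422) (.lf 0)) (.nd (.lf 412) (.lf 0))))) (.nd (.nd (.nd (.nd (.lf 630) (.lf 470)) (.nd (.lf 198)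 (.lf 0))) (.nd (.nd (.lf 402) (.lf 0)) (.nd (.lf 165) (.lf 0)))) (.nd (.nd (.nd (.lf 429) (.lf 554)) (.nd (.lf 476) (.lf 0))) (.nd (.nd (.lf 31) (.lf 0)) (.nd (.lf 180) (.lf 0))))))

/-- table part -/
def posT_5 : Tr :=
  .nd (.nd (.nd (.nd (.nd (.nd (.lf 336) (.lf 541)) (.nd (.lf 443) (.lf 0))) (.nd (.nd (.lf 240) (.lf 0)) (.nd (.lf 375) (.lf 0)))) (.nd (.nd (.nd (.lf 146) (.lf 415)) (.nd (.lf 376) (.lf 0))) (.nd (.nd (.lf 583) (.lf 0)) (.nd (.lf 499) (.lf 0))))) (.nd (.nd (.nd (.nd (.lf 515) (.lf 486)) (.nd (.lf 622) (.lf 0))) (.nd (.nd (.lf 533) (.lf 0)) (.nd (.lf 234) (.lf 0)))) (.nd (.nd (.nd (.lf 168) (.lf 296)) (.nd (.lf 351) (.lf 0))) (.nd (.nd (.lf 393) (.lf 0)) (.nd (.lf 348) (.lf 0)))))) (.nd (.nd (.nd (.nd (.nd (.lf 193) (.lf 187)) (.nd (.lf 624) (.lf 0))) (.nd (.nd (.lf 524) (.lf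 0)) (.nd (.lf 121) (.lf 0)))) (.nd (.nd (.nd (.lf 471) (.lf 409)) (.nd (.lf 178) (.lf 0))) (.nd (.nd (.lf 330) (.lf 0)) (.nd (.lf 323) (.lf 0))))) (.nd (.nd (.nd (.nd (.lf 559) (.lf 315)) (.nd (.lf 294) (.lf 0))) (.nd (.nd (.lf 176) (.lf 0)) (.nd (.lf 241) (.lf 0)))) (.nd (.nd (.nd (.lf 20) (.lf 268)) (.nd (.lf 420) (.lf 0))) (.nd (.nd (.lf 224) (.lf 0)) (.nd (.lf 95) (.lf 0))))))

/-- table part -/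
def posT_6 : Tr :=
  .nd (.nd (.nd (.nd (.nd (.nd (.lf 632) (.lf 377)) (.nd (.lf 353) (.lf 0))) (.nd (.nd (.lf 145) (.lf 0)) (.nd (.lf 427) (.lf 0)))) (.nd (.nd (.nd (.lf 30) (.lf 585)) (.nd (.lf 615) (.lf 0))) (.nd (.nd (.lf 151) (.lf 0)) (.nd (.lf 490) (.lf 0))))) (.nd (.nd (.nd (.nd (.lf 530) (.lf 406)) (.nd (.lf 251) (.lf 0))) (.nd (.nd (.lf 66) (.lf 0)) (.nd (.lf 141) (.lf 0)))) (.nd (.nd (.nd (.lf 111) (.lf 75)) (.nd (.lf 76) (.lf 0))) (.nd (.nd (.lf 128) (.lf 0)) (.nd (.lf 148) (.lf 0)))))) (.nd (.nd (.nd (.nd (.nd (.lf 98) (.lf 437)) (.nd (.lf 192) (.lf 0))) (.nd (.nd (.lf 474) (.lf 0)) (.nd (.lf 564) (.lf 0)))) (.nd (.nd (.nd (.lf 340) (.lf 242)) (.nd (.lf 81) (.lf 0))) (.nd (.nd (.lf 13) (.lf 0)) (.nd (.lf 54) (.lf 0))))) (.nd (.nd (.nd (.nd (.lf 586) (.lf 213)) (.nd (.lf 204) (.lf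 0))) (.nd (.nd (.lf 3) (.lf 0)) (.nd (.lf 154) (.lf 0)))) (.nd (.nd (.nd (.lf 372) (.lf 374)) (.nd (.lf 62) (.lf 0))) (.nd (.nd (.lf 10) (.lf 0)) (.nd (.lf 270) (.lf 0))))))

/-- table part -/
def posT_7 : Tr :=
  .nd (.nd (.nd (.nd (.nd (.nd (.lf 164) (.lf 56)) (.nd (.lf 21) (.lf 0))) (.nd (.nd (.lf 477) (.lf 0)) (.nd (.lf 464) (.lf 0)))) (.nd (.nd (.nd (.lf 449) (.lf 210)) (.nd (.lf 594) (.lf 0))) (.nd (.nd (.lf 436) (.lf 0)) (.nd (.lf 597) (.lf 0))))) (.nd (.nd (.nd (.nd (.lf 346) (.lf 578)) (.nd (.lf 569) (.lf 0))) (.nd (.nd (.lf 71) (.lf 0)) (.nd (.lf 517) (.lf 0)))) (.nd (.nd (.nd (.lf 434) (.lf 4)) (.nd (.lf 7) (.lf 0))) (.nd (.nd (.lf 157) (.lf 0)) (.nd (.lf 339) (.lf 0)))))) (.nd (.nd (.nd (.nd (.nd (.lf 87) (.lf 328)) (.nd (.lf 40) (.lf 0))) (.nd (.nd (.lf 247) (.lf 0)) (.nd (.lf 163)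 (.lf 0)))) (.nd (.nd (.nd (.lf 563) (.lf 29)) (.nd (.lf 501) (.lf 0))) (.nd (.nd (.lf 525) (.lf 0)) (.nd (.lf 275) (.lf 0))))) (.nd (.nd (.nd (.nd (.lf 6) (.lf 612)) (.nd (.lf 39) (.lf 0))) (.nd (.nd (.lf 120) (.lf 0)) (.nd (.lf 574) (.lf 0)))) (.nd (.nd (.nd (.lf 175) (.lf 200)) (.nd (.lf 84) (.lf 0))) (.nd (.nd (.lf 91) (.lf 0)) (.nd (.lf 459) (.lf 0))))))

/-- table part -/
def posT_8 : Tr :=
  .nd (.nd (.nd (.nd (.nd (.nd (.lf 469) (.lf 276)) (.nd (.lf 416) (.lf 0))) (.nd (.nd (.lf 397) (.lf 0)) (.nd (.lf 332) (.lf 0)))) (.nd (.nd (.nd (.lf 142) (.lf 582)) (.nd (.lf 507) (.lf 0))) (.nd (.nd (.lf 160) (.lf 0)) (.nd (.lf 544) (.lf 0))))) (.nd (.nd (.nd (.nd (.lf 363) (.lf 113)) (.nd (.lf 531) (.lf 0))) (.nd (.nd (.lf 27) (.lf 0)) (.nd (.lf 126) (.lf 0)))) (.nd (.nd (.nd (.lf 209) (.lf 410))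 (.nd (.lf 254) (.lf 0))) (.nd (.nd (.lf 273) (.lf 0)) (.nd (.lf 17) (.lf 0)))))) (.nd (.nd (.nd (.nd (.nd (.lf 99) (.lf 12)) (.nd (.lf 132) (.lf 0))) (.nd (.nd (.lf 24) (.lf 0)) (.nd (.lf 256) (.lf 0)))) (.nd (.nd (.nd (.lf 290) (.lf 14)) (.nd (.lf 312) (.lf 0))) (.nd (.nd (.lf 337) (.lf 0)) (.nd (.lf 545) (.lf 0))))) (.nd (.nd (.nd (.nd (.lf 52) (.lf 472)) (.nd (.lf 70) (.lf 0))) (.nd (.nd (.lf 571) (.lf 0)) (.nd (.lf 382) (.lf 0)))) (.nd (.nd (.nd (.lf 69) (.lf 392)) (.nd (.lf 395) (.lf 0))) (.nd (.nd (.lf 245) (.lf 0)) (.nd (.lf 264) (.lf 0))))))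

/-- table part -/
def posT_9 : Tr :=
  .nd (.nd (.nd (.nd (.nd (.nd (.lf 411) (.lf 285)) (.nd (.lf 511) (.lf 0))) (.nd (.nd (.lf 587) (.lf 0)) (.nd (.lf 86) (.lf 0)))) (.nd (.nd (.nd (.lf 34) (.lf 361)) (.nd (.lf 435) (.lf 0))) (.nd (.nd (.lf 345) (.lf 0)) (.nd (.lf 479) (.lf 0))))) (.nd (.nd (.nd (.nd (.lf 159) (.lf 305)) (.nd (.lf 304) (.lf 0))) (.nd (.nd (.lf 236) (.lf 0)) (.nd (.lf 352) (.lf 0)))) (.nd (.nd (.nd (.lf 313) (.lf 322)) (.nd (.lf 581) (.lf 0))) (.nd (.nd (.lf 23) (.lf 0)) (.nd (.lf 385) (.lf 0)))))) (.nd (.nd (.nd (.nd (.nd (.lf 366) (.lf 18)) (.nd (.lf 334) (.lf 0))) (.nd (.nd (.lf 93) (.lf 0)) (.nd (.lf 350) (.lf 0)))) (.nd (.nd (.nd (.lf 293) (.lf 282)) (.nd (.lf 359) (.lf 0))) (.nd (.nd (.lf 47) (.lf 0)) (.nd (.lf 188) (.lf 0))))) (.nd (.nd (.nd (.nd (.lf 116) (.lf 441))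 (.nd (.lf 538) (.lf 0))) (.nd (.nd (.lf 171) (.lf 0)) (.nd (.lf 536) (.lf 0)))) (.nd (.nd (.nd (.lf 465) (.lf 349)) (.nd (.lf 467) (.lf 0))) (.nd (.nd (.lf 617) (.lf 0)) (.nd (.lf 227) (.lf 0))))))

/-- table part -/
def posT_10 : Tr :=
  .nd (.nd (.nd (.nd (.nd (.nd (.lf 621) (.lf 438)) (.nd (.lf 65) (.lf 0))) (.nd (.nd (.lf 498) (.lf 0)) (.nd (.lf 50) (.lf 0)))) (.nd (.nd (.nd (.lf 309) (.lf 482)) (.nd (.lf 321) (.lf 0))) (.nd (.nd (.lf 532) (.lf 0)) (.nd (.lf 97) (.lf 0))))) (.nd (.nd (.nd (.nd (.lf 35) (.lf 589)) (.nd (.lf 614) (.lf 0))) (.nd (.nd (.lf 186) (.lf 0)) (.nd (.lf 72) (.lf 0)))) (.nd (.nd (.nd (.lf 379) (.lf 566)) (.nd (.lf 246) (.lf 0))) (.nd (.nd (.lf 573) (.lf 0)) (.nd (.lf 433) (.lf 0)))))) (.nd (.nd (.nd (.nd (.nd (.lf 567) (.lf 503)) (.nd (.lf 603) (.lf 0))) (.nd (.nd (.lf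 455) (.lf 0)) (.nd (.lf 506) (.lf 0)))) (.nd (.nd (.nd (.lf 408) (.lf 231)) (.nd (.lf 327) (.lf 0))) (.nd (.nd (.lf 15) (.lf 0)) (.nd (.lf 311) (.lf 0))))) (.nd (.nd (.nd (.nd (.lf 218) (.lf 129)) (.nd (.lf 144) (.lf 0))) (.nd (.nd (.lf 447) (.lf 0)) (.nd (.lf 143) (.lf 0)))) (.nd (.nd (.nd (.lf 440) (.lf 174)) (.nd (.lf 342) (.lf 0))) (.nd (.nd (.lf 8) (.lf 0)) (.nd (.lf 458) (.lf 0))))))

/-- table part -/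
def posT_11 : Tr :=
  .nd (.nd (.nd (.nd (.nd (.nd (.lf 181) (.lf 5)) (.nd (.lf 413) (.lf 0))) (.nd (.nd (.lf 448) (.lf 0)) (.nd (.lf 520) (.lf 0)))) (.nd (.nd (.nd (.lf 502) (.lf 512)) (.nd (.lf 633) (.lf 0))) (.nd (.nd (.lf 45) (.lf 0)) (.nd (.lf 239) (.lf 0))))) (.nd (.nd (.nd (.nd (.lf 487) (.lf 468)) (.nd (.lf 228) (.lf 0))) (.nd (.nd (.lf 462) (.lf 0)) (.nd (.lf 269) (.lf 0)))) (.nd (.nd (.nd (.lf 481) (.lf 300)) (.nd (.lf 297) (.lf 0))) (.nd (.nd (.lf 136) (.lf 0)) (.nd (.lf 1) (.lf 0)))))) (.nd (.nd (.nd (.nd (.nd (.lf 556) (.lf 593)) (.nd (.lf 607) (.lf 0))) (.nd (.nd (.lf 588) (.lf 0)) (.nd (.lf 42) (.lf 0)))) (.nd (.nd (.nd (.lf 579) (.lf 184)) (.nd (.lf 552) (.lf 0))) (.nd (.nd (.lf 317) (.lf 0)) (.nd (.lf 170) (.lf 0))))) (.nd (.nd (.nd (.nd (.lf 301) (.lf 324)) (.nd (.lf 265) (.lf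 0))) (.nd (.nd (.lf 547) (.lf 0)) (.nd (.lf 421) (.lf 0)))) (.nd (.nd (.nd (.lf 557) (.lf 627)) (.nd (.lf 162) (.lf 0))) (.nd (.nd (.lf 522) (.lf 0)) (.nd (.lf 572) (.lf 0))))))

/-- table part -/
def posT_12 : Tr :=
  .nd (.nd (.nd (.nd (.nd (.nd (.lf 202) (.lf 182)) (.nd (.lf 25) (.lf 0))) (.nd (.nd (.lf 598) (.lf 0)) (.nd (.lf 149) (.lf 0)))) (.nd (.nd (.nd (.lf 432) (.lf 331)) (.nd (.lf 238) (.lf 0))) (.nd (.nd (.lf 549) (.lf 0)) (.nd (.lf 280) (.lf 0))))) (.nd (.nd (.nd (.nd (.lf 457) (.lf 419)) (.nd (.lf 362) (.lf 0))) (.nd (.nd (.lf 307) (.lf 0)) (.nd (.lf 550) (.lf 0)))) (.nd (.nd (.nd (.lf 599) (.lf 539)) (.nd (.lf 613) (.lf 0))) (.nd (.nd (.lf 529) (.lf 0)) (.nd (.lf 22) (.lf 0)))))) (.nd (.nd (.nd (.nd (.nd (.lf 442) (.lf 548)) (.nd (.lf 373) (.lf 0))) (.nd (.nd (.lf 310) (.lf 0))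 (.nd (.lf 219) (.lf 0)))) (.nd (.nd (.nd (.lf 250) (.lf 291)) (.nd (.lf 179) (.lf 0))) (.nd (.nd (.lf 414) (.lf 0)) (.nd (.lf 105) (.lf 0))))) (.nd (.nd (.nd (.nd (.lf 316) (.lf 489)) (.nd (.lf 542) (.lf 0))) (.nd (.nd (.lf 122) (.lf 0)) (.nd (.lf 55) (.lf 0)))) (.nd (.nd (.nd (.lf 357) (.lf 454)) (.nd (.lf 463) (.lf 0))) (.nd (.nd (.lf 169) (.lf 0)) (.nd (.lf 215) (.lf 0))))))

/-- table part -/
def posT_13 : Tr :=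
  .nd (.nd (.nd (.nd (.nd (.nd (.lf 94) (.lf 68)) (.nd (.lf 368) (.lf 0))) (.nd (.nd (.lf 568) (.lf 0)) (.nd (.lf 619) (.lf 0)))) (.nd (.nd (.nd (.lf 207) (.lf 161)) (.nd (.lf 551) (.lf 0))) (.nd (.nd (.lf 618) (.lf 0)) (.nd (.lf 388) (.lf 0))))) (.nd (.nd (.nd (.nd (.lf 112) (.lf 380)) (.nd (.lf 237) (.lf 0))) (.nd (.nd (.lf 108) (.lf 0)) (.nd (.lf 266) (.lf 0)))) (.nd (.nd (.nd (.lf 216) (.lf 36)) (.nd (.lf 123) (.lf 0))) (.nd (.nd (.lf 208) (.lf 0)) (.nd (.lf 196) (.lf 0)))))) (.nd (.nd (.nd (.nd (.nd (.lf 286) (.lf 521)) (.nd (.lf 602) (.lf 0))) (.nd (.nd (.lf 177) (.lf 0)) (.nd (.lf 383) (.lf 0)))) (.nd (.nd (.nd (.lf 314) (.lf 360)) (.nd (.lf 495) (.lf 0))) (.nd (.nd (.lf 298) (.lf 0)) (.nd (.lf 611) (.lf 0))))) (.nd (.nd (.nd (.nd (.lf 423) (.lf 233)) (.nd (.lf 16) (.lf 0))) (.nd (.nd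 (.lf 252) (.lf 0)) (.nd (.lf 278) (.lf 0)))) (.nd (.nd (.nd (.lf 399) (.lf 152)) (.nd (.lf 367) (.lf 0))) (.nd (.nd (.lf 628) (.lf 0)) (.nd (.lf 9) (.lf 0))))))

/-- table part -/
def posT_14 : Tr :=
  .nd (.nd (.nd (.nd (.nd (.nd (.lf 230) (.lf 110)) (.nd (.lf 639) (.lf 0))) (.nd (.nd (.lf 205) (.lf 0)) (.nd (.lf 78) (.lf 0)))) (.nd (.nd (.nd (.lf 28) (.lf 46)) (.nd (.lf 629) (.lf 0))) (.nd (.nd (.lf 138) (.lf 0)) (.nd (.lf 119) (.lf 0))))) (.nd (.nd (.nd (.nd (.lf 107) (.lf 206)) (.nd (.lf 288) (.lf 0))) (.nd (.nd (.lf 190) (.lf 0)) (.nd (.lf 609) (.lf 0)))) (.nd (.nd (.nd (.lf 546) (.lf 528)) (.nd (.lf 369) (.lf 0))) (.nd (.nd (.lf 133) (.lf 0)) (.nd (.lf 201) (.lf 0)))))) (.nd (.nd (.nd (.nd (.nd (.lf 390) (.lf 381)) (.nd (.lf 505) (.lf 0))) (.nd (.nd (.lf 355) (.lf 0)) (.nd (.lf 510) (.lf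 0)))) (.nd (.nd (.nd (.lf 137) (.lf 606)) (.nd (.lf 100) (.lf 0))) (.nd (.nd (.lf 404) (.lf 0)) (.nd (.lf 37) (.lf 0))))) (.nd (.nd (.nd (.nd (.lf 333) (.lf 203)) (.nd (.lf 303) (.lf 0))) (.nd (.nd (.lf 384) (.lf 0)) (.nd (.lf 638) (.lf 0)))) (.nd (.nd (.nd (.lf 370) (.lf 19)) (.nd (.lf 150) (.lf 0))) (.nd (.nd (.lf 403) (.lf 0)) (.nd (.lf 32) (.lf 0))))))

/-- table part -/
def posT_15 : Tr :=
  .nd (.nd (.nd (.nd (.nd (.nd (.lf 272) (.lf 446)) (.nd (.lf 396) (.lf 0))) (.nd (.nd (.lf 2) (.lf 0)) (.nd (.lf 493) (.lf 0)))) (.nd (.nd (.nd (.lf 389) (.lf 407)) (.nd (.lf 217) (.lf 0))) (.nd (.nd (.lf 48) (.lf 0)) (.nd (.lf 212) (.lf 0))))) (.nd (.nd (.nd (.nd (.lf 577) (.lf 96)) (.nd (.lf 450) (.lf 0))) (.nd (.nd (.lf 514) (.lf 0)) (.nd (.lf 51) (.lf 0)))) (.nd (.nd (.nd (.lf 378) (.lf 318)) (.nd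 (.lf 220) (.lf 0))) (.nd (.nd (.lf 248) (.lf 0)) (.nd (.lf 485) (.lf 0)))))) (.nd (.nd (.nd (.nd (.nd (.lf 223) (.lf 451)) (.nd (.lf 604) (.lf 0))) (.nd (.nd (.lf 575) (.lf 0)) (.nd (.lf 244) (.lf 0)))) (.nd (.nd (.nd (.lf 11) (.lf 127)) (.nd (.lf 623) (.lf 0))) (.nd (.nd (.lf 92) (.lf 0)) (.nd (.lf 289) (.lf 0))))) (.nd (.nd (.nd (.nd (.lf 364) (.lf 194)) (.nd (.lf 601) (.lf 0))) (.nd (.nd (.lf 592) (.lf 0)) (.nd (.lf 453) (.lf 0)))) (.nd (.nd (.nd (.lf 456) (.lf 570)) (.nd (.lf 258) (.lf 0))) (.nd (.nd (.lf 371) (.lf 0)) (.nd (.lf 631) (.lf 0))))))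

/-- table part -/
def posT_16 : Tr :=
  .nd (.nd (.nd (.nd (.nd (.nd (.lf 492) (.lf 83)) (.nd (.lf 44) (.lf 0))) (.nd (.nd (.lf 325) (.lf 0)) (.nd (.lf 88) (.lf 0)))) (.nd (.nd (.nd (.lf 153) (.lf 221)) (.nd (.lf 480) (.lf 0))) (.nd (.nd (.lf 173) (.lf 0)) (.nd (.lf 626) (.lf 0))))) (.nd (.nd (.nd (.nd (.lf 595) (.lf 67)) (.nd (.lf 341) (.lf 0))) (.nd (.nd (.lf 326) (.lf 0)) (.nd (.lf 461) (.lf 0)))) (.nd (.nd (.nd (.lf 562) (.lf 114)) (.nd (.lf 263) (.lf 0))) (.nd (.nd (.lf 63) (.lf 0)) (.nd (.lf 491) (.lf 0)))))) (.nd (.nd (.nd (.nd (.nd (.lf 560) (.lf 576)) (.nd (.lf 135) (.lf 0))) (.nd (.nd (.lf 483) (.lf 0)) (.nd (.lf 518) (.lf 0)))) (.nd (.nd (.nd (.lf 535) (.lf 405)) (.nd (.lf 53) (.lf 0))) (.nd (.nd (.lf 118) (.lf 0)) (.nd (.lf 225) (.lf 0))))) (.nd (.nd (.nd (.nd (.lf 49) (.lf 555))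 (.nd (.lf 425) (.lf 0))) (.nd (.nd (.lf 85) (.lf 0)) (.nd (.lf 600) (.lf 0)))) (.nd (.nd (.nd (.lf 516) (.lf 261)) (.nd (.lf 320) (.lf 0))) (.nd (.nd (.lf 277) (.lf 0)) (.nd (.lf 139) (.lf 0))))))

/-- table -/
def posT : Tr :=
  .nd (.nd (.nd (.nd posT_1 posT_2) (.nd posT_3 posT_4)) (.nd (.nd posT_5 posT_6) (.nd posT_7 posT_8))) (.nd (.nd (.nd posT_9 posT_10) (.nd posT_11 posT_12)) (.nd (.nd posT_13 posT_14) (.nd posT_15 posT_16)))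

/-- table part -/
def srtT_1 : Tr :=
  .nd (.nd (.nd (.nd (.nd (.nd (.lf 0) (.lf 581)) (.nd (.lf 414) (.lf 0))) (.nd (.nd (.lf 234) (.lf 0)) (.nd (.lf 187) (.lf 0)))) (.nd (.nd (.nd (.lf 608) (.lf 543)) (.nd (.lf 383) (.lf 0))) (.nd (.nd (.lf 282) (.lf 0)) (.nd (.lf 133) (.lf 0))))) (.nd (.nd (.nd (.nd (.lf 507) (.lf 462)) (.nd (.lf 299) (.lf 0))) (.nd (.nd (.lf 206) (.lf 0)) (.nd (.lf 270) (.lf 0)))) (.nd (.nd (.nd (.lf 551) (.lf 176)) (.nd (.lf 417) (.lf 0))) (.nd (.nd (.lf 242) (.lf 0)) (.nd (.lf 335) (.lf 0)))))) (.nd (.nd (.nd (.nd (.nd (.lf 307) (.lf 619)) (.nd (.lf 7) (.lf 0))) (.nd (.nd (.lf 313) (.lf 0)) (.nd (.lf 116) (.lf 0)))) (.nd (.nd (.nd (.lf 576) (.lf 183)) (.nd (.lf 2) (.lf 0))) (.nd (.nd (.lf 227) (.lf 0)) (.nd (.lf 390) (.lf 0))))) (.nd (.nd (.nd (.nd (.lf 199) (.lf 31))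 (.nd (.lf 289) (.lf 0))) (.nd (.nd (.lf 178) (.lf 0)) (.nd (.lf 77) (.lf 0)))) (.nd (.nd (.nd (.lf 35) (.lf 274)) (.nd (.lf 259) (.lf 0))) (.nd (.nd (.lf 130) (.lf 0)) (.nd (.lf 160) (.lf 0))))))

/-- table part -/
def srtT_2 : Tr :=
  .nd (.nd (.nd (.nd (.nd (.nd (.lf 249) (.lf 389)) (.nd (.lf 510) (.lf 0))) (.nd (.nd (.lf 229) (.lf 0)) (.nd (.lf 638) (.lf 0)))) (.nd (.nd (.nd (.lf 425) (.lf 360)) (.nd (.lf 534) (.lf 0))) (.nd (.nd (.lf 630) (.lf 0)) (.nd (.lf 119) (.lf 0))))) (.nd (.nd (.nd (.nd (.lf 278) (.lf 341)) (.nd (.lf 610) (.lf 0))) (.nd (.nd (.lf 98) (.lf 0)) (.nd (.lf 424) (.lf 0)))) (.nd (.nd (.nd (.lf 204) (.lf 332)) (.nd (.lf 595) (.lf 0))) (.nd (.nd (.lf 388) (.lf 0)) (.nd (.lf 88) (.lf 0)))))) (.nd (.nd (.nd (.nd (.nd (.lf 158) (.lf 433)) (.nd (.lf 461) (.lf 0))) (.nd (.nd (.lf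 627) (.lf 0)) (.nd (.lf 89) (.lf 0)))) (.nd (.nd (.nd (.lf 399) (.lf 447)) (.nd (.lf 352) (.lf 0))) (.nd (.nd (.lf 99) (.lf 0)) (.nd (.lf 574) (.lf 0))))) (.nd (.nd (.nd (.nd (.lf 518) (.lf 131)) (.nd (.lf 350) (.lf 0))) (.nd (.nd (.lf 597) (.lf 0)) (.nd (.lf 121) (.lf 0)))) (.nd (.nd (.nd (.lf 182) (.lf 10)) (.nd (.lf 322) (.lf 0))) (.nd (.nd (.lf 231) (.lf 0)) (.nd (.lf 592) (.lf 0))))))

/-- table part -/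
def srtT_3 : Tr :=
  .nd (.nd (.nd (.nd (.nd (.nd (.lf 614) (.lf 127)) (.nd (.lf 100) (.lf 0))) (.nd (.nd (.lf 286) (.lf 0)) (.nd (.lf 451) (.lf 0)))) (.nd (.nd (.nd (.lf 515) (.lf 128)) (.nd (.lf 565) (.lf 0))) (.nd (.nd (.lf 483) (.lf 0)) (.nd (.lf 448) (.lf 0))))) (.nd (.nd (.nd (.nd (.lf 611) (.lf 541)) (.nd (.lf 232) (.lf 0))) (.nd (.nd (.lf 6) (.lf 0)) (.nd (.lf 370) (.lf 0)))) (.nd (.nd (.nd (.lf 347) (.lf 566)) (.nd (.lf 632) (.lf 0))) (.nd (.nd (.lf 293) (.lf 0)) (.nd (.lf 564) (.lf 0)))))) (.nd (.nd (.nd (.nd (.nd (.lf 114) (.lf 201)) (.nd (.lf 526) (.lf 0))) (.nd (.nd (.lf 490) (.lf 0)) (.nd (.lf 219) (.lf 0)))) (.nd (.nd (.nd (.lf 374) (.lf 56)) (.nd (.lf 90) (.lf 0))) (.nd (.nd (.lf 455) (.lf 0)) (.nd (.lf 549) (.lf 0))))) (.nd (.nd (.nd (.nd (.lf 62) (.lf 410)) (.nd (.lf 328) (.lf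 0))) (.nd (.nd (.lf 508) (.lf 0)) (.nd (.lf 198) (.lf 0)))) (.nd (.nd (.nd (.lf 49) (.lf 243)) (.nd (.lf 122) (.lf 0))) (.nd (.nd (.lf 407) (.lf 0)) (.nd (.lf 488) (.lf 0))))))

/-- table part -/
def srtT_4 : Tr :=
  .nd (.nd (.nd (.nd (.nd (.nd (.lf 542) (.lf 146)) (.nd (.lf 626) (.lf 0))) (.nd (.nd (.lf 32) (.lf 0)) (.nd (.lf 263) (.lf 0)))) (.nd (.nd (.nd (.lf 362) (.lf 149)) (.nd (.lf 398) (.lf 0))) (.nd (.nd (.lf 314) (.lf 0)) (.nd (.lf 256) (.lf 0))))) (.nd (.nd (.nd (.nd (.lf 271) (.lf 21)) (.nd (.lf 613) (.lf 0))) (.nd (.nd (.lf 412) (.lf 0)) (.nd (.lf 336) (.lf 0)))) (.nd (.nd (.nd (.lf 163) (.lf 516)) (.nd (.lf 55) (.lf 0))) (.nd (.nd (.lf 161) (.lf 0)) (.nd (.lf 15) (.lf 0)))))) (.nd (.nd (.nd (.nd (.nd (.lf 75) (.lf 192)) (.nd (.lf 432) (.lf 0))) (.nd (.nd (.lf 528) (.lf 0)) (.nd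 (.lf 476) (.lf 0)))) (.nd (.nd (.nd (.lf 215) (.lf 279)) (.nd (.lf 482) (.lf 0))) (.nd (.nd (.lf 359) (.lf 0)) (.nd (.lf 380) (.lf 0))))) (.nd (.nd (.nd (.nd (.lf 184) (.lf 501)) (.nd (.lf 61) (.lf 0))) (.nd (.nd (.lf 465) (.lf 0)) (.nd (.lf 144) (.lf 0)))) (.nd (.nd (.nd (.lf 356) (.lf 600)) (.nd (.lf 547) (.lf 0))) (.nd (.nd (.lf 179) (.lf 0)) (.nd (.lf 36) (.lf 0))))))

/-- table part -/
def srtT_5 : Tr :=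
  .nd (.nd (.nd (.nd (.nd (.nd (.lf 135) (.lf 167)) (.nd (.lf 375) (.lf 0))) (.nd (.nd (.lf 484) (.lf 0)) (.nd (.lf 612) (.lf 0)))) (.nd (.nd (.nd (.lf 170) (.lf 550)) (.nd (.lf 609) (.lf 0))) (.nd (.nd (.lf 567) (.lf 0)) (.nd (.lf 295) (.lf 0))))) (.nd (.nd (.nd (.nd (.lf 65) (.lf 107)) (.nd (.lf 94) (.lf 0))) (.nd (.nd (.lf 373) (.lf 0)) (.nd (.lf 300) (.lf 0)))) (.nd (.nd (.nd (.lf 26) (.lf 428)) (.nd (.lf 324) (.lf 0))) (.nd (.nd (.lf 244) (.lf 0)) (.nd (.lf 585) (.lf 0)))))) (.nd (.nd (.nd (.nd (.nd (.lf 529) (.lf 42)) (.nd (.lf 344) (.lf 0))) (.nd (.nd (.lf 66) (.lf 0)) (.nd (.lf 188) (.lf 0)))) (.nd (.nd (.nd (.lf 376) (.lf 326)) (.nd (.lf 240) (.lf 0))) (.nd (.nd (.lf 582) (.lf 0)) (.nd (.lf 340) (.lf 0))))) (.nd (.nd (.nd (.nd (.lf 393) (.lf 111)) (.nd (.lf 268) (.lf 0))) (.nd (.nd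 (.lf 338) (.lf 0)) (.nd (.lf 102) (.lf 0)))) (.nd (.nd (.nd (.lf 623) (.lf 463)) (.nd (.lf 123) (.lf 0))) (.nd (.nd (.lf 602) (.lf 0)) (.nd (.lf 137) (.lf 0))))))

/-- table part -/
def srtT_6 : Tr :=
  .nd (.nd (.nd (.nd (.nd (.nd (.lf 250) (.lf 245)) (.nd (.lf 419) (.lf 0))) (.nd (.nd (.lf 203) (.lf 0)) (.nd (.lf 580) (.lf 0)))) (.nd (.nd (.nd (.lf 152) (.lf 58)) (.nd (.lf 210) (.lf 0))) (.nd (.nd (.lf 13) (.lf 0)) (.nd (.lf 505) (.lf 0))))) (.nd (.nd (.nd (.nd (.lf 405) (.lf 636)) (.nd (.lf 211) (.lf 0))) (.nd (.nd (.lf 469) (.lf 0)) (.nd (.lf 64) (.lf 0)))) (.nd (.nd (.nd (.lf 96) (.lf 195)) (.nd (.lf 301) (.lf 0))) (.nd (.nd (.lf 418) (.lf 0)) (.nd (.lf 458) (.lf 0)))))) (.nd (.nd (.nd (.nd (.nd (.lf 556) (.lf 305)) (.nd (.lf 593) (.lf 0))) (.nd (.nd (.lf 442) (.lf 0)) (.nd (.lf 622) (.lf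 0)))) (.nd (.nd (.nd (.lf 628) (.lf 275)) (.nd (.lf 38) (.lf 0))) (.nd (.nd (.lf 57) (.lf 0)) (.nd (.lf 154) (.lf 0))))) (.nd (.nd (.nd (.nd (.lf 480) (.lf 631)) (.nd (.lf 83) (.lf 0))) (.nd (.nd (.lf 169) (.lf 0)) (.nd (.lf 29) (.lf 0)))) (.nd (.nd (.nd (.lf 189) (.lf 368)) (.nd (.lf 103) (.lf 0))) (.nd (.nd (.lf 93) (.lf 0)) (.nd (.lf 409) (.lf 0))))))

/-- table part -/
def srtT_7 : Tr :=
  .nd (.nd (.nd (.nd (.nd (.nd (.lf 54) (.lf 415)) (.nd (.lf 248) (.lf 0))) (.nd (.nd (.lf 568) (.lf 0)) (.nd (.lf 27) (.lf 0)))) (.nd (.nd (.nd (.lf 318) (.lf 590)) (.nd (.lf 175) (.lf 0))) (.nd (.nd (.lf 316) (.lf 0)) (.nd (.lf 637) (.lf 0))))) (.nd (.nd (.nd (.nd (.lf 260) (.lf 429)) (.nd (.lf 306) (.lf 0))) (.nd (.nd (.lf 148) (.lf 0)) (.nd (.lf 220) (.lf 0)))) (.nd (.nd (.nd (.lf 616) (.lf 297)) (.nd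 (.lf 72) (.lf 0))) (.nd (.nd (.lf 11) (.lf 0)) (.nd (.lf 546) (.lf 0)))))) (.nd (.nd (.nd (.nd (.nd (.lf 493) (.lf 396)) (.nd (.lf 435) (.lf 0))) (.nd (.nd (.lf 379) (.lf 0)) (.nd (.lf 554) (.lf 0)))) (.nd (.nd (.nd (.lf 385) (.lf 141)) (.nd (.lf 377) (.lf 0))) (.nd (.nd (.lf 524) (.lf 0)) (.nd (.lf 572) (.lf 0))))) (.nd (.nd (.nd (.nd (.lf 474) (.lf 617)) (.nd (.lf 157) (.lf 0))) (.nd (.nd (.lf 525) (.lf 0)) (.nd (.lf 521) (.lf 0)))) (.nd (.nd (.nd (.lf 223) (.lf 60)) (.nd (.lf 634) (.lf 0))) (.nd (.nd (.lf 361) (.lf 0)) (.nd (.lf 69) (.lf 0))))))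

/-- table part -/
def srtT_8 : Tr :=
  .nd (.nd (.nd (.nd (.nd (.nd (.lf 606) (.lf 4)) (.nd (.lf 506) (.lf 0))) (.nd (.nd (.lf 78) (.lf 0)) (.nd (.lf 384) (.lf 0)))) (.nd (.nd (.nd (.lf 395) (.lf 308)) (.nd (.lf 273) (.lf 0))) (.nd (.nd (.lf 555) (.lf 0)) (.nd (.lf 165) (.lf 0))))) (.nd (.nd (.nd (.nd (.lf 587) (.lf 224)) (.nd (.lf 48) (.lf 0))) (.nd (.nd (.lf 633) (.lf 0)) (.nd (.lf 200) (.lf 0)))) (.nd (.nd (.nd (.lf 523) (.lf 290)) (.nd (.lf 17) (.lf 0))) (.nd (.nd (.lf 333) (.lf 0)) (.nd (.lf 112) (.lf 0)))))) (.nd (.nd (.nd (.nd (.nd (.lf 74) (.lf 317)) (.nd (.lf 19) (.lf 0))) (.nd (.nd (.lf 92) (.lf 0)) (.nd (.lf 221) (.lf 0)))) (.nd (.nd (.nd (.lf 3) (.lf 603)) (.nd (.lf 401) (.lf 0))) (.nd (.nd (.lf 544) (.lf 0)) (.nd (.lf 44) (.lf 0))))) (.nd (.nd (.nd (.nd (.lf 378) (.lf 438)) (.nd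 (.lf 615) (.lf 0))) (.nd (.nd (.lf 171) (.lf 0)) (.nd (.lf 519) (.lf 0)))) (.nd (.nd (.nd (.lf 430) (.lf 443)) (.nd (.lf 446) (.lf 0))) (.nd (.nd (.lf 366) (.lf 0)) (.nd (.lf 411) (.lf 0))))))

/-- table part -/
def srtT_9 : Tr :=
  .nd (.nd (.nd (.nd (.nd (.nd (.lf 485) (.lf 320)) (.nd (.lf 216) (.lf 0))) (.nd (.nd (.lf 569) (.lf 0)) (.nd (.lf 481) (.lf 0)))) (.nd (.nd (.nd (.lf 265) (.lf 39)) (.nd (.lf 329) (.lf 0))) (.nd (.nd (.lf 18) (.lf 0)) (.nd (.lf 70) (.lf 0))))) (.nd (.nd (.nd (.nd (.lf 504) (.lf 478)) (.nd (.lf 471) (.lf 0))) (.nd (.nd (.lf 579) (.lf 0)) (.nd (.lf 16) (.lf 0)))) (.nd (.nd (.nd (.lf 457) (.lf 427)) (.nd (.lf 266) (.lf 0))) (.nd (.nd (.lf 479) (.lf 0)) (.nd (.lf 101) (.lf 0)))))) (.nd (.nd (.nd (.nd (.nd (.lf 494) (.lf 237)) (.nd (.lf 238) (.lf 0))) (.nd (.nd (.lf 138)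 (.lf 0)) (.nd (.lf 400) (.lf 0)))) (.nd (.nd (.nd (.lf 346) (.lf 533)) (.nd (.lf 222) (.lf 0))) (.nd (.nd (.lf 110) (.lf 0)) (.nd (.lf 113) (.lf 0))))) (.nd (.nd (.nd (.nd (.lf 63) (.lf 456)) (.nd (.lf 545) (.lf 0))) (.nd (.nd (.lf 147) (.lf 0)) (.nd (.lf 489) (.lf 0)))) (.nd (.nd (.nd (.lf 558) (.lf 12)) (.nd (.lf 363) (.lf 0))) (.nd (.nd (.lf 434) (.lf 0)) (.nd (.lf 620) (.lf 0))))))

/-- table part -/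
def srtT_10 : Tr :=
  .nd (.nd (.nd (.nd (.nd (.nd (.lf 499) (.lf 531)) (.nd (.lf 309) (.lf 0))) (.nd (.nd (.lf 91) (.lf 0)) (.nd (.lf 226) (.lf 0)))) (.nd (.nd (.nd (.lf 236) (.lf 586)) (.nd (.lf 108) (.lf 0))) (.nd (.nd (.lf 491) (.lf 0)) (.nd (.lf 45) (.lf 0))))) (.nd (.nd (.nd (.nd (.lf 392) (.lf 436)) (.nd (.lf 357) (.lf 0))) (.nd (.nd (.lf 253) (.lf 0)) (.nd (.lf 319) (.lf 0)))) (.nd (.nd (.nd (.lf 477) (.lf 241)) (.nd (.lf 577) (.lf 0))) (.nd (.nd (.lf 563) (.lf 0)) (.nd (.lf 573) (.lf 0)))))) (.nd (.nd (.nd (.nd (.nd (.lf 269) (.lf 264)) (.nd (.lf 208) (.lf 0))) (.nd (.nd (.lf 79) (.lf 0)) (.nd (.lf 594) (.lf 0)))) (.nd (.nd (.nd (.lf 532) (.lf 311)) (.nd (.lf 193) (.lf 0))) (.nd (.nd (.lf 327) (.lf 0)) (.nd (.lf 164) (.lf 0))))) (.nd (.nd (.nd (.nd (.lf 28) (.lf 294)) (.nd (.lf 97)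 (.lf 0))) (.nd (.nd (.lf 172) (.lf 0)) (.nd (.lf 561) (.lf 0)))) (.nd (.nd (.nd (.lf 402) (.lf 325)) (.nd (.lf 522) (.lf 0))) (.nd (.nd (.lf 560) (.lf 0)) (.nd (.lf 283) (.lf 0))))))

/-- table part -/
def srtT_11 : Tr :=
  .nd (.nd (.nd (.nd (.nd (.nd (.lf 517) (.lf 422)) (.nd (.lf 639) (.lf 0))) (.nd (.nd (.lf 235) (.lf 0)) (.nd (.lf 71) (.lf 0)))) (.nd (.nd (.nd (.lf 126) (.lf 353)) (.nd (.lf 143) (.lf 0))) (.nd (.nd (.lf 512) (.lf 0)) (.nd (.lf 439) (.lf 0))))) (.nd (.nd (.nd (.nd (.lf 475) (.lf 205)) (.nd (.lf 81) (.lf 0))) (.nd (.nd (.lf 444) (.lf 0)) (.nd (.lf 437) (.lf 0)))) (.nd (.nd (.nd (.lf 228) (.lf 365)) (.nd (.lf 125) (.lf 0))) (.nd (.nd (.lf 212) (.lf 0)) (.nd (.lf 487) (.lf 0)))))) (.nd (.nd (.nd (.nd (.nd (.lf 262) (.lf 162)) (.nd (.lf 255) (.lf 0))) (.nd (.nd (.lf 397) (.lf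 0)) (.nd (.lf 607) (.lf 0)))) (.nd (.nd (.nd (.lf 191) (.lf 454)) (.nd (.lf 303) (.lf 0))) (.nd (.nd (.lf 570) (.lf 0)) (.nd (.lf 14) (.lf 0))))) (.nd (.nd (.nd (.nd (.lf 351) (.lf 552)) (.nd (.lf 73) (.lf 0))) (.nd (.nd (.lf 5) (.lf 0)) (.nd (.lf 538) (.lf 0)))) (.nd (.nd (.nd (.lf 304) (.lf 331)) (.nd (.lf 285) (.lf 0))) (.nd (.nd (.lf 254) (.lf 0)) (.nd (.lf 342) (.lf 0))))))

/-- table part -/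
def srtT_12 : Tr :=
  .nd (.nd (.nd (.nd (.nd (.nd (.lf 218) (.lf 214)) (.nd (.lf 421) (.lf 0))) (.nd (.nd (.lf 426) (.lf 0)) (.nd (.lf 142) (.lf 0)))) (.nd (.nd (.nd (.lf 132) (.lf 553)) (.nd (.lf 59) (.lf 0))) (.nd (.nd (.lf 139) (.lf 0)) (.nd (.lf 431) (.lf 0))))) (.nd (.nd (.nd (.nd (.lf 197) (.lf 117)) (.nd (.lf 53) (.lf 0))) (.nd (.nd (.lf 207) (.lf 0)) (.nd (.lf 124) (.lf 0)))) (.nd (.nd (.nd (.lf 540) (.lf 9)) (.nd (.lf 140) (.lf 0))) (.nd (.nd (.lf 291) (.lf 0)) (.nd (.lf 391) (.lf 0)))))) (.nd (.nd (.nd (.nd (.nd (.lf 598) (.lf 514)) (.nd (.lf 513) (.lf 0))) (.nd (.nd (.lf 230) (.lf 0)) (.nd (.lf 261) (.lf 0)))) (.nd (.nd (.nd (.lf 145) (.lf 460)) (.nd (.lf 625) (.lf 0))) (.nd (.nd (.lf 591) (.lf 0)) (.nd (.lf 134) (.lf 0))))) (.nd (.nd (.nd (.nd (.lf 8) (.lf 233)) (.nd (.lf 213) (.lf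 0))) (.nd (.nd (.lf 464) (.lf 0)) (.nd (.lf 284) (.lf 0)))) (.nd (.nd (.nd (.lf 624) (.lf 292)) (.nd (.lf 539) (.lf 0))) (.nd (.nd (.lf 80) (.lf 0)) (.nd (.lf 120) (.lf 0))))))

/-- table part -/
def srtT_13 : Tr :=
  .nd (.nd (.nd (.nd (.nd (.nd (.lf 186) (.lf 34)) (.nd (.lf 24) (.lf 0))) (.nd (.nd (.lf 472) (.lf 0)) (.nd (.lf 136) (.lf 0)))) (.nd (.nd (.nd (.lf 559) (.lf 85)) (.nd (.lf 466) (.lf 0))) (.nd (.nd (.lf 276) (.lf 0)) (.nd (.lf 535) (.lf 0))))) (.nd (.nd (.nd (.nd (.lf 41) (.lf 181)) (.nd (.lf 605) (.lf 0))) (.nd (.nd (.lf 406) (.lf 0)) (.nd (.lf 557) (.lf 0)))) (.nd (.nd (.nd (.lf 30) (.lf 467)) (.nd (.lf 155) (.lf 0))) (.nd (.nd (.lf 497) (.lf 0)) (.nd (.lf 159) (.lf 0)))))) (.nd (.nd (.nd (.nd (.nd (.lf 635) (.lf 302)) (.nd (.lf 470) (.lf 0))) (.nd (.nd (.lf 492) (.lf 0)) (.nd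 (.lf 251) (.lf 0)))) (.nd (.nd (.nd (.lf 527) (.lf 47)) (.nd (.lf 486) (.lf 0))) (.nd (.nd (.lf 288) (.lf 0)) (.nd (.lf 369) (.lf 0))))) (.nd (.nd (.nd (.nd (.lf 423) (.lf 86)) (.nd (.lf 173) (.lf 0))) (.nd (.nd (.lf 349) (.lf 0)) (.nd (.lf 321) (.lf 0)))) (.nd (.nd (.nd (.lf 420) (.lf 629)) (.nd (.lf 247) (.lf 0))) (.nd (.nd (.lf 20) (.lf 0)) (.nd (.lf 450) (.lf 0))))))

/-- table part -/
def srtT_14 : Tr :=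
  .nd (.nd (.nd (.nd (.nd (.nd (.lf 87) (.lf 548)) (.nd (.lf 40) (.lf 0))) (.nd (.nd (.lf 511) (.lf 0)) (.nd (.lf 382) (.lf 0)))) (.nd (.nd (.nd (.lf 618) (.lf 129)) (.nd (.lf 589) (.lf 0))) (.nd (.nd (.lf 571) (.lf 0)) (.nd (.lf 502) (.lf 0))))) (.nd (.nd (.nd (.nd (.lf 76) (.lf 575)) (.nd (.lf 68) (.lf 0))) (.nd (.nd (.lf 177) (.lf 0)) (.nd (.lf 394) (.lf 0)))) (.nd (.nd (.nd (.lf 43) (.lf 387)) (.nd (.lf 46) (.lf 0))) (.nd (.nd (.lf 196) (.lf 0)) (.nd (.lf 495) (.lf 0)))))) (.nd (.nd (.nd (.nd (.nd (.lf 174) (.lf 621)) (.nd (.lf 272) (.lf 0))) (.nd (.nd (.lf 312) (.lf 0)) (.nd (.lf 1) (.lf 0)))) (.nd (.nd (.nd (.lf 246) (.lf 281)) (.nd (.lf 84) (.lf 0))) (.nd (.nd (.lf 413) (.lf 0)) (.nd (.lf 296) (.lf 0))))) (.nd (.nd (.nd (.nd (.lf 584) (.lf 190)) (.nd (.lf 562) (.lf 0))) (.nd (.nd (.lf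 530) (.lf 0)) (.nd (.lf 258) (.lf 0)))) (.nd (.nd (.nd (.lf 355) (.lf 156)) (.nd (.lf 105) (.lf 0))) (.nd (.nd (.lf 298) (.lf 0)) (.nd (.lf 334) (.lf 0))))))

/-- table part -/
def srtT_15 : Tr :=
  .nd (.nd (.nd (.nd (.nd (.nd (.lf 358) (.lf 596)) (.nd (.lf 367) (.lf 0))) (.nd (.nd (.lf 287) (.lf 0)) (.nd (.lf 588) (.lf 0)))) (.nd (.nd (.nd (.lf 166) (.lf 194)) (.nd (.lf 345) (.lf 0))) (.nd (.nd (.lf 280) (.lf 0)) (.nd (.lf 153) (.lf 0))))) (.nd (.nd (.nd (.nd (.lf 310) (.lf 323)) (.nd (.lf 180) (.lf 0))) (.nd (.nd (.lf 468) (.lf 0)) (.nd (.lf 51) (.lf 0)))) (.nd (.nd (.nd (.lf 440) (.lf 330)) (.nd (.lf 337) (.lf 0))) (.nd (.nd (.lf 601) (.lf 0)) (.nd (.lf 37) (.lf 0)))))) (.nd (.nd (.nd (.nd (.nd (.lf 225) (.lf 95)) (.nd (.lf 408) (.lf 0))) (.nd (.nd (.lf 202) (.lf 0)) (.nd (.lf 583) (.lf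 0)))) (.nd (.nd (.nd (.lf 22) (.lf 109)) (.nd (.lf 496) (.lf 0))) (.nd (.nd (.lf 509) (.lf 0)) (.nd (.lf 82) (.lf 0))))) (.nd (.nd (.nd (.nd (.lf 445) (.lf 25)) (.nd (.lf 473) (.lf 0))) (.nd (.nd (.lf 372) (.lf 0)) (.nd (.lf 104) (.lf 0)))) (.nd (.nd (.nd (.lf 459) (.lf 503)) (.nd (.lf 386) (.lf 0))) (.nd (.nd (.lf 150) (.lf 0)) (.nd (.lf 537) (.lf 0))))))

/-- table part -/
def srtT_16 : Tr :=
  .nd (.nd (.nd (.nd (.nd (.nd (.lf 217) (.lf 348)) (.nd (.lf 416) (.lf 0))) (.nd (.nd (.lf 441) (.lf 0)) (.nd (.lf 115) (.lf 0)))) (.nd (.nd (.nd (.lf 52) (.lf 364)) (.nd (.lf 452) (.lf 0))) (.nd (.nd (.lf 67) (.lf 0)) (.nd (.lf 381) (.lf 0))))) (.nd (.nd (.nd (.nd (.lf 209) (.lf 50)) (.nd (.lf 315) (.lf 0))) (.nd (.nd (.lf 118) (.lf 0)) (.nd (.lf 520) (.lf 0)))) (.nd (.nd (.nd (.lf 106) (.lf 343)) (.nd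 (.lf 371) (.lf 0))) (.nd (.nd (.lf 453) (.lf 0)) (.nd (.lf 339) (.lf 0)))))) (.nd (.nd (.nd (.nd (.nd (.lf 252) (.lf 536)) (.nd (.lf 404) (.lf 0))) (.nd (.nd (.lf 33) (.lf 0)) (.nd (.lf 578) (.lf 0)))) (.nd (.nd (.nd (.lf 498) (.lf 277)) (.nd (.lf 354) (.lf 0))) (.nd (.nd (.lf 23) (.lf 0)) (.nd (.lf 449) (.lf 0))))) (.nd (.nd (.nd (.nd (.lf 239) (.lf 151)) (.nd (.lf 500) (.lf 0))) (.nd (.nd (.lf 168) (.lf 0)) (.nd (.lf 185) (.lf 0)))) (.nd (.nd (.nd (.lf 599) (.lf 267)) (.nd (.lf 403) (.lf 0))) (.nd (.nd (.lf 604) (.lf 0)) (.nd (.lf 257) (.lf 0))))))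

/-- table -/
def srtT : Tr :=
  .nd (.nd (.nd (.nd srtT_1 srtT_2) (.nd srtT_3 srtT_4)) (.nd (.nd srtT_5 srtT_6) (.nd srtT_7 srtT_8))) (.nd (.nd (.nd srtT_9 srtT_10) (.nd srtT_11 srtT_12)) (.nd (.nd srtT_13 srtT_14) (.nd srtT_15 srtT_16)))

/-- coordinates of the generators -/
def gensX : List (ℕ × ℕ × ℕ) := [(0, 45, 1), (0, 101, 0)]

/-- their orders -/
def ords : List ℕ := [5, 5]

/-- coordinates of their inverses -/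
def invsX : List (ℕ × ℕ × ℕ) := [(0, 42, 8), (0, 136, 0)]

end Cfsg.Agent.J2Mult76P2Data
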