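import Cfsg.Agent.Lib.J2Mult76Bound
import Cfsg.Agent.Lib.J2Mult76P2Data

/-!
Checks of the certificate for the multiplier of J2, part P2.
-/

set_option autoImplicit false
set_option maxRecDepth 100000

namespace Cfsg.Agent.J2Mult76P2

open Cfsg.Agent.SplitVoltageCert Cfsg.Agent.J2Mult76Bound Cfsg.Agent.J2Mult76P2Data
  Cfsg.Agent.J2ChainDefs Cfsg.Agent.J2Group Cfsg.Agent.J2Out76 Cfsg.Agent.J2OutData76

theorem cert_core : cert.Core where
  hm := by decide +kernel
  hn := by decide +kernel
  hN := by decide +kernel
  hnpow := by decide +kernel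
  hK := by decide +kernel
  table := by decide +kernel
  tree := by decide +kernel
  rel := by decide +kernel
  edge := by decide +kernel

theorem gens_check : gensOK cert gensX invsX ords = true := by decide +kernel

theorem inj_check : injOK cert.N keyT posT srtT = true := by decide +kernel

theorem fin_check : cert.finCyc k0 2 cs = true := by decide +kernel

/-- the objects: pairs of lines -/
noncomputable def obj (c : ℕ) : Fin 315 × Fin 315 :=
  (⟨get keyT c / 315 % 315, Nat.mod_lt _ (by norm_num)⟩, ⟨get keyT c % 315, Nat.mod_lt _ (by norm_num)⟩)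

/-- the action check -/
noncomputable def actOK : Bool :=
  (List.range cert.N).all fun c => Nat.blt (get keyT c) (315 * 315) && (List.range cert.n).all fun i =>
    Nat.beq (eltF (gensX.getD i (0, 0, 0)) (get keyT c / 315)) (get keyT (cert.nxF i c) / 315) &&
    Nat.beq (eltF (gensX.getD i (0, 0, 0)) (get keyT c % 315)) (get keyT (cert.nxF i c) % 315)

theorem act_check : actOK = true := by decide +kernel

theorem key_lt {c : ℕ} (hc : c < cert.N) : get keyT c < 315 * 315 := by
  have := List.all_eq_true.1 act_check c (List.mem_range.2 hc)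
  simp only [Bool.and_eq_true, Nat.blt_eq] at this
  exact this.1

theorem obj_inj : ∀ c < cert.N, ∀ d < cert.N, obj c = obj d → c = d := by
  intro c hc d hd e
  refine inj_of_injOK inj_check hc hd ?_
  have h1 : get keyT c / 315 % 315 = get keyT d / 315 % 315 := congrArg (fun p => (p.1 : ℕ)) e
  have h2 : get keyT c % 315 = get keyT d % 315 := congrArg (fun p => (p.2 : ℕ)) e
  have := key_lt hc
  have := key_lt hd
  omega

theorem obj_act : ∀ i < cert.n, ∀ c < cert.N, gensF gensX i • obj c = obj (cert.nxF i c) := by
  intro i hi c hc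
  have hlt := key_lt hc
  have hlt' := key_lt (Cert.nxF_lt cert_core hi hc).1
  have h := List.all_eq_true.1 act_check c (List.mem_range.2 hc)
  simp only [Bool.and_eq_true, List.all_eq_true, List.mem_range] at h
  obtain ⟨h1, h2⟩ := h.2 i hi
  have d1 : get keyT c / 315 % 315 = get keyT c / 315 := Nat.mod_eq_of_lt (by omega)
  have d2 : get keyT (cert.nxF i c) / 315 % 315 = get keyT (cert.nxF i c) / 315 := Nat.mod_eq_of_lt (by omega)
  refine Prod.ext (Fin.ext ?_) (Fin.ext ?_)
  · refine (elt_rep (gensX.getD i (0, 0, 0)) _).trans ?_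
    show eltF _ (get keyT c / 315 % 315) = get keyT (cert.nxF i c) / 315 % 315
    rw [d1, d2]; exact Nat.eq_of_beq_eq_true h1
  · exact (elt_rep (gensX.getD i (0, 0, 0)) _).trans (Nat.eq_of_beq_eq_true h2)

/-- Characters of the kernel of a stem extension with values killed by four. -/
theorem bound {Γ : Type} [Group Γ] [Finite Γ] (σ : Γ →* lineGroup) (hσ : Cfsg.IsStemExtension σ)
    {A : Type} [CommGroup A] (hA : ∀ a : A, a ^ 4 = 1) (χ : σ.ker →* A) :
    ∃ u : A, u ^ 2 = 1 ∧ ∀ z : σ.ker, χ z ∈ Subgroup.zpowers u := by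
  obtain ⟨h1, h2⟩ := gens_spec cert cert_core rfl gensX invsX ords gens_check
  exact bound_sub cert cert_core rfl (gensF gensX) ords h1 h2 obj obj_inj obj_act
    (by rw [J2Chain.card_lineGroup]; decide +kernel) hA 2
    (Cert.solution_cyc cert_core fin_check (A := Additive A)
      (fun a => Additive.toMul.injective (by rw [toMul_nsmul, toMul_zero]; exact hA a.toMul))) σ hσ χ

end Cfsg.Agent.J2Mult76P2
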