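import Cfsg.Agent.Lib.J2OrderDefs

set_option autoImplicit false
set_option maxRecDepth 100000

/-! Kernel verification of element exponents for three suborbits. -/

namespace Cfsg.Agent.J2OrderCheck0

open Cfsg.Agent.J2OrderDefs

set_option maxHeartbeats 0 in
theorem check_a : orderCheck 0 = true := by decide +kernel

set_option maxHeartbeats 0 in
theorem check_b : orderCheck 1 = true := by decide +kernel

set_option maxHeartbeats 0 in
theorem check_c : orderCheck 2 = true := by decide +kernel

end Cfsg.Agent.J2OrderCheck0
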