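import Cfsg.Agent.Lib.J2ChainDefs
import Cfsg.Agent.Lib.J2OrderData

set_option autoImplicit false
set_option maxRecDepth 100000

/-! Pointwise evaluation of factorised elements. -/

namespace Cfsg.Agent.J2OrderDefs

open Cfsg.Agent.J2ChainDefs Cfsg.Agent.J2ChainData Cfsg.Agent.J2OrderData

/-- Iterate. -/
def iter (f : ℕ → ℕ) : ℕ → ℕ → ℕ
  | 0, x => x
  | n + 1, x => f (iter f n x)
/-- Representative of a suborbit. -/
def srep (k : ℕ) : ℕ := suborbitReps.getD k 0
/-- The factorised element `T (srep k) * A a * B b` at a point. -/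
def eval (k a b i : ℕ) : ℕ := at9 (t1 (srep k)) (at9 (t2 a) (at9 (t3 b) i))
/-- The exponent for a factorised element. -/
def expOf (k a b : ℕ) : ℕ := orderTops.getD ((orderWitness.getD k 0 >>> (3 * (12 * a + b))) % 8) 0
/-- A power fixes the base. -/
def powerFix (k a b m : ℕ) : Bool :=
  let P := t1 (srep k)
  let A := t2 a
  let B := t3 b
  let f := fun i => at9 P (at9 A (at9 B i))
  Nat.beq (iter f m 0) 0 && Nat.beq (iter f m 106) 106 && Nat.beq (iter f m 1) 1
/-- The order check for one suborbit. -/
def orderCheck (k : ℕ) : Bool :=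
  (List.range 160).all fun a => (List.range 12).all fun b =>
    orderTops.contains (expOf k a b) && powerFix k a b (expOf k a b)

end Cfsg.Agent.J2OrderDefs
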