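import Mathlib

/-!
# Recognition of the Hall–Janko group: finite facts about the alternating group of degree six

Images of `z`, `a 0`, `a 1`, `y` and of the conjugate `q` of `y` in the quotient of the centralizer
of an element of order three.
-/

set_option autoImplicit false
set_option synthInstance.maxSize 100000
set_option synthInstance.maxHeartbeats 1000000
set_option maxHeartbeats 0

namespace Cfsg.Agent.J2RecAlt30

open Equiv Equiv.Perm

/-- `(01)(23)`. -/
def base : Perm (Fin 6) := swap 0 1 * swap 2 3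

theorem exists_conj {P : Perm (Fin 6)} (h2 : P * P = 1) (h1 : P ≠ 1) (hs : sign P = 1) :
    ∃ σ, σ * P * σ⁻¹ = base := by
  have ho : orderOf P = 2 := by
    haveI : Fact (Nat.Prime 2) := ⟨Nat.prime_two⟩
    exact orderOf_eq_prime (by rw [pow_two]; exact h2) h1
  have hall : ∀ n ∈ P.cycleType, n = 2 := by
    intro n hn
    have hd := Multiset.dvd_lcm hn
    rw [lcm_cycleType, ho] at hd
    have h2le := two_le_of_mem_cycleType hn
    have := Nat.le_of_dvd (by norm_num) hd
    omega
  have he : P.cycleType = Multiset.replicate P.cycleType.card 2 :=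
    Multiset.eq_replicate_card.2 hall
  have hsum : P.cycleType.sum ≤ 6 := by
    rw [sum_cycleType]
    exact (Finset.card_le_univ _).trans (by simp)
  have hk : P.cycleType.card = 2 := by
    rw [sign_of_cycleType] at hs
    have hne : P.cycleType.card ≠ 0 := fun e => h1 (cycleType_eq_zero.1 (Multiset.card_eq_zero.1 e))
    have hs2 : P.cycleType.sum = P.cycleType.card * 2 := by
      conv_lhs => rw [he]
      rw [Multiset.sum_replicate, smul_eq_mul]
    rw [hs2] at hsum hs
    have hk3 : P.cycleType.card ≤ 3 := by omega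
    generalize P.cycleType.card = k at hne hk3 hs ⊢
    interval_cases k <;> first | rfl | omega | (exfalso; revert hs; decide)
  have hb : base.cycleType = Multiset.replicate 2 2 := by decide +kernel
  exact isConj_iff.1 (isConj_iff_cycleType_eq.2 (by rw [he, hk, hb]))

set_option maxRecDepth 100000 in
theorem choose_aux : ∀ P0 : Perm (Fin 6), base * P0 = P0 * base → P0 * P0 = 1 → P0 ≠ 1 → P0 ≠ base →
    ∀ B : Perm (Fin 6), base * B = B * base → B * B = 1 → B * P0 * B = base * P0 →
      ∀ Y : Perm (Fin 6), Y * base = P0 * Y → Y * P0 = base * P0 * Y → sign P0 = 1 → sign B = 1 →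
        Y * Y * Y = 1 → ¬ (Y * B * (Y * B) = 1 ∧ Y * base * B * (Y * base * B) = 1) := by
  decide +kernel

set_option maxRecDepth 100000 in
theorem main_aux : ∀ P0 : Perm (Fin 6), base * P0 = P0 * base → P0 * P0 = 1 → P0 ≠ 1 → P0 ≠ base →
    ∀ B : Perm (Fin 6), base * B = B * base → B * B = 1 → B * P0 * B = base * P0 →
      sign P0 = 1 → sign B = 1 →
      ∀ Y : Perm (Fin 6), Y * base = P0 * Y → Y * P0 = base * P0 * Y →
        Y * Y * Y = 1 → Y * B * (Y * B) ≠ 1 →
        ∀ Q : Perm (Fin 6), Q * base = B * Q → Q * B = base * B * Q →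
          Q * Q * Q = 1 → Q * P0 * (Q * P0) ≠ 1 →
          (Q * Y⁻¹ * B * Y * Q⁻¹ * base) * (Q * Y⁻¹ * B * Y * Q⁻¹ * base) *
              (Q * Y⁻¹ * B * Y * Q⁻¹ * base) = 1 ∧
            (Q * Y⁻¹ * B * Y * Q⁻¹ * Y) * (Q * Y⁻¹ * B * Y * Q⁻¹ * Y) = 1 ∧
            ∀ T : Perm (Fin 6), T * T = 1 → T * Y * T = Y * Y → sign T = 1 →
              T * base * T ≠ 1 ∧
              (T * base * T = base ∨ T * base * T = P0 ∨ T * base * T = base * P0 ∨
                ∃ j : Fin 3, ∃ e e' : Bool,
                  (Y ^ (j : ℕ) * (if e then base else 1) * (if e' then P0 else 1)) * T *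
                      (Y ^ (j : ℕ) * (if e then base else 1) * (if e' then P0 else 1))⁻¹ = Q * Y⁻¹ * B * Y * Q⁻¹ ∨
                    (Y ^ (j : ℕ) * (if e then base else 1) * (if e' then P0 else 1)) * T *
                      (Y ^ (j : ℕ) * (if e then base else 1) * (if e' then P0 else 1))⁻¹ = B * (Q * Y⁻¹ * B * Y * Q⁻¹) * B) := by
  decide +kernel

end Cfsg.Agent.J2RecAlt30
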