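import Cfsg.Agent.Lib.J2RecRel30
import Cfsg.Agent.Lib.J2RecAlt30

/-!
# Recognition of the Hall–Janko group: the centralizer of an element of order three

The involution `w = q y⁻¹ a₁ y q⁻¹` lies in `K` or its conjugate under `a₁` does.
-/

set_option autoImplicit false

namespace Cfsg.Agent.J2RecCent30

open Subgroup Cfsg.Agent.LargeExtraspecial Cfsg.Agent.J2TypePoints79 Cfsg.Agent.J2TypeAction79
open Cfsg.Agent.J2RecFrame30 Cfsg.Agent.J2RecRel30

variable {G : Type*} [Group G] [Finite G] {Q : Subgroup G} {z : G} {a : Fin 5 → G}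
variable {x u v y : G} {K : Subgroup G}

theorem changeY (S : Gens Q z a x u v y K) : Gens Q z a x u v (y * z) K := by
  have hzz := zz S
  have e0 : a 0 * z = z * a 0 := az S 0
  have ey : y * z = a 0 * y := mul_inv_eq_iff_eq_mul.1 S.yz
  have ey0 : y * a 0 = z * a 0 * y := mul_inv_eq_iff_eq_mul.1 S.ya
  have eyzinv : (y * z) * z * (y * z)⁻¹ = a 0 := by
    calc (y * z) * z * (y * z)⁻¹ = y * z * y⁻¹ := by group
      _ = a 0 := S.yz
  have eya : (y * z) * a 0 * (y * z)⁻¹ = z * a 0 := by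
    calc (y * z) * a 0 * (y * z)⁻¹ = y * (z * a 0) * z⁻¹ * y⁻¹ := by group
      _ = y * (a 0 * z) * z⁻¹ * y⁻¹ := by rw [e0]
      _ = y * a 0 * y⁻¹ := by group
      _ = _ := S.ya
  set c := z * a 0 with hc
  have hcc : c * c = 1 := by
    rw [hc, show z * a 0 * (z * a 0) = z * (a 0 * z) * a 0 by group, e0,
      ← mul_assoc z z, hzz, one_mul, S.pts.sq]
  have hcy : c * y * c = y * z := by
    calc c * y * c = c * (y * z) * a 0 := by rw [hc]; group
      _ = c * (a 0 * y) * a 0 := by rw [ey]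
      _ = z * (a 0 * a 0) * (y * a 0) := by rw [hc]; group
      _ = (z * z) * (a 0 * y) := by rw [S.pts.sq, mul_one, ey0, hc]; group
      _ = y * z := by rw [hzz, one_mul, ey]
  refine { S with y3 := ?_, yu := ?_, yv := ?_, yx := ?_, yz := eyzinv, ya := eya,
                  yK := mul_mem S.yK S.zK, inverting := ?_ }
  · rw [← hcy, show c * y * c * (c * y * c) * (c * y * c) = c * y * (c * c) * y * (c * c) * y * c
      by group, hcc, show c * y * 1 * y * 1 * y * c = c * (y * y * y) * c by group, S.y3, mul_one,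
      hcc]
  · exact ((show Commute y u from S.yu).mul_left (show Commute z u from S.eu.1.symm)).eq
  · exact ((show Commute y v from S.yv).mul_left (show Commute z v from S.ev.1.symm)).eq
  · exact ((show Commute y x from S.yx).mul_left (show Commute z x from S.ex.1.symm)).eq
  · obtain ⟨t, htK, ht2, hty, htz⟩ := S.inverting
    have hcK : c ∈ K := mul_mem S.zK S.aK
    have hci : c⁻¹ = c := inv_eq_of_mul_eq_one_right hcc
    refine ⟨c * t * c, mul_mem (mul_mem hcK htK) hcK, ?_, ?_, ?_⟩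
    · rw [show c * t * c * (c * t * c) = c * t * (c * c) * t * c by group, hcc, mul_one,
        mul_assoc c t t, ht2, mul_one, hcc]
    · rw [← hcy, show c * t * c * (c * y * c) * (c * t * c) =
        c * t * (c * c) * y * (c * c) * t * c by group, hcc]
      simp only [mul_one]
      rw [show c * t * y * t * c = c * (t * y * t) * c by group, hty,
        show (c * y * c)⁻¹ = c⁻¹ * y⁻¹ * c⁻¹ by group, hci]
    · have hcz : c * z = z * c := by rw [hc, mul_assoc, e0]
      have hca : c * a 0 = a 0 * c := by rw [hc, ← mul_assoc (a 0) z, e0]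
      have e1 : c * t * c * z * (c * t * c) = c * (t * z * t) * c := by
        rw [show c * t * c * z * (c * t * c) = c * t * (c * z) * c * t * c by group, hcz,
          show c * t * (z * c) * c * t * c = c * t * z * (c * c) * t * c by group, hcc, mul_one]
        group
      have key : ∀ w, c * w = w * c → c * (t * z * t) * c = w → t * z * t = w := by
        intro w hw e
        calc t * z * t = (c * c) * (t * z * t) * (c * c) := by rw [hcc, one_mul, mul_one]
          _ = c * (c * (t * z * t) * c) * c := by group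
          _ = c * w * c := by rw [e]
          _ = w * (c * c) := by rw [hw, mul_assoc]
          _ = w := by rw [hcc, mul_one]
      rw [e1]
      rintro (e | e | e)
      exacts [htz (Or.inl (key _ hcz e)), htz (Or.inr (Or.inl (key _ hca e))),
        htz (Or.inr (Or.inr (key c rfl e)))]

/-- All local facts used for the coset enumeration. -/
structure Full (z : G) (a : Fin 5 → G) (x u v h y : G) : Prop where
  hh : h * h * h = 1
  eh : Exact z a h σh
  uh : u * h * (u * h) = 1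
  gx : u * h⁻¹ * x * (u * h⁻¹)⁻¹ * x = 1
  ypair : y * (a 1 * a 2) * y⁻¹ = a 1 * a 3 * (u * v)
  wz : ∀ q w, q = u * h⁻¹ * y * (u * h⁻¹)⁻¹ → w = q * y⁻¹ * a 1 * y * q⁻¹ →
    w * z * (w * z) * (w * z) = 1
  cases : ∀ q w, q = u * h⁻¹ * y * (u * h⁻¹)⁻¹ → w = q * y⁻¹ * a 1 * y * q⁻¹ →
    (w * u = u * w ∧ w * v = v * w ∧ w * y * (w * y) = 1) ∨ a 1 * w * a 1 * u = u * (a 1 * w * a 1)

theorem exists_full (S : Gens Q z a x u v y K) :
    ∃ (y' h : G), Gens Q z a x u v y' K ∧ Full z a x u v h y' := by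
  classical
  set Cx := centralizer ({x} : Set G)
  obtain ⟨φ, hφs, hφ⟩ := S.hom
  have hxz : z * x = x * z := S.ex.1.symm
  have hxa : ∀ p, σx p = p → a p * x = x * a p := fun p hp => by
    have := S.ex.2 p
    rw [hp] at this
    exact (mul_inv_eq_iff_eq_mul.1 this).symm
  let zc : Cx := ⟨z, mem_centralizer_singleton_iff.2 hxz⟩
  let bc : Cx := ⟨a 1, mem_centralizer_singleton_iff.2 (hxa 1 (by decide))⟩
  let ac : Cx := ⟨a 0, mem_centralizer_singleton_iff.2 (hxa 0 (by decide))⟩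
  have hz1 : φ zc ≠ 1 := fun e => by
    obtain ⟨i, hi⟩ := (hφ zc).1 e
    replace hi : x ^ i = z := hi
    exact z_ne S (hi ▸ S.xK i (hi.symm ▸ S.zK))
  obtain ⟨σ, hσ⟩ := J2RecAlt30.exists_conj (P := ((φ zc) : Equiv.Perm (Fin 6)))
    (by
      rw [← Subgroup.coe_mul, ← map_mul, show zc * zc = 1 from Subtype.ext (zz S), map_one]
      rfl)
    (fun e => hz1 (Subtype.ext e)) (φ zc).2
  let ψ : Cx →* Equiv.Perm (Fin 6) :=
    ((MulAut.conj σ).toMonoidHom.comp (alternatingGroup (Fin 6)).subtype).comp φ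
  have hψz : ψ zc = J2RecAlt30.base := by simpa [ψ] using hσ
  have hψ : ∀ w, ψ w = 1 ↔ (w : G) ∈ zpowers x := fun w => by
    rw [← hφ w]
    show σ * (φ w : Equiv.Perm (Fin 6)) * σ⁻¹ = 1 ↔ _
    rw [conj_eq_one_iff, OneMemClass.coe_eq_one]
  have hsign : ∀ w, Equiv.Perm.sign (ψ w) = 1 := fun w => by
    show Equiv.Perm.sign (σ * (φ w : Equiv.Perm (Fin 6)) * σ⁻¹) = 1
    rw [map_mul, map_mul, map_inv, (φ w).2]
    simp
  have hKC : ∀ k ∈ K, k ∈ Cx := fun k hk => mem_centralizer_singleton_iff.2 (S.Kx k hk)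
  have hKinj : ∀ c : Cx, (c : G) ∈ K → ψ c = 1 → (c : G) = 1 := by
    intro c hc e
    obtain ⟨i, hi⟩ := (hψ c).1 e
    replace hi : x ^ i = (c : G) := hi
    rw [← hi]
    exact S.xK i (hi.symm ▸ hc)
  have hb2 : ψ bc * ψ bc = 1 := by
    rw [← map_mul, show bc * bc = 1 from Subtype.ext (S.pts.sq 1), map_one]
  have ha2 : ψ ac * ψ ac = 1 := by
    rw [← map_mul, show ac * ac = 1 from Subtype.ext (S.pts.sq 0), map_one]
  have ha1 : ψ ac ≠ 1 := fun e => (S.pts.ne 0).1 (hKinj ac S.aK e)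
  have hab : ψ ac ≠ J2RecAlt30.base := fun e => by
    have h1 := hKinj (zc * ac) (mul_mem S.zK S.aK) (by
      rw [map_mul, e, ← hψz, ← map_mul, show zc * zc = 1 from Subtype.ext (zz S), map_one])
    refine (S.pts.ne 0).2 ?_
    have h2 : a 0 = z⁻¹ := eq_inv_of_mul_eq_one_right h1
    rw [h2]
    exact inv_eq_of_mul_eq_one_right (zz S)
  have hza : J2RecAlt30.base * ψ ac = ψ ac * J2RecAlt30.base := by
    rw [← hψz, ← map_mul, ← map_mul]; exact congrArg ψ (Subtype.ext (az S 0).symm)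
  have hzb : J2RecAlt30.base * ψ bc = ψ bc * J2RecAlt30.base := by
    rw [← hψz, ← map_mul, ← map_mul]; exact congrArg ψ (Subtype.ext (az S 1).symm)
  have hbab : ψ bc * ψ ac * ψ bc = J2RecAlt30.base * ψ ac := by
    rw [← hψz, ← map_mul, ← map_mul, ← map_mul]
    exact congrArg ψ (Subtype.ext (anti' S (show (1 : Fin 5) ≠ 0 by decide)))
  -- choose `y`
  have hYeq : ∀ (y₁ : G) (S₁ : Gens Q z a x u v y₁ K) (Y : Cx), (Y : G) = y₁ →
      ψ Y * J2RecAlt30.base = ψ ac * ψ Y ∧ ψ Y * ψ ac = J2RecAlt30.base * ψ ac * ψ Y ∧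
        ψ Y * ψ Y * ψ Y = 1 := by
    intro y₁ S₁ Y hY
    refine ⟨?_, ?_, ?_⟩
    · rw [← hψz, ← map_mul, ← map_mul]
      refine congrArg ψ (Subtype.ext ?_)
      show (Y : G) * z = a 0 * Y
      rw [hY]; exact mul_inv_eq_iff_eq_mul.1 S₁.yz
    · rw [← hψz, ← map_mul, ← map_mul, ← map_mul]
      refine congrArg ψ (Subtype.ext ?_)
      show (Y : G) * a 0 = z * a 0 * Y
      rw [hY]; exact mul_inv_eq_iff_eq_mul.1 S₁.ya
    · rw [← map_mul, ← map_mul, show Y * Y * Y = 1 from Subtype.ext (by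
        show (Y : G) * Y * Y = 1
        rw [hY]; exact S₁.y3), map_one]
  let yc : Cx := ⟨y, mem_centralizer_singleton_iff.2 S.yx⟩
  obtain ⟨y', S', Y, hY, hYB⟩ : ∃ (y' : G) (_ : Gens Q z a x u v y' K) (Y : Cx),
      (Y : G) = y' ∧ ψ Y * ψ bc * (ψ Y * ψ bc) ≠ 1 := by
    by_cases h1 : ψ yc * ψ bc * (ψ yc * ψ bc) = 1
    · refine ⟨y * z, changeY S, yc * zc, rfl, fun h2 => ?_⟩
      rw [map_mul, hψz] at h2
      obtain ⟨e1, e2, e3⟩ := hYeq y S yc rfl
      exact J2RecAlt30.choose_aux _ hza ha2 ha1 hab _ hzb hb2 hbab _ e1 e2 (hsign _) (hsign _)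
        e3 ⟨h1, h2⟩
    · exact ⟨y, S, yc, rfl, h1⟩
  obtain ⟨eY1, eY2, eY3⟩ := hYeq y' S' Y hY
  clear hYeq
  -- the element `g`
  obtain ⟨h, hh, eh⟩ := exists_h S'
  have hhi : h⁻¹ * h⁻¹ * h⁻¹ = 1 := by
    rw [← mul_inv_rev, ← mul_inv_rev, ← mul_assoc, hh, inv_one]
  have hui : u⁻¹ = u := inv_eq_of_mul_eq_one_right S.uu
  have uhu : u * h * u⁻¹ = h⁻¹ := by
    refine exact_eq_three S ((S.eu.conj eh).congr (by decide)) (eh.inv.congr rfl) ?_ hhi
    rw [show u * h * u⁻¹ * (u * h * u⁻¹) * (u * h * u⁻¹) = u * (h * h * h) * u⁻¹ by group, hh]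
    group
  set g := u * h⁻¹ with hg
  have eg : Exact z a g (σu * σh⁻¹) := S.eu.mul eh.inv
  have hx3i : x⁻¹ * x⁻¹ * x⁻¹ = 1 := by
    rw [← mul_inv_rev, ← mul_inv_rev, ← mul_assoc, S.x3, inv_one]
  have gxg : g * x * g⁻¹ = x⁻¹ := by
    refine exact_eq_three S ((eg.conj S.ex).congr (by decide)) (S.ex.inv.congr rfl) ?_ hx3i
    rw [show g * x * g⁻¹ * (g * x * g⁻¹) * (g * x * g⁻¹) = g * (x * x * x) * g⁻¹ by group, S.x3]
    group
  set q := g * y' * g⁻¹ with hq
  set w := q * y'⁻¹ * a 1 * y' * q⁻¹ with hw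
  have hqx : q * x = x * q := by
    have e : g * x⁻¹ * g⁻¹ = x := by
      have h1 := congrArg Inv.inv gxg
      simpa [mul_assoc] using h1
    rw [hq, show g * y' * g⁻¹ * x = g * y' * (g⁻¹ * x * g) * g⁻¹ by group,
      show g⁻¹ * x * g = x⁻¹ by nth_rw 1 [← e]; group]
    calc g * y' * x⁻¹ * g⁻¹ = g * (x⁻¹ * y') * g⁻¹ := by
          rw [mul_assoc g y', (show Commute y' x⁻¹ from (show Commute y' x from S'.yx).inv_right).eq]
      _ = (g * x⁻¹ * g⁻¹) * (g * y' * g⁻¹) := by group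
      _ = _ := by rw [e]
  let qc : Cx := ⟨q, mem_centralizer_singleton_iff.2 hqx⟩
  have g0 : g * a 0 * g⁻¹ = a 1 := eg.2 0
  have g1 : g * a 1 * g⁻¹ = a 0 := eg.2 1
  have gz : g * z * g⁻¹ = z := mul_inv_eq_iff_eq_mul.2 eg.1
  have q1 : ψ qc * J2RecAlt30.base = ψ bc * ψ qc := by
    rw [← hψz, ← map_mul, ← map_mul]
    refine congrArg ψ (Subtype.ext (mul_inv_eq_iff_eq_mul.1 ?_))
    show q * z * q⁻¹ = a 1
    calc q * z * q⁻¹ = g * y' * (g⁻¹ * z * g) * y'⁻¹ * g⁻¹ := by rw [hq]; group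
      _ = g * (y' * z * y'⁻¹) * g⁻¹ := by
        rw [show g⁻¹ * z * g = z by rw [mul_assoc, ← eg.1, ← mul_assoc, inv_mul_cancel, one_mul]]
        group
      _ = a 1 := by rw [S'.yz, g0]
  have q2 : ψ qc * ψ bc = J2RecAlt30.base * ψ bc * ψ qc := by
    rw [← hψz, ← map_mul, ← map_mul, ← map_mul]
    refine congrArg ψ (Subtype.ext (mul_inv_eq_iff_eq_mul.1 ?_))
    show q * a 1 * q⁻¹ = z * a 1
    calc q * a 1 * q⁻¹ = g * y' * (g⁻¹ * a 1 * g) * y'⁻¹ * g⁻¹ := by rw [hq]; group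
      _ = g * (y' * a 0 * y'⁻¹) * g⁻¹ := by rw [← g0]; group
      _ = (g * z * g⁻¹) * (g * a 0 * g⁻¹) := by rw [S'.ya]; group
      _ = _ := by rw [gz, g0]
  have q3 : ψ qc * ψ qc * ψ qc = 1 := by
    rw [← map_mul, ← map_mul, show qc * qc * qc = 1 from Subtype.ext (by
      show q * q * q = 1
      rw [hq, show g * y' * g⁻¹ * (g * y' * g⁻¹) * (g * y' * g⁻¹) = g * (y' * y' * y') * g⁻¹ by
        group, S'.y3]
      group), map_one]
  have q4 : ψ qc * ψ ac * (ψ qc * ψ ac) ≠ 1 := by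
    intro e
    apply hYB
    rw [← map_mul, ← map_mul, hψ] at e
    rw [← map_mul, ← map_mul, hψ]
    obtain ⟨i, hi⟩ := e
    replace hi : x ^ i = q * a 0 * (q * a 0) := hi
    refine ⟨-i, ?_⟩
    show x ^ (-i) = (Y : G) * a 1 * (Y * a 1)
    have e2 : g⁻¹ * x * g⁻¹⁻¹ = x⁻¹ := by
      calc g⁻¹ * x * g⁻¹⁻¹ = g⁻¹ * x⁻¹⁻¹ * g := by group
        _ = g⁻¹ * (g * x * g⁻¹)⁻¹ * g := by rw [gxg]
        _ = x⁻¹ := by group
    rw [hY, zpow_neg, ← inv_zpow, ← e2, conj_zpow, hi, hq, ← g1]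
    group
  obtain ⟨t, htK, ht2, hty, htz⟩ := S'.inverting
  let tc : Cx := ⟨t, hKC t htK⟩
  have hT1 : ψ tc * ψ tc = 1 := by
    rw [← map_mul, show tc * tc = 1 from Subtype.ext ht2, map_one]
  have hT2 : ψ tc * ψ Y * ψ tc = ψ Y * ψ Y := by
    rw [← map_mul, ← map_mul, ← map_mul]
    refine congrArg ψ (Subtype.ext ?_)
    show t * Y * t = (Y : G) * Y
    rw [hY, hty, inv_eq_of_mul_eq_one_left (show y' * y' * y' = 1 from S'.y3)]
  obtain ⟨hwp, hwy, hT⟩ := J2RecAlt30.main_aux _ hza ha2 ha1 hab _ hzb hb2 hbab (hsign _) (hsign _)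
    _ eY1 eY2 eY3 hYB _ q1 q2 q3 q4
  obtain ⟨-, hTc⟩ := hT _ hT1 hT2 (hsign _)
  set wc : Cx := qc * Y⁻¹ * bc * Y * qc⁻¹ with hwc
  have hwcG : (wc : G) = w := by simp [hwc, hw, hY, qc, bc]
  have hψw : ψ wc = ψ qc * (ψ Y)⁻¹ * ψ bc * ψ Y * (ψ qc)⁻¹ := by
    simp [hwc, map_mul, map_inv]
  rw [← hψz, ← hψw] at hTc hwp
  rw [← hψw] at hwy
  have hw2 : w * w = 1 := by
    rw [hw, show q * y'⁻¹ * a 1 * y' * q⁻¹ * (q * y'⁻¹ * a 1 * y' * q⁻¹) =
      q * y'⁻¹ * (a 1 * a 1) * y' * q⁻¹ by group, S.pts.sq]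
    group
  have hwx : w * x = x * w := hwcG ▸ mem_centralizer_singleton_iff.1 wc.2
  have inv_t : ∀ c : Cx, (c : G) ∈ K → ∀ d : G, d * d = 1 → d * x = x * d → ∀ dc : Cx,
      (dc : G) = d → ψ (c * tc * c⁻¹) = ψ dc → d ∈ K := by
    intro c hc d hd hdx dc hdc e
    have h1 : ((c * tc * c⁻¹ : Cx) : G) * d⁻¹ ∈ zpowers x := by
      have := (hψ (c * tc * c⁻¹ * dc⁻¹)).1 (by rw [map_mul _ (c * tc * c⁻¹), e, map_inv, mul_inv_cancel])
      rw [← hdc]
      exact this
    have h2 := J2TypeThree79.invol_unique S.ordx (show ((c * tc * c⁻¹ : Cx) : G) *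
      ((c * tc * c⁻¹ : Cx) : G) = 1 by
        show (c : G) * t * (c : G)⁻¹ * ((c : G) * t * (c : G)⁻¹) = 1
        rw [show (c : G) * t * (c : G)⁻¹ * ((c : G) * t * (c : G)⁻¹) = c * (t * t) * (c : G)⁻¹ by
          group, ht2]
        group) hd hdx h1
    rw [← h2]
    exact mul_mem (mul_mem hc htK) (inv_mem hc)
  have hor : w ∈ K ∨ a 1 * w * a 1 ∈ K := by
    rcases hTc with e | e | e | ⟨j, b1, b2, e⟩
    · exfalso
      refine htz (Or.inl ?_)
      have := hKinj (tc * zc * tc * zc⁻¹) (mul_mem (mul_mem (mul_mem htK S.zK) htK) (inv_mem S.zK))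
        (by rw [map_mul, map_mul, map_mul, map_inv, e, mul_inv_cancel])
      exact mul_inv_eq_one.1 this
    · exfalso
      refine htz (Or.inr (Or.inl ?_))
      have := hKinj (tc * zc * tc * ac⁻¹) (mul_mem (mul_mem (mul_mem htK S.zK) htK) (inv_mem S.aK))
        (by rw [map_mul, map_mul, map_mul, map_inv, e, mul_inv_cancel])
      exact mul_inv_eq_one.1 this
    · exfalso
      refine htz (Or.inr (Or.inr ?_))
      have := hKinj (tc * zc * tc * (zc * ac)⁻¹) (mul_mem (mul_mem (mul_mem htK S.zK) htK)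
        (inv_mem (mul_mem S.zK S.aK)))
        (by rw [map_mul, map_mul, map_mul, map_inv, map_mul, e, mul_inv_cancel])
      exact mul_inv_eq_one.1 this
    · set c : Cx := Y ^ (j : ℕ) * (if b1 then zc else 1) * (if b2 then ac else 1) with hc
      have hcK : (c : G) ∈ K := by
        rw [hc, Subgroup.coe_mul, Subgroup.coe_mul, SubmonoidClass.coe_pow, hY]
        refine mul_mem (mul_mem (pow_mem S'.yK _) ?_) ?_
        · split_ifs
          exacts [S.zK, one_mem _]
        · split_ifs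
          exacts [S.aK, one_mem _]
      have hψc : ψ c = ψ Y ^ (j : ℕ) * (if b1 then ψ zc else 1) * (if b2 then ψ ac else 1) := by
        rw [hc, map_mul, map_mul, map_pow, apply_ite ψ, apply_ite ψ, map_one]
      rw [← hψc, ← map_inv, ← map_mul, ← map_mul] at e
      rcases e with e | e
      · exact Or.inl (inv_t c hcK w hw2 hwx wc hwcG e)
      · rw [← map_mul, ← map_mul] at e
        refine Or.inr (inv_t c hcK _ ?_ ?_ (bc * wc * bc) ?_ e)
        · rw [show a 1 * w * a 1 * (a 1 * w * a 1) = a 1 * w * (a 1 * a 1) * w * a 1 by group,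
            S.pts.sq, mul_one, mul_assoc (a 1) w w, hw2, mul_one, S.pts.sq]
        · have c1 : Commute (a 1) x := hxa 1 (by decide)
          exact ((c1.mul_left hwx).mul_left c1).eq
        · simp [hwcG, bc]
  refine ⟨y', h, S', ⟨hh, eh, ?_, ?_, y_pair S', ?_, ?_⟩⟩
  · rw [show u * h * (u * h) = (u * h * u) * h by group]
    nth_rw 2 [← hui]
    rw [uhu, inv_mul_cancel]
  · rw [← hg, gxg, inv_mul_cancel]
  · intro q₀ w₀ e₁ e₂
    subst e₁
    rw [← hq, ← hw] at e₂
    subst e₂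
    rcases hor with hK | hK
    · have := hKinj (wc * zc * (wc * zc) * (wc * zc)) (by
        have hm : w * z ∈ K := mul_mem hK S.zK
        show (wc : G) * z * ((wc : G) * z) * ((wc : G) * z) ∈ K
        rw [hwcG]; exact mul_mem (mul_mem hm hm) hm) (by simpa [map_mul] using hwp)
      simpa [hwcG, zc] using this
    · set d := bc * (wc * zc * (wc * zc) * (wc * zc)) * bc with hd_def
      have hdG : (d : G) = (a 1 * w * a 1 * z) * (a 1 * w * a 1 * z) * (a 1 * w * a 1 * z) := by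
        simp only [hd_def, Subgroup.coe_mul, hwcG]
        show a 1 * (w * z * (w * z) * (w * z)) * a 1 = _
        rw [show a 1 * w * a 1 * z = a 1 * w * (a 1 * z) by group, az S 1]
        simp only [mul_assoc]
        rw [← mul_assoc (a 1) (a 1), S.pts.sq, one_mul, ← mul_assoc (a 1) (a 1), S.pts.sq, one_mul]
      have := hKinj d (by
        rw [hdG]
        have hm : a 1 * w * a 1 * z ∈ K := mul_mem hK S.zK
        exact mul_mem (mul_mem hm hm) hm) (by
          rw [hd_def, map_mul, map_mul, map_mul _ (wc * zc * (wc * zc)), map_mul _ (wc * zc),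
            map_mul, hwp, mul_one, hb2])
      rw [hd_def, Subgroup.coe_mul, Subgroup.coe_mul] at this
      have hb : ((bc : Cx) : G) = a 1 := rfl
      rw [hb] at this
      simp only [Subgroup.coe_mul, hwcG] at this
      calc w * z * (w * z) * (w * z)
          = (a 1 * a 1) * (w * z * (w * z) * (w * z)) * (a 1 * a 1) := by
            rw [S.pts.sq, one_mul, mul_one]
        _ = a 1 * (a 1 * (w * z * (w * z) * (w * z)) * a 1) * a 1 := by group
        _ = a 1 * a 1 := by rw [this, mul_one]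
        _ = 1 := S.pts.sq 1
  · intro q₀ w₀ e₁ e₂
    subst e₁
    rw [← hq, ← hw] at e₂
    subst e₂
    rcases hor with hK | hK
    · refine Or.inl ⟨S.Ku _ hK, S.Kv _ hK, ?_⟩
      have := hKinj (wc * Y * (wc * Y)) (by
        have hm : w * y' ∈ K := mul_mem hK S'.yK
        show (wc : G) * Y * ((wc : G) * Y) ∈ K
        rw [hwcG, hY]; exact mul_mem hm hm) (by simpa [map_mul] using hwy)
      simpa [hwcG, hY] using this
    · exact Or.inr (S.Ku _ hK)

end Cfsg.Agent.J2RecCent30
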