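import Cfsg.Agent.Lib.J2TypeThreeH79
import Cfsg.Agent.S3035
import Cfsg.Agent.Lib.FourCentralizer

/-!
# Groups of Hall–Janko type: centralizers of elements of order three

`x` centralises `K`, normalises `W` and moves `u`; `C(x)` has order `1080` with
`C(x)/⟨x⟩ ≅ A₆`. The element `y ∈ K` has a centralizer of order `36` or `180`.
-/

set_option autoImplicit false

namespace Cfsg.Agent.J2TypeThree79

open Subgroup Cfsg.Agent.LargeExtraspecial Cfsg.Agent.J2TypePoints79 Cfsg.Agent.J2TypeAction79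
open Cfsg.Agent.J2TypeFour79 Cfsg.Agent.J2TypeClasses79 Cfsg.Agent.J2TypeCyc79
open Cfsg.Agent.J2TypeCent79 Cfsg.Agent.J2TypeKernel79 Cfsg.Agent.J2TypeNorm79
open Cfsg.Agent.J2TypeThreeH79 Cfsg.Agent.J2TypeOrder79

variable {G : Type*} [Group G] [Finite G] {Q : Subgroup G} {z : G} {a : Fin 5 → G} {u u' y : G}

omit [Finite G] in
/-- A coset of an odd cyclic central subgroup has at most one involution. -/
theorem invol_unique {x s t : G} (hx : orderOf x = 3) (hs : s * s = 1) (ht : t * t = 1)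
    (htx : t * x = x * t) (h : s * t⁻¹ ∈ zpowers x) : s = t := by
  obtain ⟨i, hi⟩ := h
  replace hi : x ^ i = s * t⁻¹ := hi
  have e : s = x ^ i * t := by rw [hi, inv_mul_cancel_right]
  have hc : Commute t (x ^ i) := (show Commute t x from htx).zpow_right i
  have h2 : (x ^ i) * (x ^ i) = 1 := by
    calc x ^ i * x ^ i = x ^ i * x ^ i * (t * t) := by rw [ht, mul_one]
      _ = x ^ i * (x ^ i * t) * t := by group
      _ = x ^ i * (t * x ^ i) * t := by rw [hc.eq]
      _ = (x ^ i * t) * (x ^ i * t) := by group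
      _ = 1 := by rw [← e, hs]
  have h3 : (x ^ i) ^ 3 = 1 := by
    rw [← zpow_natCast, ← zpow_mul, mul_comm, zpow_mul, zpow_natCast,
      orderOf_dvd_iff_pow_eq_one.1 (dvd_of_eq hx), one_zpow]
  have h1 : x ^ i = 1 := by
    rw [pow_succ, pow_two, h2, one_mul] at h3
    exact h3
  rw [e, h1, one_mul]

omit [Finite G] in
/-- An element whose image modulo a central subgroup of order three squares to one has an
involution or the identity in its coset. -/
theorem exists_lift {x t : G} (hx : orderOf x = 3) (htx : t * x = x * t)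
    (h : t * t ∈ zpowers x) : (t ^ 3) * (t ^ 3) = 1 ∧ t⁻¹ * t ^ 3 ∈ zpowers x ∧
      t ^ 3 * x = x * t ^ 3 := by
  refine ⟨?_, ?_, (show Commute t x from htx).pow_left 3 |>.eq⟩
  · obtain ⟨i, hi⟩ := h
    replace hi : x ^ i = t * t := hi
    rw [show t ^ 3 * t ^ 3 = (t * t) ^ 3 by simp [pow_succ, mul_assoc],
      ← hi, ← zpow_natCast, ← zpow_mul, mul_comm, zpow_mul, zpow_natCast,
      orderOf_dvd_iff_pow_eq_one.1 (dvd_of_eq hx), one_zpow]
  · rwa [show t⁻¹ * t ^ 3 = t * t by rw [pow_succ, pow_two]; group]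

omit [Finite G] in
theorem mem_zpowers_comm {w x c : G} (h : w * x = x * w) (hc : c ∈ zpowers x) : Commute w c := by
  obtain ⟨i, rfl⟩ := hc
  exact (show Commute w x from h).zpow_right i

section

variable (C : Cyc Q z a u u' y) {K : Subgroup G} (hK : Kern C K) (h60 : Nat.card K = 60)
include C hK h60

/-- `x` has order three, centralises `K`, normalises `W` and moves `u`. -/
structure Elt (x : G) : Prop where
  ord : orderOf x = 3
  cK : ∀ k ∈ K, x * k = k * x
  norm : x ∈ normalizer (W C : Set G)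
  move : ¬ x * u = u * x

theorem norm_two {n : G} (hn : n ∈ normalizer (W C : Set G)) (h : n * n * u = u * (n * n)) :
    n * u = u * n := by
  set v := n * u * n⁻¹
  have hv : v ∈ W C := (mem_normalizer_iff.1 hn u).1 (u_mem_W C)
  by_cases e : v = u
  · exact mul_inv_eq_iff_eq_mul.1 e
  exfalso
  have h1 : n * v * n⁻¹ = u := by
    calc n * (n * u * n⁻¹) * n⁻¹ = (n * n * u) * (n * n)⁻¹ := by group
      _ = u := by rw [h, mul_inv_cancel_right]
  have hcomm : u * v = v * u := D_comm C.loc (u_mem_D C) hv.1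
  have huv : u * v ≠ 1 := fun e' => e (by rw [eq_inv_of_mul_eq_one_right e', invu C.loc])
  have h4 : n * (u * v) * n⁻¹ = u * v := by
    rw [show n * (u * v) * n⁻¹ = (n * u * n⁻¹) * (n * v * n⁻¹) by group, h1]
    exact hcomm.symm
  have h5 : n ∈ centralizer ({u * v} : Set G) :=
    mem_centralizer_singleton_iff.2 (mul_inv_eq_iff_eq_mul.1 h4)
  rw [cent_W_elt C hK h60 (mul_mem (u_mem_W C) hv) huv] at h5
  exact e (mul_inv_eq_iff_eq_mul.2 (mem_centralizer_singleton_iff.1 h5))

theorem exists_elt : ∃ x, Elt C (K := K) x := by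
  haveI : Fact (Nat.Prime 3) := ⟨Nat.prime_three⟩
  obtain ⟨g, hgW, hw, hwu, hgK⟩ := exists_mover C hK h60
  have hgu : ¬ g * u = u * g := fun e => hwu (mul_inv_eq_iff_eq_mul.2 e)
  have hg2 : ¬ g * g * u = u * (g * g) := fun e => hgu (norm_two C hK h60 hgW e)
  have hc : ∀ k ∈ K, Commute g k := fun k hk => (mem_centralizer_iff.1 hgK k hk).symm
  have h3W : g ^ 3 ∈ W C := by
    obtain ⟨j, hj⟩ := norm_cases3 C hK h60 hgW hw rfl hwu (pow_mem hgW 3)
    have key := mem_centralizer_singleton_iff.1 hj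
    have hg3 : g ^ 3 * u = u * g ^ 3 := by
      obtain ⟨j, hj'⟩ := j
      interval_cases j
      · simpa using key
      · exfalso
        refine hg2 ?_
        simpa [pow_succ, mul_assoc] using key
      · exfalso
        refine hgu ?_
        simpa [pow_succ, mul_assoc] using key
    obtain ⟨v, hv, hvc⟩ := hK.decomp _ hg3
    have h1 : ∀ k ∈ K, v * g ^ 3 * k = k * (v * g ^ 3) := fun k hk =>
      (Commute.mul_left (show Commute v k from W_comm hK h60 hv hk) ((hc k hk).pow_left 3)).eq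
    have hV := cent_mem_V hK (z_mem_V C.loc) (z_ne C) hvc (h1 z (z_mem_K hK))
    have e := W_inf C hK ((mem_W C).2 ⟨V_le_D C.loc hV, h1 y hK.ymem⟩) hvc
    rw [eq_inv_of_mul_eq_one_right e]
    exact inv_mem hv
  refine ⟨g * g, orderOf_eq_prime ?_ fun e => hg2 (by rw [e, one_mul, mul_one]),
    fun k hk => ((hc k hk).mul_left (hc k hk)).eq, mul_mem hgW hgW, hg2⟩
  rw [← pow_two, ← pow_mul, show 2 * 3 = 3 * 2 from rfl, pow_mul, pow_two]
  exact W_sq C h3W

/-- Elements of order three centralising a conjugate of `z` form one class. -/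
theorem three_conj {x c t : G} (X : Elt C (K := K) x) (hc : orderOf c = 3) (ht : IsConj z t)
    (hct : c * t = t * c) : IsConj x c ∧
      Nat.card ↥(centralizer ({c} : Set G) ⊓ centralizer ({t} : Set G)) = 24 := by
  have F := C.loc.fr
  obtain ⟨g, rfl⟩ := isConj_iff.1 ht
  obtain ⟨p, q, T⟩ := exists_fix3 F X.ord (X.cK z (z_mem_K hK))
  have hord : orderOf (g⁻¹ * c * g) = 3 := by
    rw [← hc, ← MulEquiv.orderOf_eq (MulAut.conj g) (g⁻¹ * c * g)]
    simp [MulAut.conj_apply, mul_assoc]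
  have hcz : g⁻¹ * c * g * z = z * (g⁻¹ * c * g) := by
    calc g⁻¹ * c * g * z = g⁻¹ * (c * (g * z * g⁻¹)) * g := by group
      _ = _ := by rw [hct]; group
  obtain ⟨h, -, he⟩ := conj_H F T hord hcz
  refine ⟨isConj_iff.2 ⟨g * h, by
    calc g * h * x * (g * h)⁻¹ = g * (h * x * h⁻¹) * g⁻¹ := by group
      _ = c := by rw [he]; group⟩, ?_⟩
  obtain ⟨p', q', T'⟩ := exists_fix3 F hord hcz
  have e : c = g * (g⁻¹ * c * g) * g⁻¹ := by group
  conv_lhs => rw [e, centralizer_conj, centralizer_conj]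
  rw [← map_inf _ _ _ (MulAut.conj g).injective, card_map_of_injective (MulAut.conj g).injective]
  exact J2TypeThreeH79.card_cent F T'

variable {x : G} (X : Elt C (K := K) x)
include X

theorem x_z : x * z = z * x := X.cK z (z_mem_K hK)

theorem x_a : x * a 0 = a 0 * x := X.cK _ (V_le_K hK (a_mem_V C.loc))

theorem x_notMem_K {i : ℤ} (h : x ^ i ∈ K) : x ^ i = 1 := by
  by_contra hne
  have h1 : Commute (x ^ i) u := hK.le _ h
  have h2 : x ∈ zpowers (x ^ i) := by
    have hle : zpowers (x ^ i) ≤ zpowers x := zpowers_le.2 (zpow_mem (mem_zpowers x) i)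
    have hd := card_dvd_of_le hle
    rw [Nat.card_zpowers, Nat.card_zpowers, X.ord] at hd
    rcases (Nat.dvd_prime Nat.prime_three).1 hd with e | e
    · exact absurd (orderOf_eq_one_iff.1 e) hne
    · rw [eq_of_le_of_card_ge hle (by rw [Nat.card_zpowers, Nat.card_zpowers, X.ord, e])]
      exact mem_zpowers x
  obtain ⟨n, hn⟩ := h2
  exact X.move (by rw [← hn]; exact (h1.zpow_left n).eq)

theorem invol_cx {t : G} (htx : t * x = x * t) (ht : t * t = 1) (h1 : t ≠ 1) : IsConj z t := by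
  classical
  haveI : Fact (Nat.Prime 2) := ⟨Nat.prime_two⟩
  have F := C.loc.fr
  obtain ⟨p, q, T⟩ := exists_fix3 F X.ord (x_z C hK h60 X)
  set Cx := centralizer ({x} : Set G)
  have hEc := E_le_cent F T
  have hE : IsPGroup 2 ↥((E a p q).subgroupOf Cx) := IsPGroup.of_card (n := 3) (by
    rw [Nat.card_congr (subgroupOfEquivOfLe hEc).toEquiv, card_E F T]; norm_num)
  obtain ⟨S, hS⟩ := hE.exists_le_sylow
  have hSE : (E a p q).subgroupOf Cx = S := by
    by_contra hne
    haveI := S.2.isNilpotent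
    obtain ⟨n, hn, hn'⟩ := SetLike.exists_of_lt
      (Group.normalizerCondition_of_isNilpotent (G := (S : Subgroup Cx))
        (((E a p q).subgroupOf Cx).subgroupOf S)
        (lt_top_iff_ne_top.2 fun e => hne (le_antisymm hS (subgroupOf_eq_top.1 e))))
    refine hn' ?_
    have hnorm : ∀ w ∈ E a p q, (n : G) * w * (n : G)⁻¹ ∈ E a p q := fun w hw =>
      (mem_normalizer_iff.1 hn ⟨⟨w, hEc hw⟩, hS hw⟩).1 hw
    have hnorm' : ∀ w ∈ E a p q, (n : G)⁻¹ * w * n ∈ E a p q := fun w hw =>
      (mem_normalizer_iff''.1 hn ⟨⟨w, hEc hw⟩, hS hw⟩).1 hw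
    have hzc : ∀ w ∈ E a p q, (n : G) * z * (n : G)⁻¹ * w = w * ((n : G) * z * (n : G)⁻¹) := by
      intro w hw
      have h2 := F.comm_z (E_le_Q F T (hnorm' w hw))
      calc (n : G) * z * (n : G)⁻¹ * w = n * (z * ((n : G)⁻¹ * w * n)) * (n : G)⁻¹ := by group
        _ = _ := by rw [← h2]; group
    have hnz : (n : G) * z = z * n := by
      rcases center_E F T (hnorm z (z_mem_E F T)) (hzc _ (subset_closure (by simp)))
        (hzc _ (subset_closure (by simp))) with e | e
      · exact absurd (conj_eq_one_iff.1 e) (z_ne C)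
      · exact mul_inv_eq_iff_eq_mul.1 e
    obtain ⟨k, e, he, hk⟩ := J2TypeThreeH79.cent_H F T hnz
      (mem_centralizer_singleton_iff.1 (n : Cx).2)
    have hk1 : x ^ k = 1 := by
      have h2 : ((n : Cx) : G) * e⁻¹ = x ^ k := by rw [hk, mul_inv_cancel_right]
      obtain ⟨m, hm⟩ := S.2 (n * ⟨⟨e⁻¹, inv_mem (hEc he)⟩,
        hS (show e⁻¹ ∈ E a p q from inv_mem he)⟩)
      have h3 := congrArg (fun w : S => ((w : Cx) : G)) hm
      simp only [SubmonoidClass.coe_pow, Subgroup.coe_mul, coe_one] at h3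
      rw [h2] at h3
      refine TransferPow.eq_one_of_pow_eq_one_of_coprime (m := 2 ^ m) (n := 3) h3 ?_
        (Nat.Coprime.pow_left _ (by norm_num))
      rw [← pow_mul, mul_comm, pow_mul, orderOf_dvd_iff_pow_eq_one.1 (dvd_of_eq X.ord), one_pow]
    show (n : G) ∈ E a p q
    rw [hk, hk1, one_mul]
    exact he
  set tc : Cx := ⟨t, mem_centralizer_singleton_iff.2 htx⟩
  have hp : IsPGroup 2 ↥(zpowers tc) := IsPGroup.of_card (n := 1) (by
    rw [Nat.card_zpowers, pow_one]
    exact orderOf_eq_prime (Subtype.ext (by simpa [pow_two] using ht))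
      fun e => h1 (congrArg Subtype.val e))
  obtain ⟨S', hS'⟩ := hp.exists_le_sylow
  obtain ⟨g, hg⟩ := MulAction.exists_smul_eq Cx S S'
  have hm : tc ∈ ((g • S : Sylow 2 Cx) : Subgroup Cx) := by rw [hg]; exact hS' (mem_zpowers tc)
  rw [Sylow.coe_subgroup_smul, Subgroup.mem_pointwise_smul_iff_inv_smul_mem, ← map_inv,
    MulAut.smul_def, MulAut.conj_apply, inv_inv, ← hSE, mem_subgroupOf] at hm
  have hm' : (g : G)⁻¹ * t * g ∈ E a p q := hm
  have := conj_z_of_mem C.loc (E_le_Q F T hm')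
    (by rw [show (g : G)⁻¹ * t * g * ((g : G)⁻¹ * t * g) = (g : G)⁻¹ * (t * t) * g by group, ht]
        group)
    (fun e => h1 (by
      calc t = g * ((g : G)⁻¹ * t * g) * (g : G)⁻¹ := by group
        _ = 1 := by rw [e]; group))
  exact this.trans (isConj_iff.2 ⟨g, by group⟩)

theorem not_conj_of_utype {c t : G} (ht : IsConj u t) (hct : c * t = t * c) : ¬ IsConj x c := by
  intro h
  obtain ⟨g, rfl⟩ := isConj_iff.1 h
  obtain ⟨f, rfl⟩ := isConj_iff.1 ht
  have hx : g⁻¹ * (f * u * f⁻¹) * g * x = x * (g⁻¹ * (f * u * f⁻¹) * g) := by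
    calc g⁻¹ * (f * u * f⁻¹) * g * x = g⁻¹ * (f * u * f⁻¹ * (g * x * g⁻¹)) * g := by group
      _ = _ := by rw [← hct]; group
  have h2 : g⁻¹ * (f * u * f⁻¹) * g = (g⁻¹ * f) * u * (g⁻¹ * f)⁻¹ := by group
  have := invol_cx C hK h60 X hx (by rw [h2, show g⁻¹ * f * u * (g⁻¹ * f)⁻¹ * (g⁻¹ * f * u * (g⁻¹ * f)⁻¹) =
      g⁻¹ * f * (u * u) * (g⁻¹ * f)⁻¹ by group, C.loc.sq]; group)
    (by rw [h2]; exact fun e => u_ne_one C.loc (conj_eq_one_iff.1 e))
  refine not_conj C.loc (this.trans (isConj_iff.2 ⟨(g⁻¹ * f)⁻¹, ?_⟩))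
  group

theorem not_conj_xy : ¬ IsConj x y :=
  not_conj_of_utype C hK h60 X (IsConj.refl u) C.yu

/-- The quotient of `C(x)` by `⟨x⟩` is `A₆`. -/
theorem exists_hom : ∃ φ : ↥(centralizer ({x} : Set G)) →* ↥(alternatingGroup (Fin 6)),
    Function.Surjective φ ∧ ∀ w, φ w = 1 ↔ (w : G) ∈ zpowers x := by
  classical
  haveI : Fact (Nat.Prime 3) := ⟨Nat.prime_three⟩
  have F := C.loc.fr
  obtain ⟨p, q, T⟩ := exists_fix3 F X.ord (x_z C hK h60 X)
  set Cx := centralizer ({x} : Set G)
  have hcomm : ∀ w : Cx, (w : G) * x = x * w := fun w => mem_centralizer_singleton_iff.1 w.2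
  set N := (zpowers x).subgroupOf Cx
  haveI hN : N.Normal := ⟨fun n hn w => by
    obtain ⟨i, hi⟩ := hn
    replace hi : x ^ i = (n : G) := hi
    refine ⟨i, ?_⟩
    show x ^ i = (w : G) * n * (w : G)⁻¹
    rw [← hi, ((show Commute (w : G) x from hcomm w).zpow_right i).eq, mul_inv_cancel_right]⟩
  set π := QuotientGroup.mk' N
  have hker : ∀ w : Cx, π w = 1 ↔ (w : G) ∈ zpowers x := fun w => by
    rw [← MonoidHom.mem_ker, QuotientGroup.ker_mk', mem_subgroupOf]
  have hlift : ∀ t : Cx ⧸ N, orderOf t = 2 → ∃ w : Cx, π w = t ∧ (w : G) * w = 1 ∧ (w : G) ≠ 1 := by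
    intro t ht
    obtain ⟨w, rfl⟩ := QuotientGroup.mk'_surjective N t
    have h2 : ((w * w : Cx) : G) ∈ zpowers x := (hker _).1 (by
      rw [map_mul, ← pow_two]; exact orderOf_dvd_iff_pow_eq_one.1 (dvd_of_eq ht))
    obtain ⟨h3, h4, -⟩ := exists_lift X.ord (hcomm w) h2
    have e : π (w ^ 3) = π w := (inv_mul_eq_one.1
      (by rw [← map_inv, ← map_mul]; exact (hker _).2 h4 : (π w)⁻¹ * π (w ^ 3) = 1)).symm
    refine ⟨w ^ 3, e, h3, fun e' => ?_⟩
    have h5 : π (w ^ 3) = 1 := (hker _).2 (by rw [e']; exact one_mem _)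
    rw [e] at h5
    rw [h5, orderOf_one] at ht
    norm_num at ht
  -- centralizers of involutions of the quotient
  have hcent : ∀ w : Cx, (w : G) * w = 1 → (w : G) ≠ 1 →
      centralizer ({π w} : Set (Cx ⧸ N)) =
        ((centralizer ({(w : G)} : Set G)).subgroupOf Cx).map π := by
    intro w hw hw1
    ext t
    obtain ⟨v, rfl⟩ := QuotientGroup.mk'_surjective N t
    rw [mem_centralizer_singleton_iff, mem_map]
    constructor
    · intro h
      refine ⟨v, ?_, rfl⟩
      rw [mem_subgroupOf, mem_centralizer_singleton_iff]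
      refine mul_inv_eq_iff_eq_mul.1 (invol_unique X.ord ?_ hw (hcomm w) ?_)
      · rw [show (v : G) * w * (v : G)⁻¹ * ((v : G) * w * (v : G)⁻¹) =
          v * ((w : G) * w) * (v : G)⁻¹ by group, hw]; group
      · show (((v * w * v⁻¹ * w⁻¹ : Cx)) : G) ∈ zpowers x
        rw [← hker, map_mul, map_mul, map_mul, map_inv, map_inv, show π v * π w = π w * π v from h]
        group
    · rintro ⟨v', hv', e⟩
      rw [← e, ← map_mul, ← map_mul]
      exact congrArg π (Subtype.ext (mem_centralizer_singleton_iff.1 hv'))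
  let zc : Cx := ⟨z, mem_centralizer_singleton_iff.2 (x_z C hK h60 X).symm⟩
  have hz1 : π zc ≠ 1 := fun e => by
    obtain ⟨i, hi⟩ := (hker zc).1 e
    replace hi : x ^ i = z := hi
    exact z_ne C (hi ▸ x_notMem_K C hK h60 X (hi.symm ▸ z_mem_K hK))
  have hz2 : orderOf (π zc) = 2 := orderOf_eq_prime (by
    rw [← map_pow, show zc ^ 2 = 1 from Subtype.ext (by
      rw [SubmonoidClass.coe_pow, pow_two]; exact F.ext.zz), map_one]) hz1
  let f : ↥(E a p q) →* Cx ⧸ N := π.comp (Subgroup.inclusion (E_le_cent F T))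
  have hf : Function.Injective f := by
    refine (injective_iff_map_eq_one f).2 fun e he => Subtype.ext ?_
    have h1 : (e : G) ∈ zpowers x := (hker _).1 he
    have h3 : orderOf (e : G) ∣ 3 := by
      have := orderOf_dvd_natCard (⟨(e : G), h1⟩ : zpowers x)
      rwa [← Subgroup.orderOf_coe, Nat.card_zpowers, X.ord] at this
    have h8 : orderOf (e : G) ∣ 8 := by
      have := orderOf_dvd_natCard e
      rwa [← Subgroup.orderOf_coe, card_E F T] at this
    exact orderOf_eq_one_iff.1 (Nat.eq_one_of_dvd_coprimes (by norm_num) h3 h8)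
  have hrange : centralizer ({π zc} : Set (Cx ⧸ N)) = f.range := by
    rw [hcent zc F.ext.zz (z_ne C)]
    ext t
    constructor
    · rintro ⟨v, hv, rfl⟩
      obtain ⟨k, e, he, hk⟩ := J2TypeThreeH79.cent_H F T
        (mem_centralizer_singleton_iff.1 hv) (hcomm v)
      replace hk : (v : G) = x ^ k * e := hk
      refine ⟨⟨e, he⟩, inv_mul_eq_one.1 ?_⟩
      show (π _)⁻¹ * π v = 1
      rw [← map_inv, ← map_mul, hker]
      show e⁻¹ * (v : G) ∈ zpowers x
      rw [hk, ((show Commute e x from mem_centralizer_singleton_iff.1 (E_le_cent F T he)).inv_left.pow_right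
        k).left_comm, inv_mul_cancel, mul_one]
      exact pow_mem (mem_zpowers x) k
    · rintro ⟨e, rfl⟩
      exact ⟨Subgroup.inclusion (E_le_cent F T) e, E_le_H F T e.2, rfl⟩
  obtain ⟨dE⟩ := nonempty_E_dihedral F T
  have hC : Nonempty (↥(centralizer ({π zc} : Set (Cx ⧸ N))) ≃* DihedralGroup 4) :=
    ⟨((MulEquiv.subgroupCongr hrange).trans (MonoidHom.ofInjective hf).symm).trans dE⟩
  -- `K` embeds in the quotient
  have hKC : K ≤ Cx := fun k hk => mem_centralizer_singleton_iff.2 (X.cK k hk).symm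
  let j : K →* Cx ⧸ N := π.comp (Subgroup.inclusion hKC)
  have hj : Function.Injective j := by
    refine (injective_iff_map_eq_one j).2 fun k hk => Subtype.ext ?_
    obtain ⟨i, hi⟩ := (hker _).1 hk
    replace hi : x ^ i = (k : G) := hi
    show (k : G) = 1
    rw [← hi]
    exact x_notMem_K C hK h60 X (hi.symm ▸ k.2)
  have h60' : 60 ∣ Nat.card (Cx ⧸ N) := h60 ▸ Subgroup.card_dvd_of_injective j hj
  haveI : IsSimpleGroup ↥(alternatingGroup (Fin 5)) := alternatingGroup.isSimpleGroup_five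
  obtain ⟨k5⟩ := nonempty_equiv_alt hK h60
  haveI : Nontrivial ↥K := k5.toEquiv.nontrivial
  haveI : IsSimpleGroup ↥K :=
    IsSimpleGroup.isSimpleGroup_of_surjective k5.symm.toMonoidHom k5.symm.surjective
  rcases Cfsg.Agent.S3035.result (π zc) hz2 hC with h | ⟨⟨e⟩⟩ | ⟨⟨e⟩⟩ | ⟨⟨e⟩⟩ | ⟨⟨e⟩⟩
  · exfalso
    set M := Cfsg.oddCore (Cx ⧸ N)
    let ρ : K →* (Cx ⧸ N) ⧸ M := (QuotientGroup.mk' M).comp j
    have hsur : Function.Surjective
        ((QuotientGroup.mk' M).comp (centralizer ({π zc} : Set (Cx ⧸ N))).subtype) := by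
      intro t
      obtain ⟨v, rfl⟩ := QuotientGroup.mk'_surjective M t
      have hv : v ∈ centralizer ({π zc} : Set (Cx ⧸ N)) ⊔ M := h ▸ mem_top v
      obtain ⟨c, hc, m, hm, rfl⟩ := Subgroup.mem_sup_of_normal_right.1 hv
      refine ⟨⟨c, hc⟩, ?_⟩
      show QuotientGroup.mk' M c = QuotientGroup.mk' M (c * m)
      rw [map_mul, show QuotientGroup.mk' M m = 1 from (QuotientGroup.eq_one_iff m).2 hm, mul_one]
    have h8 : Nat.card ((Cx ⧸ N) ⧸ M) ∣ 8 := by
      have := Subgroup.card_dvd_of_surjective _ hsur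
      rwa [Nat.card_congr hC.some.toEquiv, DihedralGroup.nat_card] at this
    rcases (inferInstance : ρ.ker.Normal).eq_bot_or_eq_top with hb | hb
    · have h' := Subgroup.card_dvd_of_injective ρ ((MonoidHom.ker_eq_bot_iff ρ).1 hb)
      rw [h60] at h'
      exact absurd (h'.trans h8) (by norm_num)
    · have hm : j ⟨z, z_mem_K hK⟩ ∈ M := (QuotientGroup.eq_one_iff _).1 (MonoidHom.mem_ker.1
        (hb ▸ mem_top (⟨z, z_mem_K hK⟩ : K)))
      have hd := orderOf_dvd_natCard (⟨_, hm⟩ : M)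
      rw [← Subgroup.orderOf_coe] at hd
      change orderOf (π zc) ∣ _ at hd
      rw [hz2] at hd
      exact absurd hd (Nat.coprime_two_right.1 (HallCore.coprime_card_pPrimeCore 2 (Cx ⧸ N)) : Odd (Nat.card M)).not_two_dvd_nat
  · exfalso
    rw [Nat.card_congr e.toEquiv, Nat.card_perm, Nat.card_fin] at h60'
    norm_num [Nat.factorial] at h60'
  · exfalso
    obtain ⟨t, ht⟩ := e.surjective (Equiv.swap (0 : Fin 5) 1)
    have ht2 : orderOf t = 2 := by
      rw [← MulEquiv.orderOf_eq e, ht]; exact Equiv.Perm.IsSwap.orderOf (by exact ⟨0, 1, by decide, rfl⟩)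
    obtain ⟨w, rfl, hw, hw1⟩ := hlift t ht2
    have hc := hcent w hw hw1
    have h24 := (three_conj C hK h60 X X.ord (invol_cx C hK h60 X (hcomm w) hw hw1)
      (hcomm w).symm).2
    set S := (centralizer ({(w : G)} : Set G)).subgroupOf Cx
    have hS : Nat.card S = 24 := by
      rw [← h24, ← card_map_of_injective Cx.subtype_injective, subgroupOf_map_subtype, inf_comm]
    have hdvd : Nat.card ↥(S.map π) ∣ 24 := hS ▸ card_map_dvd S π
    have hswap : Nat.card ↥(centralizer ({Equiv.swap (0 : Fin 5) 1} : Set (Equiv.Perm (Fin 5)))) =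
        12 := by
      rw [show Nat.card ↥(centralizer ({Equiv.swap (0 : Fin 5) 1} : Set (Equiv.Perm (Fin 5)))) =
        Fintype.card {σ : Equiv.Perm (Fin 5) // σ * Equiv.swap 0 1 = Equiv.swap 0 1 * σ} by
          rw [← Nat.card_eq_fintype_card]
          exact Nat.card_congr (Equiv.subtypeEquivRight fun σ => mem_centralizer_singleton_iff)]
      decide +kernel
    have h12 : Nat.card ↥(S.map π) = 12 := by
      rw [← hc, ← hswap, ← ht]
      exact Nat.card_congr (e.toEquiv.subtypeEquiv fun v => by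
        show v ∈ centralizer ({π w} : Set (Cx ⧸ N)) ↔ e v ∈ centralizer ({e (π w)} : Set _)
        rw [mem_centralizer_singleton_iff, mem_centralizer_singleton_iff, ← map_mul, ← map_mul,
          e.injective.eq_iff])
    -- but `⟨x⟩` lies in the kernel
    let N' : Subgroup S := N.subgroupOf S
    have hNS : N ≤ S := fun n hn => by
      obtain ⟨i, hi⟩ := hn
      replace hi : x ^ i = (n : G) := hi
      rw [mem_subgroupOf, mem_centralizer_singleton_iff, ← hi]
      exact ((show Commute x (w : G) from (hcomm w).symm).zpow_left i).eq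
    have hq : Nat.card ↥(S.map π) * 3 = 24 := by
      have h1 := (π.domRestrict S).ker.card_mul_index
      have h2 : (π.domRestrict S).ker = N' := by
        ext v
        show π (v : Cx) = 1 ↔ (v : Cx) ∈ N
        rw [hker, mem_subgroupOf]
      have h3 : (π.domRestrict S).range = S.map π := by
        ext t
        constructor
        · rintro ⟨v, rfl⟩; exact ⟨v, v.2, rfl⟩
        · rintro ⟨v, hv, rfl⟩; exact ⟨⟨v, hv⟩, rfl⟩
      rw [Subgroup.index_ker, h2, hS, h3, Nat.card_congr (subgroupOfEquivOfLe hNS).toEquiv,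
        Nat.card_congr (subgroupOfEquivOfLe (zpowers_le.2 (mem_centralizer_singleton_iff.2 rfl) :
          zpowers x ≤ Cx)).toEquiv, Nat.card_zpowers, X.ord, mul_comm] at h1
      exact h1
    omega
  · exfalso
    rw [Nat.card_congr e.toEquiv, Cfsg.Agent.S3035.sl32.2] at h60'
    norm_num at h60'
  · exact ⟨e.toMonoidHom.comp π, e.surjective.comp (QuotientGroup.mk'_surjective N), fun w => by
      rw [MonoidHom.comp_apply, MulEquiv.coe_toMonoidHom, map_eq_one_iff e e.injective, hker]⟩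

theorem card_cent : Nat.card ↥(centralizer ({x} : Set G)) = 1080 := by
  obtain ⟨φ, hsur, hker⟩ := exists_hom C hK h60 X
  have h := φ.ker.card_mul_index
  rw [Subgroup.index_ker, MonoidHom.range_eq_top.2 hsur, card_top] at h
  have hk : φ.ker = (zpowers x).subgroupOf (centralizer ({x} : Set G)) := by
    ext w; exact (hker w).trans mem_subgroupOf.symm
  rw [hk, Nat.card_congr (subgroupOfEquivOfLe (zpowers_le.2
    (mem_centralizer_singleton_iff.2 rfl))).toEquiv, Nat.card_zpowers, X.ord] at h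
  have h6 : Nat.card ↥(alternatingGroup (Fin 6)) = 360 := by
    rw [nat_card_alternatingGroup, Nat.card_fin]; rfl
  omega

theorem card_cent_y : Nat.card ↥(centralizer ({y} : Set G)) = 36 ∨
    Nat.card ↥(centralizer ({y} : Set G)) = 180 := by
  classical
  haveI : Fact (Nat.Prime 2) := ⟨Nat.prime_two⟩
  haveI : Fact (Nat.Prime 3) := ⟨Nat.prime_three⟩
  set Cy := centralizer ({y} : Set G)
  have hcomm : ∀ w : Cy, (w : G) * y = y * w := fun w => mem_centralizer_singleton_iff.1 w.2
  have hWy : W C ≤ Cy := fun w hw => mem_centralizer_singleton_iff.2 ((mem_W C).1 hw).2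
  obtain ⟨-, -, -, -, -, hcentK⟩ := exists_inverting hK h60
  -- `C(y) ∩ C(u) = W⟨y⟩`
  have hcu : ∀ c : G, c * y = y * c → c * u = u * c → ∃ v ∈ W C, c * v⁻¹ ∈ zpowers y := by
    intro c hcy hcu
    obtain ⟨v, hv, hvc⟩ := hK.decomp c hcu
    obtain ⟨j, hj⟩ := hcentK _ hvc
      ((show Commute v y from ((mem_W C).1 hv).2).mul_left hcy).eq
    refine ⟨v⁻¹, inv_mem hv, j, ?_⟩
    show y ^ ((j : ℕ) : ℤ) = _
    rw [zpow_natCast, inv_inv, ← hj,
      (show Commute v c from ?_).eq]
    have h1 : v * (v * c) = (v * c) * v := W_comm hK h60 hv hvc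
    show v * c = c * v
    exact mul_left_cancel (h1.trans (mul_assoc v c v))
  have hxy : x ∈ Cy := mem_centralizer_singleton_iff.2 (X.cK y hK.ymem)
  -- `W` is a Sylow two-subgroup
  have hWp : IsPGroup 2 ↥((W C).subgroupOf Cy) := IsPGroup.of_card (n := 2) (by
    rw [Nat.card_congr (subgroupOfEquivOfLe hWy).toEquiv, card_W C]; norm_num)
  obtain ⟨S, hS⟩ := hWp.exists_le_sylow
  have hSW : (W C).subgroupOf Cy = S := by
    by_contra hne
    haveI := S.2.isNilpotent
    obtain ⟨n, hn, hn'⟩ := SetLike.exists_of_lt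
      (Group.normalizerCondition_of_isNilpotent (G := (S : Subgroup Cy))
        (((W C).subgroupOf Cy).subgroupOf S)
        (lt_top_iff_ne_top.2 fun e => hne (le_antisymm hS (subgroupOf_eq_top.1 e))))
    refine hn' ?_
    have hnW : (n : G) ∈ normalizer (W C : Set G) := mem_normalizer_fintype fun w hw =>
      (mem_normalizer_iff.1 hn ⟨⟨w, hWy hw⟩, hS hw⟩).1 hw
    obtain ⟨m, hm⟩ := S.2 n
    have hm' : (n : G) ^ 2 ^ m = 1 := by
      have := congrArg (fun w : S => ((w : Cy) : G)) hm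
      simpa using this
    have key : ∀ (i : ℕ) (v : G), v ∈ normalizer (W C : Set G) → v ^ 2 ^ i = 1 → v * u = u * v := by
      intro i
      induction i with
      | zero =>
        intro v _ hv
        rw [pow_zero, pow_one] at hv
        rw [hv, one_mul, mul_one]
      | succ i ih =>
        intro v hv hv2
        refine norm_two C hK h60 hv (ih (v * v) (mul_mem hv hv) ?_)
        rw [← pow_two, ← pow_mul, ← pow_succ', hv2]
    obtain ⟨v, hv, j, hj⟩ := hcu n (hcomm n) (key m n hnW hm')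
    replace hj : y ^ j = (n : G) * v⁻¹ := hj
    have h1 : y ^ j = 1 := by
      obtain ⟨k, hk⟩ := S.2 (n * ⟨⟨v⁻¹, inv_mem (hWy hv)⟩, hS (inv_mem hv : v⁻¹ ∈ W C)⟩)
      have h3 := congrArg (fun w : S => ((w : Cy) : G)) hk
      simp only [SubmonoidClass.coe_pow, Subgroup.coe_mul, coe_one] at h3
      rw [← hj] at h3
      refine TransferPow.eq_one_of_pow_eq_one_of_coprime (m := 2 ^ k) (n := 3) h3 ?_
        (Nat.Coprime.pow_left _ (by norm_num))
      rw [← zpow_natCast, ← zpow_mul, mul_comm, zpow_mul, zpow_natCast, y_pow C, one_zpow]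
    show (n : G) ∈ W C
    rw [show (n : G) = v from mul_inv_eq_one.1 (hj.symm.trans h1)]
    exact hv
  have hinv : ∀ t : G, t * y = y * t → t * t = 1 → t ≠ 1 →
      ∃ g, g ∈ Cy ∧ g⁻¹ * t * g ∈ W C := by
    intro t hty ht h1
    set tc : Cy := ⟨t, mem_centralizer_singleton_iff.2 hty⟩
    have hp : IsPGroup 2 ↥(zpowers tc) := IsPGroup.of_card (n := 1) (by
      rw [Nat.card_zpowers, pow_one]
      exact orderOf_eq_prime (Subtype.ext (by simpa [pow_two] using ht))
        fun e => h1 (congrArg Subtype.val e))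
    obtain ⟨S', hS'⟩ := hp.exists_le_sylow
    obtain ⟨g, hg⟩ := MulAction.exists_smul_eq Cy S S'
    have hm : tc ∈ ((g • S : Sylow 2 Cy) : Subgroup Cy) := by rw [hg]; exact hS' (mem_zpowers tc)
    rw [Sylow.coe_subgroup_smul, Subgroup.mem_pointwise_smul_iff_inv_smul_mem, ← map_inv,
      MulAut.smul_def, MulAut.conj_apply, inv_inv, ← hSW, mem_subgroupOf] at hm
    exact ⟨g, g.2, hm⟩
  set N := (zpowers y).subgroupOf Cy
  haveI hN : N.Normal := ⟨fun n hn w => by
    obtain ⟨i, hi⟩ := hn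
    replace hi : y ^ i = (n : G) := hi
    refine ⟨i, ?_⟩
    show y ^ i = (w : G) * n * (w : G)⁻¹
    rw [← hi, ((show Commute (w : G) y from hcomm w).zpow_right i).eq, mul_inv_cancel_right]⟩
  set π := QuotientGroup.mk' N
  have hker : ∀ w : Cy, π w = 1 ↔ (w : G) ∈ zpowers y := fun w => by
    rw [← MonoidHom.mem_ker, QuotientGroup.ker_mk', mem_subgroupOf]
  let f : ↥(W C) →* Cy ⧸ N := π.comp (Subgroup.inclusion hWy)
  have hf : Function.Injective f := by
    refine (injective_iff_map_eq_one f).2 fun w hw => Subtype.ext ?_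
    obtain ⟨i, hi⟩ := (hker _).1 hw
    replace hi : y ^ i = (w : G) := hi
    refine TransferPow.eq_one_of_pow_eq_one_of_coprime (m := 2) (n := 3)
      (by rw [pow_two]; exact W_sq C w.2) ?_ (by norm_num)
    rw [← hi, ← zpow_natCast, ← zpow_mul, mul_comm, zpow_mul, zpow_natCast, y_pow C, one_zpow]
  -- every involution of the quotient is conjugate to the image of one of `W`
  have hconjW : ∀ t : Cy ⧸ N, orderOf t = 2 → ∃ v : ↥(W C), (v : G) ≠ 1 ∧ IsConj (f v) t := by
    intro t ht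
    obtain ⟨w, rfl⟩ := QuotientGroup.mk'_surjective N t
    have h2 : ((w * w : Cy) : G) ∈ zpowers y := (hker _).1 (by
      rw [map_mul, ← pow_two]; exact orderOf_dvd_iff_pow_eq_one.1 (dvd_of_eq ht))
    obtain ⟨h3, h4, -⟩ := exists_lift C.ord (hcomm w) h2
    have e : π (w ^ 3) = π w := (inv_mul_eq_one.1
      (by rw [← map_inv, ← map_mul]; exact (hker _).2 h4 : (π w)⁻¹ * π (w ^ 3) = 1)).symm
    have h5 : ((w ^ 3 : Cy) : G) ≠ 1 := fun e' => by
      have h5 : π (w ^ 3) = 1 := (hker _).2 (by rw [e']; exact one_mem _)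
      rw [e] at h5
      rw [h5, orderOf_one] at ht
      norm_num at ht
    obtain ⟨g, hg, hgW⟩ := hinv _ (hcomm (w ^ 3)) h3 h5
    refine ⟨⟨_, hgW⟩, fun e' => h5 ?_, isConj_iff.2 ⟨π ⟨g, hg⟩, ?_⟩⟩
    · calc ((w ^ 3 : Cy) : G) = g * (g⁻¹ * (w : G) ^ 3 * g) * g⁻¹ := by
            rw [SubmonoidClass.coe_pow]; group
        _ = 1 := by rw [show g⁻¹ * (w : G) ^ 3 * g = 1 from e']; group
    · rw [← e]
      show π ⟨g, hg⟩ * π _ * (π ⟨g, hg⟩)⁻¹ = π _
      rw [← map_inv, ← map_mul, ← map_mul]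
      refine congrArg π (Subtype.ext ?_)
      show g * (g⁻¹ * (w : G) ^ 3 * g) * g⁻¹ = ((w ^ 3 : Cy) : G)
      rw [SubmonoidClass.coe_pow]; group
  -- the three involutions of `W` are conjugate in `C(y)`
  have hWconj : ∀ v : ↥(W C), (v : G) ≠ 1 → IsConj (f ⟨u, u_mem_W C⟩) (f v) := by
    intro v hv
    let xc : Cy := ⟨x, hxy⟩
    have hconj : ∀ (i : ℕ) (h : x ^ i * u * (x ^ i)⁻¹ = v), IsConj (f ⟨u, u_mem_W C⟩) (f v) := by
      intro i h
      refine isConj_iff.2 ⟨π (xc ^ i), ?_⟩
      show π (xc ^ i) * π _ * (π (xc ^ i))⁻¹ = π _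
      rw [← map_inv, ← map_mul, ← map_mul]
      exact congrArg π (Subtype.ext (by simpa using h))
    have hxu : x * u * x⁻¹ ∈ W C := (mem_normalizer_iff.1 X.norm u).1 (u_mem_W C)
    have hxu' : x * u * x⁻¹ ≠ u := fun e => X.move (mul_inv_eq_iff_eq_mul.1 e)
    -- find an element of the normalizer mapping `u` to `v`
    have hfour : ∃ i : ℕ, x ^ i * u * (x ^ i)⁻¹ = v := by
      by_contra hcon
      push Not at hcon
      haveI := Fintype.ofFinite ↥(W C)
      have hmem : ∀ i : ℕ, x ^ i * u * (x ^ i)⁻¹ ∈ W C := fun i =>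
        (mem_normalizer_iff.1 (pow_mem X.norm i) u).1 (u_mem_W C)
      have hne1 : ∀ i : ℕ, x ^ i * u * (x ^ i)⁻¹ ≠ 1 := fun i e =>
        u_ne_one C.loc (conj_eq_one_iff.1 e)
      let S : Finset ↥(W C) := {1, ⟨_, hmem 0⟩, ⟨_, hmem 1⟩, ⟨_, hmem 2⟩, v}
      have h5 : S.card = 5 := by
        simp only [S]
        rw [Finset.card_insert_of_notMem, Finset.card_insert_of_notMem, Finset.card_insert_of_notMem,
          Finset.card_insert_of_notMem, Finset.card_singleton]
        all_goals simp only [Finset.mem_insert, Finset.mem_singleton, Subtype.ext_iff, coe_one, not_or]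
        · exact hcon 2
        · refine ⟨fun e => hxu' ?_, hcon 1⟩
          have e' : x * u * x⁻¹ = x * (x * u * x⁻¹) * x⁻¹ := by
            rw [pow_one, pow_two] at e
            exact e.trans (by group)
          exact ((mul_left_cancel (mul_right_cancel e')).symm)
        · refine ⟨fun e => hxu' ?_, fun e => X.move ?_, hcon 0⟩
          · simpa using e.symm
          · have h2 : x * x * u * (x * x)⁻¹ = u := by simpa [pow_two] using e.symm
            exact norm_two C hK h60 X.norm (mul_inv_eq_iff_eq_mul.1 h2)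
        · exact ⟨(hne1 0).symm, (hne1 1).symm, (hne1 2).symm, hv.symm⟩
      have := Finset.card_le_univ S
      rw [h5, ← Nat.card_eq_fintype_card, card_W C] at this
      omega
    obtain ⟨i, hi⟩ := hfour
    exact hconj i hi
  have hV : FourCentralizer.FourCentralizers (Cy ⧸ N) := by
    -- centralizer of the image of an involution of `W`
    have key : ∀ v : ↥(W C), (v : G) ≠ 1 → centralizer ({f v} : Set (Cy ⧸ N)) = f.range := by
      intro v hv
      ext t
      obtain ⟨c, rfl⟩ := QuotientGroup.mk'_surjective N t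
      rw [mem_centralizer_singleton_iff]
      constructor
      · intro h
        have hcv : (c : G) * v = v * c := by
          refine mul_inv_eq_iff_eq_mul.1 (invol_unique C.ord ?_ (W_sq C v.2) ((mem_W C).1 v.2).2 ?_)
          · rw [show (c : G) * v * (c : G)⁻¹ * ((c : G) * v * (c : G)⁻¹) =
              c * ((v : G) * v) * (c : G)⁻¹ by group, W_sq C v.2]; group
          · show (((c * Subgroup.inclusion hWy v * c⁻¹ * (Subgroup.inclusion hWy v)⁻¹ : Cy)) : G) ∈
              zpowers y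
            rw [← hker, map_mul, map_mul, map_mul, map_inv, map_inv,
              show π c * π (Subgroup.inclusion hWy v) = π (Subgroup.inclusion hWy v) * π c from h]
            group
        have hcu' : (c : G) * u = u * c := by
          have : (c : G) ∈ centralizer ({(v : G)} : Set G) := mem_centralizer_singleton_iff.2 hcv
          rw [cent_W_elt C hK h60 v.2 hv] at this
          exact mem_centralizer_singleton_iff.1 this
        obtain ⟨w, hw, hcw⟩ := hcu c (hcomm c) hcu'
        refine ⟨⟨w, hw⟩, inv_mul_eq_one.1 ?_⟩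
        show (π _)⁻¹ * π c = 1
        rw [← map_inv, ← map_mul, hker]
        show w⁻¹ * (c : G) ∈ zpowers y
        rwa [show w⁻¹ * (c : G) = w⁻¹ * ((c : G) * w⁻¹) * w by group,
          ((mem_zpowers_comm ((mem_W C).1 hw).2 hcw).inv_left).eq, inv_mul_cancel_right]
      · rintro ⟨w, e⟩
        change f w = π c at e
        rw [← e, ← map_mul, ← map_mul]
        exact congrArg f (Subtype.ext (D_comm C.loc w.2.1 v.2.1))
    intro t ht
    obtain ⟨v, hv, hvt⟩ := hconjW t ht
    obtain ⟨g, rfl⟩ := isConj_iff.1 hvt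
    rw [centralizer_conj, key v hv]
    refine ⟨?_, ?_⟩
    · rw [card_map_of_injective (MulAut.conj g).injective,
        ← Nat.card_congr (MonoidHom.ofInjective hf).toEquiv, card_W C]
    · rintro _ ⟨_, ⟨w, rfl⟩, rfl⟩
      rw [← map_pow, ← map_pow, show w ^ 2 = 1 from Subtype.ext (by
        rw [SubmonoidClass.coe_pow, pow_two]; exact W_sq C w.2), map_one, map_one]
  have hu2 : orderOf (f ⟨u, u_mem_W C⟩) = 2 := by
    rw [orderOf_injective f hf, ← Subgroup.orderOf_coe]
    exact orderOf_u C.loc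
  have hconj : ∀ s t : Cy ⧸ N, orderOf s = 2 → orderOf t = 2 → IsConj s t := by
    intro s t hs ht
    obtain ⟨v, hv, hvs⟩ := hconjW s hs
    obtain ⟨w, hw, hwt⟩ := hconjW t ht
    exact (hvs.symm.trans (hWconj v hv).symm).trans ((hWconj w hw).trans hwt)
  have hcard : Nat.card Cy = 3 * Nat.card (Cy ⧸ N) := by
    rw [N.card_eq_card_quotient_mul_card_subgroup, mul_comm, Nat.card_congr
      (subgroupOfEquivOfLe (zpowers_le.2 (mem_centralizer_singleton_iff.2 rfl) :
        zpowers y ≤ Cy)).toEquiv, Nat.card_zpowers, C.ord]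
  by_cases h3 : Nat.card {v : Cy ⧸ N // orderOf v = 2} = 3
  · left
    haveI := Fintype.ofFinite (Cy ⧸ N)
    have h := FourCentralizer.card_eq_four_mul hV hconj hu2
    have hI : (FourCentralizer.invs (Cy ⧸ N)).card = 3 := by
      rw [← h3, ← Nat.card_eq_finsetCard]
      exact Nat.card_congr (Equiv.subtypeEquivRight fun v => FourCentralizer.mem_invs)
    rw [hcard, h, hI]
  · right
    rw [hcard, (FourCentralizer.card_eq_sixty hV hconj hu2 h3).1]

end

end Cfsg.Agent.J2TypeThree79
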