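import Cfsg.Agent.Lib.J2TypeFive79
import Cfsg.Agent.Lib.J2TypeThree79

/-!
# Recognition of the Hall–Janko group: normalised generators

Elements of a group of Hall–Janko type acting exactly as permutations on representatives of the
five pairs of the extraspecial group.
-/

set_option autoImplicit false

namespace Cfsg.Agent.J2RecFrame30

open Subgroup Cfsg.Agent.LargeExtraspecial Cfsg.Agent.J2TypePoints79 Cfsg.Agent.J2TypeAction79
open Cfsg.Agent.J2TypeFour79 Cfsg.Agent.J2TypeClasses79 Cfsg.Agent.J2TypeCyc79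
open Cfsg.Agent.J2TypeCent79 Cfsg.Agent.J2TypeKernel79 Cfsg.Agent.J2TypeThree79
open Cfsg.Agent.J2TypeNorm79 Cfsg.Agent.J2TypeOrder79

variable {G : Type*} [Group G] [Finite G] {Q : Subgroup G} {z : G} {a : Fin 5 → G}

/-- `g` centralises `z` and sends `a p` to `a (σ p)`. -/
def Exact (z : G) (a : Fin 5 → G) (g : G) (σ : Equiv.Perm (Fin 5)) : Prop :=
  g * z = z * g ∧ ∀ p, g * a p * g⁻¹ = a (σ p)

omit [Finite G] in
theorem Exact.acts {g : G} {σ : Equiv.Perm (Fin 5)} (h : Exact z a g σ) : Acts z a g σ :=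
  ⟨h.1, fun p => Or.inl (h.2 p)⟩

omit [Finite G] in
theorem Exact.mul {g k : G} {σ τ : Equiv.Perm (Fin 5)} (hg : Exact z a g σ)
    (hk : Exact z a k τ) : Exact z a (g * k) (σ * τ) := by
  refine ⟨((show Commute g z from hg.1).mul_left hk.1).eq, fun p => ?_⟩
  rw [show g * k * a p * (g * k)⁻¹ = g * (k * a p * k⁻¹) * g⁻¹ by group, hk.2, hg.2]
  rfl

omit [Finite G] in
theorem Exact.inv {g : G} {σ : Equiv.Perm (Fin 5)} (hg : Exact z a g σ) :
    Exact z a g⁻¹ σ⁻¹ := by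
  refine ⟨(show Commute g z from hg.1).inv_left.eq, fun p => ?_⟩
  have h := hg.2 (σ⁻¹ p)
  rw [← Equiv.Perm.mul_apply, mul_inv_cancel, Equiv.Perm.one_apply] at h
  rw [← h]; group

omit [Finite G] in
theorem Exact.conj {g k : G} {σ τ : Equiv.Perm (Fin 5)} (hg : Exact z a g σ)
    (hk : Exact z a k τ) : Exact z a (g * k * g⁻¹) (σ * τ * σ⁻¹) :=
  (hg.mul hk).mul hg.inv

omit [Finite G] in
theorem Exact.congr {g : G} {σ τ : Equiv.Perm (Fin 5)} (hg : Exact z a g σ) (e : σ = τ) :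
    Exact z a g τ := e ▸ hg

/-- `(12)(34)`. -/
def σu : Equiv.Perm (Fin 5) := Equiv.swap 1 2 * Equiv.swap 3 4

/-- `(13)(24)`. -/
def σv : Equiv.Perm (Fin 5) := Equiv.swap 1 3 * Equiv.swap 2 4

/-- `(234)`. -/
def σx : Equiv.Perm (Fin 5) := Equiv.swap 2 3 * Equiv.swap 3 4

/-- `(012)`. -/
def σh : Equiv.Perm (Fin 5) := Equiv.swap 0 1 * Equiv.swap 1 2

/-- The normalised generators. -/
structure Gens (Q : Subgroup G) (z : G) (a : Fin 5 → G) (x u v y : G) (K : Subgroup G) : Prop where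
  hJ : Hyp Q z
  pts : Pts Q z a
  mem_Q : ∀ g, Acts z a g 1 → g ∈ Q
  lift : ∀ σ, Equiv.Perm.sign σ = 1 → ∃ g, Acts z a g σ
  even : ∀ g σ, Acts z a g σ → Equiv.Perm.sign σ = 1
  cardG : Nat.card G = 604800
  cardK : Nat.card K = 60
  a0 : a 0 = a 1 * a 2 * a 3 * a 4
  x3 : x * x * x = 1
  ordx : orderOf x = 3
  uu : u * u = 1
  vv : v * v = 1
  uv : u * v = v * u
  xu : x * u * x⁻¹ = v
  xv : x * v * x⁻¹ = u * v
  eu : Exact z a u σu
  ev : Exact z a v σv
  ex : Exact z a x σx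
  y3 : y * y * y = 1
  yu : y * u = u * y
  yv : y * v = v * y
  yx : y * x = x * y
  yz : y * z * y⁻¹ = a 0
  ya : y * a 0 * y⁻¹ = z * a 0
  Ku : ∀ k ∈ K, k * u = u * k
  Kv : ∀ k ∈ K, k * v = v * k
  Kx : ∀ k ∈ K, k * x = x * k
  zK : z ∈ K
  aK : a 0 ∈ K
  yK : y ∈ K
  KV : ∀ k ∈ K, k * z = z * k → k = 1 ∨ k = z ∨ k = a 0 ∨ k = z * a 0
  inverting : ∃ t ∈ K, t * t = 1 ∧ t * y * t = y⁻¹ ∧
    ¬ (t * z * t = z ∨ t * z * t = a 0 ∨ t * z * t = z * a 0)
  xK : ∀ i : ℤ, x ^ i ∈ K → x ^ i = 1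
  hom : ∃ φ : ↥(centralizer ({x} : Set G)) →* ↥(alternatingGroup (Fin 6)),
    Function.Surjective φ ∧ ∀ w, φ w = 1 ↔ (w : G) ∈ zpowers x

set_option maxRecDepth 100000 in
theorem x_perm : ∀ σ : Equiv.Perm (Fin 5), σ ^ 3 = 1 → σ ≠ 1 → σ 0 = 0 →
    ∃ j : Fin 5, j ≠ 0 ∧ σ j = j := by decide +kernel

set_option maxRecDepth 100000 in
theorem four_points : ∀ α : Equiv.Perm (Fin 5), Equiv.Perm.sign α = 1 → α * α = 1 → α ≠ 1 →
    α 0 = 0 → ∀ β : Equiv.Perm (Fin 5), Equiv.Perm.sign β = 1 → β * β = 1 → β ≠ 1 → β 0 = 0 →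
      α ≠ β → ∀ j : Fin 5, j ≠ 0 →
        Function.Injective (![0, j, α j, β j, α (β j)] : Fin 5 → Fin 5) := by decide +kernel

theorem relabel (hJ : Hyp Q z) (P : Pts Q z a) {a' : Fin 5 → G} {π : Fin 5 → Fin 5}
    (hπ : Function.Injective π) (h : ∀ p, Same z a (a' p) (π p))
    (hc : ∀ p, IsConj z (a' p)) : Pts Q z a' := by
  have hzz : z * z = 1 := hJ.l.zz
  have hcz : ∀ p, a p * z = z * a p := fun p => hJ.l.comm _ (P.mem p)
  have hmem : ∀ p, a' p ∈ Q := fun p => by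
    rcases h p with e | e <;> rw [e]
    exacts [P.mem _, Q.mul_mem hJ.l.mem (P.mem _)]
  have hanti : ∀ p q, π p ≠ π q → a' p * a' q * (a' p)⁻¹ = z * a' q := by
    intro p q hne
    have e := P.anti (π p) (π q) hne
    have h1 : ∀ w, a (π p) * (z * w) * (a (π p))⁻¹ = z * (a (π p) * w * (a (π p))⁻¹) := fun w => by
      rw [← mul_assoc (a (π p)) z, hcz]; group
    have h2 : ∀ w ∈ Q, z * w * z⁻¹ = w := fun w hw => by
      rw [← hJ.l.comm w hw, mul_inv_cancel_right]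
    have key : a (π p) * a' q * (a (π p))⁻¹ = z * a' q := by
      rcases h q with e' | e' <;> rw [e']
      · exact e
      · rw [h1, e]
    rcases h p with e' | e' <;> rw [e']
    · exact key
    · rw [show z * a (π p) * a' q * (z * a (π p))⁻¹ =
        z * (a (π p) * a' q * (a (π p))⁻¹) * z⁻¹ by group, key]
      exact h2 _ (Q.mul_mem hJ.l.mem (hmem q))
  refine ⟨hmem, fun p => ?_, hc, fun w hw hw2 => ?_, fun p q hpq => hanti p q fun e => hpq (hπ e),
    fun p => ?_⟩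
  · rcases h p with e | e <;> rw [e]
    · exact P.sq _
    · rw [show z * a (π p) * (z * a (π p)) = z * (a (π p) * z) * a (π p) by group, hcz,
        ← mul_assoc z z, hzz, one_mul, P.sq]
  · rcases P.inv_cases w hw hw2 with e | e | ⟨q, e⟩
    · exact Or.inl e
    · exact Or.inr (Or.inl e)
    · obtain ⟨p, rfl⟩ := (Finite.injective_iff_surjective.1 hπ) q
      refine Or.inr (Or.inr ⟨p, ?_⟩)
      rcases h p with e' | e' <;> rcases e with e | e <;> rw [e, e']
      · exact Or.inl rfl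
      · exact Or.inr rfl
      · exact Or.inr (hJ.l.z_mul_z_mul _).symm
      · exact Or.inl rfl
  · refine ⟨?_, ?_⟩
    · intro e
      have h1 := hc p
      rw [e, isConj_one_left] at h1
      exact hJ.l.ne_one h1
    · intro e
      rcases h p with e' | e' <;> rw [e'] at e
      · exact (P.ne (π p)).2 e
      · exact (P.ne (π p)).1 (mul_eq_left.1 e)

theorem exists_gens (hJ : Hyp Q z) :
    ∃ (a : Fin 5 → G) (x u v y : G) (K : Subgroup G), Gens Q z a x u v y K := by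
  classical
  obtain ⟨a, u, u', y, C, K, hK, h60, hG⟩ := J2TypeFive79.exists_kern_order hJ
  obtain ⟨x, X⟩ := exists_elt C hK h60
  have F := C.loc.fr
  have P := F.pts
  have hxz : x * z = z * x := x_z C hK h60 X
  have hxa : x * a 0 = a 0 * x := x_a C hK h60 X
  have hx3 : x * x * x = 1 := by
    have := orderOf_dvd_iff_pow_eq_one.1 (dvd_of_eq X.ord)
    rwa [pow_succ, pow_two] at this
  set v := x * u * x⁻¹ with hv_def
  have hv : v ∈ W C := (mem_normalizer_iff.1 X.norm u).1 (u_mem_W C)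
  set v' := x * v * x⁻¹ with hv'_def
  have hv' : v' ∈ W C := (mem_normalizer_iff.1 X.norm v).1 hv
  have hu1 : u ≠ 1 := u_ne_one C.loc
  have hvu : v ≠ u := fun e => X.move (mul_inv_eq_iff_eq_mul.1 e)
  have hv1 : v ≠ 1 := fun e => hu1 (conj_eq_one_iff.1 e)
  have hv'u : v' ≠ u := by
    intro e
    apply hvu
    have e3 : x * v' * x⁻¹ = u := by
      rw [hv'_def, hv_def]
      calc x * (x * (x * u * x⁻¹) * x⁻¹) * x⁻¹ = (x * x * x) * u * (x * x * x)⁻¹ := by group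
        _ = u := by rw [hx3]; group
    rw [e] at e3
    exact e3
  have hv'v : v' ≠ v := fun e => hvu ((MulAut.conj x).injective (show MulAut.conj x v = MulAut.conj x u from e))
  have hv'1 : v' ≠ 1 := fun e => hv1 (conj_eq_one_iff.1 e)
  have hWc : ∀ s ∈ W C, ∀ t ∈ W C, s * t = t * s := fun s hs t ht => D_comm C.loc hs.1 ht.1
  have huv' : u * v = v' := by
    haveI : Fintype (W C) := Fintype.ofFinite _
    by_contra hne
    have huu : u * u = 1 := C.loc.sq
    have h1 : u * v ≠ 1 := fun e => hvu ((mul_right_inj u).1 (e.trans huu.symm))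
    have h2 : u * v ≠ u := fun e => hv1 (mul_eq_left.1 e)
    have h3 : u * v ≠ v := fun e => hu1 (mul_eq_right.1 e)
    have h5 : ({1, u, v, v', u * v} : Finset G).card = 5 := by
      rw [Finset.card_insert_of_notMem, Finset.card_insert_of_notMem,
        Finset.card_insert_of_notMem, Finset.card_insert_of_notMem, Finset.card_singleton] <;>
        simp [hu1.symm, hv1.symm, hv'1.symm, h1.symm, Ne.symm hvu, Ne.symm hv'u, h2.symm,
          Ne.symm hv'v, h3.symm, Ne.symm hne]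
    have hle : ({1, u, v, v', u * v} : Finset G) ⊆ (W C : Set G).toFinset := by
      intro w hw
      simp only [Finset.mem_insert, Finset.mem_singleton] at hw
      rw [Set.mem_toFinset]
      rcases hw with rfl | rfl | rfl | rfl | rfl
      exacts [one_mem _, u_mem_W C, hv, hv', mul_mem (u_mem_W C) hv]
    have := Finset.card_le_card hle
    rw [h5, Set.toFinset_card, ← Nat.card_eq_fintype_card] at this
    have h4 : Nat.card (W C : Set G) = 4 := card_W C
    omega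
  have hWa : ∀ w ∈ W C, w * a 0 = a 0 * w := fun w hw => D_cent_V C.loc hw.1
  have hWz : ∀ w ∈ W C, w * z = z * w := fun w hw => (mem_D.1 hw.1).1
  have hσ : ∀ w ∈ W C, w ≠ 1 → ∃ σ, Acts z a w σ ∧ Equiv.Perm.sign σ = 1 ∧ σ * σ = 1 ∧ σ ≠ 1 ∧
      σ 0 = 0 := by
    intro w hw hw1
    obtain ⟨σ, hσ⟩ := exists_acts F.hJ P (hWz w hw)
    refine ⟨σ, hσ, F.even hσ, ?_, ?_, acts_fix0 C.loc hσ (hWa w hw)⟩
    · exact acts_unique F.hJ P (acts_mul F.hJ P hσ hσ) (by rw [W_sq C hw]; exact acts_one F.hJ P)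
    · intro e
      exact hw1 (W_inf C hK hw ((hK.inf w hw.1).2 (mem_Q_D C.loc hw.1 (F.mem_Q (e ▸ hσ)))))
  obtain ⟨α, hα, hαs, hα2, hα1, hα0⟩ := hσ u (u_mem_W C) hu1
  obtain ⟨β, hβ, hβs, hβ2, hβ1, hβ0⟩ := hσ v hv hv1
  have hαβ : α ≠ β := by
    intro e
    obtain ⟨γ, hγ, -, -, hγ1, -⟩ := hσ v' hv' hv'1
    apply hγ1
    refine acts_unique F.hJ P hγ ?_
    rw [← huv', ← hα2]
    nth_rw 2 [e]
    exact acts_mul F.hJ P hα hβ
  obtain ⟨ξ, hξ⟩ := exists_acts F.hJ P hxz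
  obtain ⟨j, hj0, hj⟩ := x_perm ξ (by
      refine acts_unique F.hJ P (acts_pow F.hJ P hξ 3) ?_
      rw [pow_succ, pow_two, hx3]; exact acts_one F.hJ P)
    (fun e => by
      have hQ := F.mem_Q (e ▸ hξ)
      have hd := orderOf_dvd_natCard (⟨x, hQ⟩ : Q)
      rw [← Subgroup.orderOf_coe, F.hJ.cardQ, X.ord] at hd
      exact absurd hd (by norm_num))
    (acts_fix0 C.loc hξ hxa)
  -- the new points
  set π : Fin 5 → Fin 5 := ![0, j, α j, β j, α (β j)]
  have hπ : Function.Injective π := four_points α hαs hα2 hα1 hα0 β hβs hβ2 hβ1 hβ0 hαβ j hj0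
  set b := a j
  let c : Fin 5 → G := ![a 0, b, u * b * u⁻¹, v * b * v⁻¹, v' * b * v'⁻¹]
  have hsame : ∀ p, Same z a (c p) (π p) := by
    intro p
    fin_cases p
    · exact Or.inl rfl
    · exact Or.inl rfl
    · exact hα.2 j
    · exact hβ.2 j
    · show Same z a (v' * b * v'⁻¹) (α (β j))
      rw [← huv']
      exact (acts_mul F.hJ P hα hβ).2 j
  have hxb : x * b * x⁻¹ = b := by
    have h1 := hξ.2 j
    rw [hj] at h1
    rcases h1 with e | e
    · exact e
    · exfalso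
      refine F.ext.z_mul_ne b ?_
      have hz1 : ∀ w, x * (z * w) * x⁻¹ = z * (x * w * x⁻¹) := fun w => by
        rw [← mul_assoc x z, hxz]; group
      calc z * b = x * (x * (x * b * x⁻¹) * x⁻¹) * x⁻¹ := by
            rw [e, hz1, e, F.ext.z_mul_z_mul, e]
        _ = (x * x * x) * b * (x * x * x)⁻¹ := by group
        _ = b := by rw [hx3]; group
  have hbQ : b ∈ Q := P.mem j
  have hwQ : ∀ w ∈ W C, w * b * w⁻¹ ∈ Q := fun w hw => norm_Q F.hJ (hWz w hw) _ hbQ
  have hbconj : ∀ w : G, IsConj z (w * b * w⁻¹) := fun w =>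
    (P.conj j).trans (isConj_iff.2 ⟨w, rfl⟩)
  have Pc : Pts Q z c := relabel F.hJ P hπ hsame (fun p => by
    fin_cases p
    exacts [P.conj 0, P.conj j, hbconj u, hbconj v, hbconj v'])
  have huu : u * u = 1 := C.loc.sq
  have hvv : v * v = 1 := W_sq C hv
  have huv : u * v = v * u := hWc u (u_mem_W C) v hv
  have hxv : x * v * x⁻¹ = u * v := huv'.symm
  have hfix0 : ∀ w : G, w * a 0 = a 0 * w → w * a 0 * w⁻¹ = a 0 := fun w e =>
    mul_inv_eq_iff_eq_mul.2 e
  have hcc : ∀ p q : G, p * (q * b * q⁻¹) * p⁻¹ = p * q * b * (p * q)⁻¹ := fun p q => by group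
  have hxq : ∀ q : G, x * (q * b * q⁻¹) * x⁻¹ = (x * q * x⁻¹) * b * (x * q * x⁻¹)⁻¹ := fun q => by
    calc x * (q * b * q⁻¹) * x⁻¹ = (x * q * x⁻¹) * (x * b * x⁻¹) * (x * q * x⁻¹)⁻¹ := by group
      _ = _ := by rw [hxb]
  have ec : (u * v) * b * (u * v)⁻¹ = v' * b * v'⁻¹ := by rw [huv']
  have eu : Exact z c u σu := by
    refine ⟨hWz u (u_mem_W C), fun p => ?_⟩
    fin_cases p
    · exact hfix0 u (hWa u (u_mem_W C))
    · rfl
    · show u * (u * b * u⁻¹) * u⁻¹ = b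
      rw [hcc, huu]; group
    · show u * (v * b * v⁻¹) * u⁻¹ = v' * b * v'⁻¹
      rw [hcc, huv']
    · show u * (v' * b * v'⁻¹) * u⁻¹ = v * b * v⁻¹
      rw [hcc, ← huv', ← mul_assoc, huu, one_mul]
  have ev : Exact z c v σv := by
    refine ⟨hWz v hv, fun p => ?_⟩
    fin_cases p
    · exact hfix0 v (hWa v hv)
    · rfl
    · show v * (u * b * u⁻¹) * v⁻¹ = v' * b * v'⁻¹
      rw [hcc, ← huv, huv']
    · show v * (v * b * v⁻¹) * v⁻¹ = b
      rw [hcc, hvv]; group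
    · show v * (v' * b * v'⁻¹) * v⁻¹ = u * b * u⁻¹
      rw [hcc, ← huv', huv, ← mul_assoc, hvv, one_mul]
  have ex : Exact z c x σx := by
    refine ⟨hxz, fun p => ?_⟩
    fin_cases p
    · exact hfix0 x hxa
    · exact hxb
    · exact hxq u
    · exact hxq v
    · show x * (v' * b * v'⁻¹) * x⁻¹ = u * b * u⁻¹
      rw [hxq, hv'_def, hv_def,
        show x * (x * (x * u * x⁻¹) * x⁻¹) * x⁻¹ = (x * x * x) * u * (x * x * x)⁻¹ by group, hx3,
        one_mul, inv_one, mul_one]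
  have hyv : y * v = v * y := ((mem_W C).1 hv).2.symm
  have hKv : ∀ k ∈ K, k * v = v * k := fun k hk => (W_comm hK h60 hv hk).symm
  have hKV : ∀ k ∈ K, k * z = z * k → k = 1 ∨ k = z ∨ k = a 0 ∨ k = z * a 0 := fun k hk e =>
    (mem_V C.loc).1 (cent_mem_V hK (z_mem_V C.loc) (z_ne C) hk e)
  obtain ⟨t, htK, ht2, hty, htM, -⟩ := exists_inverting hK h60
  have htinv : t⁻¹ = t := inv_eq_of_mul_eq_one_right ht2
  rw [htinv] at hty
  have htz : ¬ (t * z * t = z ∨ t * z * t = a 0 ∨ t * z * t = z * a 0) := fun e => htM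
    ((mem_M hK).2 ⟨htK, by rw [htinv]; exact (mem_V C.loc).2 (Or.inr e)⟩)
  obtain ⟨φ, hφ⟩ := exists_hom C hK h60 X
  -- the product of the four moved points
  have hprod : c 1 * c 2 * c 3 * c 4 = c 0 ∨ c 1 * c 2 * c 3 * c 4 = z * c 0 := by
    have hm : ∀ p, c p ∈ Q := Pc.mem
    have s12 := sig_mul F.hJ Pc (sig_point F.hJ Pc 1) (sig_point F.hJ Pc 2)
      (F.hJ.l.comm _ (hm 1))
    have s123 := sig_mul F.hJ Pc s12 (sig_point F.hJ Pc 3)
      (F.hJ.l.comm _ (Q.mul_mem (hm 1) (hm 2)))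
    have s := sig_mul F.hJ Pc s123 (sig_point F.hJ Pc 4)
      (F.hJ.l.comm _ (Q.mul_mem (Q.mul_mem (hm 1) (hm 2)) (hm 3)))
    refine same_of_sig F.hJ Pc (Q.mul_mem (Q.mul_mem (Q.mul_mem (hm 1) (hm 2)) (hm 3)) (hm 4))
      (hm 0) ?_ (sig_point F.hJ Pc 0)
    convert s using 1
    exact funext (by decide)
  have hac : ∀ (c' : Fin 5 → G), Pts Q z c' → (∀ p, Same z a (c' p) (π p)) → ∀ g σ,
      Acts z c' g σ → ∃ τ : Equiv.Perm (Fin 5), Acts z a g τ ∧ ∀ p, τ (π p) = π (σ p) := by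
    intro c' _ hs g σ hg
    obtain ⟨τ, hτ⟩ := exists_acts F.hJ P hg.1
    refine ⟨τ, hτ, fun p => ?_⟩
    refine same_inj F.hJ P (?_ : Same z a (g * c' p * g⁻¹) (τ (π p))) ?_
    · exact conj_same F.hJ P hg.1 (hs p) (hτ.2 (π p))
    · rcases hg.2 p with e | e <;> rw [e] <;> rcases hs (σ p) with e' | e' <;> rw [e']
      exacts [Or.inl rfl, Or.inr rfl, Or.inr rfl, Or.inl (F.ext.z_mul_z_mul _)]
  have hrest : ∀ (c' : Fin 5 → G), Pts Q z c' → (∀ p, Same z a (c' p) (π p)) →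
      (∀ g, Acts z c' g 1 → g ∈ Q) ∧
        (∀ σ, Equiv.Perm.sign σ = 1 → ∃ g, Acts z c' g σ) ∧
        ∀ g σ, Acts z c' g σ → Equiv.Perm.sign σ = 1 := by
    intro c' hP' hs
    let πe : Equiv.Perm (Fin 5) :=
      Equiv.ofBijective π ⟨hπ, Finite.injective_iff_surjective.1 hπ⟩
    refine ⟨fun g hg => ?_, fun σ hσ => ?_, fun g σ hg => ?_⟩
    · obtain ⟨τ, hτ, e⟩ := hac c' hP' hs g 1 hg
      refine F.mem_Q ?_
      convert hτ
      ext p
      obtain ⟨q, rfl⟩ := πe.surjective p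
      show ((1 : Equiv.Perm (Fin 5)) (π q) : ℕ) = (τ (π q) : ℕ)
      rw [e q]; rfl
    · obtain ⟨g, hg⟩ := F.lift (σ := πe * σ * πe⁻¹) (by simp [hσ])
      obtain ⟨σ', hσ'⟩ := exists_acts F.hJ hP' hg.1
      obtain ⟨τ, hτ, e⟩ := hac c' hP' hs g σ' hσ'
      refine ⟨g, ?_⟩
      convert hσ'
      have eτ : τ = πe * σ * πe⁻¹ := acts_unique F.hJ P hτ hg
      refine Equiv.ext fun p => hπ ?_
      have e' := e p
      rw [eτ] at e'
      rw [← e']
      show π (σ p) = πe (σ (πe⁻¹ (πe p)))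
      rw [Equiv.Perm.coe_inv, Equiv.symm_apply_apply]
      rfl
    · obtain ⟨τ, hτ, e⟩ := hac c' hP' hs g σ hg
      have eτ : τ = πe * σ * πe⁻¹ := by
        refine Equiv.ext fun p => ?_
        obtain ⟨q, rfl⟩ := πe.surjective p
        rw [Equiv.Perm.mul_apply, Equiv.Perm.mul_apply, Equiv.Perm.coe_inv, Equiv.symm_apply_apply]
        exact e q
      have := F.even hτ
      rw [eτ, map_mul, map_mul, map_inv] at this
      simpa [mul_comm, mul_left_comm] using this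
  obtain ⟨r1, r2, r3⟩ := hrest c Pc hsame
  rcases hprod with e | e
  · exact ⟨c, x, u, v, y, K,
      { hJ := F.hJ, pts := Pc, mem_Q := r1, lift := r2, even := r3, cardG := hG, cardK := h60
        a0 := e.symm, x3 := hx3, ordx := X.ord, uu := huu, vv := hvv, uv := huv, xu := hv_def.symm
        xv := hxv, eu := eu, ev := ev, ex := ex, y3 := y3 C, yu := C.yu, yv := hyv
        yx := (X.cK y hK.ymem).symm, yz := C.yz, ya := C.ya, Ku := hK.le, Kv := hKv
        Kx := fun k hk => (X.cK k hk).symm, zK := z_mem_K hK, aK := V_le_K hK (a_mem_V C.loc)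
        yK := hK.ymem, KV := hKV, inverting := ⟨t, htK, ht2, hty, htz⟩
        xK := fun i => x_notMem_K C hK h60 X, hom := ⟨φ, hφ⟩ }⟩
  -- otherwise replace `a 0` by `z * a 0` and `y` by `y⁻¹`
  set d := Function.update c 0 (z * a 0) with hd
  have hd0 : d 0 = z * a 0 := by simp [hd]
  have hdp : ∀ p, p ≠ 0 → d p = c p := fun p hp => by simp [hd, hp]
  have hsame' : ∀ p, Same z a (d p) (π p) := fun p => by
    by_cases hp : p = 0
    · subst hp; rw [hd0]; exact Or.inr rfl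
    · rw [hdp p hp]; exact hsame p
  have hyi : y⁻¹ * z * y = z * a 0 := by
    nth_rw 1 [← y_za C]
    group
  have hyi2 : y⁻¹ * (z * a 0) * y = z * (z * a 0) := by
    rw [F.ext.z_mul_z_mul]
    nth_rw 1 [← C.ya]
    group
  have Pd : Pts Q z d := relabel F.hJ P hπ hsame' (fun p => by
    by_cases hp : p = 0
    · subst hp; rw [hd0, ← hyi]; exact isConj_iff.2 ⟨y⁻¹, by group⟩
    · rw [hdp p hp]; exact Pc.conj p)
  have hcomm0 : ∀ g : G, g * z = z * g → g * a 0 * g⁻¹ = a 0 → g * d 0 * g⁻¹ = d 0 := by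
    intro g hg hg0
    rw [hd0, ← mul_assoc g z, hg]
    calc z * g * a 0 * g⁻¹ = z * (g * a 0 * g⁻¹) := by group
      _ = _ := by rw [hg0]
  have hex : ∀ (g : G) (σ : Equiv.Perm (Fin 5)), σ 0 = 0 → Exact z c g σ → Exact z d g σ := by
    intro g σ hσ0 hg
    refine ⟨hg.1, fun p => ?_⟩
    by_cases hp : p = 0
    · subst hp
      have h0 := hg.2 0
      rw [hσ0] at h0 ⊢
      exact hcomm0 g hg.1 h0
    · rw [hdp p hp, hdp (σ p) fun e' => hp (σ.injective (e'.trans hσ0.symm))]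
      exact hg.2 p
  obtain ⟨s1, s2, s3⟩ := hrest d Pd hsame'
  have hy3 : y⁻¹ * y⁻¹ * y⁻¹ = 1 := by rw [← mul_inv_rev, ← mul_inv_rev, ← mul_assoc, y3 C, inv_one]
  exact ⟨d, x, u, v, y⁻¹, K,
    { hJ := F.hJ, pts := Pd, mem_Q := s1, lift := s2, even := s3, cardG := hG, cardK := h60
      a0 := by
        rw [hd0, hdp 1 (by decide), hdp 2 (by decide), hdp 3 (by decide), hdp 4 (by decide)]
        exact e.symm
      x3 := hx3, ordx := X.ord, uu := huu, vv := hvv, uv := huv, xu := hv_def.symm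
      xv := hxv, eu := hex u σu (by decide) eu, ev := hex v σv (by decide) ev
      ex := hex x σx (by decide) ex, y3 := hy3
      yu := (show Commute y u from C.yu).inv_left.eq
      yv := (show Commute y v from hyv).inv_left.eq
      yx := (show Commute y x from (X.cK y hK.ymem).symm).inv_left.eq
      yz := by rw [inv_inv, hd0]; exact hyi
      ya := by rw [inv_inv, hd0]; exact hyi2
      Ku := hK.le, Kv := hKv
      Kx := fun k hk => (X.cK k hk).symm, zK := z_mem_K hK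
      aK := by rw [hd0]; exact mul_mem (z_mem_K hK) (V_le_K hK (a_mem_V C.loc))
      yK := inv_mem hK.ymem
      KV := fun k hk e' => by
        rw [hd0, F.ext.z_mul_z_mul]
        rcases hKV k hk e' with h | h | h | h
        exacts [Or.inl h, Or.inr (Or.inl h), Or.inr (Or.inr (Or.inr h)), Or.inr (Or.inr (Or.inl h))]
      inverting := ⟨t, htK, ht2, by
        rw [inv_inv]
        have h5 := congrArg Inv.inv hty
        rw [mul_inv_rev, mul_inv_rev, htinv, inv_inv, ← mul_assoc] at h5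
        exact h5, by
        rw [hd0, F.ext.z_mul_z_mul]
        rintro (h | h | h)
        exacts [htz (Or.inl h), htz (Or.inr (Or.inr h)), htz (Or.inr (Or.inl h))]⟩
      xK := fun i => x_notMem_K C hK h60 X, hom := ⟨φ, hφ⟩ }⟩

end Cfsg.Agent.J2RecFrame30
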