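import Cfsg.Agent.Lib.J2RecFrame30

/-!
# Recognition of the Hall–Janko group: the local relations

The element of order three acting as `(012)` and the action of `y` on the product of two points.
-/

set_option autoImplicit false
set_option synthInstance.maxSize 100000
set_option synthInstance.maxHeartbeats 1000000

namespace Cfsg.Agent.J2RecRel30

open Subgroup Cfsg.Agent.LargeExtraspecial Cfsg.Agent.J2TypePoints79 Cfsg.Agent.J2TypeAction79
open Cfsg.Agent.J2RecFrame30

/-- `1` or `z`. -/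
def Z {G : Type*} [One G] (z : G) (b : Bool) : G := if b then z else 1

/-- `g` centralises `z` and sends `a p` to `Z (t p) * a (σ p)`. -/
def SAct {G : Type*} [Group G] (z : G) (a : Fin 5 → G) (g : G) (σ : Equiv.Perm (Fin 5))
    (t : Fin 5 → Bool) : Prop :=
  g * z = z * g ∧ ∀ p, g * a p * g⁻¹ = Z z (t p) * a (σ p)

variable {G : Type*} [Group G] [Finite G] {Q : Subgroup G} {z : G} {a : Fin 5 → G}
variable {x u v y : G} {K : Subgroup G} (S : Gens Q z a x u v y K)
include S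

theorem z_ne : z ≠ 1 := S.hJ.l.ne_one

theorem az (p : Fin 5) : a p * z = z * a p := S.hJ.l.comm _ (S.pts.mem p)

theorem zz : z * z = 1 := S.hJ.l.zz

theorem Z_mul (b c : Bool) : Z z b * Z z c = Z z (xor b c) := by
  cases b <;> cases c <;> simp [Z, zz S]

omit S [Finite G] in
theorem Z_conj {g : G} (hg : g * z = z * g) (b : Bool) : g * Z z b * g⁻¹ = Z z b := by
  cases b
  · simp [Z]
  · simp [Z, hg]

theorem exact_sact {g : G} {σ : Equiv.Perm (Fin 5)} (h : Exact z a g σ) :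
    SAct z a g σ fun _ => false :=
  ⟨h.1, fun p => by simp [Z, h.2 p]⟩

theorem sig_sact {g : G} {t : Fin 5 → Bool} (hg : g * z = z * g) (h : Sig z a g t) :
    SAct z a g 1 t :=
  ⟨hg, fun p => by rw [h p]; cases t p <;> simp [Z]⟩

theorem sact_mul {g k : G} {σ τ : Equiv.Perm (Fin 5)} {s t : Fin 5 → Bool}
    (hg : SAct z a g σ s) (hk : SAct z a k τ t) :
    SAct z a (g * k) (σ * τ) fun p => xor (t p) (s (τ p)) := by
  refine ⟨((show Commute g z from hg.1).mul_left hk.1).eq, fun p => ?_⟩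
  rw [show g * k * a p * (g * k)⁻¹ = g * (k * a p * k⁻¹) * g⁻¹ by group, hk.2,
    show g * (Z z (t p) * a (τ p)) * g⁻¹ = (g * Z z (t p) * g⁻¹) * (g * a (τ p) * g⁻¹) by group,
    Z_conj hg.1, hg.2, ← mul_assoc, Z_mul S]
  rfl

theorem sact_unique {g : G} {σ τ : Equiv.Perm (Fin 5)} {s t : Fin 5 → Bool}
    (h1 : SAct z a g σ s) (h2 : SAct z a g τ t) : σ = τ ∧ s = t := by
  have hA : ∀ {ρ : Equiv.Perm (Fin 5)} {r : Fin 5 → Bool}, SAct z a g ρ r → Acts z a g ρ :=
    fun {ρ r} h => ⟨h.1, fun p => by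
      rw [h.2 p]; cases r p
      · exact Or.inl (by simp [Z])
      · exact Or.inr (by simp [Z])⟩
  obtain rfl := acts_unique S.hJ S.pts (hA h1) (hA h2)
  refine ⟨rfl, funext fun p => ?_⟩
  have e := mul_right_cancel ((h1.2 p).symm.trans (h2.2 p))
  cases hs : s p <;> cases ht : t p <;>
    simp only [hs, ht, Z, Bool.false_eq_true, if_false, if_true] at e
  · rfl
  · exact absurd e.symm (z_ne S)
  · exact absurd e (z_ne S)
  · rfl

theorem exact_one {g : G} (hg : Exact z a g 1) : g = 1 ∨ g = z :=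
  cent_pts S.hJ S.pts (S.mem_Q g hg.acts) fun p => by simpa using hg.2 p

theorem exact_eq {g k : G} {σ : Equiv.Perm (Fin 5)} (hg : Exact z a g σ) (hk : Exact z a k σ) :
    g = k ∨ g = z * k := by
  rcases exact_one S ((hg.mul hk.inv).congr (mul_inv_cancel σ)) with e | e
  · exact Or.inl (mul_inv_eq_one.1 e)
  · exact Or.inr (mul_inv_eq_iff_eq_mul.1 e)

theorem exact_eq_three {g k : G} {σ : Equiv.Perm (Fin 5)} (hg : Exact z a g σ)
    (hk : Exact z a k σ) (g3 : g * g * g = 1) (k3 : k * k * k = 1) : g = k := by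
  rcases exact_eq S hg hk with e | e
  · exact e
  · exfalso
    apply z_ne S
    rw [e] at g3
    calc z = (z * z) * z * (k * k * k) := by rw [zz S, k3, one_mul, mul_one]
      _ = z * (z * (z * k) * k) * k := by group
      _ = z * (z * (k * z) * k) * k := by rw [hk.1]
      _ = z * (z * k * (z * k)) * k := by group
      _ = z * ((k * z) * (z * k)) * k := by rw [hk.1]
      _ = (z * k) * (z * z) * k * k := by group
      _ = z * k * k * k := by rw [zz S, mul_one]
      _ = 1 := by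
        rw [← g3, show z * k * (z * k) * (z * k) = z * (k * z) * k * z * k by group, hk.1,
          show z * (z * k) * k * z * k = (z * z) * k * (k * z) * k by group, hk.1, zz S, one_mul,
          show k * (z * k) * k = (k * z) * k * k by group, hk.1]

theorem pow_card_Q {g : G} (hg : g ∈ Q) : g ^ 32 = 1 := by
  have := congrArg Subtype.val (pow_card_eq_one' (x := (⟨g, hg⟩ : Q)))
  rwa [S.hJ.cardQ] at this

set_option maxRecDepth 100000 in
omit [Finite G] S in
theorem sign_choice : ∀ s : Fin 5 → Bool, s 3 = false → s 4 = false →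
    xor (s 0) (xor (s 1) (s 2)) = false →
    ∃ w : J2TypeAction79.W, ∀ p : Fin 5,
      xor (wsig w p) (xor (s p) (wsig w (σh p))) = false := by
  decide +kernel

/-- An element of order three acting exactly as `(012)`. -/
theorem exists_h : ∃ h : G, h * h * h = 1 ∧ Exact z a h σh := by
  obtain ⟨g, hg⟩ := S.lift σh (by decide)
  set k := g ^ 64
  have hk : Acts z a k σh := by
    have e : σh ^ 64 = σh := by decide +kernel
    have := acts_pow S.hJ S.pts hg 64
    rwa [e] at this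
  have hk3 : k * k * k = 1 := by
    have hq : g ^ 3 ∈ Q := S.mem_Q _ (by
      have e : σh ^ 3 = 1 := by decide +kernel
      have := acts_pow S.hJ S.pts hg 3
      rwa [e] at this)
    have := pow_card_Q S hq
    calc k * k * k = ((g ^ 3) ^ 32) ^ 2 := by
          simp only [k, ← pow_mul, ← pow_add]
      _ = 1 := by rw [this, one_pow]
  choose s hs using fun p => show ∃ b, k * a p * k⁻¹ = Z z b * a (σh p) by
    rcases hk.2 p with e | e
    · exact ⟨false, by simpa [Z] using e⟩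
    · exact ⟨true, by simpa [Z] using e⟩
  have hK : SAct z a k σh s := ⟨hk.1, hs⟩
  have h3 := sact_mul S (sact_mul S hK hK) hK
  rw [hk3] at h3
  obtain ⟨-, e3⟩ := sact_unique S h3 (exact_sact S ⟨by simp, fun p => by simp⟩ :
    SAct z a 1 1 _)
  have f : ∀ p, xor (s p) (xor (s (σh p)) (s (σh (σh p)))) = false := congrFun e3
  have f0 := f 0
  have f3 := f 3
  have f4 := f 4
  simp only [show σh 0 = 1 by decide, show σh 1 = 2 by decide] at f0
  simp only [show σh 3 = 3 by decide, Bool.xor_self, Bool.xor_false] at f3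
  simp only [show σh 4 = 4 by decide, Bool.xor_self, Bool.xor_false] at f4
  obtain ⟨w, hw⟩ := sign_choice s f3 f4 f0
  set q := word a w
  have hq : q ∈ Q := word_mem S.pts w
  have hqz : q * z = z * q := S.hJ.l.comm q hq
  have hsig : SAct z a q 1 (wsig w) := sig_sact S hqz (sig_word S.hJ S.pts w)
  have hsigi : SAct z a q⁻¹ 1 (wsig w) := by
    refine ⟨(show Commute q z from hqz).inv_left.eq, fun p => ?_⟩
    have e := hsig.2 p
    simp only [Equiv.Perm.one_apply] at e ⊢
    have e2 : q⁻¹ * (Z z (wsig w p) * a p) * q⁻¹⁻¹ = a p := by rw [← e]; group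
    rw [show q⁻¹ * (Z z (wsig w p) * a p) * q⁻¹⁻¹ =
      (q⁻¹ * Z z (wsig w p) * q⁻¹⁻¹) * (q⁻¹ * a p * q⁻¹⁻¹) by group,
      Z_conj (show Commute q z from hqz).inv_left.eq] at e2
    calc q⁻¹ * a p * q⁻¹⁻¹
        = (Z z (wsig w p) * Z z (wsig w p)) * (q⁻¹ * a p * q⁻¹⁻¹) := by
          rw [Z_mul S, Bool.xor_self]; simp [Z]
      _ = Z z (wsig w p) * a p := by rw [mul_assoc, e2]
  refine ⟨q * k * q⁻¹, ?_, ?_⟩
  · calc q * k * q⁻¹ * (q * k * q⁻¹) * (q * k * q⁻¹) = q * (k * k * k) * q⁻¹ := by group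
      _ = 1 := by rw [hk3]; group
  · have h := sact_mul S (sact_mul S hsig hK) hsigi
    refine ⟨h.1, fun p => ?_⟩
    rw [h.2 p]
    show Z z (xor (wsig w p) (xor (s p) (wsig w (σh p)))) * a (σh p) = a (σh p)
    simp [Z, hw p]

theorem anti' {p q : Fin 5} (h : p ≠ q) : a p * a q * a p = z * a q := by
  have := S.pts.anti p q h
  rwa [S.pts.inv_self] at this

theorem pair_sq {p q : Fin 5} (h : p ≠ q) : a p * a q * (a p * a q) = z := by
  rw [← mul_assoc, anti' S h, mul_assoc, S.pts.sq, mul_one]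

theorem swap_ne {p q : Fin 5} (h : p ≠ q) : a q * a p = z * (a p * a q) := by
  calc a q * a p = (a p * a p) * (a q * a p) := by rw [S.pts.sq, one_mul]
    _ = a p * (a p * a q * a p) := by group
    _ = (a p * z) * a q := by rw [anti' S h]; group
    _ = _ := by rw [az S]; group

/-- A third point commutes with a product of two points. -/
theorem comm_pair {p q r : Fin 5} (hp : p ≠ r) (hq : q ≠ r) :
    a r * (a p * a q) = a p * a q * a r := by
  calc a r * (a p * a q) = (a r * a p) * a q := (mul_assoc _ _ _).symm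
    _ = z * a p * (a r * a q) := by rw [swap_ne S hp]; group
    _ = z * (a p * z) * (a q * a r) := by rw [swap_ne S hq]; group
    _ = (z * z) * (a p * a q) * a r := by rw [az S]; group
    _ = _ := by rw [zz S, one_mul]

set_option maxRecDepth 100000 in
omit [Finite G] S in
theorem re_key : ∀ σ : Equiv.Perm (Fin 5), σ 0 = 0 → σ * σ = 1 → σu * σ * σu⁻¹ = σ →
    σ * (σx * σ * σx⁻¹) = σx * (σx * σ * σx⁻¹) * σx⁻¹ → Equiv.Perm.sign σ = 1 →
    ∀ t : Fin 5 → Bool, t 0 = false → (∀ p, xor (t p) (t (σ p)) = decide (p ≠ 0)) →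
      (∀ p, t (σu⁻¹ p) = xor (t p) (decide (σ p ≠ 0))) →
      (∀ p, xor (t (σx⁻¹ p)) (t ((σx * σ * σx⁻¹) p)) =
        xor (decide (p ≠ 0)) (t (σx⁻¹ (σx⁻¹ p)))) →
      σv * σ * σv⁻¹ = σ → (∀ p, t (σv⁻¹ p) = t p) →
      (σ = σu * σv ∧ ∀ p, t p = xor (decide ((σu * σv) p ≠ 1)) (decide ((σu * σv) p ≠ 3))) ∨
      (σ = σu ∧ ∀ p, t p = xor (decide (σu p ≠ 2)) (decide (σu p ≠ 4))) := by
  decide +kernel

/-- The image of the product of two points under `y`. -/
theorem y_pair : y * (a 1 * a 2) * y⁻¹ = a 1 * a 3 * (u * v) := by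
  set s := y * (a 1 * a 2) * y⁻¹ with hs_def
  have hez : a 1 * a 2 * z = z * (a 1 * a 2) :=
    ((show Commute (a 1) z from az S 1).mul_left (az S 2)).eq
  have he0 : a 0 * (a 1 * a 2) = a 1 * a 2 * a 0 := comm_pair S (by decide) (by decide)
  have hza : (z * a 0) * (a 1 * a 2) = a 1 * a 2 * (z * a 0) := by
    rw [mul_assoc, he0, ← mul_assoc, ← hez, mul_assoc]
  have hc : ∀ {w : G}, a 1 * a 2 * w = w * (a 1 * a 2) →
      s * (y * w * y⁻¹) = (y * w * y⁻¹) * s := fun {w} e => by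
    rw [hs_def, show y * (a 1 * a 2) * y⁻¹ * (y * w * y⁻¹) = y * (a 1 * a 2 * w) * y⁻¹ by group,
      e]
    group
  have s0 : s * a 0 = a 0 * s := S.yz ▸ hc hez
  have sza : s * (z * a 0) = (z * a 0) * s := S.ya ▸ hc he0.symm
  have sz : s * z = z * s := by
    have h := (show Commute s (z * a 0) from sza).mul_right (show Commute s (a 0) from s0)
    rw [mul_assoc, S.pts.sq, mul_one] at h
    exact h.eq
  obtain ⟨σ, hσ⟩ := exists_acts S.hJ S.pts sz
  choose t ht using fun p => show ∃ b, s * a p * s⁻¹ = Z z b * a (σ p) by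
    rcases hσ.2 p with e | e
    · exact ⟨false, by simpa [Z] using e⟩
    · exact ⟨true, by simpa [Z] using e⟩
  have hS : SAct z a s σ t := ⟨sz, ht⟩
  have hσ0 : σ 0 = 0 ∧ t 0 = false := by
    have e1 : s * a 0 * s⁻¹ = a 0 := mul_inv_eq_iff_eq_mul.2 s0
    have e2 : σ 0 = 0 :=
      same_inj S.hJ S.pts (hσ.2 0) (Or.inl e1 : Same z a (s * a 0 * s⁻¹) 0)
    refine ⟨e2, ?_⟩
    rw [ht 0, e2] at e1
    cases hb : t 0
    · rfl
    · exfalso
      rw [hb] at e1
      exact z_ne S (mul_eq_right.1 e1)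
  have ha0 := sig_sact S (az S 0) (sig_point S.hJ S.pts 0)
  have hx := exact_sact S S.ex
  have hxi := exact_sact S S.ex.inv
  have hu := exact_sact S S.eu
  have hui := exact_sact S S.eu.inv
  have r1 : s * s = a 0 := by
    rw [hs_def, show y * (a 1 * a 2) * y⁻¹ * (y * (a 1 * a 2) * y⁻¹) =
      y * (a 1 * a 2 * (a 1 * a 2)) * y⁻¹ by group, pair_sq S (by decide), S.yz]
  have ue : u * (a 1 * a 2) * u⁻¹ = a 2 * a 1 := by
    rw [show u * (a 1 * a 2) * u⁻¹ = (u * a 1 * u⁻¹) * (u * a 2 * u⁻¹) by group, S.eu.2, S.eu.2]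
    rfl
  have r2 : u * s * u⁻¹ = a 0 * s := by
    have c1 : u * y = y * u := S.yu.symm
    rw [hs_def]
    calc u * (y * (a 1 * a 2) * y⁻¹) * u⁻¹ = (u * y) * (a 1 * a 2) * (u * y)⁻¹ := by group
      _ = y * (u * (a 1 * a 2) * u⁻¹) * y⁻¹ := by rw [c1]; group
      _ = y * (z * (a 1 * a 2)) * y⁻¹ := by rw [ue, swap_ne S (show (1 : Fin 5) ≠ 2 by decide)]
      _ = (y * z * y⁻¹) * (y * (a 1 * a 2) * y⁻¹) := by group
      _ = _ := by rw [S.yz]
  have xe : ∀ p q : Fin 5, x * (y * (a p * a q) * y⁻¹) * x⁻¹ =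
      y * (a (σx p) * a (σx q)) * y⁻¹ := fun p q => by
    calc x * (y * (a p * a q) * y⁻¹) * x⁻¹ = (x * y) * (a p * a q) * (x * y)⁻¹ := by group
      _ = y * ((x * a p * x⁻¹) * (x * a q * x⁻¹)) * y⁻¹ := by rw [← S.yx]; group
      _ = _ := by rw [S.ex.2, S.ex.2]
  have key : a 1 * a 2 * (a 1 * a 3) = a 1 * a 4 * a 0 := by
    calc a 1 * a 2 * (a 1 * a 3) = (a 1 * a 2 * a 1) * a 3 := by group
      _ = z * (a 2 * a 3) := by rw [anti' S (by decide)]; group
      _ = z * (a 2 * a 3) * (a 4 * a 4) := by rw [S.pts.sq, mul_one]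
      _ = z * (a 2 * a 3 * a 4) * a 4 := by group
      _ = (z * a 4) * (a 2 * a 3) * a 4 := by
        rw [← comm_pair S (show (2 : Fin 5) ≠ 4 by decide) (show (3 : Fin 5) ≠ 4 by decide)]
        group
      _ = a 1 * a 4 * (a 1 * a 2 * a 3 * a 4) := by
        rw [← anti' S (show (1 : Fin 5) ≠ 4 by decide)]; group
      _ = _ := by rw [← S.a0]
  have r3 : s * (x * s * x⁻¹) = x * (x * s * x⁻¹) * x⁻¹ * (z * a 0) := by
    have e1 : x * s * x⁻¹ = y * (a 1 * a 3) * y⁻¹ := xe 1 2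
    rw [e1, show x * (y * (a 1 * a 3) * y⁻¹) * x⁻¹ = y * (a 1 * a 4) * y⁻¹ from xe 1 3, ← S.ya,
      hs_def]
    calc _ = y * (a 1 * a 2 * (a 1 * a 3)) * y⁻¹ := by group
      _ = _ := by rw [key]; group
  have hxs := sact_mul S (sact_mul S hx hS) hxi
  have hxxs := sact_mul S (sact_mul S hx hxs) hxi
  have hz : SAct z a z 1 fun _ => false := sig_sact S rfl (sig_z S.hJ S.pts)
  obtain ⟨p1, q1⟩ := sact_unique S (r1 ▸ sact_mul S hS hS) ha0
  obtain ⟨p2, q2⟩ := sact_unique S (r2 ▸ sact_mul S (sact_mul S hu hS) hui) (sact_mul S ha0 hS)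
  obtain ⟨p3, q3⟩ := sact_unique S (r3 ▸ sact_mul S hS hxs)
    (sact_mul S hxxs (sact_mul S hz ha0))
  rw [one_mul] at p2
  simp only [mul_one] at p3
  have g1 : ∀ p, xor (t p) (t (σ p)) = decide (p ≠ 0) := congrFun q1
  have g2 : ∀ p, t (σu⁻¹ p) = xor (t p) (decide (σ p ≠ 0)) := fun p => by
    simpa using congrFun q2 p
  have g3 : ∀ p, xor (t (σx⁻¹ p)) (t ((σx * σ * σx⁻¹) p)) =
      xor (decide (p ≠ 0)) (t (σx⁻¹ (σx⁻¹ p))) := fun p => by
    simpa using congrFun q3 p
  have r4 : v * s * v⁻¹ = z * s := by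
    have c1 : v * y = y * v := S.yv.symm
    have ve : v * (a 1 * a 2) * v⁻¹ = z * (a 1 * a 2) * a 0 := by
      rw [show v * (a 1 * a 2) * v⁻¹ = (v * a 1 * v⁻¹) * (v * a 2 * v⁻¹) by group, S.ev.2, S.ev.2]
      show a 3 * a 4 = _
      rw [S.a0]
      calc a 3 * a 4 = (z * z) * (a 3 * a 4) := by rw [zz S, one_mul]
        _ = z * (a 1 * a 2 * (a 1 * a 2)) * (a 3 * a 4) := by rw [pair_sq S (by decide)]
        _ = _ := by group
    rw [hs_def]
    calc v * (y * (a 1 * a 2) * y⁻¹) * v⁻¹ = (v * y) * (a 1 * a 2) * (v * y)⁻¹ := by group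
      _ = y * (v * (a 1 * a 2) * v⁻¹) * y⁻¹ := by rw [c1]; group
      _ = (y * z * y⁻¹) * (y * (a 1 * a 2) * y⁻¹) * (y * a 0 * y⁻¹) := by rw [ve]; group
      _ = a 0 * (s * (z * a 0)) := by rw [S.yz, S.ya, ← hs_def]; group
      _ = (a 0 * z) * a 0 * s := by rw [sza]; group
      _ = z * s := by rw [az S, mul_assoc z, S.pts.sq, mul_one]
  have hv := exact_sact S S.ev
  have hvi := exact_sact S S.ev.inv
  obtain ⟨p4, q4⟩ := sact_unique S (r4 ▸ sact_mul S (sact_mul S hv hS) hvi) (sact_mul S hz hS)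
  rw [one_mul] at p4
  have g4 : ∀ p, t (σv⁻¹ p) = t p := fun p => by simpa using congrFun q4 p
  have htwo : ∀ {τ : Equiv.Perm (Fin 5)} {p q : Fin 5} {w : G}, Exact z a w τ → σ = τ →
      (∀ r, t r = xor (decide (τ r ≠ p)) (decide (τ r ≠ q))) →
      s = a p * a q * w ∨ s = z * (a p * a q * w) := by
    intro τ p q w hw hσe hte
    have hT' := sact_mul S (sact_mul S (sig_sact S (az S p) (sig_point S.hJ S.pts p))
      (sig_sact S (az S q) (sig_point S.hJ S.pts q))) (exact_sact S hw)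
    have e : ∀ r, s * a r * s⁻¹ = a p * a q * w * a r * (a p * a q * w)⁻¹ := fun r => by
      rw [ht r, hT'.2 r, hte r, hσe, one_mul, one_mul]
      simp only [Equiv.Perm.one_apply]
      congr 2
      by_cases h1 : τ r = p <;> by_cases h2 : τ r = q <;> simp [h1, h2]
    have h1 : Exact z a ((a p * a q * w)⁻¹ * s) 1 :=
      ⟨((show Commute (a p * a q * w) z from hT'.1).inv_left.mul_left sz).eq, fun r => by
        rw [show (a p * a q * w)⁻¹ * s * a r * ((a p * a q * w)⁻¹ * s)⁻¹ =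
          (a p * a q * w)⁻¹ * (s * a r * s⁻¹) * (a p * a q * w) by group, e]
        simp [mul_assoc]⟩
    rcases exact_one S h1 with e' | e'
    · exact Or.inl (inv_mul_eq_one.1 e').symm
    · refine Or.inr ?_
      rw [inv_mul_eq_iff_eq_mul] at e'
      rw [e', hT'.1]
  rcases re_key σ hσ0.1 p1 p2 p3 (S.even s σ hσ) t hσ0.2 g1 g2 g3 p4 g4 with ⟨hσe, hte⟩ | ⟨hσe, hte⟩
  swap
  · exfalso
    have hu' : ∀ p, u * a p = a (σu p) * u := fun p => mul_inv_eq_iff_eq_mul.1 (S.eu.2 p)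
    set T' := a 2 * a 4 * u
    have e1 : T' * T' = z * a 0 := by
      calc a 2 * a 4 * u * (a 2 * a 4 * u) = a 2 * a 4 * (u * a 2) * a 4 * u := by group
        _ = a 2 * a 4 * a 1 * (u * a 4) * u := by rw [hu' 2, show σu 2 = 1 by decide]; group
        _ = a 2 * a 4 * a 1 * a 3 * (u * u) := by rw [hu' 4, show σu 4 = 3 by decide]; group
        _ = a 1 * (a 2 * a 4) * a 3 := by
          rw [S.uu, mul_one, comm_pair S (show (2 : Fin 5) ≠ 1 by decide)
            (show (4 : Fin 5) ≠ 1 by decide)]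
        _ = a 1 * a 2 * (z * (a 3 * a 4)) := by
          rw [← swap_ne S (show (3 : Fin 5) ≠ 4 by decide)]; group
        _ = (a 1 * a 2 * z) * (a 3 * a 4) := by group
        _ = _ := by rw [hez, S.a0]; group
    have hz' : T' * z = z * T' :=
      (((show Commute (a 2) z from az S 2).mul_left (az S 4)).mul_left S.eu.1).eq
    have e2 : s * s = z * a 0 := by
      rcases htwo S.eu hσe hte with e | e <;> rw [e]
      · exact e1
      · rw [← e1]
        calc z * T' * (z * T') = z * (T' * z) * T' := by group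
          _ = (z * z) * (T' * T') := by rw [hz']; group
          _ = _ := by rw [zz S, one_mul]
    rw [r1] at e2
    exact z_ne S (mul_eq_right.1 e2.symm)
  set T := a 1 * a 3 * (u * v) with hT
  have hT' : T * z = z * T :=
    (((show Commute (a 1) z from az S 1).mul_left (az S 3)).mul_left
      (S.eu.mul S.ev).1).eq
  have hsame : s = T ∨ s = z * T := htwo (S.eu.mul S.ev) hσe hte
  rcases hsame with e | e
  · exact e
  exfalso
  -- `T` satisfies the cubic relation, so `z * T` does not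
  have huv : Exact z a (u * v) (σu * σv) := S.eu.mul S.ev
  have xuv : x * (u * v) * x⁻¹ = u := by
    rw [show x * (u * v) * x⁻¹ = (x * u * x⁻¹) * (x * v * x⁻¹) by group, S.xu, S.xv, S.uv,
      ← mul_assoc, S.vv, one_mul]
  have xT : x * T * x⁻¹ = a 1 * a 4 * u := by
    rw [hT, show x * (a 1 * a 3 * (u * v)) * x⁻¹ =
      (x * a 1 * x⁻¹) * (x * a 3 * x⁻¹) * (x * (u * v) * x⁻¹) by group, S.ex.2, S.ex.2, xuv]
    rfl
  have xxT : x * (x * T * x⁻¹) * x⁻¹ = a 1 * a 2 * v := by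
    rw [xT, show x * (a 1 * a 4 * u) * x⁻¹ = (x * a 1 * x⁻¹) * (x * a 4 * x⁻¹) * (x * u * x⁻¹)
      by group, S.ex.2, S.ex.2, S.xu]
    rfl
  have huvp : ∀ p, (u * v) * a p = a ((σu * σv) p) * (u * v) :=
    fun p => mul_inv_eq_iff_eq_mul.1 (huv.2 p)
  have lhs : T * (x * T * x⁻¹) = a 3 * a 4 * v := by
    rw [xT, hT]
    calc a 1 * a 3 * (u * v) * (a 1 * a 4 * u) = a 1 * a 3 * ((u * v) * a 1) * a 4 * u := by group
      _ = a 1 * a 3 * a 4 * ((u * v) * a 4) * u := by
        rw [huvp 1, show (σu * σv) 1 = 4 by decide]; group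
      _ = (a 1 * a 3 * a 4) * a 1 * ((u * v) * u) := by
        rw [huvp 4, show (σu * σv) 4 = 1 by decide]; group
      _ = (a 1 * a 3 * (a 1 * a 1) * a 4 * a 1) * v := by
        rw [S.uv, show v * u * u = v by rw [mul_assoc, S.uu, mul_one], S.pts.sq, mul_one]
      _ = ((a 1 * a 3 * a 1) * (a 1 * a 4 * a 1)) * v := by group
      _ = (z * (a 3 * z) * a 4) * v := by
        rw [anti' S (show (1 : Fin 5) ≠ 3 by decide), anti' S (show (1 : Fin 5) ≠ 4 by decide)]
        group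
      _ = (z * z) * (a 3 * a 4) * v := by rw [az S]; group
      _ = _ := by rw [zz S, one_mul]
  have rhs : x * (x * T * x⁻¹) * x⁻¹ * (z * a 0) = a 3 * a 4 * v := by
    have hv0 : v * (z * a 0) = z * a 0 * v := by
      have := ((show Commute v z from S.ev.1).mul_right
        (show Commute v (a 0) from mul_inv_eq_iff_eq_mul.1 (S.ev.2 0))).eq
      exact this
    rw [xxT, mul_assoc, hv0, ← mul_assoc, S.a0]
    calc a 1 * a 2 * (z * (a 1 * a 2 * a 3 * a 4)) * v
        = (a 1 * a 2 * z) * (a 1 * a 2 * a 3 * a 4) * v := by group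
      _ = z * (a 1 * a 2 * (a 1 * a 2)) * (a 3 * a 4) * v := by rw [hez]; group
      _ = _ := by rw [pair_sq S (by decide), zz S, one_mul]
  rw [e] at r3
  have hxz : x * z = z * x := S.ex.1
  have c1 : x * (z * T) * x⁻¹ = z * (x * T * x⁻¹) := by rw [← mul_assoc x z, hxz]; group
  have c2 : x * (z * (x * T * x⁻¹)) * x⁻¹ = z * (x * (x * T * x⁻¹) * x⁻¹) := by
    rw [← mul_assoc x z, hxz]; group
  rw [c1, c2, mul_assoc z (x * (x * T * x⁻¹) * x⁻¹), rhs,
    show z * T * (z * (x * T * x⁻¹)) = z * (T * z) * (x * T * x⁻¹) by group, hT',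
    show z * (z * T) * (x * T * x⁻¹) = (z * z) * (T * (x * T * x⁻¹)) by group, zz S, one_mul,
    lhs] at r3
  exact z_ne S (mul_eq_right.1 r3.symm)

end Cfsg.Agent.J2RecRel30
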