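import Cfsg.Agent.Lib.J2RecCent30
import Cfsg.Agent.Lib.J2RecDataG30
import Cfsg.Agent.Lib.J2RecDataB30

/-!
Machine generated: the relators of the two certificates hold for the normalised generators.
-/

set_option autoImplicit false
set_option linter.unusedSectionVars false
set_option linter.unusedSimpArgs false
set_option maxRecDepth 100000

namespace Cfsg.Agent.J2RecRels30

open Subgroup Cfsg.Agent.J2RecFrame30 Cfsg.Agent.J2RecRel30 Cfsg.Agent.J2RecCent30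
open Cfsg.Agent.J2TypePoints79
open Cfsg.Agent.J1CertCore91 Cfsg.Agent.J2RecCert30

variable {G : Type*} [Group G] [Finite G] {Q : Subgroup G} {z : G} {a : Fin 5 → G}
variable {x u v h y : G} {K : Subgroup G}

/-- The letters. -/
def gl (z : G) (a : Fin 5 → G) (x u v h y : G) (c : ℕ) : G :=
  [a 1, (a 1)⁻¹, x, x⁻¹, u, u⁻¹, v, v⁻¹, h, h⁻¹, y, y⁻¹, z, z⁻¹].getD c 1

/-- The involution of the centralizer of `x`. -/
def wel (_z : G) (a : Fin 5 → G) (u h y : G) : G :=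
  u * h⁻¹ * y * (u * h⁻¹)⁻¹ * y⁻¹ * a 1 * y * (u * h⁻¹ * y * (u * h⁻¹)⁻¹)⁻¹

variable (S : Gens Q z a x u v y K)
include S

theorem inv_u : u⁻¹ = u := inv_eq_of_mul_eq_one_right S.uu

theorem inv_v : v⁻¹ = v := inv_eq_of_mul_eq_one_right S.vv

theorem inv_z : z⁻¹ = z := inv_eq_of_mul_eq_one_right (zz S)

theorem inv_b : (a 1)⁻¹ = a 1 := inv_eq_of_mul_eq_one_right (S.pts.sq 1)

theorem u_u (w : G) : u * (u * w) = w := by rw [← mul_assoc, S.uu, one_mul]

theorem v_v (w : G) : v * (v * w) = w := by rw [← mul_assoc, S.vv, one_mul]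

theorem z_z (w : G) : z * (z * w) = w := by rw [← mul_assoc, zz S, one_mul]

theorem b_b (w : G) : a 1 * (a 1 * w) = w := by rw [← mul_assoc, S.pts.sq 1, one_mul]

theorem uv_sq : u * v * (u * v) = 1 := by
  rw [show u * v * (u * v) = u * (v * u) * v by group, ← S.uv,
    show u * (u * v) * v = (u * u) * (v * v) by group, S.uu, S.vv, one_mul]

theorem ha2 : a 2 = u * a 1 * u := by
  have e := S.eu.2 1
  rw [inv_u S] at e
  exact e.symm

theorem ha3 : a 3 = v * a 1 * v := by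
  have e := S.ev.2 1
  rw [inv_v S] at e
  exact e.symm

theorem ha4 : a 4 = u * v * a 1 * v * u := by
  have e := (S.eu.mul S.ev).2 1
  rw [mul_inv_rev, inv_u S, inv_v S, ← mul_assoc] at e
  exact e.symm

theorem ha0 : a 0 = y * z * y⁻¹ := S.yz.symm

variable (F : Full z a x u v h y)
include F

theorem rel0 : val (gl z a x u v h y) [0, 0] = 1 := by
  have e : a 1 * a 1 = 1 := S.pts.sq 1
  try simp only [ha2 S, ha3 S, ha4 S, ha0 S] at e
  simp only [mul_inv_rev, inv_inv, inv_u S, inv_v S, inv_z S, inv_b S, mul_assoc, u_u S, v_v S,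
    z_z S, b_b S, inv_mul_cancel_left, mul_inv_cancel_left, S.uu, S.vv, zz S, S.pts.sq, mul_one,
    one_mul, mul_inv_cancel, inv_mul_cancel, val, gl, List.getD_cons_zero, List.getD_cons_succ] at e ⊢
  all_goals exact e

theorem rel1 : val (gl z a x u v h y) [4, 4] = 1 := by
  have e : u * u = 1 := S.uu
  try simp only [ha2 S, ha3 S, ha4 S, ha0 S] at e
  simp only [mul_inv_rev, inv_inv, inv_u S, inv_v S, inv_z S, inv_b S, mul_assoc, u_u S, v_v S,
    z_z S, b_b S, inv_mul_cancel_left, mul_inv_cancel_left, S.uu, S.vv, zz S, S.pts.sq, mul_one,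
    one_mul, mul_inv_cancel, inv_mul_cancel, val, gl, List.getD_cons_zero, List.getD_cons_succ] at e ⊢
  all_goals exact e

theorem rel2 : val (gl z a x u v h y) [6, 6] = 1 := by
  have e : v * v = 1 := S.vv
  try simp only [ha2 S, ha3 S, ha4 S, ha0 S] at e
  simp only [mul_inv_rev, inv_inv, inv_u S, inv_v S, inv_z S, inv_b S, mul_assoc, u_u S, v_v S,
    z_z S, b_b S, inv_mul_cancel_left, mul_inv_cancel_left, S.uu, S.vv, zz S, S.pts.sq, mul_one,
    one_mul, mul_inv_cancel, inv_mul_cancel, val, gl, List.getD_cons_zero, List.getD_cons_succ] at e ⊢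
  all_goals exact e

theorem rel3 : val (gl z a x u v h y) [12, 12] = 1 := by
  have e : z * z = 1 := zz S
  try simp only [ha2 S, ha3 S, ha4 S, ha0 S] at e
  simp only [mul_inv_rev, inv_inv, inv_u S, inv_v S, inv_z S, inv_b S, mul_assoc, u_u S, v_v S,
    z_z S, b_b S, inv_mul_cancel_left, mul_inv_cancel_left, S.uu, S.vv, zz S, S.pts.sq, mul_one,
    one_mul, mul_inv_cancel, inv_mul_cancel, val, gl, List.getD_cons_zero, List.getD_cons_succ] at e ⊢
  all_goals exact e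

theorem rel4 : val (gl z a x u v h y) [2, 2, 2] = 1 := by
  have e : (x) * (x) * (x) = 1 := S.x3
  try simp only [ha2 S, ha3 S, ha4 S, ha0 S] at e
  simp only [mul_inv_rev, inv_inv, inv_u S, inv_v S, inv_z S, inv_b S, mul_assoc, u_u S, v_v S,
    z_z S, b_b S, inv_mul_cancel_left, mul_inv_cancel_left, S.uu, S.vv, zz S, S.pts.sq, mul_one,
    one_mul, mul_inv_cancel, inv_mul_cancel, val, gl, List.getD_cons_zero, List.getD_cons_succ] at e ⊢
  all_goals exact e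

theorem rel5 : val (gl z a x u v h y) [8, 8, 8] = 1 := by
  have e : (h) * (h) * (h) = 1 := F.hh
  try simp only [ha2 S, ha3 S, ha4 S, ha0 S] at e
  simp only [mul_inv_rev, inv_inv, inv_u S, inv_v S, inv_z S, inv_b S, mul_assoc, u_u S, v_v S,
    z_z S, b_b S, inv_mul_cancel_left, mul_inv_cancel_left, S.uu, S.vv, zz S, S.pts.sq, mul_one,
    one_mul, mul_inv_cancel, inv_mul_cancel, val, gl, List.getD_cons_zero, List.getD_cons_succ] at e ⊢
  all_goals exact e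

theorem rel6 : val (gl z a x u v h y) [10, 10, 10] = 1 := by
  have e : (y) * (y) * (y) = 1 := S.y3
  try simp only [ha2 S, ha3 S, ha4 S, ha0 S] at e
  simp only [mul_inv_rev, inv_inv, inv_u S, inv_v S, inv_z S, inv_b S, mul_assoc, u_u S, v_v S,
    z_z S, b_b S, inv_mul_cancel_left, mul_inv_cancel_left, S.uu, S.vv, zz S, S.pts.sq, mul_one,
    one_mul, mul_inv_cancel, inv_mul_cancel, val, gl, List.getD_cons_zero, List.getD_cons_succ] at e ⊢
  all_goals exact e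

theorem rel7 : val (gl z a x u v h y) [6, 4, 6, 4] = 1 := by
  have e : (u) * (v) * ((u) * (v)) = 1 := uv_sq S
  try simp only [ha2 S, ha3 S, ha4 S, ha0 S] at e
  simp only [mul_inv_rev, inv_inv, inv_u S, inv_v S, inv_z S, inv_b S, mul_assoc, u_u S, v_v S,
    z_z S, b_b S, inv_mul_cancel_left, mul_inv_cancel_left, S.uu, S.vv, zz S, S.pts.sq, mul_one,
    one_mul, mul_inv_cancel, inv_mul_cancel, val, gl, List.getD_cons_zero, List.getD_cons_succ] at e ⊢
  all_goals exact e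

theorem rel8 : val (gl z a x u v h y) [6, 3, 4, 2] = 1 := by
  have e : (x) * (u) * (x)⁻¹ * (v)⁻¹ = 1 := mul_inv_eq_one.2 (S.xu)
  try simp only [ha2 S, ha3 S, ha4 S, ha0 S] at e
  simp only [mul_inv_rev, inv_inv, inv_u S, inv_v S, inv_z S, inv_b S, mul_assoc, u_u S, v_v S,
    z_z S, b_b S, inv_mul_cancel_left, mul_inv_cancel_left, S.uu, S.vv, zz S, S.pts.sq, mul_one,
    one_mul, mul_inv_cancel, inv_mul_cancel, val, gl, List.getD_cons_zero, List.getD_cons_succ] at e ⊢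
  all_goals exact e

theorem rel9 : val (gl z a x u v h y) [0, 3, 0, 2] = 1 := by
  have e : (x) * (a 1) * (x)⁻¹ * (a 1)⁻¹ = 1 := mul_inv_eq_one.2 (S.ex.2 1)
  try simp only [ha2 S, ha3 S, ha4 S, ha0 S] at e
  simp only [mul_inv_rev, inv_inv, inv_u S, inv_v S, inv_z S, inv_b S, mul_assoc, u_u S, v_v S,
    z_z S, b_b S, inv_mul_cancel_left, mul_inv_cancel_left, S.uu, S.vv, zz S, S.pts.sq, mul_one,
    one_mul, mul_inv_cancel, inv_mul_cancel, val, gl, List.getD_cons_zero, List.getD_cons_succ] at e ⊢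
  all_goals exact e

theorem rel10 : val (gl z a x u v h y) [8, 4, 8, 4] = 1 := by
  have e : (u) * (h) * ((u) * (h)) = 1 := F.uh
  try simp only [ha2 S, ha3 S, ha4 S, ha0 S] at e
  simp only [mul_inv_rev, inv_inv, inv_u S, inv_v S, inv_z S, inv_b S, mul_assoc, u_u S, v_v S,
    z_z S, b_b S, inv_mul_cancel_left, mul_inv_cancel_left, S.uu, S.vv, zz S, S.pts.sq, mul_one,
    one_mul, mul_inv_cancel, inv_mul_cancel, val, gl, List.getD_cons_zero, List.getD_cons_succ] at e ⊢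
  all_goals exact e

theorem rel11 : val (gl z a x u v h y) [4, 11, 4, 10] = 1 := by
  have e : (y) * (u) * (y)⁻¹ * (u)⁻¹ = 1 := mul_inv_eq_one.2 (mul_inv_eq_iff_eq_mul.2 (S.yu))
  try simp only [ha2 S, ha3 S, ha4 S, ha0 S] at e
  simp only [mul_inv_rev, inv_inv, inv_u S, inv_v S, inv_z S, inv_b S, mul_assoc, u_u S, v_v S,
    z_z S, b_b S, inv_mul_cancel_left, mul_inv_cancel_left, S.uu, S.vv, zz S, S.pts.sq, mul_one,
    one_mul, mul_inv_cancel, inv_mul_cancel, val, gl, List.getD_cons_zero, List.getD_cons_succ] at e ⊢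
  all_goals exact e

theorem rel12 : val (gl z a x u v h y) [6, 11, 6, 10] = 1 := by
  have e : (y) * (v) * (y)⁻¹ * (v)⁻¹ = 1 := mul_inv_eq_one.2 (mul_inv_eq_iff_eq_mul.2 (S.yv))
  try simp only [ha2 S, ha3 S, ha4 S, ha0 S] at e
  simp only [mul_inv_rev, inv_inv, inv_u S, inv_v S, inv_z S, inv_b S, mul_assoc, u_u S, v_v S,
    z_z S, b_b S, inv_mul_cancel_left, mul_inv_cancel_left, S.uu, S.vv, zz S, S.pts.sq, mul_one,
    one_mul, mul_inv_cancel, inv_mul_cancel, val, gl, List.getD_cons_zero, List.getD_cons_succ] at e ⊢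
  all_goals exact e

theorem rel13 : val (gl z a x u v h y) [3, 11, 2, 10] = 1 := by
  have e : (y) * (x) * (y)⁻¹ * (x)⁻¹ = 1 := mul_inv_eq_one.2 (mul_inv_eq_iff_eq_mul.2 (S.yx))
  try simp only [ha2 S, ha3 S, ha4 S, ha0 S] at e
  simp only [mul_inv_rev, inv_inv, inv_u S, inv_v S, inv_z S, inv_b S, mul_assoc, u_u S, v_v S,
    z_z S, b_b S, inv_mul_cancel_left, mul_inv_cancel_left, S.uu, S.vv, zz S, S.pts.sq, mul_one,
    one_mul, mul_inv_cancel, inv_mul_cancel, val, gl, List.getD_cons_zero, List.getD_cons_succ] at e ⊢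
  all_goals exact e

theorem rel14 : val (gl z a x u v h y) [12, 0, 12, 0] = 1 := by
  have e : (a 1) * (z) * (a 1)⁻¹ * (z)⁻¹ = 1 := mul_inv_eq_one.2 (mul_inv_eq_iff_eq_mul.2 (az S 1))
  try simp only [ha2 S, ha3 S, ha4 S, ha0 S] at e
  simp only [mul_inv_rev, inv_inv, inv_u S, inv_v S, inv_z S, inv_b S, mul_assoc, u_u S, v_v S,
    z_z S, b_b S, inv_mul_cancel_left, mul_inv_cancel_left, S.uu, S.vv, zz S, S.pts.sq, mul_one,
    one_mul, mul_inv_cancel, inv_mul_cancel, val, gl, List.getD_cons_zero, List.getD_cons_succ] at e ⊢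
  all_goals exact e

theorem rel15 : val (gl z a x u v h y) [12, 3, 12, 2] = 1 := by
  have e : (x) * (z) * (x)⁻¹ * (z)⁻¹ = 1 := mul_inv_eq_one.2 (mul_inv_eq_iff_eq_mul.2 (S.ex.1))
  try simp only [ha2 S, ha3 S, ha4 S, ha0 S] at e
  simp only [mul_inv_rev, inv_inv, inv_u S, inv_v S, inv_z S, inv_b S, mul_assoc, u_u S, v_v S,
    z_z S, b_b S, inv_mul_cancel_left, mul_inv_cancel_left, S.uu, S.vv, zz S, S.pts.sq, mul_one,
    one_mul, mul_inv_cancel, inv_mul_cancel, val, gl, List.getD_cons_zero, List.getD_cons_succ] at e ⊢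
  all_goals exact e

theorem rel16 : val (gl z a x u v h y) [12, 4, 12, 4] = 1 := by
  have e : (u) * (z) * (u)⁻¹ * (z)⁻¹ = 1 := mul_inv_eq_one.2 (mul_inv_eq_iff_eq_mul.2 (S.eu.1))
  try simp only [ha2 S, ha3 S, ha4 S, ha0 S] at e
  simp only [mul_inv_rev, inv_inv, inv_u S, inv_v S, inv_z S, inv_b S, mul_assoc, u_u S, v_v S,
    z_z S, b_b S, inv_mul_cancel_left, mul_inv_cancel_left, S.uu, S.vv, zz S, S.pts.sq, mul_one,
    one_mul, mul_inv_cancel, inv_mul_cancel, val, gl, List.getD_cons_zero, List.getD_cons_succ] at e ⊢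
  all_goals exact e

theorem rel17 : val (gl z a x u v h y) [12, 6, 12, 6] = 1 := by
  have e : (v) * (z) * (v)⁻¹ * (z)⁻¹ = 1 := mul_inv_eq_one.2 (mul_inv_eq_iff_eq_mul.2 (S.ev.1))
  try simp only [ha2 S, ha3 S, ha4 S, ha0 S] at e
  simp only [mul_inv_rev, inv_inv, inv_u S, inv_v S, inv_z S, inv_b S, mul_assoc, u_u S, v_v S,
    z_z S, b_b S, inv_mul_cancel_left, mul_inv_cancel_left, S.uu, S.vv, zz S, S.pts.sq, mul_one,
    one_mul, mul_inv_cancel, inv_mul_cancel, val, gl, List.getD_cons_zero, List.getD_cons_succ] at e ⊢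
  all_goals exact e

theorem rel18 : val (gl z a x u v h y) [12, 9, 12, 8] = 1 := by
  have e : (h) * (z) * (h)⁻¹ * (z)⁻¹ = 1 := mul_inv_eq_one.2 (mul_inv_eq_iff_eq_mul.2 (F.eh.1))
  try simp only [ha2 S, ha3 S, ha4 S, ha0 S] at e
  simp only [mul_inv_rev, inv_inv, inv_u S, inv_v S, inv_z S, inv_b S, mul_assoc, u_u S, v_v S,
    z_z S, b_b S, inv_mul_cancel_left, mul_inv_cancel_left, S.uu, S.vv, zz S, S.pts.sq, mul_one,
    one_mul, mul_inv_cancel, inv_mul_cancel, val, gl, List.getD_cons_zero, List.getD_cons_succ] at e ⊢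
  all_goals exact e

theorem rel19 : val (gl z a x u v h y) [4, 6, 3, 6, 2] = 1 := by
  have e : (x) * (v) * (x)⁻¹ * ((u) * (v))⁻¹ = 1 := mul_inv_eq_one.2 (S.xv)
  try simp only [ha2 S, ha3 S, ha4 S, ha0 S] at e
  simp only [mul_inv_rev, inv_inv, inv_u S, inv_v S, inv_z S, inv_b S, mul_assoc, u_u S, v_v S,
    z_z S, b_b S, inv_mul_cancel_left, mul_inv_cancel_left, S.uu, S.vv, zz S, S.pts.sq, mul_one,
    one_mul, mul_inv_cancel, inv_mul_cancel, val, gl, List.getD_cons_zero, List.getD_cons_succ] at e ⊢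
  all_goals exact e

theorem rel20 : val (gl z a x u v h y) [0, 9, 11, 12, 10, 8] = 1 := by
  have e : (h) * (a 0) * (h)⁻¹ * (a 1)⁻¹ = 1 := mul_inv_eq_one.2 (F.eh.2 0)
  try simp only [ha2 S, ha3 S, ha4 S, ha0 S] at e
  simp only [mul_inv_rev, inv_inv, inv_u S, inv_v S, inv_z S, inv_b S, mul_assoc, u_u S, v_v S,
    z_z S, b_b S, inv_mul_cancel_left, mul_inv_cancel_left, S.uu, S.vv, zz S, S.pts.sq, mul_one,
    one_mul, mul_inv_cancel, inv_mul_cancel, val, gl, List.getD_cons_zero, List.getD_cons_succ] at e ⊢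
  all_goals exact e

theorem rel21 : val (gl z a x u v h y) [4, 0, 4, 9, 0, 8] = 1 := by
  have e : (h) * (a 1) * (h)⁻¹ * (a 2)⁻¹ = 1 := mul_inv_eq_one.2 (F.eh.2 1)
  try simp only [ha2 S, ha3 S, ha4 S, ha0 S] at e
  simp only [mul_inv_rev, inv_inv, inv_u S, inv_v S, inv_z S, inv_b S, mul_assoc, u_u S, v_v S,
    z_z S, b_b S, inv_mul_cancel_left, mul_inv_cancel_left, S.uu, S.vv, zz S, S.pts.sq, mul_one,
    one_mul, mul_inv_cancel, inv_mul_cancel, val, gl, List.getD_cons_zero, List.getD_cons_succ] at e ⊢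
  all_goals exact e

theorem rel22 : val (gl z a x u v h y) [2, 4, 8, 2, 9, 4] = 1 := by
  have e : (u) * (h)⁻¹ * (x) * ((u) * (h)⁻¹)⁻¹ * (x) = 1 := F.gx
  try simp only [ha2 S, ha3 S, ha4 S, ha0 S] at e
  simp only [mul_inv_rev, inv_inv, inv_u S, inv_v S, inv_z S, inv_b S, mul_assoc, u_u S, v_v S,
    z_z S, b_b S, inv_mul_cancel_left, mul_inv_cancel_left, S.uu, S.vv, zz S, S.pts.sq, mul_one,
    one_mul, mul_inv_cancel, inv_mul_cancel, val, gl, List.getD_cons_zero, List.getD_cons_succ] at e ⊢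
  all_goals exact e

theorem rel23 : val (gl z a x u v h y) [12, 11, 12, 11, 12, 10, 10] = 1 := by
  have e : (y) * (a 0) * (y)⁻¹ * ((z) * (a 0))⁻¹ = 1 := mul_inv_eq_one.2 (S.ya)
  try simp only [ha2 S, ha3 S, ha4 S, ha0 S] at e
  simp only [mul_inv_rev, inv_inv, inv_u S, inv_v S, inv_z S, inv_b S, mul_assoc, u_u S, v_v S,
    z_z S, b_b S, inv_mul_cancel_left, mul_inv_cancel_left, S.uu, S.vv, zz S, S.pts.sq, mul_one,
    one_mul, mul_inv_cancel, inv_mul_cancel, val, gl, List.getD_cons_zero, List.getD_cons_succ] at e ⊢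
  all_goals exact e

theorem rel24 : val (gl z a x u v h y) [11, 12, 10, 4, 11, 12, 10, 4] = 1 := by
  have e : (u) * (a 0) * (u)⁻¹ * (a 0)⁻¹ = 1 := mul_inv_eq_one.2 (S.eu.2 0)
  try simp only [ha2 S, ha3 S, ha4 S, ha0 S] at e
  simp only [mul_inv_rev, inv_inv, inv_u S, inv_v S, inv_z S, inv_b S, mul_assoc, u_u S, v_v S,
    z_z S, b_b S, inv_mul_cancel_left, mul_inv_cancel_left, S.uu, S.vv, zz S, S.pts.sq, mul_one,
    one_mul, mul_inv_cancel, inv_mul_cancel, val, gl, List.getD_cons_zero, List.getD_cons_succ] at e ⊢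
  all_goals exact e

theorem rel25 : val (gl z a x u v h y) [11, 12, 10, 6, 11, 12, 10, 6] = 1 := by
  have e : (v) * (a 0) * (v)⁻¹ * (a 0)⁻¹ = 1 := mul_inv_eq_one.2 (S.ev.2 0)
  try simp only [ha2 S, ha3 S, ha4 S, ha0 S] at e
  simp only [mul_inv_rev, inv_inv, inv_u S, inv_v S, inv_z S, inv_b S, mul_assoc, u_u S, v_v S,
    z_z S, b_b S, inv_mul_cancel_left, mul_inv_cancel_left, S.uu, S.vv, zz S, S.pts.sq, mul_one,
    one_mul, mul_inv_cancel, inv_mul_cancel, val, gl, List.getD_cons_zero, List.getD_cons_succ] at e ⊢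
  all_goals exact e

theorem rel26 : val (gl z a x u v h y) [11, 12, 10, 3, 11, 12, 10, 2] = 1 := by
  have e : (x) * (a 0) * (x)⁻¹ * (a 0)⁻¹ = 1 := mul_inv_eq_one.2 (S.ex.2 0)
  try simp only [ha2 S, ha3 S, ha4 S, ha0 S] at e
  simp only [mul_inv_rev, inv_inv, inv_u S, inv_v S, inv_z S, inv_b S, mul_assoc, u_u S, v_v S,
    z_z S, b_b S, inv_mul_cancel_left, mul_inv_cancel_left, S.uu, S.vv, zz S, S.pts.sq, mul_one,
    one_mul, mul_inv_cancel, inv_mul_cancel, val, gl, List.getD_cons_zero, List.getD_cons_succ] at e ⊢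
  all_goals exact e

theorem rel27 : val (gl z a x u v h y) [6, 0, 6, 3, 4, 0, 4, 2] = 1 := by
  have e : (x) * (a 2) * (x)⁻¹ * (a 3)⁻¹ = 1 := mul_inv_eq_one.2 (S.ex.2 2)
  try simp only [ha2 S, ha3 S, ha4 S, ha0 S] at e
  simp only [mul_inv_rev, inv_inv, inv_u S, inv_v S, inv_z S, inv_b S, mul_assoc, u_u S, v_v S,
    z_z S, b_b S, inv_mul_cancel_left, mul_inv_cancel_left, S.uu, S.vv, zz S, S.pts.sq, mul_one,
    one_mul, mul_inv_cancel, inv_mul_cancel, val, gl, List.getD_cons_zero, List.getD_cons_succ] at e ⊢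
  all_goals exact e

theorem rel28 : val (gl z a x u v h y) [11, 12, 10, 9, 4, 0, 4, 8] = 1 := by
  have e : (h) * (a 2) * (h)⁻¹ * (a 0)⁻¹ = 1 := mul_inv_eq_one.2 (F.eh.2 2)
  try simp only [ha2 S, ha3 S, ha4 S, ha0 S] at e
  simp only [mul_inv_rev, inv_inv, inv_u S, inv_v S, inv_z S, inv_b S, mul_assoc, u_u S, v_v S,
    z_z S, b_b S, inv_mul_cancel_left, mul_inv_cancel_left, S.uu, S.vv, zz S, S.pts.sq, mul_one,
    one_mul, mul_inv_cancel, inv_mul_cancel, val, gl, List.getD_cons_zero, List.getD_cons_succ] at e ⊢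
  all_goals exact e

theorem rel29 : val (gl z a x u v h y) [6, 0, 6, 9, 6, 0, 6, 8] = 1 := by
  have e : (h) * (a 3) * (h)⁻¹ * (a 3)⁻¹ = 1 := mul_inv_eq_one.2 (F.eh.2 3)
  try simp only [ha2 S, ha3 S, ha4 S, ha0 S] at e
  simp only [mul_inv_rev, inv_inv, inv_u S, inv_v S, inv_z S, inv_b S, mul_assoc, u_u S, v_v S,
    z_z S, b_b S, inv_mul_cancel_left, mul_inv_cancel_left, S.uu, S.vv, zz S, S.pts.sq, mul_one,
    one_mul, mul_inv_cancel, inv_mul_cancel, val, gl, List.getD_cons_zero, List.getD_cons_succ] at e ⊢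
  all_goals exact e

theorem rel30 : val (gl z a x u v h y) [12, 4, 0, 4, 12, 4, 0, 4] = 1 := by
  have e : (a 2) * (z) * (a 2)⁻¹ * (z)⁻¹ = 1 := mul_inv_eq_one.2 (mul_inv_eq_iff_eq_mul.2 (az S 2))
  try simp only [ha2 S, ha3 S, ha4 S, ha0 S] at e
  simp only [mul_inv_rev, inv_inv, inv_u S, inv_v S, inv_z S, inv_b S, mul_assoc, u_u S, v_v S,
    z_z S, b_b S, inv_mul_cancel_left, mul_inv_cancel_left, S.uu, S.vv, zz S, S.pts.sq, mul_one,
    one_mul, mul_inv_cancel, inv_mul_cancel, val, gl, List.getD_cons_zero, List.getD_cons_succ] at e ⊢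
  all_goals exact e

theorem rel31 : val (gl z a x u v h y) [12, 6, 0, 6, 12, 6, 0, 6] = 1 := by
  have e : (a 3) * (z) * (a 3)⁻¹ * (z)⁻¹ = 1 := mul_inv_eq_one.2 (mul_inv_eq_iff_eq_mul.2 (az S 3))
  try simp only [ha2 S, ha3 S, ha4 S, ha0 S] at e
  simp only [mul_inv_rev, inv_inv, inv_u S, inv_v S, inv_z S, inv_b S, mul_assoc, u_u S, v_v S,
    z_z S, b_b S, inv_mul_cancel_left, mul_inv_cancel_left, S.uu, S.vv, zz S, S.pts.sq, mul_one,
    one_mul, mul_inv_cancel, inv_mul_cancel, val, gl, List.getD_cons_zero, List.getD_cons_succ] at e ⊢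
  all_goals exact e

theorem rel32 : val (gl z a x u v h y) [12, 4, 0, 4, 0, 4, 0, 4, 0] = 1 := by
  have e : (a 1) * (a 2) * (a 1)⁻¹ * ((z) * (a 2))⁻¹ = 1 := mul_inv_eq_one.2 (S.pts.anti 1 2 (by decide))
  try simp only [ha2 S, ha3 S, ha4 S, ha0 S] at e
  simp only [mul_inv_rev, inv_inv, inv_u S, inv_v S, inv_z S, inv_b S, mul_assoc, u_u S, v_v S,
    z_z S, b_b S, inv_mul_cancel_left, mul_inv_cancel_left, S.uu, S.vv, zz S, S.pts.sq, mul_one,
    one_mul, mul_inv_cancel, inv_mul_cancel, val, gl, List.getD_cons_zero, List.getD_cons_succ] at e ⊢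
  all_goals exact e

theorem rel33 : val (gl z a x u v h y) [12, 6, 0, 6, 0, 6, 0, 6, 0] = 1 := by
  have e : (a 1) * (a 3) * (a 1)⁻¹ * ((z) * (a 3))⁻¹ = 1 := mul_inv_eq_one.2 (S.pts.anti 1 3 (by decide))
  try simp only [ha2 S, ha3 S, ha4 S, ha0 S] at e
  simp only [mul_inv_rev, inv_inv, inv_u S, inv_v S, inv_z S, inv_b S, mul_assoc, u_u S, v_v S,
    z_z S, b_b S, inv_mul_cancel_left, mul_inv_cancel_left, S.uu, S.vv, zz S, S.pts.sq, mul_one,
    one_mul, mul_inv_cancel, inv_mul_cancel, val, gl, List.getD_cons_zero, List.getD_cons_succ] at e ⊢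
  all_goals exact e

theorem rel34 : val (gl z a x u v h y) [12, 0, 4, 0, 4, 0, 4, 0, 4] = 1 := by
  have e : (a 2) * (a 1) * (a 2)⁻¹ * ((z) * (a 1))⁻¹ = 1 := mul_inv_eq_one.2 (S.pts.anti 2 1 (by decide))
  try simp only [ha2 S, ha3 S, ha4 S, ha0 S] at e
  simp only [mul_inv_rev, inv_inv, inv_u S, inv_v S, inv_z S, inv_b S, mul_assoc, u_u S, v_v S,
    z_z S, b_b S, inv_mul_cancel_left, mul_inv_cancel_left, S.uu, S.vv, zz S, S.pts.sq, mul_one,
    one_mul, mul_inv_cancel, inv_mul_cancel, val, gl, List.getD_cons_zero, List.getD_cons_succ] at e ⊢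
  all_goals exact e

theorem rel35 : val (gl z a x u v h y) [12, 0, 6, 0, 6, 0, 6, 0, 6] = 1 := by
  have e : (a 3) * (a 1) * (a 3)⁻¹ * ((z) * (a 1))⁻¹ = 1 := mul_inv_eq_one.2 (S.pts.anti 3 1 (by decide))
  try simp only [ha2 S, ha3 S, ha4 S, ha0 S] at e
  simp only [mul_inv_rev, inv_inv, inv_u S, inv_v S, inv_z S, inv_b S, mul_assoc, u_u S, v_v S,
    z_z S, b_b S, inv_mul_cancel_left, mul_inv_cancel_left, S.uu, S.vv, zz S, S.pts.sq, mul_one,
    one_mul, mul_inv_cancel, inv_mul_cancel, val, gl, List.getD_cons_zero, List.getD_cons_succ] at e ⊢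
  all_goals exact e

theorem rel36 : val (gl z a x u v h y) [4, 6, 0, 6, 4, 6, 4, 0, 4, 6] = 1 := by
  have e : (v) * (a 2) * (v)⁻¹ * (a 4)⁻¹ = 1 := mul_inv_eq_one.2 (S.ev.2 2)
  try simp only [ha2 S, ha3 S, ha4 S, ha0 S] at e
  simp only [mul_inv_rev, inv_inv, inv_u S, inv_v S, inv_z S, inv_b S, mul_assoc, u_u S, v_v S,
    z_z S, b_b S, inv_mul_cancel_left, mul_inv_cancel_left, S.uu, S.vv, zz S, S.pts.sq, mul_one,
    one_mul, mul_inv_cancel, inv_mul_cancel, val, gl, List.getD_cons_zero, List.getD_cons_succ] at e ⊢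
  all_goals exact e

theorem rel37 : val (gl z a x u v h y) [4, 0, 4, 6, 4, 6, 0, 6, 4, 6] = 1 := by
  have e : (v) * (a 4) * (v)⁻¹ * (a 2)⁻¹ = 1 := mul_inv_eq_one.2 (S.ev.2 4)
  try simp only [ha2 S, ha3 S, ha4 S, ha0 S] at e
  simp only [mul_inv_rev, inv_inv, inv_u S, inv_v S, inv_z S, inv_b S, mul_assoc, u_u S, v_v S,
    z_z S, b_b S, inv_mul_cancel_left, mul_inv_cancel_left, S.uu, S.vv, zz S, S.pts.sq, mul_one,
    one_mul, mul_inv_cancel, inv_mul_cancel, val, gl, List.getD_cons_zero, List.getD_cons_succ] at e ⊢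
  all_goals exact e

theorem rel38 : val (gl z a x u v h y) [4, 6, 0, 6, 4, 3, 6, 0, 6, 2] = 1 := by
  have e : (x) * (a 3) * (x)⁻¹ * (a 4)⁻¹ = 1 := mul_inv_eq_one.2 (S.ex.2 3)
  try simp only [ha2 S, ha3 S, ha4 S, ha0 S] at e
  simp only [mul_inv_rev, inv_inv, inv_u S, inv_v S, inv_z S, inv_b S, mul_assoc, u_u S, v_v S,
    z_z S, b_b S, inv_mul_cancel_left, mul_inv_cancel_left, S.uu, S.vv, zz S, S.pts.sq, mul_one,
    one_mul, mul_inv_cancel, inv_mul_cancel, val, gl, List.getD_cons_zero, List.getD_cons_succ] at e ⊢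
  all_goals exact e

theorem rel39 : val (gl z a x u v h y) [4, 0, 4, 3, 4, 6, 0, 6, 4, 2] = 1 := by
  have e : (x) * (a 4) * (x)⁻¹ * (a 2)⁻¹ = 1 := mul_inv_eq_one.2 (S.ex.2 4)
  try simp only [ha2 S, ha3 S, ha4 S, ha0 S] at e
  simp only [mul_inv_rev, inv_inv, inv_u S, inv_v S, inv_z S, inv_b S, mul_assoc, u_u S, v_v S,
    z_z S, b_b S, inv_mul_cancel_left, mul_inv_cancel_left, S.uu, S.vv, zz S, S.pts.sq, mul_one,
    one_mul, mul_inv_cancel, inv_mul_cancel, val, gl, List.getD_cons_zero, List.getD_cons_succ] at e ⊢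
  all_goals exact e

theorem rel40 : val (gl z a x u v h y) [12, 4, 6, 0, 6, 0, 6, 0, 6, 0, 4] = 1 := by
  have e : (a 2) * (a 4) * (a 2)⁻¹ * ((z) * (a 4))⁻¹ = 1 := mul_inv_eq_one.2 (S.pts.anti 2 4 (by decide))
  try simp only [ha2 S, ha3 S, ha4 S, ha0 S] at e
  simp only [mul_inv_rev, inv_inv, inv_u S, inv_v S, inv_z S, inv_b S, mul_assoc, u_u S, v_v S,
    z_z S, b_b S, inv_mul_cancel_left, mul_inv_cancel_left, S.uu, S.vv, zz S, S.pts.sq, mul_one,
    one_mul, mul_inv_cancel, inv_mul_cancel, val, gl, List.getD_cons_zero, List.getD_cons_succ] at e ⊢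
  all_goals exact e

theorem rel41 : val (gl z a x u v h y) [12, 4, 0, 6, 0, 6, 0, 6, 0, 6, 4] = 1 := by
  have e : (a 4) * (a 2) * (a 4)⁻¹ * ((z) * (a 2))⁻¹ = 1 := mul_inv_eq_one.2 (S.pts.anti 4 2 (by decide))
  try simp only [ha2 S, ha3 S, ha4 S, ha0 S] at e
  simp only [mul_inv_rev, inv_inv, inv_u S, inv_v S, inv_z S, inv_b S, mul_assoc, u_u S, v_v S,
    z_z S, b_b S, inv_mul_cancel_left, mul_inv_cancel_left, S.uu, S.vv, zz S, S.pts.sq, mul_one,
    one_mul, mul_inv_cancel, inv_mul_cancel, val, gl, List.getD_cons_zero, List.getD_cons_succ] at e ⊢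
  all_goals exact e

theorem rel42 : val (gl z a x u v h y) [4, 6, 0, 6, 4, 9, 4, 6, 0, 6, 4, 8] = 1 := by
  have e : (h) * (a 4) * (h)⁻¹ * (a 4)⁻¹ = 1 := mul_inv_eq_one.2 (F.eh.2 4)
  try simp only [ha2 S, ha3 S, ha4 S, ha0 S] at e
  simp only [mul_inv_rev, inv_inv, inv_u S, inv_v S, inv_z S, inv_b S, mul_assoc, u_u S, v_v S,
    z_z S, b_b S, inv_mul_cancel_left, mul_inv_cancel_left, S.uu, S.vv, zz S, S.pts.sq, mul_one,
    one_mul, mul_inv_cancel, inv_mul_cancel, val, gl, List.getD_cons_zero, List.getD_cons_succ] at e ⊢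
  all_goals exact e

theorem rel43 : val (gl z a x u v h y) [0, 6, 0, 6, 4, 6, 11, 4, 0, 4, 0, 10] = 1 := by
  have e : (y) * ((a 1) * (a 2)) * (y)⁻¹ * ((a 1) * (a 3) * ((u) * (v)))⁻¹ = 1 := mul_inv_eq_one.2 (F.ypair)
  try simp only [ha2 S, ha3 S, ha4 S, ha0 S] at e
  simp only [mul_inv_rev, inv_inv, inv_u S, inv_v S, inv_z S, inv_b S, mul_assoc, u_u S, v_v S,
    z_z S, b_b S, inv_mul_cancel_left, mul_inv_cancel_left, S.uu, S.vv, zz S, S.pts.sq, mul_one,
    one_mul, mul_inv_cancel, inv_mul_cancel, val, gl, List.getD_cons_zero, List.getD_cons_succ] at e ⊢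
  all_goals exact e

theorem rel44 : val (gl z a x u v h y) [12, 4, 6, 0, 6, 4, 12, 4, 6, 0, 6, 4] = 1 := by
  have e : (a 4) * (z) * (a 4)⁻¹ * (z)⁻¹ = 1 := mul_inv_eq_one.2 (mul_inv_eq_iff_eq_mul.2 (az S 4))
  try simp only [ha2 S, ha3 S, ha4 S, ha0 S] at e
  simp only [mul_inv_rev, inv_inv, inv_u S, inv_v S, inv_z S, inv_b S, mul_assoc, u_u S, v_v S,
    z_z S, b_b S, inv_mul_cancel_left, mul_inv_cancel_left, S.uu, S.vv, zz S, S.pts.sq, mul_one,
    one_mul, mul_inv_cancel, inv_mul_cancel, val, gl, List.getD_cons_zero, List.getD_cons_succ] at e ⊢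
  all_goals exact e

theorem rel45 : val (gl z a x u v h y) [12, 4, 6, 0, 6, 4, 0, 4, 6, 0, 6, 4, 0] = 1 := by
  have e : (a 1) * (a 4) * (a 1)⁻¹ * ((z) * (a 4))⁻¹ = 1 := mul_inv_eq_one.2 (S.pts.anti 1 4 (by decide))
  try simp only [ha2 S, ha3 S, ha4 S, ha0 S] at e
  simp only [mul_inv_rev, inv_inv, inv_u S, inv_v S, inv_z S, inv_b S, mul_assoc, u_u S, v_v S,
    z_z S, b_b S, inv_mul_cancel_left, mul_inv_cancel_left, S.uu, S.vv, zz S, S.pts.sq, mul_one,
    one_mul, mul_inv_cancel, inv_mul_cancel, val, gl, List.getD_cons_zero, List.getD_cons_succ] at e ⊢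
  all_goals exact e

theorem rel46 : val (gl z a x u v h y) [12, 6, 0, 6, 4, 0, 4, 6, 0, 6, 4, 0, 4] = 1 := by
  have e : (a 2) * (a 3) * (a 2)⁻¹ * ((z) * (a 3))⁻¹ = 1 := mul_inv_eq_one.2 (S.pts.anti 2 3 (by decide))
  try simp only [ha2 S, ha3 S, ha4 S, ha0 S] at e
  simp only [mul_inv_rev, inv_inv, inv_u S, inv_v S, inv_z S, inv_b S, mul_assoc, u_u S, v_v S,
    z_z S, b_b S, inv_mul_cancel_left, mul_inv_cancel_left, S.uu, S.vv, zz S, S.pts.sq, mul_one,
    one_mul, mul_inv_cancel, inv_mul_cancel, val, gl, List.getD_cons_zero, List.getD_cons_succ] at e ⊢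
  all_goals exact e

theorem rel47 : val (gl z a x u v h y) [12, 4, 0, 4, 6, 0, 6, 4, 0, 4, 6, 0, 6] = 1 := by
  have e : (a 3) * (a 2) * (a 3)⁻¹ * ((z) * (a 2))⁻¹ = 1 := mul_inv_eq_one.2 (S.pts.anti 3 2 (by decide))
  try simp only [ha2 S, ha3 S, ha4 S, ha0 S] at e
  simp only [mul_inv_rev, inv_inv, inv_u S, inv_v S, inv_z S, inv_b S, mul_assoc, u_u S, v_v S,
    z_z S, b_b S, inv_mul_cancel_left, mul_inv_cancel_left, S.uu, S.vv, zz S, S.pts.sq, mul_one,
    one_mul, mul_inv_cancel, inv_mul_cancel, val, gl, List.getD_cons_zero, List.getD_cons_succ] at e ⊢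
  all_goals exact e

theorem rel48 : val (gl z a x u v h y) [12, 0, 4, 6, 0, 6, 4, 0, 4, 6, 0, 6, 4] = 1 := by
  have e : (a 4) * (a 1) * (a 4)⁻¹ * ((z) * (a 1))⁻¹ = 1 := mul_inv_eq_one.2 (S.pts.anti 4 1 (by decide))
  try simp only [ha2 S, ha3 S, ha4 S, ha0 S] at e
  simp only [mul_inv_rev, inv_inv, inv_u S, inv_v S, inv_z S, inv_b S, mul_assoc, u_u S, v_v S,
    z_z S, b_b S, inv_mul_cancel_left, mul_inv_cancel_left, S.uu, S.vv, zz S, S.pts.sq, mul_one,
    one_mul, mul_inv_cancel, inv_mul_cancel, val, gl, List.getD_cons_zero, List.getD_cons_succ] at e ⊢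
  all_goals exact e

theorem rel49 : val (gl z a x u v h y) [0, 4, 0, 4, 6, 0, 6, 4, 6, 0, 6, 4, 11, 12, 10] = 1 := by
  have e : (y) * (z) * (y)⁻¹ * ((a 1) * (a 2) * (a 3) * (a 4))⁻¹ = 1 := mul_inv_eq_one.2 (S.yz.trans S.a0)
  try simp only [ha2 S, ha3 S, ha4 S, ha0 S] at e
  simp only [mul_inv_rev, inv_inv, inv_u S, inv_v S, inv_z S, inv_b S, mul_assoc, u_u S, v_v S,
    z_z S, b_b S, inv_mul_cancel_left, mul_inv_cancel_left, S.uu, S.vv, zz S, S.pts.sq, mul_one,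
    one_mul, mul_inv_cancel, inv_mul_cancel, val, gl, List.getD_cons_zero, List.getD_cons_succ] at e ⊢
  all_goals exact e

theorem rel50 : val (gl z a x u v h y) [12, 4, 6, 0, 6, 4, 6, 0, 6, 4, 6, 0, 6, 4, 6, 0, 6] = 1 := by
  have e : (a 3) * (a 4) * (a 3)⁻¹ * ((z) * (a 4))⁻¹ = 1 := mul_inv_eq_one.2 (S.pts.anti 3 4 (by decide))
  try simp only [ha2 S, ha3 S, ha4 S, ha0 S] at e
  simp only [mul_inv_rev, inv_inv, inv_u S, inv_v S, inv_z S, inv_b S, mul_assoc, u_u S, v_v S,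
    z_z S, b_b S, inv_mul_cancel_left, mul_inv_cancel_left, S.uu, S.vv, zz S, S.pts.sq, mul_one,
    one_mul, mul_inv_cancel, inv_mul_cancel, val, gl, List.getD_cons_zero, List.getD_cons_succ] at e ⊢
  all_goals exact e

theorem rel51 : val (gl z a x u v h y) [12, 6, 0, 6, 4, 6, 0, 6, 4, 6, 0, 6, 4, 6, 0, 6, 4] = 1 := by
  have e : (a 4) * (a 3) * (a 4)⁻¹ * ((z) * (a 3))⁻¹ = 1 := mul_inv_eq_one.2 (S.pts.anti 4 3 (by decide))
  try simp only [ha2 S, ha3 S, ha4 S, ha0 S] at e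
  simp only [mul_inv_rev, inv_inv, inv_u S, inv_v S, inv_z S, inv_b S, mul_assoc, u_u S, v_v S,
    z_z S, b_b S, inv_mul_cancel_left, mul_inv_cancel_left, S.uu, S.vv, zz S, S.pts.sq, mul_one,
    one_mul, mul_inv_cancel, inv_mul_cancel, val, gl, List.getD_cons_zero, List.getD_cons_succ] at e ⊢
  all_goals exact e

theorem rel_hwu (hwu : wel z a u h y * u = u * wel z a u h y) :
    val (gl z a x u v h y) [8, 11, 9, 4, 10, 0, 11, 4, 8, 10, 9, 4, 8, 11, 9, 4, 10, 0, 11, 4, 8, 10, 9, 4] = 1 := by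
  have e : (wel z a u h y) * u * (wel z a u h y)⁻¹ * u⁻¹ = 1 := mul_inv_eq_one.2 (mul_inv_eq_iff_eq_mul.2 hwu)
  rw [wel] at e
  try simp only [ha2 S, ha3 S, ha4 S, ha0 S] at e
  simp only [mul_inv_rev, inv_inv, inv_u S, inv_v S, inv_z S, inv_b S, mul_assoc, u_u S, v_v S,
    z_z S, b_b S, inv_mul_cancel_left, mul_inv_cancel_left, S.uu, S.vv, zz S, S.pts.sq, mul_one,
    one_mul, mul_inv_cancel, inv_mul_cancel, val, gl, List.getD_cons_zero, List.getD_cons_succ] at e ⊢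
  all_goals exact e

theorem rel_hwy (hwy : wel z a u h y * y * (wel z a u h y * y) = 1) :
    val (gl z a x u v h y) [10, 4, 8, 11, 9, 4, 10, 0, 11, 4, 8, 10, 9, 4, 10, 4, 8, 11, 9, 4, 10, 0, 11, 4, 8, 10, 9, 4] = 1 := by
  have e : (wel z a u h y) * y * ((wel z a u h y) * y) = 1 := hwy
  rw [wel] at e
  try simp only [ha2 S, ha3 S, ha4 S, ha0 S] at e
  simp only [mul_inv_rev, inv_inv, inv_u S, inv_v S, inv_z S, inv_b S, mul_assoc, u_u S, v_v S,
    z_z S, b_b S, inv_mul_cancel_left, mul_inv_cancel_left, S.uu, S.vv, zz S, S.pts.sq, mul_one,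
    one_mul, mul_inv_cancel, inv_mul_cancel, val, gl, List.getD_cons_zero, List.getD_cons_succ] at e ⊢
  all_goals exact e

theorem rel_hwv (hwv : wel z a u h y * v = v * wel z a u h y) :
    val (gl z a x u v h y) [6, 4, 8, 11, 9, 4, 10, 0, 11, 4, 8, 10, 9, 4, 6, 4, 8, 11, 9, 4, 10, 0, 11, 4, 8, 10, 9, 4] = 1 := by
  have e : (wel z a u h y) * v * (wel z a u h y)⁻¹ * v⁻¹ = 1 := mul_inv_eq_one.2 (mul_inv_eq_iff_eq_mul.2 hwv)
  rw [wel] at e
  try simp only [ha2 S, ha3 S, ha4 S, ha0 S] at e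
  simp only [mul_inv_rev, inv_inv, inv_u S, inv_v S, inv_z S, inv_b S, mul_assoc, u_u S, v_v S,
    z_z S, b_b S, inv_mul_cancel_left, mul_inv_cancel_left, S.uu, S.vv, zz S, S.pts.sq, mul_one,
    one_mul, mul_inv_cancel, inv_mul_cancel, val, gl, List.getD_cons_zero, List.getD_cons_succ] at e ⊢
  all_goals exact e

theorem rel_hwz (hwz : wel z a u h y * z * (wel z a u h y * z) * (wel z a u h y * z) = 1) :
    val (gl z a x u v h y) [12, 4, 8, 11, 9, 4, 10, 0, 11, 4, 8, 10, 9, 4, 12, 4, 8, 11, 9, 4, 10, 0, 11, 4, 8, 10, 9, 4, 12, 4, 8, 11, 9, 4, 10, 0, 11, 4, 8, 10, 9, 4] = 1 := by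
  have e : (wel z a u h y) * z * ((wel z a u h y) * z) * ((wel z a u h y) * z) = 1 := hwz
  rw [wel] at e
  try simp only [ha2 S, ha3 S, ha4 S, ha0 S] at e
  simp only [mul_inv_rev, inv_inv, inv_u S, inv_v S, inv_z S, inv_b S, mul_assoc, u_u S, v_v S,
    z_z S, b_b S, inv_mul_cancel_left, mul_inv_cancel_left, S.uu, S.vv, zz S, S.pts.sq, mul_one,
    one_mul, mul_inv_cancel, inv_mul_cancel, val, gl, List.getD_cons_zero, List.getD_cons_succ] at e ⊢
  all_goals exact e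

theorem rel_htu (htu : a 1 * wel z a u h y * a 1 * u = u * (a 1 * wel z a u h y * a 1)) :
    val (gl z a x u v h y) [4, 0, 4, 8, 11, 9, 4, 10, 0, 11, 4, 8, 10, 9, 4, 0, 4, 0, 4, 8, 11, 9, 4, 10, 0, 11, 4, 8, 10, 9, 4, 0] = 1 := by
  have e : (a 1 * (wel z a u h y) * a 1) * u * (a 1 * (wel z a u h y) * a 1)⁻¹ * u⁻¹ = 1 := mul_inv_eq_one.2 (mul_inv_eq_iff_eq_mul.2 htu)
  rw [wel] at e
  try simp only [ha2 S, ha3 S, ha4 S, ha0 S] at e
  simp only [mul_inv_rev, inv_inv, inv_u S, inv_v S, inv_z S, inv_b S, mul_assoc, u_u S, v_v S,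
    z_z S, b_b S, inv_mul_cancel_left, mul_inv_cancel_left, S.uu, S.vv, zz S, S.pts.sq, mul_one,
    one_mul, mul_inv_cancel, inv_mul_cancel, val, gl, List.getD_cons_zero, List.getD_cons_succ] at e ⊢
  all_goals exact e

/-- The relators of case G hold. -/
theorem relsG_hold (hwu : wel z a u h y * u = u * wel z a u h y)
    (hwv : wel z a u h y * v = v * wel z a u h y)
    (hwy : wel z a u h y * y * (wel z a u h y * y) = 1)
    (hwz : wel z a u h y * z * (wel z a u h y * z) * (wel z a u h y * z) = 1) :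
    ∀ w ∈ relsG, val (gl z a x u v h y) w = 1 := by
  intro w hw
  simp only [relsG, List.mem_cons, List.not_mem_nil, or_false] at hw
  rcases hw with rfl | rfl | rfl | rfl | rfl | rfl | rfl | rfl | rfl | rfl | rfl | rfl | rfl | rfl | rfl | rfl | rfl | rfl | rfl | rfl | rfl | rfl | rfl | rfl | rfl | rfl | rfl | rfl | rfl | rfl | rfl | rfl | rfl | rfl | rfl | rfl | rfl | rfl | rfl | rfl | rfl | rfl | rfl | rfl | rfl | rfl | rfl | rfl | rfl | rfl | rfl | rfl | rfl | rfl | rfl | rfl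
  exacts [rel0 S F,
    rel1 S F,
    rel2 S F,
    rel3 S F,
    rel4 S F,
    rel5 S F,
    rel6 S F,
    rel7 S F,
    rel8 S F,
    rel9 S F,
    rel10 S F,
    rel11 S F,
    rel12 S F,
    rel13 S F,
    rel14 S F,
    rel15 S F,
    rel16 S F,
    rel17 S F,
    rel18 S F,
    rel19 S F,
    rel20 S F,
    rel21 S F,
    rel22 S F,
    rel23 S F,
    rel24 S F,
    rel25 S F,
    rel26 S F,
    rel27 S F,
    rel28 S F,
    rel29 S F,
    rel30 S F,
    rel31 S F,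
    rel32 S F,
    rel33 S F,
    rel34 S F,
    rel35 S F,
    rel36 S F,
    rel37 S F,
    rel38 S F,
    rel39 S F,
    rel40 S F,
    rel41 S F,
    rel42 S F,
    rel43 S F,
    rel44 S F,
    rel45 S F,
    rel46 S F,
    rel47 S F,
    rel48 S F,
    rel49 S F,
    rel50 S F,
    rel51 S F,
    rel_hwu S F hwu,
    rel_hwy S F hwy,
    rel_hwv S F hwv,
    rel_hwz S F hwz]

/-- The relators of case B hold. -/
theorem relsB_hold (htu : a 1 * wel z a u h y * a 1 * u = u * (a 1 * wel z a u h y * a 1))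
    (hwz : wel z a u h y * z * (wel z a u h y * z) * (wel z a u h y * z) = 1) :
    ∀ w ∈ relsB, val (gl z a x u v h y) w = 1 := by
  intro w hw
  simp only [relsB, List.mem_cons, List.not_mem_nil, or_false] at hw
  rcases hw with rfl | rfl | rfl | rfl | rfl | rfl | rfl | rfl | rfl | rfl | rfl | rfl | rfl | rfl | rfl | rfl | rfl | rfl | rfl | rfl | rfl | rfl | rfl | rfl | rfl | rfl | rfl | rfl | rfl | rfl | rfl | rfl | rfl | rfl | rfl | rfl | rfl | rfl | rfl | rfl | rfl | rfl | rfl | rfl | rfl | rfl | rfl | rfl | rfl | rfl | rfl | rfl | rfl | rfl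
  exacts [rel0 S F,
    rel1 S F,
    rel2 S F,
    rel3 S F,
    rel4 S F,
    rel5 S F,
    rel6 S F,
    rel7 S F,
    rel8 S F,
    rel9 S F,
    rel10 S F,
    rel11 S F,
    rel12 S F,
    rel13 S F,
    rel14 S F,
    rel15 S F,
    rel16 S F,
    rel17 S F,
    rel18 S F,
    rel19 S F,
    rel20 S F,
    rel21 S F,
    rel22 S F,
    rel23 S F,
    rel24 S F,
    rel25 S F,
    rel26 S F,
    rel27 S F,
    rel28 S F,
    rel29 S F,
    rel30 S F,
    rel31 S F,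
    rel32 S F,
    rel33 S F,
    rel34 S F,
    rel35 S F,
    rel36 S F,
    rel37 S F,
    rel38 S F,
    rel39 S F,
    rel40 S F,
    rel41 S F,
    rel42 S F,
    rel43 S F,
    rel44 S F,
    rel45 S F,
    rel46 S F,
    rel47 S F,
    rel48 S F,
    rel49 S F,
    rel50 S F,
    rel51 S F,
    rel_htu S F htu,
    rel_hwz S F hwz]

end Cfsg.Agent.J2RecRels30
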