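import Cfsg.Agent.Lib.J2RecWeak30

/-!
# Groups of Hall–Janko type: the setting of the simple group statements
-/

set_option autoImplicit false

namespace Cfsg.Agent.J2RecSimple30

open Subgroup Cfsg.Agent.LargeExtraspecial

/-- The hypotheses of the simple group statements give the large extraspecial hypothesis. -/
theorem hyp_of_simple {G : Type*} [Group G] [Finite G] [IsSimpleGroup G] {t : G}
    (ht : orderOf t = 2) (Q : Subgroup (centralizer ({t} : Set G))) [Q.Normal]
    (hQ : Cfsg.IsExtraspecial 2 Q) (hcard : Nat.card Q = 32)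
    (hminus : ∀ E : Subgroup Q, Cfsg.IsElementaryAbelian 2 E → Nat.card E ≤ 2 ^ 2)
    (h2c : centralizer (Q : Set (centralizer ({t} : Set G))) ≤ Q)
    (e : (centralizer ({t} : Set G)) ⧸ Q ≃* alternatingGroup (Fin 5))
    (hcl : ∃ x y : G, orderOf x = 2 ∧ orderOf y = 2 ∧ ¬ IsConj x y) :
    J2TypePoints79.Hyp (Q.map (centralizer ({t} : Set G)).subtype) t := by
  classical
  obtain ⟨z₁, hext, -, hbig⟩ := exists_ext hQ
  have hcc : ∀ c : (centralizer ({t} : Set G)), (∀ x ∈ Q, c * x = x * c) → c = 1 ∨ c = z₁ := fun c hc =>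
    hext.central (h2c (mem_centralizer_iff.2 fun x hx => (hc x hx).symm)) fun y hy => (hc y hy).symm
  have htC : t ∈ (centralizer ({t} : Set G)) := mem_centralizer_singleton_iff.2 rfl
  have hz₁ : (⟨t, htC⟩ : (centralizer ({t} : Set G))) = z₁ := by
    rcases hcc ⟨t, htC⟩ fun x _ => Subtype.ext (mem_centralizer_singleton_iff.1 x.2).symm with h | h
    · exfalso
      have : t = 1 := congrArg Subtype.val h
      rw [this] at ht
      simp at ht
    · exact h
  subst hz₁
  have l : LHyp (Q.map (centralizer ({t} : Set G)).subtype) t := by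
    refine ⟨LargeExtraspecialSetting.ext_map _ (centralizer ({t} : Set G)).subtype_injective hext, ?_, ?_, ?_⟩
    · intro g hg
      have hgz : g * t = t * g := hg t ⟨⟨t, htC⟩, hext.mem, rfl⟩
      rcases hcc ⟨g, mem_centralizer_singleton_iff.2 hgz⟩
        fun x hx => Subtype.ext (hg x ⟨x, hx, rfl⟩) with h | h
      · exact Or.inl (congrArg Subtype.val h)
      · exact Or.inr (congrArg Subtype.val h)
    · rintro g hg _ ⟨x, hx, rfl⟩
      exact ⟨_, Normal.conj_mem ‹Q.Normal› x hx ⟨g, mem_centralizer_singleton_iff.2 hg⟩, rfl⟩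
    · obtain ⟨x, hx, h1, h2⟩ := hbig
      exact ⟨x, ⟨x, hx, rfl⟩, fun e => h1 (Subtype.ext e), fun e => h2 (Subtype.ext e)⟩
  have hc32 : Nat.card (Q.map (centralizer ({t} : Set G)).subtype) = 32 := by
    rw [card_map_of_injective (centralizer ({t} : Set G)).subtype_injective, hcard]
  have hm : ∀ E : Subgroup G, E ≤ Q.map (centralizer ({t} : Set G)).subtype → Cfsg.IsElementaryAbelian 2 E →
      Nat.card E ≤ 4 := by
    intro E hE hel
    set ι : Q →* G := (centralizer ({t} : Set G)).subtype.comp Q.subtype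
    have hι : Function.Injective ι := (centralizer ({t} : Set G)).subtype_injective.comp Q.subtype_injective
    have hmap : (E.comap ι).map ι = E := by
      rw [map_comap_eq, inf_eq_right]
      refine hE.trans ?_
      rintro _ ⟨x, hx, rfl⟩
      exact ⟨⟨x, hx⟩, rfl⟩
    have h := hminus (E.comap ι) ⟨⟨⟨fun a b => Subtype.ext (hι (by
        rw [Subgroup.coe_mul, Subgroup.coe_mul, map_mul, map_mul]
        exact congrArg Subtype.val (hel.1.is_comm.comm (⟨ι a, a.2⟩ : E) ⟨ι b, b.2⟩)))⟩⟩,
      fun a ha => hι (by rw [map_pow, map_one]; exact hel.2 _ ha)⟩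
    rw [← hmap, card_map_of_injective hι]
    simpa using h
  have hquot : ∃ f : ↥(centralizer ({t} : Set G)) →* ↥(alternatingGroup (Fin 5)),
      Function.Surjective f ∧ f.ker = (Q.map (centralizer ({t} : Set G)).subtype).subgroupOf (centralizer ({t} : Set G)) := by
    refine ⟨e.toMonoidHom.comp (QuotientGroup.mk' Q),
      e.surjective.comp (QuotientGroup.mk'_surjective Q), ?_⟩
    rw [← MonoidHom.comap_ker, (MonoidHom.ker_eq_bot_iff _).2 e.injective, MonoidHom.comap_bot,
      QuotientGroup.ker_mk', subgroupOf, comap_map_eq_self_of_injective (centralizer ({t} : Set G)).subtype_injective]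
  exact ⟨l, hc32, hquot, J2RecWeak30.exists_conj_mem l hc32 hm hquot, hcl⟩

end Cfsg.Agent.J2RecSimple30
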