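import Cfsg.Agent.Lib.J2TypePoints79
import Cfsg.Agent.Lib.LargeExtraspecialSetting
import Cfsg.Agent.Lib.ZStarTheorem
import Cfsg.Prelude.Def_Transfer

/-!
# Groups of Hall–Janko type: a conjugate of `z` lies in `Q`

For a simple group with an involution centralizer `Q.A₅`, `Q` extraspecial of order 32 of minus
type, the involution `z` is not weakly closed in `Q`.
-/

set_option autoImplicit false

namespace Cfsg.Agent.J2RecWeak30

open Subgroup Cfsg.Agent.LargeExtraspecial

set_option maxRecDepth 100000 in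
theorem a5_four : ∀ σ : ↥(alternatingGroup (Fin 5)), σ ^ 4 = 1 → σ * σ = 1 := by decide +kernel

set_option maxRecDepth 100000 in
theorem a5_conj_perm : ∀ σ : Equiv.Perm (Fin 5), σ * σ = 1 → σ ≠ 1 → Equiv.Perm.sign σ = 1 →
    ∃ s : Equiv.Perm (Fin 5), Equiv.Perm.sign s = 1 ∧
      s * σ * s⁻¹ = Equiv.swap 0 1 * Equiv.swap 2 3 := by
  decide +kernel

theorem a5_conj (σ τ : ↥(alternatingGroup (Fin 5))) (h1 : σ * σ = 1) (h2 : σ ≠ 1)
    (h3 : τ * τ = 1) (h4 : τ ≠ 1) : ∃ s, s * σ * s⁻¹ = τ := by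
  obtain ⟨p, hp, hp'⟩ := a5_conj_perm σ (congrArg Subtype.val h1) (fun e => h2 (Subtype.ext e)) σ.2
  obtain ⟨q, hq, hq'⟩ := a5_conj_perm τ (congrArg Subtype.val h3) (fun e => h4 (Subtype.ext e)) τ.2
  refine ⟨⟨q, hq⟩⁻¹ * ⟨p, hp⟩, Subtype.ext ?_⟩
  show q⁻¹ * p * (σ : Equiv.Perm (Fin 5)) * (q⁻¹ * p)⁻¹ = τ
  rw [show q⁻¹ * p * (σ : Equiv.Perm (Fin 5)) * (q⁻¹ * p)⁻¹ =
    q⁻¹ * (p * (σ : Equiv.Perm (Fin 5)) * p⁻¹) * q by group, hp', ← hq']
  group

variable {G : Type*} [Group G] [Finite G] {Q : Subgroup G} {z : G}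

/-- The hypotheses. -/
structure Weak (Q : Subgroup G) (z : G) : Prop where
  l : LHyp Q z
  cardQ : Nat.card Q = 32
  minus : ∀ E : Subgroup G, E ≤ Q → Cfsg.IsElementaryAbelian 2 E → Nat.card E ≤ 4
  quot : ∃ f : ↥(centralizer ({z} : Set G)) →* ↥(alternatingGroup (Fin 5)),
    Function.Surjective f ∧ f.ker = Q.subgroupOf (centralizer ({z} : Set G))
  closed : ∀ g : G, g * z * g⁻¹ ∈ Q → g * z * g⁻¹ = z

variable (S : Weak Q z)
include S

theorem eq_of_conj {t : G} (ht : IsConj z t) (hQ : t ∈ Q) : t = z := by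
  obtain ⟨g, rfl⟩ := isConj_iff.1 ht
  exact S.closed g hQ

omit [Finite G] in
theorem conj_sq {t : G} (ht : IsConj z t) : t * t = 1 := by
  obtain ⟨g, rfl⟩ := isConj_iff.1 ht
  rw [show g * z * g⁻¹ * (g * z * g⁻¹) = g * (z * z) * g⁻¹ by group, S.l.zz]
  group

/-- A conjugate of `z` outside `Q` centralises a four group of `Q` and its coset contains one
class of involutions. -/
theorem coset {t : G} (ht : IsConj z t) (htz : t * z = z * t) (htQ : t ∉ Q) :
    Nat.card ↥(Q ⊓ centralizer ({t} : Set G)) = 4 ∧ (∀ c ∈ Q, c * t = t * c → c * c = 1) ∧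
      ∀ q ∈ Q, t * q * (t * q) = 1 → IsConj t (t * q) := by
  classical
  haveI : Fintype G := Fintype.ofFinite G
  obtain ⟨g, hg⟩ := isConj_iff.1 ht
  obtain ⟨f, -, hk⟩ := S.quot
  have hsq : ∀ c ∈ Q, c * t = t * c → c * c = 1 := by
    intro c hc hct
    rcases S.l.sq c hc with e | e
    · exact e
    exfalso
    have hcH : g⁻¹ * c * g * z = z * (g⁻¹ * c * g) := by
      calc g⁻¹ * c * g * z = g⁻¹ * (c * (g * z * g⁻¹)) * g := by group
        _ = g⁻¹ * ((g * z * g⁻¹) * c) * g := by rw [hg, hct]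
        _ = _ := by group
    set c' : centralizer ({z} : Set G) := ⟨g⁻¹ * c * g, mem_centralizer_singleton_iff.2 hcH⟩
    have h4 : f c' ^ 4 = 1 := by
      rw [← map_pow, show c' ^ 4 = 1 from Subtype.ext (by
        show (g⁻¹ * c * g) ^ 4 = 1
        rw [show (g⁻¹ * c * g) ^ 4 = g⁻¹ * (c * c * (c * c)) * g by
          simp only [pow_succ, pow_zero]; group, e, S.l.zz]
        group), map_one]
    have h2 := a5_four _ h4
    rw [← map_mul, ← MonoidHom.mem_ker, hk, mem_subgroupOf] at h2
    have h2' : g⁻¹ * z * g⁻¹⁻¹ ∈ Q := by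
      rw [inv_inv, ← e, show g⁻¹ * (c * c) * g = g⁻¹ * c * g * (g⁻¹ * c * g) by group]
      exact h2
    have h3 := S.closed _ h2'
    refine htQ ?_
    have h5 : t = z := by
      rw [← hg]
      nth_rw 1 [← h3]
      group
    exact h5 ▸ S.l.mem
  set C := Q ⊓ centralizer ({t} : Set G)
  have hmemC : ∀ c, c ∈ C ↔ c ∈ Q ∧ c * t = t * c := fun c => by
    rw [Subgroup.mem_inf, mem_centralizer_singleton_iff]
  have hC4 : Nat.card C ≤ 4 := by
    refine S.minus C inf_le_left ⟨⟨⟨fun p q => Subtype.ext ?_⟩⟩, fun c hc => ?_⟩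
    · obtain ⟨hp, hp'⟩ := (hmemC p).1 p.2
      obtain ⟨hq, hq'⟩ := (hmemC q).1 q.2
      obtain ⟨hr, hr'⟩ := (hmemC (p * q)).1 (p * q).2
      show (p : G) * q = q * p
      have h5 := eq_inv_of_mul_eq_one_left (hsq _ hr hr')
      rw [mul_inv_rev, inv_eq_of_mul_eq_one_right (hsq _ hp hp'),
        inv_eq_of_mul_eq_one_right (hsq _ hq hq')] at h5
      exact h5
    · obtain ⟨h1, h2⟩ := (hmemC c).1 hc
      rw [pow_two]; exact hsq c h1 h2
  -- inverted elements
  set I : Finset G := Finset.univ.filter fun q => q ∈ Q ∧ t * q * (t * q) = 1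
  set F : Finset G := Finset.univ.filter fun q => q ∈ Q ∧ (t * q * t = q ∨ t * q * t = z * q)
  have htt := conj_sq S ht
  have hti : t⁻¹ = t := inv_eq_of_mul_eq_one_right htt
  have hIF : I ⊆ F := by
    intro q hq
    simp only [I, F, Finset.mem_filter, Finset.mem_univ, true_and] at hq ⊢
    refine ⟨hq.1, ?_⟩
    have e : t * q * t = q⁻¹ := by
      rw [eq_inv_iff_mul_eq_one, ← hq.2]; group
    rw [e]
    rcases S.l.sq q hq.1 with h | h
    · exact Or.inl (inv_eq_of_mul_eq_one_right h)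
    · refine Or.inr (inv_eq_of_mul_eq_one_right ?_)
      rw [← mul_assoc, S.l.comm q hq.1, mul_assoc, h, S.l.zz]
  set Cs : Finset G := Finset.univ.filter fun q => q ∈ C
  have hCs : Cs.card = Nat.card C := by
    rw [Nat.card_eq_fintype_card, Fintype.card_subtype]
  have hF8 : F.card ≤ 2 * Cs.card := by
    by_cases hne : ∃ q ∈ F, t * q * t = z * q
    · obtain ⟨q₀, hq₀, e₀⟩ := hne
      have hsub : F ⊆ Cs ∪ Cs.image (fun c => q₀ * c) := by
        intro q hq
        simp only [F, Finset.mem_filter, Finset.mem_univ, true_and] at hq hq₀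
        simp only [Cs, Finset.mem_union, Finset.mem_image, Finset.mem_filter, Finset.mem_univ,
          true_and, hmemC]
        rcases hq.2 with e | e
        · exact Or.inl ⟨hq.1, by
            calc q * t = (t * t) * q * t := by rw [htt, one_mul]
              _ = t * (t * q * t) := by group
              _ = _ := by rw [e]⟩
        · refine Or.inr ⟨q₀⁻¹ * q, ⟨Q.mul_mem (Q.inv_mem hq₀.1) hq.1, ?_⟩, by group⟩
          have e2 : t * (q₀⁻¹ * q) * t = q₀⁻¹ * q := by
            rw [show t * (q₀⁻¹ * q) * t = (t * q₀⁻¹ * t⁻¹) * (t * q * t) by group,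
              show t * q₀⁻¹ * t⁻¹ = (t * q₀ * t⁻¹)⁻¹ by group, hti, e₀, e, mul_inv_rev]
            group
          calc q₀⁻¹ * q * t = (t * t) * (q₀⁻¹ * q) * t := by rw [htt, one_mul]
            _ = t * (t * (q₀⁻¹ * q) * t) := by group
            _ = _ := by rw [e2]
      refine (Finset.card_le_card hsub).trans ((Finset.card_union_le _ _).trans ?_)
      have := Finset.card_image_le (s := Cs) (f := fun c => q₀ * c)
      omega
    · push Not at hne
      refine (Finset.card_le_card (fun q hq => ?_)).trans (Nat.le_mul_of_pos_left _ two_pos)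
      have h1 := hne q hq
      simp only [F, Finset.mem_filter, Finset.mem_univ, true_and] at hq
      simp only [Cs, Finset.mem_filter, Finset.mem_univ, true_and, hmemC]
      refine ⟨hq.1, ?_⟩
      calc q * t = (t * t) * q * t := by rw [htt, one_mul]
        _ = t * (t * q * t) := by group
        _ = _ := by rw [hq.2.resolve_right h1]
  -- commutators with `t`
  set Qs : Finset G := Finset.univ.filter fun q => q ∈ Q
  have hQs : Qs.card = 32 := by
    rw [← S.cardQ, Nat.card_eq_fintype_card, Fintype.card_subtype]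
  set c : G → G := fun q => t * (q * t * q⁻¹)
  have hcI : Qs.image c ⊆ I := by
    intro r hr
    simp only [Qs, Finset.mem_image, Finset.mem_filter, Finset.mem_univ, true_and] at hr
    obtain ⟨q, hq, rfl⟩ := hr
    simp only [I, c, Finset.mem_filter, Finset.mem_univ, true_and]
    refine ⟨?_, ?_⟩
    · rw [show t * (q * t * q⁻¹) = (t * q * t) * q⁻¹ by group]
      refine Q.mul_mem ?_ (Q.inv_mem hq)
      have := S.l.norm t htz q hq
      rwa [hti] at this
    · rw [← mul_assoc t t, htt, one_mul,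
        show q * t * q⁻¹ * (q * t * q⁻¹) = q * (t * t) * q⁻¹ by group, htt]
      group
  have hfib : Qs.card ≤ Cs.card * (Qs.image c).card := by
    refine Finset.card_le_mul_card_image _ _ fun r hr => ?_
    simp only [Finset.mem_image] at hr
    obtain ⟨q, hq, rfl⟩ := hr
    refine (Finset.card_le_card (t := Cs.image fun d => q * d) fun p hp => ?_).trans
      Finset.card_image_le
    simp only [Qs, c, Finset.mem_filter, Finset.mem_univ, true_and] at hp hq
    simp only [Cs, Finset.mem_image, Finset.mem_filter, Finset.mem_univ, true_and, hmemC]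
    refine ⟨q⁻¹ * p, ⟨Q.mul_mem (Q.inv_mem hq) hp.1, ?_⟩, by group⟩
    have e := mul_left_cancel hp.2
    calc q⁻¹ * p * t = q⁻¹ * (p * t * p⁻¹) * p := by group
      _ = q⁻¹ * (q * t * q⁻¹) * p := by rw [e]
      _ = _ := by group
  have h1 := Finset.card_le_card hcI
  have h2 := Finset.card_le_card hIF
  rw [hQs] at hfib
  have hC : Nat.card C = 4 := by
    have : Cs.card ≤ 4 := hCs ▸ hC4
    have h3 : 32 ≤ Cs.card * (2 * Cs.card) :=
      hfib.trans (Nat.mul_le_mul_left _ (h1.trans (h2.trans hF8)))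
    rw [← hCs]
    interval_cases Cs.card <;> omega
  refine ⟨hC, hsq, fun q hq htq => ?_⟩
  have hI : I = Qs.image c := by
    refine (Finset.eq_of_subset_of_card_le hcI ?_).symm
    have : Cs.card = 4 := hCs.trans hC
    rw [this] at hfib hF8
    omega
  have hqI : q ∈ Qs.image c := hI ▸ by simp [I, hq, htq]
  simp only [Qs, c, Finset.mem_image, Finset.mem_filter, Finset.mem_univ, true_and] at hqI
  obtain ⟨p, -, rfl⟩ := hqI
  refine isConj_iff.2 ⟨p, ?_⟩
  rw [← mul_assoc t t, htt, one_mul]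

/-- The hypotheses are contradictory as soon as a second conjugate of `z` centralises `z`. -/
theorem false_of_commuting {g : G} (hc : Commute z (g * z * g⁻¹)) (hne : g * z * g⁻¹ ≠ z) :
    False := by
  classical
  set t := g * z * g⁻¹ with htdef
  have ht : IsConj z t := isConj_iff.2 ⟨g, rfl⟩
  have htQ : t ∉ Q := fun h => hne (S.closed g h)
  obtain ⟨-, -, hcls⟩ := coset S ht hc.symm.eq htQ
  -- the other involution `b`
  set z' := g⁻¹ * z * g⁻¹⁻¹ with hz'def
  have hz' : IsConj z z' := isConj_iff.2 ⟨g⁻¹, rfl⟩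
  have hz'c : z' * z = z * z' := by
    have e := hc.eq
    calc z' * z = g⁻¹ * (z * t) * g := by rw [hz'def, htdef]; group
      _ = g⁻¹ * (t * z) * g := by rw [e]
      _ = _ := by rw [hz'def, htdef]; group
  have hz'Q : z' ∉ Q := fun h => by
    have h1 := S.closed _ h
    refine hne ?_
    nth_rw 1 [htdef, ← h1]
    group
  obtain ⟨hcard, hsq, -⟩ := coset S hz' hz'c hz'Q
  obtain ⟨b', hb', hb1, hbz⟩ : ∃ b' ∈ Q ⊓ centralizer ({z'} : Set G), b' ≠ 1 ∧ b' ≠ z := by
    haveI : Fintype G := Fintype.ofFinite G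
    by_contra hcon
    push Not at hcon
    have : Nat.card ↥(Q ⊓ centralizer ({z'} : Set G)) ≤ ({1, z} : Finset G).card := by
      rw [Nat.card_eq_fintype_card, Fintype.card_subtype]
      refine Finset.card_le_card fun w hw => ?_
      simp only [Finset.mem_filter, Finset.mem_univ, true_and] at hw
      simp only [Finset.mem_insert, Finset.mem_singleton]
      by_cases h1 : w = 1
      · exact Or.inl h1
      · exact Or.inr (hcon w hw h1)
    have := this.trans Finset.card_le_two
    omega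
  rw [Subgroup.mem_inf, mem_centralizer_singleton_iff] at hb'
  set b := g * b' * g⁻¹ with hbdef
  have hbb : b * b = 1 := by
    rw [hbdef, show g * b' * g⁻¹ * (g * b' * g⁻¹) = g * (b' * b') * g⁻¹ by group,
      hsq b' hb'.1 hb'.2]
    group
  have hbz : b * z = z * b := by
    calc b * z = g * (b' * z') * g⁻¹ := by rw [hbdef, hz'def]; group
      _ = g * (z' * b') * g⁻¹ := by rw [hb'.2]
      _ = _ := by rw [hbdef, hz'def]; group
  have hbt : b * t = t * b := by
    calc b * t = g * (b' * z) * g⁻¹ := by rw [hbdef, htdef]; group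
      _ = g * (z * b') * g⁻¹ := by rw [S.l.comm b' hb'.1]
      _ = _ := by rw [hbdef, htdef]; group
  have hnb : ∀ w ∈ Q, w ≠ z → ¬ IsConj z (g * w * g⁻¹) := fun w hw hwz h =>
    hwz (eq_of_conj S (h.trans (isConj_iff.2 ⟨g⁻¹, by group⟩)) hw)
  by_cases hbQ : b ∈ Q
  · refine hnb (z * b') (Q.mul_mem S.l.mem hb'.1) (fun e => hb1 (mul_eq_left.1 e)) ?_
    rw [show g * (z * b') * g⁻¹ = t * b by rw [hbdef, htdef]; group]
    refine ht.trans (hcls b hbQ ?_)
    rw [mul_assoc t b, ← mul_assoc b t b, hbt, mul_assoc t b b, hbb, mul_one, conj_sq S ht]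
  · obtain ⟨f, hf, hk⟩ := S.quot
    let H := centralizer ({z} : Set G)
    let tc : H := ⟨t, mem_centralizer_singleton_iff.2 hc.symm.eq⟩
    let bc : H := ⟨b, mem_centralizer_singleton_iff.2 hbz⟩
    have hne1 : ∀ w : H, (w : G) ∉ Q → f w ≠ 1 := fun w hw e => hw (by
      rw [← MonoidHom.mem_ker, hk, mem_subgroupOf] at e; exact e)
    obtain ⟨s, hs⟩ := a5_conj (f tc) (f bc)
      (by rw [← map_mul, show tc * tc = 1 from Subtype.ext (conj_sq S ht), map_one])
      (hne1 tc htQ)
      (by rw [← map_mul, show bc * bc = 1 from Subtype.ext hbb, map_one]) (hne1 bc hbQ)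
    obtain ⟨h, rfl⟩ := hf s
    set t' : H := h * tc * h⁻¹ with ht'def
    have hft : f t' = f bc := by rw [ht'def, map_mul, map_mul, map_inv, hs]
    have ht'c : IsConj z (t' : G) := ht.trans (isConj_iff.2 ⟨h, rfl⟩)
    have ht'Q : (t' : G) ∉ Q := fun hm => hne1 bc hbQ (by
      rw [← hft, ← MonoidHom.mem_ker, hk, mem_subgroupOf]; exact hm)
    obtain ⟨-, -, hcls'⟩ := coset S ht'c (mem_centralizer_singleton_iff.1 t'.2) ht'Q
    have hq : (t' : G)⁻¹ * b ∈ Q := by
      have : t'⁻¹ * bc ∈ f.ker := by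
        rw [MonoidHom.mem_ker, map_mul, map_inv, hft, inv_mul_cancel]
      rw [hk, mem_subgroupOf] at this
      exact this
    have h1 := hcls' _ hq (by rw [mul_inv_cancel_left, hbb])
    rw [mul_inv_cancel_left] at h1
    exact hnb b' hb'.1 ‹b' ≠ z› (ht'c.trans h1)

omit S in
/-- In a simple group `z` is not weakly closed in `Q`. -/
theorem exists_conj_mem [IsSimpleGroup G] (l : LHyp Q z) (hcard : Nat.card Q = 32)
    (hminus : ∀ E : Subgroup G, E ≤ Q → Cfsg.IsElementaryAbelian 2 E → Nat.card E ≤ 4)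
    (hquot : ∃ f : ↥(centralizer ({z} : Set G)) →* ↥(alternatingGroup (Fin 5)),
      Function.Surjective f ∧ f.ker = Q.subgroupOf (centralizer ({z} : Set G))) :
    ∃ g : G, g * z * g⁻¹ ∈ Q ∧ g * z * g⁻¹ ≠ z := by
  by_contra hcon
  push Not at hcon
  have S : Weak Q z := ⟨l, hcard, hminus, hquot, hcon⟩
  have hz : orderOf z = 2 := l.orderOf_z
  by_cases hiso : Cfsg.IsIsolatedInvolution z
  · obtain ⟨N, hN, hodd, hmem⟩ := ZStarTheorem.exists_odd_normal hiso
    rcases hN.eq_bot_or_eq_top with rfl | rfl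
    · have hcen : z ∈ center G := mem_center_iff.2 fun g => by
        have := hmem g
        rw [mem_bot, mul_inv_eq_one, mul_inv_eq_iff_eq_mul] at this
        exact this.symm
      rcases (inferInstance : (center G).Normal).eq_bot_or_eq_top with e | e
      · rw [e, mem_bot] at hcen
        exact l.ne_one hcen
      · obtain ⟨f, hf, -⟩ := hquot
        obtain ⟨p, hp⟩ := hf ⟨Equiv.swap 0 1 * Equiv.swap 1 2, Equiv.Perm.mem_alternatingGroup.2 (by decide)⟩
        obtain ⟨q, hq⟩ := hf ⟨Equiv.swap 0 1 * Equiv.swap 2 3, Equiv.Perm.mem_alternatingGroup.2 (by decide)⟩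
        have : p * q = q * p := Subtype.ext
          ((mem_center_iff (z := (q : G))).1 (by rw [e]; exact mem_top _) p)
        have h1 := congrArg f this
        rw [map_mul, map_mul, hp, hq] at h1
        exact absurd (congrArg Subtype.val h1) (by decide)
    · rw [Subgroup.card_top] at hodd
      exact hodd.not_two_dvd_nat (hz ▸ orderOf_dvd_natCard z)
  · rw [Cfsg.IsIsolatedInvolution, not_and] at hiso
    have := hiso hz
    push Not at this
    obtain ⟨g, hc, hne⟩ := this
    exact false_of_commuting S hc hne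

end Cfsg.Agent.J2RecWeak30
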