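import Cfsg.Agent.Lib.J2Chain
import Cfsg.Agent.Lib.J2OrderCheck0
import Cfsg.Agent.Lib.J2OrderCheck3

set_option autoImplicit false
set_option maxRecDepth 100000

/-! Element orders of `J2`. -/

namespace Cfsg.Agent.J2Spectrum

open Cfsg.Agent.J2ChainDefs Cfsg.Agent.J2ChainData Cfsg.Agent.J2OrderData Cfsg.Agent.J2OrderDefs
  Cfsg.Agent.J2Group Cfsg.Agent.J2Chain

/-- The check for moving suborbit representatives to every point. -/
def moveOK (y : ℕ) : Bool :=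
  let w := (suborbitWord >>> (16 * y)) % 65536
  Nat.blt (w / 4096) 6 && Nat.blt (w % 4096 / 16) 160 && Nat.blt (w % 16) 12 &&
    Nat.beq (at9 (t2 (w % 4096 / 16)) (at9 (t3 (w % 16)) (srep (w / 4096)))) y

theorem move_ok : (List.range 315).all moveOK = true := by decide +kernel

theorem srep_lt : ∀ k < 6, srep k < 315 := by decide +kernel

/-- A representative as a point. -/
def sfin (k : Fin 6) : Fin 315 := ⟨srep k, srep_lt k k.2⟩

theorem exists_move (y : Fin 315) : ∃ k, ∃ h ∈ stab0, h (sfin k) = y := by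
  have h := List.all_eq_true.mp move_ok y (List.mem_range.mpr y.2)
  simp only [moveOK, Bool.and_eq_true, Nat.blt_eq] at h
  obtain ⟨⟨⟨hk, ha⟩, hb⟩, he⟩ := h
  refine ⟨⟨_, hk⟩, A ⟨_, ha⟩ * B ⟨_, hb⟩, mul_mem (A_mem _) (B_mem _), Fin.ext ?_⟩
  rw [Equiv.Perm.mul_apply, A_rep, B_rep]
  exact Nat.eq_of_beq_eq_true he

/-- Every element is conjugate to a factorised one. -/
theorem exists_conj {σ : Equiv.Perm (Fin 315)} (hσ : σ ∈ lineGroup) :
    ∃ k a b, ∃ h ∈ lineGroup, σ = h * (T (sfin k) * (A a * B b)) * h⁻¹ := by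
  obtain ⟨k, h, hh, he⟩ := exists_move (σ 0)
  have h0 : h⁻¹ 0 = 0 := by rw [Equiv.Perm.inv_eq_iff_eq, stab0_fix hh]
  have hm : (T (sfin k))⁻¹ * h⁻¹ * σ * h ∈ stab0 := by
    refine mem_stab0 (mul_mem (mul_mem (mul_mem (inv_mem (T_mem _)) (inv_mem (stab0_le hh))) hσ) (stab0_le hh)) ?_
    simp only [Equiv.Perm.mul_apply, stab0_fix hh]
    rw [Equiv.Perm.inv_eq_iff_eq, Equiv.Perm.inv_eq_iff_eq, T_zero, he]
  obtain ⟨a, b, e⟩ := stab0_eq hm
  exact ⟨k, a, b, h, stab0_le hh, by rw [← e]; group⟩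

lemma iter_spec (k : Fin 6) (a : Fin 160) (b : Fin 12) (m : ℕ) (i : Fin 315) :
    iter (fun i => at9 (t1 (srep k)) (at9 (t2 a) (at9 (t3 b) i))) m i =
      (((T (sfin k) * (A a * B b)) ^ m) i : ℕ) := by
  induction m with
  | zero => rfl
  | succ m ih =>
    rw [iter, ih, pow_succ', Equiv.Perm.mul_apply, Equiv.Perm.mul_apply, Equiv.Perm.mul_apply, T_rep, A_rep, B_rep]
    rfl

theorem pow_eq_one_iff (k : Fin 6) (a : Fin 160) (b : Fin 12) (m : ℕ) :
    powerFix k a b m = true ↔ (T (sfin k) * (A a * B b)) ^ m = 1 := by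
  have hmem : (T (sfin k) * (A a * B b)) ^ m ∈ lineGroup :=
    pow_mem (mul_mem (T_mem _) (stab0_le (mul_mem (A_mem a) (B_mem b)))) m
  simp only [powerFix, Bool.and_eq_true]
  constructor
  · rintro ⟨⟨h0, h1⟩, h2⟩
    refine eq_one_of_fix hmem ?_ ?_ ?_
    · exact Fin.ext ((iter_spec k a b m 0).symm.trans (Nat.eq_of_beq_eq_true h0))
    · exact Fin.ext ((iter_spec k a b m 106).symm.trans (Nat.eq_of_beq_eq_true h1))
    · exact Fin.ext ((iter_spec k a b m 1).symm.trans (Nat.eq_of_beq_eq_true h2))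
  · intro h
    have key : ∀ i : Fin 315, Nat.beq (iter (fun i => at9 (t1 (srep k)) (at9 (t2 a) (at9 (t3 b) i))) m i) i = true := by
      intro i
      rw [iter_spec, h, Equiv.Perm.one_apply]
      exact Nat.beq_refl _
    exact ⟨⟨key 0, key 106⟩, key 1⟩

theorem pow_cases {σ : Equiv.Perm (Fin 315)} (hσ : σ ∈ lineGroup) : ∃ m ∈ orderTops, σ ^ m = 1 := by
  obtain ⟨k, a, b, h, -, rfl⟩ := exists_conj hσ
  have hc : orderCheck k = true := by
    obtain ⟨k, hk⟩ := k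
    interval_cases k
    exacts [J2OrderCheck0.check_a, J2OrderCheck0.check_b, J2OrderCheck0.check_c, J2OrderCheck3.check_a,
      J2OrderCheck3.check_b, J2OrderCheck3.check_c]
  have h1 := List.all_eq_true.mp (List.all_eq_true.mp hc a (List.mem_range.mpr a.2)) b (List.mem_range.mpr b.2)
  simp only [Bool.and_eq_true, List.contains_iff_mem] at h1
  refine ⟨_, h1.1, ?_⟩
  rw [conj_pow, (pow_eq_one_iff k a b _).mp h1.2, mul_one, mul_inv_cancel]

theorem attained_ok : ((List.range 5).all fun t =>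
    let w := orderAttained.getD t (0, 0, 0)
    Nat.blt w.1 6 && Nat.blt w.2.1 160 && Nat.blt w.2.2 12 &&
      powerFix w.1 w.2.1 w.2.2 (orderTops.getD t 0) &&
      (List.range (orderTops.getD t 0)).all fun j => Nat.beq j 0 || !powerFix w.1 w.2.1 w.2.2 j) = true := by
  decide +kernel

theorem exists_order : ∀ m ∈ orderTops, ∃ σ ∈ lineGroup, orderOf σ = m := by
  intro m hm
  obtain ⟨t, ht, rfl⟩ := List.getElem_of_mem hm
  have h := List.all_eq_true.mp attained_ok t (List.mem_range.mpr ht)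
  simp only [Bool.and_eq_true, Nat.blt_eq, List.getD_eq_getElem _ _ ht] at h
  obtain ⟨⟨⟨⟨hk, ha⟩, hb⟩, hp⟩, hj⟩ := h
  refine ⟨T (sfin ⟨_, hk⟩) * (A ⟨_, ha⟩ * B ⟨_, hb⟩), mul_mem (T_mem _) (stab0_le (mul_mem (A_mem _) (B_mem _))), ?_⟩
  have hpos : ∀ n ∈ orderTops, 0 < n := by decide +kernel
  rw [orderOf_eq_iff (hpos _ hm)]
  refine ⟨(pow_eq_one_iff _ _ _ _).mp hp, fun j hj1 hj0 h1 => ?_⟩
  have h2 := List.all_eq_true.mp hj j (List.mem_range.mpr hj1)
  simp only [Bool.or_eq_true, Bool.not_eq_true'] at h2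
  rcases h2 with e | e
  · rw [Nat.eq_of_beq_eq_true e] at hj0; exact lt_irrefl _ hj0
  · rw [(pow_eq_one_iff ⟨_, hk⟩ ⟨_, ha⟩ ⟨_, hb⟩ j).mpr h1] at e
    exact Bool.noConfusion e

/-- The element orders of `J2`. -/
theorem range_orderOf : Set.range (orderOf : Cfsg.Spor.J2 → ℕ) = {n | ∃ m ∈ orderTops, n ∣ m} := by
  ext n
  constructor
  · rintro ⟨x, rfl⟩
    obtain ⟨m, hm, h⟩ := pow_cases (toLineGroup x).2
    refine ⟨m, hm, orderOf_dvd_of_pow_eq_one (toLineGroup.injective ?_)⟩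
    rw [map_pow, map_one]
    exact Subtype.ext h
  · rintro ⟨m, hm, hn⟩
    obtain ⟨σ, hσ, ho⟩ := exists_order m hm
    have hpos : ∀ n ∈ orderTops, 0 < n := by decide +kernel
    have hx : orderOf (toLineGroup.symm ⟨σ, hσ⟩) = m := by
      rw [MulEquiv.orderOf_eq, ← Subgroup.orderOf_coe]; exact ho
    refine ⟨toLineGroup.symm ⟨σ, hσ⟩ ^ (m / n), ?_⟩
    have h2 := orderOf_pow_orderOf_div (x := toLineGroup.symm ⟨σ, hσ⟩) (by rw [hx]; exact (hpos m hm).ne') (hx ▸ hn)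
    rwa [hx] at h2

end Cfsg.Agent.J2Spectrum
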