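import Cfsg.Agent.Lib.IcosianRefl
import Cfsg.Agent.Lib.J2MinimalData

set_option autoImplicit false
set_option maxRecDepth 100000

/-! Definitions for the table of small icosians. -/

namespace Cfsg.Agent.J2Table

open Cfsg.Agent.IcosianData Cfsg.Agent.IcosianCoords Cfsg.Agent.J2MinimalData

/-- The norm in doubled coordinates. -/
def nrm (q : Ico) : ℤ × ℤ :=
  (q.a0 * q.a0 + q.b0 * q.b0 + q.a1 * q.a1 + q.b1 * q.b1 + q.a2 * q.a2 + q.b2 * q.b2 + q.a3 * q.a3 + q.b3 * q.b3,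
   2 * q.a0 * q.b0 + q.b0 * q.b0 + 2 * q.a1 * q.b1 + q.b1 * q.b1 + 2 * q.a2 * q.b2 + q.b2 * q.b2
     + 2 * q.a3 * q.b3 + q.b3 * q.b3)

/-- Position of a norm. -/
def nIdx (N : ℤ × ℤ) : ℕ := usedNorms.idxOf N
/-- Code of a small vector. -/
def code (q : Ico) : ℕ :=
  ((q.a0 + 4) + 16 * (q.b0 + 4) + 256 * (q.a1 + 4) + 4096 * (q.b1 + 4) + 65536 * (q.a2 + 4)
    + 1048576 * (q.b2 + 4) + 16777216 * (q.a3 + 4) + 268435456 * (q.b3 + 4)).toNat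
/-- Decoding. -/
def dec (c : ℕ) : Ico :=
  ⟨(c % 16 : ℕ) - 4, (c / 16 % 16 : ℕ) - 4, (c / 256 % 16 : ℕ) - 4, (c / 4096 % 16 : ℕ) - 4,
   (c / 65536 % 16 : ℕ) - 4, (c / 1048576 % 16 : ℕ) - 4, (c / 16777216 % 16 : ℕ) - 4, (c / 268435456 % 16 : ℕ) - 4⟩
/-- An entry of the table. -/
def entry (i j : ℕ) : ℕ := ((classTable.getD i (0, 0)).2 >>> (48 * j)) % 2 ^ 48
/-- A bucket of the table. -/
def bucket (n c : ℕ) : List Ico :=
  (List.range (classTable.getD (16 * n + c) (0, 0)).1).map fun j => dec (entry (16 * n + c) j % 2 ^ 32)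
end Cfsg.Agent.J2Table
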