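import Cfsg.Agent.Lib.J2Table
import Cfsg.Agent.Lib.J2EnumCheck

set_option autoImplicit false
set_option maxRecDepth 100000

/-! Kernel verification of the table of small icosians. -/

namespace Cfsg.Agent.J2TableWitness

open Cfsg.Agent.IcosianData Cfsg.Agent.IcosianCoords Cfsg.Agent.J2MinimalData Cfsg.Agent.J2Table
  Cfsg.Agent.J2EnumCheck

/-- A stored code points at the table entry of its norm and class. -/
def pointerOK (h : ℕ) : Bool :=
  decide (h / 4294967296 % 256 = 16 * nIdx (nrm (dec (h % 4294967296))) + key (dec (h % 4294967296))) &&
  decide (h >>> 40 < (classTable.getD (h / 4294967296 % 256) (0, 0)).1) &&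
  decide (entry (h / 4294967296 % 256) (h >>> 40) % 4294967296 = h % 4294967296)

set_option maxHeartbeats 0 in
theorem pointers_ok : ((List.range 1021).all fun c => (List.range (slot c).1).all fun k =>
    pointerOK (slotEntry (slot c).2 k)) = true := by
  decide +kernel

set_option maxHeartbeats 0 in
theorem table_witness : ((List.range 144).all fun i => (List.range (classTable.getD i (0, 0)).1).all fun j =>
    decide (entry i j / 2 ^ 32 % 128 < 120) && decide (entry i j / 2 ^ 39 < (normReps.getD (i / 16) []).length) &&
    decide (rawmul (units.getD (entry i j / 2 ^ 32 % 128) zero)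
      ((normReps.getD (i / 16) []).getD (entry i j / 2 ^ 39) zero) = smul 2 (dec (entry i j % 2 ^ 32)))) = true := by
  decide +kernel

end Cfsg.Agent.J2TableWitness
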