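import Cfsg.Agent.Lib.J2TypeCyc79
import Cfsg.Agent.Lib.TransferPow
import Cfsg.Agent.Lib.FourCentralizer

/-!
# Groups of Hall–Janko type: the centralizer of the second involution

`C(u)` has an abelian Sylow 2-subgroup `D = V × W`; the transfer into `W` has as kernel a group
`K` with Sylow 2-subgroup `V`, of order `60` or `12`.
-/

set_option autoImplicit false

namespace Cfsg.Agent.J2TypeCent79

open Subgroup Cfsg.Agent.LargeExtraspecial Cfsg.Agent.J2TypePoints79 Cfsg.Agent.J2TypeAction79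
open Cfsg.Agent.J2TypeFour79 Cfsg.Agent.J2TypeClasses79 Cfsg.Agent.J2TypeCyc79

variable {G : Type*} [Group G] [Finite G] {Q : Subgroup G} {z : G} {a : Fin 5 → G} {u u' y : G}

section

variable (C : Cyc Q z a u u' y)
include C

theorem z_ne : z ≠ 1 := C.loc.fr.ext.ne_one

theorem y_za : y * (z * a 0) * y⁻¹ = z := by
  rw [show y * (z * a 0) * y⁻¹ = (y * z * y⁻¹) * (y * a 0 * y⁻¹) by group, C.yz, C.ya, ← mul_assoc,
    C.loc.fr.comm_z (C.loc.fr.pts.mem 0), mul_assoc, C.loc.fr.pts.sq, mul_one]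

theorem y_V {v : G} (hv : v ∈ V z a) : y * v * y⁻¹ ∈ V z a := by
  rcases (mem_V C.loc).1 hv with rfl | rfl | rfl | rfl
  · simp
  · rw [C.yz]; exact a_mem_V C.loc
  · rw [C.ya]; exact mul_mem (z_mem_V C.loc) (a_mem_V C.loc)
  · rw [y_za C]; exact z_mem_V C.loc

theorem y_pow : y ^ 3 = 1 := orderOf_dvd_iff_pow_eq_one.1 (dvd_of_eq C.ord)

theorem y3 : y * y * y = 1 := by
  rw [← pow_two, ← pow_succ]; exact y_pow C

theorem u_mem_D : u ∈ D z u := (d4_mem C.loc 1).1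

theorem ztype_V {v : G} (hv : v ∈ V z a) (h1 : v ≠ 1) : IsConj z v :=
  conj_z_of_mem C.loc (V_le_Q C.loc hv) (V_sq C.loc hv) h1

/-- An element centralising `u` and one of the three involutions of `V` lies in `D`. -/
theorem centralizer_pair {v t : G} (hv : v ∈ V z a) (h1 : v ≠ 1) (htv : t * v = v * t)
    (htu : t * u = u * t) : t ∈ D z u := by
  have hvu : v * u = u * v := (mem_D.1 (V_le_D C.loc hv)).2
  obtain ⟨g, hgz, hgu⟩ := pair_conj C.loc (ztype_V C hv h1) (IsConj.refl u) hvu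
  have key : ∀ s, s * v = v * s → s * u = u * s → g⁻¹ * s * g ∈ D z u := by
    intro s hsv hsu
    rw [mem_D]
    constructor
    · calc g⁻¹ * s * g * z = g⁻¹ * (s * (g * z * g⁻¹)) * g := by group
        _ = g⁻¹ * (g * z * g⁻¹ * s) * g := by rw [hgz, hsv]
        _ = _ := by group
    · calc g⁻¹ * s * g * u = g⁻¹ * (s * (g * u * g⁻¹)) * g := by group
        _ = g⁻¹ * (g * u * g⁻¹ * s) * g := by rw [hgu, hsu]
        _ = _ := by group
  let f : ↥(D z u) → ↥(D z u) := fun s => ⟨g⁻¹ * s * g,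
    key s (D_comm C.loc s.2 (V_le_D C.loc hv)) (mem_D.1 s.2).2⟩
  have hf : Function.Injective f := fun s s' e => Subtype.ext
    (mul_left_cancel (mul_right_cancel (congrArg Subtype.val e)))
  obtain ⟨s, hs⟩ := Finite.surjective_of_injective hf ⟨g⁻¹ * t * g, key t htv htu⟩
  have e : g⁻¹ * (s : G) * g = g⁻¹ * t * g := congrArg Subtype.val hs
  exact mul_left_cancel (mul_right_cancel e) ▸ s.2

theorem y_D {t : G} (ht : t ∈ D z u) : y * t * y⁻¹ ∈ D z u := by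
  refine centralizer_pair C (a_mem_V C.loc) (C.loc.fr.pts.ne 0).1 ?_ ?_
  · rw [← C.yz]
    calc y * t * y⁻¹ * (y * z * y⁻¹) = y * (t * z) * y⁻¹ := by group
      _ = _ := by rw [(mem_D.1 ht).1]; group
  · have hc : Commute y u := C.yu
    exact (((hc.mul_left (mem_D.1 ht).2)).mul_left hc.inv_left).eq

/-- An element of `C(u)` sending `z` into `V` is an element of `D` times a power of `y`. -/
theorem norm_cases {n : G} (hn : n * u = u * n) (hz : n * z * n⁻¹ ∈ V z a) :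
    ∃ k : Fin 3, (y ^ (k : ℕ))⁻¹ * n ∈ D z u := by
  have key : ∀ k : ℕ, y ^ k * z * (y ^ k)⁻¹ = n * z * n⁻¹ → (y ^ k)⁻¹ * n ∈ D z u := by
    intro k e
    refine mem_D.2 ⟨?_, (((show Commute y u from C.yu).pow_left k).inv_left.mul_left hn).eq⟩
    calc (y ^ k)⁻¹ * n * z = (y ^ k)⁻¹ * (n * z * n⁻¹) * n := by group
      _ = _ := by rw [← e]; group
  rcases (mem_V C.loc).1 hz with e | e | e | e
  · exact absurd (conj_eq_one_iff.1 e) (z_ne C)
  · exact ⟨0, key 0 (by rw [e]; simp)⟩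
  · exact ⟨1, key 1 (by rw [e, pow_one, C.yz])⟩
  · refine ⟨2, key 2 ?_⟩
    rw [e, pow_two, show y * y * z * (y * y)⁻¹ = y * (y * z * y⁻¹) * y⁻¹ by group, C.yz, C.ya]

theorem norm_D_V {n : G} (hnD : ∀ t ∈ D z u, n * t * n⁻¹ ∈ D z u) {v : G} (hv : v ∈ V z a) :
    n * v * n⁻¹ ∈ V z a := by
  by_cases h1 : v = 1
  · subst h1; simp
  · refine (ztype_D C.loc (hnD v (V_le_D C.loc hv)) fun e => h1 (conj_eq_one_iff.1 e)).1 ?_
    exact (ztype_V C hv h1).trans (isConj_iff.2 ⟨n, rfl⟩)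

/-- `D` is a Sylow 2-subgroup of `C(u)`. -/
theorem sylow_eq {S : Subgroup G} (hS : IsPGroup 2 S) (hSu : ∀ s ∈ S, s * u = u * s)
    (hDS : D z u ≤ S) : S = D z u := by
  haveI : Fact (Nat.Prime 2) := ⟨Nat.prime_two⟩
  by_contra hne
  haveI := hS.isNilpotent
  obtain ⟨n, hn, hn'⟩ := SetLike.exists_of_lt
    (Group.normalizerCondition_of_isNilpotent (G := S) ((D z u).subgroupOf S)
      (lt_top_iff_ne_top.2 fun e => hne (le_antisymm (subgroupOf_eq_top.1 e) hDS)))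
  have hconj : ∀ t ∈ D z u, (n : G) * t * (n : G)⁻¹ ∈ D z u := fun t ht =>
    ((mem_normalizer_iff.1 hn) ⟨t, hDS ht⟩).1 ht
  obtain ⟨k, hk⟩ := norm_cases C (hSu n n.2) (norm_D_V C hconj (z_mem_V C.loc))
  have hyk : y ^ (k : ℕ) ∈ S := by
    have := S.mul_mem n.2 (S.inv_mem (hDS hk))
    rwa [mul_inv_rev, inv_inv, ← mul_assoc, mul_inv_cancel, one_mul] at this
  obtain ⟨j, hj⟩ := hS ⟨_, hyk⟩
  have h1 : y ^ (k : ℕ) = 1 := TransferPow.eq_one_of_pow_eq_one_of_coprime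
    (congrArg Subtype.val hj) (n := 3)
    (by rw [← pow_mul, mul_comm, pow_mul, y_pow C, one_pow])
    (Nat.Coprime.pow_left j (by norm_num))
  rw [h1, inv_one, one_mul] at hk
  exact hn' hk

/-! ### The map `t ↦ t * t^y * t^(y^2)` -/

/-- Product over the orbit of `y`. -/
def θ (_C : Cyc Q z a u u' y) (t : G) : G := t * (y * t * y⁻¹) * (y * (y * t * y⁻¹) * y⁻¹)

theorem coset_fixed {t : G} (ht : t ∈ D z u) : ∃ v ∈ V z a, y * t * y⁻¹ = v * t := by
  have L := C.loc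
  have hu' : ∃ v ∈ V z a, y * u' * y⁻¹ = v * u' := by
    have hmemd : u' ∈ D z u := (d4_mem L 2).1
    obtain ⟨v, hv, i, e⟩ := D_cases L (y_D C hmemd)
    fin_cases i
    · exfalso
      have hv' : y⁻¹ * v * y ∈ V z a := by
        have := y_V C (y_V C hv)
        rwa [show y * (y * v * y⁻¹) * y⁻¹ = (y * y * y) * (y⁻¹ * v * y) * (y * y * y)⁻¹ by group,
          y3 C, one_mul, inv_one, mul_one] at this
      have : u' ∈ Q := by
        rw [show u' = y⁻¹ * (y * u' * y⁻¹) * y by group, e]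
        simpa [d4] using V_le_Q L hv'
      exact absurd (L.fr.acts_eq_one L.acts' this) (by decide)
    · exfalso
      have hv' : y⁻¹ * v * y ∈ V z a := by
        have := y_V C (y_V C hv)
        rwa [show y * (y * v * y⁻¹) * y⁻¹ = (y * y * y) * (y⁻¹ * v * y) * (y * y * y)⁻¹ by group,
          y3 C, one_mul, inv_one, mul_one] at this
      have e' : u' * u = y⁻¹ * v * y := by
        calc u' * u = y⁻¹ * (y * u' * y⁻¹) * (y * u) := by group
          _ = y⁻¹ * v * (u * y) * u := by rw [e]; simp [d4]; group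
          _ = y⁻¹ * v * (y * u) * u := by rw [C.yu]
          _ = y⁻¹ * v * y := by
            rw [show y⁻¹ * v * (y * u) * u = y⁻¹ * v * y * (u * u) by group, L.sq, mul_one]
      exact absurd (L.fr.acts_eq_one (acts_mul L.fr.hJ L.fr.pts L.acts' L.acts)
        (e' ▸ V_le_Q L hv')) (by decide)
    · exact ⟨v, hv, e⟩
    · exfalso
      have e1 : y * u' * y⁻¹ = v * (u * u') := e
      set v1 := y * v * y⁻¹
      have hv1 : v1 ∈ V z a := y_V C hv
      have hyu : y * u * y⁻¹ = u := mul_inv_eq_iff_eq_mul.2 C.yu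
      have e2 : y * (y * u' * y⁻¹) * y⁻¹ = v1 * (u * (v * (u * u'))) := by
        rw [e1, show y * (v * (u * u')) * y⁻¹ = (y * v * y⁻¹) * ((y * u * y⁻¹) * (y * u' * y⁻¹)) by
          group, hyu, e1]
      have huv : u * v = v * u := (mem_D.1 (V_le_D L hv)).2.symm
      have e2' : y * (y * u' * y⁻¹) * y⁻¹ = v1 * v * u' := by
        rw [e2, show v1 * (u * (v * (u * u'))) = v1 * ((u * v) * u) * u' by group, huv,
          mul_assoc v u u, L.sq, mul_one]
      have hw : v1 * v ∈ V z a := mul_mem hv1 hv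
      have e3 : u' = (y * (v1 * v) * y⁻¹) * (v * (u * u')) := by
        calc u' = (y * y * y) * u' * (y * y * y)⁻¹ := by rw [y3 C]; simp
          _ = y * (y * (y * u' * y⁻¹) * y⁻¹) * y⁻¹ := by group
          _ = (y * (v1 * v) * y⁻¹) * (y * u' * y⁻¹) := by rw [e2']; group
          _ = _ := by rw [e1]
      have hu : u = ((y * (v1 * v) * y⁻¹) * v)⁻¹ := by
        refine eq_inv_of_mul_eq_one_right ?_
        calc y * (v1 * v) * y⁻¹ * v * u = (y * (v1 * v) * y⁻¹) * (v * (u * u')) * u'⁻¹ := by group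
          _ = 1 := by rw [← e3, mul_inv_cancel]
      exact u_notMem_Q L (hu ▸ V_le_Q L (inv_mem (mul_mem (y_V C hw) hv)))
  obtain ⟨v, hv, i, rfl⟩ := D_cases L ht
  obtain ⟨w, hw, hwe⟩ := hu'
  have hyu : y * u * y⁻¹ = u := mul_inv_eq_iff_eq_mul.2 C.yu
  have hd : ∃ w ∈ V z a, y * d4 u u' i * y⁻¹ = w * d4 u u' i := by
    fin_cases i
    · exact ⟨1, one_mem _, by simp [d4]⟩
    · exact ⟨1, one_mem _, by simpa [d4] using hyu⟩
    · exact ⟨w, hw, hwe⟩
    · refine ⟨w, hw, ?_⟩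
      show y * (u * u') * y⁻¹ = w * (u * u')
      rw [show y * (u * u') * y⁻¹ = (y * u * y⁻¹) * (y * u' * y⁻¹) by group, hyu, hwe, ← mul_assoc,
        ← (mem_D.1 (V_le_D L hw)).2, mul_assoc]
  obtain ⟨w', hw', e⟩ := hd
  refine ⟨y * v * y⁻¹ * v⁻¹ * w', mul_mem (mul_mem (y_V C hv) (inv_mem hv)) hw', ?_⟩
  have hc : Commute w' v := D_comm L (V_le_D L hw') (V_le_D L hv)
  calc y * (v * d4 u u' i) * y⁻¹ = (y * v * y⁻¹) * v⁻¹ * (v * (y * d4 u u' i * y⁻¹)) := by group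
    _ = (y * v * y⁻¹) * v⁻¹ * ((v * w') * d4 u u' i) := by rw [e]; group
    _ = _ := by rw [hc.symm.eq]; group

/-- `W = C_D(y)`. -/
def W (_C : Cyc Q z a u u' y) : Subgroup G := D z u ⊓ centralizer ({y} : Set G)

theorem mem_W {t : G} : t ∈ W C ↔ t ∈ D z u ∧ t * y = y * t := by
  rw [W, Subgroup.mem_inf, mem_centralizer_singleton_iff]

theorem W_sq {w : G} (hw : w ∈ W C) : w * w = 1 := D_sq C.loc hw.1

theorem θ_mem {t : G} (ht : t ∈ D z u) : θ C t ∈ W C := by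
  have h1 := y_D C ht
  have h2 := y_D C h1
  have hm : θ C t ∈ D z u := mul_mem (mul_mem ht h1) h2
  refine (mem_W C).2 ⟨hm, (mul_inv_eq_iff_eq_mul.1 ?_).symm⟩
  show y * (t * (y * t * y⁻¹) * (y * (y * t * y⁻¹) * y⁻¹)) * y⁻¹ = θ C t
  calc _ = (y * t * y⁻¹) * (y * (y * t * y⁻¹) * y⁻¹) * ((y * y * y) * t * (y * y * y)⁻¹) := by group
    _ = (y * t * y⁻¹) * (y * (y * t * y⁻¹) * y⁻¹) * t := by rw [y3 C]; simp
    _ = t * ((y * t * y⁻¹) * (y * (y * t * y⁻¹) * y⁻¹)) := D_comm C.loc (mul_mem h1 h2) ht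
    _ = θ C t := (mul_assoc _ _ _).symm

theorem θ_mul {s t : G} (hs : s ∈ D z u) (ht : t ∈ D z u) :
    θ C (s * t) = θ C s * θ C t := by
  have c : ∀ {p q}, p ∈ D z u → q ∈ D z u → Commute p q := fun hp hq => D_comm C.loc hp hq
  have h1 := y_D C hs
  have k1 := y_D C ht
  have hsplit : θ C (s * t) = s * t * ((y * s * y⁻¹) * (y * t * y⁻¹)) *
      ((y * (y * s * y⁻¹) * y⁻¹) * (y * (y * t * y⁻¹) * y⁻¹)) := by
    show s * t * (y * (s * t) * y⁻¹) * (y * (y * (s * t) * y⁻¹) * y⁻¹) = _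
    group
  rw [hsplit, (c ht h1).mul_mul_mul_comm s (y * t * y⁻¹),
    (c (mul_mem ht k1) (y_D C h1)).mul_mul_mul_comm (s * (y * s * y⁻¹))]
  rfl

theorem θ_one : θ C 1 = 1 := by simp [θ]

theorem θ_of_W {t : G} (ht : t ∈ W C) : θ C t = t := by
  have e : y * t * y⁻¹ = t := mul_inv_eq_iff_eq_mul.2 ((mem_W C).1 ht).2.symm
  simp [θ, e, W_sq C ht]

theorem θ_coset {t : G} (ht : t ∈ D z u) : t * θ C t ∈ V z a := by
  obtain ⟨v, hv, e⟩ := coset_fixed C ht
  have h1 : y * (y * t * y⁻¹) * y⁻¹ = (y * v * y⁻¹) * (v * t) := by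
    calc y * (y * t * y⁻¹) * y⁻¹ = y * (v * t) * y⁻¹ := by rw [e]
      _ = (y * v * y⁻¹) * (y * t * y⁻¹) := by group
      _ = _ := by rw [e]
  have hvt : t * v = v * t := D_comm C.loc ht (V_le_D C.loc hv)
  have hyv : t * (y * v * y⁻¹) = y * v * y⁻¹ * t := D_comm C.loc ht (V_le_D C.loc (y_V C hv))
  have : t * θ C t = y * v * y⁻¹ := by
    show t * (t * (y * t * y⁻¹) * (y * (y * t * y⁻¹) * y⁻¹)) = _
    rw [h1, e]
    calc t * (t * (v * t) * (y * v * y⁻¹ * (v * t)))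
        = (t * t) * v * (t * (y * v * y⁻¹)) * (v * t) := by group
      _ = v * (y * v * y⁻¹ * t) * (v * t) := by rw [D_sq C.loc ht, one_mul, hyv]
      _ = v * (y * v * y⁻¹) * (t * v) * t := by group
      _ = (v * (y * v * y⁻¹)) * v * (t * t) := by rw [hvt]; group
      _ = (y * v * y⁻¹ * v) * v := by
        rw [D_sq C.loc ht, mul_one, D_comm C.loc (V_le_D C.loc hv) (V_le_D C.loc (y_V C hv))]
      _ = y * v * y⁻¹ := by rw [mul_assoc, V_sq C.loc hv, mul_one]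
  rw [this]
  exact y_V C hv

theorem θ_eq_one {t : G} (ht : t ∈ D z u) : θ C t = 1 ↔ t ∈ V z a := by
  refine ⟨fun e => by simpa [e] using θ_coset C ht, fun hv => ?_⟩
  have hc : a 0 * z = z * a 0 := C.loc.fr.comm_z (C.loc.fr.pts.mem 0)
  rcases (mem_V C.loc).1 hv with e | e | e | e <;> rw [e]
  · exact θ_one C
  all_goals simp only [θ, C.yz, C.ya, y_za C]
  · calc z * a 0 * (z * a 0) = z * (a 0 * z) * a 0 := by group
      _ = (z * z) * (a 0 * a 0) := by rw [hc]; group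
      _ = 1 := by rw [C.loc.fr.ext.zz, C.loc.fr.pts.sq, one_mul]
  · calc a 0 * (z * a 0) * z = (a 0 * z) * (a 0 * z) := by group
      _ = z * a 0 * (a 0 * z) := by rw [hc]
      _ = z * (a 0 * a 0) * z := by group
      _ = 1 := by rw [C.loc.fr.pts.sq, mul_one, C.loc.fr.ext.zz]
  · calc z * a 0 * z * a 0 = z * (a 0 * z) * a 0 := by group
      _ = (z * z) * (a 0 * a 0) := by rw [hc]; group
      _ = 1 := by rw [C.loc.fr.ext.zz, C.loc.fr.pts.sq, one_mul]

theorem θ_conj {n : G} (hn : n * u = u * n) (hnD : ∀ t ∈ D z u, n * t * n⁻¹ ∈ D z u) {t : G}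
    (ht : t ∈ D z u) : θ C (n * t * n⁻¹) = θ C t := by
  obtain ⟨k, hk⟩ := norm_cases C hn (norm_D_V C hnD (z_mem_V C.loc))
  have e : n * t * n⁻¹ = y ^ (k : ℕ) * t * (y ^ (k : ℕ))⁻¹ := by
    set d := (y ^ (k : ℕ))⁻¹ * n
    calc n * t * n⁻¹ = y ^ (k : ℕ) * (d * t) * d⁻¹ * (y ^ (k : ℕ))⁻¹ := by
          show n * t * n⁻¹ = y ^ (k : ℕ) * (((y ^ (k : ℕ))⁻¹ * n) * t) *
            ((y ^ (k : ℕ))⁻¹ * n)⁻¹ * (y ^ (k : ℕ))⁻¹
          group
      _ = _ := by rw [D_comm C.loc hk ht]; group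
  have step : ∀ s ∈ D z u, θ C (y * s * y⁻¹) = θ C s := by
    intro s hs
    have h1 := y_D C hs
    show y * s * y⁻¹ * (y * (y * s * y⁻¹) * y⁻¹) * (y * (y * (y * s * y⁻¹) * y⁻¹) * y⁻¹) = _
    calc _ = y * s * y⁻¹ * (y * (y * s * y⁻¹) * y⁻¹) * ((y * y * y) * s * (y * y * y)⁻¹) := by group
      _ = y * s * y⁻¹ * (y * (y * s * y⁻¹) * y⁻¹) * s := by rw [y3 C]; simp
      _ = s * ((y * s * y⁻¹) * (y * (y * s * y⁻¹) * y⁻¹)) := D_comm C.loc (mul_mem h1 (y_D C h1)) hs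
      _ = θ C s := (mul_assoc _ _ _).symm
  rw [e]
  fin_cases k
  · simp
  · simpa using step t ht
  · show θ C (y ^ 2 * t * (y ^ 2)⁻¹) = θ C t
    rw [pow_two, show y * y * t * (y * y)⁻¹ = y * (y * t * y⁻¹) * y⁻¹ by group,
      step _ (y_D C ht), step t ht]

/-- `θ` as a homomorphism. -/
def θHom : ↥(D z u) →* ↥(W C) :=
  MonoidHom.mk' (fun t => ⟨θ C t, θ_mem C t.2⟩) fun s t => Subtype.ext (θ_mul C s.2 t.2)

theorem card_W : Nat.card ↥(W C) = 4 := by
  have hsurj : Function.Surjective (θHom C) := fun w =>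
    ⟨⟨w, w.2.1⟩, Subtype.ext (θ_of_W C w.2)⟩
  have hker : (θHom C).ker = (V z a).subgroupOf (D z u) := by
    ext t
    rw [MonoidHom.mem_ker, mem_subgroupOf, ← θ_eq_one C t.2]
    exact Subtype.ext_iff
  have h := card_mul_index (θHom C).ker
  rw [index_ker, MonoidHom.range_eq_top.2 hsurj, card_top, hker,
    Nat.card_congr (subgroupOfEquivOfLe (V_le_D C.loc)).toEquiv, card_V C.loc, card_D C.loc] at h
  omega

theorem u_mem_W : u ∈ W C := (mem_W C).2 ⟨u_mem_D C, C.yu.symm⟩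

/-- The kernel of the transfer and its basic properties. -/
structure Kern (K : Subgroup G) : Prop where
  le : ∀ k ∈ K, k * u = u * k
  normal : ∀ c, c * u = u * c → ∀ k ∈ K, c * k * c⁻¹ ∈ K
  inf : ∀ t ∈ D z u, t ∈ K ↔ t ∈ V z a
  ymem : y ∈ K
  decomp : ∀ c, c * u = u * c → ∃ w ∈ W C, w * c ∈ K
  card : Nat.card ↥(centralizer ({u} : Set G)) = 4 * Nat.card K

theorem exists_kern : ∃ K : Subgroup G, Kern C K := by
  classical
  haveI : Fact (Nat.Prime 2) := ⟨Nat.prime_two⟩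
  set Cu := centralizer ({u} : Set G)
  have hDC : D z u ≤ Cu := inf_le_right
  set Dc := (D z u).subgroupOf Cu
  have hD2 : IsPGroup 2 ↥(D z u) := fun t => ⟨1, by rw [pow_one, pow_two]; exact Subtype.ext (D_sq C.loc t.2)⟩
  obtain ⟨S, hS⟩ := (hD2.of_equiv (subgroupOfEquivOfLe hDC).symm).exists_le_sylow
  have hSD : (S : Subgroup Cu) = Dc := by
    refine le_antisymm (fun s hs => ?_) hS
    have := sylow_eq C (S := (S : Subgroup Cu).map Cu.subtype) (S.isPGroup'.map _)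
      (by rintro _ ⟨s, -, rfl⟩; exact mem_centralizer_singleton_iff.1 s.2)
      (fun t ht => ⟨⟨t, hDC ht⟩, hS ht, rfl⟩)
    have hm : (s : G) ∈ (S : Subgroup Cu).map Cu.subtype := ⟨s, hs, rfl⟩
    rw [this] at hm
    exact hm
  have hmem : ∀ x : Cu, x ∈ (S : Subgroup Cu) ↔ (x : G) ∈ D z u := fun x => by
    rw [hSD]; exact mem_subgroupOf
  haveI : IsMulCommutative S := ⟨⟨fun s t => Subtype.ext (Subtype.ext
    (D_comm C.loc ((hmem _).1 s.2) ((hmem _).1 t.2)))⟩⟩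
  letI : CommGroup ↥(W C) :=
    { (inferInstance : Group ↥(W C)) with
      mul_comm := fun s t => Subtype.ext (D_comm C.loc s.2.1 t.2.1) }
  let φ : Dc →* ↥(W C) := MonoidHom.mk' (fun t => ⟨θ C (t : Cu), θ_mem C t.2⟩)
    fun s t => Subtype.ext (θ_mul C s.2 t.2)
  have hodd : Odd Dc.index := by
    rw [← hSD, Nat.odd_iff]
    have := S.not_dvd_index
    omega
  have hsq : ∀ w : ↥(W C), w ^ 2 = 1 := fun w => by rw [pow_two]; exact Subtype.ext (W_sq C w.2)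
  have hT : ∀ x : Dc, MonoidHom.transfer φ (x : Cu) = φ x := by
    intro x
    rw [TransferPow.transfer_eq_pow_index φ x ?_]
    · obtain ⟨j, hj⟩ := hodd
      rw [hj, pow_succ, pow_mul, hsq, one_pow, one_mul]
    · intro k g hg
      have hx : (x : Cu) ^ k ∈ (S : Subgroup Cu) := (hmem _).2 (pow_mem x.2 k)
      obtain ⟨n, hn, e⟩ := S.conj_eq_normalizer_conj_of_mem _ g hx ((hmem _).2 hg)
      rw [← map_pow]
      refine Subtype.ext ?_
      show θ C ((g⁻¹ * (x : Cu) ^ k * g : Cu) : G) = θ C (((x ^ k : Dc) : Cu) : G)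
      rw [e]
      have hn' : ∀ t ∈ D z u, (n : G)⁻¹ * t * n ∈ D z u := fun t ht => by
        exact (hmem _).1 ((mem_normalizer_iff''.1 hn ⟨t, hDC ht⟩).1 ((hmem ⟨t, hDC ht⟩).2 ht))
      have h1 := θ_conj C (n := (n : G)⁻¹)
        ((show Commute (n : G) u from mem_centralizer_singleton_iff.1 n.2).inv_left.eq)
        (fun t ht => by rw [inv_inv]; exact hn' t ht) (t := (((x ^ k : Dc) : Cu) : G)) (x ^ k).2
      rw [inv_inv] at h1
      exact h1
  set T := MonoidHom.transfer φ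
  have hTD : ∀ (t : G) (ht : t ∈ D z u), T ⟨t, hDC ht⟩ = ⟨θ C t, θ_mem C ht⟩ := fun t ht =>
    hT ⟨⟨t, hDC ht⟩, ht⟩
  have hsurj : Function.Surjective T := fun w =>
    ⟨⟨w, hDC w.2.1⟩, (hTD w w.2.1).trans (Subtype.ext (θ_of_W C w.2))⟩
  refine ⟨T.ker.map Cu.subtype, ⟨?_, ?_, ?_, ?_, ?_, ?_⟩⟩
  · rintro _ ⟨k, -, rfl⟩
    exact mem_centralizer_singleton_iff.1 k.2
  · rintro c hc _ ⟨k, hk, rfl⟩
    let cc : Cu := ⟨c, mem_centralizer_singleton_iff.2 hc⟩
    refine ⟨cc * k * cc⁻¹, ?_, rfl⟩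
    have hk' : T k = 1 := hk
    show T (cc * k * cc⁻¹) = 1
    rw [map_mul, map_mul, hk', mul_one, map_inv, mul_inv_cancel]
  · intro t ht
    rw [← θ_eq_one C ht]
    constructor
    · rintro ⟨k, hk, rfl⟩
      have := hTD k ht
      exact congrArg Subtype.val (this.symm.trans hk)
    · intro e
      exact ⟨⟨t, hDC ht⟩, (hTD t ht).trans (Subtype.ext e), rfl⟩
  · let yc : Cu := ⟨y, mem_centralizer_singleton_iff.2 C.yu⟩
    have h3 : T yc ^ 3 = 1 := by
      rw [← map_pow, show yc ^ 3 = 1 from Subtype.ext (by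
        show y ^ 3 = 1
        rw [← C.ord, pow_orderOf_eq_one]), map_one]
    exact ⟨yc, TransferPow.eq_one_of_pow_eq_one_of_coprime (hsq _) h3 (by norm_num), rfl⟩
  · intro c hc
    let cc : Cu := ⟨c, mem_centralizer_singleton_iff.2 hc⟩
    refine ⟨T cc, (T cc).2, ⟨(T cc : G), hDC (T cc).2.1⟩ * cc, ?_, rfl⟩
    rw [SetLike.mem_coe, MonoidHom.mem_ker, map_mul, hTD _ (T cc).2.1,
      show (⟨θ C (T cc : G), θ_mem C (T cc).2.1⟩ : ↥(W C)) = T cc from
        Subtype.ext (θ_of_W C (T cc).2), ← pow_two, hsq]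
  · rw [card_map_of_injective Cu.subtype_injective, ← card_mul_index T.ker, index_ker,
      MonoidHom.range_eq_top.2 hsurj, card_top, card_W C, mul_comm]

end

end Cfsg.Agent.J2TypeCent79
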