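import Cfsg.Agent.Lib.J2TypeFour79

/-!
# Groups of Hall–Janko type: the two classes of involutions

The involutions of `C(z)` outside `Q` are conjugate in `C(z)`, the centralizer of one of them in
`C(z)` is elementary abelian of order `16`, and there are exactly two classes of involutions.
-/

set_option autoImplicit false

namespace Cfsg.Agent.J2TypeClasses79

open Subgroup Cfsg.Agent.LargeExtraspecial Cfsg.Agent.J2TypePoints79 Cfsg.Agent.J2TypeAction79
open Cfsg.Agent.J2TypeFour79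

variable {G : Type*} [Group G] [Finite G] {Q : Subgroup G} {z : G} {a : Fin 5 → G} {u u' : G}

/-- The four-group `{1, z, a 0, z * a 0}`. -/
def V (z : G) (a : Fin 5 → G) : Subgroup G := closure ({z, a 0} : Set G)

/-- `C(z) ⊓ C(u)`. -/
def D (z u : G) : Subgroup G := centralizer ({z} : Set G) ⊓ centralizer ({u} : Set G)

theorem mem_D {t : G} : t ∈ D z u ↔ t * z = z * t ∧ t * u = u * t := by
  rw [D, Subgroup.mem_inf, mem_centralizer_singleton_iff, mem_centralizer_singleton_iff]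

/-- Representatives of `D / V`. -/
def d4 (u u' : G) : Fin 4 → G := ![1, u, u', u * u']

/-- Their permutations. -/
def p4 : Fin 4 → Equiv.Perm (Fin 5) := ![1, σ0, σ1, σ0 * σ1]

set_option maxRecDepth 100000 in
theorem cent_σ0 : ∀ σ : Equiv.Perm (Fin 5), Equiv.Perm.sign σ = 1 → σ * σ0 = σ0 * σ →
    ∃ i, p4 i = σ := by decide +kernel

set_option maxRecDepth 100000 in
theorem conj_σ0 : ∀ σ : Equiv.Perm (Fin 5), Equiv.Perm.sign σ = 1 → σ * σ = 1 → σ ≠ 1 →
    ∃ τ : Equiv.Perm (Fin 5), Equiv.Perm.sign τ = 1 ∧ τ * σ0 * τ⁻¹ = σ := by decide +kernel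

section

variable (L : Loc Q z a u u')
include L

theorem invu : u⁻¹ = u := inv_eq_of_mul_eq_one_right L.sq

theorem uz : u * z = z * u := L.acts.1

theorem mem_V {v : G} : v ∈ V z a ↔ v = 1 ∨ v = z ∨ v = a 0 ∨ v = z * a 0 := by
  have hc : a 0 * z = z * a 0 := L.fr.comm_z (L.fr.pts.mem 0)
  have hzz := L.fr.ext.zz
  have haa := L.fr.pts.sq 0
  constructor
  · intro hv
    induction hv using closure_induction with
    | mem x hx =>
      rcases hx with rfl | rfl
      exacts [Or.inr (Or.inl rfl), Or.inr (Or.inr (Or.inl rfl))]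
    | one => exact Or.inl rfl
    | mul x y _ _ ihx ihy =>
      have e1 : z * (z * a 0) = a 0 := L.fr.ext.z_mul_z_mul _
      have e2 : a 0 * (z * a 0) = z := by rw [← mul_assoc, hc, mul_assoc, haa, mul_one]
      have e3 : z * a 0 * z = a 0 := by rw [mul_assoc, hc, e1]
      have e4 : z * a 0 * a 0 = z := by rw [mul_assoc, haa, mul_one]
      have e5 : z * a 0 * (z * a 0) = 1 := by rw [← mul_assoc, e3, haa]
      rcases ihx with e | e | e | e <;> rcases ihy with f | f | f | f <;> rw [e, f] <;>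
        simp [hzz, haa, hc, e1, e2, e3, e4, e5]
    | inv x _ ih =>
      have e1 : z⁻¹ = z := L.fr.ext.inv_z
      have e2 : (a 0)⁻¹ = a 0 := L.fr.pts.inv_self 0
      rcases ih with rfl | rfl | rfl | rfl <;> simp [e1, e2, hc]
  · rintro (rfl | rfl | rfl | rfl)
    exacts [one_mem _, subset_closure (by simp), subset_closure (by simp),
      mul_mem (subset_closure (by simp)) (subset_closure (by simp))]

theorem z_mem_V : z ∈ V z a := (mem_V L).2 (Or.inr (Or.inl rfl))

theorem a_mem_V : a 0 ∈ V z a := (mem_V L).2 (Or.inr (Or.inr (Or.inl rfl)))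

theorem V_le_Q : V z a ≤ Q := by
  refine (closure_le _).2 ?_
  rintro x (rfl | rfl)
  exacts [L.fr.hJ.l.mem, L.fr.pts.mem 0]

theorem V_sq {v : G} (hv : v ∈ V z a) : v * v = 1 := by
  rcases (mem_V L).1 hv with rfl | rfl | rfl | rfl
  · simp
  · exact L.fr.ext.zz
  · exact L.fr.pts.sq 0
  · rw [← mul_assoc, mul_assoc z, L.fr.comm_z (L.fr.pts.mem 0), L.fr.ext.z_mul_z_mul, L.fr.pts.sq]

theorem comm_V {t : G} (hz : t * z = z * t) (ha : t * a 0 = a 0 * t) {v : G} (hv : v ∈ V z a) :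
    t * v = v * t := by
  have : V z a ≤ centralizer ({t} : Set G) := by
    refine (closure_le _).2 ?_
    rintro x (rfl | rfl)
    exacts [mem_centralizer_singleton_iff.2 hz.symm, mem_centralizer_singleton_iff.2 ha.symm]
  exact (mem_centralizer_singleton_iff.1 (this hv)).symm

theorem card_V : Nat.card ↥(V z a) = 4 := by
  classical
  haveI := Fintype.ofFinite G
  have h1 : z ≠ 1 := L.fr.ext.ne_one
  obtain ⟨h2, h3⟩ := L.fr.pts.ne 0
  have h4 : z * a 0 ≠ 1 := fun e => h3 (by rw [eq_inv_of_mul_eq_one_right e, L.fr.ext.inv_z])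
  have h5 : z * a 0 ≠ z := fun e => h2 (mul_eq_left.1 e)
  have h6 : z * a 0 ≠ a 0 := L.fr.ext.z_mul_ne _
  rw [Nat.card_eq_fintype_card, Fintype.card_of_subtype ({1, z, a 0, z * a 0} : Finset G)
    (fun x => by simp [mem_V L])]
  simp [Finset.card_insert_of_notMem, h1.symm, h2.symm, h3.symm, h4.symm, h5.symm, h6.symm]

theorem acts_d4 (i : Fin 4) : Acts z a (d4 u u' i) (p4 i) := by
  fin_cases i
  · exact acts_one L.fr.hJ L.fr.pts
  · exact L.acts
  · exact L.acts'
  · exact acts_mul L.fr.hJ L.fr.pts L.acts L.acts'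

theorem d4_mem (i : Fin 4) : d4 u u' i ∈ D z u ∧ d4 u u' i * a 0 = a 0 * d4 u u' i := by
  refine ⟨mem_D.2 ⟨(acts_d4 L i).1, ?_⟩, ?_⟩
  · fin_cases i
    · simp [d4]
    · rfl
    · exact L.comm.symm
    · show u * u' * u = u * (u * u')
      rw [mul_assoc, ← L.comm]
  · fin_cases i
    · simp [d4]
    · exact L.fix
    · exact L.fix'
    · exact ((show Commute u (a 0) from L.fix).mul_left L.fix').eq

theorem flip12 : u * (a 1 * a 2) * u⁻¹ = z * (a 1 * a 2) :=
  L.fr.flip L.acts (by decide) (by decide) L.sq (by simp)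

theorem flip34 : u * (a 3 * a 4) * u⁻¹ = z * (a 3 * a 4) :=
  L.fr.flip L.acts (by decide) (by decide) L.sq (by simp)

/-- `C_Q(u) = V`. -/
theorem cent_Q {y : G} (hy : y ∈ Q) (hyu : y * u = u * y) : y ∈ V z a := by
  have F := L.fr
  obtain ⟨v, hv⟩ := exists_sig F.hJ F.pts hy
  have h1 := sig_conj F.hJ F.pts L.acts hv (F.comm_z hy)
  rw [mul_inv_eq_iff_eq_mul.2 hyu.symm] at h1
  have h3 := sig_unique F.hJ F.pts h1 hv
  have key : ∀ v : W, (∀ r, wsig v (σ0.symm r) = wsig v r) → v = none ∨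
      v = some ⟨(0, 0), le_rfl⟩ ∨ v = some ⟨(1, 2), by decide⟩ ∨ v = some ⟨(3, 4), by decide⟩ := by
    decide +kernel
  rw [mem_V L]
  have bad : ∀ w : G, w ∈ Q → u * w * u⁻¹ = z * w → (y = w ∨ y = z * w) → False := by
    intro w hw hf hyw
    have hfy : u * y * u⁻¹ = y := mul_inv_eq_iff_eq_mul.2 hyu.symm
    rcases hyw with rfl | rfl
    · exact F.ext.z_mul_ne _ (hf.symm.trans hfy)
    · rw [← mul_assoc u z, uz L, mul_assoc z u, mul_assoc z (u * w), hf] at hfy
      exact F.ext.z_mul_ne _ (mul_left_cancel hfy)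
  rcases key v (congrFun h3) with rfl | rfl | rfl | rfl
  · rcases eq_word F.hJ F.pts hy hv with e | e
    · exact Or.inl (by simpa [word] using e)
    · exact Or.inr (Or.inl (by simpa [word] using e))
  · rcases eq_word F.hJ F.pts hy hv with e | e
    · exact Or.inr (Or.inr (Or.inl (by simpa [word] using e)))
    · exact Or.inr (Or.inr (Or.inr (by simpa [word] using e)))
  · exact (bad _ (Q.mul_mem (F.pts.mem 1) (F.pts.mem 2)) (flip12 L)
      (by simpa [word] using eq_word F.hJ F.pts hy hv)).elim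
  · exact (bad _ (Q.mul_mem (F.pts.mem 3) (F.pts.mem 4)) (flip34 L)
      (by simpa [word] using eq_word F.hJ F.pts hy hv)).elim

theorem D_cases {t : G} (ht : t ∈ D z u) : ∃ v ∈ V z a, ∃ i, t = v * d4 u u' i := by
  have F := L.fr
  obtain ⟨hz, hu⟩ := mem_D.1 ht
  obtain ⟨σ, hσ⟩ := exists_acts F.hJ F.pts hz
  have hcomm : σ * σ0 = σ0 * σ := by
    refine acts_unique F.hJ F.pts (acts_mul F.hJ F.pts hσ L.acts) ?_
    rw [hu]
    exact acts_mul F.hJ F.pts L.acts hσ
  obtain ⟨i, rfl⟩ := cent_σ0 σ (F.even hσ) hcomm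
  refine ⟨t * (d4 u u' i)⁻¹, ?_, i, by group⟩
  refine cent_Q L (F.mem_Q ?_) ?_
  · simpa using acts_mul F.hJ F.pts hσ (acts_inv F.hJ F.pts (acts_d4 L i))
  · exact ((show Commute t u from hu).mul_left
      (show Commute (d4 u u' i) u from (mem_D.1 (d4_mem L i).1).2).inv_left).eq

theorem V_le_D : V z a ≤ D z u := fun v hv => mem_D.2
  ⟨L.fr.comm_z (V_le_Q L hv), (comm_V L (uz L) L.fix hv).symm⟩

theorem D_cent_V {t : G} (ht : t ∈ D z u) : t * a 0 = a 0 * t := by
  obtain ⟨v, hv, i, rfl⟩ := D_cases L ht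
  have : Commute v (a 0) :=
    (comm_V L (L.fr.comm_z (L.fr.pts.mem 0)) rfl hv).symm
  exact (this.mul_left (d4_mem L i).2).eq

theorem d4_sq (i : Fin 4) : d4 u u' i * d4 u u' i = 1 := by
  fin_cases i
  · simp [d4]
  · exact L.sq
  · exact L.sq'
  · show u * u' * (u * u') = 1
    rw [show u * u' * (u * u') = u * (u' * u) * u' by group, ← L.comm,
      show u * (u * u') * u' = (u * u) * (u' * u') by group, L.sq, L.sq', one_mul]

theorem d4_comm (i j : Fin 4) : d4 u u' i * d4 u u' j = d4 u u' j * d4 u u' i := by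
  have c : Commute u u' := L.comm
  fin_cases i <;> fin_cases j <;>
    first
      | rfl
      | exact c.eq
      | exact c.symm.eq
      | exact ((Commute.refl u).mul_right c).eq
      | exact ((Commute.refl u).mul_right c).symm.eq
      | exact (c.symm.mul_right (Commute.refl u')).eq
      | exact (c.symm.mul_right (Commute.refl u')).symm.eq
      | simp [d4]

theorem D_comm {s t : G} (hs : s ∈ D z u) (ht : t ∈ D z u) : s * t = t * s := by
  obtain ⟨v, hv, i, rfl⟩ := D_cases L hs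
  obtain ⟨w, hw, j, rfl⟩ := D_cases L ht
  have hw' : Commute (d4 u u' i) w := comm_V L (acts_d4 L i).1 (d4_mem L i).2 hw
  have hv' : Commute (d4 u u' j) v := comm_V L (acts_d4 L j).1 (d4_mem L j).2 hv
  have hvw : Commute v w :=
    comm_V L (L.fr.comm_z (V_le_Q L hv)) (comm_V L (L.fr.comm_z (L.fr.pts.mem 0)) rfl hv).symm hw
  exact ((hvw.mul_right hv'.symm).mul_left (hw'.mul_right (d4_comm L i j))).eq

theorem D_sq {t : G} (ht : t ∈ D z u) : t * t = 1 := by
  obtain ⟨v, hv, i, rfl⟩ := D_cases L ht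
  have hv' : Commute (d4 u u' i) v := comm_V L (acts_d4 L i).1 (d4_mem L i).2 hv
  rw [mul_assoc v, ← mul_assoc (d4 u u' i) v, hv'.eq, mul_assoc v, d4_sq L i, mul_one, V_sq L hv]

theorem card_D : Nat.card ↥(D z u) = 16 := by
  let f : ↥(V z a) × Fin 4 → ↥(D z u) := fun p =>
    ⟨(p.1 : G) * d4 u u' p.2, mul_mem (V_le_D L p.1.2) (d4_mem L p.2).1⟩
  have hf : Function.Bijective f := by
    constructor
    · rintro ⟨v, i⟩ ⟨w, j⟩ e
      have e' : (v : G) * d4 u u' i = w * d4 u u' j := congrArg Subtype.val e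
      have h1 := acts_mul L.fr.hJ L.fr.pts (acts_of_mem L.fr.hJ L.fr.pts (V_le_Q L v.2)) (acts_d4 L i)
      rw [e'] at h1
      have h2 := acts_unique L.fr.hJ L.fr.pts h1 (acts_mul L.fr.hJ L.fr.pts
        (acts_of_mem L.fr.hJ L.fr.pts (V_le_Q L w.2)) (acts_d4 L j))
      obtain rfl : i = j := (by decide : Function.Injective p4) (by simpa using h2)
      rw [Subtype.ext (mul_right_cancel e')]
    · rintro ⟨t, ht⟩
      obtain ⟨v, hv, i, rfl⟩ := D_cases L ht
      exact ⟨(⟨v, hv⟩, i), rfl⟩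
  rw [← Nat.card_eq_of_bijective f hf, Nat.card_prod, card_V L, Nat.card_fin]

theorem u_notMem_Q : u ∉ Q := fun h => absurd (L.fr.acts_eq_one L.acts h) (by decide)

theorem mem_Q_D {t : G} (ht : t ∈ D z u) (hQ : t ∈ Q) : t ∈ V z a :=
  cent_Q L hQ (mem_D.1 ht).2

/-- The involutions acting as `(12)(34)` are conjugates of `u` under eight elements of `Q`. -/
theorem orbit_rep {t : G} (ht : t * t = 1) (hσ : Acts z a t σ0) :
    ∃ (i : Fin 4) (b : Bool), t = (![1, a 1, a 3, a 1 * a 3] i * (if b then a 1 * a 2 else 1)) * u *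
      (![1, a 1, a 3, a 1 * a 3] i * (if b then a 1 * a 2 else 1))⁻¹ := by
  have F := L.fr
  have hy : u * t ∈ Q := by
    refine F.mem_Q ?_
    simpa [show σ0 * σ0 = 1 by decide] using acts_mul F.hJ F.pts L.acts hσ
  set y := u * t with hyd
  have htuy : t = u * y := by rw [hyd, ← mul_assoc, L.sq, one_mul]
  obtain ⟨v, hv⟩ := exists_sig F.hJ F.pts hy
  have hconj : u * y * u⁻¹ = y⁻¹ := by
    refine eq_inv_of_mul_eq_one_left ?_
    rw [invu L, ← htuy, hyd, show t * u * (u * t) = t * (u * u) * t by group, L.sq, mul_one, ht]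
  have h1 := sig_conj F.hJ F.pts L.acts hv (F.comm_z hy)
  have hsinv : Sig z a y⁻¹ (wsig v) := by
    have e : y⁻¹ = y ∨ y⁻¹ = z * y := by
      rcases F.ext.sq y hy with e | e
      · exact Or.inl (inv_eq_of_mul_eq_one_right e)
      · refine Or.inr (inv_eq_of_mul_eq_one_right ?_)
        rw [← mul_assoc, F.comm_z hy, mul_assoc, e, F.ext.zz]
    rcases e with e | e <;> rw [e]
    · exact hv
    · simpa using sig_mul F.hJ F.pts (sig_z F.hJ F.pts) hv rfl
  rw [hconj] at h1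
  have h3 := sig_unique F.hJ F.pts h1 hsinv
  let qs : Fin 4 → G := ![1, a 1, a 3, a 1 * a 3]
  let ws : Fin 4 → Fin 5 → Bool := ![fun _ => false, fun r => decide (r ≠ 1),
    fun r => decide (r ≠ 3), fun r => xor (decide (r ≠ 1)) (decide (r ≠ 3))]
  have hqs : ∀ i, qs i ∈ Q ∧ Sig z a (qs i) (ws i) := by
    intro i
    fin_cases i
    · exact ⟨Q.one_mem, sig_one F.hJ F.pts⟩
    · exact ⟨F.pts.mem 1, sig_point F.hJ F.pts 1⟩
    · exact ⟨F.pts.mem 3, sig_point F.hJ F.pts 3⟩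
    · exact ⟨Q.mul_mem (F.pts.mem 1) (F.pts.mem 3),
        sig_mul F.hJ F.pts (sig_point F.hJ F.pts 1) (sig_point F.hJ F.pts 3) (F.comm_z (F.pts.mem 1))⟩
  have hinv : ∀ x ∈ Q, ∀ s, Sig z a x s → Sig z a x⁻¹ s := by
    intro x hx s hs
    rcases F.ext.sq x hx with e | e
    · rwa [inv_eq_of_mul_eq_one_right e]
    · have e' : x⁻¹ = z * x := inv_eq_of_mul_eq_one_right
        (by rw [← mul_assoc, F.comm_z hx, mul_assoc, e, F.ext.zz])
      rw [e']
      simpa using sig_mul F.hJ F.pts (sig_z F.hJ F.pts) hs rfl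
  have key : ∀ v : W, (∀ r, wsig v (σ0.symm r) = wsig v r) → ∃ i : Fin 4,
      (fun r => xor ((![fun _ => false, fun r => decide (r ≠ 1), fun r => decide (r ≠ 3),
        fun r => xor (decide (r ≠ 1)) (decide (r ≠ 3))] : Fin 4 → Fin 5 → Bool) i (σ0.symm r))
        ((![fun _ => false, fun r => decide (r ≠ 1), fun r => decide (r ≠ 3),
        fun r => xor (decide (r ≠ 1)) (decide (r ≠ 3))] : Fin 4 → Fin 5 → Bool) i r)) = wsig v := by
    decide +kernel
  obtain ⟨i, hi⟩ := key v (congrFun h3)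
  obtain ⟨hqQ, hqs'⟩ := hqs i
  set q := qs i
  set δ := u * q * u⁻¹ * q⁻¹ with hδd
  have huq : u * q * u⁻¹ ∈ Q := F.hJ.l.norm u (uz L) q hqQ
  have hδs : Sig z a δ (wsig v) := by
    rw [← hi]
    exact sig_mul F.hJ F.pts (sig_conj F.hJ F.pts L.acts hqs' (F.comm_z hqQ)) (hinv q hqQ _ hqs')
      (F.comm_z huq)
  have hqu : q * u * q⁻¹ = u * δ := by
    rw [hδd, invu L, show u * (u * q * u * q⁻¹) = (u * u) * (q * u * q⁻¹) by group, L.sq, one_mul]
  rcases same_of_sig F.hJ F.pts hy (Q.mul_mem huq (Q.inv_mem hqQ)) hv hδs with e | e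
  · refine ⟨i, false, ?_⟩
    show t = q * 1 * u * (q * 1)⁻¹
    rw [mul_one, hqu, htuy, e]
  · refine ⟨i, true, ?_⟩
    show t = q * (a 1 * a 2) * u * (q * (a 1 * a 2))⁻¹
    set p := a 1 * a 2
    have hp : p * u * p⁻¹ = z * u := by
      have h0 : u * p * u⁻¹ = z * p := flip12 L
      calc p * u * p⁻¹ = u * (u⁻¹ * p * u) * p⁻¹ := by group
        _ = u * (u * p * u⁻¹) * p⁻¹ := by rw [invu L]
        _ = (u * z) := by rw [h0]; group
        _ = z * u := uz L
    rw [show q * p * u * (q * p)⁻¹ = q * (p * u * p⁻¹) * q⁻¹ by group, hp,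
      show q * (z * u) * q⁻¹ = (q * z) * u * q⁻¹ by group, F.comm_z hqQ,
      show z * q * u * q⁻¹ = z * (q * u * q⁻¹) by group, hqu, htuy, e, ← mul_assoc z u,
      ← uz L, mul_assoc u z]

/-- All involutions of `C(z)` outside `Q` are conjugate in `C(z)`. -/
theorem invol_conj {t : G} (hz : t * z = z * t) (ht : t * t = 1) (hQ : t ∉ Q) :
    ∃ h, h * z = z * h ∧ t = h * u * h⁻¹ := by
  have F := L.fr
  obtain ⟨σ, hσ⟩ := exists_acts F.hJ F.pts hz
  have h2 : σ * σ = 1 :=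
    F.acts_eq_one (acts_mul F.hJ F.pts hσ hσ) (by rw [ht]; exact Q.one_mem)
  have h1 : σ ≠ 1 := fun e => hQ (F.mem_Q (e ▸ hσ))
  obtain ⟨τ, hτ, e⟩ := conj_σ0 σ (F.even hσ) h2 h1
  obtain ⟨g, hg⟩ := F.lift hτ
  have hg' := acts_conj F.hJ F.pts (acts_inv F.hJ F.pts hg) hσ
  rw [inv_inv, inv_inv, ← e, show τ⁻¹ * (τ * σ0 * τ⁻¹) * τ = σ0 by group] at hg'
  obtain ⟨i, b, hr⟩ := orbit_rep L (t := g⁻¹ * t * g)
    (by rw [show g⁻¹ * t * g * (g⁻¹ * t * g) = g⁻¹ * (t * t) * g by group, ht]; group) hg'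
  set q := ![1, a 1, a 3, a 1 * a 3] i * (if b then a 1 * a 2 else 1)
  have hq : q ∈ Q := Q.mul_mem (by
      fin_cases i
      exacts [Q.one_mem, F.pts.mem 1, F.pts.mem 3, Q.mul_mem (F.pts.mem 1) (F.pts.mem 3)])
    (by split_ifs; exacts [Q.mul_mem (F.pts.mem 1) (F.pts.mem 2), Q.one_mem])
  refine ⟨g * q, ((show Commute g z from hg.1).mul_left (F.comm_z hq)).eq, ?_⟩
  calc t = g * (g⁻¹ * t * g) * g⁻¹ := by group
    _ = g * q * u * (g * q)⁻¹ := by rw [hr]; group

theorem conj_z_of_mem {x : G} (hx : x ∈ Q) (hxx : x * x = 1) (h1 : x ≠ 1) : IsConj z x := by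
  have F := L.fr
  rcases F.pts.inv_cases x hx hxx with e | e | ⟨p, e | e⟩
  · exact absurd e h1
  · rw [e]
  · rw [e]; exact F.pts.conj p
  · rw [e]
    exact (F.pts.conj p).trans (isConj_iff.2
      ⟨a (p + 1), F.pts.anti _ _ ((by decide : ∀ p : Fin 5, p + 1 ≠ p) p)⟩)

theorem H_conj_z {t : G} (hz : t * z = z * t) (ht : t * t = 1) (h1 : t ≠ 1) :
    (t ∈ Q → IsConj z t) ∧ (t ∉ Q → IsConj u t) :=
  ⟨fun h => conj_z_of_mem L h ht h1, fun h => by
    obtain ⟨g, -, e⟩ := invol_conj L hz ht h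
    exact isConj_iff.2 ⟨g, e.symm⟩⟩

/-- A Sylow 2-subgroup of `C(z)` is one of `G`. -/
theorem exists_sylow : ∃ S : Sylow 2 G, Nat.card S = 128 ∧
    (S : Subgroup G) ≤ centralizer ({z} : Set G) := by
  haveI : Fact (Nat.Prime 2) := ⟨Nat.prime_two⟩
  have F := L.fr
  set H := centralizer ({z} : Set G)
  obtain ⟨S₀⟩ : Nonempty (Sylow 2 ↥H) := inferInstance
  have hc : Nat.card S₀ = 128 := by
    rw [S₀.card_eq_multiplicity, card_H F.hJ,
      Nat.factorization_def _ Nat.prime_two, show (1920 : ℕ) = 2 ^ 7 * 15 by norm_num,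
      padicValNat.mul (by norm_num) (by norm_num), padicValNat.prime_pow,
      padicValNat.eq_zero_of_not_dvd (by norm_num)]
    norm_num
  set T := (S₀ : Subgroup H).map H.subtype
  have hT : Nat.card T = 128 := by rw [card_map_of_injective H.subtype_injective, hc]
  have hQT : Q ≤ T := by
    intro x hx
    haveI : (Q.subgroupOf H).Normal := ⟨fun y hy g =>
      F.hJ.l.norm g (mem_H.1 g.2) y hy⟩
    have hp : IsPGroup 2 ↥(Q.subgroupOf H) := fun y =>
      ⟨2, Subtype.ext (Subtype.ext (F.ext.pow_four y.2))⟩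
    exact ⟨⟨x, Q_le_H F.hJ hx⟩, hp.le_sylow_of_normal S₀ hx, rfl⟩
  have hTp : IsPGroup 2 T := IsPGroup.of_card (n := 7) (by rw [hT]; rfl)
  obtain ⟨S, hS⟩ := hTp.exists_le_sylow
  refine ⟨S, ?_, ?_⟩
  all_goals
    have hST : (S : Subgroup G) = T := by
      by_contra hne
      haveI : Finite S := inferInstance
      have hlt : T.subgroupOf (S : Subgroup G) < ⊤ := lt_top_iff_ne_top.2 fun e =>
        hne (le_antisymm (subgroupOf_eq_top.1 e) hS)
      haveI := S.isPGroup'.isNilpotent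
      obtain ⟨n, hn, hn'⟩ := SetLike.exists_of_lt
        (Group.normalizerCondition_of_isNilpotent (G := (S : Subgroup G)) _ hlt)
      have hconj : ∀ x ∈ T, (n : G) * x * (n : G)⁻¹ ∈ T := fun x hx =>
        ((mem_normalizer_iff.1 hn) ⟨x, hS hx⟩).1 hx
      have hnz : (n : G) * z = z * n := by
        have hzT : z ∈ T := hQT F.hJ.l.mem
        have hnz' := hconj z hzT
        have hcen : ∀ y ∈ Q, (n : G) * z * (n : G)⁻¹ * y = y * ((n : G) * z * (n : G)⁻¹) := by
          intro y hy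
          have hyn : (n : G)⁻¹ * y * n ∈ T := by
            have := ((mem_normalizer_iff''.1 hn) ⟨y, hS (hQT hy)⟩).1 (hQT hy)
            exact this
          have hcz := mem_H.1 ((map_subtype_le _) hyn)
          calc (n : G) * z * (n : G)⁻¹ * y = n * (z * ((n : G)⁻¹ * y * n)) * (n : G)⁻¹ := by group
            _ = n * (((n : G)⁻¹ * y * n) * z) * (n : G)⁻¹ := by rw [hcz]
            _ = _ := by group
        rcases F.hJ.l.cent _ hcen with e | e
        · exact absurd (conj_eq_one_iff.1 e) F.ext.ne_one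
        · exact mul_inv_eq_iff_eq_mul.1 e
      have hle : T ⊔ zpowers (n : G) ≤ (S : Subgroup G) ⊓ H :=
        sup_le (le_inf hS (map_subtype_le _))
          (zpowers_le.2 ⟨n.2, mem_H.2 hnz⟩)
      have hp2 : IsPGroup 2 ↥(((S : Subgroup G) ⊓ H).subgroupOf H) :=
        (S.isPGroup'.to_le inf_le_left).of_equiv (subgroupOfEquivOfLe inf_le_right).symm
      have : S₀ = ((S : Subgroup G) ⊓ H).subgroupOf H := by
        refine (S₀.is_maximal' hp2 ?_).symm
        intro x hx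
        exact ⟨hS ⟨x, hx, rfl⟩, x.2⟩
      refine hn' ?_
      show (n : G) ∈ T
      have hmem : (⟨n, mem_H.2 hnz⟩ : H) ∈ (S₀ : Subgroup H) := by
        rw [this]
        exact ⟨n.2, mem_H.2 hnz⟩
      exact ⟨_, hmem, rfl⟩
  · rw [show Nat.card S = Nat.card T by rw [← hST], hT]
  · rw [hST]; exact map_subtype_le _

theorem u_ne_one : u ≠ 1 := fun e => u_notMem_Q L (e ▸ Q.one_mem)

theorem orderOf_u : orderOf u = 2 := orderOf_eq_prime (by rw [pow_two]; exact L.sq) (u_ne_one L)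

/-- Every involution is conjugate to `z` or to `u`. -/
theorem conj_cases {t : G} (ht : orderOf t = 2) : IsConj z t ∨ IsConj u t := by
  haveI : Fact (Nat.Prime 2) := ⟨Nat.prime_two⟩
  obtain ⟨S, -, hS⟩ := exists_sylow L
  have hp : IsPGroup 2 ↥(zpowers t) := IsPGroup.of_card (n := 1) (by
    rw [Nat.card_zpowers, ht, pow_one])
  obtain ⟨S', hS'⟩ := hp.exists_le_sylow
  obtain ⟨g, rfl⟩ := MulAction.exists_smul_eq G S S'
  have hm : t ∈ ((g • S : Sylow 2 G) : Subgroup G) := hS' (mem_zpowers t)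
  rw [Sylow.coe_subgroup_smul, Subgroup.mem_pointwise_smul_iff_inv_smul_mem] at hm
  have e : (MulAut.conj g)⁻¹ • t = g⁻¹ * t * g := by
    rw [← map_inv, MulAut.smul_def, MulAut.conj_apply, inv_inv]
  rw [e] at hm
  have ht2 : t * t = 1 := by rw [← pow_two, ← ht]; exact pow_orderOf_eq_one t
  have h1 : g⁻¹ * t * g ≠ 1 := fun e => by
    have : t = 1 := by
      calc t = g * (g⁻¹ * t * g) * g⁻¹ := by group
        _ = 1 := by rw [e]; group
    rw [this, orderOf_one] at ht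
    omega
  have hc := H_conj_z L (mem_H.1 (hS hm))
    (by rw [show g⁻¹ * t * g * (g⁻¹ * t * g) = g⁻¹ * (t * t) * g by group, ht2]; group) h1
  have hgt : IsConj (g⁻¹ * t * g) t := isConj_iff.2 ⟨g, by group⟩
  by_cases hQ : g⁻¹ * t * g ∈ Q
  · exact Or.inl ((hc.1 hQ).trans hgt)
  · exact Or.inr ((hc.2 hQ).trans hgt)

theorem not_conj : ¬ IsConj z u := by
  intro h
  obtain ⟨x, y, hx, hy, hne⟩ := L.fr.hJ.two
  have all : ∀ t : G, orderOf t = 2 → IsConj z t := fun t ht =>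
    (conj_cases L ht).elim id fun e => h.trans e
  exact hne ((all x hx).symm.trans (all y hy))

theorem ztype_iff {t : G} (hz : t * z = z * t) (ht : t * t = 1) (h1 : t ≠ 1) :
    IsConj z t ↔ t ∈ Q :=
  ⟨fun h => by_contra fun hQ => not_conj L (h.trans ((H_conj_z L hz ht h1).2 hQ).symm),
    (H_conj_z L hz ht h1).1⟩

/-- Commuting pairs consisting of a conjugate of `z` and one of `u` form one orbit. -/
theorem pair_conj {v t : G} (hv : IsConj z v) (ht : IsConj u t) (h : v * t = t * v) :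
    ∃ g, g * z * g⁻¹ = v ∧ g * u * g⁻¹ = t := by
  obtain ⟨g, rfl⟩ := isConj_iff.1 hv
  have hz : g⁻¹ * t * g * z = z * (g⁻¹ * t * g) := by
    calc g⁻¹ * t * g * z = g⁻¹ * (t * (g * z * g⁻¹)) * g := by group
      _ = g⁻¹ * (g * z * g⁻¹ * t) * g := by rw [h]
      _ = _ := by group
  have ht2 : t * t = 1 := by
    obtain ⟨k, rfl⟩ := isConj_iff.1 ht
    rw [show k * u * k⁻¹ * (k * u * k⁻¹) = k * (u * u) * k⁻¹ by group, L.sq]; group
  have hQ : g⁻¹ * t * g ∉ Q := fun hQ => by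
    have h1 : g⁻¹ * t * g ≠ 1 := fun e => by
      obtain ⟨k, rfl⟩ := isConj_iff.1 ht
      refine u_ne_one L (conj_eq_one_iff (a := g⁻¹ * k).1 ?_)
      rw [← e]; group
    refine not_conj L (((ztype_iff L hz ?_ h1).2 hQ).trans ?_)
    · rw [show g⁻¹ * t * g * (g⁻¹ * t * g) = g⁻¹ * (t * t) * g by group, ht2]; group
    · exact (isConj_iff.2 ⟨g, by group⟩ : IsConj (g⁻¹ * t * g) t).trans ht.symm
  obtain ⟨k, hk, e⟩ := invol_conj L hz
    (by rw [show g⁻¹ * t * g * (g⁻¹ * t * g) = g⁻¹ * (t * t) * g by group, ht2]; group) hQ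
  refine ⟨g * k, ?_, ?_⟩
  · rw [show g * k * z * (g * k)⁻¹ = g * (k * z) * k⁻¹ * g⁻¹ by group, hk]; group
  · rw [show g * k * u * (g * k)⁻¹ = g * (k * u * k⁻¹) * g⁻¹ by group, ← e]; group

theorem ztype_D {t : G} (ht : t ∈ D z u) (h1 : t ≠ 1) : IsConj z t ↔ t ∈ V z a :=
  (ztype_iff L (mem_D.1 ht).1 (D_sq L ht) h1).trans
    ⟨mem_Q_D L ht, fun h => V_le_Q L h⟩

end

end Cfsg.Agent.J2TypeClasses79
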