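import Cfsg.Agent.Lib.J2TypeClasses79

/-!
# Groups of Hall–Janko type: an element of order three centralising `u`

The centralizer of `u` contains an element of order three that permutes `z`, `a 0`, `z * a 0`
cyclically.
-/

set_option autoImplicit false

namespace Cfsg.Agent.J2TypeCyc79

open Subgroup Cfsg.Agent.LargeExtraspecial Cfsg.Agent.J2TypePoints79 Cfsg.Agent.J2TypeAction79
open Cfsg.Agent.J2TypeFour79 Cfsg.Agent.J2TypeClasses79
open Cfsg.Agent.LargeExtraspecialPair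

variable {G : Type*} [Group G] [Finite G] {Q : Subgroup G} {z : G} {a : Fin 5 → G} {u u' : G}

/-- `(1 2 3)`. -/
def τ : Equiv.Perm (Fin 5) := Equiv.swap 1 2 * Equiv.swap 2 3

set_option maxRecDepth 100000 in
theorem three_doubles : ∀ σ : Equiv.Perm (Fin 5), Equiv.Perm.sign σ = 1 → σ * σ = 1 → σ ≠ 1 →
    σ 0 = 0 → ∃ k : Fin 3, (τ ^ (k : ℕ))⁻¹ * σ * τ ^ (k : ℕ) = σ0 := by decide +kernel

section

variable (L : Loc Q z a u u')
include L

/-- The centralizer of `V` in `G`. -/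
theorem cent_V_iff {n : G} : n ∈ centralizer (V z a : Set G) ↔ n * z = z * n ∧ n * a 0 = a 0 * n :=
  ⟨fun h => ⟨(mem_centralizer_iff.1 h z (z_mem_V L)).symm,
      (mem_centralizer_iff.1 h _ (a_mem_V L)).symm⟩,
    fun h => mem_centralizer_iff.2 fun _ hv => (comm_V L h.1 h.2 hv).symm⟩

theorem acts_fix0 {t : G} {σ : Equiv.Perm (Fin 5)} (hσ : Acts z a t σ) (ha : t * a 0 = a 0 * t) :
    σ 0 = 0 :=
  same_inj L.fr.hJ L.fr.pts (hσ.2 0) (Or.inl (mul_inv_eq_iff_eq_mul.2 ha))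

theorem card_centV : Nat.card ↥(centralizer (V z a : Set G)) = 192 := by
  classical
  have F := L.fr
  set C := centralizer (V z a : Set G)
  choose π hπ using fun c : C => exists_acts F.hJ F.pts ((cent_V_iff L).1 c.2).1
  let Φ : C →* Equiv.Perm (Fin 5) := MonoidHom.mk' π fun g h =>
    acts_unique F.hJ F.pts (hπ (g * h)) (acts_mul F.hJ F.pts (hπ g) (hπ h))
  have hker : Φ.ker = Q.subgroupOf C := by
    ext c
    exact ⟨fun h => F.mem_Q ((show π c = 1 from h) ▸ hπ c), fun h => F.acts_eq_one (hπ c) h⟩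
  have hrange : (Φ.range : Set (Equiv.Perm (Fin 5))) =
      {σ | Equiv.Perm.sign σ = 1 ∧ σ 0 = 0} := by
    ext σ
    constructor
    · rintro ⟨c, rfl⟩
      exact ⟨F.even (hπ c), acts_fix0 L (hπ c) ((cent_V_iff L).1 c.2).2⟩
    · rintro ⟨h1, h2⟩
      obtain ⟨h, hh⟩ := F.lift h1
      have ha1 := F.pts.anti 1 0 (by decide)
      have hz : ∀ x : G, h * (z * x) * h⁻¹ = z * (h * x * h⁻¹) := fun x => by
        rw [← mul_assoc h z, hh.1]; group
      have e := hh.2 0
      rw [h2] at e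
      rcases e with e | e
      · exact ⟨⟨h, (cent_V_iff L).2 ⟨hh.1, mul_inv_eq_iff_eq_mul.1 e⟩⟩,
          acts_unique F.hJ F.pts (hπ _) hh⟩
      · have h' : Acts z a (h * a 1) σ := by
          simpa using acts_mul F.hJ F.pts hh (acts_of_mem F.hJ F.pts (F.pts.mem 1))
        refine ⟨⟨h * a 1, (cent_V_iff L).2 ⟨h'.1, mul_inv_eq_iff_eq_mul.1 ?_⟩⟩,
          acts_unique F.hJ F.pts (hπ _) h'⟩
        rw [show h * a 1 * a 0 * (h * a 1)⁻¹ = h * (a 1 * a 0 * (a 1)⁻¹) * h⁻¹ by group, ha1,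
          hz, e, F.ext.z_mul_z_mul]
  have hr : Nat.card Φ.range = 12 := by
    rw [← SetLike.coe_sort_coe, hrange, Nat.card_eq_fintype_card]
    decide +kernel
  have hk : Nat.card Φ.ker = 16 := by
    rw [hker]
    have hidx : ((Q ⊓ C).subgroupOf Q).index = 2 := by
      refine Subgroup.index_eq_two_iff.2 ⟨⟨a 1, F.pts.mem 1⟩, fun b => ?_⟩
      have hmem : ∀ t : G, t ∈ Q → (t ∈ Q ⊓ C ↔ t * a 0 * t⁻¹ = a 0) := fun t ht => by
        rw [Subgroup.mem_inf, cent_V_iff L]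
        exact ⟨fun e => mul_inv_eq_iff_eq_mul.2 e.2.2,
          fun e => ⟨ht, F.comm_z ht, mul_inv_eq_iff_eq_mul.1 e⟩⟩
      simp only [mem_subgroupOf, Subgroup.coe_mul]
      rw [hmem _ (Q.mul_mem b.2 (F.pts.mem 1)), hmem _ b.2]
      have hbz : ∀ v : G, (b : G) * (z * v) * (b : G)⁻¹ = z * ((b : G) * v * (b : G)⁻¹) :=
        fun v => by rw [← mul_assoc (b : G) z, F.comm_z b.2]; group
      rw [show (b : G) * a 1 * a 0 * ((b : G) * a 1)⁻¹ =
          (b : G) * (a 1 * a 0 * (a 1)⁻¹) * (b : G)⁻¹ by group,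
        F.pts.anti 1 0 (by decide), hbz]
      rcases F.ext.conj _ b.2 _ (F.pts.mem 0) with e | e <;> rw [e]
      · exact Or.inr ⟨rfl, F.ext.z_mul_ne _⟩
      · exact Or.inl ⟨F.ext.z_mul_z_mul _, F.ext.z_mul_ne _⟩
    have h2 := ((Q ⊓ C).subgroupOf Q).card_mul_index
    rw [hidx, F.hJ.cardQ, Nat.card_congr (subgroupOfEquivOfLe inf_le_left).toEquiv] at h2
    have h3 : Q.subgroupOf C = (Q ⊓ C).subgroupOf C := (inf_subgroupOf_right Q C).symm
    rw [h3, Nat.card_congr (subgroupOfEquivOfLe inf_le_right).toEquiv]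
    omega
  rw [← card_mul_index Φ.ker, index_ker, hr, hk]

theorem exists_pair : ∃ g : G, Pair Q (Q.map (MulAut.conj g).toMonoidHom) z (a 0) := by
  obtain ⟨g, hg⟩ := isConj_iff.1 (L.fr.pts.conj 0)
  have h := pair_of_conj L.fr.hJ.l (g := g) (hg ▸ L.fr.pts.mem 0) (hg ▸ (L.fr.pts.ne 0).2)
    (by rw [L.fr.hJ.cardQ])
  rw [hg] at h
  exact ⟨g, h⟩

theorem card_normV : Nat.card ↥(normalizer (V z a : Set G)) = 1152 := by
  obtain ⟨g, P⟩ := exists_pair L
  show Nat.card ↥(normalizer (P.V : Set G)) = 1152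
  have hsurj : Function.Surjective P.perm := fun σ => by
    obtain ⟨x, hx⟩ := P.structureX.2 σ
    exact ⟨_, hx⟩
  have hker : P.perm.ker = (centralizer (P.V : Set G)).subgroupOf (normalizer (P.V : Set G)) := by
    ext n
    exact P.perm_one
  have hle : centralizer (P.V : Set G) ≤ normalizer (P.V : Set G) := centralizer_le_normalizer _
  rw [← card_mul_index P.perm.ker, index_ker, MonoidHom.range_eq_top.2 hsurj, card_top,
    Nat.card_perm, Nat.card_fin, hker, Nat.card_congr (subgroupOfEquivOfLe hle).toEquiv,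
    show Nat.card ↥(centralizer (P.V : Set G)) = 192 from card_centV L]
  simp [Nat.factorial]

/-- `N(V) ⊓ C(u)`. -/
theorem mem_M_inf {n : G} : n ∈ normalizer (V z a : Set G) ⊓ centralizer ({u} : Set G) ↔
    n ∈ normalizer (V z a : Set G) ∧ n * u = u * n := by
  rw [Subgroup.mem_inf, mem_centralizer_singleton_iff]

theorem card_stab : 48 ≤ Nat.card ↥(normalizer (V z a : Set G) ⊓ centralizer ({u} : Set G)) := by
  classical
  haveI := Fintype.ofFinite G
  have F := L.fr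
  set N := normalizer (V z a : Set G)
  set M := N ⊓ centralizer ({u} : Set G)
  obtain ⟨h, hh⟩ := F.lift (σ := τ) (by decide)
  let qs : Fin 4 × Bool → G := fun p =>
    ![1, a 1, a 3, a 1 * a 3] p.1 * (if p.2 then a 1 * a 2 else 1)
  let R : Fin 3 × Fin 4 × Bool → G := fun p =>
    h ^ (p.1 : ℕ) * (qs p.2 * u * (qs p.2)⁻¹) * (h ^ (p.1 : ℕ))⁻¹
  let f : N → G := fun n => (n : G) * u * (n : G)⁻¹
  have himg : Finset.univ.image f ⊆ Finset.univ.image R := by
    intro t ht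
    obtain ⟨n, -, rfl⟩ := Finset.mem_image.1 ht
    have huc : u ∈ centralizer (V z a : Set G) := (cent_V_iff L).2 ⟨uz L, L.fix⟩
    have hc : f n ∈ centralizer (V z a : Set G) := by
      refine mem_centralizer_iff.2 fun v hv => ?_
      have hv' := (mem_normalizer_iff''.1 n.2 v).1 hv
      have e := mem_centralizer_iff.1 huc _ hv'
      show v * ((n : G) * u * (n : G)⁻¹) = (n : G) * u * (n : G)⁻¹ * v
      calc v * ((n : G) * u * (n : G)⁻¹) = n * (((n : G)⁻¹ * v * n) * u) * (n : G)⁻¹ := by group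
        _ = n * (u * ((n : G)⁻¹ * v * n)) * (n : G)⁻¹ := by rw [e]
        _ = _ := by group
    obtain ⟨hz, ha⟩ := (cent_V_iff L).1 hc
    have ht2 : f n * f n = 1 := by
      show (n : G) * u * (n : G)⁻¹ * ((n : G) * u * (n : G)⁻¹) = 1
      rw [show (n : G) * u * (n : G)⁻¹ * ((n : G) * u * (n : G)⁻¹) = n * (u * u) * (n : G)⁻¹ by
        group, L.sq]; group
    have ht1 : f n ≠ 1 := fun e => u_ne_one L (conj_eq_one_iff.1 e)
    have hQ : f n ∉ Q := fun hQ => not_conj L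
      (((ztype_iff L hz ht2 ht1).2 hQ).trans
        (isConj_iff.2 ⟨(n : G)⁻¹, by show (n : G)⁻¹ * ((n : G) * u * (n : G)⁻¹) * _ = u; group⟩))
    obtain ⟨σ, hσ⟩ := exists_acts F.hJ F.pts hz
    obtain ⟨k, hk⟩ := three_doubles σ (F.even hσ)
      (F.acts_eq_one (acts_mul F.hJ F.pts hσ hσ) (by rw [ht2]; exact Q.one_mem))
      (fun e => hQ (F.mem_Q (e ▸ hσ))) (acts_fix0 L hσ ha)
    have hp := acts_pow F.hJ F.pts hh (k : ℕ)
    have h' := acts_conj F.hJ F.pts (acts_inv F.hJ F.pts hp) hσ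
    rw [inv_inv, inv_inv, hk] at h'
    obtain ⟨i, b, hr⟩ := orbit_rep L (t := (h ^ (k : ℕ))⁻¹ * f n * h ^ (k : ℕ)) (by
      rw [show (h ^ (k : ℕ))⁻¹ * f n * h ^ (k : ℕ) * ((h ^ (k : ℕ))⁻¹ * f n * h ^ (k : ℕ)) =
        (h ^ (k : ℕ))⁻¹ * (f n * f n) * h ^ (k : ℕ) by group, ht2]; group) h'
    refine Finset.mem_image.2 ⟨(k, i, b), Finset.mem_univ _, ?_⟩
    show h ^ (k : ℕ) * (qs (i, b) * u * (qs (i, b))⁻¹) * (h ^ (k : ℕ))⁻¹ = f n
    rw [← hr]; group
  have hT : (Finset.univ.image f).card ≤ 24 :=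
    (Finset.card_le_card himg).trans (Finset.card_image_le.trans (by simp))
  have hfib : ∀ t ∈ Finset.univ.image f,
      (Finset.univ.filter fun n => f n = t).card ≤ Fintype.card M := by
    intro t ht
    obtain ⟨d, -, rfl⟩ := Finset.mem_image.1 ht
    rw [Fintype.card_subtype]
    refine Finset.card_le_card_of_injOn (fun n : N => (d : G)⁻¹ * n) (fun n hn => ?_)
      fun _ _ _ _ e => Subtype.ext (mul_left_cancel e)
    have e : (n : G) * u * (n : G)⁻¹ = (d : G) * u * (d : G)⁻¹ := (Finset.mem_filter.1 hn).2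
    refine Finset.mem_filter.2 ⟨Finset.mem_univ _, (mem_M_inf L).2
      ⟨N.mul_mem (N.inv_mem d.2) n.2, ?_⟩⟩
    calc (d : G)⁻¹ * n * u = (d : G)⁻¹ * ((n : G) * u * (n : G)⁻¹) * n := by group
      _ = u * ((d : G)⁻¹ * n) := by rw [e]; group
  have hle := Finset.card_le_mul_card_image (Finset.univ : Finset N) (f := f) _ hfib
  have hN : Fintype.card N = 1152 := by rw [← Nat.card_eq_fintype_card]; exact card_normV L
  rw [Finset.card_univ, hN] at hle
  rw [Nat.card_eq_fintype_card]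
  have := hle.trans (Nat.mul_le_mul_left _ hT)
  omega

theorem D_le_M : D z u ≤ normalizer (V z a : Set G) ⊓ centralizer ({u} : Set G) := fun _ ht =>
  ⟨centralizer_le_normalizer _ ((cent_V_iff L).2 ⟨(mem_D.1 ht).1, D_cent_V L ht⟩),
    mem_centralizer_singleton_iff.2 (mem_D.1 ht).2⟩

end

/-- An element of order three centralising `u` and permuting `z`, `a 0`, `z * a 0` cyclically. -/
structure Cyc (Q : Subgroup G) (z : G) (a : Fin 5 → G) (u u' y : G) : Prop where
  loc : Loc Q z a u u'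
  ord : orderOf y = 3
  yu : y * u = u * y
  yz : y * z * y⁻¹ = a 0
  ya : y * a 0 * y⁻¹ = z * a 0

set_option maxRecDepth 100000 in
theorem three_cycles : ∀ σ : Equiv.Perm (Fin 3), σ ^ 3 = 1 → σ ≠ 1 →
    (σ 0 = 1 ∧ σ 1 = 2) ∨ (σ 0 = 2 ∧ σ 1 = 0) := by decide +kernel

theorem exists_cyc (hJ : Hyp Q z) : ∃ a u u' y, Cyc Q z a u u' y := by
  haveI : Fact (Nat.Prime 3) := ⟨Nat.prime_three⟩
  obtain ⟨a, u, u', L⟩ := exists_loc hJ
  obtain ⟨g, P⟩ := exists_pair L
  set M := normalizer (V z a : Set G) ⊓ centralizer ({u} : Set G)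
  let φ : M →* Equiv.Perm (Fin 3) :=
    P.perm.comp (Subgroup.inclusion (inf_le_left : M ≤ normalizer (P.V : Set G)))
  have hker : φ.ker = (D z u).subgroupOf M := by
    ext n
    rw [MonoidHom.mem_ker, MonoidHom.comp_apply, P.perm_one, mem_subgroupOf, mem_D]
    show ((n : G) ∈ centralizer (V z a : Set G)) ↔ _
    rw [cent_V_iff L]
    exact ⟨fun h => ⟨h.1, ((mem_M_inf L).1 n.2).2⟩,
      fun h => ⟨h.1, D_cent_V L (mem_D.2 h)⟩⟩
  have h1 := card_mul_index φ.ker
  rw [index_ker, hker, Nat.card_congr (subgroupOfEquivOfLe (D_le_M L)).toEquiv, card_D L] at h1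
  have h48 : 48 ≤ Nat.card M := card_stab L
  have h6 : Nat.card φ.range ∣ 6 := by
    have := card_subgroup_dvd_card φ.range
    rw [Nat.card_perm, Nat.card_fin] at this
    exact this
  have h3 : 3 ∣ Nat.card M := by
    have : Nat.card φ.range ≤ 6 := Nat.le_of_dvd (by norm_num) h6
    generalize Nat.card φ.range = r at *
    interval_cases r <;> omega
  obtain ⟨y, hy⟩ := exists_prime_orderOf_dvd_card' (G := M) 3 h3
  have hy3 : φ y ^ 3 = 1 := by
    rw [← map_pow, show y ^ 3 = 1 from orderOf_dvd_iff_pow_eq_one.1 (dvd_of_eq hy), map_one]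
  have hy1 : φ y ≠ 1 := by
    intro e
    have hD : (y : G) ∈ D z u := by
      have : y ∈ φ.ker := e
      rwa [hker] at this
    have h2 : orderOf (y : G) ∣ 2 := orderOf_dvd_of_pow_eq_one (by rw [pow_two]; exact D_sq L hD)
    rw [Subgroup.orderOf_coe, hy] at h2
    norm_num at h2
  have hyu : (y : G) * u = u * y := ((mem_M_inf L).1 y.2).2
  have hyo : orderOf (y : G) = 3 := by rw [Subgroup.orderOf_coe, hy]
  have spec : ∀ i, (y : G) * P.pts i * (y : G)⁻¹ = P.pts (φ y i) := fun i =>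
    P.perm_spec (Subgroup.inclusion (inf_le_left : M ≤ normalizer (P.V : Set G)) y) i
  rcases three_cycles _ hy3 hy1 with ⟨e0, e1⟩ | ⟨e0, e1⟩
  · exact ⟨a, u, u', y, L, hyo, hyu, by simpa [e0, Pair.pts] using spec 0,
      by simpa [e1, Pair.pts] using spec 1⟩
  · have s0 : (y : G) * z * (y : G)⁻¹ = z * a 0 := by simpa [e0, Pair.pts] using spec 0
    have s1 : (y : G) * a 0 * (y : G)⁻¹ = z := by simpa [e1, Pair.pts] using spec 1
    have s2 : (y : G) * (z * a 0) * (y : G)⁻¹ = a 0 := by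
      rw [show (y : G) * (z * a 0) * (y : G)⁻¹ =
        ((y : G) * z * (y : G)⁻¹) * ((y : G) * a 0 * (y : G)⁻¹) by group, s0, s1, mul_assoc,
        L.fr.comm_z (L.fr.pts.mem 0), L.fr.ext.z_mul_z_mul]
    refine ⟨a, u, u', (y : G)⁻¹, L, by rw [orderOf_inv, hyo],
      (show Commute (y : G) u from hyu).inv_left.eq, ?_, ?_⟩
    · rw [inv_inv]; conv_lhs => rw [← s1]
      group
    · rw [inv_inv]; conv_lhs => rw [← s2]
      group

end Cfsg.Agent.J2TypeCyc79
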