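import Cfsg.Agent.Lib.J2TypeOrder79

/-!
# Groups of Hall–Janko type: the normalizer of a five-cycle

It excludes the order `51840`.
-/

set_option autoImplicit false

namespace Cfsg.Agent.J2TypeFive79

open Subgroup Cfsg.Agent.LargeExtraspecial Cfsg.Agent.J2TypePoints79 Cfsg.Agent.J2TypeAction79
open Cfsg.Agent.J2TypeFour79 Cfsg.Agent.J2TypeClasses79 Cfsg.Agent.J2TypeCyc79
open Cfsg.Agent.J2TypeCent79 Cfsg.Agent.J2TypeKernel79 Cfsg.Agent.J2TypeOrder79

variable {G : Type*} [Group G] [Finite G] {Q : Subgroup G} {z : G} {a : Fin 5 → G} {u u' y : G}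

/-- `p ↦ p + 1`. -/
def τ5 : Equiv.Perm (Fin 5) where
  toFun p := p + 1
  invFun p := p - 1
  left_inv p := add_sub_cancel_right p 1
  right_inv p := sub_add_cancel p 1

set_option maxRecDepth 100000 in
theorem cent_τ5 : ∀ σ : Equiv.Perm (Fin 5), σ * τ5 = τ5 * σ → ∃ k : Fin 5, τ5 ^ (k : ℕ) = σ := by
  decide +kernel

set_option maxRecDepth 100000 in
theorem norm_τ5 : ∀ σ : Equiv.Perm (Fin 5), Equiv.Perm.sign σ = 1 → ∀ k : Fin 5,
    σ * τ5 * σ⁻¹ = τ5 ^ (k : ℕ) → k = 1 ∨ k = 4 := by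
  decide +kernel

section

variable (C : Cyc Q z a u u' y)
include C

/-- A five-cycle in `C(z)` with centralizer `⟨c, z⟩` there, inverted by an element `i` with
`i * i ∈ {1, z}`. -/
theorem exists_five : ∃ c i : G, orderOf c = 5 ∧ c * z = z * c ∧ Acts z a c τ5 ∧
    Nat.card ↥(centralizer ({z} : Set G) ⊓ centralizer ({c} : Set G)) = 10 ∧
    i * z = z * i ∧ i * c * i⁻¹ = c⁻¹ ∧ (i * i = 1 ∨ i * i = z) ∧ i ∉ Q := by
  haveI : Fact (Nat.Prime 5) := ⟨by norm_num⟩
  have F := C.loc.fr
  obtain ⟨c, hc, hcz, hcp⟩ := F.cyc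
  have hact : Acts z a c τ5 := ⟨hcz, fun p => Or.inl (hcp p)⟩
  have hcz' : Commute c z := hcz
  set H := centralizer ({z} : Set G)
  have hCH : Nat.card ↥(H ⊓ centralizer ({c} : Set G)) = 10 := by
    have ho : orderOf (c * z) = 10 := by
      rw [hcz'.orderOf_mul_eq_mul_orderOf_of_coprime (by rw [hc, F.hJ.l.orderOf_z]; norm_num), hc,
        F.hJ.l.orderOf_z]
    rw [← ho, ← Nat.card_zpowers]
    congr 2
    refine le_antisymm ?_ (zpowers_le.2 ⟨mem_centralizer_singleton_iff.2
        (hcz'.mul_left (Commute.refl z)).eq, mem_centralizer_singleton_iff.2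
        ((Commute.refl c).mul_left hcz'.symm).eq⟩)
    rintro h ⟨hh, hhc⟩
    have hh' := mem_centralizer_singleton_iff.1 hh
    have hhc' : Commute h c := mem_centralizer_singleton_iff.1 hhc
    obtain ⟨σ, hσ⟩ := exists_acts F.hJ F.pts hh'
    have hcomm : σ * τ5 = τ5 * σ := by
      refine acts_unique F.hJ F.pts (acts_mul F.hJ F.pts hσ hact) ?_
      rw [hhc'.eq]
      exact acts_mul F.hJ F.pts hact hσ
    obtain ⟨k, rfl⟩ := cent_τ5 σ hcomm
    have hq : (c ^ (k : ℕ))⁻¹ * h ∈ Q := F.mem_Q (by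
      have := acts_mul F.hJ F.pts (acts_inv F.hJ F.pts (acts_pow F.hJ F.pts hact (k : ℕ))) hσ
      rwa [inv_mul_cancel] at this)
    have h5c : c ^ 5 = 1 := orderOf_dvd_iff_pow_eq_one.1 (dvd_of_eq hc)
    have h2z : z ^ 2 = 1 := by rw [pow_two, F.ext.zz]
    have hck : ∀ n : ℕ, c ^ n ∈ zpowers (c * z) := by
      intro n
      have h6 : (c * z) ^ 6 = c := by
        rw [hcz'.mul_pow, show z ^ 6 = 1 by rw [show 6 = 2 * 3 from rfl, pow_mul, h2z, one_pow],
          mul_one, pow_succ, h5c, one_mul]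
      have := pow_mem (pow_mem (mem_zpowers (c * z)) 6) n
      rwa [h6] at this
    have hz5 : z ∈ zpowers (c * z) := by
      have h5 : (c * z) ^ 5 = z := by
        rw [hcz'.mul_pow, h5c, one_mul, show 5 = 2 * 2 + 1 from rfl, pow_succ, pow_mul, h2z,
          one_pow, one_mul]
      have := pow_mem (mem_zpowers (c * z)) 5
      rwa [h5] at this
    have hh2 : h = c ^ (k : ℕ) * ((c ^ (k : ℕ))⁻¹ * h) := by group
    rcases fix_five F.hJ hc hcz _ hq
      (((Commute.refl c).pow_right _).inv_right.mul_right hhc'.symm).eq with e | e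
    · rw [hh2, e, mul_one]; exact hck _
    · rw [hh2, e]; exact mul_mem (hck _) hz5
  -- an element acting as `p ↦ -p` that inverts `c`
  let A : Subgroup G := zpowers c
  let X := {h : G // Acts z a h σ1}
  have hAa : ∀ g : A, ∀ h : X, Acts z a ((g : G) * h.1 * g) σ1 := by
    intro g h
    obtain ⟨n, hn⟩ := g.2
    have key : ∀ n : ℕ, Acts z a (c ^ n * h.1 * c ^ n) σ1 := by
      intro n
      induction n with
      | zero => simpa using h.2
      | succ n ih =>
        have := acts_mul F.hJ F.pts (acts_mul F.hJ F.pts hact ih) hact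
        rw [show τ5 * σ1 * τ5 = σ1 by decide] at this
        rw [pow_succ']
        convert this using 1
        rw [show c * c ^ n = c ^ n * c from ((Commute.refl c).pow_right n).eq]
        group
    have h5 : (g : G) = c ^ (n % 5).toNat := by
      rw [← hn, ← zpow_natCast, Int.toNat_of_nonneg (Int.emod_nonneg n (by norm_num))]
      show c ^ n = c ^ (n % 5)
      rw [← zpow_mod_orderOf c n, hc]
      rfl
    rw [h5]; exact key _
  letI : MulAction A X :=
    { smul := fun g h => ⟨(g : G) * h.1 * g, hAa g h⟩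
      one_smul := fun h => Subtype.ext (by show ((1 : A) : G) * h.1 * ((1 : A) : G) = h.1; simp)
      mul_smul := fun g g' h => Subtype.ext (by
        show ((g * g' : A) : G) * h.1 * ((g * g' : A) : G) = (g : G) * ((g' : G) * h.1 * g') * g
        obtain ⟨m, hm⟩ := g.2
        obtain ⟨n, hn⟩ := g'.2
        rw [Subgroup.coe_mul, ← hm, ← hn]
        show c ^ m * c ^ n * h.1 * (c ^ m * c ^ n) = c ^ m * (c ^ n * h.1 * c ^ n) * c ^ m
        group) }
  have hA : IsPGroup 5 A := IsPGroup.of_card (n := 1) (by rw [Nat.card_zpowers, hc, pow_one])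
  have hX : Nat.card X = 32 := by
    rw [← F.hJ.cardQ]
    refine Nat.card_congr
      { toFun := fun h => ⟨u' * h.1, F.mem_Q (by
          simpa [show σ1 * σ1 = 1 by decide] using acts_mul F.hJ F.pts C.loc.acts' h.2)⟩
        invFun := fun q => ⟨u' * (q : G), by
          simpa using acts_mul F.hJ F.pts C.loc.acts' (acts_of_mem F.hJ F.pts q.2)⟩
        left_inv := fun h => Subtype.ext (by
          show u' * (u' * h.1) = h.1; rw [← mul_assoc, C.loc.sq', one_mul])
        right_inv := fun q => Subtype.ext (by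
          show u' * (u' * (q : G)) = q; rw [← mul_assoc, C.loc.sq', one_mul]) }
  have e := hA.card_modEq_card_fixedPoints X
  rw [hX] at e
  obtain ⟨⟨⟨i, hi⟩, hfix⟩⟩ : Nonempty (MulAction.fixedPoints A X) := by
    refine (Nat.card_pos_iff.1 (Nat.pos_of_ne_zero fun h0 => ?_)).1
    rw [h0] at e
    exact absurd e (by decide)
  have h1 : c * i * c = i := congrArg Subtype.val (hfix ⟨c, mem_zpowers c⟩)
  have hic : i * c * i⁻¹ = c⁻¹ := by
    calc i * c * i⁻¹ = c⁻¹ * (c * i * c) * i⁻¹ := by group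
      _ = c⁻¹ := by rw [h1]; group
  have hiQ : i ∉ Q := fun h => absurd (F.acts_eq_one hi h) (by decide)
  have hii : c * (i * i) = i * i * c := by
    refine (mul_inv_eq_iff_eq_mul.1 ?_).symm
    rw [show i * i * c * (i * i)⁻¹ = i * (i * c * i⁻¹) * i⁻¹ by group, hic,
      show i * c⁻¹ * i⁻¹ = (i * c * i⁻¹)⁻¹ by group, hic, inv_inv]
  refine ⟨c, i, hc, hcz, hact, hCH, hi.1, hic, fix_five F.hJ hc hcz _ (F.mem_Q ?_) hii, hiQ⟩
  simpa [show σ1 * σ1 = 1 by decide] using acts_mul F.hJ F.pts hi hi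

variable {K : Subgroup G} (hK : Kern C K)
include hK

theorem not_small (hG : Nat.card G = 51840) (h12 : Nat.card K = 12) : False := by
  classical
  haveI : Fact (Nat.Prime 5) := ⟨by norm_num⟩
  haveI : Fact (Nat.Prime 3) := ⟨Nat.prime_three⟩
  haveI : Fact (Nat.Prime 2) := ⟨Nat.prime_two⟩
  have F := C.loc.fr
  obtain ⟨c, i, hc, hcz, hact, hCH, hiz, hic, hii, hiQ⟩ := exists_five C
  set H := centralizer ({z} : Set G)
  set Cc := centralizer ({c} : Set G)
  set N := normalizer ((zpowers c : Subgroup G) : Set G)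
  have hzC : z ∈ Cc := mem_centralizer_singleton_iff.2 hcz.symm
  -- `⟨z⟩` is a Sylow 2-subgroup of `C(c)`
  let zc : Cc := ⟨z, hzC⟩
  have hz2 : orderOf zc = 2 := by rw [← Subgroup.orderOf_coe]; exact F.hJ.l.orderOf_z
  have hZ : IsPGroup 2 ↥(zpowers zc) := IsPGroup.of_card (n := 1) (by
    rw [Nat.card_zpowers, hz2, pow_one])
  obtain ⟨S, hS⟩ := hZ.exists_le_sylow
  have hSZ : (S : Subgroup Cc) = zpowers zc := by
    by_contra hne
    haveI := S.isPGroup'.isNilpotent
    obtain ⟨n, hn, hn'⟩ := SetLike.exists_of_lt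
      (Group.normalizerCondition_of_isNilpotent (G := (S : Subgroup Cc))
        ((zpowers zc).subgroupOf (S : Subgroup Cc))
        (lt_top_iff_ne_top.2 fun e => hne (le_antisymm (subgroupOf_eq_top.1 e) hS)))
    have h1 : (n : Cc) * zc * (n : Cc)⁻¹ ∈ zpowers zc :=
      ((mem_normalizer_iff.1 hn) ⟨zc, hS (mem_zpowers zc)⟩).1 (mem_zpowers zc)
    have hnz : ((n : Cc) : G) * z = z * ((n : Cc) : G) := by
      obtain ⟨m, hm⟩ := h1
      have e : z ^ m = ((n : Cc) : G) * z * ((n : Cc) : G)⁻¹ := congrArg Subtype.val hm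
      rcases F.ext.eq_of_mem_zpowers ((zpowers z).zpow_mem (mem_zpowers z) m) with e' | e' <;> rw [e] at e'
      · exact absurd (conj_eq_one_iff.1 e') F.ext.ne_one
      · exact mul_inv_eq_iff_eq_mul.1 e'
    have hmem : ((n : Cc) : G) ∈ H ⊓ Cc := ⟨mem_centralizer_singleton_iff.2 hnz, (n : Cc).2⟩
    have hd : orderOf ((n : Cc) : G) ∣ 10 := by
      have := orderOf_dvd_natCard (⟨_, hmem⟩ : ↥(H ⊓ Cc))
      rwa [← Subgroup.orderOf_coe, hCH] at this
    obtain ⟨j, hj⟩ := S.isPGroup' n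
    have hj' : ((n : Cc) : G) ^ 2 ^ j = 1 := by
      have := congrArg (fun w : (S : Subgroup Cc) => ((w : Cc) : G)) hj
      simpa using this
    have h2 : ((n : Cc) : G) ^ 2 = 1 := by
      refine orderOf_dvd_iff_pow_eq_one.1 ?_
      obtain ⟨k, -, hk⟩ := (Nat.dvd_prime_pow Nat.prime_two).1 (orderOf_dvd_of_pow_eq_one hj')
      rw [hk] at hd ⊢
      have : k ≤ 1 := by
        by_contra hlt
        have : 2 ^ 2 ∣ 10 := (pow_dvd_pow 2 (by omega : 2 ≤ k)).trans hd
        norm_num at this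
      exact pow_dvd_pow 2 this |>.trans (by norm_num)
    -- the only involution of `⟨c, z⟩` is `z`
    obtain ⟨σ, hσ⟩ := exists_acts F.hJ F.pts hnz
    have hσ1 : σ = 1 := by
      have hcomm : σ * τ5 = τ5 * σ := by
        refine acts_unique F.hJ F.pts (acts_mul F.hJ F.pts hσ hact) ?_
        rw [mem_centralizer_singleton_iff.1 (n : Cc).2]
        exact acts_mul F.hJ F.pts hact hσ
      obtain ⟨k, rfl⟩ := cent_τ5 σ hcomm
      have hkk : τ5 ^ (k : ℕ) * τ5 ^ (k : ℕ) = 1 :=
        F.acts_eq_one (acts_mul F.hJ F.pts hσ hσ) (by rw [← pow_two, h2]; exact Q.one_mem)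
      exact (by decide : ∀ k : Fin 5, τ5 ^ (k : ℕ) * τ5 ^ (k : ℕ) = 1 → τ5 ^ (k : ℕ) = 1) k hkk
    rcases fix_five F.hJ hc hcz _ (F.mem_Q (hσ1 ▸ hσ))
      (mem_centralizer_singleton_iff.1 (n : Cc).2).symm with e | e
    · exact hn' (mem_subgroupOf.2 (by rw [show (n : Cc) = 1 from Subtype.ext e]; exact one_mem _))
    · exact hn' (mem_subgroupOf.2 (by
        rw [show (n : Cc) = zc from Subtype.ext e]; exact mem_zpowers zc))
  -- `N = C(c) ∪ i C(c)`
  have hCN : Cc ≤ N := fun x hx => centralizer_le_normalizer _ (mem_centralizer_iff.2 fun w hw => by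
    obtain ⟨m, rfl⟩ := hw
    exact ((show Commute x c from mem_centralizer_singleton_iff.1 hx).symm.zpow_left m).eq)
  have hNcases : ∀ n ∈ N, n * c * n⁻¹ = c ∨ n * c * n⁻¹ = c⁻¹ := by
    intro n hn
    obtain ⟨m, hm⟩ := (mem_normalizer_iff.1 hn c).1 (mem_zpowers c)
    have hm' : c ^ m = n * c * n⁻¹ := hm
    have hnC : ∀ x ∈ Cc, n * x * n⁻¹ ∈ Cc := by
      intro x hx
      refine mem_centralizer_singleton_iff.2 ?_
      obtain ⟨l, hl⟩ := (mem_normalizer_iff''.1 hn c).1 (mem_zpowers c)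
      have hl' : c ^ l = n⁻¹ * c * n := hl
      have hcx := ((show Commute x c from mem_centralizer_singleton_iff.1 hx).zpow_right l).eq
      rw [hl'] at hcx
      calc n * x * n⁻¹ * c = n * (x * (n⁻¹ * c * n)) * n⁻¹ := by group
        _ = n * ((n⁻¹ * c * n) * x) * n⁻¹ := by rw [hcx]
        _ = _ := by group
    let nzn : Cc := ⟨n * z * n⁻¹, hnC z hzC⟩
    have hp : IsPGroup 2 ↥(zpowers nzn) := IsPGroup.of_card (n := 1) (by
      rw [Nat.card_zpowers, pow_one, ← Subgroup.orderOf_coe]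
      exact (orderOf_injective (MulAut.conj n).toMonoidHom (MulAut.conj n).injective z).trans
        F.hJ.l.orderOf_z)
    obtain ⟨S', hS'⟩ := hp.exists_le_sylow
    obtain ⟨g, rfl⟩ := MulAction.exists_smul_eq Cc S S'
    have hm2 : nzn ∈ ((g • S : Sylow 2 Cc) : Subgroup Cc) := hS' (mem_zpowers nzn)
    rw [Sylow.coe_subgroup_smul, Subgroup.mem_pointwise_smul_iff_inv_smul_mem, hSZ] at hm2
    have e : (MulAut.conj g)⁻¹ • nzn = g⁻¹ * nzn * g := by
      rw [← map_inv, MulAut.smul_def, MulAut.conj_apply, inv_inv]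
    rw [e] at hm2
    obtain ⟨l, hl⟩ := hm2
    have hl' : z ^ l = (g : G)⁻¹ * (n * z * n⁻¹) * g := congrArg Subtype.val hl
    have hh : ((g : G)⁻¹ * n) * z = z * ((g : G)⁻¹ * n) := by
      refine mul_inv_eq_iff_eq_mul.1 ?_
      rcases F.ext.eq_of_mem_zpowers ((zpowers z).zpow_mem (mem_zpowers z) l) with e' | e' <;> rw [hl'] at e'
      · exfalso
        refine F.ext.ne_one (conj_eq_one_iff (a := (g : G)⁻¹ * n).1 ?_)
        rw [← e']; group
      · refine Eq.trans ?_ e'
        group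
    set h := (g : G)⁻¹ * n
    obtain ⟨σ, hσ⟩ := exists_acts F.hJ F.pts hh
    have hgc : Commute (g : G) c := mem_centralizer_singleton_iff.1 g.2
    have hhc : h * c * h⁻¹ = c ^ (m % 5).toNat := by
      rw [← zpow_natCast, Int.toNat_of_nonneg (Int.emod_nonneg m (by norm_num)),
        show c ^ (m % 5) = c ^ m by rw [← zpow_mod_orderOf c m, hc]; rfl,
        show h * c * h⁻¹ = (g : G)⁻¹ * (n * c * n⁻¹) * g by simp only [h]; group, ← hm',
        mul_assoc, ← (hgc.zpow_right m).eq, inv_mul_cancel_left]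
    have hσc : σ * τ5 * σ⁻¹ = τ5 ^ (m % 5).toNat := by
      refine acts_unique F.hJ F.pts (acts_conj F.hJ F.pts hσ hact) ?_
      rw [hhc]
      exact acts_pow F.hJ F.pts hact _
    have hlt : (m % 5).toNat < 5 := by omega
    have hm5 : c ^ m = c ^ (m % 5).toNat := by
      rw [← zpow_natCast, Int.toNat_of_nonneg (Int.emod_nonneg m (by norm_num)),
        ← zpow_mod_orderOf c m, hc]
      rfl
    rw [← hm', hm5]
    rcases norm_τ5 σ (F.even hσ) ⟨_, hlt⟩ hσc with e | e <;>
      have e' : (m % 5).toNat = _ := congrArg Fin.val e <;> rw [e']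
    · exact Or.inl (by rw [show ((1 : Fin 5) : ℕ) = 1 from rfl, pow_one])
    · refine Or.inr (eq_inv_of_mul_eq_one_left ?_)
      rw [show ((4 : Fin 5) : ℕ) = 4 from rfl, ← pow_succ]
      exact orderOf_dvd_iff_pow_eq_one.1 (dvd_of_eq hc)
  have hiN : i ∈ N := mem_normalizer_fintype fun w hw => by
    obtain ⟨m, rfl⟩ := hw
    refine ⟨-m, ?_⟩
    show c ^ (-m) = i * c ^ m * i⁻¹
    rw [← conj_zpow, hic, inv_zpow, zpow_neg]
  have hidx : (Cc.subgroupOf N).index = 2 := by
    refine Subgroup.index_eq_two_iff.2 ⟨⟨i, hiN⟩, fun b => ?_⟩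
    simp only [mem_subgroupOf, Subgroup.coe_mul]
    have hmem : ∀ t : G, t ∈ Cc ↔ t * c * t⁻¹ = c := fun t => by
      rw [mem_centralizer_singleton_iff]; exact mul_inv_eq_iff_eq_mul.symm
    have hne : c⁻¹ ≠ c := fun e => by
      have : c ^ 2 = 1 := by rw [pow_two]; nth_rewrite 1 [← e]; group
      have := orderOf_dvd_of_pow_eq_one this
      rw [hc] at this; norm_num at this
    rw [hmem, hmem, show (b : G) * i * c * ((b : G) * i)⁻¹ = (b : G) * (i * c * i⁻¹) * (b : G)⁻¹ by
      group, hic, show (b : G) * c⁻¹ * (b : G)⁻¹ = ((b : G) * c * (b : G)⁻¹)⁻¹ by group]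
    rcases hNcases _ b.2 with e | e <;> rw [e]
    · exact Or.inr ⟨rfl, hne⟩
    · exact Or.inl ⟨inv_inv c, hne⟩
  have hN : Nat.card N = 2 * Nat.card Cc := by
    rw [← (Cc.subgroupOf N).card_mul_index, hidx, mul_comm,
      Nat.card_congr (subgroupOfEquivOfLe hCN).toEquiv]
  -- the index is congruent to one modulo five
  let P : Sylow 5 G := Sylow.ofCard (zpowers c) (by
    rw [Nat.card_zpowers, hc, hG, Nat.factorization_def _ (by norm_num : Nat.Prime 5),
      show (51840 : ℕ) = 5 ^ 1 * 10368 by norm_num, padicValNat.mul (by norm_num) (by norm_num),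
      padicValNat.prime_pow, padicValNat.eq_zero_of_not_dvd (by norm_num)]
    norm_num)
  have hmod : N.index % 5 = 1 := by
    rw [show N.index = Nat.card (Sylow 5 G) from P.card_eq_index_normalizer.symm]
    exact card_sylow_modEq_one 5 G
  have hCc : ∃ e ≤ 4, Nat.card Cc = 10 * 3 ^ e := by
    have h2 : ¬ 2 ∣ (zpowers zc).index := hSZ ▸ S.not_dvd_index
    have h3 := (zpowers zc).card_mul_index
    rw [Nat.card_zpowers, hz2] at h3
    have h5 : 5 ∣ Nat.card Cc := by
      have := orderOf_dvd_natCard (⟨c, mem_centralizer_singleton_iff.2 rfl⟩ : Cc)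
      rwa [← Subgroup.orderOf_coe, hc] at this
    have hdG : Nat.card Cc ∣ 2 ^ 7 * (5 * 3 ^ 4) := by
      have := Cc.card_subgroup_dvd_card; rw [hG] at this; exact this
    rw [← h3] at hdG h5
    have hodd : Nat.Coprime (zpowers zc).index (2 ^ 7) :=
      Nat.Coprime.pow_right 7 ((Nat.Prime.coprime_iff_not_dvd Nat.prime_two).2 h2).symm
    have hd : (zpowers zc).index ∣ 5 * 3 ^ 4 :=
      hodd.dvd_of_dvd_mul_left ((dvd_mul_left _ 2).trans hdG)
    obtain ⟨r, hr⟩ : 5 ∣ (zpowers zc).index :=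
      (Nat.Coprime.dvd_of_dvd_mul_left (by norm_num) h5)
    rw [hr] at hd
    obtain ⟨e, he, hre⟩ := (Nat.dvd_prime_pow Nat.prime_three).1
      (Nat.dvd_of_mul_dvd_mul_left (by norm_num : 0 < 5) hd)
    exact ⟨e, he, by rw [← h3, hr, hre]; ring⟩
  obtain ⟨e, he, hce⟩ := hCc
  have hidxN := N.card_mul_index
  rw [hN, hce, hG] at hidxN
  have he3 : e = 3 := by
    interval_cases e <;> norm_num at hidxN <;> omega
  subst he3
  -- the Sylow 3-subgroup of `C(c)`
  obtain ⟨T⟩ : Nonempty (Sylow 3 Cc) := inferInstance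
  have hT : Nat.card T = 27 := by
    rw [T.card_eq_multiplicity, hce, Nat.factorization_def _ Nat.prime_three,
      show (10 * 3 ^ 3 : ℕ) = 3 ^ 3 * 10 by norm_num, padicValNat.mul (by norm_num) (by norm_num),
      padicValNat.prime_pow, padicValNat.eq_zero_of_not_dvd (by norm_num)]
    norm_num
  let cc : Cc := ⟨c, mem_centralizer_singleton_iff.2 rfl⟩
  have hTn : Nat.card (Sylow 3 Cc) = 1 := by
    have hmod3 : Nat.card (Sylow 3 Cc) % 3 = 1 := card_sylow_modEq_one 3 Cc
    have hccN : cc ∈ normalizer ((T : Subgroup Cc) : Set Cc) :=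
      centralizer_le_normalizer _ (mem_centralizer_iff.2 fun w _ => Subtype.ext
        (mem_centralizer_singleton_iff.1 w.2))
    set NT := normalizer ((T : Subgroup Cc) : Set Cc)
    have h5 : 5 ∣ Nat.card NT := by
      have := orderOf_dvd_natCard (⟨cc, hccN⟩ : NT)
      rwa [← Subgroup.orderOf_coe, ← Subgroup.orderOf_coe, hc] at this
    have h27 : 27 ∣ Nat.card NT := hT ▸ card_dvd_of_le (le_normalizer (H := (T : Subgroup Cc)))
    have h135 : 135 ∣ Nat.card NT := (Nat.Coprime.mul_dvd_of_dvd_of_dvd (by norm_num) h5 h27 : 5 * 27 ∣ _)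
    have h1 := NT.card_mul_index
    rw [hce] at h1
    have h2 := T.card_eq_index_normalizer
    change Nat.card (Sylow 3 Cc) = NT.index at h2
    rw [← h2] at h1
    obtain ⟨r, hr⟩ := h135
    rw [hr] at h1
    have : r * Nat.card (Sylow 3 Cc) = 2 := by
      refine mul_left_cancel₀ (by norm_num : (135 : ℕ) ≠ 0) ?_
      rw [← mul_assoc, h1]; norm_num
    have := Nat.le_of_dvd (by norm_num) (Dvd.intro_left r this)
    omega
  haveI : Subsingleton (Sylow 3 Cc) := (Nat.card_eq_one_iff_unique.1 hTn).1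
  set TG := (T : Subgroup Cc).map Cc.subtype
  have hTG : Nat.card TG = 27 := by rw [card_map_of_injective Cc.subtype_injective, hT]
  have hnorm : ∀ n ∈ N, ∀ x ∈ TG, n * x * n⁻¹ ∈ TG := by
    intro n hn x hx
    obtain ⟨xc, hxT, rfl⟩ := hx
    have hnC : n * (xc : G) * n⁻¹ ∈ Cc := by
      refine mem_centralizer_singleton_iff.2 (mul_inv_eq_iff_eq_mul.1 ?_)
      have hx : (xc : G) * c * (xc : G)⁻¹ = c :=
        mul_inv_eq_iff_eq_mul.2 (mem_centralizer_singleton_iff.1 xc.2)
      have hninv : n⁻¹ * c * n = c ∨ n⁻¹ * c * n = c⁻¹ := by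
        simpa using hNcases n⁻¹ (N.inv_mem hn)
      have hxx : (xc : G) * (n⁻¹ * c * n) * (xc : G)⁻¹ = n⁻¹ * c * n := by
        rcases hninv with e | e <;> rw [e]
        · exact hx
        · rw [show (xc : G) * c⁻¹ * (xc : G)⁻¹ = ((xc : G) * c * (xc : G)⁻¹)⁻¹ by group, hx]
      calc n * (xc : G) * n⁻¹ * c * (n * (xc : G) * n⁻¹)⁻¹
          = n * ((xc : G) * (n⁻¹ * c * n) * (xc : G)⁻¹) * n⁻¹ := by group
        _ = c := by rw [hxx]; group
    have hp : IsPGroup 3 ↥(zpowers (⟨_, hnC⟩ : Cc)) := by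
      obtain ⟨k, hk⟩ := T.isPGroup' ⟨xc, hxT⟩
      have hk' : orderOf (xc : G) ∣ 3 ^ k :=
        orderOf_dvd_of_pow_eq_one (congrArg (fun w : (T : Subgroup Cc) => ((w : Cc) : G)) hk)
      obtain ⟨l, -, hl⟩ := (Nat.dvd_prime_pow Nat.prime_three).1 hk'
      refine IsPGroup.of_card (n := l) ?_
      rw [Nat.card_zpowers, ← Subgroup.orderOf_coe]
      exact (orderOf_injective (MulAut.conj n).toMonoidHom (MulAut.conj n).injective (xc : G)).trans hl
    obtain ⟨T', hT'⟩ := hp.exists_le_sylow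
    rw [Subsingleton.elim T' T] at hT'
    exact ⟨_, hT' (mem_zpowers _), rfl⟩
  have hzN : z ∈ N := hCN hzC
  -- `z` inverts it
  have hfix : ∀ x ∈ TG, x * z = z * x → x = 1 := by
    intro x hx hxz
    obtain ⟨xc, hxT, rfl⟩ := hx
    have hmem : (xc : G) ∈ H ⊓ Cc := ⟨mem_centralizer_singleton_iff.2 hxz, xc.2⟩
    have hd := orderOf_dvd_natCard (⟨_, hmem⟩ : ↥(H ⊓ Cc))
    rw [← Subgroup.orderOf_coe, hCH] at hd
    have hd2 := orderOf_dvd_natCard (⟨(xc : G), ⟨xc, hxT, rfl⟩⟩ : TG)
    rw [← Subgroup.orderOf_coe, hTG] at hd2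
    exact orderOf_eq_one_iff.1 (Nat.eq_one_of_dvd_coprimes (by norm_num) hd hd2)
  let φ : TG →* TG := MonoidHom.mk' (fun x => ⟨z * x * z⁻¹, hnorm z hzN x x.2⟩) fun x x' =>
    Subtype.ext (by show z * ((x : G) * x') * z⁻¹ = z * x * z⁻¹ * (z * x' * z⁻¹); group)
  have hφ : MonoidHom.FixedPointFree φ := fun x hx => Subtype.ext (hfix x x.2
    (mul_inv_eq_iff_eq_mul.1 (congrArg Subtype.val hx)).symm)
  have hinv : Function.Involutive φ := fun x => Subtype.ext (by
    show z * (z * (x : G) * z⁻¹) * z⁻¹ = x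
    rw [show z * (z * (x : G) * z⁻¹) * z⁻¹ = (z * z) * x * (z * z)⁻¹ by group, F.ext.zz]; group)
  have hzinv : ∀ x ∈ TG, z * x * z⁻¹ = x⁻¹ := fun x hx =>
    congrArg Subtype.val (congrFun (hφ.coe_eq_inv_of_involutive hinv) ⟨x, hx⟩)
  have hab : ∀ x ∈ TG, ∀ x' ∈ TG, x * x' = x' * x := fun x hx x' hx' =>
    congrArg Subtype.val (hφ.commute_all_of_involutive hinv ⟨x, hx⟩ ⟨x', hx'⟩).eq
  rcases hii with h2 | h4
  · -- a four-group acts
    have hiu : ∀ j : G, j * z = z * j → j * j = 1 → j ∉ Q →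
        Nat.card {x : G // x ∈ TG ∧ x * j = j * x} ≤ 3 := by
      intro j hjz hjj hjQ
      obtain ⟨h, -, e⟩ := invol_conj C.loc hjz hjj hjQ
      set TJ := TG ⊓ centralizer ({j} : Set G)
      have hcu : Nat.card ↥(centralizer ({j} : Set G)) = 48 := by
        rw [e, show centralizer ({h * u * h⁻¹} : Set G) =
          (centralizer ({u} : Set G)).map (MulAut.conj h).toMonoidHom from ?_,
          card_map_of_injective (MulAut.conj h).injective, hK.card, h12]
        ext x
        simp only [mem_map, mem_centralizer_singleton_iff, MulEquiv.coe_toMonoidHom, MulAut.conj_apply]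
        constructor
        · intro hx
          refine ⟨h⁻¹ * x * h, ?_, by group⟩
          calc h⁻¹ * x * h * u = h⁻¹ * (x * (h * u * h⁻¹)) * h := by group
            _ = _ := by rw [hx]; group
        · rintro ⟨w, hw, rfl⟩
          calc h * w * h⁻¹ * (h * u * h⁻¹) = h * (w * u) * h⁻¹ := by group
            _ = _ := by rw [hw]; group
      have hd1 : Nat.card TJ ∣ 27 := hTG ▸ card_dvd_of_le inf_le_left
      have hd2 : Nat.card TJ ∣ 48 := hcu ▸ card_dvd_of_le inf_le_right
      have := Nat.le_of_dvd (by norm_num) (Nat.dvd_gcd hd1 hd2)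
      rw [show Nat.gcd 27 48 = 3 from rfl] at this
      refine le_of_eq_of_le (Nat.card_congr (Equiv.subtypeEquivRight fun x => ?_)) this
      rw [Subgroup.mem_inf, mem_centralizer_singleton_iff]
    have hiz2 : i * z * (i * z) = 1 := by
      rw [show i * z * (i * z) = i * (z * i) * z by group, ← hiz,
        show i * (i * z) * z = (i * i) * (z * z) by group, h2, F.ext.zz, one_mul]
    have b1 := hiu i hiz h2 hiQ
    have b2 := hiu (i * z) ((show Commute i z from hiz).mul_left (Commute.refl z)).eq hiz2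
      fun h => hiQ (by simpa using Q.mul_mem h (Q.inv_mem F.hJ.l.mem))
    have hii' : i⁻¹ = i := inv_eq_of_mul_eq_one_right h2
    let f : TG → {x : G // x ∈ TG ∧ x * i = i * x} × {x : G // x ∈ TG ∧ x * (i * z) = i * z * x} :=
      fun t => (⟨(t : G) * (i * t * i⁻¹), TG.mul_mem t.2 (hnorm i hiN t t.2), (by
          refine (mul_inv_eq_iff_eq_mul.1 ?_).symm
          rw [show i * ((t : G) * (i * t * i⁻¹)) * i⁻¹ =
            (i * t * i⁻¹) * ((i * i) * t * (i * i)⁻¹) by group, h2]
          simp only [one_mul, inv_one, mul_one]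
          exact hab _ (hnorm i hiN t t.2) _ t.2)⟩,
        ⟨(t : G) * (i * t * i⁻¹)⁻¹, TG.mul_mem t.2 (TG.inv_mem (hnorm i hiN t t.2)), (by
          refine (mul_inv_eq_iff_eq_mul.1 ?_).symm
          rw [show i * z * ((t : G) * (i * t * i⁻¹)⁻¹) * (i * z)⁻¹ =
            i * (z * ((t : G) * (i * t * i⁻¹)⁻¹) * z⁻¹) * i⁻¹ by group,
            hzinv _ (TG.mul_mem t.2 (TG.inv_mem (hnorm i hiN t t.2))),
            show i * ((t : G) * (i * t * i⁻¹)⁻¹)⁻¹ * i⁻¹ = ((i * i) * t * (i * i)⁻¹) * (i * t * i⁻¹)⁻¹ by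
              group, h2]
          simp)⟩)
    have hf : Function.Injective f := by
      intro s t e
      have e1 : (s : G) * (i * s * i⁻¹) = t * (i * t * i⁻¹) :=
        congrArg (fun p => (p.1 : G)) e
      have e2 : (s : G) * (i * s * i⁻¹)⁻¹ = t * (i * t * i⁻¹)⁻¹ :=
        congrArg (fun p => (p.2 : G)) e
      have hsq : ∀ x : TG, (x : G) * (i * x * i⁻¹) * ((x : G) * (i * x * i⁻¹)⁻¹) = x * x := by
        intro x
        have hc := hab _ (hnorm i hiN x x.2) _ x.2
        calc _ = (x : G) * ((i * x * i⁻¹) * x) * (i * x * i⁻¹)⁻¹ := by group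
          _ = _ := by rw [hc]; group
      have hst : (s : G) * s = t * t := by rw [← hsq s, ← hsq t, e1, e2]
      have hord : ∀ x : TG, (x : G) = ((x : G) * x) ^ 14 := by
        intro x
        have h27 : (x : G) ^ 27 = 1 := by
          have := pow_card_eq_one' (x := x)
          rw [hTG] at this
          exact congrArg Subtype.val this
        rw [← pow_two, ← pow_mul, show 2 * 14 = 27 + 1 from rfl, pow_succ, h27, one_mul]
      exact Subtype.ext (by rw [hord s, hord t, hst])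
    have := Nat.card_le_card_of_injective f hf
    rw [hTG, Nat.card_prod] at this
    have := this.trans (Nat.mul_le_mul b1 b2)
    omega
  · -- an element of order four squaring to inversion
    haveI : Fintype TG := Fintype.ofFinite _
    let f : Equiv.Perm TG :=
      { toFun := fun x => ⟨i * x * i⁻¹, hnorm i hiN x x.2⟩
        invFun := fun x => ⟨i⁻¹ * x * i, by
          have := hnorm i⁻¹ (N.inv_mem hiN) x x.2
          rwa [inv_inv] at this⟩
        left_inv := fun x => Subtype.ext (by show i⁻¹ * (i * (x : G) * i⁻¹) * i = x; group)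
        right_inv := fun x => Subtype.ext (by show i * (i⁻¹ * (x : G) * i) * i⁻¹ = x; group) }
    have hff : ∀ x, (f * f) x = x⁻¹ := fun x => Subtype.ext (by
      show i * (i * (x : G) * i⁻¹) * i⁻¹ = (x : G)⁻¹
      rw [show i * (i * (x : G) * i⁻¹) * i⁻¹ = (i * i) * x * (i * i)⁻¹ by group, h4, hzinv x x.2])
    have hsupp : (f * f).support = Finset.univ.erase (1 : TG) := by
      ext x
      simp only [Equiv.Perm.mem_support, hff, Finset.mem_erase, Finset.mem_univ, and_true]
      refine ⟨fun h e => h (by rw [e, inv_one]), fun h e => h ?_⟩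
      have h1 : x ^ 2 = 1 := by rw [pow_two]; nth_rewrite 1 [← e]; group
      have h27 : x ^ 27 = 1 := by rw [← hTG]; exact pow_card_eq_one'
      exact TransferPow.eq_one_of_pow_eq_one_of_coprime h1 h27 (by norm_num)
    have hcard : (f * f).support.card = 26 := by
      rw [hsupp, Finset.card_erase_of_mem (Finset.mem_univ _), Finset.card_univ,
        ← Nat.card_eq_fintype_card, hTG]
    have hord : orderOf (f * f) = 2 := by
      refine orderOf_eq_prime (Equiv.ext fun x => ?_) fun e => ?_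
      · rw [pow_two, Equiv.Perm.mul_apply, hff, hff, inv_inv]; rfl
      · rw [e] at hcard; simp at hcard
    obtain ⟨n, hn⟩ := Equiv.Perm.cycleType_prime_order (by rw [hord]; exact Nat.prime_two)
    have hsum := Equiv.Perm.sum_cycleType (f * f)
    rw [hn, hord, Multiset.sum_replicate, hcard, smul_eq_mul] at hsum
    have hsign := Equiv.Perm.sign_of_cycleType (f * f)
    rw [hn, hord, Multiset.sum_replicate, Multiset.card_replicate, smul_eq_mul,
      show n + 1 = 13 by omega, map_mul, Int.units_mul_self] at hsign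
    exact absurd hsign (by decide)

end

/-- The data and the order. -/
theorem exists_kern_order (hJ : Hyp Q z) : ∃ (a : Fin 5 → G) (u u' y : G) (C : Cyc Q z a u u' y)
    (K : Subgroup G), Kern C K ∧ Nat.card K = 60 ∧ Nat.card G = 604800 := by
  obtain ⟨a, u, u', y, C⟩ := exists_cyc hJ
  obtain ⟨K, hK⟩ := exists_kern C
  rcases order_cases C hK with ⟨h1, h2⟩ | ⟨h1, h2⟩
  · exact ⟨a, u, u', y, C, K, hK, h1, h2⟩
  · exact (not_small C hK h2 h1).elim

end Cfsg.Agent.J2TypeFive79
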