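import Cfsg.Agent.Lib.J2TypeAction79
import Cfsg.Agent.Lib.LargeExtraspecialPair

/-!
# Groups of Hall–Janko type: two commuting involutions outside `Q`

For `z' = a 0` and the conjugate `Q'` of `Q` with centre `z'`, suitable products of elements of
`C_Q(z')` and `C_{Q'}(z)` are commuting involutions acting as `(12)(34)` and `(14)(23)`.
-/

set_option autoImplicit false

namespace Cfsg.Agent.J2TypeFour79

open Subgroup Cfsg.Agent.LargeExtraspecial Cfsg.Agent.J2TypePoints79 Cfsg.Agent.J2TypeAction79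
open Cfsg.Agent.LargeExtraspecialPair

variable {G : Type*} [Group G] [Finite G] {Q : Subgroup G} {z : G} {a : Fin 5 → G}

/-- Five points together with a five-cycle. -/
structure Frame (Q : Subgroup G) (z : G) (a : Fin 5 → G) : Prop where
  hJ : Hyp Q z
  pts : Pts Q z a
  cyc : ∃ c, orderOf c = 5 ∧ c * z = z * c ∧ ∀ p, c * a p * c⁻¹ = a (p + 1)

theorem exists_frame (hJ : Hyp Q z) : ∃ a, Frame Q z a := by
  obtain ⟨a, c, h1, h2, h3, h4⟩ := exists_pts hJ
  exact ⟨a, hJ, h1, c, h2, h3, h4⟩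

/-- `(12)(34)`. -/
def σ0 : Equiv.Perm (Fin 5) := Equiv.swap 1 2 * Equiv.swap 3 4

/-- `(14)(23)`. -/
def σ1 : Equiv.Perm (Fin 5) := Equiv.swap 1 4 * Equiv.swap 2 3

set_option maxRecDepth 100000 in
theorem pair_key_aux : ∀ (σ : Equiv.Perm (Fin 5)) (i : Fin 5) (v : W),
    decide ((σ * σ = 1 ∧ σ ≠ 1 ∧ Equiv.Perm.sign σ = 1 ∧ σ i = i) ∧
      (wsig v i = false ∧ ∀ r, wsig v (σ.symm r) = wsig v r)) = true →
    decide (v = none ∨ v = some ⟨(i, i), le_rfl⟩ ∨ ∃ l : {l : Fin 5 × Fin 5 // l.1 ≤ l.2},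
      v = some l ∧ l.1.1 ≠ l.1.2 ∧ l.1.1 ≠ i ∧ σ l.1.1 = l.1.2) = true := by decide +kernel

/-- Words fixed by an even involution of the points. -/
theorem pair_key (σ : Equiv.Perm (Fin 5)) (i : Fin 5) (v : W) (h1 : σ * σ = 1) (h2 : σ ≠ 1)
    (h3 : Equiv.Perm.sign σ = 1) (h4 : σ i = i) (h5 : wsig v i = false)
    (h6 : ∀ r, wsig v (σ.symm r) = wsig v r) :
    v = none ∨ v = some ⟨(i, i), le_rfl⟩ ∨ ∃ l : {l : Fin 5 × Fin 5 // l.1 ≤ l.2},
      v = some l ∧ l.1.1 ≠ l.1.2 ∧ l.1.1 ≠ i ∧ σ l.1.1 = l.1.2 :=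
  of_decide_eq_true (pair_key_aux σ i v (decide_eq_true ⟨⟨h1, h2, h3, h4⟩, h5, h6⟩))

namespace Frame

variable (F : Frame Q z a)
include F

theorem ext : Ext Q z := F.hJ.l.toExt

theorem structureH : (∀ h, Acts z a h 1 → h ∈ Q) ∧
    (∀ h σ, Acts z a h σ → Equiv.Perm.sign σ = 1) ∧
      ∀ σ, Equiv.Perm.sign σ = 1 → ∃ h, Acts z a h σ := by
  obtain ⟨c, -, h⟩ := F.cyc
  exact acts_structure F.hJ F.pts ⟨c, h⟩

theorem mem_Q {h : G} (hh : Acts z a h 1) : h ∈ Q := F.structureH.1 h hh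

theorem even {h : G} {σ : Equiv.Perm (Fin 5)} (hh : Acts z a h σ) : Equiv.Perm.sign σ = 1 :=
  F.structureH.2.1 h σ hh

theorem lift {σ : Equiv.Perm (Fin 5)} (hσ : Equiv.Perm.sign σ = 1) : ∃ h, Acts z a h σ :=
  F.structureH.2.2 σ hσ

theorem acts_eq_one {h : G} {σ : Equiv.Perm (Fin 5)} (hh : Acts z a h σ) (hQ : h ∈ Q) : σ = 1 :=
  acts_unique F.hJ F.pts hh (acts_of_mem F.hJ F.pts hQ)

/-- The product of two points squares to `z`. -/
theorem pair_sq {p q : Fin 5} (h : p ≠ q) : a p * a q * (a p * a q) = z := by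
  calc a p * a q * (a p * a q) = (a p * a q * (a p)⁻¹) * (a p * a p) * a q := by group
    _ = z * (a q * a q) := by rw [F.pts.anti p q h, F.pts.sq]; group
    _ = z := by rw [F.pts.sq, mul_one]

theorem comm_z {x : G} (hx : x ∈ Q) : x * z = z * x := F.ext.comm x hx

/-- Two commuting involutions of `Q`. -/
theorem commuting_invol {x y : G} (hx : x ∈ Q) (hy : y ∈ Q) (hxx : x * x = 1) (hyy : y * y = 1)
    (hx1 : x ≠ 1) (hxz : x ≠ z) (hc : y * x = x * y) :
    y = 1 ∨ y = z ∨ y = x ∨ y = z * x := by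
  rcases F.pts.inv_cases x hx hxx with e | e | ⟨p, hp⟩
  · exact absurd e hx1
  · exact absurd e hxz
  rcases F.pts.inv_cases y hy hyy with e | e | ⟨q, hq⟩
  · exact Or.inl e
  · exact Or.inr (Or.inl e)
  by_cases hpq : q = p
  · subst hpq
    refine Or.inr (Or.inr ?_)
    rcases hp with rfl | rfl <;> rcases hq with rfl | rfl
    · exact Or.inl rfl
    · exact Or.inr rfl
    · exact Or.inr (F.ext.z_mul_z_mul _).symm
    · exact Or.inl rfl
  exfalso
  have e := F.pts.anti q p hpq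
  have hzp : ∀ w : G, w * z = z * w → w * a p * w⁻¹ = a p → (z * w) * a p * (z * w)⁻¹ = a p := by
    intro w _ hw
    calc (z * w) * a p * (z * w)⁻¹ = z * (w * a p * w⁻¹) * z⁻¹ := by group
      _ = a p := by rw [hw, ← F.comm_z (F.pts.mem p), mul_inv_cancel_right]
  have key : a q * a p * (a q)⁻¹ = a p := by
    have h1 : y * a p * y⁻¹ = a p := by
      rcases hp with rfl | rfl
      · exact mul_inv_eq_iff_eq_mul.2 hc
      · rw [← mul_assoc, F.comm_z hy, mul_assoc z y, mul_assoc z (a p) y] at hc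
        exact mul_inv_eq_iff_eq_mul.2 (mul_left_cancel hc)
    rcases hq with rfl | rfl
    · exact h1
    · have := hzp (z * a q) (F.comm_z hy) h1
      rwa [F.ext.z_mul_z_mul] at this
  exact F.ext.z_mul_ne _ (e.symm.trans key)

/-- An involution with `σ p = q` sends `a p * a q` to `z` times itself. -/
theorem flip {u : G} {σ : Equiv.Perm (Fin 5)} (hu : Acts z a u σ) {p q : Fin 5} (hpq : σ p = q)
    (hne : p ≠ q) {w : G} (hw : u * u = w) (hwz : w * a p * w⁻¹ = a p) :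
    u * (a p * a q) * u⁻¹ = z * (a p * a q) := by
  have h1 := hu.2 p
  rw [hpq] at h1
  have e2 : u * (u * a p * u⁻¹) * u⁻¹ = a p := by
    rw [show u * (u * a p * u⁻¹) * u⁻¹ = (u * u) * a p * (u * u)⁻¹ by group, hw, hwz]
  have e3 : a q * a p = z * (a p * a q) := by
    rw [← mul_assoc, ← F.pts.anti q p hne.symm]
    group
  have hz : ∀ x : G, u * (z * x) * u⁻¹ = z * (u * x * u⁻¹) := fun x => by
    rw [← mul_assoc u z, hu.1]; group
  rw [show u * (a p * a q) * u⁻¹ = (u * a p * u⁻¹) * (u * a q * u⁻¹) by group]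
  rcases h1 with e | e <;> rw [e] at e2 ⊢
  · rw [e2, e3]
  · rw [hz] at e2
    have e4 : u * a q * u⁻¹ = z * a p := by rw [← e2, F.ext.z_mul_z_mul]
    rw [e4, mul_assoc z, ← mul_assoc (a q) z, F.comm_z (F.pts.mem q), mul_assoc,
      F.ext.z_mul_z_mul, e3]

/-- A square root in `C(z)` of a noncentral involution `w` of `Q` does not move elements of
`C_Q(w)` to `z` times themselves. -/
theorem no_z {h w y : G} (hh : h * z = z * h) (hw : w ∈ Q) (hww : w * w = 1) (hw1 : w ≠ 1)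
    (hwz : w ≠ z) (hsq : h * h = w) (hy : y ∈ Q) (hyw : y * w = w * y) :
    h * y * h⁻¹ ≠ z * y := by
  intro e
  obtain ⟨σ, hσ⟩ := exists_acts F.hJ F.pts hh
  have hσ2 : σ * σ = 1 :=
    F.acts_eq_one (acts_mul F.hJ F.pts hσ hσ) (by rw [hsq]; exact hw)
  have hσ1 : σ ≠ 1 := fun e' => by
    rcases F.ext.sq h (F.mem_Q (e' ▸ hσ)) with e'' | e''
    · exact hw1 (hsq ▸ e'')
    · exact hwz (hsq ▸ e'')
  rcases F.pts.inv_cases w hw hww with e' | e' | ⟨i, hi⟩
  · exact hw1 e'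
  · exact hwz e'
  have hfix : h * w * h⁻¹ = w := by rw [← hsq]; group
  have hzc : ∀ x : G, h * (z * x) * h⁻¹ = z * (h * x * h⁻¹) := fun x => by
    rw [← mul_assoc h z, hh]; group
  have hai : h * a i * h⁻¹ = a i := by
    rcases hi with rfl | rfl
    · exact hfix
    · rw [hzc] at hfix
      exact mul_left_cancel hfix
  have hσi : σ i = i := same_inj F.hJ F.pts (hσ.2 i) (Or.inl hai)
  have hyi : y * a i * y⁻¹ = a i := by
    rcases hi with rfl | rfl
    · exact mul_inv_eq_iff_eq_mul.2 hyw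
    · rw [← mul_assoc, F.comm_z hy, mul_assoc z y, mul_assoc z (a i) y] at hyw
      exact mul_inv_eq_iff_eq_mul.2 (mul_left_cancel hyw)
  obtain ⟨v, hv⟩ := exists_sig F.hJ F.pts hy
  have h0 : wsig v i = false := by
    by_contra hne
    have := hv i
    rw [Bool.not_eq_false] at hne
    rw [hne, if_pos rfl, hyi] at this
    exact F.ext.z_mul_ne _ this.symm
  have h1 := sig_conj F.hJ F.pts hσ hv (F.comm_z hy)
  rw [e] at h1
  have h2 : Sig z a (z * y) fun r => wsig v r := by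
    simpa using sig_mul F.hJ F.pts (sig_z F.hJ F.pts) hv rfl
  have h3 := sig_unique F.hJ F.pts h1 h2
  have fixed : h * word a v * h⁻¹ = word a v := by
    rcases pair_key σ i v hσ2 hσ1 (F.even hσ) hσi h0 (congrFun h3) with
      rfl | rfl | ⟨⟨⟨p, q⟩, hle⟩, rfl, hne, hpi, hpq⟩
    · simp [word]
    · simpa [word] using hai
    · simp only [word, hne, if_false]
      have hwp : w * a p * w⁻¹ = z * a p := by
        rcases hi with rfl | rfl
        · exact F.pts.anti i p hpi.symm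
        · calc (z * a i) * a p * (z * a i)⁻¹ = z * (a i * a p * (a i)⁻¹) * z⁻¹ := by group
            _ = z * a p := by
              rw [F.pts.anti i p hpi.symm, F.ext.z_mul_z_mul, F.ext.inv_z,
                F.comm_z (F.pts.mem p)]
      have h1' := hσ.2 p
      rw [hpq] at h1'
      have e2 : h * (h * a p * h⁻¹) * h⁻¹ = z * a p := by
        rw [show h * (h * a p * h⁻¹) * h⁻¹ = (h * h) * a p * (h * h)⁻¹ by group, hsq, hwp]
      have e3 : a q * a p = z * (a p * a q) := by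
        rw [← mul_assoc, ← F.pts.anti q p hne.symm]; group
      rw [show h * (a p * a q) * h⁻¹ = (h * a p * h⁻¹) * (h * a q * h⁻¹) by group]
      rcases h1' with e' | e' <;> rw [e'] at e2 ⊢
      · rw [e2, ← mul_assoc, F.comm_z (F.pts.mem q), mul_assoc, e3, F.ext.z_mul_z_mul]
      · rw [hzc] at e2
        rw [mul_left_cancel e2, mul_assoc, e3, F.ext.z_mul_z_mul]
  have : h * y * h⁻¹ = y := by
    rcases eq_word F.hJ F.pts hy hv with rfl | rfl
    · exact fixed
    · rw [hzc, fixed]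
  exact F.ext.z_mul_ne y (e.symm.trans this)

end Frame

/-- Two commuting involutions, centralising `a 0`, that act as `(12)(34)` and `(14)(23)`. -/
structure Loc (Q : Subgroup G) (z : G) (a : Fin 5 → G) (u u' : G) : Prop where
  fr : Frame Q z a
  sq : u * u = 1
  sq' : u' * u' = 1
  comm : u * u' = u' * u
  acts : Acts z a u σ0
  acts' : Acts z a u' σ1
  fix : u * a 0 = a 0 * u
  fix' : u' * a 0 = a 0 * u'

theorem exists_loc (hJ : Hyp Q z) : ∃ a u u', Loc Q z a u u' := by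
  classical
  obtain ⟨a, F⟩ := exists_frame hJ
  obtain ⟨g, hg⟩ := isConj_iff.1 (F.pts.conj 0)
  have hgQ : g * z * g⁻¹ ∈ Q := hg ▸ F.pts.mem 0
  have hgz : g * z * g⁻¹ ≠ z := hg ▸ (F.pts.ne 0).2
  have P := pair_of_conj hJ.l hgQ hgz (by rw [hJ.cardQ])
  set Q' := Q.map (MulAut.conj g).toMonoidHom
  set z' := g * z * g⁻¹
  have hz'0 : a 0 = z' := hg.symm
  have hback : ∀ x ∈ Q', g⁻¹ * x * g ∈ Q := by
    rintro _ ⟨y, hy, rfl⟩
    simpa [mul_assoc] using hy
  set w := g⁻¹ * z * g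
  have hwQ : w ∈ Q := hback z P.zQ'
  have hww : w * w = 1 := by
    show g⁻¹ * z * g * (g⁻¹ * z * g) = 1
    rw [show g⁻¹ * z * g * (g⁻¹ * z * g) = g⁻¹ * (z * z) * g by group, F.ext.zz]; group
  have hw1 : w ≠ 1 := fun e => F.ext.ne_one (by
    calc z = g * w * g⁻¹ := by show z = g * (g⁻¹ * z * g) * g⁻¹; group
      _ = 1 := by rw [e]; group)
  have hwz : w ≠ z := fun e => hgz (by
    calc g * z * g⁻¹ = g * w * g⁻¹ := by rw [e]
      _ = z := by show g * (g⁻¹ * z * g) * g⁻¹ = z; group)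
  -- squares in `C'`
  have hsqC : ∀ c ∈ Q', c * z = z * c → c ∉ Q → c * c = z' := by
    intro c hc hcz hcQ
    refine (P.h'.sq c hc).resolve_left fun e => hcQ ?_
    have hy : g⁻¹ * c * g * (g⁻¹ * c * g) = 1 := by
      rw [show g⁻¹ * c * g * (g⁻¹ * c * g) = g⁻¹ * (c * c) * g by group, e]; group
    have hyc : g⁻¹ * c * g * w = w * (g⁻¹ * c * g) := by
      show g⁻¹ * c * g * (g⁻¹ * z * g) = g⁻¹ * z * g * (g⁻¹ * c * g)
      calc _ = g⁻¹ * (c * z) * g := by group
        _ = _ := by rw [hcz]; group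
    have hc' : c = g * (g⁻¹ * c * g) * g⁻¹ := by group
    have hzw : g * w * g⁻¹ = z := by show g * (g⁻¹ * z * g) * g⁻¹ = z; group
    rcases F.commuting_invol hwQ (hback c hc) hww hy hw1 hwz hyc with e' | e' | e' | e' <;>
      rw [hc', e']
    · simp
    · exact hgQ
    · rw [hzw]; exact hJ.l.mem
    · rw [show g * (z * w) * g⁻¹ = (g * z * g⁻¹) * (g * w * g⁻¹) by group, hzw]
      exact Q.mul_mem hgQ hJ.l.mem
  -- lifting the four-group
  haveI : Fintype G := Fintype.ofFinite G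
  have hcardC : Nat.card ↥(Q' ⊓ centralizer ({z} : Set G)) = 16 := by
    obtain ⟨y, hy, ey⟩ := P.h'.partner z P.zQ' P.h.ne_one (Ne.symm hgz)
    set C := Q' ⊓ centralizer ({z} : Set G)
    have hidx : (C.subgroupOf Q').index = 2 := by
      refine Subgroup.index_eq_two_iff.2 ⟨⟨y, hy⟩, fun b => ?_⟩
      have hmem : ∀ t : G, t ∈ Q' → (t ∈ C ↔ t * z * t⁻¹ = z) := fun t ht => by
        rw [Subgroup.mem_inf, mem_centralizer_singleton_iff]
        exact ⟨fun e => mul_inv_eq_iff_eq_mul.2 e.2, fun e => ⟨ht, mul_inv_eq_iff_eq_mul.1 e⟩⟩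
      simp only [mem_subgroupOf, Subgroup.coe_mul]
      rw [hmem _ (Q'.mul_mem b.2 hy), hmem _ b.2]
      have hbz : ∀ v : G, (b : G) * (z' * v) * (b : G)⁻¹ = z' * ((b : G) * v * (b : G)⁻¹) :=
        fun v => by rw [← mul_assoc (b : G) z', P.h'.comm _ b.2]; group
      rw [show (b : G) * y * z * ((b : G) * y)⁻¹ = (b : G) * (y * z * y⁻¹) * (b : G)⁻¹ by group,
        ey, hbz]
      rcases P.h'.conj _ b.2 z P.zQ' with e | e <;> rw [e]
      · exact Or.inr ⟨rfl, P.h'.toExt.z_mul_ne z⟩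
      · exact Or.inl ⟨P.h'.toExt.z_mul_z_mul z, P.h'.toExt.z_mul_ne z⟩
    have hQ' : Nat.card Q' = 32 := by
      rw [Subgroup.card_map_of_injective (MulAut.conj g).injective, hJ.cardQ]
    have := (C.subgroupOf Q').card_mul_index
    rw [hidx, hQ', Nat.card_congr (subgroupOfEquivOfLe inf_le_left).toEquiv] at this
    show Nat.card ↥(Q' ⊓ centralizer ({z} : Set G)) = 16
    omega
  have hlift : ∀ τ : Equiv.Perm (Fin 5), τ * τ = 1 → τ 0 = 0 → Equiv.Perm.sign τ = 1 →
      ∃ c ∈ Q', c * z = z * c ∧ Acts z a c τ := by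
    intro τ₀ t1 t2 t3
    set C := Q' ⊓ centralizer ({z} : Set G)
    have hC : ∀ c : C, ∃ σ, Acts z a (c : G) σ := fun c =>
      exists_acts hJ F.pts (mem_centralizer_singleton_iff.1 c.2.2)
    choose π hπ using hC
    have hfix0 : ∀ c : C, π c 0 = 0 := fun c => by
      refine same_inj hJ F.pts ((hπ c).2 0) (Or.inl ?_)
      rw [hz'0, P.h'.comm _ c.2.1, mul_inv_cancel_right]
    have hQV : ∀ c : C, π c = 1 → (c : G) ∈ P.V := fun c hc => by
      have hcQ : (c : G) ∈ Q := F.mem_Q (hc ▸ hπ c)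
      have he : (c : G) ∈ P.E := ⟨hcQ, c.2.1⟩
      have hcom : (c : G) * a 0 = a 0 * (c : G) := by rw [hz'0]; exact P.h'.comm _ c.2.1
      rw [P.mem_V]
      rcases F.commuting_invol (F.pts.mem 0) hcQ (F.pts.sq 0) (P.E_sq he) (F.pts.ne 0).1
        (F.pts.ne 0).2 hcom with e | e | e | e
      · exact Or.inl e
      · exact Or.inr (Or.inl e)
      · exact Or.inr (Or.inr (Or.inl (e.trans hz'0)))
      · exact Or.inr (Or.inr (Or.inr (by rw [e, hz'0])))
    have h2 : ∀ c : C, π c * π c = 1 := fun c => by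
      refine F.acts_eq_one (acts_mul hJ F.pts (hπ c) (hπ c)) ?_
      rcases P.h'.sq _ c.2.1 with e | e <;> rw [e]
      exacts [Q.one_mem, hgQ]
    let T : Finset (Equiv.Perm (Fin 5)) :=
      Finset.univ.filter fun τ => τ * τ = 1 ∧ τ 0 = 0 ∧ Equiv.Perm.sign τ = 1
    have hT : T.card = 4 := by decide +kernel
    have himg : Finset.univ.image π ⊆ T := fun τ hτ => by
      obtain ⟨c, -, rfl⟩ := Finset.mem_image.1 hτ
      exact Finset.mem_filter.2 ⟨Finset.mem_univ _, h2 c, hfix0 c, F.even (hπ c)⟩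
    have hfib : ∀ τ ∈ Finset.univ.image π, (Finset.univ.filter fun c => π c = τ).card ≤ 4 := by
      intro τ hτ
      obtain ⟨d, -, rfl⟩ := Finset.mem_image.1 hτ
      refine (Finset.card_le_card_of_injOn (fun c : C => (d : G)⁻¹ * c)
        (t := ({1, z, z', z * z'} : Finset G)) (fun c hc => ?_) fun c _ c' _ e =>
          Subtype.ext (mul_left_cancel e)).trans ((Finset.card_insert_le _ _).trans
          (Nat.add_le_add_right ((Finset.card_insert_le _ _).trans
            (Nat.add_le_add_right Finset.card_le_two 1)) 1))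
      have e : π (d⁻¹ * c) = 1 := by
        refine acts_unique hJ F.pts (hπ (d⁻¹ * c)) ?_
        have := acts_mul hJ F.pts (acts_inv hJ F.pts (hπ d)) (hπ c)
        rw [(Finset.mem_filter.1 hc).2, inv_mul_cancel] at this
        exact this
      simpa using P.mem_V.1 (hQV _ e)
    have h16 : (Finset.univ : Finset C).card = 16 := by
      rw [Finset.card_univ, ← Nat.card_eq_fintype_card]; exact hcardC
    have hle := Finset.card_le_mul_card_image (Finset.univ : Finset C) (f := π) 4 hfib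
    have heq : Finset.univ.image π = T :=
      Finset.eq_of_subset_of_card_le himg (by omega)
    have : τ₀ ∈ Finset.univ.image π := heq ▸ Finset.mem_filter.2 ⟨Finset.mem_univ _, t1, t2, t3⟩
    obtain ⟨c, -, rfl⟩ := Finset.mem_image.1 this
    exact ⟨c, c.2.1, mem_centralizer_singleton_iff.1 c.2.2, hπ c⟩
  obtain ⟨c₀, hc₀, hc₀z, ac₀⟩ := hlift σ0 (by decide) (by decide) (by decide)
  obtain ⟨c₁, hc₁, hc₁z, ac₁⟩ := hlift σ1 (by decide) (by decide) (by decide)
  have n₀ : c₀ ∉ Q := fun h => absurd (F.acts_eq_one ac₀ h) (by decide)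
  have n₁ : c₁ ∉ Q := fun h => absurd (F.acts_eq_one ac₁ h) (by decide)
  have n₂ : c₀ * c₁ ∉ Q := fun h =>
    absurd (F.acts_eq_one (acts_mul hJ F.pts ac₀ ac₁) h) (by decide)
  have s₀ := hsqC c₀ hc₀ hc₀z n₀
  have s₁ := hsqC c₁ hc₁ hc₁z n₁
  have hzz := P.hzz'
  have anti' : c₁ * c₀ = z' * c₀ * c₁ := by
    rcases P.h'.conj c₁ hc₁ c₀ hc₀ with e | e
    · exfalso
      have e' := mul_inv_eq_iff_eq_mul.1 e
      have h2 := hsqC _ (Q'.mul_mem hc₀ hc₁) ((show Commute c₀ z from hc₀z).mul_left hc₁z).eq n₂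
      rw [show c₀ * c₁ * (c₀ * c₁) = c₀ * (c₁ * c₀) * c₁ by group, e',
        show c₀ * (c₀ * c₁) * c₁ = (c₀ * c₀) * (c₁ * c₁) by group, s₀, s₁, P.h'.zz] at h2
      exact P.h'.ne_one h2.symm
    · exact mul_inv_eq_iff_eq_mul.1 e
  -- pairs
  have pairC : ∀ p q : Fin 5, p ≠ q → p ≠ 0 → q ≠ 0 →
      a p * a q ∈ Q ∧ (a p * a q) * z' = z' * (a p * a q) := by
    intro p q hpq h0 h0'
    refine ⟨Q.mul_mem (F.pts.mem p) (F.pts.mem q), ?_⟩
    rw [← hz'0]
    refine mul_inv_eq_iff_eq_mul.1 ?_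
    have := sig_mul hJ F.pts (sig_point hJ F.pts p) (sig_point hJ F.pts q) (F.comm_z (F.pts.mem p)) 0
    simpa [Ne.symm h0, Ne.symm h0'] using this
  have moved : ∀ {c : G} {τ : Equiv.Perm (Fin 5)}, c ∈ Q' → c * z = z * c → c * c = z' →
      Acts z a c τ → ∀ {p q : Fin 5}, p ≠ q → p ≠ 0 → q ≠ 0 → τ p ≠ p → τ p ≠ q →
      c * (a p * a q) * c⁻¹ = z * z' * (a p * a q) := by
    intro c τ hc hcz hcc hτ p q hpq h0 h0' t1 t2
    obtain ⟨hdQ, hdz⟩ := pairC p q hpq h0 h0'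
    set d := a p * a q
    have hd := sig_mul hJ F.pts (sig_point hJ F.pts p) (sig_point hJ F.pts q) (F.comm_z (F.pts.mem p))
    set v := c * d * c⁻¹ * d⁻¹
    have hv : v ∈ P.V := by
      have hvQ : v ∈ Q := Q.mul_mem (hJ.l.norm c hcz d hdQ) (Q.inv_mem hdQ)
      have hvQ' : v ∈ Q' := by
        show c * d * c⁻¹ * d⁻¹ ∈ Q'
        rw [show c * d * c⁻¹ * d⁻¹ = c * (d * c⁻¹ * d⁻¹) by group]
        exact Q'.mul_mem hc (P.h'.norm d hdz _ (Q'.inv_mem hc))
      have he : v ∈ P.E := ⟨hvQ, hvQ'⟩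
      have hcom : v * a 0 = a 0 * v := by rw [hz'0]; exact P.h'.comm _ hvQ'
      rw [P.mem_V]
      rcases F.commuting_invol (F.pts.mem 0) hvQ (F.pts.sq 0) (P.E_sq he) (F.pts.ne 0).1
        (F.pts.ne 0).2 hcom with e | e | e | e
      · exact Or.inl e
      · exact Or.inr (Or.inl e)
      · exact Or.inr (Or.inr (Or.inl (e.trans hz'0)))
      · exact Or.inr (Or.inr (Or.inr (by rw [e, hz'0])))
    have hvd : c * d * c⁻¹ = v * d := by show c * d * c⁻¹ = c * d * c⁻¹ * d⁻¹ * d; group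
    have hnot : v ≠ 1 ∧ v ≠ z := by
      constructor <;> intro e
      · rw [e, one_mul] at hvd
        have := sig_unique hJ F.pts (hvd ▸ sig_conj hJ F.pts hτ hd (F.comm_z hdQ)) hd
        have h' := congrFun this (τ p)
        simp [t1, t2, hpq] at h'
      · refine F.no_z hcz (F.pts.mem 0) (F.pts.sq 0) (F.pts.ne 0).1 (F.pts.ne 0).2
          (hcc.trans hz'0.symm) hdQ (by rw [hz'0]; exact hdz) ?_
        rw [← e]; exact hvd
    rcases P.mem_V.1 hv with e | e | e | e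
    · exact absurd e hnot.1
    · exact absurd e hnot.2
    · exfalso
      -- pulled back to `Q`
      have key := F.no_z (h := g⁻¹ * d * g) (w := w) (y := g⁻¹ * c * g) ?_ hwQ hww hw1 hwz ?_
        (hback c hc) ?_
      · apply key
        have hcd : c * d = z' * d * c := by
          rw [← e]; show c * d = c * d * c⁻¹ * d⁻¹ * d * c; group
        have hdc : d * c = z' * (c * d) := by rw [hcd, mul_assoc z' d c, P.h'.toExt.z_mul_z_mul]
        calc g⁻¹ * d * g * (g⁻¹ * c * g) * (g⁻¹ * d * g)⁻¹ = g⁻¹ * (d * c) * d⁻¹ * g := by group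
          _ = z * (g⁻¹ * c * g) := by rw [hdc]; show _ = z * (g⁻¹ * c * g); simp [z']; group
      · show g⁻¹ * d * g * z = z * (g⁻¹ * d * g)
        calc g⁻¹ * d * g * z = g⁻¹ * (d * z') * g := by simp only [z']; group
          _ = g⁻¹ * (z' * d) * g := by rw [hdz]
          _ = _ := by simp only [z']; group
      · show g⁻¹ * d * g * (g⁻¹ * d * g) = g⁻¹ * z * g
        rw [show g⁻¹ * d * g * (g⁻¹ * d * g) = g⁻¹ * (d * d) * g by group, F.pair_sq hpq]
      · show g⁻¹ * c * g * (g⁻¹ * z * g) = g⁻¹ * z * g * (g⁻¹ * c * g)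
        calc _ = g⁻¹ * (c * z) * g := by group
          _ = _ := by rw [hcz]; group
    · rw [hvd, e]
  have fixed : c₀ * (a 1 * a 2) * c₀⁻¹ = a 1 * a 2 := by
    have h1 := ac₀.2 1
    have e2 : c₀ * (c₀ * a 1 * c₀⁻¹) * c₀⁻¹ = z * a 1 := by
      rw [show c₀ * (c₀ * a 1 * c₀⁻¹) * c₀⁻¹ = (c₀ * c₀) * a 1 * (c₀ * c₀)⁻¹ by group, s₀, ← hz'0]
      exact F.pts.anti 0 1 (by decide)
    have e3 : a 2 * a 1 = z * (a 1 * a 2) := by
      rw [← mul_assoc, ← F.pts.anti 2 1 (by decide)]; group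
    have hzc : ∀ x : G, c₀ * (z * x) * c₀⁻¹ = z * (c₀ * x * c₀⁻¹) := fun x => by
      rw [← mul_assoc c₀ z, hc₀z]; group
    rw [show σ0 1 = 2 from rfl] at h1
    rw [show c₀ * (a 1 * a 2) * c₀⁻¹ = (c₀ * a 1 * c₀⁻¹) * (c₀ * a 2 * c₀⁻¹) by group]
    rcases h1 with e' | e' <;> rw [e'] at e2 ⊢
    · rw [e2, ← mul_assoc, F.comm_z (F.pts.mem 2), mul_assoc, e3, F.ext.z_mul_z_mul]
    · rw [hzc] at e2
      rw [mul_left_cancel e2, mul_assoc, e3, F.ext.z_mul_z_mul]
  set c := a 1 * a 3 with hcdef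
  set d := a 1 * a 2 with hddef
  have m₀ : c₀ * c * c₀⁻¹ = z * z' * c :=
    moved hc₀ hc₀z s₀ ac₀ (by decide) (by decide) (by decide) (by decide) (by decide)
  have m₁ : c₁ * c * c₁⁻¹ = z * z' * c :=
    moved hc₁ hc₁z s₁ ac₁ (by decide) (by decide) (by decide) (by decide) (by decide)
  have m₁' : c₁ * d * c₁⁻¹ = z * z' * d :=
    moved hc₁ hc₁z s₁ ac₁ (by decide) (by decide) (by decide) (by decide) (by decide)
  obtain ⟨hcQ, hcz'⟩ := pairC 1 3 (by decide) (by decide) (by decide)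
  obtain ⟨hdQ, hdz'⟩ := pairC 1 2 (by decide) (by decide) (by decide)
  have hc2 : c * c = z := F.pair_sq (by decide)
  have hd2 : d * d = z := F.pair_sq (by decide)
  have hdc : d * c = z * c * d := by
    have hd := sig_mul hJ F.pts (sig_point hJ F.pts 1) (sig_point hJ F.pts 2) (F.comm_z (F.pts.mem 1))
    refine mul_inv_eq_iff_eq_mul.1 ?_
    calc d * c * d⁻¹ = (d * a 1 * d⁻¹) * (d * a 3 * d⁻¹) := by rw [hcdef]; group
      _ = z * a 1 * a 3 := by rw [hddef, hd 1, hd 3]; simp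
      _ = z * c := by rw [hcdef, mul_assoc]
  have sqgen : ∀ {x y : G}, x ∈ Q → x * z' = z' * x → x * x = z → y * y = z' →
      y * x * y⁻¹ = z * z' * x → x * y * (x * y) = 1 := by
    intro x y hx hxz hxx hyy e
    calc x * y * (x * y) = x * (y * x * y⁻¹) * (y * y) := by group
      _ = (x * z) * (z' * x) * z' := by rw [e, hyy]; group
      _ = z * (x * (z' * x)) * z' := by rw [F.comm_z hx]; group
      _ = z * (x * (x * z')) * z' := by rw [hxz]
      _ = z * (x * x) * (z' * z') := by group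
      _ = 1 := by rw [hxx, F.ext.zz, P.h'.zz, one_mul]
  refine ⟨a, c * c₀, d * c₁, F, sqgen hcQ hcz' hc2 s₀ m₀, sqgen hdQ hdz' hd2 s₁ m₁', ?_, ?_, ?_,
    ?_, ?_⟩
  · have e0 : c₀ * d = d * c₀ := mul_inv_eq_iff_eq_mul.1 fixed
    have e1 : c₁ * c = z * z' * c * c₁ := mul_inv_eq_iff_eq_mul.1 m₁
    have cz : Commute c z := F.comm_z hcQ
    have dz : Commute d z := F.comm_z hdQ
    have cz' : Commute c z' := hcz'
    have dz' : Commute d z' := hdz'
    symm
    calc d * c₁ * (c * c₀) = d * (c₁ * c) * c₀ := by group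
      _ = d * (z * z') * c * (c₁ * c₀) := by rw [e1]; group
      _ = (z * z') * (d * c) * (z' * c₀ * c₁) := by rw [(dz.mul_right dz').eq, anti']; group
      _ = (z * z') * z * ((c * d) * z') * (c₀ * c₁) := by rw [hdc]; group
      _ = (z * z') * z * (z' * (c * d)) * (c₀ * c₁) := by rw [(cz'.mul_left dz').eq]
      _ = z * (z' * z) * z' * (c * d) * (c₀ * c₁) := by group
      _ = (z * z) * (z' * z') * (c * d) * (c₀ * c₁) := by rw [← hzz]; group
      _ = c * (d * c₀) * c₁ := by rw [F.ext.zz, P.h'.zz]; group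
      _ = c * c₀ * (d * c₁) := by rw [← e0]; group
  · simpa using acts_mul hJ F.pts (acts_of_mem hJ F.pts hcQ) ac₀
  · simpa using acts_mul hJ F.pts (acts_of_mem hJ F.pts hdQ) ac₁
  · rw [hz'0]; exact ((show Commute c z' from hcz').mul_left (P.h'.comm _ hc₀)).eq
  · rw [hz'0]; exact ((show Commute d z' from hdz').mul_left (P.h'.comm _ hc₁)).eq

end Cfsg.Agent.J2TypeFour79
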