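import Cfsg.Agent.Lib.J2TypeCent79

/-!
# Groups of Hall–Janko type: the transfer kernel in `C(u)`

`K` has one class of involutions with four-group centralizers, so it has order `60` or `12`;
in the first case it is alternating of degree five and `C(u) = W × K`.
-/

set_option autoImplicit false

namespace Cfsg.Agent.J2TypeKernel79

open Subgroup Cfsg.Agent.LargeExtraspecial Cfsg.Agent.J2TypePoints79 Cfsg.Agent.J2TypeAction79
open Cfsg.Agent.J2TypeFour79 Cfsg.Agent.J2TypeClasses79 Cfsg.Agent.J2TypeCyc79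
open Cfsg.Agent.J2TypeCent79

variable {G : Type*} [Group G] [Finite G] {Q : Subgroup G} {z : G} {a : Fin 5 → G} {u u' y : G}

section

variable {C : Cyc Q z a u u' y} {K : Subgroup G} (hK : Kern C K)
include hK

theorem V_le_K : V z a ≤ K := fun v hv => (hK.inf v (V_le_D C.loc hv)).2 hv

theorem z_mem_K : z ∈ K := V_le_K hK (z_mem_V C.loc)

omit hK in
/-- Involutions of `C(u)` are conjugate into `D` there. -/
theorem invol_cent (C : Cyc Q z a u u' y) {t : G} (htu : t * u = u * t) (ht : t * t = 1) :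
    ∃ c, c * u = u * c ∧ c * t * c⁻¹ ∈ D z u := by
  haveI : Fact (Nat.Prime 2) := ⟨Nat.prime_two⟩
  set Cu := centralizer ({u} : Set G)
  have hDC : D z u ≤ Cu := inf_le_right
  have hD2 : IsPGroup 2 ↥(D z u) := fun t => ⟨1, by
    rw [pow_one, pow_two]; exact Subtype.ext (D_sq C.loc t.2)⟩
  obtain ⟨S, hS⟩ := (hD2.of_equiv (subgroupOfEquivOfLe hDC).symm).exists_le_sylow
  have hSD : (S : Subgroup Cu).map Cu.subtype = D z u :=
    sylow_eq C (S.isPGroup'.map _)
      (by rintro _ ⟨s, -, rfl⟩; exact mem_centralizer_singleton_iff.1 s.2)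
      (fun t ht => ⟨⟨t, hDC ht⟩, hS ht, rfl⟩)
  let tc : Cu := ⟨t, mem_centralizer_singleton_iff.2 htu⟩
  have hp : IsPGroup 2 ↥(zpowers tc) := by
    intro x
    obtain ⟨i, hi⟩ := x.2
    refine ⟨1, Subtype.ext ?_⟩
    show (x : Cu) ^ (2 ^ 1) = 1
    rw [← hi, pow_one, pow_two, ← (Commute.refl tc).mul_zpow,
      show tc * tc = 1 from Subtype.ext ht, one_zpow]
  obtain ⟨S', hS'⟩ := hp.exists_le_sylow
  obtain ⟨g, rfl⟩ := MulAction.exists_smul_eq Cu S S'
  have hm : tc ∈ ((g • S : Sylow 2 Cu) : Subgroup Cu) := hS' (mem_zpowers tc)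
  rw [Sylow.coe_subgroup_smul, Subgroup.mem_pointwise_smul_iff_inv_smul_mem] at hm
  have e : (MulAut.conj g)⁻¹ • tc = g⁻¹ * tc * g := by
    rw [← map_inv, MulAut.smul_def, MulAut.conj_apply, inv_inv]
  rw [e] at hm
  refine ⟨((g⁻¹ : Cu) : G), mem_centralizer_singleton_iff.1 (g⁻¹).2, ?_⟩
  rw [← hSD]
  exact ⟨g⁻¹ * tc * g, hm, by simp [tc]⟩

theorem conj_V {t : G} (htK : t ∈ K) (ht : t * t = 1) : ∃ k ∈ K, k * t * k⁻¹ ∈ V z a := by
  obtain ⟨c, hc, hD⟩ := invol_cent C (hK.le t htK) ht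
  obtain ⟨w, hw, hwc⟩ := hK.decomp c hc
  refine ⟨w * c, hwc, ?_⟩
  have e : w * c * t * (w * c)⁻¹ = c * t * c⁻¹ := by
    rw [show w * c * t * (w * c)⁻¹ = w * (c * t * c⁻¹) * w⁻¹ by group,
      D_comm C.loc hw.1 hD, mul_inv_cancel_right]
  rw [e, ← hK.inf _ hD]
  exact hK.normal c hc t htK

theorem cent_mem_V {v k : G} (hv : v ∈ V z a) (h1 : v ≠ 1) (hk : k ∈ K) (hc : k * v = v * k) :
    k ∈ V z a :=
  (hK.inf k (centralizer_pair C hv h1 hc (hK.le k hk))).1 hk

theorem conj_z {t : G} (htK : t ∈ K) (ht : t * t = 1) (h1 : t ≠ 1) :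
    ∃ k ∈ K, k * t * k⁻¹ = z := by
  obtain ⟨k, hk, hv⟩ := conj_V hK htK ht
  rcases (mem_V C.loc).1 hv with e | e | e | e
  · exact absurd (conj_eq_one_iff.1 e) h1
  · exact ⟨k, hk, e⟩
  · refine ⟨y⁻¹ * k, K.mul_mem (K.inv_mem hK.ymem) hk, ?_⟩
    rw [show y⁻¹ * k * t * (y⁻¹ * k)⁻¹ = y⁻¹ * (k * t * k⁻¹) * y by group, e, ← C.yz]; group
  · refine ⟨y * k, K.mul_mem hK.ymem hk, ?_⟩
    rw [show y * k * t * (y * k)⁻¹ = y * (k * t * k⁻¹) * y⁻¹ by group, e, y_za C]

/-- `N_K(V)`. -/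
def M (_hK : Kern C K) : Subgroup G := normalizer (V z a : Set G) ⊓ K

theorem y_norm : y ∈ normalizer (V z a : Set G) :=
  mem_normalizer_fintype fun _ hv => y_V C hv

theorem M_cases {k : G} (hk : k ∈ K) (hz : k * z * k⁻¹ ∈ V z a) :
    ∃ j : Fin 3, (y ^ (j : ℕ))⁻¹ * k ∈ V z a := by
  obtain ⟨j, hj⟩ := norm_cases C (hK.le k hk) hz
  exact ⟨j, (hK.inf _ hj).1 (K.mul_mem (K.inv_mem (K.pow_mem hK.ymem _)) hk)⟩

theorem mem_M {k : G} : k ∈ M hK ↔ k ∈ K ∧ k * z * k⁻¹ ∈ V z a := by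
  constructor
  · intro h
    exact ⟨h.2, (mem_normalizer_iff.1 h.1 z).1 (z_mem_V C.loc)⟩
  · rintro ⟨hk, hz⟩
    obtain ⟨j, hj⟩ := M_cases hK hk hz
    have : k = y ^ (j : ℕ) * ((y ^ (j : ℕ))⁻¹ * k) := by group
    rw [this]
    exact mul_mem ⟨pow_mem (y_norm hK) _, K.pow_mem hK.ymem _⟩
      ⟨le_normalizer hj, V_le_K hK hj⟩

theorem y_pow_eq_one {j : Fin 3} {v : G} (hv : v ∈ V z a) (h : y ^ (j : ℕ) = v) : j = 0 := by
  by_contra hj
  have h1 : y ^ (j : ℕ) = 1 := TransferPow.eq_one_of_pow_eq_one_of_coprime (m := 2) (n := 3)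
    (by rw [pow_two, h, V_sq C.loc hv])
    (by rw [← pow_mul, mul_comm, pow_mul, y_pow C, one_pow]) (by norm_num)
  have := orderOf_dvd_of_pow_eq_one h1
  rw [C.ord] at this
  exact hj (Fin.ext (Nat.eq_zero_of_dvd_of_lt this j.isLt))

theorem card_M : Nat.card ↥(M hK) = 12 := by
  let f : Fin 3 × ↥(V z a) → ↥(M hK) := fun p => ⟨y ^ (p.1 : ℕ) * p.2,
    mul_mem ⟨pow_mem (y_norm hK) _, K.pow_mem hK.ymem _⟩ ⟨le_normalizer p.2.2, V_le_K hK p.2.2⟩⟩
  have hf : Function.Bijective f := by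
    constructor
    · rintro ⟨i, v⟩ ⟨j, w⟩ e
      have e' : y ^ (i : ℕ) * (v : G) = y ^ (j : ℕ) * w := congrArg Subtype.val e
      have key : ∀ {i j : Fin 3} {v w : G}, v ∈ V z a → w ∈ V z a → (i : ℕ) ≤ j →
          y ^ (i : ℕ) * v = y ^ (j : ℕ) * w → i = j := by
        intro i j v w hv hw hle e
        have h : y ^ ((⟨(j : ℕ) - i, by omega⟩ : Fin 3) : ℕ) = v * w⁻¹ := by
          show y ^ ((j : ℕ) - i) = v * w⁻¹
          refine mul_left_cancel (a := y ^ (i : ℕ)) ?_
          rw [← pow_add, Nat.add_sub_cancel' hle, ← mul_assoc, e, mul_inv_cancel_right]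
        have := congrArg Fin.val (y_pow_eq_one hK (mul_mem hv (inv_mem hw)) h)
        simp only [Fin.val_zero] at this
        exact Fin.ext (by omega)
      obtain rfl : i = j := by
        rcases le_total (i : ℕ) j with h | h
        · exact key v.2 w.2 h e'
        · exact (key w.2 v.2 h e'.symm).symm
      rw [Subtype.ext (mul_left_cancel e')]
    · rintro ⟨k, hk⟩
      obtain ⟨j, hj⟩ := M_cases hK hk.2 ((mem_M hK).1 hk).2
      exact ⟨(j, ⟨_, hj⟩), Subtype.ext (mul_inv_cancel_left _ _)⟩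
  rw [← Nat.card_eq_of_bijective f hf, Nat.card_prod, Nat.card_fin, card_V C.loc]

theorem invol_M {m : G} (hm : m ∈ M hK) (h2 : m * m = 1) : m ∈ V z a := by
  obtain ⟨j, hj⟩ := M_cases hK hm.2 ((mem_M hK).1 hm).2
  set v := (y ^ (j : ℕ))⁻¹ * m
  have hm' : m = y ^ (j : ℕ) * v := (mul_inv_cancel_left _ _).symm
  have hv' : (y ^ (j : ℕ))⁻¹ * v * y ^ (j : ℕ) ∈ V z a :=
    (mem_normalizer_iff''.1 (pow_mem (y_norm hK) _) v).1 hj
  have e2 : y ^ (j : ℕ) * y ^ (j : ℕ) * ((y ^ (j : ℕ))⁻¹ * v * y ^ (j : ℕ) * v) = 1 := by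
    rw [← h2, hm']; group
  have h4 := eq_inv_of_mul_eq_one_left e2
  have hj0 : y ^ (j : ℕ) = 1 := by
    refine TransferPow.eq_one_of_pow_eq_one_of_coprime (m := 4) (n := 3) ?_
      (by rw [← pow_mul, mul_comm, pow_mul, y_pow C, one_pow]) (by norm_num)
    rw [show 4 = 2 * 2 from rfl, pow_mul, pow_two (y ^ (j : ℕ)), h4, pow_two,
      V_sq C.loc (inv_mem (mul_mem hv' hj))]
  rw [hm', hj0, one_mul]
  exact hj

theorem card_cases : (Nat.card K = 60 ∧ Nat.card {t : K // orderOf t = 2} = 15) ∨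
    (Nat.card K = 12 ∧ ∀ k ∈ K, k * z * k⁻¹ ∈ V z a) := by
  classical
  let zk : K := ⟨z, z_mem_K hK⟩
  have hz2 : orderOf zk = 2 := by rw [← Subgroup.orderOf_coe]; exact C.loc.fr.hJ.l.orderOf_z
  have hconjz : ∀ t : K, orderOf t = 2 → ∃ k : K, k * t * k⁻¹ = zk := by
    intro t ht
    obtain ⟨k, hk, e⟩ := conj_z hK t.2
      (by have := pow_orderOf_eq_one t; rw [ht, pow_two] at this; exact congrArg Subtype.val this)
      (fun e => by rw [show t = 1 from Subtype.ext e, orderOf_one] at ht; omega)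
    exact ⟨⟨k, hk⟩, Subtype.ext e⟩
  have hconj : ∀ s t : K, orderOf s = 2 → orderOf t = 2 → IsConj s t := by
    intro s t hs ht
    obtain ⟨k, hk⟩ := hconjz s hs
    obtain ⟨l, hl⟩ := hconjz t ht
    exact (isConj_iff.2 ⟨k, hk⟩).trans (isConj_iff.2 ⟨l, hl⟩).symm
  have hFC : FourCentralizer.FourCentralizers K := by
    intro t ht
    obtain ⟨k, hk⟩ := hconjz t ht
    have hmem : ∀ x : K, x ∈ centralizer ({t} : Set K) → ((k * x * k⁻¹ : K) : G) ∈ V z a := by
      intro x hx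
      refine cent_mem_V hK (z_mem_V C.loc) (z_ne C) (k * x * k⁻¹).2 ?_
      show ((k * x * k⁻¹ : K) : G) * (zk : G) = (zk : G) * ((k * x * k⁻¹ : K) : G)
      rw [← Subgroup.coe_mul, ← Subgroup.coe_mul, ← hk]
      have hx' := mem_centralizer_singleton_iff.1 hx
      congr 1
      calc k * x * k⁻¹ * (k * t * k⁻¹) = k * (x * t) * k⁻¹ := by group
        _ = _ := by rw [hx']; group
    refine ⟨?_, fun x hx => ?_⟩
    · let f : ↥(centralizer ({t} : Set K)) → ↥(V z a) := fun x => ⟨_, hmem x x.2⟩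
      have hf : Function.Bijective f := by
        constructor
        · intro x x' e
          have e' : k * (x : K) * k⁻¹ = k * (x' : K) * k⁻¹ := Subtype.ext (congrArg (fun w : ↥(V z a) => (w : G)) e)
          exact Subtype.ext (mul_left_cancel (mul_right_cancel e'))
        · rintro ⟨v, hv⟩
          let vk : K := ⟨v, V_le_K hK hv⟩
          have hc : vk * zk = zk * vk :=
            Subtype.ext (C.loc.fr.comm_z (V_le_Q C.loc hv))
          refine ⟨⟨k⁻¹ * vk * k, mem_centralizer_singleton_iff.2 ?_⟩, Subtype.ext ?_⟩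
          · calc k⁻¹ * vk * k * t = k⁻¹ * (vk * (k * t * k⁻¹)) * k := by group
              _ = k⁻¹ * (zk * vk) * k := by rw [hk, hc]
              _ = _ := by rw [← hk]; group
          · show ((k * (k⁻¹ * vk * k) * k⁻¹ : K) : G) = v
            rw [show k * (k⁻¹ * vk * k) * k⁻¹ = vk by group]
      rw [Nat.card_eq_of_bijective f hf, card_V C.loc]
    · have h1 := V_sq C.loc (hmem x hx)
      have h2 : k * x * k⁻¹ * (k * x * k⁻¹) = 1 := Subtype.ext h1
      rw [show k * x * k⁻¹ * (k * x * k⁻¹) = k * (x * x) * k⁻¹ by group, conj_eq_one_iff] at h2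
      rw [pow_two, h2]
  by_cases h3 : Nat.card {t : K // orderOf t = 2} = 3
  · refine Or.inr ?_
    have hall : ∀ k ∈ K, k * z * k⁻¹ ∈ V z a := by
      intro k hk
      let f : {v : ↥(V z a) // v ≠ 1} → {t : K // orderOf t = 2} := fun v =>
        ⟨⟨v.1, V_le_K hK v.1.2⟩, orderOf_eq_prime
          (by rw [pow_two]; exact Subtype.ext (V_sq C.loc v.1.2))
          fun e => v.2 (Subtype.ext (congrArg Subtype.val e :))⟩
      have hf : Function.Injective f := fun v w e => Subtype.ext (Subtype.ext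
        (congrArg (fun t : {t : K // orderOf t = 2} => ((t.1 : K) : G)) e :))
      have hb : Function.Bijective f := (Nat.bijective_iff_injective_and_card f).2 ⟨hf, by
        rw [h3]
        have hV4 := card_V C.loc
        haveI := Fintype.ofFinite ↥(V z a)
        rw [Nat.card_eq_fintype_card] at hV4 ⊢
        simp [Fintype.card_subtype_compl, hV4]⟩
      let kk : K := ⟨k, hk⟩
      obtain ⟨v, hv⟩ := hb.2 ⟨kk * zk * kk⁻¹, orderOf_eq_prime
        (by
          rw [pow_two, show kk * zk * kk⁻¹ * (kk * zk * kk⁻¹) = kk * (zk * zk) * kk⁻¹ by group,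
            show zk * zk = 1 from Subtype.ext C.loc.fr.ext.zz]
          group)
        fun e => z_ne C (congrArg Subtype.val (conj_eq_one_iff.1 e))⟩
      have e := congrArg (fun t : {t : K // orderOf t = 2} => ((t.1 : K) : G)) hv
      show ((kk * zk * kk⁻¹ : K) : G) ∈ V z a
      exact e ▸ v.1.2
    refine ⟨?_, hall⟩
    have : M hK = K := le_antisymm inf_le_right fun k hk => (mem_M hK).2 ⟨hk, hall k hk⟩
    rw [← card_M hK, this]
  · exact Or.inl (FourCentralizer.card_eq_sixty hFC hconj hz2 h3)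

variable (h60 : Nat.card K = 60)
include h60

theorem not_le_M : ¬ ∀ k ∈ K, k * z * k⁻¹ ∈ V z a := by
  intro hall
  have : M hK = K := le_antisymm inf_le_right fun k hk => (mem_M hK).2 ⟨hk, hall k hk⟩
  have h := card_M hK
  rw [this] at h
  omega

theorem card_invol : Nat.card {t : K // orderOf t = 2} = 15 :=
  (card_cases hK).elim (·.2) fun h => absurd h.1 (by omega)

/-- An involution of `K` inverting `y`. -/
theorem exists_inverting : ∃ t ∈ K, t * t = 1 ∧ t * y * t⁻¹ = y⁻¹ ∧ t ∉ M hK ∧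
    ∀ c ∈ K, c * y = y * c → ∃ j : Fin 3, c = y ^ (j : ℕ) := by
  classical
  haveI : Fact (Nat.Prime 3) := ⟨Nat.prime_three⟩
  haveI : Fact (Nat.Prime 2) := ⟨Nat.prime_two⟩
  let yk : K := ⟨y, hK.ymem⟩
  have hy3 : orderOf yk = 3 := by rw [← Subgroup.orderOf_coe]; exact C.ord
  let P : Subgroup K := zpowers yk
  have hP : Nat.card P = 3 := by rw [Nat.card_zpowers, hy3]
  let S : Sylow 3 K := Sylow.ofCard P (by
    rw [hP, h60, Nat.factorization_def _ Nat.prime_three, show (60 : ℕ) = 3 ^ 1 * 20 by norm_num,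
      padicValNat.mul (by norm_num) (by norm_num), padicValNat.prime_pow,
      padicValNat.eq_zero_of_not_dvd (by norm_num)]
    norm_num)
  have hSP : (S : Subgroup K) = P := rfl
  have hdvd : Nat.card (Sylow 3 K) ∣ 20 := by
    have h1 := S.card_dvd_index
    have h2 := P.card_mul_index
    rw [hP, h60] at h2
    rw [hSP] at h1
    rwa [show P.index = 20 by omega] at h1
  have hmod : Nat.card (Sylow 3 K) % 3 = 1 := card_sylow_modEq_one 3 K
  have hn : Nat.card (Sylow 3 K) = 10 := by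
    by_contra hne
    have hle : Nat.card (Sylow 3 K) ≤ 4 := by
      have := Nat.le_of_dvd (by norm_num) hdvd
      generalize Nat.card (Sylow 3 K) = n at *
      interval_cases n <;> omega
    -- the four conjugates under `V` are all the Sylow subgroups
    let f : ↥(V z a) → Sylow 3 K := fun v => (⟨v, V_le_K hK v.2⟩ : K) • S
    have hf : Function.Injective f := by
      intro v w e
      let vk : K := ⟨v, V_le_K hK v.2⟩
      let wk : K := ⟨w, V_le_K hK w.2⟩
      have h1 : wk⁻¹ * vk ∈ normalizer (P : Set K) := by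
        refine (Sylow.smul_eq_iff_mem_normalizer (P := S)).1 ?_
        rw [mul_smul]
        exact inv_smul_eq_iff.2 e
      have h2 := (mem_normalizer_iff.1 h1 yk).1 (mem_zpowers yk)
      set x : G := (w : G)⁻¹ * v
      have hx : x ∈ V z a := mul_mem (inv_mem w.2) v.2
      obtain ⟨i, hi⟩ := h2
      have hi' : y ^ i = x * y * x⁻¹ := congrArg Subtype.val hi
      have hc : y ^ i * y⁻¹ = x * (y * x⁻¹ * y⁻¹) := by rw [hi']; group
      have hV : y ^ i * y⁻¹ ∈ V z a := hc ▸ mul_mem hx (y_V C (inv_mem hx))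
      have h1' : y ^ i * y⁻¹ = 1 := by
        rw [show y ^ i * y⁻¹ = y ^ (i - 1) by group] at hV ⊢
        refine TransferPow.eq_one_of_pow_eq_one_of_coprime (m := 2) (n := 3)
          (by rw [pow_two, V_sq C.loc hV]) ?_ (by norm_num)
        rw [← zpow_natCast, ← zpow_mul, mul_comm, zpow_mul, zpow_natCast, y_pow C, one_zpow]
      rw [h1'] at hc
      have hxy : y * x⁻¹ * y⁻¹ = x⁻¹ := eq_inv_of_mul_eq_one_right hc.symm
      have hx1 : x = 1 := by
        by_contra h1
        have hyV := cent_mem_V hK hx h1 hK.ymem (by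
          have := mul_inv_eq_iff_eq_mul.1 hxy
          have c := (show Commute y x⁻¹ from this).inv_right
          rw [inv_inv] at c
          exact c.eq)
        exact absurd (y_pow_eq_one hK (j := 1) hyV (pow_one y)) (by decide)
      exact Subtype.ext (inv_mul_eq_one.1 hx1).symm
    have hb : Function.Bijective f := (Nat.bijective_iff_injective_and_card f).2 ⟨hf, by
      have := Nat.card_le_card_of_injective f hf
      rw [card_V C.loc] at this ⊢
      omega⟩
    refine not_le_M hK h60 fun k hk => ?_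
    have hy' : ∀ g ∈ K, g * y * g⁻¹ ∈ M hK := by
      intro g hg
      obtain ⟨v, hv⟩ := hb.2 ((⟨g, hg⟩ : K) • S)
      have h1 : (⟨v, V_le_K hK v.2⟩ : K)⁻¹ * ⟨g, hg⟩ ∈ normalizer (P : Set K) := by
        refine (Sylow.smul_eq_iff_mem_normalizer (P := S)).1 ?_
        rw [mul_smul]
        exact inv_smul_eq_iff.2 hv.symm
      obtain ⟨i, hi⟩ := (mem_normalizer_iff.1 h1 yk).1 (mem_zpowers yk)
      have hi' : y ^ i = (v : G)⁻¹ * g * y * ((v : G)⁻¹ * g)⁻¹ := congrArg Subtype.val hi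
      rw [show g * y * g⁻¹ = (v : G) * y ^ i * (v : G)⁻¹ by rw [hi']; group]
      have hvM : (v : G) ∈ M hK := ⟨le_normalizer v.2, V_le_K hK v.2⟩
      exact mul_mem (mul_mem hvM (zpow_mem (show y ∈ M hK from ⟨y_norm hK, hK.ymem⟩) i)) (inv_mem hvM)
    have hcom : k * (a 0 * z) * k⁻¹ ∈ M hK := by
      have e : a 0 * z = y * (z * y⁻¹ * z⁻¹) := by rw [← C.yz, C.loc.fr.ext.inv_z]; group
      rw [e, show k * (y * (z * y⁻¹ * z⁻¹)) * k⁻¹ =
        (k * y * k⁻¹) * ((k * z) * y * (k * z)⁻¹)⁻¹ by group]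
      exact mul_mem (hy' k hk) (inv_mem (hy' _ (K.mul_mem hk (z_mem_K hK))))
    -- so every conjugate of `z` lies in `V`
    have haz : a 0 * z = y⁻¹ * z * y := by
      rw [C.loc.fr.comm_z (C.loc.fr.pts.mem 0)]
      calc z * a 0 = y⁻¹ * (y * (z * a 0) * y⁻¹) * y := by group
        _ = _ := by rw [y_za C]
    have hall : ∀ g ∈ K, g * (a 0 * z) * g⁻¹ ∈ V z a := by
      intro g hg
      refine invol_M hK ?_ ?_
      · have e : a 0 * z = y * (z * y⁻¹ * z⁻¹) := by rw [← C.yz, C.loc.fr.ext.inv_z]; group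
        rw [e, show g * (y * (z * y⁻¹ * z⁻¹)) * g⁻¹ =
          (g * y * g⁻¹) * ((g * z) * y * (g * z)⁻¹)⁻¹ by group]
        exact mul_mem (hy' g hg) (inv_mem (hy' _ (K.mul_mem hg (z_mem_K hK))))
      · rw [haz, show g * (y⁻¹ * z * y) * g⁻¹ * (g * (y⁻¹ * z * y) * g⁻¹) =
          g * y⁻¹ * (z * z) * y * g⁻¹ by group, C.loc.fr.ext.zz]
        group
    have := hall (k * y) (K.mul_mem hk hK.ymem)
    rwa [haz, show k * y * (y⁻¹ * z * y) * (k * y)⁻¹ = k * z * k⁻¹ by group] at this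
  set N := normalizer (P : Set K)
  have hN : Nat.card N = 6 := by
    have h1 := N.card_mul_index
    have h2 := S.card_eq_index_normalizer
    rw [hn] at h2
    change 10 = N.index at h2
    rw [h60, ← h2] at h1
    omega
  obtain ⟨t, ht⟩ := exists_prime_orderOf_dvd_card' (G := N) 2 (by rw [hN]; norm_num)
  rw [← Subgroup.orderOf_coe] at ht
  have ht1 : (t : K) ≠ 1 := fun e => by rw [e, orderOf_one] at ht; omega
  have htt : (t : K) * t = 1 := by have := pow_orderOf_eq_one (t : K); rwa [ht, pow_two] at this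
  have htG : ((t : K) : G) * (t : K) = 1 := congrArg Subtype.val htt
  have hnc : ∀ s : K, orderOf s = 2 → ¬ s * yk = yk * s := by
    intro s hs hc
    obtain ⟨k, hk, e⟩ := conj_z hK s.2
      (by have := pow_orderOf_eq_one s; rw [hs, pow_two] at this; exact congrArg Subtype.val this)
      (fun e => by rw [show s = 1 from Subtype.ext e, orderOf_one] at hs; omega)
    have hc' : (s : G) * y = y * s := congrArg Subtype.val hc
    have hV : k * y * k⁻¹ ∈ V z a := by
      refine cent_mem_V hK (z_mem_V C.loc) (z_ne C) (K.mul_mem (K.mul_mem hk hK.ymem) (K.inv_mem hk)) ?_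
      rw [← e]
      calc k * y * k⁻¹ * (k * s * k⁻¹) = k * (y * s) * k⁻¹ := by group
        _ = _ := by rw [← hc']; group
    have h2 := V_sq C.loc hV
    rw [show k * y * k⁻¹ * (k * y * k⁻¹) = k * (y * y) * k⁻¹ by group, conj_eq_one_iff] at h2
    have : orderOf y ∣ 2 := orderOf_dvd_of_pow_eq_one (by rw [pow_two, h2])
    rw [C.ord] at this
    norm_num at this
  have htne : ¬ (t : K) * yk = yk * t := hnc _ ht
  obtain ⟨i, hi⟩ := (mem_normalizer_iff.1 t.2 yk).1 (mem_zpowers yk)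
  have hinv : (t : K) * yk * (t : K)⁻¹ = yk⁻¹ := by
    have hi3 : yk ^ i = yk ^ (i % 3) := by
      rw [← zpow_mod_orderOf, hy3]; rfl
    have := Int.emod_nonneg i (show (3 : ℤ) ≠ 0 by norm_num)
    have := Int.emod_lt_of_pos i (show (0 : ℤ) < 3 by norm_num)
    have hi' : yk ^ i = (t : K) * yk * (t : K)⁻¹ := hi
    rw [← hi', hi3]
    rcases (show i % 3 = 0 ∨ i % 3 = 1 ∨ i % 3 = 2 by omega) with e | e | e <;> rw [e] at hi3 ⊢
    · rw [zpow_zero] at hi3
      rw [hi3] at hi'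
      have := conj_eq_one_iff.1 hi'.symm
      rw [this, orderOf_one] at hy3
      omega
    · rw [zpow_one] at hi3
      rw [hi3] at hi'
      exact absurd (mul_inv_eq_iff_eq_mul.1 hi'.symm) htne
    · refine eq_inv_of_mul_eq_one_left ?_
      rw [show (2 : ℤ) = ((2 : ℕ) : ℤ) from rfl, zpow_natCast, ← pow_succ]
      exact orderOf_dvd_iff_pow_eq_one.1 (dvd_of_eq hy3)
  refine ⟨((t : K) : G), (t : K).2, htG, congrArg Subtype.val hinv, fun hm => ?_, ?_⟩
  · have hv := invol_M hK hm htG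
    have hv1 : ((t : K) : G) ≠ 1 := fun e => ht1 (Subtype.ext e)
    -- an element of `V` does not invert `y`
    have e : ((t : K) : G) * y * ((t : K) : G)⁻¹ * y⁻¹ = y⁻¹ * y⁻¹ := by
      rw [show ((t : K) : G) * y * ((t : K) : G)⁻¹ = y⁻¹ from congrArg Subtype.val hinv]
    have hV : y⁻¹ * y⁻¹ ∈ V z a := by
      rw [← e, show ((t : K) : G) * y * ((t : K) : G)⁻¹ * y⁻¹ =
        ((t : K) : G) * (y * ((t : K) : G)⁻¹ * y⁻¹) by group]
      exact mul_mem hv (y_V C (inv_mem hv))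
    have hy2 : y ^ ((1 : Fin 3) : ℕ) = y⁻¹ * y⁻¹ := by
      rw [show ((1 : Fin 3) : ℕ) = 1 from rfl, pow_one]
      refine eq_mul_inv_of_mul_eq (eq_inv_of_mul_eq_one_left ?_)
      exact y3 C
    exact absurd (y_pow_eq_one hK hV hy2) (by decide)
  · intro c hc hcy
    set CC := centralizer ({yk} : Set K)
    have hle : CC ≤ N := fun x hx => by
      have := centralizer_le_normalizer (P : Set K)
      refine this (mem_centralizer_iff.2 fun w hw => ?_)
      obtain ⟨j, rfl⟩ := hw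
      exact ((show Commute yk x from (mem_centralizer_singleton_iff.1 hx).symm).zpow_left j).eq
    have h3 : P ≤ CC := zpowers_le.2 (mem_centralizer_singleton_iff.2 rfl)
    have hd1 : Nat.card CC ∣ 6 := hN ▸ card_dvd_of_le hle
    have hd2 : 3 ∣ Nat.card CC := hP ▸ card_dvd_of_le h3
    have hne : Nat.card CC ≠ 6 := fun e => by
      have heq : CC = N := eq_of_le_of_card_ge hle (by rw [hN, e])
      exact htne (mem_centralizer_singleton_iff.1 (show (t : K) ∈ CC by rw [heq]; exact t.2))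
    have hC3 : Nat.card CC = 3 := by
      have := Nat.le_of_dvd (by norm_num) hd1
      generalize Nat.card CC = m at *
      interval_cases m <;> omega
    have heq : P = CC := eq_of_le_of_card_ge h3 (by rw [hP, hC3])
    have hcm : (⟨c, hc⟩ : K) ∈ P := heq ▸ mem_centralizer_singleton_iff.2 (Subtype.ext hcy)
    obtain ⟨j, hj⟩ := hcm
    have hj' : y ^ j = c := congrArg Subtype.val hj
    refine ⟨⟨(j % 3).toNat, by omega⟩, ?_⟩
    show c = y ^ (j % 3).toNat
    rw [← zpow_natCast, Int.toNat_of_nonneg (Int.emod_nonneg j (by norm_num)), ← hj',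
      ← zpow_mod_orderOf, C.ord]
    rfl

/-- `W` centralises `K`. -/
theorem W_comm {w k : G} (hw : w ∈ W C) (hk : k ∈ K) : w * k = k * w := by
  obtain ⟨t, htK, htt, hty, htM, hcent⟩ := exists_inverting hK h60
  have hwu : w * u = u * w := (mem_D.1 hw.1).2
  have hwy : w * y = y * w := ((mem_W C).1 hw).2
  have hwy' : w * y * w⁻¹ = y := mul_inv_eq_iff_eq_mul.2 hwy
  set t' := w * t * w⁻¹
  have ht'K : t' ∈ K := hK.normal w hwu t htK
  have ht'y : t' * y * t'⁻¹ = y⁻¹ := by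
    calc t' * y * t'⁻¹ = w * (t * (w⁻¹ * y * w) * t⁻¹) * w⁻¹ := by simp only [t']; group
      _ = w * (t * y * t⁻¹) * w⁻¹ := by rw [mul_assoc w⁻¹ y w, ← hwy, inv_mul_cancel_left]
      _ = (w * y * w⁻¹)⁻¹ := by rw [hty]; group
      _ = y⁻¹ := by rw [hwy']
  obtain ⟨j, hj⟩ := hcent (t' * t) (K.mul_mem ht'K htK) (mul_inv_eq_iff_eq_mul.1 (by
    rw [show t' * t * y * (t' * t)⁻¹ = t' * (t * y * t⁻¹) * t'⁻¹ by group, hty,
      show t' * y⁻¹ * t'⁻¹ = (t' * y * t'⁻¹)⁻¹ by group, ht'y, inv_inv]))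
  have htt' : t⁻¹ = t := inv_eq_of_mul_eq_one_right htt
  have e1 : w * t * w⁻¹ = y ^ (j : ℕ) * t := by
    show t' = _
    rw [← hj, mul_assoc t' t t, htt, mul_one]
  have hw2 : w * w = 1 := W_sq C hw
  have hwp : w * y ^ (j : ℕ) * w⁻¹ = y ^ (j : ℕ) :=
    mul_inv_eq_iff_eq_mul.2 ((show Commute w y from hwy).pow_right _).eq
  have e2 : t = y ^ (j : ℕ) * (y ^ (j : ℕ) * t) := by
    calc t = (w * w) * t * (w * w)⁻¹ := by rw [hw2]; simp
      _ = w * (w * t * w⁻¹) * w⁻¹ := by group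
      _ = w * (y ^ (j : ℕ) * t) * w⁻¹ := by rw [e1]
      _ = (w * y ^ (j : ℕ) * w⁻¹) * (w * t * w⁻¹) := by group
      _ = _ := by rw [hwp, e1]
  have hj0 : y ^ (j : ℕ) = 1 := by
    refine TransferPow.eq_one_of_pow_eq_one_of_coprime (m := 2) (n := 3) ?_
      (by rw [← pow_mul, mul_comm, pow_mul, y_pow C, one_pow]) (by norm_num)
    rw [← mul_assoc] at e2
    rw [pow_two]
    exact mul_eq_right.1 e2.symm
  rw [hj0, one_mul] at e1
  set S := K ⊓ centralizer ({w} : Set G)
  have hMS : M hK ≤ S := by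
    intro m hm
    refine ⟨hm.2, mem_centralizer_singleton_iff.2 ?_⟩
    obtain ⟨i, hi⟩ := M_cases hK hm.2 ((mem_M hK).1 hm).2
    have c1 : Commute w (y ^ (i : ℕ)) := (show Commute w y from hwy).pow_right _
    have c2 : Commute w ((y ^ (i : ℕ))⁻¹ * m) := D_comm C.loc hw.1 (V_le_D C.loc hi)
    have := c1.mul_right c2
    rw [mul_inv_cancel_left] at this
    exact this.eq.symm
  have htS : t ∈ S := ⟨htK, mem_centralizer_singleton_iff.2 (mul_inv_eq_iff_eq_mul.1 e1).symm⟩
  have hne : Nat.card S ≠ 12 := fun e =>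
    htM (eq_of_le_of_card_ge hMS (by rw [e, card_M hK]) ▸ htS)
  have hd1 : 12 ∣ Nat.card S := card_M hK ▸ card_dvd_of_le hMS
  have hd2 : Nat.card S ∣ 60 := h60 ▸ card_dvd_of_le inf_le_left
  have hS : S = K := eq_of_le_of_card_ge inf_le_left (by
    rw [h60]
    obtain ⟨m, hm⟩ := hd1
    rw [hm] at hd2 hne ⊢
    have hm5 : m ∣ 5 := (Nat.mul_dvd_mul_iff_left (by norm_num : 0 < 12)).1 hd2
    rcases (Nat.dvd_prime (by norm_num : Nat.Prime 5)).1 hm5 with rfl | rfl <;> omega)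
  exact (mem_centralizer_singleton_iff.1 ((hS.symm ▸ hk : k ∈ S).2)).symm

/-- `K` is alternating of degree five. -/
theorem nonempty_equiv_alt : Nonempty (↥K ≃* ↥(alternatingGroup (Fin 5))) := by
  classical
  set N := (M hK).subgroupOf K
  have hNidx : N.index = 5 := by
    have h1 := N.card_mul_index
    rw [Nat.card_congr (subgroupOfEquivOfLe (show M hK ≤ K from inf_le_right)).toEquiv, card_M hK,
      h60] at h1
    omega
  let e : (K ⧸ N) ≃ Fin 5 := Finite.equivFinOfCardEq hNidx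
  let φ : K →* Equiv.Perm (Fin 5) :=
    (e.permCongrHom.toMonoidHom).comp (MulAction.toPermHom K (K ⧸ N))
  have hker : ∀ k : K, k ∈ N.normalCore → k = 1 := by
    intro k hk
    have h15 := card_invol hK h60
    have hkM : ∀ g : K, g * k * g⁻¹ ∈ N := fun g => hk g
    -- no involution in the core
    have hnoinv : ∀ s ∈ N.normalCore, s * s = 1 → s = 1 := by
      intro s hs hss
      by_contra hs1
      refine not_le_M hK h60 fun g hg => ?_
      obtain ⟨c, hc, e'⟩ := conj_z hK s.2 (congrArg Subtype.val hss) fun e' => hs1 (Subtype.ext e')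
      have hgs : (⟨g, hg⟩ * ⟨c, hc⟩ : K) * s * (⟨g, hg⟩ * ⟨c, hc⟩ : K)⁻¹ ∈ N := hs _
      have hmem : g * c * (s : G) * (g * c)⁻¹ ∈ M hK := hgs
      rw [show g * c * (s : G) * (g * c)⁻¹ = g * (c * s * c⁻¹) * g⁻¹ by group, e'] at hmem
      exact invol_M hK hmem (by
        rw [show g * z * g⁻¹ * (g * z * g⁻¹) = g * (z * z) * g⁻¹ by group, C.loc.fr.ext.zz]; group)
    -- a commutator with `z` lies in the core and is an involution or trivial
    have hkN : k ∈ N := by simpa using hkM 1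
    have hN : (k : G) ∈ M hK := hkN
    obtain ⟨j, hj⟩ := M_cases hK hN.2 ((mem_M hK).1 hN).2
    let zk : K := ⟨z, z_mem_K hK⟩
    have hcom : k * zk * k⁻¹ * zk⁻¹ ∈ N.normalCore := by
      rw [show k * zk * k⁻¹ * zk⁻¹ = k * (zk * k⁻¹ * zk⁻¹) by group]
      exact mul_mem hk ((inferInstance : N.normalCore.Normal).conj_mem _ (inv_mem hk) zk)
    have hv : ((k * zk * k⁻¹ * zk⁻¹ : K) : G) ∈ V z a :=
      mul_mem ((mem_M hK).1 hN).2 (inv_mem (z_mem_V C.loc))
    have h1 := hnoinv _ hcom (Subtype.ext (V_sq C.loc hv))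
    have hkz : (k : G) * z = z * k := by
      have : ((k * zk * k⁻¹ * zk⁻¹ : K) : G) = 1 := congrArg Subtype.val h1
      exact mul_inv_eq_iff_eq_mul.1 (mul_inv_eq_one.1 this)
    exact hnoinv k hk (Subtype.ext (V_sq C.loc (cent_mem_V hK (z_mem_V C.loc) (z_ne C) k.2 hkz)))
  have hinj : Function.Injective φ := by
    refine (injective_iff_map_eq_one φ).2 fun k hk => hker k ?_
    rw [Subgroup.normalCore_eq_ker, MonoidHom.mem_ker]
    exact e.permCongrHom.injective (hk.trans (map_one _).symm)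
  have hr : φ.range = alternatingGroup (Fin 5) := by
    apply Equiv.Perm.eq_alternatingGroup_of_index_eq_two
    have h2 := φ.range.card_mul_index
    rw [← Nat.card_congr (MonoidHom.ofInjective hinj).toEquiv, h60, Nat.card_perm, Nat.card_fin] at h2
    simp [Nat.factorial] at h2
    omega
  exact ⟨(MonoidHom.ofInjective hinj).trans (MulEquiv.subgroupCongr hr)⟩

end

end Cfsg.Agent.J2TypeKernel79
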