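import Cfsg.Agent.Lib.J2TypeOrder79
import Cfsg.Agent.Lib.HallCore

/-!
# Groups of Hall–Janko type: `C(u) = W × K` and the normalizer of `W`
-/

set_option autoImplicit false

namespace Cfsg.Agent.J2TypeNorm79

open Subgroup Cfsg.Agent.LargeExtraspecial Cfsg.Agent.J2TypePoints79 Cfsg.Agent.J2TypeAction79
open Cfsg.Agent.J2TypeFour79 Cfsg.Agent.J2TypeClasses79 Cfsg.Agent.J2TypeCyc79
open Cfsg.Agent.J2TypeCent79 Cfsg.Agent.J2TypeKernel79 Cfsg.Agent.J2TypeOrder79

variable {G : Type*} [Group G] [Finite G] {Q : Subgroup G} {z : G} {a : Fin 5 → G} {u u' y : G}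

/-- Two commuting subgroups meeting trivially that cover `N` give `N ≃* A × B`. -/
theorem nonempty_prod {G : Type*} [Group G] {A B N : Subgroup G} (hA : A ≤ N) (hB : B ≤ N)
    (hcomm : ∀ p ∈ A, ∀ q ∈ B, p * q = q * p) (hinf : ∀ p ∈ A, p ∈ B → p = 1)
    (hcov : ∀ n ∈ N, ∃ p ∈ A, ∃ q ∈ B, n = p * q) : Nonempty (↥N ≃* ↥A × ↥B) := by
  let f : ↥A × ↥B →* ↥N := MonoidHom.noncommCoprod (Subgroup.inclusion hA) (Subgroup.inclusion hB)
    fun p q => Subtype.ext (hcomm p p.2 q q.2)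
  have hf : Function.Bijective f := by
    constructor
    · rintro ⟨p, q⟩ ⟨p', q'⟩ e
      have e' : (p : G) * q = p' * q' := congrArg Subtype.val e
      have h : (p' : G)⁻¹ * p = q' * (q : G)⁻¹ := by
        calc (p' : G)⁻¹ * p = (p' : G)⁻¹ * (p * q) * (q : G)⁻¹ := by group
          _ = _ := by rw [e']; group
      have h1 : (p' : G)⁻¹ * p = 1 := hinf _ (mul_mem (inv_mem p'.2) p.2)
        (h ▸ mul_mem q'.2 (inv_mem q.2))
      obtain rfl : p' = p := Subtype.ext (inv_mul_eq_one.1 h1)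
      rw [Subtype.ext (mul_left_cancel e')]
    · rintro ⟨n, hn⟩
      obtain ⟨p, hp, q, hq, rfl⟩ := hcov n hn
      exact ⟨(⟨p, hp⟩, ⟨q, hq⟩), rfl⟩
  exact ⟨(MulEquiv.ofBijective f hf).symm⟩

theorem centralizer_conj {G : Type*} [Group G] (g x : G) : centralizer ({g * x * g⁻¹} : Set G) =
    (centralizer ({x} : Set G)).map (MulAut.conj g).toMonoidHom := by
  ext w
  simp only [mem_map, mem_centralizer_singleton_iff, MulEquiv.coe_toMonoidHom, MulAut.conj_apply]
  constructor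
  · intro hw
    refine ⟨g⁻¹ * w * g, ?_, by group⟩
    calc g⁻¹ * w * g * x = g⁻¹ * (w * (g * x * g⁻¹)) * g := by group
      _ = _ := by rw [hw]; group
  · rintro ⟨w, hw, rfl⟩
    calc g * w * g⁻¹ * (g * x * g⁻¹) = g * (w * x) * g⁻¹ := by group
      _ = _ := by rw [hw]; group

section

variable (C : Cyc Q z a u u' y) {K : Subgroup G} (hK : Kern C K) (h60 : Nat.card K = 60)
include C hK h60

theorem K_le : K ≤ centralizer ({u} : Set G) := fun k hk =>
  mem_centralizer_singleton_iff.2 (hK.le k hk)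

omit hK h60 in
theorem W_le : W C ≤ centralizer ({u} : Set G) := fun _ hw => hw.1.2

theorem cent_equiv_prod : Nonempty (↥(centralizer ({u} : Set G)) ≃* ↥(W C) × ↥K) :=
  nonempty_prod (W_le C) (K_le C hK h60) (fun _ hw _ hk => W_comm hK h60 hw hk)
    (fun _ hw hk => W_inf C hK hw hk) fun c hc => by
      obtain ⟨w, hw, hwc⟩ := hK.decomp c (mem_centralizer_singleton_iff.1 hc)
      refine ⟨w⁻¹, inv_mem hw, w * c, hwc, by group⟩

theorem cent_equiv : Nonempty (↥(centralizer ({u} : Set G)) ≃*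
    (Multiplicative (ZMod 2) × Multiplicative (ZMod 2)) × alternatingGroup (Fin 5)) := by
  obtain ⟨e⟩ := cent_equiv_prod C hK h60
  obtain ⟨k⟩ := nonempty_equiv_alt hK h60
  have h2 : ∀ w : ↥(W C), w ^ 2 = 1 := fun w => by rw [pow_two]; exact Subtype.ext (W_sq C w.2)
  haveI : IsKleinFour ↥(W C) := ⟨card_W C, by
    refine Nat.dvd_antisymm (Monoid.exponent_dvd_of_forall_pow_eq_one h2) ?_
    have := Monoid.order_dvd_exponent (⟨u, u_mem_W C⟩ : ↥(W C))
    rwa [← Subgroup.orderOf_coe, orderOf_u C.loc] at this⟩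
  haveI : IsKleinFour (Multiplicative (ZMod 2) × Multiplicative (ZMod 2)) := ⟨by simp, by
    rw [Monoid.exponent_prod]
    simp⟩
  obtain ⟨w⟩ := IsKleinFour.nonempty_mulEquiv (G₁ := ↥(W C))
    (G₂ := Multiplicative (ZMod 2) × Multiplicative (ZMod 2))
  exact ⟨e.trans (w.prodCongr k)⟩

theorem pCore_eq : (Cfsg.pCore 2 ↥(centralizer ({u} : Set G))).map
    (centralizer ({u} : Set G)).subtype = W C := by
  haveI : Fact (Nat.Prime 2) := ⟨Nat.prime_two⟩
  haveI : IsSimpleGroup ↥(alternatingGroup (Fin 5)) := alternatingGroup.isSimpleGroup_five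
  obtain ⟨k⟩ := nonempty_equiv_alt hK h60
  haveI : Nontrivial ↥K := k.toEquiv.nontrivial
  haveI : IsSimpleGroup ↥K := IsSimpleGroup.isSimpleGroup_of_surjective k.symm.toMonoidHom k.symm.surjective
  set Cu := centralizer ({u} : Set G)
  set Wc := (W C).subgroupOf Cu
  have hWn : Wc.Normal := ⟨fun w hw c => by
    obtain ⟨v, hv, hvc⟩ := hK.decomp c (mem_centralizer_singleton_iff.1 c.2)
    show (c : G) * (w : G) * (c : G)⁻¹ ∈ W C
    have e1 : v * c * (w : G) * (v * c)⁻¹ = w :=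
      mul_inv_eq_iff_eq_mul.2 (W_comm hK h60 hw hvc).symm
    have e2 : (c : G) * (w : G) * (c : G)⁻¹ = v⁻¹ * (v * c * (w : G) * (v * c)⁻¹) * v := by group
    rw [e2, e1]
    exact mul_mem (mul_mem (inv_mem hv) hw) hv⟩
  have hWp : IsPGroup 2 ↥Wc := fun w => ⟨1, Subtype.ext (Subtype.ext (by
    show ((w : Cu) : G) ^ (2 ^ 1) = 1
    rw [pow_one, pow_two]; exact W_sq C w.2))⟩
  refine le_antisymm ?_ fun w hw => ⟨⟨w, W_le C hw⟩, HallCore.le_pCore hWp hw, rfl⟩
  rintro _ ⟨p, hp, rfl⟩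
  obtain ⟨v, hv, hvp⟩ := hK.decomp p (mem_centralizer_singleton_iff.1 p.2)
  set P := Cfsg.pCore 2 ↥Cu
  let J : Subgroup ↥K := P.comap (Subgroup.inclusion (K_le C hK h60))
  have hJn : J.Normal := Subgroup.Normal.comap inferInstance _
  have hJ : J = ⊥ := by
    rcases hJn.eq_bot_or_eq_top with e | e
    · exact e
    · exfalso
      have hp2 : IsPGroup 2 ↥K := fun x => by
        have hx : Subgroup.inclusion (K_le C hK h60) x ∈ P := by
          have : x ∈ J := e ▸ mem_top x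
          exact this
        obtain ⟨n, hn⟩ := HallCore.isPGroup_pCore 2 ↥Cu ⟨_, hx⟩
        refine ⟨n, Subtype.ext ?_⟩
        exact congrArg (fun q : P => ((q : Cu) : G)) hn
      obtain ⟨n, hn⟩ := hp2.exists_card_eq
      rw [h60] at hn
      have : 3 ∣ 2 ^ n := hn ▸ (by norm_num)
      have := (Nat.prime_dvd_prime_iff_eq Nat.prime_three Nat.prime_two).1
        (Nat.prime_three.dvd_of_dvd_pow this)
      omega
  have hm : (⟨v * p, hvp⟩ : K) ∈ J :=
    P.mul_mem (HallCore.le_pCore hWp (show (⟨v, W_le C hv⟩ : Cu) ∈ Wc from hv)) hp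
  rw [hJ, mem_bot] at hm
  have e : v * (p : G) = 1 := congrArg Subtype.val hm
  show (p : G) ∈ W C
  rw [eq_inv_of_mul_eq_one_right e]
  exact inv_mem hv

theorem card_cent : Nat.card ↥(centralizer ({u} : Set G)) = 240 := by rw [hK.card, h60]

theorem u_type_W {w : G} (hw : w ∈ W C) (h1 : w ≠ 1) : IsConj u w :=
  (conj_cases C.loc (orderOf_eq_prime (by rw [pow_two, W_sq C hw]) h1)).resolve_left fun h =>
    h1 (W_inf C hK hw ((ztype_cent C hK (mem_D.1 hw.1).2 (W_sq C hw) h1).1 h))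

theorem cent_W_elt {w : G} (hw : w ∈ W C) (h1 : w ≠ 1) :
    centralizer ({w} : Set G) = centralizer ({u} : Set G) := by
  refine (eq_of_le_of_card_ge (fun c hc => ?_) ?_).symm
  · obtain ⟨v, hv, hvc⟩ := hK.decomp c (mem_centralizer_singleton_iff.1 hc)
    have h2 : Commute v w := D_comm C.loc hv.1 hw.1
    have h3 : Commute (v * c) w := (W_comm hK h60 hw hvc).symm
    have := h2.inv_left.mul_left h3
    rw [inv_mul_cancel_left] at this
    exact mem_centralizer_singleton_iff.2 this.eq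
  · obtain ⟨g, hg⟩ := isConj_iff.1 (u_type_W C hK h60 hw h1)
    rw [← hg, centralizer_conj, card_map_of_injective (MulAut.conj g).injective]

theorem K_eq_closure : K = closure {t : G | t ∈ K ∧ t * t = 1} := by
  haveI : IsSimpleGroup ↥(alternatingGroup (Fin 5)) := alternatingGroup.isSimpleGroup_five
  obtain ⟨k⟩ := nonempty_equiv_alt hK h60
  haveI : Nontrivial ↥K := k.toEquiv.nontrivial
  haveI : IsSimpleGroup ↥K := IsSimpleGroup.isSimpleGroup_of_surjective k.symm.toMonoidHom k.symm.surjective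
  set T := closure {t : G | t ∈ K ∧ t * t = 1}
  have hle : T ≤ K := (closure_le _).2 fun t ht => ht.1
  have hn : (T.subgroupOf K).Normal := ⟨fun t ht g => by
    show (g : G) * t * (g : G)⁻¹ ∈ T
    have : T ≤ T.comap (MulAut.conj (g : G)).toMonoidHom := by
      refine (closure_le _).2 fun s hs => subset_closure ⟨K.mul_mem (K.mul_mem g.2 hs.1) (K.inv_mem g.2), ?_⟩
      show (g : G) * s * (g : G)⁻¹ * ((g : G) * s * (g : G)⁻¹) = 1
      rw [show (g : G) * s * (g : G)⁻¹ * ((g : G) * s * (g : G)⁻¹) = g * (s * s) * (g : G)⁻¹ by group,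
        hs.2]
      group
    exact this ht⟩
  rcases hn.eq_bot_or_eq_top with e | e
  · exfalso
    have : (⟨z, z_mem_K hK⟩ : K) ∈ T.subgroupOf K :=
      subset_closure ⟨z_mem_K hK, C.loc.fr.ext.zz⟩
    rw [e, mem_bot] at this
    exact z_ne C (congrArg Subtype.val this)
  · exact le_antisymm (subgroupOf_eq_top.1 e) hle

theorem norm_K {n : G} (hn : n ∈ normalizer (W C : Set G)) {k : G} (hk : k ∈ K) :
    n * k * n⁻¹ ∈ K := by
  have hw : n⁻¹ * u * n ∈ W C := (mem_normalizer_iff''.1 hn u).1 (u_mem_W C)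
  have hw1 : n⁻¹ * u * n ≠ 1 := fun e => u_ne_one C.loc (by
    calc u = n * (n⁻¹ * u * n) * n⁻¹ := by group
      _ = 1 := by rw [e]; group)
  have : K ≤ K.comap (MulAut.conj n).toMonoidHom := by
    conv_lhs => rw [K_eq_closure C hK h60]
    refine (closure_le _).2 fun t ht => ?_
    show n * t * n⁻¹ ∈ K
    by_cases h1 : t = 1
    · simp [h1]
    have hc : t * (n⁻¹ * u * n) = n⁻¹ * u * n * t :=
      mem_centralizer_singleton_iff.1 (cent_W_elt C hK h60 hw hw1 ▸ K_le C hK h60 ht.1)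
    have h2 : n * t * n⁻¹ * (n * t * n⁻¹) = 1 := by
      rw [show n * t * n⁻¹ * (n * t * n⁻¹) = n * (t * t) * n⁻¹ by group, ht.2]; group
    refine (ztype_cent C hK ?_ h2 fun e => h1 (conj_eq_one_iff.1 e)).1 ?_
    · calc n * t * n⁻¹ * u = n * (t * (n⁻¹ * u * n)) * n⁻¹ := by group
        _ = _ := by rw [hc]; group
    · exact ((ztype_cent C hK (hK.le t ht.1) ht.2 h1).2 ht.1).trans (isConj_iff.2 ⟨n, rfl⟩)
  exact this hk

theorem norm_cases3 {g w : G} (hg : g ∈ normalizer (W C : Set G)) (hw : w ∈ W C) (hgu : g * u * g⁻¹ = w)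
    (hwu : w ≠ u) {n : G} (hn : n ∈ normalizer (W C : Set G)) :
    ∃ j : Fin 3, (g ^ (j : ℕ))⁻¹ * n ∈ centralizer ({u} : Set G) := by
  have hw1 : w ≠ 1 := fun e => u_ne_one C.loc (conj_eq_one_iff.1 (hgu.trans e))
  have key : ∀ m ∈ normalizer (W C : Set G), ∀ v ∈ W C, v ≠ 1 → m * v * m⁻¹ = v →
      m * u = u * m := by
    intro m _ v hv hv1 e
    have : m ∈ centralizer ({v} : Set G) :=
      mem_centralizer_singleton_iff.2 (mul_inv_eq_iff_eq_mul.1 e)
    rw [cent_W_elt C hK h60 hv hv1] at this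
    exact mem_centralizer_singleton_iff.1 this
  have hgw : g * w * g⁻¹ ∈ W C ∧ g * w * g⁻¹ ≠ 1 :=
    ⟨(mem_normalizer_iff.1 hg w).1 hw, fun e => hw1 (conj_eq_one_iff.1 e)⟩
  have hne : g * w * g⁻¹ ≠ w := fun e => hwu (by
    rw [← hgu, mul_inv_eq_iff_eq_mul]
    exact key g hg w hw hw1 e)
  have hne' : g * w * g⁻¹ ≠ u := fun e => by
    -- then `g * g` fixes `u`, so `g` fixes the third involution
    have h3 : g * (u * w) * g⁻¹ = w * u := by
      rw [show g * (u * w) * g⁻¹ = (g * u * g⁻¹) * (g * w * g⁻¹) by group, hgu, e]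
    have hcomm : u * w = w * u := D_comm C.loc (u_mem_D C) hw.1
    rw [← hcomm] at h3
    have huw : u * w ≠ 1 := fun e' => hwu (by
      rw [eq_inv_of_mul_eq_one_right e', invu C.loc])
    exact hwu (by
      rw [← hgu, mul_inv_eq_iff_eq_mul]
      exact key g hg _ (mul_mem (u_mem_W C) hw) huw h3)
  have hnu : n * u * n⁻¹ ∈ W C := (mem_normalizer_iff.1 hn u).1 (u_mem_W C)
  have hnu1 : n * u * n⁻¹ ≠ 1 := fun e => u_ne_one C.loc (conj_eq_one_iff.1 e)
  have hfin : ∀ j : ℕ, g ^ j * u * (g ^ j)⁻¹ = n * u * n⁻¹ →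
      (g ^ j)⁻¹ * n ∈ centralizer ({u} : Set G) := fun j e => by
    refine mem_centralizer_singleton_iff.2 ?_
    calc (g ^ j)⁻¹ * n * u = (g ^ j)⁻¹ * (n * u * n⁻¹) * n := by group
      _ = _ := by rw [← e]; group
  -- the four elements of `W`
  have hfour : n * u * n⁻¹ = u ∨ n * u * n⁻¹ = w ∨ n * u * n⁻¹ = g * w * g⁻¹ := by
    classical
    haveI := Fintype.ofFinite ↥(W C)
    by_contra hcon
    simp only [not_or] at hcon
    let S : Finset ↥(W C) := {1, ⟨u, u_mem_W C⟩, ⟨w, hw⟩, ⟨_, hgw.1⟩, ⟨_, hnu⟩}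
    have h5 : S.card = 5 := by
      simp only [S]
      rw [Finset.card_insert_of_notMem, Finset.card_insert_of_notMem, Finset.card_insert_of_notMem,
        Finset.card_insert_of_notMem, Finset.card_singleton]
      all_goals simp only [Finset.mem_insert, Finset.mem_singleton, Subtype.ext_iff, coe_one, not_or]
      · exact fun e => hcon.2.2 e.symm
      · exact ⟨hne.symm, fun e => hcon.2.1 e.symm⟩
      · exact ⟨hwu.symm, hne'.symm, fun e => hcon.1 e.symm⟩
      · exact ⟨(u_ne_one C.loc).symm, hw1.symm, hgw.2.symm, hnu1.symm⟩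
    have := Finset.card_le_univ S
    rw [h5, ← Nat.card_eq_fintype_card, card_W C] at this
    omega
  rcases hfour with e | e | e
  · exact ⟨0, hfin 0 (by rw [e]; simp)⟩
  · exact ⟨1, hfin 1 (by rw [e, pow_one, hgu])⟩
  · refine ⟨2, hfin 2 ?_⟩
    rw [e, pow_two, show g * g * u * (g * g)⁻¹ = g * (g * u * g⁻¹) * g⁻¹ by group, hgu]

/-- An element normalising `W`, moving `u` and centralising `K`. -/
theorem exists_mover : ∃ g, g ∈ normalizer (W C : Set G) ∧ g * u * g⁻¹ ∈ W C ∧ g * u * g⁻¹ ≠ u ∧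
    g ∈ centralizer (K : Set G) := by
  classical
  haveI := Fintype.ofFinite ↥(W C)
  obtain ⟨⟨w, hw⟩, hw1, hwu⟩ : ∃ w : ↥(W C), (w : G) ≠ 1 ∧ (w : G) ≠ u := by
    by_contra hno
    push Not at hno
    have hs : (Finset.univ : Finset ↥(W C)) ⊆ {1, ⟨u, u_mem_W C⟩} := fun w _ => by
      by_cases h : (w : G) = 1
      · simp [Subtype.ext_iff, h]
      · simp [Subtype.ext_iff, hno w h]
    have := (Finset.card_le_card hs).trans Finset.card_le_two
    rw [Finset.card_univ, ← Nat.card_eq_fintype_card, card_W C] at this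
    omega
  replace hwu : w ≠ u := hwu
  replace hw1 : w ≠ 1 := hw1
  obtain ⟨g, hgz, hgu⟩ := pair_conj C.loc (IsConj.refl z) (u_type_W C hK h60 hw hw1)
    (mem_D.1 hw.1).1.symm
  have hgz' : g * z = z * g := mul_inv_eq_iff_eq_mul.1 hgz
  have hCC : (centralizer ({u} : Set G)).map (MulAut.conj g).toMonoidHom =
      centralizer ({u} : Set G) := by
    rw [← centralizer_conj, hgu, cent_W_elt C hK h60 hw hw1]
  have hgW : g ∈ normalizer (W C : Set G) := by
    refine mem_normalizer_fintype fun v hv => ?_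
    by_cases hv1 : v = 1
    · subst hv1; simp
    have hvu : g * v * g⁻¹ * u = u * (g * v * g⁻¹) := by
      have hm : u ∈ (centralizer ({u} : Set G)).map (MulAut.conj g).toMonoidHom :=
        hCC.symm ▸ W_le C (u_mem_W C)
      obtain ⟨c, hc, e⟩ := hm
      have hc' : c ∈ centralizer ({v} : Set G) := (cent_W_elt C hK h60 hv hv1).symm ▸ hc
      have hcv := mem_centralizer_singleton_iff.1 hc'
      simp only [MulEquiv.coe_toMonoidHom, MulAut.conj_apply] at e
      rw [← e]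
      calc g * v * g⁻¹ * (g * c * g⁻¹) = g * (v * c) * g⁻¹ := by group
        _ = _ := by rw [← hcv]; group
    obtain ⟨p, hp, hpv⟩ := hK.decomp _ hvu
    -- the `K`-part is central in `K`
    set k := p * (g * v * g⁻¹)
    have hkc : ∀ x ∈ K, k * x = x * k := by
      intro x hx
      have hxm : x ∈ (centralizer ({u} : Set G)).map (MulAut.conj g).toMonoidHom :=
        hCC.symm ▸ K_le C hK h60 hx
      obtain ⟨c, hc, e⟩ := hxm
      have hc' : c ∈ centralizer ({v} : Set G) := (cent_W_elt C hK h60 hv hv1).symm ▸ hc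
      have hcv := mem_centralizer_singleton_iff.1 hc'
      simp only [MulEquiv.coe_toMonoidHom, MulAut.conj_apply] at e
      have h1 : Commute (g * v * g⁻¹) x := by
        rw [← e]
        show g * v * g⁻¹ * (g * c * g⁻¹) = g * c * g⁻¹ * (g * v * g⁻¹)
        calc g * v * g⁻¹ * (g * c * g⁻¹) = g * (v * c) * g⁻¹ := by group
          _ = _ := by rw [← hcv]; group
      exact ((show Commute p x from W_comm hK h60 hp hx).mul_left h1).eq
    have hkV : k ∈ V z a := cent_mem_V hK (z_mem_V C.loc) (z_ne C) hpv (hkc z (z_mem_K hK))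
    have hk1 : k = 1 := by
      have hkW : k ∈ W C := (mem_W C).2 ⟨V_le_D C.loc hkV, hkc y hK.ymem⟩
      exact W_inf C hK hkW hpv
    rw [eq_inv_of_mul_eq_one_right hk1]
    exact inv_mem hp
  -- `g` centralises `V`
  have hgD : ∀ t ∈ D z u, g * t * g⁻¹ ∈ D z u := by
    intro t ht
    refine mem_D.2 ⟨?_, ?_⟩
    · have c1 : Commute g z := hgz'
      exact ((c1.mul_left (mem_D.1 ht).1).mul_left c1.inv_left).eq
    · have hm : g * t * g⁻¹ ∈ (centralizer ({u} : Set G)).map (MulAut.conj g).toMonoidHom :=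
        ⟨t, mem_centralizer_singleton_iff.2 (mem_D.1 ht).2, rfl⟩
      exact mem_centralizer_singleton_iff.1 (hCC ▸ hm)
  have hga : g * a 0 = a 0 * g := by
    have hV := norm_D_V C hgD (a_mem_V C.loc)
    have h0 := C.loc.fr.pts.ne 0
    rcases (mem_V C.loc).1 hV with e | e | e | e
    · exact absurd (conj_eq_one_iff.1 e) h0.1
    · exfalso
      exact h0.2 (by
        have := mul_inv_eq_iff_eq_mul.1 e
        rw [← hgz'] at this
        exact mul_left_cancel this)
    · exact mul_inv_eq_iff_eq_mul.1 e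
    · exfalso
      -- `g ^ 3` centralises `u`, hence `V`
      obtain ⟨j, hj⟩ := norm_cases3 C hK h60 hgW hw hgu hwu (pow_mem hgW 3)
      have hw' := mem_centralizer_singleton_iff.1 hj
      fin_cases j
      · have h3 : g ^ 3 ∈ D z u := mem_D.2
          ⟨((show Commute g z from hgz').pow_left 3).eq, by simpa using hw'⟩
        have hc := D_cent_V C.loc h3
        have hz2 : ∀ x : G, g * (z * x) * g⁻¹ = z * (g * x * g⁻¹) := fun x => by
          rw [← mul_assoc g z, hgz']; group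
        have e3 : g ^ 3 * a 0 * (g ^ 3)⁻¹ = z * a 0 := by
          rw [show g ^ 3 = g * g * g by rw [pow_succ, pow_two],
            show g * g * g * a 0 * (g * g * g)⁻¹ = g * (g * (g * a 0 * g⁻¹) * g⁻¹) * g⁻¹ by group, e, hz2,
            e, C.loc.fr.ext.z_mul_z_mul, e]
        rw [mul_inv_eq_iff_eq_mul.2 hc] at e3
        exact C.loc.fr.ext.z_mul_ne _ e3.symm
      · have h2 : g * g * u = u * (g * g) := by
          have : (g ^ 1)⁻¹ * g ^ 3 = g * g := by
            rw [pow_one, pow_succ', inv_mul_cancel_left, pow_two]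
          have hw'' : (g ^ 1)⁻¹ * g ^ 3 * u = u * ((g ^ 1)⁻¹ * g ^ 3) := hw'
          rwa [this] at hw''
        have h3 : g * w * g⁻¹ = u := by
          rw [← hgu]
          calc g * (g * u * g⁻¹) * g⁻¹ = (g * g * u) * (g * g)⁻¹ := by group
            _ = u := by rw [h2, mul_inv_cancel_right]
        have hcomm : u * w = w * u := D_comm C.loc (u_mem_D C) hw.1
        have h4 : g * (u * w) * g⁻¹ = u * w := by
          rw [show g * (u * w) * g⁻¹ = (g * u * g⁻¹) * (g * w * g⁻¹) by group, hgu, h3, hcomm]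
        have huw : u * w ≠ 1 := fun e' => hwu (by rw [eq_inv_of_mul_eq_one_right e', invu C.loc])
        have h5 : g ∈ centralizer ({u * w} : Set G) :=
          mem_centralizer_singleton_iff.2 (mul_inv_eq_iff_eq_mul.1 h4)
        rw [cent_W_elt C hK h60 (mul_mem (u_mem_W C) hw) huw] at h5
        exact hwu (hgu.symm.trans (mul_inv_eq_iff_eq_mul.2 (mem_centralizer_singleton_iff.1 h5)))
      · have h2 : g * u = u * g := by
          have : (g ^ 2)⁻¹ * g ^ 3 = g := by rw [pow_succ g 2, inv_mul_cancel_left]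
          have hw'' : (g ^ 2)⁻¹ * g ^ 3 * u = u * ((g ^ 2)⁻¹ * g ^ 3) := hw'
          rwa [this] at hw''
        exact hwu (hgu.symm.trans (mul_inv_eq_iff_eq_mul.2 h2))
  -- adjust `g` to centralise `y`
  have hyK : g * y * g⁻¹ ∈ K := norm_K C hK h60 hgW hK.ymem
  have hcV : ∀ v ∈ V z a, g * v = v * g := fun v hv => comm_V C.loc hgz' hga hv
  set v₀ := y⁻¹ * (g * y * g⁻¹)
  have hv₀ : v₀ ∈ V z a := by
    refine cent_mem_V hK (z_mem_V C.loc) (z_ne C) (K.mul_mem (K.inv_mem hK.ymem) hyK) ?_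
    have e1 : g * a 0 * g⁻¹ = a 0 := mul_inv_eq_iff_eq_mul.2 hga
    calc v₀ * z = y⁻¹ * (g * (y * (g⁻¹ * z * g) * y⁻¹) * g⁻¹) * (g * y * g⁻¹) := by
          simp only [v₀]; group
      _ = y⁻¹ * (g * (y * z * y⁻¹) * g⁻¹) * (g * y * g⁻¹) := by
          rw [mul_assoc g⁻¹ z g, ← hgz', inv_mul_cancel_left]
      _ = y⁻¹ * (y * z * y⁻¹) * (g * y * g⁻¹) := by rw [C.yz, e1]
      _ = z * v₀ := by simp only [v₀]; group
  obtain ⟨v₁, hv₁, hv₁e⟩ : ∃ v ∈ V z a, y⁻¹ * v * y * v⁻¹ = v₀ := by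
    let f : ↥(V z a) → ↥(V z a) := fun v => ⟨y⁻¹ * v * y * (v : G)⁻¹, mul_mem
      ((mem_normalizer_iff''.1 (y_norm hK) v).1 v.2) (inv_mem v.2)⟩
    have hf : Function.Injective f := by
      intro v v' e
      have e' : y⁻¹ * (v : G) * y * (v : G)⁻¹ = y⁻¹ * v' * y * (v' : G)⁻¹ := congrArg Subtype.val e
      set d := (v' : G)⁻¹ * v
      have hd : d ∈ V z a := mul_mem (inv_mem v'.2) v.2
      have hc : y * d = d * y := by
        have h1 : (v' : G)⁻¹ * (y⁻¹ * v' * y) = (y⁻¹ * v' * y) * (v' : G)⁻¹ :=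
          D_comm C.loc (V_le_D C.loc (inv_mem v'.2))
            (V_le_D C.loc ((mem_normalizer_iff''.1 (y_norm hK) v').1 v'.2))
        have h2 : y⁻¹ * d * y = d := by
          calc y⁻¹ * d * y = (y⁻¹ * v' * y)⁻¹ * (y⁻¹ * v * y * (v : G)⁻¹) * v := by
                simp only [d]; group
            _ = (y⁻¹ * v' * y)⁻¹ * ((v' : G)⁻¹ * (y⁻¹ * v' * y)) * v := by rw [e', h1]
            _ = (y⁻¹ * v' * y)⁻¹ * ((y⁻¹ * v' * y) * (v' : G)⁻¹) * v := by rw [h1]
            _ = d := by simp only [d]; group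
        calc y * d = y * (y⁻¹ * d * y) := by rw [h2]
          _ = d * y := by group
      have hd1 : d = 1 := by
        by_contra hd1
        have hyV := cent_mem_V hK hd hd1 hK.ymem hc
        exact absurd (y_pow_eq_one hK (j := 1) hyV (pow_one y)) (by decide)
      exact Subtype.ext (inv_mul_eq_one.1 hd1).symm
    obtain ⟨⟨v, hv⟩, e⟩ := Finite.surjective_of_injective hf ⟨v₀, hv₀⟩
    exact ⟨v, hv, congrArg Subtype.val e⟩
  -- `v₁ * g` centralises `M` and hence `K`
  set h := v₁⁻¹ * g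
  have hhW : h ∈ normalizer (W C : Set G) :=
    mul_mem (inv_mem (centralizer_le_normalizer _ (mem_centralizer_iff.2 fun x hx =>
      D_comm C.loc hx.1 (V_le_D C.loc hv₁)))) hgW
  have hhu : h * u * h⁻¹ = w := by
    simp only [h]
    rw [show v₁⁻¹ * g * u * (v₁⁻¹ * g)⁻¹ = v₁⁻¹ * (g * u * g⁻¹) * v₁ by group, hgu,
      D_comm C.loc (inv_mem (V_le_D C.loc hv₁)) hw.1, inv_mul_cancel_right]
  have hhV : ∀ v ∈ V z a, h * v = v * h := fun v hv =>
    ((show Commute v₁ v from D_comm C.loc (V_le_D C.loc hv₁) (V_le_D C.loc hv)).inv_left.mul_left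
      (hcV v hv)).eq
  have hhy : h * y = y * h := by
    have e : g * y * g⁻¹ = y * v₀ := by simp only [v₀]; group
    refine mul_inv_eq_iff_eq_mul.1 ?_
    calc h * y * h⁻¹ = v₁⁻¹ * (g * y * g⁻¹) * v₁ := by simp only [h]; group
      _ = v₁⁻¹ * (y * (y⁻¹ * v₁ * y * v₁⁻¹)) * v₁ := by rw [e, hv₁e]
      _ = y := by group
  refine ⟨h, hhW, hhu.symm ▸ hw, fun e => hwu (hhu.symm.trans e), ?_⟩
  obtain ⟨t, htK, htt, hty, htM, hcent⟩ := exists_inverting hK h60
  have hhM : ∀ m ∈ M hK, h * m = m * h := by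
    intro m hm
    obtain ⟨i, hi⟩ := M_cases hK hm.2 ((mem_M hK).1 hm).2
    have c1 : Commute h (y ^ (i : ℕ)) := (show Commute h y from hhy).pow_right _
    have := c1.mul_right (show Commute h ((y ^ (i : ℕ))⁻¹ * m) from hhV _ hi)
    rw [mul_inv_cancel_left] at this
    exact this.eq
  have hyi : h * y⁻¹ * h⁻¹ = y⁻¹ :=
    mul_inv_eq_iff_eq_mul.2 (show Commute h y from hhy).inv_right.eq
  have ht'y : (h * t * h⁻¹) * y * (h * t * h⁻¹)⁻¹ = y⁻¹ := by
    calc (h * t * h⁻¹) * y * (h * t * h⁻¹)⁻¹ = h * (t * (h⁻¹ * y * h) * t⁻¹) * h⁻¹ := by group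
      _ = h * (t * y * t⁻¹) * h⁻¹ := by rw [mul_assoc h⁻¹ y h, ← hhy, inv_mul_cancel_left]
      _ = y⁻¹ := by rw [hty, hyi]
  have hδ : t⁻¹ * (h * t * h⁻¹) ∈ M hK := by
    have hK' : h * t * h⁻¹ ∈ K := norm_K C hK h60 hhW htK
    obtain ⟨j, hj⟩ := hcent (t⁻¹ * (h * t * h⁻¹)) (K.mul_mem (K.inv_mem htK) hK')
      (mul_inv_eq_iff_eq_mul.1 (by
        calc t⁻¹ * (h * t * h⁻¹) * y * (t⁻¹ * (h * t * h⁻¹))⁻¹
            = t⁻¹ * ((h * t * h⁻¹) * y * (h * t * h⁻¹)⁻¹) * t := by group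
          _ = t⁻¹ * y⁻¹ * t := by rw [ht'y]
          _ = t⁻¹ * (t * y * t⁻¹) * t := by rw [hty]
          _ = y := by group))
    rw [hj]
    exact pow_mem (show y ∈ M hK from ⟨y_norm hK, hK.ymem⟩) _
  -- every coset of `M` is `M` or `v t M`
  have hcov : ∀ k ∈ K, k ∈ M hK ∨ ∃ v ∈ V z a, (v * t)⁻¹ * k ∈ M hK := by
    intro k hk
    by_contra hcon
    simp only [not_or, not_exists, not_and] at hcon
    set N := (M hK).subgroupOf K
    haveI := Fintype.ofFinite ↥(V z a)
    haveI := Fintype.ofFinite (↥K ⧸ N)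
    let f : Option (Option ↥(V z a)) → ↥K ⧸ N := fun o => match o with
      | none => ((⟨k, hk⟩ : K) : ↥K ⧸ N)
      | some none => ((1 : K) : ↥K ⧸ N)
      | some (some v) => ((⟨(v : G) * t, K.mul_mem (V_le_K hK v.2) htK⟩ : K) : ↥K ⧸ N)
    have hf : Function.Injective f := by
      have hq : ∀ {p q : K}, (QuotientGroup.mk p : ↥K ⧸ N) = QuotientGroup.mk q → (p : G)⁻¹ * q ∈ M hK :=
        fun {p q} e => mem_subgroupOf.1 (show p⁻¹ * q ∈ N from QuotientGroup.eq.1 e)
      have hvt : ∀ v : ↥(V z a), (v : G) * t ∉ M hK := fun v hm => htM (by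
        have := (M hK).mul_mem (show ((v : G))⁻¹ ∈ M hK from
          ⟨le_normalizer (inv_mem v.2), V_le_K hK (inv_mem v.2)⟩) hm
        rwa [inv_mul_cancel_left] at this)
      rintro (_ | _ | v) (_ | _ | w') e <;> simp only [f] at e
      · rfl
      · exact absurd (by simpa using hq e.symm) hcon.1
      · exact absurd (hq e.symm) (hcon.2 _ w'.2)
      · exact absurd (by simpa using hq e) hcon.1
      · rfl
      · exact absurd (by simpa using hq e) (hvt w')
      · exact absurd (hq e) (hcon.2 _ v.2)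
      · exact absurd (by simpa using hq e.symm) (hvt v)
      · have h1 := hq e
        set d := (v : G)⁻¹ * w'
        have hd : d ∈ V z a := mul_mem (inv_mem v.2) w'.2
        have h2 : t⁻¹ * d * t ∈ M hK := by
          have : ((v : G) * t)⁻¹ * ((w' : G) * t) = t⁻¹ * d * t := by simp only [d]; group
          rwa [this] at h1
        have hd1 : d = 1 := by
          by_contra hd1
          have hv' := invol_M hK h2 (by
            rw [show t⁻¹ * d * t * (t⁻¹ * d * t) = t⁻¹ * (d * d) * t by group, V_sq C.loc hd]; group)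
          have hc : ∀ x ∈ V z a, t * x * t⁻¹ ∈ V z a := by
            intro x hx
            refine cent_mem_V hK hd hd1 (K.mul_mem (K.mul_mem htK (V_le_K hK hx)) (K.inv_mem htK)) ?_
            have hcx : x * (t⁻¹ * d * t) = t⁻¹ * d * t * x :=
              D_comm C.loc (V_le_D C.loc hx) (V_le_D C.loc hv')
            calc t * x * t⁻¹ * d = t * (x * (t⁻¹ * d * t)) * t⁻¹ := by group
              _ = _ := by rw [hcx]; group
          exact htM ((mem_M hK).2 ⟨htK, hc z (z_mem_V C.loc)⟩)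
        rw [Subtype.ext (inv_mul_eq_one.1 hd1)]
    have hle := Fintype.card_le_of_injective f hf
    have h1 := N.card_mul_index
    rw [Nat.card_congr (subgroupOfEquivOfLe (show M hK ≤ K from inf_le_right)).toEquiv, card_M hK,
      h60, Subgroup.index] at h1
    rw [Fintype.card_option, Fintype.card_option, ← Nat.card_eq_fintype_card, card_V C.loc,
      ← Nat.card_eq_fintype_card] at hle
    omega
  have hδall : ∀ k ∈ K, k⁻¹ * (h * k * h⁻¹) ∈ M hK := by
    intro k hk
    rcases hcov k hk with hm | ⟨v, hv, hm⟩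
    · rw [hhM k hm, mul_inv_cancel_right, inv_mul_cancel]
      exact one_mem _
    · set m := (v * t)⁻¹ * k
      have hvM : v ∈ M hK := ⟨le_normalizer hv, V_le_K hK hv⟩
      have hk' : k = v * t * m := (mul_inv_cancel_left _ _).symm
      have e : k⁻¹ * (h * k * h⁻¹) = m⁻¹ * (t⁻¹ * (h * t * h⁻¹)) * m := by
        rw [hk', show (v * t * m)⁻¹ * (h * (v * t * m) * h⁻¹) =
          m⁻¹ * t⁻¹ * v⁻¹ * ((h * v * h⁻¹) * (h * t * h⁻¹) * (h * m * h⁻¹)) by group,
          mul_inv_eq_iff_eq_mul.2 (hhM v hvM), mul_inv_eq_iff_eq_mul.2 (hhM m hm)]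
        group
      rw [e]
      exact mul_mem (mul_mem (inv_mem hm) hδ) hm
  -- the core of `M` is trivial
  refine mem_centralizer_iff.2 fun k hk => ?_
  obtain ⟨k5⟩ := nonempty_equiv_alt hK h60
  haveI : IsSimpleGroup ↥(alternatingGroup (Fin 5)) := alternatingGroup.isSimpleGroup_five
  haveI : Nontrivial ↥K := k5.toEquiv.nontrivial
  haveI : IsSimpleGroup ↥K :=
    IsSimpleGroup.isSimpleGroup_of_surjective k5.symm.toMonoidHom k5.symm.surjective
  set N := (M hK).subgroupOf K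
  have hmem : (⟨k⁻¹ * (h * k * h⁻¹), K.mul_mem (K.inv_mem hk) (norm_K C hK h60 hhW hk)⟩ : K) ∈
      N.normalCore := by
    intro g
    show (g : G) * (k⁻¹ * (h * k * h⁻¹)) * (g : G)⁻¹ ∈ M hK
    have h1 := hδall (k * (g : G)⁻¹) (K.mul_mem hk (K.inv_mem g.2))
    have h2 := hδall ((g : G)⁻¹) (K.inv_mem g.2)
    have := mul_mem h1 (inv_mem h2)
    rwa [show (k * (g : G)⁻¹)⁻¹ * (h * (k * (g : G)⁻¹) * h⁻¹) *
      (((g : G)⁻¹)⁻¹ * (h * (g : G)⁻¹ * h⁻¹))⁻¹ =
      (g : G) * (k⁻¹ * (h * k * h⁻¹)) * (g : G)⁻¹ by group] at this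
  rcases (inferInstance : N.normalCore.Normal).eq_bot_or_eq_top with e | e
  · rw [e, mem_bot] at hmem
    have e' : k⁻¹ * (h * k * h⁻¹) = 1 := congrArg Subtype.val hmem
    rw [inv_mul_eq_one] at e'
    exact (mul_inv_eq_iff_eq_mul.1 e'.symm).symm
  · exfalso
    refine not_le_M hK h60 fun g hg => ((mem_M hK).1 ?_).2
    have := N.normalCore_le (e ▸ mem_top (⟨g, hg⟩ : K))
    exact this

theorem norm_equiv : Nonempty (↥(normalizer (W C : Set G)) ≃*
    alternatingGroup (Fin 4) × alternatingGroup (Fin 5)) := by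
  classical
  haveI : Fact (Nat.Prime 3) := ⟨Nat.prime_three⟩
  obtain ⟨g, hgW, hw, hwu, hgK⟩ := exists_mover C hK h60
  set N := normalizer (W C : Set G)
  set Cu := centralizer ({u} : Set G)
  set A := N ⊓ centralizer (K : Set G)
  have hWN : W C ≤ N := le_normalizer
  have hKN : K ≤ N := fun k hk => centralizer_le_normalizer _
    (mem_centralizer_iff.2 fun v hv => W_comm hK h60 hv hk)
  have hWA : W C ≤ A := le_inf hWN fun v hv => mem_centralizer_iff.2 fun k hk =>
    (W_comm hK h60 hv hk).symm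
  have hgA : g ∈ A := ⟨hgW, hgK⟩
  have hAK : ∀ p ∈ A, p ∈ K → p = 1 := by
    intro p hp hpK
    have hpc : ∀ k ∈ K, p * k = k * p := fun k hk => (mem_centralizer_iff.1 hp.2 k hk).symm
    have hpV := cent_mem_V hK (z_mem_V C.loc) (z_ne C) hpK (hpc z (z_mem_K hK))
    exact W_inf C hK ((mem_W C).2 ⟨V_le_D C.loc hpV, hpc y hK.ymem⟩) hpK
  have hcov : ∀ n ∈ N, ∃ p ∈ A, ∃ q ∈ K, n = p * q := by
    intro n hn
    obtain ⟨j, hj⟩ := norm_cases3 C hK h60 hgW hw rfl hwu hn
    obtain ⟨v, hv, hvc⟩ := hK.decomp _ (mem_centralizer_singleton_iff.1 hj)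
    exact ⟨g ^ (j : ℕ) * v⁻¹, mul_mem (pow_mem hgA _) (hWA (inv_mem hv)), _, hvc, by group⟩
  obtain ⟨e⟩ := nonempty_prod (A := A) (B := K) inf_le_left hKN
    (fun p hp q hq => (mem_centralizer_iff.1 hp.2 q hq).symm) hAK hcov
  obtain ⟨k5⟩ := nonempty_equiv_alt hK h60
  -- `A` is the union of three cosets of `W`
  have hAW : ∀ p ∈ A, p * u = u * p → p ∈ W C := by
    intro p hp hpu
    obtain ⟨v, hv, hvp⟩ := hK.decomp p hpu
    rw [eq_inv_of_mul_eq_one_right (hAK _ (mul_mem (hWA hv) hp) hvp)]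
    exact inv_mem hv
  have hA3 : ∀ p ∈ A, ∃ j : Fin 3, (g ^ (j : ℕ))⁻¹ * p ∈ W C := by
    intro p hp
    obtain ⟨j, hj⟩ := norm_cases3 C hK h60 hgW hw rfl hwu hp.1
    exact ⟨j, hAW _ (mul_mem (inv_mem (pow_mem hgA _)) hp) (mem_centralizer_singleton_iff.1 hj)⟩
  have hgnu : ¬ g * u = u * g := fun e => hwu (mul_inv_eq_iff_eq_mul.2 e)
  have hg2u : ¬ g ^ 2 * u = u * g ^ 2 := by
    intro e
    have h1 : g * (g * u * g⁻¹) * g⁻¹ = u := by
      calc g * (g * u * g⁻¹) * g⁻¹ = (g ^ 2 * u) * (g ^ 2)⁻¹ := by rw [pow_two]; group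
        _ = u := by rw [e, mul_inv_cancel_right]
    set w := g * u * g⁻¹
    have hcomm : u * w = w * u := D_comm C.loc (u_mem_D C) hw.1
    have h4 : g * (u * w) * g⁻¹ = u * w := by
      rw [show g * (u * w) * g⁻¹ = (g * u * g⁻¹) * (g * w * g⁻¹) by group, h1]
      exact hcomm.symm
    have huw : u * w ≠ 1 := fun e' => hwu (by rw [eq_inv_of_mul_eq_one_right e', invu C.loc])
    have h5 : g ∈ centralizer ({u * w} : Set G) :=
      mem_centralizer_singleton_iff.2 (mul_inv_eq_iff_eq_mul.1 h4)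
    rw [cent_W_elt C hK h60 (mul_mem (u_mem_W C) hw) huw] at h5
    exact hgnu (mem_centralizer_singleton_iff.1 h5)
  have hcardA : Nat.card A = 12 := by
    let f : Fin 3 × ↥(W C) → A := fun p =>
      ⟨g ^ (p.1 : ℕ) * p.2, mul_mem (pow_mem hgA _) (hWA p.2.2)⟩
    have hf : Function.Bijective f := by
      constructor
      · rintro ⟨i, v⟩ ⟨j, v'⟩ e
        have e' : g ^ (i : ℕ) * (v : G) = g ^ (j : ℕ) * v' := congrArg Subtype.val e
        have key : ∀ {i j : Fin 3} {v v' : G}, v ∈ W C → v' ∈ W C → (i : ℕ) ≤ j →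
            g ^ (i : ℕ) * v = g ^ (j : ℕ) * v' → i = j := by
          intro i j v v' hv hv' hle e
          have h : g ^ ((j : ℕ) - i) = v * v'⁻¹ := by
            refine mul_left_cancel (a := g ^ (i : ℕ)) ?_
            rw [← pow_add, Nat.add_sub_cancel' hle, ← mul_assoc, e, mul_inv_cancel_right]
          have hc : g ^ ((j : ℕ) - i) * u = u * g ^ ((j : ℕ) - i) := by
            rw [h]; exact (mem_D.1 (mul_mem hv.1 (inv_mem hv'.1))).2
          have : (j : ℕ) - i ≠ 1 ∧ (j : ℕ) - i ≠ 2 := by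
            constructor <;> intro e1 <;> rw [e1] at hc
            · rw [pow_one] at hc; exact hgnu hc
            · exact hg2u hc
          exact Fin.ext (by omega)
        obtain rfl : i = j := by
          rcases le_total (i : ℕ) j with h | h
          · exact key v.2 v'.2 h e'
          · exact (key v'.2 v.2 h e'.symm).symm
        rw [Subtype.ext (mul_left_cancel e')]
      · rintro ⟨p, hp⟩
        obtain ⟨j, hj⟩ := hA3 p hp
        exact ⟨(j, ⟨_, hj⟩), Subtype.ext (mul_inv_cancel_left _ _)⟩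
    rw [← Nat.card_eq_of_bijective f hf, Nat.card_prod, Nat.card_fin, card_W C]
  obtain ⟨x, hx⟩ := exists_prime_orderOf_dvd_card' (G := A) 3 (by rw [hcardA]; norm_num)
  set T := zpowers x
  have hTc : Nat.card T = 3 := by rw [Nat.card_zpowers, hx]
  have hTidx : T.index = 4 := by
    have := T.card_mul_index
    rw [hTc, hcardA] at this
    omega
  have hcore : T.normalCore = ⊥ := by
    by_contra hne
    have hle := T.normalCore_le
    have hd : Nat.card T.normalCore ∣ 3 := hTc ▸ card_dvd_of_le hle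
    rcases (Nat.dvd_prime Nat.prime_three).1 hd with h | h
    · exact hne (eq_bot_of_card_eq _ h)
    have heq : T.normalCore = T := eq_of_le_of_card_ge hle (by rw [hTc, h])
    haveI hn : T.Normal := heq ▸ inferInstance
    -- so `x` centralises `W`
    let uA : A := ⟨u, hWA (u_mem_W C)⟩
    have h1 : uA * x * uA⁻¹ * x⁻¹ ∈ T :=
      mul_mem (hn.conj_mem x (mem_zpowers x) uA) (inv_mem (mem_zpowers x))
    have h2 : ((uA * x * uA⁻¹ * x⁻¹ : A) : G) ∈ W C := by
      show u * (x : G) * u⁻¹ * (x : G)⁻¹ ∈ W C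
      rw [show u * (x : G) * u⁻¹ * (x : G)⁻¹ = u * ((x : G) * u⁻¹ * (x : G)⁻¹) by group]
      exact mul_mem (u_mem_W C) ((mem_normalizer_iff.1 x.2.1 _).1 (inv_mem (u_mem_W C)))
    have h3 : uA * x * uA⁻¹ * x⁻¹ = 1 := by
      refine TransferPow.eq_one_of_pow_eq_one_of_coprime (m := 2) (n := 3)
        (Subtype.ext (by rw [SubmonoidClass.coe_pow, pow_two]; exact W_sq C h2)) ?_ (by norm_num)
      obtain ⟨k, hk⟩ := h1
      rw [← hk]
      show (x ^ k) ^ 3 = 1
      rw [← zpow_natCast, ← zpow_mul, mul_comm, zpow_mul, zpow_natCast,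
        orderOf_dvd_iff_pow_eq_one.1 (dvd_of_eq hx), one_zpow]
    have hxu : (x : G) * u = u * x :=
      (mul_inv_eq_iff_eq_mul.1 (mul_inv_eq_one.1 (congrArg Subtype.val h3))).symm
    have hxW := hAW _ x.2 hxu
    have : orderOf (x : G) ∣ 2 := orderOf_dvd_of_pow_eq_one (by rw [pow_two]; exact W_sq C hxW)
    rw [Subgroup.orderOf_coe, hx] at this
    norm_num at this
  let ee : (A ⧸ T) ≃ Fin 4 := Finite.equivFinOfCardEq hTidx
  let φ : A →* Equiv.Perm (Fin 4) :=
    (ee.permCongrHom.toMonoidHom).comp (MulAction.toPermHom A (A ⧸ T))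
  have hinj : Function.Injective φ := by
    refine (injective_iff_map_eq_one φ).2 fun p hp => ?_
    have : p ∈ T.normalCore := by
      rw [Subgroup.normalCore_eq_ker, MonoidHom.mem_ker]
      exact ee.permCongrHom.injective (hp.trans (map_one _).symm)
    rwa [hcore, mem_bot] at this
  have hr : φ.range = alternatingGroup (Fin 4) := by
    apply Equiv.Perm.eq_alternatingGroup_of_index_eq_two
    have h2 := φ.range.card_mul_index
    rw [← Nat.card_congr (MonoidHom.ofInjective hinj).toEquiv, hcardA, Nat.card_perm, Nat.card_fin] at h2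
    simp [Nat.factorial] at h2
    omega
  exact ⟨e.trans (((MonoidHom.ofInjective hinj).trans (MulEquiv.subgroupCongr hr)).prodCongr k5)⟩

end

end Cfsg.Agent.J2TypeNorm79
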