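import Cfsg.Agent.Lib.J2TypeKernel79
import Cfsg.Agent.S0213

/-!
# Groups of Hall–Janko type: the order

Thompson's order formula gives `604800` or `51840`; a Sylow 5-normalizer rules out the second.
-/

set_option autoImplicit false

namespace Cfsg.Agent.J2TypeOrder79

open Subgroup Cfsg.Agent.LargeExtraspecial Cfsg.Agent.J2TypePoints79 Cfsg.Agent.J2TypeAction79
open Cfsg.Agent.J2TypeFour79 Cfsg.Agent.J2TypeClasses79 Cfsg.Agent.J2TypeCyc79
open Cfsg.Agent.J2TypeCent79 Cfsg.Agent.J2TypeKernel79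

variable {G : Type*} [Group G] [Finite G] {Q : Subgroup G} {z : G} {a : Fin 5 → G} {u u' y : G}

/-- The class of `u` under conjugation by `H`. -/
theorem card_class (H : Subgroup G) (u : G) :
    Nat.card {t : G // ∃ h ∈ H, h * u * h⁻¹ = t} * Nat.card ↥(H ⊓ centralizer ({u} : Set G)) =
      Nat.card H := by
  set S := (centralizer ({u} : Set G)).subgroupOf H
  let f : H ⧸ S → {t : G // ∃ h ∈ H, h * u * h⁻¹ = t} := fun q => Quotient.liftOn' q
    (fun h => ⟨(h : G) * u * (h : G)⁻¹, h, h.2, rfl⟩) fun g h e => Subtype.ext (by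
      have h0 : g⁻¹ * h ∈ S := QuotientGroup.leftRel_apply.1 e
      have h' : (g : G)⁻¹ * h * u = u * ((g : G)⁻¹ * h) := mem_centralizer_singleton_iff.1 h0
      show (g : G) * u * (g : G)⁻¹ = h * u * (h : G)⁻¹
      calc (g : G) * u * (g : G)⁻¹ = g * (u * ((g : G)⁻¹ * h)) * (h : G)⁻¹ := by group
        _ = _ := by rw [← h']; group)
  have hf : Function.Bijective f := by
    constructor
    · intro q r
      induction q using QuotientGroup.induction_on with | _ g => ?_
      induction r using QuotientGroup.induction_on with | _ h => ?_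
      intro e
      have e' : (g : G) * u * (g : G)⁻¹ = h * u * (h : G)⁻¹ := congrArg Subtype.val e
      refine QuotientGroup.eq.2 (mem_centralizer_singleton_iff.2 ?_)
      show (g : G)⁻¹ * h * u = u * ((g : G)⁻¹ * h)
      calc (g : G)⁻¹ * h * u = (g : G)⁻¹ * (h * u * (h : G)⁻¹) * h := by group
        _ = _ := by rw [← e']; group
    · rintro ⟨t, h, hh, rfl⟩
      exact ⟨((⟨h, hh⟩ : H) : H ⧸ S), rfl⟩
  have h1 := S.card_mul_index
  rw [← Nat.card_eq_of_bijective f hf]
  have e : Nat.card S = Nat.card ↥(H ⊓ centralizer ({u} : Set G)) := by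
    rw [show S = (H ⊓ centralizer ({u} : Set G)).subgroupOf H by ext x; simp [S, Subgroup.mem_subgroupOf]]
    exact Nat.card_congr (subgroupOfEquivOfLe inf_le_left).toEquiv
  rw [e, Subgroup.index, mul_comm] at h1
  exact h1

section

variable (C : Cyc Q z a u u' y)
include C

theorem u_type {j : G} (hj : j * z = z * j) : IsConj u j ↔ ∃ h ∈ centralizer ({z} : Set G),
    h * u * h⁻¹ = j := by
  constructor
  · intro h
    obtain ⟨g, hg1, hg2⟩ := pair_conj C.loc (IsConj.refl z) h hj.symm
    exact ⟨g, mem_centralizer_singleton_iff.2 (mul_inv_eq_iff_eq_mul.1 hg1), hg2⟩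
  · rintro ⟨h, -, e⟩
    exact isConj_iff.2 ⟨h, e⟩

theorem card_uClass : Nat.card {j : G // j * z = z * j ∧ IsConj u j} = 120 := by
  have h := card_class (centralizer ({z} : Set G)) u
  have hD : Nat.card ↥(centralizer ({z} : Set G) ⊓ centralizer ({u} : Set G)) = 16 := card_D C.loc
  rw [hD, card_H C.loc.fr.hJ] at h
  have e : {j : G // j * z = z * j ∧ IsConj u j} ≃
      {t : G // ∃ h ∈ centralizer ({z} : Set G), h * u * h⁻¹ = t} :=
    Equiv.subtypeEquivRight fun j => ⟨fun hj => (u_type C hj.1).1 hj.2, fun hj => by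
      have hz : j * z = z * j := by
        obtain ⟨g, hg, rfl⟩ := hj
        have hg' : Commute g z := mem_centralizer_singleton_iff.1 hg
        exact ((hg'.mul_left (uz C.loc)).mul_left hg'.inv_left).eq
      exact ⟨hz, (u_type C hz).2 hj⟩⟩
  rw [Nat.card_congr e]
  omega

/-- For a conjugate `j` of `u` in `C(z)`, `z` is a power of `i * j` exactly when `i` is a noncentral
involution of `Q` that `j` moves. -/
theorem z_mem_iff {i j : G} (hj : IsConj u j) (hi : IsConj z i) :
    z ∈ zpowers (i * j) ↔ j * z = z * j ∧ i ∈ Q ∧ i ≠ z ∧ j * i ≠ i * j := by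
  have F := C.loc.fr
  have hi2 : i * i = 1 := by
    obtain ⟨g, rfl⟩ := isConj_iff.1 hi
    rw [show g * z * g⁻¹ * (g * z * g⁻¹) = g * (z * z) * g⁻¹ by group, F.ext.zz]; group
  have hj2 : j * j = 1 := by
    obtain ⟨g, rfl⟩ := isConj_iff.1 hj
    rw [show g * u * g⁻¹ * (g * u * g⁻¹) = g * (u * u) * g⁻¹ by group, C.loc.sq]; group
  have hj1 : j ≠ 1 := fun e => u_ne_one C.loc (by
    obtain ⟨g, hg⟩ := isConj_iff.1 hj
    rw [e] at hg
    exact conj_eq_one_iff.1 hg)
  constructor
  · rintro ⟨n, hn⟩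
    change (i * j) ^ n = z at hn
    have hinv : i * (i * j) * i⁻¹ = (i * j)⁻¹ := by
      rw [mul_inv_rev, inv_eq_of_mul_eq_one_right hi2, inv_eq_of_mul_eq_one_right hj2]
      rw [← mul_assoc i i j, hi2, one_mul]
    have hiz : i * z = z * i := by
      refine mul_inv_eq_iff_eq_mul.1 ?_
      rw [← hn, ← conj_zpow, hinv, inv_zpow, hn, F.ext.inv_z]
    have hjz : j * z = z * j := by
      have h1 : Commute (i * j) z := hn ▸ (Commute.refl (i * j)).zpow_right n
      have h2 := (show Commute i z from hiz).mul_left h1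
      rwa [← mul_assoc, hi2, one_mul] at h2
    have hi1 : i ≠ 1 := fun e => F.ext.ne_one (by
      obtain ⟨g, hg⟩ := isConj_iff.1 hi
      rw [e] at hg
      exact conj_eq_one_iff.1 hg)
    have hiQ : i ∈ Q := (ztype_iff C.loc hiz hi2 hi1).1 hi
    have hjQ : j ∉ Q := fun h => not_conj C.loc
      (((ztype_iff C.loc hjz hj2 hj1).2 h).trans hj.symm)
    -- if they commute, the powers are `1` and `i * j`
    have hnc : j * i ≠ i * j := by
      intro hc
      have h2 : (i * j) * (i * j) = 1 := by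
        rw [show i * j * (i * j) = i * (j * i) * j by group, hc,
          show i * (i * j) * j = (i * i) * (j * j) by group, hi2, hj2, one_mul]
      rcases Int.even_or_odd n with ⟨m, rfl⟩ | ⟨m, rfl⟩
      · rw [← two_mul, zpow_mul, zpow_two, h2, one_zpow] at hn
        exact F.ext.ne_one hn.symm
      · rw [zpow_add_one, zpow_mul, zpow_two, h2, one_zpow, one_mul] at hn
        exact hjQ (by rw [eq_inv_mul_of_mul_eq hn]; exact Q.mul_mem (Q.inv_mem hiQ) F.hJ.l.mem)
    exact ⟨hjz, hiQ, fun e => hnc (by rw [e]; exact hjz), hnc⟩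
  · rintro ⟨hjz, hiQ, hiz, hnc⟩
    have hk : j * i * j⁻¹ ∈ Q := F.hJ.l.norm j hjz i hiQ
    have hsq : (i * j) * (i * j) = i * (j * i * j⁻¹) := by
      rw [inv_eq_of_mul_eq_one_right hj2]; group
    rcases F.ext.sq _ (Q.mul_mem hiQ hk) with e | e
    · have hk2 : j * i * j⁻¹ * (j * i * j⁻¹) = 1 := by
        rw [show j * i * j⁻¹ * (j * i * j⁻¹) = j * (i * i) * j⁻¹ by group, hi2]; group
      set k := j * i * j⁻¹
      have hi1 : i ≠ 1 := fun e' => hnc (by rw [e']; simp)
      have hc : k * i = i * k := by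
        calc k * i = (i * k)⁻¹ := by
              rw [mul_inv_rev, inv_eq_of_mul_eq_one_right hi2, inv_eq_of_mul_eq_one_right hk2]
          _ = i * k := inv_eq_of_mul_eq_one_right e
      rcases F.commuting_invol hiQ hk hi2 hk2 hi1 hiz hc with e' | e' | e' | e'
      · exact absurd (conj_eq_one_iff.1 e') hi1
      · exfalso
        have e'' : j * i = z * j := mul_inv_eq_iff_eq_mul.1 e'
        rw [← hjz] at e''
        exact hiz (mul_left_cancel e'')
      · exact absurd (mul_inv_eq_iff_eq_mul.1 e') hnc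
      · refine ⟨2, ?_⟩
        show (i * j) ^ (2 : ℤ) = z
        rw [zpow_two, hsq, e', ← mul_assoc, F.comm_z hiQ, mul_assoc, hi2, mul_one]
    · refine ⟨4, ?_⟩
      show (i * j) ^ (4 : ℤ) = z
      rw [show (4 : ℤ) = 2 * 2 from rfl, zpow_mul, zpow_two, zpow_two, hsq, e]

theorem card_moved : Nat.card {i : G // i ∈ Q ∧ i * i = 1 ∧ u * i ≠ i * u} = 8 := by
  classical
  have F := C.loc.fr
  have L := C.loc
  let f : {p : Fin 5 // p ≠ 0} × Bool → {i : G // i ∈ Q ∧ i * i = 1 ∧ u * i ≠ i * u} := fun pb =>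
    ⟨if pb.2 then z * a pb.1.1 else a pb.1.1, by
      have hp : ∀ x : G, Same z a x pb.1.1 → x ∈ Q → u * x ≠ x * u := by
        intro x hx hxQ hc
        have h1 : Same z a (u * x * u⁻¹) (σ0 pb.1.1) := by
          rcases conj_same F.hJ F.pts L.acts.1 hx
            (show u * a pb.1.1 * u⁻¹ = a (σ0 pb.1.1) ∨ u * a pb.1.1 * u⁻¹ = z * a (σ0 pb.1.1)
              from L.acts.2 _) with e | e
          exacts [Or.inl e, Or.inr e]
        rw [mul_inv_eq_iff_eq_mul.2 hc] at h1
        exact (by decide : ∀ p : Fin 5, p ≠ 0 → σ0 p ≠ p) _ pb.1.2 (same_inj F.hJ F.pts h1 hx)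
      cases pb.2
      · exact ⟨F.pts.mem _, F.pts.sq _, hp _ (Or.inl rfl) (F.pts.mem _)⟩
      · refine ⟨Q.mul_mem F.hJ.l.mem (F.pts.mem _), ?_,
          hp _ (Or.inr rfl) (Q.mul_mem F.hJ.l.mem (F.pts.mem _))⟩
        show z * a pb.1.1 * (z * a pb.1.1) = 1
        rw [← mul_assoc, mul_assoc z, F.comm_z (F.pts.mem _), F.ext.z_mul_z_mul, F.pts.sq]⟩
  have hf : Function.Bijective f := by
    constructor
    · rintro ⟨⟨p, hp⟩, b⟩ ⟨⟨q, hq⟩, b'⟩ e
      have e' : (if b then z * a p else a p) = if b' then z * a q else a q := congrArg Subtype.val e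
      have hs : Same z a (if b then z * a p else a p) p := by cases b <;> simp [Same]
      have hs' : Same z a (if b then z * a p else a p) q := by rw [e']; cases b' <;> simp [Same]
      obtain rfl := same_inj F.hJ F.pts hs hs'
      cases b <;> cases b' <;> simp only [Bool.false_eq_true, if_false, if_true] at e' <;>
        first
          | rfl
          | exact absurd e' (F.ext.z_mul_ne _)
          | exact absurd e'.symm (F.ext.z_mul_ne _)
    · rintro ⟨i, hiQ, hi2, hnc⟩
      rcases F.pts.inv_cases i hiQ hi2 with e | e | ⟨p, e⟩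
      · exact absurd (by rw [e]; simp) hnc
      · exact absurd (by rw [e]; exact uz L) hnc
      have hp : p ≠ 0 := fun h0 => by
        subst h0
        rcases e with e | e <;> rw [e] at hnc
        · exact hnc L.fix
        · exact hnc ((show Commute u z from uz L).mul_right L.fix).eq
      rcases e with e | e
      · exact ⟨(⟨p, hp⟩, false), Subtype.ext (by simp [f, e])⟩
      · exact ⟨(⟨p, hp⟩, true), Subtype.ext (by simp [f, e])⟩
  rw [← Nat.card_eq_of_bijective f hf, Nat.card_eq_fintype_card]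
  decide

theorem count_z : Nat.card {p : G × G //
    IsConj z p.1 ∧ IsConj u p.2 ∧ z ∈ zpowers (p.1 * p.2)} = 960 := by
  classical
  have F := C.loc.fr
  haveI : Fintype {j : G // j * z = z * j ∧ IsConj u j} := Fintype.ofFinite _
  have e : {p : G × G // IsConj z p.1 ∧ IsConj u p.2 ∧ z ∈ zpowers (p.1 * p.2)} ≃
      Σ j : {j : G // j * z = z * j ∧ IsConj u j},
        {i : G // i ∈ Q ∧ i * i = 1 ∧ (j : G) * i ≠ i * j} :=
    { toFun := fun p =>
        have h := (z_mem_iff C p.2.2.1 p.2.1).1 p.2.2.2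
        ⟨⟨p.1.2, h.1, p.2.2.1⟩, p.1.1, h.2.1, by
          obtain ⟨g, hg⟩ := isConj_iff.1 p.2.1
          rw [← hg, show g * z * g⁻¹ * (g * z * g⁻¹) = g * (z * z) * g⁻¹ by group, F.ext.zz]
          group, h.2.2.2⟩
      invFun := fun q => ⟨(q.2.1, q.1.1), by
        obtain ⟨hiQ, hi2, hnc⟩ := q.2.2
        have hi1 : q.2.1 ≠ 1 := fun e => hnc (by rw [e]; simp)
        have hz : IsConj z q.2.1 := conj_z_of_mem C.loc hiQ hi2 hi1
        exact ⟨hz, q.1.2.2, (z_mem_iff C q.1.2.2 hz).2
          ⟨q.1.2.1, hiQ, fun e => hnc (by rw [e]; exact q.1.2.1), hnc⟩⟩⟩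
      left_inv := fun p => rfl
      right_inv := fun q => rfl }
  rw [Nat.card_congr e, Nat.card_sigma]
  have h8 : ∀ j : {j : G // j * z = z * j ∧ IsConj u j},
      Nat.card {i : G // i ∈ Q ∧ i * i = 1 ∧ (j : G) * i ≠ i * j} = 8 := by
    rintro ⟨j, hjz, hj⟩
    obtain ⟨h, hh, rfl⟩ := (u_type C hjz).1 hj
    have hh' : h * z = z * h := mem_centralizer_singleton_iff.1 hh
    rw [← card_moved C]
    refine Nat.card_congr (Equiv.subtypeEquiv (MulAut.conj h).toEquiv fun i => ?_).symm
    show _ ↔ h * i * h⁻¹ ∈ Q ∧ h * i * h⁻¹ * (h * i * h⁻¹) = 1 ∧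
      h * u * h⁻¹ * (h * i * h⁻¹) ≠ h * i * h⁻¹ * (h * u * h⁻¹)
    rw [show h * i * h⁻¹ * (h * i * h⁻¹) = h * (i * i) * h⁻¹ by group, conj_eq_one_iff,
      show h * u * h⁻¹ * (h * i * h⁻¹) = h * (u * i) * h⁻¹ by group,
      show h * i * h⁻¹ * (h * u * h⁻¹) = h * (i * u) * h⁻¹ by group,
      ne_eq (h * (u * i) * h⁻¹), mul_left_inj, mul_right_inj]
    refine and_congr_left' ⟨fun hi => F.hJ.l.norm h hh' i hi, fun hi => ?_⟩
    have := F.hJ.l.norm h⁻¹ (show Commute h z from hh').inv_left.eq _ hi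
    rwa [show h⁻¹ * (h * i * h⁻¹) * h⁻¹⁻¹ = i by group] at this
  simp only [h8, Finset.sum_const, Finset.card_univ, ← Nat.card_eq_fintype_card, card_uClass C,
    smul_eq_mul]

variable {K : Subgroup G} (hK : Kern C K)
include hK

/-- `W` centralises `K` in both cases. -/
theorem W_comm' {w k : G} (hw : w ∈ W C) (hk : k ∈ K) : w * k = k * w := by
  rcases card_cases hK with ⟨h60, -⟩ | ⟨-, hall⟩
  · exact W_comm hK h60 hw hk
  · obtain ⟨j, hj⟩ := M_cases hK hk (hall k hk)
    have c1 : Commute w (y ^ (j : ℕ)) := (show Commute w y from ((mem_W C).1 hw).2).pow_right _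
    have c2 : Commute w ((y ^ (j : ℕ))⁻¹ * k) := D_comm C.loc hw.1 (V_le_D C.loc hj)
    have := c1.mul_right c2
    rw [mul_inv_cancel_left] at this
    exact this.eq

theorem W_inf {w : G} (hw : w ∈ W C) (hk : w ∈ K) : w = 1 := by
  have h := θ_eq_one C hw.1 |>.2 ((hK.inf w hw.1).1 hk)
  rwa [θ_of_W C hw] at h

/-- An involution of `C(u)` is conjugate to `z` exactly if it lies in `K`. -/
theorem ztype_cent {t : G} (htu : t * u = u * t) (ht : t * t = 1) (h1 : t ≠ 1) :
    IsConj z t ↔ t ∈ K := by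
  obtain ⟨c, hc, hD⟩ := invol_cent C htu ht
  have hct : IsConj t (c * t * c⁻¹) := isConj_iff.2 ⟨c, rfl⟩
  have hne : c * t * c⁻¹ ≠ 1 := fun e => h1 (conj_eq_one_iff.1 e)
  rw [show IsConj z t ↔ IsConj z (c * t * c⁻¹) from ⟨fun h => h.trans hct, fun h => h.trans hct.symm⟩,
    ztype_D C.loc hD hne, ← hK.inf _ hD]
  refine ⟨fun h => ?_, fun h => hK.normal c hc t h⟩
  have := hK.normal c⁻¹ (show Commute c u from hc).inv_left.eq _ h
  rwa [show c⁻¹ * (c * t * c⁻¹) * c⁻¹⁻¹ = t by group] at this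

theorem cent_card_four {i : G} (hi : i ∈ K) (hi2 : i * i = 1) (hi1 : i ≠ 1) :
    Nat.card {k : G // k ∈ K ∧ k * k = 1 ∧ k ≠ 1 ∧ k * i = i * k ∧ k ≠ i} = 2 := by
  classical
  obtain ⟨g, hg, e⟩ := conj_z hK hi hi2 hi1
  have hset : {k : G | k ∈ K ∧ k * k = 1 ∧ k ≠ 1 ∧ k * i = i * k ∧ k ≠ i} =
      {g⁻¹ * a 0 * g, g⁻¹ * (z * a 0) * g} := by
    have hV : ∀ v ∈ V z a, g⁻¹ * v * g ∈ K := fun v hv =>
      K.mul_mem (K.mul_mem (K.inv_mem hg) (V_le_K hK hv)) hg
    have hi' : i = g⁻¹ * z * g := by rw [← e]; group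
    ext k
    constructor
    · rintro ⟨hk, -, hk1, hkc, hki⟩
      have hv := cent_mem_V hK (z_mem_V C.loc) (z_ne C) (K.mul_mem (K.mul_mem hg hk) (K.inv_mem hg))
        (by
          rw [← e]
          calc g * k * g⁻¹ * (g * i * g⁻¹) = g * (k * i) * g⁻¹ := by group
            _ = _ := by rw [hkc]; group)
      have hk' : k = g⁻¹ * (g * k * g⁻¹) * g := by group
      rcases (mem_V C.loc).1 hv with h | h | h | h
      · exact absurd (conj_eq_one_iff.1 h) hk1
      · exact absurd (by rw [hk', h, hi']) hki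
      · left; rw [hk', h]
      · right; rw [Set.mem_singleton_iff, hk', h]
    · have aux : ∀ v ∈ V z a, v ≠ 1 → v ≠ z → g⁻¹ * v * g ∈ K ∧
          g⁻¹ * v * g * (g⁻¹ * v * g) = 1 ∧ g⁻¹ * v * g ≠ 1 ∧
          g⁻¹ * v * g * i = i * (g⁻¹ * v * g) ∧ g⁻¹ * v * g ≠ i := by
        intro v hv v1 vz
        refine ⟨hV v hv, ?_, fun e' => v1 ?_, ?_, fun e' => vz ?_⟩
        · rw [show g⁻¹ * v * g * (g⁻¹ * v * g) = g⁻¹ * (v * v) * g by group, V_sq C.loc hv]; group
        · calc v = g * (g⁻¹ * v * g) * g⁻¹ := by group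
            _ = 1 := by rw [e']; group
        · rw [hi']
          calc g⁻¹ * v * g * (g⁻¹ * z * g) = g⁻¹ * (v * z) * g := by group
            _ = _ := by rw [C.loc.fr.comm_z (V_le_Q C.loc hv)]; group
        · calc v = g * (g⁻¹ * v * g) * g⁻¹ := by group
            _ = z := by rw [e', e]
      have h0 := C.loc.fr.pts.ne 0
      rintro (rfl | rfl)
      · exact aux _ (a_mem_V C.loc) h0.1 h0.2
      · exact aux _ (mul_mem (z_mem_V C.loc) (a_mem_V C.loc))
          (fun e' => h0.2 (by rw [eq_inv_of_mul_eq_one_right e', C.loc.fr.ext.inv_z]))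
          (fun e' => h0.1 (mul_eq_left.1 e'))
  rw [show Nat.card {k : G // k ∈ K ∧ k * k = 1 ∧ k ≠ 1 ∧ k * i = i * k ∧ k ≠ i} =
    {k : G | k ∈ K ∧ k * k = 1 ∧ k ≠ 1 ∧ k * i = i * k ∧ k ≠ i}.ncard from Nat.card_coe_set_eq _,
    hset, Set.ncard_pair]
  exact fun e' => C.loc.fr.ext.z_mul_ne (a 0) (mul_left_cancel (mul_right_cancel e')).symm

theorem count_u : Nat.card {p : G × G //
    IsConj z p.1 ∧ IsConj u p.2 ∧ u ∈ zpowers (p.1 * p.2)} =
      Nat.card {t : K // orderOf t = 2} * (Nat.card {t : K // orderOf t = 2} - 2) := by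
  classical
  have L := C.loc
  set I := {t : G // t ∈ K ∧ t * t = 1 ∧ t ≠ 1}
  have hI : Nat.card I = Nat.card {t : K // orderOf t = 2} := Nat.card_congr
    { toFun := fun t => ⟨⟨t.1, t.2.1⟩, orderOf_eq_prime
        (by rw [pow_two]; exact Subtype.ext t.2.2.1) fun e => t.2.2.2 (congrArg Subtype.val e)⟩
      invFun := fun t => ⟨t.1, t.1.2, by
        have := pow_orderOf_eq_one t.1
        rw [t.2, pow_two] at this
        exact congrArg Subtype.val this, fun e => by
          have h := t.2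
          rw [show t.1 = 1 from Subtype.ext e, orderOf_one] at h
          omega⟩
      left_inv := fun t => rfl
      right_inv := fun t => rfl }
  have hwK : ∀ {k : G}, k ∈ K → Commute u k := fun hk => (hK.le _ hk).symm
  have hu1 := u_ne_one L
  have huK : u ∉ K := fun h => hu1 (W_inf C hK (u_mem_W C) h)
  -- the second component is `u` times an involution of `K`
  have key : ∀ i j : G, (IsConj z i ∧ IsConj u j ∧ u ∈ zpowers (i * j)) ↔
      ((i ∈ K ∧ i * i = 1 ∧ i ≠ 1) ∧ (u * j ∈ K ∧ (u * j) * (u * j) = 1 ∧ u * j ≠ 1) ∧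
        ¬ ((u * j) * i = i * (u * j) ∧ u * j ≠ i)) := by
    intro i j
    constructor
    · rintro ⟨hi, hj, n, hn⟩
      change (i * j) ^ n = u at hn
      have hi2 : i * i = 1 := by
        obtain ⟨g, rfl⟩ := isConj_iff.1 hi
        rw [show g * z * g⁻¹ * (g * z * g⁻¹) = g * (z * z) * g⁻¹ by group, L.fr.ext.zz]; group
      have hi1 : i ≠ 1 := fun e => z_ne C (by
        obtain ⟨g, hg⟩ := isConj_iff.1 hi
        rw [e] at hg; exact conj_eq_one_iff.1 hg)
      have hj2 : j * j = 1 := by
        obtain ⟨g, rfl⟩ := isConj_iff.1 hj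
        rw [show g * u * g⁻¹ * (g * u * g⁻¹) = g * (u * u) * g⁻¹ by group, L.sq]; group
      have hinv : i * (i * j) * i⁻¹ = (i * j)⁻¹ := by
        rw [mul_inv_rev, inv_eq_of_mul_eq_one_right hi2, inv_eq_of_mul_eq_one_right hj2,
          ← mul_assoc i i j, hi2, one_mul]
      have hiu : i * u = u * i := by
        refine mul_inv_eq_iff_eq_mul.1 ?_
        rw [← hn, ← conj_zpow, hinv, inv_zpow, hn, invu L]
      have hju : j * u = u * j := by
        have h1 : Commute (i * j) u := hn ▸ (Commute.refl (i * j)).zpow_right n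
        have h2 := (show Commute i u from hiu).mul_left h1
        rwa [← mul_assoc, hi2, one_mul] at h2
      have hiK : i ∈ K := (ztype_cent C hK hiu hi2 hi1).1 hi
      obtain ⟨w, hw, hwj⟩ := hK.decomp j hju
      have hw2 := W_sq C hw
      set k := w * j
      have hjk : j = w * k := by simp only [k]; rw [← mul_assoc, hw2, one_mul]
      have hwi : Commute w (i * k) := W_comm' C hK hw (K.mul_mem hiK hwj)
      have hij : i * j = w * (i * k) := by
        calc i * j = i * w * k := by rw [mul_assoc, ← hjk]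
          _ = w * i * k := by rw [W_comm' C hK hw hiK]
          _ = _ := mul_assoc _ _ _
      rw [hij] at hn
      rw [hwi.mul_zpow] at hn
      have hwn : w ^ n = u := by
        have h1 : w ^ n * u ∈ W C := mul_mem (zpow_mem hw n) (u_mem_W C)
        have e' : (i * k) ^ n = (w ^ n)⁻¹ * u := eq_inv_mul_of_mul_eq hn
        have h2 : (w ^ n)⁻¹ * u ∈ K := e' ▸ K.zpow_mem (K.mul_mem hiK hwj) n
        exact inv_mul_eq_one.1 (W_inf C hK (mul_mem (inv_mem (zpow_mem hw n)) (u_mem_W C)) h2)
      rcases Int.even_or_odd n with ⟨m, rfl⟩ | ⟨m, rfl⟩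
      · rw [← two_mul, zpow_mul, zpow_two, hw2, one_zpow] at hwn
        exact absurd hwn.symm hu1
      rw [zpow_add_one, zpow_mul, zpow_two, hw2, one_zpow, one_mul] at hwn
      subst hwn
      have hk : w * j = k := rfl
      have hk2 : k * k = 1 := by
        simp only [k]
        rw [show w * j * (w * j) = w * (j * w) * j by group, hju,
          show w * (w * j) * j = (w * w) * (j * j) by group, hw2, hj2, one_mul]
      have hmn : (i * k) ^ (2 * m + 1) = 1 := by
        rw [zpow_add_one (w), zpow_mul, zpow_two, hw2, one_zpow, one_mul] at hn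
        exact mul_eq_left.1 hn
      refine ⟨⟨hiK, hi2, hi1⟩, ⟨hwj, hk2, fun e => ?_⟩, fun hc => ?_⟩
      · have e2 : k = 1 := e
        rw [e2, mul_one, zpow_add_one, zpow_mul, zpow_two, hi2, one_zpow, one_mul] at hmn
        exact hi1 hmn
      · have h2 : (i * k) * (i * k) = 1 := by
          rw [show i * k * (i * k) = i * (k * i) * k by group, show k * i = i * k from hc.1,
            show i * (i * k) * k = (i * i) * (k * k) by group, hi2, hk2, one_mul]
        rw [zpow_add_one, zpow_mul, zpow_two, h2, one_zpow, one_mul] at hmn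
        exact hc.2 ((eq_inv_of_mul_eq_one_right hmn).trans (inv_eq_of_mul_eq_one_right hi2))
    · rintro ⟨⟨hiK, hi2, hi1⟩, ⟨hkK, hk2, hk1⟩, hnc⟩
      set k := u * j
      have hjk : j = u * k := by simp only [k]; rw [← mul_assoc, L.sq, one_mul]
      have hiz : IsConj z i := (ztype_cent C hK (hK.le i hiK) hi2 hi1).2 hiK
      have hju : j * u = u * j := by
        rw [hjk]; exact ((Commute.refl u).mul_left (hwK hkK).symm).eq
      have hj2 : j * j = 1 := by
        rw [hjk, show u * k * (u * k) = u * (k * u) * k by group, hK.le k hkK,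
          show u * (u * k) * k = (u * u) * (k * k) by group, L.sq, hk2, one_mul]
      have hjK : j ∉ K := fun h => huK (by
        have : u = k * j⁻¹ := by simp only [k]; group
        rw [this]; exact K.mul_mem hkK (K.inv_mem h))
      have hj1 : j ≠ 1 := fun e => hjK (e ▸ K.one_mem)
      have hju' : IsConj u j := (conj_cases L (orderOf_eq_prime (by rw [pow_two, hj2]) hj1)).resolve_left
        fun h => hjK ((ztype_cent C hK hju hj2 hj1).1 h)
      refine ⟨hiz, hju', ?_⟩
      have hij : i * j = u * (i * k) := by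
        calc i * j = i * u * k := by rw [mul_assoc, ← hjk]
          _ = u * i * k := by rw [(hwK hiK).eq]
          _ = _ := mul_assoc _ _ _
      -- `i * k` has odd order
      have hodd : Odd (orderOf (i * k)) := by
        by_cases hik : k = i
        · rw [hik, hi2, orderOf_one]; exact odd_one
        rw [← Nat.not_even_iff_odd]
        rintro ⟨m, hm⟩
        refine hnc ⟨?_, hik⟩
        set s := (i * k) ^ m
        have hs2 : s * s = 1 := by rw [← pow_add, ← hm, pow_orderOf_eq_one]
        have hs1 : s ≠ 1 := fun e => by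
          have := orderOf_dvd_of_pow_eq_one e
          have := orderOf_pos (i * k)
          have := Nat.le_of_dvd (by omega) ‹orderOf (i * k) ∣ m›
          omega
        have his : Commute i s := by
          refine mul_inv_eq_iff_eq_mul.1 ?_
          rw [show i * s * i⁻¹ = (i * (i * k) * i⁻¹) ^ m from conj_pow.symm,
            show i * (i * k) * i⁻¹ = (i * k)⁻¹ by
              rw [mul_inv_rev, inv_eq_of_mul_eq_one_right hi2, inv_eq_of_mul_eq_one_right hk2,
                ← mul_assoc i i k, hi2, one_mul], inv_pow, inv_eq_of_mul_eq_one_right hs2]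
        have hks : Commute k s := by
          have := his.mul_left ((Commute.refl (i * k)).pow_right m)
          rwa [← mul_assoc, hi2, one_mul] at this
        obtain ⟨g, hg, e⟩ := conj_z hK (K.pow_mem (K.mul_mem hiK hkK) m) hs2 hs1
        have hmemV : ∀ x ∈ K, Commute x s → g * x * g⁻¹ ∈ V z a := fun x hx hxs =>
          cent_mem_V hK (z_mem_V L) (z_ne C) (K.mul_mem (K.mul_mem hg hx) (K.inv_mem hg)) (by
            rw [← e]
            calc g * x * g⁻¹ * (g * s * g⁻¹) = g * (x * s) * g⁻¹ := by group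
              _ = _ := by rw [hxs.eq]; simp [mul_assoc, s])
        have hc := D_comm L (V_le_D L (hmemV k hkK hks)) (V_le_D L (hmemV i hiK his))
        calc k * i = g⁻¹ * ((g * k * g⁻¹) * (g * i * g⁻¹)) * g := by group
          _ = g⁻¹ * ((g * i * g⁻¹) * (g * k * g⁻¹)) * g := by rw [hc]
          _ = i * k := by group
      refine ⟨orderOf (i * k), ?_⟩
      show (i * j) ^ (orderOf (i * k) : ℤ) = u
      rw [zpow_natCast, hij, (hwK (K.mul_mem hiK hkK)).mul_pow, pow_orderOf_eq_one, mul_one]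
      obtain ⟨m, hm⟩ := hodd
      rw [hm, pow_succ, pow_mul, pow_two, L.sq, one_pow, one_mul]
  haveI : Fintype I := Fintype.ofFinite _
  have e : {p : G × G // IsConj z p.1 ∧ IsConj u p.2 ∧ u ∈ zpowers (p.1 * p.2)} ≃
      Σ i : I, {k : I // ¬ ((k : G) * i = i * k ∧ (k : G) ≠ i)} :=
    { toFun := fun p =>
        have h := (key p.1.1 p.1.2).1 p.2
        ⟨⟨p.1.1, h.1⟩, ⟨u * p.1.2, h.2.1⟩, h.2.2⟩
      invFun := fun q => ⟨(q.1.1, u * q.2.1.1), by
        refine (key _ _).2 ?_
        have e : u * (u * (q.2.1.1 : G)) = q.2.1.1 := by rw [← mul_assoc, L.sq, one_mul]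
        rw [e]
        exact ⟨q.1.2, q.2.1.2, q.2.2⟩⟩
      left_inv := fun p => Subtype.ext (Prod.ext rfl (by
        show u * (u * p.1.2) = p.1.2
        rw [← mul_assoc, L.sq, one_mul]))
      right_inv := fun q => by
        obtain ⟨i, ⟨k, hk⟩, hq⟩ := q
        refine Sigma.ext rfl (heq_of_eq (Subtype.ext (Subtype.ext ?_)))
        show u * (u * k) = k
        rw [← mul_assoc, L.sq, one_mul] }
  rw [Nat.card_congr e, Nat.card_sigma]
  have h : ∀ i : I, Nat.card {k : I // ¬ ((k : G) * i = i * k ∧ (k : G) ≠ i)} = Nat.card I - 2 := by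
    intro i
    have h2 : Nat.card {k : I // (k : G) * i = i * k ∧ (k : G) ≠ i} = 2 := by
      rw [← cent_card_four C hK i.2.1 i.2.2.1 i.2.2.2]
      exact Nat.card_congr
        { toFun := fun k => ⟨k.1.1, k.1.2.1, k.1.2.2.1, k.1.2.2.2, k.2.1, k.2.2⟩
          invFun := fun k => ⟨⟨k.1, k.2.1, k.2.2.1, k.2.2.2.1⟩, k.2.2.2.2.1, k.2.2.2.2.2⟩
          left_inv := fun k => rfl
          right_inv := fun k => rfl }
    rw [Nat.card_eq_fintype_card, Fintype.card_subtype_compl, ← Nat.card_eq_fintype_card,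
      ← Nat.card_eq_fintype_card, h2]
  simp only [h, Finset.sum_const, Finset.card_univ, ← Nat.card_eq_fintype_card, hI, smul_eq_mul]

theorem order_cases : (Nat.card K = 60 ∧ Nat.card G = 604800) ∨
    (Nat.card K = 12 ∧ Nat.card G = 51840) := by
  have L := C.loc
  have hf := S0213.result z u L.fr.hJ.l.orderOf_z (orderOf_u L) (not_conj L)
    (fun t ht => conj_cases L ht)
  rw [count_z C, count_u C hK, card_H L.fr.hJ, hK.card] at hf
  rcases card_cases hK with ⟨h60, h15⟩ | ⟨h12, hall⟩
  · rw [h60, h15] at hf; exact Or.inl ⟨h60, hf⟩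
  · have h3 : Nat.card {t : K // orderOf t = 2} = 3 := by
      have hM : M hK = K := le_antisymm inf_le_right fun k hk => (mem_M hK).2 ⟨hk, hall k hk⟩
      have e : {t : K // orderOf t = 2} ≃ {v : ↥(V z a) // v ≠ 1} :=
        { toFun := fun t => ⟨⟨t.1, invol_M hK (by rw [hM]; exact t.1.2) (by
              have := pow_orderOf_eq_one t.1
              rw [t.2, pow_two] at this
              exact congrArg Subtype.val this)⟩, fun e => by
              have h := t.2
              rw [show t.1 = 1 from Subtype.ext (congrArg Subtype.val e :), orderOf_one] at h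
              omega⟩
          invFun := fun v => ⟨⟨v.1, V_le_K hK v.1.2⟩, orderOf_eq_prime
            (by rw [pow_two]; exact Subtype.ext (V_sq L v.1.2))
            fun e => v.2 (Subtype.ext (congrArg Subtype.val e :))⟩
          left_inv := fun t => rfl
          right_inv := fun v => rfl }
      classical
      haveI := Fintype.ofFinite ↥(V z a)
      have hV4 := card_V L
      rw [Nat.card_eq_fintype_card] at hV4
      rw [Nat.card_congr e, Nat.card_eq_fintype_card, Fintype.card_subtype_compl]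
      simp [hV4]
    rw [h12, h3] at hf
    exact Or.inr ⟨h12, hf⟩

end

end Cfsg.Agent.J2TypeOrder79
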