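import Mathlib
import Cfsg.Prelude.Def_Classical
import Cfsg.Prelude.Def_LieClassical
import Cfsg.Prelude.Def_ClassicalGeometry
import Cfsg.Agent.Lib.OrthUnitaryHerm
import Cfsg.Agent.Lib.QuadClassify
import Cfsg.Agent.Lib.SymplecticBasic
import Cfsg.Agent.Lib.SymplecticAlt
import Cfsg.Agent.S0760

/-!
Field reduction from `K` with `q^2` elements to `F` with `q` elements: the unitary group inside
the symplectic and orthogonal groups of twice the dimension.
-/

set_option autoImplicit false

namespace Cfsg.Agent.UnitaryEmbed

open Module
open Cfsg.Agent.OrthUnitaryHerm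

/-- The partner of a coordinate. -/
def mate (m : ℕ) (i : Fin m) : Fin m :=
  if h : Even (i : ℕ) then (if h' : (i : ℕ) + 1 < m then ⟨(i : ℕ) + 1, h'⟩ else i)
  else ⟨(i : ℕ) - 1, by omega⟩

theorem mate_mate {m : ℕ} (i : Fin m) : mate m (mate m i) = i := by
  by_cases h : Even (i : ℕ)
  · by_cases h' : (i : ℕ) + 1 < m
    · have : ¬ Even ((i : ℕ) + 1) := by rw [Nat.even_add_one]; exact not_not_intro h
      simp [mate, h, h', this]
    · simp [mate, h, h']
  · have h1 : 1 ≤ (i : ℕ) := by
      rcases Nat.eq_zero_or_pos (i : ℕ) with h0 | h0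
      · exact absurd (h0 ▸ Even.zero) h
      · exact h0
    have h2 : Even ((i : ℕ) - 1) := by rw [Nat.even_sub h1]; simp [h]
    have h3 : (i : ℕ) - 1 + 1 < m := by omega
    simp [mate, h, h2, h3]
    ext; simp; omega

variable {K F : Type*} [Field K] [Fintype K] [Field F] [Fintype F] {q m : ℕ}

theorem exists_algebra (hK : Fintype.card K = q ^ 2) (hF : Fintype.card F = q) :
    Nonempty (F →+* K) := by
  obtain ⟨p, f, hp, hcK, hf, hpf⟩ := exists_prime_pow hK
  obtain ⟨p', hcF, n, hp', hn⟩ := FiniteField.card' F
  have hn' : p' ^ (n : ℕ) = p ^ f := by rw [← hn, hF, hpf]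
  obtain rfl : p' = p := (Nat.prime_dvd_prime_iff_eq hp' hp).mp
    (hp'.dvd_of_dvd_pow (hn' ▸ dvd_pow_self p' n.pos.ne'))
  haveI : Fact p'.Prime := ⟨hp⟩
  letI := ZMod.algebra F p'
  letI := ZMod.algebra K p'
  have e1 : finrank (ZMod p') F = f := by
    have h := Module.natCard_eq_pow_finrank (K := ZMod p') (V := F)
    rw [Nat.card_eq_fintype_card, hF, Nat.card_zmod, hpf] at h
    exact (Nat.pow_right_injective hp.two_le h).symm
  have e2 : finrank (ZMod p') K = f * 2 := by
    have h := Module.natCard_eq_pow_finrank (K := ZMod p') (V := K)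
    rw [Nat.card_eq_fintype_card, hK, Nat.card_zmod, hpf, ← pow_mul] at h
    exact (Nat.pow_right_injective hp.two_le h).symm
  obtain ⟨φ⟩ := FiniteField.nonempty_algHom_of_finrank_dvd
    (F := ZMod p') (K := F) (L := K) (by rw [e1, e2]; exact dvd_mul_right f 2)
  exact ⟨φ.toRingHom⟩

variable [Algebra F K] (hK : Fintype.card K = q ^ 2) (hF : Fintype.card F = q)

include hF in
theorem alg_pow (a : F) : algebraMap F K a ^ q = algebraMap F K a := by
  rw [← map_pow, ← hF, FiniteField.pow_card]

include hK hF in
theorem mem_range_of_fixed {x : K} (hx : x ^ q = x) : ∃ a : F, algebraMap F K a = x := by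
  classical
  have hq := two_le_q hK
  have hsub : (Finset.univ : Finset F).image (algebraMap F K) ⊆
      Finset.univ.filter (fun y : K => y ^ q = y) := by
    intro y hy
    obtain ⟨a, -, rfl⟩ := Finset.mem_image.mp hy
    simp [alg_pow hF a]
  have hcard : (Finset.univ.filter (fun y : K => y ^ q = y)).card ≤ q := by
    refine le_trans (Finset.card_le_card ?_) ((Multiset.toFinset_card_le _).trans
      ((Polynomial.card_roots' (Polynomial.X ^ q - Polynomial.X : Polynomial K)).trans
        (le_of_eq (FiniteField.X_pow_card_sub_X_natDegree_eq K (by omega)))))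
    intro y hy
    have := (Finset.mem_filter.mp hy).2
    rw [Multiset.mem_toFinset, Polynomial.mem_roots (FiniteField.X_pow_card_sub_X_ne_zero K (by omega))]
    simp [this]
  have heq := Finset.eq_of_subset_of_card_le hsub
    (by rw [Finset.card_image_of_injective _ (algebraMap F K).injective, Finset.card_univ, hF]; exact hcard)
  have : x ∈ Finset.univ.filter (fun y : K => y ^ q = y) := by simp [hx]
  rw [← heq] at this
  obtain ⟨a, -, ha⟩ := Finset.mem_image.mp this
  exact ⟨a, ha⟩

variable (F) in
/-- The element of `F` behind an element of its image in `K`. -/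
noncomputable def toF (x : K) : F := Function.invFun (algebraMap F K) x

include hK hF in
theorem alg_toF {x : K} (hx : x ^ q = x) : algebraMap F K (toF F x) = x :=
  Function.invFun_eq (mem_range_of_fixed hK hF hx)

include hK hF in
theorem toF_eq_zero {x : K} (hx : x ^ q = x) : toF F x = 0 ↔ x = 0 := by
  constructor
  · intro h; rw [← alg_toF hK hF hx, h, map_zero]
  · intro h
    apply (algebraMap F K).injective
    rw [alg_toF hK hF hx, h, map_zero]

include hK hF in
theorem finrank_space : finrank F (Fin m → K) = 2 * m := by
  have h : finrank F K = 2 := by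
    have h := Module.natCard_eq_pow_finrank (K := F) (V := K)
    rw [Nat.card_eq_fintype_card, hK, Nat.card_eq_fintype_card, hF] at h
    exact (Nat.pow_right_injective (two_le_q hK) h).symm
  rw [Module.finrank_pi_fintype]
  simp [h, mul_comm]

omit [Fintype K] [Fintype F] in
theorem smul_eq (a : F) (v : Fin m → K) : a • v = algebraMap F K a • v :=
  (IsScalarTower.algebraMap_smul K a v).symm

include hF in
theorem herm_smul_left' (a : F) (u v : Fin m → K) :
    Cfsg.hermForm m K q (a • u) v = algebraMap F K a * Cfsg.hermForm m K q u v := by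
  rw [smul_eq, herm_smul_left]

include hF in
theorem herm_smul_right' (a : F) (u v : Fin m → K) :
    Cfsg.hermForm m K q v (a • u) = algebraMap F K a * Cfsg.hermForm m K q v u := by
  rw [smul_eq, herm_smul_right, alg_pow hF]

/-- The restriction of scalars of a matrix action, transported to coordinates over `F`. -/
noncomputable def transport {ι : Type} [Fintype ι] [DecidableEq ι]
    (L : (ι → F) ≃ₗ[F] (Fin m → K)) : Matrix (Fin m) (Fin m) K →* Matrix ι ι F where
  toFun M := LinearMap.toMatrix' (L.symm.toLinearMap ∘ₗ (M.mulVecLin.restrictScalars F) ∘ₗ L.toLinearMap)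
  map_one' := by
    refine Matrix.ext_of_mulVec_single fun j => ?_
    rw [LinearMap.toMatrix'_mulVec, Matrix.one_mulVec]
    simp
  map_mul' M N := by
    refine Matrix.ext_of_mulVec_single fun j => ?_
    rw [← Matrix.mulVec_mulVec, LinearMap.toMatrix'_mulVec, LinearMap.toMatrix'_mulVec,
      LinearMap.toMatrix'_mulVec]
    simp [Matrix.mulVec_mulVec]

omit [Fintype K] [Fintype F] in
theorem transport_mulVec {ι : Type} [Fintype ι] [DecidableEq ι]
    (L : (ι → F) ≃ₗ[F] (Fin m → K)) (M : Matrix (Fin m) (Fin m) K) (w : ι → F) :
    L ((transport L M).mulVec w) = M.mulVec (L w) := by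
  simp [transport, LinearMap.toMatrix'_mulVec]

omit [Fintype K] [Fintype F] in
theorem transport_injective {ι : Type} [Fintype ι] [DecidableEq ι]
    (L : (ι → F) ≃ₗ[F] (Fin m → K)) : Function.Injective (transport L) := by
  intro M N h
  refine Matrix.ext_of_mulVec_single fun j => ?_
  obtain ⟨w, hw⟩ := L.surjective (Pi.single j 1)
  rw [← hw, ← transport_mulVec, ← transport_mulVec, h]

/-! ### The symplectic group -/

include hK hF in
theorem exists_symp : ∃ φ : ↥(Cfsg.GU m K q) →* ↥(Matrix.symplecticGroup (Fin m) F),
    Function.Injective φ := by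
  classical
  obtain ⟨δ, hδ0, hδ⟩ := exists_skew hK
  have hδq : δ ^ q = -δ := eq_neg_of_add_eq_zero_right hδ
  set h := Cfsg.hermForm m K q with hh
  have hfix : ∀ u v, (δ * (h u v - h v u)) ^ q = δ * (h u v - h v u) := by
    intro u v
    rw [mul_pow, sub_pow_q hK, hδq, hh, ← herm_conj hK, ← herm_conj hK]
    ring
  let B : LinearMap.BilinForm F (Fin m → K) :=
    LinearMap.mk₂ F (fun u v => toF F (δ * (h u v - h v u)))
      (fun u u' v => (algebraMap F K).injective (by
        rw [map_add, alg_toF hK hF (hfix _ _), alg_toF hK hF (hfix _ _), alg_toF hK hF (hfix _ _),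
          hh, herm_add_left, herm_add_right hK]; ring))
      (fun a u v => (algebraMap F K).injective (by
        rw [smul_eq_mul, map_mul, alg_toF hK hF (hfix _ _), alg_toF hK hF (hfix _ _), hh,
          herm_smul_left' hF, herm_smul_right' hF]; ring))
      (fun u v v' => (algebraMap F K).injective (by
        rw [map_add, alg_toF hK hF (hfix _ _), alg_toF hK hF (hfix _ _), alg_toF hK hF (hfix _ _),
          hh, herm_add_left, herm_add_right hK]; ring))
      (fun a u v => (algebraMap F K).injective (by
        rw [smul_eq_mul, map_mul, alg_toF hK hF (hfix _ _), alg_toF hK hF (hfix _ _), hh,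
          herm_smul_left' hF, herm_smul_right' hF]; ring))
  have hBv : ∀ u v, algebraMap F K (B u v) = δ * (h u v - h v u) := fun u v =>
    alg_toF hK hF (hfix u v)
  have halt : ∀ v, B v v = 0 := fun v => (algebraMap F K).injective (by rw [hBv]; simp)
  have hnd : ∀ u ∈ (⊤ : Submodule F (Fin m → K)), (∀ v ∈ (⊤ : Submodule F (Fin m → K)), B u v = 0) → u = 0 := by
    intro u _ hu
    obtain ⟨z, hz⟩ : ∃ z : K, z ^ q ≠ z := by
      obtain ⟨c, hc0, hc⟩ := exists_skew hK
      by_contra hall
      push Not at hall
      have hc2 : (2 : K) * c = 0 := by linear_combination hc - hall c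
      have h2 : (2 : K) = 0 := (mul_eq_zero.mp hc2).resolve_right hc0
      obtain ⟨x, hx1, hx2⟩ := exists_normOne_sq_ne_one hK
      refine hx2 (Units.ext ?_)
      have := congrArg Units.val hx1
      simp only [Units.val_pow_eq_pow_val, Units.val_one] at this ⊢
      rw [pow_succ, hall] at this
      rw [sq]; exact this
    apply eq_zero_of_herm_eq_zero hK
    intro x
    have e : ∀ v, h u v = h v u := by
      intro v
      have := congrArg (algebraMap F K) (hu v trivial)
      rw [hBv, map_zero, mul_eq_zero, sub_eq_zero] at this
      exact this.resolve_left hδ0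
    have e1 := e x
    have e2 := e (z • x)
    rw [hh, herm_smul_right, herm_smul_left, ← hh, ← e1] at e2
    have : (z ^ q - z) * h u x = 0 := by linear_combination e2
    exact (mul_eq_zero.mp this).resolve_left (sub_ne_zero.mpr hz)
  obtain ⟨k, hk, e, -, he⟩ := SymplecticAlt.exists_symp_basis B halt (2 * m) ⊤
    (by rw [finrank_top, finrank_space hK hF]) hnd
  obtain rfl : m = k := by omega
  have hli : LinearIndependent F e := by
    rw [Fintype.linearIndependent_iff]
    intro c hc s
    rcases s with i | i
    · have := congrArg (B (e (Sum.inr i))) hc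
      rw [map_sum, map_zero] at this
      simpa [he, SymplecticBasic.form_single_inl_right, SymplecticBasic.form_single_inr_right,
        Fintype.sum_sum_type, Pi.single_apply, Finset.sum_ite_eq'] using this
    · have := congrArg (B (e (Sum.inl i))) hc
      rw [map_sum, map_zero] at this
      simpa [he, SymplecticBasic.form_single_inl_right, SymplecticBasic.form_single_inr_right,
        Fintype.sum_sum_type, Pi.single_apply, Finset.sum_ite_eq'] using this
  let b : Basis (Fin m ⊕ Fin m) F (Fin m → K) := basisOfLinearIndependentOfCardEqFinrank' e hli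
    (by rw [finrank_space hK hF, Fintype.card_sum, Fintype.card_fin]; omega)
  let L : (Fin m ⊕ Fin m → F) ≃ₗ[F] (Fin m → K) := b.equivFun.symm
  have hL : ∀ x y, B (L x) (L y) = Cfsg.sympForm m F x y := by
    intro x y
    have hb : ∀ s, L (Pi.single s 1) = e s := fun s => by
      simp [L, b, Basis.equivFun_symm_apply, Pi.single_apply]
    have hx : x = ∑ s, x s • (Pi.single s 1 : Fin m ⊕ Fin m → F) := pi_eq_sum_univ' x
    have hy : y = ∑ s, y s • (Pi.single s 1 : Fin m ⊕ Fin m → F) := pi_eq_sum_univ' y
    conv_lhs => rw [hx, hy]
    simp only [map_sum, map_smul, LinearMap.sum_apply, LinearMap.smul_apply, hb, he, smul_eq_mul]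
    rw [SymplecticBasic.form_eq_sum]
    simp [Fintype.sum_sum_type, SymplecticBasic.form_single_inl_right,
      SymplecticBasic.form_single_inr_right, Pi.single_apply, Finset.sum_sub_distrib]
    simp [mul_comm, sub_eq_add_neg]
  let φ₀ : ↥(Cfsg.GU m K q) →* Matrix (Fin m ⊕ Fin m) (Fin m ⊕ Fin m) F :=
    (transport L).comp ((Units.coeHom _).comp (Cfsg.GU m K q).subtype)
  have hmem : ∀ g, φ₀ g ∈ Matrix.symplecticGroup (Fin m) F := by
    intro g
    rw [SymplecticBasic.mem_sp_iff_form]
    intro x y
    rw [← hL, ← hL]
    apply (algebraMap F K).injective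
    rw [hBv, hBv]
    simp only [φ₀, MonoidHom.comp_apply, transport_mulVec]
    have hg : ∀ u v, h ((Units.coeHom _ ((Cfsg.GU m K q).subtype g)).mulVec u)
        ((Units.coeHom _ ((Cfsg.GU m K q).subtype g)).mulVec v) = h u v := g.2
    rw [hg, hg]
  exact ⟨φ₀.codRestrict _ hmem, fun a c hac => Subtype.ext (Units.ext
    (transport_injective L (congrArg Subtype.val hac)))⟩

/-! ### The orthogonal groups -/

include hK hF in
theorem fixed_self (v : Fin m → K) :
    Cfsg.hermForm m K q v v ^ q = Cfsg.hermForm m K q v v := herm_self_pow hK v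

include hK hF in
theorem exists_qHerm : ∃ Q : QuadraticForm F (Fin m → K),
    (∀ v, algebraMap F K (Q v) = Cfsg.hermForm m K q v v) ∧
    (∀ u v, algebraMap F K (QuadraticMap.polar ⇑Q u v) =
      Cfsg.hermForm m K q u v + Cfsg.hermForm m K q v u) := by
  have hval : ∀ v : Fin m → K, algebraMap F K (toF F (Cfsg.hermForm m K q v v)) =
      Cfsg.hermForm m K q v v := fun v => alg_toF hK hF (fixed_self hK hF v)
  have hpol : ∀ u v : Fin m → K,
      algebraMap F K (QuadraticMap.polar (fun w => toF F (Cfsg.hermForm m K q w w)) u v) =
        Cfsg.hermForm m K q u v + Cfsg.hermForm m K q v u := by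
    intro u v
    simp only [QuadraticMap.polar, map_sub, hval]
    rw [herm_add_left, herm_add_right hK, herm_add_right hK]
    ring
  refine ⟨QuadraticMap.ofPolar (fun w => toF F (Cfsg.hermForm m K q w w))
    (fun a v => (algebraMap F K).injective (by
      rw [smul_eq_mul, map_mul, map_mul, hval, hval, herm_smul_left' hF, herm_smul_right' hF]; ring))
    (fun x x' y => (algebraMap F K).injective (by
      rw [map_add, hpol, hpol, hpol, herm_add_left, herm_add_right hK]; ring))
    (fun a x y => (algebraMap F K).injective (by
      rw [smul_eq_mul, map_mul, hpol, hpol, herm_smul_left' hF, herm_smul_right' hF]; ring)),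
    hval, hpol⟩

include hK hF in
theorem exists_orth {ι : Type} [Fintype ι] [DecidableEq ι] (f : (ι → F) → F)
    (Q : QuadraticForm F (Fin m → K))
    (hQ : ∀ v, algebraMap F K (Q v) = Cfsg.hermForm m K q v v)
    (g : (Fin m → K) ≃ₗ[F] (ι → F)) (hg : ∀ v, f (g v) = Q v) :
    ∃ φ : ↥(Cfsg.GU m K q) →* ↥(Cfsg.isometryGroup F f), Function.Injective φ := by
  let φ₀ : ↥(Cfsg.GU m K q) →* GL ι F :=
    (Units.map (transport g.symm)).comp (Cfsg.GU m K q).subtype
  have hmem : ∀ a, φ₀ a ∈ Cfsg.isometryGroup F f := by
    intro a x _
    obtain ⟨v, rfl⟩ := g.surjective x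
    have key : (φ₀ a : Matrix ι ι F).mulVec (g v) =
        g (((a : GL (Fin m) K) : Matrix (Fin m) (Fin m) K).mulVec v) := by
      apply g.symm.injective
      rw [g.symm_apply_apply]
      change g.symm ((transport g.symm _).mulVec (g v)) = _
      rw [transport_mulVec, g.symm_apply_apply]
      rfl
    show f ((φ₀ a : Matrix ι ι F).mulVec (g v)) = f (g v)
    rw [key, hg, hg]
    apply (algebraMap F K).injective
    rw [hQ, hQ]
    exact a.2 v v
  exact ⟨φ₀.codRestrict _ hmem, fun a c hac => Subtype.ext (Units.ext
    (transport_injective g.symm (congrArg (fun z : GL ι F => (z : Matrix ι ι F))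
      (congrArg Subtype.val hac))))⟩

include hK hF in
/-- The Witt index of the descended form is `2 * (m / 2)`. -/
theorem exists_decomp_herm (Q : QuadraticForm F (Fin m → K))
    (hQ : ∀ v, algebraMap F K (Q v) = Cfsg.hermForm m K q v v)
    (hp : ∀ u v, algebraMap F K (QuadraticMap.polar ⇑Q u v) =
      Cfsg.hermForm m K q u v + Cfsg.hermForm m K q v u) :
    ∃ (e f : Fin (2 * (m / 2)) → (Fin m → K)) (W : Submodule F (Fin m → K)),
      QuadClassify.Decomp Q ⊤ (2 * (m / 2)) e f W ∧ finrank F W + 4 * (m / 2) = 2 * m := by
  classical
  have hq := two_le_q hK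
  obtain ⟨ω, hω⟩ := exists_norm_eq hK (a := (-1 : K)) (by rw [neg_pow_q hK, one_pow])
  -- non-degeneracy
  obtain ⟨z, hz⟩ : ∃ z : K, z ^ q ≠ z := by
    by_contra hall
    push Not at hall
    obtain ⟨x, hx1, hx2⟩ := exists_normOne_sq_ne_one hK
    refine hx2 (Units.ext ?_)
    have := congrArg Units.val hx1
    simp only [Units.val_pow_eq_pow_val, Units.val_one] at this ⊢
    rw [pow_succ, hall] at this
    rw [sq]; exact this
  have trace_zero : ∀ x : K, (∀ c : K, c * x + (c * x) ^ q = 0) → x = 0 := by
    intro x hx
    have h1 := hx 1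
    have h2 := hx z
    rw [one_mul] at h1
    rw [mul_pow] at h2
    have : (z - z ^ q) * x = 0 := by linear_combination h2 - z ^ q * h1
    exact (mul_eq_zero.mp this).resolve_left (sub_ne_zero.mpr (Ne.symm hz))
  have hpz : ∀ u v, QuadraticMap.polar ⇑Q u v = 0 →
      Cfsg.hermForm m K q u v + Cfsg.hermForm m K q u v ^ q = 0 := by
    intro u v h
    rw [← herm_conj hK, ← hp, h, map_zero]
  have hQnd : (QuadraticMap.polarBilin Q).Nondegenerate := by
    have key : ∀ u, (∀ v, QuadraticMap.polar ⇑Q v u = 0) → u = 0 := by
      intro u hu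
      refine eq_zero_of_herm_eq_zero hK fun v => ?_
      rw [herm_conj hK v u, trace_zero (Cfsg.hermForm m K q v u) fun c => ?_, zero_pow (by omega)]
      rw [← herm_smul_left]
      exact hpz _ _ (hu _)
    exact ⟨fun u hu => key u fun v => (QuadraticMap.polar_comm _ v u).trans (hu v), key⟩
  -- the totally singular subspace
  let T : Submodule F (Fin m → K) :=
    { carrier := {v | ∀ i : Fin m, Even (i : ℕ) →
        if (mate m i) = i then v i = 0 else v (mate m i) = ω * v i}
      add_mem' := fun {u v} hu hv i hi => by
        have h1 := hu i hi; have h2 := hv i hi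
        by_cases hm : mate m i = i
        · rw [if_pos hm] at h1 h2 ⊢
          simp [h1, h2]
        · rw [if_neg hm] at h1 h2 ⊢
          simp [h1, h2, mul_add]
      zero_mem' := fun i hi => by simp
      smul_mem' := fun a v hv i hi => by
        have h1 := hv i hi
        by_cases hm : mate m i = i
        · rw [if_pos hm] at h1 ⊢
          simp [h1]
        · rw [if_neg hm] at h1 ⊢
          simp [h1] }
  have hterm : ∀ v : Fin m → K, ∀ i : Fin m,
      (Even (i : ℕ) → if (mate m i) = i then v i = 0 else v (mate m i) = ω * v i) →
      (¬ Even (i : ℕ) → v i = ω * v (mate m i)) →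
      v i * v i ^ q + v (mate m i) * v (mate m i) ^ q = 0 := by
    intro v i hev hod
    have hN : ω * ω ^ q = -1 := by rw [← pow_succ', hω]
    by_cases hi : Even (i : ℕ)
    · have h := hev hi
      split_ifs at h with hm
      · rw [hm, h]; simp
      · rw [h, mul_pow]; linear_combination (v i * v i ^ q) * hN
    · rw [hod hi, mul_pow]; linear_combination (v (mate m i) * v (mate m i) ^ q) * hN
  have hodd : ∀ i : Fin m, ¬ Even (i : ℕ) → mate m i ≠ i ∧ Even (mate m i : ℕ) := by
    intro i hi
    have h1 : 1 ≤ (i : ℕ) := by
      rcases Nat.eq_zero_or_pos (i : ℕ) with h0 | h0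
      · exact absurd (h0 ▸ Even.zero) hi
      · exact h0
    have hv : (mate m i : ℕ) = (i : ℕ) - 1 := by simp [mate, hi]
    refine ⟨fun h => ?_, by rw [hv, Nat.even_sub h1]; simp [hi]⟩
    rw [h] at hv; omega
  have hTsing : ∀ v ∈ T, Q v = 0 := by
    intro v hv
    apply (algebraMap F K).injective
    rw [hQ, map_zero]
    unfold Cfsg.hermForm
    refine Finset.sum_involution (fun i _ => mate m i) (fun i _ => ?_) (fun i _ hi => ?_)
      (fun i _ => Finset.mem_univ _) (fun i _ => mate_mate i)
    · refine hterm v i (hv i) fun ho => ?_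
      obtain ⟨h1, h2⟩ := hodd i ho
      have h := hv _ h2
      rw [mate_mate, if_neg (Ne.symm h1)] at h
      exact h
    · intro hm
      by_cases he : Even (i : ℕ)
      · have h := hv i he
        rw [if_pos hm] at h
        exact hi (by rw [h]; simp)
      · exact (hodd i he).1 hm
  have hTmax : ∀ W : Submodule F (Fin m → K), T ≤ W → (∀ w ∈ W, Q w = 0) → W = T := by
    intro W hTW hW
    refine le_antisymm (fun w hw i hi => ?_) hTW
    have horth : ∀ t ∈ T, Cfsg.hermForm m K q t w + Cfsg.hermForm m K q t w ^ q = 0 := by
      intro t ht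
      apply hpz
      rw [QuadraticMap.polar, hW _ (W.add_mem (hTW ht) hw), hW _ (hTW ht), hW _ hw]; ring
    have hpair : ∀ j : Fin m, Even (j : ℕ) → mate m j ≠ j → w (mate m j) = ω * w j := by
      intro j hj hjm
      have hne : (j : Fin m) ≠ mate m j := Ne.symm hjm
      have h0 : w j ^ q + ω * w (mate m j) ^ q = 0 := by
        refine trace_zero _ fun c => ?_
        let t : Fin m → K := Pi.single j c + Pi.single (mate m j) (ω * c)
        have ht : t ∈ T := by
          intro l hl
          have hlj : l ≠ mate m j := by
            intro h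
            have h1 := hj
            have h2 := hl
            rw [h] at h2
            have : (mate m j : ℕ) = (j : ℕ) + 1 := by
              by_cases h' : (j : ℕ) + 1 < m
              · simp [mate, hj, h']
              · exact absurd (by simp [mate, hj, h']) hjm
            rw [this, Nat.even_add_one] at h2
            exact h2 h1
          by_cases hlj' : l = j
          · subst hlj'
            rw [if_neg hjm]
            simp [t, hne, hjm]
          · have h1 : mate m l ≠ j → mate m l ≠ mate m j → (if mate m l = l then t l = 0 else t (mate m l) = ω * t l) := by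
              intro a b
              split_ifs <;> simp [t, a, b, hlj, hlj']
            refine h1 (fun h => hlj ?_) (fun h => hlj' ?_)
            · rw [← h, mate_mate]
            · rw [← mate_mate l, h, mate_mate]
        have hht : Cfsg.hermForm m K q t w = c * (w j ^ q + ω * w (mate m j) ^ q) := by
          have hs : ∀ (k : Fin m) (x : K), Cfsg.hermForm m K q (Pi.single k x) w = x * w k ^ q := by
            intro k x
            have : (Pi.single k x : Fin m → K) = x • Pi.single k 1 := by simp [← Pi.single_smul]
            rw [this, herm_smul_left, herm_single_left]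
          rw [herm_add_left, hs, hs]; ring
        rw [← hht]; exact horth t ht
      have h1 := congrArg (· ^ q) h0
      simp only [add_pow_q hK, mul_pow, pow_q_q hK, zero_pow (show q ≠ 0 by omega)] at h1
      have hN : ω * ω ^ q = -1 := by rw [← pow_succ', hω]
      linear_combination -ω * h1 + w (mate m j) * hN
    split_ifs with hm
    · -- the unpaired coordinate
      let w' : Fin m → K := w - Pi.single i (w i)
      have hw' : w' ∈ T := by
        intro l hl
        by_cases hli : l = i
        · subst hli
          simp [w', hm]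
        · have hmi : mate m l ≠ i := fun h => hli (by rw [← mate_mate l, h, hm])
          split_ifs with hl'
          · exfalso
            have e1 : m ≤ (l : ℕ) + 1 := by
              by_contra h'
              push Not at h'
              have := congrArg Fin.val hl'
              simp [mate, hl, h'] at this
            have e2 : m ≤ (i : ℕ) + 1 := by
              by_contra h'
              push Not at h'
              have := congrArg Fin.val hm
              simp [mate, hi, h'] at this
            exact hli (Fin.ext (by omega))
          · simp [w', hli, hmi, hpair l hl hl']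
      have hsing : Q (Pi.single i (w i)) = 0 := hW _ (by
        have := W.sub_mem hw (hTW hw')
        simpa [w'] using this)
      have := congrArg (algebraMap F K) hsing
      rw [hQ, map_zero] at this
      unfold Cfsg.hermForm at this
      rw [Finset.sum_eq_single i (fun l _ hl => by simp [hl]) (by simp)] at this
      simpa [show q ≠ 0 by omega] using this
    · exact hpair i hi hm
  have hTdim : finrank F T = 2 * (2 * (m / 2)) / 2 := by
    rw [Nat.mul_div_cancel_left _ two_pos]
    let ev : T →ₗ[F] (Fin (m / 2) → K) :=
      { toFun := fun v j => (v : Fin m → K) ⟨2 * (j : ℕ), by omega⟩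
        map_add' := fun u v => rfl
        map_smul' := fun a v => rfl }
    have hbij : Function.Bijective ev := by
      constructor
      · rw [injective_iff_map_eq_zero]
        intro v hv
        apply Subtype.ext
        have heven : ∀ i : Fin m, Even (i : ℕ) → (v : Fin m → K) i = 0 := by
          intro i hi
          by_cases h' : (i : ℕ) + 1 < m
          · obtain ⟨r, hr⟩ := hi
            have := congrFun hv ⟨r, by omega⟩
            simpa [ev, show (⟨2 * r, by omega⟩ : Fin m) = i from Fin.ext (by simp; omega)] using this
          · have h := v.2 i hi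
            rwa [if_pos (by simp [mate, hi, h'])] at h
        funext i
        by_cases hi : Even (i : ℕ)
        · exact heven i hi
        · obtain ⟨h1, h2⟩ := hodd i hi
          have h := v.2 _ h2
          rw [mate_mate, if_neg (Ne.symm h1)] at h
          rw [h, heven _ h2, mul_zero]; rfl
      · intro c
        refine ⟨⟨fun i => if h : (i : ℕ) / 2 < m / 2 then
          (if Even (i : ℕ) then c ⟨_, h⟩ else ω * c ⟨_, h⟩) else 0, ?_⟩, ?_⟩
        · intro i hi
          obtain ⟨r, hr⟩ := hi
          split_ifs with hm
          · have e2 : m ≤ (i : ℕ) + 1 := by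
              by_contra h'
              push Not at h'
              have := congrArg Fin.val hm
              simp [mate, show Even (i : ℕ) from ⟨r, hr⟩, h'] at this
            dsimp only
            rw [dif_neg (by omega)]
          · have h' : (i : ℕ) + 1 < m := by
              by_contra h'
              exact hm (by simp [mate, show Even (i : ℕ) from ⟨r, hr⟩, h'])
            have hmv : (mate m i : ℕ) = (i : ℕ) + 1 := by
              simp [mate, show Even (i : ℕ) from ⟨r, hr⟩, h']
            dsimp only
            rw [dif_pos (show (mate m i : ℕ) / 2 < m / 2 by omega),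
              dif_pos (show (i : ℕ) / 2 < m / 2 by omega),
              if_neg (show ¬ Even (mate m i : ℕ) by
                rw [hmv, Nat.even_add_one, not_not]; exact ⟨r, hr⟩),
              if_pos (show Even (i : ℕ) from ⟨r, hr⟩)]
            congr 2
            ext; simp; omega
        · funext j
          simp [ev, j.2]
    rw [(LinearEquiv.ofBijective ev hbij).finrank_eq, finrank_space hK hF]
  rw [Nat.mul_div_cancel_left _ two_pos] at hTdim
  obtain ⟨k, e, f, W, hd, hW2⟩ := QuadClassify.exists_decomp Q hQnd
  -- the span of the `e i` is maximal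
  have hk : k = 2 * (m / 2) := by
    obtain ⟨hH, -, -, -, horth, hdim, han, -⟩ := hd
    rw [finrank_top] at hdim
    let z := Module.finBasis F W
    obtain ⟨b, hbe, hbf, hbz, hval⟩ := hH.exists_basis (ι := Fin (finrank F W))
      (z := fun l => ((z l : W) : Fin m → K))
      (z.linearIndependent.map' W.subtype W.ker_subtype)
      (fun i l => (horth i _ (z l).2).1) (fun i l => (horth i _ (z l).2).2) (by simpa using hdim)
    let E : Submodule F (Fin m → K) := Submodule.span F (Set.range e)
    have hEdim : finrank F E = k := by
      have hli : LinearIndependent F e := by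
        have := b.linearIndependent.comp (fun i => Sum.inl (Sum.inl i))
          (fun i j h => by simpa using h)
        simpa [Function.comp_def, hbe] using this
      rw [finrank_span_eq_card hli, Fintype.card_fin]
    have hEsing : ∀ x ∈ E, Q x = 0 := by
      intro x hx
      obtain ⟨c, rfl⟩ := (Submodule.mem_span_range_iff_exists_fun F).mp hx
      have := hH.value 0 (fun i => by simp) (fun i => by simp) c 0
      simpa using this
    have hEmax : ∀ W' : Submodule F (Fin m → K), E ≤ W' → (∀ w ∈ W', Q w = 0) → W' = E := by
      intro W' hle hs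
      refine le_antisymm (fun x hx => ?_) hle
      have hr : ∀ i, b.repr x (.inl (.inr i)) = 0 := by
        intro i
        have he' : e i ∈ W' := hle (Submodule.subset_span ⟨i, rfl⟩)
        have h0 : QuadraticMap.polar ⇑Q (e i) x = 0 := by
          rw [QuadraticMap.polar, hs _ (W'.add_mem he' hx), hs _ he', hs _ hx]; ring
        rw [← b.sum_repr x, ← QuadraticMap.polarBilin_apply_apply, map_sum, Fintype.sum_sum_type,
          Fintype.sum_sum_type] at h0
        simpa [hbe, hbf, hbz, hH.pee, hH.pef, fun l => (horth i _ (z l).2).1,
          Finset.sum_ite_eq] using h0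
      have hz0 : ∑ l, b.repr x (.inr l) • ((z l : W) : Fin m → K) = 0 := by
        refine han _ (W.sum_mem fun l _ => W.smul_mem _ (z l).2) ?_
        have := hval x
        rw [hs _ hx] at this
        simpa [hr] using this.symm
      rw [← b.sum_repr x, Fintype.sum_sum_type, Fintype.sum_sum_type]
      simp only [hbe, hbf, hbz, hr, hz0, zero_smul, Finset.sum_const_zero, add_zero]
      exact E.sum_mem fun i _ => E.smul_mem _ (Submodule.subset_span ⟨i, rfl⟩)
    have h1 := S0760.finrank_le_of_maximal Q hQnd T E hTsing hEsing hTmax
    have h2 := S0760.finrank_le_of_maximal Q hQnd E T hEsing hTsing hEmax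
    omega
  subst hk
  have hdim := hd.2.2.2.2.2.1
  rw [finrank_top, finrank_space hK hF] at hdim
  exact ⟨e, f, W, hd, by omega⟩

end Cfsg.Agent.UnitaryEmbed
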