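import Mathlib
import Cfsg.Agent.Lib.OrthUnitarySL2
import Cfsg.Agent.Lib.OrthUnitaryIsoCore
import Cfsg.Agent.Lib.UnitaryEmbed

/-!
Orthogonal groups in dimensions three and four as `SL_2` groups.
-/

set_option autoImplicit false
set_option linter.unusedSectionVars false

namespace Cfsg.Agent.OrthUnitaryLowDim

open QuadraticMap
open scoped Matrix MatrixGroups commutatorElement
open Cfsg.Agent.OrthUnitaryQuad
open Cfsg.Agent.OrthUnitaryForms
open Cfsg.Agent.OrthUnitaryStd
open Cfsg.Agent.OrthUnitarySL2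
open Cfsg.Agent.OrthUnitaryIsoCore

/-! ### A homomorphism from an action by matrices -/

section Bundle

variable {F : Type*} [Field F] {V : Type*} [AddCommGroup V] [Module F V] {Q : QuadraticForm F V}
  {H : Type*} [Group H]

/-- A multiplicative family of linear maps preserving a form, as a homomorphism. -/
def bundleHom (T : H → V →ₗ[F] V) (h1 : ∀ v, T 1 v = v)
    (hmul : ∀ g h v, T (g * h) v = T g (T h v)) (hQ : ∀ g v, Q (T g v) = Q v) : H →* orth Q where
  toFun g :=
    ⟨{ T g with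
        invFun := T g⁻¹
        left_inv := fun v => by
          show T g⁻¹ (T g v) = v
          rw [← hmul, inv_mul_cancel, h1]
        right_inv := fun v => by
          show T g (T g⁻¹ v) = v
          rw [← hmul, mul_inv_cancel, h1] }, fun v => hQ g v⟩
  map_one' := Subtype.ext (LinearEquiv.ext h1)
  map_mul' g h := Subtype.ext (LinearEquiv.ext (hmul g h))

theorem bundleHom_ker (T : H → V →ₗ[F] V) (h1 : ∀ v, T 1 v = v)
    (hmul : ∀ g h v, T (g * h) v = T g (T h v)) (hQ : ∀ g v, Q (T g v) = Q v) {g : H}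
    (hg : g ∈ (bundleHom T h1 hmul hQ).ker) (v : V) : T g v = v :=
  congrArg (fun k : orth Q => k.1 v) (MonoidHom.mem_ker.1 hg)

end Bundle

variable {F : Type*} [Field F]

/-- Entries of an element of `SL_2`. -/
theorem det_eq (g : SL(2, F)) : g.1 0 0 * g.1 1 1 - g.1 0 1 * g.1 1 0 = 1 := by
  have := g.2
  rwa [Matrix.det_fin_two] at this

theorem mul_entry (g h : SL(2, F)) (i j : Fin 2) :
    (g * h).1 i j = g.1 i 0 * h.1 0 j + g.1 i 1 * h.1 1 j := by
  show (g.1 * h.1) i j = _
  rw [Matrix.mul_apply, Fin.sum_univ_two]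

theorem sl2_ext {g h : SL(2, F)} (h00 : g.1 0 0 = h.1 0 0) (h01 : g.1 0 1 = h.1 0 1)
    (h10 : g.1 1 0 = h.1 1 0) (h11 : g.1 1 1 = h.1 1 1) : g = h := by
  apply Subtype.ext
  ext i j
  fin_cases i <;> fin_cases j <;> assumption

theorem eq_one_or_minusOne {g : SL(2, F)} (h01 : g.1 0 1 = 0) (h10 : g.1 1 0 = 0)
    (h : g.1 0 0 * g.1 0 0 = 1) : g = 1 ∨ g = minusOne F := by
  have hd := det_eq g
  rw [h01, zero_mul, sub_zero] at hd
  have h11 : g.1 1 1 = g.1 0 0 := by
    calc g.1 1 1 = g.1 0 0 * (g.1 0 0 * g.1 1 1) := by rw [← mul_assoc, h, one_mul]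
      _ = g.1 0 0 := by rw [hd, mul_one]
  rcases mul_self_eq_one_iff.1 h with ha | ha
  · left
    exact sl2_ext (by rw [ha]; simp) (by rw [h01]; simp) (by rw [h10]; simp) (by rw [h11, ha]; simp)
  · right
    exact sl2_ext (by rw [ha, minusOne_coe]; simp) (by rw [h01, minusOne_coe]; simp)
      (by rw [h10, minusOne_coe]; simp) (by rw [h11, ha, minusOne_coe]; simp)

/-! ### Dimension three -/

/-- The adjoint action on trace-zero matrices `[[x, y], [z, -x]]`. -/
def adj3 (g : SL(2, F)) : (Unit ⊕ (Fin 1 ⊕ Fin 1) → F) →ₗ[F] (Unit ⊕ (Fin 1 ⊕ Fin 1) → F) where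
  toFun v := Sum.elim
    (fun _ => (g.1 0 0 * g.1 1 1 + g.1 0 1 * g.1 1 0) * v (.inl ())
      - g.1 0 0 * g.1 1 0 * v (.inr (.inl 0)) + g.1 0 1 * g.1 1 1 * v (.inr (.inr 0)))
    (Sum.elim
      (fun _ => -2 * g.1 0 0 * g.1 0 1 * v (.inl ()) + g.1 0 0 ^ 2 * v (.inr (.inl 0))
        - g.1 0 1 ^ 2 * v (.inr (.inr 0)))
      (fun _ => 2 * g.1 1 0 * g.1 1 1 * v (.inl ()) - g.1 1 0 ^ 2 * v (.inr (.inl 0))
        + g.1 1 1 ^ 2 * v (.inr (.inr 0))))
  map_add' u v := by
    funext i
    rcases i with i | i | i <;> simp <;> ring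
  map_smul' c v := by
    funext i
    rcases i with i | i | i <;> simp <;> ring

theorem adj3_apply_inl (g : SL(2, F)) (v : Unit ⊕ (Fin 1 ⊕ Fin 1) → F) (u : Unit) :
    adj3 g v (.inl u) = (g.1 0 0 * g.1 1 1 + g.1 0 1 * g.1 1 0) * v (.inl ())
      - g.1 0 0 * g.1 1 0 * v (.inr (.inl 0)) + g.1 0 1 * g.1 1 1 * v (.inr (.inr 0)) := rfl

theorem adj3_apply_y (g : SL(2, F)) (v : Unit ⊕ (Fin 1 ⊕ Fin 1) → F) (u : Fin 1) :
    adj3 g v (.inr (.inl u)) = -2 * g.1 0 0 * g.1 0 1 * v (.inl ())
      + g.1 0 0 ^ 2 * v (.inr (.inl 0)) - g.1 0 1 ^ 2 * v (.inr (.inr 0)) := rfl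

theorem adj3_apply_z (g : SL(2, F)) (v : Unit ⊕ (Fin 1 ⊕ Fin 1) → F) (u : Fin 1) :
    adj3 g v (.inr (.inr u)) = 2 * g.1 1 0 * g.1 1 1 * v (.inl ())
      - g.1 1 0 ^ 2 * v (.inr (.inl 0)) + g.1 1 1 ^ 2 * v (.inr (.inr 0)) := rfl

theorem adj3_one (v : Unit ⊕ (Fin 1 ⊕ Fin 1) → F) : adj3 1 v = v := by
  funext i
  rcases i with i | i | i
  · simp [adj3_apply_inl]
  · simp [adj3_apply_y, Fin.fin_one_eq_zero i]
  · simp [adj3_apply_z, Fin.fin_one_eq_zero i]

theorem adj3_mul (g h : SL(2, F)) (v : Unit ⊕ (Fin 1 ⊕ Fin 1) → F) :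
    adj3 (g * h) v = adj3 g (adj3 h v) := by
  funext i
  rcases i with i | i | i <;>
    simp only [adj3_apply_inl, adj3_apply_y, adj3_apply_z, mul_entry] <;> ring

theorem adj3_map (g : SL(2, F)) (v : Unit ⊕ (Fin 1 ⊕ Fin 1) → F) :
    quadFormOdd 1 F (adj3 g v) = quadFormOdd 1 F v := by
  have hd := det_eq g
  simp only [quadFormOdd, Fin.sum_univ_one, adj3_apply_inl, adj3_apply_y, adj3_apply_z]
  linear_combination ((g.1 0 0 * g.1 1 1 - g.1 0 1 * g.1 1 0 + 1)
    * (v (.inl ()) ^ 2 + v (.inr (.inl 0)) * v (.inr (.inr 0)))) * hd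

theorem nonempty_odd_three [Fintype F] (h2 : (2 : F) ≠ 0) :
    Nonempty (POmega F (quadFormOdd 1 F) ≃* Matrix.ProjectiveSpecialLinearGroup (Fin 2) F) := by
  classical
  set Q := (withBase 1 (qfSq F)).comp (eqOdd (F := F) 1).symm.toLinearMap with hQdef
  have hf := comp_symm_apply (withBase 1 (qfSq F)) (quadFormOdd 1 F) (eqOdd 1) (eqOdd_isometry 1)
  have hQ : (polarBilin Q).Nondegenerate :=
    nondegenerate_congr (eqOdd 1) (fun x => by simp [hQdef])
      (nondegenerate_withBase (nondegenerate_qfSq h2) 1)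
  let φ := bundleHom (Q := Q) adj3 adj3_one adj3_mul (fun g v => by rw [← hf, ← hf, adj3_map])
  have hker : ∀ g ∈ φ.ker, g = 1 ∨ g = minusOne F := by
    intro g hg
    have h1 := bundleHom_ker _ adj3_one adj3_mul _ hg
    have e0 := congrFun (h1 (Sum.elim 1 0)) (.inl ())
    have ey := congrFun (h1 (Sum.elim 1 0)) (.inr (.inl 0))
    have ez := congrFun (h1 (Sum.elim 1 0)) (.inr (.inr 0))
    have eyy := congrFun (h1 (Sum.elim 0 (Sum.elim 1 0))) (.inr (.inl 0))
    simp [adj3_apply_inl, adj3_apply_y, adj3_apply_z, h2] at e0 ey ez eyy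
    have hd := det_eq g
    have hbc : g.1 0 1 * g.1 1 0 = 0 := by
      have : (2 : F) * (g.1 0 1 * g.1 1 0) = 0 := by linear_combination e0 - hd
      exact (mul_eq_zero.1 this).resolve_left h2
    have had : g.1 0 0 * g.1 1 1 = 1 := by linear_combination hd + hbc
    exact eq_one_or_minusOne (ey.resolve_left (left_ne_zero_of_mul_eq_one had))
      (ez.resolve_right (right_ne_zero_of_mul_eq_one had)) (by rcases eyy with h | h <;> rw [h] <;> ring)
  have hc : φ.ker ≤ Subgroup.center SL(2, F) := fun g hg => by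
    rw [Subgroup.mem_center_iff]
    intro k
    rcases hker g hg with rfl | rfl
    · simp
    · exact minusOne_central k
  exact (nonempty_POmega_equiv Q _ hf hQ (by simp) φ
    (range_le_of_squares h2 hQ φ (closure_squares h2)) hc
    (fun x hx => mem_center_of_comm x fun y => hker _ (hx y))
    (card_le_ite _ (minusOne F) hker fun h => absurd h h2)
    (by
      rw [card_isometryGroup_odd rfl (Nat.odd_iff.2 (OrthUnitaryOmega.card_mod_two h2)) 1,
        card_SL2 Nat.card_eq_fintype_card]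
      simp [mul_assoc])).1

/-! ### Dimension four, plus type -/

/-- A vector as the matrix `[[x₀, x₁], [-y₁, y₀]]`. -/
def toM : (Fin 2 ⊕ Fin 2 → F) →ₗ[F] Matrix (Fin 2) (Fin 2) F where
  toFun v := !![v (.inl 0), v (.inl 1); -v (.inr 1), v (.inr 0)]
  map_add' u v := by
    ext i j
    fin_cases i <;> fin_cases j <;> simp [add_comm]
  map_smul' c v := by
    ext i j
    fin_cases i <;> fin_cases j <;> simp

/-- Its inverse. -/
def ofM : Matrix (Fin 2) (Fin 2) F →ₗ[F] (Fin 2 ⊕ Fin 2 → F) where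
  toFun M := Sum.elim ![M 0 0, M 0 1] ![M 1 1, -M 1 0]
  map_add' M N := by
    funext i
    rcases i with i | i <;> fin_cases i <;> simp [add_comm]
  map_smul' c M := by
    funext i
    rcases i with i | i <;> fin_cases i <;> simp

theorem ofM_toM (v : Fin 2 ⊕ Fin 2 → F) : ofM (toM v) = v := by
  funext i
  rcases i with i | i <;> fin_cases i <;> simp [ofM, toM]

theorem toM_ofM (M : Matrix (Fin 2) (Fin 2) F) : toM (ofM M) = M := by
  ext i j
  fin_cases i <;> fin_cases j <;> simp [ofM, toM]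

theorem det_toM (v : Fin 2 ⊕ Fin 2 → F) : (toM v).det = quadFormPlus 2 F v := by
  simp [toM, Matrix.det_fin_two, quadFormPlus, Fin.sum_univ_two]

/-- Two-sided multiplication. -/
def pair4 (g : SL(2, F) × SL(2, F)) : (Fin 2 ⊕ Fin 2 → F) →ₗ[F] (Fin 2 ⊕ Fin 2 → F) where
  toFun v := ofM (g.1.1 * toM v * g.2.1.adjugate)
  map_add' u v := by rw [map_add, Matrix.mul_add, Matrix.add_mul, map_add]
  map_smul' c v := by rw [map_smul, Matrix.mul_smul, Matrix.smul_mul, map_smul, RingHom.id_apply]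

theorem pair4_apply (g : SL(2, F) × SL(2, F)) (v : Fin 2 ⊕ Fin 2 → F) :
    pair4 g v = ofM (g.1.1 * toM v * g.2.1.adjugate) := rfl

theorem pair4_one (v : Fin 2 ⊕ Fin 2 → F) : pair4 1 v = v := by
  rw [pair4_apply]
  show ofM ((1 : Matrix (Fin 2) (Fin 2) F) * toM v * (1 : Matrix (Fin 2) (Fin 2) F).adjugate) = v
  rw [Matrix.adjugate_one, Matrix.one_mul, Matrix.mul_one, ofM_toM]

theorem pair4_mul (g h : SL(2, F) × SL(2, F)) (v : Fin 2 ⊕ Fin 2 → F) :
    pair4 (g * h) v = pair4 g (pair4 h v) := by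
  rw [pair4_apply, pair4_apply, pair4_apply, toM_ofM]
  show ofM ((g.1.1 * h.1.1) * toM v * (g.2.1 * h.2.1).adjugate) = _
  rw [Matrix.adjugate_mul_distrib]
  simp only [Matrix.mul_assoc]

theorem pair4_map (g : SL(2, F) × SL(2, F)) (v : Fin 2 ⊕ Fin 2 → F) :
    quadFormPlus 2 F (pair4 g v) = quadFormPlus 2 F v := by
  rw [← det_toM, ← det_toM, pair4_apply, toM_ofM, Matrix.det_mul, Matrix.det_mul,
    Matrix.det_adjugate, g.1.2, g.2.2]
  simp

theorem center_prod_iff {H K : Type*} [Group H] [Group K] {x : H × K} :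
    x ∈ Subgroup.center (H × K) ↔ x.1 ∈ Subgroup.center H ∧ x.2 ∈ Subgroup.center K := by
  simp only [Subgroup.mem_center_iff]
  exact ⟨fun h => ⟨fun a => congrArg Prod.fst (h (a, 1)), fun b => congrArg Prod.snd (h (1, b))⟩,
    fun h g => Prod.ext (h.1 g.1) (h.2 g.2)⟩

theorem nonempty_plus_four [Fintype F] (hF : 3 ≤ Fintype.card F) :
    Nonempty (POmega F (quadFormPlus 2 F) ≃*
      Matrix.ProjectiveSpecialLinearGroup (Fin 2) F ×
        Matrix.ProjectiveSpecialLinearGroup (Fin 2) F) := by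
  classical
  have hQ : (polarBilin (qfPlus F 2)).Nondegenerate :=
    nondegenerate_congr (eqPlus 2) (fun x => by rw [qfPlus_apply, eqPlus_isometry])
      (nondegenerate_withBase nondegenerate_qfNil 2)
  let φ := bundleHom (Q := qfPlus F 2) pair4 pair4_one pair4_mul
    (fun g v => by rw [qfPlus_apply, qfPlus_apply, pair4_map])
  set z : SL(2, F) × SL(2, F) := (minusOne F, minusOne F) with hz
  have hker : ∀ g ∈ φ.ker, g = 1 ∨ g = z := by
    rintro ⟨A, B⟩ hg
    have h1 := bundleHom_ker _ pair4_one pair4_mul _ hg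
    have h2 : ∀ M : Matrix (Fin 2) (Fin 2) F, A.1 * M * B.1.adjugate = M := fun M => by
      have := congrArg toM (h1 (ofM M))
      rwa [pair4_apply, toM_ofM, toM_ofM] at this
    have hAB : A = B := by
      have h3 := congrArg (· * B.1) (h2 1)
      simp only [Matrix.mul_one, Matrix.one_mul, Matrix.mul_assoc, Matrix.adjugate_mul, B.2,
        one_smul] at h3
      exact Subtype.ext h3
    subst hAB
    have hcom : ∀ M : Matrix (Fin 2) (Fin 2) F, A.1 * M = M * A.1 := fun M => by
      conv_rhs => rw [← h2 M]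
      rw [Matrix.mul_assoc (A.1 * M), Matrix.adjugate_mul, A.2, one_smul, Matrix.mul_one]
    have e1 := congrFun (congrFun (hcom (Matrix.single 0 1 1)) 0) 1
    have e2 := congrFun (congrFun (hcom (Matrix.single 0 1 1)) 0) 0
    have e3 := congrFun (congrFun (hcom (Matrix.single 1 0 1)) 1) 1
    simp [Matrix.mul_apply, Fin.sum_univ_two, Matrix.single_apply] at e1 e2 e3
    have hd := det_eq A
    rcases eq_one_or_minusOne (g := A) e3.symm e2.symm
      (by linear_combination hd + A.1 0 0 * e1 - A.1 0 1 * e2) with h | h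
    · exact Or.inl (by rw [h]; rfl)
    · exact Or.inr (by rw [hz, h])
  have hc : φ.ker ≤ Subgroup.center _ := fun g hg => by
    rw [center_prod_iff]
    rcases hker g hg with rfl | rfl
    · exact ⟨Subgroup.one_mem _, Subgroup.one_mem _⟩
    · exact ⟨Subgroup.mem_center_iff.2 minusOne_central, Subgroup.mem_center_iff.2 minusOne_central⟩
  have hZ : ∀ x, (∀ y, ⁅x, y⁆ ∈ φ.ker) → x ∈ Subgroup.center (SL(2, F) × SL(2, F)) := fun x hx => by
    rw [center_prod_iff]
    exact ⟨mem_center_of_comm x.1 fun y => (hker _ (hx (y, 1))).imp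
        (fun h => congrArg Prod.fst h) (fun h => congrArg Prod.fst h),
      mem_center_of_comm x.2 fun y => (hker _ (hx (1, y))).imp
        (fun h => congrArg Prod.snd h) (fun h => congrArg Prod.snd h)⟩
  have hrange : φ.range ≤ commutator (orth (qfPlus F 2)) := by
    by_cases h2 : (2 : F) = 0
    · have hperf : commutator SL(2, F) = ⊤ := PSLSimple.commutator_SL_fin_eq_top le_rfl fun _ =>
        PSLSimple.exists_sq_ne_one (by
          rw [Nat.card_eq_fintype_card]
          by_contra h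
          have h3 : Fintype.card F = 3 := by omega
          have h4 := FiniteField.cast_card_eq_zero F
          rw [h3] at h4
          push_cast at h4
          exact one_ne_zero (by linear_combination h4 - h2))
      rintro _ ⟨⟨A, B⟩, rfl⟩
      rw [show ((A, B) : SL(2, F) × SL(2, F))
        = (MonoidHom.inl _ _) A * (MonoidHom.inr _ _) B by simp, map_mul]
      refine Subgroup.mul_mem _ ?_ ?_
      · have : (φ.comp (MonoidHom.inl _ _)).range ≤ commutator (orth (qfPlus F 2)) := by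
          rw [MonoidHom.range_eq_map, ← hperf, commutator_def, Subgroup.map_commutator]
          exact Subgroup.commutator_mono le_top le_top
        exact this ⟨A, rfl⟩
      · have : (φ.comp (MonoidHom.inr _ _)).range ≤ commutator (orth (qfPlus F 2)) := by
          rw [MonoidHom.range_eq_map, ← hperf, commutator_def, Subgroup.map_commutator]
          exact Subgroup.commutator_mono le_top le_top
        exact this ⟨B, rfl⟩
    · refine range_le_of_squares h2 hQ φ (eq_top_iff.2 ?_)
      rintro ⟨A, B⟩ -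
      set S := Subgroup.closure (Set.range fun y : SL(2, F) × SL(2, F) => y * y) with hS
      have hl : (MonoidHom.inl SL(2, F) SL(2, F)).range ≤ S := by
        rw [MonoidHom.range_eq_map, ← closure_squares h2, MonoidHom.map_closure,
          Subgroup.closure_le]
        rintro _ ⟨_, ⟨y, rfl⟩, rfl⟩
        exact Subgroup.subset_closure ⟨(y, 1), by simp⟩
      have hr : (MonoidHom.inr SL(2, F) SL(2, F)).range ≤ S := by
        rw [MonoidHom.range_eq_map, ← closure_squares h2, MonoidHom.map_closure,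
          Subgroup.closure_le]
        rintro _ ⟨_, ⟨y, rfl⟩, rfl⟩
        exact Subgroup.subset_closure ⟨(1, y), by simp⟩
      rw [show ((A, B) : SL(2, F) × SL(2, F))
        = (MonoidHom.inl _ _) A * (MonoidHom.inr _ _) B by simp]
      exact Subgroup.mul_mem _ (hl ⟨A, rfl⟩) (hr ⟨B, rfl⟩)
  obtain ⟨⟨e⟩, -⟩ := nonempty_POmega_equiv (qfPlus F 2) _ (fun v => (qfPlus_apply F 2 v).symm) hQ
    (by simp) φ hrange hc hZ
    (card_le_ite _ z hker fun h => Prod.ext (minusOne_eq_one h) (minusOne_eq_one h))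
    (by
      rw [card_isometryGroup_plus rfl 1, Nat.card_prod, card_SL2 Nat.card_eq_fintype_card]
      simp
      exact le_of_eq (by ring))
  set π := (QuotientGroup.mk' (Subgroup.center SL(2, F))).prodMap
    (QuotientGroup.mk' (Subgroup.center SL(2, F)))
  have hk : π.ker = Subgroup.center (SL(2, F) × SL(2, F)) := by
    ext x
    rw [MonoidHom.mem_ker, center_prod_iff]
    simp [π, MonoidHom.prodMap, Prod.ext_iff]
  exact ⟨e.trans ((QuotientGroup.quotientMulEquivOfEq hk).symm.trans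
    (QuotientGroup.quotientKerEquivOfSurjective π
      ((QuotientGroup.mk'_surjective _).prodMap (QuotientGroup.mk'_surjective _))))⟩

end Cfsg.Agent.OrthUnitaryLowDim
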