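import Mathlib
import Cfsg.Agent.Lib.OrthUnitaryLowDim

/-!
`SL_2` over the quadratic extension acting on Hermitian matrices: minus type in dimension four.
-/

set_option autoImplicit false
set_option linter.unusedSectionVars false

namespace Cfsg.Agent.OrthUnitaryMinusFour

open QuadraticMap
open scoped Matrix MatrixGroups commutatorElement
open Cfsg.Agent.OrthUnitaryQuad
open Cfsg.Agent.OrthUnitaryForms
open Cfsg.Agent.OrthUnitaryStd
open Cfsg.Agent.OrthUnitarySL2
open Cfsg.Agent.OrthUnitaryIsoCore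
open Cfsg.Agent.OrthUnitaryLowDim
open Cfsg.Agent.OrthUnitaryHerm
open Cfsg.Agent.UnitaryEmbed

variable {K F : Type*} [Field K] [Fintype K] [Field F] [Fintype F] {q : ℕ}

/-- The root of the anisotropic binary form in the quadratic extension. -/
theorem exists_root [Algebra F K] (hK : Fintype.card K = q ^ 2) (hF : Fintype.card F = q)
    {a b : F} (hab : IsAniso a b) :
    ∃ θ : K, θ ^ q ≠ θ ∧ θ + θ ^ q = algebraMap F K a ∧ θ * θ ^ q = algebraMap F K b := by
  classical
  set p : Polynomial F := Polynomial.X ^ 2 + Polynomial.C (-a) * Polynomial.X + Polynomial.C b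
    with hp
  have hd : p.natDegree = 2 := by rw [hp]; compute_degree!
  have hm : p.Monic := by rw [hp]; monicity!
  have hirr : Irreducible p := by
    rw [Polynomial.irreducible_iff_roots_eq_zero_of_degree_le_three (by omega) (by omega)]
    refine Multiset.eq_zero_of_forall_notMem fun t ht => ?_
    rw [Polynomial.mem_roots hm.ne_zero, Polynomial.IsRoot.def, hp] at ht
    simp at ht
    exact one_ne_zero (hab (-t) 1 (by linear_combination ht)).2
  have : Fact (Irreducible p) := ⟨hirr⟩
  have : FiniteDimensional F (AdjoinRoot p) :=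
    PowerBasis.finite (AdjoinRoot.powerBasis hm.ne_zero)
  have : Finite (AdjoinRoot p) := Module.finite_of_finite F
  have e1 : Module.finrank F (AdjoinRoot p) = 2 := by
    rw [(AdjoinRoot.powerBasis hm.ne_zero).finrank, AdjoinRoot.powerBasis_dim, hd]
  have e2 : Module.finrank F K = 2 := by
    have h := Module.card_eq_pow_finrank (K := F) (V := K)
    rw [hK, hF] at h
    exact (Nat.pow_right_injective (two_le_q hK) h).symm
  obtain ⟨φ⟩ := FiniteField.nonempty_algHom_of_finrank_dvd
    (F := F) (K := AdjoinRoot p) (L := K) (by rw [e1, e2])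
  set θ := φ (AdjoinRoot.root p) with hθ
  have hr : θ ^ 2 - algebraMap F K a * θ + algebraMap F K b = 0 := by
    have h' : Polynomial.aeval θ p = 0 := by
      rw [hθ, Polynomial.aeval_algHom_apply, AdjoinRoot.aeval_eq, AdjoinRoot.mk_self, map_zero]
    simp [hp] at h'
    linear_combination h'
  have hr' : (θ ^ q) ^ 2 - algebraMap F K a * θ ^ q + algebraMap F K b = 0 := by
    obtain ⟨s, hs⟩ := exists_frobHom hK
    have h := congrArg s hr
    rw [map_add, map_sub, map_mul, map_pow, map_zero, hs, hs, hs, alg_pow hF, alg_pow hF] at h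
    exact h
  have hne : θ ^ q ≠ θ := by
    intro h
    obtain ⟨t, ht⟩ := mem_range_of_fixed hK hF h
    rw [← ht, ← map_pow, ← map_mul, ← map_sub, ← map_add] at hr
    have h0 : t ^ 2 - a * t + b = 0 := (map_eq_zero _).1 hr
    exact one_ne_zero (hab (-t) 1 (by linear_combination h0)).2
  have hsum : θ + θ ^ q = algebraMap F K a := by
    have : (θ ^ q - θ) * (θ + θ ^ q - algebraMap F K a) = 0 := by linear_combination hr' - hr
    exact sub_eq_zero.1 ((mul_eq_zero.1 this).resolve_left (sub_ne_zero.2 hne))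
  exact ⟨θ, hne, hsum, by linear_combination θ * hsum - hr⟩

/-- The conjugate transpose. -/
def conjT (q : ℕ) (M : Matrix (Fin 2) (Fin 2) K) : Matrix (Fin 2) (Fin 2) K :=
  Matrix.of fun i j => M j i ^ q

theorem conjT_mul (hK : Fintype.card K = q ^ 2) (A B : Matrix (Fin 2) (Fin 2) K) :
    conjT q (A * B) = conjT q B * conjT q A := by
  ext i j
  simp [conjT, Matrix.mul_apply, Fin.sum_univ_two, add_pow_q hK, mul_pow, mul_comm]

theorem conjT_conjT (hK : Fintype.card K = q ^ 2) (A : Matrix (Fin 2) (Fin 2) K) :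
    conjT q (conjT q A) = A := by
  ext i j
  simp [conjT, pow_q_q hK]

theorem conjT_one (hK : Fintype.card K = q ^ 2) :
    conjT q (1 : Matrix (Fin 2) (Fin 2) K) = 1 := by
  ext i j
  fin_cases i <;> fin_cases j <;> simp [conjT, zero_pow_q hK]

theorem det_conjT (hK : Fintype.card K = q ^ 2) (A : Matrix (Fin 2) (Fin 2) K) :
    (conjT q A).det = A.det ^ q := by
  simp [conjT, Matrix.det_fin_two, sub_pow_q hK, mul_pow, mul_comm]

section Model

variable [Algebra F K]

/-- A vector as a Hermitian matrix. -/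
def toH (q : ℕ) (θ : K) :
    (((Fin 1 ⊕ Fin 1) ⊕ Fin 2) → F) →+ Matrix (Fin 2) (Fin 2) K where
  toFun v := !![algebraMap F K (v (.inl (.inl 0))),
      algebraMap F K (v (.inr 0)) + algebraMap F K (v (.inr 1)) * θ;
    algebraMap F K (v (.inr 0)) + algebraMap F K (v (.inr 1)) * θ ^ q,
      -algebraMap F K (v (.inl (.inr 0)))]
  map_zero' := by
    ext i j
    fin_cases i <;> fin_cases j <;> simp
  map_add' u v := by
    ext i j
    fin_cases i <;> fin_cases j <;> simp <;> ring

theorem toH_smul (θ : K) (c : F) (v : ((Fin 1 ⊕ Fin 1) ⊕ Fin 2) → F) :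
    toH q θ (c • v) = algebraMap F K c • toH q θ v := by
  ext i j
  fin_cases i <;> fin_cases j <;> simp [toH] <;> ring

theorem conjT_toH (hK : Fintype.card K = q ^ 2) (hF : Fintype.card F = q) (θ : K)
    (v : ((Fin 1 ⊕ Fin 1) ⊕ Fin 2) → F) : conjT q (toH q θ v) = toH q θ v := by
  ext i j
  fin_cases i <;> fin_cases j <;>
    simp [conjT, toH, add_pow_q hK, mul_pow, pow_q_q hK, alg_pow hF, neg_pow_q hK]

theorem toH_injective {θ : K} (hne : θ ^ q ≠ θ) :
    Function.Injective (toH (F := F) q θ) := by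
  rw [injective_iff_map_eq_zero]
  intro v hv
  have e00 := congrFun (congrFun hv 0) 0
  have e11 := congrFun (congrFun hv 1) 1
  have e01 := congrFun (congrFun hv 0) 1
  have e10 := congrFun (congrFun hv 1) 0
  simp [toH] at e00 e11 e01 e10
  have h2 : algebraMap F K (v (.inr 1)) = 0 := by
    have : algebraMap F K (v (.inr 1)) * (θ ^ q - θ) = 0 := by linear_combination e10 - e01
    exact (mul_eq_zero.1 this).resolve_right (sub_ne_zero.2 hne)
  rw [h2, zero_mul, add_zero] at e01
  funext i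
  rcases i with (i | i) | i <;> fin_cases i
  · exact e00
  · exact e11
  · exact (map_eq_zero _).1 e01
  · exact (map_eq_zero _).1 h2

theorem toH_surj (hK : Fintype.card K = q ^ 2) (hF : Fintype.card F = q) {θ : K}
    (hne : θ ^ q ≠ θ) {M : Matrix (Fin 2) (Fin 2) K} (hM : conjT q M = M) :
    ∃ v : ((Fin 1 ⊕ Fin 1) ⊕ Fin 2) → F, toH q θ v = M := by
  have h00 : M 0 0 ^ q = M 0 0 := congrFun (congrFun hM 0) 0
  have h11 : M 1 1 ^ q = M 1 1 := congrFun (congrFun hM 1) 1
  have h10 : M 0 1 ^ q = M 1 0 := congrFun (congrFun hM 1) 0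
  obtain ⟨x, hx⟩ := mem_range_of_fixed hK hF h00
  obtain ⟨y, hy⟩ := mem_range_of_fixed hK hF
    (x := -M 1 1) (by rw [neg_pow_q hK, h11])
  have hd : θ - θ ^ q ≠ 0 := sub_ne_zero.2 hne.symm
  obtain ⟨z2, hz2⟩ := mem_range_of_fixed hK hF (x := (M 0 1 - M 1 0) / (θ - θ ^ q)) (by
    rw [div_pow, sub_pow_q hK, sub_pow_q hK, h10, ← h10, pow_q_q hK, pow_q_q hK, h10,
      ← neg_sub (M 0 1), ← neg_sub θ, neg_div_neg_eq])
  rw [eq_div_iff hd] at hz2
  obtain ⟨z1, hz1⟩ := mem_range_of_fixed hK hF (x := M 0 1 - algebraMap F K z2 * θ) (by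
    rw [sub_pow_q hK, mul_pow, alg_pow hF, h10]
    linear_combination hz2)
  refine ⟨Sum.elim (Sum.elim (fun _ => x) (fun _ => y)) ![z1, z2], ?_⟩
  ext i j
  fin_cases i <;> fin_cases j
  · simpa [toH] using hx
  · simp [toH]; linear_combination hz1
  · simp [toH]; linear_combination hz1 - hz2
  · simp [toH]; linear_combination -hy

theorem det_toH {a b : F} {θ : K} (hsum : θ + θ ^ q = algebraMap F K a)
    (hprod : θ * θ ^ q = algebraMap F K b) (v : ((Fin 1 ⊕ Fin 1) ⊕ Fin 2) → F) :
    (toH q θ v).det = -algebraMap F K (quadFormMinus 1 F a b v) := by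
  simp [toH, Matrix.det_fin_two, quadFormMinus]
  linear_combination (-(algebraMap F K (v (.inr 0)) * algebraMap F K (v (.inr 1)))) * hsum
    - algebraMap F K (v (.inr 1)) ^ 2 * hprod

theorem exists_hom (hK : Fintype.card K = q ^ 2) (hF : Fintype.card F = q) {a b : F}
    (hab : IsAniso a b) (Q : QuadraticForm F (((Fin 1 ⊕ Fin 1) ⊕ Fin 2) → F))
    (hf : ∀ v, quadFormMinus 1 F a b v = Q v) :
    ∃ φ : SL(2, K) →* orth Q, ∀ g ∈ φ.ker, g = 1 ∨ g = minusOne K := by
  classical
  obtain ⟨θ, hne, hsum, hprod⟩ := exists_root hK hF hab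
  have hherm : ∀ (g : SL(2, K)) (v : ((Fin 1 ⊕ Fin 1) ⊕ Fin 2) → F),
      conjT q (g.1 * toH q θ v * conjT q g.1) = g.1 * toH q θ v * conjT q g.1 := fun g v => by
    rw [conjT_mul hK, conjT_mul hK, conjT_conjT hK, conjT_toH hK hF, Matrix.mul_assoc]
  choose T hT using fun g v => toH_surj hK hF hne (hherm g v)
  have hinj := toH_injective (F := F) (K := K) hne
  let L : SL(2, K) → (((Fin 1 ⊕ Fin 1) ⊕ Fin 2) → F) →ₗ[F] (((Fin 1 ⊕ Fin 1) ⊕ Fin 2) → F) :=
    fun g =>
    { toFun := T g
      map_add' := fun u v => hinj (by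
        rw [hT, map_add, map_add, hT, hT, Matrix.mul_add, Matrix.add_mul])
      map_smul' := fun c v => hinj (by
        rw [hT, RingHom.id_apply, toH_smul, toH_smul, hT, Matrix.mul_smul, Matrix.smul_mul]) }
  have h1 : ∀ v, L 1 v = v := fun v => hinj (by
    show toH q θ (T 1 v) = _
    rw [hT]
    show (1 : Matrix (Fin 2) (Fin 2) K) * _ * conjT q (1 : Matrix (Fin 2) (Fin 2) K) = _
    rw [conjT_one hK, Matrix.one_mul, Matrix.mul_one])
  have hmul : ∀ g h v, L (g * h) v = L g (L h v) := fun g h v => hinj (by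
    show toH q θ (T (g * h) v) = toH q θ (T g (T h v))
    rw [hT, hT, hT]
    show (g.1 * h.1) * _ * conjT q (g.1 * h.1) = _
    rw [conjT_mul hK]
    simp only [Matrix.mul_assoc])
  have hQ : ∀ g v, Q (L g v) = Q v := fun g v => by
    rw [← hf, ← hf]
    apply (algebraMap F K).injective
    rw [← neg_inj, ← det_toH hsum hprod, ← det_toH hsum hprod]
    show (toH q θ (T g v)).det = _
    rw [hT, Matrix.det_mul, Matrix.det_mul, det_conjT hK, g.2, one_pow, one_mul, mul_one]
  refine ⟨bundleHom L h1 hmul hQ, fun g hg => ?_⟩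
  have hfix : ∀ M, conjT q M = M → g.1 * M * conjT q g.1 = M := by
    intro M hM
    obtain ⟨v, rfl⟩ := toH_surj (F := F) hK hF hne hM
    rw [← hT]
    exact congrArg (toH q θ) (bundleHom_ker L h1 hmul hQ hg v)
  have hu := hfix 1 (conjT_one hK)
  rw [Matrix.mul_one] at hu
  have hinv : conjT q g.1 * g.1 = 1 := mul_eq_one_comm.1 hu
  have hcom : ∀ M, conjT q M = M → g.1 * M = M * g.1 := fun M hM => by
    conv_rhs => rw [← hfix M hM]
    rw [Matrix.mul_assoc (g.1 * M), hinv, Matrix.mul_one]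
  have e1 := hcom !![1, 0; 0, 0] (by
    ext i j; fin_cases i <;> fin_cases j <;> simp [conjT, zero_pow_q hK])
  have e2 := hcom !![0, 1; 1, 0] (by
    ext i j; fin_cases i <;> fin_cases j <;> simp [conjT, zero_pow_q hK])
  have a1 := congrFun (congrFun e1 0) 1
  have a2 := congrFun (congrFun e1 1) 0
  have a3 := congrFun (congrFun e2 0) 1
  simp [Matrix.mul_apply, Fin.sum_univ_two] at a1 a2 a3
  have h01 : g.1 0 1 = 0 := by first | exact a1 | exact a1.symm
  have h10 : g.1 1 0 = 0 := by first | exact a2 | exact a2.symm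
  have hd := OrthUnitaryLowDim.det_eq g
  exact eq_one_or_minusOne h01 h10
    (by linear_combination hd + g.1 0 0 * a3 + g.1 1 0 * h01)

end Model

theorem nonempty_minus_four (hF : Fintype.card F = q) (hK : Fintype.card K = q ^ 2) {a b : F}
    (hab : IsAniso a b) :
    Nonempty (POmega F (quadFormMinus 1 F a b) ≃* Matrix.ProjectiveSpecialLinearGroup (Fin 2) K) ∧
      ((2 : F) = 0 → Nonempty (Omega F (quadFormMinus 1 F a b) ≃*
        Matrix.ProjectiveSpecialLinearGroup (Fin 2) K)) := by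
  classical
  obtain ⟨ι⟩ := exists_algebra (K := K) (F := F) hK hF
  letI := ι.toAlgebra
  have h2iff : (2 : K) = 0 ↔ (2 : F) = 0 := by
    rw [← map_ofNat (algebraMap F K) 2, map_eq_zero]
  have hK4 : 4 ≤ Nat.card K := by
    rw [Nat.card_eq_fintype_card, hK]
    nlinarith [two_le_q hK]
  have hperf : commutator SL(2, K) = ⊤ := PSLSimple.commutator_SL_fin_eq_top le_rfl fun _ =>
    PSLSimple.exists_sq_ne_one hK4
  set Q := (withBase 1 (qfBin a b)).comp (eqMinus (F := F) 1).symm.toLinearMap with hQdef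
  have hf := comp_symm_apply (withBase 1 (qfBin a b)) (quadFormMinus 1 F a b) (eqMinus 1)
    (eqMinus_isometry 1 a b)
  have hQ : (polarBilin Q).Nondegenerate :=
    nondegenerate_congr (eqMinus 1) (fun x => by simp [hQdef])
      (nondegenerate_withBase (nondegenerate_qfBin hab) 1)
  obtain ⟨φ, hker⟩ := exists_hom (F := F) hK hF hab Q hf
  have hc : φ.ker ≤ Subgroup.center SL(2, K) := fun g hg => by
    rw [Subgroup.mem_center_iff]
    intro k
    rcases hker g hg with rfl | rfl
    · simp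
    · exact minusOne_central k
  have hk := card_le_ite (F := F) φ.ker (minusOne K) hker
    fun h => minusOne_eq_one (h2iff.2 h)
  obtain ⟨⟨e1⟩, ⟨e2⟩⟩ := nonempty_POmega_equiv_of_perfect Q _ hf hQ (by simp) φ hperf hc hk
    (by
      rw [card_isometryGroup_minus hF hab 1, card_SL2 (q := q ^ 2) (by rw [Nat.card_eq_fintype_card, hK])]
      have hq := two_le_q hK
      have e1 : 1 ≤ q ^ 2 := Nat.one_le_pow _ _ (by omega)
      have e2 : 1 ≤ (q ^ 2) ^ 2 := Nat.one_le_pow _ _ (by positivity)
      simp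
      zify [e1, e2]
      nlinarith)
  refine ⟨⟨e1⟩, fun h2 => ?_⟩
  have hb : φ.ker = Subgroup.center SL(2, K) := by
    have hz : Subgroup.center SL(2, K) = ⊥ := by
      rw [← Subgroup.card_le_one_iff_eq_bot, PSLCard.card_center_SL, Nat.card_eq_fintype_card, hK]
      have h4 := FiniteField.cast_card_eq_zero F
      rw [hF] at h4
      have heven : ¬ Odd q := fun ho => two_ne_zero_of_odd hF ho h2
      rw [Nat.not_odd_iff_even] at heven
      have hodd : Odd (q ^ 2 - 1) := Nat.Even.sub_odd (Nat.one_le_pow _ _ (by linarith [two_le_q hK]))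
        (Nat.even_pow.2 ⟨heven, two_ne_zero⟩) odd_one
      exact (Nat.coprime_two_left.2 hodd).le
    rw [hz] at hc ⊢
    exact le_bot_iff.1 hc
  exact ⟨e2.symm.trans (QuotientGroup.quotientMulEquivOfEq hb)⟩

end Cfsg.Agent.OrthUnitaryMinusFour
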