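import Cfsg.Agent.Lib.J2TypePoints79
import Cfsg.Agent.Lib.LargeExtraspecialSetting
import Cfsg.Agent.S0824
import Cfsg.Prelude.Def_Classical

/-!
# Groups of Hall–Janko type: the setting of the statements
-/

set_option autoImplicit false

namespace Cfsg.Agent.J2TypeSetting79

open Subgroup Cfsg.Agent.LargeExtraspecial Cfsg.Agent.J2TypePoints79

theorem omega_equiv :
    Nonempty (↥(Cfsg.Omega (ZMod 2) (Cfsg.quadFormMinus 1 (ZMod 2) 1 1)) ≃*
      ↥(alternatingGroup (Fin 5))) := by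
  haveI : Fact (Nat.Prime 2) := ⟨Nat.prime_two⟩
  obtain ⟨e⟩ := S0824.result (F := ZMod 2) (ZMod.card 2)
  have h : (Cfsg.Omega (ZMod 2) (Cfsg.quadFormMinus 1 (ZMod 2) 1 1)).map e.toMonoidHom =
      alternatingGroup (Fin 5) := by
    rw [← alternatingGroup.commutator_perm_eq (α := Fin 5) (by simp), Cfsg.Omega,
      _root_.commutator_def, _root_.commutator_def, Subgroup.map_commutator,
      Subgroup.map_top_of_surjective e.toMonoidHom e.surjective]
  exact ⟨(e.subgroupMap _).trans (MulEquiv.subgroupCongr h)⟩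

theorem hyp_of_setting {G : Type*} [Group G] [Finite G] {z : G} (hz : orderOf z = 2)
    (Q : Subgroup (centralizer ({z} : Set G))) [Q.Normal]
    (hF : Cfsg.generalizedFittingSubgroup (centralizer ({z} : Set G)) = Q)
    (hQ : Cfsg.IsExtraspecial 2 Q) (hcard : Nat.card Q = 2 ^ 5)
    (e : (centralizer ({z} : Set G)) ⧸ Q ≃*
      Cfsg.Omega (ZMod 2) (Cfsg.quadFormMinus 1 (ZMod 2) 1 1))
    (hnwc : ∃ g : G, (∃ hq : g * z * g⁻¹ ∈ centralizer ({z} : Set G),
      (⟨g * z * g⁻¹, hq⟩ : centralizer ({z} : Set G)) ∈ Q) ∧ g * z * g⁻¹ ≠ z)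
    (hcl : ∃ x y : G, orderOf x = 2 ∧ orderOf y = 2 ∧ ¬ IsConj x y) :
    Hyp (Q.map (centralizer ({z} : Set G)).subtype) z := by
  obtain ⟨o⟩ := omega_equiv
  refine ⟨(LargeExtraspecialSetting.lhyp_of_fitting hz Q hF hQ).1, ?_, ?_, ?_, hcl⟩
  · rw [card_map_of_injective (subtype_injective _), hcard]; norm_num
  · refine ⟨((e.trans o).toMonoidHom).comp (QuotientGroup.mk' Q),
      (e.trans o).surjective.comp (QuotientGroup.mk'_surjective Q), ?_⟩
    rw [← MonoidHom.comap_ker, (MonoidHom.ker_eq_bot_iff _).2 (e.trans o).injective,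
      MonoidHom.comap_bot, QuotientGroup.ker_mk', subgroupOf,
      comap_map_eq_self_of_injective (subtype_injective _)]
  · obtain ⟨g, ⟨hq, hm⟩, hne⟩ := hnwc
    exact ⟨g, ⟨_, hm, rfl⟩, hne⟩

end Cfsg.Agent.J2TypeSetting79
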