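import Cfsg.Agent.Lib.J2TypeThree79
import Cfsg.Agent.Lib.J2TypeFive79

/-!
Groups of Hall–Janko type: centralisers of elements of order five.
-/

set_option autoImplicit false

namespace Cfsg.Agent.J2TypeSylowFive31

open Subgroup Cfsg.Agent.LargeExtraspecial Cfsg.Agent.J2TypePoints79 Cfsg.Agent.J2TypeAction79
open Cfsg.Agent.J2TypeFour79 Cfsg.Agent.J2TypeClasses79 Cfsg.Agent.J2TypeCyc79
open Cfsg.Agent.J2TypeCent79 Cfsg.Agent.J2TypeKernel79 Cfsg.Agent.J2TypeNorm79
open Cfsg.Agent.J2TypeOrder79 Cfsg.Agent.J2TypeFive79 Cfsg.Agent.J2TypeThree79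

variable {G : Type*} [Group G] [Finite G] {Q : Subgroup G} {z : G} {a : Fin 5 → G} {u u' y : G}

/-- An element of order five centralising a conjugate of `z`, with a small Sylow `2`-subgroup in
its centraliser. -/
theorem exists_zfive (C : Cyc Q z a u u' y) : ∃ c : G, orderOf c = 5 ∧ c * z = z * c ∧
    ∀ (g : G) (T : Subgroup G), IsPGroup 2 T → (∀ s ∈ T, s * (g * c * g⁻¹) = g * c * g⁻¹ * s) →
      Nat.card T ≤ 2 := by
  classical
  haveI : Fact (Nat.Prime 2) := ⟨Nat.prime_two⟩
  obtain ⟨c, -, hc, hcz, -, hCH, -, -, -, -⟩ := exists_five C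
  refine ⟨c, hc, hcz, fun g T hT hTc => ?_⟩
  set Cc := centralizer ({c} : Set G)
  have hle : T.map (MulAut.conj g⁻¹).toMonoidHom ≤ Cc := by
    rintro _ ⟨s, hs, rfl⟩
    refine mem_centralizer_singleton_iff.2 ?_
    show g⁻¹ * s * g⁻¹⁻¹ * c = c * (g⁻¹ * s * g⁻¹⁻¹)
    calc g⁻¹ * s * g⁻¹⁻¹ * c = g⁻¹ * (s * (g * c * g⁻¹)) * g := by group
      _ = _ := by rw [hTc s hs]; group
  have hcardT : Nat.card (T.map (MulAut.conj g⁻¹).toMonoidHom) = Nat.card T :=
    card_map_of_injective (MulAut.conj g⁻¹).injective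
  obtain ⟨S₁, hS₁⟩ := ((hT.map _).of_equiv (subgroupOfEquivOfLe hle).symm).exists_le_sylow
  have hzp : IsPGroup 2 ↥((zpowers z).subgroupOf Cc) := IsPGroup.of_card (n := 1) (by
    rw [Nat.card_congr (subgroupOfEquivOfLe
      (zpowers_le.2 (mem_centralizer_singleton_iff.2 hcz.symm))).toEquiv, Nat.card_zpowers,
      C.loc.fr.hJ.l.orderOf_z, pow_one])
  obtain ⟨S, hS⟩ := hzp.exists_le_sylow
  have hS2 : Nat.card S ≤ 2 := by
    have hzS : (⟨z, mem_centralizer_singleton_iff.2 hcz.symm⟩ : Cc) ∈ (S : Subgroup Cc) :=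
      hS (mem_zpowers z)
    -- the centraliser of `z` in `S` has order two
    have key : ∀ R : Subgroup Cc, R ≤ (S : Subgroup Cc) → (∀ r ∈ R, (r : G) * z = z * r) →
        Nat.card R ≤ 2 := by
      intro R hR hRz
      obtain ⟨n, hn⟩ := (S.isPGroup'.to_le hR).exists_card_eq
      have hd : Nat.card (R.map Cc.subtype) ∣ 10 := hCH ▸ card_dvd_of_le (by
        rintro _ ⟨r, hr, rfl⟩
        exact ⟨mem_centralizer_singleton_iff.2 (hRz r hr), r.2⟩)
      rw [card_map_of_injective Cc.subtype_injective, hn] at hd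
      rw [hn]
      by_contra hlt
      have : 2 ^ 2 ∣ 10 := (pow_dvd_pow 2 (show 2 ≤ n by
        by_contra h2
        exact hlt ((Nat.pow_le_pow_right (by norm_num) (show n ≤ 1 by omega)).trans (le_refl _)))).trans hd
      norm_num at this
    set zS : S := ⟨⟨z, mem_centralizer_singleton_iff.2 hcz.symm⟩, hzS⟩
    have hcentral : ∀ s : S, s * zS = zS * s := by
      intro s
      set R := (centralizer ({zS} : Set S)).map (S : Subgroup Cc).subtype
      have hR : R ≤ (S : Subgroup Cc) := map_subtype_le _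
      have hR2 : Nat.card R ≤ 2 := key R hR (by
        rintro _ ⟨r, hr, rfl⟩
        exact congrArg (fun q : S => ((q : Cc) : G)) (mem_centralizer_singleton_iff.1 hr))
      rw [card_map_of_injective (S : Subgroup Cc).subtype_injective] at hR2
      haveI : Nontrivial S := ⟨⟨zS, 1, fun e => z_ne C (congrArg (fun q : S => ((q : Cc) : G)) e)⟩⟩
      haveI := S.isPGroup'.center_nontrivial
      obtain ⟨e, he⟩ := exists_ne (1 : center S)
      by_cases hez : (e : S) = zS
      · exact mem_center_iff.1 (hez ▸ e.2) s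
      · exfalso
        haveI := Fintype.ofFinite ↥(centralizer ({zS} : Set S))
        let F : Finset ↥(centralizer ({zS} : Set S)) :=
          {1, ⟨zS, mem_centralizer_singleton_iff.2 rfl⟩,
            ⟨e, mem_centralizer_singleton_iff.2 (mem_center_iff.1 e.2 zS).symm⟩}
        have h3 : F.card = 3 := by
          simp only [F]
          rw [Finset.card_insert_of_notMem, Finset.card_insert_of_notMem, Finset.card_singleton]
          all_goals simp only [Finset.mem_insert, Finset.mem_singleton, Subtype.ext_iff, coe_one, not_or]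
          · exact fun h => hez (Subtype.ext (Subtype.ext h.symm))
          · exact ⟨fun h => z_ne C h.symm, fun h => he (Subtype.ext (Subtype.ext (Subtype.ext h.symm)))⟩
        have := Finset.card_le_univ F
        rw [h3, ← Nat.card_eq_fintype_card] at this
        omega
    exact key S le_rfl fun r hr =>
      congrArg (fun q : S => ((q : Cc) : G)) (hcentral ⟨r, hr⟩)
  rw [← hcardT, ← Nat.card_congr (subgroupOfEquivOfLe hle).toEquiv]
  refine le_trans (card_le_of_le hS₁) ?_
  rw [show Nat.card (S₁ : Subgroup Cc) = Nat.card S from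
    (Sylow.card_eq_multiplicity S₁).trans (Sylow.card_eq_multiplicity S).symm]
  exact hS2

section

variable (C : Cyc Q z a u u' y) {K : Subgroup G} (hK : Kern C K) (h60 : Nat.card K = 60)
include C hK h60

/-- An element of order five of `K`, self-centralising there and inverted by an element of `K`. -/
theorem exists_kfive : ∃ k t : G, k ∈ K ∧ orderOf k = 5 ∧ t ∈ K ∧ t * k * t⁻¹ = k⁻¹ ∧
    ∀ c ∈ K, c * k = k * c → c ∈ zpowers k := by
  obtain ⟨e⟩ := nonempty_equiv_alt hK h60
  let s : ↥(alternatingGroup (Fin 5)) := ⟨τ5, by rw [Equiv.Perm.mem_alternatingGroup]; decide +kernel⟩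
  let r : ↥(alternatingGroup (Fin 5)) := ⟨σ1, by rw [Equiv.Perm.mem_alternatingGroup]; decide +kernel⟩
  have hr : r * s * r⁻¹ = s⁻¹ := Subtype.ext (by
    show σ1 * τ5 * σ1⁻¹ = τ5⁻¹
    decide +kernel)
  haveI : Fact (Nat.Prime 5) := ⟨by norm_num⟩
  have hs : orderOf s = 5 := by
    refine orderOf_eq_prime (Subtype.ext ?_) fun h => ?_
    · show τ5 ^ 5 = 1
      decide +kernel
    · exact absurd (congrArg Subtype.val h) (show τ5 ≠ 1 by decide +kernel)
  refine ⟨(e.symm s : K), (e.symm r : K), (e.symm s).2, ?_, (e.symm r).2, ?_, fun c hc h => ?_⟩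
  · rw [Subgroup.orderOf_coe, MulEquiv.orderOf_eq, hs]
  · rw [← Subgroup.coe_inv, ← Subgroup.coe_inv, ← Subgroup.coe_mul, ← Subgroup.coe_mul, ← map_inv,
      ← map_inv, ← map_mul, ← map_mul, hr]
  · have h1 : e ⟨c, hc⟩ * s = s * e ⟨c, hc⟩ := by
      apply e.symm.injective
      rw [map_mul, map_mul, e.symm_apply_apply]
      exact Subtype.ext h
    obtain ⟨j, hj⟩ := cent_τ5 _ (congrArg Subtype.val h1)
    have h2 : e ⟨c, hc⟩ = s ^ (j : ℕ) := Subtype.ext (by rw [SubmonoidClass.coe_pow]; exact hj.symm)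
    have h3 : (⟨c, hc⟩ : K) = e.symm s ^ (j : ℕ) := by
      rw [← map_pow, ← h2, e.symm_apply_apply]
    have h4 : c = ((e.symm s : K) : G) ^ (j : ℕ) := by
      rw [← SubmonoidClass.coe_pow, ← h3]
    rw [h4]
    exact pow_mem (mem_zpowers _) _

variable {x : G} (X : Elt C (K := K) x) {k : G} (hk : k ∈ K) (ho : orderOf k = 5)
  (hcK : ∀ c ∈ K, c * k = k * c → c ∈ zpowers k)
include X hk ho hcK

omit X ho hcK in
theorem W_comm_k {w : G} (hw : w ∈ W C) : w * k = k * w := W_comm hK h60 hw hk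

omit X in
theorem cent_u {c : G} (hck : c * k = k * c) (hcu : c * u = u * c) :
    ∃ v ∈ W C, c * v⁻¹ ∈ zpowers k := by
  obtain ⟨v, hv, hvc⟩ := hK.decomp c hcu
  have h1 := hcK _ hvc ((show Commute v k from W_comm_k C hK h60 hk hv).mul_left hck).eq
  refine ⟨v⁻¹, inv_mem hv, ?_⟩
  rw [inv_inv]
  have e : c * v = v * c := by
    have h2 : v * (v * c) = v * c * v := W_comm hK h60 hv hvc
    exact (mul_left_cancel (h2.trans (mul_assoc v c v))).symm
  rwa [e]

omit X in
theorem invol_ck {t : G} (htk : t * k = k * t) (ht : t * t = 1) (h1 : t ≠ 1) :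
    ∃ g, g * k = k * g ∧ g⁻¹ * t * g ∈ W C := by
  classical
  haveI : Fact (Nat.Prime 2) := ⟨Nat.prime_two⟩
  set Ck := centralizer ({k} : Set G)
  have hWk : W C ≤ Ck := fun w hw => mem_centralizer_singleton_iff.2 (W_comm_k C hK h60 hk hw)
  have hWp : IsPGroup 2 ↥((W C).subgroupOf Ck) := IsPGroup.of_card (n := 2) (by
    rw [Nat.card_congr (subgroupOfEquivOfLe hWk).toEquiv, card_W C]; norm_num)
  obtain ⟨S, hS⟩ := hWp.exists_le_sylow
  have hSW : (W C).subgroupOf Ck = S := by
    by_contra hne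
    haveI := S.2.isNilpotent
    obtain ⟨n, hn, hn'⟩ := SetLike.exists_of_lt
      (Group.normalizerCondition_of_isNilpotent (G := (S : Subgroup Ck))
        (((W C).subgroupOf Ck).subgroupOf S)
        (lt_top_iff_ne_top.2 fun e => hne (le_antisymm hS (subgroupOf_eq_top.1 e))))
    refine hn' ?_
    have hnW : (n : G) ∈ normalizer (W C : Set G) := mem_normalizer_fintype fun w hw =>
      (mem_normalizer_iff.1 hn ⟨⟨w, hWk hw⟩, hS hw⟩).1 hw
    obtain ⟨m, hm⟩ := S.2 n
    have hm' : (n : G) ^ 2 ^ m = 1 := by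
      have := congrArg (fun w : S => ((w : Ck) : G)) hm
      simpa using this
    have key : ∀ (i : ℕ) (v : G), v ∈ normalizer (W C : Set G) → v ^ 2 ^ i = 1 → v * u = u * v := by
      intro i
      induction i with
      | zero =>
        intro v _ hv
        rw [pow_zero, pow_one] at hv
        rw [hv, one_mul, mul_one]
      | succ i ih =>
        intro v hv hv2
        refine norm_two C hK h60 hv (ih (v * v) (mul_mem hv hv) ?_)
        rw [← pow_two, ← pow_mul, ← pow_succ', hv2]
    obtain ⟨v, hv, j, hj⟩ := cent_u C hK h60 hk ho hcK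
      (mem_centralizer_singleton_iff.1 (n : Ck).2) (key m n hnW hm')
    replace hj : k ^ j = (n : G) * v⁻¹ := hj
    have h1 : k ^ j = 1 := by
      obtain ⟨i, hi⟩ := S.2 (n * ⟨⟨v⁻¹, inv_mem (hWk hv)⟩, hS (inv_mem hv : v⁻¹ ∈ W C)⟩)
      have h3 := congrArg (fun w : S => ((w : Ck) : G)) hi
      simp only [SubmonoidClass.coe_pow, Subgroup.coe_mul, coe_one] at h3
      rw [← hj] at h3
      refine TransferPow.eq_one_of_pow_eq_one_of_coprime (m := 2 ^ i) (n := 5) h3 ?_
        (Nat.Coprime.pow_left _ (by norm_num))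
      rw [← zpow_natCast, ← zpow_mul, mul_comm, zpow_mul, zpow_natCast,
        orderOf_dvd_iff_pow_eq_one.1 (dvd_of_eq ho), one_zpow]
    show (n : G) ∈ W C
    rw [show (n : G) = v from mul_inv_eq_one.1 (hj.symm.trans h1)]
    exact hv
  set tc : Ck := ⟨t, mem_centralizer_singleton_iff.2 htk⟩
  have hp : IsPGroup 2 ↥(zpowers tc) := IsPGroup.of_card (n := 1) (by
    rw [Nat.card_zpowers, pow_one]
    exact orderOf_eq_prime (Subtype.ext (by simpa [pow_two] using ht))
      fun e => h1 (congrArg Subtype.val e))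
  obtain ⟨S', hS'⟩ := hp.exists_le_sylow
  obtain ⟨g, hg⟩ := MulAction.exists_smul_eq Ck S S'
  have hm : tc ∈ ((g • S : Sylow 2 Ck) : Subgroup Ck) := by rw [hg]; exact hS' (mem_zpowers tc)
  rw [Sylow.coe_subgroup_smul, Subgroup.mem_pointwise_smul_iff_inv_smul_mem, ← map_inv,
    MulAut.smul_def, MulAut.conj_apply, inv_inv, ← hSW, mem_subgroupOf] at hm
  exact ⟨g, mem_centralizer_singleton_iff.1 g.2, hm⟩

omit X in
theorem invol_ck_u {t : G} (htk : t * k = k * t) (ht : t * t = 1) (h1 : t ≠ 1) : IsConj u t := by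
  obtain ⟨g, -, hg⟩ := invol_ck C hK h60 hk ho hcK htk ht h1
  have h2 : g⁻¹ * t * g ≠ 1 := fun e => h1 (by
    calc t = g * (g⁻¹ * t * g) * g⁻¹ := by group
      _ = 1 := by rw [e]; group)
  exact (u_type_W C hK h60 hg h2).trans (isConj_iff.2 ⟨g, by group⟩)

/-- Inside `C(k)` a group `P` of order `25` is self-centralising and has normaliser of order `50`. -/
theorem cent_sylow {P : Subgroup G} (hPk : P ≤ centralizer ({k} : Set G)) (hP : Nat.card P = 25)
    (hkP : k ∈ P) (hPc : ∀ p ∈ P, ∀ q ∈ P, p * q = q * p) :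
    centralizer (P : Set G) = P ∧
      Nat.card ↥(normalizer (P : Set G) ⊓ centralizer ({k} : Set G)) = 50 := by
  classical
  haveI : Fact (Nat.Prime 5) := ⟨by norm_num⟩
  haveI : Fact (Nat.Prime 2) := ⟨Nat.prime_two⟩
  set Ck := centralizer ({k} : Set G)
  have hcomm : ∀ w : Ck, (w : G) * k = k * w := fun w => mem_centralizer_singleton_iff.1 w.2
  have hWk : W C ≤ Ck := fun w hw => mem_centralizer_singleton_iff.2 (W_comm_k C hK h60 hk hw)
  set N := (zpowers k).subgroupOf Ck
  haveI hN : N.Normal := ⟨fun n hn w => by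
    obtain ⟨i, hi⟩ := hn
    replace hi : k ^ i = (n : G) := hi
    refine ⟨i, ?_⟩
    show k ^ i = (w : G) * n * (w : G)⁻¹
    rw [← hi, ((show Commute (w : G) k from hcomm w).zpow_right i).eq, mul_inv_cancel_right]⟩
  set π := QuotientGroup.mk' N with hπ
  have hker : ∀ w : Ck, π w = 1 ↔ (w : G) ∈ zpowers k := fun w => by
    rw [← MonoidHom.mem_ker, QuotientGroup.ker_mk', mem_subgroupOf]
  have h5 : ∀ d ∈ zpowers k, d * d = 1 → d = 1 := by
    intro d hd hd2
    obtain ⟨i, rfl⟩ := hd
    refine TransferPow.eq_one_of_pow_eq_one_of_coprime (m := 2) (n := 5) (by rw [pow_two]; exact hd2)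
      ?_ (by norm_num)
    show (k ^ i) ^ 5 = 1
    rw [← zpow_natCast, ← zpow_mul, mul_comm, zpow_mul, zpow_natCast,
      orderOf_dvd_iff_pow_eq_one.1 (dvd_of_eq ho), one_zpow]
  have huniq : ∀ s t : G, s * s = 1 → t * t = 1 → t * k = k * t → s * t⁻¹ ∈ zpowers k → s = t := by
    intro s t hs ht htk h
    obtain ⟨i, hi⟩ := h
    replace hi : k ^ i = s * t⁻¹ := hi
    have hc : Commute t (k ^ i) := (show Commute t k from htk).zpow_right i
    have e : s = k ^ i * t := by rw [hi, inv_mul_cancel_right]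
    have h2 : k ^ i * k ^ i = 1 := by
      calc k ^ i * k ^ i = k ^ i * k ^ i * (t * t) := by rw [ht, mul_one]
        _ = k ^ i * (k ^ i * t) * t := by group
        _ = k ^ i * (t * k ^ i) * t := by rw [hc.eq]
        _ = (k ^ i * t) * (k ^ i * t) := by group
        _ = 1 := by rw [← e, hs]
    rw [e, h5 (k ^ i) ⟨i, rfl⟩ h2, one_mul]
  let f : ↥(W C) →* Ck ⧸ N := π.comp (Subgroup.inclusion hWk)
  have hf : Function.Injective f := by
    refine (injective_iff_map_eq_one f).2 fun w hw => Subtype.ext ?_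
    exact h5 _ ((hker _).1 hw) (W_sq C w.2)
  have hconjW : ∀ t : Ck ⧸ N, orderOf t = 2 → ∃ v : ↥(W C), (v : G) ≠ 1 ∧ IsConj (f v) t := by
    intro t ht
    obtain ⟨w, rfl⟩ := QuotientGroup.mk'_surjective N t
    have h2 : ((w * w : Ck) : G) ∈ zpowers k := (hker _).1 (by
      rw [map_mul, ← pow_two]; exact orderOf_dvd_iff_pow_eq_one.1 (dvd_of_eq ht))
    obtain ⟨i, hi⟩ := h2
    replace hi : k ^ i = (w : G) * w := hi
    have h3 : ((w ^ 5 : Ck) : G) * (w ^ 5 : Ck) = 1 := by
      rw [SubmonoidClass.coe_pow, ← (Commute.refl (w : G)).mul_pow, ← hi, ← zpow_natCast,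
        ← zpow_mul, mul_comm, zpow_mul, zpow_natCast,
        orderOf_dvd_iff_pow_eq_one.1 (dvd_of_eq ho), one_zpow]
    have e : π (w ^ 5) = π w := by
      rw [map_pow, pow_succ, pow_mul (π w) 2 2, orderOf_dvd_iff_pow_eq_one.1 (dvd_of_eq ht), one_pow,
        one_mul]
    have h4 : ((w ^ 5 : Ck) : G) ≠ 1 := fun e' => by
      have h5' : π (w ^ 5) = 1 := (hker _).2 (by rw [e']; exact one_mem _)
      rw [e] at h5'
      rw [h5', orderOf_one] at ht
      norm_num at ht
    obtain ⟨g, hg, hgW⟩ := invol_ck C hK h60 hk ho hcK (hcomm (w ^ 5)) h3 h4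
    refine ⟨⟨_, hgW⟩, fun e' => h4 ?_, isConj_iff.2 ⟨π ⟨g, mem_centralizer_singleton_iff.2 hg⟩, ?_⟩⟩
    · calc ((w ^ 5 : Ck) : G) = g * (g⁻¹ * ((w ^ 5 : Ck) : G) * g) * g⁻¹ := by group
        _ = 1 := by rw [show g⁻¹ * ((w ^ 5 : Ck) : G) * g = 1 from e']; group
    · rw [← e]
      show π _ * π _ * (π _)⁻¹ = π _
      rw [← map_inv, ← map_mul, ← map_mul]
      refine congrArg π (Subtype.ext ?_)
      show g * (g⁻¹ * ((w ^ 5 : Ck) : G) * g) * g⁻¹ = ((w ^ 5 : Ck) : G)
      group
  have hWconj : ∀ v : ↥(W C), (v : G) ≠ 1 → IsConj (f ⟨u, u_mem_W C⟩) (f v) := by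
    intro v hv
    have hxk : x ∈ Ck := mem_centralizer_singleton_iff.2 (X.cK k hk)
    have hxu : x * u * x⁻¹ ∈ W C := (mem_normalizer_iff.1 X.norm u).1 (u_mem_W C)
    have hmem : ∀ i : ℕ, x ^ i * u * (x ^ i)⁻¹ ∈ W C := fun i =>
      (mem_normalizer_iff.1 (pow_mem X.norm i) u).1 (u_mem_W C)
    have hconj : ∀ i : ℕ, (⟨_, hmem i⟩ : ↥(W C)) = v → IsConj (f ⟨u, u_mem_W C⟩) (f v) := by
      intro i h
      refine isConj_iff.2 ⟨π (⟨x, hxk⟩ ^ i), ?_⟩
      show π _ * π _ * (π _)⁻¹ = π _
      rw [← map_inv, ← map_mul, ← map_mul, ← h]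
      exact congrArg π (Subtype.ext (by simp))
    by_contra hno
    haveI := Fintype.ofFinite ↥(W C)
    have hne2 : x ^ 2 * u * (x ^ 2)⁻¹ ≠ u := fun e =>
      X.move (norm_two C hK h60 X.norm (by rw [← pow_two]; exact mul_inv_eq_iff_eq_mul.1 e))
    have hne1 : x * u * x⁻¹ ≠ u := fun e => X.move (mul_inv_eq_iff_eq_mul.1 e)
    have hne12 : x ^ 2 * u * (x ^ 2)⁻¹ ≠ x * u * x⁻¹ := fun e => hne1 (by
      have e' : x * (x * u * x⁻¹) * x⁻¹ = x * u * x⁻¹ := by
        refine Eq.trans ?_ e
        rw [pow_two]; group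
      exact mul_left_cancel (mul_right_cancel e'))
    have hn1 : ∀ i : ℕ, x ^ i * u * (x ^ i)⁻¹ ≠ 1 := fun i e =>
      u_ne_one C.loc (conj_eq_one_iff.1 e)
    let S : Finset ↥(W C) := {1, ⟨_, hmem 0⟩, ⟨_, hmem 1⟩, ⟨_, hmem 2⟩, v}
    have hS : S.card = 5 := by
      simp only [S]
      rw [Finset.card_insert_of_notMem, Finset.card_insert_of_notMem, Finset.card_insert_of_notMem,
        Finset.card_insert_of_notMem, Finset.card_singleton]
      all_goals simp only [Finset.mem_insert, Finset.mem_singleton, not_or]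
      · exact fun e => hno (hconj 2 e)
      · refine ⟨fun e => hne12 ?_, fun e => hno (hconj 1 e)⟩
        simpa using (congrArg Subtype.val e).symm
      · refine ⟨fun e => hne1 ?_, fun e => hne2 ?_, fun e => hno (hconj 0 e)⟩
        · simpa using (congrArg Subtype.val e).symm
        · simpa using (congrArg Subtype.val e).symm
      · exact ⟨fun e => hn1 0 (congrArg Subtype.val e).symm,
          fun e => hn1 1 (congrArg Subtype.val e).symm,
          fun e => hn1 2 (congrArg Subtype.val e).symm,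
          fun e => hv (congrArg Subtype.val e).symm⟩
    have := Finset.card_le_univ S
    rw [hS, ← Nat.card_eq_fintype_card, card_W C] at this
    omega
  have hV : FourCentralizer.FourCentralizers (Ck ⧸ N) := by
    have key : ∀ v : ↥(W C), (v : G) ≠ 1 → centralizer ({f v} : Set (Ck ⧸ N)) = f.range := by
      intro v hv
      ext t
      obtain ⟨c, rfl⟩ := QuotientGroup.mk'_surjective N t
      rw [mem_centralizer_singleton_iff]
      constructor
      · intro h
        have hcv : (c : G) * v = v * c := by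
          refine mul_inv_eq_iff_eq_mul.1 (huniq _ _ ?_ (W_sq C v.2) (W_comm_k C hK h60 hk v.2) ?_)
          · rw [show (c : G) * v * (c : G)⁻¹ * ((c : G) * v * (c : G)⁻¹) =
              c * ((v : G) * v) * (c : G)⁻¹ by group, W_sq C v.2]; group
          · show (((c * Subgroup.inclusion hWk v * c⁻¹ * (Subgroup.inclusion hWk v)⁻¹ : Ck)) : G) ∈
              zpowers k
            rw [← hker, map_mul, map_mul, map_mul, map_inv, map_inv,
              show π c * π (Subgroup.inclusion hWk v) = π (Subgroup.inclusion hWk v) * π c from h]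
            group
        have hcu' : (c : G) * u = u * c := by
          have : (c : G) ∈ centralizer ({(v : G)} : Set G) := mem_centralizer_singleton_iff.2 hcv
          rw [cent_W_elt C hK h60 v.2 hv] at this
          exact mem_centralizer_singleton_iff.1 this
        obtain ⟨w, hw, hcw⟩ := cent_u C hK h60 hk ho hcK (hcomm c) hcu'
        refine ⟨⟨w, hw⟩, inv_mul_eq_one.1 ?_⟩
        show (π _)⁻¹ * π c = 1
        rw [← map_inv, ← map_mul, hker]
        show w⁻¹ * (c : G) ∈ zpowers k
        rwa [show w⁻¹ * (c : G) = w⁻¹ * ((c : G) * w⁻¹) * w by group,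
          ((mem_zpowers_comm (W_comm_k C hK h60 hk hw) hcw).inv_left).eq, inv_mul_cancel_right]
      · rintro ⟨w, e⟩
        change f w = π c at e
        rw [← e, ← map_mul, ← map_mul]
        exact congrArg f (Subtype.ext (D_comm C.loc w.2.1 v.2.1))
    intro t ht
    obtain ⟨v, hv, hvt⟩ := hconjW t ht
    obtain ⟨g, rfl⟩ := isConj_iff.1 hvt
    rw [centralizer_conj, key v hv]
    refine ⟨?_, ?_⟩
    · rw [card_map_of_injective (MulAut.conj g).injective,
        ← Nat.card_congr (MonoidHom.ofInjective hf).toEquiv, card_W C]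
    · rintro _ ⟨_, ⟨w, rfl⟩, rfl⟩
      rw [← map_pow, ← map_pow, show w ^ 2 = 1 from Subtype.ext (by
        rw [SubmonoidClass.coe_pow, pow_two]; exact W_sq C w.2), map_one, map_one]
  have hu2 : orderOf (f ⟨u, u_mem_W C⟩) = 2 := by
    rw [orderOf_injective f hf, ← Subgroup.orderOf_coe]
    exact orderOf_u C.loc
  have hconj : ∀ s t : Ck ⧸ N, orderOf s = 2 → orderOf t = 2 → IsConj s t := by
    intro s t hs ht
    obtain ⟨v, hv, hvs⟩ := hconjW s hs
    obtain ⟨w, hw, hwt⟩ := hconjW t ht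
    exact (hvs.symm.trans (hWconj v hv).symm).trans ((hWconj w hw).trans hwt)
  -- the image of `P`
  set Pc := P.subgroupOf Ck
  have hNP : N ≤ Pc := fun n hn => (zpowers_le.2 hkP) hn
  set Pb := Pc.map π
  have hPb : Nat.card Pb = 5 := by
    let g : Pc →* Ck ⧸ N := π.comp Pc.subtype
    have h1 := g.ker.card_mul_index
    rw [Subgroup.index_ker, MonoidHom.range_comp, range_subtype,
      Nat.card_congr (subgroupOfEquivOfLe hPk).toEquiv, hP] at h1
    have h2 : g.ker = N.subgroupOf Pc := by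
      ext p; exact (hker (p : Ck)).trans mem_subgroupOf.symm
    rw [h2, Nat.card_congr (subgroupOfEquivOfLe hNP).toEquiv,
      Nat.card_congr (subgroupOfEquivOfLe (zpowers_le.2 (hPk hkP))).toEquiv, Nat.card_zpowers, ho] at h1
    change 5 * Nat.card Pb = 25 at h1
    omega
  have hcard : Nat.card (Ck ⧸ N) = 60 := by
    refine (FourCentralizer.card_eq_sixty hV hconj hu2 fun h3 => ?_).1
    haveI := Fintype.ofFinite (Ck ⧸ N)
    have h := FourCentralizer.card_eq_four_mul hV hconj hu2
    have hI : (FourCentralizer.invs (Ck ⧸ N)).card = 3 := by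
      rw [← h3, ← Nat.card_eq_finsetCard]
      exact Nat.card_congr (Equiv.subtypeEquivRight fun v => FourCentralizer.mem_invs)
    have hd := Pb.card_subgroup_dvd_card
    rw [hPb, h, hI] at hd
    norm_num at hd
  have hPbp : IsPGroup 5 Pb := IsPGroup.of_card (n := 1) (by rw [hPb, pow_one])
  -- no involution centralises `Pb`
  have hno : ∀ d : Ck ⧸ N, orderOf d = 2 → d ∉ centralizer (Pb : Set (Ck ⧸ N)) := by
    intro d hd hd'
    obtain ⟨p, hp⟩ := exists_prime_orderOf_dvd_card' (G := Pb) 5 (by rw [hPb])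
    have h := FourCentralizer.sq_of_commute hV hd (mem_centralizer_iff.1 hd' p p.2)
    have := orderOf_dvd_of_pow_eq_one (x := (p : Ck ⧸ N)) (n := 2) (by rw [pow_two]; exact h)
    rw [Subgroup.orderOf_coe, hp] at this
    norm_num at this
  obtain ⟨S5, hS5⟩ := hPbp.exists_le_sylow
  have hS5c : Nat.card S5 = 5 := by
    rw [Sylow.card_eq_multiplicity, hcard, Nat.factorization_def _ (by norm_num : Nat.Prime 5),
      show (60 : ℕ) = 5 ^ 1 * 12 by norm_num, padicValNat.mul (by norm_num) (by norm_num),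
      padicValNat.prime_pow, padicValNat.eq_zero_of_not_dvd (by norm_num)]
    norm_num
  have hSP : Pb = S5 := eq_of_le_of_card_ge hS5 (by rw [hS5c, hPb])
  set Nb := normalizer (Pb : Set (Ck ⧸ N))
  have hn5 : Nb.index * Nat.card Nb = 60 ∧ Nb.index % 5 = 1 := by
    refine ⟨by rw [mul_comm, Nb.card_mul_index, hcard], ?_⟩
    have := card_sylow_modEq_one 5 (Ck ⧸ N)
    rw [S5.card_eq_index_normalizer] at this
    show (normalizer (Pb : Set (Ck ⧸ N))).index % 5 = 1
    rw [hSP]
    exact this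
  have hNb : Nat.card Nb = 10 := by
    have h5N : 5 ∣ Nat.card Nb := hPb ▸ card_dvd_of_le le_normalizer
    have hdiv : Nb.index ∣ 60 := Dvd.intro _ hn5.1
    have hle := Nat.le_of_dvd (by norm_num) hdiv
    obtain ⟨q, hq⟩ := h5N
    have h12 : Nb.index * q = 12 := by
      have := hn5.1
      rw [hq] at this
      nlinarith
    have h6 : Nb.index = 1 ∨ Nb.index = 6 := by
      have : Nb.index ∣ 12 := Dvd.intro _ h12
      have := Nat.le_of_dvd (by norm_num) this
      have := hn5.2
      interval_cases Nb.index <;> omega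
    rcases h6 with h | h
    · exfalso
      -- `W` would act on a group of order five without fixed involution
      haveI : Pb.Normal := normalizer_eq_top_iff.1 (index_eq_one.1 h)
      obtain ⟨p, hp⟩ := exists_prime_orderOf_dvd_card' (G := Pb) 5 (by rw [hPb])
      haveI : IsCyclic Pb := isCyclic_of_prime_card (hPb : Nat.card Pb = 5)
      let ψ : ↥(W C) →* MulAut Pb := (MulAut.conjNormal (H := Pb)).comp f
      have hker' : ψ.ker = ⊥ := by
        rw [eq_bot_iff]
        intro v hv
        by_contra hne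
        refine hno (f v) (orderOf_eq_prime ?_ ?_) (mem_centralizer_iff.2 fun q hq => ?_)
        · rw [← map_pow, show v ^ 2 = 1 from Subtype.ext (by
            rw [SubmonoidClass.coe_pow, pow_two]; exact W_sq C v.2), map_one]
        · exact fun e => hne (mem_bot.2 (hf (e.trans (map_one f).symm)))
        · have h1 := congrArg Subtype.val (DFunLike.congr_fun (MonoidHom.mem_ker.1 hv) ⟨q, hq⟩)
          simp only [ψ, MonoidHom.comp_apply, MulAut.conjNormal_apply, MulAut.one_apply] at h1
          exact (mul_inv_eq_iff_eq_mul.1 h1).symm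
      let ι : ↥(W C) →* (ZMod (Nat.card Pb))ˣ :=
        ((IsCyclic.mulAutMulEquiv Pb).toMonoidHom).comp ψ
      have hι : Function.Injective ι :=
        (IsCyclic.mulAutMulEquiv Pb).injective.comp ((MonoidHom.ker_eq_bot_iff ψ).1 hker')
      have hkey : ∀ q : (ZMod (Nat.card Pb))ˣ, q * q = 1 → q = 1 ∨ q = -1 := by
        intro q hq
        haveI : Fact (Nat.Prime (Nat.card Pb)) := ⟨by rw [hPb]; norm_num⟩
        exact Units.inv_eq_self_iff q |>.1 (inv_eq_of_mul_eq_one_left hq)
      haveI := Fintype.ofFinite ↥(W C)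
      have hsub : (Finset.univ : Finset ↥(W C)).image ι ⊆ {1, -1} := fun q hq => by
        obtain ⟨v, -, rfl⟩ := Finset.mem_image.1 hq
        simpa using hkey _ (by rw [← map_mul, show v * v = 1 from Subtype.ext (W_sq C v.2), map_one])
      have := (Finset.card_le_card hsub).trans Finset.card_le_two
      rw [Finset.card_image_of_injective _ hι, Finset.card_univ, ← Nat.card_eq_fintype_card,
        card_W C] at this
      omega
    · rw [h] at h12
      omega
  have hNP' : Nat.card ↥(normalizer (P : Set G) ⊓ Ck) = 50 := by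
    have e1 : (normalizer (P : Set G) ⊓ Ck).subgroupOf Ck = Nb.comap π := by
      rw [comap_normalizer_eq_of_surjective _ (QuotientGroup.mk'_surjective N),
        comap_map_eq, QuotientGroup.ker_mk', sup_eq_left.2 hNP, inf_subgroupOf_right,
        subgroupOf_normalizer_eq hPk]
    rw [← Nat.card_congr (subgroupOfEquivOfLe (inf_le_right : normalizer (P : Set G) ⊓ Ck ≤ Ck)).toEquiv,
      e1]
    let g : Nb.comap π →* Ck ⧸ N := π.comp (Nb.comap π).subtype
    have h1 := g.ker.card_mul_index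
    rw [Subgroup.index_ker, MonoidHom.range_comp, range_subtype,
      map_comap_eq_self_of_surjective (QuotientGroup.mk'_surjective N), hNb] at h1
    have h2 : g.ker = N.subgroupOf (Nb.comap π) := by
      ext p; exact (hker (p : Ck)).trans mem_subgroupOf.symm
    have h3 : N ≤ Nb.comap π := fun n hn => by
      show π n ∈ Nb
      rw [show π n = 1 from (hker n).2 hn]
      exact one_mem _
    rw [h2, Nat.card_congr (subgroupOfEquivOfLe h3).toEquiv,
      Nat.card_congr (subgroupOfEquivOfLe (zpowers_le.2 (hPk hkP))).toEquiv, Nat.card_zpowers, ho] at h1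
    omega
  refine ⟨(eq_of_le_of_card_ge (fun p hp => mem_centralizer_iff.2 fun q hq => hPc q hq p hp) ?_).symm, hNP'⟩
  set CP := centralizer (P : Set G)
  have hCk : CP ≤ Ck := fun c hc => mem_centralizer_singleton_iff.2 (mem_centralizer_iff.1 hc k hkP).symm
  have hCN : CP ≤ normalizer (P : Set G) ⊓ Ck := le_inf (centralizer_le_normalizer _) hCk
  have hd : Nat.card CP ∣ 50 := hNP' ▸ card_dvd_of_le hCN
  have hP' : 25 ∣ Nat.card CP := hP ▸ card_dvd_of_le
    (fun p hp => mem_centralizer_iff.2 fun q hq => hPc q hq p hp)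
  rw [hP]
  by_contra hlt
  have h50 : Nat.card CP = 50 := by
    obtain ⟨q, hq⟩ := hP'
    have := Nat.le_of_dvd (by norm_num) hd
    omega
  obtain ⟨⟨d, hd1⟩, hd2⟩ := exists_prime_orderOf_dvd_card' (G := CP) 2 (by rw [h50]; norm_num)
  rw [← Subgroup.orderOf_coe] at hd2
  refine hno (π ⟨d, hCk hd1⟩) (orderOf_eq_prime ?_ fun e => ?_) (mem_centralizer_iff.2 ?_)
  · rw [← map_pow, show (⟨d, hCk hd1⟩ : Ck) ^ 2 = 1 from Subtype.ext
      (orderOf_dvd_iff_pow_eq_one.1 (dvd_of_eq hd2)), map_one]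
  · have := h5 d ((hker _).1 e) (by
      rw [← pow_two]; exact orderOf_dvd_iff_pow_eq_one.1 (dvd_of_eq hd2))
    rw [show ((⟨d, hd1⟩ : CP) : G) = d from rfl, this, orderOf_one] at hd2
    norm_num at hd2
  · rintro _ ⟨p, hp, rfl⟩
    rw [← map_mul, ← map_mul]
    exact congrArg π (Subtype.ext (mem_centralizer_iff.1 hd1 p hp))

end

end Cfsg.Agent.J2TypeSylowFive31
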