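import Cfsg.Agent.Lib.J2TypeSylowFive31

/-!
Groups of Hall–Janko type: the Sylow `5`-subgroups.
-/

set_option autoImplicit false

namespace Cfsg.Agent.J2TypeSylowFiveMain31

open Subgroup Cfsg.Agent.LargeExtraspecial Cfsg.Agent.J2TypePoints79
open Cfsg.Agent.J2TypeClasses79 Cfsg.Agent.J2TypeCyc79
open Cfsg.Agent.J2TypeCent79 Cfsg.Agent.J2TypeKernel79 Cfsg.Agent.J2TypeNorm79
open Cfsg.Agent.J2TypeThree79 Cfsg.Agent.J2TypeSylowFive31

variable {G : Type*} [Group G] [Finite G]

omit [Finite G] in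
/-- An element whose `n`-th power centralises `l` fixes `l` if it normalises `⟨l⟩`, for suitable `n`. -/
theorem fix_pointwise {n : ℕ} (hn : ∀ j : ZMod 5, j ^ n = 1 → j = 1) {g l : G} (hl : orderOf l = 5)
    (hg : g ^ n = 1) (h : g * l * g⁻¹ ∈ zpowers l) : g * l * g⁻¹ = l := by
  obtain ⟨j, hj⟩ := h
  replace hj : l ^ j = g * l * g⁻¹ := hj
  have key : ∀ i : ℕ, g ^ i * l * (g ^ i)⁻¹ = l ^ (j ^ i) := by
    intro i
    induction i with
    | zero => simp
    | succ i ih =>
      calc g ^ (i + 1) * l * (g ^ (i + 1))⁻¹ = g * (g ^ i * l * (g ^ i)⁻¹) * g⁻¹ := by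
            rw [pow_succ']; group
        _ = (g * l * g⁻¹) ^ (j ^ i) := by rw [ih, conj_zpow]
        _ = l ^ (j ^ (i + 1)) := by rw [← hj, ← zpow_mul, pow_succ']
  have h1 := key n
  rw [hg] at h1
  have h2 : l ^ (j ^ n) = l ^ (1 : ℤ) := by rw [← h1]; simp
  rw [zpow_eq_zpow_iff_modEq, hl] at h2
  have h3 : ((j : ZMod 5)) ^ n = 1 := by
    have := (ZMod.intCast_eq_intCast_iff _ _ 5).2 h2
    simpa using this
  have h4 : ((j : ℤ) : ZMod 5) = ((1 : ℤ) : ZMod 5) := by rw [hn _ h3, Int.cast_one]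
  have h5 : l ^ j = l ^ (1 : ℤ) := by
    rw [zpow_eq_zpow_iff_modEq, hl]
    exact (ZMod.intCast_eq_intCast_iff _ _ 5).1 h4
  rw [← hj, h5, zpow_one]

/-- A nontrivial element of order `n` normalising `P` fixes no line of the self-centralising `P`. -/
theorem no_fixed_line {n : ℕ} (hn : ∀ j : ZMod 5, j ^ n = 1 → j = 1) (hcop : Nat.Coprime n 25)
    {P : Subgroup G} (hP : Nat.card P = 25) (hPc : centralizer (P : Set G) = P) {g : G}
    (hgP : g ∈ normalizer (P : Set G)) (hg : g ^ n = 1) {l : G} (hl : l ∈ P) (hlo : orderOf l = 5)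
    (hfix : g * l * g⁻¹ ∈ zpowers l) : g = 1 := by
  classical
  have hgl := fix_pointwise hn hlo hg hfix
  have hcomm : ∀ p ∈ P, ∀ q ∈ P, Commute p q := fun p hp q hq =>
    (mem_centralizer_iff.1 (hPc.ge hq) p hp)
  have hconj : ∀ p ∈ P, g * p * g⁻¹ ∈ P := fun p hp => (mem_normalizer_iff.1 hgP p).1 hp
  let f : P →* P := MonoidHom.mk'
    (fun p => ⟨g * (p : G) * g⁻¹ * (p : G)⁻¹, mul_mem (hconj p p.2) (inv_mem p.2)⟩)
    fun p q => Subtype.ext (by
      show g * ((p : G) * q) * g⁻¹ * ((p : G) * q)⁻¹ =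
        g * p * g⁻¹ * (p : G)⁻¹ * (g * q * g⁻¹ * (q : G)⁻¹)
      calc g * ((p : G) * q) * g⁻¹ * ((p : G) * q)⁻¹
          = g * p * g⁻¹ * (g * q * g⁻¹ * (q : G)⁻¹ * (p : G)⁻¹) := by group
        _ = g * p * g⁻¹ * ((p : G)⁻¹ * (g * q * g⁻¹ * (q : G)⁻¹)) := by
          rw [(hcomm _ (mul_mem (hconj q q.2) (inv_mem q.2)) _ (inv_mem p.2)).eq]
        _ = _ := by group)
  have hf : ∀ p : P, (f p : G) = g * (p : G) * g⁻¹ * (p : G)⁻¹ := fun _ => rfl
  have hgl' : (⟨l, hl⟩ : P) ∈ f.ker := MonoidHom.mem_ker.2 (Subtype.ext (by rw [hf]; simp [hgl]))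
  have h5k : 5 ∣ Nat.card f.ker := by
    have := orderOf_dvd_natCard (⟨⟨l, hl⟩, hgl'⟩ : f.ker)
    rwa [← Subgroup.orderOf_coe, ← Subgroup.orderOf_coe, hlo] at this
  have hr : Nat.card f.range ∣ 5 := by
    have h1 := f.ker.card_mul_index
    rw [Subgroup.index_ker, hP] at h1
    obtain ⟨q, hq⟩ := h5k
    rw [hq] at h1
    exact ⟨q, by linarith⟩
  refine TransferPow.eq_one_of_pow_eq_one_of_coprime (m := n) (n := 25) hg ?_ hcop
  suffices g ∈ P from by
    have := pow_card_eq_one' (x := (⟨g, this⟩ : P))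
    rw [hP] at this
    exact congrArg Subtype.val this
  rw [← hPc, mem_centralizer_iff]
  intro p hp
  refine (mul_inv_eq_iff_eq_mul.1 (?_ : g * p * g⁻¹ = p)).symm
  -- `f p` is fixed by `g`
  set d : G := g * p * g⁻¹ * p⁻¹ with hd
  have hdP : d ∈ P := mul_mem (hconj p hp) (inv_mem hp)
  have hgd : g * d * g⁻¹ = d := by
    by_cases hd1 : d = 1
    · rw [hd1]; group
    have hmem : (⟨d, hdP⟩ : P) ∈ f.range := ⟨⟨p, hp⟩, rfl⟩
    have hdo : orderOf d = 5 := by
      have h1 := (orderOf_dvd_natCard (⟨_, hmem⟩ : f.range)).trans hr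
      rw [← Subgroup.orderOf_coe, ← Subgroup.orderOf_coe] at h1
      exact ((Nat.dvd_prime (by norm_num)).1 h1).resolve_left fun e => hd1 (orderOf_eq_one_iff.1 e)
    refine fix_pointwise hn hdo hg ?_
    have h2 : (⟨g * d * g⁻¹, hconj d hdP⟩ : P) ∈ f.range :=
      ⟨⟨g * p * g⁻¹, hconj p hp⟩, Subtype.ext (by rw [hf]; show _ = g * d * g⁻¹; rw [hd]; group)⟩
    have h3 : (zpowers d).subgroupOf P = f.range := by
      refine eq_of_le_of_card_ge ?_ ?_
      · rintro ⟨q, hq⟩ hqd
        obtain ⟨i, hi⟩ := hqd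
        replace hi : d ^ i = q := hi
        rw [show (⟨q, hq⟩ : P) = ⟨d, hdP⟩ ^ i from Subtype.ext (by rw [coe_zpow]; exact hi.symm)]
        exact zpow_mem hmem i
      · rw [Nat.card_congr (subgroupOfEquivOfLe (zpowers_le.2 hdP)).toEquiv, Nat.card_zpowers, hdo]
        exact Nat.le_of_dvd (by norm_num) hr
    exact mem_subgroupOf.1 (h3.ge h2)
  have key : ∀ i : ℕ, g ^ i * p * (g ^ i)⁻¹ = d ^ i * p := by
    intro i
    induction i with
    | zero => simp
    | succ i ih =>
      calc g ^ (i + 1) * p * (g ^ (i + 1))⁻¹ = g * (g ^ i * p * (g ^ i)⁻¹) * g⁻¹ := by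
            rw [pow_succ']; group
        _ = (g * d * g⁻¹) ^ i * (g * p * g⁻¹) := by rw [ih, conj_pow]; group
        _ = d ^ i * (d * p) := by rw [hgd, hd]; group
        _ = _ := by rw [← mul_assoc, ← pow_succ]
  have hdn : d ^ n = 1 := by
    have h1 := key n
    rw [hg] at h1
    simpa using h1.symm
  have hd25 : d ^ 25 = 1 := by
    have := pow_card_eq_one' (x := (⟨d, hdP⟩ : P))
    rw [hP] at this
    exact congrArg Subtype.val this
  have hd1 := TransferPow.eq_one_of_pow_eq_one_of_coprime hdn hd25 hcop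
  rw [hd] at hd1
  exact mul_inv_eq_one.1 hd1

/-- A group of order `25` has at most six subgroups of order `5`. -/
theorem lines_le {P : Subgroup G} (hP : Nat.card P = 25) (s : Finset (Subgroup G))
    (hs : ∀ L ∈ s, L ≤ P ∧ Nat.card L = 5) : s.card ≤ 6 := by
  classical
  haveI := Fintype.ofFinite G
  haveI : Fact (Nat.Prime 5) := ⟨by norm_num⟩
  set F : Subgroup G → Finset G := fun L => (Finset.univ.filter (· ∈ L)).erase 1
  have hF : ∀ L ∈ s, (F L).card = 4 := fun L hL => by
    rw [Finset.card_erase_of_mem (by simp [L.one_mem]), ← Fintype.card_subtype,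
      ← Nat.card_eq_fintype_card]
    have := (hs L hL).2
    change Nat.card {x // x ∈ L} - 1 = 4
    rw [this]
  have hdisj : (s : Set (Subgroup G)).PairwiseDisjoint F := by
    intro L hL L' hL' hne
    refine Finset.disjoint_left.2 fun q hq hq' => hne ?_
    simp only [F, Finset.mem_erase, Finset.mem_filter, Finset.mem_univ, true_and] at hq hq'
    have key : ∀ M ∈ s, q ∈ M → zpowers q = M := fun M hM hqM => by
      refine eq_of_le_of_card_ge (zpowers_le.2 hqM) ?_
      rw [Nat.card_zpowers, (hs M hM).2]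
      have := orderOf_dvd_natCard (⟨q, hqM⟩ : M)
      rw [← Subgroup.orderOf_coe, (hs M hM).2] at this
      exact (((Nat.dvd_prime (Fact.out : Nat.Prime 5)).1 this).resolve_left
        fun e => hq.1 (orderOf_eq_one_iff.1 e)).ge
    rw [← key L hL hq.2, key L' hL' hq'.2]
  have h := Finset.card_le_card (show s.biUnion F ⊆ (Finset.univ.filter (· ∈ P)).erase 1 from by
    intro q hq
    simp only [Finset.mem_biUnion, F, Finset.mem_erase, Finset.mem_filter, Finset.mem_univ,
      true_and] at hq ⊢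
    obtain ⟨L, hL, h1, h2⟩ := hq
    exact ⟨h1, (hs L hL).1 h2⟩)
  rw [Finset.card_biUnion hdisj, Finset.sum_congr rfl hF, Finset.sum_const, smul_eq_mul,
    Finset.card_erase_of_mem (by simp [P.one_mem]), ← Fintype.card_subtype,
    ← Nat.card_eq_fintype_card] at h
  change s.card * 4 ≤ Nat.card P - 1 at h
  omega

theorem cube_one : ∀ j : ZMod 5, j ^ 3 = 1 → j = 1 := by decide +kernel

theorem seven_one : ∀ j : ZMod 5, j ^ 7 = 1 → j = 1 := by decide +kernel

omit [Finite G] in
theorem map_conj_mul {a b : G} {H : Subgroup G} : H.map (MulAut.conj (a * b)).toMonoidHom =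
    (H.map (MulAut.conj b).toMonoidHom).map (MulAut.conj a).toMonoidHom := by
  rw [Subgroup.map_map]; congr 1; ext; simp [mul_assoc]

omit [Finite G] in
theorem map_conj_inv (a : G) (H : Subgroup G) :
    (H.map (MulAut.conj a).toMonoidHom).map (MulAut.conj a⁻¹).toMonoidHom = H := by
  rw [Subgroup.map_map]
  convert Subgroup.map_id H using 2
  ext; simp [mul_assoc]

variable {Q : Subgroup G} {z : G} {a : Fin 5 → G} {u u' y : G}
variable (C : Cyc Q z a u u' y) {K : Subgroup G} (hK : Kern C K) (h60 : Nat.card K = 60)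
  (hG : Nat.card G = 604800)
include C hK h60 hG

/-- The Sylow `5`-structure. -/
theorem sylow_five (P : Sylow 5 G) :
    centralizer ((P : Subgroup G) : Set G) = P ∧ Nat.card P = 25 ∧
      Nat.card (normalizer ((P : Subgroup G) : Set G)) = 300 ∧
      ∃ X Y : Subgroup G, Nat.card X = 5 ∧ Nat.card Y = 5 ∧
        (∀ g : G, X.map (MulAut.conj g).toMonoidHom ≠ Y) ∧
        ∀ W : Subgroup G, Nat.card W = 5 →
          ∃ g : G, W.map (MulAut.conj g).toMonoidHom = X ∨ W.map (MulAut.conj g).toMonoidHom = Y := by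
  classical
  haveI : Fact (Nat.Prime 5) := ⟨by norm_num⟩
  haveI : Fact (Nat.Prime 2) := ⟨Nat.prime_two⟩
  obtain ⟨x, X⟩ := exists_elt C hK h60
  obtain ⟨k, t, hk, ho, htK, htk, hcK⟩ := exists_kfive C hK h60
  obtain ⟨c, hco, hcz, hcT⟩ := exists_zfive C
  have hcard : ∀ S : Sylow 5 G, Nat.card S = 25 := fun S => by
    rw [Sylow.card_eq_multiplicity, hG, Nat.factorization_def _ (by norm_num : Nat.Prime 5),
      show (604800 : ℕ) = 5 ^ 2 * 24192 by norm_num, padicValNat.mul (by norm_num) (by norm_num),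
      padicValNat.prime_pow, padicValNat.eq_zero_of_not_dvd (by norm_num)]
    norm_num
  obtain ⟨P0, hP0⟩ := (IsPGroup.of_card (n := 1) (by rw [Nat.card_zpowers, ho, pow_one]) :
    IsPGroup 5 ↥(zpowers k)).exists_le_sylow
  have hkP : k ∈ (P0 : Subgroup G) := hP0 (mem_zpowers k)
  haveI hmc : IsMulCommutative (P0 : Subgroup G) :=
    IsPGroup.isMulCommutative_of_card_eq_prime_sq (p := 5) (by rw [hcard]; norm_num)
  have hPc : ∀ p ∈ (P0 : Subgroup G), ∀ q ∈ (P0 : Subgroup G), p * q = q * p := fun p hp q hq =>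
    congrArg Subtype.val (hmc.is_comm.comm ⟨p, hp⟩ ⟨q, hq⟩)
  have hPk : (P0 : Subgroup G) ≤ centralizer ({k} : Set G) := fun p hp =>
    mem_centralizer_singleton_iff.2 (hPc p hp k hkP)
  obtain ⟨hCP, hNk⟩ := cent_sylow C hK h60 X hk ho hcK hPk (hcard P0) hkP hPc
  set N := normalizer ((P0 : Subgroup G) : Set G) with hNdef
  set Ck := centralizer ({k} : Set G) with hCk
  -- a conjugate of `c`
  obtain ⟨Pc, hPc'⟩ := (IsPGroup.of_card (n := 1) (by rw [Nat.card_zpowers, hco, pow_one]) :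
    IsPGroup 5 ↥(zpowers c)).exists_le_sylow
  obtain ⟨h, hh⟩ := MulAction.exists_smul_eq G Pc P0
  set c' := h * c * h⁻¹
  have hc'P : c' ∈ (P0 : Subgroup G) := by
    rw [← hh, Sylow.coe_subgroup_smul]
    exact ⟨c, hPc' (mem_zpowers c), rfl⟩
  have hc'o : orderOf c' = 5 := by
    rw [← hco]; exact orderOf_injective (MulAut.conj h).toMonoidHom (MulAut.conj h).injective c
  -- lines of the two kinds are not conjugate
  have hnc : ∀ g : G, g * c * g⁻¹ ∈ zpowers k → False := by
    intro g hg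
    have hne : g * c * g⁻¹ ≠ 1 := fun e => by
      have := conj_eq_one_iff.1 e
      rw [this, orderOf_one] at hco; norm_num at hco
    have hgen : zpowers (g * c * g⁻¹) = zpowers k := by
      refine eq_of_le_of_card_ge (zpowers_le.2 hg) ?_
      rw [Nat.card_zpowers, Nat.card_zpowers, ho, ← hco]
      exact (orderOf_injective (MulAut.conj g).toMonoidHom (MulAut.conj g).injective c).ge
    obtain ⟨i, hi⟩ := hgen.ge (mem_zpowers k)
    replace hi : (g * c * g⁻¹) ^ i = k := hi
    have hcomm : Commute (g * z * g⁻¹) k := by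
      rw [← hi]
      refine Commute.zpow_right ?_ i
      show g * z * g⁻¹ * (g * c * g⁻¹) = g * c * g⁻¹ * (g * z * g⁻¹)
      calc g * z * g⁻¹ * (g * c * g⁻¹) = g * (z * c) * g⁻¹ := by group
        _ = _ := by rw [← hcz]; group
    have hu := invol_ck_u C hK h60 hk ho hcK hcomm.eq
      (by rw [show g * z * g⁻¹ * (g * z * g⁻¹) = g * (z * z) * g⁻¹ by group, C.loc.fr.ext.zz]; group)
      (fun e => z_ne C (conj_eq_one_iff.1 e))
    exact not_conj C.loc ((isConj_iff.2 ⟨g, rfl⟩).trans hu.symm)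
  -- an element of `N` inverting `k`
  obtain ⟨n₀, hn₀, hn₀k⟩ : ∃ n₀ ∈ N, n₀ * k * n₀⁻¹ = k⁻¹ := by
    have htC : ∀ p : G, p * k = k * p → t * p * t⁻¹ * k = k * (t * p * t⁻¹) := by
      intro p hp
      have hk' : t⁻¹ * k * t = k⁻¹ := by
        have e : t * k⁻¹ * t⁻¹ = k := by
          rw [show t * k⁻¹ * t⁻¹ = (t * k * t⁻¹)⁻¹ by group, htk, inv_inv]
        calc t⁻¹ * k * t = t⁻¹ * (t * k⁻¹ * t⁻¹) * t := by rw [e]
          _ = _ := by group
      calc t * p * t⁻¹ * k = t * (p * (t⁻¹ * k * t)) * t⁻¹ := by group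
        _ = t * ((t⁻¹ * k * t) * p) * t⁻¹ := by
          rw [hk', ((show Commute p k from hp).inv_right).eq]
        _ = _ := by group
    let Pk : Sylow 5 Ck := P0.subtype hPk
    set Pt := (P0 : Subgroup G).map (MulAut.conj t).toMonoidHom with hPt
    have hPtle : Pt ≤ Ck := by
      rintro _ ⟨p, hp, rfl⟩
      exact mem_centralizer_singleton_iff.2 (htC p (hPc p hp k hkP))
    obtain ⟨S, hS⟩ := ((P0.isPGroup'.map (MulAut.conj t).toMonoidHom).of_equiv
      (subgroupOfEquivOfLe hPtle).symm).exists_le_sylow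
    obtain ⟨q, hq⟩ := MulAction.exists_smul_eq Ck S Pk
    refine ⟨q * t, mem_normalizer_fintype fun p hp => ?_, ?_⟩
    · have h1 : (⟨t * p * t⁻¹, hPtle ⟨p, hp, rfl⟩⟩ : Ck) ∈ Pt.subgroupOf Ck := ⟨p, hp, rfl⟩
      have h2 : (q : Ck) * ⟨t * p * t⁻¹, hPtle ⟨p, hp, rfl⟩⟩ * q⁻¹ ∈ (Pk : Subgroup Ck) := by
        rw [← hq, Sylow.coe_subgroup_smul]
        exact ⟨_, hS h1, rfl⟩
      have h3 : (q : G) * (t * p * t⁻¹) * (q : G)⁻¹ ∈ (P0 : Subgroup G) := h2
      show (q : G) * t * p * ((q : G) * t)⁻¹ ∈ (P0 : Subgroup G)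
      rwa [show (q : G) * t * p * ((q : G) * t)⁻¹ = (q : G) * (t * p * t⁻¹) * (q : G)⁻¹ by group]
    · rw [show (q : G) * t * k * ((q : G) * t)⁻¹ = (q : G) * (t * k * t⁻¹) * (q : G)⁻¹ by group, htk,
        ((show Commute (q : G) k from mem_centralizer_singleton_iff.1 q.2).inv_right).eq,
        mul_inv_cancel_right]
  -- the order of the normaliser
  have hidx : N.index * Nat.card N = 604800 ∧ N.index % 5 = 1 := by
    refine ⟨by rw [mul_comm, N.card_mul_index, hG], ?_⟩
    have := card_sylow_modEq_one 5 G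
    rw [P0.card_eq_index_normalizer] at this
    exact this
  have h50 : 50 ∣ Nat.card N := hNk ▸ card_dvd_of_le inf_le_left
  have hne50 : Nat.card N ≠ 50 := by
    intro e
    have heq : normalizer ((P0 : Subgroup G) : Set G) ⊓ Ck = N :=
      eq_of_le_of_card_ge inf_le_left (by rw [hNk, e])
    have hmem : n₀ ∈ Ck := ((heq.symm ▸ hn₀ : n₀ ∈ normalizer ((P0 : Subgroup G) : Set G) ⊓ Ck)).2
    have h1 : n₀ * k * n₀⁻¹ = k := mul_inv_eq_iff_eq_mul.2 (mem_centralizer_singleton_iff.1 hmem)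
    rw [hn₀k] at h1
    have : k ^ 2 = 1 := by rw [pow_two]; nth_rewrite 1 [← h1]; group
    have := orderOf_dvd_of_pow_eq_one this
    rw [ho] at this; norm_num at this
  have hline : ∀ g ∈ N, ∀ l ∈ (P0 : Subgroup G), orderOf l = 5 →
      ((zpowers l).map (MulAut.conj g).toMonoidHom ≤ (P0 : Subgroup G) ∧
        Nat.card ((zpowers l).map (MulAut.conj g).toMonoidHom) = 5) := by
    intro g hg l hl hlo
    refine ⟨?_, by rw [card_map_of_injective (MulAut.conj g).injective, Nat.card_zpowers, hlo]⟩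
    rintro _ ⟨p, hp, rfl⟩
    exact (mem_normalizer_iff.1 hg p).1 (zpowers_le.2 hl hp)
  have hfree : ∀ n : ℕ, (∀ j : ZMod 5, j ^ n = 1 → j = 1) → n.Prime → Nat.Coprime n 25 →
      ∀ g ∈ N, orderOf g = n → ∀ l ∈ (P0 : Subgroup G), orderOf l = 5 →
      ∀ i i' : Fin n, (zpowers l).map (MulAut.conj (g ^ (i : ℕ))).toMonoidHom =
        (zpowers l).map (MulAut.conj (g ^ (i' : ℕ))).toMonoidHom → i = i' := by
    intro n hn hnp hcop g hg hgo l hl hlo i i' e
    haveI : Fact n.Prime := ⟨hnp⟩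
    have h1 : g ^ (i : ℕ) * l * (g ^ (i : ℕ))⁻¹ ∈
        (zpowers l).map (MulAut.conj (g ^ (i' : ℕ))).toMonoidHom :=
      e ▸ mem_map_of_mem _ (mem_zpowers l)
    obtain ⟨m, hm, hm'⟩ := h1
    replace hm' : g ^ (i' : ℕ) * m * (g ^ (i' : ℕ))⁻¹ = g ^ (i : ℕ) * l * (g ^ (i : ℕ))⁻¹ := hm'
    set d := (g ^ (i' : ℕ))⁻¹ * g ^ (i : ℕ) with hd
    have h2 : d * l * d⁻¹ ∈ zpowers l := by
      have : d * l * d⁻¹ = m := by
        calc d * l * d⁻¹ = (g ^ (i' : ℕ))⁻¹ * (g ^ (i : ℕ) * l * (g ^ (i : ℕ))⁻¹) * g ^ (i' : ℕ) := by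
              rw [hd]; group
          _ = m := by rw [← hm']; group
      rw [this]; exact hm
    have hgn : g ^ n = 1 := hgo ▸ pow_orderOf_eq_one g
    have hdn : d ^ n = 1 := by
      rw [hd, ((Commute.refl g).pow_pow _ _).inv_left.mul_pow, inv_pow, ← pow_mul, ← pow_mul,
        mul_comm, pow_mul, hgn, one_pow, inv_one, one_mul, mul_comm, pow_mul, hgn, one_pow]
    have := no_fixed_line hn hcop (hcard P0) hCP (mul_mem (inv_mem (pow_mem hg _)) (pow_mem hg _))
      hdn hl hlo h2
    have h3 : g ^ (i : ℕ) = g ^ (i' : ℕ) := (inv_mul_eq_one.1 this).symm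
    rw [pow_inj_mod, hgo, Nat.mod_eq_of_lt i.2, Nat.mod_eq_of_lt i'.2] at h3
    exact Fin.ext h3
  have h7 : ¬ 7 ∣ Nat.card N := by
    intro h7
    haveI : Fact (Nat.Prime 7) := ⟨by norm_num⟩
    obtain ⟨⟨g, hg⟩, hgo⟩ := exists_prime_orderOf_dvd_card' (G := N) 7 h7
    rw [← Subgroup.orderOf_coe] at hgo
    have hinj := hfree 7 seven_one (by norm_num) (by norm_num) g hg hgo k hkP ho
    have := lines_le (hcard P0)
      (Finset.univ.image fun i : Fin 7 => (zpowers k).map (MulAut.conj (g ^ (i : ℕ))).toMonoidHom)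
      (fun L hL => by
        obtain ⟨i, -, rfl⟩ := Finset.mem_image.1 hL
        exact hline _ (pow_mem hg _) k hkP ho)
    rw [Finset.card_image_of_injective _ (fun i i' e => hinj i i' e)] at this
    simp at this
  -- orbit sizes
  have horb : Nat.card {p : G // ∃ n ∈ N, n * k * n⁻¹ = p} * 50 = Nat.card N := by
    rw [← hNk]; exact J2TypeOrder79.card_class N k
  have horbc := J2TypeOrder79.card_class N c'
  have hsum : Nat.card {p : G // ∃ n ∈ N, n * k * n⁻¹ = p} +
      Nat.card {p : G // ∃ n ∈ N, n * c' * n⁻¹ = p} ≤ 24 := by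
    haveI := Fintype.ofFinite G
    have hin : ∀ l ∈ (P0 : Subgroup G), l ≠ 1 → ∀ n ∈ N,
        n * l * n⁻¹ ∈ (Finset.univ.filter (· ∈ (P0 : Subgroup G))).erase 1 := by
      intro l hl hl1 n hn
      simp only [Finset.mem_erase, Finset.mem_filter, Finset.mem_univ, true_and]
      exact ⟨fun e => hl1 (conj_eq_one_iff.1 e), (mem_normalizer_iff.1 hn l).1 hl⟩
    set A := Finset.univ.filter (fun p => ∃ n ∈ N, n * k * n⁻¹ = p)
    set B := Finset.univ.filter (fun p => ∃ n ∈ N, n * c' * n⁻¹ = p)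
    have hA : Nat.card {p : G // ∃ n ∈ N, n * k * n⁻¹ = p} = A.card := by
      rw [Nat.card_eq_fintype_card, Fintype.card_subtype]
    have hB : Nat.card {p : G // ∃ n ∈ N, n * c' * n⁻¹ = p} = B.card := by
      rw [Nat.card_eq_fintype_card, Fintype.card_subtype]
    have hdisj : Disjoint A B := Finset.disjoint_left.2 fun p hp hp' => by
      obtain ⟨n, -, hn⟩ := (Finset.mem_filter.1 hp).2
      obtain ⟨n', -, hn'⟩ := (Finset.mem_filter.1 hp').2
      refine hnc (n⁻¹ * n' * h) ?_
      rw [show n⁻¹ * n' * h * c * (n⁻¹ * n' * h)⁻¹ = n⁻¹ * (n' * c' * n'⁻¹) * n by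
        simp only [c']; group, hn', ← hn]
      rw [show n⁻¹ * (n * k * n⁻¹) * n = k by group]
      exact mem_zpowers k
    have hk1 : k ≠ 1 := fun e => by rw [e, orderOf_one] at ho; norm_num at ho
    have hc1 : c' ≠ 1 := fun e => by rw [e, orderOf_one] at hc'o; norm_num at hc'o
    have hle : A ∪ B ⊆ (Finset.univ.filter (· ∈ (P0 : Subgroup G))).erase 1 := by
      intro p hp
      rcases Finset.mem_union.1 hp with hp | hp
      · obtain ⟨n, hn, rfl⟩ := (Finset.mem_filter.1 hp).2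
        exact hin k hkP hk1 n hn
      · obtain ⟨n, hn, rfl⟩ := (Finset.mem_filter.1 hp).2
        exact hin c' hc'P hc1 n hn
    have := Finset.card_le_card hle
    have h25 : (Finset.univ.filter (· ∈ (P0 : Subgroup G))).card = 25 := by
      rw [← Fintype.card_subtype, ← Nat.card_eq_fintype_card]
      exact hcard P0
    rw [Finset.card_union_of_disjoint hdisj, Finset.card_erase_of_mem (by simp [one_mem]), h25] at this
    omega
  have hN300 : Nat.card N = 300 := by
    obtain ⟨m, hm⟩ := h50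
    set o := Nat.card {p : G // ∃ n ∈ N, n * k * n⁻¹ = p}
    have hom : o = m := by omega
    have hm24 : m ≤ 24 := by omega
    have hd : m ∣ 12096 := by
      have h1 := hidx.1
      rw [hm] at h1
      refine ⟨N.index, Nat.eq_of_mul_eq_mul_left (show 0 < 50 by norm_num) ?_⟩
      linarith
    have hii : N.index * m = 12096 := by
      have h1 := hidx.1
      rw [hm] at h1
      linarith
    have hm6 : m = 6 ∨ m = 16 := by
      have h2 := hidx.2
      have h7' : ¬ 7 ∣ m := fun h => h7 (hm ▸ h.mul_left 50)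
      have hne : m ≠ 1 := fun e => hne50 (by rw [hm, e])
      have hm0 : 0 < m := by
        rcases Nat.eq_zero_or_pos m with h | h
        · subst h; simp at hii
        · exact h
      have hi : N.index = 12096 / m := by rw [← hii, Nat.mul_div_cancel _ hm0]
      rw [hi] at h2
      interval_cases m <;> omega
    rcases hm6 with rfl | rfl
    · omega
    exfalso
    set Sc := N ⊓ centralizer ({c'} : Set G)
    have h4 : ¬ 2 ^ 2 ∣ Nat.card Sc := by
      intro h4
      obtain ⟨T, hT⟩ := Sylow.exists_subgroup_card_pow_prime (G := ↥Sc) 2 h4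
      have h1 := hcT h (T.map Sc.subtype) (IsPGroup.of_card (n := 2) (by
        rw [card_map_of_injective Sc.subtype_injective, hT])) (by
        rintro _ ⟨s, -, rfl⟩
        exact mem_centralizer_singleton_iff.1 s.2.2)
      rw [card_map_of_injective Sc.subtype_injective, hT] at h1
      norm_num at h1
    have hd8 : Nat.card Sc ∣ 800 := by
      have : Nat.card Sc ∣ Nat.card N := card_dvd_of_le inf_le_left
      rw [hm] at this
      exact this
    have hsc : Nat.card Sc ≤ 50 := by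
      have hle := Nat.le_of_dvd (by norm_num) hd8
      by_contra hlt
      obtain ⟨q, hq⟩ := hd8
      have : q < 16 := by
        by_contra hq16
        have := Nat.mul_le_mul (le_of_lt (not_le.1 hlt)) (not_lt.1 hq16)
        nlinarith
      norm_num at h4
      interval_cases q <;> omega
    have : 16 ≤ Nat.card {p : G // ∃ n ∈ N, n * c' * n⁻¹ = p} := by
      by_contra hlt
      have h1 := Nat.mul_le_mul (Nat.lt_succ_iff.1 (not_le.1 hlt)) hsc
      rw [horbc, hm] at h1
      norm_num at h1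
    omega
  -- the classes of lines
  haveI : Fact (Nat.Prime 3) := ⟨Nat.prime_three⟩
  obtain ⟨⟨g, hg⟩, hgo⟩ := exists_prime_orderOf_dvd_card' (G := N) 3 (by rw [hN300]; norm_num)
  rw [← Subgroup.orderOf_coe] at hgo
  have hX : Nat.card (zpowers k) = 5 := by rw [Nat.card_zpowers, ho]
  have hY : Nat.card (zpowers c') = 5 := by rw [Nat.card_zpowers, hc'o]
  have hXY : ∀ f : G, (zpowers k).map (MulAut.conj f).toMonoidHom ≠ zpowers c' := by
    intro f e
    refine hnc (f⁻¹ * h) ?_
    obtain ⟨p, hp, hp'⟩ := e.ge (mem_zpowers c')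
    replace hp' : f * p * f⁻¹ = h * c * h⁻¹ := hp'
    rw [show f⁻¹ * h * c * (f⁻¹ * h)⁻¹ = f⁻¹ * (h * c * h⁻¹) * f by group, ← hp',
      show f⁻¹ * (f * p * f⁻¹) * f = p by group]
    exact hp
  have hW : ∀ W : Subgroup G, Nat.card W = 5 → ∃ f : G,
      W.map (MulAut.conj f).toMonoidHom = zpowers k ∨ W.map (MulAut.conj f).toMonoidHom = zpowers c' := by
    intro W hW
    obtain ⟨S, hS⟩ := (IsPGroup.of_card (n := 1) (by rw [hW, pow_one]) : IsPGroup 5 ↥W).exists_le_sylow
    obtain ⟨f, hf⟩ := MulAction.exists_smul_eq G S P0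
    set L := W.map (MulAut.conj f).toMonoidHom
    have hL : L ≤ (P0 : Subgroup G) ∧ Nat.card L = 5 := by
      refine ⟨?_, by rw [card_map_of_injective (MulAut.conj f).injective, hW]⟩
      rintro _ ⟨w, hw, rfl⟩
      rw [← hf, Sylow.coe_subgroup_smul]
      exact ⟨w, hS hw, rfl⟩
    let F : Fin 3 ⊕ Fin 3 → Subgroup G := Sum.elim
      (fun i => (zpowers k).map (MulAut.conj (g ^ (i : ℕ))).toMonoidHom)
      (fun i => (zpowers c').map (MulAut.conj (g ^ (i : ℕ))).toMonoidHom)
    have hFinj : Function.Injective F := by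
      rintro (i | i) (j | j) e
      · exact congrArg Sum.inl (hfree 3 cube_one Nat.prime_three (by norm_num) g hg hgo k hkP ho i j e)
      · exact (hXY ((g ^ (j : ℕ))⁻¹ * g ^ (i : ℕ)) (by
          rw [map_conj_mul]
          exact (congrArg _ e).trans (map_conj_inv _ _))).elim
      · exact (hXY ((g ^ (i : ℕ))⁻¹ * g ^ (j : ℕ)) (by
          rw [map_conj_mul]
          exact (congrArg _ e.symm).trans (map_conj_inv _ _))).elim
      · exact congrArg Sum.inr (hfree 3 cube_one Nat.prime_three (by norm_num) g hg hgo c' hc'P hc'o i j e)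
    by_cases hmem : L ∈ Finset.univ.image F
    · obtain ⟨i, -, hi⟩ := Finset.mem_image.1 hmem
      rcases i with i | i
      · refine ⟨(g ^ (i : ℕ))⁻¹ * f, Or.inl ?_⟩
        rw [map_conj_mul, show W.map (MulAut.conj f).toMonoidHom = L from rfl, ← hi]
        exact map_conj_inv _ _
      · refine ⟨(g ^ (i : ℕ))⁻¹ * f, Or.inr ?_⟩
        rw [map_conj_mul, show W.map (MulAut.conj f).toMonoidHom = L from rfl, ← hi]
        exact map_conj_inv _ _
    exfalso
    have h6 := lines_le (hcard P0) (insert L (Finset.univ.image F)) (fun M hM => by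
      rcases Finset.mem_insert.1 hM with rfl | hM
      · exact hL
      obtain ⟨i, -, rfl⟩ := Finset.mem_image.1 hM
      rcases i with i | i
      · exact hline _ (pow_mem hg _) k hkP ho
      · exact hline _ (pow_mem hg _) c' hc'P hc'o)
    rw [Finset.card_insert_of_notMem hmem, Finset.card_image_of_injective _ hFinj] at h6
    simp at h6
  -- transport to `P`
  obtain ⟨q, hq⟩ := MulAction.exists_smul_eq G P0 P
  refine ⟨?_, hcard P, ?_, zpowers k, zpowers c', hX, hY, hXY, hW⟩
  · refine le_antisymm (fun w hw => ?_) ?_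
    · have hmem : q⁻¹ * w * q ∈ centralizer ((P0 : Subgroup G) : Set G) := by
        refine mem_centralizer_iff.2 fun p hp => ?_
        have h1 : q * p * q⁻¹ ∈ (P : Subgroup G) := by
          rw [← hq, Sylow.coe_subgroup_smul]; exact ⟨p, hp, rfl⟩
        have h2 := mem_centralizer_iff.1 hw _ h1
        calc p * (q⁻¹ * w * q) = q⁻¹ * (q * p * q⁻¹ * w) * q := by group
          _ = _ := by rw [h2]; group
      rw [hCP] at hmem
      rw [← hq, Sylow.coe_subgroup_smul]
      refine ⟨_, hmem, ?_⟩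
      show q * (q⁻¹ * w * q) * q⁻¹ = w
      group
    · haveI : IsMulCommutative (P : Subgroup G) :=
        IsPGroup.isMulCommutative_of_card_eq_prime_sq (p := 5) (by rw [hcard]; norm_num)
      exact fun p hp => mem_centralizer_iff.2 fun r hr =>
        congrArg Subtype.val (IsMulCommutative.is_comm.comm (⟨r, hr⟩ : (P : Subgroup G)) ⟨p, hp⟩)
  · have h1 := (normalizer ((P : Subgroup G) : Set G)).card_mul_index
    have e : (normalizer ((P : Subgroup G) : Set G)).index = (normalizer ((P0 : Subgroup G) : Set G)).index :=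
      P.card_eq_index_normalizer.symm.trans P0.card_eq_index_normalizer
    rw [e, hG] at h1
    have h2 := hidx.1
    rw [hN300] at h2
    have : N.index = 2016 := by omega
    rw [show (normalizer ((P0 : Subgroup G) : Set G)).index = N.index from rfl, this] at h1
    omega

end Cfsg.Agent.J2TypeSylowFiveMain31
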