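import Cfsg.Agent.Lib.J2TypeNorm79
import Cfsg.Agent.Lib.TwoInvolutions

/-!
# Groups of Hall–Janko type: elements of order three in `C(z)`

Such an element fixes two points `p, q`; its centralizer in `C(z)` is `⟨x⟩ × ⟨a p, a q⟩`, of order
`24`, and all of them are conjugate in `C(z)`.
-/

set_option autoImplicit false

namespace Cfsg.Agent.J2TypeThreeH79

open Subgroup Cfsg.Agent.LargeExtraspecial Cfsg.Agent.J2TypePoints79 Cfsg.Agent.J2TypeAction79
open Cfsg.Agent.J2TypeFour79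

variable {G : Type*} [Group G] [Finite G] {Q : Subgroup G} {z : G} {a : Fin 5 → G}

set_option maxRecDepth 100000 in
theorem three_fix : ∀ σ : Equiv.Perm (Fin 5), σ ^ 3 = 1 → σ ≠ 1 →
    ∃ p q : Fin 5, p ≠ q ∧ σ p = p ∧ σ q = q := by decide +kernel

set_option maxRecDepth 100000 in
theorem three_words_aux : ∀ σ : Equiv.Perm (Fin 5), decide (σ ^ 3 = 1 ∧ σ ≠ 1) = true →
    ∀ p q : Fin 5, decide (p ≠ q ∧ σ p = p ∧ σ q = q) = true → ∀ v : W,
    decide (∀ r, wsig v (σ.symm r) = wsig v r) = true →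
    decide (v = none ∨ v = some ⟨(p, p), le_rfl⟩ ∨ v = some ⟨(q, q), le_rfl⟩ ∨
      ∃ h : p ≤ q, v = some ⟨(p, q), h⟩) = true ∨
    decide (∃ h : q ≤ p, v = some ⟨(q, p), h⟩) = true := by decide +kernel

set_option maxRecDepth 100000 in
theorem three_cent : ∀ σ : Equiv.Perm (Fin 5), σ ^ 3 = 1 → σ ≠ 1 → ∀ π : Equiv.Perm (Fin 5),
    Equiv.Perm.sign π = 1 → π * σ = σ * π → π = 1 ∨ π = σ ∨ π = σ ^ 2 := by decide +kernel

set_option maxRecDepth 100000 in
theorem three_inv_aux : ∀ σ : Equiv.Perm (Fin 5), decide (σ ^ 3 = 1 ∧ σ ≠ 1) = true →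
    ∃ π : Equiv.Perm (Fin 5),
      decide (Equiv.Perm.sign π = 1 ∧ π * π = 1 ∧ σ * π * σ = π) = true := by decide +kernel

theorem three_inv (σ : Equiv.Perm (Fin 5)) (h3 : σ ^ 3 = 1) (h1 : σ ≠ 1) :
    ∃ π : Equiv.Perm (Fin 5), Equiv.Perm.sign π = 1 ∧ π * π = 1 ∧ σ * π * σ = π := by
  obtain ⟨π, hπ⟩ := three_inv_aux σ (decide_eq_true ⟨h3, h1⟩)
  exact ⟨π, of_decide_eq_true hπ⟩

/-- `x` has order three, centralises `z` and fixes the points `p ≠ q`. -/
structure Fix3 (z : G) (a : Fin 5 → G) (x : G) (p q : Fin 5) : Prop where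
  ord : orderOf x = 3
  xz : x * z = z * x
  ne : p ≠ q
  cp : x * a p = a p * x
  cq : x * a q = a q * x

section

variable (F : Frame Q z a)
include F

theorem acts_three {x : G} (hx : orderOf x = 3) (hxz : x * z = z * x) :
    ∃ σ, Acts z a x σ ∧ σ ^ 3 = 1 ∧ σ ≠ 1 := by
  have h3 : x ^ 3 = 1 := orderOf_dvd_iff_pow_eq_one.1 (dvd_of_eq hx)
  obtain ⟨σ, hσ⟩ := exists_acts F.hJ F.pts hxz
  refine ⟨σ, hσ, F.acts_eq_one (acts_pow F.hJ F.pts hσ 3) (by rw [h3]; exact Q.one_mem), fun e => ?_⟩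
  have h4 := F.ext.pow_four (F.mem_Q (e ▸ hσ))
  have := orderOf_dvd_of_pow_eq_one h4
  rw [hx] at this
  norm_num at this

theorem exists_fix3 {x : G} (hx : orderOf x = 3) (hxz : x * z = z * x) :
    ∃ p q, Fix3 z a x p q := by
  obtain ⟨σ, hσ, h3, h1⟩ := acts_three F hx hxz
  obtain ⟨p, q, hne, hp, hq⟩ := three_fix σ h3 h1
  have key : ∀ r, σ r = r → x * a r = a r * x := by
    intro r hr
    refine LargeExtraspecialAct.fix_of_fix_mod F.ext (n := 3) (by decide)
      (orderOf_dvd_iff_pow_eq_one.1 (dvd_of_eq hx)) hxz ?_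
    have := hσ.2 r
    rw [hr] at this
    exact this
  exact ⟨p, q, hx, hxz, hne, key p hp, key q hq⟩

end

/-- `C_Q(x)`, generated by the two fixed points. -/
def E (a : Fin 5 → G) (p q : Fin 5) : Subgroup G := closure ({a p, a q} : Set G)

section

variable (F : Frame Q z a) {x : G} {p q : Fin 5} (T : Fix3 z a x p q)
include F T

theorem E_le_Q : E a p q ≤ Q := by
  refine (closure_le _).2 ?_
  rintro w (rfl | rfl)
  exacts [F.pts.mem p, F.pts.mem q]

theorem E_le_cent : E a p q ≤ centralizer ({x} : Set G) := by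
  refine (closure_le _).2 ?_
  rintro w (rfl | rfl)
  exacts [mem_centralizer_singleton_iff.2 T.cp.symm, mem_centralizer_singleton_iff.2 T.cq.symm]

theorem E_le_H : E a p q ≤ centralizer ({z} : Set G) := fun _ hw =>
  mem_centralizer_singleton_iff.2 (F.comm_z (E_le_Q F T hw))

theorem z_mem_E : z ∈ E a p q := by
  rw [← F.pair_sq T.ne]
  have hp : a p ∈ E a p q := subset_closure (by simp)
  have hq : a q ∈ E a p q := subset_closure (by simp)
  exact mul_mem (mul_mem hp hq) (mul_mem hp hq)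

theorem nonempty_E_dihedral : Nonempty (↥(E a p q) ≃* DihedralGroup 4) := by
  have hpq : a p ≠ a q := fun e => by
    have := F.pts.anti p q T.ne
    rw [e, mul_inv_cancel_right] at this
    exact F.ext.z_mul_ne _ this.symm
  have h2 : ∀ r, orderOf (a r) = 2 := fun r =>
    orderOf_eq_prime (by rw [pow_two, F.pts.sq r]) (F.pts.ne r).1
  have h := TwoInvolutions.nonempty_mulEquiv_dihedral (h2 p) (h2 q) hpq
  rwa [show orderOf (a p * a q) = 4 from orderOf_eq_prime_pow (p := 2) (n := 1)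
    (by rw [pow_one, pow_two, F.pair_sq T.ne]; exact F.ext.ne_one)
    (by rw [show 2 ^ (1 + 1) = 2 * 2 from rfl, pow_mul, pow_two (a p * a q), F.pair_sq T.ne, pow_two,
      F.ext.zz])] at h

theorem card_E : Nat.card ↥(E a p q) = 8 := by
  obtain ⟨e⟩ := nonempty_E_dihedral F T
  rw [Nat.card_congr e.toEquiv, DihedralGroup.nat_card]

theorem cent_Q {w : G} (hw : w ∈ Q) (hwx : w * x = x * w) : w ∈ E a p q := by
  obtain ⟨σ, hσ, h3, h1⟩ := acts_three F T.ord T.xz
  have hp : σ p = p := same_inj F.hJ F.pts (hσ.2 p) (Or.inl (mul_inv_eq_iff_eq_mul.2 T.cp))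
  have hq : σ q = q := same_inj F.hJ F.pts (hσ.2 q) (Or.inl (mul_inv_eq_iff_eq_mul.2 T.cq))
  obtain ⟨v, hv⟩ := exists_sig F.hJ F.pts hw
  have h4 := sig_conj F.hJ F.pts hσ hv (F.comm_z hw)
  rw [mul_inv_eq_iff_eq_mul.2 hwx.symm] at h4
  have h5 := congrFun (sig_unique F.hJ F.pts h4 hv)
  have hpE : a p ∈ E a p q := subset_closure (by simp)
  have hqE : a q ∈ E a p q := subset_closure (by simp)
  have hmem : word a v ∈ E a p q := by
    rcases three_words_aux σ (decide_eq_true ⟨h3, h1⟩) p q (decide_eq_true ⟨T.ne, hp, hq⟩) v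
      (decide_eq_true h5) with h | h <;> have h' := of_decide_eq_true h
    · rcases h' with rfl | rfl | rfl | ⟨hle, rfl⟩
      · exact one_mem _
      · simpa [word] using hpE
      · simpa [word] using hqE
      · simpa [word, T.ne] using mul_mem hpE hqE
    · obtain ⟨hle, rfl⟩ := h'
      simpa [word, T.ne.symm] using mul_mem hqE hpE
  rcases eq_word F.hJ F.pts hw hv with e | e <;> rw [e]
  exacts [hmem, mul_mem (z_mem_E F T) hmem]

theorem cent_H {h : G} (hz : h * z = z * h) (hx : h * x = x * h) :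
    ∃ k : ℕ, ∃ e ∈ E a p q, h = x ^ k * e := by
  obtain ⟨σ, hσ, h3, h1⟩ := acts_three F T.ord T.xz
  obtain ⟨π, hπ⟩ := exists_acts F.hJ F.pts hz
  have hc : π * σ = σ * π := by
    refine acts_unique F.hJ F.pts (acts_mul F.hJ F.pts hπ hσ) ?_
    rw [hx]
    exact acts_mul F.hJ F.pts hσ hπ
  have key : ∀ k : ℕ, π = σ ^ k → ∃ e ∈ E a p q, h = x ^ k * e := by
    intro k e
    refine ⟨(x ^ k)⁻¹ * h, cent_Q F T (F.mem_Q ?_) ?_, by group⟩
    · have := acts_mul F.hJ F.pts (acts_inv F.hJ F.pts (acts_pow F.hJ F.pts hσ k)) hπ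
      rwa [e, inv_mul_cancel] at this
    · exact (((Commute.refl x).pow_left k).inv_left.mul_left hx).eq
  rcases three_cent σ h3 h1 π (F.even hπ) hc with e | e | e
  · exact ⟨0, key 0 (by rw [e, pow_zero])⟩
  · exact ⟨1, key 1 (by rw [e, pow_one])⟩
  · exact ⟨2, key 2 e⟩

theorem card_cent : Nat.card ↥(centralizer ({x} : Set G) ⊓ centralizer ({z} : Set G)) = 24 := by
  set S := centralizer ({x} : Set G) ⊓ centralizer ({z} : Set G)
  have hxS : x ∈ S := ⟨mem_centralizer_singleton_iff.2 rfl, mem_centralizer_singleton_iff.2 T.xz⟩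
  obtain ⟨e⟩ := J2TypeNorm79.nonempty_prod (A := zpowers x) (B := E a p q) (N := S) (zpowers_le.2 hxS)
    (le_inf (E_le_cent F T) (E_le_H F T))
    (fun w hw v hv => by
      obtain ⟨n, rfl⟩ := hw
      exact ((show Commute v x from mem_centralizer_singleton_iff.1 (E_le_cent F T hv)).zpow_right n).symm.eq)
    (fun w hw hv => by
      have h1 : orderOf w ∣ 3 := by
        have := orderOf_dvd_natCard (⟨w, hw⟩ : zpowers x)
        rwa [← Subgroup.orderOf_coe, Nat.card_zpowers, T.ord] at this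
      have h2 : orderOf w ∣ 8 := by
        have := orderOf_dvd_natCard (⟨w, hv⟩ : E a p q)
        rwa [← Subgroup.orderOf_coe, card_E F T] at this
      exact orderOf_eq_one_iff.1 (Nat.eq_one_of_dvd_coprimes (by norm_num) h1 h2))
    fun h hh => by
      obtain ⟨k, e, he, rfl⟩ := cent_H F T (mem_centralizer_singleton_iff.1 hh.2)
        (mem_centralizer_singleton_iff.1 hh.1)
      exact ⟨x ^ k, pow_mem (mem_zpowers x) k, e, he, rfl⟩
  rw [Nat.card_congr e.toEquiv, Nat.card_prod, Nat.card_zpowers, T.ord, card_E F T]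

theorem center_E {w : G} (hw : w ∈ E a p q) (hp : w * a p = a p * w) (hq : w * a q = a q * w) :
    w = 1 ∨ w = z := by
  obtain ⟨σ, hσ, h3, h1⟩ := acts_three F T.ord T.xz
  have hsp : σ p = p := same_inj F.hJ F.pts (hσ.2 p) (Or.inl (mul_inv_eq_iff_eq_mul.2 T.cp))
  have hsq : σ q = q := same_inj F.hJ F.pts (hσ.2 q) (Or.inl (mul_inv_eq_iff_eq_mul.2 T.cq))
  have hwQ := E_le_Q F T hw
  have hwx : w * x = x * w := mem_centralizer_singleton_iff.1 (E_le_cent F T hw)
  obtain ⟨v, hv⟩ := exists_sig F.hJ F.pts hwQ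
  have h4 := sig_conj F.hJ F.pts hσ hv (F.comm_z hwQ)
  rw [mul_inv_eq_iff_eq_mul.2 hwx.symm] at h4
  have h5 := congrFun (sig_unique F.hJ F.pts h4 hv)
  have h0 : ∀ r, w * a r = a r * w → wsig v r = false := by
    intro r hr
    by_contra hne
    rw [Bool.not_eq_false] at hne
    have e := hv r
    rw [hne, if_pos rfl, mul_inv_eq_iff_eq_mul.2 hr] at e
    exact F.ext.z_mul_ne _ e.symm
  have hp0 := h0 p hp
  have hq0 := h0 q hq
  have key : v = none := by
    rcases three_words_aux σ (decide_eq_true ⟨h3, h1⟩) p q (decide_eq_true ⟨T.ne, hsp, hsq⟩) v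
      (decide_eq_true h5) with h | h <;> have h' := of_decide_eq_true h
    · rcases h' with rfl | rfl | rfl | ⟨hle, rfl⟩
      · rfl
      · simp [wsig, T.ne.symm] at hq0
      · simp [wsig, T.ne] at hp0
      · simp [wsig, T.ne] at hp0
    · obtain ⟨hle, rfl⟩ := h'
      simp [wsig, T.ne.symm] at hp0
  subst key
  rcases eq_word F.hJ F.pts hwQ hv with e | e
  · exact Or.inl (by simpa [word] using e)
  · exact Or.inr (by simpa [word] using e)

theorem exists_inverter : ∃ h : G, h * z = z * h ∧ h * x * h⁻¹ = x⁻¹ := by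
  haveI : Fact (Nat.Prime 3) := ⟨Nat.prime_three⟩
  obtain ⟨σ, hσ, h3, h1⟩ := acts_three F T.ord T.xz
  obtain ⟨π, hπs, hπ2, hπσ⟩ := three_inv σ h3 h1
  obtain ⟨h₀, hh₀⟩ := F.lift hπs
  let A : Subgroup G := zpowers x
  let X := {h : G // Acts z a h π}
  have hAa : ∀ g : A, ∀ h : X, Acts z a ((g : G) * h.1 * g) π := by
    intro g h
    obtain ⟨n, hn⟩ := g.2
    have key : ∀ n : ℕ, Acts z a (x ^ n * h.1 * x ^ n) π := by
      intro n
      induction n with
      | zero => simpa using h.2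
      | succ n ih =>
        have := acts_mul F.hJ F.pts (acts_mul F.hJ F.pts hσ ih) hσ
        rw [hπσ] at this
        rw [pow_succ']
        convert this using 1
        rw [show x * x ^ n = x ^ n * x from ((Commute.refl x).pow_right n).eq]
        group
    have h5 : (g : G) = x ^ (n % 3).toNat := by
      rw [← hn, ← zpow_natCast, Int.toNat_of_nonneg (Int.emod_nonneg n (by norm_num))]
      show x ^ n = x ^ (n % 3)
      rw [← zpow_mod_orderOf x n, T.ord]
      rfl
    rw [h5]; exact key _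
  letI : MulAction A X :=
    { smul := fun g h => ⟨(g : G) * h.1 * g, hAa g h⟩
      one_smul := fun h => Subtype.ext (by show ((1 : A) : G) * h.1 * ((1 : A) : G) = h.1; simp)
      mul_smul := fun g g' h => Subtype.ext (by
        show ((g * g' : A) : G) * h.1 * ((g * g' : A) : G) = (g : G) * ((g' : G) * h.1 * g') * g
        obtain ⟨m, hm⟩ := g.2
        obtain ⟨n, hn⟩ := g'.2
        rw [Subgroup.coe_mul, ← hm, ← hn]
        show x ^ m * x ^ n * h.1 * (x ^ m * x ^ n) = x ^ m * (x ^ n * h.1 * x ^ n) * x ^ m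
        group) }
  have hA : IsPGroup 3 A := IsPGroup.of_card (n := 1) (by rw [Nat.card_zpowers, T.ord, pow_one])
  have hX : Nat.card X = 32 := by
    rw [← F.hJ.cardQ]
    refine Nat.card_congr
      { toFun := fun h => ⟨h₀⁻¹ * h.1, F.mem_Q (by
          have := acts_mul F.hJ F.pts (acts_inv F.hJ F.pts hh₀) h.2
          rwa [inv_mul_cancel] at this)⟩
        invFun := fun w => ⟨h₀ * (w : G), by
          simpa using acts_mul F.hJ F.pts hh₀ (acts_of_mem F.hJ F.pts w.2)⟩
        left_inv := fun h => Subtype.ext (mul_inv_cancel_left _ _)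
        right_inv := fun w => Subtype.ext (inv_mul_cancel_left _ _) }
  have e := hA.card_modEq_card_fixedPoints X
  rw [hX] at e
  obtain ⟨⟨⟨h, hh⟩, hfix⟩⟩ : Nonempty (MulAction.fixedPoints A X) := by
    refine (Nat.card_pos_iff.1 (Nat.pos_of_ne_zero fun h0 => ?_)).1
    rw [h0] at e
    exact absurd e (by decide)
  have h2 : x * h * x = h := congrArg Subtype.val (hfix ⟨x, mem_zpowers x⟩)
  refine ⟨h, hh.1, ?_⟩
  calc h * x * h⁻¹ = x⁻¹ * (x * h * x) * h⁻¹ := by group
    _ = x⁻¹ := by rw [h2]; group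

/-- All elements of order three of `C(z)` are conjugate there. -/
theorem conj_H {x' : G} (hx' : orderOf x' = 3) (hxz' : x' * z = z * x') :
    ∃ h : G, h * z = z * h ∧ h * x * h⁻¹ = x' := by
  haveI : Fact (Nat.Prime 3) := ⟨Nat.prime_three⟩
  set H := centralizer ({z} : Set G)
  let xc : H := ⟨x, mem_centralizer_singleton_iff.2 T.xz⟩
  let xc' : H := ⟨x', mem_centralizer_singleton_iff.2 hxz'⟩
  have hfac : Nat.card H = 3 * 640 := card_H F.hJ
  have hc : ∀ w : H, orderOf w = 3 → Nat.card (zpowers w) = 3 ^ (Nat.card H).factorization 3 := by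
    intro w hw
    rw [Nat.card_zpowers, hw, hfac, Nat.factorization_def _ Nat.prime_three,
      show (3 * 640 : ℕ) = 3 ^ 1 * 640 by norm_num, padicValNat.mul (by norm_num) (by norm_num),
      padicValNat.prime_pow, padicValNat.eq_zero_of_not_dvd (by norm_num)]
    norm_num
  let S : Sylow 3 H := Sylow.ofCard (zpowers xc) (hc xc (by rw [← Subgroup.orderOf_coe]; exact T.ord))
  let S' : Sylow 3 H := Sylow.ofCard (zpowers xc') (hc xc' (by rw [← Subgroup.orderOf_coe]; exact hx'))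
  obtain ⟨g, hg⟩ := MulAction.exists_smul_eq H S S'
  have hm : xc' ∈ ((g • S : Sylow 3 H) : Subgroup H) := by rw [hg]; exact mem_zpowers xc'
  rw [Sylow.coe_subgroup_smul, Subgroup.mem_pointwise_smul_iff_inv_smul_mem] at hm
  have e : (MulAut.conj g)⁻¹ • xc' = g⁻¹ * xc' * g := by
    rw [← map_inv, MulAut.smul_def, MulAut.conj_apply, inv_inv]
  rw [e] at hm
  obtain ⟨n, hn⟩ := hm
  have hn' : x ^ n = (g : G)⁻¹ * x' * g := congrArg Subtype.val hn
  have h3 : x ^ (n % 3) = x ^ n := by rw [← zpow_mod_orderOf x n, T.ord]; rfl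
  have hgz : (g : G) * z = z * g := mem_centralizer_singleton_iff.1 g.2
  have := Int.emod_nonneg n (show (3 : ℤ) ≠ 0 by norm_num)
  have := Int.emod_lt_of_pos n (show (0 : ℤ) < 3 by norm_num)
  rcases (show n % 3 = 0 ∨ n % 3 = 1 ∨ n % 3 = 2 by omega) with e' | e' | e' <;> rw [e'] at h3
  · exfalso
    rw [zpow_zero, hn'] at h3
    have : x' = 1 := by
      calc x' = g * ((g : G)⁻¹ * x' * g) * (g : G)⁻¹ := by group
        _ = 1 := by rw [← h3]; group
    rw [this, orderOf_one] at hx'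
    omega
  · refine ⟨g, hgz, ?_⟩
    rw [zpow_one, hn'] at h3
    rw [h3]; group
  · obtain ⟨h, hh, hi⟩ := exists_inverter F T
    refine ⟨g * h, ((show Commute (g : G) z from hgz).mul_left hh).eq, ?_⟩
    have e2 : x⁻¹ = x ^ (2 : ℤ) := by
      refine inv_eq_of_mul_eq_one_right ?_
      rw [zpow_two, ← mul_assoc, ← pow_two, ← pow_succ]
      exact orderOf_dvd_iff_pow_eq_one.1 (dvd_of_eq T.ord)
    rw [show (g : G) * h * x * ((g : G) * h)⁻¹ = g * (h * x * h⁻¹) * (g : G)⁻¹ by group, hi, e2, h3,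
      hn']
    group

end

end Cfsg.Agent.J2TypeThreeH79
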