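import Mathlib
import Cfsg.Agent.Lib.PGroupsBasic

/-!
Groups of order `p ^ 4`: derived subgroup versus index of the centre.
-/

set_option autoImplicit false

namespace Cfsg.Agent.PGroupOrderFour80

open Subgroup
open Cfsg.Agent.PGroupsBasic
open scoped commutatorElement

variable {P : Type*} [Group P] [Finite P] {p : ℕ} [hp : Fact p.Prime]

theorem one_lt_index {H : Subgroup P} (h : H ≠ ⊤) (hG : IsPGroup p P) : p ∣ H.index := by
  obtain ⟨k, hk⟩ := hG.index H
  rcases k with _ | k
  · exact absurd (index_eq_one.1 (by simpa using hk)) h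
  · exact hk ▸ dvd_pow_self p k.succ_ne_zero

theorem sup_zpowers_eq_top (hG : IsPGroup p P) {H : Subgroup P} (h : H.index = p) {y : P}
    (hy : y ∉ H) : H ⊔ zpowers y = ⊤ := by
  by_contra hne
  obtain ⟨d, hd⟩ : (H ⊔ zpowers y).index ∣ p := h ▸ index_dvd_of_le le_sup_left
  have h1 := one_lt_index hne hG
  have h2 : (H ⊔ zpowers y).index = p :=
    Nat.dvd_antisymm (h ▸ index_dvd_of_le le_sup_left) h1
  have h3 : H.relIndex (H ⊔ zpowers y) * (H ⊔ zpowers y).index = H.index :=
    relIndex_mul_index le_sup_left
  rw [h2, h] at h3
  have h4 : H.relIndex (H ⊔ zpowers y) = 1 :=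
    Nat.eq_of_mul_eq_mul_right hp.out.pos (h3.trans (one_mul p).symm)
  exact hy (relIndex_eq_one.1 h4 (mem_sup_right (mem_zpowers y)))

theorem comm_of_center_index (hG : IsPGroup p P) (h : (center P).index ≤ p) :
    ∀ a b : P, a * b = b * a := by
  have hle : commutator P ≤ center P :=
    commutator_le_of_index_le_sq hG (h.trans (Nat.le_self_pow two_ne_zero p))
  by_contra hne
  push Not at hne
  obtain ⟨a, b, hab⟩ := hne
  have hne' : center P ≠ ⊤ := fun ht =>
    hab (mem_center_comm (z := b) (ht ▸ mem_top b) a)
  have hi : (center P).index = p := le_antisymm h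
    (Nat.le_of_dvd (Nat.pos_of_ne_zero (index_ne_zero_of_finite)) (one_lt_index hne' hG))
  obtain ⟨y, hy⟩ : ∃ y, y ∉ center P := by
    by_contra hall
    push Not at hall
    exact hne' (eq_top_iff' _ |>.2 hall)
  have htop := sup_zpowers_eq_top hG hi hy
  have : ∀ g : P, g * y = y * g := by
    intro g
    have hle2 : center P ⊔ zpowers y ≤ centralizer ({y} : Set P) := by
      refine sup_le (center_le_centralizer _) ?_
      rw [zpowers_le, mem_centralizer_singleton_iff]
    have := hle2 (htop ▸ mem_top g)
    exact mem_centralizer_singleton_iff.1 this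
  exact hy (mem_center_iff.2 this)

theorem card_commutator_le (hG : IsPGroup p P) (h : (center P).index ≤ p ^ 2) :
    Nat.card (commutator P) ≤ p := by
  rcases le_or_gt (center P).index p with hle | hlt
  · have hbot : commutator P = ⊥ := by
      rw [commutator_def, eq_bot_iff, commutator_le]
      intro a _ b _
      exact mem_bot.2 (commutatorElement_eq_one_iff_mul_comm.2 (comm_of_center_index hG hle a b))
    rw [hbot, card_bot]
    exact hp.out.pos
  have hcl : commutator P ≤ center P := commutator_le_of_index_le_sq hG h
  have hZne : center P ≠ ⊤ := fun ht => by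
    rw [ht, index_top] at hlt
    exact absurd hlt (not_lt.2 hp.out.pos)
  obtain ⟨x, hx⟩ : ∃ x, x ∉ center P := by
    by_contra hall
    push Not at hall
    exact hZne (eq_top_iff' _ |>.2 hall)
  set K := center P ⊔ zpowers x with hK
  have hKne : K ≠ ⊤ := by
    intro htop
    refine hx (mem_center_iff.2 fun g => ?_)
    have hle2 : K ≤ centralizer ({x} : Set P) := by
      refine sup_le (center_le_centralizer _) ?_
      rw [zpowers_le, mem_centralizer_singleton_iff]
    exact mem_centralizer_singleton_iff.1 (hle2 (htop ▸ mem_top g))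
  have hmul : (center P).relIndex K * K.index = (center P).index := relIndex_mul_index le_sup_left
  have hKi : p ≤ K.index :=
    Nat.le_of_dvd (Nat.pos_of_ne_zero index_ne_zero_of_finite) (one_lt_index hKne hG)
  have hrle : (center P).relIndex K ≤ p := by
    refine Nat.le_of_mul_le_mul_right (c := K.index) ?_ (hp.out.pos.trans_le hKi)
    calc (center P).relIndex K * K.index ≤ p ^ 2 := hmul.le.trans h
      _ = p * p := sq p
      _ ≤ p * K.index := Nat.mul_le_mul_left p hKi
  have hrne : (center P).relIndex K ≠ 1 := fun h1 =>
    hx (relIndex_eq_one.1 h1 (mem_sup_right (mem_zpowers x)))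
  have hrp : p ∣ (center P).relIndex K := by
    have : (center P).subgroupOf K ≠ ⊤ := fun ht => hrne (by rw [relIndex, ht, index_top])
    exact one_lt_index this (hG.to_subgroup K)
  have hr : (center P).relIndex K = p := le_antisymm hrle
    (Nat.le_of_dvd (Nat.pos_of_ne_zero (index_ne_zero_of_finite (H := (center P).subgroupOf K))) hrp)
  have hKeq : K.index = p := by
    rw [hr] at hmul
    refine le_antisymm (Nat.le_of_mul_le_mul_left (?_ : p * K.index ≤ p * p) hp.out.pos) hKi
    calc p * K.index ≤ p ^ 2 := hmul.le.trans h
      _ = p * p := sq p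
  have hxp : x ^ p ∈ center P := by
    have := Subgroup.pow_index_mem ((center P).subgroupOf K) ⟨x, mem_sup_right (mem_zpowers x)⟩
    rw [show ((center P).subgroupOf K).index = p from hr] at this
    exact this
  obtain ⟨y, hy⟩ : ∃ y, y ∉ K := by
    by_contra hall
    push Not at hall
    exact hKne (eq_top_iff' _ |>.2 hall)
  set c := ⁅x, y⁆ with hc
  have hcc : c ∈ center P := hcl (commutator_mem_commutator (mem_top x) (mem_top y))
  have hcp : c ^ p = 1 := by
    rw [hc, ← commutatorElement_pow_left hcc, commutatorElement_eq_one_iff_mul_comm]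
    exact (mem_center_iff.1 hxp y).symm
  haveI hN : (zpowers c).Normal := normal_of_le_center (by rwa [zpowers_le])
  have hcomm : commutator P ≤ zpowers c := by
    let q := QuotientGroup.mk' (zpowers c)
    have hqc : q c = 1 := (QuotientGroup.eq_one_iff _).2 (mem_zpowers c)
    have hxy : Commute (q x) (q y) := by
      rw [← commutatorElement_eq_one_iff_commute, ← map_commutatorElement, ← hc, hqc]
    have hcent : ∀ z ∈ center P, ∀ g, Commute (q z) (q g) := fun z hz g => by
      show q z * q g = q g * q z
      rw [← map_mul, ← map_mul, mem_center_iff.1 hz g]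
    have hgen : ∀ g h : P, q g * q h = q h * q g := by
      have hall : ∀ w : P, (∀ z ∈ center P, Commute (q z) (q w)) → Commute (q x) (q w) →
          Commute (q y) (q w) → ∀ g, Commute (q g) (q w) := by
        intro w h1 h2 h3 g
        have hle3 : K ⊔ zpowers y ≤ (centralizer ({q w} : Set (P ⧸ zpowers c))).comap q := by
          refine sup_le (sup_le (fun z hz => ?_) ?_) ?_
          · rw [mem_comap, mem_centralizer_singleton_iff]; exact (h1 z hz).eq
          · rw [zpowers_le, mem_comap, mem_centralizer_singleton_iff]; exact h2.eq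
          · rw [zpowers_le, mem_comap, mem_centralizer_singleton_iff]; exact h3.eq
        have := hle3 ((sup_zpowers_eq_top hG hKeq hy).symm ▸ mem_top g)
        rw [mem_comap, mem_centralizer_singleton_iff] at this
        exact this
      intro g h
      refine hall h (fun z hz => hcent z hz h) ?_ ?_ g
      · exact (hall x (fun z hz => hcent z hz x) (Commute.refl _) hxy.symm h).symm
      · exact (hall y (fun z hz => hcent z hz y) hxy (Commute.refl _) h).symm
    rw [commutator_def, commutator_le]
    intro a _ b _
    refine (QuotientGroup.eq_one_iff _).1 ?_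
    show q ⁅a, b⁆ = 1
    rw [map_commutatorElement, commutatorElement_eq_one_iff_mul_comm]
    exact hgen a b
  calc Nat.card (commutator P) ≤ Nat.card (zpowers c) := Subgroup.card_le_of_le hcomm
    _ = orderOf c := Nat.card_zpowers c
    _ ≤ p := orderOf_le_of_pow_eq_one hp.out.pos hcp

theorem center_index_of_card_commutator (hP : Nat.card P = p ^ 4)
    (h : Nat.card (commutator P) = p) : (center P).index = p ^ 2 := by
  have hG : IsPGroup p P := IsPGroup.of_card hP
  have hcl : commutator P ≤ center P := le_center_of_card_eq_prime hG h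
  have hlow : p ^ 2 ≤ (center P).index := by
    by_contra hlt
    push Not at hlt
    obtain ⟨k, hk⟩ := hG.index (center P)
    rw [hk] at hlt
    have hk2 : k < 2 := (Nat.pow_lt_pow_iff_right hp.out.one_lt).1 hlt
    have hle : (center P).index ≤ p := by
      rw [hk]; exact (Nat.pow_le_pow_right hp.out.pos (by omega)).trans (pow_one p).le
    have hbot : commutator P = ⊥ := by
      rw [commutator_def, eq_bot_iff, commutator_le]
      intro a _ b _
      exact mem_bot.2 (commutatorElement_eq_one_iff_mul_comm.2 (comm_of_center_index hG hle a b))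
    rw [hbot, card_bot] at h
    exact hp.out.one_lt.ne h
  let f : P → (P →* commutator P) := fun a =>
    MonoidHom.mk' (fun b => ⟨⁅a, b⁆, commutator_mem_commutator (mem_top a) (mem_top b)⟩)
      (fun b c => Subtype.ext (commutatorElement_mul_right_of_central
        (hcl (commutator_mem_commutator (mem_top a) (mem_top c)))))
  have hker : ∀ a b : P, b ∈ (f a).ker ↔ a * b = b * a := fun a b => by
    rw [MonoidHom.mem_ker, ← commutatorElement_eq_one_iff_mul_comm, Subtype.ext_iff]
    rfl
  have hidx : ∀ a, (f a).ker.index ∣ p := fun a => by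
    rw [index_ker]
    exact h ▸ card_subgroup_dvd_card (f a).range
  obtain ⟨x, y, hxy⟩ : ∃ x y : P, x * y ≠ y * x := by
    by_contra hall
    push Not at hall
    have hbot : commutator P = ⊥ := by
      rw [commutator_def, eq_bot_iff, commutator_le]
      intro a _ b _
      exact mem_bot.2 (commutatorElement_eq_one_iff_mul_comm.2 (hall a b))
    rw [hbot, card_bot] at h
    exact hp.out.one_lt.ne h
  set A := (f x).ker with hA
  set D := A ⊓ (f y).ker with hD
  have hyA : y ∉ A := fun hm => hxy ((hker x y).1 hm)
  have hxA : x ∈ A := (hker x x).2 rfl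
  have hxD : x ∉ D := fun hm => hxy ((hker y x).1 hm.2).symm
  have hAi : A.index = p :=
    Nat.dvd_antisymm (hidx x) (one_lt_index (fun ht => hyA (ht ▸ mem_top y)) hG)
  have hDi : D.index ≤ p ^ 2 := index_inf_le.trans (by
    rw [hAi, sq]
    exact Nat.mul_le_mul_left p (Nat.le_of_dvd hp.out.pos (hidx y)))
  have hmul : D.relIndex A * A.index = D.index := relIndex_mul_index inf_le_left
  have hDrel : p ∣ D.relIndex A := by
    refine one_lt_index (H := D.subgroupOf A) (fun ht => hxD ?_) (hG.to_subgroup A)
    exact (subgroupOf_eq_top.1 ht) hxA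
  have hrel : D.relIndex A = p := by
    refine le_antisymm ?_ (Nat.le_of_dvd (Nat.pos_of_ne_zero
      (index_ne_zero_of_finite (H := D.subgroupOf A))) hDrel)
    refine Nat.le_of_mul_le_mul_right (c := p) ?_ hp.out.pos
    rw [← sq]; rw [hAi] at hmul; exact hmul.le.trans hDi
  have hDeq : D.index = p ^ 2 := by rw [← hmul, hrel, hAi, sq]
  have hDcard : Nat.card D = p ^ 2 := by
    have := Subgroup.card_mul_index D
    rw [hDeq, hP, show p ^ 4 = p ^ 2 * p ^ 2 by ring] at this
    exact Nat.eq_of_mul_eq_mul_right (pow_pos hp.out.pos 2) this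
  have hDab : IsMulCommutative D :=
    IsPGroup.isMulCommutative_of_card_eq_prime_sq hDcard
  have hDA : D ⊔ zpowers x = A := by
    have hle : D ⊔ zpowers x ≤ A := sup_le inf_le_left (by rwa [zpowers_le])
    refine le_antisymm hle ?_
    have h2 : D.relIndex (D ⊔ zpowers x) * (D ⊔ zpowers x).relIndex A = D.relIndex A :=
      relIndex_mul_relIndex _ _ _ le_sup_left hle
    have h3 : p ∣ D.relIndex (D ⊔ zpowers x) := by
      refine one_lt_index (H := D.subgroupOf _) (fun ht => hxD ?_) (hG.to_subgroup _)
      exact (subgroupOf_eq_top.1 ht) (mem_sup_right (mem_zpowers x))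
    obtain ⟨m, hm⟩ := h3
    rw [hm, hrel, mul_assoc] at h2
    have : m * (D ⊔ zpowers x).relIndex A = 1 :=
      Nat.eq_of_mul_eq_mul_left hp.out.pos (h2.trans (mul_one p).symm)
    exact relIndex_eq_one.1 (Nat.eq_one_of_mul_eq_one_left this)
  have hDZ : D ≤ center P := by
    intro w hw
    have hle : D ⊔ zpowers x ⊔ zpowers y ≤ centralizer ({w} : Set P) := by
      refine sup_le (sup_le (fun d hd => ?_) ?_) ?_
      · rw [mem_centralizer_singleton_iff]
        exact comm_of_isMulCommutative hDab hd hw
      · rw [zpowers_le, mem_centralizer_singleton_iff]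
        exact (hker x w).1 hw.1
      · rw [zpowers_le, mem_centralizer_singleton_iff]
        exact (hker y w).1 hw.2
    rw [hDA, sup_zpowers_eq_top hG hAi hyA] at hle
    exact mem_center_iff.2 fun g => mem_centralizer_singleton_iff.1 (hle (mem_top g))
  refine le_antisymm ?_ hlow
  rw [← hDeq]
  exact Nat.le_of_dvd (Nat.pos_of_ne_zero index_ne_zero_of_finite) (index_dvd_of_le hDZ)

theorem card_commutator_eq_prime_iff (hP : Nat.card P = p ^ 4) :
    Nat.card (commutator P) = p ↔ (center P).index = p ^ 2 := by
  refine ⟨center_index_of_card_commutator hP, fun h => ?_⟩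
  have hG : IsPGroup p P := IsPGroup.of_card hP
  refine le_antisymm (card_commutator_le hG h.le) ?_
  obtain ⟨k, hk⟩ := IsPGroup.iff_card.1 (hG.to_subgroup (commutator P))
  rcases k with _ | k
  · have hbot : commutator P = ⊥ := Subgroup.card_eq_one.1 (by simpa using hk)
    have htop : center P = ⊤ := eq_top_iff' _ |>.2 fun b => mem_center_iff.2 fun a => by
      have := commutator_mem_commutator (mem_top a) (mem_top b)
      rw [← commutator_def, hbot, mem_bot] at this
      exact commutatorElement_eq_one_iff_mul_comm.1 this
    rw [htop, index_top] at h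
    exact absurd h.symm (Nat.one_lt_pow two_ne_zero hp.out.one_lt).ne'
  · rw [hk]; exact Nat.le_self_pow k.succ_ne_zero p

theorem class_eq_three_iff (hP : Nat.card P = p ^ 4) :
    (commutator P).index = p ^ 2 ↔ Group.nilpotencyClass P = 3 := by
  have hG : IsPGroup p P := IsPGroup.of_card hP
  have : Group.IsNilpotent P := hG.isNilpotent
  have hcard : Nat.card (commutator P) * (commutator P).index = p ^ 4 := by
    rw [Subgroup.card_mul_index, hP]
  have h2 : (⊤ : Subgroup P).lowerCentralSeries 2 = ⁅commutator P, (⊤ : Subgroup P)⁆ := by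
    rw [Subgroup.lowerCentralSeries_succ, Subgroup.top_lowerCentralSeries_one]
  have hcl : Group.nilpotencyClass P ≤ 2 ↔ commutator P ≤ center P := by
    rw [← Subgroup.lowerCentralSeries_eq_bot_iff_nilpotencyClass_le, h2,
      Subgroup.commutator_eq_bot_iff_le_centralizer, coe_top, centralizer_univ]
  constructor
  · intro h
    have hc2 : Nat.card (commutator P) = p ^ 2 := by
      rw [h, show p ^ 4 = p ^ 2 * p ^ 2 by ring] at hcard
      exact Nat.eq_of_mul_eq_mul_right (pow_pos hp.out.pos 2) hcard
    have hnot : ¬ Group.nilpotencyClass P ≤ 2 := by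
      intro hle
      have hz : commutator P ≤ center P := hcl.1 hle
      have hi : (center P).index ≤ p ^ 2 := h ▸
        Nat.le_of_dvd (Nat.pos_of_ne_zero index_ne_zero_of_finite) (index_dvd_of_le hz)
      have := card_commutator_le hG hi
      rw [hc2, sq] at this
      exact absurd this (not_le.2 (lt_mul_self hp.out.one_lt))
    have hle3 : Group.nilpotencyClass P ≤ 3 := by
      rw [← Subgroup.lowerCentralSeries_eq_bot_iff_nilpotencyClass_le, Subgroup.lowerCentralSeries_succ, h2,
        Subgroup.commutator_eq_bot_iff_le_centralizer, coe_top, centralizer_univ]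
      have hne : commutator P ≠ ⊥ := fun hb => by
        rw [hb, card_bot] at hc2
        exact (Nat.one_lt_pow two_ne_zero hp.out.one_lt).ne hc2
      set K := commutator P ⊓ center P with hK
      have hKb : K ≠ ⊥ := inf_center_ne_bot hG hne
      have : K.Normal := normal_of_le_center inf_le_right
      have hq : (commutator P).map (QuotientGroup.mk' K) ≤ center (P ⧸ K) := by
        have : ((commutator P).map (QuotientGroup.mk' K)).Normal :=
          Subgroup.Normal.map inferInstance _ (QuotientGroup.mk'_surjective K)
        have hrel : Nat.card ((commutator P).map (QuotientGroup.mk' K)) = K.relIndex (commutator P) := by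
          rw [← relIndex_ker, QuotientGroup.ker_mk']
        have hmul : K.relIndex (commutator P) * Nat.card K = p ^ 2 := by
          rw [← hc2, ← relIndex_bot_left, ← relIndex_bot_left, mul_comm,
            relIndex_mul_relIndex _ _ _ bot_le inf_le_left]
        obtain ⟨a, ha, hae⟩ := (Nat.dvd_prime_pow hp.out).1
          (⟨_, by rw [mul_comm, hmul]⟩ : Nat.card K ∣ p ^ 2)
        have ha1 : 1 ≤ a := by
          rcases a with _ | a
          · exact absurd (Subgroup.card_eq_one.1 (by simpa using hae)) hKb
          · omega
        interval_cases a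
        · refine le_center_of_card_eq_prime (hG.to_quotient K) ?_
          rw [hrel]
          rw [hae, pow_one, sq] at hmul
          exact Nat.eq_of_mul_eq_mul_right hp.out.pos hmul
        · have : Nat.card ((commutator P).map (QuotientGroup.mk' K)) = 1 := by
            rw [hrel]
            rw [hae] at hmul
            exact Nat.eq_of_mul_eq_mul_right (pow_pos hp.out.pos 2) (hmul.trans (one_mul _).symm)
          rw [Subgroup.card_eq_one.1 this]
          exact bot_le
      rw [commutator_le]
      intro a ha b _
      have := mem_center_iff.1 (hq (mem_map_of_mem _ ha)) (QuotientGroup.mk' K b)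
      have h1 : (QuotientGroup.mk' K) ⁅a, b⁆ = 1 := by
        rw [map_commutatorElement, commutatorElement_eq_one_iff_mul_comm]
        exact this.symm
      exact ((QuotientGroup.eq_one_iff _).1 h1).2
    omega
  · intro h
    have hnz : ¬ commutator P ≤ center P := fun hz => by
      have := hcl.2 hz; omega
    obtain ⟨a, ha⟩ := IsPGroup.iff_card.1 (hG.to_subgroup (commutator P))
    have ha2 : 2 ≤ a := by
      by_contra hlt
      apply hnz
      rcases a with _ | _ | a
      · rw [Subgroup.card_eq_one.1 (ha.trans (pow_zero p))]; exact bot_le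
      · exact le_center_of_card_eq_prime hG (by simpa using ha)
      · omega
    obtain ⟨N, hN, hNc⟩ : ∃ N : Subgroup P, N.Normal ∧ Nat.card N = p ^ 2 := by
      obtain ⟨N, hN, -, hNc⟩ := exists_normal_card_pow hG ⊤ 2 (by
        rw [Subgroup.card_top, hP]; exact Nat.pow_le_pow_right hp.out.pos (by norm_num))
      exact ⟨N, hN, hNc⟩
    have hNi : N.index = p ^ 2 := by
      have := Subgroup.card_mul_index N
      rw [hNc, hP, show p ^ 4 = p ^ 2 * p ^ 2 by ring] at this
      exact Nat.eq_of_mul_eq_mul_left (pow_pos hp.out.pos 2) this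
    have := hN
    have hle : Nat.card (commutator P) ≤ p ^ 2 :=
      hNc ▸ Subgroup.card_le_of_le (commutator_le_of_index_le_sq hG hNi.le)
    have : Nat.card (commutator P) = p ^ 2 :=
      le_antisymm hle (ha ▸ Nat.pow_le_pow_right hp.out.pos ha2)
    rw [this, show p ^ 4 = p ^ 2 * p ^ 2 by ring] at hcard
    exact Nat.eq_of_mul_eq_mul_left (pow_pos hp.out.pos 2) hcard

end Cfsg.Agent.PGroupOrderFour80
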