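import Mathlib
import Cfsg.Prelude
import Cfsg.Agent.Lib.PGroupsBasic
import Cfsg.Agent.Lib.PGroupsCritical
import Cfsg.Agent.Lib.PGroupsCyclic
import Cfsg.Agent.Lib.PGroupsExtraspecial
import Cfsg.Agent.Lib.ClassTwoPow
import Cfsg.Agent.Lib.PGroupOrderFour80
import Cfsg.Agent.Lib.AbelianTwoGen88

/-!
Groups of order `p ^ 4`: the alternatives needed for essential subgroups.
-/

set_option autoImplicit false

namespace Cfsg.Agent.OrderFourGroups88

open Subgroup
open Cfsg Cfsg.Agent
open scoped commutatorElement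

section Abelian

variable {G : Type*} [CommGroup G] [Finite G] {p : ℕ} [hp : Fact p.Prime]

/-- Abelian groups of order `p ^ 4` with Frattini subgroup of order `p`. -/
theorem abelian_rank_three (hG : Nat.card G = p ^ 4) (hfr : Nat.card (frattini G) = p) :
    Nonempty (G ≃* Multiplicative (ZMod (p ^ 2) × ZMod p × ZMod p)) := by
  have hGp : IsPGroup p G := IsPGroup.of_card hG
  have hrange : Nat.card (powMonoidHom p : G →* G).range = p := by
    rwa [← AbelianTwoGen88.frattini_eq_range hGp]
  have hker : Nat.card (powMonoidHom p : G →* G).ker = p ^ 3 := by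
    have h := (powMonoidHom p : G →* G).ker.card_mul_index
    rw [index_ker, hrange, hG, pow_succ p 3] at h
    exact Nat.eq_of_mul_eq_mul_right hp.out.pos h
  obtain ⟨a, ha⟩ : ∃ a : G, a ^ p ≠ 1 := by
    by_contra! h
    have hb : (powMonoidHom p : G →* G).range = ⊥ :=
      (Subgroup.eq_bot_iff_forall _).2 (by rintro _ ⟨x, rfl⟩; exact h x)
    rw [hb, card_bot] at hrange
    exact hp.out.one_lt.ne hrange
  have ha2 : a ^ p ^ 2 = 1 := by
    rw [sq, pow_mul]
    exact PGroupsBasic.pow_eq_one_of_card hrange ⟨a, rfl⟩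
  have hap : orderOf (a ^ p) = p :=
    PGroupsBasic.orderOf_eq_of_pow_eq_one (by rwa [← pow_mul, ← sq]) ha
  set Ω₁ := (powMonoidHom p : G →* G).ker with hΩ
  have hapΩ : zpowers (a ^ p) ≤ Ω₁ := zpowers_le.2 (show (a ^ p) ^ p = 1 by rwa [← pow_mul, ← sq])
  obtain ⟨b, hbΩ, hb⟩ : ∃ b ∈ Ω₁, b ∉ zpowers (a ^ p) := by
    refine SetLike.not_le_iff_exists.1 fun h => ?_
    have := Subgroup.card_le_of_le h
    rw [hker, Nat.card_zpowers, hap] at this
    exact absurd this (Nat.not_le.2 (by simpa using Nat.pow_lt_pow_right hp.out.one_lt (show 1 < 3 by norm_num)))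
  have hbo : orderOf b = p :=
    PGroupsBasic.orderOf_eq_of_pow_eq_one hbΩ fun h => hb (h ▸ one_mem _)
  set B := zpowers (a ^ p) ⊔ zpowers b with hB
  have hBc : Nat.card B = p ^ 2 := by
    rw [hB, PGroupsBasic.card_sup_zpowers hbo hb, Nat.card_zpowers, hap, sq]
  obtain ⟨c, hcΩ, hc⟩ : ∃ c ∈ Ω₁, c ∉ B := by
    refine SetLike.not_le_iff_exists.1 fun h => ?_
    have := Subgroup.card_le_of_le h
    rw [hker, hBc] at this
    exact absurd this (Nat.not_le.2 (Nat.pow_lt_pow_right hp.out.one_lt (by norm_num)))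
  have hco : orderOf c = p :=
    PGroupsBasic.orderOf_eq_of_pow_eq_one hcΩ fun h => hc (h ▸ one_mem _)
  have hCeq : B ⊔ zpowers c = Ω₁ := by
    refine eq_of_le_of_card_ge (sup_le (sup_le hapΩ (zpowers_le.2 hbΩ)) (zpowers_le.2 hcΩ)) ?_
    rw [hker, PGroupsBasic.card_sup_zpowers hco hc, hBc, pow_succ p 2]
  have hbp : b ^ p = 1 := hbΩ
  have hcp : c ^ p = 1 := hcΩ
  let f : Multiplicative (ZMod (p ^ 2) × ZMod p × ZMod p) →* G :=
    AddMonoidHom.toMultiplicativeLeft ((AbelianTwoGen88.zmodPow a _ ha2).coprod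
      ((AbelianTwoGen88.zmodPow b _ hbp).coprod (AbelianTwoGen88.zmodPow c _ hcp)))
  have hfa : a ∈ f.range := ⟨Multiplicative.ofAdd (1, 0, 0), by
    simp [f, AddMonoidHom.toMultiplicativeLeft, AbelianTwoGen88.zmodPow_one]⟩
  have hfb : b ∈ f.range := ⟨Multiplicative.ofAdd (0, 1, 0), by
    simp [f, AddMonoidHom.toMultiplicativeLeft, AbelianTwoGen88.zmodPow_one]⟩
  have hfc : c ∈ f.range := ⟨Multiplicative.ofAdd (0, 0, 1), by
    simp [f, AddMonoidHom.toMultiplicativeLeft, AbelianTwoGen88.zmodPow_one]⟩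
  have hidx : Ω₁.index = p := by rw [hΩ, index_ker, hrange]
  have hsurj : Function.Surjective f := by
    rw [← MonoidHom.range_eq_top, eq_top_iff,
      ← PGroupOrderFour80.sup_zpowers_eq_top hGp hidx (show a ∉ Ω₁ from ha)]
    refine sup_le ?_ (zpowers_le.2 hfa)
    rw [← hCeq]
    exact sup_le (sup_le (zpowers_le.2 (pow_mem hfa p)) (zpowers_le.2 hfb)) (zpowers_le.2 hfc)
  haveI : NeZero p := ⟨hp.out.ne_zero⟩
  haveI : NeZero (p ^ 2) := ⟨pow_ne_zero _ hp.out.ne_zero⟩
  have hcard : Nat.card (Multiplicative (ZMod (p ^ 2) × ZMod p × ZMod p)) = Nat.card G := by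
    rw [hG, Nat.card_congr Multiplicative.toAdd, Nat.card_prod, Nat.card_prod, Nat.card_zmod,
      Nat.card_zmod]
    ring
  exact ⟨(MulEquiv.ofBijective f ((Nat.bijective_iff_surjective_and_card f).2 ⟨hsurj, hcard⟩)).symm⟩

end Abelian

variable {G : Type*} [Group G] [Finite G] {p : ℕ} [hp : Fact p.Prime]

theorem index_frattini_ge (hG : IsPGroup p G) (hnc : ¬ IsMulCommutative G) :
    p ^ 2 ≤ (frattini G).index := by
  classical
  haveI := Fintype.ofFinite G
  obtain ⟨T, -, hT, hTc⟩ := PGroupsBasic.exists_basis_subset hG (Finset.univ : Finset G) (by simp)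
  rw [← hT]
  refine Nat.pow_le_pow_right hp.out.pos ?_
  by_contra h
  obtain ⟨x, hx⟩ := Finset.card_le_one_iff_subset_singleton.1 (show T.card ≤ 1 by omega)
  have htop : zpowers x = ⊤ := by
    rw [zpowers_eq_closure, eq_top_iff, ← hTc]
    exact closure_mono fun y hy => by simpa using hx hy
  refine hnc ⟨⟨fun u v => ?_⟩⟩
  obtain ⟨i, rfl⟩ : u ∈ zpowers x := htop ▸ mem_top u
  obtain ⟨j, rfl⟩ : v ∈ zpowers x := htop ▸ mem_top v
  exact (Commute.zpow_zpow_self x i j).eq

theorem center_index_ge (hG : IsPGroup p G) (hnc : ¬ IsMulCommutative G) :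
    p ^ 2 ≤ (center G).index := by
  obtain ⟨n, hn⟩ := hG.index (center G)
  rw [hn]
  refine Nat.pow_le_pow_right hp.out.pos ?_
  by_contra h
  exact hnc ⟨⟨PGroupOrderFour80.comm_of_center_index hG
    (hn.trans_le ((Nat.pow_le_pow_right hp.out.pos (show n ≤ 1 by omega)).trans_eq (pow_one p)))⟩⟩

theorem card_center_le (hG : IsPGroup p G) (hnc : ¬ IsMulCommutative G) {n : ℕ}
    (hc : Nat.card G = p ^ (n + 2)) : Nat.card (center G) ≤ p ^ n := by
  have h := center_index_ge hG hnc
  refine Nat.le_of_mul_le_mul_right ?_ (pow_pos hp.out.pos 2)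
  calc Nat.card (center G) * p ^ 2 ≤ Nat.card (center G) * (center G).index :=
        Nat.mul_le_mul_left _ h
    _ = p ^ n * p ^ 2 := by rw [card_mul_index, hc, pow_add]

theorem card_center_ge (hG : IsPGroup p G) (hnc : ¬ IsMulCommutative G) :
    p ≤ Nat.card (center G) := by
  haveI : Nontrivial G := by
    by_contra h
    rw [not_nontrivial_iff_subsingleton] at h
    exact hnc ⟨⟨fun a b => Subsingleton.elim _ _⟩⟩
  haveI := hG.center_nontrivial
  obtain ⟨n, hn⟩ := IsPGroup.iff_card.1 (hG.to_subgroup (center G))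
  rw [hn]
  refine Nat.le_self_pow ?_ p
  rintro rfl
  exact (Finite.one_lt_card (α := center G)).ne' (by simpa using hn)

/-- Nonabelian groups of order `p ^ 3` and exponent `p` are extraspecial. -/
theorem extraspecial_of_exponent (hc : Nat.card G = p ^ 3) (hnc : ¬ IsMulCommutative G)
    (hpow : ∀ x : G, x ^ p = 1) : IsExtraspecial p G := by
  have hG : IsPGroup p G := IsPGroup.of_card hc
  have hZ : Nat.card (center G) = p :=
    le_antisymm ((card_center_le hG hnc (n := 1) hc).trans_eq (pow_one p)) (card_center_ge hG hnc)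
  have hle : commutator G ≤ center G := by
    refine PGroupsBasic.commutator_le_of_index_le_sq hG ?_
    have h := (center G).card_mul_index
    rw [hZ, hc, pow_succ' p 2] at h
    exact (Nat.eq_of_mul_eq_mul_left hp.out.pos h).le
  have hcom : commutator G = center G := by
    rcases PGroupsBasic.le_or_inf_eq_bot hZ (H := center G) (K := commutator G) with h | h
    · exact le_antisymm hle h
    · exfalso
      rw [inf_eq_right.2 hle] at h
      refine hnc ⟨⟨fun a b => ?_⟩⟩
      exact commutatorElement_eq_one_iff_mul_comm.1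
        (mem_bot.1 (h ▸ commutator_mem_commutator (mem_top a) (mem_top b)))
  refine ⟨⟨hG, le_antisymm ?_ ?_, hcom⟩, hZ⟩
  · exact PGroupsBasic.frattini_le_of_elementary_quotient (p := p) hle fun x => by
      rw [hpow x]; exact one_mem _
  · exact hcom ▸ PGroupsBasic.commutator_le_frattini hG

/-- Case of a centre of order `p`. -/
theorem middle_of_center_small (hc : Nat.card G = p ^ 4) (hnc : ¬ IsMulCommutative G)
    (hZ : Nat.card (center G) = p) :
    ∃ M : Subgroup G, M.Characteristic ∧ frattini G ≤ M ∧ M.index = p ∧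
      Nat.card (frattini G) = p ^ 2 := by
  have hG : IsPGroup p G := IsPGroup.of_card hc
  have hC1 : Nat.card (commutator G) ≠ p := fun h => by
    have h1 := (center G).card_mul_index
    rw [PGroupOrderFour80.center_index_of_card_commutator hc h, hZ, hc, ← pow_succ'] at h1
    exact absurd (Nat.pow_right_injective hp.out.two_le h1) (by norm_num)
  have hfr : Nat.card (frattini G) ≤ p ^ 2 := by
    refine Nat.le_of_mul_le_mul_right ?_ (pow_pos hp.out.pos 2)
    calc Nat.card (frattini G) * p ^ 2 ≤ Nat.card (frattini G) * (frattini G).index :=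
          Nat.mul_le_mul_left _ (index_frattini_ge hG hnc)
      _ = p ^ 2 * p ^ 2 := by rw [card_mul_index, hc, ← pow_add]
  have hle := PGroupsBasic.commutator_le_frattini hG
  obtain ⟨n, hn⟩ := IsPGroup.iff_card.1 (hG.to_subgroup (commutator G))
  have hn0 : n ≠ 0 := fun h0 => hnc ⟨⟨fun a b => by
    have hb : commutator G = ⊥ := card_eq_one.1 (by simpa [h0] using hn)
    exact commutatorElement_eq_one_iff_mul_comm.1
      (mem_bot.1 (hb ▸ commutator_mem_commutator (mem_top a) (mem_top b)))⟩⟩
  have hn1 : n ≠ 1 := fun h1 => hC1 (by rw [hn, h1, pow_one])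
  have hn2 : n ≤ 2 := (Nat.pow_le_pow_iff_right hp.out.one_lt).1
    (hn ▸ (card_le_of_le hle).trans hfr)
  obtain rfl : n = 2 := by omega
  have hfeq : frattini G = commutator G := (eq_of_le_of_card_ge hle (hn ▸ hfr)).symm
  refine ⟨centralizer (commutator G : Set G), inferInstance, ?_, ?_, by rw [hfeq, hn]⟩
  · rw [hfeq]
    exact PGroupsBasic.le_centralizer_of_isMulCommutative
      (PGroupsBasic.isMulCommutative_of_card_le_sq (hG.to_subgroup _) hn.le)
  · have hne : centralizer (commutator G : Set G) ≠ ⊤ := by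
      intro h
      rw [centralizer_eq_top_iff_subset] at h
      have := card_le_of_le (show commutator G ≤ center G from h)
      rw [hn, hZ] at this
      exact absurd this (Nat.not_le.2 (by nlinarith [hp.out.one_lt]))
    have hZC : center G ≤ commutator G := by
      rcases PGroupsBasic.le_or_inf_eq_bot hZ (H := center G) (K := commutator G) with h | h
      · exact h
      · refine absurd ?_ (PGroupsBasic.inf_center_ne_bot hG (N := commutator G) ?_)
        · rwa [inf_comm]
        · intro hb; rw [hb, card_bot] at hn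
          exact absurd hn.symm (Nat.one_lt_pow two_ne_zero hp.out.one_lt).ne'
    have hcard : Nat.card (commutator G) = Nat.card (center G) * p := by rw [hn, hZ, sq]
    obtain ⟨h, hh, hhZ⟩ := PGroupsCritical.exists_succ_not_le hZC hcard
    have hcent : ∀ g : G, ⁅g, h⁆ ∈ center G := fun g =>
      PGroupsCritical.commutator_mem_of_succ hG hZC hcard hh g
    let f := PGroupsExtraspecial.commHom h hcent
    have hrange : f.range ≤ center G := by
      rintro _ ⟨g, rfl⟩; exact hcent g
    have hkle : f.ker ≤ centralizer (commutator G : Set G) := by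
      intro g hg
      have hg' : ⁅g, h⁆ = 1 := hg
      have hK : commutator G = center G ⊔ zpowers h := by
        refine (eq_of_le_of_card_ge (sup_le hZC (zpowers_le.2 hh)) ?_).symm
        rw [hcard]
        obtain ⟨k, hk⟩ := IsPGroup.iff_card.1 (hG.to_subgroup (center G ⊔ zpowers h))
        have h1 : Nat.card (center G) < Nat.card ↥(center G ⊔ zpowers h) :=
          lt_of_le_of_ne (card_le_of_le le_sup_left) fun e => hhZ
            ((eq_of_le_of_card_ge le_sup_left e.ge) ▸ mem_sup_right (mem_zpowers h))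
        rw [hZ, hk] at h1 ⊢
        rw [← sq]
        refine Nat.pow_le_pow_right hp.out.pos ?_
        by_contra hk2
        have h3 : p ^ k ≤ p ^ 1 := Nat.pow_le_pow_right hp.out.pos (by omega)
        rw [pow_one] at h3
        omega
      rw [hK]
      refine mem_centralizer_iff.2 fun u hu => ?_
      obtain ⟨z, hz, w, hw, rfl⟩ := Subgroup.mem_sup_of_normal_left.1 (SetLike.mem_coe.1 hu)
      obtain ⟨i, rfl⟩ := hw
      have hcw : Commute g h := commutatorElement_eq_one_iff_mul_comm.1 hg'
      have hgz : Commute g z := mem_center_iff.1 hz g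
      exact ((hgz.mul_right (hcw.zpow_right i)).eq).symm
    refine le_antisymm ?_ (Nat.le_of_dvd (Nat.pos_of_ne_zero index_ne_zero_of_finite)
      (PGroupOrderFour80.one_lt_index hne hG))
    calc (centralizer (commutator G : Set G)).index ≤ f.ker.index :=
          Nat.le_of_dvd (Nat.pos_of_ne_zero index_ne_zero_of_finite) (index_dvd_of_le hkle)
      _ ≤ p := by rw [index_ker, ← hZ]; exact card_le_of_le hrange

/-- Case of a centre of order `p ^ 2` equal to the Frattini subgroup. -/
theorem middle_of_frattini_big (hc : Nat.card G = p ^ 4)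
    (hC : Nat.card (commutator G) = p) (hfr : Nat.card (frattini G) = p ^ 2) :
    ∃ M : Subgroup G, M.Characteristic ∧ frattini G ≤ M ∧ M.index = p := by
  have hG : IsPGroup p G := IsPGroup.of_card hc
  let f : G →* Abelianization G := (powMonoidHom p).comp Abelianization.of
  have hsur : Function.Surjective (Abelianization.of : G →* Abelianization G) :=
    QuotientGroup.mk'_surjective _
  have hAp : IsPGroup p (Abelianization G) :=
    hG.of_surjective Abelianization.of hsur
  have hmap : (frattini G).map Abelianization.of = f.range := by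
    rw [PGroupsBasic.map_frattini hG hsur,
      AbelianTwoGen88.frattini_eq_range hAp]
    rw [MonoidHom.range_comp, MonoidHom.range_eq_top.2 hsur, ← MonoidHom.range_eq_map]
  have hcard : Nat.card f.range = p := by
    rw [← hmap, ← relIndex_bot_left, ← relIndex_comap, MonoidHom.comap_bot, Abelianization.ker_of]
    exact PGroupsCritical.relIndex_of_succ (PGroupsBasic.commutator_le_frattini hG)
      (by rw [hfr, hC, sq])
  refine ⟨f.ker, characteristic_iff_map_le.2 fun φ => ?_, fun y hy => ?_, by rw [index_ker, hcard]⟩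
  · rintro _ ⟨x, hx, rfl⟩
    have hx' : x ^ p ∈ commutator G := by
      rw [← Abelianization.ker_of, MonoidHom.mem_ker, map_pow]; exact hx
    show (Abelianization.of (φ x)) ^ p = 1
    rw [← map_pow, ← map_pow, ← MonoidHom.mem_ker, Abelianization.ker_of]
    exact (characteristic_iff_map_le.1 inferInstance φ) ⟨_, hx', rfl⟩
  · show (Abelianization.of y) ^ p = 1
    exact PGroupsBasic.pow_eq_one_of_card hcard (hmap ▸ mem_map_of_mem _ hy)

/-- The centre of order `p ^ 2` is elementary when it is not cyclic. -/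
theorem center_pow_eq_one (hZ : Nat.card (center G) = p ^ 2) (hcyc : ¬ IsCyclic (center G))
    {z : G} (hz : z ∈ center G) : z ^ p = 1 := by
  by_contra h
  refine hcyc (isCyclic_of_orderOf_eq_card (⟨z, hz⟩ : center G) ?_)
  rw [hZ, ← Subgroup.orderOf_coe]
  refine orderOf_eq_prime_pow (by simpa using h) ?_
  have := pow_card_eq_one' (G := center G) (x := ⟨z, hz⟩)
  rw [hZ] at this
  exact congrArg Subtype.val this

/-- Splitting off a central factor of order `p`. -/
theorem split_central (hc : Nat.card G = p ^ 4) (hC : Nat.card (commutator G) = p)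
    (hfr : Nat.card (frattini G) = p) (hZ : Nat.card (center G) = p ^ 2)
    (hcyc : ¬ IsCyclic (center G)) {a b : G} (hab : a * b ≠ b * a) :
    Nat.card (closure ({a, b} : Set G)) = p ^ 3 ∧
      Nonempty (G ≃* closure ({a, b} : Set G) × Multiplicative (ZMod p)) := by
  classical
  have hG : IsPGroup p G := IsPGroup.of_card hc
  set E := closure ({a, b} : Set G) with hE
  have haE : a ∈ E := subset_closure (by simp)
  have hbE : b ∈ E := subset_closure (by simp)
  have hEnc : ¬ IsMulCommutative E := fun h =>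
    hab (congrArg Subtype.val (h.is_comm.comm (⟨a, haE⟩ : E) ⟨b, hbE⟩))
  have hEtop : E ≠ ⊤ := by
    intro h
    have h1 := PGroupsBasic.pow_card_ge_index_frattini hG {a, b} (by simpa [hE] using h)
    have h2 : (frattini G).index = p ^ 3 := by
      have h := (frattini G).card_mul_index
      rw [hfr, hc, pow_succ' p 3] at h
      exact Nat.eq_of_mul_eq_mul_left hp.out.pos h
    rw [h2] at h1
    have := ((Nat.pow_le_pow_iff_right hp.out.one_lt).1 h1).trans Finset.card_le_two
    omega
  have hEc : Nat.card E = p ^ 3 := by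
    obtain ⟨n, hn⟩ := IsPGroup.iff_card.1 (hG.to_subgroup E)
    have h1 : 2 < n := by
      by_contra h
      exact hEnc (PGroupsBasic.isMulCommutative_of_card_le_sq (hG.to_subgroup E)
        (hn.trans_le (Nat.pow_le_pow_right hp.out.pos (by omega))))
    have h2 : n < 4 := by
      by_contra h
      refine hEtop (eq_top_of_le_card E ?_)
      rw [hc, hn]; exact Nat.pow_le_pow_right hp.out.pos (by omega)
    rw [hn, show n = 3 by omega]
  refine ⟨hEc, ?_⟩
  have hCZ : commutator G ≤ center G := PGroupsBasic.le_center_of_card_eq_prime hG hC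
  obtain ⟨c, hcZ, hcC⟩ := PGroupsCritical.exists_succ_not_le hCZ (by rw [hZ, hC, sq])
  have hcp : c ^ p = 1 := center_pow_eq_one hZ hcyc hcZ
  have hco : orderOf c = p :=
    PGroupsBasic.orderOf_eq_of_pow_eq_one hcp fun h => hcC (h ▸ one_mem _)
  have hcE : c ∉ E := by
    intro hcE
    have hEp : IsPGroup p E := hG.to_subgroup E
    have hZE : Nat.card (center E) ≤ p := by
      simpa using card_center_le hEp hEnc (n := 1) hEc
    have hz : (⟨⁅a, b⁆, mul_mem (mul_mem (mul_mem haE hbE) (inv_mem haE)) (inv_mem hbE)⟩ : E) ∈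
        center E := mem_center_iff.2 fun g => Subtype.ext
      (mem_center_iff.1 (hCZ (commutator_mem_commutator (mem_top a) (mem_top b))) g)
    have hcz : (⟨c, hcE⟩ : E) ∈ center E := mem_center_iff.2 fun g => Subtype.ext
      (mem_center_iff.1 hcZ g)
    have hne : ⁅a, b⁆ ≠ 1 := fun h => hab (commutatorElement_eq_one_iff_mul_comm.1 h)
    have hzo : orderOf ⁅a, b⁆ = p := PGroupsBasic.orderOf_eq_of_pow_eq_one
      (PGroupsBasic.pow_eq_one_of_card hC (commutator_mem_commutator (mem_top a) (mem_top b))) hne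
    have heq := eq_of_le_of_card_ge (zpowers_le.2 hz) (by
      rw [Nat.card_zpowers, ← Subgroup.orderOf_coe, hzo]; exact hZE)
    rw [← heq] at hcz
    obtain ⟨i, hi⟩ := hcz
    refine hcC ?_
    have : ⁅a, b⁆ ^ i = c := congrArg Subtype.val hi
    exact this ▸ zpow_mem (commutator_mem_commutator (mem_top a) (mem_top b)) i
  have hcomm : ∀ (x : E) (y : zpowers c), Commute (E.subtype x) ((zpowers c).subtype y) :=
    fun x y => mem_center_iff.1 (zpowers_le.2 hcZ y.2) x
  let f : E × zpowers c →* G := MonoidHom.noncommCoprod E.subtype (zpowers c).subtype hcomm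
  have hinj : Function.Injective f := by
    rw [← MonoidHom.ker_eq_bot_iff, eq_bot_iff]
    rintro ⟨x, y⟩ h
    have h' : (x : G) * y = 1 := h
    have hy : (y : G) ∈ E := by rw [eq_inv_of_mul_eq_one_right h']; exact inv_mem x.2
    have hy1 : (y : G) = 1 := by
      have : (y : G) ∈ E ⊓ zpowers c := ⟨hy, y.2⟩
      rwa [PGroupsBasic.inf_zpowers_eq_bot hco hcE, mem_bot] at this
    rw [hy1, mul_one] at h'
    exact mem_bot.2 (Prod.ext (Subtype.ext h') (Subtype.ext hy1))
  have hbij : Function.Bijective f := (Nat.bijective_iff_injective_and_card f).2 ⟨hinj, by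
    rw [Nat.card_prod, hEc, Nat.card_zpowers, hco, hc, ← pow_succ]⟩
  exact ⟨(MulEquiv.ofBijective f hbij).symm.trans (MulEquiv.prodCongr (MulEquiv.refl E)
    (mulEquivOfPrimeCardEq (p := p) (by rw [Nat.card_zpowers, hco])
      (by rw [Nat.card_congr Multiplicative.toAdd, Nat.card_zmod])))⟩

/-- For odd `p`: `p`-th powers inside a central commutator subgroup of order `p`. -/
theorem middle_of_exponent_sq (hC : Nat.card (commutator G) = p)
    (hZ : Nat.card (center G) = p ^ 2) (hcyc : ¬ IsCyclic (center G)) (hp2 : p ≠ 2)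
    (hG : IsPGroup p G) (hpow : ∀ x : G, x ^ p ∈ commutator G) (hex : ∃ x : G, x ^ p ≠ 1) :
    ∃ M : Subgroup G, M.Characteristic ∧ center G ≤ M ∧ M.index = p := by
  have hCZ : commutator G ≤ center G := PGroupsBasic.le_center_of_card_eq_prime hG hC
  let f : G →* G := MonoidHom.mk' (fun x => x ^ p) fun x y => by
    have hxy : ⁅y, x⁆ ∈ commutator G := commutator_mem_commutator (mem_top y) (mem_top x)
    exact ClassTwoPow.mul_pow_prime_central hp.out hp2 (hCZ hxy)
      (PGroupsBasic.pow_eq_one_of_card hC hxy)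
  refine ⟨f.ker, characteristic_iff_map_le.2 fun φ => ?_, fun z hz =>
    center_pow_eq_one hZ hcyc hz, ?_⟩
  · rintro _ ⟨x, hx, rfl⟩
    show φ x ^ p = 1
    rw [← map_pow, show x ^ p = 1 from hx, map_one]
  · have hne : f.ker ≠ ⊤ := fun h => by
      obtain ⟨x, hx⟩ := hex
      exact hx (show x ∈ f.ker from h ▸ mem_top x)
    refine le_antisymm ?_ (Nat.le_of_dvd (Nat.pos_of_ne_zero index_ne_zero_of_finite)
      (PGroupOrderFour80.one_lt_index hne hG))
    rw [index_ker, ← hC]
    exact card_le_of_le fun _ ⟨x, hx⟩ => hx ▸ hpow x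

/-- Two noncommuting involutions in a group with central derived subgroup of order two: the
elements with nontrivial square generate, with the centre, a subgroup of index two. -/
theorem middle_of_involutions (hc : Nat.card G = 2 ^ 4) (hC : Nat.card (commutator G) = 2)
    (hZ : Nat.card (center G) = 2 ^ 2) (hcyc : ¬ IsCyclic (center G)) {a b : G}
    (hab : a * b ≠ b * a) (ha : a ^ 2 = 1) (hb : b ^ 2 = 1) :
    ∃ M : Subgroup G, M.Characteristic ∧ center G ≤ M ∧ M.index = 2 := by
  haveI : Fact (Nat.Prime 2) := ⟨Nat.prime_two⟩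
  have hG : IsPGroup 2 G := IsPGroup.of_card hc
  have hCZ : commutator G ≤ center G := PGroupsBasic.le_center_of_card_eq_prime hG hC
  set u := a * b with hu
  set K := center G ⊔ zpowers u with hK
  have hu2 : u ^ 2 = ⁅b, a⁆ := by
    rw [hu, ClassTwoPow.mul_pow_central (hCZ (commutator_mem_commutator (mem_top b) (mem_top a))),
      ha, hb]
    simp
  have hu2Z : u ^ 2 ∈ center G :=
    hu2 ▸ hCZ (commutator_mem_commutator (mem_top b) (mem_top a))
  have hu2ne : u ^ 2 ≠ 1 := hu2 ▸ fun h => hab (commutatorElement_eq_one_iff_mul_comm.1 h).symm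
  have huZ : u ∉ center G := fun h => hu2ne (center_pow_eq_one hZ hcyc h)
  have hKcomm : ∀ k ∈ K, Commute k u := by
    intro k hk
    obtain ⟨z, hz, w, hw, rfl⟩ := Subgroup.mem_sup_of_normal_left.1 hk
    obtain ⟨i, rfl⟩ := hw
    have hzu : Commute z u := (mem_center_iff.1 hz u).symm
    exact hzu.mul_left ((Commute.refl u).zpow_left i)
  have haK : a ∉ K := fun h => hab (by
    have h1 : a * (a * b) = a * b * a := hKcomm a h
    rw [mul_assoc a b a] at h1
    exact mul_left_cancel h1)
  have hKi : K.index = 2 := by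
    have hne : K ≠ ⊤ := fun h => haK (h ▸ mem_top a)
    have hlt : center G < K := lt_of_le_of_ne le_sup_left fun h =>
      huZ (h ▸ mem_sup_right (mem_zpowers u))
    obtain ⟨n, hn⟩ := IsPGroup.iff_card.1 (hG.to_subgroup K)
    have h1 : Nat.card (center G) < Nat.card K := lt_of_le_of_ne (card_le_of_le hlt.le)
      fun e => hlt.ne (eq_of_le_of_card_ge hlt.le e.ge)
    have h2 : Nat.card K < Nat.card G :=
      lt_of_le_of_ne (card_le_card_group K) fun e => hne (eq_top_of_card_eq K e)
    rw [hn, hZ] at h1; rw [hn, hc] at h2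
    obtain rfl : n = 3 := by
      have := (Nat.pow_lt_pow_iff_right one_lt_two).1 h1
      have := (Nat.pow_lt_pow_iff_right one_lt_two).1 h2
      omega
    have h3 := K.card_mul_index
    rw [hn, hc] at h3
    omega
  have hsq : ∀ h : G, h ^ 2 ≠ 1 → h ∈ K := by
    intro h hh
    by_contra hnK
    have hk : a * h ∈ K := (mul_mem_iff_of_index_two hKi).2 (iff_of_false haK hnK)
    obtain ⟨z, hz, w, hw, e⟩ := Subgroup.mem_sup_of_normal_left.1 hk
    obtain ⟨i, rfl⟩ := hw
    obtain ⟨j, rfl | rfl⟩ := i.even_or_odd'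
    all_goals
      have hz' : z * u ^ (2 * j) ∈ center G := by
        refine mul_mem hz ?_
        rw [zpow_mul, zpow_ofNat]; exact zpow_mem hu2Z j
      have hh' := center_pow_eq_one hZ hcyc hz'
      have hzc : ∀ g, Commute g (z * u ^ (2 * j)) := fun g => mem_center_iff.1 hz' g
      have haa : a * (a * h) = h := by rw [← mul_assoc, ← pow_two, ha, one_mul]
    · refine hh ?_
      rw [← haa, show a * h = z * u ^ (2 * j) from e.symm, (hzc a).mul_pow, ha, hh', one_mul]
    · refine hh ?_
      have e' : h = b * (z * u ^ (2 * j)) := by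
        rw [← haa, show a * h = z * u ^ (2 * j + 1) from e.symm, zpow_add, zpow_one, ← mul_assoc z,
          ← (hzc u).eq, hu, mul_assoc a b, ← mul_assoc, ← pow_two, ha, one_mul]
      rw [e', (hzc b).mul_pow, hb, hh', one_mul]
  let M := closure {h : G | h ∈ center G ∨ h ^ 2 ≠ 1}
  have hMK : M = K := by
    refine le_antisymm ((closure_le _).2 fun h hh => hh.elim (fun h' => mem_sup_left h') (hsq h)) ?_
    exact sup_le (fun z hz => subset_closure (Or.inl hz))
      (zpowers_le.2 (subset_closure (Or.inr hu2ne)))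
  refine ⟨M, characteristic_iff_map_le.2 fun φ => ?_, fun z hz => subset_closure (Or.inl hz),
    hMK ▸ hKi⟩
  rw [MonoidHom.map_closure, closure_le]
  rintro _ ⟨h, hh, rfl⟩
  refine subset_closure (hh.imp (fun h' => ?_) fun h' => ?_)
  · exact (characteristic_iff_map_le.1 inferInstance φ) ⟨h, h', rfl⟩
  · show φ h ^ 2 ≠ 1
    rw [← map_pow]; exact (map_ne_one_iff φ φ.injective).2 h'

/-- Nonabelian groups of order eight with two noncommuting generators whose squares are the
commutator are quaternion. -/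
theorem quaternion_of_squares {a b : G} {E : Subgroup G} (ha : a ∈ E) (hb : b ∈ E)
    (hE : Nat.card E = 8) (hC : Nat.card (commutator G) = 2) (hab : a * b ≠ b * a)
    (ha2 : a ^ 2 = ⁅b, a⁆) (hb2 : b ^ 2 = ⁅b, a⁆) : Nonempty (E ≃* QuaternionGroup 2) := by
  haveI : Fact (Nat.Prime 2) := ⟨Nat.prime_two⟩
  have hne : ⁅b, a⁆ ≠ 1 := fun h => hab (commutatorElement_eq_one_iff_mul_comm.1 h).symm
  have hz2 : ⁅b, a⁆ ^ 2 = 1 :=
    PGroupsBasic.pow_eq_one_of_card hC (commutator_mem_commutator (mem_top b) (mem_top a))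
  have hoa : orderOf a = 2 * 2 := by
    refine orderOf_eq_prime_pow (p := 2) (n := 1) ?_ ?_
    · rw [pow_one, ha2]; exact hne
    · rw [show 2 ^ (1 + 1) = 2 * 2 from rfl, pow_mul, ha2, hz2]
  refine PGroupsCyclic.nonempty_mulEquiv_quaternion (N := 2) (x := (⟨a, ha⟩ : E))
    (y := ⟨b, hb⟩) ?_ ?_ ?_ ?_ (by rw [hE])
  · rw [← Subgroup.orderOf_coe, hoa]
  · rintro ⟨i, hi⟩
    refine hab ?_
    have e : a ^ i = b := congrArg Subtype.val hi
    rw [← e]
    exact ((Commute.refl a).zpow_right i).eq
  · refine Subtype.ext ?_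
    show b * a * b⁻¹ = a⁻¹
    have h4 : a ^ 2 * a ^ 2 = 1 := by rw [← pow_add, show 2 + 2 = orderOf a from hoa.symm,
      pow_orderOf_eq_one]
    have h3 : a ^ 2 * a = a⁻¹ := eq_inv_of_mul_eq_one_left (by rw [mul_assoc, ← pow_two, h4])
    rw [← h3, ha2, commutatorElement_def, inv_mul_cancel_right]
  · exact Subtype.ext (hb2.trans ha2.symm)

end Cfsg.Agent.OrderFourGroups88
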