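import Cfsg.Agent.Lib.J2TypeThree79
import Cfsg.Agent.Lib.AltSixThree79
import Cfsg.Agent.Lib.OrderFourGroups88

/-!
# Groups of Hall–Janko type: the three-part

A Sylow three-subgroup is extraspecial of order `27` with normalizer of order `216`, and
there are two classes of elements of order three.
-/

set_option autoImplicit false

namespace Cfsg.Agent.J2TypeThreeSylow79

open Subgroup Cfsg.Agent.LargeExtraspecial Cfsg.Agent.J2TypePoints79 Cfsg.Agent.J2TypeAction79
open Cfsg.Agent.J2TypeFour79 Cfsg.Agent.J2TypeClasses79 Cfsg.Agent.J2TypeCyc79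
open Cfsg.Agent.J2TypeCent79 Cfsg.Agent.J2TypeKernel79 Cfsg.Agent.J2TypeNorm79
open Cfsg.Agent.J2TypeThreeH79 Cfsg.Agent.J2TypeThree79

/-- A non-abelian group of order `p³` is extraspecial. -/
theorem extraspecial_cube {P : Type*} [Group P] [Finite P] {p : ℕ} [hp : Fact p.Prime]
    (hc : Nat.card P = p ^ 3) (hnc : ¬ IsMulCommutative P) : Cfsg.IsExtraspecial p P := by
  have hG : IsPGroup p P := IsPGroup.of_card hc
  have hZ : Nat.card (center P) = p :=
    le_antisymm ((OrderFourGroups88.card_center_le hG hnc (n := 1) hc).trans_eq (pow_one p))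
      (OrderFourGroups88.card_center_ge hG hnc)
  have hidx : (center P).index = p ^ 2 := by
    have h := (center P).card_mul_index
    rw [hZ, hc, pow_succ' p 2] at h
    exact Nat.eq_of_mul_eq_mul_left hp.out.pos h
  have hle : commutator P ≤ center P :=
    PGroupsBasic.commutator_le_of_index_le_sq hG hidx.le
  have hcom : commutator P = center P := by
    rcases PGroupsBasic.le_or_inf_eq_bot hZ (H := center P) (K := commutator P) with h | h
    · exact le_antisymm hle h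
    · exfalso
      rw [inf_eq_right.2 hle] at h
      refine hnc ⟨⟨fun a b => ?_⟩⟩
      exact commutatorElement_eq_one_iff_mul_comm.1
        (mem_bot.1 (h ▸ commutator_mem_commutator (mem_top a) (mem_top b)))
  refine ⟨⟨hG, le_antisymm ?_ ?_, hcom⟩, hZ⟩
  · refine PGroupsBasic.frattini_le_of_elementary_quotient (p := p) hle fun x => ?_
    rw [← QuotientGroup.eq_one_iff]
    show QuotientGroup.mk' (center P) (x ^ p) = 1
    rw [map_pow]
    set t := QuotientGroup.mk' (center P) x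
    have hd : orderOf t ∣ p ^ 2 := by
      rw [← hidx, Subgroup.index_eq_card]
      exact orderOf_dvd_natCard t
    obtain ⟨i, hi, he⟩ := (Nat.dvd_prime_pow hp.out).1 hd
    interval_cases i
    · rw [orderOf_eq_one_iff.1 (he.trans (pow_zero _)), one_pow]
    · exact orderOf_dvd_iff_pow_eq_one.1 (by rw [he, pow_one])
    · haveI : IsCyclic (P ⧸ center P) := isCyclic_of_orderOf_eq_card t (by
        rw [he, ← Subgroup.index_eq_card, hidx])
      exact absurd ((QuotientGroup.mk' (center P)).isMulCommutative_of_isCyclic_of_ker_le_center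
        (QuotientGroup.ker_mk' _).le) hnc
  · exact hcom ▸ PGroupsBasic.commutator_le_frattini hG

variable {G : Type*} [Group G] [Finite G] {Q : Subgroup G} {z : G} {a : Fin 5 → G} {u u' y : G}

set_option maxRecDepth 100000 in
theorem iter_zero : ∀ p : Fin 5, ∃ n : Fin 5, (fun q : Fin 5 => q + 1)^[(n : ℕ)] p = 0 := by decide

section

variable (C : Cyc Q z a u u' y) {K : Subgroup G} (hK : Kern C K) (h60 : Nat.card K = 60)
  (hG : Nat.card G = 604800) {x : G} (X : Elt C (K := K) x)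
include C hK h60 hG X

omit X in
theorem card_sylow (P : Sylow 3 G) : Nat.card P = 27 := by
  haveI : Fact (Nat.Prime 3) := ⟨Nat.prime_three⟩
  rw [Sylow.card_eq_multiplicity, hG, show (604800 : ℕ) = 3 ^ 3 * 22400 by norm_num,
    Nat.factorization_def _ Nat.prime_three, padicValNat.mul (by norm_num) (by norm_num),
    padicValNat.prime_pow, padicValNat.eq_zero_of_not_dvd (by norm_num)]
  norm_num

/-- A three-element has a conjugate in a given Sylow subgroup. -/
theorem conj_into (P : Sylow 3 G) {c : G} (hc : orderOf c = 3) :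
    ∃ g, g * c * g⁻¹ ∈ (P : Subgroup G) := by
  haveI : Fact (Nat.Prime 3) := ⟨Nat.prime_three⟩
  obtain ⟨S, hS⟩ := (IsPGroup.of_card (n := 1)
    (show Nat.card (zpowers c) = 3 ^ 1 by rw [Nat.card_zpowers, hc, pow_one])).exists_le_sylow
  obtain ⟨g, hg⟩ := MulAction.exists_smul_eq G S P
  exact ⟨g, hg ▸ ⟨c, hS (mem_zpowers c), rfl⟩⟩

theorem not_comm (P : Sylow 3 G) : ¬ IsMulCommutative (P : Subgroup G) := by
  intro h
  obtain ⟨g, hg⟩ := conj_into C hK h60 hG X P C.ord
  have hle : (P : Subgroup G) ≤ centralizer ({g * y * g⁻¹} : Set G) := fun w hw =>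
    mem_centralizer_singleton_iff.2 (congrArg Subtype.val (h.is_comm.comm (⟨w, hw⟩ : (P : Subgroup G)) ⟨_, hg⟩))
  have hd := card_dvd_of_le hle
  rw [centralizer_conj, card_map_of_injective (MulAut.conj g).injective, card_sylow C hK h60 hG P] at hd
  rcases card_cent_y C hK h60 X with e | e <;> rw [e] at hd <;> norm_num at hd

theorem extraspecial (P : Sylow 3 G) : Cfsg.IsExtraspecial 3 (P : Subgroup G) := by
  haveI : Fact (Nat.Prime 3) := ⟨Nat.prime_three⟩
  exact extraspecial_cube (by rw [card_sylow C hK h60 hG P]; norm_num) (not_comm C hK h60 hG X P)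

/-- For a Sylow subgroup inside `C(x)`, the centre is `⟨x⟩`. -/
theorem mem_center_iff' {P : Sylow 3 G} (hP : (P : Subgroup G) ≤ centralizer ({x} : Set G))
    (hxP : x ∈ (P : Subgroup G)) (w : (P : Subgroup G)) :
    w ∈ center (P : Subgroup G) ↔ (w : G) ∈ zpowers x := by
  have hx : (⟨x, hxP⟩ : (P : Subgroup G)) ∈ center (P : Subgroup G) :=
    Subgroup.mem_center_iff.2 fun v => Subtype.ext (mem_centralizer_singleton_iff.1 (hP v.2))
  have h3 : Nat.card (zpowers (⟨x, hxP⟩ : (P : Subgroup G))) = 3 := by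
    rw [Nat.card_zpowers, ← Subgroup.orderOf_coe]; exact X.ord
  rw [← eq_of_le_of_card_ge (zpowers_le.2 hx) (by rw [h3, (extraspecial C hK h60 hG X P).2])]
  constructor
  · rintro ⟨i, hi⟩
    exact ⟨i, congrArg Subtype.val hi⟩
  · rintro ⟨i, hi⟩
    exact ⟨i, Subtype.ext hi⟩

theorem exists_sylow : ∃ P : Sylow 3 G, (P : Subgroup G) ≤ centralizer ({x} : Set G) ∧
    x ∈ (P : Subgroup G) ∧
    Nat.card ↥(normalizer ((P : Subgroup G) : Set G)) = 216 := by
  classical
  haveI : Fact (Nat.Prime 3) := ⟨Nat.prime_three⟩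
  set Cx := centralizer ({x} : Set G)
  obtain ⟨φ, hsur, hker⟩ : ∃ φ : Cx →* ↥(alternatingGroup (Fin 6)),
      Function.Surjective φ ∧ ∀ w, φ w = 1 ↔ (w : G) ∈ zpowers x := exists_hom C hK h60 X
  have hcx : Nat.card Cx = 1080 := J2TypeThree79.card_cent C hK h60 X
  have hx : x ∈ Cx := mem_centralizer_singleton_iff.2 rfl
  have hcm : ∀ H : Subgroup ↥(alternatingGroup (Fin 6)),
      Nat.card (H.comap φ) = 3 * Nat.card H := fun H => by
    have h1 := (H.comap φ).card_mul_index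
    rw [index_comap_of_surjective H hsur, hcx] at h1
    have h2 := H.card_mul_index
    rw [nat_card_alternatingGroup, Nat.card_fin] at h2
    simp only [Nat.factorial] at h2
    refine Nat.eq_of_mul_eq_mul_right (Nat.pos_of_ne_zero H.index_ne_zero_of_finite) ?_
    rw [h1, mul_assoc, h2]
    all_goals norm_num
  set P1 := (AltSixThree79.P9.comap φ).map Cx.subtype
  have h27 : Nat.card P1 = 27 := by
    rw [card_map_of_injective Cx.subtype_injective, hcm, AltSixThree79.card_P9]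
  have hfac : 3 ^ (Nat.card G).factorization 3 = 27 := by
    obtain ⟨P⟩ := (inferInstance : Nonempty (Sylow 3 G))
    rw [← Sylow.card_eq_multiplicity P, card_sylow C hK h60 hG P]
  let P : Sylow 3 G := Sylow.ofCard P1 (by rw [h27, hfac])
  have hle : P1 ≤ Cx := map_subtype_le _
  have hxP : x ∈ P1 := ⟨⟨x, hx⟩, mem_comap.2 (by rw [(hker ⟨x, hx⟩).2 (mem_zpowers x)]; exact one_mem _), rfl⟩
  refine ⟨P, hle, hxP, ?_⟩
  show Nat.card ↥(normalizer (P1 : Set G)) = 216
  set N := normalizer (P1 : Set G)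
  -- inside `C(x)`
  have hNC : N ⊓ Cx = ((normalizer (AltSixThree79.P9 : Set ↥(alternatingGroup (Fin 6)))).comap φ).map
      Cx.subtype := by
    ext n
    constructor
    · rintro ⟨hn, hnx⟩
      refine ⟨⟨n, hnx⟩, mem_comap.2 (mem_normalizer_fintype fun v hv => ?_), rfl⟩
      obtain ⟨w, rfl⟩ := hsur v
      obtain ⟨w', hw', e⟩ := (mem_normalizer_iff.1 hn (w : G)).1 ⟨w, hv, rfl⟩
      show φ ⟨n, hnx⟩ * φ w * (φ ⟨n, hnx⟩)⁻¹ ∈ AltSixThree79.P9
      rw [← map_inv, ← map_mul, ← map_mul, show (⟨n, hnx⟩ * w * ⟨n, hnx⟩⁻¹ : Cx) = w' from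
        Subtype.ext e.symm]
      exact hw'
    · rintro ⟨m, hm, rfl⟩
      refine ⟨mem_normalizer_fintype ?_, m.2⟩
      rintro _ ⟨w, hw, rfl⟩
      refine ⟨m * w * m⁻¹, ?_, rfl⟩
      show φ (m * w * m⁻¹) ∈ AltSixThree79.P9
      rw [map_mul, map_mul, map_inv]
      exact (mem_normalizer_iff.1 hm _).1 hw
  have h108 : Nat.card ↥(N ⊓ Cx) = 108 := by
    rw [hNC, card_map_of_injective Cx.subtype_injective, hcm, AltSixThree79.card_norm]
  -- an element inverting `x`
  obtain ⟨p, q, T⟩ := exists_fix3 C.loc.fr X.ord (x_z C hK h60 X)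
  obtain ⟨h, -, hhx⟩ := exists_inverter C.loc.fr T
  have hconjC : ∀ w ∈ Cx, h * w * h⁻¹ ∈ Cx := fun w hw => by
    have h1 : Commute (h * w * h⁻¹) (h * x * h⁻¹) :=
      (show Commute w x from mem_centralizer_singleton_iff.1 hw).map (MulAut.conj h).toMonoidHom
    rw [hhx] at h1
    exact mem_centralizer_singleton_iff.2 (Commute.inv_right_iff.1 h1).eq
  set P2 := P1.map (MulAut.conj h).toMonoidHom
  have hle2 : P2 ≤ Cx := by rintro _ ⟨w, hw, rfl⟩; exact hconjC w (hle hw)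
  have hfacx : 3 ^ (Nat.card Cx).factorization 3 = 27 := by
    rw [hcx, show (1080 : ℕ) = 3 ^ 3 * 40 by norm_num, Nat.factorization_def _ Nat.prime_three,
      padicValNat.mul (by norm_num) (by norm_num), padicValNat.prime_pow,
      padicValNat.eq_zero_of_not_dvd (by norm_num)]
    norm_num
  let S1 : Sylow 3 Cx := Sylow.ofCard (P1.subgroupOf Cx) (by
    rw [Nat.card_congr (subgroupOfEquivOfLe hle).toEquiv, h27, hfacx])
  let S2 : Sylow 3 Cx := Sylow.ofCard (P2.subgroupOf Cx) (by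
    rw [Nat.card_congr (subgroupOfEquivOfLe hle2).toEquiv,
      card_map_of_injective (MulAut.conj h).injective, h27, hfacx])
  obtain ⟨m, hm⟩ := MulAction.exists_smul_eq Cx S2 S1
  have hm' : ∀ w ∈ P1, (m : G) * (h * w * h⁻¹) * (m : G)⁻¹ ∈ P1 := fun w hw => by
    have h1 : (⟨h * w * h⁻¹, hle2 ⟨w, hw, rfl⟩⟩ : Cx) ∈ (S2 : Subgroup Cx) := ⟨w, hw, rfl⟩
    have h2 : m * (⟨h * w * h⁻¹, hle2 ⟨w, hw, rfl⟩⟩ : Cx) * m⁻¹ ∈ ((m • S2 : Sylow 3 Cx) : Subgroup Cx) :=
      ⟨_, h1, rfl⟩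
    rw [hm] at h2
    exact h2
  set n0 := (m : G) * h
  have hn0 : n0 ∈ N := mem_normalizer_fintype fun w hw => by
    rw [show n0 * w * n0⁻¹ = (m : G) * (h * w * h⁻¹) * (m : G)⁻¹ by
      show (m : G) * h * w * ((m : G) * h)⁻¹ = _; group]
    exact hm' w hw
  have hn0x : n0 * x * n0⁻¹ = x⁻¹ := by
    show (m : G) * h * x * ((m : G) * h)⁻¹ = _
    rw [show (m : G) * h * x * ((m : G) * h)⁻¹ = (m : G) * (h * x * h⁻¹) * (m : G)⁻¹ by group, hhx,
      ((show Commute (m : G) x from mem_centralizer_singleton_iff.1 m.2).inv_right).eq,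
      mul_inv_cancel_right]
  have hxx : x⁻¹ ≠ x := fun e => by
    have h2 : orderOf x ∣ 2 := orderOf_dvd_of_pow_eq_one
      (by rw [pow_two]; nth_rw 1 [← e]; rw [inv_mul_cancel])
    rw [X.ord] at h2
    norm_num at h2
  have hn0C : n0 ∉ Cx := fun e => hxx (by
    rw [← hn0x, mul_inv_eq_iff_eq_mul, ← mem_centralizer_singleton_iff.1 e])
  have hcases : ∀ n ∈ N, n ∈ Cx ∨ n0⁻¹ * n ∈ Cx := by
    intro n hn
    have hnx : n * x * n⁻¹ ∈ P1 := (mem_normalizer_iff.1 hn x).1 hxP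
    have hcen : (⟨n * x * n⁻¹, hnx⟩ : (P : Subgroup G)) ∈ center (P : Subgroup G) := by
      refine Subgroup.mem_center_iff.2 fun v => Subtype.ext ?_
      have hv' : n⁻¹ * (v : G) * n ∈ P1 := (mem_normalizer_iff''.1 hn _).1 v.2
      have h1 := mem_centralizer_singleton_iff.1 (hle hv')
      show (v : G) * (n * x * n⁻¹) = n * x * n⁻¹ * v
      calc (v : G) * (n * x * n⁻¹) = n * (n⁻¹ * v * n * x) * n⁻¹ := by group
        _ = _ := by rw [h1]; group
    have hz := (mem_center_iff' C hK h60 hG X (P := P) hle hxP _).1 hcen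
    have h3 : orderOf (n * x * n⁻¹) = 3 := by
      rw [← X.ord]; exact (MulEquiv.orderOf_eq (MulAut.conj n) x)
    obtain ⟨i, hi⟩ := hz
    replace hi : x ^ i = n * x * n⁻¹ := hi
    rw [← zpow_mod_orderOf x i, X.ord] at hi
    have := Int.emod_nonneg i (show (3 : ℤ) ≠ 0 by norm_num)
    have := Int.emod_lt_of_pos i (show (0 : ℤ) < 3 by norm_num)
    rcases (show i % 3 = 0 ∨ i % 3 = 1 ∨ i % 3 = 2 by omega) with e | e | e <;>
      simp only [Nat.cast_ofNat, e] at hi
    · rw [← hi, zpow_zero, orderOf_one] at h3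
      norm_num at h3
    · rw [zpow_one] at hi
      exact Or.inl (mem_centralizer_singleton_iff.2 (mul_inv_eq_iff_eq_mul.1 hi.symm))
    · refine Or.inr (mem_centralizer_singleton_iff.2 ?_)
      have e2 : x ^ (2 : ℤ) = x⁻¹ := by
        refine eq_inv_of_mul_eq_one_left ?_
        rw [zpow_two, ← pow_two, ← pow_succ]
        exact orderOf_dvd_iff_pow_eq_one.1 (dvd_of_eq X.ord)
      rw [e2] at hi
      calc n0⁻¹ * n * x = n0⁻¹ * (n * x * n⁻¹) * n := by group
        _ = n0⁻¹ * (n0 * x * n0⁻¹) * n := by rw [← hi, hn0x]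
        _ = x * (n0⁻¹ * n) := by group
  let f : Bool × ↥(N ⊓ Cx) → N := fun b =>
    ⟨(if b.1 then n0 else 1) * (b.2 : G), mul_mem (by split <;> simp [hn0]) b.2.2.1⟩
  have hf : Function.Bijective f := by
    constructor
    · rintro ⟨b, v⟩ ⟨b', v'⟩ e
      have e' : (if b then n0 else 1) * (v : G) = (if b' then n0 else 1) * v' := congrArg Subtype.val e
      cases b <;> cases b' <;> simp only [Bool.false_eq_true, if_false, if_true, one_mul] at e'
      · rw [Subtype.ext e']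
      · exact absurd (by
          rw [show n0 = (v : G) * (v' : G)⁻¹ by rw [e', mul_inv_cancel_right]]
          exact mul_mem v.2.2 (inv_mem v'.2.2)) hn0C
      · exact absurd (by
          rw [show n0 = (v' : G) * (v : G)⁻¹ by rw [← e', mul_inv_cancel_right]]
          exact mul_mem v'.2.2 (inv_mem v.2.2)) hn0C
      · rw [Subtype.ext (mul_left_cancel e')]
    · rintro ⟨n, hn⟩
      rcases hcases n hn with e | e
      · exact ⟨(false, ⟨n, hn, e⟩), Subtype.ext (by simp [f])⟩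
      · exact ⟨(true, ⟨n0⁻¹ * n, N.mul_mem (N.inv_mem hn0) hn, e⟩), Subtype.ext (by simp [f])⟩
  rw [← Nat.card_eq_of_bijective f hf, Nat.card_prod, h108, Nat.card_eq_fintype_card]
  rfl

theorem card_normalizer (P : Sylow 3 G) :
    Nat.card ↥(normalizer ((P : Subgroup G) : Set G)) = 216 := by
  haveI : Fact (Nat.Prime 3) := ⟨Nat.prime_three⟩
  obtain ⟨P0, -, -, h⟩ := exists_sylow C hK h60 hG X
  have h1 := (normalizer ((P : Subgroup G) : Set G)).card_mul_index
  have h2 := (normalizer ((P0 : Subgroup G) : Set G)).card_mul_index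
  have e1 : Nat.card (Sylow 3 G) = (normalizer ((P : Subgroup G) : Set G)).index :=
    P.card_eq_index_normalizer
  have e2 : Nat.card (Sylow 3 G) = (normalizer ((P0 : Subgroup G) : Set G)).index :=
    P0.card_eq_index_normalizer
  rw [← e1] at h1
  rw [← e2] at h2
  rw [h, ← h1] at h2
  exact (Nat.eq_of_mul_eq_mul_right (Nat.card_pos) h2).symm

theorem x_inv : IsConj x x⁻¹ := by
  obtain ⟨p, q, T⟩ := exists_fix3 C.loc.fr X.ord (x_z C hK h60 X)
  obtain ⟨h, -, hhx⟩ := exists_inverter C.loc.fr T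
  exact isConj_iff.2 ⟨h, hhx⟩

theorem y_inv : IsConj y y⁻¹ := by
  obtain ⟨t, -, -, ht, -⟩ := exists_inverting hK h60
  exact isConj_iff.2 ⟨t, ht⟩

/-- Elements of order three of `C(x)` outside `⟨x⟩` are conjugate to `y`. -/
theorem conj_y {P : Sylow 3 G} (hP : (P : Subgroup G) ≤ centralizer ({x} : Set G))
    (hxP : x ∈ (P : Subgroup G)) {c : G} (hcP : c ∈ (P : Subgroup G)) (hc : orderOf c = 3)
    (hcx : c ∉ zpowers x) : IsConj c y := by
  classical
  haveI : Fact (Nat.Prime 3) := ⟨Nat.prime_three⟩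
  have L := C.loc
  have F := L.fr
  set Cx := centralizer ({x} : Set G)
  obtain ⟨φ, hsur, hker⟩ : ∃ φ : Cx →* ↥(alternatingGroup (Fin 6)),
      Function.Surjective φ ∧ ∀ w, φ w = 1 ↔ (w : G) ∈ zpowers x := exists_hom C hK h60 X
  have hcomm : ∀ w : Cx, (w : G) * x = x * w := fun w => mem_centralizer_singleton_iff.1 w.2
  have hc3 : c ^ 3 = 1 := orderOf_dvd_iff_pow_eq_one.1 (dvd_of_eq hc)
  let cc : Cx := ⟨c, hP hcP⟩
  have hcc : Commute c x := hcomm cc
  obtain ⟨tb, htb2, htb1, htbc, htbcc⟩ := AltSixThree79.exists_four (φ cc)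
    (by rw [← map_pow, show cc ^ 3 = 1 from Subtype.ext hc3, map_one])
    (fun e => hcx ((hker cc).1 e))
  obtain ⟨w, rfl⟩ := hsur tb
  obtain ⟨h3, -, -⟩ := exists_lift X.ord (hcomm w) (t := (w : G)) ((hker (w * w)).1 (by rw [map_mul, htb2]))
  set t : Cx := w ^ 3
  have ht : φ t = φ w := by rw [map_pow, pow_succ, pow_two, htb2, one_mul]
  have htt : (t : G) * t = 1 := h3
  rw [← ht] at htb1 htb2 htbc htbcc
  set t' : Cx := cc * t * cc⁻¹
  have ht't' : (t' : G) * t' = 1 := by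
    show c * t * c⁻¹ * (c * t * c⁻¹) = 1
    rw [show c * (t : G) * c⁻¹ * (c * t * c⁻¹) = c * ((t : G) * t) * c⁻¹ by group, htt]; group
  have huniq : ∀ s r : Cx, (s : G) * s = 1 → (r : G) * r = 1 → φ s = φ r → (s : G) = r :=
    fun s r hs hr e => invol_unique X.ord hs hr (hcomm r) ((hker (s * r⁻¹)).1 (by
      rw [map_mul, map_inv, e, mul_inv_cancel]))
  have hφ' : φ t' = φ cc * φ t * (φ cc)⁻¹ := by rw [map_mul, map_mul, map_inv]
  have hc1 : (t : G) * t' = t' * t := by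
    have h1 : ((t' * t * t'⁻¹ : Cx) : G) = t := huniq _ _ (by
      show (t' : G) * t * (t' : G)⁻¹ * ((t' : G) * t * (t' : G)⁻¹) = 1
      rw [show (t' : G) * t * (t' : G)⁻¹ * ((t' : G) * t * (t' : G)⁻¹) =
        (t' : G) * ((t : G) * t) * (t' : G)⁻¹ by group, htt]; group) htt (by
      rw [map_mul, map_mul, map_inv, hφ', ← htbc, mul_inv_cancel_right])
    exact (mul_inv_eq_iff_eq_mul.1 h1).symm
  have hc2 : c * (t' : G) * c⁻¹ = t * t' := huniq (cc * t' * cc⁻¹) (t * t') (by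
    show c * (t' : G) * c⁻¹ * (c * t' * c⁻¹) = 1
    rw [show c * (t' : G) * c⁻¹ * (c * t' * c⁻¹) = c * ((t' : G) * t') * c⁻¹ by group, ht't']
    group) (by
    show (t : G) * t' * ((t : G) * t') = 1
    rw [show (t : G) * t' * ((t : G) * t') = (t : G) * (t' * t) * t' by group, ← hc1,
      show (t : G) * (t * t') * t' = ((t : G) * t) * ((t' : G) * t') by group, htt, ht't', one_mul])
    (by rw [map_mul φ (cc * t'), map_mul φ cc t', map_mul φ t t', map_inv, hφ', htbcc])
  have hne : (t' : G) ≠ t := fun e => htb1 (by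
    have h0 : φ t' = φ t := congrArg φ (Subtype.ext e)
    rw [hφ'] at h0
    rw [h0, htb2, h0] at htbcc
    exact htbcc)
  have ht1 : (t : G) ≠ 1 := fun e => htb1 (by rw [show t = 1 from Subtype.ext e, map_one])
  have ht'1 : (t' : G) ≠ 1 := fun e => ht1 (conj_eq_one_iff.1 (show c * (t : G) * c⁻¹ = 1 from e))
  obtain ⟨g, hg⟩ := isConj_iff.1 (invol_cx C hK h60 X (hcomm t) htt ht1).symm
  have ht'z : IsConj z (g * t' * g⁻¹) :=
    (invol_cx C hK h60 X (hcomm t') ht't' ht'1).trans (isConj_iff.2 ⟨g, rfl⟩)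
  have hgz : g * t' * g⁻¹ * z = z * (g * t' * g⁻¹) := by
    rw [← hg]
    calc g * t' * g⁻¹ * (g * t * g⁻¹) = g * ((t' : G) * t) * g⁻¹ := by group
      _ = _ := by rw [← hc1]; group
  have h1sq : g * t' * g⁻¹ * (g * t' * g⁻¹) = 1 := by
    rw [show g * (t' : G) * g⁻¹ * (g * t' * g⁻¹) = g * ((t' : G) * t') * g⁻¹ by group, ht't']; group
  have h1ne : g * t' * g⁻¹ ≠ 1 := fun e => ht'1 (conj_eq_one_iff.1 e)
  have hQ := (ztype_iff L hgz h1sq h1ne).1 ht'z
  -- move the second involution to `a 0`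
  obtain ⟨k, hkz, hka⟩ : ∃ k : G, k * z = z * k ∧
      (k * (g * t' * g⁻¹) * k⁻¹ = a 0 ∨ k * (g * t' * g⁻¹) * k⁻¹ = z * a 0) := by
    obtain ⟨c5, -, hc5z, hc5⟩ := F.cyc
    have key : ∀ (n : ℕ) (p : Fin 5), c5 ^ n * a p * (c5 ^ n)⁻¹ = a ((fun q => q + 1)^[n] p) := by
      intro n
      induction n with
      | zero => simp
      | succ n ih =>
        intro p
        rw [Function.iterate_succ_apply, ← ih, ← hc5 p, pow_succ]
        group
    rcases F.pts.inv_cases _ hQ h1sq with e | e | ⟨p, e⟩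
    · exact absurd e h1ne
    · exfalso
      refine hne ?_
      rw [← hg] at e
      exact mul_left_cancel (mul_right_cancel e)
    obtain ⟨n, hn⟩ := iter_zero p
    have hz5 : c5 ^ (n : ℕ) * z * (c5 ^ (n : ℕ))⁻¹ = z :=
      mul_inv_eq_iff_eq_mul.2 ((show Commute c5 z from hc5z).pow_left _).eq
    refine ⟨c5 ^ (n : ℕ), mul_inv_eq_iff_eq_mul.1 hz5, ?_⟩
    rcases e with e | e
    · left; rw [e, key, hn]
    · right
      rw [e, show c5 ^ (n : ℕ) * (z * a p) * (c5 ^ (n : ℕ))⁻¹ =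
        (c5 ^ (n : ℕ) * z * (c5 ^ (n : ℕ))⁻¹) * (c5 ^ (n : ℕ) * a p * (c5 ^ (n : ℕ))⁻¹) by group,
        hz5, key, hn]
  obtain ⟨r, hrz, hra⟩ : ∃ r : G, r * t * r⁻¹ = z ∧ r * t' * r⁻¹ = a 0 := by
    have hkt : k * g * t * (k * g)⁻¹ = z := by
      rw [show k * g * (t : G) * (k * g)⁻¹ = k * (g * t * g⁻¹) * k⁻¹ by group, hg]
      exact mul_inv_eq_iff_eq_mul.2 hkz
    rcases hka with e | e
    · exact ⟨k * g, hkt, by rw [← e]; group⟩
    · refine ⟨a 1 * (k * g), ?_, ?_⟩
      · rw [show a 1 * (k * g) * (t : G) * (a 1 * (k * g))⁻¹ = a 1 * (k * g * t * (k * g)⁻¹) * (a 1)⁻¹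
          by group, hkt]
        exact mul_inv_eq_iff_eq_mul.2 (F.comm_z (F.pts.mem 1))
      · rw [show a 1 * (k * g) * (t' : G) * (a 1 * (k * g))⁻¹ =
          a 1 * (k * (g * t' * g⁻¹) * k⁻¹) * (a 1)⁻¹ by group, e,
          show a 1 * (z * a 0) * (a 1)⁻¹ = (a 1 * z) * a 0 * (a 1)⁻¹ by group,
          F.comm_z (F.pts.mem 1), show z * a 1 * a 0 * (a 1)⁻¹ = z * (a 1 * a 0 * (a 1)⁻¹) by group,
          F.pts.anti 1 0 (by decide), ← mul_assoc, F.ext.zz, one_mul]
  set c' := r * c * r⁻¹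
  set x' := r * x * r⁻¹
  have hc'z : c' * z * c'⁻¹ = a 0 := by
    rw [← hra, ← hrz]
    show r * c * r⁻¹ * (r * (t : G) * r⁻¹) * (r * c * r⁻¹)⁻¹ = r * (c * t * c⁻¹) * r⁻¹
    group
  have hc'a : c' * a 0 * c'⁻¹ = z * a 0 := by
    rw [← hra, ← hrz]
    show r * c * r⁻¹ * (r * (t' : G) * r⁻¹) * (r * c * r⁻¹)⁻¹ = _
    rw [show r * c * r⁻¹ * (r * (t' : G) * r⁻¹) * (r * c * r⁻¹)⁻¹ = r * (c * t' * c⁻¹) * r⁻¹ by group,
      hc2]
    group
  have hx'V : x' ∈ centralizer (V z a : Set G) := (cent_V_iff L).2 ⟨by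
      rw [← hrz]
      show r * x * r⁻¹ * (r * (t : G) * r⁻¹) = r * (t : G) * r⁻¹ * (r * x * r⁻¹)
      calc _ = r * (x * t) * r⁻¹ := by group
        _ = _ := by rw [← hcomm t]; group, by
      rw [← hra]
      show r * x * r⁻¹ * (r * (t' : G) * r⁻¹) = r * (t' : G) * r⁻¹ * (r * x * r⁻¹)
      calc _ = r * (x * t') * r⁻¹ := by group
        _ = _ := by rw [← hcomm t']; group⟩
  set Nv := normalizer (V z a : Set G)
  have hyN : y ∈ Nv := y_norm hK
  have hyc : y⁻¹ * c' ∈ centralizer (V z a : Set G) := by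
    refine (cent_V_iff L).2 ⟨?_, ?_⟩ <;> refine mul_inv_eq_iff_eq_mul.1 ?_
    · rw [show y⁻¹ * c' * z * (y⁻¹ * c')⁻¹ = y⁻¹ * (c' * z * c'⁻¹) * y by group, hc'z, ← C.yz]
      group
    · rw [show y⁻¹ * c' * a 0 * (y⁻¹ * c')⁻¹ = y⁻¹ * (c' * a 0 * c'⁻¹) * y by group, hc'a, ← C.ya]
      group
  have hcN : c' ∈ Nv := by
    rw [show c' = y * (y⁻¹ * c') by group]
    exact mul_mem hyN (centralizer_le_normalizer _ hyc)
  have hc'x' : c' * x' = x' * c' := by
    show r * c * r⁻¹ * (r * x * r⁻¹) = r * x * r⁻¹ * (r * c * r⁻¹)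
    calc _ = r * (c * x) * r⁻¹ := by group
      _ = _ := by rw [hcc.eq]; group
  let f : ↥(zpowers c') × ↥(zpowers x') →* G :=
    MonoidHom.noncommCoprod (zpowers c').subtype (zpowers x').subtype fun i j => by
      obtain ⟨i, hi⟩ := i.2
      obtain ⟨j, hj⟩ := j.2
      simp only [coe_subtype, ← hi, ← hj]
      exact ((show Commute c' x' from hc'x').zpow_left _).zpow_right _
  have hord : ∀ w : G, orderOf w = 3 → orderOf (r * w * r⁻¹) = 3 := fun w hw => by
    rw [← hw]; exact MulEquiv.orderOf_eq (MulAut.conj r) w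
  have hf : Function.Injective f := by
    refine (injective_iff_map_eq_one f).2 ?_
    rintro ⟨⟨_, i, rfl⟩, ⟨_, j, rfl⟩⟩ e
    change c' ^ i * x' ^ j = 1 at e
    have e1 : c ^ i * x ^ j = 1 := by
      rw [show c' ^ i = r * c ^ i * r⁻¹ from conj_zpow, show x' ^ j = r * x ^ j * r⁻¹ from conj_zpow]
        at e
      refine (conj_eq_one_iff (a := r)).1 ?_
      rw [← e]; group
    have hci : c ^ i = 1 := by
      by_contra hne
      refine hcx ?_
      have hle : zpowers (c ^ i) ≤ zpowers c := zpowers_le.2 (zpow_mem (mem_zpowers c) i)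
      have hd := card_dvd_of_le hle
      rw [Nat.card_zpowers, Nat.card_zpowers, hc] at hd
      rcases (Nat.dvd_prime Nat.prime_three).1 hd with e2 | e2
      · exact absurd (orderOf_eq_one_iff.1 e2) hne
      · have hh : c ∈ zpowers (c ^ i) := by
          rw [eq_of_le_of_card_ge hle (by rw [Nat.card_zpowers, Nat.card_zpowers, hc, e2])]
          exact mem_zpowers c
        have h4 : c ^ i ∈ zpowers x := by
          rw [eq_inv_of_mul_eq_one_left e1]; exact inv_mem (zpow_mem (mem_zpowers x) j)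
        exact zpowers_le.2 h4 hh
    refine Prod.ext (Subtype.ext ?_) (Subtype.ext ?_)
    · show c' ^ i = 1
      rw [show c' ^ i = r * c ^ i * r⁻¹ from conj_zpow, hci]; group
    · show x' ^ j = 1
      rw [show c' ^ i = r * c ^ i * r⁻¹ from conj_zpow, hci] at e
      simpa using e
  have hR : Nat.card f.range = 3 ^ 2 := by
    rw [← Nat.card_congr (MonoidHom.ofInjective hf).toEquiv, Nat.card_prod, Nat.card_zpowers,
      Nat.card_zpowers, hord c hc, hord x X.ord]
    norm_num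
  have hRN : f.range ≤ Nv := by
    rintro _ ⟨⟨⟨_, i, rfl⟩, ⟨_, j, rfl⟩⟩, rfl⟩
    exact mul_mem (zpow_mem hcN i) (zpow_mem (centralizer_le_normalizer _ hx'V) j)
  let S : Sylow 3 Nv := Sylow.ofCard (f.range.subgroupOf Nv) (by
    rw [Nat.card_congr (subgroupOfEquivOfLe hRN).toEquiv, hR, card_normV L,
      show (1152 : ℕ) = 3 ^ 2 * 128 by norm_num, Nat.factorization_def _ Nat.prime_three,
      padicValNat.mul (by norm_num) (by norm_num), padicValNat.prime_pow,
      padicValNat.eq_zero_of_not_dvd (by norm_num)])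
  let yn : Nv := ⟨y, hyN⟩
  obtain ⟨S', hS'⟩ := (IsPGroup.of_card (n := 1) (show Nat.card (zpowers yn) = 3 ^ 1 by
    rw [Nat.card_zpowers, ← Subgroup.orderOf_coe, pow_one]; exact C.ord)).exists_le_sylow
  obtain ⟨m, hm⟩ := MulAction.exists_smul_eq Nv S' S
  have hy' : (m * yn * m⁻¹ : Nv) ∈ (S : Subgroup Nv) := hm ▸ ⟨yn, hS' (mem_zpowers yn), rfl⟩
  obtain ⟨⟨⟨_, i, rfl⟩, ⟨_, j, rfl⟩⟩, hij⟩ := (show ((m * yn * m⁻¹ : Nv) : G) ∈ f.range from hy')
  change c' ^ i * x' ^ j = (m : G) * y * (m : G)⁻¹ at hij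
  have hi3 : i % 3 ≠ 0 := fun e => by
    have h1 : c' ^ i = 1 := by
      rw [← zpow_mod_orderOf c' i, hord c hc]
      simp only [Nat.cast_ofNat, e, zpow_zero]
    rw [h1, one_mul] at hij
    have hyV : y ∈ centralizer (V z a : Set G) := mem_centralizer_iff.2 fun v hv => by
      have h2 := mem_centralizer_iff.1 (zpow_mem hx'V j) ((m : G) * v * (m : G)⁻¹)
        ((mem_normalizer_iff.1 m.2 v).1 hv)
      rw [hij] at h2
      calc v * y = (m : G)⁻¹ * ((m : G) * v * (m : G)⁻¹ * ((m : G) * y * (m : G)⁻¹)) * m := by group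
        _ = y * v := by rw [h2]; group
    have h3 := ((cent_V_iff L).1 hyV).1
    have h4 := C.yz
    rw [mul_inv_eq_iff_eq_mul.2 h3] at h4
    exact (F.pts.ne 0).2 h4.symm
  have hy1 : IsConj y (c ^ i * x ^ j) := by
    refine isConj_iff.2 ⟨r⁻¹ * m, ?_⟩
    rw [show r⁻¹ * (m : G) * y * (r⁻¹ * (m : G))⁻¹ = r⁻¹ * ((m : G) * y * (m : G)⁻¹) * r by group,
      ← hij, show c' ^ i = r * c ^ i * r⁻¹ from conj_zpow,
      show x' ^ j = r * x ^ j * r⁻¹ from conj_zpow]
    group
  -- all `c x^l` are conjugate in `P`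
  have hshift : ∀ l : ℤ, IsConj c (c * x ^ l) := by
    intro l
    haveI := (extraspecial C hK h60 hG X P)
    have hnc : (⟨c, hcP⟩ : (P : Subgroup G)) ∉ center (P : Subgroup G) := fun e =>
      hcx ((mem_center_iff' C hK h60 hG X hP hxP _).1 e)
    rw [Subgroup.mem_center_iff] at hnc
    push Not at hnc
    obtain ⟨m, hm⟩ := hnc
    have hd : m * ⟨c, hcP⟩ * m⁻¹ * (⟨c, hcP⟩ : (P : Subgroup G))⁻¹ ∈ center (P : Subgroup G) := by
      rw [← (extraspecial C hK h60 hG X P).1.2.2]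
      exact commutator_mem_commutator (mem_top m) (mem_top _)
    obtain ⟨e, he⟩ := (mem_center_iff' C hK h60 hG X hP hxP _).1 hd
    replace he : x ^ e = (m : G) * c * (m : G)⁻¹ * c⁻¹ := he
    have hmc : (m : G) * c * (m : G)⁻¹ = c * x ^ e := by
      rw [(hcc.zpow_right e).eq, he, inv_mul_cancel_right]
    have hxe : x ^ e ≠ 1 := fun e1 => hm (Subtype.ext (by
      show (m : G) * c = c * m
      exact mul_inv_eq_iff_eq_mul.1 (by rw [hmc, e1, mul_one])))
    have hmx : Commute (m : G) x := mem_centralizer_singleton_iff.1 (hP m.2)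
    have hpow : ∀ n : ℕ, (m : G) ^ n * c * ((m : G) ^ n)⁻¹ = c * (x ^ e) ^ n := by
      intro n
      induction n with
      | zero => simp
      | succ n ih =>
        calc (m : G) ^ (n + 1) * c * ((m : G) ^ (n + 1))⁻¹
            = (m : G) * ((m : G) ^ n * c * ((m : G) ^ n)⁻¹) * (m : G)⁻¹ := by rw [pow_succ']; group
          _ = (m : G) * c * ((x ^ e) ^ n * (m : G)⁻¹) := by rw [ih]; group
          _ = (m : G) * c * ((m : G)⁻¹ * (x ^ e) ^ n) := by
            rw [(((hmx.zpow_right e).pow_right n).inv_left).eq]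
          _ = c * (x ^ e) ^ (n + 1) := by
            rw [pow_succ', show (m : G) * c * ((m : G)⁻¹ * (x ^ e) ^ n) =
              (m : G) * c * (m : G)⁻¹ * (x ^ e) ^ n by group, hmc]
            group
    have hgen : x ^ l ∈ zpowers (x ^ e) := by
      have hle : zpowers (x ^ e) ≤ zpowers x := zpowers_le.2 (zpow_mem (mem_zpowers x) e)
      rw [eq_of_le_of_card_ge hle ?_]
      · exact zpow_mem (mem_zpowers x) l
      · have hd := card_dvd_of_le hle
        rw [Nat.card_zpowers, Nat.card_zpowers, X.ord] at hd ⊢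
        rcases (Nat.dvd_prime Nat.prime_three).1 hd with h1 | h1
        · exact absurd (orderOf_eq_one_iff.1 h1) hxe
        · rw [h1]
    obtain ⟨n, hn⟩ := (IsOfFinOrder.mem_powers_iff_mem_zpowers (isOfFinOrder_of_finite _)).2 hgen
    exact isConj_iff.2 ⟨(m : G) ^ n, by rw [hpow]; exact congrArg (c * ·) hn⟩
  have := Int.emod_nonneg i (show (3 : ℤ) ≠ 0 by norm_num)
  have := Int.emod_lt_of_pos i (show (0 : ℤ) < 3 by norm_num)
  have hci : c ^ i = c ^ (i % 3) := by rw [← zpow_mod_orderOf c i, hc]; rfl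
  rcases (show i % 3 = 1 ∨ i % 3 = 2 by omega) with e | e <;> rw [hci, e] at hy1
  · rw [zpow_one] at hy1
    exact (hshift j).trans hy1.symm
  · have e2 : c ^ (2 : ℤ) = c⁻¹ := by
      refine eq_inv_of_mul_eq_one_left ?_
      rw [zpow_two, ← pow_two, ← pow_succ, hc3]
    have e3 : c ^ (2 : ℤ) * x ^ j = (c * x ^ (-j))⁻¹ := by
      rw [e2, (hcc.zpow_right (-j)).eq, mul_inv_rev, zpow_neg, inv_inv]
    rw [e3] at hy1
    refine (hshift (-j)).trans ?_
    have h4 : IsConj (c * x ^ (-j)) y⁻¹ := by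
      obtain ⟨g, hg⟩ := isConj_iff.1 hy1
      exact (isConj_iff.2 ⟨g, by rw [← inv_inv (c * x ^ (-j)), ← hg]; group⟩ : IsConj y⁻¹ _).symm
    exact h4.trans (y_inv C hK h60 hG X).symm

theorem classes {c : G} (hc : orderOf c = 3) : IsConj c x ∨ IsConj c y := by
  obtain ⟨P, hP, hxP, -⟩ := exists_sylow C hK h60 hG X
  obtain ⟨g, hg⟩ := conj_into C hK h60 hG X P hc
  have hcg : IsConj c (g * c * g⁻¹) := isConj_iff.2 ⟨g, rfl⟩
  have ho : orderOf (g * c * g⁻¹) = 3 := by
    rw [← hc]; exact MulEquiv.orderOf_eq (MulAut.conj g) c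
  by_cases h : g * c * g⁻¹ ∈ zpowers x
  · left
    obtain ⟨i, hi⟩ := h
    replace hi : x ^ i = g * c * g⁻¹ := hi
    rw [← zpow_mod_orderOf x i, X.ord] at hi
    have := Int.emod_nonneg i (show (3 : ℤ) ≠ 0 by norm_num)
    have := Int.emod_lt_of_pos i (show (0 : ℤ) < 3 by norm_num)
    refine hcg.trans ?_
    rcases (show i % 3 = 0 ∨ i % 3 = 1 ∨ i % 3 = 2 by omega) with e | e | e <;>
      simp only [Nat.cast_ofNat, e] at hi
    · rw [← hi, zpow_zero, orderOf_one] at ho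
      norm_num at ho
    · rw [← hi, zpow_one]
    · have e2 : x ^ (2 : ℤ) = x⁻¹ := by
        refine eq_inv_of_mul_eq_one_left ?_
        rw [zpow_two, ← pow_two, ← pow_succ]
        exact orderOf_dvd_iff_pow_eq_one.1 (dvd_of_eq X.ord)
      rw [← hi, e2]
      exact (x_inv C hK h60 hG X).symm
  · exact Or.inr (hcg.trans (conj_y C hK h60 hG X hP hxP hg ho h))

end

end Cfsg.Agent.J2TypeThreeSylow79
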