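import Cfsg.Agent.Lib.J2U33Check
import Cfsg.Agent.Lib.J2Chain
import Cfsg.Agent.Lib.UnitaryThreeSeven
import Cfsg.Agent.Lib.DegGraphU33Geo

set_option autoImplicit false
set_option maxRecDepth 100000

/-! `J2` has a subgroup `U3(3)` of index 100 with subdegrees 1, 36, 63. -/

namespace Cfsg.Agent.J2U33

open Cfsg.Agent.J2ChainDefs Cfsg.Agent.J2U33Data Cfsg.Agent.J2U33Defs Cfsg.Agent.J2U33Check
  Cfsg.Agent.J2Lines Cfsg.Agent.J2Group Cfsg.Agent.J2Chain Matrix

lemma all_range {N : ℕ} {p : ℕ → Bool} (h : (List.range N).all p = true) {i : ℕ} (hi : i < N) : p i = true :=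
  List.all_eq_true.mp h i (List.mem_range.mpr hi)

theorem gens_lt : ∀ g : Fin 2, (subGens.getD g (0, 0, 0)).1 < 315 ∧ (subGens.getD g (0, 0, 0)).2.1 < 160 ∧
    (subGens.getD g (0, 0, 0)).2.2 < 12 := by decide +kernel

/-- The two generators. -/
noncomputable def sg (g : Fin 2) : Equiv.Perm (Fin 315) :=
  T ⟨_, (gens_lt g).1⟩ * (A ⟨_, (gens_lt g).2.1⟩ * B ⟨_, (gens_lt g).2.2⟩)

lemma sg_mem (g : Fin 2) : sg g ∈ lineGroup := mul_mem (T_mem _) (stab0_le (mul_mem (A_mem _) (B_mem _)))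

lemma sg_apply (g : Fin 2) (i : Fin 315) : (sg g i : ℕ) = subApply g i := by
  rw [sg, Equiv.Perm.mul_apply, Equiv.Perm.mul_apply, T_rep, A_rep, B_rep]
  rfl

/-- The subgroup. -/
noncomputable def U : Subgroup (Equiv.Perm (Fin 315)) := Subgroup.closure (Set.range sg)

lemma U_le : U ≤ lineGroup := (Subgroup.closure_le _).mpr (by rintro _ ⟨g, rfl⟩; exact sg_mem g)

lemma sg_memU (g : Fin 2) : sg g ∈ U := Subgroup.subset_closure ⟨g, rfl⟩

/-- A base point. -/
def bpt (k : Fin 3) : Fin 315 := ![0, 106, 1] k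

theorem bpt_val : ∀ k : Fin 3, (bpt k : ℕ) = basePt k := by decide +kernel

theorem base_ext {σ τ : Equiv.Perm (Fin 315)} (hσ : σ ∈ lineGroup) (hτ : τ ∈ lineGroup)
    (h : ∀ k : Fin 3, σ (bpt k) = τ (bpt k)) : σ = τ := by
  have h' : ∀ k, (τ⁻¹ * σ) (bpt k) = bpt k := fun k => by
    rw [Equiv.Perm.mul_apply, h, Equiv.Perm.inv_def, Equiv.symm_apply_apply]
  exact (inv_mul_eq_one.mp (eq_one_of_fix (mul_mem (inv_mem hτ) hσ) (h' 0) (h' 1) (h' 2))).symm

lemma mem012 (k : Fin 3) : (k : ℕ) ∈ [0, 1, 2] := by fin_cases k <;> simp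

lemma next_spec (g : Fin 2) {n : ℕ} (hn : n < 6048) : nextOK g n = true := by
  fin_cases g
  exacts [all_range next_zero hn, all_range next_one hn]

/-- The successor. -/
def nx (g : Fin 2) (n : Fin 6048) : Fin 6048 :=
  ⟨snext g n, by
    have h := next_spec g n.2
    simp only [nextOK, Bool.and_eq_true, Nat.blt_eq] at h
    exact h.1.1⟩

lemma img_nx (g : Fin 2) (n : Fin 6048) (k : Fin 3) : subApply g (img n k) = img (nx g n) k := by
  have h := next_spec g n.2
  simp only [nextOK, Bool.and_eq_true] at h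
  exact Nat.eq_of_beq_eq_true (List.all_eq_true.mp h.1.2 k (mem012 k))

lemma parent_spec (n : Fin 6048) : n = 0 ∨ ∃ g p, p.val < n.val ∧ nx g p = n := by
  have h := all_range parent_ok n.2
  simp only [parentOK, Bool.or_eq_true, Bool.and_eq_true, Nat.blt_eq] at h
  rcases h with e | ⟨⟨h1, h2⟩, h3⟩
  · exact Or.inl (Fin.ext (Nat.eq_of_beq_eq_true e))
  · exact Or.inr ⟨⟨_, h1⟩, ⟨_, h2.trans n.2⟩, h2, Fin.ext (Nat.eq_of_beq_eq_true h3)⟩

/-- Induction along the tree. -/
theorem tree_induction {motive : Fin 6048 → Prop} (h0 : motive 0) (hs : ∀ g p, motive p → motive (nx g p))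
    (n : Fin 6048) : motive n := by
  induction hv : n.val using Nat.strong_induction_on generalizing n with
  | _ m ih =>
    rcases parent_spec n with rfl | ⟨g, p, hp, rfl⟩
    · exact h0
    · exact hs g p (ih _ (hv ▸ hp) p rfl)

theorem exists_P : ∀ n : Fin 6048, ∃ σ ∈ U, ∀ k : Fin 3, (σ (bpt k) : ℕ) = img n k := by
  refine tree_induction ?_ ?_
  · refine ⟨1, one_mem _, fun k => ?_⟩
    obtain ⟨h0, h1, h2, -⟩ := base_ok
    fin_cases k
    exacts [h0.symm, h1.symm, h2.symm]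
  · rintro g p ⟨σ, hσ, h⟩
    refine ⟨sg g * σ, mul_mem (sg_memU g) hσ, fun k => ?_⟩
    rw [Equiv.Perm.mul_apply, sg_apply, h, img_nx]

/-- An element of the subgroup. -/
noncomputable def P (n : Fin 6048) : Equiv.Perm (Fin 315) := (exists_P n).choose
lemma P_mem (n : Fin 6048) : P n ∈ U := (exists_P n).choose_spec.1
lemma P_img (n : Fin 6048) (k : Fin 3) : (P n (bpt k) : ℕ) = img n k := (exists_P n).choose_spec.2 k

lemma P_zero : P 0 = 1 := by
  refine base_ext (U_le (P_mem 0)) (one_mem _) fun k => Fin.ext ?_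
  obtain ⟨h0, h1, h2, -⟩ := base_ok
  rw [P_img, Equiv.Perm.one_apply]
  fin_cases k
  exacts [h0, h1, h2]

lemma sg_P (g : Fin 2) (n : Fin 6048) : sg g * P n = P (nx g n) :=
  base_ext (mul_mem (sg_mem g) (U_le (P_mem n))) (U_le (P_mem _)) fun k => Fin.ext (by
    rw [Equiv.Perm.mul_apply, sg_apply, P_img, P_img, img_nx])

theorem key_lt {i j : ℕ} (hij : i < j) (hj : j < 6048) :
    imgKey (rowGet subSorted 13 i) < imgKey (rowGet subSorted 13 j) := by
  have step : ∀ m, m + 1 < 6048 → imgKey (rowGet subSorted 13 m) < imgKey (rowGet subSorted 13 (m + 1)) := by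
    intro m hm
    have h := all_range sorted_ok (show m < 6048 by omega)
    simp only [sortedOK, Bool.or_eq_true, Nat.blt_eq] at h
    rcases h with e | e
    · have := Nat.eq_of_beq_eq_true e; omega
    · exact e
  induction j with
  | zero => omega
  | succ j ih =>
    rcases Nat.lt_succ_iff_lt_or_eq.mp hij with h | rfl
    · exact (ih h (by omega)).trans (step j hj)
    · exact step i hj

theorem P_injective : Function.Injective P := by
  intro n m h
  have hk : imgKey n = imgKey m := by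
    have e : ∀ k : Fin 3, img n k = img m k := fun k => by rw [← P_img, ← P_img, h]
    have e0 : img n 0 = img m 0 := e 0
    have e1 : img n 1 = img m 1 := e 1
    have e2 : img n 2 = img m 2 := e 2
    rw [imgKey, imgKey, e0, e1, e2]
  have hn := all_range rank_ok n.2
  have hm := all_range rank_ok m.2
  simp only [rankOK, Bool.and_eq_true, Nat.blt_eq] at hn hm
  have hn2 := Nat.eq_of_beq_eq_true hn.2
  have hm2 := Nat.eq_of_beq_eq_true hm.2
  rcases lt_trichotomy (rowGet subRank 13 n) (rowGet subRank 13 m) with l | l | l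
  · exact absurd hk (by have := key_lt l hm.1; rw [hn2, hm2] at this; exact this.ne)
  · exact Fin.ext (by rw [← hn2, ← hm2, l])
  · exact absurd hk (by have := key_lt l hn.1; rw [hn2, hm2] at this; exact this.ne')

theorem U_eq {h : Equiv.Perm (Fin 315)} (hh : h ∈ U) : ∃ n, P n = h := by
  have hstep : ∀ (g : Fin 2) (m : ℕ) n, ∃ n', P n' = sg g ^ m * P n := by
    intro g m
    induction m with
    | zero => exact fun n => ⟨n, (one_mul _).symm⟩
    | succ m ih =>
      intro n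
      obtain ⟨n', hn'⟩ := ih n
      exact ⟨nx g n', by rw [← sg_P, hn', pow_succ', mul_assoc]⟩
  induction hh using Subgroup.closure_induction_left with
  | one => exact ⟨0, P_zero⟩
  | mul_left x hx y _ ih =>
    obtain ⟨g, rfl⟩ := hx
    obtain ⟨n, rfl⟩ := ih
    exact ⟨nx g n, (sg_P g n).symm⟩
  | inv_mul_cancel x hx y _ ih =>
    obtain ⟨g, rfl⟩ := hx
    obtain ⟨n, rfl⟩ := ih
    obtain ⟨n', hn'⟩ := hstep g (orderOf (sg g) - 1) n
    refine ⟨n', hn'.trans ?_⟩
    congr 1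
    refine eq_inv_of_mul_eq_one_left ?_
    rw [← pow_succ, Nat.sub_add_cancel (orderOf_pos _), pow_orderOf_eq_one]

theorem card_U : Nat.card U = 6048 := by
  rw [← Nat.card_fin 6048]
  refine (Nat.card_eq_of_bijective (fun n => (⟨P n, P_mem n⟩ : U)) ⟨?_, ?_⟩).symm
  · exact fun n m h => P_injective (congrArg Subtype.val h)
  · rintro ⟨h, hh⟩
    obtain ⟨n, rfl⟩ := U_eq hh
    exact ⟨n, rfl⟩

/-- The index of an element. -/
noncomputable def idx (h : U) : Fin 6048 := (U_eq h.2).choose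
lemma idx_spec (h : U) : P (idx h) = h.1 := (U_eq h.2).choose_spec
lemma idx_P (n : Fin 6048) : idx ⟨P n, P_mem n⟩ = n := P_injective (idx_spec _)

/-! ### Matrices -/

open UnitaryThreeSeven in
/-- A field code as a pair. -/
def gz (x : ℕ) : Gz := (((x % 3 : ℕ) : ZMod 3), ((x % 9 / 3 : ℕ) : ZMod 3))

open UnitaryThreeSeven in
/-- A matrix code as a matrix of pairs. -/
def dec9 (M : ℕ) : M9 := fun r s => gz (ent M r s)

theorem gz_add : ∀ x < 9, ∀ y < 9, gz (fadd x y) = UnitaryThreeSeven.gadd (gz x) (gz y) := by decide +kernel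
theorem gz_mul : ∀ x < 9, ∀ y < 9, gz (fmul x y) = UnitaryThreeSeven.gmul (gz x) (gz y) := by decide +kernel

lemma gz_mod (x : ℕ) : gz (x % 9) = gz x := by
  simp [gz, Nat.mod_mod_of_dvd x (by norm_num : 3 ∣ 9)]

lemma gz_fadd (x y : ℕ) : gz (fadd x y) = UnitaryThreeSeven.gadd (gz x) (gz y) := by
  rw [show fadd x y = fadd (x % 9) (y % 9) by simp [fadd],
    gz_add _ (Nat.mod_lt _ (by norm_num)) _ (Nat.mod_lt _ (by norm_num)), gz_mod, gz_mod]

lemma gz_fmul (x y : ℕ) : gz (fmul x y) = UnitaryThreeSeven.gmul (gz x) (gz y) := by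
  rw [show fmul x y = fmul (x % 9) (y % 9) by simp [fmul],
    gz_mul _ (Nat.mod_lt _ (by norm_num)) _ (Nat.mod_lt _ (by norm_num)), gz_mod, gz_mod]

lemma dec9_prod (A B : ℕ) (r s : Fin 3) :
    gz (prodEnt A B r s) = UnitaryThreeSeven.mul9 (dec9 A) (dec9 B) r s := by
  simp only [prodEnt, gz_fadd, gz_fmul]
  rfl

lemma mem_cells (r s : Fin 3) : ((r : ℕ), (s : ℕ)) ∈ cells := by fin_cases r <;> fin_cases s <;> simp [cells]

lemma dec9_nx (g : Fin 2) (n : Fin 6048) :
    dec9 (mat (nx g n)) = UnitaryThreeSeven.mul9 (dec9 (genMatrix.getD g 0)) (dec9 (mat n)) := by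
  funext r s
  have h := next_spec g n.2
  simp only [nextOK, Bool.and_eq_true] at h
  have h2 := Nat.eq_of_beq_eq_true (List.all_eq_true.mp h.2 _ (mem_cells r s))
  rw [← dec9_prod]
  exact (congrArg gz h2).symm

theorem dec9_one : dec9 (mat 0) = UnitaryThreeSeven.one9 := by decide +kernel

theorem gen_ok : ∀ g : Fin 2, UnitaryThreeSeven.det9 (dec9 (genMatrix.getD g 0)) = (1, 0) ∧
    UnitaryThreeSeven.mul9 (UnitaryThreeSeven.tr9 (dec9 (genMatrix.getD g 0)))
      (UnitaryThreeSeven.conj9 (dec9 (genMatrix.getD g 0))) = UnitaryThreeSeven.one9 := by decide +kernel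

theorem gz_inj : ∀ x < 9, ∀ y < 9, gz x = gz y → x = y := by decide +kernel

theorem ent_lt : ((List.range 6048).all fun n => cells.all fun rs => Nat.blt (ent (mat n) rs.1 rs.2) 9) = true := by
  decide +kernel

theorem fadd_lt : ∀ x < 9, ∀ y < 9, fadd x y < 9 := by decide +kernel

lemma prodEnt_lt (A B r s : ℕ) : prodEnt A B r s < 9 := by
  have h := fun x y => fadd_lt (x % 9) (Nat.mod_lt _ (by norm_num)) (y % 9) (Nat.mod_lt _ (by norm_num))
  rw [prodEnt]
  simpa [fadd] using h (fadd (fmul (ent A r 0) (ent B 0 s)) (fmul (ent A r 1) (ent B 1 s))) (fmul (ent A r 2) (ent B 2 s))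

theorem eq_zero_of_central {n : Fin 6048}
    (h : ∀ g : Fin 2, dec9 (mat (nx g n)) = UnitaryThreeSeven.mul9 (dec9 (mat n)) (dec9 (genMatrix.getD g 0))) :
    n = 0 := by
  have hc := all_range centre_ok n.2
  simp only [centreOK, Bool.or_eq_true] at hc
  rcases hc with e | e
  · exact Fin.ext (Nat.eq_of_beq_eq_true e)
  exfalso
  have key : ∀ (g : Fin 2) (r s : Fin 3),
      ent (mat (snext g n)) r s = prodEnt (mat n) (genMatrix.getD g 0) r s := by
    intro g r s
    have e1 : gz (ent (mat (snext g n)) r s) = gz (prodEnt (mat n) (genMatrix.getD g 0) r s) := by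
      rw [dec9_prod]; exact congrFun (congrFun (h g) r) s
    have e2 := List.all_eq_true.mp (all_range ent_lt (nx g n).2) _ (mem_cells r s)
    rw [Nat.blt_eq] at e2
    exact gz_inj _ e2 _ (prodEnt_lt _ _ _ _) e1
  obtain ⟨g, hg, hg2⟩ := List.any_eq_true.mp e
  obtain ⟨rs, hrs, hne⟩ := List.any_eq_true.mp hg2
  have hg' : g < 2 := by fin_cases hg <;> norm_num
  have hr : rs.1 < 3 ∧ rs.2 < 3 := (by decide : ∀ q ∈ cells, q.1 < 3 ∧ q.2 < 3) rs hrs
  have h1 := key ⟨g, hg'⟩ ⟨rs.1, hr.1⟩ ⟨rs.2, hr.2⟩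
  simp only at h1
  rw [h1, Nat.beq_refl] at hne
  exact Bool.noConfusion hne

section Field

variable {F : Type} [Field F] [CharP F 3] (i : F) (hi : i ^ 2 = -1)

/-- The matrix of an element. -/
noncomputable def mrep (h : U) : Matrix (Fin 3) (Fin 3) F := UnitaryThreeSeven.toF i (dec9 (mat (idx h)))

lemma mrep_P (n : Fin 6048) : mrep i ⟨P n, P_mem n⟩ = UnitaryThreeSeven.toF i (dec9 (mat n)) := by
  rw [mrep, idx_P]

lemma mrep_one : mrep i 1 = 1 := by
  rw [show (1 : U) = ⟨P 0, P_mem 0⟩ from Subtype.ext P_zero.symm, mrep_P, show ((0 : Fin 6048) : ℕ) = 0 from rfl,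
    dec9_one, UnitaryThreeSeven.toF_one]

/-- A generator as an element of the subgroup. -/
noncomputable def sgU (g : Fin 2) : U := ⟨sg g, sg_memU g⟩

lemma sgU_mul (g : Fin 2) (p : Fin 6048) : sgU g * ⟨P p, P_mem p⟩ = ⟨P (nx g p), P_mem _⟩ :=
  Subtype.ext (sg_P g p)

include hi in
lemma mrep_gen_mul (g : Fin 2) (y : U) :
    mrep i (sgU g * y) = UnitaryThreeSeven.toF i (dec9 (genMatrix.getD g 0)) * mrep i y := by
  obtain ⟨n, hn⟩ := U_eq y.2
  obtain rfl : y = ⟨P n, P_mem n⟩ := Subtype.ext hn.symm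
  rw [sgU_mul, mrep_P, mrep_P, dec9_nx, UnitaryThreeSeven.toF_mul i hi]

include hi in
lemma mrep_mul (x y : U) : mrep i (x * y) = mrep i x * mrep i y := by
  obtain ⟨n, hn⟩ := U_eq x.2
  obtain rfl : x = ⟨P n, P_mem n⟩ := Subtype.ext hn.symm
  clear hn
  induction n using tree_induction with
  | h0 =>
    rw [show (⟨P 0, P_mem 0⟩ : U) = 1 from Subtype.ext P_zero, one_mul, mrep_one, one_mul]
  | hs g p ih =>
    rw [← sgU_mul, mul_assoc, mrep_gen_mul i hi, mrep_gen_mul i hi, ih, mul_assoc]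

/-- The matrix homomorphism. -/
noncomputable def mhom : U →* Matrix (Fin 3) (Fin 3) F where
  toFun := mrep i
  map_one' := mrep_one i
  map_mul' := mrep_mul i hi

include hi in
lemma mhom_gen (g : Fin 2) : mhom i hi (sgU g) = UnitaryThreeSeven.toF i (dec9 (genMatrix.getD g 0)) := by
  have h := mrep_gen_mul i hi g 1
  rw [mul_one, mrep_one, mul_one] at h
  exact h

include hi in
theorem mhom_det (x : U) : (mhom i hi x).det = 1 := by
  obtain ⟨n, hn⟩ := U_eq x.2
  obtain rfl : x = ⟨P n, P_mem n⟩ := Subtype.ext hn.symm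
  clear hn
  induction n using tree_induction with
  | h0 => rw [show (⟨P 0, P_mem 0⟩ : U) = 1 from Subtype.ext P_zero, map_one, det_one]
  | hs g p ih =>
    rw [← sgU_mul, map_mul, det_mul, ih, mul_one, mhom_gen, UnitaryThreeSeven.toF_det i hi, (gen_ok g).1,
      UnitaryThreeSeven.iota_one]

/-- The map to the special linear group. -/
noncomputable def shom : U →* SpecialLinearGroup (Fin 3) F where
  toFun x := ⟨mhom i hi x, mhom_det i hi x⟩
  map_one' := Subtype.ext (map_one _)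
  map_mul' x y := Subtype.ext (map_mul _ x y)

include hi in
theorem shom_mem (x : U) : shom i hi x ∈ Cfsg.SU 3 F 3 := by
  obtain ⟨n, hn⟩ := U_eq x.2
  obtain rfl : x = ⟨P n, P_mem n⟩ := Subtype.ext hn.symm
  clear hn
  induction n using tree_induction with
  | h0 => rw [show (⟨P 0, P_mem 0⟩ : U) = 1 from Subtype.ext P_zero, map_one]; exact one_mem _
  | hs g p ih =>
    rw [← sgU_mul, map_mul]
    refine mul_mem ?_ ih
    intro u v
    haveI : Fact (Nat.Prime 3) := ⟨Nat.prime_three⟩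
    haveI : ExpChar F 3 := ExpChar.prime Nat.prime_three
    rw [show Cfsg.slToMat 3 F (shom i hi (sgU g)) = UnitaryThreeSeven.toF i (dec9 (genMatrix.getD g 0)) from
      mhom_gen i hi g]
    set A := dec9 (genMatrix.getD g 0) with hA
    have hU : (UnitaryThreeSeven.toF i A)ᵀ * (UnitaryThreeSeven.toF i A).map (fun x => x ^ 3) = 1 := by
      have e1 : (UnitaryThreeSeven.toF i A)ᵀ = UnitaryThreeSeven.toF i (UnitaryThreeSeven.tr9 A) := rfl
      have e2 : (UnitaryThreeSeven.toF i A).map (fun x => x ^ 3) =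
          UnitaryThreeSeven.toF i (UnitaryThreeSeven.conj9 A) := by
        ext r s
        exact (UnitaryThreeSeven.iota_conj i hi (A r s)).symm
      rw [e1, e2, ← UnitaryThreeSeven.toF_mul i hi, (gen_ok g).2, UnitaryThreeSeven.toF_one]
    have hf : ∀ x y : Fin 3 → F, Cfsg.hermForm 3 F 3 x y = x ⬝ᵥ fun r => y r ^ 3 := fun _ _ => rfl
    have hp : (fun r => (UnitaryThreeSeven.toF i A *ᵥ v) r ^ 3) =
        (UnitaryThreeSeven.toF i A).map (fun x => x ^ 3) *ᵥ fun r => v r ^ 3 := by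
      funext r
      simp only [Matrix.mulVec, dotProduct, Fin.sum_univ_three, add_pow_expChar, mul_pow, Matrix.map_apply]
    rw [hf, hf, hp, ← Matrix.vecMul_transpose, ← Matrix.dotProduct_mulVec, Matrix.mulVec_mulVec, hU,
      Matrix.one_mulVec]

/-- The map to the unitary group. -/
noncomputable def uhom : U →* Cfsg.SU 3 F 3 := (shom i hi).codRestrict _ (shom_mem i hi)

include hi in
theorem eq_one_of_central {x : U} (hx : ∀ g, mhom i hi (sgU g) * mhom i hi x = mhom i hi x * mhom i hi (sgU g)) :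
    x = 1 := by
  obtain ⟨n, hn⟩ := U_eq x.2
  obtain rfl : x = ⟨P n, P_mem n⟩ := Subtype.ext hn.symm
  have h0 : n = 0 := eq_zero_of_central fun g => by
    refine UnitaryThreeSeven.toF_injective i hi ?_
    have h := hx g
    rw [← map_mul, sgU_mul, mhom_gen, show mhom i hi ⟨P (nx g n), P_mem _⟩ = _ from mrep_P i _,
      show mhom i hi ⟨P n, P_mem n⟩ = _ from mrep_P i _, ← UnitaryThreeSeven.toF_mul i hi] at h
    exact h
  subst h0
  exact Subtype.ext P_zero

end Field

theorem equiv_PSU (F : Type) [Field F] [Fintype F] (hF : Fintype.card F = 9) :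
    Nonempty (U ≃* Cfsg.PSU 3 F 3) := by
  classical
  haveI : CharP F 3 := by
    haveI : Fact (Nat.Prime 3) := ⟨Nat.prime_three⟩
    exact charP_of_card_eq_prime_pow (f := 2) (by rw [hF]; norm_num)
  obtain ⟨i, hi0⟩ := (FiniteField.isSquare_neg_one_iff (F := F)).2 (by rw [hF]; norm_num)
  have hi : i ^ 2 = -1 := by rw [sq]; exact hi0.symm
  have hinj : Function.Injective (uhom i hi) := by
    rw [← MonoidHom.ker_eq_bot_iff, eq_bot_iff]
    intro x hx
    rw [Subgroup.mem_bot]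
    have h1 : mhom i hi x = 1 := congrArg (fun y : Cfsg.SU 3 F 3 => y.1.1) (MonoidHom.mem_ker.mp hx)
    exact eq_one_of_central i hi fun g => by rw [h1, mul_one, one_mul]
  let e : U ≃* Cfsg.SU 3 F 3 := MulEquiv.ofBijective (uhom i hi)
    ((Nat.bijective_iff_injective_and_card _).mpr ⟨hinj, by rw [card_U, DegGraphU33.card_SU33 hF]⟩)
  have hcen : Subgroup.center (Cfsg.SU 3 F 3) = ⊥ := by
    rw [eq_bot_iff]
    intro z hz
    rw [Subgroup.mem_bot]
    obtain ⟨x, rfl⟩ := e.surjective z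
    rw [eq_one_of_central i hi (x := x) fun g => ?_, map_one]
    exact congrArg (fun y : Cfsg.SU 3 F 3 => y.1.1) (Subgroup.mem_center_iff.mp hz (e (sgU g)))
  exact ⟨e.trans (QuotientGroup.quotientBot.symm.trans (QuotientGroup.quotientMulEquivOfEq hcen.symm))⟩

/-! ### Cosets -/

theorem exists_R : ∀ i : Fin 100, ∃ σ ∈ lineGroup, Rep (crep i) σ := by
  intro i
  induction hv : i.val using Nat.strong_induction_on generalizing i with
  | _ m ih =>
    have h := all_range crep_ok i.2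
    simp only [crepOK, Bool.or_eq_true, Bool.and_eq_true, Nat.blt_eq] at h
    rw [← hv]
    rcases h with ⟨-, h1⟩ | ⟨⟨hg, hp⟩, h1⟩
    · exact ⟨1, one_mem _, rep_id h1⟩
    · obtain ⟨σ, hσ, hr⟩ := ih _ (hv ▸ hp) ⟨_, hp.trans i.2⟩ rfl
      exact ⟨gperm ⟨_, hg⟩ * σ, mul_mem (gperm_mem _) hσ, rep_comp h1 (rep_gperm ⟨_, hg⟩) hr⟩

/-- A coset representative. -/
noncomputable def R (i : Fin 100) : Equiv.Perm (Fin 315) := (exists_R i).choose
lemma R_mem (i : Fin 100) : R i ∈ lineGroup := (exists_R i).choose_spec.1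
lemma R_rep (i : Fin 100) : Rep (crep i) (R i) := (exists_R i).choose_spec.2

lemma gperm_R (g : Fin 4) (i : Fin 100) : ∃ (j : Fin 100) (n : Fin 6048), gperm g * R i = R j * P n := by
  have h := all_range (all_range cnext_ok g.2) i.2
  simp only [cnextOK, Bool.and_eq_true, Nat.blt_eq] at h
  obtain ⟨⟨hj, hn⟩, he⟩ := h
  refine ⟨⟨_, hj⟩, ⟨_, hn⟩, base_ext (mul_mem (gperm_mem _) (R_mem _))
    (mul_mem (R_mem _) (U_le (P_mem _))) fun k => Fin.ext ?_⟩
  have := Nat.eq_of_beq_eq_true (List.all_eq_true.mp he k (mem012 k))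
  rw [Equiv.Perm.mul_apply, Equiv.Perm.mul_apply, rep_gperm g _, R_rep, R_rep, P_img, bpt_val]
  exact this

lemma sg_R (g : Fin 2) (i : Fin 100) : ∃ (j : Fin 100) (n : Fin 6048), (j : ℕ) = csub g i / 8192 ∧
    clabel j = clabel i ∧ sg g * R i = R j * P n := by
  have h := all_range (all_range csub_ok g.2) i.2
  simp only [csubOK, Bool.and_eq_true, Nat.blt_eq] at h
  obtain ⟨⟨⟨hj, hn⟩, hl⟩, he⟩ := h
  refine ⟨⟨_, hj⟩, ⟨_, hn⟩, rfl, Nat.eq_of_beq_eq_true hl, base_ext (mul_mem (sg_mem _) (R_mem _))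
    (mul_mem (R_mem _) (U_le (P_mem _))) fun k => Fin.ext ?_⟩
  have := Nat.eq_of_beq_eq_true (List.all_eq_true.mp he k (mem012 k))
  rw [Equiv.Perm.mul_apply, Equiv.Perm.mul_apply, sg_apply, R_rep, R_rep, P_img, bpt_val]
  exact this

theorem factor_R {σ : Equiv.Perm (Fin 315)} (hσ : σ ∈ lineGroup) : ∃ i, ∃ h ∈ U, σ = R i * h := by
  have step : ∀ g i, ∀ h ∈ U, ∃ j, ∃ h' ∈ U, gperm g * (R i * h) = R j * h' := by
    intro g i h hh
    obtain ⟨j, n, e⟩ := gperm_R g i
    exact ⟨j, P n * h, mul_mem (P_mem n) hh, by rw [← mul_assoc, e, mul_assoc]⟩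
  induction hσ using Subgroup.closure_induction_left with
  | one =>
    refine ⟨0, 1, one_mem _, ?_⟩
    rw [mul_one]
    refine (Equiv.ext fun p => Fin.ext ?_).symm
    rw [R_rep, Equiv.Perm.one_apply]
    have h : onPoints (fun p => Nat.beq (at9 (crep 0) p) p) = true := by decide +kernel
    exact Nat.eq_of_beq_eq_true (all_range h p.2)
  | mul_left x hx y _ ih =>
    obtain ⟨g, rfl⟩ := hx
    obtain ⟨i, h, hh, rfl⟩ := ih
    exact step g i h hh
  | inv_mul_cancel x hx y _ ih =>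
    obtain ⟨g, rfl⟩ := hx
    have hinv : (gperm g)⁻¹ = gperm g := Equiv.ext fun p => by rw [Equiv.Perm.inv_def]; rfl
    rw [hinv]
    obtain ⟨i, h, hh, rfl⟩ := ih
    exact step g i h hh

/-- The subgroup of `J2`. -/
noncomputable def H : Subgroup Cfsg.Spor.J2 :=
  (U.subgroupOf lineGroup).map toLineGroup.symm.toMonoidHom

/-- The subgroup of `J2` is `U`. -/
noncomputable def eqvH : H ≃* U :=
  (Subgroup.equivMapOfInjective _ _ toLineGroup.symm.injective).symm.trans (Subgroup.subgroupOfEquivOfLe U_le)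

theorem index_H : H.index = 100 := by
  have h := H.index_mul_card
  rw [Nat.card_congr eqvH.toEquiv, card_U, card_J2] at h
  omega

/-- An element of `J2` from a permutation of lines. -/
noncomputable def elt (σ : Equiv.Perm (Fin 315)) (hσ : σ ∈ lineGroup) : Cfsg.Spor.J2 := toLineGroup.symm ⟨σ, hσ⟩

lemma elt_mul {σ τ : Equiv.Perm (Fin 315)} (hσ : σ ∈ lineGroup) (hτ : τ ∈ lineGroup) :
    elt (σ * τ) (mul_mem hσ hτ) = elt σ hσ * elt τ hτ := by
  rw [elt, elt, elt, ← map_mul]; rfl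

lemma elt_mem {σ : Equiv.Perm (Fin 315)} (h : σ ∈ U) : elt σ (U_le h) ∈ H :=
  Subgroup.mem_map.mpr ⟨⟨σ, U_le h⟩, Subgroup.mem_subgroupOf.mpr h, rfl⟩

/-- A coset. -/
noncomputable def cst (i : Fin 100) : Cfsg.Spor.J2 ⧸ H := QuotientGroup.mk (elt (R i) (R_mem i))

lemma mk_mul_right {x u : Cfsg.Spor.J2} (hu : u ∈ H) :
    (QuotientGroup.mk (x * u) : Cfsg.Spor.J2 ⧸ H) = QuotientGroup.mk x :=
  QuotientGroup.eq.mpr (by simpa using hu)

theorem cst_bijective : Function.Bijective cst := by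
  have hs : Function.Surjective cst := by
    intro c
    obtain ⟨x, rfl⟩ := QuotientGroup.mk_surjective c
    obtain ⟨i, h, hh, e⟩ := factor_R (toLineGroup x).2
    refine ⟨i, ?_⟩
    have hx : x = elt (R i) (R_mem i) * elt h (U_le hh) := by
      rw [← elt_mul, elt, MulEquiv.eq_symm_apply]
      exact Subtype.ext e
    rw [hx, mk_mul_right (elt_mem hh)]
    rfl
  refine (Nat.bijective_iff_surjective_and_card _).mpr ⟨hs, ?_⟩
  rw [Nat.card_fin, ← Subgroup.index_eq_card, index_H]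

theorem orbit_ncard (t : ℕ × ℕ) (hroot : t.2 < 100) (hlab : clabel t.2 = t.1)
    (hok : (List.range 100).all (orbitOK t) = true) :
    (MulAction.orbit H (cst ⟨t.2, hroot⟩)).ncard =
      (Finset.univ.filter fun i : Fin 100 => clabel i = t.1).card := by
  classical
  rw [show MulAction.orbit H (cst ⟨t.2, hroot⟩) =
      cst '' ↑(Finset.univ.filter fun i : Fin 100 => clabel i = t.1) from ?_,
    Set.ncard_image_of_injective _ cst_bijective.1, Set.ncard_coe_finset]
  have hgen : ∀ (g : Fin 2) (i : Fin 100), ∃ j : Fin 100, (j : ℕ) = csub g i / 8192 ∧ clabel j = clabel i ∧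
      (⟨elt (sg g) (sg_mem g), elt_mem (sg_memU g)⟩ : H) • cst i = cst j := by
    intro g i
    obtain ⟨j, n, hj, hl, e⟩ := sg_R g i
    refine ⟨j, hj, hl, ?_⟩
    show QuotientGroup.mk (elt (sg g) (sg_mem g) * elt (R i) (R_mem i)) = _
    rw [← elt_mul]
    simp only [e]
    rw [elt_mul (R_mem j) (U_le (P_mem n)), mk_mul_right (elt_mem (P_mem n))]
    rfl
  refine Set.ext fun c => ⟨?_, ?_⟩
  · rintro ⟨⟨x, hx⟩, rfl⟩
    obtain ⟨⟨σ, hσ⟩, hσU, rfl⟩ := Subgroup.mem_map.mp hx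
    obtain ⟨n, rfl⟩ := U_eq (Subgroup.mem_subgroupOf.mp hσU)
    suffices h : ∀ n, ∃ j : Fin 100, clabel j = t.1 ∧
        (⟨elt (P n) (U_le (P_mem n)), elt_mem (P_mem n)⟩ : H) • cst ⟨t.2, hroot⟩ = cst j by
      obtain ⟨j, hj, e⟩ := h n
      exact ⟨j, Finset.mem_coe.mpr (Finset.mem_filter.mpr ⟨Finset.mem_univ _, hj⟩), e.symm⟩
    refine tree_induction ?_ ?_
    · refine ⟨⟨t.2, hroot⟩, hlab, ?_⟩
      rw [show (⟨elt (P 0) (U_le (P_mem 0)), elt_mem (P_mem 0)⟩ : H) = 1 from Subtype.ext (by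
        show elt (P 0) _ = 1
        simp only [P_zero]
        exact map_one toLineGroup.symm), one_smul]
    · rintro g p ⟨j, hj, e⟩
      obtain ⟨j', -, hl, e'⟩ := hgen g j
      refine ⟨j', hl.trans hj, ?_⟩
      rw [show (⟨elt (P (nx g p)) (U_le (P_mem _)), elt_mem (P_mem _)⟩ : H) =
        ⟨elt (sg g) (sg_mem g), elt_mem (sg_memU g)⟩ * ⟨elt (P p) (U_le (P_mem p)), elt_mem (P_mem p)⟩ from
          Subtype.ext (by
            show elt (P (nx g p)) _ = _ * _
            rw [← elt_mul]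
            simp only [sg_P]), mul_smul, e, e']
  · rintro ⟨i, hi, rfl⟩
    rw [Finset.mem_coe, Finset.mem_filter] at hi
    have key : ∀ d, ∀ i : Fin 100, clabel i = t.1 → (cosetOrbit.getD i (0, 0, 0)).2.2 = d →
        cst i ∈ MulAction.orbit H (cst ⟨t.2, hroot⟩) := by
      intro d
      induction d using Nat.strong_induction_on with
      | _ d ih =>
        intro i hl hd
        have h := all_range hok i.2
        simp only [orbitOK, Bool.or_eq_true, Bool.and_eq_true, Nat.blt_eq, Bool.not_eq_true'] at h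
        rcases h with (e | e) | ⟨⟨⟨⟨hg, hp⟩, hlp⟩, hdlt⟩, he⟩
        · rw [show i = ⟨t.2, hroot⟩ from Fin.ext (Nat.eq_of_beq_eq_true e)]
          exact MulAction.mem_orbit_self _
        · rw [hl, Nat.beq_refl] at e
          exact Bool.noConfusion e
        · obtain ⟨j, hj, -, e⟩ := hgen ⟨_, hg⟩ ⟨_, hp⟩
          obtain rfl : i = j := Fin.ext ((Nat.eq_of_beq_eq_true he).symm.trans hj.symm)
          rw [← e]
          obtain ⟨u, hu⟩ := MulAction.mem_orbit_iff.mp
            (ih _ (hd ▸ hdlt) ⟨_, hp⟩ (Nat.eq_of_beq_eq_true hlp) rfl)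
          exact MulAction.mem_orbit_iff.mpr ⟨_ * u, by rw [mul_smul, hu]⟩
    exact key _ i hi.2 rfl

/-- The subgroup of index 100. -/
theorem main : ∃ H : Subgroup Cfsg.Spor.J2, H.index = 100 ∧
    (∃ (F : Type) (_ : Field F) (_ : Fintype F), Fintype.card F = 9 ∧ Nonempty (↥H ≃* Cfsg.PSU 3 F 3)) ∧
    ∃ c₁ c₂ : Cfsg.Spor.J2 ⧸ H, (MulAction.orbit ↥H c₁).ncard = 36 ∧ (MulAction.orbit ↥H c₂).ncard = 63 := by
  classical
  haveI : Fact (Nat.Prime 3) := ⟨Nat.prime_three⟩
  letI : Fintype (GaloisField 3 2) := Fintype.ofFinite _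
  have hF : Fintype.card (GaloisField 3 2) = 9 := by
    rw [← Nat.card_eq_fintype_card, GaloisField.card 3 2 two_ne_zero]; norm_num
  obtain ⟨e⟩ := equiv_PSU (GaloisField 3 2) hF
  obtain ⟨h1, h2, h3, h4, h5, h6⟩ := orbit_card
  refine ⟨H, index_H, ⟨_, inferInstance, inferInstance, hF, ⟨eqvH.trans e⟩⟩, cst ⟨_, h1⟩, cst ⟨_, h2⟩, ?_, ?_⟩
  · rw [orbit_ncard _ h1 h3 orbit_ok.1, h5]
  · rw [orbit_ncard _ h2 h4 orbit_ok.2, h6]

end Cfsg.Agent.J2U33
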