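import Cfsg.Agent.Lib.J2U33Defs

set_option autoImplicit false
set_option maxRecDepth 100000

/-! Finite checks for the subgroup of index 100. -/

namespace Cfsg.Agent.J2U33Check

open Cfsg.Agent.J2U33Data Cfsg.Agent.J2U33Defs

theorem next_zero : (List.range 6048).all (nextOK 0) = true := by decide +kernel
theorem next_one : (List.range 6048).all (nextOK 1) = true := by decide +kernel
theorem parent_ok : (List.range 6048).all parentOK = true := by decide +kernel
theorem sorted_ok : (List.range 6048).all sortedOK = true := by decide +kernel
theorem rank_ok : (List.range 6048).all rankOK = true := by decide +kernel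
theorem centre_ok : (List.range 6048).all centreOK = true := by decide +kernel
theorem base_ok : img 0 0 = 0 ∧ img 0 1 = 106 ∧ img 0 2 = 1 ∧
    cells.all (fun rs => Nat.beq (ent (mat 0) rs.1 rs.2) (if rs.1 = rs.2 then 1 else 0)) = true := by decide +kernel
theorem crep_ok : (List.range 100).all crepOK = true := by decide +kernel
theorem cnext_ok : ((List.range 4).all fun g => (List.range 100).all (cnextOK g)) = true := by decide +kernel
theorem csub_ok : ((List.range 2).all fun g => (List.range 100).all (csubOK g)) = true := by decide +kernel
theorem orbit_ok : (List.range 100).all (orbitOK orbit36) = true ∧ (List.range 100).all (orbitOK orbit63) = true := by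
  decide +kernel
theorem orbit_card : orbit36.2 < 100 ∧ orbit63.2 < 100 ∧ clabel orbit36.2 = orbit36.1 ∧ clabel orbit63.2 = orbit63.1 ∧
    (Finset.univ.filter fun i : Fin 100 => clabel i = orbit36.1).card = 36 ∧
    (Finset.univ.filter fun i : Fin 100 => clabel i = orbit63.1).card = 63 := by decide +kernel

end Cfsg.Agent.J2U33Check
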