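import Cfsg.Agent.Lib.J2ChainDefs
import Cfsg.Agent.Lib.J2U33Data

set_option autoImplicit false
set_option maxRecDepth 100000

/-! Accessors and checks for the subgroup of index 100. -/

namespace Cfsg.Agent.J2U33Defs

open Cfsg.Agent.J2VectorData Cfsg.Agent.J2ChainData Cfsg.Agent.J2ChainDefs Cfsg.Agent.J2U33Data

/-- An entry of a list of packed rows of 64. -/
def rowGet (l : List ℕ) (w n : ℕ) : ℕ := (l.getD (n / 64) 0 >>> (w * (n % 64))) % 2 ^ w
/-- A generator of the subgroup at a point. -/
def subApply (g i : ℕ) : ℕ :=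
  let c := subGens.getD g (0, 0, 0)
  at9 (t1 c.1) (at9 (t2 c.2.1) (at9 (t3 c.2.2) i))
/-- The image of a base point, by position. -/
def img (n k : ℕ) : ℕ := (rowGet baseImage 27 n >>> (9 * k)) % 512
/-- The base. -/
def basePt (k : ℕ) : ℕ := if k = 0 then 0 else if k = 1 then 106 else 1
/-- Successor. -/
def snext (g n : ℕ) : ℕ := rowGet (subNext.getD g []) 13 n
/-- Parent with generator. -/
def spar (n : ℕ) : ℕ := rowGet subTree 14 n
/-- A matrix code. -/
def mat (n : ℕ) : ℕ := rowGet subMatrix 36 n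
/-- An entry of a matrix code. -/
def ent (M r s : ℕ) : ℕ := (M >>> (4 * (3 * r + s))) % 16
/-- Sum of field codes. -/
def fadd (x y : ℕ) : ℕ := (addTable >>> (4 * (9 * (x % 9) + y % 9))) % 16
/-- Product of field codes. -/
def fmul (x y : ℕ) : ℕ := (mulTable >>> (4 * (9 * (x % 9) + y % 9))) % 16
/-- An entry of a product. -/
def prodEnt (A B r s : ℕ) : ℕ :=
  fadd (fadd (fmul (ent A r 0) (ent B 0 s)) (fmul (ent A r 1) (ent B 1 s))) (fmul (ent A r 2) (ent B 2 s))
/-- All pairs of indices below three. -/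
def cells : List (ℕ × ℕ) := [(0, 0), (0, 1), (0, 2), (1, 0), (1, 1), (1, 2), (2, 0), (2, 1), (2, 2)]

/-- The successor of an element is a product by a generator, on the base and as matrices. -/
def nextOK (g n : ℕ) : Bool :=
  let m := snext g n
  let A := genMatrix.getD g 0
  let B := mat n
  let C := mat m
  Nat.blt m 6048 &&
    [0, 1, 2].all (fun k => Nat.beq (subApply g (img n k)) (img m k)) &&
    cells.all (fun rs => Nat.beq (prodEnt A B rs.1 rs.2) (ent C rs.1 rs.2))
/-- Every element has a parent. -/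
def parentOK (n : ℕ) : Bool :=
  Nat.beq n 0 || (Nat.blt (spar n / 8192) 2 && Nat.blt (spar n % 8192) n &&
    Nat.beq (snext (spar n / 8192) (spar n % 8192)) n)
/-- The key of an element. -/
def imgKey (n : ℕ) : ℕ := img n 0 + 512 * img n 1 + 262144 * img n 2
/-- The order is strict. -/
def sortedOK (i : ℕ) : Bool :=
  Nat.beq i 6047 || Nat.blt (imgKey (rowGet subSorted 13 i)) (imgKey (rowGet subSorted 13 (i + 1)))
/-- The rank is inverse to the order. -/
def rankOK (n : ℕ) : Bool :=
  Nat.blt (rowGet subRank 13 n) 6048 && Nat.beq (rowGet subSorted 13 (rowGet subRank 13 n)) n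
/-- Nothing but the identity is central or has the identity matrix. -/
def centreOK (n : ℕ) : Bool :=
  Nat.beq n 0 || ([0, 1].any fun g => cells.any fun rs =>
    !Nat.beq (ent (mat (snext g n)) rs.1 rs.2) (prodEnt (mat n) (genMatrix.getD g 0) rs.1 rs.2))

/-- A coset representative. -/
def crep (i : ℕ) : ℕ := cosetRep.getD i 0
/-- Coset successor under an ambient generator. -/
def cnext (g i : ℕ) : ℕ := (cosetNext.getD g 0 >>> (20 * i)) % 1048576
/-- Coset successor under a subgroup generator. -/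
def csub (g i : ℕ) : ℕ := (cosetSub.getD g 0 >>> (20 * i)) % 1048576
/-- The label of a coset. -/
def clabel (i : ℕ) : ℕ := (cosetLabel >>> (2 * i)) % 4
/-- Representatives form a tree. -/
def crepOK (i : ℕ) : Bool :=
  let R := crep i
  (Nat.beq i 0 && onPoints fun p => Nat.beq (at9 R p) p) ||
    (let t := cosetTree.getD i (0, 0)
     let R' := crep t.2
     let G := gp t.1
     Nat.blt t.1 4 && Nat.blt t.2 i && onPoints fun p => Nat.beq (at9 R p) (at9 G (at9 R' p)))
/-- Ambient generators permute the cosets. -/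
def cnextOK (g i : ℕ) : Bool :=
  let e := cnext g i
  Nat.blt (e / 8192) 100 && Nat.blt (e % 8192) 6048 &&
    [0, 1, 2].all fun k => Nat.beq (at9 (gp g) (at9 (crep i) (basePt k))) (at9 (crep (e / 8192)) (img (e % 8192) k))
/-- Subgroup generators permute the cosets within a suborbit. -/
def csubOK (g i : ℕ) : Bool :=
  let e := csub g i
  Nat.blt (e / 8192) 100 && Nat.blt (e % 8192) 6048 && Nat.beq (clabel (e / 8192)) (clabel i) &&
    [0, 1, 2].all fun k => Nat.beq (subApply g (at9 (crep i) (basePt k))) (at9 (crep (e / 8192)) (img (e % 8192) k))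
/-- Suborbits are connected. -/
def orbitOK (t : ℕ × ℕ) (i : ℕ) : Bool :=
  let w := cosetOrbit.getD i (0, 0, 0)
  let d := (cosetOrbit.getD w.2.1 (0, 0, 0)).2.2
  Nat.beq i t.2 || !Nat.beq (clabel i) t.1 ||
    (Nat.blt w.1 2 && Nat.blt w.2.1 100 && Nat.beq (clabel w.2.1) t.1 && Nat.blt d w.2.2 &&
      Nat.beq (csub w.1 w.2.1 / 8192) i)

end Cfsg.Agent.J2U33Defs
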