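import Cfsg.Agent.Lib.J3InvCore90
import Cfsg.Agent.Lib.PGroupsBasic
import Cfsg.Agent.Lib.FusionSimpleCrit
import Cfsg.Prelude.Def_Transfer

/-! The statements about involutions and 2-fusion in the third Janko group. -/

set_option autoImplicit false
set_option maxRecDepth 100000

namespace Cfsg.Agent.J3InvThm90

open J3InvTable90 J3InvLift90 J3InvCore90
open Cfsg.Spor
open scoped commutatorElement

/-- A group of order 32 with this table is extraspecial. -/
theorem extraspecial_of_table {G : Type*} [Group G] (q : Fin 32 ≃ G)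
    (hq : ∀ i j, q i * q j = q (qM i j)) : Cfsg.IsExtraspecial 2 G := by
  obtain ⟨hz, hone, hzc, hsq, hcomm, hcen, hne⟩ := q_facts
  haveI : Finite G := Finite.of_equiv _ q
  haveI : Fact (Nat.Prime 2) := ⟨Nat.prime_two⟩
  have hcard : Nat.card G = 2 ^ 5 := by rw [← Nat.card_congr q, Nat.card_fin]; norm_num
  have h2 : IsPGroup 2 G := IsPGroup.of_card hcard
  have hq0 : q 0 = 1 := by
    have := hq 0 0
    rw [hone, mul_eq_right] at this
    exact this
  have hcz : q qz ∈ Subgroup.center G := by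
    rw [Subgroup.mem_center_iff]
    intro g
    obtain ⟨i, rfl⟩ := q.surjective g
    rw [hq, hq, hzc]
  have hcent : ∀ g ∈ Subgroup.center G, g = 1 ∨ g = q qz := by
    intro g hg
    obtain ⟨i, rfl⟩ := q.surjective g
    by_contra h
    push Not at h
    obtain ⟨j, hj⟩ := hcen i (fun e => h.1 (e ▸ hq0)) (fun e => h.2 (e ▸ rfl))
    refine hj (q.injective ?_)
    rw [← hq, ← hq]
    exact (Subgroup.mem_center_iff.mp hg (q j)).symm
  have hsub : ∀ i, i = 0 ∨ i = qz → q i ∈ Subgroup.center G := by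
    rintro i (rfl | rfl)
    · rw [hq0]; exact Subgroup.one_mem _
    · exact hcz
  have hne1 : q qz ≠ 1 := fun e => hz (q.injective (e.trans hq0.symm))
  have hcardc : Nat.card (Subgroup.center G) = 2 := by
    rw [show (2 : ℕ) = Nat.card Bool by simp]
    refine (Nat.card_eq_of_bijective (fun b : Bool => if b then (⟨q qz, hcz⟩ : Subgroup.center G) else 1) ⟨?_, ?_⟩).symm
    · intro b c h
      cases b <;> cases c <;> simp_all [Subtype.ext_iff]
    · rintro ⟨g, hg⟩
      rcases hcent g hg with rfl | rfl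
      · exact ⟨false, rfl⟩
      · exact ⟨true, rfl⟩
  have hcle : commutator G ≤ Subgroup.center G := by
    rw [commutator_eq_closure, Subgroup.closure_le]
    rintro _ ⟨g, h, rfl⟩
    obtain ⟨i, rfl⟩ := q.surjective g
    obtain ⟨j, rfl⟩ := q.surjective h
    rw [SetLike.mem_coe, commutatorElement_def]
    rcases hcomm i j with e | e
    · rw [show q i * q j = q j * q i by rw [hq, hq, e]]
      simpa using Subgroup.one_mem _
    · rw [show q i * q j = q j * q i * q qz by rw [hq, hq, hq, e]]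
      rw [show q j * q i * q qz * (q i)⁻¹ * (q j)⁻¹ = q j * (q i * q qz * (q i)⁻¹) * (q j)⁻¹ by group,
        show q i * q qz = q qz * q i from Subgroup.mem_center_iff.mp hcz (q i), mul_inv_cancel_right,
        show q j * q qz = q qz * q j from Subgroup.mem_center_iff.mp hcz (q j), mul_inv_cancel_right]
      exact hcz
  have hnab : commutator G ≠ ⊥ := fun e => by
    obtain ⟨i, hi0, hiz⟩ := hne
    obtain ⟨j, hj⟩ := hcen i hi0 hiz
    have h1 : ⁅q i, q j⁆ ∈ commutator G :=
      Subgroup.commutator_mem_commutator (Subgroup.mem_top _) (Subgroup.mem_top _)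
    rw [e, Subgroup.mem_bot, commutatorElement_eq_one_iff_mul_comm, hq, hq] at h1
    exact hj (q.injective h1)
  have hceq : commutator G = Subgroup.center G := by
    refine Subgroup.eq_of_le_of_card_ge hcle ?_
    rw [hcardc]
    exact Subgroup.one_lt_card_iff_ne_bot _ |>.mpr hnab
  haveI : (Subgroup.center G).Normal := inferInstance
  have hfr : frattini G ≤ Subgroup.center G :=
    PGroupsBasic.frattini_le_of_elementary_quotient (p := 2) hcle fun x => by
      obtain ⟨i, rfl⟩ := q.surjective x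
      rw [pow_two, hq]
      exact hsub _ (hsq i)
  refine ⟨⟨h2, le_antisymm hfr ?_, hceq⟩, hcardc⟩
  rw [← hceq]
  exact PGroupsBasic.commutator_le_frattini h2

/-- A table of order 32 has no elementary abelian subgroup of order eight. -/
theorem rank_of_table {G : Type*} [Group G] [Finite G] (q : Fin 32 ≃ G)
    (hq : ∀ i j, q i * q j = q (qM i j)) (E : Subgroup G) (hE : Cfsg.IsElementaryAbelian 2 E) :
    Nat.card E ≤ 2 ^ 2 := by
  obtain ⟨hcomm, hsq⟩ := hE
  have hq0 : q 0 = 1 := by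
    have := hq 0 0
    rw [q_facts.2.1, mul_eq_right] at this
    exact this
  have hidx : ∀ e ∈ E, qM (q.symm e) (q.symm e) = 0 := fun e he => q.injective (by
    rw [hq0, ← hq, Equiv.apply_symm_apply, ← pow_two]
    exact hsq e he)
  have hc : ∀ e ∈ E, ∀ f ∈ E, qM (q.symm e) (q.symm f) = qM (q.symm f) (q.symm e) :=
    fun e he f hf => q.injective (by
      rw [← hq, ← hq, Equiv.apply_symm_apply, Equiv.apply_symm_apply]
      exact congrArg Subtype.val (hcomm.is_comm.comm ⟨e, he⟩ ⟨f, hf⟩))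
  by_contra h
  rw [not_le] at h
  have hsmall : ∀ u v w : G, ¬ ∀ e ∈ E, e = 1 ∨ e = u ∨ e = v ∨ e = w := by
    intro u v w hall
    classical
    have hsub : (E : Set G) ⊆ (({1, u, v, w} : Finset G) : Set G) := fun e he => by
      simpa using hall e he
    have h1 := Set.ncard_le_ncard hsub (Finset.finite_toSet _)
    rw [Set.ncard_coe_finset] at h1
    have h2 : ({1, u, v, w} : Finset G).card ≤ 4 := by
      refine (Finset.card_insert_le _ _).trans ?_
      have := Finset.card_le_three (a := u) (b := v) (c := w)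
      omega
    have h3 : Nat.card E = (E : Set G).ncard := Nat.card_coe_set_eq _
    omega
  obtain ⟨a, ha, ha1⟩ : ∃ a ∈ E, a ≠ 1 := by
    by_contra h'
    push Not at h'
    exact hsmall 1 1 1 fun e he => Or.inl (h' e he)
  obtain ⟨b, hb, hb1, hba⟩ : ∃ b ∈ E, b ≠ 1 ∧ b ≠ a := by
    by_contra h'
    push Not at h'
    refine hsmall a a a fun e he => ?_
    by_cases he1 : e = 1
    · exact Or.inl he1
    · exact Or.inr (Or.inl (h' e he he1))
  have hn0 : ∀ e : G, e ≠ 1 → q.symm e ≠ 0 := fun e he h' => he (by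
    rw [← q.apply_symm_apply e, h', hq0])
  refine hsmall a b (a * b) fun c hcE => ?_
  rcases q_rank (q.symm a) (q.symm b) (hn0 a ha1) (hn0 b hb1)
      (fun h' => hba (q.symm.injective h'.symm)) (hidx a ha) (hidx b hb) (hc a ha b hb)
      (q.symm c) (hidx c hcE) (hc a ha c hcE) (hc b hb c hcE) with e | e | e | e
  · left; rw [← q.apply_symm_apply c, e, hq0]
  · right; left; exact q.symm.injective e
  · right; right; left; exact q.symm.injective e
  · right; right; right
    rw [← q.apply_symm_apply c, e, ← hq, Equiv.apply_symm_apply, Equiv.apply_symm_apply]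

section
variable {F : Type*} [Field F] [Finite F] (ω : F) (h2 : (2 : F) = 0) (hω : ω ^ 2 + ω + 1 = 0)
  (h4 : Nat.card F = 4)
include h2 hω h4

/-- The Sylow subgroup as a `Sylow` structure. -/
theorem exists_sylow : ∃ P : Sylow 2 (J3 F ω), (P : Subgroup (J3 F ω)) = S0 ω := by
  haveI : Fact (Nat.Prime 2) := ⟨Nat.prime_two⟩
  have hfac : 2 ^ (Nat.card (J3 F ω)).factorization 2 = 128 := by
    rw [J3Simple90.card_J3 ω h2 hω h4, show (50232960 : ℕ) = 2 ^ 7 * 392445 by norm_num,
      Nat.factorization_mul (by norm_num) (by norm_num), Finsupp.add_apply,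
      Nat.prime_two.factorization_pow, Finsupp.single_eq_same,
      Nat.factorization_eq_zero_of_not_dvd (by norm_num : ¬ 2 ∣ 392445)]
    norm_num
  exact ⟨Sylow.ofCard (S0 ω) (by rw [card_S0 ω h2 hω h4, hfac]), Sylow.coe_ofCard _ _⟩

/-- Every involution is conjugate to the chosen one. -/
theorem conj_T0 {x : J3 F ω} (hx : orderOf x = 2) : IsConj (T0 ω) x := by
  haveI : Fact (Nat.Prime 2) := ⟨Nat.prime_two⟩
  obtain ⟨P, hP⟩ := exists_sylow ω h2 hω h4
  have hx2 : IsPGroup 2 (Subgroup.zpowers x) := IsPGroup.of_card (n := 1) (by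
    rw [Nat.card_zpowers, hx, pow_one])
  obtain ⟨R, hR⟩ := hx2.exists_le_sylow
  obtain ⟨g, hg⟩ := MulAction.exists_smul_eq (J3 F ω) P R
  have hxR : x ∈ (R : Subgroup (J3 F ω)) := hR (Subgroup.mem_zpowers x)
  rw [← hg, Sylow.coe_subgroup_smul, hP] at hxR
  obtain ⟨s, hs, hse⟩ := hxR
  have hse' : g * s * g⁻¹ = x := hse
  have hs1 : s ≠ 1 := by
    rintro rfl
    rw [mul_one, mul_inv_cancel] at hse'
    rw [← hse', orderOf_one] at hx
    norm_num at hx
  have hsq : s * s = 1 := by
    have h := pow_orderOf_eq_one x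
    rw [hx, ← hse', conj_pow, conj_eq_one_iff, pow_two] at h
    exact h
  obtain ⟨k, hk⟩ := S0_involution ω h2 hω h4 hs hs1 hsq
  rw [isConj_iff]
  exact ⟨g * k, by rw [← hse', ← hk]; group⟩

theorem all_conj (x y : J3 F ω) (hx : orderOf x = 2) (hy : orderOf y = 2) : IsConj x y :=
  (conj_T0 ω h2 hω h4 hx).symm.trans (conj_T0 ω h2 hω h4 hy)

theorem structure_C : ∃ t : J3 F ω, orderOf t = 2 ∧
    ∃ (Q : Subgroup ↥(Subgroup.centralizer ({t} : Set (J3 F ω)))) (_ : Q.Normal),
      Cfsg.IsExtraspecial 2 Q ∧ Nat.card Q = 32 ∧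
      (∀ E : Subgroup Q, Cfsg.IsElementaryAbelian 2 E → Nat.card E ≤ 2 ^ 2) ∧
      (∃ H : Subgroup ↥(Subgroup.centralizer ({t} : Set (J3 F ω))), Q.IsComplement' H) ∧
      Nonempty (↥(Subgroup.centralizer ({t} : Set (J3 F ω))) ⧸ Q ≃* ↥(alternatingGroup (Fin 5))) := by
  refine ⟨T0 ω, orderOf_T0 ω h2 hω h4, ?_⟩
  obtain ⟨hC, hdec⟩ := centralizer_spec ω h2 hω h4
  set C := Subgroup.centralizer ({T0 ω} : Set (J3 F ω))
  let qf : Fin 32 → C := fun i => ⟨_, q_mem_C ω h2 hω h4 i⟩
  let hf : Fin 60 → C := fun j => ⟨_, h_mem_C ω h2 hω h4 j⟩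
  have hqf : ∀ i j, qf i * qf j = qf (qM i j) := fun i j => Subtype.ext (by
    show pi ω (qF ω i) * pi ω (qF ω j) = pi ω (qF ω _)
    rw [← map_mul, qF_mul ω h2 hω])
  have hhf : ∀ i j, hf i * hf j = hf (hM i j) := fun i j => Subtype.ext (by
    show pi ω (hF ω i) * pi ω (hF ω j) = pi ω (hF ω _)
    rw [← map_mul, hF_mul ω h2 hω])
  have hqi : Function.Injective qf := fun a b e => q_inj ω h2 hω h4 (congrArg Subtype.val e)
  have hhi : Function.Injective hf := fun a b e => h_inj ω h2 hω h4 (congrArg Subtype.val e)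
  have hq0 : qf 0 = 1 := Subtype.ext (by show pi ω (qF ω 0) = 1; rw [qF_zero ω h2 hω, map_one])
  have hh0 : hf 0 = 1 := Subtype.ext (by show pi ω (hF ω 0) = 1; rw [hF_zero ω h2 hω, map_one])
  let Q : Subgroup C := tableSubgroup qf qM hq0 hqf
  let H : Subgroup C := tableSubgroup hf hM hh0 hhf
  have hnorm : Q.Normal := ⟨fun x hx c => by
    obtain ⟨i, rfl⟩ := hx
    obtain ⟨k, hk⟩ := Q0_normalized ω h2 hω h4 c.2 (pi ω (qF ω i)) ⟨i, rfl⟩
    exact ⟨k, Subtype.ext hk⟩⟩
  have hcQ : Nat.card Q = 32 := card_tableSubgroup _ _ _ _ hqi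
  have hcH : Nat.card H = 60 := card_tableSubgroup _ _ _ _ hhi
  let qe : Fin 32 ≃ Q := Equiv.ofBijective (fun i => ⟨qf i, i, rfl⟩)
    ⟨fun a b e => hqi (congrArg Subtype.val e), fun ⟨x, i, e⟩ => ⟨i, Subtype.ext e⟩⟩
  have hqe : ∀ i j, qe i * qe j = qe (qM i j) := fun i j => Subtype.ext (hqf i j)
  have hdisj : Disjoint Q H := by
    rw [disjoint_iff_inf_le]
    rintro x ⟨⟨i, rfl⟩, j, hj⟩
    have e : (i, (0 : Fin 60)) = ((0 : Fin 32), j) := prod_inj ω h2 hω h4 (by
      show pi ω (qF ω i) * pi ω (hF ω 0) = pi ω (qF ω 0) * pi ω (hF ω j)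
      rw [qF_zero ω h2 hω, hF_zero ω h2 hω, map_one, mul_one, one_mul]
      exact (congrArg Subtype.val hj).symm)
    have hi0 : i = 0 := congrArg Prod.fst e
    rw [hi0, hq0]
    exact Subgroup.one_mem _
  have hcomp : Q.IsComplement' H :=
    Subgroup.isComplement'_of_card_mul_and_disjoint (by rw [hcQ, hcH, hC]) hdisj
  -- the action of the complement on five letters
  have hP1 : ∀ j : Fin 60, ∃ k : Fin 60, ∀ a, hP k (hP j a) = a ∧ hP j (hP k a) = a := by
    decide +kernel
  choose jinv hjinv using hP1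
  let ρ : Fin 60 → Equiv.Perm (Fin 5) := fun j =>
    { toFun := hP j, invFun := hP (jinv j), left_inv := fun a => (hjinv j a).1,
      right_inv := fun a => (hjinv j a).2 }
  let he : Fin 60 ≃ H := Equiv.ofBijective (fun j => ⟨hf j, j, rfl⟩)
    ⟨fun a b e => hhi (congrArg Subtype.val e), fun ⟨x, i, e⟩ => ⟨i, Subtype.ext e⟩⟩
  have hhe : ∀ i j, he i * he j = he (hM i j) := fun i j => Subtype.ext (hhf i j)
  have hρ : ∀ x y : H, ρ (he.symm (x * y)) = ρ (he.symm x) * ρ (he.symm y) := by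
    intro x y
    obtain ⟨i, rfl⟩ := he.surjective x
    obtain ⟨j, rfl⟩ := he.surjective y
    rw [hhe, Equiv.symm_apply_apply, Equiv.symm_apply_apply, Equiv.symm_apply_apply]
    exact Equiv.ext fun a => hP_hom i j a
  let φ : H →* Equiv.Perm (Fin 5) := MonoidHom.mk' (fun x => ρ (he.symm x)) hρ
  have hφi : Function.Injective φ := by
    rw [injective_iff_map_eq_one]
    intro x hx
    have hz : he.symm x = 0 := hP_inj _ fun a => Equiv.congr_fun hx a
    rw [← he.apply_symm_apply x, hz]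
    exact Subtype.ext hh0
  have hr : φ.range = alternatingGroup (Fin 5) := by
    refine Equiv.Perm.eq_alternatingGroup_of_index_eq_two ?_
    have h := φ.range.card_mul_index
    rw [← Nat.card_congr (MonoidHom.ofInjective hφi).toEquiv, hcH, Nat.card_perm, Nat.card_fin,
      show Nat.factorial 5 = 120 from rfl] at h
    omega
  haveI := hnorm
  refine ⟨Q, hnorm, extraspecial_of_table qe hqe, hcQ, fun E hE => rank_of_table qe hqe E hE,
    ⟨H, hcomp⟩, ⟨?_⟩⟩
  exact (Subgroup.IsComplement'.QuotientMulEquiv hcomp.symm).trans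
    ((MonoidHom.ofInjective hφi).trans (MulEquiv.subgroupCongr hr))

theorem simple_system (S : Sylow 2 (J3 F ω)) :
    (Cfsg.groupFusionSystem (S : Subgroup (J3 F ω))).IsSimple 2 := by
  haveI : Fact (Nat.Prime 2) := ⟨Nat.prime_two⟩
  obtain ⟨P, hP⟩ := exists_sylow ω h2 hω h4
  obtain ⟨g, hg⟩ := MulAction.exists_smul_eq (J3 F ω) P S
  have hmem : ∀ x, x ∈ (S : Subgroup (J3 F ω)) ↔ g⁻¹ * x * g ∈ S0 ω := by
    intro x
    rw [← hg, Sylow.coe_subgroup_smul, hP, Subgroup.mem_pointwise_smul_iff_inv_smul_mem,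
      ← map_inv, MulAut.smul_def, MulAut.conj_apply, inv_inv]
  have hup : ∀ s ∈ S0 ω, g * s * g⁻¹ ∈ (S : Subgroup (J3 F ω)) := fun s hs => by
    rw [hmem, show g⁻¹ * (g * s * g⁻¹) * g = s by group]
    exact hs
  set z := g * T0 ω * g⁻¹ with hz
  have hzS : z ∈ (S : Subgroup (J3 F ω)) := hup _ (T0_mem_S0 ω h2 hω h4)
  have hz2 : orderOf z = 2 := by
    refine orderOf_eq_prime ?_ ?_
    · rw [hz, conj_pow, pow_two, T0_sq ω h2 hω h4, mul_one, mul_inv_cancel]
    · intro h
      rw [hz, conj_eq_one_iff] at h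
      exact T0_ne ω h2 hω h4 h
  have hcentre : ∀ w ∈ (S : Subgroup (J3 F ω)), (∀ s ∈ (S : Subgroup (J3 F ω)), s * w = w * s) →
      w = 1 ∨ w = z := by
    intro w hw hwc
    rcases S0_centre ω h2 hω h4 ((hmem w).1 hw) (fun s hs => by
      have := hwc _ (hup s hs)
      calc s * (g⁻¹ * w * g) = g⁻¹ * ((g * s * g⁻¹) * w) * g := by group
        _ = g⁻¹ * (w * (g * s * g⁻¹)) * g := by rw [this]
        _ = g⁻¹ * w * g * s := by group) with h | h
    · left
      calc w = g * (g⁻¹ * w * g) * g⁻¹ := by group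
        _ = 1 := by rw [h]; group
    · right
      rw [hz, ← h]; group
  have hSne : (S : Subgroup (J3 F ω)) ≠ ⊥ := fun h => by
    rw [h, Subgroup.mem_bot] at hzS
    rw [hzS, orderOf_one] at hz2
    norm_num at hz2
  refine FusionSimpleCrit.isSimple_of_closed_gen hSne ?_ ?_
  · intro T hT hne
    obtain ⟨w, hwT, hw1, hwS, hwc⟩ := FusionSimpleCrit.exists_central_mem hT hne
    obtain rfl : w = z := (hcentre w hwS hwc).resolve_left hw1
    refine le_antisymm hT.1 ?_
    have hinv : ∀ s ∈ S0 ω, s * s = 1 → g * s * g⁻¹ ∈ T := by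
      intro s hs hsq
      by_cases h1 : s = 1
      · subst h1; rw [mul_one, mul_inv_cancel]; exact T.one_mem
      obtain ⟨k, hk⟩ := S0_involution ω h2 hω h4 hs h1 hsq
      have e : (g * k * g⁻¹) * z * (g * k * g⁻¹)⁻¹ = g * s * g⁻¹ := by
        rw [hz, ← hk]; group
      exact e ▸ FusionSimpleCrit.mem_of_conj hT hwT (by rw [e]; exact hup s hs)
    intro x hx
    have h := S0_gen ω h2 hω h4 ((hmem x).1 hx)
    have hx' : g * (g⁻¹ * x * g) * g⁻¹ ∈ T := by
      have hle : Subgroup.closure {s | s ∈ S0 ω ∧ s * s = 1} ≤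
          T.comap (MulAut.conj g).toMonoidHom := by
        rw [Subgroup.closure_le]
        exact fun s hs => hinv s hs.1 hs.2
      exact hle h
    rwa [show g * (g⁻¹ * x * g) * g⁻¹ = x by group] at hx'
  · intro n hn
    refine Subgroup.subset_closure (Or.inr (Or.inr ⟨hn, ?_⟩))
    let R := (Q0 ω h2 hω).map (MulAut.conj g).toMonoidHom
    have hR : ∀ x, x ∈ R ↔ g⁻¹ * x * g ∈ Q0 ω h2 hω := by
      intro x
      refine ⟨?_, fun h => ⟨_, h, ?_⟩⟩
      · rintro ⟨q, hq, rfl⟩
        show g⁻¹ * (g * q * g⁻¹) * g ∈ _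
        rwa [show g⁻¹ * (g * q * g⁻¹) * g = q by group]
      · show g * (g⁻¹ * x * g) * g⁻¹ = x
        group
    have hCN : ∀ c, g⁻¹ * c * g ∈ Subgroup.centralizer ({T0 ω} : Set (J3 F ω)) →
        c ∈ Subgroup.normalizer (R : Set (J3 F ω)) := by
      intro c hc
      refine Subgroup.mem_normalizer_iff.2 fun x => ⟨fun hx => ?_, fun hx => ?_⟩
      · have := Q0_normalized ω h2 hω h4 hc _ ((hR x).1 hx)
        rw [hR]
        convert this using 1
        group
      · have := Q0_normalized ω h2 hω h4 (Subgroup.inv_mem _ hc) _ ((hR _).1 hx)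
        rw [hR]
        convert this using 1
        group
    have hnC : g⁻¹ * n * g ∈ Subgroup.centralizer ({T0 ω} : Set (J3 F ω)) := by
      have hnz : n * z * n⁻¹ = z := by
        refine (hcentre _ ((Subgroup.mem_normalizer_iff.1 hn z).1 hzS) fun s hs => ?_).resolve_left ?_
        · have hs' : n⁻¹ * s * n ∈ (S : Subgroup (J3 F ω)) := by
            have h := (Subgroup.mem_normalizer_iff.1 hn (n⁻¹ * s * n)).2
            refine h ?_
            rwa [show n * (n⁻¹ * s * n) * n⁻¹ = s by group]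
          have hc : (n⁻¹ * s * n) * z = z * (n⁻¹ * s * n) := by
            have h0 := (S0_le_C ω h2 hω h4) ((hmem _).1 hs')
            rw [Subgroup.mem_centralizer_singleton_iff] at h0
            calc (n⁻¹ * s * n) * z = g * ((g⁻¹ * (n⁻¹ * s * n) * g) * T0 ω) * g⁻¹ := by
                  rw [hz]; group
              _ = g * (T0 ω * (g⁻¹ * (n⁻¹ * s * n) * g)) * g⁻¹ := by rw [h0]
              _ = z * (n⁻¹ * s * n) := by rw [hz]; group
          calc s * (n * z * n⁻¹) = n * ((n⁻¹ * s * n) * z) * n⁻¹ := by group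
            _ = n * (z * (n⁻¹ * s * n)) * n⁻¹ := by rw [hc]
            _ = n * z * n⁻¹ * s := by group
        · intro h
          rw [conj_eq_one_iff] at h
          rw [h, orderOf_one] at hz2
          norm_num at hz2
      rw [Subgroup.mem_centralizer_singleton_iff]
      have hnz' : n * z = z * n := mul_inv_eq_iff_eq_mul.1 hnz
      calc g⁻¹ * n * g * T0 ω = g⁻¹ * (n * z) * g := by rw [hz]; group
        _ = g⁻¹ * (z * n) * g := by rw [hnz']
        _ = T0 ω * (g⁻¹ * n * g) := by rw [hz]; group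
    refine ⟨R, ?_, ?_, ?_, hCN n hnC, ?_⟩
    · intro x hx
      rw [hmem]
      exact Q0_le_S0 ω h2 hω h4 ((hR x).1 hx)
    · intro s hs
      exact hCN s (S0_le_C ω h2 hω h4 ((hmem s).1 hs))
    · intro x hx
      rw [hR]
      refine centralizer_Q0 ω h2 hω h4 (Subgroup.mem_centralizer_iff.2 fun q hq => ?_)
      have := Subgroup.mem_centralizer_iff.1 hx (g * q * g⁻¹) ⟨q, hq, rfl⟩
      calc q * (g⁻¹ * x * g) = g⁻¹ * ((g * q * g⁻¹) * x) * g := by group
        _ = g⁻¹ * (x * (g * q * g⁻¹)) * g := by rw [this]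
        _ = g⁻¹ * x * g * q := by group
    · have h := C_gen ω h2 hω h4 hnC
      have hle : Subgroup.closure {a | a ∈ Subgroup.centralizer ({T0 ω} : Set (J3 F ω)) ∧
          ∃ k : ℕ, orderOf a = 2 ^ k} ≤
          (Subgroup.closure {a | a ∈ Subgroup.normalizer (R : Set (J3 F ω)) ∧
            ∃ k : ℕ, orderOf a = 2 ^ k}).comap (MulAut.conj g).toMonoidHom := by
        rw [Subgroup.closure_le]
        rintro a ⟨ha, k, hk⟩
        refine Subgroup.subset_closure ⟨hCN _ ?_, k, ?_⟩
        · show g⁻¹ * (g * a * g⁻¹) * g ∈ _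
          rwa [show g⁻¹ * (g * a * g⁻¹) * g = a by group]
        · exact (MulEquiv.orderOf_eq (MulAut.conj g) a).trans hk
      have h' : g * (g⁻¹ * n * g) * g⁻¹ ∈ Subgroup.closure
          {a | a ∈ Subgroup.normalizer (R : Set (J3 F ω)) ∧ ∃ k : ℕ, orderOf a = 2 ^ k} := hle h
      rwa [show g * (g⁻¹ * n * g) * g⁻¹ = n by group] at h'

end

end Cfsg.Agent.J3InvThm90
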