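import Cfsg.Agent.Lib.J3InvCert90
import Cfsg.Agent.Lib.J3Gens90
import Cfsg.Agent.Lib.J3OutData90

/-! Kernel checks for the automorphisms of the third Janko group. -/

set_option autoImplicit false
set_option maxRecDepth 100000
set_option Elab.async false

namespace Cfsg.Agent.J3OutCert90

open CosetCertCore J3Mat90 J3Data90 J3Check90 J3Gens90 J3InvData90 J3InvCert90 J3OutData90
open J3Cert2_90
open Cfsg.Spor

noncomputable def ap (e : ℕ) : ℕ := entry aPow 162 e

/-- Conjugation of the index. -/
def cz (z : F9) : F9 := (z.1, -z.2)

/-- A code is a scalar of the cover. -/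
noncomputable def isScal (X : ℕ) : Bool :=
  Nat.beq X J3Data90.one || Nat.beq X scal || Nat.beq X (mulN scal scal)

noncomputable def apOK (e : ℕ) : Bool :=
  Nat.beq (mulN (ap e) genA) (ap (if e = 18 then 0 else e + 1))

noncomputable def orbOK (j : ℕ) : Bool :=
  force (entry orbIdx 16 j) fun w =>
  force (Nat.land w 2047) fun r =>
  force (Nat.shiftRight w 11) fun e =>
  Nat.blt r 1377 && Nat.blt e 19 && Nat.blt (entry orbRep 16 r) 26163 &&
    Nat.beq (mulN (ap e) (entry cls 162 (entry orbRep 16 r))) (mulN (entry cls 162 j) (ap e))

noncomputable def tOrdOK (e : ℕ) : Bool :=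
  isScal (powN (mulN (ap e) (entry cls 162 0)) (entry tOrd 8 e))

/-- The word separating the exceptional orbit. -/
noncomputable def word3 (c : ℕ) : ℕ :=
  powN (mulN (mulN (mulN (ap 1) c) (mulN (ap 2) c)) (mulN (ap 3) c)) 10

noncomputable def notScal (X : ℕ) : Bool :=
  Nat.blt X (2 ^ 162) && !(isScal X)

noncomputable def repOK (r : ℕ) : Bool :=
  Nat.beq r 0 ||
    force (entry cls 162 (entry orbRep 16 r)) fun c =>
    (Nat.beq r specialRep && notScal (word3 c)) ||
      force (entry repTest 8 r) fun e =>
      Nat.blt e 19 && notScal (powN (mulN (ap e) c) (entry tOrd 8 e))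

theorem ap_head : ap 0 = J3Data90.one ∧ entry orbRep 16 0 = 0 ∧ mulN scal scal < 2 ^ 162 := by
  decide +kernel
theorem ap_ok : allFrom apOK 19 0 = true := by decide +kernel
theorem tOrd_ok : allFrom tOrdOK 19 0 = true := by decide +kernel
theorem word3_ok : isScal (word3 (entry cls 162 0)) = true := by decide +kernel
/-- Two consecutive checked intervals give a checked interval. -/
theorem allFrom_append (f : ℕ → Bool) : ∀ (a b s : ℕ), allFrom f a s = true →
    allFrom f b (s + a) = true → allFrom f (a + b) s = true
  | 0, b, s, _, h2 => by simpa using h2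
  | a + 1, b, s, h1, h2 => by
    have h' : f s = true ∧ allFrom f a (s + 1) = true := by
      simpa [allFrom, force_eq] using h1
    have h3 := allFrom_append f a b (s + 1) h'.2 (by rwa [show s + 1 + a = s + (a + 1) by omega])
    have h4 : a + 1 + b = (a + b) + 1 := by omega
    rw [h4]
    simpa [allFrom, force_eq, h'.1] using h3

theorem orb_ok0 : allFrom orbOK 5000 0 = true := by decide +kernel
theorem orb_ok1 : allFrom orbOK 5000 5000 = true := by decide +kernel
theorem orb_ok2 : allFrom orbOK 5000 10000 = true := by decide +kernel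
theorem orb_ok3 : allFrom orbOK 5000 15000 = true := by decide +kernel
theorem orb_ok4 : allFrom orbOK 6163 20000 = true := by decide +kernel
theorem orb_ok : allFrom orbOK 26163 0 = true :=
  allFrom_append orbOK 20000 6163 0
    (allFrom_append orbOK 15000 5000 0
      (allFrom_append orbOK 10000 5000 0
        (allFrom_append orbOK 5000 5000 0 orb_ok0 orb_ok1) orb_ok2) orb_ok3) orb_ok4
theorem rep_ok : allFrom repOK 1377 0 = true := by decide +kernel

theorem sig_bits :
    (∀ w z : F9, bits sigA w z =
      ((bits genA (cz w) (cz z)).1.xor (bits genA (cz w) (cz z)).2, (bits genA (cz w) (cz z)).2)) ∧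
    ∀ w z : F9, bits sigB w z =
      ((bits genB (cz w) (cz z)).1.xor (bits genB (cz w) (cz z)).2, (bits genB (cz w) (cz z)).2) := by
  decide +kernel

theorem out_mem : memOK sigA certSigA = true ∧ memOK sigB certSigB = true ∧
    memOK normY certY = true ∧ memOK conjG certG = true := by decide +kernel

theorem out_conj : mulN normY genA = mulN (ap 4) normY ∧
    mulN conjG (ap 2) = mulN sigA conjG := by decide +kernel

/-- The code of the word for the second generator. -/
noncomputable def bCode : ℕ :=
  bWord.foldl (fun m e => mulN (mulN m (ap e)) (entry cls 162 0)) J3Data90.one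

theorem b_word : (bWord.all fun e => Nat.blt e 19) = true ∧
    (Nat.beq bCode genB || Nat.beq bCode (mulN scal genB) ||
      Nat.beq bCode (mulN (mulN scal scal) genB)) = true := by decide +kernel

theorem trace_bits :
    ((List.range 9).foldl (fun b i => Bool.xor b (lo genA i i)) false,
      (List.range 9).foldl (fun b i => Bool.xor b (hi genA i i)) false) = (false, true) ∧
    ((List.range 9).foldl (fun b i => Bool.xor b (lo sigA i i)) false,
      (List.range 9).foldl (fun b i => Bool.xor b (hi sigA i i)) false) = (true, true) := by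
  decide +kernel

end Cfsg.Agent.J3OutCert90
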