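import Cfsg.Agent.Lib.J3MultP3Data90
import Cfsg.Agent.Lib.J3OutCert90

/-! Kernel checks for the 3-part of the multiplier of the third Janko group. -/

set_option autoImplicit false
set_option maxRecDepth 100000

namespace Cfsg.Agent.J3MultP3Check90

open CosetCertCore J3Mat90 J3Data90 J3Check90 J3Cert2_90 J3OutCert90 J3MultP3Data90

/-- The code of a word in generators of order eight modulo scalars. -/
noncomputable def wM8 (g : List ℕ) : List (ℕ × Bool) → ℕ
  | [] => J3Data90.one
  | (i, b) :: l => force (g.getD i 0) fun x =>
      force (wM8 g l) fun r => mulN r (cond b x (powN x 7))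

noncomputable def eightOK (g : ℕ) : Bool :=
  isScal (powN g 8) && notScal (powN g 4)

noncomputable def eTreeOK (c : ℕ) : Bool :=
  Nat.beq c 0 || force (SplitVoltageCert.get parT c) fun e =>
    Nat.blt (e / 2) c &&
      Nat.beq (entry eT 162 c) (mulN (gens.getD (e % 2) 0) (entry eT 162 (e / 2)))

noncomputable def eOK (q : ℕ) : Bool :=
  Nat.beq (entry eC 162 q)
    (mulN (mulN (entry eT 162 (q / 24)) (powN (gens.getD 0 0) (q / 3 % 8))) (powN scal (q % 3)))

noncomputable def stepOK (e : ℕ) : Bool :=
  force (entry eE 16 e) fun q =>
  Nat.blt q 5832 && Nat.beq (q / 24) (SplitVoltageCert.get nxT e) &&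
    Nat.beq (mulN (gens.getD (e % 2) 0) (entry eT 162 (e / 2))) (entry eC 162 q)

noncomputable def sortedOK (q : ℕ) : Bool :=
  Nat.blt (entry eS 16 q) 5832 &&
    (Nat.blt 5831 (q + 1) || Nat.blt (entry eC 162 (entry eS 16 q)) (entry eC 162 (entry eS 16 (q + 1))))

theorem mem_ok : memOK (gens.getD 0 0) (memCode.getD 0 0) = true ∧
    memOK (gens.getD 1 0) (memCode.getD 1 0) = true := by decide +kernel

theorem eights : eightOK (gens.getD 0 0) = true ∧ eightOK (gens.getD 1 0) = true := by decide +kernel

theorem rels_ok : rels.all (fun l => isScal (wM8 gens l) && l.all fun t => Nat.blt t.1 2) = true ∧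
    rels.getD 0 [] = List.replicate 8 (0, true) ∧ rels.getD 1 [] = List.replicate 8 (1, true) := by
  decide +kernel

theorem head : entry eT 162 0 = J3Data90.one := by decide +kernel
theorem e_tree : allFrom eTreeOK 243 0 = true := by decide +kernel
theorem e_ok : allFrom eOK 5832 0 = true := by decide +kernel
theorem step_ok : allFrom stepOK 486 0 = true := by decide +kernel
theorem sorted_ok : allFrom sortedOK 5832 0 = true := by decide +kernel

theorem cert_core : cert.Core where
  hm := by decide +kernel
  hn := by decide +kernel
  hN := by decide +kernel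
  hnpow := by decide +kernel
  hK := by decide +kernel
  table := by decide +kernel
  tree := by decide +kernel
  rel := by decide +kernel
  edge := by decide +kernel

theorem fin_check : cert.finCyc k0 3 cs = true := by decide +kernel

end Cfsg.Agent.J3MultP3Check90
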