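import Cfsg.Agent.Lib.J3Simple90
import Cfsg.Prelude.Def_Classical

/-! The triple cover of the third Janko group lies in a special unitary group. -/

set_option autoImplicit false
set_option maxRecDepth 100000

namespace Cfsg.Agent.J3Unitary90

open CosetCertCore J3Mat90 J3Data90 J3Check90 J3CertA90 J3Cert2_90 J3Level90 J3Gens90 J3Chain90
open J3Order90 J3Simple90
open Cfsg.Spor
open scoped Matrix

def genAT : Nat := 0x24c2003b01a0012824001220280910801182110
def genAC : Nat := 0x321a6002c00a05009200000d110161370010c000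
def genBT : Nat := 0xa45501108222412882101008220101040200010
def genBC : Nat := 0x46581280200d003b2130232c09400266801c00

theorem bits_T : (∀ w z : F9, bits genAT w z = bits genA z w) ∧
    ∀ w z : F9, bits genBT w z = bits genB z w := by decide +kernel

theorem bits_C :
    (∀ w z : F9, bits genAC w z = ((bits genA w z).1.xor (bits genA w z).2, (bits genA w z).2)) ∧
    ∀ w z : F9, bits genBC w z = ((bits genB w z).1.xor (bits genB w z).2, (bits genB w z).2) := by
  decide +kernel

theorem herm_codes : mulN genAT genAC = one ∧ mulN genBT genBC = one := by decide +kernel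

section
variable {F : Type*} [Field F] (ω : F)

/-- The Hermitian form on the nine coordinates. -/
def herm (u v : F9 → F) : F := ∑ i, u i * v i ^ 2

theorem preserves (h2 : (2 : F) = 0) (M : Matrix F9 F9 F) (h : Mᵀ * M.map (fun x => x ^ 2) = 1)
    (u v : F9 → F) : herm (M *ᵥ u) (M *ᵥ v) = herm u v := by
  haveI : CharP F 2 := (CharP.charP_iff_prime_eq_zero Nat.prime_two).2 (by exact_mod_cast h2)
  have hsq : ∀ (f : F9 → F), (∑ i, f i) ^ 2 = ∑ i, f i ^ 2 := fun f => by
    rw [← frobenius_def, map_sum]; rfl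
  have e : ∀ i, (M *ᵥ v) i ^ 2 = (M.map (fun x => x ^ 2) *ᵥ fun k => v k ^ 2) i := by
    intro i
    simp only [Matrix.mulVec, dotProduct, hsq, mul_pow, Matrix.map_apply]
  show (M *ᵥ u) ⬝ᵥ (fun i => (M *ᵥ v) i ^ 2) = u ⬝ᵥ fun i => v i ^ 2
  rw [funext e, ← Matrix.vecMul_transpose, Matrix.dotProduct_mulVec, Matrix.vecMul_vecMul, h,
    Matrix.vecMul_one]

theorem sq_e2 (h2 : (2 : F) = 0) (hω : ω ^ 2 + ω + 1 = 0) (p q : Bool) :
    e2 ω p q ^ 2 = e2 ω (p.xor q) q := by
  cases p <;> cases q <;> simp [e2]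
  · linear_combination hω - (ω + 1) * h2
  · linear_combination hω

variable [Finite F] (h2 : (2 : F) = 0) (hω : ω ^ 2 + ω + 1 = 0)
include h2 hω

omit [Finite F] in
theorem unitary_of_codes {M MT MC : ℕ} (hT : ∀ w z : F9, bits MT w z = bits M z w)
    (hC : ∀ w z : F9, bits MC w z = ((bits M w z).1.xor (bits M w z).2, (bits M w z).2))
    (h : mulN MT MC = one) (u v : F9 → F) : herm (ev ω M *ᵥ u) (ev ω M *ᵥ v) = herm u v := by
  refine preserves h2 _ ?_ u v
  have eT : (ev ω M)ᵀ = ev ω MT := by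
    ext w z
    rw [Matrix.transpose_apply, ev_apply, ev_apply, hT]
  have eC : (ev ω M).map (fun x => x ^ 2) = ev ω MC := by
    ext w z
    rw [Matrix.map_apply, ev_apply, ev_apply, hC, sq_e2 ω h2 hω]
  rw [eT, eC, ← ev_mulN ω h2 hω, h, ev_one]

omit [Finite F] in
theorem herm_M0 {m : Matrix F9 F9 F} (hm : m ∈ M0 ω) :
    ∀ u v, herm (m *ᵥ u) (m *ᵥ v) = herm u v := by
  induction hm using Submonoid.closure_induction with
  | mem x hx =>
    rcases hx with rfl | rfl
    · exact unitary_of_codes ω h2 hω bits_T.1 bits_C.1 herm_codes.1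
    · exact unitary_of_codes ω h2 hω bits_T.2 bits_C.2 herm_codes.2
  | one => exact fun u v => by rw [Matrix.one_mulVec, Matrix.one_mulVec]
  | mul a b _ _ ha hb => exact fun u v => by rw [← Matrix.mulVec_mulVec, ← Matrix.mulVec_mulVec, ha, hb]

theorem det_M0 (h4 : Nat.card F = 4) {m : Matrix F9 F9 F} (hm : m ∈ M0 ω) : m.det = 1 := by
  have key : ∀ x : F, x ^ 19 = 1 → x = 1 := by
    intro x hx
    have hx0 : x ≠ 0 := by rintro rfl; simp at hx
    haveI : Fintype F := Fintype.ofFinite F
    have h3 := FiniteField.pow_card_sub_one_eq_one x hx0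
    rw [← Nat.card_eq_fintype_card, h4] at h3
    calc x = x ^ 19 / (x ^ (4 - 1)) ^ 6 := by rw [← pow_mul, div_eq_mul_inv, ← pow_sub₀ x hx0 (by norm_num)]; norm_num
      _ = 1 := by rw [hx, h3]; simp
  induction hm using Submonoid.closure_induction with
  | mem x hx =>
    rcases hx with rfl | rfl
    · exact key _ (by rw [← Matrix.det_pow, genA_pow ω h2 hω, Matrix.det_one])
    · exact key _ (by rw [← Matrix.det_pow, genB_pow ω h2 hω, Matrix.det_one])
  | one => exact Matrix.det_one
  | mul a b _ _ ha hb => rw [Matrix.det_mul, ha, hb, one_mul]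

end

/-- The embedding of the triple cover in the special unitary group. -/
theorem exists_embedding {F : Type*} [Field F] [Finite F] (h4 : Nat.card F = 4) (ω : F)
    (h2 : (2 : F) = 0) (hω : ω ^ 2 + ω + 1 = 0) :
    ∃ f : threeJ3 F ω →* Cfsg.SU 9 F 2, Function.Injective f := by
  let sl : threeJ3 F ω →* Matrix.SpecialLinearGroup (Fin 9) F :=
    { toFun := fun g => ⟨Matrix.reindexAlgEquiv F F ix ((g : GL F9 F) : Matrix F9 F9 F), by
        rw [Matrix.det_reindexAlgEquiv, det_M0 ω h2 hω h4 ((mem_iff ω h2 hω g).1 g.2)]⟩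
      map_one' := Subtype.ext (by
        show Matrix.reindexAlgEquiv F F ix (((1 : threeJ3 F ω) : GL F9 F) : Matrix F9 F9 F) = 1
        rw [Subgroup.coe_one, Units.val_one, map_one])
      map_mul' := fun g h => Subtype.ext (by
        show Matrix.reindexAlgEquiv F F ix (((g * h : threeJ3 F ω) : GL F9 F) : Matrix F9 F9 F) = _
        rw [Subgroup.coe_mul, Units.val_mul, map_mul]; rfl) }
  have hsl : ∀ g, sl g ∈ Cfsg.SU 9 F 2 := by
    intro g u v
    have key : ∀ w : Fin 9 → F, Cfsg.slToMat 9 F (sl g) *ᵥ w =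
        ((((g : GL F9 F) : Matrix F9 F9 F)) *ᵥ (w ∘ ix)) ∘ ix.symm := by
      intro w
      show (Matrix.reindexAlgEquiv F F ix ((g : GL F9 F) : Matrix F9 F9 F)) *ᵥ w = _
      rw [Matrix.reindexAlgEquiv_apply, Matrix.reindex_apply, Matrix.submatrix_mulVec_equiv]
      rfl
    have hs : ∀ a b : F9 → F,
        Cfsg.hermForm 9 F 2 (a ∘ ix.symm) (b ∘ ix.symm) = herm a b := fun a b =>
      ix.symm.sum_comp (fun i => a i * b i ^ 2)
    rw [key, key, hs, herm_M0 ω h2 hω ((mem_iff ω h2 hω g).1 g.2), ← hs]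
    simp [Function.comp_assoc]
  refine ⟨sl.codRestrict _ hsl, fun g h e => coe_inj ω ?_⟩
  have e' : Matrix.reindexAlgEquiv F F ix ((g : GL F9 F) : Matrix F9 F9 F) =
      Matrix.reindexAlgEquiv F F ix ((h : GL F9 F) : Matrix F9 F9 F) :=
    congrArg (fun x : Cfsg.SU 9 F 2 => ((x : Matrix.SpecialLinearGroup (Fin 9) F) :
      Matrix (Fin 9) (Fin 9) F)) e
  exact (Matrix.reindexAlgEquiv F F ix).injective e'

/-- A field with four elements and a primitive cube root of unity. -/
theorem exists_field : ∃ (F : Type) (_ : Field F) (_ : Fintype F) (ω : F),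
    Fintype.card F = 4 ∧ Nat.card F = 4 ∧ (2 : F) = 0 ∧ ω ^ 2 + ω + 1 = 0 := by
  haveI : Fintype (GaloisField 2 2) := Fintype.ofFinite _
  have h4 : Nat.card (GaloisField 2 2) = 4 := by rw [GaloisField.card 2 2 (by norm_num)]; norm_num
  have hc : Fintype.card (GaloisField 2 2) = 4 := by rw [← Nat.card_eq_fintype_card, h4]
  obtain ⟨x, hx0, hx1⟩ : ∃ x : GaloisField 2 2, x ≠ 0 ∧ x ≠ 1 := by
    classical
    by_contra h
    push Not at h
    have hsub : (Finset.univ : Finset (GaloisField 2 2)) ⊆ {0, 1} := fun x _ => by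
      by_cases hx : x = 0
      · simp [hx]
      · simp [h x hx]
    have := Finset.card_le_card hsub
    rw [Finset.card_univ, hc] at this
    exact absurd (this.trans Finset.card_le_two) (by norm_num)
  have h3 := FiniteField.pow_card_sub_one_eq_one x hx0
  rw [hc] at h3
  have hfac : (x - 1) * (x ^ 2 + x + 1) = 0 := by linear_combination h3
  refine ⟨GaloisField 2 2, inferInstance, inferInstance, x, hc, h4, two_eq_zero hc, ?_⟩
  exact (mul_eq_zero.1 hfac).resolve_left (sub_ne_zero.2 hx1)

theorem result_core : ∃ (F : Type) (_ : Field F) (_ : Fintype F), Fintype.card F = 4 ∧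
    ∃ H : Subgroup (Cfsg.SU 9 F 2), Nat.card (Subgroup.center H) = 3 ∧
      IsSimpleGroup (H ⧸ Subgroup.center H) ∧ Nat.card (H ⧸ Subgroup.center H) = 50232960 := by
  obtain ⟨F, iF, iFt, ω, hc, h4, h2, hω⟩ := exists_field
  obtain ⟨f, hf⟩ := exists_embedding h4 ω h2 hω
  refine ⟨F, iF, iFt, hc, f.range, ?_⟩
  let e : threeJ3 F ω ≃* f.range := MonoidHom.ofInjective hf
  have hmap : (Subgroup.center (threeJ3 F ω)).map (e : threeJ3 F ω →* f.range) =
      Subgroup.center f.range := by
    ext x
    constructor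
    · rintro ⟨g, hg, rfl⟩
      exact Subgroup.mem_center_iff.2 fun y => by
        have := congrArg e (Subgroup.mem_center_iff.1 hg (e.symm y))
        simpa using this
    · intro hx
      refine ⟨e.symm x, Subgroup.mem_center_iff.2 fun y => ?_, by simp⟩
      have := congrArg e.symm (Subgroup.mem_center_iff.1 hx (e y))
      simpa using this
  let q : J3 F ω ≃* (f.range ⧸ Subgroup.center f.range) :=
    QuotientGroup.congr _ _ e hmap
  have hsimp := simple_J3 ω h2 hω h4
  refine ⟨?_, q.symm.isSimpleGroup, ?_⟩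
  · rw [← Nat.card_congr (Subgroup.centerCongr e).toEquiv]
    exact card_center ω h2 hω h4
  · rw [← Nat.card_congr q.toEquiv]
    exact card_J3 ω h2 hω h4

end Cfsg.Agent.J3Unitary90
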