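import Cfsg.Agent.Lib.J3InvThm90
import Cfsg.Agent.Lib.J3OutCert90
import Cfsg.Agent.Lib.J3Unitary90
import Cfsg.Prelude.Def_KGroupFacts

/-! The outer automorphism group of the third Janko group has order two. -/

set_option autoImplicit false
set_option maxRecDepth 100000

namespace Cfsg.Agent.J3Out90

open CosetCertCore J3Mat90 J3Data90 J3Check90 J3CertA90 J3Cert2_90 J3Level90 J3Gens90 J3Chain90
open J3Order90 J3Simple90 J3InvData90 J3InvCert90 J3InvLift90 J3InvCore90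
open J3OutData90 J3OutCert90
open Cfsg.Spor

theorem qr_cases : ∀ i : Fin 19, i ≠ 0 →
    ∃ e : Fin 9, (i : ℕ) = 4 ^ (e : ℕ) % 19 ∨ (i : ℕ) = 2 * 4 ^ (e : ℕ) % 19 := by
  decide +kernel

/-- A bijection of monoids preserves equations between powers. -/
theorem map_word {G : Type*} [Group G] (φ : MulAut G) {A T : G} (hA : φ A = A) (e n : ℕ)
    (h : (A ^ e * T) ^ n = 1) : (A ^ e * φ T) ^ n = 1 := by
  have := congrArg φ h
  rwa [map_pow, map_mul, map_pow, hA, map_one] at this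

section
variable {F : Type*} [Field F] [Finite F] (ω : F)

/-- The first generator in the quotient. -/
noncomputable def A0 : J3 F ω := pi ω (lift ω genA)

variable (h2 : (2 : F) = 0) (hω : ω ^ 2 + ω + 1 = 0) (h4 : Nat.card F = 4)
include h2 hω

omit [Finite F] in
theorem trace_eq (M : ℕ) : (ev ω M).trace = e2 ω
    ((List.range 9).foldl (fun b i => Bool.xor b (lo M i i)) false)
    ((List.range 9).foldl (fun b i => Bool.xor b (hi M i i)) false) := by
  have key : ∀ n, e2 ω ((List.range n).foldl (fun b i => Bool.xor b (lo M i i)) false)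
      ((List.range n).foldl (fun b i => Bool.xor b (hi M i i)) false) =
      ∑ k ∈ Finset.range n, e2 ω (lo M k k) (hi M k k) := by
    intro n
    induction n with
    | zero => simp [e2]
    | succ n ih =>
      rw [List.range_succ, List.foldl_append, List.foldl_append, Finset.sum_range_succ, ← ih]
      simp only [List.foldl_cons, List.foldl_nil]
      rw [e2_xor ω h2]
  rw [key 9, Matrix.trace, ← ix.symm.sum_comp]
  simp only [Matrix.diag_apply, ev, Matrix.of_apply, Equiv.apply_symm_apply]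
  exact Fin.sum_univ_eq_sum_range (fun k => e2 ω (lo M k k) (hi M k k)) 9

theorem genA_M0 : ev ω genA ∈ M0 ω := Submonoid.subset_closure (Or.inl rfl)
theorem genB_M0 : ev ω genB ∈ M0 ω := Submonoid.subset_closure (Or.inr rfl)

theorem ap_spec : ∀ e < 19, ev ω (ap e) ∈ M0 ω ∧ lift ω (ap e) = lift ω genA ^ e := by
  intro e
  induction e with
  | zero => exact fun _ => ⟨by rw [ap_head.1, ev_one]; exact (M0 ω).one_mem,
      by rw [ap_head.1, lift_one ω h2 hω, pow_zero]⟩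
  | succ e ih =>
    intro he
    obtain ⟨h1, h1'⟩ := ih (by omega)
    have hs := allFrom_spec _ _ _ ap_ok e (Nat.zero_le _) (by omega)
    simp only [apOK, Nat.beq_eq, if_neg (show e ≠ 18 by omega)] at hs
    refine ⟨?_, ?_⟩
    · rw [← hs, ev_mulN ω h2 hω]; exact (M0 ω).mul_mem h1 (genA_M0 ω h2 hω)
    · rw [pow_succ, ← h1', lift_mul ω h2 hω h1 (genA_M0 ω h2 hω) hs]

theorem lift_powN {M : ℕ} (hM : ev ω M ∈ M0 ω) : ∀ n,
    ev ω (powN M n) ∈ M0 ω ∧ lift ω (powN M n) = lift ω M ^ n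
  | 0 => ⟨one_M0 ω h2 hω, by rw [pow_zero]; exact lift_one ω h2 hω⟩
  | n + 1 => by
    obtain ⟨h, h'⟩ := lift_powN hM n
    have e : powN M (n + 1) = mulN (powN M n) M := by
      show (force (powN M n) fun r' => mulN r' M) = _
      rw [force_eq]
    rw [e]
    refine ⟨by rw [ev_mulN ω h2 hω]; exact (M0 ω).mul_mem h hM, ?_⟩
    rw [pow_succ, ← h', lift_mul ω h2 hω h hM rfl]

theorem mulN_M0 {A B : ℕ} (hA : ev ω A ∈ M0 ω) (hB : ev ω B ∈ M0 ω) : ev ω (mulN A B) ∈ M0 ω := by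
  rw [ev_mulN ω h2 hω]; exact (M0 ω).mul_mem hA hB

theorem scal_M0 : ev ω scal ∈ M0 ω := mem_of_memOK ω h2 hω spec_mem.2.2.2

include h4 in
theorem isScal_iff {X : ℕ} (hX : ev ω X ∈ M0 ω) (bX : X < 2 ^ 162) :
    pi ω (lift ω X) = 1 ↔ isScal X = true := by
  have hss := mulN_M0 ω h2 hω (scal_M0 ω h2 hω) (scal_M0 ω h2 hω)
  simp only [isScal, Bool.or_eq_true, Nat.beq_eq]
  constructor
  · intro h
    rcases scal_gen ω h2 hω h4 ((QuotientGroup.eq_one_iff _).1 h) with e | e | e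
    · left; left
      exact lift_inj ω h2 hω hX (one_M0 ω h2 hω) bX nontrivial.2.2.2.2.2.2.2.2.2.1
        (e.trans (lift_one ω h2 hω).symm)
    · left; right
      exact lift_inj ω h2 hω hX (scal_M0 ω h2 hω) bX nontrivial.2.2.2.2.2.2.2.2.2.2 e
    · right
      rw [lift_mul ω h2 hω (scal_M0 ω h2 hω) (scal_M0 ω h2 hω) rfl] at e
      exact lift_inj ω h2 hω hX hss bX ap_head.2.2 e
  · have hc : lift ω scal ∈ Subgroup.center (threeJ3 F ω) :=
      center_of_scalar ω h2 hω (c := ω) (by rw [lift_spec ω h2 hω (scal_M0 ω h2 hω), ev_scal])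
    rintro ((rfl | rfl) | rfl)
    · rw [lift_one ω h2 hω, map_one]
    · exact pi_of_center ω hc
    · rw [← lift_mul ω h2 hω (scal_M0 ω h2 hω) (scal_M0 ω h2 hω) rfl, map_mul, pi_of_center ω hc,
        one_mul]

include h4 in
theorem pi_of_isScal {X : ℕ} (hX : ev ω X ∈ M0 ω) (h : isScal X = true) : pi ω (lift ω X) = 1 := by
  refine (isScal_iff ω h2 hω h4 hX ?_).2 h
  simp only [isScal, Bool.or_eq_true, Nat.beq_eq] at h
  rcases h with (rfl | rfl) | rfl
  · exact nontrivial.2.2.2.2.2.2.2.2.2.1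
  · exact nontrivial.2.2.2.2.2.2.2.2.2.2
  · exact ap_head.2.2

include h4 in
theorem ne_of_notScal {X : ℕ} (hX : ev ω X ∈ M0 ω) (h : notScal X = true) :
    pi ω (lift ω X) ≠ 1 := by
  simp only [notScal, Bool.and_eq_true, Nat.blt_eq, Bool.not_eq_true'] at h
  intro e
  rw [(isScal_iff ω h2 hω h4 hX h.1).1 e] at h
  simp at h

theorem genA_pow19 : lift ω genA ^ 19 = 1 := by
  refine coe_inj ω ?_
  simp [lift_spec ω h2 hω (genA_M0 ω h2 hω), genA_pow ω h2 hω]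

theorem A0_pow19 : A0 ω ^ 19 = 1 := by rw [A0, ← map_pow, genA_pow19 ω h2 hω, map_one]

theorem A0_pow_mod (n : ℕ) : A0 ω ^ n = A0 ω ^ (n % 19) := by
  conv_lhs => rw [← Nat.mod_add_div n 19, pow_add, pow_mul, A0_pow19 ω h2 hω, one_pow, mul_one]

include h4

theorem A0_ne : A0 ω ≠ 1 := by
  intro e
  have h19 := genA_pow19 ω h2 hω
  obtain ⟨z, hz, e'⟩ := pi_eq ω (e.trans (map_one (pi ω)).symm)
  rw [mul_one] at e'
  have h3 := center_cube ω h2 hω h4 hz
  rw [← e'] at h3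
  have h1 : lift ω genA = 1 := by
    have h : lift ω genA = lift ω genA ^ 19 * ((lift ω genA ^ 3) ^ 6)⁻¹ := by group
    rw [h, h19, h3]; simp
  exact nontrivial.1 (lift_inj ω h2 hω (genA_M0 ω h2 hω) (one_M0 ω h2 hω) nontrivial.2.2.2.2.2.1
    nontrivial.2.2.2.2.2.2.2.2.2.1 (h1.trans (lift_one ω h2 hω).symm))

theorem orderOf_A0 : orderOf (A0 ω) = 19 :=
  haveI : Fact (Nat.Prime 19) := ⟨by norm_num⟩
  orderOf_eq_prime (A0_pow19 ω h2 hω) (A0_ne ω h2 hω h4)

theorem gens : Subgroup.closure ({A0 ω, T0 ω} : Set (J3 F ω)) = ⊤ := by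
  set K := Subgroup.closure ({A0 ω, T0 ω} : Set (J3 F ω))
  have hA : A0 ω ∈ K := Subgroup.subset_closure (Or.inl rfl)
  have hT : T0 ω ∈ K := Subgroup.subset_closure (Or.inr rfl)
  have htM := cls_M0 ω h2 hω 0 (by norm_num)
  obtain ⟨hlt, hb⟩ := b_word
  have main : ∀ (l : List ℕ), (l.all fun e => Nat.blt e 19) = true → ∀ m, ev ω m ∈ M0 ω →
      pi ω (lift ω m) ∈ K →
      ev ω (l.foldl (fun m e => mulN (mulN m (ap e)) (entry cls 162 0)) m) ∈ M0 ω ∧
      pi ω (lift ω (l.foldl (fun m e => mulN (mulN m (ap e)) (entry cls 162 0)) m)) ∈ K := by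
    intro l
    induction l with
    | nil => exact fun _ m hm hK => ⟨hm, hK⟩
    | cons e l ih =>
      intro hl m hm hK
      simp only [List.all_cons, Bool.and_eq_true, Nat.blt_eq] at hl
      obtain ⟨ha, ha'⟩ := ap_spec ω h2 hω e hl.1
      have h1 := mulN_M0 ω h2 hω hm ha
      refine ih hl.2 _ (mulN_M0 ω h2 hω h1 htM) ?_
      rw [← lift_mul ω h2 hω h1 htM rfl, ← lift_mul ω h2 hω hm ha rfl, map_mul, map_mul, ha', map_pow]
      exact K.mul_mem (K.mul_mem hK (K.pow_mem hA e)) hT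
  obtain ⟨hWM, hWK⟩ := main bWord hlt J3Data90.one (one_M0 ω h2 hω)
    (by rw [lift_one ω h2 hω, map_one]; exact K.one_mem)
  have hbK : pi ω (lift ω genB) ∈ K := by
    have hc : pi ω (lift ω scal) = 1 := pi_of_center ω
      (center_of_scalar ω h2 hω (c := ω) (by rw [lift_spec ω h2 hω (scal_M0 ω h2 hω), ev_scal]))
    change ev ω bCode ∈ M0 ω at hWM
    change pi ω (lift ω bCode) ∈ K at hWK
    simp only [Bool.or_eq_true, Nat.beq_eq] at hb
    rcases hb with (e | e) | e <;> rw [e] at hWK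
    · exact hWK
    · rwa [← lift_mul ω h2 hω (scal_M0 ω h2 hω) (genB_M0 ω h2 hω) rfl, map_mul, hc, one_mul] at hWK
    · rwa [← lift_mul ω h2 hω (mulN_M0 ω h2 hω (scal_M0 ω h2 hω) (scal_M0 ω h2 hω)) (genB_M0 ω h2 hω) rfl,
        ← lift_mul ω h2 hω (scal_M0 ω h2 hω) (scal_M0 ω h2 hω) rfl, map_mul, map_mul, hc, one_mul,
        one_mul] at hWK
  obtain ⟨a, b, -, -, ha, hb', hgen⟩ := exists_gens ω h2 hω
  have hle : Subgroup.closure {a, b} ≤ K.comap (pi ω) := by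
    rw [Subgroup.closure_le]
    rintro v (rfl | rfl)
    · show pi ω v ∈ K
      rw [show v = lift ω genA from coe_inj ω (ha.trans (lift_spec ω h2 hω (genA_M0 ω h2 hω)).symm)]
      exact hA
    · show pi ω v ∈ K
      rw [show v = lift ω genB from coe_inj ω (hb'.trans (lift_spec ω h2 hω (genB_M0 ω h2 hω)).symm)]
      exact hbK
  rw [hgen] at hle
  rw [eq_top_iff]
  intro q _
  obtain ⟨g, rfl⟩ := QuotientGroup.mk'_surjective _ q
  exact hle (Subgroup.mem_top g)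

theorem aut_ext {φ ψ : MulAut (J3 F ω)} (hA : φ (A0 ω) = ψ (A0 ω)) (hT : φ (T0 ω) = ψ (T0 ω)) :
    φ = ψ := by
  have h := MonoidHom.eq_of_eqOn_dense (f := φ.toMonoidHom) (g := ψ.toMonoidHom)
    (gens ω h2 hω h4) (by rintro y (rfl | rfl) <;> assumption)
  exact MulEquiv.ext fun y => DFunLike.congr_fun h y

theorem class_surj {x : J3 F ω} (hx : orderOf x = 2) : ∃ j < 26163, x = pi ω (cF ω j) := by
  obtain ⟨hC, -⟩ := centralizer_spec ω h2 hω h4
  set C := Subgroup.centralizer ({T0 ω} : Set (J3 F ω))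
  choose g hg using fun j : Fin 26163 => cF_conj ω h2 hω j j.2
  have hconj : ∀ j : Fin 26163, pi ω (cF ω j) = pi ω (g j) * T0 ω * (pi ω (g j))⁻¹ := fun j => by
    rw [← hg j, map_mul, map_mul, map_inv]; rfl
  have hsq : ∀ j : Fin 26163, cF ω j * cF ω j = 1 := fun j => by
    rw [← hg j, show g j * tF ω * (g j)⁻¹ * (g j * tF ω * (g j)⁻¹) = g j * (tF ω * tF ω) * (g j)⁻¹ by group,
      tF_sq ω h2 hω, mul_one, mul_inv_cancel]
  let f : Fin 26163 → J3 F ω ⧸ C := fun j => QuotientGroup.mk (pi ω (g j))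
  have hinj : Function.Injective f := by
    intro j k e
    have hc := Subgroup.mem_centralizer_singleton_iff.1 (QuotientGroup.eq.1 e)
    refine cls_entry_inj (cF_inj ω h2 hω j.2 k.2 (pi_eq_of_sq ω h2 hω h4 (hsq j) (hsq k) ?_))
    rw [hconj j, hconj k]
    calc pi ω (g j) * T0 ω * (pi ω (g j))⁻¹
        = pi ω (g j) * (T0 ω * ((pi ω (g j))⁻¹ * pi ω (g k))) * (pi ω (g k))⁻¹ := by group
      _ = pi ω (g j) * (((pi ω (g j))⁻¹ * pi ω (g k)) * T0 ω) * (pi ω (g k))⁻¹ := by rw [hc]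
      _ = pi ω (g k) * T0 ω * (pi ω (g k))⁻¹ := by group
  have hidx : Nat.card (J3 F ω ⧸ C) ≤ Nat.card (Fin 26163) := by
    have h := C.card_mul_index
    rw [hC, card_J3 ω h2 hω h4] at h
    rw [Nat.card_fin]
    show C.index ≤ _
    omega
  obtain ⟨h, hh⟩ := isConj_iff.1 (J3InvThm90.conj_T0 ω h2 hω h4 hx)
  obtain ⟨j, hj⟩ := (hinj.bijective_of_nat_card_le hidx).2 (QuotientGroup.mk h)
  have hc := Subgroup.mem_centralizer_singleton_iff.1 (QuotientGroup.eq.1 hj)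
  refine ⟨j, j.2, ?_⟩
  rw [hconj j, ← hh]
  calc h * T0 ω * h⁻¹ = pi ω (g j) * (((pi ω (g j))⁻¹ * h) * T0 ω) * h⁻¹ := by group
    _ = pi ω (g j) * (T0 ω * ((pi ω (g j))⁻¹ * h)) * h⁻¹ := by rw [hc]
    _ = pi ω (g j) * T0 ω * (pi ω (g j))⁻¹ := by group

/-- Up to powers of the first generator the image of the involution is determined. -/
theorem fix_A {φ : MulAut (J3 F ω)} (hA : φ (A0 ω) = A0 ω) :
    ∃ e, φ (T0 ω) = A0 ω ^ e * T0 ω * (A0 ω ^ e)⁻¹ := by
  obtain ⟨j, hj, hjT⟩ := class_surj ω h2 hω h4 (x := φ (T0 ω))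
    (by rw [MulEquiv.orderOf_eq, orderOf_T0 ω h2 hω h4])
  have hs := allFrom_spec _ _ _ orb_ok j (Nat.zero_le _) (by omega)
  simp only [orbOK, force_eq, Bool.and_eq_true, Nat.blt_eq, Nat.beq_eq] at hs
  obtain ⟨⟨⟨hr, he⟩, hrep⟩, heq⟩ := hs
  set r := Nat.land (entry orbIdx 16 j) 2047
  set e := Nat.shiftRight (entry orbIdx 16 j) 11
  obtain ⟨haM, ha⟩ := ap_spec ω h2 hω e he
  have hcM := cls_M0 ω h2 hω _ hrep
  have hjM := cls_M0 ω h2 hω j hj
  have hrel : A0 ω ^ e * pi ω (cF ω (entry orbRep 16 r)) = pi ω (cF ω j) * A0 ω ^ e := by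
    rw [A0, ← map_pow, ← ha, ← map_mul, ← map_mul, cF, cF, lift_mul ω h2 hω haM hcM heq,
      lift_mul ω h2 hω hjM haM rfl]
  refine ⟨e, ?_⟩
  suffices hr0 : r = 0 by
    rw [hr0, ap_head.2.1] at hrel
    rw [hjT, eq_mul_inv_iff_mul_eq, ← hrel]
    rfl
  by_contra hr0
  have hψ : ∃ ψ : MulAut (J3 F ω), ψ (A0 ω) = A0 ω ∧ ψ (T0 ω) = pi ω (cF ω (entry orbRep 16 r)) := by
    refine ⟨MulAut.conj (A0 ω ^ e)⁻¹ * φ, ?_, ?_⟩
    · rw [MulAut.mul_apply, hA, MulAut.conj_apply, inv_inv, mul_assoc, ← pow_succ', pow_succ,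
        inv_mul_cancel_left]
    · rw [MulAut.mul_apply, hjT, MulAut.conj_apply, inv_inv, mul_assoc, ← hrel, inv_mul_cancel_left]
  obtain ⟨ψ, hψA, hψT⟩ := hψ
  have hs := allFrom_spec _ _ _ rep_ok r (Nat.zero_le _) (by omega)
  simp only [repOK, force_eq, Bool.or_eq_true, Bool.and_eq_true, Nat.blt_eq, Nat.beq_eq] at hs
  have word : ∀ c : ℕ, ev ω c ∈ M0 ω → ev ω (word3 c) ∈ M0 ω ∧ pi ω (lift ω (word3 c)) =
      ((A0 ω ^ 1 * pi ω (lift ω c)) * (A0 ω ^ 2 * pi ω (lift ω c)) *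
        (A0 ω ^ 3 * pi ω (lift ω c))) ^ 10 := by
    intro c hc
    obtain ⟨a1, a1'⟩ := ap_spec ω h2 hω 1 (by norm_num)
    obtain ⟨a2, a2'⟩ := ap_spec ω h2 hω 2 (by norm_num)
    obtain ⟨a3, a3'⟩ := ap_spec ω h2 hω 3 (by norm_num)
    have m1 := mulN_M0 ω h2 hω a1 hc
    have m2 := mulN_M0 ω h2 hω a2 hc
    have m3 := mulN_M0 ω h2 hω a3 hc
    have m12 := mulN_M0 ω h2 hω m1 m2
    obtain ⟨hp, hp'⟩ := lift_powN ω h2 hω (mulN_M0 ω h2 hω m12 m3) 10
    refine ⟨hp, ?_⟩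
    show pi ω (lift ω (powN (mulN (mulN (mulN (ap 1) c) (mulN (ap 2) c)) (mulN (ap 3) c)) 10)) = _
    rw [hp', map_pow, ← lift_mul ω h2 hω m12 m3 rfl, ← lift_mul ω h2 hω m1 m2 rfl,
      ← lift_mul ω h2 hω a1 hc rfl, ← lift_mul ω h2 hω a2 hc rfl, ← lift_mul ω h2 hω a3 hc rfl,
      a1', a2', a3']
    simp only [A0, map_mul, map_pow]
  have htM := cls_M0 ω h2 hω 0 (by norm_num)
  rcases hs with hs | ⟨-, hn⟩ | ⟨he', hn⟩
  · exact hr0 hs
  · obtain ⟨hw, hw'⟩ := word _ htM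
    obtain ⟨hv, hv'⟩ := word _ hcM
    have h1 : pi ω (lift ω (word3 (entry cls 162 0))) = 1 := pi_of_isScal ω h2 hω h4 hw word3_ok
    rw [hw'] at h1
    change ((A0 ω ^ 1 * T0 ω) * (A0 ω ^ 2 * T0 ω) * (A0 ω ^ 3 * T0 ω)) ^ 10 = 1 at h1
    have h2' := congrArg ψ h1
    simp only [map_pow, map_mul, hψA, hψT, map_one] at h2'
    exact ne_of_notScal ω h2 hω h4 hv hn (hv'.trans h2')
  · set e' := entry repTest 8 r
    obtain ⟨haM', ha'⟩ := ap_spec ω h2 hω e' he'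
    obtain ⟨hw, hw'⟩ := lift_powN ω h2 hω (mulN_M0 ω h2 hω haM' htM) (entry tOrd 8 e')
    obtain ⟨hv, hv'⟩ := lift_powN ω h2 hω (mulN_M0 ω h2 hω haM' hcM) (entry tOrd 8 e')
    have ht := allFrom_spec _ _ _ tOrd_ok e' (Nat.zero_le _) (by omega)
    have h1 := pi_of_isScal ω h2 hω h4 hw ht
    rw [hw', map_pow, ← lift_mul ω h2 hω haM' htM rfl, map_mul, ha', map_pow] at h1
    change (A0 ω ^ e' * T0 ω) ^ (entry tOrd 8 e') = 1 at h1
    have h2' := map_word ψ hψA _ _ h1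
    rw [hψT] at h2'
    refine ne_of_notScal ω h2 hω h4 hv hn ?_
    rw [hv', map_pow, ← lift_mul ω h2 hω haM' hcM rfl, map_mul, ha', map_pow]
    exact h2'

/-- The semilinear automorphism on the cover. -/
theorem exists_sigma : ∃ α : threeJ3 F ω ≃* threeJ3 F ω,
    α (lift ω genA) = lift ω sigA := by
  haveI : CharP F 2 := (CharP.charP_iff_prime_eq_zero Nat.prime_two).2 (by exact_mod_cast h2)
  let cze : F9 ≃ F9 := ⟨cz, cz, fun z => Prod.ext rfl (neg_neg z.2), fun z => Prod.ext rfl (neg_neg z.2)⟩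
  let σ : Matrix F9 F9 F →* Matrix F9 F9 F :=
    { toFun := fun M => (M.map (frobenius F 2)).submatrix cze cze
      map_one' := by
        rw [Matrix.map_one _ (map_zero _) (map_one _)]
        exact Matrix.submatrix_one_equiv cze
      map_mul' := fun M N => by
        rw [Matrix.map_mul]
        exact (Matrix.submatrix_mul_equiv _ _ _ _ _).symm }
  have hσinj : Function.Injective σ := by
    intro M N e
    ext w z
    have := congrFun (congrFun e (cze.symm w)) (cze.symm z)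
    simp only [σ, MonoidHom.coe_mk, OneHom.coe_mk, Matrix.submatrix_apply, Matrix.map_apply,
      Equiv.apply_symm_apply] at this
    exact frobenius_inj F 2 this
  have code : ∀ M MS : ℕ, (∀ w z : F9, bits MS w z =
      ((bits M (cz w) (cz z)).1.xor (bits M (cz w) (cz z)).2, (bits M (cz w) (cz z)).2)) →
      σ (ev ω M) = ev ω MS := by
    intro M MS h
    ext w z
    show frobenius F 2 (ev ω M (cz w) (cz z)) = _
    rw [frobenius_def, ev_apply, ev_apply, h, J3Unitary90.sq_e2 ω h2 hω]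
  have hA := code _ _ sig_bits.1
  have hB := code _ _ sig_bits.2
  have hM0 : M0 ω ≤ (M0 ω).comap σ := by
    rw [M0, Submonoid.closure_le]
    rintro s (rfl | rfl)
    · show σ (ev ω genA) ∈ M0 ω
      rw [hA]; exact mem_of_memOK ω h2 hω out_mem.1
    · show σ (ev ω genB) ∈ M0 ω
      rw [hB]; exact mem_of_memOK ω h2 hω out_mem.2.1
  let f : threeJ3 F ω →* GL F9 F := (Units.map σ).comp (threeJ3 F ω).subtype
  have hf : ∀ g, f g ∈ threeJ3 F ω := fun g => (mem_iff ω h2 hω _).2 (hM0 ((mem_iff ω h2 hω g).1 g.2))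
  let f' : threeJ3 F ω →* threeJ3 F ω := f.codRestrict _ hf
  have hinj : Function.Injective f' := by
    intro g h e
    exact coe_inj ω (hσinj (congrArg (fun x : threeJ3 F ω => ((x : GL F9 F) : Matrix F9 F9 F)) e))
  refine ⟨MulEquiv.ofBijective f' (Finite.injective_iff_bijective.1 hinj), coe_inj ω ?_⟩
  show σ ((lift ω genA : GL F9 F) : Matrix F9 F9 F) = _
  rw [lift_spec ω h2 hω (genA_M0 ω h2 hω), hA, lift_spec ω h2 hω (mem_of_memOK ω h2 hω out_mem.1)]

theorem exists_outer : ∃ α : MulAut (J3 F ω), α (A0 ω) = pi ω (lift ω sigA) ∧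
    α ∉ Cfsg.Inn (J3 F ω) := by
  obtain ⟨α, hα⟩ := exists_sigma ω h2 hω h4
  have hmap : (Subgroup.center (threeJ3 F ω)).map (α : threeJ3 F ω →* threeJ3 F ω) =
      Subgroup.center (threeJ3 F ω) := by
    ext x
    constructor
    · rintro ⟨g, hg, rfl⟩
      exact Subgroup.mem_center_iff.2 fun y => by
        have := congrArg α (Subgroup.mem_center_iff.1 hg (α.symm y))
        simpa using this
    · intro hx
      refine ⟨α.symm x, Subgroup.mem_center_iff.2 fun y => ?_, by simp⟩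
      have := congrArg α.symm (Subgroup.mem_center_iff.1 hx (α y))
      simpa using this
  let αb : MulAut (J3 F ω) := QuotientGroup.congr _ _ α hmap
  have hαA : αb (A0 ω) = pi ω (lift ω sigA) := by
    show QuotientGroup.congr _ _ α hmap (QuotientGroup.mk (lift ω genA)) = _
    rw [QuotientGroup.congr_mk, hα]
    rfl
  refine ⟨αb, hαA, ?_⟩
  rintro ⟨q, hq⟩
  obtain ⟨g, rfl⟩ := QuotientGroup.mk'_surjective _ q
  have h := DFunLike.congr_fun hq (A0 ω)
  rw [hαA, MulAut.conj_apply] at h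
  change pi ω g * pi ω (lift ω genA) * (pi ω g)⁻¹ = _ at h
  rw [← map_inv, ← map_mul, ← map_mul] at h
  obtain ⟨z, hz, e⟩ := pi_eq ω h
  have h19 : lift ω sigA ^ 19 = 1 := by rw [← hα, ← map_pow, genA_pow19 ω h2 hω, map_one]
  have hc : Commute z (lift ω sigA) := (Subgroup.mem_center_iff.1 hz _).symm
  have hz19 : z ^ 19 = 1 := by
    have h' : (g * lift ω genA * g⁻¹) ^ 19 = 1 := by
      rw [conj_pow, genA_pow19 ω h2 hω, mul_one, mul_inv_cancel]
    rwa [e, hc.mul_pow, h19, mul_one] at h'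
  have hz1 : z = 1 := by
    have h' : z = z ^ 19 * ((z ^ 3) ^ 6)⁻¹ := by group
    rw [h', hz19, center_cube ω h2 hω h4 hz]; simp
  rw [hz1, one_mul, mul_inv_eq_iff_eq_mul] at e
  have em := congrArg (fun x : threeJ3 F ω => ((x : GL F9 F) : Matrix F9 F9 F)) e
  simp only [Subgroup.coe_mul, Units.val_mul, lift_spec ω h2 hω (genA_M0 ω h2 hω),
    lift_spec ω h2 hω (mem_of_memOK ω h2 hω out_mem.1)] at em
  have htr : (ev ω genA).trace = (ev ω sigA).trace := by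
    have h' := congrArg (fun M => Matrix.trace (((g : GL F9 F)⁻¹ : GL F9 F).val * M)) em
    simp only [← mul_assoc, Units.inv_mul, one_mul] at h'
    rw [h', Matrix.trace_units_conj']
  rw [trace_eq ω h2 hω, trace_eq ω h2 hω] at htr
  have t1 := trace_bits.1
  have t2 := trace_bits.2
  rw [Prod.ext_iff] at t1 t2
  simp only at t1 t2
  rw [t1.1, t1.2, t2.1, t2.2] at htr
  exact Bool.noConfusion (e2_inj ω h2 hω htr).1

theorem normY_conj : ∀ e : ℕ,
    ∃ y : J3 F ω, y * A0 ω * y⁻¹ = A0 ω ^ (4 ^ e) := by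
  obtain ⟨a4, a4'⟩ := ap_spec ω h2 hω 4 (by norm_num)
  have hY := mem_of_memOK ω h2 hω out_mem.2.2.1
  have hrel : pi ω (lift ω normY) * A0 ω * (pi ω (lift ω normY))⁻¹ = A0 ω ^ 4 := by
    rw [mul_inv_eq_iff_eq_mul, A0, ← map_pow, ← map_mul, ← map_mul, ← a4',
      lift_mul ω h2 hω hY (genA_M0 ω h2 hω) out_conj.1, lift_mul ω h2 hω a4 hY rfl]
  intro e
  induction e with
  | zero => exact ⟨1, by simp⟩
  | succ e ih =>
    obtain ⟨y, hy⟩ := ih
    refine ⟨pi ω (lift ω normY) * y, ?_⟩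
    rw [mul_inv_rev, show pi ω (lift ω normY) * y * A0 ω * (y⁻¹ * (pi ω (lift ω normY))⁻¹) =
      pi ω (lift ω normY) * (y * A0 ω * y⁻¹) * (pi ω (lift ω normY))⁻¹ by group, hy, ← conj_pow,
      hrel, ← pow_mul, ← pow_succ']

theorem aut_A (α : MulAut (J3 F ω)) (hα : α (A0 ω) = pi ω (lift ω sigA)) (φ : MulAut (J3 F ω)) :
    (∃ g, φ (A0 ω) = g * A0 ω * g⁻¹) ∨ (∃ g, φ (A0 ω) = g * α (A0 ω) * g⁻¹) := by
  classical
  haveI : Fact (Nat.Prime 19) := ⟨by norm_num⟩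
  have hfac : 19 ^ (Nat.card (J3 F ω)).factorization 19 = 19 := by
    rw [card_J3 ω h2 hω h4, show (50232960 : ℕ) = 19 * 2643840 by norm_num,
      Nat.factorization_mul (by norm_num) (by norm_num), Finsupp.add_apply,
      (by norm_num : Nat.Prime 19).factorization_self,
      Nat.factorization_eq_zero_of_not_dvd (by norm_num : ¬ 19 ∣ 2643840), add_zero, pow_one]
  have hc : ∀ x : J3 F ω, orderOf x = 19 →
      Nat.card (Subgroup.zpowers x) = 19 ^ (Nat.card (J3 F ω)).factorization 19 :=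
    fun x hx => by rw [hfac, Nat.card_zpowers, hx]
  have hoA := orderOf_A0 ω h2 hω h4
  obtain ⟨g, hg⟩ := MulAction.exists_smul_eq (J3 F ω) (Sylow.ofCard _ (hc _ hoA))
    (Sylow.ofCard _ (hc (φ (A0 ω)) (by rw [MulEquiv.orderOf_eq, hoA])))
  have hmem : φ (A0 ω) ∈ (g • Sylow.ofCard _ (hc _ hoA) : Sylow 19 (J3 F ω)) := by
    rw [hg]; exact Subgroup.mem_zpowers _
  obtain ⟨y, hy, hye⟩ := hmem
  obtain ⟨i, hi⟩ : ∃ i : ℕ, A0 ω ^ i = y := by
    have h0 : y ∈ Subgroup.zpowers (A0 ω) := hy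
    rw [mem_zpowers_iff_mem_range_orderOf, Finset.mem_image] at h0
    obtain ⟨i, -, hi⟩ := h0
    exact ⟨i, hi⟩
  change g * y * g⁻¹ = φ (A0 ω) at hye
  rw [← hi, A0_pow_mod ω h2 hω] at hye
  have hi0 : i % 19 ≠ 0 := by
    intro h
    rw [h, pow_zero, mul_one, mul_inv_cancel] at hye
    exact A0_ne ω h2 hω h4 (φ.injective (hye.symm.trans (map_one φ).symm))
  obtain ⟨e, he⟩ := qr_cases ⟨i % 19, Nat.mod_lt _ (by norm_num)⟩
    (fun h => hi0 (congrArg Fin.val h))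
  obtain ⟨y, hy⟩ := normY_conj ω h2 hω h4 (e : ℕ)
  simp only at he
  rcases he with he | he
  · left
    refine ⟨g * y, ?_⟩
    rw [he, ← A0_pow_mod ω h2 hω, ← hy] at hye
    rw [← hye]; group
  · right
    obtain ⟨a2, a2'⟩ := ap_spec ω h2 hω 2 (by norm_num)
    have hG := mem_of_memOK ω h2 hω out_mem.2.2.2
    have hS := mem_of_memOK ω h2 hω out_mem.1
    have hrel : pi ω (lift ω conjG) * A0 ω ^ 2 * (pi ω (lift ω conjG))⁻¹ = α (A0 ω) := by
      rw [hα, mul_inv_eq_iff_eq_mul, A0, ← map_pow, ← map_mul, ← map_mul, ← a2',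
        lift_mul ω h2 hω hG a2 out_conj.2, lift_mul ω h2 hω hS hG rfl]
    refine ⟨g * y * (pi ω (lift ω conjG))⁻¹, ?_⟩
    rw [he, ← A0_pow_mod ω h2 hω, mul_comm, pow_mul, ← hy, conj_pow] at hye
    rw [← hye, ← hrel]; group

theorem card_out : Nat.card (Cfsg.Out (J3 F ω)) = 2 := by
  obtain ⟨α, hα, hout⟩ := exists_outer ω h2 hω h4
  have fix : ∀ φ : MulAut (J3 F ω), φ (A0 ω) = A0 ω → φ ∈ Cfsg.Inn (J3 F ω) := by
    intro φ hφ
    obtain ⟨e, he⟩ := fix_A ω h2 hω h4 hφ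
    refine ⟨A0 ω ^ e, aut_ext ω h2 hω h4 ?_ ?_⟩
    · rw [hφ, MulAut.conj_apply, ← pow_succ, pow_succ', mul_inv_cancel_right]
    · rw [he, MulAut.conj_apply]
  rw [Nat.card_eq_two_iff]
  refine ⟨QuotientGroup.mk 1, QuotientGroup.mk α, fun h => ?_, ?_⟩
  · rw [QuotientGroup.eq, inv_one, one_mul] at h
    exact hout h
  · refine Set.eq_univ_of_forall fun q => ?_
    obtain ⟨φ, rfl⟩ := QuotientGroup.mk_surjective q
    rcases aut_A ω h2 hω h4 α hα φ with ⟨g, hg⟩ | ⟨g, hg⟩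
    · left
      refine (QuotientGroup.eq_one_iff φ).2 ?_
      have hin : MulAut.conj g ∈ Cfsg.Inn (J3 F ω) := ⟨g, rfl⟩
      have h := fix ((MulAut.conj g)⁻¹ * φ) (by
        rw [MulAut.mul_apply, hg, ← MulAut.conj_apply, MulAut.inv_apply_self])
      simpa using (Cfsg.Inn (J3 F ω)).mul_mem hin h
    · right
      rw [Set.mem_singleton_iff, QuotientGroup.eq]
      have hin : MulAut.conj g ∈ Cfsg.Inn (J3 F ω) := ⟨g, rfl⟩
      have h := fix (α⁻¹ * (MulAut.conj g)⁻¹ * φ) (by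
        rw [MulAut.mul_apply, MulAut.mul_apply, hg, ← MulAut.conj_apply, MulAut.inv_apply_self,
          MulAut.inv_apply_self])
      have hn : α⁻¹ * (MulAut.conj g)⁻¹ * α ∈ Cfsg.Inn (J3 F ω) := by
        have := (inferInstance : (Cfsg.Inn (J3 F ω)).Normal).conj_mem _
          ((Cfsg.Inn (J3 F ω)).inv_mem hin) α⁻¹
        rwa [inv_inv] at this
      have key : φ⁻¹ * α = (α⁻¹ * (MulAut.conj g)⁻¹ * φ)⁻¹ * (α⁻¹ * (MulAut.conj g)⁻¹ * α) := by
        group
      rw [key]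
      exact (Cfsg.Inn (J3 F ω)).mul_mem ((Cfsg.Inn (J3 F ω)).inv_mem h) hn

end

end Cfsg.Agent.J3Out90
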