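import Cfsg.Agent.Lib.J3MultBound90
import Cfsg.Agent.Lib.J3Out90
import Cfsg.Agent.Lib.J3MultP3Check90

/-! Characters of exponent nine of the kernel of a stem extension of the third Janko group. -/

set_option autoImplicit false
set_option maxRecDepth 100000

namespace Cfsg.Agent.J3MultP3_90

open CosetCertCore J3Mat90 J3Data90 J3Check90 J3Cert2_90 J3OutCert90 J3Level90 J3Chain90
open J3Order90 J3Simple90 J3InvLift90 J3InvCore90 J3Out90 SplitVoltage SplitVoltageCert
open J3MultP3Data90 J3MultP3Check90 J3MultBound90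
open Cfsg.Spor

universe u

theorem eC_inj {a b : ℕ} (ha : a < 5832) (hb : b < 5832) (e : entry eC 162 a = entry eC 162 b) :
    a = b := by
  have hsort : ∀ x < 5832, entry eS 16 x < 5832 ∧
      (x + 1 < 5832 → entry eC 162 (entry eS 16 x) < entry eC 162 (entry eS 16 (x + 1))) := by
    intro x hx
    have hs := allFrom_spec _ _ _ sorted_ok x (Nat.zero_le _) (by omega)
    simp only [J3MultP3Check90.sortedOK, Bool.or_eq_true, Bool.and_eq_true, Nat.blt_eq] at hs
    exact ⟨hs.1, fun h => hs.2.resolve_left (by omega)⟩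
  let σ : Fin 5832 → Fin 5832 := fun x => ⟨entry eS 16 x, (hsort x x.2).1⟩
  have hmono : StrictMono fun x : Fin (5831 + 1) => entry eC 162 (σ x) :=
    Fin.strictMono_iff_lt_succ.2 fun i =>
      (hsort i (Nat.lt_succ_of_lt i.2)).2 (Nat.succ_lt_succ i.2)
  have hσ : Function.Bijective σ := Finite.injective_iff_bijective.1 fun a b e =>
    hmono.injective (congrArg (fun t : Fin 5832 => entry eC 162 t) e)
  obtain ⟨a', ha'⟩ := hσ.2 ⟨a, ha⟩
  obtain ⟨b', hb'⟩ := hσ.2 ⟨b, hb⟩
  have e' : entry eC 162 (σ a') = entry eC 162 (σ b') := by rw [ha', hb']; exact e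
  have := hmono.injective e'
  rw [this, hb'] at ha'
  exact (congrArg Fin.val ha').symm

section
variable {F : Type u} [Field F] [Finite F] (ω : F)

/-- The element of the quotient with a given code. -/
noncomputable def P (M : ℕ) : J3 F ω := pi ω (lift ω M)

variable (h2 : (2 : F) = 0) (hω : ω ^ 2 + ω + 1 = 0) (h4 : Nat.card F = 4)
include h2 hω h4

theorem gen_spec : ∀ i < 2, ev ω (gens.getD i 0) ∈ M0 ω ∧ orderOf (P ω (gens.getD i 0)) = 8 := by
  obtain ⟨m1, m2⟩ := mem_ok
  obtain ⟨c1, c2⟩ := eights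
  have main : ∀ g, ev ω g ∈ M0 ω → eightOK g = true → orderOf (P ω g) = 8 := by
    intro g hg h
    simp only [eightOK, Bool.and_eq_true] at h
    haveI : Fact (Nat.Prime 2) := ⟨Nat.prime_two⟩
    have e : ∀ n, P ω g ^ n = pi ω (lift ω (powN g n)) := fun n => by
      rw [P, ← map_pow, (lift_powN ω h2 hω hg n).2]
    refine orderOf_eq_prime_pow (p := 2) (n := 2) ?_ ?_
    · rw [e]; exact ne_of_notScal ω h2 hω h4 (lift_powN ω h2 hω hg 4).1 h.2
    · rw [e]; exact pi_of_isScal ω h2 hω h4 (lift_powN ω h2 hω hg 8).1 h.1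
  intro i hi
  interval_cases i
  · exact ⟨mem_of_memOK ω h2 hω m1, main _ (mem_of_memOK ω h2 hω m1) c1⟩
  · exact ⟨mem_of_memOK ω h2 hω m2, main _ (mem_of_memOK ω h2 hω m2) c2⟩

theorem wM8_spec : ∀ l : List (ℕ × Bool), (∀ t ∈ l, t.1 < 2) → ev ω (wM8 gens l) ∈ M0 ω ∧
    P ω (wM8 gens l) = wprod (fun i => P ω (gens.getD i 0)) l
  | [], _ => ⟨one_M0 ω h2 hω, by rw [P]; show pi ω (lift ω J3Data90.one) = _; rw [lift_one ω h2 hω, map_one]; rfl⟩
  | (i, b) :: l, hl => by
    have hi : i < 2 := hl (i, b) List.mem_cons_self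
    obtain ⟨hM, ih⟩ := wM8_spec l fun t ht => hl t (List.mem_cons_of_mem _ ht)
    obtain ⟨hg, ho⟩ := gen_spec ω h2 hω h4 i hi
    simp only [wM8, force_eq, wprod]
    have h7 := lift_powN ω h2 hω hg 7
    cases b
    · refine ⟨mulN_M0 ω h2 hω hM h7.1, ?_⟩
      rw [if_neg (by simp), cond_false, ← ih, P, P, P, ← map_inv, ← map_mul,
        ← lift_mul ω h2 hω hM h7.1 rfl, h7.2, map_mul, map_mul]
      congr 1
      rw [map_pow, map_inv]
      have h8 : P ω (gens.getD i 0) ^ 8 = 1 := by rw [← ho]; exact pow_orderOf_eq_one _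
      rw [pow_succ] at h8
      exact eq_inv_of_mul_eq_one_left h8
    · refine ⟨mulN_M0 ω h2 hω hM hg, ?_⟩
      rw [if_pos rfl, cond_true, ← ih, P, P, P, ← map_mul, lift_mul ω h2 hω hM hg rfl]

theorem eT_M0 : ∀ c < 243, ev ω (entry eT 162 c) ∈ M0 ω := by
  intro c
  induction c using Nat.strong_induction_on with
  | _ c ih =>
    intro hc
    by_cases h0 : c = 0
    · subst h0
      rw [J3MultP3Check90.head]
      exact one_M0 ω h2 hω
    have hs := allFrom_spec _ _ _ e_tree c (Nat.zero_le _) (by omega)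
    simp only [eTreeOK, force_eq, Bool.or_eq_true, Bool.and_eq_true, Nat.blt_eq, Nat.beq_eq] at hs
    obtain ⟨hp, he⟩ := hs.resolve_left h0
    rw [he]
    exact mulN_M0 ω h2 hω (gen_spec ω h2 hω h4 _ (Nat.mod_lt _ (by norm_num))).1 (ih _ hp (hp.trans hc))

theorem eC_spec {q : ℕ} (hq : q < 5832) : ev ω (entry eC 162 q) ∈ M0 ω ∧
    lift ω (entry eC 162 q) =
      lift ω (entry eT 162 (q / 24)) * lift ω (gens.getD 0 0) ^ (q / 3 % 8) * lift ω scal ^ (q % 3) := by
  have h := allFrom_spec _ _ _ e_ok q (Nat.zero_le _) (by omega)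
  simp only [eOK, Nat.beq_eq] at h
  have hT := eT_M0 ω h2 hω h4 (q / 24) (by omega)
  have hb := lift_powN ω h2 hω (gen_spec ω h2 hω h4 0 (by norm_num)).1 (q / 3 % 8)
  have hs := lift_powN ω h2 hω (scal_M0 ω h2 hω) (q % 3)
  have hTb := mulN_M0 ω h2 hω hT hb.1
  refine ⟨h ▸ mulN_M0 ω h2 hω hTb hs.1, ?_⟩
  rw [h, ← lift_mul ω h2 hω hTb hs.1 rfl, ← lift_mul ω h2 hω hT hb.1 rfl, hb.2, hs.2]

/-- Characters of exponent nine of the kernel of a stem extension take values in a group of order three. -/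
theorem bound {Γ : Type u} [Group Γ] [Finite Γ] (σ : Γ →* J3 F ω) (hσ : Cfsg.IsStemExtension σ)
    {A : Type*} [CommGroup A] (hA : ∀ a : A, a ^ 9 = 1) (χ : σ.ker →* A) :
    ∃ u : A, u ^ 3 = 1 ∧ ∀ z : σ.ker, χ z ∈ Subgroup.zpowers u := by
  haveI : Finite (J3 F ω) := Nat.finite_of_card_ne_zero (by rw [card_J3 ω h2 hω h4]; norm_num)
  let x : ℕ → J3 F ω := fun i => P ω (gens.getD i 0)
  let C8 : Subgroup (J3 F ω) := Subgroup.zpowers (x 0)
  let obj : ℕ → J3 F ω ⧸ C8 := fun c => QuotientGroup.mk (P ω (entry eT 162 c))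
  have hn : cert.n = 2 := rfl
  have hN : cert.N = 243 := rfl
  have hinj : ∀ c < cert.N, ∀ d < cert.N, obj c = obj d → c = d := by
    intro c hc d hd e
    rw [hN] at hc hd
    obtain ⟨k, hk⟩ := Subgroup.mem_zpowers_iff.1 (QuotientGroup.eq.1 e)
    have hk8 : x 0 ^ k = x 0 ^ (k % 8).toNat := by
      rw [← zpow_natCast, Int.toNat_of_nonneg (Int.emod_nonneg _ (by norm_num))]
      have h8 := (gen_spec ω h2 hω h4 0 (by norm_num)).2
      have := zpow_mod_orderOf (x 0) k
      rw [show orderOf (x 0) = 8 from h8] at this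
      exact_mod_cast this.symm
    rw [hk8, eq_inv_mul_iff_mul_eq] at hk
    set j := (k % 8).toNat
    have hj : j < 8 := by omega
    have hd' : pi ω (lift ω (entry eT 162 d)) =
        pi ω (lift ω (entry eT 162 c) * lift ω (gens.getD 0 0) ^ j) := by
      rw [map_mul, map_pow]; exact hk.symm
    obtain ⟨z, hz, e'⟩ := pi_eq ω hd'
    obtain ⟨s, hs, rfl⟩ : ∃ s < 3, z = lift ω scal ^ s := by
      rcases scal_gen ω h2 hω h4 hz with rfl | rfl | rfl
      · exact ⟨0, by norm_num, (pow_zero _).symm⟩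
      · exact ⟨1, by norm_num, (pow_one _).symm⟩
      · exact ⟨2, by norm_num, (pow_two _).symm⟩
    rw [← Subgroup.mem_center_iff.1 hz] at e'
    obtain ⟨a1, a2⟩ := eC_spec ω h2 hω h4 (q := (c * 8 + j) * 3 + s) (by omega)
    obtain ⟨b1, b2⟩ := eC_spec ω h2 hω h4 (q := d * 24) (by omega)
    rw [show ((c * 8 + j) * 3 + s) / 24 = c by omega, show ((c * 8 + j) * 3 + s) / 3 % 8 = j by omega,
      show ((c * 8 + j) * 3 + s) % 3 = s by omega, ← e'] at a2
    rw [show d * 24 / 24 = d by omega, show d * 24 / 3 % 8 = 0 by omega, show d * 24 % 3 = 0 by omega,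
      pow_zero, pow_zero, mul_one, mul_one] at b2
    have := eC_inj (a := (c * 8 + j) * 3 + s) (b := d * 24) (by omega) (by omega)
      (lift_inj ω h2 hω a1 b1 (entry_bound _ _) (entry_bound _ _) (a2.trans b2.symm))
    omega
  have hact : ∀ i < cert.n, ∀ c < cert.N, x i • obj c = obj (cert.nxF i c) := by
    intro i hi c hc
    rw [hn] at hi; rw [hN] at hc
    have hs := allFrom_spec _ _ _ step_ok (i + 2 * c) (Nat.zero_le _) (by omega)
    simp only [stepOK, force_eq, Bool.and_eq_true, Nat.blt_eq, Nat.beq_eq,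
      show (i + 2 * c) % 2 = i by omega, show (i + 2 * c) / 2 = c by omega] at hs
    obtain ⟨⟨hq, hd⟩, he⟩ := hs
    set q := entry eE 16 (i + 2 * c)
    obtain ⟨q1, q2⟩ := eC_spec ω h2 hω h4 hq
    have hg := (gen_spec ω h2 hω h4 i hi).1
    show QuotientGroup.mk (x i * P ω (entry eT 162 c)) = QuotientGroup.mk (P ω (entry eT 162 (cert.nxF i c)))
    have e : x i * P ω (entry eT 162 c) = P ω (entry eT 162 (cert.nxF i c)) * x 0 ^ (q / 3 % 8) := by
      show pi ω _ * pi ω _ = pi ω _ * pi ω _ ^ _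
      rw [← map_mul, lift_mul ω h2 hω hg (eT_M0 ω h2 hω h4 c hc) he, q2, map_mul, map_mul, map_pow,
        map_pow, pi_of_isScal ω h2 hω h4 (scal_M0 ω h2 hω) (by simp [isScal, Nat.beq_refl]), one_pow,
        mul_one, hd]
      rfl
    rw [e, QuotientGroup.mk_mul_of_mem _ (Subgroup.pow_mem _ (Subgroup.mem_zpowers _) _)]
  obtain ⟨hr, r0, r1⟩ := rels_ok
  refine bound_sub cert cert_core rfl x [8, 8] ?_ ?_ obj hinj hact ?_ hA 3
    (Cert.solution_cyc cert_core fin_check (A := Additive A)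
      (fun a => Additive.toMul.injective (by rw [toMul_nsmul, toMul_zero]; exact hA a.toMul))) σ hσ χ
  · intro i hi
    rw [hn] at hi
    have h := (gen_spec ω h2 hω h4 i hi).2
    interval_cases i
    · exact ⟨h, by decide, r0⟩
    · exact ⟨h, by decide, r1⟩
  · intro l hl
    have := List.all_eq_true.1 hr l hl
    simp only [Bool.and_eq_true, List.all_eq_true, Nat.blt_eq] at this
    obtain ⟨hM, e⟩ := wM8_spec ω h2 hω h4 l this.2
    rw [← e]
    exact pi_of_isScal ω h2 hω h4 hM this.1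
  · rw [card_J3 ω h2 hω h4, hN]
    show Nat.Coprime (50232960 / 243) 9
    norm_num

end

end Cfsg.Agent.J3MultP3_90
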