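import Cfsg.Agent.Lib.J3MultP2_90
import Cfsg.Agent.Lib.J3MultP3_90
import Cfsg.Prelude.Def_KGroupFacts

/-! The multiplier of the third Janko group has order three. -/

set_option autoImplicit false
set_option maxRecDepth 100000

namespace Cfsg.Agent.J3Mult90

open J3Order90 J3Simple90 J3InvLift90 J3InvCore90 J3Out90 SplitVoltage
open Cfsg.Spor
open scoped commutatorElement

universe u

section
variable {F : Type u} [Field F] [Finite F] (ω : F) (h2 : (2 : F) = 0) (hω : ω ^ 2 + ω + 1 = 0)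
  (h4 : Nat.card F = 4)
include h2 hω h4

theorem perfect_J3 : commutator (J3 F ω) = ⊤ := by
  haveI := simple_J3 ω h2 hω h4
  rcases IsSimpleGroup.eq_bot_or_eq_top_of_normal (commutator (J3 F ω)) inferInstance with h | h
  swap
  · exact h
  exfalso
  haveI : Finite (J3 F ω) := Nat.finite_of_card_ne_zero (by rw [card_J3 ω h2 hω h4]; norm_num)
  letI : CommGroup (J3 F ω) :=
    { (inferInstance : Group (J3 F ω)) with
      mul_comm := fun a b => by
        have hm : ⁅a, b⁆ ∈ commutator (J3 F ω) :=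
          Subgroup.commutator_mem_commutator (Subgroup.mem_top a) (Subgroup.mem_top b)
        rw [h, Subgroup.mem_bot, commutatorElement_eq_one_iff_mul_comm] at hm
        exact hm }
  have hp : (Nat.card (J3 F ω)).Prime := IsSimpleGroup.prime_card
  rw [card_J3 ω h2 hω h4] at hp
  exact absurd hp (by norm_num)

theorem perfect_three : commutator (threeJ3 F ω) = ⊤ := by
  obtain ⟨a, b, ha, hb, -, -, hgen⟩ := exists_gens ω h2 hω
  have hcube : ∀ x : threeJ3 F ω, Abelianization.of x ^ 3 = 1 := by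
    intro x
    have hx : pi ω x ∈ (commutator (threeJ3 F ω)).map (pi ω) := by
      have hr : (pi ω).range = ⊤ := MonoidHom.range_eq_top.2 (QuotientGroup.mk'_surjective _)
      rw [map_commutator_eq, hr, ← commutator_def, perfect_J3 ω h2 hω h4]
      trivial
    obtain ⟨n, hn, e⟩ := hx
    obtain ⟨z, hz, e'⟩ := pi_eq ω e.symm
    have hn1 : Abelianization.of n = 1 :=
      MonoidHom.mem_ker.1 (Abelianization.ker_of (threeJ3 F ω) ▸ hn)
    rw [e', map_mul, hn1, mul_one, ← map_pow, center_cube ω h2 hω h4 hz, map_one]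
  have h1 : ∀ x : threeJ3 F ω, x ^ 19 = 1 → Abelianization.of x = 1 := by
    intro x hx
    have h := hcube x
    have e : Abelianization.of x = Abelianization.of x ^ 19 * ((Abelianization.of x ^ 3) ^ 6)⁻¹ := by
      group
    rw [e, h, ← map_pow, hx, map_one]; simp
  rw [← Abelianization.ker_of, MonoidHom.ker_eq_top_iff]
  refine MonoidHom.eq_of_eqOn_dense hgen ?_
  rintro x (rfl | rfl)
  · exact h1 _ ha
  · exact h1 _ hb

theorem cover : ∃ (Γ : Type u) (_ : Group Γ) (_ : Finite Γ) (σ : Γ →* J3 F ω),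
    Cfsg.IsStemExtension σ ∧ Nonempty (σ.ker ≃* Multiplicative (ZMod 3)) := by
  have hk : (pi ω).ker = Subgroup.center (threeJ3 F ω) := QuotientGroup.ker_mk' _
  have hfin : Finite (threeJ3 F ω) := Nat.finite_of_card_ne_zero (by rw [card_threeJ3 ω h2 hω]; norm_num)
  have hcard : Nat.card (pi ω).ker = 3 := by rw [hk, card_center ω h2 hω h4]
  refine ⟨threeJ3 F ω, inferInstance, hfin, pi ω, ⟨QuotientGroup.mk'_surjective _, hk.le, ?_⟩, ?_⟩
  · rw [perfect_three ω h2 hω h4]; exact le_top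
  · haveI : Fact (Nat.Prime 3) := ⟨Nat.prime_three⟩
    haveI : IsCyclic (pi ω).ker := isCyclic_of_prime_card hcard
    exact ⟨mulEquivOfCyclicCardEq (by
      rw [hcard, show Nat.card (Multiplicative (ZMod 3)) = 3 from Nat.card_zmod 3])⟩

theorem eq_three_of_dvd_ker {Γ : Type u} [Group Γ] [Finite Γ] {σ : Γ →* J3 F ω}
    (hσ : Cfsg.IsStemExtension σ) {p : ℕ} (hp : p.Prime) (hd : p ∣ Nat.card σ.ker) : p = 3 := by
  haveI := Fact.mk hp
  haveI : Finite (J3 F ω) := Nat.finite_of_card_ne_zero (by rw [card_J3 ω h2 hω h4]; norm_num)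
  by_contra h3
  have hsplit : CenSplit p (J3 F ω) → False := by
    intro hs
    obtain ⟨M, hM⟩ := trivial_multiplier.exists_index_eq_prime hσ.2.1 hd
    haveI : M.Normal := by
      constructor
      intro a ha g
      have : g * a = a * g := Subtype.ext (Subgroup.mem_center_iff.1 (hσ.2.1 a.2) g)
      rwa [this, mul_inv_cancel_right]
    have hcard : Nat.card (σ.ker ⧸ M) = p := hM
    haveI : IsCyclic (σ.ker ⧸ M) := isCyclic_of_prime_card hcard
    let e : σ.ker ⧸ M ≃* Multiplicative (ZMod p) := mulEquivOfCyclicCardEq (by simp [hcard])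
    obtain ⟨ψ, hψ⟩ := hs Γ σ hσ.1 hσ.2.1 (e.toMonoidHom.comp (QuotientGroup.mk' M))
    have htop : M = ⊤ := by
      rw [Subgroup.eq_top_iff']
      intro w
      have := hψ w
      rw [eq_one_of_mem_commutator ψ (hσ.2.2 w.2)] at this
      have h1 : QuotientGroup.mk' M w = 1 := e.injective (by simpa using this.symm)
      exact (QuotientGroup.eq_one_iff w).1 h1
    rw [htop, Subgroup.index_top] at hM
    exact hp.one_lt.ne hM
  by_cases h2p : p = 2
  · subst h2p
    exact hsplit (J3MultP2_90.censplit ω h2 hω h4)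
  by_cases hdvd : p ∣ Nat.card (J3 F ω)
  · have hsmall : p = 5 ∨ p = 17 ∨ p = 19 := by
      rw [card_J3 ω h2 hω h4, show (50232960 : ℕ) = 2 ^ 7 * 3 ^ 5 * 5 * 17 * 19 by norm_num,
        hp.dvd_mul, hp.dvd_mul, hp.dvd_mul, hp.dvd_mul] at hdvd
      have hq : ∀ q k : ℕ, q.Prime → p ∣ q ^ k → p = q := fun q k hq h =>
        (Nat.prime_dvd_prime_iff_eq hp hq).1 (hp.dvd_of_dvd_pow h)
      rcases hdvd with (((h | h) | h) | h) | h
      · exact absurd (hq 2 7 Nat.prime_two h) h2p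
      · exact absurd (hq 3 5 Nat.prime_three h) h3
      · exact Or.inl ((Nat.prime_dvd_prime_iff_eq hp (by norm_num)).1 h)
      · exact Or.inr (Or.inl ((Nat.prime_dvd_prime_iff_eq hp (by norm_num)).1 h))
      · exact Or.inr (Or.inr ((Nat.prime_dvd_prime_iff_eq hp (by norm_num)).1 h))
    obtain ⟨z, hz⟩ := exists_prime_orderOf_dvd_card' (G := σ.ker) p hd
    have hzo : orderOf (z : Γ) = p := (Subgroup.orderOf_coe z).trans hz
    obtain ⟨a, ha⟩ := exists_prime_orderOf_dvd_card' (G := J3 F ω) p hdvd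
    have hidx := (Subgroup.zpowers a).card_mul_index
    rw [Nat.card_zpowers, ha, card_J3 ω h2 hω h4] at hidx
    have hcop : Nat.Coprime (orderOf (z : Γ)) (Subgroup.zpowers a).index := by
      rw [hzo, hp.coprime_iff_not_dvd]
      rintro ⟨k, hk⟩
      rw [hk, ← mul_assoc] at hidx
      have : p * p ∣ 50232960 := ⟨k, hidx.symm⟩
      rcases hsmall with rfl | rfl | rfl <;> norm_num at this
    have h1 := StemBasic.eq_one_of_kerFree hσ (StemBasic.kerFree_zpowers σ hσ.2.1 a) z.2 hcop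
    rw [h1, orderOf_one] at hzo
    exact hp.one_lt.ne hzo
  · exact hsplit (censplit_of_coprime ((Nat.Coprime.symm) ((hp.coprime_iff_not_dvd).2 hdvd)))

theorem exists_onto {Γ : Type u} [Group Γ] [Finite Γ] {σ : Γ →* J3 F ω}
    (hσ : Cfsg.IsStemExtension σ) :
    ∃ π : Multiplicative (ZMod 3) →* σ.ker, Function.Surjective π := by
  letI : CommGroup σ.ker :=
    { (inferInstance : Group σ.ker) with
      mul_comm := fun a b => Subtype.ext (Subgroup.mem_center_iff.1 (hσ.2.1 b.2) a) }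
  let f : σ.ker →* σ.ker := powMonoidHom 9
  obtain ⟨u, hu, hmem⟩ := J3MultP3_90.bound ω h2 hω h4 σ hσ
    (A := σ.ker ⧸ f.range) (fun a => by
      obtain ⟨y, rfl⟩ := QuotientGroup.mk_surjective a
      rw [← QuotientGroup.mk_pow, QuotientGroup.eq_one_iff]
      exact ⟨y, rfl⟩) (QuotientGroup.mk' f.range)
  obtain ⟨w, rfl⟩ := QuotientGroup.mk_surjective u
  have hgen : ∀ k : ℕ, ∀ z : σ.ker, ∃ (j : ℤ) (y : σ.ker), z = w ^ j * y ^ (9 ^ k) := by
    intro k
    induction k with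
    | zero => exact fun z => ⟨0, z, by simp⟩
    | succ k ih =>
      intro z
      obtain ⟨j, y, rfl⟩ := ih z
      obtain ⟨i, hi⟩ := Subgroup.mem_zpowers_iff.1 (hmem y)
      obtain ⟨y', hy'⟩ := (QuotientGroup.eq (s := f.range)).1
        (by rw [QuotientGroup.mk_zpow]; exact hi : (QuotientGroup.mk (w ^ i) : σ.ker ⧸ f.range) = QuotientGroup.mk y)
      rw [eq_inv_mul_iff_mul_eq] at hy'
      refine ⟨j + i * (9 ^ k : ℕ), y', ?_⟩
      rw [← hy', mul_pow, zpow_add, zpow_mul, zpow_natCast, mul_assoc, pow_succ', pow_mul]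
      rfl
  obtain ⟨n, hn⟩ : ∃ n, Nat.card σ.ker = 3 ^ n :=
    ⟨_, Nat.eq_prime_pow_of_unique_prime_dvd Nat.card_pos.ne'
      (fun hd hdvd => eq_three_of_dvd_ker ω h2 hω h4 hσ hd hdvd)⟩
  have hall : ∀ z : σ.ker, ∃ j : ℤ, z = w ^ j := by
    intro z
    obtain ⟨j, y, hy⟩ := hgen n z
    refine ⟨j, ?_⟩
    have h1 : y ^ (9 ^ n) = 1 := orderOf_dvd_iff_pow_eq_one.1
      ((orderOf_dvd_natCard y).trans (hn ▸ pow_dvd_pow_of_dvd (by norm_num) n))
    rw [hy, h1, mul_one]
  have hw3 : w ^ 3 = 1 := by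
    rw [← QuotientGroup.mk_pow, QuotientGroup.eq_one_iff] at hu
    obtain ⟨y, hy⟩ := hu
    obtain ⟨j, rfl⟩ := hall y
    have h9 : (w ^ j) ^ 9 = w ^ 3 := hy
    rw [← zpow_natCast (w ^ j), ← zpow_mul, ← zpow_natCast w 3, zpow_eq_zpow_iff_modEq] at h9
    have hd : ((orderOf w : ℕ) : ℤ) ∣ (3 : ℤ) - j * 9 := by simpa using h9.dvd
    obtain ⟨k, -, hk⟩ := (Nat.dvd_prime_pow Nat.prime_three).1 (hn ▸ orderOf_dvd_natCard w)
    apply orderOf_dvd_iff_pow_eq_one.1
    rcases Nat.lt_or_ge k 2 with hk2 | hk2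
    · rw [hk]; interval_cases k <;> norm_num
    · exfalso
      have : ((9 : ℕ) : ℤ) ∣ (orderOf w : ℤ) := by
        rw [hk]; exact_mod_cast (pow_dvd_pow 3 hk2)
      have := this.trans hd
      omega
  let a : {f : ℤ →+ Additive σ.ker // f 3 = 0} :=
    ⟨zmultiplesHom _ (Additive.ofMul w), by simp [← ofMul_zpow, ← ofMul_pow, zpow_ofNat, hw3]⟩
  refine ⟨AddMonoidHom.toMultiplicativeLeft (ZMod.lift 3 a), fun z => ?_⟩
  obtain ⟨j, rfl⟩ := hall z
  refine ⟨Multiplicative.ofAdd ((j : ℤ) : ZMod 3), ?_⟩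
  show Additive.toMul (ZMod.lift 3 a ((j : ℤ) : ZMod 3)) = w ^ j
  rw [ZMod.lift_coe]
  simp [a]

/-- The multiplier is cyclic of order three. -/
theorem multiplier : Cfsg.HasCyclicSchurMultiplier (J3 F ω) 3 :=
  ⟨cover ω h2 hω h4, fun _ _ _ _ hσ => exists_onto ω h2 hω h4 hσ⟩

end

end Cfsg.Agent.J3Mult90
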