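import Mathlib

/-! A group of order 50232960 with trivial centre generated by two elements of order 19 is simple. -/

set_option autoImplicit false

namespace Cfsg.Agent.J3SimpleCrit90

variable {Q : Type*} [Group Q] [Finite Q]

theorem arith : ∀ r ∈ [2, 3, 5, 17], ∀ k < 8, r ^ k ∣ 2643840 → ∀ j < 8, j ≤ k →
    r ^ j % 19 = r ^ k % 19 → j = k := by decide +kernel

theorem prime_cases {r : ℕ} (hr : r.Prime) (h : r ∣ 2643840) : r ∈ [2, 3, 5, 17] := by
  have e : 2643840 = 2 ^ 7 * 3 ^ 5 * 5 * 17 := by norm_num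
  rw [e] at h
  rcases hr.dvd_mul.1 h with h | h
  · rcases hr.dvd_mul.1 h with h | h
    · rcases hr.dvd_mul.1 h with h | h
      · simp [(Nat.prime_dvd_prime_iff_eq hr (by norm_num)).1 (hr.dvd_of_dvd_pow h)]
      · simp [(Nat.prime_dvd_prime_iff_eq hr (by norm_num)).1 (hr.dvd_of_dvd_pow h)]
    · simp [(Nat.prime_dvd_prime_iff_eq hr (by norm_num)).1 h]
  · simp [(Nat.prime_dvd_prime_iff_eq hr (by norm_num)).1 h]

theorem pow_bound {r k : ℕ} (hr : r.Prime) (h : r ^ k ∣ 2643840) : k < 8 := by
  by_contra hk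
  have h8 : r ^ 8 ∣ 2643840 := (pow_dvd_pow r (not_lt.mp hk)).trans h
  have hmem := prime_cases hr ((dvd_pow_self r (by norm_num)).trans h8)
  simp at hmem
  rcases hmem with rfl | rfl | rfl | rfl <;> norm_num at h8

/-- An element with nineteenth power one centralises a normal subgroup of order prime to 19. -/
theorem normal_le_centralizer (hQ : Nat.card Q = 50232960) (N : Subgroup Q) [N.Normal]
    (hN : ¬ 19 ∣ Nat.card N) (w : Q) (hw : w ^ 19 = 1) : N ≤ Subgroup.centralizer {w} := by
  haveI : Fact (Nat.Prime 19) := ⟨by norm_num⟩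
  have hNdvd : Nat.card N ∣ 2643840 := by
    have h : Nat.card N ∣ 19 * 2643840 := by
      have := Subgroup.card_subgroup_dvd_card N
      rw [hQ] at this
      exact this
    exact (((by norm_num : Nat.Prime 19).coprime_iff_not_dvd.2 hN).symm).dvd_of_dvd_mul_left h
  set P := Subgroup.zpowers w
  have hP : IsPGroup 19 P := by
    rintro ⟨g, hg⟩
    obtain ⟨i, rfl⟩ := hg
    refine ⟨1, Subtype.ext ?_⟩
    show (w ^ i) ^ (19 ^ 1) = 1
    rw [pow_one, ← zpow_natCast (w ^ i), ← zpow_mul, mul_comm, zpow_mul, zpow_natCast, hw, one_zpow]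
  have main : ∀ r k : ℕ, r.Prime → r ^ k ∣ Nat.card N →
      r ^ k ∣ Nat.card ↥(N ⊓ Subgroup.centralizer {w}) := by
    intro r k hr hk
    haveI : Fact r.Prime := ⟨hr⟩
    letI : MulAction P (Sylow r N) :=
      MulAction.compHom (Sylow r N) ((MulAut.conjNormal : Q →* MulAut N).comp P.subtype)
    have hns : ¬ 19 ∣ Nat.card (Sylow r N) := fun h =>
      hN (h.trans ((default : Sylow r N).card_dvd_index.trans (Subgroup.index_dvd_card _)))
    obtain ⟨R, hR⟩ := hP.nonempty_fixed_point_of_prime_not_dvd_card (Sylow r N) hns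
    let R' : Subgroup Q := (R : Subgroup N).map N.subtype
    have hnorm : ∀ p : P, ∀ x ∈ R', (p : Q) * x * (p : Q)⁻¹ ∈ R' := by
      rintro p _ ⟨n, hn, rfl⟩
      have h1 : MulAut.conjNormal (p : Q) n ∈ (R : Subgroup N) := by
        have h := hR p
        have h2 : MulAut.conjNormal (p : Q) n ∈
            ((MulAut.conjNormal (p : Q) : MulAut N) • R : Sylow r N) := by
          show _ ∈ (((MulAut.conjNormal (p : Q) : MulAut N) • R : Sylow r N) : Subgroup N)
          rw [Sylow.pointwise_smul_def]
          exact Subgroup.smul_mem_pointwise_smul n (MulAut.conjNormal (p : Q)) _ hn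
        have e : ((MulAut.conjNormal (p : Q) : MulAut N) • R : Sylow r N) = R := h
        rw [e] at h2
        exact h2
      exact ⟨_, h1, MulAut.conjNormal_apply _ _⟩
    letI act : MulAction P R' :=
      { smul := fun p x => ⟨(p : Q) * x * (p : Q)⁻¹, hnorm p x x.2⟩
        one_smul := fun x => Subtype.ext (by show ((1 : P) : Q) * x * ((1 : P) : Q)⁻¹ = x; simp)
        mul_smul := fun p q x => Subtype.ext (by
          show ((p * q : P) : Q) * x * ((p * q : P) : Q)⁻¹ = p * (q * x * (q : Q)⁻¹) * (p : Q)⁻¹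
          simp [mul_assoc]) }
    have hcong := hP.card_modEq_card_fixedPoints R'
    have hfix : Nat.card (MulAction.fixedPoints P R') =
        Nat.card ↥((Subgroup.centralizer ({w} : Set Q)).subgroupOf R') := by
      refine Nat.card_congr (Equiv.subtypeEquivRight fun x => ?_)
      rw [Subgroup.mem_subgroupOf, Subgroup.mem_centralizer_iff, MulAction.mem_fixedPoints]
      constructor
      · intro h y hy
        rw [Set.mem_singleton_iff] at hy
        subst hy
        have h' := congrArg Subtype.val (h ⟨y, Subgroup.mem_zpowers y⟩)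
        change y * (x : Q) * y⁻¹ = x at h'
        rwa [mul_inv_eq_iff_eq_mul] at h'
      · intro h p
        apply Subtype.ext
        show (p : Q) * x * (p : Q)⁻¹ = x
        obtain ⟨i, hi⟩ := p.2
        have hc : Commute w (x : Q) := h w rfl
        simp only at hi
        rw [← hi, (hc.zpow_left i).eq, mul_inv_cancel_right]
    have hR' : Nat.card R' = Nat.card R :=
      (Nat.card_congr ((R : Subgroup N).equivMapOfInjective N.subtype Subtype.val_injective).toEquiv).symm
    obtain ⟨K, hK⟩ := IsPGroup.iff_card.1 R.2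
    have hkK : k ≤ K := by
      have h := R.pow_dvd_card_of_pow_dvd_card hk
      rw [hK] at h
      exact (Nat.pow_dvd_pow_iff_le_right hr.one_lt).1 h
    have hKd : r ^ K ∣ 2643840 := by
      rw [← hK]
      exact (Subgroup.card_subgroup_dvd_card _).trans hNdvd
    have hsub : Nat.card ↥((Subgroup.centralizer ({w} : Set Q)).subgroupOf R') ∣ r ^ K := by
      rw [← hK, ← hR']
      exact Subgroup.card_subgroup_dvd_card _
    obtain ⟨J, hJK, hJ⟩ := (Nat.dvd_prime_pow hr).1 hsub
    rw [hfix, hJ, hR', hK] at hcong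
    have hJeq : J = K := by
      by_cases hK0 : K = 0
      · omega
      · have hK8 := pow_bound hr hKd
        exact arith r (prime_cases hr ((dvd_pow_self r hK0).trans hKd)) K hK8 hKd J (by omega) hJK
          hcong.symm
    have htop : (Subgroup.centralizer ({w} : Set Q)).subgroupOf R' = ⊤ :=
      Subgroup.eq_top_of_card_eq _ (by rw [hJ, hJeq, hR', hK])
    have hle : R' ≤ N ⊓ Subgroup.centralizer {w} :=
      le_inf (Subgroup.map_subtype_le _) (Subgroup.subgroupOf_eq_top.1 htop)
    have h := Subgroup.card_dvd_of_le hle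
    rw [hR', hK] at h
    exact (pow_dvd_pow r hkK).trans h
  have hd : Nat.card N ∣ Nat.card ↥(N ⊓ Subgroup.centralizer {w}) :=
    Nat.dvd_iff_prime_pow_dvd_dvd _ _ |>.2 main
  have := Subgroup.eq_of_le_of_card_ge (inf_le_left : N ⊓ Subgroup.centralizer {w} ≤ N)
    (Nat.le_of_dvd Nat.card_pos hd)
  rw [← this]
  exact inf_le_right

theorem simple_of (hQ : Nat.card Q = 50232960) (x y : Q) (hx : x ^ 19 = 1) (hy : y ^ 19 = 1)
    (hgen : Subgroup.closure {x, y} = ⊤) (hc : Subgroup.center Q = ⊥) : IsSimpleGroup Q := by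
  haveI : Fact (Nat.Prime 19) := ⟨by norm_num⟩
  haveI : Nontrivial Q := by
    rw [← Finite.one_lt_card_iff_nontrivial, hQ]; norm_num
  refine ⟨fun N hN => ?_⟩
  by_cases h19 : 19 ∣ Nat.card N
  · right
    obtain ⟨z, hz⟩ := exists_prime_orderOf_dvd_card' (G := N) 19 h19
    have hfac : 19 ^ (Nat.card Q).factorization 19 = 19 := by
      rw [hQ, show (50232960 : ℕ) = 19 * 2643840 by norm_num,
        Nat.factorization_mul (by norm_num) (by norm_num), Finsupp.add_apply,
        (by norm_num : Nat.Prime 19).factorization_self,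
        Nat.factorization_eq_zero_of_not_dvd (by norm_num : ¬ 19 ∣ 2643840), add_zero, pow_one]
    have hzc : Nat.card (Subgroup.zpowers (z : Q)) = 19 ^ (Nat.card Q).factorization 19 := by
      rw [Nat.card_zpowers, Subgroup.orderOf_coe, hz, hfac]
    have mem : ∀ v : Q, v ^ 19 = 1 → v ∈ N := by
      intro v hv
      by_cases hv1 : v = 1
      · subst hv1; exact N.one_mem
      have hvc : Nat.card (Subgroup.zpowers v) = 19 ^ (Nat.card Q).factorization 19 := by
        rw [Nat.card_zpowers, orderOf_eq_prime hv hv1, hfac]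
      obtain ⟨g, hg⟩ := MulAction.exists_smul_eq Q (Sylow.ofCard _ hzc) (Sylow.ofCard _ hvc)
      have e := congrArg (fun S : Sylow 19 Q => (S : Subgroup Q)) hg
      simp only [Sylow.coe_subgroup_smul, Sylow.coe_ofCard] at e
      have hv' := Subgroup.mem_zpowers v
      rw [← e] at hv'
      obtain ⟨u, hu, rfl⟩ := hv'
      have huN : u ∈ N := (Subgroup.zpowers_le.2 z.2) hu
      exact hN.conj_mem u huN g
    rw [eq_top_iff, ← hgen, Subgroup.closure_le]
    rintro v (rfl | rfl)
    · exact mem _ hx
    · exact mem _ hy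
  · left
    have h1 := normal_le_centralizer hQ N h19 x hx
    have h2 := normal_le_centralizer hQ N h19 y hy
    have h3 : N ≤ Subgroup.center Q := by
      intro n hn
      have : Subgroup.closure {x, y} ≤ Subgroup.centralizer {n} := by
        rw [Subgroup.closure_le]
        rintro v (rfl | rfl)
        · exact Subgroup.mem_centralizer_iff.2 fun a ha => by
            rw [Set.mem_singleton_iff.1 ha]; exact (Subgroup.mem_centralizer_iff.1 (h1 hn) _ rfl).symm
        · exact Subgroup.mem_centralizer_iff.2 fun a ha => by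
            rw [Set.mem_singleton_iff.1 ha]; exact (Subgroup.mem_centralizer_iff.1 (h2 hn) _ rfl).symm
      rw [hgen] at this
      exact Subgroup.mem_center_iff.2 fun g =>
        (Subgroup.mem_centralizer_iff.1 (this (Subgroup.mem_top g)) n rfl).symm
    rw [hc] at h3
    exact le_bot_iff.1 h3

end Cfsg.Agent.J3SimpleCrit90
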