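import Cfsg.Agent.Lib.J3Order90
import Cfsg.Agent.Lib.J3SimpleCrit90

/-! Centre, generation and simplicity for the third Janko group. -/

set_option autoImplicit false
set_option maxRecDepth 100000

namespace Cfsg.Agent.J3Simple90

open CosetCertCore J3Mat90 J3Data90 J3Check90 J3CertA90 J3Cert2_90 J3Level90 J3Gens90 J3Chain90
open J3Order90
open Cfsg.Spor

section
variable {F : Type*} [Field F] (ω : F)

theorem omegaPow_inj (hω : ω ^ 2 + ω + 1 = 0) (h2 : (2 : F) = 0) :
    Function.Injective (omegaPow F ω) := by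
  intro a b h
  rw [← e2_wb ω h2 hω a, ← e2_wb ω h2 hω b] at h
  obtain ⟨h1, h1'⟩ := e2_inj ω h2 hω h
  have key : ∀ a b : ZMod 3, (wb a).1 = (wb b).1 → (wb a).2 = (wb b).2 → a = b := by decide
  exact key a b h1 h1'

theorem omega_cube (hω : ω ^ 2 + ω + 1 = 0) : ω ^ 3 = 1 := by linear_combination (ω - 1) * hω

theorem omega_ne_one (hω : ω ^ 2 + ω + 1 = 0) (h2 : (2 : F) = 0) : ω ≠ 1 := by
  intro e
  have := omegaPow_inj ω hω h2 (a₁ := 1) (a₂ := 0) (by
    show ω ^ 1 = ω ^ 0
    rw [pow_one, pow_zero, e])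
  exact absurd this (by decide)

variable [Finite F] (h2 : (2 : F) = 0) (hω : ω ^ 2 + ω + 1 = 0)
include h2 hω

/-- A matrix commuting with the diagonal and monomial generators is a scalar. -/
theorem scalar_of_comm {m : Matrix F9 F9 F} (hA : ∀ Z, m * j3A F ω Z = j3A F ω Z * m)
    (hD : ∀ Z, m * j3D F ω Z = j3D F ω Z * m) : m = m 0 0 • 1 := by
  have hoff : ∀ w z : F9, w ≠ z → m w z = 0 := by
    intro w z hwz
    have key : ∀ Z : F9, omegaPow F ω (Z.1 * z.1 + Z.2 * z.2) ≠
        omegaPow F ω (Z.1 * w.1 + Z.2 * w.2) → m w z = 0 := by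
      intro Z hne
      have h := congrFun (congrFun (hA Z) w) z
      simp only [j3A, Matrix.mul_diagonal, Matrix.diagonal_mul] at h
      have h' : m w z * (omegaPow F ω (Z.1 * z.1 + Z.2 * z.2) -
          omegaPow F ω (Z.1 * w.1 + Z.2 * w.2)) = 0 := by linear_combination h
      rcases mul_eq_zero.1 h' with h'' | h''
      · exact h''
      · exact absurd (sub_eq_zero.1 h'') hne
    by_cases h1 : w.1 = z.1
    · refine key (0, 1) fun e => hwz (Prod.ext h1 ?_)
      simpa using (omegaPow_inj ω hω h2 e).symm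
    · refine key (1, 0) fun e => h1 ?_
      simpa using (omegaPow_inj ω hω h2 e).symm
  have hdiag : ∀ Z : F9, m Z Z = m 0 0 := by
    intro Z
    have h := congrFun (congrFun (hD Z) Z) 0
    have hD0 : ∀ k : F9, j3D F ω Z k 0 = if k = Z then 1 else 0 := by
      intro k
      simp only [j3D, Matrix.of_apply, zero_add, j3Lam, if_true]
    rw [Matrix.mul_apply, Matrix.mul_apply, Finset.sum_eq_single Z (fun k _ hk => by
      rw [hD0, if_neg hk, mul_zero]) (fun hz => absurd (Finset.mem_univ _) hz),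
      Finset.sum_eq_single (0 : F9) (fun k _ hk => by rw [hoff k 0 hk, mul_zero])
        (fun hz => absurd (Finset.mem_univ _) hz)] at h
    simp only [hD0, if_true, mul_one, one_mul] at h
    exact h
  ext w z
  rw [Matrix.smul_apply, Matrix.one_apply, smul_eq_mul]
  split_ifs with h
  · subst h; rw [mul_one, hdiag]
  · rw [mul_zero, hoff w z h]

theorem center_scalar {g : threeJ3 F ω} (hg : g ∈ Subgroup.center (threeJ3 F ω)) :
    ((g : GL F9 F) : Matrix F9 F9 F) =
      ((g : GL F9 F) : Matrix F9 F9 F) 0 0 • (1 : Matrix F9 F9 F) := by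
  have comm : ∀ m ∈ j3Gens F ω,
      ((g : GL F9 F) : Matrix F9 F9 F) * m = m * ((g : GL F9 F) : Matrix F9 F9 F) := by
    intro m hm
    obtain ⟨x, hx⟩ := exists_lift ω h2 hω (gens_sub ω h2 hω hm)
    have := congrArg (fun u : threeJ3 F ω => ((u : GL F9 F) : Matrix F9 F9 F))
      (Subgroup.mem_center_iff.1 hg x)
    simpa [hx] using this.symm
  exact scalar_of_comm ω h2 hω (fun Z => comm _ (Or.inl (Or.inl (Or.inl (Or.inl ⟨Z, rfl⟩)))))
    (fun Z => comm _ (Or.inl (Or.inl (Or.inr ⟨Z, rfl⟩))))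

/-- Scalar matrices in the group are central. -/
theorem center_of_scalar {g : threeJ3 F ω} {c : F}
    (hg : ((g : GL F9 F) : Matrix F9 F9 F) = c • 1) : g ∈ Subgroup.center (threeJ3 F ω) :=
  Subgroup.mem_center_iff.2 fun x => coe_inj ω (by
    simp only [Subgroup.coe_mul, Units.val_mul, hg]
    rw [Matrix.mul_smul, Matrix.smul_mul, mul_one, one_mul])

theorem three_dvd_center : 3 ∣ Nat.card (Subgroup.center (threeJ3 F ω)) := by
  obtain ⟨g, hg⟩ := exists_lift ω h2 hω (mem_of_memOK ω h2 hω spec_mem.2.2.2)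
  rw [ev_scal] at hg
  have hc := center_of_scalar ω h2 hω hg
  have : Fact (Nat.Prime 3) := ⟨by norm_num⟩
  have e : orderOf (⟨g, hc⟩ : Subgroup.center (threeJ3 F ω)) = 3 := by
    rw [← Subgroup.orderOf_coe, ← Subgroup.orderOf_coe, ← orderOf_units]
    simp only [hg]
    refine orderOf_eq_prime ?_ ?_
    · rw [smul_pow, one_pow, omega_cube ω hω, one_smul]
    · intro h
      have := congrFun (congrFun h (0 : F9)) (0 : F9)
      simp at this
      exact omega_ne_one ω hω h2 this
  have h := orderOf_dvd_natCard (⟨g, hc⟩ : Subgroup.center (threeJ3 F ω))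
  rwa [e] at h

theorem card_center_le (h4 : Nat.card F = 4) : Nat.card (Subgroup.center (threeJ3 F ω)) ≤ 3 := by
  have hne : ∀ g : Subgroup.center (threeJ3 F ω), ((g.1 : GL F9 F) : Matrix F9 F9 F) 0 0 ≠ 0 := by
    intro g h
    have e := center_scalar ω h2 hω g.2
    rw [h, zero_smul] at e
    exact (g.1 : GL F9 F).ne_zero e
  let f : Subgroup.center (threeJ3 F ω) → Fˣ := fun g => Units.mk0 _ (hne g)
  have hinj : Function.Injective f := by
    intro g h e
    have e' : ((g.1 : GL F9 F) : Matrix F9 F9 F) 0 0 = ((h.1 : GL F9 F) : Matrix F9 F9 F) 0 0 :=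
      congrArg Units.val e
    refine Subtype.ext (coe_inj ω ?_)
    rw [center_scalar ω h2 hω g.2, center_scalar ω h2 hω h.2, e']
  have := Nat.card_le_card_of_injective f hinj
  rwa [Nat.card_units, h4] at this

theorem card_center (h4 : Nat.card F = 4) : Nat.card (Subgroup.center (threeJ3 F ω)) = 3 :=
  le_antisymm (card_center_le ω h2 hω h4) (Nat.le_of_dvd Nat.card_pos (three_dvd_center ω h2 hω))

theorem card_J3 (h4 : Nat.card F = 4) : Nat.card (J3 F ω) = 50232960 := by
  have h := Subgroup.card_eq_card_quotient_mul_card_subgroup (Subgroup.center (threeJ3 F ω))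
  rw [card_threeJ3 ω h2 hω, card_center ω h2 hω h4] at h
  show Nat.card (threeJ3 F ω ⧸ Subgroup.center (threeJ3 F ω)) = _
  omega

/-- The two elements of order 19 generate. -/
theorem exists_gens : ∃ a b : threeJ3 F ω, a ^ 19 = 1 ∧ b ^ 19 = 1 ∧
    ((a : GL F9 F) : Matrix F9 F9 F) = ev ω genA ∧ ((b : GL F9 F) : Matrix F9 F9 F) = ev ω genB ∧
    Subgroup.closure {a, b} = ⊤ := by
  obtain ⟨a, ha⟩ := exists_lift ω h2 hω (m := ev ω genA) (Submonoid.subset_closure (Or.inl rfl))
  obtain ⟨b, hb⟩ := exists_lift ω h2 hω (m := ev ω genB) (Submonoid.subset_closure (Or.inr rfl))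
  refine ⟨a, b, coe_inj ω ?_, coe_inj ω ?_, ha, hb, ?_⟩
  · simp [ha, genA_pow ω h2 hω]
  · simp [hb, genB_pow ω h2 hω]
  rw [eq_top_iff]
  intro g _
  have main : ∀ m ∈ M0 ω, ∃ x ∈ Subgroup.closure {a, b},
      ((x : GL F9 F) : Matrix F9 F9 F) = m := by
    intro m hm
    induction hm using Submonoid.closure_induction with
    | mem x hx =>
      rcases hx with rfl | rfl
      · exact ⟨a, Subgroup.subset_closure (Or.inl rfl), ha⟩
      · exact ⟨b, Subgroup.subset_closure (Or.inr rfl), hb⟩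
    | one => exact ⟨1, Subgroup.one_mem _, by simp⟩
    | mul x y _ _ hx hy =>
      obtain ⟨x', hx', ex⟩ := hx
      obtain ⟨y', hy', ey⟩ := hy
      exact ⟨x' * y', Subgroup.mul_mem _ hx' hy', by simp [ex, ey]⟩
  obtain ⟨x, hx, e⟩ := main _ ((mem_iff ω h2 hω g).1 g.2)
  exact coe_inj ω e ▸ hx

theorem simple_J3 (h4 : Nat.card F = 4) : IsSimpleGroup (J3 F ω) := by
  obtain ⟨a, b, ha, hb, -, -, hgen⟩ := exists_gens ω h2 hω
  set Z := Subgroup.center (threeJ3 F ω)
  set π : threeJ3 F ω →* threeJ3 F ω ⧸ Z := QuotientGroup.mk' Z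
  have hgen' : Subgroup.closure {π a, π b} = ⊤ := by
    rw [← Set.image_pair, ← MonoidHom.map_closure, hgen, ← MonoidHom.range_eq_map,
      MonoidHom.range_eq_top.2 (QuotientGroup.mk'_surjective Z)]
  refine J3SimpleCrit90.simple_of (card_J3 ω h2 hω h4) (π a) (π b) (by rw [← map_pow, ha, map_one])
    (by rw [← map_pow, hb, map_one]) hgen' ?_
  rw [eq_bot_iff]
  intro q hq
  obtain ⟨g, rfl⟩ := QuotientGroup.mk'_surjective Z q
  have hcomm : ∀ x : threeJ3 F ω, x ^ 19 = 1 → g * x = x * g := by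
    intro x hx
    set z := g * x * g⁻¹ * x⁻¹ with hz
    have hzZ : z ∈ Z := by
      rw [← QuotientGroup.eq_one_iff]
      show π z = 1
      have e : π g * π x = π x * π g := (Subgroup.mem_center_iff.1 hq (π x)).symm
      rw [hz, map_mul, map_mul, map_mul, map_inv, map_inv, e]
      group
    have hzx : z * x = g * x * g⁻¹ := by rw [hz]; group
    have h19 : z ^ 19 = 1 := by
      have hc : Commute z x := (Subgroup.mem_center_iff.1 hzZ x).symm
      have h := hc.mul_pow 19
      rw [hx, mul_one, hzx, conj_pow, hx, mul_one, mul_inv_cancel] at h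
      exact h.symm
    have h3 : z ^ 3 = 1 := by
      have h : (⟨z, hzZ⟩ : Z) ^ Nat.card Z = 1 := pow_card_eq_one'
      rw [show Nat.card Z = 3 from card_center ω h2 hω h4] at h
      exact congrArg Subtype.val h
    have hz1 : z = 1 := by
      have h : z = (z ^ 19) * ((z ^ 3) ^ 6)⁻¹ := by group
      rw [h, h19, h3]; simp
    rw [hz1, one_mul] at hzx
    calc g * x = (g * x * g⁻¹) * g := by group
      _ = x * g := by rw [← hzx]
  have htop : Subgroup.closure {a, b} ≤ Subgroup.centralizer {g} := by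
    rw [Subgroup.closure_le]
    rintro v (rfl | rfl)
    · exact Subgroup.mem_centralizer_iff.2 fun y hy => by
        rw [Set.mem_singleton_iff.1 hy]; exact hcomm _ ha
    · exact Subgroup.mem_centralizer_iff.2 fun y hy => by
        rw [Set.mem_singleton_iff.1 hy]; exact hcomm _ hb
  rw [hgen] at htop
  rw [Subgroup.mem_bot]
  exact (QuotientGroup.eq_one_iff g).2 (Subgroup.mem_center_iff.2 fun x =>
    (Subgroup.mem_centralizer_iff.1 (htop (Subgroup.mem_top x)) g rfl).symm)

end

end Cfsg.Agent.J3Simple90
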