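import Cfsg.Agent.Lib.J3Local9

/-! Sylow normalisers for seventeen and nineteen in a group of J₃ type and order 50232960. -/

set_option autoImplicit false

namespace Cfsg.Agent.J3Sylow9

open Subgroup J3Local9

variable {G : Type*} [Group G] [Finite G]

theorem odd_cands {c : ℕ} {s : ℕ} (hs : s = 17 ∨ s = 19) (h : c ∣ 3 ^ 5 * (5 * s)) :
    c ∈ [1, 3, 9, 27, 81, 243, 5, 15, 45, 135, 405, 1215,
      s, 3 * s, 9 * s, 27 * s, 81 * s, 243 * s, 5 * s, 15 * s, 45 * s, 135 * s, 405 * s, 1215 * s] := by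
  obtain ⟨a, r, ha, hr, rfl⟩ := exists_dvd_and_dvd_of_dvd_mul h
  obtain ⟨b, e, hb, he, rfl⟩ := exists_dvd_and_dvd_of_dvd_mul hr
  obtain ⟨i, hi, rfl⟩ := (Nat.dvd_prime_pow (by norm_num : Nat.Prime 3)).1 ha
  have hs' : Nat.Prime s := by rcases hs with rfl | rfl <;> norm_num
  rcases (Nat.dvd_prime (by norm_num : Nat.Prime 5)).1 hb with rfl | rfl <;>
    rcases (Nat.dvd_prime hs').1 he with rfl | rfl <;>
    interval_cases i <;> simp [← mul_assoc]

theorem cands17 {c m : ℕ} (hc : c ∣ 3 ^ 5 * (5 * 19)) (hm : m ∣ 16)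
    (hd : 17 * c * m ∣ 50232960) (h1 : 50232960 / (17 * c * m) % 17 = 1) :
    m = 1 ∨ m = 16 ∨ (m = 8 ∧ c = 1) ∨ (19 ∣ c ∧ c / 19 ∈ [1, 9] ∧ 2 ∣ m) := by
  have key : ∀ c ∈ [1, 3, 9, 27, 81, 243, 5, 15, 45, 135, 405, 1215,
      19, 3 * 19, 9 * 19, 27 * 19, 81 * 19, 243 * 19, 5 * 19, 15 * 19, 45 * 19, 135 * 19, 405 * 19,
      1215 * 19], ∀ m ∈ [1, 2, 4, 8, 16], 50232960 % (17 * c * m) = 0 →
      50232960 / (17 * c * m) % 17 = 1 →
      m = 1 ∨ m = 16 ∨ (m = 8 ∧ c = 1) ∨ (c % 19 = 0 ∧ c / 19 ∈ [1, 9] ∧ m % 2 = 0) := by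
    decide +kernel
  have hm' : m ∈ [1, 2, 4, 8, 16] := by
    obtain ⟨i, hi, rfl⟩ := (Nat.dvd_prime_pow Nat.prime_two).1 (show m ∣ 2 ^ 4 from hm)
    interval_cases i <;> simp
  rcases key c (odd_cands (Or.inr rfl) hc) m hm' (Nat.mod_eq_zero_of_dvd hd) h1 with
    h | h | h | ⟨a, b, d⟩
  · exact Or.inl h
  · exact Or.inr (Or.inl h)
  · exact Or.inr (Or.inr (Or.inl h))
  · exact Or.inr (Or.inr (Or.inr ⟨Nat.dvd_of_mod_eq_zero a, b, Nat.dvd_of_mod_eq_zero d⟩))

theorem cands19 {c m : ℕ} (hc : c ∣ 3 ^ 5 * (5 * 17)) (hm : m ∣ 18)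
    (hd : 19 * c * m ∣ 50232960) (h1 : 50232960 / (19 * c * m) % 19 = 1) :
    m = 1 ∨ ((m = 3 ∨ m = 9) ∧ (17 ∣ c ∨ (m = 3 ∧ c = 3) ∨ (m = 9 ∧ c = 1))) := by
  have key : ∀ c ∈ [1, 3, 9, 27, 81, 243, 5, 15, 45, 135, 405, 1215,
      17, 3 * 17, 9 * 17, 27 * 17, 81 * 17, 243 * 17, 5 * 17, 15 * 17, 45 * 17, 135 * 17, 405 * 17,
      1215 * 17], ∀ m ∈ [1, 2, 3, 6, 9, 18], 50232960 % (19 * c * m) = 0 →
      50232960 / (19 * c * m) % 19 = 1 →
      m = 1 ∨ ((m = 3 ∨ m = 9) ∧ (c % 17 = 0 ∨ (m = 3 ∧ c = 3) ∨ (m = 9 ∧ c = 1))) := by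
    decide +kernel
  have hm' : m ∈ [1, 2, 3, 6, 9, 18] := by
    have : ∀ m < 19, 18 % m = 0 → m ∈ [1, 2, 3, 6, 9, 18] := by decide +kernel
    exact this m (Nat.lt_succ_of_le (Nat.le_of_dvd (by norm_num) hm)) (Nat.mod_eq_zero_of_dvd hm)
  rcases key c (odd_cands (Or.inl rfl) hc) m hm' (Nat.mod_eq_zero_of_dvd hd) h1 with
    h | ⟨a, b | b⟩
  · exact Or.inl h
  · exact Or.inr ⟨a, Or.inl (Nat.dvd_of_mod_eq_zero b)⟩
  · exact Or.inr ⟨a, Or.inr b⟩

section prime
variable {t : G} {E A : Subgroup ↥(centralizer ({t} : Set G))} (S : Setting t E A)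
  (hcard : Nat.card G = 50232960) {p : ℕ} [hpf : Fact p.Prime] (hp : p = 17 ∨ p = 19)
include S hcard hp

omit S in
theorem card_sylow (X : Sylow p G) : Nat.card ↥(X : Subgroup G) = p := by
  obtain ⟨k, hk⟩ := X.2.exists_card_eq
  rw [hk]
  have hd : p ^ k ∣ 50232960 := hk ▸ hcard ▸ Subgroup.card_subgroup_dvd_card (X : Subgroup G)
  have hk1 : k < 2 := by
    by_contra h
    push Not at h
    have h2 := (pow_dvd_pow p h).trans hd
    rcases hp with rfl | rfl <;> norm_num at h2
  have hk0 : k ≠ 0 := by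
    intro h
    have h2 := (X : Subgroup G).card_mul_index
    rw [hk, h, pow_zero, one_mul, hcard] at h2
    have h3 := X.not_dvd_index
    rw [h2] at h3
    rcases hp with rfl | rfl <;> norm_num at h3
  rw [show k = 1 by omega, pow_one]

/-- The three numbers `c`, `m` and the index. -/
theorem numbers [IsSimpleGroup G] (X : Sylow p G) :
    ∃ c m : ℕ, Nat.card ↥(centralizer ((X : Subgroup G) : Set G)) = p * c ∧
      Nat.card ↥(normalizer ((X : Subgroup G) : Set G)) = p * c * m ∧
      c ∣ 3 ^ 5 * (5 * (17 * 19 / p)) ∧ m ∣ p - 1 ∧ m ≠ 1 ∧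
      p * c * m ∣ 50232960 ∧ 50232960 / (p * c * m) % p = 1 ∧
      ((centralizer ((X : Subgroup G) : Set G)).subgroupOf (normalizer ((X : Subgroup G) : Set G))).index = m := by
  set X' := (X : Subgroup G) with hX'
  set C := centralizer (X' : Set G) with hC
  set N := normalizer (X' : Set G) with hN
  have hXp : Nat.card X' = p := card_sylow hcard hp X
  haveI : IsCyclic X' := isCyclic_of_prime_card hXp
  have hCN : C ≤ N := (Subgroup.centralizer_le_normalizer _)
  have hXC : X' ≤ C := Subgroup.le_centralizer X'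
  obtain ⟨c, hc⟩ : p ∣ Nat.card C := hXp ▸ Subgroup.card_dvd_of_le hXC
  set m := (C.subgroupOf N).index with hm
  have hNm : Nat.card N = p * c * m := by
    rw [← hc, ← Nat.card_congr (Subgroup.subgroupOfEquivOfLe hCN).toEquiv, hm, Subgroup.card_mul_index]
  have hd : p * c * m ∣ 50232960 := hNm ▸ hcard ▸ Subgroup.card_subgroup_dvd_card N
  have hidx : N.index = 50232960 / (p * c * m) := by
    rw [← hNm, ← hcard, ← N.card_mul_index, Nat.mul_div_cancel_left _ Nat.card_pos]
  have hmp : m ∣ p - 1 := by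
    have h := Subgroup.index_ker X'.normalizerMonoidHom
    rw [Subgroup.normalizerMonoidHom_ker] at h
    rw [hm, show (C.subgroupOf N).index = _ from h, ← Nat.totient_prime hpf.out, ← hXp,
      ← IsCyclic.card_mulAut]
    exact Subgroup.card_subgroup_dvd_card _
  refine ⟨c, m, hc, hNm, ?_, hmp, ?_, hd, ?_, rfl⟩
  · -- the centraliser has odd order
    have hodd : ¬ 2 ∣ Nat.card C := by
      intro h2
      haveI : Fact (Nat.Prime 2) := ⟨Nat.prime_two⟩
      obtain ⟨u, hu⟩ := exists_prime_orderOf_dvd_card' 2 h2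
      have hu' : orderOf (u : G) = 2 := by rw [Subgroup.orderOf_coe, hu]
      have hle : X' ≤ centralizer ({(u : G)} : Set G) := fun x hx =>
        mem_centralizer_singleton_iff.2 (mem_centralizer_iff.1 u.2 x hx)
      have h := Subgroup.card_dvd_of_le hle
      rw [hXp, card_centralizer S hu'] at h
      rcases hp with rfl | rfl <;> norm_num at h
    have hco : Nat.Coprime (p * c) (2 ^ 7) :=
      Nat.Coprime.pow_right _ ((Nat.coprime_comm.1 ((Nat.prime_two.coprime_iff_not_dvd).2 (hc ▸ hodd))))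
    have hdc : p * c ∣ 2 ^ 7 * (3 ^ 5 * (5 * (17 * 19))) := by
      have : p * c ∣ 50232960 := (Dvd.intro m rfl).trans hd
      exact this.trans (by norm_num)
    have h' := hco.dvd_of_dvd_mul_left hdc
    rcases hp with rfl | rfl
    · rw [show (3 ^ 5 * (5 * (17 * 19)) : ℕ) = 17 * (3 ^ 5 * (5 * 19)) by norm_num] at h'
      exact Nat.dvd_of_mul_dvd_mul_left (by norm_num) h'
    · rw [show (3 ^ 5 * (5 * (17 * 19)) : ℕ) = 19 * (3 ^ 5 * (5 * 17)) by norm_num] at h'
      exact Nat.dvd_of_mul_dvd_mul_left (by norm_num) h'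
  · -- Burnside
    intro hm1
    have hle : N ≤ C := by
      rw [← Subgroup.subgroupOf_eq_top]
      exact Subgroup.index_eq_one.1 hm1
    have hcompl := MonoidHom.ker_transferSylow_isComplement' X hle
    rcases (MonoidHom.normal_ker (MonoidHom.transferSylow X hle)).eq_bot_or_eq_top with h | h
    · have hX := hcompl.card_mul_card
      rw [h, Subgroup.card_bot, one_mul, hXp, hcard] at hX
      rcases hp with rfl | rfl <;> norm_num at hX
    · have hX := hcompl.card_mul_card
      rw [h, Subgroup.card_top, hXp] at hX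
      have : 0 < Nat.card G := Nat.card_pos
      nlinarith [hpf.out.two_le]
  · rw [← hidx, show N.index = Nat.card (Sylow p G) from X.card_eq_index_normalizer.symm]
    have h := card_sylow_modEq_one p G
    rw [Nat.ModEq, Nat.one_mod_eq_one.2 hpf.out.ne_one] at h
    exact h

end prime

/-- The conclusion for one Sylow subgroup. -/
theorem finish {p : ℕ} [hpf : Fact p.Prime] {n : ℕ} (X : Sylow p G)
    (hXp : Nat.card ↥(X : Subgroup G) = p)
    (hC : Nat.card ↥(centralizer ((X : Subgroup G) : Set G)) = p)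
    (hN : Nat.card ↥(normalizer ((X : Subgroup G) : Set G)) = p * n) :
    centralizer ((X : Subgroup G) : Set G) = X ∧
      ∃ h : ((X : Subgroup G).subgroupOf (normalizer ((X : Subgroup G) : Set G))).Normal,
        IsCyclic (↥(normalizer ((X : Subgroup G) : Set G)) ⧸ (X : Subgroup G).subgroupOf _) ∧
        Nat.card (↥(normalizer ((X : Subgroup G) : Set G)) ⧸ (X : Subgroup G).subgroupOf _) = n := by
  set X' := (X : Subgroup G) with hX'
  haveI : IsCyclic X' := isCyclic_of_prime_card hXp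
  have hCX : centralizer (X' : Set G) = X' :=
    (Subgroup.eq_of_le_of_card_ge (Subgroup.le_centralizer X') (by rw [hC, hXp])).symm
  haveI hn : (X'.subgroupOf (normalizer (X' : Set G))).Normal := Subgroup.normal_in_normalizer
  refine ⟨hCX, hn, ?_, ?_⟩
  · haveI : IsCyclic (ZMod (Nat.card X'))ˣ := by rw [hXp]; infer_instance
    haveI : IsCyclic (MulAut X') :=
      isCyclic_of_injective (IsCyclic.mulAutMulEquiv X').toMonoidHom (IsCyclic.mulAutMulEquiv X').injective
    have hker : X'.normalizerMonoidHom.ker = X'.subgroupOf (normalizer (X' : Set G)) := by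
      rw [Subgroup.normalizerMonoidHom_ker, hCX]
    refine isCyclic_of_injective
      (QuotientGroup.lift (X'.subgroupOf (normalizer (X' : Set G))) X'.normalizerMonoidHom hker.ge) ?_
    rw [← MonoidHom.ker_eq_bot_iff, QuotientGroup.ker_lift, hker, QuotientGroup.map_mk'_self]
  · rw [← Subgroup.index_eq_card]
    have h := (X'.subgroupOf (normalizer (X' : Set G))).card_mul_index
    rw [Nat.card_congr (Subgroup.subgroupOfEquivOfLe Subgroup.le_normalizer).toEquiv, hXp, hN] at h
    exact Nat.eq_of_mul_eq_mul_left hpf.out.pos h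

section both
variable {t : G} {E A : Subgroup ↥(centralizer ({t} : Set G))} (S : Setting t E A)
  (hcard : Nat.card G = 50232960)
include S hcard

/-- Seventeen. -/
theorem seventeen [IsSimpleGroup G] (Y : Sylow 17 G) :
    Nat.card ↥(centralizer ((Y : Subgroup G) : Set G)) = 17 ∧
      Nat.card ↥(normalizer ((Y : Subgroup G) : Set G)) = 17 * 8 := by
  haveI : Fact (Nat.Prime 17) := ⟨by norm_num⟩
  haveI : Fact (Nat.Prime 19) := ⟨by norm_num⟩
  obtain ⟨c, m, hC, hN, hc, hm, hm1, hd, h1, hidx⟩ := numbers S hcard (Or.inl rfl) Y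
  rcases cands17 hc hm hd h1 with h | h | ⟨rfl, rfl⟩ | ⟨h19, hc9, hm2⟩
  · exact absurd h hm1
  · -- an element of order sixteen
    exfalso
    set N := normalizer ((Y : Subgroup G) : Set G)
    haveI : IsCyclic ↥(Y : Subgroup G) := isCyclic_of_prime_card (card_sylow hcard (Or.inl rfl) Y)
    haveI : IsCyclic (ZMod (Nat.card ↥(Y : Subgroup G)))ˣ := by
      rw [card_sylow hcard (Or.inl rfl) Y]; infer_instance
    haveI : IsCyclic (MulAut ↥(Y : Subgroup G)) :=
      isCyclic_of_injective (IsCyclic.mulAutMulEquiv ↥(Y : Subgroup G)).toMonoidHom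
        (IsCyclic.mulAutMulEquiv ↥(Y : Subgroup G)).injective
    obtain ⟨⟨_, g, rfl⟩, hg⟩ := IsCyclic.exists_generator
      (α := (Y : Subgroup G).normalizerMonoidHom.range)
    have ho := orderOf_eq_card_of_forall_mem_zpowers hg
    have hr : Nat.card (Y : Subgroup G).normalizerMonoidHom.range = 16 := by
      rw [← Subgroup.index_ker, Subgroup.normalizerMonoidHom_ker, ← h]
      exact hidx
    rw [hr, ← Subgroup.orderOf_coe] at ho
    have h16 : 16 ∣ orderOf g := ho ▸ orderOf_map_dvd _ g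
    refine no_sixteen S ((g : G) ^ (orderOf g / 16)) ?_
    rw [orderOf_pow_of_dvd ?_ ?_, Subgroup.orderOf_coe, Nat.div_div_self h16 (orderOf_pos g).ne']
    · exact (Nat.div_pos (Nat.le_of_dvd (orderOf_pos g) h16) (by norm_num)).ne'
    · rw [Subgroup.orderOf_coe]; exact Nat.div_dvd_of_dvd h16
  · exact ⟨by rw [hC], by rw [hN]⟩
  · -- nineteen would centralise seventeen
    exfalso
    set C := centralizer ((Y : Subgroup G) : Set G)
    set P : Sylow 19 C := default
    have hPc : Nat.card (P : Subgroup C) = 19 := by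
      have hle : Nat.card (P : Subgroup C) ∣ 19 := by
        obtain ⟨X, hX⟩ := (P.2.map C.subtype).exists_le_sylow
        have h := Subgroup.card_dvd_of_le hX
        rw [Subgroup.card_map_of_injective C.subtype_injective, card_sylow hcard (Or.inr rfl) X] at h
        exact h
      rcases (Nat.dvd_prime (by norm_num : Nat.Prime 19)).1 hle with h | h
      · have := P.not_dvd_index
        have h2 := (P : Subgroup C).card_mul_index
        rw [h, one_mul] at h2
        rw [h2, hC] at this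
        exact absurd (dvd_mul_of_dvd_right h19 17) this
      · exact h
    have hn1 : Nat.card (Sylow 19 C) = 1 := by
      set n := Nat.card (Sylow 19 C) with hn
      have hidxP : n = (normalizer ((P : Subgroup C) : Set C)).index := P.card_eq_index_normalizer
      have hYle : ((Y : Subgroup G).subgroupOf C) ≤ normalizer ((P : Subgroup C) : Set C) := by
        refine le_trans (fun y hy => ?_) (Subgroup.centralizer_le_normalizer _)
        rw [mem_centralizer_iff]
        intro x _
        exact Subtype.ext (mem_centralizer_iff.1 x.2 _ hy).symm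
      haveI : IsCyclic ↥(Y : Subgroup G) := isCyclic_of_prime_card (card_sylow hcard (Or.inl rfl) Y)
      have hY17 : Nat.card ((Y : Subgroup G).subgroupOf C) = 17 := by
        rw [Nat.card_congr (Subgroup.subgroupOfEquivOfLe (Subgroup.le_centralizer _)).toEquiv,
          card_sylow hcard (Or.inl rfl) Y]
      have h323 : 17 * 19 ∣ Nat.card (normalizer ((P : Subgroup C) : Set C)) :=
        Nat.Coprime.mul_dvd_of_dvd_of_dvd (by norm_num) (by rw [← hY17]; exact Subgroup.card_dvd_of_le hYle)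
          (by have h := Subgroup.card_dvd_of_le (Subgroup.le_normalizer (H := (P : Subgroup C)))
              rw [hPc] at h; exact h)
      obtain ⟨k, hk⟩ := h323
      have h2 := (normalizer ((P : Subgroup C) : Set C)).card_mul_index
      rw [← hidxP, hk, hC] at h2
      obtain ⟨c', rfl⟩ := h19
      rw [Nat.mul_div_cancel_left _ (by norm_num)] at hc9
      have hdvd : n ∣ c' := Dvd.intro_left k (by
        apply Nat.eq_of_mul_eq_mul_left (show 0 < 17 * 19 by norm_num)
        rw [← mul_assoc, h2]; ring)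
      have hmod : n % 19 = 1 := card_sylow_modEq_one 19 C
      have hn9 : n ≤ 9 := by
        rcases List.mem_cons.1 hc9 with rfl | h
        · exact (Nat.le_of_dvd (by norm_num) hdvd).trans (by norm_num)
        · rw [List.mem_singleton] at h
          subst h
          exact Nat.le_of_dvd (by norm_num) hdvd
      omega
    haveI : Subsingleton (Sylow 19 C) := (Nat.card_eq_one_iff_unique.1 hn1).1
    set P' := (P : Subgroup C).map C.subtype with hP'
    have hP'c : Nat.card P' = 19 := by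
      rw [hP', Subgroup.card_map_of_injective C.subtype_injective, hPc]
    have hle : normalizer ((Y : Subgroup G) : Set G) ≤ normalizer (P' : Set G) := by
      have key : ∀ g ∈ normalizer ((Y : Subgroup G) : Set G), ∀ x ∈ P', g * x * g⁻¹ ∈ P' := by
        intro g hg x hx
        obtain ⟨y, hy, rfl⟩ := hx
        have hgC : g * (y : G) * g⁻¹ ∈ C := mem_centralizer_iff.2 fun w hw => by
          have hw' : g⁻¹ * w * g ∈ (Y : Subgroup G) := (mem_normalizer_iff''.1 hg w).1 hw
          have e := mem_centralizer_iff.1 y.2 _ hw'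
          calc w * (g * (y : G) * g⁻¹) = g * (g⁻¹ * w * g * y) * g⁻¹ := by group
            _ = g * (y * (g⁻¹ * w * g)) * g⁻¹ := by rw [e]
            _ = g * (y : G) * g⁻¹ * w := by group
        refine ⟨⟨_, hgC⟩, ?_, rfl⟩
        have hy19 : y ^ 19 = 1 := by
          have := pow_card_eq_one' (x := (⟨y, hy⟩ : (P : Subgroup C)))
          rw [hPc] at this
          exact congrArg Subtype.val this
        have hp : IsPGroup 19 (Subgroup.zpowers (⟨_, hgC⟩ : C)) := fun w => ⟨1, by
          obtain ⟨w, k, rfl⟩ := w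
          apply Subtype.ext
          show (((⟨_, hgC⟩ : C) ^ k) ^ (19 ^ 1)) = 1
          rw [pow_one, ← zpow_natCast, ← zpow_mul, mul_comm, zpow_mul, zpow_natCast]
          rw [show (⟨_, hgC⟩ : C) ^ 19 = 1 from Subtype.ext (by
            simp only [SubgroupClass.coe_pow, conj_pow, ← hy19]
            rw [← SubgroupClass.coe_pow, hy19]; simp), one_zpow]⟩
        obtain ⟨Q, hQ⟩ := hp.exists_le_sylow
        exact Subsingleton.elim Q P ▸ hQ (Subgroup.mem_zpowers _)
      intro g hg
      rw [mem_normalizer_iff]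
      intro x
      refine ⟨key g hg x, fun hx => ?_⟩
      have := key g⁻¹ (Subgroup.inv_mem _ hg) _ hx
      simpa [mul_assoc] using this
    obtain ⟨X, hX⟩ : ∃ X : Sylow 19 G, (X : Subgroup G) = P' := by
      obtain ⟨X, hX⟩ := (IsPGroup.of_card (p := 19) (n := 1) (by rw [hP'c, pow_one]) :
        IsPGroup 19 P').exists_le_sylow
      exact ⟨X, (Subgroup.eq_of_le_of_card_ge hX (by rw [hP'c, card_sylow hcard (Or.inr rfl) X])).symm⟩
    obtain ⟨c₂, m₂, hC₂, hN₂, hc₂, hm₂, hm₂1, hd₂, h₂, -⟩ := numbers S hcard (Or.inr rfl) X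
    have hdvd := Subgroup.card_dvd_of_le hle
    rw [← hX, hN, hN₂] at hdvd
    have h2 : 2 ∣ 19 * c₂ * m₂ := (hm2.trans (dvd_mul_left m _)).trans hdvd
    have hc2' : ¬ 2 ∣ c₂ := fun h => by
      have := h.trans hc₂
      norm_num at this
    have hm2' : ¬ 2 ∣ m₂ := by
      rcases (cands19 hc₂ hm₂ hd₂ h₂).resolve_left hm₂1 with ⟨rfl | rfl, -⟩ <;> norm_num
    rcases (Nat.Prime.dvd_mul Nat.prime_two).1 h2 with h | h
    · rcases (Nat.Prime.dvd_mul Nat.prime_two).1 h with h | h
      · norm_num at h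
      · exact hc2' h
    · exact hm2' h

/-- Nineteen. -/
theorem nineteen [IsSimpleGroup G] (hpair : ∃ x g : G, orderOf x = 19 ∧ g * x * g⁻¹ = x ^ 4)
    (X : Sylow 19 G) :
    Nat.card ↥(centralizer ((X : Subgroup G) : Set G)) = 19 ∧
      Nat.card ↥(normalizer ((X : Subgroup G) : Set G)) = 19 * 9 := by
  haveI : Fact (Nat.Prime 17) := ⟨by norm_num⟩
  haveI : Fact (Nat.Prime 19) := ⟨by norm_num⟩
  obtain ⟨c, m, hC, hN, hc, hm, hm1, hd, h1, hidx⟩ := numbers S hcard (Or.inr rfl) X
  have h17 : ¬ 17 ∣ c := by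
    intro h
    obtain ⟨y, hy⟩ := exists_prime_orderOf_dvd_card' (G := ↥(centralizer ((X : Subgroup G) : Set G))) 17
      (hC ▸ dvd_mul_of_dvd_right h 19)
    have hyo : orderOf (y : G) = 17 := by rw [Subgroup.orderOf_coe, hy]
    obtain ⟨Y, hY⟩ := (IsPGroup.of_card (p := 17) (n := 1)
      (by rw [Nat.card_zpowers, hyo, pow_one]) : IsPGroup 17 (Subgroup.zpowers (y : G))).exists_le_sylow
    have hYeq : Subgroup.zpowers (y : G) = (Y : Subgroup G) :=
      Subgroup.eq_of_le_of_card_ge hY (by rw [Nat.card_zpowers, hyo, card_sylow hcard (Or.inl rfl) Y])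
    have hle : (X : Subgroup G) ≤ centralizer ((Y : Subgroup G) : Set G) := by
      rw [← hYeq]
      intro x hx
      rw [Subgroup.mem_centralizer_iff]
      rintro _ ⟨k, rfl⟩
      exact ((show Commute x (y : G) from mem_centralizer_iff.1 y.2 x hx).zpow_right k).eq.symm
    have h19 := Subgroup.card_dvd_of_le hle
    rw [(seventeen S hcard Y).1, card_sylow hcard (Or.inr rfl) X] at h19
    norm_num at h19
  obtain ⟨x, g, hx, hg⟩ := hpair
  -- move the pair into `X`
  obtain ⟨Z, hZ⟩ := (IsPGroup.of_card (p := 19) (n := 1)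
      (by rw [Nat.card_zpowers, hx, pow_one]) : IsPGroup 19 (Subgroup.zpowers x)).exists_le_sylow
  obtain ⟨h, hh⟩ := MulAction.exists_smul_eq G Z X
  have hxX : h * x * h⁻¹ ∈ (X : Subgroup G) := by
    rw [← hh, Sylow.coe_subgroup_smul]
    exact Subgroup.mem_map_of_mem _ (hZ (Subgroup.mem_zpowers x))
  set x' := h * x * h⁻¹ with hx'
  set g' := h * g * h⁻¹ with hg'
  have hg4 : g' * x' * g'⁻¹ = x' ^ 4 := by
    rw [hx', hg', conj_pow, ← hg]; group
  have hx19 : orderOf x' = 19 := by
    rw [hx', ← MulAut.conj_apply, MulEquiv.orderOf_eq, hx]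
  have hXeq : Subgroup.zpowers x' = (X : Subgroup G) :=
    Subgroup.eq_of_le_of_card_ge (Subgroup.zpowers_le.2 hxX)
      (by rw [Nat.card_zpowers, hx19, card_sylow hcard (Or.inr rfl) X])
  have hgN : g' ∈ normalizer ((X : Subgroup G) : Set G) := by
    refine Sylow.smul_eq_iff_mem_normalizer.1 (Sylow.ext (Subgroup.eq_of_le_of_card_ge ?_ ?_))
    · rw [Sylow.coe_subgroup_smul, ← hXeq]
      rintro _ ⟨_, ⟨k, rfl⟩, rfl⟩
      show g' * x' ^ k * g'⁻¹ ∈ Subgroup.zpowers x'
      rw [← conj_zpow, hg4]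
      exact Subgroup.zpow_mem _ (Subgroup.pow_mem _ (Subgroup.mem_zpowers x') 4) k
    · rw [card_sylow hcard (Or.inr rfl), card_sylow hcard (Or.inr rfl)]
  have hgm : g' ^ m ∈ centralizer ((X : Subgroup G) : Set G) := by
    haveI : ((centralizer ((X : Subgroup G) : Set G)).subgroupOf (normalizer ((X : Subgroup G) : Set G))).Normal := by
      rw [← Subgroup.normalizerMonoidHom_ker]
      exact MonoidHom.normal_ker _
    have := Subgroup.pow_index_mem
      ((centralizer ((X : Subgroup G) : Set G)).subgroupOf (normalizer ((X : Subgroup G) : Set G))) ⟨g', hgN⟩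
    rw [hidx] at this
    exact this
  have hconj : ∀ k : ℕ, g' ^ k * x' * (g' ^ k)⁻¹ = x' ^ (4 ^ k) := by
    intro k
    induction k with
    | zero => simp
    | succ k ih =>
      calc g' ^ (k + 1) * x' * (g' ^ (k + 1))⁻¹ = g' * (g' ^ k * x' * (g' ^ k)⁻¹) * g'⁻¹ := by
            rw [pow_succ']; group
        _ = _ := by rw [ih, ← conj_pow, hg4, ← pow_mul, mul_comm, pow_succ]
  have hm4 : (4 ^ m) % 19 = 1 := by
    have e := hconj m
    rw [← mem_centralizer_iff.1 hgm x' hxX, mul_inv_cancel_right] at e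
    have := (pow_inj_mod (x := x') (n := 4 ^ m) (m := 1)).1 (by rw [pow_one, ← e])
    rwa [hx19] at this
  rcases (cands19 hc hm hd h1).resolve_left hm1 with ⟨hm39, h | ⟨rfl, rfl⟩ | ⟨rfl, rfl⟩⟩
  · exact absurd h h17
  · norm_num at hm4
  · exact ⟨by rw [hC], by rw [hN]⟩

end both

end Cfsg.Agent.J3Sylow9
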