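import Cfsg.Agent.Lib.J3InvThm90
import Cfsg.Agent.Lib.J3Simple90
import Cfsg.Agent.Lib.J3Sylow9

/-! The third Janko group (concrete) has no element of order 323. -/

set_option autoImplicit false

namespace Cfsg.Agent.J3No323_9

open Cfsg.Spor

variable {F : Type*} [Field F] [Fintype F] (ω : F)

/-- No element of order `323`. -/
theorem no_323 (h2 : (2 : F) = 0) (hω : ω ^ 2 + ω + 1 = 0) (h4 : Nat.card F = 4)
    (s : J3 F ω) : orderOf s ≠ 323 := by
  intro hs
  haveI := J3Simple90.simple_J3 ω h2 hω h4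
  haveI : Finite (J3 F ω) := Nat.finite_of_card_ne_zero (by
    rw [J3Simple90.card_J3 ω h2 hω h4]; norm_num)
  haveI : Fact (Nat.Prime 17) := ⟨by norm_num⟩
  obtain ⟨t, ht, Q, hQn, hQx, hQ32, -, ⟨H, hH⟩, ⟨e⟩⟩ := J3InvThm90.structure_C ω h2 hω h4
  have S : J3Local9.Setting t Q H :=
    ⟨J3InvThm90.all_conj ω h2 hω h4, ht, hQn, hQx, hQ32, hH,
      ⟨(Subgroup.IsComplement'.QuotientMulEquiv hH.symm).symm.trans e⟩⟩
  have hcard := J3Simple90.card_J3 ω h2 hω h4
  have hy : orderOf (s ^ 19) = 17 := by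
    rw [orderOf_pow, hs]; norm_num
  obtain ⟨Y, hY⟩ := (IsPGroup.of_card (p := 17) (n := 1) (G := Subgroup.zpowers (s ^ 19))
    (by rw [Nat.card_zpowers, hy, pow_one])).exists_le_sylow
  have hY17 := J3Sylow9.card_sylow hcard (Or.inl rfl) Y
  have heq : (Y : Subgroup (J3 F ω)) = Subgroup.zpowers (s ^ 19) :=
    (Subgroup.eq_of_le_of_card_ge hY (by rw [hY17, Nat.card_zpowers, hy])).symm
  have hmem : s ∈ Subgroup.centralizer ((Y : Subgroup (J3 F ω)) : Set (J3 F ω)) := by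
    rw [Subgroup.mem_centralizer_iff]
    intro h hh
    rw [heq] at hh
    obtain ⟨i, rfl⟩ := Subgroup.mem_zpowers_iff.1 hh
    exact (((Commute.refl s).pow_left 19).zpow_left i).eq
  have h := orderOf_dvd_natCard (⟨s, hmem⟩ :
    ↥(Subgroup.centralizer ((Y : Subgroup (J3 F ω)) : Set (J3 F ω))))
  rw [Subgroup.orderOf_mk, hs, (J3Sylow9.seventeen S hcard Y).1] at h
  norm_num at h

end Cfsg.Agent.J3No323_9
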