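import Cfsg.Agent.Lib.J3Images93
import Cfsg.Agent.Lib.J3Mult90
import Cfsg.Agent.Lib.J3Bound9
import Cfsg.Agent.Lib.J3No323_9
import Cfsg.Agent.Lib.J3InvThm90

/-!
# From the relators to the third Janko group
-/

set_option autoImplicit false

namespace Cfsg.Agent.J3Bridge93

open Subgroup Cfsg.Agent.J3Rels93 Cfsg.Agent.J3Images93
open Cfsg.Spor

universe w

/-- The order bound for groups satisfying the relators. -/
def CardBound : Prop :=
  ∀ (Γ : Type w) [Group Γ] (g : ℕ → Γ), (∀ c, g (Nat.xor c 1) = (g c)⁻¹) →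
    (∀ c, 14 ≤ c → g c = 1) → (∀ r ∈ relsAll, wval g r = 1) →
      Nat.card ↥(closure (Set.range g)) ≤ 150698880

theorem map_wval {M N : Type*} [Group M] [Group N] (f : M →* N) (g : ℕ → M) (w : List ℕ) :
    f (wval g w) = wval (fun c => f (g c)) w := by
  simp [wval, map_list_prod, Function.comp_def]

variable {F : Type} [Field F] [Finite F] (ω : F) (h2 : (2 : F) = 0) (hω : ω ^ 2 + ω + 1 = 0)
include h2 hω

theorem exists_onto (hB : CardBound.{w}) {G : Type w} [Group G] [Finite G] (g : ℕ → G)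
    (hinv : ∀ c, g (Nat.xor c 1) = (g c)⁻¹) (hbig : ∀ c, 14 ≤ c → g c = 1)
    (hrel : ∀ r ∈ relsAll, wval g r = 1) :
    ∃ f : threeJ3 F ω →* G, f.range = closure (Set.range g) := by
  haveI : Finite (threeJ3 F ω) :=
    Nat.finite_of_card_ne_zero (by rw [J3Order90.card_threeJ3 ω h2 hω]; norm_num)
  set p : ℕ → G × threeJ3 F ω := fun c => (g c, img ω c)
  set Γ := closure (Set.range p)
  have h1 : ∀ c, p (Nat.xor c 1) = (p c)⁻¹ := fun c =>
    Prod.ext (hinv c) (img_inv ω h2 hω c)
  have h3 : ∀ c, 14 ≤ c → p c = 1 := fun c hc =>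
    Prod.ext (hbig c hc) (if_neg (by omega) : img ω c = 1)
  have h4 : ∀ r ∈ relsAll, wval p r = 1 := fun r hr =>
    Prod.ext
      ((map_wval (MonoidHom.fst G (threeJ3 F ω)) p r).trans (hrel r hr))
      ((map_wval (MonoidHom.snd G (threeJ3 F ω)) p r).trans (img_rels ω h2 hω r hr))
  have hle : Nat.card ↥Γ ≤ 150698880 := hB _ p h1 h3 h4
  set π : ↥Γ →* threeJ3 F ω := (MonoidHom.snd G (threeJ3 F ω)).comp Γ.subtype
  have hsurj : Function.Surjective π := by
    rw [← MonoidHom.range_eq_top, eq_top_iff, ← img_gen ω h2 hω, closure_le]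
    rintro _ ⟨c, rfl⟩
    exact ⟨⟨p c, subset_closure ⟨c, rfl⟩⟩, rfl⟩
  have hbij : Function.Bijective π :=
    ⟨((Nat.bijective_iff_surjective_and_card π).2 ⟨hsurj, le_antisymm
      (hle.trans_eq (J3Order90.card_threeJ3 ω h2 hω).symm)
      (Nat.card_le_card_of_surjective π hsurj)⟩).1, hsurj⟩
  set e := MulEquiv.ofBijective π hbij
  refine ⟨((MonoidHom.fst G (threeJ3 F ω)).comp Γ.subtype).comp e.symm.toMonoidHom, ?_⟩
  refine le_antisymm ?_ ((closure_le _).2 ?_)
  · rintro _ ⟨t, rfl⟩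
    have hΓ : Γ ≤ (closure (Set.range g)).prod ⊤ := by
      refine (closure_le _).2 ?_
      rintro _ ⟨c, rfl⟩
      exact ⟨subset_closure ⟨c, rfl⟩, trivial⟩
    exact (hΓ (e.symm t).2).1
  · rintro _ ⟨c, rfl⟩
    refine ⟨img ω c, ?_⟩
    have hc : e ⟨p c, subset_closure ⟨c, rfl⟩⟩ = img ω c := rfl
    show ((e.symm (img ω c) : ↥Γ) : G × threeJ3 F ω).1 = g c
    rw [← hc, e.symm_apply_apply]

variable (h4 : Nat.card F = 4)
include h4

/-- The end of the recognition. -/
theorem iso_of_onto {G : Type w} [Group G] [Finite G] {z : G} (hz : orderOf z = 2)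
    (hone : ∀ t : G, orderOf t = 2 → IsConj z t)
    (hCard : Nat.card ↥(centralizer ({z} : Set G)) = 1920)
    (hcc : ∀ c : G, (∀ d ∈ centralizer ({z} : Set G), c * d = d * c) → c * c = 1)
    (f : threeJ3 F ω →* G) (hC : centralizer ({z} : Set G) ≤ f.range) :
    Nonempty (G ≃* J3 F ω) := by
  haveI hfin : Finite (threeJ3 F ω) :=
    Nat.finite_of_card_ne_zero (by rw [J3Order90.card_threeJ3 ω h2 hω]; norm_num)
  haveI := J3Simple90.simple_J3 ω h2 hω h4
  set Z := center (threeJ3 F ω)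
  have hne : f.ker ≠ ⊤ := by
    intro e
    have hb : f.range = ⊥ := f.range_eq_bot_iff.2 (f.ker_eq_top_iff.1 e)
    have hmem : z ∈ f.range := hC (mem_centralizer_singleton_iff.2 rfl)
    rw [hb, mem_bot] at hmem
    rw [hmem, orderOf_one] at hz
    omega
  have hNZ : f.ker ≤ Z := by
    rcases IsSimpleGroup.eq_bot_or_eq_top_of_normal (f.ker.map (QuotientGroup.mk' Z))
      (Subgroup.Normal.map inferInstance _ (QuotientGroup.mk'_surjective Z)) with h | h
    · rw [Subgroup.map_eq_bot_iff, QuotientGroup.ker_mk'] at h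
      exact h
    · exfalso
      apply hne
      rw [eq_top_iff, ← J3Mult90.perfect_three ω h2 hω h4, _root_.commutator_def, commutator_le]
      intro s _ t _
      have key : ∀ b : threeJ3 F ω, ∃ n ∈ f.ker, ∃ c ∈ Z, b = n * c := by
        intro b
        obtain ⟨n, hn, e⟩ : QuotientGroup.mk' Z b ∈ f.ker.map (QuotientGroup.mk' Z) := by
          rw [h]; trivial
        exact ⟨n, hn, n⁻¹ * b, QuotientGroup.eq.1 e, by group⟩
      obtain ⟨m, hm, c, hc, rfl⟩ := key t
      have e : s * c = c * s := (mem_center_iff.1 hc s)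
      rw [commutatorElement_def, show s * (m * c) * s⁻¹ * (m * c)⁻¹ =
        s * m * (c * s⁻¹ * c⁻¹) * m⁻¹ by group]
      rw [show c * s⁻¹ * c⁻¹ = s⁻¹ by
        rw [← mem_center_iff.1 hc s⁻¹, mul_inv_cancel_right]]
      exact mul_mem (Subgroup.Normal.conj_mem inferInstance m hm s) (inv_mem hm)
  have hker : f.ker = Z := by
    refine le_antisymm hNZ ?_
    by_contra hnot
    have h3 : Nat.card ↥Z = 3 := J3Simple90.card_center ω h2 hω h4
    haveI : Fact (Nat.card ↥Z).Prime := ⟨by rw [h3]; norm_num⟩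
    rcases (f.ker.subgroupOf Z).eq_bot_or_eq_top_of_prime_card with h | h
    · obtain ⟨c, hc1⟩ : ∃ c : ↥Z, c ≠ 1 := by
        haveI : Nontrivial ↥Z := Finite.one_lt_card_iff_nontrivial.1 (by rw [h3]; norm_num)
        exact exists_ne 1
      have hinj : ∀ b : ↥Z, f b = 1 → b = 1 := fun b hb => by
        have : b ∈ f.ker.subgroupOf Z := hb
        rwa [h, mem_bot] at this
      have hfc : f c * f c = 1 := hcc (f c) fun d hd => by
        obtain ⟨s, rfl⟩ := hC hd
        rw [← map_mul, ← map_mul, mem_center_iff.1 c.2 s]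
      apply hc1
      have hc3 : (c : threeJ3 F ω) ^ 3 = 1 := J3InvCore90.center_cube ω h2 hω h4 c.2
      have : f c = 1 := by
        calc f c = (f c * f c) * f c := by rw [hfc, one_mul]
          _ = f ((c : threeJ3 F ω) ^ 3) := by rw [pow_succ, pow_two, map_mul, map_mul]
          _ = 1 := by rw [hc3, map_one]
      exact hinj c this
    · exact hnot (subgroupOf_eq_top.1 h)
  let e : J3 F ω ≃* ↥f.range :=
    (QuotientGroup.quotientMulEquivOfEq hker.symm).trans (QuotientGroup.quotientKerEquivRange f)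
  have htop : f.range = ⊤ := by
    refine J3Bound9.eq_top_of_facts hz hone hC hCard ?_ ?_ ?_
    · rw [← Nat.card_congr e.toEquiv, J3Simple90.card_J3 ω h2 hω h4]
    · intro s t hs ht
      have := J3InvThm90.all_conj ω h2 hω h4 (e.symm s) (e.symm t)
        (by rw [MulEquiv.orderOf_eq, hs]) (by rw [MulEquiv.orderOf_eq, ht])
      have h' := e.toMonoidHom.map_isConj this
      simpa using h'
    · intro s hs
      haveI := Fintype.ofFinite F
      exact J3No323_9.no_323 ω h2 hω h4 (e.symm s) (by rw [MulEquiv.orderOf_eq, hs])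
  exact ⟨(e.trans ((MulEquiv.subgroupCongr htop).trans Subgroup.topEquiv)).symm⟩

end Cfsg.Agent.J3Bridge93
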