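import Cfsg.Agent.Lib.J3Setup93
import Mathlib

/-!
# Groups of J₃ type: the relators of `C(z)` and of the element `o`
-/

set_option autoImplicit false

namespace Cfsg.Agent.J3Rels93

open Subgroup Cfsg.Agent.J3TypePoints93 Cfsg.Agent.J3TypeAction93 Cfsg.Agent.J3Setup93

/-- The letters `z, a 1, x, u, v, h, o`, each followed by its inverse. -/
def gl {G : Type*} [Group G] (z : G) (a : Fin 5 → G) (x u v h o : G) (c : ℕ) : G :=
  [z, z⁻¹, a 1, (a 1)⁻¹, x, x⁻¹, u, u⁻¹, v, v⁻¹, h, h⁻¹, o, o⁻¹].getD c 1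

/-- The value of a word. -/
def wval {G : Type*} [Group G] (g : ℕ → G) (w : List ℕ) : G := (w.map g).prod

/-- Relators of `C(z)`. -/
def relsH : List (List ℕ) :=
  [[8, 6, 10, 2, 8, 6, 10, 2, 8, 6, 10, 2, 8, 6, 10, 2, 8, 6, 10, 2],
   [2, 0, 10, 8, 2, 0, 10, 8, 2, 0, 10, 8, 2, 0, 10, 8, 2, 0, 10, 8],
   [6, 10, 2, 6, 10, 2],
   [6, 4, 10, 6, 4, 10],
   [6, 0, 10, 6, 0, 10],
   [4, 8, 4, 8, 4, 8],
   [8, 4, 9, 5, 7],
   [0, 8, 0, 8],
   [2, 4, 3, 5],
   [4, 0, 5, 1],
   [10, 10, 10],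
   [4, 4, 4],
   [8, 8],
   [6, 6]]

/-- Relators of `o`. -/
def relsO : List (List ℕ) :=
  [[12, 12, 12],
   [12, 4, 13, 5],
   [12, 0, 13, 11, 3, 11, 11, 1],
   [12, 10, 10, 2, 10, 13, 0],
   [12, 6, 13, 9],
   [12, 8, 13, 9, 7],
   [12, 2, 6, 2, 13, 2, 6, 2],
   [12, 2, 8, 2, 13, 2, 8, 2]]

variable {G : Type*} [Group G] [Finite G] {Q : Subgroup G} {z : G} {a : Fin 5 → G}
variable {x u v h : G}

omit [Finite G] in
theorem Exact.mul {g k : G} {σ τ : Equiv.Perm (Fin 5)} (hg : Exact z a g σ)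
    (hk : Exact z a k τ) : Exact z a (g * k) (σ * τ) := by
  refine ⟨((show Commute g z from hg.1).mul_left hk.1).eq, fun p => ?_⟩
  rw [show g * k * a p * (g * k)⁻¹ = g * (k * a p * k⁻¹) * g⁻¹ by group, hk.2, hg.2]
  rfl

omit [Finite G] in
theorem Exact.inv {g : G} {σ : Equiv.Perm (Fin 5)} (hg : Exact z a g σ) :
    Exact z a g⁻¹ σ⁻¹ := by
  refine ⟨(show Commute g z from hg.1).inv_left.eq, fun p => ?_⟩
  have h := hg.2 (σ⁻¹ p)
  rw [← Equiv.Perm.mul_apply, mul_inv_cancel, Equiv.Perm.one_apply] at h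
  rw [← h]; group

variable (S : Gens Q z a x u v h)
include S

theorem az (p : Fin 5) : a p * z = z * a p := S.hJ.l.comm _ (S.pts.mem p)

theorem zz : z * z = 1 := S.hJ.l.zz

theorem exact_z : Exact z a z 1 :=
  ⟨rfl, fun p => by rw [← az S, mul_inv_cancel_right]; rfl⟩

theorem exact_one {g : G} (hg : Exact z a g 1) : g = 1 ∨ g = z :=
  cent_pts S.hJ S.pts (S.mem_Q g ⟨hg.1, fun p => Or.inl (hg.2 p)⟩) fun p => by simpa using hg.2 p

theorem exact_unique {g : G} {σ τ : Equiv.Perm (Fin 5)} (h1 : Exact z a g σ)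
    (h2 : Exact z a g τ) : σ = τ :=
  acts_unique S.hJ S.pts ⟨h1.1, fun p => Or.inl (h1.2 p)⟩ ⟨h2.1, fun p => Or.inl (h2.2 p)⟩

/-- The exactly acting elements. -/
def exactSub (z : G) (a : Fin 5 → G) : Subgroup G where
  carrier := {g | ∃ σ, Exact z a g σ}
  mul_mem' := fun ⟨_, hg⟩ ⟨_, hk⟩ => ⟨_, Exact.mul hg hk⟩
  one_mem' := ⟨1, by simp, fun p => by simp⟩
  inv_mem' := fun ⟨_, hg⟩ => ⟨_, Exact.inv hg⟩

/-- A product of `u, v, x, h` acting trivially on the points is the identity. -/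
theorem exact_word {g : G} (hg : g ∈ closure ({u, v, x, h} : Set G)) (hg1 : Exact z a g 1) :
    g = 1 := by
  classical
  haveI : Fintype G := Fintype.ofFinite G
  set E := exactSub z a
  choose σ hσ using fun g : ↥E => g.2
  let f : ↥E →* Equiv.Perm (Fin 5) :=
    { toFun := σ
      map_one' := exact_unique S (hσ 1) ⟨by simp, fun p => by simp⟩
      map_mul' := fun g k => exact_unique S (hσ (g * k)) (Exact.mul (hσ g) (hσ k)) }
  have hf : ∀ (g : ↥E) (τ : Equiv.Perm (Fin 5)), Exact z a (g : G) τ → f g = τ :=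
    fun g τ h => exact_unique S (hσ g) h
  set V4 : Subgroup (Equiv.Perm (Fin 5)) :=
    { carrier := {1, σu, σv, σu * σv}
      mul_mem' := fun {p q} hp hq => by
        simp only [Set.mem_insert_iff, Set.mem_singleton_iff] at hp hq ⊢
        rcases hp with rfl | rfl | rfl | rfl <;> rcases hq with rfl | rfl | rfl | rfl <;>
          decide +kernel
      one_mem' := Or.inl rfl
      inv_mem' := fun {p} hp => by
        simp only [Set.mem_insert_iff, Set.mem_singleton_iff] at hp ⊢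
        rcases hp with rfl | rfl | rfl | rfl <;> decide +kernel }
  have hzE : z ∈ E := ⟨1, exact_z S⟩
  have huE : u ∈ E := ⟨_, S.eu⟩
  have hvE : v ∈ E := ⟨_, S.ev⟩
  set z' : ↥E := ⟨z, hzE⟩
  set u' : ↥E := ⟨u, huE⟩
  set v' : ↥E := ⟨v, hvE⟩
  set B := V4.comap f
  have hker : ∀ g : ↥E, f g = 1 → g = 1 ∨ g = z' := by
    intro g hg
    have := hσ g
    rw [show σ g = 1 from hg] at this
    rcases exact_one S this with e | e
    exacts [Or.inl (Subtype.ext e), Or.inr (Subtype.ext e)]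
  have hB : ∀ g ∈ B, ∃ b ∈ [1, u', v', u' * v'], g = b ∨ g = z' * b := by
    intro g hg
    have key : ∀ b : ↥E, f g = f b → g = b ∨ g = z' * b := fun b e => by
      rcases hker (g * b⁻¹) (by rw [map_mul, map_inv, e, mul_inv_cancel]) with h | h
      exacts [Or.inl (mul_inv_eq_one.1 h), Or.inr (mul_inv_eq_iff_eq_mul.1 h)]
    have eu' : f u' = σu := hf _ _ S.eu
    have ev' : f v' = σv := hf _ _ S.ev
    rcases (show f g = 1 ∨ f g = σu ∨ f g = σv ∨ f g = σu * σv from hg) with e | e | e | e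
    · exact ⟨1, by simp, key _ (by rw [e, map_one])⟩
    · exact ⟨u', by simp, key _ (by rw [e, eu'])⟩
    · exact ⟨v', by simp, key _ (by rw [e, ev'])⟩
    · exact ⟨u' * v', by simp, key _ (by rw [e, map_mul, eu', ev'])⟩
  have cuv : Commute u' v' := Subtype.ext S.uv
  have czu : Commute z' u' := Subtype.ext S.eu.1.symm
  have czv : Commute z' v' := Subtype.ext S.ev.1.symm
  have hcomm : ∀ g ∈ B, ∀ k ∈ B, Commute g k := by
    have h1 : ∀ b ∈ [1, u', v', u' * v'], Commute z' b := by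
      intro b hb
      fin_cases hb
      exacts [Commute.one_right _, czu, czv, czu.mul_right czv]
    have h2 : ∀ b ∈ [1, u', v', u' * v'], ∀ c ∈ [1, u', v', u' * v'], Commute b c := by
      intro b hb c hc
      fin_cases hb <;> fin_cases hc
      all_goals first
        | exact Commute.one_left _
        | exact Commute.one_right _
        | exact Commute.refl _
        | exact cuv
        | exact cuv.symm
        | exact (Commute.refl u').mul_right cuv
        | exact cuv.symm.mul_right (Commute.refl v')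
        | exact ((Commute.refl u').mul_right cuv).symm
        | exact (cuv.symm.mul_right (Commute.refl v')).symm
    intro g hg k hk
    obtain ⟨b, hb, hgb⟩ := hB g hg
    obtain ⟨c, hc, hkc⟩ := hB k hk
    rcases hgb with e | e <;> rcases hkc with e' | e' <;> rw [e, e']
    · exact h2 _ hb _ hc
    · exact (h1 b hb).symm.mul_right (h2 _ hb _ hc)
    · exact (h1 c hc).mul_left (h2 _ hb _ hc)
    · exact ((Commute.refl z').mul_right (h1 c hc)).mul_left
        ((h1 b hb).symm.mul_right (h2 _ hb _ hc))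
  letI : CommGroup ↥B :=
    { (inferInstance : Group ↥B) with
      mul_comm := fun g k => Subtype.ext (hcomm g g.2 k k.2) }
  have hodd : Odd B.index := by
    have hle : f.range ≤ alternatingGroup (Fin 5) := by
      rintro _ ⟨g, rfl⟩
      exact Equiv.Perm.mem_alternatingGroup.2 (S.even g _ ⟨(hσ g).1, fun p => Or.inl ((hσ g).2 p)⟩)
    have hV4 : V4 ≤ f.range := by
      rintro p (rfl | rfl | rfl | rfl)
      exacts [one_mem _, ⟨u', hf _ _ S.eu⟩, ⟨v', hf _ _ S.ev⟩,
        ⟨u' * v', by rw [map_mul, hf u' _ S.eu, hf v' _ S.ev]⟩]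
    have hc4 : Nat.card ↥V4 = 4 := by
      rw [Nat.card_eq_fintype_card,
        Fintype.card_of_subtype ({1, σu, σv, σu * σv} : Finset (Equiv.Perm (Fin 5)))
          (fun p => by
            simp only [Finset.mem_insert, Finset.mem_singleton]
            exact Iff.rfl)]
      decide +kernel
    have h60 : Nat.card ↥f.range ∣ 60 := by
      have := Subgroup.card_dvd_of_le hle
      rwa [nat_card_alternatingGroup, Nat.card_fin, show Nat.factorial 5 / 2 = 60 from rfl] at this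
    have h4 : 4 * (V4.subgroupOf f.range).index = Nat.card ↥f.range := by
      rw [← hc4, ← card_mul_index (V4.subgroupOf f.range),
        Nat.card_congr (subgroupOfEquivOfLe hV4).toEquiv]
    have hi : B.index = (V4.subgroupOf f.range).index := index_comap V4 f
    have hdvd : (V4.subgroupOf f.range).index ∣ 15 :=
      (Nat.mul_dvd_mul_iff_left (by norm_num : 0 < 4)).1 (by rw [h4]; exact h60)
    rw [hi]
    exact Odd.of_dvd_nat (by decide) hdvd
  let τ : ↥E →* ↥B := MonoidHom.transfer (MonoidHom.id ↥B)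
  have hzB : z' ∈ B := by
    show f z' ∈ V4
    rw [hf z' _ (exact_z S)]
    exact one_mem V4
  have hz2 : z' * z' = 1 := Subtype.ext (zz S)
  have hBsq : ∀ b : ↥B, b * b = 1 := by
    intro b
    apply Subtype.ext
    obtain ⟨c, hc, e⟩ := hB b b.2
    have hcc : c * c = 1 := by
      fin_cases hc
      exacts [one_mul 1, Subtype.ext S.uu, Subtype.ext S.vv,
        by rw [cuv.symm.mul_mul_mul_comm, show u' * u' = 1 from Subtype.ext S.uu,
          show v' * v' = 1 from Subtype.ext S.vv, one_mul]]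
    have hzc : Commute z' c := by
      fin_cases hc
      exacts [Commute.one_right _, czu, czv, czu.mul_right czv]
    rcases e with e | e
    · rw [Subgroup.coe_mul, e, hcc]; rfl
    · rw [Subgroup.coe_mul, e, hzc.symm.mul_mul_mul_comm, hz2, hcc, one_mul]; rfl
  have hzt : τ z' ≠ 1 := by
    have hc : ∀ g : ↥E, Commute g z' := fun g => Subtype.ext (hσ g).1
    have key : ∀ (k : ℕ) (g : ↥E), g⁻¹ * z' ^ k * g = z' ^ k := fun k g => by
      rw [mul_assoc, ← ((hc g).pow_right k).eq, inv_mul_cancel_left]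
    show MonoidHom.transfer (MonoidHom.id ↥B) z' ≠ 1
    rw [MonoidHom.transfer_eq_pow (MonoidHom.id ↥B) z' fun k g _ => key k g]
    intro e
    have e' : z' ^ B.index = 1 := congrArg Subtype.val e
    obtain ⟨n, hn⟩ := hodd
    rw [hn, pow_succ, pow_mul, pow_two, hz2, one_pow, one_mul] at e'
    exact S.hJ.l.ne_one (congrArg Subtype.val e')
  have hx' : x ∈ E := ⟨_, S.ex⟩
  have hh' : h ∈ E := ⟨_, S.eh⟩
  have h3 : ∀ c : ↥E, c * c * c = 1 → τ c = 1 := fun c hc => by
    have := congrArg τ hc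
    rwa [map_mul, map_mul, map_one, hBsq, one_mul] at this
  have tx : τ ⟨x, hx'⟩ = 1 := h3 _ (Subtype.ext S.x3)
  have th : τ ⟨h, hh'⟩ = 1 := h3 _ (Subtype.ext S.h3)
  have tc : ∀ c : ↥E, τ (⟨x, hx'⟩ * c * ⟨x, hx'⟩⁻¹) = τ c := fun c => by
    rw [map_mul, map_mul, map_inv, tx, one_mul, inv_one, mul_one]
  have tv : τ v' = τ u' := by
    rw [← tc u']
    exact congrArg τ (Subtype.ext S.xu.symm)
  have tu : τ u' = 1 := by
    have e : τ (u' * v') = τ v' := by
      rw [← tc v']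
      exact congrArg τ (Subtype.ext S.xv.symm)
    rwa [map_mul, mul_eq_right] at e
  have hgen : ∀ w ∈ closure ({u, v, x, h} : Set G), ∃ hw : w ∈ E, τ ⟨w, hw⟩ = 1 := by
    intro w hw
    induction hw using closure_induction with
    | mem w hw =>
      rcases hw with rfl | rfl | rfl | rfl
      exacts [⟨huE, tu⟩, ⟨hvE, tv.trans tu⟩, ⟨hx', tx⟩, ⟨hh', th⟩]
    | one => exact ⟨one_mem E, map_one τ⟩
    | mul p q _ _ ihp ihq =>
      obtain ⟨hp, ep⟩ := ihp
      obtain ⟨hq, eq⟩ := ihq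
      exact ⟨mul_mem hp hq, by
        rw [show (⟨p * q, mul_mem hp hq⟩ : ↥E) = ⟨p, hp⟩ * ⟨q, hq⟩ from rfl, map_mul, ep, eq,
          one_mul]⟩
    | inv p _ ih =>
      obtain ⟨hp, ep⟩ := ih
      exact ⟨inv_mem hp, by
        rw [show (⟨p⁻¹, inv_mem hp⟩ : ↥E) = ⟨p, hp⟩⁻¹ from rfl, map_inv, ep, inv_one]⟩
  obtain ⟨hgE, tg⟩ := hgen g hg
  rcases exact_one S hg1 with e | e
  · exact e
  · subst e
    exact absurd tg hzt

/-- `g` is a product of `u, v, x, h` and acts as `σ`. -/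
def EW (z : G) (a : Fin 5 → G) (x u v h g : G) (σ : Equiv.Perm (Fin 5)) : Prop :=
  g ∈ closure ({u, v, x, h} : Set G) ∧ Exact z a g σ

omit [Finite G] S in
theorem EW.mul {g k : G} {σ τ : Equiv.Perm (Fin 5)} (hg : EW z a x u v h g σ)
    (hk : EW z a x u v h k τ) : EW z a x u v h (g * k) (σ * τ) :=
  ⟨mul_mem hg.1 hk.1, Exact.mul hg.2 hk.2⟩

theorem ew : EW z a x u v h u σu ∧ EW z a x u v h v σv ∧ EW z a x u v h x σx ∧
    EW z a x u v h h σh :=
  ⟨⟨subset_closure (by simp), S.eu⟩, ⟨subset_closure (by simp), S.ev⟩,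
    ⟨subset_closure (by simp), S.ex⟩, ⟨subset_closure (by simp), S.eh⟩⟩

theorem ew_one {g : G} {σ : Equiv.Perm (Fin 5)} (hg : EW z a x u v h g σ) (hs : σ = 1) : g = 1 :=
  exact_word S hg.1 (hs ▸ hg.2)

theorem anti' {p q : Fin 5} (h : p ≠ q) : a p * a q * a p = z * a q := by
  have := S.pts.anti p q h
  rwa [S.pts.inv_self] at this

theorem swap_ne {p q : Fin 5} (h : p ≠ q) : a q * a p = z * (a p * a q) := by
  calc a q * a p = (a p * a p) * (a q * a p) := by rw [S.pts.sq, one_mul]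
    _ = a p * (a p * a q * a p) := by group
    _ = (a p * z) * a q := by rw [anti' S h]; group
    _ = _ := by rw [az S]; group

theorem a0_conj : h⁻¹ * a 1 * h = a 0 := by
  have e := (Exact.inv S.eh).2 1
  rw [show σh⁻¹ 1 = 0 by decide +kernel, inv_inv] at e
  exact e

theorem inv_z : z⁻¹ = z := inv_eq_of_mul_eq_one_right (zz S)

theorem prod_ten : a 2 * a 3 * a 0 * a 4 * a 1 = z := by
  have e1 : a 3 * a 0 = z * (a 0 * a 3) := swap_ne S (by decide)
  have e2 : a 4 * a 1 = z * (a 1 * a 4) := swap_ne S (by decide)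
  have e3 : a 2 * a 0 = z * (a 0 * a 2) := swap_ne S (by decide)
  have e4 : a 3 * a 1 = z * (a 1 * a 3) := swap_ne S (by decide)
  have e5 : a 2 * a 1 = z * (a 1 * a 2) := swap_ne S (by decide)
  have c : ∀ p w, a p * (z * w) = z * (a p * w) := fun p w => by
    rw [← mul_assoc, az S, mul_assoc]
  have zw : ∀ w, z * (z * w) = w := fun w => by rw [← mul_assoc, zz S, one_mul]
  have e : a 2 * a 3 * a 0 * a 4 * a 1 = a 2 * (a 3 * a 0) * (a 4 * a 1) := by group
  rw [e, e1, e2, show a 2 * (z * (a 0 * a 3)) * (z * (a 1 * a 4)) =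
    a 2 * (z * (a 0 * (a 3 * (z * (a 1 * a 4))))) by group, c 3, c 0, zw,
    show a 2 * (a 0 * (a 3 * (a 1 * a 4))) = (a 2 * a 0) * (a 3 * a 1) * a 4 by group, e3, e4,
    show z * (a 0 * a 2) * (z * (a 1 * a 3)) * a 4 =
      z * (a 0 * (a 2 * (z * (a 1 * (a 3 * a 4))))) by group, c 2, c 0, zw,
    show a 0 * (a 2 * (a 1 * (a 3 * a 4))) = a 0 * (a 2 * a 1) * (a 3 * a 4) by group, e5, S.a0]
  have hz : ∀ w, w * z = z * w → w * (z * w) = z * (w * w) := fun w hw => by
    rw [← mul_assoc, hw, mul_assoc]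
  rw [show a 1 * a 2 * a 3 * a 4 * (z * (a 1 * a 2)) * (a 3 * a 4) =
    a 1 * (a 2 * (a 3 * (a 4 * (z * (a 1 * a 2 * a 3 * a 4))))) by group, c 4, c 3, c 2, c 1,
    show a 1 * (a 2 * (a 3 * (a 4 * (a 1 * a 2 * a 3 * a 4)))) =
      a 1 * a 2 * a 3 * a 4 * (a 1 * a 2 * a 3 * a 4) by group, ← S.a0, S.pts.sq, mul_one]

theorem prod_one : a 3 * a 2 * a 0 * a 4 * a 1 = 1 := by
  have e : a 3 * a 2 = z * (a 2 * a 3) := swap_ne S (by decide)
  rw [e, show z * (a 2 * a 3) * a 0 * a 4 * a 1 = z * (a 2 * a 3 * a 0 * a 4 * a 1) by group,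
    prod_ten S, zz S]

theorem prod_z : a 1 * a 3 * a 2 * a 4 * a 0 = z := by
  have e : a 3 * a 2 = z * (a 2 * a 3) := swap_ne S (by decide)
  rw [show a 1 * a 3 * a 2 * a 4 * a 0 = a 1 * (a 3 * a 2) * a 4 * a 0 by group, e,
    show a 1 * (z * (a 2 * a 3)) * a 4 * a 0 = (a 1 * z) * (a 2 * a 3 * a 4) * a 0 by group, az S,
    show z * a 1 * (a 2 * a 3 * a 4) * a 0 = z * (a 1 * a 2 * a 3 * a 4 * a 0) by group, ← S.a0,
    S.pts.sq, mul_one]

omit [Finite G] S in
theorem mul_pow_five {g b : G} (p1 p2 p3 p4 p5 : G) (e1 : g * b * g⁻¹ = p1)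
    (e2 : g * p1 * g⁻¹ = p2) (e3 : g * p2 * g⁻¹ = p3) (e4 : g * p3 * g⁻¹ = p4)
    (e5 : g * p4 * g⁻¹ = p5) :
    g * b * (g * b) * (g * b) * (g * b) * (g * b) =
      p1 * p2 * p3 * p4 * p5 * (g * g * g * g * g) := by
  subst e1; subst e2; subst e3; subst e4; subst e5
  group

omit [Finite G] S in
theorem mul_pow_five' {g b : G} (p1 p2 p3 p4 : G) (e1 : g * b * g⁻¹ = p1)
    (e2 : g * p1 * g⁻¹ = p2) (e3 : g * p2 * g⁻¹ = p3) (e4 : g * p3 * g⁻¹ = p4) :
    b * g * (b * g) * (b * g) * (b * g) * (b * g) =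
      b * p1 * p2 * p3 * p4 * (g * g * g * g * g) := by
  subst e1; subst e2; subst e3; subst e4
  group

/-- The relators of `C(z)` hold. -/
theorem relsH_hold (o : G) : ∀ r ∈ relsH, wval (gl z a x u v h o) r = 1 := by
  intro r hr
  obtain ⟨Eu, Ev, Ex, Eh⟩ := ew S
  have hzi := inv_z S
  have hzu : z * u = u * z := S.eu.1.symm
  have hzv : z * v = v * z := S.ev.1.symm
  simp only [relsH, List.mem_cons, List.not_mem_nil, or_false] at hr
  rcases hr with rfl | rfl | rfl | rfl | rfl | rfl | rfl | rfl | rfl | rfl | rfl | rfl | rfl | rfl <;>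
    simp only [wval, List.map_cons, List.map_nil, List.prod_cons, List.prod_nil, gl,
      List.getD_cons_zero, List.getD_cons_succ, mul_one]
  · set g := v * u * h
    have hg : EW z a x u v h g (σv * σu * σh) := (Ev.mul Eu).mul Eh
    have f : ∀ p, g * a p * g⁻¹ = a ((σv * σu * σh) p) := hg.2.2
    have e5 : g * g * g * g * g = 1 :=
      ew_one S ((((hg.mul hg).mul hg).mul hg).mul hg) (by decide +kernel)
    have := mul_pow_five (g := g) (b := a 1) (a 3) (a 2) (a 0) (a 4) (a 1) (f 1) (f 3) (f 2) (f 0)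
      (f 4)
    rw [prod_one S, e5, one_mul] at this
    rw [← this]
    simp only [g]
    group
  · set g := h * v
    have hg : EW z a x u v h g (σh * σv) := Eh.mul Ev
    have f : ∀ p, g * a p * g⁻¹ = a ((σh * σv) p) := hg.2.2
    have e5 : g * g * g * g * g = 1 :=
      ew_one S ((((hg.mul hg).mul hg).mul hg).mul hg) (by decide +kernel)
    have := mul_pow_five' (g := g) (b := a 1) (a 3) (a 2) (a 4) (a 0) (f 1) (f 3) (f 2) (f 4)
    rw [prod_z S, e5, mul_one] at this
    have hzg : g * z = z * g := hg.2.1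
    have hbg : Commute z (a 1 * g) :=
      (show Commute z (a 1) from (az S 1).symm).mul_right hzg.symm
    calc _ = (a 1 * z * g) * (a 1 * z * g) * (a 1 * z * g) * (a 1 * z * g) * (a 1 * z * g) := by
          simp only [g]
          group
      _ = (z * (a 1 * g)) * (z * (a 1 * g)) * (z * (a 1 * g)) * (z * (a 1 * g)) *
          (z * (a 1 * g)) := by rw [az S, mul_assoc z]
      _ = z ^ 5 * (a 1 * g) ^ 5 := by
          rw [← hbg.mul_pow, pow_succ, pow_succ, pow_succ, pow_succ, pow_one]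
      _ = 1 := by
          rw [show (a 1 * g) ^ 5 = z by
            rw [← this, pow_succ, pow_succ, pow_succ, pow_succ, pow_one], ← pow_succ,
            show (5 : ℕ) + 1 = 2 * 3 from rfl, pow_mul, pow_two, zz S, one_pow]
  · have hg : EW z a x u v h (u * h) (σu * σh) := Eu.mul Eh
    have e2 : u * h * (u * h) = 1 := ew_one S (hg.mul hg) (by decide +kernel)
    have e1 : u * h * a 1 * (u * h)⁻¹ = a 1 := by
      rw [hg.2.2 1, show (σu * σh) 1 = 1 by decide +kernel]
    calc u * (h * (a 1 * (u * (h * a 1))))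
        = u * h * a 1 * (u * h)⁻¹ * (u * h * (u * h)) * a 1 := by group
      _ = 1 := by rw [e1, e2, mul_one, S.pts.sq]
  · have hg := (Eu.mul Ex).mul Eh
    rw [← ew_one S (hg.mul hg) (by decide +kernel)]; group
  · have hg : EW z a x u v h (u * h) (σu * σh) := Eu.mul Eh
    have e2 : u * h * (u * h) = 1 := ew_one S (hg.mul hg) (by decide +kernel)
    have hzh : z * h = h * z := S.eh.1.symm
    calc u * (z * (h * (u * (z * h)))) = (u * z) * h * (u * (z * h)) := by group
      _ = z * (u * h) * (u * (z * h)) := by rw [← hzu]; group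
      _ = z * (u * h * u) * (z * h) := by group
      _ = z * (u * h * u) * h * z := by rw [hzh]; group
      _ = z * (u * h * (u * h)) * z := by group
      _ = 1 := by rw [e2, mul_one, zz S]
  · have hg := Ex.mul Ev
    rw [← ew_one S ((hg.mul hg).mul hg) (by decide +kernel)]; group
  · calc v * (x * (v⁻¹ * (x⁻¹ * u⁻¹))) = v * (x * v⁻¹ * x⁻¹) * u⁻¹ := by group
      _ = v * (u * v)⁻¹ * u⁻¹ := by rw [← S.xv]; group
      _ = u⁻¹ * u⁻¹ := by group
      _ = 1 := by rw [← mul_inv_rev, S.uu, inv_one]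
  · calc z * (v * (z * v)) = (z * v) * (z * v) := by group
      _ = (v * z) * (z * v) := by rw [hzv]
      _ = v * (z * z) * v := by group
      _ = 1 := by rw [zz S, mul_one, S.vv]
  · have e : x * a 1 * x⁻¹ = a 1 := by rw [S.ex.2 1, show σx 1 = 1 by decide +kernel]
    calc a 1 * (x * ((a 1)⁻¹ * x⁻¹)) = a 1 * (x * a 1 * x⁻¹)⁻¹ := by group
      _ = 1 := by rw [e, mul_inv_cancel]
  · rw [← mul_assoc, S.ex.1]; group
  · rw [← mul_assoc]; exact S.h3
  · rw [← mul_assoc]; exact S.x3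
  · exact S.vv
  · exact S.uu

/-- The relators of `o` hold. -/
theorem relsO_hold {o : G} (O : Oct z a x u v o) : ∀ r ∈ relsO, wval (gl z a x u v h o) r = 1 := by
  intro r hr
  have h0 := a0_conj S
  have hzi := inv_z S
  have hh : h⁻¹ = h * h := inv_eq_of_mul_eq_one_left S.h3
  have hui : u⁻¹ = u := inv_eq_of_mul_eq_one_right S.uu
  have hvi : v⁻¹ = v := inv_eq_of_mul_eq_one_right S.vv
  have hai := S.pts.inv_self 1
  simp only [relsO, List.mem_cons, List.not_mem_nil, or_false] at hr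
  rcases hr with rfl | rfl | rfl | rfl | rfl | rfl | rfl | rfl <;>
    simp only [wval, List.map_cons, List.map_nil, List.prod_cons, List.prod_nil, gl,
      List.getD_cons_zero, List.getD_cons_succ, mul_one]
  · rw [← mul_assoc]; exact O.o3
  · rw [← mul_assoc, O.ox]; group
  · calc _ = o * z * o⁻¹ * (h⁻¹ * (a 1)⁻¹ * (h⁻¹ * h⁻¹) * z⁻¹) := by group
      _ = z * a 0 * ((h⁻¹ * a 1 * h)⁻¹ * z⁻¹) := by
          rw [O.oz, hh]
          congr 1
          rw [show h * h * (a 1)⁻¹ * (h * h * (h * h)) * z⁻¹ =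
            h * h * (a 1)⁻¹ * (h * h * h) * h * z⁻¹ by group, S.h3]
          rw [← hh]; group
      _ = 1 := by rw [h0]; group
  · calc _ = o * (h * h * a 1 * h) * o⁻¹ * z := by group
      _ = 1 := by rw [← hh, h0, O.oa, zz S]
  · rw [← mul_assoc, ← mul_assoc, O.ou, mul_inv_cancel]
  · calc o * (v * (o⁻¹ * (v⁻¹ * u⁻¹))) = o * v * o⁻¹ * (u * v)⁻¹ := by group
      _ = 1 := by rw [O.ov, mul_inv_cancel]
  · calc _ = o * (a 1 * u * a 1) * o⁻¹ * (a 1 * u * a 1) := by group
      _ = a 1 * u * (a 1 * a 1) * u * a 1 := by rw [O.oru, mul_inv_cancel_right]; group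
      _ = 1 := by rw [S.pts.sq, mul_one, mul_assoc (a 1), S.uu, mul_one, S.pts.sq]
  · calc _ = o * (a 1 * v * a 1) * o⁻¹ * (a 1 * v * a 1) := by group
      _ = a 1 * v * (a 1 * a 1) * v * a 1 := by rw [O.orv, mul_inv_cancel_right]; group
      _ = 1 := by rw [S.pts.sq, mul_one, mul_assoc (a 1), S.vv, mul_one, S.pts.sq]

end Cfsg.Agent.J3Rels93
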