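import Cfsg.Agent.Lib.J3CardH22Data
import Cfsg.Agent.Lib.J3Rels93

/-!
The relators `relsH` bound the group on the six letters of the involution centraliser by 1920.

Three kernel-checked coset enumerations: two derived relators on `x, h` (A), the subgroup on `x, h` has at
most 60 elements (B), and it has at most 32 cosets (C).
-/

set_option autoImplicit false
set_option maxRecDepth 100000

namespace Cfsg.Agent.J3CardH22

open Cfsg.Agent.J1CertCore91 Cfsg.Agent.J3CardH22Data

/-- One entry of a closure table. -/
noncomputable def entryOk (C : Cert) (E L : Tbl) (nf N NG i x : Nat) : Bool :=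
  force (entry E 32 (NG * i + x)) fun e =>
  force (Nat.shiftRight e 20) fun idx =>
  optAll (walk C.fact nf 1 (Nat.land e 1048575) (entry L 32 i) [x]) fun r =>
    Nat.blt idx N && Nat.beq r (entry L 32 idx)

/-- A whole closure table. -/
noncomputable def allOk (C : Cert) (E L : Tbl) (nf N NG : Nat) : Bool :=
  Nat.beq (entry L 32 0) 0 && (List.range N).all fun i =>
    (List.range NG).all fun x => entryOk C E L nf N NG i x

section General

variable {Γ X : Type*} [Group Γ] [MulAction Γ X] {g : Nat → Γ} {base : X} {C : Cert}

/-- The closure of the letters keeps the base point inside the tabulated nodes. -/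
theorem closure_mem (hC : Ctx g base C) {E L : Tbl} {nf N NG : Nat}
    (hv : AllValid g (nodeVal g base C) C nf) (h : allOk C E L nf N NG = true) (hN : 0 < N)
    (hNG : ∀ x < NG, Nat.xor x 1 < NG) {γ : Γ} (hγ : γ ∈ Subgroup.closure (g '' Set.Iio NG)) :
    ∃ k : Fin N, γ • base = nodeVal g base C (entry L 32 k) := by
  simp only [allOk, Bool.and_eq_true, Nat.beq_eq, List.all_eq_true, List.mem_range] at h
  have hcl : ∀ (i : Fin N), ∀ x < NG, ∃ k : Fin N,
      g x • nodeVal g base C (entry L 32 i) = nodeVal g base C (entry L 32 k) := by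
    intro i x hx
    have he := h.2 i i.2 x hx
    simp only [entryOk, force_eq] at he
    obtain ⟨r, hr, hk⟩ := optAll_eq_true he
    simp only [Bool.and_eq_true, Nat.blt_eq, Nat.beq_eq] at hk
    refine ⟨⟨_, hk.1⟩, ?_⟩
    rw [← hk.2]
    simpa [act] using walk_sound g _ hC.partner C.fact nf hv _ _ _ _ _ hr
  induction hγ using Subgroup.closure_induction_left with
  | one => exact ⟨⟨0, hN⟩, by simp [h.1, nodeVal_zero]⟩
  | mul_left y hy z _ ih =>
    obtain ⟨x, hx, rfl⟩ := hy
    obtain ⟨i, hi⟩ := ih
    obtain ⟨k, hk⟩ := hcl i x hx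
    exact ⟨k, by rw [mul_smul, hi, hk]⟩
  | inv_mul_cancel y hy z _ ih =>
    obtain ⟨x, hx, rfl⟩ := hy
    obtain ⟨i, hi⟩ := ih
    obtain ⟨k, hk⟩ := hcl i (Nat.xor x 1) (hNG x hx)
    refine ⟨k, ?_⟩
    rw [← eq_inv_of_mul_eq_one_left (hC.partner x), mul_smul, hi, hk]

end General

section Group

variable {G : Type*} [Group G]

theorem wval_reverse (g : Nat → G) (w : List Nat) :
    val g w = J3Rels93.wval g w.reverse := by
  induction w with
  | nil => rfl
  | cons x w ih => simp [val, J3Rels93.wval, ih]

theorem relsA_eq : relsA = J3Rels93.relsH.map List.reverse := by decide +kernel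

theorem xor_lt_twelve : ∀ x < 12, Nat.xor x 1 < 12 := by decide +kernel
theorem xor_lt_four : ∀ x < 4, Nat.xor x 1 < 4 := by decide +kernel

/-- The letters `x, x⁻¹, h, h⁻¹` in front. -/
def phi (c : Nat) : Nat := [4, 5, 10, 11].getD c c

theorem phi_xor (c : Nat) : phi (Nat.xor c 1) = Nat.xor (phi c) 1 := by
  rcases Nat.lt_or_ge c 4 with h | h
  · revert c h; decide +kernel
  · have h' : 4 ≤ Nat.xor c 1 := by
      change 4 ≤ c ^^^ 1
      by_contra hlt
      have h1 : Nat.xor (c ^^^ 1) 1 < 4 := xor_lt_four _ (by omega)
      change (c ^^^ 1) ^^^ 1 < 4 at h1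
      rw [Nat.xor_assoc, Nat.xor_self, Nat.xor_zero] at h1
      omega
    simp only [phi]
    rw [List.getD_eq_default _ _ (by simpa using h'), List.getD_eq_default _ _ (by simpa using h)]

theorem okA0 : checkList certA justA0 0 = true := by decide +kernel
theorem okA1 : checkList certA justA1 256 = true := by decide +kernel
theorem lenA : justA0.length = 256 ∧ justA1.length = 250 ∧ nfA = 506 := by decide +kernel
theorem okB : checkList certB justB0 0 = true := by decide +kernel
theorem lenB : justB0.length = nfB := by decide +kernel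
theorem closedB : allOk certB tblEB tblLB nfB 60 4 = true := by decide +kernel
theorem okC0 : checkList certC justC0 0 = true := by decide +kernel
theorem okC1 : checkList certC justC1 256 = true := by decide +kernel
theorem okC2 : checkList certC justC2 512 = true := by decide +kernel
theorem okC3 : checkList certC justC3 768 = true := by decide +kernel
theorem okC4 : checkList certC justC4 1024 = true := by decide +kernel
theorem okC5 : checkList certC justC5 1280 = true := by decide +kernel
theorem okC6 : checkList certC justC6 1536 = true := by decide +kernel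
theorem okC7 : checkList certC justC7 1792 = true := by decide +kernel
theorem okC8 : checkList certC justC8 2048 = true := by decide +kernel
theorem lenC : justC0.length = 256 ∧ justC1.length = 256 ∧ justC2.length = 256 ∧
    justC3.length = 256 ∧ justC4.length = 256 ∧ justC5.length = 256 ∧ justC6.length = 256 ∧
    justC7.length = 256 ∧ justC8.length = 231 ∧ nfC = 2279 := by decide +kernel
theorem closedC : allOk certC tblEC tblLC nfC 32 12 = true := by decide +kernel
theorem walkW0 : walk certA.fact nfA 8 pathW0 0 (relsW.getD 0 []) = some 0 := by decide +kernel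
theorem walkW1 : walk certA.fact nfA 10 pathW1 0 (relsW.getD 1 []) = some 0 := by decide +kernel

section Valid

variable {X : Type*} [MulAction G X] {g : Nat → G} {base : X}

theorem validA (hC : Ctx g base certA) : AllValid g (nodeVal g base certA) certA nfA := by
  have h0 : AllValid g (nodeVal g base certA) certA 0 := fun i hi => absurd hi (Nat.not_lt_zero i)
  have h1 := checkList_sound g base hC _ _ h0 okA0
  rw [Nat.zero_add, lenA.1] at h1
  have h2 := checkList_sound g base hC _ _ h1 okA1
  rw [lenA.2.1] at h2
  rw [lenA.2.2]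
  exact h2

theorem validB (hC : Ctx g base certB) : AllValid g (nodeVal g base certB) certB nfB := by
  have h0 : AllValid g (nodeVal g base certB) certB 0 := fun i hi => absurd hi (Nat.not_lt_zero i)
  have h1 := checkList_sound g base hC _ _ h0 okB
  rw [Nat.zero_add, lenB] at h1
  exact h1

theorem validC (hC : Ctx g base certC) : AllValid g (nodeVal g base certC) certC nfC := by
  obtain ⟨l0, l1, l2, l3, l4, l5, l6, l7, l8, ln⟩ := lenC
  have h0 : AllValid g (nodeVal g base certC) certC 0 := fun i hi => absurd hi (Nat.not_lt_zero i)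
  have a0 := checkList_sound g base hC _ _ h0 okC0
  rw [Nat.zero_add, l0] at a0
  have a1 := checkList_sound g base hC _ _ a0 okC1
  rw [l1] at a1
  have a2 := checkList_sound g base hC _ _ a1 okC2
  rw [l2] at a2
  have a3 := checkList_sound g base hC _ _ a2 okC3
  rw [l3] at a3
  have a4 := checkList_sound g base hC _ _ a3 okC4
  rw [l4] at a4
  have a5 := checkList_sound g base hC _ _ a4 okC5
  rw [l5] at a5
  have a6 := checkList_sound g base hC _ _ a5 okC6
  rw [l6] at a6
  have a7 := checkList_sound g base hC _ _ a6 okC7
  rw [l7] at a7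
  have a8 := checkList_sound g base hC _ _ a7 okC8
  rw [l8] at a8
  rw [ln]
  exact a8

end Valid

/-- The derived relators on `x` and `h`. -/
theorem derived (g : Nat → G) (hinv : ∀ c, g (Nat.xor c 1) = (g c)⁻¹)
    (hA : ∀ w ∈ relsA, val g w = 1) : ∀ w ∈ relsW, val g w = 1 := by
  have hC : Ctx g (1 : G) certA :=
    ⟨fun x => by rw [hinv, inv_mul_cancel], hA, fun w hw => by simp [certA] at hw⟩
  have key : ∀ (w : List Nat) (n pk : Nat), walk certA.fact nfA n pk 0 w = some 0 → val g w = 1 := by
    intro w n pk h
    have := walk_sound g _ hC.partner certA.fact nfA (validA hC) _ _ _ _ _ h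
    rwa [nodeVal_zero, act_eq g, smul_eq_mul, mul_one] at this
  intro w hw
  simp only [relsW, List.mem_cons, List.not_mem_nil, or_false] at hw
  rcases hw with rfl | rfl
  exacts [key _ _ _ walkW0, key _ _ _ walkW1]

/-- The letters `z, a, x, u, v, h` generate at most 1920 elements under the relators `relsH`. -/
theorem card_H_le (g : ℕ → G) (hinv : ∀ c, g (Nat.xor c 1) = (g c)⁻¹)
    (hrels : ∀ r ∈ J3Rels93.relsH, J3Rels93.wval g r = 1) :
    Finite (Subgroup.closure (g '' Set.Iio 12)) ∧
      Nat.card (Subgroup.closure (g '' Set.Iio 12)) ≤ 1920 := by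
  classical
  have hA : ∀ w ∈ relsA, val g w = 1 := by
    intro w hw
    rw [relsA_eq, List.mem_map] at hw
    obtain ⟨r, hr, rfl⟩ := hw
    rw [wval_reverse, List.reverse_reverse]
    exact hrels r hr
  have hW := derived g hinv hA
  have hpart : ∀ x, g (Nat.xor x 1) * g x = 1 := fun x => by rw [hinv, inv_mul_cancel]
  -- the subgroup on `x` and `h`
  let g' : ℕ → G := g ∘ phi
  set K : Subgroup G := Subgroup.closure (g' '' Set.Iio 4) with hK
  have hB : Ctx g' (1 : G) certB := by
    refine ⟨fun x => by simp only [g', Function.comp_apply, phi_xor, hpart], ?_,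
      fun w hw => by simp [certB] at hw⟩
    intro w hw
    have tr : ∀ w : List Nat, val g' w = val g (w.map phi) := by
      intro w
      induction w with
      | nil => rfl
      | cons x w ih => simp [val, ih, g']
    rw [tr]
    have hmem : w.map phi ∈ relsA ++ relsW := by
      have hall : ∀ w ∈ relsB, w.map phi ∈ relsA ++ relsW := by decide +kernel
      exact hall w hw
    rcases List.mem_append.1 hmem with h | h
    exacts [hA _ h, hW _ h]
  have hKmem : ∀ k ∈ K, ∃ i : Fin 60, k = nodeVal g' (1 : G) certB (entry tblLB 32 i) := by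
    intro k hk
    obtain ⟨i, hi⟩ := closure_mem hB (validB hB) closedB (by norm_num) xor_lt_four hk
    exact ⟨i, by rwa [smul_eq_mul, mul_one] at hi⟩
  -- its cosets
  let base : G ⧸ K := ((1 : G) : G ⧸ K)
  have hC : Ctx g base certC := by
    refine ⟨hpart, ?_, ?_⟩
    · intro w hw
      rcases List.mem_append.1 (show w ∈ relsA ++ relsW from hw) with h | h
      exacts [hA _ h, hW _ h]
    · intro w hw
      have hwK : ∀ j < 4, g (phi j) ∈ K := fun j hj => Subgroup.subset_closure ⟨j, hj, rfl⟩
      rw [act_eq g]
      simp only [certC, List.mem_cons, List.not_mem_nil, or_false] at hw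
      change ((val g w * 1 : G) : G ⧸ K) = ((1 : G) : G ⧸ K)
      rw [mul_one, QuotientGroup.eq, mul_one, inv_mem_iff]
      rcases hw with rfl | rfl
      · simpa [val, phi] using hwK 0 (by norm_num)
      · simpa [val, phi] using hwK 2 (by norm_num)
  set H : Subgroup G := Subgroup.closure (g '' Set.Iio 12) with hH
  have hex : ∀ k : Fin 32, ∃ r : G,
      ((r : G) : G ⧸ K) = nodeVal g base certC (entry tblLC 32 k) :=
    fun k => Quotient.exists_rep _
  choose r hr using hex
  let f : Fin 32 × Fin 60 → G := fun p => r p.1 * nodeVal g' (1 : G) certB (entry tblLB 32 p.2)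
  have hsub : (H : Set G) ⊆ Set.range f := by
    intro γ hγ
    obtain ⟨k, hk⟩ := closure_mem hC (validC hC) closedC (by norm_num) xor_lt_twelve hγ
    have hk' : ((r k : G) : G ⧸ K) = (γ : G ⧸ K) := by
      rw [hr k, ← hk]
      change ((γ * 1 : G) : G ⧸ K) = _
      rw [mul_one]
    obtain ⟨i, hi⟩ := hKmem _ (QuotientGroup.eq.1 hk')
    exact ⟨(k, i), by simp only [f, ← hi, mul_inv_cancel_left]⟩
  have hfin : (H : Set G).Finite := (Set.finite_range f).subset hsub
  refine ⟨hfin.to_subtype, ?_⟩
  calc Nat.card H = (H : Set G).ncard := rfl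
    _ ≤ (Set.range f).ncard := Set.ncard_le_ncard hsub (Set.finite_range f)
    _ = Nat.card (Set.range f) := rfl
    _ ≤ Nat.card (Fin 32 × Fin 60) := Finite.card_range_le f
    _ = 1920 := by simp [Nat.card_eq_fintype_card]

end Group

end Cfsg.Agent.J3CardH22
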