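import Cfsg.Agent.Lib.J3Collapse93_0
import Cfsg.Agent.Lib.J3Collapse93_1
import Cfsg.Agent.Lib.J3Collapse93_2
import Cfsg.Agent.Lib.J3Collapse93_3
import Cfsg.Agent.Lib.J3Collapse93_4
import Cfsg.Agent.Lib.J3Collapse93_5
import Cfsg.Agent.Lib.J3Collapse93_6

/-!
# The cases of the centraliser of the element of order three
-/

set_option autoImplicit false
set_option maxRecDepth 100000

namespace Cfsg.Agent.J3Cases93

open Cfsg.Agent.J3Keys93 Cfsg.Agent.J3Glue93 Cfsg.Agent.J3Collapse93Core

universe w

/-- The cases which collapse. -/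
def collapsing : List (Option ℕ × List (List ℕ)) :=
  [J3Collapse93_0.case, J3Collapse93_1.case, J3Collapse93_2.case, J3Collapse93_3.case,
   J3Collapse93_4.case, J3Collapse93_5.case, J3Collapse93_6.case]

/-- All cases. -/
def cases : List (Option ℕ × List (List ℕ)) := (some 1, relsMain) :: collapsing

theorem balanced : ∀ c ∈ cases, c.1 = none → ∀ w ∈ c.2, 3 ∣ bal w := by decide +kernel

theorem cover6 : ∀ m < 3, chkCases 6 els6 z6
    ((cases.filter fun c => c.1 == none || c.1 == some m).map Prod.snd) = true := by decide +kernel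

theorem cover7 : ∀ m < 3, chkCases 7 els7 z7
    ((cases.filter fun c => c.1 == none || c.1 == some m).map Prod.snd) = true := by decide +kernel

theorem collapse : ∀ c ∈ cases, c ≠ (some 1, relsMain) → Collapses.{w} c := by
  intro c hc hne
  simp only [cases, collapsing, List.mem_cons, List.not_mem_nil, or_false] at hc
  rcases hc with rfl | rfl | rfl | rfl | rfl | rfl | rfl | rfl
  · exact absurd rfl hne
  exacts [J3Collapse93_0.collapse, J3Collapse93_1.collapse, J3Collapse93_2.collapse,
    J3Collapse93_3.collapse, J3Collapse93_4.collapse, J3Collapse93_5.collapse,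
    J3Collapse93_6.collapse]

end Cfsg.Agent.J3Cases93
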