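import Mathlib

/-! Facts about the alternating group on six letters for groups of J₃ type. -/

set_option autoImplicit false

namespace Cfsg.Agent.J3SixFacts9

abbrev P6 := Equiv.Perm (Fin 6)

/-- The map given by a list. -/
def fn (l : List (Fin 6)) (i : Fin 6) : Fin 6 := l.getD i 0

/-- The list of a permutation. -/
def code (p : P6) : List (Fin 6) := List.ofFn p

theorem fn_code (p : P6) : fn (code p) = ⇑p := by
  funext i; fin_cases i <;> simp [fn, code]

/-- All lists of permutations. -/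
def allL : List (List (Fin 6)) := (List.finRange 6).permutations'

theorem code_mem (p : P6) : code p ∈ allL :=
  List.mem_permutations'.2 (by
    rw [← List.ofFn_id]
    exact Equiv.Perm.ofFn_comp_perm p id)

/-- Even involutions. -/
def invL : List (List (Fin 6)) :=
  allL.filter fun l => decide ((∀ i, fn l (fn l i) = i) ∧
    (Finset.univ.filter fun i => fn l i ≠ i).card = 4)

/-- Elements of order three. -/
def threeL : List (List (Fin 6)) :=
  allL.filter fun l => decide ((∀ i, fn l (fn l (fn l i)) = i) ∧ ∃ i, fn l i ≠ i)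

/-- Has a fixed point. -/
def hasFix (f : Fin 6 → Fin 6) : Bool := decide (∃ i, f i = i)

/-- Have a common fixed point. -/
def common (f g : Fin 6 → Fin 6) : Bool := decide (∃ i, f i = i ∧ g i = i)

/-- `y p y⁻¹` for `y` of order three. -/
def cj (y p : Fin 6 → Fin 6) (i : Fin 6) : Fin 6 := y (p (y (y i)))

theorem lemA : ∀ y ∈ threeL, ∀ p ∈ invL,
    (∃ i, fn p i ≠ cj (fn y) (fn p) i) →
    (∀ i, fn p (cj (fn y) (fn p) i) = cj (fn y) (fn p) (fn p i)) →
    hasFix (fn y) = common (fn p) (cj (fn y) (fn p)) := by decide +kernel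

theorem lemC : ∀ y ∈ threeL, ∃ c ∈ invL, ∀ i, fn c (fn y (fn c i)) = fn y (fn y i) := by
  decide +kernel

theorem lemB : ∀ p ∈ invL,
    ∀ q ∈ invL.filter (fun q => decide ((∀ i, fn p (fn q i) = fn q (fn p i)) ∧
      ∃ i, fn q i ≠ fn p i)),
    ∀ r ∈ invL.filter (fun r => decide ((∀ i, fn p (fn r i) = fn r (fn p i)) ∧
      ∃ i, fn r i ≠ fn p i)),
    (∃ i, fn q (fn r i) ≠ fn r (fn q i)) → common (fn p) (fn q) = !(common (fn p) (fn r)) := by
  decide +kernel

abbrev A6 := ↥(alternatingGroup (Fin 6))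

/-- Support and sign of an involution. -/
theorem sign_invol {p : P6} (h : p * p = 1) (h1 : p ≠ 1) :
    ∃ n : ℕ, 2 * n = p.support.card ∧ Equiv.Perm.sign p = (-1) ^ n := by
  have ho : orderOf p = 2 := orderOf_eq_prime (by rw [pow_two, h]) h1
  obtain ⟨n, hn⟩ := Equiv.Perm.cycleType_prime_order (σ := p) (by rw [ho]; exact Nat.prime_two)
  rw [ho] at hn
  refine ⟨n + 1, ?_, ?_⟩
  · rw [← Equiv.Perm.sum_cycleType, hn, Multiset.sum_replicate, smul_eq_mul, mul_comm]
  · rw [Equiv.Perm.sign_of_cycleType, hn, Multiset.sum_replicate, Multiset.card_replicate,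
      smul_eq_mul, pow_add, pow_mul']
    simp

theorem mem_invs {p : A6} (h : p * p = 1) (h1 : p ≠ 1) : code (p : P6) ∈ invL := by
  obtain ⟨n, hn, hs⟩ := sign_invol (congrArg Subtype.val h) fun e => h1 (Subtype.ext e)
  refine List.mem_filter.2 ⟨code_mem _, decide_eq_true ?_⟩
  rw [fn_code]
  refine ⟨fun i => ?_, ?_⟩
  · have := Equiv.congr_fun (congrArg Subtype.val h) i
    simpa using this
  · show (p : P6).support.card = 4
    rw [Equiv.Perm.mem_alternatingGroup.1 p.2] at hs
    have h0 : (p : P6).support.card ≠ 0 := fun e => h1 (Subtype.ext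
      (Equiv.Perm.support_eq_empty_iff.1 (Finset.card_eq_zero.1 e)))
    have h6 : (p : P6).support.card ≤ 6 := (Finset.card_le_univ _).trans_eq (by simp)
    rcases (show n = 1 ∨ n = 2 ∨ n = 3 by omega) with rfl | rfl | rfl
    · exact absurd hs (by decide)
    · omega
    · exact absurd hs (by decide)

theorem mem_threes {y : A6} (h : y * y * y = 1) (h1 : y ≠ 1) : code (y : P6) ∈ threeL := by
  refine List.mem_filter.2 ⟨code_mem _, decide_eq_true ?_⟩
  rw [fn_code]
  refine ⟨fun i => ?_, ?_⟩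
  · have := Equiv.congr_fun (congrArg Subtype.val h) i
    simpa using this
  · by_contra hall
    push Not at hall
    exact h1 (Subtype.ext (Equiv.ext hall))

theorem cj_eq {y p : A6} (hy : y * y * y = 1) :
    cj ⇑(y : P6) ⇑(p : P6) = ⇑((y * p * y⁻¹ : A6) : P6) := by
  funext i
  have hi : (y : P6)⁻¹ = (y : P6) * (y : P6) :=
    inv_eq_of_mul_eq_one_left (congrArg Subtype.val hy)
  simp [cj, hi]

/-- Every element of order three is inverted by an involution. -/
theorem inverted (y : A6) (h : y * y * y = 1) (h1 : y ≠ 1) :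
    ∃ c : A6, c * c = 1 ∧ c ≠ 1 ∧ c * y * c⁻¹ = y⁻¹ := by
  obtain ⟨l, hl, hi⟩ := lemC _ (mem_threes h h1)
  obtain ⟨h2, h4⟩ := of_decide_eq_true (List.mem_filter.1 hl).2
  rw [fn_code] at hi
  have hv : Function.Involutive (fn l) := h2
  set c : P6 := hv.toPerm
  have hcc : c * c = 1 := Equiv.ext h2
  have hc1 : c ≠ 1 := fun e => by
    rw [show (Finset.univ.filter fun i => fn l i ≠ i) = c.support from rfl, e,
      Equiv.Perm.support_one, Finset.card_empty] at h4
    omega
  obtain ⟨n, hn, hs⟩ := sign_invol hcc hc1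
  have h4' : c.support.card = 4 := h4
  obtain rfl : n = 2 := by omega
  have hinv : c⁻¹ = c := inv_eq_of_mul_eq_one_right hcc
  have hy : (y : P6)⁻¹ = (y : P6) * (y : P6) :=
    inv_eq_of_mul_eq_one_left (congrArg Subtype.val h)
  refine ⟨⟨c, Equiv.Perm.mem_alternatingGroup.2 (by rw [hs]; decide)⟩, Subtype.ext hcc,
    fun e => hc1 (congrArg Subtype.val e), Subtype.ext (Equiv.ext fun i => ?_)⟩
  show (c * (y : P6) * c⁻¹) i = ((y : P6)⁻¹) i
  rw [hinv, hy]
  exact hi i

theorem hasFix_conj (y d : P6) : hasFix ⇑(d * y * d⁻¹) = hasFix ⇑y := by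
  unfold hasFix
  rw [decide_eq_decide]
  constructor
  · rintro ⟨i, hi⟩
    exact ⟨d⁻¹ i, d.injective (by simpa [Equiv.Perm.mul_apply] using hi)⟩
  · rintro ⟨i, hi⟩
    exact ⟨d i, by simp [Equiv.Perm.mul_apply, hi]⟩

theorem fix_common {y p : A6} (hy : y * y * y = 1) (hy1 : y ≠ 1) (hp : p * p = 1) (hp1 : p ≠ 1)
    (hc : p * (y * p * y⁻¹) = (y * p * y⁻¹) * p) (hne : y * p * y⁻¹ ≠ p) :
    hasFix ⇑(y : P6) = common ⇑(p : P6) ⇑((y * p * y⁻¹ : A6) : P6) := by
  have h := lemA _ (mem_threes hy hy1) _ (mem_invs hp hp1)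
  rw [fn_code, fn_code, cj_eq hy] at h
  refine h ?_ fun i => ?_
  · by_contra hall
    push Not at hall
    exact hne (Subtype.ext (Equiv.ext fun i => (hall i).symm))
  · have := Equiv.congr_fun (congrArg Subtype.val hc) i
    simpa only [Subgroup.coe_mul, Equiv.Perm.mul_apply] using this

theorem com_apply {p q : A6} (h : p * q = q * p) (i : Fin 6) :
    (p : P6) ((q : P6) i) = (q : P6) ((p : P6) i) := by
  simpa using Equiv.congr_fun (congrArg Subtype.val h) i

theorem exists_ne {p q : A6} (h : p ≠ q) : ∃ i, (p : P6) i ≠ (q : P6) i := by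
  by_contra hall
  push Not at hall
  exact h (Subtype.ext (Equiv.ext hall))

/-- The two kinds of four groups through a central involution are not exchanged inside `A₆`. -/
theorem not_conj {p q r y y' d : A6} (hp : p * p = 1) (hp1 : p ≠ 1) (hq : q * q = 1) (hq1 : q ≠ 1)
    (hr : r * r = 1) (hr1 : r ≠ 1) (hpq : p * q = q * p) (hpr : p * r = r * p)
    (hqr : q * r ≠ r * q) (hy : y * y * y = 1) (hy1 : y ≠ 1) (hy' : y' * y' * y' = 1)
    (hy'1 : y' ≠ 1) (eq : y * p * y⁻¹ = q) (er : y' * p * y'⁻¹ = r) (ed : d * y * d⁻¹ = y') :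
    False := by
  have nq : q ≠ p := fun e => hqr (by rw [e]; exact hpr)
  have nr : r ≠ p := fun e => hqr (by rw [e]; exact hpq.symm)
  have h1 := fix_common hy hy1 hp hp1 (by rw [eq]; exact hpq) (by rw [eq]; exact nq)
  have h2 := fix_common hy' hy'1 hp hp1 (by rw [er]; exact hpr) (by rw [er]; exact nr)
  rw [eq] at h1
  rw [er] at h2
  have h3 : hasFix ⇑(y' : P6) = hasFix ⇑(y : P6) := by
    rw [← ed]; simp only [Subgroup.coe_mul, Subgroup.coe_inv]; exact hasFix_conj _ _
  have h4 := lemB _ (mem_invs hp hp1) (code (q : P6))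
    (List.mem_filter.2 ⟨mem_invs hq hq1, decide_eq_true
      ⟨by rw [fn_code, fn_code]; exact com_apply hpq, by rw [fn_code, fn_code]; exact exists_ne nq⟩⟩)
    (code (r : P6))
    (List.mem_filter.2 ⟨mem_invs hr hr1, decide_eq_true
      ⟨by rw [fn_code, fn_code]; exact com_apply hpr, by rw [fn_code, fn_code]; exact exists_ne nr⟩⟩)
    (by
      rw [fn_code, fn_code]
      obtain ⟨i, hi⟩ := exists_ne hqr
      exact ⟨i, by simpa using hi⟩)
  simp only [fn_code] at h4
  rw [← h1, ← h2, h3] at h4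
  revert h4; cases hasFix ⇑(y : P6) <;> decide

end Cfsg.Agent.J3SixFacts9
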