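import Cfsg.Agent.Lib.J3Rels93
import Cfsg.Agent.Lib.J3SixFacts9
import Cfsg.Agent.Lib.TwoInvolutions
import Cfsg.Agent.Lib.HallCore
import Cfsg.Agent.S3035
import Cfsg.Agent.Lib.Simple360

/-!
# Groups of J₃ type: the centralizer of `x`

Modulo `⟨x⟩` the centralizer of `x` has an involution with dihedral centralizer of order eight and
all its involutions are fused, so it is `SL(3,2)` or `A₆`; moreover `x` lies outside its derived
subgroup, and the resulting character is negated by `gel u h`.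
-/

set_option autoImplicit false

namespace Cfsg.Agent.J3CentX9

open Subgroup Cfsg.Agent.LargeExtraspecial Cfsg.Agent.J3TypePoints93 Cfsg.Agent.J3TypeAction93
open Cfsg.Agent.J3Setup93 Cfsg.Agent.J3Rels93

variable {G : Type*} [Group G] [Finite G] {Q : Subgroup G} {z : G} {a : Fin 5 → G}
variable {x u v h o : G}

set_option maxRecDepth 100000 in
theorem three_cent : ∀ π : Equiv.Perm (Fin 5), Equiv.Perm.sign π = 1 → π * σx = σx * π →
    π = 1 ∨ π = σx ∨ π = σx ^ 2 := by decide +kernel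

theorem three_words : ∀ v : W, (∀ r, wsig v (σx.symm r) = wsig v r) →
    v = none ∨ v = some ⟨(0, 0), le_rfl⟩ ∨ v = some ⟨(1, 1), le_rfl⟩ ∨
      v = some ⟨(0, 1), by decide⟩ := by decide +kernel

section

variable (S : Gens Q z a x u v h)
include S

theorem x_ne : x ≠ 1 := fun e => by
  have := exact_unique S S.ex (show Exact z a x 1 by subst e; exact ⟨by simp, fun p => by simp⟩)
  revert this; decide

theorem ord_x : orderOf x = 3 :=
  orderOf_eq_prime (by rw [pow_succ, pow_two]; exact S.x3) (x_ne S)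

theorem x_a0 : x * a 0 = a 0 * x := mul_inv_eq_iff_eq_mul.1 ((S.ex.2 0).trans (congrArg a (by decide +kernel : σx 0 = 0)))

theorem x_a1 : x * a 1 = a 1 * x := mul_inv_eq_iff_eq_mul.1 ((S.ex.2 1).trans (congrArg a (by decide +kernel : σx 1 = 1)))

theorem pair_sq : a 0 * a 1 * (a 0 * a 1) = z := by
  calc a 0 * a 1 * (a 0 * a 1) = (a 0 * a 1 * (a 0)⁻¹) * (a 0 * a 0) * a 1 := by group
    _ = z * (a 1 * a 1) := by rw [S.pts.anti 0 1 (by decide), S.pts.sq]; group
    _ = z := by rw [S.pts.sq, mul_one]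

/-- `gel u h` swaps the points `0`, `1`. -/
theorem g_exact : Exact z a (gel u h) (σu * σh⁻¹) := Exact.mul S.eu (Exact.inv S.eh)

theorem g_z : gel u h * z * (gel u h)⁻¹ = z := mul_inv_eq_iff_eq_mul.2 (g_exact S).1

theorem g_a0 : gel u h * a 0 * (gel u h)⁻¹ = a 1 :=
  ((g_exact S).2 0).trans (congrArg a (by decide +kernel : (σu * σh⁻¹) 0 = 1))

theorem g_a1 : gel u h * a 1 * (gel u h)⁻¹ = a 0 :=
  ((g_exact S).2 1).trans (congrArg a (by decide +kernel : (σu * σh⁻¹) 1 = 0))

theorem g_x : gel u h * x * (gel u h)⁻¹ = x⁻¹ := by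
  have hg : gel u h ∈ closure ({u, v, x, h} : Set G) :=
    mul_mem (subset_closure (by simp)) (inv_mem (subset_closure (by simp)))
  have hx : x ∈ closure ({u, v, x, h} : Set G) := subset_closure (by simp)
  refine eq_inv_of_mul_eq_one_left (exact_word S (mul_mem (mul_mem (mul_mem hg hx) (inv_mem hg)) hx) ?_)
  have := Exact.mul (Exact.mul (Exact.mul (g_exact S) S.ex) (Exact.inv (g_exact S))) S.ex
  rwa [show σu * σh⁻¹ * σx * (σu * σh⁻¹)⁻¹ * σx = 1 by decide +kernel] at this

theorem g_x' : (gel u h)⁻¹ * x * gel u h = x⁻¹ := by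
  have e := g_x S
  calc (gel u h)⁻¹ * x * gel u h = ((gel u h)⁻¹ * (gel u h * x * (gel u h)⁻¹) * gel u h)⁻¹ := by
        rw [e]; group
    _ = x⁻¹ := by group

theorem cent_Q {w : G} (hw : w ∈ Q) (hwx : w * x = x * w) :
    w ∈ closure ({a 0, a 1} : Set G) := by
  obtain ⟨n, hn⟩ := exists_sig S.hJ S.pts hw
  have hσ : Acts z a x σx := ⟨S.ex.1, fun p => Or.inl (S.ex.2 p)⟩
  have h4 := sig_conj S.hJ S.pts hσ hn (S.hJ.l.comm w hw)
  rw [mul_inv_eq_iff_eq_mul.2 hwx.symm] at h4
  have h5 := congrFun (sig_unique S.hJ S.pts h4 hn)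
  have h0 : a 0 ∈ closure ({a 0, a 1} : Set G) := subset_closure (by simp)
  have h1 : a 1 ∈ closure ({a 0, a 1} : Set G) := subset_closure (by simp)
  have hz : z ∈ closure ({a 0, a 1} : Set G) :=
    pair_sq S ▸ mul_mem (mul_mem h0 h1) (mul_mem h0 h1)
  have hmem : word a n ∈ closure ({a 0, a 1} : Set G) := by
    rcases three_words n h5 with rfl | rfl | rfl | rfl
    · exact one_mem _
    · simpa [word] using h0
    · simpa [word] using h1
    · simpa [word] using mul_mem h0 h1
  rcases eq_word S.hJ S.pts hw hn with e | e <;> rw [e]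
  exacts [hmem, mul_mem hz hmem]

theorem cent_H {g : G} (hz : g * z = z * g) (hx : g * x = x * g) :
    ∃ k : ℕ, ∃ e ∈ closure ({a 0, a 1} : Set G), g = x ^ k * e := by
  have hσ : Acts z a x σx := ⟨S.ex.1, fun p => Or.inl (S.ex.2 p)⟩
  obtain ⟨π, hπ⟩ := exists_acts S.hJ S.pts hz
  have hc : π * σx = σx * π := by
    refine acts_unique S.hJ S.pts (acts_mul S.hJ S.pts hπ hσ) ?_
    rw [hx]
    exact acts_mul S.hJ S.pts hσ hπ
  have key : ∀ k : ℕ, π = σx ^ k → ∃ e ∈ closure ({a 0, a 1} : Set G), g = x ^ k * e := by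
    intro k e
    refine ⟨(x ^ k)⁻¹ * g, cent_Q S (S.mem_Q _ ?_) ?_, by group⟩
    · have := acts_mul S.hJ S.pts (acts_inv S.hJ S.pts (acts_pow S.hJ S.pts hσ k)) hπ
      rwa [e, inv_mul_cancel] at this
    · exact (((Commute.refl x).pow_left k).inv_left.mul_left hx).eq
  rcases three_cent π (S.even _ _ hπ) hc with e | e | e
  · exact ⟨0, key 0 (by rw [e, pow_zero])⟩
  · exact ⟨1, key 1 (by rw [e, pow_one])⟩
  · exact ⟨2, key 2 e⟩

end

/-- An element of the centralizer of `x`. -/
def cx (g : G) (hg : g * x = x * g) : ↥(centralizer ({x} : Set G)) :=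
  ⟨g, mem_centralizer_singleton_iff.2 hg⟩

omit [Finite G] in
theorem mem_zpowers_comm {w c : G} (hw : w * x = x * w) (hc : c ∈ zpowers x) : Commute w c := by
  obtain ⟨i, rfl⟩ := hc
  exact (show Commute w x from hw).zpow_right i

omit [Finite G] in
theorem cube_of_mem (hx : x * x * x = 1) {c : G} (hc : c ∈ zpowers x) : c * c * c = 1 := by
  obtain ⟨i, rfl⟩ := hc
  show x ^ i * x ^ i * x ^ i = 1
  rw [← zpow_add, ← zpow_add, show i + i + i = 3 * i by ring, zpow_mul,
    show x ^ (3 : ℤ) = x * x * x from by rw [zpow_ofNat, pow_succ, pow_two], hx, one_zpow]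

omit [Finite G] in
/-- A coset of `⟨x⟩` centralising `x` has at most one involution. -/
theorem invol_unique (hx : x * x * x = 1) {s t : G} (hs : s * s = 1) (ht : t * t = 1)
    (htx : t * x = x * t) (h : s * t⁻¹ ∈ zpowers x) : s = t := by
  have hc := mem_zpowers_comm htx h
  have h3 := cube_of_mem hx h
  set w := s * t⁻¹ with hw
  have e : s = w * t := by rw [hw, inv_mul_cancel_right]
  have h2 : w * w = 1 := by
    calc w * w = w * w * (t * t) := by rw [ht, mul_one]
      _ = w * (w * t) * t := by group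
      _ = w * (t * w) * t := by rw [hc.eq]
      _ = (w * t) * (w * t) := by group
      _ = 1 := by rw [← e, hs]
  rw [h2, one_mul] at h3
  rw [e, h3, one_mul]

omit [Finite G] in
theorem invol_cube (hx : x * x * x = 1) {w : G} (h : w * w ∈ zpowers x) :
    w * w * w * (w * w * w) = 1 := by
  rw [show w * w * w * (w * w * w) = w * w * (w * w) * (w * w) by group]
  exact cube_of_mem hx h

theorem perfect_of_simple {K : Type*} [Group K] [IsSimpleGroup K]
    (h : ¬ (Nat.card K).Prime) : commutator K = ⊤ := by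
  rcases Subgroup.Normal.eq_bot_or_eq_top (inferInstance : (commutator K).Normal) with e | e
  · exfalso
    letI : CommGroup K :=
      { (inferInstance : Group K) with
        mul_comm := fun p q => commutatorElement_eq_one_iff_mul_comm.1 (mem_bot.1 (e ▸
          commutator_mem_commutator (mem_top p) (mem_top q))) }
    exact h IsSimpleGroup.prime_card
  · exact e

section

variable (S : Gens Q z a x u v h) (O : Oct z a x u v o)
include S

theorem cube_inv {c : G} (hc : c * x = x * c) :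
    gel u h * c * (gel u h)⁻¹ * x = x * (gel u h * c * (gel u h)⁻¹) := by
  have hc' : Commute c x⁻¹ := (show Commute c x from hc).inv_right
  have e : gel u h * x⁻¹ * (gel u h)⁻¹ = x := by
    rw [← conj_inv, g_x S, inv_inv]
  calc gel u h * c * (gel u h)⁻¹ * x
      = gel u h * c * (gel u h)⁻¹ * (gel u h * x⁻¹ * (gel u h)⁻¹) := by rw [e]
    _ = gel u h * (c * x⁻¹) * (gel u h)⁻¹ := by group
    _ = gel u h * (x⁻¹ * c) * (gel u h)⁻¹ := by rw [hc'.eq]
    _ = (gel u h * x⁻¹ * (gel u h)⁻¹) * (gel u h * c * (gel u h)⁻¹) := by group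
    _ = _ := by rw [e]

theorem za_sq (p : Fin 5) : z * a p * (z * a p) = 1 := by
  rw [mul_assoc z, ← mul_assoc (a p) z, az S, mul_assoc z (a p) (a p), S.pts.sq, mul_one, zz S]

theorem z_za (p : Fin 5) : z * (z * a p) = z * a p * z := by
  rw [mul_assoc z (a p) z, az S]

theorem z_notMem : z ∉ zpowers x := fun hm => S.hJ.l.ne_one (by
  have e := cube_of_mem S.x3 hm
  rwa [zz S, one_mul] at e)

include O

theorem o_notMem : o ∉ zpowers x := fun hm => by
  have hc := mem_zpowers_comm S.ex.1.symm hm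
  have e : z * a 0 = z := by rw [← O.oz, mul_inv_eq_iff_eq_mul, hc.eq]
  exact (S.pts.ne 0).1 (mul_eq_left.1 e)

/-- The quotient of `C(x)` by `⟨x⟩`. -/
theorem exists_quot : ∃ (K : Type) (_ : Group K) (φ : ↥(centralizer ({x} : Set G)) →* K),
    Function.Surjective φ ∧ (∀ c, φ c = 1 ↔ (c : G) ∈ zpowers x) ∧
      (Nonempty (K ≃* ↥(alternatingGroup (Fin 6))) ∨
        Nonempty (K ≃* Matrix.SpecialLinearGroup (Fin 3) (ZMod 2))) := by
  classical
  set Cx := centralizer ({x} : Set G)
  have hcomm : ∀ w : Cx, (w : G) * x = x * w := fun w => mem_centralizer_singleton_iff.1 w.2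
  set N := (zpowers x).subgroupOf Cx
  haveI hN : N.Normal := ⟨fun n hn w => by
    show ((w * n * w⁻¹ : Cx) : G) ∈ zpowers x
    have hn' : (n : G) ∈ zpowers x := hn
    rw [Subgroup.coe_mul, Subgroup.coe_mul, Subgroup.coe_inv,
      (mem_zpowers_comm (hcomm w) hn').eq, mul_inv_cancel_right]
    exact hn⟩
  set π := QuotientGroup.mk' N
  have hker : ∀ w : Cx, π w = 1 ↔ (w : G) ∈ zpowers x := fun w => by
    rw [← MonoidHom.mem_ker, QuotientGroup.ker_mk', mem_subgroupOf]
  have hne : ∀ w : Cx, (w : G) * w = 1 → (w : G) ≠ 1 → π w ≠ 1 := fun w h2 h1 e => h1 (by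
    have := cube_of_mem S.x3 ((hker w).1 e)
    rwa [h2, one_mul] at this)
  have hord : ∀ w : Cx, (w : G) * w = 1 → (w : G) ≠ 1 → orderOf (π w) = 2 := fun w h2 h1 =>
    orderOf_eq_prime (by rw [← map_pow, show w ^ 2 = 1 from Subtype.ext (by
      rw [SubmonoidClass.coe_pow, pow_two]; exact h2), map_one]) (hne w h2 h1)
  set zc : Cx := cx z S.ex.1.symm
  set ac : Cx := cx (a 0) (x_a0 S).symm
  set bc : Cx := cx (a 1) (x_a1 S).symm
  set oc : Cx := cx o O.ox
  set pc : Cx := cx (gel u h * o * (gel u h)⁻¹) (cube_inv S O.ox)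
  set Z := π zc
  set A := π ac
  set B := π bc
  have hZ2 : orderOf Z = 2 := hord _ (zz S) S.hJ.l.ne_one
  have hA2 : orderOf A = 2 := hord _ (S.pts.sq 0) (S.pts.ne 0).1
  have hB2 : orderOf B = 2 := hord _ (S.pts.sq 1) (S.pts.ne 1).1
  have hABZ : A * B * (A * B) = Z := by
    rw [← map_mul, ← map_mul]; exact congrArg π (Subtype.ext (pair_sq S))
  have hAA : A * A = 1 := TwoInvolutions.mul_self_of_orderOf hA2
  have hAB : A ≠ B := fun e => by
    rw [← e, hAA, one_mul] at hABZ
    rw [← hABZ, orderOf_one] at hZ2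
    omega
  have h4 : orderOf (A * B) = 4 := orderOf_eq_prime_pow (p := 2) (n := 1)
    (by rw [pow_one, pow_two, hABZ]; intro e; rw [e, orderOf_one] at hZ2; omega)
    (by rw [show 2 ^ (1 + 1) = 2 * 2 from rfl, pow_mul, pow_two (A * B), hABZ, pow_two,
      TwoInvolutions.mul_self_of_orderOf hZ2])
  have hcent : centralizer ({Z} : Set (Cx ⧸ N)) = closure ({A, B} : Set (Cx ⧸ N)) := by
    apply le_antisymm
    · intro t ht
      obtain ⟨w, rfl⟩ := QuotientGroup.mk'_surjective N t
      have hc := mem_centralizer_singleton_iff.1 ht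
      have hwz : (w : G) * z = z * w := by
        refine mul_inv_eq_iff_eq_mul.1 (invol_unique S.x3 ?_ (zz S) S.ex.1.symm ?_)
        · rw [show (w : G) * z * (w : G)⁻¹ * ((w : G) * z * (w : G)⁻¹) =
            w * (z * z) * (w : G)⁻¹ by group, zz S]; group
        · show (((w * zc * w⁻¹ * zc⁻¹ : Cx)) : G) ∈ zpowers x
          rw [← hker, map_mul, map_mul, map_mul, map_inv, map_inv,
            show π w * π zc = π zc * π w from hc]
          group
      obtain ⟨k, e, he, hk⟩ := cent_H S hwz (hcomm w)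
      have heC : e ∈ Cx := (closure_le Cx).2 (by
        rintro s (rfl | rfl)
        exacts [ac.2, bc.2]) he
      have e1 : π w = π ⟨e, heC⟩ := by
        have e2 : w = cx (x ^ k) ((Commute.refl x).pow_left k).eq * ⟨e, heC⟩ := Subtype.ext hk
        rw [e2, map_mul, (hker _).2 (pow_mem (mem_zpowers x) k), one_mul]
      rw [e1]
      have key : (⟨e, heC⟩ : Cx) ∈ closure ({ac, bc} : Set Cx) := by
        have : e ∈ (closure ({ac, bc} : Set Cx)).map Cx.subtype := by
          rwa [MonoidHom.map_closure, Set.image_pair]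
        obtain ⟨e', he', ee⟩ := this
        rwa [show (⟨e, heC⟩ : Cx) = e' from Subtype.ext ee.symm]
      have := mem_map_of_mem π key
      rwa [MonoidHom.map_closure, Set.image_pair] at this
    · rw [closure_le]
      rintro s (rfl | rfl) <;>
        refine mem_centralizer_singleton_iff.2 ?_ <;> rw [← map_mul, ← map_mul] <;>
        exact congrArg π (Subtype.ext (az S _))
  have hD : Nonempty (↥(centralizer ({Z} : Set (Cx ⧸ N))) ≃* DihedralGroup 4) := by
    obtain ⟨e⟩ := TwoInvolutions.nonempty_mulEquiv_dihedral hA2 hB2 hAB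
    rw [h4] at e
    exact ⟨(MulEquiv.subgroupCongr hcent).trans e⟩
  have eo : π oc * Z * (π oc)⁻¹ = Z * A := by
    rw [← map_inv, ← map_mul, ← map_mul, ← map_mul]; exact congrArg π (Subtype.ext O.oz)
  have ep : π pc * Z * (π pc)⁻¹ = Z * B := by
    rw [← map_inv, ← map_mul, ← map_mul, ← map_mul]
    refine congrArg π (Subtype.ext ?_)
    show gel u h * o * (gel u h)⁻¹ * z * (gel u h * o * (gel u h)⁻¹)⁻¹ = z * a 1
    have ez : (gel u h)⁻¹ * z * gel u h = z := by
      rw [mul_assoc, ← (g_exact S).1]; exact inv_mul_cancel_left _ _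
    calc gel u h * o * (gel u h)⁻¹ * z * (gel u h * o * (gel u h)⁻¹)⁻¹
        = gel u h * (o * ((gel u h)⁻¹ * z * gel u h) * o⁻¹) * (gel u h)⁻¹ := by group
      _ = (gel u h * z * (gel u h)⁻¹) * (gel u h * a 0 * (gel u h)⁻¹) := by
          rw [ez, O.oz]; group
      _ = z * a 1 := by rw [g_z S, g_a0 S]
  have perm : ∀ n : ℕ, 2 ≤ n → ((Cx ⧸ N) ≃* Equiv.Perm (Fin n)) →
      8 ∣ Nat.factorial n / 2 := by
    intro n hn e
    haveI : Nontrivial (Fin n) := Fin.nontrivial_iff_two_le.2 hn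
    set sg : (Cx ⧸ N) →* ℤˣ := Equiv.Perm.sign.comp e.toMonoidHom
    have cj : ∀ g t : Cx ⧸ N, sg (g * t * g⁻¹) = sg t := fun g t => by
      rw [map_mul, map_mul, map_inv, mul_inv_eq_iff_eq_mul, mul_comm]
    have hA : sg A = 1 := by
      have := cj (π oc) Z
      rw [eo, map_mul] at this
      exact mul_eq_left.1 this
    have hB : sg B = 1 := by
      have := cj (π pc) Z
      rw [ep, map_mul] at this
      exact mul_eq_left.1 this
    have hle : (centralizer ({Z} : Set (Cx ⧸ N))).map e.toMonoidHom ≤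
        alternatingGroup (Fin n) := by
      rw [hcent, map_le_iff_le_comap, closure_le]
      rintro s (rfl | rfl)
      exacts [Equiv.Perm.mem_alternatingGroup.2 hA, Equiv.Perm.mem_alternatingGroup.2 hB]
    have h8 := card_dvd_of_le hle
    obtain ⟨d⟩ := hD
    rwa [card_map_of_injective e.injective, Nat.card_congr d.toEquiv, DihedralGroup.nat_card,
      nat_card_alternatingGroup, Nat.card_fin] at h8
  rcases Cfsg.Agent.S3035.result Z hZ2 hD with e | ⟨⟨e⟩⟩ | ⟨⟨e⟩⟩ | ⟨⟨e⟩⟩ | ⟨⟨e⟩⟩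
  · exfalso
    set q := QuotientGroup.mk' (Cfsg.oddCore (Cx ⧸ N))
    have hle : centralizer ({Z} : Set (Cx ⧸ N)) ⊔ Cfsg.oddCore (Cx ⧸ N) ≤
        (centralizer ({q Z} : Set _)).comap q := sup_le
      (fun t ht => mem_centralizer_singleton_iff.2
        (by rw [← map_mul, ← map_mul, mem_centralizer_singleton_iff.1 ht]))
      (fun t ht => mem_centralizer_singleton_iff.2
        (by rw [show q t = 1 from (QuotientGroup.eq_one_iff t).2 ht, one_mul, mul_one]))
    rw [e] at hle
    have h1 := congrArg q eo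
    have h0 : q (π oc) * q Z = q Z * q (π oc) :=
      mem_centralizer_singleton_iff.1 (hle (mem_top (π oc)))
    simp only [map_mul, map_inv] at h1
    rw [h0, mul_inv_cancel_right] at h1
    have hAc : A ∈ Cfsg.oddCore (Cx ⧸ N) :=
      (QuotientGroup.eq_one_iff A).1 (left_eq_mul.1 h1)
    have h2 := orderOf_dvd_natCard (⟨A, hAc⟩ : Cfsg.oddCore (Cx ⧸ N))
    rw [← Subgroup.orderOf_coe, hA2] at h2
    have := (HallCore.coprime_card_pPrimeCore 2 (Cx ⧸ N)).symm
    exact absurd h2 ((Nat.prime_two.coprime_iff_not_dvd).1 this)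
  · exact absurd (perm 4 (by norm_num) e) (by decide)
  · exact absurd (perm 5 (by norm_num) e) (by decide)
  · refine ⟨_, inferInstance, e.toMonoidHom.comp π,
      e.surjective.comp (QuotientGroup.mk'_surjective N), fun c => ?_, Or.inr ⟨MulEquiv.refl _⟩⟩
    rw [← hker]; exact e.map_eq_one_iff
  · refine ⟨_, inferInstance, e.toMonoidHom.comp π,
      e.surjective.comp (QuotientGroup.mk'_surjective N), fun c => ?_, Or.inl ⟨MulEquiv.refl _⟩⟩
    rw [← hker]; exact e.map_eq_one_iff

/-- `o` is conjugate to `x`. -/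
theorem conj_o_x : ∃ d : G, d * o * d⁻¹ = x := by
  haveI : Fact (Nat.Prime 3) := ⟨Nat.prime_three⟩
  have hu1 : u ≠ 1 := fun e => by
    have := exact_unique S S.eu (show Exact z a u 1 by subst e; exact ⟨by simp, fun p => by simp⟩)
    revert this; decide
  set r := a 1 * u * a 1 with hr
  have hrr : r * r = 1 := by
    rw [hr, show a 1 * u * a 1 * (a 1 * u * a 1) = a 1 * u * (a 1 * a 1) * u * a 1 by group,
      S.pts.sq, mul_one, mul_assoc (a 1), S.uu, mul_one, S.pts.sq]
  have hr1 : r ≠ 1 := fun e => hu1 (by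
    calc u = (a 1 * a 1) * u * (a 1 * a 1) := by rw [S.pts.sq, one_mul, mul_one]
      _ = a 1 * r * a 1 := by rw [hr]; group
      _ = 1 := by rw [e, mul_one, S.pts.sq])
  obtain ⟨f, hf⟩ := isConj_iff.1 (S.hJ.one r z (orderOf_eq_prime (by rw [pow_two, hrr]) hr1)
    S.hJ.l.orderOf_z)
  have ho : orderOf o = 3 :=
    orderOf_eq_prime (by rw [pow_succ, pow_two]; exact O.o3) fun e => o_notMem S O (e ▸ one_mem _)
  set o2 := f * o * f⁻¹
  have ho2 : orderOf o2 = 3 := by
    rw [← ho]; exact MulEquiv.orderOf_eq (MulAut.conj f) o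
  have ho2z : o2 * z = z * o2 := by
    show f * o * f⁻¹ * z = z * (f * o * f⁻¹)
    rw [← hf]
    calc f * o * f⁻¹ * (f * r * f⁻¹) = f * (o * r) * f⁻¹ := by group
      _ = f * (r * o) * f⁻¹ := by rw [show o * r = r * o from O.oru]
      _ = f * r * f⁻¹ * (f * o * f⁻¹) := by group
  set H := centralizer ({z} : Set G)
  let xc : H := ⟨x, mem_centralizer_singleton_iff.2 S.ex.1⟩
  let yc : H := ⟨o2, mem_centralizer_singleton_iff.2 ho2z⟩
  have hc : ∀ w : H, orderOf w = 3 →
      Nat.card (zpowers w) = 3 ^ (Nat.card H).factorization 3 := by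
    intro w hw
    rw [Nat.card_zpowers, hw, card_H S.hJ, Nat.factorization_def _ Nat.prime_three,
      show (1920 : ℕ) = 3 ^ 1 * 640 by norm_num, padicValNat.mul (by norm_num) (by norm_num),
      padicValNat.prime_pow, padicValNat.eq_zero_of_not_dvd (by norm_num)]
    norm_num
  let T : Sylow 3 H := Sylow.ofCard (zpowers xc)
    (hc xc (by rw [← Subgroup.orderOf_coe]; exact ord_x S))
  let T' : Sylow 3 H := Sylow.ofCard (zpowers yc)
    (hc yc (by rw [← Subgroup.orderOf_coe]; exact ho2))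
  obtain ⟨g, hg⟩ := MulAction.exists_smul_eq H T T'
  have hm : yc ∈ ((g • T : Sylow 3 H) : Subgroup H) := by rw [hg]; exact mem_zpowers yc
  rw [Sylow.coe_subgroup_smul, Subgroup.mem_pointwise_smul_iff_inv_smul_mem] at hm
  have e : (MulAut.conj g)⁻¹ • yc = g⁻¹ * yc * g := by
    rw [← map_inv, MulAut.smul_def, MulAut.conj_apply, inv_inv]
  rw [e] at hm
  obtain ⟨n, hn⟩ := hm
  have hn' : x ^ n = (g : G)⁻¹ * o2 * g := congrArg Subtype.val hn
  have h3 : x ^ (n % 3) = x ^ n := by rw [← zpow_mod_orderOf x n, ord_x S]; rfl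
  rw [hn'] at h3
  rcases (show n % 3 = 0 ∨ n % 3 = 1 ∨ n % 3 = 2 by omega) with e' | e' | e' <;> rw [e'] at h3
  · exfalso
    have : o2 = 1 := by
      calc o2 = g * ((g : G)⁻¹ * o2 * g) * (g : G)⁻¹ := by group
        _ = 1 := by rw [← h3]; group
    rw [this, orderOf_one] at ho2
    omega
  · refine ⟨(g : G)⁻¹ * f, ?_⟩
    rw [zpow_one] at h3
    rw [h3]
    show _ = (g : G)⁻¹ * (f * o * f⁻¹) * g
    group
  · refine ⟨(gel u h)⁻¹ * (g : G)⁻¹ * f, ?_⟩
    have e2 : x ^ (2 : ℤ) = x⁻¹ := by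
      rw [zpow_two]; exact (inv_eq_of_mul_eq_one_left S.x3).symm
    rw [e2] at h3
    calc (gel u h)⁻¹ * (g : G)⁻¹ * f * o * ((gel u h)⁻¹ * (g : G)⁻¹ * f)⁻¹
        = (gel u h)⁻¹ * ((g : G)⁻¹ * (f * o * f⁻¹) * g) * gel u h := by group
      _ = ((gel u h)⁻¹ * x * gel u h)⁻¹ := by
          rw [show (g : G)⁻¹ * (f * o * f⁻¹) * g = x⁻¹ from h3.symm]; group
      _ = x := by rw [g_x' S, inv_inv]

set_option maxHeartbeats 2000000 in
/-- In the case of `A₆` the Sylow three-subgroups of `C(x)` are abelian. -/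
theorem comm_sylow_six (φ : ↥(centralizer ({x} : Set G)) →* ↥(alternatingGroup (Fin 6)))
    (hs : Function.Surjective φ) (hk : ∀ c, φ c = 1 ↔ (c : G) ∈ zpowers x) :
    ∃ P : Sylow 3 ↥(centralizer ({x} : Set G)), ∀ p ∈ (P : Subgroup ↥(centralizer ({x} : Set G))),
      ∀ q ∈ (P : Subgroup ↥(centralizer ({x} : Set G))),
      p * q = q * p := by
  classical
  haveI : Fact (Nat.Prime 3) := ⟨Nat.prime_three⟩
  revert φ
  set Cx := centralizer ({x} : Set G)
  intro φ hs hk
  have hcomm : ∀ w : Cx, (w : G) * x = x * w := fun w => mem_centralizer_singleton_iff.1 w.2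
  obtain ⟨d, hd⟩ := conj_o_x S O
  set x2 := d * x * d⁻¹ with hx2d
  have hx2x : x2 * x = x * x2 := by
    calc d * x * d⁻¹ * x = d * x * d⁻¹ * (d * o * d⁻¹) := by rw [hd]
      _ = d * (x * o) * d⁻¹ := by group
      _ = d * (o * x) * d⁻¹ := by rw [O.ox]
      _ = x * x2 := by rw [hx2d, ← hd]; group
  have hx23 : x2 * x2 * x2 = 1 := by
    rw [hx2d, show d * x * d⁻¹ * (d * x * d⁻¹) * (d * x * d⁻¹) = d * (x * x * x) * d⁻¹ by group,
      S.x3]; group
  have hx2n : x2 ∉ zpowers x := by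
    intro hm
    obtain ⟨n, hn⟩ := hm
    refine o_notMem S O ?_
    have h1 : o ^ n = x := by
      calc o ^ n = d⁻¹ * (d * o * d⁻¹) ^ n * d := by rw [conj_zpow]; group
        _ = x := by rw [hd, show x ^ n = x2 from hn, hx2d]; group
    have ho : orderOf o = 3 :=
      orderOf_eq_prime (by rw [pow_succ, pow_two]; exact O.o3)
        fun e => o_notMem S O (e ▸ one_mem _)
    have hle : zpowers x ≤ zpowers o := zpowers_le.2 ⟨n, h1⟩
    rw [eq_of_le_of_card_ge hle (by rw [Nat.card_zpowers, Nat.card_zpowers, ord_x S, ho])]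
    exact mem_zpowers o
  clear_value x2
  set x2c : Cx := cx x2 hx2x
  have h3c : IsPGroup 3 ↥(zpowers x2c) := by
    refine IsPGroup.of_card (n := 1) ?_
    rw [Nat.card_zpowers, pow_one, ← Subgroup.orderOf_coe]
    exact orderOf_eq_prime (by rw [pow_succ, pow_two]; exact hx23) fun e => hx2n (by
      rw [show x2 = 1 from e]; exact one_mem _)
  obtain ⟨P, hP⟩ := h3c.exists_le_sylow
  refine ⟨P, ?_⟩
  by_contra hab
  have hx2P : x2c ∈ (P : Subgroup Cx) := hP (mem_zpowers x2c)
  set xc : Cx := cx x rfl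
  have hxcen : ∀ w : Cx, Commute w xc := fun w => Subtype.ext (hcomm w)
  have hxP : xc ∈ (P : Subgroup Cx) := by
    haveI : (zpowers xc).Normal := ⟨fun n hn w => by
      obtain ⟨i, rfl⟩ := hn
      rw [((hxcen w).zpow_right i).eq, mul_inv_cancel_right]
      exact zpow_mem (mem_zpowers xc) i⟩
    exact IsPGroup.le_sylow_of_normal (IsPGroup.of_card (n := 1) (by
      rw [Nat.card_zpowers, pow_one, ← Subgroup.orderOf_coe]; exact ord_x S)) P (mem_zpowers xc)
  -- commutators of `P` lie in `⟨x⟩`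
  haveI : IsSimpleGroup ↥(alternatingGroup (Fin 6)) := alternatingGroup.isSimpleGroup (by simp)
  obtain ⟨R, hR⟩ := (P.2.map φ).exists_le_sylow
  have hcomP : ∀ p ∈ (P : Subgroup Cx), ∀ q ∈ (P : Subgroup Cx),
      ((p * q * p⁻¹ * q⁻¹ : Cx) : G) ∈ zpowers x := by
    intro p hp q hq
    rw [← hk, map_mul, map_mul, map_mul, map_inv, map_inv,
      Simple360.comm_sylow Simple360.card_alternating_six R (hR (mem_map_of_mem φ hp))
        (hR (mem_map_of_mem φ hq))]
    group
  -- some element of `P` does not commute with `x2`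
  obtain ⟨p, hp, hpx⟩ : ∃ p ∈ (P : Subgroup Cx), p * x2c ≠ x2c * p := by
    by_contra hall
    push Not at hall
    apply hab
    intro s hs' t ht
    set PS : Subgroup Cx := P.1
    have hcard : Nat.card Cx = 1080 := by
      rw [φ.ker.card_eq_card_quotient_mul_card_subgroup,
        Nat.card_congr (QuotientGroup.quotientKerEquivOfSurjective φ hs).toEquiv,
        Simple360.card_alternating_six, show φ.ker = zpowers xc from ?_, Nat.card_zpowers,
        ← Subgroup.orderOf_coe, show ((xc : Cx) : G) = x from rfl, ord_x S]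
      ext c
      rw [MonoidHom.mem_ker, hk]
      constructor
      · rintro ⟨i, hi⟩; exact ⟨i, Subtype.ext hi⟩
      · rintro ⟨i, rfl⟩; exact ⟨i, rfl⟩
    have h27 : Nat.card PS = 27 := by
      rw [show Nat.card PS = 3 ^ (Nat.card Cx).factorization 3 from P.card_eq_multiplicity, hcard,
        Nat.factorization_def _ Nat.prime_three,
        show (1080 : ℕ) = 3 ^ 3 * 40 by norm_num, padicValNat.mul (by norm_num) (by norm_num),
        padicValNat.prime_pow, padicValNat.eq_zero_of_not_dvd (by norm_num)]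
      norm_num
    let Zp : Subgroup PS := center PS
    let xp : PS := ⟨xc, hxP⟩
    have hxZ : xp ∈ Zp := mem_center_iff.2 fun w => Subtype.ext (hxcen w).eq
    have hx2Z : (⟨x2c, hx2P⟩ : PS) ∈ Zp := mem_center_iff.2 fun w => Subtype.ext (hall w w.2)
    have hcZ : Nat.card Zp = 9 ∨ Nat.card Zp = 27 := by
      have hd : Nat.card Zp ∣ 3 ^ 3 := by
        rw [show (3 : ℕ) ^ 3 = Nat.card PS by rw [h27]; norm_num]
        exact card_subgroup_dvd_card Zp
      have hx3 : Nat.card (zpowers xp) = 3 := by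
        rw [Nat.card_zpowers, ← Subgroup.orderOf_coe, ← Subgroup.orderOf_coe]; exact ord_x S
      have h3 : 3 < Nat.card Zp := by
        by_contra hle
        have e := eq_of_le_of_card_ge (zpowers_le.2 hxZ) (by omega)
        rw [← e] at hx2Z
        obtain ⟨i, hi⟩ := hx2Z
        exact hx2n ⟨i, congrArg (fun w : PS => ((w : Cx) : G)) hi⟩
      obtain ⟨i, hi, hi'⟩ := (Nat.dvd_prime_pow Nat.prime_three).1 hd
      interval_cases i <;> simp_all
    have hidx := Zp.index_mul_card
    haveI : IsCyclic (PS ⧸ Zp) := by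
      rcases hcZ with e | e
      · exact isCyclic_of_prime_card (p := 3) (by
          show Zp.index = 3
          rw [e, h27] at hidx; omega)
      · haveI : Subsingleton (PS ⧸ Zp) := (Nat.card_eq_one_iff_unique.1 (by
          show Zp.index = 1
          rw [e, h27] at hidx; omega)).1
        exact isCyclic_of_subsingleton
    exact congrArg Subtype.val (commutative_of_cyclic_center_quotient (QuotientGroup.mk' Zp)
      (by rw [QuotientGroup.ker_mk']) ⟨s, hs'⟩ ⟨t, ht⟩)
  set w0 : G := ((p * x2c * p⁻¹ * x2c⁻¹ : Cx) : G) with hw0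
  have hw0x : w0 ∈ zpowers x := hcomP p hp x2c hx2P
  have hw01 : w0 ≠ 1 := fun e => hpx (by
    have : (p * x2c * p⁻¹ * x2c⁻¹ : Cx) = 1 := Subtype.ext e
    calc p * x2c = (p * x2c * p⁻¹ * x2c⁻¹) * x2c * p := by group
      _ = _ := by rw [this, one_mul])
  have hgen : ∀ v ∈ zpowers x, ∃ n : ℕ, v = w0 ^ n := by
    intro v hv
    have e : zpowers w0 = zpowers x := by
      refine eq_of_le_of_card_ge (zpowers_le.2 hw0x) ?_
      rw [Nat.card_zpowers, Nat.card_zpowers, ord_x S, orderOf_eq_prime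
        (by rw [pow_succ, pow_two]; exact cube_of_mem S.x3 hw0x) hw01]
    rw [← e, ← mem_powers_iff_mem_zpowers] at hv
    obtain ⟨n, hn⟩ := hv
    exact ⟨n, hn.symm⟩
  have hpow : ∀ n : ℕ, (p : G) ^ n * x2 * ((p : G) ^ n)⁻¹ = w0 ^ n * x2 := by
    intro n
    induction n with
    | zero => simp
    | succ n ih =>
      have c1 : Commute (p : G) (w0 ^ n) := (mem_zpowers_comm (hcomm p) hw0x).pow_right n
      calc (p : G) ^ (n + 1) * x2 * ((p : G) ^ (n + 1))⁻¹
          = p * ((p : G) ^ n * x2 * ((p : G) ^ n)⁻¹) * (p : G)⁻¹ := by rw [pow_succ']; group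
        _ = ((p : G) * w0 ^ n) * x2 * (p : G)⁻¹ := by rw [ih]; group
        _ = w0 ^ n * ((p : G) * x2 * (p : G)⁻¹ * x2⁻¹) * x2 := by rw [c1.eq]; group
        _ = w0 ^ (n + 1) * x2 := by rw [pow_succ w0 n]; rfl
  -- an involution inverting the image of `x2`
  have hφx2 : φ x2c ≠ 1 := fun e => hx2n ((hk x2c).1 e : ((x2c : Cx) : G) ∈ zpowers x)
  obtain ⟨c, hc2, hc1, hci⟩ := J3SixFacts9.inverted (φ x2c)
    (by rw [← map_mul, ← map_mul, show x2c * x2c * x2c = 1 from Subtype.ext hx23, map_one]) hφx2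
  obtain ⟨w, rfl⟩ := hs c
  have hw2 : ((w * w : Cx) : G) ∈ zpowers x := (hk _).1 (by rw [map_mul, hc2])
  set ic : Cx := w * w * w
  have hi2 : (ic : G) * ic = 1 := invol_cube S.x3 hw2
  have hφi : φ ic = φ w := by rw [map_mul, map_mul, hc2, one_mul]
  set v := (ic : G) * x2 * (ic : G)⁻¹ * x2 with hvdef
  have hv : v ∈ zpowers x := by
    show ((ic * x2c * ic⁻¹ * x2c : Cx) : G) ∈ zpowers x
    rw [← hk, map_mul, map_mul, map_mul, map_inv, hφi, hci, inv_mul_cancel]
  clear_value v
  obtain ⟨n, hn⟩ := hgen v hv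
  set q := (p : G) ^ n
  have hq : q * x2 * q⁻¹ = v * x2 := by rw [hpow, hn]
  have hqx : q * x = x * q := ((show Commute (p : G) x from hcomm p).pow_left n).eq
  set j := q⁻¹ * (ic : G) * q with hj
  have hjj : j * j = 1 := by
    rw [hj, show q⁻¹ * (ic : G) * q * (q⁻¹ * ic * q) = q⁻¹ * ((ic : G) * ic) * q by group, hi2]
    group
  have hjx : j * x = x * j :=
    (((show Commute q x from hqx).inv_left.mul_left (hcomm ic)).mul_left hqx).eq
  have hjinv : j * x2 * j⁻¹ = x2⁻¹ := by
    have hvi : (ic : G) * v * (ic : G)⁻¹ = v := by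
      rw [(mem_zpowers_comm (hcomm ic) hv).eq, mul_inv_cancel_right]
    have hv3 := cube_of_mem S.x3 hv
    have hv2 : v * v = v⁻¹ := eq_inv_of_mul_eq_one_left hv3
    have hxv : Commute x2⁻¹ v⁻¹ := (mem_zpowers_comm hx2x hv).inv_inv
    calc j * x2 * j⁻¹ = q⁻¹ * ((ic : G) * (q * x2 * q⁻¹) * (ic : G)⁻¹) * q := by rw [hj]; group
      _ = q⁻¹ * (((ic : G) * v * (ic : G)⁻¹) * ((ic : G) * x2 * (ic : G)⁻¹)) * q := by
          rw [hq]; group
      _ = q⁻¹ * (v * (v * x2⁻¹)) * q := by
          rw [hvi, show (ic : G) * x2 * (ic : G)⁻¹ = v * x2⁻¹ by rw [hvdef]; group]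
      _ = q⁻¹ * (v * x2)⁻¹ * q := by rw [← mul_assoc v v, hv2, mul_inv_rev v x2, hxv.eq]
      _ = x2⁻¹ := by rw [← hq]; group
  -- pulled back, it conjugates `o` to its image under `gel u h` inside `C(x)`
  set i := d⁻¹ * j * d with hidef
  have hio : i * o = o * i := by
    calc d⁻¹ * j * d * o = d⁻¹ * (j * (d * o * d⁻¹)) * d := by group
      _ = d⁻¹ * ((d * o * d⁻¹) * j) * d := by rw [hd, hjx]
      _ = o * (d⁻¹ * j * d) := by group
  have hix : i * x * i⁻¹ = x⁻¹ := by
    calc i * x * i⁻¹ = d⁻¹ * (j * (d * x * d⁻¹) * j⁻¹) * d := by rw [hidef]; group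
      _ = x⁻¹ := by rw [← hx2d, hjinv, hx2d]; group
  set g := gel u h
  have hgix : g * i * x = x * (g * i) := by
    refine mul_inv_eq_iff_eq_mul.1 ?_
    calc g * i * x * (g * i)⁻¹ = g * (i * x * i⁻¹) * g⁻¹ := by group
      _ = (g * x * g⁻¹)⁻¹ := by rw [hix]; group
      _ = x := by rw [g_x S, inv_inv]
  set o' := g * o * g⁻¹
  have ho'x : o' * x = x * o' := cube_inv S O.ox
  set zc : Cx := cx z S.ex.1.symm
  set ac : Cx := cx (a 0) (x_a0 S).symm
  set bc : Cx := cx (a 1) (x_a1 S).symm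
  have key : ∀ w : Cx, (w : G) * w = 1 → (w : G) ≠ 1 → φ w * φ w = 1 ∧ φ w ≠ 1 := by
    intro w h2 h1
    refine ⟨by rw [← map_mul, show w * w = 1 from Subtype.ext h2, map_one], fun e => h1 ?_⟩
    have := cube_of_mem S.x3 ((hk w).1 e)
    rwa [h2, one_mul] at this
  have hne : ∀ r : Fin 5, z * a r ≠ 1 := fun r e =>
    (S.pts.ne r).2 (by rw [eq_inv_of_mul_eq_one_right e, inv_eq_of_mul_eq_one_right (zz S)])
  obtain ⟨hp2, hp1⟩ := key zc (zz S) S.hJ.l.ne_one
  obtain ⟨hq2, hq1⟩ := key (zc * ac) (za_sq S 0) (hne 0)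
  obtain ⟨hr2, hr1⟩ := key (zc * bc) (za_sq S 1) (hne 1)
  have cube : ∀ w : Cx, (w : G) * w * w = 1 → φ w * φ w * φ w = 1 := fun w h3 => by
    rw [← map_mul, ← map_mul, show w * w * w = 1 from Subtype.ext h3, map_one]
  refine J3SixFacts9.not_conj (p := φ zc) (q := φ (zc * ac)) (r := φ (zc * bc))
    (y := φ (cx o O.ox)) (y' := φ (cx o' ho'x)) (d := φ (cx (g * i) hgix))
    hp2 hp1 hq2 hq1 hr2 hr1 ?_ ?_ ?_ (cube _ O.o3) (fun e => o_notMem S O ((hk _).1 e))
    (cube _ ?_) (fun e => o_notMem S O ?_) ?_ ?_ ?_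
  · rw [← map_mul, ← map_mul]; exact congrArg φ (Subtype.ext (z_za S 0))
  · rw [← map_mul, ← map_mul]; exact congrArg φ (Subtype.ext (z_za S 1))
  · intro e
    apply hp1
    have e' : zc * bc * (zc * ac) = zc * (zc * ac * (zc * bc)) := by
      refine Subtype.ext ?_
      show z * a 1 * (z * a 0) = z * (z * a 0 * (z * a 1))
      have hz1 : a 1 * a 0 = z * (a 0 * a 1) := by
        rw [← mul_assoc, ← S.pts.anti 1 0 (by decide)]; group
      have eab : ∀ p r : Fin 5, z * a p * (z * a r) = a p * a r := fun p r => by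
        rw [mul_assoc z, ← mul_assoc (a p) z, az S, mul_assoc z (a p) (a r), ← mul_assoc z z,
          zz S, one_mul]
      rw [eab, eab, hz1]
    have h' := congrArg φ e'
    simp only [map_mul] at h' e ⊢
    rw [← e] at h'
    exact right_eq_mul.1 h'
  · show g * o * g⁻¹ * (g * o * g⁻¹) * (g * o * g⁻¹) = 1
    rw [show g * o * g⁻¹ * (g * o * g⁻¹) * (g * o * g⁻¹) = g * (o * o * o) * g⁻¹ by group, O.o3]
    group
  · obtain ⟨m, hm⟩ := (hk _).1 e
    replace hm : x ^ m = g * o * g⁻¹ := hm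
    refine ⟨-m, ?_⟩
    show x ^ (-m) = o
    calc x ^ (-m) = (g⁻¹ * x * g) ^ m := by rw [g_x' S, inv_zpow']
      _ = g⁻¹ * x ^ m * g := by rw [show g⁻¹ * x * g = g⁻¹ * x * g⁻¹⁻¹ by rw [inv_inv], conj_zpow,
          inv_inv]
      _ = o := by rw [hm]; group
  · rw [← map_inv, ← map_mul, ← map_mul]
    exact congrArg φ (Subtype.ext O.oz)
  · rw [← map_inv, ← map_mul, ← map_mul]
    refine congrArg φ (Subtype.ext ?_)
    show g * o * g⁻¹ * z * (g * o * g⁻¹)⁻¹ = z * a 1
    have ez : g⁻¹ * z * g = z := by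
      rw [mul_assoc, ← (g_exact S).1]; exact inv_mul_cancel_left _ _
    calc g * o * g⁻¹ * z * (g * o * g⁻¹)⁻¹ = g * (o * (g⁻¹ * z * g) * o⁻¹) * g⁻¹ := by group
      _ = (g * z * g⁻¹) * (g * a 0 * g⁻¹) := by rw [ez, O.oz]; group
      _ = z * a 1 := by rw [g_z S, g_a0 S]
  · rw [← map_inv, ← map_mul, ← map_mul]
    refine congrArg φ (Subtype.ext ?_)
    show g * i * o * (g * i)⁻¹ = g * o * g⁻¹
    rw [mul_assoc g i o, hio]
    group

/-- The data of `C(x)`. -/
theorem cent_data : ∃ (K : Type) (_ : Group K) (φ : ↥(centralizer ({x} : Set G)) →* K)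
    (χ : ↥(centralizer ({x} : Set G)) →* Multiplicative (ZMod 3)), CentData x u h φ χ ∧
      (Nonempty (K ≃* ↥(alternatingGroup (Fin 6))) ∨
        Nonempty (K ≃* Matrix.SpecialLinearGroup (Fin 3) (ZMod 2))) := by
  classical
  haveI : Fact (Nat.Prime 3) := ⟨Nat.prime_three⟩
  set Cx := centralizer ({x} : Set G)
  obtain ⟨K, hK, φ, hs, hk, hiso⟩ := exists_quot S O
  refine ⟨K, hK, φ, ?_⟩
  have hcomm : ∀ w : Cx, (w : G) * x = x * w := fun w => mem_centralizer_singleton_iff.1 w.2
  set xc : Cx := cx x rfl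
  have hxc : orderOf xc = 3 := by rw [← Subgroup.orderOf_coe]; exact ord_x S
  have hkk : φ.ker = zpowers xc := by
    ext c
    rw [MonoidHom.mem_ker, hk]
    constructor
    · rintro ⟨i, hi⟩; exact ⟨i, Subtype.ext hi⟩
    · rintro ⟨i, rfl⟩; exact ⟨i, rfl⟩
  have hperf : commutator K = ⊤ := by
    have transport : ∀ {L : Type} [Group L] (e : K ≃* L), commutator L = ⊤ →
        commutator K = ⊤ := by
      intro L _ e hL
      apply map_injective (f := e.toMonoidHom) e.injective
      rw [_root_.commutator_def, map_commutator, map_top_of_surjective _ e.surjective, ← _root_.commutator_def]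
      exact hL
    rcases hiso with ⟨⟨e⟩⟩ | ⟨⟨e⟩⟩
    · exact transport e (commutator_alternatingGroup_eq_top (by simp))
    · obtain ⟨h1, h2⟩ := Cfsg.Agent.S3035.sl32
      haveI := h1
      exact transport e (perfect_of_simple (by rw [h2]; norm_num))
  obtain ⟨P, hP⟩ : ∃ P : Sylow 3 Cx, ∀ p ∈ (P : Subgroup Cx), ∀ q ∈ (P : Subgroup Cx),
      p * q = q * p := by
    rcases hiso with ⟨⟨e⟩⟩ | ⟨⟨e⟩⟩
    · exact comm_sylow_six S O (e.toMonoidHom.comp φ) (e.surjective.comp hs) fun c => by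
        rw [← hk]; exact e.map_eq_one_iff
    · let P : Sylow 3 Cx := default
      have hcard : Nat.card Cx = 504 := by
        rw [φ.ker.card_eq_card_quotient_mul_card_subgroup,
          Nat.card_congr (QuotientGroup.quotientKerEquivOfSurjective φ hs).toEquiv,
          Nat.card_congr e.toEquiv, Cfsg.Agent.S3035.sl32.2, hkk, Nat.card_zpowers, hxc]
      have h9 : Nat.card P = 3 ^ 2 := by
        rw [P.card_eq_multiplicity, hcard, Nat.factorization_def _ Nat.prime_three,
          show (504 : ℕ) = 3 ^ 2 * 56 by norm_num, padicValNat.mul (by norm_num) (by norm_num),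
          padicValNat.prime_pow, padicValNat.eq_zero_of_not_dvd (by norm_num)]
      exact ⟨P, fun p hp q hq => congrArg Subtype.val
        (IsPGroup.commutative_of_card_eq_prime_sq h9 ⟨p, hp⟩ ⟨q, hq⟩)⟩
  set PS : Subgroup Cx := P.1
  letI : CommGroup ↥PS :=
    { (inferInstance : Group ↥PS) with
      mul_comm := fun p q => Subtype.ext (hP p p.2 q q.2) }
  let ψ : Cx →* ↥PS := MonoidHom.transfer (MonoidHom.id ↥PS)
  have hxψ : ψ xc ≠ 1 := by
    intro e
    rw [MonoidHom.transfer_eq_pow _ xc (fun k g₀ _ => by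
      rw [mul_assoc, ((show Commute g₀ xc from Subtype.ext (hcomm g₀)).pow_right k).symm.eq,
        inv_mul_cancel_left])] at e
    have e' : xc ^ PS.index = 1 := congrArg Subtype.val e
    have hd := orderOf_dvd_of_pow_eq_one e'
    rw [hxc] at hd
    exact P.not_dvd_index hd
  set t : Abelianization Cx := Abelianization.of xc
  have ht : orderOf t = 3 := by
    refine orderOf_eq_prime ?_ fun e => hxψ ?_
    · rw [← map_pow, ← hxc, pow_orderOf_eq_one, map_one]
    · rw [← Abelianization.lift_apply_of ψ xc]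
      rw [show Abelianization.of xc = (1 : Abelianization Cx) from e, map_one]
  have hgen : ∀ w : Abelianization Cx, w ∈ zpowers t := by
    intro w
    obtain ⟨c, rfl⟩ : ∃ c, Abelianization.of c = w := QuotientGroup.mk_surjective w
    have hm : φ c ∈ (commutator Cx).map φ := by
      rw [_root_.commutator_def, map_commutator, map_top_of_surjective _ hs, ← _root_.commutator_def, hperf]
      trivial
    obtain ⟨d, hd, hdc⟩ := hm
    have hn : d⁻¹ * c ∈ zpowers xc := by
      rw [← hkk, MonoidHom.mem_ker, map_mul, map_inv, hdc, inv_mul_cancel]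
    obtain ⟨i, hi⟩ := hn
    refine ⟨i, ?_⟩
    show t ^ i = _
    rw [← map_zpow, show xc ^ i = d⁻¹ * c from hi, map_mul, map_inv,
      show Abelianization.of d = (1 : Abelianization Cx) from
        (QuotientGroup.eq_one_iff d).2 hd, inv_one, one_mul]
  have ht' : orderOf (Multiplicative.ofAdd (1 : ZMod 3)) ∣ orderOf t := by
    rw [ht]
    rw [orderOf_ofAdd_eq_addOrderOf, ZMod.addOrderOf_one]
  let χ : Cx →* Multiplicative (ZMod 3) :=
    (monoidHomOfForallMemZpowers hgen ht').comp Abelianization.of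
  have hχx : χ xc = Multiplicative.ofAdd 1 := monoidHomOfForallMemZpowers_apply_gen hgen ht'
  refine ⟨χ, ⟨hs, hk, fun c hc => by rw [show c = xc from Subtype.ext hc, hχx], ?_⟩, hiso⟩
  intro c d hd
  let γ : Cx →* Cx := MonoidHom.mk'
    (fun w => cx (gel u h * (w : G) * (gel u h)⁻¹) (cube_inv S (hcomm w)))
    fun w w' => Subtype.ext (by
      show gel u h * ((w * w' : Cx) : G) * (gel u h)⁻¹ = _ * (gel u h * (w' : G) * (gel u h)⁻¹)
      rw [Subgroup.coe_mul]
      show _ = gel u h * (w : G) * (gel u h)⁻¹ * _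
      group)
  let η : Cx →* Multiplicative (ZMod 3) := χ.comp γ * χ
  have hη : η c = 1 := by
    obtain ⟨i, hi⟩ := hgen (Abelianization.of c)
    rw [← Abelianization.lift_apply_of η c, ← (show t ^ i = Abelianization.of c from hi),
      map_zpow, Abelianization.lift_apply_of]
    have hγ : γ xc = xc⁻¹ := Subtype.ext (g_x S)
    show (χ (γ xc) * χ xc) ^ i = 1
    rw [hγ, map_inv, inv_mul_cancel, one_zpow]
  rw [show d = γ c from Subtype.ext hd]
  exact eq_inv_of_mul_eq_one_left hη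

end

end Cfsg.Agent.J3CentX9
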