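import Cfsg.Agent.Lib.J3Cert24BC0
import Cfsg.Agent.Lib.J3Cert24BC1
import Cfsg.Agent.Lib.J3Cert24BP0

/-! The subgroup of order 8160 over the trivial group. -/

set_option autoImplicit false
set_option maxRecDepth 100000
set_option maxHeartbeats 0
set_option Elab.async false

namespace Cfsg.Agent.J3Cert24B

open Cfsg.Agent.CosetCertCore Cfsg.Agent.CosetCertTable Cfsg.Agent.CosetCertFlip66
open Cfsg.Agent.J3Cert24BData

/-- The facts hold up to `n`. -/
def Valid (n : Nat) : Prop :=
  ∀ {G X : Type} [Group G] [MulAction G X] (g : Nat → G) (base : X),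
    CosetCertFlip66.Ctx g base cert → AllValid g (nodeVal g base cert) cert n

theorem Valid.step {lo n : Nat} (h : Valid lo) (L : List Nat)
    (hn : (Nat.beq (lo + L.length) n && CosetCertFlip66.checkList cert L lo) = true) : Valid n := by
  rw [Bool.and_eq_true, Nat.beq_eq] at hn
  intro G X _ _ g base hC
  exact hn.1 ▸ CosetCertFlip66.checkList_sound g base hC L lo (h g base hC) hn.2

theorem valid0 : Valid 0 := fun _ _ _ _ h => absurd h (Nat.not_lt_zero _)

theorem valid1 : Valid 256 :=
  valid0.step J3Cert24BC0.just0 J3Cert24BC0.check0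

theorem valid2 : Valid 512 :=
  valid1.step J3Cert24BC0.just1 J3Cert24BC0.check1

theorem valid3 : Valid 768 :=
  valid2.step J3Cert24BC0.just2 J3Cert24BC0.check2

theorem valid4 : Valid 1024 :=
  valid3.step J3Cert24BC0.just3 J3Cert24BC0.check3

theorem valid5 : Valid 1280 :=
  valid4.step J3Cert24BC0.just4 J3Cert24BC0.check4

theorem valid6 : Valid 1536 :=
  valid5.step J3Cert24BC0.just5 J3Cert24BC0.check5

theorem valid7 : Valid 1792 :=
  valid6.step J3Cert24BC0.just6 J3Cert24BC0.check6

theorem valid8 : Valid 2048 :=
  valid7.step J3Cert24BC0.just7 J3Cert24BC0.check7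

theorem valid9 : Valid 2304 :=
  valid8.step J3Cert24BC0.just8 J3Cert24BC0.check8

theorem valid10 : Valid 2560 :=
  valid9.step J3Cert24BC0.just9 J3Cert24BC0.check9

theorem valid11 : Valid 2816 :=
  valid10.step J3Cert24BC0.just10 J3Cert24BC0.check10

theorem valid12 : Valid 3072 :=
  valid11.step J3Cert24BC0.just11 J3Cert24BC0.check11

theorem valid13 : Valid 3328 :=
  valid12.step J3Cert24BC0.just12 J3Cert24BC0.check12

theorem valid14 : Valid 3584 :=
  valid13.step J3Cert24BC0.just13 J3Cert24BC0.check13

theorem valid15 : Valid 3840 :=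
  valid14.step J3Cert24BC0.just14 J3Cert24BC0.check14

theorem valid16 : Valid 4096 :=
  valid15.step J3Cert24BC0.just15 J3Cert24BC0.check15

theorem valid17 : Valid 4352 :=
  valid16.step J3Cert24BC0.just16 J3Cert24BC0.check16

theorem valid18 : Valid 4608 :=
  valid17.step J3Cert24BC0.just17 J3Cert24BC0.check17

theorem valid19 : Valid 4864 :=
  valid18.step J3Cert24BC0.just18 J3Cert24BC0.check18

theorem valid20 : Valid 5120 :=
  valid19.step J3Cert24BC0.just19 J3Cert24BC0.check19

theorem valid21 : Valid 5376 :=
  valid20.step J3Cert24BC0.just20 J3Cert24BC0.check20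

theorem valid22 : Valid 5632 :=
  valid21.step J3Cert24BC0.just21 J3Cert24BC0.check21

theorem valid23 : Valid 5888 :=
  valid22.step J3Cert24BC0.just22 J3Cert24BC0.check22

theorem valid24 : Valid 6144 :=
  valid23.step J3Cert24BC0.just23 J3Cert24BC0.check23

theorem valid25 : Valid 6400 :=
  valid24.step J3Cert24BC0.just24 J3Cert24BC0.check24

theorem valid26 : Valid 6656 :=
  valid25.step J3Cert24BC0.just25 J3Cert24BC0.check25

theorem valid27 : Valid 6912 :=
  valid26.step J3Cert24BC0.just26 J3Cert24BC0.check26

theorem valid28 : Valid 7168 :=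
  valid27.step J3Cert24BC0.just27 J3Cert24BC0.check27

theorem valid29 : Valid 7424 :=
  valid28.step J3Cert24BC0.just28 J3Cert24BC0.check28

theorem valid30 : Valid 7680 :=
  valid29.step J3Cert24BC0.just29 J3Cert24BC0.check29

theorem valid31 : Valid 7936 :=
  valid30.step J3Cert24BC0.just30 J3Cert24BC0.check30

theorem valid32 : Valid 8192 :=
  valid31.step J3Cert24BC0.just31 J3Cert24BC0.check31

theorem valid33 : Valid 8448 :=
  valid32.step J3Cert24BC0.just32 J3Cert24BC0.check32

theorem valid34 : Valid 8704 :=
  valid33.step J3Cert24BC0.just33 J3Cert24BC0.check33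

theorem valid35 : Valid 8960 :=
  valid34.step J3Cert24BC0.just34 J3Cert24BC0.check34

theorem valid36 : Valid 9216 :=
  valid35.step J3Cert24BC0.just35 J3Cert24BC0.check35

theorem valid37 : Valid 9472 :=
  valid36.step J3Cert24BC0.just36 J3Cert24BC0.check36

theorem valid38 : Valid 9728 :=
  valid37.step J3Cert24BC0.just37 J3Cert24BC0.check37

theorem valid39 : Valid 9984 :=
  valid38.step J3Cert24BC0.just38 J3Cert24BC0.check38

theorem valid40 : Valid 10240 :=
  valid39.step J3Cert24BC0.just39 J3Cert24BC0.check39

theorem valid41 : Valid 10496 :=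
  valid40.step J3Cert24BC0.just40 J3Cert24BC0.check40

theorem valid42 : Valid 10752 :=
  valid41.step J3Cert24BC0.just41 J3Cert24BC0.check41

theorem valid43 : Valid 11008 :=
  valid42.step J3Cert24BC0.just42 J3Cert24BC0.check42

theorem valid44 : Valid 11264 :=
  valid43.step J3Cert24BC0.just43 J3Cert24BC0.check43

theorem valid45 : Valid 11520 :=
  valid44.step J3Cert24BC0.just44 J3Cert24BC0.check44

theorem valid46 : Valid 11776 :=
  valid45.step J3Cert24BC0.just45 J3Cert24BC0.check45

theorem valid47 : Valid 12032 :=
  valid46.step J3Cert24BC0.just46 J3Cert24BC0.check46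

theorem valid48 : Valid 12288 :=
  valid47.step J3Cert24BC0.just47 J3Cert24BC0.check47

theorem valid49 : Valid 12544 :=
  valid48.step J3Cert24BC0.just48 J3Cert24BC0.check48

theorem valid50 : Valid 12800 :=
  valid49.step J3Cert24BC0.just49 J3Cert24BC0.check49

theorem valid51 : Valid 13056 :=
  valid50.step J3Cert24BC0.just50 J3Cert24BC0.check50

theorem valid52 : Valid 13312 :=
  valid51.step J3Cert24BC0.just51 J3Cert24BC0.check51

theorem valid53 : Valid 13568 :=
  valid52.step J3Cert24BC0.just52 J3Cert24BC0.check52

theorem valid54 : Valid 13824 :=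
  valid53.step J3Cert24BC0.just53 J3Cert24BC0.check53

theorem valid55 : Valid 14080 :=
  valid54.step J3Cert24BC0.just54 J3Cert24BC0.check54

theorem valid56 : Valid 14336 :=
  valid55.step J3Cert24BC0.just55 J3Cert24BC0.check55

theorem valid57 : Valid 14592 :=
  valid56.step J3Cert24BC0.just56 J3Cert24BC0.check56

theorem valid58 : Valid 14848 :=
  valid57.step J3Cert24BC0.just57 J3Cert24BC0.check57

theorem valid59 : Valid 15104 :=
  valid58.step J3Cert24BC0.just58 J3Cert24BC0.check58

theorem valid60 : Valid 15360 :=
  valid59.step J3Cert24BC0.just59 J3Cert24BC0.check59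

theorem valid61 : Valid 15616 :=
  valid60.step J3Cert24BC0.just60 J3Cert24BC0.check60

theorem valid62 : Valid 15872 :=
  valid61.step J3Cert24BC0.just61 J3Cert24BC0.check61

theorem valid63 : Valid 16128 :=
  valid62.step J3Cert24BC0.just62 J3Cert24BC0.check62

theorem valid64 : Valid 16384 :=
  valid63.step J3Cert24BC0.just63 J3Cert24BC0.check63

theorem valid65 : Valid 16640 :=
  valid64.step J3Cert24BC0.just64 J3Cert24BC0.check64

theorem valid66 : Valid 16896 :=
  valid65.step J3Cert24BC0.just65 J3Cert24BC0.check65

theorem valid67 : Valid 17152 :=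
  valid66.step J3Cert24BC0.just66 J3Cert24BC0.check66

theorem valid68 : Valid 17408 :=
  valid67.step J3Cert24BC0.just67 J3Cert24BC0.check67

theorem valid69 : Valid 17664 :=
  valid68.step J3Cert24BC0.just68 J3Cert24BC0.check68

theorem valid70 : Valid 17920 :=
  valid69.step J3Cert24BC0.just69 J3Cert24BC0.check69

theorem valid71 : Valid 18176 :=
  valid70.step J3Cert24BC0.just70 J3Cert24BC0.check70

theorem valid72 : Valid 18432 :=
  valid71.step J3Cert24BC0.just71 J3Cert24BC0.check71

theorem valid73 : Valid 18688 :=
  valid72.step J3Cert24BC0.just72 J3Cert24BC0.check72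

theorem valid74 : Valid 18944 :=
  valid73.step J3Cert24BC0.just73 J3Cert24BC0.check73

theorem valid75 : Valid 19200 :=
  valid74.step J3Cert24BC0.just74 J3Cert24BC0.check74

theorem valid76 : Valid 19456 :=
  valid75.step J3Cert24BC0.just75 J3Cert24BC0.check75

theorem valid77 : Valid 19712 :=
  valid76.step J3Cert24BC0.just76 J3Cert24BC0.check76

theorem valid78 : Valid 19968 :=
  valid77.step J3Cert24BC0.just77 J3Cert24BC0.check77

theorem valid79 : Valid 20224 :=
  valid78.step J3Cert24BC0.just78 J3Cert24BC0.check78

theorem valid80 : Valid 20480 :=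
  valid79.step J3Cert24BC0.just79 J3Cert24BC0.check79

theorem valid81 : Valid 20736 :=
  valid80.step J3Cert24BC1.just80 J3Cert24BC1.check80

theorem valid82 : Valid 20992 :=
  valid81.step J3Cert24BC1.just81 J3Cert24BC1.check81

theorem valid83 : Valid 21248 :=
  valid82.step J3Cert24BC1.just82 J3Cert24BC1.check82

theorem valid84 : Valid 21504 :=
  valid83.step J3Cert24BC1.just83 J3Cert24BC1.check83

theorem valid85 : Valid 21760 :=
  valid84.step J3Cert24BC1.just84 J3Cert24BC1.check84

theorem valid86 : Valid 22016 :=
  valid85.step J3Cert24BC1.just85 J3Cert24BC1.check85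

theorem valid87 : Valid 22272 :=
  valid86.step J3Cert24BC1.just86 J3Cert24BC1.check86

theorem valid88 : Valid 22528 :=
  valid87.step J3Cert24BC1.just87 J3Cert24BC1.check87

theorem valid89 : Valid 22784 :=
  valid88.step J3Cert24BC1.just88 J3Cert24BC1.check88

theorem valid90 : Valid 23040 :=
  valid89.step J3Cert24BC1.just89 J3Cert24BC1.check89

theorem valid91 : Valid 23296 :=
  valid90.step J3Cert24BC1.just90 J3Cert24BC1.check90

theorem valid92 : Valid 23552 :=
  valid91.step J3Cert24BC1.just91 J3Cert24BC1.check91

theorem valid93 : Valid 23808 :=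
  valid92.step J3Cert24BC1.just92 J3Cert24BC1.check92

theorem valid94 : Valid 24064 :=
  valid93.step J3Cert24BC1.just93 J3Cert24BC1.check93

theorem valid95 : Valid 24320 :=
  valid94.step J3Cert24BC1.just94 J3Cert24BC1.check94

theorem valid96 : Valid 24576 :=
  valid95.step J3Cert24BC1.just95 J3Cert24BC1.check95

theorem valid97 : Valid 24832 :=
  valid96.step J3Cert24BC1.just96 J3Cert24BC1.check96

theorem valid98 : Valid 25088 :=
  valid97.step J3Cert24BC1.just97 J3Cert24BC1.check97

theorem valid99 : Valid 25344 :=
  valid98.step J3Cert24BC1.just98 J3Cert24BC1.check98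

theorem valid100 : Valid 25600 :=
  valid99.step J3Cert24BC1.just99 J3Cert24BC1.check99

theorem valid101 : Valid 25856 :=
  valid100.step J3Cert24BC1.just100 J3Cert24BC1.check100

theorem valid102 : Valid 26112 :=
  valid101.step J3Cert24BC1.just101 J3Cert24BC1.check101

theorem valid103 : Valid 26368 :=
  valid102.step J3Cert24BC1.just102 J3Cert24BC1.check102

theorem valid104 : Valid 26624 :=
  valid103.step J3Cert24BC1.just103 J3Cert24BC1.check103

theorem valid105 : Valid 26880 :=
  valid104.step J3Cert24BC1.just104 J3Cert24BC1.check104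

theorem valid106 : Valid 27136 :=
  valid105.step J3Cert24BC1.just105 J3Cert24BC1.check105

theorem valid107 : Valid 27392 :=
  valid106.step J3Cert24BC1.just106 J3Cert24BC1.check106

theorem valid108 : Valid 27648 :=
  valid107.step J3Cert24BC1.just107 J3Cert24BC1.check107

theorem valid109 : Valid 27904 :=
  valid108.step J3Cert24BC1.just108 J3Cert24BC1.check108

theorem valid110 : Valid 28160 :=
  valid109.step J3Cert24BC1.just109 J3Cert24BC1.check109

theorem valid111 : Valid 28416 :=
  valid110.step J3Cert24BC1.just110 J3Cert24BC1.check110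

theorem valid112 : Valid 28672 :=
  valid111.step J3Cert24BC1.just111 J3Cert24BC1.check111

theorem valid113 : Valid 28928 :=
  valid112.step J3Cert24BC1.just112 J3Cert24BC1.check112

theorem valid114 : Valid 29184 :=
  valid113.step J3Cert24BC1.just113 J3Cert24BC1.check113

theorem valid115 : Valid 29440 :=
  valid114.step J3Cert24BC1.just114 J3Cert24BC1.check114

theorem valid116 : Valid 29696 :=
  valid115.step J3Cert24BC1.just115 J3Cert24BC1.check115

theorem valid117 : Valid 29765 :=
  valid116.step J3Cert24BC1.just116 J3Cert24BC1.check116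

theorem points0 : AllBelow (edgesOk cert 29765 table) 0 := AllBelow.zero _

theorem points1 : AllBelow (edgesOk cert 29765 table) 256 :=
  AllBelow.step points0 256 J3Cert24BP0.points0

theorem points2 : AllBelow (edgesOk cert 29765 table) 512 :=
  AllBelow.step points1 256 J3Cert24BP0.points1

theorem points3 : AllBelow (edgesOk cert 29765 table) 768 :=
  AllBelow.step points2 256 J3Cert24BP0.points2

theorem points4 : AllBelow (edgesOk cert 29765 table) 1024 :=
  AllBelow.step points3 256 J3Cert24BP0.points3

theorem points5 : AllBelow (edgesOk cert 29765 table) 1280 :=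
  AllBelow.step points4 256 J3Cert24BP0.points4

theorem points6 : AllBelow (edgesOk cert 29765 table) 1536 :=
  AllBelow.step points5 256 J3Cert24BP0.points5

theorem points7 : AllBelow (edgesOk cert 29765 table) 1792 :=
  AllBelow.step points6 256 J3Cert24BP0.points6

theorem points8 : AllBelow (edgesOk cert 29765 table) 2048 :=
  AllBelow.step points7 256 J3Cert24BP0.points7

theorem points9 : AllBelow (edgesOk cert 29765 table) 2304 :=
  AllBelow.step points8 256 J3Cert24BP0.points8

theorem points10 : AllBelow (edgesOk cert 29765 table) 2560 :=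
  AllBelow.step points9 256 J3Cert24BP0.points9

theorem points11 : AllBelow (edgesOk cert 29765 table) 2816 :=
  AllBelow.step points10 256 J3Cert24BP0.points10

theorem points12 : AllBelow (edgesOk cert 29765 table) 3072 :=
  AllBelow.step points11 256 J3Cert24BP0.points11

theorem points13 : AllBelow (edgesOk cert 29765 table) 3328 :=
  AllBelow.step points12 256 J3Cert24BP0.points12

theorem points14 : AllBelow (edgesOk cert 29765 table) 3584 :=
  AllBelow.step points13 256 J3Cert24BP0.points13

theorem points15 : AllBelow (edgesOk cert 29765 table) 3840 :=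
  AllBelow.step points14 256 J3Cert24BP0.points14

theorem points16 : AllBelow (edgesOk cert 29765 table) 4096 :=
  AllBelow.step points15 256 J3Cert24BP0.points15

theorem points17 : AllBelow (edgesOk cert 29765 table) 4352 :=
  AllBelow.step points16 256 J3Cert24BP0.points16

theorem points18 : AllBelow (edgesOk cert 29765 table) 4608 :=
  AllBelow.step points17 256 J3Cert24BP0.points17

theorem points19 : AllBelow (edgesOk cert 29765 table) 4864 :=
  AllBelow.step points18 256 J3Cert24BP0.points18

theorem points20 : AllBelow (edgesOk cert 29765 table) 5120 :=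
  AllBelow.step points19 256 J3Cert24BP0.points19

theorem points21 : AllBelow (edgesOk cert 29765 table) 5376 :=
  AllBelow.step points20 256 J3Cert24BP0.points20

theorem points22 : AllBelow (edgesOk cert 29765 table) 5632 :=
  AllBelow.step points21 256 J3Cert24BP0.points21

theorem points23 : AllBelow (edgesOk cert 29765 table) 5888 :=
  AllBelow.step points22 256 J3Cert24BP0.points22

theorem points24 : AllBelow (edgesOk cert 29765 table) 6144 :=
  AllBelow.step points23 256 J3Cert24BP0.points23

theorem points25 : AllBelow (edgesOk cert 29765 table) 6400 :=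
  AllBelow.step points24 256 J3Cert24BP0.points24

theorem points26 : AllBelow (edgesOk cert 29765 table) 6656 :=
  AllBelow.step points25 256 J3Cert24BP0.points25

theorem points27 : AllBelow (edgesOk cert 29765 table) 6912 :=
  AllBelow.step points26 256 J3Cert24BP0.points26

theorem points28 : AllBelow (edgesOk cert 29765 table) 7168 :=
  AllBelow.step points27 256 J3Cert24BP0.points27

theorem points29 : AllBelow (edgesOk cert 29765 table) 7424 :=
  AllBelow.step points28 256 J3Cert24BP0.points28

theorem points30 : AllBelow (edgesOk cert 29765 table) 7680 :=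
  AllBelow.step points29 256 J3Cert24BP0.points29

theorem points31 : AllBelow (edgesOk cert 29765 table) 7936 :=
  AllBelow.step points30 256 J3Cert24BP0.points30

theorem points32 : AllBelow (edgesOk cert 29765 table) 8160 :=
  AllBelow.step points31 224 J3Cert24BP0.points31

/-- The certificate is checked. -/
theorem closed : Closed cert 29765 table where
  npos := by decide +kernel
  node0 := by decide +kernel
  flipClosed := by decide +kernel
  edges := points32
  facts := fun g base h => valid117 g base h

end Cfsg.Agent.J3Cert24B
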