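import Cfsg.Agent.Lib.J3Cert24HC0
import Cfsg.Agent.Lib.J3Cert24HC1
import Cfsg.Agent.Lib.J3Cert24HC2
import Cfsg.Agent.Lib.J3Cert24HC3
import Cfsg.Agent.Lib.J3Cert24HC4
import Cfsg.Agent.Lib.J3Cert24HC5
import Cfsg.Agent.Lib.J3Cert24HC6
import Cfsg.Agent.Lib.J3Cert24HC7
import Cfsg.Agent.Lib.J3Cert24HC8
import Cfsg.Agent.Lib.J3Cert24HC9
import Cfsg.Agent.Lib.J3Cert24HC10
import Cfsg.Agent.Lib.J3Cert24HC11

/-! Partial enumeration over the centralizer of an involution. -/

set_option autoImplicit false
set_option maxRecDepth 100000
set_option maxHeartbeats 0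
set_option Elab.async false

namespace Cfsg.Agent.J3Cert24H

open Cfsg.Agent.CosetCertCore Cfsg.Agent.CosetCertTable Cfsg.Agent.CosetCertFlip66
open Cfsg.Agent.J3Cert24HData

/-- The facts hold up to `n`. -/
def Valid (n : Nat) : Prop :=
  ∀ {G X : Type} [Group G] [MulAction G X] (g : Nat → G) (base : X),
    CosetCertFlip66.Ctx g base cert → AllValid g (nodeVal g base cert) cert n

theorem Valid.step {lo n : Nat} (h : Valid lo) (L : List Nat)
    (hn : (Nat.beq (lo + L.length) n && CosetCertFlip66.checkList cert L lo) = true) : Valid n := by
  rw [Bool.and_eq_true, Nat.beq_eq] at hn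
  intro G X _ _ g base hC
  exact hn.1 ▸ CosetCertFlip66.checkList_sound g base hC L lo (h g base hC) hn.2

theorem valid0 : Valid 0 := fun _ _ _ _ h => absurd h (Nat.not_lt_zero _)

theorem valid1 : Valid 256 :=
  valid0.step J3Cert24HC0.just0 J3Cert24HC0.check0

theorem valid2 : Valid 512 :=
  valid1.step J3Cert24HC0.just1 J3Cert24HC0.check1

theorem valid3 : Valid 768 :=
  valid2.step J3Cert24HC0.just2 J3Cert24HC0.check2

theorem valid4 : Valid 1024 :=
  valid3.step J3Cert24HC0.just3 J3Cert24HC0.check3

theorem valid5 : Valid 1280 :=
  valid4.step J3Cert24HC0.just4 J3Cert24HC0.check4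

theorem valid6 : Valid 1536 :=
  valid5.step J3Cert24HC0.just5 J3Cert24HC0.check5

theorem valid7 : Valid 1792 :=
  valid6.step J3Cert24HC0.just6 J3Cert24HC0.check6

theorem valid8 : Valid 2048 :=
  valid7.step J3Cert24HC0.just7 J3Cert24HC0.check7

theorem valid9 : Valid 2304 :=
  valid8.step J3Cert24HC0.just8 J3Cert24HC0.check8

theorem valid10 : Valid 2560 :=
  valid9.step J3Cert24HC0.just9 J3Cert24HC0.check9

theorem valid11 : Valid 2816 :=
  valid10.step J3Cert24HC0.just10 J3Cert24HC0.check10

theorem valid12 : Valid 3072 :=
  valid11.step J3Cert24HC0.just11 J3Cert24HC0.check11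

theorem valid13 : Valid 3328 :=
  valid12.step J3Cert24HC0.just12 J3Cert24HC0.check12

theorem valid14 : Valid 3584 :=
  valid13.step J3Cert24HC0.just13 J3Cert24HC0.check13

theorem valid15 : Valid 3840 :=
  valid14.step J3Cert24HC0.just14 J3Cert24HC0.check14

theorem valid16 : Valid 4096 :=
  valid15.step J3Cert24HC0.just15 J3Cert24HC0.check15

theorem valid17 : Valid 4352 :=
  valid16.step J3Cert24HC0.just16 J3Cert24HC0.check16

theorem valid18 : Valid 4608 :=
  valid17.step J3Cert24HC0.just17 J3Cert24HC0.check17

theorem valid19 : Valid 4864 :=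
  valid18.step J3Cert24HC0.just18 J3Cert24HC0.check18

theorem valid20 : Valid 5120 :=
  valid19.step J3Cert24HC0.just19 J3Cert24HC0.check19

theorem valid21 : Valid 5376 :=
  valid20.step J3Cert24HC0.just20 J3Cert24HC0.check20

theorem valid22 : Valid 5632 :=
  valid21.step J3Cert24HC0.just21 J3Cert24HC0.check21

theorem valid23 : Valid 5888 :=
  valid22.step J3Cert24HC0.just22 J3Cert24HC0.check22

theorem valid24 : Valid 6144 :=
  valid23.step J3Cert24HC0.just23 J3Cert24HC0.check23

theorem valid25 : Valid 6400 :=
  valid24.step J3Cert24HC0.just24 J3Cert24HC0.check24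

theorem valid26 : Valid 6656 :=
  valid25.step J3Cert24HC0.just25 J3Cert24HC0.check25

theorem valid27 : Valid 6912 :=
  valid26.step J3Cert24HC0.just26 J3Cert24HC0.check26

theorem valid28 : Valid 7168 :=
  valid27.step J3Cert24HC0.just27 J3Cert24HC0.check27

theorem valid29 : Valid 7424 :=
  valid28.step J3Cert24HC0.just28 J3Cert24HC0.check28

theorem valid30 : Valid 7680 :=
  valid29.step J3Cert24HC0.just29 J3Cert24HC0.check29

theorem valid31 : Valid 7936 :=
  valid30.step J3Cert24HC0.just30 J3Cert24HC0.check30

theorem valid32 : Valid 8192 :=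
  valid31.step J3Cert24HC0.just31 J3Cert24HC0.check31

theorem valid33 : Valid 8448 :=
  valid32.step J3Cert24HC0.just32 J3Cert24HC0.check32

theorem valid34 : Valid 8704 :=
  valid33.step J3Cert24HC0.just33 J3Cert24HC0.check33

theorem valid35 : Valid 8960 :=
  valid34.step J3Cert24HC0.just34 J3Cert24HC0.check34

theorem valid36 : Valid 9216 :=
  valid35.step J3Cert24HC0.just35 J3Cert24HC0.check35

theorem valid37 : Valid 9472 :=
  valid36.step J3Cert24HC0.just36 J3Cert24HC0.check36

theorem valid38 : Valid 9728 :=
  valid37.step J3Cert24HC0.just37 J3Cert24HC0.check37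

theorem valid39 : Valid 9984 :=
  valid38.step J3Cert24HC0.just38 J3Cert24HC0.check38

theorem valid40 : Valid 10240 :=
  valid39.step J3Cert24HC0.just39 J3Cert24HC0.check39

theorem valid41 : Valid 10496 :=
  valid40.step J3Cert24HC0.just40 J3Cert24HC0.check40

theorem valid42 : Valid 10752 :=
  valid41.step J3Cert24HC0.just41 J3Cert24HC0.check41

theorem valid43 : Valid 11008 :=
  valid42.step J3Cert24HC0.just42 J3Cert24HC0.check42

theorem valid44 : Valid 11264 :=
  valid43.step J3Cert24HC0.just43 J3Cert24HC0.check43

theorem valid45 : Valid 11520 :=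
  valid44.step J3Cert24HC0.just44 J3Cert24HC0.check44

theorem valid46 : Valid 11776 :=
  valid45.step J3Cert24HC0.just45 J3Cert24HC0.check45

theorem valid47 : Valid 12032 :=
  valid46.step J3Cert24HC0.just46 J3Cert24HC0.check46

theorem valid48 : Valid 12288 :=
  valid47.step J3Cert24HC0.just47 J3Cert24HC0.check47

theorem valid49 : Valid 12544 :=
  valid48.step J3Cert24HC0.just48 J3Cert24HC0.check48

theorem valid50 : Valid 12800 :=
  valid49.step J3Cert24HC0.just49 J3Cert24HC0.check49

theorem valid51 : Valid 13056 :=
  valid50.step J3Cert24HC0.just50 J3Cert24HC0.check50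

theorem valid52 : Valid 13312 :=
  valid51.step J3Cert24HC0.just51 J3Cert24HC0.check51

theorem valid53 : Valid 13568 :=
  valid52.step J3Cert24HC0.just52 J3Cert24HC0.check52

theorem valid54 : Valid 13824 :=
  valid53.step J3Cert24HC0.just53 J3Cert24HC0.check53

theorem valid55 : Valid 14080 :=
  valid54.step J3Cert24HC0.just54 J3Cert24HC0.check54

theorem valid56 : Valid 14336 :=
  valid55.step J3Cert24HC0.just55 J3Cert24HC0.check55

theorem valid57 : Valid 14592 :=
  valid56.step J3Cert24HC0.just56 J3Cert24HC0.check56

theorem valid58 : Valid 14848 :=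
  valid57.step J3Cert24HC0.just57 J3Cert24HC0.check57

theorem valid59 : Valid 15104 :=
  valid58.step J3Cert24HC0.just58 J3Cert24HC0.check58

theorem valid60 : Valid 15360 :=
  valid59.step J3Cert24HC0.just59 J3Cert24HC0.check59

theorem valid61 : Valid 15616 :=
  valid60.step J3Cert24HC0.just60 J3Cert24HC0.check60

theorem valid62 : Valid 15872 :=
  valid61.step J3Cert24HC0.just61 J3Cert24HC0.check61

theorem valid63 : Valid 16128 :=
  valid62.step J3Cert24HC0.just62 J3Cert24HC0.check62

theorem valid64 : Valid 16384 :=
  valid63.step J3Cert24HC0.just63 J3Cert24HC0.check63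

theorem valid65 : Valid 16640 :=
  valid64.step J3Cert24HC0.just64 J3Cert24HC0.check64

theorem valid66 : Valid 16896 :=
  valid65.step J3Cert24HC0.just65 J3Cert24HC0.check65

theorem valid67 : Valid 17152 :=
  valid66.step J3Cert24HC0.just66 J3Cert24HC0.check66

theorem valid68 : Valid 17408 :=
  valid67.step J3Cert24HC0.just67 J3Cert24HC0.check67

theorem valid69 : Valid 17664 :=
  valid68.step J3Cert24HC0.just68 J3Cert24HC0.check68

theorem valid70 : Valid 17920 :=
  valid69.step J3Cert24HC0.just69 J3Cert24HC0.check69

theorem valid71 : Valid 18176 :=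
  valid70.step J3Cert24HC0.just70 J3Cert24HC0.check70

theorem valid72 : Valid 18432 :=
  valid71.step J3Cert24HC0.just71 J3Cert24HC0.check71

theorem valid73 : Valid 18688 :=
  valid72.step J3Cert24HC0.just72 J3Cert24HC0.check72

theorem valid74 : Valid 18944 :=
  valid73.step J3Cert24HC0.just73 J3Cert24HC0.check73

theorem valid75 : Valid 19200 :=
  valid74.step J3Cert24HC0.just74 J3Cert24HC0.check74

theorem valid76 : Valid 19456 :=
  valid75.step J3Cert24HC0.just75 J3Cert24HC0.check75

theorem valid77 : Valid 19712 :=
  valid76.step J3Cert24HC0.just76 J3Cert24HC0.check76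

theorem valid78 : Valid 19968 :=
  valid77.step J3Cert24HC0.just77 J3Cert24HC0.check77

theorem valid79 : Valid 20224 :=
  valid78.step J3Cert24HC0.just78 J3Cert24HC0.check78

theorem valid80 : Valid 20480 :=
  valid79.step J3Cert24HC0.just79 J3Cert24HC0.check79

theorem valid81 : Valid 20736 :=
  valid80.step J3Cert24HC1.just80 J3Cert24HC1.check80

theorem valid82 : Valid 20992 :=
  valid81.step J3Cert24HC1.just81 J3Cert24HC1.check81

theorem valid83 : Valid 21248 :=
  valid82.step J3Cert24HC1.just82 J3Cert24HC1.check82

theorem valid84 : Valid 21504 :=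
  valid83.step J3Cert24HC1.just83 J3Cert24HC1.check83

theorem valid85 : Valid 21760 :=
  valid84.step J3Cert24HC1.just84 J3Cert24HC1.check84

theorem valid86 : Valid 22016 :=
  valid85.step J3Cert24HC1.just85 J3Cert24HC1.check85

theorem valid87 : Valid 22272 :=
  valid86.step J3Cert24HC1.just86 J3Cert24HC1.check86

theorem valid88 : Valid 22528 :=
  valid87.step J3Cert24HC1.just87 J3Cert24HC1.check87

theorem valid89 : Valid 22784 :=
  valid88.step J3Cert24HC1.just88 J3Cert24HC1.check88

theorem valid90 : Valid 23040 :=
  valid89.step J3Cert24HC1.just89 J3Cert24HC1.check89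

theorem valid91 : Valid 23296 :=
  valid90.step J3Cert24HC1.just90 J3Cert24HC1.check90

theorem valid92 : Valid 23552 :=
  valid91.step J3Cert24HC1.just91 J3Cert24HC1.check91

theorem valid93 : Valid 23808 :=
  valid92.step J3Cert24HC1.just92 J3Cert24HC1.check92

theorem valid94 : Valid 24064 :=
  valid93.step J3Cert24HC1.just93 J3Cert24HC1.check93

theorem valid95 : Valid 24320 :=
  valid94.step J3Cert24HC1.just94 J3Cert24HC1.check94

theorem valid96 : Valid 24576 :=
  valid95.step J3Cert24HC1.just95 J3Cert24HC1.check95

theorem valid97 : Valid 24832 :=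
  valid96.step J3Cert24HC1.just96 J3Cert24HC1.check96

theorem valid98 : Valid 25088 :=
  valid97.step J3Cert24HC1.just97 J3Cert24HC1.check97

theorem valid99 : Valid 25344 :=
  valid98.step J3Cert24HC1.just98 J3Cert24HC1.check98

theorem valid100 : Valid 25600 :=
  valid99.step J3Cert24HC1.just99 J3Cert24HC1.check99

theorem valid101 : Valid 25856 :=
  valid100.step J3Cert24HC1.just100 J3Cert24HC1.check100

theorem valid102 : Valid 26112 :=
  valid101.step J3Cert24HC1.just101 J3Cert24HC1.check101

theorem valid103 : Valid 26368 :=
  valid102.step J3Cert24HC1.just102 J3Cert24HC1.check102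

theorem valid104 : Valid 26624 :=
  valid103.step J3Cert24HC1.just103 J3Cert24HC1.check103

theorem valid105 : Valid 26880 :=
  valid104.step J3Cert24HC1.just104 J3Cert24HC1.check104

theorem valid106 : Valid 27136 :=
  valid105.step J3Cert24HC1.just105 J3Cert24HC1.check105

theorem valid107 : Valid 27392 :=
  valid106.step J3Cert24HC1.just106 J3Cert24HC1.check106

theorem valid108 : Valid 27648 :=
  valid107.step J3Cert24HC1.just107 J3Cert24HC1.check107

theorem valid109 : Valid 27904 :=
  valid108.step J3Cert24HC1.just108 J3Cert24HC1.check108

theorem valid110 : Valid 28160 :=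
  valid109.step J3Cert24HC1.just109 J3Cert24HC1.check109

theorem valid111 : Valid 28416 :=
  valid110.step J3Cert24HC1.just110 J3Cert24HC1.check110

theorem valid112 : Valid 28672 :=
  valid111.step J3Cert24HC1.just111 J3Cert24HC1.check111

theorem valid113 : Valid 28928 :=
  valid112.step J3Cert24HC1.just112 J3Cert24HC1.check112

theorem valid114 : Valid 29184 :=
  valid113.step J3Cert24HC1.just113 J3Cert24HC1.check113

theorem valid115 : Valid 29440 :=
  valid114.step J3Cert24HC1.just114 J3Cert24HC1.check114

theorem valid116 : Valid 29696 :=
  valid115.step J3Cert24HC1.just115 J3Cert24HC1.check115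

theorem valid117 : Valid 29952 :=
  valid116.step J3Cert24HC1.just116 J3Cert24HC1.check116

theorem valid118 : Valid 30208 :=
  valid117.step J3Cert24HC1.just117 J3Cert24HC1.check117

theorem valid119 : Valid 30464 :=
  valid118.step J3Cert24HC1.just118 J3Cert24HC1.check118

theorem valid120 : Valid 30720 :=
  valid119.step J3Cert24HC1.just119 J3Cert24HC1.check119

theorem valid121 : Valid 30976 :=
  valid120.step J3Cert24HC1.just120 J3Cert24HC1.check120

theorem valid122 : Valid 31232 :=
  valid121.step J3Cert24HC1.just121 J3Cert24HC1.check121

theorem valid123 : Valid 31488 :=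
  valid122.step J3Cert24HC1.just122 J3Cert24HC1.check122

theorem valid124 : Valid 31744 :=
  valid123.step J3Cert24HC1.just123 J3Cert24HC1.check123

theorem valid125 : Valid 32000 :=
  valid124.step J3Cert24HC1.just124 J3Cert24HC1.check124

theorem valid126 : Valid 32256 :=
  valid125.step J3Cert24HC1.just125 J3Cert24HC1.check125

theorem valid127 : Valid 32512 :=
  valid126.step J3Cert24HC1.just126 J3Cert24HC1.check126

theorem valid128 : Valid 32768 :=
  valid127.step J3Cert24HC1.just127 J3Cert24HC1.check127

theorem valid129 : Valid 33024 :=
  valid128.step J3Cert24HC1.just128 J3Cert24HC1.check128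

theorem valid130 : Valid 33280 :=
  valid129.step J3Cert24HC1.just129 J3Cert24HC1.check129

theorem valid131 : Valid 33536 :=
  valid130.step J3Cert24HC1.just130 J3Cert24HC1.check130

theorem valid132 : Valid 33792 :=
  valid131.step J3Cert24HC1.just131 J3Cert24HC1.check131

theorem valid133 : Valid 34048 :=
  valid132.step J3Cert24HC1.just132 J3Cert24HC1.check132

theorem valid134 : Valid 34304 :=
  valid133.step J3Cert24HC1.just133 J3Cert24HC1.check133

theorem valid135 : Valid 34560 :=
  valid134.step J3Cert24HC1.just134 J3Cert24HC1.check134

theorem valid136 : Valid 34816 :=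
  valid135.step J3Cert24HC1.just135 J3Cert24HC1.check135

theorem valid137 : Valid 35072 :=
  valid136.step J3Cert24HC1.just136 J3Cert24HC1.check136

theorem valid138 : Valid 35328 :=
  valid137.step J3Cert24HC1.just137 J3Cert24HC1.check137

theorem valid139 : Valid 35584 :=
  valid138.step J3Cert24HC1.just138 J3Cert24HC1.check138

theorem valid140 : Valid 35840 :=
  valid139.step J3Cert24HC1.just139 J3Cert24HC1.check139

theorem valid141 : Valid 36096 :=
  valid140.step J3Cert24HC1.just140 J3Cert24HC1.check140

theorem valid142 : Valid 36352 :=
  valid141.step J3Cert24HC1.just141 J3Cert24HC1.check141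

theorem valid143 : Valid 36608 :=
  valid142.step J3Cert24HC1.just142 J3Cert24HC1.check142

theorem valid144 : Valid 36864 :=
  valid143.step J3Cert24HC1.just143 J3Cert24HC1.check143

theorem valid145 : Valid 37120 :=
  valid144.step J3Cert24HC1.just144 J3Cert24HC1.check144

theorem valid146 : Valid 37376 :=
  valid145.step J3Cert24HC1.just145 J3Cert24HC1.check145

theorem valid147 : Valid 37632 :=
  valid146.step J3Cert24HC1.just146 J3Cert24HC1.check146

theorem valid148 : Valid 37888 :=
  valid147.step J3Cert24HC1.just147 J3Cert24HC1.check147

theorem valid149 : Valid 38144 :=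
  valid148.step J3Cert24HC1.just148 J3Cert24HC1.check148

theorem valid150 : Valid 38400 :=
  valid149.step J3Cert24HC1.just149 J3Cert24HC1.check149

theorem valid151 : Valid 38656 :=
  valid150.step J3Cert24HC1.just150 J3Cert24HC1.check150

theorem valid152 : Valid 38912 :=
  valid151.step J3Cert24HC1.just151 J3Cert24HC1.check151

theorem valid153 : Valid 39168 :=
  valid152.step J3Cert24HC1.just152 J3Cert24HC1.check152

theorem valid154 : Valid 39424 :=
  valid153.step J3Cert24HC1.just153 J3Cert24HC1.check153

theorem valid155 : Valid 39680 :=
  valid154.step J3Cert24HC1.just154 J3Cert24HC1.check154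

theorem valid156 : Valid 39936 :=
  valid155.step J3Cert24HC1.just155 J3Cert24HC1.check155

theorem valid157 : Valid 40192 :=
  valid156.step J3Cert24HC1.just156 J3Cert24HC1.check156

theorem valid158 : Valid 40448 :=
  valid157.step J3Cert24HC1.just157 J3Cert24HC1.check157

theorem valid159 : Valid 40704 :=
  valid158.step J3Cert24HC1.just158 J3Cert24HC1.check158

theorem valid160 : Valid 40960 :=
  valid159.step J3Cert24HC1.just159 J3Cert24HC1.check159

theorem valid161 : Valid 41216 :=
  valid160.step J3Cert24HC2.just160 J3Cert24HC2.check160

theorem valid162 : Valid 41472 :=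
  valid161.step J3Cert24HC2.just161 J3Cert24HC2.check161

theorem valid163 : Valid 41728 :=
  valid162.step J3Cert24HC2.just162 J3Cert24HC2.check162

theorem valid164 : Valid 41984 :=
  valid163.step J3Cert24HC2.just163 J3Cert24HC2.check163

theorem valid165 : Valid 42240 :=
  valid164.step J3Cert24HC2.just164 J3Cert24HC2.check164

theorem valid166 : Valid 42496 :=
  valid165.step J3Cert24HC2.just165 J3Cert24HC2.check165

theorem valid167 : Valid 42752 :=
  valid166.step J3Cert24HC2.just166 J3Cert24HC2.check166

theorem valid168 : Valid 43008 :=
  valid167.step J3Cert24HC2.just167 J3Cert24HC2.check167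

theorem valid169 : Valid 43264 :=
  valid168.step J3Cert24HC2.just168 J3Cert24HC2.check168

theorem valid170 : Valid 43520 :=
  valid169.step J3Cert24HC2.just169 J3Cert24HC2.check169

theorem valid171 : Valid 43776 :=
  valid170.step J3Cert24HC2.just170 J3Cert24HC2.check170

theorem valid172 : Valid 44032 :=
  valid171.step J3Cert24HC2.just171 J3Cert24HC2.check171

theorem valid173 : Valid 44288 :=
  valid172.step J3Cert24HC2.just172 J3Cert24HC2.check172

theorem valid174 : Valid 44544 :=
  valid173.step J3Cert24HC2.just173 J3Cert24HC2.check173

theorem valid175 : Valid 44800 :=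
  valid174.step J3Cert24HC2.just174 J3Cert24HC2.check174

theorem valid176 : Valid 45056 :=
  valid175.step J3Cert24HC2.just175 J3Cert24HC2.check175

theorem valid177 : Valid 45312 :=
  valid176.step J3Cert24HC2.just176 J3Cert24HC2.check176

theorem valid178 : Valid 45568 :=
  valid177.step J3Cert24HC2.just177 J3Cert24HC2.check177

theorem valid179 : Valid 45824 :=
  valid178.step J3Cert24HC2.just178 J3Cert24HC2.check178

theorem valid180 : Valid 46080 :=
  valid179.step J3Cert24HC2.just179 J3Cert24HC2.check179

theorem valid181 : Valid 46336 :=
  valid180.step J3Cert24HC2.just180 J3Cert24HC2.check180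

theorem valid182 : Valid 46592 :=
  valid181.step J3Cert24HC2.just181 J3Cert24HC2.check181

theorem valid183 : Valid 46848 :=
  valid182.step J3Cert24HC2.just182 J3Cert24HC2.check182

theorem valid184 : Valid 47104 :=
  valid183.step J3Cert24HC2.just183 J3Cert24HC2.check183

theorem valid185 : Valid 47360 :=
  valid184.step J3Cert24HC2.just184 J3Cert24HC2.check184

theorem valid186 : Valid 47616 :=
  valid185.step J3Cert24HC2.just185 J3Cert24HC2.check185

theorem valid187 : Valid 47872 :=
  valid186.step J3Cert24HC2.just186 J3Cert24HC2.check186

theorem valid188 : Valid 48128 :=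
  valid187.step J3Cert24HC2.just187 J3Cert24HC2.check187

theorem valid189 : Valid 48384 :=
  valid188.step J3Cert24HC2.just188 J3Cert24HC2.check188

theorem valid190 : Valid 48640 :=
  valid189.step J3Cert24HC2.just189 J3Cert24HC2.check189

theorem valid191 : Valid 48896 :=
  valid190.step J3Cert24HC2.just190 J3Cert24HC2.check190

theorem valid192 : Valid 49152 :=
  valid191.step J3Cert24HC2.just191 J3Cert24HC2.check191

theorem valid193 : Valid 49408 :=
  valid192.step J3Cert24HC2.just192 J3Cert24HC2.check192

theorem valid194 : Valid 49664 :=
  valid193.step J3Cert24HC2.just193 J3Cert24HC2.check193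

theorem valid195 : Valid 49920 :=
  valid194.step J3Cert24HC2.just194 J3Cert24HC2.check194

theorem valid196 : Valid 50176 :=
  valid195.step J3Cert24HC2.just195 J3Cert24HC2.check195

theorem valid197 : Valid 50432 :=
  valid196.step J3Cert24HC2.just196 J3Cert24HC2.check196

theorem valid198 : Valid 50688 :=
  valid197.step J3Cert24HC2.just197 J3Cert24HC2.check197

theorem valid199 : Valid 50944 :=
  valid198.step J3Cert24HC2.just198 J3Cert24HC2.check198

theorem valid200 : Valid 51200 :=
  valid199.step J3Cert24HC2.just199 J3Cert24HC2.check199

theorem valid201 : Valid 51456 :=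
  valid200.step J3Cert24HC2.just200 J3Cert24HC2.check200

theorem valid202 : Valid 51712 :=
  valid201.step J3Cert24HC2.just201 J3Cert24HC2.check201

theorem valid203 : Valid 51968 :=
  valid202.step J3Cert24HC2.just202 J3Cert24HC2.check202

theorem valid204 : Valid 52224 :=
  valid203.step J3Cert24HC2.just203 J3Cert24HC2.check203

theorem valid205 : Valid 52480 :=
  valid204.step J3Cert24HC2.just204 J3Cert24HC2.check204

theorem valid206 : Valid 52736 :=
  valid205.step J3Cert24HC2.just205 J3Cert24HC2.check205

theorem valid207 : Valid 52992 :=
  valid206.step J3Cert24HC2.just206 J3Cert24HC2.check206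

theorem valid208 : Valid 53248 :=
  valid207.step J3Cert24HC2.just207 J3Cert24HC2.check207

theorem valid209 : Valid 53504 :=
  valid208.step J3Cert24HC2.just208 J3Cert24HC2.check208

theorem valid210 : Valid 53760 :=
  valid209.step J3Cert24HC2.just209 J3Cert24HC2.check209

theorem valid211 : Valid 54016 :=
  valid210.step J3Cert24HC2.just210 J3Cert24HC2.check210

theorem valid212 : Valid 54272 :=
  valid211.step J3Cert24HC2.just211 J3Cert24HC2.check211

theorem valid213 : Valid 54528 :=
  valid212.step J3Cert24HC2.just212 J3Cert24HC2.check212

theorem valid214 : Valid 54784 :=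
  valid213.step J3Cert24HC2.just213 J3Cert24HC2.check213

theorem valid215 : Valid 55040 :=
  valid214.step J3Cert24HC2.just214 J3Cert24HC2.check214

theorem valid216 : Valid 55296 :=
  valid215.step J3Cert24HC2.just215 J3Cert24HC2.check215

theorem valid217 : Valid 55552 :=
  valid216.step J3Cert24HC2.just216 J3Cert24HC2.check216

theorem valid218 : Valid 55808 :=
  valid217.step J3Cert24HC2.just217 J3Cert24HC2.check217

theorem valid219 : Valid 56064 :=
  valid218.step J3Cert24HC2.just218 J3Cert24HC2.check218

theorem valid220 : Valid 56320 :=
  valid219.step J3Cert24HC2.just219 J3Cert24HC2.check219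

theorem valid221 : Valid 56576 :=
  valid220.step J3Cert24HC2.just220 J3Cert24HC2.check220

theorem valid222 : Valid 56832 :=
  valid221.step J3Cert24HC2.just221 J3Cert24HC2.check221

theorem valid223 : Valid 57088 :=
  valid222.step J3Cert24HC2.just222 J3Cert24HC2.check222

theorem valid224 : Valid 57344 :=
  valid223.step J3Cert24HC2.just223 J3Cert24HC2.check223

theorem valid225 : Valid 57600 :=
  valid224.step J3Cert24HC2.just224 J3Cert24HC2.check224

theorem valid226 : Valid 57856 :=
  valid225.step J3Cert24HC2.just225 J3Cert24HC2.check225

theorem valid227 : Valid 58112 :=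
  valid226.step J3Cert24HC2.just226 J3Cert24HC2.check226

theorem valid228 : Valid 58368 :=
  valid227.step J3Cert24HC2.just227 J3Cert24HC2.check227

theorem valid229 : Valid 58624 :=
  valid228.step J3Cert24HC2.just228 J3Cert24HC2.check228

theorem valid230 : Valid 58880 :=
  valid229.step J3Cert24HC2.just229 J3Cert24HC2.check229

theorem valid231 : Valid 59136 :=
  valid230.step J3Cert24HC2.just230 J3Cert24HC2.check230

theorem valid232 : Valid 59392 :=
  valid231.step J3Cert24HC2.just231 J3Cert24HC2.check231

theorem valid233 : Valid 59648 :=
  valid232.step J3Cert24HC2.just232 J3Cert24HC2.check232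

theorem valid234 : Valid 59904 :=
  valid233.step J3Cert24HC2.just233 J3Cert24HC2.check233

theorem valid235 : Valid 60160 :=
  valid234.step J3Cert24HC2.just234 J3Cert24HC2.check234

theorem valid236 : Valid 60416 :=
  valid235.step J3Cert24HC2.just235 J3Cert24HC2.check235

theorem valid237 : Valid 60672 :=
  valid236.step J3Cert24HC2.just236 J3Cert24HC2.check236

theorem valid238 : Valid 60928 :=
  valid237.step J3Cert24HC2.just237 J3Cert24HC2.check237

theorem valid239 : Valid 61184 :=
  valid238.step J3Cert24HC2.just238 J3Cert24HC2.check238

theorem valid240 : Valid 61440 :=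
  valid239.step J3Cert24HC2.just239 J3Cert24HC2.check239

theorem valid241 : Valid 61696 :=
  valid240.step J3Cert24HC3.just240 J3Cert24HC3.check240

theorem valid242 : Valid 61952 :=
  valid241.step J3Cert24HC3.just241 J3Cert24HC3.check241

theorem valid243 : Valid 62208 :=
  valid242.step J3Cert24HC3.just242 J3Cert24HC3.check242

theorem valid244 : Valid 62464 :=
  valid243.step J3Cert24HC3.just243 J3Cert24HC3.check243

theorem valid245 : Valid 62720 :=
  valid244.step J3Cert24HC3.just244 J3Cert24HC3.check244

theorem valid246 : Valid 62976 :=
  valid245.step J3Cert24HC3.just245 J3Cert24HC3.check245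

theorem valid247 : Valid 63232 :=
  valid246.step J3Cert24HC3.just246 J3Cert24HC3.check246

theorem valid248 : Valid 63488 :=
  valid247.step J3Cert24HC3.just247 J3Cert24HC3.check247

theorem valid249 : Valid 63744 :=
  valid248.step J3Cert24HC3.just248 J3Cert24HC3.check248

theorem valid250 : Valid 64000 :=
  valid249.step J3Cert24HC3.just249 J3Cert24HC3.check249

theorem valid251 : Valid 64256 :=
  valid250.step J3Cert24HC3.just250 J3Cert24HC3.check250

theorem valid252 : Valid 64512 :=
  valid251.step J3Cert24HC3.just251 J3Cert24HC3.check251

theorem valid253 : Valid 64768 :=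
  valid252.step J3Cert24HC3.just252 J3Cert24HC3.check252

theorem valid254 : Valid 65024 :=
  valid253.step J3Cert24HC3.just253 J3Cert24HC3.check253

theorem valid255 : Valid 65280 :=
  valid254.step J3Cert24HC3.just254 J3Cert24HC3.check254

theorem valid256 : Valid 65536 :=
  valid255.step J3Cert24HC3.just255 J3Cert24HC3.check255

theorem valid257 : Valid 65792 :=
  valid256.step J3Cert24HC3.just256 J3Cert24HC3.check256

theorem valid258 : Valid 66048 :=
  valid257.step J3Cert24HC3.just257 J3Cert24HC3.check257

theorem valid259 : Valid 66304 :=
  valid258.step J3Cert24HC3.just258 J3Cert24HC3.check258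

theorem valid260 : Valid 66560 :=
  valid259.step J3Cert24HC3.just259 J3Cert24HC3.check259

theorem valid261 : Valid 66816 :=
  valid260.step J3Cert24HC3.just260 J3Cert24HC3.check260

theorem valid262 : Valid 67072 :=
  valid261.step J3Cert24HC3.just261 J3Cert24HC3.check261

theorem valid263 : Valid 67328 :=
  valid262.step J3Cert24HC3.just262 J3Cert24HC3.check262

theorem valid264 : Valid 67584 :=
  valid263.step J3Cert24HC3.just263 J3Cert24HC3.check263

theorem valid265 : Valid 67840 :=
  valid264.step J3Cert24HC3.just264 J3Cert24HC3.check264

theorem valid266 : Valid 68096 :=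
  valid265.step J3Cert24HC3.just265 J3Cert24HC3.check265

theorem valid267 : Valid 68352 :=
  valid266.step J3Cert24HC3.just266 J3Cert24HC3.check266

theorem valid268 : Valid 68608 :=
  valid267.step J3Cert24HC3.just267 J3Cert24HC3.check267

theorem valid269 : Valid 68864 :=
  valid268.step J3Cert24HC3.just268 J3Cert24HC3.check268

theorem valid270 : Valid 69120 :=
  valid269.step J3Cert24HC3.just269 J3Cert24HC3.check269

theorem valid271 : Valid 69376 :=
  valid270.step J3Cert24HC3.just270 J3Cert24HC3.check270

theorem valid272 : Valid 69632 :=
  valid271.step J3Cert24HC3.just271 J3Cert24HC3.check271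

theorem valid273 : Valid 69888 :=
  valid272.step J3Cert24HC3.just272 J3Cert24HC3.check272

theorem valid274 : Valid 70144 :=
  valid273.step J3Cert24HC3.just273 J3Cert24HC3.check273

theorem valid275 : Valid 70400 :=
  valid274.step J3Cert24HC3.just274 J3Cert24HC3.check274

theorem valid276 : Valid 70656 :=
  valid275.step J3Cert24HC3.just275 J3Cert24HC3.check275

theorem valid277 : Valid 70912 :=
  valid276.step J3Cert24HC3.just276 J3Cert24HC3.check276

theorem valid278 : Valid 71168 :=
  valid277.step J3Cert24HC3.just277 J3Cert24HC3.check277

theorem valid279 : Valid 71424 :=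
  valid278.step J3Cert24HC3.just278 J3Cert24HC3.check278

theorem valid280 : Valid 71680 :=
  valid279.step J3Cert24HC3.just279 J3Cert24HC3.check279

theorem valid281 : Valid 71936 :=
  valid280.step J3Cert24HC3.just280 J3Cert24HC3.check280

theorem valid282 : Valid 72192 :=
  valid281.step J3Cert24HC3.just281 J3Cert24HC3.check281

theorem valid283 : Valid 72448 :=
  valid282.step J3Cert24HC3.just282 J3Cert24HC3.check282

theorem valid284 : Valid 72704 :=
  valid283.step J3Cert24HC3.just283 J3Cert24HC3.check283

theorem valid285 : Valid 72960 :=
  valid284.step J3Cert24HC3.just284 J3Cert24HC3.check284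

theorem valid286 : Valid 73216 :=
  valid285.step J3Cert24HC3.just285 J3Cert24HC3.check285

theorem valid287 : Valid 73472 :=
  valid286.step J3Cert24HC3.just286 J3Cert24HC3.check286

theorem valid288 : Valid 73728 :=
  valid287.step J3Cert24HC3.just287 J3Cert24HC3.check287

theorem valid289 : Valid 73984 :=
  valid288.step J3Cert24HC3.just288 J3Cert24HC3.check288

theorem valid290 : Valid 74240 :=
  valid289.step J3Cert24HC3.just289 J3Cert24HC3.check289

theorem valid291 : Valid 74496 :=
  valid290.step J3Cert24HC3.just290 J3Cert24HC3.check290

theorem valid292 : Valid 74752 :=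
  valid291.step J3Cert24HC3.just291 J3Cert24HC3.check291

theorem valid293 : Valid 75008 :=
  valid292.step J3Cert24HC3.just292 J3Cert24HC3.check292

theorem valid294 : Valid 75264 :=
  valid293.step J3Cert24HC3.just293 J3Cert24HC3.check293

theorem valid295 : Valid 75520 :=
  valid294.step J3Cert24HC3.just294 J3Cert24HC3.check294

theorem valid296 : Valid 75776 :=
  valid295.step J3Cert24HC3.just295 J3Cert24HC3.check295

theorem valid297 : Valid 76032 :=
  valid296.step J3Cert24HC3.just296 J3Cert24HC3.check296

theorem valid298 : Valid 76288 :=
  valid297.step J3Cert24HC3.just297 J3Cert24HC3.check297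

theorem valid299 : Valid 76544 :=
  valid298.step J3Cert24HC3.just298 J3Cert24HC3.check298

theorem valid300 : Valid 76800 :=
  valid299.step J3Cert24HC3.just299 J3Cert24HC3.check299

theorem valid301 : Valid 77056 :=
  valid300.step J3Cert24HC3.just300 J3Cert24HC3.check300

theorem valid302 : Valid 77312 :=
  valid301.step J3Cert24HC3.just301 J3Cert24HC3.check301

theorem valid303 : Valid 77568 :=
  valid302.step J3Cert24HC3.just302 J3Cert24HC3.check302

theorem valid304 : Valid 77824 :=
  valid303.step J3Cert24HC3.just303 J3Cert24HC3.check303

theorem valid305 : Valid 78080 :=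
  valid304.step J3Cert24HC3.just304 J3Cert24HC3.check304

theorem valid306 : Valid 78336 :=
  valid305.step J3Cert24HC3.just305 J3Cert24HC3.check305

theorem valid307 : Valid 78592 :=
  valid306.step J3Cert24HC3.just306 J3Cert24HC3.check306

theorem valid308 : Valid 78848 :=
  valid307.step J3Cert24HC3.just307 J3Cert24HC3.check307

theorem valid309 : Valid 79104 :=
  valid308.step J3Cert24HC3.just308 J3Cert24HC3.check308

theorem valid310 : Valid 79360 :=
  valid309.step J3Cert24HC3.just309 J3Cert24HC3.check309

theorem valid311 : Valid 79616 :=
  valid310.step J3Cert24HC3.just310 J3Cert24HC3.check310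

theorem valid312 : Valid 79872 :=
  valid311.step J3Cert24HC3.just311 J3Cert24HC3.check311

theorem valid313 : Valid 80128 :=
  valid312.step J3Cert24HC3.just312 J3Cert24HC3.check312

theorem valid314 : Valid 80384 :=
  valid313.step J3Cert24HC3.just313 J3Cert24HC3.check313

theorem valid315 : Valid 80640 :=
  valid314.step J3Cert24HC3.just314 J3Cert24HC3.check314

theorem valid316 : Valid 80896 :=
  valid315.step J3Cert24HC3.just315 J3Cert24HC3.check315

theorem valid317 : Valid 81152 :=
  valid316.step J3Cert24HC3.just316 J3Cert24HC3.check316

theorem valid318 : Valid 81408 :=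
  valid317.step J3Cert24HC3.just317 J3Cert24HC3.check317

theorem valid319 : Valid 81664 :=
  valid318.step J3Cert24HC3.just318 J3Cert24HC3.check318

theorem valid320 : Valid 81920 :=
  valid319.step J3Cert24HC3.just319 J3Cert24HC3.check319

theorem valid321 : Valid 82176 :=
  valid320.step J3Cert24HC4.just320 J3Cert24HC4.check320

theorem valid322 : Valid 82432 :=
  valid321.step J3Cert24HC4.just321 J3Cert24HC4.check321

theorem valid323 : Valid 82688 :=
  valid322.step J3Cert24HC4.just322 J3Cert24HC4.check322

theorem valid324 : Valid 82944 :=
  valid323.step J3Cert24HC4.just323 J3Cert24HC4.check323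

theorem valid325 : Valid 83200 :=
  valid324.step J3Cert24HC4.just324 J3Cert24HC4.check324

theorem valid326 : Valid 83456 :=
  valid325.step J3Cert24HC4.just325 J3Cert24HC4.check325

theorem valid327 : Valid 83712 :=
  valid326.step J3Cert24HC4.just326 J3Cert24HC4.check326

theorem valid328 : Valid 83968 :=
  valid327.step J3Cert24HC4.just327 J3Cert24HC4.check327

theorem valid329 : Valid 84224 :=
  valid328.step J3Cert24HC4.just328 J3Cert24HC4.check328

theorem valid330 : Valid 84480 :=
  valid329.step J3Cert24HC4.just329 J3Cert24HC4.check329

theorem valid331 : Valid 84736 :=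
  valid330.step J3Cert24HC4.just330 J3Cert24HC4.check330

theorem valid332 : Valid 84992 :=
  valid331.step J3Cert24HC4.just331 J3Cert24HC4.check331

theorem valid333 : Valid 85248 :=
  valid332.step J3Cert24HC4.just332 J3Cert24HC4.check332

theorem valid334 : Valid 85504 :=
  valid333.step J3Cert24HC4.just333 J3Cert24HC4.check333

theorem valid335 : Valid 85760 :=
  valid334.step J3Cert24HC4.just334 J3Cert24HC4.check334

theorem valid336 : Valid 86016 :=
  valid335.step J3Cert24HC4.just335 J3Cert24HC4.check335

theorem valid337 : Valid 86272 :=
  valid336.step J3Cert24HC4.just336 J3Cert24HC4.check336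

theorem valid338 : Valid 86528 :=
  valid337.step J3Cert24HC4.just337 J3Cert24HC4.check337

theorem valid339 : Valid 86784 :=
  valid338.step J3Cert24HC4.just338 J3Cert24HC4.check338

theorem valid340 : Valid 87040 :=
  valid339.step J3Cert24HC4.just339 J3Cert24HC4.check339

theorem valid341 : Valid 87296 :=
  valid340.step J3Cert24HC4.just340 J3Cert24HC4.check340

theorem valid342 : Valid 87552 :=
  valid341.step J3Cert24HC4.just341 J3Cert24HC4.check341

theorem valid343 : Valid 87808 :=
  valid342.step J3Cert24HC4.just342 J3Cert24HC4.check342

theorem valid344 : Valid 88064 :=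
  valid343.step J3Cert24HC4.just343 J3Cert24HC4.check343

theorem valid345 : Valid 88320 :=
  valid344.step J3Cert24HC4.just344 J3Cert24HC4.check344

theorem valid346 : Valid 88576 :=
  valid345.step J3Cert24HC4.just345 J3Cert24HC4.check345

theorem valid347 : Valid 88832 :=
  valid346.step J3Cert24HC4.just346 J3Cert24HC4.check346

theorem valid348 : Valid 89088 :=
  valid347.step J3Cert24HC4.just347 J3Cert24HC4.check347

theorem valid349 : Valid 89344 :=
  valid348.step J3Cert24HC4.just348 J3Cert24HC4.check348

theorem valid350 : Valid 89600 :=
  valid349.step J3Cert24HC4.just349 J3Cert24HC4.check349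

theorem valid351 : Valid 89856 :=
  valid350.step J3Cert24HC4.just350 J3Cert24HC4.check350

theorem valid352 : Valid 90112 :=
  valid351.step J3Cert24HC4.just351 J3Cert24HC4.check351

theorem valid353 : Valid 90368 :=
  valid352.step J3Cert24HC4.just352 J3Cert24HC4.check352

theorem valid354 : Valid 90624 :=
  valid353.step J3Cert24HC4.just353 J3Cert24HC4.check353

theorem valid355 : Valid 90880 :=
  valid354.step J3Cert24HC4.just354 J3Cert24HC4.check354

theorem valid356 : Valid 91136 :=
  valid355.step J3Cert24HC4.just355 J3Cert24HC4.check355

theorem valid357 : Valid 91392 :=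
  valid356.step J3Cert24HC4.just356 J3Cert24HC4.check356

theorem valid358 : Valid 91648 :=
  valid357.step J3Cert24HC4.just357 J3Cert24HC4.check357

theorem valid359 : Valid 91904 :=
  valid358.step J3Cert24HC4.just358 J3Cert24HC4.check358

theorem valid360 : Valid 92160 :=
  valid359.step J3Cert24HC4.just359 J3Cert24HC4.check359

theorem valid361 : Valid 92416 :=
  valid360.step J3Cert24HC4.just360 J3Cert24HC4.check360

theorem valid362 : Valid 92672 :=
  valid361.step J3Cert24HC4.just361 J3Cert24HC4.check361

theorem valid363 : Valid 92928 :=
  valid362.step J3Cert24HC4.just362 J3Cert24HC4.check362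

theorem valid364 : Valid 93184 :=
  valid363.step J3Cert24HC4.just363 J3Cert24HC4.check363

theorem valid365 : Valid 93440 :=
  valid364.step J3Cert24HC4.just364 J3Cert24HC4.check364

theorem valid366 : Valid 93696 :=
  valid365.step J3Cert24HC4.just365 J3Cert24HC4.check365

theorem valid367 : Valid 93952 :=
  valid366.step J3Cert24HC4.just366 J3Cert24HC4.check366

theorem valid368 : Valid 94208 :=
  valid367.step J3Cert24HC4.just367 J3Cert24HC4.check367

theorem valid369 : Valid 94464 :=
  valid368.step J3Cert24HC4.just368 J3Cert24HC4.check368

theorem valid370 : Valid 94720 :=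
  valid369.step J3Cert24HC4.just369 J3Cert24HC4.check369

theorem valid371 : Valid 94976 :=
  valid370.step J3Cert24HC4.just370 J3Cert24HC4.check370

theorem valid372 : Valid 95232 :=
  valid371.step J3Cert24HC4.just371 J3Cert24HC4.check371

theorem valid373 : Valid 95488 :=
  valid372.step J3Cert24HC4.just372 J3Cert24HC4.check372

theorem valid374 : Valid 95744 :=
  valid373.step J3Cert24HC4.just373 J3Cert24HC4.check373

theorem valid375 : Valid 96000 :=
  valid374.step J3Cert24HC4.just374 J3Cert24HC4.check374

theorem valid376 : Valid 96256 :=
  valid375.step J3Cert24HC4.just375 J3Cert24HC4.check375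

theorem valid377 : Valid 96512 :=
  valid376.step J3Cert24HC4.just376 J3Cert24HC4.check376

theorem valid378 : Valid 96768 :=
  valid377.step J3Cert24HC4.just377 J3Cert24HC4.check377

theorem valid379 : Valid 97024 :=
  valid378.step J3Cert24HC4.just378 J3Cert24HC4.check378

theorem valid380 : Valid 97280 :=
  valid379.step J3Cert24HC4.just379 J3Cert24HC4.check379

theorem valid381 : Valid 97536 :=
  valid380.step J3Cert24HC4.just380 J3Cert24HC4.check380

theorem valid382 : Valid 97792 :=
  valid381.step J3Cert24HC4.just381 J3Cert24HC4.check381

theorem valid383 : Valid 98048 :=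
  valid382.step J3Cert24HC4.just382 J3Cert24HC4.check382

theorem valid384 : Valid 98304 :=
  valid383.step J3Cert24HC4.just383 J3Cert24HC4.check383

theorem valid385 : Valid 98560 :=
  valid384.step J3Cert24HC4.just384 J3Cert24HC4.check384

theorem valid386 : Valid 98816 :=
  valid385.step J3Cert24HC4.just385 J3Cert24HC4.check385

theorem valid387 : Valid 99072 :=
  valid386.step J3Cert24HC4.just386 J3Cert24HC4.check386

theorem valid388 : Valid 99328 :=
  valid387.step J3Cert24HC4.just387 J3Cert24HC4.check387

theorem valid389 : Valid 99584 :=
  valid388.step J3Cert24HC4.just388 J3Cert24HC4.check388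

theorem valid390 : Valid 99840 :=
  valid389.step J3Cert24HC4.just389 J3Cert24HC4.check389

theorem valid391 : Valid 100096 :=
  valid390.step J3Cert24HC4.just390 J3Cert24HC4.check390

theorem valid392 : Valid 100352 :=
  valid391.step J3Cert24HC4.just391 J3Cert24HC4.check391

theorem valid393 : Valid 100608 :=
  valid392.step J3Cert24HC4.just392 J3Cert24HC4.check392

theorem valid394 : Valid 100864 :=
  valid393.step J3Cert24HC4.just393 J3Cert24HC4.check393

theorem valid395 : Valid 101120 :=
  valid394.step J3Cert24HC4.just394 J3Cert24HC4.check394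

theorem valid396 : Valid 101376 :=
  valid395.step J3Cert24HC4.just395 J3Cert24HC4.check395

theorem valid397 : Valid 101632 :=
  valid396.step J3Cert24HC4.just396 J3Cert24HC4.check396

theorem valid398 : Valid 101888 :=
  valid397.step J3Cert24HC4.just397 J3Cert24HC4.check397

theorem valid399 : Valid 102144 :=
  valid398.step J3Cert24HC4.just398 J3Cert24HC4.check398

theorem valid400 : Valid 102400 :=
  valid399.step J3Cert24HC4.just399 J3Cert24HC4.check399

theorem valid401 : Valid 102656 :=
  valid400.step J3Cert24HC5.just400 J3Cert24HC5.check400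

theorem valid402 : Valid 102912 :=
  valid401.step J3Cert24HC5.just401 J3Cert24HC5.check401

theorem valid403 : Valid 103168 :=
  valid402.step J3Cert24HC5.just402 J3Cert24HC5.check402

theorem valid404 : Valid 103424 :=
  valid403.step J3Cert24HC5.just403 J3Cert24HC5.check403

theorem valid405 : Valid 103680 :=
  valid404.step J3Cert24HC5.just404 J3Cert24HC5.check404

theorem valid406 : Valid 103936 :=
  valid405.step J3Cert24HC5.just405 J3Cert24HC5.check405

theorem valid407 : Valid 104192 :=
  valid406.step J3Cert24HC5.just406 J3Cert24HC5.check406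

theorem valid408 : Valid 104448 :=
  valid407.step J3Cert24HC5.just407 J3Cert24HC5.check407

theorem valid409 : Valid 104704 :=
  valid408.step J3Cert24HC5.just408 J3Cert24HC5.check408

theorem valid410 : Valid 104960 :=
  valid409.step J3Cert24HC5.just409 J3Cert24HC5.check409

theorem valid411 : Valid 105216 :=
  valid410.step J3Cert24HC5.just410 J3Cert24HC5.check410

theorem valid412 : Valid 105472 :=
  valid411.step J3Cert24HC5.just411 J3Cert24HC5.check411

theorem valid413 : Valid 105728 :=
  valid412.step J3Cert24HC5.just412 J3Cert24HC5.check412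

theorem valid414 : Valid 105984 :=
  valid413.step J3Cert24HC5.just413 J3Cert24HC5.check413

theorem valid415 : Valid 106240 :=
  valid414.step J3Cert24HC5.just414 J3Cert24HC5.check414

theorem valid416 : Valid 106496 :=
  valid415.step J3Cert24HC5.just415 J3Cert24HC5.check415

theorem valid417 : Valid 106752 :=
  valid416.step J3Cert24HC5.just416 J3Cert24HC5.check416

theorem valid418 : Valid 107008 :=
  valid417.step J3Cert24HC5.just417 J3Cert24HC5.check417

theorem valid419 : Valid 107264 :=
  valid418.step J3Cert24HC5.just418 J3Cert24HC5.check418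

theorem valid420 : Valid 107520 :=
  valid419.step J3Cert24HC5.just419 J3Cert24HC5.check419

theorem valid421 : Valid 107776 :=
  valid420.step J3Cert24HC5.just420 J3Cert24HC5.check420

theorem valid422 : Valid 108032 :=
  valid421.step J3Cert24HC5.just421 J3Cert24HC5.check421

theorem valid423 : Valid 108288 :=
  valid422.step J3Cert24HC5.just422 J3Cert24HC5.check422

theorem valid424 : Valid 108544 :=
  valid423.step J3Cert24HC5.just423 J3Cert24HC5.check423

theorem valid425 : Valid 108800 :=
  valid424.step J3Cert24HC5.just424 J3Cert24HC5.check424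

theorem valid426 : Valid 109056 :=
  valid425.step J3Cert24HC5.just425 J3Cert24HC5.check425

theorem valid427 : Valid 109312 :=
  valid426.step J3Cert24HC5.just426 J3Cert24HC5.check426

theorem valid428 : Valid 109568 :=
  valid427.step J3Cert24HC5.just427 J3Cert24HC5.check427

theorem valid429 : Valid 109824 :=
  valid428.step J3Cert24HC5.just428 J3Cert24HC5.check428

theorem valid430 : Valid 110080 :=
  valid429.step J3Cert24HC5.just429 J3Cert24HC5.check429

theorem valid431 : Valid 110336 :=
  valid430.step J3Cert24HC5.just430 J3Cert24HC5.check430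

theorem valid432 : Valid 110592 :=
  valid431.step J3Cert24HC5.just431 J3Cert24HC5.check431

theorem valid433 : Valid 110848 :=
  valid432.step J3Cert24HC5.just432 J3Cert24HC5.check432

theorem valid434 : Valid 111104 :=
  valid433.step J3Cert24HC5.just433 J3Cert24HC5.check433

theorem valid435 : Valid 111360 :=
  valid434.step J3Cert24HC5.just434 J3Cert24HC5.check434

theorem valid436 : Valid 111616 :=
  valid435.step J3Cert24HC5.just435 J3Cert24HC5.check435

theorem valid437 : Valid 111872 :=
  valid436.step J3Cert24HC5.just436 J3Cert24HC5.check436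

theorem valid438 : Valid 112128 :=
  valid437.step J3Cert24HC5.just437 J3Cert24HC5.check437

theorem valid439 : Valid 112384 :=
  valid438.step J3Cert24HC5.just438 J3Cert24HC5.check438

theorem valid440 : Valid 112640 :=
  valid439.step J3Cert24HC5.just439 J3Cert24HC5.check439

theorem valid441 : Valid 112896 :=
  valid440.step J3Cert24HC5.just440 J3Cert24HC5.check440

theorem valid442 : Valid 113152 :=
  valid441.step J3Cert24HC5.just441 J3Cert24HC5.check441

theorem valid443 : Valid 113408 :=
  valid442.step J3Cert24HC5.just442 J3Cert24HC5.check442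

theorem valid444 : Valid 113664 :=
  valid443.step J3Cert24HC5.just443 J3Cert24HC5.check443

theorem valid445 : Valid 113920 :=
  valid444.step J3Cert24HC5.just444 J3Cert24HC5.check444

theorem valid446 : Valid 114176 :=
  valid445.step J3Cert24HC5.just445 J3Cert24HC5.check445

theorem valid447 : Valid 114432 :=
  valid446.step J3Cert24HC5.just446 J3Cert24HC5.check446

theorem valid448 : Valid 114688 :=
  valid447.step J3Cert24HC5.just447 J3Cert24HC5.check447

theorem valid449 : Valid 114944 :=
  valid448.step J3Cert24HC5.just448 J3Cert24HC5.check448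

theorem valid450 : Valid 115200 :=
  valid449.step J3Cert24HC5.just449 J3Cert24HC5.check449

theorem valid451 : Valid 115456 :=
  valid450.step J3Cert24HC5.just450 J3Cert24HC5.check450

theorem valid452 : Valid 115712 :=
  valid451.step J3Cert24HC5.just451 J3Cert24HC5.check451

theorem valid453 : Valid 115968 :=
  valid452.step J3Cert24HC5.just452 J3Cert24HC5.check452

theorem valid454 : Valid 116224 :=
  valid453.step J3Cert24HC5.just453 J3Cert24HC5.check453

theorem valid455 : Valid 116480 :=
  valid454.step J3Cert24HC5.just454 J3Cert24HC5.check454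

theorem valid456 : Valid 116736 :=
  valid455.step J3Cert24HC5.just455 J3Cert24HC5.check455

theorem valid457 : Valid 116992 :=
  valid456.step J3Cert24HC5.just456 J3Cert24HC5.check456

theorem valid458 : Valid 117248 :=
  valid457.step J3Cert24HC5.just457 J3Cert24HC5.check457

theorem valid459 : Valid 117504 :=
  valid458.step J3Cert24HC5.just458 J3Cert24HC5.check458

theorem valid460 : Valid 117760 :=
  valid459.step J3Cert24HC5.just459 J3Cert24HC5.check459

theorem valid461 : Valid 118016 :=
  valid460.step J3Cert24HC5.just460 J3Cert24HC5.check460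

theorem valid462 : Valid 118272 :=
  valid461.step J3Cert24HC5.just461 J3Cert24HC5.check461

theorem valid463 : Valid 118528 :=
  valid462.step J3Cert24HC5.just462 J3Cert24HC5.check462

theorem valid464 : Valid 118784 :=
  valid463.step J3Cert24HC5.just463 J3Cert24HC5.check463

theorem valid465 : Valid 119040 :=
  valid464.step J3Cert24HC5.just464 J3Cert24HC5.check464

theorem valid466 : Valid 119296 :=
  valid465.step J3Cert24HC5.just465 J3Cert24HC5.check465

theorem valid467 : Valid 119552 :=
  valid466.step J3Cert24HC5.just466 J3Cert24HC5.check466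

theorem valid468 : Valid 119808 :=
  valid467.step J3Cert24HC5.just467 J3Cert24HC5.check467

theorem valid469 : Valid 120064 :=
  valid468.step J3Cert24HC5.just468 J3Cert24HC5.check468

theorem valid470 : Valid 120320 :=
  valid469.step J3Cert24HC5.just469 J3Cert24HC5.check469

theorem valid471 : Valid 120576 :=
  valid470.step J3Cert24HC5.just470 J3Cert24HC5.check470

theorem valid472 : Valid 120832 :=
  valid471.step J3Cert24HC5.just471 J3Cert24HC5.check471

theorem valid473 : Valid 121088 :=
  valid472.step J3Cert24HC5.just472 J3Cert24HC5.check472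

theorem valid474 : Valid 121344 :=
  valid473.step J3Cert24HC5.just473 J3Cert24HC5.check473

theorem valid475 : Valid 121600 :=
  valid474.step J3Cert24HC5.just474 J3Cert24HC5.check474

theorem valid476 : Valid 121856 :=
  valid475.step J3Cert24HC5.just475 J3Cert24HC5.check475

theorem valid477 : Valid 122112 :=
  valid476.step J3Cert24HC5.just476 J3Cert24HC5.check476

theorem valid478 : Valid 122368 :=
  valid477.step J3Cert24HC5.just477 J3Cert24HC5.check477

theorem valid479 : Valid 122624 :=
  valid478.step J3Cert24HC5.just478 J3Cert24HC5.check478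

theorem valid480 : Valid 122880 :=
  valid479.step J3Cert24HC5.just479 J3Cert24HC5.check479

theorem valid481 : Valid 123136 :=
  valid480.step J3Cert24HC6.just480 J3Cert24HC6.check480

theorem valid482 : Valid 123392 :=
  valid481.step J3Cert24HC6.just481 J3Cert24HC6.check481

theorem valid483 : Valid 123648 :=
  valid482.step J3Cert24HC6.just482 J3Cert24HC6.check482

theorem valid484 : Valid 123904 :=
  valid483.step J3Cert24HC6.just483 J3Cert24HC6.check483

theorem valid485 : Valid 124160 :=
  valid484.step J3Cert24HC6.just484 J3Cert24HC6.check484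

theorem valid486 : Valid 124416 :=
  valid485.step J3Cert24HC6.just485 J3Cert24HC6.check485

theorem valid487 : Valid 124672 :=
  valid486.step J3Cert24HC6.just486 J3Cert24HC6.check486

theorem valid488 : Valid 124928 :=
  valid487.step J3Cert24HC6.just487 J3Cert24HC6.check487

theorem valid489 : Valid 125184 :=
  valid488.step J3Cert24HC6.just488 J3Cert24HC6.check488

theorem valid490 : Valid 125440 :=
  valid489.step J3Cert24HC6.just489 J3Cert24HC6.check489

theorem valid491 : Valid 125696 :=
  valid490.step J3Cert24HC6.just490 J3Cert24HC6.check490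

theorem valid492 : Valid 125952 :=
  valid491.step J3Cert24HC6.just491 J3Cert24HC6.check491

theorem valid493 : Valid 126208 :=
  valid492.step J3Cert24HC6.just492 J3Cert24HC6.check492

theorem valid494 : Valid 126464 :=
  valid493.step J3Cert24HC6.just493 J3Cert24HC6.check493

theorem valid495 : Valid 126720 :=
  valid494.step J3Cert24HC6.just494 J3Cert24HC6.check494

theorem valid496 : Valid 126976 :=
  valid495.step J3Cert24HC6.just495 J3Cert24HC6.check495

theorem valid497 : Valid 127232 :=
  valid496.step J3Cert24HC6.just496 J3Cert24HC6.check496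

theorem valid498 : Valid 127488 :=
  valid497.step J3Cert24HC6.just497 J3Cert24HC6.check497

theorem valid499 : Valid 127744 :=
  valid498.step J3Cert24HC6.just498 J3Cert24HC6.check498

theorem valid500 : Valid 128000 :=
  valid499.step J3Cert24HC6.just499 J3Cert24HC6.check499

theorem valid501 : Valid 128256 :=
  valid500.step J3Cert24HC6.just500 J3Cert24HC6.check500

theorem valid502 : Valid 128512 :=
  valid501.step J3Cert24HC6.just501 J3Cert24HC6.check501

theorem valid503 : Valid 128768 :=
  valid502.step J3Cert24HC6.just502 J3Cert24HC6.check502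

theorem valid504 : Valid 129024 :=
  valid503.step J3Cert24HC6.just503 J3Cert24HC6.check503

theorem valid505 : Valid 129280 :=
  valid504.step J3Cert24HC6.just504 J3Cert24HC6.check504

theorem valid506 : Valid 129536 :=
  valid505.step J3Cert24HC6.just505 J3Cert24HC6.check505

theorem valid507 : Valid 129792 :=
  valid506.step J3Cert24HC6.just506 J3Cert24HC6.check506

theorem valid508 : Valid 130048 :=
  valid507.step J3Cert24HC6.just507 J3Cert24HC6.check507

theorem valid509 : Valid 130304 :=
  valid508.step J3Cert24HC6.just508 J3Cert24HC6.check508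

theorem valid510 : Valid 130560 :=
  valid509.step J3Cert24HC6.just509 J3Cert24HC6.check509

theorem valid511 : Valid 130816 :=
  valid510.step J3Cert24HC6.just510 J3Cert24HC6.check510

theorem valid512 : Valid 131072 :=
  valid511.step J3Cert24HC6.just511 J3Cert24HC6.check511

theorem valid513 : Valid 131328 :=
  valid512.step J3Cert24HC6.just512 J3Cert24HC6.check512

theorem valid514 : Valid 131584 :=
  valid513.step J3Cert24HC6.just513 J3Cert24HC6.check513

theorem valid515 : Valid 131840 :=
  valid514.step J3Cert24HC6.just514 J3Cert24HC6.check514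

theorem valid516 : Valid 132096 :=
  valid515.step J3Cert24HC6.just515 J3Cert24HC6.check515

theorem valid517 : Valid 132352 :=
  valid516.step J3Cert24HC6.just516 J3Cert24HC6.check516

theorem valid518 : Valid 132608 :=
  valid517.step J3Cert24HC6.just517 J3Cert24HC6.check517

theorem valid519 : Valid 132864 :=
  valid518.step J3Cert24HC6.just518 J3Cert24HC6.check518

theorem valid520 : Valid 133120 :=
  valid519.step J3Cert24HC6.just519 J3Cert24HC6.check519

theorem valid521 : Valid 133376 :=
  valid520.step J3Cert24HC6.just520 J3Cert24HC6.check520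

theorem valid522 : Valid 133632 :=
  valid521.step J3Cert24HC6.just521 J3Cert24HC6.check521

theorem valid523 : Valid 133888 :=
  valid522.step J3Cert24HC6.just522 J3Cert24HC6.check522

theorem valid524 : Valid 134144 :=
  valid523.step J3Cert24HC6.just523 J3Cert24HC6.check523

theorem valid525 : Valid 134400 :=
  valid524.step J3Cert24HC6.just524 J3Cert24HC6.check524

theorem valid526 : Valid 134656 :=
  valid525.step J3Cert24HC6.just525 J3Cert24HC6.check525

theorem valid527 : Valid 134912 :=
  valid526.step J3Cert24HC6.just526 J3Cert24HC6.check526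

theorem valid528 : Valid 135168 :=
  valid527.step J3Cert24HC6.just527 J3Cert24HC6.check527

theorem valid529 : Valid 135424 :=
  valid528.step J3Cert24HC6.just528 J3Cert24HC6.check528

theorem valid530 : Valid 135680 :=
  valid529.step J3Cert24HC6.just529 J3Cert24HC6.check529

theorem valid531 : Valid 135936 :=
  valid530.step J3Cert24HC6.just530 J3Cert24HC6.check530

theorem valid532 : Valid 136192 :=
  valid531.step J3Cert24HC6.just531 J3Cert24HC6.check531

theorem valid533 : Valid 136448 :=
  valid532.step J3Cert24HC6.just532 J3Cert24HC6.check532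

theorem valid534 : Valid 136704 :=
  valid533.step J3Cert24HC6.just533 J3Cert24HC6.check533

theorem valid535 : Valid 136960 :=
  valid534.step J3Cert24HC6.just534 J3Cert24HC6.check534

theorem valid536 : Valid 137216 :=
  valid535.step J3Cert24HC6.just535 J3Cert24HC6.check535

theorem valid537 : Valid 137472 :=
  valid536.step J3Cert24HC6.just536 J3Cert24HC6.check536

theorem valid538 : Valid 137728 :=
  valid537.step J3Cert24HC6.just537 J3Cert24HC6.check537

theorem valid539 : Valid 137984 :=
  valid538.step J3Cert24HC6.just538 J3Cert24HC6.check538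

theorem valid540 : Valid 138240 :=
  valid539.step J3Cert24HC6.just539 J3Cert24HC6.check539

theorem valid541 : Valid 138496 :=
  valid540.step J3Cert24HC6.just540 J3Cert24HC6.check540

theorem valid542 : Valid 138752 :=
  valid541.step J3Cert24HC6.just541 J3Cert24HC6.check541

theorem valid543 : Valid 139008 :=
  valid542.step J3Cert24HC6.just542 J3Cert24HC6.check542

theorem valid544 : Valid 139264 :=
  valid543.step J3Cert24HC6.just543 J3Cert24HC6.check543

theorem valid545 : Valid 139520 :=
  valid544.step J3Cert24HC6.just544 J3Cert24HC6.check544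

theorem valid546 : Valid 139776 :=
  valid545.step J3Cert24HC6.just545 J3Cert24HC6.check545

theorem valid547 : Valid 140032 :=
  valid546.step J3Cert24HC6.just546 J3Cert24HC6.check546

theorem valid548 : Valid 140288 :=
  valid547.step J3Cert24HC6.just547 J3Cert24HC6.check547

theorem valid549 : Valid 140544 :=
  valid548.step J3Cert24HC6.just548 J3Cert24HC6.check548

theorem valid550 : Valid 140800 :=
  valid549.step J3Cert24HC6.just549 J3Cert24HC6.check549

theorem valid551 : Valid 141056 :=
  valid550.step J3Cert24HC6.just550 J3Cert24HC6.check550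

theorem valid552 : Valid 141312 :=
  valid551.step J3Cert24HC6.just551 J3Cert24HC6.check551

theorem valid553 : Valid 141568 :=
  valid552.step J3Cert24HC6.just552 J3Cert24HC6.check552

theorem valid554 : Valid 141824 :=
  valid553.step J3Cert24HC6.just553 J3Cert24HC6.check553

theorem valid555 : Valid 142080 :=
  valid554.step J3Cert24HC6.just554 J3Cert24HC6.check554

theorem valid556 : Valid 142336 :=
  valid555.step J3Cert24HC6.just555 J3Cert24HC6.check555

theorem valid557 : Valid 142592 :=
  valid556.step J3Cert24HC6.just556 J3Cert24HC6.check556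

theorem valid558 : Valid 142848 :=
  valid557.step J3Cert24HC6.just557 J3Cert24HC6.check557

theorem valid559 : Valid 143104 :=
  valid558.step J3Cert24HC6.just558 J3Cert24HC6.check558

theorem valid560 : Valid 143360 :=
  valid559.step J3Cert24HC6.just559 J3Cert24HC6.check559

theorem valid561 : Valid 143616 :=
  valid560.step J3Cert24HC7.just560 J3Cert24HC7.check560

theorem valid562 : Valid 143872 :=
  valid561.step J3Cert24HC7.just561 J3Cert24HC7.check561

theorem valid563 : Valid 144128 :=
  valid562.step J3Cert24HC7.just562 J3Cert24HC7.check562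

theorem valid564 : Valid 144384 :=
  valid563.step J3Cert24HC7.just563 J3Cert24HC7.check563

theorem valid565 : Valid 144640 :=
  valid564.step J3Cert24HC7.just564 J3Cert24HC7.check564

theorem valid566 : Valid 144896 :=
  valid565.step J3Cert24HC7.just565 J3Cert24HC7.check565

theorem valid567 : Valid 145152 :=
  valid566.step J3Cert24HC7.just566 J3Cert24HC7.check566

theorem valid568 : Valid 145408 :=
  valid567.step J3Cert24HC7.just567 J3Cert24HC7.check567

theorem valid569 : Valid 145664 :=
  valid568.step J3Cert24HC7.just568 J3Cert24HC7.check568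

theorem valid570 : Valid 145920 :=
  valid569.step J3Cert24HC7.just569 J3Cert24HC7.check569

theorem valid571 : Valid 146176 :=
  valid570.step J3Cert24HC7.just570 J3Cert24HC7.check570

theorem valid572 : Valid 146432 :=
  valid571.step J3Cert24HC7.just571 J3Cert24HC7.check571

theorem valid573 : Valid 146688 :=
  valid572.step J3Cert24HC7.just572 J3Cert24HC7.check572

theorem valid574 : Valid 146944 :=
  valid573.step J3Cert24HC7.just573 J3Cert24HC7.check573

theorem valid575 : Valid 147200 :=
  valid574.step J3Cert24HC7.just574 J3Cert24HC7.check574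

theorem valid576 : Valid 147456 :=
  valid575.step J3Cert24HC7.just575 J3Cert24HC7.check575

theorem valid577 : Valid 147712 :=
  valid576.step J3Cert24HC7.just576 J3Cert24HC7.check576

theorem valid578 : Valid 147968 :=
  valid577.step J3Cert24HC7.just577 J3Cert24HC7.check577

theorem valid579 : Valid 148224 :=
  valid578.step J3Cert24HC7.just578 J3Cert24HC7.check578

theorem valid580 : Valid 148480 :=
  valid579.step J3Cert24HC7.just579 J3Cert24HC7.check579

theorem valid581 : Valid 148736 :=
  valid580.step J3Cert24HC7.just580 J3Cert24HC7.check580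

theorem valid582 : Valid 148992 :=
  valid581.step J3Cert24HC7.just581 J3Cert24HC7.check581

theorem valid583 : Valid 149248 :=
  valid582.step J3Cert24HC7.just582 J3Cert24HC7.check582

theorem valid584 : Valid 149504 :=
  valid583.step J3Cert24HC7.just583 J3Cert24HC7.check583

theorem valid585 : Valid 149760 :=
  valid584.step J3Cert24HC7.just584 J3Cert24HC7.check584

theorem valid586 : Valid 150016 :=
  valid585.step J3Cert24HC7.just585 J3Cert24HC7.check585

theorem valid587 : Valid 150272 :=
  valid586.step J3Cert24HC7.just586 J3Cert24HC7.check586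

theorem valid588 : Valid 150528 :=
  valid587.step J3Cert24HC7.just587 J3Cert24HC7.check587

theorem valid589 : Valid 150784 :=
  valid588.step J3Cert24HC7.just588 J3Cert24HC7.check588

theorem valid590 : Valid 151040 :=
  valid589.step J3Cert24HC7.just589 J3Cert24HC7.check589

theorem valid591 : Valid 151296 :=
  valid590.step J3Cert24HC7.just590 J3Cert24HC7.check590

theorem valid592 : Valid 151552 :=
  valid591.step J3Cert24HC7.just591 J3Cert24HC7.check591

theorem valid593 : Valid 151808 :=
  valid592.step J3Cert24HC7.just592 J3Cert24HC7.check592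

theorem valid594 : Valid 152064 :=
  valid593.step J3Cert24HC7.just593 J3Cert24HC7.check593

theorem valid595 : Valid 152320 :=
  valid594.step J3Cert24HC7.just594 J3Cert24HC7.check594

theorem valid596 : Valid 152576 :=
  valid595.step J3Cert24HC7.just595 J3Cert24HC7.check595

theorem valid597 : Valid 152832 :=
  valid596.step J3Cert24HC7.just596 J3Cert24HC7.check596

theorem valid598 : Valid 153088 :=
  valid597.step J3Cert24HC7.just597 J3Cert24HC7.check597

theorem valid599 : Valid 153344 :=
  valid598.step J3Cert24HC7.just598 J3Cert24HC7.check598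

theorem valid600 : Valid 153600 :=
  valid599.step J3Cert24HC7.just599 J3Cert24HC7.check599

theorem valid601 : Valid 153856 :=
  valid600.step J3Cert24HC7.just600 J3Cert24HC7.check600

theorem valid602 : Valid 154112 :=
  valid601.step J3Cert24HC7.just601 J3Cert24HC7.check601

theorem valid603 : Valid 154368 :=
  valid602.step J3Cert24HC7.just602 J3Cert24HC7.check602

theorem valid604 : Valid 154624 :=
  valid603.step J3Cert24HC7.just603 J3Cert24HC7.check603

theorem valid605 : Valid 154880 :=
  valid604.step J3Cert24HC7.just604 J3Cert24HC7.check604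

theorem valid606 : Valid 155136 :=
  valid605.step J3Cert24HC7.just605 J3Cert24HC7.check605

theorem valid607 : Valid 155392 :=
  valid606.step J3Cert24HC7.just606 J3Cert24HC7.check606

theorem valid608 : Valid 155648 :=
  valid607.step J3Cert24HC7.just607 J3Cert24HC7.check607

theorem valid609 : Valid 155904 :=
  valid608.step J3Cert24HC7.just608 J3Cert24HC7.check608

theorem valid610 : Valid 156160 :=
  valid609.step J3Cert24HC7.just609 J3Cert24HC7.check609

theorem valid611 : Valid 156416 :=
  valid610.step J3Cert24HC7.just610 J3Cert24HC7.check610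

theorem valid612 : Valid 156672 :=
  valid611.step J3Cert24HC7.just611 J3Cert24HC7.check611

theorem valid613 : Valid 156928 :=
  valid612.step J3Cert24HC7.just612 J3Cert24HC7.check612

theorem valid614 : Valid 157184 :=
  valid613.step J3Cert24HC7.just613 J3Cert24HC7.check613

theorem valid615 : Valid 157440 :=
  valid614.step J3Cert24HC7.just614 J3Cert24HC7.check614

theorem valid616 : Valid 157696 :=
  valid615.step J3Cert24HC7.just615 J3Cert24HC7.check615

theorem valid617 : Valid 157952 :=
  valid616.step J3Cert24HC7.just616 J3Cert24HC7.check616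

theorem valid618 : Valid 158208 :=
  valid617.step J3Cert24HC7.just617 J3Cert24HC7.check617

theorem valid619 : Valid 158464 :=
  valid618.step J3Cert24HC7.just618 J3Cert24HC7.check618

theorem valid620 : Valid 158720 :=
  valid619.step J3Cert24HC7.just619 J3Cert24HC7.check619

theorem valid621 : Valid 158976 :=
  valid620.step J3Cert24HC7.just620 J3Cert24HC7.check620

theorem valid622 : Valid 159232 :=
  valid621.step J3Cert24HC7.just621 J3Cert24HC7.check621

theorem valid623 : Valid 159488 :=
  valid622.step J3Cert24HC7.just622 J3Cert24HC7.check622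

theorem valid624 : Valid 159744 :=
  valid623.step J3Cert24HC7.just623 J3Cert24HC7.check623

theorem valid625 : Valid 160000 :=
  valid624.step J3Cert24HC7.just624 J3Cert24HC7.check624

theorem valid626 : Valid 160256 :=
  valid625.step J3Cert24HC7.just625 J3Cert24HC7.check625

theorem valid627 : Valid 160512 :=
  valid626.step J3Cert24HC7.just626 J3Cert24HC7.check626

theorem valid628 : Valid 160768 :=
  valid627.step J3Cert24HC7.just627 J3Cert24HC7.check627

theorem valid629 : Valid 161024 :=
  valid628.step J3Cert24HC7.just628 J3Cert24HC7.check628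

theorem valid630 : Valid 161280 :=
  valid629.step J3Cert24HC7.just629 J3Cert24HC7.check629

theorem valid631 : Valid 161536 :=
  valid630.step J3Cert24HC7.just630 J3Cert24HC7.check630

theorem valid632 : Valid 161792 :=
  valid631.step J3Cert24HC7.just631 J3Cert24HC7.check631

theorem valid633 : Valid 162048 :=
  valid632.step J3Cert24HC7.just632 J3Cert24HC7.check632

theorem valid634 : Valid 162304 :=
  valid633.step J3Cert24HC7.just633 J3Cert24HC7.check633

theorem valid635 : Valid 162560 :=
  valid634.step J3Cert24HC7.just634 J3Cert24HC7.check634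

theorem valid636 : Valid 162816 :=
  valid635.step J3Cert24HC7.just635 J3Cert24HC7.check635

theorem valid637 : Valid 163072 :=
  valid636.step J3Cert24HC7.just636 J3Cert24HC7.check636

theorem valid638 : Valid 163328 :=
  valid637.step J3Cert24HC7.just637 J3Cert24HC7.check637

theorem valid639 : Valid 163584 :=
  valid638.step J3Cert24HC7.just638 J3Cert24HC7.check638

theorem valid640 : Valid 163840 :=
  valid639.step J3Cert24HC7.just639 J3Cert24HC7.check639

theorem valid641 : Valid 164096 :=
  valid640.step J3Cert24HC8.just640 J3Cert24HC8.check640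

theorem valid642 : Valid 164352 :=
  valid641.step J3Cert24HC8.just641 J3Cert24HC8.check641

theorem valid643 : Valid 164608 :=
  valid642.step J3Cert24HC8.just642 J3Cert24HC8.check642

theorem valid644 : Valid 164864 :=
  valid643.step J3Cert24HC8.just643 J3Cert24HC8.check643

theorem valid645 : Valid 165120 :=
  valid644.step J3Cert24HC8.just644 J3Cert24HC8.check644

theorem valid646 : Valid 165376 :=
  valid645.step J3Cert24HC8.just645 J3Cert24HC8.check645

theorem valid647 : Valid 165632 :=
  valid646.step J3Cert24HC8.just646 J3Cert24HC8.check646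

theorem valid648 : Valid 165888 :=
  valid647.step J3Cert24HC8.just647 J3Cert24HC8.check647

theorem valid649 : Valid 166144 :=
  valid648.step J3Cert24HC8.just648 J3Cert24HC8.check648

theorem valid650 : Valid 166400 :=
  valid649.step J3Cert24HC8.just649 J3Cert24HC8.check649

theorem valid651 : Valid 166656 :=
  valid650.step J3Cert24HC8.just650 J3Cert24HC8.check650

theorem valid652 : Valid 166912 :=
  valid651.step J3Cert24HC8.just651 J3Cert24HC8.check651

theorem valid653 : Valid 167168 :=
  valid652.step J3Cert24HC8.just652 J3Cert24HC8.check652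

theorem valid654 : Valid 167424 :=
  valid653.step J3Cert24HC8.just653 J3Cert24HC8.check653

theorem valid655 : Valid 167680 :=
  valid654.step J3Cert24HC8.just654 J3Cert24HC8.check654

theorem valid656 : Valid 167936 :=
  valid655.step J3Cert24HC8.just655 J3Cert24HC8.check655

theorem valid657 : Valid 168192 :=
  valid656.step J3Cert24HC8.just656 J3Cert24HC8.check656

theorem valid658 : Valid 168448 :=
  valid657.step J3Cert24HC8.just657 J3Cert24HC8.check657

theorem valid659 : Valid 168704 :=
  valid658.step J3Cert24HC8.just658 J3Cert24HC8.check658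

theorem valid660 : Valid 168960 :=
  valid659.step J3Cert24HC8.just659 J3Cert24HC8.check659

theorem valid661 : Valid 169216 :=
  valid660.step J3Cert24HC8.just660 J3Cert24HC8.check660

theorem valid662 : Valid 169472 :=
  valid661.step J3Cert24HC8.just661 J3Cert24HC8.check661

theorem valid663 : Valid 169728 :=
  valid662.step J3Cert24HC8.just662 J3Cert24HC8.check662

theorem valid664 : Valid 169984 :=
  valid663.step J3Cert24HC8.just663 J3Cert24HC8.check663

theorem valid665 : Valid 170240 :=
  valid664.step J3Cert24HC8.just664 J3Cert24HC8.check664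

theorem valid666 : Valid 170496 :=
  valid665.step J3Cert24HC8.just665 J3Cert24HC8.check665

theorem valid667 : Valid 170752 :=
  valid666.step J3Cert24HC8.just666 J3Cert24HC8.check666

theorem valid668 : Valid 171008 :=
  valid667.step J3Cert24HC8.just667 J3Cert24HC8.check667

theorem valid669 : Valid 171264 :=
  valid668.step J3Cert24HC8.just668 J3Cert24HC8.check668

theorem valid670 : Valid 171520 :=
  valid669.step J3Cert24HC8.just669 J3Cert24HC8.check669

theorem valid671 : Valid 171776 :=
  valid670.step J3Cert24HC8.just670 J3Cert24HC8.check670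

theorem valid672 : Valid 172032 :=
  valid671.step J3Cert24HC8.just671 J3Cert24HC8.check671

theorem valid673 : Valid 172288 :=
  valid672.step J3Cert24HC8.just672 J3Cert24HC8.check672

theorem valid674 : Valid 172544 :=
  valid673.step J3Cert24HC8.just673 J3Cert24HC8.check673

theorem valid675 : Valid 172800 :=
  valid674.step J3Cert24HC8.just674 J3Cert24HC8.check674

theorem valid676 : Valid 173056 :=
  valid675.step J3Cert24HC8.just675 J3Cert24HC8.check675

theorem valid677 : Valid 173312 :=
  valid676.step J3Cert24HC8.just676 J3Cert24HC8.check676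

theorem valid678 : Valid 173568 :=
  valid677.step J3Cert24HC8.just677 J3Cert24HC8.check677

theorem valid679 : Valid 173824 :=
  valid678.step J3Cert24HC8.just678 J3Cert24HC8.check678

theorem valid680 : Valid 174080 :=
  valid679.step J3Cert24HC8.just679 J3Cert24HC8.check679

theorem valid681 : Valid 174336 :=
  valid680.step J3Cert24HC8.just680 J3Cert24HC8.check680

theorem valid682 : Valid 174592 :=
  valid681.step J3Cert24HC8.just681 J3Cert24HC8.check681

theorem valid683 : Valid 174848 :=
  valid682.step J3Cert24HC8.just682 J3Cert24HC8.check682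

theorem valid684 : Valid 175104 :=
  valid683.step J3Cert24HC8.just683 J3Cert24HC8.check683

theorem valid685 : Valid 175360 :=
  valid684.step J3Cert24HC8.just684 J3Cert24HC8.check684

theorem valid686 : Valid 175616 :=
  valid685.step J3Cert24HC8.just685 J3Cert24HC8.check685

theorem valid687 : Valid 175872 :=
  valid686.step J3Cert24HC8.just686 J3Cert24HC8.check686

theorem valid688 : Valid 176128 :=
  valid687.step J3Cert24HC8.just687 J3Cert24HC8.check687

theorem valid689 : Valid 176384 :=
  valid688.step J3Cert24HC8.just688 J3Cert24HC8.check688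

theorem valid690 : Valid 176640 :=
  valid689.step J3Cert24HC8.just689 J3Cert24HC8.check689

theorem valid691 : Valid 176896 :=
  valid690.step J3Cert24HC8.just690 J3Cert24HC8.check690

theorem valid692 : Valid 177152 :=
  valid691.step J3Cert24HC8.just691 J3Cert24HC8.check691

theorem valid693 : Valid 177408 :=
  valid692.step J3Cert24HC8.just692 J3Cert24HC8.check692

theorem valid694 : Valid 177664 :=
  valid693.step J3Cert24HC8.just693 J3Cert24HC8.check693

theorem valid695 : Valid 177920 :=
  valid694.step J3Cert24HC8.just694 J3Cert24HC8.check694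

theorem valid696 : Valid 178176 :=
  valid695.step J3Cert24HC8.just695 J3Cert24HC8.check695

theorem valid697 : Valid 178432 :=
  valid696.step J3Cert24HC8.just696 J3Cert24HC8.check696

theorem valid698 : Valid 178688 :=
  valid697.step J3Cert24HC8.just697 J3Cert24HC8.check697

theorem valid699 : Valid 178944 :=
  valid698.step J3Cert24HC8.just698 J3Cert24HC8.check698

theorem valid700 : Valid 179200 :=
  valid699.step J3Cert24HC8.just699 J3Cert24HC8.check699

theorem valid701 : Valid 179456 :=
  valid700.step J3Cert24HC8.just700 J3Cert24HC8.check700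

theorem valid702 : Valid 179712 :=
  valid701.step J3Cert24HC8.just701 J3Cert24HC8.check701

theorem valid703 : Valid 179968 :=
  valid702.step J3Cert24HC8.just702 J3Cert24HC8.check702

theorem valid704 : Valid 180224 :=
  valid703.step J3Cert24HC8.just703 J3Cert24HC8.check703

theorem valid705 : Valid 180480 :=
  valid704.step J3Cert24HC8.just704 J3Cert24HC8.check704

theorem valid706 : Valid 180736 :=
  valid705.step J3Cert24HC8.just705 J3Cert24HC8.check705

theorem valid707 : Valid 180992 :=
  valid706.step J3Cert24HC8.just706 J3Cert24HC8.check706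

theorem valid708 : Valid 181248 :=
  valid707.step J3Cert24HC8.just707 J3Cert24HC8.check707

theorem valid709 : Valid 181504 :=
  valid708.step J3Cert24HC8.just708 J3Cert24HC8.check708

theorem valid710 : Valid 181760 :=
  valid709.step J3Cert24HC8.just709 J3Cert24HC8.check709

theorem valid711 : Valid 182016 :=
  valid710.step J3Cert24HC8.just710 J3Cert24HC8.check710

theorem valid712 : Valid 182272 :=
  valid711.step J3Cert24HC8.just711 J3Cert24HC8.check711

theorem valid713 : Valid 182528 :=
  valid712.step J3Cert24HC8.just712 J3Cert24HC8.check712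

theorem valid714 : Valid 182784 :=
  valid713.step J3Cert24HC8.just713 J3Cert24HC8.check713

theorem valid715 : Valid 183040 :=
  valid714.step J3Cert24HC8.just714 J3Cert24HC8.check714

theorem valid716 : Valid 183296 :=
  valid715.step J3Cert24HC8.just715 J3Cert24HC8.check715

theorem valid717 : Valid 183552 :=
  valid716.step J3Cert24HC8.just716 J3Cert24HC8.check716

theorem valid718 : Valid 183808 :=
  valid717.step J3Cert24HC8.just717 J3Cert24HC8.check717

theorem valid719 : Valid 184064 :=
  valid718.step J3Cert24HC8.just718 J3Cert24HC8.check718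

theorem valid720 : Valid 184320 :=
  valid719.step J3Cert24HC8.just719 J3Cert24HC8.check719

theorem valid721 : Valid 184576 :=
  valid720.step J3Cert24HC9.just720 J3Cert24HC9.check720

theorem valid722 : Valid 184832 :=
  valid721.step J3Cert24HC9.just721 J3Cert24HC9.check721

theorem valid723 : Valid 185088 :=
  valid722.step J3Cert24HC9.just722 J3Cert24HC9.check722

theorem valid724 : Valid 185344 :=
  valid723.step J3Cert24HC9.just723 J3Cert24HC9.check723

theorem valid725 : Valid 185600 :=
  valid724.step J3Cert24HC9.just724 J3Cert24HC9.check724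

theorem valid726 : Valid 185856 :=
  valid725.step J3Cert24HC9.just725 J3Cert24HC9.check725

theorem valid727 : Valid 186112 :=
  valid726.step J3Cert24HC9.just726 J3Cert24HC9.check726

theorem valid728 : Valid 186368 :=
  valid727.step J3Cert24HC9.just727 J3Cert24HC9.check727

theorem valid729 : Valid 186624 :=
  valid728.step J3Cert24HC9.just728 J3Cert24HC9.check728

theorem valid730 : Valid 186880 :=
  valid729.step J3Cert24HC9.just729 J3Cert24HC9.check729

theorem valid731 : Valid 187136 :=
  valid730.step J3Cert24HC9.just730 J3Cert24HC9.check730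

theorem valid732 : Valid 187392 :=
  valid731.step J3Cert24HC9.just731 J3Cert24HC9.check731

theorem valid733 : Valid 187648 :=
  valid732.step J3Cert24HC9.just732 J3Cert24HC9.check732

theorem valid734 : Valid 187904 :=
  valid733.step J3Cert24HC9.just733 J3Cert24HC9.check733

theorem valid735 : Valid 188160 :=
  valid734.step J3Cert24HC9.just734 J3Cert24HC9.check734

theorem valid736 : Valid 188416 :=
  valid735.step J3Cert24HC9.just735 J3Cert24HC9.check735

theorem valid737 : Valid 188672 :=
  valid736.step J3Cert24HC9.just736 J3Cert24HC9.check736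

theorem valid738 : Valid 188928 :=
  valid737.step J3Cert24HC9.just737 J3Cert24HC9.check737

theorem valid739 : Valid 189184 :=
  valid738.step J3Cert24HC9.just738 J3Cert24HC9.check738

theorem valid740 : Valid 189440 :=
  valid739.step J3Cert24HC9.just739 J3Cert24HC9.check739

theorem valid741 : Valid 189696 :=
  valid740.step J3Cert24HC9.just740 J3Cert24HC9.check740

theorem valid742 : Valid 189952 :=
  valid741.step J3Cert24HC9.just741 J3Cert24HC9.check741

theorem valid743 : Valid 190208 :=
  valid742.step J3Cert24HC9.just742 J3Cert24HC9.check742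

theorem valid744 : Valid 190464 :=
  valid743.step J3Cert24HC9.just743 J3Cert24HC9.check743

theorem valid745 : Valid 190720 :=
  valid744.step J3Cert24HC9.just744 J3Cert24HC9.check744

theorem valid746 : Valid 190976 :=
  valid745.step J3Cert24HC9.just745 J3Cert24HC9.check745

theorem valid747 : Valid 191232 :=
  valid746.step J3Cert24HC9.just746 J3Cert24HC9.check746

theorem valid748 : Valid 191488 :=
  valid747.step J3Cert24HC9.just747 J3Cert24HC9.check747

theorem valid749 : Valid 191744 :=
  valid748.step J3Cert24HC9.just748 J3Cert24HC9.check748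

theorem valid750 : Valid 192000 :=
  valid749.step J3Cert24HC9.just749 J3Cert24HC9.check749

theorem valid751 : Valid 192256 :=
  valid750.step J3Cert24HC9.just750 J3Cert24HC9.check750

theorem valid752 : Valid 192512 :=
  valid751.step J3Cert24HC9.just751 J3Cert24HC9.check751

theorem valid753 : Valid 192768 :=
  valid752.step J3Cert24HC9.just752 J3Cert24HC9.check752

theorem valid754 : Valid 193024 :=
  valid753.step J3Cert24HC9.just753 J3Cert24HC9.check753

theorem valid755 : Valid 193280 :=
  valid754.step J3Cert24HC9.just754 J3Cert24HC9.check754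

theorem valid756 : Valid 193536 :=
  valid755.step J3Cert24HC9.just755 J3Cert24HC9.check755

theorem valid757 : Valid 193792 :=
  valid756.step J3Cert24HC9.just756 J3Cert24HC9.check756

theorem valid758 : Valid 194048 :=
  valid757.step J3Cert24HC9.just757 J3Cert24HC9.check757

theorem valid759 : Valid 194304 :=
  valid758.step J3Cert24HC9.just758 J3Cert24HC9.check758

theorem valid760 : Valid 194560 :=
  valid759.step J3Cert24HC9.just759 J3Cert24HC9.check759

theorem valid761 : Valid 194816 :=
  valid760.step J3Cert24HC9.just760 J3Cert24HC9.check760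

theorem valid762 : Valid 195072 :=
  valid761.step J3Cert24HC9.just761 J3Cert24HC9.check761

theorem valid763 : Valid 195328 :=
  valid762.step J3Cert24HC9.just762 J3Cert24HC9.check762

theorem valid764 : Valid 195584 :=
  valid763.step J3Cert24HC9.just763 J3Cert24HC9.check763

theorem valid765 : Valid 195840 :=
  valid764.step J3Cert24HC9.just764 J3Cert24HC9.check764

theorem valid766 : Valid 196096 :=
  valid765.step J3Cert24HC9.just765 J3Cert24HC9.check765

theorem valid767 : Valid 196352 :=
  valid766.step J3Cert24HC9.just766 J3Cert24HC9.check766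

theorem valid768 : Valid 196608 :=
  valid767.step J3Cert24HC9.just767 J3Cert24HC9.check767

theorem valid769 : Valid 196864 :=
  valid768.step J3Cert24HC9.just768 J3Cert24HC9.check768

theorem valid770 : Valid 197120 :=
  valid769.step J3Cert24HC9.just769 J3Cert24HC9.check769

theorem valid771 : Valid 197376 :=
  valid770.step J3Cert24HC9.just770 J3Cert24HC9.check770

theorem valid772 : Valid 197632 :=
  valid771.step J3Cert24HC9.just771 J3Cert24HC9.check771

theorem valid773 : Valid 197888 :=
  valid772.step J3Cert24HC9.just772 J3Cert24HC9.check772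

theorem valid774 : Valid 198144 :=
  valid773.step J3Cert24HC9.just773 J3Cert24HC9.check773

theorem valid775 : Valid 198400 :=
  valid774.step J3Cert24HC9.just774 J3Cert24HC9.check774

theorem valid776 : Valid 198656 :=
  valid775.step J3Cert24HC9.just775 J3Cert24HC9.check775

theorem valid777 : Valid 198912 :=
  valid776.step J3Cert24HC9.just776 J3Cert24HC9.check776

theorem valid778 : Valid 199168 :=
  valid777.step J3Cert24HC9.just777 J3Cert24HC9.check777

theorem valid779 : Valid 199424 :=
  valid778.step J3Cert24HC9.just778 J3Cert24HC9.check778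

theorem valid780 : Valid 199680 :=
  valid779.step J3Cert24HC9.just779 J3Cert24HC9.check779

theorem valid781 : Valid 199936 :=
  valid780.step J3Cert24HC9.just780 J3Cert24HC9.check780

theorem valid782 : Valid 200192 :=
  valid781.step J3Cert24HC9.just781 J3Cert24HC9.check781

theorem valid783 : Valid 200448 :=
  valid782.step J3Cert24HC9.just782 J3Cert24HC9.check782

theorem valid784 : Valid 200704 :=
  valid783.step J3Cert24HC9.just783 J3Cert24HC9.check783

theorem valid785 : Valid 200960 :=
  valid784.step J3Cert24HC9.just784 J3Cert24HC9.check784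

theorem valid786 : Valid 201216 :=
  valid785.step J3Cert24HC9.just785 J3Cert24HC9.check785

theorem valid787 : Valid 201472 :=
  valid786.step J3Cert24HC9.just786 J3Cert24HC9.check786

theorem valid788 : Valid 201728 :=
  valid787.step J3Cert24HC9.just787 J3Cert24HC9.check787

theorem valid789 : Valid 201984 :=
  valid788.step J3Cert24HC9.just788 J3Cert24HC9.check788

theorem valid790 : Valid 202240 :=
  valid789.step J3Cert24HC9.just789 J3Cert24HC9.check789

theorem valid791 : Valid 202496 :=
  valid790.step J3Cert24HC9.just790 J3Cert24HC9.check790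

theorem valid792 : Valid 202752 :=
  valid791.step J3Cert24HC9.just791 J3Cert24HC9.check791

theorem valid793 : Valid 203008 :=
  valid792.step J3Cert24HC9.just792 J3Cert24HC9.check792

theorem valid794 : Valid 203264 :=
  valid793.step J3Cert24HC9.just793 J3Cert24HC9.check793

theorem valid795 : Valid 203520 :=
  valid794.step J3Cert24HC9.just794 J3Cert24HC9.check794

theorem valid796 : Valid 203776 :=
  valid795.step J3Cert24HC9.just795 J3Cert24HC9.check795

theorem valid797 : Valid 204032 :=
  valid796.step J3Cert24HC9.just796 J3Cert24HC9.check796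

theorem valid798 : Valid 204288 :=
  valid797.step J3Cert24HC9.just797 J3Cert24HC9.check797

theorem valid799 : Valid 204544 :=
  valid798.step J3Cert24HC9.just798 J3Cert24HC9.check798

theorem valid800 : Valid 204800 :=
  valid799.step J3Cert24HC9.just799 J3Cert24HC9.check799

theorem valid801 : Valid 205056 :=
  valid800.step J3Cert24HC10.just800 J3Cert24HC10.check800

theorem valid802 : Valid 205312 :=
  valid801.step J3Cert24HC10.just801 J3Cert24HC10.check801

theorem valid803 : Valid 205568 :=
  valid802.step J3Cert24HC10.just802 J3Cert24HC10.check802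

theorem valid804 : Valid 205824 :=
  valid803.step J3Cert24HC10.just803 J3Cert24HC10.check803

theorem valid805 : Valid 206080 :=
  valid804.step J3Cert24HC10.just804 J3Cert24HC10.check804

theorem valid806 : Valid 206336 :=
  valid805.step J3Cert24HC10.just805 J3Cert24HC10.check805

theorem valid807 : Valid 206592 :=
  valid806.step J3Cert24HC10.just806 J3Cert24HC10.check806

theorem valid808 : Valid 206848 :=
  valid807.step J3Cert24HC10.just807 J3Cert24HC10.check807

theorem valid809 : Valid 207104 :=
  valid808.step J3Cert24HC10.just808 J3Cert24HC10.check808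

theorem valid810 : Valid 207360 :=
  valid809.step J3Cert24HC10.just809 J3Cert24HC10.check809

theorem valid811 : Valid 207616 :=
  valid810.step J3Cert24HC10.just810 J3Cert24HC10.check810

theorem valid812 : Valid 207872 :=
  valid811.step J3Cert24HC10.just811 J3Cert24HC10.check811

theorem valid813 : Valid 208128 :=
  valid812.step J3Cert24HC10.just812 J3Cert24HC10.check812

theorem valid814 : Valid 208384 :=
  valid813.step J3Cert24HC10.just813 J3Cert24HC10.check813

theorem valid815 : Valid 208640 :=
  valid814.step J3Cert24HC10.just814 J3Cert24HC10.check814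

theorem valid816 : Valid 208896 :=
  valid815.step J3Cert24HC10.just815 J3Cert24HC10.check815

theorem valid817 : Valid 209152 :=
  valid816.step J3Cert24HC10.just816 J3Cert24HC10.check816

theorem valid818 : Valid 209408 :=
  valid817.step J3Cert24HC10.just817 J3Cert24HC10.check817

theorem valid819 : Valid 209664 :=
  valid818.step J3Cert24HC10.just818 J3Cert24HC10.check818

theorem valid820 : Valid 209920 :=
  valid819.step J3Cert24HC10.just819 J3Cert24HC10.check819

theorem valid821 : Valid 210176 :=
  valid820.step J3Cert24HC10.just820 J3Cert24HC10.check820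

theorem valid822 : Valid 210432 :=
  valid821.step J3Cert24HC10.just821 J3Cert24HC10.check821

theorem valid823 : Valid 210688 :=
  valid822.step J3Cert24HC10.just822 J3Cert24HC10.check822

theorem valid824 : Valid 210944 :=
  valid823.step J3Cert24HC10.just823 J3Cert24HC10.check823

theorem valid825 : Valid 211200 :=
  valid824.step J3Cert24HC10.just824 J3Cert24HC10.check824

theorem valid826 : Valid 211456 :=
  valid825.step J3Cert24HC10.just825 J3Cert24HC10.check825

theorem valid827 : Valid 211712 :=
  valid826.step J3Cert24HC10.just826 J3Cert24HC10.check826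

theorem valid828 : Valid 211968 :=
  valid827.step J3Cert24HC10.just827 J3Cert24HC10.check827

theorem valid829 : Valid 212224 :=
  valid828.step J3Cert24HC10.just828 J3Cert24HC10.check828

theorem valid830 : Valid 212480 :=
  valid829.step J3Cert24HC10.just829 J3Cert24HC10.check829

theorem valid831 : Valid 212736 :=
  valid830.step J3Cert24HC10.just830 J3Cert24HC10.check830

theorem valid832 : Valid 212992 :=
  valid831.step J3Cert24HC10.just831 J3Cert24HC10.check831

theorem valid833 : Valid 213248 :=
  valid832.step J3Cert24HC10.just832 J3Cert24HC10.check832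

theorem valid834 : Valid 213504 :=
  valid833.step J3Cert24HC10.just833 J3Cert24HC10.check833

theorem valid835 : Valid 213760 :=
  valid834.step J3Cert24HC10.just834 J3Cert24HC10.check834

theorem valid836 : Valid 214016 :=
  valid835.step J3Cert24HC10.just835 J3Cert24HC10.check835

theorem valid837 : Valid 214272 :=
  valid836.step J3Cert24HC10.just836 J3Cert24HC10.check836

theorem valid838 : Valid 214528 :=
  valid837.step J3Cert24HC10.just837 J3Cert24HC10.check837

theorem valid839 : Valid 214784 :=
  valid838.step J3Cert24HC10.just838 J3Cert24HC10.check838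

theorem valid840 : Valid 215040 :=
  valid839.step J3Cert24HC10.just839 J3Cert24HC10.check839

theorem valid841 : Valid 215296 :=
  valid840.step J3Cert24HC10.just840 J3Cert24HC10.check840

theorem valid842 : Valid 215552 :=
  valid841.step J3Cert24HC10.just841 J3Cert24HC10.check841

theorem valid843 : Valid 215808 :=
  valid842.step J3Cert24HC10.just842 J3Cert24HC10.check842

theorem valid844 : Valid 216064 :=
  valid843.step J3Cert24HC10.just843 J3Cert24HC10.check843

theorem valid845 : Valid 216320 :=
  valid844.step J3Cert24HC10.just844 J3Cert24HC10.check844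

theorem valid846 : Valid 216576 :=
  valid845.step J3Cert24HC10.just845 J3Cert24HC10.check845

theorem valid847 : Valid 216832 :=
  valid846.step J3Cert24HC10.just846 J3Cert24HC10.check846

theorem valid848 : Valid 217088 :=
  valid847.step J3Cert24HC10.just847 J3Cert24HC10.check847

theorem valid849 : Valid 217344 :=
  valid848.step J3Cert24HC10.just848 J3Cert24HC10.check848

theorem valid850 : Valid 217600 :=
  valid849.step J3Cert24HC10.just849 J3Cert24HC10.check849

theorem valid851 : Valid 217856 :=
  valid850.step J3Cert24HC10.just850 J3Cert24HC10.check850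

theorem valid852 : Valid 218112 :=
  valid851.step J3Cert24HC10.just851 J3Cert24HC10.check851

theorem valid853 : Valid 218368 :=
  valid852.step J3Cert24HC10.just852 J3Cert24HC10.check852

theorem valid854 : Valid 218624 :=
  valid853.step J3Cert24HC10.just853 J3Cert24HC10.check853

theorem valid855 : Valid 218880 :=
  valid854.step J3Cert24HC10.just854 J3Cert24HC10.check854

theorem valid856 : Valid 219136 :=
  valid855.step J3Cert24HC10.just855 J3Cert24HC10.check855

theorem valid857 : Valid 219392 :=
  valid856.step J3Cert24HC10.just856 J3Cert24HC10.check856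

theorem valid858 : Valid 219648 :=
  valid857.step J3Cert24HC10.just857 J3Cert24HC10.check857

theorem valid859 : Valid 219904 :=
  valid858.step J3Cert24HC10.just858 J3Cert24HC10.check858

theorem valid860 : Valid 220160 :=
  valid859.step J3Cert24HC10.just859 J3Cert24HC10.check859

theorem valid861 : Valid 220416 :=
  valid860.step J3Cert24HC10.just860 J3Cert24HC10.check860

theorem valid862 : Valid 220672 :=
  valid861.step J3Cert24HC10.just861 J3Cert24HC10.check861

theorem valid863 : Valid 220928 :=
  valid862.step J3Cert24HC10.just862 J3Cert24HC10.check862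

theorem valid864 : Valid 221184 :=
  valid863.step J3Cert24HC10.just863 J3Cert24HC10.check863

theorem valid865 : Valid 221440 :=
  valid864.step J3Cert24HC10.just864 J3Cert24HC10.check864

theorem valid866 : Valid 221696 :=
  valid865.step J3Cert24HC10.just865 J3Cert24HC10.check865

theorem valid867 : Valid 221952 :=
  valid866.step J3Cert24HC10.just866 J3Cert24HC10.check866

theorem valid868 : Valid 222208 :=
  valid867.step J3Cert24HC10.just867 J3Cert24HC10.check867

theorem valid869 : Valid 222464 :=
  valid868.step J3Cert24HC10.just868 J3Cert24HC10.check868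

theorem valid870 : Valid 222720 :=
  valid869.step J3Cert24HC10.just869 J3Cert24HC10.check869

theorem valid871 : Valid 222976 :=
  valid870.step J3Cert24HC10.just870 J3Cert24HC10.check870

theorem valid872 : Valid 223232 :=
  valid871.step J3Cert24HC10.just871 J3Cert24HC10.check871

theorem valid873 : Valid 223488 :=
  valid872.step J3Cert24HC10.just872 J3Cert24HC10.check872

theorem valid874 : Valid 223744 :=
  valid873.step J3Cert24HC10.just873 J3Cert24HC10.check873

theorem valid875 : Valid 224000 :=
  valid874.step J3Cert24HC10.just874 J3Cert24HC10.check874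

theorem valid876 : Valid 224256 :=
  valid875.step J3Cert24HC10.just875 J3Cert24HC10.check875

theorem valid877 : Valid 224512 :=
  valid876.step J3Cert24HC10.just876 J3Cert24HC10.check876

theorem valid878 : Valid 224768 :=
  valid877.step J3Cert24HC10.just877 J3Cert24HC10.check877

theorem valid879 : Valid 225024 :=
  valid878.step J3Cert24HC10.just878 J3Cert24HC10.check878

theorem valid880 : Valid 225280 :=
  valid879.step J3Cert24HC10.just879 J3Cert24HC10.check879

theorem valid881 : Valid 225536 :=
  valid880.step J3Cert24HC11.just880 J3Cert24HC11.check880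

theorem valid882 : Valid 225792 :=
  valid881.step J3Cert24HC11.just881 J3Cert24HC11.check881

theorem valid883 : Valid 226048 :=
  valid882.step J3Cert24HC11.just882 J3Cert24HC11.check882

theorem valid884 : Valid 226304 :=
  valid883.step J3Cert24HC11.just883 J3Cert24HC11.check883

theorem valid885 : Valid 226560 :=
  valid884.step J3Cert24HC11.just884 J3Cert24HC11.check884

theorem valid886 : Valid 226816 :=
  valid885.step J3Cert24HC11.just885 J3Cert24HC11.check885

theorem valid887 : Valid 227072 :=
  valid886.step J3Cert24HC11.just886 J3Cert24HC11.check886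

theorem valid888 : Valid 227328 :=
  valid887.step J3Cert24HC11.just887 J3Cert24HC11.check887

theorem valid889 : Valid 227584 :=
  valid888.step J3Cert24HC11.just888 J3Cert24HC11.check888

theorem valid890 : Valid 227840 :=
  valid889.step J3Cert24HC11.just889 J3Cert24HC11.check889

theorem valid891 : Valid 228096 :=
  valid890.step J3Cert24HC11.just890 J3Cert24HC11.check890

theorem valid892 : Valid 228352 :=
  valid891.step J3Cert24HC11.just891 J3Cert24HC11.check891

theorem valid893 : Valid 228608 :=
  valid892.step J3Cert24HC11.just892 J3Cert24HC11.check892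

theorem valid894 : Valid 228864 :=
  valid893.step J3Cert24HC11.just893 J3Cert24HC11.check893

theorem valid895 : Valid 229120 :=
  valid894.step J3Cert24HC11.just894 J3Cert24HC11.check894

theorem valid896 : Valid 229376 :=
  valid895.step J3Cert24HC11.just895 J3Cert24HC11.check895

theorem valid897 : Valid 229632 :=
  valid896.step J3Cert24HC11.just896 J3Cert24HC11.check896

theorem valid898 : Valid 229888 :=
  valid897.step J3Cert24HC11.just897 J3Cert24HC11.check897

theorem valid899 : Valid 230144 :=
  valid898.step J3Cert24HC11.just898 J3Cert24HC11.check898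

theorem valid900 : Valid 230400 :=
  valid899.step J3Cert24HC11.just899 J3Cert24HC11.check899

theorem valid901 : Valid 230656 :=
  valid900.step J3Cert24HC11.just900 J3Cert24HC11.check900

theorem valid902 : Valid 230912 :=
  valid901.step J3Cert24HC11.just901 J3Cert24HC11.check901

theorem valid903 : Valid 231168 :=
  valid902.step J3Cert24HC11.just902 J3Cert24HC11.check902

theorem valid904 : Valid 231424 :=
  valid903.step J3Cert24HC11.just903 J3Cert24HC11.check903

theorem valid905 : Valid 231680 :=
  valid904.step J3Cert24HC11.just904 J3Cert24HC11.check904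

theorem valid906 : Valid 231936 :=
  valid905.step J3Cert24HC11.just905 J3Cert24HC11.check905

theorem valid907 : Valid 232192 :=
  valid906.step J3Cert24HC11.just906 J3Cert24HC11.check906

theorem valid908 : Valid 232448 :=
  valid907.step J3Cert24HC11.just907 J3Cert24HC11.check907

theorem valid909 : Valid 232704 :=
  valid908.step J3Cert24HC11.just908 J3Cert24HC11.check908

theorem valid910 : Valid 232960 :=
  valid909.step J3Cert24HC11.just909 J3Cert24HC11.check909

theorem valid911 : Valid 233216 :=
  valid910.step J3Cert24HC11.just910 J3Cert24HC11.check910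

theorem valid912 : Valid 233472 :=
  valid911.step J3Cert24HC11.just911 J3Cert24HC11.check911

theorem valid913 : Valid 233728 :=
  valid912.step J3Cert24HC11.just912 J3Cert24HC11.check912

theorem valid914 : Valid 233984 :=
  valid913.step J3Cert24HC11.just913 J3Cert24HC11.check913

theorem valid915 : Valid 234240 :=
  valid914.step J3Cert24HC11.just914 J3Cert24HC11.check914

theorem valid916 : Valid 234496 :=
  valid915.step J3Cert24HC11.just915 J3Cert24HC11.check915

theorem valid917 : Valid 234752 :=
  valid916.step J3Cert24HC11.just916 J3Cert24HC11.check916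

theorem valid918 : Valid 235008 :=
  valid917.step J3Cert24HC11.just917 J3Cert24HC11.check917

theorem valid919 : Valid 235264 :=
  valid918.step J3Cert24HC11.just918 J3Cert24HC11.check918

theorem valid920 : Valid 235520 :=
  valid919.step J3Cert24HC11.just919 J3Cert24HC11.check919

theorem valid921 : Valid 235776 :=
  valid920.step J3Cert24HC11.just920 J3Cert24HC11.check920

theorem valid922 : Valid 236032 :=
  valid921.step J3Cert24HC11.just921 J3Cert24HC11.check921

theorem valid923 : Valid 236288 :=
  valid922.step J3Cert24HC11.just922 J3Cert24HC11.check922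

theorem valid924 : Valid 236544 :=
  valid923.step J3Cert24HC11.just923 J3Cert24HC11.check923

theorem valid925 : Valid 236800 :=
  valid924.step J3Cert24HC11.just924 J3Cert24HC11.check924

theorem valid926 : Valid 237056 :=
  valid925.step J3Cert24HC11.just925 J3Cert24HC11.check925

theorem valid927 : Valid 237312 :=
  valid926.step J3Cert24HC11.just926 J3Cert24HC11.check926

theorem valid928 : Valid 237568 :=
  valid927.step J3Cert24HC11.just927 J3Cert24HC11.check927

theorem valid929 : Valid 237824 :=
  valid928.step J3Cert24HC11.just928 J3Cert24HC11.check928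

theorem valid930 : Valid 238080 :=
  valid929.step J3Cert24HC11.just929 J3Cert24HC11.check929

theorem valid931 : Valid 238336 :=
  valid930.step J3Cert24HC11.just930 J3Cert24HC11.check930

theorem valid932 : Valid 238592 :=
  valid931.step J3Cert24HC11.just931 J3Cert24HC11.check931

theorem valid933 : Valid 238848 :=
  valid932.step J3Cert24HC11.just932 J3Cert24HC11.check932

theorem valid934 : Valid 239104 :=
  valid933.step J3Cert24HC11.just933 J3Cert24HC11.check933

theorem valid935 : Valid 239360 :=
  valid934.step J3Cert24HC11.just934 J3Cert24HC11.check934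

theorem valid936 : Valid 239616 :=
  valid935.step J3Cert24HC11.just935 J3Cert24HC11.check935

theorem valid937 : Valid 239685 :=
  valid936.step J3Cert24HC11.just936 J3Cert24HC11.check936

/-- The loops close. -/
theorem loops_ok : loops.all (fun t =>
    optAll (CosetCertFlip66.walk cert.fact 239685 t.2.1 t.2.2 0 t.1) fun r => Nat.beq r 0) = true := by
  decide +kernel

/-- All facts hold. -/
theorem valid : Valid 239685 := valid937

end Cfsg.Agent.J3Cert24H
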