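import Cfsg.Agent.Lib.J3Cert24LData

/-! Enumeration over the subgroup of order 8160: edges. -/

set_option autoImplicit false
set_option maxRecDepth 100000
set_option maxHeartbeats 0
set_option Elab.async false

namespace Cfsg.Agent.J3Cert24LP0

open Cfsg.Agent.CosetCertCore Cfsg.Agent.CosetCertTable Cfsg.Agent.CosetCertFlip66
open Cfsg.Agent.J3Cert24LData

theorem points0 : allFrom (edgesOk cert 82721 table) 256 0 = true := by decide +kernel

theorem points1 : allFrom (edgesOk cert 82721 table) 256 256 = true := by decide +kernel

theorem points2 : allFrom (edgesOk cert 82721 table) 256 512 = true := by decide +kernel

theorem points3 : allFrom (edgesOk cert 82721 table) 256 768 = true := by decide +kernel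

theorem points4 : allFrom (edgesOk cert 82721 table) 256 1024 = true := by decide +kernel

theorem points5 : allFrom (edgesOk cert 82721 table) 256 1280 = true := by decide +kernel

theorem points6 : allFrom (edgesOk cert 82721 table) 256 1536 = true := by decide +kernel

theorem points7 : allFrom (edgesOk cert 82721 table) 256 1792 = true := by decide +kernel

theorem points8 : allFrom (edgesOk cert 82721 table) 256 2048 = true := by decide +kernel

theorem points9 : allFrom (edgesOk cert 82721 table) 256 2304 = true := by decide +kernel

theorem points10 : allFrom (edgesOk cert 82721 table) 256 2560 = true := by decide +kernel

theorem points11 : allFrom (edgesOk cert 82721 table) 256 2816 = true := by decide +kernel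

theorem points12 : allFrom (edgesOk cert 82721 table) 256 3072 = true := by decide +kernel

theorem points13 : allFrom (edgesOk cert 82721 table) 256 3328 = true := by decide +kernel

theorem points14 : allFrom (edgesOk cert 82721 table) 256 3584 = true := by decide +kernel

theorem points15 : allFrom (edgesOk cert 82721 table) 256 3840 = true := by decide +kernel

theorem points16 : allFrom (edgesOk cert 82721 table) 256 4096 = true := by decide +kernel

theorem points17 : allFrom (edgesOk cert 82721 table) 256 4352 = true := by decide +kernel

theorem points18 : allFrom (edgesOk cert 82721 table) 256 4608 = true := by decide +kernel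

theorem points19 : allFrom (edgesOk cert 82721 table) 256 4864 = true := by decide +kernel

theorem points20 : allFrom (edgesOk cert 82721 table) 256 5120 = true := by decide +kernel

theorem points21 : allFrom (edgesOk cert 82721 table) 256 5376 = true := by decide +kernel

theorem points22 : allFrom (edgesOk cert 82721 table) 256 5632 = true := by decide +kernel

theorem points23 : allFrom (edgesOk cert 82721 table) 256 5888 = true := by decide +kernel

theorem points24 : allFrom (edgesOk cert 82721 table) 256 6144 = true := by decide +kernel

theorem points25 : allFrom (edgesOk cert 82721 table) 256 6400 = true := by decide +kernel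

theorem points26 : allFrom (edgesOk cert 82721 table) 256 6656 = true := by decide +kernel

theorem points27 : allFrom (edgesOk cert 82721 table) 256 6912 = true := by decide +kernel

theorem points28 : allFrom (edgesOk cert 82721 table) 256 7168 = true := by decide +kernel

theorem points29 : allFrom (edgesOk cert 82721 table) 256 7424 = true := by decide +kernel

theorem points30 : allFrom (edgesOk cert 82721 table) 256 7680 = true := by decide +kernel

theorem points31 : allFrom (edgesOk cert 82721 table) 256 7936 = true := by decide +kernel

end Cfsg.Agent.J3Cert24LP0
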