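import Cfsg.Agent.Lib.J3Cert24LData

/-! Enumeration over the subgroup of order 8160: edges. -/

set_option autoImplicit false
set_option maxRecDepth 100000
set_option maxHeartbeats 0
set_option Elab.async false

namespace Cfsg.Agent.J3Cert24LP1

open Cfsg.Agent.CosetCertCore Cfsg.Agent.CosetCertTable Cfsg.Agent.CosetCertFlip66
open Cfsg.Agent.J3Cert24LData

theorem points32 : allFrom (edgesOk cert 82721 table) 256 8192 = true := by decide +kernel

theorem points33 : allFrom (edgesOk cert 82721 table) 256 8448 = true := by decide +kernel

theorem points34 : allFrom (edgesOk cert 82721 table) 256 8704 = true := by decide +kernel

theorem points35 : allFrom (edgesOk cert 82721 table) 256 8960 = true := by decide +kernel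

theorem points36 : allFrom (edgesOk cert 82721 table) 256 9216 = true := by decide +kernel

theorem points37 : allFrom (edgesOk cert 82721 table) 256 9472 = true := by decide +kernel

theorem points38 : allFrom (edgesOk cert 82721 table) 256 9728 = true := by decide +kernel

theorem points39 : allFrom (edgesOk cert 82721 table) 256 9984 = true := by decide +kernel

theorem points40 : allFrom (edgesOk cert 82721 table) 256 10240 = true := by decide +kernel

theorem points41 : allFrom (edgesOk cert 82721 table) 256 10496 = true := by decide +kernel

theorem points42 : allFrom (edgesOk cert 82721 table) 256 10752 = true := by decide +kernel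

theorem points43 : allFrom (edgesOk cert 82721 table) 256 11008 = true := by decide +kernel

theorem points44 : allFrom (edgesOk cert 82721 table) 256 11264 = true := by decide +kernel

theorem points45 : allFrom (edgesOk cert 82721 table) 256 11520 = true := by decide +kernel

theorem points46 : allFrom (edgesOk cert 82721 table) 256 11776 = true := by decide +kernel

theorem points47 : allFrom (edgesOk cert 82721 table) 256 12032 = true := by decide +kernel

theorem points48 : allFrom (edgesOk cert 82721 table) 256 12288 = true := by decide +kernel

theorem points49 : allFrom (edgesOk cert 82721 table) 256 12544 = true := by decide +kernel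

theorem points50 : allFrom (edgesOk cert 82721 table) 256 12800 = true := by decide +kernel

theorem points51 : allFrom (edgesOk cert 82721 table) 256 13056 = true := by decide +kernel

theorem points52 : allFrom (edgesOk cert 82721 table) 256 13312 = true := by decide +kernel

theorem points53 : allFrom (edgesOk cert 82721 table) 256 13568 = true := by decide +kernel

theorem points54 : allFrom (edgesOk cert 82721 table) 256 13824 = true := by decide +kernel

theorem points55 : allFrom (edgesOk cert 82721 table) 256 14080 = true := by decide +kernel

theorem points56 : allFrom (edgesOk cert 82721 table) 256 14336 = true := by decide +kernel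

theorem points57 : allFrom (edgesOk cert 82721 table) 256 14592 = true := by decide +kernel

theorem points58 : allFrom (edgesOk cert 82721 table) 256 14848 = true := by decide +kernel

theorem points59 : allFrom (edgesOk cert 82721 table) 256 15104 = true := by decide +kernel

theorem points60 : allFrom (edgesOk cert 82721 table) 256 15360 = true := by decide +kernel

theorem points61 : allFrom (edgesOk cert 82721 table) 256 15616 = true := by decide +kernel

theorem points62 : allFrom (edgesOk cert 82721 table) 256 15872 = true := by decide +kernel

theorem points63 : allFrom (edgesOk cert 82721 table) 256 16128 = true := by decide +kernel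

end Cfsg.Agent.J3Cert24LP1
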