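import Cfsg.Agent.Lib.J3Cert24LData

/-! Enumeration over the subgroup of order 8160: edges. -/

set_option autoImplicit false
set_option maxRecDepth 100000
set_option maxHeartbeats 0
set_option Elab.async false

namespace Cfsg.Agent.J3Cert24LP2

open Cfsg.Agent.CosetCertCore Cfsg.Agent.CosetCertTable Cfsg.Agent.CosetCertFlip66
open Cfsg.Agent.J3Cert24LData

theorem points64 : allFrom (edgesOk cert 82721 table) 256 16384 = true := by decide +kernel

theorem points65 : allFrom (edgesOk cert 82721 table) 256 16640 = true := by decide +kernel

theorem points66 : allFrom (edgesOk cert 82721 table) 256 16896 = true := by decide +kernel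

theorem points67 : allFrom (edgesOk cert 82721 table) 256 17152 = true := by decide +kernel

theorem points68 : allFrom (edgesOk cert 82721 table) 256 17408 = true := by decide +kernel

theorem points69 : allFrom (edgesOk cert 82721 table) 256 17664 = true := by decide +kernel

theorem points70 : allFrom (edgesOk cert 82721 table) 256 17920 = true := by decide +kernel

theorem points71 : allFrom (edgesOk cert 82721 table) 256 18176 = true := by decide +kernel

theorem points72 : allFrom (edgesOk cert 82721 table) 36 18432 = true := by decide +kernel

end Cfsg.Agent.J3Cert24LP2
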