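import Cfsg.Agent.Lib.J3Cert24LC0
import Cfsg.Agent.Lib.J3Cert24LC1
import Cfsg.Agent.Lib.J3Cert24LC2
import Cfsg.Agent.Lib.J3Cert24LC3
import Cfsg.Agent.Lib.J3Cert24LC4
import Cfsg.Agent.Lib.J3Cert24LP0
import Cfsg.Agent.Lib.J3Cert24LP1
import Cfsg.Agent.Lib.J3Cert24LP2

/-! Enumeration over the subgroup of order 8160. -/

set_option autoImplicit false
set_option maxRecDepth 100000
set_option maxHeartbeats 0
set_option Elab.async false

namespace Cfsg.Agent.J3Cert24L

open Cfsg.Agent.CosetCertCore Cfsg.Agent.CosetCertTable Cfsg.Agent.CosetCertFlip66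
open Cfsg.Agent.J3Cert24LData

/-- The facts hold up to `n`. -/
def Valid (n : Nat) : Prop :=
  ∀ {G X : Type} [Group G] [MulAction G X] (g : Nat → G) (base : X),
    CosetCertFlip66.Ctx g base cert → AllValid g (nodeVal g base cert) cert n

theorem Valid.step {lo n : Nat} (h : Valid lo) (L : List Nat)
    (hn : (Nat.beq (lo + L.length) n && CosetCertFlip66.checkList cert L lo) = true) : Valid n := by
  rw [Bool.and_eq_true, Nat.beq_eq] at hn
  intro G X _ _ g base hC
  exact hn.1 ▸ CosetCertFlip66.checkList_sound g base hC L lo (h g base hC) hn.2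

theorem valid0 : Valid 0 := fun _ _ _ _ h => absurd h (Nat.not_lt_zero _)

theorem valid1 : Valid 256 :=
  valid0.step J3Cert24LC0.just0 J3Cert24LC0.check0

theorem valid2 : Valid 512 :=
  valid1.step J3Cert24LC0.just1 J3Cert24LC0.check1

theorem valid3 : Valid 768 :=
  valid2.step J3Cert24LC0.just2 J3Cert24LC0.check2

theorem valid4 : Valid 1024 :=
  valid3.step J3Cert24LC0.just3 J3Cert24LC0.check3

theorem valid5 : Valid 1280 :=
  valid4.step J3Cert24LC0.just4 J3Cert24LC0.check4

theorem valid6 : Valid 1536 :=
  valid5.step J3Cert24LC0.just5 J3Cert24LC0.check5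

theorem valid7 : Valid 1792 :=
  valid6.step J3Cert24LC0.just6 J3Cert24LC0.check6

theorem valid8 : Valid 2048 :=
  valid7.step J3Cert24LC0.just7 J3Cert24LC0.check7

theorem valid9 : Valid 2304 :=
  valid8.step J3Cert24LC0.just8 J3Cert24LC0.check8

theorem valid10 : Valid 2560 :=
  valid9.step J3Cert24LC0.just9 J3Cert24LC0.check9

theorem valid11 : Valid 2816 :=
  valid10.step J3Cert24LC0.just10 J3Cert24LC0.check10

theorem valid12 : Valid 3072 :=
  valid11.step J3Cert24LC0.just11 J3Cert24LC0.check11

theorem valid13 : Valid 3328 :=
  valid12.step J3Cert24LC0.just12 J3Cert24LC0.check12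

theorem valid14 : Valid 3584 :=
  valid13.step J3Cert24LC0.just13 J3Cert24LC0.check13

theorem valid15 : Valid 3840 :=
  valid14.step J3Cert24LC0.just14 J3Cert24LC0.check14

theorem valid16 : Valid 4096 :=
  valid15.step J3Cert24LC0.just15 J3Cert24LC0.check15

theorem valid17 : Valid 4352 :=
  valid16.step J3Cert24LC0.just16 J3Cert24LC0.check16

theorem valid18 : Valid 4608 :=
  valid17.step J3Cert24LC0.just17 J3Cert24LC0.check17

theorem valid19 : Valid 4864 :=
  valid18.step J3Cert24LC0.just18 J3Cert24LC0.check18

theorem valid20 : Valid 5120 :=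
  valid19.step J3Cert24LC0.just19 J3Cert24LC0.check19

theorem valid21 : Valid 5376 :=
  valid20.step J3Cert24LC0.just20 J3Cert24LC0.check20

theorem valid22 : Valid 5632 :=
  valid21.step J3Cert24LC0.just21 J3Cert24LC0.check21

theorem valid23 : Valid 5888 :=
  valid22.step J3Cert24LC0.just22 J3Cert24LC0.check22

theorem valid24 : Valid 6144 :=
  valid23.step J3Cert24LC0.just23 J3Cert24LC0.check23

theorem valid25 : Valid 6400 :=
  valid24.step J3Cert24LC0.just24 J3Cert24LC0.check24

theorem valid26 : Valid 6656 :=
  valid25.step J3Cert24LC0.just25 J3Cert24LC0.check25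

theorem valid27 : Valid 6912 :=
  valid26.step J3Cert24LC0.just26 J3Cert24LC0.check26

theorem valid28 : Valid 7168 :=
  valid27.step J3Cert24LC0.just27 J3Cert24LC0.check27

theorem valid29 : Valid 7424 :=
  valid28.step J3Cert24LC0.just28 J3Cert24LC0.check28

theorem valid30 : Valid 7680 :=
  valid29.step J3Cert24LC0.just29 J3Cert24LC0.check29

theorem valid31 : Valid 7936 :=
  valid30.step J3Cert24LC0.just30 J3Cert24LC0.check30

theorem valid32 : Valid 8192 :=
  valid31.step J3Cert24LC0.just31 J3Cert24LC0.check31

theorem valid33 : Valid 8448 :=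
  valid32.step J3Cert24LC0.just32 J3Cert24LC0.check32

theorem valid34 : Valid 8704 :=
  valid33.step J3Cert24LC0.just33 J3Cert24LC0.check33

theorem valid35 : Valid 8960 :=
  valid34.step J3Cert24LC0.just34 J3Cert24LC0.check34

theorem valid36 : Valid 9216 :=
  valid35.step J3Cert24LC0.just35 J3Cert24LC0.check35

theorem valid37 : Valid 9472 :=
  valid36.step J3Cert24LC0.just36 J3Cert24LC0.check36

theorem valid38 : Valid 9728 :=
  valid37.step J3Cert24LC0.just37 J3Cert24LC0.check37

theorem valid39 : Valid 9984 :=
  valid38.step J3Cert24LC0.just38 J3Cert24LC0.check38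

theorem valid40 : Valid 10240 :=
  valid39.step J3Cert24LC0.just39 J3Cert24LC0.check39

theorem valid41 : Valid 10496 :=
  valid40.step J3Cert24LC0.just40 J3Cert24LC0.check40

theorem valid42 : Valid 10752 :=
  valid41.step J3Cert24LC0.just41 J3Cert24LC0.check41

theorem valid43 : Valid 11008 :=
  valid42.step J3Cert24LC0.just42 J3Cert24LC0.check42

theorem valid44 : Valid 11264 :=
  valid43.step J3Cert24LC0.just43 J3Cert24LC0.check43

theorem valid45 : Valid 11520 :=
  valid44.step J3Cert24LC0.just44 J3Cert24LC0.check44

theorem valid46 : Valid 11776 :=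
  valid45.step J3Cert24LC0.just45 J3Cert24LC0.check45

theorem valid47 : Valid 12032 :=
  valid46.step J3Cert24LC0.just46 J3Cert24LC0.check46

theorem valid48 : Valid 12288 :=
  valid47.step J3Cert24LC0.just47 J3Cert24LC0.check47

theorem valid49 : Valid 12544 :=
  valid48.step J3Cert24LC0.just48 J3Cert24LC0.check48

theorem valid50 : Valid 12800 :=
  valid49.step J3Cert24LC0.just49 J3Cert24LC0.check49

theorem valid51 : Valid 13056 :=
  valid50.step J3Cert24LC0.just50 J3Cert24LC0.check50

theorem valid52 : Valid 13312 :=
  valid51.step J3Cert24LC0.just51 J3Cert24LC0.check51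

theorem valid53 : Valid 13568 :=
  valid52.step J3Cert24LC0.just52 J3Cert24LC0.check52

theorem valid54 : Valid 13824 :=
  valid53.step J3Cert24LC0.just53 J3Cert24LC0.check53

theorem valid55 : Valid 14080 :=
  valid54.step J3Cert24LC0.just54 J3Cert24LC0.check54

theorem valid56 : Valid 14336 :=
  valid55.step J3Cert24LC0.just55 J3Cert24LC0.check55

theorem valid57 : Valid 14592 :=
  valid56.step J3Cert24LC0.just56 J3Cert24LC0.check56

theorem valid58 : Valid 14848 :=
  valid57.step J3Cert24LC0.just57 J3Cert24LC0.check57

theorem valid59 : Valid 15104 :=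
  valid58.step J3Cert24LC0.just58 J3Cert24LC0.check58

theorem valid60 : Valid 15360 :=
  valid59.step J3Cert24LC0.just59 J3Cert24LC0.check59

theorem valid61 : Valid 15616 :=
  valid60.step J3Cert24LC0.just60 J3Cert24LC0.check60

theorem valid62 : Valid 15872 :=
  valid61.step J3Cert24LC0.just61 J3Cert24LC0.check61

theorem valid63 : Valid 16128 :=
  valid62.step J3Cert24LC0.just62 J3Cert24LC0.check62

theorem valid64 : Valid 16384 :=
  valid63.step J3Cert24LC0.just63 J3Cert24LC0.check63

theorem valid65 : Valid 16640 :=
  valid64.step J3Cert24LC0.just64 J3Cert24LC0.check64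

theorem valid66 : Valid 16896 :=
  valid65.step J3Cert24LC0.just65 J3Cert24LC0.check65

theorem valid67 : Valid 17152 :=
  valid66.step J3Cert24LC0.just66 J3Cert24LC0.check66

theorem valid68 : Valid 17408 :=
  valid67.step J3Cert24LC0.just67 J3Cert24LC0.check67

theorem valid69 : Valid 17664 :=
  valid68.step J3Cert24LC0.just68 J3Cert24LC0.check68

theorem valid70 : Valid 17920 :=
  valid69.step J3Cert24LC0.just69 J3Cert24LC0.check69

theorem valid71 : Valid 18176 :=
  valid70.step J3Cert24LC0.just70 J3Cert24LC0.check70

theorem valid72 : Valid 18432 :=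
  valid71.step J3Cert24LC0.just71 J3Cert24LC0.check71

theorem valid73 : Valid 18688 :=
  valid72.step J3Cert24LC0.just72 J3Cert24LC0.check72

theorem valid74 : Valid 18944 :=
  valid73.step J3Cert24LC0.just73 J3Cert24LC0.check73

theorem valid75 : Valid 19200 :=
  valid74.step J3Cert24LC0.just74 J3Cert24LC0.check74

theorem valid76 : Valid 19456 :=
  valid75.step J3Cert24LC0.just75 J3Cert24LC0.check75

theorem valid77 : Valid 19712 :=
  valid76.step J3Cert24LC0.just76 J3Cert24LC0.check76

theorem valid78 : Valid 19968 :=
  valid77.step J3Cert24LC0.just77 J3Cert24LC0.check77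

theorem valid79 : Valid 20224 :=
  valid78.step J3Cert24LC0.just78 J3Cert24LC0.check78

theorem valid80 : Valid 20480 :=
  valid79.step J3Cert24LC0.just79 J3Cert24LC0.check79

theorem valid81 : Valid 20736 :=
  valid80.step J3Cert24LC1.just80 J3Cert24LC1.check80

theorem valid82 : Valid 20992 :=
  valid81.step J3Cert24LC1.just81 J3Cert24LC1.check81

theorem valid83 : Valid 21248 :=
  valid82.step J3Cert24LC1.just82 J3Cert24LC1.check82

theorem valid84 : Valid 21504 :=
  valid83.step J3Cert24LC1.just83 J3Cert24LC1.check83

theorem valid85 : Valid 21760 :=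
  valid84.step J3Cert24LC1.just84 J3Cert24LC1.check84

theorem valid86 : Valid 22016 :=
  valid85.step J3Cert24LC1.just85 J3Cert24LC1.check85

theorem valid87 : Valid 22272 :=
  valid86.step J3Cert24LC1.just86 J3Cert24LC1.check86

theorem valid88 : Valid 22528 :=
  valid87.step J3Cert24LC1.just87 J3Cert24LC1.check87

theorem valid89 : Valid 22784 :=
  valid88.step J3Cert24LC1.just88 J3Cert24LC1.check88

theorem valid90 : Valid 23040 :=
  valid89.step J3Cert24LC1.just89 J3Cert24LC1.check89

theorem valid91 : Valid 23296 :=
  valid90.step J3Cert24LC1.just90 J3Cert24LC1.check90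

theorem valid92 : Valid 23552 :=
  valid91.step J3Cert24LC1.just91 J3Cert24LC1.check91

theorem valid93 : Valid 23808 :=
  valid92.step J3Cert24LC1.just92 J3Cert24LC1.check92

theorem valid94 : Valid 24064 :=
  valid93.step J3Cert24LC1.just93 J3Cert24LC1.check93

theorem valid95 : Valid 24320 :=
  valid94.step J3Cert24LC1.just94 J3Cert24LC1.check94

theorem valid96 : Valid 24576 :=
  valid95.step J3Cert24LC1.just95 J3Cert24LC1.check95

theorem valid97 : Valid 24832 :=
  valid96.step J3Cert24LC1.just96 J3Cert24LC1.check96

theorem valid98 : Valid 25088 :=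
  valid97.step J3Cert24LC1.just97 J3Cert24LC1.check97

theorem valid99 : Valid 25344 :=
  valid98.step J3Cert24LC1.just98 J3Cert24LC1.check98

theorem valid100 : Valid 25600 :=
  valid99.step J3Cert24LC1.just99 J3Cert24LC1.check99

theorem valid101 : Valid 25856 :=
  valid100.step J3Cert24LC1.just100 J3Cert24LC1.check100

theorem valid102 : Valid 26112 :=
  valid101.step J3Cert24LC1.just101 J3Cert24LC1.check101

theorem valid103 : Valid 26368 :=
  valid102.step J3Cert24LC1.just102 J3Cert24LC1.check102

theorem valid104 : Valid 26624 :=
  valid103.step J3Cert24LC1.just103 J3Cert24LC1.check103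

theorem valid105 : Valid 26880 :=
  valid104.step J3Cert24LC1.just104 J3Cert24LC1.check104

theorem valid106 : Valid 27136 :=
  valid105.step J3Cert24LC1.just105 J3Cert24LC1.check105

theorem valid107 : Valid 27392 :=
  valid106.step J3Cert24LC1.just106 J3Cert24LC1.check106

theorem valid108 : Valid 27648 :=
  valid107.step J3Cert24LC1.just107 J3Cert24LC1.check107

theorem valid109 : Valid 27904 :=
  valid108.step J3Cert24LC1.just108 J3Cert24LC1.check108

theorem valid110 : Valid 28160 :=
  valid109.step J3Cert24LC1.just109 J3Cert24LC1.check109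

theorem valid111 : Valid 28416 :=
  valid110.step J3Cert24LC1.just110 J3Cert24LC1.check110

theorem valid112 : Valid 28672 :=
  valid111.step J3Cert24LC1.just111 J3Cert24LC1.check111

theorem valid113 : Valid 28928 :=
  valid112.step J3Cert24LC1.just112 J3Cert24LC1.check112

theorem valid114 : Valid 29184 :=
  valid113.step J3Cert24LC1.just113 J3Cert24LC1.check113

theorem valid115 : Valid 29440 :=
  valid114.step J3Cert24LC1.just114 J3Cert24LC1.check114

theorem valid116 : Valid 29696 :=
  valid115.step J3Cert24LC1.just115 J3Cert24LC1.check115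

theorem valid117 : Valid 29952 :=
  valid116.step J3Cert24LC1.just116 J3Cert24LC1.check116

theorem valid118 : Valid 30208 :=
  valid117.step J3Cert24LC1.just117 J3Cert24LC1.check117

theorem valid119 : Valid 30464 :=
  valid118.step J3Cert24LC1.just118 J3Cert24LC1.check118

theorem valid120 : Valid 30720 :=
  valid119.step J3Cert24LC1.just119 J3Cert24LC1.check119

theorem valid121 : Valid 30976 :=
  valid120.step J3Cert24LC1.just120 J3Cert24LC1.check120

theorem valid122 : Valid 31232 :=
  valid121.step J3Cert24LC1.just121 J3Cert24LC1.check121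

theorem valid123 : Valid 31488 :=
  valid122.step J3Cert24LC1.just122 J3Cert24LC1.check122

theorem valid124 : Valid 31744 :=
  valid123.step J3Cert24LC1.just123 J3Cert24LC1.check123

theorem valid125 : Valid 32000 :=
  valid124.step J3Cert24LC1.just124 J3Cert24LC1.check124

theorem valid126 : Valid 32256 :=
  valid125.step J3Cert24LC1.just125 J3Cert24LC1.check125

theorem valid127 : Valid 32512 :=
  valid126.step J3Cert24LC1.just126 J3Cert24LC1.check126

theorem valid128 : Valid 32768 :=
  valid127.step J3Cert24LC1.just127 J3Cert24LC1.check127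

theorem valid129 : Valid 33024 :=
  valid128.step J3Cert24LC1.just128 J3Cert24LC1.check128

theorem valid130 : Valid 33280 :=
  valid129.step J3Cert24LC1.just129 J3Cert24LC1.check129

theorem valid131 : Valid 33536 :=
  valid130.step J3Cert24LC1.just130 J3Cert24LC1.check130

theorem valid132 : Valid 33792 :=
  valid131.step J3Cert24LC1.just131 J3Cert24LC1.check131

theorem valid133 : Valid 34048 :=
  valid132.step J3Cert24LC1.just132 J3Cert24LC1.check132

theorem valid134 : Valid 34304 :=
  valid133.step J3Cert24LC1.just133 J3Cert24LC1.check133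

theorem valid135 : Valid 34560 :=
  valid134.step J3Cert24LC1.just134 J3Cert24LC1.check134

theorem valid136 : Valid 34816 :=
  valid135.step J3Cert24LC1.just135 J3Cert24LC1.check135

theorem valid137 : Valid 35072 :=
  valid136.step J3Cert24LC1.just136 J3Cert24LC1.check136

theorem valid138 : Valid 35328 :=
  valid137.step J3Cert24LC1.just137 J3Cert24LC1.check137

theorem valid139 : Valid 35584 :=
  valid138.step J3Cert24LC1.just138 J3Cert24LC1.check138

theorem valid140 : Valid 35840 :=
  valid139.step J3Cert24LC1.just139 J3Cert24LC1.check139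

theorem valid141 : Valid 36096 :=
  valid140.step J3Cert24LC1.just140 J3Cert24LC1.check140

theorem valid142 : Valid 36352 :=
  valid141.step J3Cert24LC1.just141 J3Cert24LC1.check141

theorem valid143 : Valid 36608 :=
  valid142.step J3Cert24LC1.just142 J3Cert24LC1.check142

theorem valid144 : Valid 36864 :=
  valid143.step J3Cert24LC1.just143 J3Cert24LC1.check143

theorem valid145 : Valid 37120 :=
  valid144.step J3Cert24LC1.just144 J3Cert24LC1.check144

theorem valid146 : Valid 37376 :=
  valid145.step J3Cert24LC1.just145 J3Cert24LC1.check145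

theorem valid147 : Valid 37632 :=
  valid146.step J3Cert24LC1.just146 J3Cert24LC1.check146

theorem valid148 : Valid 37888 :=
  valid147.step J3Cert24LC1.just147 J3Cert24LC1.check147

theorem valid149 : Valid 38144 :=
  valid148.step J3Cert24LC1.just148 J3Cert24LC1.check148

theorem valid150 : Valid 38400 :=
  valid149.step J3Cert24LC1.just149 J3Cert24LC1.check149

theorem valid151 : Valid 38656 :=
  valid150.step J3Cert24LC1.just150 J3Cert24LC1.check150

theorem valid152 : Valid 38912 :=
  valid151.step J3Cert24LC1.just151 J3Cert24LC1.check151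

theorem valid153 : Valid 39168 :=
  valid152.step J3Cert24LC1.just152 J3Cert24LC1.check152

theorem valid154 : Valid 39424 :=
  valid153.step J3Cert24LC1.just153 J3Cert24LC1.check153

theorem valid155 : Valid 39680 :=
  valid154.step J3Cert24LC1.just154 J3Cert24LC1.check154

theorem valid156 : Valid 39936 :=
  valid155.step J3Cert24LC1.just155 J3Cert24LC1.check155

theorem valid157 : Valid 40192 :=
  valid156.step J3Cert24LC1.just156 J3Cert24LC1.check156

theorem valid158 : Valid 40448 :=
  valid157.step J3Cert24LC1.just157 J3Cert24LC1.check157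

theorem valid159 : Valid 40704 :=
  valid158.step J3Cert24LC1.just158 J3Cert24LC1.check158

theorem valid160 : Valid 40960 :=
  valid159.step J3Cert24LC1.just159 J3Cert24LC1.check159

theorem valid161 : Valid 41216 :=
  valid160.step J3Cert24LC2.just160 J3Cert24LC2.check160

theorem valid162 : Valid 41472 :=
  valid161.step J3Cert24LC2.just161 J3Cert24LC2.check161

theorem valid163 : Valid 41728 :=
  valid162.step J3Cert24LC2.just162 J3Cert24LC2.check162

theorem valid164 : Valid 41984 :=
  valid163.step J3Cert24LC2.just163 J3Cert24LC2.check163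

theorem valid165 : Valid 42240 :=
  valid164.step J3Cert24LC2.just164 J3Cert24LC2.check164

theorem valid166 : Valid 42496 :=
  valid165.step J3Cert24LC2.just165 J3Cert24LC2.check165

theorem valid167 : Valid 42752 :=
  valid166.step J3Cert24LC2.just166 J3Cert24LC2.check166

theorem valid168 : Valid 43008 :=
  valid167.step J3Cert24LC2.just167 J3Cert24LC2.check167

theorem valid169 : Valid 43264 :=
  valid168.step J3Cert24LC2.just168 J3Cert24LC2.check168

theorem valid170 : Valid 43520 :=
  valid169.step J3Cert24LC2.just169 J3Cert24LC2.check169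

theorem valid171 : Valid 43776 :=
  valid170.step J3Cert24LC2.just170 J3Cert24LC2.check170

theorem valid172 : Valid 44032 :=
  valid171.step J3Cert24LC2.just171 J3Cert24LC2.check171

theorem valid173 : Valid 44288 :=
  valid172.step J3Cert24LC2.just172 J3Cert24LC2.check172

theorem valid174 : Valid 44544 :=
  valid173.step J3Cert24LC2.just173 J3Cert24LC2.check173

theorem valid175 : Valid 44800 :=
  valid174.step J3Cert24LC2.just174 J3Cert24LC2.check174

theorem valid176 : Valid 45056 :=
  valid175.step J3Cert24LC2.just175 J3Cert24LC2.check175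

theorem valid177 : Valid 45312 :=
  valid176.step J3Cert24LC2.just176 J3Cert24LC2.check176

theorem valid178 : Valid 45568 :=
  valid177.step J3Cert24LC2.just177 J3Cert24LC2.check177

theorem valid179 : Valid 45824 :=
  valid178.step J3Cert24LC2.just178 J3Cert24LC2.check178

theorem valid180 : Valid 46080 :=
  valid179.step J3Cert24LC2.just179 J3Cert24LC2.check179

theorem valid181 : Valid 46336 :=
  valid180.step J3Cert24LC2.just180 J3Cert24LC2.check180

theorem valid182 : Valid 46592 :=
  valid181.step J3Cert24LC2.just181 J3Cert24LC2.check181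

theorem valid183 : Valid 46848 :=
  valid182.step J3Cert24LC2.just182 J3Cert24LC2.check182

theorem valid184 : Valid 47104 :=
  valid183.step J3Cert24LC2.just183 J3Cert24LC2.check183

theorem valid185 : Valid 47360 :=
  valid184.step J3Cert24LC2.just184 J3Cert24LC2.check184

theorem valid186 : Valid 47616 :=
  valid185.step J3Cert24LC2.just185 J3Cert24LC2.check185

theorem valid187 : Valid 47872 :=
  valid186.step J3Cert24LC2.just186 J3Cert24LC2.check186

theorem valid188 : Valid 48128 :=
  valid187.step J3Cert24LC2.just187 J3Cert24LC2.check187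

theorem valid189 : Valid 48384 :=
  valid188.step J3Cert24LC2.just188 J3Cert24LC2.check188

theorem valid190 : Valid 48640 :=
  valid189.step J3Cert24LC2.just189 J3Cert24LC2.check189

theorem valid191 : Valid 48896 :=
  valid190.step J3Cert24LC2.just190 J3Cert24LC2.check190

theorem valid192 : Valid 49152 :=
  valid191.step J3Cert24LC2.just191 J3Cert24LC2.check191

theorem valid193 : Valid 49408 :=
  valid192.step J3Cert24LC2.just192 J3Cert24LC2.check192

theorem valid194 : Valid 49664 :=
  valid193.step J3Cert24LC2.just193 J3Cert24LC2.check193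

theorem valid195 : Valid 49920 :=
  valid194.step J3Cert24LC2.just194 J3Cert24LC2.check194

theorem valid196 : Valid 50176 :=
  valid195.step J3Cert24LC2.just195 J3Cert24LC2.check195

theorem valid197 : Valid 50432 :=
  valid196.step J3Cert24LC2.just196 J3Cert24LC2.check196

theorem valid198 : Valid 50688 :=
  valid197.step J3Cert24LC2.just197 J3Cert24LC2.check197

theorem valid199 : Valid 50944 :=
  valid198.step J3Cert24LC2.just198 J3Cert24LC2.check198

theorem valid200 : Valid 51200 :=
  valid199.step J3Cert24LC2.just199 J3Cert24LC2.check199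

theorem valid201 : Valid 51456 :=
  valid200.step J3Cert24LC2.just200 J3Cert24LC2.check200

theorem valid202 : Valid 51712 :=
  valid201.step J3Cert24LC2.just201 J3Cert24LC2.check201

theorem valid203 : Valid 51968 :=
  valid202.step J3Cert24LC2.just202 J3Cert24LC2.check202

theorem valid204 : Valid 52224 :=
  valid203.step J3Cert24LC2.just203 J3Cert24LC2.check203

theorem valid205 : Valid 52480 :=
  valid204.step J3Cert24LC2.just204 J3Cert24LC2.check204

theorem valid206 : Valid 52736 :=
  valid205.step J3Cert24LC2.just205 J3Cert24LC2.check205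

theorem valid207 : Valid 52992 :=
  valid206.step J3Cert24LC2.just206 J3Cert24LC2.check206

theorem valid208 : Valid 53248 :=
  valid207.step J3Cert24LC2.just207 J3Cert24LC2.check207

theorem valid209 : Valid 53504 :=
  valid208.step J3Cert24LC2.just208 J3Cert24LC2.check208

theorem valid210 : Valid 53760 :=
  valid209.step J3Cert24LC2.just209 J3Cert24LC2.check209

theorem valid211 : Valid 54016 :=
  valid210.step J3Cert24LC2.just210 J3Cert24LC2.check210

theorem valid212 : Valid 54272 :=
  valid211.step J3Cert24LC2.just211 J3Cert24LC2.check211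

theorem valid213 : Valid 54528 :=
  valid212.step J3Cert24LC2.just212 J3Cert24LC2.check212

theorem valid214 : Valid 54784 :=
  valid213.step J3Cert24LC2.just213 J3Cert24LC2.check213

theorem valid215 : Valid 55040 :=
  valid214.step J3Cert24LC2.just214 J3Cert24LC2.check214

theorem valid216 : Valid 55296 :=
  valid215.step J3Cert24LC2.just215 J3Cert24LC2.check215

theorem valid217 : Valid 55552 :=
  valid216.step J3Cert24LC2.just216 J3Cert24LC2.check216

theorem valid218 : Valid 55808 :=
  valid217.step J3Cert24LC2.just217 J3Cert24LC2.check217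

theorem valid219 : Valid 56064 :=
  valid218.step J3Cert24LC2.just218 J3Cert24LC2.check218

theorem valid220 : Valid 56320 :=
  valid219.step J3Cert24LC2.just219 J3Cert24LC2.check219

theorem valid221 : Valid 56576 :=
  valid220.step J3Cert24LC2.just220 J3Cert24LC2.check220

theorem valid222 : Valid 56832 :=
  valid221.step J3Cert24LC2.just221 J3Cert24LC2.check221

theorem valid223 : Valid 57088 :=
  valid222.step J3Cert24LC2.just222 J3Cert24LC2.check222

theorem valid224 : Valid 57344 :=
  valid223.step J3Cert24LC2.just223 J3Cert24LC2.check223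

theorem valid225 : Valid 57600 :=
  valid224.step J3Cert24LC2.just224 J3Cert24LC2.check224

theorem valid226 : Valid 57856 :=
  valid225.step J3Cert24LC2.just225 J3Cert24LC2.check225

theorem valid227 : Valid 58112 :=
  valid226.step J3Cert24LC2.just226 J3Cert24LC2.check226

theorem valid228 : Valid 58368 :=
  valid227.step J3Cert24LC2.just227 J3Cert24LC2.check227

theorem valid229 : Valid 58624 :=
  valid228.step J3Cert24LC2.just228 J3Cert24LC2.check228

theorem valid230 : Valid 58880 :=
  valid229.step J3Cert24LC2.just229 J3Cert24LC2.check229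

theorem valid231 : Valid 59136 :=
  valid230.step J3Cert24LC2.just230 J3Cert24LC2.check230

theorem valid232 : Valid 59392 :=
  valid231.step J3Cert24LC2.just231 J3Cert24LC2.check231

theorem valid233 : Valid 59648 :=
  valid232.step J3Cert24LC2.just232 J3Cert24LC2.check232

theorem valid234 : Valid 59904 :=
  valid233.step J3Cert24LC2.just233 J3Cert24LC2.check233

theorem valid235 : Valid 60160 :=
  valid234.step J3Cert24LC2.just234 J3Cert24LC2.check234

theorem valid236 : Valid 60416 :=
  valid235.step J3Cert24LC2.just235 J3Cert24LC2.check235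

theorem valid237 : Valid 60672 :=
  valid236.step J3Cert24LC2.just236 J3Cert24LC2.check236

theorem valid238 : Valid 60928 :=
  valid237.step J3Cert24LC2.just237 J3Cert24LC2.check237

theorem valid239 : Valid 61184 :=
  valid238.step J3Cert24LC2.just238 J3Cert24LC2.check238

theorem valid240 : Valid 61440 :=
  valid239.step J3Cert24LC2.just239 J3Cert24LC2.check239

theorem valid241 : Valid 61696 :=
  valid240.step J3Cert24LC3.just240 J3Cert24LC3.check240

theorem valid242 : Valid 61952 :=
  valid241.step J3Cert24LC3.just241 J3Cert24LC3.check241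

theorem valid243 : Valid 62208 :=
  valid242.step J3Cert24LC3.just242 J3Cert24LC3.check242

theorem valid244 : Valid 62464 :=
  valid243.step J3Cert24LC3.just243 J3Cert24LC3.check243

theorem valid245 : Valid 62720 :=
  valid244.step J3Cert24LC3.just244 J3Cert24LC3.check244

theorem valid246 : Valid 62976 :=
  valid245.step J3Cert24LC3.just245 J3Cert24LC3.check245

theorem valid247 : Valid 63232 :=
  valid246.step J3Cert24LC3.just246 J3Cert24LC3.check246

theorem valid248 : Valid 63488 :=
  valid247.step J3Cert24LC3.just247 J3Cert24LC3.check247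

theorem valid249 : Valid 63744 :=
  valid248.step J3Cert24LC3.just248 J3Cert24LC3.check248

theorem valid250 : Valid 64000 :=
  valid249.step J3Cert24LC3.just249 J3Cert24LC3.check249

theorem valid251 : Valid 64256 :=
  valid250.step J3Cert24LC3.just250 J3Cert24LC3.check250

theorem valid252 : Valid 64512 :=
  valid251.step J3Cert24LC3.just251 J3Cert24LC3.check251

theorem valid253 : Valid 64768 :=
  valid252.step J3Cert24LC3.just252 J3Cert24LC3.check252

theorem valid254 : Valid 65024 :=
  valid253.step J3Cert24LC3.just253 J3Cert24LC3.check253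

theorem valid255 : Valid 65280 :=
  valid254.step J3Cert24LC3.just254 J3Cert24LC3.check254

theorem valid256 : Valid 65536 :=
  valid255.step J3Cert24LC3.just255 J3Cert24LC3.check255

theorem valid257 : Valid 65792 :=
  valid256.step J3Cert24LC3.just256 J3Cert24LC3.check256

theorem valid258 : Valid 66048 :=
  valid257.step J3Cert24LC3.just257 J3Cert24LC3.check257

theorem valid259 : Valid 66304 :=
  valid258.step J3Cert24LC3.just258 J3Cert24LC3.check258

theorem valid260 : Valid 66560 :=
  valid259.step J3Cert24LC3.just259 J3Cert24LC3.check259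

theorem valid261 : Valid 66816 :=
  valid260.step J3Cert24LC3.just260 J3Cert24LC3.check260

theorem valid262 : Valid 67072 :=
  valid261.step J3Cert24LC3.just261 J3Cert24LC3.check261

theorem valid263 : Valid 67328 :=
  valid262.step J3Cert24LC3.just262 J3Cert24LC3.check262

theorem valid264 : Valid 67584 :=
  valid263.step J3Cert24LC3.just263 J3Cert24LC3.check263

theorem valid265 : Valid 67840 :=
  valid264.step J3Cert24LC3.just264 J3Cert24LC3.check264

theorem valid266 : Valid 68096 :=
  valid265.step J3Cert24LC3.just265 J3Cert24LC3.check265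

theorem valid267 : Valid 68352 :=
  valid266.step J3Cert24LC3.just266 J3Cert24LC3.check266

theorem valid268 : Valid 68608 :=
  valid267.step J3Cert24LC3.just267 J3Cert24LC3.check267

theorem valid269 : Valid 68864 :=
  valid268.step J3Cert24LC3.just268 J3Cert24LC3.check268

theorem valid270 : Valid 69120 :=
  valid269.step J3Cert24LC3.just269 J3Cert24LC3.check269

theorem valid271 : Valid 69376 :=
  valid270.step J3Cert24LC3.just270 J3Cert24LC3.check270

theorem valid272 : Valid 69632 :=
  valid271.step J3Cert24LC3.just271 J3Cert24LC3.check271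

theorem valid273 : Valid 69888 :=
  valid272.step J3Cert24LC3.just272 J3Cert24LC3.check272

theorem valid274 : Valid 70144 :=
  valid273.step J3Cert24LC3.just273 J3Cert24LC3.check273

theorem valid275 : Valid 70400 :=
  valid274.step J3Cert24LC3.just274 J3Cert24LC3.check274

theorem valid276 : Valid 70656 :=
  valid275.step J3Cert24LC3.just275 J3Cert24LC3.check275

theorem valid277 : Valid 70912 :=
  valid276.step J3Cert24LC3.just276 J3Cert24LC3.check276

theorem valid278 : Valid 71168 :=
  valid277.step J3Cert24LC3.just277 J3Cert24LC3.check277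

theorem valid279 : Valid 71424 :=
  valid278.step J3Cert24LC3.just278 J3Cert24LC3.check278

theorem valid280 : Valid 71680 :=
  valid279.step J3Cert24LC3.just279 J3Cert24LC3.check279

theorem valid281 : Valid 71936 :=
  valid280.step J3Cert24LC3.just280 J3Cert24LC3.check280

theorem valid282 : Valid 72192 :=
  valid281.step J3Cert24LC3.just281 J3Cert24LC3.check281

theorem valid283 : Valid 72448 :=
  valid282.step J3Cert24LC3.just282 J3Cert24LC3.check282

theorem valid284 : Valid 72704 :=
  valid283.step J3Cert24LC3.just283 J3Cert24LC3.check283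

theorem valid285 : Valid 72960 :=
  valid284.step J3Cert24LC3.just284 J3Cert24LC3.check284

theorem valid286 : Valid 73216 :=
  valid285.step J3Cert24LC3.just285 J3Cert24LC3.check285

theorem valid287 : Valid 73472 :=
  valid286.step J3Cert24LC3.just286 J3Cert24LC3.check286

theorem valid288 : Valid 73728 :=
  valid287.step J3Cert24LC3.just287 J3Cert24LC3.check287

theorem valid289 : Valid 73984 :=
  valid288.step J3Cert24LC3.just288 J3Cert24LC3.check288

theorem valid290 : Valid 74240 :=
  valid289.step J3Cert24LC3.just289 J3Cert24LC3.check289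

theorem valid291 : Valid 74496 :=
  valid290.step J3Cert24LC3.just290 J3Cert24LC3.check290

theorem valid292 : Valid 74752 :=
  valid291.step J3Cert24LC3.just291 J3Cert24LC3.check291

theorem valid293 : Valid 75008 :=
  valid292.step J3Cert24LC3.just292 J3Cert24LC3.check292

theorem valid294 : Valid 75264 :=
  valid293.step J3Cert24LC3.just293 J3Cert24LC3.check293

theorem valid295 : Valid 75520 :=
  valid294.step J3Cert24LC3.just294 J3Cert24LC3.check294

theorem valid296 : Valid 75776 :=
  valid295.step J3Cert24LC3.just295 J3Cert24LC3.check295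

theorem valid297 : Valid 76032 :=
  valid296.step J3Cert24LC3.just296 J3Cert24LC3.check296

theorem valid298 : Valid 76288 :=
  valid297.step J3Cert24LC3.just297 J3Cert24LC3.check297

theorem valid299 : Valid 76544 :=
  valid298.step J3Cert24LC3.just298 J3Cert24LC3.check298

theorem valid300 : Valid 76800 :=
  valid299.step J3Cert24LC3.just299 J3Cert24LC3.check299

theorem valid301 : Valid 77056 :=
  valid300.step J3Cert24LC3.just300 J3Cert24LC3.check300

theorem valid302 : Valid 77312 :=
  valid301.step J3Cert24LC3.just301 J3Cert24LC3.check301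

theorem valid303 : Valid 77568 :=
  valid302.step J3Cert24LC3.just302 J3Cert24LC3.check302

theorem valid304 : Valid 77824 :=
  valid303.step J3Cert24LC3.just303 J3Cert24LC3.check303

theorem valid305 : Valid 78080 :=
  valid304.step J3Cert24LC3.just304 J3Cert24LC3.check304

theorem valid306 : Valid 78336 :=
  valid305.step J3Cert24LC3.just305 J3Cert24LC3.check305

theorem valid307 : Valid 78592 :=
  valid306.step J3Cert24LC3.just306 J3Cert24LC3.check306

theorem valid308 : Valid 78848 :=
  valid307.step J3Cert24LC3.just307 J3Cert24LC3.check307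

theorem valid309 : Valid 79104 :=
  valid308.step J3Cert24LC3.just308 J3Cert24LC3.check308

theorem valid310 : Valid 79360 :=
  valid309.step J3Cert24LC3.just309 J3Cert24LC3.check309

theorem valid311 : Valid 79616 :=
  valid310.step J3Cert24LC3.just310 J3Cert24LC3.check310

theorem valid312 : Valid 79872 :=
  valid311.step J3Cert24LC3.just311 J3Cert24LC3.check311

theorem valid313 : Valid 80128 :=
  valid312.step J3Cert24LC3.just312 J3Cert24LC3.check312

theorem valid314 : Valid 80384 :=
  valid313.step J3Cert24LC3.just313 J3Cert24LC3.check313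

theorem valid315 : Valid 80640 :=
  valid314.step J3Cert24LC3.just314 J3Cert24LC3.check314

theorem valid316 : Valid 80896 :=
  valid315.step J3Cert24LC3.just315 J3Cert24LC3.check315

theorem valid317 : Valid 81152 :=
  valid316.step J3Cert24LC3.just316 J3Cert24LC3.check316

theorem valid318 : Valid 81408 :=
  valid317.step J3Cert24LC3.just317 J3Cert24LC3.check317

theorem valid319 : Valid 81664 :=
  valid318.step J3Cert24LC3.just318 J3Cert24LC3.check318

theorem valid320 : Valid 81920 :=
  valid319.step J3Cert24LC3.just319 J3Cert24LC3.check319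

theorem valid321 : Valid 82176 :=
  valid320.step J3Cert24LC4.just320 J3Cert24LC4.check320

theorem valid322 : Valid 82432 :=
  valid321.step J3Cert24LC4.just321 J3Cert24LC4.check321

theorem valid323 : Valid 82688 :=
  valid322.step J3Cert24LC4.just322 J3Cert24LC4.check322

theorem valid324 : Valid 82721 :=
  valid323.step J3Cert24LC4.just323 J3Cert24LC4.check323

theorem points0 : AllBelow (edgesOk cert 82721 table) 0 := AllBelow.zero _

theorem points1 : AllBelow (edgesOk cert 82721 table) 256 :=
  AllBelow.step points0 256 J3Cert24LP0.points0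

theorem points2 : AllBelow (edgesOk cert 82721 table) 512 :=
  AllBelow.step points1 256 J3Cert24LP0.points1

theorem points3 : AllBelow (edgesOk cert 82721 table) 768 :=
  AllBelow.step points2 256 J3Cert24LP0.points2

theorem points4 : AllBelow (edgesOk cert 82721 table) 1024 :=
  AllBelow.step points3 256 J3Cert24LP0.points3

theorem points5 : AllBelow (edgesOk cert 82721 table) 1280 :=
  AllBelow.step points4 256 J3Cert24LP0.points4

theorem points6 : AllBelow (edgesOk cert 82721 table) 1536 :=
  AllBelow.step points5 256 J3Cert24LP0.points5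

theorem points7 : AllBelow (edgesOk cert 82721 table) 1792 :=
  AllBelow.step points6 256 J3Cert24LP0.points6

theorem points8 : AllBelow (edgesOk cert 82721 table) 2048 :=
  AllBelow.step points7 256 J3Cert24LP0.points7

theorem points9 : AllBelow (edgesOk cert 82721 table) 2304 :=
  AllBelow.step points8 256 J3Cert24LP0.points8

theorem points10 : AllBelow (edgesOk cert 82721 table) 2560 :=
  AllBelow.step points9 256 J3Cert24LP0.points9

theorem points11 : AllBelow (edgesOk cert 82721 table) 2816 :=
  AllBelow.step points10 256 J3Cert24LP0.points10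

theorem points12 : AllBelow (edgesOk cert 82721 table) 3072 :=
  AllBelow.step points11 256 J3Cert24LP0.points11

theorem points13 : AllBelow (edgesOk cert 82721 table) 3328 :=
  AllBelow.step points12 256 J3Cert24LP0.points12

theorem points14 : AllBelow (edgesOk cert 82721 table) 3584 :=
  AllBelow.step points13 256 J3Cert24LP0.points13

theorem points15 : AllBelow (edgesOk cert 82721 table) 3840 :=
  AllBelow.step points14 256 J3Cert24LP0.points14

theorem points16 : AllBelow (edgesOk cert 82721 table) 4096 :=
  AllBelow.step points15 256 J3Cert24LP0.points15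

theorem points17 : AllBelow (edgesOk cert 82721 table) 4352 :=
  AllBelow.step points16 256 J3Cert24LP0.points16

theorem points18 : AllBelow (edgesOk cert 82721 table) 4608 :=
  AllBelow.step points17 256 J3Cert24LP0.points17

theorem points19 : AllBelow (edgesOk cert 82721 table) 4864 :=
  AllBelow.step points18 256 J3Cert24LP0.points18

theorem points20 : AllBelow (edgesOk cert 82721 table) 5120 :=
  AllBelow.step points19 256 J3Cert24LP0.points19

theorem points21 : AllBelow (edgesOk cert 82721 table) 5376 :=
  AllBelow.step points20 256 J3Cert24LP0.points20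

theorem points22 : AllBelow (edgesOk cert 82721 table) 5632 :=
  AllBelow.step points21 256 J3Cert24LP0.points21

theorem points23 : AllBelow (edgesOk cert 82721 table) 5888 :=
  AllBelow.step points22 256 J3Cert24LP0.points22

theorem points24 : AllBelow (edgesOk cert 82721 table) 6144 :=
  AllBelow.step points23 256 J3Cert24LP0.points23

theorem points25 : AllBelow (edgesOk cert 82721 table) 6400 :=
  AllBelow.step points24 256 J3Cert24LP0.points24

theorem points26 : AllBelow (edgesOk cert 82721 table) 6656 :=
  AllBelow.step points25 256 J3Cert24LP0.points25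

theorem points27 : AllBelow (edgesOk cert 82721 table) 6912 :=
  AllBelow.step points26 256 J3Cert24LP0.points26

theorem points28 : AllBelow (edgesOk cert 82721 table) 7168 :=
  AllBelow.step points27 256 J3Cert24LP0.points27

theorem points29 : AllBelow (edgesOk cert 82721 table) 7424 :=
  AllBelow.step points28 256 J3Cert24LP0.points28

theorem points30 : AllBelow (edgesOk cert 82721 table) 7680 :=
  AllBelow.step points29 256 J3Cert24LP0.points29

theorem points31 : AllBelow (edgesOk cert 82721 table) 7936 :=
  AllBelow.step points30 256 J3Cert24LP0.points30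

theorem points32 : AllBelow (edgesOk cert 82721 table) 8192 :=
  AllBelow.step points31 256 J3Cert24LP0.points31

theorem points33 : AllBelow (edgesOk cert 82721 table) 8448 :=
  AllBelow.step points32 256 J3Cert24LP1.points32

theorem points34 : AllBelow (edgesOk cert 82721 table) 8704 :=
  AllBelow.step points33 256 J3Cert24LP1.points33

theorem points35 : AllBelow (edgesOk cert 82721 table) 8960 :=
  AllBelow.step points34 256 J3Cert24LP1.points34

theorem points36 : AllBelow (edgesOk cert 82721 table) 9216 :=
  AllBelow.step points35 256 J3Cert24LP1.points35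

theorem points37 : AllBelow (edgesOk cert 82721 table) 9472 :=
  AllBelow.step points36 256 J3Cert24LP1.points36

theorem points38 : AllBelow (edgesOk cert 82721 table) 9728 :=
  AllBelow.step points37 256 J3Cert24LP1.points37

theorem points39 : AllBelow (edgesOk cert 82721 table) 9984 :=
  AllBelow.step points38 256 J3Cert24LP1.points38

theorem points40 : AllBelow (edgesOk cert 82721 table) 10240 :=
  AllBelow.step points39 256 J3Cert24LP1.points39

theorem points41 : AllBelow (edgesOk cert 82721 table) 10496 :=
  AllBelow.step points40 256 J3Cert24LP1.points40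

theorem points42 : AllBelow (edgesOk cert 82721 table) 10752 :=
  AllBelow.step points41 256 J3Cert24LP1.points41

theorem points43 : AllBelow (edgesOk cert 82721 table) 11008 :=
  AllBelow.step points42 256 J3Cert24LP1.points42

theorem points44 : AllBelow (edgesOk cert 82721 table) 11264 :=
  AllBelow.step points43 256 J3Cert24LP1.points43

theorem points45 : AllBelow (edgesOk cert 82721 table) 11520 :=
  AllBelow.step points44 256 J3Cert24LP1.points44

theorem points46 : AllBelow (edgesOk cert 82721 table) 11776 :=
  AllBelow.step points45 256 J3Cert24LP1.points45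

theorem points47 : AllBelow (edgesOk cert 82721 table) 12032 :=
  AllBelow.step points46 256 J3Cert24LP1.points46

theorem points48 : AllBelow (edgesOk cert 82721 table) 12288 :=
  AllBelow.step points47 256 J3Cert24LP1.points47

theorem points49 : AllBelow (edgesOk cert 82721 table) 12544 :=
  AllBelow.step points48 256 J3Cert24LP1.points48

theorem points50 : AllBelow (edgesOk cert 82721 table) 12800 :=
  AllBelow.step points49 256 J3Cert24LP1.points49

theorem points51 : AllBelow (edgesOk cert 82721 table) 13056 :=
  AllBelow.step points50 256 J3Cert24LP1.points50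

theorem points52 : AllBelow (edgesOk cert 82721 table) 13312 :=
  AllBelow.step points51 256 J3Cert24LP1.points51

theorem points53 : AllBelow (edgesOk cert 82721 table) 13568 :=
  AllBelow.step points52 256 J3Cert24LP1.points52

theorem points54 : AllBelow (edgesOk cert 82721 table) 13824 :=
  AllBelow.step points53 256 J3Cert24LP1.points53

theorem points55 : AllBelow (edgesOk cert 82721 table) 14080 :=
  AllBelow.step points54 256 J3Cert24LP1.points54

theorem points56 : AllBelow (edgesOk cert 82721 table) 14336 :=
  AllBelow.step points55 256 J3Cert24LP1.points55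

theorem points57 : AllBelow (edgesOk cert 82721 table) 14592 :=
  AllBelow.step points56 256 J3Cert24LP1.points56

theorem points58 : AllBelow (edgesOk cert 82721 table) 14848 :=
  AllBelow.step points57 256 J3Cert24LP1.points57

theorem points59 : AllBelow (edgesOk cert 82721 table) 15104 :=
  AllBelow.step points58 256 J3Cert24LP1.points58

theorem points60 : AllBelow (edgesOk cert 82721 table) 15360 :=
  AllBelow.step points59 256 J3Cert24LP1.points59

theorem points61 : AllBelow (edgesOk cert 82721 table) 15616 :=
  AllBelow.step points60 256 J3Cert24LP1.points60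

theorem points62 : AllBelow (edgesOk cert 82721 table) 15872 :=
  AllBelow.step points61 256 J3Cert24LP1.points61

theorem points63 : AllBelow (edgesOk cert 82721 table) 16128 :=
  AllBelow.step points62 256 J3Cert24LP1.points62

theorem points64 : AllBelow (edgesOk cert 82721 table) 16384 :=
  AllBelow.step points63 256 J3Cert24LP1.points63

theorem points65 : AllBelow (edgesOk cert 82721 table) 16640 :=
  AllBelow.step points64 256 J3Cert24LP2.points64

theorem points66 : AllBelow (edgesOk cert 82721 table) 16896 :=
  AllBelow.step points65 256 J3Cert24LP2.points65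

theorem points67 : AllBelow (edgesOk cert 82721 table) 17152 :=
  AllBelow.step points66 256 J3Cert24LP2.points66

theorem points68 : AllBelow (edgesOk cert 82721 table) 17408 :=
  AllBelow.step points67 256 J3Cert24LP2.points67

theorem points69 : AllBelow (edgesOk cert 82721 table) 17664 :=
  AllBelow.step points68 256 J3Cert24LP2.points68

theorem points70 : AllBelow (edgesOk cert 82721 table) 17920 :=
  AllBelow.step points69 256 J3Cert24LP2.points69

theorem points71 : AllBelow (edgesOk cert 82721 table) 18176 :=
  AllBelow.step points70 256 J3Cert24LP2.points70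

theorem points72 : AllBelow (edgesOk cert 82721 table) 18432 :=
  AllBelow.step points71 256 J3Cert24LP2.points71

theorem points73 : AllBelow (edgesOk cert 82721 table) 18468 :=
  AllBelow.step points72 36 J3Cert24LP2.points72

/-- The certificate is checked. -/
theorem closed : Closed cert 82721 table where
  npos := by decide +kernel
  node0 := by decide +kernel
  flipClosed := by decide +kernel
  edges := points73
  facts := fun g base h => valid324 g base h

end Cfsg.Agent.J3Cert24L
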