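import Cfsg.Agent.Lib.J3Rels93
import Cfsg.Agent.Lib.J3Cert24B
import Cfsg.Agent.Lib.J3Cert24L
import Cfsg.Agent.Lib.J3Cert24H

/-!
# Groups of J₃ type: bound for the subgroup generated by `C(z)` and `o`

From the relators of `C(z)`, of `o` and two relators in `C(x)`: the subgroup generated by the seven
letters has order at most three times the order of J₃. Twelve words are trivial because their loops
close in a partial enumeration over `C(z)`, so that they commute with enough conjugates of `z`;
they present a group of order at most 8160, over which the index is at most 18468.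
-/

set_option autoImplicit false
set_option maxRecDepth 100000
set_option maxHeartbeats 1000000

namespace Cfsg.Agent.J3Cert24Bound

open Subgroup Cfsg.Agent.J3Setup93 Cfsg.Agent.J3Rels93 Cfsg.Agent.CosetCertCore
  Cfsg.Agent.CosetCertTable Cfsg.Agent.CosetCertFlip66

universe u

/-- The two relators in `C(x)`. -/
def relsR : List (List ℕ) :=
  [[12, 4, 2, 12, 4, 2],
   [12, 4, 4, 6, 11, 13, 10, 7, 12, 4, 4, 6, 11, 13, 10, 7, 12, 4, 4, 6, 11, 13, 10, 7,
    12, 4, 4, 6, 11, 13, 10, 7]]

/-- The fourteen letters as words in `z, a, o⁻¹, o, u, v, g, w`. -/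
def sub14 (c : ℕ) : List ℕ :=
  [[0], [0], [1], [1], [6, 7], [7, 6], [4], [4], [5], [5], [6, 4], [4, 6], [2], [3]].getD c []

/-- The seven letters of the subgroup of order 8160 as words in the eight letters. -/
def subL (c : ℕ) : List ℕ :=
  [[0], [6], [0, 1, 2, 6, 3, 6, 3, 6, 2, 6], [6, 3, 6, 2, 6, 2, 6, 3, 1, 0], [4], [5], [7]].getD c []

/-- Substitute in a word. -/
def subst (f : ℕ → List ℕ) (w : List ℕ) : List ℕ := w.flatMap f

/-- The points at which the loops close, as words in the fourteen letters. -/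
def pts : List (List ℕ) :=
  [[], [13], [13, 11], [13, 11, 11], [13, 11, 11, 5], [13, 11, 11, 5, 5], [13, 11, 13]]

/-- The inverse word. -/
noncomputable def iw (w : List ℕ) : List ℕ := w.reverse.map flp

section General

variable {G : Type u} [Group G] (g : ℕ → G)

theorem vr_hom {G' : Type*} [Group G'] (φ : G →* G') (w : List ℕ) :
    φ (vr g w) = vr (fun c => φ (g c)) w := by
  rw [vr, vr, map_list_prod, List.map_map]
  rfl

theorem vr_iw (hg : ∀ x, g (flp x) = (g x)⁻¹) (w : List ℕ) : vr g (iw w) = (vr g w)⁻¹ := by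
  induction w with
  | nil => simp [iw, vr]
  | cons x w ih =>
    rw [show iw (x :: w) = iw w ++ [flp x] by simp [iw], vr_append, ih, vr_cons]
    simp [vr, hg, mul_inv_rev]

theorem vr_subst (f : ℕ → List ℕ) (w : List ℕ) :
    vr g (subst f w) = vr (fun c => vr g (f c)) w := by
  induction w with
  | nil => rfl
  | cons x w ih =>
    rw [show subst f (x :: w) = f x ++ subst f w from rfl, vr_append, ih, vr_cons]

theorem inv_subL (hg : ∀ x, g (flp x) = (g x)⁻¹) (x : ℕ) :
    vr g (subL (flp x)) = (vr g (subL x))⁻¹ := by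
  rw [← vr_iw g hg]
  congr 1
  match x with
  | 0 | 1 | 2 | 3 | 4 | 5 | 6 => decide +kernel
  | n + 7 =>
    have h2 : Nat.beq (n + 7) 2 = false := by rw [← Bool.not_eq_true, Nat.beq_eq]; omega
    have h3 : Nat.beq (n + 7) 3 = false := by rw [← Bool.not_eq_true, Nat.beq_eq]; omega
    simp only [flp, h2, h3, cond_false]
    rfl

end General

section Small

variable {G : Type} [Group G] [Finite G] (g : ℕ → G)

/-- The twelve words are trivial. -/
theorem words_one (hinv : ∀ x, g (flp x) = (g x)⁻¹) (C : Subgroup G)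
    (hrel : ∀ r ∈ relsH ++ relsO ++ relsR, vr g (subst sub14 r) = 1)
    (hC : ∀ x ∈ [0, 1, 4, 5, 6, 7], g x ∈ C)
    (hkey : ∀ W : G, (∀ p ∈ pts, (vr g (subst sub14 p))⁻¹ * W * vr g (subst sub14 p) ∈ C) → W = 1) :
    ∀ r ∈ J3Cert24BData.cert.rels, vr g (subst subL r) = 1 := by
  have hr : ∀ w ∈ J3Cert24HData.cert.rels, vr g w = 1 := by
    rw [show J3Cert24HData.cert.rels = (relsH ++ relsO ++ relsR).map (subst sub14) by
      decide +kernel]
    intro w hw
    obtain ⟨r, hr, rfl⟩ := List.mem_map.1 hw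
    exact hrel r hr
  have hs : ∀ w ∈ J3Cert24HData.cert.sgens, vr g w ∈ C := by
    rw [show J3Cert24HData.cert.sgens = [[0], [1], [4], [5], [6], [7]] from rfl]
    intro w hw
    simp only [List.mem_cons, List.not_mem_nil, or_false] at hw
    rcases hw with rfl | rfl | rfl | rfl | rfl | rfl <;>
      simpa [vr] using hC _ (by decide)
  have hctx := ctx_of g C hinv hr hs
  have hv := J3Cert24H.valid g ((1 : G) : G ⧸ C) hctx
  have hmem : ∀ t ∈ J3Cert24HData.loops, vr g t.1 ∈ C := by
    intro t ht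
    obtain ⟨r, hw, hr0⟩ := optAll_eq_true ((List.all_eq_true.1 J3Cert24H.loops_ok) t ht)
    have hs' := walk_sound g _ hinv J3Cert24HData.cert.fact _ hv _ _ _ _ _ hw
    rw [Nat.beq_eq.mp hr0, nodeVal_zero, CosetCertFlip66.act_eq, ← vr] at hs'
    change ((vr g t.1 * 1 : G) : G ⧸ C) = _ at hs'
    rwa [mul_one, QuotientGroup.eq, mul_one, inv_mem_iff] at hs'
  have hall : ∀ r ∈ J3Cert24BData.cert.rels, ∀ p ∈ pts,
      subst sub14 p ++ subst subL r ++ iw (subst sub14 p) ∈
        J3Cert24HData.loops.map Prod.fst := by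
    decide +kernel
  intro r hr'
  refine hkey _ fun p hp => ?_
  obtain ⟨t, ht, e⟩ := List.mem_map.1 (hall r hr' p hp)
  have := hmem t ht
  rw [e, vr_append, vr_append, vr_iw g hinv, ← mul_assoc] at this
  exact this

/-- The bound for a group in `Type`. -/
theorem bound (hinv : ∀ x, g (flp x) = (g x)⁻¹)
    (hrel : ∀ r ∈ relsH ++ relsO ++ relsR, vr g (subst sub14 r) = 1)
    (hW : ∀ r ∈ J3Cert24BData.cert.rels, vr g (subst subL r) = 1) :
    Nat.card ↥(closure {y | ∃ x, x < 8 ∧ y = g x}) ≤ 18468 * 8160 := by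
  set T : Subgroup G := closure {y | ∃ x, x < 8 ∧ y = g x} with hT
  set gL : ℕ → G := fun c => vr g (subL c) with hgL
  set S : Subgroup G := closure {y | ∃ x, x < 7 ∧ y = gL x} with hS
  have hgLS : ∀ c, gL c ∈ S := by
    intro c
    by_cases hc : c < 7
    · exact subset_closure ⟨c, hc, rfl⟩
    · have : subL c = [] := List.getD_eq_default _ _ (by simp; omega)
      simp [hgL, this, vr]
  have hS8160 : Nat.card ↥S ≤ 8160 := by
    let gS : ℕ → ↥S := fun c => ⟨gL c, hgLS c⟩
    have hi : CosetCertFlip66.Inv gS := fun x => Subtype.ext (inv_subL g hinv x)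
    have hr : ∀ w ∈ J3Cert24BData.cert.rels, vr gS w = 1 := by
      intro w hw
      apply Subtype.ext
      show S.subtype (vr gS w) = 1
      rw [vr_hom, ← hW w hw, vr_subst]
      rfl
    have hs : ∀ w ∈ J3Cert24BData.cert.sgens, vr gS w ∈ (⊥ : Subgroup ↥S) := by
      rw [show J3Cert24BData.cert.sgens = [] from rfl]
      simp
    have hgen : closure {y | ∃ x, x < J3Cert24BData.table.NG ∧ y = gS x} = ⊤ := by
      apply Subgroup.map_injective S.subtype_injective
      rw [MonoidHom.map_closure, ← MonoidHom.range_eq_map, Subgroup.range_subtype]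
      congr 1
      ext y
      constructor
      · rintro ⟨_, ⟨x, hx, rfl⟩, rfl⟩
        exact ⟨x, hx, rfl⟩
      · rintro ⟨x, hx, rfl⟩
        exact ⟨gS x, ⟨x, hx, rfl⟩, rfl⟩
    have h := (cosets_le J3Cert24B.closed gS ⊥ hi hr hs hgen).2
    calc Nat.card ↥S = (⊥ : Subgroup ↥S).index := (Subgroup.index_bot).symm
      _ ≤ 8160 := h
  have hgT : ∀ c, g c ∈ T ∨ 8 ≤ c := fun c => by
    by_cases hc : c < 8
    · exact Or.inl (subset_closure ⟨c, hc, rfl⟩)
    · exact Or.inr (by omega)
  let gT : ℕ → ↥T := fun c => if hc : c < 8 then ⟨g c, subset_closure ⟨c, hc, rfl⟩⟩ else 1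
  have hcoe : ∀ c < 8, (gT c : G) = g c := fun c hc => by simp [gT, dif_pos hc]
  have hflp : ∀ c, flp c < 8 ↔ c < 8 := by
    intro c
    by_cases h2 : c = 2
    · subst h2; decide +kernel
    by_cases h3 : c = 3
    · subst h3; decide +kernel
    have a : Nat.beq c 2 = false := by rw [← Bool.not_eq_true, Nat.beq_eq]; exact h2
    have b : Nat.beq c 3 = false := by rw [← Bool.not_eq_true, Nat.beq_eq]; exact h3
    simp [flp, a, b]
  have hi : CosetCertFlip66.Inv gT := by
    intro c
    by_cases hc : c < 8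
    · exact Subtype.ext (by rw [Subgroup.coe_inv, hcoe c hc, hcoe _ ((hflp c).2 hc), hinv])
    · simp [gT, dif_neg hc, dif_neg (mt (hflp c).1 hc)]
  have hvr : ∀ w : List ℕ, (∀ c ∈ w, c < 8) → ((vr gT w : ↥T) : G) = vr g w := by
    intro w hw
    induction w with
    | nil => rfl
    | cons x w ih =>
      rw [vr_cons, vr_cons, Subgroup.coe_mul, ih (fun c hc => hw c (List.mem_cons_of_mem _ hc)),
        hcoe x (hw x (List.mem_cons_self ..))]
  have hr : ∀ w ∈ J3Cert24LData.cert.rels, vr gT w = 1 := by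
    intro w hw
    apply Subtype.ext
    have hlt : ∀ w ∈ J3Cert24LData.cert.rels, ∀ c ∈ w, c < 8 := by decide +kernel
    rw [hvr w (hlt w hw), Subgroup.coe_one]
    rw [show J3Cert24LData.cert.rels = (relsH ++ relsO ++ relsR).map (subst sub14) by
      decide +kernel] at hw
    obtain ⟨r, hr', rfl⟩ := List.mem_map.1 hw
    exact hrel r hr'
  have hs : ∀ w ∈ J3Cert24LData.cert.sgens, vr gT w ∈ S.subgroupOf T := by
    intro w hw
    have hlt : ∀ w ∈ J3Cert24LData.cert.sgens, ∀ c ∈ w, c < 8 := by decide +kernel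
    rw [Subgroup.mem_subgroupOf, hvr w (hlt w hw)]
    rw [show J3Cert24LData.cert.sgens = [subL 0, subL 1, subL 2, subL 4, subL 5, subL 6] from rfl]
      at hw
    simp only [List.mem_cons, List.not_mem_nil, or_false] at hw
    rcases hw with rfl | rfl | rfl | rfl | rfl | rfl <;> exact hgLS _
  have hgen : closure {y | ∃ x, x < J3Cert24LData.table.NG ∧ y = gT x} = ⊤ := by
    apply Subgroup.map_injective T.subtype_injective
    rw [MonoidHom.map_closure, ← MonoidHom.range_eq_map, Subgroup.range_subtype]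
    congr 1
    ext y
    constructor
    · rintro ⟨_, ⟨x, hx, rfl⟩, rfl⟩
      exact ⟨x, hx, hcoe x hx⟩
    · rintro ⟨x, hx, rfl⟩
      exact ⟨gT x, ⟨x, hx, rfl⟩, hcoe x hx⟩
  have h := (cosets_le J3Cert24L.closed gT (S.subgroupOf T) hi hr hs hgen).2
  have hc : Nat.card ↥(S.subgroupOf T) ≤ 8160 := by
    refine le_trans ?_ hS8160
    exact Nat.card_le_card_of_injective (fun y => (⟨((y : ↥T) : G), y.2⟩ : ↥S))
      (fun y y' e => Subtype.ext (Subtype.ext (congrArg (fun t : ↥S => (t : G)) e :)))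
  calc Nat.card ↥T = Nat.card ↥(S.subgroupOf T) * (S.subgroupOf T).index :=
        (card_mul_index _).symm
    _ ≤ 8160 * 18468 := Nat.mul_le_mul hc h
    _ = 18468 * 8160 := by norm_num

end Small

section Main

variable {G : Type u} [Group G] [Finite G] {Q : Subgroup G} {z : G} {a : Fin 5 → G}
variable {x u v h o : G}

/-- The eight letters: `z, a 1, o⁻¹, o, u, v`, the involution `gel u h` and `gel u h * x`. -/
def gc (z : G) (a : Fin 5 → G) (x u v h o : G) (c : ℕ) : G :=
  [z, a 1, o⁻¹, o, u, v, gel u h, gel u h * x].getD c 1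

theorem gel_sq (S : Gens Q z a x u v h) : gel u h * gel u h = 1 ∧
    (gel u h * x) * (gel u h * x) = 1 := by
  obtain ⟨Eu, -, Ex, Eh⟩ := ew S
  have hhi : EW z a x u v h h⁻¹ σh⁻¹ := ⟨inv_mem Eh.1, Exact.inv Eh.2⟩
  have Eg : EW z a x u v h (gel u h) (σu * σh⁻¹) := Eu.mul hhi
  exact ⟨ew_one S (Eg.mul Eg) (by decide +kernel),
    ew_one S ((Eg.mul Ex).mul (Eg.mul Ex)) (by decide +kernel)⟩

theorem gc_inv (S : Gens Q z a x u v h) (c : ℕ) :
    gc z a x u v h o (flp c) = (gc z a x u v h o c)⁻¹ := by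
  match c with
  | 0 => exact (inv_eq_of_mul_eq_one_right (zz S)).symm
  | 1 => exact (S.pts.inv_self 1).symm
  | 2 => exact (inv_inv o).symm
  | 3 => rfl
  | 4 => exact (inv_eq_of_mul_eq_one_right S.uu).symm
  | 5 => exact (inv_eq_of_mul_eq_one_right S.vv).symm
  | 6 => exact (inv_eq_of_mul_eq_one_right (gel_sq S).1).symm
  | 7 => exact (inv_eq_of_mul_eq_one_right (gel_sq S).2).symm
  | n + 8 =>
    have h2 : Nat.beq (n + 8) 2 = false := by rw [← Bool.not_eq_true, Nat.beq_eq]; omega
    have h3 : Nat.beq (n + 8) 3 = false := by rw [← Bool.not_eq_true, Nat.beq_eq]; omega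
    simp [flp, h2, h3, gc]

theorem vr_sub14 (S : Gens Q z a x u v h) (c : ℕ) :
    vr (gc z a x u v h o) (sub14 c) = (gl z a x u v h o c)⁻¹ := by
  obtain ⟨hg, hw⟩ := gel_sq S
  have hz : z⁻¹ = z := inv_z S
  have ha : (a 1)⁻¹ = a 1 := S.pts.inv_self 1
  have hu : u⁻¹ = u := inv_eq_of_mul_eq_one_right S.uu
  have hv : v⁻¹ = v := inv_eq_of_mul_eq_one_right S.vv
  have hgi : (gel u h)⁻¹ = gel u h := inv_eq_of_mul_eq_one_right hg
  have hwi : (gel u h * x)⁻¹ = gel u h * x := inv_eq_of_mul_eq_one_right hw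
  have hgh : h⁻¹ = u * gel u h := by
    rw [gel, ← mul_assoc, S.uu, one_mul]
  match c with
  | 0 => simp [sub14, vr, gc, gl, hz]
  | 1 => simp [sub14, vr, gc, gl]
  | 2 => simp [sub14, vr, gc, gl, ha]
  | 3 => simp [sub14, vr, gc, gl]
  | 4 =>
    simp [sub14, vr, gc, gl]
    conv_lhs => rw [← hwi]
    rw [mul_inv_rev, hgi, mul_assoc, hg, mul_one]
  | 5 =>
    simp [sub14, vr, gc, gl]
    rw [← mul_assoc, hg, one_mul]
  | 6 => simp [sub14, vr, gc, gl, hu]
  | 7 => simp [sub14, vr, gc, gl]
  | 8 => simp [sub14, vr, gc, gl, hv]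
  | 9 => simp [sub14, vr, gc, gl]
  | 10 =>
    simp [sub14, vr, gc, gl]
    exact hgh.symm
  | 11 =>
    simp [sub14, vr, gc, gl]
    calc gel u h * u = (u * gel u h)⁻¹ := by rw [mul_inv_rev, hgi, hu]
      _ = h := by rw [← hgh, inv_inv]
  | 12 => simp [sub14, vr, gc, gl]
  | 13 => simp [sub14, vr, gc, gl]
  | n + 14 => simp [sub14, vr, gl]

theorem vr_word (S : Gens Q z a x u v h) (r : List ℕ) :
    vr (gc z a x u v h o) (subst sub14 r) = (wval (gl z a x u v h o) r)⁻¹ := by
  induction r with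
  | nil => simp [subst, vr, wval]
  | cons c r ih =>
    rw [show subst sub14 (c :: r) = sub14 c ++ subst sub14 r from rfl, vr_append, ih, vr_sub14 S]
    simp [wval, mul_inv_rev]

/-- An element commuting with enough conjugates of `z` is trivial. -/
theorem eq_one_of_comm (S : Gens Q z a x u v h) (T : Oct z a x u v o) (W : G)
    (hW : ∀ k ∈ [1, o, h * o, h * h * o, x * (h * h * o), x * x * (h * h * o), o * h * o],
      Commute W (k * z * k⁻¹)) : W = 1 := by
  have hσ : σh 0 = 1 ∧ σh 1 = 2 ∧ σx 2 = 3 ∧ σx 3 = 4 := by decide +kernel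
  have hz : Commute W z := by simpa using hW 1 (by simp)
  have c1 : ∀ (k b : G) (σ : Equiv.Perm (Fin 5)) (p q : Fin 5), Exact z a k σ → σ p = q →
      b * z * b⁻¹ = z * a p → (k * b) * z * (k * b)⁻¹ = z * a q := by
    intro k b σ p q hk hpq hb
    calc (k * b) * z * (k * b)⁻¹ = k * (b * z * b⁻¹) * k⁻¹ := by group
      _ = (k * z * k⁻¹) * (k * a p * k⁻¹) := by rw [hb]; group
      _ = z * a q := by rw [hk.1, mul_inv_cancel_right, hk.2, hpq]
  have k0 : o * z * o⁻¹ = z * a 0 := T.oz
  have k1 : (h * o) * z * (h * o)⁻¹ = z * a 1 := c1 h o σh 0 1 S.eh hσ.1 k0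
  have k2 : (h * h * o) * z * (h * h * o)⁻¹ = z * a 2 := by
    rw [mul_assoc h h o]; exact c1 h (h * o) σh 1 2 S.eh hσ.2.1 k1
  have k3 : (x * (h * h * o)) * z * (x * (h * h * o))⁻¹ = z * a 3 :=
    c1 x (h * h * o) σx 2 3 S.ex hσ.2.2.1 k2
  have k4 : (x * x * (h * h * o)) * z * (x * x * (h * h * o))⁻¹ = z * a 4 := by
    rw [mul_assoc x x]; exact c1 x _ σx 3 4 S.ex hσ.2.2.2 k3
  have hp : ∀ p, Commute W (a p) := by
    intro p
    have key : ∀ k : G, Commute W (k * z * k⁻¹) → k * z * k⁻¹ = z * a p → Commute W (a p) := by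
      intro k hk e
      rw [e] at hk
      have := hz.mul_right hk
      rwa [← mul_assoc, zz S, one_mul] at this
    match p with
    | 0 => exact key o (hW _ (by simp)) k0
    | 1 => exact key _ (hW _ (by simp)) k1
    | 2 => exact key _ (hW _ (by simp)) k2
    | 3 => exact key _ (hW _ (by simp)) k3
    | 4 => exact key _ (hW _ (by simp)) k4
  have hex : Exact z a W 1 :=
    ⟨hz.eq, fun p => by rw [(hp p).eq, mul_inv_cancel_right]; rfl⟩
  rcases exact_one S hex with e | e
  · exact e
  exfalso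
  have h5 := hW (o * h * o) (by simp)
  rw [e, show o * h * o * z * (o * h * o)⁻¹ = o * ((h * o) * z * (h * o)⁻¹) * o⁻¹ by group,
    k1] at h5
  have ho : o⁻¹ * z * o = a 0 := by
    conv_lhs => rw [← T.oa]
    group
  have hc : Commute (a 0) (z * a 1) := by
    rw [← ho, show z * a 1 = o⁻¹ * (o * (z * a 1) * o⁻¹) * o by group]
    show _ = _
    calc o⁻¹ * z * o * (o⁻¹ * (o * (z * a 1) * o⁻¹) * o)
        = o⁻¹ * (z * (o * (z * a 1) * o⁻¹)) * o := by group
      _ = o⁻¹ * ((o * (z * a 1) * o⁻¹) * z) * o := by rw [h5.eq]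
      _ = _ := by group
  have hd : Commute (a 0) (a 1) := by
    have := (show Commute (a 0) z from az S 0).mul_right hc
    rwa [← mul_assoc, zz S, one_mul] at this
  have h6 := anti' S (show (0 : Fin 5) ≠ 1 by decide)
  rw [hd.eq, mul_assoc, S.pts.sq, mul_one] at h6
  exact S.hJ.l.ne_one (mul_eq_right.1 h6.symm)

/-- The twelve words are trivial in `G`. -/
theorem words_one_G (S : Gens Q z a x u v h) (T : Oct z a x u v o)
    (hR : ∀ r ∈ relsR, wval (gl z a x u v h o) r = 1) :
    ∀ r ∈ J3Cert24BData.cert.rels, vr (gc z a x u v h o) (subst subL r) = 1 := by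
  classical
  set g := gc z a x u v h o with hg
  let φ : G ≃* Shrink.{0} G := (Shrink.mulEquiv : Shrink.{0} G ≃* G).symm
  haveI : Finite (Shrink.{0} G) := Finite.of_equiv G φ.toEquiv
  have hrel : ∀ r ∈ relsH ++ relsO ++ relsR, vr g (subst sub14 r) = 1 := by
    intro r hr
    rw [vr_word S, inv_eq_one]
    simp only [List.mem_append] at hr
    rcases hr with (hr | hr) | hr
    · exact relsH_hold S o r hr
    · exact relsO_hold S T r hr
    · exact hR r hr
  have hmem : ∀ c ∈ [0, 1, 4, 5, 6, 7], g c ∈ centralizer ({z} : Set G) := by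
    intro c hc
    rw [mem_centralizer_singleton_iff]
    have hgz : Commute (gel u h) z :=
      (show Commute u z from S.eu.1).mul_left (show Commute h z from S.eh.1).inv_left
    simp only [List.mem_cons, List.not_mem_nil, or_false] at hc
    rcases hc with rfl | rfl | rfl | rfl | rfl | rfl
    · rfl
    · exact az S 1
    · exact S.eu.1
    · exact S.ev.1
    · exact hgz.eq
    · exact (hgz.mul_left (show Commute x z from S.ex.1)).eq
  have hi : ∀ c, φ (g (flp c)) = (φ (g c))⁻¹ := fun c => by rw [hg, gc_inv S, map_inv]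
  have hr : ∀ r ∈ relsH ++ relsO ++ relsR, vr (fun c => φ (g c)) (subst sub14 r) = 1 :=
    fun r hr => by rw [← MulEquiv.coe_toMonoidHom, ← vr_hom, hrel r hr, map_one]
  have hw := words_one (fun c => φ (g c)) hi
    ((centralizer ({z} : Set G)).map φ.toMonoidHom) hr
    (fun c hc => Subgroup.mem_map_of_mem _ (hmem c hc))
    (fun W hW => by
      obtain ⟨W, rfl⟩ := φ.surjective W
      have hk : ∀ p ∈ pts, Commute W
          ((wval (gl z a x u v h o) p)⁻¹ * z * wval (gl z a x u v h o) p) := by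
        intro p hp
        have := hW p hp
        rw [← MulEquiv.coe_toMonoidHom, ← vr_hom, ← map_inv, ← map_mul, ← map_mul] at this
        obtain ⟨y, hy, e⟩ := Subgroup.mem_map.1 this
        rw [φ.injective e] at hy
        replace hy := mem_centralizer_singleton_iff.1 (SetLike.mem_coe.1 hy)
        rw [hg, vr_word S, inv_inv] at hy
        set k := wval (gl z a x u v h o) p
        show W * (k⁻¹ * z * k) = k⁻¹ * z * k * W
        calc W * (k⁻¹ * z * k) = k⁻¹ * (k * W * k⁻¹ * z) * k := by group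
          _ = k⁻¹ * (z * (k * W * k⁻¹)) * k := by rw [hy]
          _ = _ := by group
      rw [eq_one_of_comm S T W ?_, map_one]
      intro k hk'
      have hi : ∀ p ∈ pts, (wval (gl z a x u v h o) p)⁻¹ = k → Commute W (k * z * k⁻¹) := by
        intro p hp e
        rw [← e, inv_inv]; exact hk p hp
      simp only [List.mem_cons, List.not_mem_nil, or_false] at hk'
      rcases hk' with e | e | e | e | e | e | e
      · exact hi [] (by decide) (by simp [e, wval])
      · exact hi [13] (by decide) (by simp [e, wval, gl])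
      · exact hi [13, 11] (by decide) (by simp [e, wval, gl])
      · exact hi [13, 11, 11] (by decide) (by simp [e, wval, gl, mul_assoc])
      · exact hi [13, 11, 11, 5] (by decide) (by simp [e, wval, gl, mul_assoc])
      · exact hi [13, 11, 11, 5, 5] (by decide) (by simp [e, wval, gl, mul_assoc])
      · exact hi [13, 11, 13] (by decide) (by simp [e, wval, gl, mul_assoc]))
  intro r hr
  have := hw r hr
  rw [← MulEquiv.coe_toMonoidHom, ← vr_hom, ← map_one φ.toMonoidHom] at this
  exact φ.injective this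

/-- **The bound.** The seven generators generate a subgroup of order at most `3 * |J₃|`. -/
theorem card_le (S : Gens Q z a x u v h) (T : Oct z a x u v o)
    (hR : ∀ r ∈ relsR, wval (gl z a x u v h o) r = 1) :
    Nat.card ↥(closure ({z, a 1, x, u, v, h, o} : Set G)) ≤ 150698880 := by
  classical
  set g := gc z a x u v h o with hg
  let φ : G ≃* Shrink.{0} G := (Shrink.mulEquiv : Shrink.{0} G ≃* G).symm
  haveI : Finite (Shrink.{0} G) := Finite.of_equiv G φ.toEquiv
  have hb := bound (fun c => φ (g c)) (fun c => by rw [hg, gc_inv S, map_inv])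
    (fun r hr => by
      rw [← MulEquiv.coe_toMonoidHom, ← vr_hom, vr_word S, map_inv, inv_eq_one]
      simp only [List.mem_append] at hr
      rcases hr with (hr | hr) | hr
      · rw [relsH_hold S o r hr, map_one]
      · rw [relsO_hold S T r hr, map_one]
      · rw [hR r hr, map_one])
    (fun r hr => by rw [← MulEquiv.coe_toMonoidHom, ← vr_hom, words_one_G S T hR r hr, map_one])
  refine le_trans (le_trans ?_ hb) (by norm_num)
  set B := closure {y | ∃ c, c < 8 ∧ y = φ (g c)} with hB
  have hle : (closure ({z, a 1, x, u, v, h, o} : Set G)).map φ.toMonoidHom ≤ B := by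
    rw [MonoidHom.map_closure, closure_le]
    have hm : ∀ c < 8, φ (g c) ∈ B := fun c hc => subset_closure ⟨c, hc, rfl⟩
    have hw : ∀ w : List ℕ, (∀ c ∈ w, c < 8) → φ (vr g w) ∈ B := by
      intro w hw
      induction w with
      | nil => simp [vr]
      | cons c w ih =>
        rw [vr_cons, map_mul]
        exact mul_mem (ih fun d hd => hw d (List.mem_cons_of_mem _ hd))
          (hm c (hw c (List.mem_cons_self ..)))
    have hl : ∀ c, c < 14 → φ (gl z a x u v h o c) ∈ B := by
      intro c hc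
      have h8 : ∀ d ∈ sub14 c, d < 8 := by
        interval_cases c <;> decide
      have := inv_mem (hw _ h8)
      rwa [vr_sub14 S, ← map_inv, inv_inv] at this
    rintro _ ⟨y, hy, rfl⟩
    simp only [Set.mem_insert_iff, Set.mem_singleton_iff] at hy
    rcases hy with rfl | rfl | rfl | rfl | rfl | rfl | rfl
    exacts [hl 0 (by norm_num), hl 2 (by norm_num), hl 4 (by norm_num), hl 6 (by norm_num),
      hl 8 (by norm_num), hl 10 (by norm_num), hl 12 (by norm_num)]
  refine le_trans (le_of_eq ?_) (Subgroup.card_le_of_le hle)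
  exact (Nat.card_congr (Subgroup.equivMapOfInjective _ φ.toMonoidHom φ.injective).toEquiv)

end Main

end Cfsg.Agent.J3Cert24Bound
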