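import Cfsg.Agent.Lib.J3Cert24Bound
import Cfsg.Agent.Lib.J3Bridge93

/-!
# Groups of J₃ type: the map from the triple cover

The bound of `J3Cert24Bound` needs eighteen further relators; they hold in `G` by the centraliser
argument and in the model by computation, so the subgroup of `G × 3.J₃` generated by the pairs of
letters is the triple cover.
-/

set_option autoImplicit false
set_option maxRecDepth 100000

namespace Cfsg.Agent.J3Cert24Onto

open Subgroup Cfsg.Agent.J3Setup93 Cfsg.Agent.J3Rels93 Cfsg.Agent.J3Cert24Bound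
open Cfsg.Agent.CosetCertFlip66 (flp vr vr_cons vr_append)
open Cfsg.Agent.J3Images93 (img wN wN_spec img_inv img_gen)
open Cfsg.Agent.J3InvLift90 (lift_one)
open Cfsg.Spor

universe w

/-- The eight letters as words in the fourteen letters. -/
def map8 (c : ℕ) : List ℕ :=
  [[0], [2], [13], [12], [6], [8], [6, 11], [6, 11, 4]].getD c []

/-- The further relators. -/
noncomputable def relsL : List (List ℕ) :=
  [[0, 0], [2, 2], [6, 6], [8, 8], [6, 11, 6, 11], [6, 11, 4, 6, 11, 4]] ++
    J3Cert24BData.cert.rels.map fun r => (subst subL r).reverse.flatMap map8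

section

variable {G : Type*} [Group G]

theorem wval_append (g : ℕ → G) (p q : List ℕ) : wval g (p ++ q) = wval g p * wval g q := by
  simp [wval]

theorem vr_map8 (g : ℕ → G) (w : List ℕ) :
    vr (fun c => wval g (map8 c)) w = wval g (w.reverse.flatMap map8) := by
  induction w with
  | nil => simp [vr, wval]
  | cons c w ih =>
    rw [vr_cons, ih, List.reverse_cons, List.flatMap_append, wval_append]
    simp

end

/-- The bound from the relators, in an arbitrary group. -/
theorem card_gamma {Γ : Type w} [Group Γ] [Finite Γ] (g : ℕ → Γ)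
    (hinv : ∀ c, g (Nat.xor c 1) = (g c)⁻¹) (hbig : ∀ c, 14 ≤ c → g c = 1)
    (hR : ∀ r ∈ relsH ++ relsO ++ relsR ++ relsL, wval g r = 1) :
    Nat.card ↥(closure (Set.range g)) ≤ 150698880 := by
  classical
  have hsq : ∀ r ∈ [[0, 0], [2, 2], [6, 6], [8, 8], [6, 11, 6, 11], [6, 11, 4, 6, 11, 4]],
      wval g r = 1 := fun r hr =>
    hR r (List.mem_append_right _ (List.mem_append_left _ hr))
  set g8 : ℕ → Γ := fun c => wval g (map8 c) with hg8
  have hs : g 0 * g 0 = 1 ∧ g 2 * g 2 = 1 ∧ g 6 * g 6 = 1 ∧ g 8 * g 8 = 1 ∧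
      g 6 * g 11 * (g 6 * g 11) = 1 ∧ g 6 * g 11 * g 4 * (g 6 * g 11 * g 4) = 1 := by
    refine ⟨?_, ?_, ?_, ?_, ?_, ?_⟩
    · simpa [wval] using hsq [0, 0] (by simp)
    · simpa [wval] using hsq [2, 2] (by simp)
    · simpa [wval] using hsq [6, 6] (by simp)
    · simpa [wval] using hsq [8, 8] (by simp)
    · simpa [wval, mul_assoc] using hsq [6, 11, 6, 11] (by simp)
    · simpa [wval, mul_assoc] using hsq [6, 11, 4, 6, 11, 4] (by simp)
  obtain ⟨s0, s2, s6, s8, sg, sw⟩ := hs
  have i : ∀ c d, Nat.xor c 1 = d → g d = (g c)⁻¹ := fun c d e => e ▸ hinv c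
  have i0 : (g 0)⁻¹ = g 0 := inv_eq_of_mul_eq_one_right s0
  have i2 : (g 2)⁻¹ = g 2 := inv_eq_of_mul_eq_one_right s2
  have i6 : (g 6)⁻¹ = g 6 := inv_eq_of_mul_eq_one_right s6
  have i8 : (g 8)⁻¹ = g 8 := inv_eq_of_mul_eq_one_right s8
  have ig : (g 6 * g 11)⁻¹ = g 6 * g 11 := inv_eq_of_mul_eq_one_right sg
  have iw' : (g 6 * g 11 * g 4)⁻¹ = g 6 * g 11 * g 4 := inv_eq_of_mul_eq_one_right sw
  have e12 : g 13 = (g 12)⁻¹ := i 12 13 rfl
  have hi : ∀ c, g8 (flp c) = (g8 c)⁻¹ := by
    intro c
    match c with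
    | 0 =>
      rw [show flp 0 = 0 by decide +kernel]
      show wval g (map8 0) = (wval g (map8 0))⁻¹
      simp [map8, wval, i0]
    | 1 =>
      rw [show flp 1 = 1 by decide +kernel]
      show wval g (map8 1) = (wval g (map8 1))⁻¹
      simp [map8, wval, i2]
    | 2 =>
      rw [show flp 2 = 3 by decide +kernel]
      show wval g (map8 3) = (wval g (map8 2))⁻¹
      simp [map8, wval, e12]
    | 3 =>
      rw [show flp 3 = 2 by decide +kernel]
      show wval g (map8 2) = (wval g (map8 3))⁻¹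
      simp [map8, wval, e12]
    | 4 =>
      rw [show flp 4 = 4 by decide +kernel]
      show wval g (map8 4) = (wval g (map8 4))⁻¹
      simp [map8, wval, i6]
    | 5 =>
      rw [show flp 5 = 5 by decide +kernel]
      show wval g (map8 5) = (wval g (map8 5))⁻¹
      simp [map8, wval, i8]
    | 6 =>
      rw [show flp 6 = 6 by decide +kernel]
      show wval g (map8 6) = (wval g (map8 6))⁻¹
      simpa [map8, wval] using ig.symm
    | 7 =>
      rw [show flp 7 = 7 by decide +kernel]
      show wval g (map8 7) = (wval g (map8 7))⁻¹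
      simpa [map8, wval, mul_assoc] using iw'.symm
    | n + 8 =>
      have h2 : Nat.beq (n + 8) 2 = false := by rw [← Bool.not_eq_true, Nat.beq_eq]; omega
      have h3 : Nat.beq (n + 8) 3 = false := by rw [← Bool.not_eq_true, Nat.beq_eq]; omega
      simp [g8, flp, h2, h3, map8, wval]
  have hlet : ∀ c, vr g8 (sub14 c) = (g c)⁻¹ := by
    intro c
    match c with
    | 0 => simp [g8, sub14, vr, map8, wval, i0]
    | 1 => simp [g8, sub14, vr, map8, wval, i 0 1 rfl]
    | 2 => simp [g8, sub14, vr, map8, wval, i2]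
    | 3 => simp [g8, sub14, vr, map8, wval, i 2 3 rfl]
    | 4 =>
      simp [g8, sub14, vr, map8, wval, ← mul_assoc]
      refine eq_inv_of_mul_eq_one_left ?_
      rw [← sw]; simp [mul_assoc]
    | 5 =>
      simp [g8, sub14, vr, map8, wval, ← mul_assoc, i 4 5 rfl]
      rw [← sg]; simp [mul_assoc]
    | 6 => simp [g8, sub14, vr, map8, wval, i6]
    | 7 => simp [g8, sub14, vr, map8, wval, i 6 7 rfl]
    | 8 => simp [g8, sub14, vr, map8, wval, i8]
    | 9 => simp [g8, sub14, vr, map8, wval, i 8 9 rfl]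
    | 10 =>
      simp [g8, sub14, vr, map8, wval, ← mul_assoc, s6]
      exact i 10 11 rfl
    | 11 =>
      simp [g8, sub14, vr, map8, wval]
      calc g 6 * g 11 * g 6 = (g 6 * g 11)⁻¹ * (g 6)⁻¹ := by rw [ig, i6]
        _ = (g 11)⁻¹ := by
          rw [mul_inv_rev, mul_assoc, i6, s6, mul_one]
    | 12 => simp [g8, sub14, vr, map8, wval, e12]
    | 13 => simp [g8, sub14, vr, map8, wval, e12]
    | n + 14 => simp [sub14, vr, hbig (n + 14) (by omega)]
  have hword : ∀ r : List ℕ, vr g8 (subst sub14 r) = (wval g r)⁻¹ := by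
    intro r
    induction r with
    | nil => simp [subst, vr, wval]
    | cons c r ih =>
      rw [show subst sub14 (c :: r) = sub14 c ++ subst sub14 r from rfl, vr_append, ih, hlet]
      simp [wval, mul_inv_rev]
  let φ : Γ ≃* Shrink.{0} Γ := (Shrink.mulEquiv : Shrink.{0} Γ ≃* Γ).symm
  haveI : Finite (Shrink.{0} Γ) := Finite.of_equiv Γ φ.toEquiv
  have hb := bound (fun c => φ (g8 c)) (fun c => by rw [hi, map_inv])
    (fun r hr => by
      rw [← MulEquiv.coe_toMonoidHom, ← vr_hom, hword, hR r (List.mem_append_left _ hr), inv_one,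
        map_one])
    (fun r hr => by
      rw [← MulEquiv.coe_toMonoidHom, ← vr_hom, vr_map8,
        hR _ (List.mem_append_right _ (List.mem_append_right _ (List.mem_map_of_mem hr))),
        map_one])
  refine le_trans (le_trans ?_ hb) (by norm_num)
  set B := closure {y | ∃ c, c < 8 ∧ y = φ (g8 c)} with hB
  have hm : ∀ w : List ℕ, (∀ c ∈ w, c < 8) → φ (vr g8 w) ∈ B := by
    intro w hw
    induction w with
    | nil => simp [vr]
    | cons c w ih =>
      rw [vr_cons, map_mul]
      exact mul_mem (ih fun d hd => hw d (List.mem_cons_of_mem _ hd))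
        (subset_closure ⟨c, hw c (List.mem_cons_self ..), rfl⟩)
  have hle : (closure (Set.range g)).map φ.toMonoidHom ≤ B := by
    rw [MonoidHom.map_closure, closure_le]
    rintro _ ⟨_, ⟨c, rfl⟩, rfl⟩
    by_cases hc : c < 14
    · have h8 : ∀ d ∈ sub14 c, d < 8 := by
        interval_cases c <;> decide
      have := inv_mem (hm _ h8)
      rwa [hlet, ← map_inv, inv_inv] at this
    · simp [hbig c (by omega)]
  refine le_trans (le_of_eq ?_) (Subgroup.card_le_of_le hle)
  exact Nat.card_congr (Subgroup.equivMapOfInjective _ φ.toMonoidHom φ.injective).toEquiv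

/-- The relators used. -/
noncomputable def relsAll24 : List (List ℕ) := relsH ++ relsO ++ relsR ++ relsL

theorem rels24_ok : (relsAll24.all fun w => w.all (fun c => Nat.blt c 14) &&
    Nat.beq (wN w) J3Data90.one) = true := by
  decide +kernel

section Group

variable {G : Type w} [Group G] [Finite G] {Q : Subgroup G} {z : G} {a : Fin 5 → G}
variable {x u v h o : G}

/-- The relators `relsR` follow from the expanded relators of the main case. -/
theorem relsR_hold (S : Gens Q z a x u v h)
    (hR : ∀ r ∈ J3Images93.relsAll, wval (gl z a x u v h o) r = 1) :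
    ∀ r ∈ relsR, wval (gl z a x u v h o) r = 1 := by
  intro r hr
  simp only [relsR, List.mem_cons, List.not_mem_nil, or_false] at hr
  rcases hr with rfl | rfl
  · exact hR _ (by decide +kernel)
  have hm : [12, 4, 6, 11, 5, 13, 10, 7, 12, 4, 6, 11, 5, 13, 10, 7, 12, 4, 6, 11, 5, 13, 10, 7,
      12, 4, 6, 11, 5, 13, 10, 7] ∈ J3Images93.relsAll := by decide +kernel
  have h0 := hR _ hm
  obtain ⟨hg, hw⟩ := gel_sq S
  have key : x * (u * h⁻¹) = u * h⁻¹ * x⁻¹ := by
    have e : gel u h * x * gel u h = x⁻¹ :=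
      eq_inv_of_mul_eq_one_left (by rw [← hw]; group)
    calc x * (u * h⁻¹) = (gel u h * gel u h) * (x * gel u h) := by rw [hg, one_mul]; rfl
      _ = gel u h * (gel u h * x * gel u h) := by group
      _ = _ := by rw [e]; rfl
  have hblk : wval (gl z a x u v h o) [12, 4, 4, 6, 11, 13, 10, 7] =
      wval (gl z a x u v h o) [12, 4, 6, 11, 5, 13, 10, 7] := by
    simp only [wval, gl, List.map_cons, List.map_nil, List.prod_cons, List.prod_nil,
      List.getD_cons_zero, List.getD_cons_succ, mul_one]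
    calc o * (x * (x * (u * (h⁻¹ * (o⁻¹ * (h * u⁻¹)))))) =
          o * x * (x * (u * h⁻¹)) * (o⁻¹ * (h * u⁻¹)) := by group
      _ = o * x * (u * h⁻¹ * x⁻¹) * (o⁻¹ * (h * u⁻¹)) := by rw [key]
      _ = _ := by group
  have e4 : ∀ b : List ℕ, wval (gl z a x u v h o) (b ++ b ++ b ++ b) =
      wval (gl z a x u v h o) b * wval (gl z a x u v h o) b * wval (gl z a x u v h o) b *
        wval (gl z a x u v h o) b := fun b => by simp [wval, mul_assoc]
  rw [show ([12, 4, 4, 6, 11, 13, 10, 7, 12, 4, 4, 6, 11, 13, 10, 7, 12, 4, 4, 6, 11, 13, 10, 7,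
      12, 4, 4, 6, 11, 13, 10, 7] : List ℕ) = [12, 4, 4, 6, 11, 13, 10, 7] ++
      [12, 4, 4, 6, 11, 13, 10, 7] ++ [12, 4, 4, 6, 11, 13, 10, 7] ++
      [12, 4, 4, 6, 11, 13, 10, 7] from rfl, e4, hblk, ← e4]
  exact h0

/-- All the relators hold in `G`. -/
theorem rels24_hold (S : Gens Q z a x u v h) (T : Oct z a x u v o)
    (hR : ∀ r ∈ relsR, wval (gl z a x u v h o) r = 1) :
    ∀ r ∈ relsAll24, wval (gl z a x u v h o) r = 1 := by
  intro r hr
  simp only [relsAll24, List.mem_append] at hr
  rcases hr with ((hr | hr) | hr) | hr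
  · exact relsH_hold S o r hr
  · exact relsO_hold S T r hr
  · exact hR r hr
  rcases List.mem_append.1 hr with hr | hr
  · obtain ⟨hg, hw⟩ := gel_sq S
    simp only [List.mem_cons, List.not_mem_nil, or_false] at hr
    rcases hr with rfl | rfl | rfl | rfl | rfl | rfl <;> simp only [wval, gl, List.map_cons,
      List.map_nil, List.prod_cons, List.prod_nil, List.getD_cons_zero, List.getD_cons_succ,
      mul_one]
    · exact zz S
    · exact S.pts.sq 1
    · exact S.uu
    · exact S.vv
    · rw [← hg, gel]; group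
    · rw [← hw, gel]; group
  · obtain ⟨r', hr', rfl⟩ := List.mem_map.1 hr
    have hgc : (fun c => wval (gl z a x u v h o) (map8 c)) = gc z a x u v h o := by
      funext c
      match c with
      | 0 | 1 | 2 | 3 | 4 | 5 => simp [map8, wval, gl, gc]
      | 6 => simp [map8, wval, gl, gc, gel]
      | 7 => simp [map8, wval, gl, gc, gel, mul_assoc]
      | n + 8 => simp [map8, wval, gc]
    rw [← vr_map8, hgc]
    exact words_one_G S T hR r' hr'

variable {F : Type} [Field F] [Finite F] (ω : F) (h2 : (2 : F) = 0) (hω : ω ^ 2 + ω + 1 = 0)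
include h2 hω

/-- The generated subgroup is an image of the triple cover. -/
theorem exists_onto (S : Gens Q z a x u v h) (T : Oct z a x u v o)
    (hrel : ∀ r ∈ J3Images93.relsAll, wval (gl z a x u v h o) r = 1)
    (hinv : ∀ c, gl z a x u v h o (Nat.xor c 1) = (gl z a x u v h o c)⁻¹)
    (hbig : ∀ c, 14 ≤ c → gl z a x u v h o c = 1) :
    ∃ f : threeJ3 F ω →* G, f.range = closure (Set.range (gl z a x u v h o)) := by
  haveI : Finite (threeJ3 F ω) :=
    Nat.finite_of_card_ne_zero (by rw [J3Order90.card_threeJ3 ω h2 hω]; norm_num)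
  set g := gl z a x u v h o with hg
  set p : ℕ → G × threeJ3 F ω := fun c => (g c, img ω c)
  set Γ := closure (Set.range p)
  have h1 : ∀ c, p (Nat.xor c 1) = (p c)⁻¹ := fun c =>
    Prod.ext (hinv c) (img_inv ω h2 hω c)
  have h3 : ∀ c, 14 ≤ c → p c = 1 := fun c hc =>
    Prod.ext (hbig c hc) (if_neg (by omega) : img ω c = 1)
  have h4 : ∀ r ∈ relsAll24, wval p r = 1 := fun r hr => by
    refine Prod.ext
      ((J3Bridge93.map_wval (MonoidHom.fst G (threeJ3 F ω)) p r).trans
        (rels24_hold S T (relsR_hold S hrel) r hr))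
      ((J3Bridge93.map_wval (MonoidHom.snd G (threeJ3 F ω)) p r).trans ?_)
    have h := List.all_eq_true.1 rels24_ok r hr
    simp only [Bool.and_eq_true, List.all_eq_true, Nat.blt_eq, Nat.beq_eq] at h
    show wval (img ω) r = 1
    rw [(wN_spec ω h2 hω r h.1).2, h.2, lift_one ω h2 hω]
  have hle : Nat.card ↥Γ ≤ 150698880 := card_gamma p h1 h3 h4
  set π : ↥Γ →* threeJ3 F ω := (MonoidHom.snd G (threeJ3 F ω)).comp Γ.subtype
  have hsurj : Function.Surjective π := by
    rw [← MonoidHom.range_eq_top, eq_top_iff, ← img_gen ω h2 hω, closure_le]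
    rintro _ ⟨c, rfl⟩
    exact ⟨⟨p c, subset_closure ⟨c, rfl⟩⟩, rfl⟩
  have hbij : Function.Bijective π :=
    ⟨((Nat.bijective_iff_surjective_and_card π).2 ⟨hsurj, le_antisymm
      (hle.trans_eq (J3Order90.card_threeJ3 ω h2 hω).symm)
      (Nat.card_le_card_of_surjective π hsurj)⟩).1, hsurj⟩
  set e := MulEquiv.ofBijective π hbij
  refine ⟨((MonoidHom.fst G (threeJ3 F ω)).comp Γ.subtype).comp e.symm.toMonoidHom, ?_⟩
  refine le_antisymm ?_ ((closure_le _).2 ?_)
  · rintro _ ⟨t, rfl⟩
    have hΓ : Γ ≤ (closure (Set.range g)).prod ⊤ := by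
      refine (closure_le _).2 ?_
      rintro _ ⟨c, rfl⟩
      exact ⟨subset_closure ⟨c, rfl⟩, trivial⟩
    exact (hΓ (e.symm t).2).1
  · rintro _ ⟨c, rfl⟩
    refine ⟨img ω c, ?_⟩
    have hc : e ⟨p c, subset_closure ⟨c, rfl⟩⟩ = img ω c := rfl
    show ((e.symm (img ω c) : ↥Γ) : G × threeJ3 F ω).1 = g c
    rw [← hc, e.symm_apply_apply]

end Group

end Cfsg.Agent.J3Cert24Onto
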