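import Cfsg.Agent.Lib.J3Check90

/-! Further kernel checks: powers and words of the two generators. -/

set_option autoImplicit false
set_option maxRecDepth 100000

namespace Cfsg.Agent.J3Cert2_90

open CosetCertCore J3Mat90 J3Data90

/-- Powers by repeated multiplication. -/
noncomputable def powN (M : ℕ) : ℕ → ℕ :=
  fun n => Nat.rec (motive := fun _ => ℕ) one (fun _ r => force r fun r' => mulN r' M) n

theorem powers : powN genA 19 = one ∧ powN genB 19 = one ∧ powN el17 17 = one ∧ powN el5 5 = one ∧
    powN scal 3 = one := by decide +kernel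

theorem nontrivial : genA ≠ one ∧ genB ≠ one ∧ el17 ≠ one ∧ el5 ≠ one ∧ scal ≠ one ∧
    genA < 2 ^ 162 ∧ genB < 2 ^ 162 ∧ el17 < 2 ^ 162 ∧ el5 < 2 ^ 162 ∧ one < 2 ^ 162 ∧
    scal < 2 ^ 162 := by decide +kernel

theorem words : genA = mulN (mulN (origGens.getD 13 0) (origGens.getD 37 0)) (origGens.getD 22 0) ∧
    genB = mulN (mulN (origGens.getD 17 0) (origGens.getD 22 0)) (origGens.getD 37 0) := by
  decide +kernel

theorem lengths : twoGens.length = 5 ∧ threeGens.length = 5 ∧ origGens.length = 43 := by
  decide +kernel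

end Cfsg.Agent.J3Cert2_90
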