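import Cfsg.Agent.Lib.J3Check90

/-! The certificate of the triple cover of the third Janko group, checked by the kernel. -/

set_option autoImplicit false
set_option maxRecDepth 100000

namespace Cfsg.Agent.J3CertA90

open CosetCertCore J3Mat90 J3Data90 J3Check90

theorem edge1_a : allFrom e1 3100 0 = true := by decide +kernel
theorem edge1_b : allFrom e1 3100 3100 = true := by decide +kernel
theorem edge1_c : allFrom e1 3100 6200 = true := by decide +kernel
theorem edge1_d : allFrom e1 3012 9300 = true := by decide +kernel

theorem edge2_ok : allFrom e2c 272 0 = true := by decide +kernel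
theorem edge3_ok : allFrom e3 360 0 = true := by decide +kernel

theorem tree1_ok : allFrom (treeOK u1 par1 genA genB) 6156 0 = true := by decide +kernel
theorem tree2_ok : allFrom (treeOK u2 par2 kg0 kg1) 136 0 = true := by decide +kernel
theorem tree3_ok : allFrom (treeOK u3 par3 hg0 hg1) 180 0 = true := by decide +kernel

theorem heads : entry u1 162 0 = one ∧ entry u2 162 0 = one ∧ entry u3 162 0 = one ∧
    entry twoElts 162 0 = one ∧ entry threeElts 162 0 = one := by decide +kernel

/-- The two edges defining the generators of the middle group. -/
theorem kgens : mulN genB (entry u1 162 (11797 / 2)) =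
      mulN (entry u1 162 (Nat.land (entry edge1 32 11797) 8191)) kg0 ∧
    mulN genB (entry u1 162 (12217 / 2)) =
      mulN (entry u1 162 (Nat.land (entry edge1 32 12217) 8191)) kg1 := by decide +kernel

/-- The two edges defining the generators of the bottom group. -/
theorem hgens : mulN kg1 (entry u2 162 (219 / 2)) =
      mulN (entry u2 162 (Nat.land (entry edge2 16 219) 255)) hg0 ∧
    mulN kg1 (entry u2 162 (171 / 2)) =
      mulN (entry u2 162 (Nat.land (entry edge2 16 171) 255)) hg1 := by decide +kernel

theorem orig_mem : allFrom (fun n => memOK (origGens.getD n 0) (origCert.getD n 0)) 43 0 = true := by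
  decide +kernel

theorem two_mem : allFrom (fun n => memOK (twoGens.getD n 0) (twoCert.getD n 0)) 5 0 = true := by
  decide +kernel

theorem three_mem :
    allFrom (fun n => memOK (threeGens.getD n 0) (threeCert.getD n 0)) 5 0 = true := by
  decide +kernel

theorem spec_mem : memOK el17 cert17 = true ∧ memOK el5 cert5 = true ∧ memOK genA certA = true ∧
    memOK scal certS = true := by decide +kernel

theorem two_edges : allFrom (fun n => smallEdge twoGens twoElts twoEdge n 128) 640 0 = true := by
  decide +kernel
theorem two_tree : allFrom (smallTree twoGens twoElts twoPar) 128 0 = true := by decide +kernel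
theorem two_sort : allFrom (sortOK twoElts twoSort 128) 128 0 = true := by decide +kernel

theorem three_edges :
    allFrom (fun n => smallEdge threeGens threeElts threeEdge n 729) 3645 0 = true := by
  decide +kernel
theorem three_tree : allFrom (smallTree threeGens threeElts threePar) 729 0 = true := by
  decide +kernel
theorem three_sort : allFrom (sortOK threeElts threeSort 729) 729 0 = true := by decide +kernel

end Cfsg.Agent.J3CertA90
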