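import Mathlib

/-! Closing a finite table under left multiplication by generators, one level of a chain at a time. -/

set_option autoImplicit false

namespace Cfsg.Agent.J3Level90

variable {M : Type*} [Monoid M]

theorem isUnit_of_mem_closure {S : Set M} (h : ∀ s ∈ S, IsUnit s) {m : M}
    (hm : m ∈ Submonoid.closure S) : IsUnit m := by
  induction hm using Submonoid.closure_induction with
  | mem x hx => exact h x hx
  | one => exact isUnit_one
  | mul x y _ _ hx hy => exact hx.mul hy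

theorem exists_left_inv_mem [Finite M] (K : Submonoid M) {m : M} (hm : m ∈ K) (hu : IsUnit m) :
    ∃ m' ∈ K, m' * m = 1 := by
  obtain ⟨u, rfl⟩ := hu
  refine ⟨(u : M) ^ (orderOf u - 1), pow_mem hm _, ?_⟩
  have h := pow_orderOf_eq_one u
  rw [← pow_succ, Nat.sub_add_cancel (orderOf_pos u), ← Units.val_pow_eq_pow_val, h, Units.val_one]

/-- A quotient inside `K`: if `t * k = w` with `t, w ∈ K` and `t` invertible, then `k ∈ K`. -/
theorem mem_of_mul_mem [Finite M] (K : Submonoid M) {t k : M} (ht : t ∈ K) (hu : IsUnit t)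
    (hw : t * k ∈ K) : k ∈ K := by
  obtain ⟨t', ht', he⟩ := exists_left_inv_mem K ht hu
  have h := K.mul_mem ht' hw
  rwa [← mul_assoc, he, one_mul] at h

theorem tree_mem (K : Submonoid M) (T : ℕ → M) (n : ℕ) (h0 : T 0 = 1)
    (h : ∀ x < n, x ≠ 0 → ∃ g ∈ K, ∃ p < x, T x = g * T p) : ∀ x < n, T x ∈ K := by
  intro x
  induction x using Nat.strong_induction_on with
  | _ x ih =>
    intro hx
    by_cases hx0 : x = 0
    · subst hx0; rw [h0]; exact K.one_mem
    · obtain ⟨g, hg, p, hp, e⟩ := h x hx hx0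
      rw [e]
      exact K.mul_mem hg (ih p hp (hp.trans hx))

theorem edge_closure (K : Submonoid M) (S : Set M) (T : ℕ → M) (n : ℕ)
    (he : ∀ g ∈ S, ∀ x < n, ∃ y < n, ∃ k ∈ K, g * T x = T y * k) {m : M}
    (hm : m ∈ Submonoid.closure S) : ∀ x < n, ∃ y < n, ∃ k ∈ K, m * T x = T y * k := by
  induction hm using Submonoid.closure_induction with
  | mem g hg => exact he g hg
  | one => exact fun x hx => ⟨x, hx, 1, K.one_mem, by rw [one_mul, mul_one]⟩
  | mul a b _ _ iha ihb =>
    intro x hx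
    obtain ⟨y, hy, k, hk, e⟩ := ihb x hx
    obtain ⟨z, hz, k', hk', e'⟩ := iha y hy
    exact ⟨z, hz, k' * k, K.mul_mem hk' hk, by rw [mul_assoc, e, ← mul_assoc, e', mul_assoc]⟩

/-- A table closed under the generators contains the generated submonoid. -/
theorem table_closure (S : Set M) (T : ℕ → M) (n : ℕ) (hn : 0 < n) (h0 : T 0 = 1)
    (he : ∀ g ∈ S, ∀ x < n, ∃ y < n, g * T x = T y) {m : M} (hm : m ∈ Submonoid.closure S) :
    ∃ y < n, m = T y := by
  obtain ⟨y, hy, k, hk, e⟩ := edge_closure ⊥ S T n (fun g hg x hx => by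
    obtain ⟨y, hy, e⟩ := he g hg x hx
    exact ⟨y, hy, 1, Submonoid.one_mem _, by rw [e, mul_one]⟩) hm 0 hn
  rw [Submonoid.mem_bot] at hk
  rw [h0, hk, mul_one, mul_one] at e
  exact ⟨y, hy, e⟩

end Cfsg.Agent.J3Level90
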