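import Cfsg.Agent.Lib.J3CertA90
import Cfsg.Agent.Lib.J3Cert2_90
import Cfsg.Agent.Lib.J3Level90
import Cfsg.Agent.Lib.J3Gens90

/-! The chain of transversals inside the monoid generated by the two generators of order 19. -/

set_option autoImplicit false
set_option maxRecDepth 100000

namespace Cfsg.Agent.J3Chain90

open CosetCertCore J3Mat90 J3Data90 J3Check90 J3CertA90 J3Cert2_90 J3Level90 J3Gens90
open Cfsg.Spor

section
variable {F : Type*} [Field F] (ω : F)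

noncomputable def T1 (x : ℕ) : Matrix F9 F9 F := ev ω (entry u1 162 x)
noncomputable def T2 (x : ℕ) : Matrix F9 F9 F := ev ω (entry u2 162 x)
noncomputable def T3 (x : ℕ) : Matrix F9 F9 F := ev ω (entry u3 162 x)

/-- The monoid generated by the two generators of order 19. -/
noncomputable def M0 : Submonoid (Matrix F9 F9 F) := Submonoid.closure {ev ω genA, ev ω genB}
noncomputable def K2 : Submonoid (Matrix F9 F9 F) := Submonoid.closure {ev ω kg0, ev ω kg1}
noncomputable def K3 : Submonoid (Matrix F9 F9 F) := Submonoid.closure {ev ω hg0, ev ω hg1}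

theorem T1_zero : T1 ω 0 = 1 := by rw [T1, heads.1, ev_one]
theorem T2_zero : T2 ω 0 = 1 := by rw [T2, heads.2.1, ev_one]
theorem T3_zero : T3 ω 0 = 1 := by rw [T3, heads.2.2.1, ev_one]

theorem pick_even (p q x : ℕ) : cond (Nat.beq (Nat.land (2 * x) 1) 0) p q = p := by
  show cond (Nat.beq (2 * x &&& 1) 0) p q = p
  rw [Nat.and_one_is_mod, Nat.mul_mod_right]
  rfl

theorem pick_odd (p q x : ℕ) : cond (Nat.beq (Nat.land (2 * x + 1) 1) 0) p q = q := by
  show cond (Nat.beq ((2 * x + 1) &&& 1) 0) p q = q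
  rw [Nat.and_one_is_mod, show (2 * x + 1) % 2 = 1 by omega]
  rfl

theorem half_even (x : ℕ) : Nat.shiftRight (2 * x) 1 = x := by
  show (2 * x) >>> 1 = x
  rw [Nat.shiftRight_eq_div_pow]
  omega

theorem half_odd (x : ℕ) : Nat.shiftRight (2 * x + 1) 1 = x := by
  show (2 * x + 1) >>> 1 = x
  rw [Nat.shiftRight_eq_div_pow]
  omega

variable (h2 : (2 : F) = 0) (hω : ω ^ 2 + ω + 1 = 0)
include h2 hω

theorem ev_powN (M : ℕ) : ∀ n, ev ω (powN M n) = ev ω M ^ n
  | 0 => by rw [pow_zero]; exact ev_one ω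
  | n + 1 => by
    show ev ω (force (powN M n) fun r' => mulN r' M) = _
    rw [force_eq, ev_mulN ω h2 hω, ev_powN M n, pow_succ]

theorem genA_pow : ev ω genA ^ 19 = 1 := by rw [← ev_powN ω h2 hω, powers.1, ev_one]
theorem genB_pow : ev ω genB ^ 19 = 1 := by rw [← ev_powN ω h2 hω, powers.2.1, ev_one]

theorem unit_of_M0 {m : Matrix F9 F9 F} (hm : m ∈ M0 ω) : IsUnit m := by
  refine isUnit_of_mem_closure ?_ hm
  rintro s (rfl | rfl)
  · exact IsUnit.of_pow_eq_one (genA_pow ω h2 hω) (by norm_num)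
  · exact IsUnit.of_pow_eq_one (genB_pow ω h2 hω) (by norm_num)

theorem tree_step {U P : Tbl} {g0 g1 : ℕ} {n : ℕ} (h : allFrom (treeOK U P g0 g1) n 0 = true)
    (K : Submonoid (Matrix F9 F9 F)) (ha : ev ω g0 ∈ K) (hb : ev ω g1 ∈ K)
    (h0 : ev ω (entry U 162 0) = 1) : ∀ x < n, ev ω (entry U 162 x) ∈ K := by
  refine tree_mem K (fun x => ev ω (entry U 162 x)) n h0 ?_
  intro x hx hx0
  have hs := allFrom_spec _ n 0 h x (Nat.zero_le _) (by omega)
  simp only [treeOK, force_eq, Bool.or_eq_true, Bool.and_eq_true, Nat.blt_eq, Nat.beq_eq] at hs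
  obtain hs | ⟨hp, he⟩ := hs
  · exact absurd hs hx0
  · refine ⟨ev ω (cond (Nat.beq (Nat.land (entry P 16 x) 1) 0) g0 g1), ?_, _, hp, ?_⟩
    · cases Nat.beq (Nat.land (entry P 16 x) 1) 0
      · exact hb
      · exact ha
    · show ev ω (entry U 162 x) = _
      rw [he, ev_mulN ω h2 hω]

theorem T1_mem : ∀ x < 6156, T1 ω x ∈ M0 ω :=
  tree_step ω h2 hω tree1_ok (M0 ω) (Submonoid.subset_closure (Or.inl rfl))
    (Submonoid.subset_closure (Or.inr rfl)) (T1_zero ω)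

theorem T2_mem : ∀ x < 136, T2 ω x ∈ K2 ω :=
  tree_step ω h2 hω tree2_ok (K2 ω) (Submonoid.subset_closure (Or.inl rfl))
    (Submonoid.subset_closure (Or.inr rfl)) (T2_zero ω)

theorem T3_mem : ∀ x < 180, T3 ω x ∈ K3 ω :=
  tree_step ω h2 hω tree3_ok (K3 ω) (Submonoid.subset_closure (Or.inl rfl))
    (Submonoid.subset_closure (Or.inr rfl)) (T3_zero ω)

/-- An edge of the top level. -/
theorem edge1_spec {g : Matrix F9 F9 F} (hg : g ∈ ({ev ω genA, ev ω genB} : Set _)) {x : ℕ}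
    (hx : x < 6156) : ∃ y < 6156, ∃ i < 136, ∃ j < 180, g * T1 ω x = T1 ω y * (T2 ω i * T3 ω j) := by
  have all : ∀ n < 12312, e1 n = true := by
    intro n hn
    by_cases h1 : n < 3100
    · exact allFrom_spec _ _ _ edge1_a n (Nat.zero_le _) (by omega)
    by_cases h3 : n < 6200
    · exact allFrom_spec _ _ _ edge1_b n (by omega) (by omega)
    by_cases h4 : n < 9300
    · exact allFrom_spec _ _ _ edge1_c n (by omega) (by omega)
    · exact allFrom_spec _ _ _ edge1_d n (by omega) (by omega)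
  rcases hg with rfl | rfl
  · have hs := all (2 * x) (by omega)
    simp only [e1, force_eq, pick_even, half_even, Bool.and_eq_true, Nat.blt_eq, Nat.beq_eq] at hs
    obtain ⟨⟨⟨hy, hi⟩, hj⟩, he⟩ := hs
    refine ⟨_, hy, _, hi, _, hj, ?_⟩
    have := congrArg (ev ω) he
    simp only [ev_mulN ω h2 hω] at this
    rw [← mul_assoc]
    exact this
  · have hs := all (2 * x + 1) (by omega)
    simp only [e1, force_eq, pick_odd, half_odd, Bool.and_eq_true, Nat.blt_eq, Nat.beq_eq] at hs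
    obtain ⟨⟨⟨hy, hi⟩, hj⟩, he⟩ := hs
    refine ⟨_, hy, _, hi, _, hj, ?_⟩
    have := congrArg (ev ω) he
    simp only [ev_mulN ω h2 hω] at this
    rw [← mul_assoc]
    exact this

theorem edge2_spec {g : Matrix F9 F9 F} (hg : g ∈ ({ev ω kg0, ev ω kg1} : Set _)) {x : ℕ}
    (hx : x < 136) : ∃ y < 136, ∃ j < 180, g * T2 ω x = T2 ω y * T3 ω j := by
  rcases hg with rfl | rfl
  · have hs := allFrom_spec _ _ _ edge2_ok (2 * x) (Nat.zero_le _) (by omega)
    simp only [e2c, force_eq, pick_even, half_even, Bool.and_eq_true, Nat.blt_eq, Nat.beq_eq] at hs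
    obtain ⟨⟨hy, hj⟩, he⟩ := hs
    refine ⟨_, hy, _, hj, ?_⟩
    have := congrArg (ev ω) he
    simp only [ev_mulN ω h2 hω] at this
    exact this
  · have hs := allFrom_spec _ _ _ edge2_ok (2 * x + 1) (Nat.zero_le _) (by omega)
    simp only [e2c, force_eq, pick_odd, half_odd, Bool.and_eq_true, Nat.blt_eq, Nat.beq_eq] at hs
    obtain ⟨⟨hy, hj⟩, he⟩ := hs
    refine ⟨_, hy, _, hj, ?_⟩
    have := congrArg (ev ω) he
    simp only [ev_mulN ω h2 hω] at this
    exact this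

theorem edge3_spec {g : Matrix F9 F9 F} (hg : g ∈ ({ev ω hg0, ev ω hg1} : Set _)) {x : ℕ}
    (hx : x < 180) : ∃ y < 180, g * T3 ω x = T3 ω y := by
  rcases hg with rfl | rfl
  · have hs := allFrom_spec _ _ _ edge3_ok (2 * x) (Nat.zero_le _) (by omega)
    simp only [e3, force_eq, pick_even, half_even, Bool.and_eq_true, Nat.blt_eq, Nat.beq_eq] at hs
    obtain ⟨hy, he⟩ := hs
    refine ⟨_, hy, ?_⟩
    have := congrArg (ev ω) he
    simp only [ev_mulN ω h2 hω] at this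
    exact this
  · have hs := allFrom_spec _ _ _ edge3_ok (2 * x + 1) (Nat.zero_le _) (by omega)
    simp only [e3, force_eq, pick_odd, half_odd, Bool.and_eq_true, Nat.blt_eq, Nat.beq_eq] at hs
    obtain ⟨hy, he⟩ := hs
    refine ⟨_, hy, ?_⟩
    have := congrArg (ev ω) he
    simp only [ev_mulN ω h2 hω] at this
    exact this

theorem K3_table {m : Matrix F9 F9 F} (hm : m ∈ K3 ω) : ∃ j < 180, m = T3 ω j :=
  table_closure _ (T3 ω) 180 (by norm_num) (T3_zero ω)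
    (fun _ hg _ hx => edge3_spec ω h2 hω hg hx) hm

variable [Finite F]

theorem kg_mem : ev ω kg0 ∈ M0 ω ∧ ev ω kg1 ∈ M0 ω := by
  have hb : ev ω genB ∈ M0 ω := Submonoid.subset_closure (Or.inr rfl)
  have main : ∀ (x y : ℕ) (k : ℕ), x < 6156 → y < 6156 →
      mulN genB (entry u1 162 x) = mulN (entry u1 162 y) k → ev ω k ∈ M0 ω := by
    intro x y k hx hy he
    have ht := T1_mem ω h2 hω y hy
    refine mem_of_mul_mem (M0 ω) ht (unit_of_M0 ω h2 hω ht) ?_
    rw [T1, ← ev_mulN ω h2 hω, ← he, ev_mulN ω h2 hω]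
    exact (M0 ω).mul_mem hb (T1_mem ω h2 hω x hx)
  have hy : Nat.land (entry edge1 32 11797) 8191 < 6156 ∧
      Nat.land (entry edge1 32 12217) 8191 < 6156 := by decide +kernel
  exact ⟨main _ _ _ (by norm_num) hy.1 kgens.1, main _ _ _ (by norm_num) hy.2 kgens.2⟩

theorem K2_le : K2 ω ≤ M0 ω := by
  rw [K2, Submonoid.closure_le]
  rintro s (rfl | rfl)
  · exact (kg_mem ω h2 hω).1
  · exact (kg_mem ω h2 hω).2

theorem hg_mem : ev ω hg0 ∈ K2 ω ∧ ev ω hg1 ∈ K2 ω := by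
  have hk : ev ω kg1 ∈ K2 ω := Submonoid.subset_closure (Or.inr rfl)
  have main : ∀ (x y : ℕ) (k : ℕ), x < 136 → y < 136 →
      mulN kg1 (entry u2 162 x) = mulN (entry u2 162 y) k → ev ω k ∈ K2 ω := by
    intro x y k hx hy he
    have ht := T2_mem ω h2 hω y hy
    refine mem_of_mul_mem (K2 ω) ht (unit_of_M0 ω h2 hω (K2_le ω h2 hω ht)) ?_
    rw [T2, ← ev_mulN ω h2 hω, ← he, ev_mulN ω h2 hω]
    exact (K2 ω).mul_mem hk (T2_mem ω h2 hω x hx)
  have hy : Nat.land (entry edge2 16 219) 255 < 136 ∧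
      Nat.land (entry edge2 16 171) 255 < 136 := by decide +kernel
  exact ⟨main _ _ _ (by norm_num) hy.1 hgens.1, main _ _ _ (by norm_num) hy.2 hgens.2⟩

theorem K3_le : K3 ω ≤ K2 ω := by
  rw [K3, Submonoid.closure_le]
  rintro s (rfl | rfl)
  · exact (hg_mem ω h2 hω).1
  · exact (hg_mem ω h2 hω).2

theorem K2_table {k : Matrix F9 F9 F} (hk : k ∈ K2 ω) :
    ∃ i < 136, ∃ j < 180, k = T2 ω i * T3 ω j := by
  obtain ⟨i, hi, h, hh, e⟩ := edge_closure (K3 ω) _ (T2 ω) 136 (fun g hg x hx => by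
    obtain ⟨y, hy, j, hj, e⟩ := edge2_spec ω h2 hω hg hx
    exact ⟨y, hy, _, T3_mem ω h2 hω j hj, e⟩) hk 0 (by norm_num)
  obtain ⟨j, hj, rfl⟩ := K3_table ω h2 hω hh
  rw [T2_zero, mul_one] at e
  exact ⟨i, hi, j, hj, e⟩

/-- Left multiplication by an element of the monoid permutes the top transversal up to `K2`. -/
theorem coset_step {m : Matrix F9 F9 F} (hm : m ∈ M0 ω) {x : ℕ} (hx : x < 6156) :
    ∃ y < 6156, ∃ k ∈ K2 ω, m * T1 ω x = T1 ω y * k :=
  edge_closure (K2 ω) _ (T1 ω) 6156 (fun g hg x hx => by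
    obtain ⟨y, hy, i, hi, j, hj, e⟩ := edge1_spec ω h2 hω hg hx
    exact ⟨y, hy, _, (K2 ω).mul_mem (T2_mem ω h2 hω i hi) (K3_le ω h2 hω (T3_mem ω h2 hω j hj)),
      e⟩) hm x hx

theorem M0_table {m : Matrix F9 F9 F} (hm : m ∈ M0 ω) :
    ∃ x < 6156, ∃ i < 136, ∃ j < 180, m = T1 ω x * (T2 ω i * T3 ω j) := by
  obtain ⟨y, hy, k, hk, e⟩ := coset_step ω h2 hω hm (x := 0) (by norm_num)
  obtain ⟨i, hi, j, hj, rfl⟩ := K2_table ω h2 hω hk
  rw [T1_zero, mul_one] at e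
  exact ⟨y, hy, i, hi, j, hj, e⟩

theorem mem_of_memOK {M e : ℕ} (h : memOK M e = true) : ev ω M ∈ M0 ω := by
  simp only [memOK, force_eq, Bool.and_eq_true, Nat.blt_eq, Nat.beq_eq] at h
  obtain ⟨⟨⟨hx, hi⟩, hj⟩, he⟩ := h
  rw [he, ev_mulN ω h2 hω, ev_mulN ω h2 hω]
  exact (M0 ω).mul_mem ((M0 ω).mul_mem (T1_mem ω h2 hω _ hx) (K2_le ω h2 hω (T2_mem ω h2 hω _ hi)))
    (K2_le ω h2 hω (K3_le ω h2 hω (T3_mem ω h2 hω _ hj)))

end

end Cfsg.Agent.J3Chain90
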