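import Cfsg.Agent.Lib.J3Mat90
import Cfsg.Agent.Lib.J3Data90

/-! Checkers for the certificate of the triple cover of the third Janko group. -/

set_option autoImplicit false

namespace Cfsg.Agent.J3Check90

open CosetCertCore J3Mat90 J3Data90

/-- `f s, …, f (s + n - 1)`. -/
noncomputable def allFrom (f : ℕ → Bool) (n : ℕ) : ℕ → Bool :=
  Nat.rec (motive := fun _ => ℕ → Bool) (fun _ => true)
    (fun _ ih s => force s fun s' => f s' && ih (s' + 1)) n

theorem allFrom_spec (f : ℕ → Bool) : ∀ (n s : ℕ), allFrom f n s = true →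
    ∀ x, s ≤ x → x < s + n → f x = true
  | 0, s, _, x, h1, h2 => by omega
  | n + 1, s, h, x, h1, h2 => by
    have h' : f s = true ∧ allFrom f n (s + 1) = true := by
      simpa [allFrom, force_eq] using h
    rcases Nat.eq_or_lt_of_le h1 with rfl | h3
    · exact h'.1
    · exact allFrom_spec f n (s + 1) h'.2 x (by omega) (by omega)

noncomputable def e1 (n : ℕ) : Bool :=
  force (entry edge1 32 n) fun e =>
  force (Nat.land e 8191) fun y =>
  force (Nat.land (Nat.shiftRight e 13) 255) fun i =>
  force (Nat.shiftRight e 21) fun j =>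
  Nat.blt y 6156 && Nat.blt i 136 && Nat.blt j 180 &&
    force (entry u1 162 (Nat.shiftRight n 1)) fun X =>
    force (entry u1 162 y) fun Y =>
    force (entry u2 162 i) fun I =>
    force (entry u3 162 j) fun J =>
    Nat.beq (mulN (cond (Nat.beq (Nat.land n 1) 0) genA genB) X) (mulN (mulN Y I) J)

noncomputable def e2c (n : ℕ) : Bool :=
  force (entry edge2 16 n) fun e =>
  force (Nat.land e 255) fun y =>
  force (Nat.shiftRight e 8) fun j =>
  Nat.blt y 136 && Nat.blt j 180 &&
    force (entry u2 162 (Nat.shiftRight n 1)) fun X =>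
    force (entry u2 162 y) fun Y =>
    force (entry u3 162 j) fun J =>
    Nat.beq (mulN (cond (Nat.beq (Nat.land n 1) 0) kg0 kg1) X) (mulN Y J)

noncomputable def e3 (n : ℕ) : Bool :=
  force (entry edge3 8 n) fun y =>
  Nat.blt y 180 &&
    force (entry u3 162 (Nat.shiftRight n 1)) fun X =>
    force (entry u3 162 y) fun Y =>
    Nat.beq (mulN (cond (Nat.beq (Nat.land n 1) 0) hg0 hg1) X) Y

/-- Tree condition at node `x`. -/
noncomputable def treeOK (U P : Tbl) (g0 g1 : ℕ) (x : ℕ) : Bool :=
  Nat.beq x 0 ||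
    force (entry P 16 x) fun e =>
    force (Nat.shiftRight e 1) fun p =>
    Nat.blt p x && Nat.beq (entry U 162 x)
      (mulN (cond (Nat.beq (Nat.land e 1) 0) g0 g1) (entry U 162 p))

/-- A code is the product named by a packed triple. -/
noncomputable def memOK (M e : ℕ) : Bool :=
  force (Nat.land e 8191) fun x =>
  force (Nat.land (Nat.shiftRight e 13) 255) fun i =>
  force (Nat.shiftRight e 21) fun j =>
  Nat.blt x 6156 && Nat.blt i 136 && Nat.blt j 180 &&
    Nat.beq M (mulN (mulN (entry u1 162 x) (entry u2 162 i)) (entry u3 162 j))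

noncomputable def smallEdge (gens : List ℕ) (T E : Tbl) (n N : ℕ) : Bool :=
  force (entry E 16 n) fun y =>
  Nat.blt y N && Nat.beq (mulN (gens.getD (n % gens.length) 0) (entry T 162 (n / gens.length)))
    (entry T 162 y)

noncomputable def smallTree (gens : List ℕ) (T P : Tbl) (x : ℕ) : Bool :=
  Nat.beq x 0 ||
    force (entry P 16 x) fun e =>
    Nat.blt (e / 8) x && Nat.blt (e % 8) gens.length &&
      Nat.beq (entry T 162 x) (mulN (gens.getD (e % 8) 0) (entry T 162 (e / 8)))

noncomputable def sortOK (T S : Tbl) (N x : ℕ) : Bool :=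
  Nat.blt (entry S 16 x) N && Nat.blt (entry T 162 (entry S 16 x)) (2 ^ 162) &&
    (Nat.blt N (x + 2) ||
      Nat.blt (entry T 162 (entry S 16 x)) (entry T 162 (entry S 16 (x + 1))))

end Cfsg.Agent.J3Check90
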