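import Cfsg.Agent.Lib.J3Keys93

/-!
# The models of the two possible quotients
-/

set_option autoImplicit false
set_option maxRecDepth 100000
set_option Elab.async false

namespace Cfsg.Agent.J3Model93

open Cfsg.Agent.J3Perm93 Cfsg.Agent.J3Keys93

theorem mem6 : ∀ p : Equiv.Perm (Fin 6), Equiv.Perm.sign p = 1 → code p ∈ els6 := by decide +kernel

/-- Witnesses conjugating each even involution to the distinguished one. -/
def wit6 : List (Equiv.Perm (Fin 6)) := [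
  Equiv.swap 0 2 * Equiv.swap 1 3 * Equiv.swap 3 5 * Equiv.swap 4 5,
  Equiv.swap 0 2 * Equiv.swap 1 3 * Equiv.swap 3 4 * Equiv.swap 4 5,
  Equiv.swap 0 2 * Equiv.swap 1 3,
  Equiv.swap 0 2 * Equiv.swap 1 2 * Equiv.swap 2 5 * Equiv.swap 4 5,
  Equiv.swap 0 2 * Equiv.swap 1 2 * Equiv.swap 2 5 * Equiv.swap 3 5,
  Equiv.swap 0 2 * Equiv.swap 1 2 * Equiv.swap 2 5 * Equiv.swap 3 4,
  Equiv.swap 0 2 * Equiv.swap 1 2 * Equiv.swap 2 3 * Equiv.swap 3 5,
  Equiv.swap 0 2 * Equiv.swap 1 2 * Equiv.swap 2 4 * Equiv.swap 3 5,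
  Equiv.swap 0 2 * Equiv.swap 1 2 * Equiv.swap 3 5 * Equiv.swap 4 5,
  Equiv.swap 0 2 * Equiv.swap 1 2 * Equiv.swap 2 3 * Equiv.swap 4 5,
  Equiv.swap 0 2 * Equiv.swap 1 2 * Equiv.swap 3 4 * Equiv.swap 4 5,
  Equiv.swap 0 2 * Equiv.swap 1 2 * Equiv.swap 2 4 * Equiv.swap 4 5,
  Equiv.swap 0 2 * Equiv.swap 1 2 * Equiv.swap 2 3 * Equiv.swap 3 4,
  Equiv.swap 0 2 * Equiv.swap 1 2 * Equiv.swap 2 4 * Equiv.swap 3 4,
  Equiv.swap 0 2 * Equiv.swap 1 2,
  Equiv.swap 1 5 * Equiv.swap 4 5,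
  Equiv.swap 1 5 * Equiv.swap 3 5,
  Equiv.swap 1 5 * Equiv.swap 3 4,
  Equiv.swap 1 5 * Equiv.swap 2 5 * Equiv.swap 3 4 * Equiv.swap 4 5,
  Equiv.swap 1 5 * Equiv.swap 2 5,
  Equiv.swap 1 5 * Equiv.swap 2 5 * Equiv.swap 3 5 * Equiv.swap 4 5,
  Equiv.swap 1 2 * Equiv.swap 2 5,
  Equiv.swap 1 2 * Equiv.swap 2 5 * Equiv.swap 3 4 * Equiv.swap 4 5,
  Equiv.swap 1 2 * Equiv.swap 2 5 * Equiv.swap 3 5 * Equiv.swap 4 5,
  Equiv.swap 2 5 * Equiv.swap 3 4,
  Equiv.swap 2 5 * Equiv.swap 3 5,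
  Equiv.swap 2 5 * Equiv.swap 4 5,
  Equiv.swap 1 2 * Equiv.swap 2 3 * Equiv.swap 3 5 * Equiv.swap 4 5,
  Equiv.swap 1 2 * Equiv.swap 3 5,
  Equiv.swap 1 2 * Equiv.swap 2 4 * Equiv.swap 3 5 * Equiv.swap 4 5,
  Equiv.swap 2 4 * Equiv.swap 3 5,
  Equiv.swap 2 3 * Equiv.swap 3 5,
  Equiv.swap 3 5 * Equiv.swap 4 5,
  Equiv.swap 1 2 * Equiv.swap 2 3 * Equiv.swap 3 4 * Equiv.swap 4 5,
  Equiv.swap 1 2 * Equiv.swap 2 4 * Equiv.swap 3 4 * Equiv.swap 4 5,
  Equiv.swap 1 2 * Equiv.swap 4 5,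
  Equiv.swap 2 4 * Equiv.swap 4 5,
  Equiv.swap 3 4 * Equiv.swap 4 5,
  Equiv.swap 2 3 * Equiv.swap 4 5,
  Equiv.swap 1 2 * Equiv.swap 2 3,
  Equiv.swap 1 2 * Equiv.swap 3 4,
  Equiv.swap 1 2 * Equiv.swap 2 4,
  Equiv.swap 2 4 * Equiv.swap 3 4,
  Equiv.swap 2 3 * Equiv.swap 3 4,
  1]

theorem conj6_wit : ∀ p : Equiv.Perm (Fin 6), p * p = 1 → p ≠ 1 → Equiv.Perm.sign p = 1 →
    ∃ s ∈ wit6, Equiv.Perm.sign s = 1 ∧ code (s * p * s⁻¹) = z6 := by decide +kernel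

theorem conj6 : ∀ p : Equiv.Perm (Fin 6), Equiv.Perm.sign p = 1 → p * p = 1 → p ≠ 1 →
    ∃ s : Equiv.Perm (Fin 6), Equiv.Perm.sign s = 1 ∧ code (s * p * s⁻¹) = z6 := fun p h1 h2 h3 =>
  let ⟨s, _, hs⟩ := conj6_wit p h2 h3 h1
  ⟨s, hs⟩

/-- Matrices of the group of order 168. -/
abbrev S3 := Matrix.SpecialLinearGroup (Fin 3) (ZMod 2)

/-- The nonzero vectors. -/
def vec (i : Fin 7) : Fin 3 → ZMod 2 := fun k => (((i.val + 1) >>> k.val) % 2 : ℕ)

/-- The index of a nonzero vector. -/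
def idx (v : Fin 3 → ZMod 2) : Fin 7 :=
  Fin.ofNat 7 ((v 0).val + 2 * (v 1).val + 4 * (v 2).val + 6)

theorem vec_idx : ∀ v, v ≠ 0 → vec (idx v) = v := by decide +kernel

theorem idx_vec : ∀ i, idx (vec i) = i ∧ vec i ≠ 0 := by decide +kernel

/-- The action of a matrix on the points. -/
def pmap (M : Matrix (Fin 3) (Fin 3) (ZMod 2)) (i : Fin 7) : Fin 7 := idx (M.mulVec (vec i))

theorem pmap_one (i : Fin 7) : pmap 1 i = i := by
  rw [pmap, Matrix.one_mulVec]; exact (idx_vec i).1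

theorem pmap_mul (A B : S3) (i : Fin 7) :
    pmap ((A * B : S3) : Matrix (Fin 3) (Fin 3) (ZMod 2)) i = pmap A (pmap B i) := by
  have hB : (B : Matrix (Fin 3) (Fin 3) (ZMod 2)).mulVec (vec i) ≠ 0 := by
    intro e
    apply (idx_vec i).2
    have h := congrArg ((B⁻¹ : S3) : Matrix (Fin 3) (Fin 3) (ZMod 2)).mulVec e
    rwa [Matrix.mulVec_mulVec, ← Matrix.SpecialLinearGroup.coe_mul, inv_mul_cancel,
      Matrix.SpecialLinearGroup.coe_one, Matrix.one_mulVec, Matrix.mulVec_zero] at h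
  rw [pmap, pmap, pmap, vec_idx _ hB, Matrix.mulVec_mulVec, Matrix.SpecialLinearGroup.coe_mul]

/-- The permutation of a matrix. -/
def toPerm : S3 →* Equiv.Perm (Fin 7) where
  toFun A :=
    { toFun := pmap A
      invFun := pmap ((A⁻¹ : S3) : Matrix (Fin 3) (Fin 3) (ZMod 2))
      left_inv := fun i => by
        rw [← pmap_mul, inv_mul_cancel, Matrix.SpecialLinearGroup.coe_one, pmap_one]
      right_inv := fun i => by
        rw [← pmap_mul, mul_inv_cancel, Matrix.SpecialLinearGroup.coe_one, pmap_one] }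
  map_one' := Equiv.ext fun i => by
    show pmap ((1 : S3) : Matrix (Fin 3) (Fin 3) (ZMod 2)) i = i
    rw [Matrix.SpecialLinearGroup.coe_one, pmap_one]
  map_mul' A B := Equiv.ext fun i => pmap_mul A B i

/-- The code of a matrix. -/
def mcode (M : Matrix (Fin 3) (Fin 3) (ZMod 2)) : ℕ :=
  Nat.ofDigits 8 (List.ofFn fun i => (pmap M i).val)

theorem code_toPerm (A : S3) : code (toPerm A) = mcode A := rfl

theorem mem7 : ∀ M : Matrix (Fin 3) (Fin 3) (ZMod 2), M.det = 1 → mcode M ∈ els7 := by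
  decide +kernel

theorem inj7 : ∀ M : Matrix (Fin 3) (Fin 3) (ZMod 2), M.det = 1 → mcode M = mcode 1 → M = 1 := by
  decide +kernel

/-- The matrix of `z7`. -/
def Z7 : Matrix (Fin 3) (Fin 3) (ZMod 2) := !![1, 1, 0; 0, 1, 0; 0, 0, 1]

theorem mcode_Z7 : mcode Z7 = z7 ∧ Z7.det = 1 := by decide +kernel

theorem conj7 : ∀ M : Matrix (Fin 3) (Fin 3) (ZMod 2), M.det = 1 → M * M = 1 → M ≠ 1 →
    ∃ N : Matrix (Fin 3) (Fin 3) (ZMod 2), N.det = 1 ∧ N * M = Z7 * N := by decide +kernel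

theorem toPerm_inj : Function.Injective toPerm := by
  refine (injective_iff_map_eq_one toPerm).2 fun A hA => Subtype.ext (inj7 A A.2 ?_)
  rw [← code_toPerm, hA, code_one]
  decide +kernel

/-- The models: every involution is the distinguished one in some faithful representation. -/
theorem models {K : Type*} [Group K]
    (hK : Nonempty (K ≃* ↥(alternatingGroup (Fin 6))) ∨ Nonempty (K ≃* S3))
    (t : K) (t2 : t * t = 1) (t1 : t ≠ 1) :
    ∃ (n : ℕ) (L : List ℕ) (z0 : ℕ) (π : K →* Equiv.Perm (Fin n)),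
      n ≤ 8 ∧ Function.Injective π ∧ (∀ k, code (π k) ∈ L) ∧ code (π t) = z0 ∧
      chkFlip n L z0 = true ∧
      ∀ Rs, chkCases 6 els6 z6 Rs = true → chkCases 7 els7 z7 Rs = true →
        chkCases n L z0 Rs = true := by
  rcases hK with ⟨⟨e⟩⟩ | ⟨⟨e⟩⟩
  · have h1 : ((e t : ↥(alternatingGroup (Fin 6))) : Equiv.Perm (Fin 6)) * (e t : _) = 1 := by
      rw [← Subgroup.coe_mul, ← map_mul, t2, map_one]; rfl
    obtain ⟨s, hs, hc⟩ := conj6 _ (e t).2 h1 fun h => t1 (e.injective (by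
      rw [map_one]; exact Subtype.ext h))
    refine ⟨6, els6, z6, ((MulAut.conj s).toMonoidHom).comp
      ((alternatingGroup (Fin 6)).subtype.comp e.toMonoidHom), by norm_num, ?_, ?_, hc, flip6,
      fun Rs h _ => h⟩
    · exact (MulAut.conj s).injective.comp ((Subgroup.subtype_injective _).comp e.injective)
    · intro k
      apply mem6
      show Equiv.Perm.sign (s * (e k : Equiv.Perm (Fin 6)) * s⁻¹) = 1
      rw [map_mul, map_mul, map_inv, show Equiv.Perm.sign ((e k : _) : Equiv.Perm (Fin 6)) = 1 from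
        (e k).2, mul_one, mul_inv_cancel]
  · have h1 : ((e t : S3) : Matrix (Fin 3) (Fin 3) (ZMod 2)) * (e t : S3) = 1 := by
      rw [← Matrix.SpecialLinearGroup.coe_mul, ← map_mul, t2, map_one,
        Matrix.SpecialLinearGroup.coe_one]
    obtain ⟨N, hN, hc⟩ := conj7 _ (e t).2 h1 fun h => t1 (e.injective (by
      rw [map_one]; exact Subtype.ext h))
    let N' : S3 := ⟨N, hN⟩
    let Z' : S3 := ⟨Z7, mcode_Z7.2⟩
    have hq : N' * e t = Z' * N' := Subtype.ext hc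
    refine ⟨7, els7, z7, toPerm.comp (((MulAut.conj N').toMonoidHom).comp e.toMonoidHom),
      by norm_num, ?_, ?_, ?_, flip7, fun Rs _ h => h⟩
    · exact toPerm_inj.comp ((MulAut.conj N').injective.comp e.injective)
    · intro k
      exact mem7 _ (N' * e k * N'⁻¹).2
    · show code (toPerm (N' * e t * N'⁻¹)) = z7
      rw [hq, mul_inv_cancel_right, code_toPerm]
      exact mcode_Z7.1

end Cfsg.Agent.J3Model93
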