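import Cfsg.Agent.Lib.J3Rels93
import Cfsg.Agent.Lib.J3Model93

/-!
# Groups of J₃ type: the relators inside the centraliser of the element of order three
-/

set_option autoImplicit false

namespace Cfsg.Agent.J3Glue93

open Subgroup Cfsg.Agent.J3TypePoints93 Cfsg.Agent.J3Setup93 Cfsg.Agent.J3Rels93
open Cfsg.Agent.J3Perm93 Cfsg.Agent.J3Keys93 Cfsg.Agent.J3Model93

/-- The word of a tuple letter for the exponent `m`. -/
def sub (m c : ℕ) : List ℕ :=
  [[0], [1], [10, 10, 2, 10], [11, 3, 11, 11], [2], [3], 12 :: List.replicate m 4,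
    List.replicate m 5 ++ [13], [6, 11] ++ (12 :: List.replicate m 4) ++ [10, 7],
    [6, 11] ++ (List.replicate m 5 ++ [13]) ++ [10, 7]].getD c []

/-- The word in the generators of a tuple word. -/
def expand (m : ℕ) (w : List ℕ) : List ℕ := w.flatMap (sub m)

/-- The exponent of a tuple word modulo three. -/
def bal : List ℕ → ℕ
  | [] => 0
  | c :: w => ([0, 0, 0, 0, 0, 0, 1, 2, 2, 1].getD c 0) + bal w

theorem wval_append {G : Type*} [Group G] (g : ℕ → G) (v w : List ℕ) :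
    wval g (v ++ w) = wval g v * wval g w := by simp [wval]

theorem wval_replicate {G : Type*} [Group G] (g : ℕ → G) (m c : ℕ) :
    wval g (List.replicate m c) = g c ^ m := by simp [wval]

theorem wval_flatMap {G : Type*} [Group G] (g : ℕ → G) (f : ℕ → List ℕ) :
    ∀ w : List ℕ, wval g (w.flatMap f) = wval (fun c => wval g (f c)) w
  | [] => by simp [wval]
  | c :: w => by
    rw [List.flatMap_cons, wval_append, wval_flatMap g f w]
    simp [wval]

/-- The values of the tuple letters. -/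
def tl {M : Type*} [Group M] (z a0 a y q : M) (c : ℕ) : M :=
  [z, z⁻¹, a0, a0⁻¹, a, a⁻¹, y, y⁻¹, q, q⁻¹].getD c 1

variable {G : Type*} [Group G] [Finite G] {Q : Subgroup G} {z : G} {a : Fin 5 → G}
variable {x u v h o : G}
variable {K : Type} [Group K] {φ : ↥(centralizer ({x} : Set G)) →* K}
variable {χ : ↥(centralizer ({x} : Set G)) →* Multiplicative (ZMod 3)}
variable (S : Gens Q z a x u v h)
include S

theorem gel_x : gel u h * x * (gel u h)⁻¹ = x⁻¹ := by
  obtain ⟨Eu, Ev, Ex, Eh⟩ := ew S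
  have hi : EW z a x u v h h⁻¹ σh⁻¹ := ⟨inv_mem Eh.1, Exact.inv Eh.2⟩
  have hg : EW z a x u v h (gel u h) (σu * σh⁻¹) := Eu.mul hi
  have hg' : EW z a x u v h (gel u h)⁻¹ (σu * σh⁻¹)⁻¹ := ⟨inv_mem hg.1, Exact.inv hg.2⟩
  exact eq_inv_of_mul_eq_one_left
    (ew_one S (((hg.mul Ex).mul hg').mul Ex) (by decide +kernel))

theorem gel_act : gel u h * z * (gel u h)⁻¹ = z ∧ gel u h * a 0 * (gel u h)⁻¹ = a 1 := by
  have hg : Exact z a (gel u h) (σu * σh⁻¹) := Exact.mul S.eu (Exact.inv S.eh)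
  refine ⟨by rw [hg.1, mul_inv_cancel_right], ?_⟩
  rw [hg.2 0, show (σu * σh⁻¹) 0 = 1 by decide +kernel]

theorem mem_cent : z ∈ centralizer ({x} : Set G) ∧ a 0 ∈ centralizer ({x} : Set G) ∧
    a 1 ∈ centralizer ({x} : Set G) := by
  simp only [mem_centralizer_singleton_iff]
  refine ⟨S.ex.1.symm, ?_, ?_⟩
  · have e := mul_inv_eq_iff_eq_mul.1 (S.ex.2 0)
    rw [show σx 0 = 0 by decide +kernel] at e
    exact e.symm
  · have e := mul_inv_eq_iff_eq_mul.1 (S.ex.2 1)
    rw [show σx 1 = 1 by decide +kernel] at e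
    exact e.symm

variable (O : Oct z a x u v o) (D : CentData x u h φ χ)
include O D

omit S O in
theorem inv_ne {c : ↥(centralizer ({x} : Set G))} (hx : x * x * x = 1) (hc : c * c = 1)
    (h1 : c ≠ 1) : φ c ≠ 1 := by
  intro e
  apply h1
  obtain ⟨k, hk⟩ := mem_zpowers_iff.1 ((D.ker c).1 e)
  have hx3 : x ^ (3 : ℕ) = 1 := by rw [pow_succ, pow_two, hx]
  have hc3 : (c : G) ^ (3 : ℕ) = 1 := by
    rw [← hk, ← zpow_natCast, ← zpow_mul, mul_comm, zpow_mul, zpow_natCast, hx3, one_zpow]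
  have hc2 : (c : G) * c = 1 := congrArg Subtype.val hc
  apply Subtype.ext
  rwa [pow_succ, pow_two, hc2, one_mul] at hc3

/-- A trivial tuple word gives a relator, for the right exponent or a balanced word. -/
theorem val_one (m : ℕ) {Z A0 A1 O' : ↥(centralizer ({x} : Set G))} (hZ : (Z : G) = z)
    (hA0 : (A0 : G) = a 0) (hA1 : (A1 : G) = a 1) (hO : (O' : G) = o)
    {q' : ↥(centralizer ({x} : Set G))} (hq : (q' : G) = gel u h * o * (gel u h)⁻¹) (w : List ℕ)
    (hφ : wval (tl (φ Z) (φ A0) (φ A1) (φ O') (φ q')) w = 1)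
    (hm : χ O' * Multiplicative.ofAdd ((m : ℕ) : ZMod 3) = 1 ∨ 3 ∣ bal w) :
    wval (gl z a x u v h o) (expand m w) = 1 := by
  have hx : x ∈ (centralizer ({x} : Set G)) := mem_centralizer_singleton_iff.2 rfl
  set X : ↥(centralizer ({x} : Set G)) := ⟨x, hx⟩
  have hcX : χ X = Multiplicative.ofAdd 1 := D.chi_x X rfl
  have hpX : φ X = 1 := (D.ker X).2 (mem_zpowers x)
  set y' : ↥(centralizer ({x} : Set G)) := O' * X ^ m
  have hgC : gel u h * (y' : G) * (gel u h)⁻¹ ∈ (centralizer ({x} : Set G)) := by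
    rw [mem_centralizer_singleton_iff]
    have e := congrArg Inv.inv (gel_x S)
    rw [inv_inv, mul_inv_rev, mul_inv_rev, inv_inv, ← mul_assoc] at e
    have hy : (y' : G) * x⁻¹ = x⁻¹ * y' :=
      (show Commute (y' : G) x from mem_centralizer_singleton_iff.1 y'.2).inv_right.eq
    calc gel u h * (y' : G) * (gel u h)⁻¹ * x
        = gel u h * (y' : G) * (gel u h)⁻¹ * (gel u h * x⁻¹ * (gel u h)⁻¹) := by rw [e]
      _ = gel u h * ((y' : G) * x⁻¹) * (gel u h)⁻¹ := by group
      _ = (gel u h * x⁻¹ * (gel u h)⁻¹) * (gel u h * (y' : G) * (gel u h)⁻¹) := by rw [hy]; group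
      _ = _ := by rw [e]
  set r : ↥(centralizer ({x} : Set G)) := ⟨_, hgC⟩
  have hval : ∀ c : ℕ, wval (gl z a x u v h o) (sub m c) =
      ((tl Z A0 A1 y' r c : ↥(centralizer ({x} : Set G))) : G) := by
    intro c
    have h0 := a0_conj S
    have hh : h⁻¹ = h * h := inv_eq_of_mul_eq_one_left S.h3
    have hy : wval (gl z a x u v h o) (12 :: List.replicate m 4) = (y' : G) := by
      show o * wval (gl z a x u v h o) (List.replicate m 4) = _
      rw [wval_replicate, Subgroup.coe_mul, hO, Subgroup.coe_pow]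
      rfl
    have hyi : wval (gl z a x u v h o) (List.replicate m 5 ++ [13]) = (y' : G)⁻¹ := by
      rw [wval_append, wval_replicate, Subgroup.coe_mul, hO, Subgroup.coe_pow, mul_inv_rev,
        ← inv_pow]
      simp [wval, gl, X]
    have hg1 : wval (gl z a x u v h o) [6, 11] = gel u h := by simp [wval, gl, gel]
    have hg2 : wval (gl z a x u v h o) [10, 7] = (gel u h)⁻¹ := by simp [wval, gl, gel]
    match c with
    | 0 => simp [sub, wval, gl, tl, hZ]
    | 1 => simp [sub, wval, gl, tl, hZ]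
    | 2 =>
      show h * (h * (a 1 * (h * 1))) = (A0 : G)
      rw [hA0, ← h0, hh, mul_one]; group
    | 3 =>
      show h⁻¹ * ((a 1)⁻¹ * (h⁻¹ * (h⁻¹ * 1))) = ((A0⁻¹ : ↥(centralizer ({x} : Set G))) : G)
      rw [Subgroup.coe_inv, hA0, ← h0, mul_one, show h⁻¹ * h⁻¹ = h by
        rw [← mul_inv_rev, ← hh, inv_inv]]
      group
    | 4 => simp [sub, wval, gl, tl, hA1]
    | 5 => simp [sub, wval, gl, tl, hA1]
    | 6 => exact hy
    | 7 =>
      show wval (gl z a x u v h o) (List.replicate m 5 ++ [13]) = ((y'⁻¹ : _) : G)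
      rw [Subgroup.coe_inv]
      exact hyi
    | 8 =>
      show wval (gl z a x u v h o) ([6, 11] ++ (12 :: List.replicate m 4) ++ [10, 7]) = (r : G)
      rw [wval_append, wval_append, hy, hg1, hg2]
    | 9 =>
      show wval (gl z a x u v h o) ([6, 11] ++ (List.replicate m 5 ++ [13]) ++ [10, 7]) =
        ((r⁻¹ : ↥(centralizer ({x} : Set G))) : G)
      rw [wval_append, wval_append, hyi, hg1, hg2, Subgroup.coe_inv]
      show _ = (gel u h * (y' : G) * (gel u h)⁻¹)⁻¹
      group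
    | n + 10 => simp [sub, wval, tl]
  have key : ∀ w : List ℕ, wval (gl z a x u v h o) (expand m w) =
      ((wval (tl Z A0 A1 y' r) w : ↥(centralizer ({x} : Set G))) : G) := by
    intro w
    rw [expand, wval_flatMap]
    simp only [wval, Subgroup.val_list_prod, List.map_map]
    congr 1
    exact List.map_congr_left fun c _ => hval c
  have hpy : φ y' = φ O' := by rw [map_mul, map_pow, hpX, one_pow, mul_one]
  have hpr : φ r = φ q' := by
    have hd : (q'⁻¹ * r : ↥(centralizer ({x} : Set G))).val ∈ zpowers x := by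
      rw [Subgroup.coe_mul, Subgroup.coe_inv, hq]
      show (gel u h * o * (gel u h)⁻¹)⁻¹ * (gel u h * (y' : G) * (gel u h)⁻¹) ∈ zpowers x
      rw [show (y' : G) = o * x ^ m by rw [Subgroup.coe_mul, hO, Subgroup.coe_pow],
        show (gel u h * o * (gel u h)⁻¹)⁻¹ * (gel u h * (o * x ^ m) * (gel u h)⁻¹) =
          gel u h * x ^ m * (gel u h)⁻¹ by group, ← conj_pow, gel_x S]
      exact pow_mem (inv_mem (mem_zpowers x)) m
    have := (D.ker _).2 hd
    rwa [map_mul, map_inv, inv_mul_eq_one, eq_comm] at this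
  have hphi : φ (wval (tl Z A0 A1 y' r) w) = 1 := by
    rw [← hφ]
    simp only [wval, map_list_prod, List.map_map]
    congr 1
    refine List.map_congr_left fun c _ => ?_
    match c with
    | 0 | 2 | 4 => rfl
    | 1 | 3 | 5 => simp [tl]
    | 6 | 8 => first | exact hpy | exact hpr
    | 7 => simp [tl, hpy]
    | 9 => simp [tl, hpr]
    | n + 10 => simp [tl]
  have hsq : ∀ c : ↥(centralizer ({x} : Set G)), c * c = 1 → χ c = 1 := fun c hc => by
    have e : χ c * χ c = 1 := by rw [← map_mul, hc, map_one]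
    revert e
    generalize χ c = b
    revert b
    decide
  have cZ : χ Z = 1 := hsq Z (Subtype.ext (by rw [Subgroup.coe_mul, hZ]; exact zz S))
  have cA0 : χ A0 = 1 := hsq A0 (Subtype.ext (by rw [Subgroup.coe_mul, hA0]; exact S.pts.sq 0))
  have cA1 : χ A1 = 1 := hsq A1 (Subtype.ext (by rw [Subgroup.coe_mul, hA1]; exact S.pts.sq 1))
  set cy := χ y'
  have cr : χ r = cy⁻¹ := D.chi_g y' r rfl
  have hchi : ∀ w : List ℕ, χ (wval (tl Z A0 A1 y' r) w) = cy ^ bal w := by
    intro w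
    induction w with
    | nil => simp [wval, bal]
    | cons c w ih =>
      rw [show wval (tl Z A0 A1 y' r) (c :: w) = tl Z A0 A1 y' r c * wval (tl Z A0 A1 y' r) w by
        simp [wval], map_mul, ih, bal, pow_add]
      congr 1
      have h2 : ∀ b : Multiplicative (ZMod 3), b⁻¹ = b ^ 2 := by decide
      match c with
      | 0 | 2 | 4 => simp [tl, cZ, cA0, cA1]
      | 1 | 3 | 5 => simp [tl, cZ, cA0, cA1]
      | 6 => simp [tl, cy]
      | 7 => simp [tl, ← h2, cy]
      | 8 => simp [tl, ← h2, cr]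
      | 9 => simp [tl, cr]
      | n + 10 => simp [tl]
  have hzero : χ (wval (tl Z A0 A1 y' r) w) = 1 := by
    rw [hchi]
    rcases hm with hm | ⟨k, hk⟩
    · have : cy = 1 := by
        show χ (O' * X ^ m) = 1
        rw [map_mul, map_pow, hcX, ← ofAdd_nsmul, nsmul_one, hm]
      rw [this, one_pow]
    · rw [hk, pow_mul, (by decide : ∀ b : Multiplicative (ZMod 3), b ^ 3 = 1) cy, one_pow]
  obtain ⟨k, hk⟩ := mem_zpowers_iff.1 ((D.ker _).1 hphi)
  have hW : wval (tl Z A0 A1 y' r) w = X ^ k :=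
    Subtype.ext (hk.symm.trans (by rw [SubgroupClass.coe_zpow]))
  rw [hW, map_zpow, hcX, ← ofAdd_zsmul, zsmul_one, ofAdd_eq_one,
    ZMod.intCast_zmod_eq_zero_iff_dvd] at hzero
  obtain ⟨j, rfl⟩ := hzero
  rw [key, hW, SubgroupClass.coe_zpow]
  show x ^ ((3 : ℕ) * j : ℤ) = 1
  rw [zpow_mul, zpow_natCast, pow_succ, pow_two, S.x3, one_zpow]

/-- One of the lists of relators holds. -/
theorem case_rels (hK : Nonempty (K ≃* ↥(alternatingGroup (Fin 6))) ∨ Nonempty (K ≃* S3))
    (hinv : ∀ c : ↥(centralizer ({x} : Set G)), (c : G) = o * a 1 → φ c * φ c = 1)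
    (Cs : List (Option ℕ × List (List ℕ)))
    (hbal : ∀ c ∈ Cs, c.1 = none → ∀ w ∈ c.2, 3 ∣ bal w)
    (hchk : ∀ m < 3, chkCases 6 els6 z6
        ((Cs.filter fun c => c.1 == none || c.1 == some m).map Prod.snd) = true ∧
      chkCases 7 els7 z7
        ((Cs.filter fun c => c.1 == none || c.1 == some m).map Prod.snd) = true) :
    ∃ c ∈ Cs, ∀ w ∈ c.2, wval (gl z a x u v h o) (expand (c.1.getD 0) w) = 1 := by
  obtain ⟨hz, ha0, ha1⟩ := mem_cent S
  have ho : o ∈ (centralizer ({x} : Set G)) := mem_centralizer_singleton_iff.2 O.ox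
  set g := gel u h
  obtain ⟨gz, ga⟩ := gel_act S
  have hq : g * o * g⁻¹ ∈ (centralizer ({x} : Set G)) := by
    rw [mem_centralizer_singleton_iff]
    have e := gel_x S
    calc g * o * g⁻¹ * x = g * o * (g⁻¹ * x⁻¹ * g)⁻¹ * g⁻¹ := by group
      _ = g * o * (g⁻¹ * (g * x * g⁻¹) * g)⁻¹ * g⁻¹ := by rw [e]
      _ = g * (o * x⁻¹) * g⁻¹ := by group
      _ = g * (x⁻¹ * o) * g⁻¹ := by rw [(show Commute o x from O.ox).inv_right.eq]
      _ = (g * x * g⁻¹)⁻¹ * (g * o * g⁻¹) := by group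
      _ = x * (g * o * g⁻¹) := by rw [e, inv_inv]
  set Z : ↥(centralizer ({x} : Set G)) := ⟨z, hz⟩
  set A0 : ↥(centralizer ({x} : Set G)) := ⟨a 0, ha0⟩
  set A1 : ↥(centralizer ({x} : Set G)) := ⟨a 1, ha1⟩
  set O' : ↥(centralizer ({x} : Set G)) := ⟨o, ho⟩
  set q' : ↥(centralizer ({x} : Set G)) := ⟨_, hq⟩
  have hzz : Z * Z = 1 := Subtype.ext (zz S)
  have hne : Z ≠ 1 := fun e => S.hJ.l.ne_one (congrArg Subtype.val e)
  obtain ⟨n, L, z0, π, hn, hπ, hmem, hcz, -, hM⟩ := models hK (φ Z)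
    (by rw [← map_mul, hzz, map_one]) (inv_ne D S.x3 hzz hne)
  set f : ↥(centralizer ({x} : Set G)) →* Equiv.Perm (Fin n) := π.comp φ
  have cm : ∀ p q : Equiv.Perm (Fin n), code (p * q) = mulN n (code p) (code q) := fun p q =>
    (code_mul hn p q).symm
  have eqb : ∀ p q : ↥(centralizer ({x} : Set G)), p = q → Nat.beq (code (f p)) (code (f q)) = true := fun p q e => by
    rw [e, Nat.beq_eq]
  have neb : ∀ p q : ↥(centralizer ({x} : Set G)), φ p ≠ φ q → Nat.beq (code (f p)) (code (f q)) = false := fun p q e => by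
    rw [← Bool.not_eq_true, Nat.beq_eq]
    exact fun h => e (hπ (code_inj hn h))
  have f1 : code (f 1) = oneN n := by rw [map_one, code_one]
  have hcz' : code (f Z) = z0 := hcz
  have hA0Z : A0 * Z = Z * A0 := Subtype.ext (az S 0)
  have hA00 : A0 * A0 = 1 := Subtype.ext (S.pts.sq 0)
  have hA11 : A1 * A1 = 1 := Subtype.ext (S.pts.sq 1)
  have hA1Z : A1 * Z = Z * A1 := Subtype.ext (az S 1)
  have hA10 : A1 * A0 * A1 = Z * A0 := Subtype.ext (anti' S (by decide))
  have hO3 : O' * O' * O' = 1 := Subtype.ext O.o3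
  have hOz : O' * Z = Z * A0 * O' := Subtype.ext (mul_inv_eq_iff_eq_mul.1 O.oz)
  have hOa : O' * A0 = Z * O' := Subtype.ext (mul_inv_eq_iff_eq_mul.1 O.oa)
  have hq3 : q' * q' * q' = 1 := Subtype.ext (by
    show g * o * g⁻¹ * (g * o * g⁻¹) * (g * o * g⁻¹) = 1
    rw [show g * o * g⁻¹ * (g * o * g⁻¹) * (g * o * g⁻¹) = g * (o * o * o) * g⁻¹ by group, O.o3]
    group)
  have hqz : q' * Z = Z * A1 * q' := Subtype.ext (by
    show g * o * g⁻¹ * z = z * a 1 * (g * o * g⁻¹)
    have e := congrArg (fun t => g * t * g⁻¹) O.oz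
    rw [show g * (o * z * o⁻¹) * g⁻¹ = g * o * g⁻¹ * (g * z * g⁻¹) * (g * o * g⁻¹)⁻¹ by group,
      show g * (z * a 0) * g⁻¹ = (g * z * g⁻¹) * (g * a 0 * g⁻¹) by group, gz, ga] at e
    exact mul_inv_eq_iff_eq_mul.1 e)
  have hqa : q' * A1 = Z * q' := Subtype.ext (by
    show g * o * g⁻¹ * a 1 = z * (g * o * g⁻¹)
    have e := congrArg (fun t => g * t * g⁻¹) O.oa
    rw [show g * (o * a 0 * o⁻¹) * g⁻¹ = g * o * g⁻¹ * (g * a 0 * g⁻¹) * (g * o * g⁻¹)⁻¹ by group,
      gz, ga] at e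
    exact mul_inv_eq_iff_eq_mul.1 e)
  have hA0ne : φ A0 ≠ φ 1 := by
    rw [map_one]
    exact inv_ne D S.x3 hA00 fun e => (S.pts.ne 0).1 (congrArg Subtype.val e)
  have hA0Zne : φ A0 ≠ φ Z := by
    intro e
    have h1 : φ (Z * A0) = 1 := by rw [map_mul, e, ← map_mul, hzz, map_one]
    refine inv_ne D S.x3 ?_ (fun e => (S.pts.ne 0).2 ?_) h1
    · rw [show Z * A0 * (Z * A0) = Z * (A0 * Z) * A0 by group, hA0Z, ← mul_assoc, hzz, one_mul,
        hA00]
    · have e' : z * a 0 = 1 := congrArg Subtype.val e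
      rw [eq_inv_of_mul_eq_one_right e', inv_z S]
  have pA0 : okA0 n z0 (code (f A0)) = true := by
    rw [← hcz']
    simp only [okA0, ← f1, ← cm, ← map_mul, eqb _ _ hA00, neb _ _ hA0ne, neb _ _ hA0Zne,
      eqb _ _ hA0Z, Bool.not_false, Bool.and_self]
  have pA1 : okA n z0 (code (f A0)) (code (f A1)) = true := by
    rw [← hcz']
    simp only [okA, ← f1, ← cm, ← map_mul, eqb _ _ hA11, eqb _ _ hA1Z, eqb _ _ hA10, Bool.and_self]
  have pY : okY n z0 (code (f A0)) (code (f O')) = true := by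
    rw [← hcz']
    simp only [okY, ← f1, ← cm, ← map_mul, eqb _ _ hOz, eqb _ _ hOa, eqb _ _ hO3, Bool.and_self]
  have pQ : okY n z0 (code (f A1)) (code (f q')) = true := by
    rw [← hcz']
    simp only [okY, ← f1, ← cm, ← map_mul, eqb _ _ hqz, eqb _ _ hqa, eqb _ _ hq3, Bool.and_self]
  have pI : invA n (code (f O')) (code (f A1)) = true := by
    rw [invA, ← f1, ← cm, ← cm, ← map_mul, ← map_mul, Nat.beq_eq]
    congr 1
    show π (φ (O' * A1 * (O' * A1))) = π (φ 1)
    rw [map_mul φ (O' * A1), hinv (O' * A1) rfl, map_one, map_one, map_one]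
  obtain ⟨m, hm3, hm⟩ : ∃ m < 3, χ O' * Multiplicative.ofAdd ((m : ℕ) : ZMod 3) = 1 := by
    have key : ∀ b : Multiplicative (ZMod 3),
        ∃ m < 3, b * Multiplicative.ofAdd ((m : ℕ) : ZMod 3) = 1 := by decide
    exact key _
  have hc := hM _ (hchk m hm3).1 (hchk m hm3).2
  simp only [chkCases, forTriples, List.all_eq_true, Bool.or_eq_true, Bool.not_eq_true',
    List.any_eq_true] at hc
  rcases hc _ (hmem (φ A0)) with e | hc
  · exact absurd (e.symm.trans pA0) Bool.false_ne_true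
  rcases hc _ (hmem (φ A1)) with e | hc
  · exact absurd (e.symm.trans pA1) Bool.false_ne_true
  rcases hc _ (hmem (φ O')) with e | hc
  · exact absurd (e.symm.trans pY) Bool.false_ne_true
  rcases hc with e | hc
  · exact absurd (e.symm.trans pI) Bool.false_ne_true
  rcases hc _ (hmem (φ q')) with e | hc
  · exact absurd (e.symm.trans pQ) Bool.false_ne_true
  obtain ⟨R, hR, hRw⟩ := hc
  simp only [List.mem_map, List.mem_filter, Bool.or_eq_true, beq_iff_eq] at hR
  obtain ⟨c, ⟨hcC, hcm⟩, rfl⟩ := hR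
  refine ⟨c, hcC, fun w hw => ?_⟩
  have hv : ∀ w : List ℕ, tval n z0 (code (f A0)) (code (f A1)) (code (f O')) (code (f q')) w =
      code (π (wval (tl (φ Z) (φ A0) (φ A1) (φ O') (φ q')) w)) := by
    intro w
    induction w with
    | nil => simp [tval, wval, code_one]
    | cons d w ih =>
      rw [show wval (tl (φ Z) (φ A0) (φ A1) (φ O') (φ q')) (d :: w) =
        tl (φ Z) (φ A0) (φ A1) (φ O') (φ q') d * wval (tl (φ Z) (φ A0) (φ A1) (φ O') (φ q')) w by
        simp [wval], map_mul, cm, ← ih]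
      show mulN n (tv n z0 _ _ _ _ d) _ = _
      congr 1
      have i2 : ∀ c : ↥(centralizer ({x} : Set G)), c * c = 1 → (φ c)⁻¹ = φ c := fun c hc =>
        inv_eq_of_mul_eq_one_right (by rw [← map_mul, hc, map_one])
      have i3 : ∀ c : ↥(centralizer ({x} : Set G)), c * c * c = 1 → (φ c)⁻¹ = φ c * φ c := fun c hc =>
        inv_eq_of_mul_eq_one_left (by rw [← map_mul, ← map_mul, hc, map_one])
      match d with
      | 0 | 2 | 4 | 6 | 8 => first | exact hcz.symm | rfl
      | 1 => simp [tv, tl, i2 Z hzz, hcz]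
      | 3 => simp [tv, tl, i2 A0 hA00, f]
      | 5 => simp [tv, tl, i2 A1 hA11, f]
      | 7 => simp [tv, tl, i3 O' hO3, cm, f]
      | 9 => simp [tv, tl, i3 q' hq3, cm, f]
      | k + 10 => simp [tv, tl, code_one]
  have hw1 : Nat.beq
      (tval n z0 (code (f A0)) (code (f A1)) (code (f O')) (code (f q')) w) (oneN n) = true :=
    hRw w hw
  rw [Nat.beq_eq, hv, ← code_one] at hw1
  have hφ : wval (tl (φ Z) (φ A0) (φ A1) (φ O') (φ q')) w = 1 :=
    hπ (by rw [map_one]; exact code_inj hn hw1)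
  refine val_one S O D _ (Z := Z) (A0 := A0) (A1 := A1) (O' := O') rfl rfl rfl rfl rfl w hφ ?_
  rcases hcm with e | e
  · exact Or.inr (hbal c hcC e w hw)
  · exact Or.inl (by rw [e]; exact hm)

end Cfsg.Agent.J3Glue93
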