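import Cfsg.Agent.Lib.J1CertCore91
import Cfsg.Agent.Lib.J3Glue93

/-!
# Collapse certificates: the semantics
-/

set_option autoImplicit false

namespace Cfsg.Agent.J3Collapse93Core

open Subgroup Cfsg.Agent.J1CertCore91 Cfsg.Agent.J3Rels93 Cfsg.Agent.J3Glue93

universe w

/-- The relators of a case, read from right to left. -/
def certRels (c : Option ℕ × List (List ℕ)) : List (List ℕ) :=
  (relsH ++ relsO ++ c.2.map (expand (c.1.getD 0))).map List.reverse

/-- The subgroup generators. -/
def certSgens : List (List ℕ) := [[0], [2], [4], [6], [8], [10]]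

/-- In a case that collapses the last letter lies in the subgroup of the others. -/
def Collapses (c : Option ℕ × List (List ℕ)) : Prop :=
  ∀ (H : Type w) [Group H] (g : ℕ → H), (∀ c, g (Nat.xor c 1) = (g c)⁻¹) →
    (∀ r ∈ relsH ++ relsO ++ c.2.map (expand (c.1.getD 0)), wval g r = 1) →
      g 12 ∈ closure (g '' Set.Iio 12)

theorem val_reverse {G : Type*} [Group G] (g : ℕ → G) (w : List ℕ) :
    val g w.reverse = wval g w := by
  induction w using List.reverseRecOn with
  | nil => rfl
  | append_singleton w x ih =>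
    rw [List.reverse_append, List.reverse_singleton, List.singleton_append]
    simp [val, ih, wval]

theorem collapse_of {c : Option ℕ × List (List ℕ)} (C : Cert) (hr : C.rels = certRels c)
    (hs : C.sgens = certSgens) (t : ℕ)
    (ht : fc (C.fact t) = 13 ∧ fp (C.fact t) = 0 ∧ fq (C.fact t) = 0)
    (hv : ∀ (Γ X : Type w) [Group Γ] [MulAction Γ X] (g : ℕ → Γ) (base : X), Ctx g base C →
      Sem g (nodeVal g base C) (C.fact t)) :
    Collapses.{w} c := by
  intro H _ g hinv hrels
  set K := closure (g '' Set.Iio 12)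
  have hC : Ctx g ((1 : H) : H ⧸ K) C := by
    refine ⟨fun x => by rw [hinv, inv_mul_cancel], fun r hr' => ?_, fun r hr' => ?_⟩
    · rw [hr, certRels, List.mem_map] at hr'
      obtain ⟨r', hr'', rfl⟩ := hr'
      rw [val_reverse]
      exact hrels r' hr''
    · have key : ∀ i < 12, g i • ((1 : H) : H ⧸ K) = ((1 : H) : H ⧸ K) := fun i hi => by
        rw [MulAction.Quotient.smul_coe, smul_eq_mul, mul_one, QuotientGroup.eq, mul_one, inv_mem_iff]
        exact subset_closure ⟨i, hi, rfl⟩
      rw [hs] at hr'
      simp only [certSgens, List.mem_cons, List.not_mem_nil, or_false] at hr'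
      rcases hr' with rfl | rfl | rfl | rfl | rfl | rfl <;> exact key _ (by norm_num)
  have h := hv H (H ⧸ K) g _ hC
  obtain ⟨h1, h2, h3⟩ := ht
  rw [Sem, h1, h2, h3, if_neg (by decide), nodeVal_zero, MulAction.Quotient.smul_coe, smul_eq_mul,
    mul_one, QuotientGroup.eq, mul_one, inv_mem_iff] at h
  exact h

end Cfsg.Agent.J3Collapse93Core
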