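import Cfsg.Agent.Lib.J3Glue93

/-!
# Groups of J₃ type: the normalisation `(y a) ^ 2 = 1`
-/

set_option autoImplicit false

namespace Cfsg.Agent.J3Flip93

open Subgroup Cfsg.Agent.J3TypePoints93 Cfsg.Agent.J3TypeAction93 Cfsg.Agent.J3Setup93
open Cfsg.Agent.J3Rels93 Cfsg.Agent.J3Perm93 Cfsg.Agent.J3Keys93 Cfsg.Agent.J3Model93
open Cfsg.Agent.J3Glue93

universe w

variable {G : Type w} [Group G] [Finite G] {Q : Subgroup G} {z : G} {a : Fin 5 → G}
variable {x u v h o : G}

/-- The representatives with four signs changed. -/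
def flipA (z : G) (a : Fin 5 → G) (p : Fin 5) : G := if p = 0 then a 0 else z * a p

omit [Finite G] in
theorem flip_zero : flipA z a 0 = a 0 := if_pos rfl

omit [Finite G] in
theorem flip_ne {p : Fin 5} (hp : p ≠ 0) : flipA z a p = z * a p := if_neg hp

variable (S : Gens Q z a x u v h)
include S

theorem flip_conj {g : G} {σ : Equiv.Perm (Fin 5)} (hg : Exact z a g σ) (h0 : σ 0 = 0) :
    Exact z (flipA z a) g σ := by
  refine ⟨hg.1, fun p => ?_⟩
  by_cases hp : p = 0
  · subst hp
    rw [h0, flip_zero, hg.2, h0]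
  · rw [flip_ne hp, flip_ne fun e => hp (σ.injective (e.trans h0.symm)),
      show g * (z * a p) * g⁻¹ = (g * z * g⁻¹) * (g * a p * g⁻¹) by group, hg.2, hg.1,
      mul_inv_cancel_right]

theorem flip_h : ∃ h' : G, h' * h' * h' = 1 ∧ Exact z (flipA z a) h' σh := by
  set a' := flipA z a
  have hzz := zz S
  have eq : ∀ p, (a 0 * a 2) * a p * (a 0 * a 2)⁻¹ =
      if p = 0 ∨ p = 2 then z * a p else a p := by
    intro p
    have r : ∀ i j : Fin 5, i ≠ j → a i * a j * (a i)⁻¹ = z * a j := S.pts.anti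
    rw [show (a 0 * a 2) * a p * (a 0 * a 2)⁻¹ = a 0 * (a 2 * a p * (a 2)⁻¹) * (a 0)⁻¹ by group]
    by_cases h2 : p = 2
    · subst h2
      rw [mul_inv_cancel_right, r 0 2 (by decide), if_pos (Or.inr rfl)]
    · rw [r 2 p (Ne.symm h2), show a 0 * (z * a p) * (a 0)⁻¹ =
        (a 0 * z * (a 0)⁻¹) * (a 0 * a p * (a 0)⁻¹) by group, az S, mul_inv_cancel_right]
      by_cases h0 : p = 0
      · subst h0
        rw [mul_inv_cancel_right, if_pos (Or.inl rfl)]
      · rw [r 0 p (Ne.symm h0), ← mul_assoc, hzz, one_mul, if_neg (by simp [h0, h2])]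
  set k := h * (a 0 * a 2)
  have hkz : k * z = z * k :=
    ((show Commute h z from S.eh.1).mul_left
      ((show Commute (a 0) z from az S 0).mul_left (az S 2))).eq
  have hk : Exact z a' k σh := by
    refine ⟨hkz, fun p => ?_⟩
    have hc : ∀ b, k * (z * b) * k⁻¹ = z * (k * b * k⁻¹) := fun b => by
      rw [show k * (z * b) * k⁻¹ = (k * z) * b * k⁻¹ by group, hkz]; group
    have e : ∀ q, k * a q * k⁻¹ = if q = 0 ∨ q = 2 then z * a (σh q) else a (σh q) := by
      intro q
      rw [show k * a q * k⁻¹ = h * ((a 0 * a 2) * a q * (a 0 * a 2)⁻¹) * h⁻¹ by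
        simp only [k]; group, eq]
      by_cases hq : q = 0 ∨ q = 2
      · rw [if_pos hq, if_pos hq, show h * (z * a q) * h⁻¹ = (h * z) * a q * h⁻¹ by group, S.eh.1,
          show z * h * a q * h⁻¹ = z * (h * a q * h⁻¹) by group, S.eh.2]
      · rw [if_neg hq, if_neg hq, S.eh.2]
    have v0 : σh 0 = 1 := by decide +kernel
    have v1 : σh 1 = 2 := by decide +kernel
    have v2 : σh 2 = 0 := by decide +kernel
    have v3 : σh 3 = 3 := by decide +kernel
    have v4 : σh 4 = 4 := by decide +kernel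
    have zw : ∀ w : G, z * (z * w) = w := fun w => by rw [← mul_assoc, hzz, one_mul]
    fin_cases p <;> simp [a', flipA, v0, v1, v2, v3, v4, hc, e, zw]
  by_cases h3 : k * k * k = 1
  · exact ⟨k, h3, hk⟩
  · have hz' : Exact z a' z 1 := ⟨rfl, fun p => by
      have : a' p * z = z * a' p := by
        by_cases hp : p = 0
        · subst hp; simpa [a', flip_zero] using az S 0
        · simp only [a', flip_ne hp]; rw [mul_assoc, az S]
      rw [← this, mul_inv_cancel_right]; rfl⟩
    refine ⟨z * k, ?_, ((Exact.mul hz' hk)).1, fun p => by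
      have := (Exact.mul hz' hk).2 p
      rwa [one_mul] at this⟩
    have hQ : k * k * k = 1 ∨ k * k * k = z := by
      have h1 := Exact.mul (Exact.mul hk hk) hk
      rw [show σh * σh * σh = 1 by decide +kernel] at h1
      refine exact_one S ⟨h1.1, fun p => ?_⟩
      have := h1.2 p
      by_cases hp : p = 0
      · subst hp; simpa [a', flip_zero] using this
      · simp only [a', Equiv.Perm.one_apply, flip_ne hp] at this
        rw [show k * k * k * (z * a p) * (k * k * k)⁻¹ =
          (k * k * k * z) * a p * (k * k * k)⁻¹ by group, h1.1] at this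
        simpa [mul_assoc] using this
    rcases hQ with e | e
    · exact absurd e h3
    · have c : Commute z k := hkz.symm
      rw [c.symm.mul_mul_mul_comm, hzz, one_mul, show k * k * (z * k) = z * (k * k * k) by
        rw [← mul_assoc, (c.mul_right c).eq.symm]; group, e, hzz]

theorem flip_gens {h' : G} (h3 : h' * h' * h' = 1) (eh : Exact z (flipA z a) h' σh) :
    Gens Q z (flipA z a) x u v h' := by
  have hz : ∀ p, flipA z a p = a p ∨ flipA z a p = z * a p := fun p => by
    by_cases hp : p = 0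
    · exact Or.inl (by subst hp; exact flip_zero)
    · exact Or.inr (flip_ne hp)
  have hzz := zz S
  have hsame : ∀ {g : G} {p : Fin 5}, Same z (flipA z a) g p ↔ Same z a g p := fun {g p} => by
    unfold Same
    rcases hz p with e | e <;> rw [e]
    rw [← mul_assoc, hzz, one_mul]
    exact or_comm
  have hacts : ∀ {g : G} {σ : Equiv.Perm (Fin 5)}, Acts z (flipA z a) g σ ↔ Acts z a g σ := by
    intro g σ
    refine and_congr_right fun hg => forall_congr' fun p => ?_
    rw [hsame]
    rcases hz p with e | e <;> rw [e]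
    have e1 : g * (z * a p) * g⁻¹ = z * (g * a p * g⁻¹) := by
      rw [show g * (z * a p) * g⁻¹ = (g * z) * a p * g⁻¹ by group, hg]; group
    rw [e1]
    unfold Same
    constructor
    · rintro (h | h)
      · exact Or.inr (by rw [← h, ← mul_assoc, hzz, one_mul])
      · exact Or.inl (mul_left_cancel h)
    · rintro (h | h) <;> rw [h]
      · exact Or.inr rfl
      · exact Or.inl (by rw [← mul_assoc, hzz, one_mul])
  have ne1 : ∀ p, z * a p ≠ 1 := fun p e =>
    (S.pts.ne p).2 (by rw [eq_inv_of_mul_eq_one_right e, inv_z S])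
  have hcomm : ∀ p, flipA z a p * z = z * flipA z a p := fun p => by
    rcases hz p with e | e <;> rw [e]
    · exact az S p
    · rw [mul_assoc, az S]
  have P : Pts Q z (flipA z a) := by
    refine ⟨fun p => ?_, fun p => ?_, fun p => ?_, fun y hy hyy => ?_, fun p q hpq => ?_, fun p => ?_⟩
    · rcases hz p with e | e <;> rw [e]
      · exact S.pts.mem p
      · exact mul_mem S.hJ.l.mem (S.pts.mem p)
    · rcases hz p with e | e <;> rw [e]
      · exact S.pts.sq p
      · rw [mul_assoc, ← mul_assoc (a p), az S, mul_assoc, S.pts.sq, mul_one, hzz]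
    · rcases hz p with e | e <;> rw [e]
      · exact S.pts.conj p
      · obtain ⟨q, hq⟩ : ∃ q, q ≠ p := ⟨p + 1, (by decide : ∀ p : Fin 5, p + 1 ≠ p) p⟩
        exact (S.pts.conj p).trans (isConj_iff.2 ⟨a q, S.pts.anti q p hq⟩)
    · rcases S.pts.inv_cases y hy hyy with h | h | ⟨p, hp⟩
      exacts [Or.inl h, Or.inr (Or.inl h), Or.inr (Or.inr ⟨p, hsame.2 hp⟩)]
    · have e0 : flipA z a p * flipA z a q * (flipA z a p)⁻¹ = a p * flipA z a q * (a p)⁻¹ := by
        rcases hz p with e | e <;> rw [e]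
        have c : Commute z (a p * flipA z a q * (a p)⁻¹) :=
          (((show Commute z (a p) from (az S p).symm).mul_right
            (show Commute z (flipA z a q) from (hcomm q).symm))).mul_right
            (show Commute z (a p) from (az S p).symm).inv_right
        calc z * a p * flipA z a q * (z * a p)⁻¹
            = z * (a p * flipA z a q * (a p)⁻¹) * z⁻¹ := by group
          _ = _ := by rw [c.eq, mul_inv_cancel_right]
      rw [e0]
      rcases hz q with e | e <;> rw [e]
      · exact S.pts.anti p q hpq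
      · rw [show a p * (z * a q) * (a p)⁻¹ = (a p * z) * a q * (a p)⁻¹ by group, az S,
          show z * a p * a q * (a p)⁻¹ = z * (a p * a q * (a p)⁻¹) by group, S.pts.anti p q hpq]
    · rcases hz p with e | e <;> rw [e]
      · exact S.pts.ne p
      · exact ⟨ne1 p, fun h => (S.pts.ne p).1 (mul_eq_left.1 h)⟩
  refine ⟨S.hJ, P, fun g hg => S.mem_Q g (hacts.1 hg), fun σ hσ => ?_,
    fun g σ hg => S.even g σ (hacts.1 hg), ?_, S.x3, h3, S.uu, S.vv, S.uv, S.xu, S.xv,
    flip_conj S S.eu (by decide +kernel), flip_conj S S.ev (by decide +kernel),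
    flip_conj S S.ex (by decide +kernel), eh⟩
  · obtain ⟨g, hg⟩ := S.lift σ hσ
    exact ⟨g, hacts.2 hg⟩
  · rw [flip_zero, flip_ne (show (1 : Fin 5) ≠ 0 by decide), flip_ne (show (2 : Fin 5) ≠ 0 by decide),
      flip_ne (show (3 : Fin 5) ≠ 0 by decide), flip_ne (show (4 : Fin 5) ≠ 0 by decide)]
    have c : ∀ p (w : G), a p * (z * w) = z * (a p * w) := fun p w => by
      rw [← mul_assoc, az S, mul_assoc]
    have zw : ∀ w : G, z * (z * w) = w := fun w => by rw [← mul_assoc, hzz, one_mul]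
    rw [S.a0]
    simp only [mul_assoc, c, zw]

theorem flip_oct (O : Oct z a x u v o) : Oct z (flipA z a) x u v o := by
  have e : ∀ t : G, t * z = z * t → flipA z a 1 * t * flipA z a 1 = a 1 * t * a 1 := by
    intro t ht
    rw [flip_ne (show (1 : Fin 5) ≠ 0 by decide)]
    calc z * a 1 * t * (z * a 1) = z * (a 1 * (t * z)) * a 1 := by group
      _ = z * (a 1 * z) * (t * a 1) := by rw [ht]; group
      _ = (z * z) * a 1 * t * a 1 := by rw [az S]; group
      _ = _ := by rw [zz S, one_mul]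
  refine ⟨O.o3, O.ox, ?_, ?_, O.ou, O.ov, ?_, ?_⟩
  · rw [flip_zero]; exact O.oz
  · rw [flip_zero]; exact O.oa
  · rw [e u S.eu.1]; exact O.oru
  · rw [e v S.ev.1]; exact O.orv

/-- The data of the centraliser of `x` for a choice of generators. -/
def CentHyp (x u h : G) : Prop :=
  ∃ (K : Type) (_ : Group K) (φ : ↥(centralizer ({x} : Set G)) →* K)
    (χ : ↥(centralizer ({x} : Set G)) →* Multiplicative (ZMod 3)),
    CentData x u h φ χ ∧
      (Nonempty (K ≃* ↥(alternatingGroup (Fin 6))) ∨ Nonempty (K ≃* S3))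

omit S in
/-- Normalised generators. -/
structure Normal (Q : Subgroup G) (z : G) (a : Fin 5 → G) (x u v h o : G) : Prop where
  gens : Gens Q z a x u v h
  oct : Oct z a x u v o
  cent : ∃ (K : Type) (_ : Group K) (φ : ↥(centralizer ({x} : Set G)) →* K)
    (χ : ↥(centralizer ({x} : Set G)) →* Multiplicative (ZMod 3)),
    CentData x u h φ χ ∧
      (Nonempty (K ≃* ↥(alternatingGroup (Fin 6))) ∨ Nonempty (K ≃* S3)) ∧
      ∀ c : ↥(centralizer ({x} : Set G)), (c : G) = o * a 1 → φ c * φ c = 1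

theorem exists_normal (O : Oct z a x u v o)
    (hcent : ∀ (a : Fin 5 → G) (h : G), Gens Q z a x u v h → Oct z a x u v o → CentHyp x u h) :
    ∃ a h, Normal Q z a x u v h o := by
  obtain ⟨K, _, φ, χ, D, hK⟩ := hcent a h S O
  by_cases hi : ∀ c : ↥(centralizer ({x} : Set G)), (c : G) = o * a 1 → φ c * φ c = 1
  · exact ⟨a, h, S, O, K, _, φ, χ, D, hK, hi⟩
  obtain ⟨h', h3, eh⟩ := flip_h S
  have S' := flip_gens S h3 eh
  have O' := flip_oct S O
  refine ⟨flipA z a, h', S', O', ?_⟩
  obtain ⟨K', _, φ', χ', D', hK'⟩ := hcent _ h' S' O'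
  refine ⟨K', _, φ', χ', D', hK', fun c hc => ?_⟩
  obtain ⟨hz, ha0, ha1⟩ := mem_cent S
  have ho : o ∈ centralizer ({x} : Set G) := mem_centralizer_singleton_iff.2 O.ox
  set Z : ↥(centralizer ({x} : Set G)) := ⟨z, hz⟩
  set A0 : ↥(centralizer ({x} : Set G)) := ⟨a 0, ha0⟩
  set A1 : ↥(centralizer ({x} : Set G)) := ⟨a 1, ha1⟩
  set Oo : ↥(centralizer ({x} : Set G)) := ⟨o, ho⟩
  have hzz : Z * Z = 1 := Subtype.ext (zz S)
  have hne : Z ≠ 1 := fun e => S.hJ.l.ne_one (congrArg Subtype.val e)
  obtain ⟨n, L, z0, π, hn, hπ, hmem, hcz, hflip, -⟩ := models hK (φ Z)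
    (by rw [← map_mul, hzz, map_one]) (inv_ne D S.x3 hzz hne)
  set f : ↥(centralizer ({x} : Set G)) →* Equiv.Perm (Fin n) := π.comp φ
  have hcz' : code (f Z) = z0 := hcz
  have cm : ∀ p q : Equiv.Perm (Fin n), code (p * q) = mulN n (code p) (code q) := fun p q =>
    (code_mul hn p q).symm
  have f1 : code (f 1) = oneN n := by rw [map_one, code_one]
  have eqb : ∀ p q : ↥(centralizer ({x} : Set G)), p = q →
      Nat.beq (code (f p)) (code (f q)) = true := fun p q e => by
    rw [e, Nat.beq_eq]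
  have neb : ∀ p q : ↥(centralizer ({x} : Set G)), φ p ≠ φ q →
      Nat.beq (code (f p)) (code (f q)) = false := fun p q e => by
    rw [← Bool.not_eq_true, Nat.beq_eq]
    exact fun h => e (hπ (code_inj hn h))
  have hA00 : A0 * A0 = 1 := Subtype.ext (S.pts.sq 0)
  have hA11 : A1 * A1 = 1 := Subtype.ext (S.pts.sq 1)
  have hA0Z : A0 * Z = Z * A0 := Subtype.ext (az S 0)
  have hA1Z : A1 * Z = Z * A1 := Subtype.ext (az S 1)
  have hA10 : A1 * A0 * A1 = Z * A0 := Subtype.ext (anti' S (by decide))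
  have hO3 : Oo * Oo * Oo = 1 := Subtype.ext O.o3
  have hOz : Oo * Z = Z * A0 * Oo := Subtype.ext (mul_inv_eq_iff_eq_mul.1 O.oz)
  have hOa : Oo * A0 = Z * Oo := Subtype.ext (mul_inv_eq_iff_eq_mul.1 O.oa)
  have hA0ne : φ A0 ≠ φ 1 := by
    rw [map_one]
    exact inv_ne D S.x3 hA00 fun e => (S.pts.ne 0).1 (congrArg Subtype.val e)
  have hA0Zne : φ A0 ≠ φ Z := by
    intro e
    have h1 : φ (Z * A0) = 1 := by rw [map_mul, e, ← map_mul, hzz, map_one]
    refine inv_ne D S.x3 ?_ (fun e => (S.pts.ne 0).2 ?_) h1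
    · rw [show Z * A0 * (Z * A0) = Z * (A0 * Z) * A0 by group, hA0Z, ← mul_assoc, hzz, one_mul,
        hA00]
    · have e' : z * a 0 = 1 := congrArg Subtype.val e
      rw [eq_inv_of_mul_eq_one_right e', inv_z S]
  have pA0 : okA0 n z0 (code (f A0)) = true := by
    rw [← hcz']
    simp only [okA0, ← f1, ← cm, ← map_mul, eqb _ _ hA00, neb _ _ hA0ne, neb _ _ hA0Zne,
      eqb _ _ hA0Z, Bool.not_false, Bool.and_self]
  have pA1 : okA n z0 (code (f A0)) (code (f A1)) = true := by
    rw [← hcz']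
    simp only [okA, ← f1, ← cm, ← map_mul, eqb _ _ hA11, eqb _ _ hA1Z, eqb _ _ hA10, Bool.and_self]
  have pY : okY n z0 (code (f A0)) (code (f Oo)) = true := by
    rw [← hcz']
    simp only [okY, ← f1, ← cm, ← map_mul, eqb _ _ hOz, eqb _ _ hOa, eqb _ _ hO3, Bool.and_self]
  simp only [chkFlip, forTriples, List.all_eq_true, Bool.or_eq_true, Bool.not_eq_true'] at hflip
  rcases hflip _ (hmem (φ A0)) with e | hc'
  · exact absurd (e.symm.trans pA0) Bool.false_ne_true
  rcases hc' _ (hmem (φ A1)) with e | hc'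
  · exact absurd (e.symm.trans pA1) Bool.false_ne_true
  rcases hc' _ (hmem (φ Oo)) with e | hc'
  · exact absurd (e.symm.trans pY) Bool.false_ne_true
  have key : ∀ b : ↥(centralizer ({x} : Set G)), invA n (code (f Oo)) (code (f b)) = true →
      φ (Oo * b) * φ (Oo * b) = 1 := by
    intro b hb
    rw [invA, ← f1, ← cm, ← cm, ← map_mul, ← map_mul, Nat.beq_eq] at hb
    rw [← map_mul]
    exact (hπ (code_inj hn hb)).trans (map_one φ)
  rcases hc' with e | e
  · exact absurd (fun c hc => by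
      rw [show c = Oo * A1 from Subtype.ext hc]; exact key A1 e) hi
  · change invA n (code (f Oo)) (mulN n z0 (code (f A1))) = true at e
    rw [← hcz', ← cm, ← map_mul] at e
    have h1 := key (Z * A1) e
    rw [← map_mul, D.ker] at h1
    rw [← map_mul, D'.ker]
    have : c = Oo * (Z * A1) := Subtype.ext (by
      rw [hc, flip_ne (show (1 : Fin 5) ≠ 0 by decide)]; rfl)
    rwa [this]

end Cfsg.Agent.J3Flip93
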