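import Cfsg.Agent.Lib.J3InvCert90

/-! Properties of the multiplication tables in the centraliser of an involution. -/

set_option autoImplicit false
set_option maxRecDepth 100000

namespace Cfsg.Agent.J3InvTable90

open CosetCertCore J3InvData90 J3InvCert90

noncomputable def qM (i j : Fin 32) : Fin 32 := ⟨qm i j % 32, Nat.mod_lt _ (by norm_num)⟩
noncomputable def hM (i j : Fin 60) : Fin 60 := ⟨hm i j % 60, Nat.mod_lt _ (by norm_num)⟩
noncomputable def cJ (j : Fin 60) (i : Fin 32) : Fin 32 := ⟨cj j i % 32, Nat.mod_lt _ (by norm_num)⟩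
noncomputable def qz : Fin 32 := ⟨qTi % 32, Nat.mod_lt _ (by norm_num)⟩

/-- The image of a letter under an element of the complement. -/
noncomputable def hP (j : Fin 60) (a : Fin 5) : Fin 5 :=
  ⟨(Nat.shiftRight (entry hPerm 16 j) (3 * a)) % 8 % 5, Nat.mod_lt _ (by norm_num)⟩

theorem q_facts : qz ≠ 0 ∧ (∀ i, qM 0 i = i) ∧ (∀ i, qM i qz = qM qz i) ∧
    (∀ i, qM i i = 0 ∨ qM i i = qz) ∧
    (∀ i j, qM i j = qM j i ∨ qM i j = qM (qM j i) qz) ∧
    (∀ i, i ≠ 0 → i ≠ qz → ∃ j, qM i j ≠ qM j i) ∧ (∃ i, i ≠ 0 ∧ i ≠ qz) := by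
  decide +kernel

/-- Two commuting involutions and the products they give exhaust their common commuting involutions. -/
theorem q_rank : ∀ a b : Fin 32, a ≠ 0 → b ≠ 0 → a ≠ b → qM a a = 0 → qM b b = 0 →
    qM a b = qM b a → ∀ c : Fin 32, qM c c = 0 → qM a c = qM c a → qM b c = qM c b →
      c = 0 ∨ c = a ∨ c = b ∨ c = qM a b := by
  decide +kernel

/-- Only the centre of the normal 2-subgroup centralises it. -/
theorem q_centric : ∀ j : Fin 60, j ≠ 0 → ∀ i : Fin 32, ∃ k, qM i (cJ j k) ≠ qM k i := by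
  decide +kernel

theorem h_gen : ∀ j : Fin 60, ∃ a b : Fin 60, hM a a = 0 ∧ hM b b = 0 ∧ hM a b = j := by
  decide +kernel

theorem hP_hom : ∀ i j : Fin 60, ∀ a : Fin 5, hP (hM i j) a = hP i (hP j a) := by decide +kernel

theorem hP_inj : ∀ j : Fin 60, (∀ a : Fin 5, hP j a = a) → j = 0 := by decide +kernel

theorem hP_zero : ∀ a : Fin 5, hP 0 a = a := by decide +kernel

end Cfsg.Agent.J3InvTable90
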