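import Cfsg.Agent.Lib.J3Simple90
import Cfsg.Agent.Lib.J3InvTable90

/-! Lifts of the tables to the triple cover. -/

set_option autoImplicit false
set_option maxRecDepth 100000

namespace Cfsg.Agent.J3InvLift90

open CosetCertCore J3Mat90 J3Data90 J3Check90 J3CertA90 J3Cert2_90 J3Level90 J3Gens90 J3Chain90
open J3Order90 J3Simple90 J3InvData90 J3InvCert90 J3InvTable90
open Cfsg.Spor

/-- A closed table in a finite group is a subgroup. -/
noncomputable def tableSubgroup {G : Type*} [Group G] [Finite G] {n : ℕ} [NeZero n] (f : Fin n → G)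
    (m : Fin n → Fin n → Fin n) (h0 : f 0 = 1) (hm : ∀ i j, f i * f j = f (m i j)) : Subgroup G where
  carrier := Set.range f
  one_mem' := ⟨0, h0⟩
  mul_mem' := by rintro _ _ ⟨i, rfl⟩ ⟨j, rfl⟩; exact ⟨m i j, (hm i j).symm⟩
  inv_mem' := by
    rintro _ ⟨i, rfl⟩
    have hpow : ∀ k : ℕ, f i ^ k ∈ Set.range f := by
      intro k
      induction k with
      | zero => exact ⟨0, by rw [pow_zero, h0]⟩
      | succ k ih =>
        obtain ⟨l, hl⟩ := ih
        exact ⟨m l i, by rw [pow_succ, ← hl, hm]⟩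
    have : (f i)⁻¹ = f i ^ (orderOf (f i) - 1) := by
      rw [inv_eq_iff_mul_eq_one, ← pow_succ', Nat.sub_add_cancel (orderOf_pos (f i)), pow_orderOf_eq_one]
    rw [this]; exact hpow _

theorem card_tableSubgroup {G : Type*} [Group G] [Finite G] {n : ℕ} [NeZero n] (f : Fin n → G)
    (m : Fin n → Fin n → Fin n) (h0 : f 0 = 1) (hm : ∀ i j, f i * f j = f (m i j))
    (hinj : Function.Injective f) : Nat.card (tableSubgroup f m h0 hm) = n := by
  show Nat.card (Set.range f) = n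
  rw [Nat.card_range_of_injective hinj, Nat.card_fin]

section
variable {F : Type*} [Field F] [Finite F] (ω : F)

open Classical in
/-- The group element with a given code. -/
noncomputable def lift (M : ℕ) : threeJ3 F ω :=
  if h : ∃ g : threeJ3 F ω, ((g : GL F9 F) : Matrix F9 F9 F) = ev ω M then h.choose else 1

noncomputable def qF (i : Fin 32) : threeJ3 F ω := lift ω (qv i)
noncomputable def hF (j : Fin 60) : threeJ3 F ω := lift ω (hv j)
noncomputable def sF (x : ℕ) : threeJ3 F ω := lift ω (sv x)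
noncomputable def cF (x : ℕ) : threeJ3 F ω := lift ω (entry cls 162 x)
/-- The involution whose centraliser is studied. -/
noncomputable def tF : threeJ3 F ω := cF ω 0

variable (h2 : (2 : F) = 0) (hω : ω ^ 2 + ω + 1 = 0)
include h2 hω

theorem lift_spec {M : ℕ} (h : ev ω M ∈ M0 ω) :
    ((lift ω M : GL F9 F) : Matrix F9 F9 F) = ev ω M := by
  have hex := exists_lift ω h2 hω h
  rw [lift, dif_pos hex]
  exact hex.choose_spec

theorem lift_mul {A B C : ℕ} (hA : ev ω A ∈ M0 ω) (hB : ev ω B ∈ M0 ω) (h : mulN A B = C) :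
    lift ω A * lift ω B = lift ω C := by
  subst h
  have hC : ev ω (mulN A B) ∈ M0 ω := by rw [ev_mulN ω h2 hω]; exact (M0 ω).mul_mem hA hB
  refine coe_inj ω ?_
  rw [Subgroup.coe_mul, Units.val_mul, lift_spec ω h2 hω hA, lift_spec ω h2 hω hB,
    lift_spec ω h2 hω hC, ev_mulN ω h2 hω]

theorem one_M0 : ev ω J3Data90.one ∈ M0 ω := by rw [ev_one]; exact (M0 ω).one_mem

theorem lift_one : lift ω J3Data90.one = 1 := by
  refine coe_inj ω ?_
  rw [lift_spec ω h2 hω (one_M0 ω h2 hω), ev_one]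
  simp

theorem lift_inj {A B : ℕ} (hA : ev ω A ∈ M0 ω) (hB : ev ω B ∈ M0 ω) (bA : A < 2 ^ 162) (bB : B < 2 ^ 162)
    (h : lift ω A = lift ω B) : A = B := by
  refine ev_inj ω h2 hω bA bB ?_
  rw [← lift_spec ω h2 hω hA, ← lift_spec ω h2 hω hB, h]

omit [Finite F] h2 hω in
theorem entry_bound (T : Tbl) (i : ℕ) : entry T 162 i < 2 ^ 162 :=
  lt_of_le_of_lt Nat.and_le_right (Nat.sub_lt (by positivity) (by norm_num))

theorem qv_M0 (i : Fin 32) : ev ω (qv i) ∈ M0 ω :=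
  mem_of_memOK ω h2 hω (allFrom_spec _ _ _ q_mem i (Nat.zero_le _) (by omega))

theorem hv_M0 (j : Fin 60) : ev ω (hv j) ∈ M0 ω :=
  mem_of_memOK ω h2 hω (allFrom_spec _ _ _ h_mem j (Nat.zero_le _) (by omega))

theorem twoGens_M0 (g : ℕ) (hg : g < 5) : ev ω (twoGens.getD g 0) ∈ M0 ω :=
  mem_of_memOK ω h2 hω (allFrom_spec _ _ _ two_mem g (Nat.zero_le _) (by omega))

theorem sv_M0 : ∀ x < 128, ev ω (sv x) ∈ M0 ω := by
  refine tree_mem (M0 ω) (fun x => ev ω (sv x)) 128 (by show ev ω (sv 0) = 1; rw [cls_head.2.2.2.2.2.2.2.2.2.2.2, ev_one]) ?_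
  intro x hx hx0
  have hs := allFrom_spec _ _ _ two_tree x (Nat.zero_le _) (by omega)
  simp only [smallTree, force_eq, Bool.or_eq_true, Bool.and_eq_true, Nat.blt_eq, Nat.beq_eq, lengths.1] at hs
  obtain hs | ⟨⟨hp, hg⟩, he⟩ := hs
  · exact absurd hs hx0
  · refine ⟨_, twoGens_M0 ω h2 hω _ hg, _, hp, ?_⟩
    show ev ω (entry twoElts 162 x) = _
    rw [he, ev_mulN ω h2 hω]; rfl

theorem cls_M0 : ∀ x < 26163, ev ω (entry cls 162 x) ∈ M0 ω := by
  intro x
  induction x using Nat.strong_induction_on with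
  | _ x ih =>
    intro hx
    by_cases hx0 : x = 0
    · subst hx0; exact mem_of_memOK ω h2 hω cls_head.2.2.1
    have hs := allFrom_spec _ _ _ cls_tree x (Nat.zero_le _) (by omega)
    simp only [clsTree, force_eq, Bool.or_eq_true, Bool.and_eq_true, Nat.blt_eq, Nat.beq_eq] at hs
    obtain hs | ⟨hp, he⟩ := hs
    · exact absurd hs hx0
    rw [he, ev_mulN ω h2 hω, ev_mulN ω h2 hω]
    have hinv : ∀ g gi : ℕ, mulN g gi = J3Data90.one → ev ω g ∈ M0 ω → ev ω gi ∈ M0 ω := by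
      intro g gi hgi hg
      refine mem_of_mul_mem (M0 ω) hg (unit_of_M0 ω h2 hω hg) ?_
      rw [← ev_mulN ω h2 hω, hgi, ev_one]; exact (M0 ω).one_mem
    have ha : ev ω genA ∈ M0 ω := Submonoid.subset_closure (Or.inl rfl)
    have hb : ev ω genB ∈ M0 ω := Submonoid.subset_closure (Or.inr rfl)
    have hp' := ih _ hp (hp.trans hx)
    cases Nat.beq (Nat.land (entry clsPar 16 x) 1) 0
    · exact (M0 ω).mul_mem ((M0 ω).mul_mem hb hp') (hinv _ _ cls_head.2.1 hb)
    · exact (M0 ω).mul_mem ((M0 ω).mul_mem ha hp') (hinv _ _ cls_head.1 ha)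

theorem qF_mul (i j : Fin 32) : qF ω i * qF ω j = qF ω (qM i j) := by
  have hs := allFrom_spec _ _ _ q_mul (32 * (i : ℕ) + j) (Nat.zero_le _) (by omega)
  simp only [qMulOK, force_eq, Bool.and_eq_true, Nat.blt_eq, Nat.beq_eq,
    show (32 * (i : ℕ) + j) / 32 = i by omega, show (32 * (i : ℕ) + j) % 32 = j by omega] at hs
  show _ = lift ω (qv (qm i j % 32))
  rw [Nat.mod_eq_of_lt hs.1]
  exact lift_mul ω h2 hω (qv_M0 ω h2 hω i) (qv_M0 ω h2 hω j) hs.2

theorem hF_mul (i j : Fin 60) : hF ω i * hF ω j = hF ω (hM i j) := by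
  have hs := allFrom_spec _ _ _ h_mul (60 * (i : ℕ) + j) (Nat.zero_le _) (by omega)
  simp only [hMulOK, force_eq, Bool.and_eq_true, Nat.blt_eq, Nat.beq_eq,
    show (60 * (i : ℕ) + j) / 60 = i by omega, show (60 * (i : ℕ) + j) % 60 = j by omega] at hs
  show _ = lift ω (hv (hm i j % 60))
  rw [Nat.mod_eq_of_lt hs.1]
  exact lift_mul ω h2 hω (hv_M0 ω h2 hω i) (hv_M0 ω h2 hω j) hs.2

theorem hF_conj (j : Fin 60) (i : Fin 32) : hF ω j * qF ω i = qF ω (cJ j i) * hF ω j := by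
  have hs := allFrom_spec _ _ _ h_conj (32 * (j : ℕ) + i) (Nat.zero_le _) (by omega)
  simp only [hConjOK, force_eq, Bool.and_eq_true, Nat.blt_eq, Nat.beq_eq,
    show (32 * (j : ℕ) + i) / 32 = j by omega, show (32 * (j : ℕ) + i) % 32 = i by omega] at hs
  show _ = lift ω (qv (cj j i % 32)) * _
  rw [Nat.mod_eq_of_lt hs.1]
  show lift ω (hv j) * lift ω (qv i) = lift ω (qv (cj j i)) * lift ω (hv j)
  have hq : ∀ k : Fin 32, (k : ℕ) = cj j i → ev ω (qv (cj j i)) ∈ M0 ω :=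
    fun k e => e ▸ qv_M0 ω h2 hω k
  have e1 := lift_mul ω h2 hω (hv_M0 ω h2 hω j) (qv_M0 ω h2 hω i) hs.2
  have e2 : lift ω (qv (cj j i)) * lift ω (hv j) = lift ω (mulN (qv (cj j i)) (hv j)) :=
    lift_mul ω h2 hω (hq ⟨cj j i, hs.1⟩ (Fin.val_mk hs.1)) (hv_M0 ω h2 hω j) rfl
  exact e1.trans e2.symm

theorem qF_zero : qF ω 0 = 1 := by
  show lift ω (qv 0) = 1
  rw [cls_head.2.2.2.2.2.2.2.2.2.1, lift_one ω h2 hω]

theorem hF_zero : hF ω 0 = 1 := by
  show lift ω (hv 0) = 1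
  rw [cls_head.2.2.2.2.2.2.2.2.2.2.1, lift_one ω h2 hω]

theorem qF_z : qF ω qz = tF ω := by
  show lift ω (qv (qTi % 32)) = lift ω _
  rw [Nat.mod_eq_of_lt cls_head.2.2.2.2.2.1, cls_head.2.2.2.2.2.2.2.1]

theorem tF_sq : tF ω * tF ω = 1 := by
  rw [tF, cF, lift_mul ω h2 hω (cls_M0 ω h2 hω 0 (by norm_num)) (cls_M0 ω h2 hω 0 (by norm_num))
    cls_head.2.2.2.1, lift_one ω h2 hω]

theorem tF_ne : tF ω ≠ 1 := by
  intro e
  rw [← lift_one ω h2 hω] at e
  exact cls_head.2.2.2.2.1 (lift_inj ω h2 hω (cls_M0 ω h2 hω 0 (by norm_num)) (one_M0 ω h2 hω)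
    (entry_bound _ _) nontrivial.2.2.2.2.2.2.2.2.2.1 e)

theorem qF_comm (i : Fin 32) : qF ω i * tF ω = tF ω * qF ω i := by
  have hs := allFrom_spec _ _ _ q_comm i (Nat.zero_le _) (by omega)
  rw [Nat.beq_eq] at hs
  rw [qF, tF, cF, lift_mul ω h2 hω (qv_M0 ω h2 hω i) (cls_M0 ω h2 hω 0 (by norm_num)) hs,
    lift_mul ω h2 hω (cls_M0 ω h2 hω 0 (by norm_num)) (qv_M0 ω h2 hω i) rfl]

theorem hF_comm (j : Fin 60) : hF ω j * tF ω = tF ω * hF ω j := by
  have hs := allFrom_spec _ _ _ h_comm j (Nat.zero_le _) (by omega)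
  rw [Nat.beq_eq] at hs
  rw [hF, tF, cF, lift_mul ω h2 hω (hv_M0 ω h2 hω j) (cls_M0 ω h2 hω 0 (by norm_num)) hs,
    lift_mul ω h2 hω (cls_M0 ω h2 hω 0 (by norm_num)) (hv_M0 ω h2 hω j) rfl]

theorem sF_comm (x : ℕ) (hx : x < 128) : sF ω x * tF ω = tF ω * sF ω x := by
  have hs := allFrom_spec _ _ _ syl_comm x (Nat.zero_le _) (by omega)
  rw [Nat.beq_eq] at hs
  rw [sF, tF, cF, lift_mul ω h2 hω (sv_M0 ω h2 hω x hx) (cls_M0 ω h2 hω 0 (by norm_num)) hs,
    lift_mul ω h2 hω (cls_M0 ω h2 hω 0 (by norm_num)) (sv_M0 ω h2 hω x hx) rfl]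

theorem qF_in_s (i : Fin 32) : ∃ x < 128, qF ω i = sF ω x := by
  have hs := allFrom_spec _ _ _ q_in_s i (Nat.zero_le _) (by omega)
  simp only [Bool.and_eq_true, Nat.blt_eq, Nat.beq_eq] at hs
  exact ⟨_, hs.1, by rw [qF, hs.2]; rfl⟩

/-- Every conjugate in the class table is a conjugate of `tF`. -/
theorem cF_conj : ∀ x < 26163, ∃ g : threeJ3 F ω, g * tF ω * g⁻¹ = cF ω x := by
  intro x
  induction x using Nat.strong_induction_on with
  | _ x ih =>
    intro hx
    by_cases hx0 : x = 0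
    · subst hx0; exact ⟨1, by rw [one_mul, inv_one, mul_one]; rfl⟩
    have hs := allFrom_spec _ _ _ cls_tree x (Nat.zero_le _) (by omega)
    simp only [clsTree, force_eq, Bool.or_eq_true, Bool.and_eq_true, Nat.blt_eq, Nat.beq_eq] at hs
    obtain hs | ⟨hp, he⟩ := hs
    · exact absurd hs hx0
    obtain ⟨g, hg⟩ := ih _ hp (hp.trans hx)
    have hp' := cls_M0 ω h2 hω _ (hp.trans hx)
    have step : ∀ a ai : ℕ, mulN a ai = J3Data90.one → ev ω a ∈ M0 ω →
        entry cls 162 x = mulN (mulN a (entry cls 162 (Nat.shiftRight (entry clsPar 16 x) 1))) ai →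
        ∃ g : threeJ3 F ω, g * tF ω * g⁻¹ = cF ω x := by
      intro a ai hai ha hx'
      have hai' : ev ω ai ∈ M0 ω := by
        refine mem_of_mul_mem (M0 ω) ha (unit_of_M0 ω h2 hω ha) ?_
        rw [← ev_mulN ω h2 hω, hai, ev_one]; exact (M0 ω).one_mem
      have hinv : lift ω ai = (lift ω a)⁻¹ := by
        refine eq_inv_of_mul_eq_one_right ?_
        rw [lift_mul ω h2 hω ha hai' hai, lift_one ω h2 hω]
      refine ⟨lift ω a * g, ?_⟩
      rw [cF, hx', ← lift_mul ω h2 hω (by rw [ev_mulN ω h2 hω]; exact (M0 ω).mul_mem ha hp') hai' rfl,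
        ← lift_mul ω h2 hω ha hp' rfl, hinv]
      show _ = lift ω a * cF ω _ * _
      rw [← hg]; group
    have ha : ev ω genA ∈ M0 ω := Submonoid.subset_closure (Or.inl rfl)
    have hb : ev ω genB ∈ M0 ω := Submonoid.subset_closure (Or.inr rfl)
    cases hc : Nat.beq (Nat.land (entry clsPar 16 x) 1) 0
    · rw [hc] at he; exact step _ _ cls_head.2.1 hb he
    · rw [hc] at he; exact step _ _ cls_head.1 ha he

theorem cF_inj {x y : ℕ} (hx : x < 26163) (hy : y < 26163) (h : cF ω x = cF ω y) :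
    entry cls 162 x = entry cls 162 y :=
  lift_inj ω h2 hω (cls_M0 ω h2 hω x hx) (cls_M0 ω h2 hω y hy) (entry_bound _ _) (entry_bound _ _) h

omit [Finite F] h2 hω in
theorem cls_entry_inj : Function.Injective fun x : Fin 26163 => entry cls 162 x := by
  have hsort : ∀ x < 26163, entry clsSort 16 x < 26163 ∧
      (x + 1 < 26163 → entry cls 162 (entry clsSort 16 x) < entry cls 162 (entry clsSort 16 (x + 1))) := by
    intro x hx
    have hs := allFrom_spec _ _ _ cls_sort x (Nat.zero_le _) (by omega)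
    simp only [sortOK, Bool.or_eq_true, Bool.and_eq_true, Nat.blt_eq] at hs
    exact ⟨hs.1.1, fun h => hs.2.resolve_left (by omega)⟩
  let σ : Fin 26163 → Fin 26163 := fun x => ⟨entry clsSort 16 x, (hsort x x.2).1⟩
  have hmono : StrictMono fun x : Fin (26162 + 1) => entry cls 162 (σ x) :=
    Fin.strictMono_iff_lt_succ.2 fun i =>
      (hsort i (Nat.lt_succ_of_lt i.2)).2 (Nat.succ_lt_succ i.2)
  have hσ : Function.Bijective σ := Finite.injective_iff_bijective.1 fun a b e =>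
    hmono.injective (congrArg (fun t : Fin 26163 => entry cls 162 t) e)
  intro a b e
  obtain ⟨a', rfl⟩ := hσ.2 a
  obtain ⟨b', rfl⟩ := hσ.2 b
  exact congrArg σ (hmono.injective e)

theorem scal_gen (h4 : Nat.card F = 4) {z : threeJ3 F ω} (hz : z ∈ Subgroup.center (threeJ3 F ω)) :
    z = 1 ∨ z = lift ω scal ∨ z = lift ω scal * lift ω scal := by
  have hs : ev ω scal ∈ M0 ω := mem_of_memOK ω h2 hω spec_mem.2.2.2
  have hcube : lift ω scal ^ 3 = 1 := by
    refine coe_inj ω ?_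
    simp [lift_spec ω h2 hω hs, ev_scal, smul_pow, omega_cube ω hω]
  have hsc : lift ω scal ∈ Subgroup.center (threeJ3 F ω) :=
    center_of_scalar ω h2 hω (c := ω) (by rw [lift_spec ω h2 hω hs, ev_scal])
  have hne : lift ω scal ≠ 1 := by
    intro e
    rw [← lift_one ω h2 hω] at e
    exact nontrivial.2.2.2.2.1 (lift_inj ω h2 hω hs (one_M0 ω h2 hω)
      nontrivial.2.2.2.2.2.2.2.2.2.2 nontrivial.2.2.2.2.2.2.2.2.2.1 e)
  have hne' : (⟨lift ω scal, hsc⟩ : Subgroup.center (threeJ3 F ω)) ≠ 1 :=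
    fun e => hne (congrArg Subtype.val e)
  haveI : Fact (Nat.Prime 3) := ⟨by norm_num⟩
  obtain ⟨n, hn⟩ := mem_zpowers_of_prime_card (card_center ω h2 hω h4) hne' (g' := ⟨z, hz⟩)
  have hn' : lift ω scal ^ n = z := congrArg Subtype.val hn
  have hdiv : lift ω scal ^ n = lift ω scal ^ (n % 3) := by
    conv_lhs => rw [← Int.emod_add_mul_ediv n 3]
    rw [zpow_add, zpow_mul, zpow_ofNat, hcube, one_zpow, mul_one]
  rw [← hn', hdiv]
  have h1 : (n % 3) = 0 ∨ (n % 3) = 1 ∨ (n % 3) = 2 := by omega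
  rcases h1 with h | h | h <;> rw [h]
  · left; rw [zpow_zero]
  · right; left; rw [zpow_one]
  · right; right; rw [zpow_two]

/-- The normal subgroup and the complement meet trivially modulo scalars. -/
theorem qh_meet (h4 : Nat.card F = 4) (i : Fin 32) (j : Fin 60) {z : threeJ3 F ω}
    (hz : z ∈ Subgroup.center (threeJ3 F ω)) (h : qF ω i = z * hF ω j) : i = 0 ∧ j = 0 := by
  have hs := allFrom_spec _ _ _ q_h_meet (32 * (j : ℕ) + i) (Nat.zero_le _) (by omega)
  simp only [meetOK, force_eq, Bool.and_eq_true, Bool.or_eq_true, Nat.blt_eq, Nat.beq_eq,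
    Bool.not_eq_true', show (32 * (j : ℕ) + i) / 32 = j by omega,
    show (32 * (j : ℕ) + i) % 32 = i by omega] at hs
  obtain ⟨h0, ⟨⟨h1, h3⟩, b1⟩, b2⟩ := hs
  have hq := qv_M0 ω h2 hω i
  have hh := hv_M0 ω h2 hω j
  have hsm : ev ω scal ∈ M0 ω := mem_of_memOK ω h2 hω spec_mem.2.2.2
  have hsh : ev ω (mulN scal (hv j)) ∈ M0 ω := by
    rw [ev_mulN ω h2 hω]; exact (M0 ω).mul_mem hsm hh
  rcases scal_gen ω h2 hω h4 hz with rfl | rfl | rfl
  · rw [one_mul] at h
    have e := lift_inj ω h2 hω hq hh (entry_bound _ _) (entry_bound _ _) h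
    rcases h0 with h0 | h0
    · exact ⟨Fin.ext (by simpa using (show (i : ℕ) = 0 by omega)),
        Fin.ext (by simpa using (show (j : ℕ) = 0 by omega))⟩
    · rw [e] at h0; simp [Nat.beq_refl] at h0
  · rw [hF, lift_mul ω h2 hω hsm hh rfl] at h
    have e := lift_inj ω h2 hω hq hsh (entry_bound _ _) b1 h
    rw [e] at h1; simp [Nat.beq_refl] at h1
  · rw [hF, mul_assoc, lift_mul ω h2 hω hsm hh rfl, lift_mul ω h2 hω hsm hsh rfl] at h
    have e := lift_inj ω h2 hω hq (by rw [ev_mulN ω h2 hω]; exact (M0 ω).mul_mem hsm hsh)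
      (entry_bound _ _) b2 h
    rw [e] at h3; simp [Nat.beq_refl] at h3

end

end Cfsg.Agent.J3InvLift90
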