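import Cfsg.Agent.Lib.J3Glue93
import Cfsg.Agent.Lib.J3InvLift90

/-!
# The generators of the recognition inside the triple cover
-/

set_option autoImplicit false
set_option maxRecDepth 100000

namespace Cfsg.Agent.J3Images93

open CosetCertCore J3Mat90 J3Data90 J3Check90 J3Level90 J3Chain90 J3InvLift90 J3Cert2_90
open Cfsg.Agent.J3Rels93 Cfsg.Agent.J3Glue93 Cfsg.Agent.J3Keys93
open Cfsg.Spor

/-- The codes of `z, a, x, u, v, h, o`, each followed by its inverse. -/
def codes : List ℕ :=
  [0x11d071b948d317e57b1b119d41e9573c7577b05f9,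
   0x11d071b948d317e57b1b119d41e9573c7577b05f9,
   0x13328183069f9108042708d57890015f027390eab,
   0x13328183069f9108042708d57890015f027390eab,
   0x157a320e6c652a91ee588c551d001a32848141b6e,
   0x15da320e78652a00ef3cce711c021e2280c9a5a48,
   0x1f52d9671a01c071c950c56e4267845f8f7f834d6,
   0x1f52d9671a01c071c950c56e4267845f8f7f834d6,
   0x8e289431c1ed399cf67d45529c0387f752164ea8,
   0x8e289431c1ed399cf67d45529c0387f752164ea8,
   0x610a8bb7952bf36bacbeacad1724e96bd470a47f,
   0x1803a13c7ad2bf36bacbe6c953b06fb6b9460a07e,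
   0x1e8eb65707170414296967916dac9d2f22248ec64,
   0x73f2f0e1a00d5853456669fb228aa0692ec54f63]

/-- Membership certificates. -/
def certs : List ℕ :=
  [0x11e04000, 0x11e04000, 0x9c6a3ef, 0x9c6a3ef, 0xa300045, 0xb8244a9, 0xf213437, 0xf213437, 0x1626f437, 0x1626f437, 0xd632a4e, 0xc6066a3, 0xf8bd614, 0xf2cd007]

/-- The relators. -/
def relsAll : List (List ℕ) := relsH ++ relsO ++ relsMain.map (expand 1)

/-- Words for the two generators of the model. -/
def wordA : List ℕ := [0, 2, 10, 6, 8, 2, 10, 12, 10, 12, 10, 4, 12, 10, 13, 10, 8, 13, 10, 12]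

/-- Words for the two generators of the model. -/
def wordB : List ℕ := [8, 2, 6, 2, 6, 4, 12, 10, 12, 10, 6, 12, 10, 12, 10, 4, 6, 12]

/-- The product of a word. -/
noncomputable def wN (w : List ℕ) : ℕ :=
  w.foldr (fun c r => mulN (codes.getD c J3Data90.one) r) J3Data90.one

theorem mem_ok : allFrom (fun n => memOK (codes.getD n 0) (certs.getD n 0)) 14 0 = true := by
  decide +kernel

theorem pairs_ok : ((List.range 14).all fun n =>
    Nat.beq (wN [n, Nat.xor n 1]) J3Data90.one) = true := by decide +kernel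

theorem rels_ok : (relsAll.all fun w => w.all (fun c => Nat.blt c 14) &&
    Nat.beq (wN w) J3Data90.one) = true := by decide +kernel

theorem words_ok : (Nat.beq (wN wordA) genA && Nat.beq (wN wordB) genB &&
    (wordA.all (fun c => Nat.blt c 14) && wordB.all (fun c => Nat.blt c 14))) = true := by
  decide +kernel

section
variable {F : Type*} [Field F] [Finite F] (ω : F)

/-- The images of the letters. -/
noncomputable def img (c : ℕ) : threeJ3 F ω := if c < 14 then lift ω (codes.getD c 0) else 1

variable (h2 : (2 : F) = 0) (hω : ω ^ 2 + ω + 1 = 0)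
include h2 hω

theorem code_M0 (c : ℕ) (hc : c < 14) : ev ω (codes.getD c J3Data90.one) ∈ M0 ω := by
  have h := allFrom_spec _ _ _ mem_ok c (Nat.zero_le _) (by omega)
  rw [show codes.getD c J3Data90.one = codes.getD c 0 by interval_cases c <;> rfl]
  exact mem_of_memOK ω h2 hω h

theorem wN_spec : ∀ w : List ℕ, (∀ c ∈ w, c < 14) →
    ev ω (wN w) ∈ M0 ω ∧ wval (img ω) w = lift ω (wN w)
  | [], _ => ⟨one_M0 ω h2 hω, by simp [wval, wN, lift_one ω h2 hω]⟩
  | c :: w, hw => by
    obtain ⟨hm, hv⟩ := wN_spec w fun d hd => hw d (List.mem_cons_of_mem _ hd)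
    have hc := hw c List.mem_cons_self
    have hcm := code_M0 ω h2 hω c hc
    have e : wN (c :: w) = mulN (codes.getD c J3Data90.one) (wN w) := rfl
    have hg : img ω c = lift ω (codes.getD c J3Data90.one) := by
      rw [img, if_pos hc]
      congr 1
      interval_cases c <;> rfl
    refine ⟨by rw [e, ev_mulN ω h2 hω]; exact (M0 ω).mul_mem hcm hm, ?_⟩
    rw [show wval (img ω) (c :: w) = img ω c * wval (img ω) w by simp [wval], hv, hg, e,
      lift_mul ω h2 hω hcm hm rfl]

theorem img_rels : ∀ w ∈ relsAll, wval (img ω) w = 1 := by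
  intro w hw
  have h := List.all_eq_true.1 rels_ok w hw
  simp only [Bool.and_eq_true, List.all_eq_true, Nat.blt_eq, Nat.beq_eq] at h
  rw [(wN_spec ω h2 hω w h.1).2, h.2, lift_one ω h2 hω]

theorem img_inv (c : ℕ) : img ω (Nat.xor c 1) = (img ω c)⁻¹ := by
  by_cases hc : c < 14
  · have h := List.all_eq_true.1 pairs_ok c (List.mem_range.2 hc)
    simp only [Nat.beq_eq] at h
    have hx : Nat.xor c 1 < 14 := by interval_cases c <;> decide
    have hs := (wN_spec ω h2 hω [c, Nat.xor c 1] (by
      intro d hd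
      simp only [List.mem_cons, List.not_mem_nil, or_false] at hd
      rcases hd with rfl | rfl
      exacts [hc, hx])).2
    rw [h, lift_one ω h2 hω] at hs
    exact eq_inv_of_mul_eq_one_right (by simpa [wval] using hs)
  · have hx : ¬ Nat.xor c 1 < 14 := by
      intro hx
      have h2' : (c ^^^ 1) / 2 = c / 2 := by rw [Nat.xor_div_two]; simp
      have : Nat.xor c 1 / 2 = c / 2 := h2'
      omega
    simp only [img, if_neg hc, if_neg hx, inv_one]

theorem img_gen : Subgroup.closure (Set.range (img ω)) = ⊤ := by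
  obtain ⟨a, b, -, -, ha, hb, hgen⟩ := J3Simple90.exists_gens ω h2 hω
  have h := words_ok
  simp only [Bool.and_eq_true, List.all_eq_true, Nat.blt_eq, Nat.beq_eq] at h
  obtain ⟨⟨eA, eB⟩, bA, bB⟩ := h
  have hval : ∀ w : List ℕ, wval (img ω) w ∈ Subgroup.closure (Set.range (img ω)) := by
    intro w
    refine Subgroup.list_prod_mem _ fun g hg => ?_
    obtain ⟨c, -, rfl⟩ := List.mem_map.1 hg
    exact Subgroup.subset_closure ⟨c, rfl⟩
  rw [eq_top_iff, ← hgen, Subgroup.closure_le]
  rintro g (rfl | rfl)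
  · have hs := wN_spec ω h2 hω wordA bA
    rw [eA] at hs
    have : wval (img ω) wordA = g := by
      rw [hs.2]
      exact J3Order90.coe_inj ω (by rw [lift_spec ω h2 hω hs.1, ha])
    exact this ▸ hval _
  · have hs := wN_spec ω h2 hω wordB bB
    rw [eB] at hs
    have : wval (img ω) wordB = g := by
      rw [hs.2]
      exact J3Order90.coe_inj ω (by rw [lift_spec ω h2 hω hs.1, hb])
    exact this ▸ hval _

end

end Cfsg.Agent.J3Images93
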