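import Cfsg.Agent.Lib.J3CertA90
import Cfsg.Agent.Lib.J3Cert2_90
import Cfsg.Agent.Lib.J3InvData90

/-! Kernel checks for the involutions of the third Janko group and the centraliser of one of them. -/

set_option autoImplicit false
set_option maxRecDepth 100000
set_option Elab.async false

namespace Cfsg.Agent.J3InvCert90

open CosetCertCore J3Mat90 J3Data90 J3Check90 J3InvData90

noncomputable def clsTree (x : ℕ) : Bool :=
  Nat.beq x 0 ||
    force (entry clsPar 16 x) fun n =>
    force (Nat.land n 1) fun g =>
    force (Nat.shiftRight n 1) fun p =>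
    Nat.blt p x &&
      Nat.beq (entry cls 162 x)
        (mulN (mulN (cond (Nat.beq g 0) genA genB) (entry cls 162 p))
          (cond (Nat.beq g 0) genAi genBi))

noncomputable def qv (i : ℕ) : ℕ := entry qElts 162 i
noncomputable def hv (i : ℕ) : ℕ := entry hElts 162 i
noncomputable def sv (i : ℕ) : ℕ := entry twoElts 162 i
noncomputable def qm (i j : ℕ) : ℕ := entry qMul 8 (32 * i + j)
noncomputable def hm (i j : ℕ) : ℕ := entry hMul 8 (60 * i + j)
noncomputable def cj (j i : ℕ) : ℕ := entry hConj 8 (32 * j + i)

noncomputable def qMulOK (n : ℕ) : Bool :=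
  force (n / 32) fun i => force (n % 32) fun j => force (qm i j) fun k =>
  Nat.blt k 32 && Nat.beq (mulN (qv i) (qv j)) (qv k)

noncomputable def hMulOK (n : ℕ) : Bool :=
  force (n / 60) fun i => force (n % 60) fun j => force (hm i j) fun k =>
  Nat.blt k 60 && Nat.beq (mulN (hv i) (hv j)) (hv k)

noncomputable def hConjOK (n : ℕ) : Bool :=
  force (n / 32) fun j => force (n % 32) fun i => force (cj j i) fun k =>
  Nat.blt k 32 && Nat.beq (mulN (hv j) (qv i)) (mulN (qv k) (hv j))

/-- `q i` differs from every scalar multiple of `h j` except at the identity. -/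
noncomputable def meetOK (n : ℕ) : Bool :=
  force (n / 32) fun j => force (n % 32) fun i => force (hv j) fun H => force (qv i) fun Q =>
  (Nat.beq n 0 || !(Nat.beq Q H)) &&
    force (mulN scal H) fun S => !(Nat.beq Q S) && !(Nat.beq Q (mulN scal S)) &&
      Nat.blt S (2 ^ 162) && Nat.blt (mulN scal S) (2 ^ 162)

noncomputable def sylInvOK (x : ℕ) : Bool :=
  Nat.beq x 0 ||
    force (sv x) fun X => force (entry sylWit 16 x) fun w =>
    (Nat.blt w 26163 && Nat.beq (entry cls 162 w) X) ||
      force (entry sylSq 8 x) fun y =>
      Nat.blt y 128 && Nat.beq (mulN X X) (sv y) && !(Nat.beq (sv y) one)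

/-- A nonidentity element of the Sylow table other than the central involution fails to commute with some generator. -/
noncomputable def sylCentreOK (x : ℕ) : Bool :=
  force (sv x) fun X =>
  Nat.beq x 0 || Nat.beq x sTi ||
    twoGens.any fun g => !(Nat.beq (mulN g X) (mulN X g)) && Nat.blt (mulN g X) (2 ^ 162) &&
      Nat.blt (mulN X g) (2 ^ 162)


/-- Consecutive ranges of a check join. -/
theorem allFrom_join (f : ℕ → Bool) :
    ∀ n m s : ℕ, allFrom f n s = true → allFrom f m (s + n) = true → allFrom f (n + m) s = true
  | 0, m, s, _, h2 => by simpa using h2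
  | n + 1, m, s, h1, h2 => by
    have h' : f s = true ∧ allFrom f n (s + 1) = true := by
      simpa [allFrom, force_eq] using h1
    have h3 : allFrom f (n + m) (s + 1) = true :=
      allFrom_join f n m (s + 1) h'.2 (by rwa [Nat.add_right_comm])
    rw [Nat.add_right_comm n 1 m]
    simpa [allFrom, force_eq] using And.intro h'.1 h3

theorem cls_head : mulN genA genAi = one ∧ mulN genB genBi = one ∧
    memOK (entry cls 162 0) certT = true ∧ mulN (entry cls 162 0) (entry cls 162 0) = one ∧
    entry cls 162 0 ≠ one ∧ qTi < 32 ∧ sTi < 128 ∧ qv qTi = entry cls 162 0 ∧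
    sv sTi = entry cls 162 0 ∧ qv 0 = one ∧ hv 0 = one ∧ sv 0 = one := by decide +kernel

theorem cls_tree_part0 : allFrom clsTree 3270 0 = true := by decide +kernel
theorem cls_tree_part1 : allFrom clsTree 3270 3270 = true := by decide +kernel
theorem cls_tree_part2 : allFrom clsTree 3270 6540 = true := by decide +kernel
theorem cls_tree_part3 : allFrom clsTree 3270 9810 = true := by decide +kernel
theorem cls_tree_part4 : allFrom clsTree 3270 13080 = true := by decide +kernel
theorem cls_tree_part5 : allFrom clsTree 3270 16350 = true := by decide +kernel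
theorem cls_tree_part6 : allFrom clsTree 3270 19620 = true := by decide +kernel
theorem cls_tree_part7 : allFrom clsTree 3273 22890 = true := by decide +kernel

theorem cls_tree : allFrom clsTree 26163 0 = true := by
  have h7 : allFrom clsTree 3273 22890 = true := cls_tree_part7
  have h6 : allFrom clsTree 6543 19620 = true :=
    allFrom_join clsTree 3270 3273 19620 cls_tree_part6 h7
  have h5 : allFrom clsTree 9813 16350 = true :=
    allFrom_join clsTree 3270 6543 16350 cls_tree_part5 h6
  have h4 : allFrom clsTree 13083 13080 = true :=
    allFrom_join clsTree 3270 9813 13080 cls_tree_part4 h5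
  have h3 : allFrom clsTree 16353 9810 = true :=
    allFrom_join clsTree 3270 13083 9810 cls_tree_part3 h4
  have h2 : allFrom clsTree 19623 6540 = true :=
    allFrom_join clsTree 3270 16353 6540 cls_tree_part2 h3
  have h1 : allFrom clsTree 22893 3270 = true :=
    allFrom_join clsTree 3270 19623 3270 cls_tree_part1 h2
  have h0 : allFrom clsTree 26163 0 = true :=
    allFrom_join clsTree 3270 22893 0 cls_tree_part0 h1
  exact h0
theorem cls_sort_part0 : allFrom (sortOK cls clsSort 26163) 3270 0 = true := by decide +kernel
theorem cls_sort_part1 : allFrom (sortOK cls clsSort 26163) 3270 3270 = true := by decide +kernel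
theorem cls_sort_part2 : allFrom (sortOK cls clsSort 26163) 3270 6540 = true := by decide +kernel
theorem cls_sort_part3 : allFrom (sortOK cls clsSort 26163) 3270 9810 = true := by decide +kernel
theorem cls_sort_part4 : allFrom (sortOK cls clsSort 26163) 3270 13080 = true := by decide +kernel
theorem cls_sort_part5 : allFrom (sortOK cls clsSort 26163) 3270 16350 = true := by decide +kernel
theorem cls_sort_part6 : allFrom (sortOK cls clsSort 26163) 3270 19620 = true := by decide +kernel
theorem cls_sort_part7 : allFrom (sortOK cls clsSort 26163) 3273 22890 = true := by decide +kernel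

theorem cls_sort : allFrom (sortOK cls clsSort 26163) 26163 0 = true := by
  have h7 : allFrom (sortOK cls clsSort 26163) 3273 22890 = true := cls_sort_part7
  have h6 : allFrom (sortOK cls clsSort 26163) 6543 19620 = true :=
    allFrom_join (sortOK cls clsSort 26163) 3270 3273 19620 cls_sort_part6 h7
  have h5 : allFrom (sortOK cls clsSort 26163) 9813 16350 = true :=
    allFrom_join (sortOK cls clsSort 26163) 3270 6543 16350 cls_sort_part5 h6
  have h4 : allFrom (sortOK cls clsSort 26163) 13083 13080 = true :=
    allFrom_join (sortOK cls clsSort 26163) 3270 9813 13080 cls_sort_part4 h5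
  have h3 : allFrom (sortOK cls clsSort 26163) 16353 9810 = true :=
    allFrom_join (sortOK cls clsSort 26163) 3270 13083 9810 cls_sort_part3 h4
  have h2 : allFrom (sortOK cls clsSort 26163) 19623 6540 = true :=
    allFrom_join (sortOK cls clsSort 26163) 3270 16353 6540 cls_sort_part2 h3
  have h1 : allFrom (sortOK cls clsSort 26163) 22893 3270 = true :=
    allFrom_join (sortOK cls clsSort 26163) 3270 19623 3270 cls_sort_part1 h2
  have h0 : allFrom (sortOK cls clsSort 26163) 26163 0 = true :=
    allFrom_join (sortOK cls clsSort 26163) 3270 22893 0 cls_sort_part0 h1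
  exact h0

theorem q_mem : allFrom (fun i => memOK (qv i) (entry qCert 32 i)) 32 0 = true := by decide +kernel
theorem h_mem : allFrom (fun i => memOK (hv i) (entry hCert 32 i)) 60 0 = true := by decide +kernel
theorem q_mul : allFrom qMulOK 1024 0 = true := by decide +kernel
theorem h_mul : allFrom hMulOK 3600 0 = true := by decide +kernel
theorem h_conj : allFrom hConjOK 1920 0 = true := by decide +kernel
theorem q_h_meet : allFrom meetOK 1920 0 = true := by decide +kernel
theorem q_in_s : allFrom (fun i => Nat.blt (entry qInS 8 i) 128 &&
    Nat.beq (qv i) (sv (entry qInS 8 i))) 32 0 = true := by decide +kernel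
theorem h_comm : allFrom (fun j => Nat.beq (mulN (hv j) (entry cls 162 0))
    (mulN (entry cls 162 0) (hv j))) 60 0 = true := by decide +kernel
theorem q_comm : allFrom (fun i => Nat.beq (mulN (qv i) (entry cls 162 0))
    (mulN (entry cls 162 0) (qv i))) 32 0 = true := by decide +kernel
theorem syl_inv : allFrom sylInvOK 128 0 = true := by decide +kernel
theorem syl_centre : allFrom sylCentreOK 128 0 = true := by decide +kernel
theorem syl_comm : allFrom (fun x => Nat.beq (mulN (sv x) (entry cls 162 0))
    (mulN (entry cls 162 0) (sv x))) 128 0 = true := by decide +kernel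

/-- Each Sylow generator is a product of listed involutions. -/
theorem syl_gen_words : allFrom (fun g =>
    Nat.beq ((sGenWords.getD g []).foldl (fun m x => mulN m (sv x)) one) (twoGens.getD g 0) &&
      (sGenWords.getD g []).all fun x => Nat.blt x 128 && Nat.beq (mulN (sv x) (sv x)) one) 5 0 = true := by
  decide +kernel

end Cfsg.Agent.J3InvCert90
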