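import Cfsg.Agent.Lib.J3InvLift90

/-! The centraliser of an involution and a Sylow 2-subgroup of the third Janko group. -/

set_option autoImplicit false
set_option maxRecDepth 100000

namespace Cfsg.Agent.J3InvCore90

open CosetCertCore J3Mat90 J3Data90 J3Check90 J3CertA90 J3Cert2_90 J3Level90 J3Gens90 J3Chain90
open J3Order90 J3Simple90 J3InvData90 J3InvCert90 J3InvTable90 J3InvLift90
open Cfsg.Spor

section
variable {F : Type*} [Field F] [Finite F] (ω : F)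

/-- The quotient map. -/
noncomputable def pi : threeJ3 F ω →* J3 F ω := QuotientGroup.mk' (Subgroup.center (threeJ3 F ω))

/-- The chosen involution. -/
noncomputable def T0 : J3 F ω := pi ω (tF ω)

/-- The lifted Sylow 2-subgroup. -/
noncomputable def Phat : Subgroup (threeJ3 F ω) :=
  Subgroup.closure {x | ∃ g < 5, x = lift ω (twoGens.getD g 0)}

/-- The Sylow 2-subgroup of the quotient. -/
noncomputable def S0 : Subgroup (J3 F ω) := (Phat ω).map (pi ω)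

omit [Finite F] in
theorem pi_eq {x y : threeJ3 F ω} (h : pi ω x = pi ω y) :
    ∃ z ∈ Subgroup.center (threeJ3 F ω), x = z * y := by
  refine ⟨x * y⁻¹, ?_, by rw [inv_mul_cancel_right]⟩
  rw [← QuotientGroup.eq_one_iff]
  show pi ω (x * y⁻¹) = 1
  rw [map_mul, map_inv, h, mul_inv_cancel]

omit [Finite F] in
theorem pi_of_center {z : threeJ3 F ω} (hz : z ∈ Subgroup.center (threeJ3 F ω)) : pi ω z = 1 :=
  (QuotientGroup.eq_one_iff z).2 hz

variable (h2 : (2 : F) = 0) (hω : ω ^ 2 + ω + 1 = 0) (h4 : Nat.card F = 4)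
include h2 hω h4

theorem center_cube {z : threeJ3 F ω} (hz : z ∈ Subgroup.center (threeJ3 F ω)) : z ^ 3 = 1 := by
  have h : (⟨z, hz⟩ : Subgroup.center (threeJ3 F ω)) ^ Nat.card (Subgroup.center (threeJ3 F ω)) = 1 :=
    pow_card_eq_one'
  rw [card_center ω h2 hω h4] at h
  exact congrArg Subtype.val h

/-- Two elements squaring to one with equal images are equal. -/
theorem pi_eq_of_sq {x y : threeJ3 F ω} (hx : x * x = 1) (hy : y * y = 1) (h : pi ω x = pi ω y) :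
    x = y := by
  obtain ⟨z, hz, rfl⟩ := pi_eq ω h
  have hc : y * z = z * y := Subgroup.mem_center_iff.1 hz y
  have h2' : z * z = 1 := by
    rw [mul_assoc, ← mul_assoc y z y, hc, mul_assoc z y y, hy, mul_one] at hx
    exact hx
  have h3 : z * z * z = 1 := by
    have := center_cube ω h2 hω h4 hz
    rwa [pow_succ, pow_two] at this
  rw [h2', one_mul] at h3
  rw [h3, one_mul]

theorem T0_sq : T0 ω * T0 ω = 1 := by
  rw [T0, ← map_mul, tF_sq ω h2 hω, map_one]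

theorem T0_ne : T0 ω ≠ 1 := fun h =>
  tF_ne ω h2 hω (pi_eq_of_sq ω h2 hω h4 (tF_sq ω h2 hω) (one_mul 1) (h.trans (map_one _).symm))

theorem orderOf_T0 : orderOf (T0 ω) = 2 :=
  orderOf_eq_prime (by rw [pow_two]; exact T0_sq ω h2 hω h4) (T0_ne ω h2 hω h4)

theorem class_le : 26163 ≤ (Subgroup.centralizer ({T0 ω} : Set (J3 F ω))).index := by
  choose g hg using fun x : Fin 26163 => cF_conj ω h2 hω x x.2
  have hsq : ∀ x : Fin 26163, cF ω x * cF ω x = 1 := fun x => by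
    rw [← hg x, show g x * tF ω * (g x)⁻¹ * (g x * tF ω * (g x)⁻¹) = g x * (tF ω * tF ω) * (g x)⁻¹ by group,
      tF_sq ω h2 hω, mul_one, mul_inv_cancel]
  have hconj : ∀ x : Fin 26163, pi ω (cF ω x) = pi ω (g x) * T0 ω * (pi ω (g x))⁻¹ := fun x => by
    rw [← hg x, map_mul, map_mul, map_inv]; rfl
  let f : Fin 26163 → J3 F ω ⧸ Subgroup.centralizer ({T0 ω} : Set (J3 F ω)) :=
    fun x => QuotientGroup.mk (pi ω (g x))
  have hinj : Function.Injective f := by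
    intro x y e
    have hc := Subgroup.mem_centralizer_singleton_iff.1 (QuotientGroup.eq.1 e)
    refine cls_entry_inj (cF_inj ω h2 hω x.2 y.2 (pi_eq_of_sq ω h2 hω h4 (hsq x) (hsq y) ?_))
    rw [hconj x, hconj y]
    calc pi ω (g x) * T0 ω * (pi ω (g x))⁻¹
        = pi ω (g x) * (T0 ω * ((pi ω (g x))⁻¹ * pi ω (g y))) * (pi ω (g y))⁻¹ := by group
      _ = pi ω (g x) * (((pi ω (g x))⁻¹ * pi ω (g y)) * T0 ω) * (pi ω (g y))⁻¹ := by rw [hc]
      _ = pi ω (g y) * T0 ω * (pi ω (g y))⁻¹ := by group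
  have := Nat.card_le_card_of_injective f hinj
  rwa [Nat.card_fin] at this

/-- The image of the normal 2-subgroup. -/
noncomputable def Q0 : Subgroup (J3 F ω) :=
  tableSubgroup (fun i => pi ω (qF ω i)) qM (by rw [qF_zero ω h2 hω, map_one])
    (fun i j => by rw [← map_mul, qF_mul ω h2 hω])

/-- The image of the complement. -/
noncomputable def H0 : Subgroup (J3 F ω) :=
  tableSubgroup (fun j => pi ω (hF ω j)) hM (by rw [hF_zero ω h2 hω, map_one])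
    (fun i j => by rw [← map_mul, hF_mul ω h2 hω])

theorem prod_inj : Function.Injective (fun p : Fin 32 × Fin 60 => pi ω (qF ω p.1) * pi ω (hF ω p.2)) := by
  rintro ⟨i, j⟩ ⟨i', j'⟩ e
  simp only [← map_mul] at e
  obtain ⟨z, hz, e'⟩ := pi_eq ω e
  let Qh : Subgroup (threeJ3 F ω) := tableSubgroup (qF ω) qM (qF_zero ω h2 hω) (qF_mul ω h2 hω)
  let Hh : Subgroup (threeJ3 F ω) := tableSubgroup (hF ω) hM (hF_zero ω h2 hω) (hF_mul ω h2 hω)
  obtain ⟨a, ha⟩ : (qF ω i')⁻¹ * qF ω i ∈ Qh := Qh.mul_mem (Qh.inv_mem ⟨i', rfl⟩) ⟨i, rfl⟩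
  obtain ⟨b, hb⟩ : hF ω j' * (hF ω j)⁻¹ ∈ Hh := Hh.mul_mem ⟨j', rfl⟩ (Hh.inv_mem ⟨j, rfl⟩)
  have hab : qF ω a = z * hF ω b := by
    rw [ha, hb]
    calc (qF ω i')⁻¹ * qF ω i = (qF ω i')⁻¹ * (qF ω i * hF ω j) * (hF ω j)⁻¹ := by group
      _ = (qF ω i')⁻¹ * (z * qF ω i') * hF ω j' * (hF ω j)⁻¹ := by rw [e']; group
      _ = (qF ω i')⁻¹ * (qF ω i' * z) * hF ω j' * (hF ω j)⁻¹ := by
          rw [Subgroup.mem_center_iff.1 hz (qF ω i')]
      _ = z * (hF ω j' * (hF ω j)⁻¹) := by group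
  obtain ⟨rfl, rfl⟩ := qh_meet ω h2 hω h4 a b hz hab
  rw [qF_zero ω h2 hω] at ha
  rw [hF_zero ω h2 hω] at hb
  have e1 : qF ω i' = qF ω i := inv_mul_eq_one.1 ha.symm
  have e2 : hF ω j' = hF ω j := mul_inv_eq_one.1 hb.symm
  have hi : qv i' = qv i := lift_inj ω h2 hω (qv_M0 ω h2 hω i') (qv_M0 ω h2 hω i) (entry_bound _ _)
    (entry_bound _ _) e1
  have hj : hv j' = hv j := lift_inj ω h2 hω (hv_M0 ω h2 hω j') (hv_M0 ω h2 hω j) (entry_bound _ _)
    (entry_bound _ _) e2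
  have key1 : ∀ i i' : Fin 32, qv i' = qv i → i = i' := by decide +kernel
  have key2 : ∀ j j' : Fin 60, hv j' = hv j → j = j' := by decide +kernel
  exact Prod.ext (key1 i i' hi) (key2 j j' hj)

theorem q_inj : Function.Injective (fun i : Fin 32 => pi ω (qF ω i)) := fun i i' e =>
  congrArg Prod.fst (prod_inj ω h2 hω h4 (a₁ := (i, 0)) (a₂ := (i', 0))
    (by simp only at e ⊢; rw [e]))

theorem h_inj : Function.Injective (fun j : Fin 60 => pi ω (hF ω j)) := fun j j' e =>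
  congrArg Prod.snd (prod_inj ω h2 hω h4 (a₁ := (0, j)) (a₂ := (0, j'))
    (by simp only at e ⊢; rw [e]))

theorem card_Q0 : Nat.card (Q0 ω h2 hω) = 32 := card_tableSubgroup _ _ _ _ (q_inj ω h2 hω h4)
theorem card_H0 : Nat.card (H0 ω h2 hω) = 60 := card_tableSubgroup _ _ _ _ (h_inj ω h2 hω h4)

theorem q_mem_C (i : Fin 32) : pi ω (qF ω i) ∈ Subgroup.centralizer ({T0 ω} : Set (J3 F ω)) := by
  rw [Subgroup.mem_centralizer_singleton_iff, T0, ← map_mul, ← map_mul, qF_comm ω h2 hω]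

theorem h_mem_C (j : Fin 60) : pi ω (hF ω j) ∈ Subgroup.centralizer ({T0 ω} : Set (J3 F ω)) := by
  rw [Subgroup.mem_centralizer_singleton_iff, T0, ← map_mul, ← map_mul, hF_comm ω h2 hω]

/-- The centraliser has order 1920 and consists of the products. -/
theorem centralizer_spec : Nat.card (Subgroup.centralizer ({T0 ω} : Set (J3 F ω))) = 1920 ∧
    ∀ c ∈ Subgroup.centralizer ({T0 ω} : Set (J3 F ω)), ∃ i j, c = pi ω (qF ω i) * pi ω (hF ω j) := by
  set C := Subgroup.centralizer ({T0 ω} : Set (J3 F ω))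
  let f : Fin 32 × Fin 60 → C := fun p =>
    ⟨_, C.mul_mem (q_mem_C ω h2 hω h4 p.1) (h_mem_C ω h2 hω h4 p.2)⟩
  have hinj : Function.Injective f := fun a b e => prod_inj ω h2 hω h4 (congrArg Subtype.val e)
  have hge := Nat.card_le_card_of_injective f hinj
  simp only [Nat.card_prod, Nat.card_fin] at hge
  have hm := C.card_mul_index
  rw [card_J3 ω h2 hω h4] at hm
  have hi := class_le ω h2 hω h4
  have hC : Nat.card C = 1920 := by
    have h' : Nat.card C * 26163 ≤ Nat.card C * C.index := Nat.mul_le_mul_left _ hi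
    omega
  refine ⟨hC, fun c hc => ?_⟩
  obtain ⟨p, hp⟩ := (Function.Injective.bijective_of_nat_card_le hinj
    (by simp [hC])).2 ⟨c, hc⟩
  exact ⟨p.1, p.2, (congrArg Subtype.val hp).symm⟩

theorem Q0_normalized {c : J3 F ω} (hc : c ∈ Subgroup.centralizer ({T0 ω} : Set (J3 F ω))) :
    ∀ x ∈ Q0 ω h2 hω, c * x * c⁻¹ ∈ Q0 ω h2 hω := by
  obtain ⟨i, j, rfl⟩ := (centralizer_spec ω h2 hω h4).2 c hc
  rintro _ ⟨k, rfl⟩
  have h : pi ω (hF ω j) * pi ω (qF ω k) * (pi ω (hF ω j))⁻¹ = pi ω (qF ω (cJ j k)) := by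
    rw [mul_inv_eq_iff_eq_mul, ← map_mul, ← map_mul, hF_conj ω h2 hω]
  have hq : ∀ a, pi ω (qF ω a) ∈ Q0 ω h2 hω := fun a => ⟨a, rfl⟩
  have e : pi ω (qF ω i) * pi ω (hF ω j) * pi ω (qF ω k) * (pi ω (qF ω i) * pi ω (hF ω j))⁻¹ =
      pi ω (qF ω i) * (pi ω (hF ω j) * pi ω (qF ω k) * (pi ω (hF ω j))⁻¹) * (pi ω (qF ω i))⁻¹ := by
    group
  rw [e, h]
  exact (Q0 ω h2 hω).mul_mem ((Q0 ω h2 hω).mul_mem (hq i) (hq _)) ((Q0 ω h2 hω).inv_mem (hq i))

theorem centralizer_Q0 : Subgroup.centralizer (Q0 ω h2 hω : Set (J3 F ω)) ≤ Q0 ω h2 hω := by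
  intro c hc
  have hz : T0 ω ∈ Q0 ω h2 hω := ⟨qz, by show pi ω (qF ω qz) = _; rw [qF_z ω h2 hω]; rfl⟩
  have hcC : c ∈ Subgroup.centralizer ({T0 ω} : Set (J3 F ω)) :=
    Subgroup.mem_centralizer_singleton_iff.2 (Subgroup.mem_centralizer_iff.1 hc _ hz).symm
  obtain ⟨i, j, rfl⟩ := (centralizer_spec ω h2 hω h4).2 c hcC
  by_cases hj : j = 0
  · subst hj
    rw [hF_zero ω h2 hω, map_one, mul_one]
    exact ⟨i, rfl⟩
  exfalso
  obtain ⟨k, hk⟩ := q_centric j hj i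
  have h1 := Subgroup.mem_centralizer_iff.1 hc (pi ω (qF ω k)) ⟨k, rfl⟩
  have h2' : pi ω (qF ω i) * pi ω (hF ω j) * pi ω (qF ω k) =
      pi ω (qF ω (qM i (cJ j k))) * pi ω (hF ω j) := by
    rw [mul_assoc, ← map_mul (pi ω) (hF ω j), hF_conj ω h2 hω, map_mul, ← mul_assoc, ← map_mul,
      qF_mul ω h2 hω]
  have h3 : pi ω (qF ω k) * (pi ω (qF ω i) * pi ω (hF ω j)) =
      pi ω (qF ω (qM k i)) * pi ω (hF ω j) := by
    rw [← mul_assoc, ← map_mul, qF_mul ω h2 hω]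
  rw [h2', h3] at h1
  exact hk (q_inj ω h2 hω h4 (mul_right_cancel h1).symm)

theorem Phat_table : (∀ x < 128, sF ω x ∈ Phat ω) ∧
    ∀ p ∈ Phat ω, ∃ x < 128, p = sF ω x := by
  set G : Set (threeJ3 F ω) := {x | ∃ g < 5, x = lift ω (twoGens.getD g 0)} with hG
  have h0 : sF ω 0 = 1 := by
    show lift ω (sv 0) = 1
    rw [cls_head.2.2.2.2.2.2.2.2.2.2.2, lift_one ω h2 hω]
  have hmem : ∀ x < 128, sF ω x ∈ Submonoid.closure G := by
    refine tree_mem _ (sF ω) 128 h0 ?_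
    intro x hx hx0
    have hs := allFrom_spec _ _ _ two_tree x (Nat.zero_le _) (by omega)
    simp only [smallTree, force_eq, Bool.or_eq_true, Bool.and_eq_true, Nat.blt_eq, Nat.beq_eq,
      lengths.1] at hs
    obtain hs | ⟨⟨hp, hg⟩, he⟩ := hs
    · exact absurd hs hx0
    refine ⟨_, Submonoid.subset_closure ⟨_, hg, rfl⟩, _, hp, ?_⟩
    exact (lift_mul ω h2 hω (twoGens_M0 ω h2 hω _ hg) (sv_M0 ω h2 hω _ (hp.trans hx)) he.symm).symm
  have htab : ∀ p ∈ Submonoid.closure G, ∃ x < 128, p = sF ω x := by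
    refine fun p hp => table_closure G (sF ω) 128 (by norm_num) h0 ?_ hp
    rintro _ ⟨g, hg, rfl⟩ x hx
    have hs := allFrom_spec _ _ _ two_edges (x * 5 + g) (Nat.zero_le _) (by omega)
    simp only [smallEdge, force_eq, lengths.1, Bool.and_eq_true, Nat.blt_eq, Nat.beq_eq] at hs
    rw [show (x * 5 + g) % 5 = g by omega, show (x * 5 + g) / 5 = x by omega] at hs
    exact ⟨_, hs.1, lift_mul ω h2 hω (twoGens_M0 ω h2 hω g hg) (sv_M0 ω h2 hω x hx) hs.2⟩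
  have e : (Phat ω).toSubmonoid = Submonoid.closure G := Subgroup.closure_toSubmonoid_of_finite
  exact ⟨fun x hx => by rw [← Subgroup.mem_toSubmonoid, e]; exact hmem x hx,
    fun p hp => htab p (e ▸ hp)⟩

theorem card_Phat : Nat.card (Phat ω) = 128 := by
  obtain ⟨hmem, htab⟩ := Phat_table ω h2 hω h4
  let f : Fin 128 → Phat ω := fun x => ⟨sF ω x, hmem x x.2⟩
  have key : ∀ x y : Fin 128, sv x = sv y → x = y := by decide +kernel
  have hinj : Function.Injective f := fun a b e =>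
    key a b (lift_inj ω h2 hω (sv_M0 ω h2 hω a a.2) (sv_M0 ω h2 hω b b.2) (entry_bound _ _)
      (entry_bound _ _) (congrArg Subtype.val e))
  have hsurj : Function.Surjective f := fun p => by
    obtain ⟨x, hx, e⟩ := htab p p.2
    exact ⟨⟨x, hx⟩, Subtype.ext e.symm⟩
  rw [← Nat.card_eq_of_bijective f ⟨hinj, hsurj⟩, Nat.card_fin]

theorem pi_inj_Phat {x y : threeJ3 F ω} (hx : x ∈ Phat ω) (hy : y ∈ Phat ω) (h : pi ω x = pi ω y) :
    x = y := by
  obtain ⟨z, hz, e⟩ := pi_eq ω h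
  have hzP : z ∈ Phat ω := by
    have : z = x * y⁻¹ := by rw [e, mul_inv_cancel_right]
    rw [this]; exact (Phat ω).mul_mem hx ((Phat ω).inv_mem hy)
  have h1 : orderOf z ∣ 3 := orderOf_dvd_of_pow_eq_one (center_cube ω h2 hω h4 hz)
  have h2' : orderOf z ∣ 128 := card_Phat ω h2 hω h4 ▸ Subgroup.orderOf_dvd_natCard _ hzP
  have : orderOf z ∣ Nat.gcd 3 128 := Nat.dvd_gcd h1 h2'
  rw [show Nat.gcd 3 128 = 1 by norm_num, Nat.dvd_one, orderOf_eq_one_iff] at this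
  rw [e, this, one_mul]

theorem card_S0 : Nat.card (S0 ω) = 128 := by
  let f : Phat ω → S0 ω := fun p => ⟨pi ω p, Subgroup.mem_map_of_mem _ p.2⟩
  have hb : Function.Bijective f := ⟨fun a b e =>
    Subtype.ext (pi_inj_Phat ω h2 hω h4 a.2 b.2 (congrArg Subtype.val e)), fun s => by
    obtain ⟨p, hp, e⟩ := s.2
    exact ⟨⟨p, hp⟩, Subtype.ext e⟩⟩
  rw [← Nat.card_eq_of_bijective f hb, card_Phat ω h2 hω h4]

theorem S0_le_C : S0 ω ≤ Subgroup.centralizer ({T0 ω} : Set (J3 F ω)) := by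
  rintro _ ⟨p, hp, rfl⟩
  obtain ⟨x, hx, rfl⟩ := (Phat_table ω h2 hω h4).2 p hp
  rw [Subgroup.mem_centralizer_singleton_iff, T0, ← map_mul, ← map_mul, sF_comm ω h2 hω x hx]

theorem Q0_le_S0 : Q0 ω h2 hω ≤ S0 ω := by
  rintro _ ⟨i, rfl⟩
  obtain ⟨x, hx, e⟩ := qF_in_s ω h2 hω i
  exact ⟨_, (Phat_table ω h2 hω h4).1 x hx, congrArg (pi ω) e.symm⟩

theorem T0_mem_S0 : T0 ω ∈ S0 ω := by
  refine Q0_le_S0 ω h2 hω h4 ⟨qz, ?_⟩
  show pi ω (qF ω qz) = _
  rw [qF_z ω h2 hω]; rfl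

theorem S0_centre {z : J3 F ω} (hz : z ∈ S0 ω) (hc : ∀ s ∈ S0 ω, s * z = z * s) :
    z = 1 ∨ z = T0 ω := by
  obtain ⟨p, hp, rfl⟩ := hz
  obtain ⟨x, hx, rfl⟩ := (Phat_table ω h2 hω h4).2 p hp
  have hs := allFrom_spec _ _ _ syl_centre x (Nat.zero_le _) (by omega)
  simp only [sylCentreOK, force_eq, Bool.or_eq_true, Nat.beq_eq, List.any_eq_true, Bool.and_eq_true,
    Nat.blt_eq, Bool.not_eq_true'] at hs
  rcases hs with (hs | hs) | ⟨g, hg, ⟨hne, b1⟩, b2⟩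
  · left
    subst hs
    rw [sF, cls_head.2.2.2.2.2.2.2.2.2.2.2, lift_one ω h2 hω, map_one]
  · right
    rw [T0, tF, cF, sF, hs, cls_head.2.2.2.2.2.2.2.2.1]
  · exfalso
    obtain ⟨n, hn, rfl⟩ := List.getElem_of_mem hg
    have hn5 : n < 5 := lengths.1 ▸ hn
    have hgen : lift ω (twoGens.getD n 0) ∈ Phat ω := Subgroup.subset_closure ⟨n, hn5, rfl⟩
    have hM := twoGens_M0 ω h2 hω n hn5
    rw [List.getD_eq_getElem _ _ hn] at hgen hM
    have e := hc _ (Subgroup.mem_map_of_mem _ hgen)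
    rw [← map_mul, ← map_mul] at e
    have e' := pi_inj_Phat ω h2 hω h4 ((Phat ω).mul_mem hgen hp) ((Phat ω).mul_mem hp hgen) e
    rw [sF, lift_mul ω h2 hω hM (sv_M0 ω h2 hω x hx) rfl,
      lift_mul ω h2 hω (sv_M0 ω h2 hω x hx) hM rfl] at e'
    have := lift_inj ω h2 hω (by rw [ev_mulN ω h2 hω]; exact (M0 ω).mul_mem hM (sv_M0 ω h2 hω x hx))
      (by rw [ev_mulN ω h2 hω]; exact (M0 ω).mul_mem (sv_M0 ω h2 hω x hx) hM) b1 b2 e'
    rw [this] at hne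
    simp [Nat.beq_refl] at hne

theorem S0_involution {s : J3 F ω} (hs : s ∈ S0 ω) (h1 : s ≠ 1) (hsq : s * s = 1) :
    ∃ g, g * T0 ω * g⁻¹ = s := by
  obtain ⟨p, hp, rfl⟩ := hs
  obtain ⟨x, hx, rfl⟩ := (Phat_table ω h2 hω h4).2 p hp
  have hsq' : sF ω x * sF ω x = 1 :=
    pi_inj_Phat ω h2 hω h4 ((Phat ω).mul_mem hp hp) (Phat ω).one_mem (by rw [map_mul, hsq, map_one])
  have hc := allFrom_spec _ _ _ syl_inv x (Nat.zero_le _) (by omega)
  simp only [sylInvOK, force_eq, Bool.or_eq_true, Bool.and_eq_true, Nat.blt_eq, Nat.beq_eq,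
    Bool.not_eq_true'] at hc
  rcases hc with hc | ⟨hw, he⟩ | ⟨⟨hy, he⟩, hne⟩
  · subst hc
    exact absurd (by rw [sF, cls_head.2.2.2.2.2.2.2.2.2.2.2, lift_one ω h2 hω, map_one]) h1
  · obtain ⟨g, hg⟩ := cF_conj ω h2 hω _ hw
    refine ⟨pi ω g, ?_⟩
    rw [sF, ← he, T0, ← map_inv, ← map_mul, ← map_mul, hg]; rfl
  · exfalso
    rw [sF, lift_mul ω h2 hω (sv_M0 ω h2 hω x hx) (sv_M0 ω h2 hω x hx) he, ← lift_one ω h2 hω] at hsq'
    have := lift_inj ω h2 hω (sv_M0 ω h2 hω _ hy) (one_M0 ω h2 hω) (entry_bound _ _)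
      nontrivial.2.2.2.2.2.2.2.2.2.1 hsq'
    rw [this] at hne
    simp [Nat.beq_refl] at hne

theorem S0_gen : S0 ω ≤ Subgroup.closure {s | s ∈ S0 ω ∧ s * s = 1} := by
  set K := Subgroup.closure {s | s ∈ S0 ω ∧ s * s = 1}
  show (Subgroup.closure _).map (pi ω) ≤ K
  rw [Subgroup.map_le_iff_le_comap, Subgroup.closure_le]
  rintro _ ⟨g, hg, rfl⟩
  show pi ω (lift ω (twoGens.getD g 0)) ∈ K
  have hs := allFrom_spec _ _ _ syl_gen_words g (Nat.zero_le _) (by omega)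
  simp only [Bool.and_eq_true, Nat.beq_eq, List.all_eq_true, Nat.blt_eq] at hs
  obtain ⟨he, hall⟩ := hs
  have main : ∀ (l : List ℕ) (m : ℕ), ev ω m ∈ M0 ω → pi ω (lift ω m) ∈ K →
      (∀ x ∈ l, x < 128 ∧ mulN (sv x) (sv x) = J3Data90.one) →
      pi ω (lift ω (l.foldl (fun m x => mulN m (sv x)) m)) ∈ K := by
    intro l
    induction l with
    | nil => exact fun m _ h _ => h
    | cons x l ih =>
      intro m hm hK hl
      obtain ⟨hx, hxx⟩ := hl x (List.mem_cons_self ..)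
      have hxM := sv_M0 ω h2 hω x hx
      refine ih _ (by rw [ev_mulN ω h2 hω]; exact (M0 ω).mul_mem hm hxM) ?_
        (fun y hy => hl y (List.mem_cons_of_mem _ hy))
      rw [← lift_mul ω h2 hω hm hxM rfl, map_mul]
      refine K.mul_mem hK (Subgroup.subset_closure ⟨?_, ?_⟩)
      · exact Subgroup.mem_map_of_mem _ ((Phat_table ω h2 hω h4).1 x hx)
      · rw [← map_mul, lift_mul ω h2 hω hxM hxM hxx, lift_one ω h2 hω, map_one]
  rw [← he]
  exact main _ _ (one_M0 ω h2 hω) (by rw [lift_one ω h2 hω, map_one]; exact K.one_mem) hall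

theorem Q0_two (x : J3 F ω) (hx : x ∈ Q0 ω h2 hω) : ∃ k : ℕ, orderOf x = 2 ^ k := by
  have hd : orderOf x ∣ 2 ^ 5 := by
    have h := Subgroup.orderOf_dvd_natCard _ hx
    rw [card_Q0 ω h2 hω h4] at h
    simpa using h
  obtain ⟨k, -, e⟩ := (Nat.dvd_prime_pow Nat.prime_two).1 hd
  exact ⟨k, e⟩

/-- The centraliser is generated by its elements of 2-power order. -/
theorem C_gen : Subgroup.centralizer ({T0 ω} : Set (J3 F ω)) ≤
    Subgroup.closure {a | a ∈ Subgroup.centralizer ({T0 ω} : Set (J3 F ω)) ∧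
      ∃ k : ℕ, orderOf a = 2 ^ k} := by
  intro c hc
  obtain ⟨i, j, rfl⟩ := (centralizer_spec ω h2 hω h4).2 c hc
  set A := {a | a ∈ Subgroup.centralizer ({T0 ω} : Set (J3 F ω)) ∧ ∃ k : ℕ, orderOf a = 2 ^ k}
  have hinv : ∀ a, hM a a = 0 → pi ω (hF ω a) ∈ Subgroup.closure A := by
    intro a ha
    refine Subgroup.subset_closure ⟨h_mem_C ω h2 hω h4 a, ?_⟩
    have hsq : pi ω (hF ω a) ^ 2 = 1 := by
      rw [pow_two, ← map_mul, hF_mul ω h2 hω, ha, hF_zero ω h2 hω, map_one]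
    by_cases h1 : pi ω (hF ω a) = 1
    · exact ⟨0, by rw [h1, orderOf_one]; norm_num⟩
    · exact ⟨1, by rw [orderOf_eq_prime hsq h1]; norm_num⟩
  obtain ⟨a, b, ha, hb, hab⟩ := h_gen j
  refine Subgroup.mul_mem _ (Subgroup.subset_closure ⟨q_mem_C ω h2 hω h4 i,
    Q0_two ω h2 hω h4 _ ⟨i, rfl⟩⟩) ?_
  rw [← hab, ← hF_mul ω h2 hω, map_mul]
  exact Subgroup.mul_mem _ (hinv a ha) (hinv b hb)

end

end Cfsg.Agent.J3InvCore90
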