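import Cfsg.Agent.Lib.J3Orbit90

/-! The two orbit statements for lines. -/

set_option autoImplicit false
set_option maxRecDepth 100000

namespace Cfsg.Agent.J3Lines90

open CosetCertCore J3Mat90 J3Data90 J3Check90 J3Level90 J3Gens90 J3Chain90 J3Order90
open J3Unitary90 J3OrbData90 J3IsoData90 J3Vec90 J3Orbit90
open Cfsg.Spor
open scoped Matrix

theorem norm_bits {c : ℕ} (h : normOK c = true) : ∃ k < 9, c.testBit k = true ∧
    c.testBit (9 + k) = false ∧ ∀ i < k, c.testBit i = false ∧ c.testBit (9 + i) = false := by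
  have key : ∀ n, (Nat.rec (motive := fun _ => Bool) false
      (fun k ih => ih || Nat.beq (Nat.land c
        ((2 ^ (k + 1) - 1) + 512 * (2 ^ (k + 1) - 1))) (2 ^ k)) n) = true →
      ∃ k < n, Nat.land c ((2 ^ (k + 1) - 1) + 512 * (2 ^ (k + 1) - 1)) = 2 ^ k := by
    intro n
    induction n with
    | zero => intro h; exact absurd h (by simp)
    | succ n ih =>
      intro h
      simp only [Bool.or_eq_true, Nat.beq_eq] at h
      rcases h with h | h
      · obtain ⟨k, hk, e⟩ := ih h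
        exact ⟨k, by omega, e⟩
      · exact ⟨n, by omega, h⟩
  obtain ⟨k, hk, e⟩ := key 9 h
  refine ⟨k, hk, ?_⟩
  have hpow : 2 ^ (k + 1) ≤ 2 ^ 9 := Nat.pow_le_pow_right (by norm_num) (by omega)
  have hpos : 0 < 2 ^ (k + 1) := pow_pos (by norm_num) _
  have bit : ∀ p, (c.testBit p &&
      if p < 9 then decide (p < k + 1) else decide (p - 9 < k + 1)) = decide (k = p) := by
    intro p
    have := congrArg (fun x : ℕ => x.testBit p) e
    change (c &&& ((2 ^ (k + 1) - 1) + 2 ^ 9 * (2 ^ (k + 1) - 1))).testBit p = (2 ^ k).testBit p at this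
    rw [Nat.testBit_and, add_comm, Nat.testBit_two_pow_mul_add _ (by omega : 2 ^ (k + 1) - 1 < 2 ^ 9),
      Nat.testBit_two_pow] at this
    rw [← this]
    split <;> rw [Nat.testBit_two_pow_sub_one]
  refine ⟨?_, ?_, fun i hi => ⟨?_, ?_⟩⟩
  · have := bit k; simpa [hk] using this
  · have := bit (9 + k); simpa [show ¬ 9 + k < 9 by omega, show k ≠ 9 + k by omega] using this
  · have := bit i
    simpa [show i < 9 by omega, show i < k + 1 by omega, show k ≠ i by omega] using this
  · have := bit (9 + i)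
    simpa [show ¬ 9 + i < 9 by omega, show i < k + 1 by omega, show k ≠ 9 + i by omega] using this

section
variable {F : Type*} [Field F] [Finite F] (ω : F) (h2 : (2 : F) = 0) (hω : ω ^ 2 + ω + 1 = 0)

theorem mulVec_inv_cancel {G : Subgroup (GL F9 F)} (g : G) (v : F9 → F) :
    (((g : GL F9 F)⁻¹ : GL F9 F) : Matrix F9 F9 F) *ᵥ (((g : GL F9 F) : Matrix F9 F9 F) *ᵥ v) = v := by
  rw [Matrix.mulVec_mulVec, Units.inv_mul, Matrix.one_mulVec]

include h2 hω

theorem surj_e2 (h4 : Nat.card F = 4) (x : F) : ∃ p q : Bool, e2 ω p q = x := by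
  have hb : Function.Bijective (fun t : Bool × Bool => e2 ω t.1 t.2) := by
    rw [Nat.bijective_iff_injective_and_card]
    refine ⟨fun s t h => Prod.ext (e2_inj ω h2 hω h).1 (e2_inj ω h2 hω h).2, ?_⟩
    rw [h4]; simp
  obtain ⟨⟨p, q⟩, h⟩ := hb.2 x
  exact ⟨p, q, h⟩

/-- Normalised codes are determined by their lines. -/
theorem norm_inj {c d : ℕ} (hc : c < 2 ^ 18) (hd : d < 2 ^ 18) (nc : normOK c = true)
    (nd : normOK d = true) {t : F} (ht : t ≠ 0) (h : vv ω c = t • vv ω d) : c = d := by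
  obtain ⟨k, hk, k1, k2, k3⟩ := norm_bits nc
  obtain ⟨l, hl, l1, l2, l3⟩ := norm_bits nd
  have hh : ∀ i : Fin 9, e2 ω (c.testBit i) (c.testBit (9 + i)) =
      t * e2 ω (d.testBit i) (d.testBit (9 + i)) := fun i => by
    have := congrFun h (ix.symm i)
    simpa [vv] using this
  have zero : ∀ i : ℕ, (∀ n : ℕ, n = i → n < 9 → c.testBit n = false ∧ c.testBit (9 + n) = false) →
      i < 9 → e2 ω (c.testBit i) (c.testBit (9 + i)) = (0 : F) := fun i hz hi => by
    rw [(hz i rfl hi).1, (hz i rfl hi).2]; simp [e2]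
  rcases lt_trichotomy k l with hkl | hkl | hkl
  · have := hh ⟨k, hk⟩
    simp only at this
    rw [k1, k2, (l3 k hkl).1, (l3 k hkl).2] at this
    simp [e2] at this
  · subst hkl
    have h1 := hh ⟨k, hk⟩
    simp only at h1
    rw [k1, k2, l1, l2] at h1
    simp [e2] at h1
    subst h1
    have key : ∀ i : Fin 9, c.testBit i = d.testBit i ∧ c.testBit (9 + i) = d.testBit (9 + i) :=
      fun i => e2_inj ω h2 hω (by rw [hh i, one_mul])
    apply Nat.eq_of_testBit_eq
    intro p
    by_cases hp : p < 9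
    · exact (key ⟨p, hp⟩).1
    by_cases hp' : p < 18
    · have := (key ⟨p - 9, by omega⟩).2
      simpa [Nat.add_sub_cancel' (show 9 ≤ p by omega)] using this
    · have hpow : 2 ^ 18 ≤ 2 ^ p := Nat.pow_le_pow_right (by norm_num) (not_lt.mp hp')
      rw [Nat.testBit_lt_two_pow (lt_of_lt_of_le hc hpow),
        Nat.testBit_lt_two_pow (lt_of_lt_of_le hd hpow)]
  · have := hh ⟨l, hl⟩
    simp only at this
    rw [l1, l2, (k3 l hkl).1, (k3 l hkl).2] at this
    simp [e2] at this
    exact absurd this.symm ht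

/-- Every table point of the first orbit is reached from the first basis vector. -/
theorem reach1 : ∀ x < 23256, ∃ m ∈ M0 ω, ∃ t : F, t ≠ 0 ∧
    vv ω (entry pts1 18 x) = t • (m *ᵥ vv ω (entry pts1 18 0)) := by
  intro x
  induction x using Nat.strong_induction_on with
  | _ x ih =>
    intro hx
    by_cases hx0 : x = 0
    · subst hx0
      exact ⟨1, Submonoid.one_mem _, 1, one_ne_zero, by rw [one_smul, Matrix.one_mulVec]⟩
    have hs := allFrom_spec _ _ _ J3Vec90.tree1_ok x (Nat.zero_le _) (by omega)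
    simp only [tree1OK, force_eq, Bool.or_eq_true, Bool.and_eq_true, Nat.blt_eq, Nat.beq_eq] at hs
    obtain hs | ⟨⟨hn, hp⟩, he⟩ := hs
    · exact absurd hs hx0
    have he' := allFrom_spec _ _ _ edges_ok (entry opar1 16 x) (Nat.zero_le _) (by omega)
    simp only [edgeOK, force_eq, Bool.and_eq_true, Nat.beq_eq, he] at he'
    obtain ⟨-, he'⟩ := he'
    obtain ⟨m, hm, t, ht, e⟩ := ih _ hp (hp.trans hx)
    obtain ⟨g, hg, eg⟩ := app_spec ω h2 hω (Nat.land (entry opar1 16 x) 1)
      (entry_lt pts1 (Nat.shiftRight (entry opar1 16 x) 1))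
    obtain ⟨s, hs0, es⟩ := vv_pick ω h2 hω (entry_lt pts1 x)
      (Nat.shiftRight (entry oedge1 18 (entry opar1 16 x)) 16)
    rw [← he', eg, e, Matrix.mulVec_smul, Matrix.mulVec_mulVec] at es
    refine ⟨g * m, (M0 ω).mul_mem hg hm, s⁻¹ * t, mul_ne_zero (inv_ne_zero hs0) ht, ?_⟩
    rw [mul_smul, es, smul_smul, inv_mul_cancel₀ hs0, one_smul]

/-- The first table is closed under the monoid. -/
theorem closed1 {m : Matrix F9 F9 F} (hm : m ∈ M0 ω) : ∀ x < 23256, ∃ y < 23256, ∃ t : F, t ≠ 0 ∧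
    m *ᵥ vv ω (entry pts1 18 x) = t • vv ω (entry pts1 18 y) := by
  induction hm using Submonoid.closure_induction with
  | mem g hg =>
    intro x hx
    obtain ⟨j, hj, ej⟩ := app_gen ω h2 hω hg
    have hs := allFrom_spec _ _ _ edges_ok (2 * x + j) (Nat.zero_le _) (by omega)
    simp only [edgeOK, force_eq, Bool.and_eq_true, Nat.blt_eq, Nat.beq_eq] at hs
    obtain ⟨hy, he⟩ := hs
    have e1 : Nat.land (2 * x + j) 1 = j := by
      show (2 * x + j) &&& 1 = j
      rw [Nat.and_one_is_mod]; omega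
    have e0 : Nat.shiftRight (2 * x + j) 1 = x := by
      show (2 * x + j) >>> 1 = x
      rw [Nat.shiftRight_eq_div_pow]; omega
    rw [e1, e0] at he
    obtain ⟨s, hs0, es⟩ := vv_pick ω h2 hω (entry_lt pts1 (Nat.land (entry oedge1 18 (2 * x + j)) 65535))
      (Nat.shiftRight (entry oedge1 18 (2 * x + j)) 16)
    exact ⟨_, hy, s, hs0, by rw [← ej _ (entry_lt _ _), he, es]⟩
  | one => exact fun x hx => ⟨x, hx, 1, one_ne_zero, by rw [one_smul, Matrix.one_mulVec]⟩
  | mul a b _ _ iha ihb =>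
    intro x hx
    obtain ⟨y, hy, t, ht, e⟩ := ihb x hx
    obtain ⟨z, hz, t', ht', e'⟩ := iha y hy
    exact ⟨z, hz, t * t', mul_ne_zero ht ht', by
      rw [← Matrix.mulVec_mulVec, e, Matrix.mulVec_smul, e', smul_smul]⟩

omit [Finite F] h2 hω in
theorem root_single :
    vv ω (entry pts1 18 0) = (Pi.single (0 : F9) (1 : F) : F9 → F) := by
  rw [J3Vec90.roots]
  have key : ∀ z : F9, Nat.testBit 1 (ix z) = decide (z = 0) ∧ Nat.testBit 1 (9 + ix z) = false := by
    decide +kernel
  funext z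
  simp only [vv, (key z).1, (key z).2, Pi.single_apply]
  by_cases hz : z = 0 <;> simp [hz, e2]

theorem orbit_card :
    {L : Submodule F (F9 → F) | ∃ g ∈ threeJ3 F ω, L = F ∙ ((g : Matrix F9 F9 F) *ᵥ
      (Pi.single (0 : F9) (1 : F) : F9 → F))}.ncard = 23256 := by
  let f : Fin 23256 → Submodule F (F9 → F) := fun x => F ∙ vv ω (entry pts1 18 x)
  have hset : {L : Submodule F (F9 → F) | ∃ g ∈ threeJ3 F ω, L = F ∙ ((g : Matrix F9 F9 F) *ᵥ
      (Pi.single (0 : F9) (1 : F) : F9 → F))} = Set.range f := by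
    ext L
    constructor
    · rintro ⟨g, hg, rfl⟩
      obtain ⟨y, hy, t, ht, e⟩ := closed1 ω h2 hω ((mem_iff ω h2 hω g).1 hg) 0 (by norm_num)
      refine ⟨⟨y, hy⟩, ?_⟩
      rw [← root_single ω, e]
      exact (Submodule.span_singleton_smul_eq (IsUnit.mk0 t ht) _).symm
    · rintro ⟨x, rfl⟩
      obtain ⟨m, hm, t, ht, e⟩ := reach1 ω h2 hω x x.2
      obtain ⟨u, hu⟩ := unit_of_M0 ω h2 hω hm
      refine ⟨u, (mem_iff ω h2 hω u).2 (by rw [hu]; exact hm), ?_⟩
      show F ∙ vv ω (entry pts1 18 x) = _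
      rw [e, hu, root_single ω]
      exact Submodule.span_singleton_smul_eq (IsUnit.mk0 t ht) _
  have hsort : ∀ x < 23256, entry osort1 16 x < 23256 ∧
      normOK (entry pts1 18 (entry osort1 16 x)) = true ∧
      (x + 1 < 23256 → entry pts1 18 (entry osort1 16 x) < entry pts1 18 (entry osort1 16 (x + 1))) := by
    intro x hx
    have hs := allFrom_spec _ _ _ sorted_ok x (Nat.zero_le _) (by omega)
    simp only [sortedOK, force_eq, Bool.or_eq_true, Bool.and_eq_true, Nat.blt_eq] at hs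
    exact ⟨hs.1.1, hs.1.2, fun h => hs.2.resolve_left (by omega)⟩
  let σ : Fin 23256 → Fin 23256 := fun x => ⟨entry osort1 16 x, (hsort x x.2).1⟩
  have hmono : StrictMono fun x : Fin (23255 + 1) => entry pts1 18 (σ x) :=
    Fin.strictMono_iff_lt_succ.2 fun i =>
      (hsort i (Nat.lt_succ_of_lt i.2)).2.2 (Nat.succ_lt_succ i.2)
  have hσ : Function.Bijective σ := Finite.injective_iff_bijective.1 fun a b e =>
    hmono.injective (congrArg (fun t : Fin 23256 => entry pts1 18 t) e)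
  have hf : Function.Injective f := by
    intro a b e
    obtain ⟨a', rfl⟩ := hσ.2 a
    obtain ⟨b', rfl⟩ := hσ.2 b
    obtain ⟨z, hz⟩ := Submodule.span_singleton_eq_span_singleton.1 e.symm
    have hd := norm_inj ω h2 hω (entry_lt _ _) (entry_lt _ _) (hsort a' a'.2).2.1 (hsort b' b'.2).2.1
      z.ne_zero hz.symm
    exact congrArg σ (hmono.injective hd)
  rw [hset, ← Nat.card_coe_set_eq, Nat.card_range_of_injective hf, Nat.card_fin]

/-- Every table point of the isotropic orbit is reached from the root. -/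
theorem reach2 : ∀ x < 43605, ∃ m ∈ M0 ω, ∃ t : F, t ≠ 0 ∧
    vv ω (entry pts2 18 x) = t • (m *ᵥ vv ω (entry pts2 18 0)) := by
  intro x
  induction x using Nat.strong_induction_on with
  | _ x ih =>
    intro hx
    by_cases hx0 : x = 0
    · subst hx0
      exact ⟨1, Submonoid.one_mem _, 1, one_ne_zero, by rw [one_smul, Matrix.one_mulVec]⟩
    have hs := allFrom_spec _ _ _ J3Vec90.tree2_ok x (Nat.zero_le _) (by omega)
    simp only [tree2OK, force_eq, Bool.or_eq_true, Bool.and_eq_true, Nat.blt_eq, Nat.beq_eq] at hs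
    obtain hs | ⟨hp, he'⟩ := hs
    · exact absurd hs hx0
    obtain ⟨m, hm, t, ht, e⟩ := ih _ hp (hp.trans hx)
    obtain ⟨g, hg, eg⟩ := app_spec ω h2 hω (Nat.land (Nat.land (entry opar2 20 x) 131071) 1)
      (entry_lt pts2 (Nat.shiftRight (Nat.land (entry opar2 20 x) 131071) 1))
    obtain ⟨s, hs0, es⟩ := vv_pick ω h2 hω (entry_lt pts2 x)
      (Nat.shiftRight (entry opar2 20 x) 17)
    rw [← he', eg, e, Matrix.mulVec_smul, Matrix.mulVec_mulVec] at es
    refine ⟨g * m, (M0 ω).mul_mem hg hm, s⁻¹ * t, mul_ne_zero (inv_ne_zero hs0) ht, ?_⟩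
    rw [mul_smul, es, smul_smul, inv_mul_cancel₀ hs0, one_smul]

/-- Every isotropic line meets the table. -/
theorem complete (h4 : Nat.card F = 4) {v : F9 → F} (hv : v ≠ 0) (hiso : ∑ z, v z ^ 3 = 0) :
    ∃ x < 43605, ∃ t : F, t ≠ 0 ∧ v = t • vv ω (entry pts2 18 x) := by
  classical
  have hex : ∃ k, ∃ h : k < 9, v (ix.symm ⟨k, h⟩) ≠ 0 := by
    obtain ⟨z, hz⟩ := Function.ne_iff.1 hv
    exact ⟨ix z, (ix z).2, by simpa using hz⟩
  let k := Nat.find hex
  obtain ⟨hk, hk0⟩ := Nat.find_spec hex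
  have hmin : ∀ i (h : i < 9), i < k → v (ix.symm ⟨i, h⟩) = 0 := fun i h hi => by
    by_contra hne
    exact Nat.find_min hex hi ⟨h, hne⟩
  set c0 := v (ix.symm ⟨k, hk⟩)
  set u : F9 → F := c0⁻¹ • v with hu
  choose p q hpq using fun i : Fin 9 => surj_e2 ω h2 hω h4 (u (ix.symm i))
  obtain ⟨L, hL, bL⟩ := exists_testBit p
  obtain ⟨H, hH, bH⟩ := exists_testBit q
  have hval : ∀ i : Fin 9, e2 ω (Nat.testBit L i) (Nat.testBit H i) = u (ix.symm i) := fun i => by
    rw [bL, bH, hpq]
  have e2z : ∀ a b : Bool, e2 ω a b = (0 : F) ↔ (a || b) = false := fun a b => by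
    constructor
    · intro h
      have h0 : e2 ω a b = e2 ω false false := by rw [h]; simp [e2]
      obtain ⟨rfl, rfl⟩ := e2_inj ω h2 hω h0
      rfl
    · intro h
      rw [Bool.or_eq_false_iff] at h
      simp [e2, h.1, h.2]
  have huk : u (ix.symm ⟨k, hk⟩) = 1 := by
    rw [hu, Pi.smul_apply, smul_eq_mul]; exact inv_mul_cancel₀ hk0
  have hbk : Nat.testBit L k = true ∧ Nat.testBit H k = false := by
    have := hval ⟨k, hk⟩
    rw [huk] at this
    exact e2_inj ω h2 hω (p' := true) (q' := false) (this.trans (by simp [e2]))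
  have hlow : ∀ i < k, Nat.testBit L i = false ∧ Nat.testBit H i = false := fun i hi => by
    have h9 : i < 9 := by omega
    have := hval ⟨i, h9⟩
    rw [hu, Pi.smul_apply, hmin i h9 hi, smul_zero] at this
    exact Bool.or_eq_false_iff.1 ((e2z _ _).1 this)
  have hLmod : L % 2 ^ (k + 1) = 2 ^ k := by
    apply Nat.eq_of_testBit_eq
    intro i
    rw [Nat.testBit_mod_two_pow, Nat.testBit_two_pow]
    rcases lt_trichotomy i k with h | h | h
    · simp [show i < k + 1 by omega, (hlow i h).1, show k ≠ i by omega]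
    · subst h; simp [hbk.1]
    · simp [show ¬ i < k + 1 by omega, show k ≠ i by omega]
  have hHmod : H % 2 ^ (k + 1) = 0 := by
    apply Nat.eq_of_testBit_eq
    intro i
    rw [Nat.testBit_mod_two_pow, Nat.zero_testBit]
    rcases lt_trichotomy i k with h | h | h
    · simp [(hlow i h).2]
    · subst h; simp [hbk.2]
    · simp [show ¬ i < k + 1 by omega]
  have hpow : (2 : ℕ) ^ (k + 1) * 2 ^ (8 - k) = 512 := by
    rw [← pow_add, show k + 1 + (8 - k) = 9 by omega]; norm_num
  set a := L / 2 ^ (k + 1)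
  set b := H / 2 ^ (k + 1)
  have ha : a < 2 ^ (8 - k) := (Nat.div_lt_iff_lt_mul (by positivity)).2 (by rw [mul_comm, hpow]; exact hL)
  have hb : b < 2 ^ (8 - k) := (Nat.div_lt_iff_lt_mul (by positivity)).2 (by rw [mul_comm, hpow]; exact hH)
  set n := a + 2 ^ (8 - k) * b
  have hn : n < 2 ^ (8 - k) * 2 ^ (8 - k) := by
    have := Nat.mul_le_mul_left (2 ^ (8 - k)) (Nat.succ_le_of_lt hb)
    rw [Nat.mul_succ] at this
    omega
  have hcode : normCode k n = L + 2 ^ 9 * H := by
    have eL := Nat.mod_add_div L (2 ^ (k + 1))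
    have eH := Nat.mod_add_div H (2 ^ (k + 1))
    rw [hLmod] at eL
    rw [hHmod, zero_add] at eH
    unfold normCode
    rw [show n % 2 ^ (8 - k) = a by
        show (a + 2 ^ (8 - k) * b) % _ = a
        rw [Nat.add_mul_mod_self_left, Nat.mod_eq_of_lt ha],
      show n / 2 ^ (8 - k) = b by
        show (a + 2 ^ (8 - k) * b) / _ = b
        rw [Nat.add_mul_div_left _ _ (by positivity), Nat.div_eq_of_lt ha, zero_add], eL, eH]
    norm_num
  have hchk : completeOK k n = true := by
    have main : ∀ j N, allFrom (completeOK j) N 0 = true → n < N → completeOK j n = true :=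
      fun j N h hlt => allFrom_spec _ _ _ h n (Nat.zero_le _) (by omega)
    have hk9 : k < 9 := hk
    revert hn
    generalize hk' : k = j at hk9 ⊢
    intro hn
    match j, hk9 with
    | 0, _ => exact main 0 _ complete0 (by simpa using hn)
    | 1, _ => exact main 1 _ complete1 (by simpa using hn)
    | 2, _ => exact main 2 _ complete2 (by simpa using hn)
    | 3, _ => exact main 3 _ complete3 (by simpa using hn)
    | 4, _ => exact main 4 _ complete4 (by simpa using hn)
    | 5, _ => exact main 5 _ complete5 (by simpa using hn)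
    | 6, _ => exact main 6 _ complete6 (by simpa using hn)
    | 7, _ => exact main 7 _ complete7 (by simpa using hn)
    | 8, _ => exact main 8 _ complete8 (by simpa using hn)
    | j + 9, h => exact absurd h (by omega)
  simp only [completeOK, force_eq, hcode, Bool.or_eq_true, Bool.not_eq_true', Bool.and_eq_true,
    Nat.blt_eq, Nat.beq_eq] at hchk
  have hlo : Nat.land (L + 2 ^ 9 * H) 511 = L := by
    show (L + 2 ^ 9 * H) &&& (2 ^ 9 - 1) = L
    rw [Nat.and_two_pow_sub_one_eq_mod, Nat.add_mul_mod_self_left]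
    exact Nat.mod_eq_of_lt hL
  have hhi : Nat.shiftRight (L + 2 ^ 9 * H) 9 = H := by
    show (L + 2 ^ 9 * H) >>> 9 = H
    rw [Nat.shiftRight_eq_div_pow, Nat.add_mul_div_left _ _ (by norm_num), Nat.div_eq_of_lt (show L < 2 ^ 9 from hL), zero_add]
  rw [hlo, hhi] at hchk
  have hs : Nat.lor L H < 512 := Nat.or_lt_two_pow (n := 9) hL hH
  have hsupp : ∀ i : Fin 9, (Nat.lor L H).testBit i = true ↔ u (ix.symm i) ≠ 0 := fun i => by
    show (L ||| H).testBit i = true ↔ _
    rw [Nat.testBit_or, ← hval i, Ne, e2z, Bool.not_eq_false]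
  have hc0 : c0⁻¹ ≠ 0 := inv_ne_zero hk0
  have hu3 : ∑ i : Fin 9, u (ix.symm i) ^ 3 = 0 := by
    rw [ix.symm.sum_comp (fun z => u z ^ 3)]
    simp only [hu, Pi.smul_apply, smul_eq_mul, mul_pow, ← Finset.mul_sum, hiso, mul_zero]
  haveI : Fintype F := Fintype.ofFinite F
  have cube : ∀ x : F, x ≠ 0 → x ^ 3 = 1 := fun x hx => by
    have := FiniteField.pow_card_sub_one_eq_one x hx
    rwa [← Nat.card_eq_fintype_card, h4] at this
  have hcast : ((Finset.univ.filter fun i : Fin 9 => (Nat.lor L H).testBit i).card : F) = 0 := by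
    rw [← hu3, Finset.natCast_card_filter]
    refine Finset.sum_congr rfl fun i _ => ?_
    by_cases h : u (ix.symm i) = 0
    · rw [if_neg (by rw [hsupp i]; simpa using h), h, zero_pow (by norm_num)]
    · rw [if_pos ((hsupp i).2 h), cube _ h]
  haveI : CharP F 2 := (CharP.charP_iff_prime_eq_zero Nat.prime_two).2 (by exact_mod_cast h2)
  have heven : Nat.testBit evenBits (Nat.lor L H) = true := by
    have h := evenBits_ok ⟨Nat.lor L H, hs⟩
    simp only at h
    rw [h]
    exact decide_eq_true (Nat.mod_eq_zero_of_dvd ((CharP.cast_eq_zero_iff F 2 _).1 hcast))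
  obtain hchk | ⟨hx, he⟩ := hchk
  · rw [heven] at hchk; exact absurd hchk (by simp)
  refine ⟨_, hx, c0, hk0, ?_⟩
  rw [he]
  funext z
  have hz := (ix z).2
  have e : vv ω (L + 2 ^ 9 * H) z = u z := by
    have := hval (ix z)
    rw [Equiv.symm_apply_apply] at this
    rw [← this]
    simp only [vv]
    rw [add_comm L, Nat.testBit_two_pow_mul_add _ hL, if_pos hz,
      Nat.testBit_two_pow_mul_add _ hL, if_neg (by omega), Nat.add_sub_cancel_left]
  rw [Pi.smul_apply, e, hu, Pi.smul_apply, smul_smul, mul_inv_cancel₀ hk0, one_smul]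

theorem transitive (h4 : Nat.card F = 4) (v w : F9 → F) (hv : v ≠ 0) (hw : w ≠ 0)
    (hv3 : ∑ z, v z ^ 3 = 0) (hw3 : ∑ z, w z ^ 3 = 0) :
    ∃ g ∈ threeJ3 F ω, ∃ c : F, c ≠ 0 ∧ (g : Matrix F9 F9 F) *ᵥ v = c • w := by
  obtain ⟨x, hx, s, hs, ev'⟩ := complete ω h2 hω h4 hv hv3
  obtain ⟨y, hy, t, ht, ew⟩ := complete ω h2 hω h4 hw hw3
  obtain ⟨m, hm, a, ha, ea⟩ := reach2 ω h2 hω x hx
  obtain ⟨n, hn, b, hb, eb⟩ := reach2 ω h2 hω y hy
  obtain ⟨gm, hgm⟩ := exists_lift ω h2 hω hm
  obtain ⟨gn, hgn⟩ := exists_lift ω h2 hω hn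
  refine ⟨((gn * gm⁻¹ : threeJ3 F ω) : GL F9 F), (gn * gm⁻¹).2, (s * a) * (t * b)⁻¹,
    mul_ne_zero (mul_ne_zero hs ha) (inv_ne_zero (mul_ne_zero ht hb)), ?_⟩
  rw [ev', ea, ew, eb, Matrix.mulVec_smul, Matrix.mulVec_smul, Subgroup.coe_mul, Units.val_mul,
    Subgroup.coe_inv, ← Matrix.mulVec_mulVec, ← hgm, mulVec_inv_cancel, hgn]
  simp only [smul_smul]
  congr 1
  field_simp

end

end Cfsg.Agent.J3Lines90
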