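import Cfsg.Agent.Lib.J3Local2Gens
import Cfsg.Agent.Lib.J3Rels93
import Cfsg.Agent.Lib.LargeExtraspecialPair

/-!
# Groups of J₃ type: the element of order three outside `C(z)`

An element permuting `z, z * a 0, a 0` cyclically can be chosen to centralise `x`; after correcting
it by a power of `x` it permutes `u, v, u * v` like `x` and centralises `a 1 * ⟨u, v⟩ * a 1`.
-/

set_option autoImplicit false
set_option synthInstance.maxSize 100000
set_option synthInstance.maxHeartbeats 1000000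

namespace Cfsg.Agent.J3Local2

open Subgroup Cfsg.Agent.LargeExtraspecial Cfsg.Agent.J3TypePoints93 Cfsg.Agent.J3TypeAction93
open Cfsg.Agent.J3TypeFour93 Cfsg.Agent.J3TypeClasses93 Cfsg.Agent.J3Setup93
open Cfsg.Agent.LargeExtraspecialPair

variable {G : Type*} [Group G] [Finite G] {Q : Subgroup G} {z : G} {a : Fin 5 → G}
variable {x u v h : G}

omit [Finite G] in
theorem exact_move {g : G} {σ : Equiv.Perm (Fin 5)} (hg : Exact z a g σ) (p : Fin 5) :
    g * a p = a (σ p) * g :=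
  mul_inv_eq_iff_eq_mul.1 (hg.2 p)

set_option maxRecDepth 100000 in
theorem doubles : ∀ σ : Equiv.Perm (Fin 5), Equiv.Perm.sign σ = 1 → σ * σ = 1 → σ ≠ 1 → σ 0 = 0 →
    σ = σu ∨ σ = σx * σu * σx⁻¹ ∨ σ = σx⁻¹ * σu * σx := by decide +kernel

set_option maxRecDepth 100000 in
theorem cent_σx : ∀ σ : Equiv.Perm (Fin 5), Equiv.Perm.sign σ = 1 → σ 0 = 0 →
    σ * σx = σx * σ → σ = 1 ∨ σ = σx ∨ σ = σx⁻¹ := by decide +kernel

set_option maxRecDepth 100000 in
theorem fixed_word_aux : ∀ v : W,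
    decide (wsig v 0 = false ∧ ∀ r, wsig v (σx.symm r) = wsig v r) = true →
    decide (∃ b : Bool, ∀ r, wsig v r = (b && decide (r ≠ 0))) = true := by decide +kernel

variable (S : Gens Q z a x u v h)
include S

theorem az' (p : Fin 5) : a p * z = z * a p := S.hJ.l.comm _ (S.pts.mem p)

theorem xa : x * a 0 = a 0 * x := exact_move S.ex 0

theorem ua : u * a 0 = a 0 * u := exact_move S.eu 0

theorem xinv : x⁻¹ = x * x := (eq_inv_of_mul_eq_one_left S.x3).symm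

theorem pow_cases {m : G} (hm : m ∈ zpowers x) : m = 1 ∨ m = x ∨ m = x⁻¹ := by
  obtain ⟨i, rfl⟩ := hm
  have h3 : x ^ (3 : ℤ) = 1 := by
    rw [show (3 : ℤ) = ((3 : ℕ) : ℤ) from rfl, zpow_natCast, pow_succ, pow_two, S.x3]
  show x ^ i = 1 ∨ x ^ i = x ∨ x ^ i = x⁻¹
  have hi : i % 3 = 0 ∨ i % 3 = 1 ∨ i % 3 = 2 := by omega
  rw [← Int.emod_add_mul_ediv i 3, zpow_add, zpow_mul, h3, one_zpow, mul_one]
  rcases hi with e | e | e <;> rw [e]
  · exact Or.inl (zpow_zero x)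
  · exact Or.inr (Or.inl (zpow_one x))
  · refine Or.inr (Or.inr ?_)
    rw [xinv S, show (2 : ℤ) = 1 + 1 from rfl, zpow_add, zpow_one]

theorem u_ne_v : u ≠ v := fun e => by
  have h1 : Exact z a u σv := e ▸ S.ev
  exact absurd (acts_unique S.hJ S.pts ⟨S.eu.1, fun p => Or.inl (S.eu.2 p)⟩
    ⟨h1.1, fun p => Or.inl (h1.2 p)⟩) (by decide)

theorem xuv : x * (u * v) * x⁻¹ = u := by
  rw [show x * (u * v) * x⁻¹ = (x * u * x⁻¹) * (x * v * x⁻¹) by group, S.xu, S.xv, S.uv,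
    ← mul_assoc, S.vv, one_mul]

theorem xinv_u : x⁻¹ * u * x = u * v := by
  conv_lhs => rw [← xuv S]
  group

/-- The powers of `x` move `u` along `u, v, u * v`. -/
theorem pow_u {m : G} (hm : m ∈ zpowers x) :
    m * u * m⁻¹ = u ∨ m * u * m⁻¹ = v ∨ m * u * m⁻¹ = u * v := by
  rcases pow_cases S hm with e0 | e0 | e0 <;> rw [e0]
  · left; simp
  · exact Or.inr (Or.inl S.xu)
  · exact Or.inr (Or.inr (by rw [inv_inv]; exact xinv_u S))

theorem comm_pow_u {m : G} (hm : m ∈ zpowers x) : u * (m * u * m⁻¹) = (m * u * m⁻¹) * u := by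
  rcases pow_u S hm with e | e | e <;> rw [e]
  · exact S.uv
  · exact ((Commute.refl u).mul_right (show Commute u v from S.uv)).eq

theorem stab_u {m : G} (hm : m ∈ zpowers x) (e : m * u * m⁻¹ = u) : m = 1 := by
  rcases pow_cases S hm with e0 | e0 | e0 <;> rw [e0] at e
  · exact e0
  · exact absurd (e.symm.trans S.xu) (u_ne_v S)
  · rw [inv_inv, xinv_u S, mul_eq_left] at e
    have := S.xu
    rw [e] at this
    exact absurd (conj_eq_one_iff.1 this) fun e' => u_ne_v S (e'.trans e.symm)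

/-! ### The conjugate of `u` by `a 1` -/

theorem r_eq : a 1 * u * a 1 = a 1 * a 2 * u := by
  rw [mul_assoc (a 1) u, exact_move S.eu 1]
  exact (mul_assoc _ _ _).symm

theorem sq1 (w : G) : a 1 * (a 1 * w) = w := by rw [← mul_assoc, S.pts.sq, one_mul]

theorem r_sq : a 1 * u * a 1 * (a 1 * u * a 1) = 1 := by
  rw [show a 1 * u * a 1 * (a 1 * u * a 1) = a 1 * u * (a 1 * a 1) * u * a 1 by group, S.pts.sq,
    mul_one, mul_assoc (a 1) u u, S.uu, mul_one, S.pts.sq]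

theorem r_conj (g : G) (hg : g * a 1 * g⁻¹ = a 1) :
    g * (a 1 * u * a 1) * g⁻¹ = a 1 * (g * u * g⁻¹) * a 1 := by
  calc g * (a 1 * u * a 1) * g⁻¹ = (g * a 1 * g⁻¹) * (g * u * g⁻¹) * (g * a 1 * g⁻¹) := by group
    _ = _ := by rw [hg]

theorem xr : x * (a 1 * u * a 1) * x⁻¹ = a 1 * v * a 1 := by
  rw [r_conj S x (S.ex.2 1), S.xu]

theorem swap' {p q : Fin 5} (hpq : p ≠ q) : a q * a p = z * (a p * a q) :=
  J3Rels93.swap_ne S hpq

/-- `r u r = z u`. -/
theorem r_u : a 1 * u * a 1 * u * (a 1 * u * a 1) = z * u := by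
  calc a 1 * u * a 1 * u * (a 1 * u * a 1) = a 1 * (u * a 1) * u * a 1 * (u * a 1) := by group
    _ = a 1 * a 2 * (u * u) * a 1 * (a 2 * u) := by
        rw [exact_move S.eu 1, show σu 1 = 2 by decide]; group
    _ = (a 1 * a 2 * a 1) * a 2 * u := by rw [S.uu, mul_one]; group
    _ = z * u := by
        rw [J3Rels93.anti' S (by decide), mul_assoc z, S.pts.sq, mul_one]

/-- `r v r = z a 0 v`. -/
theorem r_v : a 1 * u * a 1 * v * (a 1 * u * a 1) = z * a 0 * v := by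
  have h43 : a 4 * a 3 = z * (a 3 * a 4) := swap' S (by decide)
  calc a 1 * u * a 1 * v * (a 1 * u * a 1) = a 1 * (u * a 1) * v * a 1 * (u * a 1) := by group
    _ = a 1 * a 2 * u * (v * a 1) * (a 2 * u) := by
        rw [exact_move S.eu 1, show σu 1 = 2 by decide]; group
    _ = a 1 * a 2 * (u * a 3) * (v * a 2) * u := by
        rw [exact_move S.ev 1, show σv 1 = 3 by decide]; group
    _ = a 1 * a 2 * a 4 * (u * a 4) * v * u := by
        rw [exact_move S.eu 3, exact_move S.ev 2, show σu 3 = 4 by decide,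
          show σv 2 = 4 by decide]; group
    _ = a 1 * a 2 * (a 4 * a 3) * (u * (v * u)) := by
        rw [exact_move S.eu 4, show σu 4 = 3 by decide]; group
    _ = _ := by
        rw [h43, ← S.uv, ← mul_assoc u u, S.uu, one_mul,
          show a 1 * a 2 * (z * (a 3 * a 4)) = a 1 * (a 2 * z) * (a 3 * a 4) by group, az' S 2,
          show a 1 * (z * a 2) * (a 3 * a 4) = (a 1 * z) * a 2 * a 3 * a 4 by group, az' S 1,
          show z * a 1 * a 2 * a 3 * a 4 = z * (a 1 * a 2 * a 3 * a 4) by group, ← S.a0]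

/-- `r (u v) r = a 0 u v`. -/
theorem r_uv : a 1 * u * a 1 * (u * v) * (a 1 * u * a 1) = a 0 * (u * v) := by
  set r := a 1 * u * a 1 with hr
  have hu : u * z = z * u := S.eu.1
  calc r * (u * v) * r = r * u * (r * r) * v * r := by rw [r_sq S]; group
    _ = (r * u * r) * (r * v * r) := by group
    _ = z * u * (z * a 0 * v) := by rw [r_u S, r_v S]
    _ = z * (u * z) * a 0 * v := by group
    _ = (z * z) * (u * a 0) * v := by rw [hu]; group
    _ = _ := by rw [S.hJ.l.zz, ua S, one_mul, mul_assoc]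

theorem pow_ne_r {m : G} (hm : m ∈ zpowers x) : m * u * m⁻¹ ≠ a 1 * u * a 1 := by
  intro e
  have h1 := r_u S
  rw [← e, ← comm_pow_u S hm, mul_assoc u,
    show m * u * m⁻¹ * (m * u * m⁻¹) = m * (u * u) * m⁻¹ by group, S.uu] at h1
  have h2 : z * u = u := by rw [← h1]; group
  exact S.hJ.l.ne_one (mul_eq_right.1 h2)

theorem r_triple : a 1 * u * a 1 * (a 1 * v * a 1) = a 1 * (u * v) * a 1 := by
  rw [show a 1 * u * a 1 * (a 1 * v * a 1) = a 1 * u * (a 1 * a 1) * v * a 1 by group, S.pts.sq,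
    mul_one, mul_assoc (a 1) u v]

theorem u_triple : u * (x * u * x⁻¹) = x⁻¹ * u * x := by rw [S.xu, xinv_u S]

theorem r_triple' : a 1 * u * a 1 * (x * (a 1 * u * a 1) * x⁻¹) = x⁻¹ * (a 1 * u * a 1) * x := by
  have h1 : x⁻¹ * a 1 * x⁻¹⁻¹ = a 1 := by
    have e : x * a 1 * x⁻¹ = a 1 := S.ex.2 1
    conv_lhs => rw [← e]
    group
  have e := r_conj S x⁻¹ h1
  rw [inv_inv] at e
  rw [xr S, r_triple S, e, xinv_u S]

/-! ### Involutions of `C(z) ⊓ C(a 0)` outside `Q` -/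

theorem invol_cases {t : G} (tz : t * z = z * t) (ta : t * a 0 = a 0 * t) (t2 : t * t = 1)
    (tQ : t ∉ Q) : ∃ w, InV z a w ∧ ∃ m ∈ zpowers x,
      t = w * (m * u * m⁻¹) ∨ t = w * (m * (a 1 * u * a 1) * m⁻¹) := by
  obtain ⟨σ, hσ⟩ := exists_acts S.hJ S.pts tz
  have hσ0 : σ 0 = 0 := same_inj S.hJ S.pts (hσ.2 0) (Or.inl (mul_inv_eq_iff_eq_mul.2 ta))
  have hσ2 : σ * σ = 1 := acts_unique S.hJ S.pts (acts_mul S.hJ S.pts hσ hσ)
    (by rw [t2]; exact acts_one S.hJ S.pts)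
  have hσ1 : σ ≠ 1 := fun e => tQ (S.mem_Q t (e ▸ hσ))
  obtain ⟨m, hm, μ, hμ, hμσ⟩ : ∃ m ∈ zpowers x, ∃ μ, Exact z a m μ ∧ μ⁻¹ * σ * μ = σu := by
    have ei : Exact z a x⁻¹ σx⁻¹ := J3Rels93.Exact.inv S.ex
    rcases doubles σ (S.even t σ hσ) hσ2 hσ1 hσ0 with e | e | e
    · exact ⟨1, one_mem _, 1, ⟨by simp, fun p => by simp⟩, by rw [e]; simp⟩
    · exact ⟨x, mem_zpowers x, σx, S.ex, by rw [e]; group⟩
    · exact ⟨x⁻¹, inv_mem (mem_zpowers x), σx⁻¹, ei, by rw [e]; group⟩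
  have cm : Commute m (a 0) := by
    rcases pow_cases S hm with e0 | e0 | e0 <;> rw [e0]
    exacts [Commute.one_left _, xa S, (show Commute x (a 0) from xa S).inv_left]
  have hmz : m * z = z * m := hμ.1
  have hs : Acts z a (m⁻¹ * t * m) σu := by
    have hm' : Acts z a m μ := ⟨hμ.1, fun p => Or.inl (hμ.2 p)⟩
    have := acts_conj S.hJ S.pts (acts_inv S.hJ S.pts hm') hσ
    rwa [inv_inv, inv_inv, hμσ] at this
  obtain ⟨w, hw, hcase⟩ := invol_split S.hJ S.pts S.mem_Q (b := u) (t := m⁻¹ * t * m) (q := 2)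
    (Or.inl ⟨rfl, rfl⟩) ⟨S.eu.1, fun p => Or.inl (S.eu.2 p)⟩ hs S.uu
    (by rw [show m⁻¹ * t * m * (m⁻¹ * t * m) = m⁻¹ * (t * t) * m by group, t2]; group)
    (ua S) (((cm.inv_left.mul_left ta).mul_left cm).eq)
  have hwm : m * w * m⁻¹ = w := mul_inv_eq_iff_eq_mul.2 (hw.comm hmz cm.eq)
  refine ⟨w, hw, m, hm, ?_⟩
  rcases hcase with e | e
  · left
    calc t = m * (m⁻¹ * t * m) * m⁻¹ := by group
      _ = (m * w * m⁻¹) * (m * u * m⁻¹) := by rw [e]; group
      _ = _ := by rw [hwm]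
  · right
    rw [r_eq S]
    calc t = m * (m⁻¹ * t * m) * m⁻¹ := by group
      _ = (m * w * m⁻¹) * (m * (a 1 * a 2 * u) * m⁻¹) := by rw [e]; group
      _ = _ := by rw [hwm]

/-- The elements centralising `z`, `a 0` and `x`. -/
theorem cent_zax {k : G} (kz : k * z = z * k) (ka : k * a 0 = a 0 * k) (kx : k * x = x * k) :
    ∃ w, InV z a w ∧ ∃ m ∈ zpowers x, k = w * m := by
  obtain ⟨σ, hσ⟩ := exists_acts S.hJ S.pts kz
  have hx : Acts z a x σx := ⟨S.ex.1, fun p => Or.inl (S.ex.2 p)⟩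
  have hσ0 : σ 0 = 0 := same_inj S.hJ S.pts (hσ.2 0) (Or.inl (mul_inv_eq_iff_eq_mul.2 ka))
  have hc : σ * σx = σx * σ := by
    refine acts_unique S.hJ S.pts (acts_mul S.hJ S.pts hσ hx) ?_
    rw [kx]; exact acts_mul S.hJ S.pts hx hσ
  obtain ⟨m, hm, hmσ⟩ : ∃ m ∈ zpowers x, Acts z a m σ := by
    rcases cent_σx σ (S.even k σ hσ) hσ0 hc with rfl | rfl | rfl
    · exact ⟨1, one_mem _, acts_one S.hJ S.pts⟩
    · exact ⟨x, mem_zpowers x, hx⟩
    · exact ⟨x⁻¹, inv_mem (mem_zpowers x), acts_inv S.hJ S.pts hx⟩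
  have cm : Commute m (a 0) ∧ Commute m x := by
    rcases pow_cases S hm with e0 | e0 | e0 <;> rw [e0]
    exacts [⟨Commute.one_left _, Commute.one_left _⟩, ⟨xa S, Commute.refl x⟩,
      ⟨(show Commute x (a 0) from xa S).inv_left, (Commute.refl x).inv_left⟩]
  set y := k * m⁻¹ with hyd
  have hy : y ∈ Q := S.mem_Q y (by
    simpa using acts_mul S.hJ S.pts hσ (acts_inv S.hJ S.pts hmσ))
  have hya : y * a 0 = a 0 * y := ((show Commute k (a 0) from ka).mul_left cm.1.inv_left).eq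
  have hyx : x * y * x⁻¹ = y := mul_inv_eq_iff_eq_mul.2
    ((show Commute k x from kx).mul_left cm.2.inv_left).eq.symm
  obtain ⟨w, hw⟩ := exists_sig S.hJ S.pts hy
  have h0 : wsig w 0 = false := by
    by_contra hne
    rw [Bool.not_eq_false] at hne
    have e := hw 0
    rw [hne, if_pos rfl, mul_inv_eq_iff_eq_mul.2 hya] at e
    exact S.hJ.l.toExt.z_mul_ne _ e.symm
  have h1 := sig_conj S.hJ S.pts hx hw (S.hJ.l.comm y hy)
  rw [hyx] at h1
  obtain ⟨b, hb⟩ := of_decide_eq_true (fixed_word_aux w (decide_eq_true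
    ⟨h0, congrFun (sig_unique S.hJ S.pts h1 hw)⟩))
  have hsig : Sig z a (if b then a 0 else 1) (wsig w) := by
    rw [show wsig w = fun r => b && decide (r ≠ 0) from funext hb]
    cases b
    · simpa using sig_one S.hJ S.pts
    · simpa using sig_point S.hJ S.pts 0
  have hk : k = y * m := by rw [hyd]; group
  rcases same_of_sig S.hJ S.pts hy (by split_ifs; exacts [S.pts.mem 0, Q.one_mem]) hw hsig with
    e | e
  · refine ⟨_, ?_, m, hm, e ▸ hk⟩
    cases b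
    exacts [Or.inl rfl, Or.inr (Or.inr (Or.inl rfl))]
  · refine ⟨_, ?_, m, hm, e ▸ hk⟩
    cases b
    exacts [Or.inr (Or.inl (mul_one z)), Or.inr (Or.inr (Or.inr rfl))]

/-! ### The element permuting `z, z * a 0, a 0` -/

/-- An element centralising `x` that permutes the involutions of the four-group cyclically. -/
theorem exists_c : ∃ c : G, c * x = x * c ∧ c * z * c⁻¹ = z * a 0 ∧ c * a 0 * c⁻¹ = z := by
  classical
  haveI : Fact (Nat.Prime 3) := ⟨Nat.prime_three⟩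
  obtain ⟨g, hg⟩ := isConj_iff.1 (S.pts.conj 0)
  have P := pair_of_conj S.hJ.l (g := g) (hg ▸ S.pts.mem 0) (hg ▸ (S.pts.ne 0).2)
    (by rw [S.hJ.cardQ])
  rw [hg] at P
  obtain ⟨y, hy, ey⟩ := P.h'.partner z P.zQ' S.hJ.l.ne_one (Ne.symm (S.pts.ne 0).2)
  have hy0 : y * a 0 * y⁻¹ = a 0 := mul_inv_eq_iff_eq_mul.2 (P.h'.comm y hy)
  set g₀ := y * a 1 with hg₀
  have e1 : g₀ * z * g₀⁻¹ = z * a 0 := by
    rw [hg₀, show y * a 1 * z * (y * a 1)⁻¹ = y * (a 1 * z * (a 1)⁻¹) * y⁻¹ by group,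
      az' S 1, mul_inv_cancel_right, ey, az' S 0]
  have e2 : g₀ * a 0 * g₀⁻¹ = z := by
    rw [hg₀, show y * a 1 * a 0 * (y * a 1)⁻¹ = y * (a 1 * a 0 * (a 1)⁻¹) * y⁻¹ by group,
      S.pts.anti 1 0 (by decide),
      show y * (z * a 0) * y⁻¹ = (y * z * y⁻¹) * (y * a 0 * y⁻¹) by group, ey, hy0, az' S 0,
      mul_assoc, S.pts.sq, mul_one]
  set A : Subgroup G := centralizer ({z} : Set G) ⊓ centralizer ({a 0} : Set G) with hA
  have memA : ∀ t : G, t ∈ A ↔ t * z = z * t ∧ t * a 0 = a 0 * t := fun t => by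
    rw [hA, Subgroup.mem_inf, mem_centralizer_singleton_iff, mem_centralizer_singleton_iff]
  set y' := g₀ * x * g₀⁻¹ with hy'
  have hxA : x ∈ A := (memA x).2 ⟨S.ex.1, xa S⟩
  have hz0 : g₀⁻¹ * z * g₀ = a 0 := by
    calc g₀⁻¹ * z * g₀ = g₀⁻¹ * (g₀ * a 0 * g₀⁻¹) * g₀ := by rw [e2]
      _ = a 0 := by group
  have ha0 : g₀⁻¹ * a 0 * g₀ = z * a 0 := by
    have e3 : g₀ * (z * a 0) * g₀⁻¹ = a 0 := by
      rw [show g₀ * (z * a 0) * g₀⁻¹ = (g₀ * z * g₀⁻¹) * (g₀ * a 0 * g₀⁻¹) by group, e1, e2,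
        mul_assoc, az' S 0, ← mul_assoc, S.hJ.l.zz, one_mul]
    calc g₀⁻¹ * a 0 * g₀ = g₀⁻¹ * (g₀ * (z * a 0) * g₀⁻¹) * g₀ := by rw [e3]
      _ = z * a 0 := by group
  have hyA : y' ∈ A := by
    have key : ∀ t, x * t = t * x → y' * (g₀ * t * g₀⁻¹) = (g₀ * t * g₀⁻¹) * y' := fun t ht => by
      rw [hy', show g₀ * x * g₀⁻¹ * (g₀ * t * g₀⁻¹) = g₀ * (x * t) * g₀⁻¹ by group, ht]
      group
    refine (memA y').2 ⟨?_, ?_⟩
    · have := key (a 0) (xa S)
      rwa [e2] at this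
    · have := key (z * a 0)
        ((show Commute x z from S.ex.1).mul_right (show Commute x (a 0) from xa S)).eq
      rwa [show g₀ * (z * a 0) * g₀⁻¹ = a 0 by rw [← ha0]; group] at this
  -- Sylow subgroups of order three
  have hcard3 : ∀ T : Sylow 3 A, Nat.card T ≤ 3 := by
    intro T
    obtain ⟨n, hn⟩ := IsPGroup.iff_card.1 T.isPGroup'
    have hdvd : Nat.card T ∣ 1920 :=
      (card_subgroup_dvd_card (T : Subgroup A)).trans
        ((card_dvd_of_le (inf_le_left : A ≤ centralizer ({z} : Set G))).trans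
          (dvd_of_eq (card_H S.hJ)))
    rw [hn] at hdvd ⊢
    rcases Nat.lt_or_ge n 2 with h2 | h2
    · calc 3 ^ n ≤ 3 ^ 1 := Nat.pow_le_pow_right (by norm_num) (by omega)
        _ = 3 := rfl
    · exact absurd ((pow_dvd_pow 3 h2).trans hdvd) (by norm_num)
  set x₁ : A := ⟨x, hxA⟩
  set y₁ : A := ⟨y', hyA⟩
  have hx1 : x ≠ 1 := fun e => u_ne_v S (by rw [← S.xu, e]; group)
  have ox : orderOf x = 3 :=
    orderOf_eq_prime (by rw [pow_succ, pow_two, S.x3]) hx1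
  have oy : orderOf y' = 3 := orderOf_eq_prime (by
    rw [pow_succ, pow_two, hy', show g₀ * x * g₀⁻¹ * (g₀ * x * g₀⁻¹) * (g₀ * x * g₀⁻¹) =
      g₀ * (x * x * x) * g₀⁻¹ by group, S.x3]; group) (fun e => hx1 (conj_eq_one_iff.1 e))
  have ox1 : orderOf x₁ = 3 := by rw [← Subgroup.orderOf_coe]; exact ox
  have oy1 : orderOf y₁ = 3 := by rw [← Subgroup.orderOf_coe]; exact oy
  have px : IsPGroup 3 (zpowers x₁) :=
    IsPGroup.of_card (n := 1) (by rw [Nat.card_zpowers, ox1, pow_one])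
  have py : IsPGroup 3 (zpowers y₁) :=
    IsPGroup.of_card (n := 1) (by rw [Nat.card_zpowers, oy1, pow_one])
  obtain ⟨T1, hT1⟩ := px.exists_le_sylow
  obtain ⟨T2, hT2⟩ := py.exists_le_sylow
  have eT1 : (T1 : Subgroup A) = zpowers x₁ :=
    (eq_of_le_of_card_ge hT1 (by rw [Nat.card_zpowers, ox1]; exact hcard3 T1)).symm
  obtain ⟨k, hk⟩ := MulAction.exists_smul_eq A T2 T1
  have hky : k * y₁ * k⁻¹ ∈ zpowers x₁ := by
    rw [← eT1, ← hk]
    exact ⟨y₁, hT2 (mem_zpowers y₁), by simp⟩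
  obtain ⟨hkz, hka⟩ := (memA _).1 k.2
  set g₁ := (k : G) * g₀ with hg₁
  have hg1x : g₁ * x * g₁⁻¹ = x ∨ g₁ * x * g₁⁻¹ = x⁻¹ := by
    obtain ⟨i, hi⟩ := hky
    have e : g₁ * x * g₁⁻¹ = x ^ i := by
      have := congrArg Subtype.val hi
      simp only [SubgroupClass.coe_zpow, Subgroup.coe_mul, Subgroup.coe_inv, x₁, y₁] at this
      rw [this, hy', hg₁]; group
    rcases pow_cases S (zpow_mem (mem_zpowers x) i) with e' | e' | e' <;> rw [e'] at e
    · exact absurd (conj_eq_one_iff.1 e) hx1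
    · exact Or.inl e
    · exact Or.inr e
  have f1 : g₁ * z * g₁⁻¹ = z * a 0 := by
    rw [hg₁, show (k : G) * g₀ * z * ((k : G) * g₀)⁻¹ = k * (g₀ * z * g₀⁻¹) * (k : G)⁻¹ by group,
      e1]
    exact mul_inv_eq_iff_eq_mul.2
      ((show Commute (k : G) z from hkz).mul_right (show Commute (k : G) (a 0) from hka)).eq
  have f2 : g₁ * a 0 * g₁⁻¹ = z := by
    rw [hg₁, show (k : G) * g₀ * a 0 * ((k : G) * g₀)⁻¹ = k * (g₀ * a 0 * g₀⁻¹) * (k : G)⁻¹ by
      group, e2]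
    exact mul_inv_eq_iff_eq_mul.2 hkz
  have f3 : g₁ * (z * a 0) * g₁⁻¹ = a 0 := by
    rw [show g₁ * (z * a 0) * g₁⁻¹ = (g₁ * z * g₁⁻¹) * (g₁ * a 0 * g₁⁻¹) by group, f1, f2,
      mul_assoc, az' S 0, ← mul_assoc, S.hJ.l.zz, one_mul]
  refine ⟨g₁ * g₁ * (g₁ * g₁), ?_, ?_, ?_⟩
  · have h2 : g₁ * g₁ * x * (g₁ * g₁)⁻¹ = x := by
      rw [show g₁ * g₁ * x * (g₁ * g₁)⁻¹ = g₁ * (g₁ * x * g₁⁻¹) * g₁⁻¹ by group]
      rcases hg1x with e | e
      · rw [e, e]
      · rw [e, show g₁ * x⁻¹ * g₁⁻¹ = (g₁ * x * g₁⁻¹)⁻¹ by group, e, inv_inv]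
    have hc : Commute (g₁ * g₁) x := mul_inv_eq_iff_eq_mul.1 h2
    exact (hc.mul_left hc).eq
  · calc g₁ * g₁ * (g₁ * g₁) * z * (g₁ * g₁ * (g₁ * g₁))⁻¹
        = g₁ * (g₁ * (g₁ * (g₁ * z * g₁⁻¹) * g₁⁻¹) * g₁⁻¹) * g₁⁻¹ := by group
      _ = z * a 0 := by rw [f1, f3, f2, f1]
  · calc g₁ * g₁ * (g₁ * g₁) * a 0 * (g₁ * g₁ * (g₁ * g₁))⁻¹
        = g₁ * (g₁ * (g₁ * (g₁ * a 0 * g₁⁻¹) * g₁⁻¹) * g₁⁻¹) * g₁⁻¹ := by group
      _ = z := by rw [f2, f1, f3, f2]

variable {c : G} (cx : c * x = x * c) (cz : c * z * c⁻¹ = z * a 0) (ca : c * a 0 * c⁻¹ = z)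
include cx cz ca

theorem c_za : c * (z * a 0) * c⁻¹ = a 0 := by
  rw [show c * (z * a 0) * c⁻¹ = (c * z * c⁻¹) * (c * a 0 * c⁻¹) by group, cz, ca, mul_assoc,
    az' S 0, ← mul_assoc, S.hJ.l.zz, one_mul]

/-- The image of an involution of a triple. -/
theorem c_image {e : G} (ez : e * z = z * e) (ea : e * a 0 = a 0 * e) (e2 : e * e = 1)
    (eQ : e ∉ Q) (etri : e * (x * e * x⁻¹) = x⁻¹ * e * x) :
    ∃ m ∈ zpowers x, c * e * c⁻¹ = m * u * m⁻¹ ∨ c * e * c⁻¹ = m * (a 1 * u * a 1) * m⁻¹ := by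
  set t := c * e * c⁻¹ with ht
  have key : ∀ {s}, e * s = s * e → t * (c * s * c⁻¹) = (c * s * c⁻¹) * t := fun {s} hs => by
    rw [ht, show c * e * c⁻¹ * (c * s * c⁻¹) = c * (e * s) * c⁻¹ by group, hs]
    group
  have tz : t * z = z * t := by
    have := key ea
    rwa [ca] at this
  have ta : t * a 0 = a 0 * t := by
    have := key ((show Commute e z from ez).mul_right (show Commute e (a 0) from ea)).eq
    rwa [c_za S cx cz ca] at this
  have t2 : t * t = 1 := by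
    rw [ht, show c * e * c⁻¹ * (c * e * c⁻¹) = c * (e * e) * c⁻¹ by group, e2]; group
  have tQ : t ∉ Q := by
    intro hQ
    refine eQ ?_
    have F := S.pts
    have hsplit : t = 1 ∨ t = z ∨ t = a 0 ∨ t = z * a 0 := by
      rcases F.inv_cases t hQ t2 with e' | e' | ⟨p, hp⟩
      · exact Or.inl e'
      · exact Or.inr (Or.inl e')
      · have hp0 : p = 0 := by
          by_contra hne
          have h1 := F.anti p 0 hne
          have hta : t * a 0 * t⁻¹ = a 0 := mul_inv_eq_iff_eq_mul.2 ta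
          rcases hp with e' | e' <;> rw [e'] at hta
          · exact S.hJ.l.toExt.z_mul_ne _ (h1.symm.trans hta)
          · rw [show z * a p * a 0 * (z * a p)⁻¹ = z * (a p * a 0 * (a p)⁻¹) * z⁻¹ by group, h1,
              ← mul_assoc z z, S.hJ.l.zz, one_mul, S.hJ.l.toExt.inv_z, az' S 0] at hta
            exact S.hJ.l.toExt.z_mul_ne _ hta
        subst hp0
        rcases hp with e' | e'
        exacts [Or.inr (Or.inr (Or.inl e')), Or.inr (Or.inr (Or.inr e'))]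
    have he : e = c⁻¹ * t * c := by rw [ht]; group
    have cinv : ∀ s s' : G, c * s * c⁻¹ = s' → c⁻¹ * s' * c = s := by
      rintro s _ rfl
      group
    rcases hsplit with e' | e' | e' | e' <;> rw [he, e']
    · rw [mul_one, inv_mul_cancel]; exact Q.one_mem
    · rw [cinv _ _ ca]; exact S.pts.mem 0
    · rw [cinv _ _ (c_za S cx cz ca)]; exact Q.mul_mem S.hJ.l.mem (S.pts.mem 0)
    · rw [cinv _ _ cz]; exact S.hJ.l.mem
  obtain ⟨w, hw, m, hm, hcase⟩ := invol_cases S tz ta t2 tQ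
  have cxm : ∀ f : G, c * (x * f * x⁻¹) * c⁻¹ = x * (c * f * c⁻¹) * x⁻¹ := fun f => by
    calc c * (x * f * x⁻¹) * c⁻¹ = (c * x) * f * (c * x)⁻¹ := by group
      _ = (x * c) * f * (x * c)⁻¹ := by rw [cx]
      _ = _ := by group
  have cxm' : c * (x⁻¹ * e * x) * c⁻¹ = x⁻¹ * t * x := by
    have ci : c * x⁻¹ = x⁻¹ * c := (show Commute c x from cx).inv_right.eq
    calc c * (x⁻¹ * e * x) * c⁻¹ = (c * x⁻¹) * e * (c * x⁻¹)⁻¹ := by group
      _ = _ := by rw [ci, ht]; group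
  have himg : t * (x * t * x⁻¹) = x⁻¹ * t * x := by
    rw [← cxm', ← etri, ← cxm e]
    rw [ht]; group
  have wx : x * w * x⁻¹ = w := mul_inv_eq_iff_eq_mul.2 (hw.comm S.ex.1 (xa S))
  have wx' : x⁻¹ * w * x = w := by conv_lhs => rw [← wx]
                                   group
  have wsq := hw.sq S.hJ S.pts
  have mx : m * x = x * m := by
    obtain ⟨i, rfl⟩ := hm
    exact ((Commute.refl x).zpow_left i).eq
  have main : ∀ f : G, f * z = z * f → f * a 0 = a 0 * f → f * (x * f * x⁻¹) = x⁻¹ * f * x →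
      t = w * f → t = f := by
    intro f fz fa ftri e
    have hwf : f * w = w * f := hw.comm fz fa
    rw [e, show x * (w * f) * x⁻¹ = (x * w * x⁻¹) * (x * f * x⁻¹) by group, wx,
      show w * f * (w * (x * f * x⁻¹)) = w * (f * w) * (x * f * x⁻¹) by group, hwf,
      show w * (w * f) * (x * f * x⁻¹) = (w * w) * (f * (x * f * x⁻¹)) by group, wsq, one_mul, ftri,
      show x⁻¹ * (w * f) * x = (x⁻¹ * w * x) * (x⁻¹ * f * x) by group, wx', right_eq_mul] at himg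
    rw [e, himg, one_mul]
  have tri_conj : ∀ f : G, f * (x * f * x⁻¹) = x⁻¹ * f * x →
      m * f * m⁻¹ * (x * (m * f * m⁻¹) * x⁻¹) = x⁻¹ * (m * f * m⁻¹) * x := by
    intro f hf
    have e1 : x * (m * f * m⁻¹) * x⁻¹ = m * (x * f * x⁻¹) * m⁻¹ := by
      calc x * (m * f * m⁻¹) * x⁻¹ = (x * m) * f * (x * m)⁻¹ := by group
        _ = _ := by rw [← mx]; group
    have e2' : x⁻¹ * (m * f * m⁻¹) * x = m * (x⁻¹ * f * x) * m⁻¹ := by
      have : x⁻¹ * m = m * x⁻¹ := (show Commute m x from mx).inv_right.eq.symm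
      calc x⁻¹ * (m * f * m⁻¹) * x = (x⁻¹ * m) * f * (x⁻¹ * m)⁻¹ := by group
        _ = _ := by rw [this]; group
    rw [e1, e2', ← hf]; group
  have cm : Commute m z ∧ Commute m (a 0) := by
    rcases pow_cases S hm with e0 | e0 | e0 <;> rw [e0]
    exacts [⟨Commute.one_left _, Commute.one_left _⟩, ⟨S.ex.1, xa S⟩,
      ⟨(show Commute x z from S.ex.1).inv_left, (show Commute x (a 0) from xa S).inv_left⟩]
  have rz : Commute (a 1 * u * a 1) z :=
    ((show Commute (a 1) z from az' S 1).mul_left S.eu.1).mul_left (az' S 1)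
  have ra : Commute (a 1 * u * a 1) (a 0) := by
    rw [r_eq S]
    refine Commute.mul_left ?_ (ua S)
    have := sig_mul S.hJ S.pts (sig_point S.hJ S.pts 1) (sig_point S.hJ S.pts 2) (az' S 1) 0
    exact mul_inv_eq_iff_eq_mul.1 (by simpa using this)
  refine ⟨m, hm, ?_⟩
  rcases hcase with e | e
  · exact Or.inl (main _ ((cm.1.mul_left S.eu.1).mul_left cm.1.inv_left).eq
      ((cm.2.mul_left (ua S)).mul_left cm.2.inv_left).eq (tri_conj u (u_triple S)) e)
  · exact Or.inr (main _ ((cm.1.mul_left rz).mul_left cm.1.inv_left).eq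
      ((cm.2.mul_left ra).mul_left cm.2.inv_left).eq (tri_conj _ (r_triple' S)) e)

/-- `c` preserves both triples. -/
theorem c_triples : (∃ m ∈ zpowers x, c * u * c⁻¹ = m * u * m⁻¹) ∧
    ∃ m ∈ zpowers x, c * (a 1 * u * a 1) * c⁻¹ = m * (a 1 * u * a 1) * m⁻¹ := by
  set r := a 1 * u * a 1 with hr
  have huQ : u ∉ Q := fun hQ => absurd (acts_unique S.hJ S.pts
    ⟨S.eu.1, fun p => Or.inl (S.eu.2 p)⟩ (acts_of_mem S.hJ S.pts hQ)) (by decide)
  have hrz : r * z = z * r :=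
    (((show Commute (a 1) z from az' S 1).mul_left S.eu.1).mul_left (az' S 1)).eq
  have hra : r * a 0 = a 0 * r := by
    have h12 := sig_mul S.hJ S.pts (sig_point S.hJ S.pts 1) (sig_point S.hJ S.pts 2) (az' S 1) 0
    rw [hr, r_eq S]
    exact ((show Commute (a 1 * a 2) (a 0) from
      mul_inv_eq_iff_eq_mul.1 (by simpa using h12)).mul_left (ua S)).eq
  have hrQ : r ∉ Q := fun hQ => huQ (by
    have := Q.mul_mem (Q.mul_mem (S.pts.mem 1) hQ) (S.pts.mem 1)
    rwa [hr, show a 1 * (a 1 * u * a 1) * a 1 = (a 1 * a 1) * u * (a 1 * a 1) by group, S.pts.sq,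
      one_mul, mul_one] at this)
  have pc : ∀ {m : G}, m ∈ zpowers x → c * m = m * c := fun {m} hm => by
    obtain ⟨i, rfl⟩ := hm
    exact ((show Commute c x from cx).zpow_right i).eq
  -- a power of `x` does not send `u` to a conjugate of `r` by another one
  have nou : ∀ {m m' : G}, m ∈ zpowers x → m' ∈ zpowers x → m * u * m⁻¹ ≠ m' * r * m'⁻¹ := by
    intro m m' hm hm' e
    refine pow_ne_r S (mul_mem (inv_mem hm') hm) ?_
    show m'⁻¹ * m * u * (m'⁻¹ * m)⁻¹ = r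
    rw [show m'⁻¹ * m * u * (m'⁻¹ * m)⁻¹ = m'⁻¹ * (m * u * m⁻¹) * m' by group, e]
    group
  have move : ∀ {m : G}, m ∈ zpowers x → ∀ f : G,
      c * (m * f * m⁻¹) * c⁻¹ = m * (c * f * c⁻¹) * m⁻¹ := fun {m} hm f => by
    calc c * (m * f * m⁻¹) * c⁻¹ = (c * m) * f * (c * m)⁻¹ := by group
      _ = _ := by rw [pc hm]; group
  obtain ⟨m, hm, hu⟩ := c_image S cx cz ca S.eu.1 (ua S) S.uu huQ (u_triple S)
  obtain ⟨m', hm', hr'⟩ := c_image S cx cz ca hrz hra (r_sq S) hrQ (r_triple' S)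
  rcases hu with hu | hu
  · rcases hr' with hr' | hr'
    · exfalso
      have e : c * ((m' * m⁻¹) * u * (m' * m⁻¹)⁻¹) * c⁻¹ = c * r * c⁻¹ := by
        rw [move (mul_mem hm' (inv_mem hm)), hu, hr']
        group
      have e' : (m' * m⁻¹) * u * (m' * m⁻¹)⁻¹ = 1 * r * 1⁻¹ := by
        rw [one_mul, inv_one, mul_one]
        exact mul_left_cancel (mul_right_cancel e)
      exact nou (mul_mem hm' (inv_mem hm)) (one_mem _) e'
    · exact ⟨⟨m, hm, hu⟩, ⟨m', hm', hr'⟩⟩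
  · exfalso
    rcases hr' with hr' | hr'
    · -- the two triples would be exchanged
      set c3 := c * c * c
      have hcu : c3 * u * c3⁻¹ = (m * m' * m) * r * (m * m' * m)⁻¹ := by
        calc c3 * u * c3⁻¹ = c * (c * (c * u * c⁻¹) * c⁻¹) * c⁻¹ := by simp only [c3]; group
          _ = c * (m * (c * r * c⁻¹) * m⁻¹) * c⁻¹ := by rw [hu, move hm]
          _ = c * ((m * m') * u * (m * m')⁻¹) * c⁻¹ := by rw [hr']; group
          _ = _ := by rw [move (mul_mem hm hm'), hu, ← hr]; group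
      have h3z : c3 * z * c3⁻¹ = z := by
        calc c3 * z * c3⁻¹ = c * (c * (c * z * c⁻¹) * c⁻¹) * c⁻¹ := by simp only [c3]; group
          _ = z := by rw [cz, c_za S cx cz ca, ca]
      have h3a : c3 * a 0 * c3⁻¹ = a 0 := by
        calc c3 * a 0 * c3⁻¹ = c * (c * (c * a 0 * c⁻¹) * c⁻¹) * c⁻¹ := by simp only [c3]; group
          _ = a 0 := by rw [ca, cz, c_za S cx cz ca]
      have c3x : c3 * x = x * c3 :=
        (((show Commute c x from cx).mul_left cx).mul_left cx).eq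
      obtain ⟨w, hw, n, hn, e⟩ := cent_zax S (mul_inv_eq_iff_eq_mul.1 h3z)
        (mul_inv_eq_iff_eq_mul.1 h3a) c3x
      refine nou hn (mul_mem (mul_mem hm hm') hm) ?_
      rw [← hcu, e]
      have hf : w * (n * u * n⁻¹) * w⁻¹ = n * u * n⁻¹ := by
        have cn : Commute n z ∧ Commute n (a 0) := by
          rcases pow_cases S hn with e0 | e0 | e0 <;> rw [e0]
          exacts [⟨Commute.one_left _, Commute.one_left _⟩, ⟨S.ex.1, xa S⟩,
            ⟨(show Commute x z from S.ex.1).inv_left,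
              (show Commute x (a 0) from xa S).inv_left⟩]
        rw [← hw.comm ((cn.1.mul_left S.eu.1).mul_left cn.1.inv_left).eq
          ((cn.2.mul_left (ua S)).mul_left cn.2.inv_left).eq, mul_inv_cancel_right]
      conv_lhs => rw [← hf]
      group
    · have e : c * u * c⁻¹ = c * ((m * m'⁻¹) * r * (m * m'⁻¹)⁻¹) * c⁻¹ := by
        rw [move (mul_mem hm (inv_mem hm')), hr', hu]
        group
      exact nou (one_mem _) (mul_mem hm (inv_mem hm'))
        (by rw [one_mul, inv_one, mul_one]; exact mul_left_cancel (mul_right_cancel e))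

omit cx cz ca in
/-- The element of order three outside `C(z)`. -/
theorem exists_oct : ∃ o, Oct z a x u v o := by
  obtain ⟨c, cx, cz, ca⟩ := exists_c S
  obtain ⟨⟨m, hm, hu⟩, ⟨m', hm', hr⟩⟩ := c_triples S cx cz ca
  set r := a 1 * u * a 1 with hr_def
  have pm : ∀ {n : G}, n ∈ zpowers x →
      n * x = x * n ∧ n * z = z * n ∧ n * a 0 = a 0 * n := by
    intro n hn
    rcases pow_cases S hn with e0 | e0 | e0 <;> rw [e0]
    exacts [⟨by simp, by simp, by simp⟩, ⟨rfl, S.ex.1, xa S⟩,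
      ⟨(Commute.refl x).inv_left.eq, (show Commute x z from S.ex.1).inv_left.eq,
        (show Commute x (a 0) from xa S).inv_left.eq⟩]
  obtain ⟨nx, nz, na⟩ := pm (inv_mem hm')
  set o := m'⁻¹ * c with ho
  have ox : o * x = x * o := ((show Commute m'⁻¹ x from nx).mul_left cx).eq
  have oconj : ∀ g : G, o * g * o⁻¹ = m'⁻¹ * (c * g * c⁻¹) * m'⁻¹⁻¹ := fun g => by
    rw [ho]; group
  have oz : o * z * o⁻¹ = z * a 0 := by
    rw [oconj, cz]
    exact mul_inv_eq_iff_eq_mul.2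
      ((show Commute m'⁻¹ z from nz).mul_right (show Commute m'⁻¹ (a 0) from na)).eq
  have oa : o * a 0 * o⁻¹ = z := by rw [oconj, ca]; exact mul_inv_eq_iff_eq_mul.2 nz
  have or' : o * r * o⁻¹ = r := by rw [oconj, hr]; group
  obtain ⟨n, hn, hU⟩ : ∃ n ∈ zpowers x, o * u * o⁻¹ = n * u * n⁻¹ :=
    ⟨m'⁻¹ * m, mul_mem (inv_mem hm') hm, by rw [oconj, hu]; group⟩
  have hzr : z = r * u * r * u := by
    rw [hr_def, r_u S, mul_assoc, S.uu, mul_one]
  have hprod : z * a 0 = r * (n * u * n⁻¹) * r * (n * u * n⁻¹) := by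
    rw [← oz, ← hU]
    conv_lhs => rw [hzr]
    calc o * (r * u * r * u) * o⁻¹ = (o * r * o⁻¹) * (o * u * o⁻¹) * (o * r * o⁻¹) *
          (o * u * o⁻¹) := by group
      _ = _ := by rw [or']
  have ou : o * u * o⁻¹ = v := by
    rw [hU]
    rcases pow_u S hn with e | e | e
    · exfalso
      rw [e, ← hzr] at hprod
      exact (S.pts.ne 0).1 (mul_eq_left.1 hprod)
    · exact e
    · exfalso
      rw [e, hr_def, r_uv S, mul_assoc (a 0), show u * v * (u * v) = 1 by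
        rw [show u * v * (u * v) = u * (v * u) * v by group, ← S.uv, ← mul_assoc, S.uu, one_mul,
          S.vv], mul_one] at hprod
      exact S.hJ.l.ne_one (mul_eq_right.1 hprod)
  have hox : ∀ g : G, o * (x * g * x⁻¹) * o⁻¹ = x * (o * g * o⁻¹) * x⁻¹ := fun g => by
    calc o * (x * g * x⁻¹) * o⁻¹ = (o * x) * g * (o * x)⁻¹ := by group
      _ = _ := by rw [ox]; group
  have ov : o * v * o⁻¹ = u * v := by
    rw [← S.xu, hox, ou, S.xv, S.xu]
  have orv : o * (a 1 * v * a 1) * o⁻¹ = a 1 * v * a 1 := by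
    rw [← xr S, hox, ← hr_def, or']
  have oza : o * (z * a 0) * o⁻¹ = a 0 := by
    rw [show o * (z * a 0) * o⁻¹ = (o * z * o⁻¹) * (o * a 0 * o⁻¹) by group, oz, oa, mul_assoc,
      az' S 0, ← mul_assoc, S.hJ.l.zz, one_mul]
  have o3z : o * o * o * z * (o * o * o)⁻¹ = z := by
    calc o * o * o * z * (o * o * o)⁻¹ = o * (o * (o * z * o⁻¹) * o⁻¹) * o⁻¹ := by group
      _ = z := by rw [oz, oza, oa]
  have o3a : o * o * o * a 0 * (o * o * o)⁻¹ = a 0 := by
    calc o * o * o * a 0 * (o * o * o)⁻¹ = o * (o * (o * a 0 * o⁻¹) * o⁻¹) * o⁻¹ := by group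
      _ = a 0 := by rw [oa, oz, oza]
  obtain ⟨w, hw, k, hk, hk'⟩ := cent_zax S (mul_inv_eq_iff_eq_mul.1 o3z)
    (mul_inv_eq_iff_eq_mul.1 o3a) (((show Commute o x from ox).mul_left ox).mul_left ox).eq
  have o3u : o * o * o * u * (o * o * o)⁻¹ = u := by
    calc o * o * o * u * (o * o * o)⁻¹ = o * (o * (o * u * o⁻¹) * o⁻¹) * o⁻¹ := by group
      _ = o * (u * v) * o⁻¹ := by rw [ou, ov]
      _ = (o * u * o⁻¹) * (o * v * o⁻¹) := by group
      _ = u := by rw [ou, ov, S.uv, ← mul_assoc, S.vv, one_mul]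
  have hk1 : k = 1 := by
    refine stab_u S hk ?_
    have hwu : w⁻¹ * u * w = u := by
      rw [mul_assoc, hw.comm S.eu.1 (ua S), inv_mul_cancel_left]
    calc k * u * k⁻¹ = w⁻¹ * (w * k * u * (w * k)⁻¹) * w := by group
      _ = u := by rw [← hk', o3u, hwu]
  rw [hk1, mul_one] at hk'
  have ow : o * w * o⁻¹ = w := by rw [← hk']; group
  have o3 : o * o * o = 1 := by
    rw [hk']
    rcases hw with e | e | e | e <;> rw [e] at ow ⊢
    · exfalso
      rw [oz] at ow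
      exact (S.pts.ne 0).1 (mul_eq_left.1 ow)
    · exfalso
      rw [oa] at ow
      exact (S.pts.ne 0).2 ow.symm
    · exfalso
      rw [oza] at ow
      exact S.hJ.l.ne_one (mul_eq_right.1 ow.symm)
  exact ⟨o, o3, ox, oz, oa, ou, ov, mul_inv_eq_iff_eq_mul.1 or',
    mul_inv_eq_iff_eq_mul.1 orv⟩

omit cx cz ca in
/-- `D = C(z) ⊓ C(u)` is normalised by an element carrying `u` to `z`. -/
theorem exists_conj_D : ∃ w : G, w * u * w⁻¹ = z ∧ ∀ d ∈ D z u, w * d * w⁻¹ ∈ D z u := by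
  classical
  have huz : u * z = z * u := S.eu.1
  have huQ : u ∉ Q := fun hQ => absurd (acts_unique S.hJ S.pts
    ⟨S.eu.1, fun p => Or.inl (S.eu.2 p)⟩ (acts_of_mem S.hJ S.pts hQ)) (by decide)
  have hu1 : u ≠ 1 := fun e => huQ (e ▸ Q.one_mem)
  obtain ⟨b, u₀, u₀', L⟩ := exists_loc S.hJ
  obtain ⟨h₀, hh₀, eh₀⟩ := invol_conj L huz S.uu huQ
  have hcard : ∀ {h : G}, h * z = z * h →
      Nat.card ↥(D z (h * u₀ * h⁻¹)) = 16 := fun {h} hh => by
    rw [D_conj hh, card_map_of_injective (MulAut.conj h).injective, card_D L]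
  have hD16 : Nat.card ↥(D z u) = 16 := eh₀ ▸ hcard hh₀
  have hDab : ∀ s ∈ D z u, ∀ t ∈ D z u, s * t = t * s := by
    rw [eh₀, D_conj hh₀]
    rintro _ ⟨s, hs, rfl⟩ _ ⟨t, ht, rfl⟩
    rw [← map_mul, D_comm L hs ht, map_mul]
  have hDsq : ∀ s ∈ D z u, s * s = 1 := by
    rw [eh₀, D_conj hh₀]
    rintro _ ⟨s, hs, rfl⟩
    rw [← map_mul, D_sq L hs, map_one]
  obtain ⟨w₀, hw₀⟩ := isConj_iff.1 (S.hJ.one u z
    (orderOf_eq_prime (by rw [pow_two]; exact S.uu) hu1)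
    (orderOf_eq_prime (by rw [pow_two]; exact S.hJ.l.zz) S.hJ.l.ne_one))
  set E := (D z u).map (MulAut.conj w₀).toMonoidHom with hE
  have hE16 : Nat.card ↥E = 16 := by
    rw [hE, card_map_of_injective (MulAut.conj w₀).injective, hD16]
  have hEab : ∀ s ∈ E, ∀ t ∈ E, s * t = t * s := by
    rintro _ ⟨s, hs, rfl⟩ _ ⟨t, ht, rfl⟩
    rw [← map_mul, hDab s hs t ht, map_mul]
  have hEsq : ∀ s ∈ E, s * s = 1 := by
    rintro _ ⟨s, hs, rfl⟩
    rw [← map_mul, hDsq s hs, map_one]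
  have hzE : z ∈ E := ⟨u, mem_D.2 ⟨huz, rfl⟩, by simpa using hw₀⟩
  have hEH : ∀ s ∈ E, s * z = z * s := fun s hs => hEab s hs z hzE
  obtain ⟨t, htE, htQ⟩ : ∃ t ∈ E, t ∉ Q := by
    by_contra hcon
    push Not at hcon
    haveI : Fintype E := Fintype.ofFinite E
    have hb : ∃ s ∈ E, s ≠ 1 ∧ s ≠ z := by
      by_contra hc
      push Not at hc
      have : E ≤ zpowers z := fun s hs => by
        by_cases e : s = 1
        · exact e ▸ one_mem _
        · exact (hc s hs e) ▸ mem_zpowers z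
      have h2 := card_le_of_le this
      rw [hE16, Nat.card_zpowers, S.hJ.l.orderOf_z] at h2
      omega
    obtain ⟨s, hs, hs1, hsz⟩ := hb
    let T : Finset G := {1, z, s, z * s}
    have hle : (E : Set G) ⊆ ↑T := fun e he => by
      have := L.fr.commuting_invol (hcon s hs) (hcon e he) (hEsq s hs) (hEsq e he) hs1 hsz
        (hEab e he s hs)
      simpa [T] using this
    have h4 : Nat.card ↥E ≤ 4 := by
      have h5 := Set.ncard_le_ncard hle T.finite_toSet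
      rw [Set.ncard_coe_finset, ← Nat.card_coe_set_eq, SetLike.coe_sort_coe] at h5
      refine h5.trans ((Finset.card_insert_le _ _).trans (Nat.add_le_add_right
        ((Finset.card_insert_le _ _).trans (Nat.add_le_add_right Finset.card_le_two 1)) 1))
    omega
  obtain ⟨h₁, hh₁, eh₁⟩ := invol_conj L (hEH t htE) (hEsq t htE) htQ
  have hEeq : E = D z t := eq_of_le_of_card_ge (fun s hs => mem_D.2 ⟨hEH s hs, hEab s hs t htE⟩)
    (by rw [hE16, eh₁, hcard hh₁])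
  set k := h₁ * h₀⁻¹ with hk
  have hkz : k * z = z * k :=
    ((show Commute h₁ z from hh₁).mul_left (show Commute h₀ z from hh₀).inv_left).eq
  have hkt : k * u * k⁻¹ = t := by
    rw [hk, eh₀, eh₁]; group
  refine ⟨k⁻¹ * w₀, ?_, fun d hd => ?_⟩
  · rw [show k⁻¹ * w₀ * u * (k⁻¹ * w₀)⁻¹ = k⁻¹ * (w₀ * u * w₀⁻¹) * k by group, hw₀,
      mul_assoc, ← hkz, inv_mul_cancel_left]
  · have h1 : w₀ * d * w₀⁻¹ ∈ D z t := hEeq ▸ ⟨d, hd, by simp⟩
    rw [← hkt, D_conj hkz] at h1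
    obtain ⟨s, hs, es⟩ := h1
    rw [show k⁻¹ * w₀ * d * (k⁻¹ * w₀)⁻¹ = k⁻¹ * (w₀ * d * w₀⁻¹) * k by group, ← es]
    simpa [mul_assoc] using hs

omit S cx cz ca in
/-- Normalised generators of `C(z)` and the element of order three. -/
theorem exists_gens_oct (hJ : Hyp Q z) :
    ∃ a x u v h o, Gens Q z a x u v h ∧ Oct z a x u v o := by
  obtain ⟨a, x, u, v, h, S⟩ := exists_gens hJ
  obtain ⟨o, O⟩ := exists_oct S
  exact ⟨a, x, u, v, h, o, S, O⟩

end Cfsg.Agent.J3Local2
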