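import Cfsg.Agent.Lib.J3Setup93

/-!
# Groups of J₃ type: existence of normalised generators

A lift of order three of `(234)` normalising the group `D = C(z) ⊓ C(u)` gives generators acting
exactly on suitably chosen representatives of the five pairs; an element of order three acting
exactly as `(012)` is obtained by correcting signs inside `Q`.
-/

set_option autoImplicit false
set_option synthInstance.maxSize 100000
set_option synthInstance.maxHeartbeats 1000000

namespace Cfsg.Agent.J3Local2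

open Subgroup Cfsg.Agent.LargeExtraspecial Cfsg.Agent.J3TypePoints93 Cfsg.Agent.J3TypeAction93
open Cfsg.Agent.J3TypeFour93 Cfsg.Agent.J3TypeClasses93 Cfsg.Agent.J3Setup93

variable {G : Type*} [Group G] [Finite G] {Q : Subgroup G} {z : G} {a : Fin 5 → G}

/-- An element of `{1, z, a 0, z * a 0}`. -/
def InV (z : G) (a : Fin 5 → G) (w : G) : Prop := w = 1 ∨ w = z ∨ w = a 0 ∨ w = z * a 0

omit [Finite G] in
theorem InV.comm {w g : G} (hw : InV z a w) (gz : g * z = z * g) (ga : g * a 0 = a 0 * g) :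
    g * w = w * g := by
  rcases hw with rfl | rfl | rfl | rfl
  exacts [by simp, gz, ga, ((show Commute g z from gz).mul_right ga).eq]

theorem InV.sq {w : G} (hJ : Hyp Q z) (P : Pts Q z a) (hw : InV z a w) : w * w = 1 := by
  rcases hw with rfl | rfl | rfl | rfl
  · simp
  · exact hJ.l.zz
  · exact P.sq 0
  · rw [← mul_assoc, mul_assoc z (a 0) z, hJ.l.comm _ (P.mem 0), ← mul_assoc z z, hJ.l.zz,
      one_mul, P.sq]

set_option maxRecDepth 100000 in
theorem split_key_aux : ∀ (q : Fin 5) (v : W) (σ : Equiv.Perm (Fin 5)),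
    decide (((σ = σu ∧ q = 2) ∨ (σ = σv ∧ q = 3) ∨ (σ = σu * σv ∧ q = 4)) ∧
      (wsig v 0 = false ∧ ∀ r, wsig v (σ.symm r) = wsig v r)) = true →
    decide (∃ b c : Bool, ∀ r, wsig v r =
      xor (b && decide (r ≠ 0)) (c && xor (decide (r ≠ 1)) (decide (r ≠ q)))) = true := by
  decide +kernel

/-- Two involutions acting alike and centralising `a 0` differ by `{1, z, a 0, z * a 0}` or by that
and one product of two points. -/
theorem invol_split (hJ : Hyp Q z) (P : Pts Q z a) (hmem : ∀ g, Acts z a g 1 → g ∈ Q)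
    {b t : G} {σ : Equiv.Perm (Fin 5)} {q : Fin 5}
    (hq : (σ = σu ∧ q = 2) ∨ (σ = σv ∧ q = 3) ∨ (σ = σu * σv ∧ q = 4))
    (hb : Acts z a b σ) (ht : Acts z a t σ) (b2 : b * b = 1) (t2 : t * t = 1)
    (ba : b * a 0 = a 0 * b) (ta : t * a 0 = a 0 * t) :
    ∃ w, InV z a w ∧ (t = w * b ∨ t = w * (a 1 * a q * b)) := by
  have hσ2 : σ * σ = 1 := by
    rcases hq with ⟨rfl, -⟩ | ⟨rfl, -⟩ | ⟨rfl, -⟩ <;> decide +kernel
  have binv : b⁻¹ = b := inv_eq_of_mul_eq_one_right b2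
  set y := t * b with hyd
  have hy : y ∈ Q := hmem _ (by simpa [hσ2] using acts_mul hJ P ht hb)
  have hty : t = y * b := by rw [hyd, mul_assoc, b2, mul_one]
  have hya : y * a 0 = a 0 * y := ((show Commute t (a 0) from ta).mul_left ba).eq
  have hcomm : ∀ g ∈ Q, g * z = z * g := fun g hg => hJ.l.comm g hg
  obtain ⟨v, hv⟩ := exists_sig hJ P hy
  have h0 : wsig v 0 = false := by
    by_contra hne
    rw [Bool.not_eq_false] at hne
    have e := hv 0
    rw [hne, if_pos rfl, mul_inv_eq_iff_eq_mul.2 hya] at e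
    exact hJ.l.toExt.z_mul_ne _ e.symm
  have hinv : Sig z a y⁻¹ (wsig v) := by
    rcases hJ.l.toExt.sq y hy with e | e
    · rwa [inv_eq_of_mul_eq_one_right e]
    · have e' : y⁻¹ = z * y := inv_eq_of_mul_eq_one_right
        (by rw [← mul_assoc, hcomm y hy, mul_assoc, e, hJ.l.zz])
      rw [e']
      simpa using sig_mul hJ P (sig_z hJ P) hv rfl
  have h1 := sig_conj hJ P hb hv (hcomm y hy)
  have hconj : b * y * b⁻¹ = y⁻¹ := by
    have tinv : t⁻¹ = t := inv_eq_of_mul_eq_one_right t2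
    rw [hyd, mul_inv_rev, tinv, binv]
    calc b * (t * b) * b = b * t * (b * b) := by group
      _ = b * t := by rw [b2, mul_one]
  rw [hconj] at h1
  have h3 := sig_unique hJ P h1 hinv
  obtain ⟨b₀, c₀, hbc⟩ :=
    of_decide_eq_true (split_key_aux q v σ (decide_eq_true ⟨hq, h0, congrFun h3⟩))
  set d := a 1 * a q
  have hdQ : d ∈ Q := Q.mul_mem (P.mem 1) (P.mem q)
  have s1 := sig_mul hJ P (sig_point hJ P 1) (sig_point hJ P q) (hcomm _ (P.mem 1))
  have mk : ∀ w, InV z a w → t = w * (if c₀ then d * b else b) →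
      ∃ w, InV z a w ∧ (t = w * b ∨ t = w * (a 1 * a q * b)) := by
    intro w hw e
    cases c₀
    · exact ⟨w, hw, Or.inl (by simpa using e)⟩
    · exact ⟨w, hw, Or.inr (by simpa using e)⟩
  have hw0 : (if b₀ then a 0 else 1) * (if c₀ then d else 1) ∈ Q := Q.mul_mem
    (by split_ifs; exacts [P.mem 0, Q.one_mem]) (by split_ifs; exacts [hdQ, Q.one_mem])
  have hsig : Sig z a ((if b₀ then a 0 else 1) * (if c₀ then d else 1)) (wsig v) := by
    rw [show wsig v = fun r => xor (b₀ && decide (r ≠ 0))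
      (c₀ && xor (decide (r ≠ 1)) (decide (r ≠ q))) from funext hbc]
    refine sig_mul hJ P (s := fun r => b₀ && decide (r ≠ 0))
      (t := fun r => c₀ && xor (decide (r ≠ 1)) (decide (r ≠ q))) ?_ ?_ ?_
    · cases b₀
      · simpa using sig_one hJ P
      · simpa using sig_point hJ P 0
    · cases c₀
      · simpa using sig_one hJ P
      · simpa using s1
    · split_ifs
      exacts [hcomm _ (P.mem 0), by simp]
  rcases same_of_sig hJ P hy hw0 hv hsig with e | e
  · refine mk (if b₀ then a 0 else 1) ?_ ?_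
    · cases b₀
      exacts [Or.inl rfl, Or.inr (Or.inr (Or.inl rfl))]
    · rw [hty, e]
      cases c₀ <;> simp [mul_assoc]
  · refine mk (z * if b₀ then a 0 else 1) ?_ ?_
    · cases b₀
      exacts [Or.inr (Or.inl (mul_one z)), Or.inr (Or.inr (Or.inr rfl))]
    · rw [hty, e]
      cases c₀ <;> simp [mul_assoc]

section Loc

variable {u u' : G} (L : Loc Q z a u u')
include L

theorem inV_mem {w : G} (hw : InV z a w) : w ∈ D z u := V_le_D L ((mem_V L).2 hw)

omit L in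
theorem D_conj {h : G} (hh : h * z = z * h) {t : G} :
    D z (h * t * h⁻¹) = (D z t).map (MulAut.conj h).toMonoidHom := by
  ext g
  rw [Subgroup.mem_map_equiv, mem_D, mem_D, MulAut.conj_symm_apply]
  have hz : h⁻¹ * z * h = z := by rw [mul_assoc, ← hh, inv_mul_cancel_left]
  constructor
  · rintro ⟨e1, e2⟩
    constructor
    · calc h⁻¹ * g * h * z = h⁻¹ * (g * z) * h := by rw [mul_assoc _ h z, hh]; group
        _ = h⁻¹ * (z * g) * h := by rw [e1]
        _ = (h⁻¹ * z * h) * (h⁻¹ * g * h) := by group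
        _ = z * (h⁻¹ * g * h) := by rw [hz]
    · calc h⁻¹ * g * h * t = h⁻¹ * (g * (h * t * h⁻¹)) * h := by group
        _ = h⁻¹ * ((h * t * h⁻¹) * g) * h := by rw [e2]
        _ = t * (h⁻¹ * g * h) := by group
  · rintro ⟨e1, e2⟩
    constructor
    · calc g * z = h * (h⁻¹ * g * h * (h⁻¹ * z * h)) * h⁻¹ := by group
        _ = h * (z * (h⁻¹ * g * h)) * h⁻¹ := by rw [hz, e1]
        _ = (h * z * h⁻¹) * g := by group
        _ = z * g := by rw [hh, mul_inv_cancel_right]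
    · calc g * (h * t * h⁻¹) = h * (h⁻¹ * g * h * t) * h⁻¹ := by group
        _ = h * (t * (h⁻¹ * g * h)) * h⁻¹ := by rw [e2]
        _ = _ := by group

omit L in
theorem conj_mem_D {h : G} (hh : h * z = z * h) {t g : G} (hg : g ∈ D z t) :
    h * g * h⁻¹ ∈ D z (h * t * h⁻¹) := by
  rw [D_conj hh]
  exact ⟨g, hg, by simp⟩

/-- Every element of `D` outside `Q` determines `D`. -/
theorem D_eq {t : G} (ht : t ∈ D z u) (hQ : t ∉ Q) : D z t = D z u := by
  obtain ⟨hz, -⟩ := mem_D.1 ht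
  obtain ⟨h, hh, e⟩ := invol_conj L hz (D_sq L ht) hQ
  refine (eq_of_le_of_card_ge (fun g hg => mem_D.2 ⟨(mem_D.1 hg).1, D_comm L hg ht⟩) ?_).symm
  rw [e, D_conj hh, card_map_of_injective (MulAut.conj h).injective]

/-- An involution of `C(z) ⊓ C(a 0)` acting like an element of `D` lies in `D` or in its conjugate
by `a 1`. -/
theorem class_D {b t : G} {σ : Equiv.Perm (Fin 5)} {q : Fin 5}
    (hq : (σ = σu ∧ q = 2) ∨ (σ = σv ∧ q = 3) ∨ (σ = σu * σv ∧ q = 4))
    (hbD : b ∈ D z u) (hb : Acts z a b σ) (ht : Acts z a t σ) (t2 : t * t = 1)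
    (ta : t * a 0 = a 0 * t) :
    D z t = D z u ∨ D z t = D z (a 1 * u * (a 1)⁻¹) := by
  have F := L.fr
  have hσ1 : σ ≠ 1 ∧ σ 1 = q := by
    rcases hq with ⟨rfl, rfl⟩ | ⟨rfl, rfl⟩ | ⟨rfl, rfl⟩ <;> decide +kernel
  have hbQ : ∀ {g}, Acts z a g σ → g ∉ Q := fun hg h => hσ1.1 (F.acts_eq_one hg h)
  obtain ⟨w, hw, e | e⟩ := invol_split F.hJ F.pts (fun g hg => F.mem_Q hg) hq hb ht
    (D_sq L hbD) t2 (D_cent_V L hbD) ta
  · exact Or.inl (D_eq L (e ▸ mul_mem (inV_mem L hw) hbD) (hbQ ht))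
  · right
    have h1z : a 1 * z = z * a 1 := F.comm_z (F.pts.mem 1)
    have h1i : (a 1)⁻¹ = a 1 := F.pts.inv_self 1
    have hzD : z ∈ D z u := inV_mem L (Or.inr (Or.inl rfl))
    have haD : a 0 ∈ D z u := inV_mem L (Or.inr (Or.inr (Or.inl rfl)))
    set s := a 1 * t * a 1 with hs
    have hwD : a 1 * w * a 1 ∈ D z u := by
      have e0 : a 1 * a 0 * a 1 = z * a 0 := by
        have := F.pts.anti 1 0 (by decide)
        rwa [h1i] at this
      have ez : a 1 * z * a 1 = z := by rw [h1z, mul_assoc, F.pts.sq, mul_one]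
      rcases hw with rfl | rfl | rfl | rfl
      · rw [mul_one, F.pts.sq]; exact one_mem _
      · rw [ez]; exact hzD
      · rw [e0]; exact mul_mem hzD haD
      · rw [show a 1 * (z * a 0) * a 1 = (a 1 * z) * a 0 * a 1 by group, h1z,
          show z * a 1 * a 0 * a 1 = z * (a 1 * a 0 * a 1) by group, e0, F.ext.z_mul_z_mul]
        exact haD
    have hbb : a 1 * (a 1 * a q * b) * a 1 ∈ D z u := by
      rw [show a 1 * (a 1 * a q * b) * a 1 = (a 1 * a 1) * a q * (b * a 1 * b⁻¹) * b by group,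
        F.pts.sq, one_mul]
      rcases hb.2 1 with e' | e' <;> rw [e', hσ1.2]
      · rw [F.pts.sq, one_mul]; exact hbD
      · rw [← mul_assoc, F.comm_z (F.pts.mem q), mul_assoc z, F.pts.sq, mul_one]
        exact mul_mem hzD hbD
    have hsD : s ∈ D z u := by
      rw [hs, e, show a 1 * (w * (a 1 * a q * b)) * a 1 =
        a 1 * w * a 1 * ((a 1)⁻¹ * (a 1 * a q * b) * a 1) by group]
      rw [h1i]
      exact mul_mem hwD hbb
    have hts : t = a 1 * s * (a 1)⁻¹ := by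
      rw [hs, h1i, show a 1 * (a 1 * t * a 1) * a 1 = (a 1 * a 1) * t * (a 1 * a 1) by group,
        F.pts.sq, one_mul, mul_one]
    have hsQ : s ∉ Q := fun h => hbQ ht
      (hts ▸ Q.mul_mem (Q.mul_mem (F.pts.mem 1) h) (Q.inv_mem (F.pts.mem 1)))
    rw [hts, D_conj h1z, D_eq L hsD hsQ, ← D_conj h1z]

set_option maxRecDepth 100000 in
omit L [Finite G] in
theorem perm_facts : σ0 = σu ∧ σ1 = σu * σv ∧ σx ^ 64 = σx ∧ σx ^ 3 = 1 ∧
    σx * σ0 * σx⁻¹ = σv ∧ σx⁻¹ * σ0 * σx = σu * σv ∧ σ0 * σ1 = σv ∧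
      σv * (σu * σv) = σu ∧ σx * σu * σx⁻¹ = σv := by decide +kernel

/-- A lift of order three of `(234)` normalising `D`. -/
theorem exists_k : ∃ k : G, k * k * k = 1 ∧ Acts z a k σx ∧ k * a 0 = a 0 * k ∧
    ∀ g ∈ D z u, k * g * k⁻¹ ∈ D z u := by
  have F := L.fr
  obtain ⟨f0, f1, f64, f3, fc, fc', f01, -, -⟩ := perm_facts
  obtain ⟨g, hg, hga⟩ : ∃ g, Acts z a g σx ∧ g * a 0 = a 0 * g := by
    obtain ⟨g, hg⟩ := F.lift (σ := σx) (by decide)
    have e := hg.2 0
    rw [show σx 0 = 0 by decide] at e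
    rcases e with e | e
    · exact ⟨g, hg, mul_inv_eq_iff_eq_mul.1 e⟩
    · have hg' : Acts z a (g * a 1) σx := by
        simpa using acts_mul F.hJ F.pts hg (acts_of_mem F.hJ F.pts (F.pts.mem 1))
      refine ⟨g * a 1, hg', mul_inv_eq_iff_eq_mul.1 ?_⟩
      rw [show g * a 1 * a 0 * (g * a 1)⁻¹ = g * (a 1 * a 0 * (a 1)⁻¹) * g⁻¹ by group,
        F.pts.anti 1 0 (by decide), ← mul_assoc g z, hg.1,
        show z * g * a 0 * g⁻¹ = z * (g * a 0 * g⁻¹) by group, e, F.ext.z_mul_z_mul]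
  set k := g ^ 64
  have hk : Acts z a k σx := by simpa [f64] using acts_pow F.hJ F.pts hg 64
  have hka : k * a 0 = a 0 * k := ((show Commute g (a 0) from hga).pow_left 64).eq
  have hk3 : k * k * k = 1 := by
    have hq : g ^ 3 ∈ Q := F.mem_Q (by simpa [f3] using acts_pow F.hJ F.pts hg 3)
    have h32 : (g ^ 3) ^ 32 = 1 := by
      have := congrArg Subtype.val (pow_card_eq_one' (x := (⟨g ^ 3, hq⟩ : Q)))
      rwa [F.hJ.cardQ] at this
    calc k * k * k = ((g ^ 3) ^ 32) ^ 2 := by simp only [k, ← pow_mul, ← pow_add]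
      _ = 1 := by rw [h32, one_pow]
  refine ⟨k, hk3, hk, hka, ?_⟩
  have kz : k * z = z * k := hk.1
  have kiz : k⁻¹ * z = z * k⁻¹ := (show Commute k z from kz).inv_left.eq
  have cu : Commute u (a 0) := L.fix
  have ck : Commute k (a 0) := hka
  have hki := acts_inv F.hJ F.pts hk
  have h1 := class_D L (b := u * u') (t := k * u * k⁻¹) (σ := σv) (q := 3)
    (Or.inr (Or.inl ⟨rfl, rfl⟩)) (d4_mem L 3).1 (f01 ▸ acts_mul F.hJ F.pts L.acts L.acts')
    (fc ▸ acts_conj F.hJ F.pts hk L.acts)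
    (by rw [show k * u * k⁻¹ * (k * u * k⁻¹) = k * (u * u) * k⁻¹ by group, L.sq]; group)
    (((ck.mul_left cu).mul_left ck.inv_left).eq)
  have h2 := class_D L (b := u') (t := k⁻¹ * u * k) (σ := σu * σv) (q := 4)
    (Or.inr (Or.inr ⟨rfl, rfl⟩)) (d4_mem L 2).1 (f1 ▸ L.acts')
    (by
      have := acts_conj F.hJ F.pts hki L.acts
      rwa [inv_inv, inv_inv, fc'] at this)
    (by rw [show k⁻¹ * u * k * (k⁻¹ * u * k) = k⁻¹ * (u * u) * k by group, L.sq]; group)
    (((ck.inv_left.mul_left cu).mul_left ck).eq)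
  have fwd : ∀ {g}, g ∈ D z u → k * g * k⁻¹ ∈ D z (k * u * k⁻¹) := conj_mem_D kz
  have bwd : ∀ {g}, g ∈ D z u → k⁻¹ * g * k ∈ D z (k⁻¹ * u * k) := fun hg => by
    simpa using conj_mem_D kiz hg
  have hk2 : ∀ g : G, k⁻¹ * (k⁻¹ * g * k) * k = k * g * k⁻¹ := fun g => by
    have e : k⁻¹ * k⁻¹ = k := by
      rw [← mul_inv_rev]
      exact inv_eq_of_mul_eq_one_right hk3
    calc k⁻¹ * (k⁻¹ * g * k) * k = (k⁻¹ * k⁻¹) * g * (k⁻¹ * k⁻¹)⁻¹ := by simp [mul_assoc]
      _ = _ := by rw [e]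
  rcases h1 with h1 | h1
  · exact fun g hg => h1 ▸ fwd hg
  rcases h2 with h2 | h2
  · intro g hg
    rw [← hk2]
    exact h2 ▸ bwd (h2 ▸ bwd hg)
  · -- both images are the same conjugate
    have e2 : D z u = D z (k * (k * u * k⁻¹) * k⁻¹) → ∀ g ∈ D z u, k * g * k⁻¹ ∈ D z u := by
      intro e g hg
      have back : ∀ {g}, g ∈ D z u → k⁻¹ * g * k ∈ D z u := fun {g} hg => by
        have hh : k * k * z = z * (k * k) := ((show Commute k z from kz).mul_left kz).eq
        have h5 := conj_mem_D hh hg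
        rw [show k * k * u * (k * k)⁻¹ = k * (k * u * k⁻¹) * k⁻¹ by group, ← e] at h5
        rwa [show k * k = k⁻¹ from eq_inv_of_mul_eq_one_left hk3, inv_inv] at h5
      rw [← hk2]
      exact back (back hg)
    have heq : D z (k * u * k⁻¹) = D z (k⁻¹ * u * k) := h1.trans h2.symm
    refine e2 ?_
    have h6 := congrArg (Subgroup.map (MulAut.conj k).toMonoidHom) heq
    rw [← D_conj kz, ← D_conj kz, show k * (k⁻¹ * u * k) * k⁻¹ = u by group] at h6
    exact h6.symm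

end Loc

theorem relabel (hJ : Hyp Q z) (P : Pts Q z a) {a' : Fin 5 → G}
    (h : ∀ p, Same z a (a' p) p) (hc : ∀ p, IsConj z (a' p)) : Pts Q z a' := by
  have hzz : z * z = 1 := hJ.l.zz
  have hcz : ∀ p, a p * z = z * a p := fun p => hJ.l.comm _ (P.mem p)
  have hmem : ∀ p, a' p ∈ Q := fun p => by
    rcases h p with e | e <;> rw [e]
    exacts [P.mem _, Q.mul_mem hJ.l.mem (P.mem _)]
  have hanti : ∀ p q, p ≠ q → a' p * a' q * (a' p)⁻¹ = z * a' q := by
    intro p q hne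
    have h1 : ∀ w, a p * (z * w) * (a p)⁻¹ = z * (a p * w * (a p)⁻¹) := fun w => by
      rw [← mul_assoc (a p) z, hcz]; group
    have key : a p * a' q * (a p)⁻¹ = z * a' q := by
      rcases h q with e' | e' <;> rw [e']
      · exact P.anti p q hne
      · rw [h1, P.anti p q hne]
    rcases h p with e' | e' <;> rw [e']
    · exact key
    · rw [show z * a p * a' q * (z * a p)⁻¹ = z * (a p * a' q * (a p)⁻¹) * z⁻¹ by group, key,
        ← hJ.l.comm _ (Q.mul_mem hJ.l.mem (hmem q)), mul_inv_cancel_right]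
  refine ⟨hmem, fun p => ?_, hc, fun w hw hw2 => ?_, hanti, fun p => ?_⟩
  · rcases h p with e | e <;> rw [e]
    · exact P.sq _
    · rw [show z * a p * (z * a p) = z * (a p * z) * a p by group, hcz, ← mul_assoc z z, hzz,
        one_mul, P.sq]
  · rcases P.inv_cases w hw hw2 with e | e | ⟨p, e⟩
    · exact Or.inl e
    · exact Or.inr (Or.inl e)
    · refine Or.inr (Or.inr ⟨p, ?_⟩)
      rcases h p with e' | e' <;> rcases e with e | e <;> rw [e, e']
      · exact Or.inl rfl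
      · exact Or.inr rfl
      · exact Or.inr (hJ.l.z_mul_z_mul _).symm
      · exact Or.inl rfl
  · refine ⟨?_, ?_⟩
    · intro e
      have h1 := hc p
      rw [e, isConj_one_left] at h1
      exact hJ.l.ne_one h1
    · intro e
      rcases h p with e' | e' <;> rw [e'] at e
      · exact (P.ne p).2 e
      · exact (P.ne p).1 (mul_eq_left.1 e)

theorem acts_iff_relabel (hJ : Hyp Q z) (P : Pts Q z a) {a' : Fin 5 → G}
    (h : ∀ p, Same z a (a' p) p) {g : G} {σ : Equiv.Perm (Fin 5)} (hg : Acts z a' g σ) :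
    Acts z a g σ := by
  obtain ⟨τ, hτ⟩ := exists_acts hJ P hg.1
  have e : σ = τ := by
    refine Equiv.ext fun p => same_inj hJ P (?_ : Same z a (g * a' p * g⁻¹) (σ p)) ?_
    · rcases hg.2 p with e | e <;> rw [e] <;> rcases h (σ p) with e' | e' <;> rw [e']
      exacts [Or.inl rfl, Or.inr rfl, Or.inr rfl, Or.inl (hJ.l.z_mul_z_mul _)]
    · exact conj_same hJ P hg.1 (h p) (hτ.2 p)
  exact e ▸ hτ

/-- Generators without the element acting as `(012)`. -/
structure Pre (Q : Subgroup G) (z : G) (a : Fin 5 → G) (x u v : G) : Prop where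
  hJ : Hyp Q z
  pts : Pts Q z a
  mem_Q : ∀ g, Acts z a g 1 → g ∈ Q
  lift : ∀ σ, Equiv.Perm.sign σ = 1 → ∃ g, Acts z a g σ
  even : ∀ g σ, Acts z a g σ → Equiv.Perm.sign σ = 1
  a0 : a 0 = a 1 * a 2 * a 3 * a 4
  x3 : x * x * x = 1
  uu : u * u = 1
  vv : v * v = 1
  uv : u * v = v * u
  xu : x * u * x⁻¹ = v
  xv : x * v * x⁻¹ = u * v
  eu : Exact z a u σu
  ev : Exact z a v σv
  ex : Exact z a x σx

theorem exists_pre (hJ : Hyp Q z) : ∃ a x u v, Pre Q z a x u v := by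
  classical
  obtain ⟨a, u₀, u₀', L⟩ := exists_loc hJ
  have F := L.fr
  have P := F.pts
  obtain ⟨f0, f1, -, -, fc, fc', -, fprod, fxu⟩ := perm_facts
  obtain ⟨x, hx3, hx, hxa, hxD⟩ := exists_k L
  have hxz : x * z = z * x := hx.1
  have hu0D : u₀ ∈ D z u₀ := (d4_mem L 1).1
  set p₁ := x * u₀ * x⁻¹ with hp₁
  set p₂ := x * p₁ * x⁻¹ with hp₂
  have hp₁D : p₁ ∈ D z u₀ := hxD _ hu0D
  have hp₂D : p₂ ∈ D z u₀ := hxD _ hp₁D
  have hp₂' : p₂ = x⁻¹ * u₀ * x := by
    have e : x * x = x⁻¹ := eq_inv_of_mul_eq_one_left hx3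
    rw [hp₂, hp₁, show x * (x * u₀ * x⁻¹) * x⁻¹ = (x * x) * u₀ * (x * x)⁻¹ by group, e, inv_inv]
  have hp₃ : x * p₂ * x⁻¹ = u₀ := by rw [hp₂']; group
  set u := p₁ * p₂ with hu_def
  set v := p₂ * u₀ with hv_def
  have hD : ∀ g ∈ D z u₀, ∀ g' ∈ D z u₀, g * g' = g' * g := fun _ h _ h' => D_comm L h h'
  have huD : u ∈ D z u₀ := mul_mem hp₁D hp₂D
  have hvD : v ∈ D z u₀ := mul_mem hp₂D hu0D
  have huv' : u * v = p₁ * u₀ := by
    rw [hu_def, hv_def, show p₁ * p₂ * (p₂ * u₀) = p₁ * (p₂ * p₂) * u₀ by group, D_sq L hp₂D,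
      mul_one]
  have hxu : x * u * x⁻¹ = v := by
    rw [hu_def, hv_def, show x * (p₁ * p₂) * x⁻¹ = (x * p₁ * x⁻¹) * (x * p₂ * x⁻¹) by group,
      ← hp₂, hp₃]
  have hxv : x * v * x⁻¹ = u * v := by
    rw [huv', hv_def, show x * (p₂ * u₀) * x⁻¹ = (x * p₂ * x⁻¹) * (x * u₀ * x⁻¹) by group, hp₃,
      ← hp₁]
    exact hD _ hu0D _ hp₁D
  have hxi := acts_inv hJ P hx
  have a1 : Acts z a p₁ σv := fc ▸ acts_conj hJ P hx L.acts
  have a2 : Acts z a p₂ (σu * σv) := by
    rw [hp₂', ← fc']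
    have := acts_conj hJ P hxi L.acts
    rwa [inv_inv, inv_inv] at this
  have hau : Acts z a u σu := fprod ▸ acts_mul hJ P a1 a2
  have hav : Acts z a v σv := by
    have := acts_conj hJ P hx hau
    rwa [hxu, fxu] at this
  have hauv : Acts z a (u * v) (σu * σv) := acts_mul hJ P hau hav
  have hzD : ∀ g ∈ D z u₀, g * z = z * g := fun g hg => (mem_D.1 hg).1
  have haD : ∀ g ∈ D z u₀, g * a 0 * g⁻¹ = a 0 := fun g hg =>
    mul_inv_eq_iff_eq_mul.2 (D_cent_V L hg)
  set b := a 1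
  let c : Fin 5 → G := ![a 0, b, u * b * u⁻¹, v * b * v⁻¹, u * v * b * (u * v)⁻¹]
  have hsame : ∀ p, Same z a (c p) p := by
    intro p
    fin_cases p
    · exact Or.inl rfl
    · exact Or.inl rfl
    · exact hau.2 1
    · exact hav.2 1
    · exact hauv.2 1
  have hxb : x * b * x⁻¹ = b := by
    have h1 : Same z a (x * b * x⁻¹) 1 := hx.2 1
    rcases h1 with e | e
    · exact e
    · exfalso
      refine F.ext.z_mul_ne b ?_
      have hz1 : ∀ w, x * (z * w) * x⁻¹ = z * (x * w * x⁻¹) := fun w => by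
        rw [← mul_assoc x z, hxz]; group
      calc z * b = x * (x * (x * b * x⁻¹) * x⁻¹) * x⁻¹ := by
            rw [e, hz1, e, F.ext.z_mul_z_mul, e]
        _ = (x * x * x) * b * (x * x * x)⁻¹ := by group
        _ = b := by rw [hx3]; group
  have hbconj : ∀ w : G, IsConj z (w * b * w⁻¹) := fun w =>
    (P.conj 1).trans (isConj_iff.2 ⟨w, rfl⟩)
  have Pc : Pts Q z c := relabel hJ P hsame (fun p => by
    fin_cases p
    exacts [P.conj 0, P.conj 1, hbconj u, hbconj v, hbconj (u * v)])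
  have huu : u * u = 1 := D_sq L huD
  have hvv : v * v = 1 := D_sq L hvD
  have huv : u * v = v * u := hD _ huD _ hvD
  have hcc : ∀ p q : G, p * (q * b * q⁻¹) * p⁻¹ = p * q * b * (p * q)⁻¹ := fun p q => by group
  have hxq : ∀ q : G, x * (q * b * q⁻¹) * x⁻¹ = (x * q * x⁻¹) * b * (x * q * x⁻¹)⁻¹ := fun q => by
    calc x * (q * b * q⁻¹) * x⁻¹ = (x * q * x⁻¹) * (x * b * x⁻¹) * (x * q * x⁻¹)⁻¹ := by group
      _ = _ := by rw [hxb]
  have eu : Exact z c u σu := by
    refine ⟨hzD u huD, fun p => ?_⟩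
    fin_cases p
    · exact haD u huD
    · rfl
    · show u * (u * b * u⁻¹) * u⁻¹ = b
      rw [hcc, huu]; group
    · show u * (v * b * v⁻¹) * u⁻¹ = u * v * b * (u * v)⁻¹
      rw [hcc]
    · show u * (u * v * b * (u * v)⁻¹) * u⁻¹ = v * b * v⁻¹
      rw [hcc, ← mul_assoc, huu, one_mul]
  have ev : Exact z c v σv := by
    refine ⟨hzD v hvD, fun p => ?_⟩
    fin_cases p
    · exact haD v hvD
    · rfl
    · show v * (u * b * u⁻¹) * v⁻¹ = u * v * b * (u * v)⁻¹
      rw [hcc, ← huv]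
    · show v * (v * b * v⁻¹) * v⁻¹ = b
      rw [hcc, hvv]; group
    · show v * (u * v * b * (u * v)⁻¹) * v⁻¹ = u * b * u⁻¹
      rw [hcc, huv, ← mul_assoc, hvv, one_mul]
  have ex : Exact z c x σx := by
    refine ⟨hxz, fun p => ?_⟩
    fin_cases p
    · exact mul_inv_eq_iff_eq_mul.2 hxa
    · exact hxb
    · show x * (u * b * u⁻¹) * x⁻¹ = v * b * v⁻¹
      rw [hxq, hxu]
    · show x * (v * b * v⁻¹) * x⁻¹ = u * v * b * (u * v)⁻¹
      rw [hxq, hxv]
    · show x * (u * v * b * (u * v)⁻¹) * x⁻¹ = u * b * u⁻¹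
      rw [hxq, show x * (u * v) * x⁻¹ = (x * u * x⁻¹) * (x * v * x⁻¹) by group, hxu, hxv, huv,
        ← mul_assoc, hvv, one_mul]
  have hprod : c 1 * c 2 * c 3 * c 4 = c 0 ∨ c 1 * c 2 * c 3 * c 4 = z * c 0 := by
    have hm : ∀ p, c p ∈ Q := Pc.mem
    have s12 := sig_mul hJ Pc (sig_point hJ Pc 1) (sig_point hJ Pc 2) (hJ.l.comm _ (hm 1))
    have s123 := sig_mul hJ Pc s12 (sig_point hJ Pc 3)
      (hJ.l.comm _ (Q.mul_mem (hm 1) (hm 2)))
    have s := sig_mul hJ Pc s123 (sig_point hJ Pc 4)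
      (hJ.l.comm _ (Q.mul_mem (Q.mul_mem (hm 1) (hm 2)) (hm 3)))
    refine same_of_sig hJ Pc (Q.mul_mem (Q.mul_mem (Q.mul_mem (hm 1) (hm 2)) (hm 3)) (hm 4))
      (hm 0) ?_ (sig_point hJ Pc 0)
    convert s using 1
    exact funext (by decide)
  have mk : ∀ (d : Fin 5 → G), (∀ p, Same z a (d p) p) → Pts Q z d →
      d 0 = d 1 * d 2 * d 3 * d 4 → Exact z d u σu → Exact z d v σv → Exact z d x σx →
      Pre Q z d x u v := by
    intro d hs hP h0 e1 e2 e3
    refine { hJ := hJ, pts := hP, mem_Q := ?_, lift := ?_, even := ?_, a0 := h0, x3 := hx3,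
             uu := huu, vv := hvv, uv := huv, xu := hxu, xv := hxv, eu := e1, ev := e2, ex := e3 }
    · exact fun g hg => F.mem_Q (acts_iff_relabel hJ P hs hg)
    · intro σ hσ
      obtain ⟨g, hg⟩ := F.lift hσ
      obtain ⟨τ, hτ⟩ := exists_acts hJ hP hg.1
      exact ⟨g, acts_unique hJ P (acts_iff_relabel hJ P hs hτ) hg ▸ hτ⟩
    · exact fun g σ hg => F.even (acts_iff_relabel hJ P hs hg)
  rcases hprod with e | e
  · exact ⟨c, x, u, v, mk c hsame Pc e.symm eu ev ex⟩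
  set d := Function.update c 0 (z * a 0) with hd
  have hd0 : d 0 = z * a 0 := by simp [hd]
  have hdp : ∀ p, p ≠ 0 → d p = c p := fun p hp => by simp [hd, hp]
  have hsame' : ∀ p, Same z a (d p) p := fun p => by
    by_cases hp : p = 0
    · subst hp; rw [hd0]; exact Or.inr rfl
    · rw [hdp p hp]; exact hsame p
  have Pd : Pts Q z d := relabel hJ P hsame' (fun p => by
    by_cases hp : p = 0
    · subst hp
      rw [hd0, ← P.anti 1 0 (by decide)]
      exact (P.conj 0).trans (isConj_iff.2 ⟨a 1, rfl⟩)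
    · rw [hdp p hp]; exact Pc.conj p)
  have hex : ∀ (g : G) (σ : Equiv.Perm (Fin 5)), σ 0 = 0 → Exact z c g σ → Exact z d g σ := by
    intro g σ hσ0 hg
    refine ⟨hg.1, fun p => ?_⟩
    by_cases hp : p = 0
    · subst hp
      have h0 : g * a 0 * g⁻¹ = a 0 := by
        have h0' := hg.2 0
        rwa [hσ0] at h0'
      rw [hσ0, hd0, ← mul_assoc g z, hg.1,
        show z * g * a 0 * g⁻¹ = z * (g * a 0 * g⁻¹) by group, h0]
    · rw [hdp p hp, hdp (σ p) fun e' => hp (σ.injective (e'.trans hσ0.symm))]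
      exact hg.2 p
  refine ⟨d, x, u, v, mk d hsame' Pd ?_ (hex u σu (by decide) eu) (hex v σv (by decide) ev)
    (hex x σx (by decide) ex)⟩
  rw [hd0, hdp 1 (by decide), hdp 2 (by decide), hdp 3 (by decide), hdp 4 (by decide)]
  exact e.symm

/-! ### The element acting as `(012)` -/

/-- `1` or `z`. -/
def Zb (z : G) (b : Bool) : G := if b then z else 1

/-- `g` centralises `z` and sends `a p` to `Zb (t p) * a (σ p)`. -/
def SAct (z : G) (a : Fin 5 → G) (g : G) (σ : Equiv.Perm (Fin 5)) (t : Fin 5 → Bool) : Prop :=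
  g * z = z * g ∧ ∀ p, g * a p * g⁻¹ = Zb z (t p) * a (σ p)

omit [Finite G] in
theorem Zb_conj {g : G} (hg : g * z = z * g) (b : Bool) : g * Zb z b * g⁻¹ = Zb z b := by
  cases b
  · simp [Zb]
  · simp [Zb, hg]

set_option maxRecDepth 100000 in
theorem sign_choice : ∀ s : Fin 5 → Bool, s 3 = false → s 4 = false →
    xor (s 0) (xor (s 1) (s 2)) = false →
    ∃ w : W, ∀ p : Fin 5, xor (wsig w p) (xor (s p) (wsig w (σh p))) = false := by
  decide +kernel

theorem Zb_mul (hJ : Hyp Q z) (b c : Bool) : Zb z b * Zb z c = Zb z (xor b c) := by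
  cases b <;> cases c <;> simp [Zb, hJ.l.zz]

theorem sact_mul (hJ : Hyp Q z) {g k : G} {σ τ : Equiv.Perm (Fin 5)} {s t : Fin 5 → Bool}
    (hg : SAct z a g σ s) (hk : SAct z a k τ t) :
    SAct z a (g * k) (σ * τ) fun p => xor (t p) (s (τ p)) := by
  refine ⟨((show Commute g z from hg.1).mul_left hk.1).eq, fun p => ?_⟩
  rw [show g * k * a p * (g * k)⁻¹ = g * (k * a p * k⁻¹) * g⁻¹ by group, hk.2,
    show g * (Zb z (t p) * a (τ p)) * g⁻¹ = (g * Zb z (t p) * g⁻¹) * (g * a (τ p) * g⁻¹) by group,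
    Zb_conj hg.1, hg.2, ← mul_assoc, Zb_mul hJ]
  rfl

/-- An element of order three acting exactly as `(012)`. -/
theorem exists_h {x u v : G} (S : Pre Q z a x u v) : ∃ h : G, h * h * h = 1 ∧ Exact z a h σh := by
  have hJ := S.hJ
  obtain ⟨g, hg⟩ := S.lift σh (by decide)
  set k := g ^ 64
  have hk : Acts z a k σh := by
    have e : σh ^ 64 = σh := by decide +kernel
    have := acts_pow hJ S.pts hg 64
    rwa [e] at this
  have hk3 : k * k * k = 1 := by
    have hq : g ^ 3 ∈ Q := S.mem_Q _ (by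
      have e : σh ^ 3 = 1 := by decide +kernel
      have := acts_pow hJ S.pts hg 3
      rwa [e] at this)
    have h32 : (g ^ 3) ^ 32 = 1 := by
      have := congrArg Subtype.val (pow_card_eq_one' (x := (⟨g ^ 3, hq⟩ : Q)))
      rwa [hJ.cardQ] at this
    calc k * k * k = ((g ^ 3) ^ 32) ^ 2 := by simp only [k, ← pow_mul, ← pow_add]
      _ = 1 := by rw [h32, one_pow]
  choose s hs using fun p => show ∃ b, k * a p * k⁻¹ = Zb z b * a (σh p) by
    rcases hk.2 p with e | e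
    · exact ⟨false, by simpa [Zb] using e⟩
    · exact ⟨true, by simpa [Zb] using e⟩
  have hK : SAct z a k σh s := ⟨hk.1, hs⟩
  have h3 := sact_mul hJ (sact_mul hJ hK hK) hK
  rw [hk3] at h3
  have f : ∀ p, xor (s p) (xor (s (σh p)) (s (σh (σh p)))) = false := fun p => by
    have e := h3.2 p
    rw [show (σh * σh * σh) p = p from (by decide +kernel :
      ∀ p : Fin 5, (σh * σh * σh) p = p) p, one_mul, inv_one, mul_one] at e
    have e' := mul_eq_right.1 e.symm
    cases hb : xor (s p) (xor (s (σh p)) (s (σh (σh p))))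
    · rfl
    · simp only [hb] at e'
      exact absurd (by simpa [Zb] using e') hJ.l.ne_one
  have f0 := f 0
  have f3 := f 3
  have f4 := f 4
  simp only [show σh 0 = 1 by decide, show σh 1 = 2 by decide] at f0
  simp only [show σh 3 = 3 by decide, Bool.xor_self, Bool.xor_false] at f3
  simp only [show σh 4 = 4 by decide, Bool.xor_self, Bool.xor_false] at f4
  obtain ⟨w, hw⟩ := sign_choice s f3 f4 f0
  set q := word a w
  have hq : q ∈ Q := word_mem S.pts w
  have hqz : q * z = z * q := hJ.l.comm q hq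
  have hsig : SAct z a q 1 (wsig w) :=
    ⟨hqz, fun p => by rw [sig_word hJ S.pts w p]; cases wsig w p <;> simp [Zb]⟩
  have hsigi : SAct z a q⁻¹ 1 (wsig w) := by
    refine ⟨(show Commute q z from hqz).inv_left.eq, fun p => ?_⟩
    have e := hsig.2 p
    simp only [Equiv.Perm.one_apply] at e ⊢
    have e2 : q⁻¹ * (Zb z (wsig w p) * a p) * q⁻¹⁻¹ = a p := by rw [← e]; group
    rw [show q⁻¹ * (Zb z (wsig w p) * a p) * q⁻¹⁻¹ =
      (q⁻¹ * Zb z (wsig w p) * q⁻¹⁻¹) * (q⁻¹ * a p * q⁻¹⁻¹) by group,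
      Zb_conj (show Commute q z from hqz).inv_left.eq] at e2
    calc q⁻¹ * a p * q⁻¹⁻¹
        = (Zb z (wsig w p) * Zb z (wsig w p)) * (q⁻¹ * a p * q⁻¹⁻¹) := by
          rw [Zb_mul hJ, Bool.xor_self]; simp [Zb]
      _ = Zb z (wsig w p) * a p := by rw [mul_assoc, e2]
  refine ⟨q * k * q⁻¹, ?_, ?_⟩
  · calc q * k * q⁻¹ * (q * k * q⁻¹) * (q * k * q⁻¹) = q * (k * k * k) * q⁻¹ := by group
      _ = 1 := by rw [hk3]; group
  · have h := sact_mul hJ (sact_mul hJ hsig hK) hsigi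
    refine ⟨h.1, fun p => ?_⟩
    rw [h.2 p]
    show Zb z (xor (wsig w p) (xor (s p) (wsig w (σh p)))) * a (σh p) = a (σh p)
    simp [Zb, hw p]

/-- Normalised generators of `C(z)` exist. -/
theorem exists_gens (hJ : Hyp Q z) : ∃ a x u v h, Gens Q z a x u v h := by
  obtain ⟨a, x, u, v, S⟩ := exists_pre hJ
  obtain ⟨h, h3, eh⟩ := exists_h S
  exact ⟨a, x, u, v, h,
    { hJ := hJ, pts := S.pts, mem_Q := S.mem_Q, lift := S.lift, even := S.even, a0 := S.a0,
      x3 := S.x3, h3 := h3, uu := S.uu, vv := S.vv, uv := S.uv, xu := S.xu, xv := S.xv,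
      eu := S.eu, ev := S.ev, ex := S.ex, eh := eh }⟩

end Cfsg.Agent.J3Local2
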