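import Cfsg.Agent.Lib.HJPatternExtraspecial
import Cfsg.Agent.Lib.PGroupsExtraspecial
import Cfsg.Prelude.Def_Sporadic
import Mathlib.GroupTheory.SpecificGroups.Alternating.Simple

/-! The centraliser of an involution in a group of J₃ type: minus type, constraint, and the
2-elements have order at most eight. -/

set_option autoImplicit false

namespace Cfsg.Agent.J3Local9

open Subgroup
open scoped commutatorElement

variable {G : Type*} [Group G] {t : G} {E A : Subgroup ↥(centralizer ({t} : Set G))}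

/-- The hypotheses. -/
structure Setting (t : G) (E A : Subgroup ↥(centralizer ({t} : Set G))) : Prop where
  one : ∀ x y : G, orderOf x = 2 → orderOf y = 2 → IsConj x y
  inv : orderOf t = 2
  nrm : E.Normal
  ext : Cfsg.IsExtraspecial 2 ↥E
  card : Nat.card ↥E = 32
  compl : E.IsComplement' A
  top : Nonempty (↥A ≃* ↥(alternatingGroup (Fin 5)))

theorem card_alt : Nat.card ↥(alternatingGroup (Fin 5)) = 60 := by
  rw [nat_card_alternatingGroup, Nat.card_fin]
  rfl

theorem alt_four : ∀ a : ↥(alternatingGroup (Fin 5)), a ^ 4 = 1 → a ^ 2 = 1 := by decide +kernel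

theorem alt_sixteen (a : ↥(alternatingGroup (Fin 5))) (h : a ^ 16 = 1) : a ^ 2 = 1 := by
  have h8 : a ^ 8 = 1 := by
    have := alt_four (a ^ 4) (by rw [← pow_mul]; exact h)
    rw [← pow_mul] at this; exact this
  have h4 : a ^ 4 = 1 := by
    have := alt_four (a ^ 2) (by rw [← pow_mul]; exact h8)
    rw [← pow_mul] at this; exact this
  exact alt_four a h4

/-- A Klein four-group in the alternating group of degree five, as a set. -/
def klein : Finset ↥(alternatingGroup (Fin 5)) :=
  Finset.univ.filter fun a => (a : Equiv.Perm (Fin 5)) 4 = 4 ∧ a * a = 1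

theorem klein_pairs :
    ∀ x ∈ klein, ∀ y ∈ klein, x * y ∈ klein ∧ x * y = y * x := by decide +kernel

theorem klein_sq : ∀ x ∈ klein, x * x = 1 := fun _ hx => (Finset.mem_filter.1 hx).2.2

theorem klein_card : klein.card = 4 := by decide +kernel

theorem klein_ne : ∃ v ∈ klein, v ≠ 1 := by
  by_contra h
  push Not at h
  have : klein ⊆ {1} := fun x hx => Finset.mem_singleton.2 (h x hx)
  have := Finset.card_le_card this
  rw [klein_card, Finset.card_singleton] at this
  omega

theorem alt_klein : ∃ V : Subgroup ↥(alternatingGroup (Fin 5)), Nat.card V = 4 ∧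
    ∃ v ∈ V, v ≠ 1 ∧ ∀ w ∈ V, w * w = 1 ∧ Commute v w := by
  obtain ⟨v, hv, hv1⟩ := klein_ne
  have h1 : (1 : ↥(alternatingGroup (Fin 5))) ∈ klein := by
    rw [← klein_sq v hv]
    exact (klein_pairs v hv v hv).1
  let V : Subgroup ↥(alternatingGroup (Fin 5)) :=
    { carrier := klein
      one_mem' := h1
      mul_mem' := fun {x y} hx hy => (klein_pairs x hx y hy).1
      inv_mem' := fun {x} hx => by rw [inv_eq_of_mul_eq_one_left (klein_sq x hx)]; exact hx }
  refine ⟨V, ?_, v, hv, hv1, fun w hw => ⟨klein_sq w hw, (klein_pairs v hv w hw).2⟩⟩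
  rw [← klein_card]
  exact Nat.card_eq_finsetCard klein

section
variable (S : Setting t E A)
include S

theorem disj : E ⊓ A = ⊥ := disjoint_iff.1 S.compl.disjoint

theorem card_C : Nat.card ↥(centralizer ({t} : Set G)) = 1920 := by
  obtain ⟨e⟩ := S.top
  rw [← S.compl.card_mul_card, S.card, Nat.card_congr e.toEquiv, card_alt]

theorem exists_toAlt : ∃ f : ↥(centralizer ({t} : Set G)) →* ↥(alternatingGroup (Fin 5)),
    f.ker = E ∧ Function.Surjective f := by
  obtain ⟨e⟩ := S.top
  haveI := S.nrm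
  have hb : Function.Bijective ((QuotientGroup.mk' E).comp A.subtype) := by
    constructor
    · rw [← MonoidHom.ker_eq_bot_iff, eq_bot_iff]
      intro a ha
      have h : (a : ↥(centralizer ({t} : Set G))) ∈ E ⊓ A :=
        ⟨(QuotientGroup.eq_one_iff _).1 ha, a.2⟩
      rw [disj S, mem_bot] at h
      exact mem_bot.2 (Subtype.ext h)
    · intro q
      obtain ⟨c, rfl⟩ := QuotientGroup.mk'_surjective E q
      obtain ⟨⟨x, a⟩, hxa⟩ := S.compl.2 c
      refine ⟨a, ?_⟩
      show QuotientGroup.mk' E a = QuotientGroup.mk' E c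
      rw [← hxa, map_mul, (show QuotientGroup.mk' E (x : ↥(centralizer ({t} : Set G))) = 1 from
        (QuotientGroup.eq_one_iff _).2 x.2), one_mul]
  let ψ := MulEquiv.ofBijective _ hb
  refine ⟨(e.toMonoidHom.comp ψ.symm.toMonoidHom).comp (QuotientGroup.mk' E), ?_, ?_⟩
  · ext c
    rw [MonoidHom.mem_ker, ← QuotientGroup.eq_one_iff (N := E) c]
    exact map_eq_one_iff (e.toMonoidHom.comp ψ.symm.toMonoidHom)
      (e.injective.comp ψ.symm.injective)
  · exact (e.surjective.comp ψ.symm.surjective).comp (QuotientGroup.mk'_surjective E)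

theorem quot_iso [E.Normal] : Nonempty (↥(centralizer ({t} : Set G)) ⧸ E ≃* ↥(alternatingGroup (Fin 5))) := by
  obtain ⟨f, hker, hsurj⟩ := exists_toAlt S
  exact ⟨(QuotientGroup.quotientMulEquivOfEq hker.symm).trans (QuotientGroup.quotientKerEquivOfSurjective f hsurj)⟩

/-- The centre of `E` is generated by the involution. -/
theorem center_facts [Finite G] :
    ∃ z : ↥(centralizer ({t} : Set G)), (z : G) = t ∧ z ∈ E ∧ z ≠ 1 ∧ z * z = 1 ∧
      (∀ c : ↥(centralizer ({t} : Set G)), Commute c z) ∧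
      ∀ q : ↥E, q ∈ Subgroup.center ↥E →
        (q : ↥(centralizer ({t} : Set G))) = 1 ∨ (q : ↥(centralizer ({t} : Set G))) = z := by
  let z : ↥(centralizer ({t} : Set G)) := ⟨t, mem_centralizer_singleton_iff.2 rfl⟩
  have hzc : ∀ c : ↥(centralizer ({t} : Set G)), Commute c z := fun c =>
    Subtype.ext (mem_centralizer_singleton_iff.1 c.2)
  have hz1 : z ≠ 1 := by
    intro e
    have : t = 1 := congrArg Subtype.val e
    have h := S.inv
    rw [this, orderOf_one] at h
    omega
  have hzE : z ∈ E := by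
    obtain ⟨f, hker, hsurj⟩ := exists_toAlt S
    haveI : IsSimpleGroup ↥(alternatingGroup (Fin 5)) := alternatingGroup.isSimpleGroup (by simp)
    rw [← hker, MonoidHom.mem_ker]
    have hc : f z ∈ Subgroup.center ↥(alternatingGroup (Fin 5)) := by
      rw [mem_center_iff]
      intro y
      obtain ⟨c, rfl⟩ := hsurj y
      rw [← map_mul, ← map_mul, (hzc c).eq]
    have key : ∀ a : ↥(alternatingGroup (Fin 5)), (∀ b, b * a = a * b) → a = 1 := by decide +kernel
    exact key _ (mem_center_iff.1 hc)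
  have hzz : z * z = 1 := by
    apply Subtype.ext
    show t * t = 1
    rw [← pow_two, ← S.inv]; exact pow_orderOf_eq_one t
  refine ⟨z, rfl, hzE, hz1, hzz, hzc, fun q hq => ?_⟩
  have hzq : (⟨z, hzE⟩ : ↥E) ∈ Subgroup.center ↥E := mem_center_iff.2 fun y => Subtype.ext (hzc _).eq
  haveI : Finite ↥E := inferInstance
  obtain ⟨u, v, -, huv⟩ := Nat.card_eq_two_iff.1 S.ext.2
  have hu : ∀ w : Subgroup.center ↥E, w = u ∨ w = v := fun w => by
    have : w ∈ ({u, v} : Set _) := huv ▸ Set.mem_univ w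
    simpa using this
  by_cases h1 : q = 1
  · left; rw [h1]; rfl
  right
  have h1' : (1 : ↥(Subgroup.center ↥E)) ≠ ⟨⟨z, hzE⟩, hzq⟩ := fun e =>
    hz1 (congrArg (fun w : Subgroup.center ↥E => ((w : ↥E) : ↥(centralizer ({t} : Set G)))) e).symm
  have hq1 : (⟨q, hq⟩ : Subgroup.center ↥E) ≠ 1 := fun e => h1 (congrArg Subtype.val e)
  have : (⟨q, hq⟩ : Subgroup.center ↥E) = ⟨⟨z, hzE⟩, hzq⟩ := by
    rcases hu 1 with a | a <;> rcases hu ⟨⟨z, hzE⟩, hzq⟩ with b | b <;>
      rcases hu ⟨q, hq⟩ with d | d <;> simp_all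
  exact congrArg (fun w : Subgroup.center ↥E => ((w : ↥E) : ↥(centralizer ({t} : Set G)))) this

/-- Squares and commutators of `E` lie in the centre. -/
theorem E_facts [Finite G] {z : ↥(centralizer ({t} : Set G))}
    (hcen : ∀ q : ↥E, q ∈ Subgroup.center ↥E →
      (q : ↥(centralizer ({t} : Set G))) = 1 ∨ (q : ↥(centralizer ({t} : Set G))) = z) :
    (∀ q ∈ E, q * q = 1 ∨ q * q = z) ∧
      ∀ p ∈ E, ∀ q ∈ E, p * q * p⁻¹ * q⁻¹ = 1 ∨ p * q * p⁻¹ * q⁻¹ = z := by
  haveI : Fact (Nat.Prime 2) := ⟨Nat.prime_two⟩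
  constructor
  · intro q hq
    have h := hcen _ (PGroupsExtraspecial.special_pow_mem_center S.ext.1 ⟨q, hq⟩)
    simpa [pow_two] using h
  · intro p hp q hq
    have h := hcen _ (PGroupsExtraspecial.special_commutator_mem_center S.ext.1 ⟨p, hp⟩ ⟨q, hq⟩)
    simpa [commutatorElement_def] using h

theorem exists_sq [Finite G] {z : ↥(centralizer ({t} : Set G))}
    (hcen : ∀ q : ↥E, q ∈ Subgroup.center ↥E →
      (q : ↥(centralizer ({t} : Set G))) = 1 ∨ (q : ↥(centralizer ({t} : Set G))) = z) :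
    ∃ e ∈ E, e * e = z := by
  by_contra hcon
  push Not at hcon
  have hsq : ∀ q : ↥E, q * q = 1 := fun q => Subtype.ext
    (((E_facts S hcen).1 q q.2).resolve_right (hcon q q.2))
  have htop : Subgroup.center ↥E = ⊤ := by
    rw [eq_top_iff]
    intro x _
    rw [mem_center_iff]
    intro y
    have hi : ∀ a : ↥E, a⁻¹ = a := fun a => inv_eq_of_mul_eq_one_left (hsq a)
    calc y * x = (y * x)⁻¹ := (hi _).symm
      _ = x⁻¹ * y⁻¹ := mul_inv_rev _ _
      _ = x * y := by rw [hi, hi]
  have h := S.ext.2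
  rw [htop, card_top, S.card] at h
  omega

/-- `E` contains its centraliser. -/
theorem centralizer_le [Finite G] (h7 : (Nat.card G).factorization 2 = 7) :
    centralizer (E : Set ↥(centralizer ({t} : Set G))) ≤ E := by
  haveI : Fact (Nat.Prime 2) := ⟨Nat.prime_two⟩
  haveI := S.nrm
  obtain ⟨z, hzt, hzE, hz1, hzz, hzc, hcen⟩ := center_facts S
  obtain ⟨f, hker, hsurj⟩ := exists_toAlt S
  haveI : IsSimpleGroup ↥(alternatingGroup (Fin 5)) := alternatingGroup.isSimpleGroup (by simp)
  set K := centralizer (E : Set ↥(centralizer ({t} : Set G))) with hK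
  haveI hKn : K.Normal := ⟨fun k hk g => mem_centralizer_iff.2 fun e he => by
    have h : (g⁻¹ * e * g) * k = k * (g⁻¹ * e * g) := mem_centralizer_iff.1 hk _ (by
      simpa using S.nrm.conj_mem e he g⁻¹)
    calc e * (g * k * g⁻¹) = g * ((g⁻¹ * e * g) * k) * g⁻¹ := by group
      _ = g * (k * (g⁻¹ * e * g)) * g⁻¹ := by rw [h]
      _ = g * k * g⁻¹ * e := by group⟩
  rcases (Subgroup.Normal.map hKn f hsurj).eq_bot_or_eq_top with hb | ht
  · rw [Subgroup.map_eq_bot_iff, hker] at hb
    exact hb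
  exfalso
  have hEc : E ≤ centralizer (K : Set ↥(centralizer ({t} : Set G))) := le_centralizer_iff.1 le_rfl
  -- products of two commutators land in `K`
  have hcommK : ∀ a b : ↥(centralizer ({t} : Set G)), ⁅a, b⁆ ∈ K := by
    have dec : ∀ c : ↥(centralizer ({t} : Set G)), ∃ k ∈ K, ∃ e ∈ E, c = k * e := fun c => by
      obtain ⟨k, hk, hke⟩ := mem_map.1 (show f c ∈ K.map f from ht ▸ mem_top _)
      refine ⟨k, hk, k⁻¹ * c, ?_, by group⟩
      rw [← hker, MonoidHom.mem_ker, map_mul, map_inv, hke, inv_mul_cancel]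
    intro a b
    obtain ⟨k, hk, e, he, rfl⟩ := dec a
    obtain ⟨l, hl, d, hd, rfl⟩ := dec b
    have c1 : ∀ x ∈ K, ∀ y ∈ E, y * x = x * y := fun x hx y hy => mem_centralizer_iff.1 hx y hy
    have h1 := (E_facts S hcen).2 e he d hd
    have hprod : ⁅k * e, l * d⁆ = ⁅k, l⁆ * ⁅e, d⁆ := by
      simp only [commutatorElement_def, mul_inv_rev]
      have a1 := c1 l hl e he
      have a2 := c1 k⁻¹ (K.inv_mem hk) _ (E.mul_mem (E.mul_mem he hd) (E.inv_mem he))
      have a3 := c1 l⁻¹ (K.inv_mem hl) _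
        (E.mul_mem (E.mul_mem (E.mul_mem he hd) (E.inv_mem he)) (E.inv_mem hd))
      calc k * e * (l * d) * (e⁻¹ * k⁻¹) * (d⁻¹ * l⁻¹)
          = k * (e * l) * d * e⁻¹ * k⁻¹ * d⁻¹ * l⁻¹ := by group
        _ = k * l * (e * d * e⁻¹ * k⁻¹) * d⁻¹ * l⁻¹ := by rw [a1]; group
        _ = k * l * k⁻¹ * (e * d * e⁻¹ * d⁻¹ * l⁻¹) := by rw [a2]; group
        _ = k * l * k⁻¹ * l⁻¹ * (e * d * e⁻¹ * d⁻¹) := by rw [a3]; group
    rw [hprod]
    refine K.mul_mem (K.mul_mem (K.mul_mem (K.mul_mem hk hl) (K.inv_mem hk)) (K.inv_mem hl)) ?_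
    rcases h1 with h1 | h1 <;> rw [commutatorElement_def, h1]
    · exact K.one_mem
    · exact mem_centralizer_iff.2 fun y _ => (hzc y).eq
  have hAK : A ≤ K := by
    obtain ⟨eA⟩ := S.top
    intro a ha
    have hperf : commutator ↥(alternatingGroup (Fin 5)) = ⊤ :=
      (Subgroup.Normal.eq_bot_or_eq_top inferInstance).resolve_left fun hb => by
        have key : ∃ a b : ↥(alternatingGroup (Fin 5)), a * b ≠ b * a := by decide +kernel
        obtain ⟨p, q, hpq⟩ := key
        have := (commutator_eq_bot_iff_center_eq_top (G := ↥(alternatingGroup (Fin 5)))).1 hb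
        exact hpq (mem_center_iff.1 (this ▸ mem_top q) p)
    have hmem : ∀ y ∈ commutator ↥(alternatingGroup (Fin 5)), ((eA.symm y : ↥A) : ↥(centralizer ({t} : Set G))) ∈ K := by
      intro y hy
      rw [commutator_eq_closure] at hy
      induction hy using Subgroup.closure_induction with
      | mem w hw =>
        obtain ⟨p, q, rfl⟩ := hw
        simp only [commutatorElement_def, map_mul, map_inv, Subgroup.coe_mul, Subgroup.coe_inv]
        rw [← commutatorElement_def]
        exact hcommK _ _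
      | one => simp
      | mul p q _ _ hp hq => simpa using K.mul_mem hp hq
      | inv p _ hp => simpa using K.inv_mem hp
    simpa using hmem (eA ⟨a, ha⟩) (hperf ▸ mem_top _)
  obtain ⟨V, hV4, v, hvV, hv1, hV⟩ := alt_klein
  obtain ⟨eA⟩ := S.top
  let ι : ↥(alternatingGroup (Fin 5)) →* ↥(centralizer ({t} : Set G)) := A.subtype.comp eA.symm.toMonoidHom
  have hι : Function.Injective ι := A.subtype_injective.comp eA.symm.injective
  set W := V.map ι with hW
  have hWA : W ≤ A := by
    rintro _ ⟨w, _, rfl⟩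
    exact (eA.symm w).2
  set T := E ⊔ W with hT
  have hmemT : ∀ c ∈ T, ∃ e ∈ E, ∃ w ∈ V, c = e * ι w := by
    intro c hc
    obtain ⟨e, he, w, hw, rfl⟩ := mem_sup_of_normal_left.1 hc
    obtain ⟨w, hw, rfl⟩ := hw
    exact ⟨e, he, w, hw, rfl⟩
  have hcT : ∀ e ∈ E, ∀ w, Commute e (ι w) := fun e he w =>
    mem_centralizer_iff.1 (hAK (eA.symm w).2) e he
  have hcard : Nat.card T = 2 ^ 7 := by
    have hb : Function.Bijective (fun p : ↥E × ↥V =>
        (⟨(p.1 : ↥(centralizer ({t} : Set G))) * ι p.2, T.mul_mem (le_sup_left (b := W) p.1.2)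
          (le_sup_right (a := E) ⟨p.2, p.2.2, rfl⟩)⟩ : T)) := by
      constructor
      · rintro ⟨e, w⟩ ⟨e', w'⟩ h
        have h' := congrArg Subtype.val h
        simp only at h'
        have := S.compl.1 (a₁ := (⟨e, e.2⟩, ⟨ι w, hWA ⟨w, w.2, rfl⟩⟩))
          (a₂ := (⟨e', e'.2⟩, ⟨ι w', hWA ⟨w', w'.2, rfl⟩⟩)) h'
        simp only [Prod.mk.injEq, Subtype.mk.injEq] at this
        exact Prod.ext (Subtype.ext this.1) (Subtype.ext (hι this.2))
      · rintro ⟨c, hc⟩
        obtain ⟨e, he, w, hw, rfl⟩ := hmemT c hc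
        exact ⟨(⟨e, he⟩, ⟨w, hw⟩), rfl⟩
    rw [← Nat.card_eq_of_bijective _ hb, Nat.card_prod, S.card, hV4]
    norm_num
  set T' := T.map (centralizer ({t} : Set G)).subtype with hT'
  have hcard' : Nat.card T' = 2 ^ ((Nat.card G).factorization 2) := by
    rw [h7, ← hcard]
    exact Nat.card_congr (T.equivMapOfInjective _ (centralizer ({t} : Set G)).subtype_injective).symm.toEquiv
  set P := Sylow.ofCard T' hcard' with hP
  have hmemP : ∀ c ∈ T', ∃ e ∈ E, ∃ w ∈ V, c = ((e * ι w : ↥(centralizer ({t} : Set G))) : G) := by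
    rintro _ ⟨c, hc, rfl⟩
    obtain ⟨e, he, w, hw, rfl⟩ := hmemT c hc
    exact ⟨e, he, w, hw, rfl⟩
  set a : G := ((ι v : ↥(centralizer ({t} : Set G))) : G) with ha
  have hta : t ∈ centralizer (T' : Set G) := mem_centralizer_iff.2 fun c hc => by
    obtain ⟨c, -, rfl⟩ := hc
    exact mem_centralizer_singleton_iff.1 c.2
  have haa : a ∈ centralizer (T' : Set G) := mem_centralizer_iff.2 fun c hc => by
    obtain ⟨e, he, w, hw, rfl⟩ := hmemP c hc
    have h : Commute (e * ι w) (ι v) :=
      (hcT e he v).mul_left ((hV w hw).2.symm.map ι)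
    exact congrArg Subtype.val h.eq
  have hta' : orderOf a = 2 := by
    refine orderOf_eq_prime ?_ ?_
    · have := congrArg (fun w => ((ι w : ↥(centralizer ({t} : Set G))) : G)) (hV v hvV).1
      simpa [ha, pow_two] using this
    · intro e
      exact hv1 (hι (by rw [map_one]; exact Subtype.ext e))
  obtain ⟨g, hg⟩ := isConj_iff.1 (S.one t a S.inv hta')
  obtain ⟨n, hn, hn'⟩ := P.conj_eq_normalizer_conj_of_mem_centralizer t g⁻¹ hta (by
    rw [inv_inv, hg]; exact haa)
  rw [inv_inv, hg] at hn'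
  obtain ⟨e, he, hee⟩ := exists_sq S hcen
  have heT : (e : G) ∈ T' := ⟨e, le_sup_left (b := W) he, rfl⟩
  have hneT : n⁻¹ * (e : G) * n ∈ T' := by
    have := (mem_normalizer_iff''.1 hn (e : G)).1 heT
    exact this
  obtain ⟨d, hd, w, hw, hdw⟩ := hmemP _ hneT
  have hsq : a = ((d * ι w * (d * ι w) : ↥(centralizer ({t} : Set G))) : G) := by
    rw [hn', Subgroup.coe_mul (centralizer ({t} : Set G)), ← hdw]
    calc n⁻¹ * t * n = n⁻¹ * ((e : G) * e) * n := by
          rw [← Subgroup.coe_mul, hee, hzt]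
      _ = _ := by group
  have hsq' : ι v = d * d := by
    apply Subtype.ext
    show a = _
    rw [hsq]
    congr 1
    rw [mul_assoc, ← mul_assoc (ι w), ← (hcT d hd w).eq, mul_assoc d (ι w), ← map_mul,
      (hV w hw).1, map_one, mul_one]
  have hvE : ι v ∈ E ⊓ A := ⟨hsq' ▸ E.mul_mem hd hd, (eA.symm v).2⟩
  rw [disj S, mem_bot] at hvE
  exact hv1 (hι (by rw [map_one]; exact hvE))

/-- `E` is of minus type. -/
theorem minus_type [Finite G] (h7 : (Nat.card G).factorization 2 = 7)
    (U : Subgroup ↥E) (hU : Cfsg.IsElementaryAbelian 2 U) : Nat.card U ≤ 2 ^ 2 := by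
  classical
  haveI : Fact (Nat.Prime 5) := ⟨by norm_num⟩
  haveI := S.nrm
  obtain ⟨z, hzt, hzE, hz1, hzz, hzc, hcen⟩ := center_facts S
  obtain ⟨eA⟩ := S.top
  obtain ⟨f, hf⟩ := exists_prime_orderOf_dvd_card' (G := ↥A) 5
    (by rw [Nat.card_congr eA.toEquiv, card_alt]; norm_num)
  have hfA : (f : ↥(centralizer ({t} : Set G))) ∈ A := f.2
  have hf1 : (f : ↥(centralizer ({t} : Set G))) ≠ 1 := by
    intro e
    rw [show f = 1 from Subtype.ext e, orderOf_one] at hf
    omega
  have ctx : HJPatternExtraspecial.Ctx E z (f : ↥(centralizer ({t} : Set G))) :=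
    { card := S.card
      zQ := hzE
      zz := hzz
      z1 := hz1
      zc := fun q _ => hzc q
      sq := (E_facts S hcen).1
      comm := (E_facts S hcen).2
      cen := fun q hq hq' => hcen ⟨q, hq⟩ (mem_center_iff.2 fun p => Subtype.ext (hq' p p.2).eq)
      e5 := by rw [← SubgroupClass.coe_pow, ← hf, pow_orderOf_eq_one]; rfl
      eQ := fun q hq => S.nrm.conj_mem q hq _
      ez := hzc _
      enontriv := by
        by_contra hcon
        push Not at hcon
        have h : (f : ↥(centralizer ({t} : Set G))) ∈ E ⊓ A :=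
          ⟨centralizer_le S h7 (mem_centralizer_iff.2 fun q hq => (hcon q hq).eq.symm), hfA⟩
        rw [disj S, mem_bot] at h
        exact hf1 h }
  by_contra hcon
  push Not at hcon
  -- pick two involutions of `U`
  have pick : ∀ F : Finset ↥(centralizer ({t} : Set G)), F.card ≤ 4 →
      ∃ u : ↥U, ((u : ↥E) : ↥(centralizer ({t} : Set G))) ∉ F := by
    intro F hF
    by_contra h
    push Not at h
    have := Nat.card_le_card_of_injective (fun u : ↥U => (⟨_, h u⟩ : ↥F)) (fun a b e => by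
      apply Subtype.ext; apply Subtype.ext
      exact congrArg (fun w : ↥F => (w : ↥(centralizer ({t} : Set G)))) e)
    rw [Nat.card_eq_finsetCard] at this
    omega
  have hsq : ∀ u : ↥U, ((u : ↥E) : ↥(centralizer ({t} : Set G))) * (u : ↥E) = 1 := fun u => by
    have := congrArg (fun w : ↥E => (w : ↥(centralizer ({t} : Set G)))) (hU.2 u u.2)
    simpa [pow_two] using this
  obtain ⟨u, hu⟩ := pick {1, z} ((Finset.card_le_two).trans (by norm_num))
  simp only [Finset.mem_insert, Finset.mem_singleton, not_or] at hu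
  obtain ⟨v, hv⟩ := pick {1, z, ((u : ↥E) : ↥(centralizer ({t} : Set G))),
    ((u : ↥E) : ↥(centralizer ({t} : Set G))) * z} (Finset.card_le_four)
  simp only [Finset.mem_insert, Finset.mem_singleton, not_or] at hv
  haveI := hU.1
  have hc : Commute ((u : ↥E) : ↥(centralizer ({t} : Set G))) (v : ↥E) := by
    have := congrArg (fun w : ↥U => ((w : ↥E) : ↥(centralizer ({t} : Set G)))) (mul_comm' u v)
    exact this
  rcases HJPatternExtraspecial.eq_of_commute ctx
    (HJPatternExtraspecial.mem_invs.2 ⟨(u : ↥E).2, hsq u, hu.1, hu.2⟩) (v : ↥E).2 (hsq v) hc with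
    h | h | h | h
  · exact hv.1 h
  · exact hv.2.1 h
  · exact hv.2.2.1 h
  · exact hv.2.2.2 h

/-- All involution centralisers have order 1920. -/
theorem card_centralizer {u : G} (hu : orderOf u = 2) :
    Nat.card ↥(centralizer ({u} : Set G)) = 1920 := by
  obtain ⟨g, hg⟩ := isConj_iff.1 (S.one t u S.inv hu)
  have h : centralizer ({u} : Set G) = (centralizer ({t} : Set G)).map (MulAut.conj g).toMonoidHom := by
    subst hg
    ext x
    rw [mem_map_equiv, mem_centralizer_singleton_iff, mem_centralizer_singleton_iff,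
      MulAut.conj_symm_apply]
    constructor <;> intro e
    · calc g⁻¹ * x * g * t = g⁻¹ * (x * (g * t * g⁻¹)) * g := by group
        _ = g⁻¹ * (g * t * g⁻¹ * x) * g := by rw [e]
        _ = t * (g⁻¹ * x * g) := by group
    · calc x * (g * t * g⁻¹) = g * (g⁻¹ * x * g * t) * g⁻¹ := by group
        _ = g * (t * (g⁻¹ * x * g)) * g⁻¹ := by rw [e]
        _ = g * t * g⁻¹ * x := by group
  rw [h, Subgroup.card_map_of_injective (MulAut.conj g).injective, card_C S]

/-- There is no element of order sixteen. -/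
theorem no_sixteen [Finite G] (g : G) : orderOf g ≠ 16 := by
  intro hg
  obtain ⟨z, hzt, hzE, hz1, hzz, hzc, hcen⟩ := center_facts S
  have hu : orderOf (g ^ 8) = 2 := by
    rw [orderOf_pow, hg]
    norm_num
  obtain ⟨h, hh⟩ := isConj_iff.1 (S.one (g ^ 8) t hu S.inv)
  set g' := h * g * h⁻¹ with hg'
  have h8 : g' ^ 8 = t := by rw [hg', conj_pow, hh]
  have hmem : g' ∈ centralizer ({t} : Set G) :=
    mem_centralizer_singleton_iff.2 (by rw [← h8]; exact (Commute.self_pow g' 8).eq)
  set c : ↥(centralizer ({t} : Set G)) := ⟨g', hmem⟩ with hc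
  obtain ⟨f, hker, -⟩ := exists_toAlt S
  have hc16 : c ^ 16 = 1 := by
    apply Subtype.ext
    show g' ^ 16 = 1
    rw [hg', conj_pow, ← hg, pow_orderOf_eq_one, mul_one, mul_inv_cancel]
  have hf2 : f c ^ 2 = 1 := alt_sixteen _ (by rw [← map_pow, hc16, map_one])
  have hcE : c ^ 2 ∈ E := by rw [← hker, MonoidHom.mem_ker, map_pow, hf2]
  have hc8 : c ^ 8 = 1 := by
    have h4 : c ^ 4 * c ^ 4 = 1 := by
      rcases (E_facts S hcen).1 _ hcE with e | e
      · rw [show c ^ 4 = c ^ 2 * c ^ 2 by group, e, one_mul]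
      · rw [show c ^ 4 = c ^ 2 * c ^ 2 by group, e, hzz]
    rw [← h4]; group
  have := congrArg Subtype.val hc8
  simp only [SubgroupClass.coe_pow, OneMemClass.coe_one, hc] at this
  rw [this] at h8
  have := S.inv
  rw [← h8, orderOf_one] at this
  omega

end

end Cfsg.Agent.J3Local9
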