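import Cfsg.Prelude.Def_Spor_J3
import Cfsg.Agent.Lib.CosetCertCore

/-! Packed 9×9 matrices over the field with four elements. -/

set_option autoImplicit false

namespace Cfsg.Agent.J3Mat90

open CosetCertCore
open Cfsg.Spor

/-- The low bits of a packed matrix occupy positions `9 i + j`, the high bits `81 + 9 i + j`. -/
def colMask : ℕ := 4731607904558235517441

noncomputable def col (A k : ℕ) : ℕ := Nat.land (Nat.shiftRight A k) colMask

noncomputable def rowAt (B k : ℕ) : ℕ := Nat.land (Nat.shiftRight B k) 511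

noncomputable def mulGo (A B n : ℕ) : ℕ → ℕ → ℕ :=
  Nat.rec (motive := fun _ => ℕ → ℕ → ℕ)
    (fun L H => Nat.xor L (Nat.shiftLeft H 81))
    (fun k ih L H =>
      force (col A k) fun c0 =>
      force (col A (81 + k)) fun c1 =>
      force (rowAt B (9 * k)) fun r0 =>
      force (rowAt B (81 + 9 * k)) fun r1 =>
      force (Nat.mul c0 r0) fun p =>
      force (Nat.xor L (Nat.xor p (Nat.mul c1 r1))) fun L' =>
      force (Nat.xor H (Nat.xor p (Nat.mul (Nat.xor c0 c1) (Nat.xor r0 r1)))) fun H' =>
      ih L' H') n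

noncomputable def mulN (A B : ℕ) : ℕ := mulGo A B 9 0 0

/-! ### Bit positions -/

theorem col_testBit (A k i j : ℕ) (hi : i < 9) (hj : j < 9) :
    (col A k).testBit (9 * i + j) = (decide (j = 0) && A.testBit (k + 9 * i)) := by
  have key : ∀ i : Fin 9, ∀ j : Fin 9,
      colMask.testBit (9 * (i : ℕ) + (j : ℕ)) = decide ((j : ℕ) = 0) := by decide +kernel
  have := key ⟨i, hi⟩ ⟨j, hj⟩
  simp only at this
  show (Nat.shiftRight A k &&& colMask).testBit _ = _
  rw [Nat.testBit_and, this]
  by_cases h : j = 0
  · subst h; simp [Nat.shiftRight_eq, Nat.testBit_shiftRight]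
  · simp [h]

theorem col_high (A k p : ℕ) (hp : 81 ≤ p) : (col A k).testBit p = false := by
  have hc : colMask < 2 ^ p := lt_of_lt_of_le (show colMask < 2 ^ 81 by decide +kernel)
    (Nat.pow_le_pow_right (by norm_num) hp)
  show (Nat.shiftRight A k &&& colMask).testBit _ = _
  rw [Nat.testBit_and, Nat.testBit_lt_two_pow hc, Bool.and_false]

/-- Copies of `r` at the blocks selected by `f`. -/
def spr : ℕ → (ℕ → Bool) → ℕ → ℕ
  | 0, _, _ => 0
  | n + 1, f, r => 2 ^ 9 * spr n (fun i => f (i + 1)) r + (if f 0 then r else 0)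

theorem spr_mul : ∀ (n : ℕ) (f : ℕ → Bool) (r : ℕ), spr n f 1 * r = spr n f r
  | 0, _, _ => by simp [spr]
  | n + 1, f, r => by
    simp only [spr]
    rw [add_mul, mul_assoc, spr_mul n]
    cases f 0 <;> simp

theorem spr_testBit : ∀ (n : ℕ) (f : ℕ → Bool) (r : ℕ), r < 2 ^ 9 → ∀ p,
    (spr n f r).testBit p = (decide (p / 9 < n) && f (p / 9) && r.testBit (p % 9))
  | 0, _, _, _, p => by simp [spr]
  | n + 1, f, r, hr, p => by
    simp only [spr]
    rw [Nat.testBit_two_pow_mul_add _ (by cases f 0 <;> simp <;> omega)]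
    by_cases hp : p < 9
    · rw [if_pos hp, Nat.div_eq_of_lt hp, Nat.mod_eq_of_lt hp]
      cases f 0 <;> simp
    · rw [if_neg hp, spr_testBit n _ r hr]
      have h1 : p / 9 = (p - 9) / 9 + 1 := by omega
      have h2 : p % 9 = (p - 9) % 9 := by omega
      rw [h1, h2]
      simp

/-- A number with bits only at the multiples of nine below 81. -/
def Sparse (c : ℕ) : Prop := ∀ p, c.testBit p = true → p % 9 = 0 ∧ p < 81

theorem mul_testBit {c r : ℕ} (hc : Sparse c) (hr : r < 2 ^ 9) {i j : ℕ} (hi : i < 9) (hj : j < 9) :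
    (c * r).testBit (9 * i + j) = (c.testBit (9 * i) && r.testBit j) := by
  have hcs : c = spr 9 (fun i => c.testBit (9 * i)) 1 := by
    apply Nat.eq_of_testBit_eq
    intro p
    rw [spr_testBit 9 _ 1 (by norm_num) p]
    by_cases h : c.testBit p = true
    · obtain ⟨h1, h2⟩ := hc p h
      have : 9 * (p / 9) = p := by omega
      simp [h, h1, this, show p / 9 < 9 by omega]
    · have h' : c.testBit p = false := by simpa using h
      rw [h']
      by_cases h1 : p % 9 = 0
      · have : 9 * (p / 9) = p := by omega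
        simp [this, h']
      · rw [Nat.testBit_lt_two_pow (Nat.one_lt_two_pow h1)]
        simp
  conv_lhs => rw [hcs, spr_mul, spr_testBit 9 _ r hr]
  have h1 : (9 * i + j) / 9 = i := by omega
  have h2 : (9 * i + j) % 9 = j := by omega
  simp [h1, h2, hi]

theorem col_sparse (A k : ℕ) : Sparse (col A k) := by
  intro p hp
  by_cases h : p < 81
  · refine ⟨?_, h⟩
    have := col_testBit A k (p / 9) (p % 9) (by omega) (by omega)
    rw [Nat.div_add_mod, hp] at this
    simp at this
    exact this.1
  · rw [col_high A k p (by omega)] at hp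
    exact absurd hp (by simp)

theorem col_bit (A k i : ℕ) (hi : i < 9) : (col A k).testBit (9 * i) = A.testBit (k + 9 * i) := by
  simpa using col_testBit A k i 0 hi (by norm_num)

theorem sparse_xor {a b : ℕ} (ha : Sparse a) (hb : Sparse b) : Sparse (a ^^^ b) := by
  intro p hp
  rw [Nat.testBit_xor] at hp
  cases h : a.testBit p
  · rw [h, Bool.false_xor] at hp; exact hb p hp
  · exact ha p h

theorem row_lt (B k : ℕ) : rowAt B k < 2 ^ 9 :=
  lt_of_le_of_lt Nat.and_le_right (by norm_num)

theorem row_bit (B k j : ℕ) (hj : j < 9) : (rowAt B k).testBit j = B.testBit (k + j) := by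
  show (Nat.shiftRight B k &&& (2 ^ 9 - 1)).testBit j = _
  rw [Nat.testBit_and, Nat.testBit_two_pow_sub_one]
  simp [hj, Nat.shiftRight_eq, Nat.testBit_shiftRight]

theorem mul_high {c r : ℕ} (hc : Sparse c) (hr : r < 2 ^ 9) : c * r < 2 ^ 81 := by
  apply Nat.lt_pow_two_of_testBit
  intro p hp
  have hcs : c = spr 9 (fun i => c.testBit (9 * i)) 1 := by
    apply Nat.eq_of_testBit_eq
    intro q
    rw [spr_testBit 9 _ 1 (by norm_num) q]
    by_cases h : c.testBit q = true
    · obtain ⟨h1, h2⟩ := hc q h
      have : 9 * (q / 9) = q := by omega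
      simp [h, h1, this, show q / 9 < 9 by omega]
    · have h' : c.testBit q = false := by simpa using h
      rw [h']
      by_cases h1 : q % 9 = 0
      · have : 9 * (q / 9) = q := by omega
        simp [this, h']
      · rw [Nat.testBit_lt_two_pow (Nat.one_lt_two_pow h1)]
        simp
  rw [hcs, spr_mul, spr_testBit 9 _ r hr]
  simp [show ¬ p / 9 < 9 by omega]

/-- The bit pair `(low, high)` of an entry. -/
def lo (M i j : ℕ) : Bool := M.testBit (9 * i + j)
def hi (M i j : ℕ) : Bool := M.testBit (81 + (9 * i + j))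

/-- Contribution of the summand `k` to a product entry. -/
def term (A B i j k : ℕ) : Bool × Bool :=
  (((lo A i k && lo B k j).xor (hi A i k && hi B k j)),
    (((lo A i k).xor (hi A i k) && (lo B k j).xor (hi B k j)).xor (lo A i k && lo B k j)))

def foldTerms (A B i j : ℕ) : ℕ → Bool × Bool
  | 0 => (false, false)
  | n + 1 => ((term A B i j n).1.xor (foldTerms A B i j n).1,
      (term A B i j n).2.xor (foldTerms A B i j n).2)

theorem mulN_bits (A B i j : ℕ) (hi' : i < 9) (hj : j < 9) :
    lo (mulN A B) i j = (foldTerms A B i j 9).1 ∧ hi (mulN A B) i j = (foldTerms A B i j 9).2 := by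
  have key : ∀ n, n ≤ 9 → ∀ L H : ℕ, L < 2 ^ 81 → H < 2 ^ 81 →
      lo (mulGo A B n L H) i j = ((foldTerms A B i j n).1.xor (L.testBit (9 * i + j))) ∧
      hi (mulGo A B n L H) i j = ((foldTerms A B i j n).2.xor (H.testBit (9 * i + j))) := by
    intro n
    induction n with
    | zero =>
      intro _ L H hL hH
      have e : ∀ p, (L ^^^ (H <<< 81)).testBit p =
          if p < 81 then L.testBit p else H.testBit (p - 81) := by
        intro p
        rw [Nat.testBit_xor, Nat.testBit_shiftLeft]
        by_cases hp : p < 81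
        · simp [hp, show ¬ 81 ≤ p by omega]
        · rw [Nat.testBit_lt_two_pow (lt_of_lt_of_le hL
            (Nat.pow_le_pow_right (by norm_num) (not_lt.mp hp)))]
          simp [hp, show 81 ≤ p by omega]
      have e1 : (L ^^^ (H <<< 81)).testBit (9 * i + j) = L.testBit (9 * i + j) := by
        rw [e, if_pos (by omega)]
      have e2 : (L ^^^ (H <<< 81)).testBit (81 + (9 * i + j)) = H.testBit (9 * i + j) := by
        rw [e, if_neg (by omega), Nat.add_sub_cancel_left]
      simp only [foldTerms, Bool.false_xor, lo, hi]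
      exact ⟨e1, e2⟩
    | succ n ih =>
      intro hn L H hL hH
      have hstep : ∀ L H, mulGo A B (n + 1) L H = mulGo A B n
          (L ^^^ ((col A n * rowAt B (9 * n)) ^^^ (col A (81 + n) * rowAt B (81 + 9 * n))))
          (H ^^^ ((col A n * rowAt B (9 * n)) ^^^
            ((col A n ^^^ col A (81 + n)) * (rowAt B (9 * n) ^^^ rowAt B (81 + 9 * n))))) := fun L H => by
        simp only [mulGo, force_eq]
        rfl
      rw [hstep]
      have hc0 := col_sparse A n
      have hc1 := col_sparse A (81 + n)
      have hr0 := row_lt B (9 * n)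
      have hr1 := row_lt B (81 + 9 * n)
      have hr : (rowAt B (9 * n) ^^^ rowAt B (81 + 9 * n)) < 2 ^ 9 := Nat.xor_lt_two_pow hr0 hr1
      have hp := mul_high hc0 hr0
      have h := ih (by omega) (L ^^^ ((col A n * rowAt B (9 * n)) ^^^
          (col A (81 + n) * rowAt B (81 + 9 * n))))
        (H ^^^ ((col A n * rowAt B (9 * n)) ^^^
          ((col A n ^^^ col A (81 + n)) * (rowAt B (9 * n) ^^^ rowAt B (81 + 9 * n)))))
        (Nat.xor_lt_two_pow hL (Nat.xor_lt_two_pow hp (mul_high hc1 hr1)))
        (Nat.xor_lt_two_pow hH (Nat.xor_lt_two_pow hp (mul_high (sparse_xor hc0 hc1) hr)))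
      refine ⟨h.1.trans ?_, h.2.trans ?_⟩
      · simp only [foldTerms, term, lo, hi, Nat.testBit_xor, mul_testBit hc0 hr0 hi' hj,
          mul_testBit hc1 hr1 hi' hj, col_bit _ _ _ hi', row_bit _ _ _ hj, Nat.add_assoc,
          Nat.add_comm n (9 * i)]
        generalize A.testBit (9 * i + n) = a
        generalize B.testBit (9 * n + j) = b
        generalize A.testBit (81 + (9 * i + n)) = c
        generalize B.testBit (81 + (9 * n + j)) = d
        generalize (foldTerms A B i j n).1 = x
        generalize L.testBit (9 * i + j) = y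
        revert a b c d x y
        decide
      · simp only [foldTerms, term, lo, hi, Nat.testBit_xor, mul_testBit hc0 hr0 hi' hj,
          mul_testBit (sparse_xor hc0 hc1) hr hi' hj, col_bit _ _ _ hi', row_bit _ _ _ hj,
          Nat.add_assoc, Nat.add_comm n (9 * i)]
        generalize A.testBit (9 * i + n) = a
        generalize B.testBit (9 * n + j) = b
        generalize A.testBit (81 + (9 * i + n)) = c
        generalize B.testBit (81 + (9 * n + j)) = d
        generalize (foldTerms A B i j n).2 = x
        generalize H.testBit (9 * i + j) = y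
        revert a b c d x y
        decide
  have h := key 9 le_rfl 0 0 (by norm_num) (by norm_num)
  simp only [Nat.zero_testBit, Bool.xor_false] at h
  exact h

/-! ### Evaluation -/

/-- The bijection of the index set with `0..8`. -/
def ix : F9 ≃ Fin 9 := finProdFinEquiv

section
variable {F : Type*} [Field F] (ω : F)

/-- The field element with bit pair `(p, q)`: `p + q ω`. -/
def e2 (p q : Bool) : F := (if p then 1 else 0) + (if q then ω else 0)

/-- The matrix with packed code `M`. -/
def ev (M : ℕ) : Matrix F9 F9 F := Matrix.of fun w z =>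
  e2 ω (lo M (ix w) (ix z)) (hi M (ix w) (ix z))

theorem two_eq_zero [Fintype F] (hF : Fintype.card F = 4) : (2 : F) = 0 := by
  have h : ((Fintype.card F : ℕ) : F) = 0 := Nat.cast_card_eq_zero F
  rw [hF] at h
  have : (2 : F) * 2 = 0 := by rw [← h]; norm_num
  simpa using mul_self_eq_zero.mp this

theorem e2_xor (h2 : (2 : F) = 0) (p q p' q' : Bool) :
    e2 ω (p.xor p') (q.xor q') = e2 ω p q + e2 ω p' q' := by
  cases p <;> cases q <;> cases p' <;> cases q' <;> simp [e2] <;>
    first
      | ring1
      | linear_combination (-ω) * h2 | linear_combination (-(1 : F)) * h2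
      | linear_combination ω * h2 | linear_combination (1 : F) * h2
      | linear_combination (-(1 + ω)) * h2 | linear_combination (1 + ω) * h2

theorem e2_mul (h2 : (2 : F) = 0) (hω : ω ^ 2 + ω + 1 = 0) (a0 a1 b0 b1 : Bool) :
    e2 ω ((a0 && b0).xor (a1 && b1)) (((a0.xor a1) && (b0.xor b1)).xor (a0 && b0)) =
      e2 ω a0 a1 * e2 ω b0 b1 := by
  cases a0 <;> cases a1 <;> cases b0 <;> cases b1 <;> simp [e2] <;>
    first
      | ring1
      | linear_combination hω
      | linear_combination -hω
      | linear_combination hω - (1 : F) * h2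
      | linear_combination -hω + (ω + 1) * h2
      | linear_combination -hω + ω * h2
      | linear_combination -hω + h2
      | linear_combination hω - ω * h2
      | linear_combination hω - (ω + 1) * h2

theorem ev_mulN (h2 : (2 : F) = 0) (hω : ω ^ 2 + ω + 1 = 0) (A B : ℕ) :
    ev ω (mulN A B) = ev ω A * ev ω B := by
  ext w z
  obtain ⟨h0, h1⟩ := mulN_bits A B (ix w) (ix z) (ix w).2 (ix z).2
  simp only [ev, Matrix.of_apply, Matrix.mul_apply, h0, h1]
  rw [← ix.symm.sum_comp]
  simp only [Equiv.apply_symm_apply]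
  have key : ∀ n, e2 ω (foldTerms A B (ix w) (ix z) n).1 (foldTerms A B (ix w) (ix z) n).2 =
      ∑ k ∈ Finset.range n, e2 ω (lo A (ix w) k) (hi A (ix w) k) *
        e2 ω (lo B k (ix z)) (hi B k (ix z)) := by
    intro n
    induction n with
    | zero => simp [foldTerms, e2]
    | succ n ih =>
      simp only [foldTerms]
      rw [e2_xor ω h2, ih, Finset.sum_range_succ, add_comm]
      simp only [term, e2_mul ω h2 hω]
  rw [key 9]
  exact (Fin.sum_univ_eq_sum_range (fun k => e2 ω (lo A (ix w) k) (hi A (ix w) k) *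
        e2 ω (lo B k (ix z)) (hi B k (ix z))) 9).symm

theorem e2_inj (h2 : (2 : F) = 0) (hω : ω ^ 2 + ω + 1 = 0) {p q p' q' : Bool} (h : e2 ω p q = e2 ω p' q') :
    p = p' ∧ q = q' := by
  have h0 : ω ≠ 0 := by rintro rfl; simp at hω
  have h1 : ω + 1 ≠ 0 := by
    intro h1
    have : ω ^ 2 = 0 := by linear_combination hω - h1
    exact h0 (pow_eq_zero_iff two_ne_zero |>.mp this)
  have h1' : (1 : F) + ω ≠ 0 := by rwa [add_comm]
  have hne : ω ≠ 1 + ω := fun e => one_ne_zero (α := F) (by linear_combination -e)
  have hne' : (1 : F) ≠ 1 + ω := fun e => h0 (by linear_combination -e)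
  by_cases he : ω = 1
  · subst he
    exfalso
    exact one_ne_zero (α := F) (by linear_combination hω - h2)
  · cases p <;> cases q <;> cases p' <;> cases q' <;> simp [e2] at h ⊢ <;>
      first
        | exact h0 h.symm | exact h0 h | exact one_ne_zero h | exact one_ne_zero h.symm
        | exact h1' h | exact h1' h.symm | exact he h | exact he h.symm
        | exact hne h | exact hne h.symm | exact hne' h | exact hne' h.symm

theorem ev_inj (h2 : (2 : F) = 0) (hω : ω ^ 2 + ω + 1 = 0) {A B : ℕ} (hA : A < 2 ^ 162) (hB : B < 2 ^ 162)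
    (h : ev ω A = ev ω B) : A = B := by
  apply Nat.eq_of_testBit_eq
  intro p
  by_cases hp : p < 162
  · have key : ∀ q < 81, A.testBit q = B.testBit q ∧ A.testBit (81 + q) = B.testBit (81 + q) := by
      intro q hq
      have := congrFun (congrFun h (ix.symm ⟨q / 9, by omega⟩)) (ix.symm ⟨q % 9, by omega⟩)
      simp only [ev, Matrix.of_apply, Equiv.apply_symm_apply, lo, hi, Nat.div_add_mod] at this
      exact e2_inj ω h2 hω this
    by_cases hp' : p < 81
    · exact (key p hp').1
    · have := (key (p - 81) (by omega)).2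
      rwa [Nat.add_sub_cancel' (by omega)] at this
  · have hpow : 2 ^ 162 ≤ 2 ^ p := Nat.pow_le_pow_right (by norm_num) (not_lt.mp hp)
    rw [Nat.testBit_lt_two_pow (lt_of_lt_of_le hA hpow),
      Nat.testBit_lt_two_pow (lt_of_lt_of_le hB hpow)]

end

end Cfsg.Agent.J3Mat90
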