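import Cfsg.Agent.Lib.SplitVoltageCert
import Cfsg.Agent.Lib.SchurMultiplierBasic

/-!
Bounding characters of the kernel of a stem extension by voltages of a subgroup of coprime index,
for groups in any universe (after the corresponding bound for J2).
-/

set_option autoImplicit false
set_option maxRecDepth 100000

namespace Cfsg.Agent.J3MultBound90

open Cfsg Cfsg.Agent.SplitVoltage Cfsg.Agent.SplitVoltageCert

universe u

/-- Characters extend over a quotient of order prime to the exponent. -/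
theorem extend_of_coprime {m : ℕ} [NeZero m] {Γ G A : Type*} [Group Γ] [Group G] [Finite Γ]
    [CommGroup A] (hA : ∀ a : A, a ^ m = 1) (σ : Γ →* G) (hs : Function.Surjective σ)
    (hc : σ.ker ≤ Subgroup.center Γ) (hcop : Nat.Coprime (Nat.card G) m) (χ : σ.ker →* A) :
    ∃ ψ : Γ →* A, ∀ z : σ.ker, ψ z = χ z := by
  have key : ∀ z : σ.ker, ∀ (k : ℕ) (g : Γ), g⁻¹ * (z : Γ) ^ k * g = (z : Γ) ^ k := fun z k g => by
    rw [mul_assoc, ← Subgroup.mem_center_iff.1 (pow_mem (hc z.2) k) g, inv_mul_cancel_left]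
  have hV : ∀ z : σ.ker, MonoidHom.transfer χ (z : Γ) = χ z ^ σ.ker.index := by
    intro z
    rw [MonoidHom.transfer_eq_pow χ (z : Γ) (fun k g hk => by rw [key] at hk; exact key z k g),
      ← map_pow]
    exact congrArg χ (Subtype.ext rfl)
  have hidx : σ.ker.index = Nat.card G := by
    rw [Subgroup.index_ker, MonoidHom.range_eq_top.2 hs, Subgroup.card_top]
  obtain ⟨k, hk⟩ := exists_mul_mod_one hcop
  refine ⟨((MonoidHom.transfer χ) ^ k)⁻¹, fun z => ?_⟩
  obtain ⟨j, hj⟩ : m ∣ 1 + Nat.card G * k := (ZMod.natCast_eq_zero_iff _ _).1 (by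
    rw [Nat.cast_add, Nat.cast_one, hk, add_neg_cancel])
  have h1 : χ z * χ z ^ (Nat.card G * k) = 1 := by
    rw [← pow_succ', add_comm, hj, pow_mul, hA, one_pow]
  rw [MonoidHom.inv_apply, MonoidHom.pow_apply, hV, hidx, ← pow_mul]
  exact (eq_inv_of_mul_eq_one_left h1).symm

/-- The bound. -/
theorem bound_sub {G : Type u} [Group G] [Finite G] (C : Cert) (h : C.Core) (hnp : C.npow = C.n)
    (x : ℕ → G) (ords : List ℕ)
    (hord : ∀ i < C.n, orderOf (x i) = ords.getD i 0 ∧ Nat.Coprime (ords.getD i 0) C.m ∧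
      C.rels.getD i [] = List.replicate (ords.getD i 0) (i, true))
    (hrel : ∀ l ∈ C.rels, wprod x l = 1)
    {α : Type*} [MulAction G α] (obj : ℕ → α)
    (hinj : ∀ c < C.N, ∀ d < C.N, obj c = obj d → c = d)
    (hact : ∀ i < C.n, ∀ c < C.N, x i • obj c = obj (C.nxF i c))
    (hcop : Nat.Coprime (Nat.card G / C.N) C.m)
    {A : Type*} [CommGroup A] (hA : ∀ a : A, a ^ C.m = 1) (t : ℕ)
    (hzero : ∀ (v : ℕ → ℕ → Additive A) (e : ℕ → Additive A),
      (∀ c < C.N, 0 < c → v (C.parF c).1 (C.parF c).2 = 0) →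
      (∀ r < C.rels.length, ∀ c < C.N, wsum C.nxF C.pvF v c (C.rels.getD r []) = e r) →
      (∀ r < C.npow, e r = 0) →
      ∃ u : Additive A, t • u = 0 ∧ ∀ i < C.n, ∀ c < C.N, v i c ∈ AddSubgroup.zmultiples u)
    {Γ : Type u} [Group Γ] [Finite Γ] (σ : Γ →* G) (hσ : Cfsg.IsStemExtension σ) (χ : σ.ker →* A) :
    ∃ u : A, u ^ t = 1 ∧ ∀ z : σ.ker, χ z ∈ Subgroup.zpowers u := by
  classical
  haveI : NeZero C.m := ⟨by have := h.hm; omega⟩
  set H := Subgroup.closure (x '' Set.Iio C.n) with hHdef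
  have hxH : ∀ i < C.n, x i ∈ H := fun i hi => Subgroup.subset_closure ⟨i, hi, rfl⟩
  let x' : ℕ → H := fun i => if hi : i < C.n then ⟨x i, hxH i hi⟩ else 1
  have hx' : ∀ i < C.n, (x' i : G) = x i := fun i hi => by simp [x', dif_pos hi]
  have hwp : ∀ l : List (ℕ × Bool), (∀ t ∈ l, t.1 < C.n) → ((wprod x' l : H) : G) = wprod x l :=
    map_wprod H.subtype x' x (fun i hi => hx' i hi)
  let K := H.comap σ
  let σ' : K →* H := (σ.comp K.subtype).codRestrict H fun w => w.2
  have hs' : Function.Surjective σ' := fun y => by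
    obtain ⟨g, hg⟩ := hσ.1 y
    exact ⟨⟨g, by show σ g ∈ H; rw [hg]; exact y.2⟩, Subtype.ext hg⟩
  have hk' : ∀ w : K, w ∈ σ'.ker ↔ σ w = 1 := fun w => by
    rw [MonoidHom.mem_ker, Subtype.ext_iff]; rfl
  have hc' : σ'.ker ≤ Subgroup.center K := fun w hw => Subgroup.mem_center_iff.2 fun g =>
    Subtype.ext (Subgroup.mem_center_iff.1 (hσ.2.1 (MonoidHom.mem_ker.2 ((hk' w).1 hw))) g)
  let χ' : σ'.ker →* A := χ.comp
    { toFun := fun w => ⟨(w : K), (hk' _).1 w.2⟩
      map_one' := rfl
      map_mul' := fun _ _ => rfl }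
  -- the orbit
  have hgen : Subgroup.closure (x' '' Set.Iio C.n) = ⊤ := by
    refine Subgroup.map_injective H.subtype_injective ?_
    rw [MonoidHom.map_closure, ← MonoidHom.range_eq_map, Subgroup.range_subtype, Set.image_image]
    exact congrArg Subgroup.closure (Set.image_congr fun i hi => hx' i hi)
  have hact' : ∀ i < C.n, ∀ c < C.N, C.nxF i c < C.N ∧ x' i • obj c = obj (C.nxF i c) := fun i hi c hc =>
    ⟨(Cert.nxF_lt h hi hc).1, by
      show (x' i : G) • obj c = _
      rw [hx' i hi]; exact hact i hi c hc⟩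
  have horb : MulAction.orbit H (obj 0) = obj '' Set.Iio C.N := by
    refine Set.Subset.antisymm ?_ ?_
    · rintro _ ⟨g, rfl⟩
      have key : ∀ g : H, ∀ c < C.N, ∃ d < C.N, g • obj c = obj d := by
        intro g
        have hg : g ∈ Subgroup.closure (x' '' Set.Iio C.n) := hgen ▸ Subgroup.mem_top g
        induction hg using Subgroup.closure_induction with
        | mem y hy =>
          obtain ⟨i, hi, rfl⟩ := hy
          exact fun c hc => ⟨_, (hact' i hi c hc).1, (hact' i hi c hc).2⟩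
        | one => exact fun c hc => ⟨c, hc, one_smul _ _⟩
        | mul a b _ _ ha hb =>
          intro c hc
          obtain ⟨d, hd, e⟩ := hb c hc
          obtain ⟨d', hd', e'⟩ := ha d hd
          exact ⟨d', hd', by rw [mul_smul, e, e']⟩
        | inv a _ ha =>
          intro c hc
          -- `a` permutes the finitely many objects
          choose f hf hfe using ha
          let F : Fin C.N → Fin C.N := fun d => ⟨f d d.2, hf d d.2⟩
          have hFi : Function.Injective F := fun d d' e => by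
            have h1 : a • obj d = a • obj d' := by
              rw [hfe d d.2, hfe d' d'.2]
              exact congrArg obj (congrArg Fin.val e)
            exact Fin.ext (hinj d d.2 d' d'.2 (smul_left_cancel a h1))
          obtain ⟨d, hd⟩ := Finite.injective_iff_surjective.1 hFi ⟨c, hc⟩
          refine ⟨d, d.2, ?_⟩
          rw [inv_smul_eq_iff, hfe d d.2]
          exact congrArg obj (congrArg Fin.val hd).symm
      obtain ⟨d, hd, e⟩ := key g 0 h.hN
      exact ⟨d, hd, e.symm⟩
    · rintro _ ⟨c, hc, rfl⟩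
      induction c using Nat.strong_induction_on with
      | _ c ih =>
        rcases Nat.eq_zero_or_pos c with rfl | h0
        · exact MulAction.mem_orbit_self _
        · obtain ⟨h1, h2, h3⟩ := Cert.parF_spec h hc h0
          have := ih _ h1 (h1.trans hc)
          rw [← h3, ← (hact' _ h2 _ (h1.trans hc)).2]
          exact MulAction.mem_orbit_of_mem_orbit _ this
  have hstab : Nat.card (MulAction.stabilizer H (obj 0)) * H.index = Nat.card G / C.N := by
    have h1 : (MulAction.stabilizer H (obj 0)).index = C.N := by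
      rw [MulAction.index_stabilizer, horb, Set.InjOn.ncard_image]
      · rw [← Finset.coe_Iio, Set.ncard_coe_finset, Nat.card_Iio]
      · exact fun a ha b hb => hinj a ha b hb
    have h2 := Subgroup.card_mul_index (MulAction.stabilizer H (obj 0))
    rw [h1] at h2
    rw [← H.card_mul_index, ← h2]
    exact (Nat.div_eq_of_eq_mul_left h.hN (by ring)).symm
  have hcops : Nat.Coprime (Nat.card (MulAction.stabilizer H (obj 0))) C.m :=
    hcop.coprime_dvd_left (hstab ▸ dvd_mul_right _ _)
  have hcopi : Nat.Coprime H.index C.m := hcop.coprime_dvd_left (hstab ▸ dvd_mul_left _ _)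
  have hxo : ∀ i < C.n, orderOf (x' i) = ords.getD i 0 := fun i hi => by
    rw [← Subgroup.orderOf_coe, hx' i hi]; exact (hord i hi).1
  obtain ⟨u, hu, U, hall, hU⟩ := voltage_main (m := C.m) C.n C.N h.hN x' C.nxF C.pvF obj C.parF
    C.rels C.npow hgen hinj hact' (fun i hi c hc => (Cert.nxF_lt h hi hc).2)
    (fun c hc h0 => Cert.parF_spec h hc h0)
    (fun l hl => ⟨(Cert.rel_spec h hl).1, Subtype.ext (by rw [hwp l (Cert.rel_spec h hl).1, hrel l hl]; rfl)⟩)
    (fun r hr => by
      rw [hnp] at hr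
      refine ⟨_, r, (hord r hr).2.2, ?_, hxo r hr⟩
      rw [← hxo r hr]; exact pow_orderOf_eq_one _)
    (fun i hi => by rw [hxo i hi]; exact (hord i hi).2.1)
    σ' hs' hc' hA χ'
    (fun σH hsH hcH χH => extend_of_coprime hA σH hsH hcH hcops χH) t hzero
  refine ⟨u, hu, fun z => ?_⟩
  have hzK : (z : Γ) ∈ K := by
    show σ z ∈ H
    rw [MonoidHom.mem_ker.1 z.2]; exact one_mem _
  have hpow := TransferPow.central_pow_index_eq_one (Abelianization.of (G := K)) ⟨(z : Γ), hzK⟩
    (hσ.2.1 z.2) (hσ.2.2 z.2)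
  have hidx : K.index = H.index := Subgroup.index_comap_of_surjective H hσ.1
  rw [hidx, ← map_pow] at hpow
  have hzc : (⟨(z : Γ), hzK⟩ : K) ^ H.index ∈ commutator K := by
    rw [← Abelianization.ker_of]; exact hpow
  have hsup : U ⊔ σ'.ker = ⊤ := by
    rw [eq_top_iff]
    intro g _
    obtain ⟨w, hw⟩ := hall g
    rw [show g = g * (w : K)⁻¹ * w by group]
    exact Subgroup.mul_mem_sup hw w.2
  have hzU : (⟨(z : Γ), hzK⟩ : K) ^ H.index ∈ U :=
    SchurMultiplierBasic.commutator_le_of_sup_center U σ'.ker hc' hsup hzc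
  let zz : σ'.ker := ⟨⟨(z : Γ), hzK⟩, (hk' _).2 (MonoidHom.mem_ker.1 z.2)⟩
  have h1 := hU (zz ^ H.index) hzU
  rw [map_pow] at h1
  obtain ⟨k, hk⟩ := exists_mul_mod_one hcopi
  obtain ⟨j, hj⟩ : C.m ∣ 1 + H.index * k := (ZMod.natCast_eq_zero_iff _ _).1 (by
    rw [Nat.cast_add, Nat.cast_one, hk, add_neg_cancel])
  have h2 : χ' zz * χ' zz ^ (H.index * k) = 1 := by
    rw [← pow_succ', add_comm, hj, pow_mul, hA, one_pow]
  rw [show χ z = χ' zz from rfl, eq_inv_of_mul_eq_one_left h2, pow_mul]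
  exact Subgroup.inv_mem _ (Subgroup.pow_mem _ h1 k)

end Cfsg.Agent.J3MultBound90
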