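import Cfsg.Agent.Lib.J3MultP2Data90

/-! Kernel checks of the certificate on the cosets in the third Janko group, first part. -/

set_option autoImplicit false
set_option maxRecDepth 100000

namespace Cfsg.Agent.J3MultP2CertA90

open CosetCertCore J3Check90 J3VoltBin90 J3MultP2Data90

theorem g_small : gCert.smallOK = true := by decide +kernel
theorem g_coset : allFrom gCert.cosetOK 12312 0 = true := by decide +kernel
theorem g_edge0 : allFrom gCert.edgeOK 12312 0 = true := by decide +kernel

end Cfsg.Agent.J3MultP2CertA90
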