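import Cfsg.Agent.Lib.J3MultP2Data90

/-! Kernel checks of the certificate on the cosets in the third Janko group, second part. -/

set_option autoImplicit false
set_option maxRecDepth 100000
set_option Elab.async false

namespace Cfsg.Agent.J3MultP2CertB90

open CosetCertCore J3Check90 J3VoltBin90 J3MultP2Data90

/-- Consecutive ranges of a check join. -/
theorem allFrom_join (f : ℕ → Bool) :
    ∀ n m s : ℕ, allFrom f n s = true → allFrom f m (s + n) = true → allFrom f (n + m) s = true
  | 0, m, s, _, h2 => by simpa using h2
  | n + 1, m, s, h1, h2 => by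
    have h' : f s = true ∧ allFrom f n (s + 1) = true := by
      simpa [allFrom, force_eq] using h1
    have h3 : allFrom f (n + m) (s + 1) = true :=
      allFrom_join f n m (s + 1) h'.2 (by rwa [Nat.add_right_comm])
    rw [Nat.add_right_comm n 1 m]
    simpa [allFrom, force_eq] using And.intro h'.1 h3

theorem g_edge1a : allFrom gCert.edgeOK 3078 12312 = true := by decide +kernel
theorem g_edge1b : allFrom gCert.edgeOK 3078 15390 = true := by decide +kernel
theorem g_edge1c : allFrom gCert.edgeOK 3078 18468 = true := by decide +kernel
theorem g_edge1d : allFrom gCert.edgeOK 3078 21546 = true := by decide +kernel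

theorem g_edge1 : allFrom gCert.edgeOK 12312 12312 = true :=
  allFrom_join gCert.edgeOK 3078 9234 12312 g_edge1a
    (allFrom_join gCert.edgeOK 3078 6156 15390 g_edge1b
      (allFrom_join gCert.edgeOK 3078 3078 18468 g_edge1c g_edge1d))

end Cfsg.Agent.J3MultP2CertB90
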