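import Cfsg.Agent.Lib.J3MultP2Data90

/-! Kernel checks of the certificate on the cosets in the third Janko group, elimination. -/

set_option autoImplicit false
set_option maxRecDepth 100000

namespace Cfsg.Agent.J3MultP2CertC90

open CosetCertCore J3Check90 J3VoltBin90 J3MultP2Data90

theorem g_fin : allFrom gCert.finOK 250 0 = true := by decide +kernel

end Cfsg.Agent.J3MultP2CertC90
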