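import Cfsg.Agent.Lib.J3MultP2Data90
import Cfsg.Agent.Lib.J3OutCert90

/-! Kernel checks for the 2-part of the multiplier of the third Janko group. -/

set_option autoImplicit false
set_option maxRecDepth 100000
set_option Elab.async false

namespace Cfsg.Agent.J3MultP2Check90

open CosetCertCore J3Mat90 J3Data90 J3Check90 J3Cert2_90 J3OutCert90 J3VoltBin90 J3MultP2Data90

/-- The code of a word in generators of order three modulo scalars. -/
noncomputable def wM (g : List ℕ) : List (ℕ × Bool) → ℕ
  | [] => J3Data90.one
  | (i, b) :: l => force (g.getD i 0) fun x =>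
      force (wM g l) fun r => mulN r (cond b x (mulN x x))

noncomputable def cubeOK (g : ℕ) : Bool :=
  isScal (mulN (mulN g g) g) && notScal g

noncomputable def relsOK (g : List ℕ) (rs : List (List (ℕ × Bool))) : Bool :=
  rs.all fun l => isScal (wM g l) && l.all fun t => Nat.blt t.1 2

noncomputable def gTreeOK (c : ℕ) : Bool :=
  Nat.beq c 0 || force (entry gPar 16 c) fun e =>
    Nat.blt (e / 2) c &&
      Nat.beq (entry gT 162 c) (mulN (gGens.getD (e % 2) 0) (entry gT 162 (e / 2)))

noncomputable def hTreeOK (c : ℕ) : Bool :=
  Nat.beq c 0 || force (entry hPar 16 c) fun e =>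
    Nat.blt (e / 2) c &&
      Nat.beq (entry hT 162 c) (mulN (hGens.getD (e % 2) 0) (entry hT 162 (e / 2)))

noncomputable def hStep (n : ℕ) : Bool :=
  force (entry hE 16 n) fun q => force (entry hNx 16 n) fun d =>
  Nat.blt q 51 && Nat.beq (mulN (hGens.getD (n % 2) 0) (entry hT 162 (n / 2)))
    (mulN (entry hT 162 d) (entry cz 162 q))

noncomputable def gStep (n : ℕ) : Bool :=
  force (entry gE 16 n) fun q => force (entry gNx 16 n) fun d =>
  Nat.blt q 12240 && Nat.beq (mulN (gGens.getD (n % 2) 0) (entry gT 162 (n / 2)))
    (mulN (entry gT 162 d) (mulN (entry hT 162 (q / 51)) (entry cz 162 (q % 51))))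

noncomputable def czOK (q : ℕ) : Bool :=
  Nat.beq (entry cz 162 q) (mulN (powN cc (q / 3)) (powN scal (q % 3)))

theorem mem_ok : memOK (gGens.getD 0 0) (memCode.getD 0 0) = true ∧
    memOK (gGens.getD 1 0) (memCode.getD 1 0) = true ∧
    memOK (hGens.getD 0 0) (memCode.getD 2 0) = true ∧
    memOK (hGens.getD 1 0) (memCode.getD 3 0) = true := by decide +kernel

theorem cubes : cubeOK (gGens.getD 0 0) = true ∧ cubeOK (gGens.getD 1 0) = true ∧
    cubeOK (hGens.getD 0 0) = true ∧ cubeOK (hGens.getD 1 0) = true := by decide +kernel

theorem grels : relsOK gGens gRels = true ∧ gRels.getD 0 [] = List.replicate 3 (0, true) ∧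
    gRels.getD 1 [] = List.replicate 3 (1, true) := by decide +kernel

theorem hrels : relsOK hGens hRels = true ∧ hRels.getD 0 [] = List.replicate 3 (0, true) ∧
    hRels.getD 1 [] = List.replicate 3 (1, true) := by decide +kernel

theorem words : (Nat.beq cc (wM hGens cW) && cW.all (fun t => Nat.blt t.1 2) &&
    isScal (powN cc 17) && notScal cc &&
    aW.all (fun t => Nat.blt t.1 2) && bW.all (fun t => Nat.blt t.1 2) &&
    isScal (mulN (wM gGens aW) (powN genA 18)) &&
    isScal (mulN (wM gGens bW) (powN genB 18))) = true := by decide +kernel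

theorem heads : entry gT 162 0 = J3Data90.one ∧ entry hT 162 0 = J3Data90.one := by decide +kernel

theorem cz_ok : allFrom czOK 51 0 = true := by decide +kernel
theorem h_tree : allFrom hTreeOK 240 0 = true := by decide +kernel
theorem h_step : allFrom hStep 480 0 = true := by decide +kernel
theorem g_tree0 : allFrom gTreeOK 6156 0 = true := by decide +kernel
theorem g_tree1 : allFrom gTreeOK 6156 6156 = true := by decide +kernel
theorem g_tree : allFrom gTreeOK 12312 0 = true :=
  allFrom_append gTreeOK 6156 6156 0 g_tree0 g_tree1
theorem g_step0 : allFrom gStep 6156 0 = true := by decide +kernel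
theorem g_step1 : allFrom gStep 6156 6156 = true := by decide +kernel
theorem g_step2 : allFrom gStep 6156 12312 = true := by decide +kernel
theorem g_step3 : allFrom gStep 6156 18468 = true := by decide +kernel
theorem g_step : allFrom gStep 24624 0 = true :=
  allFrom_append gStep 18468 6156 0
    (allFrom_append gStep 12312 6156 0
      (allFrom_append gStep 6156 6156 0 g_step0 g_step1) g_step2) g_step3

theorem h_small : hCert.smallOK = true := by decide +kernel
theorem h_coset : allFrom hCert.cosetOK 240 0 = true := by decide +kernel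
theorem h_edge : allFrom hCert.edgeOK 480 0 = true := by decide +kernel
theorem h_fin : allFrom hCert.finOK 9 0 = true := by decide +kernel

end Cfsg.Agent.J3MultP2Check90
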