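import Cfsg.Agent.Lib.J3VoltUtil90
import Cfsg.Agent.Lib.J3Out90
import Cfsg.Agent.Lib.J3MultP2Check90
import Cfsg.Agent.Lib.J3MultP2CertA90
import Cfsg.Agent.Lib.J3MultP2CertB90
import Cfsg.Agent.Lib.J3MultP2CertC90

/-! Characters of order two of the kernel of a central extension of the third Janko group extend. -/

set_option autoImplicit false
set_option maxRecDepth 100000

namespace Cfsg.Agent.J3MultP2_90

open CosetCertCore J3Mat90 J3Data90 J3Check90 J3Cert2_90 J3OutCert90 J3Level90 J3Chain90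
open J3Order90 J3Simple90 J3InvLift90 J3InvCore90 J3Out90 J3VoltBin90 J3VoltUtil90 SplitVoltage
open J3MultP2Data90 J3MultP2Check90 J3MultP2CertA90 J3MultP2CertB90 J3MultP2CertC90
open Cfsg.Spor

theorem split_from {f : ℕ → Bool} {a b : ℕ} (h1 : allFrom f a 0 = true) (h2 : allFrom f b a = true) :
    ∀ x < a + b, f x = true := by
  intro x hx
  by_cases h : x < a
  · exact allFrom_spec _ _ _ h1 x (Nat.zero_le _) (by omega)
  · exact allFrom_spec _ _ _ h2 x (by omega) (by omega)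

theorem g_ok : gCert.OK where
  small := g_small
  coset := fun c hc => allFrom_spec _ _ _ g_coset c (Nat.zero_le _) (by simpa [gCert] using hc)
  edge := fun ed hed => split_from g_edge0 g_edge1 ed (by simpa [gCert] using hed)
  fin := fun k hk => allFrom_spec _ _ _ g_fin k (Nat.zero_le _) (by simpa [gCert] using hk)

theorem h_ok : hCert.OK where
  small := h_small
  coset := fun c hc => allFrom_spec _ _ _ h_coset c (Nat.zero_le _) (by simpa [hCert] using hc)
  edge := fun ed hed => allFrom_spec _ _ _ h_edge ed (Nat.zero_le _) (by simpa [hCert] using hed)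
  fin := fun k hk => allFrom_spec _ _ _ h_fin k (Nat.zero_le _) (by simpa [hCert] using hk)

section
variable {F : Type*} [Field F] [Finite F] (ω : F)

/-- The element of the quotient with a given code. -/
noncomputable def P (M : ℕ) : J3 F ω := pi ω (lift ω M)

variable (h2 : (2 : F) = 0) (hω : ω ^ 2 + ω + 1 = 0) (h4 : Nat.card F = 4)
include h2 hω

theorem P_mul {A B : ℕ} (hA : ev ω A ∈ M0 ω) (hB : ev ω B ∈ M0 ω) :
    P ω (mulN A B) = P ω A * P ω B := by
  rw [P, P, P, ← map_mul, lift_mul ω h2 hω hA hB rfl]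

theorem P_one : P ω J3Data90.one = 1 := by rw [P, lift_one ω h2 hω, map_one]

theorem P_powN {A : ℕ} (hA : ev ω A ∈ M0 ω) (n : ℕ) : P ω (powN A n) = P ω A ^ n := by
  rw [P, P, ← map_pow, (lift_powN ω h2 hω hA n).2]

include h4 in
theorem P_scal {A : ℕ} (hA : ev ω A ∈ M0 ω) (h : isScal A = true) : P ω A = 1 :=
  pi_of_isScal ω h2 hω h4 hA h

theorem gens_M0 : ∀ i < 2, ev ω (gGens.getD i 0) ∈ M0 ω ∧ ev ω (hGens.getD i 0) ∈ M0 ω := by
  obtain ⟨m1, m2, m3, m4⟩ := mem_ok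
  intro i hi
  interval_cases i
  · exact ⟨mem_of_memOK ω h2 hω m1, mem_of_memOK ω h2 hω m3⟩
  · exact ⟨mem_of_memOK ω h2 hω m2, mem_of_memOK ω h2 hω m4⟩

theorem wM_M0 (g : List ℕ) (hg : ∀ i < 2, ev ω (g.getD i 0) ∈ M0 ω) :
    ∀ l : List (ℕ × Bool), (∀ t ∈ l, t.1 < 2) → ev ω (wM g l) ∈ M0 ω
  | [], _ => one_M0 ω h2 hω
  | (i, b) :: l, hl => by
    have hi : i < 2 := hl (i, b) List.mem_cons_self
    have ih := wM_M0 g hg l fun t ht => hl t (List.mem_cons_of_mem _ ht)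
    simp only [wM, force_eq]
    cases b
    · exact mulN_M0 ω h2 hω ih (mulN_M0 ω h2 hω (hg i hi) (hg i hi))
    · exact mulN_M0 ω h2 hω ih (hg i hi)

include h4

theorem cube_spec {g : ℕ} (hg : ev ω g ∈ M0 ω) (h : cubeOK g = true) :
    P ω g * P ω g * P ω g = 1 ∧ orderOf (P ω g) = 3 := by
  simp only [cubeOK, Bool.and_eq_true] at h
  have h3 : P ω g * P ω g * P ω g = 1 := by
    rw [← P_mul ω h2 hω hg hg, ← P_mul ω h2 hω (mulN_M0 ω h2 hω hg hg) hg]
    exact P_scal ω h2 hω h4 (mulN_M0 ω h2 hω (mulN_M0 ω h2 hω hg hg) hg) h.1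
  haveI : Fact (Nat.Prime 3) := ⟨Nat.prime_three⟩
  refine ⟨h3, orderOf_eq_prime ?_ (ne_of_notScal ω h2 hω h4 hg h.2)⟩
  rw [pow_succ, pow_two]; exact h3

theorem cube_all : ∀ i < 2, (P ω (gGens.getD i 0) * P ω (gGens.getD i 0) * P ω (gGens.getD i 0) = 1 ∧
      orderOf (P ω (gGens.getD i 0)) = 3) ∧
    (P ω (hGens.getD i 0) * P ω (hGens.getD i 0) * P ω (hGens.getD i 0) = 1 ∧
      orderOf (P ω (hGens.getD i 0)) = 3) := by
  intro i hi
  have hm := gens_M0 ω h2 hω
  obtain ⟨c1, c2, c3, c4⟩ := cubes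
  interval_cases i
  · exact ⟨cube_spec ω h2 hω h4 (hm 0 hi).1 c1, cube_spec ω h2 hω h4 (hm 0 hi).2 c3⟩
  · exact ⟨cube_spec ω h2 hω h4 (hm 1 hi).1 c2, cube_spec ω h2 hω h4 (hm 1 hi).2 c4⟩

theorem wM_spec (g : List ℕ) (hg : ∀ i < 2, ev ω (g.getD i 0) ∈ M0 ω ∧
      P ω (g.getD i 0) * P ω (g.getD i 0) * P ω (g.getD i 0) = 1) :
    ∀ l : List (ℕ × Bool), (∀ t ∈ l, t.1 < 2) →
      P ω (wM g l) = wprod (fun i => P ω (g.getD i 0)) l
  | [], _ => P_one ω h2 hω
  | (i, b) :: l, hl => by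
    have hi : i < 2 := hl (i, b) List.mem_cons_self
    have hl' : ∀ t ∈ l, t.1 < 2 := fun t ht => hl t (List.mem_cons_of_mem _ ht)
    have ih := wM_spec g hg l hl'
    have hM := wM_M0 ω h2 hω g (fun i hi => (hg i hi).1) l hl'
    obtain ⟨hgM, hg3⟩ := hg i hi
    simp only [wM, force_eq, wprod]
    cases b
    · rw [if_neg (by simp), cond_false, P_mul ω h2 hω hM (mulN_M0 ω h2 hω hgM hgM),
        P_mul ω h2 hω hgM hgM, ih, eq_inv_of_mul_eq_one_left hg3]
    · rw [if_pos rfl, cond_true, P_mul ω h2 hω hM hgM, ih]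

theorem rels_spec (g : List ℕ) (hg : ∀ i < 2, ev ω (g.getD i 0) ∈ M0 ω ∧
      P ω (g.getD i 0) * P ω (g.getD i 0) * P ω (g.getD i 0) = 1)
    (rs : List (List (ℕ × Bool))) (h : relsOK g rs = true) :
    ∀ l ∈ rs, (∀ t ∈ l, t.1 < 2) ∧ wprod (fun i => P ω (g.getD i 0)) l = 1 := by
  intro l hl
  have := List.all_eq_true.1 h l hl
  simp only [Bool.and_eq_true, List.all_eq_true, Nat.blt_eq] at this
  refine ⟨this.2, ?_⟩
  rw [← wM_spec ω h2 hω h4 g hg l this.2]
  exact P_scal ω h2 hω h4 (wM_M0 ω h2 hω g (fun i hi => (hg i hi).1) l this.2) this.1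

omit h2 hω h4 in
/-- A copy of the group of order 4080 inside the quotient. -/
noncomputable def K0 : Subgroup (J3 F ω) :=
  Subgroup.closure ((fun i => P ω (hGens.getD i 0)) '' Set.Iio 2)

omit h2 hω h4 in
theorem hgen_mem {i : ℕ} (hi : i < 2) : P ω (hGens.getD i 0) ∈ K0 ω :=
  Subgroup.subset_closure ⟨i, hi, rfl⟩

omit h2 hω h4 in
theorem wprod_mem {G : Type*} [Group G] (H : Subgroup G) (x : ℕ → G) :
    ∀ l : List (ℕ × Bool), (∀ t ∈ l, x t.1 ∈ H) → wprod x l ∈ H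
  | [], _ => H.one_mem
  | (i, b) :: l, hl => by
    refine H.mul_mem (wprod_mem H x l fun t ht => hl t (List.mem_cons_of_mem _ ht)) ?_
    cases b
    · exact H.inv_mem (hl (i, false) List.mem_cons_self)
    · exact hl (i, true) List.mem_cons_self

theorem cc_spec : ev ω cc ∈ M0 ω ∧ P ω cc ∈ K0 ω ∧ orderOf (P ω cc) = 17 := by
  have h := J3MultP2Check90.words
  simp only [Bool.and_eq_true, Nat.beq_eq, List.all_eq_true, Nat.blt_eq] at h
  obtain ⟨⟨⟨⟨⟨⟨⟨e, hw⟩, h17⟩, hne⟩, -⟩, -⟩, -⟩, -⟩ := h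
  have hg := fun i hi => ((gens_M0 ω h2 hω) i hi).2
  have hM : ev ω cc ∈ M0 ω := e ▸ wM_M0 ω h2 hω hGens hg cW hw
  refine ⟨hM, ?_, ?_⟩
  · rw [e, wM_spec ω h2 hω h4 hGens (fun i hi => ⟨hg i hi, (cube_all ω h2 hω h4 i hi).2.1⟩) cW hw]
    exact wprod_mem _ _ _ fun t ht => hgen_mem ω (hw t ht)
  · haveI : Fact (Nat.Prime 17) := ⟨by norm_num⟩
    refine orderOf_eq_prime ?_ (ne_of_notScal ω h2 hω h4 hM hne)
    rw [← P_powN ω h2 hω hM]
    exact P_scal ω h2 hω h4 (lift_powN ω h2 hω hM 17).1 h17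

theorem cz_spec {q : ℕ} (hq : q < 51) : ev ω (entry cz 162 q) ∈ M0 ω ∧
    P ω (entry cz 162 q) = P ω cc ^ (q / 3) := by
  have h := allFrom_spec _ _ _ cz_ok q (Nat.zero_le _) (by omega)
  simp only [czOK, Nat.beq_eq] at h
  have hc := (cc_spec ω h2 hω h4).1
  have hs := scal_M0 ω h2 hω
  have hsc : P ω scal = 1 := P_scal ω h2 hω h4 hs (by simp [isScal, Nat.beq_refl])
  have a := lift_powN ω h2 hω hc (q / 3)
  have b := lift_powN ω h2 hω hs (q % 3)
  refine ⟨h ▸ mulN_M0 ω h2 hω a.1 b.1, ?_⟩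
  rw [h, P_mul ω h2 hω a.1 b.1, P_powN ω h2 hω hc, P_powN ω h2 hω hs, hsc, one_pow, mul_one]

theorem hT_spec : ∀ c < 240, ev ω (entry hT 162 c) ∈ M0 ω ∧ P ω (entry hT 162 c) ∈ K0 ω := by
  intro c
  induction c using Nat.strong_induction_on with
  | _ c ih =>
    intro hc
    by_cases h0 : c = 0
    · subst h0
      rw [heads.2]
      exact ⟨one_M0 ω h2 hω, by rw [P_one ω h2 hω]; exact (K0 ω).one_mem⟩
    have hs := allFrom_spec _ _ _ h_tree c (Nat.zero_le _) (by omega)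
    simp only [hTreeOK, force_eq, Bool.or_eq_true, Bool.and_eq_true, Nat.blt_eq, Nat.beq_eq] at hs
    obtain ⟨hp, he⟩ := hs.resolve_left h0
    obtain ⟨a, b⟩ := ih _ hp (hp.trans hc)
    have hi : entry hPar 16 c % 2 < 2 := Nat.mod_lt _ (by norm_num)
    have hg := (gens_M0 ω h2 hω _ hi).2
    rw [he, P_mul ω h2 hω hg a]
    exact ⟨mulN_M0 ω h2 hω hg a, (K0 ω).mul_mem (hgen_mem ω hi) b⟩

theorem hT_act {i c : ℕ} (hi : i < 2) (hc : c < 240) : ∃ k : ℕ, hCert.nxF i c < 240 ∧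
    P ω (hGens.getD i 0) * P ω (entry hT 162 c) =
      P ω (entry hT 162 (hCert.nxF i c)) * P ω cc ^ k := by
  have hs := allFrom_spec _ _ _ h_step (i + 2 * c) (Nat.zero_le _) (by omega)
  simp only [hStep, force_eq, Bool.and_eq_true, Nat.blt_eq, Nat.beq_eq,
    show (i + 2 * c) % 2 = i by omega, show (i + 2 * c) / 2 = c by omega] at hs
  obtain ⟨hq, he⟩ := hs
  have hd : hCert.nxF i c < 240 :=
    (BCert.table_spec h_ok (by simpa [hCert] using hi) (by simpa [hCert] using hc)).1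
  refine ⟨entry hE 16 (i + 2 * c) / 3, hd, ?_⟩
  obtain ⟨z1, z2⟩ := cz_spec ω h2 hω h4 hq
  have hT := hT_spec ω h2 hω h4
  rw [← P_mul ω h2 hω (gens_M0 ω h2 hω i hi).2 (hT c hc).1, he,
    P_mul ω h2 hω (hT _ (by exact hd)).1 z1, z2]
  rfl

theorem gT_spec : ∀ c < 12312, ev ω (entry gT 162 c) ∈ M0 ω := by
  intro c
  induction c using Nat.strong_induction_on with
  | _ c ih =>
    intro hc
    by_cases h0 : c = 0
    · subst h0
      rw [heads.1]
      exact one_M0 ω h2 hω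
    have hs := allFrom_spec _ _ _ g_tree c (Nat.zero_le _) (by omega)
    simp only [gTreeOK, force_eq, Bool.or_eq_true, Bool.and_eq_true, Nat.blt_eq, Nat.beq_eq] at hs
    obtain ⟨hp, he⟩ := hs.resolve_left h0
    rw [he]
    exact mulN_M0 ω h2 hω (gens_M0 ω h2 hω _ (Nat.mod_lt _ (by norm_num))).1 (ih _ hp (hp.trans hc))

theorem gT_act {i c : ℕ} (hi : i < 2) (hc : c < 12312) : gCert.nxF i c < 12312 ∧ ∃ k ∈ K0 ω,
    P ω (gGens.getD i 0) * P ω (entry gT 162 c) = P ω (entry gT 162 (gCert.nxF i c)) * k := by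
  have hs := allFrom_spec _ _ _ g_step (i + 2 * c) (Nat.zero_le _) (by omega)
  simp only [gStep, force_eq, Bool.and_eq_true, Nat.blt_eq, Nat.beq_eq,
    show (i + 2 * c) % 2 = i by omega, show (i + 2 * c) / 2 = c by omega] at hs
  obtain ⟨hq, he⟩ := hs
  have hd : gCert.nxF i c < 12312 :=
    (BCert.table_spec g_ok (by simpa [gCert] using hi) (by simpa [gCert] using hc)).1
  refine ⟨hd, P ω (entry hT 162 (entry gE 16 (i + 2 * c) / 51)) *
    P ω (entry cz 162 (entry gE 16 (i + 2 * c) % 51)), ?_, ?_⟩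
  rotate_left
  · obtain ⟨t1, t2⟩ := hT_spec ω h2 hω h4 (entry gE 16 (i + 2 * c) / 51) (by omega)
    obtain ⟨z1, z2⟩ := cz_spec ω h2 hω h4 (q := entry gE 16 (i + 2 * c) % 51) (by omega)
    rw [← P_mul ω h2 hω (gens_M0 ω h2 hω i hi).1 (gT_spec ω h2 hω h4 c hc), he,
      P_mul ω h2 hω (gT_spec ω h2 hω h4 _ (by exact hd)) (mulN_M0 ω h2 hω t1 z1), P_mul ω h2 hω t1 z1]
    rfl
  · obtain ⟨t1, t2⟩ := hT_spec ω h2 hω h4 (entry gE 16 (i + 2 * c) / 51) (by omega)
    obtain ⟨z1, z2⟩ := cz_spec ω h2 hω h4 (q := entry gE 16 (i + 2 * c) % 51) (by omega)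
    rw [z2]
    exact (K0 ω).mul_mem t2 ((K0 ω).pow_mem (cc_spec ω h2 hω h4).2.1 _)

theorem gens_top : Subgroup.closure ((fun i => P ω (gGens.getD i 0)) '' Set.Iio 2) = ⊤ := by
  set U := Subgroup.closure ((fun i => P ω (gGens.getD i 0)) '' Set.Iio 2)
  have h := J3MultP2Check90.words
  simp only [Bool.and_eq_true, Nat.beq_eq, List.all_eq_true, Nat.blt_eq] at h
  obtain ⟨⟨⟨⟨-, ha⟩, hb⟩, hA⟩, hB⟩ := h
  have hg : ∀ i < 2, ev ω (gGens.getD i 0) ∈ M0 ω ∧
      P ω (gGens.getD i 0) * P ω (gGens.getD i 0) * P ω (gGens.getD i 0) = 1 :=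
    fun i hi => ⟨(gens_M0 ω h2 hω i hi).1, (cube_all ω h2 hω h4 i hi).1.1⟩
  have key : ∀ (w : List (ℕ × Bool)) (g : ℕ), (∀ t ∈ w, t.1 < 2) → ev ω g ∈ M0 ω →
      P ω g ^ 19 = 1 → isScal (mulN (wM gGens w) (powN g 18)) = true → P ω g ∈ U := by
    intro w g hw hgM h19 hsc
    have hwM := wM_M0 ω h2 hω gGens (fun i hi => (hg i hi).1) w hw
    have h18 := lift_powN ω h2 hω hgM 18
    have := P_scal ω h2 hω h4 (mulN_M0 ω h2 hω hwM h18.1) hsc
    rw [P_mul ω h2 hω hwM h18.1, P_powN ω h2 hω hgM, wM_spec ω h2 hω h4 gGens hg w hw] at this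
    have e : P ω g = wprod (fun i => P ω (gGens.getD i 0)) w := by
      have e1 : P ω g ^ 18 * P ω g = 1 := by rw [← pow_succ]; exact h19
      rw [eq_inv_of_mul_eq_one_left this, eq_inv_of_mul_eq_one_left e1, inv_inv]
    rw [e]
    exact wprod_mem _ _ _ fun t ht => Subgroup.subset_closure ⟨t.1, hw t ht, rfl⟩
  have hA19 : P ω genA ^ 19 = 1 := by rw [P, ← map_pow, genA_pow19 ω h2 hω, map_one]
  have hB19 : P ω genB ^ 19 = 1 := by
    have : lift ω genB ^ 19 = 1 := coe_inj ω (by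
      simp [lift_spec ω h2 hω (genB_M0 ω h2 hω), genB_pow ω h2 hω])
    rw [P, ← map_pow, this, map_one]
  have kA := key aW genA ha (genA_M0 ω h2 hω) hA19 hA
  have kB := key bW genB hb (genB_M0 ω h2 hω) hB19 hB
  have hM : ∀ {m : Matrix F9 F9 F}, m ∈ M0 ω → ∀ g : threeJ3 F ω,
      ((g : GL F9 F) : Matrix F9 F9 F) = m → pi ω g ∈ U := by
    intro m hm
    induction hm using Submonoid.closure_induction with
    | mem m hm =>
      intro g hg
      rcases hm with rfl | rfl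
      · rw [show g = lift ω genA from coe_inj ω (by rw [hg, lift_spec ω h2 hω (genA_M0 ω h2 hω)])]
        exact kA
      · rw [show g = lift ω genB from coe_inj ω (by rw [hg, lift_spec ω h2 hω (genB_M0 ω h2 hω)])]
        exact kB
    | one =>
      intro g hg
      rw [show g = 1 from coe_inj ω (by rw [hg]; simp), map_one]
      exact U.one_mem
    | mul a b ha' hb' iha ihb =>
      intro g hg
      obtain ⟨ga, ea⟩ := exists_lift ω h2 hω ha'
      obtain ⟨gb, eb⟩ := exists_lift ω h2 hω hb'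
      rw [show g = ga * gb from coe_inj ω (by rw [hg]; simp [ea, eb]), map_mul]
      exact U.mul_mem (iha ga ea) (ihb gb eb)
  rw [eq_top_iff]
  intro x _
  obtain ⟨g, rfl⟩ := QuotientGroup.mk_surjective x
  exact hM ((mem_iff ω h2 hω (g : GL F9 F)).1 g.2) g rfl

/-- Characters of order two extend. -/
theorem censplit : CenSplit 2 (J3 F ω) := by
  haveI : Finite (J3 F ω) := Nat.finite_of_card_ne_zero (by rw [card_J3 ω h2 hω h4]; norm_num)
  haveI : NeZero (2 : ℕ) := ⟨two_ne_zero⟩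
  haveI hK : Finite (K0 ω) := inferInstance
  obtain ⟨hccM, hccK, hcc17⟩ := cc_spec ω h2 hω h4
  -- the small table
  let xK : ℕ → K0 ω := fun i => if hi : i < 2 then ⟨_, hgen_mem ω hi⟩ else 1
  have hxK : ∀ i < 2, (xK i : J3 F ω) = P ω (hGens.getD i 0) := fun i hi => by
    show ((if h : i < 2 then _ else 1 : K0 ω) : J3 F ω) = _
    rw [dif_pos hi]
  let TK : ℕ → K0 ω := fun c =>
    if hc : c < 240 then ⟨_, (hT_spec ω h2 hω h4 c hc).2⟩ else 1
  have hTK : ∀ c < 240, (TK c : J3 F ω) = P ω (entry hT 162 c) := fun c hc => by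
    show ((if h : c < 240 then _ else 1 : K0 ω) : J3 F ω) = _
    rw [dif_pos hc]
  let C17 : Subgroup (K0 ω) := Subgroup.zpowers ⟨P ω cc, hccK⟩
  have hC17 : Nat.card C17 = 17 := by
    rw [Nat.card_zpowers, ← Subgroup.orderOf_coe]; exact hcc17
  have hgenK : Subgroup.closure (xK '' Set.Iio 2) = ⊤ := by
    refine Subgroup.map_injective (K0 ω).subtype_injective ?_
    rw [MonoidHom.map_closure, ← MonoidHom.range_eq_map, Subgroup.range_subtype, Set.image_image]
    exact congrArg Subgroup.closure (Set.image_congr fun i hi => hxK i hi)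
  have hTK0 : TK 0 = 1 := Subtype.ext (by
    rw [hTK 0 (by norm_num), heads.2, P_one ω h2 hω]; rfl)
  have hactK : ∀ i < 2, ∀ c < 240, hCert.nxF i c < 240 ∧ ∃ k ∈ C17,
      xK i * TK c = TK (hCert.nxF i c) * k := by
    intro i hi c hc
    obtain ⟨k, hd, e⟩ := hT_act ω h2 hω h4 hi hc
    refine ⟨hd, _, Subgroup.pow_mem _ (Subgroup.mem_zpowers _) k, Subtype.ext ?_⟩
    rw [Subgroup.coe_mul, Subgroup.coe_mul, SubmonoidClass.coe_pow, hxK i hi, hTK c hc, hTK _ hd]
    exact e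
  obtain ⟨hidxK, hsK⟩ := index_le C17 xK TK 2 240 (by norm_num) hgenK hTK0
    (fun i hi c hc => ⟨_, (hactK i hi c hc).1, (hactK i hi c hc).2⟩)
  -- the large table
  let x : ℕ → J3 F ω := fun i => P ω (gGens.getD i 0)
  let T : ℕ → J3 F ω := fun c => P ω (entry gT 162 c)
  have hT0 : T 0 = 1 := by show P ω _ = 1; rw [heads.1, P_one ω h2 hω]
  obtain ⟨hidx, hs⟩ := index_le (K0 ω) x T 2 12312 (by norm_num) (gens_top ω h2 hω h4) hT0
    (fun i hi c hc => ⟨_, (gT_act ω h2 hω h4 hi hc).1, (gT_act ω h2 hω h4 hi hc).2⟩)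
  have hcK := C17.card_mul_index
  have hcG := (K0 ω).card_mul_index
  rw [hC17] at hcK
  rw [card_J3 ω h2 hω h4] at hcG
  have hidxK' : C17.index = 240 := by
    by_contra hne
    have : Nat.card (K0 ω) ≤ 17 * 239 := by rw [← hcK]; exact Nat.mul_le_mul_left _ (by omega)
    have := Nat.mul_le_mul this hidx
    omega
  have hidx' : (K0 ω).index = 12312 := by
    rw [← hcK, hidxK'] at hcG
    omega
  have hA : ∀ a : Multiplicative (ZMod 2), a ^ 2 = 1 := fun a =>
    Multiplicative.toAdd.injective (by rw [toAdd_pow, ZModModule.char_nsmul_eq_zero, toAdd_one])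
  have h2A : ∀ a : Additive (Multiplicative (ZMod 2)), a + a = 0 := fun a => by
    rw [← two_nsmul]
    exact Additive.toMul.injective (by rw [toMul_nsmul, toMul_zero]; exact hA a.toMul)
  -- the small group
  have hstK : MulAction.stabilizer (K0 ω) (QuotientGroup.mk (TK 0) : (K0 ω) ⧸ C17) = C17 := by
    rw [hTK0]; exact MulAction.stabilizer_quotient C17
  have splitK : CenSplit 2 (K0 ω) := by
    intro Γ _ _ σ hσ hc χ
    obtain ⟨hg1, hr0, hr1⟩ := hrels
    obtain ⟨u, hu, U, hall, hU⟩ := voltage_main (m := 2) (G := K0 ω) 2 240 (by norm_num) xK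
      hCert.nxF hCert.pvF (fun c => (QuotientGroup.mk (TK c) : (K0 ω) ⧸ C17)) hCert.parF hRels 2
      hgenK (table_inj C17 TK 240 hidxK' hsK)
      (fun i hi c hc => by
        obtain ⟨hd, k, hk, e⟩ := hactK i hi c hc
        refine ⟨hd, ?_⟩
        show QuotientGroup.mk (xK i * TK c) = _
        rw [e, QuotientGroup.mk_mul_of_mem _ hk])
      (fun i hi c hc => (BCert.table_spec h_ok hi hc).2)
      (fun c hc h0 => BCert.tree_spec h_ok hc h0)
      (fun l hl => by
        obtain ⟨a, b⟩ := rels_spec ω h2 hω h4 hGens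
          (fun i hi => ⟨(gens_M0 ω h2 hω i hi).2, (cube_all ω h2 hω h4 i hi).2.1⟩) hRels hg1 l hl
        refine ⟨a, Subtype.ext ?_⟩
        have := map_wprod (K0 ω).subtype xK (fun i => P ω (hGens.getD i 0)) (n := 2)
          (fun i hi => hxK i hi) l a
        rw [show ((wprod xK l : K0 ω) : J3 F ω) = (K0 ω).subtype (wprod xK l) from rfl, this, b]
        rfl)
      (fun r hr => by
        refine ⟨3, r, ?_, ?_, ?_⟩
        · interval_cases r
          · exact hr0
          · exact hr1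
        · apply Subtype.ext
          rw [SubmonoidClass.coe_pow, hxK r hr, pow_succ, pow_two]
          exact (cube_all ω h2 hω h4 r hr).2.1
        · rw [← Subgroup.orderOf_coe, hxK r hr]; exact (cube_all ω h2 hω h4 r hr).2.2)
      (fun i hi => by rw [← Subgroup.orderOf_coe, hxK i hi, (cube_all ω h2 hω h4 i hi).2.2]; norm_num)
      σ hσ hc hA χ
      (fun σH hsH hcH χH => by
        refine censplit_of_coprime ?_ _ σH hsH hcH χH
        rw [hstK, hC17]; norm_num)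
      1
      (fun v e ht he hp => ⟨0, nsmul_zero _, fun i hi c hc => by
        rw [BCert.solution_zero h_ok h2A v e ht he hp i hi c hc]
        exact zero_mem _⟩)
    rw [pow_one] at hu
    refine extend_of_U σ hc χ U hall fun z hz => ?_
    have := hU z hz
    rwa [hu, Subgroup.zpowers_one_eq_bot, Subgroup.mem_bot] at this
  -- the whole group
  have hst : MulAction.stabilizer (J3 F ω) (QuotientGroup.mk (T 0) : J3 F ω ⧸ K0 ω) = K0 ω := by
    rw [hT0]; exact MulAction.stabilizer_quotient _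
  intro Γ _ _ σ hσ hc χ
  obtain ⟨hg1, hr0, hr1⟩ := grels
  obtain ⟨u, hu, U, hall, hU⟩ := voltage_main (m := 2) (G := J3 F ω) 2 12312 (by norm_num) x
    gCert.nxF gCert.pvF (fun c => (QuotientGroup.mk (T c) : J3 F ω ⧸ K0 ω)) gCert.parF gRels 2
    (gens_top ω h2 hω h4) (table_inj (K0 ω) T 12312 hidx' hs)
    (fun i hi c hc => by
      obtain ⟨hd, k, hk, e⟩ := gT_act ω h2 hω h4 hi hc
      refine ⟨hd, ?_⟩
      show QuotientGroup.mk (x i * T c) = _
      rw [show x i * T c = _ from e, QuotientGroup.mk_mul_of_mem _ hk])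
    (fun i hi c hc => (BCert.table_spec g_ok hi hc).2)
    (fun c hc h0 => BCert.tree_spec g_ok hc h0)
    (fun l hl => rels_spec ω h2 hω h4 gGens
      (fun i hi => ⟨(gens_M0 ω h2 hω i hi).1, (cube_all ω h2 hω h4 i hi).1.1⟩) gRels hg1 l hl)
    (fun r hr => by
      refine ⟨3, r, ?_, ?_, (cube_all ω h2 hω h4 r hr).1.2⟩
      · interval_cases r
        · exact hr0
        · exact hr1
      · rw [pow_succ, pow_two]; exact (cube_all ω h2 hω h4 r hr).1.1)
    (fun i hi => by rw [(cube_all ω h2 hω h4 i hi).1.2]; norm_num)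
    σ hσ hc hA χ
    (fun σH hsH hcH χH =>
      censplit_of_equiv (MulEquiv.subgroupCongr hst).symm splitK _ σH hsH hcH χH)
    1
    (fun v e ht he hp => ⟨0, nsmul_zero _, fun i hi c hc => by
      rw [BCert.solution_zero g_ok h2A v e ht he hp i hi c hc]
      exact zero_mem _⟩)
  rw [pow_one] at hu
  refine extend_of_U σ hc χ U hall fun z hz => ?_
  have := hU z hz
  rwa [hu, Subgroup.zpowers_one_eq_bot, Subgroup.mem_bot] at this

end

end Cfsg.Agent.J3MultP2_90
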