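import Cfsg.Agent.Lib.J3Order90

/-! An element of the third Janko group normalising a cyclic group of order nineteen by a map of
order nine. -/

set_option autoImplicit false
set_option maxRecDepth 100000

namespace Cfsg.Agent.J3Norm19_9

open CosetCertCore J3Mat90 J3Data90 J3Check90 J3CertA90 J3Cert2_90 J3Level90 J3Gens90 J3Chain90 J3Order90
open Cfsg.Spor

/-- The conjugating word, as runs of generators. -/
def runs : List (Bool × ℕ) :=
  [(true, 36), (false, 18), (true, 36), (false, 54), (true, 5), (false, 2), (true, 2)]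

noncomputable def step (r : Bool × ℕ) (acc : ℕ) : ℕ :=
  mulN (powN (cond r.1 genB genA) r.2) acc

noncomputable def codeH : ℕ := runs.foldr step one

theorem codeH_conj :
    mulN codeH genA = mulN (powN genA 4) codeH ∧ genA ≠ one := by
  constructor <;> decide +kernel

theorem genA_not_scalar : mulN genA (genB) ≠ mulN genB genA := by decide +kernel

section
variable {F : Type*} [Field F] [Finite F] (ω : F) (h2 : (2 : F) = 0) (hω : ω ^ 2 + ω + 1 = 0)
include h2 hω

omit [Finite F] in
theorem codeH_mem : ev ω codeH ∈ M0 ω := by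
  have hA : ev ω genA ∈ M0 ω := Submonoid.subset_closure (Or.inl rfl)
  have hB : ev ω genB ∈ M0 ω := Submonoid.subset_closure (Or.inr rfl)
  have : ∀ l : List (Bool × ℕ), ev ω (l.foldr step one) ∈ M0 ω := by
    intro l
    induction l with
    | nil => rw [List.foldr_nil, ev_one]; exact one_mem _
    | cons r l ih =>
      rw [List.foldr_cons, step, ev_mulN ω h2 hω, ev_powN ω h2 hω]
      refine mul_mem (pow_mem ?_ _) ih
      cases r.1
      · exact hA
      · exact hB
  exact this runs

/-- The pair in the central quotient. -/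
theorem exists_pair :
    ∃ x g : J3 F ω, orderOf x = 19 ∧ g * x * g⁻¹ = x ^ 4 := by
  haveI : Fact (Nat.Prime 19) := ⟨by norm_num⟩
  obtain ⟨a, ha⟩ := exists_lift ω h2 hω (Submonoid.subset_closure (Or.inl rfl) : ev ω genA ∈ M0 ω)
  obtain ⟨b, hb⟩ := exists_lift ω h2 hω (Submonoid.subset_closure (Or.inr rfl) : ev ω genB ∈ M0 ω)
  obtain ⟨h, hh⟩ := exists_lift ω h2 hω (codeH_mem ω h2 hω)
  have hconj : h * a = a ^ 4 * h := by
    apply coe_inj
    simp only [Subgroup.coe_mul, Units.val_mul, SubgroupClass.coe_pow, Units.val_pow_eq_pow_val,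
      ha, hh]
    rw [← ev_powN ω h2 hω, ← ev_mulN ω h2 hω, ← ev_mulN ω h2 hω, codeH_conj.1]
  have ha19 : a ^ 19 = 1 := by
    apply coe_inj
    simp only [SubgroupClass.coe_pow, Units.val_pow_eq_pow_val, ha, genA_pow ω h2 hω]
    simp
  have hne : (QuotientGroup.mk a : J3 F ω) ≠ 1 := by
    intro e
    have hc := Subgroup.mem_center_iff.1 ((QuotientGroup.eq_one_iff a).1 e) b
    have e' : ev ω (mulN genB genA) = ev ω (mulN genA genB) := by
      rw [ev_mulN ω h2 hω, ev_mulN ω h2 hω, ← ha, ← hb]
      exact congrArg (fun u : threeJ3 F ω => ((u : GL F9 F) : Matrix F9 F9 F)) hc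
    have lt : mulN genB genA < 2 ^ 162 ∧ mulN genA genB < 2 ^ 162 := by
      constructor <;> decide +kernel
    exact genA_not_scalar (ev_inj ω h2 hω lt.1 lt.2 e').symm
  refine ⟨QuotientGroup.mk a, QuotientGroup.mk h, ?_, ?_⟩
  · exact orderOf_eq_prime (by rw [← QuotientGroup.mk_pow, ha19, QuotientGroup.mk_one]) hne
  · rw [← QuotientGroup.mk_mul, ← QuotientGroup.mk_inv, ← QuotientGroup.mk_mul,
      ← QuotientGroup.mk_pow, hconj, mul_inv_cancel_right]

end

/-- The pair in any group isomorphic to the third Janko group. -/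
theorem exists_pair_of_iso {G : Type*} [Group G] (h : IsoJ3 G) :
    ∃ x g : G, orderOf x = 19 ∧ g * x * g⁻¹ = x ^ 4 := by
  obtain ⟨F, _, _, ω, hF, hω, ⟨e⟩⟩ := h
  obtain ⟨x, g, hx, hg⟩ := exists_pair ω (two_eq_zero hF) hω
  refine ⟨e.symm x, e.symm g, ?_, ?_⟩
  · rw [← hx]; exact orderOf_injective e.symm.toMonoidHom e.symm.injective x
  · rw [← map_inv, ← map_mul, ← map_mul, hg, map_pow]

end Cfsg.Agent.J3Norm19_9
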