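import Cfsg.Agent.Lib.J3Vec90

/-! Orbits of the triple cover on lines. -/

set_option autoImplicit false
set_option maxRecDepth 100000

namespace Cfsg.Agent.J3Orbit90

open CosetCertCore J3Mat90 J3Data90 J3Check90 J3Level90 J3Gens90 J3Chain90 J3Order90
open J3Unitary90 J3OrbData90 J3IsoData90 J3Vec90
open Cfsg.Spor
open scoped Matrix

theorem land511 (c i : ℕ) (hi : i < 9) : (Nat.land c 511).testBit i = c.testBit i := by
  show (c &&& (2 ^ 9 - 1)).testBit i = _
  rw [Nat.testBit_and, Nat.testBit_two_pow_sub_one]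
  simp [hi]

theorem land511_high (c i : ℕ) (hi : 9 ≤ i) : (Nat.land c 511).testBit i = false := by
  show (c &&& (2 ^ 9 - 1)).testBit i = _
  rw [Nat.testBit_and, Nat.testBit_two_pow_sub_one]
  simp [show ¬ i < 9 by omega]

theorem shr (c k i : ℕ) : (Nat.shiftRight c k).testBit i = c.testBit (k + i) := by
  show (c >>> k).testBit i = _
  rw [Nat.testBit_shiftRight]

theorem exists_testBit (f : Fin 9 → Bool) : ∃ L < 512, ∀ i : Fin 9, Nat.testBit L i = f i := by
  have key : ∀ n, ∀ g : ℕ → Bool, ∃ L < 2 ^ n, ∀ i < n, Nat.testBit L i = g i := by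
    intro n
    induction n with
    | zero => exact fun g => ⟨0, by norm_num, fun i hi => absurd hi (by omega)⟩
    | succ n ih =>
      intro g
      obtain ⟨L, hL, hb⟩ := ih (fun i => g (i + 1))
      refine ⟨Nat.bit (g 0) L, ?_, fun i hi => ?_⟩
      · rw [pow_succ]; cases g 0 <;> simp [Nat.bit_val] <;> omega
      · cases i with
        | zero => simp [Nat.testBit_bit_zero]
        | succ i => rw [Nat.testBit_bit_succ]; exact hb i (by omega)
  obtain ⟨L, hL, hb⟩ := key 9 (fun i => if h : i < 9 then f ⟨i, h⟩ else false)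
  exact ⟨L, hL, fun i => by rw [hb i i.2]; simp [i.2]⟩

section
variable {F : Type*} [Field F] (ω : F)

/-- The vector with packed code `c`. -/
def vv (c : ℕ) : F9 → F := fun z =>
  e2 ω (c.testBit (ix z)) (c.testBit (9 + ix z))

variable (h2 : (2 : F) = 0) (hω : ω ^ 2 + ω + 1 = 0)
include h2 hω

theorem vv_w1 {c : ℕ} (hc : c < 2 ^ 18) : vv ω (w1 c) = ω • vv ω c := by
  funext z
  have hi := (ix z).2
  have e : w1 c = Nat.lor (Nat.shiftRight c 9)
      (Nat.shiftLeft (Nat.xor (Nat.land c 511) (Nat.shiftRight c 9)) 9) := by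
    simp only [w1, force_eq]
  have h0 : (w1 c).testBit (ix z) = c.testBit (9 + ix z) := by
    rw [e]
    show (Nat.shiftRight c 9 ||| (Nat.xor (Nat.land c 511) (Nat.shiftRight c 9) <<< 9)).testBit _ = _
    rw [Nat.testBit_or, Nat.testBit_shiftLeft, shr]
    simp [show ¬ 9 ≤ (ix z : ℕ) by omega]
  have h1 : (w1 c).testBit (9 + ix z) = (c.testBit (ix z)).xor (c.testBit (9 + ix z)) := by
    rw [e]
    show (Nat.shiftRight c 9 ||| ((Nat.land c 511 ^^^ Nat.shiftRight c 9) <<< 9)).testBit _ = _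
    rw [Nat.testBit_or, Nat.testBit_shiftLeft, shr, Nat.add_sub_cancel_left, Nat.testBit_xor,
      shr, land511 _ _ hi, Nat.testBit_lt_two_pow (lt_of_lt_of_le hc
        (Nat.pow_le_pow_right (by norm_num) (by omega : 18 ≤ 9 + (9 + (ix z : ℕ)))))]
    simp
  simp only [vv, Pi.smul_apply, smul_eq_mul, h0, h1]
  cases c.testBit (ix z) <;> cases c.testBit (9 + ix z) <;> simp [e2] <;>
    first
      | linear_combination -hω + (ω + 1) * h2
      | linear_combination -hω + h2
      | linear_combination hω - (ω + 1) * h2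
      | linear_combination hω - h2
      | linear_combination -hω
      | linear_combination hω
      | linear_combination -hω + ω * h2
      | linear_combination hω - ω * h2

omit h2 hω in
theorem w1_lt {c : ℕ} (hc : c < 2 ^ 18) : w1 c < 2 ^ 18 := by
  simp only [w1, force_eq]
  have h1 : c >>> 9 < 2 ^ 9 := by rw [Nat.shiftRight_eq_div_pow]; omega
  have h0 : c &&& 511 < 2 ^ 9 := lt_of_le_of_lt Nat.and_le_right (by norm_num)
  show (c >>> 9 ||| ((c &&& 511) ^^^ c >>> 9) <<< 9) < 2 ^ 18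
  refine Nat.or_lt_two_pow (by omega) ?_
  rw [Nat.shiftLeft_eq]
  have := Nat.xor_lt_two_pow h0 h1
  omega

omit h2 hω in
theorem entry_lt (T : Tbl) (i : ℕ) : entry T 18 i < 2 ^ 18 :=
  lt_of_le_of_lt Nat.and_le_right (by norm_num)

theorem vv_pick {c : ℕ} (hc : c < 2 ^ 18) (s : ℕ) :
    ∃ t : F, t ≠ 0 ∧ vv ω (pickW s c) = t • vv ω c := by
  have h0 : ω ≠ 0 := by rintro rfl; simp at hω
  unfold pickW
  simp only [force_eq]
  cases Nat.beq s 0
  · cases Nat.beq s 1
    · exact ⟨ω * ω, mul_ne_zero h0 h0, by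
        show vv ω (w1 (w1 c)) = _
        rw [vv_w1 ω h2 hω (w1_lt hc), vv_w1 ω h2 hω hc, smul_smul]⟩
    · exact ⟨ω, h0, vv_w1 ω h2 hω hc⟩
  · exact ⟨1, one_ne_zero, (one_smul _ _).symm⟩

/-- A checked pair of tables computes the action of a matrix. -/
theorem appTab_spec {g gT : ℕ} (hT : ∀ w z : F9, bits gT w z = bits g z w) {TL TH : Tbl}
    (h : allFrom (fun L => imgOK TL gT 0 L && imgOK TH gT 81 L) 512 0 = true) {c : ℕ}
    (hc : c < 2 ^ 18) : vv ω (appTab TL TH c) = ev ω g *ᵥ vv ω c := by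
  have eT : (ev ω g)ᵀ = ev ω gT := by
    ext w z
    rw [Matrix.transpose_apply, ev_apply, ev_apply, hT]
  have row : ∀ (T : Tbl) (sh L : ℕ), L < 512 → imgOK T gT sh L = true → ∀ (u : F9 → F),
      (∀ k, ev ω (Nat.shiftLeft L sh) 0 k = u k) → vv ω (entry T 18 L) = ev ω g *ᵥ u := by
    intro T sh L _ hok u hu
    simp only [imgOK, force_eq, Nat.beq_eq] at hok
    have h' := congrArg (ev ω) hok
    rw [ev_mulN ω h2 hω, ← eT] at h'
    funext z
    have h'' := congrFun (congrFun h' 0) z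
    simp only [Matrix.mul_apply, Matrix.transpose_apply, hu] at h''
    rw [Matrix.mulVec, dotProduct]
    refine Eq.trans ?_ (h''.symm.trans (Finset.sum_congr rfl fun k _ => mul_comm _ _))
    have hz := (ix z).2
    have h0 : (ix (0 : F9) : ℕ) = 0 := by decide
    simp only [vv, ev, Matrix.of_apply, lo, hi, h0, Nat.mul_zero, Nat.zero_add]
    have ha : (Nat.lor (Nat.land (entry T 18 L) 511)
        (Nat.shiftLeft (Nat.shiftRight (entry T 18 L) 9) 81)).testBit (ix z) =
        (entry T 18 L).testBit (ix z) := by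
      show (Nat.land (entry T 18 L) 511 ||| (Nat.shiftRight (entry T 18 L) 9 <<< 81)).testBit _ = _
      rw [Nat.testBit_or, Nat.testBit_shiftLeft, land511 _ _ hz]
      simp [show ¬ 81 ≤ (ix z : ℕ) by omega]
    have hb : (Nat.lor (Nat.land (entry T 18 L) 511)
        (Nat.shiftLeft (Nat.shiftRight (entry T 18 L) 9) 81)).testBit (81 + ix z) =
        (entry T 18 L).testBit (9 + ix z) := by
      show (Nat.land (entry T 18 L) 511 ||| (Nat.shiftRight (entry T 18 L) 9 <<< 81)).testBit _ = _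
      rw [Nat.testBit_or, Nat.testBit_shiftLeft, land511_high _ _ (by omega), Nat.add_sub_cancel_left,
        shr]
      simp
    rw [ha, hb]
  have hL : Nat.land c 511 < 512 := lt_of_le_of_lt Nat.and_le_right (by norm_num)
  have hH : Nat.shiftRight c 9 < 512 := by
    show c >>> 9 < 512
    rw [Nat.shiftRight_eq_div_pow]; omega
  have sL := allFrom_spec _ _ _ h _ (Nat.zero_le _) (by omega : Nat.land c 511 < 0 + 512)
  have sH := allFrom_spec _ _ _ h _ (Nat.zero_le _) (by omega : Nat.shiftRight c 9 < 0 + 512)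
  rw [Bool.and_eq_true] at sL sH
  have h0 : (ix (0 : F9) : ℕ) = 0 := by decide
  have eL := row TL 0 _ hL sL.1 (fun k => if c.testBit (ix k) then 1 else 0) (fun k => by
    have hk := (ix k).2
    simp only [ev, Matrix.of_apply, lo, hi, h0, Nat.mul_zero, Nat.zero_add]
    show e2 ω ((Nat.land c 511 <<< 0).testBit _) ((Nat.land c 511 <<< 0).testBit _) = _
    rw [Nat.shiftLeft_zero, land511 _ _ hk, land511_high _ _ (by omega)]
    simp [e2])
  have eH := row TH 81 _ hH sH.2 (fun k => if c.testBit (9 + ix k) then ω else 0) (fun k => by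
    have hk := (ix k).2
    simp only [ev, Matrix.of_apply, lo, hi, h0, Nat.mul_zero, Nat.zero_add]
    show e2 ω ((Nat.shiftRight c 9 <<< 81).testBit _) ((Nat.shiftRight c 9 <<< 81).testBit _) = _
    rw [Nat.testBit_shiftLeft, Nat.testBit_shiftLeft, Nat.add_sub_cancel_left, shr]
    simp [e2, show ¬ 81 ≤ (ix k : ℕ) by omega])
  have hsplit : vv ω c = (fun k => if c.testBit (ix k) then (1 : F) else 0) +
      fun k => if c.testBit (9 + ix k) then ω else 0 := rfl
  rw [hsplit, Matrix.mulVec_add, ← eL, ← eH]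
  funext z
  show vv ω (Nat.xor _ _) z = _
  simp only [vv, Pi.add_apply]
  show e2 ω ((_ ^^^ _ : ℕ).testBit _) ((_ ^^^ _ : ℕ).testBit _) = _
  rw [Nat.testBit_xor, Nat.testBit_xor, e2_xor ω h2]

theorem app_spec (g : ℕ) {c : ℕ} (hc : c < 2 ^ 18) :
    ∃ m ∈ M0 ω, vv ω (app g c) = m *ᵥ vv ω c := by
  unfold app
  cases Nat.beq g 0
  · exact ⟨_, Submonoid.subset_closure (Or.inr rfl), appTab_spec ω h2 hω bits_T.2 img_ok.2 hc⟩
  · exact ⟨_, Submonoid.subset_closure (Or.inl rfl), appTab_spec ω h2 hω bits_T.1 img_ok.1 hc⟩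

theorem app_gen {g : Matrix F9 F9 F} (hg : g ∈ ({ev ω genA, ev ω genB} : Set _)) :
    ∃ j < 2, ∀ c < 2 ^ 18, vv ω (app j c) = g *ᵥ vv ω c := by
  rcases hg with rfl | rfl
  · exact ⟨0, by norm_num, fun c hc => appTab_spec ω h2 hω bits_T.1 img_ok.1 hc⟩
  · exact ⟨1, by norm_num, fun c hc => appTab_spec ω h2 hω bits_T.2 img_ok.2 hc⟩

end

end Cfsg.Agent.J3Orbit90
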