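import Cfsg.Agent.Lib.J3Chain90

/-! The triple cover of the third Janko group has order 150698880. -/

set_option autoImplicit false
set_option maxRecDepth 100000

namespace Cfsg.Agent.J3Order90

open CosetCertCore J3Mat90 J3Data90 J3Check90 J3CertA90 J3Cert2_90 J3Level90 J3Gens90 J3Chain90
open Cfsg.Spor

section
variable {F : Type*} [Field F] [Finite F] (ω : F) (h2 : (2 : F) = 0) (hω : ω ^ 2 + ω + 1 = 0)
include h2 hω

theorem gens_sub {m : Matrix F9 F9 F} (hm : m ∈ j3Gens F ω) : m ∈ M0 ω := by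
  obtain ⟨n, hn, rfl⟩ := gens_code ω h2 hω hm
  exact mem_of_memOK ω h2 hω (allFrom_spec _ _ _ orig_mem n (Nat.zero_le _) (by omega))

theorem mem_iff (g : GL F9 F) : g ∈ threeJ3 F ω ↔ (g : Matrix F9 F9 F) ∈ M0 ω := by
  have fwd : ∀ g : GL F9 F, g ∈ threeJ3 F ω → (g : Matrix F9 F9 F) ∈ M0 ω := by
    intro g hg
    induction hg using Subgroup.closure_induction with
    | mem x hx => exact gens_sub ω h2 hω hx
    | one => simp
    | mul x y _ _ hx hy => simpa using (M0 ω).mul_mem hx hy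
    | inv x _ hx =>
      obtain ⟨x', hx', e⟩ := exists_left_inv_mem (M0 ω) hx x.isUnit
      have : ((x⁻¹ : GL F9 F) : Matrix F9 F9 F) = x' := by
        calc ((x⁻¹ : GL F9 F) : Matrix F9 F9 F) = (x' * (x : Matrix F9 F9 F)) * (x⁻¹ : GL F9 F) := by
              rw [e, one_mul]
          _ = x' := by rw [mul_assoc, Units.mul_inv, mul_one]
      rw [this]
      exact hx'
  refine ⟨fwd g, fun hg => ?_⟩
  have hle : M0 ω ≤ (threeJ3 F ω).toSubmonoid.map (Units.coeHom (Matrix F9 F9 F)) := by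
    have lift : ∀ m ∈ j3Gens F ω,
        m ∈ (threeJ3 F ω).toSubmonoid.map (Units.coeHom (Matrix F9 F9 F)) := by
      intro m hm
      obtain ⟨u, hu⟩ := unit_of_M0 ω h2 hω (gens_sub ω h2 hω hm)
      refine ⟨u, Subgroup.subset_closure ?_, hu⟩
      show (u : Matrix F9 F9 F) ∈ j3Gens F ω
      rw [hu]; exact hm
    obtain ⟨w13, w17, w22, w37⟩ := word_gens ω h2 hω
    rw [M0, Submonoid.closure_le]
    rintro s (rfl | rfl)
    · rw [words.1, ev_mulN ω h2 hω, ev_mulN ω h2 hω]
      exact Submonoid.mul_mem _ (Submonoid.mul_mem _ (lift _ w13) (lift _ w37)) (lift _ w22)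
    · rw [words.2, ev_mulN ω h2 hω, ev_mulN ω h2 hω]
      exact Submonoid.mul_mem _ (Submonoid.mul_mem _ (lift _ w17) (lift _ w22)) (lift _ w37)
  obtain ⟨u, hu, e⟩ := hle hg
  have : u = g := Units.ext e
  exact this ▸ hu

/-- Elements of the monoid as group elements. -/
theorem exists_lift {m : Matrix F9 F9 F} (hm : m ∈ M0 ω) :
    ∃ g : threeJ3 F ω, ((g : GL F9 F) : Matrix F9 F9 F) = m := by
  obtain ⟨u, hu⟩ := unit_of_M0 ω h2 hω hm
  exact ⟨⟨u, (mem_iff ω h2 hω u).2 (by rw [hu]; exact hm)⟩, hu⟩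

omit [Finite F] h2 hω in
theorem coe_inj {g h : threeJ3 F ω}
    (e : ((g : GL F9 F) : Matrix F9 F9 F) = ((h : GL F9 F) : Matrix F9 F9 F)) : g = h :=
  Subtype.ext (Units.ext e)

theorem card_le : Nat.card (threeJ3 F ω) ≤ 150698880 := by
  have hmem : ∀ g : threeJ3 F ω, ∃ t : Fin 6156 × Fin 136 × Fin 180,
      ((g : GL F9 F) : Matrix F9 F9 F) = T1 ω t.1 * (T2 ω t.2.1 * T3 ω t.2.2) := by
    intro g
    obtain ⟨x, hx, i, hi, j, hj, e⟩ := M0_table ω h2 hω ((mem_iff ω h2 hω g).1 g.2)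
    exact ⟨(⟨x, hx⟩, ⟨i, hi⟩, ⟨j, hj⟩), e⟩
  choose f hf using hmem
  have hinj : Function.Injective f := fun g h e => coe_inj ω (by rw [hf g, hf h, e])
  have := Nat.card_le_card_of_injective f hinj
  simp only [Nat.card_prod, Nat.card_fin] at this
  exact this

/-- A submonoid inside the monoid gives a divisor of the group order. -/
theorem card_dvd (N : Submonoid (Matrix F9 F9 F)) (hN : N ≤ M0 ω) :
    Nat.card N ∣ Nat.card (threeJ3 F ω) := by
  let P : Subgroup (threeJ3 F ω) :=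
    { carrier := {g | ((g : GL F9 F) : Matrix F9 F9 F) ∈ N}
      one_mem' := by simp
      mul_mem' := fun {x y} hx hy => by
        show (((x * y : threeJ3 F ω) : GL F9 F) : Matrix F9 F9 F) ∈ N
        simpa using N.mul_mem hx hy
      inv_mem' := fun {x} hx => by
        show (((x⁻¹ : threeJ3 F ω) : GL F9 F) : Matrix F9 F9 F) ∈ N
        obtain ⟨x', hx', e⟩ := exists_left_inv_mem N hx (x : GL F9 F).isUnit
        have : (((x⁻¹ : threeJ3 F ω) : GL F9 F) : Matrix F9 F9 F) = x' := by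
          calc (((x⁻¹ : threeJ3 F ω) : GL F9 F) : Matrix F9 F9 F)
              = (x' * ((x : GL F9 F) : Matrix F9 F9 F)) *
                  (((x : GL F9 F)⁻¹ : GL F9 F) : Matrix F9 F9 F) := by rw [e, one_mul]; rfl
            _ = x' := by rw [mul_assoc, Units.mul_inv, mul_one]
        rw [this]; exact hx' }
  have hb : Function.Bijective (fun g : P => (⟨((g.1 : GL F9 F) : Matrix F9 F9 F), g.2⟩ : N)) := by
    refine ⟨fun g h e => Subtype.ext (coe_inj ω (congrArg Subtype.val e)), fun m => ?_⟩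
    obtain ⟨g, hg⟩ := exists_lift ω h2 hω (hN m.2)
    exact ⟨⟨g, by show _ ∈ N; rw [hg]; exact m.2⟩, Subtype.ext hg⟩
  rw [← Nat.card_congr (Equiv.ofBijective _ hb)]
  exact Subgroup.card_subgroup_dvd_card P

theorem small_dvd (gens : List ℕ) (cert : List ℕ) (T P E S : Tbl) (N : ℕ) (hN : 2 ≤ N)
    (hlen : gens.length = 5)
    (hmem : allFrom (fun n => memOK (gens.getD n 0) (cert.getD n 0)) 5 0 = true)
    (hE : allFrom (fun n => smallEdge gens T E n N) (5 * N) 0 = true)
    (hP : allFrom (smallTree gens T P) N 0 = true) (hS : allFrom (sortOK T S N) N 0 = true)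
    (h0 : entry T 162 0 = one) : N ∣ Nat.card (threeJ3 F ω) := by
  let gs : Set (Matrix F9 F9 F) := {m | ∃ g < 5, m = ev ω (gens.getD g 0)}
  have hgs : Submonoid.closure gs ≤ M0 ω := by
    rw [Submonoid.closure_le]
    rintro m ⟨g, hg, rfl⟩
    exact mem_of_memOK ω h2 hω (allFrom_spec _ _ _ hmem g (Nat.zero_le _) (by omega))
  have hz : ev ω (entry T 162 0) = 1 := by rw [h0, ev_one]
  have hsub : ∀ x < N, ev ω (entry T 162 x) ∈ Submonoid.closure gs := by
    refine tree_mem _ (fun x => ev ω (entry T 162 x)) N hz ?_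
    intro x hx hx0
    have hs := allFrom_spec _ _ _ hP x (Nat.zero_le _) (by omega)
    simp only [smallTree, force_eq, Bool.or_eq_true, Bool.and_eq_true, Nat.blt_eq, Nat.beq_eq] at hs
    obtain hs | ⟨⟨hp, hg⟩, he⟩ := hs
    · exact absurd hs hx0
    · refine ⟨_, Submonoid.subset_closure ⟨_, hlen ▸ hg, rfl⟩, _, hp, ?_⟩
      show ev ω (entry T 162 x) = _
      rw [he, ev_mulN ω h2 hω]
  have htab : ∀ m ∈ Submonoid.closure gs, ∃ y < N, m = ev ω (entry T 162 y) := by
    refine fun m hm => table_closure gs (fun x => ev ω (entry T 162 x)) N (by omega) hz ?_ hm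
    rintro _ ⟨g, hg, rfl⟩ x hx
    have hs := allFrom_spec _ _ _ hE (x * 5 + g) (Nat.zero_le _) (by omega)
    simp only [smallEdge, force_eq, hlen, Bool.and_eq_true, Nat.blt_eq, Nat.beq_eq] at hs
    rw [show (x * 5 + g) % 5 = g by omega, show (x * 5 + g) / 5 = x by omega] at hs
    exact ⟨_, hs.1, by rw [← ev_mulN ω h2 hω, hs.2]⟩
  have hsort : ∀ x < N, entry S 16 x < N ∧ entry T 162 (entry S 16 x) < 2 ^ 162 ∧
      (x + 1 < N → entry T 162 (entry S 16 x) < entry T 162 (entry S 16 (x + 1))) := by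
    intro x hx
    have hs := allFrom_spec _ _ _ hS x (Nat.zero_le _) (by omega)
    simp only [sortOK, Bool.or_eq_true, Bool.and_eq_true, Nat.blt_eq] at hs
    exact ⟨hs.1.1, hs.1.2, fun h => hs.2.resolve_left (by omega)⟩
  let f : Fin N → Submonoid.closure gs := fun x =>
    ⟨ev ω (entry T 162 (entry S 16 x)), hsub _ (hsort x x.2).1⟩
  have hinj : Function.Injective f := by
    have mono : ∀ d i : ℕ, i + d + 1 < N →
        entry T 162 (entry S 16 i) < entry T 162 (entry S 16 (i + d + 1)) := by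
      intro d
      induction d with
      | zero => exact fun i hi => (hsort i (by omega)).2.2 hi
      | succ d ih =>
        intro i hi
        exact lt_trans (ih i (by omega)) ((hsort (i + d + 1) (by omega)).2.2 hi)
    intro a b e
    have hv := ev_inj ω h2 hω (hsort a a.2).2.1 (hsort b b.2).2.1 (congrArg Subtype.val e)
    rcases lt_trichotomy (a : ℕ) (b : ℕ) with h | h | h
    · have hm := mono ((b : ℕ) - a - 1) a (by omega)
      rw [show (a : ℕ) + ((b : ℕ) - a - 1) + 1 = b by omega, hv] at hm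
      exact absurd hm (lt_irrefl _)
    · exact Fin.ext h
    · have hm := mono ((a : ℕ) - b - 1) b (by omega)
      rw [show (b : ℕ) + ((a : ℕ) - b - 1) + 1 = a by omega, hv] at hm
      exact absurd hm (lt_irrefl _)
  have hsurj : Function.Surjective (fun x : Fin N =>
      (⟨ev ω (entry T 162 x), hsub x x.2⟩ : Submonoid.closure gs)) := fun m => by
    obtain ⟨y, hy, e⟩ := htab m m.2
    exact ⟨⟨y, hy⟩, Subtype.ext e.symm⟩
  have h1 := Nat.card_le_card_of_injective f hinj
  have h3 := Nat.card_le_card_of_surjective _ hsurj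
  rw [Nat.card_fin] at h1 h3
  have := card_dvd ω h2 hω (Submonoid.closure gs) hgs
  rwa [le_antisymm h3 h1] at this

theorem prime_dvd {M p : ℕ} [Fact p.Prime] (hm : ev ω M ∈ M0 ω) (hp : powN M p = one)
    (hne : M ≠ one) (hb : M < 2 ^ 162) : p ∣ Nat.card (threeJ3 F ω) := by
  obtain ⟨g, hg⟩ := exists_lift ω h2 hω hm
  have e : orderOf g = p := by
    rw [← Subgroup.orderOf_coe, ← orderOf_units, hg]
    refine orderOf_eq_prime ?_ ?_
    · rw [← ev_powN ω h2 hω, hp, ev_one]
    · intro h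
      rw [← ev_one ω] at h
      exact hne (ev_inj ω h2 hω hb nontrivial.2.2.2.2.2.2.2.2.2.1 h)
  rw [← e]
  exact orderOf_dvd_natCard g

theorem card_threeJ3 : Nat.card (threeJ3 F ω) = 150698880 := by
  have : Fact (Nat.Prime 5) := ⟨by norm_num⟩
  have : Fact (Nat.Prime 17) := ⟨by norm_num⟩
  have : Fact (Nat.Prime 19) := ⟨by norm_num⟩
  obtain ⟨n1, n2, n3, n4, n5, b1, b2, b3, b4, b5, b6⟩ := nontrivial
  have d2 : 128 ∣ Nat.card (threeJ3 F ω) :=
    small_dvd ω h2 hω twoGens twoCert twoElts twoPar twoEdge twoSort 128 (by norm_num) lengths.1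
      two_mem two_edges two_tree two_sort heads.2.2.2.1
  have d3 : 729 ∣ Nat.card (threeJ3 F ω) :=
    small_dvd ω h2 hω threeGens threeCert threeElts threePar threeEdge threeSort 729 (by norm_num)
      lengths.2.1 three_mem three_edges three_tree three_sort heads.2.2.2.2
  have d5 : 5 ∣ Nat.card (threeJ3 F ω) :=
    prime_dvd ω h2 hω (mem_of_memOK ω h2 hω spec_mem.2.1) powers.2.2.2.1 n4 b4
  have d17 : 17 ∣ Nat.card (threeJ3 F ω) :=
    prime_dvd ω h2 hω (mem_of_memOK ω h2 hω spec_mem.1) powers.2.2.1 n3 b3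
  have d19 : 19 ∣ Nat.card (threeJ3 F ω) :=
    prime_dvd ω h2 hω (mem_of_memOK ω h2 hω spec_mem.2.2.1) powers.1 n1 b1
  have e1 := Nat.Coprime.mul_dvd_of_dvd_of_dvd (by norm_num) d2 d3
  have e2 := Nat.Coprime.mul_dvd_of_dvd_of_dvd (by norm_num) e1 d5
  have e3 := Nat.Coprime.mul_dvd_of_dvd_of_dvd (by norm_num) e2 d17
  have e4 := Nat.Coprime.mul_dvd_of_dvd_of_dvd (by norm_num) e3 d19
  exact le_antisymm (card_le ω h2 hω) (Nat.le_of_dvd Nat.card_pos e4)

end

end Cfsg.Agent.J3Order90
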