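import Cfsg.Agent.Lib.J3Unitary90

/-! The third Janko group on the 6156 cosets of a subgroup of order 8160. -/

set_option autoImplicit false
set_option maxRecDepth 100000

namespace Cfsg.Agent.J3Perm90

open CosetCertCore J3Mat90 J3Data90 J3Check90 J3CertA90 J3Cert2_90 J3Level90 J3Gens90 J3Chain90
open J3Order90 J3Simple90
open Cfsg.Spor

theorem certS_ok : Nat.land certS 8191 = 0 := by decide +kernel

section
variable {F : Type*} [Field F] [Finite F] (ω : F) (h2 : (2 : F) = 0) (hω : ω ^ 2 + ω + 1 = 0)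
include h2 hω

/-- The subgroup of index 6156 in the cover. -/
theorem exists_index :
    ∃ K : Subgroup (threeJ3 F ω), K.index = 6156 ∧
      (Nat.card F = 4 → Subgroup.center (threeJ3 F ω) ≤ K) := by
  let K : Subgroup (threeJ3 F ω) :=
    { carrier := {g | ((g : GL F9 F) : Matrix F9 F9 F) ∈ K2 ω}
      one_mem' := by simp
      mul_mem' := fun {x y} hx hy => by
        show (((x * y : threeJ3 F ω) : GL F9 F) : Matrix F9 F9 F) ∈ K2 ω
        simpa using (K2 ω).mul_mem hx hy
      inv_mem' := fun {x} hx => by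
        show (((x⁻¹ : threeJ3 F ω) : GL F9 F) : Matrix F9 F9 F) ∈ K2 ω
        obtain ⟨x', hx', e⟩ := exists_left_inv_mem (K2 ω) hx (x : GL F9 F).isUnit
        have : (((x⁻¹ : threeJ3 F ω) : GL F9 F) : Matrix F9 F9 F) = x' := by
          calc (((x⁻¹ : threeJ3 F ω) : GL F9 F) : Matrix F9 F9 F)
              = (x' * ((x : GL F9 F) : Matrix F9 F9 F)) *
                  (((x : GL F9 F)⁻¹ : GL F9 F) : Matrix F9 F9 F) := by rw [e, one_mul]; rfl
            _ = x' := by rw [mul_assoc, Units.mul_inv, mul_one]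
        rw [this]; exact hx' }
  have hcard : Nat.card K ≤ 24480 := by
    have hmem : ∀ g : K, ∃ t : Fin 136 × Fin 180,
        ((g.1 : GL F9 F) : Matrix F9 F9 F) = T2 ω t.1 * T3 ω t.2 := by
      intro g
      obtain ⟨i, hi, j, hj, e⟩ := K2_table ω h2 hω g.2
      exact ⟨(⟨i, hi⟩, ⟨j, hj⟩), e⟩
    choose f hf using hmem
    have hinj : Function.Injective f := fun g h e =>
      Subtype.ext (coe_inj ω (by rw [hf g, hf h, e]))
    have := Nat.card_le_card_of_injective f hinj
    simp only [Nat.card_prod, Nat.card_fin] at this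
    exact this
  have hindex : Nat.card (threeJ3 F ω ⧸ K) ≤ 6156 := by
    have lift : ∀ x : Fin 6156, ∃ g : threeJ3 F ω,
        ((g : GL F9 F) : Matrix F9 F9 F) = T1 ω x := fun x =>
      exists_lift ω h2 hω (T1_mem ω h2 hω x x.2)
    choose L hL using lift
    have hsurj : Function.Surjective (fun x : Fin 6156 => (QuotientGroup.mk (L x) : threeJ3 F ω ⧸ K)) := by
      intro q
      obtain ⟨g, rfl⟩ := QuotientGroup.mk_surjective q
      obtain ⟨y, hy, k, hk, e⟩ := coset_step ω h2 hω ((mem_iff ω h2 hω g).1 g.2) (x := 0) (by norm_num)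
      refine ⟨⟨y, hy⟩, QuotientGroup.eq.2 ?_⟩
      obtain ⟨k', hk'⟩ := exists_lift ω h2 hω (K2_le ω h2 hω hk)
      have hg : g = L ⟨y, hy⟩ * k' := coe_inj ω (by
        rw [T1_zero, mul_one] at e
        rw [Subgroup.coe_mul, Units.val_mul, hL, hk', e])
      rw [hg, inv_mul_cancel_left]
      show _ ∈ K2 ω
      rw [hk']; exact hk
    have := Nat.card_le_card_of_surjective _ hsurj
    rwa [Nat.card_fin] at this
  refine ⟨K, ?_, fun h4 => ?_⟩
  · have h := K.card_mul_index
    rw [card_threeJ3 ω h2 hω] at h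
    have hi : K.index ≤ 6156 := hindex
    have : Nat.card K * K.index ≤ 24480 * K.index := Nat.mul_le_mul_right _ hcard
    omega
  · obtain ⟨s, hs⟩ := exists_lift ω h2 hω (mem_of_memOK ω h2 hω spec_mem.2.2.2)
    have hsK : s ∈ K := by
      show _ ∈ K2 ω
      rw [hs]
      have h := spec_mem.2.2.2
      simp only [memOK, force_eq, Bool.and_eq_true, Nat.blt_eq, Nat.beq_eq, certS_ok] at h
      obtain ⟨⟨⟨hx, hi⟩, hj⟩, he⟩ := h
      rw [he, ev_mulN ω h2 hω, ev_mulN ω h2 hω]
      have h0 : ev ω (entry u1 162 0) = 1 := T1_zero ω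
      rw [h0, one_mul]
      exact (K2 ω).mul_mem (T2_mem ω h2 hω _ hi) (K3_le ω h2 hω (T3_mem ω h2 hω _ hj))
    have hsZ : s ∈ Subgroup.center (threeJ3 F ω) :=
      center_of_scalar ω h2 hω (c := ω) (by rw [hs, ev_scal])
    have hne : s ≠ 1 := by
      intro e
      rw [e, Subgroup.coe_one, Units.val_one, ev_scal] at hs
      have := congrFun (congrFun hs (0 : F9)) (0 : F9)
      simp at this
      exact omega_ne_one ω hω h2 this.symm
    intro g hg
    haveI : Fact (Nat.Prime 3) := ⟨by norm_num⟩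
    have hs1 : (⟨s, hsZ⟩ : Subgroup.center (threeJ3 F ω)) ≠ 1 := fun e => hne (congrArg Subtype.val e)
    have := mem_zpowers_of_prime_card (card_center ω h2 hω h4) hs1 (g' := ⟨g, hg⟩)
    obtain ⟨n, hn⟩ := this
    have hn' : s ^ n = g := congrArg Subtype.val hn
    exact hn' ▸ K.zpow_mem hsK n

end

theorem result_core : ∃ H : Subgroup (Equiv.Perm (Fin 6156)),
    (IsSimpleGroup H ∧ Nat.card H = 50232960) ∧ MulAction.IsPretransitive H (Fin 6156) ∧
      Nat.card (MulAction.stabilizer H (0 : Fin 6156)) = 8160 := by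
  obtain ⟨F, iF, iFt, ω, hc, h4, h2, hω⟩ := J3Unitary90.exists_field
  obtain ⟨K, hK, hZ⟩ := exists_index ω h2 hω
  have hsimp := simple_J3 ω h2 hω h4
  set Z := Subgroup.center (threeJ3 F ω)
  let π : threeJ3 F ω →* J3 F ω := QuotientGroup.mk' Z
  let Kb : Subgroup (J3 F ω) := K.map π
  have hKb : Kb.index = 6156 := by
    rw [← hK]
    exact Subgroup.index_map_eq K (QuotientGroup.mk'_surjective Z) (by
      rw [QuotientGroup.ker_mk']; exact hZ h4)
  have hfin : Nat.card (J3 F ω ⧸ Kb) = Nat.card (Fin 6156) := by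
    rw [Nat.card_fin]; exact hKb
  haveI : Finite (J3 F ω ⧸ Kb) := Nat.finite_of_card_ne_zero (by rw [hfin, Nat.card_fin]; norm_num)
  obtain ⟨e⟩ := Finite.card_eq.1 hfin
  let ρ : J3 F ω →* Equiv.Perm (Fin 6156) :=
    e.permCongrHom.toMonoidHom.comp (MulAction.toPermHom (J3 F ω) (J3 F ω ⧸ Kb))
  have htrans : ∀ a b : Fin 6156, ∃ g, ρ g a = b := by
    intro a b
    obtain ⟨g, hg⟩ := MulAction.exists_smul_eq (J3 F ω) (e.symm a) (e.symm b)
    refine ⟨g, ?_⟩
    show e (g • e.symm a) = b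
    rw [hg, e.apply_symm_apply]
  have hker : ρ.ker = ⊥ := by
    refine (hsimp.eq_bot_or_eq_top_of_normal _ inferInstance).resolve_right fun htop => ?_
    obtain ⟨g, hg⟩ := htrans 0 1
    have : ρ g = 1 := by rw [← MonoidHom.mem_ker, htop]; exact Subgroup.mem_top g
    rw [this] at hg
    exact absurd hg (by simp)
  have hinj : Function.Injective ρ := (MonoidHom.ker_eq_bot_iff ρ).1 hker
  let eq := MonoidHom.ofInjective hinj
  have hH : Nat.card ρ.range = 50232960 := by
    rw [← Nat.card_congr eq.toEquiv, card_J3 ω h2 hω h4]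
  haveI htr : MulAction.IsPretransitive ρ.range (Fin 6156) := ⟨fun a b => by
    obtain ⟨g, hg⟩ := htrans a b
    exact ⟨⟨ρ g, ⟨g, rfl⟩⟩, hg⟩⟩
  refine ⟨ρ.range, ⟨eq.symm.isSimpleGroup, hH⟩, htr, ?_⟩
  have h := MulAction.index_stabilizer ρ.range (0 : Fin 6156)
  rw [MulAction.orbit_eq_univ, Set.ncard_univ, Nat.card_fin] at h
  have h' := (MulAction.stabilizer ρ.range (0 : Fin 6156)).card_mul_index
  rw [h, hH] at h'
  omega

end Cfsg.Agent.J3Perm90
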