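import Mathlib

/-!
# Permutations packed in base eight

A kernel friendly encoding of small faithful permutation groups.
-/

set_option autoImplicit false

namespace Cfsg.Agent.J3Perm93

/-- Entry `i`. -/
noncomputable def dig (A i : ℕ) : ℕ := Nat.land (Nat.shiftRight A (3 * i)) 7

/-- The composite `A ∘ B` on `n` points. -/
noncomputable def mulN (n A B : ℕ) : ℕ :=
  Nat.ofDigits 8 ((List.range n).map fun i => dig A (dig B i))

/-- The identity on `n` points. -/
def oneN (n : ℕ) : ℕ := Nat.ofDigits 8 (List.range n)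

/-- The code of a permutation. -/
def code {n : ℕ} (p : Equiv.Perm (Fin n)) : ℕ := Nat.ofDigits 8 (List.ofFn fun i => (p i).val)

theorem dig_ofDigits : ∀ (L : List ℕ), (∀ d ∈ L, d < 8) → ∀ i (hi : i < L.length),
    dig (Nat.ofDigits 8 L) i = L[i]
  | [], _, i, hi => absurd hi (by simp)
  | d :: L, h, 0, _ => by
    have := h d (by simp)
    simp only [dig, Nat.ofDigits_cons, Nat.mul_zero, List.getElem_cons_zero]
    show (Nat.land (Nat.shiftRight _ 0) 7) = d
    change ((d + 8 * Nat.ofDigits 8 L) >>> 0) &&& (2 ^ 3 - 1) = d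
    rw [Nat.and_two_pow_sub_one_eq_mod, Nat.shiftRight_zero]
    omega
  | d :: L, h, i + 1, hi => by
    have hd := h d (by simp)
    have ih := dig_ofDigits L (fun e he => h e (List.mem_cons_of_mem _ he)) i (by simpa using hi)
    change (Nat.ofDigits 8 (d :: L) >>> (3 * (i + 1))) &&& (2 ^ 3 - 1) = _
    change (Nat.ofDigits 8 L >>> (3 * i)) &&& (2 ^ 3 - 1) = _ at ih
    rw [Nat.ofDigits_cons, show 3 * (i + 1) = 3 + 3 * i by ring, Nat.shiftRight_add,
      Nat.shiftRight_eq_div_pow (d + 8 * _) 3, show (d + 8 * Nat.ofDigits 8 L) / 2 ^ 3 =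
        Nat.ofDigits 8 L by omega, ih, List.getElem_cons_succ]

theorem dig_code {n : ℕ} (hn : n ≤ 8) (p : Equiv.Perm (Fin n)) (i : Fin n) :
    dig (code p) i = (p i).val := by
  rw [code, dig_ofDigits _ (fun d hd => by
    obtain ⟨j, rfl⟩ := List.mem_ofFn.1 hd
    exact lt_of_lt_of_le (p j).isLt hn) i.val (by simp), List.getElem_ofFn]

theorem code_mul {n : ℕ} (hn : n ≤ 8) (p q : Equiv.Perm (Fin n)) :
    mulN n (code p) (code q) = code (p * q) := by
  show Nat.ofDigits 8 _ = Nat.ofDigits 8 _
  congr 1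
  apply List.ext_getElem (by simp)
  intro i h1 h2
  have hi : i < n := by simpa using h2
  rw [List.getElem_map, List.getElem_range, List.getElem_ofFn, dig_code hn q ⟨i, hi⟩,
    dig_code hn p]
  rfl

theorem code_one {n : ℕ} : code (1 : Equiv.Perm (Fin n)) = oneN n := by
  rw [code, oneN]
  congr 1
  apply List.ext_getElem (by simp)
  intro i h1 h2
  simp

theorem code_inj {n : ℕ} (hn : n ≤ 8) {p q : Equiv.Perm (Fin n)} (h : code p = code q) : p = q :=
  Equiv.ext fun i => Fin.ext (by rw [← dig_code hn p i, h, dig_code hn q i])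

end Cfsg.Agent.J3Perm93
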