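import Cfsg.Agent.Lib.J2RecSimple30
import Cfsg.Agent.Lib.J2TypeFive79
import Cfsg.Agent.Lib.HJPatternExtraspecial
import Cfsg.Prelude.Def_SporadicB
import Cfsg.Prelude.Def_Sporadic

/-!
# Centralisers `2^(1+4).A₅` of involutions in simple groups: constraint and minus type
-/

set_option autoImplicit false

namespace Cfsg.Agent.J3Reduce9

open Subgroup Cfsg.Agent.LargeExtraspecial

variable {G : Type*} [Group G] [Finite G] {t : G}

theorem card_five : Nat.card ↥(alternatingGroup (Fin 5)) = 60 := by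
  rw [nat_card_alternatingGroup, Nat.card_fin]; rfl

/-- Two-subgroups of `A₅` are abelian. -/
theorem two_comm {V : Subgroup ↥(alternatingGroup (Fin 5))} (hV : IsPGroup 2 V)
    {p q : ↥(alternatingGroup (Fin 5))} (hp : p ∈ V) (hq : q ∈ V) : p * q = q * p := by
  haveI : Fact (Nat.Prime 2) := ⟨Nat.prime_two⟩
  obtain ⟨k, hk⟩ := IsPGroup.iff_card.1 hV
  have h : 2 ^ k ∣ 60 := by rw [← hk, ← card_five]; exact card_subgroup_dvd_card V
  have hk2 : k ≤ 2 := by
    by_contra hlt
    exact absurd ((pow_dvd_pow 2 (show 3 ≤ k by omega)).trans h) (by norm_num)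
  have key : ∀ a b : ↥V, a * b = b * a := by
    interval_cases k
    · haveI : Subsingleton ↥V := (Nat.card_eq_one_iff_unique.1 (by simpa using hk)).1
      exact fun a b => Subsingleton.elim _ _
    · haveI : IsCyclic ↥V := isCyclic_of_prime_card (p := 2) (by simpa using hk)
      exact fun a b => mul_comm' a b
    · exact fun a b => IsPGroup.commutative_of_card_eq_prime_sq (p := 2) hk a b
  exact congrArg Subtype.val (key ⟨p, hp⟩ ⟨q, hq⟩)

/-- The data of the centraliser. -/
theorem setting (ht : orderOf t = 2) {E : Subgroup (centralizer ({t} : Set G))} [E.Normal]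
    (hX : Cfsg.IsExtraspecial 2 E)
    (e : (centralizer ({t} : Set G)) ⧸ E ≃* alternatingGroup (Fin 5)) :
    Ext E ⟨t, mem_centralizer_singleton_iff.2 rfl⟩ ∧
      ∃ f : ↥(centralizer ({t} : Set G)) →* ↥(alternatingGroup (Fin 5)),
        Function.Surjective f ∧ f.ker = E := by
  set z : ↥(centralizer ({t} : Set G)) := ⟨t, mem_centralizer_singleton_iff.2 rfl⟩
  have hzc : ∀ c : ↥(centralizer ({t} : Set G)), c * z = z * c := fun c =>
    Subtype.ext (mem_centralizer_singleton_iff.1 c.2)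
  have hz1 : z ≠ 1 := fun h => by
    rw [show t = 1 from congrArg Subtype.val h, orderOf_one] at ht
    omega
  let f := e.toMonoidHom.comp (QuotientGroup.mk' E)
  have hf : Function.Surjective f := e.surjective.comp (QuotientGroup.mk'_surjective E)
  have hk : f.ker = E := by
    ext c
    rw [MonoidHom.mem_ker, ← QuotientGroup.eq_one_iff (N := E) c]
    exact e.map_eq_one_iff
  obtain ⟨z₁, hext, -, -⟩ := exists_ext hX
  have hzE : z ∈ E := by
    rw [← hk, MonoidHom.mem_ker]
    have key : ∀ a : ↥(alternatingGroup (Fin 5)), (∀ b, b * a = a * b) → a = 1 := by decide +kernel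
    refine key _ fun b => ?_
    obtain ⟨c, rfl⟩ := hf b
    rw [← map_mul, ← map_mul, hzc c]
  have h1 : z = z₁ := (hext.central hzE fun y _ => hzc y).resolve_left hz1
  exact ⟨h1 ▸ hext, f, hf, hk⟩

variable [IsSimpleGroup G]

/-- The involution is not isolated. -/
theorem exists_conj (ht : orderOf t = 2)
    (hC : ∃ f : ↥(centralizer ({t} : Set G)) →* ↥(alternatingGroup (Fin 5)), Function.Surjective f) :
    ∃ g : G, g * t * g⁻¹ * t = t * (g * t * g⁻¹) ∧ g * t * g⁻¹ ≠ t := by
  by_contra hcon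
  push Not at hcon
  have hiso : Cfsg.IsIsolatedInvolution t := ⟨ht, fun g hg => by
    by_contra hne
    exact hne (hcon g hg.eq.symm)⟩
  obtain ⟨N, hN, hodd, hmem⟩ := ZStarTheorem.exists_odd_normal hiso
  rcases hN.eq_bot_or_eq_top with rfl | rfl
  · have hcen : t ∈ center G := mem_center_iff.2 fun g => by
      have := hmem g
      rw [mem_bot, mul_inv_eq_one, mul_inv_eq_iff_eq_mul] at this
      exact this.symm
    rcases (inferInstance : (center G).Normal).eq_bot_or_eq_top with h | h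
    · rw [h, mem_bot] at hcen
      rw [hcen, orderOf_one] at ht
      omega
    · obtain ⟨f, hf⟩ := hC
      have key : ∃ a b : ↥(alternatingGroup (Fin 5)), a * b ≠ b * a := by decide +kernel
      obtain ⟨a, b, hab⟩ := key
      obtain ⟨p, rfl⟩ := hf a
      obtain ⟨q, rfl⟩ := hf b
      have hpq : p * q = q * p := Subtype.ext
        ((mem_center_iff (z := (q : G))).1 (by rw [h]; exact mem_top _) p)
      exact hab (by rw [← map_mul, hpq, map_mul])
  · rw [Subgroup.card_top] at hodd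
    exact hodd.not_two_dvd_nat (ht ▸ orderOf_dvd_natCard t)

/-- `E` contains its centraliser. -/
theorem constraint (ht : orderOf t = 2) {E : Subgroup (centralizer ({t} : Set G))} [E.Normal]
    (hE : Nat.card E = 32) (hX : Cfsg.IsExtraspecial 2 E)
    (e : (centralizer ({t} : Set G)) ⧸ E ≃* alternatingGroup (Fin 5)) :
    centralizer (E : Set (centralizer ({t} : Set G))) ≤ E := by
  classical
  haveI : Fact (Nat.Prime 2) := ⟨Nat.prime_two⟩
  obtain ⟨hext, f, hf, hk⟩ := setting ht hX e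
  set z : ↥(centralizer ({t} : Set G)) := ⟨t, mem_centralizer_singleton_iff.2 rfl⟩
  haveI : IsSimpleGroup ↥(alternatingGroup (Fin 5)) := alternatingGroup.isSimpleGroup_five
  set K := centralizer (E : Set ↥(centralizer ({t} : Set G)))
  haveI hKn : K.Normal := ⟨fun k hk' w => mem_centralizer_iff.2 fun y hy => by
    have h : (w⁻¹ * y * w) * k = k * (w⁻¹ * y * w) := mem_centralizer_iff.1 hk' _ (by
      simpa using Normal.conj_mem ‹E.Normal› y hy w⁻¹)
    calc y * (w * k * w⁻¹) = w * ((w⁻¹ * y * w) * k) * w⁻¹ := by group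
      _ = w * (k * (w⁻¹ * y * w)) * w⁻¹ := by rw [h]
      _ = w * k * w⁻¹ * y := by group⟩
  rcases (Subgroup.Normal.map hKn f hf).eq_bot_or_eq_top with hb | htop
  · rw [Subgroup.map_eq_bot_iff, hk] at hb
    exact hb
  exfalso
  have dec : ∀ c : ↥(centralizer ({t} : Set G)), ∃ k ∈ K, ∃ d ∈ E, c = k * d := fun c => by
    obtain ⟨k, hkK, hke⟩ := mem_map.1 (show f c ∈ K.map f from htop ▸ mem_top _)
    refine ⟨k, hkK, k⁻¹ * c, ?_, by group⟩
    rw [← hk, MonoidHom.mem_ker, map_mul, map_inv, hke, inv_mul_cancel]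
  have c1 : ∀ k ∈ K, ∀ y ∈ E, y * k = k * y := fun k hk' y hy => mem_centralizer_iff.1 hk' y hy
  -- commutators inside a two-subgroup containing `E`
  have hcomm : ∀ P : Subgroup ↥(centralizer ({t} : Set G)), IsPGroup 2 P → ∀ p ∈ P, ∀ q ∈ P,
      p * q * p⁻¹ = q ∨ p * q * p⁻¹ = z * q := by
    intro P hP p hp q hq
    have hfc : f p * f q = f q * f p :=
      two_comm (hP.map f) (mem_map_of_mem f hp) (mem_map_of_mem f hq)
    obtain ⟨k, hkK, d, hd, rfl⟩ := dec p
    obtain ⟨l, hlK, b, hb, rfl⟩ := dec q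
    have hfd : ∀ d ∈ E, f d = 1 := fun d hd => MonoidHom.mem_ker.1 (hk.symm ▸ hd)
    have hkl : k * l * k⁻¹ * l⁻¹ ∈ E := by
      rw [map_mul, map_mul, hfd d hd, hfd b hb, mul_one, mul_one] at hfc
      rw [← hk, MonoidHom.mem_ker, map_mul, map_mul, map_mul, map_inv, map_inv, hfc]
      group
    have hklK : k * l * k⁻¹ * l⁻¹ ∈ K :=
      mul_mem (mul_mem (mul_mem hkK hlK) (inv_mem hkK)) (inv_mem hlK)
    have hm := hext.central hkl fun y hy => c1 _ hklK y hy
    have e1 : k * d * (l * b) * (k * d)⁻¹ = (k * l * k⁻¹ * l⁻¹) * l * (d * b * d⁻¹) := by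
      calc k * d * (l * b) * (k * d)⁻¹ = k * (d * l) * (b * d⁻¹) * k⁻¹ := by group
        _ = k * l * ((d * b * d⁻¹) * k⁻¹) := by rw [c1 l hlK d hd]; group
        _ = k * l * (k⁻¹ * (d * b * d⁻¹)) := by
            rw [c1 k⁻¹ (inv_mem hkK) _ (mul_mem (mul_mem hd hb) (inv_mem hd))]
        _ = _ := by group
    rw [e1]
    have hzl : z * l = l * z := Subtype.ext (mem_centralizer_singleton_iff.1 l.2).symm
    rcases hm with em | em <;> rcases hext.conj d hd b hb with eb | eb <;> rw [em, eb]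
    · exact Or.inl (by rw [one_mul])
    · exact Or.inr (by rw [one_mul, ← mul_assoc, ← hzl, mul_assoc])
    · exact Or.inr (by rw [mul_assoc])
    · refine Or.inl ?_
      rw [hzl, mul_assoc l z, ← mul_assoc z z, hext.zz, one_mul]
  obtain ⟨g, hgc, hgne⟩ := exists_conj ht ⟨f, hf⟩
  set c : ↥(centralizer ({t} : Set G)) := ⟨g * t * g⁻¹, mem_centralizer_singleton_iff.2 hgc⟩
  have hcc : c * c = 1 := Subtype.ext (by
    show g * t * g⁻¹ * (g * t * g⁻¹) = 1
    rw [show g * t * g⁻¹ * (g * t * g⁻¹) = g * (t * t) * g⁻¹ by group, ← pow_two, ← ht,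
      pow_orderOf_eq_one]
    group)
  have hEp : IsPGroup 2 E := IsPGroup.of_card (n := 5) (by rw [hE]; norm_num)
  have hcp : IsPGroup 2 ↥(zpowers c) := fun w => by
    obtain ⟨i, hi⟩ := w.2
    refine ⟨1, Subtype.ext ?_⟩
    show (w : ↥(centralizer ({t} : Set G))) ^ 2 ^ 1 = 1
    rw [← hi, pow_one, ← zpow_natCast, ← zpow_mul, mul_comm, zpow_mul, zpow_natCast, pow_two, hcc,
      one_zpow]
  obtain ⟨P, hP⟩ := hcp.exists_le_sylow
  have hEP : E ≤ P := IsPGroup.le_sylow_of_normal hEp P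
  have hcP : ∀ p ∈ E, p * c * p⁻¹ = c ∨ p * c * p⁻¹ = z * c := fun p hp =>
    hcomm P P.2 p (hEP hp) c (hP (mem_zpowers c))
  -- two non-commuting elements of `E` centralise `c`
  obtain ⟨a, ha, b, hb, hac, hbc, hab⟩ : ∃ a ∈ E, ∃ b ∈ E, a * c = c * a ∧ b * c = c * b ∧
      ¬ a * b = b * a := by
    by_contra hall
    push Not at hall
    haveI := Fintype.ofFinite ↥(centralizer ({t} : Set G))
    have cov : ∀ w : ↥(centralizer ({t} : Set G)), ∀ a0 ∈ E, (w ∈ E ∧ ¬ w * c = c * w) →
        (a0 * c = c * a0 → ¬ a0 * w = w * a0 → ∀ p ∈ E, p * c = c * p →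
          p = 1 ∨ p = z ∨ p = a0 ∨ p = a0 * z) ∧
        ((∀ p ∈ E, p * c = c * p → p * w = w * p) → ∀ p ∈ E, p * c = c * p → p = 1 ∨ p = z) := by
      rintro w a0 ha0 ⟨hw, hwc⟩
      have cov0 : ∀ y ∈ E, y * c = c * y ∨ ∃ p ∈ E, p * c = c * p ∧ y = w * p := by
        intro y hy
        by_cases hyc : y * c = c * y
        · exact Or.inl hyc
        refine Or.inr ⟨w⁻¹ * y, mul_mem (inv_mem hw) hy, ?_, by group⟩
        have h1 : w * c * w⁻¹ = z * c :=
          (hcP w hw).resolve_left fun e => hwc (mul_inv_eq_iff_eq_mul.1 e)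
        have h2 : y * c * y⁻¹ = z * c :=
          (hcP y hy).resolve_left fun e => hyc (mul_inv_eq_iff_eq_mul.1 e)
        refine mul_inv_eq_iff_eq_mul.1 ?_
        calc w⁻¹ * y * c * (w⁻¹ * y)⁻¹ = w⁻¹ * (y * c * y⁻¹) * w := by group
          _ = w⁻¹ * (w * c * w⁻¹) * w := by rw [h1, h2]
          _ = c := by group
      have cen : ∀ p ∈ E, p * c = c * p → p * w = w * p → p = 1 ∨ p = z := by
        intro p hp hpc hpw
        refine hext.central hp fun y hy => ?_
        rcases cov0 y hy with h | ⟨r, hr, hrc, rfl⟩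
        · exact hall y hy p hp h hpc
        · calc w * r * p = w * (r * p) := mul_assoc _ _ _
            _ = w * (p * r) := by rw [hall r hr p hp hrc hpc]
            _ = w * p * r := (mul_assoc _ _ _).symm
            _ = p * w * r := by rw [hpw]
            _ = p * (w * r) := mul_assoc _ _ _
      refine ⟨fun ha0c ha0w p hp hpc => ?_, fun h p hp hpc => cen p hp hpc (h p hp hpc)⟩
      by_cases hpw : p * w = w * p
      · rcases cen p hp hpc hpw with h | h
        exacts [Or.inl h, Or.inr (Or.inl h)]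
      have h1 : a0 * w * a0⁻¹ = z * w :=
        (hext.conj a0 ha0 w hw).resolve_left fun e => ha0w (mul_inv_eq_iff_eq_mul.1 e)
      have h2 : p * w * p⁻¹ = z * w :=
        (hext.conj p hp w hw).resolve_left fun e => hpw (mul_inv_eq_iff_eq_mul.1 e)
      have h3 : a0⁻¹ * p * w = w * (a0⁻¹ * p) := by
        refine mul_inv_eq_iff_eq_mul.1 ?_
        calc a0⁻¹ * p * w * (a0⁻¹ * p)⁻¹ = a0⁻¹ * (p * w * p⁻¹) * a0 := by group
          _ = a0⁻¹ * (a0 * w * a0⁻¹) * a0 := by rw [h1, h2]
          _ = w := by group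
      rcases cen _ (mul_mem (inv_mem ha0) hp)
          ((show Commute a0 c from ha0c).inv_left.mul_left hpc).eq h3 with h | h
      · exact Or.inr (Or.inr (Or.inl (inv_mul_eq_one.1 h).symm))
      · exact Or.inr (Or.inr (Or.inr (by rw [← h]; group)))
    -- some element of `E` moves `c`
    obtain ⟨w, hw, hwc⟩ : ∃ w ∈ E, ¬ w * c = c * w := by
      by_contra h
      push Not at h
      haveI := Fintype.ofFinite ↥E
      obtain ⟨p, hp⟩ : ∃ p : ↥E, p ∉ ({1, ⟨z, hext.mem⟩} : Finset ↥E) := by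
        by_contra hh
        push Not at hh
        have := Finset.card_le_card (fun p _ => hh p : (Finset.univ : Finset ↥E) ⊆ _)
        rw [Finset.card_univ, ← Nat.card_eq_fintype_card, hE] at this
        have := Finset.card_le_two (a := (1 : ↥E)) (b := ⟨z, hext.mem⟩)
        omega
      simp only [Finset.mem_insert, Finset.mem_singleton, not_or] at hp
      rcases hext.central p.2 (fun y hy => hall y hy p p.2 (h y hy) (h p p.2)) with e' | e'
      exacts [hp.1 (Subtype.ext e'), hp.2 (Subtype.ext e')]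
    obtain ⟨a0, ha0, hsmall⟩ : ∃ a0 ∈ E, ∀ p ∈ E, p * c = c * p →
        p = 1 ∨ p = z ∨ p = a0 ∨ p = a0 * z := by
      by_cases h : ∀ p ∈ E, p * c = c * p → p * w = w * p
      · exact ⟨1, one_mem _, fun p hp hpc =>
          ((cov w 1 (one_mem _) ⟨hw, hwc⟩).2 h p hp hpc).imp_right Or.inl⟩
      · push Not at h
        obtain ⟨a0, ha0, ha0c, ha0w⟩ := h
        exact ⟨a0, ha0, (cov w a0 ha0 ⟨hw, hwc⟩).1 ha0c ha0w⟩
    let F : Finset ↥(centralizer ({t} : Set G)) := {1, z, a0, a0 * z} ∪ ({1, z, a0, a0 * z} : Finset ↥(centralizer ({t} : Set G))).image (w * ·)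
    have hsub : ∀ y ∈ E, y ∈ F := by
      intro y hy
      by_cases hyc : y * c = c * y
      · exact Finset.mem_union_left _ (by simpa using hsmall y hy hyc)
      · have h1 : w * c * w⁻¹ = z * c :=
          (hcP w hw).resolve_left fun e => hwc (mul_inv_eq_iff_eq_mul.1 e)
        have h2 : y * c * y⁻¹ = z * c :=
          (hcP y hy).resolve_left fun e => hyc (mul_inv_eq_iff_eq_mul.1 e)
        have h3 : w⁻¹ * y * c = c * (w⁻¹ * y) := by
          refine mul_inv_eq_iff_eq_mul.1 ?_
          calc w⁻¹ * y * c * (w⁻¹ * y)⁻¹ = w⁻¹ * (y * c * y⁻¹) * w := by group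
            _ = w⁻¹ * (w * c * w⁻¹) * w := by rw [h1, h2]
            _ = c := by group
        exact Finset.mem_union_right _ (Finset.mem_image.2
          ⟨w⁻¹ * y, by simpa using hsmall _ (mul_mem (inv_mem hw) hy) h3, by group⟩)
    have h32 : Nat.card E ≤ F.card := by
      rw [← Nat.card_eq_finsetCard F]
      exact Nat.card_le_card_of_injective (fun y : ↥E => (⟨y, hsub y y.2⟩ : ↥F))
        fun p q h => Subtype.ext (congrArg (fun v : ↥F => (v : ↥(centralizer ({t} : Set G)))) h)
    have h4 : ({1, z, a0, a0 * z} : Finset ↥(centralizer ({t} : Set G))).card ≤ 4 := Finset.card_le_four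
    have := h32.trans ((Finset.card_union_le _ _).trans
      (Nat.add_le_add h4 (Finset.card_image_le.trans h4)))
    omega
  have hz : a * b * a⁻¹ = z * b :=
    (hext.conj a ha b hb).resolve_left fun e => hab (mul_inv_eq_iff_eq_mul.1 e)
  -- move the pair into a Sylow subgroup of `C`
  set A : Subgroup ↥(centralizer ({t} : Set G)) := E ⊓ centralizer ({c} : Set ↥(centralizer ({t} : Set G)))
  have hAc : ∀ p : A, g⁻¹ * ((p : ↥(centralizer ({t} : Set G))) : G) * g * t = t * (g⁻¹ * ((p : ↥(centralizer ({t} : Set G))) : G) * g) := fun p => by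
    have h1 : ((p : ↥(centralizer ({t} : Set G))) : G) * (g * t * g⁻¹) = g * t * g⁻¹ * ((p : ↥(centralizer ({t} : Set G))) : G) :=
      congrArg Subtype.val (mem_centralizer_singleton_iff.1 p.2.2)
    calc g⁻¹ * ((p : ↥(centralizer ({t} : Set G))) : G) * g * t = g⁻¹ * (((p : ↥(centralizer ({t} : Set G))) : G) * (g * t * g⁻¹)) * g := by group
      _ = t * (g⁻¹ * ((p : ↥(centralizer ({t} : Set G))) : G) * g) := by rw [h1]; group
  let γ : A →* ↥(centralizer ({t} : Set G)) := MonoidHom.mk'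
    (fun p => ⟨g⁻¹ * ((p : ↥(centralizer ({t} : Set G))) : G) * g, mem_centralizer_singleton_iff.2 (hAc p)⟩)
    fun p q => Subtype.ext (by
      show g⁻¹ * (((p * q : A) : ↥(centralizer ({t} : Set G))) : G) * g =
        g⁻¹ * ((p : ↥(centralizer ({t} : Set G))) : G) * g * (g⁻¹ * ((q : ↥(centralizer ({t} : Set G))) : G) * g)
      rw [Subgroup.coe_mul, Subgroup.coe_mul]
      group)
  have hγ : IsPGroup 2 γ.range := (hEp.to_le inf_le_left).of_surjective γ.rangeRestrict
    γ.rangeRestrict_surjective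
  have hγc := hcomm _ hγ _ ⟨⟨a, ha, mem_centralizer_singleton_iff.2 hac⟩, rfl⟩ _
    ⟨⟨b, hb, mem_centralizer_singleton_iff.2 hbc⟩, rfl⟩
  have hz' : (a : G) * b * (a : G)⁻¹ = t * b := congrArg Subtype.val hz
  rcases hγc with h | h
  · have h' : g⁻¹ * (a : G) * g * (g⁻¹ * b * g) * (g⁻¹ * a * g)⁻¹ = g⁻¹ * b * g :=
      congrArg Subtype.val h
    rw [show g⁻¹ * (a : G) * g * (g⁻¹ * b * g) * (g⁻¹ * a * g)⁻¹ =
      g⁻¹ * ((a : G) * b * (a : G)⁻¹) * g by group, hz', mul_left_inj, mul_right_inj] at h'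
    rw [mul_eq_right.1 h', orderOf_one] at ht
    omega
  · have h' : g⁻¹ * (a : G) * g * (g⁻¹ * b * g) * (g⁻¹ * a * g)⁻¹ = t * (g⁻¹ * b * g) :=
      congrArg Subtype.val h
    rw [show g⁻¹ * (a : G) * g * (g⁻¹ * b * g) * (g⁻¹ * a * g)⁻¹ =
      g⁻¹ * ((a : G) * b * (a : G)⁻¹) * g by group, hz'] at h'
    refine hgne ?_
    have h2 : g⁻¹ * t * g = t := by
      rw [show g⁻¹ * (t * b) * g = (g⁻¹ * t * g) * (g⁻¹ * b * g) by group] at h'
      exact mul_right_cancel h'
    calc g * t * g⁻¹ = g * (g⁻¹ * t * g) * g⁻¹ := by rw [h2]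
      _ = t := by group

/-- `E` is of minus type. -/
theorem minus (ht : orderOf t = 2) {E : Subgroup (centralizer ({t} : Set G))} [E.Normal]
    (hE : Nat.card E = 32) (hX : Cfsg.IsExtraspecial 2 E)
    (e : (centralizer ({t} : Set G)) ⧸ E ≃* alternatingGroup (Fin 5))
    (U : Subgroup ↥E) (hU : Cfsg.IsElementaryAbelian 2 U) : Nat.card U ≤ 2 ^ 2 := by
  classical
  haveI : Fact (Nat.Prime 5) := ⟨by norm_num⟩
  have hcon := constraint ht hE hX e
  obtain ⟨hext, f, hf, -⟩ := setting ht hX e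
  set z : ↥(centralizer ({t} : Set G)) := ⟨t, mem_centralizer_singleton_iff.2 rfl⟩
  obtain ⟨w, hw⟩ := exists_prime_orderOf_dvd_card' (G := ↥(centralizer ({t} : Set G))) 5
    (Dvd.dvd.trans (by rw [card_five]; norm_num) (card_dvd_of_surjective f hf))
  have hwE : w ∉ E := fun h => by
    have h4 := orderOf_dvd_natCard (⟨w, h⟩ : ↥E)
    rw [← Subgroup.orderOf_coe, hw, hE] at h4
    norm_num at h4
  have ctx : HJPatternExtraspecial.Ctx E z w :=
    { card := hE
      zQ := hext.mem
      zz := hext.zz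
      z1 := hext.ne_one
      zc := fun q hq => hext.comm q hq
      sq := hext.sq
      comm := fun p hp q hq => by
        rcases hext.conj p hp q hq with h | h
        · exact Or.inl (mul_inv_eq_one.2 h)
        · exact Or.inr (mul_inv_eq_iff_eq_mul.2 h)
      cen := fun q hq hc => hext.central hq fun y hy => (hc y hy).eq
      e5 := by rw [← hw, pow_orderOf_eq_one]
      eQ := fun q hq => Normal.conj_mem ‹E.Normal› q hq w
      ez := Subtype.ext (mem_centralizer_singleton_iff.1 w.2)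
      enontriv := by
        by_contra h
        push Not at h
        exact hwE (hcon (mem_centralizer_iff.2 fun q hq => (h q hq).eq.symm)) }
  by_contra hbig
  push Not at hbig
  have pick : ∀ F : Finset ↥(centralizer ({t} : Set G)), F.card ≤ 4 → ∃ u : ↥U, ((u : ↥E) : ↥(centralizer ({t} : Set G))) ∉ F := by
    intro F hF
    by_contra h
    push Not at h
    have := Nat.card_le_card_of_injective (fun u : ↥U => (⟨_, h u⟩ : ↥F)) (fun a b e => by
      apply Subtype.ext; apply Subtype.ext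
      exact congrArg (fun w : ↥F => (w : ↥(centralizer ({t} : Set G)))) e)
    rw [Nat.card_eq_finsetCard] at this
    omega
  have hsq : ∀ u : ↥U, ((u : ↥E) : ↥(centralizer ({t} : Set G))) * (u : ↥E) = 1 := fun u => by
    have := congrArg (fun w : ↥E => (w : ↥(centralizer ({t} : Set G)))) (hU.2 u u.2)
    simpa [pow_two] using this
  obtain ⟨u, hu⟩ := pick {1, z} (Finset.card_le_two.trans (by norm_num))
  simp only [Finset.mem_insert, Finset.mem_singleton, not_or] at hu
  obtain ⟨v, hv⟩ := pick {1, z, ((u : ↥E) : ↥(centralizer ({t} : Set G))), ((u : ↥E) : ↥(centralizer ({t} : Set G))) * z} Finset.card_le_four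
  simp only [Finset.mem_insert, Finset.mem_singleton, not_or] at hv
  haveI := hU.1
  have hc : Commute ((u : ↥E) : ↥(centralizer ({t} : Set G))) (v : ↥E) :=
    congrArg (fun w : ↥U => ((w : ↥E) : ↥(centralizer ({t} : Set G)))) (mul_comm' u v)
  rcases HJPatternExtraspecial.eq_of_commute ctx
    (HJPatternExtraspecial.mem_invs.2 ⟨(u : ↥E).2, hsq u, hu.1, hu.2⟩) (v : ↥E).2 (hsq v) hc with
    h | h | h | h
  exacts [hv.1 h, hv.2.1 h, hv.2.2.1 h, hv.2.2.2 h]

/-- Both facts. -/
theorem minus_constraint (t : G) (ht : Cfsg.IsTwoCentralInvolution t)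
    (E : Subgroup (centralizer ({t} : Set G))) [E.Normal] (hE : Nat.card E = 32)
    (hX : Cfsg.IsExtraspecial 2 E)
    (e : (centralizer ({t} : Set G)) ⧸ E ≃* alternatingGroup (Fin 5)) :
    (∀ A : Subgroup E, Cfsg.IsElementaryAbelian 2 A → Nat.card A ≤ 2 ^ 2) ∧
      centralizer (E : Set (centralizer ({t} : Set G))) ≤ E :=
  ⟨minus ht.1 hE hX e, constraint ht.1 hE hX e⟩

/-- The case of two classes of involutions. -/
theorem isJ2_of_two (t : G) (ht : orderOf t = 2)
    (E : Subgroup (centralizer ({t} : Set G))) [E.Normal] (hE : Nat.card E = 32)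
    (hX : Cfsg.IsExtraspecial 2 E)
    (e : (centralizer ({t} : Set G)) ⧸ E ≃* alternatingGroup (Fin 5))
    (hcl : ∃ x y : G, orderOf x = 2 ∧ orderOf y = 2 ∧ ¬ IsConj x y) : Cfsg.IsJ2 G := by
  have hJ := J2RecSimple30.hyp_of_simple ht E hX hE (minus ht hE hX e) (constraint ht hE hX e) e hcl
  obtain ⟨a, u, u', y, C, K, -, -, hG⟩ := J2TypeFive79.exists_kern_order hJ
  exact ⟨inferInstance, hG⟩

end Cfsg.Agent.J3Reduce9
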