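import Cfsg.Agent.Lib.J3TypeClasses93

/-!
# Groups of J₃ type: normalised generators

The interface of the recognition: generators `z, a 1, x, u, v, h` of `C(z)` normalised on the five
points, and an element `o` of order three normalising `D = ⟨z, a 0, u, v⟩` and centralising `x`.
-/

set_option autoImplicit false

namespace Cfsg.Agent.J3Setup93

open Subgroup Cfsg.Agent.LargeExtraspecial Cfsg.Agent.J3TypePoints93 Cfsg.Agent.J3TypeAction93

variable {G : Type*} [Group G] [Finite G]

/-- `g` centralises `z` and sends `a p` to `a (σ p)`. -/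
def Exact (z : G) (a : Fin 5 → G) (g : G) (σ : Equiv.Perm (Fin 5)) : Prop :=
  g * z = z * g ∧ ∀ p, g * a p * g⁻¹ = a (σ p)

/-- `(12)(34)`. -/
def σu : Equiv.Perm (Fin 5) := Equiv.swap 1 2 * Equiv.swap 3 4

/-- `(13)(24)`. -/
def σv : Equiv.Perm (Fin 5) := Equiv.swap 1 3 * Equiv.swap 2 4

/-- `(234)`. -/
def σx : Equiv.Perm (Fin 5) := Equiv.swap 2 3 * Equiv.swap 3 4

/-- `(012)`. -/
def σh : Equiv.Perm (Fin 5) := Equiv.swap 0 1 * Equiv.swap 1 2

/-- Normalised generators of `C(z)`. -/
structure Gens (Q : Subgroup G) (z : G) (a : Fin 5 → G) (x u v h : G) : Prop where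
  hJ : Hyp Q z
  pts : Pts Q z a
  mem_Q : ∀ g, Acts z a g 1 → g ∈ Q
  lift : ∀ σ, Equiv.Perm.sign σ = 1 → ∃ g, Acts z a g σ
  even : ∀ g σ, Acts z a g σ → Equiv.Perm.sign σ = 1
  a0 : a 0 = a 1 * a 2 * a 3 * a 4
  x3 : x * x * x = 1
  h3 : h * h * h = 1
  uu : u * u = 1
  vv : v * v = 1
  uv : u * v = v * u
  xu : x * u * x⁻¹ = v
  xv : x * v * x⁻¹ = u * v
  eu : Exact z a u σu
  ev : Exact z a v σv
  ex : Exact z a x σx
  eh : Exact z a h σh

/-- The element `o` outside `C(z)`. -/
structure Oct (z : G) (a : Fin 5 → G) (x u v o : G) : Prop where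
  o3 : o * o * o = 1
  ox : o * x = x * o
  oz : o * z * o⁻¹ = z * a 0
  oa : o * a 0 * o⁻¹ = z
  ou : o * u * o⁻¹ = v
  ov : o * v * o⁻¹ = u * v
  oru : o * (a 1 * u * a 1) = (a 1 * u * a 1) * o
  orv : o * (a 1 * v * a 1) = (a 1 * v * a 1) * o

/-- The element conjugating the two fixed points of `x` and inverting `x`. -/
def gel (u h : G) : G := u * h⁻¹

/-- The centralizer of `x` is `⟨x⟩` times a subgroup whose quotient map is given: `φ` has kernel
`⟨x⟩`, its image is one of the two possible simple groups, and `χ` is a character with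
`χ x = 1` which is negated by conjugation with `gel u h`. -/
structure CentData (x u h : G) {K : Type} [Group K]
    (φ : ↥(centralizer ({x} : Set G)) →* K)
    (χ : ↥(centralizer ({x} : Set G)) →* Multiplicative (ZMod 3)) : Prop where
  surj : Function.Surjective φ
  ker : ∀ c : ↥(centralizer ({x} : Set G)), φ c = 1 ↔ (c : G) ∈ zpowers x
  chi_x : ∀ c : ↥(centralizer ({x} : Set G)), (c : G) = x → χ c = Multiplicative.ofAdd 1
  chi_g : ∀ c d : ↥(centralizer ({x} : Set G)), (d : G) = gel u h * (c : G) * (gel u h)⁻¹ → χ d = (χ c)⁻¹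

end Cfsg.Agent.J3Setup93
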