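import Cfsg.Agent.Lib.FieldSixteen15
import Cfsg.Agent.Lib.J3Chain90
import Cfsg.Agent.Lib.J3SubL16Data22

/-! Checks on the table of the special linear group over sixteen elements inside the cover of the third
Janko group. -/

set_option autoImplicit false
set_option maxRecDepth 100000

namespace Cfsg.Agent.J3SubL16Check22

open CosetCertCore J3Mat90 J3Data90 J3Check90 J3Cert2_90 J3SubL16Data22
open Cfsg.Agent.FieldSixteen15

/-- product in the field of sixteen elements on codes -/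
noncomputable def gmul (a b : ℕ) : ℕ := entry mulT 4 (Nat.add (Nat.mul 16 a) b)

/-- a digit -/
noncomputable def dg (A k : ℕ) : ℕ := Nat.mod (Nat.div A (16 ^ k)) 16

/-- the digit of a product -/
noncomputable def dot (a b c d : ℕ) : ℕ := Nat.xor (gmul a b) (gmul c d)

/-- product of two by two matrices on codes -/
noncomputable def mm (A B : ℕ) : ℕ :=
  force (dg A 0) fun a => force (dg A 1) fun b => force (dg A 2) fun c => force (dg A 3) fun d =>
  force (dg B 0) fun e => force (dg B 1) fun f => force (dg B 2) fun g => force (dg B 3) fun h =>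
    dot a e b g + 16 * dot a f b h + 256 * dot c e d g + 4096 * dot c f d h

/-- the identity code -/
def idC : ℕ := 4097

/-- the element of a code -/
def toK (n : ℕ) : K16 := elems.getD n 0

theorem gmul_ok : ∀ a < 16, ∀ b < 16,
    gmul a b < 16 ∧ toK (gmul a b) = toK a * toK b ∧ toK (Nat.xor a b) = toK a + toK b := by
  decide +kernel

theorem toK_inj : ∀ a < 16, ∀ b < 16, toK a = toK b → a = b := by decide +kernel

/-- the matrix of a code -/
noncomputable def mat (A : ℕ) : Matrix (Fin 2) (Fin 2) K16 :=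
  !![toK (dg A 0), toK (dg A 1); toK (dg A 2), toK (dg A 3)]

theorem dg_lt (A k : ℕ) : dg A k < 16 := Nat.mod_lt _ (by norm_num)

theorem dot_spec {a b c d : ℕ} (ha : a < 16) (hb : b < 16) (hc : c < 16) (hd : d < 16) :
    dot a b c d < 16 ∧ toK (dot a b c d) = toK a * toK b + toK c * toK d := by
  obtain ⟨h1, h2, -⟩ := gmul_ok a ha b hb
  obtain ⟨h3, h4, -⟩ := gmul_ok c hc d hd
  obtain ⟨-, -, h5⟩ := gmul_ok _ h1 _ h3
  exact ⟨Nat.xor_lt_two_pow (n := 4) h1 h3, by rw [dot, h5, h2, h4]⟩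

theorem dg_pack {a b c d : ℕ} (ha : a < 16) (hb : b < 16) (hc : c < 16) (hd : d < 16) :
    dg (a + 16 * b + 256 * c + 4096 * d) 0 = a ∧ dg (a + 16 * b + 256 * c + 4096 * d) 1 = b ∧
    dg (a + 16 * b + 256 * c + 4096 * d) 2 = c ∧ dg (a + 16 * b + 256 * c + 4096 * d) 3 = d := by
  simp only [dg]
  refine ⟨?_, ?_, ?_, ?_⟩
  · show (a + 16 * b + 256 * c + 4096 * d) / 16 ^ 0 % 16 = a
    omega
  · show (a + 16 * b + 256 * c + 4096 * d) / 16 ^ 1 % 16 = b
    omega
  · show (a + 16 * b + 256 * c + 4096 * d) / 16 ^ 2 % 16 = c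
    omega
  · show (a + 16 * b + 256 * c + 4096 * d) / 16 ^ 3 % 16 = d
    omega

theorem mat_mm (A B : ℕ) : mat (mm A B) = mat A * mat B := by
  simp only [mm, force_eq]
  obtain ⟨l1, e1⟩ := dot_spec (dg_lt A 0) (dg_lt B 0) (dg_lt A 1) (dg_lt B 2)
  obtain ⟨l2, e2⟩ := dot_spec (dg_lt A 0) (dg_lt B 1) (dg_lt A 1) (dg_lt B 3)
  obtain ⟨l3, e3⟩ := dot_spec (dg_lt A 2) (dg_lt B 0) (dg_lt A 3) (dg_lt B 2)
  obtain ⟨l4, e4⟩ := dot_spec (dg_lt A 2) (dg_lt B 1) (dg_lt A 3) (dg_lt B 3)
  obtain ⟨p1, p2, p3, p4⟩ := dg_pack l1 l2 l3 l4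
  rw [mat, p1, p2, p3, p4, e1, e2, e3, e4, mat, mat, Matrix.mul_fin_two]

theorem mat_id : mat idC = 1 := by
  rw [mat, Matrix.one_fin_two]
  simp only [show dg idC 0 = 1 by decide +kernel, show dg idC 1 = 0 by decide +kernel,
    show dg idC 2 = 0 by decide +kernel, show dg idC 3 = 1 by decide +kernel]
  rfl

theorem mat_inj {A B : ℕ} (hA : A < 65536) (hB : B < 65536) (e : mat A = mat B) : A = B := by
  have h : ∀ i j, mat A i j = mat B i j := fun i j => by rw [e]
  have h0 := toK_inj _ (dg_lt A 0) _ (dg_lt B 0) (h 0 0)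
  have h1 := toK_inj _ (dg_lt A 1) _ (dg_lt B 1) (h 0 1)
  have h2 := toK_inj _ (dg_lt A 2) _ (dg_lt B 2) (h 1 0)
  have h3 := toK_inj _ (dg_lt A 3) _ (dg_lt B 3) (h 1 1)
  simp only [dg] at h0 h1 h2 h3
  change A / 16 ^ 0 % 16 = B / 16 ^ 0 % 16 at h0
  change A / 16 ^ 1 % 16 = B / 16 ^ 1 % 16 at h1
  change A / 16 ^ 2 % 16 = B / 16 ^ 2 % 16 at h2
  change A / 16 ^ 3 % 16 = B / 16 ^ 3 % 16 at h3
  omega

theorem det_gens : (mat s0).det = 1 ∧ (mat s1).det = 1 := by
  simp only [mat, Matrix.det_fin_two_of]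
  decide +kernel

/-- an edge of the table -/
noncomputable def edgeOK (n : ℕ) : Bool :=
  force (entry edges 16 n) fun y =>
  force (Nat.shiftRight n 1) fun x =>
  Nat.blt y 4080 &&
    Nat.beq (mm (cond (Nat.beq (Nat.land n 1) 0) s0 s1) (entry codes 16 x)) (entry codes 16 y) &&
    Nat.beq (mulN (cond (Nat.beq (Nat.land n 1) 0) g0 g1) (entry mats 162 x)) (entry mats 162 y)

/-- a node of the tree -/
noncomputable def treeCheck (x : ℕ) : Bool :=
  Nat.beq x 0 ||
    force (entry par 16 x) fun e =>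
    force (Nat.shiftRight e 1) fun p =>
    Nat.blt p x &&
      Nat.beq (entry codes 16 x) (mm (cond (Nat.beq (Nat.land e 1) 0) s0 s1) (entry codes 16 p)) &&
      Nat.beq (entry mats 162 x) (mulN (cond (Nat.beq (Nat.land e 1) 0) g0 g1) (entry mats 162 p))

/-- the codes are distinct and the matrices other than the first are not scalar -/
noncomputable def nodeOK (x : ℕ) : Bool :=
  force (entry srt 16 x) fun a =>
  force (entry mats 162 x) fun M =>
  Nat.blt a 4080 && Nat.blt (entry codes 16 a) 65536 &&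
    (Nat.blt 4080 (x + 2) || Nat.blt (entry codes 16 a) (entry codes 16 (entry srt 16 (x + 1)))) &&
    Nat.blt M (2 ^ 162) &&
    (Nat.beq x 0 || (!Nat.beq M one && !Nat.beq M scal && !Nat.beq M scalTwo))

theorem edge_a : allFrom edgeOK 2100 0 = true := by decide +kernel
theorem edge_b : allFrom edgeOK 2100 2100 = true := by decide +kernel
theorem edge_c : allFrom edgeOK 2100 4200 = true := by decide +kernel
theorem edge_d : allFrom edgeOK 1860 6300 = true := by decide +kernel
theorem tree_ok : allFrom treeCheck 4080 0 = true := by decide +kernel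
theorem node_ok : allFrom nodeOK 4080 0 = true := by decide +kernel

theorem small_ok : entry codes 16 0 = idC ∧ entry mats 162 0 = one ∧ i0 < 136 ∧ j0 < 180 ∧ i1 < 136 ∧
    j1 < 180 ∧ mulN (entry u2 162 i0) (entry u3 162 j0) = g0 ∧
    mulN (entry u2 162 i1) (entry u3 162 j1) = g1 ∧ mulN scal scal = scalTwo ∧ scalTwo < 2 ^ 162 ∧
    mulN cycInv cyc = one := by decide +kernel

theorem cyc_bits : ∀ w i : Cfsg.Spor.F9,
    J3Gens90.bits cyc w i = J3Gens90.bits (powN genA (ix i : ℕ)) w 0 := by decide +kernel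

end Cfsg.Agent.J3SubL16Check22
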