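import Cfsg.Agent.Lib.J3Simple90
import Cfsg.Agent.Lib.J3Perm90
import Cfsg.Agent.Lib.J3SubL16Check22
import Cfsg.Agent.Lib.OrthUnitarySL2

/-!
The third Janko group contains the special linear group over sixteen elements extended by a group of
order two, and has no element of order 323.
-/

set_option autoImplicit false
set_option maxRecDepth 100000
set_option linter.unusedSectionVars false

namespace Cfsg.Agent.J3SubL16_22

open CosetCertCore J3Mat90 J3Data90 J3Check90 J3CertA90 J3Cert2_90 J3Level90 J3Gens90 J3Chain90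
open J3Order90 J3Simple90 J3SubL16Data22 J3SubL16Check22
open Cfsg.Spor
open Cfsg.Agent.FieldSixteen15
open J3Perm90 (certS_ok)

section
variable {F : Type*} [Field F] [Finite F] (ω : F) (h2 : (2 : F) = 0) (hω : ω ^ 2 + ω + 1 = 0)

/-- the pair of matrices at a place of the table -/
noncomputable def pr (x : ℕ) : Matrix (Fin 2) (Fin 2) K16 × Matrix F9 F9 F :=
  (mat (entry codes 16 x), ev ω (entry mats 162 x))

/-- the two generating pairs -/
def gens2 : Set (Matrix (Fin 2) (Fin 2) K16 × Matrix F9 F9 F) :=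
  {(mat s0, ev ω g0), (mat s1, ev ω g1)}

include h2 hω

/-- The subgroup of index 6156 in the cover. -/
theorem exists_sub :
    ∃ K : Subgroup (threeJ3 F ω), K.index = 6156 ∧
      (∀ g : threeJ3 F ω, ((g : GL F9 F) : Matrix F9 F9 F) ∈ K2 ω → g ∈ K) ∧
      (Nat.card F = 4 → Subgroup.center (threeJ3 F ω) ≤ K) := by
  let K : Subgroup (threeJ3 F ω) :=
    { carrier := {g | ((g : GL F9 F) : Matrix F9 F9 F) ∈ K2 ω}
      one_mem' := by simp
      mul_mem' := fun {x y} hx hy => by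
        show (((x * y : threeJ3 F ω) : GL F9 F) : Matrix F9 F9 F) ∈ K2 ω
        simpa using (K2 ω).mul_mem hx hy
      inv_mem' := fun {x} hx => by
        show (((x⁻¹ : threeJ3 F ω) : GL F9 F) : Matrix F9 F9 F) ∈ K2 ω
        obtain ⟨x', hx', e⟩ := exists_left_inv_mem (K2 ω) hx (x : GL F9 F).isUnit
        have : (((x⁻¹ : threeJ3 F ω) : GL F9 F) : Matrix F9 F9 F) = x' := by
          calc (((x⁻¹ : threeJ3 F ω) : GL F9 F) : Matrix F9 F9 F)
              = (x' * ((x : GL F9 F) : Matrix F9 F9 F)) *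
                  (((x : GL F9 F)⁻¹ : GL F9 F) : Matrix F9 F9 F) := by rw [e, one_mul]; rfl
            _ = x' := by rw [mul_assoc, Units.mul_inv, mul_one]
        rw [this]; exact hx' }
  have hcard : Nat.card K ≤ 24480 := by
    have hmem : ∀ g : K, ∃ t : Fin 136 × Fin 180,
        ((g.1 : GL F9 F) : Matrix F9 F9 F) = T2 ω t.1 * T3 ω t.2 := by
      intro g
      obtain ⟨i, hi, j, hj, e⟩ := K2_table ω h2 hω g.2
      exact ⟨(⟨i, hi⟩, ⟨j, hj⟩), e⟩
    choose f hf using hmem
    have hinj : Function.Injective f := fun g h e =>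
      Subtype.ext (coe_inj ω (by rw [hf g, hf h, e]))
    have := Nat.card_le_card_of_injective f hinj
    simp only [Nat.card_prod, Nat.card_fin] at this
    exact this
  have hindex : Nat.card (threeJ3 F ω ⧸ K) ≤ 6156 := by
    have lift : ∀ x : Fin 6156, ∃ g : threeJ3 F ω,
        ((g : GL F9 F) : Matrix F9 F9 F) = T1 ω x := fun x =>
      exists_lift ω h2 hω (T1_mem ω h2 hω x x.2)
    choose L hL using lift
    have hsurj : Function.Surjective (fun x : Fin 6156 => (QuotientGroup.mk (L x) : threeJ3 F ω ⧸ K)) := by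
      intro q
      obtain ⟨g, rfl⟩ := QuotientGroup.mk_surjective q
      obtain ⟨y, hy, k, hk, e⟩ := coset_step ω h2 hω ((mem_iff ω h2 hω g).1 g.2) (x := 0) (by norm_num)
      refine ⟨⟨y, hy⟩, QuotientGroup.eq.2 ?_⟩
      obtain ⟨k', hk'⟩ := exists_lift ω h2 hω (K2_le ω h2 hω hk)
      have hg : g = L ⟨y, hy⟩ * k' := coe_inj ω (by
        rw [T1_zero, mul_one] at e
        rw [Subgroup.coe_mul, Units.val_mul, hL, hk', e])
      rw [hg, inv_mul_cancel_left]
      show _ ∈ K2 ω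
      rw [hk']; exact hk
    have := Nat.card_le_card_of_surjective _ hsurj
    rwa [Nat.card_fin] at this
  refine ⟨K, ?_, fun g hg => hg, fun h4 => ?_⟩
  · have h := K.card_mul_index
    rw [card_threeJ3 ω h2 hω] at h
    have hi : K.index ≤ 6156 := hindex
    have : Nat.card K * K.index ≤ 24480 * K.index := Nat.mul_le_mul_right _ hcard
    omega
  · obtain ⟨s, hs⟩ := exists_lift ω h2 hω (mem_of_memOK ω h2 hω spec_mem.2.2.2)
    have hsK : s ∈ K := by
      show _ ∈ K2 ω
      rw [hs]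
      have h := spec_mem.2.2.2
      simp only [memOK, force_eq, Bool.and_eq_true, Nat.blt_eq, Nat.beq_eq, certS_ok] at h
      obtain ⟨⟨⟨hx, hi⟩, hj⟩, he⟩ := h
      rw [he, ev_mulN ω h2 hω, ev_mulN ω h2 hω]
      have h0 : ev ω (entry u1 162 0) = 1 := T1_zero ω
      rw [h0, one_mul]
      exact (K2 ω).mul_mem (T2_mem ω h2 hω _ hi) (K3_le ω h2 hω (T3_mem ω h2 hω _ hj))
    have hsZ : s ∈ Subgroup.center (threeJ3 F ω) :=
      center_of_scalar ω h2 hω (c := ω) (by rw [hs, ev_scal])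
    have hne : s ≠ 1 := by
      intro e
      rw [e, Subgroup.coe_one, Units.val_one, ev_scal] at hs
      have := congrFun (congrFun hs (0 : F9)) (0 : F9)
      simp at this
      exact omega_ne_one ω hω h2 this.symm
    intro g hg
    haveI : Fact (Nat.Prime 3) := ⟨by norm_num⟩
    have hs1 : (⟨s, hsZ⟩ : Subgroup.center (threeJ3 F ω)) ≠ 1 := fun e => hne (congrArg Subtype.val e)
    have := mem_zpowers_of_prime_card (card_center ω h2 hω h4) hs1 (g' := ⟨g, hg⟩)
    obtain ⟨n, hn⟩ := this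
    have hn' : s ^ n = g := congrArg Subtype.val hn
    exact hn' ▸ K.zpow_mem hsK n

theorem pr_zero : pr ω 0 = 1 := by
  obtain ⟨h0, h1, -⟩ := small_ok
  rw [pr, h0, h1, mat_id, J3Gens90.ev_one]
  rfl

theorem pr_edge : ∀ g ∈ gens2 ω, ∀ x < 4080, ∃ y < 4080, g * pr ω x = pr ω y := by
  intro g hg x hx
  have all : ∀ n < 8160, edgeOK n = true := by
    intro n hn
    by_cases h1 : n < 2100
    · exact allFrom_spec _ _ _ edge_a n (Nat.zero_le _) (by omega)
    by_cases h3 : n < 4200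
    · exact allFrom_spec _ _ _ edge_b n (by omega) (by omega)
    by_cases h4 : n < 6300
    · exact allFrom_spec _ _ _ edge_c n (by omega) (by omega)
    · exact allFrom_spec _ _ _ edge_d n (by omega) (by omega)
  rcases hg with rfl | rfl
  · have hs := all (2 * x) (by omega)
    simp only [edgeOK, force_eq, pick_even, half_even, Bool.and_eq_true, Nat.blt_eq, Nat.beq_eq] at hs
    obtain ⟨⟨hy, hc⟩, he⟩ := hs
    refine ⟨_, hy, ?_⟩
    rw [pr, pr, Prod.mk_mul_mk, ← mat_mm, ← ev_mulN ω h2 hω]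
    exact Prod.ext (congrArg mat hc) (congrArg (ev ω) he)
  · have hs := all (2 * x + 1) (by omega)
    simp only [edgeOK, force_eq, pick_odd, half_odd, Bool.and_eq_true, Nat.blt_eq, Nat.beq_eq] at hs
    obtain ⟨⟨hy, hc⟩, he⟩ := hs
    refine ⟨_, hy, ?_⟩
    rw [pr, pr, Prod.mk_mul_mk, ← mat_mm, ← ev_mulN ω h2 hω]
    exact Prod.ext (congrArg mat hc) (congrArg (ev ω) he)

theorem pr_mem : ∀ x < 4080, pr ω x ∈ Submonoid.closure (gens2 ω) := by
  refine tree_mem _ (pr ω) 4080 (pr_zero ω h2 hω) fun x hx hx0 => ?_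
  have hs := allFrom_spec _ _ _ tree_ok x (Nat.zero_le _) (by omega)
  simp only [treeCheck, force_eq, Bool.or_eq_true, Bool.and_eq_true, Nat.blt_eq, Nat.beq_eq] at hs
  obtain hs | ⟨⟨hp, hc⟩, he⟩ := hs
  · exact absurd hs hx0
  · refine ⟨(mat (cond (Nat.beq (Nat.land (entry par 16 x) 1) 0) s0 s1),
      ev ω (cond (Nat.beq (Nat.land (entry par 16 x) 1) 0) g0 g1)), Submonoid.subset_closure ?_, _, hp, ?_⟩
    swap
    · rw [pr, pr, Prod.mk_mul_mk, ← mat_mm, ← ev_mulN ω h2 hω, hc, he]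
    cases Nat.beq (Nat.land (entry par 16 x) 1) 0
    · exact Or.inr rfl
    · exact Or.inl rfl

theorem det_pr : ∀ x < 4080, (pr ω x).1.det = 1 := by
  intro x hx
  have : ∀ p ∈ Submonoid.closure (gens2 ω), p.1.det = 1 := by
    intro p hp
    induction hp using Submonoid.closure_induction with
    | mem g hg =>
      rcases hg with rfl | rfl
      · exact det_gens.1
      · exact det_gens.2
    | one => exact Matrix.det_one
    | mul a b _ _ ha hb => rw [Prod.fst_mul, Matrix.det_mul, ha, hb, one_mul]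
  exact this _ (pr_mem ω h2 hω x hx)

/-- the element of the special linear group at a place of the table -/
noncomputable def slOf (x : Fin 4080) : Matrix.SpecialLinearGroup (Fin 2) K16 :=
  ⟨(pr ω x).1, det_pr ω h2 hω x x.2⟩

theorem node (x : ℕ) (hx : x < 4080) : entry srt 16 x < 4080 ∧
    entry codes 16 (entry srt 16 x) < 65536 ∧
    (x + 1 < 4080 → entry codes 16 (entry srt 16 x) < entry codes 16 (entry srt 16 (x + 1))) ∧
    entry mats 162 x < 2 ^ 162 ∧ (x ≠ 0 → entry mats 162 x ≠ one ∧ entry mats 162 x ≠ scal ∧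
      entry mats 162 x ≠ scalTwo) := by
  have hs := allFrom_spec _ _ _ node_ok x (Nat.zero_le _) (by omega)
  simp only [nodeOK, force_eq, Bool.and_eq_true, Bool.or_eq_true, Nat.blt_eq, Nat.beq_eq,
    Bool.not_eq_true', ← Bool.not_eq_true] at hs
  exact ⟨hs.1.1.1.1, hs.1.1.1.2, fun h => hs.1.1.2.resolve_left (by omega), hs.1.2,
    fun h => ⟨(hs.2.resolve_left h).1.1, (hs.2.resolve_left h).1.2, (hs.2.resolve_left h).2⟩⟩

theorem slOf_bij : Function.Bijective (slOf ω h2 hω) := by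
  have hcard : Nat.card (Matrix.SpecialLinearGroup (Fin 2) K16) = Nat.card (Fin 4080) := by
    rw [OrthUnitarySL2.card_SL2 (q := 16) (by rw [Nat.card_eq_fintype_card, K16.card_eq]), Nat.card_fin]
    norm_num
  have mono : ∀ d i : ℕ, i + d + 1 < 4080 →
      entry codes 16 (entry srt 16 i) < entry codes 16 (entry srt 16 (i + d + 1)) := by
    intro d
    induction d with
    | zero => exact fun i hi => (node ω h2 hω i (by omega)).2.2.1 hi
    | succ d ih =>
      intro i hi
      exact lt_trans (ih i (by omega)) ((node ω h2 hω (i + d + 1) (by omega)).2.2.1 hi)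
  let r : Fin 4080 → Fin 4080 := fun x => ⟨entry srt 16 x, (node ω h2 hω x x.2).1⟩
  have hr : Function.Injective fun x => slOf ω h2 hω (r x) := by
    intro a b e
    have hm : mat (entry codes 16 (entry srt 16 a)) = mat (entry codes 16 (entry srt 16 b)) :=
      congrArg Subtype.val e
    have hv := mat_inj (node ω h2 hω a a.2).2.1 (node ω h2 hω b b.2).2.1 hm
    rcases lt_trichotomy (a : ℕ) (b : ℕ) with h | h | h
    · have hm := mono ((b : ℕ) - a - 1) a (by omega)
      rw [show (a : ℕ) + ((b : ℕ) - a - 1) + 1 = b by omega, hv] at hm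
      exact absurd hm (lt_irrefl _)
    · exact Fin.ext h
    · have hm := mono ((a : ℕ) - b - 1) b (by omega)
      rw [show (b : ℕ) + ((a : ℕ) - b - 1) + 1 = a by omega, hv] at hm
      exact absurd hm (lt_irrefl _)
  have hsurj : Function.Surjective (slOf ω h2 hω) :=
    ((Nat.bijective_iff_injective_and_card _).2 ⟨hr, hcard.symm⟩).2.of_comp (f := slOf ω h2 hω) (g := r)
  exact (Nat.bijective_iff_surjective_and_card _).2 ⟨hsurj, hcard.symm⟩

theorem gens_K2 : ev ω g0 ∈ K2 ω ∧ ev ω g1 ∈ K2 ω := by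
  obtain ⟨-, -, hi0, hj0, hi1, hj1, e0, e1, -⟩ := small_ok
  constructor
  · rw [← e0, ev_mulN ω h2 hω]
    exact (K2 ω).mul_mem (T2_mem ω h2 hω _ hi0) (K3_le ω h2 hω (T3_mem ω h2 hω _ hj0))
  · rw [← e1, ev_mulN ω h2 hω]
    exact (K2 ω).mul_mem (T2_mem ω h2 hω _ hi1) (K3_le ω h2 hω (T3_mem ω h2 hω _ hj1))

theorem pr_K2 : ∀ x < 4080, (pr ω x).2 ∈ K2 ω := by
  intro x hx
  have : ∀ p ∈ Submonoid.closure (gens2 ω), p.2 ∈ K2 ω := by
    intro p hp
    induction hp using Submonoid.closure_induction with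
    | mem g hg =>
      rcases hg with rfl | rfl
      · exact (gens_K2 ω h2 hω).1
      · exact (gens_K2 ω h2 hω).2
    | one => exact (K2 ω).one_mem
    | mul a b _ _ ha hb => exact (K2 ω).mul_mem ha hb
  exact this _ (pr_mem ω h2 hω x hx)

theorem mem_center_cases (h4 : Nat.card F = 4) {g : threeJ3 F ω} (hg : g ∈ Subgroup.center (threeJ3 F ω)) :
    ∃ c ∈ [one, scal, scalTwo], ((g : GL F9 F) : Matrix F9 F9 F) = ev ω c := by
  obtain ⟨s, hs⟩ := exists_lift ω h2 hω (mem_of_memOK ω h2 hω spec_mem.2.2.2)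
  have hsZ : s ∈ Subgroup.center (threeJ3 F ω) :=
    center_of_scalar ω h2 hω (c := ω) (by rw [hs, J3Gens90.ev_scal])
  have hs1 : (⟨s, hsZ⟩ : Subgroup.center (threeJ3 F ω)) ≠ 1 := fun e => by
    have e' : s = 1 := congrArg Subtype.val e
    rw [e', Subgroup.coe_one, Units.val_one, J3Gens90.ev_scal] at hs
    have := congrFun (congrFun hs (0 : F9)) (0 : F9)
    simp at this
    exact omega_ne_one ω hω h2 this.symm
  haveI : Fact (Nat.Prime 3) := ⟨by norm_num⟩
  have hc := card_center ω h2 hω h4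
  have hgs := mem_powers_of_prime_card hc hs1 (g' := ⟨g, hg⟩)
  obtain ⟨k, hk⟩ := hgs
  have hs3 : s ^ 3 = 1 := by
    have h : (⟨s, hsZ⟩ : Subgroup.center (threeJ3 F ω)) ^ Nat.card (Subgroup.center (threeJ3 F ω)) = 1 :=
      pow_card_eq_one'
    rw [hc] at h
    exact congrArg Subtype.val h
  have hk' : s ^ (k % 3) = g := by
    rw [← pow_eq_pow_mod k hs3]
    exact congrArg Subtype.val hk
  have hlt : k % 3 = 0 ∨ k % 3 = 1 ∨ k % 3 = 2 := by omega
  rcases hlt with h | h | h <;> rw [h] at hk' <;> subst hk'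
  · exact ⟨one, by simp, by simp [J3Gens90.ev_one]⟩
  · exact ⟨scal, by simp, by rw [pow_one, hs]⟩
  · refine ⟨scalTwo, by simp, ?_⟩
    rw [← small_ok.2.2.2.2.2.2.2.2.1, ev_mulN ω h2 hω, pow_two, Subgroup.coe_mul, Units.val_mul, hs]

theorem exists_emb (h4 : Nat.card F = 4) :
    ∃ θ : Matrix.SpecialLinearGroup (Fin 2) K16 →* threeJ3 F ω,
      (∀ A, ((θ A : GL F9 F) : Matrix F9 F9 F) ∈ K2 ω) ∧
      ∀ A, θ A ∈ Subgroup.center (threeJ3 F ω) → A = 1 := by
  classical
  let e := Equiv.ofBijective _ (slOf_bij ω h2 hω)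
  have lift : ∀ x : Fin 4080, ∃ g : threeJ3 F ω, ((g : GL F9 F) : Matrix F9 F9 F) = (pr ω x).2 :=
    fun x => exists_lift ω h2 hω (K2_le ω h2 hω (pr_K2 ω h2 hω x x.2))
  choose L hL using lift
  have hmul : ∀ A B, L (e.symm (A * B)) = L (e.symm A) * L (e.symm B) := by
    intro A B
    obtain ⟨y, hy, hxy⟩ := table_closure (gens2 ω) (pr ω) 4080 (by norm_num) (pr_zero ω h2 hω)
      (pr_edge ω h2 hω) ((Submonoid.closure (gens2 ω)).mul_mem (pr_mem ω h2 hω _ (e.symm A).2)
        (pr_mem ω h2 hω _ (e.symm B).2))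
    have hy1 : A * B = e ⟨y, hy⟩ := by
      conv_lhs => rw [← e.apply_symm_apply A, ← e.apply_symm_apply B]
      exact Subtype.ext (congrArg Prod.fst hxy)
    rw [hy1, e.symm_apply_apply]
    refine coe_inj ω ?_
    rw [Subgroup.coe_mul, Units.val_mul, hL, hL, hL, ← Prod.snd_mul, hxy]
  refine ⟨MonoidHom.mk' (fun A => L (e.symm A)) hmul, fun A => ?_, fun A hA => ?_⟩
  · show ((L (e.symm A) : GL F9 F) : Matrix F9 F9 F) ∈ K2 ω
    rw [hL]
    exact pr_K2 ω h2 hω _ (e.symm A).2
  · obtain ⟨c, hc, hceq⟩ := mem_center_cases ω h2 hω h4 hA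
    change ((L (e.symm A) : GL F9 F) : Matrix F9 F9 F) = ev ω c at hceq
    rw [hL] at hceq
    obtain ⟨-, -, -, hlt, hne⟩ := node ω h2 hω _ (e.symm A).2
    have hcb : c < 2 ^ 162 := by
      simp only [List.mem_cons, List.not_mem_nil, or_false] at hc
      rcases hc with rfl | rfl | rfl
      · exact nontrivial.2.2.2.2.2.2.2.2.2.1
      · exact nontrivial.2.2.2.2.2.2.2.2.2.2
      · exact small_ok.2.2.2.2.2.2.2.2.2.1
    have hv := ev_inj ω h2 hω hlt hcb hceq
    by_cases h0 : ((e.symm A : Fin 4080) : ℕ) = 0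
    · rw [← e.apply_symm_apply A]
      exact Subtype.ext (show (pr ω ((e.symm A : Fin 4080) : ℕ)).1 = 1 by rw [h0, pr_zero ω h2 hω]; rfl)
    · obtain ⟨n1, n2, n3⟩ := hne h0
      simp only [List.mem_cons, List.not_mem_nil, or_false] at hc
      rcases hc with rfl | rfl | rfl
      · exact absurd hv n1
      · exact absurd hv n2
      · exact absurd hv n3

/-- The special linear group over sixteen elements extended by a group of order two. -/
theorem exists_L16_two (h4 : Nat.card F = 4) :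
    ∃ (H : Subgroup (J3 F ω)) (N : Subgroup H) (K : Type) (_ : Field K) (_ : Fintype K),
      N.Normal ∧ N.index = 2 ∧ Fintype.card K = 16 ∧
      Nonempty (N ≃* Matrix.SpecialLinearGroup (Fin 2) K) := by
  obtain ⟨Ks, hK, hmem, hZ⟩ := exists_sub ω h2 hω
  obtain ⟨θ, hθK, hθ⟩ := exists_emb ω h2 hω h4
  set Z := Subgroup.center (threeJ3 F ω)
  let π : threeJ3 F ω →* J3 F ω := QuotientGroup.mk' Z
  have hinj : Function.Injective (π.comp θ) := by
    rw [← MonoidHom.ker_eq_bot_iff, eq_bot_iff]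
    intro A hA
    exact hθ A ((QuotientGroup.eq_one_iff (θ A)).1 hA)
  let H : Subgroup (J3 F ω) := Ks.map π
  have hle : (π.comp θ).range ≤ H := by
    rintro _ ⟨A, rfl⟩
    exact Subgroup.mem_map_of_mem π (hmem _ (hθK A))
  have hHidx : H.index = 6156 := by
    rw [← hK]
    exact Subgroup.index_map_eq Ks (QuotientGroup.mk'_surjective Z) (by
      rw [QuotientGroup.ker_mk']; exact hZ h4)
  have hH : Nat.card H = 8160 := by
    have h := H.card_mul_index
    rw [hHidx, card_J3 ω h2 hω h4] at h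
    omega
  let N : Subgroup H := (π.comp θ).range.subgroupOf H
  let eN : N ≃* Matrix.SpecialLinearGroup (Fin 2) K16 :=
    (Subgroup.subgroupOfEquivOfLe hle).trans (MonoidHom.ofInjective hinj).symm
  have hN : Nat.card N = 4080 := by
    rw [Nat.card_congr eN.toEquiv, ← Nat.card_congr (Equiv.ofBijective _ (slOf_bij ω h2 hω)), Nat.card_fin]
  have hidx : N.index = 2 := by
    have h := N.card_mul_index
    rw [hN, hH] at h
    omega
  exact ⟨H, N, K16, inferInstance, inferInstance, Subgroup.normal_of_index_eq_two hidx, hidx, K16.card_eq, ⟨eN⟩⟩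

/-- Only the identity of odd order 17 commutes with the element of order 19. -/
theorem eq_one_of_commute_genA (h4 : Nat.card F = 4) {Y : Matrix F9 F9 F}
    (hc : Y * ev ω genA = ev ω genA * Y) (h17 : Y ^ 17 = 1) : Y = 1 := by
  classical
  haveI := Fintype.ofFinite F
  haveI : CharP F 2 := (CharP.charP_iff_prime_eq_zero Nat.prime_two).2 (by exact_mod_cast h2)
  haveI : CharP (Matrix F9 F9 F) 2 := Matrix.charP 2
  haveI : Fact (Nat.Prime 2) := ⟨Nat.prime_two⟩
  set a := ev ω genA with ha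
  set Kc := ev ω cyc with hKc
  set B := ev ω cycInv with hB
  have hBK : B * Kc = 1 := by
    rw [hB, hKc, ← ev_mulN ω h2 hω, small_ok.2.2.2.2.2.2.2.2.2.2, J3Gens90.ev_one]
  have hKB : Kc * B = 1 := mul_eq_one_comm.1 hBK
  have hcol : ∀ w i : F9, Kc w i = (a ^ (ix i : ℕ)) w 0 := by
    intro w i
    rw [ha, ← ev_powN ω h2 hω, hKc, J3Gens90.ev_apply, J3Gens90.ev_apply, cyc_bits]
  set d := B.mulVec fun w => Y w 0 with hd
  set p : Matrix F9 F9 F := ∑ i, d i • a ^ (ix i : ℕ) with hp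
  have hp0 : ∀ w, p w 0 = Y w 0 := by
    intro w
    have e : Kc.mulVec d w = Y w 0 := by
      rw [hd, Matrix.mulVec_mulVec, hKB, Matrix.one_mulVec]
    rw [hp, Matrix.sum_apply, ← e, Matrix.mulVec, dotProduct]
    refine Finset.sum_congr rfl fun i _ => ?_
    rw [Matrix.smul_apply, hcol, smul_eq_mul, mul_comm]
  have hpa : Commute p a := by
    rw [hp]
    exact Commute.sum_left _ _ _ fun i _ => ((Commute.refl a).pow_left _).smul_left _
  have key : Y * Kc = p * Kc := by
    ext w i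
    have hYa : Commute Y (a ^ (ix i : ℕ)) := (show Commute Y a from hc).pow_right _
    calc (Y * Kc) w i = (Y * a ^ (ix i : ℕ)) w 0 := by simp only [Matrix.mul_apply, hcol]
      _ = (a ^ (ix i : ℕ) * Y) w 0 := by rw [hYa.eq]
      _ = (a ^ (ix i : ℕ) * p) w 0 := by simp only [Matrix.mul_apply, hp0]
      _ = (p * a ^ (ix i : ℕ)) w 0 := by rw [(hpa.pow_right _).eq]
      _ = (p * Kc) w i := by simp only [Matrix.mul_apply, hcol]
  have hYp : Y = p := by
    calc Y = Y * Kc * B := by rw [mul_assoc, hKB, mul_one]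
      _ = p * Kc * B := by rw [key]
      _ = p := by rw [mul_assoc, hKB, mul_one]
  have hd4 : ∀ x : F, x ^ 2 ^ 18 = x := by
    intro x
    have h := FiniteField.pow_card_pow 9 x
    rw [← Nat.card_eq_fintype_card, h4] at h
    rwa [show (2 : ℕ) ^ 18 = 4 ^ 9 by norm_num]
  have ha19 : a ^ 19 = 1 := genA_pow ω h2 hω
  have hpow : p ^ 2 ^ 18 = p := by
    have key : ∀ s : Finset F9, Commute (∑ i ∈ s, d i • a ^ (ix i : ℕ)) a ∧
        (∑ i ∈ s, d i • a ^ (ix i : ℕ)) ^ 2 ^ 18 = ∑ i ∈ s, d i • a ^ (ix i : ℕ) := by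
      intro s
      induction s using Finset.induction_on with
      | empty => exact ⟨by simp, by rw [Finset.sum_empty, zero_pow (by norm_num)]⟩
      | insert i s hi ih =>
        rw [Finset.sum_insert hi]
        have ht : Commute (d i • a ^ (ix i : ℕ)) a := ((Commute.refl a).pow_left _).smul_left _
        refine ⟨ht.add_left ih.1, ?_⟩
        have hcm : Commute (d i • a ^ (ix i : ℕ)) (∑ j ∈ s, d j • a ^ (ix j : ℕ)) :=
          ((ih.1.symm).pow_left _).smul_left _
        rw [add_pow_char_pow_of_commute (p := 2) (n := 18) hcm, ih.2, smul_pow, hd4, ← pow_mul]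
        congr 2
        rw [pow_eq_pow_mod _ ha19, pow_eq_pow_mod (ix i : ℕ) ha19, Nat.mul_mod,
          show (2 : ℕ) ^ 18 % 19 = 1 by norm_num, mul_one, Nat.mod_mod]
    exact (key Finset.univ).2
  rw [hYp] at h17 ⊢
  have h3 : p ^ 2 ^ 18 = p ^ 4 := by
    rw [pow_eq_pow_mod _ h17, show (2 : ℕ) ^ 18 % 17 = 4 by norm_num]
  rw [hpow] at h3
  have h51 : p ^ 16 * p ^ 4 = p ^ 16 * p := by rw [← h3]
  rw [← pow_add, ← pow_succ, show 16 + 4 = 17 + 3 from rfl, pow_add, h17, one_mul] at h51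
  calc p = p ^ 18 := by rw [pow_succ, h17, one_mul]
    _ = (p ^ 3) ^ 6 := by rw [← pow_mul]
    _ = 1 := by rw [h51, one_pow]

/-- No element has order 323. -/
theorem no_323 (h4 : Nat.card F = 4) : ∀ g : J3 F ω, orderOf g ≠ 323 := by
  classical
  haveI : Fact (Nat.Prime 19) := ⟨by norm_num⟩
  intro g hg
  set Z := Subgroup.center (threeJ3 F ω)
  let π : threeJ3 F ω →* J3 F ω := QuotientGroup.mk' Z
  obtain ⟨A, hA⟩ := exists_lift ω h2 hω (m := ev ω genA) (Submonoid.subset_closure (Or.inl rfl))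
  have hcard := card_J3 ω h2 hω h4
  have hZ3 : Nat.card Z = 3 := card_center ω h2 hω h4
  have hZpow : ∀ z ∈ Z, z ^ 3 = 1 := fun z hz => by
    have h : (⟨z, hz⟩ : Z) ^ Nat.card Z = 1 := pow_card_eq_one'
    rw [hZ3] at h
    exact congrArg Subtype.val h
  have hA19 : A ^ 19 = 1 := coe_inj ω (by simp [hA, genA_pow ω h2 hω])
  have hπA : π A ≠ 1 := fun e => by
    have h1 := hZpow A ((QuotientGroup.eq_one_iff A).1 e)
    have h : A = A ^ 19 * ((A ^ 3) ^ 6)⁻¹ := by group
    rw [hA19, h1, one_pow, inv_one, mul_one] at h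
    rw [h, Subgroup.coe_one, Units.val_one, ← J3Gens90.ev_one ω] at hA
    exact nontrivial.1 (ev_inj ω h2 hω nontrivial.2.2.2.2.2.1 nontrivial.2.2.2.2.2.2.2.2.2.1 hA.symm)
  have oA : orderOf (π A) = 19 := orderOf_eq_prime (by rw [← map_pow, hA19, map_one]) hπA
  set x := g ^ 17 with hx
  have ox : orderOf x = 19 := by
    rw [hx, orderOf_pow, hg]
    norm_num
  have hsyl : ∀ u : J3 F ω, orderOf u = 19 → ∃ P : Sylow 19 (J3 F ω), (P : Subgroup (J3 F ω)) = Subgroup.zpowers u := by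
    intro u hu
    refine ⟨Sylow.ofCard (Subgroup.zpowers u) ?_, Sylow.coe_ofCard _ _⟩
    rw [Nat.card_zpowers, hu, hcard, show (50232960 : ℕ) = 19 * 2643840 by norm_num,
      Nat.factorization_mul (by norm_num) (by norm_num), Finsupp.add_apply,
      Nat.Prime.factorization_self (by norm_num), Nat.factorization_eq_zero_of_not_dvd (by norm_num), add_zero, pow_one]
  obtain ⟨P, hP⟩ := hsyl x ox
  obtain ⟨Q, hQ⟩ := hsyl (π A) oA
  obtain ⟨k, hk⟩ := MulAction.exists_smul_eq (J3 F ω) P Q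
  have hAmem : π A ∈ Subgroup.zpowers (k * x * k⁻¹) := by
    have h1 : π A ∈ (Q : Subgroup (J3 F ω)) := hQ ▸ Subgroup.mem_zpowers _
    rw [← hk, Sylow.coe_subgroup_smul] at h1
    obtain ⟨u, hu, e⟩ := h1
    rw [hP] at hu
    obtain ⟨n, rfl⟩ := hu
    refine ⟨n, ?_⟩
    rw [← e]
    show (k * x * k⁻¹) ^ n = k * x ^ n * k⁻¹
    rw [conj_zpow]
  set y := k * g ^ 19 * k⁻¹ with hy
  have oy : orderOf y = 17 := by
    rw [hy, ← MulAut.conj_apply, MulEquiv.orderOf_eq, orderOf_pow, hg]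
    norm_num
  have hyA : Commute y (π A) := by
    obtain ⟨n, hn⟩ := hAmem
    rw [← hn]
    refine Commute.zpow_right ?_ n
    rw [hy, hx]
    show k * g ^ 19 * k⁻¹ * (k * g ^ 17 * k⁻¹) = k * g ^ 17 * k⁻¹ * (k * g ^ 19 * k⁻¹)
    group
  obtain ⟨Y0, hY0⟩ := QuotientGroup.mk'_surjective Z y
  have hY17 : Y0 ^ 17 ∈ Z := by
    rw [← QuotientGroup.eq_one_iff]
    show π (Y0 ^ 17) = 1
    rw [map_pow, show π Y0 = y from hY0, ← oy, pow_orderOf_eq_one]
  set Y := Y0 ^ 3 with hYdef
  have hYp : Y ^ 17 = 1 := by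
    rw [hYdef, ← pow_mul, mul_comm, pow_mul, hZpow _ hY17]
  set c := Y * A * Y⁻¹ * A⁻¹ with hc
  have hcZ : c ∈ Z := by
    rw [← QuotientGroup.eq_one_iff]
    show π c = 1
    have e : π Y * π A = π A * π Y := by
      rw [hYdef, map_pow, show π Y0 = y from hY0]
      exact (hyA.pow_left 3).eq
    rw [hc, map_mul, map_mul, map_mul, map_inv, map_inv, e]
    group
  have hcA : c * A = Y * A * Y⁻¹ := by rw [hc]; group
  have hc19 : c ^ 19 = 1 := by
    have hcc : Commute c A := (Subgroup.mem_center_iff.1 hcZ A).symm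
    have h := hcc.mul_pow 19
    rw [hA19, mul_one, hcA, conj_pow, hA19, mul_one, mul_inv_cancel] at h
    exact h.symm
  have hc1 : c = 1 := by
    have h : c = c ^ 19 * ((c ^ 3) ^ 6)⁻¹ := by group
    rw [h, hc19, hZpow _ hcZ]; simp
  rw [hc1, one_mul] at hcA
  have hYA : Y * A = A * Y := by
    conv_rhs => rw [hcA]
    group
  have hY1 : Y = 1 := by
    refine coe_inj ω ?_
    rw [Subgroup.coe_one, Units.val_one]
    refine eq_one_of_commute_genA ω h2 hω h4 ?_ ?_
    · rw [← hA, ← Units.val_mul, ← Subgroup.coe_mul, hYA, Subgroup.coe_mul, Units.val_mul]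
    · rw [← Units.val_pow_eq_pow_val, ← Subgroup.coe_pow, hYp, Subgroup.coe_one, Units.val_one]
  have : y ^ 3 = 1 := by
    rw [show y = π Y0 from hY0.symm, ← map_pow, ← hYdef, hY1, map_one]
  have := orderOf_dvd_of_pow_eq_one this
  rw [oy] at this
  norm_num at this

end

end Cfsg.Agent.J3SubL16_22
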