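import Cfsg.Agent.Lib.J3Sylow9
import Cfsg.Agent.Lib.J3Norm19_9

/-! Sylow subgroups for seventeen and nineteen in a group of J₃ type, from order and identification. -/

set_option autoImplicit false

namespace Cfsg.Agent.J3SylowMain9

open Subgroup J3Local9

variable {G : Type*} [Group G] [Finite G] {t : G} {E A : Subgroup ↥(centralizer ({t} : Set G))}

theorem factorization_two : Nat.factorization 50232960 2 = 7 := by
  rw [show (50232960 : ℕ) = 2 ^ 7 * 392445 by norm_num,
    Nat.factorization_mul (by norm_num) (by norm_num), Finsupp.add_apply, Nat.Prime.factorization_pow Nat.prime_two,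
    Finsupp.single_eq_same, Nat.factorization_eq_zero_of_not_dvd (by norm_num)]

theorem main [IsSimpleGroup G] (S : Setting t E A) (hJ : Cfsg.IsJ3 G)
    (hiso : Cfsg.Spor.IsoJ3 G) :
    (∀ X : Sylow 19 G, centralizer ((X : Subgroup G) : Set G) = X ∧
        ∃ h : ((X : Subgroup G).subgroupOf (normalizer ((X : Subgroup G) : Set G))).Normal,
          IsCyclic (↥(normalizer ((X : Subgroup G) : Set G)) ⧸ (X : Subgroup G).subgroupOf _) ∧
          Nat.card (↥(normalizer ((X : Subgroup G) : Set G)) ⧸ (X : Subgroup G).subgroupOf _) = 9) ∧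
    (∀ Y : Sylow 17 G, centralizer ((Y : Subgroup G) : Set G) = Y ∧
        ∃ h : ((Y : Subgroup G).subgroupOf (normalizer ((Y : Subgroup G) : Set G))).Normal,
          IsCyclic (↥(normalizer ((Y : Subgroup G) : Set G)) ⧸ (Y : Subgroup G).subgroupOf _) ∧
          Nat.card (↥(normalizer ((Y : Subgroup G) : Set G)) ⧸ (Y : Subgroup G).subgroupOf _) = 8) := by
  haveI : Fact (Nat.Prime 17) := ⟨by norm_num⟩
  haveI : Fact (Nat.Prime 19) := ⟨by norm_num⟩
  constructor
  · intro X
    obtain ⟨h1, h2⟩ := J3Sylow9.nineteen S hJ.2 (J3Norm19_9.exists_pair_of_iso hiso) X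
    exact J3Sylow9.finish X (J3Sylow9.card_sylow hJ.2 (Or.inr rfl) X) h1 h2
  · intro Y
    obtain ⟨h1, h2⟩ := J3Sylow9.seventeen S hJ.2 Y
    exact J3Sylow9.finish Y (J3Sylow9.card_sylow hJ.2 (Or.inl rfl) Y) h1 h2

/-- The extra hypotheses of the identification theorem. -/
theorem side_facts [IsSimpleGroup G] (S : Setting t E A) (hJ : Cfsg.IsJ3 G) :
    (∀ U : Subgroup ↥E, Cfsg.IsElementaryAbelian 2 U → Nat.card U ≤ 2 ^ 2) ∧
      centralizer (E : Set ↥(centralizer ({t} : Set G))) ≤ E := by
  have h7 : (Nat.card G).factorization 2 = 7 := by rw [hJ.2, factorization_two]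
  exact ⟨minus_type S h7, centralizer_le S h7⟩

end Cfsg.Agent.J3SylowMain9
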