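import Cfsg.Agent.Lib.J3Bridge93
import Cfsg.Agent.Lib.J3Flip93
import Cfsg.Agent.Lib.J3CentX9
import Cfsg.Agent.Lib.J3Cases93

/-!
# Recognition of the third Janko group, assembled from the local theory and the certificates
-/

set_option autoImplicit false

namespace Cfsg.Agent.J3Top93

open Subgroup Cfsg.Agent.J3TypePoints93 Cfsg.Agent.J3TypeAction93 Cfsg.Agent.J3Setup93
open Cfsg.Agent.J3Rels93 Cfsg.Agent.J3Keys93 Cfsg.Agent.J3Glue93 Cfsg.Agent.J3Flip93
open Cfsg.Agent.J3Images93 Cfsg.Agent.J3Bridge93 Cfsg.Agent.J3Collapse93Core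
open Cfsg.Spor (threeJ3)

universe w

theorem gl_inv {G : Type*} [Group G] (z : G) (a : Fin 5 → G) (x u v h o : G) (c : ℕ) :
    gl z a x u v h o (Nat.xor c 1) = (gl z a x u v h o c)⁻¹ := by
  by_cases hc : c < 14
  · interval_cases c <;> first | rfl | exact (inv_inv _).symm
  · have h2 : (c ^^^ 1) / 2 = c / 2 := by rw [Nat.xor_div_two]; simp
    have h1 : 14 ≤ Nat.xor c 1 := by
      show 14 ≤ c ^^^ 1
      omega
    simp only [gl]
    rw [List.getD_eq_default _ _ (show _ ≤ Nat.xor c 1 by simpa using h1),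
      List.getD_eq_default _ _ (show _ ≤ c by simpa using Nat.le_of_not_lt hc), inv_one]

theorem gl_big {G : Type*} [Group G] (z : G) (a : Fin 5 → G) (x u v h o : G) (c : ℕ)
    (hc : 14 ≤ c) : gl z a x u v h o c = 1 := by
  simp only [gl]
  exact List.getD_eq_default _ _ (by simpa using hc)

variable {G : Type w} [Group G] [Finite G] {Q : Subgroup G} {z : G} {a : Fin 5 → G}
variable {x u v h : G}

/-- The first twelve letters lie in `C(z)`. -/
theorem gl_mem (S : Gens Q z a x u v h) (o : G) (i : ℕ) (hi : i < 12) :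
    gl z a x u v h o i ∈ centralizer ({z} : Set G) := by
  have hz : ∀ {k : G}, k * z = z * k → k ∈ centralizer ({z} : Set G) := fun e =>
    mem_centralizer_singleton_iff.2 e
  have ha : a 1 ∈ centralizer ({z} : Set G) := hz (J3Rels93.az S 1)
  interval_cases i <;> first
    | exact hz rfl
    | exact inv_mem (hz rfl)
    | exact ha
    | exact inv_mem ha
    | exact hz S.ex.1
    | exact inv_mem (hz S.ex.1)
    | exact hz S.eu.1
    | exact inv_mem (hz S.eu.1)
    | exact hz S.ev.1
    | exact inv_mem (hz S.ev.1)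
    | exact hz S.eh.1
    | exact inv_mem (hz S.eh.1)

/-- `z, a 1, x, u, v, h` generate `C(z)`. -/
theorem cent_le (S : Gens Q z a x u v h) {L : Subgroup G} (hz : z ∈ L) (ha : a 1 ∈ L) (hx : x ∈ L)
    (hu : u ∈ L) (hv : v ∈ L) (hh : h ∈ L) : centralizer ({z} : Set G) ≤ L := by
  have ha0 : a 0 ∈ L := a0_conj S ▸ mul_mem (mul_mem (inv_mem hh) ha) hh
  have hconj : ∀ {g : G} {σ : Equiv.Perm (Fin 5)} (p q : Fin 5), g ∈ L → Exact z a g σ → σ p = q →
      a p ∈ L → a q ∈ L := fun {g σ} p q hg he e hp => by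
    rw [← e, ← he.2 p]
    exact mul_mem (mul_mem hg hp) (inv_mem hg)
  have ha2 : a 2 ∈ L := hconj 1 2 hu S.eu (by decide +kernel) ha
  have ha3 : a 3 ∈ L := hconj 1 3 hv S.ev (by decide +kernel) ha
  have ha4 : a 4 ∈ L := hconj 2 4 hv S.ev (by decide +kernel) ha2
  have hap : ∀ p, a p ∈ L := fun p => by fin_cases p <;> assumption
  have hQ : Q ≤ L := fun y hy => by
    obtain ⟨w, e | e⟩ := exists_word S.hJ S.pts hy
    all_goals
      have hw : word a w ∈ L := by
        rcases w with _ | l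
        · exact one_mem L
        · show (if l.1.1 = l.1.2 then a l.1.1 else a l.1.1 * a l.1.2) ∈ L
          split_ifs
          exacts [hap _, mul_mem (hap _) (hap _)]
      rw [e]
    exacts [hw, mul_mem hz hw]
  let P : Subgroup (Equiv.Perm (Fin 5)) :=
    { carrier := {σ | ∃ g ∈ L, Acts z a g σ}
      mul_mem' := fun ⟨g, hg, eg⟩ ⟨k, hk, ek⟩ =>
        ⟨g * k, mul_mem hg hk, acts_mul S.hJ S.pts eg ek⟩
      one_mem' := ⟨1, one_mem L, acts_one S.hJ S.pts⟩
      inv_mem' := fun ⟨g, hg, eg⟩ => ⟨g⁻¹, inv_mem hg, acts_inv S.hJ S.pts eg⟩ }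
  have gen : ∀ {g : G} {σ : Equiv.Perm (Fin 5)}, g ∈ L → Exact z a g σ → σ ∈ P :=
    fun {g σ} hg he => ⟨g, hg, he.1, fun p => Or.inl (he.2 p)⟩
  have pu : σu ∈ P := gen hu S.eu
  have pv : σv ∈ P := gen hv S.ev
  have px : σx ∈ P := gen hx S.ex
  have p5 : σu * σh ∈ P ∧ σv * σu * σh ∈ P :=
    ⟨mul_mem pu (gen hh S.eh), mul_mem (mul_mem pv pu) (gen hh S.eh)⟩
  have hle : P ≤ alternatingGroup (Fin 5) := fun σ ⟨g, _, eg⟩ =>
    Equiv.Perm.mem_alternatingGroup.2 (S.even g σ eg)
  have d3 : 3 ∣ Nat.card ↥P := by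
    have : orderOf σx = 3 :=
      orderOf_eq_prime (by decide +kernel) (by decide +kernel)
    have h := orderOf_dvd_natCard (⟨σx, px⟩ : ↥P)
    rwa [Subgroup.orderOf_mk, this] at h
  have d5 : 5 ∣ Nat.card ↥P := by
    haveI : Fact (Nat.Prime 5) := ⟨by norm_num⟩
    have : orderOf (σv * σu * σh) = 5 :=
      orderOf_eq_prime (by decide +kernel) (by decide +kernel)
    have h := orderOf_dvd_natCard (⟨σv * σu * σh, p5.2⟩ : ↥P)
    rwa [Subgroup.orderOf_mk, this] at h
  have d4 : 4 ∣ Nat.card ↥P := by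
    classical
    set V4 : Subgroup (Equiv.Perm (Fin 5)) :=
      { carrier := {1, σu, σv, σu * σv}
        mul_mem' := fun {p q} hp hq => by
          simp only [Set.mem_insert_iff, Set.mem_singleton_iff] at hp hq ⊢
          rcases hp with rfl | rfl | rfl | rfl <;> rcases hq with rfl | rfl | rfl | rfl <;>
            decide +kernel
        one_mem' := Or.inl rfl
        inv_mem' := fun {p} hp => by
          simp only [Set.mem_insert_iff, Set.mem_singleton_iff] at hp ⊢
          rcases hp with rfl | rfl | rfl | rfl <;> decide +kernel }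
    have hc : Nat.card ↥V4 = 4 := by
      rw [Nat.card_eq_fintype_card,
        Fintype.card_of_subtype ({1, σu, σv, σu * σv} : Finset (Equiv.Perm (Fin 5))) fun p => by
          simp only [Finset.mem_insert, Finset.mem_singleton]
          exact Iff.rfl]
      decide +kernel
    rw [← hc]
    refine Subgroup.card_dvd_of_le ?_
    rintro p (rfl | rfl | rfl | rfl)
    exacts [one_mem _, pu, pv, mul_mem pu pv]
  have h60 : Nat.card ↥(alternatingGroup (Fin 5)) = 60 := by
    rw [nat_card_alternatingGroup, Nat.card_fin]; rfl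
  have hP : P = alternatingGroup (Fin 5) := by
    refine Subgroup.eq_of_le_of_card_ge hle ?_
    rw [h60]
    exact Nat.le_of_dvd Nat.card_pos (Nat.Coprime.mul_dvd_of_dvd_of_dvd (by norm_num : Nat.Coprime 12 5)
      (Nat.Coprime.mul_dvd_of_dvd_of_dvd (by norm_num : Nat.Coprime 4 3) d4 d3) d5)
  intro g hg
  obtain ⟨σ, hσ⟩ := exists_acts S.hJ S.pts (mem_centralizer_singleton_iff.1 hg)
  obtain ⟨k, hk, ek⟩ : σ ∈ P := hP ▸ Equiv.Perm.mem_alternatingGroup.2 (S.even g σ hσ)
  have h1 : Acts z a (g * k⁻¹) 1 := by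
    have := acts_mul S.hJ S.pts hσ (acts_inv S.hJ S.pts ek)
    rwa [mul_inv_cancel] at this
  have := mul_mem (hQ (S.mem_Q _ h1)) hk
  rwa [inv_mul_cancel_right] at this

/-- The generated subgroup is an image of the triple cover. -/
def Onto (Q : Subgroup G) (z : G) : Prop :=
  ∀ (a : Fin 5 → G) (x u v h o : G), Gens Q z a x u v h → Oct z a x u v o →
    (∀ r ∈ relsAll, wval (gl z a x u v h o) r = 1) →
      ∀ (F : Type) [Field F] [Finite F] (ω : F), (2 : F) = 0 → ω ^ 2 + ω + 1 = 0 →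
        ∃ f : threeJ3 F ω →* G, f.range = closure (Set.range (gl z a x u v h o))

/-- The recognition, given the certificates. -/
theorem recognition (hJ : Hyp Q z)
    (hGO : ∃ a x u v h o, Gens Q z a x u v h ∧ Oct z a x u v o) (hOnto : Onto Q z) :
    Cfsg.Spor.IsoJ3 G := by
  obtain ⟨a, x, u, v, h, o, S, O⟩ := hGO
  obtain ⟨a, h, N⟩ := exists_normal S O fun a h S' O' => J3CentX9.cent_data S' O'
  obtain ⟨K, _, φ, χ, D, hK, hinv⟩ := N.cent
  obtain ⟨c, hc, hcw⟩ := case_rels N.gens N.oct D hK hinv J3Cases93.cases J3Cases93.balanced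
    fun m hm => ⟨J3Cases93.cover6 m hm, J3Cases93.cover7 m hm⟩
  set g := gl z a x u v h o
  have hrels : ∀ r ∈ relsH ++ relsO ++ c.2.map (expand (c.1.getD 0)), wval g r = 1 := by
    intro r hr
    rcases List.mem_append.1 hr with hr | hr
    · rcases List.mem_append.1 hr with hr | hr
      exacts [relsH_hold N.gens o r hr, relsO_hold N.gens N.oct r hr]
    · obtain ⟨w, hw, rfl⟩ := List.mem_map.1 hr
      exact hcw w hw
  by_cases he : c = (some 1, relsMain)
  swap
  · exfalso
    have hmem := J3Cases93.collapse c hc he G g (gl_inv z a x u v h o) hrels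
    have hle : closure (g '' Set.Iio 12) ≤ centralizer ({z} : Set G) := by
      refine (closure_le _).2 ?_
      rintro _ ⟨i, hi, rfl⟩
      exact gl_mem N.gens o i hi
    have hoC : g 12 * z = z * g 12 := mem_centralizer_singleton_iff.1 (hle hmem)
    have e : o * z * o⁻¹ = z := by
      show g 12 * z * (g 12)⁻¹ = z
      rw [hoC, mul_inv_cancel_right]
    rw [N.oct.oz] at e
    exact (N.gens.pts.ne 0).1 (mul_eq_left.1 e)
  subst he
  let ι : Type := GaloisField 2 2
  haveI : Finite ι := inferInstanceAs (Finite (GaloisField 2 2))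
  have h4 : Nat.card ι = 4 := GaloisField.card 2 2 two_ne_zero
  have h2 : (2 : ι) = 0 := CharP.cast_eq_zero ι 2
  obtain ⟨ω, hω⟩ : ∃ ω : ι, ω ^ 2 + ω + 1 = 0 := by
    classical
    haveI := Fintype.ofFinite ι
    obtain ⟨ω, hω1⟩ : ∃ ω : ι, ω ≠ 0 ∧ ω ≠ 1 := by
      by_contra hcon
      push Not at hcon
      have hle : (Finset.univ : Finset ι) ⊆ {0, 1} := fun b _ => by
        by_cases hb : b = 0
        · simp [hb]
        · simp [hcon b hb]
      have := (Finset.card_le_card hle).trans Finset.card_le_two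
      rw [Finset.card_univ, ← Nat.card_eq_fintype_card, h4] at this
      omega
    refine ⟨ω, ?_⟩
    have hp : ω ^ 4 = ω := by
      have := FiniteField.pow_card ω
      rwa [← Nat.card_eq_fintype_card, h4] at this
    have e : (ω * (ω - 1)) * (ω ^ 2 + ω + 1) = 0 := by linear_combination hp
    rcases mul_eq_zero.1 e with e | e
    · rcases mul_eq_zero.1 e with e | e
      exacts [absurd e hω1.1, absurd (sub_eq_zero.1 e) hω1.2]
    · exact e
  obtain ⟨f, hf⟩ := hOnto a x u v h o N.gens N.oct hrels ι ω h2 hω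
  have hzo : orderOf z = 2 := orderOf_eq_prime (by rw [pow_two]; exact hJ.l.zz) hJ.l.ne_one
  have hC : centralizer ({z} : Set G) ≤ f.range := by
    rw [hf]
    exact cent_le N.gens (subset_closure ⟨0, rfl⟩) (subset_closure ⟨2, rfl⟩)
      (subset_closure ⟨4, rfl⟩) (subset_closure ⟨6, rfl⟩) (subset_closure ⟨8, rfl⟩)
      (subset_closure ⟨10, rfl⟩)
  have hcc : ∀ c : G, (∀ d ∈ centralizer ({z} : Set G), c * d = d * c) → c * c = 1 := fun c hcd => by
    rcases hJ.l.cent c fun d hd => hcd d (Q_le_H hJ hd) with e | e <;> rw [e]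
    · exact one_mul 1
    · exact hJ.l.zz
  obtain ⟨e⟩ := iso_of_onto ω h2 hω h4 hzo (fun t ht => hJ.one z t hzo ht) (card_H hJ) hcc f hC
  haveI := Fintype.ofFinite ι
  exact ⟨ι, inferInstance, inferInstance, ω, by rw [← Nat.card_eq_fintype_card, h4], hω, ⟨e⟩⟩

end Cfsg.Agent.J3Top93
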