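import Cfsg.Agent.Lib.J3TypePoints93

/-!
# Groups of J₃ type: words in the five points and the action of `C(z)`

Every element of `Q` is, up to `z`, `1`, `a p` or `a p * a q`, recognised by the set of points it
moves; `C(z) / Q` is the alternating group of the five points.
-/

set_option autoImplicit false

namespace Cfsg.Agent.J3TypeAction93

open Subgroup Cfsg.Agent.LargeExtraspecial Cfsg.Agent.J3TypePoints93

variable {G : Type*} [Group G] [Finite G] {Q : Subgroup G} {z : G} {a : Fin 5 → G}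

/-- `x` belongs to the pair of the point `p`. -/
def Same (z : G) (a : Fin 5 → G) (x : G) (p : Fin 5) : Prop := x = a p ∨ x = z * a p

/-- `h` centralises `z` and permutes the five pairs by `σ`. -/
def Acts (z : G) (a : Fin 5 → G) (h : G) (σ : Equiv.Perm (Fin 5)) : Prop :=
  h * z = z * h ∧ ∀ p, Same z a (h * a p * h⁻¹) (σ p)

/-- `s` is the set of points moved by `y`. -/
def Sig (z : G) (a : Fin 5 → G) (y : G) (s : Fin 5 → Bool) : Prop :=
  ∀ r, y * a r * y⁻¹ = if s r then z * a r else a r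

/-- Words. -/
abbrev W := Option {l : Fin 5 × Fin 5 // l.1 ≤ l.2}

/-- The element of a word. -/
def word (a : Fin 5 → G) : W → G
  | none => 1
  | some l => if l.1.1 = l.1.2 then a l.1.1 else a l.1.1 * a l.1.2

/-- The points moved by a word. -/
def wsig : W → Fin 5 → Bool
  | none => fun _ => false
  | some l => fun r => if l.1.1 = l.1.2 then decide (r ≠ l.1.1) else
      decide (r = l.1.1 ∨ r = l.1.2)

section

variable (hJ : Hyp Q z) (P : Pts Q z a)
include hJ P

theorem same_inj {x : G} {p q : Fin 5} (hp : Same z a x p) (hq : Same z a x q) : p = q := by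
  by_contra hne
  have h := hJ.l.toExt
  have e := P.anti p q hne
  have key : a p = a q ∨ a p = z * a q := by
    rcases hp with rfl | rfl <;> rcases hq with e' | e'
    · exact Or.inl e'
    · exact Or.inr e'
    · right; rw [← e', h.z_mul_z_mul]
    · exact Or.inl (mul_left_cancel e')
  refine h.z_mul_ne (a q) (e.symm.trans (mul_inv_eq_iff_eq_mul.mpr ?_))
  rcases key with k | k
  · rw [k]
  · rw [k, ← mul_assoc (a q), h.comm _ (P.mem q)]

theorem conj_sq_one {h : G} {x : G} (hx : x * x = 1) : h * x * h⁻¹ * (h * x * h⁻¹) = 1 := by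
  rw [show h * x * h⁻¹ * (h * x * h⁻¹) = h * (x * x) * h⁻¹ by group, hx]; group

theorem exists_same {h : G} (hh : h * z = z * h) (p : Fin 5) :
    ∃ q, Same z a (h * a p * h⁻¹) q := by
  rcases P.inv_cases _ (norm_Q hJ hh _ (P.mem p)) (conj_sq_one hJ P (P.sq p)) with e | e | ⟨q, e⟩
  · exact absurd (conj_eq_one_iff.1 e) (P.ne p).1
  · refine absurd ?_ (P.ne p).2
    have e' := mul_inv_eq_iff_eq_mul.1 e
    rw [← hh] at e'
    exact mul_left_cancel e'
  · exact ⟨q, e⟩

theorem conj_same {h : G} (hh : h * z = z * h) {x y : G} {q : Fin 5} (hx : Same z a x q)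
    (e : h * a q * h⁻¹ = y ∨ h * a q * h⁻¹ = z * y) :
    h * x * h⁻¹ = y ∨ h * x * h⁻¹ = z * y := by
  have e1 : h * (z * a q) * h⁻¹ = z * (h * a q * h⁻¹) := by
    rw [← mul_assoc h z, hh]; group
  rcases hx with rfl | rfl
  · exact e
  · rw [e1]
    rcases e with e' | e' <;> rw [e']
    · exact Or.inr rfl
    · exact Or.inl (hJ.l.z_mul_z_mul y)

theorem acts_one : Acts z a 1 1 := ⟨by simp, fun p => Or.inl (by simp)⟩

theorem acts_mul {g h : G} {σ τ : Equiv.Perm (Fin 5)} (hg : Acts z a g σ) (hh : Acts z a h τ) :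
    Acts z a (g * h) (σ * τ) := by
  refine ⟨((show Commute g z from hg.1).mul_left hh.1).eq, fun p => ?_⟩
  rw [show g * h * a p * (g * h)⁻¹ = g * (h * a p * h⁻¹) * g⁻¹ by group]
  exact conj_same hJ P hg.1 (hh.2 p) (hg.2 (τ p))

theorem acts_unique {h : G} {σ τ : Equiv.Perm (Fin 5)} (h1 : Acts z a h σ) (h2 : Acts z a h τ) :
    σ = τ :=
  Equiv.ext fun p => same_inj hJ P (h1.2 p) (h2.2 p)

theorem acts_inv {h : G} {σ : Equiv.Perm (Fin 5)} (h1 : Acts z a h σ) : Acts z a h⁻¹ σ⁻¹ := by
  refine ⟨(show Commute h z from h1.1).inv_left.eq, fun p => ?_⟩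
  obtain ⟨q, hq⟩ := exists_same hJ P (show Commute h z from h1.1).inv_left.eq p
  have h3 := conj_same hJ P h1.1 hq (h1.2 q)
  rw [show h * (h⁻¹ * a p * h⁻¹⁻¹) * h⁻¹ = a p by group] at h3
  have := same_inj hJ P (Or.inl rfl : Same z a (a p) p) h3
  rw [show σ⁻¹ p = q by rw [this, ← Equiv.Perm.mul_apply, inv_mul_cancel, Equiv.Perm.one_apply]]
  exact hq

theorem acts_pow {h : G} {σ : Equiv.Perm (Fin 5)} (h1 : Acts z a h σ) (n : ℕ) :
    Acts z a (h ^ n) (σ ^ n) := by
  induction n with
  | zero => simpa using acts_one hJ P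
  | succ n ih => rw [pow_succ, pow_succ]; exact acts_mul hJ P ih h1

theorem acts_conj {g h : G} {σ τ : Equiv.Perm (Fin 5)} (hg : Acts z a g σ) (hh : Acts z a h τ) :
    Acts z a (g * h * g⁻¹) (σ * τ * σ⁻¹) :=
  acts_mul hJ P (acts_mul hJ P hg hh) (acts_inv hJ P hg)

theorem exists_acts {h : G} (hh : h * z = z * h) : ∃ σ, Acts z a h σ := by
  choose s hs using exists_same hJ P hh
  choose t ht using exists_same hJ P (show Commute h z from hh).inv_left.eq
  have st : ∀ p, s (t p) = p := fun p => by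
    have h3 := conj_same hJ P hh (ht p) (hs (t p))
    rw [show h * (h⁻¹ * a p * h⁻¹⁻¹) * h⁻¹ = a p by group] at h3
    exact (same_inj hJ P (Or.inl rfl : Same z a (a p) p) h3).symm
  exact ⟨Equiv.ofBijective s (Finite.surjective_iff_bijective.1 fun p => ⟨t p, st p⟩),
    ⟨hh, hs⟩⟩

/-- Conjugation by an element of `Q` fixes every pair. -/
theorem acts_of_mem {y : G} (hy : y ∈ Q) : Acts z a y 1 :=
  ⟨hJ.l.comm y hy, fun p => hJ.l.conj y hy (a p) (P.mem p)⟩

end

/-! ### Signatures -/

section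

variable (hJ : Hyp Q z) (P : Pts Q z a)
include hJ P

theorem sig_one : Sig z a 1 fun _ => false := fun r => by simp

theorem sig_z : Sig z a z fun _ => false := fun r => by
  simp only [Bool.false_eq_true, if_false]
  rw [← hJ.l.comm _ (P.mem r), mul_inv_cancel_right]

theorem sig_mul {x y : G} {s t : Fin 5 → Bool} (hx : Sig z a x s) (hy : Sig z a y t)
    (hxz : x * z = z * x) : Sig z a (x * y) fun r => xor (s r) (t r) := by
  intro r
  rw [show x * y * a r * (x * y)⁻¹ = x * (y * a r * y⁻¹) * x⁻¹ by group, hy r]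
  have e1 : x * (z * a r) * x⁻¹ = z * (x * a r * x⁻¹) := by rw [← mul_assoc x z, hxz]; group
  show _ = if xor (s r) (t r) then z * a r else a r
  by_cases hs : s r = true <;> by_cases ht : t r = true <;>
    simp_all [hx r, hJ.l.z_mul_z_mul]

theorem sig_point (p : Fin 5) : Sig z a (a p) fun r => decide (r ≠ p) := by
  intro r
  by_cases e : r = p
  · subst e; simp
  · simp only [ne_eq, e, not_false_eq_true, decide_true, if_true]
    exact P.anti p r (Ne.symm e)

theorem sig_word (w : W) : Sig z a (word a w) (wsig w) := by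
  rcases w with _ | ⟨⟨p, q⟩, hpq⟩
  · exact sig_one hJ P
  · by_cases e : p = q
    · simp only [word, wsig, e, if_true]
      exact sig_point hJ P q
    · simp only [word, wsig, e, if_false]
      intro r
      rw [sig_mul hJ P (sig_point hJ P p) (sig_point hJ P q) (hJ.l.comm _ (P.mem p)) r]
      have : ∀ p q r : Fin 5, p ≠ q →
          xor (decide (r ≠ p)) (decide (r ≠ q)) = decide (r = p ∨ r = q) := by decide
      simp only [this p q r e]

omit hJ in
theorem word_mem (w : W) : word a w ∈ Q := by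
  rcases w with _ | ⟨⟨p, q⟩, hpq⟩
  · exact Q.one_mem
  · simp only [word]
    split_ifs
    exacts [P.mem p, Q.mul_mem (P.mem p) (P.mem q)]

theorem sig_unique {y : G} {s t : Fin 5 → Bool} (h1 : Sig z a y s) (h2 : Sig z a y t) : s = t := by
  funext r
  have e := (h1 r).symm.trans (h2 r)
  have := hJ.l.toExt.z_mul_ne (a r)
  cases hs : s r <;> cases ht : t r <;>
    simp only [hs, ht, Bool.false_eq_true, if_false, if_true] at e ⊢
  · exact absurd e.symm this
  · exact absurd e this

theorem exists_word {y : G} (hy : y ∈ Q) : ∃ w, y = word a w ∨ y = z * word a w := by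
  let F : Bool × W → Q := fun bw =>
    ⟨(if bw.1 then z else 1) * word a bw.2,
      Q.mul_mem (by split_ifs; exacts [hJ.l.mem, Q.one_mem]) (word_mem P _)⟩
  have hs : ∀ bw : Bool × W, Sig z a (F bw : G) (wsig bw.2) := by
    rintro ⟨b, w⟩
    have := sig_mul hJ P (x := if b then z else 1) (s := fun _ => false) (by
      cases b
      · simpa using sig_one hJ P
      · simpa using sig_z hJ P) (sig_word hJ P w) (by cases b <;> simp)
    show Sig z a ((if b then z else 1) * word a w) (wsig w)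
    simpa using this
  have hinj : Function.Injective F := by
    rintro ⟨b, w⟩ ⟨b', w'⟩ e
    have h1 := hs (b, w)
    rw [e] at h1
    obtain rfl : w = w' := (by decide : Function.Injective wsig) (sig_unique hJ P h1 (hs (b', w')))
    have e' : (if b then z else 1) * word a w = (if b' then z else 1) * word a w :=
      congrArg Subtype.val e
    have := mul_right_cancel e'
    cases b <;> cases b' <;> simp_all [hJ.l.ne_one, hJ.l.ne_one.symm]
  have hbij : Function.Bijective F := (Nat.bijective_iff_injective_and_card F).2 ⟨hinj, by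
    rw [hJ.cardQ, Nat.card_eq_fintype_card]; rfl⟩
  obtain ⟨⟨b, w⟩, e⟩ := hbij.2 ⟨y, hy⟩
  have e' : (if b then z else 1) * word a w = y := congrArg Subtype.val e
  refine ⟨w, ?_⟩
  cases b
  · exact Or.inl (by simpa using e'.symm)
  · exact Or.inr (by simpa using e'.symm)

theorem exists_sig {y : G} (hy : y ∈ Q) : ∃ w, Sig z a y (wsig w) := by
  obtain ⟨w, e | e⟩ := exists_word hJ P hy
  · exact ⟨w, e ▸ sig_word hJ P w⟩
  · refine ⟨w, ?_⟩
    rw [e]
    simpa using sig_mul hJ P (sig_z hJ P) (sig_word hJ P w) rfl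

theorem eq_word {y : G} (hy : y ∈ Q) {w : W} (h : Sig z a y (wsig w)) :
    y = word a w ∨ y = z * word a w := by
  obtain ⟨v, e⟩ := exists_word hJ P hy
  obtain rfl : v = w := (by decide : Function.Injective wsig) <| by
    rcases e with rfl | rfl
    · exact sig_unique hJ P (sig_word hJ P v) h
    · refine sig_unique hJ P ?_ h
      simpa using sig_mul hJ P (sig_z hJ P) (sig_word hJ P v) rfl
  exact e

theorem same_of_sig {x y : G} (hx : x ∈ Q) (hy : y ∈ Q) {s : Fin 5 → Bool}
    (h1 : Sig z a x s) (h2 : Sig z a y s) : x = y ∨ x = z * y := by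
  obtain ⟨w, hw⟩ := exists_sig hJ P hy
  obtain rfl := sig_unique hJ P hw h2
  rcases eq_word hJ P hx h1 with e | e <;> rcases eq_word hJ P hy hw with e' | e' <;> rw [e, e']
  · exact Or.inl rfl
  · exact Or.inr (hJ.l.z_mul_z_mul _).symm
  · exact Or.inr rfl
  · exact Or.inl rfl

theorem cent_pts {y : G} (hy : y ∈ Q) (h : Sig z a y fun _ => false) : y = 1 ∨ y = z := by
  rcases same_of_sig hJ P hy Q.one_mem h (sig_one hJ P) with e | e
  exacts [Or.inl e, Or.inr (by rwa [mul_one] at e)]

theorem sig_conj {h y : G} {σ : Equiv.Perm (Fin 5)} {s : Fin 5 → Bool} (hh : Acts z a h σ)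
    (hy : Sig z a y s) (hyz0 : y * z = z * y) :
    Sig z a (h * y * h⁻¹) fun r => s (σ.symm r) := by
  intro r
  obtain ⟨p, rfl⟩ := σ.surjective r
  simp only [Equiv.symm_apply_apply]
  have e : h * (y * a p * y⁻¹) * h⁻¹ =
      (h * y * h⁻¹) * (h * a p * h⁻¹) * (h * y * h⁻¹)⁻¹ := by group
  rw [hy p] at e
  have hz : ∀ w : G, h * (z * w) * h⁻¹ = z * (h * w * h⁻¹) := fun w => by
    rw [← mul_assoc h z, hh.1]; group
  have hyz : (h * y * h⁻¹) * z * (h * y * h⁻¹)⁻¹ = z := by
    have h0 : y * z * y⁻¹ = z := mul_inv_eq_iff_eq_mul.2 hyz0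
    calc _ = h * (y * (h⁻¹ * z * h) * y⁻¹) * h⁻¹ := by group
      _ = h * (y * z * y⁻¹) * h⁻¹ := by rw [mul_assoc h⁻¹ z h, ← hh.1, inv_mul_cancel_left]
      _ = z := by rw [h0, hh.1, mul_inv_cancel_right]
  rcases hh.2 p with e' | e'
  · rcases hs : s p <;> simp only [hs, Bool.false_eq_true, if_false, if_true, hz, e'] at e ⊢ <;> exact e.symm
  · rcases hs : s p <;> simp only [hs, Bool.false_eq_true, if_false, if_true, hz, e'] at e ⊢
    all_goals
      have e2 : (h * y * h⁻¹) * (z * a (σ p)) * (h * y * h⁻¹)⁻¹ =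
          z * ((h * y * h⁻¹) * a (σ p) * (h * y * h⁻¹)⁻¹) := by
        calc _ = ((h * y * h⁻¹) * z * (h * y * h⁻¹)⁻¹) *
              ((h * y * h⁻¹) * a (σ p) * (h * y * h⁻¹)⁻¹) := by group
          _ = _ := by rw [hyz]
      rw [e2] at e
      exact (mul_left_cancel e).symm

/-- The action is faithful modulo `Q` and onto the even permutations. -/
theorem acts_structure (hc : ∃ c, c * z = z * c ∧ ∀ p, c * a p * c⁻¹ = a (p + 1)) :
    (∀ h, Acts z a h 1 → h ∈ Q) ∧ (∀ h σ, Acts z a h σ → Equiv.Perm.sign σ = 1) ∧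
      ∀ σ, Equiv.Perm.sign σ = 1 → ∃ h, Acts z a h σ := by
  classical
  obtain ⟨c, hcz, hc⟩ := hc
  set H := centralizer ({z} : Set G)
  choose π hπ using fun h : H => exists_acts hJ P (mem_H.1 h.2)
  let Φ : H →* Equiv.Perm (Fin 5) := MonoidHom.mk' π fun g h =>
    acts_unique hJ P (hπ (g * h)) (acts_mul hJ P (hπ g) (hπ h))
  obtain ⟨f, hf, hk⟩ := hJ.quot
  have hle : f.ker ≤ Φ.ker := by
    intro h hh
    rw [hk] at hh
    exact acts_unique hJ P (hπ h) (acts_of_mem hJ P hh)
  haveI : (Φ.ker.map f).Normal := Subgroup.Normal.map (MonoidHom.normal_ker Φ) f hf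
  have hcne : (⟨c, mem_H.2 hcz⟩ : H) ∉ Φ.ker := by
    intro h
    have h1 : π ⟨c, mem_H.2 hcz⟩ = 1 := h
    have := (hπ ⟨c, mem_H.2 hcz⟩).2 0
    rw [h1] at this
    exact absurd (same_inj hJ P this (Or.inl (hc 0))) (by decide)
  have hker : Φ.ker = f.ker := by
    refine le_antisymm ?_ hle
    haveI : IsSimpleGroup ↥(alternatingGroup (Fin 5)) := alternatingGroup.isSimpleGroup_five
    rcases Subgroup.Normal.eq_bot_or_eq_top (inferInstance : (Φ.ker.map f).Normal) with e | e
    · exact (Subgroup.map_eq_bot_iff _).1 e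
    · refine absurd ?_ hcne
      have h1 := congrArg (Subgroup.comap f) e
      rw [Subgroup.comap_map_eq, Subgroup.comap_top, sup_eq_left.2 hle] at h1
      rw [h1]; trivial
  have hrange : Φ.range = alternatingGroup (Fin 5) := by
    apply Equiv.Perm.eq_alternatingGroup_of_index_eq_two
    have h1 : Φ.ker.index = 60 := by
      rw [hker, index_ker, MonoidHom.range_eq_top.2 hf, card_top, nat_card_alternatingGroup]
      simp [Nat.factorial]
    rw [index_ker] at h1
    have h2 := Φ.range.card_mul_index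
    rw [h1, Nat.card_perm, Nat.card_fin] at h2
    simp [Nat.factorial] at h2
    omega
  refine ⟨fun h hh => ?_, fun h σ hh => ?_, fun σ hσ => ?_⟩
  · have : (⟨h, mem_H.2 hh.1⟩ : H) ∈ Φ.ker := acts_unique hJ P (hπ ⟨h, mem_H.2 hh.1⟩) hh
    rw [hker, hk] at this
    exact this
  · rw [acts_unique hJ P hh (hπ ⟨h, mem_H.2 hh.1⟩), ← Equiv.Perm.mem_alternatingGroup, ← hrange]
    exact ⟨_, rfl⟩
  · rw [← Equiv.Perm.mem_alternatingGroup, ← hrange] at hσ
    obtain ⟨h, rfl⟩ := hσ
    exact ⟨h, hπ h⟩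

end

end Cfsg.Agent.J3TypeAction93
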