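import Cfsg.Agent.Lib.J3Unitary90
import Cfsg.Agent.Lib.J3OrbData90
import Cfsg.Agent.Lib.J3IsoData90

/-! Packed vectors and kernel checks for orbits on lines. -/

set_option autoImplicit false
set_option maxRecDepth 100000

namespace Cfsg.Agent.J3Vec90

open CosetCertCore J3Mat90 J3Data90 J3Check90 J3Gens90 J3Unitary90 J3OrbData90 J3IsoData90

noncomputable def w1 (c : ℕ) : ℕ :=
  force (Nat.land c 511) fun L => force (Nat.shiftRight c 9) fun H =>
  Nat.lor H (Nat.shiftLeft (Nat.xor L H) 9)

noncomputable def pickW (s c : ℕ) : ℕ :=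
  cond (Nat.beq s 0) c (force (w1 c) fun d => cond (Nat.beq s 1) d (w1 d))

noncomputable def appTab (TL TH : Tbl) (c : ℕ) : ℕ :=
  Nat.xor (entry TL 18 (Nat.land c 511)) (entry TH 18 (Nat.shiftRight c 9))

noncomputable def app (g c : ℕ) : ℕ :=
  cond (Nat.beq g 0) (appTab img0L img0H c) (appTab img1L img1H c)

noncomputable def imgOK (T : Tbl) (gT sh L : ℕ) : Bool :=
  force (entry T 18 L) fun e =>
  Nat.beq (mulN (Nat.shiftLeft L sh) gT)
    (Nat.lor (Nat.land e 511) (Nat.shiftLeft (Nat.shiftRight e 9) 81))

noncomputable def edgeOK (n : ℕ) : Bool :=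
  force (entry oedge1 18 n) fun e =>
  force (Nat.land e 65535) fun y =>
  Nat.blt y 23256 &&
    Nat.beq (app (Nat.land n 1) (entry pts1 18 (Nat.shiftRight n 1)))
      (pickW (Nat.shiftRight e 16) (entry pts1 18 y))

noncomputable def tree1OK (x : ℕ) : Bool :=
  Nat.beq x 0 ||
    force (entry opar1 16 x) fun n =>
    Nat.blt n 46512 && Nat.blt (Nat.shiftRight n 1) x &&
      Nat.beq (Nat.land (entry oedge1 18 n) 65535) x

noncomputable def tree2OK (x : ℕ) : Bool :=
  Nat.beq x 0 ||
    force (entry opar2 20 x) fun e =>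
    force (Nat.land e 131071) fun n =>
    Nat.blt (Nat.shiftRight n 1) x &&
      Nat.beq (app (Nat.land n 1) (entry pts2 18 (Nat.shiftRight n 1)))
        (pickW (Nat.shiftRight e 17) (entry pts2 18 x))

/-- The first nonzero coordinate of a code is one. -/
noncomputable def normOK (c : ℕ) : Bool :=
  Nat.rec (motive := fun _ => Bool) false
    (fun k ih => ih || Nat.beq (Nat.land c
      ((2 ^ (k + 1) - 1) + 512 * (2 ^ (k + 1) - 1))) (2 ^ k)) 9

noncomputable def sortedOK (x : ℕ) : Bool :=
  force (entry osort1 16 x) fun i =>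
  Nat.blt i 23256 && normOK (entry pts1 18 i) &&
    (Nat.blt 23256 (x + 2) ||
      Nat.blt (entry pts1 18 i) (entry pts1 18 (entry osort1 16 (x + 1))))

def off (k : ℕ) : ℕ := [0, 65536, 81920, 86016, 87040, 87296, 87360, 87376, 87380].getD k 0

/-- The code with first nonzero coordinate `k` and remaining coordinates numbered `n`. -/
def normCode (k n : ℕ) : ℕ :=
  (2 ^ k + 2 ^ (k + 1) * (n % 2 ^ (8 - k))) + 512 * (2 ^ (k + 1) * (n / 2 ^ (8 - k)))

noncomputable def completeOK (k n : ℕ) : Bool :=
  force (normCode k n) fun c =>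
  force (Nat.lor (Nat.land c 511) (Nat.shiftRight c 9)) fun s =>
  !(Nat.testBit evenBits s) ||
    force (entry oidx2 16 (off k + n)) fun i =>
    Nat.blt i 43605 && Nat.beq (entry pts2 18 i) c

theorem img_ok : allFrom (fun L => imgOK img0L genAT 0 L && imgOK img0H genAT 81 L) 512 0 = true ∧
    allFrom (fun L => imgOK img1L genBT 0 L && imgOK img1H genBT 81 L) 512 0 = true := by
  decide +kernel

theorem roots : entry pts1 18 0 = 1 := by decide +kernel

theorem evenBits_ok : ∀ x : Fin 512, Nat.testBit evenBits x =
    decide ((Finset.univ.filter fun i : Fin 9 => Nat.testBit x i).card % 2 = 0) := by decide +kernel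

theorem edges_ok : allFrom edgeOK 46512 0 = true := by decide +kernel
theorem tree1_ok : allFrom tree1OK 23256 0 = true := by decide +kernel
theorem sorted_ok : allFrom sortedOK 23256 0 = true := by decide +kernel
theorem tree2_ok : allFrom tree2OK 43605 0 = true := by decide +kernel
theorem complete0 : allFrom (completeOK 0) 65536 0 = true := by decide +kernel
theorem complete1 : allFrom (completeOK 1) 16384 0 = true := by decide +kernel
theorem complete2 : allFrom (completeOK 2) 4096 0 = true := by decide +kernel
theorem complete3 : allFrom (completeOK 3) 1024 0 = true := by decide +kernel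
theorem complete4 : allFrom (completeOK 4) 256 0 = true := by decide +kernel
theorem complete5 : allFrom (completeOK 5) 64 0 = true := by decide +kernel
theorem complete6 : allFrom (completeOK 6) 16 0 = true := by decide +kernel
theorem complete7 : allFrom (completeOK 7) 4 0 = true := by decide +kernel
theorem complete8 : allFrom (completeOK 8) 1 0 = true := by decide +kernel

end Cfsg.Agent.J3Vec90
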