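import Cfsg.Agent.Lib.SplitVoltage
import Cfsg.Agent.Lib.J3Check90

/-! Certificates for systems of voltages with values in a group of exponent two. -/

set_option autoImplicit false

namespace Cfsg.Agent.J3VoltBin90

open CosetCertCore J3Check90 SplitVoltage

variable {A : Type*} [AddCommGroup A]

/-- The value of a bit vector at a list of values. -/
def evalB : List A → ℕ → A
  | [], _ => 0
  | q :: qs, x => (if x.testBit 0 then q else 0) + evalB qs (x / 2)

theorem evalB_zero : ∀ p : List A, evalB p 0 = 0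
  | [] => rfl
  | q :: qs => by simp [evalB, evalB_zero qs]

theorem evalB_xor (h2 : ∀ a : A, a + a = 0) : ∀ (p : List A) (x y : ℕ),
    evalB p (x ^^^ y) = evalB p x + evalB p y
  | [], _, _ => by simp [evalB]
  | q :: qs, x, y => by
    have hd : (x ^^^ y) / 2 = x / 2 ^^^ y / 2 := by
      apply Nat.eq_of_testBit_eq
      intro i
      simp [Nat.testBit_div_two, Nat.testBit_xor]
    simp only [evalB, hd, evalB_xor h2 qs, Nat.testBit_xor]
    cases x.testBit 0 <;> cases y.testBit 0 <;> simp
    · abel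
    · abel
    · rw [add_add_add_comm, h2, zero_add]

theorem evalB_pow : ∀ (p : List A) (k : ℕ), evalB p (2 ^ k) = p.getD k 0
  | [], k => by simp [evalB]
  | q :: qs, 0 => by simp [evalB, evalB_zero]
  | q :: qs, k + 1 => by
    have h0 : Nat.testBit (2 ^ (k + 1)) 0 = false := by
      rw [Nat.testBit_two_pow]; simp
    have h1 : (2 : ℕ) ^ (k + 1) / 2 = 2 ^ k := by
      rw [pow_succ, Nat.mul_div_cancel _ (by norm_num)]
    rw [evalB, h0, h1, evalB_pow qs k]
    simp

theorem blt_true {a b : ℕ} (h : a < b) : Nat.blt a b = true := by simp [Nat.blt_eq, h]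

theorem blt_false {a b : ℕ} (h : b ≤ a) : Nat.blt a b = false :=
  Bool.eq_false_iff.2 fun e => by simp [Nat.blt_eq] at e; omega

/-- A certificate: a table of forms of the edges, justified one by one. -/
structure BCert where
  n : ℕ
  N : ℕ
  npow : ℕ
  K : ℕ
  W : ℕ
  rels : List (List (ℕ × Bool))
  nx : Tbl
  pv : Tbl
  par : Tbl
  fm : Tbl
  js : Tbl
  rk : Tbl
  pe : List ℕ
  fin : List (List (ℕ × ℕ))

namespace BCert

variable (C : BCert)

noncomputable def nxF (i c : ℕ) : ℕ := entry C.nx 16 (i + C.n * c)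
noncomputable def pvF (i c : ℕ) : ℕ := entry C.pv 16 (i + C.n * c)
noncomputable def parF (c : ℕ) : ℕ × ℕ := (entry C.par 16 c % C.n, entry C.par 16 c / C.n)
noncomputable def fmF (ed : ℕ) : ℕ := entry C.fm C.W ed

def relForm (r : ℕ) : ℕ := cond (Nat.blt r C.npow) 0 (2 ^ (r - C.npow))

noncomputable def edges : ℕ → List (ℕ × Bool) → List ℕ
  | _, [] => []
  | c, (i, true) :: l => (i + C.n * c) :: edges (C.nxF i c) l
  | c, (i, false) :: l => (i + C.n * C.pvF i c) :: edges (C.pvF i c) l

noncomputable def fsum : List ℕ → ℕ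
  | [] => 0
  | ed :: l => Nat.xor (C.fmF ed) (fsum l)

noncomputable def eqForm (r c : ℕ) : ℕ :=
  Nat.xor (C.fsum (C.edges c (C.rels.getD r []))) (C.relForm r)

noncomputable def combo : List (ℕ × ℕ) → ℕ
  | [] => 0
  | (r, c) :: l => Nat.xor (C.eqForm r c) (combo l)

/-- The justification of the form of one edge. -/
noncomputable def edgeOK (ed : ℕ) : Bool :=
  force (entry C.js 48 ed) fun j =>
  force (entry C.rk 16 ed) fun me =>
  force (C.fmF ed) fun f =>
  cond (Nat.beq (j % 4) 0)
    (Nat.blt 0 (C.nxF (ed % C.n) (ed / C.n)) &&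
      Nat.beq (entry C.par 16 (C.nxF (ed % C.n) (ed / C.n))) ed && Nat.beq f 0)
    (cond (Nat.beq (j % 4) 1)
      (Nat.blt (j / 4 + (C.rels.length - C.npow)) C.K && Nat.beq (C.pe.getD (j / 4) 0) ed &&
        Nat.beq f (2 ^ (j / 4 + (C.rels.length - C.npow))))
      (force (j / 4 % 1024) fun r => force (j / 4096 % 65536) fun c => force (j / 268435456) fun pos =>
        Nat.blt r C.rels.length && Nat.blt c C.N &&
        (C.edges c (C.rels.getD r [])).length.blt (pos + 1) == false &&
        Nat.beq ((C.edges c (C.rels.getD r [])).getD pos 0) ed &&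
        ((C.edges c (C.rels.getD r [])).eraseIdx pos).all (fun e => Nat.blt (entry C.rk 16 e) me) &&
        Nat.beq (C.eqForm r c) 0))

/-- The table and the tree at one coset. -/
noncomputable def cosetOK (c : ℕ) : Bool :=
  (List.range C.n).all (fun i => Nat.blt (C.nxF i c) C.N && Nat.blt (C.pvF i c) C.N &&
    Nat.beq (C.nxF i (C.pvF i c)) c) &&
  (Nat.beq c 0 || (Nat.blt (C.parF c).2 c && Nat.beq (C.nxF (C.parF c).1 (C.parF c).2) c))

/-- The final elimination at one parameter. -/
noncomputable def finOK (k : ℕ) : Bool :=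
  (C.fin.getD k []).all (fun t => Nat.blt t.1 C.rels.length && Nat.blt t.2 C.N) &&
  Nat.beq (C.combo (C.fin.getD k [])) (2 ^ k)

/-- The small conditions. -/
noncomputable def smallOK : Bool :=
  Nat.blt 0 C.n && Nat.blt 0 C.N && Nat.ble C.npow C.rels.length &&
  Nat.ble (C.rels.length - C.npow) C.K && C.rels.all (fun l => l.all fun t => Nat.blt t.1 C.n)

/-- All checks. -/
structure OK : Prop where
  small : C.smallOK = true
  coset : ∀ c < C.N, C.cosetOK c = true
  edge : ∀ ed < C.n * C.N, C.edgeOK ed = true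
  fin : ∀ k < C.K, C.finOK k = true

variable {C}

theorem small_spec (h : C.OK) : 0 < C.n ∧ 0 < C.N ∧ C.npow ≤ C.rels.length ∧
    C.rels.length - C.npow ≤ C.K ∧ ∀ l ∈ C.rels, ∀ t ∈ l, t.1 < C.n := by
  have := h.small
  simp only [smallOK, Bool.and_eq_true, Nat.blt_eq, Nat.ble_eq, List.all_eq_true] at this
  exact ⟨this.1.1.1.1, this.1.1.1.2, this.1.1.2, this.1.2, this.2⟩

theorem table_spec (h : C.OK) {i c : ℕ} (hi : i < C.n) (hc : c < C.N) :
    C.nxF i c < C.N ∧ C.pvF i c < C.N ∧ C.nxF i (C.pvF i c) = c := by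
  have := h.coset c hc
  simp only [cosetOK, Bool.and_eq_true, List.all_eq_true, List.mem_range, Nat.blt_eq, Nat.beq_eq] at this
  obtain ⟨⟨a, b⟩, c'⟩ := this.1 i hi
  exact ⟨a, b, c'⟩

theorem tree_spec (h : C.OK) {c : ℕ} (hc : c < C.N) (h0 : 0 < c) :
    (C.parF c).2 < c ∧ (C.parF c).1 < C.n ∧ C.nxF (C.parF c).1 (C.parF c).2 = c := by
  have := h.coset c hc
  simp only [cosetOK, Bool.and_eq_true, Bool.or_eq_true, Nat.blt_eq, Nat.beq_eq] at this
  obtain ⟨a, b⟩ := this.2.resolve_left (by omega)
  exact ⟨a, Nat.mod_lt _ (small_spec h).1, b⟩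

theorem edge_lt (h : C.OK) {i c : ℕ} (hi : i < C.n) (hc : c < C.N) :
    i + C.n * c < C.n * C.N ∧ (i + C.n * c) % C.n = i ∧ (i + C.n * c) / C.n = c := by
  refine ⟨?_, by rw [Nat.add_mul_mod_self_left, Nat.mod_eq_of_lt hi],
    by rw [Nat.add_mul_div_left _ _ (small_spec h).1, Nat.div_eq_of_lt hi, zero_add]⟩
  calc i + C.n * c < C.n + C.n * c := by omega
    _ = C.n * (c + 1) := by ring
    _ ≤ C.n * C.N := Nat.mul_le_mul_left _ hc

theorem edges_spec (h : C.OK) (h2 : ∀ a : A, a + a = 0) (v : ℕ → ℕ → A) :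
    ∀ (l : List (ℕ × Bool)), (∀ t ∈ l, t.1 < C.n) → ∀ c < C.N,
      (∀ e ∈ C.edges c l, e < C.n * C.N) ∧
      wsum C.nxF C.pvF v c l = ((C.edges c l).map fun e => v (e % C.n) (e / C.n)).sum
  | [], _, _, _ => by simp [edges, wsum]
  | (i, b) :: l, hl, c, hc => by
    have hi : i < C.n := hl (i, b) List.mem_cons_self
    obtain ⟨t1, t2, -⟩ := table_spec h hi hc
    have hl' : ∀ t ∈ l, t.1 < C.n := fun t ht => hl t (List.mem_cons_of_mem _ ht)
    cases b with
    | true =>
      obtain ⟨i1, i3⟩ := edges_spec h h2 v l hl' _ t1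
      obtain ⟨e1, e2, e3⟩ := edge_lt h hi hc
      simp only [edges, wsum, if_pos, List.map_cons, List.sum_cons, e2, e3]
      exact ⟨List.forall_mem_cons.2 ⟨e1, i1⟩, by rw [i3]⟩
    | false =>
      obtain ⟨i1, i3⟩ := edges_spec h h2 v l hl' _ t2
      obtain ⟨e1, e2, e3⟩ := edge_lt h hi t2
      simp only [edges, wsum, Bool.false_eq_true, if_false, List.map_cons, List.sum_cons, e2, e3]
      exact ⟨List.forall_mem_cons.2 ⟨e1, i1⟩, by rw [i3, neg_eq_of_add_eq_zero_left (h2 _)]⟩

theorem fsum_eval (h2 : ∀ a : A, a + a = 0) (p : List A) :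
    ∀ es : List ℕ, evalB p (C.fsum es) = (es.map fun e => evalB p (C.fmF e)).sum
  | [] => by simp [fsum, evalB_zero]
  | e :: es => by
    show evalB p (C.fmF e ^^^ C.fsum es) = _
    rw [evalB_xor h2, fsum_eval h2 p es, List.map_cons, List.sum_cons]

theorem eq_eval (h2 : ∀ a : A, a + a = 0) (p : List A) (r c : ℕ) :
    evalB p (C.eqForm r c) = ((C.edges c (C.rels.getD r [])).map fun e => evalB p (C.fmF e)).sum +
      if r < C.npow then 0 else p.getD (r - C.npow) 0 := by
  show evalB p (C.fsum _ ^^^ C.relForm r) = _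
  rw [evalB_xor h2, fsum_eval h2]
  congr 1
  unfold relForm
  by_cases hr : r < C.npow
  · rw [if_pos hr, blt_true hr, cond_true, evalB_zero]
  · rw [if_neg hr, blt_false (not_lt.1 hr), cond_false, evalB_pow]

theorem combo_eval (h2 : ∀ a : A, a + a = 0) (p : List A)
    (hz : ∀ r < C.rels.length, ∀ c < C.N, evalB p (C.eqForm r c) = 0) :
    ∀ l : List (ℕ × ℕ), (∀ t ∈ l, t.1 < C.rels.length ∧ t.2 < C.N) → evalB p (C.combo l) = 0
  | [], _ => evalB_zero p
  | (r, c) :: l, hl => by
    show evalB p (C.eqForm r c ^^^ C.combo l) = 0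
    obtain ⟨hr, hc⟩ : r < C.rels.length ∧ c < C.N := hl (r, c) List.mem_cons_self
    rw [evalB_xor h2, hz r hr c hc, combo_eval h2 p hz l (fun t ht => hl t (List.mem_cons_of_mem _ ht)),
      add_zero]

/-- A valid certificate forces every solution to vanish. -/
theorem solution_zero (h : C.OK) (h2 : ∀ a : A, a + a = 0) (v : ℕ → ℕ → A) (e : ℕ → A)
    (htree : ∀ c < C.N, 0 < c → v (C.parF c).1 (C.parF c).2 = 0)
    (heq : ∀ r < C.rels.length, ∀ c < C.N, wsum C.nxF C.pvF v c (C.rels.getD r []) = e r)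
    (hpow : ∀ r < C.npow, e r = 0) : ∀ i < C.n, ∀ c < C.N, v i c = 0 := by
  obtain ⟨hn, hN, hnp, hK, hrels⟩ := small_spec h
  let f : ℕ → A := fun k =>
    if k < C.rels.length - C.npow then e (C.npow + k)
    else v (C.pe.getD (k - (C.rels.length - C.npow)) 0 % C.n)
      (C.pe.getD (k - (C.rels.length - C.npow)) 0 / C.n)
  let p : List A := (List.range C.K).map f
  have hp : p.length = C.K := by simp [p]
  have hpk : ∀ k < C.K, p.getD k 0 = f k := fun k hk => by
    rw [List.getD_eq_getElem (hn := by omega)]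
    simp [p]
  have hl : ∀ r, r < C.rels.length → ∀ t ∈ C.rels.getD r [], t.1 < C.n := fun r hr =>
    hrels _ (by rw [List.getD_eq_getElem (hn := hr)]; exact List.getElem_mem hr)
  have hrel : ∀ r, r < C.rels.length →
      (if r < C.npow then 0 else p.getD (r - C.npow) 0) = e r := by
    intro r hr
    split
    · exact (hpow r ‹_›).symm
    · rw [hpk _ (by omega)]
      simp only [f, if_pos (show r - C.npow < C.rels.length - C.npow by omega)]
      congr 1; omega
  have hedge : ∀ ed < C.n * C.N, v (ed % C.n) (ed / C.n) = evalB p (C.fmF ed) := by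
    suffices ∀ R, ∀ ed < C.n * C.N, entry C.rk 16 ed < R →
        v (ed % C.n) (ed / C.n) = evalB p (C.fmF ed) from
      fun ed he => this _ ed he (Nat.lt_succ_self _)
    intro R
    induction R with
    | zero => intro ed _ hlt; exact absurd hlt (Nat.not_lt_zero _)
    | succ R ih =>
      intro ed he hlt
      have hok := h.edge ed he
      have hi : ed % C.n < C.n := Nat.mod_lt _ hn
      have hc : ed / C.n < C.N := Nat.div_lt_of_lt_mul he
      simp only [edgeOK, force_eq] at hok
      cases h0 : Nat.beq (entry C.js 48 ed % 4) 0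
      swap
      · rw [h0, cond_true] at hok
        simp only [Bool.and_eq_true, Nat.blt_eq, Nat.beq_eq] at hok
        obtain ⟨⟨g0, gpar⟩, gf⟩ := hok
        have := htree _ (table_spec h hi hc).1 g0
        simp only [parF, gpar] at this
        rw [gf, evalB_zero]
        exact this
      rw [h0, cond_false] at hok
      cases h1 : Nat.beq (entry C.js 48 ed % 4) 1
      swap
      · rw [h1, cond_true] at hok
        simp only [Bool.and_eq_true, Nat.blt_eq, Nat.beq_eq] at hok
        obtain ⟨⟨gk, gpe⟩, gf⟩ := hok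
        rw [gf, evalB_pow, hpk _ gk]
        simp only [f, if_neg (show ¬ entry C.js 48 ed / 4 + (C.rels.length - C.npow) <
          C.rels.length - C.npow by omega), Nat.add_sub_cancel, gpe]
      rw [h1, cond_false] at hok
      simp only [Bool.and_eq_true, Nat.blt_eq, Nat.beq_eq, List.all_eq_true, beq_iff_eq] at hok
      set r := entry C.js 48 ed / 4 % 1024
      set c := entry C.js 48 ed / 4096 % 65536
      set pos := entry C.js 48 ed / 268435456
      obtain ⟨⟨⟨⟨⟨gr, gc⟩, gpos⟩, ged⟩, goth⟩, gz⟩ := hok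
      obtain ⟨e1, e3⟩ := edges_spec h h2 v _ (hl r gr) c gc
      set es := C.edges c (C.rels.getD r [])
      have hpos : pos < es.length := by
        by_contra hcon
        rw [blt_true (show es.length < pos + 1 by omega)] at gpos
        exact Bool.noConfusion gpos
      have g1 := heq r gr c gc
      rw [e3] at g1
      have g2 := eq_eval (C := C) h2 p r c
      rw [gz, evalB_zero, hrel r gr, eq_comm, ← eq_neg_iff_add_eq_zero,
        neg_eq_of_add_eq_zero_left (h2 _)] at g2
      have hperm : (es.getD pos 0 :: es.eraseIdx pos).Perm es := by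
        rw [List.getD_eq_getElem (hn := hpos)]
        exact List.getElem_cons_eraseIdx_perm hpos
      rw [← (hperm.map _).sum_eq, List.map_cons, List.sum_cons] at g1 g2
      have hrest : ((es.eraseIdx pos).map fun t => v (t % C.n) (t / C.n)) =
          (es.eraseIdx pos).map fun t => evalB p (C.fmF t) :=
        List.map_congr_left fun t ht => ih t (e1 t (List.mem_of_mem_eraseIdx ht))
          (lt_of_lt_of_le (goth t ht) (Nat.lt_succ_iff.1 hlt))
      rw [hrest, ← g2, ged] at g1
      exact add_right_cancel g1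
  have hzero : ∀ r < C.rels.length, ∀ c < C.N, evalB p (C.eqForm r c) = 0 := by
    intro r hr c hc
    obtain ⟨e1, e3⟩ := edges_spec h h2 v _ (hl r hr) c hc
    rw [eq_eval h2, hrel r hr, ← List.map_congr_left (fun t ht => hedge t (e1 t ht)), ← e3,
      heq r hr c hc, h2]
  have hpz : ∀ k < C.K, p.getD k 0 = 0 := by
    intro k hk
    have := h.fin k hk
    simp only [finOK, Bool.and_eq_true, List.all_eq_true, Nat.blt_eq, Nat.beq_eq] at this
    have h3 := combo_eval h2 p hzero _ this.1
    rwa [this.2, evalB_pow] at h3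
  have hall : ∀ (q : List A), (∀ k, k < q.length → q.getD k 0 = 0) → ∀ x, evalB q x = 0 := by
    intro q
    induction q with
    | nil => exact fun _ _ => rfl
    | cons a q ih =>
      intro hq x
      have ha : a = 0 := by simpa using hq 0 (by simp)
      rw [evalB, ih (fun k hk => by simpa using hq (k + 1) (by simpa using hk)), ha]
      simp
  intro i hi c hc
  obtain ⟨g1, g2, g3⟩ := edge_lt h hi hc
  have := hedge _ g1
  rw [g2, g3] at this
  rw [this, hall p (fun k hk => hpz k (by omega))]

end BCert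

end Cfsg.Agent.J3VoltBin90
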