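import Cfsg.Agent.Lib.SplitVoltage

/-! Cosets given by a closed table, and extension of characters from a complement modulo the kernel. -/

set_option autoImplicit false

namespace Cfsg.Agent.J3VoltUtil90

open SplitVoltage

universe u

variable {G : Type u} [Group G]

/-- A table closed under generators contains the orbit of its first point. -/
theorem table_cover [Finite G] {α : Type*} [MulAction G α] (x : ℕ → G) (n N : ℕ) (hN : 0 < N)
    (obj : ℕ → α) (hgen : Subgroup.closure (x '' Set.Iio n) = ⊤)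
    (hact : ∀ i < n, ∀ c < N, ∃ d < N, x i • obj c = obj d) (g : G) :
    ∃ d < N, g • obj 0 = obj d := by
  suffices h : ∀ g : G, ∀ c < N, ∃ d < N, g • obj c = obj d from h g 0 hN
  intro g
  have hg : g ∈ Subgroup.closure (x '' Set.Iio n) := hgen ▸ Subgroup.mem_top g
  induction hg using Subgroup.closure_induction with
  | mem y hy =>
    obtain ⟨i, hi, rfl⟩ := hy
    exact hact i hi
  | one => exact fun c hc => ⟨c, hc, one_smul _ _⟩
  | mul a b _ _ ha hb =>
    intro c hc
    obtain ⟨d, hd, e⟩ := hb c hc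
    obtain ⟨d', hd', e'⟩ := ha d hd
    exact ⟨d', hd', by rw [mul_smul, e, e']⟩
  | inv a _ ha =>
    have hinv : a⁻¹ = a ^ (orderOf a - 1) := by
      rw [inv_eq_iff_mul_eq_one, ← pow_succ', Nat.sub_add_cancel (orderOf_pos a), pow_orderOf_eq_one]
    rw [hinv]
    intro c hc
    induction (orderOf a - 1) with
    | zero => exact ⟨c, hc, by rw [pow_zero, one_smul]⟩
    | succ k ih =>
      obtain ⟨d, hd, e⟩ := ih
      obtain ⟨d', hd', e'⟩ := ha d hd
      exact ⟨d', hd', by rw [pow_succ', mul_smul, e, e']⟩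

/-- The index is at most the length of a closed table of cosets. -/
theorem index_le [Finite G] (H : Subgroup G) (x T : ℕ → G) (n N : ℕ) (hN : 0 < N)
    (hgen : Subgroup.closure (x '' Set.Iio n) = ⊤) (h0 : T 0 = 1)
    (hact : ∀ i < n, ∀ c < N, ∃ d < N, ∃ k ∈ H, x i * T c = T d * k) :
    H.index ≤ N ∧ Function.Surjective (fun c : Fin N => (QuotientGroup.mk (T c) : G ⧸ H)) := by
  have hs : Function.Surjective (fun c : Fin N => (QuotientGroup.mk (T c) : G ⧸ H)) := by
    intro q
    obtain ⟨g, rfl⟩ := QuotientGroup.mk_surjective q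
    obtain ⟨d, hd, e⟩ := table_cover (α := G ⧸ H) x n N hN (fun c => QuotientGroup.mk (T c)) hgen
      (fun i hi c hc => by
        obtain ⟨d, hd, k, hk, e⟩ := hact i hi c hc
        refine ⟨d, hd, ?_⟩
        show QuotientGroup.mk (x i * T c) = _
        rw [e, QuotientGroup.mk_mul_of_mem _ hk]) g
    refine ⟨⟨d, hd⟩, e.symm.trans ?_⟩
    show QuotientGroup.mk (g * T 0) = _
    rw [h0, mul_one]
  refine ⟨?_, hs⟩
  have := Nat.card_le_card_of_surjective _ hs
  rwa [Nat.card_fin] at this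

/-- A table of the right length lists every coset once. -/
theorem table_inj [Finite G] (H : Subgroup G) (T : ℕ → G) (N : ℕ) (hidx : H.index = N)
    (hs : Function.Surjective (fun c : Fin N => (QuotientGroup.mk (T c) : G ⧸ H))) :
    ∀ c < N, ∀ d < N, (QuotientGroup.mk (T c) : G ⧸ H) = QuotientGroup.mk (T d) → c = d := by
  have hb : Function.Bijective (fun c : Fin N => (QuotientGroup.mk (T c) : G ⧸ H)) := by
    rw [Nat.bijective_iff_surjective_and_card]
    exact ⟨hs, by rw [Nat.card_fin]; exact hidx.symm⟩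
  intro c hc d hd e
  exact congrArg Fin.val (hb.1 (a₁ := ⟨c, hc⟩) (a₂ := ⟨d, hd⟩) e)

/-- A character extends when a subgroup covers the quotient and meets the kernel inside its kernel. -/
theorem extend_of_U {Γ A : Type*} [Group Γ] [CommGroup A] (σ : Γ →* G)
    (hc : σ.ker ≤ Subgroup.center Γ) (χ : σ.ker →* A) (U : Subgroup Γ)
    (hall : ∀ g : Γ, ∃ z : σ.ker, g * (z : Γ)⁻¹ ∈ U) (hU : ∀ z : σ.ker, (z : Γ) ∈ U → χ z = 1) :
    ∃ ψ : Γ →* A, ∀ z : σ.ker, ψ z = χ z := by
  choose f hf using hall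
  have huniq : ∀ (g : Γ) (z : σ.ker), g * (z : Γ)⁻¹ ∈ U → χ (f g) = χ z := by
    intro g z hz
    have h1 : ((f g)⁻¹ * z : σ.ker).1 ∈ U := by
      have := U.mul_mem (hf g) (U.inv_mem hz)
      have hcz := Subgroup.mem_center_iff.1 (hc z.2) g⁻¹
      have e : g * (f g : Γ)⁻¹ * (g * (z : Γ)⁻¹)⁻¹ = (f g : Γ)⁻¹ * z := by
        have hcf : g * (f g : Γ)⁻¹ = (f g : Γ)⁻¹ * g :=
          Subgroup.mem_center_iff.1 ((Subgroup.center Γ).inv_mem (hc (f g).2)) g
        rw [hcf, mul_inv_rev, inv_inv, mul_assoc, ← hcz]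
        group
      rw [e] at this
      exact this
    have h2 := hU _ h1
    rw [map_mul, map_inv, inv_mul_eq_one] at h2
    exact h2
  refine ⟨{ toFun := fun g => χ (f g), map_one' := ?_, map_mul' := ?_ }, fun z => ?_⟩
  · rw [huniq 1 1 (by simp), map_one]
  · intro a b
    rw [← map_mul]
    refine huniq _ _ ?_
    have e : a * b * ((f a * f b : σ.ker) : Γ)⁻¹ = (a * (f a : Γ)⁻¹) * (b * (f b : Γ)⁻¹) := by
      have hcz : ∀ g, g * (f a : Γ)⁻¹ = (f a : Γ)⁻¹ * g :=
        Subgroup.mem_center_iff.1 ((Subgroup.center Γ).inv_mem (hc (f a).2))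
      rw [Subgroup.coe_mul, mul_inv_rev]
      simp only [mul_assoc]
      congr 1
      rw [← mul_assoc (f a : Γ)⁻¹ b, ← hcz b, mul_assoc]
      congr 1
      exact hcz _
    rw [e]
    exact U.mul_mem (hf a) (hf b)
  · exact huniq z z (by simp)

end Cfsg.Agent.J3VoltUtil90
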