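import Cfsg.Agent.Lib.J4CertMid13C0
import Cfsg.Agent.Lib.J4CertMid13C1
import Cfsg.Agent.Lib.J4CertMid13C2
import Cfsg.Agent.Lib.J4CertMid13C3

/-! The 1771 cosets of the subgroup on two generators in the subgroup on four. -/

set_option autoImplicit false
set_option maxRecDepth 100000
set_option Elab.async false

namespace Cfsg.Agent.J4CertMid13

open Cfsg.Agent.J1CertCore91 Cfsg.Agent.J4PresGen13

open Cfsg.Agent.J4CertMid13Data

theorem step {G X : Type} [Group G] [MulAction G X] {g : Nat → G} {base : X} (hC : Ctx g base cert)
    {lo n : Nat} (h : AllValid g (nodeVal g base cert) cert lo) (L : List Nat)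
    (hn : (Nat.beq (lo + L.length) n && checkList cert L lo) = true) :
    AllValid g (nodeVal g base cert) cert n := by
  rw [Bool.and_eq_true, Nat.beq_eq] at hn
  exact hn.1 ▸ checkList_sound g base hC L lo h hn.2

variable {G X : Type} [Group G] [MulAction G X] {g : Nat → G} {base : X}

theorem valid0 (_hC : Ctx g base cert) : AllValid g (nodeVal g base cert) cert 0 :=
  fun _ h => absurd h (Nat.not_lt_zero _)

theorem valid1 (hC : Ctx g base cert) : AllValid g (nodeVal g base cert) cert 256 :=
  step hC (valid0 hC) J4CertMid13C0.just0 J4CertMid13C0.check0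

theorem valid2 (hC : Ctx g base cert) : AllValid g (nodeVal g base cert) cert 512 :=
  step hC (valid1 hC) J4CertMid13C0.just1 J4CertMid13C0.check1

theorem valid3 (hC : Ctx g base cert) : AllValid g (nodeVal g base cert) cert 768 :=
  step hC (valid2 hC) J4CertMid13C0.just2 J4CertMid13C0.check2

theorem valid4 (hC : Ctx g base cert) : AllValid g (nodeVal g base cert) cert 1024 :=
  step hC (valid3 hC) J4CertMid13C0.just3 J4CertMid13C0.check3

theorem valid5 (hC : Ctx g base cert) : AllValid g (nodeVal g base cert) cert 1280 :=
  step hC (valid4 hC) J4CertMid13C0.just4 J4CertMid13C0.check4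

theorem valid6 (hC : Ctx g base cert) : AllValid g (nodeVal g base cert) cert 1536 :=
  step hC (valid5 hC) J4CertMid13C0.just5 J4CertMid13C0.check5

theorem valid7 (hC : Ctx g base cert) : AllValid g (nodeVal g base cert) cert 1792 :=
  step hC (valid6 hC) J4CertMid13C0.just6 J4CertMid13C0.check6

theorem valid8 (hC : Ctx g base cert) : AllValid g (nodeVal g base cert) cert 2048 :=
  step hC (valid7 hC) J4CertMid13C0.just7 J4CertMid13C0.check7

theorem valid9 (hC : Ctx g base cert) : AllValid g (nodeVal g base cert) cert 2304 :=
  step hC (valid8 hC) J4CertMid13C0.just8 J4CertMid13C0.check8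

theorem valid10 (hC : Ctx g base cert) : AllValid g (nodeVal g base cert) cert 2560 :=
  step hC (valid9 hC) J4CertMid13C0.just9 J4CertMid13C0.check9

theorem valid11 (hC : Ctx g base cert) : AllValid g (nodeVal g base cert) cert 2816 :=
  step hC (valid10 hC) J4CertMid13C0.just10 J4CertMid13C0.check10

theorem valid12 (hC : Ctx g base cert) : AllValid g (nodeVal g base cert) cert 3072 :=
  step hC (valid11 hC) J4CertMid13C0.just11 J4CertMid13C0.check11

theorem valid13 (hC : Ctx g base cert) : AllValid g (nodeVal g base cert) cert 3328 :=
  step hC (valid12 hC) J4CertMid13C0.just12 J4CertMid13C0.check12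

theorem valid14 (hC : Ctx g base cert) : AllValid g (nodeVal g base cert) cert 3584 :=
  step hC (valid13 hC) J4CertMid13C0.just13 J4CertMid13C0.check13

theorem valid15 (hC : Ctx g base cert) : AllValid g (nodeVal g base cert) cert 3840 :=
  step hC (valid14 hC) J4CertMid13C0.just14 J4CertMid13C0.check14

theorem valid16 (hC : Ctx g base cert) : AllValid g (nodeVal g base cert) cert 4096 :=
  step hC (valid15 hC) J4CertMid13C0.just15 J4CertMid13C0.check15

theorem valid17 (hC : Ctx g base cert) : AllValid g (nodeVal g base cert) cert 4352 :=
  step hC (valid16 hC) J4CertMid13C0.just16 J4CertMid13C0.check16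

theorem valid18 (hC : Ctx g base cert) : AllValid g (nodeVal g base cert) cert 4608 :=
  step hC (valid17 hC) J4CertMid13C0.just17 J4CertMid13C0.check17

theorem valid19 (hC : Ctx g base cert) : AllValid g (nodeVal g base cert) cert 4864 :=
  step hC (valid18 hC) J4CertMid13C0.just18 J4CertMid13C0.check18

theorem valid20 (hC : Ctx g base cert) : AllValid g (nodeVal g base cert) cert 5120 :=
  step hC (valid19 hC) J4CertMid13C0.just19 J4CertMid13C0.check19

theorem valid21 (hC : Ctx g base cert) : AllValid g (nodeVal g base cert) cert 5376 :=
  step hC (valid20 hC) J4CertMid13C0.just20 J4CertMid13C0.check20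

theorem valid22 (hC : Ctx g base cert) : AllValid g (nodeVal g base cert) cert 5632 :=
  step hC (valid21 hC) J4CertMid13C0.just21 J4CertMid13C0.check21

theorem valid23 (hC : Ctx g base cert) : AllValid g (nodeVal g base cert) cert 5888 :=
  step hC (valid22 hC) J4CertMid13C0.just22 J4CertMid13C0.check22

theorem valid24 (hC : Ctx g base cert) : AllValid g (nodeVal g base cert) cert 6144 :=
  step hC (valid23 hC) J4CertMid13C0.just23 J4CertMid13C0.check23

theorem valid25 (hC : Ctx g base cert) : AllValid g (nodeVal g base cert) cert 6400 :=
  step hC (valid24 hC) J4CertMid13C0.just24 J4CertMid13C0.check24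

theorem valid26 (hC : Ctx g base cert) : AllValid g (nodeVal g base cert) cert 6656 :=
  step hC (valid25 hC) J4CertMid13C0.just25 J4CertMid13C0.check25

theorem valid27 (hC : Ctx g base cert) : AllValid g (nodeVal g base cert) cert 6912 :=
  step hC (valid26 hC) J4CertMid13C0.just26 J4CertMid13C0.check26

theorem valid28 (hC : Ctx g base cert) : AllValid g (nodeVal g base cert) cert 7168 :=
  step hC (valid27 hC) J4CertMid13C0.just27 J4CertMid13C0.check27

theorem valid29 (hC : Ctx g base cert) : AllValid g (nodeVal g base cert) cert 7424 :=
  step hC (valid28 hC) J4CertMid13C0.just28 J4CertMid13C0.check28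

theorem valid30 (hC : Ctx g base cert) : AllValid g (nodeVal g base cert) cert 7680 :=
  step hC (valid29 hC) J4CertMid13C0.just29 J4CertMid13C0.check29

theorem valid31 (hC : Ctx g base cert) : AllValid g (nodeVal g base cert) cert 7936 :=
  step hC (valid30 hC) J4CertMid13C0.just30 J4CertMid13C0.check30

theorem valid32 (hC : Ctx g base cert) : AllValid g (nodeVal g base cert) cert 8192 :=
  step hC (valid31 hC) J4CertMid13C0.just31 J4CertMid13C0.check31

theorem valid33 (hC : Ctx g base cert) : AllValid g (nodeVal g base cert) cert 8448 :=
  step hC (valid32 hC) J4CertMid13C0.just32 J4CertMid13C0.check32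

theorem valid34 (hC : Ctx g base cert) : AllValid g (nodeVal g base cert) cert 8704 :=
  step hC (valid33 hC) J4CertMid13C0.just33 J4CertMid13C0.check33

theorem valid35 (hC : Ctx g base cert) : AllValid g (nodeVal g base cert) cert 8960 :=
  step hC (valid34 hC) J4CertMid13C0.just34 J4CertMid13C0.check34

theorem valid36 (hC : Ctx g base cert) : AllValid g (nodeVal g base cert) cert 9216 :=
  step hC (valid35 hC) J4CertMid13C0.just35 J4CertMid13C0.check35

theorem valid37 (hC : Ctx g base cert) : AllValid g (nodeVal g base cert) cert 9472 :=
  step hC (valid36 hC) J4CertMid13C0.just36 J4CertMid13C0.check36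

theorem valid38 (hC : Ctx g base cert) : AllValid g (nodeVal g base cert) cert 9728 :=
  step hC (valid37 hC) J4CertMid13C0.just37 J4CertMid13C0.check37

theorem valid39 (hC : Ctx g base cert) : AllValid g (nodeVal g base cert) cert 9984 :=
  step hC (valid38 hC) J4CertMid13C0.just38 J4CertMid13C0.check38

theorem valid40 (hC : Ctx g base cert) : AllValid g (nodeVal g base cert) cert 10240 :=
  step hC (valid39 hC) J4CertMid13C0.just39 J4CertMid13C0.check39

theorem valid41 (hC : Ctx g base cert) : AllValid g (nodeVal g base cert) cert 10496 :=
  step hC (valid40 hC) J4CertMid13C0.just40 J4CertMid13C0.check40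

theorem valid42 (hC : Ctx g base cert) : AllValid g (nodeVal g base cert) cert 10752 :=
  step hC (valid41 hC) J4CertMid13C0.just41 J4CertMid13C0.check41

theorem valid43 (hC : Ctx g base cert) : AllValid g (nodeVal g base cert) cert 11008 :=
  step hC (valid42 hC) J4CertMid13C0.just42 J4CertMid13C0.check42

theorem valid44 (hC : Ctx g base cert) : AllValid g (nodeVal g base cert) cert 11264 :=
  step hC (valid43 hC) J4CertMid13C0.just43 J4CertMid13C0.check43

theorem valid45 (hC : Ctx g base cert) : AllValid g (nodeVal g base cert) cert 11520 :=
  step hC (valid44 hC) J4CertMid13C0.just44 J4CertMid13C0.check44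

theorem valid46 (hC : Ctx g base cert) : AllValid g (nodeVal g base cert) cert 11776 :=
  step hC (valid45 hC) J4CertMid13C0.just45 J4CertMid13C0.check45

theorem valid47 (hC : Ctx g base cert) : AllValid g (nodeVal g base cert) cert 12032 :=
  step hC (valid46 hC) J4CertMid13C0.just46 J4CertMid13C0.check46

theorem valid48 (hC : Ctx g base cert) : AllValid g (nodeVal g base cert) cert 12288 :=
  step hC (valid47 hC) J4CertMid13C0.just47 J4CertMid13C0.check47

theorem valid49 (hC : Ctx g base cert) : AllValid g (nodeVal g base cert) cert 12544 :=
  step hC (valid48 hC) J4CertMid13C0.just48 J4CertMid13C0.check48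

theorem valid50 (hC : Ctx g base cert) : AllValid g (nodeVal g base cert) cert 12800 :=
  step hC (valid49 hC) J4CertMid13C0.just49 J4CertMid13C0.check49

theorem valid51 (hC : Ctx g base cert) : AllValid g (nodeVal g base cert) cert 13056 :=
  step hC (valid50 hC) J4CertMid13C1.just50 J4CertMid13C1.check50

theorem valid52 (hC : Ctx g base cert) : AllValid g (nodeVal g base cert) cert 13312 :=
  step hC (valid51 hC) J4CertMid13C1.just51 J4CertMid13C1.check51

theorem valid53 (hC : Ctx g base cert) : AllValid g (nodeVal g base cert) cert 13568 :=
  step hC (valid52 hC) J4CertMid13C1.just52 J4CertMid13C1.check52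

theorem valid54 (hC : Ctx g base cert) : AllValid g (nodeVal g base cert) cert 13824 :=
  step hC (valid53 hC) J4CertMid13C1.just53 J4CertMid13C1.check53

theorem valid55 (hC : Ctx g base cert) : AllValid g (nodeVal g base cert) cert 14080 :=
  step hC (valid54 hC) J4CertMid13C1.just54 J4CertMid13C1.check54

theorem valid56 (hC : Ctx g base cert) : AllValid g (nodeVal g base cert) cert 14336 :=
  step hC (valid55 hC) J4CertMid13C1.just55 J4CertMid13C1.check55

theorem valid57 (hC : Ctx g base cert) : AllValid g (nodeVal g base cert) cert 14592 :=
  step hC (valid56 hC) J4CertMid13C1.just56 J4CertMid13C1.check56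

theorem valid58 (hC : Ctx g base cert) : AllValid g (nodeVal g base cert) cert 14848 :=
  step hC (valid57 hC) J4CertMid13C1.just57 J4CertMid13C1.check57

theorem valid59 (hC : Ctx g base cert) : AllValid g (nodeVal g base cert) cert 15104 :=
  step hC (valid58 hC) J4CertMid13C1.just58 J4CertMid13C1.check58

theorem valid60 (hC : Ctx g base cert) : AllValid g (nodeVal g base cert) cert 15360 :=
  step hC (valid59 hC) J4CertMid13C1.just59 J4CertMid13C1.check59

theorem valid61 (hC : Ctx g base cert) : AllValid g (nodeVal g base cert) cert 15616 :=
  step hC (valid60 hC) J4CertMid13C1.just60 J4CertMid13C1.check60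

theorem valid62 (hC : Ctx g base cert) : AllValid g (nodeVal g base cert) cert 15872 :=
  step hC (valid61 hC) J4CertMid13C1.just61 J4CertMid13C1.check61

theorem valid63 (hC : Ctx g base cert) : AllValid g (nodeVal g base cert) cert 16128 :=
  step hC (valid62 hC) J4CertMid13C1.just62 J4CertMid13C1.check62

theorem valid64 (hC : Ctx g base cert) : AllValid g (nodeVal g base cert) cert 16384 :=
  step hC (valid63 hC) J4CertMid13C1.just63 J4CertMid13C1.check63

theorem valid65 (hC : Ctx g base cert) : AllValid g (nodeVal g base cert) cert 16640 :=
  step hC (valid64 hC) J4CertMid13C1.just64 J4CertMid13C1.check64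

theorem valid66 (hC : Ctx g base cert) : AllValid g (nodeVal g base cert) cert 16896 :=
  step hC (valid65 hC) J4CertMid13C1.just65 J4CertMid13C1.check65

theorem valid67 (hC : Ctx g base cert) : AllValid g (nodeVal g base cert) cert 17152 :=
  step hC (valid66 hC) J4CertMid13C1.just66 J4CertMid13C1.check66

theorem valid68 (hC : Ctx g base cert) : AllValid g (nodeVal g base cert) cert 17408 :=
  step hC (valid67 hC) J4CertMid13C1.just67 J4CertMid13C1.check67

theorem valid69 (hC : Ctx g base cert) : AllValid g (nodeVal g base cert) cert 17664 :=
  step hC (valid68 hC) J4CertMid13C1.just68 J4CertMid13C1.check68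

theorem valid70 (hC : Ctx g base cert) : AllValid g (nodeVal g base cert) cert 17920 :=
  step hC (valid69 hC) J4CertMid13C1.just69 J4CertMid13C1.check69

theorem valid71 (hC : Ctx g base cert) : AllValid g (nodeVal g base cert) cert 18176 :=
  step hC (valid70 hC) J4CertMid13C1.just70 J4CertMid13C1.check70

theorem valid72 (hC : Ctx g base cert) : AllValid g (nodeVal g base cert) cert 18432 :=
  step hC (valid71 hC) J4CertMid13C1.just71 J4CertMid13C1.check71

theorem valid73 (hC : Ctx g base cert) : AllValid g (nodeVal g base cert) cert 18688 :=
  step hC (valid72 hC) J4CertMid13C1.just72 J4CertMid13C1.check72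

theorem valid74 (hC : Ctx g base cert) : AllValid g (nodeVal g base cert) cert 18944 :=
  step hC (valid73 hC) J4CertMid13C1.just73 J4CertMid13C1.check73

theorem valid75 (hC : Ctx g base cert) : AllValid g (nodeVal g base cert) cert 19200 :=
  step hC (valid74 hC) J4CertMid13C1.just74 J4CertMid13C1.check74

theorem valid76 (hC : Ctx g base cert) : AllValid g (nodeVal g base cert) cert 19456 :=
  step hC (valid75 hC) J4CertMid13C1.just75 J4CertMid13C1.check75

theorem valid77 (hC : Ctx g base cert) : AllValid g (nodeVal g base cert) cert 19712 :=
  step hC (valid76 hC) J4CertMid13C1.just76 J4CertMid13C1.check76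

theorem valid78 (hC : Ctx g base cert) : AllValid g (nodeVal g base cert) cert 19968 :=
  step hC (valid77 hC) J4CertMid13C1.just77 J4CertMid13C1.check77

theorem valid79 (hC : Ctx g base cert) : AllValid g (nodeVal g base cert) cert 20224 :=
  step hC (valid78 hC) J4CertMid13C1.just78 J4CertMid13C1.check78

theorem valid80 (hC : Ctx g base cert) : AllValid g (nodeVal g base cert) cert 20480 :=
  step hC (valid79 hC) J4CertMid13C1.just79 J4CertMid13C1.check79

theorem valid81 (hC : Ctx g base cert) : AllValid g (nodeVal g base cert) cert 20736 :=
  step hC (valid80 hC) J4CertMid13C1.just80 J4CertMid13C1.check80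

theorem valid82 (hC : Ctx g base cert) : AllValid g (nodeVal g base cert) cert 20992 :=
  step hC (valid81 hC) J4CertMid13C1.just81 J4CertMid13C1.check81

theorem valid83 (hC : Ctx g base cert) : AllValid g (nodeVal g base cert) cert 21248 :=
  step hC (valid82 hC) J4CertMid13C1.just82 J4CertMid13C1.check82

theorem valid84 (hC : Ctx g base cert) : AllValid g (nodeVal g base cert) cert 21504 :=
  step hC (valid83 hC) J4CertMid13C1.just83 J4CertMid13C1.check83

theorem valid85 (hC : Ctx g base cert) : AllValid g (nodeVal g base cert) cert 21760 :=
  step hC (valid84 hC) J4CertMid13C1.just84 J4CertMid13C1.check84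

theorem valid86 (hC : Ctx g base cert) : AllValid g (nodeVal g base cert) cert 22016 :=
  step hC (valid85 hC) J4CertMid13C1.just85 J4CertMid13C1.check85

theorem valid87 (hC : Ctx g base cert) : AllValid g (nodeVal g base cert) cert 22272 :=
  step hC (valid86 hC) J4CertMid13C1.just86 J4CertMid13C1.check86

theorem valid88 (hC : Ctx g base cert) : AllValid g (nodeVal g base cert) cert 22528 :=
  step hC (valid87 hC) J4CertMid13C1.just87 J4CertMid13C1.check87

theorem valid89 (hC : Ctx g base cert) : AllValid g (nodeVal g base cert) cert 22784 :=
  step hC (valid88 hC) J4CertMid13C1.just88 J4CertMid13C1.check88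

theorem valid90 (hC : Ctx g base cert) : AllValid g (nodeVal g base cert) cert 23040 :=
  step hC (valid89 hC) J4CertMid13C1.just89 J4CertMid13C1.check89

theorem valid91 (hC : Ctx g base cert) : AllValid g (nodeVal g base cert) cert 23296 :=
  step hC (valid90 hC) J4CertMid13C1.just90 J4CertMid13C1.check90

theorem valid92 (hC : Ctx g base cert) : AllValid g (nodeVal g base cert) cert 23552 :=
  step hC (valid91 hC) J4CertMid13C1.just91 J4CertMid13C1.check91

theorem valid93 (hC : Ctx g base cert) : AllValid g (nodeVal g base cert) cert 23808 :=
  step hC (valid92 hC) J4CertMid13C1.just92 J4CertMid13C1.check92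

theorem valid94 (hC : Ctx g base cert) : AllValid g (nodeVal g base cert) cert 24064 :=
  step hC (valid93 hC) J4CertMid13C1.just93 J4CertMid13C1.check93

theorem valid95 (hC : Ctx g base cert) : AllValid g (nodeVal g base cert) cert 24320 :=
  step hC (valid94 hC) J4CertMid13C1.just94 J4CertMid13C1.check94

theorem valid96 (hC : Ctx g base cert) : AllValid g (nodeVal g base cert) cert 24576 :=
  step hC (valid95 hC) J4CertMid13C1.just95 J4CertMid13C1.check95

theorem valid97 (hC : Ctx g base cert) : AllValid g (nodeVal g base cert) cert 24832 :=
  step hC (valid96 hC) J4CertMid13C1.just96 J4CertMid13C1.check96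

theorem valid98 (hC : Ctx g base cert) : AllValid g (nodeVal g base cert) cert 25088 :=
  step hC (valid97 hC) J4CertMid13C1.just97 J4CertMid13C1.check97

theorem valid99 (hC : Ctx g base cert) : AllValid g (nodeVal g base cert) cert 25344 :=
  step hC (valid98 hC) J4CertMid13C1.just98 J4CertMid13C1.check98

theorem valid100 (hC : Ctx g base cert) : AllValid g (nodeVal g base cert) cert 25600 :=
  step hC (valid99 hC) J4CertMid13C1.just99 J4CertMid13C1.check99

theorem valid101 (hC : Ctx g base cert) : AllValid g (nodeVal g base cert) cert 25856 :=
  step hC (valid100 hC) J4CertMid13C2.just100 J4CertMid13C2.check100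

theorem valid102 (hC : Ctx g base cert) : AllValid g (nodeVal g base cert) cert 26112 :=
  step hC (valid101 hC) J4CertMid13C2.just101 J4CertMid13C2.check101

theorem valid103 (hC : Ctx g base cert) : AllValid g (nodeVal g base cert) cert 26368 :=
  step hC (valid102 hC) J4CertMid13C2.just102 J4CertMid13C2.check102

theorem valid104 (hC : Ctx g base cert) : AllValid g (nodeVal g base cert) cert 26624 :=
  step hC (valid103 hC) J4CertMid13C2.just103 J4CertMid13C2.check103

theorem valid105 (hC : Ctx g base cert) : AllValid g (nodeVal g base cert) cert 26880 :=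
  step hC (valid104 hC) J4CertMid13C2.just104 J4CertMid13C2.check104

theorem valid106 (hC : Ctx g base cert) : AllValid g (nodeVal g base cert) cert 27136 :=
  step hC (valid105 hC) J4CertMid13C2.just105 J4CertMid13C2.check105

theorem valid107 (hC : Ctx g base cert) : AllValid g (nodeVal g base cert) cert 27392 :=
  step hC (valid106 hC) J4CertMid13C2.just106 J4CertMid13C2.check106

theorem valid108 (hC : Ctx g base cert) : AllValid g (nodeVal g base cert) cert 27648 :=
  step hC (valid107 hC) J4CertMid13C2.just107 J4CertMid13C2.check107

theorem valid109 (hC : Ctx g base cert) : AllValid g (nodeVal g base cert) cert 27904 :=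
  step hC (valid108 hC) J4CertMid13C2.just108 J4CertMid13C2.check108

theorem valid110 (hC : Ctx g base cert) : AllValid g (nodeVal g base cert) cert 28160 :=
  step hC (valid109 hC) J4CertMid13C2.just109 J4CertMid13C2.check109

theorem valid111 (hC : Ctx g base cert) : AllValid g (nodeVal g base cert) cert 28416 :=
  step hC (valid110 hC) J4CertMid13C2.just110 J4CertMid13C2.check110

theorem valid112 (hC : Ctx g base cert) : AllValid g (nodeVal g base cert) cert 28672 :=
  step hC (valid111 hC) J4CertMid13C2.just111 J4CertMid13C2.check111

theorem valid113 (hC : Ctx g base cert) : AllValid g (nodeVal g base cert) cert 28928 :=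
  step hC (valid112 hC) J4CertMid13C2.just112 J4CertMid13C2.check112

theorem valid114 (hC : Ctx g base cert) : AllValid g (nodeVal g base cert) cert 29184 :=
  step hC (valid113 hC) J4CertMid13C2.just113 J4CertMid13C2.check113

theorem valid115 (hC : Ctx g base cert) : AllValid g (nodeVal g base cert) cert 29440 :=
  step hC (valid114 hC) J4CertMid13C2.just114 J4CertMid13C2.check114

theorem valid116 (hC : Ctx g base cert) : AllValid g (nodeVal g base cert) cert 29696 :=
  step hC (valid115 hC) J4CertMid13C2.just115 J4CertMid13C2.check115

theorem valid117 (hC : Ctx g base cert) : AllValid g (nodeVal g base cert) cert 29952 :=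
  step hC (valid116 hC) J4CertMid13C2.just116 J4CertMid13C2.check116

theorem valid118 (hC : Ctx g base cert) : AllValid g (nodeVal g base cert) cert 30208 :=
  step hC (valid117 hC) J4CertMid13C2.just117 J4CertMid13C2.check117

theorem valid119 (hC : Ctx g base cert) : AllValid g (nodeVal g base cert) cert 30464 :=
  step hC (valid118 hC) J4CertMid13C2.just118 J4CertMid13C2.check118

theorem valid120 (hC : Ctx g base cert) : AllValid g (nodeVal g base cert) cert 30720 :=
  step hC (valid119 hC) J4CertMid13C2.just119 J4CertMid13C2.check119

theorem valid121 (hC : Ctx g base cert) : AllValid g (nodeVal g base cert) cert 30976 :=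
  step hC (valid120 hC) J4CertMid13C2.just120 J4CertMid13C2.check120

theorem valid122 (hC : Ctx g base cert) : AllValid g (nodeVal g base cert) cert 31232 :=
  step hC (valid121 hC) J4CertMid13C2.just121 J4CertMid13C2.check121

theorem valid123 (hC : Ctx g base cert) : AllValid g (nodeVal g base cert) cert 31488 :=
  step hC (valid122 hC) J4CertMid13C2.just122 J4CertMid13C2.check122

theorem valid124 (hC : Ctx g base cert) : AllValid g (nodeVal g base cert) cert 31744 :=
  step hC (valid123 hC) J4CertMid13C2.just123 J4CertMid13C2.check123

theorem valid125 (hC : Ctx g base cert) : AllValid g (nodeVal g base cert) cert 32000 :=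
  step hC (valid124 hC) J4CertMid13C2.just124 J4CertMid13C2.check124

theorem valid126 (hC : Ctx g base cert) : AllValid g (nodeVal g base cert) cert 32256 :=
  step hC (valid125 hC) J4CertMid13C2.just125 J4CertMid13C2.check125

theorem valid127 (hC : Ctx g base cert) : AllValid g (nodeVal g base cert) cert 32512 :=
  step hC (valid126 hC) J4CertMid13C2.just126 J4CertMid13C2.check126

theorem valid128 (hC : Ctx g base cert) : AllValid g (nodeVal g base cert) cert 32768 :=
  step hC (valid127 hC) J4CertMid13C2.just127 J4CertMid13C2.check127

theorem valid129 (hC : Ctx g base cert) : AllValid g (nodeVal g base cert) cert 33024 :=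
  step hC (valid128 hC) J4CertMid13C2.just128 J4CertMid13C2.check128

theorem valid130 (hC : Ctx g base cert) : AllValid g (nodeVal g base cert) cert 33280 :=
  step hC (valid129 hC) J4CertMid13C2.just129 J4CertMid13C2.check129

theorem valid131 (hC : Ctx g base cert) : AllValid g (nodeVal g base cert) cert 33536 :=
  step hC (valid130 hC) J4CertMid13C2.just130 J4CertMid13C2.check130

theorem valid132 (hC : Ctx g base cert) : AllValid g (nodeVal g base cert) cert 33792 :=
  step hC (valid131 hC) J4CertMid13C2.just131 J4CertMid13C2.check131

theorem valid133 (hC : Ctx g base cert) : AllValid g (nodeVal g base cert) cert 34048 :=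
  step hC (valid132 hC) J4CertMid13C2.just132 J4CertMid13C2.check132

theorem valid134 (hC : Ctx g base cert) : AllValid g (nodeVal g base cert) cert 34304 :=
  step hC (valid133 hC) J4CertMid13C2.just133 J4CertMid13C2.check133

theorem valid135 (hC : Ctx g base cert) : AllValid g (nodeVal g base cert) cert 34560 :=
  step hC (valid134 hC) J4CertMid13C2.just134 J4CertMid13C2.check134

theorem valid136 (hC : Ctx g base cert) : AllValid g (nodeVal g base cert) cert 34816 :=
  step hC (valid135 hC) J4CertMid13C2.just135 J4CertMid13C2.check135

theorem valid137 (hC : Ctx g base cert) : AllValid g (nodeVal g base cert) cert 35072 :=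
  step hC (valid136 hC) J4CertMid13C2.just136 J4CertMid13C2.check136

theorem valid138 (hC : Ctx g base cert) : AllValid g (nodeVal g base cert) cert 35328 :=
  step hC (valid137 hC) J4CertMid13C2.just137 J4CertMid13C2.check137

theorem valid139 (hC : Ctx g base cert) : AllValid g (nodeVal g base cert) cert 35584 :=
  step hC (valid138 hC) J4CertMid13C2.just138 J4CertMid13C2.check138

theorem valid140 (hC : Ctx g base cert) : AllValid g (nodeVal g base cert) cert 35840 :=
  step hC (valid139 hC) J4CertMid13C2.just139 J4CertMid13C2.check139

theorem valid141 (hC : Ctx g base cert) : AllValid g (nodeVal g base cert) cert 36096 :=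
  step hC (valid140 hC) J4CertMid13C2.just140 J4CertMid13C2.check140

theorem valid142 (hC : Ctx g base cert) : AllValid g (nodeVal g base cert) cert 36352 :=
  step hC (valid141 hC) J4CertMid13C2.just141 J4CertMid13C2.check141

theorem valid143 (hC : Ctx g base cert) : AllValid g (nodeVal g base cert) cert 36608 :=
  step hC (valid142 hC) J4CertMid13C2.just142 J4CertMid13C2.check142

theorem valid144 (hC : Ctx g base cert) : AllValid g (nodeVal g base cert) cert 36864 :=
  step hC (valid143 hC) J4CertMid13C2.just143 J4CertMid13C2.check143

theorem valid145 (hC : Ctx g base cert) : AllValid g (nodeVal g base cert) cert 37120 :=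
  step hC (valid144 hC) J4CertMid13C2.just144 J4CertMid13C2.check144

theorem valid146 (hC : Ctx g base cert) : AllValid g (nodeVal g base cert) cert 37376 :=
  step hC (valid145 hC) J4CertMid13C2.just145 J4CertMid13C2.check145

theorem valid147 (hC : Ctx g base cert) : AllValid g (nodeVal g base cert) cert 37632 :=
  step hC (valid146 hC) J4CertMid13C2.just146 J4CertMid13C2.check146

theorem valid148 (hC : Ctx g base cert) : AllValid g (nodeVal g base cert) cert 37888 :=
  step hC (valid147 hC) J4CertMid13C2.just147 J4CertMid13C2.check147

theorem valid149 (hC : Ctx g base cert) : AllValid g (nodeVal g base cert) cert 38144 :=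
  step hC (valid148 hC) J4CertMid13C2.just148 J4CertMid13C2.check148

theorem valid150 (hC : Ctx g base cert) : AllValid g (nodeVal g base cert) cert 38400 :=
  step hC (valid149 hC) J4CertMid13C2.just149 J4CertMid13C2.check149

theorem valid151 (hC : Ctx g base cert) : AllValid g (nodeVal g base cert) cert 38656 :=
  step hC (valid150 hC) J4CertMid13C3.just150 J4CertMid13C3.check150

theorem valid152 (hC : Ctx g base cert) : AllValid g (nodeVal g base cert) cert 38912 :=
  step hC (valid151 hC) J4CertMid13C3.just151 J4CertMid13C3.check151

theorem valid153 (hC : Ctx g base cert) : AllValid g (nodeVal g base cert) cert 39168 :=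
  step hC (valid152 hC) J4CertMid13C3.just152 J4CertMid13C3.check152

theorem valid154 (hC : Ctx g base cert) : AllValid g (nodeVal g base cert) cert 39424 :=
  step hC (valid153 hC) J4CertMid13C3.just153 J4CertMid13C3.check153

theorem valid155 (hC : Ctx g base cert) : AllValid g (nodeVal g base cert) cert 39680 :=
  step hC (valid154 hC) J4CertMid13C3.just154 J4CertMid13C3.check154

theorem valid156 (hC : Ctx g base cert) : AllValid g (nodeVal g base cert) cert 39936 :=
  step hC (valid155 hC) J4CertMid13C3.just155 J4CertMid13C3.check155

theorem valid157 (hC : Ctx g base cert) : AllValid g (nodeVal g base cert) cert 40192 :=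
  step hC (valid156 hC) J4CertMid13C3.just156 J4CertMid13C3.check156

theorem valid158 (hC : Ctx g base cert) : AllValid g (nodeVal g base cert) cert 40448 :=
  step hC (valid157 hC) J4CertMid13C3.just157 J4CertMid13C3.check157

theorem valid159 (hC : Ctx g base cert) : AllValid g (nodeVal g base cert) cert 40704 :=
  step hC (valid158 hC) J4CertMid13C3.just158 J4CertMid13C3.check158

theorem valid160 (hC : Ctx g base cert) : AllValid g (nodeVal g base cert) cert 40960 :=
  step hC (valid159 hC) J4CertMid13C3.just159 J4CertMid13C3.check159

theorem valid161 (hC : Ctx g base cert) : AllValid g (nodeVal g base cert) cert 41216 :=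
  step hC (valid160 hC) J4CertMid13C3.just160 J4CertMid13C3.check160

theorem valid162 (hC : Ctx g base cert) : AllValid g (nodeVal g base cert) cert 41472 :=
  step hC (valid161 hC) J4CertMid13C3.just161 J4CertMid13C3.check161

theorem valid163 (hC : Ctx g base cert) : AllValid g (nodeVal g base cert) cert 41728 :=
  step hC (valid162 hC) J4CertMid13C3.just162 J4CertMid13C3.check162

theorem valid164 (hC : Ctx g base cert) : AllValid g (nodeVal g base cert) cert 41984 :=
  step hC (valid163 hC) J4CertMid13C3.just163 J4CertMid13C3.check163

theorem valid165 (hC : Ctx g base cert) : AllValid g (nodeVal g base cert) cert 42240 :=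
  step hC (valid164 hC) J4CertMid13C3.just164 J4CertMid13C3.check164

theorem valid166 (hC : Ctx g base cert) : AllValid g (nodeVal g base cert) cert 42496 :=
  step hC (valid165 hC) J4CertMid13C3.just165 J4CertMid13C3.check165

theorem valid167 (hC : Ctx g base cert) : AllValid g (nodeVal g base cert) cert 42752 :=
  step hC (valid166 hC) J4CertMid13C3.just166 J4CertMid13C3.check166

theorem valid168 (hC : Ctx g base cert) : AllValid g (nodeVal g base cert) cert 43008 :=
  step hC (valid167 hC) J4CertMid13C3.just167 J4CertMid13C3.check167

theorem valid169 (hC : Ctx g base cert) : AllValid g (nodeVal g base cert) cert 43264 :=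
  step hC (valid168 hC) J4CertMid13C3.just168 J4CertMid13C3.check168

theorem valid170 (hC : Ctx g base cert) : AllValid g (nodeVal g base cert) cert 43520 :=
  step hC (valid169 hC) J4CertMid13C3.just169 J4CertMid13C3.check169

theorem valid171 (hC : Ctx g base cert) : AllValid g (nodeVal g base cert) cert 43776 :=
  step hC (valid170 hC) J4CertMid13C3.just170 J4CertMid13C3.check170

theorem valid172 (hC : Ctx g base cert) : AllValid g (nodeVal g base cert) cert 44032 :=
  step hC (valid171 hC) J4CertMid13C3.just171 J4CertMid13C3.check171

theorem valid173 (hC : Ctx g base cert) : AllValid g (nodeVal g base cert) cert 44288 :=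
  step hC (valid172 hC) J4CertMid13C3.just172 J4CertMid13C3.check172

theorem valid174 (hC : Ctx g base cert) : AllValid g (nodeVal g base cert) cert 44544 :=
  step hC (valid173 hC) J4CertMid13C3.just173 J4CertMid13C3.check173

theorem valid175 (hC : Ctx g base cert) : AllValid g (nodeVal g base cert) cert 44552 :=
  step hC (valid174 hC) J4CertMid13C3.just174 J4CertMid13C3.check174

theorem facts_ok (hC : Ctx g base cert) : AllValid g (nodeVal g base cert) cert 44552 := valid175 hC

theorem rows : rowsOk cert edges fin 44552 1771 8 1771 = true := by decide +kernel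

theorem fin_zero : entry fin 32 0 = 0 := by decide +kernel

end Cfsg.Agent.J4CertMid13
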