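import Cfsg.Agent.Lib.J4CertPair13C0

/-! The cosets of a cyclic group in the group on two generators. -/

set_option autoImplicit false
set_option maxRecDepth 100000
set_option Elab.async false

namespace Cfsg.Agent.J4CertPair13

open Cfsg.Agent.J1CertCore91 Cfsg.Agent.J4PresGen13

open Cfsg.Agent.J4CertPair13Data

theorem step {G X : Type} [Group G] [MulAction G X] {g : Nat → G} {base : X} (hC : Ctx g base cert)
    {lo n : Nat} (h : AllValid g (nodeVal g base cert) cert lo) (L : List Nat)
    (hn : (Nat.beq (lo + L.length) n && checkList cert L lo) = true) :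
    AllValid g (nodeVal g base cert) cert n := by
  rw [Bool.and_eq_true, Nat.beq_eq] at hn
  exact hn.1 ▸ checkList_sound g base hC L lo h hn.2

variable {G X : Type} [Group G] [MulAction G X] {g : Nat → G} {base : X}

theorem valid0 (_hC : Ctx g base cert) : AllValid g (nodeVal g base cert) cert 0 :=
  fun _ h => absurd h (Nat.not_lt_zero _)

theorem valid1 (hC : Ctx g base cert) : AllValid g (nodeVal g base cert) cert 256 :=
  step hC (valid0 hC) J4CertPair13C0.just0 J4CertPair13C0.check0

theorem valid2 (hC : Ctx g base cert) : AllValid g (nodeVal g base cert) cert 512 :=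
  step hC (valid1 hC) J4CertPair13C0.just1 J4CertPair13C0.check1

theorem valid3 (hC : Ctx g base cert) : AllValid g (nodeVal g base cert) cert 768 :=
  step hC (valid2 hC) J4CertPair13C0.just2 J4CertPair13C0.check2

theorem valid4 (hC : Ctx g base cert) : AllValid g (nodeVal g base cert) cert 1024 :=
  step hC (valid3 hC) J4CertPair13C0.just3 J4CertPair13C0.check3

theorem valid5 (hC : Ctx g base cert) : AllValid g (nodeVal g base cert) cert 1280 :=
  step hC (valid4 hC) J4CertPair13C0.just4 J4CertPair13C0.check4

theorem valid6 (hC : Ctx g base cert) : AllValid g (nodeVal g base cert) cert 1536 :=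
  step hC (valid5 hC) J4CertPair13C0.just5 J4CertPair13C0.check5

theorem valid7 (hC : Ctx g base cert) : AllValid g (nodeVal g base cert) cert 1792 :=
  step hC (valid6 hC) J4CertPair13C0.just6 J4CertPair13C0.check6

theorem valid8 (hC : Ctx g base cert) : AllValid g (nodeVal g base cert) cert 2048 :=
  step hC (valid7 hC) J4CertPair13C0.just7 J4CertPair13C0.check7

theorem valid9 (hC : Ctx g base cert) : AllValid g (nodeVal g base cert) cert 2304 :=
  step hC (valid8 hC) J4CertPair13C0.just8 J4CertPair13C0.check8

theorem valid10 (hC : Ctx g base cert) : AllValid g (nodeVal g base cert) cert 2560 :=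
  step hC (valid9 hC) J4CertPair13C0.just9 J4CertPair13C0.check9

theorem valid11 (hC : Ctx g base cert) : AllValid g (nodeVal g base cert) cert 2816 :=
  step hC (valid10 hC) J4CertPair13C0.just10 J4CertPair13C0.check10

theorem valid12 (hC : Ctx g base cert) : AllValid g (nodeVal g base cert) cert 3072 :=
  step hC (valid11 hC) J4CertPair13C0.just11 J4CertPair13C0.check11

theorem valid13 (hC : Ctx g base cert) : AllValid g (nodeVal g base cert) cert 3328 :=
  step hC (valid12 hC) J4CertPair13C0.just12 J4CertPair13C0.check12

theorem valid14 (hC : Ctx g base cert) : AllValid g (nodeVal g base cert) cert 3584 :=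
  step hC (valid13 hC) J4CertPair13C0.just13 J4CertPair13C0.check13

theorem valid15 (hC : Ctx g base cert) : AllValid g (nodeVal g base cert) cert 3840 :=
  step hC (valid14 hC) J4CertPair13C0.just14 J4CertPair13C0.check14

theorem valid16 (hC : Ctx g base cert) : AllValid g (nodeVal g base cert) cert 4096 :=
  step hC (valid15 hC) J4CertPair13C0.just15 J4CertPair13C0.check15

theorem valid17 (hC : Ctx g base cert) : AllValid g (nodeVal g base cert) cert 4352 :=
  step hC (valid16 hC) J4CertPair13C0.just16 J4CertPair13C0.check16

theorem valid18 (hC : Ctx g base cert) : AllValid g (nodeVal g base cert) cert 4608 :=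
  step hC (valid17 hC) J4CertPair13C0.just17 J4CertPair13C0.check17

theorem valid19 (hC : Ctx g base cert) : AllValid g (nodeVal g base cert) cert 4864 :=
  step hC (valid18 hC) J4CertPair13C0.just18 J4CertPair13C0.check18

theorem valid20 (hC : Ctx g base cert) : AllValid g (nodeVal g base cert) cert 5120 :=
  step hC (valid19 hC) J4CertPair13C0.just19 J4CertPair13C0.check19

theorem valid21 (hC : Ctx g base cert) : AllValid g (nodeVal g base cert) cert 5376 :=
  step hC (valid20 hC) J4CertPair13C0.just20 J4CertPair13C0.check20

theorem valid22 (hC : Ctx g base cert) : AllValid g (nodeVal g base cert) cert 5632 :=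
  step hC (valid21 hC) J4CertPair13C0.just21 J4CertPair13C0.check21

theorem valid23 (hC : Ctx g base cert) : AllValid g (nodeVal g base cert) cert 5888 :=
  step hC (valid22 hC) J4CertPair13C0.just22 J4CertPair13C0.check22

theorem valid24 (hC : Ctx g base cert) : AllValid g (nodeVal g base cert) cert 6144 :=
  step hC (valid23 hC) J4CertPair13C0.just23 J4CertPair13C0.check23

theorem valid25 (hC : Ctx g base cert) : AllValid g (nodeVal g base cert) cert 6400 :=
  step hC (valid24 hC) J4CertPair13C0.just24 J4CertPair13C0.check24

theorem valid26 (hC : Ctx g base cert) : AllValid g (nodeVal g base cert) cert 6656 :=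
  step hC (valid25 hC) J4CertPair13C0.just25 J4CertPair13C0.check25

theorem valid27 (hC : Ctx g base cert) : AllValid g (nodeVal g base cert) cert 6912 :=
  step hC (valid26 hC) J4CertPair13C0.just26 J4CertPair13C0.check26

theorem valid28 (hC : Ctx g base cert) : AllValid g (nodeVal g base cert) cert 7168 :=
  step hC (valid27 hC) J4CertPair13C0.just27 J4CertPair13C0.check27

theorem valid29 (hC : Ctx g base cert) : AllValid g (nodeVal g base cert) cert 7424 :=
  step hC (valid28 hC) J4CertPair13C0.just28 J4CertPair13C0.check28

theorem valid30 (hC : Ctx g base cert) : AllValid g (nodeVal g base cert) cert 7680 :=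
  step hC (valid29 hC) J4CertPair13C0.just29 J4CertPair13C0.check29

theorem valid31 (hC : Ctx g base cert) : AllValid g (nodeVal g base cert) cert 7936 :=
  step hC (valid30 hC) J4CertPair13C0.just30 J4CertPair13C0.check30

theorem valid32 (hC : Ctx g base cert) : AllValid g (nodeVal g base cert) cert 8192 :=
  step hC (valid31 hC) J4CertPair13C0.just31 J4CertPair13C0.check31

theorem valid33 (hC : Ctx g base cert) : AllValid g (nodeVal g base cert) cert 8448 :=
  step hC (valid32 hC) J4CertPair13C0.just32 J4CertPair13C0.check32

theorem valid34 (hC : Ctx g base cert) : AllValid g (nodeVal g base cert) cert 8704 :=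
  step hC (valid33 hC) J4CertPair13C0.just33 J4CertPair13C0.check33

theorem valid35 (hC : Ctx g base cert) : AllValid g (nodeVal g base cert) cert 8960 :=
  step hC (valid34 hC) J4CertPair13C0.just34 J4CertPair13C0.check34

theorem valid36 (hC : Ctx g base cert) : AllValid g (nodeVal g base cert) cert 9216 :=
  step hC (valid35 hC) J4CertPair13C0.just35 J4CertPair13C0.check35

theorem valid37 (hC : Ctx g base cert) : AllValid g (nodeVal g base cert) cert 9472 :=
  step hC (valid36 hC) J4CertPair13C0.just36 J4CertPair13C0.check36

theorem valid38 (hC : Ctx g base cert) : AllValid g (nodeVal g base cert) cert 9728 :=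
  step hC (valid37 hC) J4CertPair13C0.just37 J4CertPair13C0.check37

theorem valid39 (hC : Ctx g base cert) : AllValid g (nodeVal g base cert) cert 9984 :=
  step hC (valid38 hC) J4CertPair13C0.just38 J4CertPair13C0.check38

theorem valid40 (hC : Ctx g base cert) : AllValid g (nodeVal g base cert) cert 10240 :=
  step hC (valid39 hC) J4CertPair13C0.just39 J4CertPair13C0.check39

theorem valid41 (hC : Ctx g base cert) : AllValid g (nodeVal g base cert) cert 10496 :=
  step hC (valid40 hC) J4CertPair13C0.just40 J4CertPair13C0.check40

theorem valid42 (hC : Ctx g base cert) : AllValid g (nodeVal g base cert) cert 10752 :=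
  step hC (valid41 hC) J4CertPair13C0.just41 J4CertPair13C0.check41

theorem valid43 (hC : Ctx g base cert) : AllValid g (nodeVal g base cert) cert 11008 :=
  step hC (valid42 hC) J4CertPair13C0.just42 J4CertPair13C0.check42

theorem valid44 (hC : Ctx g base cert) : AllValid g (nodeVal g base cert) cert 11264 :=
  step hC (valid43 hC) J4CertPair13C0.just43 J4CertPair13C0.check43

theorem valid45 (hC : Ctx g base cert) : AllValid g (nodeVal g base cert) cert 11520 :=
  step hC (valid44 hC) J4CertPair13C0.just44 J4CertPair13C0.check44

theorem valid46 (hC : Ctx g base cert) : AllValid g (nodeVal g base cert) cert 11776 :=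
  step hC (valid45 hC) J4CertPair13C0.just45 J4CertPair13C0.check45

theorem valid47 (hC : Ctx g base cert) : AllValid g (nodeVal g base cert) cert 12032 :=
  step hC (valid46 hC) J4CertPair13C0.just46 J4CertPair13C0.check46

theorem valid48 (hC : Ctx g base cert) : AllValid g (nodeVal g base cert) cert 12288 :=
  step hC (valid47 hC) J4CertPair13C0.just47 J4CertPair13C0.check47

theorem valid49 (hC : Ctx g base cert) : AllValid g (nodeVal g base cert) cert 12289 :=
  step hC (valid48 hC) J4CertPair13C0.just48 J4CertPair13C0.check48

theorem facts_ok (hC : Ctx g base cert) : AllValid g (nodeVal g base cert) cert 12289 := valid49 hC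

theorem rows : rowsOk cert edges fin 12289 5760 4 5760 = true := by decide +kernel

theorem fin_zero : entry fin 32 0 = 0 := by decide +kernel

end Cfsg.Agent.J4CertPair13
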