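import Cfsg.Agent.Lib.J4CertTop13C0

/-! The 24 cosets of the subgroup on four generators. -/

set_option autoImplicit false
set_option maxRecDepth 100000
set_option Elab.async false

namespace Cfsg.Agent.J4CertTop13

open Cfsg.Agent.J1CertCore91 Cfsg.Agent.J4PresGen13

open Cfsg.Agent.J4CertTop13Data

theorem step {G X : Type} [Group G] [MulAction G X] {g : Nat → G} {base : X} (hC : Ctx g base cert)
    {lo n : Nat} (h : AllValid g (nodeVal g base cert) cert lo) (L : List Nat)
    (hn : (Nat.beq (lo + L.length) n && checkList cert L lo) = true) :
    AllValid g (nodeVal g base cert) cert n := by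
  rw [Bool.and_eq_true, Nat.beq_eq] at hn
  exact hn.1 ▸ checkList_sound g base hC L lo h hn.2

variable {G X : Type} [Group G] [MulAction G X] {g : Nat → G} {base : X}

theorem valid0 (_hC : Ctx g base cert) : AllValid g (nodeVal g base cert) cert 0 :=
  fun _ h => absurd h (Nat.not_lt_zero _)

theorem valid1 (hC : Ctx g base cert) : AllValid g (nodeVal g base cert) cert 48 :=
  step hC (valid0 hC) J4CertTop13C0.just0 J4CertTop13C0.check0

theorem facts_ok (hC : Ctx g base cert) : AllValid g (nodeVal g base cert) cert 48 := valid1 hC

theorem rows : rowsOk cert edges fin 48 24 4 24 = true := by decide +kernel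

theorem fin_zero : entry fin 32 0 = 0 := by decide +kernel

end Cfsg.Agent.J4CertTop13
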