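import Cfsg.Agent.Lib.J4CertTop13Data

/-! The 24 cosets of the subgroup on four generators. -/

set_option autoImplicit false
set_option maxRecDepth 100000
set_option Elab.async false

namespace Cfsg.Agent.J4CertTop13C0

open Cfsg.Agent.J1CertCore91 Cfsg.Agent.J4PresGen13

open Cfsg.Agent.J4CertTop13Data

/-- Justifications from fact 0. -/
noncomputable def just0 : List Nat :=
  [0x0,
   0x0,
   0x10000000000000010040020030a,
   0x0,
   0x0,
   0x400003000000000000003000040060030040b,
   0x0,
   0x0,
   0x0,
   0x0,
   0x0,
   0x0,
   0x0,
   0x0,
   0xd0000c0000b0000a00009000080000700006000060000700008000090000a0000b0000c0000d0100080090c,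
   0x0,
   0x0,
   0x0,
   0x11000100000f0000b0000a00009000080000700006000060000700008000090000a0000b0000f01000700a0d,
   0x30000000200000304,
   0x100100000203,
   0x400100000203,
   0x600100000203,
   0x800100000203,
   0xa00100000203,
   0xc0000b00200000304,
   0xd00100000203,
   0xf00100000203,
   0x100001200200100204,
   0x1100100000203,
   0x0,
   0x70001e00200000304,
   0x0,
   0x90002000200000304,
   0x0,
   0x2200100000203,
   0x220001f0001700009000180000b0001b00012000110001c000110001c00011000100000f0000c0001a0000e0000d0000c0001b000100001d0001c0001d0001c0001d000120000f0000b0000a00009000080001f0002302302000409,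
   0x0,
   0x2500100000203,
   0x0,
   0x0,
   0x270002800200000304,
   0x0,
   0x2a00100000203,
   0x2a000270002500020000170001f0002200024000220001f00017000090000a0000b0000f0001200011000100000f0000c0000d0000e0001a0000c0001b00012000110001c0001d0001c0001d000100000f0000b0000a0002100025000270002a02702000807,
   0x0,
   0x2d00100000203,
   0x2d000290002b0002c0002a00027000250002100018000190001a0000e0000d0000c0001b0001200011000100000f0000b0000a00009000080000700006000130001500005000040000300014000020000100000000160001e0002300024000220001f000170002000026000280002e02d02c00205]

theorem check0 : (Nat.beq (0 + just0.length) 48 && checkList cert just0 0) = true := by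
  decide +kernel

end Cfsg.Agent.J4CertTop13C0
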