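import Cfsg.Agent.Lib.J4PresGen13

/-! The 24 cosets of the subgroup on four generators. -/

set_option autoImplicit false
set_option maxRecDepth 100000
set_option Elab.async false

namespace Cfsg.Agent.J4CertTop13Data

open Cfsg.Agent.J1CertCore91 Cfsg.Agent.J4PresGen13

/-- The certificate. -/
noncomputable def cert : Cert where
  F := (.leaf 0x1700001740000000170000152000000017000015100000001600001640000000160000142000000016000014100000001400001540000000150000134000000014000013300000001300001120000000130000111000000012000012400000001200001020000000120000101000000008000011400000001100000740000000060000104000000010000005400000000f00000e200000000e00000f400000000d00000a200000000c00000b200000000b000009400000000900000820000000070000062000000005000000200000000400000320000000020000012000000003000000400000000f00000d400000000f00000e100000000e00000d300000000d00000a100000000c00000c400000000c00000b100000000b00000a300000000a000009300000000900000810000000080000073000000007000006100000000600000530000000050000001000000004000004400000000400000310000000030000013000000002000002400000000200000110000000010000003)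
  D := (.leaf 0x2d0000002a00000028000000270000002500000022000000200000001e00000011000000100000000f0000000d0000000c0000000b0000000a000000090000000800000007000000060000000400000003000000010000000000000000)
  rels := [[0, 0], [2, 2, 2], [0, 2, 0, 2, 0, 2, 0, 2, 0, 2, 0, 2, 0, 2, 0, 2, 0, 2, 0, 2, 0, 2, 0, 2, 0, 2, 0, 2, 0, 2, 0, 2, 0, 2, 0, 2, 0, 2, 0, 2, 0, 2, 0, 2, 0, 2], [1, 3, 0, 2, 1, 3, 0, 2, 1, 3, 0, 2, 1, 3, 0, 2, 1, 3, 0, 2, 1, 3, 0, 2, 1, 3, 0, 2, 1, 3, 0, 2, 1, 3, 0, 2, 1, 3, 0, 2, 1, 3, 0, 2, 1, 3, 0, 2], [1, 3, 1, 3, 0, 2, 0, 2, 1, 3, 1, 3, 0, 2, 0, 2, 1, 3, 1, 3, 0, 2, 0, 2, 1, 3, 1, 3, 0, 2, 0, 2, 1, 3, 1, 3, 0, 2, 0, 2], [0, 2, 0, 2, 0, 3, 0, 2, 0, 3, 0, 2, 0, 3, 0, 2, 0, 2, 0, 3, 0, 2, 0, 3, 0, 2, 0, 3, 0, 2, 0, 2, 0, 3, 0, 2, 0, 3, 0, 2, 0, 3, 0, 2, 0, 2, 0, 3, 0, 2, 0, 3, 0, 2, 0, 3], [0, 2, 0, 2, 0, 3, 0, 2, 0, 2, 0, 3, 0, 2, 0, 2, 0, 3, 0, 2, 0, 3, 0, 3, 0, 2, 0, 3, 0, 3, 0, 2, 0, 3, 0, 3]]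
  sgens := [[2, 0, 2, 1, 3], [2, 2, 0, 2, 1, 3, 3], [0, 2, 0, 2, 0, 2, 2, 0, 2, 1, 3, 3, 1, 3, 1, 3, 1], [0, 2, 0, 2, 0, 2, 0, 2, 0, 2, 1, 3, 1, 3, 1, 3, 1]]

/-- The final nodes. -/
noncomputable def fin : Tbl := (.leaf 0x17000000160000001500000014000000130000001200000011000000100000000f0000000e0000000d0000000c0000000b0000000a00000009000000080000000700000006000000050000000400000003000000020000000100000000)

/-- The final table. -/
noncomputable def edges : Tbl := (.leaf 0x170002f00000170002f00000150002d00000150002e00000160002c00000160002c00000140002a00000140002b00000140002900000130002800000170002e00000170002d00000130002700000150002900000160002b00000160002a00000150002800000140002700000110002500000110002600000120002400000120002400000100002200000100002300000080002100000070002000000130002600000130002500000060001f00000050001e000001200023000001200022000000e0001c000000d00012000000e00011000000e0001d000000d00010000000f0001c000000f0001d000000f00011000000f00012000000e00010000000a0000f000000a0001b000000c0000e000000c0000e000000b0000d000000b0001a000000a0000c000000900019000000c0001a000000c0000d00000090000b000000b0000c000000d0001b000000d0000f000000b00019000000a0000b00000080000a00000080001800000070000900000110002100000090001800000090000a00000110002000000080000900000060000800000060001700000050000700000100001f00000070001700000070000800000100001e000000600007000000000006000000000016000000400005000000400005000000300004000000300015000000100003000000000013000000400015000000400004000000200002000000200002000000100001000000100014000000000000000000300003000000200014000000200001000000300013000000100000000000500016000000500006)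

end Cfsg.Agent.J4CertTop13Data
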