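import Mathlib
import Cfsg.Agent.Lib.LFCheck89

/-!
Coded generators of the six-dimensional triple cover of `M22` inside `SU₆(2)` in an orthonormal
basis, with the tables that pin them down from their relations.
-/

set_option autoImplicit false
set_option maxRecDepth 100000

namespace Cfsg.Agent.J4Code85

open Cfsg.Agent.LFCheck89 (dig scal col app mulM idM qpar allBelow)

/-- the element of order eleven -/
def cX : ℕ := 1549801288075998380033
/-- the element of order five normalising it -/
def cY : ℕ := 3367071465424897703937
/-- the element of order four normalising the latter -/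
def cV : ℕ := 1743975370890680615248
/-- the scalar -/
def cS : ℕ := 2361327365419528388610
/-- inverse of the basis adapted to `cY` -/
def cB : ℕ := 793512968081907974145
/-- fixed vectors of `cY` of norm one -/
def lFix : List ℕ := [1, 2, 3, 336, 672, 1008]
/-- vectors generating the moved space like the base one -/
def lGen : List ℕ := [4, 8, 12, 92, 164, 248, 332, 644, 968, 1184, 1344, 2288, 2688, 3152, 4032]
/-- the elements commuting with `cX` and `cY`, with their inverses -/
def lCom : List (ℕ × ℕ) := [(1180663682709764194305, 1180663682709764194305), (1180663682709764194306, 1180663682709764194307), (1180663682709764194307, 1180663682709764194306)]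

/-- powers -/
def cpow (g : ℕ) : ℕ → ℕ
  | 0 => idM
  | n + 1 => mulM g (cpow g n)

/-- six columns -/
def pack (a b c d e f : ℕ) : ℕ :=
  a + b * 2 ^ 12 + c * 2 ^ 24 + d * 2 ^ 36 + e * 2 ^ 48 + f * 2 ^ 60

/-- the images of a vector under the first four powers of `cY` -/
def yImg (c : ℕ) : ℕ × ℕ × ℕ × ℕ :=
  (c, app cY c, app cY (app cY c), app cY (app cY (app cY c)))

/-- the adapted basis -/
def cBase : ℕ := pack 1 336 4 (app cY 4) (app cY (app cY 4))
  (app cY (app cY (app cY 4)))

/-- fixed of norm one -/
def fixTest (c : ℕ) : Bool := Nat.beq (app cY c) c && qpar c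

/-- behaves like the base generator of the moved space -/
def genTest (c : ℕ) : Bool :=
  let y1 := app cY c
  let y2 := app cY y1
  let y3 := app cY y2
  let y4 := app cY y3
  Nat.beq (Nat.xor (Nat.xor (Nat.xor (Nat.xor c y1) y2) y3) y4) 0 &&
  (qpar c == qpar 4) &&
  (qpar (Nat.xor c y1) == qpar (Nat.xor 4 (app cY 4))) &&
  (qpar (Nat.xor (scal c) y1) == qpar (Nat.xor (scal 4) (app cY 4))) &&
  (qpar (Nat.xor c y2) == qpar (Nat.xor 4 (app cY (app cY 4)))) &&
  (qpar (Nat.xor (scal c) y2) == qpar (Nat.xor (scal 4) (app cY (app cY 4))))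

/-- orthogonal vectors of norm one -/
def orthTest (a b : ℕ) : Bool := !qpar (Nat.xor a b) && !qpar (Nat.xor (scal a) b)

/-- a scalar -/
def scalarTest (g : ℕ) : Bool :=
  Nat.beq g (cpow cS 0) || Nat.beq g (cpow cS 1) || Nat.beq g (cpow cS 2)

/-- the candidate from the images of the adapted basis -/
def cand (a b c : ℕ) : ℕ :=
  mulM (mulM (pack a b c (app cY c) (app cY (app cY c)) (app cY (app cY (app cY c)))) cB) cV

/-- a candidate passes -/
def candOK (g : ℕ) : Bool :=
  !(Nat.beq (cpow g 4) idM && scalarTest (cpow (mulM (mulM cX cY) g) 11)) ||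
    lCom.any fun p => Nat.beq g (mulM (mulM p.1 cV) p.2)

/-- preserves the norm -/
def normTest (g : ℕ) : Bool := allBelow (fun c => qpar (app g c) == qpar c) 4096

/-- the trace code -/
def trc (g : ℕ) : ℕ :=
  Nat.xor (Nat.xor (Nat.xor (Nat.xor (Nat.xor (dig (col g 0) 0) (dig (col g 1) 1))
    (dig (col g 2) 2)) (dig (col g 3) 3)) (dig (col g 4) 4)) (dig (col g 5) 5)

theorem fix_complete : allBelow (fun c => !fixTest c || lFix.elem c) 4096 = true := by decide +kernel

theorem gen_complete : allBelow (fun c => !genTest c || lGen.elem c) 4096 = true := by decide +kernel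

theorem cand_complete :
    (lFix.all fun a => lFix.all fun b => !orthTest a b || lGen.all fun c => candOK (cand a b c)) = true := by
  decide +kernel

theorem norm_X : normTest cX = true := by decide +kernel

theorem norm_Y : normTest cY = true := by decide +kernel

theorem norm_V : normTest cV = true := by decide +kernel

theorem norm_com : (lCom.all fun p => normTest p.1 && normTest p.2) = true := by decide +kernel

theorem rel_X : cpow cX 11 = idM ∧ cX ≠ idM := by decide +kernel

theorem rel_Y : cpow cY 5 = idM ∧ cY ≠ idM ∧ mulM cY cX = mulM (cpow cX 4) cY := by decide +kernel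

theorem rel_V : cpow cV 4 = idM ∧ mulM cV cY = mulM (cpow cY 2) cV := by decide +kernel

theorem base_inv : mulM cBase cB = idM := by decide +kernel

theorem base_col : col cBase 0 = 1 ∧ col cBase 1 = 336 ∧ col cBase 2 = 4 ∧
    col cBase 3 = app cY 4 ∧ col cBase 4 = app cY (app cY 4) ∧
    col cBase 5 = app cY (app cY (app cY 4)) := by decide +kernel

theorem base_fix : fixTest 1 = true ∧ fixTest 336 = true ∧ orthTest 1 336 = true ∧
    genTest 4 = true := by decide +kernel

theorem com_ok : (lCom.all fun p => Nat.beq (mulM p.1 p.2) idM && Nat.beq (mulM p.2 p.1) idM &&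
    Nat.beq (mulM p.1 cX) (mulM cX p.1) && Nat.beq (mulM p.1 cY) (mulM cY p.1) &&
    Nat.blt p.1 (2 ^ 72) && Nat.blt p.2 (2 ^ 72)) = true := by decide +kernel

theorem trace_ok : ([2, 6, 7, 8, 10].all fun k => !Nat.beq (trc (cpow cX k)) (trc cX)) = true := by
  decide +kernel

end Cfsg.Agent.J4Code85
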