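import Mathlib
import Cfsg.Agent.Lib.LFCheck89
import Cfsg.Agent.Lib.J4Data18
import Cfsg.Agent.Lib.J4Code85

/-!
Checks on the coded Sylow 2-subgroup of the six-dimensional triple cover of `M22`.
-/

set_option autoImplicit false
set_option maxRecDepth 100000

namespace Cfsg.Agent.J4Check18

open Cfsg.Agent.J4Data18
open Cfsg.Agent.LFCheck89 (dig scal sel col app mulM idM qpar allBelow allBelow_spec mem)

/-- the value of a word -/
def word (w : List ℕ) : ℕ := w.foldr (fun k r => mulM (genC.getD k 0) r) idM

/-- an element of the Sylow subgroup -/
def el (i : ℕ) : ℕ := sylEl.getD i 0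

/-- the product of two indices -/
def tab (i j : ℕ) : ℕ := Nat.land (Nat.shiftRight (tabRow.getD i 0) (Nat.mul 7 j)) 127

theorem genC_eq : genC = [J4Code85.cX, J4Code85.cY, J4Code85.cV, J4Code85.cS] := by decide +kernel

theorem sylWord_ok : ∀ k < 7, (sylWord.getD k []).all (fun x => Nat.blt x 4) = true ∧
    word (sylWord.getD k []) = sylGen.getD k 0 := by decide +kernel

theorem el_zero : el 0 = idM := by decide +kernel

theorem el_bound : ∀ i < 128, el i < 2 ^ 72 := by decide +kernel

/-- the steps defining the elements -/
def elStep : Bool :=
  allBelow (fun k => allBelow (fun j => Nat.beq (el (2 ^ k + j)) (mulM (sylGen.getD k 0) (el j)))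
    (2 ^ k)) 7

theorem elStep_ok : elStep = true := by decide +kernel

/-- the table is right on the generators and extends by recursion -/
def tabStep : Bool :=
  allBelow (fun i => Nat.beq (tab i 0) i && allBelow (fun k =>
    Nat.beq (mulM (el i) (sylGen.getD k 0)) (el (tab i (2 ^ k))) &&
    allBelow (fun j => Nat.beq (tab i (2 ^ k + j)) (tab (tab i (2 ^ k)) j)) (2 ^ k)) 7) 128

theorem tabStep_ok : tabStep = true := by decide +kernel

/-- the elements are different -/
def elDistinct : Bool :=
  allBelow (fun i => allBelow (fun j => !Nat.beq (el i) (el j)) i) 128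

theorem elDistinct_ok : elDistinct = true := by decide +kernel

/-- the indices of the involutions -/
def invs : List ℕ := (List.range 128).filter fun i => !Nat.beq i 0 && Nat.beq (tab i i) 0

/-- commuting indices -/
def comm (a b : ℕ) : Bool := Nat.beq (tab a b) (tab b a)

/-- the span after adding one element -/
def span (K : List ℕ) (d : ℕ) : List ℕ := K ++ K.map (tab d)

/-- same elements -/
def same (K E : List ℕ) : Bool := K.all fun x => mem x E

/-- every elementary abelian subgroup of order 16 is one of the two -/
def sixteenOK : Bool :=
  invs.all fun a => invs.all fun b => !(Nat.blt a b && comm a b) ||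
    let K2 := span [0, a] b
    invs.all fun c => !(Nat.blt b c && comm a c && comm b c && !mem c K2) ||
      let K3 := span K2 c
      invs.all fun d => !(Nat.blt c d && comm a d && comm b d && comm c d && !mem d K3) ||
        let K4 := span K3 d
        same K4 eOne || same K4 eTwo

theorem sixteen_ok : sixteenOK = true := by decide +kernel

/-- the table on the first subgroup is the bitwise sum -/
theorem tab_eOne : ∀ i < 16, ∀ j < 16, tab i j = Nat.xor i j := by decide +kernel

theorem eOne_facts : (∀ i ∈ eOne, tab i i = 0 ∧ ∀ j ∈ eOne, tab i j ∈ eOne ∧ tab i j = tab j i) ∧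
    eOne.length = 16 ∧ eOne.Nodup ∧ (∀ i ∈ eOne, i < 128) := by decide +kernel

theorem eTwo_facts : eTwo.length = 16 ∧ eTwo.Nodup ∧ (∀ i ∈ eTwo, i < 128) := by decide +kernel

/-- fixed by all elements of a list -/
def fixes (E : List ℕ) (c : ℕ) : Bool := E.all fun e => Nat.beq (app (el e) c) c

/-- the fixed spaces -/
def fixOK : Bool :=
  decide uList.Nodup && Nat.beq uList.length 64 &&
    uList.all (fun c => Nat.blt c 4096 && fixes eOne c && !qpar c) &&
    allBelow (fun c => !fixes eOne c || mem c uList) 4096 &&
    Nat.ble ((List.range 4096).filter (fixes eTwo)).length 4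

theorem fix_ok : fixOK = true := by decide +kernel

/-- an involution of the Sylow subgroup has a commutator space of order at least 16 -/
def rankOK : Bool :=
  invs.all fun i => (List.range 6).any fun a => (List.range 6).any fun b =>
    allBelow (fun x => allBelow (fun y => (Nat.beq x 0 && Nat.beq y 0) ||
      !Nat.beq (Nat.xor (sel x (Nat.xor (col (el i) a) (col idM a)))
        (sel y (Nat.xor (col (el i) b) (col idM b)))) 0) 4) 4

theorem rank_ok : rankOK = true := by decide +kernel

/-- the codes normalising the first subgroup: two further elements and the Sylow generators -/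
def normC : List ℕ := trC ++ sylGen

/-- they normalise, and the first two are given by their words -/
def normOK : Bool :=
  (normC.all fun m => eOne.all fun e => eOne.any fun e' => Nat.beq (mulM m (el e)) (mulM (el e') m)) &&
  allBelow (fun k => (trWord.getD k []).all (fun x => Nat.blt x 4) &&
    Nat.beq (word (trWord.getD k [])) (trC.getD k 0)) 2 && Nat.beq trC.length 2

theorem norm_ok : normOK = true := by decide +kernel

/-- one step of the closure on the indices of the first subgroup -/
def eStep (l : List ℕ) : List ℕ :=
  (l ++ eOne.filter fun e' => l.any fun e => normC.any fun m =>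
    Nat.beq (mulM m (el e)) (mulM (el e') m)).dedup

/-- transitivity on the involutions of the first subgroup -/
def transOK : Bool := Nat.beq (eStep (eStep (eStep (eStep (eStep (eStep [1])))))).length 15

theorem trans_ok : transOK = true := by decide +kernel

/-- one step of the closure inside a list of vectors -/
def uStep (u l : List ℕ) : List ℕ :=
  (l ++ u.filter fun c => l.any fun d =>
    (normC.any fun m => Nat.beq (app m d) c) || Nat.beq (scal d) c).dedup

/-- the two orbits on the fixed space -/
def orbOK : Bool :=
  u18.all (fun c => mem c (uStep u18 (uStep u18 (uStep u18 (uStep u18 [u18.getD 0 0]))))) &&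
  u45.all (fun c => mem c (uStep u45 (uStep u45 (uStep u45 (uStep u45 [u45.getD 0 0]))))) &&
  decide u18.Nodup && decide u45.Nodup && Nat.beq u18.length 18 && Nat.beq u45.length 45 &&
  uList.all (fun c => Nat.beq c 0 || mem c u18 || mem c u45) &&
  u18.all (fun c => mem c uList && !Nat.beq c 0 && !mem c u45) &&
  u45.all (fun c => mem c uList && !Nat.beq c 0)

theorem orb_ok : orbOK = true := by decide +kernel

/-- membership in a level -/
def inL (k c : ℕ) : Bool := Nat.testBit (levels.getD k 0) c

/-- each level moves into the previous one and the last one has all singular vectors -/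
def reachOK : Bool :=
  allBelow (fun c => !inL 0 c || mem c uList) 4096 &&
  allBelow (fun k => allBelow (fun c => !inL (k + 1) c || inL k c ||
    genC.any (fun g => inL k (app g c))) 4096) (levels.length - 1) &&
  allBelow (fun c => qpar c || inL (levels.length - 1) c) 4096

theorem reach_ok : reachOK = true := by decide +kernel

end Cfsg.Agent.J4Check18
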