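import Mathlib

/-!
Data for coordinates of the elementary abelian subgroup of order `2 ^ 11`: bases, permutations of the
first subgroup by the normalising maps, orbits of pairs, sign functions and preimages.
-/

set_option autoImplicit false
set_option maxRecDepth 100000

namespace Cfsg.Agent.J4CoordData97

/-- the basis of the fixed space adapted to the low six bits -/
def ub : List ℕ := [1985, 2370, 1604, 2952, 2768, 3936]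

/-- the permutations of the first subgroup by the normalising maps -/
def perms : List (List ℕ) := [[0, 7, 5, 2, 8, 15, 13, 10, 9, 14, 12, 11, 1, 6, 4, 3], [0, 6, 9, 15, 14, 8, 7, 1, 13, 11, 4, 2, 3, 5, 10, 12], [0, 1, 2, 3, 4, 5, 6, 7, 8, 9, 10, 11, 12, 13, 14, 15], [0, 1, 2, 3, 4, 5, 6, 7, 8, 9, 10, 11, 12, 13, 14, 15], [0, 1, 2, 3, 4, 5, 6, 7, 8, 9, 10, 11, 12, 13, 14, 15], [0, 1, 2, 3, 4, 5, 6, 7, 8, 9, 10, 11, 12, 13, 14, 15], [0, 13, 5, 8, 15, 2, 10, 7, 3, 14, 6, 11, 12, 1, 9, 4], [0, 3, 14, 13, 10, 9, 4, 7, 1, 2, 15, 12, 11, 8, 5, 6], [0, 4, 2, 6, 1, 5, 3, 7, 10, 14, 8, 12, 11, 15, 9, 13]]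

/-- an orbit of pairs, with the map and the parent -/
def orb0 : List (ℕ × ℕ × ℕ × ℕ) := [(1, 4, 0, 0), (7, 8, 0, 0), (6, 14, 1, 0), (13, 15, 6, 0), (3, 10, 7, 0), (4, 1, 8, 0), (10, 9, 0, 1), (1, 13, 1, 1), (7, 3, 6, 1), (7, 1, 7, 1), (7, 10, 8, 1), (13, 4, 0, 2), (4, 5, 7, 2), (3, 9, 8, 2), (6, 3, 0, 3), (5, 12, 1, 3), (8, 6, 7, 3), (15, 13, 8, 3), (2, 12, 0, 4), (15, 4, 1, 4), (6, 8, 8, 4), (8, 7, 0, 5), (14, 6, 1, 5), (10, 3, 7, 5), (12, 14, 0, 6), (4, 11, 1, 6), (15, 2, 7, 6), (8, 14, 8, 6), (7, 6, 0, 7), (6, 5, 1, 7), (13, 1, 6, 7), (3, 8, 7, 7), (4, 15, 8, 7), (10, 2, 0, 8), (1, 15, 1, 8), (7, 13, 7, 8), (10, 7, 0, 9), (1, 6, 1, 9), (7, 4, 8, 9), (10, 12, 0, 10), (7, 15, 7, 10), (5, 14, 1, 11), (8, 10, 7, 11), (15, 1, 8, 11), (8, 15, 0, 12), (14, 8, 1, 12), (1, 5, 8, 12), (2, 14, 0, 13), (15, 11, 1,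 13), (13, 2, 7, 13), (10, 8, 6, 14), (4, 13, 7, 14), (3, 6, 8, 14), (8, 3, 1, 15), (9, 11, 7, 15), (5, 11, 8, 15), (9, 13, 0, 16), (13, 7, 1, 16), (12, 5, 1, 17), (5, 1, 0, 18), (9, 3, 1, 18), (14, 11, 7, 18), (2, 11, 8, 18), (6, 10, 7, 19), (13, 9, 0, 20), (9, 10, 0, 21), (3, 7, 6, 21), (1, 7, 7, 21), (5, 4, 7, 22), (12, 2, 0, 23), (12, 9, 6, 24), (11, 5, 7, 24), (11, 9, 8, 24), (8, 11, 0, 25), (14, 2, 1, 25), (1, 12, 8, 25), (3, 5, 0, 26), (9, 4, 0, 27), (13, 10, 1, 27), (10, 13, 0, 28), (4, 9, 7, 29), (6, 7, 0, 30), (5, 6, 1, 30), (2, 9, 0, 31), (14, 12, 1, 32), (10, 6, 7, 32), (15, 14, 7, 33), (8, 2, 8, 33), (6, 12, 1, 34), (12, 10, 0, 36), (15, 7, 7, 36), (3, 4, 7, 37), (4, 3, 8, 37), (1, 14, 1, 38), (12, 1, 0, 39), (9, 5, 7, 41), (5, 9, 8, 41), (9, 12, 0, 42), (12, 6, 1, 43), (13, 12, 1, 44), (14, 5,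 7, 47), (3, 11, 0, 48), (2, 13, 0, 52), (9, 2, 0, 53), (11, 2, 1, 54), (14, 1, 6, 56), (2, 8, 7, 56), (14, 15, 8, 56), (11, 15, 1, 60), (11, 4, 1, 65), (2, 15, 7, 65), (2, 10, 0, 66), (6, 1, 1, 67), (4, 7, 8, 67), (15, 8, 0, 68), (11, 14, 7, 69), (5, 3, 8, 82), (12, 13, 0, 85), (11, 8, 8, 89), (11, 3, 7, 94)]

/-- the other orbit of pairs -/
def orb1 : List (ℕ × ℕ × ℕ × ℕ) := [(1, 2, 0, 0), (7, 5, 0, 0), (6, 9, 1, 0), (13, 5, 6, 0), (3, 14, 7, 0), (4, 2, 8, 0), (10, 15, 0, 1), (1, 8, 1, 1), (7, 2, 6, 1), (7, 9, 7, 1), (13, 14, 0, 2), (7, 11, 1, 2), (10, 14, 6, 2), (6, 15, 0, 3), (5, 8, 1, 3), (8, 9, 7, 3), (15, 5, 8, 3), (2, 4, 0, 4), (15, 10, 1, 4), (8, 5, 0, 5), (14, 9, 1, 5), (12, 3, 0, 6), (4, 12, 1, 6), (6, 4, 6, 6), (15, 6, 7, 6), (8, 13, 8, 6), (6, 13, 1, 7), (13, 3, 6, 7), (3, 1, 7, 7), (4, 10, 8, 7),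 (10, 5, 0, 8), (1, 9, 1, 8), (7, 14, 7, 8), (1, 11, 1, 9), (5, 10, 1, 10), (15, 9, 8, 10), (10, 11, 0, 11), (7, 12, 7, 11), (12, 4, 0, 12), (10, 4, 6, 13), (4, 6, 7, 13), (3, 13, 8, 13), (2, 3, 6, 14), (9, 1, 7, 14), (9, 14, 0, 15), (13, 11, 1, 15), (3, 15, 0, 16), (12, 8, 1, 16), (5, 15, 6, 17), (14, 10, 7, 17), (2, 1, 8, 17), (3, 12, 0, 18), (13, 8, 8, 18), (9, 15, 0, 19), (3, 2, 6, 19), (4, 14, 0, 20), (5, 2, 7, 20), (11, 13, 7, 21), (11, 6, 8, 21), (8, 1, 0, 22), (14, 3, 1, 22), (15, 12, 6, 22), (12, 7, 1, 24), (9, 6, 0, 25), (13, 6, 0, 26), (10, 1, 6, 26), (4, 8, 7, 26), (6, 2, 0, 27), (2, 7, 0, 28), (8, 12, 0, 29), (14, 4, 1, 29), (12, 15, 0, 30), (6, 11, 1, 31), (1, 10, 1, 32), (8, 4, 1, 34), (2, 6, 6, 34), (12, 11, 1, 35), (1, 3, 1, 37), (11, 10, 7, 38), (11, 1, 8, 38), (14, 7, 1, 40), (14, 13, 7, 42),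 (2, 5, 7, 44), (15, 3, 0, 48), (5, 13, 8, 48), (9, 8, 8, 49), (5, 7, 0, 50), (11, 12, 1, 53), (9, 7, 0, 59), (11, 7, 7, 62)]

/-- which orbit splits off the leading bit -/
def cls : List Bool := [false, false, false, true, false, false, true, false, false, true, false, false, true, true, false, false]

/-- the four sign functions as bit sets -/
def sigC : List ℕ := [0, 64200, 27808, 38504]

/-- preimages of the commutator vectors -/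
def ys : List (List ℕ) := [[], [0, 1, 2, 3, 4, 5, 6, 7, 8, 9, 10, 11, 12, 13, 14, 15], [0, 1, 2, 3, 4, 5, 6, 7, 8, 9, 10, 11, 12, 13, 14, 15], [0, 1, 2, 3, 4, 5, 6, 7, 8, 9, 10, 11, 12, 13, 14, 15], [0, 1, 2, 3, 4, 5, 6, 7, 8, 9, 10, 11, 12, 13, 14, 15], [0, 1, 2, 3, 16, 17, 18, 19, 32, 33, 34, 35, 48, 49, 50, 51], [0, 1, 2, 3, 4, 5, 6, 7, 8, 9, 10, 11, 12, 13, 14, 15], [0, 1, 2, 3, 4, 5, 6, 7, 8, 9, 10, 11, 12, 13, 14, 15], [0, 1, 2, 3, 4, 5, 6, 7, 8, 9, 10, 11, 12, 13, 14, 15], [0, 1, 2, 3, 4, 5, 6, 7, 8, 9, 10, 11, 12, 13, 14, 15], [0, 1, 2, 3, 16, 17, 18, 19, 32, 33, 34, 35, 48, 49, 50, 51], [0, 1, 2, 3, 4, 5, 6, 7, 8, 9, 10, 11, 12, 13, 14, 15], [0, 1, 2, 3, 4, 5, 6, 7, 8, 9, 10, 11, 12, 13, 14, 15], [0, 1, 2, 3, 4, 5, 6, 7, 8, 9, 10, 11, 12, 13, 14, 15], [0, 1, 2, 3, 4, 5, 6, 7, 8, 9, 10, 11, 12, 13,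 14, 15], [0, 1, 2, 3, 16, 17, 18, 19, 32, 33, 34, 35, 48, 49, 50, 51]]

end Cfsg.Agent.J4CoordData97
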