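import Mathlib
import Cfsg.Agent.Lib.GolayCocodeTables22
import Cfsg.Agent.Lib.J4CoordCheck97

/-!
Labels making the coordinates of the elementary abelian subgroup of order `2 ^ 11` the even part of the
Golay cocode, the listed codes being the duads.
-/

set_option autoImplicit false
set_option maxRecDepth 100000

namespace Cfsg.Agent.J4CocodeData22

/-- the labels of the points -/
def lab : List ℕ := [76, 118, 59, 344, 1144, 380, 2029, 1985, 1477, 1797, 1905, 1519, 1425, 1083, 286, 1850, 1052, 315, 1466, 1978, 1871, 1943, 1118]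

/-- points whose labels sum to the unit vectors -/
def spanC : List (List ℕ) := [[0, 1, 2], [1, 9, 10], [0, 1, 2, 4, 5, 7, 8, 9], [3, 5, 6, 7], [1, 2, 4, 5, 6, 8, 10], [0, 1, 2, 3, 4, 7, 8, 9], [1, 2, 3, 4, 6, 8, 9], [0, 3, 5, 6, 9], [3, 6, 7, 9, 10], [0, 1, 2, 4, 5, 9], [0, 1, 2, 3, 6, 8, 10]]

theorem tables_ok : Cfsg.Agent.GolayCocodeTables22.tablesOK lab spanC
    (Cfsg.Agent.J4CoordCheck97.rlist 1) = true := by decide +kernel

end Cfsg.Agent.J4CocodeData22
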