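import Mathlib

/-!
Data: permutations of the hexad group of M22, of a second one, and of the elements used for
the complement of the elementary abelian subgroup of order 2048 in a group of Janko-four type.
-/

set_option autoImplicit false

namespace Cfsg.Agent.J4CompData43

/-- generators of the hexad group -/
def eL : List ℕ := [962449044282352428558335465178116128,
  958678932787022689943756597827328032,
  961413333856840334609679564081837088,
  963583750180452900673563767221627936]

/-- moves the hexad group to a disjoint one -/
def bg : ℕ := 962346163067463992906982979900933184

/-- its inverse -/
def bgI : ℕ := 978271685672157949271868619692835904

/-- involution normalising both groups -/
def pA : ℕ := 983548720921252936276249910206105632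

/-- second involution normalising both groups -/
def pB : ℕ := 984778669782048816542716643500374240

/-- outer involution normalising both groups -/
def pC : ℕ := 15117220595309254733154197366224951

/-- element of order three commuting with the outer one -/
def pQ : ℕ := 979008676798245200207864200351090720

/-- involution commuting with it -/
def pV : ℕ := 984642754306893001986305023279301696

/-- its commutator with the outer one -/
def pW : ℕ := 984778669782048816542716643500374240

/-- moves the standard element of order three to `pQ` -/
def hQ : ℕ := 974057234977788240924290645212171296

/-- its inverse -/
def hQI : ℕ := 965259294366045892469545609699868704

/-- a standard generator as a product over both groups (side, index) -/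
def wT : List (Bool × ℕ) := [(false, 15), (true, 8), (false, 12), (true, 3), (false, 14)]

/-- a standard generator as a product over both groups (side, index) -/
def wV : List (Bool × ℕ) := [(true, 4), (false, 3), (true, 6), (false, 13)]

end Cfsg.Agent.J4CompData43
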