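import Mathlib
import Cfsg.Agent.Lib.GolayBlockM22
import Cfsg.Agent.Lib.GolayOutM22
import Cfsg.Agent.Lib.GolaySimple
import Cfsg.Agent.Lib.FrattiniTuples
import Cfsg.Agent.Lib.PGroupsBasic
import Cfsg.Agent.Lib.JFourM22Data97

/-!
Facts on M22 and its automorphism group: orders, trivial centre, and the normaliser of a Sylow
3-subgroup, which has order 72 and fixes none of its subgroups of order three.
-/

set_option autoImplicit false

namespace Cfsg.Agent.JFourM22Facts97

open Cfsg Cfsg.Agent.GolayPerm Cfsg.Agent.GolayChain Cfsg.Agent.GolayBlockTools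
  Cfsg.Agent.GolayOutTool Cfsg.Agent.GolayWords Cfsg.Agent.JFourM22Data97

set_option quotPrecheck false in
local notation "M" => ↥Cfsg.Spor.M22

/-- membership test -/
def mc : ℕ → Bool := GolayBlockM22.mc

theorem mc_sound : Sound Spor.M22 mc := GolayBlockM22.mc_sound

theorem card_M22 : Nat.card M = 443520 := GolayM24.card_M22

theorem not_comm : ¬ IsMulCommutative M := by
  intro h
  haveI := GolaySimple.isSimpleGroup_M22
  haveI : Fact (Nat.Prime 2) := ⟨Nat.prime_two⟩
  obtain ⟨x, hx⟩ := exists_prime_orderOf_dvd_card' (G := M) 2 (by rw [card_M22]; norm_num)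
  haveI : (Subgroup.zpowers x).Normal := ⟨fun n hn g => by
    rwa [h.is_comm.comm g n, mul_inv_cancel_right]⟩
  rcases Subgroup.Normal.eq_bot_or_eq_top (inferInstance : (Subgroup.zpowers x).Normal) with e | e
  · have := Nat.card_zpowers x
    rw [e, hx, Subgroup.card_bot] at this
    omega
  · have := Nat.card_zpowers x
    rw [e, hx, Subgroup.card_top, card_M22] at this
    omega

theorem center_eq_bot : Subgroup.center M = ⊥ := by
  haveI := GolaySimple.isSimpleGroup_M22
  refine (Subgroup.Normal.eq_bot_or_eq_top inferInstance).resolve_right fun e => not_comm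
    ⟨⟨fun a b => ?_⟩⟩
  exact Subgroup.mem_center_iff.1 (e ▸ Subgroup.mem_top b) a

theorem card_inn : Nat.card (Inn M) = 443520 := by
  rw [← card_M22]
  refine (Nat.card_congr (MonoidHom.ofInjective (f := (MulAut.conj : M →* MulAut M)) ?_).toEquiv).symm
  intro a b e
  have hc : a⁻¹ * b ∈ Subgroup.center M := by
    refine Subgroup.mem_center_iff.2 fun g => ?_
    have e1 : a * g * a⁻¹ = b * g * b⁻¹ := by
      simpa using congrArg (fun f : MulAut M => f g) e
    calc g * (a⁻¹ * b) = a⁻¹ * (a * g * a⁻¹) * b := by group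
      _ = a⁻¹ * (b * g * b⁻¹) * b := by rw [e1]
      _ = a⁻¹ * b * g := by group
  rw [center_eq_bot, Subgroup.mem_bot, inv_mul_eq_one] at hc
  exact hc

theorem card_mulAut : Nat.card (MulAut M) = 887040 := by
  rw [Subgroup.card_eq_card_quotient_mul_card_subgroup (Inn M), card_inn]
  show Nat.card (Out M) * 443520 = 887040
  rw [GolayOutM22.card_out]

theorem ok : ([aS, bS, gS].all mc) = true ∧
    ((GolayBlockDataM22.syl.map Prod.fst).all fun x => isId [x] ||
      (!(sameWord [gS, x] [x, gS]) && !(sameWord [gS, x] [x, x, gS]))) = true ∧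
    ((GolayBlockDataM22.syl.map Prod.fst).all fun x =>
      (GolayBlockDataM22.syl.map Prod.fst).any fun c => sameWord [gS, x] [c, gS]) = true ∧
    ((GolayBlockDataM22.syl.map Prod.fst).all fun x => isId [x, x, x] &&
      (GolayBlockDataM22.syl.map Prod.fst).all fun y => sameWord [x, y] [y, x]) = true ∧
    isId [gS, gS, gS, gS] = true ∧ isId [gS, gS] = false ∧
    (aS ∈ GolayBlockDataM22.syl.map Prod.fst ∧ bS ∈ GolayBlockDataM22.syl.map Prod.fst) ∧
    (centS.all fun s => mc s && (!(sameWord [s, bS] [bS, s]) ||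
      (GolayBlockDataM22.syl.map Prod.fst).any fun c => sameWord [s] [c])) = true := by
  decide +kernel

theorem chain_ok : chainCheck [] lvS = true ∧ (elts lvS).all mc = true ∧ size lvS = 443520 ∧
    msolve lvS aS aS baseS centS = true := by
  decide +kernel

theorem sameWord_of_prod_eq {l l' : List ℕ} (h : ∀ P ∈ l, valid P = true)
    (h' : ∀ P ∈ l', valid P = true) (e : (l.map permOf).prod = (l'.map permOf).prod) :
    sameWord l l' = true := by
  simp only [sameWord, List.all_eq_true, beq_iff_eq]
  intro i hi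
  rw [← GolayBasic.idx_pt (mem_pts.1 hi), ← GolayOutTool.idx_prod l h, ← GolayOutTool.idx_prod l' h', e]

/-- A Sylow subgroup for the prime three and an element of order four acting on it without fixed lines. -/
theorem exists_sylow_data : ∃ (S : Subgroup M) (g : M), Nat.card S = 9 ∧ (∀ x ∈ S, x ^ 3 = 1) ∧
    (∀ x ∈ S, ∀ y ∈ S, x * y = y * x) ∧ (∀ c : M, (∀ x ∈ S, c * x = x * c) → c ∈ S) ∧
    g ∈ Subgroup.normalizer (S : Set M) ∧ orderOf g = 4 ∧
    (∀ x ∈ S, x ≠ 1 → g * x * g⁻¹ ∉ Subgroup.zpowers x) := by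
  obtain ⟨hm, hline, hnorm, hpow, hg4, hg2, ⟨haL, hbL⟩, hcent⟩ := ok
  obtain ⟨hcert, hne, hclosed, hlen, hnd⟩ := GolayBlockM22.three_ok
  have hL : (GolayBlockDataM22.syl.map Prod.fst).all mc = true := by
    rw [List.all_eq_true]
    intro a ha
    obtain ⟨q, hq, rfl⟩ := List.mem_map.1 ha
    have := List.all_eq_true.1 hcert q hq
    simp only [invCert, Bool.and_eq_true] at this
    exact this.1.1.1.1
  obtain ⟨S, hScard, hSmem⟩ := exists_subgroup_of_list mc_sound hL hne hclosed hnd
  rw [List.length_map, hlen] at hScard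
  have hL' := List.all_eq_true.1 hL
  simp only [List.all_cons, List.all_nil, Bool.and_true, Bool.and_eq_true] at hm
  obtain ⟨hma, hmb, hmg⟩ := hm
  have hSel : ∀ a ∈ GolayBlockDataM22.syl.map Prod.fst, el Spor.M22 a ∈ S := by
    intro a ha
    haveI : Fintype S := Fintype.ofFinite _
    have hsub : (S : Set M) ⊆ (el Spor.M22) '' {a | a ∈ GolayBlockDataM22.syl.map Prod.fst} :=
      fun x hx => by obtain ⟨b, hb, rfl⟩ := hSmem x hx; exact ⟨b, hb, rfl⟩
    classical
    have himg : ((el Spor.M22) '' {a | a ∈ GolayBlockDataM22.syl.map Prod.fst}).ncard ≤ 9 := by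
      have e : {a | a ∈ GolayBlockDataM22.syl.map Prod.fst} =
          ((GolayBlockDataM22.syl.map Prod.fst).toFinset : Set ℕ) := by ext; simp
      refine (Set.ncard_image_le (e ▸ Finset.finite_toSet _)).trans ?_
      rw [e, Set.ncard_coe_finset]
      exact (List.toFinset_card_le _).trans (by rw [List.length_map, hlen]; norm_num)
    have := Set.eq_of_subset_of_ncard_le hsub (himg.trans (by
      rw [← Nat.card_coe_set_eq, SetLike.coe_sort_coe, hScard]; norm_num)) (Set.toFinite _)
    exact this.ge ⟨a, ha, rfl⟩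
  have hpow' : ∀ x ∈ S, x ^ 3 = 1 ∧ ∀ y ∈ S, x * y = y * x := by
    intro x hx
    obtain ⟨a, ha, rfl⟩ := hSmem x hx
    have h := List.all_eq_true.1 hpow a ha
    rw [Bool.and_eq_true] at h
    refine ⟨?_, fun y hy => ?_⟩
    · have := (el_word_one mc_sound (l := [a, a, a]) (by simp [hL' a ha])).2 h.1
      simpa [pow_succ, mul_assoc] using this
    · obtain ⟨b, hb, rfl⟩ := hSmem y hy
      simpa using el_word_eq mc_sound (l := [a, b]) (l' := [b, a]) (by simp [hL' a ha, hL' b hb])
        (by simp [hL' a ha, hL' b hb]) (List.all_eq_true.1 h.2 b hb)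
  refine ⟨S, el Spor.M22 gS, by rw [hScard]; norm_num, fun x hx => (hpow' x hx).1,
    fun x hx => (hpow' x hx).2, fun c hc => ?_, ?_, ?_, fun x hx hx1 => ?_⟩
  · obtain ⟨h1, h2, h3, h4⟩ := chain_ok
    have ea := congrArg Subtype.val (hc _ (hSel _ haL))
    have eb := hc _ (hSel _ hbL)
    simp only [Subgroup.coe_mul, coe_el mc_sound hma] at ea
    obtain ⟨s, hs, hcs⟩ := exists_msol h1
      (fun T hT => (mc_sound T (List.all_eq_true.1 h2 T hT)).2) (by rw [card_M22, h3]) h4 c.2 ea
    have hs' := List.all_eq_true.1 hcent s hs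
    simp only [Bool.and_eq_true, Bool.or_eq_true, Bool.not_eq_true', List.any_eq_true] at hs'
    have ec : c = el Spor.M22 s := Subtype.ext (by rw [hcs, coe_el mc_sound hs'.1])
    rcases hs'.2 with h | ⟨d, hd, h⟩
    · exfalso
      rw [← Bool.not_eq_true] at h
      refine h (sameWord_of_prod_eq (fun P hP => ?_) (fun P hP => ?_) ?_)
      · exact (mc_sound P (by simp at hP; rcases hP with rfl | rfl <;> simp [hs'.1, hmb])).1
      · exact (mc_sound P (by simp at hP; rcases hP with rfl | rfl <;> simp [hs'.1, hmb])).1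
      · have := congrArg Subtype.val eb
        simpa [ec, coe_el mc_sound hs'.1, coe_el mc_sound hmb] using this
    · have := el_word_eq mc_sound (l := [s]) (l' := [d]) (by simp [hs'.1]) (by simp [hL' d hd]) h
      simp only [List.map_cons, List.map_nil, List.prod_cons, List.prod_nil, mul_one] at this
      rw [ec, this]
      exact hSel d hd
  · refine Subgroup.mem_normalizer_fintype fun x hx => ?_
    obtain ⟨a, ha, rfl⟩ := hSmem x hx
    obtain ⟨d, hd, h⟩ := List.any_eq_true.1 (List.all_eq_true.1 hnorm a ha)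
    have := el_word_eq mc_sound (l := [gS, a]) (l' := [d, gS]) (by simp [hL' a ha, hmg])
      (by simp [hL' d hd, hmg]) h
    simp only [List.map_cons, List.map_nil, List.prod_cons, List.prod_nil, mul_one] at this
    rw [this, mul_inv_cancel_right]
    exact hSel d hd
  · have e4 := (el_word_one mc_sound (l := [gS, gS, gS, gS]) (by simp [hmg])).2 hg4
    have e2 : (el Spor.M22 gS) ^ 2 ≠ 1 := fun e => by
      rw [(el_word_one mc_sound (l := [gS, gS]) (by simp [hmg])).1 (by simpa [pow_succ] using e)] at hg2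
      exact Bool.false_ne_true hg2.symm
    haveI : Fact (Nat.Prime 2) := ⟨Nat.prime_two⟩
    have := orderOf_eq_prime_pow (p := 2) (n := 1) (x := el Spor.M22 gS) (by simpa using e2)
      (by simpa [pow_succ, mul_assoc] using e4)
    simpa using this
  · obtain ⟨a, ha, rfl⟩ := hSmem x hx
    have h := List.all_eq_true.1 hline a ha
    simp only [Bool.or_eq_true, Bool.and_eq_true, Bool.not_eq_true'] at h
    rcases h with h | ⟨h1, h2⟩
    · exact absurd (by simpa using (el_word_one mc_sound (l := [a]) (by simp [hL' a ha])).2 h) hx1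
    intro hz
    haveI : Finite M := Subtype.finite
    obtain ⟨k, hk⟩ := mem_powers_iff_mem_zpowers.2 hz
    have h3 := (hpow' _ (hSel a ha)).1
    have hk' : el Spor.M22 a ^ (k % 3) = el Spor.M22 gS * el Spor.M22 a * (el Spor.M22 gS)⁻¹ := by
      rw [← pow_eq_pow_mod k h3]; exact hk
    rw [eq_comm, mul_inv_eq_iff_eq_mul] at hk'
    have hv : ∀ P ∈ [gS, a], valid P = true := by
      intro P hP; simp at hP; rcases hP with e' | e' <;> rw [e']
      · exact (mc_sound _ hmg).1
      · exact (mc_sound _ (hL' a ha)).1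
    have key : ∀ l : List ℕ, (∀ P ∈ l, P = gS ∨ P = a) →
        el Spor.M22 gS * el Spor.M22 a = (l.map (el Spor.M22)).prod → sameWord [gS, a] l = true := by
      intro l hl e
      refine sameWord_of_prod_eq hv (fun P hP => hv P (by rcases hl P hP with e' | e' <;> simp [e'])) ?_
      rw [← coe_prod_el mc_sound (l := [gS, a]) (by simp [hmg, hL' a ha]),
        ← coe_prod_el mc_sound (l := l) (fun P hP => by rcases hl P hP with e' | e' <;> simp [e', hmg, hL' a ha])]
      exact congrArg Subtype.val (by simpa using e)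
    have hlt : k % 3 < 3 := Nat.mod_lt _ (by norm_num)
    interval_cases hm : k % 3
    · rw [pow_zero, one_mul] at hk'
      exact hx1 (mul_eq_left.1 hk')
    · rw [key [a, gS] (by simp) (by simpa using hk')] at h1
      exact Bool.false_ne_true h1.symm
    · rw [key [a, a, gS] (by simp) (by simpa [pow_two, mul_assoc] using hk')] at h2
      exact Bool.false_ne_true h2.symm

/-- Every Sylow subgroup for the prime three is elementary abelian of order nine, its normaliser has
order 72 and fixes none of its subgroups of order three. -/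
theorem sylow_three (T : Sylow 3 M) : Nat.card T = 9 ∧ (∀ x ∈ (T : Subgroup M), x ^ 3 = 1) ∧
    (∀ x ∈ (T : Subgroup M), ∀ y ∈ (T : Subgroup M), x * y = y * x) ∧
    Nat.card (Subgroup.normalizer ((T : Subgroup M) : Set M)) = 72 ∧
    ∀ x ∈ (T : Subgroup M), x ≠ 1 →
      ∃ g ∈ Subgroup.normalizer ((T : Subgroup M) : Set M), g * x * g⁻¹ ∉ Subgroup.zpowers x := by
  haveI : Finite M := Subtype.finite
  haveI : Fact (Nat.Prime 3) := ⟨Nat.prime_three⟩
  obtain ⟨S, g, hS, hpow, hcomm, hcent, hgN, hg, hline⟩ := exists_sylow_data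
  have hfac : (443520 : ℕ).factorization 3 = 2 := by
    rw [show (443520 : ℕ) = 3 ^ 2 * 49280 by norm_num, Nat.factorization_mul (by norm_num) (by norm_num),
      Finsupp.add_apply, Nat.Prime.factorization_pow Nat.prime_three, Finsupp.single_eq_same,
      Nat.factorization_eq_zero_of_not_dvd (by norm_num)]
  let S' : Sylow 3 M := Sylow.ofCard S (by rw [hS, card_M22, hfac]; norm_num)
  obtain ⟨c, hc⟩ := MulAction.exists_smul_eq M S' T
  have hmem : ∀ x, x ∈ (T : Subgroup M) ↔ c⁻¹ * x * c ∈ S := by
    intro x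
    rw [← hc, Sylow.coe_subgroup_smul, Subgroup.mem_pointwise_smul_iff_inv_smul_mem]
    simp [S', MulAut.smul_def, mul_assoc]
  -- the normaliser of `S`
  have hN : Nat.card (Subgroup.normalizer (S : Set M)) = 72 := by
    set N := Subgroup.normalizer (S : Set M) with hNdef
    let f : N →* MulAut S := Subgroup.normalizerMonoidHom S
    have hker : f.ker = S.subgroupOf N := by
      rw [Subgroup.normalizerMonoidHom_ker]
      ext x
      simp only [Subgroup.mem_subgroupOf, Subgroup.mem_centralizer_iff, SetLike.mem_coe]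
      exact ⟨fun h => hcent x fun y hy => (h y hy).symm, fun h y hy => hcomm y hy x h⟩
    have hSN : S ≤ N := Subgroup.le_normalizer
    have h9 : Nat.card f.ker = 9 := by
      rw [hker, Nat.card_congr (Subgroup.subgroupOfEquivOfLe hSN).toEquiv, hS]
    have hup : Nat.card N ∣ 9 * 48 := by
      rw [← Subgroup.card_mul_index f.ker, h9, Subgroup.index_ker]
      refine Nat.mul_dvd_mul_left 9 ((Subgroup.card_subgroup_dvd_card _).trans ?_)
      have hΦ : frattini S = ⊥ := PGroupsBasic.frattini_eq_bot_of_elementary (p := 3)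
        (fun a b => Subtype.ext (hcomm a a.2 b b.2)) fun a => Subtype.ext (by simpa using hpow a a.2)
      have := FrattiniTuples.card_mulAut_dvd (P := S) (p := 3) (n := 2) (by rw [hS]; norm_num) (r := 2)
        (by rw [hΦ, Subgroup.index_bot, hS]; norm_num)
      simpa [Finset.prod_range_succ] using this
    have h443 : Nat.card N ∣ 443520 := card_M22 ▸ Subgroup.card_subgroup_dvd_card _
    have h36 : 36 ∣ Nat.card N := by
      refine Nat.Coprime.mul_dvd_of_dvd_of_dvd (by norm_num : Nat.Coprime 9 4)
        (hS ▸ Subgroup.card_dvd_of_le hSN) ?_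
      rw [← hg, ← Subgroup.orderOf_mk g hgN]
      exact orderOf_dvd_natCard _
    have h144 : Nat.card N ∣ 144 := by
      have := Nat.dvd_gcd hup h443
      norm_num at this
      exact this
    have hidx : N.index % 3 = 1 := by
      have h1 := card_sylow_modEq_one 3 M
      rw [Sylow.card_eq_index_normalizer S'] at h1
      exact h1
    have hmul := Subgroup.card_mul_index N
    rw [card_M22] at hmul
    obtain ⟨j, hj⟩ := h36
    have hj4 : j ∣ 4 := Nat.dvd_of_mul_dvd_mul_left (by norm_num : 0 < 36)
      (by rw [← hj]; exact h144)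
    rw [hj] at hmul ⊢
    have : j ≤ 4 := Nat.le_of_dvd (by norm_num) hj4
    interval_cases j <;> omega
  have hTS : (T : Subgroup M) = S.map (MulAut.conj c).toMonoidHom := by
    ext x
    rw [hmem, Subgroup.mem_map_equiv, MulAut.conj_symm_apply]
  refine ⟨?_, fun x hx => ?_, fun x hx y hy => ?_, ?_, fun x hx hx1 => ?_⟩
  · rw [show Nat.card T = Nat.card (T : Subgroup M) from rfl, hTS,
      Subgroup.card_map_of_injective (MulAut.conj c).injective, hS]
  · have := hpow _ ((hmem x).1 hx)
    rwa [show c⁻¹ * x * c = MulAut.conj c⁻¹ x by simp, ← map_pow, map_eq_one_iff _ (MulEquiv.injective _)] at this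
  · have := hcomm _ ((hmem x).1 hx) _ ((hmem y).1 hy)
    rw [show c⁻¹ * x * c = MulAut.conj c⁻¹ x by simp, show c⁻¹ * y * c = MulAut.conj c⁻¹ y by simp,
      ← map_mul, ← map_mul] at this
    exact (MulEquiv.injective _) this
  · rw [← hN, show ((T : Subgroup M) : Set M) = ((S.map (MulAut.conj c).toMonoidHom : Subgroup M) : Set M)
      by rw [hTS], ← Subgroup.map_equiv_normalizer_eq,
      Subgroup.card_map_of_injective (MulAut.conj c).injective]
  · refine ⟨c * g * c⁻¹, Subgroup.mem_normalizer_iff.2 fun y => ?_, fun h => ?_⟩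
    · rw [hmem, hmem, show c⁻¹ * (c * g * c⁻¹ * y * (c * g * c⁻¹)⁻¹) * c = g * (c⁻¹ * y * c) * g⁻¹ by group]
      exact (Subgroup.mem_normalizer_iff.1 hgN _)
    · refine hline _ ((hmem x).1 hx) (fun e => hx1 ?_) ?_
      · rwa [show c⁻¹ * x * c = MulAut.conj c⁻¹ x by simp, map_eq_one_iff _ (MulEquiv.injective _)] at e
      · obtain ⟨k, hk⟩ := Subgroup.mem_zpowers_iff.1 h
        refine Subgroup.mem_zpowers_iff.2 ⟨k, ?_⟩
        rw [show c⁻¹ * x * c = MulAut.conj c⁻¹ x by simp, ← map_zpow, hk]
        simp [mul_assoc]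

theorem conj_ok : ((GolayBlockDataM22.syl.map Prod.fst).all fun x => isId [x] ||
    conjS.any fun c => mc c && sameWord [c, aS] [x, c]) = true := by decide +kernel

/-- The elements of order three form one class. -/
theorem three_class (x y : M) (hx : orderOf x = 3) (hy : orderOf y = 3) : IsConj x y := by
  haveI : Finite M := Subtype.finite
  haveI : Fact (Nat.Prime 3) := ⟨Nat.prime_three⟩
  obtain ⟨hcert, hne, hclosed, hlen, hnd⟩ := GolayBlockM22.three_ok
  have hL : (GolayBlockDataM22.syl.map Prod.fst).all mc = true := by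
    rw [List.all_eq_true]
    intro a ha
    obtain ⟨q, hq, rfl⟩ := List.mem_map.1 ha
    have := List.all_eq_true.1 hcert q hq
    simp only [invCert, Bool.and_eq_true] at this
    exact this.1.1.1.1
  obtain ⟨S, hScard, hSmem⟩ := exists_subgroup_of_list mc_sound hL hne hclosed hnd
  rw [List.length_map, hlen] at hScard
  suffices key : ∀ w : M, orderOf w = 3 → IsConj (el Spor.M22 aS) w from (key x hx).symm.trans (key y hy)
  intro w hw
  obtain ⟨c, hc⟩ := exists_conj_zpowers Nat.prime_three
    (show Nat.card M = 3 ^ 2 * 49280 by rw [card_M22]; norm_num) (by norm_num) (P := S)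
    (by rw [hScard]) (Q := Subgroup.zpowers w) (IsPGroup.of_card (n := 1) (by rw [Nat.card_zpowers, hw, pow_one]))
  obtain ⟨d, hd, e⟩ := hSmem _ (hc w (Subgroup.mem_zpowers w))
  refine IsConj.trans ?_ (isConj_iff.2 ⟨c⁻¹, by group⟩ : IsConj (c * w * c⁻¹) w)
  rw [e]
  have h := List.all_eq_true.1 conj_ok d hd
  have hdm := List.all_eq_true.1 hL d hd
  simp only [Bool.or_eq_true, List.any_eq_true, Bool.and_eq_true] at h
  rcases h with h | ⟨k, -, hk, h⟩
  · exfalso
    have h1 : el Spor.M22 d = 1 := by
      simpa using (el_word_one mc_sound (l := [d]) (by simp [hdm])).2 h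
    rw [h1, conj_eq_one_iff] at e
    rw [e, orderOf_one] at hw
    norm_num at hw
  · have hm := ok.1
    simp only [List.all_cons, List.all_nil, Bool.and_true, Bool.and_eq_true] at hm
    have := el_word_eq mc_sound (l := [k, aS]) (l' := [d, k]) (by simp [hk, hm.1]) (by simp [hk, hdm]) h
    simp only [List.map_cons, List.map_nil, List.prod_cons, List.prod_nil, mul_one] at this
    exact isConj_iff.2 ⟨el Spor.M22 k, by rw [this, mul_inv_cancel_right]⟩

end Cfsg.Agent.JFourM22Facts97
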