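import Mathlib
import Cfsg.Agent.Lib.JFourM22Facts97
import Cfsg.Agent.Lib.GolayInvolutions

/-!
Two class facts on M22: the involutions form one class, and the centraliser of an element of order three
has exponent dividing six.
-/

set_option autoImplicit false
set_option linter.style.haveILetI false

namespace Cfsg.Agent.JFourM22Class97

open Cfsg Cfsg.Agent.GolayBasic Cfsg.Agent.GolayPerm Cfsg.Agent.GolayChain Cfsg.Agent.GolayBlockTools
  Cfsg.Agent.GolayOutTool Cfsg.Agent.GolayBlockClass Cfsg.Agent.JFourM22Facts97 Cfsg.Agent.JFourM22Data97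
open scoped Pointwise

theorem cent_six : (centS.all fun s => mc s && isId [s, s, s, s, s, s]) = true := by decide +kernel

/-- An element commuting with an element of order three has sixth power one. -/
theorem cent_pow (x c : ↥Spor.M22) (hx : orderOf x = 3) (hc : c * x = x * c) : c ^ 6 = 1 := by
  have hm := ok.1
  simp only [List.all_cons, List.all_nil, Bool.and_true, Bool.and_eq_true] at hm
  obtain ⟨h1, h2, h3, h4⟩ := chain_ok
  have ha : orderOf (el Spor.M22 aS) = 3 := by
    have hh : primeOrd [aS] 3 = true := by decide +kernel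
    simpa using (primeOrd_iff mc_sound (w := [aS]) (by simp [hm.1]) Nat.prime_three).2 hh
  obtain ⟨g, hg⟩ := isConj_iff.1 (three_class x (el Spor.M22 aS) hx ha)
  have he : (g * c * g⁻¹) * el Spor.M22 aS = el Spor.M22 aS * (g * c * g⁻¹) := by
    rw [← hg]
    calc g * c * g⁻¹ * (g * x * g⁻¹) = g * (c * x) * g⁻¹ := by group
      _ = g * (x * c) * g⁻¹ := by rw [hc]
      _ = _ := by group
  have he' := congrArg Subtype.val he
  simp only [Subgroup.coe_mul, coe_el mc_sound hm.1] at he'
  obtain ⟨s, hs, hcs⟩ := exists_msol h1 (fun T hT => (mc_sound T (List.all_eq_true.1 h2 T hT)).2)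
    (by rw [card_M22, h3]) h4 (g * c * g⁻¹).2 he'
  have hs' := List.all_eq_true.1 cent_six s hs
  simp only [Bool.and_eq_true] at hs'
  have ec : g * c * g⁻¹ = el Spor.M22 s := Subtype.ext (by rw [coe_el mc_sound hs'.1, ← hcs])
  have h6 : (g * c * g⁻¹) ^ 6 = 1 := by
    rw [ec]
    exact (el_pow_one mc_sound hs'.1).2 hs'.2
  rwa [conj_pow, conj_eq_one_iff] at h6

/-- The involutions form one class. -/
theorem invol_class (u w : ↥Spor.M22) (hu : orderOf u = 2) (hw : orderOf w = 2) : IsConj u w := by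
  suffices key : ∀ u : ↥Spor.M22, orderOf u = 2 → IsConj (el Spor.M22 GolayBlockDataM22.pK) u from
    (key u hu).symm.trans (key w hw)
  intro u hu
  have hOK := GolayBlockM22.class_ok
  simp only [classOK, Bool.and_eq_true, Bool.not_eq_true', decide_eq_true_eq,
    Bool.or_eq_true, List.any_eq_true, beq_iff_eq] at hOK
  obtain ⟨⟨⟨⟨⟨⟨⟨⟨⟨hTT, hVV⟩, htr⟩, hmasks⟩, -⟩, -⟩, hkm⟩, -⟩, -⟩, -⟩ := hOK
  have hle := GolayBlockM22Local.le_M24
  set g := Subgroup.inclusion hle u with hg
  have hg2 : orderOf (g : Equiv.Perm GolayPt) = 2 := by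
    rw [hg, Subgroup.coe_inclusion, Subgroup.orderOf_coe, hu]
  have ho : (Finset.univ.filter fun p => (g : Equiv.Perm GolayPt) p = p) ∈ octads :=
    (GolayInvolutions.classification.1 _ g.2 hg2).resolve_right fun h =>
      h (pt 23) (GolayBlockM22Local.fixed u.1 u.2 23 (by simp))
  obtain ⟨x, hx, hxo⟩ := mem_wordsOfWeight.1 ho
  have hfx : ([23, 0].all fun f => (enc x).testBit f) = true := by
    rw [List.all_eq_true]
    intro f hf
    have hm : pt f ∈ Finset.univ.filter fun p => (g : Equiv.Perm GolayPt) p = p := by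
      rw [Finset.mem_filter]; exact ⟨Finset.mem_univ _, GolayBlockM22Local.fixed u.1 u.2 f hf⟩
    rw [← hxo, mem_mset, idx_pt (by simp at hf; rcases hf with e | e <;> omega)] at hm
    exact hm
  obtain ⟨t, ht, htm⟩ : ∃ t ∈ GolayBlockDataM22.transversal, pmask t.1 13062145 = enc x := List.mem_map.1
    (by rw [hmasks]; exact List.mem_map.2 ⟨x, List.mem_filter.2 ⟨hx, hfx⟩, rfl⟩)
  have ht1 : GolayBlockM22.mc t.1 = true := by
    have := List.all_eq_true.1 hTT t ht
    simp only [Bool.and_eq_true] at this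
    exact this.1.1
  set v := (el Spor.M22 t.1)⁻¹ * u * el Spor.M22 t.1 with hv
  have hTo : permOf t.1 • GolayOctadStab.O0 =
      Finset.univ.filter fun p => (g : Equiv.Perm GolayPt) p = p := by
    rw [← hxo]
    show permOf t.1 • mset 13062145 = _
    rw [smul_mset (GolayBlockM22.mc_sound _ ht1).1, htm]
  have hvp : Subgroup.inclusion hle v ∈ GolayOctadStab.pfix GolayOctadStab.O0 := by
    intro p hp
    have h : permOf t.1 p ∈ Finset.univ.filter fun p => (g : Equiv.Perm GolayPt) p = p :=
      hTo ▸ Finset.smul_mem_smul_finset hp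
    rw [Finset.mem_filter] at h
    rw [Subgroup.coe_inclusion, hv, Subgroup.coe_mul, Subgroup.coe_mul, Subgroup.coe_inv,
      coe_el GolayBlockM22.mc_sound ht1, Equiv.Perm.mul_apply, Equiv.Perm.mul_apply]
    rw [hg, Subgroup.coe_inclusion] at h
    rw [h.2, Equiv.Perm.coe_inv, Equiv.symm_apply_apply]
  have hu1 : u ≠ 1 := fun e => by rw [e, orderOf_one] at hu; norm_num at hu
  obtain ⟨P, hP, hPv⟩ := GolayOctadStab.exists_listed hvp
  have hP' := List.all_eq_true.1 htr P hP
  simp only [Bool.or_eq_true, List.any_eq_true, beq_iff_eq] at hP'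
  rcases hP' with hid | ⟨q, hq, hqP⟩
  · exfalso
    apply hu1
    have hv1 : v = 1 := by
      apply Subtype.ext
      have hPe := GolayOctadStab.check_of_mem hP
      rw [show (v : Equiv.Perm GolayPt) = permOf P from hPv]
      refine Equiv.ext fun p => idx_inj ?_
      simp only [isId, List.all_eq_true, beq_iff_eq] at hid
      rw [idx_permOf (valid_of_good hPe.1)]
      exact hid _ (mem_pts.2 (idx_lt p))
    calc u = el Spor.M22 t.1 * v * (el Spor.M22 t.1)⁻¹ := by rw [hv]; group
      _ = 1 := by rw [hv1]; group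
  · have hq' := List.all_eq_true.1 hVV q hq
    simp only [Bool.and_eq_true, Bool.not_eq_true'] at hq'
    obtain ⟨⟨⟨⟨hq1, hq2⟩, -⟩, -⟩, hsame⟩ := hq'
    have hvq : v = el Spor.M22 q.1 := Subtype.ext (by
      rw [coe_el GolayBlockM22.mc_sound hq1, hqP, show (v : Equiv.Perm GolayPt) = permOf P from hPv])
    have := el_word_eq GolayBlockM22.mc_sound (l := [q.2, q.1]) (l' := [GolayBlockDataM22.pK, q.2])
      (by simp [hq1, hq2]) (by simp [hkm, hq2]) hsame
    simp only [List.map_cons, List.map_nil, List.prod_cons, List.prod_nil, mul_one] at this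
    have h1 : IsConj (el Spor.M22 q.1) (el Spor.M22 GolayBlockDataM22.pK) :=
      isConj_iff.2 ⟨el Spor.M22 q.2, by rw [this, mul_inv_cancel_right]⟩
    refine (hvq ▸ h1).symm.trans (isConj_iff.2 ⟨el Spor.M22 t.1, ?_⟩)
    rw [hv]; group

end Cfsg.Agent.JFourM22Class97
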