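import Mathlib
import Cfsg.Agent.Lib.GolayOutM22
import Cfsg.Agent.Lib.JFourM22Facts97

/-!
The stabiliser of a duad in the Mathieu group of degree 24 is the automorphism group of M22.
-/

set_option autoImplicit false

namespace Cfsg.Agent.M24DuadAut46

open Cfsg Cfsg.Agent.GolayBasic Cfsg.Agent.GolayPerm Cfsg.Agent.GolayChain
open Cfsg.Agent.GolayOutM22 Cfsg.Agent.GolayOutOuter Cfsg.Agent.GolayOutConst
open Cfsg.Agent.GolayOutDataM22
open scoped Pointwise

/-- The elements of M24 stabilising the duad `{p, q}`. -/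
def duadStab (p q : GolayPt) : Subgroup (Equiv.Perm GolayPt) where
  carrier := {g | g ∈ M24 ∧ ((g • p = p ∧ g • q = q) ∨ (g • p = q ∧ g • q = p))}
  one_mem' := ⟨one_mem _, Or.inl ⟨one_smul _ _, one_smul _ _⟩⟩
  mul_mem' := by
    rintro a b ⟨ha, ha'⟩ ⟨hb, hb'⟩
    refine ⟨mul_mem ha hb, ?_⟩
    rcases ha' with ⟨a1, a2⟩ | ⟨a1, a2⟩ <;> rcases hb' with ⟨b1, b2⟩ | ⟨b1, b2⟩ <;>
      simp [mul_smul, a1, a2, b1, b2]
  inv_mem' := by
    rintro a ⟨ha, ha'⟩
    refine ⟨inv_mem ha, ?_⟩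
    rcases ha' with ⟨a1, a2⟩ | ⟨a1, a2⟩
    · exact Or.inl ⟨inv_smul_eq_iff.2 a1.symm, inv_smul_eq_iff.2 a2.symm⟩
    · exact Or.inr ⟨inv_smul_eq_iff.2 a2.symm, inv_smul_eq_iff.2 a1.symm⟩

theorem mem_duadStab {p q : GolayPt} {g : Equiv.Perm GolayPt} :
    g ∈ duadStab p q ↔ g ∈ M24 ∧ ((g • p = p ∧ g • q = q) ∨ (g • p = q ∧ g • q = p)) :=
  Iff.rfl

theorem M22_le : Spor.M22 ≤ duadStab (none : GolayPt) (some 0) := fun _ hg =>
  ⟨(mem_iff.1 hg).1, Or.inl (mem_iff.1 hg).2⟩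

theorem conj_M22 {s : Equiv.Perm GolayPt} (hs : s ∈ duadStab (none : GolayPt) (some 0))
    (g : Equiv.Perm GolayPt) : g ∈ Spor.M22 ↔ s * g * s⁻¹ ∈ Spor.M22 := by
  have key : ∀ s ∈ duadStab (none : GolayPt) (some 0), ∀ g ∈ Spor.M22, s * g * s⁻¹ ∈ Spor.M22 := by
    intro s hs g hg
    have hi := inv_mem hs
    obtain ⟨hs24, hsc⟩ := hs
    obtain ⟨hg24, g1, g2⟩ := mem_iff.1 hg
    refine mem_iff.2 ⟨mul_mem (mul_mem hs24 hg24) (inv_mem hs24), ?_, ?_⟩
    · rw [mul_smul, mul_smul, smul_eq_iff_eq_inv_smul]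
      rcases hi.2 with ⟨e1, e2⟩ | ⟨e1, e2⟩
      · rw [e1, g1]
      · rw [e1, g2]
    · rw [mul_smul, mul_smul, smul_eq_iff_eq_inv_smul]
      rcases hi.2 with ⟨e1, e2⟩ | ⟨e1, e2⟩
      · rw [e2, g2]
      · rw [e2, g1]
  refine ⟨key s hs g, fun h => ?_⟩
  simpa [mul_assoc] using key _ (inv_mem hs) _ h

/-- The action of the duad stabiliser on M22. -/
noncomputable def toAut : ↥(duadStab (none : GolayPt) (some 0)) →* MulAut ↥Spor.M22 where
  toFun s := autOf (s : Equiv.Perm GolayPt) (conj_M22 s.2)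
  map_one' := MulEquiv.ext fun g => Subtype.ext (by simp [autOf])
  map_mul' a b := MulEquiv.ext fun g => Subtype.ext (by simp [autOf, mul_assoc])

theorem not_inn {s : Equiv.Perm GolayPt} (hs : s ∈ duadStab (none : GolayPt) (some 0))
    (hs' : s ∉ Spor.M22) : autOf s (conj_M22 hs) ∉ Inn ↥Spor.M22 := by
  refine not_mem_inn (gT := gT) s _ hs.1 (fun g hg x hx hcomm e => ?_) fun g hg => (mem_iff.1 hg).1
  obtain ⟨a, ha, rfl⟩ := exists_cent_T hx hcomm
  have ha0 : permOf a • (some 0 : GolayPt) = some 0 := by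
    rw [← GolayM24.pt_zero]
    apply idx_inj
    rw [Equiv.Perm.smul_def, idx_permOf (solsCent_valid a ha), idx_pt (by norm_num)]
    exact (by decide +kernel : ∀ a ∈ GolayOutDataM24.solsCent, pimg a 0 = 0) a ha
  rcases hs.2 with ⟨h1, h2⟩ | ⟨h1, h2⟩
  · exact hs' (mem_iff.2 ⟨hs.1, h1, h2⟩)
  · have h3 : s • (some 0 : GolayPt) = some 0 := by
      rw [e, mul_smul, ha0, (mem_iff.1 hg).2.2]
    rw [h2] at h3
    exact absurd h3 (by simp)

theorem toAut_M22 (g : ↥Spor.M22) : toAut ⟨g, M22_le g.2⟩ = MulAut.conj g :=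
  MulEquiv.ext fun _ => Subtype.ext rfl

theorem injective_toAut : Function.Injective toAut := by
  refine (injective_iff_map_eq_one toAut).2 fun s h => ?_
  by_cases hs : (s : Equiv.Perm GolayPt) ∈ Spor.M22
  · have h1 : MulAut.conj (⟨s, hs⟩ : ↥Spor.M22) = 1 := by rw [← toAut_M22]; exact h
    have hc : (⟨s, hs⟩ : ↥Spor.M22) ∈ Subgroup.center ↥Spor.M22 :=
      Subgroup.mem_center_iff.2 fun g => by
        have e := congrArg (fun f : MulAut ↥Spor.M22 => f g) h1
        simp only [MulAut.conj_apply, MulAut.one_apply] at e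
        exact (mul_inv_eq_iff_eq_mul.1 e).symm
    rw [JFourM22Facts97.center_eq_bot, Subgroup.mem_bot] at hc
    exact Subtype.ext (congrArg Subtype.val hc :)
  · refine absurd ?_ (not_inn s.2 hs)
    have h2 : autOf (s : Equiv.Perm GolayPt) (conj_M22 s.2) = 1 := h
    rw [h2]
    exact one_mem _

theorem surjective_toAut : Function.Surjective toAut := by
  rw [← MonoidHom.range_eq_top]
  obtain ⟨s, hs, h1, h2⟩ :=
    GolayStab.exists_map_two (p := (some 0 : GolayPt)) (q := none) (by simp)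
  have hs' : s ∈ duadStab (none : GolayPt) (some 0) := ⟨hs, Or.inr ⟨h1, h2⟩⟩
  have hn : s ∉ Spor.M22 := fun h => by
    have := (mem_iff.1 h).2.1
    rw [h1] at this
    exact absurd this (by simp)
  have hle : Inn ↥Spor.M22 ≤ toAut.range := by
    rintro _ ⟨g, rfl⟩
    exact ⟨⟨g, M22_le g.2⟩, toAut_M22 g⟩
  have hne : toAut.range ≠ Inn ↥Spor.M22 := fun h =>
    not_inn hs' hn (h ▸ ⟨⟨s, hs'⟩, rfl⟩)
  have hidx : (Inn ↥Spor.M22).index = 2 := GolayOutM22.card_out
  have hd := Subgroup.relIndex_mul_index hle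
  rw [hidx] at hd
  rcases (Nat.dvd_prime Nat.prime_two).1 (Dvd.intro_left _ hd) with h | h
  · exact Subgroup.index_eq_one.1 h
  · rw [h] at hd
    exact absurd (le_antisymm (Subgroup.relIndex_eq_one.1 (by omega)) hle) hne

/-- The stabiliser of any duad is the automorphism group of M22. -/
theorem duadStab_iso {p q : GolayPt} (hpq : p ≠ q) :
    Nonempty (↥(duadStab p q) ≃* MulAut ↥Spor.M22) := by
  obtain ⟨g, hg, h1, h2⟩ := GolayStab.exists_map_two hpq
  have key : duadStab p q = (duadStab (none : GolayPt) (some 0)).map (MulAut.conj g).toMonoidHom := by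
    ext x
    rw [Subgroup.mem_map_equiv, MulAut.conj_symm_apply, mem_duadStab, mem_duadStab]
    have h24 : g⁻¹ * x * g ∈ M24 ↔ x ∈ M24 := by
      constructor
      · intro h; simpa [mul_assoc] using mul_mem (mul_mem hg h) (inv_mem hg)
      · intro h; exact mul_mem (mul_mem (inv_mem hg) h) hg
    simp only [h24, mul_smul, inv_smul_eq_iff, h1, h2]
  exact ⟨((MulEquiv.subgroupCongr key).trans ((MulAut.conj g).subgroupMap _).symm).trans
    (MulEquiv.ofBijective toAut ⟨injective_toAut, surjective_toAut⟩)⟩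

end Cfsg.Agent.M24DuadAut46
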