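import Mathlib
import Cfsg.Agent.Lib.JFourM22Class97
import Cfsg.Agent.Lib.M24DuadAut46
import Cfsg.Agent.Lib.J4CompData43

/-!
The permutation facts on M22 used for the complement of the elementary abelian subgroup of order 2048:
a hexad group, a disjoint one, and elements normalising both of them.
-/

set_option autoImplicit false
set_option linter.style.haveILetI false
set_option maxRecDepth 100000

namespace Cfsg.Agent.J4CompModel43

open Cfsg Cfsg.Agent.GolayBasic Cfsg.Agent.GolayPerm Cfsg.Agent.GolayChain Cfsg.Agent.GolayBlockTools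
  Cfsg.Agent.GolayOutTool Cfsg.Agent.JFourM22Facts97 Cfsg.Agent.JFourM22Data97
  Cfsg.Agent.J4CompData43

/-- M22 as a type -/
abbrev M22 : Type := ↥Spor.M22

/-- The facts needed from M22. -/
structure Model (Eb : Subgroup M22) (θ : MulAut M22) (gB a b q v w : M22) : Prop where
  outer : ∀ g : M22, θ ≠ MulAut.conj g
  theta_sq : ∀ x, θ (θ x) = x
  thetaE : ∀ x ∈ Eb, θ x ∈ Eb
  thetaB : ∀ x ∈ Eb, gB⁻¹ * θ (gB * x * gB⁻¹) * gB ∈ Eb
  aE : ∀ x ∈ Eb, a * x * a⁻¹ ∈ Eb
  aB : ∀ x ∈ Eb, gB⁻¹ * (a * (gB * x * gB⁻¹) * a⁻¹) * gB ∈ Eb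
  bE : ∀ x ∈ Eb, b * x * b⁻¹ ∈ Eb
  bB : ∀ x ∈ Eb, gB⁻¹ * (b * (gB * x * gB⁻¹) * b⁻¹) * gB ∈ Eb
  a_sq : a * a = 1
  b_sq : b * b = 1
  a_ne : a ≠ 1
  b_ne : b ≠ 1
  theta_a : θ a = a
  theta_b : θ b = b
  ab_four : (a * b) ^ 4 = 1
  avoid : ∀ i < 4, ∀ j < 2, (a * b) ^ i * a ^ j ∈ Eb → i = 0 ∧ j = 0
  q_cube : q ^ 3 = 1
  q_ne : q ≠ 1
  theta_q : θ q = q
  v_sq : v * v = 1
  v_ne : v ≠ 1
  vq : v * q = q * v
  w_eq : v * θ v = w
  w_sq : w * w = 1
  w_ne : w ≠ 1
  cent : ∀ x, x * q = q * x → x * x = 1 → x ≠ 1 → θ x = x → x = w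
  gen : Subgroup.closure ((Eb : Set M22) ∪ {x | ∃ e ∈ Eb, x = gB * e * gB⁻¹}) = ⊤

/-- an encoded element -/
noncomputable def e (P : ℕ) : M22 := el Spor.M22 P

/-- a product of generators of the hexad group -/
def ew (r : ℕ) : List ℕ :=
  ((List.range 4).filter fun i => r.testBit i).map fun i => eL.getD i 0

/-- the value of a word -/
noncomputable def val (l : List ℕ) : M22 := (l.map e).prod

/-- all codes lie in M22 -/
def allMc (l : List ℕ) : Bool := l.all mc

theorem coe_val {l : List ℕ} (h : allMc l = true) :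
    ((val l : M22) : Equiv.Perm GolayPt) = (l.map permOf).prod :=
  coe_prod_el mc_sound (List.all_eq_true.1 h)

theorem val_eq {l l' : List ℕ} (h : (allMc l && allMc l' && sameWord l l') = true) :
    val l = val l' := by
  simp only [Bool.and_eq_true] at h
  exact el_word_eq mc_sound (List.all_eq_true.1 h.1.1) (List.all_eq_true.1 h.1.2) h.2

theorem val_ne {l : List ℕ} (h : (allMc l && !isId l) = true) : val l ≠ 1 := by
  simp only [Bool.and_eq_true, Bool.not_eq_true'] at h
  intro e'
  have := (el_word_one mc_sound (List.all_eq_true.1 h.1)).1 e'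
  rw [h.2] at this
  exact Bool.noConfusion this

theorem val_nil : val [] = 1 := rfl

theorem val_cons (P : ℕ) (l : List ℕ) : val (P :: l) = e P * val l := by simp [val]

theorem val_append (l l' : List ℕ) : val (l ++ l') = val l * val l' := by simp [val]

theorem val_one (P : ℕ) : val [P] = e P := by simp [val]

theorem mc_ok : allMc (eL ++ [bg, bgI, pA, pB, pQ, pV, pW, hQ, hQI]) = true := by decide +kernel

/-- the hexad group -/
noncomputable def Eb : Subgroup M22 := Subgroup.closure {x | ∃ P ∈ eL, x = e P}

theorem ew_mem (r : ℕ) : val (ew r) ∈ Eb := by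
  refine Subgroup.list_prod_mem _ fun x hx => ?_
  obtain ⟨P, hP, rfl⟩ := List.mem_map.1 hx
  refine Subgroup.subset_closure ⟨P, ?_, rfl⟩
  obtain ⟨i, hi, rfl⟩ := List.mem_map.1 hP
  have hi' : i < eL.length := by
    have := List.mem_range.1 (List.mem_filter.1 hi).1
    simpa [eL] using this
  rw [List.getD_eq_getElem (hn := hi')]
  exact List.getElem_mem _

/-- is in the table -/
def inE (l : List ℕ) : Bool :=
  (List.range 16).any fun r => allMc l && allMc (ew r) && sameWord l (ew r)

theorem inE_mem {l : List ℕ} (h : inE l = true) : val l ∈ Eb := by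
  obtain ⟨r, -, hr⟩ := List.any_eq_true.1 h
  rw [val_eq hr]
  exact ew_mem r

theorem table_ok : (eL.all fun P => isId [P, P] &&
    (List.range 16).all fun r => inE (P :: ew r)) = true := by decide +kernel

theorem Eb_cases {x : M22} (hx : x ∈ Eb) : ∃ r < 16, x = val (ew r) := by
  have ht := List.all_eq_true.1 table_ok
  have step : ∀ P ∈ eL, ∀ r < 16, ∃ s < 16, e P * val (ew r) = val (ew s) := fun P hP r hr => by
    have h := ht P hP
    simp only [Bool.and_eq_true, List.all_eq_true] at h
    obtain ⟨s, hs, hs'⟩ := List.any_eq_true.1 (h.2 r (List.mem_range.2 hr))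
    exact ⟨s, List.mem_range.1 hs, by rw [← val_cons]; exact val_eq hs'⟩
  induction hx using Subgroup.closure_induction_left with
  | one => exact ⟨0, by norm_num, rfl⟩
  | mul_left y hy z _ ih =>
    obtain ⟨P, hP, rfl⟩ := hy
    obtain ⟨r, hr, rfl⟩ := ih
    exact step P hP r hr
  | inv_mul_cancel y hy z _ ih =>
    obtain ⟨P, hP, rfl⟩ := hy
    obtain ⟨r, hr, rfl⟩ := ih
    have hsq : e P * e P = 1 := by
      have h := ht P hP
      simp only [Bool.and_eq_true] at h
      have hm : allMc [P, P] = true := by
        have := List.all_eq_true.1 mc_ok P (by simp [hP])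
        simp [allMc, this]
      have := (el_word_one mc_sound (List.all_eq_true.1 hm)).2 h.1
      simpa [e] using this
    rw [inv_eq_of_mul_eq_one_left hsq]
    exact step P hP r hr

theorem not_mem_of_check {l : List ℕ}
    (h : ((List.range 16).all fun r => allMc l && allMc (ew r) && !sameWord l (ew r)) = true) :
    val l ∉ Eb := by
  intro hl
  obtain ⟨r, hr, e'⟩ := Eb_cases hl
  have h' := List.all_eq_true.1 h r (List.mem_range.2 hr)
  simp only [Bool.and_eq_true, Bool.not_eq_true'] at h'
  have e'' := congrArg Subtype.val e'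
  rw [coe_val h'.1.1, coe_val h'.1.2] at e''
  have hv : ∀ P ∈ l ++ ew r, valid P = true := fun P hP => by
    rcases List.mem_append.1 hP with hP | hP
    · exact (mc_sound P (List.all_eq_true.1 h'.1.1 P hP)).1
    · exact (mc_sound P (List.all_eq_true.1 h'.1.2 P hP)).1
  rw [sameWord_of_prod_eq (fun P hP => hv P (List.mem_append_left _ hP))
    (fun P hP => hv P (List.mem_append_right _ hP)) e''] at h'
  exact Bool.noConfusion h'.2

/-- a homomorphism moving the generators into the group preserves it -/
theorem map_Eb {ψ : M22 →* M22} (h : ∀ P ∈ eL, ψ (e P) ∈ Eb) : ∀ x ∈ Eb, ψ x ∈ Eb :=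
  fun _ hx => ((Subgroup.closure_le (K := Eb.comap ψ)).2 (by rintro _ ⟨P, hP, rfl⟩; exact h P hP)) hx

theorem e_bgI : e bgI = (e bg)⁻¹ := by
  refine (inv_eq_of_mul_eq_one_right ?_).symm
  have := (el_word_one mc_sound (l := [bg, bgI]) (List.all_eq_true.1 (by decide +kernel))).2
    (by decide +kernel)
  simpa [e] using this

/-- checks for a normalising element given with its inverse -/
def normOK (l l' : List ℕ) : Bool :=
  eL.all fun P => inE (l ++ [P] ++ l') && inE ([bgI] ++ l ++ [bg, P, bgI] ++ l' ++ [bg])

theorem norm_of {a : ℕ} (hsq : (allMc [a, a] && isId [a, a]) = true) (h : normOK [a] [a] = true) :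
    (∀ x ∈ Eb, e a * x * (e a)⁻¹ ∈ Eb) ∧
      ∀ x ∈ Eb, (e bg)⁻¹ * (e a * (e bg * x * (e bg)⁻¹) * (e a)⁻¹) * e bg ∈ Eb := by
  simp only [Bool.and_eq_true] at hsq
  have hinv : (e a)⁻¹ = e a := inv_eq_of_mul_eq_one_right (by
    have := (el_word_one mc_sound (List.all_eq_true.1 hsq.1)).2 hsq.2
    simpa [e] using this)
  have h' := List.all_eq_true.1 h
  constructor
  · refine map_Eb (ψ := (MulAut.conj (e a)).toMonoidHom) fun P hP => ?_
    have hh := h' P hP
    simp only [Bool.and_eq_true] at hh
    have := inE_mem hh.1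
    simpa [val, MulAut.conj_apply, hinv, mul_assoc] using this
  · have := map_Eb (ψ := ((MulAut.conj (e bg)⁻¹).toMonoidHom.comp
      (MulAut.conj (e a)).toMonoidHom).comp (MulAut.conj (e bg)).toMonoidHom) fun P hP => by
      have hh := h' P hP
      simp only [Bool.and_eq_true] at hh
      have := inE_mem hh.2
      simpa [val, MulAut.conj_apply, hinv, e_bgI, mul_assoc] using this
    intro x hx
    simpa [MulAut.conj_apply, mul_assoc] using this x hx

theorem C_good : (good pC && pimg pC 23 == 0 && pimg pC 0 == 23 && isId [pC, pC]) = true := by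
  decide +kernel

theorem C_duad : permOf pC ∈ M24DuadAut46.duadStab (none : GolayPt) (some 0) := by
  have h := C_good
  simp only [Bool.and_eq_true, beq_iff_eq] at h
  obtain ⟨⟨⟨hg, h1⟩, h2⟩, -⟩ := h
  have hv : valid pC = true := by
    simp only [good, Bool.and_eq_true] at hg
    exact hg.1
  refine ⟨permOf_mem_M24 hg, Or.inr ⟨?_, ?_⟩⟩
  · rw [Equiv.Perm.smul_def]
    apply idx_inj
    rw [idx_permOf hv]
    exact h1
  · rw [Equiv.Perm.smul_def]
    apply idx_inj
    rw [idx_permOf hv]
    exact h2

/-- the outer automorphism -/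
noncomputable def theta : MulAut M22 := M24DuadAut46.toAut ⟨permOf pC, C_duad⟩

theorem coe_theta (x : M22) :
    ((theta x : M22) : Equiv.Perm GolayPt) = permOf pC * (x : Equiv.Perm GolayPt) * permOf pC := by
  have h := C_good
  simp only [Bool.and_eq_true] at h
  have hi : (permOf pC)⁻¹ = permOf pC := by
    have hv : valid pC = true := by
      have := h.1.1.1
      simp only [good, Bool.and_eq_true] at this
      exact this.1
    exact GolayOutConst.inv_eq_of_word hv hv h.2
  show permOf pC * (x : Equiv.Perm GolayPt) * (permOf pC)⁻¹ = _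
  rw [hi]

/-- `theta` of a word is the other word -/
theorem theta_val {l l' : List ℕ}
    (h : (allMc l && allMc l' && sameWord (pC :: l ++ [pC]) l') = true) :
    theta (val l) = val l' := by
  simp only [Bool.and_eq_true] at h
  have hvC : valid pC = true := by decide +kernel
  apply Subtype.ext
  rw [coe_theta, coe_val h.1.1, coe_val h.1.2]
  have := prod_eq_of_sameWord (l := pC :: l ++ [pC]) (l' := l') (fun P hP => by
    rcases List.mem_append.1 hP with hP | hP
    · rcases List.mem_cons.1 hP with rfl | hP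
      · exact hvC
      · exact (mc_sound P (List.all_eq_true.1 h.1.1 P hP)).1
    · rw [List.mem_singleton.1 hP]; exact hvC)
    (fun P hP => (mc_sound P (List.all_eq_true.1 h.1.2 P hP)).1) h.2
  rw [← this]
  simp [mul_assoc]

theorem thetaE_ok : (eL.all fun P =>
    ((List.range 16).any fun r => allMc [P] && allMc (ew r) && sameWord (pC :: [P] ++ [pC]) (ew r)) &&
    ((List.range 16).any fun r => allMc [bg, P, bgI] && allMc ([bg] ++ ew r ++ [bgI]) &&
      sameWord (pC :: [bg, P, bgI] ++ [pC]) ([bg] ++ ew r ++ [bgI]))) = true := by decide +kernel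

/-- checks for the centraliser of `pQ` -/
def centOK : Bool := centS.all fun s =>
  !(isId ([hQ, s, hQI] ++ [hQ, s, hQI]) && !isId [hQ, s, hQI] &&
    sameWord (pC :: [hQ, s, hQI]) ([hQ, s, hQI] ++ [pC])) || sameWord [hQ, s, hQI] [pW]

theorem cent_ok : centOK = true := by decide +kernel

theorem hQ_ok : (sameWord [hQ, aS, hQI] [pQ] && isId [hQ, hQI] && isId [hQI, hQ]) = true := by
  decide +kernel

theorem cent_spec (x : M22) (hxq : x * e pQ = e pQ * x) (hx2 : x * x = 1) (hx1 : x ≠ 1)
    (hxt : theta x = x) : x = e pW := by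
  have hm := JFourM22Facts97.ok.1
  simp only [List.all_cons, List.all_nil, Bool.and_true, Bool.and_eq_true] at hm
  obtain ⟨h1, h2, h3, h4⟩ := JFourM22Facts97.chain_ok
  have hh := hQ_ok
  simp only [Bool.and_eq_true] at hh
  have hhm : allMc [hQ, hQI] = true := by decide +kernel
  have hi : e hQI = (e hQ)⁻¹ := by
    refine (inv_eq_of_mul_eq_one_right ?_).symm
    have := (el_word_one mc_sound (List.all_eq_true.1 hhm)).2 hh.1.2
    simpa [e] using this
  have hq : e hQ * el Spor.M22 aS * (e hQ)⁻¹ = e pQ := by
    have hl : allMc [hQ, aS, hQI] = true := by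
      simp only [allMc, List.all_cons, List.all_nil, Bool.and_true, Bool.and_eq_true] at hhm ⊢
      exact ⟨hhm.1, hm.1, hhm.2⟩
    have := val_eq (l := [hQ, aS, hQI]) (l' := [pQ]) (by
      rw [hl, hh.1.1]; decide +kernel)
    have hi' : el Spor.M22 hQI = (el Spor.M22 hQ)⁻¹ := hi
    simpa [val, e, hi', mul_assoc] using this
  have he : ((e hQ)⁻¹ * x * e hQ) * el Spor.M22 aS = el Spor.M22 aS * ((e hQ)⁻¹ * x * e hQ) := by
    have : el Spor.M22 aS = (e hQ)⁻¹ * e pQ * e hQ := by rw [← hq]; group
    rw [this]
    calc (e hQ)⁻¹ * x * e hQ * ((e hQ)⁻¹ * e pQ * e hQ) = (e hQ)⁻¹ * (x * e pQ) * e hQ := by group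
      _ = (e hQ)⁻¹ * (e pQ * x) * e hQ := by rw [hxq]
      _ = _ := by group
  have he' := congrArg Subtype.val he
  simp only [Subgroup.coe_mul, coe_el mc_sound hm.1] at he'
  obtain ⟨s, hs, hxs⟩ := exists_msol h1
    (fun T hT => (mc_sound T (List.all_eq_true.1 h2 T hT)).2)
    (by rw [JFourM22Facts97.card_M22, h3]) h4 ((e hQ)⁻¹ * x * e hQ).2
    (by simpa only [Subgroup.coe_mul] using he')
  have hs6 := List.all_eq_true.1 JFourM22Class97.cent_six s hs
  simp only [Bool.and_eq_true] at hs6
  have hsl : allMc [hQ, s, hQI] = true := by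
    simp only [allMc, List.all_cons, List.all_nil, Bool.and_true, Bool.and_eq_true] at hhm ⊢
    exact ⟨hhm.1, hs6.1, hhm.2⟩
  have hxv : x = val [hQ, s, hQI] := by
    have es : (e hQ)⁻¹ * x * e hQ = el Spor.M22 s :=
      Subtype.ext (by rw [coe_el mc_sound hs6.1]; exact hxs)
    simp only [val, List.map_cons, List.map_nil, List.prod_cons, List.prod_nil, mul_one, hi]
    rw [show e s = el Spor.M22 s from rfl, ← es]
    group
  have hC := List.all_eq_true.1 cent_ok s hs
  simp only [Bool.or_eq_true, Bool.not_eq_true', ← Bool.not_eq_true] at hC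
  rcases hC with hC | hC
  · exfalso
    apply hC
    have hv : ∀ P ∈ [hQ, s, hQI], valid P = true := fun P hP =>
      (mc_sound P (List.all_eq_true.1 hsl P hP)).1
    have hvC : valid pC = true := by decide +kernel
    simp only [Bool.and_eq_true, Bool.not_eq_true']
    refine ⟨⟨?_, ?_⟩, ?_⟩
    · refine (el_word_one mc_sound (fun P hP => ?_)).1 (by
        show val ([hQ, s, hQI] ++ [hQ, s, hQI]) = 1
        rw [val_append, ← hxv, hx2])
      rcases List.mem_append.1 hP with hP | hP <;> exact List.all_eq_true.1 hsl P hP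
    · rw [← Bool.not_eq_true]
      exact fun h => hx1 (hxv.trans ((el_word_one mc_sound (List.all_eq_true.1 hsl)).2 h))
    · refine sameWord_of_prod_eq (fun P hP => ?_) (fun P hP => ?_) ?_
      · rcases List.mem_cons.1 hP with rfl | hP
        · exact hvC
        · exact hv P hP
      · rcases List.mem_append.1 hP with hP | hP
        · exact hv P hP
        · rw [List.mem_singleton.1 hP]; exact hvC
      · rw [List.map_cons, List.prod_cons, List.map_append, List.prod_append, ← coe_val hsl, ← hxv,
          List.map_singleton, List.prod_singleton]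
        have hCC : permOf pC * permOf pC = 1 := by
          have := (prod_eq_one_iff (l := [pC, pC]) (by simp [hvC])).2 (by decide +kernel)
          simpa using this
        calc permOf pC * (x : Equiv.Perm GolayPt)
            = permOf pC * (x : Equiv.Perm GolayPt) * (permOf pC * permOf pC) := by rw [hCC, mul_one]
          _ = (permOf pC * (x : Equiv.Perm GolayPt) * permOf pC) * permOf pC := by group
          _ = _ := by rw [← coe_theta, hxt]
  · rw [hxv, ← val_one]
    exact val_eq (by rw [hsl, hC]; decide +kernel)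

/-- the standard generator as a word over both groups -/
def word2 (w : List (Bool × ℕ)) : List ℕ :=
  (w.map fun x => if x.1 then [bg] ++ ew x.2 ++ [bgI] else ew x.2).flatten

theorem word2_mem (w : List (Bool × ℕ)) : val (word2 w) ∈
    Subgroup.closure ((Eb : Set M22) ∪ {x | ∃ y ∈ Eb, x = e bg * y * (e bg)⁻¹}) := by
  induction w with
  | nil => exact one_mem _
  | cons c w ih =>
    rw [word2, List.map_cons, List.flatten_cons, val_append]
    refine mul_mem (Subgroup.subset_closure ?_) ih
    obtain ⟨b, r⟩ := c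
    cases b
    · exact Or.inl (ew_mem r)
    · refine Or.inr ⟨val (ew r), ew_mem r, ?_⟩
      simp only [if_true, val_append, val_one, e_bgI]

theorem gT_eq : GolayOutM22.gT = e GolayOutConst.pT :=
  Subtype.ext (coe_el mc_sound (P := GolayOutConst.pT) (by decide +kernel)).symm

theorem gV_eq : GolayOutM22.gV = e GolayOutConst.pV22 :=
  Subtype.ext (coe_el mc_sound (P := GolayOutConst.pV22) (by decide +kernel)).symm

theorem gen_ok : (allMc (word2 wT) && allMc [GolayOutConst.pT] &&
      sameWord (word2 wT) [GolayOutConst.pT]) = true ∧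
    (allMc (word2 wV) && allMc [GolayOutConst.pV22] &&
      sameWord (word2 wV) [GolayOutConst.pV22]) = true := by decide +kernel

/-- The model. -/
theorem model : Model Eb theta (e bg) (e pA) (e pB) (e pQ) (e pV) (e pW) := by
  have sq : ∀ P, (allMc [P, P] && isId [P, P]) = true → e P * e P = 1 := fun P h => by
    simp only [Bool.and_eq_true] at h
    have := (el_word_one mc_sound (List.all_eq_true.1 h.1)).2 h.2
    simpa [e] using this
  have ne : ∀ P, (allMc [P] && !isId [P]) = true → e P ≠ 1 := fun P h => by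
    simpa [val] using val_ne h
  have fx : ∀ P, (allMc [P] && allMc [P] && sameWord (pC :: [P] ++ [pC]) [P]) = true →
      theta (e P) = e P := fun P h => by
    simpa [val] using theta_val h
  obtain ⟨aE, aB⟩ := norm_of (a := pA) (by decide +kernel) (by decide +kernel)
  obtain ⟨bE, bB⟩ := norm_of (a := pB) (by decide +kernel) (by decide +kernel)
  have hTh := List.all_eq_true.1 thetaE_ok
  refine
    { outer := ?_, theta_sq := ?_, thetaE := ?_, thetaB := ?_, aE := aE, aB := aB, bE := bE,
      bB := bB, a_sq := sq _ (by decide +kernel), b_sq := sq _ (by decide +kernel),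
      a_ne := ne _ (by decide +kernel), b_ne := ne _ (by decide +kernel),
      theta_a := fx _ (by decide +kernel), theta_b := fx _ (by decide +kernel), ab_four := ?_,
      avoid := ?_, q_cube := ?_, q_ne := ne _ (by decide +kernel),
      theta_q := fx _ (by decide +kernel), v_sq := sq _ (by decide +kernel),
      v_ne := ne _ (by decide +kernel), vq := ?_, w_eq := ?_, w_sq := sq _ (by decide +kernel),
      w_ne := ne _ (by decide +kernel), cent := cent_spec, gen := ?_ }
  · intro g hg
    refine M24DuadAut46.not_inn C_duad (fun h => ?_) ?_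
    · have h23 := (GolayOutM22.mem_iff.1 h).2.1
      rcases C_duad.2 with h' | h'
      · have hi := congrArg idx h'.1
        rw [Equiv.Perm.smul_def, idx_permOf (by decide +kernel)] at hi
        exact absurd hi (by decide +kernel)
      · rw [h'.1] at h23
        exact absurd h23 (by simp)
    · exact ⟨g, hg.symm⟩
  · intro x
    have hCC : permOf pC * permOf pC = 1 := by
      have := (prod_eq_one_iff (l := [pC, pC]) (by decide +kernel)).2 (by decide +kernel)
      simpa using this
    apply Subtype.ext
    rw [coe_theta, coe_theta]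
    calc permOf pC * (permOf pC * (x : Equiv.Perm GolayPt) * permOf pC) * permOf pC
        = (permOf pC * permOf pC) * (x : Equiv.Perm GolayPt) * (permOf pC * permOf pC) := by group
      _ = _ := by rw [hCC, one_mul, mul_one]
  · refine map_Eb (ψ := theta.toMonoidHom) fun P hP => ?_
    have h := hTh P hP
    simp only [Bool.and_eq_true, List.any_eq_true] at h
    obtain ⟨⟨r, -, ⟨hm, hm'⟩, hs⟩, -⟩ := h
    show theta (e P) ∈ Eb
    rw [← val_one P, theta_val (l' := ew r) (by rw [hm, hm', hs]; rfl)]
    exact ew_mem r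
  · have := map_Eb (ψ := ((MulAut.conj (e bg)⁻¹).toMonoidHom.comp
      theta.toMonoidHom).comp (MulAut.conj (e bg)).toMonoidHom) fun P hP => by
      have h := hTh P hP
      simp only [Bool.and_eq_true, List.any_eq_true] at h
      obtain ⟨-, r, -, ⟨hm, hm'⟩, hs⟩ := h
      have e' := theta_val (l := [bg, P, bgI]) (l' := [bg] ++ ew r ++ [bgI]) (by
        rw [hm, hm', hs]; rfl)
      have e1 : val [bg, P, bgI] = e bg * e P * (e bg)⁻¹ := by simp [val, e_bgI, mul_assoc]
      rw [e1, val_append, val_append, val_one, val_one, e_bgI] at e'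
      simp only [MonoidHom.comp_apply, MulEquiv.coe_toMonoidHom, MulAut.conj_apply, inv_inv]
      rw [e', show (e bg)⁻¹ * (e bg * val (ew r) * (e bg)⁻¹) * e bg = val (ew r) by group]
      exact ew_mem r
    intro x hx
    simpa [MulAut.conj_apply] using this x hx
  · have h := val_eq (l := [pA, pB, pA, pB, pA, pB, pA, pB]) (l' := []) (by decide +kernel)
    simpa [val, pow_succ, mul_assoc] using h
  · intro i hi j hj hmem
    by_contra hne
    have hk : ∀ l : List ℕ, val l = (e pA * e pB) ^ i * e pA ^ j →
        ((List.range 16).all fun r => allMc l && allMc (ew r) && !sameWord l (ew r)) = true →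
        False := fun l hl h => not_mem_of_check h (hl ▸ hmem)
    interval_cases i <;> interval_cases j
    · exact hne ⟨rfl, rfl⟩
    · exact hk [pA] (by simp [val]) (by decide +kernel)
    · exact hk [pA, pB] (by simp [val]) (by decide +kernel)
    · exact hk [pA, pB, pA] (by simp [val, mul_assoc]) (by decide +kernel)
    · exact hk [pA, pB, pA, pB] (by simp [val, pow_two, mul_assoc]) (by decide +kernel)
    · exact hk [pA, pB, pA, pB, pA] (by simp [val, pow_two, mul_assoc]) (by decide +kernel)
    · exact hk [pA, pB, pA, pB, pA, pB] (by simp [val, pow_succ, mul_assoc]) (by decide +kernel)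
    · exact hk [pA, pB, pA, pB, pA, pB, pA] (by simp [val, pow_succ, mul_assoc]) (by decide +kernel)
  · have h := val_eq (l := [pQ, pQ, pQ]) (l' := []) (by decide +kernel)
    simpa [val, pow_succ, mul_assoc] using h
  · have h := val_eq (l := [pV, pQ]) (l' := [pQ, pV]) (by decide +kernel)
    simpa [val] using h
  · have h := theta_val (l := [pV]) (l' := [pV, pW]) (by decide +kernel)
    have h1 : e pV * e pV = 1 := sq _ (by decide +kernel)
    simp only [val, List.map_cons, List.map_nil, List.prod_cons, List.prod_nil, mul_one] at h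
    rw [h, ← mul_assoc, h1, one_mul]
  · rw [eq_top_iff, ← GolayOutM22.closure_gens, Subgroup.closure_le]
    obtain ⟨hT, hV⟩ := gen_ok
    rintro x (rfl | rfl)
    · rw [gT_eq, ← val_one GolayOutConst.pT, ← val_eq hT]; exact word2_mem _
    · rw [gV_eq, ← val_one GolayOutConst.pV22, ← val_eq hV]; exact word2_mem _

end Cfsg.Agent.J4CompModel43
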