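import Mathlib
import Cfsg.Prelude.Def_JankoFourType
import Cfsg.Agent.Lib.JFourM22Facts97
import Cfsg.Agent.Lib.HallCore
import Cfsg.Agent.Lib.PGroupsBasic
import Cfsg.Agent.Lib.FusionPearl
import Cfsg.Agent.S0088

/-!
The centraliser of the involution in a group of Janko-four type: the centraliser and normaliser of the
subgroup of order three inside it, the map onto M22, and the Sylow 3-subgroup.
-/

set_option autoImplicit false
set_option linter.style.haveILetI false
set_option linter.unusedSectionVars false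

namespace Cfsg.Agent.JFourSetting97

open Subgroup Cfsg.Agent.JFourM22Facts97
open scoped Pointwise

variable {G : Type*} [Group G] [Finite G]

/-- The centraliser of the involution. -/
abbrev HH (z : G) : Subgroup G := centralizer ({z} : Set G)

/-- The normaliser of `P` in the centraliser. -/
abbrev NP (z : G) (P : Subgroup G) : Subgroup G := HH z ⊓ normalizer (P : Set G)

/-- The centraliser of `P` in the centraliser. -/
abbrev KK (z : G) (P : Subgroup G) : Subgroup G := HH z ⊓ centralizer (P : Set G)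

/-- The normal subgroup `N` and a generator of `P`. -/
structure Pack (z : G) (P N : Subgroup G) (p : G) : Prop where
  hz : orderOf z = 2
  cardE : Nat.card (Cfsg.twoCoreOfCentralizer z) = 2 ^ 13
  EN : Cfsg.twoCoreOfCentralizer z ≤ N
  NH : N ≤ HH z
  norm : HH z ≤ normalizer (N : Set G)
  cardN : Nat.card N = 3 * 2 ^ 13
  quot : ∃ _ : (N.subgroupOf (HH z)).Normal,
    Nonempty (↥(HH z) ⧸ N.subgroupOf (HH z) ≃* MulAut ↥Cfsg.Spor.M22)
  PN : P ≤ N
  cardP : Nat.card P = 3
  gen : zpowers p = P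
  ord : orderOf p = 3
  fixE : Cfsg.twoCoreOfCentralizer z ⊓ centralizer (P : Set G) = zpowers z
  ne : NP z P ≠ KK z P
  der : P ≤ ⁅KK z P, KK z P⁆

theorem exists_pack {z : G} {P : Subgroup G} (hJ : Cfsg.IsOfJankoFourTypeWith z P) :
    ∃ N p, Pack z P N p := by
  obtain ⟨hz, -, hE, -, ⟨N, hEN, hNH, hnorm, hN, hq, hPN⟩, hP, hfix, hne, hder⟩ := hJ
  haveI : Fact (Nat.Prime 3) := ⟨Nat.prime_three⟩
  obtain ⟨p, hp⟩ := exists_prime_orderOf_dvd_card' (G := P) 3 (by rw [hP])
  have hp' : orderOf (p : G) = 3 := (Subgroup.orderOf_coe p).trans hp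
  have hgen : zpowers (p : G) = P := Subgroup.eq_of_le_of_card_ge (zpowers_le.2 p.2)
    (by rw [hP, Nat.card_zpowers, hp'])
  exact ⟨N, p, hz, hE, hEN, hNH, hnorm, by rw [hN, hE], hq, hPN, hP, hgen, hp', hfix, hne, hder⟩

variable {z p : G} {P N : Subgroup G} (D : Pack z P N p)
include D

theorem card_HH : Nat.card (HH z) = 2 ^ 13 * 3 * 887040 := by
  obtain ⟨hn, ⟨e⟩⟩ := D.quot
  rw [Subgroup.card_eq_card_quotient_mul_card_subgroup (N.subgroupOf (HH z)), Nat.card_congr e.toEquiv,
    card_mulAut, Nat.card_congr (Subgroup.subgroupOfEquivOfLe D.NH).toEquiv, D.cardN]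
  norm_num

theorem PH : P ≤ HH z := D.PN.trans D.NH

theorem p_mem : p ∈ P := D.gen ▸ mem_zpowers p

theorem E_normal {h e : G} (hh : h ∈ HH z) (he : e ∈ Cfsg.twoCoreOfCentralizer z) :
    h * e * h⁻¹ ∈ Cfsg.twoCoreOfCentralizer z := by
  obtain ⟨x, hx, rfl⟩ := he
  exact ⟨⟨h, hh⟩ * x * ⟨h, hh⟩⁻¹, (HallCore.pCore_normal 2 _).conj_mem x hx _, by simp⟩

theorem z_mem : z ∈ Cfsg.twoCoreOfCentralizer z := by
  have h : z ∈ Cfsg.twoCoreOfCentralizer z ⊓ centralizer (P : Set G) := D.fixE ▸ mem_zpowers z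
  exact h.1

theorem zp_comm : Commute z p :=
  ((mem_centralizer_singleton_iff.1 (PH D (p_mem D))).symm : z * p = p * z)

theorem order_zp : orderOf (z * p) = 6 := by
  rw [(zp_comm D).orderOf_mul_eq_mul_orderOf_of_coprime (by rw [D.hz, D.ord]; norm_num), D.hz, D.ord]

theorem E_inf_NP {e : G} (he : e ∈ Cfsg.twoCoreOfCentralizer z) (hn : e ∈ normalizer (P : Set G)) :
    e ∈ zpowers z := by
  rw [← D.fixE]
  refine ⟨he, fun x hx => ?_⟩
  have h1 : e * x * e⁻¹ * x⁻¹ ∈ P := mul_mem ((mem_normalizer_iff.1 hn x).1 hx) (inv_mem hx)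
  have h2 : e * x * e⁻¹ * x⁻¹ ∈ Cfsg.twoCoreOfCentralizer z := by
    have := mul_mem he (E_normal D (PH D hx) (inv_mem he))
    simpa [mul_assoc] using this
  have hbot : P ⊓ Cfsg.twoCoreOfCentralizer z = ⊥ :=
    Subgroup.inf_eq_bot_of_coprime (by rw [D.cardP, D.cardE]; norm_num)
  have h3 : e * x * e⁻¹ * x⁻¹ = 1 := by
    rw [← Subgroup.mem_bot, ← hbot]; exact ⟨h1, h2⟩
  exact (mul_inv_eq_iff_eq_mul.1 (mul_inv_eq_one.1 h3)).symm

theorem center_elems {x : G} (hx : x ∈ zpowers (z * p)) : ∀ k ∈ KK z P, k * x = x * k := by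
  intro k hk
  have h1 : Commute k z := mem_centralizer_singleton_iff.1 hk.1
  have h2 : Commute k p := (hk.2 p (p_mem D)).symm
  obtain ⟨i, rfl⟩ := mem_zpowers_iff.1 hx
  exact ((h1.mul_right h2).zpow_right i).eq

theorem zp_KK : zpowers (z * p) ≤ KK z P := by
  refine zpowers_le.2 (mul_mem ⟨mem_centralizer_singleton_iff.2 rfl, ?_⟩ ⟨PH D (p_mem D), ?_⟩)
  · intro x hx; exact (mem_centralizer_singleton_iff.1 (PH D hx))
  · intro x hx
    rw [SetLike.mem_coe, ← D.gen] at hx
    obtain ⟨i, rfl⟩ := mem_zpowers_iff.1 hx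
    exact ((Commute.refl p).zpow_left i).eq

theorem z_zp : z ∈ zpowers (z * p) := by
  refine mem_zpowers_iff.2 ⟨3, ?_⟩
  rw [show (3 : ℤ) = ((3 : ℕ) : ℤ) by norm_num, zpow_natCast, (zp_comm D).mul_pow,
    show p ^ 3 = 1 by rw [← D.ord]; exact pow_orderOf_eq_one p, mul_one, pow_succ,
    show z ^ 2 = 1 by rw [← D.hz]; exact pow_orderOf_eq_one z, one_mul]

theorem P_zp : P ≤ zpowers (z * p) := by
  rw [← D.gen, zpowers_le]
  have h := mul_mem (inv_mem (z_zp D)) (mem_zpowers (z * p))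
  simpa using h

theorem N_inf_NP : N ⊓ normalizer (P : Set G) = zpowers (z * p) := by
  refine (Subgroup.eq_of_le_of_card_ge ?_ ?_).symm
  · refine zpowers_le.2 ⟨mul_mem (D.EN (z_mem D)) (D.PN (p_mem D)), ?_⟩
    exact Subgroup.centralizer_le_normalizer _ ((zp_KK D (mem_zpowers _)).2)
  · rw [Nat.card_zpowers, order_zp D]
    set W := N ⊓ normalizer (P : Set G) with hW
    set E := Cfsg.twoCoreOfCentralizer z with hEdef
    haveI hEn : (E.subgroupOf N).Normal := ⟨fun n hn g => E_normal D (D.NH g.2) hn⟩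
    let f : W →* ↥N ⧸ E.subgroupOf N :=
      (QuotientGroup.mk' _).comp (Subgroup.inclusion inf_le_left)
    have hker : f.ker ≤ (zpowers z).subgroupOf W := fun w hw => by
      rw [MonoidHom.mem_ker, MonoidHom.comp_apply, QuotientGroup.mk'_apply, QuotientGroup.eq_one_iff] at hw
      exact E_inf_NP D hw w.2.2
    have hq : Nat.card (↥N ⧸ E.subgroupOf N) = 3 := by
      have h := Subgroup.card_eq_card_quotient_mul_card_subgroup (E.subgroupOf N)
      rw [D.cardN, Nat.card_congr (Subgroup.subgroupOfEquivOfLe D.EN).toEquiv, D.cardE] at h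
      omega
    have h2 : Nat.card f.ker ∣ 2 := by
      refine (Subgroup.card_dvd_of_le hker).trans ?_
      refine (Subgroup.card_comap_dvd_of_injective _ _ (Subgroup.subtype_injective W)).trans ?_
      rw [Nat.card_zpowers, D.hz]
    have h3 : f.ker.index ∣ 3 := by
      rw [Subgroup.index_ker]; exact hq ▸ Subgroup.card_subgroup_dvd_card _
    rw [← Subgroup.card_mul_index f.ker]
    exact Nat.le_of_dvd (by norm_num) (Nat.mul_dvd_mul h2 h3)

/-- The centraliser of `P` covers a normal subgroup of index two and the normaliser covers all. -/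
theorem exists_aut : ∃ ψ : ↥(NP z P) →* MulAut ↥Cfsg.Spor.M22, Function.Surjective ψ ∧
    ψ.ker = (zpowers (z * p)).subgroupOf (NP z P) := by
  obtain ⟨hn, ⟨e⟩⟩ := D.quot
  haveI : Fact (Nat.Prime 3) := ⟨Nat.prime_three⟩
  let Ps : Sylow 3 N := Sylow.ofCard (P.subgroupOf N) (by
    rw [Nat.card_congr (Subgroup.subgroupOfEquivOfLe D.PN).toEquiv, D.cardP, D.cardN,
      Nat.factorization_mul (by norm_num) (by norm_num), Finsupp.add_apply,
      Nat.Prime.factorization_self Nat.prime_three, Nat.factorization_eq_zero_of_not_dvd (by norm_num)]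
    norm_num)
  let q : ↥(NP z P) →* ↥(HH z) ⧸ N.subgroupOf (HH z) :=
    (QuotientGroup.mk' _).comp (Subgroup.inclusion inf_le_left)
  refine ⟨e.toMonoidHom.comp q, ?_, ?_⟩
  · refine e.surjective.comp fun x => ?_
    induction x using QuotientGroup.induction_on with
    | _ h =>
      have hconj : ∀ x ∈ P, (h : G) * x * (h : G)⁻¹ ∈ N := fun x hx =>
        (mem_normalizer_iff.1 (D.norm h.2) x).1 (D.PN hx)
      let Q : Subgroup N := (P.map (MulAut.conj (h : G)).toMonoidHom).subgroupOf N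
      have hQle : P.map (MulAut.conj (h : G)).toMonoidHom ≤ N := by
        rintro _ ⟨x, hx, rfl⟩; exact hconj x hx
      let Qs : Sylow 3 N := Sylow.ofCard Q (by
        rw [Nat.card_congr (Subgroup.subgroupOfEquivOfLe hQle).toEquiv,
          Subgroup.card_map_of_injective (MulAut.conj (h : G)).injective]
        exact (Nat.card_congr (Subgroup.subgroupOfEquivOfLe D.PN).toEquiv).symm.trans Ps.card_eq_multiplicity)
      obtain ⟨n, hn'⟩ := MulAction.exists_smul_eq N Qs Ps
      have hnorm : (n : G) * h ∈ normalizer (P : Set G) := by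
        refine mem_normalizer_fintype fun x hx => ?_
        have h1 : (⟨(h : G) * x * (h : G)⁻¹, hconj x hx⟩ : N) ∈ (Qs : Subgroup N) := ⟨x, hx, rfl⟩
        have h2 : MulAut.conj n • (⟨(h : G) * x * (h : G)⁻¹, hconj x hx⟩ : N) ∈ (Ps : Subgroup N) := by
          rw [← hn', Sylow.coe_subgroup_smul]
          exact Subgroup.smul_mem_pointwise_smul _ _ _ h1
        have h3 : ((n * ⟨(h : G) * x * (h : G)⁻¹, hconj x hx⟩ * n⁻¹ : N) : G) ∈ P := h2
        simpa [mul_assoc] using h3
      refine ⟨⟨(n : G) * h, mul_mem (D.NH n.2) h.2, hnorm⟩, ?_⟩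
      rw [MonoidHom.comp_apply, QuotientGroup.mk'_apply, QuotientGroup.eq]
      show ((Subgroup.inclusion _ ⟨(n : G) * h, _⟩)⁻¹ * h : ↥(HH z)) ∈ N.subgroupOf (HH z)
      rw [Subgroup.mem_subgroupOf]
      have h1 := (mem_normalizer_iff.1 (D.norm (inv_mem h.2)) _).1 (inv_mem n.2)
      simpa [mul_assoc] using h1
  · ext x
    rw [MonoidHom.mem_ker, MonoidHom.comp_apply, MulEquiv.coe_toMonoidHom, MulEquiv.map_eq_one_iff,
      MonoidHom.comp_apply, QuotientGroup.mk'_apply, QuotientGroup.eq_one_iff,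
      Subgroup.mem_subgroupOf, Subgroup.mem_subgroupOf, ← N_inf_NP D]
    exact ⟨fun h => ⟨h, x.2.2⟩, fun h => h.1⟩

theorem KK_le_NP : KK z P ≤ NP z P := inf_le_inf_left _ (Subgroup.centralizer_le_normalizer _)

theorem card_NP : Nat.card (NP z P) = 6 * 887040 := by
  obtain ⟨ψ, hs, hk⟩ := exists_aut D
  rw [← Subgroup.card_mul_index ψ.ker, Subgroup.index_ker, MonoidHom.range_eq_top.2 hs,
    Subgroup.card_top, card_mulAut, hk,
    Nat.card_congr (Subgroup.subgroupOfEquivOfLe ((zp_KK D).trans (KK_le_NP D))).toEquiv,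
    Nat.card_zpowers, order_zp D]

theorem KK_index : (KK z P).relIndex (NP z P) = 2 ∧ ((KK z P).subgroupOf (NP z P)).Normal := by
  let f : ↥(NP z P) →* MulAut P :=
    (Subgroup.normalizerMonoidHom P).comp (Subgroup.inclusion inf_le_right)
  have hker : f.ker = (KK z P).subgroupOf (NP z P) := by
    ext x
    rw [MonoidHom.mem_ker, MonoidHom.comp_apply, ← MonoidHom.mem_ker, Subgroup.normalizerMonoidHom_ker,
      Subgroup.mem_subgroupOf, Subgroup.mem_subgroupOf, Subgroup.mem_inf]
    exact ⟨fun h => ⟨x.2.1, h⟩, fun h => h.2⟩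
  refine ⟨?_, hker ▸ inferInstance⟩
  have h2 : Nat.card (MulAut P) ≤ 2 := by
    haveI : Fact (Nat.Prime 3) := ⟨Nat.prime_three⟩
    haveI hc : IsCyclic P := isCyclic_of_prime_card D.cardP
    rw [IsCyclic.card_mulAut, D.cardP]
    decide
  have hne : (KK z P).relIndex (NP z P) ≠ 1 := fun h =>
    D.ne (le_antisymm (Subgroup.relIndex_eq_one.1 h) (KK_le_NP D))
  have hle : (KK z P).relIndex (NP z P) ≤ 2 := by
    rw [Subgroup.relIndex, ← hker, Subgroup.index_ker]
    exact (Subgroup.card_le_card_group _).trans h2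
  have h0 : (KK z P).relIndex (NP z P) ≠ 0 := Subgroup.index_ne_zero_of_finite
  omega

theorem card_KK : Nat.card (KK z P) = 6 * 443520 := by
  have h := Subgroup.card_mul_index ((KK z P).subgroupOf (NP z P))
  rw [card_NP D, Nat.card_congr (Subgroup.subgroupOfEquivOfLe (KK_le_NP D)).toEquiv,
    show ((KK z P).subgroupOf (NP z P)).index = 2 from (KK_index D).1] at h
  omega

/-- The map onto M22. -/
theorem exists_hom : ∃ f : ↥(KK z P) →* ↥Cfsg.Spor.M22, Function.Surjective f ∧
    f.ker = (zpowers (z * p)).subgroupOf (KK z P) ∧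
    ∃ ψ : ↥(NP z P) →* MulAut ↥Cfsg.Spor.M22, Function.Surjective ψ ∧
      ψ.ker = (zpowers (z * p)).subgroupOf (NP z P) ∧
      ∀ k : ↥(KK z P), ψ ⟨k, KK_le_NP D k.2⟩ = MulAut.conj (f k) := by
  obtain ⟨ψ, hs, hk⟩ := exists_aut D
  obtain ⟨hidx, hnorm⟩ := KK_index D
  set M := ↥Cfsg.Spor.M22
  set Ks := (KK z P).subgroupOf (NP z P) with hKs
  haveI := GolaySimple.isSimpleGroup_M22
  set I := Ks.map ψ with hI
  haveI : I.Normal := hnorm.map ψ hs
  have hker_le : ψ.ker ≤ Ks := by
    rw [hk]; exact Subgroup.comap_mono (zp_KK D)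
  have hIidx : I.index = 2 := by
    rw [hI, Subgroup.index_map_eq Ks hs hker_le]; exact hidx
  have hInn : Inn M = I := by
    have hJle : Inn M ≤ I := by
      intro a ha
      obtain ⟨c, rfl⟩ := ha
      have hJ : (I.comap (MulAut.conj : M →* MulAut M)).Normal := inferInstance
      rcases hJ.eq_bot_or_eq_top with e | e
      · exfalso
        have h1 : (I.comap (MulAut.conj : M →* MulAut M)).index ∣ 2 := by
          rw [Subgroup.index_comap, ← hIidx]
          exact Subgroup.relIndex_dvd_index_of_normal _ _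
        rw [e, Subgroup.index_bot, card_M22] at h1
        norm_num at h1
      · exact (e ▸ Subgroup.mem_top c : c ∈ I.comap (MulAut.conj : M →* MulAut M))
    refine Subgroup.eq_of_le_of_card_ge hJle ?_
    have h := Subgroup.card_mul_index I
    rw [hIidx, card_mulAut] at h
    rw [card_inn]; exact Nat.le_of_mul_le_mul_right (h.le.trans (by norm_num)) (by norm_num : 0 < 2)
  have hinj : Function.Injective (MulAut.conj : M →* MulAut M) := by
    rw [← MonoidHom.ker_eq_bot_iff, eq_bot_iff]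
    intro c hc
    rw [← center_eq_bot, Subgroup.mem_center_iff]
    intro g
    have := congrArg (fun a : MulAut M => a g) (MonoidHom.mem_ker.1 hc)
    simp only [MulAut.conj_apply, MulAut.one_apply] at this
    exact (mul_inv_eq_iff_eq_mul.1 this).symm
  let ι : M ≃* Inn M := MonoidHom.ofInjective hinj
  let r : ↥(KK z P) →* Inn M := (ψ.comp (Subgroup.inclusion (KK_le_NP D))).codRestrict _ fun k => by
    rw [hInn]; exact ⟨Subgroup.inclusion (KK_le_NP D) k, k.2, rfl⟩
  refine ⟨ι.symm.toMonoidHom.comp r, ι.symm.surjective.comp fun a => ?_, ?_, ψ, hs, hk, fun k => ?_⟩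
  · obtain ⟨x, hx, hxa⟩ : (a : MulAut M) ∈ I := hInn ▸ a.2
    exact ⟨⟨x, hx⟩, Subtype.ext hxa⟩
  · ext k
    rw [MonoidHom.mem_ker, MonoidHom.comp_apply, MulEquiv.coe_toMonoidHom, MulEquiv.map_eq_one_iff,
      Subtype.ext_iff]
    show ψ (Subgroup.inclusion (KK_le_NP D) k) = 1 ↔ _
    rw [← MonoidHom.mem_ker, hk]
    rfl
  · have : ι (ι.symm (r k)) = r k := ι.apply_symm_apply _
    exact (congrArg Subtype.val this).symm

end Cfsg.Agent.JFourSetting97
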