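import Mathlib
import Cfsg.Agent.Lib.JFourSetting97

/-!
Endgames for the subgroup of order three in a group of Janko-four type, from the containment of its
normaliser in the centraliser of the involution.
-/

set_option autoImplicit false
set_option linter.style.haveILetI false
set_option linter.unusedSectionVars false

namespace Cfsg.Agent.JFourEnd97

open Subgroup Cfsg.Agent.JFourSetting97 Cfsg.Agent.JFourM22Facts97
open scoped Pointwise commutatorElement

theorem isExtraspecial_of_equiv {A B : Type*} [Group A] [Group B] [Finite B] (e : A ≃* B)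
    (h : Cfsg.IsExtraspecial 3 B) : Cfsg.IsExtraspecial 3 A := by
  haveI : Fact (Nat.Prime 3) := ⟨Nat.prime_three⟩
  haveI : Finite A := Finite.of_equiv B e.symm.toEquiv
  obtain ⟨⟨hp, hf, hd⟩, hc⟩ := h
  have hcen : (center A).map e.toMonoidHom = center B := by
    ext b
    rw [Subgroup.mem_map_equiv, Subgroup.mem_center_iff, Subgroup.mem_center_iff]
    constructor
    · intro h g
      have := h (e.symm g)
      rw [← map_mul, ← map_mul] at this
      exact e.symm.injective this
    · intro h g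
      apply e.injective
      simp only [map_mul, MulEquiv.apply_symm_apply]
      exact h (e g)
  refine ⟨⟨hp.of_equiv e.symm, ?_, ?_⟩, ?_⟩
  · refine Subgroup.map_injective (f := e.toMonoidHom) e.injective ?_
    rw [hcen, ← hf]
    exact PGroupsBasic.map_frattini (p := 3) (hp.of_equiv e.symm) e.surjective
  · refine Subgroup.map_injective (f := e.toMonoidHom) e.injective ?_
    rw [hcen, ← hd, commutator_def, Subgroup.map_commutator, Subgroup.map_top_of_surjective _ e.surjective,
      commutator_def]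
  · rw [← hc, ← hcen, Subgroup.card_map_of_injective (f := e.toMonoidHom) e.injective]

variable {G : Type*} [Group G] [Finite G] {z p : G} {P N : Subgroup G} (D : Pack z P N p)
/-- The Sylow 3-subgroup. -/
structure Syl (z : G) (P R : Subgroup G) : Prop where
  le : R ≤ KK z P
  card : Nat.card R = 27
  P_le : P ≤ R
  cube : ∀ x ∈ R, x ^ 3 = 1
  cen : ∀ x ∈ R, (∀ y ∈ R, x * y = y * x) → x ∈ P
  comm : ∀ x ∈ R, ∀ y ∈ R, x * y * x⁻¹ * y⁻¹ ∈ P
  extra : Cfsg.IsExtraspecial 3 R

include D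

theorem cube_z {w : G} (hw : w ∈ zpowers (z * p)) : w ^ 3 ∈ zpowers z := by
  obtain ⟨i, rfl⟩ := mem_zpowers_iff.1 hw
  rw [(zp_comm D).mul_zpow, ((zp_comm D).zpow_zpow i i).mul_pow, ← zpow_natCast (p ^ i), ← zpow_mul,
    mul_comm i, zpow_mul, show p ^ ((3 : ℕ) : ℤ) = 1 by rw [zpow_natCast, ← D.ord]; exact pow_orderOf_eq_one p,
    one_zpow, mul_one, ← zpow_natCast, ← zpow_mul]
  exact zpow_mem (mem_zpowers z) _

theorem cube_one {w : G} (hw : w ∈ zpowers (z * p)) (h3 : w ^ 3 = 1) : w ∈ P := by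
  obtain ⟨i, rfl⟩ := mem_zpowers_iff.1 hw
  rw [(zp_comm D).mul_zpow] at h3 ⊢
  have hp3 : (p ^ i) ^ 3 = 1 := by
    rw [← zpow_natCast, ← zpow_mul, mul_comm, zpow_mul, zpow_natCast,
      show p ^ 3 = 1 by rw [← D.ord]; exact pow_orderOf_eq_one p, one_zpow]
  rw [((zp_comm D).zpow_zpow i i).mul_pow, hp3, mul_one] at h3
  have h2 : (z ^ i) ^ 2 = 1 := by
    rw [← zpow_natCast, ← zpow_mul, mul_comm, zpow_mul, zpow_natCast,
      show z ^ 2 = 1 by rw [← D.hz]; exact pow_orderOf_eq_one z, one_zpow]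
  rw [pow_succ, h2, one_mul] at h3
  rw [h3, one_mul]
  exact zpow_mem (p_mem D) i

theorem z_inf_P {w : G} (h : w ∈ zpowers z) (h' : w ∈ P) : w = 1 := by
  have hbot : zpowers z ⊓ P = ⊥ :=
    Subgroup.inf_eq_bot_of_coprime (by rw [Nat.card_zpowers, D.hz, D.cardP]; norm_num)
  rw [← Subgroup.mem_bot, ← hbot]; exact ⟨h, h'⟩

theorem p_pow_three : p ^ 3 = 1 := by rw [← D.ord]; exact pow_orderOf_eq_one p

theorem P_cases {w : G} (hw : w ∈ P) : w = 1 ∨ w = p ∨ w = p ^ 2 := by
  rw [← D.gen] at hw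
  obtain ⟨n, rfl⟩ := mem_powers_iff_mem_zpowers.2 hw
  show p ^ n = _ ∨ p ^ n = _ ∨ p ^ n = _
  rw [pow_eq_pow_mod n (p_pow_three D)]
  rcases (by omega : n % 3 = 0 ∨ n % 3 = 1 ∨ n % 3 = 2) with e | e | e <;> simp [e]

theorem exists_syl : ∃ R : Subgroup G, Syl z P R := by
  haveI : Fact (Nat.Prime 3) := ⟨Nat.prime_three⟩
  obtain ⟨f, hf, hker, -⟩ := exists_hom D
  obtain ⟨S⟩ := (inferInstance : Nonempty (Sylow 3 ↥(KK z P)))
  have hKK := card_KK D
  have hfac : (6 * 443520 : ℕ).factorization 3 = 3 := by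
    rw [show (6 * 443520 : ℕ) = 3 ^ 3 * 98560 by norm_num, Nat.factorization_mul (by norm_num) (by norm_num),
      Finsupp.add_apply, Nat.Prime.factorization_pow Nat.prime_three, Finsupp.single_eq_same,
      Nat.factorization_eq_zero_of_not_dvd (by norm_num)]
  have hS : Nat.card (S : Subgroup ↥(KK z P)) = 27 := by
    rw [S.card_eq_multiplicity, hKK, hfac]; norm_num
  set Pk := P.subgroupOf (KK z P) with hPk
  have hPKK : P ≤ KK z P := (P_zp D).trans (zp_KK D)
  have hPc : Pk ≤ center ↥(KK z P) := by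
    intro x hx
    rw [Subgroup.mem_center_iff]
    exact fun k => Subtype.ext (center_elems D (P_zp D hx) k k.2)
  haveI hPn : Pk.Normal := PGroupsBasic.normal_of_le_center hPc
  have hPkc : Nat.card Pk = 3 := by
    rw [Nat.card_congr (Subgroup.subgroupOfEquivOfLe hPKK).toEquiv, D.cardP]
  have hPS : Pk ≤ (S : Subgroup ↥(KK z P)) :=
    (S.is_maximal' ((IsPGroup.of_card (n := 1) (by rw [hPkc, pow_one]) : IsPGroup 3 Pk).to_sup_of_normal_left
      S.isPGroup') le_sup_right).le.trans' le_sup_left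
  set R := (S : Subgroup ↥(KK z P)).map (KK z P).subtype with hR
  have hRKK : R ≤ KK z P := Subgroup.map_subtype_le _
  have hRc : Nat.card R = 27 := by
    rw [hR, Subgroup.card_map_of_injective (Subgroup.subtype_injective _), hS]
  have hPR : P ≤ R := fun x hx => ⟨⟨x, hPKK hx⟩, hPS (show (⟨x, hPKK hx⟩ : ↥(KK z P)) ∈ Pk from hx), rfl⟩
  -- not commutative
  have hnc : ¬ IsMulCommutative R := by
    intro hc
    have hc' : IsMulCommutative (S : Subgroup ↥(KK z P)) := ⟨⟨fun a b => by
      have := hc.is_comm.comm ⟨_, Subgroup.mem_map_of_mem _ a.2⟩ ⟨_, Subgroup.mem_map_of_mem _ b.2⟩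
      exact Subtype.ext (Subtype.ext (by simpa using congrArg (fun u : R => (u : G)) this))⟩⟩
    have h := Cfsg.Agent.S0088.result (S : Subgroup ↥(KK z P)) hc' (by
      rw [hS, show (27 : ℕ) = 3 ^ 3 by norm_num, Nat.coprime_pow_left_iff (by norm_num), Nat.prime_three.coprime_iff_not_dvd]
      exact S.not_dvd_index)
    have hp : (⟨p, hPKK (p_mem D)⟩ : ↥(KK z P)) ∈ commutator ↥(KK z P) := by
      have h1 := D.der (p_mem D)
      rw [← Subgroup.map_subtype_commutator] at h1
      obtain ⟨x, hx, hxp⟩ := h1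
      rwa [show (⟨p, hPKK (p_mem D)⟩ : ↥(KK z P)) = x from Subtype.ext hxp.symm]
    have h1 : (⟨p, hPKK (p_mem D)⟩ : ↥(KK z P)) ∈ (S : Subgroup ↥(KK z P)) ⊓ commutator _ ⊓ center _ :=
      ⟨⟨hPS (x := (⟨p, hPKK (p_mem D)⟩ : ↥(KK z P))) (show p ∈ P from p_mem D), hp⟩,
        hPc (x := (⟨p, hPKK (p_mem D)⟩ : ↥(KK z P))) (show p ∈ P from p_mem D)⟩
    rw [h, Subgroup.mem_bot] at h1
    have := D.ord
    rw [show p = 1 from congrArg Subtype.val h1, orderOf_one] at this
    norm_num at this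
  have hcenc : Nat.card (center R) = 3 :=
    FusionPearl.card_center_of_card_cube (p := 3) (by rw [hRc]; norm_num) hnc
  have hcen : center R = P.subgroupOf R := by
    refine (Subgroup.eq_of_le_of_card_ge (fun x hx => ?_) ?_).symm
    · rw [Subgroup.mem_center_iff]
      exact fun y => Subtype.ext (center_elems D (P_zp D hx) y (hRKK y.2))
    · rw [hcenc, Nat.card_congr (Subgroup.subgroupOfEquivOfLe hPR).toEquiv, D.cardP]
  have hR3 : IsPGroup 3 R := IsPGroup.of_card (n := 3) (by rw [hRc]; norm_num)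
  have hidx : (center R).index = 9 := by
    have := Subgroup.card_mul_index (center R)
    rw [hcenc, hRc] at this; omega
  have hcomm : commutator R ≤ center R :=
    PGroupsBasic.commutator_le_of_index_le_sq (p := 3) hR3 (by rw [hidx]; norm_num)
  have hcommP : ∀ x ∈ R, ∀ y ∈ R, x * y * x⁻¹ * y⁻¹ ∈ P := by
    intro x hx y hy
    have h1 : ⁅(⟨x, hx⟩ : R), ⟨y, hy⟩⁆ ∈ center R :=
      hcomm (Subgroup.commutator_mem_commutator (Subgroup.mem_top _) (Subgroup.mem_top _))
    rw [hcen, Subgroup.mem_subgroupOf] at h1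
    simpa [commutatorElement_def] using h1
  -- cubes
  have hfx : ∀ (x : G) (hx : x ∈ R), f ⟨x, hRKK hx⟩ ^ 3 = 1 := by
    intro x hx
    obtain ⟨T, hT⟩ := (S.isPGroup'.map f).exists_le_sylow
    exact (sylow_three T).2.1 _ (hT ⟨⟨x, hRKK hx⟩, by
      obtain ⟨s, hs, rfl⟩ := hx; exact hs, rfl⟩)
  have hcubeP : ∀ x ∈ R, x ^ 3 ∈ P := by
    intro x hx
    have h1 : (⟨x, hRKK hx⟩ : ↥(KK z P)) ^ 3 ∈ f.ker := by
      rw [MonoidHom.mem_ker, map_pow]; exact hfx x hx
    rw [hker] at h1
    have h2 : x ^ 3 ∈ zpowers (z * p) := h1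
    refine cube_one D h2 ?_
    have h9 : (⟨x, hx⟩ : R) ^ 9 = 1 := by
      by_cases h : orderOf (⟨x, hx⟩ : R) = 27
      · exfalso
        haveI := isCyclic_of_orderOf_eq_card (⟨x, hx⟩ : R) (by rw [h, hRc])
        exact hnc inferInstance
      · have h1 : orderOf (⟨x, hx⟩ : R) ∣ 3 ^ 3 := by
          have := orderOf_dvd_natCard (⟨x, hx⟩ : R); rwa [hRc] at this
        obtain ⟨k, hk, e⟩ := (Nat.dvd_prime_pow Nat.prime_three).1 h1
        rw [← orderOf_dvd_iff_pow_eq_one, e, show (9 : ℕ) = 3 ^ 2 by norm_num]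
        refine pow_dvd_pow 3 ?_
        rcases Nat.lt_or_ge k 3 with hk3 | hk3
        · omega
        · exfalso; exact h (by rw [e, show k = 3 by omega]; norm_num)
    rw [← pow_mul]
    exact congrArg Subtype.val h9
  have hcube : ∀ x ∈ R, x ^ 3 = 1 := by
    intro x hx
    by_cases h1 : f ⟨x, hRKK hx⟩ = 1
    · have : x ∈ zpowers (z * p) := by
        have h2 : (⟨x, hRKK hx⟩ : ↥(KK z P)) ∈ f.ker := h1
        rwa [hker] at h2
      exact z_inf_P D (cube_z D this) (hcubeP x hx)
    · haveI : Fact (Nat.Prime 3) := ⟨Nat.prime_three⟩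
      have hxx := mul_mem hx hx
      have ho : ∀ w : ↥Cfsg.Spor.M22, w ^ 3 = 1 → w ≠ 1 → orderOf w = 3 :=
        fun w => orderOf_eq_prime
      have hne : f ⟨x * x, hRKK hxx⟩ ≠ 1 := by
        intro e
        apply h1
        have h2 : f ⟨x, hRKK hx⟩ ^ 2 = 1 := by
          rw [pow_two, ← map_mul]; exact e
        have h3 := hfx x hx
        rw [pow_succ, h2, one_mul] at h3
        exact h3
      obtain ⟨c, hc⟩ := isConj_iff.1 (three_class _ _ (ho _ (hfx x hx) h1) (ho _ (hfx _ hxx) hne))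
      obtain ⟨k, rfl⟩ := hf c
      set w : G := (x * x)⁻¹ * ((k : G) * x * (k : G)⁻¹) with hwdef
      have hw : w ∈ zpowers (z * p) := by
        have h2 : (⟨x * x, hRKK hxx⟩ : ↥(KK z P))⁻¹ * (k * ⟨x, hRKK hx⟩ * k⁻¹) ∈ f.ker := by
          rw [MonoidHom.mem_ker]; simp only [map_mul, map_inv, hc, inv_mul_cancel]
        rw [hker] at h2
        exact h2
      have hcomm' : Commute (x * x) w := center_elems D hw _ (hRKK hxx)
      have hk : (x * x * w) ^ 3 = x ^ 3 := by
        rw [hwdef, mul_inv_cancel_left, conj_pow, center_elems D (P_zp D (hcubeP x hx)) k k.2,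
          mul_inv_cancel_right]
      rw [hcomm'.mul_pow] at hk
      have hxx3 : (x * x) ^ 3 = x ^ 3 * x ^ 3 := (Commute.refl x).mul_pow 3
      rw [hxx3, mul_assoc, mul_eq_left] at hk
      -- the cube is inverse to a power of the involution
      exact z_inf_P D ((eq_inv_of_mul_eq_one_left hk).symm ▸ inv_mem (cube_z D hw)) (hcubeP x hx)
  refine ⟨R, hRKK, hRc, hPR, hcube, fun x hx h => ?_, hcommP, ⟨hR3, ?_, ?_⟩, hcenc⟩
  · have : (⟨x, hx⟩ : R) ∈ center R :=
      Subgroup.mem_center_iff.2 fun y => Subtype.ext (h y y.2).symm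
    rwa [hcen] at this
  · refine le_antisymm (PGroupsBasic.frattini_le_of_elementary_quotient (p := 3) hcomm fun x => ?_) ?_
    · rw [hcen]
      show (x : G) ^ 3 ∈ P
      rw [hcube _ x.2]; exact one_mem _
    · refine le_trans (le_of_eq ?_) (PGroupsBasic.commutator_le_frattini hR3)
      refine (Subgroup.eq_of_le_of_card_ge hcomm ?_).symm
      have hne : commutator R ≠ ⊥ := fun e => hnc ⟨⟨fun a b => by
        have h := Subgroup.commutator_mem_commutator (Subgroup.mem_top a) (Subgroup.mem_top b)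
        rw [← _root_.commutator_def, e, Subgroup.mem_bot, commutatorElement_eq_one_iff_mul_comm] at h
        exact h⟩⟩
      have hd := Subgroup.card_dvd_of_le hcomm
      rw [hcenc] at hd ⊢
      rcases (Nat.dvd_prime Nat.prime_three).1 hd with e | e
      · exact absurd ((Subgroup.card_eq_one).1 e) hne
      · exact e.ge
  · refine Subgroup.eq_of_le_of_card_ge hcomm ?_
    have hne : commutator R ≠ ⊥ := fun e => hnc ⟨⟨fun a b => by
      have h := Subgroup.commutator_mem_commutator (Subgroup.mem_top a) (Subgroup.mem_top b)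
      rw [← _root_.commutator_def, e, Subgroup.mem_bot, commutatorElement_eq_one_iff_mul_comm] at h
      exact h⟩⟩
    have hd := Subgroup.card_dvd_of_le hcomm
    rw [hcenc] at hd ⊢
    rcases (Nat.dvd_prime Nat.prime_three).1 hd with e | e
    · exact absurd ((Subgroup.card_eq_one).1 e) hne
    · exact e.ge

/-- The centraliser of `P` in the centraliser is the sixfold cover. -/
theorem cover (hz : z ∈ ⁅KK z P, KK z P⁆) :
    ⁅KK z P, KK z P⁆ = KK z P ∧ IsCyclic ↥(center ↥(KK z P)) ∧ Nat.card ↥(center ↥(KK z P)) = 6 ∧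
      Cfsg.Spor.IsoM22 (↥(KK z P) ⧸ center ↥(KK z P)) := by
  obtain ⟨f, hf, hker, -⟩ := exists_hom D
  have hcenter : center ↥(KK z P) = f.ker := by
    refine le_antisymm (fun x hx => ?_) fun x hx => ?_
    · rw [MonoidHom.mem_ker, ← Subgroup.mem_bot, ← center_eq_bot, Subgroup.mem_center_iff]
      intro g
      obtain ⟨k, rfl⟩ := hf g
      rw [← map_mul, ← map_mul, Subgroup.mem_center_iff.1 hx k]
    · rw [hker] at hx
      exact Subgroup.mem_center_iff.2 fun k => Subtype.ext (center_elems D hx k k.2)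
  have hzp : zpowers (z * p) ≤ ⁅KK z P, KK z P⁆ := by
    rw [zpowers_le]
    exact mul_mem hz (D.der (p_mem D))
  refine ⟨le_antisymm ?_ ?_, ?_, ?_, ?_⟩
  · rw [← Subgroup.map_subtype_commutator]; exact Subgroup.map_subtype_le _
  · intro x hx
    haveI := GolaySimple.isSimpleGroup_M22
    have htop : (commutator ↥(KK z P)).map f = ⊤ := by
      haveI : ((commutator ↥(KK z P)).map f).Normal := Subgroup.Normal.map inferInstance f hf
      refine (Subgroup.Normal.eq_bot_or_eq_top inferInstance).resolve_left fun e => not_comm ⟨⟨fun a b => ?_⟩⟩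
      obtain ⟨a, rfl⟩ := hf a
      obtain ⟨b, rfl⟩ := hf b
      have h := Subgroup.mem_map_of_mem f (Subgroup.commutator_mem_commutator (Subgroup.mem_top a) (Subgroup.mem_top b))
      rw [← _root_.commutator_def, e, Subgroup.mem_bot, map_commutatorElement,
        commutatorElement_eq_one_iff_mul_comm] at h
      exact h
    obtain ⟨y, hy, hxy⟩ : f ⟨x, hx⟩ ∈ (commutator ↥(KK z P)).map f := htop ▸ Subgroup.mem_top _
    have h1 : y⁻¹ * ⟨x, hx⟩ ∈ f.ker := by rw [MonoidHom.mem_ker, map_mul, map_inv, hxy, inv_mul_cancel]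
    rw [hker] at h1
    have h2 : (y : G)⁻¹ * x ∈ ⁅KK z P, KK z P⁆ := hzp h1
    have h3 : (y : G) ∈ ⁅KK z P, KK z P⁆ := by
      rw [← Subgroup.map_subtype_commutator]; exact ⟨y, hy, rfl⟩
    have := mul_mem h3 h2
    rwa [mul_inv_cancel_left] at this
  · rw [hcenter, hker]
    exact (Subgroup.subgroupOfEquivOfLe (zp_KK D)).isCyclic.2 inferInstance
  · rw [hcenter, hker, Nat.card_congr (Subgroup.subgroupOfEquivOfLe (zp_KK D)).toEquiv, Nat.card_zpowers,
      order_zp D]
  · exact ⟨(QuotientGroup.quotientMulEquivOfEq hcenter).trans (QuotientGroup.quotientKerEquivOfSurjective f hf)⟩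

section Sylow

variable {R : Subgroup G} (S : Syl z P R) (hN : normalizer (P : Set G) ≤ HH z)
include S

theorem normalizer_R_le : normalizer (R : Set G) ≤ normalizer (P : Set G) := by
  intro g hg
  refine mem_normalizer_fintype fun x hx => S.cen _ ((mem_normalizer_iff.1 hg x).1 (S.P_le hx)) fun y hy => ?_
  have h1 := (mem_normalizer_iff.1 (inv_mem hg) y).1 hy
  rw [inv_inv] at h1
  have h2 : (g⁻¹ * y * g) * x = x * (g⁻¹ * y * g) := center_elems D (P_zp D hx) _ (S.le h1)
  calc g * x * g⁻¹ * y = g * (x * (g⁻¹ * y * g)) * g⁻¹ := by group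
    _ = g * ((g⁻¹ * y * g) * x) * g⁻¹ := by rw [h2]
    _ = y * (g * x * g⁻¹) := by group

theorem RH : R ≤ HH z := S.le.trans inf_le_left

/-- A 3-subgroup of the centraliser is conjugate in it into the Sylow subgroup. -/
theorem conj_into {Q : Subgroup G} (hQ : IsPGroup 3 Q) (hQH : Q ≤ HH z) :
    ∃ h ∈ HH z, ∀ x ∈ Q, h * x * h⁻¹ ∈ R := by
  haveI : Fact (Nat.Prime 3) := ⟨Nat.prime_three⟩
  let Rs : Sylow 3 ↥(HH z) := Sylow.ofCard (R.subgroupOf (HH z)) (by
    rw [Nat.card_congr (Subgroup.subgroupOfEquivOfLe (RH D S)).toEquiv, S.card, card_HH D,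
      show (2 ^ 13 * 3 * 887040 : ℕ) = 3 ^ 3 * (2 ^ 13 * 98560) by norm_num,
      Nat.factorization_mul (by norm_num) (by norm_num), Finsupp.add_apply,
      Nat.Prime.factorization_pow Nat.prime_three, Finsupp.single_eq_same,
      Nat.factorization_eq_zero_of_not_dvd (by norm_num)]
    norm_num)
  obtain ⟨Qs, hQs⟩ := (hQ.comap_subtype (K := HH z)).exists_le_sylow
  obtain ⟨h, hh⟩ := MulAction.exists_smul_eq ↥(HH z) Qs Rs
  refine ⟨h, h.2, fun x hx => ?_⟩
  have h1 : MulAut.conj h • (⟨x, hQH hx⟩ : ↥(HH z)) ∈ (Rs : Subgroup ↥(HH z)) := by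
    rw [← hh, Sylow.coe_subgroup_smul]
    exact Subgroup.smul_mem_pointwise_smul _ _ _ (hQs (show (⟨x, hQH hx⟩ : ↥(HH z)) ∈ Q.subgroupOf _ from hx))
  exact h1

include hN

theorem normalizer_R_le_H : normalizer (R : Set G) ≤ HH z := (normalizer_R_le D S).trans hN

theorem is_sylow : ∃ T : Sylow 3 G, (T : Subgroup G) = R := by
  haveI : Fact (Nat.Prime 3) := ⟨Nat.prime_three⟩
  obtain ⟨T, hT⟩ := (IsPGroup.of_card (n := 3) (by rw [S.card]; norm_num) : IsPGroup 3 R).exists_le_sylow
  refine ⟨T, le_antisymm ?_ hT⟩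
  by_contra hne
  have hlt : R.subgroupOf (T : Subgroup G) < ⊤ := by
    refine lt_of_le_of_ne le_top fun e => hne ?_
    exact Subgroup.subgroupOf_eq_top.1 e
  haveI : Group.IsNilpotent (T : Subgroup G) := T.isPGroup'.isNilpotent
  obtain ⟨g, hgn, hgR⟩ := SetLike.exists_of_lt (Group.normalizerCondition_of_isNilpotent _ hlt)
  have hgN : (g : G) ∈ normalizer (R : Set G) := by
    refine mem_normalizer_fintype fun x hx => ?_
    have h := (mem_normalizer_iff.1 hgn ⟨x, hT hx⟩).1 hx
    exact h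
  set W : Subgroup G := (T : Subgroup G) ⊓ HH z with hW
  have hRW : R ≤ W := le_inf hT (RH D S)
  have hWc : Nat.card W ∣ 27 := by
    obtain ⟨k, hk⟩ := IsPGroup.iff_card.1 (T.isPGroup'.to_le (inf_le_left : W ≤ _))
    have h1 : Nat.card W ∣ 2 ^ 13 * 3 * 887040 := card_HH D ▸ Subgroup.card_dvd_of_le inf_le_right
    rw [hk, show (2 ^ 13 * 3 * 887040 : ℕ) = 3 ^ 3 * (2 ^ 13 * 98560) by norm_num] at h1
    rw [hk, show (27 : ℕ) = 3 ^ 3 by norm_num]
    exact (Nat.Coprime.pow_left k (by norm_num : Nat.Coprime 3 (2 ^ 13 * 98560))).dvd_of_dvd_mul_right h1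
  have hWR : R = W := Subgroup.eq_of_le_of_card_ge hRW (S.card ▸ Nat.le_of_dvd (by norm_num) hWc)
  exact hgR (show (g : G) ∈ R from hWR ▸ ⟨g.2, normalizer_R_le_H D S hN hgN⟩)

theorem card_normalizer : Nat.card (normalizer (R : Set G)) = 864 := by
  haveI : Fact (Nat.Prime 3) := ⟨Nat.prime_three⟩
  haveI hMfin : Finite (MulAut ↥Cfsg.Spor.M22) := Finite.of_injective (fun a => (a : ↥Cfsg.Spor.M22 → ↥Cfsg.Spor.M22)) DFunLike.coe_injective
  obtain ⟨f, hf, hker, ψ, hψ, hψk, hψf⟩ := exists_hom D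
  set T := (R.subgroupOf (KK z P)).map f with hT
  have hTc : Nat.card T = 9 := by
    set g := f.comp (Subgroup.inclusion S.le) with hg
    have hgr : g.range = T := by
      rw [hT, hg, MonoidHom.range_comp]
      congr 1
      ext v
      exact ⟨fun ⟨u, e⟩ => e ▸ u.2, fun hv => ⟨⟨v, hv⟩, rfl⟩⟩
    have hgk : g.ker = P.subgroupOf R := by
      ext x
      rw [hg, MonoidHom.mem_ker, MonoidHom.comp_apply, ← MonoidHom.mem_ker, hker, Subgroup.mem_subgroupOf,
        Subgroup.mem_subgroupOf]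
      exact ⟨fun h => cube_one D h (S.cube x x.2), fun h => P_zp D h⟩
    have := Subgroup.card_mul_index g.ker
    rw [Subgroup.index_ker, hgr, hgk, Nat.card_congr (Subgroup.subgroupOfEquivOfLe S.P_le).toEquiv,
      D.cardP, S.card] at this
    omega
  let Ts : Sylow 3 ↥Cfsg.Spor.M22 := Sylow.ofCard T (by
    rw [hTc, card_M22, show (443520 : ℕ) = 3 ^ 2 * 49280 by norm_num,
      Nat.factorization_mul (by norm_num) (by norm_num), Finsupp.add_apply,
      Nat.Prime.factorization_pow Nat.prime_three, Finsupp.single_eq_same,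
      Nat.factorization_eq_zero_of_not_dvd (by norm_num)]
    norm_num)
  have h72 : Nat.card (normalizer (T : Set ↥Cfsg.Spor.M22)) = 72 := (sylow_three Ts).2.2.2.1
  set M := ↥Cfsg.Spor.M22
  set NA : Subgroup (MulAut M) := normalizer ((T.map (MulAut.conj : M →* MulAut M) : Subgroup (MulAut M)) : Set (MulAut M)) with hNA
  have hcj : ∀ (a : MulAut M) (t : M), a * MulAut.conj t * a⁻¹ = MulAut.conj (a t) := by
    intro a t
    ext y
    simp [MulAut.mul_apply]
  have hinj : Function.Injective (MulAut.conj : M →* MulAut M) := by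
    rw [← MonoidHom.ker_eq_bot_iff, eq_bot_iff]
    intro c hc
    rw [← center_eq_bot, Subgroup.mem_center_iff]
    intro g
    have := congrArg (fun a : MulAut M => a g) (MonoidHom.mem_ker.1 hc)
    simp only [MulAut.conj_apply, MulAut.one_apply] at this
    exact (mul_inv_eq_iff_eq_mul.1 this).symm
  have hNAmem : ∀ a : MulAut M, a ∈ NA ↔ ∀ t ∈ T, a t ∈ T := by
    intro a
    constructor
    · intro ha t ht
      obtain ⟨t', ht', e⟩ := (mem_normalizer_iff.1 ha _).1 (Subgroup.mem_map_of_mem _ ht)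
      rw [hcj] at e
      rwa [← hinj e]
    · intro ha
      refine mem_normalizer_fintype ?_
      rintro _ ⟨t, ht, rfl⟩
      rw [hcj]
      exact Subgroup.mem_map_of_mem _ (ha t ht)
  have h144 : Nat.card NA = 144 := by
    let q : NA →* MulAut M ⧸ Inn M := (QuotientGroup.mk' _).comp NA.subtype
    have hq : Function.Surjective q := by
      intro x
      induction x using QuotientGroup.induction_on with
      | _ a =>
        obtain ⟨c, hc⟩ := MulAction.exists_smul_eq M (Sylow.ofCard (T.map a.toMonoidHom) (by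
          rw [Subgroup.card_map_of_injective a.injective]; exact Ts.card_eq_multiplicity) : Sylow 3 M) Ts
        refine ⟨⟨MulAut.conj c * a, (hNAmem _).2 fun t ht => ?_⟩, ?_⟩
        · have h1 : MulAut.conj c • a t ∈ (Ts : Subgroup M) := by
            rw [← hc, Sylow.coe_subgroup_smul]
            exact Subgroup.smul_mem_pointwise_smul _ _ _ ⟨t, ht, rfl⟩
          exact h1
        · show QuotientGroup.mk (MulAut.conj c * a) = (QuotientGroup.mk a : MulAut M ⧸ Inn M)
          rw [QuotientGroup.mk_mul, (QuotientGroup.eq_one_iff _).2 (show MulAut.conj c ∈ Inn M from ⟨c, rfl⟩), one_mul]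
    have hk : q.ker.map NA.subtype = (normalizer (T : Set M)).map (MulAut.conj : M →* MulAut M) := by
      ext a
      constructor
      · rintro ⟨b, hb, rfl⟩
        rw [SetLike.mem_coe, MonoidHom.mem_ker, MonoidHom.comp_apply, QuotientGroup.mk'_apply,
          QuotientGroup.eq_one_iff] at hb
        obtain ⟨c, hc⟩ := hb
        exact ⟨c, mem_normalizer_fintype fun t ht => by
          have := (hNAmem _).1 b.2 t ht
          rw [show (b : MulAut M) = MulAut.conj c from hc.symm] at this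
          exact this, hc⟩
      · rintro ⟨c, hc, rfl⟩
        refine ⟨⟨MulAut.conj c, (hNAmem _).2 fun t ht => (mem_normalizer_iff.1 hc t).1 ht⟩, ?_, rfl⟩
        rw [SetLike.mem_coe, MonoidHom.mem_ker, MonoidHom.comp_apply, QuotientGroup.mk'_apply,
          QuotientGroup.eq_one_iff]
        exact ⟨c, rfl⟩
    have h1 := Subgroup.card_mul_index q.ker
    rw [Subgroup.index_ker, MonoidHom.range_eq_top.2 hq, Subgroup.card_top,
      ← Subgroup.card_map_of_injective (Subgroup.subtype_injective NA), hk,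
      Subgroup.card_map_of_injective hinj, h72] at h1
    have h2 := Subgroup.card_eq_card_quotient_mul_card_subgroup (Inn M)
    rw [card_mulAut, card_inn] at h2
    omega
  have hle : normalizer (R : Set G) ≤ NP z P :=
    le_inf (normalizer_R_le_H D S hN) (normalizer_R_le D S)
  set φ := ψ.comp (Subgroup.inclusion hle) with hφ
  have hzR : zpowers (z * p) ≤ normalizer (R : Set G) := fun w hw => mem_normalizer_fintype fun x hx => by
    rw [← center_elems D hw x (S.le hx), mul_inv_cancel_right]; exact hx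
  have hφk : φ.ker = (zpowers (z * p)).subgroupOf (normalizer (R : Set G)) := by
    ext x
    rw [hφ, MonoidHom.mem_ker, MonoidHom.comp_apply, ← MonoidHom.mem_ker, hψk]
    rfl
  have hφr : φ.range = NA := by
    ext a
    constructor
    · rintro ⟨x, rfl⟩
      refine (hNAmem _).2 ?_
      rintro _ ⟨r, hr, rfl⟩
      have hx : (x : G) * (r : G) * (x : G)⁻¹ ∈ R := (mem_normalizer_iff.1 x.2 _).1 hr
      refine ⟨⟨_, S.le hx⟩, hx, hinj ?_⟩
      rw [← hcj, ← hψf, ← hψf]
      simp only [hφ, MonoidHom.comp_apply, ← map_mul, ← map_inv]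
      rfl
    · intro ha
      obtain ⟨x, rfl⟩ := hψ a
      suffices hxn : (x : G) ∈ normalizer (R : Set G) from ⟨⟨x, hxn⟩, rfl⟩
      refine mem_normalizer_fintype fun r hr => ?_
      have ht : ψ x (f ⟨r, S.le hr⟩) ∈ T := (hNAmem _).1 ha _ ⟨_, hr, rfl⟩
      obtain ⟨r', hr', e⟩ := ht
      have hr'R : (r' : G) ∈ R := hr'
      set u : ↥(NP z P) := x * ⟨r, KK_le_NP D (S.le hr)⟩ * x⁻¹ with hu
      have h1 : ψ (⟨r', KK_le_NP D r'.2⟩⁻¹ * u) = 1 := by
        rw [map_mul, map_inv, hψf, e, hu, map_mul, map_mul, map_inv, hψf ⟨r, S.le hr⟩, hcj, inv_mul_cancel]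
      rw [← MonoidHom.mem_ker, hψk] at h1
      set w : G := (r' : G)⁻¹ * ((x : G) * r * (x : G)⁻¹) with hwdef
      have hw : w ∈ zpowers (z * p) := h1
      have hc : Commute (r' : G) w := center_elems D hw r' r'.2
      have h3 : w ^ 3 = 1 := by
        have h4 : ((r' : G) * w) ^ 3 = 1 := by
          rw [hwdef, mul_inv_cancel_left, conj_pow, S.cube r hr, mul_one, mul_inv_cancel]
        rwa [hc.mul_pow, S.cube _ hr'R, one_mul] at h4
      have h5 := mul_mem hr'R (S.P_le (cube_one D hw h3))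
      rwa [hwdef, mul_inv_cancel_left] at h5
  rw [← Subgroup.card_mul_index φ.ker, Subgroup.index_ker, hφr, h144, hφk,
    Nat.card_congr (Subgroup.subgroupOfEquivOfLe hzR).toEquiv, Nat.card_zpowers, order_zp D]

/-- The Sylow 3-subgroup of the group. -/
theorem sylow_facts (T : Sylow 3 G) (hT : (T : Subgroup G) ≤ HH z) :
    Cfsg.IsExtraspecial 3 ↥(T : Subgroup G) ∧ Nat.card ↥(T : Subgroup G) = 27 ∧
      Monoid.exponent ↥(T : Subgroup G) = 3 ∧ normalizer ((T : Subgroup G) : Set G) ≤ HH z ∧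
      Nat.card ↥(normalizer ((T : Subgroup G) : Set G)) = 864 := by
  haveI : Fact (Nat.Prime 3) := ⟨Nat.prime_three⟩
  obtain ⟨T₀, hT₀⟩ := is_sylow D S hN
  obtain ⟨h, hh, hconj⟩ := conj_into D S T.isPGroup' hT
  have hTR : (T : Subgroup G).map (MulAut.conj h).toMonoidHom = R := by
    refine Subgroup.eq_of_le_of_card_ge ?_ ?_
    · rintro _ ⟨x, hx, rfl⟩; exact hconj x hx
    · rw [Subgroup.card_map_of_injective (MulAut.conj h).injective, ← hT₀, T.card_eq_multiplicity,
        T₀.card_eq_multiplicity]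
  let e : ↥(T : Subgroup G) ≃* ↥R :=
    ((T : Subgroup G).equivMapOfInjective _ (MulAut.conj h).injective).trans (MulEquiv.subgroupCongr hTR)
  have hcard : Nat.card ↥(T : Subgroup G) = 27 := by rw [Nat.card_congr e.toEquiv, S.card]
  have hnorm : (normalizer ((T : Subgroup G) : Set G)).map (MulAut.conj h).toMonoidHom =
      normalizer (R : Set G) := by
    rw [Subgroup.map_equiv_normalizer_eq, hTR]
  refine ⟨isExtraspecial_of_equiv e S.extra, hcard, ?_, ?_, ?_⟩
  · rw [Monoid.exponent_eq_of_mulEquiv e]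
    have hdvd : Monoid.exponent R ∣ 3 :=
      Monoid.exponent_dvd_of_forall_pow_eq_one fun x => Subtype.ext (S.cube x x.2)
    refine ((Nat.dvd_prime Nat.prime_three).1 hdvd).resolve_left fun e1 => ?_
    haveI := Monoid.exp_eq_one_iff.1 e1
    have h1 : Nat.card R = 1 := Nat.card_of_subsingleton (1 : R)
    have h27 := S.card
    omega
  · intro g hg
    have h1 := normalizer_R_le_H D S hN (hnorm ▸ Subgroup.mem_map_of_mem _ hg)
    have := mul_mem (mul_mem (inv_mem hh) h1) hh
    simpa [mul_assoc] using this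
  · rw [← card_normalizer D S hN, ← hnorm, Subgroup.card_map_of_injective (MulAut.conj h).injective]

/-- One class of elements of order three. -/
theorem one_class (hx : ∃ g : G, g * p * g⁻¹ ∈ HH z ∧ g * p * g⁻¹ ∉ N) :
    ∀ x y : G, orderOf x = 3 → orderOf y = 3 → IsConj x y := by
  haveI : Fact (Nat.Prime 3) := ⟨Nat.prime_three⟩
  obtain ⟨f, hf, hker, -⟩ := exists_hom D
  have hpow3 : ∀ w : G, orderOf w = 3 → IsPGroup 3 (zpowers w) := fun w hw =>
    IsPGroup.of_card (n := 1) (by rw [Nat.card_zpowers, hw, pow_one])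
  have houter : ∀ x ∈ R, x ∉ P → ∀ y ∈ R, y ∉ P → IsConj x y := by
    intro x hx hxP y hy hyP
    have hval : ∀ (u : G) (hu : u ∈ R), u ∉ P → orderOf (f ⟨u, S.le hu⟩) = 3 := by
      intro u hu huP
      refine orderOf_eq_prime (by
        rw [← map_pow, show (⟨u, S.le hu⟩ : ↥(KK z P)) ^ 3 = 1 from Subtype.ext (S.cube u hu), map_one]) fun e => huP ?_
      have h2 : (⟨u, S.le hu⟩ : ↥(KK z P)) ∈ f.ker := e
      rw [hker] at h2
      exact cube_one D h2 (S.cube u hu)
    obtain ⟨c, hc⟩ := isConj_iff.1 (three_class _ _ (hval x hx hxP) (hval y hy hyP))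
    obtain ⟨k, rfl⟩ := hf c
    set w : G := y⁻¹ * ((k : G) * x * (k : G)⁻¹) with hwdef
    have hw : w ∈ zpowers (z * p) := by
      have h2 : (⟨y, S.le hy⟩ : ↥(KK z P))⁻¹ * (k * ⟨x, S.le hx⟩ * k⁻¹) ∈ f.ker := by
        rw [MonoidHom.mem_ker]; simp only [map_mul, map_inv, hc, inv_mul_cancel]
      rw [hker] at h2
      exact h2
    have hcw : Commute y w := center_elems D hw y (S.le hy)
    have hwP : w ∈ P := by
      refine cube_one D hw ?_
      have h4 : (y * w) ^ 3 = 1 := by
        rw [hwdef, mul_inv_cancel_left, conj_pow, S.cube x hx, mul_one, mul_inv_cancel]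
      rwa [hcw.mul_pow, S.cube y hy, one_mul] at h4
    refine IsConj.trans (isConj_iff.2 ⟨(k : G), show (k : G) * x * (k : G)⁻¹ = y * w by
      rw [hwdef, mul_inv_cancel_left]⟩) ?_
    obtain ⟨r, hr, hry⟩ : ∃ r ∈ R, y * r ≠ r * y := by
      by_contra hall
      push Not at hall
      exact hyP (S.cen y hy hall)
    set c := y⁻¹ * (r * y * r⁻¹) with hcdef
    have hcP : c ∈ P := by
      have := S.comm y⁻¹ (inv_mem hy) r hr
      simpa [hcdef, mul_assoc] using this
    have hc1 : c ≠ 1 := fun e => hry (by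
      rw [hcdef, inv_mul_eq_one] at e
      exact eq_mul_inv_iff_mul_eq.1 e)
    have hc3 : c ^ 3 = 1 := S.cube c (S.P_le hcP)
    have hall : ∀ v ∈ P, v = 1 ∨ v = c ∨ v = c ^ 2 := by
      intro v hv
      rcases P_cases D hcP with e | e | e
      · exact absurd e hc1
      · rw [e]; exact P_cases D hv
      · rcases P_cases D hv with e' | e' | e'
        · exact Or.inl e'
        · refine Or.inr (Or.inr ?_)
          rw [e', e, ← pow_mul, show p ^ (2 * 2) = p ^ 3 * p by rw [← pow_succ], p_pow_three D, one_mul]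
        · exact Or.inr (Or.inl (e'.trans e.symm))
    have hy1 : r * y * r⁻¹ = y * c := by rw [hcdef, mul_inv_cancel_left]
    rcases hall w hwP with e | e | e
    · rw [e, mul_one]
    · exact (isConj_iff.2 ⟨r, by rw [hy1, e]⟩ : IsConj y (y * w)).symm
    · refine (isConj_iff.2 ⟨r * r, ?_⟩ : IsConj y (y * w)).symm
      have hrc : r * c = c * r := center_elems D (P_zp D hcP) r (S.le hr)
      calc r * r * y * (r * r)⁻¹ = r * (r * y * r⁻¹) * r⁻¹ := by group
        _ = r * (y * c) * r⁻¹ := by rw [hy1]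
        _ = r * y * r⁻¹ * (r * c * r⁻¹) := by group
        _ = y * c * c := by rw [hy1, hrc, mul_inv_cancel_right]
        _ = y * w := by rw [e, pow_two, mul_assoc]
  -- the two nontrivial elements of `P`
  have hinv : IsConj p (p ^ 2) := by
    obtain ⟨u, hu, huK⟩ := SetLike.exists_of_lt (lt_of_le_of_ne (KK_le_NP D) (Ne.symm D.ne))
    rcases P_cases D ((mem_normalizer_iff.1 hu.2 p).1 (p_mem D)) with e | e | e
    · exfalso
      have := D.ord
      rw [conj_eq_one_iff.1 e, orderOf_one] at this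
      norm_num at this
    · exfalso
      refine huK ⟨hu.1, fun v hv => ?_⟩
      rw [SetLike.mem_coe, ← D.gen] at hv
      obtain ⟨i, rfl⟩ := mem_zpowers_iff.1 hv
      exact (Commute.zpow_right (mul_inv_eq_iff_eq_mul.1 e : Commute u p) i).eq.symm
    · exact isConj_iff.2 ⟨u, e⟩
  obtain ⟨T₀, hT₀⟩ := is_sylow D S hN
  obtain ⟨g, hgH, hgN⟩ := hx
  have hgord : orderOf (g * p * g⁻¹) = 3 := by
    rw [← MulAut.conj_apply, MulEquiv.orderOf_eq, D.ord]
  obtain ⟨h, hh, hhR⟩ := conj_into D S (hpow3 _ hgord) (zpowers_le.2 hgH)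
  have hout : h * (g * p * g⁻¹) * h⁻¹ ∉ P := fun e => hgN (by
    have := (mem_normalizer_iff.1 (D.norm (inv_mem hh)) _).1 (D.PN e)
    simpa [mul_assoc] using this)
  have hpy : IsConj p (h * (g * p * g⁻¹) * h⁻¹) := isConj_iff.2 ⟨h * g, by group⟩
  have key : ∀ x : G, orderOf x = 3 → IsConj p x := by
    intro x hx
    obtain ⟨T, hT⟩ := (hpow3 x hx).exists_le_sylow
    obtain ⟨c, hc⟩ := MulAction.exists_smul_eq G T T₀
    have hxR : c * x * c⁻¹ ∈ R := by
      rw [← hT₀, ← hc, Sylow.coe_subgroup_smul]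
      exact Subgroup.smul_mem_pointwise_smul _ (MulAut.conj c) _ (hT (mem_zpowers x))
    refine IsConj.trans ?_ (isConj_iff.2 ⟨c⁻¹, by group⟩ : IsConj (c * x * c⁻¹) x)
    by_cases hP : c * x * c⁻¹ ∈ P
    · rcases P_cases D hP with e | e | e
      · exfalso
        rw [conj_eq_one_iff.1 e, orderOf_one] at hx
        norm_num at hx
      · rw [e]
      · rw [e]; exact hinv
    · exact hpy.trans (houter _ (hhR _ (mem_zpowers _)) hout _ hxR hP)
  exact fun x y hx hy => (key x hx).symm.trans (key y hy)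

end Sylow

end Cfsg.Agent.JFourEnd97
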