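import Mathlib
import Cfsg.Agent.Lib.J4CompModel43
import Cfsg.Agent.Lib.JFourEnd97

/-!
A group of Janko-four type: lifts of involutions of M22 in the centraliser of the subgroup of order
three, an outer involution lifting to an involution, and from them a 2-subgroup of order 1024 that
normalises the elementary abelian subgroup of order 2048 and meets it trivially.
-/

set_option autoImplicit false
set_option linter.style.haveILetI false
set_option linter.unusedSectionVars false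
set_option maxHeartbeats 1000000

namespace Cfsg.Agent.J4Comp43

open Subgroup Cfsg.Agent.JFourSetting97 Cfsg.Agent.J4CompModel43
open scoped Pointwise

universe u

variable {G : Type u} [Group G] [Finite G] {z p a : G} {P N : Subgroup G}

open scoped Classical in
/-- the image in M22, extended by one -/
noncomputable def im (φ : ↥(KK z P) →* M22) (x : G) : M22 :=
  if h : x ∈ KK z P then φ ⟨x, h⟩ else 1

/-- the hypotheses -/
structure Inp (z p : G) (P : Subgroup G) (φ : ↥(KK z P) →* M22) (a : G) : Prop where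
  surj : Function.Surjective φ
  ker : φ.ker = (zpowers (z * p)).subgroupOf (KK z P)
  perfect : ⁅KK z P, KK z P⁆ = KK z P
  npH : normalizer (P : Set G) ≤ HH z
  cls : ∀ x y : G, orderOf x = 3 → orderOf y = 3 → IsConj x y
  a_mem : a ∈ KK z P
  a_ne : a ≠ z
  conj_a : IsConj z a
  not_az : ¬ IsConj z (a * z)

variable {φ : ↥(KK z P) →* M22} (D : Pack z P N p) (I : Inp z p P φ a)

theorem im_of {x : G} (h : x ∈ KK z P) : im φ x = φ ⟨x, h⟩ := by
  simp [im, h]

theorem im_mul {x y : G} (hx : x ∈ KK z P) (hy : y ∈ KK z P) :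
    im φ (x * y) = im φ x * im φ y := by
  rw [im_of (mul_mem hx hy), im_of hx, im_of hy, ← map_mul]; rfl

theorem im_inv {x : G} (hx : x ∈ KK z P) : im φ x⁻¹ = (im φ x)⁻¹ := by
  rw [im_of (inv_mem hx), im_of hx, ← map_inv]; rfl

theorem im_one : im φ (1 : G) = 1 := by
  rw [im_of (one_mem _)]; exact map_one φ

theorem im_pow {x : G} (hx : x ∈ KK z P) (k : ℕ) : im φ (x ^ k) = im φ x ^ k := by
  rw [im_of (pow_mem hx k), im_of hx, ← map_pow]; rfl

include D

theorem zp_two {t : G} (ht : t ∈ zpowers (z * p)) (h4 : t ^ 4 = 1) : t = 1 ∨ t = z := by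
  obtain ⟨i, rfl⟩ := mem_powers_iff_mem_zpowers.2 ht
  have hz2 : z ^ 2 = 1 := by rw [← D.hz]; exact pow_orderOf_eq_one z
  simp only [(zp_comm D).mul_pow] at h4 ⊢
  rw [((zp_comm D).pow_pow i i).mul_pow, ← pow_mul z i 4,
    show i * 4 = 2 * (i * 2) by ring, pow_mul, hz2, one_pow, one_mul, ← pow_mul] at h4
  have h3 : 3 ∣ i * 4 := D.ord ▸ orderOf_dvd_of_pow_eq_one h4
  obtain ⟨j, rfl⟩ : 3 ∣ i := (Nat.Coprime.dvd_of_dvd_mul_right (by norm_num) h3)
  rw [pow_mul p, ← D.ord, pow_orderOf_eq_one, one_pow, mul_one, pow_eq_pow_mod _ hz2]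
  rcases Nat.mod_two_eq_zero_or_one (orderOf p * j) with h | h <;> simp [h]

theorem z_sq : z * z = 1 := by
  have := pow_orderOf_eq_one z
  rwa [D.hz, pow_two] at this

theorem p_cube : p ^ 3 = 1 := by rw [← D.ord]; exact pow_orderOf_eq_one p

theorem z_KK : z ∈ KK z P := zp_KK D (z_zp D)

theorem p_KK : p ∈ KK z P := zp_KK D (P_zp D (p_mem D))

theorem z_comm_p : z * p = p * z := zp_comm D

theorem comm_z {x : G} (hx : x ∈ HH z) : x * z = z * x :=
  (Subgroup.mem_centralizer_singleton_iff.1 hx)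

theorem comm_p {x : G} (hx : x ∈ KK z P) : x * p = p * x :=
  ((Subgroup.mem_centralizer_iff.1 hx.2) p (p_mem D)).symm

theorem mem_KK {x : G} (h1 : x ∈ HH z) (h2 : x * p = p * x) : x ∈ KK z P := by
  refine ⟨h1, Subgroup.mem_centralizer_iff.2 fun y hy => ?_⟩
  rw [SetLike.mem_coe, ← D.gen] at hy
  obtain ⟨i, rfl⟩ := hy
  exact (Commute.zpow_left (show Commute p x from h2.symm) i).eq

theorem conj_KK {h x : G} (hh : h ∈ NP z P) (hx : x ∈ KK z P) : h * x * h⁻¹ ∈ KK z P := by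
  have := (KK_index D).2.conj_mem ⟨x, KK_le_NP D hx⟩ hx ⟨h, hh⟩
  exact this

theorem conj_z {h : G} (hh : h ∈ HH z) : h * z * h⁻¹ = z := by
  rw [comm_z D hh, mul_inv_cancel_right]

theorem P_cases {w : G} (hw : w ∈ P) : w = 1 ∨ w = p ∨ w = p ^ 2 := JFourEnd97.P_cases D hw

include I

theorem im_eq_one {x : G} (hx : x ∈ KK z P) : im φ x = 1 ↔ x ∈ zpowers (z * p) := by
  rw [im_of hx, ← MonoidHom.mem_ker, I.ker, Subgroup.mem_subgroupOf]

theorem im_surj (g : M22) : ∃ x ∈ KK z P, im φ x = g := by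
  obtain ⟨x, hx⟩ := I.surj g
  exact ⟨x, x.2, by rw [im_of x.2]; exact hx⟩

theorem a_sq : a * a = 1 := by
  obtain ⟨g, hg⟩ := isConj_iff.1 I.conj_a
  rw [← hg, show g * z * g⁻¹ * (g * z * g⁻¹) = g * (z * z) * g⁻¹ by group, z_sq D, mul_one,
    mul_inv_cancel]

theorem im_a_ne : im φ a ≠ 1 := fun h => by
  rcases zp_two D ((im_eq_one D I I.a_mem).1 h)
    (by rw [pow_succ, pow_succ, pow_succ, pow_one, a_sq D I, one_mul, a_sq D I]) with e | e
  · obtain ⟨g, hg⟩ := isConj_iff.1 I.conj_a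
    rw [e, conj_eq_one_iff] at hg
    have := D.hz
    rw [hg, orderOf_one] at this
    exact absurd this (by norm_num)
  · exact I.a_ne e

theorem im_conj {h x : G} (hh : h ∈ KK z P) (hx : x ∈ KK z P) :
    im φ (h * x * h⁻¹) = im φ h * im φ x * (im φ h)⁻¹ := by
  rw [im_mul (mul_mem hh hx) (inv_mem hh), im_mul hh hx, im_inv hh]

theorem eq_cases {x y : G} (hx : x ∈ KK z P) (hy : y ∈ KK z P) (hx2 : x * x = 1) (hy2 : y * y = 1)
    (he : im φ x = im φ y) : y = x ∨ y = x * z := by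
  have ht : x⁻¹ * y ∈ zpowers (z * p) :=
    (im_eq_one D I (mul_mem (inv_mem hx) hy)).1
      (by rw [im_mul (inv_mem hx) hy, im_inv hx, he, inv_mul_cancel])
  set t := x⁻¹ * y with htdef
  have hyt : y = x * t := by rw [htdef, mul_inv_cancel_left]
  have hc : x * t = t * x := center_elems D ht x hx
  have ht2 : t * t = 1 := by
    have : y * y = x * x * (t * t) := by
      rw [hyt]
      calc x * t * (x * t) = x * (t * x) * t := by group
        _ = x * (x * t) * t := by rw [hc]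
        _ = _ := by group
    rwa [hy2, hx2, one_mul, eq_comm] at this
  rcases zp_two D ht (by rw [pow_succ, pow_succ, pow_succ, pow_one, ht2, one_mul, ht2]) with e | e
  · exact Or.inl (by rw [hyt, e, mul_one])
  · exact Or.inr (by rw [hyt, e])

/-- No element of the centraliser of the subgroup of order three squares to the involution. -/
theorem no_sqrt {x : G} (hx : x ∈ KK z P) : x * x ≠ z := by
  intro e
  have hz1 : z ≠ 1 := fun h => by
    have := D.hz
    rw [h, orderOf_one] at this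
    exact absurd this (by norm_num)
  have hg2 : im φ x * im φ x = 1 := by
    rw [← im_mul hx hx, e]
    exact (im_eq_one D I (z_KK D)).2 (z_zp D)
  have hx4 : x ^ 4 = 1 := by
    rw [pow_succ, pow_succ, pow_succ, pow_one, e, mul_assoc, e, z_sq D]
  by_cases h1 : im φ x = 1
  · rcases zp_two D ((im_eq_one D I hx).1 h1) hx4 with rfl | rfl
    · exact hz1 (by rw [← e, one_mul])
    · exact hz1 (by rw [← e]; exact z_sq D)
  · have ho : ∀ g : M22, g * g = 1 → g ≠ 1 → orderOf g = 2 := fun g h2 hne =>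
      orderOf_eq_prime (by rw [pow_two, h2]) hne
    obtain ⟨k', hk'⟩ := isConj_iff.1 (JFourM22Class97.invol_class (im φ a) (im φ x)
      (ho _ (by rw [← im_mul I.a_mem I.a_mem, a_sq D I, im_one]) (im_a_ne D I)) (ho _ hg2 h1))
    obtain ⟨k, hk, rfl⟩ := im_surj D I k'
    rw [← im_conj D I hk I.a_mem] at hk'
    set y := k * a * k⁻¹ with hydef
    have hy : y ∈ KK z P := mul_mem (mul_mem hk I.a_mem) (inv_mem hk)
    have hy2 : y * y = 1 := by
      rw [hydef, show k * a * k⁻¹ * (k * a * k⁻¹) = k * (a * a) * k⁻¹ by group, a_sq D I, mul_one,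
        mul_inv_cancel]
    have ht : y⁻¹ * x ∈ zpowers (z * p) :=
      (im_eq_one D I (mul_mem (inv_mem hy) hx)).1
        (by rw [im_mul (inv_mem hy) hx, im_inv hy, hk', inv_mul_cancel])
    have hc : y * (y⁻¹ * x) = y⁻¹ * x * y := center_elems D ht y hy
    have he2 : (y⁻¹ * x) * (y⁻¹ * x) = z := by
      have : x * x = y * y * ((y⁻¹ * x) * (y⁻¹ * x)) := by
        calc x * x = y * (y⁻¹ * x) * (y * (y⁻¹ * x)) := by group
          _ = y * (y⁻¹ * x * y) * (y⁻¹ * x) := by group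
          _ = y * (y * (y⁻¹ * x)) * (y⁻¹ * x) := by rw [hc]
          _ = _ := by group
      rwa [hy2, one_mul, e, eq_comm] at this
    have ht4 : (y⁻¹ * x) ^ 4 = 1 := by
      rw [pow_succ, pow_succ, pow_succ, pow_one, he2, mul_assoc, he2, z_sq D]
    rcases zp_two D ht ht4 with h | h
    · rw [h, one_mul] at he2; exact hz1 he2.symm
    · rw [h, z_sq D] at he2; exact hz1 he2.symm

theorem sq_one {x : G} (hx : x ∈ KK z P) (h4 : x ^ 4 = 1) (hi : im φ x * im φ x = 1) :
    x * x = 1 := by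
  have ht : x * x ∈ zpowers (z * p) :=
    (im_eq_one D I (mul_mem hx hx)).1 (by rw [im_mul hx hx, hi])
  have h8 : (x * x) ^ 4 = 1 := by rw [← pow_two, ← pow_mul, show 2 * 4 = 4 * 2 from rfl, pow_mul, h4, one_pow]
  exact (zp_two D ht h8).resolve_right (no_sqrt D I hx)

/-- Exactly one of the two involutory lifts of an involution is conjugate to the involution. -/
theorem one_class {x : G} (hx : x ∈ KK z P) (hx2 : x * x = 1) (hne : im φ x ≠ 1) :
    IsConj z x ↔ ¬ IsConj z (x * z) := by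
  have hg2 : im φ x * im φ x = 1 := by rw [← im_mul hx hx, hx2, im_one]
  have ho : ∀ g : M22, g * g = 1 → g ≠ 1 → orderOf g = 2 := fun g h2 hne =>
    orderOf_eq_prime (by rw [pow_two, h2]) hne
  obtain ⟨k', hk'⟩ := isConj_iff.1 (JFourM22Class97.invol_class (im φ a) (im φ x)
    (ho _ (by rw [← im_mul I.a_mem I.a_mem, a_sq D I, im_one]) (im_a_ne D I)) (ho _ hg2 hne))
  obtain ⟨k, hk, rfl⟩ := im_surj D I k'
  rw [← im_conj D I hk I.a_mem] at hk'
  set y := k * a * k⁻¹ with hydef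
  have hy : y ∈ KK z P := mul_mem (mul_mem hk I.a_mem) (inv_mem hk)
  have hy2 : y * y = 1 := by
    rw [hydef, show k * a * k⁻¹ * (k * a * k⁻¹) = k * (a * a) * k⁻¹ by group, a_sq D I, mul_one,
      mul_inv_cancel]
  have hyc : IsConj z y := I.conj_a.trans (isConj_iff.2 ⟨k, rfl⟩)
  have hyz : ¬ IsConj z (y * z) := fun h => I.not_az (h.trans (isConj_iff.2 ⟨k⁻¹, by
    rw [hydef, inv_inv]
    calc k⁻¹ * (k * a * k⁻¹ * z) * k = a * (k⁻¹ * (z * k)) := by group
      _ = a * (k⁻¹ * (k * z)) := by rw [comm_z D hk.1]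
      _ = _ := by group⟩))
  rcases eq_cases D I hy hx hy2 hx2 hk' with rfl | rfl
  · exact ⟨fun _ => hyz, fun _ => hyc⟩
  · rw [show k * a * k⁻¹ * z * z = k * a * k⁻¹ by rw [mul_assoc _ z z, z_sq D, mul_one]]
    exact ⟨fun h => (hyz h).elim, fun h => (h hyc).elim⟩

theorem class_unique {x y : G} (hx : x ∈ KK z P) (hy : y ∈ KK z P) (hx2 : x * x = 1)
    (hy2 : y * y = 1) (hne : im φ x ≠ 1) (he : im φ x = im φ y)
    (hcl : IsConj z x ↔ IsConj z y) : x = y := by
  rcases eq_cases D I hx hy hx2 hy2 he with h | h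
  · exact h.symm
  · have := one_class D I hx hx2 hne
    rw [h] at hcl
    tauto

theorem exists_class_lift {g : M22} (h2 : g * g = 1) (hne : g ≠ 1) :
    ∃ x ∈ KK z P, x * x = 1 ∧ im φ x = g ∧ IsConj z x := by
  have ho : ∀ g : M22, g * g = 1 → g ≠ 1 → orderOf g = 2 := fun g h2 hne =>
    orderOf_eq_prime (by rw [pow_two, h2]) hne
  obtain ⟨k', hk'⟩ := isConj_iff.1 (JFourM22Class97.invol_class (im φ a) g
    (ho _ (by rw [← im_mul I.a_mem I.a_mem, a_sq D I, im_one]) (im_a_ne D I)) (ho _ h2 hne))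
  obtain ⟨k, hk, rfl⟩ := im_surj D I k'
  refine ⟨k * a * k⁻¹, mul_mem (mul_mem hk I.a_mem) (inv_mem hk), ?_, by rw [im_conj D I hk I.a_mem, hk'],
    I.conj_a.trans (isConj_iff.2 ⟨k, rfl⟩)⟩
  rw [show k * a * k⁻¹ * (k * a * k⁻¹) = k * (a * a) * k⁻¹ by group, a_sq D I, mul_one,
    mul_inv_cancel]

/-- A lift is fixed by whatever fixes its image. -/
theorem fixed_lift {h x : G} (hh : h ∈ NP z P) (hx : x ∈ KK z P) (hx2 : x * x = 1)
    (hne : im φ x ≠ 1) (he : im φ (h * x * h⁻¹) = im φ x) : h * x * h⁻¹ = x := by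
  refine class_unique D I (conj_KK D hh hx) hx ?_ hx2 (he ▸ hne) he ?_
  · rw [show h * x * h⁻¹ * (h * x * h⁻¹) = h * (x * x) * h⁻¹ by group, hx2, mul_one, mul_inv_cancel]
  · exact ⟨fun hc => hc.trans (isConj_iff.2 ⟨h⁻¹, by group⟩),
      fun hc => hc.trans (isConj_iff.2 ⟨h, rfl⟩)⟩

theorem exists_cube_lift {g : M22} (h3 : g ^ 3 = 1) (hne : g ≠ 1) :
    ∃ x ∈ KK z P, x ^ 3 = 1 ∧ im φ x = g := by
  obtain ⟨R, hR⟩ := JFourEnd97.exists_syl D
  obtain ⟨r, hr, hrne⟩ : ∃ r ∈ R, im φ r ≠ 1 := by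
    by_contra hno
    push Not at hno
    have hle : R ≤ zpowers (z * p) := fun r hr => (im_eq_one D I (hR.le hr)).1 (hno r hr)
    have := Subgroup.card_dvd_of_le hle
    rw [hR.card, Nat.card_zpowers, order_zp D] at this
    exact absurd this (by norm_num)
  haveI : Fact (Nat.Prime 3) := ⟨Nat.prime_three⟩
  have hgo : orderOf g = 3 := orderOf_eq_prime h3 hne
  have hro : orderOf (im φ r) = 3 := orderOf_eq_prime
    (by rw [← im_pow (hR.le hr), hR.cube r hr, im_one]) hrne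
  obtain ⟨k', hk'⟩ := isConj_iff.1 (JFourM22Facts97.three_class (im φ r) g hro hgo)
  obtain ⟨k, hk, rfl⟩ := im_surj D I k'
  exact ⟨k * r * k⁻¹, mul_mem (mul_mem hk (hR.le hr)) (inv_mem hk),
    by rw [conj_pow, hR.cube r hr, mul_one, mul_inv_cancel],
    by rw [im_conj D I hk (hR.le hr), hk']⟩

/-- An outer element inducing a given automorphism. -/
theorem exists_outer (θ : MulAut M22) (hout : ∀ g, θ ≠ MulAut.conj g) (hsq : ∀ x, θ (θ x) = x) :
    ∃ c ∈ NP z P, c ∉ KK z P ∧ (c * c = 1 ∨ c * c = z) ∧ c * p * c⁻¹ = p ^ 2 ∧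
      ∀ x ∈ KK z P, im φ (c * x * c⁻¹) = θ (im φ x) := by
  obtain ⟨f0, hs0, hk0, ψ, hψs, -, hψ⟩ := exists_hom D
  set α := f0.liftOfSurjective hs0 ⟨φ, by rw [hk0, I.ker]⟩ with hαdef
  have hα : ∀ k, α (f0 k) = φ k := fun k =>
    MonoidHom.liftOfRightInverse_comp_apply f0 _ (Function.rightInverse_surjInv hs0) _ k
  have hαs : Function.Surjective α := fun g => by
    obtain ⟨k, rfl⟩ := I.surj g
    exact ⟨f0 k, hα k⟩
  let αe : M22 ≃* M22 := MulEquiv.ofBijective α ⟨Finite.injective_iff_surjective.2 hαs, hαs⟩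
  obtain ⟨⟨h, hh⟩, hψh⟩ := hψs ((αe.trans θ).trans αe.symm)
  have hact : ∀ x ∈ KK z P, im φ (h * x * h⁻¹) = θ (im φ x) := by
    intro x hx
    have hx' := conj_KK D hh hx
    have e1 : (⟨h * x * h⁻¹, KK_le_NP D hx'⟩ : ↥(NP z P)) =
        ⟨h, hh⟩ * ⟨x, KK_le_NP D hx⟩ * ⟨h, hh⟩⁻¹ := rfl
    have e2 := hψ ⟨h * x * h⁻¹, hx'⟩
    rw [e1, map_mul, map_mul, map_inv, hψ ⟨x, hx⟩] at e2
    set q' := f0 ⟨x, hx⟩ with hq'
    set q'' := f0 ⟨h * x * h⁻¹, hx'⟩ with hq''
    have e3 : MulAut.conj (ψ ⟨h, hh⟩ q') = MulAut.conj q'' := by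
      rw [← e2]
      ext y
      simp [MulAut.conj_apply]
    have e4 : ψ ⟨h, hh⟩ q' = q'' := by
      refine (mul_inv_eq_one.1 ?_)
      rw [← Subgroup.mem_bot, ← JFourM22Facts97.center_eq_bot, Subgroup.mem_center_iff]
      intro y
      have := congrArg (fun f : MulAut M22 => f (q''⁻¹ * y * q'')) e3
      simp only [MulAut.conj_apply] at this
      calc y * (ψ ⟨h, hh⟩ q' * q''⁻¹)
          = (q'' * (q''⁻¹ * y * q'') * q''⁻¹) * (ψ ⟨h, hh⟩ q' * q''⁻¹) := by group
        _ = (ψ ⟨h, hh⟩ q' * (q''⁻¹ * y * q'') * (ψ ⟨h, hh⟩ q')⁻¹) *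
              (ψ ⟨h, hh⟩ q' * q''⁻¹) := by rw [this]
        _ = _ := by group
    rw [im_of hx', im_of hx, ← hα, ← hα, ← hq', ← hq'', ← e4, hψh]
    show αe (αe.symm (θ (αe q'))) = θ (αe q')
    exact αe.apply_symm_apply _
  have hnK : h ∉ KK z P := fun hk => hout (im φ h) (MulEquiv.ext fun g => by
    obtain ⟨x, hx, rfl⟩ := im_surj D I g
    rw [← hact x hx, im_conj D I hk hx, MulAut.conj_apply])
  have h2 : h * h ∈ KK z P := by
    have := Subgroup.mul_mem_iff_of_index_two (H := (KK z P).subgroupOf (NP z P)) (KK_index D).1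
      (a := ⟨h, hh⟩) (b := ⟨h, hh⟩)
    exact this.2 Iff.rfl
  have hz : h * h ∈ zpowers (z * p) := by
    refine (im_eq_one D I h2).1 ?_
    rw [← Subgroup.mem_bot, ← JFourM22Facts97.center_eq_bot, Subgroup.mem_center_iff]
    intro g
    obtain ⟨x, hx, rfl⟩ := im_surj D I g
    have := im_conj D I h2 hx
    rw [show h * h * x * (h * h)⁻¹ = h * (h * x * h⁻¹) * h⁻¹ by group,
      hact _ (conj_KK D hh hx), hact x hx, hsq] at this
    exact eq_mul_inv_iff_mul_eq.1 this
  refine ⟨h * (h * h), mul_mem hh (mul_mem hh hh), fun hc => hnK ?_, ?_, ?_, fun x hx => ?_⟩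
  · have := mul_mem hc (inv_mem h2)
    rwa [mul_inv_cancel_right] at this
  · refine zp_two D (t := h * (h * h) * (h * (h * h))) ?_ ?_
    · rw [show h * (h * h) * (h * (h * h)) = (h * h) * (h * h) * (h * h) by group]
      exact mul_mem (mul_mem hz hz) hz
    · obtain ⟨i, hi⟩ := mem_powers_iff_mem_zpowers.2 hz
      simp only at hi
      rw [show h * (h * h) * (h * (h * h)) = (h * h) ^ 3 by rw [pow_succ, pow_two]; group, ← hi, ← pow_mul, ← pow_mul,
        show i * (3 * 4) = orderOf (z * p) * (i * 2) by rw [order_zp D]; ring, pow_mul,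
        pow_orderOf_eq_one, one_pow]
  · have hhc : h * (h * h) ∈ NP z P := mul_mem hh (mul_mem hh hh)
    have hm : h * (h * h) * p * (h * (h * h))⁻¹ ∈ P :=
      (Subgroup.mem_normalizer_iff.1 hhc.2 p).1 (p_mem D)
    rcases P_cases D hm with e | e | e
    · rw [conj_eq_one_iff] at e
      have := D.ord
      rw [e, orderOf_one] at this
      exact absurd this (by norm_num)
    · exfalso
      have hc : h * (h * h) ∈ KK z P := mem_KK D hhc.1 (mul_inv_eq_iff_eq_mul.1 e)
      exact hnK (by rw [← mul_inv_cancel_right h (h * h)]; exact mul_mem hc (inv_mem h2))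
    · exact e
  · rw [show h * (h * h) * x * (h * (h * h))⁻¹ = h * ((h * h) * x * (h * h)⁻¹) * h⁻¹ by group,
      hact _ (mul_mem (mul_mem h2 hx) (inv_mem h2)), im_conj D I h2 hx,
      (im_eq_one D I h2).2 hz, one_mul, inv_one, mul_one]

variable {Eb : Subgroup M22} {θ : MulAut M22} {gB qa qb q v w : M22}

/-- The outer element is an involution. -/
theorem outer_sq (M : Model Eb θ gB qa qb q v w) {c : G} (hc : c ∈ NP z P) (hcK : c ∉ KK z P)
    (hcc : c * c = 1 ∨ c * c = z) (hcp : c * p * c⁻¹ = p ^ 2)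
    (hact : ∀ x ∈ KK z P, im φ (c * x * c⁻¹) = θ (im φ x)) : c * c = 1 := by
  refine hcc.resolve_right fun hcz => ?_
  obtain ⟨x0, hx0, hx03, hx0i⟩ := exists_cube_lift D I M.q_cube M.q_ne
  -- a lift fixed by the outer element
  set t := x0⁻¹ * (c * x0 * c⁻¹) with htdef
  have hcx0 : c * x0 * c⁻¹ ∈ KK z P := conj_KK D hc hx0
  have htz : t ∈ zpowers (z * p) := (im_eq_one D I (mul_mem (inv_mem hx0) hcx0)).1
    (by rw [im_mul (inv_mem hx0) hcx0, im_inv hx0, hact x0 hx0, hx0i, M.theta_q, inv_mul_cancel])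
  have htc : x0 * t = t * x0 := center_elems D htz x0 hx0
  have ht3 : t ^ 3 = 1 := by
    have h1 : (c * x0 * c⁻¹) ^ 3 = 1 := by rw [conj_pow, hx03, mul_one, mul_inv_cancel]
    have h2 : c * x0 * c⁻¹ = x0 * t := by rw [htdef, mul_inv_cancel_left]
    rw [h2, (show Commute x0 t from htc).mul_pow, hx03, one_mul] at h1
    exact h1
  obtain ⟨i, hi⟩ : ∃ i : ℕ, t = p ^ i := by
    obtain ⟨i, hi⟩ := mem_powers_iff_mem_zpowers.2 htz
    simp only at hi
    refine ⟨4 * i, ?_⟩
    have e : t = t ^ 4 := by rw [pow_succ, ht3, one_mul]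
    rw [e, ← hi, ← pow_mul, (zp_comm D).mul_pow, mul_comm i 4]
    have hz2 : z ^ 2 = 1 := by rw [pow_two]; exact z_sq D
    rw [show z ^ (4 * i) = 1 by
      rw [show 4 * i = 2 * (2 * i) by ring, pow_mul, hz2, one_pow], one_mul]
  set x := x0 * p ^ (2 * i) with hxdef
  have hpi : p ^ (2 * i) ∈ KK z P := pow_mem (p_KK D) _
  have hx : x ∈ KK z P := mul_mem hx0 hpi
  have hxi : im φ x = q := by
    rw [hxdef, im_mul hx0 hpi, (im_eq_one D I hpi).2 (pow_mem (P_zp D (p_mem D)) _), mul_one, hx0i]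
  have hxp : Commute x0 (p ^ (2 * i)) := Commute.pow_right (comm_p D hx0) _
  have hx3 : x ^ 3 = 1 := by
    rw [hxdef, hxp.mul_pow, hx03, one_mul, ← pow_mul, mul_comm, pow_mul, p_cube D, one_pow]
  have hcxc : c * x * c⁻¹ = x := by
    have e1 : c * x0 * c⁻¹ = x0 * p ^ i := by rw [← hi, htdef, mul_inv_cancel_left]
    have e2 : c * p ^ (2 * i) * c⁻¹ = p ^ (4 * i) := by
      rw [← conj_pow, hcp, ← pow_mul]; congr 1; ring
    calc c * x * c⁻¹ = (c * x0 * c⁻¹) * (c * p ^ (2 * i) * c⁻¹) := by rw [hxdef]; group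
      _ = x0 * p ^ (5 * i) := by rw [e1, e2, mul_assoc, ← pow_add]; congr 2; ring
      _ = x := by
        rw [hxdef]; congr 1
        rw [show 5 * i = 3 * i + 2 * i by ring, pow_add, pow_mul p 3, p_cube D, one_pow, one_mul]
  have hxne : x ≠ 1 := fun e => M.q_ne (by rw [← hxi, e, im_one])
  haveI : Fact (Nat.Prime 3) := ⟨Nat.prime_three⟩
  obtain ⟨g, hg⟩ := isConj_iff.1 (I.cls p x D.ord (orderOf_eq_prime hx3 hxne))
  -- the centraliser of the lift
  have hcent : ∀ u : G, u * x = x * u → g⁻¹ * u * g ∈ KK z P := by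
    intro u hu
    have hup : g⁻¹ * u * g * p = p * (g⁻¹ * u * g) := by
      have hp' : p = g⁻¹ * x * g := by rw [← hg]; group
      rw [hp']
      calc g⁻¹ * u * g * (g⁻¹ * x * g) = g⁻¹ * (u * x) * g := by group
        _ = g⁻¹ * (x * u) * g := by rw [hu]
        _ = _ := by group
    have hcP : g⁻¹ * u * g ∈ centralizer (P : Set G) := by
      refine Subgroup.mem_centralizer_iff.2 fun y hy => ?_
      rw [SetLike.mem_coe, ← D.gen] at hy
      obtain ⟨j, rfl⟩ := hy
      exact (Commute.zpow_left (show Commute p _ from hup.symm) j).eq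
    exact ⟨I.npH (Subgroup.centralizer_le_normalizer _ hcP), hcP⟩
  set zq := g * z * g⁻¹ with hzqdef
  have hzq2 : zq * zq = 1 := by
    rw [hzqdef, show g * z * g⁻¹ * (g * z * g⁻¹) = g * (z * z) * g⁻¹ by group, z_sq D, mul_one,
      mul_inv_cancel]
  have hzqc : IsConj z zq := isConj_iff.2 ⟨g, rfl⟩
  have hzqx : zq * x = x * zq := by
    rw [← hg, hzqdef]
    calc g * z * g⁻¹ * (g * p * g⁻¹) = g * (z * p) * g⁻¹ := by group
      _ = g * (p * z) * g⁻¹ := by rw [z_comm_p D]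
      _ = _ := by group
  have hcentral : ∀ u : G, u * x = x * u → u * zq = zq * u := by
    intro u hu
    have h := comm_z D (hcent u hu).1
    rw [hzqdef]
    calc u * (g * z * g⁻¹) = g * (g⁻¹ * u * g * z) * g⁻¹ := by group
      _ = g * (z * (g⁻¹ * u * g)) * g⁻¹ := by rw [h]
      _ = _ := by group
  have hxp' : p * x = x * p := (comm_p D hx).symm
  have hxz : z * x = x * z := (comm_z D hx.1).symm
  have hzqK : zq ∈ KK z P := mem_KK D
    (Subgroup.mem_centralizer_singleton_iff.2 (hcentral z hxz).symm) (hcentral p hxp').symm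
  have hzqne : im φ zq ≠ 1 := by
    intro e
    rcases zp_two D ((im_eq_one D I hzqK).1 e)
      (by rw [pow_succ, pow_succ, pow_succ, pow_one, hzq2, one_mul, hzq2]) with h | h
    · rw [hzqdef, conj_eq_one_iff] at h
      have := D.hz
      rw [h, orderOf_one] at this
      exact absurd this (by norm_num)
    · have hgH : g ∈ HH z := Subgroup.mem_centralizer_singleton_iff.2 (by
        have := congrArg (fun y => y * g) h
        simpa [hzqdef] using this)
      have hxN : x ∈ N := by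
        rw [← hg]
        exact (Subgroup.mem_normalizer_iff.1 (D.norm hgH) p).1 (D.PN (p_mem D))
      have : x ∈ zpowers (z * p) := by
        rw [← N_inf_NP D]; exact ⟨hxN, (KK_le_NP D hx).2⟩
      exact M.q_ne (hxi ▸ (im_eq_one D I hx).2 this)
  have hzqw : im φ zq = w := by
    refine M.cent _ ?_ (by rw [← im_mul hzqK hzqK, hzq2, im_one]) hzqne ?_
    · rw [← hxi, ← im_mul hzqK hx, ← im_mul hx hzqK, hzqx]
    · rw [← hact zq hzqK, hcentral c (mul_inv_eq_iff_eq_mul.1 hcxc), mul_inv_cancel_right]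
  -- the lift of `v` outside the class
  obtain ⟨v0, hv0, hv02, hv0i, hv0c⟩ := exists_class_lift D I M.v_sq M.v_ne
  set v1 := v0 * z with hv1def
  have hv1 : v1 ∈ KK z P := mul_mem hv0 (z_KK D)
  have hv0z : v0 * z = z * v0 := comm_z D hv0.1
  have hv12 : v1 * v1 = 1 := by
    rw [hv1def]
    calc v0 * z * (v0 * z) = v0 * (z * v0) * z := by group
      _ = v0 * (v0 * z) * z := by rw [hv0z]
      _ = v0 * v0 * (z * z) := by group
      _ = 1 := by rw [hv02, z_sq D, one_mul]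
  have hv1i : im φ v1 = v := by
    rw [hv1def, im_mul hv0 (z_KK D), (im_eq_one D I (z_KK D)).2 (z_zp D), mul_one, hv0i]
  have hv1c : ¬ IsConj z v1 := (one_class D I hv0 hv02 (hv0i ▸ M.v_ne)).1 hv0c
  have hv1x : v1 * x = x * v1 := by
    have h := fixed_lift D I (KK_le_NP D hx) hv1 hv12 (hv1i ▸ M.v_ne)
      (by rw [im_conj D I hx hv1, hxi, hv1i, ← M.vq, mul_inv_cancel_right])
    exact (mul_inv_eq_iff_eq_mul.1 h).symm
  set v2 := c * v1 * c⁻¹ with hv2def
  have hv2 : v2 ∈ KK z P := conj_KK D hc hv1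
  have hv22 : v2 * v2 = 1 := by
    rw [hv2def, show c * v1 * c⁻¹ * (c * v1 * c⁻¹) = c * (v1 * v1) * c⁻¹ by group, hv12, mul_one,
      mul_inv_cancel]
  have hv2c : ¬ IsConj z v2 := fun h => hv1c (h.trans (isConj_iff.2 ⟨c⁻¹, by rw [hv2def]; group⟩))
  have hv2i : im φ v2 = θ v := by rw [hv2def, hact v1 hv1, hv1i]
  have hθv : θ v * θ v = 1 := by rw [← map_mul, M.v_sq, map_one]
  have hvv : θ v * v = v * θ v := by
    have h := M.w_sq
    rw [← M.w_eq] at h
    calc θ v * v = (v * v) * (θ v * v) * (θ v * θ v) := by rw [M.v_sq, hθv, one_mul, mul_one]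
      _ = v * (v * θ v * (v * θ v)) * θ v := by group
      _ = _ := by rw [h, mul_one]
  have hv21 : v2 * v1 = v1 * v2 := by
    have h := fixed_lift D I (KK_le_NP D hv2) hv1 hv12 (hv1i ▸ M.v_ne)
      (by rw [im_conj D I hv2 hv1, hv2i, hv1i, hvv, mul_inv_cancel_right])
    exact mul_inv_eq_iff_eq_mul.1 h
  have hw0 : v1 * v2 ∈ KK z P := mul_mem hv1 hv2
  have hw02 : v1 * v2 * (v1 * v2) = 1 := by
    calc v1 * v2 * (v1 * v2) = v1 * (v2 * v1) * v2 := by group
      _ = v1 * (v1 * v2) * v2 := by rw [hv21]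
      _ = v1 * v1 * (v2 * v2) := by group
      _ = 1 := by rw [hv12, hv22, one_mul]
  have hw0i : im φ (v1 * v2) = w := by rw [im_mul hv1 hv2, hv1i, hv2i, M.w_eq]
  -- the rule in the centraliser of the lift
  have hrule : zq = v1 * v2 * z := by
    refine (eq_cases D I hw0 hzqK hw02 hzq2 (hw0i.trans hzqw.symm)).resolve_left fun e => ?_
    have hy : g⁻¹ * v1 * g ∈ KK z P := hcent v1 hv1x
    have hy2 : g⁻¹ * v1 * g * (g⁻¹ * v1 * g) = 1 := by
      rw [show g⁻¹ * v1 * g * (g⁻¹ * v1 * g) = g⁻¹ * (v1 * v1) * g by group, hv12, mul_one,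
        inv_mul_cancel]
    have hyne : im φ (g⁻¹ * v1 * g) ≠ 1 := by
      intro h
      rcases zp_two D ((im_eq_one D I hy).1 h)
        (by rw [pow_succ, pow_succ, pow_succ, pow_one, hy2, one_mul, hy2]) with h' | h'
      · have : v1 = 1 := by
          calc v1 = g * (g⁻¹ * v1 * g) * g⁻¹ := by group
            _ = 1 := by rw [h', mul_one, mul_inv_cancel]
        exact M.v_ne (by rw [← hv1i, this, im_one])
      · have : v1 = zq := by
          calc v1 = g * (g⁻¹ * v1 * g) * g⁻¹ := by group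
            _ = zq := by rw [h', hzqdef]
        exact hv1c (this ▸ hzqc)
    have hr := one_class D I hy hy2 hyne
    have hA : ¬ IsConj z (g⁻¹ * v1 * g) := fun h => hv1c (h.trans (isConj_iff.2 ⟨g, by group⟩))
    have hB : ¬ IsConj z (g⁻¹ * v1 * g * z) := fun h => hv2c (h.trans (isConj_iff.2 ⟨g, by
      rw [show g * (g⁻¹ * v1 * g * z) * g⁻¹ = v1 * (g * z * g⁻¹) by group, ← hzqdef, e,
        ← mul_assoc, hv12, one_mul]⟩))
    tauto
  -- the square root
  have hu : (c * v1) * (c * v1) = zq := by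
    have h1 : c⁻¹ * v1 * c = v2 := by
      have hc2 : c⁻¹ = c * z := by
        refine inv_eq_of_mul_eq_one_right ?_
        rw [← mul_assoc, hcz, z_sq D]
      have hcz' : z * c⁻¹ = c⁻¹ * z := (comm_z D (inv_mem hc.1)).symm
      rw [hv2def]
      calc c⁻¹ * v1 * c = (c * z) * v1 * (c * z)⁻¹ := by rw [← hc2, inv_inv]
        _ = c * (z * v1 * z⁻¹) * c⁻¹ := by group
        _ = _ := by rw [← comm_z D hv1.1, mul_inv_cancel_right]
    calc (c * v1) * (c * v1) = (c * c) * (c⁻¹ * v1 * c) * v1 := by group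
      _ = z * (v2 * v1) := by rw [hcz, h1, mul_assoc]
      _ = z * (v1 * v2) := by rw [hv21]
      _ = zq := by rw [hrule, ← comm_z D hw0.1]
  have hux : c * v1 * x = x * (c * v1) := by
    rw [mul_assoc, hv1x, ← mul_assoc, mul_inv_eq_iff_eq_mul.1 hcxc, mul_assoc]
  refine no_sqrt D I (hcent _ hux) ?_
  rw [show g⁻¹ * (c * v1) * g * (g⁻¹ * (c * v1) * g) = g⁻¹ * (c * v1 * (c * v1)) * g by group, hu,
    hzqdef]
  group

omit D I

end Cfsg.Agent.J4Comp43
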