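import Mathlib
import Cfsg.Agent.Lib.J4Comp43

/-!
A group of Janko-four type: the 2-subgroup of order 1024 that normalises the elementary abelian
subgroup of order 2048 and meets it trivially.
-/

set_option autoImplicit false
set_option linter.style.haveILetI false
set_option linter.unusedSectionVars false
set_option maxHeartbeats 1000000

namespace Cfsg.Agent.J4CompGroup43

open Subgroup Cfsg.Agent.JFourSetting97 Cfsg.Agent.J4CompModel43 Cfsg.Agent.J4Comp43
open scoped Pointwise commutatorElement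

universe u

variable {G : Type u} [Group G] [Finite G] {z p a : G} {P N : Subgroup G}

local notation "EE" => Cfsg.twoCoreOfCentralizer z

/-- the hypotheses on the elementary abelian subgroup -/
structure VHyp (z : G) (P : Subgroup G) (φ : ↥(KK z P) →* M22) (Eb : Subgroup M22)
    (V : Subgroup G) : Prop where
  le_HH : V ≤ HH z
  comm : ∀ x ∈ V, ∀ y ∈ V, x * y = y * x
  sq : ∀ x ∈ V, x * x = 1
  z_mem : z ∈ V
  card_Q : Nat.card ↥(V ⊓ Cfsg.twoCoreOfCentralizer z) = 128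
  E_norm : Cfsg.twoCoreOfCentralizer z ≤ normalizer (V : Set G)
  imE : ∀ x ∈ V, x ∈ KK z P → im φ x ∈ Eb
  ontoE : ∀ g ∈ Eb, ∃ x ∈ V, x ∈ KK z P ∧ im φ x = g
  norm : ∀ h ∈ NP z P, (∀ x ∈ KK z P, im φ x ∈ Eb → im φ (h * x * h⁻¹) ∈ Eb) →
    h ∈ normalizer (V : Set G)

variable {φ : ↥(KK z P) →* M22} (D : Pack z P N p) (I : Inp z p P φ a)
variable {Eb : Subgroup M22} {θ : MulAut M22} {gB qa qb q v w : M22} {V : Subgroup G}
  (W : VHyp z P φ Eb V)

include D I W

theorem p_norm : p ∈ normalizer (V : Set G) :=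
  W.norm p (KK_le_NP D (p_KK D)) fun x hx h => by
    rw [im_conj D I (p_KK D) hx, (im_eq_one D I (p_KK D)).2 (P_zp D (p_mem D)), one_mul, inv_one,
      mul_one]
    exact h

theorem V_NP_le {x : G} (hx : x ∈ V) (hn : x ∈ NP z P) : x ∈ KK z P := by
  refine mem_KK D hn.1 ?_
  set d := x * p * x⁻¹ * p⁻¹ with hd
  have hP : d ∈ P := mul_mem ((Subgroup.mem_normalizer_iff.1 hn.2 p).1 (p_mem D)) (inv_mem (p_mem D))
  have hV : d ∈ V := by
    rw [hd, show x * p * x⁻¹ * p⁻¹ = x * (p * x⁻¹ * p⁻¹) by group]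
    exact mul_mem hx ((Subgroup.mem_normalizer_iff.1 (p_norm D I W) _).1 (inv_mem hx))
  have h1 : d = 1 := by
    have h2 := W.sq d hV
    rcases J4Comp43.P_cases D hP with e | e | e
    · exact e
    · rw [e] at h2 ⊢
      calc p = p * (p * p) := by rw [h2, mul_one]
        _ = 1 := by rw [← mul_assoc, ← pow_three', p_cube D]
    · rw [e] at h2 ⊢
      rw [← pow_add, show 2 + 2 = 3 + 1 from rfl, pow_succ, p_cube D, one_mul] at h2
      rw [h2, one_pow]
  rw [hd] at h1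
  calc x * p = x * p * x⁻¹ * p⁻¹ * (p * x) := by group
    _ = p * x := by rw [h1, one_mul]

theorem comm_mem_E {x : G} (hx : x ∈ V) : p * x * p⁻¹ * x ∈ EE := by
  set d := p * x * p⁻¹ * x with hd
  have hV : d ∈ V := mul_mem ((Subgroup.mem_normalizer_iff.1 (p_norm D I W) x).1 hx) hx
  have hN : d ∈ N := by
    have hxi : x⁻¹ = x := inv_eq_of_mul_eq_one_right (W.sq x hx)
    rw [hd, show p * x * p⁻¹ * x = p * (x * p⁻¹ * x) by group]
    refine mul_mem (D.PN (p_mem D)) ?_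
    have := (Subgroup.mem_normalizer_iff.1 (D.norm (W.le_HH hx)) p⁻¹).1 (inv_mem (D.PN (p_mem D)))
    rwa [hxi] at this
  haveI hn : ((Cfsg.twoCoreOfCentralizer z).subgroupOf N).Normal := ⟨fun e he h => E_normal D (D.NH h.2) he⟩
  have hidx : ((Cfsg.twoCoreOfCentralizer z).subgroupOf N).index = 3 := by
    have h := Subgroup.card_mul_index ((Cfsg.twoCoreOfCentralizer z).subgroupOf N)
    rw [D.cardN, Nat.card_congr (Subgroup.subgroupOfEquivOfLe D.EN).toEquiv, D.cardE] at h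
    omega
  have := Subgroup.pow_index_mem ((Cfsg.twoCoreOfCentralizer z).subgroupOf N) ⟨d, hN⟩
  rw [hidx] at this
  have h3 : d ^ 3 ∈ EE := this
  rwa [pow_succ, pow_two, W.sq d hV, one_mul] at h3

/-- Inside `V` the part centralising the subgroup of order three covers the quotient. -/
theorem exists_fixed_part {x : G} (hx : x ∈ V) : ∃ y ∈ V, y ∈ KK z P ∧ y * x ∈ EE := by
  have hp := p_norm D I W
  have hc : ∀ u ∈ V, p * u * p⁻¹ ∈ V := fun u hu => (Subgroup.mem_normalizer_iff.1 hp u).1 hu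
  set x1 := p * x * p⁻¹ with hx1
  set x2 := p * x1 * p⁻¹ with hx2
  have hx1V := hc x hx
  have hx2V := hc x1 hx1V
  set y := x * x1 * x2 with hy
  have hyV : y ∈ V := mul_mem (mul_mem hx hx1V) hx2V
  have h3 : p * x2 * p⁻¹ = x := by
    rw [hx2, hx1, show p * (p * (p * x * p⁻¹) * p⁻¹) * p⁻¹ = p ^ 3 * x * (p ^ 3)⁻¹ by rw [pow_succ, pow_two]; group,
      p_cube D, one_mul, inv_one, mul_one]
  refine ⟨y, hyV, mem_KK D (W.le_HH hyV) ?_, ?_⟩
  · have e : p * y * p⁻¹ = y := by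
      rw [hy, show p * (x * x1 * x2) * p⁻¹ = (p * x * p⁻¹) * (p * x1 * p⁻¹) * (p * x2 * p⁻¹) by group,
        ← hx1, ← hx2, h3, W.comm _ (mul_mem hx1V hx2V) _ hx, ← mul_assoc]
    exact (mul_inv_eq_iff_eq_mul.1 e).symm
  · have e : y * x = p * (x1 * x) * p⁻¹ := by
      rw [show p * (x1 * x) * p⁻¹ = (p * x1 * p⁻¹) * (p * x * p⁻¹) by group, ← hx1, ← hx2]
      calc y * x = x * (x1 * x2) * x := by rw [hy]; group
        _ = x1 * x2 * x * x := by rw [W.comm _ hx _ (mul_mem hx1V hx2V)]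
        _ = x1 * x2 := by rw [mul_assoc (x1 * x2), W.sq _ hx, mul_one]
        _ = x2 * x1 := W.comm _ hx1V _ hx2V
    rw [e]
    exact E_normal D (D.NH (D.PN (p_mem D))) (comm_mem_E D I W hx)

/-- the commutators of the subgroup of order three on the part inside the core -/
def commPart (p : G) (V : Subgroup G) (hcomm : ∀ x ∈ V, ∀ y ∈ V, x * y = y * x)
    (hp : p ∈ normalizer (V : Set G)) : ↥(V ⊓ Cfsg.twoCoreOfCentralizer z) →* G where
  toFun x := p * x * p⁻¹ * x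
  map_one' := by simp
  map_mul' x y := by
    have hx : (x : G) ∈ V := x.2.1
    have hy : p * (y : G) * p⁻¹ ∈ V := (Subgroup.mem_normalizer_iff.1 hp _).1 y.2.1
    rw [Subgroup.coe_mul]
    calc p * (↑x * ↑y) * p⁻¹ * (↑x * ↑y)
        = p * ↑x * p⁻¹ * (p * ↑y * p⁻¹ * ↑x) * ↑y := by group
      _ = p * ↑x * p⁻¹ * (↑x * (p * ↑y * p⁻¹)) * ↑y := by rw [hcomm _ hy _ hx]
      _ = _ := by group

/-- its image -/
noncomputable def L0 : Subgroup G := (commPart (z := z) p V W.comm (p_norm D I W)).range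

theorem mem_L0 {x : G} : x ∈ L0 D I W ↔ ∃ y ∈ V ⊓ EE, p * y * p⁻¹ * y = x :=
  ⟨fun ⟨y, hy⟩ => ⟨y, y.2, hy⟩, fun ⟨y, hy, e⟩ => ⟨⟨y, hy⟩, e⟩⟩

theorem L0_le : L0 D I W ≤ V ⊓ EE := by
  intro x hx
  obtain ⟨y, hy, rfl⟩ := (mem_L0 D I W).1 hx
  exact ⟨mul_mem ((Subgroup.mem_normalizer_iff.1 (p_norm D I W) y).1 hy.1) hy.1,
    mul_mem (E_normal D (D.NH (D.PN (p_mem D))) hy.2) hy.2⟩

theorem L0_fixed {x : G} (hx : x ∈ L0 D I W) (hc : x * p = p * x) : x = 1 := by
  have hV := ((L0_le D I W) hx).1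
  obtain ⟨y, hy, rfl⟩ := (mem_L0 D I W).1 hx
  have hp := p_norm D I W
  have hc' : ∀ u ∈ V, p * u * p⁻¹ ∈ V := fun u hu => (Subgroup.mem_normalizer_iff.1 hp u).1 hu
  set y1 := p * y * p⁻¹ with hy1
  set y2 := p * y1 * p⁻¹ with hy2
  have hy1V := hc' y hy.1
  have hy2V := hc' y1 hy1V
  have e1 : p * (y1 * y) * p⁻¹ = y1 * y := by rw [← hc, mul_inv_cancel_right]
  have e2 : p * (y1 * y) * p⁻¹ = y2 * y1 := by rw [hy2, hy1]; group
  have h3 : p * y2 * p⁻¹ = y := by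
    rw [hy2, hy1, show p * (p * (p * y * p⁻¹) * p⁻¹) * p⁻¹ = p ^ 3 * y * (p ^ 3)⁻¹ by rw [pow_succ, pow_two]; group,
      p_cube D, one_mul, inv_one, mul_one]
  have e3 : y2 = y := by
    rw [e1] at e2
    rw [W.comm _ hy2V _ hy1V] at e2
    exact (mul_left_cancel e2).symm
  have e4 : y1 = y := by rw [hy1]; conv_lhs => rw [← e3]
                         exact h3
  rw [e4, W.sq _ hy.1]

theorem card_L0 : Nat.card (L0 D I W) = 64 := by
  set f := commPart (z := z) p V W.comm (p_norm D I W) with hf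
  have hker : f.ker = (zpowers z).subgroupOf (V ⊓ EE) := by
    ext x
    rw [MonoidHom.mem_ker, Subgroup.mem_subgroupOf]
    show p * (x : G) * p⁻¹ * x = 1 ↔ _
    constructor
    · intro h
      rw [← D.fixE]
      refine ⟨x.2.2, (mem_KK D (W.le_HH x.2.1) ?_).2⟩
      rw [mul_eq_one_iff_eq_inv, inv_eq_of_mul_eq_one_right (W.sq _ x.2.1)] at h
      exact (mul_inv_eq_iff_eq_mul.1 h).symm
    · intro h
      obtain ⟨i, hi⟩ := h
      simp only at hi
      rw [← hi, ← (Commute.zpow_left (zp_comm D) i).eq, mul_inv_cancel_right, hi]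
      exact W.sq _ x.2.1
  have hk : Nat.card f.ker = 2 := by
    have hle : zpowers z ≤ V ⊓ EE := zpowers_le.2 ⟨W.z_mem, z_mem D⟩
    rw [hker, Nat.card_congr (Subgroup.subgroupOfEquivOfLe hle).toEquiv, Nat.card_zpowers, D.hz]
  have h := Subgroup.card_mul_index f.ker
  rw [hk, Subgroup.index_ker, W.card_Q] at h
  show Nat.card f.range = 64
  omega

/-- Whatever normalises the data normalises the commutator part. -/
theorem L0_inv {h : G} (hn : h ∈ NP z P) (hV : h ∈ normalizer (V : Set G)) {x : G}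
    (hx : x ∈ L0 D I W) : h * x * h⁻¹ ∈ L0 D I W := by
  obtain ⟨y, hy, rfl⟩ := (mem_L0 D I W).1 hx
  have hp := p_norm D I W
  have hy' : h * y * h⁻¹ ∈ V ⊓ EE :=
    ⟨(Subgroup.mem_normalizer_iff.1 hV y).1 hy.1, E_normal D hn.1 hy.2⟩
  set u := h * y * h⁻¹ with hu
  rw [show h * (p * y * p⁻¹ * y) * h⁻¹ = (h * p * h⁻¹) * u * (h * p * h⁻¹)⁻¹ * u by
    rw [hu]; group]
  rcases J4Comp43.P_cases D ((Subgroup.mem_normalizer_iff.1 hn.2 p).1 (p_mem D)) with e | e | e
  · rw [e, one_mul, inv_one, mul_one, W.sq _ hy'.1]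
    exact one_mem _
  · rw [e]; exact (mem_L0 D I W).2 ⟨u, hy', rfl⟩
  · rw [e]
    have hu1 : p * u * p⁻¹ ∈ V ⊓ EE := ⟨(Subgroup.mem_normalizer_iff.1 hp u).1 hy'.1,
      E_normal D (D.NH (D.PN (p_mem D))) hy'.2⟩
    have hu2 : p ^ 2 * u * (p ^ 2)⁻¹ ∈ V :=
      (Subgroup.mem_normalizer_iff.1 (pow_mem hp 2) u).1 hy'.1
    refine (mem_L0 D I W).2 ⟨u * (p * u * p⁻¹), mul_mem hy' hu1, ?_⟩
    calc p * (u * (p * u * p⁻¹)) * p⁻¹ * (u * (p * u * p⁻¹))
        = p * u * p⁻¹ * ((p ^ 2 * u * (p ^ 2)⁻¹ * u) * (p * u * p⁻¹)) := by group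
      _ = p * u * p⁻¹ * ((p * u * p⁻¹) * (p ^ 2 * u * (p ^ 2)⁻¹ * u)) := by
        rw [W.comm _ (mul_mem hu2 hy'.1) _ hu1.1]
      _ = _ := by rw [← mul_assoc, W.sq _ hu1.1, one_mul]

variable (M : Model Eb θ gB qa qb q v w)

/-- The words in three elements. -/
def forms (e a c : G) : Set G := {x | ∃ i j k : ℕ, i < 4 ∧ j < 2 ∧ k < 2 ∧ x = e ^ i * a ^ j * c ^ k}

include M

/-- Two complementary parts. -/
theorem exists_small : ∃ U0 : Subgroup G, Nat.card U0 = 16 ∧ U0 ≤ NP z P ∧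
    U0 ≤ normalizer (V : Set G) ∧ (∀ g ∈ KK z P, im φ g = gB → ∀ u ∈ U0,
      g⁻¹ * u * g ∈ normalizer (V : Set G)) ∧
    ∀ u ∈ U0, (∃ x ∈ V, x ∈ KK z P ∧ u * x ∈ EE) → u = 1 := by
  obtain ⟨c, hc, hcK, hcc, hcp, hcact⟩ := exists_outer D I θ M.outer M.theta_sq
  have hc2 : c * c = 1 := outer_sq D I M hc hcK hcc hcp hcact
  obtain ⟨a1, ha, ha2, hai, -, -⟩ : ∃ a1 ∈ KK z P, a1 * a1 = 1 ∧ im φ a1 = qa ∧ IsConj z a1 ∧ True := by
    obtain ⟨x, h1, h2, h3, h4⟩ := exists_class_lift D I M.a_sq M.a_ne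
    exact ⟨x, h1, h2, h3, h4, trivial⟩
  obtain ⟨b1, hb, hb2, hbi, -⟩ := exists_class_lift D I M.b_sq M.b_ne
  have hca : c * a1 = a1 * c := by
    have h := fixed_lift D I hc ha ha2 (hai ▸ M.a_ne) (by rw [hcact a1 ha, hai, M.theta_a])
    exact mul_inv_eq_iff_eq_mul.1 h
  have hcb : c * b1 = b1 * c := by
    have h := fixed_lift D I hc hb hb2 (hbi ▸ M.b_ne) (by rw [hcact b1 hb, hbi, M.theta_b])
    exact mul_inv_eq_iff_eq_mul.1 h
  set e := a1 * b1 with he
  have heK : e ∈ KK z P := mul_mem ha hb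
  have hei : im φ e = qa * qb := by rw [he, im_mul ha hb, hai, hbi]
  have hai' : a1⁻¹ = a1 := inv_eq_of_mul_eq_one_right ha2
  have hbi' : b1⁻¹ = b1 := inv_eq_of_mul_eq_one_right hb2
  have hinv : a1 * e * a1⁻¹ = e⁻¹ := by
    rw [he, mul_inv_rev, hai', hbi', ← mul_assoc, ha2, one_mul]
  have he4t : e ^ 4 ∈ zpowers (z * p) :=
    (im_eq_one D I (pow_mem heK 4)).1 (by rw [im_pow heK, hei, M.ab_four])
  have he8 : (e ^ 2) ^ 4 = 1 := by
    have h : a1 * e ^ 4 * a1⁻¹ = (e ^ 4)⁻¹ := by rw [← conj_pow, hinv, inv_pow]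
    have hfix : a1 * e ^ 4 * a1⁻¹ = e ^ 4 := by
      rw [center_elems D he4t a1 ha, mul_inv_cancel_right]
    rw [hfix] at h
    rw [← pow_mul, show 2 * 4 = 4 + 4 from rfl, pow_add]
    exact eq_inv_iff_mul_eq_one.1 h
  have he4 : e ^ 4 = 1 := by
    have := sq_one D I (pow_mem heK 2) he8
      (by rw [← im_mul (pow_mem heK 2) (pow_mem heK 2), ← pow_add, im_pow heK, hei, M.ab_four])
    rwa [← pow_add] at this
  have hce : Commute c e := (show Commute c a1 from hca).mul_right hcb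
  have hae : ∀ i, a1 * e ^ i = e ^ (3 * i) * a1 := fun i => by
    have h : a1 * e ^ i * a1⁻¹ = (e ^ 3) ^ i := by
      rw [← conj_pow, hinv]; congr 1
      exact inv_eq_of_mul_eq_one_right (by rw [← pow_succ', he4])
    rw [← pow_mul] at h
    exact mul_inv_eq_iff_eq_mul.1 h
  have hm : ∀ (x : G) (n : ℕ) (m : ℕ), x ^ m = 1 → x ^ n = x ^ (n % m) := fun x n m h =>
    pow_eq_pow_mod n h
  have ha22 : a1 ^ 2 = 1 := by rw [pow_two, ha2]
  have hc22 : c ^ 2 = 1 := by rw [pow_two, hc2]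
  have norm_form : ∀ i j k : ℕ, e ^ i * a1 ^ j * c ^ k ∈ forms e a1 c := fun i j k =>
    ⟨i % 4, j % 2, k % 2, Nat.mod_lt _ (by norm_num), Nat.mod_lt _ (by norm_num),
      Nat.mod_lt _ (by norm_num), by rw [← hm e i 4 he4, ← hm a1 j 2 ha22, ← hm c k 2 hc22]⟩
  set U0 := Subgroup.closure ({e, a1, c} : Set G) with hU0
  have hsub : ∀ x ∈ U0, x ∈ forms e a1 c := by
    intro x hx
    induction hx using Subgroup.closure_induction_left with
    | one => exact ⟨0, 0, 0, by norm_num, by norm_num, by norm_num, by simp⟩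
    | mul_left y hy t _ ih =>
      obtain ⟨i, j, k, -, -, -, rfl⟩ := ih
      obtain hy' | hy' | hy' : y = e ∨ y = a1 ∨ y = c := hy <;> rw [hy']
      · rw [← mul_assoc, ← mul_assoc, ← pow_succ']; exact norm_form _ _ _
      · rw [← mul_assoc, ← mul_assoc, hae, mul_assoc (e ^ _) a1, ← pow_succ']; exact norm_form _ _ _
      · rw [← mul_assoc, ← mul_assoc, (hce.pow_right i).eq, mul_assoc (e ^ i) c,
          ((show Commute c a1 from hca).pow_right j).eq, ← mul_assoc, mul_assoc (e ^ i * a1 ^ j) c,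
          ← pow_succ']
        exact norm_form _ _ _
    | inv_mul_cancel y hy t _ ih =>
      obtain ⟨i, j, k, -, -, -, rfl⟩ := ih
      obtain hy' | hy' | hy' : y = e ∨ y = a1 ∨ y = c := hy <;> rw [hy']
      · rw [inv_eq_of_mul_eq_one_right (show e * e ^ 3 = 1 by rw [← pow_succ', he4]),
          ← mul_assoc, ← mul_assoc, ← pow_add]
        exact norm_form _ _ _
      · rw [hai', ← mul_assoc, ← mul_assoc, hae, mul_assoc (e ^ _) a1, ← pow_succ']
        exact norm_form _ _ _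
      · rw [inv_eq_of_mul_eq_one_right hc2, ← mul_assoc, ← mul_assoc, (hce.pow_right i).eq,
          mul_assoc (e ^ i) c, ((show Commute c a1 from hca).pow_right j).eq, ← mul_assoc,
          mul_assoc (e ^ i * a1 ^ j) c, ← pow_succ']
        exact norm_form _ _ _
  have hK : ∀ i j, e ^ i * a1 ^ j ∈ KK z P := fun i j => mul_mem (pow_mem heK i) (pow_mem ha j)
  have himf : ∀ i j, im φ (e ^ i * a1 ^ j) = (qa * qb) ^ i * qa ^ j := fun i j => by
    rw [im_mul (pow_mem heK i) (pow_mem ha j), im_pow heK, im_pow ha, hei, hai]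
  have hkey : ∀ u ∈ U0, (∃ x ∈ V, x ∈ KK z P ∧ u * x ∈ EE) → u = 1 := by
    rintro u hu ⟨x, hxV, hxK, hux⟩
    obtain ⟨i, j, k, hi, hj, hk, rfl⟩ := hsub u hu
    have hmem : e ^ i * a1 ^ j * c ^ k * x ∈ NP z P :=
      mul_mem (mul_mem (KK_le_NP D (hK i j)) (pow_mem hc k)) (KK_le_NP D hxK)
    have hz : e ^ i * a1 ^ j * c ^ k * x ∈ zpowers z := by
      exact E_inf_NP D hux hmem.2
    have hzK : e ^ i * a1 ^ j * c ^ k * x ∈ KK z P := zpowers_le.2 (z_KK D) hz
    interval_cases k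
    · rw [pow_zero, mul_one] at hz hzK ⊢
      have h1 : im φ (e ^ i * a1 ^ j * x) = 1 :=
        (im_eq_one D I hzK).2 (zpowers_le.2 (z_zp D) hz)
      rw [im_mul (hK i j) hxK, himf, mul_eq_one_iff_eq_inv, ← im_inv hxK] at h1
      obtain ⟨rfl, rfl⟩ := M.avoid i hi j hj (h1 ▸ W.imE _ (inv_mem hxV) (inv_mem hxK))
      simp
    · exfalso
      rw [pow_one] at hzK
      apply hcK
      have := mul_mem (mul_mem (inv_mem (hK i j)) hzK) (inv_mem hxK)
      simpa [mul_assoc] using this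
  have hmemU : ∀ x ∈ ({e, a1, c} : Set G), x ∈ NP z P := by
    rintro x (rfl | rfl | rfl)
    exacts [KK_le_NP D heK, KK_le_NP D ha, hc]
  -- the action of the generators
  have hgen : ∀ g ∈ KK z P, im φ g = gB → ∀ u ∈ ({a1, b1, c} : Set G),
      u ∈ normalizer (V : Set G) ∧ g⁻¹ * u * g ∈ normalizer (V : Set G) := by
    intro g hg hgi u hu
    have key : ∀ α : M22 → M22, u ∈ NP z P → (∀ x ∈ KK z P, im φ (u * x * u⁻¹) = α (im φ x)) →
        (∀ x ∈ Eb, α x ∈ Eb) → (∀ x ∈ Eb, gB⁻¹ * α (gB * x * gB⁻¹) * gB ∈ Eb) →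
        u ∈ normalizer (V : Set G) ∧ g⁻¹ * u * g ∈ normalizer (V : Set G) := by
      intro α hun hα h1 h2
      refine ⟨W.norm u hun fun x hx he' => by rw [hα x hx]; exact h1 _ he', W.norm _
        (mul_mem (mul_mem (inv_mem (KK_le_NP D hg)) hun) (KK_le_NP D hg)) fun x hx he' => ?_⟩
      have hy : u * (g * x * g⁻¹) * u⁻¹ ∈ KK z P :=
        conj_KK D hun (mul_mem (mul_mem hg hx) (inv_mem hg))
      rw [show g⁻¹ * u * g * x * (g⁻¹ * u * g)⁻¹ = g⁻¹ * (u * (g * x * g⁻¹) * u⁻¹) * g by group,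
        im_mul (mul_mem (inv_mem hg) hy) hg, im_mul (inv_mem hg) hy, im_inv hg,
        hα _ (mul_mem (mul_mem hg hx) (inv_mem hg)), im_conj D I hg hx, hgi]
      exact h2 _ he'
    rcases hu with rfl | rfl | rfl
    · exact key (fun x => qa * x * qa⁻¹) (KK_le_NP D ha)
        (fun x hx => by rw [im_conj D I ha hx, hai]) M.aE M.aB
    · exact key (fun x => qb * x * qb⁻¹) (KK_le_NP D hb)
        (fun x hx => by rw [im_conj D I hb hx, hbi]) M.bE M.bB
    · exact key θ hc hcact M.thetaE M.thetaB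
  have hle : ∀ g ∈ KK z P, im φ g = gB →
      U0 ≤ normalizer (V : Set G) ∧ U0 ≤ (normalizer (V : Set G)).comap (MulAut.conj g⁻¹).toMonoidHom := by
    intro g hg hgi
    have h := hgen g hg hgi
    have ha' := h a1 (by simp)
    have hb' := h b1 (by simp)
    have hc' := h c (by simp)
    refine ⟨(Subgroup.closure_le _).2 ?_, (Subgroup.closure_le _).2 ?_⟩
    · rintro x (rfl | rfl | rfl)
      exacts [mul_mem ha'.1 hb'.1, ha'.1, hc'.1]
    · rintro x (rfl | rfl | rfl) <;> simp only [SetLike.mem_coe, Subgroup.mem_comap,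
        MulEquiv.coe_toMonoidHom, MulAut.conj_apply, inv_inv]
      · rw [he, show g⁻¹ * (a1 * b1) * g = g⁻¹ * a1 * g * (g⁻¹ * b1 * g) by group]
        exact mul_mem ha'.2 hb'.2
      · exact ha'.2
      · exact hc'.2
  obtain ⟨g, hg, hgi⟩ := im_surj D I gB
  refine ⟨U0, ?_, (Subgroup.closure_le _).2 hmemU, (hle g hg hgi).1, fun g hg hgi u hu => ?_, hkey⟩
  · -- the order
    let f : Fin 4 × Fin 2 × Fin 2 → U0 := fun t => ⟨e ^ (t.1 : ℕ) * a1 ^ (t.2.1 : ℕ) * c ^ (t.2.2 : ℕ),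
      mul_mem (mul_mem (pow_mem (Subgroup.subset_closure (by simp)) _)
        (pow_mem (Subgroup.subset_closure (by simp)) _)) (pow_mem (Subgroup.subset_closure (by simp)) _)⟩
    have hfb : Function.Bijective f := by
      constructor
      · rintro ⟨i, j, k⟩ ⟨i', j', k'⟩ hff
        have h : e ^ (i : ℕ) * a1 ^ (j : ℕ) * c ^ (k : ℕ) =
            e ^ (i' : ℕ) * a1 ^ (j' : ℕ) * c ^ (k' : ℕ) := congrArg Subtype.val hff
        have hkk : (k : ℕ) = k' := by
          have h1 := k.isLt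
          have h2 := k'.isLt
          by_contra hne
          apply hcK
          rcases (by omega : ((k : ℕ) = 0 ∧ (k' : ℕ) = 1) ∨ ((k : ℕ) = 1 ∧ (k' : ℕ) = 0)) with
            ⟨e1, e2⟩ | ⟨e1, e2⟩
          · rw [e1, e2, pow_zero, mul_one, pow_one, ← inv_mul_eq_iff_eq_mul] at h
            exact h ▸ mul_mem (inv_mem (hK _ _)) (hK _ _)
          · rw [e1, e2, pow_zero, mul_one, pow_one, ← eq_inv_mul_iff_mul_eq] at h
            exact h ▸ mul_mem (inv_mem (hK _ _)) (hK _ _)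
        rw [hkk] at h
        have h' := congrArg (im φ) (mul_right_cancel h)
        rw [himf, himf] at h'
        have hA : qa ^ 2 = 1 := by rw [pow_two, M.a_sq]
        have hsol : ∀ i i' j j' : ℕ, i < 4 → i' < 4 → j < 2 → j' < 2 →
            (qa * qb) ^ i * qa ^ j = (qa * qb) ^ i' * qa ^ j' → i = i' ∧ j = j' := by
          intro i i' j j' hi hi' hj hj' he'
          have hq : (qa * qb) ^ ((i + 4 - i') % 4) * qa ^ ((j + j') % 2) = 1 := by
            rw [← pow_eq_pow_mod _ M.ab_four, ← pow_eq_pow_mod _ hA]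
            have h0 : (qa * qb) ^ (i + 4 - i') = (qa * qb) ^ (4 - i') * (qa * qb) ^ i := by
              rw [← pow_add]; congr 1; omega
            calc (qa * qb) ^ (i + 4 - i') * qa ^ (j + j')
                = (qa * qb) ^ (4 - i') * ((qa * qb) ^ i * qa ^ j) * qa ^ j' := by
                  rw [h0, pow_add]; group
              _ = ((qa * qb) ^ (4 - i') * (qa * qb) ^ i') * (qa ^ j' * qa ^ j') := by
                  rw [he']; group
              _ = 1 := by
                  rw [← pow_add, Nat.sub_add_cancel hi'.le, M.ab_four, ← pow_add, ← two_mul, pow_mul,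
                    hA, one_pow, one_mul]
          have h := M.avoid _ (Nat.mod_lt _ (by norm_num)) _ (Nat.mod_lt _ (by norm_num))
            (hq ▸ one_mem Eb)
          omega
        obtain ⟨r1, r2⟩ := hsol _ _ _ _ i.isLt i'.isLt j.isLt j'.isLt h'
        rw [Fin.ext r1, Fin.ext r2, Fin.ext hkk]
      · rintro ⟨x, hx⟩
        obtain ⟨i, j, k, hi, hj, hk, rfl⟩ := hsub x hx
        exact ⟨(⟨i, hi⟩, ⟨j, hj⟩, ⟨k, hk⟩), rfl⟩
    rw [← Nat.card_eq_of_bijective f hfb]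
    simp
  · have := (hle g hg hgi).2 hu
    simpa [MulAut.conj_apply] using this

/-- A 2-subgroup of order 1024 normalising `V` and meeting it trivially. -/
theorem exists_complement_two : ∃ U : Subgroup G, Nat.card U = 2 ^ 10 ∧
    U ≤ normalizer (V : Set G) ∧ U ⊓ V = ⊥ := by
  obtain ⟨U0, hU16, hUNP, hUN, hUg, hUkey⟩ := exists_small D I W M
  obtain ⟨g, hg, hgi⟩ := im_surj D I gB
  set L := (L0 D I W).map (MulAut.conj g).toMonoidHom with hL
  have memL : ∀ {x : G}, x ∈ L ↔ g⁻¹ * x * g ∈ L0 D I W := fun {x} => by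
    rw [hL, Subgroup.mem_map_equiv]
    simp [MulAut.conj_symm_apply]
  have hLE : L ≤ EE := fun x hx => by
    have := E_normal D hg.1 ((L0_le D I W) (memL.1 hx)).2
    rwa [show g * (g⁻¹ * x * g) * g⁻¹ = x by group] at this
  have hnorm : U0 ≤ normalizer (L : Set G) := by
    intro u hu
    have hu' : ∀ u ∈ U0, ∀ x ∈ L, u * x * u⁻¹ ∈ L := fun u hu x hx => by
      rw [memL]
      have := L0_inv D I W (mul_mem (mul_mem (inv_mem (KK_le_NP D hg)) (hUNP hu)) (KK_le_NP D hg))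
        (hUg g hg hgi u hu) (memL.1 hx)
      rwa [show g⁻¹ * u * g * (g⁻¹ * x * g) * (g⁻¹ * u * g)⁻¹ = g⁻¹ * (u * x * u⁻¹) * g by group]
        at this
    rw [Subgroup.mem_normalizer_iff]
    intro x
    refine ⟨hu' u hu x, fun h => ?_⟩
    have := hu' u⁻¹ (inv_mem hu) _ h
    rwa [show u⁻¹ * (u * x * u⁻¹) * u⁻¹⁻¹ = x by group] at this
  -- the commutator part of the conjugate avoids `V`
  have hLV : ∀ x ∈ L, x ∈ V → x = 1 := by
    intro x hx hxV
    set C := KK z P ⊓ centralizer ({x} : Set G) with hC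
    have hx0 := memL.1 hx
    have hmem : ∀ e ∈ Eb, (∃ y ∈ C, im φ y = e) ∧ ∃ y ∈ C, im φ y = gB * e * gB⁻¹ := by
      intro e he
      obtain ⟨y, hyV, hyK, rfl⟩ := W.ontoE e he
      refine ⟨⟨y, ⟨hyK, Subgroup.mem_centralizer_singleton_iff.2 (W.comm y hyV x hxV)⟩, rfl⟩,
        g * y * g⁻¹, ⟨Subgroup.mul_mem _ (Subgroup.mul_mem _ hg hyK) (Subgroup.inv_mem _ hg), Subgroup.mem_centralizer_singleton_iff.2 ?_⟩,
        by rw [im_conj D I hg hyK, hgi]⟩
      have h := W.comm y hyV _ ((L0_le D I W) hx0).1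
      calc g * y * g⁻¹ * x = g * (y * (g⁻¹ * x * g)) * g⁻¹ := by group
        _ = g * (g⁻¹ * x * g * y) * g⁻¹ := by rw [h]
        _ = _ := by group
    have hCK : C ≤ KK z P := inf_le_left
    let S : Subgroup M22 :=
      { carrier := {t | ∃ y ∈ C, im φ y = t}
        one_mem' := ⟨1, one_mem _, im_one⟩
        mul_mem' := by
          rintro _ _ ⟨a, ha, rfl⟩ ⟨b, hb, rfl⟩
          exact ⟨a * b, mul_mem ha hb, im_mul (hCK ha) (hCK hb)⟩
        inv_mem' := by
          rintro _ ⟨a, ha, rfl⟩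
          exact ⟨a⁻¹, inv_mem ha, im_inv (hCK ha)⟩ }
    have hS : (⊤ : Subgroup M22) ≤ S := by
      rw [← M.gen, Subgroup.closure_le]
      rintro t (ht | ⟨e, he, rfl⟩)
      · exact (hmem t ht).1
      · exact (hmem e he).2
    have hsplit : ∀ k ∈ KK z P, ∃ y ∈ C, ∃ t ∈ zpowers (z * p), k = y * t := fun k hk => by
      obtain ⟨y, hy, he⟩ := hS (Subgroup.mem_top (im φ k))
      exact ⟨y, hy, y⁻¹ * k, (im_eq_one D I (mul_mem (inv_mem (hCK hy)) hk)).1
        (by rw [im_mul (inv_mem (hCK hy)) hk, im_inv (hCK hy), he, inv_mul_cancel]), by group⟩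
    have hder : ⁅KK z P, KK z P⁆ ≤ C := by
      rw [Subgroup.commutator_le]
      intro k1 hk1 k2 hk2
      obtain ⟨y1, hy1, t1, ht1, rfl⟩ := hsplit k1 hk1
      obtain ⟨y2, hy2, t2, ht2, rfl⟩ := hsplit k2 hk2
      have c1 : ∀ y ∈ KK z P, ∀ t ∈ zpowers (z * p), Commute y t := fun y hy t ht =>
        center_elems D ht y hy
      have e1 : ⁅y1 * t1, y2 * t2⁆ = ⁅y1, y2⁆ := by
        have a1 := (c1 y2 (hCK hy2) t1 ht1).symm
        have a2 : Commute t1 t2 := (c1 t1 ((zp_KK D) ht1) t2 ht2)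
        have a3 := c1 y1⁻¹ (inv_mem (hCK hy1)) t2 ht2
        rw [commutatorElement_def, commutatorElement_def]
        calc y1 * t1 * (y2 * t2) * (y1 * t1)⁻¹ * (y2 * t2)⁻¹
            = y1 * ((t1 * (y2 * t2)) * t1⁻¹) * y1⁻¹ * (y2 * t2)⁻¹ := by group
          _ = y1 * (y2 * t2) * y1⁻¹ * (y2 * t2)⁻¹ := by
            rw [(a1.mul_right a2).eq, mul_inv_cancel_right]
          _ = y1 * y2 * (t2 * y1⁻¹) * t2⁻¹ * y2⁻¹ := by group
          _ = _ := by rw [← a3.eq]; group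
      rw [e1, commutatorElement_def]
      exact mul_mem (mul_mem (mul_mem hy1 hy2) (inv_mem hy1)) (inv_mem hy2)
    have hpC : p ∈ C := hder (I.perfect.symm ▸ p_KK D)
    have hxp : x * p = p * x := (Subgroup.mem_centralizer_singleton_iff.1 hpC.2).symm
    have hgp : g * p = p * g := comm_p D hg
    have h0 : g⁻¹ * x * g = 1 := L0_fixed D I W hx0 (by
      calc g⁻¹ * x * g * p = g⁻¹ * x * (g * p) := by group
        _ = g⁻¹ * (x * p) * g := by rw [hgp]; group
        _ = g⁻¹ * (p * x) * g := by rw [hxp]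
        _ = (g⁻¹ * p) * x * g := by group
        _ = (p * g⁻¹) * x * g := by rw [(Commute.inv_left hgp).eq]
        _ = _ := by group)
    calc x = g * (g⁻¹ * x * g) * g⁻¹ := by group
      _ = 1 := by rw [h0, mul_one, mul_inv_cancel]
  -- products
  have hUE : ∀ u ∈ U0, u ∈ EE → u = 1 := fun u hu hE =>
    hUkey u hu ⟨1, one_mem _, one_mem _, by rw [mul_one]; exact hE⟩
  have hdec : ∀ y : G, y ∈ L ⊔ U0 → ∃ l ∈ L, ∃ u ∈ U0, l * u = y := fun y hy => by
    rw [← SetLike.mem_coe, Subgroup.coe_mul_of_right_le_normalizer_left L U0 hnorm] at hy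
    obtain ⟨l, hl, u, hu, e⟩ := hy
    exact ⟨l, hl, u, hu, e⟩
  refine ⟨L ⊔ U0, ?_, sup_le (hLE.trans W.E_norm) hUN, ?_⟩
  · let f : ↥L × ↥U0 → ↥(L ⊔ U0) := fun t => ⟨t.1 * t.2, Subgroup.mul_mem_sup t.1.2 t.2.2⟩
    have hfb : Function.Bijective f := by
      constructor
      · rintro ⟨⟨l, hl⟩, ⟨u, hu⟩⟩ ⟨⟨l', hl'⟩, ⟨u', hu'⟩⟩ hff
        have h : l * u = l' * u' := congrArg Subtype.val hff
        have h1 : u * u'⁻¹ = l⁻¹ * l' := by
          calc u * u'⁻¹ = l⁻¹ * (l * u) * u'⁻¹ := by group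
            _ = _ := by rw [h]; group
        have h2 := hUE _ (mul_mem hu (inv_mem hu')) (h1 ▸ hLE (mul_mem (inv_mem hl) hl'))
        rw [mul_inv_eq_one] at h2
        subst h2
        have := mul_right_cancel h
        subst this
        rfl
      · rintro ⟨y, hy⟩
        obtain ⟨l, hl, u, hu, rfl⟩ := hdec y hy
        exact ⟨(⟨l, hl⟩, ⟨u, hu⟩), rfl⟩
    rw [← Nat.card_eq_of_bijective f hfb, Nat.card_prod, hU16, hL,
      Subgroup.card_map_of_injective (MulAut.conj g).injective, card_L0 D I W]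
    norm_num
  · rw [eq_bot_iff]
    rintro y ⟨hy, hyV⟩
    obtain ⟨l, hl, u, hu, rfl⟩ := hdec y hy
    obtain ⟨x, hxV, hxK, hxE⟩ := exists_fixed_part D I W hyV
    have huH := (hUNP hu).1
    have h1 : u * x ∈ EE := by
      have h2 : l * u * x ∈ EE := by rw [W.comm _ hyV _ hxV]; exact hxE
      have := mul_mem (inv_mem (hLE hl)) h2
      rwa [show l⁻¹ * (l * u * x) = u * x by group] at this
    rw [hUkey u hu ⟨x, hxV, hxK, h1⟩, mul_one] at hyV ⊢
    exact Subgroup.mem_bot.2 (hLV l hl hyV)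

end Cfsg.Agent.J4CompGroup43
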