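import Mathlib
import Cfsg.Agent.Lib.CoprimeGaschutz
import Cfsg.Agent.Lib.GolayM24

/-!
A normaliser inducing M24 on an elementary abelian subgroup of order 2048 splits as soon as a
subgroup of order 1024 of it meets the subgroup trivially.
-/

set_option autoImplicit false
set_option linter.style.haveILetI false

namespace Cfsg.Agent.J4CompSplit43

open Subgroup
open scoped Pointwise

universe u

variable {G : Type u} [Group G] [Finite G]

theorem exists_split {V U M : Subgroup G} (hcomm : ∀ x ∈ V, ∀ y ∈ V, x * y = y * x)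
    (hV : Nat.card V = 2 ^ 11) (hU : Nat.card U = 2 ^ 10) (hVM : V ≤ M) (hUN : U ≤ M)
    (hUV : U ⊓ V = ⊥) (φ : ↥M →* ↥Cfsg.M24) (hs : Function.Surjective φ)
    (hk : ∀ m, φ m = 1 ↔ (m : G) ∈ V) :
    ∃ K : Subgroup G, K ≤ M ∧ K ⊓ V = ⊥ ∧ K ⊔ V = M ∧ Cfsg.Spor.IsoM24 ↥K := by
  set Vs := V.subgroupOf M with hVs
  set Us := U.subgroupOf M with hUs
  have hker : φ.ker = Vs := by
    ext m
    rw [MonoidHom.mem_ker, hk, hVs, Subgroup.mem_subgroupOf]
  haveI : Vs.Normal := hker ▸ φ.normal_ker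
  haveI : IsMulCommutative Vs := ⟨⟨fun a b => Subtype.ext (Subtype.ext
    (hcomm _ a.2 _ b.2))⟩⟩
  have hVc : Nat.card Vs = 2 ^ 11 := by
    rw [hVs, Nat.card_congr (Subgroup.subgroupOfEquivOfLe hVM).toEquiv, hV]
  have hUc : Nat.card Us = 2 ^ 10 := by
    rw [hUs, Nat.card_congr (Subgroup.subgroupOfEquivOfLe hUN).toEquiv, hU]
  have hcap : Us ⊓ Vs = ⊥ := by
    rw [eq_bot_iff]
    rintro x ⟨h1, h2⟩
    have : (x : G) ∈ U ⊓ V := ⟨h1, h2⟩
    rw [hUV, Subgroup.mem_bot] at this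
    exact Subgroup.mem_bot.2 (Subtype.ext this)
  have hMc : Nat.card M = 2 ^ 11 * 244823040 := by
    rw [← hVc, ← hker, ← GolayM24.card_M24, ← Subgroup.card_mul_index φ.ker, Subgroup.index_ker,
      MonoidHom.range_eq_top.2 hs, Subgroup.card_top]
  have hsup : Nat.card ↥(Vs ⊔ Us) = 2 ^ 21 := by
    have h1 : ((Vs ⊔ Us : Subgroup M) : Set M) = (Vs : Set M) * (Us : Set M) :=
      Subgroup.normal_mul Vs Us
    let f : ↥Vs × ↥Us → ↥(Vs ⊔ Us) := fun t => ⟨t.1 * t.2, Subgroup.mul_mem_sup t.1.2 t.2.2⟩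
    have hfb : Function.Bijective f := by
      constructor
      · rintro ⟨⟨a, ha⟩, ⟨b, hb⟩⟩ ⟨⟨a', ha'⟩, ⟨b', hb'⟩⟩ hff
        have h : a * b = a' * b' := congrArg Subtype.val hff
        have h2 : b * b'⁻¹ = a⁻¹ * a' := by
          calc b * b'⁻¹ = a⁻¹ * (a * b) * b'⁻¹ := by group
            _ = _ := by rw [h]; group
        have h3 : b * b'⁻¹ ∈ Us ⊓ Vs :=
          ⟨Subgroup.mul_mem _ hb (Subgroup.inv_mem _ hb'),
            h2 ▸ Subgroup.mul_mem _ (Subgroup.inv_mem _ ha) ha'⟩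
        rw [hcap, Subgroup.mem_bot, mul_inv_eq_one] at h3
        subst h3
        have := mul_right_cancel h
        subst this
        rfl
      · rintro ⟨y, hy⟩
        rw [← SetLike.mem_coe, h1] at hy
        obtain ⟨a, ha, b, hb, rfl⟩ := hy
        exact ⟨(⟨a, ha⟩, ⟨b, hb⟩), rfl⟩
    rw [← Nat.card_eq_of_bijective f hfb, Nat.card_prod, hVc, hUc]
    norm_num
  have hcop : (Nat.card Vs).Coprime (Vs ⊔ Us).index := by
    have h := Subgroup.card_mul_index (Vs ⊔ Us)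
    rw [hsup, hMc] at h
    rw [hVc, show (Vs ⊔ Us).index = 239085 by omega]
    decide +kernel
  obtain ⟨H, hH⟩ := CoprimeGaschutz.exists_complement (K := Vs) (U := Vs ⊔ Us) le_sup_left hcop Us
    le_sup_right hcap rfl
  refine ⟨H.map M.subtype, ?_, ?_, ?_, ?_⟩
  · rintro _ ⟨x, -, rfl⟩; exact x.2
  · rw [eq_bot_iff]
    rintro _ ⟨⟨x, hx, rfl⟩, hxV⟩
    have : x ∈ Vs ⊓ H := ⟨hxV, hx⟩
    rw [hH.disjoint.eq_bot, Subgroup.mem_bot] at this
    rw [this]
    exact one_mem _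
  · refine le_antisymm (sup_le (by rintro _ ⟨x, -, rfl⟩; exact x.2) hVM) fun g hg => ?_
    have : (⟨g, hg⟩ : M) ∈ Vs ⊔ H := by rw [hH.sup_eq_top]; trivial
    rw [← SetLike.mem_coe, Subgroup.normal_mul] at this
    obtain ⟨a, ha, b, hb, he⟩ := this
    rw [show g = (a : G) * b from (congrArg Subtype.val he).symm]
    exact mul_mem (Subgroup.mem_sup_right ha) (Subgroup.mem_sup_left ⟨b, hb, rfl⟩)
  · refine ⟨(Subgroup.equivMapOfInjective H M.subtype M.subtype_injective).symm.trans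
      (MulEquiv.ofBijective (φ.comp H.subtype) ⟨?_, ?_⟩)⟩
    · rw [injective_iff_map_eq_one]
      intro x hx
      have : (x : M) ∈ Vs ⊓ H := ⟨hker ▸ hx, x.2⟩
      rw [hH.disjoint.eq_bot, Subgroup.mem_bot] at this
      exact Subtype.ext this
    · intro y
      obtain ⟨m, rfl⟩ := hs y
      have : m ∈ Vs ⊔ H := by rw [hH.sup_eq_top]; trivial
      rw [← SetLike.mem_coe, Subgroup.normal_mul] at this
      obtain ⟨a, ha, b, hb, he⟩ := this
      refine ⟨⟨b, hb⟩, ?_⟩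
      show φ b = φ m
      rw [← he, map_mul, (hk a).2 ha, one_mul]

end Cfsg.Agent.J4CompSplit43
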