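import Mathlib
import Cfsg.Agent.Lib.LFMat89
import Cfsg.Agent.Lib.LFForm89
import Cfsg.Agent.Lib.J4Code85
import Cfsg.Agent.Lib.OrthUnitaryHerm

/-!
The coded generators of the triple cover of `M22` as unitary matrices, and what their relations
say about a matrix with the same relations.
-/

set_option autoImplicit false
set_option linter.unusedSectionVars false
set_option maxRecDepth 100000

namespace Cfsg.Agent.J4Coord85Mat

open Cfsg Cfsg.Agent.U62Mon93 Cfsg.Agent.U62Existence93 Cfsg.Agent.LFForm89 Cfsg.Agent.LFMat89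
open Cfsg.Agent.OrthUnitaryHerm Cfsg.Agent.J4Code85
open Cfsg.Agent.LFCheck89 (dig scal col app mulM idM qpar allBelow allBelow_spec)
open scoped Matrix

variable {F : Type} [Field F] [Fintype F] {s : F}

theorem matOf_cpow (h : S4 s) (g : ℕ) : ∀ k, matOf s (cpow g k) = matOf s g ^ k
  | 0 => matOf_id h
  | k + 1 => by rw [cpow, matOf_mul h, matOf_cpow h g k, ← pow_succ']

theorem idM_lt : idM < 2 ^ 72 := by decide +kernel

theorem cpow_lt (g : ℕ) : ∀ k, cpow g k < 2 ^ 72
  | 0 => idM_lt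
  | _ + 1 => mulM_lt _ _

theorem matOf_scalar (h : S4 s) : matOf s cS = s • (1 : Matrix (Fin 6) (Fin 6) F) := by
  ext i j
  have e : ∀ i j : Fin 6, dig (col cS j) i = if i = j then 2 else 0 := by decide +kernel
  show UnitaryImage.iota code4 s (dig (col cS j) i) = _
  rw [e, Matrix.smul_apply, Matrix.one_apply]
  split
  · simp [UnitaryImage.iota, code4]
  · simp [UnitaryImage.iota_zero]

/-- A matrix preserving the norm preserves the form. -/
theorem isU_of_norm (h : S4 s) {A : Matrix (Fin 6) (Fin 6) F}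
    (hA : ∀ u, hermForm 6 F 2 (A *ᵥ u) (A *ᵥ u) = hermForm 6 F 2 u u) : IsU 2 A := by
  have hp : ∀ u v, tr (hermForm 6 F 2 (A *ᵥ u) (A *ᵥ v)) = tr (hermForm 6 F 2 u v) := by
    intro u v
    have e := hA (u + v)
    rw [Matrix.mulVec_add, herm_add_left, herm_add_left, herm_add_right h.card',
      herm_add_right h.card', herm_add_right h.card', herm_add_right h.card', hA, hA,
      herm_conj h.card' u v, herm_conj h.card' (A *ᵥ u) (A *ᵥ v)] at e
    have e2 := e
    simp only [tr]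
    have hh : ∀ z : F, (z ^ 2) ^ 2 = z := fun z => pow_q_q h.card' z
    linear_combination e2
  intro u v
  refine tr_ext h (hp u v) ?_
  rw [← herm_smul_left, ← herm_smul_left, ← Matrix.mulVec_smul]
  exact hp _ _

theorem isU_of_test (h : S4 s) {g : ℕ} (hg : normTest g = true) : IsU 2 (matOf s g) := by
  refine isU_of_norm h fun u => ?_
  obtain ⟨c, hc, rfl⟩ := exists_vec h u
  have e := allBelow_spec hg c hc
  rw [← vec_app h, qpar_eq h, qpar_eq h]
  rw [beq_iff_eq] at e
  rw [e]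

theorem det_one (h : S4 s) {A : Matrix (Fin 6) (Fin 6) F} (hA : IsU 2 A) {k : ℕ}
    (hk : Nat.Coprime k 3) (hp : A ^ k = 1) : A.det = 1 := by
  have h1 : A.det ^ k = 1 := by rw [← Matrix.det_pow, hp, Matrix.det_one]
  have h3 : A.det ^ 3 = 1 := hA.det_pow h.card'
  have := pow_gcd_eq_one.2 ⟨h1, h3⟩
  rwa [hk, pow_one] at this

theorem relX (h : S4 s) : IsU 2 (matOf s cX) ∧ matOf s cX ^ 11 = 1 := by
  refine ⟨isU_of_test h norm_X, ?_⟩
  rw [← matOf_cpow h, rel_X.1, matOf_id h]

theorem relY (h : S4 s) : IsU 2 (matOf s cY) ∧ matOf s cY ^ 5 = 1 ∧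
    matOf s cY * matOf s cX = matOf s cX ^ 4 * matOf s cY := by
  refine ⟨isU_of_test h norm_Y, ?_, ?_⟩
  · rw [← matOf_cpow h, rel_Y.1, matOf_id h]
  · rw [← matOf_cpow h, ← matOf_mul h, ← matOf_mul h, rel_Y.2.2]

theorem relV (h : S4 s) : IsU 2 (matOf s cV) ∧ matOf s cV ^ 4 = 1 ∧
    matOf s cV * matOf s cY = matOf s cY ^ 2 * matOf s cV := by
  refine ⟨isU_of_test h norm_V, ?_, ?_⟩
  · rw [← matOf_cpow h, rel_V.1, matOf_id h]
  · rw [← matOf_cpow h, ← matOf_mul h, ← matOf_mul h, rel_V.2]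

/-- The coded element of order eleven. -/
noncomputable def eX (h : S4 s) : SU 6 F 2 :=
  mkSU (matOf s cX) (det_one h (relX h).1 (by norm_num) (relX h).2) (relX h).1

/-- The coded element of order five. -/
noncomputable def eY (h : S4 s) : SU 6 F 2 :=
  mkSU (matOf s cY) (det_one h (relY h).1 (by norm_num) (relY h).2.1) (relY h).1

theorem su_ext {a b : SU 6 F 2}
    (e : (a.1 : Matrix (Fin 6) (Fin 6) F) = (b.1 : Matrix (Fin 6) (Fin 6) F)) : a = b :=
  Subtype.ext (Subtype.ext e)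

theorem su_pow (a : SU 6 F 2) (k : ℕ) :
    ((a ^ k).1 : Matrix (Fin 6) (Fin 6) F) = (a.1 : Matrix (Fin 6) (Fin 6) F) ^ k := by
  simp

theorem eX_pow (h : S4 s) : eX h ^ 11 = 1 := su_ext (by rw [su_pow]; exact (relX h).2)

theorem eX_ne (h : S4 s) : eX h ≠ 1 := fun e => by
  refine rel_X.2 (matOf_inj h (by decide +kernel) idM_lt ?_)
  rw [matOf_id h]
  exact congrArg (fun a : SU 6 F 2 => (a.1 : Matrix (Fin 6) (Fin 6) F)) e

theorem eY_pow (h : S4 s) : eY h ^ 5 = 1 := su_ext (by rw [su_pow]; exact (relY h).2.1)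

theorem eY_ne (h : S4 s) : eY h ≠ 1 := fun e => by
  refine rel_Y.2.1 (matOf_inj h (by decide +kernel) idM_lt ?_)
  rw [matOf_id h]
  exact congrArg (fun a : SU 6 F 2 => (a.1 : Matrix (Fin 6) (Fin 6) F)) e

theorem eY_eX (h : S4 s) : eY h * eX h * (eY h)⁻¹ = eX h ^ 4 := by
  rw [mul_inv_eq_iff_eq_mul]
  refine su_ext ?_
  show matOf s cY * matOf s cX = ((eX h ^ 4).1 : Matrix (Fin 6) (Fin 6) F) * matOf s cY
  rw [su_pow]
  exact (relY h).2.2

theorem dig_trace (h : S4 s) (g : ℕ) :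
    (matOf s g).trace = UnitaryImage.iota code4 s (trc g) := by
  have hl : ∀ a b, a < 4 → b < 4 → Nat.xor a b < 4 := fun a b ha hb =>
    Nat.xor_lt_two_pow (n := 2) ha hb
  rw [trc]
  rw [iota_xor h (hl _ _ (hl _ _ (hl _ _ (hl _ _ (dig_lt _ _) (dig_lt _ _)) (dig_lt _ _))
      (dig_lt _ _)) (dig_lt _ _)) (dig_lt _ _),
    iota_xor h (hl _ _ (hl _ _ (hl _ _ (dig_lt _ _) (dig_lt _ _)) (dig_lt _ _)) (dig_lt _ _))
      (dig_lt _ _),
    iota_xor h (hl _ _ (hl _ _ (dig_lt _ _) (dig_lt _ _)) (dig_lt _ _)) (dig_lt _ _),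
    iota_xor h (hl _ _ (dig_lt _ _) (dig_lt _ _)) (dig_lt _ _),
    iota_xor h (dig_lt _ _) (dig_lt _ _)]
  simp only [Matrix.trace, Fin.sum_univ_six, Matrix.diag_apply, matOf, Matrix.of_apply, vec]
  rfl

theorem trc_lt (g : ℕ) : trc g < 4 := by
  have hl : ∀ a b, a < 4 → b < 4 → Nat.xor a b < 4 := fun a b ha hb =>
    Nat.xor_lt_two_pow (n := 2) ha hb
  exact hl _ _ (hl _ _ (hl _ _ (hl _ _ (hl _ _ (dig_lt _ _) (dig_lt _ _)) (dig_lt _ _))
    (dig_lt _ _)) (dig_lt _ _)) (dig_lt _ _)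

/-- A conjugate of the element of order eleven among its powers is a square power. -/
theorem square_power (h : S4 s) {g : SU 6 F 2} {k : ℕ}
    (hg : g * eX h * g⁻¹ = eX h ^ k) (hk : k < 11) : k ∈ [1, 3, 4, 5, 9] := by
  have hne : k ≠ 0 := fun e => by
    rw [e, pow_zero, mul_inv_eq_one, mul_eq_left] at hg
    exact eX_ne h hg
  by_contra hmem
  have hk' : k ∈ [2, 6, 7, 8, 10] := by
    simp only [List.mem_cons, List.not_mem_nil, or_false] at hmem ⊢
    omega
  have ht : ((eX h ^ k).1 : Matrix (Fin 6) (Fin 6) F).trace = (matOf s cX).trace := by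
    rw [← hg]
    show ((g.1 : Matrix (Fin 6) (Fin 6) F) * matOf s cX *
      ((g⁻¹).1 : Matrix (Fin 6) (Fin 6) F)).trace = _
    rw [Matrix.trace_mul_comm, ← mul_assoc]
    have e1 : ((g⁻¹).1 : Matrix (Fin 6) (Fin 6) F) * (g.1 : Matrix (Fin 6) (Fin 6) F) = 1 :=
      congrArg (fun a : SU 6 F 2 => (a.1 : Matrix (Fin 6) (Fin 6) F)) (inv_mul_cancel g)
    rw [e1, one_mul]
  rw [su_pow] at ht
  change (matOf s cX ^ k).trace = _ at ht
  rw [← matOf_cpow h, dig_trace h, dig_trace h] at ht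
  have e := iota_inj h (trc_lt _) (trc_lt _) ht
  have := (List.all_eq_true.1 trace_ok) k hk'
  simp [e] at this

/-- Every matrix has a code. -/
theorem exists_code (h : S4 s) (A : Matrix (Fin 6) (Fin 6) F) :
    ∃ g < 2 ^ 72, matOf s g = A := by
  choose c hc hce using fun j : Fin 6 => exists_vec h fun i => A i j
  have hb : ∀ j, c j < 4096 := hc
  refine ⟨pack (c 0) (c 1) (c 2) (c 3) (c 4) (c 5), ?_, ?_⟩
  · have := hb 0; have := hb 1; have := hb 2; have := hb 3; have := hb 4; have := hb 5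
    simp only [pack]; omega
  · ext i j
    show vec s (col _ j) i = A i j
    have : col (pack (c 0) (c 1) (c 2) (c 3) (c 4) (c 5)) j = c j := by
      have := hb 0; have := hb 1; have := hb 2; have := hb 3; have := hb 4; have := hb 5
      rw [col_eq, pack]
      fin_cases j <;> simp <;> omega
    rw [this, hce]

theorem app_app (h : S4 s) {g k c : ℕ} (hc : c < 4096) (hk : matOf s g * matOf s k = matOf s k * matOf s g) :
    app g (app k c) = app k (app g c) :=
  vec_inj h (app_lt _ _) (app_lt _ _) (by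
    rw [vec_app h, vec_app h, vec_app h, vec_app h, Matrix.mulVec_mulVec, Matrix.mulVec_mulVec, hk])

theorem app_xor (h : S4 s) (g : ℕ) {a b : ℕ} (ha : a < 4096) (hb : b < 4096) :
    app g (Nat.xor a b) = Nat.xor (app g a) (app g b) :=
  vec_inj h (app_lt _ _) (xor_lt (app_lt _ _) (app_lt _ _)) (by
    rw [vec_app h, vec_xor h, vec_xor h, vec_app h, vec_app h, Matrix.mulVec_add])

theorem app_scal (h : S4 s) (g : ℕ) {a : ℕ} (ha : a < 4096) : app g (scal a) = scal (app g a) :=
  vec_inj h (app_lt _ _) (scal_spec (app_lt _ _)).1 (by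
    rw [vec_app h, vec_scal h ha, vec_scal h (app_lt _ _), vec_app h, Matrix.mulVec_smul])

theorem app_zero (h : S4 s) (g : ℕ) : app g 0 = 0 :=
  vec_inj h (app_lt _ _) (by norm_num) (by rw [vec_app h, vec_zero, Matrix.mulVec_zero])

theorem qpar_app (h : S4 s) {g : ℕ} (hU : IsU 2 (matOf s g)) (c : ℕ) :
    qpar (app g c) = qpar c := by
  have e := hU (vec s c) (vec s c)
  rw [← vec_app h, qpar_eq h, qpar_eq h] at e
  cases hq : qpar (app g c) <;> cases hc : qpar c <;> simp [hq, hc] at e ⊢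

/-- A matrix with the relations of the coded element of order four is conjugate to it by one
commuting with the other two generators. -/
theorem exists_last (h : S4 s) {A : Matrix (Fin 6) (Fin 6) F} (hA : IsU 2 A) (h4 : A ^ 4 = 1)
    (hrel : A * matOf s cY = matOf s cY ^ 2 * A)
    (hw : ∃ i < 3, (matOf s cX * matOf s cY * A) ^ 11 = matOf s cS ^ i) :
    ∃ D D' : Matrix (Fin 6) (Fin 6) F, IsU 2 D ∧ D * D' = 1 ∧ D' * D = 1 ∧
      D * matOf s cX = matOf s cX * D ∧ D * matOf s cY = matOf s cY * D ∧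
      A = D * matOf s cV * D' := by
  obtain ⟨hVU, hV4, hVY⟩ := relV h
  obtain ⟨hYU, hY5, -⟩ := relY h
  have hV3 : matOf s cV * matOf s cV ^ 3 = 1 := by rw [← pow_succ', hV4]
  have hV3' : matOf s cV ^ 3 * matOf s cV = 1 := by rw [← pow_succ, hV4]
  have hVU3 : IsU 2 (matOf s cV ^ 3) := by
    rw [show (3 : ℕ) = 1 + 1 + 1 from rfl, pow_add, pow_add, pow_one]
    exact (hVU.mul hVU).mul hVU
  obtain ⟨gC, -, hgC⟩ := exists_code h (A * matOf s cV ^ 3)
  have hCU : IsU 2 (matOf s gC) := hgC ▸ hA.mul hVU3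
  have hC2 : matOf s gC * matOf s cY ^ 2 = matOf s cY ^ 2 * matOf s gC := by
    have : matOf s cY ^ 2 = matOf s cV * matOf s cY * matOf s cV ^ 3 := by
      rw [hVY, mul_assoc, hV3, mul_one]
    rw [hgC]
    calc A * matOf s cV ^ 3 * matOf s cY ^ 2
        = A * (matOf s cV ^ 3 * matOf s cV) * matOf s cY * matOf s cV ^ 3 := by
          rw [this]; simp only [mul_assoc]
      _ = A * matOf s cY * matOf s cV ^ 3 := by rw [hV3', mul_one]
      _ = _ := by rw [hrel, mul_assoc]
  have hC : matOf s gC * matOf s cY = matOf s cY * matOf s gC := by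
    have hY : matOf s cY = (matOf s cY ^ 2) ^ 3 := by
      rw [← pow_mul, show 2 * 3 = 5 + 1 from rfl, pow_succ, hY5, one_mul]
    rw [hY]
    exact (Commute.pow_right hC2 3)
  have hap : ∀ c < 4096, app gC (app cY c) = app cY (app gC c) := fun c hc => app_app h hc hC
  obtain ⟨hf1, hf2, ho, hg4⟩ := base_fix
  have hfix : ∀ c < 4096, fixTest c = true → fixTest (app gC c) = true := by
    intro c hc hfc
    simp only [fixTest, Bool.and_eq_true, Nat.beq_eq] at hfc ⊢
    exact ⟨by rw [← hap c hc, hfc.1], by rw [qpar_app h hCU, hfc.2]⟩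
  have horth : orthTest (app gC 1) (app gC 336) = true := by
    simp only [orthTest] at ho ⊢
    rw [← app_xor h gC (by norm_num) (by norm_num), ← app_scal h gC (by norm_num),
      ← app_xor h gC (scal_spec (by norm_num)).1 (by norm_num), qpar_app h hCU, qpar_app h hCU]
    exact ho
  have hgen : genTest (app gC 4) = true := by
    simp only [genTest] at hg4 ⊢
    have l1 := app_lt cY 4
    have l2 := app_lt cY (app cY 4)
    have l3 := app_lt cY (app cY (app cY 4))
    have l4 := app_lt cY (app cY (app cY (app cY 4)))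
    have l0 : (4 : ℕ) < 4096 := by norm_num
    rw [← hap 4 l0, ← hap _ l1, ← hap _ l2, ← hap _ l3, ← app_xor h gC l0 l1,
      ← app_xor h gC (xor_lt l0 l1) l2, ← app_xor h gC (xor_lt (xor_lt l0 l1) l2) l3,
      ← app_xor h gC (xor_lt (xor_lt (xor_lt l0 l1) l2) l3) l4, ← app_scal h gC l0,
      ← app_xor h gC (scal_spec l0).1 l1, ← app_xor h gC l0 l2,
      ← app_xor h gC (scal_spec l0).1 l2]
    simp only [qpar_app h hCU]
    simp only [Bool.and_eq_true, Nat.beq_eq] at hg4 ⊢
    obtain ⟨⟨⟨⟨⟨e0, e1⟩, e2⟩, e3⟩, e4⟩, e5⟩ := hg4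
    exact ⟨⟨⟨⟨⟨by rw [e0, app_zero h], e1⟩, e2⟩, e3⟩, e4⟩, e5⟩
  have hmem : ∀ (f : ℕ → Bool) (l : List ℕ), allBelow (fun c => !f c || l.elem c) 4096 = true →
      ∀ c, f c = true → c < 4096 → c ∈ l := by
    intro f l hl c hfc hc
    have := allBelow_spec hl c hc
    simp only [hfc, Bool.not_true, Bool.false_or, List.elem_iff] at this
    exact this
  have ha := hmem _ _ fix_complete _ (hfix 1 (by norm_num) hf1) (app_lt _ _)
  have hb := hmem _ _ fix_complete _ (hfix 336 (by norm_num) hf2) (app_lt _ _)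
  have hc := hmem _ _ gen_complete _ hgen (app_lt _ _)
  have hok : candOK (cand (app gC 1) (app gC 336) (app gC 4)) = true := by
    have := List.all_eq_true.1 (List.all_eq_true.1 cand_complete _ ha) _ hb
    rw [horth, Bool.not_true, Bool.false_or] at this
    exact List.all_eq_true.1 this _ hc
  have hcand : matOf s (cand (app gC 1) (app gC 336) (app gC 4)) = A := by
    obtain ⟨b0, b1, b2, b3, b4, b5⟩ := base_col
    have hp : pack (app gC 1) (app gC 336) (app gC 4) (app cY (app gC 4))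
        (app cY (app cY (app gC 4))) (app cY (app cY (app cY (app gC 4)))) = mulM gC cBase := by
      rw [mulM_eq, b0, b1, b2, b3, b4, b5, pack, hap 4 (by norm_num), hap _ (app_lt _ _),
        hap _ (app_lt _ _), hap 4 (by norm_num), hap _ (app_lt _ _), hap 4 (by norm_num)]
    rw [cand, hp, matOf_mul h, matOf_mul h, matOf_mul h, mul_assoc (matOf s gC), ← matOf_mul h,
      base_inv, matOf_id h, mul_one, hgC, mul_assoc, hV3', mul_one]
  rw [candOK] at hok
  set k := cand (app gC 1) (app gC 336) (app gC 4) with hkdef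
  have hklt : k < 2 ^ 72 := mulM_lt _ _
  have e4 : cpow k 4 = idM := matOf_inj h (cpow_lt _ _) idM_lt (by
    rw [matOf_cpow h, hcand, h4, matOf_id h])
  have esc : scalarTest (cpow (mulM (mulM cX cY) k) 11) = true := by
    obtain ⟨i, hi, hwi⟩ := hw
    have e : cpow (mulM (mulM cX cY) k) 11 = cpow cS i := matOf_inj h (cpow_lt _ _) (cpow_lt _ _) (by
      rw [matOf_cpow h, matOf_cpow h, matOf_mul h, matOf_mul h, hcand, hwi])
    rw [scalarTest, e]
    interval_cases i <;> simp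
  rw [esc, show Nat.beq (cpow k 4) idM = true by rw [e4]; exact Nat.beq_refl _] at hok
  simp only [Bool.and_self, Bool.not_true, Bool.false_or, List.any_eq_true, Nat.beq_eq] at hok
  obtain ⟨p, hp, hpk⟩ := hok
  have hn := List.all_eq_true.1 norm_com p hp
  have hc := List.all_eq_true.1 com_ok p hp
  simp only [Bool.and_eq_true, Nat.beq_eq] at hn hc
  obtain ⟨⟨⟨⟨⟨c1, c2⟩, c3⟩, c4⟩, -⟩, -⟩ := hc
  refine ⟨matOf s p.1, matOf s p.2, isU_of_test h hn.1, ?_, ?_, ?_, ?_, ?_⟩
  · rw [← matOf_mul h, c1, matOf_id h]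
  · rw [← matOf_mul h, c2, matOf_id h]
  · rw [← matOf_mul h, ← matOf_mul h, c3]
  · rw [← matOf_mul h, ← matOf_mul h, c4]
  · rw [← hcand, hpk, matOf_mul h, matOf_mul h]

end Cfsg.Agent.J4Coord85Mat
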