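import Mathlib
import Cfsg.Agent.Lib.J4Coord85Mat
import Cfsg.Agent.Lib.U62Classify93

/-!
Elements of `SU₆(2)` with the relations of the generators of orders eleven and five of the triple
cover of `M22` are conjugate to the coded ones.
-/

set_option autoImplicit false
set_option linter.unusedSectionVars false

namespace Cfsg.Agent.J4Coord85Conj

open Cfsg Cfsg.Agent.U62Mon93 Cfsg.Agent.U62Existence93 Cfsg.Agent.LFMat89
open Cfsg.Agent.J4Coord85Mat Cfsg.Agent.OrthUnitaryHerm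

variable {F : Type} [Field F] [Fintype F] {s : F}

theorem order_eq {G : Type*} [Group G] {p : ℕ} (hp : p.Prime) {a : G} (h1 : a ^ p = 1)
    (h2 : a ≠ 1) : orderOf a = p := by
  haveI := Fact.mk hp
  exact orderOf_eq_prime h1 h2

theorem conj_pow_of_rel {G : Type*} [Group G] {x y : G} {r : ℕ} (h : y * x * y⁻¹ = x ^ r) :
    ∀ j : ℕ, y ^ j * x * (y ^ j)⁻¹ = x ^ (r ^ j)
  | 0 => by simp
  | j + 1 => by
    rw [pow_succ', show y * y ^ j * x * (y * y ^ j)⁻¹ = y * (y ^ j * x * (y ^ j)⁻¹) * y⁻¹ by group,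
      conj_pow_of_rel h j, ← conj_pow, h, ← pow_mul, ← pow_succ']

/-- An element of order eleven or its inverse is conjugate to the coded one. -/
theorem exists_conj_eleven (h : S4 s) {a : SU 6 F 2} (ha : a ^ 11 = 1) (ha1 : a ≠ 1) :
    ∃ B : SU 6 F 2, B * a * B⁻¹ = eX h ∨ B * a⁻¹ * B⁻¹ = eX h := by
  haveI : Finite (SU 6 F 2) := Subtype.finite
  haveI : Fact (Nat.Prime 11) := ⟨by norm_num⟩
  obtain ⟨g, hg⟩ := U62Classify93.exists_conj (p := 11) (n := 1) (m := 2508226560)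
    (A := Subgroup.zpowers a) (B := Subgroup.zpowers (eX h)) (by rw [card_G h]; norm_num)
    (by norm_num) (by rw [Nat.card_zpowers, order_eq (by norm_num) ha ha1]; norm_num)
    (by rw [Nat.card_zpowers, order_eq (by norm_num) (eX_pow h) (eX_ne h)]; norm_num)
  have hm : g * a * g⁻¹ ∈ Subgroup.zpowers (eX h) :=
    hg ▸ ⟨a, Subgroup.mem_zpowers a, rfl⟩
  obtain ⟨k, hk⟩ := mem_powers_iff_mem_zpowers.2 hm
  simp only at hk
  rw [pow_eq_pow_mod k (eX_pow h)] at hk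
  have hk11 : k % 11 < 11 := Nat.mod_lt _ (by norm_num)
  generalize k % 11 = r at hk hk11
  have hr : r ≠ 0 := fun e => by
    rw [e, pow_zero, eq_comm, mul_inv_eq_one, mul_eq_left] at hk
    exact ha1 hk
  obtain ⟨j, hj⟩ : ∃ j < 5, 4 ^ j % 11 = r ∨ (4 ^ j + r) % 11 = 0 := by
    revert hr hk11; clear hk; revert r; decide
  refine ⟨(eY h ^ j)⁻¹ * g, ?_⟩
  have hY := conj_pow_of_rel (eY_eX h) j
  rcases hj.2 with e | e
  · left
    rw [show (eY h ^ j)⁻¹ * g * a * ((eY h ^ j)⁻¹ * g)⁻¹ = (eY h ^ j)⁻¹ * (g * a * g⁻¹) * eY h ^ j by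
      group, ← hk, ← e, ← pow_eq_pow_mod _ (eX_pow h), ← hY]
    group
  · right
    have hinv : (eX h ^ r)⁻¹ = eX h ^ (4 ^ j) := by
      rw [inv_eq_iff_mul_eq_one, ← pow_add, pow_eq_pow_mod _ (eX_pow h), add_comm, e, pow_zero]
    rw [show (eY h ^ j)⁻¹ * g * a⁻¹ * ((eY h ^ j)⁻¹ * g)⁻¹ =
      (eY h ^ j)⁻¹ * (g * a * g⁻¹)⁻¹ * eY h ^ j by group, ← hk, hinv, ← hY]
    group

/-- An element of order five acting on the coded one of order eleven in the same way as the coded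
one of order five is conjugate to it in the centralizer. -/
theorem exists_conj_five (h : S4 s) {b : SU 6 F 2} (hb : b ^ 5 = 1)
    (hrel : b * eX h * b⁻¹ = eX h ^ 4) :
    ∃ c : SU 6 F 2, c * eX h * c⁻¹ = eX h ∧ c * b * c⁻¹ = eY h := by
  haveI : Finite (SU 6 F 2) := Subtype.finite
  haveI : Fact (Nat.Prime 5) := ⟨by norm_num⟩
  set N := Subgroup.normalizer ((Subgroup.zpowers (eX h)) : Set (SU 6 F 2)) with hN
  have hX11 : orderOf (eX h) = 11 := order_eq (by norm_num) (eX_pow h) (eX_ne h)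
  have hmemN : ∀ g : SU 6 F 2, g * eX h * g⁻¹ = eX h ^ 4 → g ∈ N := fun g hg => by
    rw [hN, Subgroup.mem_normalizer_iff]
    have hle : (Subgroup.zpowers (eX h)).map (MulAut.conj g).toMonoidHom =
        Subgroup.zpowers (eX h) := by
      rw [MonoidHom.map_zpowers]
      show Subgroup.zpowers (g * eX h * g⁻¹) = _
      rw [hg]
      refine le_antisymm (Subgroup.zpowers_le.2 (pow_mem (Subgroup.mem_zpowers _) 4))
        (Subgroup.zpowers_le.2 ?_)
      refine mem_powers_iff_mem_zpowers.1 ⟨3, ?_⟩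
      show (eX h ^ 4) ^ 3 = eX h
      rw [← pow_mul, pow_eq_pow_mod _ (eX_pow h), pow_one]
    intro x
    constructor
    · exact fun hx => hle ▸ ⟨x, hx, rfl⟩
    · intro hx
      obtain ⟨y, hy, e⟩ := hle ▸ hx
      exact (MulAut.conj g).injective e ▸ hy
  have hYN := hmemN _ (eY_eX h)
  have hbN := hmemN _ hrel
  have hb1 : b ≠ 1 := fun e => by
    rw [e, one_mul, inv_one, mul_one] at hrel
    have := pow_injOn_Iio_orderOf (x := eX h) (show 1 ∈ Set.Iio (orderOf (eX h)) by simp [hX11])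
      (show 4 ∈ Set.Iio (orderOf (eX h)) by simp [hX11]) (by simpa using hrel)
    norm_num at this
  have hoY : orderOf (⟨eY h, hYN⟩ : N) = 5 := by
    rw [Subgroup.orderOf_mk, order_eq (by norm_num) (eY_pow h) (eY_ne h)]
  have hob : orderOf (⟨b, hbN⟩ : N) = 5 := by
    rw [Subgroup.orderOf_mk, order_eq (by norm_num) hb hb1]
  obtain ⟨m, hm⟩ : 5 ∣ Nat.card N := hoY ▸ orderOf_dvd_natCard _
  have hm5 : ¬ 5 ∣ m := by
    rintro ⟨t, rfl⟩
    have hd : 25 ∣ Nat.card (SU 6 F 2) :=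
      dvd_trans ⟨t, by rw [hm]; ring⟩ (Subgroup.card_subgroup_dvd_card N)
    rw [card_G h] at hd
    norm_num at hd
  obtain ⟨g, hg⟩ := U62Classify93.exists_conj (p := 5) (n := 1) (m := m)
    (A := Subgroup.zpowers (⟨b, hbN⟩ : N)) (B := Subgroup.zpowers (⟨eY h, hYN⟩ : N))
    (by rw [hm, pow_one]) hm5 (by rw [Nat.card_zpowers, hob, pow_one])
    (by rw [Nat.card_zpowers, hoY, pow_one])
  have hgb : g * ⟨b, hbN⟩ * g⁻¹ ∈ Subgroup.zpowers (⟨eY h, hYN⟩ : N) :=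
    hg ▸ ⟨_, Subgroup.mem_zpowers _, rfl⟩
  obtain ⟨i, hi⟩ := mem_powers_iff_mem_zpowers.2 hgb
  have hi' : eY h ^ i = (g : SU 6 F 2) * b * (g : SU 6 F 2)⁻¹ := congrArg Subtype.val hi
  have hgX : (g : SU 6 F 2) * eX h * (g : SU 6 F 2)⁻¹ ∈ Subgroup.zpowers (eX h) :=
    (Subgroup.mem_normalizer_iff.1 g.2 _).1 (Subgroup.mem_zpowers _)
  obtain ⟨k, hk⟩ := mem_powers_iff_mem_zpowers.2 hgX
  simp only at hk
  rw [pow_eq_pow_mod k (eX_pow h)] at hk
  have hk11 : k % 11 < 11 := Nat.mod_lt _ (by norm_num)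
  have hsq := square_power h hk.symm hk11
  obtain ⟨j, hj⟩ : ∃ j < 5, 4 ^ j % 11 = k % 11 := by
    revert hsq
    generalize k % 11 = r
    intro hsq
    simp only [List.mem_cons, List.not_mem_nil, or_false] at hsq
    rcases hsq with rfl | rfl | rfl | rfl | rfl <;> decide
  have hY := conj_pow_of_rel (eY_eX h) j
  have hgX' : (g : SU 6 F 2) * eX h * (g : SU 6 F 2)⁻¹ = eY h ^ j * eX h * (eY h ^ j)⁻¹ := by
    rw [hY, ← hk, ← hj.2, ← pow_eq_pow_mod _ (eX_pow h)]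
  set c := (eY h ^ j)⁻¹ * (g : SU 6 F 2) with hc
  have hcX : c * eX h * c⁻¹ = eX h := by
    rw [hc, show (eY h ^ j)⁻¹ * (g : SU 6 F 2) * eX h * ((eY h ^ j)⁻¹ * (g : SU 6 F 2))⁻¹ =
      (eY h ^ j)⁻¹ * ((g : SU 6 F 2) * eX h * (g : SU 6 F 2)⁻¹) * eY h ^ j by group, hgX']
    group
  have hcb : c * b * c⁻¹ = eY h ^ i := by
    rw [hc, show (eY h ^ j)⁻¹ * (g : SU 6 F 2) * b * ((eY h ^ j)⁻¹ * (g : SU 6 F 2))⁻¹ =
      (eY h ^ j)⁻¹ * ((g : SU 6 F 2) * b * (g : SU 6 F 2)⁻¹) * eY h ^ j by group, ← hi']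
    group
  have hact : eX h ^ (4 ^ i % 11) = eX h ^ 4 := by
    rw [← pow_eq_pow_mod _ (eX_pow h), ← conj_pow_of_rel (eY_eX h) i, ← hcb]
    calc c * b * c⁻¹ * eX h * (c * b * c⁻¹)⁻¹
        = c * b * (c⁻¹ * eX h * c) * b⁻¹ * c⁻¹ := by group
      _ = c * (b * eX h * b⁻¹) * c⁻¹ := by
          rw [show c⁻¹ * eX h * c = eX h from ?_]
          · group
          · nth_rewrite 1 [← hcX]; group
      _ = _ := by rw [hrel, ← conj_pow, hcX]
  have h4 : 4 ^ i % 11 = 4 := pow_injOn_Iio_orderOf (x := eX h)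
    (show 4 ^ i % 11 ∈ Set.Iio (orderOf (eX h)) by rw [hX11]; exact Nat.mod_lt _ (by norm_num))
    (show 4 ∈ Set.Iio (orderOf (eX h)) by simp [hX11]) hact
  have hi5 : i % 5 = 1 := by
    rw [← Nat.div_add_mod i 5, pow_add, Nat.mul_mod, pow_mul, Nat.pow_mod] at h4
    norm_num at h4
    have := Nat.mod_lt i (show 5 > 0 by norm_num)
    generalize i % 5 = r at h4 this ⊢
    interval_cases r <;> simp_all
  exact ⟨c, hcX, by rw [hcb, pow_eq_pow_mod _ (eY_pow h), hi5, pow_one]⟩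

end Cfsg.Agent.J4Coord85Conj
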