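import Mathlib
import Cfsg.Agent.Lib.GolayOutM22

/-!
Relations of the three standard elements of the Mathieu group of degree 22 and an automorphism
inverting the element of order eleven.
-/

set_option autoImplicit false

namespace Cfsg.Agent.J4M22Facts85

open Cfsg Cfsg.Agent.GolayBasic Cfsg.Agent.GolayPerm Cfsg.Agent.GolayOutTool
open Cfsg.Agent.GolayOutConst Cfsg.Agent.GolayOutDataM22 Cfsg.Agent.GolayOutM22
open Cfsg.Agent.GolayOutOuter Cfsg.Agent.GolayChain Cfsg.Agent.GolaySolve
open scoped Pointwise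

theorem eq_of_word {a b : Spor.M22} {l l' : List ℕ}
    (ha : (a : Equiv.Perm GolayPt) = (l.map permOf).prod)
    (hb : (b : Equiv.Perm GolayPt) = (l'.map permOf).prod)
    (hc : (l.all valid && l'.all valid && sameWord l l') = true) : a = b := by
  simp only [Bool.and_eq_true, List.all_eq_true] at hc
  exact Subtype.ext (by rw [ha, hb]; exact prod_eq_of_sameWord hc.1.1 hc.1.2 hc.2)

theorem coe_gT : (gT : Equiv.Perm GolayPt) = permOf pT := rfl

theorem coe_gU : (gU : Equiv.Perm GolayPt) = permOf pU := rfl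

theorem coe_gV : (gV : Equiv.Perm GolayPt) = permOf pV22 := rfl

theorem gT_pow : gT ^ 11 = 1 :=
  eq_of_word (l := List.replicate 11 pT) (l' := []) (by simp only [List.map_replicate, List.prod_replicate, Subgroup.coe_pow, coe_gT]) (by simp) (by decide +kernel)

theorem gU_pow : gU ^ 5 = 1 :=
  eq_of_word (l := List.replicate 5 pU) (l' := []) (by simp only [List.map_replicate, List.prod_replicate, Subgroup.coe_pow, coe_gU]) (by simp) (by decide +kernel)

theorem gV_pow : gV ^ 4 = 1 :=
  eq_of_word (l := List.replicate 4 pV22) (l' := []) (by simp only [List.map_replicate, List.prod_replicate, Subgroup.coe_pow, coe_gV]) (by simp) (by decide +kernel)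

theorem gT_ne : gT ≠ 1 := fun e => by
  have h : ([pT].map permOf).prod = 1 := by
    simp [← coe_gT, e]
  rw [prod_eq_one_iff (by decide +kernel)] at h
  exact absurd h (by decide +kernel)

theorem gU_ne : gU ≠ 1 := fun e => by
  have h : ([pU].map permOf).prod = 1 := by
    simp [← coe_gU, e]
  rw [prod_eq_one_iff (by decide +kernel)] at h
  exact absurd h (by decide +kernel)

theorem gU_gT : gU * gT * gU⁻¹ = gT ^ 4 := by
  rw [mul_inv_eq_iff_eq_mul]
  exact eq_of_word (l := [pU, pT]) (l' := [pT, pT, pT, pT, pU]) (by simp [coe_gT, coe_gU])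
    (by simp [coe_gT, coe_gU, pow_succ, mul_assoc]) (by decide +kernel)

theorem gV_gU : gV * gU * gV⁻¹ = gU ^ 2 := by
  rw [mul_inv_eq_iff_eq_mul]
  exact eq_of_word (l := [pV22, pU]) (l' := [pU, pU, pV22]) (by simp [coe_gV, coe_gU])
    (by simp [coe_gV, coe_gU, pow_succ, mul_assoc]) (by decide +kernel)

theorem word_eleven : (gT * gU * gV) ^ 11 = 1 :=
  eq_of_word (l := (List.replicate 11 [pT, pU, pV22]).flatten) (l' := [])
    (by simp [coe_gT, coe_gU, coe_gV, pow_succ, mul_assoc, List.replicate_succ]) (by simp)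
    (by decide +kernel)

/-- swaps the two base points and inverts the element of order eleven -/
def pS : ℕ := 23738686339186281899546858814486711

theorem exists_aut : ∃ φ : MulAut Spor.M22, φ gT = gT⁻¹ := by
  set s : Equiv.Perm GolayPt := permOf pS with hsdef
  have hv : valid pS = true := by decide +kernel
  have hs : s ∈ M24 := permOf_mem_M24 (by decide +kernel)
  have h1 : s • (none : GolayPt) = some 0 := by
    rw [← GolayM24.pt_none, ← GolayM24.pt_zero, Equiv.Perm.smul_def]
    apply idx_inj
    rw [hsdef, idx_permOf hv, idx_pt (by norm_num), idx_pt (by norm_num)]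
    decide +kernel
  have h2 : s • (some 0 : GolayPt) = none := by
    rw [← GolayM24.pt_none, ← GolayM24.pt_zero, Equiv.Perm.smul_def]
    apply idx_inj
    rw [hsdef, idx_permOf hv, idx_pt (by norm_num), idx_pt (by norm_num)]
    decide +kernel
  have hn : ∀ g, g ∈ Spor.M22 ↔ s * g * s⁻¹ ∈ Spor.M22 := by
    intro g
    have e1 : s⁻¹ • (some 0 : GolayPt) = none := inv_smul_eq_iff.2 h1.symm
    have e2 : s⁻¹ • (none : GolayPt) = some 0 := inv_smul_eq_iff.2 h2.symm
    rw [mem_iff, mem_iff]
    constructor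
    · rintro ⟨hg, a, b⟩
      exact ⟨mul_mem (mul_mem hs hg) (inv_mem hs), by rw [mul_smul, mul_smul, e2, b, h2],
        by rw [mul_smul, mul_smul, e1, a, h1]⟩
    · rintro ⟨hg, a, b⟩
      rw [mul_smul, mul_smul, smul_eq_iff_eq_inv_smul] at a b
      rw [e2] at a
      rw [e1] at b
      refine ⟨?_, b, a⟩
      simpa [mul_assoc] using mul_mem (mul_mem (inv_mem hs) hg) hs
  refine ⟨autOf s hn, Subtype.ext ?_⟩
  show s * (gT : Equiv.Perm GolayPt) * s⁻¹ = ((gT⁻¹ : Spor.M22) : Equiv.Perm GolayPt)
  rw [Subgroup.coe_inv, mul_inv_eq_iff_eq_mul, eq_inv_mul_iff_mul_eq, coe_gT, hsdef]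
  simpa [mul_assoc] using prod_eq_of_sameWord (l := [pT, pS, pT]) (l' := [pS])
    (by decide +kernel) (by decide +kernel) (by decide +kernel)

end Cfsg.Agent.J4M22Facts85
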