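import Mathlib
import Cfsg.Agent.Lib.J4Coord85Conj
import Cfsg.Agent.Lib.J4M22Facts85

/-!
A group with a fixed point free element of order three centralised by a subgroup that covers `M22`,
acting on twelve-dimensional orthogonal space: in suitable coordinates the subgroup is generated by
the three coded matrices.
-/

set_option autoImplicit false
set_option linter.unusedSectionVars false

namespace Cfsg.Agent.J4Coord85

open Cfsg Cfsg.Agent.U62Mon93 Cfsg.Agent.U62Existence93 Cfsg.Agent.LFForm89 Cfsg.Agent.LFMat89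
open Cfsg.Agent.OrthUnitaryHerm Cfsg.Agent.J4Code85 Cfsg.Agent.J4Coord85Mat
open Cfsg.Agent.J4Coord85Conj Cfsg.Agent.GolayOutM22 Cfsg.Agent.J4M22Facts85
open scoped Matrix

universe u v

variable {X : Type u} [Group X] [Finite X] {V : Type v} [AddCommGroup V]

/-- The operator of an element. -/
def op (ρ : X →* AddMonoid.End V) (g : X) : V →+ V := ρ g

/-- The hypotheses on the group and the module. -/
structure Hyp (ρ : X →* AddMonoid.End V) (q : V → ZMod 2) (n : X) (Mb : Subgroup X) : Prop where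
  fx : Fx (op ρ n) q
  faith : ∀ g, (∀ v, op ρ g v = v) → g = 1
  inv : ∀ g v, q (op ρ g v) = q v
  order_n : orderOf n = 3
  n_mem : n ∈ Mb
  comm_n : ∀ m ∈ Mb, m * n = n * m
  quot : ∃ f : Mb →* Spor.M22, Function.Surjective f ∧
    ∀ m : Mb, f m = 1 ↔ (m : X) ∈ Subgroup.zpowers n

variable {F : Type} [Field F] [Fintype F] {s : F}

/-- Coordinates for the orthogonal space over four elements. -/
structure Frame (s : F) (ρ : X →* AddMonoid.End V) (q : V → ZMod 2) (n : X)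
    (ν : (Fin 6 → F) → V) : Prop where
  bij : Function.Bijective ν
  add : ∀ u v, ν (u + v) = ν u + ν v
  form : ∀ v, (bit (q (ν v)) : F) = hermForm 6 F 2 v v
  scalar : ∀ v, op ρ n (ν v) = ν (s • v)

/-- An element acts by a matrix. -/
def Acts (ρ : X →* AddMonoid.End V) (ν : (Fin 6 → F) → V) (g : X)
    (A : Matrix (Fin 6) (Fin 6) F) : Prop :=
  ∀ v, op ρ g (ν v) = ν (A *ᵥ v)

variable {ρ : X →* AddMonoid.End V} {q : V → ZMod 2} {n : X} {ν : (Fin 6 → F) → V}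

theorem Acts.one : Acts ρ ν (1 : X) (1 : Matrix (Fin 6) (Fin 6) F) := fun v => by
  show ρ 1 (ν v) = _
  rw [map_one, Matrix.one_mulVec]; rfl

theorem Acts.mul {g k : X} {A B : Matrix (Fin 6) (Fin 6) F} (hg : Acts ρ ν g A)
    (hk : Acts ρ ν k B) : Acts ρ ν (g * k) (A * B) := fun v => by
  show ρ (g * k) (ν v) = _
  rw [map_mul, ← Matrix.mulVec_mulVec]
  show op ρ g (op ρ k (ν v)) = _
  rw [hk v, hg]

theorem Acts.unique (hν : Frame s ρ q n ν) {g : X} {A B : Matrix (Fin 6) (Fin 6) F}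
    (hA : Acts ρ ν g A) (hB : Acts ρ ν g B) : A = B :=
  Matrix.ext_of_mulVec_single fun _ => hν.bij.1 ((hA _).symm.trans (hB _))

theorem Frame.conj (hν : Frame s ρ q n ν) {B B' : Matrix (Fin 6) (Fin 6) F} (hB : IsU 2 B)
    (h1 : B * B' = 1) (h2 : B' * B = 1) :
    Frame s ρ q n (fun v => ν (B *ᵥ v)) ∧
      ∀ g A, Acts ρ ν g A → Acts ρ (fun v => ν (B *ᵥ v)) g (B' * A * B) := by
  have hbij : Function.Bijective fun v : Fin 6 → F => B *ᵥ v :=
    Function.bijective_iff_has_inverse.2 ⟨fun v => B' *ᵥ v,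
      fun v => by simp only [Matrix.mulVec_mulVec, h2, Matrix.one_mulVec],
      fun v => by simp only [Matrix.mulVec_mulVec, h1, Matrix.one_mulVec]⟩
  refine ⟨⟨hν.bij.comp hbij, fun a b => ?_, fun v => ?_, fun v => ?_⟩, fun g A hA v => ?_⟩
  · rw [Matrix.mulVec_add, hν.add]
  · rw [hν.form, hB]
  · rw [hν.scalar, Matrix.mulVec_smul]
  · show op ρ g (ν (B *ᵥ v)) = ν (B *ᵥ ((B' * A * B) *ᵥ v))
    rw [hA, Matrix.mulVec_mulVec, Matrix.mulVec_mulVec, ← mul_assoc, ← mul_assoc, h1, one_mul]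

variable {Mb : Subgroup X} (H : Hyp ρ q n Mb) {f : Mb →* Spor.M22}
  (hs : Function.Surjective f) (hk : ∀ m : Mb, f m = 1 ↔ (m : X) ∈ Subgroup.zpowers n)

include H hs hk

theorem pow_three {m : Mb} (hm : f m = 1) : m ^ 3 = 1 := by
  obtain ⟨i, hi⟩ := (hk m).1 hm
  apply Subtype.ext
  simp only at hi
  rw [SubmonoidClass.coe_pow, ← hi, ← zpow_natCast, ← zpow_mul, mul_comm, zpow_mul, zpow_natCast,
    ← H.order_n, pow_orderOf_eq_one, one_zpow, OneMemClass.coe_one]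

theorem exists_lift {g : Spor.M22} {k a : ℕ} (hg : g ^ k = 1) (ha : a % k = 1) (ha3 : a % 3 = 0) :
    ∃ m : Mb, f m = g ∧ m ^ k = 1 := by
  obtain ⟨m₀, hm₀⟩ := hs g
  refine ⟨m₀ ^ a, ?_, ?_⟩
  · rw [map_pow, hm₀, pow_eq_pow_mod a hg, ha, pow_one]
  · obtain ⟨t, ht⟩ := Nat.dvd_of_mod_eq_zero ha3
    rw [← pow_mul, ht, show 3 * t * k = k * 3 * t by ring, pow_mul, pow_mul,
      pow_three H hs hk (by rw [map_pow, hm₀, hg]), one_pow]

theorem lift_unique {m m' : Mb} {k : ℕ} (hm : m ^ k = 1) (hm' : m' ^ k = 1) (he : f m = f m')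
    (hc : Nat.Coprime k 3) : m = m' := by
  set c := m⁻¹ * m' with hcdef
  have hc1 : f c = 1 := by rw [hcdef, map_mul, map_inv, he, inv_mul_cancel]
  have hcc : Commute m c := by
    obtain ⟨i, hi⟩ := (hk c).1 hc1
    apply Subtype.ext
    simp only at hi
    show (m : X) * (c : X) = (c : X) * (m : X)
    rw [← hi]
    exact (Commute.zpow_right (H.comm_n m m.2) i)
  have hck : c ^ k = 1 := by
    have : (m * c) ^ k = 1 := by rw [hcdef, mul_inv_cancel_left, hm']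
    rwa [hcc.mul_pow, hm, one_mul] at this
  have := pow_gcd_eq_one.2 ⟨hck, pow_three H hs hk hc1⟩
  rw [hc, pow_one, hcdef, inv_mul_eq_one] at this
  exact this

theorem closure_eq {x v : Mb} (hx : f x = gT) (hv : f v = gV) :
    Subgroup.closure ({⟨n, H.n_mem⟩, x, v} : Set Mb) = ⊤ := by
  set K := Subgroup.closure ({⟨n, H.n_mem⟩, x, v} : Set Mb) with hK
  have htop : K.map f = ⊤ := by
    rw [eq_top_iff, ← closure_gens, Subgroup.closure_le]
    rintro g (rfl | rfl)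
    · exact ⟨x, Subgroup.subset_closure (by simp), hx⟩
    · exact ⟨v, Subgroup.subset_closure (by simp), hv⟩
  rw [eq_top_iff]
  intro m _
  obtain ⟨k, hkK, he⟩ : f m ∈ K.map f := htop ▸ Subgroup.mem_top _
  obtain ⟨i, hi⟩ := (hk (k⁻¹ * m)).1 (by rw [map_mul, map_inv, he, inv_mul_cancel])
  have : k⁻¹ * m ∈ K := by
    have e : k⁻¹ * m = (⟨n, H.n_mem⟩ : Mb) ^ i := Subtype.ext (by rw [← hi]; simp)
    rw [e]
    exact zpow_mem (Subgroup.subset_closure (by simp)) i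
  simpa using mul_mem hkK this

/-- The action as a homomorphism into the special unitary group. -/
theorem exists_hom (h : S4 s) (hν : Frame s ρ q n ν)
    (hmat : ∀ m : Mb, ∃ A : Matrix (Fin 6) (Fin 6) F, IsU 2 A ∧ Acts ρ ν (m : X) A) :
    ∃ Λ : Mb →* SU 6 F 2, Function.Injective Λ ∧
      (∀ m : Mb, Acts ρ ν (m : X) ((Λ m).1 : Matrix (Fin 6) (Fin 6) F)) ∧
      ((Λ ⟨n, H.n_mem⟩).1 : Matrix (Fin 6) (Fin 6) F) = matOf s cS := by
  choose Mat hMU hMA using hmat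
  have hmul : ∀ a b : Mb, Mat (a * b) = Mat a * Mat b := fun a b =>
    (hMA (a * b)).unique hν ((hMA a).mul (hMA b))
  have hone : Mat 1 = 1 := (hMA 1).unique hν Acts.one
  let detH : Mb →* F :=
    { toFun := fun m => (Mat m).det
      map_one' := by rw [hone, Matrix.det_one]
      map_mul' := fun a b => by rw [hmul, Matrix.det_mul] }
  have hn : Mat ⟨n, H.n_mem⟩ = s • (1 : Matrix (Fin 6) (Fin 6) F) := (hMA _).unique hν fun w => by
    rw [hν.scalar, Matrix.smul_mulVec, Matrix.one_mulVec]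
  obtain ⟨x, hx, hx11⟩ := exists_lift H hs hk (a := 12) gT_pow (by norm_num) (by norm_num)
  obtain ⟨v, hv, hv4⟩ := exists_lift H hs hk (a := 9) gV_pow (by norm_num) (by norm_num)
  have hcube : ∀ m : Mb, detH m ^ 3 = 1 := fun m => (hMU m).det_pow h.card'
  have hzero : ∀ (m : Mb) (k : ℕ), Nat.Coprime k 3 → m ^ k = 1 → detH m = 1 := fun m k hco hm => by
    have := pow_gcd_eq_one.2 ⟨show detH m ^ k = 1 by rw [← map_pow, hm, map_one], hcube m⟩
    rwa [hco, pow_one] at this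
  have hdet : ∀ m : Mb, detH m = 1 := by
    intro m
    have hm : m ∈ Subgroup.closure ({⟨n, H.n_mem⟩, x, v} : Set Mb) := by
      rw [closure_eq H hs hk hx hv]; trivial
    induction hm using Subgroup.closure_induction with
    | mem y hy =>
      rcases hy with rfl | rfl | rfl
      · show (Mat ⟨n, H.n_mem⟩).det = 1
        rw [hn, Matrix.det_smul, Matrix.det_one, mul_one, Fintype.card_fin,
          show s ^ 6 = 1 by rw [show 6 = 3 * 2 from rfl, pow_mul, h.cube, one_pow]]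
      · exact hzero _ 11 (by norm_num) hx11
      · exact hzero _ 4 (by norm_num) hv4
    | one => exact map_one _
    | mul a b _ _ ha hb => rw [map_mul, ha, hb, one_mul]
    | inv a _ ha =>
      have := map_mul detH a a⁻¹
      rwa [mul_inv_cancel, map_one, ha, one_mul, eq_comm] at this
  let Λ : Mb →* SU 6 F 2 := MonoidHom.mk' (fun m => mkSU (Mat m) (hdet m) (hMU m))
    fun a b => su_ext (hmul a b)
  refine ⟨Λ, (injective_iff_map_eq_one Λ).2 fun m hm => Subtype.ext (H.faith _ fun w => ?_),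
    fun m => hMA m, by rw [matOf_scalar h]; exact hn⟩
  obtain ⟨u, rfl⟩ := hν.bij.2 w
  have e : Mat m = 1 := congrArg (fun a : SU 6 F 2 => (a.1 : Matrix (Fin 6) (Fin 6) F)) hm
  rw [hMA m, e, Matrix.one_mulVec]

omit hs hk

/-- Coordinates in which the cover of `M22` is generated by the coded matrices. -/
theorem exists_coord (h : S4 s) :
    ∃ (ν : (Fin 6 → F) → V) (f : Mb →* Spor.M22) (x y v : Mb), Frame s ρ q n ν ∧
      Function.Surjective f ∧ (∀ m : Mb, f m = 1 ↔ (m : X) ∈ Subgroup.zpowers n) ∧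
      f x = gT ∧ f y = gU ∧ f v = gV ∧ x ^ 11 = 1 ∧ y ^ 5 = 1 ∧ v ^ 4 = 1 ∧
      Acts ρ ν (x : X) (matOf s cX) ∧ Acts ρ ν (y : X) (matOf s cY) ∧
      Acts ρ ν (v : X) (matOf s cV) ∧ Acts ρ ν n (matOf s cS) ∧
      Subgroup.closure ({n, (x : X), (v : X)} : Set X) = Mb := by
  obtain ⟨f₀, hs₀, hk₀⟩ := H.quot
  obtain ⟨e, he1, he2⟩ := H.fx.exists_orth 6 le_rfl
  have he : Basis6 (op ρ n) q e := ⟨he1, he2⟩
  set ν₀ := nu (op ρ n) s e with hν₀def
  have hν₀ : Frame s ρ q n ν₀ := by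
    refine ⟨nu_bijective H.fx h he, nu_add H.fx h, q_nu H.fx h he, fun w => ?_⟩
    rw [hν₀def, nu_smul H.fx h, act_s h]
  have hmat : ∀ m : Mb, ∃ A : Matrix (Fin 6) (Fin 6) F, IsU 2 A ∧ Acts ρ ν₀ (m : X) A := fun m => by
    obtain ⟨A, hA, hU⟩ := exists_matrix H.fx h he (op ρ (m : X)) (H.inv _) fun w => by
      show ρ (m : X) (ρ n w) = ρ n (ρ (m : X) w)
      have := congrArg (fun g => ρ g w) (H.comm_n m m.2)
      simp only [map_mul] at this
      exact this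
    exact ⟨A, hU, hA⟩
  obtain ⟨Λ, hΛi, hΛa, hΛn⟩ := exists_hom H hs₀ hk₀ h hν₀ hmat
  have hne : ∀ (f : Mb →* Spor.M22) (m : Mb) (g : Spor.M22), f m = g → g ≠ 1 → Λ m ≠ 1 :=
    fun f m g hm hg e => hg (by
      have hm1 : m = 1 := hΛi (e.trans (map_one Λ).symm)
      rw [← hm, hm1, map_one])
  -- choose the isomorphism so that the lift of the element of order eleven is conjugate to the coded one
  obtain ⟨f, hs, hk, x, hx, hx11, B₁, hB₁⟩ : ∃ f : Mb →* Spor.M22, Function.Surjective f ∧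
      (∀ m : Mb, f m = 1 ↔ (m : X) ∈ Subgroup.zpowers n) ∧ ∃ x : Mb, f x = gT ∧ x ^ 11 = 1 ∧
      ∃ B : SU 6 F 2, B * Λ x * B⁻¹ = eX h := by
    obtain ⟨x, hx, hx11⟩ := exists_lift H hs₀ hk₀ (a := 12) gT_pow (by norm_num) (by norm_num)
    obtain ⟨B, hB | hB⟩ := exists_conj_eleven h (a := Λ x) (by rw [← map_pow, hx11, map_one])
      (hne f₀ x gT hx gT_ne)
    · exact ⟨f₀, hs₀, hk₀, x, hx, hx11, B, hB⟩
    · obtain ⟨φ, hφ⟩ := exists_aut
      refine ⟨φ.toMonoidHom.comp f₀, φ.surjective.comp hs₀, fun m => ?_, x⁻¹, ?_, ?_, B, ?_⟩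
      · rw [← hk₀ m]; exact φ.map_eq_one_iff
      · show φ (f₀ x⁻¹) = gT
        rw [map_inv, hx, map_inv, hφ, inv_inv]
      · rw [inv_pow, hx11, inv_one]
      · rwa [map_inv]
  obtain ⟨y, hy, hy5⟩ := exists_lift H hs hk (a := 6) gU_pow (by norm_num) (by norm_num)
  obtain ⟨v, hv, hv4⟩ := exists_lift H hs hk (a := 9) gV_pow (by norm_num) (by norm_num)
  have ryx : y * x * y⁻¹ = x ^ 4 := lift_unique H hs hk (k := 11)
    (by rw [conj_pow, hx11, mul_one, mul_inv_cancel])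
    (by rw [← pow_mul, mul_comm, pow_mul, hx11, one_pow])
    (by rw [map_mul, map_mul, map_inv, map_pow, hx, hy, gU_gT]) (by norm_num)
  have rvy : v * y * v⁻¹ = y ^ 2 := lift_unique H hs hk (k := 5)
    (by rw [conj_pow, hy5, mul_one, mul_inv_cancel])
    (by rw [← pow_mul, mul_comm, pow_mul, hy5, one_pow])
    (by rw [map_mul, map_mul, map_inv, map_pow, hy, hv, gV_gU]) (by norm_num)
  set Λ₁ : Mb →* SU 6 F 2 := (MulAut.conj B₁).toMonoidHom.comp Λ with hΛ₁
  have hx₁ : Λ₁ x = eX h := hB₁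
  have hy₁ : Λ₁ y * eX h * (Λ₁ y)⁻¹ = eX h ^ 4 := by
    rw [← hx₁, ← map_inv, ← map_mul, ← map_mul, ryx, map_pow]
  obtain ⟨c, hcX, hcY⟩ := exists_conj_five h (b := Λ₁ y) (by rw [← map_pow, hy5, map_one]) hy₁
  set B₂ := c * B₁ with hB₂
  set Λ₂ : Mb →* SU 6 F 2 := (MulAut.conj B₂).toMonoidHom.comp Λ with hΛ₂
  have hΛ₂e : ∀ m, Λ₂ m = c * Λ₁ m * c⁻¹ := fun m => by
    show c * B₁ * Λ m * (c * B₁)⁻¹ = c * (B₁ * Λ m * B₁⁻¹) * c⁻¹
    group
  have hx₂ : Λ₂ x = eX h := by rw [hΛ₂e, hx₁, hcX]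
  have hy₂ : Λ₂ y = eY h := by rw [hΛ₂e, hcY]
  have co : ∀ a b : SU 6 F 2, ((a * b).1 : Matrix (Fin 6) (Fin 6) F) =
      (a.1 : Matrix (Fin 6) (Fin 6) F) * (b.1 : Matrix (Fin 6) (Fin 6) F) := fun a b => rfl
  set A := ((Λ₂ v).1 : Matrix (Fin 6) (Fin 6) F) with hAdef
  obtain ⟨D, D', hDU, hD1, hD2, hDX, hDY, hAD⟩ := exists_last h (A := A) (isU_of_mem_SU _)
    (by rw [hAdef, ← su_pow, ← map_pow, hv4, map_one]; rfl)
    (by
      have e : Λ₂ v * eY h = eY h ^ 2 * Λ₂ v := by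
        rw [← hy₂, ← map_pow, ← map_mul, ← map_mul, ← rvy, inv_mul_cancel_right]
      have := congrArg (fun a : SU 6 F 2 => (a.1 : Matrix (Fin 6) (Fin 6) F)) e
      simp only [co, su_pow] at this
      exact this)
    (by
      have h1 : f ((x * y * v) ^ 11) = 1 := by
        rw [map_pow, map_mul, map_mul, hx, hy, hv, word_eleven]
      obtain ⟨i, hi⟩ := mem_powers_iff_mem_zpowers.2 ((hk _).1 h1)
      refine ⟨i % 3, Nat.mod_lt _ (by norm_num), ?_⟩
      have hi' : (x * y * v) ^ 11 = (⟨n, H.n_mem⟩ : Mb) ^ (i % 3) := Subtype.ext (by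
        rw [← hi, SubmonoidClass.coe_pow]
        show n ^ i = n ^ (i % 3)
        exact pow_eq_pow_mod i (H.order_n ▸ pow_orderOf_eq_one n))
      have e : (eX h * eY h * Λ₂ v) ^ 11 = Λ₂ ⟨n, H.n_mem⟩ ^ (i % 3) := by
        rw [← hx₂, ← hy₂, ← map_mul, ← map_mul, ← map_pow, hi', map_pow]
      have := congrArg (fun a : SU 6 F 2 => (a.1 : Matrix (Fin 6) (Fin 6) F)) e
      simp only [su_pow, co] at this
      refine this.trans ?_
      congr 1
      show ((B₂ * Λ ⟨n, H.n_mem⟩ * B₂⁻¹).1 : Matrix (Fin 6) (Fin 6) F) = _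
      rw [co, co, hΛn, matOf_scalar h, Matrix.mul_smul, mul_one, Matrix.smul_mul, ← co,
        mul_inv_cancel]
      rfl)
  -- the final coordinates
  have hcB : IsU 2 ((B₂⁻¹).1 : Matrix (Fin 6) (Fin 6) F) := isU_of_mem_SU _
  obtain ⟨hν₁, hact₁⟩ := hν₀.conj (B := ((B₂⁻¹).1 : Matrix (Fin 6) (Fin 6) F))
    (B' := (B₂.1 : Matrix (Fin 6) (Fin 6) F)) hcB
    (by rw [← co, inv_mul_cancel]; rfl) (by rw [← co, mul_inv_cancel]; rfl)
  have hact₂ : ∀ m : Mb, Acts ρ (fun w => ν₀ (((B₂⁻¹).1 : Matrix (Fin 6) (Fin 6) F) *ᵥ w)) (m : X)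
      ((Λ₂ m).1 : Matrix (Fin 6) (Fin 6) F) := fun m => by
    have := hact₁ _ _ (hΛa m)
    rwa [← co, ← co] at this
  obtain ⟨hν₂, hact₃⟩ := hν₁.conj hDU hD1 hD2
  refine ⟨_, f, x, y, v, hν₂, hs, hk, hx, hy, hv, hx11, hy5, hv4, ?_, ?_, ?_, ?_, ?_⟩
  · have := hact₃ _ _ (hact₂ x)
    rw [hx₂] at this
    change Acts ρ _ _ (D' * matOf s cX * D) at this
    rwa [mul_assoc, ← hDX, ← mul_assoc, hD2, one_mul] at this
  · have := hact₃ _ _ (hact₂ y)
    rw [hy₂] at this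
    change Acts ρ _ _ (D' * matOf s cY * D) at this
    rwa [mul_assoc, ← hDY, ← mul_assoc, hD2, one_mul] at this
  · have := hact₃ _ _ (hact₂ v)
    rw [← hAdef, hAD] at this
    rwa [mul_assoc D, ← mul_assoc D', hD2, one_mul, mul_assoc, hD2, mul_one] at this
  · intro w
    rw [hν₂.scalar, matOf_scalar h, Matrix.smul_mulVec, Matrix.one_mulVec]
  · have := congrArg (Subgroup.map Mb.subtype) (closure_eq H hs hk hx hv)
    rw [MonoidHom.map_closure, ← MonoidHom.range_eq_map, Subgroup.range_subtype] at this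
    simpa [Set.image_insert_eq] using this

end Cfsg.Agent.J4Coord85
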