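import Mathlib
import Cfsg.Agent.Lib.J4Check18
import Cfsg.Agent.Lib.J4Coord85
import Cfsg.Agent.Lib.FischerFrameSetting18

/-!
A Sylow 2-subgroup of the triple cover of `M22` acting on twelve-dimensional orthogonal space, its
elementary abelian subgroups, the bound for an elementary abelian subgroup with a fixed totally
singular subspace, and the normaliser of the first subgroup of order 16 on its fixed space.
-/

set_option autoImplicit false
set_option linter.unusedSectionVars false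
set_option linter.style.haveILetI false
set_option maxHeartbeats 1000000

namespace Cfsg.Agent.J4Syl18

open Cfsg Cfsg.Agent.U62Mon93 Cfsg.Agent.U62Existence93 Cfsg.Agent.LFForm89 Cfsg.Agent.LFMat89
open Cfsg.Agent.OrthUnitaryHerm Cfsg.Agent.J4Data18 Cfsg.Agent.J4Check18
open Cfsg.Agent.J4Coord85 (Hyp Frame Acts op)
open Cfsg.Agent.LFCheck89 (dig scal sel col app mulM idM qpar allBelow allBelow_spec mem)
open scoped Matrix

universe u v

theorem mem_iff {x : ℕ} {l : List ℕ} : mem x l = true ↔ x ∈ l := by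
  simp [mem, List.any_eq_true, Nat.beq_eq]

theorem eOne_list : eOne.length = 16 ∧ eOne.Nodup ∧ (∀ i ∈ eOne, i < 128) := eOne_facts.2

theorem eTwo_list : eTwo.length = 16 ∧ eTwo.Nodup ∧ (∀ i ∈ eTwo, i < 128) := eTwo_facts

theorem eOne_closed : ∀ i ∈ eOne, tab i i = 0 ∧ ∀ j ∈ eOne, tab i j ∈ eOne ∧ tab i j = tab j i :=
  eOne_facts.1

theorem eTwo_closed : ∀ i ∈ eTwo, i < 128 := eTwo_list.2.2

theorem mem_eOne {i : ℕ} : i ∈ eOne ↔ i < 16 := List.mem_range

theorem eOne_zero : 0 ∈ eOne ∧ (1 : ℕ) ∈ eOne := ⟨mem_eOne.2 (by norm_num), mem_eOne.2 (by norm_num)⟩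

section Codes

variable {F : Type} [Field F] [Fintype F] {s : F}

theorem el_mul (h : S4 s) : ∀ j < 128, ∀ i < 128,
    tab i j < 128 ∧ matOf s (el i) * matOf s (el j) = matOf s (el (tab i j)) := by
  intro j
  induction j using Nat.strong_induction_on with
  | _ j ih =>
    intro hj i hi
    have ht : ∀ a b, tab a b < 128 := fun a b => by
      show (_ &&& 127) < 128
      exact Nat.lt_succ_of_le Nat.and_le_right
    refine ⟨ht _ _, ?_⟩
    have hstep := allBelow_spec tabStep_ok i hi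
    simp only [Bool.and_eq_true, Nat.beq_eq] at hstep
    rcases Nat.eq_zero_or_pos j with rfl | hpos
    · rw [hstep.1, el_zero, matOf_id h, mul_one]
    · obtain ⟨k, hk1, hk2⟩ : ∃ k, 2 ^ k ≤ j ∧ j < 2 ^ (k + 1) :=
        ⟨Nat.log 2 j, Nat.pow_log_le_self 2 hpos.ne', Nat.lt_pow_succ_log_self one_lt_two j⟩
      have hk : k < 7 := (Nat.pow_lt_pow_iff_right (by norm_num : 1 < 2)).1
        (lt_of_le_of_lt hk1 (show j < 2 ^ 7 from hj))
      obtain ⟨j', rfl⟩ := Nat.exists_eq_add_of_le hk1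
      have hj' : j' < 2 ^ k := by rw [pow_succ] at hk2; omega
      have e1 := allBelow_spec (allBelow_spec elStep_ok k hk) j' hj'
      have e2 := allBelow_spec hstep.2 k hk
      simp only [Bool.and_eq_true, Nat.beq_eq] at e1 e2
      have e3 := allBelow_spec e2.2 j' hj'
      simp only [Nat.beq_eq] at e3
      have hp : 0 < 2 ^ k := Nat.two_pow_pos k
      rw [e1, matOf_mul h, ← mul_assoc, ← matOf_mul h, e2.1, e3]
      exact (ih j' (by omega) (by omega) _ (ht _ _)).2

theorem el_inj (h : S4 s) {i j : ℕ} (hi : i < 128) (hj : j < 128)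
    (e : matOf s (el i) = matOf s (el j)) : i = j := by
  have he := matOf_inj h (J4Check18.el_bound i hi) (J4Check18.el_bound j hj) e
  by_contra hne
  rcases Nat.lt_or_gt_of_ne hne with hl | hl
  · have := allBelow_spec (allBelow_spec elDistinct_ok j hj) i hl
    simp [he] at this
  · have := allBelow_spec (allBelow_spec elDistinct_ok i hi) j hl
    simp [he] at this


end Codes

variable {X : Type u} [Group X] [Finite X] {V : Type v} [AddCommGroup V]
variable {F : Type} [Field F] [Fintype F] {s : F}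

/-- Coordinates in which the coded generators act. -/
structure Coord (h : S4 s) (ρ : X →* AddMonoid.End V) (q : V → ZMod 2) (n : X) (Mb : Subgroup X)
    (ν : (Fin 6 → F) → V) : Prop where
  bij : Function.Bijective ν
  add : ∀ u v, ν (u + v) = ν u + ν v
  form : ∀ v, (bit (q (ν v)) : F) = hermForm 6 F 2 v v
  scalar : ∀ v, op ρ n (ν v) = ν (s • v)
  gens : ∀ k < 4, ∃ g ∈ Mb, Acts ρ ν g (matOf s (genC.getD k 0))
  generate : Subgroup.closure {g | g ∈ Mb ∧ ∃ k < 4, Acts ρ ν g (matOf s (genC.getD k 0))} = Mb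

theorem exists_coord {ρ : X →* AddMonoid.End V} {q : V → ZMod 2} {n : X} {Mb : Subgroup X}
    (H : Hyp ρ q n Mb) (h : S4 s) :
    ∃ ν : (Fin 6 → F) → V, Coord h ρ q n Mb ν := by
  obtain ⟨ν, f, x, y, v, hν, -, -, -, -, -, -, -, -, aX, aY, aV, aS, hgen⟩ :=
    J4Coord85.exists_coord H h
  refine ⟨ν, hν.bij, hν.add, hν.form, hν.scalar, fun k hk => ?_, ?_⟩
  · rw [genC_eq]
    interval_cases k
    · exact ⟨x, x.2, aX⟩
    · exact ⟨y, y.2, aY⟩
    · exact ⟨v, v.2, aV⟩
    · exact ⟨n, H.n_mem, aS⟩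
  · refine le_antisymm ((Subgroup.closure_le _).2 fun g hg => hg.1) ?_
    refine hgen.symm.le.trans (Subgroup.closure_mono ?_)
    rw [genC_eq]
    rintro g (rfl | rfl | rfl)
    · exact ⟨H.n_mem, 3, by norm_num, aS⟩
    · exact ⟨x.2, 0, by norm_num, aX⟩
    · exact ⟨v.2, 2, by norm_num, aV⟩

variable {h : S4 s} {ρ : X →* AddMonoid.End V} {q : V → ZMod 2} {n : X} {Mb : Subgroup X}
variable {ν : (Fin 6 → F) → V}

theorem rho_mul (ρ : X →* AddMonoid.End V) (g g' : X) (v : V) :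
    op ρ (g * g') v = op ρ g (op ρ g' v) := by
  show ρ (g * g') v = ρ g (ρ g' v)
  rw [map_mul]; rfl

theorem rho_one (ρ : X →* AddMonoid.End V) (v : V) : op ρ 1 v = v := by
  show ρ 1 v = v
  rw [map_one]; rfl

/-- The vector of a code in the module. -/
def nc (s : F) (ν : (Fin 6 → F) → V) (c : ℕ) : V := ν (vec s c)

open scoped Classical in
/-- The element with the given index of the Sylow subgroup. -/
noncomputable def tau (s : F) (ρ : X →* AddMonoid.End V) (ν : (Fin 6 → F) → V) (i : ℕ) : X :=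
  if hx : ∃ g, Acts ρ ν g (matOf s (el i)) then hx.choose else 1

/-- The conjugate of a subgroup. -/
abbrev cj (g : X) (B : Subgroup X) : Subgroup X := B.map (MulAut.conj g).toMonoidHom

theorem mem_cj_of {g b : X} {B : Subgroup X} (hb : b ∈ B) : g * b * g⁻¹ ∈ cj g B :=
  ⟨b, hb, rfl⟩

theorem card_cj (g : X) (B : Subgroup X) : Nat.card (cj g B) = Nat.card B :=
  Subgroup.card_map_of_injective (MulAut.conj g).injective

section

variable (H : Hyp ρ q n Mb) (C : Coord h ρ q n Mb ν)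
include H C

theorem nc_inj {a b : ℕ} (ha : a < 4096) (hb : b < 4096) (e : nc s ν a = nc s ν b) : a = b :=
  vec_inj h ha hb (C.bij.1 e)

theorem exists_nc (v : V) : ∃ c < 4096, nc s ν c = v := by
  obtain ⟨w, rfl⟩ := C.bij.2 v
  obtain ⟨c, hc, rfl⟩ := exists_vec h w
  exact ⟨c, hc, rfl⟩

theorem nc_zero : nc s ν 0 = 0 := by
  have e := C.add 0 0
  rw [add_zero] at e
  show ν (vec s 0) = 0
  rw [vec_zero]
  exact add_eq_left.1 e.symm

theorem q_nc (c : ℕ) : q (nc s ν c) = if qpar c then 1 else 0 := by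
  refine bit_inj (F := F) ?_
  rw [nc, C.form, qpar_eq h]
  cases qpar c <;> simp [bit]

theorem ext_op {x y : X} (e : ∀ v, op ρ x (ν v) = op ρ y (ν v)) : x = y := by
  refine (mul_inv_eq_one.1 (H.faith (x * y⁻¹) fun w => ?_))
  obtain ⟨v, hv⟩ := C.bij.2 (op ρ y⁻¹ w)
  rw [rho_mul, ← hv, e, hv, ← rho_mul, mul_inv_cancel, rho_one]

theorem op_inv_op (g : X) (v : V) : op ρ g⁻¹ (op ρ g v) = v := by
  rw [← rho_mul, inv_mul_cancel, rho_one]

theorem acts_nc {g : X} {m : ℕ} (hg : Acts ρ ν g (matOf s m)) (c : ℕ) :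
    op ρ g (nc s ν c) = nc s ν (app m c) := by
  rw [nc, hg, nc, vec_app h]

theorem exists_word {w : List ℕ} (hw : w.all (fun x => Nat.blt x 4) = true) :
    ∃ g ∈ Mb, Acts ρ ν g (matOf s (word w)) := by
  induction w with
  | nil =>
    exact ⟨1, one_mem _, fun v => by rw [rho_one, word, List.foldr_nil, matOf_id h, Matrix.one_mulVec]⟩
  | cons k w ih =>
    rw [List.all_cons, Bool.and_eq_true, Nat.blt_eq] at hw
    obtain ⟨g, hg, e⟩ := ih hw.2
    obtain ⟨a, ha, ea⟩ := C.gens k hw.1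
    refine ⟨a * g, mul_mem ha hg, fun v => ?_⟩
    show _ = ν (matOf s (mulM (genC.getD k 0) (word w)) *ᵥ v)
    rw [matOf_mul h, rho_mul, e, ea, Matrix.mulVec_mulVec]

theorem exists_el : ∀ i < 128, ∃ g ∈ Mb, Acts ρ ν g (matOf s (el i)) := by
  intro i
  induction i using Nat.strong_induction_on with
  | _ i ih =>
    intro hi
    rcases Nat.eq_zero_or_pos i with rfl | hpos
    · exact ⟨1, one_mem _, fun v => by rw [el_zero, matOf_id h, Matrix.one_mulVec, rho_one]⟩
    · obtain ⟨k, hk1, hk2⟩ : ∃ k, 2 ^ k ≤ i ∧ i < 2 ^ (k + 1) :=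
        ⟨Nat.log 2 i, Nat.pow_log_le_self 2 hpos.ne', Nat.lt_pow_succ_log_self one_lt_two i⟩
      have hk : k < 7 := (Nat.pow_lt_pow_iff_right (by norm_num : 1 < 2)).1
        (lt_of_le_of_lt hk1 (show i < 2 ^ 7 from hi))
      obtain ⟨j, rfl⟩ := Nat.exists_eq_add_of_le hk1
      have hj : j < 2 ^ k := by rw [pow_succ] at hk2; omega
      obtain ⟨a, ha, ea⟩ := ih j (by have := Nat.two_pow_pos k; omega) (by omega)
      obtain ⟨hw1, hw2⟩ := sylWord_ok k hk
      obtain ⟨b, hb, eb⟩ := exists_word H C hw1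
      refine ⟨b * a, mul_mem hb ha, fun v => ?_⟩
      rw [Nat.eq_of_beq_eq_true (allBelow_spec (allBelow_spec elStep_ok k hk) j hj), matOf_mul h,
        rho_mul, ea, eb, hw2, Matrix.mulVec_mulVec]

theorem op_tau {i : ℕ} (hi : i < 128) (v : Fin 6 → F) :
    op ρ (tau s ρ ν i) (ν v) = ν (matOf s (el i) *ᵥ v) := by
  obtain ⟨g, -, e⟩ := exists_el H C i hi
  have hx : ∃ g, Acts ρ ν g (matOf s (el i)) := ⟨g, e⟩
  rw [tau, dif_pos hx]
  exact hx.choose_spec v

theorem op_tau_nc {i : ℕ} (hi : i < 128) (c : ℕ) :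
    op ρ (tau s ρ ν i) (nc s ν c) = nc s ν (app (el i) c) :=
  acts_nc H C (op_tau H C hi) c

theorem tau_mem {i : ℕ} (hi : i < 128) : tau s ρ ν i ∈ Mb := by
  obtain ⟨g, hg, e⟩ := exists_el H C i hi
  rwa [show tau s ρ ν i = g from ext_op H C fun v => (op_tau H C hi v).trans (e v).symm]

theorem tau_mul {i j : ℕ} (hi : i < 128) (hj : j < 128) :
    tab i j < 128 ∧ tau s ρ ν i * tau s ρ ν j = tau s ρ ν (tab i j) := by
  obtain ⟨ht, e⟩ := el_mul h j hj i hi
  refine ⟨ht, ext_op H C fun v => ?_⟩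
  rw [rho_mul, op_tau H C hj, op_tau H C hi, op_tau H C ht, Matrix.mulVec_mulVec, e]

theorem tau_inj {i j : ℕ} (hi : i < 128) (hj : j < 128) (e : tau s ρ ν i = tau s ρ ν j) : i = j := by
  refine el_inj h hi hj (Matrix.ext_of_mulVec_single fun k => C.bij.1 ?_)
  rw [← op_tau H C hi, ← op_tau H C hj, e]

theorem tau_zero : tau s ρ ν 0 = 1 := ext_op H C fun v => by
  rw [op_tau H C (by norm_num), el_zero, matOf_id h, Matrix.one_mulVec, rho_one]

theorem card_Mb : Nat.card Mb = 1330560 := by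
  obtain ⟨φ, φsurj, φker⟩ := H.quot
  have hk : φ.ker = (Subgroup.zpowers n).subgroupOf Mb := by
    ext m
    rw [MonoidHom.mem_ker, Subgroup.mem_subgroupOf]
    exact φker m
  rw [Subgroup.card_eq_card_quotient_mul_card_subgroup φ.ker,
    Nat.card_congr (QuotientGroup.quotientKerEquivOfSurjective φ φsurj).toEquiv,
    GolayM24.card_M22, hk,
    Nat.card_congr (Subgroup.subgroupOfEquivOfLe (Subgroup.zpowers_le.2 H.n_mem)).toEquiv,
    Nat.card_zpowers, H.order_n]

end

/-- The Sylow 2-subgroup of the model. -/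
def T0 (H : Hyp ρ q n Mb) (C : Coord h ρ q n Mb ν) : Subgroup X where
  carrier := {x | ∃ i < 128, x = tau s ρ ν i}
  one_mem' := ⟨0, by norm_num, (tau_zero H C).symm⟩
  mul_mem' := fun {a b} ⟨i, hi, ea⟩ ⟨j, hj, eb⟩ =>
    ⟨_, (tau_mul H C hi hj).1, by rw [ea, eb, (tau_mul H C hi hj).2]⟩
  inv_mem' := fun {a} ⟨i, hi, ea⟩ => by
    have hpow : ∀ k : ℕ, ∃ j < 128, a ^ k = tau s ρ ν j := by
      intro k
      induction k with
      | zero => exact ⟨0, by norm_num, by rw [pow_zero, tau_zero H C]⟩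
      | succ k ih =>
        obtain ⟨j, hj, e⟩ := ih
        exact ⟨_, (tau_mul H C hj hi).1, by rw [pow_succ, e, ea, (tau_mul H C hj hi).2]⟩
    have he : a⁻¹ = a ^ (orderOf a - 1) := by
      rw [inv_eq_iff_mul_eq_one, ← pow_succ', Nat.sub_add_cancel (orderOf_pos a), pow_orderOf_eq_one]
    obtain ⟨j, hj, e⟩ := hpow (orderOf a - 1)
    exact ⟨j, hj, by rw [he, e]⟩

section

variable (H : Hyp ρ q n Mb) (C : Coord h ρ q n Mb ν)
include H C

theorem T0_le : T0 H C ≤ Mb := by
  rintro _ ⟨i, hi, rfl⟩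
  exact tau_mem H C hi

theorem card_T0 : Nat.card (T0 H C) = 128 := by
  let f : Fin 128 → T0 H C := fun i => ⟨tau s ρ ν i, i, i.2, rfl⟩
  rw [← Nat.card_congr (Equiv.ofBijective f ⟨fun a b e => Fin.ext (tau_inj H C a.2 b.2 (congrArg Subtype.val e)),
    fun x => by obtain ⟨i, hi, e⟩ := x.2; exact ⟨⟨i, hi⟩, Subtype.ext e.symm⟩⟩), Nat.card_fin]


/-- Every 2-subgroup of the subgroup of index two is conjugate into the Sylow subgroup. -/
theorem exists_conj_T0 {P : Subgroup X} (hP : P ≤ Mb) (h2 : IsPGroup 2 P) :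
    ∃ g ∈ Mb, cj g P ≤ T0 H C := by
  haveI : Fact (Nat.Prime 2) := ⟨Nat.prime_two⟩
  have hfac : (Nat.card Mb).factorization 2 = 7 := by
    rw [card_Mb H C, show (1330560 : ℕ) = 2 ^ 7 * 10395 by norm_num,
      Nat.factorization_mul (by norm_num) (by norm_num), Finsupp.add_apply,
      Nat.prime_two.factorization_pow, Finsupp.single_eq_same,
      Nat.factorization_eq_zero_of_not_dvd (by norm_num : ¬ 2 ∣ 10395), add_zero]
  let T : Sylow 2 Mb := Sylow.ofCard ((T0 H C).subgroupOf Mb) (by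
    rw [Nat.card_congr (Subgroup.subgroupOfEquivOfLe (T0_le H C)).toEquiv, card_T0 H C, hfac]; rfl)
  have hPp : IsPGroup 2 (P.subgroupOf Mb) :=
    h2.of_equiv (Subgroup.subgroupOfEquivOfLe hP).symm
  obtain ⟨S, hS⟩ := hPp.exists_le_sylow
  obtain ⟨g, hg⟩ := MulAction.exists_smul_eq Mb S T
  refine ⟨g, g.2, ?_⟩
  rintro _ ⟨x, hx, rfl⟩
  have h1 : g * ⟨x, hP hx⟩ * g⁻¹ ∈ (g • S : Sylow 2 Mb) :=
    ⟨⟨x, hP hx⟩, hS hx, rfl⟩
  rw [hg] at h1
  exact h1

/-! ### Elementary abelian subgroups of order 16 in the Sylow subgroup -/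

/-- Index sets of elementary abelian subgroups. -/
structure EI (s : F) (ρ : X →* AddMonoid.End V) (ν : (Fin 6 → F) → V) (IB : Finset ℕ) : Prop where
  bound : ∀ i ∈ IB, i < 128
  zero : 0 ∈ IB
  sq : ∀ i ∈ IB, tau s ρ ν i * tau s ρ ν i = 1
  comm : ∀ i ∈ IB, ∀ j ∈ IB, tau s ρ ν i * tau s ρ ν j = tau s ρ ν j * tau s ρ ν i
  tab_mem : ∀ i ∈ IB, ∀ j ∈ IB, tab i j ∈ IB

omit H C in
/-- A sublist closed under the table. -/
def Sub (IB : Finset ℕ) (l : List ℕ) : Prop :=
  l.Nodup ∧ 0 ∈ l ∧ (∀ x ∈ l, x ∈ IB) ∧ ∀ x ∈ l, ∀ y ∈ l, tab x y ∈ l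

theorem sub_grow {IB : Finset ℕ} (hI : EI s ρ ν IB) {l : List ℕ} (hl : Sub IB l) {d : ℕ}
    (hd : d ∈ IB) (hdl : d ∉ l) :
    Sub IB (span l d) ∧ (span l d).length = 2 * l.length ∧ d ∈ span l d := by
  obtain ⟨hnd, h0, hsub, hcl⟩ := hl
  have hb : ∀ x ∈ l, x < 128 := fun x hx => hI.bound x (hsub x hx)
  have hdb := hI.bound d hd
  have tm : ∀ {a b}, a < 128 → b < 128 → tau s ρ ν (tab a b) = tau s ρ ν a * tau s ρ ν b :=
    fun ha hb => (tau_mul H C ha hb).2.symm
  have tl : ∀ {a b}, a < 128 → b < 128 → tab a b < 128 := fun ha hb => (tau_mul H C ha hb).1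
  have hd0 : tab d 0 = d := tau_inj H C (tl hdb (by norm_num)) hdb
    (by rw [tm hdb (by norm_num), tau_zero H C, mul_one])
  refine ⟨⟨?_, List.mem_append_left _ h0, ?_, ?_⟩, by simp [span, two_mul], ?_⟩
  · rw [span, List.nodup_append]
    refine ⟨hnd, List.Nodup.map_on (fun x hx y hy e => ?_) hnd, fun a ha b hb' hab => ?_⟩
    · refine tau_inj H C (hb x hx) (hb y hy) (mul_left_cancel (a := tau s ρ ν d) ?_)
      rw [← tm hdb (hb x hx), ← tm hdb (hb y hy), e]
    · obtain ⟨x, hx, rfl⟩ := List.mem_map.1 hb'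
      subst hab
      refine hdl ?_
      have h1 := hcl _ ha x hx
      convert h1 using 1
      refine tau_inj H C hdb (tl (tl hdb (hb x hx)) (hb x hx)) ?_
      rw [tm (tl hdb (hb x hx)) (hb x hx), tm hdb (hb x hx), mul_assoc, hI.sq x (hsub x hx), mul_one]
  · intro x hx
    rcases List.mem_append.1 hx with hx | hx
    · exact hsub x hx
    · obtain ⟨y, hy, rfl⟩ := List.mem_map.1 hx
      exact hI.tab_mem d hd y (hsub y hy)
  · have key : ∀ x ∈ l, ∀ y ∈ l, tab x (tab d y) = tab d (tab x y) ∧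
        tab (tab d x) y = tab d (tab x y) ∧ tab (tab d x) (tab d y) = tab x y := by
      intro x hx y hy
      have hc := hI.comm x (hsub x hx) d hd
      have hx' := hb x hx
      have hy' := hb y hy
      refine ⟨tau_inj H C (tl hx' (tl hdb hy')) (tl hdb (tl hx' hy')) ?_,
        tau_inj H C (tl (tl hdb hx') hy') (tl hdb (tl hx' hy')) ?_,
        tau_inj H C (tl (tl hdb hx') (tl hdb hy')) (tl hx' hy') ?_⟩
      · rw [tm hx' (tl hdb hy'), tm hdb hy', tm hdb (tl hx' hy'), tm hx' hy', ← mul_assoc, hc,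
          mul_assoc]
      · rw [tm (tl hdb hx') hy', tm hdb hx', tm hdb (tl hx' hy'), tm hx' hy', mul_assoc]
      · rw [tm (tl hdb hx') (tl hdb hy'), tm hdb hx', tm hdb hy', tm hx' hy',
          show tau s ρ ν d * tau s ρ ν x * (tau s ρ ν d * tau s ρ ν y) =
            tau s ρ ν d * (tau s ρ ν x * tau s ρ ν d) * tau s ρ ν y by simp only [mul_assoc], hc, ← mul_assoc,
          hI.sq d hd, one_mul]
    intro x hx y hy
    rcases List.mem_append.1 hx with hx | hx <;> rcases List.mem_append.1 hy with hy | hy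
    · exact List.mem_append_left _ (hcl x hx y hy)
    · obtain ⟨y', hy', rfl⟩ := List.mem_map.1 hy
      rw [(key x hx y' hy').1]
      exact List.mem_append_right _ (List.mem_map_of_mem (hcl x hx y' hy'))
    · obtain ⟨x', hx', rfl⟩ := List.mem_map.1 hx
      rw [(key x' hx' y hy).2.1]
      exact List.mem_append_right _ (List.mem_map_of_mem (hcl x' hx' y hy))
    · obtain ⟨x', hx', rfl⟩ := List.mem_map.1 hx
      obtain ⟨y', hy', rfl⟩ := List.mem_map.1 hy
      rw [(key x' hx' y' hy').2.2]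
      exact List.mem_append_left _ (hcl x' hx' y' hy')
  · exact List.mem_append_right _ (List.mem_map.2 ⟨0, h0, hd0⟩)

theorem sub_zero' {IB : Finset ℕ} (hI : EI s ρ ν IB) : Sub IB [0] := by
  refine ⟨List.nodup_singleton 0, by simp, fun x hx => by simpa [List.mem_singleton.1 hx] using hI.zero,
    fun x hx y hy => ?_⟩
  rw [List.mem_singleton] at hx hy ⊢
  subst hx hy
  refine tau_inj H C (tau_mul H C (by norm_num) (by norm_num)).1 (by norm_num) ?_
  rw [← (tau_mul H C (i := 0) (j := 0) (by norm_num) (by norm_num)).2, tau_zero H C, one_mul]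

theorem sub_one {IB : Finset ℕ} (hI : EI s ρ ν IB) {a : ℕ} (ha : a ∈ IB) (ha0 : a ≠ 0) :
    Sub IB [0, a] := by
  have hab := hI.bound a ha
  have hs := sub_grow H C hI (sub_zero' H C hI) ha (by simpa using ha0)
  have : span [0] a = [0, a] := by
    simp only [span, List.map_cons, List.map_nil, List.singleton_append]
    congr 2
    exact tau_inj H C (tau_mul H C hab (by norm_num)).1 hab
      (by rw [← (tau_mul H C hab (by norm_num)).2, tau_zero H C, mul_one])
  rw [this] at hs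
  exact hs.1

omit H C in
theorem exists_min {IB : Finset ℕ} {l : List ℕ} (h : l.length < IB.card) :
    ∃ d ∈ IB, d ∉ l ∧ ∀ x ∈ IB, x ∉ l → d ≤ x := by
  classical
  have hne : (IB \ l.toFinset).Nonempty := by
    rw [← Finset.card_pos]
    have h1 := Finset.le_card_sdiff l.toFinset IB
    have h2 := l.toFinset_card_le
    omega
  refine ⟨(IB \ l.toFinset).min' hne, ?_, ?_, fun x hx hxl => Finset.min'_le _ x ?_⟩
  · exact (Finset.mem_sdiff.1 (Finset.min'_mem _ hne)).1
  · simpa using (Finset.mem_sdiff.1 (Finset.min'_mem _ hne)).2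
  · simp [hx, hxl]

theorem classify {IB : Finset ℕ} (hI : EI s ρ ν IB) (hcard : IB.card = 16) :
    IB = eOne.toFinset ∨ IB = eTwo.toFinset := by
  classical
  obtain ⟨a, ha, ha0, hamin⟩ := exists_min (IB := IB) (l := [0]) (by simp [hcard])
  simp only [List.mem_singleton] at ha0 hamin
  have s1 := sub_one H C hI ha ha0
  obtain ⟨b, hb, hbl, hbmin⟩ := exists_min (IB := IB) (l := [0, a]) (by simp [hcard])
  obtain ⟨s2, l2, hb2⟩ := sub_grow H C hI s1 hb hbl
  obtain ⟨c, hc, hcl, hcmin⟩ := exists_min (IB := IB) (l := span [0, a] b) (by rw [l2, hcard]; simp)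
  obtain ⟨s3, l3, hc3⟩ := sub_grow H C hI s2 hc hcl
  obtain ⟨d, hd, hdl, hdmin⟩ := exists_min (IB := IB) (l := span (span [0, a] b) c)
    (by rw [l3, l2, hcard]; simp)
  obtain ⟨s4, l4, -⟩ := sub_grow H C hI s3 hd hdl
  have hab : a < b := lt_of_le_of_ne (hamin b hb fun e => hbl (by simp [e])) fun e => hbl (by simp [e])
  have hbc : b < c := lt_of_le_of_ne (hbmin c hc fun e => hcl (List.mem_append_left _ e)) fun e =>
    hcl (e ▸ hb2)
  have hcd : c < d := lt_of_le_of_ne (hcmin d hd fun e => hdl (List.mem_append_left _ e)) fun e =>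
    hdl (e ▸ hc3)
  have hinv : ∀ {x}, x ∈ IB → x ≠ 0 → x ∈ invs := fun {x} hx hx0 => by
    have hxb := hI.bound x hx
    simp only [invs, List.mem_filter, List.mem_range, Bool.and_eq_true, Bool.not_eq_true']
    refine ⟨hxb, ?_, ?_⟩
    · cases hh : Nat.beq x 0
      · rfl
      · exact absurd (Nat.eq_of_beq_eq_true hh) hx0
    · rw [Nat.beq_eq]
      exact tau_inj H C (tau_mul H C hxb hxb).1 (by norm_num)
        (by rw [← (tau_mul H C hxb hxb).2, hI.sq x hx, tau_zero H C])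
  have hcm : ∀ {x y}, x ∈ IB → y ∈ IB → J4Check18.comm x y = true := fun {x y} hx hy => by
    have hxb := hI.bound x hx
    have hyb := hI.bound y hy
    rw [J4Check18.comm, Nat.beq_eq]
    exact tau_inj H C (tau_mul H C hxb hyb).1 (tau_mul H C hyb hxb).1
      (by rw [← (tau_mul H C hxb hyb).2, ← (tau_mul H C hyb hxb).2, hI.comm x hx y hy])
  have hne0 : ∀ {x} {l : List ℕ}, 0 ∈ l → x ∉ l → x ≠ 0 := fun h0 hx e => hx (e ▸ h0)
  have hmem : ∀ {x} {l : List ℕ}, x ∉ l → mem x l = false := fun {x l} hx => by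
    rw [Bool.eq_false_iff]; exact fun e => hx (mem_iff.1 e)
  have hblt : ∀ {x y : ℕ}, x < y → Nat.blt x y = true := fun hxy => by rw [Nat.blt_eq]; exact hxy
  have hA := sixteen_ok
  rw [sixteenOK, List.all_eq_true] at hA
  have h1 := hA a (hinv ha ha0)
  rw [List.all_eq_true] at h1
  have h2 := h1 b (hinv hb (hne0 (by simp) hbl))
  simp only [hblt hab, hcm ha hb, Bool.and_self, Bool.not_true, Bool.false_or,
    List.all_eq_true] at h2
  have h3 := h2 c (hinv hc (hne0 s2.2.1 hcl))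
  simp only [hblt hbc, hcm ha hc, hcm hb hc, hmem hcl, Bool.and_self, Bool.not_false,
    Bool.not_true, Bool.false_or, List.all_eq_true] at h3
  have h4 := h3 d (hinv hd (hne0 s3.2.1 hdl))
  simp only [hblt hcd, hcm ha hd, hcm hb hd, hcm hc hd, hmem hdl, Bool.and_self,
    Bool.not_false, Bool.not_true, Bool.false_or, Bool.or_eq_true, same, List.all_eq_true,
    mem_iff] at h4
  have hK : (span (span (span [0, a] b) c) d).toFinset = IB := by
    refine Finset.eq_of_subset_of_card_le (fun x hx => s4.2.2.1 x (List.mem_toFinset.1 hx)) ?_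
    rw [List.toFinset_card_of_nodup s4.1, l4, l3, l2, hcard]
    simp
  rcases h4 with h4 | h4
  · left
    refine Finset.eq_of_subset_of_card_le (fun x hx => ?_) ?_
    · rw [← hK, List.mem_toFinset] at hx
      exact List.mem_toFinset.2 (h4 x hx)
    · rw [hcard, List.toFinset_card_of_nodup eOne_list.2.1, eOne_list.1]
  · right
    refine Finset.eq_of_subset_of_card_le (fun x hx => ?_) ?_
    · rw [← hK, List.mem_toFinset] at hx
      exact List.mem_toFinset.2 (h4 x hx)
    · rw [hcard, List.toFinset_card_of_nodup eTwo_list.2.1, eTwo_list.1]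

theorem exists_index {B : Subgroup X} (hB : B ≤ T0 H C) (hsq : ∀ x ∈ B, x * x = 1)
    (hcomm : ∀ x ∈ B, ∀ y ∈ B, x * y = y * x) :
    ∃ IB : Finset ℕ, EI s ρ ν IB ∧ IB.card = Nat.card B ∧
      (∀ i ∈ IB, tau s ρ ν i ∈ B) ∧ ∀ x ∈ B, ∃ i ∈ IB, x = tau s ρ ν i := by
  classical
  let IB := (Finset.range 128).filter fun i => tau s ρ ν i ∈ B
  have hm : ∀ i, i ∈ IB ↔ i < 128 ∧ tau s ρ ν i ∈ B := fun i => by simp [IB]
  refine ⟨IB, ⟨fun i hi => ((hm i).1 hi).1, (hm 0).2 ⟨by norm_num, by rw [tau_zero H C]; exact one_mem B⟩,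
    fun i hi => hsq _ ((hm i).1 hi).2, fun i hi j hj => hcomm _ ((hm i).1 hi).2 _ ((hm j).1 hj).2,
    fun i hi j hj => ?_⟩, ?_, fun i hi => ((hm i).1 hi).2, fun x hx => ?_⟩
  · obtain ⟨hi1, hi2⟩ := (hm i).1 hi
    obtain ⟨hj1, hj2⟩ := (hm j).1 hj
    exact (hm _).2 ⟨(tau_mul H C hi1 hj1).1, by rw [← (tau_mul H C hi1 hj1).2]; exact mul_mem hi2 hj2⟩
  · rw [← Nat.card_eq_finsetCard]
    refine Nat.card_congr (Equiv.ofBijective (fun i => (⟨tau s ρ ν i.1, ((hm i.1).1 i.2).2⟩ : B))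
      ⟨fun a b e => Subtype.ext (tau_inj H C ((hm _).1 a.2).1 ((hm _).1 b.2).1 (congrArg Subtype.val e)),
        fun x => ?_⟩)
    obtain ⟨i, hi, e⟩ := hB x.2
    exact ⟨⟨i, (hm i).2 ⟨hi, e ▸ x.2⟩⟩, Subtype.ext e.symm⟩
  · obtain ⟨i, hi, e⟩ := hB hx
    exact ⟨i, (hm i).2 ⟨hi, e ▸ hx⟩, e⟩

theorem mem_16 {B : Subgroup X} (hB : B ≤ T0 H C) (hsq : ∀ x ∈ B, x * x = 1)
    (hcomm : ∀ x ∈ B, ∀ y ∈ B, x * y = y * x) (hcard : Nat.card B = 16) :
    (∀ x, x ∈ B ↔ ∃ i ∈ eOne, x = tau s ρ ν i) ∨ ∀ x, x ∈ B ↔ ∃ i ∈ eTwo, x = tau s ρ ν i := by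
  classical
  obtain ⟨IB, hI, hc, hin, hout⟩ := exists_index H C hB hsq hcomm
  rcases classify H C hI (hc.trans hcard) with e | e
  · left
    intro x
    exact ⟨fun hx => by obtain ⟨i, hi, hxi⟩ := hout x hx; exact ⟨i, by simpa [e] using hi, hxi⟩,
      fun ⟨i, hi, hxi⟩ => hxi ▸ hin i (by simp [e, hi])⟩
  · right
    intro x
    exact ⟨fun hx => by obtain ⟨i, hi, hxi⟩ := hout x hx; exact ⟨i, by simpa [e] using hi, hxi⟩,
      fun ⟨i, hi, hxi⟩ => hxi ▸ hin i (by simp [e, hi])⟩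

/-- There is no elementary abelian subgroup of order 32 in the subgroup of index two. -/
theorem card_le_sixteen {B : Subgroup X} (hB : B ≤ Mb) (hsq : ∀ x ∈ B, x * x = 1)
    (hcomm : ∀ x ∈ B, ∀ y ∈ B, x * y = y * x) : Nat.card B ≤ 16 := by
  classical
  by_contra hlt
  push Not at hlt
  obtain ⟨g, -, hg⟩ := exists_conj_T0 H C hB fun x => ⟨1, by
    rw [pow_one, pow_two]; exact Subtype.ext (hsq _ x.2)⟩
  obtain ⟨IB, hI, hc, -, -⟩ := exists_index H C hg
    (by rintro _ ⟨x, hx, rfl⟩; rw [← map_mul, hsq x hx, map_one])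
    (by rintro _ ⟨x, hx, rfl⟩ _ ⟨y, hy, rfl⟩; rw [← map_mul, hcomm x hx y hy, map_mul])
  rw [card_cj] at hc
  have hsub : IB ⊆ (eOne.toFinset ∪ eTwo.toFinset) := by
    intro x hx
    by_cases hx0 : x = 0
    · subst hx0
      exact Finset.mem_union_left _ (by decide +kernel)
    have s1 := sub_one H C hI hx hx0
    obtain ⟨b, hb, hbl, -⟩ := exists_min (IB := IB) (l := [0, x]) (by simp; omega)
    obtain ⟨s2, l2, -⟩ := sub_grow H C hI s1 hb hbl
    obtain ⟨c, hc', hcl, -⟩ := exists_min (IB := IB) (l := span [0, x] b) (by rw [l2]; simp; omega)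
    obtain ⟨s3, l3, -⟩ := sub_grow H C hI s2 hc' hcl
    obtain ⟨d, hd, hdl, -⟩ := exists_min (IB := IB) (l := span (span [0, x] b) c)
      (by rw [l3, l2]; simp; omega)
    obtain ⟨s4, l4, -⟩ := sub_grow H C hI s3 hd hdl
    set L := span (span (span [0, x] b) c) d with hL
    have hI' : EI s ρ ν L.toFinset :=
      ⟨fun i hi => hI.bound i (s4.2.2.1 i (List.mem_toFinset.1 hi)), List.mem_toFinset.2 s4.2.1,
        fun i hi => hI.sq i (s4.2.2.1 i (List.mem_toFinset.1 hi)),
        fun i hi j hj => hI.comm i (s4.2.2.1 i (List.mem_toFinset.1 hi)) j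
          (s4.2.2.1 j (List.mem_toFinset.1 hj)),
        fun i hi j hj => List.mem_toFinset.2
          (s4.2.2.2 i (List.mem_toFinset.1 hi) j (List.mem_toFinset.1 hj))⟩
    have hxL : x ∈ L.toFinset := by simp [hL, span]
    rcases classify H C hI' (by rw [List.toFinset_card_of_nodup s4.1, l4, l3, l2]; simp) with e | e
    · exact Finset.mem_union_left _ (e ▸ hxL)
    · exact Finset.mem_union_right _ (e ▸ hxL)
  have hcu : (eOne.toFinset ∪ eTwo.toFinset).card < 32 := by decide +kernel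
  have hpow : ∃ k, Nat.card B = 2 ^ k := by
    haveI : Fact (Nat.Prime 2) := ⟨Nat.prime_two⟩
    exact IsPGroup.iff_card.1 fun x => ⟨1, by rw [pow_one, pow_two]; exact Subtype.ext (hsq _ x.2)⟩
  obtain ⟨k, hk⟩ := hpow
  have h5 : 5 ≤ k := by
    by_contra h5
    have := Nat.pow_le_pow_right (n := 2) (by norm_num) (show k ≤ 4 by omega)
    omega
  have := Nat.pow_le_pow_right (n := 2) (by norm_num) h5
  have := Finset.card_le_card hsub
  omega

/-! ### Fixed spaces -/

theorem fixes_of {E : List ℕ} (hb : ∀ i ∈ E, i < 128) {c : ℕ}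
    (hfix : ∀ i ∈ E, op ρ (tau s ρ ν i) (nc s ν c) = nc s ν c) (hc : c < 4096) : fixes E c = true := by
  rw [fixes, List.all_eq_true]
  intro i hi
  rw [Nat.beq_eq]
  exact nc_inj H C (app_lt _ _) hc (by rw [← op_tau_nc H C (hb i hi)]; exact hfix i hi)

theorem fix_eOne {v : V} (hv : ∀ i ∈ eOne, op ρ (tau s ρ ν i) v = v) :
    ∃ c ∈ uList, v = nc s ν c := by
  obtain ⟨c, hc, rfl⟩ := exists_nc H C v
  have hf := fix_ok
  simp only [fixOK, Bool.and_eq_true] at hf
  have := allBelow_spec hf.1.2 c hc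
  rw [fixes_of H C eOne_list.2.2 hv hc, Bool.not_true, Bool.false_or, mem_iff] at this
  exact ⟨c, this, rfl⟩

theorem uList_spec {c : ℕ} (hc : c ∈ uList) :
    c < 4096 ∧ q (nc s ν c) = 0 ∧ ∀ i ∈ eOne, op ρ (tau s ρ ν i) (nc s ν c) = nc s ν c := by
  have hf := fix_ok
  simp only [fixOK, Bool.and_eq_true, List.all_eq_true, Nat.blt_eq, Bool.not_eq_true'] at hf
  obtain ⟨⟨h1, h2⟩, h3⟩ := hf.1.1.2 c hc
  refine ⟨h1, by rw [q_nc H C, h3]; simp, fun i hi => ?_⟩
  rw [op_tau_nc H C (eOne_list.2.2 i hi)]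
  rw [fixes, List.all_eq_true] at h2
  rw [Nat.eq_of_beq_eq_true (h2 i hi)]

theorem fix_eTwo {W : Set V} (hW : ∀ v ∈ W, ∀ i ∈ eTwo, op ρ (tau s ρ ν i) v = v) : W.ncard ≤ 4 := by
  classical
  have hf := fix_ok
  simp only [fixOK, Bool.and_eq_true] at hf
  let l := (List.range 4096).filter (fixes eTwo)
  have hl : l.length ≤ 4 := Nat.le_of_ble_eq_true hf.2
  have hsub : W ⊆ nc s ν '' (l.toFinset : Set ℕ) := by
    intro v hv
    obtain ⟨c, hc, rfl⟩ := exists_nc H C v
    refine ⟨c, ?_, rfl⟩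
    simp only [l, Finset.mem_coe, List.mem_toFinset, List.mem_filter, List.mem_range]
    exact ⟨hc, fixes_of H C eTwo_list.2.2 (hW _ hv) hc⟩
  refine le_trans (Set.ncard_le_ncard hsub (Set.toFinite _)) ?_
  refine le_trans (Set.ncard_image_le (Set.toFinite _)) ?_
  rw [Set.ncard_coe_finset]
  exact (List.toFinset_card_le l).trans hl


end

/-- Elementary abelian of exponent two. -/
def EA {X : Type*} [Group X] (B : Subgroup X) : Prop :=
  (∀ x ∈ B, x * x = 1) ∧ ∀ x ∈ B, ∀ y ∈ B, x * y = y * x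


/-- The common fixed points of a subgroup. -/
def Fix (ρ : X →* AddMonoid.End V) (B : Subgroup X) : AddSubgroup V where
  carrier := {v | ∀ x ∈ B, op ρ x v = v}
  zero_mem' := fun x _ => map_zero _
  add_mem' := fun {a b} ha hb x hx => by rw [map_add, ha x hx, hb x hx]
  neg_mem' := fun {a} ha x hx => by rw [map_neg, ha x hx]

theorem mem_Fix {B : Subgroup X} {v : V} : v ∈ Fix ρ B ↔ ∀ x ∈ B, op ρ x v = v := Iff.rfl

theorem Fix_cj {g : X} {B : Subgroup X} {v : V} (hv : v ∈ Fix ρ B) : op ρ g v ∈ Fix ρ (cj g B) := by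
  rintro _ ⟨b, hb, rfl⟩
  show op ρ (g * b * g⁻¹) (op ρ g v) = op ρ g v
  rw [← rho_mul, inv_mul_cancel_right, rho_mul, hv b hb]

theorem EA.cj {B : Subgroup X} (hB : EA B) (g : X) : EA (cj g B) :=
  ⟨by rintro _ ⟨x, hx, rfl⟩; rw [← map_mul, hB.1 x hx, map_one],
    by rintro _ ⟨x, hx, rfl⟩ _ ⟨y, hy, rfl⟩; rw [← map_mul, hB.2 x hx y hy, map_mul]⟩

theorem EA.le {A B : Subgroup X} (hB : EA B) (hAB : A ≤ B) : EA A :=
  ⟨fun x hx => hB.1 x (hAB hx), fun x hx y hy => hB.2 x (hAB hx) y (hAB hy)⟩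

theorem EA.pGroup {B : Subgroup X} (hB : EA B) : IsPGroup 2 B :=
  fun x => ⟨1, by rw [pow_one, pow_two]; exact Subtype.ext (hB.1 _ x.2)⟩


/-- A totally isotropic subspace has at most 64 elements. -/
theorem card_iso {o : V →+ V} (H : Fx o q) (W : AddSubgroup V)
    (hp : ∀ a ∈ W, ∀ b ∈ W, pol q a b = 0) : Nat.card W ≤ 64 := by
  haveI : Finite V := Nat.finite_of_card_ne_zero (by rw [H.card]; norm_num)
  let f : W → (V ⧸ W →+ ZMod 2) := fun a => QuotientAddGroup.lift W
    (AddMonoidHom.mk' (fun x => pol q a.1 x) fun x y => H.addr x y a.1)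
    fun b hb => hp a.1 a.2 b hb
  have hinj : Function.Injective f := by
    intro a b e
    have hz : (a : V) + b = 0 := H.nondeg _ fun x => by
      have e' := congrArg (fun g : V ⧸ W →+ ZMod 2 => g (QuotientAddGroup.mk x)) e
      rw [H.addl, show pol q (a : V) x = pol q (b : V) x from e', z2]
    refine Subtype.ext ?_
    rw [← add_zero (a : V), ← H.two (b : V), ← add_assoc, hz, zero_add]
  haveI : Finite (V ⧸ W →+ ZMod 2) := Finite.of_injective _ DFunLike.coe_injective
  have h1 := Nat.card_le_card_of_injective f hinj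
  rw [FischerFrame18.card_dual (V ⧸ W) fun x => by
    induction x using QuotientAddGroup.induction_on with
    | H v => rw [← QuotientAddGroup.mk_add, H.two]; rfl] at h1
  have h2 := AddSubgroup.card_eq_card_quotient_mul_card_addSubgroup W
  rw [H.card] at h2
  by_contra hlt
  push Not at hlt
  have := Nat.mul_le_mul (le_of_lt (lt_of_lt_of_le hlt h1)) (le_of_lt hlt)
  nlinarith

/-- A totally singular subspace has at most 64 elements. -/
theorem card_sing {o : V →+ V} (H : Fx o q) (W : AddSubgroup V) (hW : ∀ v ∈ W, q v = 0) :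
    Nat.card W ≤ 64 :=
  card_iso H W fun a ha b hb => by simp [pol, hW a ha, hW b hb, hW _ (W.add_mem ha hb)]


/-- The first elementary abelian subgroup of order 16. -/
def E1 (H : Hyp ρ q n Mb) (C : Coord h ρ q n Mb ν) : Subgroup X where
  carrier := {x | ∃ i ∈ eOne, x = tau s ρ ν i}
  one_mem' := ⟨0, eOne_zero.1, (tau_zero H C).symm⟩
  mul_mem' := fun {a b} ⟨i, hi, ea⟩ ⟨j, hj, eb⟩ => ⟨_, ((eOne_closed i hi).2 j hj).1, by
    rw [ea, eb, (tau_mul H C (eOne_list.2.2 i hi) (eOne_list.2.2 j hj)).2]⟩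
  inv_mem' := fun {a} ⟨i, hi, ea⟩ => ⟨i, hi, by
    rw [ea]
    refine inv_eq_of_mul_eq_one_right ?_
    rw [(tau_mul H C (eOne_list.2.2 i hi) (eOne_list.2.2 i hi)).2, (eOne_closed i hi).1,
      tau_zero H C]⟩

section

variable (H : Hyp ρ q n Mb) (C : Coord h ρ q n Mb ν)
include H C

theorem E1_le : E1 H C ≤ T0 H C := by
  rintro _ ⟨i, hi, rfl⟩
  exact ⟨i, eOne_list.2.2 i hi, rfl⟩

theorem E1_ea : EA (E1 H C) := by
  refine ⟨?_, ?_⟩
  · rintro _ ⟨i, hi, rfl⟩
    rw [(tau_mul H C (eOne_list.2.2 i hi) (eOne_list.2.2 i hi)).2, (eOne_closed i hi).1, tau_zero H C]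
  · rintro _ ⟨i, hi, rfl⟩ _ ⟨j, hj, rfl⟩
    rw [(tau_mul H C (eOne_list.2.2 i hi) (eOne_list.2.2 j hj)).2,
      (tau_mul H C (eOne_list.2.2 j hj) (eOne_list.2.2 i hi)).2, ((eOne_closed i hi).2 j hj).2]

theorem card_E1 : Nat.card (E1 H C) = 16 := by
  classical
  let f : eOne.toFinset → E1 H C := fun i => ⟨tau s ρ ν i.1, i.1, List.mem_toFinset.1 i.2, rfl⟩
  rw [← Nat.card_congr (Equiv.ofBijective f ⟨fun a b e => Subtype.ext (tau_inj H C
      (eOne_list.2.2 _ (List.mem_toFinset.1 a.2)) (eOne_list.2.2 _ (List.mem_toFinset.1 b.2))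
      (congrArg Subtype.val e)),
    fun x => by obtain ⟨i, hi, e⟩ := x.2; exact ⟨⟨i, List.mem_toFinset.2 hi⟩, Subtype.ext e.symm⟩⟩),
    Nat.card_eq_finsetCard, List.toFinset_card_of_nodup eOne_list.2.1, eOne_list.1]

theorem mem_Fix_E1 {v : V} : v ∈ Fix ρ (E1 H C) ↔ ∃ c ∈ uList, v = nc s ν c := by
  refine ⟨fun hv => fix_eOne H C fun i hi => hv _ ⟨i, hi, rfl⟩, ?_⟩
  rintro ⟨c, hc, rfl⟩ _ ⟨i, hi, rfl⟩
  exact (uList_spec H C hc).2.2 i hi

theorem Fix_E1_sing : ∀ v ∈ Fix ρ (E1 H C), q v = 0 := fun v hv => by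
  obtain ⟨c, hc, rfl⟩ := (mem_Fix_E1 H C).1 hv
  exact (uList_spec H C hc).2.1

theorem card_Fix_E1 : Nat.card (Fix ρ (E1 H C)) = 64 := by
  classical
  have hu : uList.Nodup ∧ uList.length = 64 := by decide +kernel
  let f : uList.toFinset → Fix ρ (E1 H C) := fun c =>
    ⟨nc s ν c.1, (mem_Fix_E1 H C).2 ⟨c.1, List.mem_toFinset.1 c.2, rfl⟩⟩
  rw [← Nat.card_congr (Equiv.ofBijective f ⟨fun a b e => Subtype.ext (nc_inj H C
      (uList_spec H C (List.mem_toFinset.1 a.2)).1 (uList_spec H C (List.mem_toFinset.1 b.2)).1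
      (congrArg Subtype.val e)),
    fun x => by
      obtain ⟨c, hc, e⟩ := (mem_Fix_E1 H C).1 x.2
      exact ⟨⟨c, List.mem_toFinset.2 hc⟩, Subtype.ext e.symm⟩⟩),
    Nat.card_eq_finsetCard, List.toFinset_card_of_nodup hu.1, hu.2]

/-- A subgroup of order 16 of the Sylow subgroup with more than four fixed points is the first. -/
theorem eq_E1 {B : Subgroup X} (hB : B ≤ T0 H C) (hea : EA B) (hcard : Nat.card B = 16)
    (W : AddSubgroup V) (hW : W ≤ Fix ρ B) (h4 : 4 < Nat.card W) : B = E1 H C := by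
  rcases mem_16 H C hB hea.1 hea.2 hcard with e | e
  · ext x; exact e x
  · exfalso
    have := fix_eTwo H C (W := (W : Set V)) fun v hv i hi => hW hv _ ((e _).2 ⟨i, hi, rfl⟩)
    rw [← Nat.card_coe_set_eq] at this
    exact absurd this (not_le.2 h4)


/-! ### The normaliser of the first subgroup -/

theorem mem_normalizer {g : X} (hg : ∀ x ∈ E1 H C, g * x * g⁻¹ ∈ E1 H C) :
    g ∈ Subgroup.normalizer (E1 H C : Set X) :=
  Subgroup.mem_normalizer_fintype hg

theorem n_mem_normalizer : n ∈ Subgroup.normalizer (E1 H C : Set X) := by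
  refine mem_normalizer H C fun x hx => ?_
  rw [← H.comm_n x ((E1_le H C).trans (T0_le H C) hx), mul_inv_cancel_right]
  exact hx

theorem conj_tau {g : X} {m e e' : ℕ} (hg : Acts ρ ν g (matOf s m)) (he : e < 128) (he' : e' < 128)
    (hm : mulM m (el e) = mulM (el e') m) : g * tau s ρ ν e * g⁻¹ = tau s ρ ν e' := by
  rw [mul_inv_eq_iff_eq_mul]
  refine ext_op H C fun v => ?_
  rw [rho_mul, rho_mul, op_tau H C he, hg, hg, op_tau H C he', Matrix.mulVec_mulVec,
    Matrix.mulVec_mulVec, ← matOf_mul h, hm, matOf_mul h]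

theorem normC_real {m : ℕ} (hm : m ∈ normC) :
    ∃ g ∈ Mb, g ∈ Subgroup.normalizer (E1 H C : Set X) ∧ Acts ρ ν g (matOf s m) := by
  have h0 := norm_ok
  simp only [normOK, Bool.and_eq_true, List.all_eq_true, List.any_eq_true, Nat.beq_eq] at h0
  have hnorm : ∀ g : X, Acts ρ ν g (matOf s m) → g ∈ Subgroup.normalizer (E1 H C : Set X) := by
    intro g hg
    refine mem_normalizer H C ?_
    rintro _ ⟨e, he, rfl⟩
    obtain ⟨e', he', hee⟩ := h0.1.1 m hm e he
    exact ⟨e', he', conj_tau H C hg (eOne_list.2.2 e he) (eOne_list.2.2 e' he') hee⟩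
  simp only [normC, List.mem_append] at hm
  rcases hm with hm | hm
  · obtain ⟨k, hk, rfl⟩ := List.mem_iff_getElem.1 hm
    have hk2 : k < 2 := h0.2 ▸ hk
    have h2 := allBelow_spec h0.1.2 k hk2
    simp only [Bool.and_eq_true, Nat.beq_eq] at h2
    obtain ⟨g, hg, hgv⟩ := exists_word H C (w := trWord.getD k []) h2.1
    rw [h2.2, List.getD_eq_getElem _ _ hk] at hgv
    exact ⟨g, hg, hnorm g hgv, hgv⟩
  · obtain ⟨k, hk, rfl⟩ := List.mem_iff_getElem.1 hm
    have hk7 : k < 7 := by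
      have : sylGen.length = 7 := by decide +kernel
      omega
    obtain ⟨hw1, hw2⟩ := sylWord_ok k hk7
    obtain ⟨g, hg, hgv⟩ := exists_word H C hw1
    rw [hw2, List.getD_eq_getElem _ _ hk] at hgv
    exact ⟨g, hg, hnorm g hgv, hgv⟩

/-- The normaliser of the first subgroup is transitive on its involutions. -/
theorem E1_trans {i : ℕ} (hi : i ∈ eOne) (hi0 : i ≠ 0) :
    ∃ g ∈ Mb, (∀ x ∈ E1 H C, g * x * g⁻¹ ∈ E1 H C) ∧
      g * tau s ρ ν 1 * g⁻¹ = tau s ρ ν i := by
  classical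
  let P : ℕ → Prop := fun e => e ∈ eOne ∧ ∃ g ∈ Mb, g ∈ Subgroup.normalizer (E1 H C : Set X) ∧
    g * tau s ρ ν 1 * g⁻¹ = tau s ρ ν e
  have hst : ∀ l : List ℕ, (∀ e ∈ l, P e) → ∀ e ∈ eStep l, P e := by
    intro l hl e he
    simp only [eStep, List.mem_dedup, List.mem_append, List.mem_filter, List.any_eq_true,
      Nat.beq_eq] at he
    rcases he with he | ⟨he, e0, he0, m, hm, hee⟩
    · exact hl e he
    · obtain ⟨he0', g, hg, hgn, hga⟩ := hl e0 he0
      obtain ⟨gk, hgkM, hgkn, hgkv⟩ := normC_real H C hm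
      refine ⟨he, gk * g, mul_mem hgkM hg, mul_mem hgkn hgn, ?_⟩
      rw [← conj_tau H C hgkv (eOne_list.2.2 e0 he0') (eOne_list.2.2 e he) hee, ← hga]; group
  have h0 : ∀ e ∈ [1], P e := fun e he => by
    rw [List.mem_singleton] at he
    subst he
    exact ⟨eOne_zero.2, 1, one_mem _, one_mem _, by group⟩
  have hP := hst _ (hst _ (hst _ (hst _ (hst _ (hst _ h0)))))
  set L := eStep (eStep (eStep (eStep (eStep (eStep [1]))))) with hL
  have hlen : L.length = 15 := Nat.eq_of_beq_eq_true trans_ok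
  have hne : (0 : ℕ) ∉ L := fun h0' => by
    obtain ⟨-, g, -, -, hg⟩ := hP 0 h0'
    rw [tau_zero H C, conj_eq_one_iff, ← tau_zero H C] at hg
    exact one_ne_zero (tau_inj H C (by norm_num) (by norm_num) hg)
  have hsub : L.toFinset = eOne.toFinset.erase 0 := by
    refine Finset.eq_of_subset_of_card_le (fun e he => ?_) ?_
    · rw [List.mem_toFinset] at he
      exact Finset.mem_erase.2 ⟨fun e0 => hne (e0 ▸ he), List.mem_toFinset.2 (hP e he).1⟩
    · rw [Finset.card_erase_of_mem (List.mem_toFinset.2 eOne_zero.1),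
        List.toFinset_card_of_nodup eOne_list.2.1, eOne_list.1,
        List.toFinset_card_of_nodup (by rw [hL]; exact List.nodup_dedup _), hlen]
  have : i ∈ L := by
    rw [← List.mem_toFinset, hsub]
    exact Finset.mem_erase.2 ⟨hi0, List.mem_toFinset.2 hi⟩
  obtain ⟨-, g, hg, hgn, e⟩ := hP i this
  exact ⟨g, hg, fun x hx => (Subgroup.mem_normalizer_iff.1 hgn x).1 hx, e⟩

theorem uStep_real {u : List ℕ} (hu : ∀ c ∈ u, c < 4096) {r : ℕ} {l : List ℕ}
    (hl : ∀ d ∈ l, d < 4096 ∧ ∃ g ∈ Mb, g ∈ Subgroup.normalizer (E1 H C : Set X) ∧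
      op ρ g (nc s ν r) = nc s ν d) :
    ∀ d ∈ uStep u l, d < 4096 ∧ ∃ g ∈ Mb, g ∈ Subgroup.normalizer (E1 H C : Set X) ∧
      op ρ g (nc s ν r) = nc s ν d := by
  intro d hd
  simp only [uStep, List.mem_dedup, List.mem_append, List.mem_filter, List.any_eq_true,
    Bool.or_eq_true, Nat.beq_eq] at hd
  rcases hd with hd | ⟨hd, d0, hd0, hf⟩
  · exact hl d hd
  · obtain ⟨hlt, g, hg, hgn, hgd⟩ := hl d0 hd0
    obtain ⟨g', hg', hgn', hgd'⟩ : ∃ g' ∈ Mb, g' ∈ Subgroup.normalizer (E1 H C : Set X) ∧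
        op ρ g' (nc s ν d0) = nc s ν d := by
      rcases hf with ⟨m, hm, rfl⟩ | rfl
      · obtain ⟨g', h1, h2, h3⟩ := normC_real H C hm
        exact ⟨g', h1, h2, acts_nc H C h3 d0⟩
      · exact ⟨n, H.n_mem, n_mem_normalizer H C, by rw [nc, C.scalar, nc, vec_scal h hlt]⟩
    exact ⟨hu _ hd, g' * g, mul_mem hg' hg, mul_mem hgn' hgn, by rw [rho_mul, hgd, hgd']⟩

theorem orb_facts : u18.Nodup ∧ u45.Nodup ∧ u18.length = 18 ∧ u45.length = 45 ∧
    (∀ c ∈ uList, c = 0 ∨ c ∈ u18 ∨ c ∈ u45) ∧ (∀ c ∈ u18, c ∈ uList ∧ c ≠ 0 ∧ c ∉ u45) ∧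
    (∀ c ∈ u45, c ∈ uList ∧ c ≠ 0) := by
  have h2 := orb_ok
  simp only [orbOK, Bool.and_eq_true, List.all_eq_true, mem_iff, decide_eq_true_eq, Nat.beq_eq,
    Bool.or_eq_true, Bool.not_eq_true', Bool.eq_false_iff] at h2
  obtain ⟨⟨⟨⟨⟨⟨⟨⟨-, -⟩, n18⟩, n45⟩, l18⟩, l45⟩, hsplit⟩, h18⟩, h45⟩ := h2
  refine ⟨n18, n45, l18, l45, fun c hc => ?_, fun c hc => ?_, fun c hc => ?_⟩
  · rcases hsplit c hc with (h | h) | h
    · exact Or.inl h
    · exact Or.inr (Or.inl h)
    · exact Or.inr (Or.inr h)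
  · obtain ⟨⟨a, b⟩, d⟩ := h18 c hc
    exact ⟨a, fun e => b (by rw [e]; rfl), fun e => d (mem_iff.2 e)⟩
  · obtain ⟨a, b⟩ := h45 c hc
    exact ⟨a, fun e => b (by rw [e]; rfl)⟩

/-- The normaliser is transitive on the smaller orbit. -/
theorem trans18 {c : ℕ} (hc : c ∈ u18) : ∃ g ∈ Mb, g ∈ Subgroup.normalizer (E1 H C : Set X) ∧
    op ρ g (nc s ν (u18.getD 0 0)) = nc s ν c := by
  have hu : ∀ c ∈ u18, c < 4096 := fun c hc =>
    (uList_spec H C ((orb_facts H C).2.2.2.2.2.1 c hc).1).1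
  have h0 : ∀ d ∈ [u18.getD 0 0], d < 4096 ∧ ∃ g ∈ Mb,
      g ∈ Subgroup.normalizer (E1 H C : Set X) ∧ op ρ g (nc s ν (u18.getD 0 0)) = nc s ν d :=
    fun d hd => by
      rw [List.mem_singleton] at hd
      subst hd
      exact ⟨hu _ (by decide +kernel), 1, one_mem _, one_mem _, rho_one ρ _⟩
  have h2 := orb_ok
  simp only [orbOK, Bool.and_eq_true, List.all_eq_true, mem_iff] at h2
  obtain ⟨⟨⟨⟨⟨⟨⟨⟨h5, -⟩, -⟩, -⟩, -⟩, -⟩, -⟩, -⟩, -⟩ := h2
  exact (uStep_real H C hu (uStep_real H C hu (uStep_real H C hu (uStep_real H C hu h0))) c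
    (h5 c hc)).2

/-- The normaliser is transitive on the larger orbit. -/
theorem trans45 {c : ℕ} (hc : c ∈ u45) : ∃ g ∈ Mb, g ∈ Subgroup.normalizer (E1 H C : Set X) ∧
    op ρ g (nc s ν (u45.getD 0 0)) = nc s ν c := by
  have hu : ∀ c ∈ u45, c < 4096 := fun c hc =>
    (uList_spec H C ((orb_facts H C).2.2.2.2.2.2 c hc).1).1
  have h0 : ∀ d ∈ [u45.getD 0 0], d < 4096 ∧ ∃ g ∈ Mb,
      g ∈ Subgroup.normalizer (E1 H C : Set X) ∧ op ρ g (nc s ν (u45.getD 0 0)) = nc s ν d :=
    fun d hd => by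
      rw [List.mem_singleton] at hd
      subst hd
      exact ⟨hu _ (by decide +kernel), 1, one_mem _, one_mem _, rho_one ρ _⟩
  have h2 := orb_ok
  simp only [orbOK, Bool.and_eq_true, List.all_eq_true, mem_iff] at h2
  obtain ⟨⟨⟨⟨⟨⟨⟨⟨-, h85⟩, -⟩, -⟩, -⟩, -⟩, -⟩, -⟩, -⟩ := h2
  exact (uStep_real H C hu (uStep_real H C hu (uStep_real H C hu (uStep_real H C hu h0))) c
    (h85 c hc)).2

/-- Every singular vector is moved into the fixed space by the subgroup of index two. -/
theorem reach {v : V} (hq : q v = 0) : ∃ g ∈ Mb, op ρ g v ∈ Fix ρ (E1 H C) := by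
  obtain ⟨c, hc, rfl⟩ := exists_nc H C v
  have h0 := reach_ok
  simp only [reachOK, Bool.and_eq_true] at h0
  have key : ∀ k, k ≤ levels.length - 1 → ∀ c < 4096, inL k c = true →
      ∃ g ∈ Mb, op ρ g (nc s ν c) ∈ Fix ρ (E1 H C) := by
    intro k
    induction k with
    | zero =>
      intro _ c hc hin
      have h1 := allBelow_spec h0.1.1 c hc
      rw [hin, Bool.not_true, Bool.false_or, mem_iff] at h1
      exact ⟨1, one_mem _, by rw [rho_one]; exact (mem_Fix_E1 H C).2 ⟨c, h1, rfl⟩⟩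
    | succ k ih =>
      intro hk c hc hin
      have h1 := allBelow_spec (allBelow_spec h0.1.2 k hk) c hc
      rw [hin, Bool.not_true, Bool.false_or, Bool.or_eq_true, List.any_eq_true] at h1
      rcases h1 with h1 | ⟨m, hm, h1⟩
      · exact ih (by omega) c hc h1
      · obtain ⟨j, hj, rfl⟩ := List.mem_iff_getElem.1 hm
        obtain ⟨g, hg, e⟩ := ih (by omega) _ (app_lt _ _) h1
        obtain ⟨a, ha, ea⟩ := C.gens j (by have : genC.length = 4 := rfl; omega)
        rw [List.getD_eq_getElem _ _ hj] at ea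
        exact ⟨g * a, mul_mem hg ha, by rwa [rho_mul, acts_nc H C ea]⟩
  have hpar : qpar c = false := by
    rw [q_nc H C] at hq
    cases hh : qpar c
    · rfl
    · rw [hh, if_pos rfl] at hq
      exact absurd hq one_ne_zero
  have h2 := allBelow_spec h0.2 c hc
  rw [hpar, Bool.false_or] at h2
  exact key _ le_rfl c hc h2

/-- The bound. -/
theorem bound (hidx : Mb.index = 2) (hinv : ∀ t, t ∉ Mb → t * n * t⁻¹ = n⁻¹)
    {B : Subgroup X} (hB : EA B) (W : AddSubgroup V) (hW : W ≤ Fix ρ B) (hq : ∀ w ∈ W, q w = 0)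
    (hbig : 1024 ≤ Nat.card B * Nat.card W) :
    B ≤ Mb ∧ Nat.card B = 16 ∧ Nat.card W = 64 ∧
      ∃ g ∈ Mb, cj g B = E1 H C := by
  classical
  haveI : Finite V := Nat.finite_of_card_ne_zero (by rw [H.fx.card]; norm_num)
  have hW64 := card_sing H.fx W hq
  have hn2 : n⁻¹ = n * n := inv_eq_of_mul_eq_one_right (by
    rw [← pow_two, ← pow_succ', show 2 + 1 = 3 from rfl, ← H.order_n, pow_orderOf_eq_one])
  have hsemi : ∀ t, t ∉ Mb → ∀ w, op ρ t (op ρ n w) = op ρ n (op ρ n (op ρ t w)) := fun t ht w => by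
    rw [← rho_mul, ← rho_mul, ← rho_mul]
    congr 2
    rw [mul_inv_eq_iff_eq_mul.1 (hinv t ht), hn2]
  have hle : B ≤ Mb := by
    by_contra hno
    obtain ⟨t, htB, htM⟩ := SetLike.not_le_iff_exists.1 hno
    have hB0 : Nat.card ↥(B ⊓ Mb) ≤ 16 :=
      card_le_sixteen H C inf_le_right (hB.le inf_le_left).1 (hB.le inf_le_left).2
    have hBcard : Nat.card B ≤ 2 * Nat.card ↥(B ⊓ Mb) := by
      have h2 := Subgroup.card_mul_index (Mb.subgroupOf B)
      have h4 : (B ⊓ Mb).subgroupOf B = Mb.subgroupOf B := by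
        ext z; simp [Subgroup.mem_subgroupOf]
      rw [← Nat.card_congr (Subgroup.subgroupOfEquivOfLe (inf_le_left : B ⊓ Mb ≤ B)).toEquiv, h4,
        ← h2, mul_comm]
      refine Nat.mul_le_mul_right _ ?_
      refine le_trans ?_ hidx.le
      show Mb.relIndex B ≤ Mb.index
      haveI := Subgroup.normal_of_index_eq_two hidx
      exact Nat.le_of_dvd (by rw [hidx]; norm_num) (Mb.relIndex_dvd_index_of_normal B)
    have hWn : ∀ a ∈ W, ∀ b ∈ W, a + op ρ n b = 0 → a = 0 ∧ b = 0 := by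
      intro a ha b hb e
      have hab : op ρ n b = a := by
        have := congrArg (a + ·) e
        simpa [← add_assoc, H.fx.two] using this
      have h1 := hsemi t htM b
      rw [hW hb t htB, hab, hW ha t htB] at h1
      have h2 : op ρ n a = a := h1.symm
      have h3 := H.fx.rel a
      rw [h2, h2, H.fx.two, zero_add] at h3
      refine ⟨h3, ?_⟩
      rw [← H.fx.o_three b, hab, h3, map_zero, map_zero]
    let f : W × W → V := fun p => p.1.1 + op ρ n p.2.1
    have hf : Function.Injective f := by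
      intro p p' e
      have h0 : (p.1.1 + p'.1.1) + op ρ n (p.2.1 + p'.2.1) = 0 := by
        rw [map_add, add_add_add_comm]
        show f p + f p' = 0
        rw [e, H.fx.two]
      obtain ⟨z1, z2'⟩ := hWn _ (W.add_mem p.1.2 p'.1.2) _ (W.add_mem p.2.2 p'.2.2) h0
      have cancel : ∀ a b : V, a + b = 0 → a = b := fun a b e => by
        rw [← add_zero a, ← H.fx.two b, ← add_assoc, e, zero_add]
      exact Prod.ext (Subtype.ext (cancel _ _ z1)) (Subtype.ext (cancel _ _ z2'))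
    by_cases hB1 : B ⊓ Mb = ⊥
    · rw [hB1, Subgroup.card_bot] at hBcard
      have := Nat.mul_le_mul hBcard hW64
      omega
    · obtain ⟨b, hb1⟩ := Subgroup.ne_bot_iff_exists_ne_one.1 hB1
      obtain ⟨gg, hgg, hgT⟩ := exists_conj_T0 H C (inf_le_right : B ⊓ Mb ≤ Mb) (hB.le inf_le_left).pGroup
      obtain ⟨i, hi, hib⟩ := hgT (mem_cj_of (g := gg) b.2)
      have hib0 : i ≠ 0 := fun e => hb1 (Subtype.ext (conj_eq_one_iff.1 (by
        rw [hib, e, tau_zero H C])))
      have hii : i ∈ invs := by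
        have hsq : tau s ρ ν i * tau s ρ ν i = 1 := by
          rw [← hib, show gg * b * gg⁻¹ * (gg * b * gg⁻¹) = gg * ((b : X) * b) * gg⁻¹ by group,
            hB.1 _ b.2.1, mul_one, mul_inv_cancel]
        simp only [invs, List.mem_filter, List.mem_range, Bool.and_eq_true, Bool.not_eq_true']
        refine ⟨hi, ?_, ?_⟩
        · cases hh : Nat.beq i 0
          · rfl
          · exact absurd (Nat.eq_of_beq_eq_true hh) hib0
        · rw [Nat.beq_eq]
          exact tau_inj H C (tau_mul H C hi hi).1 (by norm_num)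
            (by rw [← (tau_mul H C hi hi).2, hsq, tau_zero H C])
      -- the image of the doubled space is fixed by the involution
      have hfx : ∀ p, op ρ (tau s ρ ν i) (op ρ gg (f p)) = op ρ gg (f p) := by
        intro p
        rw [← rho_mul, ← hib, inv_mul_cancel_right, rho_mul]
        congr 1
        show op ρ b (p.1.1 + op ρ n p.2.1) = _
        rw [map_add, hW p.1.2 _ b.2.1, ← rho_mul, H.comm_n _ b.2.2, rho_mul, hW p.2.2 _ b.2.1]
      have h256 : Nat.card (W × W) ≤ 256 := by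
        have hr := List.all_eq_true.1 rank_ok i hii
        simp only [List.any_eq_true, List.mem_range] at hr
        obtain ⟨a, ha, b', hb'', hr⟩ := hr
        let D : V →+ V := op ρ (tau s ρ ν i) + AddMonoidHom.id V
        have hker : ∀ p, op ρ gg (f p) ∈ D.ker := fun p => by
          show op ρ (tau s ρ ν i) _ + _ = 0
          rw [hfx p, AddMonoidHom.id_apply, H.fx.two]
        have hin : Function.Injective fun p => (⟨_, hker p⟩ : D.ker) := fun p p' e => by
          refine hf ?_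
          have h5 := congrArg (fun z : D.ker => op ρ gg⁻¹ z.1) e
          simpa [← rho_mul, rho_one] using h5
        refine (Nat.card_le_card_of_injective _ hin).trans ?_
        have h1 := AddSubgroup.card_mul_index D.ker
        rw [AddSubgroup.index_ker, H.fx.card] at h1
        suffices h16 : 16 ≤ Nat.card D.range by nlinarith
        let ca := Nat.xor (col (el i) a) (col idM a)
        let cb := Nat.xor (col (el i) b') (col idM b')
        have hd : ∀ j < 6, nc s ν (Nat.xor (col (el i) j) (col idM j)) ∈ D.range := by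
          intro j hj
          refine ⟨nc s ν (col idM j), ?_⟩
          show op ρ (tau s ρ ν i) _ + _ = _
          rw [op_tau_nc H C hi, AddMonoidHom.id_apply,
            show app (el i) (col idM j) = col (el i) j by
              refine vec_inj h (app_lt _ _) (col_lt _ _) ?_
              rw [vec_app h]
              funext r
              show ∑ l, matOf s (el i) r l * vec s (col idM j) l = _
              have e : ∀ l : Fin 6, vec s (col idM j) l = if (l : ℕ) = j then 1 else 0 := fun l => by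
                have := congrFun (congrFun (matOf_id (F := F) h) l) ⟨j, hj⟩
                rw [Matrix.one_apply] at this
                rw [show vec s (col idM j) l = _ from this]
                simp [Fin.ext_iff]
              rw [Finset.sum_eq_single ⟨j, hj⟩]
              · rw [e, if_pos rfl, mul_one]; rfl
              · intro l _ hl; rw [e, if_neg (fun e' => hl (Fin.ext e')), mul_zero]
              · exact fun hh => absurd (Finset.mem_univ _) hh]
          rw [nc, nc, nc, vec_xor h, C.add]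
        have hs : ∀ x < 4, ∀ {c}, c < 4096 → nc s ν c ∈ D.range → nc s ν (sel x c) ∈ D.range := by
          intro x hx4 c hc hmem
          have ho : ∀ w ∈ D.range, op ρ n w ∈ D.range := by
            rintro _ ⟨w, rfl⟩
            refine ⟨op ρ n w, ?_⟩
            show op ρ (tau s ρ ν i) _ + _ = op ρ n (op ρ (tau s ρ ν i) w + w)
            rw [map_add, ← rho_mul, H.comm_n _ (tau_mem H C hi), rho_mul]
            rfl
          have e : ∀ c, c < 4096 → nc s ν (scal c) = op ρ n (nc s ν c) := fun c hc => by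
            rw [nc, nc, vec_scal h hc, C.scalar]
          interval_cases x
          · rw [show sel 0 c = 0 from rfl, nc_zero H C]; exact D.range.zero_mem
          · exact hmem
          · rw [show sel 2 c = scal c from rfl, e c hc]; exact ho _ hmem
          · rw [show sel 3 c = scal (scal c) from rfl, e _ (scal_spec hc).1, e c hc]
            exact ho _ (ho _ hmem)
        let g16 : Fin 4 × Fin 4 → D.range := fun p =>
          ⟨nc s ν (Nat.xor (sel p.1 ca) (sel p.2 cb)), by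
            rw [nc, vec_xor h, C.add]
            exact D.range.add_mem (hs _ p.1.2 (xor_lt (col_lt _ _) (col_lt _ _)) (hd a ha))
              (hs _ p.2.2 (xor_lt (col_lt _ _) (col_lt _ _)) (hd b' hb''))⟩
        have hg16 : Function.Injective g16 := by
          intro p p' e
          have hlt : ∀ x, sel x ca < 4096 ∧ sel x cb < 4096 := fun x =>
            ⟨sel_lt _ (xor_lt (col_lt _ _) (col_lt _ _)), sel_lt _ (xor_lt (col_lt _ _) (col_lt _ _))⟩
          have e' := nc_inj H C (xor_lt (hlt _).1 (hlt _).2) (xor_lt (hlt _).1 (hlt _).2)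
            (congrArg Subtype.val e)
          have ev : vec s (sel p.1 ca) + vec s (sel p.2 cb) = vec s (sel p'.1 ca) + vec s (sel p'.2 cb) := by
            rw [← vec_xor h, ← vec_xor h, e']
          have hdx : ∀ x y : Fin 4, (Nat.xor (x : ℕ) y) < 4 ∧
              (Nat.xor (x : ℕ) y = 0 → x = y) := by decide +kernel
          obtain ⟨hx4, hx0⟩ := hdx p.1 p'.1
          obtain ⟨hy4, hy0⟩ := hdx p.2 p'.2
          have h7 := allBelow_spec (allBelow_spec hr _ hx4) _ hy4
          simp only [Bool.or_eq_true, Bool.and_eq_true, Nat.beq_eq] at h7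
          rcases h7 with ⟨hx, hy⟩ | h7
          · exact Prod.ext (hx0 hx) (hy0 hy)
          · exfalso
            have hz : vec s (Nat.xor (sel (Nat.xor p.1 p'.1) ca) (sel (Nat.xor p.2 p'.2) cb)) = vec s 0 := by
              have hls : ∀ (x y : Fin 4) (c : ℕ), c < 4096 →
                  vec s (sel (Nat.xor x y) c) = vec s (sel x c) + vec s (sel y c) := fun x y c hc => by
                rw [vec_sel h (hdx x y).1 hc, vec_sel h x.2 hc, vec_sel h y.2 hc, iota_xor h x.2 y.2,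
                  add_smul]
              rw [vec_xor h, hls _ _ _ (xor_lt (col_lt _ _) (col_lt _ _)),
                hls _ _ _ (xor_lt (col_lt _ _) (col_lt _ _)), vec_zero, add_add_add_comm, ev]
              funext r
              rw [Pi.add_apply, ← two_mul, h.two, zero_mul]
              rfl
            have h8 := vec_inj h (xor_lt (sel_lt _ (xor_lt (col_lt _ _) (col_lt _ _)))
              (sel_lt _ (xor_lt (col_lt _ _) (col_lt _ _)))) (by norm_num) hz
            rw [Bool.not_eq_true', Bool.eq_false_iff] at h7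
            exact h7 (by rw [Nat.beq_eq]; exact h8)
        have := Nat.card_le_card_of_injective g16 hg16
        rwa [Nat.card_prod, Nat.card_fin] at this
      rw [Nat.card_prod] at h256
      have h16 : Nat.card W ≤ 16 := by
        by_contra hlt
        push Not at hlt
        nlinarith
      have := Nat.mul_le_mul (hBcard.trans (Nat.mul_le_mul_left 2 hB0)) h16
      omega
  have h16 := card_le_sixteen H C hle hB.1 hB.2
  have hb16 : Nat.card B = 16 ∧ Nat.card W = 64 := by constructor <;> nlinarith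
  refine ⟨hle, hb16.1, hb16.2, ?_⟩
  obtain ⟨g, hg, hgT⟩ := exists_conj_T0 H C hle hB.pGroup
  refine ⟨g, hg, eq_E1 H C hgT (hB.cj g) (by rw [card_cj, hb16.1]) (W.map (op ρ g)) ?_ ?_⟩
  · rintro _ ⟨w, hw, rfl⟩
    exact Fix_cj (hW hw)
  · rw [Nat.card_congr (AddSubgroup.equivMapOfInjective W (op ρ g) fun a b e => by
      simpa [← rho_mul, rho_one] using congrArg (op ρ g⁻¹) e).toEquiv.symm, hb16.2]
    norm_num


end

end Cfsg.Agent.J4Syl18
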