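import Mathlib
import Cfsg.Agent.Lib.JFourSetting97
import Cfsg.Agent.Lib.FischerFrameSetting18
import Cfsg.Agent.Lib.J4Coord85

/-!
The orthogonal module of the centraliser quotient in a group of Janko-four type, with coordinates
in which the centraliser of the subgroup of order three is the coded cover of `M22`.
-/

set_option autoImplicit false
set_option linter.style.haveILetI false
set_option linter.unusedSectionVars false
set_option maxHeartbeats 800000

namespace Cfsg.Agent.JFourModule85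

open Subgroup Cfsg.Agent.LargeExtraspecial Cfsg.Agent.FischerFrame18 Cfsg.Agent.JFourSetting97

attribute [local instance] Classical.propDecidable

universe u

variable {G : Type u} [Group G] [Finite G]

/-- The largest normal 2-subgroup inside the centraliser. -/
abbrev QQ (z : G) : Subgroup ↥(HH z) := Cfsg.pCore 2 ↥(HH z)

/-- The quotient by it. -/
abbrev mk (z : G) [(QQ z).Normal] : ↥(HH z) →* ↥(HH z) ⧸ QQ z := QuotientGroup.mk' (QQ z)

instance (z : G) : (QQ z).Normal := HallCore.pCore_normal 2 _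

/-- The data of the centraliser quotient. -/
structure Data (z : G) (P : Subgroup G) {V : Type u} [AddCommGroup V] (zc : ↥(HH z))
    (π : ↥(HH z) → V) (ρ : ↥(HH z) ⧸ QQ z →* AddMonoid.End V) (q : V → ZMod 2)
    (n : ↥(HH z) ⧸ QQ z) (Mb : Subgroup (↥(HH z) ⧸ QQ z)) : Prop where
  zc_val : (zc : G) = z
  zc_central : ∀ h, h * zc = zc * h
  ext : Ext (QQ z) zc
  self_cent : ∀ c, (∀ x ∈ QQ z, c * x = x * c) → c = 1 ∨ c = zc
  card_Q : Nat.card (QQ z) = 2 ^ 13
  card_X : Nat.card (↥(HH z) ⧸ QQ z) = 3 * 887040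
  orth : OrthMod ρ q
  link : Link (QQ z) zc π ρ q
  n_lift : ∃ p : ↥(HH z), zpowers (p : G) = P ∧ orderOf (p : G) = 3 ∧ mk z p = n
  Mb_eq : Mb = ((KK z P).subgroupOf (HH z)).map (mk z)
  index_two : Mb.index = 2
  invert : ∀ g, g ∉ Mb → g * n * g⁻¹ = n⁻¹
  normal_n : ∀ g, g * n * g⁻¹ = n ∨ g * n * g⁻¹ = n⁻¹
  hyp : J4Coord85.Hyp ρ q n Mb

theorem mk_eq {z : G} (a b : ↥(HH z)) : mk z a = mk z b ↔ a⁻¹ * b ∈ QQ z := QuotientGroup.eq

theorem mem_E {z : G} {x : ↥(HH z)} : (x : G) ∈ Cfsg.twoCoreOfCentralizer z ↔ x ∈ QQ z :=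
  Subgroup.mem_map_iff_mem (Subgroup.subtype_injective _)

theorem exists_data {z : G} {P : Subgroup G} (hJ : Cfsg.IsOfJankoFourTypeWith z P) :
    ∃ (V : Type u) (_ : AddCommGroup V) (zc : ↥(HH z)) (π : ↥(HH z) → V)
      (ρ : ↥(HH z) ⧸ QQ z →* AddMonoid.End V) (q : V → ZMod 2) (n : ↥(HH z) ⧸ QQ z)
      (Mb : Subgroup (↥(HH z) ⧸ QQ z)), Data z P zc π ρ q n Mb := by
  obtain ⟨N, p, D⟩ := exists_pack hJ
  obtain ⟨-, hE, -, hself, -⟩ := hJ
  obtain ⟨z₁, hext, -, -⟩ := exists_ext hE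
  have hzE := z_mem D
  have hz1 : z₁ = z := by
    rcases hext.central hzE fun x hx => by
      obtain ⟨y, -, rfl⟩ := hx
      exact mem_centralizer_singleton_iff.1 y.2 with e | e
    · exact absurd D.hz (by rw [e]; simp)
    · exact e.symm
  subst hz1
  let zc : ↥(HH z₁) := ⟨z₁, mem_centralizer_singleton_iff.2 rfl⟩
  have hEQ : Ext (QQ z₁) zc := by
    refine ⟨mem_E.1 hext.mem, fun e => hext.ne_one (congrArg Subtype.val e), Subtype.ext hext.zz,
      fun x hx => Subtype.ext (hext.comm _ (mem_E.2 hx)), fun x hx => ?_, fun x hx y hy => ?_,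
      fun x hx h1 h2 => ?_⟩
    · rcases hext.sq _ (mem_E.2 hx) with e | e
      · exact Or.inl (Subtype.ext e)
      · exact Or.inr (Subtype.ext e)
    · rcases hext.conj _ (mem_E.2 hx) _ (mem_E.2 hy) with e | e
      · exact Or.inl (Subtype.ext e)
      · exact Or.inr (Subtype.ext e)
    · obtain ⟨y, hy, e⟩ := hext.partner _ (mem_E.2 hx) (fun e => h1 (Subtype.ext e))
        (fun e => h2 (Subtype.ext e))
      obtain ⟨y', hy', rfl⟩ := hy
      exact ⟨y', hy', Subtype.ext e⟩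
  have hcen : ∀ h : ↥(HH z₁), h * zc = zc * h := fun h =>
    Subtype.ext (mem_centralizer_singleton_iff.1 h.2)
  have hcc : ∀ c : ↥(HH z₁), (∀ x ∈ QQ z₁, c * x = x * c) → c = 1 ∨ c = zc := by
    intro c hc
    have hcE : (c : G) ∈ Cfsg.twoCoreOfCentralizer z₁ := by
      refine hself ⟨c.2, ?_⟩
      rintro _ ⟨x, hx, rfl⟩
      exact congrArg Subtype.val (hc x hx).symm
    rcases hext.central hcE fun x hx => by
      obtain ⟨x', hx', rfl⟩ := hx
      exact (congrArg Subtype.val (hc x' hx')).symm with e | e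
    · exact Or.inl (Subtype.ext e)
    · exact Or.inr (Subtype.ext e)
  have hcardQ : Nat.card (QQ z₁) = 2 ^ 13 := by
    rw [← D.cardE]
    exact (Subgroup.card_map_of_injective (Subgroup.subtype_injective _)).symm
  obtain ⟨V, _, π, ρ, q, hO, hL⟩ := exists_module (QQ z₁) hEQ hcen hcc hcardQ
  let pH : ↥(HH z₁) := ⟨p, PH D (p_mem D)⟩
  set n := mk z₁ pH with hn
  set Kh := (KK z₁ P).subgroupOf (HH z₁) with hKh
  set Nh := (NP z₁ P).subgroupOf (HH z₁) with hNh
  have hzp : z₁ ∈ KK z₁ P := zp_KK D (z_zp D)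
  -- intersections with the kernel
  have hmeet : ∀ x : ↥(HH z₁), x ∈ QQ z₁ → (x : G) ∈ normalizer (P : Set G) → x = 1 ∨ x = zc := by
    intro x hx hnorm
    rcases hext.eq_of_mem_zpowers (E_inf_NP D (mem_E.2 hx) hnorm) with e | e
    · exact Or.inl (Subtype.ext e)
    · exact Or.inr (Subtype.ext e)
  have hker2 : ∀ S : Subgroup G, z₁ ∈ S → S ≤ NP z₁ P →
      Nat.card ((S.subgroupOf (HH z₁)).map (mk z₁)) * 2 = Nat.card S := by
    intro S hzS hS
    set Sh := S.subgroupOf (HH z₁) with hSh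
    have hk : Nat.card ((mk z₁).comp Sh.subtype).ker = 2 := by
      rw [Nat.card_eq_two_iff' (1 : ((mk z₁).comp Sh.subtype).ker)]
      refine ⟨⟨⟨zc, hzS⟩, (QuotientGroup.eq_one_iff zc).2 hEQ.mem⟩,
        fun e => hEQ.ne_one (congrArg (fun a => (a.1 : ↥(HH z₁))) e), fun y hy => ?_⟩
      have hyQ : (y.1 : ↥(HH z₁)) ∈ QQ z₁ := (QuotientGroup.eq_one_iff _).1 y.2
      rcases hmeet _ hyQ (hS y.1.2).2 with e | e
      · exact absurd (Subtype.ext (Subtype.ext e)) hy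
      · exact Subtype.ext (Subtype.ext e)
    have h := Subgroup.card_mul_index ((mk z₁).comp Sh.subtype).ker
    rw [hk, Subgroup.index_ker, MonoidHom.range_comp, Subgroup.range_subtype,
      Nat.card_congr (Subgroup.subgroupOfEquivOfLe (hS.trans inf_le_left)).toEquiv, mul_comm] at h
    exact h
  have hcX : Nat.card (↥(HH z₁) ⧸ QQ z₁) = 3 * 887040 := by
    have h := Subgroup.card_eq_card_quotient_mul_card_subgroup (QQ z₁)
    rw [card_HH D, hcardQ] at h
    omega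
  have hNtop : Nh.map (mk z₁) = ⊤ := by
    apply Subgroup.eq_top_of_card_eq
    have h := hker2 (NP z₁ P) (KK_le_NP D hzp) le_rfl
    rw [card_NP D, ← hNh] at h
    rw [hcX]
    omega
  have hcardMb : Nat.card (Kh.map (mk z₁)) = 3 * 443520 := by
    have h := hker2 (KK z₁ P) hzp (KK_le_NP D)
    rw [card_KK D, ← hKh] at h
    omega
  have hindex : (Kh.map (mk z₁)).index = 2 := by
    have h := Subgroup.card_mul_index (Kh.map (mk z₁))
    rw [hcX, hcardMb] at h
    omega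
  have hp3 : p ^ 3 = 1 := by rw [← D.ord]; exact pow_orderOf_eq_one p
  have hpP : ∀ a ∈ P, a = 1 ∨ a = p ∨ a = p ^ 2 := by
    intro a ha
    rw [← D.gen] at ha
    obtain ⟨i, rfl⟩ := mem_powers_iff_mem_zpowers.2 ha
    show p ^ i = 1 ∨ p ^ i = p ∨ p ^ i = p ^ 2
    rw [pow_eq_pow_mod i hp3]
    have := Nat.mod_lt i (show 3 > 0 by norm_num)
    generalize i % 3 = r at this ⊢
    interval_cases r <;> simp
  have hn3 : n ^ 3 = 1 := by
    rw [hn, ← map_pow, show pH ^ 3 = 1 from Subtype.ext hp3, map_one]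
  have hconj : ∀ g, g ∈ Kh.map (mk z₁) ∧ g * n = n * g ∨ g * n * g⁻¹ = n⁻¹ := by
    intro g
    obtain ⟨h, hh, rfl⟩ : g ∈ Nh.map (mk z₁) := hNtop ▸ Subgroup.mem_top g
    have hh' : (h : G) ∈ NP z₁ P := hh
    have hc : (h : G) * p * (h : G)⁻¹ ∈ P := (mem_normalizer_iff.1 hh'.2 p).1 (p_mem D)
    rcases hpP _ hc with e | e | e
    · rw [mul_inv_eq_one, mul_eq_left] at e
      have := D.ord
      rw [e] at this
      simp at this
    · left
      have hcomm : (h : G) * p = p * h := mul_inv_eq_iff_eq_mul.1 e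
      refine ⟨⟨h, ⟨h.2, ?_⟩, rfl⟩, ?_⟩
      · intro a ha
        rw [SetLike.mem_coe, ← D.gen] at ha
        obtain ⟨i, rfl⟩ := mem_zpowers_iff.1 ha
        exact ((show Commute (h : G) p from hcomm).zpow_right i).eq.symm
      · rw [hn, ← map_mul, ← map_mul]
        exact congrArg (mk z₁) (Subtype.ext hcomm)
    · right
      rw [hn, ← map_inv, ← map_inv, ← map_mul, ← map_mul]
      refine congrArg (mk z₁) (Subtype.ext ?_)
      show (h : G) * p * (h : G)⁻¹ = p⁻¹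
      rw [e, eq_inv_iff_mul_eq_one, ← pow_succ, hp3]
  have hcommMb : ∀ m ∈ Kh.map (mk z₁), m * n = n * m := by
    rintro _ ⟨k, hk, rfl⟩
    rw [hn, ← map_mul, ← map_mul]
    exact congrArg (mk z₁) (Subtype.ext ((mem_centralizer_iff.1 hk.2 p (p_mem D)).symm))
  have hno : orderOf n = 3 := by
    haveI : Fact (Nat.Prime 3) := ⟨Nat.prime_three⟩
    refine orderOf_eq_prime hn3 fun e => ?_
    rw [hn] at e
    have hE := mem_E.2 ((QuotientGroup.eq_one_iff pH).1 e)
    have h2 : orderOf p ∣ 2 ^ 13 := D.cardE ▸ Subgroup.orderOf_dvd_natCard _ hE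
    rw [D.ord] at h2
    norm_num at h2
  have hninv : ∀ v, ρ n (ρ n (ρ n v)) = v := fun v => by
    show ((ρ n * (ρ n * ρ n)) : AddMonoid.End V) v = v
    rw [← map_mul, ← map_mul, show n * (n * n) = 1 by rw [← hn3, pow_succ, pow_two, mul_assoc], map_one]
    rfl
  have hfix : ∀ v, ρ n v = v → v = 0 := by
    intro v hv
    obtain ⟨x, hx, rfl⟩ := hL.surj v
    have hxz : x * zc = zc * x := hEQ.comm x hx
    rw [hn, show mk z₁ pH = (pH : ↥(HH z₁) ⧸ QQ z₁) from rfl, ← hL.equiv pH x hx] at hv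
    have hx' : pH * x * pH⁻¹ ∈ QQ z₁ := (inferInstance : (QQ z₁).Normal).conj_mem x hx pH
    have hcases : pH * x * pH⁻¹ = x ∨ pH * x * pH⁻¹ = zc * x := by
      have h0 : π (pH * x * pH⁻¹ * x⁻¹) = 0 := by
        have h1 := hL.add _ (mul_mem hx' (inv_mem hx)) _ hx
        rw [inv_mul_cancel_right, hv, right_eq_add] at h1
        exact h1
      rcases (hL.ker _ (mul_mem hx' (inv_mem hx))).1 h0 with e | e
      · exact Or.inl (mul_inv_eq_one.1 e)
      · exact Or.inr (mul_inv_eq_iff_eq_mul.1 e)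
    rcases hcases with e | e
    · refine (hL.ker x hx).2 (hmeet x hx (Subgroup.centralizer_le_normalizer _ ?_))
      intro a ha
      rw [SetLike.mem_coe, ← D.gen] at ha
      obtain ⟨i, rfl⟩ := mem_zpowers_iff.1 ha
      have hc : (x : G) * p = p * (x : G) :=
        (congrArg Subtype.val (mul_inv_eq_iff_eq_mul.1 e)).symm
      exact ((show Commute (x : G) p from hc).zpow_right i).eq.symm
    · exfalso
      have c1 : pH * (zc * x) * pH⁻¹ = x := by
        rw [← mul_assoc, hcen pH, mul_assoc zc, mul_assoc zc, e, ← mul_assoc, hEQ.zz, one_mul]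
      have h2 : pH * pH * pH * x * (pH * pH * pH)⁻¹ = zc * x := by
        rw [show pH * pH * pH * x * (pH * pH * pH)⁻¹ =
          pH * (pH * (pH * x * pH⁻¹) * pH⁻¹) * pH⁻¹ by group, e, c1, e]
      have hp : pH * pH * pH = 1 := by
        rw [← pow_two, ← pow_succ]; exact Subtype.ext hp3
      rw [hp, one_mul, inv_one, mul_one, right_eq_mul] at h2
      exact hEQ.ne_one h2
  have hfx : LFForm89.Fx (J4Coord85.op ρ n) q := by
    refine ⟨hO.two, hO.card, fun v => ?_, hO.addl, hO.nondeg, hO.inv n⟩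
    refine hfix _ ?_
    show ρ n (ρ n (ρ n v) + ρ n v + v) = ρ n (ρ n v) + ρ n v + v
    rw [map_add, map_add, hninv]
    abel
  obtain ⟨f, hfs, hfk, -⟩ := JFourSetting97.exists_hom D
  let τ : ↥(KK z₁ P) →* ↥(Kh.map (mk z₁)) :=
    ((mk z₁).comp (Subgroup.inclusion inf_le_left)).codRestrict _ fun k =>
      ⟨Subgroup.inclusion inf_le_left k, k.2, rfl⟩
  have hτs : Function.Surjective τ := by
    rintro ⟨_, k, hk, rfl⟩
    exact ⟨⟨k, hk⟩, rfl⟩
  have hτk : τ.ker ≤ f.ker := by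
    intro k hk
    rw [hfk, Subgroup.mem_subgroupOf]
    have hkQ : Subgroup.inclusion inf_le_left k ∈ QQ z₁ :=
      (QuotientGroup.eq_one_iff _).1 (congrArg Subtype.val hk)
    rcases hmeet _ hkQ (KK_le_NP D k.2).2 with e | e
    · rw [show (k : G) = 1 from congrArg Subtype.val e]; exact one_mem _
    · rw [show (k : G) = z₁ from congrArg Subtype.val e]; exact z_zp D
  let g := τ.liftOfSurjective hτs ⟨f, hτk⟩
  have hg : ∀ k, g (τ k) = f k := fun k =>
    MonoidHom.liftOfRightInverse_comp_apply τ _ (Function.rightInverse_surjInv hτs) ⟨f, hτk⟩ k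
  refine ⟨V, inferInstance, zc, π, ρ, q, n, Kh.map (mk z₁),
    ⟨rfl, hcen, hEQ, hcc, hcardQ, hcX, hO, hL, ⟨pH, D.gen, D.ord, rfl⟩, rfl, hindex, ?_, ?_,
      ⟨hfx, hO.faith, hO.inv, hno, ⟨pH, zp_KK D (P_zp D (p_mem D)), rfl⟩, hcommMb, g, ?_, ?_⟩⟩⟩
  · intro a ha
    rcases hconj a with ⟨h, -⟩ | h
    · exact absurd h ha
    · exact h
  · intro a
    rcases hconj a with ⟨-, h⟩ | h
    · exact Or.inl (mul_inv_eq_iff_eq_mul.2 h)
    · exact Or.inr h
  · intro m
    obtain ⟨k, rfl⟩ := hfs m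
    exact ⟨τ k, hg k⟩
  · intro m
    obtain ⟨k, rfl⟩ := hτs m
    rw [hg, ← MonoidHom.mem_ker, hfk, Subgroup.mem_subgroupOf]
    have hzq : mk z₁ zc = 1 := (QuotientGroup.eq_one_iff zc).2 hEQ.mem
    constructor
    · intro hk
      obtain ⟨i, hi⟩ := mem_zpowers_iff.1 hk
      refine mem_zpowers_iff.2 ⟨i, ?_⟩
      have e : Subgroup.inclusion inf_le_left k = (zc * pH) ^ i :=
        Subtype.ext (by rw [SubgroupClass.coe_zpow]; exact hi.symm)
      show n ^ i = mk z₁ _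
      rw [e, map_zpow, map_mul, hzq, one_mul]
    · intro hk
      obtain ⟨i, hi⟩ := mem_zpowers_iff.1 hk
      have e : mk z₁ (pH ^ i) = mk z₁ (Subgroup.inclusion inf_le_left k) := by
        rw [map_zpow]; exact hi
      have hmem := (mk_eq _ _).1 e
      have hn1 : (((pH ^ i)⁻¹ * Subgroup.inclusion inf_le_left k : ↥(HH z₁)) : G) ∈
          normalizer (P : Set G) := by
        rw [Subgroup.coe_mul, InvMemClass.coe_inv, SubgroupClass.coe_zpow]
        exact mul_mem (inv_mem (zpow_mem (Subgroup.le_normalizer (p_mem D)) i))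
          (KK_le_NP D k.2).2
      have hp' : p ^ i ∈ zpowers (z₁ * p) := zpow_mem (P_zp D (p_mem D)) i
      rcases hmeet _ hmem hn1 with e' | e'
      · rw [show (k : G) = p ^ i by
          have := congrArg Subtype.val e'
          rw [Subgroup.coe_mul, InvMemClass.coe_inv, SubgroupClass.coe_zpow, OneMemClass.coe_one,
            inv_mul_eq_one] at this
          exact this.symm]
        exact hp'
      · rw [show (k : G) = p ^ i * z₁ by
          have := congrArg Subtype.val e'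
          rw [Subgroup.coe_mul, InvMemClass.coe_inv, SubgroupClass.coe_zpow, inv_mul_eq_iff_eq_mul] at this
          exact this]
        exact mul_mem hp' (z_zp D)

theorem exists_coord {z : G} {P : Subgroup G} {V : Type u} [AddCommGroup V] {zc : ↥(HH z)}
    {π : ↥(HH z) → V} {ρ : ↥(HH z) ⧸ QQ z →* AddMonoid.End V} {q : V → ZMod 2}
    {n : ↥(HH z) ⧸ QQ z} {Mb : Subgroup (↥(HH z) ⧸ QQ z)} (D : Data z P zc π ρ q n Mb)
    {F : Type} [Field F] [Fintype F] {s : F} (h : U62Mon93.S4 s) :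
    ∃ (ν : (Fin 6 → F) → V) (f : Mb →* Cfsg.Spor.M22) (x y v : ↥(HH z)) (hx : mk z x ∈ Mb)
      (hy : mk z y ∈ Mb) (hv : mk z v ∈ Mb),
      J4Coord85.Frame s ρ q n ν ∧ Function.Surjective f ∧
      (∀ m : Mb, f m = 1 ↔ (m : ↥(HH z) ⧸ QQ z) ∈ Subgroup.zpowers n) ∧
      (x : G) ∈ KK z P ∧ (y : G) ∈ KK z P ∧ (v : G) ∈ KK z P ∧
      f ⟨mk z x, hx⟩ = GolayOutM22.gT ∧ f ⟨mk z y, hy⟩ = GolayOutM22.gU ∧
      f ⟨mk z v, hv⟩ = GolayOutM22.gV ∧
      mk z x ^ 11 = 1 ∧ mk z y ^ 5 = 1 ∧ mk z v ^ 4 = 1 ∧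
      J4Coord85.Acts ρ ν (mk z x) (LFMat89.matOf s J4Code85.cX) ∧
      J4Coord85.Acts ρ ν (mk z y) (LFMat89.matOf s J4Code85.cY) ∧
      J4Coord85.Acts ρ ν (mk z v) (LFMat89.matOf s J4Code85.cV) ∧
      J4Coord85.Acts ρ ν n (LFMat89.matOf s J4Code85.cS) ∧
      Subgroup.closure ({n, mk z x, mk z v} : Set (↥(HH z) ⧸ QQ z)) = Mb := by
  haveI : Finite (↥(HH z) ⧸ QQ z) := inferInstance
  obtain ⟨ν, f, x, y, v, hν, hs, hk, hx, hy, hv, hx11, hy5, hv4, aX, aY, aV, aS, hcl⟩ :=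
    J4Coord85.exists_coord D.hyp h
  have hl : ∀ m : Mb, ∃ k : ↥(HH z), (k : G) ∈ KK z P ∧ mk z k = (m : ↥(HH z) ⧸ QQ z) := fun m => by
    obtain ⟨k, hk, e⟩ : (m : ↥(HH z) ⧸ QQ z) ∈ ((KK z P).subgroupOf (HH z)).map (mk z) :=
      D.Mb_eq ▸ m.2
    exact ⟨k, hk, e⟩
  obtain ⟨a, ha, ea⟩ := hl x
  obtain ⟨b, hb, eb⟩ := hl y
  obtain ⟨c, hc, ec⟩ := hl v
  refine ⟨ν, f, a, b, c, ea ▸ x.2, eb ▸ y.2, ec ▸ v.2, hν, hs, hk, ha, hb, hc, ?_, ?_, ?_, ?_, ?_, ?_,
    ea ▸ aX, eb ▸ aY, ec ▸ aV, aS, ?_⟩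
  · rw [← hx]; exact congrArg f (Subtype.ext ea)
  · rw [← hy]; exact congrArg f (Subtype.ext eb)
  · rw [← hv]; exact congrArg f (Subtype.ext ec)
  · rw [ea, ← SubmonoidClass.coe_pow, hx11]; rfl
  · rw [eb, ← SubmonoidClass.coe_pow, hy5]; rfl
  · rw [ec, ← SubmonoidClass.coe_pow, hv4]; rfl
  · rw [ea, ec]; exact hcl

end Cfsg.Agent.JFourModule85
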