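import Mathlib
import Cfsg.Agent.Lib.J4Syl18
import Cfsg.Agent.Lib.JFourModule85

/-!
The elementary abelian subgroups of order `2 ^ 11` of the centralizer of the involution in a group
of Janko-four type.
-/

set_option autoImplicit false
set_option linter.unusedSectionVars false
set_option linter.style.haveILetI false
set_option maxHeartbeats 800000

namespace Cfsg.Agent.J4Elem85

open Subgroup Cfsg.Agent.LargeExtraspecial Cfsg.Agent.U62Mon93
  Cfsg.Agent.LFForm89 Cfsg.Agent.J4Coord85 Cfsg.Agent.J4Syl18 Cfsg.Agent.JFourSetting97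
  Cfsg.Agent.JFourModule85

universe u

/-- A subgroup of exponent two is elementary abelian. -/
theorem ea_of_sq {X : Type*} [Group X] {B : Subgroup X} (h : ∀ x ∈ B, x * x = 1) : EA B := by
  refine ⟨h, fun x hx y hy => ?_⟩
  have inv : ∀ w ∈ B, w⁻¹ = w := fun w hw => inv_eq_of_mul_eq_one_right (h w hw)
  calc x * y = (x * y)⁻¹ := (inv _ (mul_mem hx hy)).symm
    _ = y * x := by rw [mul_inv_rev, inv x hx, inv y hy]

/-- The order is the product of the order of the kernel part and the order of the image. -/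
theorem card_eq_mul {X : Type*} [Group X] [Finite X] (Q : Subgroup X) [Q.Normal] (B : Subgroup X) :
    Nat.card B = Nat.card ↥(B ⊓ Q) * Nat.card (B.map (QuotientGroup.mk' Q)) := by
  have h := Subgroup.card_mul_index ((QuotientGroup.mk' Q).comp B.subtype).ker
  rw [Subgroup.index_ker, MonoidHom.range_comp, Subgroup.range_subtype] at h
  rw [← h]
  congr 1
  have e : ((QuotientGroup.mk' Q).comp B.subtype).ker = (B ⊓ Q).subgroupOf B := by
    ext x
    simp [Subgroup.mem_subgroupOf, MonoidHom.mem_ker, QuotientGroup.eq_one_iff]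
  rw [e]
  exact Nat.card_congr (Subgroup.subgroupOfEquivOfLe inf_le_left).toEquiv

variable {G : Type u} [Group G] [Finite G] {z : G} {P : Subgroup G}
variable {V : Type u} [AddCommGroup V] {zc : ↥(HH z)}
  {π : ↥(HH z) → V} {ρ : ↥(HH z) ⧸ QQ z →* AddMonoid.End V}
  {q : V → ZMod 2} {n : ↥(HH z) ⧸ QQ z}
  {Mb : Subgroup (↥(HH z) ⧸ QQ z)}

section Basics

variable (D : Data z P zc π ρ q n Mb)
include D

theorem hyp : Hyp ρ q n Mb := D.hyp

theorem pi_one : π 1 = 0 := (D.link.ker 1 (QQ z).one_mem).2 (Or.inl rfl)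

theorem pi_inv {x : ↥(HH z)} (hx : x ∈ (QQ z)) : π x⁻¹ = π x := by
  have e := D.link.add x hx x⁻¹ (inv_mem hx)
  rw [mul_inv_cancel, pi_one D] at e
  rw [← zero_add (π x⁻¹), ← D.orth.two (π x), add_assoc, ← e, add_zero]

theorem pi_eq {x y : ↥(HH z)} (hx : x ∈ (QQ z)) (hy : y ∈ (QQ z)) (e : π x = π y) :
    y = x ∨ y = x * zc := by
  have h := (D.link.ker _ (mul_mem (inv_mem hx) hy)).1 (by
    rw [D.link.add _ (inv_mem hx) _ hy, pi_inv D hx, e, D.orth.two])
  rcases h with h | h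
  · exact Or.inl (inv_mul_eq_one.1 h).symm
  · exact Or.inr (eq_mul_of_inv_mul_eq h)

theorem comm_iff {x y : ↥(HH z)} (hx : x ∈ (QQ z)) (hy : y ∈ (QQ z)) :
    x * y = y * x ↔ pol q (π x) (π y) = 0 := by
  have h := D.link.polar x hx y hy
  change pol q (π x) (π y) = _ at h
  rw [h]
  split_ifs with hc <;> simp [hc]

theorem sq_iff {x : ↥(HH z)} (hx : x ∈ (QQ z)) : x * x = 1 ↔ q (π x) = 0 := by
  rw [D.link.qval x hx]
  split_ifs with hc <;> simp [hc]

theorem act (h : ↥(HH z)) {x : ↥(HH z)} (hx : x ∈ (QQ z)) :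
    π (h * x * h⁻¹) = op ρ (mk z h) (π x) :=
  D.link.equiv h x hx

theorem finiteV : Finite V := Nat.finite_of_card_ne_zero (by rw [D.orth.card]; norm_num)

end Basics

/-- The image in the module of the part of a subgroup inside `(QQ z)`. -/
def piIm (D : Data z P zc π ρ q n Mb) (B : Subgroup (↥(HH z))) : AddSubgroup V where
  carrier := {v | ∃ x ∈ B ⊓ (QQ z), π x = v}
  zero_mem' := ⟨1, one_mem _, pi_one D⟩
  add_mem' := fun {a b} ⟨x, hx, ea⟩ ⟨y, hy, eb⟩ =>
    ⟨x * y, mul_mem hx hy, by rw [D.link.add x hx.2 y hy.2, ea, eb]⟩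
  neg_mem' := fun {a} ⟨x, hx, ea⟩ => ⟨x, hx, by
    rw [ea, eq_neg_iff_add_eq_zero, D.orth.two]⟩

/-- The preimage in `(QQ z)` of a subspace. -/
def Qf (D : Data z P zc π ρ q n Mb) (U : AddSubgroup V) : Subgroup (↥(HH z)) where
  carrier := {x | x ∈ (QQ z) ∧ π x ∈ U}
  one_mem' := ⟨(QQ z).one_mem, by rw [pi_one D]; exact U.zero_mem⟩
  mul_mem' := fun {a b} ha hb => ⟨mul_mem ha.1 hb.1, by
    rw [D.link.add a ha.1 b hb.1]; exact U.add_mem ha.2 hb.2⟩
  inv_mem' := fun {a} ha => ⟨inv_mem ha.1, by rw [pi_inv D ha.1]; exact ha.2⟩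

/-- The elements over `E` centralising the preimage of the fixed space of `E`. -/
def AE (D : Data z P zc π ρ q n Mb) (E : Subgroup (↥(HH z) ⧸ QQ z)) :
    Subgroup (↥(HH z)) :=
  E.comap (mk z) ⊓
    centralizer ((Qf D (J4Syl18.Fix ρ E) : Subgroup (↥(HH z))) : Set (↥(HH z)))

section Counting

variable (D : Data z P zc π ρ q n Mb)
include D

theorem mem_AE {E : Subgroup (↥(HH z) ⧸ QQ z)} {h : ↥(HH z)} :
    h ∈ AE D E ↔ mk z h ∈ E ∧
      ∀ x ∈ Qf D (J4Syl18.Fix ρ E), x * h = h * x := by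
  rw [AE, Subgroup.mem_inf, Subgroup.mem_comap, Subgroup.mem_centralizer_iff]
  rfl

theorem card_piIm (B : Subgroup (↥(HH z))) :
    Nat.card ↥(B ⊓ (QQ z)) ≤ 2 * Nat.card (piIm D B) := by
  classical
  haveI := finiteV D
  choose r hr hrπ using fun v : piIm D B => v.2
  let v : ↥(B ⊓ (QQ z)) → piIm D B := fun x => ⟨π x, x, x.2, rfl⟩
  let f : ↥(B ⊓ (QQ z)) → Fin 2 × piIm D B := fun x =>
    (if (x : ↥(HH z)) = r (v x) then 0 else 1, v x)
  have hf : Function.Injective f := by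
    intro a b e
    have e1 : v a = v b := congrArg Prod.snd e
    have e0 := congrArg Prod.fst e
    simp only [f] at e0
    rw [← e1] at e0
    have ha := pi_eq D (hr (v a)).2 a.2.2 (hrπ (v a))
    have hb := pi_eq D (hr (v a)).2 b.2.2 ((hrπ (v a)).trans (congrArg Subtype.val e1))
    apply Subtype.ext
    split_ifs at e0 with h1 h2 h3
    · rw [h1, h2]
    · exact absurd e0 (by decide)
    · exact absurd e0 (by decide)
    · rw [ha.resolve_left h1, hb.resolve_left h3]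
  have := Nat.card_le_card_of_injective f hf
  rwa [Nat.card_prod, Nat.card_fin] at this

theorem piIm_sing {B : Subgroup (↥(HH z))} (hB : EA B) :
    ∀ v ∈ piIm D B, q v = 0 := by
  rintro _ ⟨x, hx, rfl⟩
  exact (sq_iff D hx.2).1 (hB.1 x hx.1)

theorem card_inf_le {B : Subgroup (↥(HH z))} (hB : EA B) :
    Nat.card ↥(B ⊓ (QQ z)) ≤ 128 :=
  (card_piIm D B).trans (Nat.mul_le_mul_left 2 (card_sing (hyp D).fx _ (piIm_sing D hB)))

theorem piIm_fix {B : Subgroup (↥(HH z))} (hB : EA B) :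
    piIm D B ≤ J4Syl18.Fix ρ (B.map (mk z)) := by
  rintro _ ⟨x, hx, rfl⟩ _ ⟨b, hb, rfl⟩
  rw [← act D b hx.2, hB.2 b hb x hx.1, mul_inv_cancel_right]

theorem card_Qf {U : AddSubgroup V} (hU : Nat.card U = 64) : Nat.card (Qf D U) = 128 := by
  classical
  haveI := finiteV D
  apply le_antisymm
  · have h1 := card_piIm D (Qf D U)
    have h2 : Qf D U ⊓ (QQ z) = Qf D U := inf_eq_left.2 fun x hx => hx.1
    rw [h2] at h1
    refine h1.trans ?_
    have h3 : piIm D (Qf D U) ≤ U := by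
      rintro _ ⟨x, hx, rfl⟩
      exact hx.1.2
    have h4 := Nat.card_le_card_of_injective _ (AddSubgroup.inclusion_injective h3)
    omega
  · choose r hr hrπ using fun u : U => D.link.surj (u : V)
    let f : Fin 2 × U → Qf D U := fun p => if p.1 = 0 then ⟨r p.2, hr p.2, by rw [hrπ]; exact p.2.2⟩
      else ⟨r p.2 * zc, mul_mem (hr p.2) D.ext.mem, by
        rw [D.link.add _ (hr p.2) _ D.ext.mem, (D.link.ker zc D.ext.mem).2 (Or.inr rfl), add_zero, hrπ]
        exact p.2.2⟩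
    have hf : Function.Injective f := by
      intro a b e
      have e' := congrArg (fun x : Qf D U => (x : ↥(HH z))) e
      have hz0 : π zc = 0 := (D.link.ker zc D.ext.mem).2 (Or.inr rfl)
      have hu : a.2 = b.2 := by
        refine Subtype.ext ?_
        have e'' := congrArg π e'
        simp only [f] at e''
        split_ifs at e'' <;>
          simpa only [D.link.add _ (hr _) _ D.ext.mem, hz0, add_zero, hrπ] using e''
      refine Prod.ext ?_ hu
      simp only [f] at e'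
      rw [hu] at e'
      split_ifs at e' with h1 h2 h3
      · rw [h1, h2]
      · exact absurd (mul_eq_left.1 e'.symm) D.ext.ne_one
      · exact absurd (mul_eq_left.1 e') D.ext.ne_one
      · have : ∀ i j : Fin 2, i ≠ 0 → j ≠ 0 → i = j := by decide
        exact this _ _ h1 h3
    have := Nat.card_le_card_of_injective f hf
    rwa [Nat.card_prod, Nat.card_fin, hU] at this

theorem sing_perp {W : AddSubgroup V} (hW : ∀ a ∈ W, ∀ b ∈ W, pol q a b = 0)
    (hcard : Nat.card W = 64) {v : V} (hv : ∀ w ∈ W, pol q v w = 0) : v ∈ W := by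
  classical
  by_contra hvW
  haveI := finiteV D
  have fx := (hyp D).fx
  have hvv : v + v = 0 := fx.two v
  let W' : AddSubgroup V :=
    { carrier := {x | x ∈ W ∨ x + v ∈ W}
      zero_mem' := Or.inl W.zero_mem
      add_mem' := fun {a b} ha hb => by
        rcases ha with ha | ha <;> rcases hb with hb | hb
        · exact Or.inl (W.add_mem ha hb)
        · exact Or.inr (by rw [add_assoc]; exact W.add_mem ha hb)
        · exact Or.inr (by rw [add_right_comm]; exact W.add_mem ha hb)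
        · refine Or.inl ?_
          have := W.add_mem ha hb
          rwa [add_add_add_comm, hvv, add_zero] at this
      neg_mem' := fun {a} ha => by
        rwa [show -a = a from neg_eq_of_add_eq_zero_left (fx.two a)] }
  have hiso : ∀ a ∈ W', ∀ b ∈ W', pol q a b = 0 := by
    have hdec : ∀ a ∈ W', ∃ w ∈ W, a = w ∨ a = w + v := by
      intro a ha
      rcases ha with ha | ha
      · exact ⟨a, ha, Or.inl rfl⟩
      · exact ⟨a + v, ha, Or.inr (by rw [add_assoc, hvv, add_zero])⟩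
    intro a ha b hb
    obtain ⟨w, hw, ea⟩ := hdec a ha
    obtain ⟨w', hw', eb⟩ := hdec b hb
    rcases ea with rfl | rfl <;> rcases eb with rfl | rfl <;>
      simp [fx.addl, fx.addr, fx.pol_self, hW _ hw _ hw', hv _ hw', pol_comm _ v, hv _ hw]
  have h128 : Nat.card (Fin 2 × W) ≤ Nat.card W' := by
    refine Nat.card_le_card_of_injective (fun p => if p.1 = 0 then ⟨(p.2 : V), Or.inl p.2.2⟩
      else ⟨(p.2 : V) + v, Or.inr (by rw [add_assoc, hvv, add_zero]; exact p.2.2)⟩) ?_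
    intro a b e
    simp only at e
    have e' := congrArg (fun x : W' => (x : V)) e
    split_ifs at e' with h1 h2 h3
    · exact Prod.ext (h1.trans h2.symm) (Subtype.ext e')
    · exfalso
      refine hvW ?_
      rw [show v = -(b.2 : V) + a.2 by rw [e', neg_add_cancel_left]]
      exact W.add_mem (W.neg_mem b.2.2) a.2.2
    · exfalso
      refine hvW ?_
      rw [show v = -(a.2 : V) + b.2 by rw [← e', neg_add_cancel_left]]
      exact W.add_mem (W.neg_mem a.2.2) b.2.2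
    · have : ∀ i j : Fin 2, i ≠ 0 → j ≠ 0 → i = j := by decide
      exact Prod.ext (this _ _ h1 h3) (Subtype.ext (add_right_cancel e'))
  rw [Nat.card_prod, Nat.card_fin, hcard] at h128
  have := card_iso fx W' hiso
  omega

theorem sing_iso {W : AddSubgroup V} (hW : ∀ a ∈ W, q a = 0) :
    ∀ a ∈ W, ∀ b ∈ W, pol q a b = 0 := fun a ha b hb => by
  simp [pol, hW a ha, hW b hb, hW _ (W.add_mem ha hb)]

theorem conj_mem_AE {E : Subgroup (↥(HH z) ⧸ QQ z)} {g : ↥(HH z)}
    (hg : ∀ e ∈ E, mk z g * e * (mk z g)⁻¹ ∈ E)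
    {a : ↥(HH z)} (ha : a ∈ AE D E) : g * a * g⁻¹ ∈ AE D E := by
  rw [mem_AE] at ha ⊢
  refine ⟨by rw [map_mul, map_mul, map_inv]; exact hg _ ha.1, fun y hy => ?_⟩
  have hy' : g⁻¹ * y * g ∈ Qf D (J4Syl18.Fix ρ E) := by
    refine ⟨by simpa using (inferInstance : (QQ z).Normal).conj_mem y hy.1 g⁻¹, fun e he => ?_⟩
    have h1 := act D g⁻¹ hy.1
    rw [inv_inv] at h1
    rw [h1, map_inv, ← rho_mul,
      show e * (mk z g)⁻¹ =
        (mk z g)⁻¹ * (mk z g * e * (mk z g)⁻¹) by group,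
      rho_mul, hy.2 _ (hg e he)]
  have h := ha.2 _ hy'
  calc y * (g * a * g⁻¹) = g * (g⁻¹ * y * g * a) * g⁻¹ := by group
    _ = g * (a * (g⁻¹ * y * g)) * g⁻¹ := by rw [h]
    _ = _ := by group

end Counting

section Main

variable (D : Data z P zc π ρ q n Mb)
variable {F : Type} [Field F] [Fintype F] {s : F} {h : S4 s} {ν : (Fin 6 → F) → V}
  (C : J4Syl18.Coord h ρ q n Mb ν)
include D C

/-- A large elementary abelian subgroup is determined by its image. -/
theorem big {B : Subgroup (↥(HH z))} (hB : EA B) (hbig : 2 ^ 11 ≤ Nat.card B) :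
    Nat.card B = 2 ^ 11 ∧ Nat.card ↥(B ⊓ (QQ z)) = 2 ^ 7 ∧
      Nat.card (B.map (mk z)) = 16 ∧ B.map (mk z) ≤ Mb ∧
      (∃ g ∈ Mb, cj g (B.map (mk z)) = E1 (hyp D) C) ∧
      B = AE D (B.map (mk z)) := by
  classical
  haveI := finiteV D
  have hBb : EA (B.map (mk z)) := ea_of_sq (by
    rintro _ ⟨b, hb, rfl⟩; rw [← map_mul, hB.1 b hb, map_one])
  have hc := card_eq_mul (QQ z) B
  have h2 := card_piIm D B
  obtain ⟨hle, h16, h64, g, hg, hgE⟩ := bound (hyp D) C D.index_two D.invert hBb (piIm D B)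
    (piIm_fix D hB) (piIm_sing D hB) (by
      have := Nat.mul_le_mul_right (Nat.card (B.map (mk z))) h2
      rw [mul_comm (Nat.card (B.map (mk z)))]
      nlinarith)
  have h128 := card_inf_le D hB
  rw [h16] at hc
  have hcB : Nat.card B = 2 ^ 11 := by omega
  have hcQ : Nat.card ↥(B ⊓ (QQ z)) = 2 ^ 7 := by omega
  refine ⟨hcB, hcQ, h16, hle, ⟨g, hg, hgE⟩, ?_⟩
  set Bb := B.map (mk z) with hBbdef
  have hWfix : piIm D B = J4Syl18.Fix ρ Bb := by
    refine SetLike.coe_injective (Set.Finite.eq_of_subset_of_encard_le (Set.toFinite _)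
      (piIm_fix D hB) ?_)
    have hinj : Nat.card (J4Syl18.Fix ρ Bb) ≤ 64 := by
      rw [← card_Fix_E1 (hyp D) C, ← hgE]
      refine Nat.card_le_card_of_injective
        (fun v => (⟨op ρ g v.1, Fix_cj v.2⟩ : J4Syl18.Fix ρ (cj g Bb))) fun a b e => Subtype.ext ?_
      have e' := congrArg (fun w : J4Syl18.Fix ρ (cj g Bb) => op ρ g⁻¹ w.1) e
      simpa [← rho_mul, rho_one] using e'
    rw [← Set.Finite.cast_ncard_eq (Set.toFinite _), ← Set.Finite.cast_ncard_eq (Set.toFinite _),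
      Nat.cast_le, ← Nat.card_coe_set_eq, ← Nat.card_coe_set_eq]
    exact hinj.trans h64.ge
  have hBQ : B ⊓ (QQ z) = Qf D (J4Syl18.Fix ρ Bb) := by
    refine Subgroup.eq_of_le_of_card_ge ?_ (le_of_eq ?_)
    · exact fun x hx => ⟨hx.2, hWfix ▸ (⟨x, hx, rfl⟩ : π x ∈ piIm D B)⟩
    · rw [hcQ, card_Qf D (hWfix ▸ h64)]; norm_num
  refine le_antisymm (fun b hb => (mem_AE D).2 ⟨Subgroup.mem_map_of_mem _ hb, fun x hx => ?_⟩) fun a ha => ?_
  · rw [← hBQ] at hx
    exact hB.2 x hx.1 b hb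
  · obtain ⟨⟨b, hb, hba⟩, hcomm⟩ := (mem_AE D).1 ha
    have hy : b⁻¹ * a ∈ (QQ z) := QuotientGroup.eq.1 hba
    have hyB : b⁻¹ * a ∈ Qf D (J4Syl18.Fix ρ Bb) := by
      refine ⟨hy, sing_perp D (sing_iso D ?_) (hWfix ▸ h64) fun w hw => ?_⟩
      · rw [← hWfix]; exact piIm_sing D hB
      · obtain ⟨x, hx, rfl⟩ := D.link.surj w
        rw [← comm_iff D hy hx]
        have hxB : x ∈ B ⊓ (QQ z) := hBQ ▸ (⟨hx, hw⟩ : x ∈ Qf D (J4Syl18.Fix ρ Bb))
        have c1 : Commute x a := hcomm x ⟨hx, hw⟩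
        have c2 : Commute x b := hB.2 x hxB.1 b hb
        exact ((c2.inv_right).mul_right c1).eq.symm
    have hyb : b⁻¹ * a ∈ B := (hBQ.ge hyB).1
    simpa using mul_mem hb hyb

theorem AE_E1 : EA (AE D (E1 (hyp D) C)) ∧ Nat.card (AE D (E1 (hyp D) C)) = 2 ^ 11 := by
  classical
  haveI := finiteV D
  set E := E1 (hyp D) C with hEdef
  set U := J4Syl18.Fix ρ E with hUdef
  have hU64 : Nat.card U = 64 := card_Fix_E1 (hyp D) C
  have hUq : ∀ u ∈ U, q u = 0 := Fix_E1_sing (hyp D) C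
  have hUiso := sing_iso D hUq
  set A := AE D E with hAdef
  have hQf_comm : ∀ x ∈ Qf D U, ∀ y ∈ Qf D U, x * y = y * x := fun x hx y hy =>
    (comm_iff D hx.1 hy.1).2 (hUiso _ hx.2 _ hy.2)
  have hAQ : A ⊓ (QQ z) = Qf D U := by
    refine le_antisymm (fun x hx => ⟨hx.2, sing_perp D hUiso hU64 fun u hu => ?sing⟩) fun x hx =>
      ⟨(mem_AE D).2 ⟨?mem, fun y hy => hQf_comm y hy x hx⟩, hx.1⟩
    case sing =>
      obtain ⟨y, hy, rfl⟩ := D.link.surj u
      exact (comm_iff D hx.2 hy).1 (((mem_AE D).1 hx.1).2 y ⟨hy, hu⟩).symm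
    case mem =>
      rw [show mk z x = 1 from (QuotientGroup.eq_one_iff _).2 hx.1]
      exact one_mem _
  -- every element of `E` has a lift
  have hlift : A.map (mk z) = E := by
    refine le_antisymm (by rintro _ ⟨a, ha, rfl⟩; exact ((mem_AE D).1 ha).1) fun e he => ?_
    obtain ⟨h0, rfl⟩ := QuotientGroup.mk'_surjective (QQ z) e
    choose r hr hrπ using fun u : U => D.link.surj (u : V)
    let c : ↥(HH z) → ZMod 2 := fun x => if h0 * x = x * h0 then 0 else 1
    have hconj : ∀ x ∈ Qf D U, h0 * x * h0⁻¹ = x ∨ h0 * x * h0⁻¹ = x * zc := fun x hx =>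
      pi_eq D hx.1 ((inferInstance : (QQ z).Normal).conj_mem x hx.1 h0)
        (by rw [act D h0 hx.1, hx.2 _ he])
    have hc_iff : ∀ x, c x = 0 ↔ h0 * x = x * h0 := fun x => by
      simp only [c]; split_ifs with hh <;> simp [hh]
    have hneq : ∀ x ∈ Qf D U, c x = 1 → h0 * x * h0⁻¹ = x * zc := fun x hx hx1 =>
      (hconj x hx).resolve_left fun e => by
        rw [(hc_iff x).2 (mul_inv_eq_iff_eq_mul.1 e)] at hx1
        exact zero_ne_one hx1
    have hc01 : ∀ x, c x = 0 ∨ c x = 1 := fun x => by simp only [c]; split_ifs <;> simp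
    have hc_add : ∀ x ∈ Qf D U, ∀ y ∈ Qf D U, c (x * y) = c x + c y := by
      intro x hx y hy
      have hval : ∀ x ∈ Qf D U, h0 * x * h0⁻¹ = if c x = 0 then x else x * zc := by
        intro x hx
        split_ifs with h1
        · exact mul_inv_eq_iff_eq_mul.2 ((hc_iff x).1 h1)
        · exact hneq x hx ((hc01 x).resolve_left h1)
      have hxy := hval (x * y) (mul_mem hx hy)
      rw [show h0 * (x * y) * h0⁻¹ = h0 * x * h0⁻¹ * (h0 * y * h0⁻¹) by group, hval x hx, hval y hy] at hxy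
      have hne : zc ≠ 1 := D.ext.ne_one
      have hz2 : x * zc * (y * zc) = x * y := by
        rw [mul_assoc, ← mul_assoc zc y zc, ← D.zc_central y, mul_assoc y zc zc, D.ext.zz, mul_one]
      have hz3 : x * zc * y = x * y * zc := by rw [mul_assoc, ← D.zc_central y, mul_assoc]
      rcases hc01 x with h1 | h1 <;> rcases hc01 y with h2 | h2 <;>
        rcases hc01 (x * y) with h3 | h3 <;> simp only [h1, h2, h3, if_true, one_ne_zero,
          if_false, hz2, hz3, ← mul_assoc x y zc] at hxy ⊢ <;>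
        first
          | rfl
          | decide
          | exact absurd (mul_eq_left.1 hxy) hne
          | exact absurd (mul_eq_left.1 hxy.symm) hne
    have hzc : c zc = 0 := (hc_iff zc).2 (D.zc_central h0)
    have hzU : zc ∈ Qf D U := ⟨D.ext.mem, by
      rw [(D.link.ker zc D.ext.mem).2 (Or.inr rfl)]; exact U.zero_mem⟩
    have hfac : ∀ x ∈ Qf D U, ∀ u : U, π x = u → c x = c (r u) := by
      intro x hx u e
      have hru : r u ∈ Qf D U := ⟨hr u, by rw [hrπ]; exact u.2⟩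
      rcases pi_eq D (hr u) hx.1 ((hrπ u).trans e.symm) with e' | e'
      · rw [e']
      · rw [e', hc_add _ hru _ hzU, hzc, add_zero]
    let lam : U →+ ZMod 2 := AddMonoidHom.mk' (fun u => c (r u)) fun a b => by
      rw [← hc_add (r a) ⟨hr a, by rw [hrπ]; exact a.2⟩ (r b) ⟨hr b, by rw [hrπ]; exact b.2⟩]
      refine (hfac _ (mul_mem ?_ ?_) (a + b) ?_).symm
      · exact ⟨hr a, by rw [hrπ]; exact a.2⟩
      · exact ⟨hr b, by rw [hrπ]; exact b.2⟩
      · rw [D.link.add _ (hr a) _ (hr b), hrπ, hrπ]; rfl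
    -- every functional on `U` is a polar
    have fx := (hyp D).fx
    let Ψ : V →+ (U →+ ZMod 2) := AddMonoidHom.mk'
      (fun v => AddMonoidHom.mk' (fun u => pol q v u.1) fun a b => fx.addr a.1 b.1 v)
      fun a b => AddMonoidHom.ext fun u => fx.addl a b u.1
    have hker : Ψ.ker = U := by
      ext v
      refine ⟨fun hv => sing_perp D hUiso hU64 fun u hu => ?_, fun hv => ?_⟩
      · exact congrArg (fun f : U →+ ZMod 2 => f ⟨u, hu⟩) hv
      · exact AddMonoidHom.ext fun u => hUiso v hv u.1 u.2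
    have hrange : Ψ.range = ⊤ := by
      haveI : Finite (U →+ ZMod 2) := Finite.of_injective _ DFunLike.coe_injective
      refine AddSubgroup.eq_top_of_card_eq _ ?_
      have h1 := Ψ.ker.card_mul_index
      rw [AddSubgroup.index_ker, hker, hU64, D.orth.card] at h1
      rw [FischerFrame18.card_dual U fun u => Subtype.ext (fx.two u.1), hU64]
      omega
    obtain ⟨v, hv⟩ : lam ∈ Ψ.range := hrange ▸ AddSubgroup.mem_top _
    obtain ⟨y, hy, rfl⟩ := D.link.surj v
    refine ⟨h0 * y, (mem_AE D).2 ⟨?_, fun x hx => ?_⟩, ?_⟩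
    · rw [map_mul, show mk z y = 1 from (QuotientGroup.eq_one_iff _).2 hy, mul_one]
      exact he
    · have hcx : c x = pol q (π y) (π x) := by
        rw [hfac x hx ⟨π x, hx.2⟩ rfl]
        exact (congrArg (fun f : U →+ ZMod 2 => f ⟨π x, hx.2⟩) hv).symm
      refine (eq_mul_inv_iff_mul_eq.1 (?_ : x = h0 * y * x * (h0 * y)⁻¹))
      rcases hc01 x with h1 | h1
      · have hyx : y * x = x * y := (comm_iff D hy hx.1).2 (hcx ▸ h1)
        rw [show h0 * y * x * (h0 * y)⁻¹ = h0 * (y * x * y⁻¹) * h0⁻¹ by group, hyx,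
          mul_inv_cancel_right, mul_inv_eq_iff_eq_mul.2 ((hc_iff x).1 h1)]
      · have hyx : y * x * y⁻¹ = zc * x := (D.ext.conj y hy x hx.1).resolve_left fun e => by
          rw [(comm_iff D hy hx.1).1 (mul_inv_eq_iff_eq_mul.1 e), h1] at hcx
          exact one_ne_zero hcx
        rw [show h0 * y * x * (h0 * y)⁻¹ = h0 * (y * x * y⁻¹) * h0⁻¹ by group, hyx,
          show h0 * (zc * x) * h0⁻¹ = h0 * zc * (x * h0⁻¹) by group, D.zc_central h0,
          show zc * h0 * (x * h0⁻¹) = zc * (h0 * x * h0⁻¹) by group, hneq x hx h1,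
          ← mul_assoc, ← D.zc_central x, mul_assoc, D.ext.zz, mul_one]
    · rw [map_mul, show mk z y = 1 from (QuotientGroup.eq_one_iff _).2 hy, mul_one]
  have hcard : Nat.card A = 2 ^ 11 := by
    rw [card_eq_mul (QQ z) A, hAQ, hlift, card_Qf D hU64, card_E1 (hyp D) C]
    norm_num
  refine ⟨?_, hcard⟩
  -- exponent two
  have hQf_sq : ∀ x ∈ Qf D U, x * x = 1 := fun x hx => (sq_iff D hx.1).2 (hUq _ hx.2)
  have hmkA : ∀ a ∈ A, mk z a ∈ E := fun a ha => ((mem_AE D).1 ha).1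
  have hsame : ∀ a ∈ A, ∀ b ∈ A, mk z a = mk z b → a * a = b * b := by
    intro a ha b hb e
    have hx : a⁻¹ * b ∈ Qf D U := hAQ.le (Subgroup.mem_inf.2 ⟨A.mul_mem (A.inv_mem ha) hb, QuotientGroup.eq.1 e⟩)
    have hc : (a⁻¹ * b) * a = a * (a⁻¹ * b) := ((mem_AE D).1 ha).2 _ hx
    calc a * a = a * a * ((a⁻¹ * b) * (a⁻¹ * b)) := by rw [hQf_sq _ hx, mul_one]
      _ = a * (a * (a⁻¹ * b)) * (a⁻¹ * b) := by group
      _ = a * (a⁻¹ * b * a) * (a⁻¹ * b) := by rw [hc]
      _ = b * b := by group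
  obtain ⟨xn, hxn⟩ := QuotientGroup.mk'_surjective (QQ z) n
  have hsq2 : ∀ a ∈ A, a * a = 1 ∨ a * a = zc := by
    intro a ha
    have hEn : ∀ e ∈ E, n * e * n⁻¹ = e := fun e he => by
      rw [mul_inv_eq_iff_eq_mul,
        (hyp D).comm_n e ((E1_le (hyp D) C).trans (T0_le (hyp D) C) he)]
    have ha' := conj_mem_AE D (E := E) (g := xn)
      (fun e he => by rw [hxn, hEn e he]; exact he) ha
    have heq := hsame _ ha' a ha (by rw [map_mul, map_mul, map_inv, hxn, hEn _ (hmkA a ha)])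
    have haa : a * a ∈ Qf D U := hAQ.le (Subgroup.mem_inf.2 ⟨A.mul_mem ha ha, (QuotientGroup.eq_one_iff _).1 (by
      show mk z (a * a) = 1
      rw [map_mul]; exact (E1_ea (hyp D) C).1 _ (hmkA a ha))⟩)
    refine (D.link.ker _ haa.1).1 ?_
    have h1 := act D xn haa.1
    rw [show xn * (a * a) * xn⁻¹ = xn * a * xn⁻¹ * (xn * a * xn⁻¹) by group, heq, hxn] at h1
    have h3 := (hyp D).fx.rel (π (a * a))
    rw [← h1, ← h1, (hyp D).fx.two, zero_add] at h3
    exact h3
  have hconst : ∀ a ∈ A, ∀ b ∈ A, mk z a ≠ 1 → mk z b ≠ 1 →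
      a * a = b * b := by
    intro a₁ ha₁ b₁ hb₁ hne₁ hne₂
    obtain ⟨i, hi, hei⟩ := hmkA a₁ ha₁
    obtain ⟨j, hj, hej⟩ := hmkA b₁ hb₁
    obtain ⟨a0, ha0, he0⟩ : tau s ρ ν 1 ∈ A.map (mk z) :=
      hlift ▸ ⟨_, eOne_zero.2, rfl⟩
    have key : ∀ b ∈ A, ∀ k ∈ J4Data18.eOne, k ≠ 0 → mk z b = tau s ρ ν k →
        b * b = a0 * a0 := by
      intro b hb k hk hk0 hbk
      obtain ⟨g, -, hgn, hge⟩ := E1_trans (hyp D) C hk hk0
      obtain ⟨xg, hxg⟩ := QuotientGroup.mk'_surjective (QQ z) g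
      have ha' := conj_mem_AE D (E := E) (g := xg) (fun e he => by rw [hxg]; exact hgn e he) ha0
      rw [hsame b hb _ ha' (by rw [map_mul, map_mul, map_inv, hxg, he0, hge, hbk]),
        show xg * a0 * xg⁻¹ * (xg * a0 * xg⁻¹) = xg * (a0 * a0) * xg⁻¹ by group]
      rcases hsq2 a0 ha0 with e | e <;> rw [e]
      · group
      · exact mul_inv_eq_iff_eq_mul.2 (D.zc_central xg)
    rw [key a₁ ha₁ i hi (fun e => hne₁ (by rw [hei, e, tau_zero (hyp D) C])) hei,
      key b₁ hb₁ j hj (fun e => hne₂ (by rw [hej, e, tau_zero (hyp D) C])) hej]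
  refine ea_of_sq fun a ha => ?_
  by_cases hne : mk z a = 1
  · exact hQf_sq a (hAQ.le (Subgroup.mem_inf.2 ⟨ha, (QuotientGroup.eq_one_iff _).1 hne⟩))
  refine (hsq2 a ha).resolve_right fun hza => ?_
  have hall : ∀ b ∈ A, mk z b ≠ 1 → b * b = zc := fun b hb hb1 =>
    (hconst b hb a ha hb1 hne).trans hza
  have hflip : ∀ b ∈ A, ∀ b' ∈ A, mk z b ≠ 1 → mk z b' ≠ 1 →
      mk z b ≠ mk z b' → b' * b = zc * (b * b') := by
    intro b hb b' hb' h1 h2 h12
    have h3 : mk z (b * b') ≠ 1 := by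
      rw [map_mul]
      intro e
      refine h12 ?_
      have hsq := (E1_ea (hyp D) C).1 _ (hmkA b' hb')
      exact mul_right_cancel (e.trans hsq.symm)
    have e1 := hall b hb h1
    have e2 := hall b' hb' h2
    have e3 := hall _ (mul_mem hb hb') h3
    have i1 : b⁻¹ = b * zc := inv_eq_of_mul_eq_one_right (by rw [← mul_assoc, e1, D.ext.zz])
    have i2 : b'⁻¹ = b' * zc := inv_eq_of_mul_eq_one_right (by rw [← mul_assoc, e2, D.ext.zz])
    calc b' * b = b⁻¹ * (b * b' * (b * b')) * b'⁻¹ := by group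
      _ = b * zc * zc * (b' * zc) := by rw [e3, i1, i2]
      _ = b * b' * zc := by rw [mul_assoc b zc zc, D.ext.zz, mul_one, mul_assoc]
      _ = _ := D.zc_central _
  obtain ⟨i, hi, hei⟩ := hmkA a ha
  obtain ⟨e', he'E, he'1, he'2⟩ : ∃ e' ∈ E, e' ≠ 1 ∧ e' ≠ mk z a := by
    by_contra hno
    push Not at hno
    have : (E : Set _) ⊆ {1, mk z a} := fun e he => by
      by_cases h1 : e = 1
      · exact Or.inl h1
      · exact Or.inr (hno e he h1)
    have h1 := Set.ncard_le_ncard this (Set.toFinite _)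
    rw [← Nat.card_coe_set_eq, SetLike.coe_sort_coe, card_E1 (hyp D) C] at h1
    have h2 := Set.ncard_insert_le (1 : ↥(HH z) ⧸ QQ z) {mk z a}
    rw [Set.ncard_singleton] at h2
    omega
  obtain ⟨e'', he''E, h''⟩ : ∃ e'' ∈ E, e'' ≠ 1 ∧ e'' ≠ mk z a ∧ e'' ≠ e' ∧
      e'' ≠ mk z a * e' := by
    by_contra hno
    push Not at hno
    have : (E : Set _) ⊆ {1, mk z a, e', mk z a * e'} := fun e he => by
      simp only [Set.mem_insert_iff, Set.mem_singleton_iff]
      by_contra hh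
      push Not at hh
      exact hh.2.2.2 (hno e he hh.1 hh.2.1 hh.2.2.1)
    have h1 := Set.ncard_le_ncard this (Set.toFinite _)
    rw [← Nat.card_coe_set_eq, SetLike.coe_sort_coe, card_E1 (hyp D) C] at h1
    have a1 := Set.ncard_insert_le (1 : ↥(HH z) ⧸ QQ z)
      {mk z a, e', mk z a * e'}
    have a2 := Set.ncard_insert_le (mk z a) {e', mk z a * e'}
    have a3 := Set.ncard_insert_le e' {mk z a * e'}
    rw [Set.ncard_singleton] at a3
    omega
  rw [← hlift] at he'E he''E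
  obtain ⟨b, hb, rfl⟩ := he'E
  obtain ⟨b', hb', rfl⟩ := he''E
  obtain ⟨g1, g2, g3, g4⟩ := h''
  have hbb : mk z (b * b') ≠ 1 ∧ mk z a ≠ mk z (b * b') := by
    have hsq := (E1_ea (hyp D) C).1 _ (hmkA b hb)
    have hcomm := (E1_ea (hyp D) C).2 _ (hmkA a ha) _ (hmkA b hb)
    refine ⟨fun e => g3 ?_, fun e => g4 ?_⟩
    · rw [map_mul] at e
      exact (mul_left_cancel (e.trans hsq.symm))
    · rw [hcomm, e, map_mul, ← mul_assoc, hsq, one_mul]
  have f1 := hflip a ha b hb hne he'1 (Ne.symm he'2)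
  have f2 := hflip a ha b' hb' hne g1 (Ne.symm g2)
  have f3 := hflip a ha _ (mul_mem hb hb') hne hbb.1 hbb.2
  have f4 : b * b' * a = a * (b * b') := by
    calc b * b' * a = b * (zc * (a * b')) := by rw [mul_assoc, f2]
      _ = b * zc * a * b' := by group
      _ = zc * b * a * b' := by rw [D.zc_central b]
      _ = zc * (b * a) * b' := by group
      _ = zc * (zc * (a * b)) * b' := by rw [f1]
      _ = a * (b * b') := by rw [← mul_assoc zc zc, D.ext.zz, one_mul, mul_assoc]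
  rw [f3] at f4
  exact D.ext.ne_one (mul_eq_right.1 f4)

end Main

variable (D : Data z P zc π ρ q n Mb)
variable {F : Type} [Field F] [Fintype F] {s : F} {h : S4 s} {ν : (Fin 6 → F) → V}
  (C : J4Syl18.Coord h ρ q n Mb ν)

/-- The large elementary abelian subgroup. -/
def AA (D : Data z P zc π ρ q n Mb) (C : J4Syl18.Coord h ρ q n Mb ν) :
    Subgroup (↥(HH z)) :=
  AE D (E1 (hyp D) C)

/-- Its fixed space. -/
def UU (D : Data z P zc π ρ q n Mb) (C : J4Syl18.Coord h ρ q n Mb ν) : AddSubgroup V :=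
  J4Syl18.Fix ρ (E1 (hyp D) C)

section Facts

include D C

theorem AA_facts : EA (AA D C) ∧ Nat.card (AA D C) = 2 ^ 11 ∧
    (AA D C).map (mk z) = E1 (hyp D) C ∧ AA D C ⊓ (QQ z) = Qf D (UU D C) := by
  haveI := finiteV D
  obtain ⟨hea, hcard⟩ := AE_E1 D C
  obtain ⟨-, hQ, h16, -, -, -⟩ := big D C hea hcard.ge
  refine ⟨hea, hcard, ?_, ?_⟩
  · refine Subgroup.eq_of_le_of_card_ge ?_ ?_
    · rintro _ ⟨a, ha, rfl⟩
      exact ((mem_AE D).1 ha).1
    · rw [card_E1 (hyp D) C]; exact h16.ge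
  · refine Subgroup.eq_of_le_of_card_ge ?_ ?_
    · intro x hx
      refine ⟨hx.2, sing_perp D (sing_iso D (Fix_E1_sing (hyp D) C)) (card_Fix_E1 (hyp D) C)
        fun w hw => ?_⟩
      obtain ⟨y, hy, rfl⟩ := D.link.surj w
      exact (comm_iff D hx.2 hy).1 (((mem_AE D).1 hx.1).2 y ⟨hy, hw⟩).symm
    · rw [card_Qf D (U := UU D C) (card_Fix_E1 (hyp D) C)]; exact hQ.ge

theorem mem_AA_Q {x : ↥(HH z)} (hx : x ∈ (QQ z)) : x ∈ AA D C ↔ π x ∈ UU D C := by
  have e := SetLike.ext_iff.1 (AA_facts D C).2.2.2 x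
  rw [Subgroup.mem_inf] at e
  exact ⟨fun ha => (e.1 ⟨ha, hx⟩).2, fun hu => (e.2 ⟨hx, hu⟩).1⟩

theorem zc_mem : zc ∈ AA D C := by
  rw [mem_AA_Q D C D.ext.mem, (D.link.ker zc D.ext.mem).2 (Or.inr rfl)]
  exact AddSubgroup.zero_mem _

theorem pi_zc : π zc = 0 := (D.link.ker zc D.ext.mem).2 (Or.inr rfl)

end Facts

end Cfsg.Agent.J4Elem85
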