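import Mathlib
import Cfsg.Agent.Lib.JFourEnd97
import Cfsg.Agent.Lib.JFourM22Class97
import Cfsg.Agent.Lib.CoprimeGen
import Cfsg.Agent.Lib.ZStarTheorem

/-!
The centraliser of the subgroup of order three lies in the centraliser of the involution, from three
involutions of that centraliser fused to the involution.
-/

set_option autoImplicit false
set_option linter.style.haveILetI false
set_option linter.unusedSectionVars false

namespace Cfsg.Agent.JFourCent97

open Subgroup Cfsg.Agent.JFourSetting97 Cfsg.Agent.JFourM22Facts97 Cfsg.Agent.JFourM22Class97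
  Cfsg.Agent.JFourEnd97
open scoped Pointwise commutatorElement

variable {G : Type*} [Group G] [Finite G]

/-- The fusion data: three commuting conjugates of the involution in the centraliser of `P`. -/
structure Fus (z p : G) (P : Subgroup G) (a b c : G) : Prop where
  ha : a ∈ KK z P
  hb : b ∈ KK z P
  hc : c ∈ KK z P
  az : a ≠ z
  bz : b ≠ z
  cz : c ≠ z
  conj_a : IsConj z a
  conj_b : IsConj z b
  conj_c : IsConj z c
  comm_ab : Commute a b
  comm_ac : Commute a c
  ab_z : a * b ≠ z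
  ab_one : a * b ≠ 1
  conj_ab : IsConj z (a * b)
  ac_one : a * c ≠ 1
  ac_z : a * c ≠ z
  not_ac : ¬ IsConj z (a * c)
  not_az : ¬ IsConj z (a * z)
  moved : ∃ v : G, Commute v a ∧ (p * v * p⁻¹ * v⁻¹) ^ 2 = 1 ∧ p * v * p⁻¹ * v⁻¹ ≠ 1 ∧
    p * v * p⁻¹ * v⁻¹ ≠ a ∧
    (IsConj z (p * v * p⁻¹ * v⁻¹) ↔ ¬ IsConj z (p * v * p⁻¹ * v⁻¹ * a))

variable {z p : G} {P N : Subgroup G} (D : Pack z P N p)
  (hE : Cfsg.IsExtraspecial 2 ↥(Cfsg.twoCoreOfCentralizer z))
include D

theorem zz : z * z = 1 := by rw [← pow_two, ← D.hz]; exact pow_orderOf_eq_one z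

theorem order_conj {s : G} (h : IsConj z s) : orderOf s = 2 := by
  obtain ⟨g, rfl⟩ := isConj_iff.1 h
  rw [← MulAut.conj_apply, MulEquiv.orderOf_eq, D.hz]

theorem zp_sq {w : G} (hw : w ∈ zpowers (z * p)) (h2 : w ^ 2 = 1) : w = 1 ∨ w = z := by
  have h3 := cube_z D hw
  rw [pow_succ, h2, one_mul] at h3
  obtain ⟨i, rfl⟩ := mem_zpowers_iff.1 h3
  rcases Int.even_or_odd' i with ⟨j, rfl | rfl⟩
  · left
    rw [zpow_mul, show z ^ (2 : ℤ) = 1 by rw [zpow_two, zz D], one_zpow]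
  · right
    rw [zpow_add, zpow_mul, show z ^ (2 : ℤ) = 1 by rw [zpow_two, zz D], one_zpow, one_mul, zpow_one]

/-- An involution of the centraliser of `P` other than `z` is conjugate in it to `a` or `a * z`. -/
theorem invol_cases {a s : G} (ha : a ∈ KK z P) (ha2 : orderOf a = 2) (haz : a ≠ z)
    (hs : s ∈ KK z P) (hs2 : orderOf s = 2) (hsz : s ≠ z) :
    (∃ k ∈ KK z P, k * a * k⁻¹ = s) ∨ ∃ k ∈ KK z P, k * (a * z) * k⁻¹ = s := by
  haveI : Fact (Nat.Prime 2) := ⟨Nat.prime_two⟩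
  obtain ⟨f, hf, hker, -⟩ := exists_hom D
  have hord : ∀ (u : G) (hu : u ∈ KK z P), orderOf u = 2 → u ≠ z → orderOf (f ⟨u, hu⟩) = 2 := by
    intro u hu h2 hne
    have hu2 : u ^ 2 = 1 := h2 ▸ pow_orderOf_eq_one u
    refine orderOf_eq_prime (by rw [← map_pow, show (⟨u, hu⟩ : ↥(KK z P)) ^ 2 = 1 from Subtype.ext hu2, map_one])
      fun e => ?_
    have h' : (⟨u, hu⟩ : ↥(KK z P)) ∈ f.ker := e
    rw [hker] at h'
    rcases zp_sq D h' hu2 with e' | e'
    · replace e' : u = 1 := e'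
      rw [e', orderOf_one] at h2; norm_num at h2
    · exact hne e'
  obtain ⟨c, hc⟩ := isConj_iff.1 (invol_class _ _ (hord a ha ha2 haz) (hord s hs hs2 hsz))
  obtain ⟨k, rfl⟩ := hf c
  set w : G := ((k : G) * a * (k : G)⁻¹)⁻¹ * s with hwdef
  have hw : w ∈ zpowers (z * p) := by
    have h2 : (k * ⟨a, ha⟩ * k⁻¹)⁻¹ * (⟨s, hs⟩ : ↥(KK z P)) ∈ f.ker := by
      rw [MonoidHom.mem_ker]; simp only [map_mul, map_inv, hc, inv_mul_cancel]
    rw [hker] at h2
    exact h2
  have hka : (k : G) * a * (k : G)⁻¹ ∈ KK z P := mul_mem (mul_mem k.2 ha) (inv_mem k.2)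
  have hcw : Commute ((k : G) * a * (k : G)⁻¹) w := center_elems D hw _ hka
  have hw2 : w ^ 2 = 1 := by
    have h4 : (((k : G) * a * (k : G)⁻¹) * w) ^ 2 = 1 := by
      rw [hwdef, mul_inv_cancel_left, ← hs2]; exact pow_orderOf_eq_one s
    rwa [hcw.mul_pow, conj_pow, show a ^ 2 = 1 by rw [← ha2]; exact pow_orderOf_eq_one a, mul_one,
      mul_inv_cancel, one_mul] at h4
  rcases zp_sq D hw hw2 with e | e
  · refine Or.inl ⟨k, k.2, ?_⟩
    rw [hwdef, inv_mul_eq_one] at e
    exact e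
  · refine Or.inr ⟨k, k.2, ?_⟩
    rw [hwdef, inv_mul_eq_iff_eq_mul] at e
    have hzk : Commute (k : G) z := mem_centralizer_singleton_iff.1 k.2.1
    rw [e]
    calc (k : G) * (a * z) * (k : G)⁻¹ = (k : G) * a * (z * (k : G)⁻¹) := by group
      _ = (k : G) * a * ((k : G)⁻¹ * z) := by rw [← hzk.inv_left.eq]
      _ = _ := by group

variable {a b c : G} (F : Fus z p P a b c)
include F

theorem conj_class {s : G} (hs : s ∈ KK z P) (hsz : s ≠ z) (h : IsConj z s) :
    ∃ k ∈ KK z P, k * a * k⁻¹ = s := by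
  refine (invol_cases D F.ha (order_conj D F.conj_a) F.az hs (order_conj D h) hsz).resolve_right ?_
  rintro ⟨k, -, rfl⟩
  exact F.not_az (h.trans (isConj_iff.2 ⟨k⁻¹, by group⟩))

theorem non_class {s : G} (hs : s ∈ KK z P) (hs2 : orderOf s = 2) (hsz : s ≠ z) (h : ¬ IsConj z s) :
    ∃ k ∈ KK z P, k * (a * z) * k⁻¹ = s := by
  refine (invol_cases D F.ha (order_conj D F.conj_a) F.az hs hs2 hsz).resolve_left ?_
  rintro ⟨k, -, rfl⟩
  exact h (F.conj_a.trans (isConj_iff.2 ⟨k, rfl⟩))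

theorem z_derived : z ∈ ⁅KK z P, KK z P⁆ := by
  have hcls : ∀ s ∈ KK z P, s ≠ z → IsConj z s → s * a⁻¹ ∈ ⁅KK z P, KK z P⁆ := by
    intro s hs hsz h
    obtain ⟨k, hk, rfl⟩ := conj_class D F hs hsz h
    exact Subgroup.commutator_mem_commutator hk F.ha
  have haa : a * a = 1 := by rw [← pow_two, ← order_conj D F.conj_a]; exact pow_orderOf_eq_one a
  have hainv : a⁻¹ = a := inv_eq_of_mul_eq_one_right haa
  have hb : b ∈ ⁅KK z P, KK z P⁆ := by
    have := hcls _ (mul_mem F.ha F.hb) F.ab_z F.conj_ab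
    rwa [hainv, F.comm_ab.eq, mul_assoc, haa, mul_one] at this
  have ha : a ∈ ⁅KK z P, KK z P⁆ := by
    have h1 := mul_mem (inv_mem (hcls _ F.hb F.bz F.conj_b)) hb
    rwa [mul_inv_rev, inv_inv, mul_assoc, inv_mul_cancel, mul_one] at h1
  have hc : c ∈ ⁅KK z P, KK z P⁆ := by
    have h1 := mul_mem (hcls _ F.hc F.cz F.conj_c) ha
    rwa [inv_mul_cancel_right] at h1
  have hcc : c * c = 1 := by rw [← pow_two, ← order_conj D F.conj_c]; exact pow_orderOf_eq_one c
  haveI : Fact (Nat.Prime 2) := ⟨Nat.prime_two⟩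
  have hord : orderOf (a * c) = 2 := orderOf_eq_prime (by
    rw [F.comm_ac.mul_pow, pow_two, pow_two, haa, hcc, one_mul]) F.ac_one
  obtain ⟨k, hk, hkc⟩ := non_class D F (mul_mem F.ha F.hc) hord F.ac_z F.not_ac
  have h1 : a * c * (a * z)⁻¹ ∈ ⁅KK z P, KK z P⁆ := by
    rw [← hkc]
    exact Subgroup.commutator_mem_commutator hk
      (mul_mem F.ha ⟨mem_centralizer_singleton_iff.2 rfl, ((zp_KK D) (z_zp D)).2⟩)
  have h2 := mul_mem (inv_mem ha) (mul_mem (inv_mem h1) (mul_mem ha hc))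
  rwa [mul_inv_rev, inv_inv, mul_assoc (a * z), inv_mul_cancel, mul_one, inv_mul_cancel_left] at h2

include hE

/-- The centraliser of `P` does not carry `z` to `a`. -/
theorem not_fuse {g : G} (hg : g ∈ centralizer (P : Set G)) : g * z * g⁻¹ ≠ a := by
  intro e
  obtain ⟨v, hv, hw2, hw1, hwa, hiff⟩ := F.moved
  set E := Cfsg.twoCoreOfCentralizer z with hEdef
  set v' := g⁻¹ * v * g with hv'
  have hgp : Commute g p := (hg p (p_mem D)).symm
  have hv'H : v' ∈ HH z := by
    rw [mem_centralizer_singleton_iff, hv']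
    calc g⁻¹ * v * g * z = g⁻¹ * (v * (g * z * g⁻¹)) * g := by group
      _ = g⁻¹ * ((g * z * g⁻¹) * v) * g := by rw [e, hv.eq]
      _ = z * (g⁻¹ * v * g) := by group
  set w := p * v * p⁻¹ * v⁻¹ with hwdef
  set w' := g⁻¹ * w * g with hw'
  have hw'eq : w' = p * (v' * p⁻¹ * v'⁻¹) := by
    have e2 : g⁻¹ * p = p * g⁻¹ := (hgp.inv_left).eq
    rw [hw', hwdef, hv']
    have e3 : g * p⁻¹ = p⁻¹ * g := hgp.inv_right.eq
    calc g⁻¹ * (p * v * p⁻¹ * v⁻¹) * g = (g⁻¹ * p) * v * p⁻¹ * v⁻¹ * g := by group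
      _ = p * g⁻¹ * v * (p⁻¹ * g) * g⁻¹ * v⁻¹ * g := by rw [e2]; group
      _ = p * g⁻¹ * v * (g * p⁻¹) * g⁻¹ * v⁻¹ * g := by rw [e3]
      _ = _ := by group
  have hw'N : w' ∈ N := by
    rw [hw'eq]
    refine mul_mem (D.PN (p_mem D)) ?_
    exact (mem_normalizer_iff.1 (D.norm hv'H) _).1 (inv_mem (D.PN (p_mem D)))
  have hw'2 : w' ^ 2 = 1 := by
    rw [show w' = g⁻¹ * w * g⁻¹⁻¹ by rw [inv_inv], conj_pow, hw2]; group
  have hw'E : w' ∈ E := by
    haveI hEn : (E.subgroupOf N).Normal := ⟨fun n hn g => E_normal D (D.NH g.2) hn⟩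
    have hq : Nat.card (↥N ⧸ E.subgroupOf N) = 3 := by
      have h := Subgroup.card_eq_card_quotient_mul_card_subgroup (E.subgroupOf N)
      rw [D.cardN, Nat.card_congr (Subgroup.subgroupOfEquivOfLe D.EN).toEquiv, D.cardE] at h
      omega
    have h1 : ((⟨w', hw'N⟩ : N) : ↥N ⧸ E.subgroupOf N) ^ 2 = 1 := by
      rw [← QuotientGroup.mk_pow, show (⟨w', hw'N⟩ : N) ^ 2 = 1 from Subtype.ext hw'2, QuotientGroup.mk_one]
    have h2 : ((⟨w', hw'N⟩ : N) : ↥N ⧸ E.subgroupOf N) ^ 3 = 1 := hq ▸ pow_card_eq_one'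
    rw [pow_succ, h1, one_mul] at h2
    exact (QuotientGroup.eq_one_iff (N := E.subgroupOf N) (⟨w', hw'N⟩ : N)).1 h2
  obtain ⟨⟨-, -, hcomm⟩, hcc⟩ := hE
  have hzE : z ∈ E := z_mem D
  have hzc : (⟨z, hzE⟩ : E) ∈ center E := mem_center_iff.2 fun y => Subtype.ext (by
    have hy : (y : G) ∈ HH z := by
      obtain ⟨u, -, hu⟩ := y.2; rw [← hu]; exact u.2
    exact mem_centralizer_singleton_iff.1 hy)
  have hcen : center E = zpowers (⟨z, hzE⟩ : E) := by
    refine (Subgroup.eq_of_le_of_card_ge (zpowers_le.2 hzc) ?_).symm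
    rw [hcc, Nat.card_zpowers, Subgroup.orderOf_mk, D.hz]
  have hcen2 : ∀ x ∈ center E, (x : G) = 1 ∨ (x : G) = z := by
    intro x hx
    rw [hcen] at hx
    obtain ⟨i, rfl⟩ := mem_zpowers_iff.1 hx
    refine zp_sq D (show (((⟨z, hzE⟩ : E) ^ i : E) : G) ∈ zpowers (z * p) from ?_) ?_
    · rw [Subgroup.coe_zpow]; exact zpow_mem (z_zp D) i
    · rw [Subgroup.coe_zpow, ← zpow_natCast, ← zpow_mul, mul_comm, zpow_mul,
        show z ^ ((2 : ℕ) : ℤ) = 1 by rw [zpow_natCast, pow_two, zz D], one_zpow]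
  have hnc : (⟨w', hw'E⟩ : E) ∉ center E := by
    intro h
    rcases hcen2 _ h with e1 | e1
    · exact hw1 (by
        have : w = g * w' * g⁻¹ := by rw [hw']; group
        rw [this, show w' = 1 from e1]; group)
    · exact hwa (by
        have : w = g * w' * g⁻¹ := by rw [hw']; group
        rw [this, show w' = z from e1, e])
  rw [mem_center_iff] at hnc
  push Not at hnc
  obtain ⟨y, hy⟩ := hnc
  have hyc : ⁅y, (⟨w', hw'E⟩ : E)⁆ ∈ center E :=
    hcomm ▸ Subgroup.commutator_mem_commutator (Subgroup.mem_top _) (Subgroup.mem_top _)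
  have hyz : (y : G) * w' * (y : G)⁻¹ * w'⁻¹ = z := by
    rcases hcen2 _ hyc with e1 | e1
    · exfalso
      exact hy (Subtype.ext (mul_inv_eq_iff_eq_mul.1 (mul_inv_eq_one.1 e1)))
    · exact e1
  have hconj : IsConj w (w * a) := by
    refine isConj_iff.2 ⟨g * y * g⁻¹, ?_⟩
    have hzw : z * w' = w' * z := (mem_centralizer_singleton_iff.1 (D.NH hw'N)).symm
    have h1 : (y : G) * w' * (y : G)⁻¹ = w' * z := by
      rw [mul_inv_eq_iff_eq_mul.1 hyz, hzw]
    calc g * y * g⁻¹ * w * (g * y * g⁻¹)⁻¹ = g * ((y : G) * w' * (y : G)⁻¹) * g⁻¹ := by rw [hw']; group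
      _ = g * (w' * z) * g⁻¹ := by rw [h1]
      _ = (g * w' * g⁻¹) * (g * z * g⁻¹) := by group
      _ = w * a := by rw [e, hw']; group
  exact (iff_not_self (hiff.trans (not_congr ⟨fun h => h.trans hconj.symm, fun h => h.trans hconj⟩)))

omit F hE

/-- An element of order three outside `N` fixes more of `E` than the centre. -/
theorem fix_big {R : Subgroup G} (S : Syl z P R) {q : G} (hq : q ∈ R) (hqP : q ∉ P) :
    ¬ Cfsg.twoCoreOfCentralizer z ⊓ centralizer ({q} : Set G) ≤ zpowers z := by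
  intro hle
  haveI : Fact (Nat.Prime 3) := ⟨Nat.prime_three⟩
  set E := Cfsg.twoCoreOfCentralizer z with hEdef
  have hqp : Commute q p := center_elems D (P_zp D (p_mem D)) q (S.le hq)
  have hnorm : ∀ x ∈ R, x ∈ normalizer (E : Set G) := fun x hx =>
    mem_normalizer_fintype fun e he => E_normal D ((S.le hx).1) he
  -- the translates of `q` are conjugate to it
  have htrans : ∀ u ∈ P, ∃ r ∈ R, r * q * r⁻¹ = q * u := by
    obtain ⟨r, hr, hrq⟩ : ∃ r ∈ R, q * r ≠ r * q := by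
      by_contra hall
      push Not at hall
      exact hqP (S.cen q hq hall)
    set d := q⁻¹ * (r * q * r⁻¹) with hd
    have hdP : d ∈ P := by
      have := S.comm q⁻¹ (inv_mem hq) r hr
      simpa [hd, mul_assoc] using this
    have hd1 : d ≠ 1 := fun e => hrq (by
      rw [hd, inv_mul_eq_one] at e
      exact eq_mul_inv_iff_mul_eq.1 e)
    have hpow : ∀ n : ℕ, r ^ n * q * (r ^ n)⁻¹ = q * d ^ n := by
      intro n
      induction n with
      | zero => simp
      | succ n ih =>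
        have hrd : r * d = d * r := center_elems D (P_zp D hdP) r (S.le hr)
        have hrdn : r * d ^ n * r⁻¹ = d ^ n := by
          rw [(Commute.pow_right hrd n).eq, mul_inv_cancel_right]
        rw [pow_succ']
        calc r * r ^ n * q * (r * r ^ n)⁻¹ = r * (r ^ n * q * (r ^ n)⁻¹) * r⁻¹ := by group
          _ = r * (q * d ^ n) * r⁻¹ := by rw [ih]
          _ = (r * q * r⁻¹) * (r * d ^ n * r⁻¹) := by group
          _ = q * d * d ^ n := by rw [hrdn, hd, mul_inv_cancel_left]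
          _ = q * d ^ (n + 1) := by rw [pow_succ', mul_assoc]
    intro u hu
    have hgen : zpowers d = P := Subgroup.eq_of_le_of_card_ge (zpowers_le.2 hdP) (by
      rw [D.cardP, Nat.card_zpowers, orderOf_eq_prime (S.cube d (S.P_le hdP)) hd1])
    rw [← hgen] at hu
    obtain ⟨n, rfl⟩ := mem_powers_iff_mem_zpowers.2 hu
    exact ⟨r ^ n, pow_mem hr n, hpow n⟩
  have hEle : E ≤ zpowers z := by
    refine CoprimeGen.le_of_pair_centralizers (p := 3) (a := q) (b := p)
      ⟨hqp, S.cube q hq, p_pow_three D, fun e => ?_, fun h => hqP (D.gen ▸ h),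
        hnorm q hq, hnorm p (S.P_le (p_mem D))⟩ (by rw [D.cardE]; norm_num) ?_
    · have := D.ord; rw [e, orderOf_one] at this; norm_num at this
    intro e he he1
    obtain ⟨m, n, rfl⟩ := CoprimeGen.mem_pairSubgroup_iff.1 he
    have hu : p ^ n ∈ P := zpow_mem (p_mem D) n
    have hzH : ∀ r ∈ R, ∀ x, r * x * r⁻¹ ∈ zpowers z → x ∈ zpowers z := by
      intro r hr x hx
      obtain ⟨i, hi⟩ := mem_zpowers_iff.1 hx
      have hrz : Commute r z := mem_centralizer_singleton_iff.1 (S.le hr).1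
      refine mem_zpowers_iff.2 ⟨i, ?_⟩
      calc z ^ i = r⁻¹ * (r * z ^ i) := by group
        _ = r⁻¹ * (z ^ i * r) := by rw [(hrz.zpow_right i).eq]
        _ = x := by rw [hi]; group
    have hone : ∀ u ∈ P, ∀ x ∈ E, x * (q * u) = q * u * x → x ∈ zpowers z := by
      intro u hu x hx hxc
      obtain ⟨r, hr, hrq⟩ := htrans u hu
      refine hzH r⁻¹ (inv_mem hr) x ?_
      apply hle
      refine ⟨?_, ?_⟩
      · have := E_normal D (inv_mem (S.le hr).1) hx
        exact this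
      · show r⁻¹ * x * r⁻¹⁻¹ ∈ centralizer ({q} : Set G)
        rw [mem_centralizer_singleton_iff, inv_inv]
        calc r⁻¹ * x * r * q = r⁻¹ * (x * (r * q * r⁻¹)) * r := by group
          _ = r⁻¹ * ((r * q * r⁻¹) * x) * r := by rw [hrq, hxc]
          _ = q * (r⁻¹ * x * r) := by group
    intro x hx
    obtain ⟨hxE, hxc⟩ := hx
    replace hxc : x ∈ centralizer ({q ^ m * p ^ n} : Set G) := hxc
    rw [mem_centralizer_singleton_iff] at hxc
    obtain ⟨i, hi, hi'⟩ : ∃ i : ℕ, i < 3 ∧ q ^ m = q ^ i := by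
      refine ⟨(m % 3).toNat, by omega, ?_⟩
      rw [← zpow_natCast, Int.toNat_of_nonneg (Int.emod_nonneg _ (by norm_num))]
      conv_lhs => rw [← Int.mul_ediv_add_emod m 3, zpow_add, zpow_mul,
        show q ^ (3 : ℤ) = 1 by rw [show (3 : ℤ) = ((3 : ℕ) : ℤ) by norm_num, zpow_natCast, S.cube q hq],
        one_zpow, one_mul]
    rw [hi'] at hxc he1
    have hred : ∀ u ∈ P, ∀ x ∈ E, x * (q * u) = q * u * x → x ∈ zpowers z := hone
    interval_cases i
    · rw [pow_zero, one_mul] at hxc he1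
      rw [← D.fixE]
      refine ⟨hxE, fun y hy => ?_⟩
      rw [SetLike.mem_coe, ← D.gen] at hy
      have hu' : zpowers (p ^ n) = zpowers p := Subgroup.eq_of_le_of_card_ge (zpowers_le.2 (zpow_mem (mem_zpowers p) n)) (by
        rw [Nat.card_zpowers, Nat.card_zpowers, D.ord, orderOf_eq_prime (S.cube _ (S.P_le hu)) he1])
      rw [← hu'] at hy
      obtain ⟨j, rfl⟩ := mem_zpowers_iff.1 hy
      exact ((show Commute x (p ^ n) from hxc).zpow_right j).eq.symm
    · rw [pow_one] at hxc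
      exact hred _ hu x hxE hxc
    · refine hred _ (mul_mem hu hu) x hxE ?_
      have h1 : Commute x ((q ^ 2 * p ^ n) ^ 2) := (show Commute x (q ^ 2 * p ^ n) from hxc).pow_right 2
      have e : (q ^ 2 * p ^ n) ^ 2 = q * (p ^ n * p ^ n) := by
        rw [((hqp.zpow_right n).pow_left 2).mul_pow, ← pow_mul, show q ^ (2 * 2) = q ^ 3 * q by rw [← pow_succ],
          S.cube q hq, one_mul, pow_two]
      rw [e] at h1
      exact h1.eq
  have := Subgroup.card_le_of_le hEle
  rw [D.cardE, Nat.card_zpowers, D.hz] at this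
  norm_num at this

/-- An odd subgroup of the centraliser centralising an element of order three outside `N` and its fixed
points in `E` is generated by that element. -/
theorem odd_cent {q : G} (hq : orderOf q = 3) (hqH : q ∈ HH z) (hqN : q ∉ N) {Q : Subgroup G}
    (hQH : Q ≤ HH z) (hodd : ¬ 2 ∣ Nat.card Q) (hqQ : q ∈ Q) (hcq : ∀ x ∈ Q, x * q = q * x)
    (hcE : ∀ x ∈ Q, ∀ e ∈ Cfsg.twoCoreOfCentralizer z, e * q = q * e → x * e = e * x) :
    Q ≤ zpowers q := by
  haveI : Fact (Nat.Prime 3) := ⟨Nat.prime_three⟩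
  set E := Cfsg.twoCoreOfCentralizer z with hEdef
  obtain ⟨hn, ⟨eqv⟩⟩ := D.quot
  let φ : ↥(HH z) →* MulAut ↥Cfsg.Spor.M22 := eqv.toMonoidHom.comp (QuotientGroup.mk' _)
  have hφk : ∀ x : ↥(HH z), φ x = 1 ↔ (x : G) ∈ N := fun x => by
    rw [MonoidHom.comp_apply, MulEquiv.coe_toMonoidHom, MulEquiv.map_eq_one_iff, QuotientGroup.mk'_apply,
      QuotientGroup.eq_one_iff, Subgroup.mem_subgroupOf]
  have hinn : ∀ a : MulAut ↥Cfsg.Spor.M22, Odd (orderOf a) → a ∈ Cfsg.Inn ↥Cfsg.Spor.M22 := by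
    intro a ⟨j, hj⟩
    haveI : Finite (MulAut ↥Cfsg.Spor.M22) := Finite.of_injective (fun a => (a : ↥Cfsg.Spor.M22 → ↥Cfsg.Spor.M22)) DFunLike.coe_injective
    have hidx : (Cfsg.Inn ↥Cfsg.Spor.M22).index = 2 := by
      have h := Subgroup.card_mul_index (Cfsg.Inn ↥Cfsg.Spor.M22)
      rw [card_inn, card_mulAut] at h
      omega
    have h2 : a ^ 2 ∈ Cfsg.Inn ↥Cfsg.Spor.M22 := Subgroup.sq_mem_of_index_two hidx a
    have h1 : a = ((a ^ 2) ^ j)⁻¹ := by
      rw [eq_inv_iff_mul_eq_one, ← pow_mul, ← pow_succ', ← hj, pow_orderOf_eq_one]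
    rw [h1]; exact inv_mem (pow_mem h2 j)
  have hQ3 : IsPGroup 3 Q := by
    refine IsPGroup.of_card (n := (Nat.card Q).primeFactorsList.length)
      (Nat.eq_prime_pow_of_unique_prime_dvd Nat.card_pos.ne' fun {r} hr hrd => ?_)
    by_contra hr3
    haveI : Fact r.Prime := ⟨hr⟩
    obtain ⟨⟨x, hx⟩, hxr⟩ := exists_prime_orderOf_dvd_card' r hrd
    rw [Subgroup.orderOf_mk] at hxr
    have hxr' : orderOf (⟨x, hQH hx⟩ : ↥(HH z)) = r := by rw [Subgroup.orderOf_mk, hxr]
    have hr2 : r ≠ 2 := fun e => hodd (e ▸ hrd)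
    have hrN : ¬ r ∣ 3 * 2 ^ 13 := fun h => by
      rcases (hr.dvd_mul).1 h with h | h
      · exact hr3 ((Nat.prime_dvd_prime_iff_eq hr Nat.prime_three).1 h)
      · exact hr2 ((Nat.prime_dvd_prime_iff_eq hr Nat.prime_two).1 (hr.dvd_of_dvd_pow h))
    have hne : φ ⟨x, hQH hx⟩ ≠ 1 := fun e => by
      have hxN : x ∈ N := (hφk _).1 e
      refine hrN ?_
      rw [← D.cardN, ← hxr, ← Subgroup.orderOf_mk x hxN]
      exact orderOf_dvd_natCard _
    have hoa : orderOf (φ ⟨x, hQH hx⟩) = r :=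
      ((Nat.dvd_prime hr).1 (hxr' ▸ orderOf_map_dvd φ _)).resolve_left fun e => hne (orderOf_eq_one_iff.1 e)
    have hne' : φ ⟨q, hqH⟩ ≠ 1 := fun e => hqN ((hφk _).1 e)
    have hob : orderOf (φ ⟨q, hqH⟩) = 3 :=
      ((Nat.dvd_prime Nat.prime_three).1 (by
        have := orderOf_map_dvd φ (⟨q, hqH⟩ : ↥(HH z))
        rwa [Subgroup.orderOf_mk, hq] at this)).resolve_left fun e => hne' (orderOf_eq_one_iff.1 e)
    obtain ⟨c, hc⟩ := hinn _ (hoa ▸ hr.odd_of_ne_two hr2)
    obtain ⟨d, hd⟩ := hinn _ (hob ▸ (by decide : Odd 3))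
    have hinj : Function.Injective (MulAut.conj : ↥Cfsg.Spor.M22 →* MulAut ↥Cfsg.Spor.M22) := by
      rw [← MonoidHom.ker_eq_bot_iff, eq_bot_iff]
      intro u hu
      rw [← center_eq_bot, Subgroup.mem_center_iff]
      intro g
      have := congrArg (fun a : MulAut ↥Cfsg.Spor.M22 => a g) (MonoidHom.mem_ker.1 hu)
      simp only [MulAut.conj_apply, MulAut.one_apply] at this
      exact (mul_inv_eq_iff_eq_mul.1 this).symm
    have hoc : orderOf c = r := by rw [← orderOf_injective _ hinj, hc, hoa]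
    have hod : orderOf d = 3 := by rw [← orderOf_injective _ hinj, hd, hob]
    have hcd : c * d = d * c := hinj (by
      rw [map_mul, map_mul, hc, hd, ← map_mul, ← map_mul]
      exact congrArg φ (Subtype.ext (hcq x hx)))
    have h6 : r ∣ 6 := hoc ▸ orderOf_dvd_of_pow_eq_one (cent_pow d c hod hcd)
    rcases hr.dvd_mul.1 (show r ∣ 2 * 3 from h6) with h | h
    · exact hr2 ((Nat.prime_dvd_prime_iff_eq hr Nat.prime_two).1 h)
    · exact hr3 ((Nat.prime_dvd_prime_iff_eq hr Nat.prime_three).1 h)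
  obtain ⟨R, S⟩ := exists_syl D
  obtain ⟨h, hh, hconj⟩ := conj_into D S hQ3 hQH
  set q' := h * q * h⁻¹ with hq'
  have hq'R : q' ∈ R := hconj q hqQ
  have hq'P : q' ∉ P := fun e => hqN (by
    have := (mem_normalizer_iff.1 (D.norm (inv_mem hh)) _).1 (D.PN e)
    simpa [hq', mul_assoc] using this)
  intro x hx
  by_contra hxq
  set C := R ⊓ centralizer ({q'} : Set G) with hC
  set Q' := Q.map (MulAut.conj h).toMonoidHom with hQ'
  have hQ'C : Q' ≤ C := by
    rintro _ ⟨y, hy, rfl⟩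
    refine ⟨hconj y hy, ?_⟩
    show h * y * h⁻¹ ∈ centralizer ({q'} : Set G)
    rw [mem_centralizer_singleton_iff, hq']
    calc h * y * h⁻¹ * (h * q * h⁻¹) = h * (y * q) * h⁻¹ := by group
      _ = h * (q * y) * h⁻¹ := by rw [hcq y hy]
      _ = _ := by group
  have hpC : p ∈ C := ⟨S.P_le (p_mem D),
    mem_centralizer_singleton_iff.2 (center_elems D (P_zp D (p_mem D)) q' (S.le hq'R)).symm⟩
  have hC9 : Nat.card C ≤ 9 := by
    have hdvd : Nat.card C ∣ 3 ^ 3 := by
      have := Subgroup.card_dvd_of_le (inf_le_left : C ≤ R)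
      rwa [S.card, show (27 : ℕ) = 3 ^ 3 by norm_num] at this
    obtain ⟨k, hk, hCk⟩ := (Nat.dvd_prime_pow Nat.prime_three).1 hdvd
    rcases Nat.lt_or_ge k 3 with hk3 | hk3
    · rw [hCk]; exact (Nat.pow_le_pow_right (by norm_num) (by omega : k ≤ 2))
    · exfalso
      have hCR : C = R := Subgroup.eq_of_le_of_card_ge inf_le_left (by
        rw [hCk, S.card, show k = 3 by omega]; norm_num)
      refine hq'P (S.cen q' hq'R fun y hy => ?_)
      exact (mem_centralizer_singleton_iff.1 (hCR.ge hy).2).symm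
  have hlt : zpowers q < Q := lt_of_le_of_ne (zpowers_le.2 hqQ) fun e => hxq (e ▸ hx)
  have hQ9 : 9 ≤ Nat.card Q' := by
    rw [hQ', Subgroup.card_map_of_injective (MulAut.conj h).injective]
    obtain ⟨k, hk⟩ := IsPGroup.iff_card.1 hQ3
    have h3 : 3 < Nat.card Q := by
      rw [← hq, ← Nat.card_zpowers q]
      by_contra hle
      push Not at hle
      exact hlt.ne (Subgroup.eq_of_le_of_card_ge hlt.le hle)
    rw [hk] at h3 ⊢
    rcases Nat.lt_or_ge k 2 with h2 | h2
    · interval_cases k <;> norm_num at h3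
    · exact le_trans (by norm_num) (Nat.pow_le_pow_right (by norm_num) h2)
  have hQC : Q' = C := Subgroup.eq_of_le_of_card_ge hQ'C (hC9.trans hQ9)
  refine fix_big D S hq'R hq'P fun e he => ?_
  obtain ⟨heE, hec⟩ := he
  replace hec : e ∈ centralizer ({q'} : Set G) := hec
  rw [mem_centralizer_singleton_iff] at hec
  rw [← D.fixE]
  refine ⟨heE, fun y hy => ?_⟩
  rw [SetLike.mem_coe, ← D.gen] at hy
  obtain ⟨j, rfl⟩ := mem_zpowers_iff.1 hy
  obtain ⟨y0, hy0, hy0p⟩ := hQC.ge hpC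
  have hpe : Commute e p := by
    rw [← hy0p]
    show e * (h * y0 * h⁻¹) = h * y0 * h⁻¹ * e
    have h1 := E_normal D (inv_mem hh) heE
    rw [inv_inv] at h1
    have h2 : (h⁻¹ * e * h) * q = q * (h⁻¹ * e * h) := by
      calc h⁻¹ * e * h * q = h⁻¹ * (e * q') * h := by rw [hq']; group
        _ = h⁻¹ * (q' * e) * h := by rw [hec]
        _ = _ := by rw [hq']; group
    have h3 := hcE y0 hy0 _ h1 h2
    calc e * (h * y0 * h⁻¹) = h * ((h⁻¹ * e * h) * y0) * h⁻¹ := by group
      _ = h * (y0 * (h⁻¹ * e * h)) * h⁻¹ := by rw [h3]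
      _ = _ := by group
  exact (hpe.zpow_right j).eq.symm

include F hE

/-- Conjugating `P` back from the centraliser of a fused involution lands outside `N`. -/
theorem outside_of {s : G} (hs : s ∈ KK z P) (hsz : s ≠ z) {g : G} (hg : g * z * g⁻¹ = s) :
    g⁻¹ * p * g ∉ N := by
  haveI : Fact (Nat.Prime 3) := ⟨Nat.prime_three⟩
  have hsc : IsConj z s := isConj_iff.2 ⟨g, hg⟩
  set q := g⁻¹ * p * g with hq
  have hq3 : orderOf q = 3 := by
    rw [hq, show g⁻¹ * p * g = MulAut.conj g⁻¹ p by simp, MulEquiv.orderOf_eq, D.ord]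
  intro hqN
  let Ps : Sylow 3 N := Sylow.ofCard (P.subgroupOf N) (by
    rw [Nat.card_congr (Subgroup.subgroupOfEquivOfLe D.PN).toEquiv, D.cardP, D.cardN,
      Nat.factorization_mul (by norm_num) (by norm_num), Finsupp.add_apply,
      Nat.Prime.factorization_self Nat.prime_three, Nat.factorization_eq_zero_of_not_dvd (by norm_num)]
    norm_num)
  have hq9 : IsPGroup 3 (zpowers (⟨q, hqN⟩ : N)) :=
    IsPGroup.of_card (n := 1) (by rw [Nat.card_zpowers, Subgroup.orderOf_mk, hq3, pow_one])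
  obtain ⟨T, hT⟩ := hq9.exists_le_sylow
  obtain ⟨n, hn⟩ := MulAction.exists_smul_eq N T Ps
  have h1 : (n : G) * q * (n : G)⁻¹ ∈ P := by
    have h2 : MulAut.conj n • (⟨q, hqN⟩ : N) ∈ (Ps : Subgroup N) := by
      rw [← hn, Sylow.coe_subgroup_smul]
      exact Subgroup.smul_mem_pointwise_smul _ _ _ (hT (mem_zpowers _))
    exact h2
  have hnz : Commute (n : G) z := mem_centralizer_singleton_iff.1 (D.NH n.2)
  set g1 := g * (n : G)⁻¹ with hg1
  have hg1z : g1 * z * g1⁻¹ = s := by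
    rw [hg1, ← hg]
    calc g * (n : G)⁻¹ * z * (g * (n : G)⁻¹)⁻¹ = g * ((n : G)⁻¹ * z) * n * g⁻¹ := by group
      _ = g * (z * (n : G)⁻¹) * n * g⁻¹ := by rw [hnz.inv_left.eq]
      _ = _ := by group
  have hg1p : g1⁻¹ * p * g1 ∈ P := by
    rwa [hg1, show (g * (n : G)⁻¹)⁻¹ * p * (g * (n : G)⁻¹) = (n : G) * q * (n : G)⁻¹ by rw [hq]; group]
  obtain ⟨g2, hg2, hg2z⟩ : ∃ g2 ∈ centralizer (P : Set G), g2 * z * g2⁻¹ = s := by
    have hcomm : ∀ w : G, w * p = p * w → w ∈ centralizer (P : Set G) := fun w hw y hy => by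
      rw [SetLike.mem_coe, ← D.gen] at hy
      obtain ⟨i, rfl⟩ := mem_zpowers_iff.1 hy
      exact ((show Commute w p from hw).zpow_right i).eq.symm
    rcases P_cases D hg1p with e | e | e
    · exfalso
      have := D.ord
      rw [show p = 1 by
        calc p = g1 * (g1⁻¹ * p * g1) * g1⁻¹ := by group
          _ = 1 := by rw [e]; group, orderOf_one] at this
      norm_num at this
    · exact ⟨g1, hcomm _ (by
        calc g1 * p = g1 * (g1⁻¹ * p * g1) := by rw [e]
          _ = p * g1 := by group), hg1z⟩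
    · obtain ⟨u, hu, huK⟩ := SetLike.exists_of_lt (lt_of_le_of_ne (KK_le_NP D) (Ne.symm D.ne))
      have hu2 : u * p * u⁻¹ = p ^ 2 := by
        rcases P_cases D ((mem_normalizer_iff.1 hu.2 p).1 (p_mem D)) with e' | e' | e'
        · exfalso
          have := D.ord
          rw [conj_eq_one_iff.1 e', orderOf_one] at this
          norm_num at this
        · exact absurd ⟨hu.1, hcomm u (mul_inv_eq_iff_eq_mul.1 e')⟩ huK
        · exact e'
      have huz : Commute u z := mem_centralizer_singleton_iff.1 hu.1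
      refine ⟨g1 * u, hcomm _ ?_, ?_⟩
      · calc g1 * u * p = g1 * (u * p * u⁻¹) * u := by group
          _ = g1 * (g1⁻¹ * p * g1) * u := by rw [hu2, e]
          _ = p * (g1 * u) := by group
      · rw [← hg1z]
        calc g1 * u * z * (g1 * u)⁻¹ = g1 * (u * z) * u⁻¹ * g1⁻¹ := by group
          _ = g1 * (z * u) * u⁻¹ * g1⁻¹ := by rw [huz.eq]
          _ = _ := by group
  obtain ⟨k, hk, hka⟩ := conj_class D F hs hsz hsc
  refine not_fuse D hE F (g := k⁻¹ * g2) (mul_mem (inv_mem hk.2) hg2) ?_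
  calc k⁻¹ * g2 * z * (k⁻¹ * g2)⁻¹ = k⁻¹ * (g2 * z * g2⁻¹) * k := by group
    _ = k⁻¹ * (k * a * k⁻¹) * k := by rw [hg2z, hka]
    _ = a := by group

theorem outside {g : G} (hg : g * z * g⁻¹ = a) : g⁻¹ * p * g ∉ N :=
  outside_of D hE F F.ha F.az hg

/-- The odd core of the centraliser of `P` meets the centraliser of a fused involution in `P`. -/
theorem core_inf {s : G} (hs : s ∈ KK z P) (hsz : s ≠ z) (hsc : IsConj z s) {O : Subgroup G}
    (hO : O ≤ centralizer (P : Set G)) (hPO : P ≤ O) (hodd : ¬ 2 ∣ Nat.card O)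
    (hnorm : centralizer (P : Set G) ≤ normalizer (O : Set G)) :
    O ⊓ centralizer ({s} : Set G) ≤ P := by
  haveI : Fact (Nat.Prime 3) := ⟨Nat.prime_three⟩
  obtain ⟨g, hg⟩ := isConj_iff.1 hsc
  set E := Cfsg.twoCoreOfCentralizer z with hEdef
  set q := g⁻¹ * p * g with hq
  have hps : Commute p s := (hs.2 p (p_mem D))
  have hto : ∀ x : G, x * s = s * x → g⁻¹ * x * g ∈ HH z := by
    intro x hx
    rw [mem_centralizer_singleton_iff]
    calc g⁻¹ * x * g * z = g⁻¹ * (x * (g * z * g⁻¹)) * g := by group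
      _ = g⁻¹ * ((g * z * g⁻¹) * x) * g := by rw [hg, hx]
      _ = z * (g⁻¹ * x * g) := by group
  have hqH : q ∈ HH z := hto p hps.eq
  have hq3 : orderOf q = 3 := by
    rw [hq, show g⁻¹ * p * g = MulAut.conj g⁻¹ p by simp, MulEquiv.orderOf_eq, D.ord]
  have hqN : q ∉ N := by
    rw [hq]; exact outside_of D hE F hs hsz hg
  set Y := O ⊓ centralizer ({s} : Set G) with hY
  set Q := Y.map (MulAut.conj g⁻¹).toMonoidHom with hQ
  have hpY : p ∈ Y := ⟨hPO (p_mem D), mem_centralizer_singleton_iff.2 hps.eq⟩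
  have hQodd : ¬ 2 ∣ Nat.card Q := fun h => hodd (h.trans (by
    rw [hQ, Subgroup.card_map_of_injective (MulAut.conj g⁻¹).injective]
    exact Subgroup.card_dvd_of_le inf_le_left))
  have hval : ∀ x : G, (MulAut.conj g⁻¹).toMonoidHom x = g⁻¹ * x * g := fun x => by simp
  have hQH : Q ≤ HH z := by
    rintro _ ⟨x, hx, rfl⟩
    rw [hval]; exact hto x (mem_centralizer_singleton_iff.1 hx.2)
  have hres := odd_cent D hq3 hqH hqN hQH hQodd ⟨p, hpY, hval p⟩ ?_ ?_
  · intro x hx
    obtain ⟨i, hi⟩ := mem_zpowers_iff.1 (hres ⟨x, hx, hval x⟩)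
    have e : x = p ^ i := by
      have h1 : (g⁻¹ * p * g) ^ i = g⁻¹ * p ^ i * g := by
        rw [show g⁻¹ * p * g = g⁻¹ * p * g⁻¹⁻¹ by rw [inv_inv], conj_zpow, inv_inv]
      rw [← hq] at h1
      rw [h1] at hi
      exact (mul_left_cancel (mul_right_cancel hi)).symm
    rw [e]; exact zpow_mem (p_mem D) i
  · rintro _ ⟨x, hx, rfl⟩
    rw [hval, hq]
    have hxp : p * x = x * p := hO hx.1 p (p_mem D)
    calc g⁻¹ * x * g * (g⁻¹ * p * g) = g⁻¹ * (x * p) * g := by group
      _ = g⁻¹ * (p * x) * g := by rw [hxp]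
      _ = _ := by group
  · rintro _ ⟨x, hx, rfl⟩ e he heq
    rw [hval]
    set y := g⁻¹ * x * g with hy
    have hyH : y ∈ HH z := hto x (mem_centralizer_singleton_iff.1 hx.2)
    set e' := g * e * g⁻¹ with he'
    have he'p : e' ∈ centralizer (P : Set G) := fun w hw => by
      rw [SetLike.mem_coe, ← D.gen] at hw
      obtain ⟨i, rfl⟩ := mem_zpowers_iff.1 hw
      refine ((show Commute e' p from ?_).zpow_right i).eq.symm
      show e' * p = p * e'
      calc e' * p = g * (e * q) * g⁻¹ := by rw [he', hq]; group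
        _ = g * (q * e) * g⁻¹ := by rw [heq]
        _ = _ := by rw [he', hq]; group
    have heH : e ∈ HH z := by obtain ⟨u, -, rfl⟩ := he; exact u.2
    have he's : Commute e' s := by
      show e' * s = s * e'
      rw [← hg, he']
      calc g * e * g⁻¹ * (g * z * g⁻¹) = g * (e * z) * g⁻¹ := by group
        _ = g * (z * e) * g⁻¹ := by rw [mem_centralizer_singleton_iff.1 heH]
        _ = _ := by group
    set d := y * e * y⁻¹ * e⁻¹ with hd
    have hdE : d ∈ E := mul_mem (E_normal D hyH he) (inv_mem he)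
    have hdY : g * d * g⁻¹ ∈ O := by
      rw [show g * d * g⁻¹ = x * (e' * x⁻¹ * e'⁻¹) by rw [hd, hy, he']; group]
      exact mul_mem hx.1 ((mem_normalizer_iff.1 (hnorm he'p) _).1 (inv_mem hx.1))
    have hd1 : d = 1 := by
      have h1 : orderOf d ∣ Nat.card E := by rw [← Subgroup.orderOf_mk d hdE]; exact orderOf_dvd_natCard _
      have h2 : orderOf d ∣ Nat.card O := by
        rw [← MulEquiv.orderOf_eq (MulAut.conj g) d, MulAut.conj_apply, ← Subgroup.orderOf_mk _ hdY]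
        exact orderOf_dvd_natCard _
      rw [D.cardE] at h1
      have hco : Nat.Coprime (2 ^ 13) (Nat.card O) :=
        Nat.Coprime.pow_left 13 ((Nat.Prime.coprime_iff_not_dvd Nat.prime_two).2 hodd)
      exact orderOf_eq_one_iff.1 (Nat.eq_one_of_dvd_coprimes hco h1 h2)
    rw [hd, mul_inv_eq_one] at hd1
    exact mul_inv_eq_iff_eq_mul.1 hd1

/-- The centraliser of `P` lies in the centraliser of the involution. -/
theorem centralizer_le : centralizer (P : Set G) ≤ HH z := by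
  haveI : Fact (Nat.Prime 2) := ⟨Nat.prime_two⟩
  set X := centralizer (P : Set G) with hX
  have hzX : z ∈ X := ((zp_KK D) (z_zp D)).2
  set zx : X := ⟨z, hzX⟩ with hzx
  have hiso : Cfsg.IsIsolatedInvolution zx := by
    refine ⟨by rw [hzx, Subgroup.orderOf_mk, D.hz], fun g hg => ?_⟩
    by_contra hne
    set s : G := (g : G) * z * (g : G)⁻¹ with hs
    have hsv : ((g * zx * g⁻¹ : X) : G) = s := by rw [hs]; simp [hzx]
    have hsz : s ≠ z := fun e => hne (Subtype.ext (hsv.trans e))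
    have hsK : s ∈ KK z P := by
      refine ⟨mem_centralizer_singleton_iff.2 ?_, ?_⟩
      · have h1 := congrArg Subtype.val hg.eq
        simp only [hzx, Subgroup.coe_mul, Subgroup.coe_inv] at h1
        rw [hs]
        simpa [mul_assoc] using h1.symm
      · rw [← hsv]; exact (g * zx * g⁻¹).2
    obtain ⟨k, hk, hka⟩ := conj_class D F hsK hsz (isConj_iff.2 ⟨g, rfl⟩)
    refine not_fuse D hE F (g := k⁻¹ * g) (mul_mem (inv_mem hk.2) g.2) ?_
    calc k⁻¹ * (g : G) * z * (k⁻¹ * (g : G))⁻¹ = k⁻¹ * s * k := by rw [hs]; group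
      _ = k⁻¹ * (k * a * k⁻¹) * k := by rw [hka]
      _ = a := by group
  set O : Subgroup G := (Cfsg.pPrimeCore 2 X).map X.subtype with hOdef
  have hOX : O ≤ X := Subgroup.map_subtype_le _
  have hodd : ¬ 2 ∣ Nat.card O := by
    rw [hOdef, Subgroup.card_map_of_injective X.subtype_injective]
    exact (Nat.Prime.coprime_iff_not_dvd Nat.prime_two).1 (HallCore.coprime_card_pPrimeCore 2 X).symm
  have hnorm : X ≤ normalizer (O : Set G) := fun x hx => by
    refine mem_normalizer_fintype ?_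
    rintro _ ⟨y, hy, rfl⟩
    exact ⟨⟨x, hx⟩ * y * ⟨x, hx⟩⁻¹, (HallCore.pPrimeCore_normal 2 X).conj_mem y hy _, by simp⟩
  have hPX : P ≤ X := fun x hx => ((zp_KK D) (P_zp D hx)).2
  have hPO : P ≤ O := by
    have hPn : (P.subgroupOf X).Normal := by
      refine PGroupsBasic.normal_of_le_center fun x hx => mem_center_iff.2 fun y => Subtype.ext ?_
      exact (y.2 x.1 hx).symm
    have h := HallCore.le_pPrimeCore (p := 2) (N := P.subgroupOf X) (by
      rw [Nat.card_congr (Subgroup.subgroupOfEquivOfLe hPX).toEquiv, D.cardP]; norm_num)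
    exact fun x hx => ⟨⟨x, hPX hx⟩, h (show x ∈ P from hx), rfl⟩
  have hpair : CoprimeGen.IsPairAction 2 a b O := by
    have h2 : ∀ w : G, IsConj z w → w ^ 2 = 1 := fun w hw => by
      rw [← order_conj D hw]; exact pow_orderOf_eq_one w
    refine ⟨F.comm_ab, h2 a F.conj_a, h2 b F.conj_b, ?_, ?_, hnorm F.ha.2, hnorm F.hb.2⟩
    · intro e
      have := order_conj D F.conj_b
      rw [e, orderOf_one] at this; norm_num at this
    · intro h
      obtain ⟨i, hi⟩ := mem_zpowers_iff.1 h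
      rcases Int.even_or_odd' i with ⟨j, rfl | rfl⟩
      · rw [zpow_mul, zpow_two, ← pow_two, h2 b F.conj_b, one_zpow] at hi
        have := order_conj D F.conj_a
        rw [← hi, orderOf_one] at this; norm_num at this
      · rw [zpow_add, zpow_mul, zpow_two, ← pow_two, h2 b F.conj_b, one_zpow, one_mul, zpow_one] at hi
        exact F.ab_one (by rw [← hi, ← pow_two]; exact h2 b F.conj_b)
  have hOP : O ≤ P := by
    refine CoprimeGen.le_of_pair_centralizers hpair hodd fun e he he1 => ?_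
    obtain ⟨m, n, rfl⟩ := CoprimeGen.mem_pairSubgroup_iff.1 he
    have hcase : ∀ w : G, w ^ 2 = 1 → ∀ i : ℤ, w ^ i = 1 ∨ w ^ i = w := by
      intro w hw i
      rcases Int.even_or_odd' i with ⟨j, rfl | rfl⟩
      · left; rw [zpow_mul, zpow_two, ← pow_two, hw, one_zpow]
      · right; rw [zpow_add, zpow_mul, zpow_two, ← pow_two, hw, one_zpow, one_mul, zpow_one]
    rcases hcase a hpair.pow_left m with ea | ea <;> rcases hcase b hpair.pow_right n with eb | eb <;>
      rw [ea, eb] at he1 ⊢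
    · exact absurd (mul_one 1) he1
    · rw [one_mul]; exact core_inf D hE F F.hb F.bz F.conj_b hOX hPO hodd hnorm
    · rw [mul_one]; exact core_inf D hE F F.ha F.az F.conj_a hOX hPO hodd hnorm
    · exact core_inf D hE F (mul_mem F.ha F.hb) F.ab_z F.conj_ab hOX hPO hodd hnorm
  intro g hg
  have h := ZStarTheorem.commutator_mem hiso (⟨g, hg⟩ : X)
  have hu : z * g * z⁻¹ * g⁻¹ ∈ P := hOP ⟨_, h, by simp [hzx]⟩
  set u := z * g * z⁻¹ * g⁻¹ with hudef
  have hzinv : z⁻¹ = z := inv_eq_of_mul_eq_one_right (zz D)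
  have huz : Commute u z := ((mem_centralizer_singleton_iff.1 (PH D hu)) : u * z = z * u)
  have hsq : (g * z * g⁻¹) * (g * z * g⁻¹) = 1 := by
    rw [show g * z * g⁻¹ * (g * z * g⁻¹) = g * (z * z) * g⁻¹ by group, zz D, mul_one, mul_inv_cancel]
  have hgz : g * z * g⁻¹ = z * u := by
    rw [hudef, show z * (z * g * z⁻¹ * g⁻¹) = z * z * (g * z⁻¹ * g⁻¹) by group, zz D, one_mul, hzinv]
  clear_value u
  rw [hgz] at hsq
  have huu : u * u = 1 := by
    calc u * u = z * z * u * u := by rw [zz D, one_mul]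
      _ = z * (z * u) * u := by group
      _ = z * (u * z) * u := by rw [huz.eq]
      _ = z * u * (z * u) := by group
      _ = 1 := hsq
  have hu1 : u = 1 := by
    have h3 : u ^ 3 = 1 := by
      rcases P_cases D hu with e | e | e <;> rw [e]
      · rw [one_pow]
      · exact p_pow_three D
      · rw [← pow_mul, show 2 * 3 = 3 * 2 by norm_num, pow_mul, p_pow_three D, one_pow]
    rwa [pow_succ, pow_two, huu, one_mul] at h3
  rw [hu1, mul_one] at hgz
  rw [mem_centralizer_singleton_iff]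
  exact mul_inv_eq_iff_eq_mul.1 hgz

/-- The normaliser of `P` lies in the centraliser of the involution. -/
theorem normalizer_le : normalizer (P : Set G) ≤ HH z := by
  intro g hg
  have hcl := centralizer_le D hE F
  obtain ⟨u, hu, huK⟩ := SetLike.exists_of_lt (lt_of_le_of_ne (KK_le_NP D) (Ne.symm D.ne))
  have hcomm : ∀ w : G, w * p = p * w → w ∈ centralizer (P : Set G) := fun w hw y hy => by
    rw [SetLike.mem_coe, ← D.gen] at hy
    obtain ⟨i, rfl⟩ := mem_zpowers_iff.1 hy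
    exact ((show Commute w p from hw).zpow_right i).eq.symm
  have hone : ∀ w : G, w * p * w⁻¹ = 1 → False := fun w e => by
    have := D.ord
    rw [conj_eq_one_iff.1 e, orderOf_one] at this
    norm_num at this
  rcases P_cases D ((mem_normalizer_iff.1 hg p).1 (p_mem D)) with e | e | e
  · exact (hone g e).elim
  · exact hcl (hcomm g (mul_inv_eq_iff_eq_mul.1 e))
  · rcases P_cases D ((mem_normalizer_iff.1 hu.2 p).1 (p_mem D)) with e' | e' | e'
    · exact (hone u e').elim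
    · exact absurd ⟨hu.1, hcomm u (mul_inv_eq_iff_eq_mul.1 e')⟩ huK
    · have h1 : u⁻¹ * g ∈ centralizer (P : Set G) := hcomm _ (by
        calc u⁻¹ * g * p = u⁻¹ * (g * p * g⁻¹) * g := by group
          _ = u⁻¹ * (u * p * u⁻¹) * g := by rw [e, e']
          _ = p * (u⁻¹ * g) := by group)
      have := mul_mem hu.1 (hcl h1)
      rwa [mul_inv_cancel_left] at this

omit D F hE in
/-- The statements about `P` and the Sylow 3-subgroup. -/
theorem conclusions {z : G} {P : Subgroup G} (hJ : Cfsg.IsOfJankoFourTypeWith z P)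
    (hF : ∃ (p : G) (a b c : G), zpowers p = P ∧ Fus z p P a b c) :
    (⁅KK z P, KK z P⁆ = KK z P ∧ IsCyclic ↥(center ↥(KK z P)) ∧ Nat.card ↥(center ↥(KK z P)) = 6 ∧
      Cfsg.Spor.IsoM22 (↥(KK z P) ⧸ center ↥(KK z P)) ∧ normalizer (P : Set G) ≤ HH z) ∧
    (∀ x y : G, orderOf x = 3 → orderOf y = 3 → IsConj x y) ∧
    ∀ R : Sylow 3 G, (R : Subgroup G) ≤ HH z →
      Cfsg.IsExtraspecial 3 ↥(R : Subgroup G) ∧ Nat.card ↥(R : Subgroup G) = 27 ∧
        Monoid.exponent ↥(R : Subgroup G) = 3 ∧ normalizer ((R : Subgroup G) : Set G) ≤ HH z ∧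
        Nat.card ↥(normalizer ((R : Subgroup G) : Set G)) = 864 := by
  haveI : Fact (Nat.Prime 3) := ⟨Nat.prime_three⟩
  obtain ⟨p, a, b, c, hgen, F⟩ := hF
  obtain ⟨N, q, D0⟩ := exists_pack hJ
  have hp : orderOf p = 3 := by rw [← Nat.card_zpowers, hgen, D0.cardP]
  have D : Pack z P N p := { D0 with gen := hgen, ord := hp }
  have hE := hJ.2.1
  have hN := normalizer_le D hE F
  obtain ⟨R, S⟩ := exists_syl D
  refine ⟨⟨(cover D (z_derived D F)).1, (cover D (z_derived D F)).2.1, (cover D (z_derived D F)).2.2.1,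
    (cover D (z_derived D F)).2.2.2, hN⟩, one_class D S hN ?_, fun T hT => sylow_facts D S hN T hT⟩
  obtain ⟨g, hg⟩ := isConj_iff.1 F.conj_a
  refine ⟨g⁻¹, ?_, ?_⟩
  · rw [inv_inv, mem_centralizer_singleton_iff]
    have hpa : p * a = a * p := F.ha.2 p (hgen ▸ mem_zpowers p)
    calc g⁻¹ * p * g * z = g⁻¹ * (p * (g * z * g⁻¹)) * g := by group
      _ = g⁻¹ * ((g * z * g⁻¹) * p) * g := by rw [hg, hpa]
      _ = z * (g⁻¹ * p * g) := by group
  · rw [inv_inv]
    exact outside D hE F hg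

end Cfsg.Agent.JFourCent97
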