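import Mathlib
import Cfsg.Agent.Lib.J4CompGroup43
import Cfsg.Agent.Lib.J4Elem85
import Cfsg.Agent.Lib.JFourCent97

/-!
A group of Janko-four type: for every elementary abelian subgroup of order 2048 of the centraliser of
the involution there is a 2-subgroup of order 1024 normalising it and meeting it trivially.
-/

set_option autoImplicit false
set_option linter.style.haveILetI false
set_option linter.unusedSectionVars false
set_option maxHeartbeats 1000000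
set_option maxRecDepth 100000

namespace Cfsg.Agent.J4CompV43

open scoped Matrix
open Subgroup Cfsg.Agent.JFourSetting97 Cfsg.Agent.JFourModule85 Cfsg.Agent.J4Elem85
  Cfsg.Agent.J4Syl18 Cfsg.Agent.J4Check18 Cfsg.Agent.J4Data18 Cfsg.Agent.J4CompModel43

universe u

/-- the permutations of the coded generators -/
def permGen : List ℕ := [GolayOutConst.pT, GolayOutConst.pU, GolayOutConst.pV22]

/-- the permutation word of a word in the four coded generators -/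
def pword (w : List ℕ) : List ℕ := (w.filter fun k => Nat.blt k 3).map fun k => permGen.getD k 0

theorem word_ok : ((List.range 4).all fun k =>
    allMc (pword (sylWord.getD k [])) && allMc [J4CompData43.eL.getD k 0] &&
      GolayOutTool.sameWord (pword (sylWord.getD k [])) [J4CompData43.eL.getD k 0]) = true := by
  decide +kernel

variable {G : Type u} [Group G] [Finite G] {z p : G} {P N : Subgroup G}

/-- An elementary abelian subgroup of order 2048 of the centraliser has the required 2-subgroup. -/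
theorem exists_complement_two {a b c : G} (hJ : Cfsg.IsOfJankoFourTypeWith z P)
    (hgen : zpowers p = P) (hF : JFourCent97.Fus z p P a b c)
    {B : Subgroup G} (hBH : B ≤ HH z) (hBc : ∀ x ∈ B, ∀ y ∈ B, x * y = y * x)
    (hBs : ∀ x ∈ B, x * x = 1) (hB : Nat.card B = 2 ^ 11) :
    ∃ U : Subgroup G, Nat.card U = 2 ^ 10 ∧ U ≤ normalizer (B : Set G) ∧ U ⊓ B = ⊥ := by
  classical
  obtain ⟨⟨hperf, -, -, -, hnpH⟩, hcls, -⟩ := JFourCent97.conclusions hJ ⟨p, a, b, c, hgen, hF⟩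
  obtain ⟨N, p1, Dp⟩ := exists_pack hJ
  obtain ⟨V, _, zc, π, ρ, q, n, Mb, D⟩ := JFourModule85.exists_data hJ
  haveI : Fintype (GaloisField 2 2) := Fintype.ofFinite _
  have hF4 : Fintype.card (GaloisField 2 2) = 4 := by
    rw [← Nat.card_eq_fintype_card, GaloisField.card 2 2 two_ne_zero]; norm_num
  obtain ⟨s, hs⟩ := U62Mon93.exists_S4 hF4
  obtain ⟨ν, f, x0, y0, v0, hxM, hyM, hvM, hν, hfs, hfk, hxK, hyK, hvK, fx, fy, fv, -, -, -, aX, aY,
    aV, aS, hcl⟩ := JFourModule85.exists_coord D hs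
  have C : J4Syl18.Coord hs ρ q n Mb ν := by
    refine ⟨hν.bij, hν.add, hν.form, hν.scalar, fun k hk => ?_, ?_⟩
    · rw [genC_eq]
      interval_cases k
      · exact ⟨_, hxM, aX⟩
      · exact ⟨_, hyM, aY⟩
      · exact ⟨_, hvM, aV⟩
      · exact ⟨n, D.hyp.n_mem, aS⟩
    · refine le_antisymm ((Subgroup.closure_le _).2 fun g hg => hg.1) ?_
      refine hcl.symm.le.trans (Subgroup.closure_mono ?_)
      rw [genC_eq]
      rintro g (rfl | rfl | rfl)
      · exact ⟨D.hyp.n_mem, 3, by norm_num, aS⟩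
      · exact ⟨hxM, 0, by norm_num, aX⟩
      · exact ⟨hvM, 2, by norm_num, aV⟩
  obtain ⟨p0, hp0, -, hp0n⟩ := D.n_lift
  have hmkKK : ∀ k : ↥(HH z), (k : G) ∈ KK z P → mk z k ∈ Mb := fun k hk => by
    rw [D.Mb_eq]; exact ⟨k, hk, rfl⟩
  let φ : ↥(KK z P) →* M22 := f.comp
    (((mk z).comp (Subgroup.inclusion inf_le_left)).codRestrict Mb fun k => hmkKK _ k.2)
  have hφ : ∀ (k : ↥(HH z)) (hk : (k : G) ∈ KK z P), J4Comp43.im φ (k : G) = f ⟨mk z k, hmkKK k hk⟩ :=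
    fun k hk => by rw [J4Comp43.im_of hk]; rfl
  have hφs : Function.Surjective φ := fun g => by
    obtain ⟨m, rfl⟩ := hfs g
    obtain ⟨k, hk, e⟩ : (m : ↥(HH z) ⧸ QQ z) ∈ ((KK z P).subgroupOf (HH z)).map (mk z) :=
      D.Mb_eq ▸ m.2
    exact ⟨⟨k, hk⟩, congrArg f (Subtype.ext e)⟩
  have hPn : ∀ k : ↥(HH z), (k : G) ∈ P → mk z k ∈ zpowers n := fun k hk => by
    rw [← hp0] at hk
    obtain ⟨i, hi⟩ := hk
    rw [show k = p0 ^ i from Subtype.ext (by rw [SubgroupClass.coe_zpow]; exact hi.symm), map_zpow, hp0n]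
    exact zpow_mem (mem_zpowers n) i
  have hzQ : ∀ k : ↥(HH z), (k : G) = z → mk z k = 1 := fun k hk =>
    (QuotientGroup.eq_one_iff k).2 (JFourModule85.mem_E.1 (by rw [hk]; exact z_mem Dp))
  have hφk : φ.ker = (zpowers (z * p1)).subgroupOf (KK z P) := by
    ext ⟨k, hk⟩
    rw [MonoidHom.mem_ker, Subgroup.mem_subgroupOf]
    show f _ = 1 ↔ k ∈ _
    rw [hfk]
    constructor
    · rintro ⟨i, hi⟩
      simp only at hi
      set kk : ↥(HH z) := ⟨k, hk.1⟩ with hkk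
      have hq : kk⁻¹ * p0 ^ i ∈ QQ z := QuotientGroup.eq.1 (by
        rw [← hp0n, ← map_zpow] at hi
        exact hi.symm)
      have hp0P : (p0 : G) ∈ P := hp0 ▸ mem_zpowers _
      have hpi : ((p0 : G)) ^ i ∈ zpowers (z * p1) := zpow_mem (P_zp Dp hp0P) i
      have hE := JFourModule85.mem_E.2 hq
      rw [Subgroup.coe_mul, InvMemClass.coe_inv, SubgroupClass.coe_zpow] at hE
      have hc : k⁻¹ * (p0 : G) ^ i ∈ zpowers z := by
        rw [← Dp.fixE]
        exact ⟨hE, (mul_mem (inv_mem hk) (zp_KK Dp hpi)).2⟩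
      have := mul_mem hpi (inv_mem (zpowers_le.2 (z_zp Dp) hc))
      rwa [show (p0 : G) ^ i * (k⁻¹ * (p0 : G) ^ i)⁻¹ = k by group] at this
    · intro h
      show mk z ⟨k, hk.1⟩ ∈ zpowers n
      obtain ⟨i, hi⟩ := h
      have hz1 : mk z ⟨z * p1, (zp_KK Dp (mem_zpowers _)).1⟩ ∈ zpowers n := by
        rw [show (⟨z * p1, (zp_KK Dp (mem_zpowers _)).1⟩ : ↥(HH z)) =
          ⟨z, (zp_KK Dp (z_zp Dp)).1⟩ * ⟨p1, (zp_KK Dp (P_zp Dp (p_mem Dp))).1⟩ from rfl, map_mul,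
          hzQ _ rfl, one_mul]
        exact hPn _ (p_mem Dp)
      rw [show (⟨k, hk.1⟩ : ↥(HH z)) = ⟨z * p1, (zp_KK Dp (mem_zpowers _)).1⟩ ^ i from
        Subtype.ext (by rw [SubgroupClass.coe_zpow]; exact hi.symm), map_zpow]
      exact zpow_mem hz1 i
  have I : J4Comp43.Inp z p1 P φ a := ⟨hφs, hφk, hperf, hnpH, hcls, hF.ha, hF.az, hF.conj_a, hF.not_az⟩
  -- the hexad group in the coordinates
  set H := hyp D with hHdef
  set E := E1 H C with hEdef
  have hEMb : ∀ {e}, e ∈ E → e ∈ Mb := fun he => ((E1_le H C).trans (T0_le H C)) he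
  have hword : ∀ w : List ℕ, w.all (fun x => Nat.blt x 4) = true → ∃ g : Mb,
      J4Coord85.Acts ρ ν (g : ↥(HH z) ⧸ QQ z) (LFMat89.matOf s (J4Check18.word w)) ∧
        f g = val (pword w) := by
    intro w hw
    induction w with
    | nil =>
      refine ⟨1, fun v => ?_, map_one f⟩
      rw [OneMemClass.coe_one, rho_one, J4Check18.word, List.foldr_nil, LFMat89.matOf_id hs,
        Matrix.one_mulVec]
    | cons k w ih =>
      rw [List.all_cons, Bool.and_eq_true, Nat.blt_eq] at hw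
      obtain ⟨g, hg, hgf⟩ := ih hw.2
      obtain ⟨m, hm, hmf⟩ : ∃ m : Mb, J4Coord85.Acts ρ ν (m : ↥(HH z) ⧸ QQ z)
          (LFMat89.matOf s (genC.getD k 0)) ∧ f m * val (pword w) = val (pword (k :: w)) := by
        rw [genC_eq]
        have hk := hw.1
        interval_cases k
        · refine ⟨⟨_, hxM⟩, aX, ?_⟩
          rw [fx, gT_eq, ← val_cons]; rfl
        · refine ⟨⟨_, hyM⟩, aY, ?_⟩
          rw [fy, show GolayOutM22.gU = e GolayOutConst.pU from
            Subtype.ext (GolayBlockTools.coe_el JFourM22Facts97.mc_sound (P := GolayOutConst.pU)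
              (by decide +kernel)).symm,
            ← val_cons]; rfl
        · refine ⟨⟨_, hvM⟩, aV, ?_⟩
          rw [fv, gV_eq, ← val_cons]; rfl
        · refine ⟨⟨n, D.hyp.n_mem⟩, aS, ?_⟩
          rw [(hfk ⟨n, D.hyp.n_mem⟩).2 (mem_zpowers n), one_mul]; rfl
      refine ⟨m * g, fun v => ?_, by rw [map_mul, hgf, hmf]⟩
      show _ = ν (LFMat89.matOf s (LFCheck89.mulM (genC.getD k 0) (J4Check18.word w)) *ᵥ v)
      rw [LFMat89.matOf_mul hs, Subgroup.coe_mul, rho_mul, hg, hm, Matrix.mulVec_mulVec]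
  let Sf : ℕ → Prop := fun i => ∃ hm : tau s ρ ν i ∈ Mb, f ⟨tau s ρ ν i, hm⟩ ∈ Eb
  have htau : ∀ k < 4, ∃ hm : tau s ρ ν (2 ^ k) ∈ Mb,
      f ⟨tau s ρ ν (2 ^ k), hm⟩ = e (J4CompData43.eL.getD k 0) := by
    intro k hk
    have hk2 : 2 ^ k < 128 :=
      lt_of_lt_of_le (Nat.pow_lt_pow_right (by norm_num) hk) (by norm_num)
    obtain ⟨hw1, hw2⟩ := sylWord_ok k (by omega)
    obtain ⟨g, hg, hgf⟩ := hword _ hw1
    have hel : LFMat89.matOf s (el (2 ^ k)) = LFMat89.matOf s (J4Check18.word (sylWord.getD k [])) := by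
      have h0 := Nat.eq_of_beq_eq_true (LFCheck89.allBelow_spec (LFCheck89.allBelow_spec elStep_ok k
        (by omega)) 0 (Nat.two_pow_pos k))
      rw [Nat.add_zero, el_zero] at h0
      rw [h0, LFMat89.matOf_mul hs, LFMat89.matOf_id hs, mul_one, hw2]
    have heq : tau s ρ ν (2 ^ k) = (g : ↥(HH z) ⧸ QQ z) :=
      ext_op H C fun v => by rw [op_tau H C hk2, hg, hel]
    refine ⟨heq ▸ g.2, ?_⟩
    rw [show (⟨tau s ρ ν (2 ^ k), heq ▸ g.2⟩ : Mb) = g from Subtype.ext heq, hgf, ← val_one]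
    exact val_eq (List.all_eq_true.1 word_ok k (List.mem_range.2 hk))
  have hSf : ∀ k ≤ 4, ∀ i < 2 ^ k, Sf i := by
    intro k
    induction k with
    | zero =>
      intro _ i hi
      obtain rfl : i = 0 := by simpa using hi
      refine ⟨tau_mem H C (by norm_num), ?_⟩
      rw [show (⟨tau s ρ ν 0, tau_mem H C (by norm_num)⟩ : Mb) = 1 from
        Subtype.ext (tau_zero H C), map_one]
      exact one_mem _
    | succ k ih =>
      intro hk i hi
      by_cases hlt : i < 2 ^ k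
      · exact ih (by omega) i hlt
      obtain ⟨j, rfl⟩ := Nat.exists_eq_add_of_le (Nat.le_of_not_lt hlt)
      have hj : j < 2 ^ k := by rw [pow_succ] at hi; omega
      obtain ⟨hmj, hej⟩ := ih (by omega) j hj
      obtain ⟨hmk, hek⟩ := htau k (by omega)
      have hk4 : 2 ^ (k + 1) ≤ 16 := Nat.pow_le_pow_right (by norm_num) hk
      have hk16 : 2 ^ k < 16 := by rw [pow_succ] at hk4; omega
      have hxor : Nat.xor (2 ^ k) j = 2 ^ k + j :=
        (by decide : ∀ k < 4, ∀ j < 2 ^ k, Nat.xor (2 ^ k) j = 2 ^ k + j) k (by omega) j hj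
      have hprod := (tau_mul H C (i := 2 ^ k) (j := j) (by omega) (by omega)).2
      rw [tab_eOne _ hk16 j (by omega), hxor] at hprod
      refine ⟨hprod ▸ mul_mem hmk hmj, ?_⟩
      rw [show (⟨tau s ρ ν (2 ^ k + j), hprod ▸ mul_mem hmk hmj⟩ : Mb) =
        ⟨_, hmk⟩ * ⟨_, hmj⟩ from Subtype.ext hprod.symm, map_mul, hek]
      refine mul_mem (Subgroup.subset_closure ⟨_, ?_, rfl⟩) hej
      have : k < J4CompData43.eL.length := by simp [J4CompData43.eL]; omega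
      rw [List.getD_eq_getElem (hn := this)]
      exact List.getElem_mem _
  have hfE : ∀ (m : Mb), (m : ↥(HH z) ⧸ QQ z) ∈ E → f m ∈ Eb := by
    rintro ⟨m, hm⟩ ⟨i, hi, rfl⟩
    obtain ⟨hm', h⟩ := hSf 4 le_rfl i (mem_eOne.1 hi)
    exact h
  have hfOnto : ∀ g ∈ Eb, ∃ m : Mb, (m : ↥(HH z) ⧸ QQ z) ∈ E ∧ f m = g := by
    intro g hg
    have hle : Eb ≤ (E.subgroupOf Mb).map f := by
      refine (Subgroup.closure_le _).2 ?_
      rintro _ ⟨P', hP', rfl⟩
      obtain ⟨k, hk, rfl⟩ := List.mem_iff_getElem.1 hP'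
      have hk4 : k < 4 := by simpa [J4CompData43.eL] using hk
      obtain ⟨hm, he⟩ := htau k hk4
      refine ⟨⟨_, hm⟩, ⟨2 ^ k, mem_eOne.2 (lt_of_lt_of_le (Nat.pow_lt_pow_right (by norm_num) hk4) (by norm_num)), rfl⟩, ?_⟩
      rw [he, List.getD_eq_getElem (hn := hk)]
    obtain ⟨m, hm, rfl⟩ := hle hg
    exact ⟨m, hm, rfl⟩
  -- the standard subgroup
  set A := AA D C with hA
  obtain ⟨hAea, hAc, hAmap, hAQ⟩ := AA_facts D C
  set VG := A.map (HH z).subtype with hVG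
  have hmemVG : ∀ k : ↥(HH z), (k : G) ∈ VG ↔ k ∈ A := fun k => by
    rw [hVG]
    exact ⟨fun ⟨k', hk', e⟩ => (Subtype.ext e : k' = k) ▸ hk', fun h => ⟨k, h, rfl⟩⟩
  have hVle : VG ≤ HH z := by rintro _ ⟨k, -, rfl⟩; exact k.2
  have hnormG : ∀ h : ↥(HH z), (∀ e ∈ E, mk z h * e * (mk z h)⁻¹ ∈ E) →
      (h : G) ∈ normalizer (VG : Set G) := by
    intro h hh
    refine Subgroup.mem_normalizer_fintype fun x hx => ?_
    obtain ⟨k, hk, rfl⟩ := hx
    exact ⟨h * k * h⁻¹, conj_mem_AE D hh hk, rfl⟩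
  have hnc : ∀ e ∈ E, ∀ m ∈ zpowers n, m * e = e * m := fun e he m hm => by
    obtain ⟨i, rfl⟩ := hm
    exact ((show Commute e n from D.hyp.comm_n e (hEMb he)).zpow_right i).eq.symm
  let p1H : ↥(HH z) := ⟨p1, (zp_KK Dp (P_zp Dp (p_mem Dp))).1⟩
  have hp1n : mk z p1H ∈ zpowers n := hPn p1H (p_mem Dp)
  have hp1A : ∀ k ∈ A, p1H * k * p1H⁻¹ ∈ A := fun k hk =>
    conj_mem_AE D (fun e he => by rw [hnc e he _ hp1n, mul_inv_cancel_right]; exact he) hk
  have honto : ∀ g ∈ Eb, ∃ x ∈ VG, x ∈ KK z P ∧ J4Comp43.im φ x = g := by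
    intro g hg
    obtain ⟨⟨m, hmM⟩, hm, rfl⟩ := hfOnto g hg
    obtain ⟨k, hk, hkm⟩ : m ∈ A.map (mk z) := hAmap ▸ hm
    set k1 := p1H * k * p1H⁻¹ with hk1
    set k2 := p1H * k1 * p1H⁻¹ with hk2
    have hk1A := hp1A k hk
    have hk2A := hp1A k1 hk1A
    have hkA : k * k1 * k2 ∈ A := mul_mem (mul_mem hk hk1A) hk2A
    have h3 : p1H ^ 3 = 1 := Subtype.ext (by
      rw [SubmonoidClass.coe_pow]; exact J4Comp43.p_cube Dp)
    have e3 : p1H * k2 * p1H⁻¹ = k := by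
      rw [hk2, hk1, show p1H * (p1H * (p1H * k * p1H⁻¹) * p1H⁻¹) * p1H⁻¹ =
        p1H ^ 3 * k * (p1H ^ 3)⁻¹ by rw [pow_succ, pow_two]; group, h3, one_mul, inv_one, mul_one]
    have efix : p1H * (k * k1 * k2) * p1H⁻¹ = k * k1 * k2 := by
      rw [show p1H * (k * k1 * k2) * p1H⁻¹ =
        (p1H * k * p1H⁻¹) * (p1H * k1 * p1H⁻¹) * (p1H * k2 * p1H⁻¹) by group, ← hk1, ← hk2, e3,
        hAea.2 (k1 * k2) (mul_mem hk1A hk2A) k hk, ← mul_assoc]
    have hyK : ((k * k1 * k2 : ↥(HH z)) : G) ∈ KK z P :=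
      J4Comp43.mem_KK Dp (k * k1 * k2).2
        (congrArg Subtype.val (mul_inv_eq_iff_eq_mul.1 efix)).symm
    refine ⟨_, (hmemVG _).2 hkA, hyK, ?_⟩
    rw [hφ _ hyK]
    congr 1
    apply Subtype.ext
    show mk z (k * k1 * k2) = m
    have e1 : mk z k1 = m := by
      rw [hk1, map_mul, map_mul, map_inv, hkm, hnc m hm _ hp1n, mul_inv_cancel_right]
    have e2 : mk z k2 = m := by
      rw [hk2, map_mul, map_mul, map_inv, e1, hnc m hm _ hp1n, mul_inv_cancel_right]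
    rw [map_mul, map_mul, hkm, e1, e2, (E1_ea H C).1 m hm, one_mul]
  have W : J4CompGroup43.VHyp z P φ Eb VG := by
    refine ⟨hVle, ?_, ?_, ⟨zc, zc_mem D C, D.zc_val⟩, ?_, ?_, ?_, honto, ?_⟩
    · rintro _ ⟨x, hx, rfl⟩ _ ⟨y, hy, rfl⟩
      exact congrArg Subtype.val (hAea.2 x hx y hy)
    · rintro _ ⟨x, hx, rfl⟩
      exact congrArg Subtype.val (hAea.1 x hx)
    · have e' : VG ⊓ Cfsg.twoCoreOfCentralizer z = (A ⊓ QQ z).map (HH z).subtype := by
        ext x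
        constructor
        · rintro ⟨⟨k, hk, rfl⟩, h2⟩
          exact ⟨k, ⟨hk, JFourModule85.mem_E.1 h2⟩, rfl⟩
        · rintro ⟨k, hk, rfl⟩
          exact ⟨⟨k, hk.1, rfl⟩, JFourModule85.mem_E.2 hk.2⟩
      rw [e', Subgroup.card_map_of_injective (HH z).subtype_injective, hAQ]
      exact card_Qf D (card_Fix_E1 H C)
    · intro x hx
      have hxH : x ∈ HH z := Dp.NH (Dp.EN hx)
      refine hnormG ⟨x, hxH⟩ fun e he => ?_
      rw [show mk z ⟨x, hxH⟩ = 1 from (QuotientGroup.eq_one_iff _).2 (JFourModule85.mem_E.1 hx),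
        one_mul, inv_one, mul_one]
      exact he
    · rintro x ⟨k, hk, rfl⟩ hxK
      rw [show (HH z).subtype k = (k : G) from rfl, hφ k hxK]
      exact hfE _ (hAmap.le (Subgroup.mem_map_of_mem _ hk))
    · intro h hh hcond
      refine hnormG ⟨h, hh.1⟩ fun m hm => ?_
      obtain ⟨x, hxV, hxK, hxi⟩ := honto _ (hfE ⟨m, hEMb hm⟩ hm)
      obtain ⟨k, hk, rfl⟩ := hxV
      have hkE : mk z k ∈ E := hAmap.le (Subgroup.mem_map_of_mem _ hk)
      rw [show (HH z).subtype k = (k : G) from rfl, hφ k hxK] at hxi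
      have huniq : ∀ m1 m2 : Mb, (m1 : ↥(HH z) ⧸ QQ z) * m1 = 1 → (m2 : ↥(HH z) ⧸ QQ z) * m2 = 1 →
          f m1 = f m2 → (m1 : ↥(HH z) ⧸ QQ z) = m2 := by
        intro m1 m2 h1 h2 he
        obtain ⟨i, hi⟩ := (hfk (m1⁻¹ * m2)).1 (by rw [map_mul, map_inv, he, inv_mul_cancel])
        simp only [Subgroup.coe_mul, InvMemClass.coe_inv] at hi
        have e2 : (m2 : ↥(HH z) ⧸ QQ z) = m1 * n ^ i := by rw [hi, mul_inv_cancel_left]
        have hc : Commute (m1 : ↥(HH z) ⧸ QQ z) (n ^ i) :=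
          (show Commute (m1 : ↥(HH z) ⧸ QQ z) n from D.hyp.comm_n _ m1.2).zpow_right i
        have h4 : (n ^ i) * (n ^ i) = 1 := by
          rw [e2, hc.symm.mul_mul_mul_comm, h1, one_mul] at h2
          exact h2
        have h5 : (n ^ i) ^ 3 = 1 := by
          rw [← zpow_natCast, ← zpow_mul, mul_comm, zpow_mul, zpow_natCast, ← D.hyp.order_n,
            pow_orderOf_eq_one, one_zpow]
        rw [pow_succ, pow_two, h4, one_mul] at h5
        rw [e2, h5, mul_one]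
      have hsqE : ∀ x ∈ E, x * x = 1 := (E1_ea H C).1
      have hkm : mk z k = m := huniq ⟨_, hEMb hkE⟩ ⟨m, hEMb hm⟩ (hsqE _ hkE) (hsqE _ hm) hxi
      have hyK : h * (k : G) * h⁻¹ ∈ KK z P := J4Comp43.conj_KK Dp hh hxK
      have hfy := hcond (k : G) hxK (by rw [hφ k hxK]; exact hfE _ hkE)
      let y : ↥(HH z) := ⟨h, hh.1⟩ * k * ⟨h, hh.1⟩⁻¹
      rw [show h * (k : G) * h⁻¹ = (y : G) from rfl, hφ y hyK] at hfy
      obtain ⟨m', hm', hf'⟩ := hfOnto _ hfy
      have hysq : mk z y * mk z y = 1 := by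
        simp only [y, map_mul, map_inv]
        rw [show mk z ⟨h, hh.1⟩ * mk z k * (mk z ⟨h, hh.1⟩)⁻¹ *
          (mk z ⟨h, hh.1⟩ * mk z k * (mk z ⟨h, hh.1⟩)⁻¹) =
          mk z ⟨h, hh.1⟩ * (mk z k * mk z k) * (mk z ⟨h, hh.1⟩)⁻¹ by group, hsqE _ hkE, mul_one,
          mul_inv_cancel]
      have := huniq m' ⟨mk z y, hmkKK y hyK⟩ (hsqE _ hm') hysq hf'
      rw [← hkm]
      simp only [y, map_mul, map_inv] at this
      rw [← this]
      exact hm'
  obtain ⟨U, hU, hUN, hUV⟩ := J4CompGroup43.exists_complement_two Dp I W J4CompModel43.model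
  -- transport to the given subgroup
  set Bs := B.subgroupOf (HH z) with hBdef
  have hBea : J4Syl18.EA Bs := ⟨fun x hx => Subtype.ext (hBs _ hx), fun x hx y hy =>
    Subtype.ext (hBc _ hx _ hy)⟩
  have hBcard : Nat.card Bs = 2 ^ 11 := by
    rw [hBdef, Nat.card_congr (Subgroup.subgroupOfEquivOfLe hBH).toEquiv, hB]
  obtain ⟨-, -, -, hBMb, ⟨g, hgM, hgE⟩, hBeq⟩ := big D C hBea hBcard.ge
  obtain ⟨g', -, rfl⟩ : g ∈ ((KK z P).subgroupOf (HH z)).map (mk z) := D.Mb_eq ▸ hgM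
  have hmov : ∀ x ∈ Bs, g' * x * g'⁻¹ ∈ A := by
    intro x hx
    have hx' : x ∈ AE D (Bs.map (mk z)) := hBeq.le hx
    rw [mem_AE] at hx'
    refine (mem_AE D).2 ⟨?_, fun y hy => ?_⟩
    · rw [← hgE, map_mul, map_mul, map_inv]
      exact mem_cj_of hx'.1
    · have hy' : g'⁻¹ * y * g' ∈ Qf D (J4Syl18.Fix ρ (Bs.map (mk z))) := by
        refine ⟨by simpa using (inferInstance : (QQ z).Normal).conj_mem y hy.1 g'⁻¹, fun e he => ?_⟩
        have h1 := act D g'⁻¹ hy.1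
        rw [inv_inv] at h1
        rw [h1, map_inv, ← rho_mul,
          show e * (mk z g')⁻¹ = (mk z g')⁻¹ * (mk z g' * e * (mk z g')⁻¹) by group,
          rho_mul, hy.2 _ (hgE ▸ mem_cj_of he)]
      have h := hx'.2 _ hy'
      calc y * (g' * x * g'⁻¹) = g' * (g'⁻¹ * y * g' * x) * g'⁻¹ := by group
        _ = g' * (x * (g'⁻¹ * y * g')) * g'⁻¹ := by rw [h]
        _ = _ := by group
  have hBimg : B.map (MulAut.conj (g' : G)).toMonoidHom = VG := by
    refine Subgroup.eq_of_le_of_card_ge ?_ ?_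
    · rintro _ ⟨x, hx, rfl⟩
      exact ⟨_, hmov ⟨x, hBH hx⟩ hx, rfl⟩
    · rw [hVG, Subgroup.card_map_of_injective (HH z).subtype_injective, hAc,
        Subgroup.card_map_of_injective (MulAut.conj (g' : G)).injective, hB]
  refine ⟨U.map (MulAut.conj (g' : G)⁻¹).toMonoidHom, ?_, ?_, ?_⟩
  · rw [Subgroup.card_map_of_injective (MulAut.conj (g' : G)⁻¹).injective, hU]
  · rintro _ ⟨u, hu, rfl⟩
    refine Subgroup.mem_normalizer_fintype fun x hx => ?_
    have h1 : (g' : G) * x * (g' : G)⁻¹ ∈ VG := hBimg ▸ ⟨x, hx, rfl⟩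
    have h2 := (Subgroup.mem_normalizer_iff.1 (hUN hu) _).1 h1
    rw [← hBimg] at h2
    obtain ⟨x', hx', he⟩ := h2
    simp only [MulEquiv.coe_toMonoidHom, MulAut.conj_apply, inv_inv, SetLike.mem_coe] at he ⊢
    rw [show (g' : G)⁻¹ * u * g' * x * ((g' : G)⁻¹ * u * g')⁻¹ =
      (g' : G)⁻¹ * (u * (g' * x * (g' : G)⁻¹) * u⁻¹) * g' by group, ← he,
      show (g' : G)⁻¹ * (g' * x' * (g' : G)⁻¹) * g' = x' by group]
    exact hx'
  · rw [eq_bot_iff]
    rintro _ ⟨⟨u, hu, rfl⟩, hx⟩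
    simp only [MulEquiv.coe_toMonoidHom, MulAut.conj_apply, inv_inv, SetLike.mem_coe] at hx ⊢
    have h1 : u ∈ VG := hBimg ▸ ⟨_, hx, by simp only [MulEquiv.coe_toMonoidHom, MulAut.conj_apply]; group⟩
    have : u ∈ U ⊓ VG := ⟨hu, h1⟩
    rw [hUV, Subgroup.mem_bot] at this
    rw [this, mul_one, inv_mul_cancel]
    exact one_mem _

end Cfsg.Agent.J4CompV43
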