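import Mathlib
import Cfsg.Agent.Lib.LFCheck89
import Cfsg.Agent.Lib.J4Data18

/-!
The orbit of the points fixed by the Sylow 2-subgroup of the coded cover of `M22` as a bit set, and the
fixed points of the base involution.
-/

set_option autoImplicit false
set_option maxRecDepth 100000

namespace Cfsg.Agent.J4OrbitData48

open Cfsg.Agent.J4Data18
open Cfsg.Agent.LFCheck89 (app allBelow)

/-- the orbit as a bit set -/
def pset : ℕ := 0x22000ca0ac21000286a1002122001006002104010ca01000100610000002c060ac2108808001001c0a0022006000001c86a1642060000002010a0010011800c0c621a4616000100684c022004040010000c0002100c011020004010a010a0a00110200101014a4610100001c01180a001014000800028a20c621c0602200000260006000800101180a0086a1ac21010a2200642008800010001c0002001c00c0c0608001002101008c610880c06000080880c4a18001010a0008010a0100a6000a00c4a18a20000804018c61404010060a0000c0088010061014001c1000600000081102000484c0110201181000ac2110140010100600c0088086a1a6000008404000c06000010a84c000c0c621000422000021a461010a0100110210060a00404008808a20100004010a000a0010148c6100c0c4a1001c100610060008600004014040c621001c8001a60004010010a600a4614040000400100004001c0ca0010a11021000600000020004011864200100011810148c610ca04040c4a100040118000210142200010010141102c621001c00080010c0600a008a20a4610002100010060004a600110210140008088001180010110286a1ac2100c084c00008011810141000c4a100020100010a0ca0000401181102404064208c61600000040880220084c01000642040400880010040408a20220000100100001010008420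

/-- membership in the bit set -/
def inP (c : ℕ) : Bool := Nat.testBit pset c

/-- the bit set is invariant under the generators and contains the points fixed by the Sylow subgroup -/
def psetOK : Bool :=
  allBelow (fun c => !inP c || genC.all fun g => inP (app g c)) 4096 &&
  allBelow (fun c => !(sylGen.all fun g => Nat.beq (app g c) c) || Nat.beq c 0 || inP c) 4096 &&
  !inP 102 && allBelow (fun i => Nat.beq (app (sylEl.getD i 0) 1689) 1689) 128

theorem pset_ok : psetOK = true := by decide +kernel

/-- the fixed points of the base involution -/
theorem ker_ok :
    ((List.range 4096).filter fun c => Nat.beq (app (sylEl.getD 1 0) c) c).length = 256 := by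
  decide +kernel

end Cfsg.Agent.J4OrbitData48
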