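import Mathlib
import Cfsg.Agent.Lib.J4Syl18
import Cfsg.Agent.Lib.J4OrbitData48

/-!
The invariant separating, in the whole group, the two orbits of the normaliser of the first elementary
subgroup on its fixed space in the triple cover of `M22`.
-/

set_option autoImplicit false
set_option linter.unusedSectionVars false
set_option linter.style.haveILetI false
set_option maxHeartbeats 800000
set_option maxRecDepth 100000

namespace Cfsg.Agent.J4OrbitX48

open Cfsg Cfsg.Agent.U62Mon93 Cfsg.Agent.U62Existence93 Cfsg.Agent.LFForm89 Cfsg.Agent.LFMat89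
open Cfsg.Agent.J4Coord85 (Hyp Frame Acts op)
open Cfsg.Agent.J4Syl18 Cfsg.Agent.J4Data18 Cfsg.Agent.J4OrbitData48
open Cfsg.Agent.LFCheck89 (app allBelow allBelow_spec)
open scoped Matrix

universe u v

variable {X : Type u} [Group X] [Finite X] {V : Type v} [AddCommGroup V]
variable {F : Type} [Field F] [Fintype F] {s : F}
variable {h : S4 s} {ρ : X →* AddMonoid.End V} {q : V → ZMod 2} {n : X} {Mb : Subgroup X}
variable {ν : (Fin 6 → F) → V} (H : Hyp ρ q n Mb) (C : Coord h ρ q n Mb ν)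

/-- A conjugate of the Sylow subgroup fixes the vector. -/
def Pt (H : Hyp ρ q n Mb) (C : Coord h ρ q n Mb ν) (v : V) : Prop :=
  ∃ g ∈ Mb, ∀ y ∈ T0 H C, op ρ y (op ρ g v) = op ρ g v

include H C

/-- The invariant is preserved by the whole group. -/
theorem Pt_op (hidx : Mb.index = 2) {v : V} (hv : Pt H C v) (t : X) : Pt H C (op ρ t v) := by
  obtain ⟨g, hg, hgv⟩ := hv
  haveI := Subgroup.normal_of_index_eq_two hidx
  have hle : cj (t * g⁻¹) (T0 H C) ≤ Mb := by
    rintro _ ⟨y, hy, rfl⟩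
    exact (inferInstance : Mb.Normal).conj_mem y (T0_le H C hy) _
  have hp : IsPGroup 2 (T0 H C) := IsPGroup.of_card (n := 7) (by rw [card_T0 H C]; norm_num)
  obtain ⟨g', hg', hgT⟩ := exists_conj_T0 H C hle (hp.map _)
  have heq : cj g' (cj (t * g⁻¹) (T0 H C)) = T0 H C :=
    Subgroup.eq_of_le_of_card_ge hgT (by rw [card_cj, card_cj])
  refine ⟨g', hg', fun y hy => ?_⟩
  rw [← heq] at hy
  obtain ⟨_, ⟨x, hx, rfl⟩, rfl⟩ := hy
  show op ρ (g' * (t * g⁻¹ * x * (t * g⁻¹)⁻¹) * g'⁻¹) (op ρ g' (op ρ t v)) = op ρ g' (op ρ t v)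
  calc op ρ (g' * (t * g⁻¹ * x * (t * g⁻¹)⁻¹) * g'⁻¹) (op ρ g' (op ρ t v))
      = op ρ g' (op ρ t (op ρ g⁻¹ (op ρ x (op ρ g v)))) := by
        simp only [← rho_mul]; congr 2; group
    _ = _ := by rw [hgv x hx, op_inv_op H C]

theorem Pt_45 (hidx : Mb.index = 2) : Pt H C (nc s ν (u45.getD 0 0)) := by
  have h1 : Pt H C (nc s ν 1689) := by
    have h2 := pset_ok
    simp only [psetOK, Bool.and_eq_true] at h2
    refine ⟨1, one_mem _, ?_⟩
    rw [rho_one]
    rintro _ ⟨i, hi, rfl⟩
    rw [op_tau_nc H C hi]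
    exact congrArg (nc s ν) (Nat.eq_of_beq_eq_true (allBelow_spec h2.2 i hi))
  obtain ⟨g, -, -, hg⟩ := trans45 H C (show (1689 : ℕ) ∈ u45 by decide +kernel)
  have h3 := Pt_op H C hidx h1 g⁻¹
  rwa [← hg, op_inv_op H C] at h3

theorem not_Pt_18 : ¬ Pt H C (nc s ν (u18.getD 0 0)) := by
  have h102 : u18.getD 0 0 = 102 := by decide +kernel
  rw [h102]
  rintro ⟨g, hg, hgv⟩
  have h2 := pset_ok
  simp only [psetOK, Bool.and_eq_true, Bool.not_eq_true'] at h2
  let S : Set V := {w | ∃ c, c < 4096 ∧ inP c = true ∧ w = nc s ν c}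
  have hfin : S.Finite := by
    refine Set.Finite.subset ((Set.finite_Iio 4096).image (nc s ν)) ?_
    rintro w ⟨c, hc, -, rfl⟩
    exact ⟨c, hc, rfl⟩
  -- the coded generators permute the bit set
  have key : ∀ x ∈ Mb, op ρ x '' S = S := by
    intro x hx
    rw [← C.generate] at hx
    induction hx using Subgroup.closure_induction with
    | mem x hx =>
      obtain ⟨-, k, hk, hxA⟩ := hx
      refine Set.eq_of_subset_of_ncard_le ?_ ?_ hfin
      · rintro _ ⟨_, ⟨c, hc, hP, rfl⟩, rfl⟩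
        have h3 := allBelow_spec h2.1.1.1 c hc
        simp only [hP, Bool.not_true, Bool.false_or, List.all_eq_true] at h3
        refine ⟨app (genC.getD k 0) c, app_lt _ _, h3 _ ?_, acts_nc H C hxA c⟩
        rw [List.getD_eq_getElem _ _ (show k < genC.length by simpa [genC] using hk)]
        exact List.getElem_mem _
      · rw [Set.ncard_image_of_injective _ fun a b e => by
          rw [← op_inv_op H C x a, e, op_inv_op H C x b]]
    | one => simp [rho_one]
    | mul a b _ _ ea eb =>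
      conv_rhs => rw [← ea, ← eb]
      rw [Set.image_image]
      exact Set.image_congr' fun w => rho_mul ρ a b w
    | inv a _ ea =>
      conv_lhs => rw [← ea]
      rw [Set.image_image]
      exact (Set.image_congr' fun w => op_inv_op H C a w).trans (Set.image_id S)
  obtain ⟨c, hc, hce⟩ := exists_nc H C (op ρ g (nc s ν 102))
  have hc0 : c ≠ 0 := by
    rintro rfl
    rw [nc_zero H C] at hce
    have e := congrArg (op ρ g⁻¹) hce
    rw [map_zero, op_inv_op H C, ← nc_zero H C] at e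
    exact absurd (nc_inj H C (by norm_num) (by norm_num) e) (by norm_num)
  have hfix : (sylGen.all fun m => Nat.beq (app m c) c) = true := by
    have hlen : sylGen.length = 7 := by decide +kernel
    have hgel : ∀ k < 7, sylGen.getD k 0 = J4Check18.el (2 ^ k) := by decide +kernel
    rw [List.all_eq_true]
    intro m hm
    obtain ⟨k, hk, e0⟩ := List.mem_iff_getElem.1 hm
    have hk7 : k < 7 := hlen ▸ hk
    have hb : 2 ^ k < 128 := by
      calc 2 ^ k < 2 ^ 7 := Nat.pow_lt_pow_right (by norm_num) hk7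
        _ = 128 := rfl
    have e := hgv _ ⟨2 ^ k, hb, rfl⟩
    rw [← hce, op_tau_nc H C hb, ← hgel k hk7] at e
    rw [Nat.beq_eq, e0.symm.trans (List.getD_eq_getElem _ _ hk).symm]
    exact nc_inj H C (app_lt _ _) hc e
  have hP := allBelow_spec h2.1.1.2 c hc
  rw [hfix] at hP
  simp only [Bool.not_true, Bool.false_or, Bool.or_eq_true, Nat.beq_eq] at hP
  have hmem : nc s ν 102 ∈ op ρ g⁻¹ '' S :=
    ⟨nc s ν c, ⟨c, hc, hP.resolve_left hc0, rfl⟩, by rw [hce, op_inv_op H C]⟩
  rw [key _ (inv_mem hg)] at hmem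
  obtain ⟨c', hc', hP', e⟩ := hmem
  rw [← nc_inj H C (by norm_num) hc' e, h2.1.2] at hP'
  exact Bool.noConfusion hP'

end Cfsg.Agent.J4OrbitX48
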