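import Mathlib
import Cfsg.Agent.Lib.J4Elem85
import Cfsg.Agent.Lib.J4OrbitX48

/-!
The orbits of the normaliser of the first large elementary abelian subgroup inside the centralizer of
the involution on its elements, in a group of Janko-four type.
-/

set_option autoImplicit false
set_option linter.unusedSectionVars false
set_option linter.style.haveILetI false
set_option maxHeartbeats 800000

namespace Cfsg.Agent.J4Orbit48

open Subgroup Cfsg.Agent.LargeExtraspecial Cfsg.Agent.U62Mon93 Cfsg.Agent.LFForm89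
  Cfsg.Agent.J4Syl18 Cfsg.Agent.JFourSetting97 Cfsg.Agent.JFourModule85 Cfsg.Agent.J4Elem85
  Cfsg.Agent.J4OrbitX48
open Cfsg.Agent.J4Coord85 (Hyp Frame Acts op)

universe u

attribute [local instance] Classical.propDecidable

variable {G : Type u} [Group G] [Finite G] {z : G} {P : Subgroup G}
variable {V : Type u} [AddCommGroup V] {zc : ↥(HH z)}
  {π : ↥(HH z) → V} {ρ : ↥(HH z) ⧸ QQ z →* AddMonoid.End V}
  {q : V → ZMod 2} {n : ↥(HH z) ⧸ QQ z}
  {Mb : Subgroup (↥(HH z) ⧸ QQ z)}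
variable (D : Data z P zc π ρ q n Mb)
variable {F : Type} [Field F] [Fintype F] {s : F} {h : S4 s} {ν : (Fin 6 → F) → V}
  (C : J4Syl18.Coord h ρ q n Mb ν)

/-- The elements inducing normalisers of its image. -/
def NA (D : Data z P zc π ρ q n Mb) (C : J4Syl18.Coord h ρ q n Mb ν) :
    Subgroup (↥(HH z)) :=
  (Subgroup.normalizer (E1 (hyp D) C : Set (↥(HH z) ⧸ QQ z))).comap (mk z)

/-- Conjugate under the normaliser. -/
def Rel (D : Data z P zc π ρ q n Mb) (C : J4Syl18.Coord h ρ q n Mb ν)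
    (a b : ↥(HH z)) : Prop :=
  ∃ g ∈ NA D C, g * a * g⁻¹ = b

section Basics

include D C

theorem Rel.refl (a : ↥(HH z)) : Rel D C a a := ⟨1, one_mem _, by group⟩

theorem Rel.symm {a b : ↥(HH z)} (e : Rel D C a b) : Rel D C b a := by
  obtain ⟨g, hg, rfl⟩ := e
  exact ⟨g⁻¹, inv_mem hg, by group⟩

theorem Rel.trans {a b c : ↥(HH z)} (e : Rel D C a b) (e' : Rel D C b c) :
    Rel D C a c := by
  obtain ⟨g, hg, rfl⟩ := e
  obtain ⟨g', hg', rfl⟩ := e'
  exact ⟨g' * g, mul_mem hg' hg, by group⟩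

theorem mk_Q {y : ↥(HH z)} (hy : y ∈ (QQ z)) : mk z y = 1 :=
  (QuotientGroup.eq_one_iff _).2 hy

theorem Q_le_NA : (QQ z) ≤ NA D C := fun y hy => by
  rw [NA, Subgroup.mem_comap, mk_Q D C hy]
  exact one_mem _

theorem NA_conj {g a : ↥(HH z)} (hg : g ∈ NA D C) (ha : a ∈ AA D C) :
    g * a * g⁻¹ ∈ AA D C :=
  conj_mem_AE D (fun e he => (Subgroup.mem_normalizer_iff.1 hg e).1 he) ha

theorem pi_mul_zc {x : ↥(HH z)} (hx : x ∈ (QQ z)) : π (x * zc) = π x := by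
  rw [D.link.add x hx zc D.ext.mem, pi_zc D C, add_zero]

theorem pi_conj_Q {x y : ↥(HH z)} (hx : x ∈ (QQ z)) (hy : y ∈ (QQ z)) :
    π (y * x * y⁻¹) = π x := by
  rw [act D y hx, mk_Q D C hy, rho_one]

theorem flip_rel {x : ↥(HH z)} (hx : x ∈ (QQ z)) (h0 : π x ≠ 0) :
    Rel D C x (x * zc) := by
  obtain ⟨y, hy, e⟩ := D.ext.partner x hx (fun e => h0 ((D.link.ker x hx).2 (Or.inl e)))
    (fun e => h0 ((D.link.ker x hx).2 (Or.inr e)))
  exact ⟨y, Q_le_NA D C hy, by rw [e, D.zc_central x]⟩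

theorem rel_of_op {x y : ↥(HH z)} (hx : x ∈ (QQ z)) (hy : y ∈ (QQ z)) (h0 : π y ≠ 0)
    {g : ↥(HH z) ⧸ QQ z}
    (hg : g ∈ Subgroup.normalizer (E1 (hyp D) C : Set (↥(HH z) ⧸ QQ z)))
    (e : op ρ g (π x) = π y) : Rel D C x y := by
  obtain ⟨g', rfl⟩ := QuotientGroup.mk'_surjective (QQ z) g
  have hc : g' * x * g'⁻¹ ∈ (QQ z) := (inferInstance : (QQ z).Normal).conj_mem x hx g'
  have h1 : Rel D C x (g' * x * g'⁻¹) := ⟨g', hg, rfl⟩
  rw [← act D g' hx] at e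
  rcases pi_eq D hc hy e with h2 | h2
  · rwa [h2]
  · rw [h2]
    exact h1.trans D C (flip_rel D C hc (e ▸ h0))

/-- Two lifts of vectors of the same orbit list are conjugate. -/
theorem rel_list {r : ℕ} {u : List ℕ} (hu : ∀ c ∈ u, c ∈ J4Data18.uList ∧ c ≠ 0)
    (htr : ∀ c ∈ u, ∃ g ∈ Subgroup.normalizer (E1 (hyp D) C : Set (↥(HH z) ⧸ QQ z)),
      op ρ g (nc s ν r) = nc s ν c)
    {x y : ↥(HH z)} (hx : x ∈ (QQ z)) (hy : y ∈ (QQ z)) (hxr : π x = nc s ν r)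
    {c : ℕ} (hc : c ∈ u) (hyc : π y = nc s ν c) : Rel D C x y := by
  obtain ⟨g, hg, e⟩ := htr c hc
  refine rel_of_op D C hx hy ?_ hg (by rw [hxr, e, hyc])
  rw [hyc, ← nc_zero (hyp D) C]
  intro e'
  exact (hu c hc).2 (nc_inj (hyp D) C (uList_spec (hyp D) C (hu c hc).1).1 (by norm_num) e')

theorem AA_sq {a : ↥(HH z)} (ha : a ∈ AA D C) : a * a = 1 :=
  (AA_facts D C).1.1 a ha

/-- The commutator of an element of the subgroup with one of `(QQ z)`. -/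
theorem comm_pi {a y : ↥(HH z)} (ha : a ∈ AA D C) (hy : y ∈ (QQ z)) :
    a * (y * a * y⁻¹) ∈ AA D C ∧ a * (y * a * y⁻¹) ∈ (QQ z) ∧
      π (a * (y * a * y⁻¹)) = op ρ (mk z a) (π y) + π y := by
  have hinv : a⁻¹ = a := inv_eq_of_mul_eq_one_right (AA_sq D C ha)
  have e : a * (y * a * y⁻¹) = a * y * a⁻¹ * y⁻¹ := by rw [hinv]; group
  have h1 : a * y * a⁻¹ ∈ (QQ z) := (inferInstance : (QQ z).Normal).conj_mem y hy a
  refine ⟨mul_mem ha (NA_conj D C (Q_le_NA D C hy) ha), ?_, ?_⟩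
  · rw [e]; exact mul_mem h1 (inv_mem hy)
  · rw [e, D.link.add _ h1 _ (inv_mem hy), act D a hy, pi_inv D hy]

theorem range_le_U {a : ↥(HH z)} (ha : a ∈ AA D C) (v : V) :
    op ρ (mk z a) v + v ∈ UU D C := by
  obtain ⟨y, hy, rfl⟩ := D.link.surj v
  obtain ⟨h1, h2, h3⟩ := comm_pi D C ha hy
  rw [← h3]
  exact (mem_AA_Q D C h2).1 h1

theorem n_NA {xn : ↥(HH z)} (hxn : mk z xn = n) : xn ∈ NA D C := by
  rw [NA, Subgroup.mem_comap, hxn]
  exact n_mem_normalizer (hyp D) C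

theorem commute_n {a : ↥(HH z)} (ha : a ∈ AA D C) (v : V) :
    op ρ (mk z a) (op ρ n v) = op ρ n (op ρ (mk z a) v) := by
  rw [← rho_mul, ← rho_mul, D.hyp.comm_n _ ((E1_le (hyp D) C).trans (T0_le (hyp D) C) ((mem_AE D).1 ha).1)]

end Basics

/-- The map whose image is the commutator space. -/
def ee (ρ : ↥(HH z) ⧸ QQ z →* AddMonoid.End V) (e : ↥(HH z) ⧸ QQ z) :
    V →+ V :=
  op ρ e + AddMonoidHom.id V

theorem ee_apply (e : ↥(HH z) ⧸ QQ z) (v : V) : ee ρ e v = op ρ e v + v := rfl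

section Coset

include D C

theorem card_ee : Nat.card (ee ρ (tau s ρ ν 1)).range = 16 ∧
    Nat.card (ee ρ (tau s ρ ν 1)).ker = 256 := by
  haveI := finiteV D
  have hi128 : 1 < 128 := eOne_list.2.2 1 eOne_zero.2
  have hk : Nat.card (ee ρ (tau s ρ ν 1)).ker = 256 := by
    have h2 := J4OrbitData48.ker_ok
    let l := (List.range 4096).filter fun c => Nat.beq (LFCheck89.app (J4Check18.el 1) c) c
    have hl : l.toFinset.card = 256 := by
      rw [List.toFinset_card_of_nodup (List.nodup_range.filter _)]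
      exact h2
    have hmem : ∀ c : ℕ, c ∈ l.toFinset ↔ c < 4096 ∧ LFCheck89.app (J4Check18.el 1) c = c :=
      fun c => by simp [l, List.mem_filter]
    have hker : ∀ c : l.toFinset, nc s ν c.1 ∈ (ee ρ (tau s ρ ν 1)).ker := fun c => by
      rw [AddMonoidHom.mem_ker, ee_apply, op_tau_nc (hyp D) C hi128, ((hmem _).1 c.2).2, (hyp D).fx.two]
    rw [← hl, ← Nat.card_eq_finsetCard]
    refine (Nat.card_congr (Equiv.ofBijective (fun c : l.toFinset => (⟨_, hker c⟩ : (ee ρ (tau s ρ ν 1)).ker))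
      ⟨fun a b e => Subtype.ext (nc_inj (hyp D) C ((hmem _).1 a.2).1 ((hmem _).1 b.2).1
        (congrArg Subtype.val e)), fun v => ?_⟩)).symm
    obtain ⟨c, hc, hcv⟩ := exists_nc (hyp D) C v.1
    refine ⟨⟨c, (hmem c).2 ⟨hc, ?_⟩⟩, Subtype.ext hcv⟩
    refine nc_inj (hyp D) C (LFMat89.app_lt _ _) hc ?_
    have e := v.2
    rw [AddMonoidHom.mem_ker, ee_apply, ← hcv, op_tau_nc (hyp D) C hi128] at e
    rw [← add_zero (nc s ν (LFCheck89.app _ c)), ← (hyp D).fx.two (nc s ν c), ← add_assoc, e, zero_add]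
  refine ⟨?_, hk⟩
  have h1 := (ee ρ (tau s ρ ν 1)).ker.card_mul_index
  rw [AddSubgroup.index_ker, hk, (hyp D).fx.card] at h1
  omega

/-- A base element over the chosen involution, fixed modulo the centre by the element of order three. -/
theorem exists_base (xn : ↥(HH z)) (hxn : mk z xn = n) :
    ∃ a ∈ AA D C, mk z a = tau s ρ ν 1 ∧
      (xn * a * xn⁻¹ = a ∨ xn * a * xn⁻¹ = a * zc) := by
  obtain ⟨hea, -, hmap, -⟩ := AA_facts D C
  obtain ⟨a0, ha0, he⟩ : tau s ρ ν 1 ∈ (AA D C).map (mk z) :=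
    hmap ▸ ⟨_, eOne_zero.2, rfl⟩
  have hconj : ∀ a ∈ AA D C, mk z (xn * a * xn⁻¹) = mk z a := by
    intro a ha
    rw [map_mul, map_mul, map_inv, hxn,
      ← D.hyp.comm_n _ ((E1_le (hyp D) C).trans (T0_le (hyp D) C) ((mem_AE D).1 ha).1), mul_inv_cancel_right]
  have hdQ : ∀ a ∈ AA D C, a * (xn * a * xn⁻¹) ∈ (QQ z) := fun a ha => by
    rw [← QuotientGroup.eq_one_iff]
    show mk z (a * (xn * a * xn⁻¹)) = 1
    rw [map_mul, hconj a ha]
    exact (E1_ea (hyp D) C).1 _ ((mem_AE D).1 ha).1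
  set d := π (a0 * (xn * a0 * xn⁻¹)) with hd
  have hdU : d ∈ UU D C :=
    (mem_AA_Q D C (hdQ a0 ha0)).1 (mul_mem ha0 (NA_conj D C (n_NA D C hxn) ha0))
  have hndU : op ρ n d ∈ UU D C := fun e he => by
    rw [← rho_mul, D.hyp.comm_n e ((E1_le (hyp D) C).trans (T0_le (hyp D) C) he), rho_mul, hdU e he]
  obtain ⟨w, hw, hwd⟩ := D.link.surj (op ρ n d)
  have hwA : w ∈ AA D C := (mem_AA_Q D C hw).2 (hwd ▸ hndU)
  refine ⟨a0 * w, mul_mem ha0 hwA, by rw [map_mul, mk_Q D C hw, mul_one, he], ?_⟩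
  have hw' : xn * w * xn⁻¹ ∈ (QQ z) := (inferInstance : (QQ z).Normal).conj_mem w hw xn
  have hπ : π (a0 * w * (xn * (a0 * w) * xn⁻¹)) = 0 := by
    have hc : Commute a0 w := hea.2 a0 ha0 w hwA
    have hc' : Commute w (xn * a0 * xn⁻¹) := hea.2 w hwA _ (NA_conj D C (n_NA D C hxn) ha0)
    rw [show a0 * w * (xn * (a0 * w) * xn⁻¹) = a0 * (w * (xn * a0 * xn⁻¹)) * (xn * w * xn⁻¹) by group,
      hc'.eq, ← mul_assoc a0 _ w, mul_assoc _ w, D.link.add _ (hdQ a0 ha0) _ (mul_mem hw hw'),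
      D.link.add _ hw _ hw', act D xn hw, hwd, hxn, ← hd]
    have h3 := (hyp D).fx.rel d
    rw [← h3]
    abel
  rcases (D.link.ker _ (hdQ _ (mul_mem ha0 hwA))).1 hπ with e | e
  · left
    calc xn * (a0 * w) * xn⁻¹ = (a0 * w)⁻¹ * (a0 * w * (xn * (a0 * w) * xn⁻¹)) := by group
      _ = a0 * w := by rw [e, mul_one, inv_eq_of_mul_eq_one_right (AA_sq D C (mul_mem ha0 hwA))]
  · right
    calc xn * (a0 * w) * xn⁻¹ = (a0 * w)⁻¹ * (a0 * w * (xn * (a0 * w) * xn⁻¹)) := by group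
      _ = a0 * w * zc := by rw [e, inv_eq_of_mul_eq_one_right (AA_sq D C (mul_mem ha0 hwA))]

variable {a xn : ↥(HH z)}

/-- The base commutes with the kernel of its commutator map. -/
theorem comm_ker (ha : a ∈ AA D C) (hxn : mk z xn = n)
    (hax : xn * a * xn⁻¹ = a ∨ xn * a * xn⁻¹ = a * zc) {y : ↥(HH z)} (hy : y ∈ (QQ z))
    (hker : ee ρ (mk z a) (π y) = 0) : y * a * y⁻¹ = a := by
  have hfix : ∀ w ∈ (QQ z), ee ρ (mk z a) (π w) = 0 → a * w * a⁻¹ = w ∨ a * w * a⁻¹ = w * zc := by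
    intro w hw hwk
    refine pi_eq D hw ((inferInstance : (QQ z).Normal).conj_mem w hw a) ?_
    rw [act D a hw, ← add_zero (op ρ _ (π w)), ← (hyp D).fx.two (π w), ← add_assoc,
      show op ρ (mk z a) (π w) + π w = 0 from hwk, zero_add]
  by_contra hne
  have hne' : a * y * a⁻¹ ≠ y := fun e => hne (by
    rw [mul_inv_eq_iff_eq_mul] at e ⊢
    exact e.symm)
  have e0 := (hfix y hy hker).resolve_left hne'
  have hstep : ∀ w, a * w * a⁻¹ = w * zc → a * (xn * w * xn⁻¹) * a⁻¹ = xn * w * xn⁻¹ * zc := by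
    intro w hw
    have e1 : xn * a * xn⁻¹ * (xn * w * xn⁻¹) * (xn * a * xn⁻¹)⁻¹ = xn * (w * zc) * xn⁻¹ := by
      rw [← hw]; group
    have e2 : xn * a * xn⁻¹ * (xn * w * xn⁻¹) * (xn * a * xn⁻¹)⁻¹ = a * (xn * w * xn⁻¹) * a⁻¹ := by
      rcases hax with e | e <;> rw [e]
      rw [show a * zc * (xn * w * xn⁻¹) * (a * zc)⁻¹ = a * (zc * (xn * w * xn⁻¹)) * zc⁻¹ * a⁻¹ by group,
        ← D.zc_central, show a * (xn * w * xn⁻¹ * zc) * zc⁻¹ * a⁻¹ = a * (xn * w * xn⁻¹) * a⁻¹ by group]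
    rw [← e2, e1, show xn * (w * zc) * xn⁻¹ = xn * w * (zc * xn⁻¹) by group, ← D.zc_central xn⁻¹]
    group
  set y1 := xn * y * xn⁻¹
  set y2 := xn * y1 * xn⁻¹
  have h1 := hstep y e0
  have h2 := hstep y1 h1
  have hy1 : y1 ∈ (QQ z) := (inferInstance : (QQ z).Normal).conj_mem y hy xn
  have hy2 : y2 ∈ (QQ z) := (inferInstance : (QQ z).Normal).conj_mem y1 hy1 xn
  have hπ : π (y2 * y1 * y) = 0 := by
    rw [D.link.add _ (mul_mem hy2 hy1) _ hy, D.link.add _ hy2 _ hy1, act D xn hy1, act D xn hy, hxn]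
    exact (hyp D).fx.rel (π y)
  have hcomm : a * (y2 * y1 * y) * a⁻¹ = y2 * y1 * y := by
    rcases (D.link.ker _ (mul_mem (mul_mem hy2 hy1) hy)).1 hπ with e | e <;> rw [e]
    · group
    · rw [D.zc_central a, mul_inv_cancel_right]
  have h3 : a * (y2 * y1 * y) * a⁻¹ = y2 * y1 * y * zc := by
    calc a * (y2 * y1 * y) * a⁻¹ = a * y2 * a⁻¹ * (a * y1 * a⁻¹) * (a * y * a⁻¹) := by group
      _ = y2 * zc * (y1 * zc) * (y * zc) := by rw [h2, h1, e0]
      _ = y2 * (zc * y1) * (zc * y) * zc := by simp only [mul_assoc]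
      _ = y2 * (y1 * zc) * (zc * y) * zc := by rw [← D.zc_central y1]
      _ = y2 * y1 * (zc * zc) * y * zc := by simp only [mul_assoc]
      _ = _ := by rw [D.ext.zz, mul_one]
  rw [hcomm] at h3
  exact D.ext.ne_one (left_eq_mul.1 h3)

/-- The three classes over the base's image, with their orders. -/
theorem coset_classes (ha : a ∈ AA D C) (hxn : mk z xn = n)
    (hae : mk z a = tau s ρ ν 1)
    (hax : xn * a * xn⁻¹ = a ∨ xn * a * xn⁻¹ = a * zc) :
    ∃ b0 ∈ AA D C, mk z b0 = mk z a ∧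
      ∃ S1 S2 S3 : Set (↥(HH z)),
        S1.ncard = 16 ∧ S2.ncard = 16 ∧ S3.ncard = 96 ∧ Disjoint S1 S2 ∧ Disjoint S1 S3 ∧ Disjoint S2 S3 ∧
        (S1 ∪ S2 ∪ S3 = {b | b ∈ AA D C ∧ mk z b = mk z a}) ∧
        (∀ b ∈ S1, Rel D C a b) ∧ (∀ b ∈ S2, Rel D C (a * zc) b) ∧ ∀ b ∈ S3, Rel D C b0 b := by
  haveI := finiteV D
  obtain ⟨hea, -, -, hAQ⟩ := AA_facts D C
  obtain ⟨hc16, hc256⟩ := card_ee D C
  rw [← hae] at hc16 hc256
  set e := mk z a with he
  set Im := (ee ρ e).range with hIm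
  set L : Set (↥(HH z)) := {b | b ∈ AA D C ∧ mk z b = e} with hL
  have fx := (hyp D).fx
  have hainv : a⁻¹ = a := inv_eq_of_mul_eq_one_right (AA_sq D C ha)
  have hab : ∀ b ∈ L, a * b ∈ (QQ z) ∧ a * b ∈ AA D C ∧ π (a * b) ∈ UU D C := fun b hb => by
    have h1 : a * b ∈ (QQ z) := by
      rw [← QuotientGroup.eq_one_iff]
      show mk z (a * b) = 1
      rw [map_mul, hb.2, ← map_mul, AA_sq D C ha, map_one]
    exact ⟨h1, mul_mem ha hb.1, (mem_AA_Q D C h1).1 (mul_mem ha hb.1)⟩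
  have hsplit : ∀ b, b = a * (a * b) := fun b => by rw [← mul_assoc, AA_sq D C ha, one_mul]
  have hLcard : L.ncard = 128 := by
    have h128 : Nat.card (Qf D (UU D C)) = 128 := card_Qf D (card_Fix_E1 (hyp D) C)
    have : L = (fun x => a * x) '' (Qf D (UU D C) : Set (↥(HH z))) := by
      ext b
      refine ⟨fun hb => ⟨a * b, ⟨(hab b hb).1, (hab b hb).2.2⟩, (hsplit b).symm⟩, ?_⟩
      rintro ⟨x, hx, rfl⟩
      exact ⟨mul_mem ha ((mem_AA_Q D C hx.1).2 hx.2), by rw [map_mul, mk_Q D C hx.1, mul_one]⟩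
    rw [this, Set.ncard_image_of_injective _ (mul_right_injective a), ← Nat.card_coe_set_eq]
    exact h128
  have hImU : Im ≤ UU D C := by
    rintro _ ⟨v, rfl⟩
    exact range_le_U D C ha v
  have hImn : ∀ v ∈ Im, op ρ n v ∈ Im := by
    rintro _ ⟨v, rfl⟩
    exact ⟨op ρ n v, by rw [ee_apply, ee_apply, commute_n D C ha, map_add]⟩
  -- the translates by `(QQ z)`
  have hQconj : ∀ y ∈ (QQ z), ∀ b ∈ L, y * b * y⁻¹ ∈ L ∧
      π (a * (y * b * y⁻¹)) = ee ρ e (π y) + π (a * b) := by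
    intro y hy b hb
    refine ⟨⟨NA_conj D C (Q_le_NA D C hy) hb.1, ?_⟩, ?_⟩
    · rw [map_mul, map_mul, map_inv, mk_Q D C hy, one_mul, inv_one, mul_one, hb.2]
    · obtain ⟨-, h2, h3⟩ := comm_pi D C ha hy
      rw [show a * (y * b * y⁻¹) = a * (y * a * y⁻¹) * (y * (a⁻¹ * b) * y⁻¹) by group, hainv,
        D.link.add _ h2 _ ((inferInstance : (QQ z).Normal).conj_mem _ (hab b hb).1 y), h3,
        pi_conj_Q D C (hab b hb).1 hy]
      rfl
  let S1 : Set (↥(HH z)) := {b | ∃ y ∈ (QQ z), y * a * y⁻¹ = b}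
  let S2 : Set (↥(HH z)) := (fun b => b * zc) '' S1
  let S3 : Set (↥(HH z)) := {b | b ∈ L ∧ π (a * b) ∉ Im}
  have haL : a ∈ L := ⟨ha, rfl⟩
  have hS1L : ∀ b ∈ S1, b ∈ L ∧ π (a * b) ∈ Im := by
    rintro b ⟨y, hy, rfl⟩
    refine ⟨(hQconj y hy a haL).1, ?_⟩
    rw [(hQconj y hy a haL).2, AA_sq D C ha, pi_one D, add_zero]
    exact ⟨_, rfl⟩
  have hzL : ∀ b ∈ L, b * zc ∈ L ∧ π (a * (b * zc)) = π (a * b) := fun b hb =>
    ⟨⟨mul_mem hb.1 (zc_mem D C), by rw [map_mul, mk_Q D C D.ext.mem, mul_one, hb.2]⟩,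
      by rw [← mul_assoc, pi_mul_zc D C (hab b hb).1]⟩
  have h12 : Disjoint S1 S2 := by
    rw [Set.disjoint_left]
    rintro _ ⟨y, hy, rfl⟩ ⟨_, ⟨y', hy', rfl⟩, e'⟩
    -- y' a y'⁻¹ zc = y a y⁻¹
    have hw : y'⁻¹ * y * a * (y'⁻¹ * y)⁻¹ = a * zc := by
      rw [show y'⁻¹ * y * a * (y'⁻¹ * y)⁻¹ = y'⁻¹ * (y * a * y⁻¹) * y' by group, ← e',
        show y'⁻¹ * (y' * a * y'⁻¹ * zc) * y' = a * y'⁻¹ * (zc * y') by group, ← D.zc_central y']
      group
    have hwQ := mul_mem (inv_mem hy') hy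
    have hπ := (comm_pi D C ha hwQ).2.2
    rw [hw, ← mul_assoc, AA_sq D C ha, one_mul, pi_zc D C] at hπ
    rw [comm_ker D C ha hxn hax hwQ hπ.symm] at hw
    exact D.ext.ne_one (left_eq_mul.1 hw)
  have hS1card : S1.ncard = 16 := by
    rw [← Nat.card_coe_set_eq, ← hc16]
    refine Nat.card_congr (Equiv.ofBijective (fun b => ⟨π (a * b.1), (hS1L b.1 b.2).2⟩) ⟨?_, ?_⟩)
    · intro b b' e1
      refine Subtype.ext ?_
      rcases pi_eq D (hab _ (hS1L _ b.2).1).1 (hab _ (hS1L _ b'.2).1).1 (congrArg Subtype.val e1)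
        with e2 | e2
      · exact mul_left_cancel e2.symm
      · rw [mul_assoc] at e2
        exact absurd ⟨b.1, b.2, (mul_left_cancel e2).symm⟩ (Set.disjoint_left.1 h12 b'.2)
    · rintro ⟨v, w, hwv⟩
      obtain ⟨y, hy, rfl⟩ := D.link.surj w
      refine ⟨⟨y * a * y⁻¹, y, hy, rfl⟩, Subtype.ext ?_⟩
      show π (a * (y * a * y⁻¹)) = v
      rw [(comm_pi D C ha hy).2.2]
      exact hwv
  have hS2card : S2.ncard = 16 := by
    rw [Set.ncard_image_of_injective _ (mul_left_injective zc), hS1card]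
  have hin : ∀ b ∈ L, π (a * b) ∈ Im → b ∈ S1 ∪ S2 := by
    rintro b hb ⟨w, hwv⟩
    obtain ⟨y, hy, rfl⟩ := D.link.surj w
    have hS : y * a * y⁻¹ ∈ S1 := ⟨y, hy, rfl⟩
    rcases pi_eq D (hab _ (hS1L _ hS).1).1 (hab b hb).1
      ((comm_pi D C ha hy).2.2.trans hwv) with e2 | e2
    · exact Or.inl (by rw [mul_left_cancel e2]; exact hS)
    · rw [mul_assoc] at e2
      exact Or.inr ⟨_, hS, (mul_left_cancel e2).symm⟩
  have hcover : S1 ∪ S2 ∪ S3 = L := by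
    ext b
    constructor
    · rintro ((hb | ⟨b', hb', rfl⟩) | hb)
      · exact (hS1L b hb).1
      · exact (hzL b' (hS1L b' hb').1).1
      · exact hb.1
    · intro hb
      by_cases hbI : π (a * b) ∈ Im
      · exact Or.inl (hin b hb hbI)
      · exact Or.inr ⟨hb, hbI⟩
  have h13 : Disjoint S1 S3 := Set.disjoint_left.2 fun b hb hb' => hb'.2 (hS1L b hb).2
  have h23 : Disjoint S2 S3 := Set.disjoint_left.2 (by
    rintro _ ⟨b, hb, rfl⟩ hb'
    refine hb'.2 ?_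
    rw [(hzL b (hS1L b hb).1).2]
    exact (hS1L b hb).2)
  have hS3card : S3.ncard = 96 := by
    have h1 := Set.ncard_union_eq (s := S1 ∪ S2) (t := S3) (Set.disjoint_union_left.2 ⟨h13, h23⟩)
      (Set.toFinite _) (Set.toFinite _)
    rw [hcover, hLcard, Set.ncard_union_eq h12 (Set.toFinite _) (Set.toFinite _), hS1card, hS2card] at h1
    omega
  obtain ⟨b0, hb0⟩ : S3.Nonempty := Set.nonempty_of_ncard_ne_zero (by rw [hS3card]; norm_num)
  -- the annihilator of the kernel is the image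
  have hperp : ∀ v, (∀ w, ee ρ e w = 0 → pol q v w = 0) → v ∈ Im := by
    let P : AddSubgroup V :=
      { carrier := {v | ∀ w, ee ρ e w = 0 → pol q v w = 0}
        zero_mem' := fun w _ => fx.pol_zero_left w
        add_mem' := fun {x y} hx hy w hw => by rw [fx.addl, hx w hw, hy w hw, add_zero]
        neg_mem' := fun {x} hx => by
          rwa [show -x = x from neg_eq_of_add_eq_zero_left (fx.two x)] }
    have hIP : Im ≤ P := by
      rintro _ ⟨v, rfl⟩ w hw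
      have hw' : op ρ e w = w := by
        rw [← add_zero (op ρ e w), ← fx.two w, ← add_assoc, show op ρ e w + w = 0 from hw, zero_add]
      rw [ee_apply, fx.addl]
      conv_lhs => arg 1; rw [← hw']
      rw [show pol q (op ρ e v) (op ρ e w) = pol q v w by
        simp only [pol, ← map_add, (hyp D).inv], z2]
    have hPc : Nat.card P ≤ 16 := by
      set W := (ee ρ e).ker with hW
      let f : P → (V ⧸ W →+ ZMod 2) := fun x => QuotientAddGroup.lift W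
        (AddMonoidHom.mk' (fun w => pol q x.1 w) fun u w => fx.addr u w x.1) fun w hw => x.2 w hw
      have hinj : Function.Injective f := by
        intro x x' e'
        have hz : (x : V) + x' = 0 := fx.nondeg _ fun w => by
          have e1 := congrArg (fun g : V ⧸ W →+ ZMod 2 => g (QuotientAddGroup.mk w)) e'
          rw [fx.addl, show pol q (x : V) w = pol q (x' : V) w from e1, z2]
        refine Subtype.ext ?_
        rw [← add_zero (x : V), ← fx.two (x' : V), ← add_assoc, hz, zero_add]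
      haveI : Finite (V ⧸ W →+ ZMod 2) := Finite.of_injective _ DFunLike.coe_injective
      have h1 := Nat.card_le_card_of_injective f hinj
      rw [FischerFrame18.card_dual (V ⧸ W) fun x => by
        induction x using QuotientAddGroup.induction_on with
        | H v => rw [← QuotientAddGroup.mk_add, fx.two]; rfl] at h1
      have h2 := AddSubgroup.card_eq_card_quotient_mul_card_addSubgroup W
      rw [fx.card, hW, hc256] at h2
      rw [← hW] at h2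
      omega
    have hIPeq : Im = P := AddSubgroup.eq_of_le_of_card_ge hIP (by rw [hIm, hc16]; exact hPc)
    intro v hv
    rw [hIPeq]
    exact hv
  have hflip : ∀ b ∈ S3, Rel D C b (b * zc) := by
    intro b hb
    obtain ⟨w, hw0, hw1⟩ : ∃ w, ee ρ e w = 0 ∧ pol q (π (a * b)) w ≠ 0 := by
      by_contra hno
      push Not at hno
      exact hb.2 (hperp _ hno)
    obtain ⟨y, hy, rfl⟩ := D.link.surj w
    refine ⟨y, Q_le_NA D C hy, ?_⟩
    have h2 : y * (a * b) * y⁻¹ = zc * (a * b) :=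
      (D.ext.conj y hy _ (hab b hb.1).1).resolve_left fun e1 =>
        hw1 ((comm_iff D (hab b hb.1).1 hy).1 (mul_inv_eq_iff_eq_mul.1 e1).symm)
    calc y * b * y⁻¹ = y * a * y⁻¹ * (y * (a⁻¹ * b) * y⁻¹) := by group
      _ = a * (zc * (a * b)) := by rw [hainv, comm_ker D C ha hxn hax hy hw0, h2]
      _ = a * (a * b * zc) := by rw [← D.zc_central]
      _ = b * zc := by rw [← mul_assoc a, ← hsplit]
  -- the element of order three permutes the other classes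
  have hn : ∀ b ∈ L, xn * b * xn⁻¹ ∈ L ∧ π (a * (xn * b * xn⁻¹)) = op ρ n (π (a * b)) := by
    intro b hb
    have hbE := ((mem_AE D).1 hb.1).1
    refine ⟨⟨NA_conj D C (n_NA D C hxn) hb.1, ?_⟩, ?_⟩
    · rw [map_mul, map_mul, map_inv, hxn,
        ← D.hyp.comm_n _ ((E1_le (hyp D) C).trans (T0_le (hyp D) C) hbE), mul_inv_cancel_right, hb.2]
    · have hq' : xn * (a * b) * xn⁻¹ ∈ (QQ z) := (inferInstance : (QQ z).Normal).conj_mem _ (hab b hb).1 xn
      have e1 : a * (xn * b * xn⁻¹) = a * (xn * a * xn⁻¹) * (xn * (a⁻¹ * b) * xn⁻¹) := by group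
      rw [hainv] at e1
      rcases hax with e2 | e2
      · rw [e1, e2, AA_sq D C ha, one_mul, act D xn (hab b hb).1, hxn]
      · rw [e1, e2, ← mul_assoc a a, AA_sq D C ha, one_mul, D.link.add _ D.ext.mem _ hq', pi_zc D C,
          zero_add, act D xn (hab b hb).1, hxn]
  have htrans : ∀ b ∈ S3, Rel D C b0 b := by
    intro b hb
    set u := π (a * b0) with hu
    have hnu : op ρ n u ∉ Im := fun h1 => hb0.2 (by
      have h2 := hImn _ (hImn _ h1)
      rwa [fx.o_three] at h2)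
    have hnnu : op ρ n (op ρ n u) ∉ Im := fun h1 => hb0.2 (by
      have h2 := hImn _ h1
      rwa [fx.o_three] at h2)
    let r : Fin 4 → UU D C := ![0, ⟨u, (hab b0 hb0.1).2.2⟩,
      ⟨op ρ n u, (hn b0 hb0.1).2 ▸ (hab _ (hn b0 hb0.1).1).2.2⟩,
      ⟨op ρ n (op ρ n u), by
        have e1 := (hn _ (hn b0 hb0.1).1).2
        rw [(hn b0 hb0.1).2] at e1
        exact e1 ▸ (hab _ (hn _ (hn b0 hb0.1).1).1).2.2⟩]
    have hr : ∀ i j, i ≠ j → ((r i : V) + r j) ∉ Im := by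
      have k1 : u + op ρ n u = op ρ n (op ρ n u) := by rw [fx.o_two]; abel
      have k2 : u + op ρ n (op ρ n u) = op ρ n u := by
        rw [fx.o_two, add_comm (op ρ n u), ← add_assoc, fx.two, zero_add]
      have k3 : op ρ n u + op ρ n (op ρ n u) = u := by
        rw [fx.o_two, ← add_assoc, fx.two, zero_add]
      have k1' : op ρ n u + u = op ρ n (op ρ n u) := by rw [add_comm]; exact k1
      have k2' : op ρ n (op ρ n u) + u = op ρ n u := by rw [add_comm]; exact k2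
      have k3' : op ρ n (op ρ n u) + op ρ n u = u := by rw [add_comm]; exact k3
      have hu0 : u ∉ Im := hb0.2
      intro i j hij
      fin_cases i <;> fin_cases j <;> (try exact absurd rfl hij) <;>
        simp [r, k1, k2, k3, k1', k2', k3', hu0, hnu, hnnu]
    let f : Fin 4 × Im → UU D C := fun p => ⟨(r p.1 : V) + p.2.1, AddSubgroup.add_mem _ (r p.1).2 (hImU p.2.2)⟩
    have hf : Function.Injective f := by
      intro p p' e1
      have e2 : (r p.1 : V) + p.2.1 = r p'.1 + p'.2.1 := congrArg Subtype.val e1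
      have h1 : p.1 = p'.1 := by
        by_contra hne
        refine hr _ _ hne ?_
        have e3 : (r p.1 : V) + r p'.1 = p.2.1 + p'.2.1 := by
          calc (r p.1 : V) + r p'.1 = ((r p.1 : V) + p.2.1) + (p.2.1 + r p'.1) := by
                rw [add_assoc, ← add_assoc (p.2.1 : V), fx.two, zero_add]
            _ = (r p'.1 + p'.2.1) + (p.2.1 + r p'.1) := by rw [e2]
            _ = (p.2.1 + p'.2.1) + (r p'.1 + r p'.1 : V) := by abel
            _ = p.2.1 + p'.2.1 := by rw [fx.two, add_zero]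
        rw [e3]
        exact Im.add_mem p.2.2 p'.2.2
      refine Prod.ext h1 (Subtype.ext ?_)
      rw [h1] at e2
      exact add_left_cancel e2
    have hbij := (Nat.bijective_iff_injective_and_card f).2 ⟨hf, by
      rw [Nat.card_prod, Nat.card_fin, hIm, hc16]
      exact (card_Fix_E1 (hyp D) C).symm⟩
    obtain ⟨⟨i, w, hw⟩, hiw⟩ := hbij.2 ⟨π (a * b), (hab b hb.1).2.2⟩
    have hval : (r i : V) + w = π (a * b) := congrArg Subtype.val hiw
    obtain ⟨v, hv⟩ := hw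
    obtain ⟨y, hy, rfl⟩ := D.link.surj v
    have hi0 : i ≠ 0 := by
      rintro rfl
      refine hb.2 ?_
      rw [← hval, show ((r 0 : UU D C) : V) = 0 from rfl, zero_add, ← hv]
      exact ⟨_, rfl⟩
    obtain ⟨b1, hb1L, hrel, hb1u⟩ : ∃ b1 ∈ L, Rel D C b0 b1 ∧ π (a * b1) = r i := by
      fin_cases i
      · exact absurd rfl hi0
      · exact ⟨b0, hb0.1, Rel.refl D C b0, rfl⟩
      · exact ⟨_, (hn b0 hb0.1).1, ⟨xn, n_NA D C hxn, rfl⟩, (hn b0 hb0.1).2⟩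
      · refine ⟨_, (hn _ (hn b0 hb0.1).1).1,
          Rel.trans D C ⟨xn, n_NA D C hxn, rfl⟩ ⟨xn, n_NA D C hxn, rfl⟩, ?_⟩
        rw [(hn _ (hn b0 hb0.1).1).2, (hn b0 hb0.1).2]
        rfl
    obtain ⟨h2L, h2u⟩ := hQconj y hy b1 hb1L
    have hrel2 : Rel D C b0 (y * b1 * y⁻¹) := hrel.trans D C ⟨y, Q_le_NA D C hy, rfl⟩
    have hueq : π (a * (y * b1 * y⁻¹)) = π (a * b) := by
      rw [h2u, hb1u, hv, add_comm]; exact hval
    have h2S : y * b1 * y⁻¹ ∈ S3 := ⟨h2L, hueq.symm ▸ hb.2⟩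
    rcases pi_eq D (hab _ h2L).1 (hab b hb.1).1 hueq with e1 | e1
    · rw [mul_left_cancel e1]; exact hrel2
    · rw [mul_assoc] at e1
      rw [mul_left_cancel e1]
      exact hrel2.trans D C (hflip _ h2S)
  refine ⟨b0, hb0.1.1, hb0.1.2, S1, S2, S3, hS1card, hS2card, hS3card, h12, h13, h23, hcover, ?_, ?_, htrans⟩
  · rintro b ⟨y, hy, rfl⟩
    exact ⟨y, Q_le_NA D C hy, rfl⟩
  · rintro _ ⟨b, ⟨y, hy, rfl⟩, rfl⟩
    refine ⟨y, Q_le_NA D C hy, ?_⟩
    rw [show y * (a * zc) * y⁻¹ = y * a * (zc * y⁻¹) by group, ← D.zc_central y⁻¹]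
    group

theorem count_pieces {α : Type*} (P : α → Prop) (S : Set α) (r : α)
    (hS : ∀ b ∈ S, P b ↔ P r) : {b | b ∈ S ∧ P b}.ncard = if P r then S.ncard else 0 := by
  split_ifs with hr
  · exact congrArg Set.ncard (Set.ext fun b => ⟨fun hb => hb.1, fun hb => ⟨hb, (hS b hb).2 hr⟩⟩)
  · rw [Set.eq_empty_of_forall_notMem (s := {b | b ∈ S ∧ P b}) fun b hb => hr ((hS b hb.1).1 hb.2)]
    exact Set.ncard_empty α

end Coset

section Counts

include D C

/-- The classes outside `(QQ z)` at a base fixed modulo the centre by a given element over `n`. -/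
theorem outside_base {xn : ↥(HH z)} (hxn : mk z xn = n) :
    ∃ a b0 : ↥(HH z), a ∈ AA D C ∧ b0 ∈ AA D C ∧ a ∉ (QQ z) ∧ b0 ∉ (QQ z) ∧
    (mk z a = tau s ρ ν 1 ∧ (xn * a * xn⁻¹ = a ∨ xn * a * xn⁻¹ = a * zc)) ∧
    (∀ b ∈ AA D C, b ∉ (QQ z) → Rel D C a b ∨ Rel D C (a * zc) b ∨ Rel D C b0 b) ∧
    ∀ P : ↥(HH z) → Prop, (∀ x y, Rel D C x y → (P x ↔ P y)) →
      {b | b ∈ AA D C ∧ b ∉ (QQ z) ∧ P b}.ncard =
        15 * ((if P a then 16 else 0) + (if P (a * zc) then 16 else 0) + if P b0 then 96 else 0) := by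
  classical
  obtain ⟨a, ha, hae, hax⟩ := exists_base D C xn hxn
  obtain ⟨b0, hb0, hb0e, S1, S2, S3, c1, c2, c3, h12, h13, h23, hcover, r1, r2, r3⟩ :=
    coset_classes D C ha hxn hae hax
  have hne1 : tau s ρ ν 1 ≠ 1 := fun e => one_ne_zero (tau_inj (hyp D) C
    (eOne_list.2.2 _ eOne_zero.2) (by norm_num) (e.trans (tau_zero (hyp D) C).symm))
  have hnQ : ∀ {x}, mk z x = tau s ρ ν 1 → x ∉ (QQ z) := fun hx hQ =>
    hne1 (hx.symm.trans (mk_Q D C hQ))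
  -- a transporting element for each image
  have htr : ∀ e : {e // e ∈ E1 (hyp D) C ∧ e ≠ 1}, ∃ g ∈ NA D C,
      mk z g * tau s ρ ν 1 * (mk z g)⁻¹ = e.1 := by
    rintro ⟨e, ⟨i, hi, rfl⟩, hne⟩
    obtain ⟨g, -, hgn, hge⟩ := E1_trans (hyp D) C hi (fun e0 => hne (by rw [e0, tau_zero (hyp D) C]))
    obtain ⟨g', rfl⟩ := QuotientGroup.mk'_surjective (QQ z) g
    exact ⟨g', mem_normalizer (hyp D) C hgn, hge⟩
  choose g hg hge using htr
  have hall : ∀ b ∈ AA D C, b ∉ (QQ z) → ∃ b1 ∈ S1 ∪ S2 ∪ S3, Rel D C b1 b := by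
    intro b hb hbQ
    let e : {e // e ∈ E1 (hyp D) C ∧ e ≠ 1} := ⟨mk z b, ((mem_AE D).1 hb).1,
      fun e0 => hbQ ((QuotientGroup.eq_one_iff _).1 e0)⟩
    refine ⟨(g e)⁻¹ * b * g e, ?_, ⟨g e, hg e, by group⟩⟩
    rw [hcover]
    refine ⟨by simpa using NA_conj D C (inv_mem (hg e)) hb, ?_⟩
    rw [map_mul, map_mul, map_inv, show mk z b = e.1 from rfl, ← hge e, hae]
    group
  refine ⟨a, b0, ha, hb0, hnQ hae, hnQ (hb0e.trans hae), ⟨hae, hax⟩, fun b hb hbQ => ?_, fun P hP => ?_⟩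
  · obtain ⟨b1, ((h1 | h1) | h1), hrel⟩ := hall b hb hbQ
    · exact Or.inl ((r1 b1 h1).trans D C hrel)
    · exact Or.inr (Or.inl ((r2 b1 h1).trans D C hrel))
    · exact Or.inr (Or.inr ((r3 b1 h1).trans D C hrel))
  · set LP := {b | b ∈ S1 ∪ S2 ∪ S3 ∧ P b} with hLP
    have hLPc : LP.ncard =
        (if P a then 16 else 0) + (if P (a * zc) then 16 else 0) + if P b0 then 96 else 0 := by
      have hsplit : LP = {b | b ∈ S1 ∧ P b} ∪ {b | b ∈ S2 ∧ P b} ∪ {b | b ∈ S3 ∧ P b} := by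
        ext b; simp only [hLP, Set.mem_union, Set.mem_setOf_eq]; tauto
      rw [hsplit, Set.ncard_union_eq ?_ (Set.toFinite _) (Set.toFinite _),
        Set.ncard_union_eq ?_ (Set.toFinite _) (Set.toFinite _),
        count_pieces D C P S1 a (fun b hb => (hP _ _ (r1 b hb)).symm),
        count_pieces D C P S2 (a * zc) (fun b hb => (hP _ _ (r2 b hb)).symm),
        count_pieces D C P S3 b0 (fun b hb => (hP _ _ (r3 b hb)).symm), c1, c2, c3]
      · exact Set.disjoint_left.2 fun b hb hb' => Set.disjoint_left.1 h12 hb.1 hb'.1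
      · refine Set.disjoint_left.2 fun b hb hb' => ?_
        rcases hb with hb | hb
        · exact Set.disjoint_left.1 h13 hb.1 hb'.1
        · exact Set.disjoint_left.1 h23 hb.1 hb'.1
    have hE15 : Nat.card {e // e ∈ E1 (hyp D) C ∧ e ≠ 1} = 15 := by
      show Nat.card ↥((E1 (hyp D) C : Set (↥(HH z) ⧸ QQ z)) \ {1}) = 15
      rw [Nat.card_coe_set_eq, Set.ncard_diff_singleton_of_mem (one_mem (E1 (hyp D) C)),
        ← Nat.card_coe_set_eq, SetLike.coe_sort_coe, card_E1 (hyp D) C]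
    rw [← hLPc, ← hE15, ← Nat.card_coe_set_eq LP, ← Nat.card_prod, ← Nat.card_coe_set_eq]
    have hmk : ∀ b ∈ S1 ∪ S2 ∪ S3, b ∈ AA D C ∧ mk z b = tau s ρ ν 1 := fun b hb => by
      rw [hcover] at hb
      exact ⟨hb.1, hb.2.trans hae⟩
    refine (Nat.card_congr (Equiv.ofBijective (fun p : {e // e ∈ E1 (hyp D) C ∧ e ≠ 1} × LP =>
      (⟨g p.1 * p.2.1 * (g p.1)⁻¹, NA_conj D C (hg _) (hmk _ p.2.2.1).1, fun hQ => ?_, ?_⟩ :
        {b | b ∈ AA D C ∧ b ∉ (QQ z) ∧ P b})) ⟨?_, ?_⟩)).symm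
    · have e1 := mk_Q D C hQ
      rw [map_mul, map_mul, map_inv, (hmk _ p.2.2.1).2, hge] at e1
      exact p.1.2.2 e1
    · exact (hP p.2.1 _ ⟨g p.1, hg _, rfl⟩).1 p.2.2.2
    · rintro ⟨e, b⟩ ⟨e', b'⟩ h0
      have h1 : g e * b.1 * (g e)⁻¹ = g e' * b'.1 * (g e')⁻¹ :=
        congrArg (fun w : {b | b ∈ AA D C ∧ b ∉ (QQ z) ∧ P b} => w.1) h0
      have h2 := congrArg (mk z) h1
      simp only [map_mul, map_inv, (hmk _ b.2.1).2, (hmk _ b'.2.1).2, hge] at h2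
      obtain rfl : e = e' := Subtype.ext h2
      refine Prod.ext rfl (Subtype.ext ?_)
      exact mul_left_cancel (mul_right_cancel h1)
    · rintro ⟨b, hb, hbQ, hPb⟩
      let e : {e // e ∈ E1 (hyp D) C ∧ e ≠ 1} := ⟨mk z b, ((mem_AE D).1 hb).1,
        fun e0 => hbQ ((QuotientGroup.eq_one_iff _).1 e0)⟩
      have hc : (g e)⁻¹ * b * g e ∈ S1 ∪ S2 ∪ S3 := by
        rw [hcover]
        refine ⟨by simpa using NA_conj D C (inv_mem (hg e)) hb, ?_⟩
        rw [map_mul, map_mul, map_inv, show mk z b = e.1 from rfl, ← hge e, hae]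
        group
      refine ⟨⟨e, ⟨_, hc, ?_⟩⟩, Subtype.ext ?_⟩
      · exact (hP b _ ⟨(g e)⁻¹, inv_mem (hg e), by group⟩).1 hPb
      · show g e * ((g e)⁻¹ * b * g e) * (g e)⁻¹ = b
        group

/-- The elements outside `(QQ z)` form three classes, of which two have `240` elements. -/
theorem outside : ∃ a b0 : ↥(HH z), a ∈ AA D C ∧ b0 ∈ AA D C ∧ a ∉ (QQ z) ∧ b0 ∉ (QQ z) ∧
    (∀ b ∈ AA D C, b ∉ (QQ z) → Rel D C a b ∨ Rel D C (a * zc) b ∨ Rel D C b0 b) ∧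
    ∀ P : ↥(HH z) → Prop, (∀ x y, Rel D C x y → (P x ↔ P y)) →
      {b | b ∈ AA D C ∧ b ∉ (QQ z) ∧ P b}.ncard =
        15 * ((if P a then 16 else 0) + (if P (a * zc) then 16 else 0) + if P b0 then 96 else 0) := by
  obtain ⟨xn, hxn⟩ := QuotientGroup.mk'_surjective (QQ z) n
  obtain ⟨a, b0, h1, h2, h3, h4, -, h5, h6⟩ := outside_base D C hxn
  exact ⟨a, b0, h1, h2, h3, h4, h5, h6⟩

/-- The lifts of an orbit list. -/
theorem card_lifts {u : List ℕ} (hu : u.Nodup) (hl : ∀ c ∈ u, c < 4096) :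
    {x | x ∈ (QQ z) ∧ ∃ c ∈ u, π x = nc s ν c}.ncard = 2 * u.length := by
  classical
  choose r hr hrπ using fun c : u.toFinset => D.link.surj (nc s ν c.1)
  rw [← List.toFinset_card_of_nodup hu, ← Nat.card_eq_finsetCard, ← Nat.card_fin 2, ← Nat.card_prod,
    ← Nat.card_coe_set_eq]
  refine (Nat.card_congr (Equiv.ofBijective (fun p : Fin 2 × u.toFinset =>
    (⟨if p.1 = 0 then r p.2 else r p.2 * zc, ?_⟩ :
      {x | x ∈ (QQ z) ∧ ∃ c ∈ u, π x = nc s ν c})) ⟨?_, ?_⟩)).symm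
  · refine ⟨?_, p.2.1, List.mem_toFinset.1 p.2.2, ?_⟩
    · split_ifs
      · exact hr _
      · exact mul_mem (hr _) D.ext.mem
    · split_ifs
      · exact hrπ _
      · rw [pi_mul_zc D C (hr _)]; exact hrπ _
  · intro p p' e0
    have e1 := congrArg (fun w : {x | x ∈ (QQ z) ∧ ∃ c ∈ u, π x = nc s ν c} => w.1) e0
    simp only at e1
    have e2 := congrArg π e1
    have hc : p.2 = p'.2 := by
      refine Subtype.ext (nc_inj (hyp D) C (hl _ (List.mem_toFinset.1 p.2.2)) (hl _ (List.mem_toFinset.1 p'.2.2))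
        (q := q) ?_)
      split_ifs at e2 <;> simpa only [pi_mul_zc D C (hr _), hrπ] using e2
    refine Prod.ext ?_ hc
    rw [hc] at e1
    split_ifs at e1 with h1 h2 h3
    · rw [h1, h2]
    · exact absurd (left_eq_mul.1 e1) D.ext.ne_one
    · exact absurd (left_eq_mul.1 e1.symm) D.ext.ne_one
    · have : ∀ i j : Fin 2, i ≠ 0 → j ≠ 0 → i = j := by decide
      exact this _ _ h1 h3
  · rintro ⟨x, hx, c, hc, hxc⟩
    rcases pi_eq D (hr ⟨c, List.mem_toFinset.2 hc⟩) hx ((hrπ _).trans hxc.symm) with e | e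
    · exact ⟨⟨0, c, List.mem_toFinset.2 hc⟩, Subtype.ext (by simp [e])⟩
    · exact ⟨⟨1, c, List.mem_toFinset.2 hc⟩, Subtype.ext (by simp [e])⟩

/-- The elements inside `(QQ z)`. -/
theorem inside : ∃ x5 x85 : ↥(HH z), x5 ∈ (QQ z) ∧ x85 ∈ (QQ z) ∧ x5 ∈ AA D C ∧ x85 ∈ AA D C ∧
    x5 ≠ 1 ∧ x5 ≠ zc ∧ x85 ≠ 1 ∧ x85 ≠ zc ∧
    (¬ ∃ t, t * x5 * t⁻¹ = x85) ∧
    (∀ x ∈ AA D C, x ∈ (QQ z) → x ≠ 1 → x ≠ zc → Rel D C x5 x ∨ Rel D C x85 x) ∧
    ∀ P : ↥(HH z) → Prop, (∀ x y, Rel D C x y → (P x ↔ P y)) → ¬ P 1 →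
      {b | b ∈ AA D C ∧ b ∈ (QQ z) ∧ P b}.ncard =
        (if P zc then 1 else 0) + (if P x5 then 36 else 0) + if P x85 then 90 else 0 := by
  classical
  obtain ⟨hn18, hn45, hl18, hl45, hcases, h18x, h45⟩ := orb_facts (hyp D) C
  have h18 : ∀ c ∈ J4Data18.u18, c ∈ J4Data18.uList ∧ c ≠ 0 := fun c hc =>
    ⟨(h18x c hc).1, (h18x c hc).2.1⟩
  have h5 : J4Data18.u18.getD 0 0 ∈ J4Data18.u18 := by decide +kernel
  have h85 : J4Data18.u45.getD 0 0 ∈ J4Data18.u45 := by decide +kernel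
  obtain ⟨x5, hx5, e5⟩ := D.link.surj (nc s ν (J4Data18.u18.getD 0 0))
  obtain ⟨x85, hx85, e85⟩ := D.link.surj (nc s ν (J4Data18.u45.getD 0 0))
  have hmemA : ∀ {x c}, x ∈ (QQ z) → c ∈ J4Data18.uList → π x = nc s ν c → x ∈ AA D C := fun hx hc e =>
    (mem_AA_Q D C hx).2 (e ▸ (mem_Fix_E1 (hyp D) C).2 ⟨_, hc, rfl⟩)
  have hne : ∀ {x c}, x ∈ (QQ z) → c ∈ J4Data18.uList → c ≠ 0 → π x = nc s ν c → x ≠ 1 ∧ x ≠ zc := by
    intro x c hx hc hc0 e
    have h0 : π x ≠ 0 := fun e0 => hc0 (nc_inj (hyp D) C (uList_spec (hyp D) C hc).1 (by norm_num)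
      ((e.symm.trans e0).trans (nc_zero (hyp D) C).symm))
    exact ⟨fun e1 => h0 ((D.link.ker x hx).2 (Or.inl e1)), fun e1 => h0 ((D.link.ker x hx).2 (Or.inr e1))⟩
  have hA : ∀ x ∈ AA D C, x ∈ (QQ z) → x ≠ 1 → x ≠ zc →
      (∃ c ∈ J4Data18.u18, π x = nc s ν c) ∨ ∃ c ∈ J4Data18.u45, π x = nc s ν c := by
    intro x hxA hx h1 h2
    obtain ⟨c, hc, e⟩ := (mem_Fix_E1 (hyp D) C).1 ((mem_AA_Q D C hx).1 hxA)
    rcases hcases c hc with rfl | hc' | hc'
    · rw [nc_zero (hyp D) C] at e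
      rcases (D.link.ker x hx).1 e with e1 | e1
      · exact absurd e1 h1
      · exact absurd e1 h2
    · exact Or.inl ⟨c, hc', e⟩
    · exact Or.inr ⟨c, hc', e⟩
  have r18 : ∀ x ∈ (QQ z), (∃ c ∈ J4Data18.u18, π x = nc s ν c) → Rel D C x5 x := fun x hx ⟨c, hc, e⟩ =>
    rel_list D C h18 (fun _ hc' => (trans18 (hyp D) C hc').imp fun _ h => ⟨h.2.1, h.2.2⟩) hx5 hx e5 hc e
  have r45 : ∀ x ∈ (QQ z), (∃ c ∈ J4Data18.u45, π x = nc s ν c) → Rel D C x85 x := fun x hx ⟨c, hc, e⟩ =>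
    rel_list D C h45 (fun _ hc' => (trans45 (hyp D) C hc').imp fun _ h => ⟨h.2.1, h.2.2⟩) hx85 hx e85 hc e
  refine ⟨x5, x85, hx5, hx85, hmemA hx5 (h18 _ h5).1 e5, hmemA hx85 (h45 _ h85).1 e85,
    (hne hx5 (h18 _ h5).1 (h18 _ h5).2 e5).1, (hne hx5 (h18 _ h5).1 (h18 _ h5).2 e5).2,
    (hne hx85 (h45 _ h85).1 (h45 _ h85).2 e85).1, (hne hx85 (h45 _ h85).1 (h45 _ h85).2 e85).2,
    ?_, fun x hxA hx h1 h2 => ?_, fun P hP hP1 => ?_⟩
  · rintro ⟨t, ht⟩
    refine not_Pt_18 (hyp D) C ?_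
    have e := act D t hx5
    rw [ht, e5, e85] at e
    have h2 := Pt_op (hyp D) C D.index_two (Pt_45 (hyp D) C D.index_two) (mk z t)⁻¹
    rwa [e, op_inv_op (hyp D) C] at h2
  · rcases hA x hxA hx h1 h2 with hc | hc
    · exact Or.inl (r18 x hx hc)
    · exact Or.inr (r45 x hx hc)
  · set S18 := {x | x ∈ (QQ z) ∧ ∃ c ∈ J4Data18.u18, π x = nc s ν c} with hS18
    set S45 := {x | x ∈ (QQ z) ∧ ∃ c ∈ J4Data18.u45, π x = nc s ν c} with hS45
    have hset : {b | b ∈ AA D C ∧ b ∈ (QQ z) ∧ P b} =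
        {b | b ∈ ({zc} : Set _) ∧ P b} ∪ {b | b ∈ S18 ∧ P b} ∪ {b | b ∈ S45 ∧ P b} := by
      ext b
      simp only [Set.mem_union, Set.mem_setOf_eq, Set.mem_singleton_iff, hS18, hS45]
      constructor
      · rintro ⟨hb, hbQ, hPb⟩
        by_cases hz : b = zc
        · exact Or.inl (Or.inl ⟨hz, hPb⟩)
        rcases hA b hb hbQ (fun e => hP1 (e ▸ hPb)) hz with hc | hc
        · exact Or.inl (Or.inr ⟨⟨hbQ, hc⟩, hPb⟩)
        · exact Or.inr ⟨⟨hbQ, hc⟩, hPb⟩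
      · rintro ((⟨rfl, hPb⟩ | ⟨⟨hbQ, c, hc, e⟩, hPb⟩) | ⟨⟨hbQ, c, hc, e⟩, hPb⟩)
        · exact ⟨zc_mem D C, D.ext.mem, hPb⟩
        · exact ⟨hmemA hbQ (h18 c hc).1 e, hbQ, hPb⟩
        · exact ⟨hmemA hbQ (h45 c hc).1 e, hbQ, hPb⟩
    have hdis : ∀ b ∈ S18, b ∉ S45 := by
      rintro b ⟨hb, c, hc, e⟩ ⟨-, c', hc', e'⟩
      have := nc_inj (hyp D) C (uList_spec (hyp D) C (h18 c hc).1).1
        (uList_spec (hyp D) C (h45 c' hc').1).1 (e.symm.trans e')
      subst this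
      exact (h18x c hc).2.2 hc'
    have hz18 : ∀ {u : List ℕ}, (∀ c ∈ u, c ∈ J4Data18.uList ∧ c ≠ 0) →
        zc ∉ {x | x ∈ (QQ z) ∧ ∃ c ∈ u, π x = nc s ν c} := fun hu ⟨hb, c, hc, e⟩ =>
      (hne hb (hu c hc).1 (hu c hc).2 e).2 rfl
    rw [hset, Set.ncard_union_eq ?_ (Set.toFinite _) (Set.toFinite _),
      Set.ncard_union_eq ?_ (Set.toFinite _) (Set.toFinite _),
      count_pieces D C P {zc} zc (fun b hb => by rw [Set.mem_singleton_iff.1 hb]),
      count_pieces D C P S18 x5 (fun b hb => (hP _ _ (r18 b hb.1 hb.2)).symm),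
      count_pieces D C P S45 x85 (fun b hb => (hP _ _ (r45 b hb.1 hb.2)).symm),
      Set.ncard_singleton, hS18, hS45,
      card_lifts D C hn18 (fun c hc => (uList_spec (hyp D) C (h18 c hc).1).1),
      card_lifts D C hn45 (fun c hc => (uList_spec (hyp D) C (h45 c hc).1).1), hl18, hl45]
    · exact Set.disjoint_left.2 fun b hb hb' => hz18 h18 (Set.mem_singleton_iff.1 hb.1 ▸ hb'.1)
    · refine Set.disjoint_left.2 fun b hb hb' => ?_
      rcases hb with hb | hb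
      · exact hz18 h45 (Set.mem_singleton_iff.1 hb.1 ▸ hb'.1)
      · exact hdis b hb.1 hb'.1

end Counts

end Cfsg.Agent.J4Orbit48
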