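import Cfsg.Agent.Lib.J4PresOut13

/-!
Kernel replay of blocks of derivation steps, kept in their own module to bound the memory of one check.
-/

set_option autoImplicit false
set_option maxRecDepth 100000
set_option Elab.async false

namespace Cfsg.Agent.J4M24Pres13

open Cfsg.Agent.J4PresGen13 Cfsg.Agent.J4PresData13 Cfsg.Agent.J4PresOut13

theorem derive_block0 : derive steps0 known0 = some known1 := by decide +kernel

theorem derive_block1 : derive steps1 known1 = some known2 := by decide +kernel

theorem derive_block2 : derive steps2 known2 = some known3 := by decide +kernel

theorem derive_block3 : derive steps3 known3 = some known4 := by decide +kernel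

theorem derive_block4 : derive steps4 known4 = some known5 := by decide +kernel

theorem derive_block5 : derive steps5 known5 = some known6 := by decide +kernel

end Cfsg.Agent.J4M24Pres13
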