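import Cfsg.Agent.Lib.J4PresOut13

/-!
Kernel replay of blocks of derivation steps, kept in their own module to bound the memory of one check.
-/

set_option autoImplicit false
set_option maxRecDepth 100000
set_option Elab.async false

namespace Cfsg.Agent.J4M24Pres13

open Cfsg.Agent.J4PresGen13 Cfsg.Agent.J4PresData13 Cfsg.Agent.J4PresOut13

theorem derive_block6 : derive steps6 known6 = some known7 := by decide +kernel

theorem derive_block7 : derive steps7 known7 = some known8 := by decide +kernel

end Cfsg.Agent.J4M24Pres13
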