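import Mathlib
import Cfsg.Agent.Lib.J4Syl18
import Cfsg.Agent.Lib.JFourModule85

/-!
Data and coordinates exist for a group of Janko-four type.
-/

set_option autoImplicit false
set_option linter.unusedSectionVars false

namespace Cfsg.Agent.J4Exists97

open Cfsg Cfsg.Agent.U62Mon93 Cfsg.Agent.JFourSetting97 Cfsg.Agent.JFourModule85

universe u

theorem exists_coords {G : Type u} [Group G] [Finite G] {z : G} {P : Subgroup G}
    (hJ : Cfsg.IsOfJankoFourTypeWith z P) :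
    ∃ (V : Type u) (_ : AddCommGroup V) (zc : ↥(HH z)) (π : ↥(HH z) → V)
      (ρ : ↥(HH z) ⧸ QQ z →* AddMonoid.End V) (q : V → ZMod 2) (n : ↥(HH z) ⧸ QQ z)
      (Mb : Subgroup (↥(HH z) ⧸ QQ z)) (F : Type) (_ : Field F) (_ : Fintype F) (s : F) (h : S4 s)
      (ν : (Fin 6 → F) → V),
      Data z P zc π ρ q n Mb ∧ J4Syl18.Coord h ρ q n Mb ν := by
  obtain ⟨V, iV, zc, π, ρ, q, n, Mb, D⟩ := exists_data hJ
  haveI : Fact (Nat.Prime 2) := ⟨Nat.prime_two⟩
  haveI : Fintype (GaloisField 2 2) := Fintype.ofFinite _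
  have hF : Fintype.card (GaloisField 2 2) = 4 := by
    rw [← Nat.card_eq_fintype_card, GaloisField.card 2 2 (by norm_num)]
    norm_num
  obtain ⟨s, h⟩ := exists_S4 hF
  obtain ⟨ν, C⟩ := J4Syl18.exists_coord D.hyp h
  exact ⟨V, iV, zc, π, ρ, q, n, Mb, _, inferInstance, inferInstance, s, h, ν, D, C⟩

end Cfsg.Agent.J4Exists97
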