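import Mathlib
import Cfsg.Agent.Lib.J4Elem85
import Cfsg.Agent.S5306

/-!
The elementary abelian subgroups of order `2 ^ 11` of a group of Janko-four type: a Sylow 2-subgroup
has exactly one, it contains its centralizer, all are conjugate and the normaliser controls fusion.
-/

set_option autoImplicit false
set_option linter.unusedSectionVars false
set_option linter.style.haveILetI false
set_option maxHeartbeats 800000

namespace Cfsg.Agent.J4Thompson85

open Subgroup Cfsg.Agent.LargeExtraspecial Cfsg.Agent.U62Mon93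
  Cfsg.Agent.LFForm89 Cfsg.Agent.J4Coord85 Cfsg.Agent.J4Syl18 Cfsg.Agent.JFourSetting97
  Cfsg.Agent.JFourModule85 Cfsg.Agent.J4Elem85

universe u

theorem ea_iff {X : Type*} [Group X] (A : Subgroup X) :
    Cfsg.IsElementaryAbelian 2 A ↔ J4Syl18.EA A := by
  constructor
  · rintro ⟨-, h⟩
    exact J4Elem85.ea_of_sq fun x hx => by rw [← pow_two]; exact h x hx
  · rintro ⟨h1, h2⟩
    exact ⟨⟨⟨fun a b => Subtype.ext (h2 a a.2 b b.2)⟩⟩, fun x hx => by rw [pow_two]; exact h1 x hx⟩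

variable {G : Type u} [Group G] [Finite G] {z : G} {P : Subgroup G}
variable {V : Type u} [AddCommGroup V] {zc : ↥(HH z)}
  {π : ↥(HH z) → V} {ρ : ↥(HH z) ⧸ QQ z →* AddMonoid.End V}
  {q : V → ZMod 2} {n : ↥(HH z) ⧸ QQ z}
  {Mb : Subgroup (↥(HH z) ⧸ QQ z)}
variable (D : Data z P zc π ρ q n Mb)
variable {F : Type} [Field F] [Fintype F] {s : F} {h : S4 s} {ν : (Fin 6 → F) → V}
  (C : J4Syl18.Coord h ρ q n Mb ν)

/-- The subgroup inside the group. -/
def AG (D : Data z P zc π ρ q n Mb) (C : J4Syl18.Coord h ρ q n Mb ν) : Subgroup G :=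
  (AA D C).map (HH z).subtype

include D C

theorem AG_facts : J4Syl18.EA (AG D C) ∧ Nat.card (AG D C) = 2 ^ 11 ∧ z ∈ AG D C := by
  obtain ⟨hea, hcard, -, -⟩ := AA_facts D C
  refine ⟨J4Elem85.ea_of_sq ?_, ?_, ⟨zc, J4Elem85.zc_mem D C, D.zc_val⟩⟩
  · rintro _ ⟨x, hx, rfl⟩
    rw [← map_mul, hea.1 x hx, map_one]
  · rw [AG, Subgroup.card_map_of_injective (Subgroup.subtype_injective _), hcard]

theorem AG_le : AG D C ≤ HH z := Subgroup.map_subtype_le _

/-- Two large elementary abelian subgroups inside one 2-subgroup of the centralizer coincide. -/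
theorem eq_AA {B : Subgroup ↥(HH z)} (hB : J4Syl18.EA B) (hbig : 2 ^ 11 ≤ Nat.card B)
    {S : Subgroup ↥(HH z)} (hS : IsPGroup 2 S) (hBS : B ≤ S) (hAS : AA D C ≤ S) : B = AA D C := by
  classical
  haveI := finiteV D
  obtain ⟨hea, hcard, hmap, -⟩ := AA_facts D C
  obtain ⟨-, -, h16, hle, -, hBeq⟩ := big D C hB hbig
  set Bb := B.map (mk z) with hBb
  set E := E1 (hyp D) C with hE
  set S0 := S.map (mk z) ⊓ Mb with hS0
  have hS2 : IsPGroup 2 S0 := (hS.map (mk z)).to_le inf_le_left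
  obtain ⟨k, -, hk⟩ := exists_conj_T0 (hyp D) C (show S0 ≤ Mb from inf_le_right) hS2
  have hEle : E ≤ S0 := le_inf (hmap ▸ Subgroup.map_mono hAS) ((E1_le (hyp D) C).trans (T0_le (hyp D) C))
  have hBle : Bb ≤ S0 := le_inf (Subgroup.map_mono hBS) hle
  have hBbea : J4Syl18.EA Bb := J4Elem85.ea_of_sq (by
    rintro _ ⟨b, hb, rfl⟩; rw [← map_mul, hB.1 b hb, map_one])
  -- each image is conjugated onto the first subgroup
  have hkey : ∀ A : Subgroup (↥(HH z) ⧸ QQ z), A ≤ S0 → J4Syl18.EA A → Nat.card A = 16 →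
      4 < Nat.card (J4Syl18.Fix ρ A) → cj k A = E := by
    intro A hA hAea hA16 h4
    refine eq_E1 (hyp D) C ((Subgroup.map_mono hA).trans hk) ?_ ?_ (J4Syl18.Fix ρ (cj k A)) le_rfl ?_
    · exact J4Elem85.ea_of_sq (by rintro _ ⟨x, hx, rfl⟩; rw [← map_mul, hAea.1 x hx, map_one])
    · rw [Subgroup.card_map_of_injective (MulAut.conj k).injective, hA16]
    · refine h4.trans_le ?_
      refine Nat.card_le_card_of_injective
        (fun v => (⟨op ρ k v.1, Fix_cj v.2⟩ : J4Syl18.Fix ρ (cj k A))) fun a b e => Subtype.ext ?_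
      have e' := congrArg (fun w : J4Syl18.Fix ρ (cj k A) => op ρ k⁻¹ w.1) e
      simpa [← rho_mul, rho_one] using e'
  have hB4 : 4 < Nat.card (J4Syl18.Fix ρ Bb) := by
    obtain ⟨-, hQ, -, -, -, -⟩ := big D C hB hbig
    have h2 := card_piIm D B
    have h3 := Nat.card_le_card_of_injective _ (AddSubgroup.inclusion_injective (piIm_fix D hB))
    rw [← hBb] at h3
    omega
  have e1 := hkey E hEle (E1_ea (hyp D) C) (card_E1 (hyp D) C) (by rw [card_Fix_E1 (hyp D) C]; norm_num)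
  have e2 := hkey Bb hBle hBbea h16 hB4
  have hBE : Bb = E := Subgroup.map_injective (f := (MulAut.conj k).toMonoidHom)
    (MulAut.conj k).injective (e2.trans e1.symm)
  rw [hBeq, hBE, AA]

/-- The element `z` is alone centralising the kernel part. -/
theorem cent_Q {c : G} (hc : ∀ x ∈ Cfsg.twoCoreOfCentralizer z, c * x = x * c) : c = 1 ∨ c = z := by
  have hzQ : z ∈ Cfsg.twoCoreOfCentralizer z := ⟨zc, D.ext.mem, D.zc_val⟩
  have hcH : c ∈ HH z := mem_centralizer_singleton_iff.2 (hc z hzQ)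
  rcases D.self_cent ⟨c, hcH⟩ (fun a ha => Subtype.ext (hc a ⟨a, ha, rfl⟩)) with e | e
  · exact Or.inl (congrArg Subtype.val e)
  · exact Or.inr ((congrArg Subtype.val e).trans D.zc_val)

theorem z_ne_one : z ≠ 1 := fun e => D.ext.ne_one (Subtype.ext (D.zc_val.trans e))

/-- A Sylow subgroup of the whole group inside the centralizer with exactly one such subgroup. -/
theorem exists_sylow : ∃ S : Sylow 2 G, (S : Subgroup G) ≤ HH z ∧ AG D C ≤ (S : Subgroup G) ∧
    ∀ B : Subgroup G, B ≤ (S : Subgroup G) → J4Syl18.EA B → 2 ^ 11 ≤ Nat.card B → B = AG D C := by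
  haveI : Fact (Nat.Prime 2) := ⟨Nat.prime_two⟩
  obtain ⟨hea, hcard, -, -⟩ := AA_facts D C
  have hea2 : IsPGroup 2 (AA D C) := IsPGroup.of_card (n := 11) hcard
  obtain ⟨R, hR⟩ := hea2.exists_le_sylow
  have hQ2 : IsPGroup 2 (QQ z) := IsPGroup.of_card (n := 13) D.card_Q
  have hQR : QQ z ≤ (R : Subgroup ↥(HH z)) :=
    (R.is_maximal' (R.isPGroup'.to_sup_of_normal_right hQ2) le_sup_left).le.trans' le_sup_right
  set RG := (R : Subgroup ↥(HH z)).map (HH z).subtype with hRG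
  have hRGH : RG ≤ HH z := Subgroup.map_subtype_le _
  obtain ⟨S, hS⟩ := (R.isPGroup'.map (HH z).subtype).exists_le_sylow
  have hcap : (S : Subgroup G) ⊓ HH z = RG := by
    refine le_antisymm ?_ (le_inf hS hRGH)
    have h1 : IsPGroup 2 (((S : Subgroup G)).subgroupOf (HH z)) := S.isPGroup'.comap_subtype
    have h2 := R.is_maximal' h1 fun x hx => hS ⟨x, hx, rfl⟩
    rintro x ⟨hx1, hx2⟩
    exact ⟨⟨x, hx2⟩, h2.le (show (⟨x, hx2⟩ : ↥(HH z)) ∈ _ from hx1), rfl⟩
  have hSR : (S : Subgroup G) = RG := by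
    by_contra hne
    have hlt : RG < (S : Subgroup G) := lt_of_le_of_ne hS (Ne.symm hne)
    haveI : Group.IsNilpotent S := S.isPGroup'.isNilpotent
    have hlt' : RG.subgroupOf S < ⊤ := by
      refine lt_of_le_of_ne le_top fun e => ?_
      rw [Subgroup.subgroupOf_eq_top] at e
      exact absurd e (not_le_of_gt hlt)
    obtain ⟨g, hgn, hgP⟩ := SetLike.exists_of_lt (Group.normalizerCondition_of_isNilpotent _ hlt')
    have hgH : (g : G) ∈ HH z := by
      refine mem_centralizer_singleton_iff.2 ?_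
      rcases cent_Q D C (c := (g : G) * z * (g : G)⁻¹) (by
        rintro _ ⟨y, hy, rfl⟩
        have hyP : (y : G) ∈ RG := ⟨y, hQR hy, rfl⟩
        have hm : (g : G)⁻¹ * y * g ∈ RG := by
          have hg' : g⁻¹ ∈ Subgroup.normalizer (RG.subgroupOf S : Set S) := inv_mem hgn
          have := (Subgroup.mem_normalizer_iff.1 hg' ⟨y, hS hyP⟩).1
            (show (⟨(y : G), _⟩ : S) ∈ RG.subgroupOf S from hyP)
          rw [Subgroup.mem_subgroupOf] at this
          simpa using this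
        have hc := Subgroup.mem_centralizer_singleton_iff.1 (hRGH hm)
        calc (g : G) * z * (g : G)⁻¹ * y = (g : G) * (z * ((g : G)⁻¹ * y * g)) * (g : G)⁻¹ := by group
          _ = (g : G) * ((g : G)⁻¹ * y * g * z) * (g : G)⁻¹ := by rw [hc]
          _ = _ := by simp [mul_assoc]) with e | e
      · exact absurd (conj_eq_one_iff.1 e) (z_ne_one D C)
      · exact mul_inv_eq_iff_eq_mul.1 e
    exact hgP (show g ∈ RG.subgroupOf S from Subgroup.mem_subgroupOf.2 (hcap ▸ ⟨g.2, hgH⟩))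
  refine ⟨S, hSR ▸ hRGH, hSR ▸ Subgroup.map_mono hR, fun B hB hBea hbig => ?_⟩
  have hBH : B ≤ HH z := (hSR ▸ hB).trans hRGH
  have hBm : (B.subgroupOf (HH z)).map (HH z).subtype = B := by
    rw [Subgroup.subgroupOf_map_subtype, inf_eq_left.2 hBH]
  have e := eq_AA D C (B := B.subgroupOf (HH z))
    (J4Elem85.ea_of_sq fun x hx => Subtype.ext (hBea.1 _ hx))
    (by rw [Nat.card_congr (Subgroup.subgroupOfEquivOfLe hBH).toEquiv]; exact hbig)
    R.isPGroup' (fun x hx => by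
      obtain ⟨y, hy, hye⟩ := (hSR ▸ hB) (show (x : G) ∈ B from hx)
      rwa [← Subtype.ext (a1 := y) (a2 := x) hye]) hR
  rw [← hBm, e, AG]

/-- Every Sylow 2-subgroup has exactly one elementary abelian subgroup of order `2 ^ 11`. -/
theorem sylow_unique (T : Sylow 2 G) : ∃ g : G, cj g (AG D C) ≤ (T : Subgroup G) ∧
    ∀ B : Subgroup G, B ≤ (T : Subgroup G) → J4Syl18.EA B → 2 ^ 11 ≤ Nat.card B →
      B = cj g (AG D C) := by
  haveI : Fact (Nat.Prime 2) := ⟨Nat.prime_two⟩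
  obtain ⟨S, -, hAS, huniq⟩ := exists_sylow D C
  obtain ⟨g, hg⟩ := MulAction.exists_smul_eq G S T
  have hTe : (T : Subgroup G) = cj g (S : Subgroup G) := by
    rw [← hg]; rfl
  refine ⟨g, hTe ▸ Subgroup.map_mono hAS, fun B hB hBea hbig => ?_⟩
  have h1 : cj g⁻¹ B ≤ (S : Subgroup G) := by
    rintro _ ⟨x, hx, rfl⟩
    obtain ⟨y, hy, rfl⟩ := (hTe ▸ hB) hx
    show g⁻¹ * (g * y * g⁻¹) * g⁻¹⁻¹ ∈ (S : Subgroup G)
    rwa [show g⁻¹ * (g * y * g⁻¹) * g⁻¹⁻¹ = y by group]
  have h2 : J4Syl18.EA (cj g⁻¹ B) := J4Elem85.ea_of_sq (by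
    rintro _ ⟨x, hx, rfl⟩; rw [← map_mul, hBea.1 x hx, map_one])
  rw [← huniq _ h1 h2 (by rwa [Subgroup.card_map_of_injective (MulAut.conj g⁻¹).injective]), cj, cj,
    Subgroup.map_map]
  refine (Subgroup.map_id B).symm.trans ?_
  congr 1
  refine MonoidHom.ext fun x => ?_
  simp [mul_assoc]

/-- All elementary abelian subgroups of order `2 ^ 11` are conjugate. -/
theorem exists_conj {B : Subgroup G} (hB : J4Syl18.EA B) (hcard : Nat.card B = 2 ^ 11) :
    ∃ g : G, B = cj g (AG D C) := by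
  haveI : Fact (Nat.Prime 2) := ⟨Nat.prime_two⟩
  obtain ⟨T, hT⟩ := (IsPGroup.of_card (p := 2) (n := 11) hcard).exists_le_sylow
  obtain ⟨g, -, hu⟩ := sylow_unique D C T
  exact ⟨g, hu B hT hB hcard.ge⟩

/-- The subgroup is the Thompson subgroup of a Sylow subgroup. -/
theorem exists_sylow_thompson : ∃ S : Sylow 2 G, (S : Subgroup G) ≤ HH z ∧
    Cfsg.thompsonSubgroupOf 2 (S : Subgroup G) = AG D C := by
  obtain ⟨S, hSH, hAS, huniq⟩ := exists_sylow D C
  obtain ⟨hAea, hAc, -⟩ := AG_facts D C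
  refine ⟨S, hSH, ?_⟩
  have hmap : ((AG D C).subgroupOf (S : Subgroup G)).map (S : Subgroup G).subtype = AG D C := by
    rw [Subgroup.subgroupOf_map_subtype, inf_eq_left.2 hAS]
  have hcmap : ∀ B : Subgroup (S : Subgroup G),
      Nat.card (B.map (S : Subgroup G).subtype) = Nat.card B := fun B =>
    Subgroup.card_map_of_injective (S : Subgroup G).subtype_injective
  have hAe' : Cfsg.IsElementaryAbelian 2 ((AG D C).subgroupOf (S : Subgroup G)) :=
    (ea_iff _).2 (J4Elem85.ea_of_sq fun x hx => Subtype.ext (hAea.1 _ hx))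
  have key : ∀ B : Subgroup (S : Subgroup G), Cfsg.IsElementaryAbelian 2 B → 2 ^ 11 ≤ Nat.card B →
      B = (AG D C).subgroupOf S := fun B hB hbig =>
    Subgroup.map_injective (S : Subgroup G).subtype_injective
      (hmap.symm ▸ huniq _ (Subgroup.map_subtype_le B)
        (J4Elem85.ea_of_sq (by
          rintro _ ⟨x, hx, rfl⟩; rw [← map_mul, ((ea_iff B).1 hB).1 x hx, map_one]))
        (hcmap B ▸ hbig))
  have hc : Nat.card ((AG D C).subgroupOf (S : Subgroup G)) = 2 ^ 11 := by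
    rw [← hcmap, hmap, hAc]
  have hmax : Cfsg.maxElementaryAbelianSubgroups 2 ↥(S : Subgroup G) =
      {(AG D C).subgroupOf S} := by
    refine Set.ext fun B => ⟨fun hB => key B hB.1 (hc ▸ hB.2 _ hAe'), fun hB => ?_⟩
    rw [Set.mem_singleton_iff] at hB
    subst hB
    refine ⟨hAe', fun B hB => ?_⟩
    by_contra hlt
    push Not at hlt
    rw [key B hB (hc ▸ hlt.le)] at hlt
    exact lt_irrefl _ hlt
  rw [Cfsg.thompsonSubgroupOf, Cfsg.thompsonSubgroup, hmax, sSup_singleton, hmap]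

/-- The normaliser controls fusion. -/
theorem fusion {a g : G} (ha : a ∈ AG D C) (hga : g * a * g⁻¹ ∈ AG D C) :
    ∃ m ∈ Subgroup.normalizer (AG D C : Set G), m * a * m⁻¹ = g * a * g⁻¹ := by
  haveI : Fact (Nat.Prime 2) := ⟨Nat.prime_two⟩
  obtain ⟨hAea, -, -⟩ := AG_facts D C
  obtain ⟨S, -, hSJ⟩ := exists_sylow_thompson D C
  exact Cfsg.Agent.S5306.result 2 S (AG D C) hSJ.symm a _
    ⟨ha, fun j hj => hAea.2 j hj a ha⟩ ⟨hga, fun j hj => hAea.2 j hj _ hga⟩ g rfl

/-- The subgroup is its own centralizer. -/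
theorem cent_AG {g : G} (hg : ∀ x ∈ AG D C, g * x = x * g) : g ∈ AG D C := by
  classical
  haveI := finiteV D
  obtain ⟨-, -, hzA⟩ := AG_facts D C
  have hgH : g ∈ HH z := Subgroup.mem_centralizer_singleton_iff.2 (hg z hzA)
  set gH : ↥(HH z) := ⟨g, hgH⟩ with hgdef
  have hcomm : ∀ x ∈ AA D C, gH * x = x * gH := fun x hx => Subtype.ext (hg _ ⟨x, hx, rfl⟩)
  set e := mk z gH with hedef
  have hfix : ∀ u ∈ UU D C, op ρ e u = u := by
    intro u hu
    obtain ⟨x, hx, rfl⟩ := D.link.surj u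
    rw [hedef, ← act D gH hx, hcomm x ((mem_AA_Q D C hx).2 hu), mul_inv_cancel_right]
  have hnU : ∀ u ∈ UU D C, op ρ n u ∈ UU D C := fun u hu y hy => by
    rw [← rho_mul, D.hyp.comm_n y ((E1_le (hyp D) C).trans (T0_le (hyp D) C) hy), rho_mul, hu y hy]
  have heM : e ∈ Mb := by
    by_contra hout
    have h0 : ∀ u ∈ UU D C, u = 0 := by
      intro u hu
      have hinv : e * n = n⁻¹ * e := mul_inv_eq_iff_eq_mul.1 (D.invert e hout)
      have h1 : op ρ e (op ρ n u) = op ρ n⁻¹ (op ρ e u) := by rw [← rho_mul, hinv, rho_mul]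
      rw [hfix u hu, hfix _ (hnU u hu)] at h1
      have h2 : op ρ n (op ρ n u) = u := by rw [h1, ← rho_mul, mul_inv_cancel, rho_one]
      have h3 : op ρ n (op ρ n u) + op ρ n u + u = 0 := (hyp D).fx.rel u
      rw [h2, add_comm u, add_assoc, (hyp D).fx.two, add_zero] at h3
      rw [h3, map_zero] at h2
      exact h2.symm
    have h64 : Nat.card (UU D C) = 64 := card_Fix_E1 (hyp D) C
    haveI : Subsingleton (UU D C) :=
      ⟨fun a b => Subtype.ext ((h0 a a.2).trans (h0 b b.2).symm)⟩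
    rw [Nat.card_unique] at h64
    omega
  have hiso : ∀ a ∈ UU D C, ∀ b ∈ UU D C, pol q a b = 0 := sing_iso D (Fix_E1_sing (hyp D) C)
  have hd : ∀ x : ↥(HH z) ⧸ QQ z, (∀ u ∈ UU D C, op ρ x u = u) →
      ∀ v, op ρ x v + v ∈ UU D C := fun x hx v => by
    refine sing_perp D hiso (card_Fix_E1 (hyp D) C) fun u hu => ?_
    have h1 : pol q (op ρ x v) (op ρ x u) = pol q v u := by
      simp only [pol, ← map_add, (hyp D).inv]
    rw [hx u hu] at h1
    rw [(hyp D).fx.addl, h1]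
    exact (by decide : ∀ a : ZMod 2, a + a = 0) _
  let K : Subgroup (↥(HH z) ⧸ QQ z) :=
    { carrier := {x | x ∈ Mb ∧ ∀ u ∈ UU D C, op ρ x u = u}
      one_mem' := ⟨one_mem _, fun u _ => rho_one ρ u⟩
      mul_mem' := fun {a b} ha hb => ⟨mul_mem ha.1 hb.1, fun u hu => by
        rw [rho_mul, hb.2 u hu, ha.2 u hu]⟩
      inv_mem' := fun {a} ha => ⟨inv_mem ha.1, fun u hu => by
        conv_lhs => rw [← ha.2 u hu]
        rw [← rho_mul, inv_mul_cancel, rho_one]⟩ }
  have hext : ∀ x y : ↥(HH z) ⧸ QQ z, (∀ w, op ρ x w = op ρ y w) → x = y := fun x y hxy =>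
    mul_inv_eq_one.1 ((hyp D).faith (x * y⁻¹) fun w => by
      rw [rho_mul, hxy, ← rho_mul, mul_inv_cancel, rho_one])
  have hprod : ∀ x ∈ K, ∀ y ∈ K, ∀ v, op ρ (x * y) v = op ρ x v + (op ρ y v + v) := fun x hx y hy v => by
    have e0 : op ρ y v = v + (op ρ y v + v) := by
      rw [add_comm (op ρ y v) v, ← add_assoc, D.orth.two, zero_add]
    rw [rho_mul]
    conv_lhs => rw [e0]
    rw [map_add, hx.2 _ (hd y hy.2 v)]
  have hsq : ∀ x ∈ K, x * x = 1 := fun x hx => hext _ _ fun w => by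
    rw [hprod x hx x hx, rho_one, ← add_assoc, D.orth.two, zero_add]
  have hcomm' : ∀ x ∈ K, ∀ y ∈ K, x * y = y * x := fun x hx y hy => hext _ _ fun w => by
    rw [hprod x hx y hy, hprod y hy x hx]
    abel
  have hE1K : E1 (hyp D) C ≤ K := fun x hx =>
    ⟨(E1_le (hyp D) C).trans (T0_le (hyp D) C) hx, fun u hu => hu x hx⟩
  have hKE : K = E1 (hyp D) C := (Subgroup.eq_of_le_of_card_ge hE1K
    ((card_le_sixteen (hyp D) C (show K ≤ Mb from fun x hx => (show x ∈ Mb ∧ _ from hx).1) hsq hcomm').trans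
      (card_E1 (hyp D) C).ge)).symm
  refine ⟨gH, (mem_AE D).2 ⟨hKE.le ⟨heM, hfix⟩, fun x hx => ?_⟩, rfl⟩
  exact (hcomm x ((mem_AA_Q D C hx.1).2 hx.2)).symm

end Cfsg.Agent.J4Thompson85
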