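import Mathlib
import Cfsg.Agent.Lib.FischerFrameSetting18

/-!
Fixed spaces of elements of a group acting on a twelve-dimensional orthogonal space in which an element
of order three without fixed vectors is normal: the fixed space and the moved space of an involution,
and bounds for groups that are trivial on the fixed space of an involution.
-/

set_option autoImplicit false
set_option linter.style.haveILetI false
set_option linter.unusedSectionVars false
set_option maxHeartbeats 800000

namespace Cfsg.Agent.JFourLinear67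

open Cfsg.Agent.LargeExtraspecial Cfsg.Agent.FischerFrame18

universe u

variable {X : Type u} [Group X] [Finite X] {V : Type u} [AddCommGroup V]

/-- The hypotheses on the quotient and its module. -/
structure Mod (ρ : X →* AddMonoid.End V) (q : V → ZMod 2) (n : X) (Mb : Subgroup X) : Prop where
  orth : OrthMod ρ q
  rel : ∀ v, op ρ n (op ρ n v) + op ρ n v + v = 0
  order_n : orderOf n = 3
  comm : ∀ m ∈ Mb, m * n = n * m
  invert : ∀ g, g ∉ Mb → g * n * g⁻¹ = n⁻¹
  index_two : Mb.index = 2
  invol_fix : ∀ t ∈ Mb, t * t = 1 → t ≠ 1 → Nat.card {v : V // op ρ t v = v} = 256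
  three_fix : ∀ g : X, orderOf g = 3 → Nat.card {v : V // op ρ g v = v} ≤ 16

variable (ρ : X →* AddMonoid.End V) (q : V → ZMod 2)

/-- The difference map. -/
def dd (g : X) : V →+ V := op ρ g + AddMonoidHom.id V

theorem dd_apply (g : X) (v : V) : dd ρ g v = op ρ g v + v := rfl

/-- The moved space. -/
def mv (g : X) : AddSubgroup V := (dd ρ g).range

/-- The fixed space. -/
def fx (g : X) : AddSubgroup V where
  carrier := {v | op ρ g v = v}
  zero_mem' := map_zero _
  add_mem' := fun {a b} (ha : _ = _) (hb : _ = _) => by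
    show op ρ g (a + b) = a + b
    rw [map_add, ha, hb]
  neg_mem' := fun {a} (ha : _ = _) => by
    show op ρ g (-a) = -a
    rw [map_neg, ha]

theorem mem_fx {g : X} {v : V} : v ∈ fx ρ g ↔ op ρ g v = v := Iff.rfl

/-- A subgroup closed under the element `n` generated by a given one. -/
def sp (n : X) (S : AddSubgroup V) : AddSubgroup V := S ⊔ S.map (op ρ n)

variable {ρ q} {n : X} {Mb : Subgroup X} (M : Mod ρ q n Mb)

theorem card_le_mul {α β γ : Type*} [Finite β] [Finite γ] {f : α → β × γ} (hf : Function.Injective f) :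
    Nat.card α ≤ Nat.card β * Nat.card γ := by
  rw [← Nat.card_prod]
  exact Nat.card_le_card_of_injective f hf

theorem card_sup_le [Finite V] (S T : AddSubgroup V) :
    Nat.card ↥(S ⊔ T) ≤ Nat.card S * Nat.card T := by
  have h : ∀ x : ↥(S ⊔ T), ∃ y : S × T, (y.1 : V) + y.2 = x := fun x => by
    obtain ⟨a, ha, b, hb, e⟩ := AddSubgroup.mem_sup.1 x.2
    exact ⟨(⟨a, ha⟩, ⟨b, hb⟩), e⟩
  choose f hf using h
  exact card_le_mul (f := f) fun x y e => Subtype.ext (by rw [← hf x, ← hf y, e])

include M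

theorem finite : Finite V := Nat.finite_of_card_ne_zero (by rw [M.orth.card]; norm_num)

theorem card_fx_eq (g : X) : Nat.card {v : V // op ρ g v = v} = Nat.card (fx ρ g) := rfl

theorem add_self (v : V) : v + v = 0 := M.orth.two v

theorem dd_eq_zero {g : X} {v : V} : dd ρ g v = 0 ↔ v ∈ fx ρ g := by
  rw [dd_apply, mem_fx]
  constructor
  · intro h
    calc op ρ g v = op ρ g v + v + v := by rw [add_assoc, add_self M, add_zero]
      _ = v := by rw [h, zero_add]
  · intro h; rw [h, add_self M]

theorem card_mv_fx (g : X) : Nat.card (mv ρ g) * Nat.card (fx ρ g) = 4096 := by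
  have hk : (dd ρ g).ker = fx ρ g := by
    ext v; rw [AddMonoidHom.mem_ker]; exact dd_eq_zero M
  rw [mv, ← hk, mul_comm, ← AddSubgroup.index_ker, AddSubgroup.card_mul_index, M.orth.card]

theorem mv_le_fx {g : X} (hg : g * g = 1) : mv ρ g ≤ fx ρ g := by
  rintro _ ⟨v, rfl⟩
  show op ρ g (op ρ g v + v) = op ρ g v + v
  rw [map_add, ← op_mul, hg, op_one, add_comm]

theorem eq_of_add {a b : V} (h : a + b = 0) : a = b := by
  calc a = a + b + b := by rw [add_assoc, add_self M, add_zero]
    _ = b := by rw [h, zero_add]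

theorem n_two (v : V) : op ρ n (op ρ n v) = op ρ n v + v :=
  eq_of_add M (by rw [← add_assoc]; exact M.rel v)

theorem self_eq (v : V) : v = op ρ n (op ρ n v) + op ρ n v :=
  (eq_of_add M (M.rel v)).symm

theorem pol_comm (u v : V) : polarQ q u v = polarQ q v u := by
  unfold polarQ
  rw [add_comm u v]; ring

theorem polar_inv (g : X) (v w : V) : polarQ q (op ρ g v) (op ρ g w) = polarQ q v w := by
  have e : ∀ x, q (op ρ g x) = q x := M.orth.inv g
  unfold polarQ
  rw [← map_add, e, e, e]

theorem polar_addr (u v w : V) : polarQ q u (v + w) = polarQ q u v + polarQ q u w := by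
  rw [pol_comm M, M.orth.addl, pol_comm M v, pol_comm M w]

theorem polar_mv_fx {g : X} {y w : V} (hy : y ∈ mv ρ g) (hw : w ∈ fx ρ g) : polarQ q y w = 0 := by
  obtain ⟨v, rfl⟩ := hy
  rw [dd_apply, M.orth.addl]
  nth_rw 1 [← (mem_fx (ρ := ρ)).1 hw]
  rw [polar_inv M]
  exact CharTwo.add_self_eq_zero _

/-- The orthogonal space of a set. -/
def perp (S : Set V) : AddSubgroup V where
  carrier := {v | ∀ w ∈ S, polarQ q v w = 0}
  zero_mem' := fun w _ => by
    have e := M.orth.addl 0 0 w
    rw [add_zero, left_eq_add] at e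
    exact e
  add_mem' := fun {a b} ha hb w hw => by rw [M.orth.addl, ha w hw, hb w hw, add_zero]
  neg_mem' := fun {a} ha w hw => by
    rw [show -a = a from neg_eq_of_add_eq_zero_left (add_self M a)]
    exact ha w hw

theorem mem_perp {S : Set V} {v : V} : v ∈ perp M S ↔ ∀ w ∈ S, polarQ q v w = 0 := Iff.rfl

theorem card_perp_mul_le (S : AddSubgroup V) :
    Nat.card (perp M (S : Set V)) * Nat.card S ≤ 4096 := by
  haveI := finite M
  set P := perp M (S : Set V)
  have two : ∀ a : V ⧸ P, a + a = 0 := fun a => by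
    induction a using QuotientAddGroup.induction_on with
    | _ v => rw [← QuotientAddGroup.mk_add, add_self M]; rfl
  let r : S → (V ⧸ P →+ ZMod 2) := fun w => QuotientAddGroup.lift P
    { toFun := fun v => polarQ q v w
      map_zero' := (zero_mem P : (0 : V) ∈ P) w w.2
      map_add' := fun a b => M.orth.addl a b w }
    (fun v hv => hv w w.2)
  have hr : Function.Injective r := by
    intro a b e
    have h : ∀ v, polarQ q v a = polarQ q v b := fun v => DFunLike.congr_fun e (v : V ⧸ P)
    have h0 : (a : V) + b = 0 := M.orth.nondeg _ fun w => by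
      rw [pol_comm M, polar_addr M, h, CharTwo.add_self_eq_zero]
    exact Subtype.ext (by
      calc (a : V) = a + b + b := by rw [add_assoc, add_self M, add_zero]
        _ = b := by rw [h0, zero_add])
  haveI : Finite (V ⧸ P →+ ZMod 2) := Finite.of_injective _ DFunLike.coe_injective
  have h1 := Nat.card_le_card_of_injective r hr
  rw [card_dual _ two] at h1
  have h2 := AddSubgroup.card_mul_index P
  rw [M.orth.card, AddSubgroup.index] at h2
  calc Nat.card P * Nat.card S ≤ Nat.card P * Nat.card (V ⧸ P) := Nat.mul_le_mul_left _ h1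
    _ = 4096 := h2

theorem perp_fx (g : X) : perp M (fx ρ g : Set V) = mv ρ g := by
  haveI := finite M
  refine (AddSubgroup.eq_of_le_of_card_ge (fun y hy => (mem_perp M).2 fun w hw => polar_mv_fx M hy hw) ?_).symm
  have h1 := card_perp_mul_le M (fx ρ g)
  rw [← card_mv_fx M g] at h1
  exact Nat.le_of_mul_le_mul_right h1 Nat.card_pos

theorem fx_eq_perp (g : X) : fx ρ g = perp M (mv ρ g : Set V) := by
  haveI := finite M
  refine AddSubgroup.eq_of_le_of_card_ge
    (fun w hw => (mem_perp M).2 fun y hy => by rw [pol_comm M]; exact polar_mv_fx M hy hw) ?_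
  have h1 := card_perp_mul_le M (mv ρ g)
  rw [← card_mv_fx M g, mul_comm (Nat.card (mv ρ g))] at h1
  exact Nat.le_of_mul_le_mul_right h1 Nat.card_pos

theorem n_cube : n * n * n = 1 := by
  have e : n ^ 3 = 1 := by rw [← M.order_n]; exact pow_orderOf_eq_one n
  rw [← e, pow_succ, pow_two]

theorem n_fixed {v : V} (h : op ρ n v = v) : v = 0 := by
  have e := M.rel v
  rw [h, h, add_self M, zero_add] at e
  exact e

theorem three_ne_inv : n⁻¹ ≠ n := by
  intro e
  have h : n * n = 1 := by nth_rw 1 [← e]; exact inv_mul_cancel n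
  have h3 := n_cube M
  rw [h, one_mul] at h3
  have := M.order_n
  rw [h3, orderOf_one] at this
  norm_num at this

theorem mem_of_comm {g : X} (h : g * n = n * g) : g ∈ Mb := by
  by_contra hg
  have e := M.invert g hg
  rw [h, mul_inv_cancel_right] at e
  exact three_ne_inv M e.symm

theorem n_mem : n ∈ Mb := mem_of_comm M rfl

theorem fx_stable {g : X} (hg : g ∈ Mb) {v : V} (hv : v ∈ fx ρ g) : op ρ n v ∈ fx ρ g := by
  show op ρ g (op ρ n v) = op ρ n v
  rw [op_comm (M.comm g hg), hv]

theorem sp_le_fx {g : X} (hg : g ∈ Mb) {S : AddSubgroup V} (h : S ≤ fx ρ g) :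
    sp ρ n S ≤ fx ρ g := by
  refine sup_le h ?_
  rintro _ ⟨v, hv, rfl⟩
  exact fx_stable M hg (h hv)

theorem card_inner {t : X} (ht : t ∈ Mb) (h2 : t * t = 1) (h1 : t ≠ 1) :
    Nat.card (fx ρ t) = 256 ∧ Nat.card (mv ρ t) = 16 := by
  have e : Nat.card (fx ρ t) = 256 := (card_fx_eq M t).symm.trans (M.invol_fix t ht h2 h1)
  have h := card_mv_fx M t
  rw [e] at h
  exact ⟨e, by omega⟩

theorem outer_op {t : X} (ht : t ∉ Mb) (v : V) :
    op ρ t (op ρ n v) = op ρ n (op ρ n (op ρ t v)) := by
  have e := M.invert t ht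
  rw [mul_inv_eq_iff_eq_mul, show n⁻¹ = n * n from inv_eq_of_mul_eq_one_left (n_cube M)] at e
  rw [← op_mul, e, op_mul, op_mul]

theorem fx_n_outer {t : X} (ht : t ∉ Mb) {w : V} (hw : w ∈ fx ρ t)
    (hnw : op ρ n w ∈ fx ρ t) : w = 0 := by
  have e := outer_op M ht w
  rw [hw, hnw] at e
  have h := op_inj n e
  exact n_fixed M h.symm

theorem outer_mv {t : X} (ht : t ∉ Mb) (h2 : t * t = 1) :
    mv ρ t = fx ρ t ∧ Nat.card (fx ρ t) = 64 := by
  haveI := finite M
  have hle : fx ρ t ≤ mv ρ t := fun v hv => by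
    refine ⟨op ρ n v, ?_⟩
    rw [dd_apply, outer_op M ht, (hv : op ρ t v = v)]
    calc op ρ n (op ρ n v) + op ρ n v = op ρ n (op ρ n v) + op ρ n v + v + v := by
          rw [add_assoc, add_self M, add_zero]
      _ = v := by rw [M.rel, zero_add]
  have e := le_antisymm (mv_le_fx M h2) hle
  refine ⟨e, ?_⟩
  have h := card_mv_fx M t
  rw [e] at h
  nlinarith

theorem outer_span {t : X} (ht : t ∉ Mb) (h2 : t * t = 1) : sp ρ n (fx ρ t) = ⊤ := by
  rw [eq_top_iff]
  intro v _
  set w1 := dd ρ t v with hw1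
  set w2 := dd ρ t (op ρ n v) with hw2
  have m1 : w1 ∈ fx ρ t := mv_le_fx M h2 ⟨v, rfl⟩
  have m2 : w2 ∈ fx ρ t := mv_le_fx M h2 ⟨_, rfl⟩
  have key : v = w2 + op ρ n (op ρ n w1) := by
    rw [hw1, hw2, dd_apply, dd_apply, outer_op M ht, map_add, map_add]
    have h0 := add_self M (op ρ n (op ρ n (op ρ t v)))
    calc v = op ρ n (op ρ n v) + op ρ n v := self_eq M v
      _ = (op ρ n (op ρ n (op ρ t v)) + op ρ n (op ρ n (op ρ t v))) +
            (op ρ n (op ρ n v) + op ρ n v) := by rw [h0, zero_add]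
      _ = _ := by abel
  have e2 : op ρ n (op ρ n w1) = w1 + op ρ n w1 := by rw [n_two M, add_comm]
  rw [key, e2, ← add_assoc]
  exact AddSubgroup.mem_sup.2 ⟨_, add_mem m2 m1, _, ⟨w1, m1, rfl⟩, rfl⟩

theorem card_sp_le (S : AddSubgroup V) : Nat.card (sp ρ n S) ≤ Nat.card S * Nat.card S := by
  haveI := finite M
  refine (card_sup_le _ _).trans (Nat.mul_le_mul_left _ (le_of_eq ?_))
  exact AddSubgroup.card_map_of_injective (op_inj n)

/-- A covered space closed under `n` is the whole space. -/
theorem cover_eq {S W : AddSubgroup V} (hS : S ≤ W) (hW : ∀ w ∈ W, op ρ n w ∈ W)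
    (hn : ∀ w ∈ S, op ρ n w ∈ S) {c : V} (hc : c ∈ W)
    (hcov : ∀ w ∈ W, w ∈ S ∨ w + c ∈ S) : S = W := by
  refine le_antisymm hS fun w hw => ?_
  suffices hcS : c ∈ S by
    rcases hcov w hw with h | h
    · exact h
    · rw [show w = w + c + c by rw [add_assoc, add_self M, add_zero]]
      exact add_mem h hcS
  by_contra hcS
  rcases hcov _ (hW c hc) with h | h
  · have h2 := hn _ h
    have e : c = op ρ n (op ρ n c) + op ρ n c := self_eq M c
    exact hcS (e ▸ add_mem h2 h)
  · have h2 := hn _ h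
    rw [map_add] at h2
    have e : c = op ρ n (op ρ n c) + op ρ n c := self_eq M c
    exact hcS (e ▸ h2)

/-- A space fixed by an inner element and covering the fixed space of an inner involution. -/
theorem fixes_of_cover {g t : X} (hg : g ∈ Mb) (ht : t ∈ Mb) {S : AddSubgroup V}
    (hS : S ≤ fx ρ t) (hSg : S ≤ fx ρ g) {c : V} (hc : c ∈ fx ρ t)
    (hcov : ∀ w ∈ fx ρ t, w ∈ S ∨ w + c ∈ S) : fx ρ t ≤ fx ρ g := by
  have e : fx ρ t ⊓ fx ρ g = fx ρ t := cover_eq M inf_le_left (fun w hw => fx_stable M ht hw)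
    (fun w hw => ⟨fx_stable M ht hw.1, fx_stable M hg hw.2⟩) hc fun w hw => by
      rcases hcov w hw with h | h
      · exact Or.inl ⟨hS h, hSg h⟩
      · exact Or.inr ⟨hS h, hSg h⟩
  exact e ▸ inf_le_right

/-- A subgroup of the inner group trivial on the fixed space of an inner involution. -/
theorem card_trivial {t : X} (ht : t ∈ Mb) (h2 : t * t = 1) (h1 : t ≠ 1) (B : Subgroup X)
    (hB : B ≤ Mb) (hfix : ∀ b ∈ B, fx ρ t ≤ fx ρ b) : Nat.card B ≤ 16 := by
  classical
  haveI := finite M
  obtain ⟨hcf, hcm⟩ := card_inner M ht h2 h1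
  obtain ⟨y, hy⟩ : ∃ y, y ∉ fx ρ t := by
    by_contra hcon
    push Not at hcon
    have e : fx ρ t = ⊤ := eq_top_iff.2 fun v _ => hcon v
    rw [e, AddSubgroup.card_top, M.orth.card] at hcf
    norm_num at hcf
  have hin : ∀ b ∈ B, ∀ v, op ρ b v + v ∈ mv ρ t := by
    intro b hb v
    rw [← perp_fx M]
    intro w hw
    rw [M.orth.addl]
    nth_rw 1 [← (hfix b hb hw : op ρ b w = w)]
    rw [polar_inv M]
    exact CharTwo.add_self_eq_zero _
  let f : B → mv ρ t := fun b => ⟨op ρ (b : X) y + y, hin b b.2 y⟩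
  have hf : Function.Injective f := by
    intro a b e
    have e' : op ρ (a : X) y = op ρ (b : X) y := add_right_cancel (congrArg Subtype.val e)
    set c : X := (a : X)⁻¹ * b with hc
    have hcB : c ∈ B := mul_mem (inv_mem a.2) b.2
    have hcy : op ρ c y = y := by rw [hc, op_mul, ← e', op_inv_self]
    by_contra hne
    have hc1 : c ≠ 1 := fun h => hne (Subtype.ext (inv_mul_eq_one.1 h))
    have hcc : c * c = 1 := M.orth.faith _ fun v => by
      show op ρ (c * c) v = v
      have hi : op ρ c v + v ∈ fx ρ c := hfix c hcB (mv_le_fx M h2 (hin c hcB v))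
      rw [mem_fx, map_add] at hi
      rw [op_mul]
      exact add_right_cancel (hi.trans (add_comm _ _))
    have hle := hfix c hcB
    have heq : fx ρ t = fx ρ c := AddSubgroup.eq_of_le_of_card_ge hle
      (by rw [hcf, (card_inner M (hB hcB) hcc hc1).1])
    exact hy (heq ▸ (hcy : y ∈ fx ρ c))
  exact hcm ▸ Nat.card_le_card_of_injective f hf

/-- An inner element moving the fixed space of an outer involution into a small space. -/
theorem card_fx_outer {g t : X} (hg : g ∈ Mb) (ht : t ∉ Mb) (h2 : t * t = 1) {K : AddSubgroup V}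
    (hK : ∀ w ∈ fx ρ t, op ρ g w + w ∈ K) : Nat.card (mv ρ g) ≤ Nat.card K * Nat.card K := by
  haveI := finite M
  refine le_trans ?_ (card_sp_le M K)
  refine Nat.card_le_card_of_injective (AddSubgroup.inclusion (?_ : mv ρ g ≤ sp ρ n K))
    (AddSubgroup.inclusion_injective _)
  rintro _ ⟨v, rfl⟩
  have hv : v ∈ sp ρ n (fx ρ t) := by rw [outer_span M ht h2]; exact AddSubgroup.mem_top v
  obtain ⟨a, ha, _, ⟨b, hb, rfl⟩, rfl⟩ := AddSubgroup.mem_sup.1 hv
  rw [map_add]
  refine add_mem (AddSubgroup.mem_sup_left (hK a ha)) (AddSubgroup.mem_sup_right ⟨_, hK b hb, ?_⟩)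
  rw [dd_apply, map_add, op_comm (M.comm g hg)]

end Cfsg.Agent.JFourLinear67
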