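import Mathlib
import Cfsg.Agent.Lib.JFourLinear67

/-!
An involution `z` with extraspecial `E` in its centraliser that is weakly closed in `E`, and a conjugate
`u = g z g⁻¹` commuting with it: the part of `E` centralised by `u`, its intersection with the conjugate
of `E`, and its action on the module through the second centraliser.
-/

set_option autoImplicit false
set_option linter.style.haveILetI false
set_option linter.unusedSectionVars false
set_option maxHeartbeats 800000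

namespace Cfsg.Agent.JFourPair67

open Cfsg.Agent.LargeExtraspecial Cfsg.Agent.FischerFrame18 Cfsg.Agent.JFourLinear67

universe u

attribute [local instance] Classical.propDecidable

variable {G : Type u} [Group G] [Finite G] {X : Type u} [Group X] [Finite X]
  {V : Type u} [AddCommGroup V]

/-- The centraliser of `z` seen through its quotient and module, with `z` weakly closed in `E`. -/
structure Sit (z : G) (E : Subgroup G) (π : G → V) (β : G → X) (ρ : X →* AddMonoid.End V)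
    (q : V → ZMod 2) (n : X) (Mb : Subgroup X) : Prop where
  mo : Mod ρ q n Mb
  zz : z * z = 1
  z_ne : z ≠ 1
  z_mem : z ∈ E
  cen : ∀ e ∈ E, e * z = z * e
  two : IsPGroup 2 E
  conjE : ∀ h, h * z = z * h → ∀ e ∈ E, h * e * h⁻¹ ∈ E
  add : ∀ x ∈ E, ∀ y ∈ E, π (x * y) = π x + π y
  ker : ∀ x ∈ E, π x = 0 ↔ x = 1 ∨ x = z
  surj : ∀ v, ∃ x ∈ E, π x = v
  equiv : ∀ h, h * z = z * h → ∀ x ∈ E, π (h * x * h⁻¹) = op ρ (β h) (π x)
  qval : ∀ x ∈ E, q (π x) = if x * x = 1 then 0 else 1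
  polar : ∀ x ∈ E, ∀ y ∈ E, polarQ q (π x) (π y) = if x * y = y * x then 0 else 1
  bmul : ∀ a b, a * z = z * a → b * z = z * b → β (a * b) = β a * β b
  bker : ∀ a, a * z = z * a → (β a = 1 ↔ a ∈ E)
  bsurj : ∀ x, ∃ a, a * z = z * a ∧ β a = x
  weak : ∀ g, g * z * g⁻¹ ∈ E → g * z * g⁻¹ = z

/-- The conjugate commutes with `z` and differs from it. -/
structure Par (z g : G) : Prop where
  comm : g * z * g⁻¹ * z = z * (g * z * g⁻¹)
  ne : g * z * g⁻¹ ≠ z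

theorem Par.inv {z g : G} (h : Par z g) : Par z g⁻¹ := by
  have h1 := congrArg (fun x => g⁻¹ * x * g) h.comm
  refine ⟨?_, fun e => h.ne ?_⟩
  · rw [inv_inv]
    calc g⁻¹ * z * g * z = g⁻¹ * (z * (g * z * g⁻¹)) * g := by group
      _ = g⁻¹ * (g * z * g⁻¹ * z) * g := h1.symm
      _ = z * (g⁻¹ * z * g) := by group
  · rw [inv_inv] at e
    nth_rw 1 [← e]
    group

/-- The part of `E` centralised by the conjugate. -/
def cA (z : G) (E : Subgroup G) (g : G) : Subgroup G :=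
  E ⊓ Subgroup.centralizer ({g * z * g⁻¹} : Set G)

/-- The intersection of `E` with its conjugate. -/
def cK (E : Subgroup G) (g : G) : Subgroup G := E ⊓ E.map (MulAut.conj g).toMonoidHom

theorem mem_map_conj {E : Subgroup G} {g x : G} :
    x ∈ E.map (MulAut.conj g).toMonoidHom ↔ g⁻¹ * x * g ∈ E := by
  constructor
  · rintro ⟨e, he, rfl⟩
    simpa [mul_assoc] using he
  · intro h
    exact ⟨_, h, by simp [mul_assoc]⟩

theorem mem_cK {E : Subgroup G} {g x : G} : x ∈ cK E g ↔ x ∈ E ∧ g⁻¹ * x * g ∈ E := by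
  rw [cK, Subgroup.mem_inf, mem_map_conj]

theorem mem_cA {z : G} {E : Subgroup G} {g x : G} :
    x ∈ cA z E g ↔ x ∈ E ∧ x * (g * z * g⁻¹) = (g * z * g⁻¹) * x := by
  rw [cA, Subgroup.mem_inf, Subgroup.mem_centralizer_singleton_iff]

theorem card_cK_inv (E : Subgroup G) (g : G) : Nat.card (cK E g⁻¹) = Nat.card (cK E g) := by
  refine Nat.card_congr
    { toFun := fun x => ⟨g * x.1 * g⁻¹, ?_⟩
      invFun := fun x => ⟨g⁻¹ * x.1 * g, ?_⟩
      left_inv := fun x => Subtype.ext ?_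
      right_inv := fun x => Subtype.ext ?_ }
  · obtain ⟨h1, h2⟩ := mem_cK.1 x.2
    rw [inv_inv] at h2
    refine mem_cK.2 ⟨h2, ?_⟩
    simpa [mul_assoc] using h1
  · obtain ⟨h1, h2⟩ := mem_cK.1 x.2
    refine mem_cK.2 ⟨h2, ?_⟩
    simpa [mul_assoc] using h1
  · simp [mul_assoc]
  · simp [mul_assoc]

variable {z : G} {E : Subgroup G} {π : G → V} {β : G → X} {ρ : X →* AddMonoid.End V}
  {q : V → ZMod 2} {n : X} {Mb : Subgroup X} (S : Sit z E π β ρ q n Mb)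
include S

/-- The image of a subgroup of `E` in the module. -/
def piS (B : Subgroup G) (hB : B ≤ E) : AddSubgroup V where
  carrier := {v | ∃ b ∈ B, π b = v}
  zero_mem' := ⟨1, one_mem B, (S.ker 1 (one_mem E)).2 (Or.inl rfl)⟩
  add_mem' := fun {x y} ⟨a, ha, e1⟩ ⟨b, hb, e2⟩ =>
    ⟨a * b, mul_mem ha hb, by rw [S.add a (hB ha) b (hB hb), e1, e2]⟩
  neg_mem' := fun {x} h => by
    obtain ⟨a, ha, rfl⟩ := h
    exact ⟨a, ha, (neg_eq_of_add_eq_zero_left (S.mo.orth.two (π a))).symm⟩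

theorem pi_one : π 1 = 0 := (S.ker 1 (one_mem E)).2 (Or.inl rfl)

theorem pi_z : π z = 0 := (S.ker z S.z_mem).2 (Or.inr rfl)

theorem pi_inv {x : G} (hx : x ∈ E) : π x⁻¹ = π x := by
  refine eq_of_add S.mo ?_
  rw [← S.add _ (inv_mem hx) _ hx, inv_mul_cancel, pi_one S]

theorem pi_eq {x y : G} (hx : x ∈ E) (hy : y ∈ E) (h : π x = π y) : x = y ∨ x = z * y := by
  rcases (S.ker _ (mul_mem hx (inv_mem hy))).1
    (by rw [S.add _ hx _ (inv_mem hy), pi_inv S hy, h, add_self S.mo]) with e | e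
  · exact Or.inl (mul_inv_eq_one.1 e)
  · exact Or.inr (mul_inv_eq_iff_eq_mul.1 e)

theorem z_inv : z⁻¹ = z := inv_eq_of_mul_eq_one_right S.zz

theorem b_one : β 1 = 1 := (S.bker 1 (by simp)).2 (one_mem E)

theorem b_inv {a : G} (ha : a * z = z * a) : β a⁻¹ = (β a)⁻¹ := by
  refine eq_inv_of_mul_eq_one_left ?_
  rw [← S.bmul _ _ (Commute.inv_left ha) ha, inv_mul_cancel, b_one S]

theorem b_conj {h a : G} (hh : h * z = z * h) (ha : a * z = z * a) :
    β (h * a * h⁻¹) = β h * β a * (β h)⁻¹ := by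
  rw [S.bmul _ _ (Commute.mul_left hh ha) (Commute.inv_left hh), S.bmul _ _ hh ha, b_inv S hh]

variable {g : G} (hg : Par z g)
include hg

theorem u_sq : g * z * g⁻¹ * (g * z * g⁻¹) = 1 := by
  calc g * z * g⁻¹ * (g * z * g⁻¹) = g * (z * z) * g⁻¹ := by group
    _ = 1 := by rw [S.zz]; group

theorem u_inv : (g * z * g⁻¹)⁻¹ = g * z * g⁻¹ := inv_eq_of_mul_eq_one_right (u_sq S hg)

theorem u_notin : g * z * g⁻¹ ∉ E := fun h => hg.ne (S.weak g h)

theorem bu_ne : β (g * z * g⁻¹) ≠ 1 := fun h => u_notin S hg ((S.bker _ hg.comm).1 h)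

theorem bu_sq : β (g * z * g⁻¹) * β (g * z * g⁻¹) = 1 := by
  rw [← S.bmul _ _ hg.comm hg.comm, u_sq S hg, b_one S]

theorem pi_moved {e : G} (he : e ∈ E) :
    π (e * (g * z * g⁻¹) * e⁻¹ * (g * z * g⁻¹)⁻¹) = π e + op ρ (β (g * z * g⁻¹)) (π e) := by
  have h2 := S.conjE _ hg.comm _ (inv_mem he)
  rw [show e * (g * z * g⁻¹) * e⁻¹ * (g * z * g⁻¹)⁻¹ =
    e * (g * z * g⁻¹ * e⁻¹ * (g * z * g⁻¹)⁻¹) by group, S.add _ he _ h2,
    S.equiv _ hg.comm _ (inv_mem he), pi_inv S he]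

theorem cA_fx : piS S (cA z E g) inf_le_left ≤ fx ρ (β (g * z * g⁻¹)) := by
  rintro _ ⟨a, ha, rfl⟩
  obtain ⟨haE, hau⟩ := mem_cA.1 ha
  rw [mem_fx, ← S.equiv _ hg.comm _ haE, ← hau, mul_inv_cancel_right]

theorem fixed_conj {c : G} (hc : c ∈ E) (hf : π c ∈ fx ρ (β (g * z * g⁻¹))) :
    c ∈ cA z E g ∨ c * (g * z * g⁻¹) * c⁻¹ = z * (g * z * g⁻¹) := by
  rcases (S.ker (c * (g * z * g⁻¹) * c⁻¹ * (g * z * g⁻¹)⁻¹)
      (by
        rw [show c * (g * z * g⁻¹) * c⁻¹ * (g * z * g⁻¹)⁻¹ =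
          c * (g * z * g⁻¹ * c⁻¹ * (g * z * g⁻¹)⁻¹) by group]
        exact mul_mem hc (S.conjE _ hg.comm _ (inv_mem hc)))).1
      (by rw [pi_moved S hg hc, (mem_fx (ρ := ρ)).1 hf, add_self S.mo]) with e | e
  · refine Or.inl (mem_cA.2 ⟨hc, ?_⟩)
    exact mul_inv_eq_iff_eq_mul.1 (mul_inv_eq_one.1 e)
  · exact Or.inr (mul_inv_eq_iff_eq_mul.1 e)

theorem cover_or : (∃ c ∈ E, π c ∈ fx ρ (β (g * z * g⁻¹)) ∧
      c * (g * z * g⁻¹) * c⁻¹ = z * (g * z * g⁻¹)) ∨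
    piS S (cA z E g) inf_le_left = fx ρ (β (g * z * g⁻¹)) := by
  by_cases h : ∃ c ∈ E, π c ∈ fx ρ (β (g * z * g⁻¹)) ∧
      c * (g * z * g⁻¹) * c⁻¹ = z * (g * z * g⁻¹)
  · exact Or.inl h
  · refine Or.inr (le_antisymm (cA_fx S hg) fun w hw => ?_)
    obtain ⟨e, he, rfl⟩ := S.surj w
    rcases fixed_conj S hg he hw with h' | h'
    · exact ⟨e, h', rfl⟩
    · exact absurd ⟨e, he, hw, h'⟩ h

theorem cover {c : G} (hc : c ∈ E)
    (hcz : c * (g * z * g⁻¹) * c⁻¹ = z * (g * z * g⁻¹)) {w : V}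
    (hw : w ∈ fx ρ (β (g * z * g⁻¹))) :
    w ∈ piS S (cA z E g) inf_le_left ∨ w + π c ∈ piS S (cA z E g) inf_le_left := by
  obtain ⟨e, he, rfl⟩ := S.surj w
  rcases fixed_conj S hg he hw with h' | h'
  · exact Or.inl ⟨e, h', rfl⟩
  · refine Or.inr ⟨e * c, mem_cA.2 ⟨mul_mem he hc, ?_⟩, S.add _ he _ hc⟩
    rw [← mul_inv_eq_iff_eq_mul]
    calc e * c * (g * z * g⁻¹) * (e * c)⁻¹ = e * (c * (g * z * g⁻¹) * c⁻¹) * e⁻¹ := by group
      _ = e * z * ((g * z * g⁻¹) * e⁻¹) := by rw [hcz]; group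
      _ = z * (e * (g * z * g⁻¹) * e⁻¹) := by rw [S.cen e he]; group
      _ = g * z * g⁻¹ := by rw [h', ← mul_assoc, S.zz, one_mul]

theorem z_cA : z ∈ cA z E g := mem_cA.2 ⟨S.z_mem, hg.comm.symm⟩

theorem card_cA : Nat.card (cA z E g) = 2 * Nat.card (piS S (cA z E g) inf_le_left) := by
  classical
  let f : cA z E g →* Multiplicative (piS S (cA z E g) inf_le_left) :=
    MonoidHom.mk' (fun a => Multiplicative.ofAdd ⟨π a, a, a.2, rfl⟩) fun a b =>
      Multiplicative.toAdd.injective (Subtype.ext (S.add _ (mem_cA.1 a.2).1 _ (mem_cA.1 b.2).1))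
  have hmem : ∀ a : cA z E g, a ∈ f.ker ↔ π a = 0 := fun a => by
    show (Multiplicative.ofAdd (⟨π a, a, a.2, rfl⟩ : piS S (cA z E g) inf_le_left) = 1) ↔ _
    rw [ofAdd_eq_one]
    exact Subtype.ext_iff
  have hk : Nat.card f.ker = 2 := by
    rw [Nat.card_eq_two_iff' (1 : f.ker)]
    refine ⟨⟨⟨z, z_cA S hg⟩, (hmem _).2 (pi_z S)⟩,
      fun e => S.z_ne (congrArg (fun a : f.ker => ((a.1 : cA z E g) : G)) e), fun y hy => ?_⟩
    rcases (S.ker (y.1 : G) (mem_cA.1 y.1.2).1).1 ((hmem _).1 y.2) with e | e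
    · exact absurd (Subtype.ext (Subtype.ext e)) hy
    · exact Subtype.ext (Subtype.ext e)
  have hs : Function.Surjective f := fun w => by
    obtain ⟨a, ha, e⟩ := (Multiplicative.toAdd w).2
    exact ⟨⟨a, ha⟩, Multiplicative.toAdd.injective (Subtype.ext e)⟩
  have h := Subgroup.card_mul_index f.ker
  rw [hk, Subgroup.index_ker, MonoidHom.range_eq_top.2 hs, Subgroup.card_top] at h
  exact h.symm

theorem cK_le : cK E g ≤ cA z E g := by
  intro x hx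
  obtain ⟨h1, h2⟩ := mem_cK.1 hx
  refine mem_cA.2 ⟨h1, ?_⟩
  calc x * (g * z * g⁻¹) = g * ((g⁻¹ * x * g) * z) * g⁻¹ := by group
    _ = g * (z * (g⁻¹ * x * g)) * g⁻¹ := by rw [S.cen _ h2]
    _ = g * z * g⁻¹ * x := by group

theorem z_notK : z ∉ cK E g := fun h => by
  have := S.weak g⁻¹ (by rw [inv_inv]; exact (mem_cK.1 h).2)
  exact hg.inv.ne this

theorem K_inj {a b : G} (ha : a ∈ cK E g) (hb : b ∈ cK E g) (h : π a = π b) : a = b := by
  rcases pi_eq S (mem_cK.1 ha).1 (mem_cK.1 hb).1 h with e | e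
  · exact e
  · exfalso
    refine z_notK S hg ?_
    rw [show z = a * b⁻¹ by rw [e, mul_inv_cancel_right]]
    exact mul_mem ha (inv_mem hb)

theorem card_piK : Nat.card (piS S (cK E g) inf_le_left) = Nat.card (cK E g) :=
  (Nat.card_eq_of_bijective
    (fun a : cK E g => (⟨π a, a, a.2, rfl⟩ : piS S (cK E g) inf_le_left))
    ⟨fun a b e => Subtype.ext (K_inj S hg a.2 b.2 (congrArg Subtype.val e)),
      fun w => by obtain ⟨a, ha, e⟩ := w.2; exact ⟨⟨a, ha⟩, Subtype.ext e⟩⟩).symm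

theorem K_comm {a b : G} (ha : a ∈ cA z E g) (hb : b ∈ cK E g) : a * b = b * a := by
  have hc : π (a * b) = π (b * a) := by
    rw [S.add _ (mem_cA.1 ha).1 _ (mem_cK.1 hb).1, S.add _ (mem_cK.1 hb).1 _ (mem_cA.1 ha).1,
      add_comm]
  obtain ⟨haE, hau⟩ := mem_cA.1 ha
  obtain ⟨hbE, hbg⟩ := mem_cK.1 hb
  rcases pi_eq S (mul_mem haE hbE) (mul_mem hbE haE) hc with e | e
  · exact e
  · exfalso
    refine z_notK S hg ?_
    have hza : g⁻¹ * a * g * z = z * (g⁻¹ * a * g) := by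
      calc g⁻¹ * a * g * z = g⁻¹ * (a * (g * z * g⁻¹)) * g := by group
        _ = g⁻¹ * (g * z * g⁻¹ * a) * g := by rw [hau]
        _ = z * (g⁻¹ * a * g) := by group
    have hz : z = a * b * a⁻¹ * b⁻¹ := by rw [e]; group
    refine mem_cK.2 ⟨S.z_mem, ?_⟩
    rw [hz, show g⁻¹ * (a * b * a⁻¹ * b⁻¹) * g =
      (g⁻¹ * a * g) * (g⁻¹ * b * g) * (g⁻¹ * a * g)⁻¹ * (g⁻¹ * b * g)⁻¹ by group]
    exact mul_mem (S.conjE _ hza _ hbg) (inv_mem hbg)

theorem move_eq {k e : G} (hk : k ∈ cK E g) (hk1 : k ≠ 1) (he : e ∈ E)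
    (h : π e + op ρ (β (g * z * g⁻¹)) (π e) = π k) :
    e * (g * z * g⁻¹) * e⁻¹ = z * k * (g * z * g⁻¹) := by
  have hcE : e * (g * z * g⁻¹) * e⁻¹ * (g * z * g⁻¹)⁻¹ ∈ E := by
    rw [show e * (g * z * g⁻¹) * e⁻¹ * (g * z * g⁻¹)⁻¹ =
      e * (g * z * g⁻¹ * e⁻¹ * (g * z * g⁻¹)⁻¹) by group]
    exact mul_mem he (S.conjE _ hg.comm _ (inv_mem he))
  rcases pi_eq S hcE (mem_cK.1 hk).1 (by rw [pi_moved S hg he]; exact h) with c | c
  · exfalso
    have e1 : e * (g * z * g⁻¹) * e⁻¹ = k * (g * z * g⁻¹) := mul_inv_eq_iff_eq_mul.1 c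
    have hw : (g⁻¹ * e * g) * z * (g⁻¹ * e * g)⁻¹ = (g⁻¹ * k * g) * z := by
      calc (g⁻¹ * e * g) * z * (g⁻¹ * e * g)⁻¹ = g⁻¹ * (e * (g * z * g⁻¹) * e⁻¹) * g := by group
        _ = (g⁻¹ * k * g) * z := by rw [e1]; group
    have h2 := S.weak (g⁻¹ * e * g) (by rw [hw]; exact mul_mem (mem_cK.1 hk).2 S.z_mem)
    rw [hw, mul_eq_right] at h2
    exact hk1 (by
      rw [show k = g * (g⁻¹ * k * g) * g⁻¹ by group, h2]; group)
  · exact mul_inv_eq_iff_eq_mul.1 c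

theorem K_flip {c : G} (hc : c ∈ E) (hcf : π c ∈ fx ρ (β (g * z * g⁻¹)))
    (hcz : c * (g * z * g⁻¹) * c⁻¹ = z * (g * z * g⁻¹)) {k : G} (hk : k ∈ cK E g)
    (hm : π k ∈ mv ρ (β (g * z * g⁻¹))) : k = 1 := by
  by_contra hk1
  obtain ⟨v, hv⟩ := hm
  obtain ⟨e, he, rfl⟩ := S.surj v
  rw [dd_apply, add_comm] at hv
  have h1 := move_eq S hg hk hk1 he hv
  have h2 := move_eq S hg hk hk1 (mul_mem he hc) (by
    rw [S.add _ he _ hc, map_add, (mem_fx (ρ := ρ)).1 hcf]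
    calc π e + π c + (op ρ (β (g * z * g⁻¹)) (π e) + π c)
        = π e + op ρ (β (g * z * g⁻¹)) (π e) + (π c + π c) := by abel
      _ = π k := by rw [add_self S.mo, add_zero, hv])
  have h3 : e * c * (g * z * g⁻¹) * (e * c)⁻¹ = z * (e * (g * z * g⁻¹) * e⁻¹) := by
    calc e * c * (g * z * g⁻¹) * (e * c)⁻¹ = e * (c * (g * z * g⁻¹) * c⁻¹) * e⁻¹ := by group
      _ = e * z * ((g * z * g⁻¹) * e⁻¹) := by rw [hcz]; group
      _ = z * (e * (g * z * g⁻¹) * e⁻¹) := by rw [S.cen e he]; group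
  rw [h3, h1] at h2
  exact S.z_ne (mul_eq_right.1 h2)

theorem K_moved_le (h : piS S (cK E g) inf_le_left ≤ mv ρ (β (g * z * g⁻¹))) :
    Nat.card (cK E g) ≤ 4 := by
  classical
  by_contra hcard
  push Not at hcard
  have hex : ∀ l : List (cK E g), l.length ≤ 4 → ∃ k : cK E g, k ∉ l := by
    intro l hl
    by_contra hcon
    push Not at hcon
    haveI : Fintype (cK E g) := Fintype.ofFinite _
    have : Fintype.card (cK E g) ≤ l.toFinset.card :=
      Finset.card_le_card fun k _ => List.mem_toFinset.2 (hcon k)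
    have h2 := l.toFinset_card_le
    rw [Nat.card_eq_fintype_card] at hcard
    omega
  obtain ⟨k1, hk1⟩ := hex [1] (by simp)
  obtain ⟨k2, hk2⟩ := hex [1, k1] (by simp)
  obtain ⟨k3, hk3⟩ := hex [1, k1, k2, k2⁻¹ * k1] (by simp)
  simp only [List.mem_cons, List.not_mem_nil, or_false, not_or] at hk1 hk2 hk3
  obtain ⟨v, hv⟩ := h ⟨k1.1, k1.2, rfl⟩
  obtain ⟨e1, he1, rfl⟩ := S.surj v
  rw [dd_apply, add_comm] at hv
  have hne : (k1 : G) ≠ 1 := fun e => hk1 (Subtype.ext e)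
  have m1 := move_eq S hg k1.2 hne he1 hv
  have hsq : ∀ k : cK E g, (k : G) * k = 1 := by
    intro k
    obtain ⟨hkE, -⟩ := mem_cK.1 k.2
    rcases (S.ker _ (mul_mem hkE hkE)).1 (by rw [S.add _ hkE _ hkE, add_self S.mo]) with e | e
    · exact e
    · exact absurd (e ▸ mul_mem k.2 k.2) (z_notK S hg)
  have key : ∀ k : cK E g, k ≠ 1 → k ≠ k1 → e1 * (k : G) * e1⁻¹ = z * k := by
    intro k hk hkk
    obtain ⟨v, hv'⟩ := h ⟨k.1, k.2, rfl⟩
    obtain ⟨e, he, rfl⟩ := S.surj v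
    rw [dd_apply, add_comm] at hv'
    have m := move_eq S hg k.2 (fun e' => hk (Subtype.ext e')) he hv'
    have hne' : (k1 : G) * k ≠ 1 := fun e' => hkk (Subtype.ext (by
      rw [mul_eq_one_iff_eq_inv] at e'
      rw [e', inv_eq_of_mul_eq_one_right (hsq k)]))
    have m2 := move_eq S hg (mul_mem k1.2 k.2) hne' (mul_mem he1 he) (by
      rw [S.add _ he1 _ he, map_add, S.add _ (mem_cK.1 k1.2).1 _ (mem_cK.1 k.2).1, ← hv, ← hv']
      abel)
    have hl : e1 * e * (g * z * g⁻¹) * (e1 * e)⁻¹ = (e1 * k * e1⁻¹) * k1 * (g * z * g⁻¹) := by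
      calc e1 * e * (g * z * g⁻¹) * (e1 * e)⁻¹ = e1 * (e * (g * z * g⁻¹) * e⁻¹) * e1⁻¹ := by group
        _ = (e1 * z) * k * ((g * z * g⁻¹) * e1⁻¹) := by rw [m]; group
        _ = z * (e1 * k * e1⁻¹) * (e1 * (g * z * g⁻¹) * e1⁻¹) := by rw [S.cen e1 he1]; group
        _ = z * ((e1 * k * e1⁻¹) * z) * k1 * (g * z * g⁻¹) := by rw [m1]; group
        _ = (e1 * k * e1⁻¹) * k1 * (g * z * g⁻¹) := by
          rw [S.cen _ (mul_mem (mul_mem he1 (mem_cK.1 k.2).1) (inv_mem he1)), ← mul_assoc z z, S.zz,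
            one_mul]
    rw [hl, mul_right_cancel_iff, ← K_comm S hg (cK_le S hg k.2) k1.2, ← mul_assoc,
      mul_right_cancel_iff] at m2
    exact m2
  have t2 := key k2 hk2.1 hk2.2
  have t3 := key k3 hk3.1 hk3.2.1
  have t23 := key (k2 * k3)
    (fun e => hk3.2.2.1 (by
      rw [mul_eq_one_iff_eq_inv'] at e
      rw [e]
      exact Subtype.ext (inv_eq_of_mul_eq_one_right (hsq k2))))
    (fun e => hk3.2.2.2 (by rw [← e, inv_mul_cancel_left]))
  have hk2z : (k2 : G) * z = z * k2 := S.cen _ (mem_cK.1 k2.2).1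
  rw [Subgroup.coe_mul, show e1 * ((k2 : G) * k3) * e1⁻¹ = (e1 * k2 * e1⁻¹) * (e1 * k3 * e1⁻¹)
    by group, t2, t3, show z * (k2 : G) * (z * k3) = z * (k2 * z) * k3 by group, hk2z,
    ← mul_assoc z z, S.zz, one_mul] at t23
  exact S.z_ne (right_eq_mul.1 t23)

end Cfsg.Agent.JFourPair67
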