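import Mathlib
import Cfsg.Agent.Lib.JFourPair67

/-!
An involution `z` with extraspecial `E` in its centraliser that is weakly closed in `E` has no second
conjugate in its centraliser.
-/

set_option autoImplicit false
set_option linter.style.haveILetI false
set_option linter.unusedSectionVars false
set_option maxHeartbeats 1200000

namespace Cfsg.Agent.JFourCases67

open Cfsg.Agent.LargeExtraspecial Cfsg.Agent.FischerFrame18 Cfsg.Agent.JFourLinear67
  Cfsg.Agent.JFourPair67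

universe u

attribute [local instance] Classical.propDecidable

variable {G : Type u} [Group G] [Finite G] {X : Type u} [Group X] [Finite X]
  {V : Type u} [AddCommGroup V]
variable {z : G} {E : Subgroup G} {π : G → V} {β : G → X} {ρ : X →* AddMonoid.End V}
  {q : V → ZMod 2} {n : X} {Mb : Subgroup X} (S : Sit z E π β ρ q n Mb)

theorem conj_comm {g a : G} (h : a * (g * z * g⁻¹) = g * z * g⁻¹ * a) :
    g⁻¹ * a * g * z = z * (g⁻¹ * a * g) := by
  calc g⁻¹ * a * g * z = g⁻¹ * (a * (g * z * g⁻¹)) * g := by group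
    _ = g⁻¹ * (g * z * g⁻¹ * a) * g := by rw [h]
    _ = z * (g⁻¹ * a * g) := by group

theorem conj_comm' {g a : G} (h : a * (g⁻¹ * z * g⁻¹⁻¹) = g⁻¹ * z * g⁻¹⁻¹ * a) :
    g * a * g⁻¹ * z = z * (g * a * g⁻¹) := by
  have := conj_comm h
  rwa [inv_inv] at this

include S

/-- The action of the centralised part through the second centraliser. -/
noncomputable def tau (g : G) : cA z E g →* X :=
  MonoidHom.mk' (fun a => β (g⁻¹ * a * g)) fun a b => by
    rw [← S.bmul _ _ (conj_comm (mem_cA.1 a.2).2) (conj_comm (mem_cA.1 b.2).2)]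
    congr 1
    show g⁻¹ * ((a : G) * b) * g = g⁻¹ * a * g * (g⁻¹ * b * g)
    group

variable {g : G} (hg : Par z g)

theorem mem_range {t : X} : t ∈ (tau S g).range ↔ ∃ a ∈ cA z E g, β (g⁻¹ * a * g) = t :=
  ⟨fun ⟨a, e⟩ => ⟨a, a.2, e⟩, fun ⟨a, ha, e⟩ => ⟨⟨a, ha⟩, e⟩⟩

include hg

theorem card_range :
    Nat.card (cA z E g) = Nat.card (tau S g).range * Nat.card (cK E g) := by
  have hk : (tau S g).ker = (cK E g).subgroupOf (cA z E g) := by
    ext a
    rw [MonoidHom.mem_ker, Subgroup.mem_subgroupOf, mem_cK]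
    show β (g⁻¹ * a * g) = 1 ↔ _
    rw [S.bker _ (conj_comm (mem_cA.1 a.2).2)]
    exact ⟨fun h => ⟨(mem_cA.1 a.2).1, h⟩, fun h => h.2⟩
  rw [← Subgroup.index_ker, mul_comm,
    ← Nat.card_congr (Subgroup.subgroupOfEquivOfLe (cK_le S hg)).toEquiv, ← hk,
    Subgroup.card_mul_index]

theorem range_two : IsPGroup 2 (tau S g).range := by
  have h1 : IsPGroup 2 (cA z E g) := S.two.to_le inf_le_left
  exact h1.of_surjective _ (tau S g).rangeRestrict_surjective

theorem act {t : X} (ht : t ∈ (tau S g).range) {w : V}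
    (hw : w ∈ piS S (cA z E g⁻¹) inf_le_left) :
    op ρ t w + w ∈ piS S (cK E g⁻¹) inf_le_left := by
  obtain ⟨a, ha, rfl⟩ := (mem_range S).1 ht
  obtain ⟨b, hb, rfl⟩ := hw
  obtain ⟨haE, hau⟩ := mem_cA.1 ha
  obtain ⟨hbE, hbv⟩ := mem_cA.1 hb
  have h1 := conj_comm hau
  have h2 := conj_comm' hbv
  have hm := S.conjE _ h1 _ hbE
  refine ⟨g⁻¹ * a * g * b * (g⁻¹ * a * g)⁻¹ * b⁻¹, mem_cK.2 ⟨mul_mem hm (inv_mem hbE), ?_⟩, ?_⟩
  · rw [inv_inv, show g * (g⁻¹ * a * g * b * (g⁻¹ * a * g)⁻¹ * b⁻¹) * g⁻¹ =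
      a * ((g * b * g⁻¹) * a⁻¹ * (g * b * g⁻¹)⁻¹) by group]
    exact mul_mem haE (S.conjE _ h2 _ (inv_mem haE))
  · rw [S.add _ hm _ (inv_mem hbE), S.equiv _ h1 _ hbE, pi_inv S hbE]

theorem inner_part :
    Nat.card (tau S g).range ≤ 2 * Nat.card ((tau S g).range ⊓ Mb : Subgroup X) := by
  haveI : Mb.Normal := Subgroup.normal_of_index_eq_two S.mo.index_two
  set T := (tau S g).range
  have h2 : (Mb.subgroupOf T).index ≤ 2 := by
    refine Nat.le_of_dvd (by norm_num) ?_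
    have h := Subgroup.relIndex_dvd_index_of_normal Mb T
    rwa [S.mo.index_two] at h
  have h3 : Nat.card (Mb.subgroupOf T) = Nat.card (T ⊓ Mb : Subgroup X) :=
    Nat.card_congr
      { toFun := fun x => ⟨x.1, x.1.2, x.2⟩
        invFun := fun x => ⟨⟨x, x.2.1⟩, x.2.2⟩
        left_inv := fun x => rfl
        right_inv := fun x => rfl }
  have := Subgroup.card_mul_index (Mb.subgroupOf T)
  rw [← this, h3, mul_comm]
  exact Nat.mul_le_mul_right _ h2

theorem exists_inv (hcard : 1 < Nat.card ((tau S g).range ⊓ Mb : Subgroup X)) :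
    ∃ t ∈ ((tau S g).range ⊓ Mb : Subgroup X), t * t = 1 ∧ t ≠ 1 := by
  haveI : Fact (Nat.Prime 2) := ⟨Nat.prime_two⟩
  have hp : IsPGroup 2 ((tau S g).range ⊓ Mb : Subgroup X) := (range_two S hg).to_le inf_le_left
  obtain ⟨k, hk⟩ := IsPGroup.iff_card.1 hp
  have hd : 2 ∣ Nat.card ((tau S g).range ⊓ Mb : Subgroup X) := by
    rcases Nat.eq_zero_or_pos k with rfl | hk0
    · rw [hk, pow_zero] at hcard; omega
    · exact hk ▸ dvd_pow_self 2 hk0.ne'
  obtain ⟨t, ht⟩ := exists_prime_orderOf_dvd_card' 2 hd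
  refine ⟨t, t.2, ?_, fun e => ?_⟩
  · have := pow_orderOf_eq_one t
    rw [ht, pow_two] at this
    exact congrArg Subtype.val this
  · have : t = 1 := Subtype.ext e
    rw [this, orderOf_one] at ht
    norm_num at ht

theorem cA_sq (hu : β (g * z * g⁻¹) ∉ Mb) {a : G} (ha : a ∈ cA z E g) : a * a = 1 := by
  obtain ⟨haE, hau⟩ := mem_cA.1 ha
  have hf : π a ∈ fx ρ (β (g * z * g⁻¹)) := cA_fx S hg ⟨a, ha, rfl⟩
  rw [← (outer_mv S.mo hu (bu_sq S hg)).1] at hf
  obtain ⟨v, hv⟩ := hf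
  obtain ⟨e, he, rfl⟩ := S.surj v
  set u := g * z * g⁻¹
  have hd : u * e * u⁻¹ ∈ E := S.conjE _ hg.comm _ he
  have hpd : π (u * e * u⁻¹) = op ρ (β u) (π e) := S.equiv _ hg.comm _ he
  rw [dd_apply, add_comm] at hv
  have hpa : π a = π (e * (u * e * u⁻¹)) := by rw [S.add _ he _ hd, hpd, hv]
  have hcom : e * (u * e * u⁻¹) * u = u * (e * (u * e * u⁻¹)) := by
    rcases pi_eq S haE (mul_mem he hd) hpa with r | r
    · rw [← r]; exact hau
    · have r' : e * (u * e * u⁻¹) = z * a := by rw [r, ← mul_assoc z z, S.zz, one_mul]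
      rw [r', mul_assoc, hau, ← mul_assoc, ← hg.comm, mul_assoc]
  have hed : e * (u * e * u⁻¹) = (u * e * u⁻¹) * e := by
    have huu : u * u = 1 := u_sq S hg
    calc e * (u * e * u⁻¹) = (e * (u * e * u⁻¹) * u) * u⁻¹ := by group
      _ = u * e * u * e * u⁻¹ * u⁻¹ := by rw [hcom]; group
      _ = u * e * u⁻¹ * e := by
        rw [show u⁻¹ = u from inv_eq_of_mul_eq_one_right huu, mul_assoc (u * e * u * e), huu, mul_one]
  have hq : q (π a) = 0 := by
    have hp := S.polar _ he _ hd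
    rw [if_pos hed, hpd] at hp
    unfold polarQ at hp
    have hinv : q (op ρ (β u) (π e)) = q (π e) := S.mo.orth.inv _ _
    rw [hinv] at hp
    rw [← hv]
    calc q (π e + op ρ (β u) (π e))
        = q (π e + op ρ (β u) (π e)) + q (π e) + q (π e) := by
          rw [add_assoc, CharTwo.add_self_eq_zero, add_zero]
      _ = 0 := hp
  rw [S.qval _ haE] at hq
  by_contra hne
  rw [if_neg hne] at hq
  exact one_ne_zero hq

theorem range_sq (hu : β (g * z * g⁻¹) ∉ Mb) {t : X} (ht : t ∈ (tau S g).range) : t * t = 1 := by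
  obtain ⟨a, rfl⟩ := ht
  rw [← map_mul, show a * a = 1 from Subtype.ext (cA_sq S hg hu a.2), map_one]

theorem card_cover {c : G} (hc : c ∈ E) (hcz : c * (g * z * g⁻¹) * c⁻¹ = z * (g * z * g⁻¹)) :
    Nat.card (fx ρ (β (g * z * g⁻¹))) ≤ 2 * Nat.card (piS S (cA z E g) inf_le_left) := by
  haveI := JFourLinear67.finite S.mo
  set A := piS S (cA z E g) inf_le_left
  let f : fx ρ (β (g * z * g⁻¹)) → Bool × A := fun w =>
    if h : (w : V) ∈ A then (false, ⟨w, h⟩)
    else (true, ⟨(w : V) + π c, (cover S hg hc hcz w.2).resolve_left h⟩)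
  have hf : Function.Injective f := by
    intro a b e
    dsimp only [f] at e
    split_ifs at e with h1 h2 h3
    · exact Subtype.ext (congrArg (fun x : Bool × A => (x.2 : V)) e)
    · exact absurd (congrArg Prod.fst e) (by simp)
    · exact absurd (congrArg Prod.fst e) (by simp)
    · exact Subtype.ext (add_right_cancel (congrArg (fun x : Bool × A => (x.2 : V)) e))
  refine (card_le_mul hf).trans (le_of_eq ?_)
  rw [Nat.card_eq_fintype_card, Fintype.card_bool]

theorem card_piA_ge :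
    Nat.card (fx ρ (β (g * z * g⁻¹))) ≤ 2 * Nat.card (piS S (cA z E g) inf_le_left) := by
  rcases cover_or S hg with ⟨c, hc, -, hcz⟩ | e
  · exact card_cover S hg hc hcz
  · rw [e]; omega

theorem all_fix {t : X} (ht : t ∈ Mb) (hu : β (g * z * g⁻¹) ∈ Mb)
    (h : piS S (cA z E g) inf_le_left ≤ fx ρ t) : fx ρ (β (g * z * g⁻¹)) ≤ fx ρ t := by
  rcases cover_or S hg with ⟨c, hc, hcf, hcz⟩ | e
  · exact fixes_of_cover S.mo ht hu (cA_fx S hg) h hcf fun w hw => cover S hg hc hcz hw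
  · exact e ▸ h

theorem outer_flip (hu : β (g * z * g⁻¹) ∉ Mb) {c : G} (hc : c ∈ E)
    (hcf : π c ∈ fx ρ (β (g * z * g⁻¹)))
    (hcz : c * (g * z * g⁻¹) * c⁻¹ = z * (g * z * g⁻¹)) : False := by
  haveI := JFourLinear67.finite S.mo
  obtain ⟨hmv, hcard⟩ := outer_mv S.mo hu (bu_sq S hg)
  have hK : Nat.card (cK E g) = 1 := by
    rw [Nat.card_eq_one_iff_unique]
    refine ⟨⟨fun a b => ?_⟩, ⟨1⟩⟩
    have h : ∀ k ∈ cK E g, k = 1 := fun k hk => K_flip S hg hc hcf hcz hk
      (hmv ▸ cA_fx S hg ⟨k, cK_le S hg hk, rfl⟩)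
    exact Subtype.ext ((h a a.2).trans (h b b.2).symm)
  have h1 := card_piA_ge S hg
  rw [hcard] at h1
  have h2 := card_range S hg
  rw [card_cA S hg, hK, mul_one] at h2
  have h3 := inner_part S hg
  set T := ((tau S g).range ⊓ Mb : Subgroup X)
  have hT : 32 ≤ Nat.card T := by omega
  have hfix : ∀ t ∈ T, piS S (cA z E g⁻¹) inf_le_left ≤ fx ρ t := by
    intro t ht w hw
    obtain ⟨k, hk, e⟩ := act S hg ht.1 hw
    have hk1 : k = 1 := by
      have hone : Nat.card (cK E g⁻¹) = 1 := (card_cK_inv E g).trans hK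
      rw [Nat.card_eq_one_iff_unique] at hone
      exact congrArg Subtype.val (hone.1.elim ⟨k, hk⟩ 1)
    rw [hk1, pi_one S] at e
    exact (eq_of_add S.mo e.symm : op ρ t w = w)
  have hv2 := bu_sq S hg.inv
  by_cases hv : β (g⁻¹ * z * g⁻¹⁻¹) ∈ Mb
  · have := card_trivial S.mo hv hv2 (bu_ne S hg.inv) T inf_le_right
      fun t ht => all_fix S hg.inv ht.2 hv (hfix t ht)
    omega
  · obtain ⟨t, ht, htt, ht1⟩ := exists_inv S hg (show 1 < Nat.card T by omega)
    set R := piS S (cA z E g⁻¹) inf_le_left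
    have hRle := cA_fx S hg.inv
    have h4 := card_piA_ge S hg.inv
    rw [(outer_mv S.mo hv hv2).2] at h4
    let f : R × R → fx ρ t := fun x => ⟨x.1.1 + op ρ n x.2.1,
      add_mem (hfix t ht x.1.2) (fx_stable S.mo ht.2 (hfix t ht x.2.2))⟩
    have hf : Function.Injective f := by
      rintro ⟨a, b⟩ ⟨a', b'⟩ e
      have e' : a.1 + op ρ n b.1 = a'.1 + op ρ n b'.1 := congrArg Subtype.val e
      have e2 : op ρ n (b.1 + b'.1) = a.1 + a'.1 := by
        rw [map_add]
        refine eq_of_add S.mo ?_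
        calc op ρ n b.1 + op ρ n b'.1 + (a.1 + a'.1)
            = (a.1 + op ρ n b.1) + (a'.1 + op ρ n b'.1) := by abel
          _ = 0 := by rw [e', add_self S.mo]
      have hb : b.1 + b'.1 = 0 := fx_n_outer S.mo hv (add_mem (hRle b.2) (hRle b'.2))
        (e2 ▸ add_mem (hRle a.2) (hRle a'.2))
      have ha : a.1 + a'.1 = 0 := by rw [← e2, hb, map_zero]
      exact Prod.ext (Subtype.ext (eq_of_add S.mo ha)) (Subtype.ext (eq_of_add S.mo hb))
    have h5 := Nat.card_le_card_of_injective f hf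
    rw [Nat.card_prod, (card_inner S.mo ht.2 htt ht1).1] at h5
    have h6 : 32 ≤ Nat.card R := by
      show 32 ≤ Nat.card (piS S (cA z E g⁻¹) inf_le_left)
      omega
    have h7 := Nat.mul_le_mul h6 h6
    omega

omit hg in
theorem eq_zero_of_pair {K : AddSubgroup V} (hK : Nat.card K ≤ 2) {d : V} (hd : d ∈ K)
    (hnd : op ρ n d ∈ K) : d = 0 := by
  haveI := JFourLinear67.finite S.mo
  by_contra hd0
  haveI : Fintype K := Fintype.ofFinite _
  have hne : op ρ n d ≠ d := fun e => hd0 (n_fixed S.mo e)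
  have hn0 : op ρ n d ≠ 0 := fun e => hd0 (op_inj n (e.trans (map_zero (op ρ n)).symm))
  have : ({⟨0, zero_mem K⟩, ⟨d, hd⟩, ⟨_, hnd⟩} : Finset K).card = 3 := by
    rw [Finset.card_insert_of_notMem, Finset.card_insert_of_notMem, Finset.card_singleton]
    · simp [Ne.symm hne]
    · simp [Ne.symm hd0, Ne.symm hn0]
  have h := this.symm.le.trans (Finset.card_le_univ _)
  rw [Nat.card_eq_fintype_card] at hK
  omega

theorem inner_flip (hu : β (g * z * g⁻¹) ∈ Mb) {c : G} (hc : c ∈ E)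
    (hcf : π c ∈ fx ρ (β (g * z * g⁻¹)))
    (hcz : c * (g * z * g⁻¹) * c⁻¹ = z * (g * z * g⁻¹)) : False := by
  haveI := JFourLinear67.finite S.mo
  obtain ⟨hcard, -⟩ := card_inner S.mo hu (bu_sq S hg) (bu_ne S hg)
  have hperp : ∀ k ∈ cK E g, ∀ w ∈ piS S (cA z E g) inf_le_left, polarQ q (π k) w = 0 := by
    rintro k hk _ ⟨a, ha, rfl⟩
    rw [S.polar _ (mem_cK.1 hk).1 _ (mem_cA.1 ha).1, if_pos (K_comm S hg ha hk).symm]
  have hodd : ∀ k ∈ cK E g, k ≠ 1 → polarQ q (π k) (π c) = 1 := by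
    intro k hk hk1
    by_contra h
    have h0 : polarQ q (π k) (π c) = 0 := by
      revert h; generalize polarQ q (π k) (π c) = x; revert x; decide
    refine hk1 (K_flip S hg hc hcf hcz hk ?_)
    rw [← perp_fx S.mo]
    intro w hw
    rcases cover S hg hc hcz hw with h' | h'
    · exact hperp k hk w h'
    · have := hperp k hk _ h'
      rwa [polar_addr S.mo, h0, add_zero] at this
  have huniq : ∀ a ∈ cK E g, ∀ b ∈ cK E g, a ≠ 1 → b ≠ 1 → a = b := by
    intro a ha b hb ha1 hb1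
    have hab : π (a * b) = π a + π b := S.add _ (mem_cK.1 ha).1 _ (mem_cK.1 hb).1
    refine K_inj S hg ha hb (eq_of_add S.mo ?_)
    rw [← hab, K_flip S hg hc hcf hcz (mul_mem ha hb) ?_, pi_one S]
    rw [← perp_fx S.mo]
    intro w hw
    rw [hab]
    rcases cover S hg hc hcz hw with h' | h'
    · rw [S.mo.orth.addl, hperp a ha w h', hperp b hb w h', add_zero]
    · have e : w = (w + π c) + π c := by rw [add_assoc, add_self S.mo, add_zero]
      rw [S.mo.orth.addl, e, polar_addr S.mo, polar_addr S.mo (π b), hperp a ha _ h',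
        hperp b hb _ h', hodd a ha ha1, hodd b hb hb1]
      decide
  have hK : Nat.card (cK E g) ≤ 2 := by
    have hinj : Function.Injective (fun k : cK E g => decide (k = 1)) := by
      intro a b e
      by_cases ha : a = 1 <;> by_cases hb : b = 1 <;> simp [ha, hb] at e ⊢
      exact Subtype.ext (huniq a a.2 b b.2 (fun h => ha (Subtype.ext h)) (fun h => hb (Subtype.ext h)))
    refine (Nat.card_le_card_of_injective _ hinj).trans (le_of_eq ?_)
    rw [Nat.card_eq_fintype_card, Fintype.card_bool]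
  have h1 := card_piA_ge S hg
  rw [hcard] at h1
  have h2 := card_range S hg
  rw [card_cA S hg] at h2
  have h3 := inner_part S hg
  set T := ((tau S g).range ⊓ Mb : Subgroup X)
  have hT : 64 ≤ Nat.card T := by
    have := Nat.mul_le_mul_left (Nat.card (tau S g).range) hK
    omega
  have hK' : Nat.card (piS S (cK E g⁻¹) inf_le_left) ≤ 2 := by
    rw [card_piK S hg.inv, card_cK_inv]; exact hK
  have hv2 := bu_sq S hg.inv
  by_cases hv : β (g⁻¹ * z * g⁻¹⁻¹) ∈ Mb
  · set t0 := β (g⁻¹ * z * g⁻¹⁻¹)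
    set A := piS S (cA z E g⁻¹) inf_le_left
    have hA := cA_fx S hg.inv
    have hU : ∀ t ∈ T, ∀ w ∈ A, op ρ n w ∈ A → op ρ t w = w := by
      intro t ht w hw hnw
      refine eq_of_add S.mo (eq_zero_of_pair S hK' (act S hg ht.1 hw) ?_)
      have := act S hg ht.1 hnw
      rwa [op_comm (S.mo.comm t ht.2), ← map_add] at this
    have hsum : ∀ w ∈ A, ∀ w0 ∈ A, op ρ n w ∉ A → op ρ n w0 ∉ A → op ρ n (w + w0) ∈ A := by
      intro w hw w0 hw0 h h0
      have m1 := fx_stable S.mo hv (hA hw)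
      have m2 := fx_stable S.mo hv (hA hw0)
      rcases cover_or S hg.inv with ⟨c', hc', -, hcz'⟩ | e
      · have a1 := (cover S hg.inv hc' hcz' m1).resolve_left h
        have a2 := (cover S hg.inv hc' hcz' m2).resolve_left h0
        rw [map_add]
        rw [show op ρ n w + op ρ n w0 = (op ρ n w + π c') + (op ρ n w0 + π c') by
          calc op ρ n w + op ρ n w0 = op ρ n w + op ρ n w0 + (π c' + π c') := by
                rw [add_self S.mo, add_zero]
            _ = _ := by abel]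
        exact add_mem a1 a2
      · refine absurd ?_ h
        show op ρ n w ∈ piS S (cA z E g⁻¹) inf_le_left
        rw [e]
        exact m1
    let A1 : Subgroup X :=
      { carrier := {t | t ∈ T ∧ ∀ w ∈ A, op ρ t w = w}
        one_mem' := ⟨one_mem T, fun w _ => op_one w⟩
        mul_mem' := fun {a b} ha hb => ⟨mul_mem ha.1 hb.1, fun w hw => by
          rw [op_mul, hb.2 w hw, ha.2 w hw]⟩
        inv_mem' := fun {a} ha => ⟨inv_mem ha.1, fun w hw => by
          nth_rw 1 [← ha.2 w hw]; rw [op_inv_self]⟩ }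
    have hpair : ∀ t ∈ T, ∀ t' ∈ T, t ∉ A1 → t' ∉ A1 → t⁻¹ * t' ∈ A1 := by
      intro t ht t' ht' h h'
      refine ⟨mul_mem (inv_mem ht) ht', fun w hw => ?_⟩
      rw [op_mul]
      suffices he : op ρ t' w = op ρ t w by rw [he, op_inv_self]
      by_cases hwU : op ρ n w ∈ A
      · rw [hU t ht w hw hwU, hU t' ht' w hw hwU]
      · have hmove : ∀ s ∈ T, s ∉ A1 → op ρ s w + w ≠ 0 := by
          intro s hs hsA h0
          refine hsA ⟨hs, fun x hx => ?_⟩
          by_cases hxU : op ρ n x ∈ A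
          · exact hU s hs x hx hxU
          · have e := hU s hs _ (add_mem hx hw) (hsum x hx w hw hxU hwU)
            rw [map_add, eq_of_add S.mo h0, add_left_inj] at e
            exact e
        have m := act S hg ht.1 hw
        have m' := act S hg ht'.1 hw
        have h1 := hmove t ht h
        have h2 := hmove t' ht' h'
        by_contra hne
        haveI : Fintype (piS S (cK E g⁻¹) inf_le_left) := Fintype.ofFinite _
        have h3 : ({⟨0, zero_mem _⟩, ⟨_, m⟩, ⟨_, m'⟩} :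
            Finset (piS S (cK E g⁻¹) inf_le_left)).card = 3 := by
          rw [Finset.card_insert_of_notMem, Finset.card_insert_of_notMem, Finset.card_singleton]
          · simp [Ne.symm hne]
          · simp [Ne.symm h1, Ne.symm h2]
        have h4 := h3.symm.le.trans (Finset.card_le_univ _)
        rw [Nat.card_eq_fintype_card] at hK'
        omega
    have hA1 : Nat.card T ≤ 2 * Nat.card A1 := by
      by_cases hall : ∀ t ∈ T, t ∈ A1
      · have : T ≤ A1 := hall
        have := Subgroup.card_le_of_le this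
        omega
      · push Not at hall
        obtain ⟨t, ht, htn⟩ := hall
        let f : T → Bool × A1 := fun x =>
          if h : (x : X) ∈ A1 then (false, ⟨x, h⟩) else (true, ⟨t⁻¹ * x, hpair t ht x x.2 htn h⟩)
        have hf : Function.Injective f := by
          intro a b e
          dsimp only [f] at e
          split_ifs at e with h1 h2 h3
          · exact Subtype.ext (congrArg (fun x : Bool × A1 => (x.2 : X)) e)
          · exact absurd (congrArg Prod.fst e) (by simp)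
          · exact absurd (congrArg Prod.fst e) (by simp)
          · exact Subtype.ext (mul_left_cancel (congrArg (fun x : Bool × A1 => (x.2 : X)) e))
        refine (card_le_mul hf).trans (le_of_eq ?_)
        rw [Nat.card_eq_fintype_card, Fintype.card_bool]
    have := card_trivial S.mo hv hv2 (bu_ne S hg.inv) A1 (fun t ht => ht.1.2)
      fun t ht => all_fix S hg.inv ht.1.2 hv fun w hw => ht.2 w hw
    omega
  · rcases cover_or S hg.inv with ⟨c', hc', hcf', hcz'⟩ | e
    · exact outer_flip S hg.inv hv hc' hcf' hcz'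
    · obtain ⟨t, ht, htt, ht1⟩ := exists_inv S hg (show 1 < Nat.card T by omega)
      have h4 := card_fx_outer S.mo ht.2 hv hv2 (K := piS S (cK E g⁻¹) inf_le_left)
        fun w hw => act S hg ht.1 (e ▸ hw)
      rw [(card_inner S.mo ht.2 htt ht1).2] at h4
      have := Nat.mul_le_mul hK' hK'
      omega

theorem exists_lift_three (hu : β (g * z * g⁻¹) ∈ Mb) : ∃ p, p * z = z * p ∧
    p * (g * z * g⁻¹) = g * z * g⁻¹ * p ∧ p ^ 3 = 1 ∧ (β p = n ∨ β p = n * n) := by
  have hA : piS S (cA z E g) inf_le_left = fx ρ (β (g * z * g⁻¹)) :=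
    (cover_or S hg).resolve_left fun ⟨c, hc, hcf, hcz⟩ => inner_flip S hg hu hc hcf hcz
  obtain ⟨p0, hp0, hbp⟩ := S.bsurj n
  set u := g * z * g⁻¹
  have hu' : u * u = 1 := u_sq S hg
  have hui : u⁻¹ = u := inv_eq_of_mul_eq_one_right hu'
  set c := p0 * u * p0⁻¹ * u⁻¹ with hc
  have hpu : p0 * u * p0⁻¹ * z = z * (p0 * u * p0⁻¹) :=
    Commute.mul_left (Commute.mul_left hp0 hg.comm) (Commute.inv_left hp0)
  have huiz : u⁻¹ * z = z * u⁻¹ := Commute.inv_left hg.comm
  have hcz : c * z = z * c := Commute.mul_left hpu huiz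
  have hbc : β c = 1 := by
    rw [hc, S.bmul _ _ hpu huiz, b_conj S hp0 hg.comm, b_inv S hg.comm, hbp,
      ← S.mo.comm _ hu, mul_inv_cancel_right, mul_inv_cancel]
  have hcE : c ∈ E := (S.bker c hcz).1 hbc
  have hcu : c * u = p0 * u * p0⁻¹ := by rw [hc]; group
  have hcf : π c ∈ fx ρ (β u) := by
    rw [mem_fx, ← S.equiv _ hg.comm _ hcE, ← pi_inv S hcE]
    congr 1
    have e : c * u * (c * u) = 1 := by
      rw [hcu]
      calc p0 * u * p0⁻¹ * (p0 * u * p0⁻¹) = p0 * (u * u) * p0⁻¹ := by group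
        _ = 1 := by rw [hu']; group
    rw [hui, eq_inv_iff_mul_eq_one]
    calc u * c * u * c = c⁻¹ * (c * u * (c * u)) * c := by group
      _ = 1 := by rw [e]; group
  have hcm : π c ∈ mv ρ (β u) := by
    rw [← perp_fx S.mo]
    intro w hw
    have hw2 : op ρ n (op ρ n w) ∈ piS S (cA z E g) inf_le_left := by
      rw [hA]; exact fx_stable S.mo hu (fx_stable S.mo hu hw)
    obtain ⟨b, hb, hbw⟩ := hw2
    have hb' := S.conjE _ hp0 _ (mem_cA.1 hb).1
    have hpb : π (p0 * b * p0⁻¹) = w := by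
      rw [S.equiv _ hp0 _ (mem_cA.1 hb).1, hbp, hbw, ← op_mul, ← op_mul, n_cube S.mo, op_one]
    have hbA : p0 * b * p0⁻¹ ∈ cA z E g := by
      obtain ⟨a, ha, e⟩ : w ∈ piS S (cA z E g) inf_le_left := hA ▸ hw
      rcases pi_eq S hb' (mem_cA.1 ha).1 (by rw [hpb, e]) with r | r
      · rw [r]; exact ha
      · rw [r]; exact mul_mem (z_cA S hg) ha
    have hcomm : p0 * b * p0⁻¹ * (c * u) = c * u * (p0 * b * p0⁻¹) := by
      rw [hcu]
      calc p0 * b * p0⁻¹ * (p0 * u * p0⁻¹) = p0 * (b * u) * p0⁻¹ := by group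
        _ = p0 * (u * b) * p0⁻¹ := by rw [(mem_cA.1 hb).2]
        _ = _ := by group
    have hc2 : p0 * b * p0⁻¹ * c = c * (p0 * b * p0⁻¹) := by
      rw [← mul_assoc, mul_assoc c u, ← (mem_cA.1 hbA).2, ← mul_assoc c] at hcomm
      exact mul_right_cancel hcomm
    have hp := S.polar _ hcE _ hb'
    rwa [if_pos hc2.symm, hpb] at hp
  obtain ⟨v, hv⟩ := hcm
  obtain ⟨e, he, rfl⟩ := S.surj v
  rw [dd_apply, add_comm, ← pi_moved S hg he] at hv
  have hez : e * z = z * e := S.cen e he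
  have hei : e⁻¹ * z = z * e⁻¹ := Commute.inv_left hez
  set p1 := e⁻¹ * p0 with hp1
  have hp1z : p1 * z = z * p1 := Commute.mul_left hei hp0
  have hbe : β e⁻¹ = 1 := (S.bker _ hei).2 (inv_mem he)
  have hbp1 : β p1 = n := by rw [hp1, S.bmul _ _ hei hp0, hbe, hbp, one_mul]
  have hE' : e * u * e⁻¹ * u⁻¹ ∈ E := by
    rw [show e * u * e⁻¹ * u⁻¹ = e * (u * e⁻¹ * u⁻¹) by group]
    exact mul_mem he (S.conjE _ hg.comm _ (inv_mem he))
  have hcases : p1 * u * p1⁻¹ = u ∨ p1 * u * p1⁻¹ = z * u := by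
    have h0 : p1 * u * p1⁻¹ = e⁻¹ * (c * u) * e := by rw [hp1, hcu]; group
    rcases pi_eq S hE' hcE hv with r | r
    · left; rw [h0, ← r]; group
    · right
      have r' : c = z * (e * u * e⁻¹ * u⁻¹) := by rw [r, ← mul_assoc z z, S.zz, one_mul]
      rw [h0, r', show e⁻¹ * (z * (e * u * e⁻¹ * u⁻¹) * u) * e = (e⁻¹ * z) * e * u by group, hei]
      group
  have hp1u : p1 * u * p1⁻¹ = u := by
    refine hcases.resolve_right fun h => ?_
    have hz' : p1 * z * p1⁻¹ = z := by rw [hp1z, mul_inv_cancel_right]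
    have h2 : p1 * p1 * u * (p1 * p1)⁻¹ = u := by
      calc p1 * p1 * u * (p1 * p1)⁻¹ = p1 * (p1 * u * p1⁻¹) * p1⁻¹ := by group
        _ = p1 * (z * u) * p1⁻¹ := by rw [h]
        _ = (p1 * z * p1⁻¹) * (p1 * u * p1⁻¹) := by group
        _ = u := by rw [hz', h, ← mul_assoc, S.zz, one_mul]
    have h3 : p1 * p1 * p1 * u * (p1 * p1 * p1)⁻¹ = z * u := by
      calc p1 * p1 * p1 * u * (p1 * p1 * p1)⁻¹ = p1 * (p1 * p1 * u * (p1 * p1)⁻¹) * p1⁻¹ := by
            group
        _ = z * u := by rw [h2, h]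
    have hz2 : p1 * p1 * z = z * (p1 * p1) := Commute.mul_left hp1z hp1z
    have h3E : p1 * p1 * p1 ∈ E := (S.bker _ (Commute.mul_left hz2 hp1z)).1 (by
      rw [S.bmul _ _ hz2 hp1z, S.bmul _ _ hp1z hp1z, hbp1, n_cube S.mo])
    have hm := pi_moved S hg h3E
    rw [h3, mul_inv_cancel_right, pi_z S] at hm
    have hf : π (p1 * p1 * p1) ∈ fx ρ (β u) := (eq_of_add S.mo hm.symm).symm
    rw [← hA] at hf
    obtain ⟨a, ha, e'⟩ := hf
    have hm3 : p1 * p1 * p1 ∈ cA z E g := by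
      rcases pi_eq S h3E (mem_cA.1 ha).1 e'.symm with r | r
      · rw [r]; exact ha
      · rw [r]; exact mul_mem (z_cA S hg) ha
    rw [(mem_cA.1 hm3).2, mul_inv_cancel_right] at h3
    exact S.z_ne (right_eq_mul.1 h3)
  have hb3 : β (p1 * p1 * p1) = 1 := by
    rw [S.bmul _ _ (Commute.mul_left hp1z hp1z) hp1z, S.bmul _ _ hp1z hp1z, hbp1, n_cube S.mo]
  have h3E : p1 * p1 * p1 ∈ E := (S.bker _ (Commute.mul_left (Commute.mul_left hp1z hp1z) hp1z)).1 hb3
  obtain ⟨j, hj⟩ := S.two ⟨_, h3E⟩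
  have hj' : (p1 * p1 * p1) ^ 2 ^ j = 1 := congrArg Subtype.val hj
  refine ⟨p1 ^ 2 ^ j, Commute.pow_left hp1z _,
    Commute.pow_left (show Commute p1 u from mul_inv_eq_iff_eq_mul.1 hp1u) _, ?_, ?_⟩
  · rw [← pow_mul, mul_comm, pow_mul, show p1 ^ 3 = p1 * p1 * p1 by rw [pow_succ, pow_two], hj']
  · have hb : ∀ k : ℕ, β (p1 ^ k) = n ^ k := by
      intro k
      induction k with
      | zero => rw [pow_zero, pow_zero, b_one S]
      | succ k ih => rw [pow_succ, pow_succ, S.bmul _ _ (Commute.pow_left hp1z k) hp1z, ih, hbp1]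
    rw [hb, pow_eq_pow_mod (2 ^ j) (show n ^ 3 = 1 by rw [pow_succ, pow_two, n_cube S.mo])]
    have h3 : ¬ 3 ∣ 2 ^ j := fun h => by
      have := Nat.prime_three.dvd_of_dvd_pow h
      norm_num at this
    rcases (show 2 ^ j % 3 = 1 ∨ 2 ^ j % 3 = 2 by omega) with r | r <;> rw [r]
    · exact Or.inl (pow_one n)
    · exact Or.inr (pow_two n)

theorem exists_three (hv : β (g⁻¹ * z * g⁻¹⁻¹) ∈ Mb) :
    ∃ h : X, orderOf h = 3 ∧ h ∈ Mb ∧ h * β (g * z * g⁻¹) = β (g * z * g⁻¹) * h ∧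
      ∀ w ∈ piS S (cA z E g) inf_le_left, op ρ h w + w ∈ piS S (cK E g) inf_le_left := by
  obtain ⟨p, hpz, hpv, hp3, hbp⟩ := exists_lift_three S hg.inv hv
  haveI : Fact (Nat.Prime 3) := ⟨Nat.prime_three⟩
  have hhz : g * p * g⁻¹ * z = z * (g * p * g⁻¹) := conj_comm' hpv
  have hhu : g * p * g⁻¹ * (g * z * g⁻¹) = g * z * g⁻¹ * (g * p * g⁻¹) := by
    calc g * p * g⁻¹ * (g * z * g⁻¹) = g * (p * z) * g⁻¹ := by group
      _ = g * (z * p) * g⁻¹ := by rw [hpz]
      _ = _ := by group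
  have hnp : β p * β p * β p = 1 ∧ β p ≠ 1 := by
    rcases hbp with r | r <;> rw [r]
    · exact ⟨n_cube S.mo, fun e => by
        have := S.mo.order_n; rw [e, orderOf_one] at this; norm_num at this⟩
    · refine ⟨?_, fun e => three_ne_inv S.mo (inv_eq_of_mul_eq_one_right e)⟩
      calc n * n * (n * n) * (n * n) = n * n * n * (n * n * n) := by group
        _ = 1 := by rw [n_cube S.mo, one_mul]
  have hne : β (g * p * g⁻¹) ≠ 1 := by
    intro e
    have hE := (S.bker _ hhz).1 e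
    obtain ⟨j, hj⟩ := S.two ⟨_, hE⟩
    have hj' : (g * p * g⁻¹) ^ 2 ^ j = 1 := congrArg Subtype.val hj
    rw [conj_pow, mul_inv_eq_one, mul_eq_left] at hj'
    have := pow_gcd_eq_one.2 ⟨hp3, hj'⟩
    rw [show Nat.gcd 3 (2 ^ j) = 1 from
      (Nat.Coprime.pow_right j (by norm_num : Nat.Coprime 3 2)), pow_one] at this
    rw [this, b_one S] at hnp
    exact hnp.2 rfl
  have hord : orderOf (β (g * p * g⁻¹)) = 3 := by
    refine orderOf_eq_prime ?_ hne
    have hz2 : g * p * g⁻¹ * (g * p * g⁻¹) * z = z * (g * p * g⁻¹ * (g * p * g⁻¹)) :=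
      Commute.mul_left hhz hhz
    rw [pow_succ, pow_two, ← S.bmul _ _ hhz hhz, ← S.bmul _ _ hz2 hhz,
      show g * p * g⁻¹ * (g * p * g⁻¹) * (g * p * g⁻¹) = g * p ^ 3 * g⁻¹ by
        rw [pow_succ, pow_two]; group, hp3, mul_one, mul_inv_cancel, b_one S]
  have hMb : β (g * p * g⁻¹) ∈ Mb := by
    have h1 := Subgroup.sq_mem_of_index_two S.mo.index_two (β (g * p * g⁻¹) ^ 2)
    rw [← pow_mul, pow_eq_pow_mod _ (show β (g * p * g⁻¹) ^ 3 = 1 by
      rw [← hord]; exact pow_orderOf_eq_one _)] at h1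
    simpa using h1
  refine ⟨_, hord, hMb, ?_, ?_⟩
  · rw [← S.bmul _ _ hhz hg.comm, hhu, S.bmul _ _ hg.comm hhz]
  rintro w ⟨a, ha, rfl⟩
  obtain ⟨haE, hau⟩ := mem_cA.1 ha
  set h := g * p * g⁻¹ with hh
  have hxE := S.conjE _ hhz _ haE
  have hxA : h * a * h⁻¹ ∈ cA z E g := by
    refine mem_cA.2 ⟨hxE, ?_⟩
    exact (Commute.mul_left (Commute.mul_left hhu hau) (Commute.inv_left hhu))
  have ha' := conj_comm hau
  set t := β (g⁻¹ * a * g) with ht
  have hx' : β (g⁻¹ * (h * a * h⁻¹) * g) = β p * t * (β p)⁻¹ := by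
    rw [show g⁻¹ * (h * a * h⁻¹) * g = p * (g⁻¹ * a * g) * p⁻¹ by rw [hh]; group,
      b_conj S hpz ha']
  have hconj : t * n * t⁻¹ = n ∨ t * n * t⁻¹ = n * n := by
    by_cases htM : t ∈ Mb
    · exact Or.inl (mul_inv_eq_iff_eq_mul.2 (S.mo.comm t htM))
    · exact Or.inr ((S.mo.invert t htM).trans (inv_eq_of_mul_eq_one_left (n_cube S.mo)))
  have hnn : t * (n * n) * t⁻¹ = (t * n * t⁻¹) * (t * n * t⁻¹) := by group
  have hcube : (β p * t * (β p)⁻¹ * t⁻¹) ^ 3 = 1 := by
    have e : β p * t * (β p)⁻¹ * t⁻¹ = β p * (t * β p * t⁻¹)⁻¹ := by group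
    have hn3 : n ^ 3 = 1 := by rw [pow_succ, pow_two, n_cube S.mo]
    have hpow : ∀ x ∈ Subgroup.zpowers n, x ^ 3 = 1 := by
      rintro _ ⟨i, rfl⟩
      show (n ^ i) ^ 3 = 1
      rw [← zpow_natCast, ← zpow_mul, mul_comm, zpow_mul, zpow_natCast, hn3, one_zpow]
    have hm : n ∈ Subgroup.zpowers n := Subgroup.mem_zpowers n
    rw [e]
    refine hpow _ (mul_mem ?_ (inv_mem ?_))
    · rcases hbp with r | r <;> rw [r]
      exacts [hm, mul_mem hm hm]
    · rcases hbp with r | r <;> rw [r]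
      · rcases hconj with r' | r' <;> rw [r']
        exacts [hm, mul_mem hm hm]
      · rcases hconj with r' | r' <;> rw [hnn, r']
        exacts [mul_mem hm hm, mul_mem (mul_mem hm hm) (mul_mem hm hm)]
  have hmem : β p * t * (β p)⁻¹ * t⁻¹ ∈ (tau S g).range := by
    refine mul_mem ?_ (inv_mem ((mem_range S).2 ⟨a, ha, rfl⟩))
    exact (mem_range S).2 ⟨_, hxA, hx'⟩
  have hone : β p * t * (β p)⁻¹ * t⁻¹ = 1 := by
    obtain ⟨j, hj⟩ := range_two S hg ⟨_, hmem⟩
    have := pow_gcd_eq_one.2 ⟨hcube, congrArg Subtype.val hj⟩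
    rwa [show Nat.gcd 3 (2 ^ j) = 1 from
      (Nat.Coprime.pow_right j (by norm_num : Nat.Coprime 3 2)), pow_one] at this
  refine ⟨h * a * h⁻¹ * a⁻¹, mem_cK.2 ⟨mul_mem hxE (inv_mem haE), ?_⟩, ?_⟩
  · rw [← S.bker _ (conj_comm (Commute.mul_left (mem_cA.1 hxA).2 (Commute.inv_left hau)))]
    rw [show g⁻¹ * (h * a * h⁻¹ * a⁻¹) * g = g⁻¹ * (h * a * h⁻¹) * g * (g⁻¹ * a * g)⁻¹ by group,
      S.bmul _ _ (conj_comm (mem_cA.1 hxA).2) (Commute.inv_left ha'), hx', b_inv S ha', ← ht, hone]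
  · rw [S.add _ hxE _ (inv_mem haE), S.equiv _ hhz _ haE, pi_inv S haE]

theorem outer_false (hu : β (g * z * g⁻¹) ∉ Mb) : False := by
  haveI := JFourLinear67.finite S.mo
  rcases cover_or S hg with ⟨c, hc, hcf, hcz⟩ | hA
  · exact outer_flip S hg hu hc hcf hcz
  obtain ⟨hmv, hcard⟩ := outer_mv S.mo hu (bu_sq S hg)
  have hK : Nat.card (cK E g) ≤ 4 := by
    refine K_moved_le S hg ?_
    rintro _ ⟨k, hk, rfl⟩
    rw [hmv]
    exact cA_fx S hg ⟨k, cK_le S hg hk, rfl⟩
  have h2 := card_range S hg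
  rw [card_cA S hg, hA, hcard] at h2
  have h3 := inner_part S hg
  set T := ((tau S g).range ⊓ Mb : Subgroup X)
  have hT : 16 ≤ Nat.card T := by
    have := Nat.mul_le_mul_left (Nat.card (tau S g).range) hK
    omega
  have hK' : Nat.card (piS S (cK E g⁻¹) inf_le_left) ≤ 4 := by
    rw [card_piK S hg.inv, card_cK_inv]; exact hK
  have hv2 := bu_sq S hg.inv
  by_cases hv : β (g⁻¹ * z * g⁻¹⁻¹) ∈ Mb
  · obtain ⟨h, hord, hMb, -, hmove⟩ := exists_three S hg hv
    have h4 := card_fx_outer S.mo hMb hu (bu_sq S hg) (K := piS S (cK E g) inf_le_left)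
      fun w hw => hmove w (hA ▸ hw)
    rw [card_piK S hg] at h4
    have h5 : Nat.card (mv ρ h) ≤ 16 := h4.trans (Nat.mul_le_mul hK hK)
    have h6 : Nat.card (fx ρ h) ≤ 16 := (card_fx_eq S.mo h).symm.trans_le (S.mo.three_fix h hord)
    have h7 := card_mv_fx S.mo h
    have := Nat.mul_le_mul h5 h6
    omega
  · rcases cover_or S hg.inv with ⟨c', hc', hcf', hcz'⟩ | hA'
    · exact outer_flip S hg.inv hv hc' hcf' hcz'
    set R := fx ρ (β (g⁻¹ * z * g⁻¹⁻¹)) with hR
    set P := sp ρ n (piS S (cK E g⁻¹) inf_le_left) with hP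
    have hPle : Nat.card P ≤ 16 := (card_sp_le S.mo _).trans (Nat.mul_le_mul hK' hK')
    have hfx : ∀ t ∈ T, t ≠ 1 → fx ρ t = perp S.mo (P : Set V) := by
      intro t ht ht1
      have hle : mv ρ t ≤ P := by
        rintro _ ⟨v, rfl⟩
        obtain ⟨a, ha, _, ⟨b, hb, rfl⟩, rfl⟩ := AddSubgroup.mem_sup.1
          (show v ∈ sp ρ n R by rw [hR, outer_span S.mo hv hv2]; exact AddSubgroup.mem_top v)
        rw [map_add]
        refine add_mem (AddSubgroup.mem_sup_left (act S hg ht.1 (hA' ▸ ha)))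
          (AddSubgroup.mem_sup_right ⟨_, act S hg ht.1 (hA' ▸ hb), ?_⟩)
        rw [dd_apply, map_add, op_comm (S.mo.comm t ht.2)]
      rw [fx_eq_perp S.mo, AddSubgroup.eq_of_le_of_card_ge hle (by
        rw [(card_inner S.mo ht.2 (range_sq S hg hu ht.1) ht1).2]; exact hPle)]
    obtain ⟨t0, ht0, ht0t, ht01⟩ := exists_inv S hg (show 1 < Nat.card T by omega)
    obtain ⟨x, hxR, hx⟩ : ∃ x, x ∈ R ∧ x ∉ perp S.mo (P : Set V) := by
      by_contra hcon
      push Not at hcon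
      have h1 : R ≤ fx ρ t0 := fun y hy => by rw [hfx t0 ht0 ht01]; exact hcon y hy
      have h2 := sp_le_fx S.mo ht0.2 h1
      rw [hR, outer_span S.mo hv hv2] at h2
      have := AddSubgroup.card_le_of_le h2
      rw [AddSubgroup.card_top, S.mo.orth.card, (card_inner S.mo ht0.2 ht0t ht01).1] at this
      omega
    let f : T → piS S (cK E g⁻¹) inf_le_left := fun t =>
      ⟨op ρ (t : X) x + x, act S hg t.2.1 (hA' ▸ hxR)⟩
    have hf : Function.Injective f := by
      intro a b e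
      have e' : op ρ (a : X) x = op ρ (b : X) x := add_right_cancel (congrArg Subtype.val e)
      by_contra hne
      have hab : (a : X) * b ≠ 1 := fun h => hne (Subtype.ext (mul_right_cancel
        (h.trans (range_sq S hg hu b.2.1).symm)))
      refine hx ?_
      rw [← hfx _ (mul_mem a.2 b.2) hab, mem_fx, op_mul, ← e', ← op_mul,
        range_sq S hg hu a.2.1, op_one]
    have := Nat.card_le_card_of_injective f hf
    omega

theorem no_pair : False := by
  haveI := JFourLinear67.finite S.mo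
  by_cases hu : β (g * z * g⁻¹) ∈ Mb
  swap
  · exact outer_false S hg hu
  rcases cover_or S hg with ⟨c, hc, hcf, hcz⟩ | hA
  · exact inner_flip S hg hu hc hcf hcz
  set t := β (g * z * g⁻¹) with ht
  obtain ⟨hcard, hcmv⟩ := card_inner S.mo hu (bu_sq S hg) (bu_ne S hg)
  have hKle : piS S (cK E g) inf_le_left ≤ mv ρ t := by
    rintro _ ⟨k, hk, rfl⟩
    rw [← perp_fx S.mo]
    intro w hw
    obtain ⟨a, ha, rfl⟩ : w ∈ piS S (cA z E g) inf_le_left := hA ▸ hw
    rw [S.polar _ (mem_cK.1 hk).1 _ (mem_cA.1 ha).1, if_pos (K_comm S hg ha hk).symm]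
  have hK : Nat.card (piS S (cK E g) inf_le_left) ≤ 4 := by
    rw [card_piK S hg]; exact K_moved_le S hg hKle
  by_cases hv : β (g⁻¹ * z * g⁻¹⁻¹) ∈ Mb
  swap
  · exact outer_false S hg.inv hv
  obtain ⟨h, hord, hMb, hcomm, hmove⟩ := exists_three S hg hv
  have hh3 : h ^ 3 = 1 := by rw [← hord]; exact pow_orderOf_eq_one h
  have hstab : ∀ v ∈ mv ρ t, op ρ h v ∈ mv ρ t := by
    rintro _ ⟨v, rfl⟩
    refine ⟨op ρ h v, ?_⟩
    rw [dd_apply, dd_apply, map_add, op_comm hcomm]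
  let F : AddSubgroup V := fx ρ h ⊓ fx ρ t
  have hdec : ∀ w ∈ fx ρ t, ∃ a ∈ F, ∃ b ∈ mv ρ t, a + b = w := by
    intro w hw
    have hd : op ρ h w + w ∈ mv ρ t := hKle (hmove w (hA ▸ hw))
    have hd' := hstab _ hd
    rw [map_add] at hd'
    refine ⟨op ρ h (op ρ h w) + op ρ h w + w, ⟨?_, ?_⟩, op ρ h (op ρ h w) + op ρ h w, hd', ?_⟩
    · show op ρ h (op ρ h (op ρ h w) + op ρ h w + w) = op ρ h (op ρ h w) + op ρ h w + w
      rw [map_add, map_add, op_cube hh3]
      abel
    · exact add_mem (mv_le_fx S.mo (bu_sq S hg) hd') hw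
    · calc op ρ h (op ρ h w) + op ρ h w + w + (op ρ h (op ρ h w) + op ρ h w)
          = w + ((op ρ h (op ρ h w) + op ρ h w) + (op ρ h (op ρ h w) + op ρ h w)) := by abel
        _ = w := by rw [add_self S.mo, add_zero]
  let f : F × mv ρ t → fx ρ t := fun x =>
    ⟨(x.1 : V) + x.2, add_mem x.1.2.2 (mv_le_fx S.mo (bu_sq S hg) x.2.2)⟩
  have hfs : Function.Surjective f := fun w => by
    obtain ⟨a, ha, b, hb, e⟩ := hdec w w.2
    exact ⟨(⟨a, ha⟩, ⟨b, hb⟩), Subtype.ext e⟩
  have hF : Nat.card F ≤ 16 := le_trans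
    (AddSubgroup.card_le_of_le (inf_le_left : F ≤ fx ρ h))
    ((card_fx_eq S.mo h).symm.trans_le (S.mo.three_fix h hord))
  have hbij : Function.Injective f := by
    refine (hfs.bijective_of_nat_card_le ?_).1
    rw [Nat.card_prod, hcard, hcmv]
    omega
  have hzero : ∀ i ∈ mv ρ t, op ρ h i = i → i = 0 := fun i hi hhi => by
    have e := hbij (a₁ := (⟨i, hhi, mv_le_fx S.mo (bu_sq S hg) hi⟩, 0)) (a₂ := (0, ⟨i, hi⟩))
      (Subtype.ext (by simp [f]))
    exact congrArg (fun x : F × mv ρ t => (x.1 : V)) e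
  let d : mv ρ t → piS S (cK E g) inf_le_left := fun i =>
    ⟨op ρ h i + i, hmove i (hA ▸ mv_le_fx S.mo (bu_sq S hg) i.2)⟩
  have hdi : Function.Injective d := by
    intro a b e
    have e' : op ρ h a.1 + a.1 = op ρ h b.1 + b.1 := congrArg Subtype.val e
    refine Subtype.ext (eq_of_add S.mo (hzero _ (add_mem a.2 b.2) ?_))
    refine eq_of_add S.mo ?_
    rw [map_add]
    calc op ρ h a.1 + op ρ h b.1 + (a.1 + b.1) = (op ρ h a.1 + a.1) + (op ρ h b.1 + b.1) := by abel
      _ = 0 := by rw [e', add_self S.mo]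
  have := Nat.card_le_card_of_injective d hdi
  omega

end Cfsg.Agent.JFourCases67
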