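import Mathlib
import Cfsg.Agent.Lib.JFourModule85
import Cfsg.Agent.Lib.JFourM22Class97

/-!
Two facts on the twelve-dimensional module in a group of Janko-four type: an involution commuting with
the element of order three fixes exactly 256 vectors, and an element of order three fixes at most
sixteen.
-/

set_option autoImplicit false
set_option linter.style.haveILetI false
set_option linter.unusedSectionVars false
set_option maxRecDepth 100000
set_option maxHeartbeats 800000

namespace Cfsg.Agent.JFourFacts67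

open Cfsg Cfsg.Agent.U62Mon93 Cfsg.Agent.LFMat89 Cfsg.Agent.LFCheck89 Cfsg.Agent.J4Code85
open Cfsg.Agent.J4Coord85 Cfsg.Agent.GolayOutM22 Cfsg.Agent.J4M22Facts85
open scoped Matrix

universe u

/-- The number of fixed codes. -/
def fixCount (g : ℕ) : ℕ := ((List.range 4096).filter fun c => Nat.beq (app g c) c).length

/-- The coded involution. -/
def cI : ℕ := mulM cV cV

/-- The coded element of order three. -/
def cW : ℕ := mulM (mulM cX cV) cV

theorem count_I : fixCount cI = 256 := by decide +kernel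

theorem count_W : fixCount cW = 16 ∧ fixCount (mulM cW cS) = 16 ∧
    fixCount (mulM cW (mulM cS cS)) = 16 := by decide +kernel

theorem cW_cube : mulM (mulM cW cW) cW = idM := by decide +kernel

theorem cW_ne : fixCount idM = 4096 ∧ fixCount cS = 1 ∧ fixCount (mulM cS cS) = 1 := by
  decide +kernel

theorem cV_order : mulM cI cI = idM := by decide +kernel

variable {X : Type u} [Group X] [Finite X] {V : Type u} [AddCommGroup V]
variable {F : Type} [Field F] [Fintype F] {s : F}
variable {ρ : X →* AddMonoid.End V} {q : V → ZMod 2} {n : X} {ν : (Fin 6 → F) → V}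

/-- The fixed vectors of a coded element are counted by the fixed codes. -/
theorem card_fixed (h : S4 s) (hν : Frame s ρ q n ν) {g : X} {c : ℕ}
    (hg : Acts ρ ν g (matOf s c)) :
    Nat.card {v : V // op ρ g v = v} = fixCount c := by
  classical
  let e : Fin 4096 ≃ V := (vecEquiv h).trans (Equiv.ofBijective ν hν.bij)
  have he : ∀ k : Fin 4096, e k = ν (vec s k) := fun k => rfl
  have hiff : ∀ k : Fin 4096, op ρ g (e k) = e k ↔ Nat.beq (app c k) k = true := by
    intro k
    rw [he, hg, ← vec_app h, hν.bij.1.eq_iff, Nat.beq_eq]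
    exact ⟨fun e' => vec_inj h (app_lt _ _) k.2 e', fun e' => by rw [e']⟩
  rw [Nat.card_congr ((Equiv.subtypeEquiv e.symm (fun v => by
      rw [← hiff, Equiv.apply_symm_apply])) :
      {v : V // op ρ g v = v} ≃ {k : Fin 4096 // Nat.beq (app c k) k = true}),
    Nat.card_eq_fintype_card, Fintype.card_subtype, fixCount,
    ← List.toFinset_card_of_nodup (List.nodup_range.filter _)]
  refine Finset.card_bij (fun k _ => (k : ℕ)) (fun k hk => ?_) (fun a _ b _ e' => Fin.ext e')
    (fun m hm => ?_)
  · rw [List.mem_toFinset, List.mem_filter, List.mem_range]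
    exact ⟨k.2, (Finset.mem_filter.1 hk).2⟩
  · rw [List.mem_toFinset, List.mem_filter, List.mem_range] at hm
    exact ⟨⟨m, hm.1⟩, Finset.mem_filter.2 ⟨Finset.mem_univ _, hm.2⟩, rfl⟩

theorem acts_code (h : S4 s) {a b : X} {c d : ℕ} (ha : Acts ρ ν a (matOf s c))
    (hb : Acts ρ ν b (matOf s d)) : Acts ρ ν (a * b) (matOf s (mulM c d)) := by
  rw [matOf_mul h]
  exact ha.mul hb

theorem card_fixed_conj (a m : X) :
    Nat.card {v : V // op ρ (m * a * m⁻¹) v = v} = Nat.card {v : V // op ρ a v = v} := by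
  have hmul : ∀ x y : X, ∀ v, op ρ (x * y) v = op ρ x (op ρ y v) := fun x y v => by
    show ρ (x * y) v = ρ x (ρ y v)
    rw [map_mul]; rfl
  have hone : ∀ v, op ρ (1 : X) v = v := fun v => by
    show ρ 1 v = v
    rw [map_one]; rfl
  refine Nat.card_congr
    { toFun := fun v => ⟨op ρ m⁻¹ v.1, ?_⟩
      invFun := fun v => ⟨op ρ m v.1, ?_⟩
      left_inv := fun v => Subtype.ext ?_
      right_inv := fun v => Subtype.ext ?_ }
  · have e := congrArg (op ρ m⁻¹) v.2
    rw [← hmul, show m⁻¹ * (m * a * m⁻¹) = a * m⁻¹ by group, hmul] at e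
    exact e
  · rw [← hmul, show m * a * m⁻¹ * m = m * a by group, hmul, v.2]
  · show op ρ m (op ρ m⁻¹ v.1) = v.1
    rw [← hmul, mul_inv_cancel, hone]
  · show op ρ m⁻¹ (op ρ m v.1) = v.1
    rw [← hmul, inv_mul_cancel, hone]

theorem op_one' (v : V) : op ρ (1 : X) v = v := by
  show ρ 1 v = v
  rw [map_one]; rfl

theorem facts {Mb : Subgroup X} (H : Hyp ρ q n Mb) (hidx : Mb.index = 2) (h : S4 s) :
    (∀ t ∈ Mb, t * t = 1 → t ≠ 1 → Nat.card {v : V // op ρ t v = v} = 256) ∧
      ∀ g : X, orderOf g = 3 → Nat.card {v : V // op ρ g v = v} ≤ 16 := by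
  obtain ⟨ν, f, x, y, w, hν, hfs, hfk, hfx, -, hfw, -, -, hw4, aX, -, aV, aS, -⟩ := exists_coord H h
  have hkerpow : ∀ m : Mb, f m = 1 → ∃ i < 3, (m : X) = n ^ i := by
    intro m hm
    obtain ⟨i, hi⟩ := mem_powers_iff_mem_zpowers.2 ((hfk m).1 hm)
    exact ⟨i % 3, Nat.mod_lt _ (by norm_num), by
      rw [← hi, ← H.order_n]; exact (pow_mod_orderOf n i).symm⟩
  constructor
  · intro t ht htt ht1
    set i2 : Mb := w * w with hi2
    have hi2sq : i2 ^ 2 = 1 := by rw [hi2, ← pow_two, ← pow_mul, hw4]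
    have hn2 : ∀ i < 3, n ^ i * n ^ i = 1 → i = 0 := by
      intro i hi e
      rw [← pow_add] at e
      have := orderOf_dvd_of_pow_eq_one e
      rw [H.order_n] at this
      omega
    have hft : f ⟨t, ht⟩ ≠ 1 := fun e => by
      obtain ⟨i, hi, hti⟩ := hkerpow _ e
      simp only at hti
      rw [hti] at htt
      rw [hn2 i hi htt, pow_zero] at hti
      exact ht1 hti
    have hfi : f i2 ≠ 1 := fun e => by
      obtain ⟨i, hi, hti⟩ := hkerpow _ e
      have hsq : n ^ i * n ^ i = 1 := by
        rw [← hti, ← Subgroup.coe_mul, ← pow_two, hi2sq]; rfl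
      rw [hn2 i hi hsq, pow_zero] at hti
      have hact : Acts ρ ν (1 : X) (matOf s cI) := hti ▸ acts_code h aV aV
      have hc := card_fixed h hν hact
      rw [count_I, Nat.card_congr (Equiv.subtypeUnivEquiv op_one'), H.fx.card] at hc
      norm_num at hc
    have ho : ∀ m : Mb, m ^ 2 = 1 → f m ≠ 1 → orderOf (f m) = 2 := fun m hm hm1 =>
      orderOf_eq_prime (by rw [← map_pow, hm, map_one]) hm1
    have ht2 : (⟨t, ht⟩ : Mb) ^ 2 = 1 := Subtype.ext (by simp [pow_two, htt])
    obtain ⟨c, hc⟩ := isConj_iff.1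
      (JFourM22Class97.invol_class _ _ (ho i2 hi2sq hfi) (ho _ ht2 hft))
    obtain ⟨m, rfl⟩ := hfs c
    have e : m * i2 * m⁻¹ = ⟨t, ht⟩ := lift_unique H hfs hfk (k := 2)
      (by rw [conj_pow, hi2sq, mul_one, mul_inv_cancel]) ht2 (by simpa using hc) (by norm_num)
    have e' : (m : X) * (i2 : X) * (m : X)⁻¹ = t := congrArg Subtype.val e
    rw [← e', card_fixed_conj]
    exact (card_fixed h hν (acts_code h aV aV)).trans count_I
  · intro g hg
    have hgMb : g ∈ Mb := by
      have h1 : (g ^ 2) ^ 2 ∈ Mb := Subgroup.sq_mem_of_index_two hidx (g ^ 2)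
      have e : (g ^ 2) ^ 2 = g := by
        rw [← pow_mul, pow_eq_pow_mod _ (show g ^ 3 = 1 by rw [← hg]; exact pow_orderOf_eq_one g)]
        simp
      rwa [e] at h1
    have a1 := acts_code h (acts_code h aX aV) aV
    have hone : Acts ρ ν (1 : X) (matOf s idM) := by
      rw [matOf_id h]; exact Acts.one
    have aSS := acts_code h aS aS
    have hnfix : ∀ i < 3, i ≠ 0 → Nat.card {v : V // op ρ (n ^ i) v = v} = 1 := by
      intro i hi hi0
      rcases (show i = 1 ∨ i = 2 by omega) with rfl | rfl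
      · rw [pow_one, card_fixed h hν aS, cW_ne.2.1]
      · rw [pow_two, card_fixed h hν aSS, cW_ne.2.2]
    by_cases hfg : f ⟨g, hgMb⟩ = 1
    · obtain ⟨i, hi, hgi⟩ := hkerpow _ hfg
      simp only at hgi
      rw [hgi, hnfix i hi (fun e0 => by rw [hgi, e0, pow_zero, orderOf_one] at hg; norm_num at hg)]
      norm_num
    · set w3 : Mb := x * w * w with hw3
      have hw3c : w3 ^ 3 = 1 := by
        refine Subtype.ext (H.faith _ fun v => ?_)
        obtain ⟨u', rfl⟩ := hν.bij.2 v
        have e : Acts ρ ν ((w3 ^ 3 : Mb) : X) (matOf s idM) := by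
          rw [← cW_cube, show ((w3 ^ 3 : Mb) : X) = (w3 : X) * w3 * w3 by
            rw [pow_succ, pow_two]; rfl]
          exact acts_code h (acts_code h a1 a1) a1
        rw [matOf_id h] at e
        rw [e, Matrix.one_mulVec]
      have hfw3 : f w3 ≠ 1 := fun e => by
        obtain ⟨i, hi, hti⟩ := hkerpow _ e
        have hc : Nat.card {v : V // op ρ (w3 : X) v = v} = 16 :=
          (card_fixed h hν a1).trans count_W.1
        rcases Nat.eq_zero_or_pos i with rfl | hpos
        · rw [hti, pow_zero, Nat.card_congr (Equiv.subtypeUnivEquiv op_one'), H.fx.card] at hc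
          norm_num at hc
        · rw [hti, hnfix i hi hpos.ne'] at hc
          norm_num at hc
      have hg3 : (⟨g, hgMb⟩ : Mb) ^ 3 = 1 := Subtype.ext (by
        rw [SubmonoidClass.coe_pow, OneMemClass.coe_one, ← hg]; exact pow_orderOf_eq_one g)
      obtain ⟨c, hc⟩ := isConj_iff.1 (JFourM22Facts97.three_class (f w3) (f ⟨g, hgMb⟩)
        (orderOf_eq_prime (by rw [← map_pow, hw3c, map_one]) hfw3)
        (orderOf_eq_prime (by rw [← map_pow, hg3, map_one]) hfg))
      obtain ⟨m, rfl⟩ := hfs c
      obtain ⟨i, hi, hki⟩ := hkerpow (w3⁻¹ * (m⁻¹ * ⟨g, hgMb⟩ * m)) (by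
        rw [map_mul, map_mul, map_mul, map_inv, map_inv, ← hc]; group)
      have e : (m : X)⁻¹ * g * m = (w3 : X) * n ^ i := by
        simp only [Subgroup.coe_mul, InvMemClass.coe_inv] at hki
        rw [← hki]; group
      have hge : g = (m : X) * ((m : X)⁻¹ * g * m) * (m : X)⁻¹ := by group
      rw [hge, card_fixed_conj, e, show (w3 : X) = (x : X) * w * w from rfl]
      rcases (show i = 0 ∨ i = 1 ∨ i = 2 by omega) with rfl | rfl | rfl
      · rw [pow_zero, mul_one, card_fixed h hν a1]
        exact count_W.1.le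
      · rw [pow_one, card_fixed h hν (acts_code h a1 aS)]
        exact count_W.2.1.le
      · rw [pow_two, card_fixed h hν (acts_code h a1 aSS)]
        exact count_W.2.2.le

end Cfsg.Agent.JFourFacts67
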