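import Mathlib
import Cfsg.Agent.Lib.JFourFacts67
import Cfsg.Agent.Lib.JFourCases67
import Cfsg.Agent.Lib.ZStarTheorem

/-!
In a simple group of Janko-four type the central involution `z` has a conjugate different from itself in
the two-core `E` of its centraliser.
-/

set_option autoImplicit false
set_option linter.style.haveILetI false
set_option linter.unusedSectionVars false
set_option maxHeartbeats 800000

namespace Cfsg.Agent.JFourMoved67

open Subgroup Cfsg.Agent.LargeExtraspecial Cfsg.Agent.FischerFrame18 Cfsg.Agent.JFourSetting97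
  Cfsg.Agent.JFourModule85 Cfsg.Agent.JFourLinear67 Cfsg.Agent.JFourPair67

universe u

attribute [local instance] Classical.propDecidable

variable {G : Type u} [Group G] [Finite G]

/-- The linear hypotheses hold for the quotient of the centraliser. -/
theorem exists_mod {z : G} {P : Subgroup G} {V : Type u} [AddCommGroup V] {zc : ↥(HH z)}
    {π : ↥(HH z) → V} {ρ : ↥(HH z) ⧸ QQ z →* AddMonoid.End V} {q : V → ZMod 2}
    {n : ↥(HH z) ⧸ QQ z} {Mb : Subgroup (↥(HH z) ⧸ QQ z)} (D : Data z P zc π ρ q n Mb) :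
    Mod ρ q n Mb := by
  haveI : Fintype (GaloisField 2 2) := Fintype.ofFinite _
  have hc : Fintype.card (GaloisField 2 2) = 4 := by
    rw [← Nat.card_eq_fintype_card, GaloisField.card 2 2 (by norm_num)]; norm_num
  obtain ⟨s, hs⟩ := U62Mon93.exists_S4 hc
  obtain ⟨h1, h2⟩ := JFourFacts67.facts D.hyp D.index_two hs
  exact
    { orth := D.orth
      rel := D.hyp.fx.rel
      order_n := D.hyp.order_n
      comm := D.hyp.comm_n
      invert := D.invert
      index_two := D.index_two
      invol_fix := h1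
      three_fix := h2 }

/-- The situation of the pair argument. -/
theorem exists_sit {z : G} {P : Subgroup G} (hJ : Cfsg.IsOfJankoFourTypeWith z P)
    (hweak : ∀ g, g * z * g⁻¹ ∈ Cfsg.twoCoreOfCentralizer z → g * z * g⁻¹ = z) :
    ∃ (V : Type u) (_ : AddCommGroup V) (π : G → V) (β : G → ↥(HH z) ⧸ QQ z)
      (ρ : ↥(HH z) ⧸ QQ z →* AddMonoid.End V) (q : V → ZMod 2) (n : ↥(HH z) ⧸ QQ z)
      (Mb : Subgroup (↥(HH z) ⧸ QQ z)),
      Sit z (Cfsg.twoCoreOfCentralizer z) π β ρ q n Mb := by
  obtain ⟨V, _, zc, π₀, ρ, q, n, Mb, D⟩ := exists_data hJ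
  obtain ⟨hz, -, hcard, -⟩ := hJ
  haveI : Fact (Nat.Prime 2) := ⟨Nat.prime_two⟩
  have hmem : ∀ {x : G}, x * z = z * x → x ∈ HH z := fun h => mem_centralizer_singleton_iff.2 h
  have hEH : ∀ {x : G}, x ∈ Cfsg.twoCoreOfCentralizer z →
      ∃ y : ↥(HH z), y ∈ QQ z ∧ (y : G) = x := fun hx => by
    obtain ⟨y, hy, e⟩ := hx
    exact ⟨y, hy, e⟩
  let π : G → V := fun x => if h : x ∈ HH z then π₀ ⟨x, h⟩ else 0
  let β : G → ↥(HH z) ⧸ QQ z := fun x => if h : x ∈ HH z then mk z ⟨x, h⟩ else 1
  have hπ : ∀ y : ↥(HH z), π (y : G) = π₀ y := fun y => dif_pos y.2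
  have hβ : ∀ y : ↥(HH z), β (y : G) = mk z y := fun y => dif_pos y.2
  refine ⟨V, _, π, β, ρ, q, n, Mb,
    { mo := exists_mod D
      zz := by rw [← pow_two, ← hz]; exact pow_orderOf_eq_one z
      z_ne := fun e => by rw [e, orderOf_one] at hz; norm_num at hz
      z_mem := by
        have h := mem_E.2 D.ext.mem
        rwa [D.zc_val] at h
      cen := fun e he => by
        obtain ⟨y, -, rfl⟩ := hEH he
        exact mem_centralizer_singleton_iff.1 y.2
      two := IsPGroup.of_card hcard
      conjE := fun h hh e he => by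
        obtain ⟨y, hy, rfl⟩ := hEH he
        exact mem_E (x := ⟨h, hmem hh⟩ * y * ⟨h, hmem hh⟩⁻¹) |>.2
          ((HallCore.pCore_normal 2 _).conj_mem y hy ⟨h, hmem hh⟩)
      add := fun x hx y hy => by
        obtain ⟨a, ha, rfl⟩ := hEH hx
        obtain ⟨b, hb, rfl⟩ := hEH hy
        rw [← Subgroup.coe_mul, hπ, hπ, hπ, D.link.add a ha b hb]
      ker := fun x hx => by
        obtain ⟨a, ha, rfl⟩ := hEH hx
        rw [hπ, D.link.ker a ha]
        refine or_congr ⟨fun e => by rw [e, OneMemClass.coe_one], fun e => Subtype.ext e⟩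
          ⟨fun e => by rw [e, D.zc_val], fun e => Subtype.ext (e.trans D.zc_val.symm)⟩
      surj := fun v => by
        obtain ⟨a, ha, e⟩ := D.link.surj v
        exact ⟨a, mem_E.2 ha, (hπ a).trans e⟩
      equiv := fun h hh x hx => by
        obtain ⟨a, ha, rfl⟩ := hEH hx
        have e := D.link.equiv ⟨h, hmem hh⟩ a ha
        rw [← hπ, ← hπ] at e
        rw [show β h = mk z ⟨h, hmem hh⟩ from hβ ⟨h, hmem hh⟩]
        exact e
      qval := fun x hx => by
        obtain ⟨a, ha, rfl⟩ := hEH hx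
        rw [hπ, D.link.qval a ha]
        split_ifs with h1 h2 h2 <;>
          first | rfl | exact absurd (congrArg Subtype.val h1) h2 | exact absurd (Subtype.ext h2) h1
      polar := fun x hx y hy => by
        obtain ⟨a, ha, rfl⟩ := hEH hx
        obtain ⟨b, hb, rfl⟩ := hEH hy
        rw [hπ, hπ, D.link.polar a ha b hb]
        split_ifs with h1 h2 h2 <;>
          first | rfl | exact absurd (congrArg Subtype.val h1) h2 | exact absurd (Subtype.ext h2) h1
      bmul := fun a b ha hb => by
        have e := map_mul (mk z) ⟨a, hmem ha⟩ ⟨b, hmem hb⟩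
        rw [← hβ, ← hβ, ← hβ] at e
        exact e
      bker := fun a ha => by
        rw [show β a = mk z ⟨a, hmem ha⟩ from hβ ⟨a, hmem ha⟩]
        exact (QuotientGroup.eq_one_iff _).trans mem_E.symm
      bsurj := fun x => by
        obtain ⟨a, rfl⟩ := QuotientGroup.mk'_surjective (QQ z) x
        exact ⟨a, mem_centralizer_singleton_iff.1 a.2, hβ a⟩
      weak := hweak }⟩

/-- In a simple group of Janko-four type the involution `z` is not weakly closed in the two-core `E`
of its centraliser. -/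
theorem exists_moved [IsSimpleGroup G] (hG : ¬ IsMulCommutative G) {z : G} {P : Subgroup G}
    (hJ : Cfsg.IsOfJankoFourTypeWith z P) :
    ∃ g, g * z * g⁻¹ ∈ Cfsg.twoCoreOfCentralizer z ∧ g * z * g⁻¹ ≠ z := by
  by_contra hcon
  push Not at hcon
  obtain ⟨V, _, π, β, ρ, q, n, Mb, S⟩ := exists_sit hJ hcon
  have hne : ¬ Cfsg.IsIsolatedInvolution z := by
    intro hz
    have hO : Cfsg.pPrimeCore 2 G = ⊥ := by
      haveI := HallCore.pPrimeCore_normal 2 G
      refine (IsSimpleGroup.eq_bot_or_eq_top_of_normal _ inferInstance).resolve_right fun e => ?_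
      exact ZStarTheorem.notMem_pPrimeCore hJ.1 (e ▸ Subgroup.mem_top z)
    have hc := ZStarTheorem.mem_center_of_isolated hz hO
    rcases IsSimpleGroup.eq_bot_or_eq_top_of_normal (Subgroup.center G) inferInstance with e | e
    · rw [e, Subgroup.mem_bot] at hc
      exact S.z_ne hc
    · exact hG ⟨⟨fun a b => Subgroup.mem_center_iff.1
        (e ▸ Subgroup.mem_top b : b ∈ Subgroup.center G) a⟩⟩
  have hex : ∃ g, Commute z (g * z * g⁻¹) ∧ g * z * g⁻¹ ≠ z := by
    by_contra h
    push Not at h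
    exact hne ⟨hJ.1, h⟩
  obtain ⟨g, hgc, hgn⟩ := hex
  exact JFourCases67.no_pair S ⟨hgc.eq.symm, hgn⟩

end Cfsg.Agent.JFourMoved67
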