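import Mathlib
import Cfsg.Agent.Lib.J4Orbit48
import Cfsg.Agent.Lib.J4Thompson85
import Cfsg.Agent.Lib.JFourMoved67

/-!
The normaliser of the elementary abelian subgroup of order `2 ^ 11` of a simple group of Janko-four
type: its intersection with the centraliser of the involution has order `2 ^ 21 * 135`, the subgroup
contains `1771` conjugates of the involution, and the normaliser is transitive on the others.
-/

set_option autoImplicit false
set_option linter.unusedSectionVars false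
set_option linter.style.haveILetI false
set_option maxHeartbeats 1000000
set_option maxRecDepth 100000

namespace Cfsg.Agent.J4Fusion18

open Subgroup Cfsg.Agent.LargeExtraspecial Cfsg.Agent.U62Mon93 Cfsg.Agent.LFForm89
  Cfsg.Agent.LFMat89 Cfsg.Agent.J4Syl18 Cfsg.Agent.JFourSetting97 Cfsg.Agent.JFourModule85
  Cfsg.Agent.J4Elem85 Cfsg.Agent.J4Orbit48 Cfsg.Agent.J4OrbitX48 Cfsg.Agent.J4Thompson85
open Cfsg.Agent.J4Coord85 (Hyp Frame Acts op)

universe u

attribute [local instance] Classical.propDecidable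

/-- the number of singular codes -/
theorem sing_ok : ((List.range 4096).filter fun c => !Nat.beq c 0 && !LFCheck89.qpar c).length = 2079 := by
  decide +kernel

/-- a product of three normalising codes has order three and fixes a vector of the larger orbit -/
theorem three_ok :
    let m := J4Check18.normC.getD 7 0
    let t := J4Check18.normC.getD 0 0
    let g := LFCheck89.mulM m (LFCheck89.mulM t t)
    LFCheck89.mulM g (LFCheck89.mulM g g) = LFCheck89.idM ∧
      LFCheck89.app g 1689 = 1689 ∧ LFCheck89.mulM g g ≠ g := by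
  decide +kernel

/-! ### Conjugation by one element on a set -/

theorem card_modEq_fixed {G : Type*} [Group G] [Finite G] {p : ℕ} [Fact p.Prime] {m : G}
    (hm : orderOf m = p) {S : Set G} (hS : ∀ x ∈ S, m * x * m⁻¹ ∈ S) :
    S.ncard ≡ {x | x ∈ S ∧ m * x * m⁻¹ = x}.ncard [MOD p] := by
  classical
  haveI : Fintype S := Fintype.ofFinite _
  let f : Function.End S := fun x => ⟨m * x * m⁻¹, hS x x.2⟩
  have hpow : ∀ k : ℕ, ∀ x : S, (((f ^ k : Function.End S) x : S) : G) = m ^ k * x * (m ^ k)⁻¹ := by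
    intro k
    induction k with
    | zero => intro x; simp [Function.End.one_def]
    | succ k ih =>
      intro x
      rw [pow_succ' f k, pow_succ' m k]
      show m * ((f ^ k : Function.End S) x : G) * m⁻¹ = _
      rw [ih]; group
  have h1 : f ^ p ^ 1 = 1 := by
    funext x
    refine Subtype.ext ?_
    rw [hpow, pow_one, ← hm, pow_orderOf_eq_one]
    simp [Function.End.one_def]
  have h := Equiv.Perm.card_fixedPoints_modEq h1
  rw [← Nat.card_eq_fintype_card, Nat.card_coe_set_eq] at h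
  refine h.trans ?_
  refine (fun e => (e : _ = _) ▸ Nat.ModEq.refl _ :
    Fintype.card (Function.fixedPoints f) = {x | x ∈ S ∧ m * x * m⁻¹ = x}.ncard →
      Fintype.card (Function.fixedPoints f) ≡ {x | x ∈ S ∧ m * x * m⁻¹ = x}.ncard [MOD p]) ?_
  rw [← Nat.card_eq_fintype_card, ← Nat.card_coe_set_eq]
  refine Nat.card_congr
    { toFun := fun x => ⟨x.1.1, x.1.2, congrArg Subtype.val x.2⟩
      invFun := fun x => ⟨⟨x.1, x.2.1⟩, Subtype.ext x.2.2⟩
      left_inv := fun x => rfl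
      right_inv := fun x => rfl }

theorem orbit_dvd {G : Type*} [Group G] [Finite G] (M : Subgroup G) (x : G) :
    {b | ∃ m ∈ M, m * x * m⁻¹ = b}.ncard ∣ Nat.card M := by
  letI : MulAction M G := MulAction.compHom G ((MulAut.conj (G := G)).comp M.subtype)
  have e : {b | ∃ m ∈ M, m * x * m⁻¹ = b} = MulAction.orbit M x := by
    ext b
    exact ⟨fun ⟨m, hm, e⟩ => ⟨⟨m, hm⟩, e⟩, fun ⟨⟨m, hm⟩, e⟩ => ⟨m, hm, e⟩⟩
  rw [e, ← MulAction.index_stabilizer]
  exact Subgroup.index_dvd_card _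


theorem op_inj' {X : Type*} [Group X] [Finite X] {V : Type*} [AddCommGroup V] (ρ : X →* AddMonoid.End V) {g : X}
    {a b : V} (e : op ρ g a = op ρ g b) : a = b := by
  have h := congrArg (op ρ g⁻¹) e
  rwa [← rho_mul, ← rho_mul, inv_mul_cancel, rho_one, rho_one] at h

theorem card_orbit_mul {G : Type*} [Group G] [Finite G] (M : Subgroup G) (x : G) {k : ℕ}
    (hk : Nat.card ↥(M ⊓ centralizer ({x} : Set G)) = k) :
    Nat.card M = {b | ∃ m ∈ M, m * x * m⁻¹ = b}.ncard * k := by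
  letI : MulAction M G := MulAction.compHom G ((MulAut.conj (G := G)).comp M.subtype)
  have e : {b | ∃ m ∈ M, m * x * m⁻¹ = b} = MulAction.orbit M x := by
    ext b
    exact ⟨fun ⟨m, hm, e⟩ => ⟨⟨m, hm⟩, e⟩, fun ⟨⟨m, hm⟩, e⟩ => ⟨m, hm, e⟩⟩
  have hs : MulAction.stabilizer M x = (M ⊓ centralizer ({x} : Set G)).subgroupOf M := by
    ext g
    rw [MulAction.mem_stabilizer_iff, Subgroup.mem_subgroupOf, Subgroup.mem_inf,
      Subgroup.mem_centralizer_singleton_iff]
    show (g : G) * x * (g : G)⁻¹ = x ↔ _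
    rw [mul_inv_eq_iff_eq_mul]
    exact ⟨fun h => ⟨g.2, h⟩, fun h => h.2⟩
  rw [e, ← MulAction.index_stabilizer, ← hk, ← Nat.card_congr
    (Subgroup.subgroupOfEquivOfLe (inf_le_left : M ⊓ centralizer ({x} : Set G) ≤ M)).toEquiv, ← hs,
    Subgroup.index_mul_card]

/-- A subgroup acting freely by conjugation on a set has order dividing the cardinality of the set. -/
theorem free_dvd {G : Type*} [Group G] [Finite G] (C : Subgroup G) (S : Set G)
    (hS : ∀ c ∈ C, ∀ b ∈ S, c * b * c⁻¹ ∈ S) (hfree : ∀ c ∈ C, ∀ b ∈ S, c * b * c⁻¹ = b → c = 1) :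
    Nat.card C ∣ S.ncard := by
  letI : MulAction C S :=
    { smul := fun c b => ⟨(c : G) * b * (c : G)⁻¹, hS c c.2 b b.2⟩
      one_smul := fun b => Subtype.ext (show (1 : G) * b * (1 : G)⁻¹ = b by group)
      mul_smul := fun c d b => Subtype.ext
        (show ((c : G) * d) * b * ((c : G) * d)⁻¹ = c * (d * b * (d : G)⁻¹) * (c : G)⁻¹ by group) }
  have hst : ∀ b : S, MulAction.stabilizer C b = ⊥ := fun b =>
    (Subgroup.eq_bot_iff_forall _).2 fun c hc => Subtype.ext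
      (hfree c c.2 b b.2 (congrArg Subtype.val (MulAction.mem_stabilizer_iff.1 hc)))
  have e1 : S ≃ Σ ω : Quotient (MulAction.orbitRel C S), C ⧸ MulAction.stabilizer C ω.out :=
    MulAction.selfEquivSigmaOrbitsQuotientStabilizer C S
  have e2 : ∀ ω : Quotient (MulAction.orbitRel C S), C ⧸ MulAction.stabilizer C ω.out ≃ C := fun ω =>
    (Subgroup.quotientEquivOfEq (hst ω.out)).trans (QuotientGroup.quotientBot (G := C)).toEquiv
  have e3 := Nat.card_congr ((e1.trans (Equiv.sigmaCongrRight e2)).trans (Equiv.sigmaEquivProd _ _))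
  rw [Nat.card_prod, Nat.card_coe_set_eq] at e3
  exact ⟨_, e3.trans (mul_comm _ _)⟩

/-- Sylow counting for a subgroup of prime order which is a Sylow subgroup. -/
theorem sylow_count {X : Type*} [Group X] [Finite X] {p : ℕ} [Fact p.Prime] {m : X}
    (hm : orderOf m = p) (hp2 : ¬ p * p ∣ Nat.card X) :
    ∃ n c, n % p = 1 ∧ c ∣ p - 1 ∧
      n * (Nat.card ↥(centralizer ({m} : Set X)) * c) = Nat.card X := by
  have hp : p.Prime := Fact.out
  have h0 : Nat.card X ≠ 0 := Nat.card_pos.ne'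
  have hdvd : p ∣ Nat.card X := hm ▸ orderOf_dvd_natCard m
  have hf : (Nat.card X).factorization p = 1 := by
    refine le_antisymm ?_ (hp.factorization_pos_of_dvd h0 hdvd)
    by_contra hlt
    push Not at hlt
    exact hp2 (by rw [← pow_two]; exact (hp.pow_dvd_iff_le_factorization h0).2 hlt)
  set Z := Subgroup.zpowers m with hZ
  have hZc : Nat.card Z = p := by rw [hZ, Nat.card_zpowers, hm]
  let S : Sylow p X := Sylow.ofCard Z (by rw [hZc, hf, pow_one])
  have hn : Nat.card (Sylow p X) = (normalizer (Z : Set X)).index := S.card_eq_index_normalizer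
  have hone : Nat.card (Sylow p X) % p = 1 := by
    have h := card_sylow_modEq_one p X
    rwa [Nat.ModEq, Nat.one_mod_eq_one.2 hp.ne_one] at h
  refine ⟨_, Nat.card Z.normalizerMonoidHom.range, hone, ?_, ?_⟩
  · have h := Subgroup.card_subgroup_dvd_card Z.normalizerMonoidHom.range
    rwa [IsCyclic.card_mulAut, hZc, Nat.totient_prime hp] at h
  · have hC : centralizer (Z : Set X) = centralizer ({m} : Set X) := by
      rw [hZ, Subgroup.zpowers_eq_closure, Subgroup.centralizer_closure]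
    have hle : centralizer (Z : Set X) ≤ normalizer (Z : Set X) := fun g hg => by
      refine Subgroup.mem_normalizer_fintype fun x hx => ?_
      rw [← (Subgroup.mem_centralizer_iff.1 hg x hx), mul_inv_cancel_right]
      exact hx
    have h := Subgroup.card_mul_index Z.normalizerMonoidHom.ker
    rw [Subgroup.index_ker, Subgroup.normalizerMonoidHom_ker,
      Nat.card_congr (Subgroup.subgroupOfEquivOfLe hle).toEquiv, hC] at h
    rw [h, hn, mul_comm, Subgroup.card_mul_index]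

variable {G : Type u} [Group G] [Finite G] {z : G} {P : Subgroup G}
variable {V : Type u} [AddCommGroup V] {zc : ↥(HH z)}
  {π : ↥(HH z) → V} {ρ : ↥(HH z) ⧸ QQ z →* AddMonoid.End V}
  {q : V → ZMod 2} {n : ↥(HH z) ⧸ QQ z}
  {Mb : Subgroup (↥(HH z) ⧸ QQ z)}
variable (D : Data z P zc π ρ q n Mb)
variable {F : Type} [Field F] [Fintype F] {s : F} {h : S4 s} {ν : (Fin 6 → F) → V}
  (C : J4Syl18.Coord h ρ q n Mb ν)

include D C

/-! ### The stabiliser inside the centraliser -/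

theorem card_H : Nat.card ↥(HH z) = 2 ^ 13 * 2661120 := by
  rw [Subgroup.card_eq_card_quotient_mul_card_subgroup (QQ z), D.card_X, D.card_Q]
  norm_num

theorem AG_normal {m x : G} (hm : m ∈ Subgroup.normalizer (AG D C : Set G)) (hx : x ∈ AG D C) :
    m * x * m⁻¹ ∈ AG D C :=
  (Subgroup.mem_normalizer_iff.1 hm x).1 hx

theorem NA_normalizer {g : ↥(HH z)} (hg : g ∈ NA D C) :
    (g : G) ∈ Subgroup.normalizer (AG D C : Set G) := by
  refine Subgroup.mem_normalizer_fintype ?_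
  rintro _ ⟨x, hx, rfl⟩
  exact ⟨g * x * g⁻¹, NA_conj D C hg hx, rfl⟩

theorem mem_NA {g : ↥(HH z)} (hg : (g : G) ∈ Subgroup.normalizer (AG D C : Set G)) : g ∈ NA D C := by
  refine J4Syl18.mem_normalizer (hyp D) C fun e he => ?_
  obtain ⟨-, -, hmap, -⟩ := AA_facts D C
  rw [← hmap] at he ⊢
  obtain ⟨a, ha, rfl⟩ := he
  refine ⟨g * a * g⁻¹, ?_, by simp⟩
  obtain ⟨b, hb, e⟩ := AG_normal D C hg (x := (a : G)) ⟨a, ha, rfl⟩
  have : b = g * a * g⁻¹ := Subtype.ext e
  exact this ▸ hb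

theorem N_Fix {g : ↥(HH z) ⧸ QQ z}
    (hg : g ∈ Subgroup.normalizer (E1 (hyp D) C : Set (↥(HH z) ⧸ QQ z))) {v : V}
    (hv : v ∈ J4Syl18.Fix ρ (E1 (hyp D) C)) : op ρ g v ∈ J4Syl18.Fix ρ (E1 (hyp D) C) := by
  intro y hy
  have h1 : g⁻¹ * y * g ∈ E1 (hyp D) C := by
    refine (Subgroup.mem_normalizer_iff.1 hg _).2 ?_
    rw [show g * (g⁻¹ * y * g) * g⁻¹ = y by group]
    exact hy
  calc op ρ y (op ρ g v) = op ρ g (op ρ (g⁻¹ * y * g) v) := by
        simp only [← rho_mul]; congr 2; group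
    _ = _ := by rw [hv _ h1]

theorem singular_ncard : {v : V | v ≠ 0 ∧ q v = 0}.ncard = 2079 := by
  classical
  set l := (List.range 4096).filter fun c => !Nat.beq c 0 && !LFCheck89.qpar c with hl
  have hnd : l.Nodup := List.nodup_range.filter _
  have hset : {v : V | v ≠ 0 ∧ q v = 0} =
      ((l.toFinset.image (nc s ν) : Finset V) : Set V) := by
    ext v
    obtain ⟨c, hc, rfl⟩ := exists_nc (hyp D) C v
    simp only [Set.mem_setOf_eq, Finset.coe_image, Set.mem_image, Finset.mem_coe, List.mem_toFinset,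
      hl, List.mem_filter, List.mem_range, Bool.and_eq_true, Bool.not_eq_true']
    constructor
    · rintro ⟨h0, hq⟩
      refine ⟨c, ⟨hc, Bool.eq_false_iff.2 fun e => h0 (by
        rw [Nat.eq_of_beq_eq_true e, nc_zero (hyp D) C]), ?_⟩, rfl⟩
      rw [q_nc (hyp D) C] at hq
      cases hh : LFCheck89.qpar c
      · rfl
      · rw [hh, if_pos rfl] at hq; exact absurd hq one_ne_zero
    · rintro ⟨d, ⟨hd, hd0, hdq⟩, e⟩
      obtain rfl := nc_inj (hyp D) C hd hc e
      refine ⟨fun e0 => ?_, by rw [q_nc (hyp D) C, hdq]; rfl⟩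
      rw [← nc_zero (hyp D) C] at e0
      rw [nc_inj (hyp D) C hd (by norm_num) e0] at hd0
      exact absurd hd0 (by decide)
  rw [hset, Set.ncard_coe_finset, Finset.card_image_of_injOn, List.toFinset_card_of_nodup hnd]
  · exact sing_ok
  · intro a ha b hb e
    simp only [Finset.mem_coe, List.mem_toFinset, hl, List.mem_filter, List.mem_range] at ha hb
    exact nc_inj (hyp D) C ha.1 hb.1 e

/-- The index of the normaliser of the first subgroup is at least `33`. -/
theorem index_ge :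
    33 ≤ (Subgroup.normalizer (E1 (hyp D) C : Set (↥(HH z) ⧸ QQ z))).index := by
  classical
  haveI := finiteV D
  set X := ↥(HH z) ⧸ QQ z
  set N := Subgroup.normalizer (E1 (hyp D) C : Set X)
  set U0 := {v : V | v ∈ J4Syl18.Fix ρ (E1 (hyp D) C) ∧ v ≠ 0} with hU0
  have hU : U0.ncard = 63 := by
    have e : U0 = (J4Syl18.Fix ρ (E1 (hyp D) C) : Set V) \ {0} := by ext v; simp [hU0]
    rw [e, Set.ncard_sdiff_singleton_of_mem (J4Syl18.Fix ρ (E1 (hyp D) C)).zero_mem,
      ← Nat.card_coe_set_eq, SetLike.coe_sort_coe, card_Fix_E1 (hyp D) C]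
  have key : ∀ v : {v : V // v ≠ 0 ∧ q v = 0}, ∃ c : X ⧸ N, op ρ c.out⁻¹ v.1 ∈ U0 := by
    intro v
    obtain ⟨g, -, hg⟩ := reach (hyp D) C v.2.2
    refine ⟨(g⁻¹ : X), ?_, fun e => v.2.1 ?_⟩
    · obtain ⟨m, hm⟩ := QuotientGroup.mk_out_eq_mul N g⁻¹
      rw [hm, mul_inv_rev, inv_inv, rho_mul]
      exact N_Fix D C (inv_mem m.2) hg
    · exact op_inj' ρ (e.trans (map_zero _).symm)
  choose c hc using key
  let f : {v : V // v ≠ 0 ∧ q v = 0} → (X ⧸ N) × U0 := fun v => (c v, ⟨_, hc v⟩)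
  have hf : Function.Injective f := fun a b e => by
    simp only [f, Prod.mk.injEq, Subtype.mk.injEq] at e
    have h2 := e.2
    rw [e.1] at h2
    exact Subtype.ext (op_inj' ρ h2)
  have h1 := Nat.card_le_card_of_injective f hf
  rw [Nat.card_prod, Nat.card_coe_set_eq U0, hU, ← Subgroup.index_eq_card,
    show Nat.card {v : V // v ≠ 0 ∧ q v = 0} = 2079 from
      (Nat.card_coe_set_eq {v : V | v ≠ 0 ∧ q v = 0}).trans (singular_ncard D C)] at h1
  omega

/-- The order of the normaliser of the first subgroup has a factor `135`. -/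
theorem dvd_135 : 135 ∣ Nat.card (Subgroup.normalizer (E1 (hyp D) C : Set (↥(HH z) ⧸ QQ z))) := by
  classical
  set N := Subgroup.normalizer (E1 (hyp D) C : Set (↥(HH z) ⧸ QQ z)) with hNdef
  letI : MulAction N V :=
    { smul := fun g v => op ρ g.1 v
      one_smul := fun v => rho_one ρ v
      mul_smul := fun a b v => rho_mul ρ a.1 b.1 v }
  set w := nc s ν 1689 with hwdef
  obtain ⟨-, hn45, -, hl45, hcases, h18, h45⟩ := orb_facts (hyp D) C
  have hlt : ∀ c ∈ J4Data18.uList, c < 4096 := fun c hc => (uList_spec (hyp D) C hc).1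
  have h1689 : (1689 : ℕ) ∈ J4Data18.u45 := by decide +kernel
  obtain ⟨g0, -, hg0, e0⟩ := trans45 (hyp D) C h1689
  have horb : MulAction.orbit N w =
      ((J4Data18.u45.toFinset.image (nc s ν) : Finset V) : Set V) := by
    ext v
    rw [Finset.coe_image, Set.mem_image]
    constructor
    · rintro ⟨g, rfl⟩
      show ∃ c, c ∈ (J4Data18.u45.toFinset : Set ℕ) ∧ nc s ν c = op ρ g.1 w
      have hgU : op ρ g.1 w ∈ J4Syl18.Fix ρ (E1 (hyp D) C) :=
        N_Fix D C g.2 ((mem_Fix_E1 (hyp D) C).2 ⟨1689, (h45 _ h1689).1, rfl⟩)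
      obtain ⟨c, hc, hgc⟩ := (mem_Fix_E1 (hyp D) C).1 hgU
      refine ⟨c, ?_, hgc.symm⟩
      rw [Finset.mem_coe, List.mem_toFinset]
      rcases hcases c hc with rfl | hh | hh
      · exfalso
        rw [nc_zero (hyp D) C, ← map_zero (op ρ g.1)] at hgc
        have h0 := op_inj' ρ hgc
        rw [hwdef, ← nc_zero (hyp D) C] at h0
        exact absurd (nc_inj (hyp D) C (by norm_num) (by norm_num) h0) (by norm_num)
      · exfalso
        obtain ⟨g', -, -, hg'⟩ := trans18 (hyp D) C hh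
        have h1 : Pt (hyp D) C w := by
          rw [hwdef, ← e0]
          exact Pt_op (hyp D) C D.index_two (Pt_45 (hyp D) C D.index_two) g0
        have hP : Pt (hyp D) C (nc s ν c) := hgc ▸ Pt_op (hyp D) C D.index_two h1 g.1
        rw [← hg'] at hP
        have h5 := Pt_op (hyp D) C D.index_two hP g'⁻¹
        rw [op_inv_op (hyp D) C] at h5
        exact not_Pt_18 (hyp D) C h5
      · exact hh
    · rintro ⟨c, hc, rfl⟩
      rw [Finset.mem_coe, List.mem_toFinset] at hc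
      obtain ⟨g, -, hg, e⟩ := trans45 (hyp D) C hc
      refine ⟨⟨g * g0⁻¹, mul_mem hg (inv_mem hg0)⟩, ?_⟩
      show op ρ (g * g0⁻¹) w = _
      rw [rho_mul, hwdef, ← e0, op_inv_op (hyp D) C, e]
  have h1 : (MulAction.stabilizer N w).index = 45 := by
    rw [MulAction.index_stabilizer, horb, Set.ncard_coe_finset, Finset.card_image_of_injOn,
      List.toFinset_card_of_nodup hn45, hl45]
    intro a ha b hb e
    rw [Finset.mem_coe, List.mem_toFinset] at ha hb
    exact nc_inj (hyp D) C (hlt a (h45 a ha).1) (hlt b (h45 b hb).1) e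
  have hlen : J4Check18.normC.length = 9 := by decide +kernel
  have hreal : ∀ k < 9, ∃ g ∈ N, Acts ρ ν g (matOf s (J4Check18.normC.getD k 0)) := fun k hk => by
    rw [List.getD_eq_getElem _ _ (hlen ▸ hk)]
    obtain ⟨g, -, hg, hga⟩ := normC_real (hyp D) C (List.getElem_mem (hlen ▸ hk))
    exact ⟨g, hg, hga⟩
  obtain ⟨a, haN, haA⟩ := hreal 7 (by norm_num)
  obtain ⟨b, hbN, hbA⟩ := hreal 0 (by norm_num)
  obtain ⟨hcube, hfix, hne⟩ := three_ok
  set gm := LFCheck89.mulM (J4Check18.normC.getD 7 0)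
    (LFCheck89.mulM (J4Check18.normC.getD 0 0) (J4Check18.normC.getD 0 0)) with hgm
  have hgA : Acts ρ ν (a * (b * b)) (matOf s gm) := fun v => by
    rw [rho_mul, rho_mul, hbA, hbA, haA, hgm, matOf_mul h, matOf_mul h, Matrix.mulVec_mulVec,
      Matrix.mulVec_mulVec]
    simp only [mul_assoc]
  set g := a * (b * b) with hgdef
  have hgN : g ∈ N := mul_mem haN (mul_mem hbN hbN)
  clear_value g
  have hg3 : g ^ 3 = 1 := ext_op (hyp D) C fun v => by
    rw [pow_three', rho_mul, rho_mul, hgA, hgA, hgA, rho_one, Matrix.mulVec_mulVec,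
      Matrix.mulVec_mulVec, mul_assoc, ← matOf_mul h, ← matOf_mul h, hcube, matOf_id h, Matrix.one_mulVec]
  have hg1 : g ≠ 1 := fun e => hne (by
    refine matOf_inj h (mulM_lt _ _) (mulM_lt _ _) (Matrix.ext_of_mulVec_single fun i => C.bij.1 ?_)
    rw [matOf_mul h, ← Matrix.mulVec_mulVec, ← hgA, ← hgA, e, rho_one])
  have hgw : (⟨g, hgN⟩ : N) ∈ MulAction.stabilizer N w := by
    rw [MulAction.mem_stabilizer_iff]
    show op ρ g w = w
    rw [hwdef, acts_nc (hyp D) C hgA, hfix]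
  haveI : Fact (Nat.Prime 3) := ⟨Nat.prime_three⟩
  have ho : orderOf (⟨⟨g, hgN⟩, hgw⟩ : MulAction.stabilizer N w) = 3 :=
    orderOf_eq_prime (Subtype.ext (Subtype.ext (by simpa using hg3))) fun e =>
      hg1 (congrArg (fun x : MulAction.stabilizer N w => (x.1.1)) e)
  obtain ⟨j, hj⟩ := ho ▸ orderOf_dvd_natCard (⟨⟨g, hgN⟩, hgw⟩ : MulAction.stabilizer N w)
  have h7 := Subgroup.card_mul_index (MulAction.stabilizer N w)
  rw [h1] at h7
  exact ⟨j, by rw [← h7, hj]; ring⟩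

/-- The stabiliser of the subgroup in the centraliser. -/
theorem card_NA : Nat.card (NA D C) = 2 ^ 21 * 135 := by
  classical
  haveI : Fact (Nat.Prime 2) := ⟨Nat.prime_two⟩
  set N := Subgroup.normalizer (E1 (hyp D) C : Set (↥(HH z) ⧸ QQ z)) with hNdef
  have hmap : (NA D C).map (mk z) = N :=
    Subgroup.map_comap_eq_self_of_surjective (QuotientGroup.mk'_surjective _) _
  have hc : Nat.card (NA D C) = 2 ^ 13 * Nat.card N := by
    rw [card_eq_mul (QQ z) (NA D C)]
    congr 1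
    · rw [inf_eq_right.2 (Q_le_NA D C), D.card_Q]
    · exact congrArg (fun K : Subgroup (↥(HH z) ⧸ QQ z) => Nat.card K) hmap
  obtain ⟨S, hSH, hAS, huniq⟩ := exists_sylow D C
  obtain ⟨hAea, hAc, -⟩ := AG_facts D C
  have hSN : (S : Subgroup G).subgroupOf (HH z) ≤ NA D C := fun x hx => by
    refine mem_NA D C (Subgroup.mem_normalizer_fintype fun y hy => ?_)
    have hle : cj (x : G) (AG D C) ≤ (S : Subgroup G) := by
      rintro _ ⟨w, hw, rfl⟩
      exact mul_mem (mul_mem hx (hAS hw)) (inv_mem hx)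
    rw [← huniq _ hle (hAea.cj _) (by rw [card_cj, hAc])]
    exact ⟨y, hy, rfl⟩
  have h21 : 2 ^ 21 ∣ Nat.card (NA D C) := by
    refine Dvd.dvd.trans ?_ (Subgroup.card_dvd_of_le hSN)
    rw [Nat.card_congr (Subgroup.subgroupOfEquivOfLe hSH).toEquiv]
    refine S.pow_dvd_card_of_pow_dvd_card (Dvd.dvd.trans ?_ (Subgroup.card_subgroup_dvd_card (HH z)))
    rw [card_H D C]
    norm_num
  rw [hc, show (2 : ℕ) ^ 21 = 2 ^ 13 * 2 ^ 8 by norm_num] at h21
  have h8 : 2 ^ 8 ∣ Nat.card N := Nat.dvd_of_mul_dvd_mul_left (by norm_num) h21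
  have hall := (show Nat.Coprime (2 ^ 8) 135 by norm_num).mul_dvd_of_dvd_of_dvd h8 (dvd_135 D C)
  obtain ⟨j, hj⟩ := hall
  have hi := Subgroup.card_mul_index N
  rw [hj, D.card_X, show 3 * 887040 = 2 ^ 8 * 135 * 77 by norm_num, mul_assoc (2 ^ 8 * 135)] at hi
  have hi' := Nat.eq_of_mul_eq_mul_left (by norm_num) hi
  have h33 : 33 ≤ N.index := index_ge D C
  have hj1 : j = 1 := by
    have hdvd : N.index ∣ 77 := ⟨j, by rw [← hi', mul_comm]⟩
    have h77 : N.index = 77 := by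
      have hlist : ∀ i ≤ 77, i ∣ 77 → 33 ≤ i → i = 77 := by decide +kernel
      exact hlist _ (Nat.le_of_dvd (by norm_num) hdvd) hdvd h33
    rw [h77] at hi'
    omega
  rw [hc, hj, hj1]
  norm_num

/-- The stabiliser of `z` in the normaliser. -/
theorem normalizer_inf : Subgroup.normalizer (AG D C : Set G) ⊓ HH z = (NA D C).map (HH z).subtype := by
  ext x
  constructor
  · rintro ⟨hx, hxH⟩
    exact ⟨⟨x, hxH⟩, mem_NA D C hx, rfl⟩
  · rintro ⟨g, hg, rfl⟩
    exact ⟨NA_normalizer D C hg, g.2⟩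

theorem card_normalizer_inf :
    Nat.card ↥(Subgroup.normalizer (AG D C : Set G) ⊓ HH z) = 2 ^ 21 * 135 := by
  rw [normalizer_inf D C, Subgroup.card_map_of_injective (HH z).subtype_injective, card_NA D C]

theorem semilinear {t : ↥(HH z) ⧸ QQ z} (ht : t ∉ Mb) (v : V) :
    op ρ t (op ρ n v) = op ρ n (op ρ n (op ρ t v)) := by
  have hn2 : n⁻¹ = n * n := inv_eq_of_mul_eq_one_right (by
    rw [← pow_two, ← pow_succ', show 2 + 1 = 3 from rfl, ← (hyp D).order_n, pow_orderOf_eq_one])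
  rw [← rho_mul, ← rho_mul, ← rho_mul]
  congr 2
  rw [mul_inv_eq_iff_eq_mul.1 (D.invert t ht), hn2]

/-- An element of the stabiliser centralising the part inside the two-core lies in the subgroup. -/
theorem kernel_F {g : ↥(HH z)} (hg : g ∈ NA D C)
    (hcent : ∀ x ∈ Qf D (UU D C), g * x = x * g) : g ∈ AA D C := by
  classical
  haveI := finiteV D
  set U := J4Syl18.Fix ρ (E1 (hyp D) C) with hUdef
  have hU64 : Nat.card U = 64 := card_Fix_E1 (hyp D) C
  have hUiso := sing_iso D (Fix_E1_sing (hyp D) C)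
  -- the subgroup fixing the fixed space pointwise
  let K : Subgroup (↥(HH z) ⧸ QQ z) :=
    { carrier := {x | ∀ v ∈ U, op ρ x v = v}
      one_mem' := fun v _ => rho_one ρ v
      mul_mem' := fun {a b} ha hb v hv => by rw [rho_mul, hb v hv, ha v hv]
      inv_mem' := fun {a} ha v hv => by
        conv_lhs => rw [← ha v hv]
        exact op_inv_op (hyp D) C a v }
  have hKMb : K ≤ Mb := by
    intro x hx
    by_contra hxM
    obtain ⟨v, hv, hv0⟩ : ∃ v ∈ U, v ≠ 0 := by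
      by_contra hno
      push Not at hno
      have : U = ⊥ := (AddSubgroup.eq_bot_iff_forall U).2 hno
      rw [this, AddSubgroup.card_bot] at hU64
      norm_num at hU64
    have hnv : op ρ n v ∈ U := N_Fix D C (n_mem_normalizer (hyp D) C) hv
    have e := semilinear D C hxM v
    rw [hx _ hnv, hx v hv] at e
    have hfix : op ρ n v = v := op_inj' ρ e.symm
    have h3 := (hyp D).fx.rel v
    rw [hfix, hfix, (hyp D).fx.two, zero_add] at h3
    exact hv0 h3
  have hKsq : ∀ x ∈ K, x * x = 1 := by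
    intro x hx
    refine (hyp D).faith _ fun v => ?_
    have hin : op ρ x v + v ∈ U := by
      refine sing_perp D hUiso hU64 fun u hu => ?_
      have e : pol q (op ρ x v) (op ρ x u) = pol q v u := by
        simp only [pol, ← map_add, (hyp D).inv]
      rw [hx u hu] at e
      rw [(hyp D).fx.addl, e, z2]
    have h1 := hx _ hin
    rw [map_add, ← rho_mul] at h1
    exact add_right_cancel (h1.trans (add_comm _ _))
  have hEK : E1 (hyp D) C ≤ K := fun x hx v hv => hv x hx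
  have hEq : E1 (hyp D) C = K := by
    refine Subgroup.eq_of_le_of_card_ge hEK ?_
    rw [card_E1 (hyp D) C]
    exact card_le_sixteen (hyp D) C hKMb hKsq (J4Elem85.ea_of_sq hKsq).2
  refine (mem_AE D).2 ⟨?_, fun x hx => (hcent x hx).symm⟩
  rw [hEq]
  intro v hv
  obtain ⟨x, hx, rfl⟩ := D.link.surj v
  have e : g * x * g⁻¹ = x := by rw [hcent x ⟨hx, hv⟩]; group
  have := act D g hx
  rw [e] at this
  exact this.symm

/-! ### Counting -/

/-- An element of prime order normalising the subgroup, not dividing the order of the centraliser,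
centralises a power of two elements, congruent to the order of the subgroup and smaller. -/
theorem prime_fix {p : ℕ} [Fact p.Prime] (hp : ¬ p ∣ 2 ^ 13 * 2661120) {m : G}
    (hm : orderOf m = p) (hmN : m ∈ Subgroup.normalizer (AG D C : Set G)) :
    ∃ k < 11, {x | x ∈ AG D C ∧ m * x * m⁻¹ = x}.ncard = 2 ^ k ∧ 2 ^ k % p = 2 ^ 11 % p := by
  obtain ⟨-, hAc, hzA⟩ := AG_facts D C
  set B := AG D C ⊓ centralizer ({m} : Set G) with hB
  have hset : {x | x ∈ AG D C ∧ m * x * m⁻¹ = x} = (B : Set G) := by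
    ext x
    simp only [hB, Subgroup.coe_inf, Set.mem_inter_iff, SetLike.mem_coe, Set.mem_setOf_eq,
      Subgroup.mem_centralizer_singleton_iff, mul_inv_eq_iff_eq_mul]
    exact and_congr_right fun _ => eq_comm
  have hdvd : Nat.card B ∣ 2 ^ 11 := hAc ▸ Subgroup.card_dvd_of_le inf_le_left
  obtain ⟨k, hk, hBk⟩ := (Nat.dvd_prime_pow Nat.prime_two).1 hdvd
  have hmod := card_modEq_fixed hm (S := (AG D C : Set G)) fun x hx => AG_normal D C hmN hx
  simp only [SetLike.mem_coe] at hmod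
  rw [hset, ← Nat.card_coe_set_eq, ← Nat.card_coe_set_eq, SetLike.coe_sort_coe, SetLike.coe_sort_coe,
    hAc, hBk] at hmod
  refine ⟨k, lt_of_le_of_ne hk fun e => hp ?_, ?_, hmod.symm⟩
  · subst e
    have hBA : B = AG D C := Subgroup.eq_of_le_of_card_ge inf_le_left (by rw [hAc, hBk])
    have hmz : m ∈ centralizer ({z} : Set G) := by
      have hzm : z * m = m * z := Subgroup.mem_centralizer_singleton_iff.1 (hBA.ge hzA).2
      exact Subgroup.mem_centralizer_singleton_iff.2 hzm.symm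
    rw [← card_H D C, ← hm, ← Subgroup.orderOf_mk m hmz]
    exact orderOf_dvd_natCard _
  · rw [hset, ← Nat.card_coe_set_eq, SetLike.coe_sort_coe, hBk]

theorem orbit_z : {b | b ∈ AG D C ∧ IsConj z b} =
    {b | ∃ m ∈ Subgroup.normalizer (AG D C : Set G), m * z * m⁻¹ = b} := by
  obtain ⟨-, -, hzA⟩ := AG_facts D C
  ext b
  constructor
  · rintro ⟨hb, hc⟩
    obtain ⟨g, rfl⟩ := isConj_iff.1 hc
    exact fusion D C hzA hb
  · rintro ⟨m, hm, rfl⟩
    exact ⟨AG_normal D C hm hzA, isConj_iff.2 ⟨m, rfl⟩⟩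

theorem card_normalizer :
    Nat.card (Subgroup.normalizer (AG D C : Set G)) =
      {b | b ∈ AG D C ∧ IsConj z b}.ncard * (2 ^ 21 * 135) := by
  rw [orbit_z D C]
  exact card_orbit_mul (Subgroup.normalizer (AG D C : Set G)) z (card_normalizer_inf D C)

theorem count_not_prime {N p : ℕ} (hN : {b | b ∈ AG D C ∧ IsConj z b}.ncard = N) (hpN : p ∣ N)
    [Fact p.Prime] (hp : ¬ p ∣ 2 ^ 13 * 2661120) (hpow : ∀ k < 11, 2 ^ k % p ≠ 2 ^ 11 % p) :
    False := by
  rw [orbit_z D C] at hN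
  have hdvd : p ∣ Nat.card (Subgroup.normalizer (AG D C : Set G)) :=
    hpN.trans (hN ▸ orbit_dvd _ z)
  obtain ⟨m, hm⟩ := exists_prime_orderOf_dvd_card' p hdvd
  obtain ⟨k, hk, -, hk'⟩ := prime_fix D C hp ((Subgroup.orderOf_coe m).trans hm) m.2
  exact hpow k hk hk'

/-! ### Two impossible counts -/

/-- The count for an element of prime order dividing the number of conjugates once. -/
theorem count_prime {N p : ℕ} [Fact p.Prime] (hN : {b | b ∈ AG D C ∧ IsConj z b}.ncard = N) (hpN : p ∣ N)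
    (hp2 : ¬ p * p ∣ N * (2 ^ 21 * 135)) :
    ∃ m : G, orderOf m = p ∧ m ∈ Subgroup.normalizer (AG D C : Set G) ∧
      ∃ n c, n % p = 1 ∧ c ∣ p - 1 ∧
        n * (Nat.card ↥(Subgroup.normalizer (AG D C : Set G) ⊓ centralizer ({m} : Set G)) * c) =
          N * (2 ^ 21 * 135) := by
  set M := Subgroup.normalizer (AG D C : Set G) with hM
  have hMc : Nat.card M = N * (2 ^ 21 * 135) := hN ▸ card_normalizer D C
  obtain ⟨m, hm⟩ := exists_prime_orderOf_dvd_card' p (G := M) (hMc ▸ hpN.mul_right _)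
  obtain ⟨n, c, h1, h2, h3⟩ := sylow_count hm (hMc ▸ hp2)
  refine ⟨m, (Subgroup.orderOf_coe m).trans hm, m.2, n, c, h1, h2, ?_⟩
  have e : (centralizer ({m} : Set M)).map M.subtype = M ⊓ centralizer ({(m : G)} : Set G) := by
    ext x
    rw [Subgroup.mem_map, Subgroup.mem_inf, Subgroup.mem_centralizer_singleton_iff]
    constructor
    · rintro ⟨y, hy, rfl⟩
      exact ⟨y.2, congrArg Subtype.val (Subgroup.mem_centralizer_singleton_iff.1 hy)⟩
    · rintro ⟨hx, hc⟩
      exact ⟨⟨x, hx⟩, Subgroup.mem_centralizer_singleton_iff.2 (Subtype.ext hc), rfl⟩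
  rw [← e, Subgroup.card_map_of_injective M.subtype_injective, h3, hMc]

theorem conj_mem_class {g b : G} (hg : g ∈ Subgroup.normalizer (AG D C : Set G))
    (hb : b ∈ AG D C ∧ IsConj z b) : g * b * g⁻¹ ∈ {b | b ∈ AG D C ∧ IsConj z b} :=
  ⟨AG_normal D C hg hb.1, hb.2.trans (isConj_iff.2 ⟨g, rfl⟩)⟩

theorem not_2047 (hN : {b | b ∈ AG D C ∧ IsConj z b}.ncard = 2047) : False := by
  classical
  haveI : Fact (Nat.Prime 89) := ⟨by norm_num⟩
  obtain ⟨-, hAc, hzA⟩ := AG_facts D C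
  obtain ⟨m, hm, hmN, n, c, hn1, hc, hcount⟩ := count_prime D C (p := 89) hN (by norm_num) (by norm_num)
  obtain ⟨k, hk, hkc, hkm⟩ := prime_fix D C (by norm_num) hm hmN
  have hk0 : k = 0 := by
    have : ∀ k < 11, 2 ^ k % 89 = 2 ^ 11 % 89 → k = 0 := by decide
    exact this k hk hkm
  subst hk0
  have hfix1 : ∀ x ∈ AG D C, m * x * m⁻¹ = x → x = 1 := by
    intro x hx e
    have h2 := (Set.ncard_eq_one).1 hkc
    obtain ⟨a, ha⟩ := h2
    have hx' : x ∈ ({a} : Set G) := ha ▸ ⟨hx, e⟩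
    have h1' : (1 : G) ∈ ({a} : Set G) := ha ▸ ⟨one_mem _, by group⟩
    exact (Set.mem_singleton_iff.1 hx').trans (Set.mem_singleton_iff.1 h1').symm
  set Cm := Subgroup.normalizer (AG D C : Set G) ⊓ centralizer ({m} : Set G) with hCm
  have hfree : ∀ x ∈ Cm, ∀ b ∈ {b | b ∈ AG D C ∧ IsConj z b}, x * b * x⁻¹ = b → x = 1 := by
    intro x hx b hb hxb
    have hxm : x * m = m * x := Subgroup.mem_centralizer_singleton_iff.1 hx.2
    set T := AG D C ⊓ centralizer ({x} : Set G) with hT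
    have hbT : b ∈ T := ⟨hb.1, Subgroup.mem_centralizer_singleton_iff.2
      (mul_inv_eq_iff_eq_mul.1 hxb).symm⟩
    have hTm : ∀ a ∈ (T : Set G), m * a * m⁻¹ ∈ (T : Set G) := by
      intro a ha
      have hax : a * x = x * a := Subgroup.mem_centralizer_singleton_iff.1 ha.2
      refine ⟨AG_normal D C hmN ha.1, Subgroup.mem_centralizer_singleton_iff.2 ?_⟩
      calc m * a * m⁻¹ * x = m * a * (m⁻¹ * (x * m)) * m⁻¹ := by group
        _ = m * (a * x) * m⁻¹ := by rw [hxm]; group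
        _ = m * x * a * m⁻¹ := by rw [hax]; group
        _ = x * (m * a * m⁻¹) := by rw [← hxm]; group
    have hmod := card_modEq_fixed hm hTm
    have hfs : {a | a ∈ (T : Set G) ∧ m * a * m⁻¹ = a} = {1} := by
      ext a
      refine ⟨fun ha => hfix1 a ha.1.1 ha.2, fun ha => ?_⟩
      obtain rfl := Set.mem_singleton_iff.1 ha
      exact ⟨one_mem T, by group⟩
    obtain ⟨j, hj, hjc⟩ := (Nat.dvd_prime_pow Nat.prime_two).1
      (hAc ▸ Subgroup.card_dvd_of_le (inf_le_left : T ≤ AG D C))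
    rw [hfs, Set.ncard_singleton, ← Nat.card_coe_set_eq, SetLike.coe_sort_coe, hjc] at hmod
    have hj' : j = 0 ∨ j = 11 := by
      have : ∀ j ≤ 11, 2 ^ j % 89 = 1 % 89 → j = 0 ∨ j = 11 := by decide
      exact this j hj hmod
    rcases hj' with rfl | rfl
    · have hb1 : b = 1 := Subgroup.mem_bot.1 (Subgroup.eq_bot_of_card_eq T (by rw [hjc, pow_zero]) ▸ hbT)
      exact absurd (isConj_one_left.1 (hb1 ▸ hb.2)) (z_ne_one D C)
    · have hTA : T = AG D C := Subgroup.eq_of_le_of_card_ge inf_le_left (by rw [hAc, hjc])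
      have hxA := cent_AG D C (g := x) fun a ha =>
        (Subgroup.mem_centralizer_singleton_iff.1 (hTA.ge ha).2).symm
      exact hfix1 x hxA (mul_inv_eq_iff_eq_mul.2 hxm.symm)
  have hCd : Nat.card Cm ∣ 2047 := hN ▸ free_dvd Cm _ (fun x hx b hb => conj_mem_class D C hx.1 hb) hfree
  have hmC : m ∈ Cm := ⟨hmN, Subgroup.mem_centralizer_singleton_iff.2 rfl⟩
  obtain ⟨d, hd⟩ := (hm ▸ (Subgroup.orderOf_mk m hmC ▸ orderOf_dvd_natCard _) : 89 ∣ Nat.card Cm)
  rw [hd] at hCd hcount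
  have hd23 : d ∣ 23 := Nat.dvd_of_mul_dvd_mul_left (by norm_num : 0 < 89)
    (show 89 * d ∣ 89 * 23 by simpa using hCd)
  have hmod : (d * c) % 89 = 84 := by
    have e : n * (d * c) = 23 * (2 ^ 21 * 135) := by
      refine Nat.eq_of_mul_eq_mul_left (by norm_num : 0 < 89) ?_
      rw [← mul_assoc 89 23]
      calc 89 * (n * (d * c)) = n * (89 * d * c) := by ring
        _ = _ := hcount
    have h := congrArg (· % 89) e
    simp only [Nat.mul_mod n, hn1, one_mul, Nat.mod_mod] at h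
    exact h
  have : ∀ d ≤ 23, ∀ c ≤ 88, d ∣ 23 → c ∣ 88 → (d * c) % 89 ≠ 84 := by decide +kernel
  exact this d (Nat.le_of_dvd (by norm_num) hd23) c (Nat.le_of_dvd (by norm_num) hc) hd23 hc hmod

theorem not_127 (hQ : ∀ x ∈ AA D C, x ∈ QQ z → x ≠ 1 → IsConj z (x : G))
    (hN : {b | b ∈ AG D C ∧ IsConj z b}.ncard = 127) : False := by
  classical
  haveI : Fact (Nat.Prime 127) := ⟨by norm_num⟩
  obtain ⟨-, hAc, hzA⟩ := AG_facts D C
  obtain ⟨m, hm, hmN, n, c, hn1, hc, hcount⟩ := count_prime D C (p := 127) hN (by norm_num) (by norm_num)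
  obtain ⟨k, hk, hkc, hkm⟩ := prime_fix D C (by norm_num) hm hmN
  have hk4 : k = 4 := by
    have : ∀ k < 11, 2 ^ k % 127 = 2 ^ 11 % 127 → k = 4 := by decide
    exact this k hk hkm
  subst hk4
  set s := {b | b ∈ AG D C ∧ IsConj z b} with hsdef
  set Cm := Subgroup.normalizer (AG D C : Set G) ⊓ centralizer ({m} : Set G) with hCm
  have hmC : m ∈ Cm := ⟨hmN, Subgroup.mem_centralizer_singleton_iff.2 rfl⟩
  have hzs : z ∈ s := ⟨hzA, IsConj.refl z⟩
  set O := {b | ∃ w ∈ Subgroup.zpowers m, w * z * w⁻¹ = b} with hOdef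
  have hsub : O ⊆ s := by
    rintro b ⟨w, hw, rfl⟩
    exact conj_mem_class D C ((Subgroup.zpowers_le.2 hmN) hw) hzs
  have hOc : O.ncard = 127 := by
    have hd : O.ncard ∣ 127 := by
      have := orbit_dvd (Subgroup.zpowers m) z
      rwa [Nat.card_zpowers, hm] at this
    refine ((Nat.dvd_prime (by norm_num)).1 hd).resolve_left fun h1 => ?_
    obtain ⟨a, ha⟩ := Set.ncard_eq_one.1 h1
    have e1 : z ∈ ({a} : Set G) := ha ▸ ⟨1, one_mem _, by group⟩
    have e2 : m * z * m⁻¹ ∈ ({a} : Set G) := ha ▸ ⟨m, Subgroup.mem_zpowers m, rfl⟩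
    rw [Set.mem_singleton_iff] at e1 e2
    have hmz : m ∈ centralizer ({z} : Set G) :=
      Subgroup.mem_centralizer_singleton_iff.2 (mul_inv_eq_iff_eq_mul.1 (e2.trans e1.symm))
    have hd : orderOf m ∣ Nat.card ↥(HH z) :=
      Subgroup.orderOf_mk m hmz ▸ orderOf_dvd_natCard _
    rw [hm, card_H D C] at hd
    norm_num at hd
  have hOs : O = s := Set.eq_of_subset_of_ncard_le hsub (by rw [hOc, hN]) (Set.toFinite _)
  have hinf : Nat.card ↥(Cm ⊓ centralizer ({z} : Set G)) = 2 ^ 4 := by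
    rw [← SetLike.coe_sort_coe, Nat.card_coe_set_eq, ← hkc]
    congr 1
    ext x
    constructor
    · rintro ⟨⟨hxN, hxc⟩, hxz⟩
      have hxm : x * m = m * x := Subgroup.mem_centralizer_singleton_iff.1 hxc
      refine ⟨?_, mul_inv_eq_iff_eq_mul.2 hxm.symm⟩
      have hfix : ∀ b ∈ s, x * b = b * x := by
        intro b hb
        rw [← hOs] at hb
        obtain ⟨w, hw, rfl⟩ := hb
        have e1 : Commute x z := Subgroup.mem_centralizer_singleton_iff.1 hxz
        obtain ⟨i, rfl⟩ := Subgroup.mem_zpowers_iff.1 hw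
        have e2 : Commute x (m ^ i) := (show Commute x m from hxm).zpow_right i
        exact ((e2.mul_right e1).mul_right e2.inv_right).eq
      refine ⟨⟨x, hxz⟩, kernel_F D C (mem_NA D C hxN) fun y hy => ?_, rfl⟩
      have hy' : y ∈ AA D C ⊓ QQ z := (AA_facts D C).2.2.2 ▸ hy
      by_cases h1 : y = 1
      · rw [h1, mul_one, one_mul]
      · exact Subtype.ext (hfix (y : G) ⟨⟨y, hy'.1, rfl⟩, hQ y hy'.1 hy'.2 h1⟩)
    · rintro ⟨hx, hxm⟩
      exact ⟨⟨Subgroup.le_normalizer hx,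
        Subgroup.mem_centralizer_singleton_iff.2 (mul_inv_eq_iff_eq_mul.1 hxm).symm⟩,
        (AG_le D C) hx⟩
  have horb : {b | ∃ w ∈ Cm, w * z * w⁻¹ = b} = s := by
    refine Set.Subset.antisymm ?_ ?_
    · rintro b ⟨w, hw, rfl⟩
      exact conj_mem_class D C hw.1 hzs
    · rw [← hOs]
      rintro b ⟨w, hw, rfl⟩
      exact ⟨w, (Subgroup.zpowers_le.2 hmC) hw, rfl⟩
  have hCc : Nat.card Cm = 127 * 2 ^ 4 := by rw [card_orbit_mul Cm z hinf, horb, hN]
  rw [hCc] at hcount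
  have hmod : (16 * c) % 127 = 8 := by
    have e : n * (16 * c) = 2 ^ 21 * 135 := by
      refine Nat.eq_of_mul_eq_mul_left (by norm_num : 0 < 127) ?_
      calc 127 * (n * (16 * c)) = n * (127 * 2 ^ 4 * c) := by ring
        _ = _ := hcount
    have h := congrArg (· % 127) e
    simp only [Nat.mul_mod n, hn1, one_mul, Nat.mod_mod] at h
    exact h
  have : ∀ c ≤ 126, c ∣ 126 → (16 * c) % 127 ≠ 8 := by decide +kernel
  exact this c (Nat.le_of_dvd (by norm_num) hc) hc hmod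


/-- The classes of the normaliser inside the centralizer and which of them fuse to `z`. -/
theorem classes [IsSimpleGroup G] (hG : ¬ IsMulCommutative G)
    (hJ : Cfsg.IsOfJankoFourTypeWith z P) : ∃ x5 x85 a b0 : ↥(HH z),
    (x5 ∈ AA D C ∧ x5 ∈ (QQ z) ∧ x5 ≠ 1 ∧ x85 ∈ AA D C ∧ x85 ∈ (QQ z) ∧ a ∈ AA D C ∧ a ∉ (QQ z) ∧ b0 ∈ AA D C) ∧
    (¬ IsConj z (x5 : G) ∧ IsConj z (x85 : G) ∧ ¬ IsConj z (a : G) ∧ IsConj z ((a * zc : ↥(HH z)) : G) ∧
      IsConj z (b0 : G)) ∧
    (∀ x ∈ AA D C, x ∈ (QQ z) → x ≠ 1 → x ≠ zc → Rel D C x5 x ∨ Rel D C x85 x) ∧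
    (∀ b ∈ AA D C, b ∉ (QQ z) → Rel D C a b ∨ Rel D C (a * zc) b ∨ Rel D C b0 b) ∧
    {x | x ∈ AA D C ∧ x ∈ (QQ z) ∧ ¬ IsConj z (x : G) ∧ x ≠ 1}.ncard = 36 ∧
    {x | x ∈ AA D C ∧ x ∉ (QQ z) ∧ ¬ IsConj z (x : G)}.ncard = 240 ∧
    {b | b ∈ AG D C ∧ IsConj z b}.ncard = 1771 := by
  classical
  obtain ⟨x5, x85, hx5, hx85, hx5A, hx85A, h51, h5z, h851, h85z, hnot, hin, hcin⟩ := inside D C
  obtain ⟨a, b0, haA, hb0A, haQ, hb0Q, hout, hcout⟩ := outside D C
  let Pz : ↥(HH z) → Prop := fun w => IsConj z (w : G)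
  have hP : ∀ x y, Rel D C x y → (Pz x ↔ Pz y) := by
    rintro x _ ⟨g, -, rfl⟩
    have hc : IsConj (x : G) ((g * x * g⁻¹ : ↥(HH z)) : G) := isConj_iff.2 ⟨g, rfl⟩
    exact ⟨fun e => IsConj.trans e hc, fun e => IsConj.trans e hc.symm⟩
  have hz1 : z ≠ 1 := (z_ne_one D C)
  have hP1 : ¬ Pz 1 := fun e => hz1 (isConj_one_left.1 e)
  have hPzc : Pz zc := by
    show IsConj z (zc : G)
    rw [D.zc_val]
  -- some class inside `QQ z` fuses
  have hsome : Pz x5 ∨ Pz x85 := by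
    obtain ⟨g, hgE, hgz⟩ := JFourMoved67.exists_moved hG hJ
    set w : ↥(HH z) := ⟨g * z * g⁻¹, ((Subgroup.map_subtype_le _ : _ ≤ HH z) hgE)⟩ with hw
    have hwQ : w ∈ QQ z := mem_E.1 hgE
    have hwP : Pz w := isConj_iff.2 ⟨g, rfl⟩
    have hzz : z * z = 1 := by
      have := congrArg Subtype.val D.ext.zz
      simpa [D.zc_val] using this
    have hw2 : w * w = 1 := Subtype.ext (by
      show g * z * g⁻¹ * (g * z * g⁻¹) = 1
      rw [show g * z * g⁻¹ * (g * z * g⁻¹) = g * (z * z) * g⁻¹ by group, hzz, mul_one, mul_inv_cancel])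
    obtain ⟨t, -, ht⟩ := reach (hyp D) C ((sq_iff D hwQ).1 hw2)
    obtain ⟨t', rfl⟩ := QuotientGroup.mk'_surjective (QQ z) t
    set w' := t' * w * t'⁻¹ with hw'
    have hw'Q : w' ∈ QQ z := (HallCore.pCore_normal 2 _).conj_mem w hwQ t'
    have hw'A : w' ∈ AA D C := (mem_AA_Q D C hw'Q).2 (by
      rw [hw', act D t' hwQ]
      exact ht)
    have hPw' : Pz w' := IsConj.trans hwP (isConj_iff.2 ⟨(t' : G), rfl⟩)
    have h1 : w' ≠ 1 := fun e => hP1 (e ▸ hPw')
    have h2 : w' ≠ zc := fun e => hgz (by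
      have e' : w = t'⁻¹ * zc * t' := by rw [← e, hw']; group
      rw [mul_assoc, ← D.zc_central t', inv_mul_cancel_left] at e'
      exact (congrArg Subtype.val e').trans D.zc_val)
    rcases hin w' hw'A hw'Q h1 h2 with e | e
    · exact Or.inl ((hP _ _ e).2 hPw')
    · exact Or.inr ((hP _ _ e).2 hPw')
  -- the size of the class
  have hO : {b | b ∈ AG D C ∧ IsConj z b}.ncard =
      {b | b ∈ AA D C ∧ b ∈ (QQ z) ∧ Pz b}.ncard + {b | b ∈ AA D C ∧ b ∉ (QQ z) ∧ Pz b}.ncard := by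
    rw [← Set.ncard_union_eq (Set.disjoint_left.2 fun b hb hb' => hb'.2.1 hb.2.1) (Set.toFinite _)
      (Set.toFinite _), ← Set.ncard_image_of_injective _ (Subtype.val_injective (p := fun x => x ∈ HH z))]
    congr 1
    ext b
    constructor
    · rintro ⟨⟨x, hx, rfl⟩, hc⟩
      by_cases hxQ : x ∈ (QQ z)
      · exact ⟨x, Or.inl ⟨hx, hxQ, hc⟩, rfl⟩
      · exact ⟨x, Or.inr ⟨hx, hxQ, hc⟩, rfl⟩
    · rintro ⟨x, (⟨hx, -, hc⟩ | ⟨hx, -, hc⟩), rfl⟩ <;> exact ⟨⟨x, hx, rfl⟩, hc⟩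
  rw [hcin Pz hP hP1, hcout Pz hP, if_pos hPzc] at hO
  have bad : ∀ p : ℕ, p.Prime → p ∣ {b | b ∈ AG D C ∧ IsConj z b}.ncard → ¬ p ∣ 2 ^ 13 * 2661120 →
      (∀ k < 11, 2 ^ k % p ≠ 2 ^ 11 % p) → False := fun p hp h1 h2 h3 =>
    haveI := Fact.mk hp
    count_not_prime D C rfl h1 h2 h3
  have badN : ∀ N, {b | b ∈ AG D C ∧ IsConj z b}.ncard = N →
      (∃ p ∈ [37, 47, 101, 277, 211, 19, 13, 331, 571, 1531, 2011, 367, 607, 1567], N % p = 0) → False := by
    intro N hN ⟨p, hp, hmod⟩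
    have hd : p ∣ {b | b ∈ AG D C ∧ IsConj z b}.ncard := hN ▸ Nat.dvd_of_mod_eq_zero hmod
    have hall : ∀ p ∈ [37, 47, 101, 277, 211, 19, 13, 331, 571, 1531, 2011, 367, 607, 1567],
        ¬ p ∣ 2 ^ 13 * 2661120 ∧ ∀ k < 11, 2 ^ k % p ≠ 2 ^ 11 % p := by decide +kernel
    obtain ⟨h2, h3⟩ := hall p hp
    refine bad p ?_ hd h2 h3
    simp only [List.mem_cons, List.not_mem_nil, or_false] at hp
    rcases hp with rfl | rfl | rfl | rfl | rfl | rfl | rfl | rfl | rfl | rfl | rfl | rfl | rfl | rfl <;> norm_num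
  have hfinal : ¬ Pz x5 ∧ Pz x85 ∧ Pz b0 ∧ (Pz a ↔ ¬ Pz (a * zc)) := by
    by_cases e5 : Pz x5 <;> by_cases e85 : Pz x85
    · exfalso
      have hQall : ∀ x ∈ AA D C, x ∈ QQ z → x ≠ 1 → Pz x := by
        intro x hx hxQ hx1
        by_cases hxz : x = zc
        · exact hxz ▸ hPzc
        · rcases hin x hx hxQ hx1 hxz with e | e
          · exact (hP _ _ e).1 e5
          · exact (hP _ _ e).1 e85
      rw [if_pos e5, if_pos e85] at hO
      by_cases ea : Pz a <;> by_cases eaz : Pz (a * zc) <;> by_cases eb : Pz b0 <;>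
        simp only [ea, eaz, eb, if_true, if_false, Nat.reduceAdd, Nat.reduceMul] at hO <;>
        first
          | exact not_2047 D C hO
          | exact not_127 D C hQall hO
          | exact badN _ hO (by decide)
    · exfalso
      rw [if_pos e5, if_neg e85] at hO
      by_cases ea : Pz a <;> by_cases eaz : Pz (a * zc) <;> by_cases eb : Pz b0 <;>
        simp only [ea, eaz, eb, if_true, if_false, Nat.reduceAdd, Nat.reduceMul] at hO <;>
        exact badN _ hO (by decide)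
    · rw [if_neg e5, if_pos e85] at hO
      by_cases ea : Pz a <;> by_cases eaz : Pz (a * zc) <;> by_cases eb : Pz b0 <;>
        simp only [ea, eaz, eb, if_true, if_false, Nat.reduceAdd, Nat.reduceMul] at hO <;>
        first
          | exact ⟨e5, e85, eb, fun _ => eaz, fun _ => ea⟩
          | exact ⟨e5, e85, eb, fun e => absurd e ea, fun e => absurd eaz e⟩
          | exact (badN _ hO (by decide)).elim
    · exact absurd hsome (by tauto)
  obtain ⟨n5, p85, pb, hpa⟩ := hfinal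
  have hzz : a * zc * zc = a := by rw [mul_assoc, D.ext.zz, mul_one]
  obtain ⟨a', ha'A, ha'Q, hna, hpaz, hout'⟩ : ∃ a', a' ∈ AA D C ∧ a' ∉ (QQ z) ∧ ¬ Pz a' ∧ Pz (a' * zc) ∧
      ∀ b ∈ AA D C, b ∉ (QQ z) → Rel D C a' b ∨ Rel D C (a' * zc) b ∨ Rel D C b0 b := by
    by_cases ea : Pz a
    · refine ⟨a * zc, mul_mem haA (zc_mem D C), fun hQ => haQ ?_, hpa.1 ea, hzz.symm ▸ ea, fun b hb hbQ => ?_⟩
      · exact hzz ▸ mul_mem hQ D.ext.mem
      · rw [hzz]
        rcases hout b hb hbQ with e | e | e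
        · exact Or.inr (Or.inl e)
        · exact Or.inl e
        · exact Or.inr (Or.inr e)
    · exact ⟨a, haA, haQ, ea, not_not.1 fun e => ea (hpa.2 e), hout⟩
  let R : ↥(HH z) → Prop := fun w => ¬ IsConj z (w : G)
  have hR : ∀ x y, Rel D C x y → (R x ↔ R y) := fun x y e => not_congr (hP x y e)
  have hin36 : {x | x ∈ AA D C ∧ x ∈ (QQ z) ∧ ¬ IsConj z (x : G) ∧ x ≠ 1}.ncard = 36 := by
    have := hcin (fun w => R w ∧ w ≠ 1) (fun x y e => and_congr (hR x y e) (by
      obtain ⟨g, -, rfl⟩ := e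
      simp [conj_eq_one_iff])) fun e => e.2 rfl
    simp only [R] at this
    rw [if_neg fun e => e.1 hPzc, if_pos ⟨n5, h51⟩, if_neg fun e => e.1 p85] at this
    exact this
  have hout240 : {x | x ∈ AA D C ∧ x ∉ (QQ z) ∧ ¬ IsConj z (x : G)}.ncard = 240 := by
    have := hcout R hR
    simp only [R] at this
    rw [this, if_neg (not_not.2 pb)]
    by_cases ea : Pz a
    · rw [if_neg (not_not.2 ea), if_pos (hpa.1 ea)]
    · rw [if_pos ea, if_neg (not_not.2 (not_not.1 fun e => ea (hpa.2 e)))]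
  refine ⟨x5, x85, a', b0, ⟨hx5A, hx5, h51, hx85A, hx85, ha'A, ha'Q, hb0A⟩, ⟨n5, p85, hna, hpaz, pb⟩,
    hin, hout', hin36, hout240, ?_⟩
  rw [hO, if_neg n5, if_pos p85, if_pos pb]
  by_cases ea : Pz a
  · rw [if_pos ea, if_neg (hpa.1 ea)]
  · rw [if_neg ea, if_pos (not_not.1 fun e => ea (hpa.2 e))]

/-- The normaliser is transitive on the other involutions. -/
theorem trans_R [IsSimpleGroup G] (hG : ¬ IsMulCommutative G) (hJ : Cfsg.IsOfJankoFourTypeWith z P) : ∀ a ∈ AG D C, ∀ b ∈ AG D C, a ≠ 1 → b ≠ 1 → ¬ IsConj z a → ¬ IsConj z b →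
    ∃ m ∈ Subgroup.normalizer (AG D C : Set G), m * a * m⁻¹ = b := by
  classical
  obtain ⟨x5, x85, a', b0, ⟨h5A, h5Q, h51, -, -, -, ha'Q, -⟩, ⟨n5, p85, -, pa'z, pb⟩, hin, hout, h36, -, h1771⟩ :=
    classes D C hG hJ
  obtain ⟨-, -, hzA⟩ := AG_facts D C
  haveI : Fact (Nat.Prime 23) := ⟨by norm_num⟩
  obtain ⟨m, hm⟩ := exists_prime_orderOf_dvd_card' 23 (G := Subgroup.normalizer (AG D C : Set G))
    (dvd_trans (by norm_num : (23 : ℕ) ∣ 1771)
      (h1771 ▸ (orbit_z D C).symm ▸ orbit_dvd _ z))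
  have hm' : orderOf (m : G) = 23 := (Subgroup.orderOf_coe m).trans hm
  obtain ⟨k, hk, hkc, hkm⟩ := prime_fix D C (by norm_num) hm' m.2
  have hk0 : k = 0 := by
    have : ∀ k < 11, 2 ^ k % 23 = 2 ^ 11 % 23 → k = 0 := by decide
    exact this k hk hkm
  subst hk0
  have hfix1 : ∀ x ∈ AG D C, (m : G) * x * (m : G)⁻¹ = x → x = 1 := by
    intro x hx e
    have h1 : ({x, 1} : Set G) ⊆ {x | x ∈ AG D C ∧ (m : G) * x * (m : G)⁻¹ = x} := by
      rintro y (rfl | rfl)
      · exact ⟨hx, e⟩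
      · exact ⟨one_mem _, by group⟩
    have h2 := Set.ncard_le_ncard h1 (Set.toFinite _)
    rw [hkc] at h2
    by_contra hne
    rw [Set.ncard_pair hne] at h2
    omega
  set Or5 : Set G := {b | ∃ m ∈ Subgroup.normalizer (AG D C : Set G), m * (x5 : G) * m⁻¹ = b} with hOr
  have hx5AG : (x5 : G) ∈ AG D C := ⟨x5, h5A, rfl⟩
  have hOrA : ∀ b ∈ Or5, b ∈ AG D C ∧ ¬ IsConj z b ∧ b ≠ 1 := by
    rintro b ⟨m', hm', rfl⟩
    refine ⟨AG_normal D C hm' hx5AG, fun e => n5 ?_, fun e => h51 (Subtype.ext (conj_eq_one_iff.1 e))⟩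
    exact IsConj.trans e (isConj_iff.2 ⟨m', rfl⟩ : IsConj (x5 : G) (m' * x5 * m'⁻¹)).symm
  have hclosed : ∀ {x y : ↥(HH z)}, Rel D C x y → (x : G) ∈ Or5 → (y : G) ∈ Or5 := by
    rintro x y ⟨g, hg, rfl⟩ ⟨m', hm', e⟩
    refine ⟨(g : G) * m', mul_mem (NA_normalizer D C hg) hm', ?_⟩
    simp only [Subgroup.coe_mul, Subgroup.coe_inv, ← e]
    group
  have hx5Or : (x5 : G) ∈ Or5 := ⟨1, one_mem _, by group⟩
  have hQmem : ∀ x ∈ AA D C, x ∈ (QQ z) → ¬ IsConj z (x : G) → x ≠ 1 → (x : G) ∈ Or5 := by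
    intro x hx hxQ hnc h1
    have hxz : x ≠ zc := fun e => hnc (by rw [e, D.zc_val])
    rcases hin x hx hxQ h1 hxz with e | e
    · exact hclosed e hx5Or
    · obtain ⟨g, -, rfl⟩ := e
      exact absurd (IsConj.trans p85 (isConj_iff.2 ⟨(g : G), rfl⟩)) hnc
  have haOr : (a' : G) ∈ Or5 := by
    by_contra hno
    have hsub : Or5 = Subtype.val '' {x | x ∈ AA D C ∧ x ∈ (QQ z) ∧ ¬ IsConj z (x : G) ∧ x ≠ 1} := by
      refine Set.Subset.antisymm (fun b hb => ?_) ?_
      · obtain ⟨hbA, hnc, hb1⟩ := hOrA b hb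
        obtain ⟨x, hx, rfl⟩ := hbA
        refine ⟨x, ⟨hx, ?_, hnc, fun e => hb1 (congrArg Subtype.val e)⟩, rfl⟩
        by_contra hxQ
        rcases hout x hx hxQ with e | e | e
        · exact hno (hclosed (e.symm D C) hb)
        · obtain ⟨g, -, rfl⟩ := e
          exact hnc (IsConj.trans pa'z (isConj_iff.2 ⟨(g : G), rfl⟩))
        · obtain ⟨g, -, rfl⟩ := e
          exact hnc (IsConj.trans pb (isConj_iff.2 ⟨(g : G), rfl⟩))
      · rintro _ ⟨x, ⟨hx, hxQ, hnc, h1⟩, rfl⟩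
        exact hQmem x hx hxQ hnc h1
    have h36' : Or5.ncard = 36 := by
      rw [hsub, Set.ncard_image_of_injective _ Subtype.val_injective, h36]
    have hmod := card_modEq_fixed hm' (S := Or5) (by
      rintro b ⟨m', hm'', rfl⟩
      exact ⟨(m : G) * m', mul_mem m.2 hm'', by group⟩)
    rw [h36', Set.eq_empty_of_forall_notMem (s := {x | x ∈ Or5 ∧ (m : G) * x * (m : G)⁻¹ = x})
      fun b hb => (hOrA b hb.1).2.2 (hfix1 b (hOrA b hb.1).1 hb.2), Set.ncard_empty] at hmod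
    exact absurd hmod (by decide)
  have hall : ∀ b ∈ AG D C, b ≠ 1 → ¬ IsConj z b → b ∈ Or5 := by
    rintro _ ⟨x, hx, rfl⟩ h1 hnc
    by_cases hxQ : x ∈ (QQ z)
    · exact hQmem x hx hxQ hnc fun e => h1 (congrArg Subtype.val e)
    · rcases hout x hx hxQ with e | e | e
      · exact hclosed e haOr
      · obtain ⟨g, -, rfl⟩ := e
        exact absurd (IsConj.trans pa'z (isConj_iff.2 ⟨(g : G), rfl⟩)) hnc
      · obtain ⟨g, -, rfl⟩ := e
        exact absurd (IsConj.trans pb (isConj_iff.2 ⟨(g : G), rfl⟩)) hnc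
  intro a ha b hb ha1 hb1 hna hnb
  obtain ⟨m1, hm1, e1⟩ := hall a ha ha1 hna
  obtain ⟨m2, hm2, e2⟩ := hall b hb hb1 hnb
  exact ⟨m2 * m1⁻¹, mul_mem hm2 (inv_mem hm1), by rw [← e1, ← e2]; group⟩

/-- The count of the normaliser. -/
theorem card_normalizer_eq [IsSimpleGroup G] (hG : ¬ IsMulCommutative G)
    (hJ : Cfsg.IsOfJankoFourTypeWith z P) :
    Nat.card (Subgroup.normalizer (AG D C : Set G)) = 1771 * (2 ^ 21 * 135) := by
  obtain ⟨-, -, -, -, -, -, -, -, -, -, h⟩ := classes D C hG hJ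
  rw [card_normalizer D C, h]

theorem dvd_M [IsSimpleGroup G] (hG : ¬ IsMulCommutative G) (hJ : Cfsg.IsOfJankoFourTypeWith z P) :
    501397585920 ∣ Nat.card (Subgroup.normalizer (AG D C : Set G)) := by
  rw [card_normalizer_eq D C hG hJ]
  norm_num


end Cfsg.Agent.J4Fusion18
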