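import Mathlib
import Cfsg.Agent.Lib.GolayDuadRigid13
import Cfsg.Agent.Lib.GolayInvolutions

/-!
Involutions of M24 on the even part of the Golay cocode: fixed vectors, commutators and the action
of the centraliser of an involution with eight fixed points on its fixed vectors.
-/

set_option autoImplicit false

namespace Cfsg.Agent.M24CocodeInvol46

open Cfsg Cfsg.Agent.GolayBasic Cfsg.Agent.GolayPerm Cfsg.Agent.GolayModule
open Cfsg.Agent.GolayDuadRigid13
open scoped Pointwise symmDiff

/-! ### The finite model -/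

/-- the canonical representative of a class, shifted down -/
def rep (m : ℕ) : ℕ := (m ^^^ enc (m &&& 4095)) >>> 12

/-- the action on representatives -/
def img (P x : ℕ) : ℕ := rep (pmask P (x <<< 12))

/-- representatives of the even classes -/
def evens : List ℕ := (List.range 4096).filter fun x => wt (x <<< 12) % 2 == 0

/-- representatives of the fixed classes -/
def fixL (P : ℕ) : List ℕ := evens.filter fun x => img P x == x

/-- commutators with the first representative -/
def comm1 : List ℕ :=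
  [0, 101, 384, 485, 1076, 1105, 1460, 1489, 2097, 2132, 2481, 2516, 3077, 3168, 3461, 3552]

/-- preimages of the commutators -/
def wit1 : List ℕ :=
  [0, 136, 129, 9, 640, 520, 513, 649, 130, 10, 3, 139, 514, 650, 643, 523]

/-- elements commuting with the first representative -/
def cents : List ℕ :=
  [984818244535754528103549039458486304, 736336616631519940181701931903399058,
    16212361968554602346434486889723022, 29174129899140919551332112391047223,
    934843236726505027887313616161612146, 610624820745525491617215750820155025,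
    22688677161036901548948767249650994]

theorem model_one : (fixL GolayInvolutionData.pZ1).length = 128 ∧
    (fixL GolayInvolutionData.pZ2).length = 64 := by decide +kernel

theorem model_comm : evens.all (fun x => comm1.contains (x ^^^ img GolayInvolutionData.pZ1 x)) = true
    ∧ (comm1.zip wit1).all (fun q => evens.contains q.2 &&
      (q.2 ^^^ img GolayInvolutionData.pZ1 q.2 == q.1)) = true ∧
    comm1.Nodup ∧ comm1.length = 16 ∧ wit1.length = 16 := by decide +kernel

theorem model_cents : cents.all (fun g => good g &&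
    pts.all (fun i => pimg g (pimg GolayInvolutionData.pZ1 i) == pimg GolayInvolutionData.pZ1 (pimg g i))) = true
    := by decide +kernel

theorem model_trans : evens.contains 5 = true ∧ (fixL GolayInvolutionData.pZ1).all (fun c =>
    comm1.contains c || cents.any (fun g => comm1.contains (img g 5 ^^^ c))) = true := by
  decide +kernel

/-! ### The bridge to the cocode -/

theorem shift_and (x : ℕ) : (x <<< 12) &&& 4095 = 0 := by
  rw [show (4095 : ℕ) = 2 ^ 12 - 1 from rfl, Nat.and_two_pow_sub_one_eq_mod, Nat.shiftLeft_eq,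
    Nat.mul_mod_left]

theorem shift_lt {x : ℕ} (hx : x < 4096) : x <<< 12 < 2 ^ 24 := by
  rw [Nat.shiftLeft_eq]
  omega

theorem word_eq_ind (m : ℕ) : word m = ind (mset m) := by
  rw [← support₂_word, ind_support₂]

theorem mem_evens {x : ℕ} : x ∈ evens ↔ x < 4096 ∧ 2 ∣ (mset (x <<< 12)).card := by
  simp [evens, card_mset, Nat.dvd_iff_mod_eq_zero]

variable {V : Type*} [AddCommGroup V] {L : (GolayPt → ZMod 2) →+ V}

/-- the class of a representative -/
def cls (L : (GolayPt → ZMod 2) →+ V) (x : ℕ) : V := L (word (x <<< 12))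

theorem cls_xor (x y : ℕ) : cls L (x ^^^ y) = cls L x + cls L y := by
  rw [cls, Nat.shiftLeft_xor_distrib, word_xor, map_add]
  rfl

theorem even_code {m : ℕ} (h : inCode m = true) : 2 ∣ (mset m).card := by
  have hw : word m ∈ golayCode := (word_mem_iff (inCode_lt h)).2 h
  rcases hammingNorm_cases hw with e | e | e | e | e <;>
    rw [hammingNorm_word, ← card_mset] at e <;> rw [e] <;> norm_num

theorem card_mset_xor (a b : ℕ) (ha : 2 ∣ (mset a).card) :
    2 ∣ (mset (a ^^^ b)).card ↔ 2 ∣ (mset b).card := by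
  rw [mset_xor, show mset a ∆ mset b = (mset a \ mset b) ∪ (mset b \ mset a) from rfl,
    Finset.card_union_of_disjoint disjoint_sdiff_sdiff]
  have h1 := Finset.card_sdiff_add_card_inter (mset a) (mset b)
  have h2 := Finset.card_sdiff_add_card_inter (mset b) (mset a)
  rw [Finset.inter_comm (mset b)] at h2
  omega

section
variable (hL : IsCocode L)
include hL

theorem cls_inj {x y : ℕ} (hx : x ∈ evens) (hy : y ∈ evens) (h : cls L x = cls L y) : x = y := by
  rw [mem_evens] at hx hy
  have he : 2 ∣ (mset ((x <<< 12) ^^^ (y <<< 12))).card := (card_mset_xor _ _ hx.2).2 hy.2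
  have h0 : L (ind (mset ((x <<< 12) ^^^ (y <<< 12)))) = 0 := by
    rw [← word_eq_ind, word_xor, map_add]
    show cls L x + cls L y = 0
    rw [h, cls, ← map_add, ← word_xor, Nat.xor_self, word_zero, map_zero]
  have hlt : (x <<< 12) ^^^ (y <<< 12) < 2 ^ 24 := Nat.xor_lt_two_pow (shift_lt hx.1) (shift_lt hy.1)
  have hc := (hL _ he).1 h0
  rw [← word_eq_ind, word_mem_iff hlt, inCode, beq_iff_eq, ← Nat.shiftLeft_xor_distrib, shift_and,
    enc_zero, Nat.shiftLeft_eq] at hc
  exact Nat.xor_eq_zero_iff.1 (by omega)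

theorem cls_rep {m : ℕ} (hm : m < 2 ^ 24) (he : 2 ∣ (mset m).card) :
    rep m ∈ evens ∧ cls L (rep m) = L (word m) := by
  have hc := inCode_enc (and_lt_4096 m)
  have hlt : m ^^^ enc (m &&& 4095) < 2 ^ 24 := Nat.xor_lt_two_pow hm (enc_lt (and_lt_4096 m))
  have hrep : rep m <<< 12 = m ^^^ enc (m &&& 4095) := by
    have h0 : (m ^^^ enc (m &&& 4095)) % 2 ^ 12 = 0 := by
      rw [← Nat.and_two_pow_sub_one_eq_mod, Nat.and_xor_distrib_right]
      show m &&& 4095 ^^^ enc (m &&& 4095) &&& 4095 = 0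
      rw [enc_and (and_lt_4096 m), Nat.xor_self]
    rw [rep, Nat.shiftLeft_eq, Nat.shiftRight_eq_div_pow]
    exact Nat.div_mul_cancel (Nat.dvd_of_mod_eq_zero h0)
  refine ⟨mem_evens.2 ⟨?_, by rw [hrep, card_mset_xor _ _ he]; exact even_code hc⟩, ?_⟩
  · rw [rep, Nat.shiftRight_eq_div_pow]
    omega
  · have hz : L (word (enc (m &&& 4095))) = 0 := by
      rw [word_eq_ind, hL _ (even_code hc), ← word_eq_ind, word_mem_iff (inCode_lt hc)]
      exact hc
    rw [cls, hrep, word_xor, map_add, hz, add_zero]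

theorem cls_surj (hspan : ∀ v : V, ∃ s : Finset GolayPt, 2 ∣ s.card ∧ L (ind s) = v) (v : V) :
    ∃ x ∈ evens, cls L x = v := by
  obtain ⟨s, hs, rfl⟩ := hspan v
  obtain ⟨h1, h2⟩ := cls_rep hL (smask_lt s) (by rw [mset_smask]; exact hs)
  exact ⟨_, h1, by rw [h2, word_eq_ind, mset_smask]⟩

omit hL in
theorem induces_even {f : V →+ V} {σ : Equiv.Perm GolayPt} (hf : Induces L f σ) :
    ∀ s : Finset GolayPt, 2 ∣ s.card → f (L (ind s)) = L (ind (σ • s)) := by
  intro s
  induction s using Finset.strongInduction with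
  | _ s ih =>
    intro hs
    rcases s.eq_empty_or_nonempty with rfl | hne
    · simp [ind_empty]
    obtain ⟨p, hp, q, hq, hpq⟩ := Finset.one_lt_card.1 (show 1 < s.card by
      have := hne.card_pos; omega)
    have hsub : ({p, q} : Finset GolayPt) ⊆ s := by simp [Finset.insert_subset_iff, hp, hq]
    have hsplit : s = {p, q} ∆ (s \ {p, q}) := by
      rw [show ({p, q} : Finset GolayPt) ∆ (s \ {p, q}) = ({p, q} \ (s \ {p, q})) ∪ ((s \ {p, q}) \ {p, q})
        from rfl]
      ext z
      simp only [Finset.mem_union, Finset.mem_sdiff]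
      constructor
      · intro hz
        by_cases h : z ∈ ({p, q} : Finset GolayPt)
        · exact Or.inl ⟨h, fun h' => h'.2 h⟩
        · exact Or.inr ⟨⟨hz, h⟩, h⟩
      · rintro (⟨h, -⟩ | ⟨⟨h, -⟩, -⟩)
        · exact hsub h
        · exact h
    have hcard : (s \ {p, q}).card + 2 = s.card := by
      rw [← Finset.card_pair hpq]
      exact Finset.card_sdiff_add_card_eq_card hsub
    have hrec := ih (s \ {p, q}) (Finset.sdiff_ssubset hsub (Finset.insert_nonempty _ _)) (by omega)
    conv_lhs => rw [hsplit]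
    conv_rhs => rw [hsplit]
    rw [smul_finset_symmDiff, ind_symmDiff, ind_symmDiff, map_add, map_add, map_add, hrec]
    congr 1
    refine (hf p q hpq).trans ?_
    rw [duad]
    congr 2
    simp [Finset.smul_finset_def]

theorem cls_img {P : ℕ} (hP : good P = true) {f : V →+ V} (hf : Induces L f (permOf P)) {x : ℕ}
    (hx : x ∈ evens) : img P x ∈ evens ∧ cls L (img P x) = f (cls L x) := by
  have hv := valid_of_good hP
  have he := (mem_evens.1 hx).2
  have h1 : mset (pmask P (x <<< 12)) = permOf P • mset (x <<< 12) := (smul_mset hv _).symm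
  obtain ⟨h2, h3⟩ := cls_rep hL (pmask_lt hv) (by rw [h1, Finset.card_smul_finset]; exact he)
  refine ⟨h2, ?_⟩
  rw [img, h3, word_eq_ind, h1]
  conv_rhs => rw [cls, word_eq_ind, induces_even hf _ he]

/-- A set of classes counted by its representatives. -/
theorem card_eq_length (hspan : ∀ v : V, ∃ s : Finset GolayPt, 2 ∣ s.card ∧ L (ind s) = v)
    {l : List ℕ} (hnd : l.Nodup) (hl : ∀ x ∈ l, x ∈ evens) {p : V → Prop}
    (hp : ∀ x ∈ evens, (p (cls L x) ↔ x ∈ l)) : Nat.card {v // p v} = l.length := by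
  have hb : Function.Bijective
      (fun x : {x // x ∈ l} => (⟨cls L x, (hp _ (hl _ x.2)).2 x.2⟩ : {v // p v})) := by
    refine ⟨fun a b h => Subtype.ext (cls_inj hL (hl _ a.2) (hl _ b.2) (congrArg Subtype.val h)), ?_⟩
    rintro ⟨v, hv⟩
    obtain ⟨x, hx, rfl⟩ := cls_surj hL hspan v
    exact ⟨⟨x, (hp x hx).1 hv⟩, rfl⟩
  rw [← Nat.card_eq_of_bijective _ hb, ← List.toFinset_card_of_nodup hnd, ← Nat.card_eq_finsetCard]
  exact Nat.card_congr (Equiv.subtypeEquivRight fun x => List.mem_toFinset.symm)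

end

/-! ### Groups inducing M24 -/

variable {K : Type*} [Group K] (ρ : K →* AddMonoid.End V)

theorem end_mul (a b : K) (v : V) : ρ (a * b) v = ρ a (ρ b v) := by
  rw [map_mul]
  rfl

theorem end_inv (a : K) (v : V) : ρ a⁻¹ (ρ a v) = v := by
  rw [← end_mul, inv_mul_cancel, map_one]
  rfl

/-- the commutators of `k` -/
def Comm (k : K) (v : V) : Prop := ∃ w, w + ρ k w = v

/-- what is used for an involution with eight fixed points -/
structure Oct (k : K) : Prop where
  card_fix : Nat.card {v // ρ k v = v} = 128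
  card_comm : Nat.card {v // Comm ρ k v} = 16
  trans : ∀ c d, ρ k c = c → ρ k d = d → ¬ Comm ρ k c → ¬ Comm ρ k d →
    ∃ g, g * k = k * g ∧ Comm ρ k (ρ g c + d)

theorem fix_conj (g k : K) (v : V) : ρ (g * k * g⁻¹) v = v ↔ ρ k (ρ g⁻¹ v) = ρ g⁻¹ v := by
  rw [end_mul, end_mul]
  constructor
  · intro h
    conv_rhs => rw [← h, end_inv]
  · intro h
    rw [h]
    simpa using end_inv ρ g⁻¹ v

theorem comm_conj (g k : K) (v : V) : Comm ρ (g * k * g⁻¹) v ↔ Comm ρ k (ρ g⁻¹ v) := by
  have hg : ∀ x, ρ g (ρ g⁻¹ x) = x := fun x => by simpa using end_inv ρ g⁻¹ x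
  constructor
  · rintro ⟨w, rfl⟩
    refine ⟨ρ g⁻¹ w, ?_⟩
    rw [map_add (ρ g⁻¹), end_mul, end_mul, end_inv]
  · rintro ⟨w, hw⟩
    refine ⟨ρ g w, ?_⟩
    rw [end_mul, end_mul, end_inv, ← map_add (ρ g), hw, hg]

/-- the action of an element, as a permutation -/
def actEquiv (g : K) : V ≃ V :=
  ⟨ρ g, ρ g⁻¹, end_inv ρ g, fun v => by simpa using end_inv ρ g⁻¹ v⟩

theorem card_fix_conj (g k : K) :
    Nat.card {v // ρ (g * k * g⁻¹) v = v} = Nat.card {v // ρ k v = v} :=
  Nat.card_congr ((actEquiv ρ g⁻¹).subtypeEquiv fun v => fix_conj ρ g k v)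

theorem Oct.conj {k : K} (h : Oct ρ k) (g : K) : Oct ρ (g * k * g⁻¹) where
  card_fix := by rw [card_fix_conj]; exact h.card_fix
  card_comm := by
    rw [← h.card_comm]
    exact Nat.card_congr ((actEquiv ρ g⁻¹).subtypeEquiv fun v => comm_conj ρ g k v)
  trans c d hc hd hc' hd' := by
    obtain ⟨a, ha, hcd⟩ := h.trans _ _ ((fix_conj ρ g k c).1 hc) ((fix_conj ρ g k d).1 hd)
      (fun e => hc' ((comm_conj ρ g k c).2 e)) (fun e => hd' ((comm_conj ρ g k d).2 e))
    refine ⟨g * a * g⁻¹, ?_, (comm_conj ρ g k _).2 ?_⟩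
    · calc g * a * g⁻¹ * (g * k * g⁻¹) = g * (a * k) * g⁻¹ := by group
        _ = g * (k * a) * g⁻¹ := by rw [ha]
        _ = g * k * g⁻¹ * (g * a * g⁻¹) := by group
    · rw [map_add (ρ g⁻¹), end_mul, end_mul, end_inv]
      exact hcd

variable {ρ} (hL : IsCocode L) (hspan : ∀ v : V, ∃ s : Finset GolayPt, 2 ∣ s.card ∧ L (ind s) = v)
  {φ : K →* ↥M24} (hφ : ∀ h, Induces L (ρ h) (φ h : Equiv.Perm GolayPt))

include hL hspan hφ

omit hspan in
theorem cls_rho {P : ℕ} (hP : good P = true) {k : K}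
    (hk : (φ k : Equiv.Perm GolayPt) = permOf P) {x : ℕ} (hx : x ∈ evens) :
    img P x ∈ evens ∧ cls L (img P x) = ρ k (cls L x) :=
  cls_img hL hP (f := ρ k) (hk ▸ hφ k) hx

theorem card_fix_rep {P : ℕ} (hP : good P = true) {k : K}
    (hk : (φ k : Equiv.Perm GolayPt) = permOf P) :
    Nat.card {v // ρ k v = v} = (fixL P).length := by
  refine card_eq_length hL hspan (l := fixL P) ((List.nodup_range.filter _).filter _)
    (fun x hx => (List.mem_filter.1 hx).1) fun x hx => ?_
  obtain ⟨h1, h2⟩ := cls_rho hL hφ hP hk hx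
  rw [← h2, show (x ∈ fixL P ↔ x ∈ evens ∧ (img P x == x) = true) from List.mem_filter, beq_iff_eq]
  exact ⟨fun e => ⟨hx, cls_inj hL h1 hx e⟩, fun e => by rw [e.2]⟩

theorem oct_rep (hs : Function.Surjective φ) (hinj : Function.Injective φ) {k : K}
    (hk : (φ k : Equiv.Perm GolayPt) = permOf GolayInvolutionData.pZ1) : Oct ρ k := by
  have hP : good GolayInvolutionData.pZ1 = true := GolayInvolutions.consts.2.1
  have himg := fun {x : ℕ} (hx : x ∈ evens) => cls_rho hL hφ hP hk hx
  obtain ⟨hc1, hc2, hc3, hc4, hc5⟩ := model_comm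
  rw [List.all_eq_true] at hc1 hc2
  have hcomm_ev : ∀ d ∈ comm1, d ∈ evens ∧ ∃ w ∈ evens, w ^^^ img GolayInvolutionData.pZ1 w = d := by
    intro d hd
    obtain ⟨i, hi, rfl⟩ := List.mem_iff_getElem.1 hd
    have hi' : i < wit1.length := by omega
    have hq := hc2 (comm1[i]'hi, wit1[i]'hi') (List.mem_iff_getElem.2
      ⟨i, by rw [List.length_zip]; omega, by rw [List.getElem_zip]⟩)
    simp only [Bool.and_eq_true, List.contains_iff_mem, beq_iff_eq] at hq
    refine ⟨?_, _, hq.1, hq.2⟩
    conv => arg 2; rw [← hq.2]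
    rw [mem_evens]
    obtain ⟨h1, h2⟩ := mem_evens.1 hq.1
    obtain ⟨h3, h4⟩ := mem_evens.1 (himg hq.1).1
    exact ⟨Nat.xor_lt_two_pow (n := 12) h1 h3, by
      rw [Nat.shiftLeft_xor_distrib, card_mset_xor _ _ h2]; exact h4⟩
  have hCiff : ∀ x ∈ evens, (Comm ρ k (cls L x) ↔ x ∈ comm1) := by
    intro x hx
    constructor
    · rintro ⟨w, hw⟩
      obtain ⟨y, hy, rfl⟩ := cls_surj hL hspan w
      have hm : y ^^^ img GolayInvolutionData.pZ1 y ∈ comm1 := by
        simpa [List.contains_iff_mem] using hc1 y hy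
      rw [← (himg hy).2, ← cls_xor] at hw
      rwa [cls_inj hL (hcomm_ev _ hm).1 hx hw] at hm
    · intro hd
      obtain ⟨-, w, hw, he⟩ := hcomm_ev x hd
      exact ⟨cls L w, by rw [← (himg hw).2, ← cls_xor, he]⟩
  refine ⟨by rw [card_fix_rep hL hspan hφ hP hk, model_one.1],
    by rw [card_eq_length hL hspan hc3 (fun d hd => (hcomm_ev d hd).1) hCiff, hc4], ?_⟩
  intro c d hc hd hc' hd'
  obtain ⟨hb, ht⟩ := model_trans
  rw [List.all_eq_true] at ht
  rw [List.contains_iff_mem] at hb
  have key : ∀ v, ρ k v = v → ¬ Comm ρ k v → ∃ g, g * k = k * g ∧ Comm ρ k (ρ g (cls L 5) + v) := by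
    intro v hv hv'
    obtain ⟨x, hx, rfl⟩ := cls_surj hL hspan v
    have hxf : x ∈ fixL GolayInvolutionData.pZ1 := by
      rw [fixL, List.mem_filter, beq_iff_eq]
      exact ⟨hx, cls_inj hL (himg hx).1 hx ((himg hx).2.trans hv)⟩
    have h := ht x hxf
    simp only [Bool.or_eq_true, List.contains_iff_mem, List.any_eq_true] at h
    rcases h with h | ⟨G, hG, hGx⟩
    · exact absurd ((hCiff x hx).2 h) hv'
    have hGc := List.all_eq_true.1 model_cents G hG
    simp only [Bool.and_eq_true, List.all_eq_true, beq_iff_eq] at hGc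
    obtain ⟨g, hg⟩ := hs ⟨permOf G, permOf_mem_M24 hGc.1⟩
    have hg' : (φ g : Equiv.Perm GolayPt) = permOf G := by rw [hg]
    refine ⟨g, hinj (Subtype.ext (Equiv.ext fun p => ?_)), ?_⟩
    · simp only [map_mul, Subgroup.coe_mul, hk, hg', Equiv.Perm.mul_apply]
      apply idx_inj
      simp only [permOf_apply (valid_of_good hGc.1), permOf_apply (valid_of_good hP), pfun,
        idx_pt (pimg_lt (valid_of_good hP) (idx_lt p)), idx_pt (pimg_lt (valid_of_good hGc.1) (idx_lt p)),
        idx_pt (pimg_lt (valid_of_good hGc.1) (pimg_lt (valid_of_good hP) (idx_lt p))),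
        idx_pt (pimg_lt (valid_of_good hP) (pimg_lt (valid_of_good hGc.1) (idx_lt p)))]
      exact hGc.2 _ (mem_pts.2 (idx_lt p))
    · rw [← (cls_rho hL hφ hGc.1 hg' hb).2, ← cls_xor]
      exact (hCiff _ (hcomm_ev _ hGx).1).2 hGx
  obtain ⟨a, ha, u, hu⟩ := key c hc hc'
  obtain ⟨b, hb', w, hw⟩ := key d hd hd'
  have hai : a⁻¹ * k = k * a⁻¹ := (Commute.inv_left ha : Commute a⁻¹ k)
  have hba : b * a⁻¹ * k = k * (b * a⁻¹) := by rw [mul_assoc, hai, ← mul_assoc, hb', mul_assoc]
  refine ⟨b * a⁻¹, hba, ρ (b * a⁻¹) u + w, ?_⟩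
  rw [map_add (ρ k), ← end_mul, ← hba, end_mul ρ _ k, add_add_add_comm, ← map_add, hu, map_add, hw,
    ← end_mul ρ (b * a⁻¹) a, inv_mul_cancel_right]
  have two : ∀ v : V, v + v = 0 := fun v => by
    obtain ⟨y, -, rfl⟩ := cls_surj hL hspan v
    rw [← cls_xor, Nat.xor_self, cls, Nat.zero_shiftLeft, word_zero, map_zero]
  rw [show ∀ p q r : V, p + q + (p + r) = q + r + (p + p) from fun p q r => by abel, two, add_zero]

theorem card_fix_fpf (hs : Function.Surjective φ) {k : K} (h2 : k * k = 1)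
    (hfp : ∀ p, (φ k : Equiv.Perm GolayPt) p ≠ p) : Nat.card {v // ρ k v = v} = 64 := by
  have hσ : (φ k : Equiv.Perm GolayPt) * φ k = 1 := by
    rw [← Subgroup.coe_mul, ← map_mul, h2, map_one, Subgroup.coe_one]
  have h1 : (φ k : Equiv.Perm GolayPt) ≠ 1 := fun e => hfp none (by rw [e]; rfl)
  obtain ⟨τ, hτ, e | e⟩ := GolayInvolutions.exists_conj_rep (φ k).2 hσ h1
  · exfalso
    have hne := (GolayInvolutions.kind_of_conj e).1 hfp
    have := congrArg Finset.card GolayInvolutions.fix_pZ1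
    rw [Finset.filter_false_of_mem (fun p _ => hne p), Finset.card_empty] at this
    exact absurd this.symm (by rw [GolayOctadStab.O0, card_mset]; decide +kernel)
  obtain ⟨g, hg⟩ := hs ⟨τ, hτ⟩
  rw [← card_fix_conj ρ g k, card_fix_rep hL hspan hφ GolayInvolutions.consts.2.2.1
    (k := g * k * g⁻¹) (by rw [map_mul, map_mul, map_inv, hg]; exact e), model_one.2]

theorem oct_of_fix (hs : Function.Surjective φ) (hinj : Function.Injective φ) {k : K}
    (h2 : k * k = 1) (h1 : k ≠ 1) (hfix : ∃ p, (φ k : Equiv.Perm GolayPt) p = p) : Oct ρ k := by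
  have hσ : (φ k : Equiv.Perm GolayPt) * φ k = 1 := by
    rw [← Subgroup.coe_mul, ← map_mul, h2, map_one, Subgroup.coe_one]
  have hσ1 : (φ k : Equiv.Perm GolayPt) ≠ 1 := fun e =>
    h1 (hinj ((Subtype.ext e).trans (map_one φ).symm))
  obtain ⟨τ, hτ, e | e⟩ := GolayInvolutions.exists_conj_rep (φ k).2 hσ hσ1
  · obtain ⟨g, hg⟩ := hs ⟨τ, hτ⟩
    have := (oct_rep hL hspan hφ hs hinj (k := g * k * g⁻¹)
      (by rw [map_mul, map_mul, map_inv, hg]; exact e)).conj ρ g⁻¹
    rwa [show g⁻¹ * (g * k * g⁻¹) * g⁻¹⁻¹ = k by group] at this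
  · obtain ⟨p, hp⟩ := hfix
    exact absurd hp ((GolayInvolutions.kind_of_conj e).2 GolayInvolutions.fixfree_pZ2 p)

end Cfsg.Agent.M24CocodeInvol46
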