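import Mathlib
import Cfsg.Agent.Lib.M24CocodeInvol46
import Cfsg.Agent.Lib.M24DuadAut46

/-!
In a group with an elementary abelian subgroup `V` of order `2 ^ 11` whose normaliser is a split
extension inducing M24 on `V` as on the cocode, every involution is conjugate into `V` as soon as the
involutions of a suitable subgroup `E` are; the centraliser in that normaliser of a duad.
-/

set_option autoImplicit false
set_option linter.unusedSectionVars false

namespace Cfsg.Agent.J4Invol46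

open Cfsg Cfsg.Agent.GolayModule Cfsg.Agent.GolayDuadRigid13
open scoped Pointwise

universe u

variable {G : Type u} [Group G] [Finite G]

local notation "N[" V "]" => Subgroup.normalizer (SetLike.coe V)

/-- The labelling of `V` by the even part of the cocode and the action of the normaliser. -/
structure Label (z : G) (V : Subgroup G) (φ : ↥(N[V]) →* ↥M24)
    (cl : (GolayPt → ZMod 2) → G) : Prop where
  comm : ∀ a ∈ V, ∀ b ∈ V, a * b = b * a
  sq : ∀ a ∈ V, a * a = 1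
  mem : ∀ w, cl w ∈ V
  map_add : ∀ v w, cl (v + w) = cl v * cl w
  code : ∀ s : Finset GolayPt, 2 ∣ s.card → (cl (ind s) = 1 ↔ ind s ∈ golayCode)
  span : ∀ x ∈ V, ∃ s : Finset GolayPt, 2 ∣ s.card ∧ cl (ind s) = x
  equiv : ∀ (m : ↥(N[V])) (p q : GolayPt), p ≠ q →
    (m : G) * cl (ind {p, q}) * (m : G)⁻¹ =
      cl (ind {(φ m : Equiv.Perm GolayPt) p, (φ m : Equiv.Perm GolayPt) q})
  surj : Function.Surjective φ
  ker : ∀ m : ↥(N[V]), φ m = 1 ↔ (m : G) ∈ V
  duad : ∀ x, (x ∈ V ∧ x ≠ 1 ∧ ¬ IsConj z x) ↔ ∃ p q, p ≠ q ∧ cl (ind {p, q}) = x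

/-- A complement of `V` in its normaliser. -/
structure Compl (V K : Subgroup G) : Prop where
  le : K ≤ N[V]
  inf : K ⊓ V = ⊥
  sup : K ⊔ V = N[V]

/-- What is used about the subgroup `E`. -/
structure Core (z p : G) (V E : Subgroup G) : Prop where
  zV : z ∈ V
  card_E : Nat.card E = 2 ^ 13
  card_inf : Nat.card ↥(E ⊓ V) = 2 ^ 7
  E_le : E ≤ N[V]
  V_conj : ∀ v ∈ V, ∀ e ∈ E, v * e * v⁻¹ ∈ E
  zmem : z ∈ E
  p3 : p ^ 3 = 1
  pN : p ∈ N[V]
  pE : ∀ e ∈ E, p * e * p⁻¹ ∈ E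
  fixed : ∀ e ∈ E, p * e = e * p → e ∈ V
  comm_mem : ∀ v ∈ V, p * v * p⁻¹ * v⁻¹ ∈ E
  sq : ∀ e ∈ E, e * e = 1 ∨ e * e = z
  conj : ∀ x ∈ E, ∀ y ∈ E, x * y * x⁻¹ = y ∨ x * y * x⁻¹ = z * y
  invol : ∀ e ∈ E, e * e = 1 → ∃ g : G, g * e * g⁻¹ ∈ V

variable {z p : G} {V E K : Subgroup G} {φ : ↥(Subgroup.normalizer (V : Set G)) →* ↥M24}
  {cl : (GolayPt → ZMod 2) → G}

theorem mem_conj {m x : G} (hm : m ∈ N[V]) (hx : x ∈ V) : m * x * m⁻¹ ∈ V :=
  (Subgroup.mem_normalizer_iff.1 hm x).1 hx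

theorem Compl.decomp (hK : Compl V K) {m : G} (hm : m ∈ N[V]) : ∃ k ∈ K, ∃ v ∈ V, k * v = m := by
  rw [← hK.sup, ← SetLike.mem_coe, Subgroup.coe_mul_of_left_le_normalizer_right K V hK.le] at hm
  exact Set.mem_mul.1 hm

theorem Compl.eq_one (hK : Compl V K) {x : G} (h1 : x ∈ K) (h2 : x ∈ V) : x = 1 :=
  Subgroup.mem_bot.1 (hK.inf ▸ Subgroup.mem_inf.2 ⟨h1, h2⟩)

theorem Compl.phi_inj (hK : Compl V K) (h : Label z V φ cl) :
    Function.Injective (φ.comp (Subgroup.inclusion hK.le)) := by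
  refine (MonoidHom.ker_eq_bot_iff _).1 (Subgroup.eq_bot_iff_forall _ |>.2 fun x hx => ?_)
  exact Subtype.ext (hK.eq_one x.2 ((h.ker _).1 hx))

theorem Compl.phi_surj (hK : Compl V K) (h : Label z V φ cl) :
    Function.Surjective (φ.comp (Subgroup.inclusion hK.le)) := by
  intro σ
  obtain ⟨m, rfl⟩ := h.surj σ
  obtain ⟨k, hk, v, hv, e⟩ := hK.decomp m.2
  have hvN : v ∈ N[V] := Subgroup.le_normalizer hv
  refine ⟨⟨k, hk⟩, ?_⟩
  have hm : m = Subgroup.inclusion hK.le ⟨k, hk⟩ * ⟨v, hvN⟩ := Subtype.ext e.symm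
  rw [hm, map_mul, (h.ker ⟨v, hvN⟩).2 hv, mul_one]
  rfl

theorem Compl.conj (hK : Compl V K) {u : G} (hu : u ∈ V) :
    Compl V (K.map (MulAut.conj u).toMonoidHom) := by
  have huN : u ∈ N[V] := Subgroup.le_normalizer hu
  refine ⟨?_, ?_, ?_⟩
  · rintro _ ⟨k, hk, rfl⟩
    exact mul_mem (mul_mem huN (hK.le hk)) (inv_mem huN)
  · refine Subgroup.eq_bot_iff_forall _ |>.2 fun x hx => ?_
    obtain ⟨⟨k, hk, rfl⟩, hxV⟩ := Subgroup.mem_inf.1 hx
    have : k ∈ V := by simpa [mul_assoc] using mul_mem (mul_mem (inv_mem hu) hxV) hu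
    simp [hK.eq_one hk this]
  · refine le_antisymm (sup_le ?_ Subgroup.le_normalizer) fun m hm => ?_
    · rintro _ ⟨k, hk, rfl⟩
      exact mul_mem (mul_mem huN (hK.le hk)) (inv_mem huN)
    · obtain ⟨k, hk, v, hv, e⟩ := hK.decomp
        (show u⁻¹ * m * u ∈ N[V] from mul_mem (mul_mem (inv_mem huN) hm) huN)
      have hm' : m = u * k * u⁻¹ * (u * v * u⁻¹) := by
        rw [show u * k * u⁻¹ * (u * v * u⁻¹) = u * (k * v) * u⁻¹ by group, e]; group
      rw [hm']
      exact mul_mem (Subgroup.mem_sup_left ⟨k, hk, rfl⟩)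
        (Subgroup.mem_sup_right (mul_mem (mul_mem hu hv) (inv_mem hu)))

section
variable (hC : Core z p V E) (hl : Label z V φ cl)
include hC hl

/-- Some complement contains `p`. -/
theorem exists_compl_p (hK : Compl V K) : ∃ K' : Subgroup G, Compl V K' ∧ p ∈ K' := by
  obtain ⟨k, hk, v, hv, e⟩ := hK.decomp hC.pN
  -- `k = p * v⁻¹` has order dividing three
  have hcon : ∀ x ∈ V, k * x * k⁻¹ ∈ V := fun x hx => mem_conj (hK.le hk) hx
  have hk3 : k ^ 3 = 1 := by
    have hN : ∀ x ∈ V, x ∈ N[V] := fun x hx => Subgroup.le_normalizer hx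
    have h1 := congrArg φ (Subtype.ext e : (⟨k, hK.le hk⟩ * ⟨v, hN v hv⟩ : ↥(N[V])) = ⟨p, hC.pN⟩)
    rw [map_mul, (hl.ker ⟨v, hN v hv⟩).2 hv, mul_one] at h1
    have h2 : φ (⟨k, hK.le hk⟩ ^ 3) = 1 := by
      rw [map_pow, h1, ← map_pow, show (⟨p, hC.pN⟩ : ↥(N[V])) ^ 3 = 1 from Subtype.ext hC.p3, map_one]
    exact hK.eq_one (pow_mem hk 3) ((hl.ker _).1 h2)
  set w := v⁻¹ with hw
  have hwV : w ∈ V := inv_mem hv
  have hkp : k = p * w := eq_mul_inv_iff_mul_eq.2 e
  set a := p⁻¹ * w * p with ha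
  set b := p⁻¹ * a * p with hb
  have hpi : ∀ x ∈ V, p⁻¹ * x * p ∈ V := fun x hx => by
    simpa using mem_conj (inv_mem hC.pN) hx
  have hprod : b * a * w = 1 := by
    have : (p * w) * (p * w) * (p * w) = p ^ 3 * (b * a * w) := by
      simp only [ha, hb, pow_succ, pow_zero, one_mul]; group
    rw [← hkp, hC.p3, one_mul] at this
    rw [← this, ← hk3, pow_succ, pow_succ, pow_one]
  have haV : a ∈ V := hpi w hwV
  have hbV : b ∈ V := hpi a haV
  have haa : a⁻¹ = a := inv_eq_of_mul_eq_one_right (hl.sq a haV)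
  have hba : b * a = w := by
    rw [← mul_one (b * a), ← hl.sq w hwV, ← mul_assoc, hprod, one_mul]
  refine ⟨_, hK.conj haV, k, hk, ?_⟩
  show a * k * a⁻¹ = p
  have hconj : a * p * a⁻¹ = p * w := by
    rw [← hba, haa, hb]
    group
  rw [hkp, show a * (p * w) * a⁻¹ = a * p * a⁻¹ * (a * w * a⁻¹) by group, hconj,
    hl.comm a haV w hwV, mul_inv_cancel_right, mul_assoc, hl.sq w hwV, mul_one]

/-- With `p` in the complement, every element of `E` splits. -/
theorem split_E (hK : Compl V K) (hp : p ∈ K) {e : G} (he : e ∈ E) :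
    ∃ k ∈ E ⊓ K, ∃ v ∈ E ⊓ V, k * v = e := by
  classical
  let W : Set G := {x | x ∈ K ∧ ∃ e ∈ E, ∃ v ∈ V, e * v = x}
  let c : G → G := fun x => x⁻¹ * (p * x * p⁻¹)
  have hcE : ∀ x ∈ W, c x ∈ E := by
    rintro _ ⟨-, e, he, v, hv, rfl⟩
    have h1 := mul_mem (inv_mem he) (hC.pE e he)
    have h2 := hC.V_conj v⁻¹ (inv_mem hv) _ h1
    have h3 := hC.comm_mem v hv
    rw [inv_inv] at h2
    have h4 : v⁻¹ * (p * v * p⁻¹ * v⁻¹) * v⁻¹⁻¹ ∈ E := hC.V_conj _ (inv_mem hv) _ h3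
    have h5 : c (e * v) = v⁻¹ * (e⁻¹ * (p * e * p⁻¹)) * v * (v⁻¹ * (p * v * p⁻¹ * v⁻¹) * v⁻¹⁻¹) := by
      simp only [c]; group
    rw [h5]
    exact mul_mem h2 h4
  have hmaps : Set.MapsTo c W W := fun x hx => ⟨mul_mem (inv_mem hx.1)
    (mul_mem (mul_mem hp hx.1) (inv_mem hp)), c x, hcE x hx, 1, one_mem V, mul_one _⟩
  have hinj : Set.InjOn c W := by
    intro x hx y hy hxy
    -- `x * y⁻¹` commutes with `p`
    have hd : p * (x * y⁻¹) * p⁻¹ = x * y⁻¹ := by
      have hxy' : x⁻¹ * (p * x * p⁻¹) = y⁻¹ * (p * y * p⁻¹) := hxy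
      calc p * (x * y⁻¹) * p⁻¹ = (p * x * p⁻¹) * (p * y * p⁻¹)⁻¹ := by group
        _ = (x * (x⁻¹ * (p * x * p⁻¹))) * (p * y * p⁻¹)⁻¹ := by group
        _ = (x * (y⁻¹ * (p * y * p⁻¹))) * (p * y * p⁻¹)⁻¹ := by rw [hxy']
        _ = x * y⁻¹ := by group
    obtain ⟨hxK, e, he, v, hv, ex⟩ := hx
    obtain ⟨hyK, f, hf, w, hw, ey⟩ := hy
    have hu : v * w⁻¹ ∈ V := mul_mem hv (inv_mem hw)
    have hf' := hC.V_conj _ hu _ (inv_mem hf)
    have he' : e * ((v * w⁻¹) * f⁻¹ * (v * w⁻¹)⁻¹) ∈ E := mul_mem he hf'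
    generalize hx'def : e * ((v * w⁻¹) * f⁻¹ * (v * w⁻¹)⁻¹) = a at he'
    have hxy2 : x * y⁻¹ = a * (v * w⁻¹) := by rw [← ex, ← ey, ← hx'def]; group
    set u := v * w⁻¹
    -- the defect lies in `E ⊓ V`
    set d := p * a * p⁻¹ * a⁻¹ with hd'
    have hdV : d ∈ V := by
      rw [hxy2] at hd
      have : d = a * (u * (p * u * p⁻¹)⁻¹) * a⁻¹ := by
        rw [hd']
        calc p * a * p⁻¹ * a⁻¹ = p * (a * u) * p⁻¹ * (p * u * p⁻¹)⁻¹ * a⁻¹ := by group
          _ = a * u * (p * u * p⁻¹)⁻¹ * a⁻¹ := by rw [hd]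
          _ = _ := by group
      rw [this]
      exact mem_conj (hC.E_le he') (mul_mem hu (inv_mem (mem_conj hC.pN hu)))
    have hdE : d ∈ E := mul_mem (hC.pE a he') (inv_mem he')
    have hpp : p * (p * (p * a * p⁻¹) * p⁻¹) * p⁻¹ = a := by
      calc p * (p * (p * a * p⁻¹) * p⁻¹) * p⁻¹ = p ^ 3 * a * (p ^ 3)⁻¹ := by
            simp only [pow_succ, pow_zero, one_mul, mul_inv_rev, mul_assoc]
        _ = a := by rw [hC.p3, one_mul, inv_one, mul_one]
    have hsum : p * (p * d * p⁻¹) * p⁻¹ * (p * d * p⁻¹) * d = 1 := by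
      rw [hd']
      calc _ = p * (p * (p * a * p⁻¹) * p⁻¹) * p⁻¹ * a⁻¹ := by group
        _ = 1 := by rw [hpp, mul_inv_cancel]
    set d1 := p * d * p⁻¹ with hd1
    have hd1V : d1 ∈ V := mem_conj hC.pN hdV
    have hd2 : p * d1 * p⁻¹ * d = d1 := by
      have h2V : p * d1 * p⁻¹ ∈ V := mem_conj hC.pN hd1V
      calc p * d1 * p⁻¹ * d = p * d1 * p⁻¹ * d1 * d1 * d := by
            rw [mul_assoc (p * d1 * p⁻¹) d1 d1, hl.sq d1 hd1V, mul_one]
        _ = d1 * (p * d1 * p⁻¹ * d1 * d) := by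
            rw [hl.comm d1 hd1V _ (mul_mem (mul_mem h2V hd1V) hdV), mul_assoc _ d1 d,
              hl.comm d1 hd1V d hdV, ← mul_assoc]
        _ = d1 := by rw [hsum, mul_one]
    -- so `d1 * a` commutes with `p`
    have hfix : p * (d1 * a) = d1 * a * p := by
      have hpa : p * a * p⁻¹ = d * a := by rw [hd']; group
      calc p * (d1 * a) = (p * d1 * p⁻¹) * (p * a * p⁻¹) * p := by group
        _ = (p * d1 * p⁻¹ * d) * a * p := by rw [hpa]; group
        _ = d1 * a * p := by rw [hd2]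
    have haV : a ∈ V := by
      have h1 := hC.fixed _ (mul_mem (hC.pE d hdE) he') hfix
      rw [← inv_mul_cancel_left d1 a]
      exact mul_mem (inv_mem hd1V) h1
    have h1 := hK.eq_one (mul_mem hxK (inv_mem hyK)) (by rw [hxy2]; exact mul_mem haV hu)
    exact mul_inv_eq_one.1 h1
  obtain ⟨k, hk, v, hv, e'⟩ := hK.decomp (hC.E_le he)
  have hkW : k ∈ W := ⟨hk, e, he, v⁻¹, inv_mem hv, by rw [← e', mul_inv_cancel_right]⟩
  obtain ⟨x, hx, hxk⟩ := ((Set.toFinite W).injOn_iff_bijOn_of_mapsTo hmaps).1 hinj |>.surjOn hkW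
  have hkE : k ∈ E := hxk ▸ hcE x hx
  refine ⟨k, Subgroup.mem_inf.2 ⟨hkE, hk⟩, v, Subgroup.mem_inf.2 ⟨?_, hv⟩, e'⟩
  rw [show v = k⁻¹ * e by rw [← e', inv_mul_cancel_left]]
  exact mul_mem (inv_mem hkE) he

theorem card_EK (hK : Compl V K) (hp : p ∈ K) : Nat.card ↥(E ⊓ K) = 64 := by
  let f : ↥(E ⊓ K) × ↥(E ⊓ V) → E := fun x => ⟨x.1.1 * x.2.1, mul_mem x.1.2.1 x.2.2.1⟩
  have hb : Function.Bijective f := by
    refine ⟨fun x y hxy => ?_, fun e => ?_⟩
    · have h : (x.1 : G) * x.2.1 = y.1.1 * y.2.1 := congrArg Subtype.val hxy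
      have h1 : (y.1 : G)⁻¹ * x.1 = y.2.1 * (x.2.1)⁻¹ := by
        rw [eq_mul_inv_iff_mul_eq, mul_assoc, h, inv_mul_cancel_left]
      have h2 := hK.eq_one (mul_mem (inv_mem y.1.2.2) x.1.2.2)
        (h1 ▸ mul_mem y.2.2.2 (inv_mem x.2.2.2))
      have e1 : (x.1 : G) = y.1 := (inv_mul_eq_one.1 h2).symm
      rw [e1] at h
      exact Prod.ext (Subtype.ext e1) (Subtype.ext (mul_left_cancel h))
    · obtain ⟨k, hk, v, hv, e'⟩ := split_E hC hl hK hp e.2
      exact ⟨⟨⟨k, hk⟩, ⟨v, hv⟩⟩, Subtype.ext e'⟩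
  have := Nat.card_eq_of_bijective f hb
  rw [Nat.card_prod, hC.card_inf, hC.card_E] at this
  omega

theorem sq_EK (hK : Compl V K) {w : G} (hw : w ∈ E ⊓ K) : w * w = 1 :=
  (hC.sq w hw.1).elim id fun e => hK.eq_one (mul_mem hw.2 hw.2) (e ▸ hC.zV)

/-- `E ⊓ K` contains an involution of each of the two kinds. -/
theorem both_kinds (hK : Compl V K) (hp : p ∈ K) :
    (∃ w, ∃ hw : w ∈ E ⊓ K, ∀ i, (φ ⟨w, hK.le hw.2⟩ : Equiv.Perm GolayPt) i ≠ i) ∧
    (∃ w, ∃ hw : w ∈ E ⊓ K, w ≠ 1 ∧ ∃ i, (φ ⟨w, hK.le hw.2⟩ : Equiv.Perm GolayPt) i = i) := by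
  classical
  let W := E ⊓ K
  let a : ↥W →* Equiv.Perm GolayPt :=
    (Subgroup.subtype M24).comp (φ.comp (Subgroup.inclusion (inf_le_right.trans hK.le : W ≤ N[V])))
  letI : MulAction ↥W GolayPt := MulAction.compHom GolayPt a
  letI : Fintype ↥W := Fintype.ofFinite _
  letI : ∀ w : ↥W, Fintype (MulAction.fixedBy GolayPt w) := fun w => Fintype.ofFinite _
  letI : Fintype (Quotient (MulAction.orbitRel ↥W GolayPt)) := Fintype.ofFinite _
  have hcardW : Fintype.card ↥W = 64 := by rw [← Nat.card_eq_fintype_card]; exact card_EK hC hl hK hp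
  have key := MulAction.sum_card_fixedBy_eq_card_orbits_mul_card_group ↥W GolayPt
  rw [hcardW] at key
  have h24 : Fintype.card GolayPt = 24 := by simp [GolayPt]
  have hval : ∀ w : ↥W, w ≠ 1 → (∀ i, a w i ≠ i) ∧ Fintype.card (MulAction.fixedBy GolayPt w) = 0 ∨
      (∃ i, a w i = i) ∧ Fintype.card (MulAction.fixedBy GolayPt w) = 8 := by
    intro w hw
    have hne : a w ≠ 1 := fun e => hw (Subtype.ext (by
      simpa using hK.eq_one w.2.2 ((hl.ker _).1 (Subtype.ext e))))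
    have h2 : orderOf (a w) = 2 := by
      refine orderOf_eq_prime ?_ hne
      rw [sq, ← map_mul, show w * w = 1 from Subtype.ext (sq_EK hC hl hK w.2), map_one]
    have hset : Fintype.card (MulAction.fixedBy GolayPt w) =
        (Finset.univ.filter fun i => a w i = i).card := by
      rw [← Fintype.card_subtype]
      exact Fintype.card_congr (Equiv.subtypeEquivRight fun i => Iff.rfl)
    rcases GolayInvolutions.classification.1 (a w) (SetLike.coe_mem _) h2 with h | h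
    · refine Or.inr ?_
      have h8 : (Finset.univ.filter fun i => a w i = i).card = 8 := h.2
      obtain ⟨i, hi⟩ := Finset.card_pos.1 (show 0 < (Finset.univ.filter fun i => a w i = i).card by omega)
      exact ⟨⟨i, (Finset.mem_filter.1 hi).2⟩, by omega⟩
    · exact Or.inl ⟨h, by rw [hset, Finset.filter_false_of_mem (fun i _ => h i), Finset.card_empty]⟩
  have hone : Fintype.card (MulAction.fixedBy GolayPt (1 : ↥W)) = 24 := by
    rw [← h24]
    exact Fintype.card_congr (Equiv.subtypeUnivEquiv fun i => by simp [MulAction.fixedBy])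
  rw [← Finset.add_sum_erase _ _ (Finset.mem_univ (1 : ↥W)), hone] at key
  constructor
  · by_contra hcon
    rw [Finset.sum_eq_card_nsmul (b := 8) fun w hw => ?_] at key
    · rw [Finset.card_erase_of_mem (Finset.mem_univ _), Finset.card_univ, hcardW, smul_eq_mul] at key
      omega
    · rcases hval w (Finset.ne_of_mem_erase hw) with ⟨h, -⟩ | ⟨-, h⟩
      · exact absurd ⟨w.1, w.2, h⟩ hcon
      · exact h
  · by_contra hcon
    rw [Finset.sum_eq_zero fun w hw => ?_] at key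
    · omega
    · rcases hval w (Finset.ne_of_mem_erase hw) with ⟨-, h⟩ | ⟨h, -⟩
      · exact h
      · exact absurd ⟨w.1, w.2, fun e => Finset.ne_of_mem_erase hw (Subtype.ext e), h⟩ hcon

/-- An element of the fixed space of an involution in `E` reaches `E`. -/
theorem fix_inf_card (hK : Compl V K) {w : G} (hw : w ∈ E ⊓ K) :
    64 ≤ Nat.card {v : G // v ∈ E ⊓ V ∧ w * v = v * w} := by
  classical
  -- the conjugation defect takes the values `1` and `z`
  let S : Subgroup G := (E ⊓ V) ⊓ Subgroup.centralizer {w}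
  have hS : Nat.card {v : G // v ∈ E ⊓ V ∧ w * v = v * w} = Nat.card S :=
    Nat.card_congr (Equiv.subtypeEquivRight fun v => by
      simp [S, Subgroup.mem_inf, Subgroup.mem_centralizer_singleton_iff, and_assoc, eq_comm])
  have hidx : (S.subgroupOf (E ⊓ V)).index ≤ 2 := by
    let f : ↥(E ⊓ V) ⧸ S.subgroupOf (E ⊓ V) → Bool := Quotient.lift
      (fun v => decide (w * (v : G) = v * w)) (by
        intro x y hxy
        have h := QuotientGroup.leftRel_apply.1 hxy
        rw [Subgroup.mem_subgroupOf] at h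
        obtain ⟨-, h⟩ := Subgroup.mem_inf.1 h
        rw [Subgroup.mem_centralizer_singleton_iff, Subgroup.coe_mul, Subgroup.coe_inv] at h
        simp only [decide_eq_decide]
        have hc : Commute w ((x : G)⁻¹ * y) := h.symm
        constructor
        · intro e
          have : Commute w ((x : G) * ((x : G)⁻¹ * y)) := Commute.mul_right e hc
          rwa [mul_inv_cancel_left] at this
        · intro e
          have : Commute w ((y : G) * ((x : G)⁻¹ * y)⁻¹) := Commute.mul_right e hc.inv_right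
          rwa [mul_inv_rev, inv_inv, mul_inv_cancel_left] at this)
    have hf : Function.Injective f := by
      intro a b
      induction a using Quotient.inductionOn with
      | _ x =>
        induction b using Quotient.inductionOn with
        | _ y =>
          intro e
          refine Quotient.sound (QuotientGroup.leftRel_apply.2 ?_)
          rw [Subgroup.mem_subgroupOf]
          refine Subgroup.mem_inf.2 ⟨(x⁻¹ * y).2, ?_⟩
          rw [Subgroup.mem_centralizer_singleton_iff, Subgroup.coe_mul, Subgroup.coe_inv]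
          have e' : (w * (x : G) = x * w) ↔ (w * (y : G) = y * w) := by
            simpa [f] using e
          by_cases hx : w * (x : G) = x * w
          · exact ((Commute.inv_right hx).mul_right (e'.1 hx)).symm
          · have hy := fun h => hx (e'.2 h)
            have hzw : z * w = w * z := by
              rcases hC.conj w hw.1 z hC.zmem with h | h
              · exact (mul_inv_eq_iff_eq_mul.1 h).symm
              · rw [hl.sq z hC.zV] at h
                exact absurd ((mul_inv_eq_iff_eq_mul.1 h).trans (one_mul w))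
                  (fun h' => hx (by
                    have : z = 1 := mul_eq_left.1 h'
                    rcases hC.conj w hw.1 x x.2.1 with e | e
                    · exact mul_inv_eq_iff_eq_mul.1 e
                    · rw [this, one_mul] at e; exact mul_inv_eq_iff_eq_mul.1 e))
            have one : ∀ v : ↥(E ⊓ V), ¬ w * (v : G) = v * w → w * (v : G) * w⁻¹ = z * v := fun v hv =>
              (hC.conj w hw.1 v v.2.1).resolve_left fun h => hv (mul_inv_eq_iff_eq_mul.1 h)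
            have : w * ((x : G)⁻¹ * y) * w⁻¹ = (x : G)⁻¹ * y := by
              rw [show w * ((x : G)⁻¹ * y) * w⁻¹ = (w * x * w⁻¹)⁻¹ * (w * y * w⁻¹) by group, one x hx,
                one y hy]
              group
            exact (mul_inv_eq_iff_eq_mul.1 this).symm
    rw [Subgroup.index_eq_card]
    exact (Nat.card_le_card_of_injective f hf).trans (by simp)
  have h1 := Subgroup.card_mul_index (S.subgroupOf (E ⊓ V))
  rw [Nat.card_congr (Subgroup.subgroupOfEquivOfLe (inf_le_left : S ≤ E ⊓ V)).toEquiv, hC.card_inf] at h1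
  rw [hS]
  nlinarith

end

/-- The action of the normaliser on `V`, as additive maps. -/
theorem exists_rep (hl : Label z V φ cl) (hK : Compl V K) :
    ∃ (ι : Type u) (_ : AddCommGroup ι) (e : ι ≃ ↥V) (L : (GolayPt → ZMod 2) →+ ι)
      (ρ : ↥K →* AddMonoid.End ι),
      (∀ a b, ((e (a + b)) : G) = e a * e b) ∧ IsCocode L ∧
      (∀ v, ∃ s : Finset GolayPt, 2 ∣ s.card ∧ L (ind s) = v) ∧
      (∀ (k : ↥K) v, (e (ρ k v) : G) = k * e v * (k : G)⁻¹) ∧
      (∀ w, (e (L w) : G) = cl w) ∧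
      ∀ k, Induces L (ρ k)
        (φ.comp (Subgroup.inclusion hK.le) k : Equiv.Perm GolayPt) := by
  letI : CommGroup ↥V :=
    { V.toGroup with mul_comm := fun a b => Subtype.ext (hl.comm a a.2 b b.2) }
  let L : (GolayPt → ZMod 2) →+ Additive ↥V :=
    AddMonoidHom.mk' (fun w => Additive.ofMul ⟨cl w, hl.mem w⟩) fun v w =>
      congrArg Additive.ofMul (Subtype.ext (hl.map_add v w))
  let c : ↥K →* AddMonoid.End (Additive ↥V) :=
    { toFun := fun k =>
        { toFun := fun v => Additive.ofMul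
            ⟨(k : G) * (Additive.toMul v).1 * (k : G)⁻¹, mem_conj (hK.le k.2) (Additive.toMul v).2⟩
          map_zero' := congrArg Additive.ofMul (Subtype.ext (by simp) :
            (⟨(k : G) * (1 : ↥V).1 * (k : G)⁻¹, mem_conj (hK.le k.2) (one_mem _)⟩ : ↥V) = 1)
          map_add' := fun a b => congrArg Additive.ofMul (Subtype.ext (by simp [mul_assoc]) :
            (⟨(k : G) * (Additive.toMul a * Additive.toMul b).1 * (k : G)⁻¹, mem_conj (hK.le k.2)
              (Additive.toMul a * Additive.toMul b).2⟩ : ↥V) =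
              ⟨_, mem_conj (hK.le k.2) (Additive.toMul a).2⟩ *
                ⟨_, mem_conj (hK.le k.2) (Additive.toMul b).2⟩) }
      map_one' := AddMonoidHom.ext fun v => congrArg Additive.ofMul (Subtype.ext (by simp) :
        (⟨((1 : ↥K) : G) * (Additive.toMul v).1 * ((1 : ↥K) : G)⁻¹,
          mem_conj (hK.le (1 : ↥K).2) (Additive.toMul v).2⟩ : ↥V) = Additive.toMul v)
      map_mul' := fun a b => AddMonoidHom.ext fun v => congrArg Additive.ofMul (Subtype.ext
        (show ((a * b : ↥K) : G) * (Additive.toMul v).1 * ((a * b : ↥K) : G)⁻¹ =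
          (a : G) * ((b : G) * (Additive.toMul v).1 * (b : G)⁻¹) * (a : G)⁻¹ by simp [mul_assoc])) }
  refine ⟨Additive ↥V, inferInstance, Additive.toMul, L, c, fun a b => rfl, fun s hs => ?_,
    fun v => ?_, fun k v => rfl, fun w => rfl, fun k p q hpq => ?_⟩
  · rw [← hl.code s hs]
    exact ⟨fun e => congrArg (fun v : Additive ↥V => (Additive.toMul v).1) e,
      fun e => congrArg Additive.ofMul (Subtype.ext e)⟩
  · obtain ⟨s, hs, e⟩ := hl.span _ (Additive.toMul v).2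
    exact ⟨s, hs, congrArg Additive.ofMul (Subtype.ext e)⟩
  · exact congrArg Additive.ofMul (Subtype.ext (hl.equiv (Subgroup.inclusion hK.le k) p q hpq))

section
variable (hC : Core z p V E) (hl : Label z V φ cl)
include hC hl

/-- An involution `w * c` with `w` in `E ⊓ K` is conjugate into `V`. -/
theorem reach_V (hK : Compl V K) {w c : G} (hw : w ∈ E ⊓ K) (hw1 : w ≠ 1) (hc : c ∈ V)
    (hwc : w * c = c * w) : ∃ g : G, g * (w * c) * g⁻¹ ∈ V := by
  classical
  have hw2 := sq_EK hC hl hK hw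
  have inE : ∀ d, d ∈ E ⊓ V → w * d = d * w → ∃ g : G, g * (w * d) * g⁻¹ ∈ V := fun d hd hwd =>
    hC.invol _ (mul_mem hw.1 hd.1) (by
      calc w * d * (w * d) = w * (d * w) * d := by group
        _ = w * (w * d) * d := by rw [hwd]
        _ = (w * w) * (d * d) := by group
        _ = 1 := by rw [hw2, hl.sq d hd.2, one_mul])
  obtain ⟨ι, _, e, L, ρ, he, hL, hspan, hρ, -, hind⟩ := exists_rep hl hK
  let k : ↥K := ⟨w, hw.2⟩
  have hk2 : k * k = 1 := Subtype.ext hw2
  have hk1 : k ≠ 1 := fun h => hw1 (congrArg Subtype.val h)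
  have hfix : ∀ v, ρ k v = v ↔ w * (e v : G) = e v * w := fun v => by
    rw [← mul_inv_eq_iff_eq_mul, show w * (e v : G) * w⁻¹ = e (ρ k v) from (hρ k v).symm,
      Subtype.coe_inj, e.injective.eq_iff]
  let F := {v : G // v ∈ V ∧ w * v = v * w}
  have hF : Nat.card {v // ρ k v = v} = Nat.card F :=
    Nat.card_congr
      { toFun := fun v => ⟨e v.1, (e v.1).2, (hfix _).1 v.2⟩
        invFun := fun v => ⟨e.symm ⟨v.1, v.2.1⟩, (hfix _).2 (by rw [e.apply_symm_apply]; exact v.2.2)⟩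
        left_inv := fun v => Subtype.ext (e.symm_apply_apply v.1)
        right_inv := fun v => by ext; simp }
  have hlow := fix_inf_card hC hl hK hw
  by_cases hfp : ∀ i, (φ.comp (Subgroup.inclusion hK.le) k : Equiv.Perm GolayPt) i ≠ i
  · -- no fixed point: the whole fixed space lies in `E`
    have h64 := M24CocodeInvol46.card_fix_fpf hL hspan hind (hK.phi_surj hl) hk2 hfp
    let f : {v : G // v ∈ E ⊓ V ∧ w * v = v * w} → F := fun v => ⟨v.1, v.2.1.2, v.2.2⟩
    have hf : Function.Injective f := fun a b h => Subtype.ext (congrArg (fun x : F => x.1) h)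
    obtain ⟨⟨c', hc'⟩, e'⟩ := (hf.bijective_of_nat_card_le (by rw [← hF, h64]; exact hlow)).2
      ⟨c, hc, hwc⟩
    have : c' = c := congrArg (fun x : F => x.1) e'
    exact inE c (this ▸ hc'.1) hwc
  · push Not at hfp
    have hO := M24CocodeInvol46.oct_of_fix hL hspan hind (hK.phi_surj hl) (hK.phi_inj hl) hk2 hk1 hfp
    -- a fixed vector inside `E` which is no commutator
    let f : {v : G // v ∈ E ⊓ V ∧ w * v = v * w} → ι := fun v => e.symm ⟨v.1, v.2.1.2⟩
    have hf : Function.Injective f := fun a b h =>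
      Subtype.ext (congrArg Subtype.val (e.symm.injective h) :)
    have hex : ∃ v : {v : G // v ∈ E ⊓ V ∧ w * v = v * w}, ¬ M24CocodeInvol46.Comm ρ k (f v) := by
      by_contra hall
      push Not at hall
      haveI : Finite ι := Finite.of_equiv _ e.symm
      have := Nat.card_le_card_of_injective
        (fun v => (⟨f v, hall v⟩ : {x // M24CocodeInvol46.Comm ρ k x}))
        fun a b h => hf (congrArg Subtype.val h)
      rw [hO.card_comm] at this
      omega
    obtain ⟨⟨c0, hc0, hwc0⟩, hnc⟩ := hex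
    have he0 : (e (f ⟨c0, hc0, hwc0⟩) : G) = c0 := by simp [f]
    -- shifting by a commutator is conjugation
    have hshift : ∀ (d : ι) (x : G), x ∈ V → w * x = x * w → M24CocodeInvol46.Comm ρ k d →
        ∃ g : G, g * (w * x) * g⁻¹ = w * (x * (e d : G)) := by
      rintro _ x hx hwx ⟨v, rfl⟩
      refine ⟨e v, ?_⟩
      have hv : (e v : G)⁻¹ = e v := inv_eq_of_mul_eq_one_right (hl.sq _ (e v).2)
      have hcv : w * (e v : G) * w⁻¹ ∈ V := mem_conj (hK.le hw.2) (e v).2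
      rw [he, hρ, hv]
      show (e v : G) * (w * x) * e v = w * (x * (e v * (w * e v * w⁻¹)))
      have hwi : w⁻¹ = w := inv_eq_of_mul_eq_one_right hw2
      rw [hl.comm _ (e v).2 _ hcv, ← mul_assoc x, hl.comm _ hx _ hcv, hwi]
      calc (e v : G) * (w * x) * e v = (w * w) * e v * (w * x) * e v := by rw [hw2, one_mul]
        _ = _ := by group
    by_cases hcc : M24CocodeInvol46.Comm ρ k (e.symm ⟨c, hc⟩)
    · obtain ⟨g, hg⟩ := hshift _ 1 (one_mem V) (by rw [mul_one, one_mul]) hcc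
      rw [e.apply_symm_apply, one_mul, mul_one] at hg
      obtain ⟨g', hg'⟩ := inE 1 (one_mem _) (by rw [mul_one, one_mul])
      rw [mul_one] at hg'
      refine ⟨g' * g⁻¹, ?_⟩
      show g' * g⁻¹ * (w * c) * (g' * g⁻¹)⁻¹ ∈ V
      rw [show w * c = g * w * g⁻¹ from hg.symm]
      rwa [show g' * g⁻¹ * (g * w * g⁻¹) * (g' * g⁻¹)⁻¹ = g' * w * g'⁻¹ by group]
    · obtain ⟨g, hg, hd⟩ := hO.trans _ _ ((hfix _).2 (by rw [he0]; exact hwc0))
        ((hfix (e.symm ⟨c, hc⟩)).2 (by rw [e.apply_symm_apply]; exact hwc)) hnc hcc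
      have hgw : (g : G) * w = w * g := congrArg Subtype.val hg
      set x := (g : G) * c0 * (g : G)⁻¹ with hx
      have hxV : x ∈ V := mem_conj (hK.le g.2) hc0.2
      have hwx : w * x = x * w := by
        rw [hx]
        calc w * (↑g * c0 * (↑g)⁻¹) = (w * g) * c0 * (↑g)⁻¹ := by group
          _ = g * (w * c0) * (↑g)⁻¹ := by rw [← hgw]; group
          _ = g * (c0 * w) * (↑g)⁻¹ := by rw [hwc0]
          _ = g * c0 * ((↑g)⁻¹ * (g * w)) * (↑g)⁻¹ := by group
          _ = g * c0 * ((↑g)⁻¹ * (w * g)) * (↑g)⁻¹ := by rw [hgw]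
          _ = _ := by group
      obtain ⟨u, hu⟩ := hshift _ x hxV hwx hd
      rw [he, hρ, he0, e.apply_symm_apply, ← hx, ← mul_assoc x, hl.sq x hxV, one_mul] at hu
      obtain ⟨g', hg'⟩ := inE c0 hc0 hwc0
      refine ⟨g' * (u * g)⁻¹, ?_⟩
      have hxc : w * x = g * (w * c0) * (g : G)⁻¹ := by rw [hx, ← mul_assoc (g : G) w c0, hgw]; group
      rw [show w * c = (u * g) * (w * c0) * (u * g)⁻¹ by rw [← hu, hxc]; group]
      rwa [show g' * (u * ↑g)⁻¹ * (u * ↑g * (w * c0) * (u * ↑g)⁻¹) * (g' * (u * ↑g)⁻¹)⁻¹ =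
        g' * (w * c0) * g'⁻¹ by group]

/-- Every involution of the normaliser is conjugate into `V`. -/
theorem invol_normalizer (hK : Compl V K) {i : G} (hi : i ∈ N[V]) (hi2 : i * i = 1) :
    ∃ g : G, g * i * g⁻¹ ∈ V := by
  obtain ⟨K', hK', hp⟩ := exists_compl_p hC hl hK
  obtain ⟨k, hk, v, hv, rfl⟩ := hK'.decomp hi
  by_cases hk1 : k = 1
  · exact ⟨1, by simpa [hk1] using hv⟩
  have hkk : k * k = 1 := by
    refine hK'.eq_one (mul_mem hk hk) ?_
    have h1 : k * v * k⁻¹ ∈ V := mem_conj (hK'.le hk) hv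
    have h2 : (k * v) * (k * v) = (k * v * k⁻¹) * (k * k) * v := by group
    rw [hi2] at h2
    have h3 : k * k = (k * v * k⁻¹)⁻¹ * v⁻¹ := by
      calc k * k = (k * v * k⁻¹)⁻¹ * ((k * v * k⁻¹) * (k * k) * v) * v⁻¹ := by group
        _ = _ := by rw [← h2, mul_one]
    rw [h3]
    exact mul_mem (inv_mem h1) (inv_mem hv)
  obtain ⟨hfree, hfixed⟩ := both_kinds hC hl hK' hp
  set f := φ.comp (Subgroup.inclusion hK'.le) with hf
  have hinj := hK'.phi_inj hl
  have hord : ∀ w (hw : w ∈ K'), w * w = 1 → w ≠ 1 → orderOf (f ⟨w, hw⟩ : Equiv.Perm GolayPt) = 2 := by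
    intro w hw h2 h1
    refine orderOf_eq_prime ?_ fun e => h1 ?_
    · rw [sq, ← Subgroup.coe_mul, ← map_mul, show (⟨w, hw⟩ : ↥K') * ⟨w, hw⟩ = 1 from Subtype.ext h2,
        map_one, Subgroup.coe_one]
    · exact congrArg Subtype.val (hinj ((Subtype.ext e).trans (map_one f).symm) :
        (⟨w, hw⟩ : ↥K') = 1)
  obtain ⟨w, hw, hw1, hkind⟩ : ∃ w, ∃ hw : w ∈ E ⊓ K', w ≠ 1 ∧
      ((∀ j, (f ⟨k, hk⟩ : Equiv.Perm GolayPt) j ≠ j) ↔ ∀ j, (f ⟨w, hw.2⟩ : Equiv.Perm GolayPt) j ≠ j) := by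
    by_cases hfp : ∀ j, (f ⟨k, hk⟩ : Equiv.Perm GolayPt) j ≠ j
    · obtain ⟨w, hw, h⟩ := hfree
      refine ⟨w, hw, fun e => h none ?_, iff_of_true hfp h⟩
      subst e
      rw [show (⟨1, hK'.le hw.2⟩ : ↥(N[V])) = 1 from rfl, map_one]
      rfl
    · obtain ⟨w, hw, h1, j, hj⟩ := hfixed
      exact ⟨w, hw, h1, iff_of_false hfp fun h => h j hj⟩
  obtain ⟨τ, hτ, e⟩ := GolayInvolutions.classification.2.2.2 _ (f ⟨k, hk⟩).2 _ (f ⟨w, hw.2⟩).2
    (hord k hk hkk hk1) (hord w hw.2 (sq_EK hC hl hK' hw) hw1) hkind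
  obtain ⟨g, hg⟩ := hK'.phi_surj hl ⟨τ, hτ⟩
  have hgk : (g : G) * k * (g : G)⁻¹ = w :=
    congrArg Subtype.val (hinj (Subtype.ext (by rw [map_mul, map_mul, map_inv, hg]; exact e)) :
      g * ⟨k, hk⟩ * g⁻¹ = (⟨w, hw.2⟩ : ↥K'))
  set c := (g : G) * v * (g : G)⁻¹ with hc
  have hcV : c ∈ V := mem_conj (hK'.le g.2) hv
  have hi' : (g : G) * (k * v) * (g : G)⁻¹ = w * c := by rw [← hgk, hc]; group
  have hwc : w * c = c * w := by
    have h2 : (w * c) * (w * c) = 1 := by
      rw [← hi', show ↑g * (k * v) * (↑g)⁻¹ * (↑g * (k * v) * (↑g)⁻¹) = ↑g * (k * v * (k * v)) * (↑g)⁻¹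
        by group, hi2]
      group
    calc w * c = (w * c)⁻¹ := (inv_eq_of_mul_eq_one_right h2).symm
      _ = c⁻¹ * w⁻¹ := mul_inv_rev w c
      _ = c * w := by
        rw [inv_eq_of_mul_eq_one_right (hl.sq c hcV), inv_eq_of_mul_eq_one_right (sq_EK hC hl hK' hw)]
  obtain ⟨g', hg'⟩ := reach_V hC hl hK' hw hw1 hcV hwc
  refine ⟨g' * g, ?_⟩
  rwa [show g' * ↑g * (k * v) * (g' * ↑g)⁻¹ = g' * (↑g * (k * v) * (↑g)⁻¹) * g'⁻¹ by group, hi']

end

/-- If every Sylow 2-subgroup contains a unique elementary abelian subgroup of that order, every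
involution is conjugate into the normaliser of one of them. -/
theorem exists_conj_normalizer (huniq : ∀ T : Sylow 2 G, ∃! W : Subgroup G,
    W ≤ (T : Subgroup G) ∧ IsElementaryAbelian 2 W ∧ Nat.card ↥W = 2 ^ 11)
    (hV : IsElementaryAbelian 2 V) (hcard : Nat.card ↥V = 2 ^ 11) {i : G} (hi : i * i = 1) :
    ∃ g : G, g * i * g⁻¹ ∈ N[V] := by
  classical
  haveI : Fact (Nat.Prime 2) := ⟨Nat.prime_two⟩
  obtain ⟨S, hS⟩ := (IsPGroup.of_card (p := 2) hcard).exists_le_sylow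
  have hSN : (S : Subgroup G) ≤ N[V] := by
    intro s hs
    let e := MulAut.conj s
    have hmap : V.map e.toMonoidHom = V := by
      obtain ⟨W, -, hW⟩ := huniq S
      refine (hW _ ⟨?_, ?_, ?_⟩).trans (hW V ⟨hS, hV, hcard⟩).symm
      · rintro _ ⟨v, hv, rfl⟩
        exact mul_mem (mul_mem hs (hS hv)) (inv_mem hs)
      · haveI := hV.1
        refine ⟨⟨⟨?_⟩⟩, fun x hx => ?_⟩
        · rintro ⟨_, a, ha, rfl⟩ ⟨_, b, hb, rfl⟩
          refine Subtype.ext ?_
          show e.toMonoidHom a * e.toMonoidHom b = e.toMonoidHom b * e.toMonoidHom a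
          have h : a * b = b * a :=
            congrArg Subtype.val (this.is_comm.comm (⟨a, ha⟩ : ↥V) ⟨b, hb⟩)
          rw [← map_mul, ← map_mul, h]
        · obtain ⟨v, hv, rfl⟩ := hx
          rw [← map_pow, hV.2 v hv, map_one]
      · rw [← hcard]
        exact (Nat.card_congr (V.equivMapOfInjective _ e.injective).toEquiv).symm
    refine Subgroup.mem_normalizer_iff.2 fun x => ⟨fun hx => hmap ▸ ⟨x, hx, rfl⟩, fun hx => ?_⟩
    have hx' : s * x * s⁻¹ ∈ V.map e.toMonoidHom := hmap.symm ▸ hx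
    obtain ⟨y, hy, ey⟩ := hx'
    exact e.injective ey ▸ hy
  have hpz : IsPGroup 2 (Subgroup.zpowers i) := by
    rintro ⟨x, k, rfl⟩
    refine ⟨1, Subtype.ext ?_⟩
    show (i ^ k) ^ (2 ^ 1) = 1
    rw [pow_one, ← zpow_natCast, ← zpow_mul, mul_comm, zpow_mul, zpow_natCast, sq, hi, one_zpow]
  obtain ⟨T, hT⟩ := hpz.exists_le_sylow
  obtain ⟨g, hg⟩ := MulAction.exists_smul_eq G T S
  refine ⟨g, hSN ?_⟩
  rw [← hg]
  exact ⟨i, hT (Subgroup.mem_zpowers i), rfl⟩

/-- Every involution is conjugate into `V`. -/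
theorem exists_conj_into (huniq : ∀ T : Sylow 2 G, ∃! W : Subgroup G,
    W ≤ (T : Subgroup G) ∧ IsElementaryAbelian 2 W ∧ Nat.card ↥W = 2 ^ 11)
    (hV : IsElementaryAbelian 2 V) (hcard : Nat.card ↥V = 2 ^ 11)
    (hC : Core z p V E) (hl : Label z V φ cl) (hK : Compl V K) {i : G} (hi : i * i = 1) :
    ∃ g : G, g * i * g⁻¹ ∈ V := by
  obtain ⟨g, hg⟩ := exists_conj_normalizer huniq hV hcard hi
  obtain ⟨g', hg'⟩ := invol_normalizer hC hl hK hg (by
    rw [show g * i * g⁻¹ * (g * i * g⁻¹) = g * (i * i) * g⁻¹ by group, hi]; group)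
  exact ⟨g' * g, by rwa [show g' * g * i * (g' * g)⁻¹ = g' * (g * i * g⁻¹) * g'⁻¹ by group]⟩

/-- The centraliser in `K` of a duad is the stabiliser of a pair of points. -/
theorem duad_centralizer (hl : Label z V φ cl) (hK : Compl V K) {t : G} (htV : t ∈ V) (ht1 : t ≠ 1)
    (hnc : ¬ IsConj z t) (hle : Subgroup.centralizer ({t} : Set G) ≤ N[V]) :
    ∃ K' : Subgroup G, K' ≤ Subgroup.centralizer ({t} : Set G) ∧ K' ⊓ V = ⊥ ∧
      K' ⊔ V = Subgroup.centralizer ({t} : Set G) ∧ Nonempty (↥K' ≃* MulAut ↥Spor.M22) := by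
  obtain ⟨a, b, hab, rfl⟩ := (hl.duad t).1 ⟨htV, ht1, hnc⟩
  set t := cl (ind {a, b}) with ht
  let C := Subgroup.centralizer ({t} : Set G)
  have hVC : V ≤ C := fun v hv => Subgroup.mem_centralizer_singleton_iff.2 (hl.comm v hv t htV)
  refine ⟨K ⊓ C, inf_le_right, eq_bot_iff.2 ((inf_le_inf_right V inf_le_left).trans hK.inf.le),
    le_antisymm (sup_le inf_le_right hVC) ?_, ?_⟩
  · intro x hx
    obtain ⟨k, hk, v, hv, rfl⟩ := hK.decomp (hle hx)
    refine mul_mem (Subgroup.mem_sup_left (Subgroup.mem_inf.2 ⟨hk, ?_⟩)) (Subgroup.mem_sup_right hv)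
    simpa using mul_mem hx (inv_mem (hVC hv))
  obtain ⟨ι, _, e, L, ρ, -, hL, -, hρ, he, hind⟩ := exists_rep hl hK
  let f := (Subgroup.subtype M24).comp (φ.comp (Subgroup.inclusion hK.le))
  have hinj : Function.Injective f := Subtype.val_injective.comp (hK.phi_inj hl)
  have key : ∀ k : ↥K, (k : G) ∈ C ↔ f k ∈ M24DuadAut46.duadStab a b := by
    intro k
    rw [M24DuadAut46.mem_duadStab, Subgroup.mem_centralizer_singleton_iff, ← mul_inv_eq_iff_eq_mul,
      show t = (e (duad L a b) : G) from (he _).symm, ← hρ, Subtype.coe_inj, e.injective.eq_iff,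
      hind k a b hab]
    show duad L (f k a) (f k b) = duad L a b ↔ _
    rw [duad_eq_iff hL ((f k).injective.ne hab) hab, ← Finset.coe_inj,
      Finset.coe_pair, Finset.coe_pair, Set.pair_eq_pair_iff]
    exact ⟨fun h => ⟨SetLike.coe_mem _, h⟩, fun h => h.2⟩
  have hmap : ((K ⊓ C).subgroupOf K).map f = M24DuadAut46.duadStab a b := by
    ext σ
    constructor
    · rintro ⟨k, hk, rfl⟩
      exact (key k).1 hk.2
    · intro hσ
      obtain ⟨k, hk⟩ := hK.phi_surj hl ⟨σ, hσ.1⟩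
      have hfk : f k = σ := congrArg Subtype.val hk
      exact ⟨k, Subgroup.mem_inf.2 ⟨k.2, (key k).2 (hfk ▸ hσ)⟩, hfk⟩
  obtain ⟨iso⟩ := M24DuadAut46.duadStab_iso hab
  exact ⟨(((Subgroup.subgroupOfEquivOfLe inf_le_left).symm.trans
    (Subgroup.equivMapOfInjective _ f hinj)).trans (MulEquiv.subgroupCongr hmap)).trans iso⟩

end Cfsg.Agent.J4Invol46
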