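import Mathlib
import Cfsg.Agent.Lib.J4Thompson85
import Cfsg.Agent.Lib.J4Invol46

/-!
The maximal normal 2-subgroup of the centraliser of `z` satisfies the hypotheses used to fuse every
involution into the elementary abelian subgroup of order `2 ^ 11`.
-/

set_option autoImplicit false
set_option linter.unusedSectionVars false
set_option linter.style.haveILetI false
set_option maxHeartbeats 800000

namespace Cfsg.Agent.J4InvolCore46

open Subgroup Cfsg.Agent.LargeExtraspecial Cfsg.Agent.U62Mon93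
  Cfsg.Agent.LFForm89 Cfsg.Agent.J4Coord85 Cfsg.Agent.J4Syl18 Cfsg.Agent.JFourSetting97
  Cfsg.Agent.JFourModule85 Cfsg.Agent.J4Elem85

universe u

variable {G : Type u} [Group G] [Finite G] {z : G} {P : Subgroup G}
variable {V : Type u} [AddCommGroup V] {zc : ↥(HH z)}
  {π : ↥(HH z) → V} {ρ : ↥(HH z) ⧸ QQ z →* AddMonoid.End V}
  {q : V → ZMod 2} {n : ↥(HH z) ⧸ QQ z}
  {Mb : Subgroup (↥(HH z) ⧸ QQ z)}
variable (D : Data z P zc π ρ q n Mb)
variable {F : Type} [Field F] [Fintype F] {s : F} {h : S4 s} {ν : (Fin 6 → F) → V}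
  (C : J4Syl18.Coord h ρ q n Mb ν)

include D C

/-- An element whose image fixes the image of `AA` normalises its image in the group. -/
theorem normalises {g : ↥(HH z)} (hg : ∀ e ∈ E1 (hyp D) C, mk z g * e * (mk z g)⁻¹ = e) :
    (g : G) ∈ Subgroup.normalizer (J4Thompson85.AG D C : Set G) := by
  have key : ∀ g : ↥(HH z), (∀ e ∈ E1 (hyp D) C, mk z g * e * (mk z g)⁻¹ = e) →
      ∀ x ∈ J4Thompson85.AG D C, (g : G) * x * (g : G)⁻¹ ∈ J4Thompson85.AG D C := by
    rintro g hg _ ⟨a, ha, rfl⟩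
    exact ⟨g * a * g⁻¹, conj_mem_AE D (fun e he => by rw [hg e he]; exact he) ha, rfl⟩
  have hgi : ∀ e ∈ E1 (hyp D) C, mk z g⁻¹ * e * (mk z g⁻¹)⁻¹ = e := fun e he => by
    rw [map_inv]
    conv_lhs => rw [← hg e he]
    group
  refine Subgroup.mem_normalizer_iff.2 fun x => ⟨key g hg x, fun hx => ?_⟩
  have := key g⁻¹ hgi _ hx
  simpa [mul_assoc] using this

/-- The hypotheses on the maximal normal 2-subgroup of the centraliser. -/
theorem core (hJ : Cfsg.IsOfJankoFourTypeWith z P) :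
    ∃ p : G, J4Invol46.Core z p (J4Thompson85.AG D C) (Cfsg.twoCoreOfCentralizer z) := by
  classical
  haveI := finiteV D
  obtain ⟨p, hp, hord, hn⟩ := D.n_lift
  have hmap : Cfsg.twoCoreOfCentralizer z = (QQ z).map (HH z).subtype := rfl
  obtain ⟨hea, hcard, hE1, hinf⟩ := AA_facts D C
  have hcn : ∀ e ∈ E1 (hyp D) C, n * e * n⁻¹ = e := fun e he => by
    rw [← (hyp D).comm_n e ((T0_le (hyp D) C) ((E1_le (hyp D) C) he)), mul_inv_cancel_right]
  refine ⟨p, ?_⟩
  constructor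
  · exact (J4Thompson85.AG_facts D C).2.2
  · rw [hmap, Subgroup.card_map_of_injective (Subgroup.subtype_injective _), D.card_Q]
  · rw [hmap, J4Thompson85.AG, ← Subgroup.map_inf _ _ _ (Subgroup.subtype_injective _),
      Subgroup.card_map_of_injective (Subgroup.subtype_injective _), inf_comm, hinf,
      card_Qf D (U := UU D C) (card_Fix_E1 (hyp D) C)]
    norm_num
  · rintro _ ⟨e, he, rfl⟩
    refine normalises D C fun x _ => ?_
    rw [show mk z e = 1 from (QuotientGroup.eq_one_iff e).2 he, one_mul, inv_one, mul_one]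
  · rintro _ ⟨v, -, rfl⟩ _ ⟨e, he, rfl⟩
    exact ⟨v * e * v⁻¹, (inferInstance : (QQ z).Normal).conj_mem e he v, rfl⟩
  · exact ⟨zc, D.ext.mem, D.zc_val⟩
  · rw [← hord]; exact pow_orderOf_eq_one _
  · exact normalises D C fun e he => by rw [hn]; exact hcn e he
  · rintro _ ⟨e, he, rfl⟩
    exact ⟨p * e * p⁻¹, (inferInstance : (QQ z).Normal).conj_mem e he p, rfl⟩
  · intro e he hpe
    have h1 : e ∈ Cfsg.twoCoreOfCentralizer z ⊓ Subgroup.centralizer (P : Set G) := by
      refine ⟨he, ?_⟩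
      rw [← hp]
      exact Subgroup.mem_centralizer_iff.2 fun y hy => by
        obtain ⟨k, rfl⟩ := Subgroup.mem_zpowers_iff.1 hy
        exact ((show Commute (p : G) e from hpe).zpow_left k).eq
    rw [hJ.2.2.2.2.2.2.1] at h1
    exact Subgroup.zpowers_le.2 (J4Thompson85.AG_facts D C).2.2 h1
  · rintro _ ⟨v, hv, rfl⟩
    refine ⟨p * v * p⁻¹ * v⁻¹, (QuotientGroup.eq_one_iff _).1 ?_, rfl⟩
    show mk z (p * v * p⁻¹ * v⁻¹) = 1
    rw [map_mul, map_mul, map_mul, map_inv, map_inv, hn,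
      hcn _ (hE1.le (Subgroup.mem_map_of_mem _ hv)), mul_inv_cancel]
  · rintro _ ⟨e, he, rfl⟩
    rcases D.ext.sq e he with h1 | h1
    · exact Or.inl (congrArg Subtype.val h1)
    · exact Or.inr ((congrArg Subtype.val h1).trans D.zc_val)
  · rintro _ ⟨x, hx, rfl⟩ _ ⟨y, hy, rfl⟩
    rcases D.ext.conj x hx y hy with h1 | h1
    · exact Or.inl (congrArg Subtype.val h1)
    · refine Or.inr ((congrArg Subtype.val h1).trans ?_)
      show (zc : G) * y = z * y
      rw [D.zc_val]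
  · rintro _ ⟨e, he, rfl⟩ h2
    obtain ⟨g, -, hgU⟩ := reach (hyp D) C ((sq_iff D he).1 (Subtype.ext h2))
    obtain ⟨h', rfl⟩ := QuotientGroup.mk'_surjective (QQ z) g
    refine ⟨h', h' * e * h'⁻¹, ?_, rfl⟩
    show h' * e * h'⁻¹ ∈ AA D C
    rw [mem_AA_Q D C ((inferInstance : (QQ z).Normal).conj_mem e he h'), act D h' he]
    exact hgU

end Cfsg.Agent.J4InvolCore46
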