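import Mathlib
import Cfsg.Agent.Lib.J4Invol46
import Cfsg.Agent.Lib.GolayCocodeTables22
import Cfsg.Agent.Lib.J4Coord97
import Cfsg.Agent.Lib.J4CocodeData22
import Cfsg.Agent.Lib.J4Fusion18
import Cfsg.Agent.Lib.J4Thompson85

/-!
The elementary abelian subgroup of order `2 ^ 11` of a group of Janko-four type, labelled by the even
part of the Golay cocode, with the action of its normaliser on the points.
-/

set_option autoImplicit false
set_option linter.unusedSectionVars false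
set_option linter.style.haveILetI false
set_option maxRecDepth 100000
set_option maxHeartbeats 800000

namespace Cfsg.Agent.J4InvolLabel46

open Cfsg Cfsg.Agent.GolayModule Cfsg.Agent.GolayDuadRigid13 Cfsg.Agent.GolayCocodeTables22
open Cfsg.Agent.JFourSetting97 Cfsg.Agent.JFourModule85

universe u

variable {G : Type u} [Group G] [Finite G]

/-- The labelling obtained from bit coordinates and tables. -/
theorem label_of (z : G) (A : Subgroup G) (Ψ : ℕ → G) {lab : List ℕ} {spanC : List (List ℕ)}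
    {R : List ℕ} (hT : tablesOK lab spanC R = true)
    (hmul : ∀ a b, Ψ (Nat.xor a b) = Ψ a * Ψ b) (hA : ∀ i, Ψ i ∈ A)
    (hinj : ∀ i < 2048, ∀ j < 2048, Ψ i = Ψ j → i = j) (hsurj : ∀ x ∈ A, ∃ i < 2048, Ψ i = x)
    (hR : ∀ x, (x ∈ A ∧ x ≠ 1 ∧ ¬ IsConj z x) ↔ ∃ r ∈ R, Ψ r = x)
    (hcent : ∀ g, (∀ x ∈ A, g * x = x * g) → g ∈ A)
    (hdvd : 501397585920 ∣ Nat.card (Subgroup.normalizer (A : Set G))) :
    ∃ (φ : ↥(Subgroup.normalizer (A : Set G)) →* ↥M24) (cl : (GolayPt → ZMod 2) → G),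
      J4Invol46.Label z A φ cl := by
  classical
  have hcomm : ∀ a ∈ A, ∀ b ∈ A, a * b = b * a := fun a ha b hb => by
    obtain ⟨i, -, rfl⟩ := hsurj a ha
    obtain ⟨j, -, rfl⟩ := hsurj b hb
    rw [← hmul, ← hmul, show Nat.xor i j = Nat.xor j i from Nat.xor_comm i j]
  have hcard : Nat.card A = 2 ^ 11 := by
    let f : Fin 2048 → A := fun i => ⟨Ψ i, hA i⟩
    rw [← Nat.card_congr (Equiv.ofBijective f ⟨fun a b e => Fin.ext (hinj a a.2 b b.2 (congrArg Subtype.val e)),
      fun v => by obtain ⟨i, hi, e⟩ := hsurj v v.2; exact ⟨⟨i, hi⟩, Subtype.ext e⟩⟩), Nat.card_fin]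
    rfl
  have hnorm : ∀ {m x : G}, m ∈ Subgroup.normalizer (A : Set G) → x ∈ A → m * x * m⁻¹ ∈ A :=
    fun {m x} hm hx => (Subgroup.mem_normalizer_iff.1 hm x).1 hx
  letI : CommGroup A :=
    { A.toGroup with mul_comm := fun a b => Subtype.ext (hcomm a a.2 b b.2) }
  let M := Subgroup.normalizer (A : Set G)
  let ψ : ℕ → Additive A := fun i => Additive.ofMul ⟨Ψ i, hA i⟩
  have hx : ∀ a b, ψ (Nat.xor a b) = ψ a + ψ b := fun a b =>
    congrArg Additive.ofMul (Subtype.ext (hmul a b) :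
      (⟨Ψ (Nat.xor a b), hA _⟩ : A) = ⟨Ψ a, hA a⟩ * ⟨Ψ b, hA b⟩)
  have hinj' : ∀ i < 2048, ∀ j < 2048, ψ i = ψ j → i = j := fun i hi j hj e =>
    hinj i hi j hj (congrArg (fun v : Additive A => (Additive.toMul v).1) e)
  have hsurj' : ∀ v, ∃ i < 2048, ψ i = v := fun v => by
    obtain ⟨i, hi, e⟩ := hsurj _ (Additive.toMul v).2
    exact ⟨i, hi, congrArg Additive.ofMul (Subtype.ext e : (⟨Ψ i, hA i⟩ : A) = Additive.toMul v)⟩
  obtain ⟨hL, hspan, hduads⟩ := cocode hx hT hinj' hsurj'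
  set L := Lc lab ψ hx with hLdef
  have hdiff : ∀ v, v ∈ duads L ↔ (Additive.toMul v).1 ≠ 1 ∧ ¬ IsConj z (Additive.toMul v).1 := by
    intro v
    rw [hduads]
    constructor
    · rintro ⟨r, hr, rfl⟩
      exact ((hR _).2 ⟨r, hr, rfl⟩).2
    · intro hv
      obtain ⟨r, hr, e⟩ := (hR _).1 ⟨(Additive.toMul v).2, hv.1, hv.2⟩
      exact ⟨r, hr, congrArg Additive.ofMul (Subtype.ext e : (⟨Ψ r, hA r⟩ : A) = Additive.toMul v)⟩
  let c : M →* AddMonoid.End (Additive A) :=
    { toFun := fun m =>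
        { toFun := fun v => Additive.ofMul
            ⟨(m : G) * (Additive.toMul v).1 * (m : G)⁻¹, hnorm m.2 (Additive.toMul v).2⟩
          map_zero' := congrArg Additive.ofMul (Subtype.ext (by simp) :
            (⟨(m : G) * (1 : A).1 * (m : G)⁻¹, hnorm m.2 (one_mem _)⟩ : A) = 1)
          map_add' := fun a b => congrArg Additive.ofMul (Subtype.ext (by simp [mul_assoc]) :
            (⟨(m : G) * (Additive.toMul a * Additive.toMul b).1 * (m : G)⁻¹, hnorm m.2
              (Additive.toMul a * Additive.toMul b).2⟩ : A) =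
              ⟨_, hnorm m.2 (Additive.toMul a).2⟩ * ⟨_, hnorm m.2 (Additive.toMul b).2⟩) }
      map_one' := AddMonoidHom.ext fun v => congrArg Additive.ofMul (Subtype.ext (by simp) :
        (⟨((1 : M) : G) * (Additive.toMul v).1 * ((1 : M) : G)⁻¹,
          hnorm (1 : M).2 (Additive.toMul v).2⟩ : A) = Additive.toMul v)
      map_mul' := fun a b => AddMonoidHom.ext fun v => congrArg Additive.ofMul (Subtype.ext
        (show ((a * b : M) : G) * (Additive.toMul v).1 * ((a * b : M) : G)⁻¹ =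
          (a : G) * ((b : G) * (Additive.toMul v).1 * (b : G)⁻¹) * (a : G)⁻¹ by simp [mul_assoc])) }
  have hcval : ∀ (m : M) v, (Additive.toMul (c m v)).1 = (m : G) * (Additive.toMul v).1 * (m : G)⁻¹ :=
    fun m v => rfl
  have hRG : ∀ m : M, ∀ p q, p ≠ q → ∃ r t, r ≠ t ∧ c m (duad L p q) = duad L r t := by
    intro m p q hpq
    have h1 := (hdiff _).1 ⟨p, q, hpq, rfl⟩
    obtain ⟨r, t, hrt, e⟩ := (hdiff (c m (duad L p q))).2 ⟨fun e => h1.1 (by
        rw [hcval, mul_inv_eq_one] at e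
        exact mul_eq_left.1 e), fun e => h1.2 (by
        rw [hcval] at e
        exact IsConj.trans e (isConj_iff.2 ⟨(m : G)⁻¹, by group⟩))⟩
    exact ⟨r, t, hrt, e.symm⟩
  obtain ⟨φ, hφ, hker, hsur⟩ := GolayDuadRigid13.exists_hom hL hspan c hRG
  have hkerc : c.ker = A.subgroupOf M := by
    ext m
    rw [MonoidHom.mem_ker, Subgroup.mem_subgroupOf]
    constructor
    · intro e
      refine hcent _ fun x hx => ?_
      have e1 := congrArg (fun f : AddMonoid.End (Additive A) =>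
        (Additive.toMul (f (Additive.ofMul ⟨x, hx⟩))).1) e
      simp only [hcval] at e1
      exact mul_inv_eq_iff_eq_mul.1 e1
    · intro hm
      refine AddMonoidHom.ext fun v => congrArg Additive.ofMul (Subtype.ext ?_)
      show (m : G) * (Additive.toMul v).1 * (m : G)⁻¹ = (Additive.toMul v).1
      rw [hcomm _ hm _ (Additive.toMul v).2, mul_inv_cancel_right]
  have hidx : 244823040 ∣ c.ker.index := by
    have h1 := Subgroup.card_mul_index (A.subgroupOf M)
    rw [Nat.card_congr (Subgroup.subgroupOfEquivOfLe (show A ≤ M from Subgroup.le_normalizer)).toEquiv,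
      hcard] at h1
    rw [hkerc]
    refine Nat.dvd_of_mul_dvd_mul_left (show 0 < 2 ^ 11 by norm_num) ?_
    rw [h1]
    exact (by norm_num : (2 ^ 11 * 244823040 : ℕ) = 501397585920) ▸ hdvd
  have hs := hsur hidx
  refine ⟨φ, fun w => (Additive.toMul (L w)).1, hcomm, fun a ha => ?_,
    fun w => (Additive.toMul (L w)).2,
    fun v w => congrArg (fun x : Additive A => (Additive.toMul x).1) (map_add L v w),
    fun s hs' => ?_, fun x hx' => ?_, fun m p q hpq => ?_, hs, fun m => ?_, fun x => ?_⟩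
  · obtain ⟨i, -, rfl⟩ := hsurj a ha
    have h0 : Ψ 0 * Ψ 0 = Ψ 0 * 1 := by rw [← hmul 0 0, mul_one]; rfl
    rw [← hmul, show Nat.xor i i = 0 from Nat.xor_self i]
    exact mul_left_cancel h0
  · rw [← hL s hs']
    exact ⟨fun e => congrArg Additive.ofMul (Subtype.ext e : Additive.toMul (L (ind s)) = 1),
      fun e => by rw [e]; rfl⟩
  · obtain ⟨s, hs', e⟩ := hspan (Additive.ofMul ⟨x, hx'⟩)
    exact ⟨s, hs', by rw [e]; rfl⟩
  · rw [← hcval]
    exact congrArg (fun v : Additive A => (Additive.toMul v).1) (hφ m p q hpq)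
  · rw [← MonoidHom.mem_ker, hker, hkerc, Subgroup.mem_subgroupOf]
  · constructor
    · rintro ⟨hxA, h1, h2⟩
      obtain ⟨p, q, hpq, e⟩ := (hdiff (Additive.ofMul ⟨x, hxA⟩)).2 ⟨h1, h2⟩
      exact ⟨p, q, hpq, congrArg (fun v : Additive A => (Additive.toMul v).1) e⟩
    · rintro ⟨p, q, hpq, rfl⟩
      exact ⟨(Additive.toMul (L (ind {p, q}))).2, (hdiff (duad L p q)).1 ⟨p, q, hpq, rfl⟩⟩

section

variable {z : G} {P : Subgroup G}
variable {V : Type u} [AddCommGroup V] {zc : ↥(HH z)}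
  {π : ↥(HH z) → V} {ρ : ↥(HH z) ⧸ QQ z →* AddMonoid.End V}
  {q : V → ZMod 2} {n : ↥(HH z) ⧸ QQ z}
  {Mb : Subgroup (↥(HH z) ⧸ QQ z)}

/-- The labelling of the standard subgroup. -/
theorem label {F : Type} [Field F] [Fintype F] {s : F} {h : U62Mon93.S4 s} {ν : (Fin 6 → F) → V}
    (D : Data z P zc π ρ q n Mb) (C : J4Syl18.Coord h ρ q n Mb ν) [IsSimpleGroup G]
    (hG : ¬ IsMulCommutative G) (hJ : Cfsg.IsOfJankoFourTypeWith z P) :
    ∃ (φ : ↥(Subgroup.normalizer (J4Thompson85.AG D C : Set G)) →* ↥M24)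
      (cl : (GolayPt → ZMod 2) → G), J4Invol46.Label z (J4Thompson85.AG D C) φ cl := by
  obtain ⟨x5, x85, a, b0, -, -, -, -, h36, h240, -⟩ := J4Fusion18.classes D C hG hJ
  obtain ⟨Ψ, hmul, hA, hinj, hsurj, hR⟩ :=
    J4Coord97.model D C ⟨h36, h240, J4Fusion18.trans_R D C hG hJ⟩ hJ
  exact label_of z (J4Thompson85.AG D C) Ψ J4CocodeData22.tables_ok hmul hA hinj hsurj hR
    (fun g hg => J4Thompson85.cent_AG D C hg) (J4Fusion18.dvd_M D C hG hJ)

end

end Cfsg.Agent.J4InvolLabel46
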