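import Mathlib
import Cfsg.Agent.Lib.J4InvolCore46
import Cfsg.Agent.Lib.J4InvolLabel46
import Cfsg.Agent.Lib.J4Exists97
import Cfsg.Agent.S5566

/-!
In a simple group of Janko-four type every involution is conjugate into each elementary abelian
subgroup of order `2 ^ 11`, and the centraliser of one not conjugate to the central involution is a
split extension of such a subgroup by the automorphism group of M22.
-/

set_option autoImplicit false
set_option linter.unusedSectionVars false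
set_option linter.style.haveILetI false
set_option maxHeartbeats 800000

namespace Cfsg.Agent.J4InvolMain46

open Cfsg Cfsg.Agent.GolayModule

universe u

variable {G : Type u} [Group G] [Finite G] [IsSimpleGroup G]

/-- A standard subgroup with all the data. -/
theorem exists_standard (hG : ¬ IsMulCommutative G) {z : G} {P : Subgroup G}
    (hJ : Cfsg.IsOfJankoFourTypeWith z P) :
    ∃ (A : Subgroup G) (p : G) (φ : ↥(Subgroup.normalizer (A : Set G)) →* ↥M24)
      (cl : (GolayPt → ZMod 2) → G),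
      IsElementaryAbelian 2 A ∧ Nat.card ↥A = 2 ^ 11 ∧
      J4Invol46.Core z p A (twoCoreOfCentralizer z) ∧ J4Invol46.Label z A φ cl ∧
      ∀ B : Subgroup G, IsElementaryAbelian 2 B → Nat.card ↥B = 2 ^ 11 →
        ∃ g : G, B = A.map (MulAut.conj g).toMonoidHom := by
  obtain ⟨V, _, zc, π, ρ, q, n, Mb, F, _, _, s, h, ν, D, C⟩ := J4Exists97.exists_coords hJ
  obtain ⟨hea, hcard, -⟩ := J4Thompson85.AG_facts D C
  obtain ⟨p, hcore⟩ := J4InvolCore46.core D C hJ
  obtain ⟨φ, cl, hlab⟩ := J4InvolLabel46.label D C hG hJ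
  exact ⟨_, p, φ, cl, (J4Thompson85.ea_iff _).2 hea, hcard, hcore, hlab, fun B hB hBc =>
    J4Thompson85.exists_conj D C ((J4Thompson85.ea_iff B).1 hB) hBc⟩

/-- Every involution is conjugate into every elementary abelian subgroup of order `2 ^ 11`, given
complements in their normalisers. -/
theorem exists_conj_into (hG : ¬ IsMulCommutative G) {z : G} (hJ : Cfsg.IsOfJankoFourTypeAt z)
    (hsplit : ∀ A : Subgroup G, IsElementaryAbelian 2 A → Nat.card ↥A = 2 ^ 11 →
      ∃ K : Subgroup G, J4Invol46.Compl A K)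
    {B : Subgroup G} (hB : IsElementaryAbelian 2 B) (hBc : Nat.card ↥B = 2 ^ 11) {i : G}
    (hi : i * i = 1) : ∃ g : G, g * i * g⁻¹ ∈ B := by
  obtain ⟨P, hJP⟩ := hJ
  obtain ⟨A, p, φ, cl, hA, hAc, hcore, hlab, hconj⟩ := exists_standard hG hJP
  obtain ⟨K, hK⟩ := hsplit A hA hAc
  obtain ⟨g, hg⟩ := J4Invol46.exists_conj_into
    (fun T => S5566.result hG ⟨z, P, hJP⟩ T) hA hAc hcore hlab hK hi
  obtain ⟨a, rfl⟩ := hconj B hB hBc
  exact ⟨a * g, g * i * g⁻¹, hg, by simp [mul_assoc]⟩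

/-- The centraliser of an involution not conjugate to the central one, given complements and, for one
such involution in the subgroup, that its centraliser normalises the subgroup. -/
theorem second_centralizer (hG : ¬ IsMulCommutative G) {z : G} (hJ : Cfsg.IsOfJankoFourTypeAt z)
    (hsplit : ∀ A : Subgroup G, IsElementaryAbelian 2 A → Nat.card ↥A = 2 ^ 11 →
      ∃ K : Subgroup G, J4Invol46.Compl A K)
    (hloc : ∀ A : Subgroup G, IsElementaryAbelian 2 A → Nat.card ↥A = 2 ^ 11 →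
      ∃ t : G, t ∈ A ∧ t ≠ 1 ∧ ¬ IsConj z t ∧
        Subgroup.centralizer ({t} : Set G) ≤ Subgroup.normalizer (A : Set G))
    {t : G} (ht : orderOf t = 2) (hnc : ¬ IsConj z t) :
    ∃ V K : Subgroup G, V ≤ Subgroup.centralizer ({t} : Set G) ∧
      K ≤ Subgroup.centralizer ({t} : Set G) ∧
      Subgroup.centralizer ({t} : Set G) ≤ Subgroup.normalizer (V : Set G) ∧
      IsElementaryAbelian 2 V ∧ Nat.card ↥V = 2 ^ 11 ∧
      K ⊓ V = ⊥ ∧ K ⊔ V = Subgroup.centralizer ({t} : Set G) ∧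
      Nonempty (↥K ≃* MulAut ↥Spor.M22) := by
  obtain ⟨P, hJP⟩ := hJ
  obtain ⟨A, p, φ, cl, hA, hAc, hcore, hlab, -⟩ := exists_standard hG hJP
  obtain ⟨K, hK⟩ := hsplit A hA hAc
  have ht2 : t * t = 1 := by rw [← sq, ← ht]; exact pow_orderOf_eq_one t
  obtain ⟨g, hg⟩ := J4Invol46.exists_conj_into
    (fun T => S5566.result hG ⟨z, P, hJP⟩ T) hA hAc hcore hlab hK ht2
  set s := g * t * g⁻¹ with hs
  have hsc : IsConj t s := isConj_iff.2 ⟨g, rfl⟩
  have hs1 : s ≠ 1 := fun e => by
    rw [hs, conj_eq_one_iff] at e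
    rw [e, orderOf_one] at ht
    omega
  have hsnc : ¬ IsConj z s := fun e => hnc (e.trans hsc.symm)
  -- the normaliser is transitive on these elements
  obtain ⟨t0, ht0A, ht01, ht0nc, ht0le⟩ := hloc A hA hAc
  obtain ⟨a, b, hab, hab'⟩ := (hlab.duad t0).1 ⟨ht0A, ht01, ht0nc⟩
  obtain ⟨c, d, hcd, hcd'⟩ := (hlab.duad s).1 ⟨hg, hs1, hsnc⟩
  obtain ⟨σ, hσ, hσe⟩ := exists_map_sets (s := ({a, b} : Finset GolayPt)) (t := {c, d})
    (by rw [Finset.card_pair hab, Finset.card_pair hcd]) (by rw [Finset.card_pair hab]; norm_num)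
  obtain ⟨m, hm⟩ := hlab.surj ⟨σ, hσ⟩
  have hms : (m : G) * t0 * (m : G)⁻¹ = s := by
    rw [← hab', ← hcd', hlab.equiv m a b hab, hm, ← hσe]
    simp [Finset.smul_finset_def]
  have hle : Subgroup.centralizer ({s} : Set G) ≤ Subgroup.normalizer (A : Set G) := by
    intro x hx
    have h1 : (m : G)⁻¹ * x * m ∈ Subgroup.normalizer (A : Set G) := ht0le (by
      rw [Subgroup.mem_centralizer_singleton_iff] at hx ⊢
      rw [← hms] at hx
      calc (m : G)⁻¹ * x * m * t0 = (m : G)⁻¹ * (x * ((m : G) * t0 * (m : G)⁻¹)) * m := by group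
        _ = (m : G)⁻¹ * (((m : G) * t0 * (m : G)⁻¹) * x) * m := by rw [hx]
        _ = t0 * ((m : G)⁻¹ * x * m) := by group)
    simpa [mul_assoc] using mul_mem (mul_mem m.2 h1) (inv_mem m.2)
  obtain ⟨K', hK'le, hK'inf, hK'sup, ⟨iso⟩⟩ := J4Invol46.duad_centralizer hlab hK hg hs1 hsnc hle
  -- transport back
  let e := MulAut.conj g⁻¹
  have hts : e s = t := by simp [e, hs, mul_assoc]
  have hcen : (Subgroup.centralizer ({s} : Set G)).map e.toMonoidHom =
      Subgroup.centralizer ({t} : Set G) := by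
    have key : ∀ y, y * s = s * y ↔ e y * t = t * e y := fun y => by
      rw [← hts, ← map_mul, ← map_mul, e.injective.eq_iff]
    ext x
    rw [Subgroup.mem_map_equiv, Subgroup.mem_centralizer_singleton_iff,
      Subgroup.mem_centralizer_singleton_iff, key, e.apply_symm_apply]
  refine ⟨A.map e.toMonoidHom, K'.map e.toMonoidHom, ?_, ?_, ?_, ?_, ?_, ?_, ?_,
    ⟨(K'.equivMapOfInjective e.toMonoidHom e.injective).symm.trans iso⟩⟩
  · exact hcen ▸ Subgroup.map_mono (hK'sup ▸ le_sup_right)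
  · exact hcen ▸ Subgroup.map_mono hK'le
  · rw [← hcen]
    exact (Subgroup.map_mono hle).trans (Subgroup.le_normalizer_map _)
  · haveI := hA.1
    refine ⟨⟨⟨?_⟩⟩, fun x hx => ?_⟩
    · rintro ⟨_, u, hu, rfl⟩ ⟨_, v, hv, rfl⟩
      refine Subtype.ext ?_
      show e.toMonoidHom u * e.toMonoidHom v = e.toMonoidHom v * e.toMonoidHom u
      rw [← map_mul, ← map_mul, hlab.comm u hu v hv]
    · obtain ⟨v, hv, rfl⟩ := hx
      rw [← map_pow, hA.2 v hv, map_one]
  · rw [Subgroup.card_map_of_injective e.injective, hAc]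
  · rw [← Subgroup.map_inf _ _ e.toMonoidHom e.injective, hK'inf, Subgroup.map_bot]
  · rw [← Subgroup.map_sup, hK'sup, hcen]

end Cfsg.Agent.J4InvolMain46
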