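import Cfsg.Agent.Lib.J4PresData13
import Cfsg.Agent.Lib.J4PresOut13
import Cfsg.Agent.Lib.J4DeriveBlk13A
import Cfsg.Agent.Lib.J4DeriveBlk13B
import Cfsg.Agent.Lib.J4DeriveBlk13C
import Cfsg.Agent.Lib.J4CertPair13Data
import Cfsg.Agent.Lib.J4CertMid13Data

/-!
The kernel checks deriving the relators of a subgroup on four generators from seven relators.
-/

set_option autoImplicit false
set_option maxRecDepth 100000
set_option Elab.async false

namespace Cfsg.Agent.J4M24Pres13

open Cfsg.Agent.J4PresGen13 Cfsg.Agent.J4PresData13 Cfsg.Agent.J1CertCore91 Cfsg.Agent.J4PresOut13

/-- The renaming of letters along a list of generator numbers. -/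
def ren (L : List Nat) (w : List Nat) : List Nat := w.map fun l => 2 * L.getD (l / 2) 0 + l % 2

/-- Expand a word in the Schreier generators. -/
def expand (w : List Nat) : List Nat :=
  w.flatMap fun l => bif Nat.beq (l % 2) 0 then symW.getD (l / 2) [] else invW (symW.getD (l / 2) [])

/-- A traced word is a conjugate of a relator. -/
def tracedOk (e : Nat × Nat × List Nat) : Bool :=
  red (expand e.2.2) == red (reps.getD e.1 [] ++ rels0.getD e.2.1 [] ++ invW (reps.getD e.1 []))

theorem traced_all : traced.all tracedOk = true := by decide +kernel

theorem derive_block10 : derive steps10 known10 = some known11 := by decide +kernel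

theorem derive_append (b : List Step) : ∀ (a : List Step) (R : List (List Nat)),
    derive (a ++ b) R = (derive a R).bind (derive b)
  | [], R => rfl
  | t :: ts, R => by
    rw [List.cons_append, derive, derive]
    cases t.ok R
    · rfl
    · exact derive_append b ts _

theorem derive_trans {a b : List Step} {R R1 R2 : List (List Nat)} (h1 : derive a R = some R1)
    (h2 : derive b R1 = some R2) : derive (a ++ b) R = some R2 := by
  rw [derive_append, h1]
  exact h2

theorem derive_steps : derive steps known0 = some known11 := by
  unfold steps
  exact
    (derive_trans (derive_trans (derive_trans (derive_trans (derive_trans (derive_trans (derive_trans (derive_trans (derive_trans (derive_trans derive_block0 derive_block1) derive_block2) derive_block3) derive_block4) derive_block5) derive_block6) derive_block7) derive_block8) derive_block9) derive_block10)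

theorem known_has :
    ((J4CertMid13Data.cert.rels ++ J4CertPair13Data.cert.rels).all fun w =>
      known11.contains (ren live w)) = true := by
  decide +kernel

end Cfsg.Agent.J4M24Pres13
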