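import Cfsg.Agent.Lib.SplitVoltageCert

/-!
Orbit keys for M11.
-/

set_option autoImplicit false
set_option maxRecDepth 100000

namespace Cfsg.Agent.SplitVoltageM11Orbit

open Cfsg.Agent.SplitVoltageCert

/-- generators -/
def gensP : List ℕ := [983435072843990828779021698901151808, 217243231015799044247430120797128768]

/-- inverse generators -/
def gensQ : List ℕ := [970567384681219435340729552166356352, 606422935594847220032806117026727296]

/-- orders -/
def ords : List ℕ := [11, 11]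

/-- powers of the base element -/
def sols : List ℕ := [984818244535754528103549039458486304, 983435072843990828779021698901151808, 980668730378935070469623699575545984, 975166140090675008210365318152896768, 965063883269089610517257152230401536, 973782968399780250007192978068752672, 962298451038133363011374430748423744, 969184212989482915311201746032266656, 982051901153124072706648311500937312, 977903326592794432676351619257413824, 970567384681219435340729552166356352]

/-- table part -/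
def keyT_1 : Tr :=
  .nd (.nd (.nd (.nd (.nd (.nd (.lf 983435072843990828779021698901151808) (.lf 422786321060954425075410161746130432)) (.nd (.lf 648699442692471300625278464218669152) (.lf 0))) (.nd (.nd (.lf 882226159412886426374233283767121088) (.lf 837688436636393245093555710782022912)) (.nd (.lf 881621015370211775255045976367336832) (.lf 0)))) (.nd (.nd (.nd (.lf 438317704069715160781272372350304448) (.lf 482212666221800995528239697300164000)) (.nd (.lf 980965688080982384150737126932156992) (.lf 0))) (.nd (.nd (.lf 802512244465946549543415753160077568) (.lf 440636898156417468838042058325760288)) (.nd (.lf 807876543506187554184247400538082496) (.lf 0))))) (.nd (.nd (.nd (.nd (.lf 236708992317183090104780714983040256) (.lf 936792933782098213377737222200037472)) (.nd (.lf 895011649278361231528637467684251040) (.lf 0))) (.nd (.nd (.lf 430580624747911615284536426085557504) (.lf 840712897627456673397671328236997760)) (.nd (.lf 731657087165958197017163219997169728) (.lf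 0)))) (.nd (.nd (.nd (.lf 983219769492831936740672338565604480) (.lf 962787573797966909223861609514963520)) (.nd (.lf 837975800286508237754455940626194528) (.lf 0))) (.nd (.nd (.lf 962697571728518379932117722491719232) (.lf 0)) (.nd (.lf 855899071228620833409909364660516352) (.lf 0)))))) (.nd (.nd (.nd (.nd (.nd (.lf 604395170126392211698335205969399296) (.lf 309726739515509864106070572754454784)) (.nd (.lf 297723847410365014592178740697122912) (.lf 0))) (.nd (.nd (.lf 921051138419327232043734740444451232) (.lf 938931496441186879997094260437856768)) (.nd (.lf 226502070688377781889261134264088128) (.lf 0)))) (.nd (.nd (.nd (.lf 651286675052609428597194348072182976) (.lf 735534267007926076030043376851306624)) (.nd (.lf 234352761761861018874538938047996192) (.lf 0))) (.nd (.nd (.lf 442064838200899470016072312405661824) (.lf 0)) (.nd (.lf 476037831192814885743450965300791808) (.lf 0))))) (.nd (.nd (.nd (.nd (.lf 902467282665967354120783367599727872) (.lf 437668071320426520595154932815151680))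 (.nd (.lf 482183199368382929462733037659834784) (.lf 0))) (.nd (.nd (.lf 968674389985472390075255573666106784) (.lf 479584677736625858927347993544835456)) (.nd (.lf 476007412607350044403947782289952320) (.lf 0)))) (.nd (.nd (.nd (.lf 818612593341020219723165095294313600) (.lf 927042688975489516457397699547964800)) (.nd (.lf 713116496645267449080657336129208384) (.lf 0))) (.nd (.nd (.lf 313066999965659249927085344493347232) (.lf 0)) (.nd (.lf 887280921709741253059720307037847616) (.lf 0))))))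

/-- table part -/
def keyT_2 : Tr :=
  .nd (.nd (.nd (.nd (.nd (.nd (.lf 318968111508758920250544287810915744) (.lf 309563660770992544898271404885086784)) (.nd (.lf 803941020011412406596429495678673472) (.lf 0))) (.nd (.nd (.lf 980499426742428918133651689770993856) (.lf 652106765899391313138912846855543200)) (.nd (.lf 894837375761182894793936737601142912) (.lf 0)))) (.nd (.nd (.nd (.lf 879106155021048442608816770999815296) (.lf 222850839388867761515587618023283264)) (.nd (.lf 736884591350669187053544206402752896) (.lf 0))) (.nd (.nd (.lf 309896410228312377734561551349753216) (.lf 477191462294910519327992468597022848)) (.nd (.lf 811731387886774306105240437326616992) (.lf 0))))) (.nd (.nd (.nd (.nd (.lf 446140973658257700437527535933588736) (.lf 853701178794121641353305224843965632)) (.nd (.lf 440958128320681813140072869989363968) (.lf 0))) (.nd (.nd (.lf 861319546313705801200625932994621952) (.lf 732425306889663643270805635631199616)) (.nd (.lf 892694982638107023323316745970731296)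 (.lf 0)))) (.nd (.nd (.nd (.lf 485894491688068825190586630817317984) (.lf 840558119642534859166045232607671808)) (.nd (.lf 725196724918599201369574025718211840) (.lf 0))) (.nd (.nd (.lf 818381959697259212160114709289283872) (.lf 0)) (.nd (.lf 607059140814361799938037367939007584) (.lf 0)))))) (.nd (.nd (.nd (.nd (.nd (.lf 933890043779458808161261012687009280) (.lf 648661056463383724386510177719205952)) (.nd (.lf 975558117434579268741725425906004384) (.lf 0))) (.nd (.nd (.lf 837854433573163530463509458638152064) (.lf 486999210650467142188775839933942016)) (.nd (.lf 849165683821307156236460136745803840) (.lf 0)))) (.nd (.nd (.nd (.lf 441575551239192022979738954255305920) (.lf 440642600038101609000075027481637152)) (.nd (.lf 321442733776969647883196717202672928) (.lf 0))) (.nd (.nd (.lf 891994522013081475207132338066037312) (.lf 0)) (.nd (.lf 591320622040400208793272577087250560) (.lf 0))))) (.nd (.nd (.nd (.nd (.lf 923877191122726094669558714609337600) (.lf 304221855367818826752239207131287936))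 (.nd (.lf 838127774253295018847781861836522784) (.lf 0))) (.nd (.nd (.lf 735649628366315673080096282652316224) (.lf 885498869776351923287521567030054464)) (.nd (.lf 441643345854153820995178529018647104) (.lf 0)))) (.nd (.nd (.nd (.lf 601948537880794401035018291184743520) (.lf 297733662959680998571583954231531584)) (.nd (.lf 483501647838687514821218470860099648) (.lf 0))) (.nd (.nd (.lf 236830898457569619959349843700757696) (.lf 0)) (.nd (.lf 309576163882529875559098531041513856) (.lf 0))))))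

/-- table part -/
def keyT_3 : Tr :=
  .nd keyT_1 keyT_2

/-- table part -/
def keyT_4 : Tr :=
  .nd (.nd (.nd (.nd (.nd (.nd (.lf 653727858122246198215510823423492512) (.lf 719929805052743297800026660211694080)) (.nd (.lf 936503707858685970210752221086617152) (.lf 0))) (.nd (.nd (.lf 734046035662726086862146055578208768) (.lf 799156534650760508560073808495722880)) (.nd (.lf 316298404426114619621087815089206336) (.lf 0)))) (.nd (.nd (.nd (.lf 716078533259579655424991552429695040) (.lf 932327430090633677690043496621679008)) (.nd (.lf 482447194774975633945705199238853920) (.lf 0))) (.nd (.nd (.lf 235533881943122087405897969311498336) (.lf 464213180252612927076720761883609280)) (.nd (.lf 921211002324830460338776789293076896) (.lf 0))))) (.nd (.nd (.nd (.nd (.lf 934100324143102707121282020358262176) (.lf 595476932279600450495586476529621504)) (.nd (.lf 486434857540630878147796496575497408) (.lf 0))) (.nd (.nd (.lf 973786819316920720991176618693244192) (.lf 940111846251495699264446428327485728))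 (.nd (.lf 849243714735436514014091619628224704) (.lf 0)))) (.nd (.nd (.nd (.lf 807700936245822817834780770213218496) (.lf 897595902003923095749368062486545824)) (.nd (.lf 861050602148509597130117425900624384) (.lf 0))) (.nd (.nd (.lf 732691396098812796478345131279557184) (.lf 0)) (.nd (.lf 968669662870318350059851913020868000) (.lf 0)))))) (.nd (.nd (.nd (.nd (.nd (.lf 222563084056678759135688675609856384) (.lf 983113367232617487300326156673818720)) (.nd (.lf 796559520614128731868531222971426368) (.lf 0))) (.nd (.nd (.lf 969973842600464486275467779720611200) (.lf 481895059154508920678375926953817344)) (.nd (.lf 476690701586444306424395123008770432) (.lf 0)))) (.nd (.nd (.nd (.lf 804381964531102191771238722911221024) (.lf 902784565728397440790544755398484096)) (.nd (.lf 920638144415533233328944222489286784) (.lf 0))) (.nd (.nd (.lf 860033315315091895349475558207726080) (.lf 0)) (.nd (.lf 464364794166501483324415607428100608) (.lf 0))))) (.nd (.nd (.nd (.nd (.lf 645445348284782368681100021594203520)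 (.lf 716115448438836979963591763747288320)) (.nd (.lf 217243231015799044247430120797128768) (.lf 0))) (.nd (.nd (.lf 653752177257428283007658911556845984) (.lf 604462992411642239040491538890145984)) (.nd (.lf 651924469550932924607988675079379520) (.lf 0)))) (.nd (.nd (.nd (.lf 962453874554078929647374984817096064) (.lf 604506405267909869640194416230932992)) (.nd (.lf 901329529285529349204515615102212480) (.lf 0))) (.nd (.nd (.lf 923761281319176629042591625239937408) (.lf 0)) (.nd (.lf 217603045669727263409078999317777984) (.lf 0))))))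

/-- table part -/
def keyT_5 : Tr :=
  .nd (.nd (.nd (.nd (.nd (.nd (.lf 466725749191491151211067293088364096) (.lf 233967162444928031268411339883220256)) (.nd (.lf 234534973044858402532156100691758336) (.lf 0))) (.nd (.nd (.lf 313743052459376312990051454966498592) (.lf 934273001416372598168735099162608192)) (.nd (.lf 642165386727581936458779993273011328) (.lf 0)))) (.nd (.nd (.nd (.lf 975156313284147464544824500612048256) (.lf 227882153020569033902466872360710336)) (.nd (.lf 941401033990890875875140987718250624) (.lf 0))) (.nd (.nd (.lf 234119344412269520299891260130537568) (.lf 444247727562737816462568057829655968)) (.nd (.lf 222751184206288969744536493360236928) (.lf 0))))) (.nd (.nd (.nd (.nd (.lf 881988792298243446390677408886895008) (.lf 438045112827739887084528496925612096)) (.nd (.lf 609256578498799389855572720514908448) (.lf 0))) (.nd (.nd (.lf 604075221231825021157106032029797664) (.lf 815494412558196140024866092587499808)) (.nd (.lf 927402686929131305715854256268128832)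 (.lf 0)))) (.nd (.nd (.nd (.lf 975273531117640354257997786069901600) (.lf 479303299148677755496015604441744896)) (.nd (.lf 650810831143537122931437917050380864) (.lf 0))) (.nd (.nd (.lf 851194034431657252554952920424198272) (.lf 0)) (.nd (.lf 443600665852380086821065777600471552) (.lf 0)))))) (.nd (.nd (.nd (.nd (.nd (.lf 487643244195812520768219483013128576) (.lf 803108922855578580248525445756232896)) (.nd (.lf 591407614158907254200050749601427712) (.lf 0))) (.nd (.nd (.lf 927777678640252706453352639423329568) (.lf 237204604197201291117712150554349856)) (.nd (.lf 434273774990345399006170643669008800) (.lf 0)))) (.nd (.nd (.nd (.lf 313788302751753273576515469496034720) (.lf 940218395815436503160274452941808704)) (.nd (.lf 815765259225589630497183391510234528) (.lf 0))) (.nd (.nd (.lf 235264201267934001905017385764788736) (.lf 0)) (.nd (.lf 736625881877334957704422194182956224) (.lf 0))))) (.nd (.nd (.nd (.nd (.lf 928907155459329105379073267909141696) (.lf 588448134716661115350161695156879616))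 (.nd (.lf 649258124842486142585278298814056000) (.lf 0))) (.nd (.nd (.lf 609100536104349481165966850654348352) (.lf 482457085046679496403324921393127712)) (.nd (.lf 444577036588439745371750141015640352) (.lf 0)))) (.nd (.nd (.nd (.lf 588828106749746140755458363418167808) (.lf 724943634505463680370784265613420032)) (.nd (.lf 901090703293710131980325625656283200) (.lf 0))) (.nd (.nd (.lf 226580707996932285932068998641754528) (.lf 0)) (.nd (.lf 802807776926607305702700305372223776) (.lf 0))))))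

/-- table part -/
def keyT_6 : Tr :=
  .nd keyT_4 keyT_5

/-- table part -/
def keyT_7 : Tr :=
  .nd keyT_3 keyT_6

/-- table part -/
def keyT_8 : Tr :=
  .nd (.nd (.nd (.nd (.nd (.nd (.lf 817185433700098870437482711590441216) (.lf 217413894738981316084592592885422336)) (.nd (.lf 845745385551433510567487751019836480) (.lf 0))) (.nd (.nd (.lf 445705570428298839971760418963202240) (.lf 604017291752241010623593493224144992)) (.nd (.lf 860110721229981631614844984271218240) (.lf 0)))) (.nd (.nd (.nd (.lf 609226748617938607918290549132701760) (.lf 977909585426348894413409432920917120)) (.nd (.lf 736238123165875435750690376271794368) (.lf 0))) (.nd (.nd (.lf 321542509095763574177423603308708416) (.lf 886188708138689639741643695394599424)) (.nd (.lf 932882755188722143567113207291654240) (.lf 0))))) (.nd (.nd (.nd (.nd (.lf 844465393577388727922612939665098880) (.lf 222807000344710669258198045616547328)) (.nd (.lf 898738221490297783807618383148758592) (.lf 0))) (.nd (.nd (.lf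 646048741535248535924604584892746112) (.lf 236705387545576626928034697488964000)) (.nd (.lf 725124839177468016616196576710364672) (.lf 0)))) (.nd (.nd (.nd (.lf 484880367300406807819921916541580352) (.lf 641708443536746344133339868520780064)) (.nd (.lf 650552722810385306823223336416712992) (.lf 0))) (.nd (.nd (.lf 444556992478825092722875627661768064) (.lf 0)) (.nd (.lf 938732469958261886619663478652408192) (.lf 0)))))) (.nd (.nd (.nd (.nd (.nd (.lf 484820193235294044172982003219964320) (.lf 860104948529424897139032127687803456)) (.nd (.lf 297694568670359441991543657397783744) (.lf 0))) (.nd (.nd (.lf 818377054823405495173935711610146304) (.lf 319964337094958762141793396568932608)) (.nd (.lf 610306982692141725136484606882160736) (.lf 0)))) (.nd (.nd (.nd (.lf 318499950010429348962899715460052352) (.lf 633021020028749458260850974552791552)) (.nd (.lf 882299516224166698104177352784287840) (.lf 0))) (.nd (.nd (.lf 422461717476741942820932416195146848) (.lf 0)) (.nd (.lf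 898564665605995300959084367337360448) (.lf 0))))) (.nd (.nd (.nd (.nd (.lf 217376261361711039831818680570136640) (.lf 645967063954078351602429078827845920)) (.nd (.lf 463716377467638542269649409341004064) (.lf 0))) (.nd (.nd (.lf 222398683340682976375771793682677952) (.lf 969156084554443408278956152778267040)) (.nd (.lf 610732965429898036755157650540639616) (.lf 0)))) (.nd (.nd (.nd (.lf 434479125637873138275330514862781952) (.lf 645453872061612070795341353210553440)) (.nd (.lf 444719011600561553323313565439960640) (.lf 0))) (.nd (.nd (.lf 927544349567621405299629706579150112) (.lf 0)) (.nd (.lf 470864514204513582479662038390998144) (.lf 0))))))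

/-- table part -/
def keyT_9 : Tr :=
  .nd (.nd (.nd (.nd (.nd (.nd (.lf 590852385130100989472717648422805792) (.lf 648446588024040955117907192863558912)) (.nd (.lf 446146423037695513939249454753547456) (.lf 0))) (.nd (.nd (.lf 808342299360425439421967586939783552) (.lf 815501780003243376221915673033848000)) (.nd (.lf 731777237175840199271185825845514656) (.lf 0)))) (.nd (.nd (.nd (.lf 853412304752758958658235284888625536) (.lf 318863961918045775314969591868306624)) (.nd (.lf 238346775847393000647405704134824032) (.lf 0))) (.nd (.nd (.lf 980348540886937065643182500985751680) (.lf 321541283784773532180240731232157984)) (.nd (.lf 796679663658583030155633547620388928) (.lf 0))))) (.nd (.nd (.nd (.nd (.lf 606837871326500472496417652193266880) (.lf 890701440024993966033306008156308864)) (.nd (.lf 894682087163551081410989737542825536) (.lf 0))) (.nd (.nd (.lf 851016594288741122922672174718551168) (.lf 850702773148579192785380661864239680)) (.nd (.lf 442262438194260245127483154518910080)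 (.lf 0)))) (.nd (.nd (.nd (.lf 237858920031129304974226261956300192) (.lf 838119165811872852145755605356154240)) (.nd (.lf 887202792459790934969708230838884864) (.lf 0))) (.nd (.nd (.lf 819388245375767441045998719895421120) (.lf 0)) (.nd (.lf 317523269833177881402240845568095328) (.lf 0)))))) (.nd (.nd (.nd (.nd (.nd (.lf 809570291818954557463433968104113664) (.lf 232789509495825534000376813233546816)) (.nd (.lf 845945997381098060871675338025084320) (.lf 0))) (.nd (.nd (.lf 725190875732897330012543120018325760) (.lf 221145019903994144697511860546971040)) (.nd (.lf 845844547757558269883887796584756352) (.lf 0)))) (.nd (.nd (.nd (.lf 974269629878081912930654915245775264) (.lf 886086787181140658016161321468436992)) (.nd (.lf 305919119326689777045648288047733312) (.lf 0))) (.nd (.nd (.lf 808226971834864378659327741965670496) (.lf 0)) (.nd (.lf 853057472148018331272956312587121056) (.lf 0))))) (.nd (.nd (.nd (.nd (.lf 477107837861741934729261630324378816) (.lf 321413412111974789032418687257561184))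 (.nd (.lf 885876951604271300720955733703966976) (.lf 0))) (.nd (.nd (.lf 941535365398579210664279705886443712) (.lf 844375149300238741806768418789036320)) (.nd (.lf 425188521204492832209172814512063584) (.lf 0)))) (.nd (.nd (.nd (.lf 317629795650563711485278380190015904) (.lf 733832326398589686684851285748924704)) (.nd (.lf 226498386706753324056781138724717824) (.lf 0))) (.nd (.nd (.lf 808036665626619817776794131223807552) (.lf 0)) (.nd (.lf 725166144750778517244775103891642464) (.lf 0))))))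

/-- table part -/
def keyT_10 : Tr :=
  .nd keyT_8 keyT_9

/-- table part -/
def keyT_11 : Tr :=
  .nd (.nd (.nd (.nd (.nd (.nd (.lf 732589981992107065523199573037724224) (.lf 444249876963948457199772712108634528)) (.nd (.lf 638314252217629004313164677474721920) (.lf 0))) (.nd (.nd (.lf 853471321835640643131136070235212192) (.lf 438369710672120925548778624384288832)) (.nd (.lf 735001216452834767957806728206164064) (.lf 0)))) (.nd (.nd (.nd (.lf 927776012597733733813779797436872256) (.lf 434022217916379817073767835553239232)) (.nd (.lf 482410346510802784007758915015156832) (.lf 0))) (.nd (.nd (.lf 641479038117003464152927002401375360) (.lf 856133624388798378023758106700880384)) (.nd (.lf 856049087867324271496146906321666336) (.lf 0))))) (.nd (.nd (.nd (.nd (.lf 975312828519345546432218609605452288) (.lf 309859841551736136854146285788733728)) (.nd (.lf 860920589307070950875358729706015808) (.lf 0))) (.nd (.nd (.lf 651946565194383564309344365698138208) (.lf 726221002126852121110602249980290624))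 (.nd (.lf 846001688629243623393925413587857696) (.lf 0)))) (.nd (.nd (.nd (.lf 973782968399780250007192978068752672) (.lf 735175637114790672278794597341465856)) (.nd (.lf 726441518811688884428694262722605344) (.lf 0))) (.nd (.nd (.lf 630485601223115549596387296870472064) (.lf 0)) (.nd (.lf 892612784008401212385804157282845888) (.lf 0)))))) (.nd (.nd (.nd (.nd (.nd (.lf 923727422694606060581673286557286592) (.lf 487068800030429407714309660873017600)) (.nd (.lf 227759619695256122777980299793151040) (.lf 0))) (.nd (.nd (.lf 422833350566401096223113924809264192) (.lf 608398340188792326991704746375946368)) (.nd (.lf 721230098215196651044123257842306432) (.lf 0)))) (.nd (.nd (.nd (.lf 440685480537985280658011480983511424) (.lf 897802334801604619112774241237939584)) (.nd (.lf 606429758040509947595534905473500256) (.lf 0))) (.nd (.nd (.lf 964888937639708718300844213899888128) (.lf 0)) (.nd (.lf 221543151065996009202761571278831680) (.lf 0))))) (.nd (.nd (.nd (.nd (.lf 798533091716201149793897477111597568)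 (.lf 233186012364219507759252847075918976)) (.nd (.lf 650929118840022769604560312257873152) (.lf 0))) (.nd (.nd (.lf 970451386996307622894166740279238720) (.lf 297691878689408795960857817078172928)) (.nd (.lf 601834369636684997733359506978574752) (.lf 0)))) (.nd (.nd (.nd (.lf 217618431141536971187294376704647744) (.lf 596048891988537603035848675667920992)) (.nd (.lf 217689018419863983048769610489176160) (.lf 0))) (.nd (.nd (.lf 962503889769981407173729026651238496) (.lf 0)) (.nd (.lf 982133458267659606887832393983007104) (.lf 0))))))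

/-- table part -/
def keyT_12 : Tr :=
  .nd (.nd (.nd (.nd (.nd (.nd (.lf 735169501110191647788920844412519552) (.lf 970364330986083930059007584876299840)) (.nd (.lf 466966413370667170402697208065706176) (.lf 0))) (.nd (.nd (.lf 819504978297321319554345884413370496) (.lf 236839880015991658509026279743299776)) (.nd (.lf 477292691135734032563784834060949632) (.lf 0)))) (.nd (.nd (.nd (.lf 425346429690405296897964508355768448) (.lf 440873327186811487977477266374534208)) (.nd (.lf 648578783735666720726031442694979648) (.lf 0))) (.nd (.nd (.lf 422670483454125038900709530968204704) (.lf 977903326592794432676351619257413824)) (.nd (.lf 651050707433112221850831989442496704) (.lf 0))))) (.nd (.nd (.nd (.nd (.lf 803736409026308699881105510795093248) (.lf 892691242985484909861287807053613312)) (.nd (.lf 716198943639603943095405853256328256) (.lf 0))) (.nd (.nd (.lf 927300566948809288483811153058792832) (.lf 978349093839241987353157737978958112)) (.nd (.lf 443096777590077280325422409849291328)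 (.lf 0)))) (.nd (.nd (.nd (.lf 309739927877061862232114119150317824) (.lf 983462921543492418472110024351550720)) (.nd (.lf 732544434511297799946040681156385024) (.lf 0))) (.nd (.nd (.lf 642194614766283396099216630537794656) (.lf 0)) (.nd (.lf 630407005584769012986406607141744832) (.lf 0)))))) (.nd (.nd (.nd (.nd (.nd (.lf 485017976717577380162844736222443008) (.lf 444774673702418599182076888223009184)) (.nd (.lf 965100038543463921486853717344265792) (.lf 0))) (.nd (.nd (.lf 601786305852787187565796677849253152) (.lf 940030516995015335776138044319604800)) (.nd (.lf 731735280691701998237135314345332928) (.lf 0)))) (.nd (.nd (.nd (.lf 899052598183362267754126131963638880) (.lf 892230305132223028554092326070786336)) (.nd (.lf 811919092954544655212855019153132672) (.lf 0))) (.nd (.nd (.lf 936326825844854535419236468191003744) (.lf 0)) (.nd (.lf 882100504131347246009072077267018848) (.lf 0))))) (.nd (.nd (.nd (.nd (.lf 636937041417519763676383824381691968) (.lf 726056042783809307627534499896117344))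 (.nd (.lf 318987202912028683901902419314347392) (.lf 0))) (.nd (.nd (.lf 881864161366050189619059561974543648) (.lf 939125560768063410882572556768067712)) (.nd (.lf 481813989831775447640548475274667104) (.lf 0)))) (.nd (.nd (.nd (.lf 803821882357878471430376856749623392) (.lf 232948988983919723730579252211614848)) (.nd (.lf 736442385509991070868501261869188384) (.lf 0))) (.nd (.nd (.lf 434436738192652356040376249024589952) (.lf 0)) (.nd (.lf 475791866179647081217876211747143744) (.lf 0))))))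

/-- table part -/
def keyT_13 : Tr :=
  .nd keyT_11 keyT_12

/-- table part -/
def keyT_14 : Tr :=
  .nd keyT_10 keyT_13

/-- table part -/
def keyT_15 : Tr :=
  .nd keyT_7 keyT_14

/-- table part -/
def keyT_16 : Tr :=
  .nd (.nd (.nd (.nd (.nd (.nd (.lf 898694840411232118466473035698817088) (.lf 441647855047046215068271832385065248)) (.nd (.lf 861213109555102975374655795964942432) (.lf 0))) (.nd (.nd (.lf 892476335314065416418060277750605056) (.lf 305840637445416651702319390386107520)) (.nd (.lf 879220447873899690018743557083775104) (.lf 0)))) (.nd (.nd (.nd (.lf 940258853011598876882389216098723328) (.lf 933531695588479474727743962527086080)) (.nd (.lf 443352371324138645068645673323284864) (.lf 0))) (.nd (.nd (.lf 608454160151039494289103382039009408) (.lf 980519080162250007752911425212850688)) (.nd (.lf 964902099484683485417360717079907840) (.lf 0))))) (.nd (.nd (.nd (.nd (.lf 297849225583170776426798907679613120) (.lf 934148975182646334130497649941694880)) (.nd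 (.lf 230231273526160931291464157865750656) (.lf 0))) (.nd (.nd (.lf 603916948195306997755284381301612736) (.lf 923627145409565534752285067788296576)) (.nd (.lf 217724815525709145615366448195472576) (.lf 0)))) (.nd (.nd (.nd (.lf 861238309090156327317445652265349184) (.lf 632988271413462689471062625587957824)) (.nd (.lf 928434565738081112014073086298429536) (.lf 0))) (.nd (.nd (.lf 591543495415410818853871763979317824) (.lf 0)) (.nd (.lf 316148658046483043451232891124889152) (.lf 0)))))) (.nd (.nd (.nd (.nd (.nd (.lf 442287672516062895886823875491695904) (.lf 319907530502927308337632779402621120)) (.nd (.lf 720866202079010255028200284683961760) (.lf 0))) (.nd (.nd (.lf 319746692928223931142484223347262976) (.lf 464252284101520375139813390192551424)) (.nd (.lf 234570444694798906870776405319361632) (.lf 0)))) (.nd (.nd (.nd (.lf 487611556412621434507757589405020736) (.lf 901640863608314283587924987608076864)) (.nd (.lf 844371538193942569235803633241952352) (.lf 0))) (.nd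 (.nd (.lf 808263106074513323366248461316304992) (.lf 0)) (.nd (.lf 932647518566909766415463025219275840) (.lf 0))))) (.nd (.nd (.nd (.nd (.lf 440669777659157457562841831268556992) (.lf 819958648567772658027437301843792384)) (.nd (.lf 816903643125847823860730858626429056) (.lf 0))) (.nd (.nd (.lf 923404013185382681965400612823701760) (.lf 815406666523511648454810309275755936)) (.nd (.lf 606633730165335516154652230328791616) (.lf 0)))) (.nd (.nd (.nd (.lf 901456413054820527457677973815079104) (.lf 941531776882940240373916166558632000)) (.nd (.lf 637585837153315561968268370464118912) (.lf 0))) (.nd (.nd (.lf 430624200166196443120271549826237952) (.lf 0)) (.nd (.lf 317688024300384244825302452120666240) (.lf 0))))))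

/-- table part -/
def keyT_17 : Tr :=
  .nd (.nd (.nd (.nd (.nd (.nd (.lf 731281298626360426068429535463214208) (.lf 853792276134121732823291136020322560)) (.nd (.lf 610875179834140857065328925382095264) (.lf 0))) (.nd (.nd (.lf 591049265727572961326306906234851904) (.lf 837893880370414405397140814009271584)) (.nd (.lf 901694272558176211153418324145129600) (.lf 0)))) (.nd (.nd (.nd (.lf 645725668056483300771130681957944896) (.lf 594735364764251354672372534904177024)) (.nd (.lf 858648413380467343528282475063298464) (.lf 0))) (.nd (.nd (.lf 636933000883715168226992426221347232) (.lf 304631265541429179646082768546597952)) (.nd (.lf 811768520210201612038595491545789504) (.lf 0))))) (.nd (.nd (.nd (.nd (.lf 719588405039331954839539344577299648) (.lf 819781339861726283932169222104355328)) (.nd (.lf 713276848415768840429403523257020544) (.lf 0))) (.nd (.nd (.lf 716035195308362729530582278567310624) (.lf 651277485790485961199938301350913600)) (.nd (.lf 637579705674796377388569321734746368)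 (.lf 0)))) (.nd (.nd (.nd (.lf 818409971655101640027079772976975232) (.lf 630362763656936862127412551673709984)) (.nd (.lf 887015106939067886697073283040682176) (.lf 0))) (.nd (.nd (.lf 920770179491900001664049322847679744) (.lf 0)) (.nd (.lf 477351997312329370305076955342516320) (.lf 0)))))) (.nd (.nd (.nd (.nd (.nd (.lf 591055644908294119813411348163006752) (.lf 475320299558523489709320914059280512)) (.nd (.lf 713238145492417750440007262718443904) (.lf 0))) (.nd (.nd (.lf 318250934587255268461203462292576672) (.lf 607061607951037736009581063835005120)) (.nd (.lf 941719291607144354652488301313169472) (.lf 0)))) (.nd (.nd (.nd (.lf 443596116507166821822791321055043968) (.lf 485707265710105279080790486126502976)) (.nd (.lf 968996479040613874289027749116387424) (.lf 0))) (.nd (.nd (.lf 637786363604288347011770609096527968) (.lf 0)) (.nd (.lf 726057791443893559842707399614974336) (.lf 0))))) (.nd (.nd (.nd (.nd (.lf 923886111520119921457691496940700864) (.lf 596434171327412481917037894425677888))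 (.nd (.lf 969181565244072891001432851293277440) (.lf 0))) (.nd (.nd (.lf 936711840005391710984598481555427584) (.lf 733867580063203598871318677617161344)) (.nd (.lf 817306993071472369249415243958093184) (.lf 0)))) (.nd (.nd (.nd (.lf 463842785930435387283109223761978752) (.lf 486199074450480148956219297894892832)) (.nd (.lf 435448995346921760291617422766706752) (.lf 0))) (.nd (.nd (.lf 596119793303419884514087893224165888) (.lf 0)) (.nd (.lf 962698522433709503174701454388703648) (.lf 0))))))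

/-- table part -/
def keyT_18 : Tr :=
  .nd keyT_16 keyT_17

/-- table part -/
def keyT_19 : Tr :=
  .nd (.nd (.nd (.nd (.nd (.nd (.lf 309660627267414414497948819104244864) (.lf 607148276966268966976826105196005760)) (.nd (.lf 612267164448482566963158415021974944) (.lf 0))) (.nd (.nd (.lf 238427730201199975528671759318585728) (.lf 319750342532624749423232558126215680)) (.nd (.lf 651119397303537612446314815609184544) (.lf 0)))) (.nd (.nd (.nd (.lf 298178839731834648125188507628345408) (.lf 445470451093198053365176448744469760)) (.nd (.lf 885754973813209403876266368355975264) (.lf 0))) (.nd (.nd (.lf 630442223766602442576037110578677152) (.lf 886004660895332108501409326453377280)) (.nd (.lf 962450180966493129652682446609893504) (.lf 0))))) (.nd (.nd (.nd (.nd (.lf 425352168547084707791839540155780224) (.lf 483307882819974928711583837269266848)) (.nd (.lf 486193845554364186672380924556381248) (.lf 0))) (.nd (.nd (.lf 856066288502323553902051954755437760) (.lf 932721644475456219627239832614374816))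 (.nd (.lf 477182113640674952793204254661217472) (.lf 0)))) (.nd (.nd (.nd (.lf 649618531372547854854194208093671936) (.lf 796641527814113264951669114589941824)) (.nd (.lf 311038559625174669287354753284981024) (.lf 0))) (.nd (.nd (.lf 975166140090675008210365318152896768) (.lf 0)) (.nd (.lf 608297012553714754424674273691305216) (.lf 0)))))) (.nd (.nd (.nd (.nd (.nd (.lf 316337742813569412222276948472148384) (.lf 611683845833481839853460742831622208)) (.nd (.lf 304619786823415186880857200726945856) (.lf 0))) (.nd (.nd (.lf 466914355466353659736709902874477984) (.lf 442054420008452989743481832020723808)) (.nd (.lf 607720864120395831813185996975408320) (.lf 0)))) (.nd (.nd (.nd (.lf 974264678267039405166887216647382592) (.lf 844705524512719145660361405583858240)) (.nd (.lf 222844712556434718642972340344996416) (.lf 0))) (.nd (.nd (.lf 939366254568539647725840894332702816) (.lf 0)) (.nd (.lf 298092253484342015320180472604435008) (.lf 0))))) (.nd (.nd (.nd (.nd (.lf 897394502608210120686213717484446112)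 (.lf 920973093609236526337018300606199072)) (.nd (.lf 611047342818617455349644469828105472) (.lf 0))) (.nd (.nd (.lf 861488306945683354152529794016284032) (.lf 928753378160785719741811108824550688)) (.nd (.lf 430493643913707603129224125874770432) (.lf 0)))) (.nd (.nd (.nd (.lf 844547548248873922688779824111559808) (.lf 588461840751175630824052173612398144)) (.nd (.lf 226338503055328372232755679395529120) (.lf 0))) (.nd (.nd (.lf 601869896040926249133571862210946464) (.lf 0)) (.nd (.lf 892577448171149407534889987384418880) (.lf 0))))))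

/-- table part -/
def keyT_20 : Tr :=
  .nd (.nd (.nd (.nd (.nd (.nd (.lf 901583056755382997951259756728717696) (.lf 305962252727958243354273281692927104)) (.nd (.lf 849361060310914019895554846335734016) (.lf 0))) (.nd (.nd (.lf 970563300767287393104094707965232384) (.lf 638069965754170121090226433090466048)) (.nd (.lf 977873576462505118479315019693988224) (.lf 0)))) (.nd (.nd (.nd (.lf 238018563579476553396362432462768544) (.lf 479298298672434832208471861960979968)) (.nd (.lf 653837186675694164093458430718194976) (.lf 0))) (.nd (.nd (.lf 609021780729217163906431716661936512) (.lf 812116960672977841642993412186059872)) (.nd (.lf 230716814608731087871294763900145920) (.lf 0))))) (.nd (.nd (.nd (.nd (.lf 237973047241528306745693410121823360) (.lf 982873692869878576461170511476855072)) (.nd (.lf 612176571579188614565719900183468096) (.lf 0))) (.nd (.nd (.lf 321327449316406372262627583982634560) (.lf 853137224486730965590336334042636864)) (.nd (.lf 975277967774569930464442526415926656)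 (.lf 0)))) (.nd (.nd (.nd (.lf 796296879485105284340325896529791264) (.lf 645617780428933250406210670682115360)) (.nd (.lf 470784560212681396308198238038597920) (.lf 0))) (.nd (.nd (.lf 443442527143406283799788448263745632) (.lf 0)) (.nd (.lf 936547366057936493795532570646235392) (.lf 0)))))) (.nd (.nd (.nd (.nd (.nd (.lf 733064795985925137633767827448306080) (.lf 319547676588447926434273712306463232)) (.nd (.lf 311040308567657799878035427719463040) (.lf 0))) (.nd (.nd (.lf 840313740181107072398372475204047104) (.lf 940427638090339828036582188249434368)) (.nd (.lf 938817376984370737979172185096601728) (.lf 0)))) (.nd (.nd (.nd (.lf 479218404664712095126472364667482208) (.lf 591342725730290243296565549143893376)) (.nd (.lf 858439656995634639337249078407105952) (.lf 0))) (.nd (.nd (.lf 430370195947584523075450053627953440) (.lf 0)) (.nd (.lf 818627408544652697813508588207030368) (.lf 0))))) (.nd (.nd (.nd (.nd (.lf 712952648907658170408583428342981120) (.lf 983356478350996415703930980598485088))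 (.nd (.lf 234451123525093831003612190067524992) (.lf 0))) (.nd (.nd (.lf 653156264528663497988512428474839552) (.lf 809646197310074336325566724919468128)) (.nd (.lf 234276533250967518810566795715621120) (.lf 0)))) (.nd (.nd (.nd (.lf 304215278230394906766447106128547936) (.lf 595338917527032889623788373695271328)) (.nd (.lf 612028929846196896851676775251485888) (.lf 0))) (.nd (.nd (.lf 611848875654233339919050350245595552) (.lf 0)) (.nd (.lf 485691860743158910712591795143383104) (.lf 0))))))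

/-- table part -/
def keyT_21 : Tr :=
  .nd keyT_19 keyT_20

/-- table part -/
def keyT_22 : Tr :=
  .nd keyT_18 keyT_21

/-- table part -/
def keyT_23 : Tr :=
  .nd (.nd (.nd (.nd (.nd (.nd (.lf 853714791526138148158086489740232896) (.lf 464115568406164753999317687364272320)) (.nd (.lf 902593024295020215166210938818333824) (.lf 0))) (.nd (.nd (.lf 235752123146900056208704042455077056) (.lf 606916223904465638379965916913080896)) (.nd (.lf 646090375781682039921792431145889856) (.lf 0)))) (.nd (.nd (.nd (.lf 610310670708865460251733381194724416) (.lf 936209978110398838171914324144227904)) (.nd (.lf 649910733493999034156021420620302848) (.lf 0))) (.nd (.nd (.lf 928982075560985926579442573962778720) (.lf 228064703978444084810534535732402560)) (.nd (.lf 445835928092085220008749390711108704) (.lf 0))))) (.nd (.nd (.nd (.nd (.lf 487412508228797237198492182033609280) (.lf 638138414051391767359965508679049408)) (.nd (.lf 313312102237967261700808786428101888) (.lf 0))) (.nd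 (.nd (.lf 732346395702659281669840349159371168) (.lf 238174248250527981134749835544540288)) (.nd (.lf 941721559406726310755943424880810112) (.lf 0)))) (.nd (.nd (.nd (.lf 435431853030116071701955655020974336) (.lf 234523247620567412266641674030548352)) (.nd (.lf 443217832187936281813516194161279232) (.lf 0))) (.nd (.nd (.lf 236669695758480436411743305324831872) (.lf 0)) (.nd (.lf 425174425313433649364629772493653376) (.lf 0)))))) (.nd (.nd (.nd (.nd (.nd (.lf 978030765513741967947067079796365440) (.lf 726583900117449087147433565643482208)) (.nd (.lf 470133067621680169583766848383697024) (.lf 0))) (.nd (.nd (.lf 902574334962239797233807403153624352) (.lf 736833719398397927640172351382270240)) (.nd (.lf 636277234143499895332074652122003008) (.lf 0)))) (.nd (.nd (.nd (.lf 222608606991268359065625763217060352) (.lf 879383617778003139515063586831762528)) (.nd (.lf 724541721601724279922522682220953696) (.lf 0))) (.nd (.nd (.lf 843979800822187843069399309980280000) (.lf 0))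 (.nd (.lf 980875354679761001955514106318493952) (.lf 0))))) (.nd (.nd (.nd (.nd (.lf 799235488990593791833693455764303936) (.lf 222922984248318868659194725770113312)) (.nd (.lf 636289101893012949564393465219265664) (.lf 0))) (.nd (.nd (.lf 808117721407943014806808465172240768) (.lf 588858817411550550948609457198859776)) (.nd (.lf 921164059797918177349062048068214912) (.lf 0)))) (.nd (.nd (.nd (.lf 941405953932239762960805979587097152) (.lf 928554981016575799398825956084360384)) (.nd (.lf 844660132340400958556749654618818656) (.lf 0))) (.nd (.nd (.lf 442875728624643373566906401535987264) (.lf 0)) (.nd (.lf 441002299640806372310759294065744256) (.lf 0))))))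

/-- table part -/
def keyT_24 : Tr :=
  .nd (.nd (.nd (.nd (.nd (.nd (.lf 484494331980914587137189333953452288) (.lf 843960376133376272354387626567142592)) (.nd (.lf 928710823319723323817761591798435104) (.lf 0))) (.nd (.nd (.lf 895172550204109834034583187077075456) (.lf 808930084324796532797475623249511936)) (.nd (.lf 892370924618365552654206461623207104) (.lf 0)))) (.nd (.nd (.nd (.lf 882304407668811484715168003760134560) (.lf 230675928931130951257116235111109120)) (.nd (.lf 804083076565937467810384904669153696) (.lf 0))) (.nd (.nd (.lf 652065738075626438458520505481971808) (.lf 732985170758350530626863794958420160)) (.nd (.lf 902783021901764480487164157927956544) (.lf 0))))) (.nd (.nd (.nd (.nd (.lf 981573988597800787081005641951743488) (.lf 652341011615011769573542183645253120)) (.nd (.lf 311106108053058620164926392367487488) (.lf 0))) (.nd (.nd (.lf 808273920390862738911335627054384704) (.lf 932447622193385009000140632407453760)) (.nd (.lf 838164919770821396619243923821372512)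 (.lf 0)))) (.nd (.nd (.nd (.lf 653526257570145535557338079329035776) (.lf 978037602592490119235053733336753280)) (.nd (.lf 221380567913153392603003632583196960) (.lf 0))) (.nd (.nd (.lf 965063883269089610517257152230401536) (.lf 0)) (.nd (.lf 318736304535224115434700764102272192) (.lf 0)))))) (.nd (.nd (.nd (.nd (.nd (.lf 891315172826362039515917646377157920) (.lf 228114529593839519461867860590670912)) (.nd (.lf 232657594717673049095981822858512672) (.lf 0))) (.nd (.nd (.lf 652057340158029411861698621626004672) (.lf 840806430568841723211260241590501792)) (.nd (.lf 319949588819177271540199285472762240) (.lf 0)))) (.nd (.nd (.nd (.lf 649938813600991343815391930308837760) (.lf 720051816640499173785506883331967488)) (.nd (.lf 445947687592641666599967707551504480) (.lf 0))) (.nd (.nd (.lf 981977338791154377729502603112628320) (.lf 0)) (.nd (.lf 980885901718531331543716217223201024) (.lf 0))))) (.nd (.nd (.nd (.nd (.lf 443464365404357894037555346487250432) (.lf 464273788102250047343585613211670816))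 (.nd (.lf 974454871705011824315956471334581440) (.lf 0))) (.nd (.nd (.lf 859633382661931458961360315939733568) (.lf 938967111793701559884482484617913856)) (.nd (.lf 726534507498751887206391985903766592) (.lf 0)))) (.nd (.nd (.nd (.lf 305877239909933934004969283769340096) (.lf 970370455733018898536468721146572864)) (.nd (.lf 435721467827719512751916320039641504) (.lf 0))) (.nd (.nd (.lf 802663030741653914928729013401232768) (.lf 0)) (.nd (.lf 965106183755226153325303947010162784) (.lf 0))))))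

/-- table part -/
def keyT_25 : Tr :=
  .nd keyT_23 keyT_24

/-- table part -/
def keyT_26 : Tr :=
  .nd (.nd (.nd (.nd (.nd (.nd (.lf 853632513246831489230912812832830848) (.lf 595440326472789295574562150658684032)) (.nd (.lf 633035768382504597940037089162241152) (.lf 0))) (.nd (.nd (.lf 470480335829629751885989481651179776) (.lf 932835833934658778954208009817203072)) (.nd (.lf 982134527820649181550394839709007936) (.lf 0)))) (.nd (.nd (.nd (.lf 637769795162941914282464927335649664) (.lf 819719066163540036946920185173951040)) (.nd (.lf 653830892219894801734992442660435200) (.lf 0))) (.nd (.nd (.lf 610885043437035039145498627872427264) (.lf 897194451821928399193840752407351552)) (.nd (.lf 487207849447296581482100998712631680) (.lf 0))))) (.nd (.nd (.nd (.nd (.lf 604440779428086429729981289983940896) (.lf 476624639606347355156506840085600512)) (.nd (.lf 964686314108397303726690018772011296) (.lf 0))) (.nd (.nd (.lf 318618412991954631401258648217068640) (.lf 726076798193501336994240399488332352))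 (.nd (.lf 732980259966947968156996242128778496) (.lf 0)))) (.nd (.nd (.nd (.lf 321092663743329607478984927735088224) (.lf 217401568317017276245724471102937184)) (.nd (.lf 804223780753223975840312470893966592) (.lf 0))) (.nd (.nd (.lf 720855461158730577993874528447709600) (.lf 0)) (.nd (.lf 968979009768386681820395881839867072) (.lf 0)))))) (.nd (.nd (.nd (.nd (.nd (.lf 891117348062169222412676092147279360) (.lf 802521906668609976045818087979102400)) (.nd (.lf 886117841879873698584667861376092544) (.lf 0))) (.nd (.nd (.lf 726206253967464714412655287140355136) (.lf 317312636778995786767049635744256512)) (.nd (.lf 221631839832135847386980459853778432) (.lf 0)))) (.nd (.nd (.nd (.lf 809289903272879202709988511050829056) (.lf 970441456498808177767262057843411008)) (.nd (.lf 858815985430463278287152858562495584) (.lf 0))) (.nd (.nd (.lf 735539646478775123197391977354305664) (.lf 0)) (.nd (.lf 440522096290182773623049508469384256) (.lf 0))))) (.nd (.nd (.nd (.nd (.lf 882176595226230788260593189201916192)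 (.lf 879515412623388740796263159310880960)) (.nd (.lf 235584872342793058850328673765099008) (.lf 0))) (.nd (.nd (.lf 849724554325403367542615790039898176) (.lf 902464964395855997301649941579637824)) (.nd (.lf 309169446077031286161353732123609216) (.lf 0)))) (.nd (.nd (.nd (.lf 886203731900648964257847198980649056) (.lf 230352840055865409955862512012402752)) (.nd (.lf 973981003102362061333055271952725056) (.lf 0))) (.nd (.nd (.lf 721252275717580563342683219794605152) (.lf 0)) (.nd (.lf 298206777682031513908964803960948992) (.lf 0))))))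

/-- table part -/
def keyT_27 : Tr :=
  .nd (.nd (.nd (.nd (.nd (.nd (.lf 720075736460740062059755331301705280) (.lf 724755596746140100995575558617241888)) (.nd (.lf 476702762260944943291295309089902688) (.lf 0))) (.nd (.nd (.lf 442145339236642960034315849948207680) (.lf 860041912422273880346939866147637536)) (.nd (.lf 464277907839652605591344733441245760) (.lf 0)))) (.nd (.nd (.nd (.lf 860277984240972272698775284532789504) (.lf 733643047693635474350619659671441824)) (.nd (.lf 311109782801093550727880015356503104) (.lf 0))) (.nd (.nd (.lf 804418313331874924772693490649140640) (.lf 591581696159884826020553697166313600)) (.nd (.lf 632992107909171988916533668761080000) (.lf 0))))) (.nd (.nd (.nd (.nd (.lf 725227321155577150936801712054247616) (.lf 435735530411826328614732192587073664)) (.nd (.lf 803157593830958891800640040695570496) (.lf 0))) (.nd (.nd (.lf 606669348801341039986129150644063616) (.lf 315885270777639121972962313737816576)) (.nd (.lf 611824831716821070311393203470867008)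 (.lf 0)))) (.nd (.nd (.nd (.lf 887166189429312178599131366207930784) (.lf 318827243835165984163607705625833760)) (.nd (.lf 816786983325453605876654227673658496) (.lf 0))) (.nd (.nd (.lf 483667301303935370511364232062444928) (.lf 0)) (.nd (.lf 803039785038061560991682992834386176) (.lf 0)))))) (.nd (.nd (.nd (.nd (.nd (.lf 818746647286825721164946207997694240) (.lf 483580310876866554528216065271935104)) (.nd (.lf 851155958237971447871048477435019648) (.lf 0))) (.nd (.nd (.lf 651153691786633276259202146710717696) (.lf 604485928265822386059726846873904384)) (.nd (.lf 940670709473732410539949876134169088) (.lf 0)))) (.nd (.nd (.nd (.lf 799277077430224966344581965838172576) (.lf 934274115387354439544572910893088960)) (.nd (.lf 638271794009775860415226189844057472) (.lf 0))) (.nd (.nd (.lf 596534388280413227484900004859219072) (.lf 0)) (.nd (.lf 981561717943011753738169157370327232) (.lf 0))))) (.nd (.nd (.nd (.nd (.lf 645984176742528896503177327340433472) (.lf 802683589842835806349651504851755072))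 (.nd (.lf 736320774033564916672292072677705088) (.lf 0))) (.nd (.nd (.lf 804379495962912430865643116728197696) (.lf 890791674974619876448766916040012288)) (.nd (.lf 466590153744639596193098755715109280) (.lf 0)))) (.nd (.nd (.nd (.lf 837723857157322182572600315056632064) (.lf 858619500180431446447602885430806080)) (.nd (.lf 482500307155210663091505069560991296) (.lf 0))) (.nd (.nd (.lf 982246248184504019313732640621772992) (.lf 0)) (.nd (.lf 819665865460578353374939960756803712) (.lf 0))))))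

/-- table part -/
def keyT_28 : Tr :=
  .nd keyT_26 keyT_27

/-- table part -/
def keyT_29 : Tr :=
  .nd keyT_25 keyT_28

/-- table part -/
def keyT_30 : Tr :=
  .nd keyT_22 keyT_29

/-- table part -/
def keyT_31 : Tr :=
  .nd keyT_15 keyT_30

/-- table -/
def keyT : Tr :=
  keyT_31

/-- table part -/
def posT_1 : Tr :=
  .nd (.nd (.nd (.nd (.nd (.nd (.lf 718) (.lf 122)) (.nd (.lf 335) (.lf 0))) (.nd (.nd (.lf 549) (.lf 480)) (.nd (.lf 544) (.lf 0)))) (.nd (.nd (.nd (.lf 142) (.lf 215)) (.nd (.lf 707) (.lf 0))) (.nd (.nd (.lf 428) (.lf 145)) (.nd (.lf 445) (.lf 0))))) (.nd (.nd (.nd (.nd (.lf 50) (.lf 641)) (.nd (.lf 578) (.lf 0))) (.nd (.nd (.lf 130) (.lf 490)) (.nd (.lf 393) (.lf 0)))) (.nd (.nd (.nd (.lf 716) (.lf 665)) (.nd (.lf 484) (.lf 0))) (.nd (.nd (.lf 663) (.lf 0)) (.nd (.lf 520) (.lf 0)))))) (.nd (.nd (.nd (.nd (.nd (.lf 267) (.lf 80)) (.nd (.lf 62) (.lf 0))) (.nd (.nd (.lf 603) (.lf 644)) (.nd (.lf 22) (.lf 0)))) (.nd (.nd (.nd (.lf 347) (.lf 411)) (.nd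 (.lf 39) (.lf 0))) (.nd (.nd (.lf 156) (.lf 0)) (.nd (.lf 199) (.lf 0))))) (.nd (.nd (.nd (.nd (.lf 595) (.lf 140)) (.nd (.lf 214) (.lf 0))) (.nd (.nd (.lf 673) (.lf 211)) (.nd (.lf 198) (.lf 0)))) (.nd (.nd (.nd (.lf 471) (.lf 612)) (.nd (.lf 361) (.lf 0))) (.nd (.nd (.lf 88) (.lf 0)) (.nd (.lf 563) (.lf 0))))))

/-- table part -/
def posT_2 : Tr :=
  .nd (.nd (.nd (.nd (.nd (.nd (.lf 106) (.lf 77)) (.nd (.lf 438) (.lf 0))) (.nd (.nd (.lf 703) (.lf 352)) (.nd (.lf 577) (.lf 0)))) (.nd (.nd (.nd (.lf 540) (.lf 18)) (.nd (.lf 419) (.lf 0))) (.nd (.nd (.lf 83) (.lf 205)) (.nd (.lf 456) (.lf 0))))) (.nd (.nd (.nd (.nd (.lf 178) (.lf 517)) (.nd (.lf 150) (.lf 0))) (.nd (.nd (.lf 538) (.lf 397)) (.nd (.lf 575) (.lf 0)))) (.nd (.nd (.nd (.lf 230) (.lf 489)) (.nd (.lf 382) (.lf 0))) (.nd (.nd (.lf 469) (.lf 0)) (.nd (.lf 277) (.lf 0)))))) (.nd (.nd (.nd (.nd (.nd (.lf 631) (.lf 334)) (.nd (.lf 695) (.lf 0))) (.nd (.nd (.lf 482) (.lf 234)) (.nd (.lf 504) (.lf 0)))) (.nd (.nd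 (.nd (.lf 152) (.lf 146)) (.nd (.lf 117) (.lf 0))) (.nd (.nd (.lf 568) (.lf 0)) (.nd (.lf 247) (.lf 0))))) (.nd (.nd (.nd (.nd (.lf 610) (.lf 69)) (.nd (.lf 486) (.lf 0))) (.nd (.nd (.lf 413) (.lf 552)) (.nd (.lf 153) (.lf 0)))) (.nd (.nd (.nd (.lf 263) (.lf 63)) (.nd (.lf 221) (.lf 0))) (.nd (.nd (.lf 51) (.lf 0)) (.nd (.lf 78) (.lf 0))))))

/-- table part -/
def posT_3 : Tr :=
  .nd posT_1 posT_2

/-- table part -/
def posT_4 : Tr :=
  .nd (.nd (.nd (.nd (.nd (.nd (.lf 356) (.lf 369)) (.nd (.lf 638) (.lf 0))) (.nd (.nd (.lf 407) (.lf 425)) (.nd (.lf 94) (.lf 0)))) (.nd (.nd (.nd (.lf 365) (.lf 624)) (.nd (.lf 217) (.lf 0))) (.nd (.nd (.lf 45) (.lf 183)) (.nd (.lf 605) (.lf 0))))) (.nd (.nd (.nd (.nd (.lf 632) (.lf 255)) (.nd (.lf 233) (.lf 0))) (.nd (.nd (.lf 685) (.lf 649)) (.nd (.lf 505) (.lf 0)))) (.nd (.nd (.nd (.lf 444) (.lf 582)) (.nd (.lf 535) (.lf 0))) (.nd (.nd (.lf 400) (.lf 0)) (.nd (.lf 672) (.lf 0)))))) (.nd (.nd (.nd (.nd (.nd (.lf 13) (.lf 715)) (.nd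 (.lf 421) (.lf 0))) (.nd (.nd (.lf 678) (.lf 213)) (.nd (.lf 201) (.lf 0)))) (.nd (.nd (.nd (.lf 442) (.lf 599)) (.nd (.lf 600) (.lf 0))) (.nd (.nd (.lf 529) (.lf 0)) (.nd (.lf 187) (.lf 0))))) (.nd (.nd (.nd (.nd (.lf 324) (.lf 366)) (.nd (.lf 0) (.lf 0))) (.nd (.nd (.lf 357) (.lf 269)) (.nd (.lf 348) (.lf 0)))) (.nd (.nd (.nd (.lf 661) (.lf 271)) (.nd (.lf 589) (.lf 0))) (.nd (.nd (.lf 609) (.lf 0)) (.nd (.lf 4) (.lf 0))))))

/-- table part -/
def posT_5 : Tr :=
  .nd (.nd (.nd (.nd (.nd (.nd (.lf 189) (.lf 36)) (.nd (.lf 42) (.lf 0))) (.nd (.nd (.lf 90) (.lf 634)) (.nd (.lf 322) (.lf 0)))) (.nd (.nd (.nd (.lf 690) (.lf 25)) (.nd (.lf 654) (.lf 0))) (.nd (.nd (.lf 37) (.lf 168)) (.nd (.lf 15) (.lf 0))))) (.nd (.nd (.nd (.nd (.lf 546) (.lf 141)) (.nd (.lf 287) (.lf 0))) (.nd (.nd (.lf 266) (.lf 461)) (.nd (.lf 614) (.lf 0)))) (.nd (.nd (.nd (.lf 692) (.lf 210)) (.nd (.lf 341) (.lf 0))) (.nd (.nd (.lf 511) (.lf 0)) (.nd (.lf 167) (.lf 0)))))) (.nd (.nd (.nd (.nd (.nd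 (.lf 239) (.lf 434)) (.nd (.lf 249) (.lf 0))) (.nd (.nd (.lf 617) (.lf 53)) (.nd (.lf 133) (.lf 0)))) (.nd (.nd (.nd (.lf 91) (.lf 650)) (.nd (.lf 463) (.lf 0))) (.nd (.nd (.lf 44) (.lf 0)) (.nd (.lf 417) (.lf 0))))) (.nd (.nd (.nd (.nd (.lf 622) (.lf 240)) (.nd (.lf 336) (.lf 0))) (.nd (.nd (.lf 285) (.lf 218)) (.nd (.lf 171) (.lf 0)))) (.nd (.nd (.nd (.lf 242) (.lf 378)) (.nd (.lf 588) (.lf 0))) (.nd (.nd (.lf 23) (.lf 0)) (.nd (.lf 432) (.lf 0))))))

/-- table part -/
def posT_6 : Tr :=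
  .nd posT_4 posT_5

/-- table part -/
def posT_7 : Tr :=
  .nd posT_3 posT_6

/-- table part -/
def posT_8 : Tr :=
  .nd (.nd (.nd (.nd (.nd (.nd (.lf 466) (.lf 3)) (.nd (.lf 500) (.lf 0))) (.nd (.nd (.lf 175) (.lf 265)) (.nd (.lf 532) (.lf 0)))) (.nd (.nd (.nd (.lf 286) (.lf 698)) (.nd (.lf 414) (.lf 0))) (.nd (.nd (.lf 119) (.lf 558)) (.nd (.lf 629) (.lf 0))))) (.nd (.nd (.nd (.nd (.lf 496) (.lf 16)) (.nd (.lf 586) (.lf 0))) (.nd (.nd (.lf 330) (.lf 49)) (.nd (.lf 379) (.lf 0)))) (.nd (.nd (.nd (.lf 226) (.lf 321)) (.nd (.lf 340) (.lf 0))) (.nd (.nd (.lf 170) (.lf 0)) (.nd (.lf 642) (.lf 0)))))) (.nd (.nd (.nd (.nd (.nd (.lf 225) (.lf 531)) (.nd (.lf 61) (.lf 0))) (.nd (.nd (.lf 468) (.lf 113)) (.nd (.lf 288) (.lf 0)))) (.nd (.nd (.nd (.lf 101) (.lf 306)) (.nd (.lf 550) (.lf 0))) (.nd (.nd (.lf 120) (.lf 0)) (.nd (.lf 584) (.lf 0))))) (.nd (.nd (.nd (.nd (.lf 1) (.lf 328)) (.nd (.lf 180) (.lf 0))) (.nd (.nd (.lf 12) (.lf 676)) (.nd (.lf 290) (.lf 0)))) (.nd (.nd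 (.nd (.lf 135) (.lf 325)) (.nd (.lf 172) (.lf 0))) (.nd (.nd (.lf 615) (.lf 0)) (.nd (.lf 195) (.lf 0))))))

/-- table part -/
def posT_9 : Tr :=
  .nd (.nd (.nd (.nd (.nd (.nd (.lf 244) (.lf 332)) (.nd (.lf 179) (.lf 0))) (.nd (.nd (.lf 451) (.lf 462)) (.nd (.lf 395) (.lf 0)))) (.nd (.nd (.nd (.lf 514) (.lf 105)) (.nd (.lf 58) (.lf 0))) (.nd (.nd (.lf 702) (.lf 118)) (.nd (.lf 423) (.lf 0))))) (.nd (.nd (.nd (.nd (.lf 275) (.lf 564)) (.nd (.lf 576) (.lf 0))) (.nd (.nd (.lf 509) (.lf 508)) (.nd (.lf 158) (.lf 0)))) (.nd (.nd (.nd (.lf 54) (.lf 485)) (.nd (.lf 562) (.lf 0))) (.nd (.nd (.lf 474) (.lf 0)) (.nd (.lf 97) (.lf 0)))))) (.nd (.nd (.nd (.nd (.nd (.lf 454) (.lf 33)) (.nd (.lf 502) (.lf 0))) (.nd (.nd (.lf 381) (.lf 8)) (.nd (.lf 501) (.lf 0)))) (.nd (.nd (.nd (.lf 688) (.lf 556)) (.nd (.lf 74) (.lf 0))) (.nd (.nd (.lf 448) (.lf 0)) (.nd (.lf 512) (.lf 0))))) (.nd (.nd (.nd (.nd (.lf 203) (.lf 116)) (.nd (.lf 554) (.lf 0))) (.nd (.nd (.lf 657) (.lf 495)) (.nd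 (.lf 125) (.lf 0)))) (.nd (.nd (.nd (.lf 98) (.lf 405)) (.nd (.lf 21) (.lf 0))) (.nd (.nd (.lf 446) (.lf 0)) (.nd (.lf 380) (.lf 0))))))

/-- table part -/
def posT_10 : Tr :=
  .nd posT_8 posT_9

/-- table part -/
def posT_11 : Tr :=
  .nd (.nd (.nd (.nd (.nd (.nd (.lf 399) (.lf 169)) (.nd (.lf 319) (.lf 0))) (.nd (.nd (.lf 515) (.lf 143)) (.nd (.lf 408) (.lf 0)))) (.nd (.nd (.nd (.lf 616) (.lf 132)) (.nd (.lf 216) (.lf 0))) (.nd (.nd (.lf 320) (.lf 523)) (.nd (.lf 521) (.lf 0))))) (.nd (.nd (.nd (.nd (.lf 694) (.lf 82)) (.nd (.lf 534) (.lf 0))) (.nd (.nd (.lf 349) (.lf 388)) (.nd (.lf 503) (.lf 0)))) (.nd (.nd (.nd (.lf 684) (.lf 410)) (.nd (.lf 389) (.lf 0))) (.nd (.nd (.lf 303) (.lf 0)) (.nd (.lf 573) (.lf 0)))))) (.nd (.nd (.nd (.nd (.nd (.lf 608) (.lf 235)) (.nd (.lf 24) (.lf 0))) (.nd (.nd (.lf 123) (.lf 282)) (.nd (.lf 374) (.lf 0)))) (.nd (.nd (.nd (.lf 148) (.lf 583)) (.nd (.lf 272) (.lf 0))) (.nd (.nd (.lf 667) (.lf 0)) (.nd (.lf 10) (.lf 0))))) (.nd (.nd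 (.nd (.nd (.lf 424) (.lf 35)) (.nd (.lf 342) (.lf 0))) (.nd (.nd (.lf 682) (.lf 60)) (.nd (.lf 261) (.lf 0)))) (.nd (.nd (.nd (.lf 5) (.lf 256)) (.nd (.lf 6) (.lf 0))) (.nd (.nd (.lf 662) (.lf 0)) (.nd (.lf 711) (.lf 0))))))

/-- table part -/
def posT_12 : Tr :=
  .nd (.nd (.nd (.nd (.nd (.nd (.lf 409) (.lf 679)) (.nd (.lf 191) (.lf 0))) (.nd (.nd (.lf 475) (.lf 52)) (.nd (.lf 206) (.lf 0)))) (.nd (.nd (.nd (.lf 126) (.lf 149)) (.nd (.lf 333) (.lf 0))) (.nd (.nd (.lf 121) (.lf 697)) (.nd (.lf 343) (.lf 0))))) (.nd (.nd (.nd (.nd (.lf 436) (.lf 574)) (.nd (.lf 367) (.lf 0))) (.nd (.nd (.lf 613) (.lf 701)) (.nd (.lf 161) (.lf 0)))) (.nd (.nd (.nd (.lf 81) (.lf 719)) (.nd (.lf 398) (.lf 0))) (.nd (.nd (.lf 323) (.lf 0)) (.nd (.lf 301) (.lf 0)))))) (.nd (.nd (.nd (.nd (.nd (.lf 227) (.lf 173)) (.nd (.lf 670) (.lf 0))) (.nd (.nd (.lf 260) (.lf 648)) (.nd (.lf 394) (.lf 0)))) (.nd (.nd (.nd (.lf 587) (.lf 569)) (.nd (.lf 458) (.lf 0))) (.nd (.nd (.lf 637) (.lf 0)) (.nd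 (.lf 547) (.lf 0))))) (.nd (.nd (.nd (.nd (.lf 311) (.lf 384)) (.nd (.lf 107) (.lf 0))) (.nd (.nd (.lf 545) (.lf 646)) (.nd (.lf 212) (.lf 0)))) (.nd (.nd (.nd (.lf 437) (.lf 34)) (.nd (.lf 416) (.lf 0))) (.nd (.nd (.lf 134) (.lf 0)) (.nd (.lf 197) (.lf 0))))))

/-- table part -/
def posT_13 : Tr :=
  .nd posT_11 posT_12

/-- table part -/
def posT_14 : Tr :=
  .nd posT_10 posT_13

/-- table part -/
def posT_15 : Tr :=
  .nd posT_7 posT_14

/-- table part -/
def posT_16 : Tr :=
  .nd (.nd (.nd (.nd (.nd (.nd (.lf 585) (.lf 154)) (.nd (.lf 536) (.lf 0))) (.nd (.nd (.lf 571) (.lf 72)) (.nd (.lf 541) (.lf 0)))) (.nd (.nd (.nd (.lf 651) (.lf 630)) (.nd (.lf 163) (.lf 0))) (.nd (.nd (.lf 283) (.lf 704)) (.nd (.lf 668) (.lf 0))))) (.nd (.nd (.nd (.nd (.lf 64) (.lf 633)) (.nd (.lf 28) (.lf 0))) (.nd (.nd (.lf 264) (.lf 607)) (.nd (.lf 7) (.lf 0)))) (.nd (.nd (.nd (.lf 537) (.lf 304)) (.nd (.lf 618) (.lf 0))) (.nd (.nd (.lf 250) (.lf 0)) (.nd (.lf 93) (.lf 0)))))) (.nd (.nd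 (.nd (.nd (.nd (.lf 159) (.lf 111)) (.nd (.lf 373) (.lf 0))) (.nd (.nd (.lf 109) (.lf 184)) (.nd (.lf 43) (.lf 0)))) (.nd (.nd (.nd (.lf 238) (.lf 592)) (.nd (.lf 494) (.lf 0))) (.nd (.nd (.lf 449) (.lf 0)) (.nd (.lf 626) (.lf 0))))) (.nd (.nd (.nd (.nd (.lf 147) (.lf 479)) (.nd (.lf 465) (.lf 0))) (.nd (.nd (.lf 606) (.lf 460)) (.nd (.lf 273) (.lf 0)))) (.nd (.nd (.nd (.lf 590) (.lf 656)) (.nd (.lf 313) (.lf 0))) (.nd (.nd (.lf 131) (.lf 0)) (.nd (.lf 99) (.lf 0))))))

/-- table part -/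
def posT_17 : Tr :=
  .nd (.nd (.nd (.nd (.nd (.nd (.lf 392) (.lf 519)) (.nd (.lf 291) (.lf 0))) (.nd (.nd (.lf 245) (.lf 483)) (.nd (.lf 593) (.lf 0)))) (.nd (.nd (.nd (.lf 327) (.lf 252)) (.nd (.lf 526) (.lf 0))) (.nd (.nd (.lf 310) (.lf 71)) (.nd (.lf 457) (.lf 0))))) (.nd (.nd (.nd (.nd (.lf 368) (.lf 478)) (.nd (.lf 363) (.lf 0))) (.nd (.nd (.lf 364) (.lf 346)) (.nd (.lf 312) (.lf 0)))) (.nd (.nd (.nd (.lf 470) (.lf 300)) (.nd (.lf 560) (.lf 0))) (.nd (.nd (.lf 601) (.lf 0)) (.nd (.lf 207) (.lf 0)))))) (.nd (.nd (.nd (.nd (.nd (.lf 246) (.lf 196)) (.nd (.lf 362) (.lf 0))) (.nd (.nd (.lf 100) (.lf 278)) (.nd (.lf 658) (.lf 0)))) (.nd (.nd (.nd (.lf 166) (.lf 229)) (.nd (.lf 675) (.lf 0))) (.nd (.nd (.lf 315) (.lf 0)) (.nd (.lf 385) (.lf 0))))) (.nd (.nd (.nd (.nd (.lf 611) (.lf 258)) (.nd (.lf 677) (.lf 0))) (.nd (.nd (.lf 640) (.lf 406)) (.nd (.lf 467) (.lf 0)))) (.nd (.nd (.nd (.lf 181) (.lf 232)) (.nd (.lf 137) (.lf 0))) (.nd (.nd (.lf 257) (.lf 0)) (.nd (.lf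 664) (.lf 0))))))

/-- table part -/
def posT_18 : Tr :=
  .nd posT_16 posT_17

/-- table part -/
def posT_19 : Tr :=
  .nd (.nd (.nd (.nd (.nd (.nd (.lf 79) (.lf 279)) (.nd (.lf 299) (.lf 0))) (.nd (.nd (.lf 59) (.lf 110)) (.nd (.lf 344) (.lf 0)))) (.nd (.nd (.nd (.lf 66) (.lf 174)) (.nd (.lf 553) (.lf 0))) (.nd (.nd (.lf 302) (.lf 555)) (.nd (.lf 660) (.lf 0))))) (.nd (.nd (.nd (.nd (.lf 127) (.lf 220)) (.nd (.lf 231) (.lf 0))) (.nd (.nd (.lf 522) (.lf 627)) (.nd (.lf 204) (.lf 0)))) (.nd (.nd (.nd (.lf 337) (.lf 422)) (.nd (.lf 84) (.lf 0))) (.nd (.nd (.lf 691) (.lf 0)) (.nd (.lf 281) (.lf 0)))))) (.nd (.nd (.nd (.nd (.nd (.lf 95) (.lf 294)) (.nd (.lf 70) (.lf 0))) (.nd (.nd (.lf 190) (.lf 155)) (.nd (.lf 280) (.lf 0)))) (.nd (.nd (.nd (.lf 687) (.lf 499)) (.nd (.lf 17) (.lf 0))) (.nd (.nd (.lf 647) (.lf 0)) (.nd (.lf 65) (.lf 0))))) (.nd (.nd (.nd (.nd (.lf 581) (.lf 602)) (.nd (.lf 293) (.lf 0))) (.nd (.nd (.lf 539) (.lf 621)) (.nd (.lf 129) (.lf 0)))) (.nd (.nd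 (.nd (.lf 497) (.lf 241)) (.nd (.lf 20) (.lf 0))) (.nd (.nd (.lf 262) (.lf 0)) (.nd (.lf 572) (.lf 0))))))

/-- table part -/
def posT_20 : Tr :=
  .nd (.nd (.nd (.nd (.nd (.nd (.lf 591) (.lf 75)) (.nd (.lf 506) (.lf 0))) (.nd (.nd (.lf 683) (.lf 316)) (.nd (.lf 696) (.lf 0)))) (.nd (.nd (.nd (.lf 56) (.lf 209)) (.nd (.lf 359) (.lf 0))) (.nd (.nd (.lf 284) (.lf 459)) (.nd (.lf 31) (.lf 0))))) (.nd (.nd (.nd (.nd (.lf 55) (.lf 714)) (.nd (.lf 298) (.lf 0))) (.nd (.nd (.lf 115) (.lf 513)) (.nd (.lf 693) (.lf 0)))) (.nd (.nd (.nd (.lf 420) (.lf 326)) (.nd (.lf 194) (.lf 0))) (.nd (.nd (.lf 164) (.lf 0)) (.nd (.lf 639) (.lf 0)))))) (.nd (.nd (.nd (.nd (.nd (.lf 403) (.lf 108)) (.nd (.lf 85) (.lf 0))) (.nd (.nd (.lf 488) (.lf 652)) (.nd (.lf 643) (.lf 0)))) (.nd (.nd (.nd (.lf 208) (.lf 248)) (.nd (.lf 524) (.lf 0))) (.nd (.nd (.lf 128) (.lf 0)) (.nd (.lf 472) (.lf 0))))) (.nd (.nd (.nd (.nd (.lf 360) (.lf 717)) (.nd (.lf 40) (.lf 0))) (.nd (.nd (.lf 354) (.lf 455)) (.nd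 (.lf 38) (.lf 0)))) (.nd (.nd (.nd (.lf 68) (.lf 253)) (.nd (.lf 297) (.lf 0))) (.nd (.nd (.lf 296) (.lf 0)) (.nd (.lf 228) (.lf 0))))))

/-- table part -/
def posT_21 : Tr :=
  .nd posT_19 posT_20

/-- table part -/
def posT_22 : Tr :=
  .nd posT_18 posT_21

/-- table part -/
def posT_23 : Tr :=
  .nd (.nd (.nd (.nd (.nd (.nd (.lf 518) (.lf 182)) (.nd (.lf 597) (.lf 0))) (.nd (.nd (.lf 47) (.lf 276)) (.nd (.lf 331) (.lf 0)))) (.nd (.nd (.nd (.lf 289) (.lf 636)) (.nd (.lf 338) (.lf 0))) (.nd (.nd (.lf 623) (.lf 26)) (.nd (.lf 176) (.lf 0))))) (.nd (.nd (.nd (.nd (.lf 237) (.lf 317)) (.nd (.lf 89) (.lf 0))) (.nd (.nd (.lf 396) (.lf 57)) (.nd (.lf 659) (.lf 0)))) (.nd (.nd (.nd (.lf 136) (.lf 41)) (.nd (.lf 162) (.lf 0))) (.nd (.nd (.lf 48) (.lf 0)) (.nd (.lf 124) (.lf 0)))))) (.nd (.nd (.nd (.nd (.nd (.lf 699) (.lf 391)) (.nd (.lf 192) (.lf 0))) (.nd (.nd (.lf 596) (.lf 418)) (.nd (.lf 308) (.lf 0)))) (.nd (.nd (.nd (.lf 14) (.lf 542)) (.nd (.lf 376) (.lf 0))) (.nd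 (.nd (.lf 493) (.lf 0)) (.nd (.lf 705) (.lf 0))))) (.nd (.nd (.nd (.nd (.lf 426) (.lf 19)) (.nd (.lf 309) (.lf 0))) (.nd (.nd (.lf 447) (.lf 243)) (.nd (.lf 604) (.lf 0)))) (.nd (.nd (.nd (.lf 655) (.lf 619)) (.nd (.lf 498) (.lf 0))) (.nd (.nd (.lf 160) (.lf 0)) (.nd (.lf 151) (.lf 0))))))

/-- table part -/
def posT_24 : Tr :=
  .nd (.nd (.nd (.nd (.nd (.nd (.lf 224) (.lf 492)) (.nd (.lf 620) (.lf 0))) (.nd (.nd (.lf 579) (.lf 452)) (.nd (.lf 570) (.lf 0)))) (.nd (.nd (.nd (.lf 551) (.lf 30)) (.nd (.lf 439) (.lf 0))) (.nd (.nd (.lf 351) (.lf 402)) (.nd (.lf 598) (.lf 0))))) (.nd (.nd (.nd (.nd (.lf 709) (.lf 353)) (.nd (.lf 86) (.lf 0))) (.nd (.nd (.lf 450) (.lf 625)) (.nd (.lf 487) (.lf 0)))) (.nd (.nd (.nd (.lf 355) (.lf 700)) (.nd (.lf 9) (.lf 0))) (.nd (.nd (.lf 669) (.lf 0)) (.nd (.lf 103) (.lf 0)))))) (.nd (.nd (.nd (.nd (.nd (.lf 567) (.lf 27)) (.nd (.lf 32) (.lf 0))) (.nd (.nd (.lf 350) (.lf 491)) (.nd (.lf 112) (.lf 0)))) (.nd (.nd (.nd (.lf 339) (.lf 370))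 (.nd (.lf 177) (.lf 0))) (.nd (.nd (.lf 710) (.lf 0)) (.nd (.lf 706) (.lf 0))))) (.nd (.nd (.nd (.nd (.lf 165) (.lf 185)) (.nd (.lf 689) (.lf 0))) (.nd (.nd (.lf 528) (.lf 645)) (.nd (.lf 390) (.lf 0)))) (.nd (.nd (.nd (.lf 73) (.lf 680)) (.nd (.lf 138) (.lf 0))) (.nd (.nd (.lf 430) (.lf 0)) (.nd (.lf 671) (.lf 0))))))

/-- table part -/
def posT_25 : Tr :=
  .nd posT_23 posT_24

/-- table part -/
def posT_26 : Tr :=
  .nd (.nd (.nd (.nd (.nd (.nd (.lf 516) (.lf 254)) (.nd (.lf 307) (.lf 0))) (.nd (.nd (.lf 193) (.lf 628)) (.nd (.lf 712) (.lf 0)))) (.nd (.nd (.nd (.lf 314) (.lf 477)) (.nd (.lf 358) (.lf 0))) (.nd (.nd (.lf 292) (.lf 580)) (.nd (.lf 236) (.lf 0))))) (.nd (.nd (.nd (.nd (.lf 268) (.lf 200)) (.nd (.lf 666) (.lf 0))) (.nd (.nd (.lf 102) (.lf 386)) (.nd (.lf 401) (.lf 0)))) (.nd (.nd (.nd (.lf 114) (.lf 2)) (.nd (.lf 440) (.lf 0))) (.nd (.nd (.lf 372) (.lf 0)) (.nd (.lf 674) (.lf 0)))))) (.nd (.nd (.nd (.nd (.nd (.lf 566) (.lf 429)) (.nd (.lf 557) (.lf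 0))) (.nd (.nd (.lf 387) (.lf 96)) (.nd (.lf 11) (.lf 0)))) (.nd (.nd (.nd (.lf 453) (.lf 681)) (.nd (.lf 527) (.lf 0))) (.nd (.nd (.lf 412) (.lf 0)) (.nd (.lf 144) (.lf 0))))) (.nd (.nd (.nd (.nd (.lf 548) (.lf 543)) (.nd (.lf 46) (.lf 0))) (.nd (.nd (.lf 507) (.lf 594)) (.nd (.lf 76) (.lf 0)))) (.nd (.nd (.nd (.lf 559) (.lf 29)) (.nd (.lf 686) (.lf 0))) (.nd (.nd (.lf 375) (.lf 0)) (.nd (.lf 67) (.lf 0))))))

/-- table part -/
def posT_27 : Tr :=
  .nd (.nd (.nd (.nd (.nd (.nd (.lf 371) (.lf 377)) (.nd (.lf 202) (.lf 0))) (.nd (.nd (.lf 157) (.lf 530)) (.nd (.lf 186) (.lf 0)))) (.nd (.nd (.nd (.lf 533) (.lf 404)) (.nd (.lf 87) (.lf 0))) (.nd (.nd (.lf 443) (.lf 251)) (.nd (.lf 305) (.lf 0))))) (.nd (.nd (.nd (.nd (.lf 383) (.lf 139)) (.nd (.lf 435) (.lf 0))) (.nd (.nd (.lf 274) (.lf 92)) (.nd (.lf 295) (.lf 0)))) (.nd (.nd (.nd (.lf 561) (.lf 104)) (.nd (.lf 464) (.lf 0))) (.nd (.nd (.lf 223) (.lf 0)) (.nd (.lf 433) (.lf 0)))))) (.nd (.nd (.nd (.nd (.nd (.lf 473)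 (.lf 222)) (.nd (.lf 510) (.lf 0))) (.nd (.nd (.lf 345) (.lf 270)) (.nd (.lf 653) (.lf 0)))) (.nd (.nd (.nd (.lf 427) (.lf 635)) (.nd (.lf 318) (.lf 0))) (.nd (.nd (.lf 259) (.lf 0)) (.nd (.lf 708) (.lf 0))))) (.nd (.nd (.nd (.nd (.lf 329) (.lf 431)) (.nd (.lf 415) (.lf 0))) (.nd (.nd (.lf 441) (.lf 565)) (.nd (.lf 188) (.lf 0)))) (.nd (.nd (.nd (.lf 481) (.lf 525)) (.nd (.lf 219) (.lf 0))) (.nd (.nd (.lf 713) (.lf 0)) (.nd (.lf 476) (.lf 0))))))

/-- table part -/
def posT_28 : Tr :=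
  .nd posT_26 posT_27

/-- table part -/
def posT_29 : Tr :=
  .nd posT_25 posT_28

/-- table part -/
def posT_30 : Tr :=
  .nd posT_22 posT_29

/-- table part -/
def posT_31 : Tr :=
  .nd posT_15 posT_30

/-- table -/
def posT : Tr :=
  posT_31

/-- table part -/
def srtT_1 : Tr :=
  .nd (.nd (.nd (.nd (.nd (.nd (.lf 308) (.lf 474)) (.nd (.lf 630) (.lf 0))) (.nd (.nd (.lf 221) (.lf 185)) (.nd (.lf 574) (.lf 0)))) (.nd (.nd (.nd (.lf 33) (.lf 298)) (.nd (.lf 198) (.lf 0))) (.nd (.nd (.lf 275) (.lf 705)) (.nd (.lf 218) (.lf 0))))) (.nd (.nd (.nd (.nd (.lf 283) (.lf 384)) (.nd (.lf 402) (.lf 0))) (.nd (.nd (.lf 243) (.lf 484)) (.nd (.lf 382) (.lf 0)))) (.nd (.nd (.nd (.lf 663) (.lf 22)) (.nd (.lf 648) (.lf 0))) (.nd (.nd (.lf 11) (.lf 0)) (.nd (.lf 640) (.lf 0)))))) (.nd (.nd (.nd (.nd (.nd (.lf 546) (.lf 187)) (.nd (.lf 342) (.lf 0))) (.nd (.nd (.lf 471) (.lf 625)) (.nd (.lf 228) (.lf 0)))) (.nd (.nd (.nd (.lf 528) (.lf 593)) (.nd (.lf 316) (.lf 0))) (.nd (.nd (.lf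 93) (.lf 0)) (.nd (.lf 367) (.lf 0))))) (.nd (.nd (.nd (.nd (.lf 227) (.lf 361)) (.nd (.lf 609) (.lf 0))) (.nd (.nd (.lf 451) (.lf 90)) (.nd (.lf 508) (.lf 0)))) (.nd (.nd (.nd (.lf 411) (.lf 580)) (.nd (.lf 41) (.lf 0))) (.nd (.nd (.lf 572) (.lf 0)) (.nd (.lf 34) (.lf 0))))))

/-- table part -/
def srtT_2 : Tr :=
  .nd (.nd (.nd (.nd (.nd (.nd (.lf 666) (.lf 480)) (.nd (.lf 161) (.lf 0))) (.nd (.nd (.lf 99) (.lf 670)) (.nd (.lf 9) (.lf 0)))) (.nd (.nd (.nd (.lf 641) (.lf 466)) (.nd (.lf 562) (.lf 0))) (.nd (.nd (.lf 551) (.lf 391)) (.nd (.lf 456) (.lf 0))))) (.nd (.nd (.nd (.nd (.lf 317) (.lf 696)) (.nd (.lf 253) (.lf 0))) (.nd (.nd (.lf 716) (.lf 635)) (.nd (.lf 54) (.lf 0)))) (.nd (.nd (.nd (.lf 623) (.lf 70)) (.nd (.lf 61) (.lf 0))) (.nd (.nd (.lf 633) (.lf 0)) (.nd (.lf 157) (.lf 0)))))) (.nd (.nd (.nd (.nd (.nd (.lf 278) (.lf 257)) (.nd (.lf 405) (.lf 0))) (.nd (.nd (.lf 88) (.lf 505)) (.nd (.lf 390) (.lf 0)))) (.nd (.nd (.nd (.lf 240) (.lf 340)) (.nd (.lf 389)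 (.lf 0))) (.nd (.nd (.lf 326) (.lf 0)) (.nd (.lf 477) (.lf 0))))) (.nd (.nd (.nd (.nd (.lf 77) (.lf 216)) (.nd (.lf 425) (.lf 0))) (.nd (.nd (.lf 657) (.lf 397)) (.nd (.lf 359) (.lf 0)))) (.nd (.nd (.nd (.lf 210) (.lf 36)) (.nd (.lf 339) (.lf 0))) (.nd (.nd (.lf 605) (.lf 0)) (.nd (.lf 408) (.lf 0))))))

/-- table part -/
def srtT_3 : Tr :=
  .nd srtT_1 srtT_2

/-- table part -/
def srtT_4 : Tr :=
  .nd (.nd (.nd (.nd (.nd (.nd (.lf 500) (.lf 7)) (.nd (.lf 158) (.lf 0))) (.nd (.nd (.lf 582) (.lf 656)) (.nd (.lf 678) (.lf 0)))) (.nd (.nd (.nd (.lf 125) (.lf 711)) (.nd (.lf 52) (.lf 0))) (.nd (.nd (.lf 537) (.lf 479)) (.nd (.lf 651) (.lf 0))))) (.nd (.nd (.nd (.nd (.lf 524) (.lf 55)) (.nd (.lf 199) (.lf 0))) (.nd (.nd (.lf 237) (.lf 690)) (.nd (.lf 109) (.lf 0)))) (.nd (.nd (.nd (.lf 153) (.lf 624)) (.nd (.lf 4) (.lf 0))) (.nd (.nd (.lf 509) (.lf 0)) (.nd (.lf 352) (.lf 0)))))) (.nd (.nd (.nd (.nd (.nd (.lf 373) (.lf 386)) (.nd (.lf 643) (.lf 0))) (.nd (.nd (.lf 86)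 (.lf 453)) (.nd (.lf 591) (.lf 0)))) (.nd (.nd (.nd (.lf 357) (.lf 147)) (.nd (.lf 354) (.lf 0))) (.nd (.nd (.lf 446) (.lf 0)) (.nd (.lf 146) (.lf 0))))) (.nd (.nd (.nd (.nd (.lf 654) (.lf 554)) (.nd (.lf 403) (.lf 0))) (.nd (.nd (.lf 306) (.lf 108)) (.nd (.lf 46) (.lf 0)))) (.nd (.nd (.nd (.lf 570) (.lf 647)) (.nd (.lf 231) (.lf 0))) (.nd (.nd (.lf 10) (.lf 0)) (.nd (.lf 258) (.lf 0))))))

/-- table part -/
def srtT_5 : Tr :=
  .nd (.nd (.nd (.nd (.nd (.nd (.lf 178) (.lf 349)) (.nd (.lf 39) (.lf 0))) (.nd (.nd (.lf 560) (.lf 669)) (.nd (.lf 163) (.lf 0)))) (.nd (.nd (.nd (.lf 439) (.lf 380)) (.nd (.lf 522) (.lf 0))) (.nd (.nd (.lf 421) (.lf 96)) (.nd (.lf 689) (.lf 0))))) (.nd (.nd (.nd (.nd (.lf 220) (.lf 602)) (.nd (.lf 617) (.lf 0))) (.nd (.nd (.lf 370) (.lf 102)) (.nd (.lf 192) (.lf 0)))) (.nd (.nd (.nd (.lf 541) (.lf 267)) (.nd (.lf 169) (.lf 0))) (.nd (.nd (.lf 455) (.lf 0)) (.nd (.lf 523) (.lf 0)))))) (.nd (.nd (.nd (.nd (.nd (.lf 289) (.lf 72)) (.nd (.lf 205)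 (.lf 0))) (.nd (.nd (.lf 208) (.lf 449)) (.nd (.lf 215) (.lf 0)))) (.nd (.nd (.nd (.lf 687) (.lf 435)) (.nd (.lf 436) (.lf 0))) (.nd (.nd (.lf 549) (.lf 0)) (.nd (.lf 511) (.lf 0))))) (.nd (.nd (.nd (.nd (.lf 694) (.lf 501)) (.nd (.lf 653) (.lf 0))) (.nd (.nd (.lf 447) (.lf 619)) (.nd (.lf 100) (.lf 0)))) (.nd (.nd (.nd (.lf 483) (.lf 579)) (.nd (.lf 506) (.lf 0))) (.nd (.nd (.lf 585) (.lf 0)) (.nd (.lf 682) (.lf 0))))))

/-- table part -/
def srtT_6 : Tr :=
  .nd srtT_4 srtT_5

/-- table part -/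
def srtT_7 : Tr :=
  .nd srtT_3 srtT_6

/-- table part -/
def srtT_8 : Tr :=
  .nd (.nd (.nd (.nd (.nd (.nd (.lf 615) (.lf 74)) (.nd (.lf 569) (.lf 0))) (.nd (.nd (.lf 160) (.lf 482)) (.nd (.lf 679) (.lf 0)))) (.nd (.nd (.nd (.lf 69) (.lf 288)) (.nd (.lf 396) (.lf 0))) (.nd (.nd (.lf 365) (.lf 475)) (.nd (.lf 171) (.lf 0))))) (.nd (.nd (.nd (.nd (.lf 638) (.lf 44)) (.nd (.lf 434) (.lf 0))) (.nd (.nd (.lf 355) (.lf 487)) (.nd (.lf 659) (.lf 0)))) (.nd (.nd (.nd (.lf 122) (.lf 56)) (.nd (.lf 189) (.lf 0))) (.nd (.nd (.lf 98) (.lf 0)) (.nd (.lf 152) (.lf 0)))))) (.nd (.nd (.nd (.nd (.nd (.lf 584) (.lf 655)) (.nd (.lf 175) (.lf 0))) (.nd (.nd (.lf 600) (.lf 409)) (.nd (.lf 715) (.lf 0)))) (.nd (.nd (.nd (.lf 550) (.lf 695)) (.nd (.lf 323) (.lf 0))) (.nd (.nd (.lf 620) (.lf 0)) (.nd (.lf 2) (.lf 0))))) (.nd (.nd (.nd (.nd (.lf 32) (.lf 362)) (.nd (.lf 594) (.lf 0))) (.nd (.nd (.lf 40) (.lf 76)) (.nd (.lf 540) (.lf 0)))) (.nd (.nd (.nd (.lf 103) (.lf 465)) (.nd (.lf 603)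 (.lf 0))) (.nd (.nd (.lf 124) (.lf 0)) (.nd (.lf 371) (.lf 0))))))

/-- table part -/
def srtT_9 : Tr :=
  .nd (.nd (.nd (.nd (.nd (.nd (.lf 470) (.lf 165)) (.nd (.lf 172) (.lf 0))) (.nd (.nd (.lf 379) (.lf 604)) (.nd (.lf 414) (.lf 0)))) (.nd (.nd (.nd (.lf 346) (.lf 290)) (.nd (.lf 162) (.lf 0))) (.nd (.nd (.lf 271) (.lf 557)) (.nd (.lf 350) (.lf 0))))) (.nd (.nd (.nd (.nd (.lf 268) (.lf 314)) (.nd (.lf 301) (.lf 0))) (.nd (.nd (.lf 226) (.lf 182)) (.nd (.lf 51) (.lf 0)))) (.nd (.nd (.nd (.lf 8) (.lf 353)) (.nd (.lf 281) (.lf 0))) (.nd (.nd (.lf 664) (.lf 0)) (.nd (.lf 672) (.lf 0)))))) (.nd (.nd (.nd (.nd (.nd (.lf 707) (.lf 168)) (.nd (.lf 662) (.lf 0))) (.nd (.nd (.lf 513) (.lf 295)) (.nd (.lf 614) (.lf 0)))) (.nd (.nd (.nd (.lf 140) (.lf 565)) (.nd (.lf 681) (.lf 0))) (.nd (.nd (.lf 700) (.lf 0)) (.nd (.lf 234) (.lf 0))))) (.nd (.nd (.nd (.nd (.lf 330) (.lf 395)) (.nd (.lf 71) (.lf 0))) (.nd (.nd (.lf 399) (.lf 578)) (.nd (.lf 84) (.lf 0)))) (.nd (.nd (.nd (.lf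 512) (.lf 652)) (.nd (.lf 636) (.lf 0))) (.nd (.nd (.lf 225) (.lf 0)) (.nd (.lf 269) (.lf 0))))))

/-- table part -/
def srtT_10 : Tr :=
  .nd srtT_8 srtT_9

/-- table part -/
def srtT_11 : Tr :=
  .nd (.nd (.nd (.nd (.nd (.nd (.lf 374) (.lf 3)) (.nd (.lf 245) (.lf 0))) (.nd (.nd (.lf 254) (.lf 702)) (.nd (.lf 443) (.lf 0)))) (.nd (.nd (.nd (.lf 277) (.lf 612)) (.nd (.lf 621) (.lf 0))) (.nd (.nd (.lf 432) (.lf 219)) (.nd (.lf 26) (.lf 0))))) (.nd (.nd (.nd (.nd (.lf 445) (.lf 338)) (.nd (.lf 533) (.lf 0))) (.nd (.nd (.lf 89) (.lf 148)) (.nd (.lf 613) (.lf 0)))) (.nd (.nd (.nd (.lf 167) (.lf 428)) (.nd (.lf 327) (.lf 0))) (.nd (.nd (.lf 104) (.lf 0)) (.nd (.lf 312) (.lf 0)))))) (.nd (.nd (.nd (.nd (.nd (.lf 400) (.lf 294)) (.nd (.lf 665) (.lf 0))) (.nd (.nd (.lf 296) (.lf 246)) (.nd (.lf 697) (.lf 0)))) (.nd (.nd (.nd (.lf 299) (.lf 459)) (.nd (.lf 310) (.lf 0))) (.nd (.nd (.lf 304) (.lf 0)) (.nd (.lf 105) (.lf 0))))) (.nd (.nd (.nd (.nd (.lf 106) (.lf 23)) (.nd (.lf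 201) (.lf 0))) (.nd (.nd (.lf 515) (.lf 38)) (.nd (.lf 264) (.lf 0)))) (.nd (.nd (.nd (.lf 714) (.lf 577)) (.nd (.lf 406) (.lf 0))) (.nd (.nd (.lf 25) (.lf 0)) (.nd (.lf 282) (.lf 0))))))

/-- table part -/
def srtT_12 : Tr :=
  .nd (.nd (.nd (.nd (.nd (.nd (.lf 83) (.lf 329)) (.nd (.lf 671) (.lf 0))) (.nd (.nd (.lf 64) (.lf 332)) (.nd (.lf 366) (.lf 0)))) (.nd (.nd (.nd (.lf 504) (.lf 113)) (.nd (.lf 536) (.lf 0))) (.nd (.nd (.lf 398) (.lf 0)) (.nd (.lf 650) (.lf 0))))) (.nd (.nd (.nd (.nd (.lf 311) (.lf 706)) (.nd (.lf 197) (.lf 0))) (.nd (.nd (.lf 581) (.lf 375)) (.nd (.lf 251) (.lf 0)))) (.nd (.nd (.nd (.lf 645) (.lf 60)) (.nd (.lf 564) (.lf 0))) (.nd (.nd (.lf 81) (.lf 0)) (.nd (.lf 337) (.lf 0)))))) (.nd (.nd (.nd (.nd (.nd (.lf 587) (.lf 595)) (.nd (.lf 66) (.lf 0))) (.nd (.nd (.lf 426) (.lf 286)) (.nd (.lf 322) (.lf 0)))) (.nd (.nd (.nd (.lf 388) (.lf 177)) (.nd (.lf 155) (.lf 0))) (.nd (.nd (.lf 543) (.lf 0)) (.nd (.lf 553) (.lf 0))))) (.nd (.nd (.nd (.nd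 (.lf 272) (.lf 558)) (.nd (.lf 351) (.lf 0))) (.nd (.nd (.lf 149) (.lf 202)) (.nd (.lf 250) (.lf 0)))) (.nd (.nd (.nd (.lf 78) (.lf 260)) (.nd (.lf 360) (.lf 0))) (.nd (.nd (.lf 519) (.lf 0)) (.nd (.lf 287) (.lf 0))))))

/-- table part -/
def srtT_13 : Tr :=
  .nd srtT_11 srtT_12

/-- table part -/
def srtT_14 : Tr :=
  .nd srtT_10 srtT_13

/-- table part -/
def srtT_15 : Tr :=
  .nd srtT_7 srtT_14

/-- table part -/
def srtT_16 : Tr :=
  .nd (.nd (.nd (.nd (.nd (.nd (.lf 50) (.lf 685)) (.nd (.lf 249) (.lf 0))) (.nd (.nd (.lf 437) (.lf 544)) (.nd (.lf 473) (.lf 0)))) (.nd (.nd (.nd (.lf 469) (.lf 392)) (.nd (.lf 610) (.lf 0))) (.nd (.nd (.lf 135) (.lf 467)) (.nd (.lf 209) (.lf 0))))) (.nd (.nd (.nd (.nd (.lf 538) (.lf 190)) (.nd (.lf 67) (.lf 0))) (.nd (.nd (.lf 430) (.lf 176)) (.nd (.lf 476) (.lf 0)))) (.nd (.nd (.nd (.lf 490) (.lf 244)) (.nd (.lf 555) (.lf 0))) (.nd (.nd (.lf 18) (.lf 0)) (.nd (.lf 127) (.lf 0)))))) (.nd (.nd (.nd (.nd (.nd (.lf 341) (.lf 212)) (.nd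 (.lf 433) (.lf 0))) (.nd (.nd (.lf 704) (.lf 186)) (.nd (.lf 423) (.lf 0)))) (.nd (.nd (.nd (.lf 110) (.lf 393)) (.nd (.lf 101) (.lf 0))) (.nd (.nd (.lf 589) (.lf 0)) (.nd (.lf 305) (.lf 0))))) (.nd (.nd (.nd (.nd (.lf 674) (.lf 111)) (.nd (.lf 463) (.lf 0))) (.nd (.nd (.lf 347) (.lf 315)) (.nd (.lf 495) (.lf 0)))) (.nd (.nd (.nd (.lf 658) (.lf 683)) (.nd (.lf 516) (.lf 0))) (.nd (.nd (.lf 629) (.lf 0)) (.nd (.lf 117) (.lf 0))))))

/-- table part -/
def srtT_17 : Tr :=
  .nd (.nd (.nd (.nd (.nd (.nd (.lf 363) (.lf 454)) (.nd (.lf 642) (.lf 0))) (.nd (.nd (.lf 377) (.lf 676)) (.nd (.lf 416) (.lf 0)))) (.nd (.nd (.nd (.lf 123) (.lf 1)) (.nd (.lf 63) (.lf 0))) (.nd (.nd (.lf 404) (.lf 255)) (.nd (.lf 457) (.lf 0))))) (.nd (.nd (.nd (.nd (.lf 611) (.lf 325)) (.nd (.lf 381) (.lf 0))) (.nd (.nd (.lf 518) (.lf 599)) (.nd (.lf 644) (.lf 0)))) (.nd (.nd (.nd (.lf 586) (.lf 156)) (.nd (.lf 368) (.lf 0))) (.nd (.nd (.lf 292) (.lf 0)) (.nd (.lf 616) (.lf 0)))))) (.nd (.nd (.nd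 (.nd (.nd (.lf 588) (.lf 97)) (.nd (.lf 485) (.lf 0))) (.nd (.nd (.lf 440) (.lf 608)) (.nd (.lf 14) (.lf 0)))) (.nd (.nd (.nd (.lf 291) (.lf 233)) (.nd (.lf 159) (.lf 0))) (.nd (.nd (.lf 324) (.lf 0)) (.nd (.lf 31) (.lf 0))))) (.nd (.nd (.nd (.nd (.lf 675) (.lf 606)) (.nd (.lf 369) (.lf 0))) (.nd (.nd (.lf 571) (.lf 718)) (.nd (.lf 191) (.lf 0)))) (.nd (.nd (.nd (.lf 206) (.lf 545)) (.nd (.lf 527) (.lf 0))) (.nd (.nd (.lf 284) (.lf 0)) (.nd (.lf 420) (.lf 0))))))

/-- table part -/
def srtT_18 : Tr :=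
  .nd srtT_16 srtT_17

/-- table part -/
def srtT_19 : Tr :=
  .nd (.nd (.nd (.nd (.nd (.nd (.lf 118) (.lf 552)) (.nd (.lf 438) (.lf 0))) (.nd (.nd (.lf 412) (.lf 699)) (.nd (.lf 358) (.lf 0)))) (.nd (.nd (.nd (.lf 568) (.lf 53)) (.nd (.lf 626) (.lf 0))) (.nd (.nd (.lf 510) (.lf 43)) (.nd (.lf 87) (.lf 0))))) (.nd (.nd (.nd (.nd (.lf 204) (.lf 128)) (.nd (.lf 309) (.lf 0))) (.nd (.nd (.lf 59) (.lf 313)) (.nd (.lf 276) (.lf 0)))) (.nd (.nd (.nd (.lf 82) (.lf 174)) (.nd (.lf 180) (.lf 0))) (.nd (.nd (.lf 601) (.lf 0)) (.nd (.lf 618) (.lf 0)))))) (.nd (.nd (.nd (.nd (.nd (.lf 378) (.lf 79)) (.nd (.lf 488) (.lf 0))) (.nd (.nd (.lf 590) (.lf 116)) (.nd (.lf 634) (.lf 0)))) (.nd (.nd (.nd (.lf 285) (.lf 259)) (.nd (.lf 364) (.lf 0))) (.nd (.nd (.lf 660) (.lf 0)) (.nd (.lf 232) (.lf 0))))) (.nd (.nd (.nd (.nd (.lf 668) (.lf 703)) (.nd (.lf 307) (.lf 0))) (.nd (.nd (.lf 121) (.lf 429)) (.nd (.lf 126) (.lf 0)))) (.nd (.nd (.nd (.lf 344) (.lf 450)) (.nd (.lf 273) (.lf 0))) (.nd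 (.nd (.lf 137) (.lf 0)) (.nd (.lf 410) (.lf 0))))))

/-- table part -/
def srtT_20 : Tr :=
  .nd (.nd (.nd (.nd (.nd (.nd (.lf 20) (.lf 639)) (.nd (.lf 692) (.lf 0))) (.nd (.nd (.lf 556) (.lf 415)) (.nd (.lf 680) (.lf 0)))) (.nd (.nd (.nd (.lf 520) (.lf 372)) (.nd (.lf 334) (.lf 0))) (.nd (.nd (.lf 712) (.lf 573)) (.nd (.lf 684) (.lf 0))))) (.nd (.nd (.nd (.nd (.lf 196) (.lf 279)) (.nd (.lf 494) (.lf 0))) (.nd (.nd (.lf 542) (.lf 164)) (.nd (.lf 535) (.lf 0)))) (.nd (.nd (.nd (.lf 145) (.lf 693)) (.nd (.lf 68) (.lf 0))) (.nd (.nd (.lf 35) (.lf 0)) (.nd (.lf 211) (.lf 0)))))) (.nd (.nd (.nd (.nd (.nd (.lf 631) (.lf 385)) (.nd (.lf 188) (.lf 0))) (.nd (.nd (.lf 143) (.lf 235)) (.nd (.lf 184) (.lf 0)))) (.nd (.nd (.nd (.lf 481) (.lf 452)) (.nd (.lf 166) (.lf 0))) (.nd (.nd (.lf 376) (.lf 0)) (.nd (.lf 583) (.lf 0))))) (.nd (.nd (.nd (.nd (.lf 274) (.lf 486)) (.nd (.lf 547) (.lf 0))) (.nd (.nd (.lf 12) (.lf 686)) (.nd (.lf 448) (.lf 0)))) (.nd (.nd (.nd (.lf 442) (.lf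 222)) (.nd (.lf 154) (.lf 0))) (.nd (.nd (.lf 637) (.lf 0)) (.nd (.lf 170) (.lf 0))))))

/-- table part -/
def srtT_21 : Tr :=
  .nd srtT_19 srtT_20

/-- table part -/
def srtT_22 : Tr :=
  .nd srtT_18 srtT_21

/-- table part -/
def srtT_23 : Tr :=
  .nd (.nd (.nd (.nd (.nd (.nd (.lf 514) (.lf 134)) (.nd (.lf 223) (.lf 0))) (.nd (.nd (.lf 241) (.lf 413)) (.nd (.lf 151) (.lf 0)))) (.nd (.nd (.nd (.lf 503) (.lf 139)) (.nd (.lf 238) (.lf 0))) (.nd (.nd (.lf 498) (.lf 320)) (.nd (.lf 138) (.lf 0))))) (.nd (.nd (.nd (.nd (.lf 566) (.lf 478)) (.nd (.lf 265) (.lf 0))) (.nd (.nd (.lf 321) (.lf 345)) (.nd (.lf 328) (.lf 0)))) (.nd (.nd (.nd (.lf 497) (.lf 57)) (.nd (.lf 107) (.lf 0))) (.nd (.nd (.lf 30) (.lf 0)) (.nd (.lf 649) (.lf 0)))))) (.nd (.nd (.nd (.nd (.nd (.lf 563) (.lf 530)) (.nd (.lf 42) (.lf 0))) (.nd (.nd (.lf 49) (.lf 419)) (.nd (.lf 29) (.lf 0)))) (.nd (.nd (.nd (.lf 200) (.lf 48)) (.nd (.lf 91) (.lf 0))) (.nd (.nd (.lf 688) (.lf 0)) (.nd (.lf 441) (.lf 0)))))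 (.nd (.nd (.nd (.nd (.lf 248) (.lf 496)) (.nd (.lf 263) (.lf 0))) (.nd (.nd (.lf 266) (.lf 229)) (.nd (.lf 303) (.lf 0)))) (.nd (.nd (.nd (.lf 173) (.lf 677)) (.nd (.lf 15) (.lf 0))) (.nd (.nd (.lf 691) (.lf 0)) (.nd (.lf 597) (.lf 0))))))

/-- table part -/
def srtT_24 : Tr :=
  .nd (.nd (.nd (.nd (.nd (.nd (.lf 407) (.lf 710)) (.nd (.lf 16) (.lf 0))) (.nd (.nd (.lf 559) (.lf 65)) (.nd (.lf 394) (.lf 0)))) (.nd (.nd (.nd (.lf 525) (.lf 94)) (.nd (.lf 387) (.lf 0))) (.nd (.nd (.lf 58) (.lf 532)) (.nd (.lf 717) (.lf 0))))) (.nd (.nd (.nd (.nd (.lf 401) (.lf 709)) (.nd (.lf 261) (.lf 0))) (.nd (.nd (.lf 444) (.lf 141)) (.nd (.lf 95) (.lf 0)))) (.nd (.nd (.nd (.lf 318) (.lf 627)) (.nd (.lf 297) (.lf 0))) (.nd (.nd (.lf 534) (.lf 0)) (.nd (.lf 667) (.lf 0)))))) (.nd (.nd (.nd (.nd (.nd (.lf 539) (.lf 181)) (.nd (.lf 193) (.lf 0))) (.nd (.nd (.lf 661) (.lf 214)) (.nd (.lf 592) (.lf 0)))) (.nd (.nd (.nd (.lf 92) (.lf 144)) (.nd (.lf 80) (.lf 0))) (.nd (.nd (.lf 383) (.lf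 0)) (.nd (.lf 142) (.lf 0))))) (.nd (.nd (.nd (.nd (.lf 133) (.lf 129)) (.nd (.lf 217) (.lf 0))) (.nd (.nd (.lf 468) (.lf 19)) (.nd (.lf 207) (.lf 0)))) (.nd (.nd (.nd (.lf 150) (.lf 607)) (.nd (.lf 418) (.lf 0))) (.nd (.nd (.lf 719) (.lf 0)) (.nd (.lf 183) (.lf 0))))))

/-- table part -/
def srtT_25 : Tr :=
  .nd srtT_23 srtT_24

/-- table part -/
def srtT_26 : Tr :=
  .nd (.nd (.nd (.nd (.nd (.nd (.lf 417) (.lf 521)) (.nd (.lf 120) (.lf 0))) (.nd (.nd (.lf 114) (.lf 213)) (.nd (.lf 531) (.lf 0)))) (.nd (.nd (.nd (.lf 713) (.lf 598)) (.nd (.lf 73) (.lf 0))) (.nd (.nd (.lf 464) (.lf 502)) (.nd (.lf 701) (.lf 0))))) (.nd (.nd (.nd (.nd (.lf 336) (.lf 75)) (.nd (.lf 431) (.lf 0))) (.nd (.nd (.lf 492) (.lf 526)) (.nd (.lf 458) (.lf 0)))) (.nd (.nd (.nd (.lf 491) (.lf 242)) (.nd (.lf 333) (.lf 0))) (.nd (.nd (.lf 293) (.lf 0)) (.nd (.lf 427) (.lf 0)))))) (.nd (.nd (.nd (.nd (.nd (.lf 252) (.lf 356)) (.nd (.lf 517) (.lf 0))) (.nd (.nd (.lf 499) (.lf 224)) (.nd (.lf 132)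 (.lf 0)))) (.nd (.nd (.nd (.lf 335) (.lf 596)) (.nd (.lf 462) (.lf 0))) (.nd (.nd (.lf 576) (.lf 0)) (.nd (.lf 112) (.lf 0))))) (.nd (.nd (.nd (.nd (.lf 45) (.lf 27)) (.nd (.lf 62) (.lf 0))) (.nd (.nd (.lf 708) (.lf 280)) (.nd (.lf 331) (.lf 0)))) (.nd (.nd (.nd (.lf 194) (.lf 24)) (.nd (.lf 247) (.lf 0))) (.nd (.nd (.lf 472) (.lf 0)) (.nd (.lf 422) (.lf 0))))))

/-- table part -/
def srtT_27 : Tr :=
  .nd (.nd (.nd (.nd (.nd (.nd (.lf 460) (.lf 343)) (.nd (.lf 628) (.lf 0))) (.nd (.nd (.lf 646) (.lf 115)) (.nd (.lf 6) (.lf 0)))) (.nd (.nd (.nd (.lf 5) (.lf 13)) (.nd (.lf 256) (.lf 0))) (.nd (.nd (.lf 489) (.lf 622)) (.nd (.lf 348) (.lf 0))))) (.nd (.nd (.nd (.nd (.lf 131) (.lf 119)) (.nd (.lf 230) (.lf 0))) (.nd (.nd (.lf 130) (.lf 85)) (.nd (.lf 575) (.lf 0)))) (.nd (.nd (.nd (.lf 529) (.lf 195)) (.nd (.lf 302) (.lf 0))) (.nd (.nd (.lf 28) (.lf 0)) (.nd (.lf 698) (.lf 0)))))) (.nd (.nd (.nd (.nd (.nd (.lf 461) (.lf 567)) (.nd (.lf 300) (.lf 0))) (.nd (.nd (.lf 17)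 (.lf 507)) (.nd (.lf 319) (.lf 0)))) (.nd (.nd (.nd (.lf 21) (.lf 673)) (.nd (.lf 203) (.lf 0))) (.nd (.nd (.lf 239) (.lf 0)) (.nd (.lf 561) (.lf 0))))) (.nd (.nd (.nd (.nd (.lf 632) (.lf 424)) (.nd (.lf 262) (.lf 0))) (.nd (.nd (.lf 270) (.lf 136)) (.nd (.lf 179) (.lf 0)))) (.nd (.nd (.nd (.lf 37) (.lf 493)) (.nd (.lf 47) (.lf 0))) (.nd (.nd (.lf 548) (.lf 0)) (.nd (.lf 236) (.lf 0))))))

/-- table part -/
def srtT_28 : Tr :=
  .nd srtT_26 srtT_27

/-- table part -/
def srtT_29 : Tr :=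
  .nd srtT_25 srtT_28

/-- table part -/
def srtT_30 : Tr :=
  .nd srtT_22 srtT_29

/-- table part -/
def srtT_31 : Tr :=
  .nd srtT_15 srtT_30

/-- table -/
def srtT : Tr :=
  srtT_31

end Cfsg.Agent.SplitVoltageM11Orbit
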