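import Cfsg.Agent.Lib.SplitVoltageCert

/-!
Orbit keys for M23.
-/

set_option autoImplicit false
set_option maxRecDepth 100000

namespace Cfsg.Agent.SplitVoltageM23Orbit

open Cfsg.Agent.SplitVoltageCert

/-- generators -/
def gensP : List ℕ := [956302485175575353788796878166559809, 983435072843990828779021698901151808, 965300289861748889990672440075108384]

/-- inverse generators -/
def gensQ : List ℕ := [983478296959358443554250846857397270, 970567384681219435340729552166356352, 970459361523271695787015306425278496]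

/-- orders -/
def ords : List ℕ := [23, 11, 5]

/-- table part -/
def keyT_1 : Tr :=
  .nd (.nd (.nd (.nd (.nd (.nd (.lf 16436384) (.lf 14330901)) (.nd (.lf 14173367) (.lf 0))) (.nd (.nd (.lf 8598654) (.lf 13791349)) (.nd (.lf 13945670) (.lf 0)))) (.nd (.nd (.nd (.lf 9841067) (.lf 14997253)) (.nd (.lf 14672904) (.lf 0))) (.nd (.nd (.lf 15758756) (.lf 0)) (.nd (.lf 13747640) (.lf 0))))) (.nd (.nd (.nd (.nd (.lf 8645572) (.lf 14394118)) (.nd (.lf 15233482) (.lf 0))) (.nd (.nd (.lf 15238990) (.lf 0)) (.nd (.lf 13863394) (.lf 0)))) (.nd (.nd (.nd (.lf 9035526) (.lf 11052095)) (.nd (.lf 16259491) (.lf 0))) (.nd (.nd (.lf 13788394) (.lf 0)) (.nd (.lf 14781319) (.lf 0)))))) (.nd (.nd (.nd (.nd (.nd (.lf 11699158) (.lf 11248021)) (.nd (.lf 14433816) (.lf 0))) (.nd (.nd (.lf 16534066) (.lf 0)) (.nd (.lf 10564015) (.lf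 0)))) (.nd (.nd (.nd (.lf 10226166) (.lf 9352348)) (.nd (.lf 10005731) (.lf 0))) (.nd (.nd (.lf 12940166) (.lf 0)) (.nd (.lf 15625729) (.lf 0))))) (.nd (.nd (.nd (.nd (.lf 15171795) (.lf 16156788)) (.nd (.lf 9285942) (.lf 0))) (.nd (.nd (.lf 14879992) (.lf 0)) (.nd (.lf 9626467) (.lf 0)))) (.nd (.nd (.nd (.lf 10445697) (.lf 10594550)) (.nd (.lf 14251525) (.lf 0))) (.nd (.nd (.lf 11105430) (.lf 0)) (.nd (.lf 10759118) (.lf 0))))))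

/-- table part -/
def keyT_2 : Tr :=
  .nd (.nd (.nd (.nd (.nd (.nd (.lf 10385421) (.lf 11881652)) (.nd (.lf 8752973) (.lf 0))) (.nd (.nd (.lf 11119404) (.lf 0)) (.nd (.lf 10501820) (.lf 0)))) (.nd (.nd (.nd (.lf 14117396) (.lf 9066346)) (.nd (.lf 10637127) (.lf 0))) (.nd (.nd (.lf 13988914) (.lf 0)) (.nd (.lf 13180524) (.lf 0))))) (.nd (.nd (.nd (.nd (.lf 15009708) (.lf 9694320)) (.nd (.lf 13348909) (.lf 0))) (.nd (.nd (.lf 11317581) (.lf 0)) (.nd (.lf 16303641) (.lf 0)))) (.nd (.nd (.nd (.lf 9596581) (.lf 16029266)) (.nd (.lf 13160133) (.lf 0))) (.nd (.nd (.lf 15223915) (.lf 0)) (.nd (.lf 16163146) (.lf 0)))))) (.nd (.nd (.nd (.nd (.nd (.lf 8854701) (.lf 12903884)) (.nd (.lf 8840506) (.lf 0))) (.nd (.nd (.lf 14619276) (.lf 0)) (.nd (.lf 9223717) (.lf 0)))) (.nd (.nd (.nd (.lf 16066854) (.lf 10949573)) (.nd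 (.lf 13001395) (.lf 0))) (.nd (.nd (.lf 15669840) (.lf 0)) (.nd (.lf 14423846) (.lf 0))))) (.nd (.nd (.nd (.nd (.lf 13084293) (.lf 14218448)) (.nd (.lf 14091721) (.lf 0))) (.nd (.nd (.lf 15514370) (.lf 0)) (.nd (.lf 13776534) (.lf 0)))) (.nd (.nd (.nd (.lf 8510684) (.lf 10429794)) (.nd (.lf 15696649) (.lf 0))) (.nd (.nd (.lf 13909442) (.lf 0)) (.nd (.lf 15860831) (.lf 0))))))

/-- table part -/
def keyT_3 : Tr :=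
  .nd keyT_1 keyT_2

/-- table part -/
def keyT_4 : Tr :=
  .nd (.nd (.nd (.nd (.nd (.nd (.lf 10961337) (.lf 16364104)) (.nd (.lf 13563952) (.lf 0))) (.nd (.nd (.lf 14955806) (.lf 0)) (.nd (.lf 11311219) (.lf 0)))) (.nd (.nd (.nd (.lf 9250927) (.lf 10643065)) (.nd (.lf 11960891) (.lf 0))) (.nd (.nd (.lf 13611456) (.lf 0)) (.nd (.lf 10011454) (.lf 0))))) (.nd (.nd (.nd (.nd (.lf 11025766) (.lf 9258930)) (.nd (.lf 14902053) (.lf 0))) (.nd (.nd (.lf 11457577) (.lf 0)) (.nd (.lf 8881652) (.lf 0)))) (.nd (.nd (.nd (.lf 11314642) (.lf 13710140)) (.nd (.lf 13147321) (.lf 0))) (.nd (.nd (.lf 16136211) (.lf 0)) (.nd (.lf 10734994) (.lf 0)))))) (.nd (.nd (.nd (.nd (.nd (.lf 16375860) (.lf 10201417)) (.nd (.lf 11890965) (.lf 0))) (.nd (.nd (.lf 10108675) (.lf 0)) (.nd (.lf 9041464) (.lf 0)))) (.nd (.nd (.nd (.lf 11361349)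 (.lf 13581318)) (.nd (.lf 10103708) (.lf 0))) (.nd (.nd (.lf 13850200) (.lf 0)) (.nd (.lf 14457568) (.lf 0))))) (.nd (.nd (.nd (.nd (.lf 9085422) (.lf 11391363)) (.nd (.lf 15268876) (.lf 0))) (.nd (.nd (.lf 11909680) (.lf 0)) (.nd (.lf 15636613) (.lf 0)))) (.nd (.nd (.nd (.lf 12243568) (.lf 8712067)) (.nd (.lf 12105492) (.lf 0))) (.nd (.nd (.lf 9083983) (.lf 0)) (.nd (.lf 8670075) (.lf 0))))))

/-- table part -/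
def keyT_5 : Tr :=
  .nd (.nd (.nd (.nd (.nd (.nd (.lf 10453402) (.lf 13099110)) (.nd (.lf 15325729) (.lf 0))) (.nd (.nd (.lf 15063062) (.lf 0)) (.nd (.lf 9200031) (.lf 0)))) (.nd (.nd (.nd (.lf 13925153) (.lf 13111679)) (.nd (.lf 11341369) (.lf 0))) (.nd (.nd (.lf 9647050) (.lf 0)) (.nd (.lf 12110934) (.lf 0))))) (.nd (.nd (.nd (.nd (.lf 15024463) (.lf 10867289)) (.nd (.lf 13972177) (.lf 0))) (.nd (.nd (.lf 11073091) (.lf 0)) (.nd (.lf 13201841) (.lf 0)))) (.nd (.nd (.nd (.lf 14838838) (.lf 15130653)) (.nd (.lf 9875698) (.lf 0))) (.nd (.nd (.lf 14930754) (.lf 0)) (.nd (.lf 12615032) (.lf 0)))))) (.nd (.nd (.nd (.nd (.nd (.lf 15311203) (.lf 11690445)) (.nd (.lf 9238726) (.lf 0))) (.nd (.nd (.lf 14369053) (.lf 0)) (.nd (.lf 12975680) (.lf 0)))) (.nd (.nd (.nd (.lf 12322462) (.lf 9502021)) (.nd (.lf 9400490) (.lf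 0))) (.nd (.nd (.lf 10150073) (.lf 0)) (.nd (.lf 9905848) (.lf 0))))) (.nd (.nd (.nd (.nd (.lf 15687954) (.lf 13576345)) (.nd (.lf 10816995) (.lf 0))) (.nd (.nd (.lf 12158374) (.lf 0)) (.nd (.lf 9246158) (.lf 0)))) (.nd (.nd (.nd (.lf 11837884) (.lf 16041006)) (.nd (.lf 12272698) (.lf 0))) (.nd (.nd (.lf 14294130) (.lf 0)) (.nd (.lf 12464518) (.lf 0))))))

/-- table part -/
def keyT_6 : Tr :=
  .nd keyT_4 keyT_5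

/-- table part -/
def keyT_7 : Tr :=
  .nd keyT_3 keyT_6

/-- table part -/
def keyT_8 : Tr :=
  .nd (.nd (.nd (.nd (.nd (.nd (.lf 14050567) (.lf 16521294)) (.nd (.lf 15876796) (.lf 0))) (.nd (.nd (.lf 9667501) (.lf 12876949)) (.nd (.lf 11246644) (.lf 0)))) (.nd (.nd (.nd (.lf 13649773) (.lf 13904221)) (.nd (.lf 13248103) (.lf 0))) (.nd (.nd (.lf 12682479) (.lf 0)) (.nd (.lf 12196181) (.lf 0))))) (.nd (.nd (.nd (.nd (.lf 13525353) (.lf 9908775)) (.nd (.lf 11126001) (.lf 0))) (.nd (.nd (.lf 15480516) (.lf 0)) (.nd (.lf 13087258) (.lf 0)))) (.nd (.nd (.nd (.lf 9995741) (.lf 11596333)) (.nd (.lf 14760928) (.lf 0))) (.nd (.nd (.lf 10723919) (.lf 0)) (.nd (.lf 12960737) (.lf 0)))))) (.nd (.nd (.nd (.nd (.nd (.lf 15900839) (.lf 13765431)) (.nd (.lf 10856731) (.lf 0))) (.nd (.nd (.lf 15489305) (.lf 0)) (.nd (.lf 15905848)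 (.lf 0)))) (.nd (.nd (.nd (.lf 8956759) (.lf 14767165)) (.nd (.lf 9787203) (.lf 0))) (.nd (.nd (.lf 12822376) (.lf 0)) (.nd (.lf 14724522) (.lf 0))))) (.nd (.nd (.nd (.nd (.lf 12436136) (.lf 11062242)) (.nd (.lf 10576851) (.lf 0))) (.nd (.nd (.lf 9090417) (.lf 0)) (.nd (.lf 12275877) (.lf 0)))) (.nd (.nd (.nd (.lf 10341824) (.lf 14827082)) (.nd (.lf 9014650) (.lf 0))) (.nd (.nd (.lf 13694730) (.lf 0)) (.nd (.lf 9271827) (.lf 0))))))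

/-- table part -/
def keyT_9 : Tr :=
  .nd (.nd (.nd (.nd (.nd (.nd (.lf 9984615) (.lf 9824036)) (.nd (.lf 13740645) (.lf 0))) (.nd (.nd (.lf 15377609) (.lf 0)) (.nd (.lf 11350936) (.lf 0)))) (.nd (.nd (.nd (.lf 13299010) (.lf 9362241)) (.nd (.lf 14460737) (.lf 0))) (.nd (.nd (.lf 13670615) (.lf 0)) (.nd (.lf 9758775) (.lf 0))))) (.nd (.nd (.nd (.nd (.lf 13386478) (.lf 16687760)) (.nd (.lf 9899910) (.lf 0))) (.nd (.nd (.lf 16458152) (.lf 0)) (.nd (.lf 13314420) (.lf 0)))) (.nd (.nd (.nd (.lf 14847533) (.lf 15118945)) (.nd (.lf 14084289) (.lf 0))) (.nd (.nd (.lf 12917851) (.lf 0)) (.nd (.lf 9599546) (.lf 0)))))) (.nd (.nd (.nd (.nd (.nd (.lf 9893393) (.lf 9718991)) (.nd (.lf 13134397) (.lf 0))) (.nd (.nd (.lf 12790446) (.lf 0)) (.nd (.lf 11934562) (.lf 0)))) (.nd (.nd (.nd (.lf 15994635) (.lf 11593394)) (.nd (.lf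 16139089) (.lf 0))) (.nd (.nd (.lf 10316088) (.lf 0)) (.nd (.lf 12819145) (.lf 0))))) (.nd (.nd (.nd (.nd (.lf 9320794) (.lf 16540428)) (.nd (.lf 15608034) (.lf 0))) (.nd (.nd (.lf 10278476) (.lf 0)) (.nd (.lf 9858888) (.lf 0)))) (.nd (.nd (.nd (.lf 15500963) (.lf 13832379)) (.nd (.lf 11483425) (.lf 0))) (.nd (.nd (.lf 16201472) (.lf 0)) (.nd (.lf 13750567) (.lf 0))))))

/-- table part -/
def keyT_10 : Tr :=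
  .nd keyT_8 keyT_9

/-- table part -/
def keyT_11 : Tr :=
  .nd (.nd (.nd (.nd (.nd (.nd (.lf 14259230) (.lf 13139618)) (.nd (.lf 13652978) (.lf 0))) (.nd (.nd (.lf 12857065) (.lf 0)) (.nd (.lf 12692945) (.lf 0)))) (.nd (.nd (.nd (.lf 11114125) (.lf 9799929)) (.nd (.lf 10053845) (.lf 0))) (.nd (.nd (.lf 13571384) (.lf 0)) (.nd (.lf 14418873) (.lf 0))))) (.nd (.nd (.nd (.nd (.lf 11218003) (.lf 9658806)) (.nd (.lf 10267918) (.lf 0))) (.nd (.nd (.lf 15029712) (.lf 0)) (.nd (.lf 16306822) (.lf 0)))) (.nd (.nd (.nd (.lf 10032023) (.lf 10231145)) (.nd (.lf 13770664) (.lf 0))) (.nd (.nd (.lf 10804554) (.lf 0)) (.nd (.lf 11362788) (.lf 0)))))) (.nd (.nd (.nd (.nd (.nd (.lf 15578129) (.lf 13069728)) (.nd (.lf 9573863) (.lf 0))) (.nd (.nd (.lf 11998321) (.lf 0)) (.nd (.lf 11388188) (.lf 0)))) (.nd (.nd (.nd (.lf 14729847)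 (.lf 11628792)) (.nd (.lf 14079328) (.lf 0))) (.nd (.nd (.lf 13391473) (.lf 0)) (.nd (.lf 10304324) (.lf 0))))) (.nd (.nd (.nd (.nd (.lf 14300492) (.lf 11085546)) (.nd (.lf 12979566) (.lf 0))) (.nd (.nd (.lf 12063724) (.lf 0)) (.nd (.lf 14992282) (.lf 0)))) (.nd (.nd (.nd (.lf 16336076) (.lf 13707171)) (.nd (.lf 15176780) (.lf 0))) (.nd (.nd (.lf 9225575) (.lf 0)) (.nd (.lf 11899662) (.lf 0))))))

/-- table part -/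
def keyT_12 : Tr :=
  .nd (.nd (.nd (.nd (.nd (.nd (.lf 13242201) (.lf 12337277)) (.nd (.lf 13169508) (.lf 0))) (.nd (.nd (.lf 15329152) (.lf 0)) (.nd (.lf 15804619) (.lf 0)))) (.nd (.nd (.nd (.lf 8902536) (.lf 11649183)) (.nd (.lf 12003792) (.lf 0))) (.nd (.nd (.lf 16256316) (.lf 0)) (.nd (.lf 15263891) (.lf 0))))) (.nd (.nd (.nd (.nd (.lf 11625575) (.lf 11678641)) (.nd (.lf 11000032) (.lf 0))) (.nd (.nd (.lf 11574768) (.lf 0)) (.nd (.lf 8727477) (.lf 0)))) (.nd (.nd (.nd (.lf 11041669) (.lf 11330353)) (.nd (.lf 9869772) (.lf 0))) (.nd (.nd (.lf 12900461) (.lf 0)) (.nd (.lf 10330653) (.lf 0)))))) (.nd (.nd (.nd (.nd (.nd (.lf 15469413) (.lf 14489653)) (.nd (.lf 16020553) (.lf 0))) (.nd (.nd (.lf 10902069) (.lf 0)) (.nd (.lf 9485222) (.lf 0)))) (.nd (.nd (.nd (.lf 9640692) (.lf 10864326)) (.nd (.lf 10886358) (.lf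 0))) (.nd (.nd (.lf 11946270) (.lf 0)) (.nd (.lf 9117338) (.lf 0))))) (.nd (.nd (.nd (.nd (.lf 13245382) (.lf 12454951)) (.nd (.lf 10938962) (.lf 0))) (.nd (.nd (.lf 14201395) (.lf 0)) (.nd (.lf 10177362) (.lf 0)))) (.nd (.nd (.nd (.lf 9734122) (.lf 14107434)) (.nd (.lf 15340718) (.lf 0))) (.nd (.nd (.lf 9764008) (.lf 0)) (.nd (.lf 12208937) (.lf 0))))))

/-- table part -/
def keyT_13 : Tr :=
  .nd keyT_11 keyT_12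

/-- table part -/
def keyT_14 : Tr :=
  .nd keyT_10 keyT_13

/-- table part -/
def keyT_15 : Tr :=
  .nd keyT_7 keyT_14

/-- table part -/
def keyT_16 : Tr :=
  .nd (.nd (.nd (.nd (.nd (.nd (.lf 15413891) (.lf 10129252)) (.nd (.lf 10709354) (.lf 0))) (.nd (.nd (.lf 12677739) (.lf 15633434)) (.nd (.lf 15271323) (.lf 0)))) (.nd (.nd (.nd (.lf 13047522) (.lf 14582982)) (.nd (.lf 8803677) (.lf 0))) (.nd (.nd (.lf 10394134) (.lf 0)) (.nd (.lf 13504180) (.lf 0))))) (.nd (.nd (.nd (.nd (.lf 8517090) (.lf 15124771)) (.nd (.lf 14131505) (.lf 0))) (.nd (.nd (.lf 10190967) (.lf 0)) (.nd (.lf 14562465) (.lf 0)))) (.nd (.nd (.nd (.lf 11602874) (.lf 9677459)) (.nd (.lf 16611456) (.lf 0))) (.nd (.nd (.lf 11871081) (.lf 0)) (.nd (.lf 14320939) (.lf 0)))))) (.nd (.nd (.nd (.nd (.nd (.lf 10043883) (.lf 13153671)) (.nd (.lf 15809620)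 (.lf 0))) (.nd (.nd (.lf 10082482) (.lf 0)) (.nd (.lf 10196200) (.lf 0)))) (.nd (.nd (.nd (.lf 9524910) (.lf 8744278)) (.nd (.lf 13899004) (.lf 0))) (.nd (.nd (.lf 10892776) (.lf 0)) (.nd (.lf 11003201) (.lf 0))))) (.nd (.nd (.nd (.nd (.lf 15974505) (.lf 12777991)) (.nd (.lf 12765094) (.lf 0))) (.nd (.nd (.lf 9558888) (.lf 0)) (.nd (.lf 12144259) (.lf 0)))) (.nd (.nd (.nd (.lf 10016673) (.lf 8566443)) (.nd (.lf 11308268) (.lf 0))) (.nd (.nd (.lf 10612245) (.lf 0)) (.nd (.lf 10293882) (.lf 0))))))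

/-- table part -/
def keyT_17 : Tr :=
  .nd (.nd (.nd (.nd (.nd (.nd (.lf 12815958) (.lf 10183276)) (.nd (.lf 14224711) (.lf 0))) (.nd (.nd (.lf 8732458) (.lf 0)) (.nd (.lf 10605492) (.lf 0)))) (.nd (.nd (.nd (.lf 10048884) (.lf 10155046)) (.nd (.lf 12885646) (.lf 0))) (.nd (.nd (.lf 15212055) (.lf 0)) (.nd (.lf 13207349) (.lf 0))))) (.nd (.nd (.nd (.nd (.lf 9684302) (.lf 15304797)) (.nd (.lf 12995469) (.lf 0))) (.nd (.nd (.lf 9820805) (.lf 0)) (.nd (.lf 15189552) (.lf 0)))) (.nd (.nd (.nd (.lf 8756178) (.lf 12060531)) (.nd (.lf 9725425) (.lf 0))) (.nd (.nd (.lf 12739422) (.lf 0)) (.nd (.lf 14842025) (.lf 0)))))) (.nd (.nd (.nd (.nd (.nd (.lf 12668874) (.lf 9106322)) (.nd (.lf 8614557) (.lf 0))) (.nd (.nd (.lf 11253002) (.lf 0)) (.nd (.lf 13810512) (.lf 0)))) (.nd (.nd (.nd (.lf 10926126) (.lf 9374696)) (.nd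 (.lf 14889305) (.lf 0))) (.nd (.nd (.lf 10737933) (.lf 0)) (.nd (.lf 14976377) (.lf 0))))) (.nd (.nd (.nd (.nd (.lf 15794677) (.lf 14336968)) (.nd (.lf 14438853) (.lf 0))) (.nd (.nd (.lf 9848438) (.lf 0)) (.nd (.lf 15950993) (.lf 0)))) (.nd (.nd (.nd (.lf 8419127) (.lf 8976683)) (.nd (.lf 16044209) (.lf 0))) (.nd (.nd (.lf 15871329) (.lf 0)) (.nd (.lf 15836429) (.lf 0))))))

/-- table part -/
def keyT_18 : Tr :=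
  .nd keyT_16 keyT_17

/-- table part -/
def keyT_19 : Tr :=
  .nd (.nd (.nd (.nd (.nd (.nd (.lf 11741245) (.lf 11167139)) (.nd (.lf 9147228) (.lf 0))) (.nd (.nd (.lf 13404619) (.lf 0)) (.nd (.lf 11208045) (.lf 0)))) (.nd (.nd (.nd (.lf 8481979) (.lf 14104680)) (.nd (.lf 14693619) (.lf 0))) (.nd (.nd (.lf 13992630) (.lf 0)) (.nd (.lf 9036455) (.lf 0))))) (.nd (.nd (.nd (.nd (.lf 9707187) (.lf 11746466)) (.nd (.lf 11951489) (.lf 0))) (.nd (.nd (.lf 13469400) (.lf 0)) (.nd (.lf 15962645) (.lf 0)))) (.nd (.nd (.nd (.lf 13271711) (.lf 14706319)) (.nd (.lf 14227928) (.lf 0))) (.nd (.nd (.lf 15777409) (.lf 0)) (.nd (.lf 9561801) (.lf 0)))))) (.nd (.nd (.nd (.nd (.nd (.lf 12382234) (.lf 13489316)) (.nd (.lf 8578263) (.lf 0))) (.nd (.nd (.lf 14822101) (.lf 0)) (.nd (.lf 12610023) (.lf 0)))) (.nd (.nd (.nd (.lf 12897522)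 (.lf 9174145)) (.nd (.lf 10575474) (.lf 0))) (.nd (.nd (.lf 15297094) (.lf 0)) (.nd (.lf 12220040) (.lf 0))))) (.nd (.nd (.nd (.nd (.lf 14379043) (.lf 8551822)) (.nd (.lf 8675300) (.lf 0))) (.nd (.nd (.lf 9132153) (.lf 0)) (.nd (.lf 14777603) (.lf 0)))) (.nd (.nd (.nd (.lf 9548981) (.lf 9872493)) (.nd (.lf 12080399) (.lf 0))) (.nd (.nd (.lf 9328263) (.lf 0)) (.nd (.lf 9491579) (.lf 0))))))

/-- table part -/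
def keyT_20 : Tr :=
  .nd (.nd (.nd (.nd (.nd (.nd (.lf 11228945) (.lf 10743859)) (.nd (.lf 9949244) (.lf 0))) (.nd (.nd (.lf 12038281) (.lf 0)) (.nd (.lf 8861075) (.lf 0)))) (.nd (.nd (.nd (.lf 9416464) (.lf 8793631)) (.nd (.lf 13309141) (.lf 0))) (.nd (.nd (.lf 8837275) (.lf 0)) (.nd (.lf 15953934) (.lf 0))))) (.nd (.nd (.nd (.nd (.lf 9946275) (.lf 13550993)) (.nd (.lf 11619673) (.lf 0))) (.nd (.nd (.lf 16518353) (.lf 0)) (.nd (.lf 9385545) (.lf 0)))) (.nd (.nd (.nd (.lf 9747019) (.lf 11099560)) (.nd (.lf 14700465) (.lf 0))) (.nd (.nd (.lf 12014226) (.lf 0)) (.nd (.lf 14009429) (.lf 0)))))) (.nd (.nd (.nd (.nd (.nd (.lf 10503678) (.lf 13217291)) (.nd (.lf 13380915) (.lf 0))) (.nd (.nd (.lf 13507115) (.lf 0)) (.nd (.lf 15503932) (.lf 0)))) (.nd (.nd (.nd (.lf 10664387) (.lf 9851625)) (.nd (.lf 10243861) (.lf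 0))) (.nd (.nd (.lf 14240676) (.lf 0)) (.nd (.lf 10310809) (.lf 0))))) (.nd (.nd (.nd (.nd (.lf 8560533) (.lf 9535376)) (.nd (.lf 11376480) (.lf 0))) (.nd (.nd (.lf 14166890) (.lf 0)) (.nd (.lf 11185798) (.lf 0)))) (.nd (.nd (.nd (.lf 15090917) (.lf 11049374)) (.nd (.lf 9737077) (.lf 0))) (.nd (.nd (.lf 16190113) (.lf 0)) (.nd (.lf 11485795) (.lf 0))))))

/-- table part -/
def keyT_21 : Tr :=
  .nd keyT_19 keyT_20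

/-- table part -/
def keyT_22 : Tr :=
  .nd keyT_18 keyT_21

/-- table part -/
def keyT_23 : Tr :=
  .nd (.nd (.nd (.nd (.nd (.nd (.lf 11937475) (.lf 10843809)) (.nd (.lf 13700765) (.lf 0))) (.nd (.nd (.lf 10252980) (.lf 13340044)) (.nd (.lf 10905492) (.lf 0)))) (.nd (.nd (.nd (.lf 10113246) (.lf 12930599)) (.nd (.lf 9446143) (.lf 0))) (.nd (.nd (.lf 16400742) (.lf 0)) (.nd (.lf 12936985) (.lf 0))))) (.nd (.nd (.nd (.nd (.lf 10324771) (.lf 12362342)) (.nd (.lf 13457762) (.lf 0))) (.nd (.nd (.lf 10929004) (.lf 0)) (.nd (.lf 15618976) (.lf 0)))) (.nd (.nd (.nd (.lf 11211250) (.lf 13472327)) (.nd (.lf 15249008) (.lf 0))) (.nd (.nd (.lf 14914977) (.lf 0)) (.nd (.lf 13874243) (.lf 0)))))) (.nd (.nd (.nd (.nd (.nd (.lf 12100491) (.lf 14364352)) (.nd (.lf 9445214) (.lf 0))) (.nd (.nd (.lf 11828742) (.lf 0)) (.nd (.lf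 8870478) (.lf 0)))) (.nd (.nd (.nd (.lf 10273491) (.lf 14387768)) (.nd (.lf 13282209) (.lf 0))) (.nd (.nd (.lf 11869896) (.lf 0)) (.nd (.lf 14786328) (.lf 0))))) (.nd (.nd (.nd (.nd (.lf 15387412) (.lf 16398884)) (.nd (.lf 10247050) (.lf 0))) (.nd (.nd (.lf 13251320) (.lf 0)) (.nd (.lf 15345935) (.lf 0)))) (.nd (.nd (.nd (.lf 16483664) (.lf 15281317)) (.nd (.lf 11139408) (.lf 0))) (.nd (.nd (.lf 10784566) (.lf 0)) (.nd (.lf 9198654) (.lf 0))))))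

/-- table part -/
def keyT_24 : Tr :=
  .nd (.nd (.nd (.nd (.nd (.nd (.lf 9006945) (.lf 9261869)) (.nd (.lf 15151284) (.lf 0))) (.nd (.nd (.lf 10068976) (.lf 0)) (.nd (.lf 15782236) (.lf 0)))) (.nd (.nd (.nd (.lf 13932858) (.lf 12797299)) (.nd (.lf 11622854) (.lf 0))) (.nd (.nd (.lf 12458168) (.lf 0)) (.nd (.lf 11094327) (.lf 0))))) (.nd (.nd (.nd (.nd (.lf 8640101) (.lf 12744641)) (.nd (.lf 12924261) (.lf 0))) (.nd (.nd (.lf 8843685) (.lf 0)) (.nd (.lf 9643861) (.lf 0)))) (.nd (.nd (.nd (.lf 15573134) (.lf 14032453)) (.nd (.lf 15430752) (.lf 0))) (.nd (.nd (.lf 11736476) (.lf 0)) (.nd (.lf 13181901) (.lf 0)))))) (.nd (.nd (.nd (.nd (.nd (.lf 11580622) (.lf 11864663)) (.nd (.lf 9779358) (.lf 0))) (.nd (.nd (.lf 15012659) (.lf 0)) (.nd (.lf 10976280) (.lf 0)))) (.nd (.nd (.nd (.lf 9811288) (.lf 12485089)) (.nd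 (.lf 11966116) (.lf 0))) (.nd (.nd (.lf 11675438) (.lf 0)) (.nd (.lf 10350689) (.lf 0))))) (.nd (.nd (.nd (.nd (.lf 12795441) (.lf 12029224)) (.nd (.lf 12703379) (.lf 0))) (.nd (.nd (.lf 12947869) (.lf 0)) (.nd (.lf 8701629) (.lf 0)))) (.nd (.nd (.nd (.lf 11769946) (.lf 13782484)) (.nd (.lf 12775064) (.lf 0))) (.nd (.nd (.lf 13890208) (.lf 0)) (.nd (.lf 14213199) (.lf 0))))))

/-- table part -/
def keyT_25 : Tr :=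
  .nd keyT_23 keyT_24

/-- table part -/
def keyT_26 : Tr :=
  .nd (.nd (.nd (.nd (.nd (.nd (.lf 16339027) (.lf 12227731)) (.nd (.lf 10038838) (.lf 0))) (.nd (.nd (.lf 11811045) (.lf 0)) (.nd (.lf 10123744) (.lf 0)))) (.nd (.nd (.nd (.lf 13335304) (.lf 10067537)) (.nd (.lf 13415530) (.lf 0))) (.nd (.nd (.lf 13463644) (.lf 0)) (.nd (.lf 9637483) (.lf 0))))) (.nd (.nd (.nd (.nd (.lf 14792230) (.lf 13409620)) (.nd (.lf 11038490) (.lf 0))) (.nd (.nd (.lf 11709160) (.lf 0)) (.nd (.lf 8572393) (.lf 0)))) (.nd (.nd (.nd (.lf 16456713) (.lf 13342995)) (.nd (.lf 9543051) (.lf 0))) (.nd (.nd (.lf 9804902) (.lf 0)) (.nd (.lf 15792226) (.lf 0)))))) (.nd (.nd (.nd (.nd (.nd (.lf 13842821) (.lf 9620061)) (.nd (.lf 10838590) (.lf 0))) (.nd (.nd (.lf 12768057) (.lf 0)) (.nd (.lf 9380566) (.lf 0)))) (.nd (.nd (.nd (.lf 14585945)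 (.lf 13227337)) (.nd (.lf 9023707) (.lf 0))) (.nd (.nd (.lf 10149144) (.lf 0)) (.nd (.lf 11241643) (.lf 0))))) (.nd (.nd (.nd (.nd (.lf 15934066) (.lf 9902873)) (.nd (.lf 15451143) (.lf 0))) (.nd (.nd (.lf 11729044) (.lf 0)) (.nd (.lf 10426563) (.lf 0)))) (.nd (.nd (.nd (.lf 12470980) (.lf 10008700)) (.nd (.lf 10805483) (.lf 0))) (.nd (.nd (.lf 12502786) (.lf 0)) (.nd (.lf 12886831) (.lf 0))))))

/-- table part -/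
def keyT_27 : Tr :=
  .nd (.nd (.nd (.nd (.nd (.nd (.lf 10164526) (.lf 14435674)) (.nd (.lf 12090417) (.lf 0))) (.nd (.nd (.lf 13757574) (.lf 0)) (.nd (.lf 11188761) (.lf 0)))) (.nd (.nd (.nd (.lf 13584196) (.lf 15404834)) (.nd (.lf 14493076) (.lf 0))) (.nd (.nd (.lf 11195844) (.lf 0)) (.nd (.lf 14012618) (.lf 0))))) (.nd (.nd (.nd (.nd (.lf 11980871) (.lf 10764113)) (.nd (.lf 15639844) (.lf 0))) (.nd (.nd (.lf 14003080) (.lf 0)) (.nd (.lf 13059230) (.lf 0)))) (.nd (.nd (.nd (.lf 12837259) (.lf 9888398)) (.nd (.lf 15069480) (.lf 0))) (.nd (.nd (.lf 8894549) (.lf 0)) (.nd (.lf 12785423) (.lf 0)))))) (.nd (.nd (.nd (.nd (.nd (.lf 10599529) (.lf 13494533)) (.nd (.lf 10138309) (.lf 0))) (.nd (.nd (.lf 13839642) (.lf 0)) (.nd (.lf 11020793) (.lf 0)))) (.nd (.nd (.nd (.lf 15410716) (.lf 11223950)) (.nd (.lf 12347715)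 (.lf 0))) (.nd (.nd (.lf 10799573) (.lf 0)) (.nd (.lf 9517427) (.lf 0))))) (.nd (.nd (.nd (.nd (.lf 15899910) (.lf 11432145)) (.nd (.lf 8762092) (.lf 0))) (.nd (.nd (.lf 16410712) (.lf 0)) (.nd (.lf 10779058) (.lf 0)))) (.nd (.nd (.nd (.lf 9391371) (.lf 13553934)) (.nd (.lf 14804058) (.lf 0))) (.nd (.nd (.lf 16098528) (.lf 0)) (.nd (.lf 15839634) (.lf 0))))))

/-- table part -/
def keyT_28 : Tr :=
  .nd keyT_26 keyT_27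

/-- table part -/
def keyT_29 : Tr :=
  .nd keyT_25 keyT_28

/-- table part -/
def keyT_30 : Tr :=
  .nd keyT_22 keyT_29

/-- table part -/
def keyT_31 : Tr :=
  .nd keyT_15 keyT_30

/-- table part -/
def keyT_32 : Tr :=
  .nd (.nd (.nd (.nd (.nd (.nd (.lf 16095553) (.lf 15110080)) (.nd (.lf 11801051) (.lf 0))) (.nd (.nd (.lf 12847063) (.lf 13460675)) (.nd (.lf 8608675) (.lf 0)))) (.nd (.nd (.nd (.lf 9235545) (.lf 15681580)) (.nd (.lf 9218746) (.lf 0))) (.nd (.nd (.lf 13257146) (.lf 0)) (.nd (.lf 10135130) (.lf 0))))) (.nd (.nd (.nd (.nd (.lf 10671646) (.lf 12762340)) (.nd (.lf 13267995) (.lf 0))) (.nd (.nd (.lf 9397301) (.lf 0)) (.nd (.lf 9228792) (.lf 0)))) (.nd (.nd (.nd (.lf 8907305) (.lf 12214807)) (.nd (.lf 16445697) (.lf 0))) (.nd (.nd (.lf 9213723) (.lf 0)) (.nd (.lf 13262117) (.lf 0)))))) (.nd (.nd (.nd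 (.nd (.nd (.lf 10615434) (.lf 10793623)) (.nd (.lf 14526546) (.lf 0))) (.nd (.nd (.lf 11293526) (.lf 0)) (.nd (.lf 15846096) (.lf 0)))) (.nd (.nd (.nd (.lf 10058826) (.lf 13186898)) (.nd (.lf 15543624) (.lf 0))) (.nd (.nd (.lf 12356440) (.lf 0)) (.nd (.lf 9744084) (.lf 0))))) (.nd (.nd (.nd (.nd (.lf 14807237) (.lf 10697494)) (.nd (.lf 11776356) (.lf 0))) (.nd (.nd (.lf 10360784) (.lf 0)) (.nd (.lf 13052739) (.lf 0)))) (.nd (.nd (.nd (.lf 11149025) (.lf 16236932)) (.nd (.lf 16015574) (.lf 0))) (.nd (.nd (.lf 12906835) (.lf 0)) (.nd (.lf 8629543) (.lf 0))))))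

/-- table part -/
def keyT_33 : Tr :=
  .nd (.nd (.nd (.nd (.nd (.nd (.lf 9866579) (.lf 11719082)) (.nd (.lf 10753647) (.lf 0))) (.nd (.nd (.lf 10640344) (.lf 0)) (.nd (.lf 12255961) (.lf 0)))) (.nd (.nd (.nd (.lf 12618748) (.lf 15815561)) (.nd (.lf 15928140) (.lf 0))) (.nd (.nd (.lf 12988623) (.lf 0)) (.nd (.lf 13715582) (.lf 0))))) (.nd (.nd (.nd (.nd (.lf 9394580) (.lf 12099114)) (.nd (.lf 15213494) (.lf 0))) (.nd (.nd (.lf 13345970) (.lf 0)) (.nd (.lf 11704137) (.lf 0)))) (.nd (.nd (.nd (.lf 9096755) (.lf 15732454)) (.nd (.lf 12399660) (.lf 0))) (.nd (.nd (.lf 9123748) (.lf 0)) (.nd (.lf 14857100) (.lf 0)))))) (.nd (.nd (.nd (.nd (.nd (.lf 15997844) (.lf 8994077)) (.nd (.lf 11509880) (.lf 0))) (.nd (.nd (.lf 8575350) (.lf 0)) (.nd (.lf 15351184) (.lf 0)))) (.nd (.nd (.nd (.lf 11561844) (.lf 12199156)) (.nd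 (.lf 13361745) (.lf 0))) (.nd (.nd (.lf 9687505) (.lf 0)) (.nd (.lf 10984963) (.lf 0))))) (.nd (.nd (.nd (.nd (.lf 8493631) (.lf 15948080)) (.nd (.lf 12656054) (.lf 0))) (.nd (.nd (.lf 10661212) (.lf 0)) (.nd (.lf 11082571) (.lf 0)))) (.nd (.nd (.nd (.lf 10966310) (.lf 8951542)) (.nd (.lf 16024269) (.lf 0))) (.nd (.nd (.lf 14474243) (.lf 0)) (.nd (.lf 12957859) (.lf 0))))))

/-- table part -/
def keyT_34 : Tr :=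
  .nd keyT_32 keyT_33

/-- table part -/
def keyT_35 : Tr :=
  .nd (.nd (.nd (.nd (.nd (.nd (.lf 9421005) (.lf 9754006)) (.nd (.lf 8876912) (.lf 0))) (.nd (.nd (.lf 10542247) (.lf 0)) (.nd (.lf 12137921) (.lf 0)))) (.nd (.nd (.nd (.lf 11546007) (.lf 9409201)) (.nd (.lf 11472927) (.lf 0))) (.nd (.nd (.lf 15356493) (.lf 0)) (.nd (.lf 12528138) (.lf 0))))) (.nd (.nd (.nd (.nd (.lf 9975226) (.lf 11381441)) (.nd (.lf 12114121) (.lf 0))) (.nd (.nd (.lf 15084344) (.lf 0)) (.nd (.lf 10423388) (.lf 0)))) (.nd (.nd (.nd (.lf 8891594) (.lf 9564758)) (.nd (.lf 16527728) (.lf 0))) (.nd (.nd (.lf 16419395) (.lf 0)) (.nd (.lf 10740908) (.lf 0)))))) (.nd (.nd (.nd (.nd (.nd (.lf 16451734) (.lf 11836445)) (.nd (.lf 8587743) (.lf 0))) (.nd (.nd (.lf 16114179) (.lf 0)) (.nd (.lf 12919290) (.lf 0)))) (.nd (.nd (.nd (.lf 16133260)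 (.lf 15104324)) (.nd (.lf 8823769) (.lf 0))) (.nd (.nd (.lf 9682444) (.lf 0)) (.nd (.lf 15419841) (.lf 0))))) (.nd (.nd (.nd (.nd (.lf 8737015) (.lf 12297761)) (.nd (.lf 14557246) (.lf 0))) (.nd (.nd (.lf 11079636) (.lf 0)) (.nd (.lf 15779267) (.lf 0)))) (.nd (.nd (.nd (.lf 15475291) (.lf 14475682)) (.nd (.lf 10208916) (.lf 0))) (.nd (.nd (.lf 10570477) (.lf 0)) (.nd (.lf 12723645) (.lf 0))))))

/-- table part -/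
def keyT_36 : Tr :=
  .nd (.nd (.nd (.nd (.nd (.nd (.lf 8452849) (.lf 15380566)) (.nd (.lf 9135576) (.lf 0))) (.nd (.nd (.lf 14886342) (.lf 0)) (.nd (.lf 10516575) (.lf 0)))) (.nd (.nd (.nd (.lf 16647784) (.lf 14496011)) (.nd (.lf 11993326) (.lf 0))) (.nd (.nd (.lf 8715036) (.lf 0)) (.nd (.lf 10271121) (.lf 0))))) (.nd (.nd (.nd (.nd (.lf 11160733) (.lf 16009704)) (.nd (.lf 13617794) (.lf 0))) (.nd (.nd (.lf 15148075) (.lf 0)) (.nd (.lf 9806279) (.lf 0)))) (.nd (.nd (.nd (.lf 10355535) (.lf 14295507)) (.nd (.lf 12623715) (.lf 0))) (.nd (.nd (.lf 11068124) (.lf 0)) (.nd (.lf 14094678) (.lf 0)))))) (.nd (.nd (.nd (.nd (.nd (.lf 10861956) (.lf 15049556)) (.nd (.lf 13646895) (.lf 0))) (.nd (.nd (.lf 14125071) (.lf 0)) (.nd (.lf 13816973) (.lf 0)))) (.nd (.nd (.nd (.lf 9792226) (.lf 9981688)) (.nd (.lf 9298762) (.lf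 0))) (.nd (.nd (.lf 12568593) (.lf 0)) (.nd (.lf 10581836) (.lf 0))))) (.nd (.nd (.nd (.nd (.lf 13869276) (.lf 12073682)) (.nd (.lf 8942829) (.lf 0))) (.nd (.nd (.lf 11190619) (.lf 0)) (.nd (.lf 11971333) (.lf 0)))) (.nd (.nd (.nd (.lf 11356378) (.lf 11849313)) (.nd (.lf 10463396) (.lf 0))) (.nd (.nd (.lf 14269728) (.lf 0)) (.nd (.lf 11287691) (.lf 0))))))

/-- table part -/
def keyT_37 : Tr :=
  .nd keyT_35 keyT_36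

/-- table part -/
def keyT_38 : Tr :=
  .nd keyT_34 keyT_37

/-- table part -/
def keyT_39 : Tr :=
  .nd (.nd (.nd (.nd (.nd (.nd (.lf 11323919) (.lf 11452598)) (.nd (.lf 15894937) (.lf 0))) (.nd (.nd (.lf 9613599) (.lf 8817383)) (.nd (.lf 9103117) (.lf 0)))) (.nd (.nd (.nd (.lf 14772636) (.lf 13024521)) (.nd (.lf 11347719) (.lf 0))) (.nd (.nd (.lf 14727477) (.lf 0)) (.nd (.lf 15918660) (.lf 0))))) (.nd (.nd (.nd (.nd (.lf 14069282) (.lf 15060105)) (.nd (.lf 12892080) (.lf 0))) (.nd (.nd (.lf 11715893) (.lf 0)) (.nd (.lf 13175539) (.lf 0)))) (.nd (.nd (.nd (.lf 10810484) (.lf 14853907)) (.nd (.lf 13822252) (.lf 0))) (.nd (.nd (.lf 11637475) (.lf 0)) (.nd (.lf 13288572) (.lf 0)))))) (.nd (.nd (.nd (.nd (.nd (.lf 11178791) (.lf 9497050)) (.nd (.lf 8808700) (.lf 0))) (.nd (.nd (.lf 9317829) (.lf 0)) (.nd (.lf 13422376)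 (.lf 0)))) (.nd (.nd (.nd (.lf 9058487) (.lf 14428807)) (.nd (.lf 8534893) (.lf 0))) (.nd (.nd (.lf 14044217) (.lf 0)) (.nd (.lf 15002276) (.lf 0))))) (.nd (.nd (.nd (.nd (.lf 16126253) (.lf 9341245)) (.nd (.lf 16265373) (.lf 0))) (.nd (.nd (.lf 14968674) (.lf 0)) (.nd (.lf 15495207) (.lf 0)))) (.nd (.nd (.nd (.lf 11689068) (.lf 15549077)) (.nd (.lf 12168344) (.lf 0))) (.nd (.nd (.lf 13484091) (.lf 0)) (.nd (.lf 9292404) (.lf 0))))))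

/-- table part -/
def keyT_40 : Tr :=
  .nd (.nd (.nd (.nd (.nd (.nd (.lf 13534066) (.lf 9129190)) (.nd (.lf 12085422) (.lf 0))) (.nd (.nd (.lf 11417138) (.lf 0)) (.nd (.lf 9460157) (.lf 0)))) (.nd (.nd (.nd (.lf 15227124) (.lf 12674804)) (.nd (.lf 12423380) (.lf 0))) (.nd (.nd (.lf 12117352) (.lf 0)) (.nd (.lf 8767918) (.lf 0))))) (.nd (.nd (.nd (.nd (.lf 14578242) (.lf 14469276)) (.nd (.lf 9071307) (.lf 0))) (.nd (.nd (.lf 12644542) (.lf 0)) (.nd (.lf 11143806) (.lf 0)))) (.nd (.nd (.nd (.lf 10062542) (.lf 15242193)) (.nd (.lf 14867537) (.lf 0))) (.nd (.nd (.lf 13720801) (.lf 0)) (.nd (.lf 13324854) (.lf 0)))))) (.nd (.nd (.nd (.nd (.nd (.lf 10718065) (.lf 14306830)) (.nd (.lf 12132702) (.lf 0))) (.nd (.nd (.lf 12629597) (.lf 0)) (.nd (.lf 8961992) (.lf 0)))) (.nd (.nd (.nd (.lf 15492280) (.lf 15830067)) (.nd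 (.lf 11259464) (.lf 0))) (.nd (.nd (.lf 14033892) (.lf 0)) (.nd (.lf 12312770) (.lf 0))))) (.nd (.nd (.nd (.nd (.lf 13659731) (.lf 15822376)) (.nd (.lf 9482041) (.lf 0))) (.nd (.nd (.lf 15533174) (.lf 0)) (.nd (.lf 9817626) (.lf 0)))) (.nd (.nd (.nd (.lf 15258930) (.lf 11884587)) (.nd (.lf 15887234) (.lf 0))) (.nd (.nd (.lf 12295040) (.lf 0)) (.nd (.lf 11888010) (.lf 0))))))

/-- table part -/
def keyT_41 : Tr :=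
  .nd keyT_39 keyT_40

/-- table part -/
def keyT_42 : Tr :=
  .nd (.nd (.nd (.nd (.nd (.nd (.lf 13410549) (.lf 14313264)) (.nd (.lf 13544012) (.lf 0))) (.nd (.nd (.lf 12420171) (.lf 0)) (.nd (.lf 12342498) (.lf 0)))) (.nd (.nd (.nd (.lf 11813799) (.lf 10211851)) (.nd (.lf 9657367) (.lf 0))) (.nd (.nd (.lf 14516588) (.lf 0)) (.nd (.lf 14502473) (.lf 0))))) (.nd (.nd (.nd (.nd (.lf 11940444) (.lf 8442831)) (.nd (.lf 11749344) (.lf 0))) (.nd (.nd (.lf 12800492) (.lf 0)) (.nd (.lf 11911538) (.lf 0)))) (.nd (.nd (.nd (.lf 14207345) (.lf 11766981)) (.nd (.lf 12332960) (.lf 0))) (.nd (.nd (.lf 13601889) (.lf 0)) (.nd (.lf 16000565) (.lf 0)))))) (.nd (.nd (.nd (.nd (.nd (.lf 11344550) (.lf 8681178)) (.nd (.lf 10946394) (.lf 0))) (.nd (.nd (.lf 9017829) (.lf 0)) (.nd (.lf 12283140) (.lf 0)))) (.nd (.nd (.nd (.lf 15752346)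 (.lf 16385925)) (.nd (.lf 10956388) (.lf 0))) (.nd (.nd (.lf 14817140) (.lf 0)) (.nd (.lf 11569519) (.lf 0))))) (.nd (.nd (.nd (.nd (.lf 13428246) (.lf 9991001)) (.nd (.lf 14986311) (.lf 0))) (.nd (.nd (.lf 14909758) (.lf 0)) (.nd (.lf 14186774) (.lf 0)))) (.nd (.nd (.nd (.lf 15142165) (.lf 13129628)) (.nd (.lf 14979558) (.lf 0))) (.nd (.nd (.lf 12202091) (.lf 0)) (.nd (.lf 11170108) (.lf 0))))))

/-- table part -/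
def keyT_43 : Tr :=
  .nd (.nd (.nd (.nd (.nd (.nd (.lf 13997609) (.lf 12094133)) (.nd (.lf 16388890) (.lf 0))) (.nd (.nd (.lf 15022605) (.lf 0)) (.nd (.lf 16662667) (.lf 0)))) (.nd (.nd (.nd (.lf 12933816) (.lf 14062467)) (.nd (.lf 9256176) (.lf 0))) (.nd (.nd (.lf 10412372) (.lf 0)) (.nd (.lf 14965443) (.lf 0))))) (.nd (.nd (.nd (.nd (.lf 15812374) (.lf 16296388)) (.nd (.lf 16290917) (.lf 0))) (.nd (.nd (.lf 10444320) (.lf 0)) (.nd (.lf 8996447) (.lf 0)))) (.nd (.nd (.nd (.lf 9586587) (.lf 14868976)) (.nd (.lf 13042301) (.lf 0))) (.nd (.nd (.lf 14486698) (.lf 0)) (.nd (.lf 8786878) (.lf 0)))))) (.nd (.nd (.nd (.nd (.nd (.lf 11807866) (.lf 13735876)) (.nd (.lf 12982769) (.lf 0))) (.nd (.nd (.lf 9144259) (.lf 0)) (.nd (.lf 11842851) (.lf 0)))) (.nd (.nd (.nd (.lf 10400552) (.lf 10646246)) (.nd (.lf 10260655) (.lf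 0))) (.nd (.nd (.lf 9766207) (.lf 0)) (.nd (.lf 12671829) (.lf 0))))) (.nd (.nd (.nd (.nd (.lf 14407748) (.lf 14616083)) (.nd (.lf 10729168) (.lf 0))) (.nd (.nd (.lf 16329489) (.lf 0)) (.nd (.lf 9282985) (.lf 0)))) (.nd (.nd (.nd (.lf 10237015) (.lf 12011021)) (.nd (.lf 13019542) (.lf 0))) (.nd (.nd (.lf 11423088) (.lf 0)) (.nd (.lf 13026891) (.lf 0))))))

/-- table part -/
def keyT_44 : Tr :=
  .nd keyT_42 keyT_43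

/-- table part -/
def keyT_45 : Tr :=
  .nd keyT_41 keyT_44

/-- table part -/
def keyT_46 : Tr :=
  .nd keyT_38 keyT_45

/-- table part -/
def keyT_47 : Tr :=
  .nd (.nd (.nd (.nd (.nd (.nd (.lf 13689749) (.lf 13688372)) (.nd (.lf 14357345) (.lf 0))) (.nd (.nd (.lf 14812139) (.lf 12388749)) (.nd (.lf 13983917) (.lf 0)))) (.nd (.nd (.nd (.lf 13442945) (.lf 8772913)) (.nd (.lf 8747465) (.lf 0))) (.nd (.nd (.lf 11644738) (.lf 0)) (.nd (.lf 14272098) (.lf 0))))) (.nd (.nd (.nd (.nd (.lf 12866987) (.lf 14310033)) (.nd (.lf 10923185) (.lf 0))) (.nd (.nd (.lf 15043178) (.lf 0)) (.nd (.lf 10986402) (.lf 0)))) (.nd (.nd (.nd (.lf 9268876) (.lf 10144135)) (.nd (.lf 16051472) (.lf 0))) (.nd (.nd (.lf 8897303) (.lf 0)) (.nd (.lf 15079065) (.lf 0)))))) (.nd (.nd (.nd (.nd (.nd (.lf 10548633) (.lf 16123314)) (.nd (.lf 9925828)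 (.lf 0))) (.nd (.nd (.lf 13677033) (.lf 0)) (.nd (.lf 12376356) (.lf 0)))) (.nd (.nd (.nd (.lf 9333542) (.lf 9061365)) (.nd (.lf 11858880) (.lf 0))) (.nd (.nd (.lf 13000466) (.lf 0)) (.nd (.lf 14053784) (.lf 0))))) (.nd (.nd (.nd (.nd (.lf 11175864) (.lf 13163098)) (.nd (.lf 15393322) (.lf 0))) (.nd (.nd (.lf 9076308) (.lf 0)) (.nd (.lf 13730651) (.lf 0)))) (.nd (.nd (.nd (.lf 13963120) (.lf 8822392)) (.nd (.lf 9846068) (.lf 0))) (.nd (.nd (.lf 10684087) (.lf 0)) (.nd (.lf 9168926) (.lf 0))))))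

/-- table part -/
def keyT_48 : Tr :=
  .nd (.nd (.nd (.nd (.nd (.nd (.lf 10290917) (.lf 8497054)) (.nd (.lf 11684083) (.lf 0))) (.nd (.nd (.lf 13978003) (.lf 0)) (.nd (.lf 10531706) (.lf 0)))) (.nd (.nd (.nd (.lf 14047398) (.lf 12233010)) (.nd (.lf 15135874) (.lf 0))) (.nd (.nd (.lf 16719941) (.lf 0)) (.nd (.lf 12752346) (.lf 0))))) (.nd (.nd (.nd (.nd (.lf 12842260) (.lf 15454360)) (.nd (.lf 12147228) (.lf 0))) (.nd (.nd (.lf 15833260) (.lf 0)) (.nd (.lf 11789080) (.lf 0)))) (.nd (.nd (.nd (.lf 14862542) (.lf 10653949)) (.nd (.lf 12393746) (.lf 0))) (.nd (.nd (.lf 14374274) (.lf 0)) (.nd (.lf 11463048) (.lf 0)))))) (.nd (.nd (.nd (.nd (.nd (.lf 12193226) (.lf 13513493)) (.nd (.lf 14750430) (.lf 0))) (.nd (.nd (.lf 11530756) (.lf 0)) (.nd (.lf 15598044) (.lf 0)))) (.nd (.nd (.nd (.lf 12598171) (.lf 8605500))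 (.nd (.lf 15353554) (.lf 0))) (.nd (.nd (.lf 13232360) (.lf 0)) (.nd (.lf 10624315) (.lf 0))))) (.nd (.nd (.nd (.nd (.lf 13195407) (.lf 16177672)) (.nd (.lf 13785419) (.lf 0))) (.nd (.nd (.lf 9157218) (.lf 0)) (.nd (.lf 12830901) (.lf 0)))) (.nd (.nd (.nd (.lf 9118523) (.lf 15230293)) (.nd (.lf 15374696) (.lf 0))) (.nd (.nd (.lf 11200613) (.lf 0)) (.nd (.lf 14944447) (.lf 0))))))

/-- table part -/
def keyT_49 : Tr :=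
  .nd keyT_47 keyT_48

/-- table part -/
def keyT_50 : Tr :=
  .nd (.nd (.nd (.nd (.nd (.nd (.lf 9276567) (.lf 10458373)) (.nd (.lf 8632760) (.lf 0))) (.nd (.nd (.lf 8813667) (.lf 0)) (.nd (.lf 8635130) (.lf 0)))) (.nd (.nd (.nd (.lf 13845191) (.lf 14192530)) (.nd (.lf 13437726) (.lf 0))) (.nd (.nd (.lf 14735080) (.lf 0)) (.nd (.lf 12835882) (.lf 0))))) (.nd (.nd (.nd (.nd (.lf 14687693) (.lf 8973748)) (.nd (.lf 14445668) (.lf 0))) (.nd (.nd (.lf 8460281) (.lf 0)) (.nd (.lf 15434468) (.lf 0)))) (.nd (.nd (.nd (.lf 11088501) (.lf 9099948)) (.nd (.lf 16277312) (.lf 0))) (.nd (.nd (.lf 13220500) (.lf 0)) (.nd (.lf 10851514) (.lf 0)))))) (.nd (.nd (.nd (.nd (.nd (.lf 12757115) (.lf 13384108)) (.nd (.lf 9188323) (.lf 0))) (.nd (.nd (.lf 10522331) (.lf 0)) (.nd (.lf 15603011) (.lf 0)))) (.nd (.nd (.nd (.lf 12260934)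 (.lf 16003754)) (.nd (.lf 13524168) (.lf 0))) (.nd (.nd (.lf 9426002) (.lf 0)) (.nd (.lf 9882544) (.lf 0))))) (.nd (.nd (.nd (.nd (.lf 11823769) (.lf 8470215)) (.nd (.lf 13982988) (.lf 0))) (.nd (.nd (.lf 15738840) (.lf 0)) (.nd (.lf 9663785) (.lf 0)))) (.nd (.nd (.nd (.lf 15567280) (.lf 9030553)) (.nd (.lf 11556565) (.lf 0))) (.nd (.nd (.lf 13673846) (.lf 0)) (.nd (.lf 15536361) (.lf 0))))))

/-- table part -/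
def keyT_51 : Tr :=
  .nd (.nd (.nd (.nd (.nd (.nd (.lf 15093882) (.lf 13431433)) (.nd (.lf 14324148) (.lf 0))) (.nd (.nd (.lf 14850738) (.lf 0)) (.nd (.lf 16548119) (.lf 0)))) (.nd (.nd (.nd (.lf 11634300) (.lf 16319023)) (.nd (.lf 14183817) (.lf 0))) (.nd (.nd (.lf 15735417) (.lf 0)) (.nd (.lf 12171271) (.lf 0))))) (.nd (.nd (.nd (.nd (.lf 13968974) (.lf 11303528)) (.nd (.lf 11977944) (.lf 0))) (.nd (.nd (.lf 12500032) (.lf 0)) (.nd (.lf 9405998) (.lf 0)))) (.nd (.nd (.nd (.lf 13566375) (.lf 10042025)) (.nd (.lf 12538184) (.lf 0))) (.nd (.nd (.lf 11782694) (.lf 0)) (.nd (.lf 14882919) (.lf 0)))))) (.nd (.nd (.nd (.nd (.nd (.lf 9625282) (.lf 10787753)) (.nd (.lf 8936915) (.lf 0))) (.nd (.nd (.lf 10913167) (.lf 0)) (.nd (.lf 16581570) (.lf 0)))) (.nd (.nd (.nd (.lf 12412496) (.lf 15799658)) (.nd (.lf 11921484)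 (.lf 0))) (.nd (.nd (.lf 10088844) (.lf 0)) (.nd (.lf 14059292) (.lf 0))))) (.nd (.nd (.nd (.nd (.lf 16077412) (.lf 13222358)) (.nd (.lf 12461337) (.lf 0))) (.nd (.nd (.lf 14334090) (.lf 0)) (.nd (.lf 15741767) (.lf 0)))) (.nd (.nd (.nd (.lf 11411212) (.lf 12161337)) (.nd (.lf 14798180) (.lf 0))) (.nd (.nd (.lf 11587468) (.lf 0)) (.nd (.lf 10694537) (.lf 0))))))

/-- table part -/
def keyT_52 : Tr :=
  .nd keyT_50 keyT_51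

/-- table part -/
def keyT_53 : Tr :=
  .nd keyT_49 keyT_52

/-- table part -/
def keyT_54 : Tr :=
  .nd (.nd (.nd (.nd (.nd (.nd (.lf 10602283) (.lf 15034481)) (.nd (.lf 16553352) (.lf 0))) (.nd (.nd (.lf 12695886) (.lf 13683371)) (.nd (.lf 13935771) (.lf 0)))) (.nd (.nd (.nd (.lf 9959682) (.lf 12174149)) (.nd (.lf 14233830) (.lf 0))) (.nd (.nd (.lf 12394675) (.lf 0)) (.nd (.lf 9530127) (.lf 0))))) (.nd (.nd (.nd (.nd (.lf 12070477) (.lf 13093208)) (.nd (.lf 12860022) (.lf 0))) (.nd (.nd (.lf 11440842) (.lf 0)) (.nd (.lf 11290569) (.lf 0)))) (.nd (.nd (.nd (.lf 12379269) (.lf 13321897)) (.nd (.lf 15164104) (.lf 0))) (.nd (.nd (.lf 15253933) (.lf 0)) (.nd (.lf 16278241) (.lf 0)))))) (.nd (.nd (.nd (.nd (.nd (.lf 14195469) (.lf 10335874)) (.nd (.lf 8916911) (.lf 0))) (.nd (.nd (.lf 8531954) (.lf 0)) (.nd (.lf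 8828742) (.lf 0)))) (.nd (.nd (.nd (.lf 11277749) (.lf 10372524)) (.nd (.lf 12153634) (.lf 0))) (.nd (.nd (.lf 13396944) (.lf 0)) (.nd (.lf 14631152) (.lf 0))))) (.nd (.nd (.nd (.nd (.lf 15959690) (.lf 15772190)) (.nd (.lf 13760537) (.lf 0))) (.nd (.nd (.lf 10391177) (.lf 0)) (.nd (.lf 16061575) (.lf 0)))) (.nd (.nd (.nd (.lf 9365216) (.lf 10971271)) (.nd (.lf 14289133) (.lf 0))) (.nd (.nd (.lf 9914725) (.lf 0)) (.nd (.lf 11818808) (.lf 0))))))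

/-- table part -/
def keyT_55 : Tr :=
  .nd (.nd (.nd (.nd (.nd (.nd (.lf 10098237) (.lf 15753531)) (.nd (.lf 13797105) (.lf 0))) (.nd (.nd (.lf 9713549) (.lf 0)) (.nd (.lf 15145354) (.lf 0)))) (.nd (.nd (.nd (.lf 12810450) (.lf 14787257)) (.nd (.lf 10405994) (.lf 0))) (.nd (.nd (.lf 11233968) (.lf 0)) (.nd (.lf 16616964) (.lf 0))))) (.nd (.nd (.nd (.nd (.lf 12708658) (.lf 15554058)) (.nd (.lf 13881089) (.lf 0))) (.nd (.nd (.lf 13510538) (.lf 0)) (.nd (.lf 13210538) (.lf 0)))) (.nd (.nd (.nd (.lf 10085651) (.lf 9583833)) (.nd (.lf 14537488) (.lf 0))) (.nd (.nd (.lf 13030100) (.lf 0)) (.nd (.lf 13914655) (.lf 0)))))) (.nd (.nd (.nd (.nd (.nd (.lf 13014071) (.lf 8884587)) (.nd (.lf 14832023) (.lf 0))) (.nd (.nd (.lf 14703406) (.lf 0)) (.nd (.lf 14027482) (.lf 0)))) (.nd (.nd (.nd (.lf 12807245) (.lf 15019666))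 (.nd (.lf 8511869) (.lf 0))) (.nd (.nd (.lf 16369930) (.lf 0)) (.nd (.lf 9185148) (.lf 0))))) (.nd (.nd (.nd (.nd (.lf 15218473) (.lf 10375475)) (.nd (.lf 8758899) (.lf 0))) (.nd (.nd (.lf 9728366) (.lf 0)) (.nd (.lf 10819964) (.lf 0)))) (.nd (.nd (.nd (.lf 10079277) (.lf 10249771)) (.nd (.lf 14740297) (.lf 0))) (.nd (.nd (.lf 14989528) (.lf 0)) (.nd (.lf 11128942) (.lf 0))))))

/-- table part -/
def keyT_56 : Tr :=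
  .nd keyT_54 keyT_55

/-- table part -/
def keyT_57 : Tr :=
  .nd (.nd (.nd (.nd (.nd (.nd (.lf 15486342) (.lf 11659681)) (.nd (.lf 8449646) (.lf 0))) (.nd (.nd (.lf 14598693) (.lf 0)) (.nd (.lf 10365553) (.lf 0)))) (.nd (.nd (.nd (.lf 14246554) (.lf 11607845)) (.nd (.lf 14230649) (.lf 0))) (.nd (.nd (.lf 13118686) (.lf 0)) (.nd (.lf 10528741) (.lf 0))))) (.nd (.nd (.nd (.nd (.lf 14161611) (.lf 9307387)) (.nd (.lf 9920603) (.lf 0))) (.nd (.nd (.lf 9672498) (.lf 0)) (.nd (.lf 16748578) (.lf 0)))) (.nd (.nd (.nd (.lf 11503942) (.lf 16667668)) (.nd (.lf 10775853) (.lf 0))) (.nd (.nd (.lf 13929893) (.lf 0)) (.nd (.lf 16558121) (.lf 0)))))) (.nd (.nd (.nd (.nd (.nd (.lf 12635423) (.lf 11329168)) (.nd (.lf 8778767) (.lf 0))) (.nd (.nd (.lf 15287160) (.lf 0)) (.nd (.lf 16324272) (.lf 0)))) (.nd (.nd (.nd (.lf 13662924)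 (.lf 13081380)) (.nd (.lf 10899114) (.lf 0))) (.nd (.nd (.lf 13951608) (.lf 0)) (.nd (.lf 9138503) (.lf 0))))) (.nd (.nd (.nd (.nd (.lf 10908427) (.lf 11725835)) (.nd (.lf 11412141) (.lf 0))) (.nd (.nd (.lf 13800046) (.lf 0)) (.nd (.lf 11221196) (.lf 0)))) (.nd (.nd (.nd (.lf 9782236) (.lf 15284282)) (.nd (.lf 15881763) (.lf 0))) (.nd (.nd (.lf 11437653) (.lf 0)) (.nd (.lf 10167439) (.lf 0))))))

/-- table part -/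
def keyT_58 : Tr :=
  .nd (.nd (.nd (.nd (.nd (.nd (.lf 14895643) (.lf 11406227)) (.nd (.lf 10161585) (.lf 0))) (.nd (.nd (.lf 14198444) (.lf 0)) (.nd (.lf 11896721) (.lf 0)))) (.nd (.nd (.nd (.lf 12954684) (.lf 10682144)) (.nd (.lf 11695442) (.lf 0))) (.nd (.nd (.lf 13006380) (.lf 0)) (.nd (.lf 16598305) (.lf 0))))) (.nd (.nd (.nd (.nd (.lf 11613723) (.lf 16206914)) (.nd (.lf 16285946) (.lf 0))) (.nd (.nd (.lf 14962268) (.lf 0)) (.nd (.lf 9181917) (.lf 0)))) (.nd (.nd (.nd (.lf 11031227) (.lf 12035094)) (.nd (.lf 10822877) (.lf 0))) (.nd (.nd (.lf 10589527) (.lf 0)) (.nd (.lf 10887543) (.lf 0)))))) (.nd (.nd (.nd (.nd (.nd (.lf 12518196) (.lf 10382482)) (.nd (.lf 11590419) (.lf 0))) (.nd (.nd (.lf 11762241) (.lf 0)) (.nd (.lf 9514476) (.lf 0)))) (.nd (.nd (.nd (.lf 10979996) (.lf 9604286)) (.nd (.lf 13518935)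 (.lf 0))) (.nd (.nd (.lf 10704075) (.lf 0)) (.nd (.lf 11672207) (.lf 0))))) (.nd (.nd (.nd (.nd (.lf 11398178) (.lf 15310018)) (.nd (.lf 13198638) (.lf 0))) (.nd (.nd (.lf 14130320) (.lf 0)) (.nd (.lf 9988038) (.lf 0)))) (.nd (.nd (.nd (.lf 8867537) (.lf 11428942)) (.nd (.lf 14900868) (.lf 0))) (.nd (.nd (.lf 9346466) (.lf 0)) (.nd (.lf 13291747) (.lf 0))))))

/-- table part -/
def keyT_59 : Tr :=
  .nd keyT_57 keyT_58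

/-- table part -/
def keyT_60 : Tr :=
  .nd keyT_56 keyT_59

/-- table part -/
def keyT_61 : Tr :=
  .nd keyT_53 keyT_60

/-- table part -/
def keyT_62 : Tr :=
  .nd keyT_46 keyT_61

/-- table part -/
def keyT_63 : Tr :=
  .nd keyT_31 keyT_62

/-- table -/
def keyT : Tr :=
  keyT_63

/-- table part -/
def posT_1 : Tr :=
  .nd (.nd (.nd (.nd (.nd (.nd (.lf 1264) (.lf 967)) (.nd (.lf 938) (.lf 0))) (.nd (.nd (.lf 21) (.lf 878)) (.nd (.lf 902) (.lf 0)))) (.nd (.nd (.nd (.lf 226) (.lf 1064)) (.nd (.lf 1007) (.lf 0))) (.nd (.nd (.lf 1174) (.lf 0)) (.nd (.lf 868) (.lf 0))))) (.nd (.nd (.nd (.nd (.lf 29) (.lf 976)) (.nd (.lf 1102) (.lf 0))) (.nd (.nd (.lf 1103) (.lf 0)) (.nd (.lf 889) (.lf 0)))) (.nd (.nd (.nd (.lf 87) (.lf 430)) (.nd (.lf 1241) (.lf 0))) (.nd (.nd (.lf 877) (.lf 0)) (.nd (.lf 1023) (.lf 0)))))) (.nd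 (.nd (.nd (.nd (.nd (.lf 541) (.lf 467)) (.nd (.lf 981) (.lf 0))) (.nd (.nd (.lf 1273) (.lf 0)) (.nd (.lf 344) (.lf 0)))) (.nd (.nd (.nd (.lf 294) (.lf 145)) (.nd (.lf 254) (.lf 0))) (.nd (.nd (.lf 732) (.lf 0)) (.nd (.lf 1160) (.lf 0))))) (.nd (.nd (.nd (.nd (.lf 1093) (.lf 1233)) (.nd (.lf 135) (.lf 0))) (.nd (.nd (.lf 1044) (.lf 0)) (.nd (.lf 187) (.lf 0)))) (.nd (.nd (.nd (.lf 332) (.lf 350)) (.nd (.lf 954) (.lf 0))) (.nd (.nd (.lf 440) (.lf 0)) (.nd (.lf 379) (.lf 0))))))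

/-- table part -/
def posT_2 : Tr :=
  .nd (.nd (.nd (.nd (.nd (.nd (.lf 322) (.lf 573)) (.nd (.lf 41) (.lf 0))) (.nd (.nd (.lf 442) (.lf 0)) (.nd (.lf 336) (.lf 0)))) (.nd (.nd (.nd (.lf 932) (.lf 92)) (.nd (.lf 357) (.lf 0))) (.nd (.nd (.lf 910) (.lf 0)) (.nd (.lf 771) (.lf 0))))) (.nd (.nd (.nd (.nd (.lf 1066) (.lf 201)) (.nd (.lf 804) (.lf 0))) (.nd (.nd (.lf 478) (.lf 0)) (.nd (.lf 1248) (.lf 0)))) (.nd (.nd (.nd (.lf 181) (.lf 1218)) (.nd (.lf 767) (.lf 0))) (.nd (.nd (.lf 1099) (.lf 0)) (.nd (.lf 1234) (.lf 0)))))) (.nd (.nd (.nd (.nd (.nd (.lf 60) (.lf 724)) (.nd (.lf 58) (.lf 0))) (.nd (.nd (.lf 1005) (.lf 0)) (.nd (.lf 121) (.lf 0)))) (.nd (.nd (.nd (.lf 1223) (.lf 413)) (.nd (.lf 743) (.lf 0))) (.nd (.nd (.lf 1164) (.lf 0)) (.nd (.lf 979) (.lf 0))))) (.nd (.nd (.nd (.nd (.lf 756) (.lf 947)) (.nd (.lf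 928) (.lf 0))) (.nd (.nd (.lf 1147) (.lf 0)) (.nd (.lf 874) (.lf 0)))) (.nd (.nd (.nd (.lf 9) (.lf 330)) (.nd (.lf 1167) (.lf 0))) (.nd (.nd (.lf 896) (.lf 0)) (.nd (.lf 1192) (.lf 0))))))

/-- table part -/
def posT_3 : Tr :=
  .nd posT_1 posT_2

/-- table part -/
def posT_4 : Tr :=
  .nd (.nd (.nd (.nd (.nd (.nd (.lf 415) (.lf 1255)) (.nd (.lf 839) (.lf 0))) (.nd (.nd (.lf 1055) (.lf 0)) (.nd (.lf 476) (.lf 0)))) (.nd (.nd (.nd (.lf 127) (.lf 359)) (.nd (.lf 587) (.lf 0))) (.nd (.nd (.lf 846) (.lf 0)) (.nd (.lf 256) (.lf 0))))) (.nd (.nd (.nd (.nd (.lf 425) (.lf 129)) (.nd (.lf 1050) (.lf 0))) (.nd (.nd (.lf 504) (.lf 0)) (.nd (.lf 65) (.lf 0)))) (.nd (.nd (.nd (.lf 477) (.lf 862)) (.nd (.lf 765) (.lf 0))) (.nd (.nd (.lf 1231) (.lf 0)) (.nd (.lf 374) (.lf 0)))))) (.nd (.nd (.nd (.nd (.nd (.lf 1257) (.lf 291))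 (.nd (.lf 576) (.lf 0))) (.nd (.nd (.lf 274) (.lf 0)) (.nd (.lf 89) (.lf 0)))) (.nd (.nd (.nd (.lf 487) (.lf 843)) (.nd (.lf 273) (.lf 0))) (.nd (.nd (.lf 888) (.lf 0)) (.nd (.lf 985) (.lf 0))))) (.nd (.nd (.nd (.nd (.lf 96) (.lf 492)) (.nd (.lf 1109) (.lf 0))) (.nd (.nd (.lf 579) (.lf 0)) (.nd (.lf 1162) (.lf 0)))) (.nd (.nd (.nd (.lf 633) (.lf 34)) (.nd (.lf 610) (.lf 0))) (.nd (.nd (.lf 95) (.lf 0)) (.nd (.lf 30) (.lf 0))))))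

/-- table part -/
def posT_5 : Tr :=
  .nd (.nd (.nd (.nd (.nd (.nd (.lf 333) (.lf 759)) (.nd (.lf 1118) (.lf 0))) (.nd (.nd (.lf 1076) (.lf 0)) (.nd (.lf 118) (.lf 0)))) (.nd (.nd (.nd (.lf 898) (.lf 760)) (.nd (.lf 482) (.lf 0))) (.nd (.nd (.lf 191) (.lf 0)) (.nd (.lf 611) (.lf 0))))) (.nd (.nd (.nd (.nd (.lf 1070) (.lf 399)) (.nd (.lf 906) (.lf 0))) (.nd (.nd (.lf 433) (.lf 0)) (.nd (.lf 776) (.lf 0)))) (.nd (.nd (.nd (.lf 1035) (.lf 1086)) (.nd (.lf 234) (.lf 0))) (.nd (.nd (.lf 1053) (.lf 0)) (.nd (.lf 674) (.lf 0)))))) (.nd (.nd (.nd (.nd (.nd (.lf 1117) (.lf 539)) (.nd (.lf 125) (.lf 0))) (.nd (.nd (.lf 972) (.lf 0)) (.nd (.lf 737) (.lf 0)))) (.nd (.nd (.nd (.lf 642) (.lf 167)) (.nd (.lf 154) (.lf 0))) (.nd (.nd (.lf 282) (.lf 0)) (.nd (.lf 240) (.lf 0))))) (.nd (.nd (.nd (.nd (.lf 1166) (.lf 842)) (.nd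 (.lf 390) (.lf 0))) (.nd (.nd (.lf 619) (.lf 0)) (.nd (.lf 126) (.lf 0)))) (.nd (.nd (.nd (.lf 566) (.lf 1219)) (.nd (.lf 636) (.lf 0))) (.nd (.nd (.lf 959) (.lf 0)) (.nd (.lf 663) (.lf 0))))))

/-- table part -/
def posT_6 : Tr :=
  .nd posT_4 posT_5

/-- table part -/
def posT_7 : Tr :=
  .nd posT_3 posT_6

/-- table part -/
def posT_8 : Tr :=
  .nd (.nd (.nd (.nd (.nd (.nd (.lf 921) (.lf 1271)) (.nd (.lf 1194) (.lf 0))) (.nd (.nd (.lf 195) (.lf 718)) (.nd (.lf 466) (.lf 0)))) (.nd (.nd (.nd (.lf 849) (.lf 895)) (.nd (.lf 786) (.lf 0))) (.nd (.nd (.lf 685) (.lf 0)) (.nd (.lf 625) (.lf 0))))) (.nd (.nd (.nd (.nd (.lf 834) (.lf 241)) (.nd (.lf 443) (.lf 0))) (.nd (.nd (.lf 1140) (.lf 0)) (.nd (.lf 757) (.lf 0)))) (.nd (.nd (.nd (.lf 253) (.lf 521)) (.nd (.lf 1019) (.lf 0))) (.nd (.nd (.lf 372) (.lf 0)) (.nd (.lf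 736) (.lf 0)))))) (.nd (.nd (.nd (.nd (.nd (.lf 1199) (.lf 872)) (.nd (.lf 396) (.lf 0))) (.nd (.nd (.lf 1142) (.lf 0)) (.nd (.lf 1200) (.lf 0)))) (.nd (.nd (.nd (.lf 76) (.lf 1020)) (.nd (.lf 217) (.lf 0))) (.nd (.nd (.lf 709) (.lf 0)) (.nd (.lf 1013) (.lf 0))))) (.nd (.nd (.nd (.nd (.lf 659) (.lf 431)) (.nd (.lf 347) (.lf 0))) (.nd (.nd (.lf 97) (.lf 0)) (.nd (.lf 637) (.lf 0)))) (.nd (.nd (.nd (.lf 314) (.lf 1033)) (.nd (.lf 83) (.lf 0))) (.nd (.nd (.lf 859) (.lf 0)) (.nd (.lf 132) (.lf 0))))))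

/-- table part -/
def posT_9 : Tr :=
  .nd (.nd (.nd (.nd (.nd (.nd (.lf 250) (.lf 225)) (.nd (.lf 867) (.lf 0))) (.nd (.nd (.lf 1126) (.lf 0)) (.nd (.lf 485) (.lf 0)))) (.nd (.nd (.nd (.lf 795) (.lf 146)) (.nd (.lf 986) (.lf 0))) (.nd (.nd (.lf 853) (.lf 0)) (.nd (.lf 212) (.lf 0))))) (.nd (.nd (.nd (.nd (.lf 808) (.lf 1285)) (.nd (.lf 238) (.lf 0))) (.nd (.nd (.lf 1268) (.lf 0)) (.nd (.lf 797) (.lf 0)))) (.nd (.nd (.nd (.lf 1037) (.lf 1084)) (.nd (.lf 927) (.lf 0))) (.nd (.nd (.lf 726) (.lf 0)) (.nd (.lf 182) (.lf 0)))))) (.nd (.nd (.nd (.nd (.nd (.lf 237) (.lf 204)) (.nd (.lf 763) (.lf 0))) (.nd (.nd (.lf 701) (.lf 0)) (.nd (.lf 582) (.lf 0)))) (.nd (.nd (.nd (.lf 1210) (.lf 520)) (.nd (.lf 1232) (.lf 0))) (.nd (.nd (.lf 310) (.lf 0)) (.nd (.lf 708) (.lf 0))))) (.nd (.nd (.nd (.nd (.lf 140) (.lf 1274)) (.nd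 (.lf 1158) (.lf 0))) (.nd (.nd (.lf 305) (.lf 0)) (.nd (.lf 230) (.lf 0)))) (.nd (.nd (.nd (.lf 1145) (.lf 884)) (.nd (.lf 507) (.lf 0))) (.nd (.nd (.lf 1237) (.lf 0)) (.nd (.lf 869) (.lf 0))))))

/-- table part -/
def posT_10 : Tr :=
  .nd posT_8 posT_9

/-- table part -/
def posT_11 : Tr :=
  .nd (.nd (.nd (.nd (.nd (.nd (.lf 955) (.lf 764)) (.nd (.lf 850) (.lf 0))) (.nd (.nd (.lf 715) (.lf 0)) (.nd (.lf 686) (.lf 0)))) (.nd (.nd (.nd (.lf 441) (.lf 219)) (.nd (.lf 263) (.lf 0))) (.nd (.nd (.lf 841) (.lf 0)) (.nd (.lf 978) (.lf 0))))) (.nd (.nd (.nd (.nd (.lf 460) (.lf 193)) (.nd (.lf 302) (.lf 0))) (.nd (.nd (.lf 1071) (.lf 0)) (.nd (.lf 1249) (.lf 0)))) (.nd (.nd (.nd (.lf 258) (.lf 295)) (.nd (.lf 873) (.lf 0))) (.nd (.nd (.lf 387) (.lf 0)) (.nd (.lf 488) (.lf 0)))))) (.nd (.nd (.nd (.nd (.nd (.lf 1155) (.lf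 754)) (.nd (.lf 178) (.lf 0))) (.nd (.nd (.lf 593) (.lf 0)) (.nd (.lf 491) (.lf 0)))) (.nd (.nd (.nd (.lf 1015) (.lf 528)) (.nd (.lf 926) (.lf 0))) (.nd (.nd (.lf 809) (.lf 0)) (.nd (.lf 308) (.lf 0))))) (.nd (.nd (.nd (.nd (.lf 961) (.lf 436)) (.nd (.lf 738) (.lf 0))) (.nd (.nd (.lf 601) (.lf 0)) (.nd (.lf 1063) (.lf 0)))) (.nd (.nd (.nd (.lf 1253) (.lf 861)) (.nd (.lf 1094) (.lf 0))) (.nd (.nd (.lf 122) (.lf 0)) (.nd (.lf 578) (.lf 0))))))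

/-- table part -/
def posT_12 : Tr :=
  .nd (.nd (.nd (.nd (.nd (.nd (.lf 784) (.lf 644)) (.nd (.lf 769) (.lf 0))) (.nd (.nd (.lf 1119) (.lf 0)) (.nd (.lf 1182) (.lf 0)))) (.nd (.nd (.nd (.lf 70) (.lf 532)) (.nd (.lf 594) (.lf 0))) (.nd (.nd (.lf 1240) (.lf 0)) (.nd (.lf 1108) (.lf 0))))) (.nd (.nd (.nd (.nd (.lf 527) (.lf 536)) (.nd (.lf 422) (.lf 0))) (.nd (.nd (.lf 516) (.lf 0)) (.nd (.lf 36) (.lf 0)))) (.nd (.nd (.nd (.lf 428) (.lf 481)) (.nd (.lf 232) (.lf 0))) (.nd (.nd (.lf 723) (.lf 0)) (.nd (.lf 312) (.lf 0)))))) (.nd (.nd (.nd (.nd (.nd (.lf 1138) (.lf 991)) (.nd (.lf 1216) (.lf 0))) (.nd (.nd (.lf 404) (.lf 0)) (.nd (.lf 164) (.lf 0)))) (.nd (.nd (.nd (.lf 189) (.lf 398)) (.nd (.lf 400) (.lf 0))) (.nd (.nd (.lf 585) (.lf 0)) (.nd (.lf 102) (.lf 0))))) (.nd (.nd (.nd (.nd (.lf 785) (.lf 660)) (.nd (.lf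 411) (.lf 0))) (.nd (.nd (.lf 944) (.lf 0)) (.nd (.lf 287) (.lf 0)))) (.nd (.nd (.nd (.lf 207) (.lf 931)) (.nd (.lf 1120) (.lf 0))) (.nd (.nd (.lf 213) (.lf 0)) (.nd (.lf 628) (.lf 0))))))

/-- table part -/
def posT_13 : Tr :=
  .nd posT_11 posT_12

/-- table part -/
def posT_14 : Tr :=
  .nd posT_10 posT_13

/-- table part -/
def posT_15 : Tr :=
  .nd posT_7 posT_14

/-- table part -/
def posT_16 : Tr :=
  .nd (.nd (.nd (.nd (.nd (.nd (.lf 1132) (.lf 277)) (.nd (.lf 370) (.lf 0))) (.nd (.nd (.lf 684) (.lf 1161)) (.nd (.lf 1110) (.lf 0)))) (.nd (.nd (.nd (.lf 751) (.lf 1001)) (.nd (.lf 50) (.lf 0))) (.nd (.nd (.lf 324) (.lf 0)) (.nd (.lf 828) (.lf 0))))) (.nd (.nd (.nd (.nd (.lf 11) (.lf 1085)) (.nd (.lf 935) (.lf 0))) (.nd (.nd (.lf 289) (.lf 0)) (.nd (.lf 999) (.lf 0)))) (.nd (.nd (.nd (.lf 522) (.lf 197))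 (.nd (.lf 1280) (.lf 0))) (.nd (.nd (.lf 572) (.lf 0)) (.nd (.lf 965) (.lf 0)))))) (.nd (.nd (.nd (.nd (.nd (.lf 261) (.lf 766)) (.nd (.lf 1183) (.lf 0))) (.nd (.nd (.lf 269) (.lf 0)) (.nd (.lf 290) (.lf 0)))) (.nd (.nd (.nd (.lf 170) (.lf 39)) (.nd (.lf 894) (.lf 0))) (.nd (.nd (.lf 402) (.lf 0)) (.nd (.lf 423) (.lf 0))))) (.nd (.nd (.nd (.nd (.lf 1209) (.lf 699)) (.nd (.lf 696) (.lf 0))) (.nd (.nd (.lf 175) (.lf 0)) (.nd (.lf 616) (.lf 0)))) (.nd (.nd (.nd (.lf 257) (.lf 16)) (.nd (.lf 475) (.lf 0))) (.nd (.nd (.lf 354) (.lf 0)) (.nd (.lf 307) (.lf 0))))))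

/-- table part -/
def posT_17 : Tr :=
  .nd (.nd (.nd (.nd (.nd (.nd (.lf 707) (.lf 288)) (.nd (.lf 948) (.lf 0))) (.nd (.nd (.lf 37) (.lf 0)) (.nd (.lf 353) (.lf 0)))) (.nd (.nd (.nd (.lf 262) (.lf 283)) (.nd (.lf 719) (.lf 0))) (.nd (.nd (.lf 1096) (.lf 0)) (.nd (.lf 777) (.lf 0))))) (.nd (.nd (.nd (.nd (.lf 199) (.lf 1115)) (.nd (.lf 741) (.lf 0))) (.nd (.nd (.lf 224) (.lf 0)) (.nd (.lf 1095) (.lf 0)))) (.nd (.nd (.nd (.lf 42) (.lf 600)) (.nd (.lf 205) (.lf 0))) (.nd (.nd (.lf 691) (.lf 0)) (.nd (.lf 1036) (.lf 0)))))) (.nd (.nd (.nd (.nd (.nd (.lf 681) (.lf 101)) (.nd (.lf 24) (.lf 0))) (.nd (.nd (.lf 468) (.lf 0)) (.nd (.lf 881) (.lf 0)))) (.nd (.nd (.nd (.lf 409) (.lf 148)) (.nd (.lf 1047) (.lf 0))) (.nd (.nd (.lf 375) (.lf 0)) (.nd (.lf 1059) (.lf 0))))) (.nd (.nd (.nd (.nd (.lf 1180) (.lf 969)) (.nd (.lf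 983) (.lf 0))) (.nd (.nd (.lf 228) (.lf 0)) (.nd (.lf 1205) (.lf 0)))) (.nd (.nd (.nd (.lf 0) (.lf 79)) (.nd (.lf 1220) (.lf 0))) (.nd (.nd (.lf 1193) (.lf 0)) (.nd (.lf 1189) (.lf 0))))))

/-- table part -/
def posT_18 : Tr :=
  .nd posT_16 posT_17

/-- table part -/
def posT_19 : Tr :=
  .nd (.nd (.nd (.nd (.nd (.nd (.lf 549) (.lf 449)) (.nd (.lf 110) (.lf 0))) (.nd (.nd (.lf 811) (.lf 0)) (.nd (.lf 458) (.lf 0)))) (.nd (.nd (.nd (.lf 6) (.lf 930)) (.nd (.lf 1009) (.lf 0))) (.nd (.nd (.lf 911) (.lf 0)) (.nd (.lf 88) (.lf 0))))) (.nd (.nd (.nd (.nd (.lf 202) (.lf 550)) (.nd (.lf 586) (.lf 0))) (.nd (.nd (.lf 823) (.lf 0)) (.nd (.lf 1208) (.lf 0)))) (.nd (.nd (.nd (.lf 791) (.lf 1012)) (.nd (.lf 949) (.lf 0))) (.nd (.nd (.lf 1176) (.lf 0)) (.nd (.lf 176) (.lf 0)))))) (.nd (.nd (.nd (.nd (.nd (.lf 651) (.lf 826))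 (.nd (.lf 19) (.lf 0))) (.nd (.nd (.lf 1032) (.lf 0)) (.nd (.lf 673) (.lf 0)))) (.nd (.nd (.nd (.lf 722) (.lf 113)) (.nd (.lf 346) (.lf 0))) (.nd (.nd (.lf 1114) (.lf 0)) (.nd (.lf 630) (.lf 0))))) (.nd (.nd (.nd (.nd (.lf 974) (.lf 14)) (.nd (.lf 31) (.lf 0))) (.nd (.nd (.lf 106) (.lf 0)) (.nd (.lf 1022) (.lf 0)))) (.nd (.nd (.nd (.lf 174) (.lf 233)) (.nd (.lf 604) (.lf 0))) (.nd (.nd (.lf 141) (.lf 0)) (.nd (.lf 165) (.lf 0))))))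

/-- table part -/
def posT_20 : Tr :=
  .nd (.nd (.nd (.nd (.nd (.nd (.lf 463) (.lf 377)) (.nd (.lf 246) (.lf 0))) (.nd (.nd (.lf 599) (.lf 0)) (.nd (.lf 61) (.lf 0)))) (.nd (.nd (.nd (.lf 157) (.lf 49)) (.nd (.lf 796) (.lf 0))) (.nd (.nd (.lf 57) (.lf 0)) (.nd (.lf 1206) (.lf 0))))) (.nd (.nd (.nd (.nd (.lf 245) (.lf 837)) (.nd (.lf 525) (.lf 0))) (.nd (.nd (.lf 1270) (.lf 0)) (.nd (.lf 150) (.lf 0)))) (.nd (.nd (.nd (.lf 210) (.lf 439)) (.nd (.lf 1010) (.lf 0))) (.nd (.nd (.lf 596) (.lf 0)) (.nd (.lf 914) (.lf 0)))))) (.nd (.nd (.nd (.nd (.nd (.lf 337) (.lf 779)) (.nd (.lf 806) (.lf 0))) (.nd (.nd (.lf 829) (.lf 0)) (.nd (.lf 1146) (.lf 0)))) (.nd (.nd (.nd (.lf 363) (.lf 229)) (.nd (.lf 297) (.lf 0))) (.nd (.nd (.lf 952) (.lf 0)) (.nd (.lf 309) (.lf 0))))) (.nd (.nd (.nd (.nd (.lf 15) (.lf 172)) (.nd (.lf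 489) (.lf 0))) (.nd (.nd (.lf 937) (.lf 0)) (.nd (.lf 453) (.lf 0)))) (.nd (.nd (.nd (.lf 1080) (.lf 429)) (.nd (.lf 208) (.lf 0))) (.nd (.nd (.lf 1236) (.lf 0)) (.nd (.lf 508) (.lf 0))))))

/-- table part -/
def posT_21 : Tr :=
  .nd posT_19 posT_20

/-- table part -/
def posT_22 : Tr :=
  .nd posT_18 posT_21

/-- table part -/
def posT_23 : Tr :=
  .nd (.nd (.nd (.nd (.nd (.nd (.lf 583) (.lf 394)) (.nd (.lf 860) (.lf 0))) (.nd (.nd (.lf 300) (.lf 801)) (.nd (.lf 405) (.lf 0)))) (.nd (.nd (.nd (.lf 275) (.lf 729)) (.nd (.lf 161) (.lf 0))) (.nd (.nd (.lf 1261) (.lf 0)) (.nd (.lf 731) (.lf 0))))) (.nd (.nd (.nd (.nd (.lf 311) (.lf 648)) (.nd (.lf 820) (.lf 0))) (.nd (.nd (.lf 410) (.lf 0)) (.nd (.lf 1159) (.lf 0)))) (.nd (.nd (.nd (.lf 459) (.lf 824)) (.nd (.lf 1105) (.lf 0))) (.nd (.nd (.lf 1052) (.lf 0)) (.nd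 (.lf 891) (.lf 0)))))) (.nd (.nd (.nd (.nd (.nd (.lf 609) (.lf 971)) (.nd (.lf 160) (.lf 0))) (.nd (.nd (.lf 564) (.lf 0)) (.nd (.lf 63) (.lf 0)))) (.nd (.nd (.nd (.lf 304) (.lf 975)) (.nd (.lf 792) (.lf 0))) (.nd (.nd (.lf 571) (.lf 0)) (.nd (.lf 1024) (.lf 0))))) (.nd (.nd (.nd (.nd (.lf 1128) (.lf 1260)) (.nd (.lf 298) (.lf 0))) (.nd (.nd (.lf 787) (.lf 0)) (.nd (.lf 1121) (.lf 0)))) (.nd (.nd (.nd (.lf 1269) (.lf 1111)) (.nd (.lf 445) (.lf 0))) (.nd (.nd (.lf 383) (.lf 0)) (.nd (.lf 117) (.lf 0))))))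

/-- table part -/
def posT_24 : Tr :=
  .nd (.nd (.nd (.nd (.nd (.nd (.lf 82) (.lf 130)) (.nd (.lf 1091) (.lf 0))) (.nd (.nd (.lf 267) (.lf 0)) (.nd (.lf 1178) (.lf 0)))) (.nd (.nd (.nd (.lf 900) (.lf 703)) (.nd (.lf 526) (.lf 0))) (.nd (.nd (.lf 661) (.lf 0)) (.nd (.lf 438) (.lf 0))))) (.nd (.nd (.nd (.nd (.lf 28) (.lf 692)) (.nd (.lf 728) (.lf 0))) (.nd (.nd (.lf 59) (.lf 0)) (.nd (.lf 190) (.lf 0)))) (.nd (.nd (.nd (.lf 1154) (.lf 917)) (.nd (.lf 1134) (.lf 0))) (.nd (.nd (.lf 548) (.lf 0)) (.nd (.lf 772) (.lf 0)))))) (.nd (.nd (.nd (.nd (.nd (.lf 517) (.lf 570)) (.nd (.lf 215) (.lf 0))) (.nd (.nd (.lf 1067) (.lf 0)) (.nd (.lf 418) (.lf 0)))) (.nd (.nd (.nd (.lf 222) (.lf 665)) (.nd (.lf 588) (.lf 0))) (.nd (.nd (.lf 535) (.lf 0)) (.nd (.lf 315) (.lf 0))))) (.nd (.nd (.nd (.nd (.lf 702) (.lf 597)) (.nd (.lf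 688) (.lf 0))) (.nd (.nd (.lf 733) (.lf 0)) (.nd (.lf 33) (.lf 0)))) (.nd (.nd (.nd (.lf 554) (.lf 875)) (.nd (.lf 698) (.lf 0))) (.nd (.nd (.lf 893) (.lf 0)) (.nd (.lf 946) (.lf 0))))))

/-- table part -/
def posT_25 : Tr :=
  .nd posT_23 posT_24

/-- table part -/
def posT_26 : Tr :=
  .nd (.nd (.nd (.nd (.nd (.nd (.lf 1254) (.lf 631)) (.nd (.lf 259) (.lf 0))) (.nd (.nd (.lf 560) (.lf 0)) (.nd (.lf 276) (.lf 0)))) (.nd (.nd (.nd (.lf 800) (.lf 266)) (.nd (.lf 814) (.lf 0))) (.nd (.nd (.lf 822) (.lf 0)) (.nd (.lf 188) (.lf 0))))) (.nd (.nd (.nd (.nd (.lf 1026) (.lf 812)) (.nd (.lf 427) (.lf 0))) (.nd (.nd (.lf 543) (.lf 0)) (.nd (.lf 17) (.lf 0)))) (.nd (.nd (.nd (.lf 1267) (.lf 802)) (.nd (.lf 173) (.lf 0))) (.nd (.nd (.lf 220) (.lf 0)) (.nd (.lf 1179) (.lf 0)))))) (.nd (.nd (.nd (.nd (.nd (.lf 886) (.lf 185))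 (.nd (.lf 393) (.lf 0))) (.nd (.nd (.lf 697) (.lf 0)) (.nd (.lf 149) (.lf 0)))) (.nd (.nd (.nd (.lf 1002) (.lf 782)) (.nd (.lf 85) (.lf 0))) (.nd (.nd (.lf 281) (.lf 0)) (.nd (.lf 465) (.lf 0))))) (.nd (.nd (.nd (.nd (.lf 1203) (.lf 239)) (.nd (.lf 1136) (.lf 0))) (.nd (.nd (.lf 547) (.lf 0)) (.nd (.lf 329) (.lf 0)))) (.nd (.nd (.nd (.lf 664) (.lf 255)) (.nd (.lf 388) (.lf 0))) (.nd (.nd (.lf 667) (.lf 0)) (.nd (.lf 720) (.lf 0))))))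

/-- table part -/
def posT_27 : Tr :=
  .nd (.nd (.nd (.nd (.nd (.nd (.lf 285) (.lf 982)) (.nd (.lf 606) (.lf 0))) (.nd (.nd (.lf 870) (.lf 0)) (.nd (.lf 454) (.lf 0)))) (.nd (.nd (.nd (.lf 844) (.lf 1130)) (.nd (.lf 992) (.lf 0))) (.nd (.nd (.lf 456) (.lf 0)) (.nd (.lf 915) (.lf 0))))) (.nd (.nd (.nd (.nd (.lf 591) (.lf 380)) (.nd (.lf 1163) (.lf 0))) (.nd (.nd (.lf 913) (.lf 0)) (.nd (.lf 753) (.lf 0)))) (.nd (.nd (.nd (.lf 712) (.lf 236)) (.nd (.lf 1077) (.lf 0))) (.nd (.nd (.lf 68) (.lf 0)) (.nd (.lf 700) (.lf 0)))))) (.nd (.nd (.nd (.nd (.nd (.lf 351) (.lf 827)) (.nd (.lf 279) (.lf 0))) (.nd (.nd (.lf 885) (.lf 0)) (.nd (.lf 424) (.lf 0)))) (.nd (.nd (.nd (.lf 1131) (.lf 462)) (.nd (.lf 646) (.lf 0))) (.nd (.nd (.lf 386) (.lf 0)) (.nd (.lf 169) (.lf 0))))) (.nd (.nd (.nd (.nd (.lf 1198) (.lf 500)) (.nd (.lf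 44) (.lf 0))) (.nd (.nd (.lf 1262) (.lf 0)) (.nd (.lf 382) (.lf 0)))) (.nd (.nd (.nd (.lf 151) (.lf 838)) (.nd (.lf 1028) (.lf 0))) (.nd (.nd (.lf 1226) (.lf 0)) (.nd (.lf 1190) (.lf 0))))))

/-- table part -/
def posT_28 : Tr :=
  .nd posT_26 posT_27

/-- table part -/
def posT_29 : Tr :=
  .nd posT_25 posT_28

/-- table part -/
def posT_30 : Tr :=
  .nd posT_22 posT_29

/-- table part -/
def posT_31 : Tr :=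
  .nd posT_15 posT_30

/-- table part -/
def posT_32 : Tr :=
  .nd (.nd (.nd (.nd (.nd (.nd (.lf 1225) (.lf 1083)) (.nd (.lf 558) (.lf 0))) (.nd (.nd (.lf 714) (.lf 821)) (.nd (.lf 23) (.lf 0)))) (.nd (.nd (.nd (.lf 124) (.lf 1165)) (.nd (.lf 120) (.lf 0))) (.nd (.nd (.lf 788) (.lf 0)) (.nd (.lf 278) (.lf 0))))) (.nd (.nd (.nd (.nd (.lf 364) (.lf 695)) (.nd (.lf 790) (.lf 0))) (.nd (.nd (.lf 153) (.lf 0)) (.nd (.lf 123) (.lf 0)))) (.nd (.nd (.nd (.lf 71) (.lf 629)) (.nd (.lf 1265) (.lf 0))) (.nd (.nd (.lf 119) (.lf 0)) (.nd (.lf 789) (.lf 0)))))) (.nd (.nd (.nd (.nd (.nd (.lf 355) (.lf 385)) (.nd (.lf 996) (.lf 0))) (.nd (.nd (.lf 473) (.lf 0)) (.nd (.lf 1191) (.lf 0)))) (.nd (.nd (.nd (.lf 264) (.lf 773)) (.nd (.lf 1150) (.lf 0))) (.nd (.nd (.lf 647) (.lf 0)) (.nd (.lf 209) (.lf 0))))) (.nd (.nd (.nd (.nd (.lf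 1029) (.lf 368)) (.nd (.lf 555) (.lf 0))) (.nd (.nd (.lf 317) (.lf 0)) (.nd (.lf 752) (.lf 0)))) (.nd (.nd (.nd (.lf 447) (.lf 1239)) (.nd (.lf 1215) (.lf 0))) (.nd (.nd (.lf 725) (.lf 0)) (.nd (.lf 25) (.lf 0))))))

/-- table part -/
def posT_33 : Tr :=
  .nd (.nd (.nd (.nd (.nd (.nd (.lf 231) (.lf 545)) (.nd (.lf 378) (.lf 0))) (.nd (.nd (.lf 358) (.lf 0)) (.nd (.lf 634) (.lf 0)))) (.nd (.nd (.nd (.lf 675) (.lf 1185)) (.nd (.lf 1202) (.lf 0))) (.nd (.nd (.lf 740) (.lf 0)) (.nd (.lf 863) (.lf 0))))) (.nd (.nd (.nd (.nd (.lf 152) (.lf 608)) (.nd (.lf 1097) (.lf 0))) (.nd (.nd (.lf 803) (.lf 0)) (.nd (.lf 542) (.lf 0)))) (.nd (.nd (.nd (.lf 98) (.lf 1168)) (.nd (.lf 655) (.lf 0))) (.nd (.nd (.lf 104) (.lf 0)) (.nd (.lf 1040) (.lf 0)))))) (.nd (.nd (.nd (.nd (.nd (.lf 1211) (.lf 80)) (.nd (.lf 510) (.lf 0))) (.nd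 (.nd (.lf 18) (.lf 0)) (.nd (.lf 1122) (.lf 0)))) (.nd (.nd (.nd (.lf 514) (.lf 626)) (.nd (.lf 805) (.lf 0))) (.nd (.nd (.lf 200) (.lf 0)) (.nd (.lf 420) (.lf 0))))) (.nd (.nd (.nd (.nd (.lf 7) (.lf 1204)) (.nd (.lf 680) (.lf 0))) (.nd (.nd (.lf 362) (.lf 0)) (.nd (.lf 435) (.lf 0)))) (.nd (.nd (.nd (.lf 416) (.lf 75)) (.nd (.lf 1217) (.lf 0))) (.nd (.nd (.lf 988) (.lf 0)) (.nd (.lf 735) (.lf 0))))))

/-- table part -/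
def posT_34 : Tr :=
  .nd posT_32 posT_33

/-- table part -/
def posT_35 : Tr :=
  .nd (.nd (.nd (.nd (.nd (.nd (.lf 158) (.lf 211)) (.nd (.lf 64) (.lf 0))) (.nd (.nd (.lf 342) (.lf 0)) (.nd (.lf 615) (.lf 0)))) (.nd (.nd (.nd (.lf 512) (.lf 156)) (.nd (.lf 506) (.lf 0))) (.nd (.nd (.lf 1124) (.lf 0)) (.nd (.lf 669) (.lf 0))))) (.nd (.nd (.nd (.nd (.lf 248) (.lf 490)) (.nd (.lf 612) (.lf 0))) (.nd (.nd (.lf 1079) (.lf 0)) (.nd (.lf 328) (.lf 0)))) (.nd (.nd (.nd (.lf 67) (.lf 177)) (.nd (.lf 1272) (.lf 0))) (.nd (.nd (.lf 1263) (.lf 0)) (.nd (.lf 376) (.lf 0)))))) (.nd (.nd (.nd (.nd (.nd (.lf 1266) (.lf 565)) (.nd (.lf 20) (.lf 0))) (.nd (.nd (.lf 1227) (.lf 0)) (.nd (.lf 727) (.lf 0)))) (.nd (.nd (.nd (.lf 1230) (.lf 1082)) (.nd (.lf 55) (.lf 0))) (.nd (.nd (.lf 198) (.lf 0)) (.nd (.lf 1133) (.lf 0))))) (.nd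 (.nd (.nd (.nd (.lf 38) (.lf 640)) (.nd (.lf 998) (.lf 0))) (.nd (.nd (.lf 434) (.lf 0)) (.nd (.lf 1177) (.lf 0)))) (.nd (.nd (.nd (.lf 1139) (.lf 989)) (.nd (.lf 292) (.lf 0))) (.nd (.nd (.lf 345) (.lf 0)) (.nd (.lf 690) (.lf 0))))))

/-- table part -/
def posT_36 : Tr :=
  .nd (.nd (.nd (.nd (.nd (.nd (.lf 3) (.lf 1127)) (.nd (.lf 107) (.lf 0))) (.nd (.nd (.lf 1046) (.lf 0)) (.nd (.lf 338) (.lf 0)))) (.nd (.nd (.nd (.lf 1282) (.lf 993)) (.nd (.lf 592) (.lf 0))) (.nd (.nd (.lf 35) (.lf 0)) (.nd (.lf 303) (.lf 0))))) (.nd (.nd (.nd (.nd (.lf 448) (.lf 1214)) (.nd (.lf 847) (.lf 0))) (.nd (.nd (.lf 1090) (.lf 0)) (.nd (.lf 221) (.lf 0)))) (.nd (.nd (.nd (.lf 316) (.lf 960)) (.nd (.lf 676) (.lf 0))) (.nd (.nd (.lf 432) (.lf 0)) (.nd (.lf 929) (.lf 0)))))) (.nd (.nd (.nd (.nd (.nd (.lf 397) (.lf 1074)) (.nd (.lf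 848) (.lf 0))) (.nd (.nd (.lf 933) (.lf 0)) (.nd (.lf 882) (.lf 0)))) (.nd (.nd (.nd (.lf 218) (.lf 249)) (.nd (.lf 137) (.lf 0))) (.nd (.nd (.lf 671) (.lf 0)) (.nd (.lf 348) (.lf 0))))) (.nd (.nd (.nd (.nd (.lf 890) (.lf 603)) (.nd (.lf 74) (.lf 0))) (.nd (.nd (.lf 455) (.lf 0)) (.nd (.lf 589) (.lf 0)))) (.nd (.nd (.nd (.lf 486) (.lf 568)) (.nd (.lf 335) (.lf 0))) (.nd (.nd (.lf 956) (.lf 0)) (.nd (.lf 471) (.lf 0))))))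

/-- table part -/
def posT_37 : Tr :=
  .nd posT_35 posT_36

/-- table part -/
def posT_38 : Tr :=
  .nd posT_34 posT_37

/-- table part -/
def posT_39 : Tr :=
  .nd (.nd (.nd (.nd (.nd (.nd (.lf 479) (.lf 503)) (.nd (.lf 1197) (.lf 0))) (.nd (.nd (.lf 184) (.lf 53)) (.nd (.lf 100) (.lf 0)))) (.nd (.nd (.nd (.lf 1021) (.lf 747)) (.nd (.lf 484) (.lf 0))) (.nd (.nd (.lf 1014) (.lf 0)) (.nd (.lf 1201) (.lf 0))))) (.nd (.nd (.nd (.nd (.lf 925) (.lf 1075)) (.nd (.lf 721) (.lf 0))) (.nd (.nd (.lf 544) (.lf 0)) (.nd (.lf 770) (.lf 0)))) (.nd (.nd (.nd (.lf 389) (.lf 1039)) (.nd (.lf 883) (.lf 0))) (.nd (.nd (.lf 530) (.lf 0)) (.nd (.lf 793) (.lf 0)))))) (.nd (.nd (.nd (.nd (.nd (.lf 452) (.lf 166)) (.nd (.lf 51) (.lf 0))) (.nd (.nd (.lf 139) (.lf 0)) (.nd (.lf 815) (.lf 0)))) (.nd (.nd (.nd (.lf 90) (.lf 980)) (.nd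 (.lf 13) (.lf 0))) (.nd (.nd (.lf 919) (.lf 0)) (.nd (.lf 1065) (.lf 0))))) (.nd (.nd (.nd (.nd (.lf 1229) (.lf 143)) (.nd (.lf 1242) (.lf 0))) (.nd (.nd (.lf 1058) (.lf 0)) (.nd (.lf 1144) (.lf 0)))) (.nd (.nd (.nd (.lf 538) (.lf 1151)) (.nd (.lf 621) (.lf 0))) (.nd (.nd (.lf 825) (.lf 0)) (.nd (.lf 136) (.lf 0))))))

/-- table part -/
def posT_40 : Tr :=
  .nd (.nd (.nd (.nd (.nd (.nd (.lf 835) (.lf 105)) (.nd (.lf 605) (.lf 0))) (.nd (.nd (.lf 497) (.lf 0)) (.nd (.lf 162) (.lf 0)))) (.nd (.nd (.nd (.lf 1100) (.lf 683)) (.nd (.lf 658) (.lf 0))) (.nd (.nd (.lf 613) (.lf 0)) (.nd (.lf 45) (.lf 0))))) (.nd (.nd (.nd (.nd (.lf 1000) (.lf 987)) (.nd (.lf 93) (.lf 0))) (.nd (.nd (.lf 679) (.lf 0)) (.nd (.lf 446) (.lf 0)))) (.nd (.nd (.nd (.lf 265) (.lf 1104)) (.nd (.lf 1042) (.lf 0))) (.nd (.nd (.lf 864) (.lf 0))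 (.nd (.lf 799) (.lf 0)))))) (.nd (.nd (.nd (.nd (.nd (.lf 371) (.lf 962)) (.nd (.lf 614) (.lf 0))) (.nd (.nd (.lf 677) (.lf 0)) (.nd (.lf 77) (.lf 0)))) (.nd (.nd (.nd (.lf 1143) (.lf 1187)) (.nd (.lf 469) (.lf 0))) (.nd (.nd (.lf 918) (.lf 0)) (.nd (.lf 641) (.lf 0))))) (.nd (.nd (.nd (.nd (.lf 851) (.lf 1186)) (.nd (.lf 163) (.lf 0))) (.nd (.nd (.lf 1148) (.lf 0)) (.nd (.lf 223) (.lf 0)))) (.nd (.nd (.nd (.lf 1107) (.lf 574)) (.nd (.lf 1196) (.lf 0))) (.nd (.nd (.lf 639) (.lf 0)) (.nd (.lf 575) (.lf 0))))))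

/-- table part -/
def posT_41 : Tr :=
  .nd posT_39 posT_40

/-- table part -/
def posT_42 : Tr :=
  .nd (.nd (.nd (.nd (.nd (.nd (.lf 813) (.lf 964)) (.nd (.lf 836) (.lf 0))) (.nd (.nd (.lf 657) (.lf 0)) (.nd (.lf 645) (.lf 0)))) (.nd (.nd (.nd (.lf 561) (.lf 293)) (.nd (.lf 192) (.lf 0))) (.nd (.nd (.lf 995) (.lf 0)) (.nd (.lf 994) (.lf 0))))) (.nd (.nd (.nd (.nd (.lf 584) (.lf 1)) (.nd (.lf 551) (.lf 0))) (.nd (.nd (.lf 704) (.lf 0)) (.nd (.lf 580) (.lf 0)))) (.nd (.nd (.nd (.lf 945) (.lf 553)) (.nd (.lf 643) (.lf 0))) (.nd (.nd (.lf 845) (.lf 0)) (.nd (.lf 1212) (.lf 0)))))) (.nd (.nd (.nd (.nd (.nd (.lf 483) (.lf 32)) (.nd (.lf 412) (.lf 0))) (.nd (.nd (.lf 84) (.lf 0)) (.nd (.lf 638) (.lf 0)))) (.nd (.nd (.nd (.lf 1172) (.lf 1258)) (.nd (.lf 414) (.lf 0))) (.nd (.nd (.lf 1031) (.lf 0)) (.nd (.lf 515) (.lf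 0))))) (.nd (.nd (.nd (.nd (.lf 816) (.lf 252)) (.nd (.lf 1061) (.lf 0))) (.nd (.nd (.lf 1051) (.lf 0)) (.nd (.lf 940) (.lf 0)))) (.nd (.nd (.nd (.lf 1088) (.lf 762)) (.nd (.lf 1060) (.lf 0))) (.nd (.nd (.lf 627) (.lf 0)) (.nd (.lf 450) (.lf 0))))))

/-- table part -/
def posT_43 : Tr :=
  .nd (.nd (.nd (.nd (.nd (.nd (.lf 912) (.lf 607)) (.nd (.lf 1259) (.lf 0))) (.nd (.nd (.lf 1069) (.lf 0)) (.nd (.lf 1283) (.lf 0)))) (.nd (.nd (.nd (.lf 730) (.lf 924)) (.nd (.lf 128) (.lf 0))) (.nd (.nd (.lf 327) (.lf 0)) (.nd (.lf 1057) (.lf 0))))) (.nd (.nd (.nd (.nd (.lf 1184) (.lf 1247)) (.nd (.lf 1246) (.lf 0))) (.nd (.nd (.lf 331) (.lf 0)) (.nd (.lf 81) (.lf 0)))) (.nd (.nd (.nd (.lf 180) (.lf 1043)) (.nd (.lf 750) (.lf 0))) (.nd (.nd (.lf 990) (.lf 0)) (.nd (.lf 48) (.lf 0)))))) (.nd (.nd (.nd (.nd (.nd (.lf 559) (.lf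 866)) (.nd (.lf 739) (.lf 0))) (.nd (.nd (.lf 109) (.lf 0)) (.nd (.lf 567) (.lf 0)))) (.nd (.nd (.nd (.lf 325) (.lf 360)) (.nd (.lf 301) (.lf 0))) (.nd (.nd (.lf 214) (.lf 0)) (.nd (.lf 682) (.lf 0))))) (.nd (.nd (.nd (.nd (.lf 977) (.lf 1004)) (.nd (.lf 373) (.lf 0))) (.nd (.nd (.lf 1252) (.lf 0)) (.nd (.lf 134) (.lf 0)))) (.nd (.nd (.nd (.lf 296) (.lf 595)) (.nd (.lf 746) (.lf 0))) (.nd (.nd (.lf 498) (.lf 0)) (.nd (.lf 748) (.lf 0))))))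

/-- table part -/
def posT_44 : Tr :=
  .nd posT_42 posT_43

/-- table part -/
def posT_45 : Tr :=
  .nd posT_41 posT_44

/-- table part -/
def posT_46 : Tr :=
  .nd posT_38 posT_45

/-- table part -/
def posT_47 : Tr :=
  .nd (.nd (.nd (.nd (.nd (.nd (.lf 858) (.lf 857)) (.nd (.lf 970) (.lf 0))) (.nd (.nd (.lf 1030) (.lf 652)) (.nd (.lf 909) (.lf 0)))) (.nd (.nd (.nd (.lf 819) (.lf 46)) (.nd (.lf 40) (.lf 0))) (.nd (.nd (.lf 531) (.lf 0)) (.nd (.lf 957) (.lf 0))))) (.nd (.nd (.nd (.nd (.lf 717) (.lf 963)) (.nd (.lf 408) (.lf 0))) (.nd (.nd (.lf 1073) (.lf 0)) (.nd (.lf 421) (.lf 0)))) (.nd (.nd (.nd (.lf 131) (.lf 280)) (.nd (.lf 1221) (.lf 0))) (.nd (.nd (.lf 69) (.lf 0)) (.nd (.lf 1078) (.lf 0)))))) (.nd (.nd (.nd (.nd (.nd (.lf 343) (.lf 1228)) (.nd (.lf 244) (.lf 0))) (.nd (.nd (.lf 855) (.lf 0)) (.nd (.lf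 649) (.lf 0)))) (.nd (.nd (.nd (.lf 142) (.lf 91)) (.nd (.lf 569) (.lf 0))) (.nd (.nd (.lf 742) (.lf 0)) (.nd (.lf 922) (.lf 0))))) (.nd (.nd (.nd (.nd (.lf 451) (.lf 768)) (.nd (.lf 1129) (.lf 0))) (.nd (.nd (.lf 94) (.lf 0)) (.nd (.lf 865) (.lf 0)))) (.nd (.nd (.nd (.lf 904) (.lf 54)) (.nd (.lf 227) (.lf 0))) (.nd (.nd (.lf 366) (.lf 0)) (.nd (.lf 112) (.lf 0))))))

/-- table part -/
def posT_48 : Tr :=
  .nd (.nd (.nd (.nd (.nd (.nd (.lf 306) (.lf 8)) (.nd (.lf 537) (.lf 0))) (.nd (.nd (.lf 907) (.lf 0)) (.nd (.lf 341) (.lf 0)))) (.nd (.nd (.nd (.lf 920) (.lf 632)) (.nd (.lf 1087) (.lf 0))) (.nd (.nd (.lf 1286) (.lf 0)) (.nd (.lf 693) (.lf 0))))) (.nd (.nd (.nd (.nd (.lf 713) (.lf 1137)) (.nd (.lf 617) (.lf 0))) (.nd (.nd (.lf 1188) (.lf 0)) (.nd (.lf 557) (.lf 0)))) (.nd (.nd (.nd (.lf 1041) (.lf 361)) (.nd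 (.lf 653) (.lf 0))) (.nd (.nd (.lf 973) (.lf 0)) (.nd (.lf 505) (.lf 0)))))) (.nd (.nd (.nd (.nd (.nd (.lf 624) (.lf 831)) (.nd (.lf 1018) (.lf 0))) (.nd (.nd (.lf 511) (.lf 0)) (.nd (.lf 1156) (.lf 0)))) (.nd (.nd (.nd (.lf 672) (.lf 22)) (.nd (.lf 1123) (.lf 0))) (.nd (.nd (.lf 783) (.lf 0)) (.nd (.lf 356) (.lf 0))))) (.nd (.nd (.nd (.nd (.lf 774) (.lf 1235)) (.nd (.lf 876) (.lf 0))) (.nd (.nd (.lf 111) (.lf 0)) (.nd (.lf 710) (.lf 0)))) (.nd (.nd (.nd (.lf 103) (.lf 1101)) (.nd (.lf 1125) (.lf 0))) (.nd (.nd (.lf 457) (.lf 0)) (.nd (.lf 1054) (.lf 0))))))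

/-- table part -/
def posT_49 : Tr :=
  .nd posT_47 posT_48

/-- table part -/
def posT_50 : Tr :=
  .nd (.nd (.nd (.nd (.nd (.nd (.lf 133) (.lf 334)) (.nd (.lf 26) (.lf 0))) (.nd (.nd (.lf 52) (.lf 0)) (.nd (.lf 27) (.lf 0)))) (.nd (.nd (.nd (.lf 887) (.lf 941)) (.nd (.lf 818) (.lf 0))) (.nd (.nd (.lf 1016) (.lf 0)) (.nd (.lf 711) (.lf 0))))) (.nd (.nd (.nd (.nd (.lf 1008) (.lf 78)) (.nd (.lf 984) (.lf 0))) (.nd (.nd (.lf 4) (.lf 0)) (.nd (.lf 1135) (.lf 0)))) (.nd (.nd (.nd (.lf 437) (.lf 99)) (.nd (.lf 1243) (.lf 0))) (.nd (.nd (.lf 780) (.lf 0)) (.nd (.lf 395) (.lf 0)))))) (.nd (.nd (.nd (.nd (.nd (.lf 694) (.lf 807)) (.nd (.lf 116) (.lf 0))) (.nd (.nd (.lf 339) (.lf 0)) (.nd (.lf 1157) (.lf 0)))) (.nd (.nd (.nd (.lf 635) (.lf 1213)) (.nd (.lf 833) (.lf 0))) (.nd (.nd (.lf 159) (.lf 0)) (.nd (.lf 235) (.lf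 0))))) (.nd (.nd (.nd (.nd (.lf 563) (.lf 5)) (.nd (.lf 908) (.lf 0))) (.nd (.nd (.lf 1170) (.lf 0)) (.nd (.lf 194) (.lf 0)))) (.nd (.nd (.nd (.lf 1153) (.lf 86)) (.nd (.lf 513) (.lf 0))) (.nd (.nd (.lf 854) (.lf 0)) (.nd (.lf 1149) (.lf 0))))))

/-- table part -/
def posT_51 : Tr :=
  .nd (.nd (.nd (.nd (.nd (.nd (.lf 1081) (.lf 817)) (.nd (.lf 966) (.lf 0))) (.nd (.nd (.lf 1038) (.lf 0)) (.nd (.lf 1275) (.lf 0)))) (.nd (.nd (.nd (.lf 529) (.lf 1250)) (.nd (.lf 939) (.lf 0))) (.nd (.nd (.lf 1169) (.lf 0)) (.nd (.lf 622) (.lf 0))))) (.nd (.nd (.nd (.nd (.lf 905) (.lf 474)) (.nd (.lf 590) (.lf 0))) (.nd (.nd (.lf 666) (.lf 0)) (.nd (.lf 155) (.lf 0)))) (.nd (.nd (.nd (.lf 840) (.lf 260)) (.nd (.lf 670) (.lf 0))) (.nd (.nd (.lf 556) (.lf 0)) (.nd (.lf 1045) (.lf 0)))))) (.nd (.nd (.nd (.nd (.nd (.lf 186) (.lf 384))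 (.nd (.lf 73) (.lf 0))) (.nd (.nd (.lf 407) (.lf 0)) (.nd (.lf 1278) (.lf 0)))) (.nd (.nd (.nd (.lf 656) (.lf 1181)) (.nd (.lf 581) (.lf 0))) (.nd (.nd (.lf 271) (.lf 0)) (.nd (.lf 923) (.lf 0))))) (.nd (.nd (.nd (.nd (.lf 1224) (.lf 781)) (.nd (.lf 662) (.lf 0))) (.nd (.nd (.lf 968) (.lf 0)) (.nd (.lf 1171) (.lf 0)))) (.nd (.nd (.nd (.lf 495) (.lf 620)) (.nd (.lf 1027) (.lf 0))) (.nd (.nd (.lf 518) (.lf 0)) (.nd (.lf 367) (.lf 0))))))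

/-- table part -/
def posT_52 : Tr :=
  .nd posT_50 posT_51

/-- table part -/
def posT_53 : Tr :=
  .nd posT_49 posT_52

/-- table part -/
def posT_54 : Tr :=
  .nd (.nd (.nd (.nd (.nd (.nd (.lf 352) (.lf 1072)) (.nd (.lf 1276) (.lf 0))) (.nd (.nd (.lf 687) (.lf 856)) (.nd (.lf 901) (.lf 0)))) (.nd (.nd (.nd (.lf 247) (.lf 623)) (.nd (.lf 951) (.lf 0))) (.nd (.nd (.lf 654) (.lf 0)) (.nd (.lf 171) (.lf 0))))) (.nd (.nd (.nd (.nd (.lf 602) (.lf 758)) (.nd (.lf 716) (.lf 0))) (.nd (.nd (.lf 502) (.lf 0)) (.nd (.lf 472) (.lf 0)))) (.nd (.nd (.nd (.lf 650) (.lf 798)) (.nd (.lf 1092) (.lf 0))) (.nd (.nd (.lf 1106) (.lf 0)) (.nd (.lf 1244) (.lf 0)))))) (.nd (.nd (.nd (.nd (.nd (.lf 942) (.lf 313)) (.nd (.lf 72) (.lf 0))) (.nd (.nd (.lf 12) (.lf 0)) (.nd (.lf 56) (.lf 0)))) (.nd (.nd (.nd (.lf 470) (.lf 319)) (.nd (.lf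 618) (.lf 0))) (.nd (.nd (.lf 810) (.lf 0)) (.nd (.lf 1006) (.lf 0))))) (.nd (.nd (.nd (.nd (.lf 1207) (.lf 1175)) (.nd (.lf 871) (.lf 0))) (.nd (.nd (.lf 323) (.lf 0)) (.nd (.lf 1222) (.lf 0)))) (.nd (.nd (.nd (.lf 147) (.lf 417)) (.nd (.lf 958) (.lf 0))) (.nd (.nd (.lf 242) (.lf 0)) (.nd (.lf 562) (.lf 0))))))

/-- table part -/
def posT_55 : Tr :=
  .nd (.nd (.nd (.nd (.nd (.nd (.lf 272) (.lf 1173)) (.nd (.lf 879) (.lf 0))) (.nd (.nd (.lf 203) (.lf 0)) (.nd (.lf 1089) (.lf 0)))) (.nd (.nd (.nd (.lf 706) (.lf 1025)) (.nd (.lf 326) (.lf 0))) (.nd (.nd (.lf 464) (.lf 0)) (.nd (.lf 1281) (.lf 0))))) (.nd (.nd (.nd (.nd (.lf 689) (.lf 1152)) (.nd (.lf 892) (.lf 0))) (.nd (.nd (.lf 830) (.lf 0)) (.nd (.lf 778) (.lf 0)))) (.nd (.nd (.nd (.lf 270) (.lf 179)) (.nd (.lf 997) (.lf 0))) (.nd (.nd (.lf 749) (.lf 0)) (.nd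 (.lf 897) (.lf 0)))))) (.nd (.nd (.nd (.nd (.nd (.lf 745) (.lf 66)) (.nd (.lf 1034) (.lf 0))) (.nd (.nd (.lf 1011) (.lf 0)) (.nd (.lf 916) (.lf 0)))) (.nd (.nd (.nd (.lf 705) (.lf 1068)) (.nd (.lf 10) (.lf 0))) (.nd (.nd (.lf 1256) (.lf 0)) (.nd (.lf 115) (.lf 0))))) (.nd (.nd (.nd (.nd (.lf 1098) (.lf 320)) (.nd (.lf 43) (.lf 0))) (.nd (.nd (.lf 206) (.lf 0)) (.nd (.lf 391) (.lf 0)))) (.nd (.nd (.nd (.lf 268) (.lf 299)) (.nd (.lf 1017) (.lf 0))) (.nd (.nd (.lf 1062) (.lf 0)) (.nd (.lf 444) (.lf 0))))))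

/-- table part -/
def posT_56 : Tr :=
  .nd posT_54 posT_55

/-- table part -/
def posT_57 : Tr :=
  .nd (.nd (.nd (.nd (.nd (.nd (.lf 1141) (.lf 533)) (.nd (.lf 2) (.lf 0))) (.nd (.nd (.lf 1003) (.lf 0)) (.nd (.lf 318) (.lf 0)))) (.nd (.nd (.nd (.lf 953) (.lf 523)) (.nd (.lf 950) (.lf 0))) (.nd (.nd (.lf 761) (.lf 0)) (.nd (.lf 340) (.lf 0))))) (.nd (.nd (.nd (.nd (.lf 936) (.lf 138)) (.nd (.lf 243) (.lf 0))) (.nd (.nd (.lf 196) (.lf 0)) (.nd (.lf 1287) (.lf 0)))) (.nd (.nd (.nd (.lf 509) (.lf 1284)) (.nd (.lf 381) (.lf 0))) (.nd (.nd (.lf 899) (.lf 0)) (.nd (.lf 1277) (.lf 0)))))) (.nd (.nd (.nd (.nd (.nd (.lf 678) (.lf 480)) (.nd (.lf 47) (.lf 0))) (.nd (.nd (.lf 1113) (.lf 0)) (.nd (.lf 1251) (.lf 0)))) (.nd (.nd (.nd (.lf 852) (.lf 755)) (.nd (.lf 403) (.lf 0))) (.nd (.nd (.lf 903) (.lf 0)) (.nd (.lf 108)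 (.lf 0))))) (.nd (.nd (.nd (.nd (.lf 406) (.lf 546)) (.nd (.lf 496) (.lf 0))) (.nd (.nd (.lf 880) (.lf 0)) (.nd (.lf 461) (.lf 0)))) (.nd (.nd (.nd (.lf 216) (.lf 1112)) (.nd (.lf 1195) (.lf 0))) (.nd (.nd (.lf 501) (.lf 0)) (.nd (.lf 286) (.lf 0))))))

/-- table part -/
def posT_58 : Tr :=
  .nd (.nd (.nd (.nd (.nd (.nd (.lf 1048) (.lf 494)) (.nd (.lf 284) (.lf 0))) (.nd (.nd (.lf 943) (.lf 0)) (.nd (.lf 577) (.lf 0)))) (.nd (.nd (.nd (.lf 734) (.lf 365)) (.nd (.lf 540) (.lf 0))) (.nd (.nd (.lf 744) (.lf 0)) (.nd (.lf 1279) (.lf 0))))) (.nd (.nd (.nd (.nd (.lf 524) (.lf 1238)) (.nd (.lf 1245) (.lf 0))) (.nd (.nd (.lf 1056) (.lf 0)) (.nd (.lf 114) (.lf 0)))) (.nd (.nd (.nd (.lf 426) (.lf 598)) (.nd (.lf 392) (.lf 0))) (.nd (.nd (.lf 349) (.lf 0)) (.nd (.lf 401) (.lf 0)))))) (.nd (.nd (.nd (.nd (.nd (.lf 668) (.lf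 321)) (.nd (.lf 519) (.lf 0))) (.nd (.nd (.lf 552) (.lf 0)) (.nd (.lf 168) (.lf 0)))) (.nd (.nd (.nd (.lf 419) (.lf 183)) (.nd (.lf 832) (.lf 0))) (.nd (.nd (.lf 369) (.lf 0)) (.nd (.lf 534) (.lf 0))))) (.nd (.nd (.nd (.nd (.lf 493) (.lf 1116)) (.nd (.lf 775) (.lf 0))) (.nd (.nd (.lf 934) (.lf 0)) (.nd (.lf 251) (.lf 0)))) (.nd (.nd (.nd (.lf 62) (.lf 499)) (.nd (.lf 1049) (.lf 0))) (.nd (.nd (.lf 144) (.lf 0)) (.nd (.lf 794) (.lf 0))))))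

/-- table part -/
def posT_59 : Tr :=
  .nd posT_57 posT_58

/-- table part -/
def posT_60 : Tr :=
  .nd posT_56 posT_59

/-- table part -/
def posT_61 : Tr :=
  .nd posT_53 posT_60

/-- table part -/
def posT_62 : Tr :=
  .nd posT_46 posT_61

/-- table part -/
def posT_63 : Tr :=
  .nd posT_31 posT_62

/-- table -/
def posT : Tr :=
  posT_63

/-- table part -/
def srtT_1 : Tr :=
  .nd (.nd (.nd (.nd (.nd (.nd (.lf 242) (.lf 934)) (.nd (.lf 137) (.lf 0))) (.nd (.nd (.lf 904) (.lf 706)) (.nd (.lf 1123) (.lf 0)))) (.nd (.nd (.nd (.lf 669) (.lf 1111)) (.nd (.lf 1129) (.lf 0))) (.nd (.nd (.lf 1083) (.lf 0)) (.nd (.lf 496) (.lf 0))))) (.nd (.nd (.nd (.nd (.lf 521) (.lf 237)) (.nd (.lf 552) (.lf 0))) (.nd (.nd (.lf 1143) (.lf 0)) (.nd (.lf 703) (.lf 0)))) (.nd (.nd (.nd (.lf 653) (.lf 572)) (.nd (.lf 333) (.lf 0)))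 (.nd (.nd (.lf 89) (.lf 0)) (.nd (.lf 1241) (.lf 0)))))) (.nd (.nd (.nd (.nd (.nd (.lf 1069) (.lf 351)) (.nd (.lf 325) (.lf 0))) (.nd (.nd (.lf 1042) (.lf 0)) (.nd (.lf 142) (.lf 0)))) (.nd (.nd (.nd (.lf 550) (.lf 93)) (.nd (.lf 179) (.lf 0))) (.nd (.nd (.lf 241) (.lf 0)) (.nd (.lf 624) (.lf 0))))) (.nd (.nd (.nd (.nd (.lf 104) (.lf 764)) (.nd (.lf 1105) (.lf 0))) (.nd (.nd (.lf 7) (.lf 0)) (.nd (.lf 469) (.lf 0)))) (.nd (.nd (.nd (.lf 338) (.lf 848)) (.nd (.lf 964) (.lf 0))) (.nd (.nd (.lf 1071) (.lf 0)) (.nd (.lf 670) (.lf 0))))))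

/-- table part -/
def srtT_2 : Tr :=
  .nd (.nd (.nd (.nd (.nd (.nd (.lf 1250) (.lf 977)) (.nd (.lf 1196) (.lf 0))) (.nd (.nd (.lf 23) (.lf 0)) (.nd (.lf 28) (.lf 0)))) (.nd (.nd (.nd (.lf 511) (.lf 1233)) (.nd (.lf 187) (.lf 0))) (.nd (.nd (.lf 700) (.lf 0)) (.nd (.lf 29) (.lf 0))))) (.nd (.nd (.nd (.nd (.lf 1073) (.lf 1237)) (.nd (.lf 665) (.lf 0))) (.nd (.nd (.lf 784) (.lf 0)) (.nd (.lf 569) (.lf 0)))) (.nd (.nd (.nd (.lf 762) (.lf 692)) (.nd (.lf 1006) (.lf 0))) (.nd (.nd (.lf 407) (.lf 0)) (.nd (.lf 1088) (.lf 0)))))) (.nd (.nd (.nd (.nd (.nd (.lf 989) (.lf 1031)) (.nd (.lf 270) (.lf 0))) (.nd (.nd (.lf 166) (.lf 0)) (.nd (.lf 109) (.lf 0)))) (.nd (.nd (.nd (.lf 970) (.lf 804)) (.nd (.lf 630) (.lf 0))) (.nd (.nd (.lf 473) (.lf 0)) (.nd (.lf 380) (.lf 0))))) (.nd (.nd (.nd (.nd (.lf 995) (.lf 622)) (.nd (.lf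 51) (.lf 0))) (.nd (.nd (.lf 1121) (.lf 0)) (.nd (.lf 367) (.lf 0)))) (.nd (.nd (.nd (.lf 952) (.lf 0)) (.nd (.lf 865) (.lf 0))) (.nd (.nd (.lf 623) (.lf 0)) (.nd (.lf 75) (.lf 0))))))

/-- table part -/
def srtT_3 : Tr :=
  .nd srtT_1 srtT_2

/-- table part -/
def srtT_4 : Tr :=
  .nd (.nd (.nd (.nd (.nd (.nd (.lf 1043) (.lf 298)) (.nd (.lf 1204) (.lf 0))) (.nd (.nd (.lf 161) (.lf 0)) (.nd (.lf 856) (.lf 0)))) (.nd (.nd (.nd (.lf 997) (.lf 928)) (.nd (.lf 1094) (.lf 0))) (.nd (.nd (.lf 735) (.lf 0)) (.nd (.lf 227) (.lf 0))))) (.nd (.nd (.nd (.nd (.lf 551) (.lf 402)) (.nd (.lf 77) (.lf 0))) (.nd (.nd (.lf 841) (.lf 0)) (.nd (.lf 219) (.lf 0)))) (.nd (.nd (.nd (.lf 433) (.lf 123)) (.nd (.lf 222) (.lf 0))) (.nd (.nd (.lf 414) (.lf 0)) (.nd (.lf 379) (.lf 0)))))) (.nd (.nd (.nd (.nd (.nd (.lf 643) (.lf 1152)) (.nd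 (.lf 319) (.lf 0))) (.nd (.nd (.lf 253) (.lf 0)) (.nd (.lf 84) (.lf 0)))) (.nd (.nd (.nd (.lf 831) (.lf 1008)) (.nd (.lf 625) (.lf 0))) (.nd (.nd (.lf 830) (.lf 0)) (.nd (.lf 79) (.lf 0))))) (.nd (.nd (.nd (.nd (.lf 465) (.lf 102)) (.nd (.lf 866) (.lf 0))) (.nd (.nd (.lf 1213) (.lf 0)) (.nd (.lf 1060) (.lf 0)))) (.nd (.nd (.nd (.lf 732) (.lf 439)) (.nd (.lf 415) (.lf 0))) (.nd (.nd (.lf 972) (.lf 0)) (.nd (.lf 85) (.lf 0))))))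

/-- table part -/
def srtT_5 : Tr :=
  .nd (.nd (.nd (.nd (.nd (.nd (.lf 562) (.lf 31)) (.nd (.lf 1116) (.lf 0))) (.nd (.nd (.lf 1219) (.lf 0)) (.nd (.lf 678) (.lf 0)))) (.nd (.nd (.nd (.lf 81) (.lf 458)) (.nd (.lf 238) (.lf 0))) (.nd (.nd (.lf 579) (.lf 0)) (.nd (.lf 147) (.lf 0))))) (.nd (.nd (.nd (.nd (.lf 906) (.lf 1263)) (.nd (.lf 1234) (.lf 0))) (.nd (.nd (.lf 800) (.lf 0)) (.nd (.lf 1287) (.lf 0)))) (.nd (.nd (.nd (.lf 239) (.lf 412)) (.nd (.lf 598) (.lf 0))) (.nd (.nd (.lf 839) (.lf 0)) (.nd (.lf 587) (.lf 0)))))) (.nd (.nd (.nd (.nd (.nd (.lf 807) (.lf 250)) (.nd (.lf 1273) (.lf 0))) (.nd (.nd (.lf 988) (.lf 0)) (.nd (.lf 1222) (.lf 0)))) (.nd (.nd (.nd (.lf 261) (.lf 842)) (.nd (.lf 610) (.lf 0))) (.nd (.nd (.lf 480) (.lf 0)) (.nd (.lf 442) (.lf 0))))) (.nd (.nd (.nd (.nd (.lf 641) (.lf 869)) (.nd (.lf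 1171) (.lf 0))) (.nd (.nd (.lf 969) (.lf 0)) (.nd (.lf 424) (.lf 0)))) (.nd (.nd (.nd (.lf 73) (.lf 713)) (.nd (.lf 1176) (.lf 0))) (.nd (.nd (.lf 328) (.lf 0)) (.nd (.lf 395) (.lf 0))))))

/-- table part -/
def srtT_6 : Tr :=
  .nd srtT_4 srtT_5

/-- table part -/
def srtT_7 : Tr :=
  .nd srtT_3 srtT_6

/-- table part -/
def srtT_8 : Tr :=
  .nd (.nd (.nd (.nd (.nd (.nd (.lf 331) (.lf 766)) (.nd (.lf 348) (.lf 0))) (.nd (.nd (.lf 1243) (.lf 1231)) (.nd (.lf 982) (.lf 0)))) (.nd (.nd (.nd (.lf 996) (.lf 819)) (.nd (.lf 1052) (.lf 0))) (.nd (.nd (.lf 750) (.lf 0)) (.nd (.lf 150) (.lf 0))))) (.nd (.nd (.nd (.nd (.lf 478) (.lf 711)) (.nd (.lf 845) (.lf 0))) (.nd (.nd (.lf 386) (.lf 0)) (.nd (.lf 525) (.lf 0)))) (.nd (.nd (.nd (.lf 335) (.lf 754)) (.nd (.lf 948) (.lf 0))) (.nd (.nd (.lf 37) (.lf 0)) (.nd (.lf 1037)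 (.lf 0)))))) (.nd (.nd (.nd (.nd (.nd (.lf 860) (.lf 749)) (.nd (.lf 470) (.lf 0))) (.nd (.nd (.lf 745) (.lf 0)) (.nd (.lf 592) (.lf 0)))) (.nd (.nd (.nd (.lf 828) (.lf 339)) (.nd (.lf 729) (.lf 0))) (.nd (.nd (.lf 945) (.lf 0)) (.nd (.lf 144) (.lf 0))))) (.nd (.nd (.nd (.nd (.lf 773) (.lf 393)) (.nd (.lf 585) (.lf 0))) (.nd (.nd (.lf 947) (.lf 0)) (.nd (.lf 896) (.lf 0)))) (.nd (.nd (.nd (.lf 370) (.lf 381)) (.nd (.lf 401) (.lf 0))) (.nd (.nd (.lf 645) (.lf 0)) (.nd (.lf 545) (.lf 0))))))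

/-- table part -/
def srtT_9 : Tr :=
  .nd (.nd (.nd (.nd (.nd (.nd (.lf 553) (.lf 352)) (.nd (.lf 1180) (.lf 0))) (.nd (.nd (.lf 782) (.lf 0)) (.nd (.lf 385) (.lf 0)))) (.nd (.nd (.nd (.lf 1202) (.lf 173)) (.nd (.lf 1148) (.lf 0))) (.nd (.nd (.lf 316) (.lf 0)) (.nd (.lf 823) (.lf 0))))) (.nd (.nd (.nd (.nd (.lf 301) (.lf 924)) (.nd (.lf 474) (.lf 0))) (.nd (.nd (.lf 911) (.lf 0)) (.nd (.lf 175) (.lf 0)))) (.nd (.nd (.nd (.lf 916) (.lf 506)) (.nd (.lf 1072) (.lf 0))) (.nd (.nd (.lf 306) (.lf 0)) (.nd (.lf 1189) (.lf 0)))))) (.nd (.nd (.nd (.nd (.nd (.lf 267) (.lf 280)) (.nd (.lf 294) (.lf 0))) (.nd (.nd (.lf 940) (.lf 0)) (.nd (.lf 582) (.lf 0)))) (.nd (.nd (.nd (.lf 221) (.lf 1137)) (.nd (.lf 1110) (.lf 0))) (.nd (.nd (.lf 1132) (.lf 0)) (.nd (.lf 530) (.lf 0))))) (.nd (.nd (.nd (.nd (.lf 555) (.lf 324)) (.nd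 (.lf 1020) (.lf 0))) (.nd (.nd (.lf 452) (.lf 0)) (.nd (.lf 1268) (.lf 0)))) (.nd (.nd (.nd (.lf 547) (.lf 340)) (.nd (.lf 112) (.lf 0))) (.nd (.nd (.lf 1150) (.lf 0)) (.nd (.lf 1226) (.lf 0))))))

/-- table part -/
def srtT_10 : Tr :=
  .nd srtT_8 srtT_9

/-- table part -/
def srtT_11 : Tr :=
  .nd (.nd (.nd (.nd (.nd (.nd (.lf 295) (.lf 978)) (.nd (.lf 95) (.lf 0))) (.nd (.nd (.lf 247) (.lf 0)) (.nd (.lf 459) (.lf 0)))) (.nd (.nd (.nd (.lf 116) (.lf 432)) (.nd (.lf 1283) (.lf 0))) (.nd (.nd (.lf 548) (.lf 0)) (.nd (.lf 619) (.lf 0))))) (.nd (.nd (.nd (.nd (.lf 164) (.lf 149)) (.nd (.lf 694) (.lf 0))) (.nd (.nd (.lf 224) (.lf 0)) (.nd (.lf 158) (.lf 0)))) (.nd (.nd (.nd (.lf 1076) (.lf 1059)) (.nd (.lf 583) (.lf 0))) (.nd (.nd (.lf 76) (.lf 0)) (.nd (.lf 312) (.lf 0)))))) (.nd (.nd (.nd (.nd (.nd (.lf 638) (.lf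 1207)) (.nd (.lf 475) (.lf 0))) (.nd (.nd (.lf 262) (.lf 0)) (.nd (.lf 1102) (.lf 0)))) (.nd (.nd (.nd (.lf 1146) (.lf 757)) (.nd (.lf 258) (.lf 0))) (.nd (.nd (.lf 220) (.lf 0)) (.nd (.lf 877) (.lf 0))))) (.nd (.nd (.nd (.nd (.lf 943) (.lf 2)) (.nd (.lf 1275) (.lf 0))) (.nd (.nd (.lf 65) (.lf 0)) (.nd (.lf 627) (.lf 0)))) (.nd (.nd (.nd (.lf 1246) (.lf 1126)) (.nd (.lf 1021) (.lf 0))) (.nd (.nd (.lf 1128) (.lf 0)) (.nd (.lf 1149) (.lf 0))))))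

/-- table part -/
def srtT_12 : Tr :=
  .nd (.nd (.nd (.nd (.nd (.nd (.lf 86) (.lf 454)) (.nd (.lf 671) (.lf 0))) (.nd (.nd (.lf 543) (.lf 0)) (.nd (.lf 666) (.lf 0)))) (.nd (.nd (.nd (.lf 1161) (.lf 114)) (.nd (.lf 63) (.lf 0))) (.nd (.nd (.lf 557) (.lf 0)) (.nd (.lf 1181) (.lf 0))))) (.nd (.nd (.nd (.nd (.lf 1168) (.lf 1151)) (.nd (.lf 746) (.lf 0))) (.nd (.nd (.lf 953) (.lf 0)) (.nd (.lf 518) (.lf 0)))) (.nd (.nd (.nd (.lf 462) (.lf 967)) (.nd (.lf 416) (.lf 0))) (.nd (.nd (.lf 776) (.lf 0)) (.nd (.lf 497) (.lf 0)))))) (.nd (.nd (.nd (.nd (.nd (.lf 48) (.lf 1236)) (.nd (.lf 450) (.lf 0))) (.nd (.nd (.lf 217) (.lf 0)) (.nd (.lf 898) (.lf 0)))) (.nd (.nd (.nd (.lf 910) (.lf 973)) (.nd (.lf 990) (.lf 0))) (.nd (.nd (.lf 1015) (.lf 0)) (.nd (.lf 505) (.lf 0))))) (.nd (.nd (.nd (.nd (.lf 129) (.lf 373)) (.nd (.lf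 760) (.lf 0))) (.nd (.nd (.lf 1118) (.lf 0)) (.nd (.lf 599) (.lf 0)))) (.nd (.nd (.nd (.lf 1133) (.lf 519)) (.nd (.lf 1036) (.lf 0))) (.nd (.nd (.lf 1018) (.lf 0)) (.nd (.lf 1188) (.lf 0))))))

/-- table part -/
def srtT_13 : Tr :=
  .nd srtT_11 srtT_12

/-- table part -/
def srtT_14 : Tr :=
  .nd srtT_10 srtT_13

/-- table part -/
def srtT_15 : Tr :=
  .nd srtT_7 srtT_14

/-- table part -/
def srtT_16 : Tr :=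
  .nd (.nd (.nd (.nd (.nd (.nd (.lf 527) (.lf 78)) (.nd (.lf 177) (.lf 0))) (.nd (.nd (.lf 204) (.lf 153)) (.nd (.lf 837) (.lf 0)))) (.nd (.nd (.nd (.lf 1046) (.lf 214)) (.nd (.lf 184) (.lf 0))) (.nd (.nd (.lf 446) (.lf 0)) (.nd (.lf 152) (.lf 0))))) (.nd (.nd (.nd (.nd (.lf 1079) (.lf 345)) (.nd (.lf 1004) (.lf 0))) (.nd (.nd (.lf 16) (.lf 0)) (.nd (.lf 68) (.lf 0)))) (.nd (.nd (.nd (.lf 875) (.lf 1232)) (.nd (.lf 151) (.lf 0))) (.nd (.nd (.lf 1005) (.lf 0)) (.nd (.lf 1077) (.lf 0)))))) (.nd (.nd (.nd (.nd (.nd (.lf 1256) (.lf 357)) (.nd (.lf 1135) (.lf 0))) (.nd (.nd (.lf 802) (.lf 0)) (.nd (.lf 1230) (.lf 0)))) (.nd (.nd (.nd (.lf 789) (.lf 1141)) (.nd (.lf 984) (.lf 0))) (.nd (.nd (.lf 822) (.lf 0)) (.nd (.lf 1162) (.lf 0))))) (.nd (.nd (.nd (.nd (.lf 209) (.lf 817)) (.nd (.lf 744) (.lf 0))) (.nd (.nd (.lf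 482) (.lf 0)) (.nd (.lf 1085) (.lf 0)))) (.nd (.nd (.nd (.lf 128) (.lf 1179)) (.nd (.lf 620) (.lf 0))) (.nd (.nd (.lf 664) (.lf 0)) (.nd (.lf 909) (.lf 0))))))

/-- table part -/
def srtT_17 : Tr :=
  .nd (.nd (.nd (.nd (.nd (.nd (.lf 305) (.lf 725)) (.nd (.lf 453) (.lf 0))) (.nd (.nd (.lf 296) (.lf 0)) (.nd (.lf 644) (.lf 0)))) (.nd (.nd (.nd (.lf 1172) (.lf 363)) (.nd (.lf 661) (.lf 0))) (.nd (.nd (.lf 418) (.lf 0)) (.nd (.lf 986) (.lf 0))))) (.nd (.nd (.nd (.nd (.lf 22) (.lf 455)) (.nd (.lf 668) (.lf 0))) (.nd (.nd (.lf 793) (.lf 0)) (.nd (.lf 524) (.lf 0)))) (.nd (.nd (.nd (.lf 218) (.lf 976)) (.nd (.lf 170) (.lf 0))) (.nd (.nd (.lf 772) (.lf 0)) (.nd (.lf 908) (.lf 0)))))) (.nd (.nd (.nd (.nd (.nd (.lf 642) (.lf 1081)) (.nd (.lf 999) (.lf 0))) (.nd (.nd (.lf 19) (.lf 0)) (.nd (.lf 651) (.lf 0)))) (.nd (.nd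 (.nd (.lf 556) (.lf 657)) (.nd (.lf 1001) (.lf 0))) (.nd (.nd (.lf 361) (.lf 0)) (.nd (.lf 1014) (.lf 0))))) (.nd (.nd (.nd (.nd (.lf 863) (.lf 60)) (.nd (.lf 1201) (.lf 0))) (.nd (.nd (.lf 514) (.lf 0)) (.nd (.lf 825) (.lf 0)))) (.nd (.nd (.nd (.lf 487) (.lf 41)) (.nd (.lf 1068) (.lf 0))) (.nd (.nd (.lf 509) (.lf 0)) (.nd (.lf 730) (.lf 0))))))

/-- table part -/
def srtT_18 : Tr :=
  .nd srtT_16 srtT_17

/-- table part -/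
def srtT_19 : Tr :=
  .nd (.nd (.nd (.nd (.nd (.nd (.lf 695) (.lf 567)) (.nd (.lf 194) (.lf 0))) (.nd (.nd (.lf 1166) (.lf 0)) (.nd (.lf 855) (.lf 0)))) (.nd (.nd (.nd (.lf 1103) (.lf 872)) (.nd (.lf 199) (.lf 0))) (.nd (.nd (.lf 1030) (.lf 0)) (.nd (.lf 600) (.lf 0))))) (.nd (.nd (.nd (.nd (.lf 633) (.lf 119)) (.nd (.lf 586) (.lf 0))) (.nd (.nd (.lf 1264) (.lf 0)) (.nd (.lf 1144) (.lf 0)))) (.nd (.nd (.nd (.lf 74) (.lf 510)) (.nd (.lf 257) (.lf 0))) (.nd (.nd (.lf 778) (.lf 0)) (.nd (.lf 515) (.lf 0)))))) (.nd (.nd (.nd (.nd (.nd (.lf 210) (.lf 80)) (.nd (.lf 246) (.lf 0))) (.nd (.nd (.lf 614) (.lf 0)) (.nd (.lf 423) (.lf 0)))) (.nd (.nd (.nd (.lf 162) (.lf 516)) (.nd (.lf 957) (.lf 0))) (.nd (.nd (.lf 223) (.lf 0)) (.nd (.lf 512) (.lf 0))))) (.nd (.nd (.nd (.nd (.lf 362) (.lf 1182)) (.nd (.lf 679) (.lf 0)))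 (.nd (.nd (.lf 369) (.lf 0)) (.nd (.lf 880) (.lf 0)))) (.nd (.nd (.nd (.lf 728) (.lf 1197)) (.nd (.lf 765) (.lf 0))) (.nd (.nd (.lf 1097) (.lf 0)) (.nd (.lf 174) (.lf 0))))))

/-- table part -/
def srtT_20 : Tr :=
  .nd (.nd (.nd (.nd (.nd (.nd (.lf 523) (.lf 584)) (.nd (.lf 229) (.lf 0))) (.nd (.nd (.lf 440) (.lf 0)) (.nd (.lf 1023) (.lf 0)))) (.nd (.nd (.nd (.lf 696) (.lf 790)) (.nd (.lf 347) (.lf 0))) (.nd (.nd (.lf 326) (.lf 0)) (.nd (.lf 931) (.lf 0))))) (.nd (.nd (.nd (.nd (.lf 165) (.lf 426)) (.nd (.lf 71) (.lf 0))) (.nd (.nd (.lf 682) (.lf 0)) (.nd (.lf 3) (.lf 0)))) (.nd (.nd (.nd (.lf 185) (.lf 613)) (.nd (.lf 157) (.lf 0))) (.nd (.nd (.lf 1115) (.lf 0)) (.nd (.lf 660) (.lf 0)))))) (.nd (.nd (.nd (.nd (.nd (.lf 560) (.lf 1193)) (.nd (.lf 1078) (.lf 0))) (.nd (.nd (.lf 228) (.lf 0)) (.nd (.lf 1066) (.lf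 0)))) (.nd (.nd (.nd (.lf 59) (.lf 180)) (.nd (.lf 758) (.lf 0))) (.nd (.nd (.lf 272) (.lf 0)) (.nd (.lf 736) (.lf 0))))) (.nd (.nd (.nd (.nd (.lf 492) (.lf 826)) (.nd (.lf 785) (.lf 0))) (.nd (.nd (.lf 529) (.lf 0)) (.nd (.lf 121) (.lf 0)))) (.nd (.nd (.nd (.lf 20) (.lf 1140)) (.nd (.lf 1261) (.lf 0))) (.nd (.nd (.lf 649) (.lf 0)) (.nd (.lf 563) (.lf 0))))))

/-- table part -/
def srtT_21 : Tr :=
  .nd srtT_19 srtT_20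

/-- table part -/
def srtT_22 : Tr :=
  .nd srtT_18 srtT_21

/-- table part -/
def srtT_23 : Tr :=
  .nd (.nd (.nd (.nd (.nd (.nd (.lf 138) (.lf 259)) (.nd (.lf 507) (.lf 0))) (.nd (.nd (.lf 146) (.lf 403)) (.nd (.lf 115) (.lf 0)))) (.nd (.nd (.nd (.lf 893) (.lf 628)) (.nd (.lf 702) (.lf 0))) (.nd (.nd (.lf 632) (.lf 0)) (.nd (.lf 768) (.lf 0))))) (.nd (.nd (.nd (.nd (.lf 156) (.lf 748)) (.nd (.lf 820) (.lf 0))) (.nd (.nd (.lf 663) (.lf 0)) (.nd (.lf 1278) (.lf 0)))) (.nd (.nd (.nd (.lf 425) (.lf 871)) (.nd (.lf 883) (.lf 0))) (.nd (.nd (.lf 798) (.lf 0)) (.nd (.lf 539) (.lf 0)))))) (.nd (.nd (.nd (.nd (.nd (.lf 105) (.lf 503)) (.nd (.lf 1098) (.lf 0))) (.nd (.nd (.lf 160) (.lf 0)) (.nd (.lf 570) (.lf 0)))) (.nd (.nd (.nd (.lf 1061) (.lf 1022)) (.nd (.lf 47) (.lf 0))) (.nd (.nd (.lf 604) (.lf 0)) (.nd (.lf 383)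 (.lf 0))))) (.nd (.nd (.nd (.nd (.lf 956) (.lf 276)) (.nd (.lf 565) (.lf 0))) (.nd (.nd (.lf 273) (.lf 0)) (.nd (.lf 286) (.lf 0)))) (.nd (.nd (.nd (.lf 884) (.lf 14)) (.nd (.lf 419) (.lf 0))) (.nd (.nd (.lf 249) (.lf 0)) (.nd (.lf 617) (.lf 0))))))

/-- table part -/
def srtT_24 : Tr :=
  .nd (.nd (.nd (.nd (.nd (.nd (.lf 1203) (.lf 281)) (.nd (.lf 959) (.lf 0))) (.nd (.nd (.lf 897) (.lf 0)) (.nd (.lf 577) (.lf 0)))) (.nd (.nd (.nd (.lf 858) (.lf 384)) (.nd (.lf 635) (.lf 0))) (.nd (.nd (.lf 111) (.lf 0)) (.nd (.lf 437) (.lf 0))))) (.nd (.nd (.nd (.nd (.lf 1259) (.lf 770)) (.nd (.lf 1247) (.lf 0))) (.nd (.nd (.lf 265) (.lf 0)) (.nd (.lf 491) (.lf 0)))) (.nd (.nd (.nd (.lf 445) (.lf 1119)) (.nd (.lf 468) (.lf 0))) (.nd (.nd (.lf 167) (.lf 0)) (.nd (.lf 1054) (.lf 0)))))) (.nd (.nd (.nd (.nd (.nd (.lf 1251) (.lf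 963)) (.nd (.lf 248) (.lf 0))) (.nd (.nd (.lf 436) (.lf 0)) (.nd (.lf 398) (.lf 0)))) (.nd (.nd (.nd (.lf 980) (.lf 922)) (.nd (.lf 43) (.lf 0))) (.nd (.nd (.lf 918) (.lf 0)) (.nd (.lf 655) (.lf 0))))) (.nd (.nd (.nd (.nd (.lf 792) (.lf 292)) (.nd (.lf 938) (.lf 0))) (.nd (.nd (.lf 968) (.lf 0)) (.nd (.lf 46) (.lf 0)))) (.nd (.nd (.nd (.lf 538) (.lf 346)) (.nd (.lf 1095) (.lf 0))) (.nd (.nd (.lf 327) (.lf 0)) (.nd (.lf 389) (.lf 0))))))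

/-- table part -/
def srtT_25 : Tr :=
  .nd srtT_23 srtT_24

/-- table part -/
def srtT_26 : Tr :=
  .nd (.nd (.nd (.nd (.nd (.nd (.lf 1130) (.lf 283)) (.nd (.lf 662) (.lf 0))) (.nd (.nd (.lf 215) (.lf 0)) (.nd (.lf 1198) (.lf 0)))) (.nd (.nd (.nd (.lf 163) (.lf 120)) (.nd (.lf 391) (.lf 0))) (.nd (.nd (.lf 1212) (.lf 0)) (.nd (.lf 400) (.lf 0))))) (.nd (.nd (.nd (.nd (.lf 1099) (.lf 576)) (.nd (.lf 603) (.lf 0))) (.nd (.nd (.lf 1035) (.lf 0)) (.nd (.lf 392) (.lf 0)))) (.nd (.nd (.nd (.lf 375) (.lf 169)) (.nd (.lf 1284) (.lf 0))) (.nd (.nd (.lf 1214) (.lf 0)) (.nd (.lf 106) (.lf 0)))))) (.nd (.nd (.nd (.nd (.nd (.lf 1155) (.lf 88)) (.nd (.lf 513) (.lf 0))) (.nd (.nd (.lf 588) (.lf 0)) (.nd (.lf 654) (.lf 0)))) (.nd (.nd (.nd (.lf 234) (.lf 126)) (.nd (.lf 780) (.lf 0))) (.nd (.nd (.lf 1216) (.lf 0)) (.nd (.lf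 39) (.lf 0))))) (.nd (.nd (.nd (.nd (.lf 522) (.lf 726)) (.nd (.lf 923) (.lf 0))) (.nd (.nd (.lf 483) (.lf 0)) (.nd (.lf 1280) (.lf 0)))) (.nd (.nd (.nd (.lf 596) (.lf 382)) (.nd (.lf 733) (.lf 0))) (.nd (.nd (.lf 1055) (.lf 0)) (.nd (.lf 935) (.lf 0))))))

/-- table part -/
def srtT_27 : Tr :=
  .nd (.nd (.nd (.nd (.nd (.nd (.lf 1000) (.lf 1011)) (.nd (.lf 849) (.lf 0))) (.nd (.nd (.lf 1007) (.lf 0)) (.nd (.lf 1223) (.lf 0)))) (.nd (.nd (.nd (.lf 9) (.lf 796)) (.nd (.lf 731) (.lf 0))) (.nd (.nd (.lf 685) (.lf 0)) (.nd (.lf 684) (.lf 0))))) (.nd (.nd (.nd (.nd (.lf 355) (.lf 536)) (.nd (.lf 542) (.lf 0))) (.nd (.nd (.lf 1248) (.lf 0)) (.nd (.lf 1224) (.lf 0)))) (.nd (.nd (.nd (.lf 182) (.lf 605)) (.nd (.lf 159) (.lf 0))) (.nd (.nd (.lf 336) (.lf 0)) (.nd (.lf 477) (.lf 0)))))) (.nd (.nd (.nd (.nd (.nd (.lf 255)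 (.lf 1240)) (.nd (.lf 1269) (.lf 0))) (.nd (.nd (.lf 783) (.lf 0)) (.nd (.lf 343) (.lf 0)))) (.nd (.nd (.nd (.lf 854) (.lf 1113)) (.nd (.lf 118) (.lf 0))) (.nd (.nd (.lf 853) (.lf 0)) (.nd (.lf 743) (.lf 0))))) (.nd (.nd (.nd (.nd (.lf 888) (.lf 673)) (.nd (.lf 813) (.lf 0))) (.nd (.nd (.lf 894) (.lf 0)) (.nd (.lf 674) (.lf 0)))) (.nd (.nd (.nd (.lf 672) (.lf 827)) (.nd (.lf 1058) (.lf 0))) (.nd (.nd (.lf 561) (.lf 0)) (.nd (.lf 874) (.lf 0))))))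

/-- table part -/
def srtT_28 : Tr :=
  .nd srtT_26 srtT_27

/-- table part -/
def srtT_29 : Tr :=
  .nd srtT_25 srtT_28

/-- table part -/
def srtT_30 : Tr :=
  .nd srtT_22 srtT_29

/-- table part -/
def srtT_31 : Tr :=
  .nd srtT_15 srtT_30

/-- table part -/
def srtT_32 : Tr :=
  .nd (.nd (.nd (.nd (.nd (.nd (.lf 1101) (.lf 1175)) (.nd (.lf 747) (.lf 0))) (.nd (.nd (.lf 226) (.lf 919)) (.nd (.lf 540) (.lf 0)))) (.nd (.nd (.nd (.lf 1096) (.lf 235)) (.nd (.lf 949) (.lf 0))) (.nd (.nd (.lf 1057) (.lf 0)) (.nd (.lf 983) (.lf 0))))) (.nd (.nd (.nd (.nd (.lf 840) (.lf 791)) (.nd (.lf 799) (.lf 0))) (.nd (.nd (.lf 1087) (.lf 0)) (.nd (.lf 683) (.lf 0)))) (.nd (.nd (.nd (.lf 1100) (.lf 753)) (.nd (.lf 183) (.lf 0))) (.nd (.nd (.lf 1034) (.lf 0)) (.nd (.lf 108) (.lf 0)))))) (.nd (.nd (.nd (.nd (.nd (.lf 886) (.lf 925))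 (.nd (.lf 1041) (.lf 0))) (.nd (.nd (.lf 322) (.lf 0)) (.nd (.lf 1286) (.lf 0)))) (.nd (.nd (.nd (.lf 646) (.lf 1169)) (.nd (.lf 810) (.lf 0))) (.nd (.nd (.lf 1255) (.lf 0)) (.nd (.lf 985) (.lf 0))))) (.nd (.nd (.nd (.nd (.lf 356) (.lf 870)) (.nd (.lf 38) (.lf 0))) (.nd (.nd (.lf 786) (.lf 0)) (.nd (.lf 867) (.lf 0)))) (.nd (.nd (.nd (.lf 1044) (.lf 844)) (.nd (.lf 824) (.lf 0))) (.nd (.nd (.lf 1244) (.lf 0)) (.nd (.lf 1177) (.lf 0))))))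

/-- table part -/
def srtT_33 : Tr :=
  .nd (.nd (.nd (.nd (.nd (.nd (.lf 846) (.lf 211)) (.nd (.lf 155) (.lf 0))) (.nd (.nd (.lf 680) (.lf 0)) (.nd (.lf 124) (.lf 0)))) (.nd (.nd (.nd (.lf 1184) (.lf 411)) (.nd (.lf 269) (.lf 0))) (.nd (.nd (.lf 991) (.lf 0)) (.nd (.lf 350) (.lf 0))))) (.nd (.nd (.nd (.nd (.lf 861) (.lf 710)) (.nd (.lf 300) (.lf 0))) (.nd (.nd (.lf 58) (.lf 0)) (.nd (.lf 132) (.lf 0)))) (.nd (.nd (.nd (.lf 929) (.lf 1120)) (.nd (.lf 581) (.lf 0))) (.nd (.nd (.lf 942) (.lf 0)) (.nd (.lf 125) (.lf 0)))))) (.nd (.nd (.nd (.nd (.nd (.lf 1178) (.lf 323)) (.nd (.lf 141) (.lf 0))) (.nd (.nd (.lf 372) (.lf 0)) (.nd (.lf 1051) (.lf 0)))) (.nd (.nd (.nd (.lf 1225) (.lf 901)) (.nd (.lf 87) (.lf 0))) (.nd (.nd (.lf 344) (.lf 0)) (.nd (.lf 205) (.lf 0))))) (.nd (.nd (.nd (.nd (.lf 1194) (.lf 1107)) (.nd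 (.lf 900) (.lf 0))) (.nd (.nd (.lf 447) (.lf 0)) (.nd (.lf 818) (.lf 0)))) (.nd (.nd (.nd (.lf 1092) (.lf 705)) (.nd (.lf 862) (.lf 0))) (.nd (.nd (.lf 277) (.lf 0)) (.nd (.lf 650) (.lf 0))))))

/-- table part -/
def srtT_34 : Tr :=
  .nd srtT_32 srtT_33

/-- table part -/
def srtT_35 : Tr :=
  .nd (.nd (.nd (.nd (.nd (.nd (.lf 240) (.lf 1252)) (.nd (.lf 1220) (.lf 0))) (.nd (.nd (.lf 213) (.lf 0)) (.nd (.lf 914) (.lf 0)))) (.nd (.nd (.nd (.lf 697) (.lf 1282)) (.nd (.lf 803) (.lf 0))) (.nd (.nd (.lf 558) (.lf 0)) (.nd (.lf 91) (.lf 0))))) (.nd (.nd (.nd (.nd (.lf 571) (.lf 593)) (.nd (.lf 444) (.lf 0))) (.nd (.nd (.lf 878) (.lf 0)) (.nd (.lf 396) (.lf 0)))) (.nd (.nd (.nd (.lf 1104) (.lf 1)) (.nd (.lf 83) (.lf 0))) (.nd (.nd (.lf 499) (.lf 0)) (.nd (.lf 1138) (.lf 0)))))) (.nd (.nd (.nd (.nd (.nd (.lf 528) (.lf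 933)) (.nd (.lf 1229) (.lf 0))) (.nd (.nd (.lf 698) (.lf 0)) (.nd (.lf 428) (.lf 0)))) (.nd (.nd (.nd (.lf 958) (.lf 498)) (.nd (.lf 50) (.lf 0))) (.nd (.nd (.lf 72) (.lf 0)) (.nd (.lf 378) (.lf 0))))) (.nd (.nd (.nd (.nd (.lf 1045) (.lf 611)) (.nd (.lf 595) (.lf 0))) (.nd (.nd (.lf 1235) (.lf 0)) (.nd (.lf 716) (.lf 0)))) (.nd (.nd (.nd (.lf 1258) (.lf 40)) (.nd (.lf 55) (.lf 0))) (.nd (.nd (.lf 634) (.lf 0)) (.nd (.lf 1154) (.lf 0))))))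

/-- table part -/
def srtT_36 : Tr :=
  .nd (.nd (.nd (.nd (.nd (.nd (.lf 993) (.lf 767)) (.nd (.lf 531) (.lf 0))) (.nd (.nd (.lf 430) (.lf 0)) (.nd (.lf 965) (.lf 0)))) (.nd (.nd (.nd (.lf 321) (.lf 873)) (.nd (.lf 1206) (.lf 0))) (.nd (.nd (.lf 178) (.lf 0)) (.nd (.lf 4) (.lf 0))))) (.nd (.nd (.nd (.nd (.lf 808) (.lf 303)) (.nd (.lf 364) (.lf 0))) (.nd (.nd (.lf 489) (.lf 0)) (.nd (.lf 1027) (.lf 0)))) (.nd (.nd (.nd (.lf 676) (.lf 704)) (.nd (.lf 1158) (.lf 0))) (.nd (.nd (.lf 289) (.lf 0)) (.nd (.lf 936) (.lf 0)))))) (.nd (.nd (.nd (.nd (.nd (.lf 410) (.lf 27)) (.nd (.lf 675) (.lf 0))) (.nd (.nd (.lf 1063) (.lf 0)) (.nd (.lf 485) (.lf 0)))) (.nd (.nd (.nd (.lf 1070) (.lf 98)) (.nd (.lf 302) (.lf 0))) (.nd (.nd (.lf 140) (.lf 0)) (.nd (.lf 143) (.lf 0))))) (.nd (.nd (.nd (.nd (.lf 816) (.lf 244)) (.nd (.lf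 232) (.lf 0))) (.nd (.nd (.lf 1050) (.lf 0)) (.nd (.lf 832) (.lf 0)))) (.nd (.nd (.nd (.lf 1209) (.lf 288)) (.nd (.lf 399) (.lf 0))) (.nd (.nd (.lf 979) (.lf 0)) (.nd (.lf 759) (.lf 0))))))

/-- table part -/
def srtT_37 : Tr :=
  .nd srtT_35 srtT_36

/-- table part -/
def srtT_38 : Tr :=
  .nd srtT_34 srtT_37

/-- table part -/
def srtT_39 : Tr :=
  .nd (.nd (.nd (.nd (.nd (.nd (.lf 1131) (.lf 97)) (.nd (.lf 54) (.lf 0))) (.nd (.nd (.lf 34) (.lf 1108)) (.nd (.lf 1185) (.lf 0)))) (.nd (.nd (.nd (.lf 11) (.lf 811)) (.nd (.lf 781) (.lf 0))) (.nd (.nd (.lf 197) (.lf 0)) (.nd (.lf 775) (.lf 0))))) (.nd (.nd (.nd (.nd (.lf 451) (.lf 96)) (.nd (.lf 699) (.lf 0))) (.nd (.nd (.lf 189) (.lf 0)) (.nd (.lf 1114) (.lf 0)))) (.nd (.nd (.nd (.lf 1218) (.lf 707)) (.nd (.lf 420) (.lf 0))) (.nd (.nd (.lf 890) (.lf 0)) (.nd (.lf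 962) (.lf 0)))))) (.nd (.nd (.nd (.nd (.nd (.lf 274) (.lf 621)) (.nd (.lf 10) (.lf 0))) (.nd (.nd (.lf 1165) (.lf 0)) (.nd (.lf 689) (.lf 0)))) (.nd (.nd (.nd (.lf 1002) (.lf 1010)) (.nd (.lf 309) (.lf 0))) (.nd (.nd (.lf 835) (.lf 0)) (.nd (.lf 313) (.lf 0))))) (.nd (.nd (.nd (.nd (.lf 1074) (.lf 755)) (.nd (.lf 405) (.lf 0))) (.nd (.nd (.lf 656) (.lf 0)) (.nd (.lf 1012) (.lf 0)))) (.nd (.nd (.nd (.lf 1210) (.lf 236)) (.nd (.lf 594) (.lf 0))) (.nd (.nd (.lf 788) (.lf 0)) (.nd (.lf 727) (.lf 0))))))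

/-- table part -/
def srtT_40 : Tr :=
  .nd (.nd (.nd (.nd (.nd (.nd (.lf 256) (.lf 987)) (.nd (.lf 1039) (.lf 0))) (.nd (.nd (.lf 1026) (.lf 0)) (.nd (.lf 961) (.lf 0)))) (.nd (.nd (.nd (.lf 814) (.lf 1047)) (.nd (.lf 406) (.lf 0))) (.nd (.nd (.lf 774) (.lf 0)) (.nd (.lf 1238) (.lf 0))))) (.nd (.nd (.nd (.nd (.lf 686) (.lf 616)) (.nd (.lf 1142) (.lf 0))) (.nd (.nd (.lf 787) (.lf 0)) (.nd (.lf 404) (.lf 0)))) (.nd (.nd (.nd (.lf 508) (.lf 500)) (.nd (.lf 481) (.lf 0))) (.nd (.nd (.lf 693) (.lf 0)) (.nd (.lf 544) (.lf 0)))))) (.nd (.nd (.nd (.nd (.nd (.lf 1285) (.lf 734)) (.nd (.lf 1065) (.lf 0))) (.nd (.nd (.lf 954) (.lf 0)) (.nd (.lf 1281) (.lf 0)))) (.nd (.nd (.nd (.lf 208) (.lf 882)) (.nd (.lf 915) (.lf 0))) (.nd (.nd (.lf 203) (.lf 0)) (.nd (.lf 714) (.lf 0))))) (.nd (.nd (.nd (.nd (.lf 998) (.lf 15)) (.nd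 (.lf 1217) (.lf 0))) (.nd (.nd (.lf 637) (.lf 0)) (.nd (.lf 318) (.lf 0)))) (.nd (.nd (.nd (.lf 90) (.lf 230)) (.nd (.lf 836) (.lf 0))) (.nd (.nd (.lf 495) (.lf 0)) (.nd (.lf 932) (.lf 0))))))

/-- table part -/
def srtT_41 : Tr :=
  .nd srtT_39 srtT_40

/-- table part -/
def srtT_42 : Tr :=
  .nd (.nd (.nd (.nd (.nd (.nd (.lf 677) (.lf 212)) (.nd (.lf 602) (.lf 0))) (.nd (.nd (.lf 290) (.lf 0)) (.nd (.lf 1147) (.lf 0)))) (.nd (.nd (.nd (.lf 490) (.lf 1153)) (.nd (.lf 723) (.lf 0))) (.nd (.nd (.lf 57) (.lf 0)) (.nd (.lf 771) (.lf 0))))) (.nd (.nd (.nd (.nd (.lf 821) (.lf 1267)) (.nd (.lf 889) (.lf 0))) (.nd (.nd (.lf 24) (.lf 0)) (.nd (.lf 461) (.lf 0)))) (.nd (.nd (.nd (.lf 722) (.lf 101)) (.nd (.lf 67) (.lf 0))) (.nd (.nd (.lf 879) (.lf 0)) (.nd (.lf 467) (.lf 0)))))) (.nd (.nd (.nd (.nd (.nd (.lf 917) (.lf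 285)) (.nd (.lf 851) (.lf 0))) (.nd (.nd (.lf 701) (.lf 0)) (.nd (.lf 13) (.lf 0)))) (.nd (.nd (.nd (.lf 718) (.lf 517)) (.nd (.lf 388) (.lf 0))) (.nd (.nd (.lf 1274) (.lf 0)) (.nd (.lf 1163) (.lf 0))))) (.nd (.nd (.nd (.nd (.lf 317) (.lf 937)) (.nd (.lf 741) (.lf 0))) (.nd (.nd (.lf 1183) (.lf 0)) (.nd (.lf 448) (.lf 0)))) (.nd (.nd (.nd (.lf 52) (.lf 390)) (.nd (.lf 471) (.lf 0))) (.nd (.nd (.lf 127) (.lf 0)) (.nd (.lf 304) (.lf 0))))))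

/-- table part -/
def srtT_43 : Tr :=
  .nd (.nd (.nd (.nd (.nd (.nd (.lf 64) (.lf 472)) (.nd (.lf 32) (.lf 0))) (.nd (.nd (.lf 30) (.lf 0)) (.nd (.lf 852) (.lf 0)))) (.nd (.nd (.nd (.lf 154) (.lf 1211)) (.nd (.lf 905) (.lf 0))) (.nd (.nd (.lf 1200) (.lf 0)) (.nd (.lf 69) (.lf 0))))) (.nd (.nd (.nd (.nd (.lf 597) (.lf 56)) (.nd (.lf 533) (.lf 0))) (.nd (.nd (.lf 479) (.lf 0)) (.nd (.lf 1260) (.lf 0)))) (.nd (.nd (.nd (.lf 857) (.lf 607)) (.nd (.lf 374) (.lf 0))) (.nd (.nd (.lf 200) (.lf 0)) (.nd (.lf 1257) (.lf 0)))))) (.nd (.nd (.nd (.nd (.nd (.lf 794) (.lf 1090)) (.nd (.lf 1040) (.lf 0))) (.nd (.nd (.lf 353) (.lf 0)) (.nd (.lf 314) (.lf 0)))) (.nd (.nd (.nd (.lf 188) (.lf 1195)) (.nd (.lf 308) (.lf 0))) (.nd (.nd (.lf 742) (.lf 0)) (.nd (.lf 899) (.lf 0))))) (.nd (.nd (.nd (.nd (.lf 568) (.lf 1003)) (.nd (.lf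 868) (.lf 0))) (.nd (.nd (.lf 719) (.lf 0)) (.nd (.lf 502) (.lf 0)))) (.nd (.nd (.nd (.lf 196) (.lf 975)) (.nd (.lf 712) (.lf 0))) (.nd (.nd (.lf 207) (.lf 0)) (.nd (.lf 133) (.lf 0))))))

/-- table part -/
def srtT_44 : Tr :=
  .nd srtT_42 srtT_43

/-- table part -/
def srtT_45 : Tr :=
  .nd srtT_41 srtT_44

/-- table part -/
def srtT_46 : Tr :=
  .nd srtT_38 srtT_45

/-- table part -/
def srtT_47 : Tr :=
  .nd (.nd (.nd (.nd (.nd (.nd (.lf 25) (.lf 763)) (.nd (.lf 941) (.lf 0))) (.nd (.nd (.lf 526) (.lf 797)) (.nd (.lf 912) (.lf 0)))) (.nd (.nd (.nd (.lf 195) (.lf 44)) (.nd (.lf 717) (.lf 0))) (.nd (.nd (.lf 460) (.lf 0)) (.nd (.lf 463) (.lf 0))))) (.nd (.nd (.nd (.nd (.lf 201) (.lf 534)) (.nd (.lf 360) (.lf 0))) (.nd (.nd (.lf 359) (.lf 0)) (.nd (.lf 21) (.lf 0)))) (.nd (.nd (.nd (.lf 260) (.lf 1272)) (.nd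 (.lf 18) (.lf 0))) (.nd (.nd (.lf 99) (.lf 0)) (.nd (.lf 1091) (.lf 0)))))) (.nd (.nd (.nd (.nd (.nd (.lf 409) (.lf 946)) (.nd (.lf 366) (.lf 0))) (.nd (.nd (.lf 1064) (.lf 0)) (.nd (.lf 337) (.lf 0)))) (.nd (.nd (.nd (.lf 629) (.lf 1205)) (.nd (.lf 145) (.lf 0))) (.nd (.nd (.lf 191) (.lf 0)) (.nd (.lf 1276) (.lf 0))))) (.nd (.nd (.nd (.nd (.lf 1227) (.lf 691)) (.nd (.lf 920) (.lf 0))) (.nd (.nd (.lf 33) (.lf 0)) (.nd (.lf 532) (.lf 0)))) (.nd (.nd (.nd (.lf 739) (.lf 815)) (.nd (.lf 573) (.lf 0))) (.nd (.nd (.lf 45) (.lf 0)) (.nd (.lf 397) (.lf 0))))))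

/-- table part -/
def srtT_48 : Tr :=
  .nd (.nd (.nd (.nd (.nd (.nd (.lf 554) (.lf 1245)) (.nd (.lf 387) (.lf 0))) (.nd (.nd (.lf 134) (.lf 0)) (.nd (.lf 358) (.lf 0)))) (.nd (.nd (.nd (.lf 231) (.lf 891)) (.nd (.lf 100) (.lf 0))) (.nd (.nd (.lf 687) (.lf 0)) (.nd (.lf 926) (.lf 0))))) (.nd (.nd (.nd (.nd (.lf 740) (.lf 245)) (.nd (.lf 1277) (.lf 0))) (.nd (.nd (.lf 299) (.lf 0)) (.nd (.lf 117) (.lf 0)))) (.nd (.nd (.nd (.lf 1033) (.lf 1139)) (.nd (.lf 476) (.lf 0))) (.nd (.nd (.lf 1056) (.lf 0)) (.nd (.lf 944) (.lf 0)))))) (.nd (.nd (.nd (.nd (.nd (.lf 549) (.lf 1093)) (.nd (.lf 107) (.lf 0))) (.nd (.nd (.lf 994) (.lf 0)) (.nd (.lf 131) (.lf 0)))) (.nd (.nd (.nd (.lf 1239) (.lf 110)) (.nd (.lf 466) (.lf 0))) (.nd (.nd (.lf 881) (.lf 0)) (.nd (.lf 1136) (.lf 0))))) (.nd (.nd (.nd (.nd (.lf 951) (.lf 233)) (.nd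 (.lf 493) (.lf 0))) (.nd (.nd (.lf 53) (.lf 0)) (.nd (.lf 709) (.lf 0)))) (.nd (.nd (.nd (.lf 591) (.lf 206)) (.nd (.lf 1199) (.lf 0))) (.nd (.nd (.lf 1279) (.lf 0)) (.nd (.lf 311) (.lf 0))))))

/-- table part -/
def srtT_49 : Tr :=
  .nd srtT_47 srtT_48

/-- table part -/
def srtT_50 : Tr :=
  .nd (.nd (.nd (.nd (.nd (.nd (.lf 66) (.lf 216)) (.nd (.lf 1167) (.lf 0))) (.nd (.nd (.lf 278) (.lf 0)) (.nd (.lf 1082) (.lf 0)))) (.nd (.nd (.nd (.lf 293) (.lf 606)) (.nd (.lf 42) (.lf 0))) (.nd (.nd (.lf 971) (.lf 0)) (.nd (.lf 275) (.lf 0))))) (.nd (.nd (.nd (.nd (.lf 1265) (.lf 464)) (.nd (.lf 648) (.lf 0))) (.nd (.nd (.lf 349) (.lf 0)) (.nd (.lf 1192) (.lf 0)))) (.nd (.nd (.nd (.lf 279) (.lf 297)) (.nd (.lf 268) (.lf 0))) (.nd (.nd (.lf 198) (.lf 0)) (.nd (.lf 1062) (.lf 0)))))) (.nd (.nd (.nd (.nd (.nd (.lf 631) (.lf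 310)) (.nd (.lf 609) (.lf 0))) (.nd (.nd (.lf 1271) (.lf 0)) (.nd (.lf 266) (.lf 0)))) (.nd (.nd (.nd (.lf 903) (.lf 751)) (.nd (.lf 1173) (.lf 0))) (.nd (.nd (.lf 590) (.lf 0)) (.nd (.lf 667) (.lf 0))))) (.nd (.nd (.nd (.nd (.lf 537) (.lf 190)) (.nd (.lf 376) (.lf 0))) (.nd (.nd (.lf 186) (.lf 0)) (.nd (.lf 1270) (.lf 0)))) (.nd (.nd (.nd (.lf 939) (.lf 541)) (.nd (.lf 1157) (.lf 0))) (.nd (.nd (.lf 812) (.lf 0)) (.nd (.lf 271) (.lf 0))))))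

/-- table part -/
def srtT_51 : Tr :=
  .nd (.nd (.nd (.nd (.nd (.nd (.lf 779) (.lf 365)) (.nd (.lf 1080) (.lf 0))) (.nd (.nd (.lf 1170) (.lf 0)) (.nd (.lf 148) (.lf 0)))) (.nd (.nd (.nd (.lf 859) (.lf 974)) (.nd (.lf 494) (.lf 0))) (.nd (.nd (.lf 636) (.lf 0)) (.nd (.lf 955) (.lf 0))))) (.nd (.nd (.nd (.nd (.lf 1187) (.lf 1106)) (.nd (.lf 1145) (.lf 0))) (.nd (.nd (.lf 612) (.lf 0)) (.nd (.lf 484) (.lf 0)))) (.nd (.nd (.nd (.lf 1164) (.lf 715)) (.nd (.lf 902) (.lf 0))) (.nd (.nd (.lf 738) (.lf 0)) (.nd (.lf 1109) (.lf 0)))))) (.nd (.nd (.nd (.nd (.nd (.lf 342) (.lf 1025)) (.nd (.lf 422) (.lf 0))) (.nd (.nd (.lf 950) (.lf 0)) (.nd (.lf 1086) (.lf 0)))) (.nd (.nd (.nd (.lf 864) (.lf 49)) (.nd (.lf 1122) (.lf 0))) (.nd (.nd (.lf 580) (.lf 0)) (.nd (.lf 12) (.lf 0))))) (.nd (.nd (.nd (.nd (.lf 833) (.lf 368)) (.nd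 (.lf 171) (.lf 0))) (.nd (.nd (.lf 992) (.lf 0)) (.nd (.lf 966) (.lf 0)))) (.nd (.nd (.nd (.lf 895) (.lf 795)) (.nd (.lf 564) (.lf 0))) (.nd (.nd (.lf 756) (.lf 0)) (.nd (.lf 708) (.lf 0))))))

/-- table part -/
def srtT_52 : Tr :=
  .nd srtT_50 srtT_51

/-- table part -/
def srtT_53 : Tr :=
  .nd srtT_49 srtT_52

/-- table part -/
def srtT_54 : Tr :=
  .nd (.nd (.nd (.nd (.nd (.nd (.lf 113) (.lf 429)) (.nd (.lf 575) (.lf 0))) (.nd (.nd (.lf 652) (.lf 847)) (.nd (.lf 639) (.lf 0)))) (.nd (.nd (.nd (.lf 608) (.lf 838)) (.nd (.lf 417) (.lf 0))) (.nd (.nd (.lf 887) (.lf 0)) (.nd (.lf 431) (.lf 0))))) (.nd (.nd (.nd (.nd (.lf 193) (.lf 850)) (.nd (.lf 6) (.lf 0))) (.nd (.nd (.lf 413) (.lf 0)) (.nd (.lf 520) (.lf 0)))) (.nd (.nd (.nd (.lf 82) (.lf 176)) (.nd (.lf 907) (.lf 0))) (.nd (.nd (.lf 377) (.lf 0)) (.nd (.lf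 1024) (.lf 0)))))) (.nd (.nd (.nd (.nd (.nd (.lf 1186) (.lf 876)) (.nd (.lf 589) (.lf 0))) (.nd (.nd (.lf 1228) (.lf 0)) (.nd (.lf 1067) (.lf 0)))) (.nd (.nd (.nd (.lf 1208) (.lf 801)) (.nd (.lf 341) (.lf 0))) (.nd (.nd (.lf 930) (.lf 0)) (.nd (.lf 578) (.lf 0))))) (.nd (.nd (.nd (.nd (.lf 243) (.lf 1049)) (.nd (.lf 777) (.lf 0))) (.nd (.nd (.lf 1160) (.lf 0)) (.nd (.lf 615) (.lf 0)))) (.nd (.nd (.nd (.lf 17) (.lf 1032)) (.nd (.lf 688) (.lf 0))) (.nd (.nd (.lf 168) (.lf 0)) (.nd (.lf 834) (.lf 0))))))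

/-- table part -/
def srtT_55 : Tr :=
  .nd (.nd (.nd (.nd (.nd (.nd (.lf 769) (.lf 690)) (.nd (.lf 438) (.lf 0))) (.nd (.nd (.lf 574) (.lf 0)) (.nd (.lf 202) (.lf 0)))) (.nd (.nd (.nd (.lf 254) (.lf 1127)) (.nd (.lf 1016) (.lf 0))) (.nd (.nd (.lf 315) (.lf 0)) (.nd (.lf 421) (.lf 0))))) (.nd (.nd (.nd (.nd (.lf 192) (.lf 1254)) (.nd (.lf 282) (.lf 0))) (.nd (.nd (.lf 35) (.lf 0)) (.nd (.lf 291) (.lf 0)))) (.nd (.nd (.nd (.lf 566) (.lf 1249)) (.nd (.lf 809) (.lf 0))) (.nd (.nd (.lf 1017) (.lf 0)) (.nd (.lf 626) (.lf 0)))))) (.nd (.nd (.nd (.nd (.nd (.lf 681) (.lf 329)) (.nd (.lf 829) (.lf 0))) (.nd (.nd (.lf 70) (.lf 0)) (.nd (.lf 330) (.lf 0)))) (.nd (.nd (.nd (.lf 1215) (.lf 103)) (.nd (.lf 1089) (.lf 0))) (.nd (.nd (.lf 1242) (.lf 0)) (.nd (.lf 647) (.lf 0))))) (.nd (.nd (.nd (.nd (.lf 449) (.lf 181)) (.nd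 (.lf 1038) (.lf 0))) (.nd (.nd (.lf 434) (.lf 0)) (.nd (.lf 139) (.lf 0)))) (.nd (.nd (.nd (.lf 135) (.lf 1028)) (.nd (.lf 1048) (.lf 0))) (.nd (.nd (.lf 1029) (.lf 0)) (.nd (.lf 172) (.lf 0))))))

/-- table part -/
def srtT_56 : Tr :=
  .nd srtT_54 srtT_55

/-- table part -/
def srtT_57 : Tr :=
  .nd (.nd (.nd (.nd (.nd (.nd (.lf 122) (.lf 1221)) (.nd (.lf 92) (.lf 0))) (.nd (.nd (.lf 443) (.lf 0)) (.nd (.lf 435) (.lf 0)))) (.nd (.nd (.nd (.lf 1125) (.lf 752)) (.nd (.lf 721) (.lf 0))) (.nd (.nd (.lf 1112) (.lf 0)) (.nd (.lf 394) (.lf 0))))) (.nd (.nd (.nd (.nd (.lf 1266) (.lf 320)) (.nd (.lf 94) (.lf 0))) (.nd (.nd (.lf 761) (.lf 0)) (.nd (.lf 601) (.lf 0)))) (.nd (.nd (.nd (.lf 252) (.lf 456)) (.nd (.lf 658) (.lf 0))) (.nd (.nd (.lf 26) (.lf 0)) (.nd (.lf 1190) (.lf 0)))))) (.nd (.nd (.nd (.nd (.nd (.lf 559)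 (.lf 332)) (.nd (.lf 61) (.lf 0))) (.nd (.nd (.lf 921) (.lf 0)) (.nd (.lf 805) (.lf 0)))) (.nd (.nd (.nd (.lf 354) (.lf 36)) (.nd (.lf 263) (.lf 0))) (.nd (.nd (.lf 1124) (.lf 0)) (.nd (.lf 287) (.lf 0))))) (.nd (.nd (.nd (.nd (.lf 371) (.lf 843)) (.nd (.lf 1159) (.lf 0))) (.nd (.nd (.lf 1019) (.lf 0)) (.nd (.lf 535) (.lf 0)))) (.nd (.nd (.nd (.lf 1134) (.lf 457)) (.nd (.lf 130) (.lf 0))) (.nd (.nd (.lf 251) (.lf 0)) (.nd (.lf 640) (.lf 0))))))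

/-- table part -/
def srtT_58 : Tr :=
  .nd (.nd (.nd (.nd (.nd (.nd (.lf 618) (.lf 264)) (.nd (.lf 334) (.lf 0))) (.nd (.nd (.lf 892) (.lf 0)) (.nd (.lf 981) (.lf 0)))) (.nd (.nd (.nd (.lf 427) (.lf 546)) (.nd (.lf 441) (.lf 0))) (.nd (.nd (.lf 8) (.lf 0)) (.nd (.lf 724) (.lf 0))))) (.nd (.nd (.nd (.nd (.lf 488) (.lf 284)) (.nd (.lf 1053) (.lf 0))) (.nd (.nd (.lf 62) (.lf 0)) (.nd (.lf 913) (.lf 0)))) (.nd (.nd (.nd (.lf 885) (.lf 1117)) (.nd (.lf 1009) (.lf 0))) (.nd (.nd (.lf 5) (.lf 0)) (.nd (.lf 1084) (.lf 0)))))) (.nd (.nd (.nd (.nd (.nd (.lf 806) (.lf 659)) (.nd (.lf 1013) (.lf 0))) (.nd (.nd (.lf 1191) (.lf 0)) (.nd (.lf 1075) (.lf 0)))) (.nd (.nd (.nd (.lf 408) (.lf 737)) (.nd (.lf 1174) (.lf 0))) (.nd (.nd (.lf 225) (.lf 0)) (.nd (.lf 504) (.lf 0))))) (.nd (.nd (.nd (.nd (.lf 136) (.lf 1253)) (.nd (.lf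 501) (.lf 0))) (.nd (.nd (.lf 486) (.lf 0)) (.nd (.lf 1156) (.lf 0)))) (.nd (.nd (.nd (.lf 1262) (.lf 927)) (.nd (.lf 720) (.lf 0))) (.nd (.nd (.lf 307) (.lf 0)) (.nd (.lf 960) (.lf 0))))))

/-- table part -/
def srtT_59 : Tr :=
  .nd srtT_57 srtT_58

/-- table part -/
def srtT_60 : Tr :=
  .nd srtT_56 srtT_59

/-- table part -/
def srtT_61 : Tr :=
  .nd srtT_53 srtT_60

/-- table part -/
def srtT_62 : Tr :=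
  .nd srtT_46 srtT_61

/-- table part -/
def srtT_63 : Tr :=
  .nd srtT_31 srtT_62

/-- table -/
def srtT : Tr :=
  srtT_63

end Cfsg.Agent.SplitVoltageM23Orbit
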