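import Cfsg.Agent.Lib.SplitVoltageM23P2Data

/-!
Check of the certificate for M23 modulo 2.
-/

set_option autoImplicit false
set_option maxRecDepth 100000
set_option maxHeartbeats 2000000

namespace Cfsg.Agent.SplitVoltageM23P2

open Cfsg.Agent.SplitVoltageCert SplitVoltageM23P2Data

theorem cert_ok : cert.OK where
  hm := by decide +kernel
  hn := by decide +kernel
  hN := by decide +kernel
  hnpow := by decide +kernel
  hK := by decide +kernel
  table := by decide +kernel
  tree := by decide +kernel
  rel := by decide +kernel
  edge := by decide +kernel
  fin := by decide +kernel

end Cfsg.Agent.SplitVoltageM23P2
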