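import Cfsg.Agent.Lib.SplitVoltageM23P3Data

/-!
Check of the certificate for M23 modulo 3.
-/

set_option autoImplicit false
set_option maxRecDepth 100000
set_option maxHeartbeats 2000000
set_option Elab.async false

namespace Cfsg.Agent.SplitVoltageM23P3

open Cfsg.Agent.SplitVoltageCert SplitVoltageM23P3Data

theorem edge_chunk0 : ((List.range' 0 483).all cert.edgeOK) = true := by decide +kernel

theorem edge_chunk1 : ((List.range' 483 483).all cert.edgeOK) = true := by decide +kernel

theorem edge_chunk2 : ((List.range' 966 483).all cert.edgeOK) = true := by decide +kernel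

theorem edge_chunk3 : ((List.range' 1449 483).all cert.edgeOK) = true := by decide +kernel

theorem edge_chunk4 : ((List.range' 1932 483).all cert.edgeOK) = true := by decide +kernel

theorem edge_chunk5 : ((List.range' 2415 483).all cert.edgeOK) = true := by decide +kernel

theorem edge_chunk6 : ((List.range' 2898 483).all cert.edgeOK) = true := by decide +kernel

theorem edge_chunk7 : ((List.range' 3381 483).all cert.edgeOK) = true := by decide +kernel

theorem edge_all : cert.edgesOK = true := by
  refine List.all_eq_true.2 fun x hx => ?_
  have h : x < 3864 := List.mem_range.1 hx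
  by_cases h0 : x < 483
  · exact List.all_eq_true.1 edge_chunk0 x (List.mem_range'_1.2 ⟨by omega, by omega⟩)
  by_cases h1 : x < 966
  · exact List.all_eq_true.1 edge_chunk1 x (List.mem_range'_1.2 ⟨by omega, by omega⟩)
  by_cases h2 : x < 1449
  · exact List.all_eq_true.1 edge_chunk2 x (List.mem_range'_1.2 ⟨by omega, by omega⟩)
  by_cases h3 : x < 1932
  · exact List.all_eq_true.1 edge_chunk3 x (List.mem_range'_1.2 ⟨by omega, by omega⟩)
  by_cases h4 : x < 2415
  · exact List.all_eq_true.1 edge_chunk4 x (List.mem_range'_1.2 ⟨by omega, by omega⟩)
  by_cases h5 : x < 2898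
  · exact List.all_eq_true.1 edge_chunk5 x (List.mem_range'_1.2 ⟨by omega, by omega⟩)
  by_cases h6 : x < 3381
  · exact List.all_eq_true.1 edge_chunk6 x (List.mem_range'_1.2 ⟨by omega, by omega⟩)
  exact List.all_eq_true.1 edge_chunk7 x (List.mem_range'_1.2 ⟨by omega, by omega⟩)

theorem cert_ok : cert.OK where
  hm := by decide +kernel
  hn := by decide +kernel
  hN := by decide +kernel
  hnpow := by decide +kernel
  hK := by decide +kernel
  table := by decide +kernel
  tree := by decide +kernel
  rel := by decide +kernel
  edge := edge_all
  fin := by decide +kernel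

end Cfsg.Agent.SplitVoltageM23P3
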