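import Cfsg.Agent.Lib.SplitVoltageCert

/-!
Orbit keys for M24.
-/

set_option autoImplicit false
set_option maxRecDepth 100000

namespace Cfsg.Agent.SplitVoltageM24Orbit

open Cfsg.Agent.SplitVoltageCert

/-- generators -/
def gensP : List ℕ := [956302485175575353788796878166559809, 983435072843990828779021698901151808, 15196822405822867542016353259664993]

/-- inverse generators -/
def gensQ : List ℕ := [983478296959358443554250846857397270, 970567384681219435340729552166356352, 775097408403350508652301789108060183]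

/-- orders -/
def ords : List ℕ := [23, 11, 11]

/-- table part -/
def keyT_1 : Tr :=
  .nd (.nd (.nd (.nd (.nd (.lf 23) (.lf 17)) (.nd (.lf 20) (.lf 0))) (.nd (.nd (.lf 19) (.lf 22)) (.nd (.lf 21) (.lf 0)))) (.nd (.nd (.nd (.lf 1) (.lf 7)) (.nd (.lf 5) (.lf 0))) (.nd (.nd (.lf 4) (.lf 11)) (.nd (.lf 14) (.lf 0))))) (.nd (.nd (.nd (.nd (.lf 0) (.lf 16)) (.nd (.lf 15) (.lf 0))) (.nd (.nd (.lf 3) (.lf 9)) (.nd (.lf 8) (.lf 0)))) (.nd (.nd (.nd (.lf 2) (.lf 12)) (.nd (.lf 6) (.lf 0))) (.nd (.nd (.lf 13) (.lf 18)) (.nd (.lf 10) (.lf 0)))))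

/-- table -/
def keyT : Tr :=
  keyT_1

/-- table part -/
def posT_1 : Tr :=
  .nd (.nd (.nd (.nd (.nd (.lf 23) (.lf 17)) (.nd (.lf 20) (.lf 0))) (.nd (.nd (.lf 19) (.lf 22)) (.nd (.lf 21) (.lf 0)))) (.nd (.nd (.nd (.lf 1) (.lf 7)) (.nd (.lf 5) (.lf 0))) (.nd (.nd (.lf 4) (.lf 11)) (.nd (.lf 14) (.lf 0))))) (.nd (.nd (.nd (.nd (.lf 0) (.lf 16)) (.nd (.lf 15) (.lf 0))) (.nd (.nd (.lf 3) (.lf 9)) (.nd (.lf 8) (.lf 0)))) (.nd (.nd (.nd (.lf 2) (.lf 12)) (.nd (.lf 6) (.lf 0))) (.nd (.nd (.lf 13) (.lf 18)) (.nd (.lf 10) (.lf 0)))))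

/-- table -/
def posT : Tr :=
  posT_1

/-- table part -/
def srtT_1 : Tr :=
  .nd (.nd (.nd (.nd (.nd (.lf 1) (.lf 17)) (.nd (.lf 13) (.lf 0))) (.nd (.nd (.lf 6) (.lf 8)) (.nd (.lf 19) (.lf 0)))) (.nd (.nd (.nd (.lf 3) (.lf 23)) (.nd (.lf 15) (.lf 0))) (.nd (.nd (.lf 11) (.lf 20)) (.nd (.lf 14) (.lf 0))))) (.nd (.nd (.nd (.nd (.lf 2) (.lf 16)) (.nd (.lf 21) (.lf 0))) (.nd (.nd (.lf 10) (.lf 12)) (.nd (.lf 7) (.lf 0)))) (.nd (.nd (.nd (.lf 5) (.lf 4)) (.nd (.lf 22) (.lf 0))) (.nd (.nd (.lf 18) (.lf 0)) (.nd (.lf 9) (.lf 0)))))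

/-- table -/
def srtT : Tr :=
  srtT_1

end Cfsg.Agent.SplitVoltageM24Orbit
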