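import Cfsg.Agent.Lib.SplitVoltageGolay
import Cfsg.Agent.Lib.GolayStab
import Cfsg.Agent.Lib.GolayOutM11
import Cfsg.Agent.Lib.GolayOutM23
import Cfsg.Agent.Lib.GolayOutM24
import Cfsg.Agent.Lib.SplitVoltageM11Orbit
import Cfsg.Agent.Lib.SplitVoltageM11P2
import Cfsg.Agent.Lib.SplitVoltageM11P3
import Cfsg.Agent.Lib.SplitVoltageM23Orbit
import Cfsg.Agent.Lib.SplitVoltageM23P2
import Cfsg.Agent.Lib.SplitVoltageM23P3
import Cfsg.Agent.Lib.SplitVoltageM24Orbit
import Cfsg.Agent.Lib.SplitVoltageM24P2
import Cfsg.Agent.Lib.SplitVoltageM24P3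

/-!
The multipliers of the Mathieu groups of degree 11, 23 and 24 have no part for the primes 2 and 3.
-/

set_option autoImplicit false
set_option maxRecDepth 100000

namespace Cfsg.Agent.SplitVoltageMathieu

open Cfsg Cfsg.Agent.GolayBasic Cfsg.Agent.GolayPerm Cfsg.Agent.GolayChain Cfsg.Agent.GolaySolve
open Cfsg.Agent.GolayOutTool Cfsg.Agent.GolayOutConst
open Cfsg.Agent.SplitVoltage Cfsg.Agent.SplitVoltageCert Cfsg.Agent.SplitVoltageGolay
open scoped Pointwise

/-- points of a group for conjugation -/
structure Cj (G : Type*) where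
  /-- the element -/
  val : G

instance instCjAct {G : Type*} [Group G] : MulAction G (Cj G) where
  smul g a := ⟨g * a.val * g⁻¹⟩
  one_smul a := by
    show Cj.mk _ = a
    simp
  mul_smul g h a := by
    show Cj.mk _ = Cj.mk _
    congr 1
    show g * h * a.val * (g * h)⁻¹ = g * (h * a.val * h⁻¹) * g⁻¹
    group

theorem Cj.smul_val {G : Type*} [Group G] (g : G) (a : Cj G) :
    (g • a).val = g * a.val * g⁻¹ := rfl

theorem permOf_mul_of_word {A B R : ℕ} (hA : valid A = true) (hB : valid B = true)
    (hR : valid R = true) (h : sameWord [A, B] [R] = true) : permOf A * permOf B = permOf R := by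
  have := prod_eq_of_sameWord (l := [A, B]) (l' := [R])
    (by simp [hA, hB]) (by simp [hR]) h
  simpa using this

/-! ### the group of degree 11 -/

section M11

open SplitVoltageM11Orbit

theorem gens11_check : (gensP.all fun T => memCheck [0] 340831 T) = true := by decide +kernel

theorem gens11_mem : ∀ i < 2, permOf (gensP.getD i 0) ∈ Spor.M11 := fun i hi =>
  mem_M11_of_check (List.all_eq_true.1 gens11_check _ (by
    rw [List.getD_eq_getElem (hn := by simpa [gensP] using hi)]; exact List.getElem_mem _))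

theorem gens11_top : ∀ K : Subgroup Spor.M11,
    (∀ i (hi : i < 2), (⟨_, gens11_mem i hi⟩ : Spor.M11) ∈ K) → K = ⊤ := by
  intro K hK
  rw [eq_top_iff, ← GolayOutM11.closure_gens, Subgroup.closure_le]
  have h0 := hK 0 (by norm_num)
  have h1 := hK 1 (by norm_num)
  have eT : (⟨_, gens11_mem 0 (by norm_num)⟩ : Spor.M11) = GolayOutM11.gT :=
    Subtype.ext (congrArg permOf (show gensP.getD 0 0 = pT by decide +kernel))
  rw [eT] at h0
  have eW : (⟨_, gens11_mem 1 (by norm_num)⟩ : Spor.M11) = GolayOutM11.gV * GolayOutM11.gT :=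
    Subtype.ext (permOf_mul_of_word (A := pV11) (B := pT) (R := gensP.getD 1 0) (by decide +kernel)
      (by decide +kernel) (by decide +kernel) (by decide +kernel)).symm
  rw [eW] at h1
  intro g hg
  rcases hg with rfl | hg
  · exact h0
  · rw [Set.mem_singleton_iff.1 hg]
    simpa using K.mul_mem h1 (K.inv_mem h0)

theorem key11_check : ((List.range 720).all fun c =>
    memCheck [0] 340831 (get keyT c) && (reKey (get keyT c) == get keyT c)) = true := by
  decide +kernel

theorem key11 {c : ℕ} (hc : c < 720) :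
    permOf (get keyT c) ∈ Spor.M11 ∧ valid (get keyT c) = true ∧
      reKey (get keyT c) = get keyT c := by
  have := List.all_eq_true.1 key11_check c (List.mem_range.2 hc)
  simp only [Bool.and_eq_true, beq_iff_eq] at this
  exact ⟨mem_M11_of_check this.1, (memCheck_spec this.1).1, this.2⟩

/-- the orbit under conjugation -/
noncomputable def obj11 (c : ℕ) : Cj Spor.M11 :=
  ⟨if h : c < 720 then ⟨_, (key11 h).1⟩ else 1⟩

theorem obj11_inj : ∀ c < 720, ∀ d < 720, obj11 c = obj11 d → c = d := by
  intro c hc d hd e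
  have h := congrArg (fun a : Cj Spor.M11 => (a.val : Equiv.Perm GolayPt)) e
  simp only [obj11, dif_pos hc, dif_pos hd] at h
  exact inj_of_injOK (N := 720) (key := keyT) (pos := posT) (srt := srtT) (by decide +kernel) hc hd
    (key_inj (key11 hc).2.1 (key11 hd).2.1 (key11 hc).2.2 (key11 hd).2.2 h)

/-- the action check -/
noncomputable def act11 (nx : ℕ → ℕ → ℕ) : Bool :=
  (List.range 720).all fun c => (List.range 2).all fun i => decide (nx i c < 720) &&
    sameWord [gensP.getD i 0, get keyT c] [get keyT (nx i c), gensP.getD i 0]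

theorem obj11_act {nx : ℕ → ℕ → ℕ} (h : act11 nx = true) :
    ∀ i (hi : i < 2), ∀ c < 720,
      (⟨_, gens11_mem i hi⟩ : Spor.M11) • obj11 c = obj11 (nx i c) := by
  intro i hi c hc
  simp only [act11, List.all_eq_true, List.mem_range, Bool.and_eq_true, decide_eq_true_eq] at h
  obtain ⟨hlt, hw⟩ := h c hc i hi
  have hP : valid (gensP.getD i 0) = true := (memCheck_spec (List.all_eq_true.1 gens11_check _ (by
    rw [List.getD_eq_getElem (hn := by simpa [gensP] using hi)]; exact List.getElem_mem _))).1
  have hw' := prod_eq_of_sameWord (l := [gensP.getD i 0, get keyT c])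
    (l' := [get keyT (nx i c), gensP.getD i 0]) (List.forall_mem_cons.2 ⟨hP, by simpa using (key11 hc).2.1⟩)
    (List.forall_mem_cons.2 ⟨(key11 hlt).2.1, by simpa using hP⟩) hw
  simp only [List.map_cons, List.map_nil, List.prod_cons, List.prod_nil, mul_one] at hw'
  have e : ((⟨_, gens11_mem i hi⟩ : Spor.M11) • obj11 c).val = (obj11 (nx i c)).val := by
    apply Subtype.ext
    rw [Cj.smul_val]
    simp only [obj11, dif_pos hc, dif_pos hlt, Subgroup.coe_mul, Subgroup.coe_inv]
    rw [hw', mul_inv_cancel_right]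
  rcases hx : (⟨_, gens11_mem i hi⟩ : Spor.M11) • obj11 c with ⟨a⟩
  rcases hy : obj11 (nx i c) with ⟨b⟩
  rw [hx, hy] at e
  exact congrArg Cj.mk e

theorem stab11_card (m : ℕ) (hm : Nat.Coprime 11 m) :
    Nat.Coprime (Nat.card (MulAction.stabilizer Spor.M11 (obj11 0))) m := by
  refine Nat.Coprime.coprime_dvd_left ?_ hm
  have h0 : (0 : ℕ) < 720 := by norm_num
  set t : Spor.M11 := ⟨_, (key11 h0).1⟩
  have ht : t = GolayOutM11.gT :=
    Subtype.ext (congrArg permOf (show get keyT 0 = pT by decide +kernel))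
  have ho : orderOf t = 11 := by
    rw [ht]
    exact (Subgroup.orderOf_coe GolayOutM11.gT).symm.trans
      (orderOf_eq_of_word (P := pT) (by decide +kernel) (by norm_num) (by decide +kernel)
        (by decide +kernel))
  have hle : MulAction.stabilizer Spor.M11 (obj11 0) ≤ Subgroup.zpowers t := by
    intro g hg
    have hfix := congrArg Cj.val (MulAction.mem_stabilizer_iff.1 hg)
    rw [Cj.smul_val] at hfix
    simp only [obj11, dif_pos h0] at hfix
    have hgt : g * t = t * g := mul_inv_eq_iff_eq_mul.1 hfix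
    obtain ⟨s, hs, hgs⟩ := exists_sol GolayOutM11.chainT GolayOutM11.memT GolayOutM11.sizeT
      (x := get keyT 0) (y := get keyT 0) (r := 1) (es := [0, 1, 2, 3]) (sols := sols)
      (by decide +kernel) g.2 (congrArg Subtype.val hgt)
    obtain ⟨k, -, hk⟩ : ∃ k ∈ List.range 11, (sameWord [s] (List.replicate k (get keyT 0))) = true := by
      have hall : (sols.all fun s => valid s &&
          (List.range 11).any fun k => sameWord [s] (List.replicate k (get keyT 0))) = true := by
        decide +kernel
      have := List.all_eq_true.1 hall s hs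
      simp only [Bool.and_eq_true, List.any_eq_true] at this
      exact this.2
    refine ⟨k, ?_⟩
    apply Subtype.ext
    have hall : (sols.all valid) = true := by decide +kernel
    have := prod_eq_of_sameWord (l := [s]) (l' := List.replicate k (get keyT 0))
      (by simpa using List.all_eq_true.1 hall s hs)
      (fun T hT => by rw [List.eq_of_mem_replicate hT]; exact (key11 h0).2.1) hk
    simp only [List.map_cons, List.map_nil, List.prod_cons, List.prod_nil, mul_one,
      List.map_replicate, List.prod_replicate] at this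
    simp only [zpow_natCast, Subgroup.coe_pow]
    rw [hgs, this]
  have := Subgroup.card_dvd_of_le hle
  rwa [Nat.card_zpowers, ho] at this

theorem censplit_M11 {p : ℕ} (C : Cert) (h : C.OK) (hp : C.m = p) (hn : C.n = 2) (hN : C.N = 720)
    (hnp : C.npow = C.n) (hchk : gensOK C gensP gensQ ords = true)
    (hact : act11 C.nxF = true) (hcop : Nat.Coprime 11 p) : CenSplit p Spor.M11 := by
  subst hp
  haveI : NeZero C.m := ⟨by have := h.hm; omega⟩
  refine censplit_golay C h hnp gensP gensQ ords hchk ?_ (fun i hi => gens11_mem i (hn ▸ hi)) ?_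
    obj11 (fun c hc d hd => obj11_inj c (hN ▸ hc) d (hN ▸ hd)) ?_ (censplit_of_coprime (stab11_card _ hcop))
  · intro i hi
    rw [hn] at hi
    interval_cases i <;> exact ⟨by norm_num [ords], by simpa [ords] using hcop⟩
  · exact fun K hK => gens11_top K fun i hi => hK i (hn.symm ▸ hi)
  · exact fun i hi c hc => obj11_act hact i (hn ▸ hi) c (hN ▸ hc)

theorem split_M11 {p : ℕ} (hp : p = 2 ∨ p = 3) : CenSplit p Spor.M11 := by
  rcases hp with rfl | rfl
  · exact censplit_M11 _ SplitVoltageM11P2.cert_ok rfl rfl rfl rfl (by decide +kernel)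
      (by decide +kernel) (by decide +kernel)
  · exact censplit_M11 _ SplitVoltageM11P3.cert_ok rfl rfl rfl rfl (by decide +kernel)
      (by decide +kernel) (by decide +kernel)

end M11

/-! ### the group of degree 23 -/

section M23

open SplitVoltageM23Orbit

theorem gens23_check : (gensP.all fun T => memCheck [23] 16777215 T) = true := by decide +kernel

theorem gens23_mem : ∀ i < 3, permOf (gensP.getD i 0) ∈ Spor.M23 := fun i hi =>
  mem_M23_of_check (List.all_eq_true.1 gens23_check _ (by
    rw [List.getD_eq_getElem (hn := by simpa [gensP] using hi)]; exact List.getElem_mem _))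

theorem gens23_top : ∀ K : Subgroup Spor.M23,
    (∀ i (hi : i < 3), (⟨_, gens23_mem i hi⟩ : Spor.M23) ∈ K) → K = ⊤ := by
  intro K hK
  rw [eq_top_iff, ← GolayOutM23.closure_gens, Subgroup.closure_le]
  have e0 : (⟨_, gens23_mem 0 (by norm_num)⟩ : Spor.M23) = GolayOutM23.gZ :=
    Subtype.ext (congrArg permOf (show gensP.getD 0 0 = pZ by decide +kernel))
  have e1 : (⟨_, gens23_mem 1 (by norm_num)⟩ : Spor.M23) = GolayOutM23.gT :=
    Subtype.ext (congrArg permOf (show gensP.getD 1 0 = pT by decide +kernel))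
  have e2 : (⟨_, gens23_mem 2 (by norm_num)⟩ : Spor.M23) = GolayOutM23.gU :=
    Subtype.ext (congrArg permOf (show gensP.getD 2 0 = pU by decide +kernel))
  rintro g (rfl | rfl | rfl)
  · exact e0 ▸ hK 0 (by norm_num)
  · exact e1 ▸ hK 1 (by norm_num)
  · exact e2 ▸ hK 2 (by norm_num)

/-- the orbit of a dodecad through the fixed point -/
noncomputable def obj23 (c : ℕ) : Finset GolayPt := mset (get keyT c)

/-- the action check -/
noncomputable def act23 (nx : ℕ → ℕ → ℕ) : Bool :=
  (List.range 1288).all fun c => (List.range 3).all fun i =>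
    pmask (gensP.getD i 0) (get keyT c) == get keyT (nx i c)

theorem key23_lt {c : ℕ} (hc : c < 1288) : get keyT c < 2 ^ 24 := by
  have h : ((List.range 1288).all fun c => decide (get keyT c < 2 ^ 24)) = true := by decide +kernel
  simpa using List.all_eq_true.1 h c (List.mem_range.2 hc)

theorem obj23_inj : ∀ c < 1288, ∀ d < 1288, obj23 c = obj23 d → c = d := fun _ hc _ hd e =>
  inj_of_injOK (N := 1288) (key := keyT) (pos := posT) (srt := srtT) (by decide +kernel) hc hd
    (mset_inj (key23_lt hc) (key23_lt hd) e)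

theorem obj23_act {nx : ℕ → ℕ → ℕ} (h : act23 nx = true) :
    ∀ i (hi : i < 3), ∀ c < 1288,
      (⟨_, gens23_mem i hi⟩ : Spor.M23) • obj23 c = obj23 (nx i c) := by
  intro i hi c hc
  simp only [act23, List.all_eq_true, List.mem_range, beq_iff_eq] at h
  have hP : valid (gensP.getD i 0) = true := (memCheck_spec (List.all_eq_true.1 gens23_check _ (by
    rw [List.getD_eq_getElem (hn := by simpa [gensP] using hi)]; exact List.getElem_mem _))).1
  show permOf (gensP.getD i 0) • mset (get keyT c) = mset _
  rw [smul_mset hP, h c hc i hi]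

theorem obj23_dodecad : obj23 0 ∈ dodecads := by
  rw [obj23, GolayBasic.mset_mem_dodecads (by decide +kernel)]
  exact ⟨by decide +kernel, by decide +kernel⟩

theorem obj23_none : (none : GolayPt) ∈ obj23 0 := by
  rw [obj23, mem_mset]; decide +kernel

/-- the stabiliser of the dodecad in the point stabiliser -/
noncomputable def stab23Equiv :
    ↥(MulAction.stabilizer Cfsg.M24 (obj23 0) ⊓ MulAction.stabilizer Cfsg.M24 (none : GolayPt)) ≃*
      MulAction.stabilizer Spor.M23 (obj23 0) where
  toFun g := ⟨⟨(g.1 : Equiv.Perm GolayPt), g.1.2, g.2.2⟩, g.2.1⟩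
  invFun g := ⟨⟨(g.1 : Equiv.Perm GolayPt), g.1.2.1⟩, g.2, g.1.2.2⟩
  left_inv _ := rfl
  right_inv _ := rfl
  map_mul' _ _ := rfl

theorem censplit_M23 {p : ℕ} (C : Cert) (h : C.OK) (hp : C.m = p) (hn : C.n = 3) (hN : C.N = 1288)
    (hnp : C.npow = C.n) (hchk : gensOK C gensP gensQ ords = true)
    (hact : act23 C.nxF = true) (h23 : p = 2 ∨ p = 3) : CenSplit p Spor.M23 := by
  subst hp
  refine censplit_golay C h hnp gensP gensQ ords hchk ?_ (fun i hi => gens23_mem i (hn ▸ hi)) ?_
    obj23 (fun c hc d hd => obj23_inj c (hN ▸ hc) d (hN ▸ hd)) ?_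
    (censplit_of_equiv ((GolayStab.stabDodecadPointEquiv obj23_dodecad obj23_none).trans stab23Equiv)
      (split_M11 h23))
  · intro i hi
    rw [hn] at hi
    rcases h23 with e | e <;> rw [e] <;> interval_cases i <;> norm_num [ords]
  · exact fun K hK => gens23_top K fun i hi => hK i (hn.symm ▸ hi)
  · exact fun i hi c hc => obj23_act hact i (hn ▸ hi) c (hN ▸ hc)

theorem split_M23 {p : ℕ} (hp : p = 2 ∨ p = 3) : CenSplit p Spor.M23 := by
  rcases hp with rfl | rfl
  · exact censplit_M23 _ SplitVoltageM23P2.cert_ok rfl rfl rfl rfl (by decide +kernel)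
      (by decide +kernel) (Or.inl rfl)
  · exact censplit_M23 _ SplitVoltageM23P3.cert_ok rfl rfl rfl rfl (by decide +kernel)
      (by decide +kernel) (Or.inr rfl)

end M23

/-! ### the group of degree 24 -/

section M24

open SplitVoltageM24Orbit

theorem gens24_check : (gensP.all good) = true := by decide +kernel

theorem gens24_mem : ∀ i < 3, permOf (gensP.getD i 0) ∈ Cfsg.M24 := fun i hi =>
  permOf_mem_M24 (List.all_eq_true.1 gens24_check _ (by
    rw [List.getD_eq_getElem (hn := by simpa [gensP] using hi)]; exact List.getElem_mem _))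

theorem gens24_top : ∀ K : Subgroup Cfsg.M24,
    (∀ i (hi : i < 3), (⟨_, gens24_mem i hi⟩ : Cfsg.M24) ∈ K) → K = ⊤ := by
  intro K hK
  rw [eq_top_iff, ← GolayOutM24.closure_gens, Subgroup.closure_le]
  have e0 : (⟨_, gens24_mem 0 (by norm_num)⟩ : Cfsg.M24) = GolayOutM24.gZ :=
    Subtype.ext (congrArg permOf (show gensP.getD 0 0 = pZ by decide +kernel))
  have e1 : (⟨_, gens24_mem 1 (by norm_num)⟩ : Cfsg.M24) = GolayOutM24.gT :=
    Subtype.ext (congrArg permOf (show gensP.getD 1 0 = pT by decide +kernel))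
  have e2 : (⟨_, gens24_mem 2 (by norm_num)⟩ : Cfsg.M24) =
      GolayOutM24.gU * GolayOutM24.gZ ^ 5 := by
    apply Subtype.ext
    have := prod_eq_of_sameWord (l := [gensP.getD 2 0]) (l' := pU10 :: List.replicate 5 pZ)
      (List.all_eq_true.1 (by decide +kernel : [gensP.getD 2 0].all valid = true))
      (List.all_eq_true.1 (by decide +kernel : (pU10 :: List.replicate 5 pZ).all valid = true))
      (by decide +kernel)
    simp only [List.map_cons, List.map_nil, List.map_replicate, List.prod_cons, List.prod_nil,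
      List.prod_replicate, mul_one] at this
    exact this
  rintro g (rfl | rfl | rfl)
  · exact e0 ▸ hK 0 (by norm_num)
  · exact e1 ▸ hK 1 (by norm_num)
  · have h2 := hK 2 (by norm_num)
    have h0 := hK 0 (by norm_num)
    rw [e2] at h2; rw [e0] at h0
    simpa using K.mul_mem h2 (K.inv_mem (K.pow_mem h0 5))

/-- the points in the order of the orbit -/
noncomputable def obj24 (c : ℕ) : GolayPt := pt (get keyT c)

/-- the action check -/
noncomputable def act24 (nx : ℕ → ℕ → ℕ) : Bool :=
  (List.range 24).all fun c => decide (get keyT c < 24) && (List.range 3).all fun i =>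
    pimg (gensP.getD i 0) (get keyT c) == get keyT (nx i c)

theorem obj24_inj : ∀ c < 24, ∀ d < 24, obj24 c = obj24 d → c = d := by decide +kernel

theorem obj24_act {nx : ℕ → ℕ → ℕ} (h : act24 nx = true) :
    ∀ i (hi : i < 3), ∀ c < 24,
      (⟨_, gens24_mem i hi⟩ : Cfsg.M24) • obj24 c = obj24 (nx i c) := by
  intro i hi c hc
  simp only [act24, List.all_eq_true, List.mem_range, Bool.and_eq_true, decide_eq_true_eq,
    beq_iff_eq] at h
  obtain ⟨hlt, hnx⟩ := h c hc
  have hP : valid (gensP.getD i 0) = true := valid_of_good (List.all_eq_true.1 gens24_check _ (by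
    rw [List.getD_eq_getElem (hn := by simpa [gensP] using hi)]; exact List.getElem_mem _))
  show permOf (gensP.getD i 0) (pt (get keyT c)) = pt _
  rw [permOf_apply hP, pfun, idx_pt hlt, hnx i hi]

theorem censplit_M24 {p : ℕ} (C : Cert) (h : C.OK) (hp : C.m = p) (hn : C.n = 3) (hN : C.N = 24)
    (hnp : C.npow = C.n) (hchk : gensOK C gensP gensQ ords = true)
    (hact : act24 C.nxF = true) (h23 : p = 2 ∨ p = 3) : CenSplit p Cfsg.M24 := by
  subst hp
  refine censplit_golay C h hnp gensP gensQ ords hchk ?_ (fun i hi => gens24_mem i (hn ▸ hi)) ?_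
    obj24 (fun c hc d hd => obj24_inj c (hN ▸ hc) d (hN ▸ hd)) ?_
    (censplit_of_equiv (GolayStab.stabPointEquiv (obj24 0)) (split_M23 h23))
  · intro i hi
    rw [hn] at hi
    rcases h23 with e | e <;> rw [e] <;> interval_cases i <;> norm_num [ords]
  · exact fun K hK => gens24_top K fun i hi => hK i (hn.symm ▸ hi)
  · exact fun i hi c hc => obj24_act hact i (hn ▸ hi) c (hN ▸ hc)

theorem split_M24 {p : ℕ} (hp : p = 2 ∨ p = 3) : CenSplit p Cfsg.M24 := by
  rcases hp with rfl | rfl
  · exact censplit_M24 _ SplitVoltageM24P2.cert_ok rfl rfl rfl rfl (by decide +kernel)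
      (by decide +kernel) (Or.inl rfl)
  · exact censplit_M24 _ SplitVoltageM24P3.cert_ok rfl rfl rfl rfl (by decide +kernel)
      (by decide +kernel) (Or.inr rfl)

end M24

/-- the primes whose square divides an order -/
theorem two_or_three {n p a b c : ℕ} (hp : p.Prime) (hn : n = 2 ^ a * 3 ^ b * c) (hc : Squarefree c)
    (hd : p ^ 2 ∣ n) : p = 2 ∨ p = 3 := by
  by_contra h
  push Not at h
  have h2 : Nat.Coprime (p ^ 2) (2 ^ a * 3 ^ b) :=
    Nat.Coprime.mul_right
      (Nat.Coprime.pow _ _ ((Nat.coprime_primes hp Nat.prime_two).2 h.1))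
      (Nat.Coprime.pow _ _ ((Nat.coprime_primes hp Nat.prime_three).2 h.2))
  have h3 : p * p ∣ c := by
    rw [← sq]; exact h2.dvd_of_dvd_mul_left (hn ▸ hd)
  exact hp.not_isUnit (hc p h3)

theorem squarefree_five_eleven : Squarefree (5 * 11) := by decide +kernel

theorem squarefree_23 : Squarefree (5 * 7 * 11 * 23) :=
  (Nat.squarefree_mul (by norm_num)).2 ⟨(Nat.squarefree_mul (by norm_num)).2
    ⟨(Nat.squarefree_mul (by norm_num)).2
      ⟨(show Nat.Prime 5 by norm_num).squarefree, (show Nat.Prime 7 by norm_num).squarefree⟩,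
      (show Nat.Prime 11 by norm_num).squarefree⟩, (show Nat.Prime 23 by norm_num).squarefree⟩

theorem multiplier_M11 : Cfsg.HasCyclicSchurMultiplier ↥Cfsg.Spor.M11 1 :=
  trivial_multiplier fun p hp hd => split_M11 (two_or_three (a := 4) (b := 2) hp
    (GolayM24.card_M11.trans (by norm_num)) squarefree_five_eleven hd)

theorem multiplier_M23 : Cfsg.HasCyclicSchurMultiplier ↥Cfsg.Spor.M23 1 :=
  trivial_multiplier fun p hp hd => split_M23 (two_or_three (a := 7) (b := 2) hp
    (GolayM24.card_M23.trans (by norm_num)) squarefree_23 hd)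

theorem multiplier_M24 : Cfsg.HasCyclicSchurMultiplier ↥Cfsg.M24 1 :=
  trivial_multiplier fun p hp hd => split_M24 (two_or_three (a := 10) (b := 3) hp
    (GolayM24.card_M24.trans (by norm_num)) squarefree_23 hd)

end Cfsg.Agent.SplitVoltageMathieu
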