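import Cfsg.Agent.Lib.J4M24Pres13
import Cfsg.Agent.Lib.GolayOutM24
import Cfsg.Agent.Lib.GolayEnumComp
import Cfsg.Agent.Lib.GolaySimple
import Cfsg.Agent.Lib.SplitVoltageMathieu

/-!
The group presented by the seven relators is the Mathieu group on 24 letters.
-/

set_option autoImplicit false
set_option maxRecDepth 100000

namespace Cfsg.Agent.J4M24Iso13

open Cfsg Cfsg.Agent.GolayBasic Cfsg.Agent.GolayPerm Cfsg.Agent.GolayEnumComp
open Cfsg.Agent.J4PresGen13 Cfsg.Agent.J4PresData13
open Cfsg.Agent.GolayOutConst (pZ pT pU10)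

/-- The two generators in the free group. -/
def fg (i : Nat) : FreeGroup Bool := FreeGroup.of (Nat.beq i 1)

/-- The relators. -/
def relSet : Set (FreeGroup Bool) := {r | ∃ w ∈ rels0, r = wv fg w}

/-- The presented group. -/
abbrev P : Type := PresentedGroup relSet

/-- Its two generators. -/
def ps (i : Nat) : P := PresentedGroup.mk relSet (fg i)

theorem mk_wv {G : Type} [Group G] (f : FreeGroup Bool →* G) (w : List Nat) :
    f (wv fg w) = wv (fun i => f (fg i)) w :=
  J4M24Pres13.wv_map f fg w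

theorem ps_rel : ∀ w ∈ rels0, wv ps w = 1 := fun w hw => by
  show wv (fun i => PresentedGroup.mk relSet (fg i)) w = 1
  rw [← mk_wv, PresentedGroup.mk_eq_one_iff]
  exact Subgroup.subset_normalClosure ⟨w, hw, rfl⟩

theorem ps_gen : Subgroup.closure {ps 0, ps 1} = ⊤ := by
  refine top_le_iff.1 (le_trans (PresentedGroup.closure_range_of relSet).ge ((Subgroup.closure_le _).2 ?_))
  rintro _ ⟨b, rfl⟩
  cases b
  · exact Subgroup.subset_closure (Set.mem_insert _ _)
  · exact Subgroup.subset_closure (Set.mem_insert_of_mem _ rfl)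

theorem P_bound : Finite P ∧ Nat.card P ≤ 24 * (1771 * (5760 * 3)) :=
  J4M24Pres13.bound ps ps_rel ps_gen

instance : Finite P := P_bound.1

/-- The encoded images. -/
def eX : ℕ := 432707787484634829614697868396384559
/-- The encoded images. -/
def eY : ℕ := 138225968781240086889945651174970409
/-- The encoded images. -/
def eYi : ℕ := 681746505744558667313624564938558514

/-- The encoded image of a letter. -/
def code : Nat → ℕ
  | 0 => eX
  | 1 => eX
  | 2 => eY
  | _ => eYi

/-- The encoded value of a word. -/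
def evalP : List Nat → ℕ
  | [] => idP
  | l :: w => pcomp (code l) (evalP w)

/-- All partial values are valid. -/
def okP : List Nat → Bool
  | [] => true
  | l :: w => decide (l < 4) && valid (evalP (l :: w)) && okP w

theorem good_gens : (good eX && good eY && good eYi && Nat.beq (pcomp eX eX) idP &&
    Nat.beq (pcomp eY eYi) idP) = true := by decide +kernel

theorem code_valid : ∀ l < 4, valid (code l) = true := by decide +kernel

/-- The images. -/
noncomputable def gg (i : Nat) : Cfsg.M24 :=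
  if i = 0 then ⟨permOf eX, permOf_mem_M24 (by decide +kernel)⟩
  else ⟨permOf eY, permOf_mem_M24 (by decide +kernel)⟩

theorem lv_gg {l : Nat} (h : l < 4) : ((lv gg l : Cfsg.M24) : Equiv.Perm GolayPt) = permOf (code l) := by
  have hg := good_gens
  simp only [Bool.and_eq_true] at hg
  obtain ⟨⟨⟨⟨hx, hy⟩, hyi⟩, hxx⟩, hyy⟩ := hg
  have hid : valid idP = true := by decide +kernel
  have inv_of : ∀ A B, valid A = true → valid B = true → Nat.beq (pcomp A B) idP = true →
      (permOf A)⁻¹ = permOf B := fun A B hA hB e =>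
    inv_eq_of_mul_eq_one_right (by rw [← permOf_pcomp hA hB hid (Nat.eq_of_beq_eq_true e).symm, permOf_idP])
  interval_cases l
  · simp [lv, gg, code]
  · simp [lv, gg, code, inv_of _ _ (valid_of_good hx) (valid_of_good hx) hxx]
  · simp [lv, gg, code]
  · simp [lv, gg, code, inv_of _ _ (valid_of_good hy) (valid_of_good hyi) hyy]

theorem wv_gg : ∀ w : List Nat, okP w = true →
    valid (evalP w) = true ∧ ((wv gg w : Cfsg.M24) : Equiv.Perm GolayPt) = permOf (evalP w)
  | [], _ => ⟨by decide +kernel, by simp [wv, evalP, permOf_idP]⟩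
  | l :: w, h => by
    simp only [okP, Bool.and_eq_true, decide_eq_true_eq] at h
    obtain ⟨⟨hl, hv⟩, hw⟩ := h
    obtain ⟨hv', e⟩ := wv_gg w hw
    have hg := good_gens
    simp only [Bool.and_eq_true] at hg
    obtain ⟨⟨⟨⟨hx, hy⟩, hyi⟩, -⟩, -⟩ := hg
    have hc : valid (code l) = true := code_valid l hl
    refine ⟨hv, ?_⟩
    rw [wv, Subgroup.coe_mul, lv_gg hl, e]
    exact (permOf_pcomp hc hv' hv rfl).symm

theorem gg_rel : ∀ w ∈ rels0, wv gg w = 1 := by
  have h : (rels0.all fun w => okP w && Nat.beq (evalP w) idP) = true := by decide +kernel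
  intro w hw
  simp only [List.all_eq_true, Bool.and_eq_true] at h
  apply Subtype.ext
  rw [(wv_gg w (h w hw).1).2, Nat.eq_of_beq_eq_true (h w hw).2, permOf_idP, OneMemClass.coe_one]

/-- The images of the free generators. -/
noncomputable def fimg : Bool → Cfsg.M24
  | false => gg 0
  | true => gg 1

theorem lift_fg (w : List Nat) (h : ∀ l ∈ w, l < 4) : FreeGroup.lift fimg (wv fg w) = wv gg w := by
  induction w with
  | nil => simp [wv]
  | cons x w ih =>
    rw [wv, wv, map_mul, ih fun l hl => h l (List.mem_cons_of_mem _ hl)]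
    congr 1
    have := h x List.mem_cons_self
    interval_cases x <;> simp [lv, fg, fimg]

theorem rels0_low : ∀ w ∈ rels0, ∀ l ∈ w, l < 4 := by
  have h : (rels0.all fun w => w.all fun l => decide (l < 4)) = true := by decide +kernel
  simpa [List.all_eq_true] using h

theorem fimg_rel : ∀ r ∈ relSet, FreeGroup.lift fimg r = 1 := by
  rintro r ⟨w, hw, rfl⟩
  rw [lift_fg w (rels0_low w hw), gg_rel w hw]

/-- The homomorphism. -/
noncomputable def sigma : P →* Cfsg.M24 := PresentedGroup.toGroup fimg_rel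

theorem sigma_wv {w : List Nat} (h : ∀ l ∈ w, l < 4) : sigma (wv ps w) = wv gg w := by
  show sigma (wv (fun i => PresentedGroup.mk relSet (fg i)) w) = _
  rw [← mk_wv, ← lift_fg w h]
  rfl

/-- A word for a generator. -/
def wZ : List Nat := [2, 0, 2, 0, 2, 0, 2, 0, 3, 0, 3, 0, 2, 0, 2, 0, 3, 0, 3, 0, 3, 0, 2, 0, 2, 0, 2, 0, 2,
  0, 3, 0, 2, 0, 3, 0, 3, 0, 3, 0, 3, 0, 3, 0, 2, 0, 2, 0, 2, 0, 2, 0, 2]
/-- A word for a generator. -/
def wT : List Nat := [0, 3, 0, 3, 0, 2, 0, 2, 0, 2, 0, 3, 0, 2, 0, 3, 0, 3, 0, 2, 0, 2, 0, 2, 0, 2, 0, 2, 0,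
  2, 0, 2, 0, 2, 0, 3, 0, 2, 0, 3, 0, 3, 0, 3, 0, 2, 0, 2, 0, 3, 0, 3, 0, 2, 0, 2]
/-- A word for a generator. -/
def wU : List Nat := [0, 2, 0, 2, 0, 2, 0, 3, 0, 3, 0, 2, 0, 3, 0, 3, 0, 3, 0, 3, 0, 3, 0, 3, 0, 3, 0, 2, 0,
  3, 0, 3, 0, 2, 0, 2, 0, 2, 0, 2, 0, 3, 0, 3, 0, 3, 0, 3, 0, 2, 0]

theorem sigma_surjective : Function.Surjective sigma := by
  rw [← MonoidHom.range_eq_top, ← top_le_iff, ← GolayOutM24.closure_gens, Subgroup.closure_le]
  have key : ∀ (w : List Nat) (e : ℕ) (he : permOf e ∈ Cfsg.M24),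
      ((okP w && w.all fun l => decide (l < 4)) && Nat.beq (evalP w) e) = true →
      (⟨permOf e, he⟩ : Cfsg.M24) ∈ sigma.range := by
    intro w e he h
    simp only [Bool.and_eq_true, List.all_eq_true, decide_eq_true_eq] at h
    refine ⟨wv ps w, Subtype.ext ?_⟩
    rw [sigma_wv h.1.2, (wv_gg w h.1.1).2, Nat.eq_of_beq_eq_true h.2]
  rintro z (rfl | rfl | rfl)
  · exact key wZ pZ _ (by decide +kernel)
  · exact key wT pT _ (by decide +kernel)
  · exact key wU pU10 _ (by decide +kernel)

theorem perfect : commutator P = ⊤ := by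
  rw [← Abelianization.ker_of, MonoidHom.ker_eq_top_iff]
  ext g
  have hrel : ∀ w ∈ rels0, wv (fun i => Abelianization.of (ps i)) w = 1 := fun w hw => by
    rw [← J4M24Pres13.wv_map, ps_rel w hw, map_one]
  set a := Abelianization.of (ps 0) with ha'
  set b := Abelianization.of (ps 1) with hb'
  have ha : a ^ 2 = 1 := by
    have h := hrel [0, 0] (by decide)
    simpa [wv, lv, pow_two] using h
  have hb : b ^ 3 = 1 := by
    have h := hrel [2, 2, 2] (by decide)
    simpa [wv, lv, pow_three] using h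
  have hab : (a * b) ^ 23 = 1 := by
    have h := hrel _ (List.mem_of_getElem? (i := 2) rfl)
    rw [← h]
    simp only [wv, lv, pow_succ, pow_zero, one_mul, mul_assoc]
    norm_num
    rfl
  rw [mul_pow, show (23 : ℕ) = 2 * 11 + 1 by rfl, pow_succ, pow_mul, ha, one_pow, one_mul,
    show 2 * 11 + 1 = 3 * 7 + 2 by rfl, pow_add, pow_mul, hb, one_pow, one_mul] at hab
  have hb2 : b ^ 2 = a⁻¹ := eq_inv_of_mul_eq_one_right hab
  have ha1 : a = 1 := by
    have h6 : (b ^ 2) ^ 3 = 1 := by rw [← pow_mul, show 2 * 3 = 3 * 2 by rfl, pow_mul, hb, one_pow]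
    rw [hb2, inv_pow, inv_eq_one, show (3 : ℕ) = 2 + 1 by rfl, pow_succ, ha, one_mul] at h6
    exact h6
  have hb1 : b = 1 := by
    rw [ha1, inv_one] at hb2
    rw [show (3 : ℕ) = 2 + 1 by rfl, pow_succ, hb2, one_mul] at hb
    exact hb
  have hall : (Abelianization.of : P →* Abelianization P) = 1 :=
    MonoidHom.eq_of_eqOn_dense ps_gen (by
      rintro _ (rfl | rfl)
      · exact ha1
      · exact hb1)
  rw [hall]

theorem sigma_ker : sigma.ker = ⊥ := by
  have hc : Nat.card P = Nat.card (P ⧸ sigma.ker) * Nat.card sigma.ker :=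
    Subgroup.card_eq_card_quotient_mul_card_subgroup _
  rw [Nat.card_congr (QuotientGroup.quotientKerEquivOfSurjective sigma sigma_surjective).toEquiv,
    GolayM24.card_M24] at hc
  have h3 : Nat.card sigma.ker ≤ 3 := by
    have h := P_bound.2
    rw [hc] at h
    omega
  have hpos : 0 < Nat.card sigma.ker := Nat.card_pos
  have hcyc : IsCyclic sigma.ker := by
    rcases (show Nat.card sigma.ker = 1 ∨ Nat.card sigma.ker = 2 ∨ Nat.card sigma.ker = 3 by omega) with h | h | h
    · have : Subsingleton sigma.ker := (Nat.card_eq_one_iff_unique.1 h).1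
      exact isCyclic_of_subsingleton
    · have : Fact (Nat.Prime 2) := ⟨Nat.prime_two⟩
      exact isCyclic_of_prime_card h
    · have : Fact (Nat.Prime 3) := ⟨Nat.prime_three⟩
      exact isCyclic_of_prime_card h
  have hcenter : sigma.ker ≤ Subgroup.center P := by
    intro k hk
    rw [Subgroup.mem_center_iff]
    intro g
    let f : P →* (ZMod (Nat.card sigma.ker))ˣ :=
      (IsCyclic.mulAutMulEquiv sigma.ker).toMonoidHom.comp MulAut.conjNormal
    have hf : f g = 1 := by
      have : g ∈ commutator P := perfect ▸ Subgroup.mem_top g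
      exact Abelianization.commutator_subset_ker f this
    have h1 : MulAut.conjNormal (H := sigma.ker) g = 1 :=
      (IsCyclic.mulAutMulEquiv sigma.ker).injective (hf.trans (map_one _).symm)
    have h2 := congrArg Subtype.val (DFunLike.congr_fun h1 (⟨k, hk⟩ : sigma.ker))
    rw [MulAut.conjNormal_apply, MulAut.one_apply] at h2
    calc g * k = g * k * g⁻¹ * g := by group
      _ = k * g := by rw [h2]
  obtain ⟨π, hπ⟩ := SplitVoltageMathieu.multiplier_M24.2 P sigma
    ⟨sigma_surjective, hcenter, perfect ▸ le_top⟩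
  have hsub : Subsingleton (Multiplicative (ZMod 1)) := inferInstanceAs (Subsingleton (ZMod 1))
  have : Subsingleton sigma.ker := hπ.subsingleton
  exact Subgroup.eq_bot_of_subsingleton _

/-- The presented group is the Mathieu group. -/
noncomputable def presEquiv : P ≃* Cfsg.M24 :=
  MulEquiv.ofBijective sigma ⟨(MonoidHom.ker_eq_bot_iff sigma).1 sigma_ker, sigma_surjective⟩

theorem P_simple : IsSimpleGroup P :=
  have := GolaySimple.isSimpleGroup_M24
  presEquiv.isSimpleGroup

end Cfsg.Agent.J4M24Iso13
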