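import Cfsg.Agent.Lib.J4M24Derive13
import Cfsg.Agent.Lib.J4CertTop13
import Cfsg.Agent.Lib.J4CertPair13
import Cfsg.Agent.Lib.J4CertMid13

/-!
A group generated by two elements satisfying the seven relators of the presentation of the Mathieu group
on 24 letters has order at most three times that of the Mathieu group.
-/

set_option autoImplicit false
set_option maxRecDepth 100000

namespace Cfsg.Agent.J4M24Pres13

open Cfsg.Agent.J4PresGen13 Cfsg.Agent.J4PresData13 Cfsg.Agent.J1CertCore91 Cfsg.Agent.J4PresOut13

variable {G : Type} [Group G] (s : Nat → G)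

theorem wv_map {H : Type} [Group H] (f : H →* G) (u : Nat → H) (w : List Nat) :
    f (wv u w) = wv (fun i => f (u i)) w := by
  induction w with
  | nil => simp [wv]
  | cons x w ih =>
    rw [wv, wv, map_mul, ih]
    congr 1
    unfold lv
    split <;> simp

theorem wv_ren (t : Nat → G) (L : List Nat) (w : List Nat) :
    wv t (ren L w) = wv (fun i => t (L.getD i 0)) w := by
  induction w with
  | nil => rfl
  | cons x w ih =>
    show lv t _ * wv t (ren L w) = lv _ x * _
    rw [ih]
    congr 1
    unfold lv
    rw [show (2 * L.getD (x / 2) 0 + x % 2) % 2 = x % 2 by omega,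
      show (2 * L.getD (x / 2) 0 + x % 2) / 2 = L.getD (x / 2) 0 by omega]

theorem mem_of_closure_eq_top {NL : Nat}
    (hgen : Subgroup.closure (s '' {i | 2 * i < NL}) = ⊤) :
    Subgroup.closure {y | ∃ l, l < NL ∧ y = gl s l} = ⊤ := by
  refine top_le_iff.1 (hgen ▸ (Subgroup.closure_le _).2 ?_)
  rintro _ ⟨i, hi, rfl⟩
  have h : (gl s (2 * i))⁻¹ = s i := by
    rw [gl, lv_partner, inv_inv, lv, if_pos (by omega), show 2 * i / 2 = i by omega]
  exact h ▸ inv_mem (Subgroup.subset_closure ⟨2 * i, hi, rfl⟩)

theorem bound_of_subgroup {N B : Nat} (H : Subgroup G) (h : Finite (G ⧸ H) ∧ Nat.card (G ⧸ H) ≤ N)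
    (hH : Finite H ∧ Nat.card H ≤ B) : Finite G ∧ Nat.card G ≤ N * B := by
  obtain ⟨hq, hqc⟩ := h
  obtain ⟨hs, hsc⟩ := hH
  refine ⟨Finite.of_equiv ((G ⧸ H) × H) Subgroup.groupEquivQuotientProdSubgroup.symm, ?_⟩
  rw [Subgroup.card_eq_card_quotient_mul_card_subgroup H]
  exact Nat.mul_le_mul hqc hsc

/-- The group on two generators. -/
theorem pair_bound (hrels : ∀ w ∈ J4CertPair13Data.cert.rels, wv s w = 1)
    (hgen : Subgroup.closure (s '' {i | 2 * i < 4}) = ⊤) :
    Finite G ∧ Nat.card G ≤ 5760 * 3 := by
  have hb : (s 1) ^ 3 = 1 := by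
    have h := hrels [2, 2, 2] (by simp [J4CertPair13Data.cert])
    simpa [wv, lv, pow_three] using h
  refine bound_of_subgroup (Subgroup.zpowers (s 1)) (index_bound s (C := J4CertPair13Data.cert) _ hrels ?_
    J4CertPair13.facts_ok (by norm_num) J4CertPair13.fin_zero J4CertPair13.rows
    (mem_of_closure_eq_top s hgen) (by decide)) ?_
  · intro w hw
    have : w = [2] := by simpa [J4CertPair13Data.cert] using hw
    subst this
    simp [wv, lv]
  · have hf : IsOfFinOrder (s 1) := isOfFinOrder_iff_pow_eq_one.2 ⟨3, by norm_num, hb⟩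
    refine ⟨hf.finite_zpowers.to_subtype, ?_⟩
    rw [Nat.card_zpowers]
    exact orderOf_le_of_pow_eq_one (by norm_num) hb

theorem image_below_two : s '' {i | 2 * i < 4} = {s 0, s 1} := by
  ext y
  simp only [Set.mem_image, Set.mem_ofPred_eq, Set.mem_insert_iff, Set.mem_singleton_iff]
  constructor
  · rintro ⟨i, hi, rfl⟩
    rcases i with _ | _ | i
    · exact .inl rfl
    · exact .inr rfl
    · omega
  · rintro (rfl | rfl)
    · exact ⟨0, by omega, rfl⟩
    · exact ⟨1, by omega, rfl⟩

/-- The group on four generators. -/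
theorem mid_bound (hrels : ∀ w ∈ J4CertMid13Data.cert.rels, wv s w = 1)
    (hsub : ∀ w ∈ J4CertPair13Data.cert.rels, wv s w = 1)
    (hgen : Subgroup.closure (s '' {i | 2 * i < 8}) = ⊤) :
    Finite G ∧ Nat.card G ≤ 1771 * (5760 * 3) := by
  let S : Set G := s '' {i | 2 * i < 4}
  let H := Subgroup.closure S
  refine bound_of_subgroup H (index_bound s (C := J4CertMid13Data.cert) _ hrels ?_
    J4CertMid13.facts_ok (by norm_num) J4CertMid13.fin_zero J4CertMid13.rows
    (mem_of_closure_eq_top s hgen) (by decide)) ?_
  · intro w hw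
    rcases (show w = [0] ∨ w = [2] by simpa [J4CertMid13Data.cert] using hw) with rfl | rfl
    · exact Subgroup.subset_closure ⟨0, by show 2 * 0 < 4; omega, by simp [wv, lv]⟩
    · exact Subgroup.subset_closure ⟨1, by show 2 * 1 < 4; omega, by simp [wv, lv]⟩
  · classical
    let v : Nat → H := fun i => if h : 2 * i < 4 then ⟨s i, Subgroup.subset_closure ⟨i, h, rfl⟩⟩ else 1
    have hv : ∀ i, 2 * i < 4 → (v i : G) = s i := fun i hi => by simp [v, dif_pos hi]
    refine pair_bound v (fun w hw => ?_) ?_
    · have hlow : (J4CertPair13Data.cert.rels.all fun w => w.all fun l => decide (l < 4)) = true := by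
        decide +kernel
      have hl : ∀ l ∈ w, l < 4 := by
        simp only [List.all_eq_true, decide_eq_true_eq] at hlow
        exact hlow w hw
      apply Subtype.ext
      rw [OneMemClass.coe_one, show ((wv v w : H) : G) = wv (fun i => (v i : G)) w from wv_map H.subtype v w,
        ← hsub w hw]
      clear hw
      induction w with
      | nil => rfl
      | cons x w ih =>
        rw [wv, wv, ih fun l hl' => hl l (List.mem_cons_of_mem _ hl')]
        congr 1
        unfold lv
        simp only; rw [hv (x / 2) (by have := hl x List.mem_cons_self; omega)]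
    · apply Subgroup.map_injective H.subtype_injective
      rw [MonoidHom.map_closure, ← MonoidHom.range_eq_map, H.range_subtype, ← Set.image_comp]
      apply le_antisymm
      · rw [Subgroup.closure_le]
        rintro _ ⟨i, hi, rfl⟩
        exact (v i).2
      · show Subgroup.closure S ≤ _
        rw [Subgroup.closure_le]
        rintro _ ⟨i, hi, rfl⟩
        exact Subgroup.subset_closure ⟨i, hi, hv i hi⟩

theorem wv_expand (w : List Nat) :
    wv s (expand w) = wv (fun i => wv s (symW.getD i [])) w := by
  induction w with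
  | nil => rfl
  | cons x w ih =>
    show wv s (_ ++ expand w) = _
    rw [wv_append, ih, wv]
    congr 1
    unfold lv
    dsimp only
    by_cases h : x % 2 = 0
    · rw [if_pos h, show Nat.beq (x % 2) 0 = true by rw [h]; rfl]; rfl
    · rw [if_neg h, show Nat.beq (x % 2) 0 = false from Bool.eq_false_iff.2 fun h' => h (Nat.eq_of_beq_eq_true h'),
        cond_false, wv_invW]

theorem traced_sound (h0 : ∀ w ∈ rels0, wv s w = 1) :
    ∀ w ∈ ([] :: traced.map fun e => e.2.2 : List (List Nat)),
      wv (fun i => wv s (symW.getD i [])) w = 1 := by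
  intro w hw
  rcases List.mem_cons.1 hw with rfl | hw
  · rfl
  obtain ⟨e, he, rfl⟩ := List.mem_map.1 hw
  have h := List.all_eq_true.1 traced_all e he
  have hr : wv s (rels0.getD e.2.1 []) = 1 := by
    by_cases hi : e.2.1 < rels0.length
    · rw [List.getD_eq_getElem _ _ hi]; exact h0 _ (List.getElem_mem hi)
    · rw [List.getD_eq_default _ _ (by omega)]; rfl
  rw [← wv_expand, ← wv_red, beq_iff_eq.1 h, wv_red, wv_append, wv_append, hr, wv_invW]
  group

/-- **The order bound.** -/
theorem bound (h0 : ∀ w ∈ rels0, wv s w = 1)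
    (hgen : Subgroup.closure {s 0, s 1} = ⊤) :
    Finite G ∧ Nat.card G ≤ 24 * (1771 * (5760 * 3)) := by
  classical
  let t : Nat → G := fun i => wv s (symW.getD i [])
  let g : Nat → G := fun i => t (live.getD i 0)
  let S : Set G := g '' {i | 2 * i < 8}
  let H := Subgroup.closure S
  have hrels : ∀ w ∈ J4CertMid13Data.cert.rels ++ J4CertPair13Data.cert.rels, wv g w = 1 := by
    intro w hw
    have hm := List.all_eq_true.1 known_has w hw
    rw [← wv_ren]
    exact derive_sound t _ _ known11 (traced_sound s h0) derive_steps _ (List.contains_iff_mem.1 hm)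
  have hmem : ∀ i, 2 * i < 8 → g i ∈ H := fun i hi => Subgroup.subset_closure ⟨i, hi, rfl⟩
  refine bound_of_subgroup H (index_bound s (C := J4CertTop13Data.cert) _ h0 ?_
    J4CertTop13.facts_ok (by norm_num) J4CertTop13.fin_zero J4CertTop13.rows
    (mem_of_closure_eq_top s ((image_below_two s).symm ▸ hgen)) (by decide)) ?_
  · intro w hw
    have hl : J4CertTop13Data.cert.sgens = [0, 1, 2, 3].map fun i => symW.getD (live.getD i 0) [] := by
      decide +kernel
    rw [hl] at hw
    obtain ⟨i, hi, rfl⟩ := List.mem_map.1 hw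
    exact hmem i (by fin_cases hi <;> norm_num)
  · let u : Nat → H := fun i => if h : 2 * i < 8 then ⟨g i, hmem i h⟩ else 1
    have hu : ∀ i, 2 * i < 8 → (u i : G) = g i := fun i hi => by simp [u, dif_pos hi]
    have hlow : ((J4CertMid13Data.cert.rels ++ J4CertPair13Data.cert.rels).all fun w =>
        w.all fun l => decide (l < 8)) = true := by decide +kernel
    have hu1 : ∀ w ∈ J4CertMid13Data.cert.rels ++ J4CertPair13Data.cert.rels, wv u w = 1 := by
      intro w hw
      have hl : ∀ l ∈ w, l < 8 := by
        simp only [List.all_eq_true, decide_eq_true_eq] at hlow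
        exact hlow w hw
      apply Subtype.ext
      rw [OneMemClass.coe_one, show ((wv u w : H) : G) = wv (fun i => (u i : G)) w from wv_map H.subtype u w,
        ← hrels w hw]
      clear hw
      induction w with
      | nil => rfl
      | cons x w ih =>
        rw [wv, wv, ih fun l hl' => hl l (List.mem_cons_of_mem _ hl')]
        congr 1
        unfold lv
        simp only; rw [hu (x / 2) (by have := hl x List.mem_cons_self; omega)]
    refine mid_bound u (fun w hw => hu1 w (List.mem_append_left _ hw))
      (fun w hw => hu1 w (List.mem_append_right _ hw)) ?_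
    apply Subgroup.map_injective H.subtype_injective
    rw [MonoidHom.map_closure, ← MonoidHom.range_eq_map, H.range_subtype, ← Set.image_comp]
    apply le_antisymm
    · rw [Subgroup.closure_le]
      rintro _ ⟨i, hi, rfl⟩
      exact (u i).2
    · show Subgroup.closure S ≤ _
      rw [Subgroup.closure_le]
      rintro _ ⟨i, hi, rfl⟩
      exact Subgroup.subset_closure ⟨i, hi, hu i hi⟩

end Cfsg.Agent.J4M24Pres13
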