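import Mathlib
import Cfsg.Agent.Lib.GolayCocodeTables22

/-!
The normaliser of a self-centralising elementary abelian subgroup of order `2 ^ 11` whose non-conjugate
elements are listed as duads induces the Mathieu group of degree 24.
-/

set_option autoImplicit false
set_option linter.unusedSectionVars false
set_option linter.style.haveILetI false
set_option maxRecDepth 100000
set_option maxHeartbeats 800000

namespace Cfsg.Agent.J4Mathieu22

open Cfsg Cfsg.Agent.GolayModule Cfsg.Agent.GolayDuadRigid13 Cfsg.Agent.GolayCocodeTables22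
open scoped Pointwise

universe u

variable {G : Type u} [Group G] [Finite G]

/-- The Mathieu group on the duads: `A` has bit coordinates `Ψ`, the tables make it the even cocode,
and the elements of `A` other than `1` not conjugate to `z` are the listed duads. -/
theorem mathieu_of (z : G) (A : Subgroup G) (Ψ : ℕ → G) {lab : List ℕ} {spanC : List (List ℕ)}
    {R : List ℕ} (hT : tablesOK lab spanC R = true)
    (hmul : ∀ a b, Ψ (Nat.xor a b) = Ψ a * Ψ b) (hA : ∀ i, Ψ i ∈ A)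
    (hinj : ∀ i < 2048, ∀ j < 2048, Ψ i = Ψ j → i = j) (hsurj : ∀ x ∈ A, ∃ i < 2048, Ψ i = x)
    (hR : ∀ x, (x ∈ A ∧ x ≠ 1 ∧ ¬ IsConj z x) ↔ ∃ r ∈ R, Ψ r = x)
    (hcent : ∀ g, (∀ x ∈ A, g * x = x * g) → g ∈ A)
    (hdvd : 501397585920 ∣ Nat.card (Subgroup.normalizer (A : Set G))) :
    ∃ (φ : ↥(Subgroup.normalizer (A : Set G)) →* ↥Cfsg.M24) (d : G),
      Function.Surjective φ ∧ (∀ m, φ m = 1 ↔ (m : G) ∈ A) ∧
      (d ∈ A ∧ d ≠ 1 ∧ ¬ IsConj z d) ∧
      (∀ t ∈ A, t ≠ 1 → ¬ IsConj z t →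
        ∃ m ∈ Subgroup.normalizer (A : Set G), m * d * m⁻¹ = t) ∧
      ∀ m, ((φ m : Equiv.Perm Cfsg.GolayPt) ∈
          MulAction.stabilizer (Equiv.Perm Cfsg.GolayPt) ({none, some 0} : Set Cfsg.GolayPt)) ↔
        (m : G) * d * (m : G)⁻¹ = d := by
  classical
  have hcomm : ∀ a ∈ A, ∀ b ∈ A, a * b = b * a := fun a ha b hb => by
    obtain ⟨i, -, rfl⟩ := hsurj a ha
    obtain ⟨j, -, rfl⟩ := hsurj b hb
    rw [← hmul, ← hmul, show Nat.xor i j = Nat.xor j i from Nat.xor_comm i j]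
  have hcard : Nat.card A = 2 ^ 11 := by
    let f : Fin 2048 → A := fun i => ⟨Ψ i, hA i⟩
    rw [← Nat.card_congr (Equiv.ofBijective f ⟨fun a b e => Fin.ext (hinj a a.2 b b.2 (congrArg Subtype.val e)),
      fun v => by obtain ⟨i, hi, e⟩ := hsurj v v.2; exact ⟨⟨i, hi⟩, Subtype.ext e⟩⟩), Nat.card_fin]
    rfl
  have hnorm : ∀ {m x : G}, m ∈ Subgroup.normalizer (A : Set G) → x ∈ A → m * x * m⁻¹ ∈ A :=
    fun {m x} hm hx => (Subgroup.mem_normalizer_iff.1 hm x).1 hx
  letI : CommGroup A :=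
    { A.toGroup with mul_comm := fun a b => Subtype.ext (hcomm a a.2 b b.2) }
  let M := Subgroup.normalizer (A : Set G)
  let ψ : ℕ → Additive A := fun i => Additive.ofMul ⟨Ψ i, hA i⟩
  have hx : ∀ a b, ψ (Nat.xor a b) = ψ a + ψ b := fun a b =>
    congrArg Additive.ofMul (Subtype.ext (hmul a b) :
      (⟨Ψ (Nat.xor a b), hA _⟩ : A) = ⟨Ψ a, hA a⟩ * ⟨Ψ b, hA b⟩)
  have hinj' : ∀ i < 2048, ∀ j < 2048, ψ i = ψ j → i = j := fun i hi j hj e =>
    hinj i hi j hj (congrArg (fun v : Additive A => (Additive.toMul v).1) e)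
  have hsurj' : ∀ v, ∃ i < 2048, ψ i = v := fun v => by
    obtain ⟨i, hi, e⟩ := hsurj _ (Additive.toMul v).2
    exact ⟨i, hi, congrArg Additive.ofMul (Subtype.ext e : (⟨Ψ i, hA i⟩ : A) = Additive.toMul v)⟩
  obtain ⟨hL, hspan, hduads⟩ := cocode hx hT hinj' hsurj'
  set L := Lc lab ψ hx with hLdef
  have hdiff : ∀ v, v ∈ duads L ↔ (Additive.toMul v).1 ≠ 1 ∧ ¬ IsConj z (Additive.toMul v).1 := by
    intro v
    rw [hduads]
    constructor
    · rintro ⟨r, hr, rfl⟩
      exact ((hR _).2 ⟨r, hr, rfl⟩).2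
    · intro hv
      obtain ⟨r, hr, e⟩ := (hR _).1 ⟨(Additive.toMul v).2, hv.1, hv.2⟩
      exact ⟨r, hr, congrArg Additive.ofMul (Subtype.ext e : (⟨Ψ r, hA r⟩ : A) = Additive.toMul v)⟩
  let c : M →* AddMonoid.End (Additive A) :=
    { toFun := fun m =>
        { toFun := fun v => Additive.ofMul
            ⟨(m : G) * (Additive.toMul v).1 * (m : G)⁻¹, hnorm m.2 (Additive.toMul v).2⟩
          map_zero' := congrArg Additive.ofMul (Subtype.ext (by simp) :
            (⟨(m : G) * (1 : A).1 * (m : G)⁻¹, hnorm m.2 (one_mem _)⟩ : A) = 1)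
          map_add' := fun a b => congrArg Additive.ofMul (Subtype.ext (by simp [mul_assoc]) :
            (⟨(m : G) * (Additive.toMul a * Additive.toMul b).1 * (m : G)⁻¹, hnorm m.2
              (Additive.toMul a * Additive.toMul b).2⟩ : A) =
              ⟨_, hnorm m.2 (Additive.toMul a).2⟩ * ⟨_, hnorm m.2 (Additive.toMul b).2⟩) }
      map_one' := AddMonoidHom.ext fun v => congrArg Additive.ofMul (Subtype.ext (by simp) :
        (⟨((1 : M) : G) * (Additive.toMul v).1 * ((1 : M) : G)⁻¹,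
          hnorm (1 : M).2 (Additive.toMul v).2⟩ : A) = Additive.toMul v)
      map_mul' := fun a b => AddMonoidHom.ext fun v => congrArg Additive.ofMul (Subtype.ext
        (show ((a * b : M) : G) * (Additive.toMul v).1 * ((a * b : M) : G)⁻¹ =
          (a : G) * ((b : G) * (Additive.toMul v).1 * (b : G)⁻¹) * (a : G)⁻¹ by simp [mul_assoc])) }
  have hcval : ∀ (m : M) v, (Additive.toMul (c m v)).1 = (m : G) * (Additive.toMul v).1 * (m : G)⁻¹ :=
    fun m v => rfl
  have hRG : ∀ m : M, ∀ p q, p ≠ q → ∃ r t, r ≠ t ∧ c m (duad L p q) = duad L r t := by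
    intro m p q hpq
    have h1 := (hdiff _).1 ⟨p, q, hpq, rfl⟩
    obtain ⟨r, t, hrt, e⟩ := (hdiff (c m (duad L p q))).2 ⟨fun e => h1.1 (by
        rw [hcval, mul_inv_eq_one] at e
        exact mul_eq_left.1 e), fun e => h1.2 (by
        rw [hcval] at e
        exact IsConj.trans e (isConj_iff.2 ⟨(m : G)⁻¹, by group⟩))⟩
    exact ⟨r, t, hrt, e.symm⟩
  obtain ⟨φ, hφ, hker, hsur⟩ := GolayDuadRigid13.exists_hom hL hspan c hRG
  have hkerc : c.ker = A.subgroupOf M := by
    ext m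
    rw [MonoidHom.mem_ker, Subgroup.mem_subgroupOf]
    constructor
    · intro e
      refine hcent _ fun x hx => ?_
      have e1 := congrArg (fun f : AddMonoid.End (Additive A) =>
        (Additive.toMul (f (Additive.ofMul ⟨x, hx⟩))).1) e
      simp only [hcval] at e1
      exact mul_inv_eq_iff_eq_mul.1 e1
    · intro hm
      refine AddMonoidHom.ext fun v => congrArg Additive.ofMul (Subtype.ext ?_)
      show (m : G) * (Additive.toMul v).1 * (m : G)⁻¹ = (Additive.toMul v).1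
      rw [hcomm _ hm _ (Additive.toMul v).2, mul_inv_cancel_right]
  have hidx : 244823040 ∣ c.ker.index := by
    have h1 := Subgroup.card_mul_index (A.subgroupOf M)
    rw [Nat.card_congr (Subgroup.subgroupOfEquivOfLe (show A ≤ M from Subgroup.le_normalizer)).toEquiv,
      hcard] at h1
    rw [hkerc]
    refine Nat.dvd_of_mul_dvd_mul_left (show 0 < 2 ^ 11 by norm_num) ?_
    rw [h1]
    exact (by norm_num : (2 ^ 11 * 244823040 : ℕ) = 501397585920) ▸ hdvd
  have hs := hsur hidx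
  obtain ⟨htr, hst⟩ := duad_trans hL c φ hφ hs
  have hd := (hdiff (duad L none (some 0))).1 ⟨none, some 0, by simp, rfl⟩
  refine ⟨φ, (Additive.toMul (duad L none (some 0))).1, hs, fun m => ?_,
    ⟨(Additive.toMul (duad L none (some 0))).2, hd⟩, fun t ht h1 h2 => ?_, fun m => ?_⟩
  · rw [← MonoidHom.mem_ker, hker, hkerc, Subgroup.mem_subgroupOf]
  · obtain ⟨m, hm⟩ := htr _ ⟨none, some 0, by simp, rfl⟩ (Additive.ofMul ⟨t, ht⟩) ((hdiff _).2 ⟨h1, h2⟩)
    exact ⟨m.1, m.2, by rw [← hcval m, hm]; rfl⟩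
  · have e := Set.ext_iff.1 hst m
    simp only [SetLike.mem_coe, Subgroup.mem_comap, Subgroup.mem_inf, Set.mem_setOf_eq,
      MonoidHom.coe_comp, Function.comp_apply, Subgroup.coe_subtype, SetLike.coe_mem, true_and] at e
    rw [e, ← hcval]
    exact ⟨fun e => by rw [e], fun e => Additive.toMul.injective (Subtype.ext e)⟩

end Cfsg.Agent.J4Mathieu22
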