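import Mathlib
import Cfsg.Agent.Lib.J4Fusion18
import Cfsg.Agent.Lib.J4Coord97
import Cfsg.Agent.Lib.J4CocodeData22
import Cfsg.Agent.Lib.J4Mathieu22
import Cfsg.Agent.Lib.J4Exists97

/-!
The elementary abelian subgroup of order `2 ^ 11` of a simple group of Janko-four type with all the
facts about its classes, its coordinates and the homomorphism of its normaliser onto `M₂₄`.
-/

set_option autoImplicit false
set_option linter.unusedSectionVars false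
set_option linter.style.haveILetI false

namespace Cfsg.Agent.J4Main18

open Subgroup
open scoped Pointwise
open Cfsg.Agent.JFourSetting97 Cfsg.Agent.JFourModule85 Cfsg.Agent.J4Thompson85

universe u

/-- The class facts needed for the coordinates. -/
theorem ff_of {G : Type u} [Group G] [Finite G] [IsSimpleGroup G] (hG : ¬ IsMulCommutative G) {z : G}
    {P : Subgroup G} (hJ : Cfsg.IsOfJankoFourTypeWith z P) {V : Type u} [AddCommGroup V] {zc : ↥(HH z)}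
    {π : ↥(HH z) → V} {ρ : ↥(HH z) ⧸ QQ z →* AddMonoid.End V} {q : V → ZMod 2}
    {n : ↥(HH z) ⧸ QQ z} {Mb : Subgroup (↥(HH z) ⧸ QQ z)} (D : Data z P zc π ρ q n Mb)
    {F : Type} [Field F] [Fintype F] {s : F} {h : U62Mon93.S4 s} {ν : (Fin 6 → F) → V}
    (C : J4Syl18.Coord h ρ q n Mb ν) : J4Coord97.FF D C := by
  obtain ⟨-, -, -, -, -, -, -, -, h36, h240, -⟩ := J4Fusion18.classes D C hG hJ
  exact ⟨h36, h240, J4Fusion18.trans_R D C hG hJ⟩

/-- A subgroup `A` of order `2 ^ 11` with the facts about it that are used further on. -/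
theorem main_data {G : Type u} [Group G] [Finite G] [IsSimpleGroup G] (hG : ¬ IsMulCommutative G) {z : G}
    {P : Subgroup G} (hJ : Cfsg.IsOfJankoFourTypeWith z P) :
    ∃ A : Subgroup G, J4Syl18.EA A ∧ Nat.card A = 2 ^ 11 ∧ A ≤ centralizer ({z} : Set G) ∧ z ∈ A ∧
      (∀ g, (∀ x ∈ A, g * x = x * g) → g ∈ A) ∧
      (∀ B : Subgroup G, J4Syl18.EA B → Nat.card B = 2 ^ 11 → ∃ g : G, B = A.map (MulAut.conj g).toMonoidHom) ∧
      (∀ a g : G, a ∈ A → g * a * g⁻¹ ∈ A →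
        ∃ m ∈ normalizer (A : Set G), m * a * m⁻¹ = g * a * g⁻¹) ∧
      {b | b ∈ A ∧ IsConj z b}.ncard = 1771 ∧
      {b | b ∈ A ∧ b ≠ 1 ∧ ¬ IsConj z b}.ncard = 276 ∧
      (∀ a ∈ A, ∀ b ∈ A, a ≠ 1 → b ≠ 1 → ¬ IsConj z a → ¬ IsConj z b →
        ∃ m ∈ normalizer (A : Set G), m * a * m⁻¹ = b) ∧
      Nat.card ↥(normalizer (A : Set G) ⊓ centralizer ({z} : Set G)) = 2 ^ 21 * 135 ∧
      Nat.card ↥(normalizer (A : Set G)) = 1771 * (2 ^ 21 * 135) ∧
      ∃ Ψ : ℕ → G, (∀ a b, Ψ (Nat.xor a b) = Ψ a * Ψ b) ∧ (∀ i, Ψ i ∈ A) ∧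
        (∀ i < 2048, ∀ j < 2048, Ψ i = Ψ j → i = j) ∧ (∀ x ∈ A, ∃ i < 2048, Ψ i = x) ∧
        (∀ x : G, (x ∈ A ∧ x ≠ 1 ∧ ¬ IsConj z x) ↔ ∃ r ∈ J4CoordCheck97.rlist 1, Ψ r = x) ∧
        ∃ (φ : ↥(normalizer (A : Set G)) →* ↥Cfsg.M24) (d : G),
          Function.Surjective φ ∧ (∀ m, φ m = 1 ↔ (m : G) ∈ A) ∧
          (d ∈ A ∧ d ≠ 1 ∧ ¬ IsConj z d) ∧
          (∀ t ∈ A, t ≠ 1 → ¬ IsConj z t →
            ∃ m ∈ normalizer (A : Set G), m * d * m⁻¹ = t) ∧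
          ∀ m, ((φ m : Equiv.Perm Cfsg.GolayPt) ∈
              MulAction.stabilizer (Equiv.Perm Cfsg.GolayPt) ({none, some 0} : Set Cfsg.GolayPt)) ↔
            (m : G) * d * (m : G)⁻¹ = d := by
  obtain ⟨V, iV, zc, π, ρ, q, n, Mb, F, iF, iF', s, h, ν, D, C⟩ := J4Exists97.exists_coords hJ
  obtain ⟨hea, hcard, hz⟩ := AG_facts D C
  obtain ⟨-, -, -, -, -, -, -, -, -, -, h1771⟩ := J4Fusion18.classes D C hG hJ
  have h276 : {b | b ∈ AG D C ∧ b ≠ 1 ∧ ¬ IsConj z b}.ncard = 276 := by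
    classical
    have e : {b | b ∈ AG D C ∧ b ≠ 1 ∧ ¬ IsConj z b} =
        ((AG D C : Set G) \ {1}) \ {b | b ∈ AG D C ∧ IsConj z b} := by
      ext b
      simp only [Set.mem_ofPred_eq, Set.mem_sdiff, Set.mem_singleton_iff, SetLike.mem_coe]
      tauto
    haveI : Finite G := inferInstance
    rw [e, Set.ncard_sdiff (t := (AG D C : Set G) \ {1}) (fun b hb => ⟨hb.1, fun e1 =>
        z_ne_one D C (isConj_one_left.1 (Set.mem_singleton_iff.1 e1 ▸ hb.2))⟩) (Set.toFinite _),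
      Set.ncard_sdiff_singleton_of_mem (one_mem _), ← Nat.card_coe_set_eq, SetLike.coe_sort_coe,
      hcard, h1771]
    all_goals norm_num
  obtain ⟨Ψ, hmul, hA, hinj, hsurj, hR⟩ := J4Coord97.model D C (ff_of hG hJ D C) hJ
  have hM := J4Mathieu22.mathieu_of z (AG D C) Ψ J4CocodeData22.tables_ok hmul hA hinj hsurj hR
    (fun g hg => cent_AG D C hg) (J4Fusion18.dvd_M D C hG hJ)
  exact ⟨AG D C, hea, hcard, AG_le D C, hz, fun g hg => cent_AG D C hg,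
    fun B hB hc => exists_conj D C hB hc, fun a g ha hga => fusion D C ha hga, h1771, h276,
    J4Fusion18.trans_R D C hG hJ, J4Fusion18.card_normalizer_inf D C,
    J4Fusion18.card_normalizer_eq D C hG hJ, Ψ, hmul, hA, hinj, hsurj, hR, hM⟩

end Cfsg.Agent.J4Main18
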