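import Cfsg.Agent.Lib.J4PresGen13

/-!
Word data for the central extensions of the presented fourth Janko group: words in the two
generators of the Mathieu subgroup (letters 0, 1 for the first and its inverse, 2, 3 for the second)
and words in the two generators of the trio stabiliser (0, 1, 2 for x, v and the inverse of v).
-/

set_option autoImplicit false
set_option maxRecDepth 100000

namespace Cfsg.Agent.J4MultData60

open Cfsg.Agent.J4PresGen13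

/-- The word v. -/
def Vw : List Nat := [2, 0, 2, 0, 3, 0, 3, 0, 2, 0, 2, 0, 2]
/-- The word w. -/
def Ww : List Nat := [2, 0, 3, 0, 2, 0, 3, 0]
/-- The word U. -/
def Uw : List Nat := [2, 0, 2, 0, 2, 0, 2] ++ [2, 0, 2, 0, 2, 0, 2] ++ [2, 0, 2, 0, 2, 0, 2]
/-- The word Q. -/
def Qw : List Nat := [0, 2, 0, 2, 0, 2, 2, 0, 2, 0, 2, 0, 2, 0, 2, 0, 2, 0, 2, 2]
/-- The square of U. -/
def U2 : List Nat := Uw ++ Uw
/-- First conjugator of the long relation. -/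
def k1 : List Nat := Uw ++ invW Qw
/-- Second conjugator of the long relation. -/
def k2 : List Nat := U2 ++ invW Qw
/-- Conjugator of the triple. -/
def kA : List Nat := [2] ++ invW Ww
/-- Conjugator of the triple. -/
def kB : List Nat := [2, 2] ++ invW Ww
/-- Conjugator of the triple. -/
def kC : List Nat := invW Ww

/-- A word of the trio stabiliser written in the two generators. -/
def ex : List Nat → List Nat
  | [] => []
  | c :: s => (if c = 0 then [0] else if c = 1 then Vw else invW Vw) ++ ex s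

/-- The conjugate of the square of U. -/
def pcj (g : List Nat) : List Nat := g ++ U2 ++ invW g

/-- Certificate data. -/
def tg : List Nat := [2, 0, 2, 0, 3, 0, 2, 0, 3, 0, 2, 0, 3, 0]

/-- Certificate data. -/
def tg2 : List Nat := [0, 3, 0, 3, 0, 3, 0, 3, 0, 3, 0, 2, 0, 2, 0, 2, 0, 3, 0, 3, 0, 2, 0, 3, 0, 2, 0, 2, 0, 2, 0, 3, 0]

/-- Certificate data. -/
def ts1 : List Nat := [0, 2, 0, 1, 0, 2, 0, 1, 0, 1, 0, 2, 0]

/-- Certificate data. -/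
def tr1 : List Nat := [0, 1, 0, 1, 0, 1, 1, 0, 1, 0, 2, 0, 2, 0, 1, 0, 2, 0, 1]

/-- Certificate data. -/
def tq1 : List Nat := [1, 0, 1, 0, 2, 0, 1, 0, 2, 0, 2, 0, 1]

/-- Certificate data. -/
def ts2 : List Nat := [1, 1, 0, 1, 1, 0, 1, 1, 0, 1, 1, 0, 1, 1, 0, 1]

/-- Certificate data. -/
def tr2 : List Nat := [0, 2, 0, 1, 1, 0, 1, 0, 1, 0, 1, 0, 2, 0, 2]

/-- Certificate data. -/
def tq2 : List Nat := [1, 0, 1, 1, 0, 2, 0, 1, 1, 0, 1, 1, 0, 1, 1, 0, 1, 0, 1, 0, 2, 0, 1]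

/-- Certificate data. -/
def ts3 : List Nat := [1, 0, 2, 0, 1, 0, 1, 0, 2, 0]

/-- Certificate data. -/
def tr3 : List Nat := [0, 2, 0, 2, 0, 1, 1, 0, 2, 0, 2, 0, 1, 1, 0, 2, 0, 2, 0]

/-- Certificate data. -/
def tq3 : List Nat := [1, 0, 1, 0, 1, 0, 1, 0, 1, 0, 1, 1, 0, 2, 0, 1, 0, 1, 0, 2, 0]

/-- Certificate data. -/
def qg : List Nat := [2, 0, 3, 0, 3, 0, 3, 0, 2, 0]

/-- Certificate data. -/
def qg2 : List Nat := [0, 2, 0, 3, 0, 3, 0, 3, 0, 2, 0]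

/-- Certificate data. -/
def qp : List Nat := [1, 0, 1, 1, 0, 1, 0, 1, 0, 2, 0, 1, 0, 2, 0, 1, 0, 2, 0, 1, 1]

/-- Certificate data. -/
def qs1 : List Nat := [2, 0, 2, 0, 1, 0, 2, 0, 1, 0, 1, 0, 1, 0]

/-- Certificate data. -/
def qr1 : List Nat := [0, 1, 0, 1, 0, 1, 0, 1, 0, 1, 0, 1, 1, 0, 1, 1, 0, 1, 0, 1, 1, 0]

/-- Certificate data. -/
def qq1 : List Nat := [0, 1, 1, 0, 2, 0, 2, 0, 2, 0, 1, 0, 1, 0, 2, 0, 2, 0, 1, 1, 0, 2]

/-- Certificate data. -/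
def qs2 : List Nat := [1, 0, 1, 1, 0, 1, 1, 0, 1, 0, 1, 1, 0]

/-- Certificate data. -/
def qr2 : List Nat := [2, 0, 2, 0, 1, 1, 0, 2, 0, 1, 0, 2, 0, 2, 0, 2, 0, 2, 0, 1]

/-- Certificate data. -/
def qq2 : List Nat := [0, 1, 1, 0, 1, 0, 2, 0, 2, 0, 2, 0, 2, 0, 1, 1, 0, 2, 0, 1, 0, 2]

/-- Certificate data. -/
def qs3 : List Nat := [2, 0, 1, 0, 1, 1, 0, 1, 0, 1, 0, 2, 0]

/-- Certificate data. -/
def qr3 : List Nat := [0, 1, 1, 0, 2, 0, 2, 0, 2, 0, 1, 0, 1, 0, 1, 0, 1, 1]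

/-- Certificate data. -/
def qq3 : List Nat := [1, 0, 2, 0, 1, 0, 1, 0, 2, 0, 2, 0, 2, 0, 1, 0, 2]

/-- Certificate data. -/
def qs4 : List Nat := [1, 0, 1, 1, 0, 1, 1, 0, 1, 0, 1, 1, 0]

/-- Certificate data. -/
def qr4 : List Nat := [2, 0, 2, 0, 1, 1, 0, 2, 0, 1, 0, 2, 0, 2, 0, 2, 0, 2, 0, 1]

/-- Certificate data. -/
def qq4 : List Nat := [1, 0, 1, 0, 1, 0, 1, 1, 0, 2, 0, 2, 0, 2, 0, 1, 1, 0, 1, 0, 2]

/-- Certificate data. -/
def colA : List Nat := [1, 0, 1, 0, 1, 0, 1, 1, 0, 1, 0, 2, 0, 2, 0, 1]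

/-- Certificate data. -/
def colB : List Nat := [0, 2, 0, 2, 0, 1, 1, 0, 1, 0, 1, 0, 2, 0, 2, 0]

/-- Certificate data. -/
def sU : List Nat := [0, 1, 1, 0, 1, 1, 0, 2, 0, 1, 0, 2, 0, 2, 0, 2, 0, 2, 0, 2, 0, 1, 0]

/-- Certificate data. -/
def sU2 : List Nat := [1, 1]

/-- Certificate data. -/
def sP : List Nat := [0, 1, 0, 1, 1, 0, 2, 0, 1, 0, 1, 1, 0, 2]

/-- Certificate data. -/
def sUk2 : List Nat := [0, 1, 0, 1, 1, 0, 2, 0, 1, 0, 1, 1, 0, 2]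
end Cfsg.Agent.J4MultData60
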