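import Cfsg.Agent.Lib.J4M24Iso13
import Cfsg.Agent.Lib.J4MultData60

/-!
Central extensions of the presented fourth Janko group: given a lift of the Mathieu subgroup and
a lift `T` of the third generator whose relators hold up to central elements, the lift can be
corrected so that every relator holds.
-/

set_option autoImplicit false
set_option maxRecDepth 100000

namespace Cfsg.Agent.J4MultCore60

open Cfsg.Agent.J4PresGen13 Cfsg.Agent.J4MultData60
open Cfsg.Agent.J4M24Iso13 (P ps code gg sigma sigma_wv sigma_ker evalP okP wv_gg)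

/-- Evaluation with validity checks. -/
def chk : List Nat → Option ℕ
  | [] => some GolayEnumComp.idP
  | l :: w =>
    match chk w with
    | none => none
    | some e =>
      if decide (l < 4) && GolayPerm.valid (GolayEnumComp.pcomp (code l) e) then
        some (GolayEnumComp.pcomp (code l) e)
      else none

theorem chk_spec : ∀ (w : List Nat) (e : ℕ), chk w = some e →
    okP w = true ∧ evalP w = e ∧ ∀ l ∈ w, l < 4
  | [], e, h => by
    simp only [chk, Option.some.injEq] at h
    exact ⟨rfl, h, by simp⟩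
  | l :: w, e, h => by
    rw [chk] at h
    rcases hw : chk w with _ | e0
    · simp [hw] at h
    · simp only [hw] at h
      obtain ⟨h1, h2, h3⟩ := chk_spec w e0 hw
      by_cases hc : (decide (l < 4) && GolayPerm.valid (GolayEnumComp.pcomp (code l) e0)) = true
      · rw [if_pos hc, Option.some.injEq] at h
        simp only [Bool.and_eq_true, decide_eq_true_eq] at hc
        refine ⟨?_, ?_, ?_⟩
        · simp [okP, evalP, h1, h2, hc.1, hc.2]
        · simp [evalP, h2, h]
        · intro l' hl'
          rcases List.mem_cons.1 hl' with rfl | hl'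
          · exact hc.1
          · exact h3 _ hl'
      · rw [if_neg hc] at h
        cases h

/-- The two words are equal in the Mathieu group. -/
def eqc (a b : List Nat) : Bool :=
  match chk a, chk b with
  | some p, some q => Nat.beq p q
  | _, _ => false

theorem eqc_spec {a b : List Nat} (h : eqc a b = true) : wv ps a = wv ps b := by
  rw [eqc] at h
  rcases ha : chk a with _ | p <;> rcases hb : chk b with _ | q <;> simp only [ha, hb] at h
  case some.some =>
    obtain ⟨a1, a2, a3⟩ := chk_spec a p ha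
    obtain ⟨b1, b2, b3⟩ := chk_spec b q hb
    refine (MonoidHom.ker_eq_bot_iff sigma).1 sigma_ker ?_
    rw [sigma_wv a3, sigma_wv b3]
    exact Subtype.ext (by rw [(wv_gg a a1).2, (wv_gg b b1).2, a2, b2, Nat.eq_of_beq_eq_true h])
  all_goals exact absurd h (by decide)

variable {Γ : Type} [Group Γ] (s : P →* Γ) (T : Γ)

/-- The lift of a word. -/
def M (w : List Nat) : Γ := s (wv ps w)

theorem M_app (a b : List Nat) : M s (a ++ b) = M s a * M s b := by
  rw [M, M, M, wv_append, map_mul]

theorem M_inv (a : List Nat) : M s (invW a) = (M s a)⁻¹ := by rw [M, M, wv_invW, map_inv]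

theorem M_nil : M s [] = 1 := by rw [M, wv, map_one]

theorem M_eq {a b : List Nat} (h : eqc a b = true) : M s a = M s b := by rw [M, M, eqc_spec h]

/-- The conjugate of `T` by a word. -/
def D (w : List Nat) : Γ := M s w * T * (M s w)⁻¹

theorem D_app (a b : List Nat) : D s T (a ++ b) = M s a * D s T b * (M s a)⁻¹ := by
  rw [D, D, M_app]; group

theorem D_nil : D s T [] = T := by rw [D, M_nil]; group

theorem push (p w : List Nat) : M s p * D s T w = D s T (p ++ w) * M s p := by
  rw [D_app]; group

variable {T}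

theorem hexp0 {hx hv : Γ} (cx : hx ∈ Subgroup.center Γ) (cv : hv ∈ Subgroup.center Γ) (hv2 : hv * hv = 1)
    (h0 : M s [0] * T * (M s [0])⁻¹ = T * hx) (h1 : M s Vw * T * (M s Vw)⁻¹ = T * hv) :
    ∀ σ : List Nat, M s (ex σ) * T * (M s (ex σ))⁻¹ = T * (hx ^ σ.count 0 * hv ^ (σ.length - σ.count 0))
  | [] => by simp [ex, M_nil]
  | c :: σ => by
    set k : Γ := hx ^ σ.count 0 * hv ^ (σ.length - σ.count 0) with hk
    have ck : k ∈ Subgroup.center Γ :=
      Subgroup.mul_mem _ (Subgroup.pow_mem _ cx _) (Subgroup.pow_mem _ cv _)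
    have hle : σ.count 0 ≤ σ.length := List.count_le_length
    rw [ex, M_app]
    set A : Γ := M s (if c = 0 then [0] else if c = 1 then Vw else invW Vw) with hA
    have step : A * T * A⁻¹ = T * (if c = 0 then hx else hv) := by
      rw [hA]
      split_ifs with e0 e1
      · exact h0
      · exact h1
      · have hc : T * hv = hv * T := Subgroup.mem_center_iff.1 cv T
        have e : T = (M s Vw)⁻¹ * (T * hv) * M s Vw := by rw [← h1]; group
        rw [M_inv, inv_inv]
        calc (M s Vw)⁻¹ * T * M s Vw = (M s Vw)⁻¹ * (T * hv) * M s Vw * hv⁻¹ := by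
              rw [mul_assoc ((M s Vw)⁻¹ * (T * hv)) (M s Vw) hv⁻¹,
                Subgroup.mem_center_iff.1 (Subgroup.inv_mem _ cv) (M s Vw)]
              group
          _ = T * hv⁻¹ := by rw [← e]
          _ = T * hv := by rw [inv_eq_of_mul_eq_one_right hv2]
    have hcomm : A * k = k * A := Subgroup.mem_center_iff.1 ck A
    calc A * M s (ex σ) * T * (A * M s (ex σ))⁻¹ = A * (M s (ex σ) * T * (M s (ex σ))⁻¹) * A⁻¹ := by group
      _ = A * (T * k) * A⁻¹ := by rw [hexp0 cx cv hv2 h0 h1 σ]
      _ = A * T * (k * A⁻¹) := by group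
      _ = A * T * A⁻¹ * k := by rw [← Subgroup.mem_center_iff.1 ck A⁻¹]; group
      _ = _ := by
        rw [step, hk, mul_assoc T]
        congr 1
        split_ifs with e0
        · subst e0
          rw [List.count_cons_self, List.length_cons, ← mul_assoc, ← pow_succ',
            show σ.length + 1 - (σ.count 0 + 1) = σ.length - σ.count 0 by omega]
        · rw [List.count_cons_of_ne e0, List.length_cons,
            show σ.length + 1 - σ.count 0 = (σ.length - σ.count 0) + 1 by omega, pow_succ']
          rw [← mul_assoc, ← mul_assoc, Subgroup.mem_center_iff.1 cv (hx ^ σ.count 0)]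

theorem sq_of_conj {h g : Γ} (ch : h ∈ Subgroup.center Γ) (cT : T * T ∈ Subgroup.center Γ)
    (e : g * T * g⁻¹ = T * h) : h * h = 1 := by
  have e2 : T * T = T * T * (h * h) :=
    calc T * T = g * (T * T) * g⁻¹ := by rw [Subgroup.mem_center_iff.1 cT g]; group
      _ = (g * T * g⁻¹) * (g * T * g⁻¹) := by group
      _ = T * (h * T) * h := by rw [e]; group
      _ = T * T * (h * h) := by rw [← Subgroup.mem_center_iff.1 ch T]; group
  exact mul_left_cancel (a := T * T) (by rw [mul_one]; exact e2.symm)

theorem pow_parity {h : Γ} (h2 : h * h = 1) (n : ℕ) : h ^ n = h ^ (n % 2) := by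
  conv_lhs => rw [← Nat.div_add_mod n 2, pow_add, pow_mul, pow_two, h2, one_pow, one_mul]

/-- One factor of a product moved through `T`. -/
theorem step {a : Γ} (p : List Nat) (q : List Nat) (c : Γ) (cc : c ∈ Subgroup.center Γ) :
    a * M s p * (c * D s T q) = c * (a * D s T (p ++ q) * M s p) := by
  calc a * M s p * (c * D s T q) = (a * M s p * c) * D s T q := by group
    _ = c * (a * (M s p * D s T q)) := by rw [Subgroup.mem_center_iff.1 cc]; group
    _ = _ := by rw [push]; group

theorem cmove {c : Γ} (cc : c ∈ Subgroup.center Γ) (a b : Γ) : a * (c * b) = c * (a * b) := by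
  rw [← mul_assoc, Subgroup.mem_center_iff.1 cc a, mul_assoc]

theorem cmul {d : Γ} (cd : d ∈ Subgroup.center Γ) (c a b : Γ) : c * a * (d * b) = c * d * (a * b) := by
  rw [mul_assoc c, cmove cd, ← mul_assoc]

theorem cmul3 {d e : Γ} (cd : d ∈ Subgroup.center Γ) (ce : e ∈ Subgroup.center Γ) (c a b f : Γ) :
    c * a * (d * b) * (e * f) = c * d * e * (a * b * f) := by rw [cmul cd c a b, cmul ce]

theorem cmul4 {d e g : Γ} (cd : d ∈ Subgroup.center Γ) (ce : e ∈ Subgroup.center Γ)
    (cg : g ∈ Subgroup.center Γ) (c a b f h : Γ) :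
    c * a * (d * b) * (e * f) * (g * h) = c * d * e * g * (a * b * f * h) := by
  rw [cmul3 cd ce c a b f, cmul cg]

theorem prod3 (a b c p q r : List Nat) :
    D s T a * M s p * (D s T b * M s q) * (D s T c * M s r) =
      D s T a * D s T (p ++ b) * D s T (p ++ q ++ c) * M s (p ++ q ++ r) := by
  rw [D_app s T p, D_app s T (p ++ q)]; simp only [M_app]; group

theorem prod4 (a b c d p q r u : List Nat) :
    D s T a * M s p * (D s T b * M s q) * (D s T c * M s r) * (D s T d * M s u) =
      D s T a * D s T (p ++ b) * D s T (p ++ q ++ c) * D s T (p ++ q ++ r ++ d) * M s (p ++ q ++ r ++ u) := by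
  rw [D_app s T p, D_app s T (p ++ q), D_app s T (p ++ q ++ r)]; simp only [M_app]; group

theorem sandwich (hT : T * T = 1) (a b : Γ) : T * (a * b) * T = T * a * T * (T * b * T) := by
  calc T * (a * b) * T = T * a * (T * T) * b * T := by rw [hT]; group
    _ = _ := by group

/-- The long relator, trio form. -/
theorem base_rel {η z : Γ} (cη : η ∈ Subgroup.center Γ) (cz : z ∈ Subgroup.center Γ) (η2 : η * η = 1)
    (hU : M s Uw * T * (M s Uw)⁻¹ = T * η) (hU2 : M s U2 * T * (M s U2)⁻¹ = T)
    (hP : M s U2 * D s T k2 = D s T k2 * M s U2) (hPi : (M s U2)⁻¹ = M s U2) (hT : T * T = 1)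
    (hz : (M s Uw * T * D s T (invW Qw)) ^ 2 = z) :
    T * D s T k1 * T = z * η * (D s T k2 * M s U2) := by
  have hD : D s T k2 * D s T k2 = 1 := by
    rw [D]; calc _ = M s k2 * (T * T) * (M s k2)⁻¹ := by group
      _ = 1 := by rw [hT]; group
  have e : z = T * η * D s T k1 * T * D s T k2 * M s U2 := by
    rw [← hz, pow_two, k1, k2, D_app, D_app]
    rw [← hU]
    conv_rhs => arg 1; arg 1; arg 2; rw [← hU2]
    rw [U2, M_app]
    group
  have e2 : z * η = T * D s T k1 * T * D s T k2 * M s U2 := by
    rw [e, Subgroup.mem_center_iff.1 cη T, Subgroup.mem_center_iff.1 cη]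
    calc η * (η * T * D s T k1 * T * D s T k2 * M s U2)
        = (η * η) * (T * D s T k1 * T * D s T k2 * M s U2) := by simp only [mul_assoc]
      _ = _ := by rw [η2, one_mul]
  rw [e2]
  calc T * D s T k1 * T = T * D s T k1 * T * (D s T k2 * D s T k2) * (M s U2 * (M s U2)⁻¹) := by
        rw [hD]; group
    _ = T * D s T k1 * T * D s T k2 * (D s T k2 * M s U2) * (M s U2)⁻¹ := by group
    _ = T * D s T k1 * T * D s T k2 * M s U2 * (D s T k2 * (M s U2)⁻¹) := by rw [← hP]; group
    _ = _ := by rw [hPi]

set_option maxHeartbeats 2000000 in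
/-- After normalisation of the square and of the short relator the remaining relators hold. -/
theorem normalised {hx hv z : Γ} (cx : hx ∈ Subgroup.center Γ) (cv : hv ∈ Subgroup.center Γ)
    (cz : z ∈ Subgroup.center Γ) (hT : T * T = 1)
    (h0 : M s [0] * T * (M s [0])⁻¹ = T * hx) (h1 : M s Vw * T * (M s Vw)⁻¹ = T * hv)
    (h11 : (M s [2] * D s T (invW Ww)) ^ 3 = 1)
    (h12 : (M s Uw * T * D s T (invW Qw)) ^ 2 = z) :
    hx = 1 ∧ hv = 1 ∧ z = 1 := by
  have cT : T * T ∈ Subgroup.center Γ := hT ▸ Subgroup.one_mem _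
  have hx2 := sq_of_conj cx cT h0
  have hv2 := sq_of_conj cv cT h1
  have hE := hexp0 s cx cv hv2 h0 h1
  have hxv : hv = hx := by
    have e := hE colA
    rw [M_eq s (show eqc (ex colA) (ex colB) = true by decide +kernel), hE colB] at e
    have e' := mul_left_cancel e
    rw [pow_parity hx2 (colA.count 0), pow_parity hv2 (colA.length - colA.count 0),
      pow_parity hx2 (colB.count 0), pow_parity hv2 (colB.length - colB.count 0)] at e'
    simp only [show (colA.count 0) % 2 = (colB.count 0 + 1) % 2 by decide,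
      show (colA.length - colA.count 0) % 2 = (colB.length - colB.count 0 + 1) % 2 by decide] at e'
    rw [← pow_parity hx2, ← pow_parity hv2, ← pow_parity hx2, ← pow_parity hv2, pow_succ, pow_succ] at e'
    have h' : hx * hv = 1 := by
      apply mul_left_cancel (a := hx ^ colB.count 0 * hv ^ (colB.length - colB.count 0))
      rw [mul_one]
      refine Eq.trans ?_ e'.symm
      rw [mul_assoc (hx ^ colB.count 0) (hv ^ _) (hx * hv), ← mul_assoc (hv ^ _) hx hv,
        Subgroup.mem_center_iff.1 cx (hv ^ (colB.length - colB.count 0))]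
      simp only [mul_assoc]
    rw [← inv_eq_of_mul_eq_one_right h', inv_eq_of_mul_eq_one_right hx2]
  subst hxv
  have hη : ∀ σ : List Nat, M s (ex σ) * T * (M s (ex σ))⁻¹ = T * hv ^ σ.length := fun σ => by
    rw [hE σ, ← pow_add, Nat.add_sub_of_le List.count_le_length]
  set η := hv with hηdef
  have even : ∀ n : ℕ, n % 2 = 0 → η ^ n = 1 := fun n h => by rw [pow_parity hx2, h, pow_zero]
  have odd : ∀ n : ℕ, n % 2 = 1 → η ^ n = η := fun n h => by rw [pow_parity hx2, h, pow_one]
  have cpow : ∀ n : ℕ, η ^ n ∈ Subgroup.center Γ := fun n => Subgroup.pow_mem _ cx n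
  have mtch : ∀ u v σ : List Nat, eqc u (v ++ ex σ) = true → D s T u = η ^ σ.length * D s T v := by
    intro u v σ h
    rw [D, M_eq s h, M_app]
    calc M s v * M s (ex σ) * T * (M s v * M s (ex σ))⁻¹
        = M s v * (M s (ex σ) * T * (M s (ex σ))⁻¹) * (M s v)⁻¹ := by group
      _ = M s v * (T * η ^ σ.length) * (M s v)⁻¹ := by rw [hη]
      _ = η ^ σ.length * D s T v := by
        rw [Subgroup.mem_center_iff.1 (cpow _) T, ← mul_assoc (M s v), Subgroup.mem_center_iff.1 (cpow _), D]
        group
  have invol : ∀ u, D s T u * D s T u = 1 := fun u => by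
    rw [D]; calc _ = M s u * (T * T) * (M s u)⁻¹ := by group
      _ = 1 := by rw [hT]; group
  -- the long relation
  have hU : M s Uw * T * (M s Uw)⁻¹ = T * η := by
    rw [M_eq s (show eqc Uw (ex sU) = true by decide +kernel), hη, odd _ (by decide)]
  have hU2 : M s U2 * T * (M s U2)⁻¹ = T := by
    rw [M_eq s (show eqc U2 (ex sU2) = true by decide +kernel), hη, even _ (by decide), mul_one]
  have hTP : M s U2 * T = T * M s U2 := by
    calc M s U2 * T = M s U2 * T * (M s U2)⁻¹ * M s U2 := by group
      _ = _ := by rw [hU2]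
  have hP : M s U2 * D s T k2 = D s T k2 * M s U2 := by
    rw [push, mtch _ _ sP (show eqc (U2 ++ k2) (k2 ++ ex sP) = true by decide +kernel), even _ (by decide),
      one_mul]
  have hPi : (M s U2)⁻¹ = M s U2 := by
    rw [← M_inv]; exact M_eq s (by decide +kernel)
  have cz' : z * η ∈ Subgroup.center Γ := Subgroup.mul_mem _ cz cx
  set ζ := z * η with hζ
  have base : T * D s T k1 * T = ζ * (D s T k2 * M s U2) :=
    base_rel s cx cz hx2 hU hU2 hP hPi hT h12
  have conj_base : ∀ g, M s g * T * (M s g)⁻¹ * D s T (g ++ k1) * (M s g * T * (M s g)⁻¹) =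
      ζ * (D s T (g ++ k2) * M s (pcj g)) := fun g => by
    have e : M s g * (T * D s T k1 * T) * (M s g)⁻¹ = M s g * (ζ * (D s T k2 * M s U2)) * (M s g)⁻¹ := by
      rw [base]
    rw [cmove cz', mul_assoc ζ] at e
    rw [D_app, D_app, pcj, M_app, M_app, M_inv]
    refine Eq.trans ?_ (e.trans ?_) <;> group
  have RS : ∀ σ u ρ : List Nat, eqc u (ex σ ++ k1 ++ ex ρ) = true →
      T * D s T u * T = η ^ ρ.length * ζ * (D s T (ex σ ++ k2) * M s (pcj (ex σ))) := by
    intro σ u ρ h
    rw [mul_assoc (η ^ ρ.length), ← conj_base, hη, mtch u _ ρ h, cmove (cpow _), mul_assoc (η ^ ρ.length)]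
    congr 1
    calc T * D s T (ex σ ++ k1) * T
        = (η * η) ^ σ.length * (T * D s T (ex σ ++ k1) * T) := by rw [hx2, one_pow, one_mul]
      _ = η ^ σ.length * (η ^ σ.length * (T * D s T (ex σ ++ k1) * T)) := by
        rw [(Commute.refl η).mul_pow]; group
      _ = _ := by
        rw [← cmove (cpow _) (T * D s T (ex σ ++ k1)) T, ← Subgroup.mem_center_iff.1 (cpow σ.length) T,
          ← mul_assoc (η ^ σ.length) (T * D s T (ex σ ++ k1)) (T * η ^ σ.length),
          ← mul_assoc (η ^ σ.length) T (D s T (ex σ ++ k1)), ← Subgroup.mem_center_iff.1 (cpow σ.length) T]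
  -- the square of the constant
  have ζ2 : ζ * ζ = 1 := by
    have e := conj_base Uw
    rw [hU, mtch _ _ [] (show eqc (Uw ++ k1) (k2 ++ ex []) = true by decide +kernel),
      mtch _ _ sUk2 (show eqc (Uw ++ k2) (k1 ++ ex sUk2) = true by decide +kernel), List.length_nil, pow_zero,
      one_mul, even sUk2.length (by decide), one_mul,
      M_eq s (show eqc (pcj Uw) U2 = true by decide +kernel)] at e
    have e1 : T * D s T k2 * T = ζ * (D s T k1 * M s U2) := by
      rw [← e]
      calc T * D s T k2 * T = (η * η) * (T * D s T k2 * T) := by rw [hx2, one_mul]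
        _ = η * (η * (T * D s T k2 * T)) := mul_assoc _ _ _
        _ = η * T * D s T k2 * (η * T) := by rw [← cmove cx (T * D s T k2) T]; simp only [mul_assoc]
        _ = _ := by rw [← Subgroup.mem_center_iff.1 cx T]
    have e2 : D s T k1 = ζ * (T * D s T k2 * T * M s U2) := by
      calc D s T k1 = T * T * D s T k1 * (T * T) := by rw [hT]; group
        _ = T * (T * D s T k1 * T) * T := by group
        _ = T * (ζ * (D s T k2 * M s U2)) * T := by rw [base]
        _ = ζ * (T * D s T k2 * (M s U2 * T)) := by rw [cmove cz']; group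
        _ = _ := by rw [hTP]; group
    rw [e1] at e2
    have e3 : M s U2 * M s U2 = 1 := by
      conv_lhs => arg 1; rw [← hPi]
      exact inv_mul_cancel _
    rw [mul_assoc ζ (D s T k1 * M s U2) (M s U2), mul_assoc (D s T k1), e3, mul_one, ← mul_assoc] at e2
    exact mul_right_cancel (b := D s T k1) (by rw [one_mul]; exact e2.symm)
  -- the triple
  have tri : ∀ g, D s T (g ++ kA) * D s T (g ++ kB) * D s T (g ++ kC) = 1 := fun g => by
    have hY : M s [2] * M s [2] * M s [2] = 1 := by
      rw [← M_app, ← M_app, ← M_nil s]; exact M_eq s (by decide +kernel)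
    have e : D s T kA * D s T kB * D s T kC = 1 := by
      rw [← h11, kA, kB, kC, D_app, show ([2, 2] : List Nat) = [2] ++ [2] from rfl, List.append_assoc, D_app,
        D_app, pow_succ, pow_two]
      set Y := M s [2]
      set b := D s T (invW Ww)
      calc _ = Y * b * Y * b * (Y * Y)⁻¹ * (1 : Γ) * b := by group
        _ = Y * b * Y * b * (Y * Y)⁻¹ * (Y * Y * Y) * b := by rw [hY]
        _ = _ := by group
    rw [D_app, D_app, D_app]
    calc _ = M s g * (D s T kA * D s T kB * D s T kC) * (M s g)⁻¹ := by group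
      _ = 1 := by rw [e]; group
  have z1 : ζ = 1 := by
    have e : T * (D s T (tg ++ kA) * D s T (tg ++ kB) * D s T (tg ++ kC)) * T = 1 := by
      rw [tri, mul_one, hT]
    rw [sandwich hT, sandwich hT, RS ts1 _ tr1 (by decide +kernel), RS ts2 _ tr2 (by decide +kernel),
      RS ts3 _ tr3 (by decide +kernel)] at e
    rw [cmul3 (Subgroup.mul_mem _ (cpow _) cz') (Subgroup.mul_mem _ (cpow _) cz'), prod3,
      mtch (ex ts1 ++ k2) (tg2 ++ kA) tq1 (by decide +kernel),
      mtch (pcj (ex ts1) ++ (ex ts2 ++ k2)) (tg2 ++ kB) tq2 (by decide +kernel),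
      mtch (pcj (ex ts1) ++ pcj (ex ts2) ++ (ex ts3 ++ k2)) (tg2 ++ kC) tq3 (by decide +kernel),
      M_eq s (show eqc (pcj (ex ts1) ++ pcj (ex ts2) ++ pcj (ex ts3)) [] = true by decide +kernel), M_nil,
      mul_one, cmul3 (cpow _) (cpow _), cmul3 (cpow _) (cpow _), tri, mul_one, ζ2, one_mul,
      ← pow_add, ← pow_add, ← pow_add, ← pow_add, mul_assoc,
      ← Subgroup.mem_center_iff.1 cz' (η ^ (tq1.length + tq2.length + tq3.length)), ← mul_assoc, ← pow_add,
      even _ (by decide), one_mul] at e
    exact e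
  -- the sign
  have formula : ∀ g, M s (pcj g) = D s T (g ++ k2) * D s T g * D s T (g ++ k1) * D s T g := fun g => by
    have e : M s U2 = D s T k2 * T * D s T k1 * T := by
      calc M s U2 = D s T k2 * D s T k2 * M s U2 := by rw [invol, one_mul]
        _ = D s T k2 * (D s T k2 * M s U2) := by group
        _ = _ := by
          rw [show D s T k2 * M s U2 = T * D s T k1 * T by rw [base, z1, one_mul]]
          group
    rw [pcj, M_app, M_app, M_inv, e, D_app, D_app, show D s T g = M s g * T * (M s g)⁻¹ from rfl]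
    group
  have η1 : η = 1 := by
    have e : T * M s (pcj qg) * T =
        T * (D s T (qg ++ k2) * D s T qg * D s T (qg ++ k1) * D s T qg) * T := by rw [formula]
    rw [sandwich hT, sandwich hT, sandwich hT, RS qs1 _ qr1 (by decide +kernel),
      RS qs2 _ qr2 (by decide +kernel), RS qs3 _ qr3 (by decide +kernel), z1] at e
    simp only [mul_one] at e
    rw [cmul4 (cpow _) (cpow _) (cpow _), prod4,
      mtch (ex qs1 ++ k2) (qg2 ++ k2) qq1 (by decide +kernel),
      mtch (pcj (ex qs1) ++ (ex qs2 ++ k2)) qg2 qq2 (by decide +kernel),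
      mtch (pcj (ex qs1) ++ pcj (ex qs2) ++ (ex qs3 ++ k2)) (qg2 ++ k1) qq3 (by decide +kernel),
      mtch (pcj (ex qs1) ++ pcj (ex qs2) ++ pcj (ex qs3) ++ (ex qs2 ++ k2)) qg2 qq4 (by decide +kernel),
      M_eq s (show eqc (pcj (ex qs1) ++ pcj (ex qs2) ++ pcj (ex qs3) ++ pcj (ex qs2)) [] = true by decide +kernel),
      M_nil, mul_one, cmul4 (cpow _) (cpow _) (cpow _), ← formula, ← mul_assoc,
      ← pow_add, ← pow_add, ← pow_add, ← pow_add, ← pow_add, ← pow_add, ← pow_add,
      even _ (by decide), one_mul, M_eq s (show eqc (pcj qg2) (pcj qg) = true by decide +kernel),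
      M_eq s (show eqc (pcj qg) (ex qp) = true by decide +kernel)] at e
    have e2 : M s (ex qp) * T = T * η * M s (ex qp) := by
      have := hη qp
      rw [odd _ (by decide)] at this
      rw [← this]; group
    rw [mul_assoc T, e2, ← mul_assoc, ← mul_assoc, hT, one_mul] at e
    exact mul_right_cancel (b := M s (ex qp)) (by rw [one_mul]; exact e)
  refine ⟨η1, η1, ?_⟩
  rw [hζ, η1, mul_one] at z1
  exact z1

theorem third {γ y b z : Γ} (cz : z ∈ Subgroup.center Γ) (cg : γ ∈ Subgroup.center Γ) (hb : b * b = γ)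
    (h : (y * b) ^ 3 = z) (h' : (y⁻¹ * b) ^ 3 = z) : γ * γ * γ = z * z := by
  have e1 : (b * y) ^ 3 = z := by
    calc (b * y) ^ 3 = b * (y * b) ^ 3 * b⁻¹ := by rw [pow_succ, pow_two, pow_succ, pow_two]; group
      _ = z := by rw [h, Subgroup.mem_center_iff.1 cz b]; group
  have hbi : b = γ * b⁻¹ := by rw [← hb]; group
  have e2 : (y⁻¹ * b) ^ 3 = γ * γ * γ * ((b * y) ^ 3)⁻¹ := by
    conv_lhs => rw [hbi, cmove cg]
    rw [← mul_inv_rev, (show Commute γ (b * y)⁻¹ from (Subgroup.mem_center_iff.1 cg _).symm).mul_pow,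
      inv_pow]
    congr 1
    rw [pow_succ, pow_two]
  rw [h', e1] at e2
  conv_rhs => arg 1; rw [e2]
  group

end Cfsg.Agent.J4MultCore60
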