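import Cfsg.Prelude.Def_Spor_J4
import Cfsg.Agent.Lib.J4RepData13

/-!
A homomorphism from the presented fourth Janko group to permutations of the binary vectors of length 112.
-/

set_option autoImplicit false
set_option maxRecDepth 100000

namespace Cfsg.Agent.J4Rep13

open Cfsg.Agent.J4RepData13 Cfsg.Agent.J4PresGen13
open Cfsg.Spor

/-- The linear map with the given rows. -/
def app : List Nat → Nat → Nat
  | [], _ => 0
  | r :: rs, v => (if v.testBit 0 then r else 0) ^^^ app rs (v >>> 1)

theorem app_lt {n : Nat} : ∀ {rs : List Nat}, (∀ r ∈ rs, r < 2 ^ n) → ∀ v, app rs v < 2 ^ n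
  | [], _, _ => by simp [app]
  | r :: rs, h, v => by
    refine Nat.xor_lt_two_pow ?_ (app_lt (fun r' hr => h r' (List.mem_cons_of_mem _ hr)) _)
    split
    · exact h r List.mem_cons_self
    · positivity

theorem app_xor : ∀ (rs : List Nat) (a b : Nat), app rs (a ^^^ b) = app rs a ^^^ app rs b
  | [], _, _ => by simp [app]
  | r :: rs, a, b => by
    simp only [app, Nat.shiftRight_xor_distrib, app_xor rs, Nat.testBit_xor]
    cases a.testBit 0 <;> cases b.testBit 0 <;>
      simp [Nat.xor_assoc, Nat.xor_comm, Nat.xor_left_comm, Nat.xor_self]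

theorem app_zero : ∀ rs : List Nat, app rs 0 = 0
  | [] => rfl
  | r :: rs => by simp [app, app_zero rs]

theorem app_congr : ∀ (rs : List Nat) (a b : Nat),
    (∀ j < rs.length, a.testBit j = b.testBit j) → app rs a = app rs b
  | [], _, _, _ => rfl
  | r :: rs, a, b, h => by
    simp only [app]
    rw [h 0 (by simp), app_congr rs (a >>> 1) (b >>> 1) fun j hj => by
      simpa [Nat.testBit_shiftRight] using h (1 + j) (by simp only [List.length_cons]; omega)]

/-- Apply a sequence of maps. -/
def appL : List (List Nat) → Nat → Nat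
  | [], v => v
  | M :: L, v => appL L (app M v)

theorem appL_append : ∀ (L L' : List (List Nat)) (v : Nat), appL (L ++ L') v = appL L' (appL L v)
  | [], _, _ => rfl
  | M :: L, L', v => appL_append L L' _

theorem appL_xor : ∀ (L : List (List Nat)) (a b : Nat), appL L (a ^^^ b) = appL L a ^^^ appL L b
  | [], _, _ => rfl
  | M :: L, a, b => by simp only [appL, app_xor, appL_xor L]

theorem appL_zero : ∀ L : List (List Nat), appL L 0 = 0
  | [] => rfl
  | M :: L => by simp only [appL, app_zero, appL_zero L]

/-- Apply one map to all blocks of 128 bits. -/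
noncomputable def mulP : List Nat → Nat → Nat := fun rs =>
  List.rec (motive := fun _ => Nat → Nat) (fun _ => 0)
    (fun r _ ih X => Nat.xor (Nat.mul (Nat.land X mask) r) (ih (Nat.shiftRight X 1))) rs

/-- Copies of `r` in the blocks selected by `f`. -/
def spr : Nat → (Nat → Bool) → Nat → Nat
  | 0, _, _ => 0
  | n + 1, f, r => 2 ^ 128 * spr n (fun i => f (i + 1)) r + (if f 0 then r else 0)

theorem spr_mul : ∀ (n : Nat) (f : Nat → Bool) (r : Nat), spr n f 1 * r = spr n f r
  | 0, _, _ => by simp [spr]
  | n + 1, f, r => by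
    simp only [spr]
    rw [add_mul, mul_assoc, spr_mul n]
    cases f 0 <;> simp

theorem spr_testBit : ∀ (n : Nat) (f : Nat → Bool) (r : Nat), r < 2 ^ 128 → ∀ p,
    (spr n f r).testBit p = (decide (p / 128 < n) && f (p / 128) && r.testBit (p % 128))
  | 0, _, _, _, p => by simp [spr]
  | n + 1, f, r, hr, p => by
    simp only [spr]
    rw [Nat.testBit_two_pow_mul_add _ (by cases f 0 <;> simp <;> omega)]
    by_cases hp : p < 128
    · rw [if_pos hp, Nat.div_eq_of_lt hp, Nat.mod_eq_of_lt hp]
      cases f 0 <;> simp
    · rw [if_neg hp, spr_testBit n _ r hr]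
      have h1 : p / 128 = (p - 128) / 128 + 1 := by omega
      have h2 : p % 128 = (p - 128) % 128 := by omega
      rw [h1, h2]
      simp

theorem mask_eq : mask = spr 112 (fun _ => true) 1 := by decide +kernel

theorem land_mask (X : Nat) : X &&& mask = spr 112 (fun i => X.testBit (128 * i)) 1 := by
  apply Nat.eq_of_testBit_eq
  intro p
  rw [Nat.testBit_and, mask_eq, spr_testBit _ _ _ (by norm_num), spr_testBit _ _ _ (by norm_num)]
  by_cases h : p % 128 = 0
  · rw [show 128 * (p / 128) = p by omega]
    cases X.testBit p <;> simp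
  · rw [Nat.testBit_lt_two_pow (show (1 : Nat) < 2 ^ (p % 128) from Nat.one_lt_two_pow h)]
    simp

theorem mulP_testBit : ∀ (rs : List Nat), (∀ r ∈ rs, r < 2 ^ 128) → ∀ (X i j : Nat), i < 112 → j < 128 →
    (mulP rs X).testBit (128 * i + j) = (app rs (X >>> (128 * i))).testBit j
  | [], _, X, i, j, _, _ => by simp [mulP, app]
  | r :: rs, h, X, i, j, hi, hj => by
    show ((X &&& mask) * r ^^^ mulP rs (X >>> 1)).testBit _ = _
    rw [Nat.testBit_xor, land_mask, spr_mul, spr_testBit _ _ _ (h r List.mem_cons_self),
      mulP_testBit rs (fun r' hr => h r' (List.mem_cons_of_mem _ hr)) _ i j hi hj,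
      show (128 * i + j) / 128 = i by omega, show (128 * i + j) % 128 = j by omega,
      ← Nat.shiftRight_add, Nat.add_comm 1 (128 * i), Nat.shiftRight_add, app, Nat.testBit_xor,
      Nat.testBit_shiftRight, Nat.add_zero]
    cases X.testBit (128 * i) <;> simp [hi]

/-- Apply a sequence of maps to all blocks. -/
noncomputable def mulL : List (List Nat) → Nat → Nat := fun L =>
  List.rec (motive := fun _ => Nat → Nat) (fun X => X)
    (fun M _ ih X => Cfsg.Agent.J1CertCore91.force (mulP M X) ih) L

theorem mulL_testBit : ∀ (L : List (List Nat)), (∀ M ∈ L, M.length = 112 ∧ ∀ r ∈ M, r < 2 ^ 128) →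
    ∀ (X i v : Nat), i < 112 → (∀ j < 128, X.testBit (128 * i + j) = v.testBit j) →
    ∀ j < 128, (mulL L X).testBit (128 * i + j) = (appL L v).testBit j
  | [], _, _, _, _, _, hX, j, hj => hX j hj
  | M :: L, h, X, i, v, hi, hX, j, hj => by
    obtain ⟨hlen, hM⟩ := h M List.mem_cons_self
    show (Cfsg.Agent.J1CertCore91.force (mulP M X) (mulL L)).testBit _ = _
    rw [Cfsg.Agent.J1CertCore91.force_eq, appL]
    refine mulL_testBit L (fun M' hM' => h M' (List.mem_cons_of_mem _ hM')) _ i _ hi (fun j hj => ?_) j hj
    rw [mulP_testBit M hM X i j hi hj]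
    refine congrArg (fun a => Nat.testBit a j) (app_congr M _ _ fun q hq => ?_)
    rw [Nat.testBit_shiftRight]
    exact hX q (by omega)

/-- The three matrices are well formed. -/
theorem rows_ok : ([rx, ry, rt].all fun M => Nat.beq M.length 112 && M.all fun r => decide (r < 2 ^ 112)) = true := by
  decide +kernel

theorem mat_ok {M : List Nat} (h : M ∈ [rx, ry, rt]) : M.length = 112 ∧ ∀ r ∈ M, r < 2 ^ 112 := by
  have := rows_ok
  simp only [List.all_eq_true, Bool.and_eq_true, decide_eq_true_eq, Nat.beq_eq] at this
  exact this M h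

theorem fix_of_mulL {L : List (List Nat)} (hL : ∀ M ∈ L, M ∈ [rx, ry, rt])
    (h : Nat.beq (mulL L ident) ident = true) : ∀ v < 2 ^ 112, appL L v = v := by
  have hI : ∀ i < 112, ∀ j < 128, ident.testBit (128 * i + j) = (2 ^ i).testBit j := by
    have hI' : ident = 0 ^^^ ident := by simp
    have key : (List.range 112).all (fun i => (List.range 128).all fun j =>
        ident.testBit (128 * i + j) == (2 ^ i).testBit j) = true := by decide +kernel
    intro i hi j hj
    simp only [List.all_eq_true, List.mem_range, beq_iff_eq] at key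
    exact key i hi j hj
  have hlt : ∀ (L : List (List Nat)), (∀ M ∈ L, M ∈ [rx, ry, rt]) → ∀ v, v < 2 ^ 112 → appL L v < 2 ^ 112 := by
    intro L
    induction L with
    | nil => exact fun _ _ hv => hv
    | cons M L ih =>
      intro hL v _
      exact ih (fun M' h' => hL M' (List.mem_cons_of_mem _ h')) _
        (app_lt (mat_ok (hL M List.mem_cons_self)).2 _)
  have hb : ∀ i < 112, appL L (2 ^ i) = 2 ^ i := by
    intro i hi
    apply Nat.eq_of_testBit_eq
    intro j
    by_cases hj : j < 128
    · rw [← mulL_testBit L (fun M hM => ⟨(mat_ok (hL M hM)).1, fun r hr =>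
        ((mat_ok (hL M hM)).2 r hr).trans (by norm_num)⟩) ident i _ hi (hI i hi) j hj,
        Nat.eq_of_beq_eq_true h, hI i hi j hj]
    · have h2 : (2 : Nat) ^ i < 2 ^ 112 := Nat.pow_lt_pow_right (by norm_num) hi
      rw [Nat.testBit_lt_two_pow ((hlt L hL _ h2).trans_le (Nat.pow_le_pow_right (by norm_num) (by omega))),
        Nat.testBit_lt_two_pow (h2.trans_le (Nat.pow_le_pow_right (by norm_num) (by omega)))]
  have hn : ∀ n ≤ 112, ∀ v < 2 ^ n, appL L v = v := by
    intro n
    induction n with
    | zero => intro _ v hv; rw [show v = 0 by omega, appL_zero]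
    | succ n ih =>
      intro hn v hv
      cases hb' : v.testBit n with
      | false =>
        refine ih (by omega) v (Nat.lt_pow_two_of_testBit _ fun p hp => ?_)
        rcases hp.eq_or_lt with rfl | hp
        · exact hb'
        · exact Nat.testBit_lt_two_pow (hv.trans_le (Nat.pow_le_pow_right (by norm_num) hp))
      | true =>
        have hw : v ^^^ 2 ^ n < 2 ^ n := Nat.lt_pow_two_of_testBit _ fun p hp => by
          rw [Nat.testBit_xor, Nat.testBit_two_pow]
          rcases hp.eq_or_lt with rfl | hp
          · simp [hb']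
          · rw [Nat.testBit_lt_two_pow (hv.trans_le (Nat.pow_le_pow_right (by norm_num) hp))]
            simp [hp.ne]
        have hv' : v = (v ^^^ 2 ^ n) ^^^ 2 ^ n := by rw [Nat.xor_assoc, Nat.xor_self, Nat.xor_zero]
        conv_lhs => rw [hv', appL_xor, ih (by omega) _ hw, hb n (by omega)]
        exact hv'.symm
  exact hn 112 le_rfl

/-- The vectors. -/
abbrev Vec : Type := {v : Nat // v < 2 ^ 112}

/-- A sequence of maps, with a sequence inverse to it, as a permutation. -/
noncomputable def permOfMats (L L' : List (List Nat)) (hL : ∀ M ∈ L ++ L', M ∈ [rx, ry, rt])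
    (h : Nat.beq (mulL (L ++ L') ident) ident = true)
    (h' : Nat.beq (mulL (L' ++ L) ident) ident = true)
    (hlt : ∀ v : Vec, appL L v < 2 ^ 112) (hlt' : ∀ v : Vec, appL L' v < 2 ^ 112) : Equiv.Perm Vec where
  toFun v := ⟨appL L v, hlt v⟩
  invFun v := ⟨appL L' v, hlt' v⟩
  left_inv v := Subtype.ext <| by
    show appL L' (appL L v.1) = v.1
    rw [← appL_append]
    exact fix_of_mulL hL h v.1 v.2
  right_inv v := Subtype.ext <| by
    show appL L (appL L' v.1) = v.1
    rw [← appL_append]
    exact fix_of_mulL (fun M hM => hL M (by simpa [or_comm] using hM)) h' v.1 v.2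

theorem app_vec_lt {M : List Nat} (hM : M ∈ [rx, ry, rt]) (v : Nat) : app M v < 2 ^ 112 :=
  app_lt (mat_ok hM).2 v

/-- The image of the first generator. -/
noncomputable def px : Equiv.Perm Vec :=
  permOfMats [rx] [rx] (by simp) (by decide +kernel) (by decide +kernel)
    (fun v => app_vec_lt (by simp) _) (fun v => app_vec_lt (by simp) _)

/-- The image of the second generator. -/
noncomputable def py : Equiv.Perm Vec :=
  permOfMats [ry, ry] [ry] (by simp) (by decide +kernel) (by decide +kernel)
    (fun v => app_vec_lt (by simp) _) (fun v => app_vec_lt (by simp) _)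

/-- The image of the third generator. -/
noncomputable def pt : Equiv.Perm Vec :=
  permOfMats [rt] [rt] (by simp) (by decide +kernel) (by decide +kernel)
    (fun v => app_vec_lt (by simp) _) (fun v => app_vec_lt (by simp) _)

/-- The images by number. -/
noncomputable def pn (i : Nat) : Equiv.Perm Vec := if i = 0 then px else if i = 1 then py else pt

/-- The maps of one letter. -/
def matsOf : Nat → List (List Nat)
  | 0 => [rx]
  | 1 => [rx]
  | 2 => [ry, ry]
  | 3 => [ry]
  | _ => [rt]

/-- The maps of a word. -/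
def mats (w : List Nat) : List (List Nat) := w.reverse.flatMap matsOf

theorem mats_cons (l : Nat) (w : List Nat) : mats (l :: w) = mats w ++ matsOf l := by
  simp [mats]

theorem mats_mem (w : List Nat) : ∀ M ∈ mats w, M ∈ [rx, ry, rt] := by
  intro M hM
  obtain ⟨l, -, hl⟩ := List.mem_flatMap.1 hM
  rcases l with _ | _ | _ | _ | l <;> simp only [matsOf] at hl <;> aesop

theorem wv_pn_apply : ∀ (w : List Nat), (∀ l ∈ w, l < 6) → ∀ v : Vec,
    ((wv pn w) v : Nat) = appL (mats w) v
  | [], _, _ => rfl
  | l :: w, h, v => by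
    have ih := wv_pn_apply w (fun l' h' => h l' (List.mem_cons_of_mem _ h')) v
    rw [wv, Equiv.Perm.mul_apply, mats_cons, appL_append, ← ih]
    have hl := h l List.mem_cons_self
    interval_cases l <;> rfl

theorem rels_fix : (relW.all fun w => (w.all fun l => decide (l < 6)) &&
    Nat.beq (mulL (mats w) ident) ident) = true := by
  decide +kernel

theorem wv_pn_eq_one {w : List Nat} (hw : w ∈ relW) : wv pn w = 1 := by
  have h := rels_fix
  simp only [List.all_eq_true, Bool.and_eq_true, decide_eq_true_eq] at h
  obtain ⟨hl, hm⟩ := h w hw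
  ext v
  rw [wv_pn_apply w hl v, fix_of_mulL (mats_mem w) hm v.1 v.2, Equiv.Perm.one_apply]

/-- The generators of the free group by number. -/
def fgen (i : Nat) : FreeGroup J4.Gen := if i = 0 then J4.x else if i = 1 then J4.y else J4.t

/-- The images of the generators. -/
noncomputable def img : J4.Gen → Equiv.Perm Vec
  | .x => px
  | .y => py
  | .t => pt

theorem lift_wv (w : List Nat) : FreeGroup.lift img (wv fgen w) = wv pn w := by
  induction w with
  | nil => simp [wv]
  | cons l w ih =>
    rw [wv, wv, map_mul, ih]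
    congr 1
    unfold lv
    split <;> simp only [map_inv, fgen, pn] <;> split_ifs <;> simp [img, J4.x, J4.y, J4.t]

theorem extra_eq : J4.extra = relW.map (wv fgen) := by decide +kernel

theorem rel_one : ∀ r ∈ coxRelators J4.edges ∪ {r | r ∈ J4.extra}, FreeGroup.lift img r = 1 := by
  rintro r (⟨a, ha, -⟩ | hr)
  · simp [coxNodes, J4.edges] at ha
  · rw [Set.mem_ofPred_eq, extra_eq, List.mem_map] at hr
    obtain ⟨w, hw, rfl⟩ := hr
    rw [lift_wv, wv_pn_eq_one hw]

/-- The representation. -/
noncomputable def rho : Cfsg.Spor.J4 →* Equiv.Perm Vec := PresentedGroup.toGroup rel_one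

theorem rho_x : rho (PresentedGroup.mk _ J4.x) = px := PresentedGroup.toGroup.of rel_one

theorem px_ne_one : px ≠ 1 := by
  intro h
  have h' := congrArg (fun p : Equiv.Perm Vec => (p ⟨1, by norm_num⟩ : Nat)) h
  exact absurd (show app rx 1 = 1 from h') (by decide +kernel)

end Cfsg.Agent.J4Rep13
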