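import Cfsg.Prelude.Def_KGroupFacts
import Cfsg.Agent.Lib.J4MultCore60
import Cfsg.Agent.Lib.J4Rep13
import Cfsg.Agent.S1711

/-!
Every finite stem extension of the presented fourth Janko group is an isomorphism; hence its
Schur multiplier is trivial as soon as it is finite.
-/

set_option autoImplicit false
set_option maxRecDepth 100000

namespace Cfsg.Agent.J4Mult60

open Cfsg.Agent.J4PresGen13 Cfsg.Agent.J4MultData60 Cfsg.Agent.J4MultCore60
open Cfsg.Agent.J4M24Iso13 (P ps)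
open Cfsg.Agent.J4RepData13 (relW)
open Cfsg.Agent.J4Rep13 (fgen)
open scoped commutatorElement

/-- The Mathieu subgroup lifts through a finite central extension. -/
theorem exists_lift {Γ G : Type} [Group Γ] [Finite Γ] [Group G] (σ : Γ →* G) (hs : Function.Surjective σ)
    (hc : σ.ker ≤ Subgroup.center Γ) (φ : P →* G) : ∃ s : P →* Γ, ∀ p, σ (s p) = φ p := by
  let Δ : Subgroup (Γ × P) := (σ.comp (MonoidHom.fst Γ P)).eqLocus (φ.comp (MonoidHom.snd Γ P))
  let π : Δ →* P := (MonoidHom.snd Γ P).comp Δ.subtype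
  have hπ : Function.Surjective π := fun p => by
    obtain ⟨a, ha⟩ := hs (φ p)
    exact ⟨⟨(a, p), ha⟩, rfl⟩
  have hker : π.ker ≤ Subgroup.center Δ := by
    intro k hk
    rw [Subgroup.mem_center_iff]
    intro d
    have h2 : k.1.2 = 1 := hk
    have h1 : σ k.1.1 = φ k.1.2 := k.2
    rw [h2, map_one] at h1
    refine Subtype.ext (Prod.ext ?_ ?_)
    · exact Subgroup.mem_center_iff.1 (hc h1) d.1.1
    · show d.1.2 * k.1.2 = k.1.2 * d.1.2
      rw [h2, mul_one, one_mul]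
  let E : Subgroup Δ := commutator Δ
  let πE : E →* P := π.comp E.subtype
  have hπE : Function.Surjective πE := by
    rw [← MonoidHom.range_eq_top, MonoidHom.range_comp, Subgroup.range_subtype]
    show (commutator Δ).map π = ⊤
    rw [commutator_def, Subgroup.map_commutator, Subgroup.map_top_of_surjective π hπ]
    exact (commutator_def P).symm.trans Cfsg.Agent.J4M24Iso13.perfect
  have hperf : (commutator E).map E.subtype = E := by
    refine le_antisymm ?_ ?_
    · rintro _ ⟨a, -, rfl⟩; exact a.2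
    · conv_lhs => rw [show E = ⁅(⊤ : Subgroup Δ), ⊤⁆ from rfl]
      rw [Subgroup.commutator_le]
      intro a _ b _
      obtain ⟨ea, hea⟩ := hπE (π a)
      obtain ⟨eb, heb⟩ := hπE (π b)
      have hca : a * ea.1⁻¹ ∈ Subgroup.center Δ :=
        hker (by rw [MonoidHom.mem_ker, map_mul, map_inv]; exact mul_inv_eq_one.2 hea.symm)
      have hcb : b * eb.1⁻¹ ∈ Subgroup.center Δ :=
        hker (by rw [MonoidHom.mem_ker, map_mul, map_inv]; exact mul_inv_eq_one.2 heb.symm)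
      refine ⟨⁅ea, eb⁆, Subgroup.commutator_mem_commutator (Subgroup.mem_top _) (Subgroup.mem_top _), ?_⟩
      rw [map_commutatorElement]
      have key : ∀ c d p q : Δ, c ∈ Subgroup.center Δ → d ∈ Subgroup.center Δ →
          ⁅c * p, d * q⁆ = ⁅p, q⁆ := by
        intro c d p q hc' hd'
        simp only [commutatorElement_def, mul_inv_rev]
        calc c * p * (d * q) * (p⁻¹ * c⁻¹) * (q⁻¹ * d⁻¹) = c * (p * d) * q * p⁻¹ * (c⁻¹ * q⁻¹) * d⁻¹ := by
              simp only [mul_assoc]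
          _ = c * (d * p) * q * p⁻¹ * (q⁻¹ * c⁻¹) * d⁻¹ := by
              rw [Subgroup.mem_center_iff.1 hd' p, ← Subgroup.mem_center_iff.1 (Subgroup.inv_mem _ hc') q⁻¹]
          _ = (c * d) * (p * q * p⁻¹ * q⁻¹) * (c⁻¹ * d⁻¹) := by simp only [mul_assoc]
          _ = (p * q * p⁻¹ * q⁻¹) * ((c * d) * (c⁻¹ * d⁻¹)) := by
              rw [← Subgroup.mem_center_iff.1 (Subgroup.mul_mem _ hc' hd') (p * q * p⁻¹ * q⁻¹)]
              simp only [mul_assoc]
          _ = _ := by rw [Subgroup.mem_center_iff.1 hd' c]; group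
      calc ⁅E.subtype ea, E.subtype eb⁆ = ⁅a * ea.1⁻¹ * ea.1, b * eb.1⁻¹ * eb.1⁆ := (key _ _ _ _ hca hcb).symm
        _ = ⁅a, b⁆ := by rw [inv_mul_cancel_right, inv_mul_cancel_right]
  let τ : E →* Cfsg.M24 := Cfsg.Agent.J4M24Iso13.presEquiv.toMonoidHom.comp πE
  have hτker : ∀ e, τ e = 1 → πE e = 1 := fun e h =>
    Cfsg.Agent.J4M24Iso13.presEquiv.injective (h.trans (map_one _).symm)
  have hstem : Cfsg.IsStemExtension τ := by
    refine ⟨Cfsg.Agent.J4M24Iso13.presEquiv.surjective.comp hπE, fun e he => ?_, fun e _ => ?_⟩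
    · rw [Subgroup.mem_center_iff]
      exact fun d => Subtype.ext (Subgroup.mem_center_iff.1 (hker (hτker e he)) d.1)
    · obtain ⟨a, ha, hae⟩ := hperf.ge e.2
      exact (Subtype.ext hae : a = e) ▸ ha
  obtain ⟨ρ, hρ⟩ := Cfsg.Agent.SplitVoltageMathieu.multiplier_M24.2 E τ hstem
  have hsub : Subsingleton (Multiplicative (ZMod 1)) := inferInstanceAs (Subsingleton (ZMod 1))
  have : Subsingleton τ.ker := hρ.subsingleton
  have hinj : Function.Injective πE := by
    refine (MonoidHom.ker_eq_bot_iff πE).1 ((Subgroup.eq_bot_iff_forall _).2 fun e he => ?_)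
    have h1 : τ e = 1 := by
      show Cfsg.Agent.J4M24Iso13.presEquiv (πE e) = 1
      rw [he, map_one]
    exact congrArg Subtype.val (Subsingleton.elim (⟨e, h1⟩ : τ.ker) 1)
  let iso : E ≃* P := MulEquiv.ofBijective πE ⟨hinj, hπE⟩
  refine ⟨((MonoidHom.fst Γ P).comp (Δ.subtype.comp E.subtype)).comp iso.symm.toMonoidHom, fun p => ?_⟩
  have h : σ (iso.symm p).1.1.1 = φ (iso.symm p).1.1.2 := (iso.symm p).1.2
  exact h.trans (congrArg φ (iso.apply_symm_apply p))

/-- The generators of the presented group. -/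
noncomputable def qg (i : Nat) : Cfsg.Spor.J4 := PresentedGroup.mk _ (fgen i)

theorem qg_rel {w : List Nat} (hw : w ∈ relW) : wv qg w = 1 := by
  show wv (fun i => PresentedGroup.mk _ (fgen i)) w = 1
  rw [← Cfsg.Agent.J4M24Pres13.wv_map (PresentedGroup.mk _) fgen w, PresentedGroup.mk_eq_one_iff]
  refine Subgroup.subset_normalClosure (Or.inr ?_)
  rw [Set.mem_ofPred_eq, Cfsg.Agent.J4Rep13.extra_eq]
  exact List.mem_map_of_mem hw

theorem relW_eq : relW = Cfsg.Agent.J4PresData13.rels0 ++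
    [[4, 4], [5] ++ invW Vw ++ [4] ++ Vw, [5, 1, 4, 0],
      ([2] ++ invW Ww ++ [4] ++ Ww) ++ ([2] ++ invW Ww ++ [4] ++ Ww) ++ ([2] ++ invW Ww ++ [4] ++ Ww),
      (Uw ++ [4] ++ invW Qw ++ [4] ++ Qw) ++ (Uw ++ [4] ++ invW Qw ++ [4] ++ Qw)] := by
  decide +kernel

section
variable {Γ : Type} [Group Γ] (s : P →* Γ) (T : Γ)

/-- Three lifts. -/
noncomputable def gen3 (i : Nat) : Γ := if i = 0 then s (ps 0) else if i = 1 then s (ps 1) else T

theorem lv_four : lv (gen3 s T) 4 = T ∧ lv (gen3 s T) 5 = T⁻¹ := by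
  constructor <;> simp [lv, gen3]

theorem wv_low : ∀ w : List Nat, (∀ l ∈ w, l < 4) → wv (gen3 s T) w = M s w
  | [], _ => by rw [M_nil]; rfl
  | l :: w, h => by
    rw [show l :: w = [l] ++ w from rfl, wv_append, M_app, wv_low w fun m hm => h m (List.mem_cons_of_mem _ hm)]
    congr 1
    have := h l List.mem_cons_self
    interval_cases l <;> simp [wv, lv, gen3, M]

theorem wv_T : wv (gen3 s T) [4] = T := by rw [wv, wv, mul_one, (lv_four s T).1]

theorem wv_Ti : wv (gen3 s T) [5] = T⁻¹ := by rw [wv, wv, mul_one, (lv_four s T).2]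

theorem rel8 : wv (gen3 s T) [4, 4] = T * T := by rw [wv, wv, wv, mul_one, (lv_four s T).1]

theorem rel9 : wv (gen3 s T) ([5] ++ invW Vw ++ [4] ++ Vw) = T⁻¹ * (M s Vw)⁻¹ * T * M s Vw := by
  rw [wv_append, wv_append, wv_append, wv_invW, wv_low s T Vw (by decide), wv_T, wv_Ti]

theorem rel10 : wv (gen3 s T) [5, 1, 4, 0] = T⁻¹ * (M s [0])⁻¹ * T * M s [0] := by
  rw [show ([5, 1, 4, 0] : List Nat) = [5] ++ invW [0] ++ [4] ++ [0] by decide,
    wv_append, wv_append, wv_append, wv_invW, wv_low s T [0] (by decide), wv_T, wv_Ti]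

theorem rel11 : wv (gen3 s T)
    (([2] ++ invW Ww ++ [4] ++ Ww) ++ ([2] ++ invW Ww ++ [4] ++ Ww) ++ ([2] ++ invW Ww ++ [4] ++ Ww)) =
    (M s [2] * D s T (invW Ww)) ^ 3 := by
  rw [D, M_inv, inv_inv, wv_append, wv_append, pow_succ, pow_two]
  simp only [wv_append, wv_invW, wv_T, wv_low s T Ww (by decide), wv_low s T [2] (by decide), mul_assoc]

theorem rel12 : wv (gen3 s T) ((Uw ++ [4] ++ invW Qw ++ [4] ++ Qw) ++ (Uw ++ [4] ++ invW Qw ++ [4] ++ Qw)) =
    (M s Uw * T * D s T (invW Qw)) ^ 2 := by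
  rw [D, M_inv, inv_inv, wv_append, pow_two]
  simp only [wv_append, wv_invW, wv_T, wv_low s T Uw (by decide), wv_low s T Qw (by decide), mul_assoc]

theorem conj_of_comm {X k : Γ} (hk : k ∈ Subgroup.center Γ) (h : T⁻¹ * X⁻¹ * T * X = k) :
    X * T * X⁻¹ = T * k⁻¹ := by
  have e : X * k⁻¹ = k⁻¹ * X := Subgroup.mem_center_iff.1 (Subgroup.inv_mem _ hk) X
  calc X * T * X⁻¹ = X * (T * k) * X⁻¹ * k⁻¹ := by
        rw [mul_assoc (X * (T * k)), Subgroup.mem_center_iff.1 (Subgroup.inv_mem _ hk) X⁻¹,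
          ← mul_assoc (X * (T * k))]
        group
    _ = T * k⁻¹ := by rw [← h]; group

theorem D_scale {c : Γ} (hc : c ∈ Subgroup.center Γ) (w : List Nat) : D s (T * c) w = D s T w * c := by
  rw [D, D]
  calc M s w * (T * c) * (M s w)⁻¹ = M s w * T * (c * (M s w)⁻¹) := by simp only [mul_assoc]
    _ = _ := by rw [← Subgroup.mem_center_iff.1 hc (M s w)⁻¹]; simp only [mul_assoc]

end

/-- Finite stem extensions of the presented group have trivial kernel. -/
theorem ker_eq_bot {Γ : Type} [Group Γ] [Finite Γ] (σ : Γ →* Cfsg.Spor.J4) (h : Cfsg.IsStemExtension σ) :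
    σ.ker = ⊥ := by
  obtain ⟨hs, hc, hd⟩ := h
  obtain ⟨s, hsp⟩ := exists_lift σ hs hc Cfsg.Agent.S1711.tau
  obtain ⟨T, hT⟩ := hs (qg 2)
  have hps : ∀ i, i < 2 → σ (s (ps i)) = qg i := fun i hi => by
    rw [hsp]
    interval_cases i
    · exact PresentedGroup.toGroup.of Cfsg.Agent.S1711.qimg_rel
    · exact PresentedGroup.toGroup.of Cfsg.Agent.S1711.qimg_rel
  have hσ : ∀ (U : Γ), σ U = qg 2 → ∀ w, σ (wv (gen3 s U) w) = wv qg w := fun U hU w => by
    rw [Cfsg.Agent.J4M24Pres13.wv_map]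
    congr 1
    funext i
    unfold gen3
    split_ifs with h0 h1
    · subst h0; exact hps 0 (by omega)
    · subst h1; exact hps 1 (by omega)
    · rw [hU, qg, qg, fgen, fgen, if_neg h0, if_neg h1]
      rfl
  have inK : ∀ w ∈ relW, wv (gen3 s T) w ∈ σ.ker := fun w hw => by
    rw [MonoidHom.mem_ker, hσ T hT, qg_rel hw]
  rw [relW_eq] at inK
  set γ := T * T with hγdef
  have kγ : γ ∈ σ.ker := by rw [hγdef, ← rel8 s T]; exact inK _ (by simp)
  set k9 := T⁻¹ * (M s Vw)⁻¹ * T * M s Vw with hk9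
  have c9 : k9 ∈ Subgroup.center Γ := hc (by rw [hk9, ← rel9 s T]; exact inK _ (by simp))
  set k10 := T⁻¹ * (M s [0])⁻¹ * T * M s [0] with hk10
  have c10 : k10 ∈ Subgroup.center Γ := hc (by rw [hk10, ← rel10 s T]; exact inK _ (by simp))
  set z := (M s [2] * D s T (invW Ww)) ^ 3 with hzdef
  have kz : z ∈ σ.ker := by rw [hzdef, ← rel11 s T]; exact inK _ (by simp)
  have hX := conj_of_comm T c10 hk10.symm
  have hV := conj_of_comm T c9 hk9.symm
  -- an element inverting the order three generator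
  let g : List Nat := invW Ww ++ ex [1, 1] ++ Ww
  have hgy : M s g * M s [2] * (M s g)⁻¹ = (M s [2])⁻¹ := by
    rw [← M_inv, ← M_inv, ← M_app, ← M_app]
    exact M_eq s (by decide +kernel)
  have hv2 := sq_of_conj (Subgroup.inv_mem _ c9) (hc kγ) hV
  have hVV : M s Vw * M s Vw * T * (M s Vw * M s Vw)⁻¹ = T := by
    have hVk : M s Vw * k9⁻¹ = k9⁻¹ * M s Vw :=
      Subgroup.mem_center_iff.1 (Subgroup.inv_mem _ c9) _
    calc M s Vw * M s Vw * T * (M s Vw * M s Vw)⁻¹ = M s Vw * (M s Vw * T * (M s Vw)⁻¹) * (M s Vw)⁻¹ := by group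
      _ = M s Vw * T * (k9⁻¹ * (M s Vw)⁻¹) := by rw [hV]; simp only [mul_assoc]
      _ = M s Vw * T * (M s Vw)⁻¹ * k9⁻¹ := by
        rw [← Subgroup.mem_center_iff.1 (Subgroup.inv_mem _ c9) (M s Vw)⁻¹]; simp only [mul_assoc]
      _ = T := by rw [hV, mul_assoc, hv2, mul_one]
  have hgb : M s g * D s T (invW Ww) * (M s g)⁻¹ = D s T (invW Ww) := by
    have e : M s (ex [1, 1]) = M s Vw * M s Vw := by
      rw [← M_app]; congr 1
    simp only [g, D, M_app, M_inv, e]
    calc _ = (M s Ww)⁻¹ * (M s Vw * M s Vw * T * (M s Vw * M s Vw)⁻¹) * M s Ww := by group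
      _ = _ := by rw [hVV]; group
  have h' : ((M s [2])⁻¹ * D s T (invW Ww)) ^ 3 = z := by
    calc ((M s [2])⁻¹ * D s T (invW Ww)) ^ 3
        = (M s g * (M s [2] * D s T (invW Ww)) * (M s g)⁻¹) ^ 3 := by
          congr 1
          conv_lhs => rw [← hgy, ← hgb]
          group
      _ = M s g * z * (M s g)⁻¹ := by rw [hzdef, conj_pow]
      _ = z := by rw [Subgroup.mem_center_iff.1 (hc kz) (M s g), mul_inv_cancel_right]
  have hbb : D s T (invW Ww) * D s T (invW Ww) = γ := by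
    calc D s T (invW Ww) * D s T (invW Ww) = M s (invW Ww) * γ * (M s (invW Ww))⁻¹ := by
          rw [D, hγdef]; group
      _ = γ := by rw [Subgroup.mem_center_iff.1 (hc kγ) (M s (invW Ww)), mul_inv_cancel_right]
  have h3 : γ * γ * γ = z * z := third (hc kz) (hc kγ) hbb hzdef.symm h'
  -- normalise
  set c := γ * z⁻¹ with hcdef
  have kc : c ∈ σ.ker := Subgroup.mul_mem _ kγ (Subgroup.inv_mem _ kz)
  have cc : c ∈ Subgroup.center Γ := hc kc
  have hcom : Commute γ z⁻¹ := (Subgroup.mem_center_iff.1 (hc kγ) z⁻¹).symm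
  have hγ3 : γ ^ 3 = z ^ 2 := by rw [pow_succ, pow_two, pow_two, h3]
  have hT' : T * c * (T * c) = 1 := by
    rw [Subgroup.mem_center_iff.1 cc T, cmul cc, ← hγdef, ← pow_two, hcdef, hcom.mul_pow,
      Subgroup.mem_center_iff.1 (hc kγ) (γ ^ 2 * z⁻¹ ^ 2), ← mul_assoc, ← pow_succ',
      show (2 + 1 : ℕ) = 3 from rfl, hγ3, inv_pow, mul_inv_cancel]
  have h11' : (M s [2] * D s (T * c) (invW Ww)) ^ 3 = 1 := by
    have hcz : Commute (M s [2] * D s T (invW Ww)) c := Subgroup.mem_center_iff.1 cc _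
    rw [D_scale s T cc, ← mul_assoc, hcz.mul_pow, ← hzdef, hcdef, hcom.mul_pow, hγ3]
    group
  have hconj : ∀ (X k : Γ), X * T * X⁻¹ = T * k → k ∈ Subgroup.center Γ → X * (T * c) * X⁻¹ = T * c * k :=
    fun X k hXk hk => by
    calc X * (T * c) * X⁻¹ = X * T * (c * X⁻¹) := by simp only [mul_assoc]
      _ = X * T * X⁻¹ * c := by rw [← Subgroup.mem_center_iff.1 cc X⁻¹]; simp only [mul_assoc]
      _ = _ := by rw [hXk, mul_assoc, Subgroup.mem_center_iff.1 cc k, ← mul_assoc]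
  have hT2 : σ (T * c) = qg 2 := by rw [map_mul, hT, kc, mul_one]
  have kz2 : (M s Uw * (T * c) * D s (T * c) (invW Qw)) ^ 2 ∈ σ.ker := by
    rw [← rel12, MonoidHom.mem_ker, hσ _ hT2, qg_rel (by rw [relW_eq]; simp)]
  obtain ⟨e10, e9, e12⟩ := normalised s (Subgroup.inv_mem _ c10) (Subgroup.inv_mem _ c9) (hc kz2) hT'
    (hconj _ _ hX (Subgroup.inv_mem _ c10)) (hconj _ _ hV (Subgroup.inv_mem _ c9)) h11' rfl
  have hX' : (T * c)⁻¹ * (M s [0])⁻¹ * (T * c) * M s [0] = 1 := by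
    have := hconj _ _ hX (Subgroup.inv_mem _ c10)
    rw [e10, mul_one, mul_inv_eq_iff_eq_mul] at this
    rw [mul_assoc _ (T * c) (M s [0]), ← this]
    group
  have hV' : (T * c)⁻¹ * (M s Vw)⁻¹ * (T * c) * M s Vw = 1 := by
    have := hconj _ _ hV (Subgroup.inv_mem _ c9)
    rw [e9, mul_one, mul_inv_eq_iff_eq_mul] at this
    rw [mul_assoc _ (T * c) (M s Vw), ← this]
    group
  have hrel : ∀ w ∈ relW, wv (gen3 s (T * c)) w = 1 := by
    intro w hw
    rw [relW_eq] at hw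
    rcases List.mem_append.1 hw with hw | hw
    · rw [wv_low s _ w (Cfsg.Agent.J4M24Iso13.rels0_low w hw), M, Cfsg.Agent.J4M24Iso13.ps_rel w hw, map_one]
    · simp only [List.mem_cons, List.not_mem_nil, or_false] at hw
      rcases hw with rfl | rfl | rfl | rfl | rfl
      · rw [rel8]; exact hT'
      · rw [rel9]; exact hV'
      · rw [rel10]; exact hX'
      · rw [rel11]; exact h11'
      · rw [rel12]; exact e12
  let img : Cfsg.Spor.J4.Gen → Γ
    | .x => gen3 s (T * c) 0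
    | .y => gen3 s (T * c) 1
    | .t => gen3 s (T * c) 2
  have himg : ∀ i, FreeGroup.lift img (fgen i) = gen3 s (T * c) i := fun i => by
    unfold fgen gen3
    split_ifs <;> simp [img, gen3]
  have hr : ∀ r ∈ Cfsg.Spor.coxRelators Cfsg.Spor.J4.edges ∪ {r | r ∈ Cfsg.Spor.J4.extra},
      FreeGroup.lift img r = 1 := by
    rintro r (⟨a, ha, -⟩ | hr)
    · simp [Cfsg.Spor.coxNodes, Cfsg.Spor.J4.edges] at ha
    · rw [Set.mem_ofPred_eq, Cfsg.Agent.J4Rep13.extra_eq, List.mem_map] at hr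
      obtain ⟨w, hw, rfl⟩ := hr
      rw [Cfsg.Agent.J4M24Pres13.wv_map, funext himg]
      exact hrel w hw
  let ψ : Cfsg.Spor.J4 →* Γ := PresentedGroup.toGroup hr
  have hid : σ.comp ψ = MonoidHom.id _ := by
    refine PresentedGroup.ext fun a => ?_
    show σ (ψ (PresentedGroup.of a)) = PresentedGroup.of a
    rw [show ψ (PresentedGroup.of a) = img a from PresentedGroup.toGroup.of hr]
    cases a
    · exact hps 0 (by omega)
    · exact hps 1 (by omega)
    · exact hT2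
  rw [Subgroup.eq_bot_iff_forall]
  intro k hk
  have hcomm : commutator Γ ≤ ψ.range := by
    rw [show commutator Γ = ⁅(⊤ : Subgroup Γ), ⊤⁆ from rfl, Subgroup.commutator_le]
    intro a _ b _
    have hcen : ∀ x : Γ, x * (ψ (σ x))⁻¹ ∈ Subgroup.center Γ := fun x => hc (by
      rw [MonoidHom.mem_ker, map_mul, map_inv, show σ (ψ (σ x)) = σ x from DFunLike.congr_fun hid (σ x),
        mul_inv_cancel])
    refine ⟨⁅σ a, σ b⁆, ?_⟩
    rw [map_commutatorElement]
    have key : ∀ p q : Γ, ∀ x ∈ Subgroup.center Γ, ∀ y ∈ Subgroup.center Γ, ⁅x * p, y * q⁆ = ⁅p, q⁆ := by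
      intro p q x hx y hy
      simp only [commutatorElement_def, mul_inv_rev]
      calc x * p * (y * q) * (p⁻¹ * x⁻¹) * (q⁻¹ * y⁻¹) = x * (p * y) * q * p⁻¹ * (x⁻¹ * q⁻¹) * y⁻¹ := by
            simp only [mul_assoc]
        _ = x * (y * p) * q * p⁻¹ * (q⁻¹ * x⁻¹) * y⁻¹ := by
            rw [Subgroup.mem_center_iff.1 hy p, ← Subgroup.mem_center_iff.1 (Subgroup.inv_mem _ hx) q⁻¹]
        _ = (x * y) * (p * q * p⁻¹ * q⁻¹) * (x⁻¹ * y⁻¹) := by simp only [mul_assoc]
        _ = (p * q * p⁻¹ * q⁻¹) * ((x * y) * (x⁻¹ * y⁻¹)) := by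
            rw [← Subgroup.mem_center_iff.1 (Subgroup.mul_mem _ hx hy) (p * q * p⁻¹ * q⁻¹)]
            simp only [mul_assoc]
        _ = _ := by rw [Subgroup.mem_center_iff.1 hy x]; group
    conv_rhs => rw [← inv_mul_cancel_right a (ψ (σ a)), ← inv_mul_cancel_right b (ψ (σ b))]
    exact (key _ _ _ (hcen a) _ (hcen b)).symm
  obtain ⟨j, rfl⟩ := hcomm (hd hk)
  have : σ (ψ j) = 1 := hk
  rw [show σ (ψ j) = j from DFunLike.congr_fun hid j] at this
  rw [this, map_one]

/-- The multiplier is trivial once the group is finite. -/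
theorem multiplier [Finite Cfsg.Spor.J4] : Cfsg.HasCyclicSchurMultiplier Cfsg.Spor.J4 1 := by
  have hsub : Subsingleton (Multiplicative (ZMod 1)) := inferInstanceAs (Subsingleton (ZMod 1))
  refine ⟨⟨Cfsg.Spor.J4, inferInstance, inferInstance, MonoidHom.id _, ⟨fun g => ⟨g, rfl⟩, ?_, ?_⟩, ?_⟩, ?_⟩
  · intro k hk; rw [MonoidHom.mem_ker, MonoidHom.id_apply] at hk; rw [hk]; exact Subgroup.one_mem _
  · intro k hk; rw [MonoidHom.mem_ker, MonoidHom.id_apply] at hk; rw [hk]; exact Subgroup.one_mem _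
  · have : Subsingleton (MonoidHom.id Cfsg.Spor.J4).ker := by
      rw [(MonoidHom.ker_eq_bot_iff _).2 fun _ _ h => h]
      infer_instance
    exact ⟨{ toFun := fun _ => 1, invFun := fun _ => 1, left_inv := fun _ => Subsingleton.elim _ _,
             right_inv := fun _ => Subsingleton.elim _ _, map_mul' := fun _ _ => (mul_one _).symm }⟩
  · intro Γ _ _ σ h
    refine ⟨1, fun k => ⟨1, ?_⟩⟩
    have hk : (k : Γ) ∈ (⊥ : Subgroup Γ) := ker_eq_bot σ h ▸ k.2
    exact Subtype.ext (by rw [map_one]; exact (Subgroup.mem_bot.1 hk).symm)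

end Cfsg.Agent.J4Mult60
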