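import Mathlib
import Cfsg.Agent.Lib.J4Syl18
import Cfsg.Agent.Lib.J4OrbitSing48

/-!
The two orbits of the triple cover of `M22` on non-zero singular vectors of the twelve-dimensional
orthogonal space, and the orders of the stabilisers.
-/

set_option autoImplicit false
set_option linter.unusedSectionVars false
set_option linter.style.haveILetI false
set_option maxHeartbeats 800000
set_option maxRecDepth 100000

namespace Cfsg.Agent.J4OrbitSize48

open Cfsg Cfsg.Agent.U62Mon93 Cfsg.Agent.U62Existence93 Cfsg.Agent.LFForm89 Cfsg.Agent.LFMat89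
open Cfsg.Agent.J4Coord85 (Hyp Frame Acts op)
open Cfsg.Agent.J4Syl18 Cfsg.Agent.J4Data18 Cfsg.Agent.J4OrbitSing48
open Cfsg.Agent.LFCheck89 (app qpar allBelow allBelow_spec)
open scoped Matrix

universe u v

variable {X : Type u} [Group X] [Finite X] {V : Type v} [AddCommGroup V]
variable {F : Type} [Field F] [Fintype F] {s : F}
variable {h : S4 s} {ρ : X →* AddMonoid.End V} {q : V → ZMod 2} {n : X} {Mb : Subgroup X}
variable {ν : (Fin 6 → F) → V} (H : Hyp ρ q n Mb) (C : Coord h ρ q n Mb ν)

/-- The stabiliser of a vector in the subgroup of index two. -/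
def Stab (ρ : X →* AddMonoid.End V) (Mb : Subgroup X) (u : V) : Subgroup X where
  carrier := {g | g ∈ Mb ∧ op ρ g u = u}
  one_mem' := ⟨one_mem _, J4Syl18.rho_one ρ u⟩
  mul_mem' := fun {a b} ha hb => ⟨mul_mem ha.1 hb.1, by rw [J4Syl18.rho_mul, hb.2, ha.2]⟩
  inv_mem' := fun {a} ha => ⟨inv_mem ha.1, by
    have e : op ρ a⁻¹ (op ρ a u) = u := by
      rw [← J4Syl18.rho_mul, inv_mul_cancel, J4Syl18.rho_one]
    rwa [ha.2] at e⟩

include H C

/-- The orbit of the root is the last level. -/
theorem orbit_eq {l : List ℕ} {r : ℕ} (hr : r < 4096) (hl : levOK l r = true) :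
    {w | ∃ g ∈ Mb, op ρ g (nc s ν r) = w} = nc s ν '' {c | c < 4096 ∧ inO l c = true} := by
  simp only [levOK, Bool.and_eq_true] at hl
  obtain ⟨⟨⟨h0, hroot⟩, hstep⟩, hclosed⟩ := hl
  apply Set.Subset.antisymm
  · rintro w ⟨g, hg, rfl⟩
    obtain ⟨S, hS⟩ : ∃ S, S = nc s ν '' {c | c < 4096 ∧ inO l c = true} := ⟨_, rfl⟩
    rw [← hS]
    have hfin : S.Finite := hS ▸ ((Set.finite_Iio 4096).subset fun c hc => hc.1).image _
    have key : ∀ x ∈ Mb, op ρ x '' S = S := by
      intro x hx
      rw [← C.generate] at hx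
      induction hx using Subgroup.closure_induction with
      | mem x hx =>
        obtain ⟨-, k, hk, hxA⟩ := hx
        refine Set.eq_of_subset_of_ncard_le ?_ ?_ hfin
        · rw [hS]
          rintro _ ⟨_, ⟨c, ⟨hc, hP⟩, rfl⟩, rfl⟩
          have h3 := allBelow_spec hclosed c hc
          simp only [hP, Bool.not_true, Bool.false_or, List.all_eq_true] at h3
          refine ⟨app (genC.getD k 0) c, ⟨app_lt _ _, h3 _ ?_⟩, (acts_nc H C hxA c).symm⟩
          rw [List.getD_eq_getElem _ _ (show k < genC.length by simpa [genC] using hk)]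
          exact List.getElem_mem _
        · have hinj : Function.Injective (op ρ x) := fun a b e => by
            rw [← op_inv_op H C x a, e, op_inv_op H C x b]
          rw [Set.ncard_image_of_injective S hinj]
      | one => simp [J4Syl18.rho_one]
      | mul a b _ _ ea eb =>
        conv_rhs => rw [← ea, ← eb]
        rw [Set.image_image]
        exact Set.image_congr' fun w => J4Syl18.rho_mul ρ a b w
      | inv a _ ea =>
        conv_lhs => rw [← ea]
        rw [Set.image_image]
        exact (Set.image_congr' fun w => op_inv_op H C a w).trans (Set.image_id S)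
    rw [← key g hg]
    exact ⟨_, hS.symm ▸ ⟨r, ⟨hr, hroot⟩, rfl⟩, rfl⟩
  · rintro _ ⟨c, ⟨hc, hin⟩, rfl⟩
    have key : ∀ k, k ≤ l.length - 1 → ∀ c < 4096, inL l k c = true →
        ∃ g ∈ Mb, op ρ g (nc s ν r) = nc s ν c := by
      intro k
      induction k with
      | zero =>
        intro _ c hc hin
        have h1 := allBelow_spec h0 c hc
        rw [hin, Bool.not_true, Bool.false_or, Nat.beq_eq] at h1
        exact ⟨1, one_mem _, by rw [J4Syl18.rho_one, h1]⟩
      | succ k ih =>
        intro hk c hc hin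
        have h1 := allBelow_spec (allBelow_spec hstep k hk) c hc
        rw [hin, Bool.not_true, Bool.false_or, Bool.or_eq_true, List.any_eq_true] at h1
        rcases h1 with h1 | ⟨m, hm, h1⟩
        · exact ih (by omega) c hc h1
        · obtain ⟨j, hj, rfl⟩ := List.mem_iff_getElem.1 hm
          obtain ⟨g, hg, e⟩ := ih (by omega) _ (app_lt _ _) h1
          obtain ⟨a, ha, ea⟩ := C.gens j (by have : genC.length = 4 := rfl; omega)
          rw [List.getD_eq_getElem _ _ hj] at ea
          refine ⟨a⁻¹ * g, mul_mem (inv_mem ha) hg, ?_⟩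
          rw [J4Syl18.rho_mul, e, ← acts_nc H C ea c, op_inv_op H C]
    exact key _ le_rfl c hc hin

/-- The stabiliser of a non-zero singular vector has order 1920 or 960. -/
theorem card_stab {u : V} (hq : q u = 0) (hu : u ≠ 0) :
    Nat.card (Stab ρ Mb u) = 1920 ∨ Nat.card (Stab ρ Mb u) = 960 := by
  classical
  haveI : Finite V := Nat.finite_of_card_ne_zero (by rw [H.fx.card]; norm_num)
  obtain ⟨c, hc, rfl⟩ := exists_nc H C u
  have hc0 : c ≠ 0 := by rintro rfl; exact hu (nc_zero H C)
  have hpar : qpar c = false := by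
    rw [q_nc H C] at hq
    cases hh : qpar c
    · rfl
    · rw [hh, if_pos rfl] at hq; exact absurd hq one_ne_zero
  letI : MulAction ↥Mb V :=
    { smul := fun g v => op ρ (g : X) v
      one_smul := fun v => J4Syl18.rho_one ρ v
      mul_smul := fun g g' v => J4Syl18.rho_mul ρ g g' v }
  have hst : Nat.card (Stab ρ Mb (nc s ν c)) = Nat.card (MulAction.stabilizer ↥Mb (nc s ν c)) :=
    Nat.card_congr
      { toFun := fun g => ⟨⟨g.1, g.2.1⟩, g.2.2⟩
        invFun := fun g => ⟨g.1.1, g.1.2, g.2⟩
        left_inv := fun g => rfl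
        right_inv := fun g => rfl }
  have horb : ∀ {l : List ℕ} {r m : ℕ}, r < 4096 → levOK l r = true → inO l c = true →
      ((List.range 4096).filter (inO l)).length = m →
      (MulAction.orbit ↥Mb (nc s ν c)).ncard = m := by
    intro l r m hr hl hin hm
    have e := orbit_eq H C hr hl
    have e2 : MulAction.orbit ↥Mb (nc s ν c) = nc s ν '' {c | c < 4096 ∧ inO l c = true} := by
      rw [← e]
      obtain ⟨g0, hg0, hg0e⟩ : ∃ g ∈ Mb, op ρ g (nc s ν r) = nc s ν c := by
        have hmem : nc s ν c ∈ nc s ν '' {c | c < 4096 ∧ inO l c = true} := ⟨c, ⟨hc, hin⟩, rfl⟩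
        rw [← e] at hmem
        exact hmem
      apply Set.Subset.antisymm
      · rintro _ ⟨g, rfl⟩
        refine ⟨(g : X) * g0, mul_mem g.2 hg0, ?_⟩
        rw [J4Syl18.rho_mul, hg0e]
        rfl
      · rintro _ ⟨g, hg, rfl⟩
        refine ⟨⟨g * g0⁻¹, mul_mem hg (inv_mem hg0)⟩, ?_⟩
        show op ρ (g * g0⁻¹) (nc s ν c) = _
        rw [J4Syl18.rho_mul, ← hg0e, op_inv_op H C]
    rw [e2, Set.InjOn.ncard_image fun a ha b hb e => nc_inj H C ha.1 hb.1 e, ← hm,
      ← List.toFinset_card_of_nodup (List.nodup_range.filter _), ← Set.ncard_coe_finset]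
    congr 1
    ext a
    simp
  have hmul : ∀ m, (MulAction.orbit ↥Mb (nc s ν c)).ncard = m →
      Nat.card (Stab ρ Mb (nc s ν c)) * m = 1330560 := by
    intro m hm
    rw [hst, ← hm, ← MulAction.index_stabilizer, Subgroup.card_mul_index, card_Mb H C]
  have hcov := allBelow_spec cover_ok c hc
  simp only [hpar, Bool.or_false, Bool.or_eq_true, Nat.beq_eq] at hcov
  rcases hcov with (h0 | hA) | hB
  · exact absurd h0 hc0
  · left
    have := hmul 693 (horb (by norm_num) levA_ok hA countA)
    omega
  · right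
    have := hmul 1386 (horb (by norm_num) levB_ok hB countB)
    omega

end Cfsg.Agent.J4OrbitSize48
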