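import Cfsg.Agent.Lib.J4Out54Cent
import Cfsg.Agent.Lib.GolayOutM24

/-!
Every automorphism of the presented fourth Janko group is inner.
-/

set_option autoImplicit false
set_option maxRecDepth 100000
set_option maxHeartbeats 400000

namespace Cfsg.Agent.J4Out54Aut

open Cfsg Cfsg.Agent.GolayBasic Cfsg.Agent.GolayPerm Cfsg.Agent.GolayEnumComp Cfsg.Agent.GolayFast
open Cfsg.Agent.J4XBase18 Cfsg.Agent.J4XCert18 Cfsg.Agent.J4Out54Base Cfsg.Agent.J4Out54Data
open Cfsg.Agent.J4Out54Cent Cfsg.Agent.J4Out54Chk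
open Cfsg.Agent.GolayOutGen (Sim sim_trans sim_conj)
open Cfsg.Agent.J4XLowerPair97 (mu elM pk)

attribute [local irreducible] Cfsg.Agent.J4XLowerPair97.pk
open Cfsg.Agent.J4M24Iso13 (eX eY)

/-- The automorphism preserves the subgroup, the projection, and fixes the elementary abelian subgroup. -/
def Norm (φ : MulAut Spor.J4) : Prop :=
  (base S).map φ.toMonoidHom = base S ∧ (∀ v, inE v = true → φ (S.e v) = S.e v) ∧
    ∀ g : M24, ∃ c, inE c = true ∧ φ (mu S g) = el c g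

theorem e_fixed {φ : MulAut Spor.J4} (hE : EE.map φ.toMonoidHom = EE)
    (hM : ∀ g : M24, ∃ c, inE c = true ∧ φ (mu S g) = el c g) :
    ∀ v, inE v = true → φ (S.e v) = S.e v := by
  obtain ⟨hg0, hf, honly, htr, hcomb, h3, hb⟩ := basis_ok
  rw [goodF_eq] at hg0
  have him : ∀ v, inE v = true → ∃ w, inE w = true ∧ φ (S.e v) = S.e w := fun v hv' =>
    mem_EE.1 (hE ▸ ⟨S.e v, ⟨v, hv', rfl⟩, rfl⟩)
  have htwist : ∀ (g : M24) v w, inE v = true → inE w = true → φ (S.e v) = S.e w →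
      φ (S.e (av g v)) = S.e (av g w) := by
    intro g v w hv' hw e
    obtain ⟨c, hc, hφ⟩ := hM g
    have h1 : φ (S.e (av g v)) * φ (mu S g) = φ (mu S g) * φ (S.e v) := by
      rw [← map_mul, ← map_mul, mu_e g hv']
    rw [e, hφ, el, mul_assoc, mu_e g hw, ← mul_assoc, ← mul_assoc] at h1
    have h2 := mul_right_cancel h1
    rw [e_mul hc (inE_av g hw), Nat.xor_comm, ← e_mul (inE_av g hw) hc] at h2
    exact mul_right_cancel h2
  obtain ⟨w, hw, e⟩ := him 3 h3
  have hfix : vactF stabD w = w := by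
    have h1 := htwist (elM stabD hg0) 3 w h3 hw e
    rw [av_elM hg0 h3, av_elM hg0 hw, ← vactF_eq, Nat.eq_of_beq_eq_true hf, e, ← vactF_eq] at h1
    exact (J4XLowerPair97.e_injective S hm hw (by rw [vactF_eq]; exact hv hg0 hw) h1).symm
  have h03 := List.all_eq_true.1 honly w (List.mem_range.2 (J4XPerm10.inE_iff.1 hw).1)
  rw [hfix, hw, Nat.beq_refl] at h03
  simp only [Bool.and_self, Bool.not_true, Bool.false_or, Bool.or_eq_true, Nat.beq_eq] at h03
  have e3 : φ (S.e 3) = S.e 3 := by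
    rcases h03 with rfl | rfl
    · rw [e_zero] at e
      have h := J4XLowerPair97.e_eq_one S hm h3 (φ.injective (e.trans (map_one φ).symm))
      norm_num at h
    · exact e
  have hbv : ∀ k < 11, φ (S.e (J4Out54Chk.bv k)) = S.e (J4Out54Chk.bv k) := by
    intro k hk
    have h := List.all_eq_true.1 htr k (List.mem_range.2 hk)
    simp only [Bool.and_eq_true, goodF_eq, Nat.beq_eq, vactF_eq] at h
    have h1 := htwist (elM _ h.1) 3 3 h3 h3 e3
    rwa [av_elM h.1 h3, h.2] at h1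
  intro v hv'
  have key : ∀ n ≤ 11, inE (comb3 v n) = true ∧ φ (S.e (comb3 v n)) = S.e (comb3 v n) := by
    intro n
    induction n with
    | zero => exact fun _ => ⟨J4XPerm10.inE_zero, by rw [comb3, e_zero, map_one]⟩
    | succ n ih =>
      intro hn
      obtain ⟨h1, h2⟩ := ih (by omega)
      rw [comb3]
      cases (List.range (n + 1)).foldl (fun b k => b ^^ v.testBit k) false
      · exact ⟨h1, h2⟩
      · have hbn : inE (J4Out54Chk.bv n) = true := List.all_eq_true.1 hb n (List.mem_range.2 (by omega))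
        refine ⟨J4XPerm10.inE_xor h1 hbn, ?_⟩
        simp only [cond_true]
        rw [← e_mul h1 hbn, map_mul, h2, hbv n (by omega)]
  have hv11 := List.all_eq_true.1 hcomb v (List.mem_range.2 (J4XPerm10.inE_iff.1 hv').1)
  rw [hv', Bool.not_true, Bool.false_or, Nat.beq_eq] at hv11
  exact hv11 ▸ (key 11 le_rfl).2

/-- Up to inner automorphisms an automorphism is normalised. -/
theorem exists_norm (α : MulAut Spor.J4) : ∃ φ, Sim α φ ∧ Norm φ := by
  obtain ⟨g, hE, hB⟩ := J4Out54Local.exists_conj α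
  set β := MulAut.conj g * α with hβ
  have hmem : ∀ x : base S, β (x : Spor.J4) ∈ base S := fun x => by
    have : β (x : Spor.J4) ∈ (base S).map β.toMonoidHom := ⟨_, x.2, rfl⟩
    rwa [hB] at this
  let r : base S →* base S := (β.toMonoidHom.comp (base S).subtype).codRestrict _ hmem
  have rsurj : Function.Surjective r := fun y => by
    have hy : (y : Spor.J4) ∈ (base S).map β.toMonoidHom := by rw [hB]; exact y.2
    obtain ⟨x, hx, e⟩ := hy
    exact ⟨⟨x, hx⟩, Subtype.ext e⟩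
  have hker : pr.ker ≤ (pr.comp r).ker := by
    intro x hx
    refine pr_eq_one.2 ?_
    show β (x : Spor.J4) ∈ EE
    rw [← hE]
    exact ⟨_, pr_eq_one.1 hx, rfl⟩
  let ψ : M24 →* M24 := pr.liftOfSurjective pr_surjective ⟨pr.comp r, hker⟩
  have hψ : ∀ x, ψ (pr x) = pr (r x) := fun x =>
    MonoidHom.liftOfRightInverse_comp_apply _ _ _ ⟨pr.comp r, hker⟩ x
  have ψsurj : Function.Surjective ψ := fun h => by
    obtain ⟨y, rfl⟩ := pr_surjective h
    obtain ⟨x, rfl⟩ := rsurj y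
    exact ⟨pr x, hψ x⟩
  let Ψ : MulAut M24 := MulEquiv.ofBijective ψ ⟨(Finite.injective_iff_surjective.2 ψsurj), ψsurj⟩
  obtain ⟨σ, hσ⟩ : Ψ ∈ Inn M24 := by
    obtain ⟨z, hz⟩ := Nat.card_eq_one_iff_exists.1 GolayOutM24.card_out
    exact (QuotientGroup.eq_one_iff Ψ).1 ((hz _).trans (hz 1).symm)
  have hs : el 0 σ⁻¹ ∈ base S := el_mem J4XPerm10.inE_zero _
  obtain ⟨φ, hsim, hφ⟩ := sim_conj β (el 0 σ⁻¹)
  have hsim0 : Sim α β := by
    rw [Sim, hβ, mul_inv_rev, mul_inv_cancel_left]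
    exact inv_mem ⟨g, rfl⟩
  have hM : ∀ h : M24, ∃ c, inE c = true ∧ φ (mu S h) = el c h := by
    intro h
    set x : base S := ⟨el 0 h, el_mem J4XPerm10.inE_zero h⟩
    have hxp : pr x = h := pr_eq J4XPerm10.inE_zero rfl
    have hsp : pr ⟨_, hs⟩ = σ⁻¹ := pr_eq J4XPerm10.inE_zero rfl
    obtain ⟨c, hc, e⟩ := pr_spec ((⟨_, hs⟩ : base S) * r x * (⟨_, hs⟩ : base S)⁻¹)
    refine ⟨c, hc, ?_⟩
    rw [map_mul, map_mul, map_inv, hsp, ← hψ, hxp, show ψ h = Ψ h from rfl, ← hσ, MulAut.conj_apply,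
      inv_inv, show σ⁻¹ * (σ * h * σ⁻¹) * σ = h by group] at e
    rw [← e, hφ, ← el_zero h]
    rfl
  have hB' : (base S).map φ.toMonoidHom = base S := by
    refine Subgroup.eq_of_le_of_card_ge ?_ (by rw [Subgroup.card_map_of_injective φ.injective])
    rintro _ ⟨x, hx, rfl⟩
    show φ x ∈ base S
    rw [hφ]
    exact mul_mem (mul_mem hs (hmem ⟨x, hx⟩)) (inv_mem hs)
  have hE' : EE.map φ.toMonoidHom = EE := by
    refine Subgroup.eq_of_le_of_card_ge ?_ (by rw [Subgroup.card_map_of_injective φ.injective])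
    rintro _ ⟨x, hx, rfl⟩
    show φ x ∈ EE
    rw [hφ]
    exact EE_normalised hs (hE ▸ ⟨x, hx, rfl⟩)
  exact ⟨φ, sim_trans hsim0 hsim, hB', e_fixed hE' hM, hM⟩

/-- Conjugation by a class keeps the normal form. -/
theorem conj_norm {φ : MulAut Spor.J4} (h : Norm φ) {w : ℕ} (hw : inE w = true) :
    ∃ ψ, Sim φ ψ ∧ Norm ψ ∧
      ∀ g c, inE c = true → φ (mu S g) = el c g → ψ (mu S g) = el (c ^^^ w ^^^ av g w) g := by
  obtain ⟨hB, hE, hM⟩ := h
  obtain ⟨ψ, hsim, hψ⟩ := sim_conj φ (S.e w)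
  have hconj : ∀ g c, inE c = true → φ (mu S g) = el c g →
      ψ (mu S g) = el (c ^^^ w ^^^ av g w) g := by
    intro g c hc e
    rw [hψ, e, e_inv hw, ← el_one w, el_mul hw hc, el_mul (J4XPerm10.inE_xor hw (inE_av 1 hc)) hw, one_mul,
      mul_one, av_one hc, Nat.xor_comm w c]
  refine ⟨ψ, hsim, ⟨?_, fun v hv' => ?_, fun g => ?_⟩, hconj⟩
  · refine Subgroup.eq_of_le_of_card_ge ?_ (by rw [Subgroup.card_map_of_injective ψ.injective])
    rintro _ ⟨x, hx, rfl⟩
    show ψ x ∈ base S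
    rw [hψ]
    exact mul_mem (mul_mem (EE_le ⟨w, hw, rfl⟩) (hB ▸ ⟨x, hx, rfl⟩)) (inv_mem (EE_le ⟨w, hw, rfl⟩))
  · rw [hψ, hE v hv', e_mul hw hv', e_inv hw, e_mul (J4XPerm10.inE_xor hw hv') hw]
    congr 1
    rw [Nat.xor_comm w v, Nat.xor_assoc, Nat.xor_self, Nat.xor_zero]
  · obtain ⟨c, hc, e⟩ := hM g
    exact ⟨_, J4XPerm10.inE_xor (J4XPerm10.inE_xor hc hw) (inE_av g hw), hconj g c hc e⟩

/-- An automorphism is similar to one fixing the second generator and moving the first by one of two classes. -/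
theorem exists_two (α : MulAut Spor.J4) : ∃ φ, Sim α φ ∧ Norm φ ∧ ∃ a ∈ cases,
    φ (psi S (0, eX)) = psi S (a, eX) ∧ φ (psi S (0, eY)) = psi S (0, eY) := by
  obtain ⟨φ, hsim, hN⟩ := exists_norm α
  obtain ⟨hg, hfy, hfix, -⟩ := xy_ok
  simp only [Bool.and_eq_true, goodF_eq, compF_eq, okHF_eq, Nat.beq_eq] at hg
  obtain ⟨⟨⟨⟨⟨gX, gY⟩, xx⟩, yyy⟩, -⟩, -⟩ := hg
  set X := elM eX gX with hX
  set Y := elM eY gY with hY
  have hXX : X * X = 1 := by
    rw [hX, elM_mul, elM_congr _ J4XPerm10.good_idP (congrArg _ xx)]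
    exact J4Out54Local.elM_one
  have hY3 : Y * (Y * Y) = 1 := by
    rw [hY, elM_mul, elM_mul, elM_congr _ J4XPerm10.good_idP (congrArg _ yyy)]
    exact J4Out54Local.elM_one
  obtain ⟨b, hb, eb⟩ := hN.2.2 Y
  have hbrel : b ^^^ av Y (b ^^^ av Y b) = 0 := by
    have h : el b Y * (el b Y * el b Y) = 1 := by
      rw [← eb, ← map_mul, ← map_mul, ← map_mul, ← map_mul, hY3, map_one, map_one]
    rw [el_mul hb hb, el_mul hb (J4XPerm10.inE_xor hb (inE_av Y hb)), hY3, el_one] at h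
    exact J4XLowerPair97.e_eq_one S hm (J4XPerm10.inE_xor hb (inE_av Y (J4XPerm10.inE_xor hb (inE_av Y hb)))) h
  obtain ⟨φ1, hs1, hN1, hc1⟩ := conj_norm hN (w := av Y b) (inE_av Y hb)
  have hy1 : φ1 (mu S Y) = el 0 Y := by
    have h := hc1 Y b hb eb
    rw [av_xor] at hbrel
    rwa [Nat.xor_assoc, hbrel] at h
  obtain ⟨a, ha, ea⟩ := hN1.2.2 X
  have harel : vactF eX a = a := by
    have h : el a X * el a X = 1 := by rw [← ea, ← map_mul, ← map_mul, hXX, map_one, map_one]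
    rw [el_mul ha ha, hXX, el_one] at h
    have h' := J4XLowerPair97.e_eq_one S hm (J4XPerm10.inE_xor ha (inE_av X ha)) h
    rw [vactF_eq, ← av_elM gX ha, ← hX]
    exact (Nat.xor_eq_zero_iff.1 h').symm
  have hlist := List.all_eq_true.1 hfix a (List.mem_range.2 (J4XPerm10.inE_iff.1 ha).1)
  rw [harel, ha, Nat.beq_refl] at hlist
  simp only [Bool.and_self, Bool.not_true, Bool.false_or, List.any_eq_true, Nat.beq_eq] at hlist
  obtain ⟨w, hw, c, hc, e⟩ := hlist
  have hwf := List.all_eq_true.1 hfy w hw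
  simp only [Bool.and_eq_true, Nat.beq_eq, vactF_eq] at hwf
  obtain ⟨φ2, hs2, hN2, hc2⟩ := conj_norm hN1 hwf.1
  refine ⟨φ2, sim_trans hsim (sim_trans hs1 hs2), hN2, c, hc, ?_, ?_⟩
  · rw [psi_el gX, psi_el gX, el_zero, ← hX, hc2 X a ha ea]
    rw [vactF_eq] at e
    rw [← e, hX, av_elM gX hwf.1]
  · rw [psi_el gY, ← hY, el_zero, hc2 Y 0 J4XPerm10.inE_zero hy1, hY, av_elM gY hwf.1, hwf.2,
      Nat.zero_xor, Nat.xor_self, el_zero]

theorem pimg_wim {P : ℕ} (hP : good P = true) (hX : pcomp P eX = pcomp eX P)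
    (hW : pcomp P wC = pcomp wC P) : ∀ (w : List ℕ) {i : ℕ}, i < 24 →
      wim w i < 24 ∧ pimg P (wim w i) = wim w (pimg P i)
  | [], i, hi => ⟨hi, rfl⟩
  | l :: w, i, hi => by
    obtain ⟨h1, h2⟩ := pimg_wim hP hX hW w hi
    obtain ⟨hp, -⟩ := perm_ok
    simp only [Bool.and_eq_true, goodF_eq] at hp
    set R := if l = 0 then eX else wC with hR
    have gR : good R = true := by rw [hR]; split; exacts [hp.1.1.1.1.1.1.1.1.1.1.1, hp.1.1.1.1.1.1.1.1.1.2]
    have cR : pcomp P R = pcomp R P := by rw [hR]; split; exacts [hX, hW]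
    refine ⟨pimg_lt (valid_of_good gR) h1, ?_⟩
    show pimg P (pimg R (wim w i)) = pimg R (wim w (pimg P i))
    rw [← pimg_pcomp _ _ h1, cR, pimg_pcomp _ _ h1, h2]

theorem trivial_of_commute {h : Spor.J4} (hh : h ∈ base S) (h1 : Commute h (psi S (0, eX)))
    (h2 : Commute h (psi S (0, wC))) : h = 1 := by
  obtain ⟨hp, -, hreach, hsep, hfix, -⟩ := perm_ok
  simp only [Bool.and_eq_true, goodF_eq, compF_eq, Nat.beq_eq] at hp
  obtain ⟨⟨⟨⟨⟨⟨⟨⟨⟨⟨⟨gX, -⟩, gW⟩, -⟩, -⟩, -⟩, cX⟩, cW⟩, -⟩, -⟩, -⟩, -⟩ := hp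
  obtain ⟨v, hv', p, rfl⟩ := mem_base.1 hh
  have key : ∀ {P} (hP : good P = true), pcomp idP P = P → Commute (el v p) (psi S (0, P)) →
      vact P v = v ∧ pcomp (pk p.1) P = pcomp P (pk p.1) := by
    intro P hP cP hc
    have h := hc.eq
    have h0 : av p 0 = 0 := by
      have := av_xor p 0 0
      rwa [Nat.xor_self, Nat.xor_self] at this
    rw [psi_el hP, el_mul hv' J4XPerm10.inE_zero, el_mul J4XPerm10.inE_zero hv', av_elM hP hv', h0,
      Nat.xor_zero, Nat.zero_xor] at h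
    obtain ⟨e1, e2⟩ := el_inj hv' (hv hP hv') h
    refine ⟨e1.symm, ?_⟩
    have e3 := congrArg (fun g : M24 => pk g.1) e2
    simpa only [Subgroup.coe_mul, J4XLowerPair97.pk_mul, pk_elM, cP] using e3
  obtain ⟨vX, pX⟩ := key gX cX h1
  obtain ⟨vW, pW⟩ := key gW cW h2
  have hv0 : v = 0 := by
    have := List.all_eq_true.1 hfix v (List.mem_range.2 (J4XPerm10.inE_iff.1 hv').1)
    rw [vactF_eq, vactF_eq, vX, vW, hv', Nat.beq_refl] at this
    simpa using this
  have gp := J4XLowerPair97.good_pk p.2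
  have hwim := pimg_wim gp pX pW
  have hj : pimg (pk p.1) 0 = 0 := by
    have := List.all_eq_true.1 hsep (pimg (pk p.1) 0)
      (List.mem_range.2 (pimg_lt (valid_of_good gp) (by norm_num)))
    simp only [Bool.or_eq_true, Nat.beq_eq, List.any_eq_true, Bool.and_eq_true, Bool.not_eq_true'] at this
    rcases this with h | ⟨w, -, e0, ej⟩
    · exact h
    · have h := (hwim w (i := 0) (by norm_num)).2
      rw [e0] at h
      rw [← h, Nat.beq_refl] at ej
      exact absurd ej (by simp)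
  have hall : ∀ i < 24, pimg (pk p.1) i = i := by
    intro i hi
    obtain ⟨w, -, e⟩ := List.any_eq_true.1 (List.all_eq_true.1 hreach i (List.mem_range.2 hi))
    rw [← Nat.eq_of_beq_eq_true e, (hwim w (i := 0) (by norm_num)).2, hj]
  have hp1 : p = 1 := by
    apply Subtype.ext
    ext x : 1
    rw [← J4XLowerPair97.permOf_pk p.1, permOf_apply (J4XLowerPair97.valid_pk p.1), pfun,
      hall _ (idx_lt x), pt_idx]
    rfl
  rw [hv0, hp1, el_one, e_zero]

theorem q_gens : psi S (0, eX) = PresentedGroup.mk _ Spor.J4.x ∧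
    psi S (0, eY) = PresentedGroup.mk _ Spor.J4.y ∧ S.t = PresentedGroup.mk _ Spor.J4.t := by
  refine ⟨?_, ?_, rfl⟩
  · rw [psi, e_zero, one_mul]; exact J4XPerm10.m_eX
  · rw [psi, e_zero, one_mul]; exact J4XPerm10.m_eY

/-- A normalised automorphism fixes the generators. -/
theorem fix_gens {φ : MulAut Spor.J4} (hN : Norm φ) {a : ℕ} (ha : a ∈ cases)
    (hx : φ (psi S (0, eX)) = psi S (a, eX)) (hy : φ (psi S (0, eY)) = psi S (0, eY)) :
    φ (psi S (0, eX)) = psi S (0, eX) ∧ φ S.t = S.t := by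
  have h0 : (0 : ℕ) ∈ cases := by decide
  obtain ⟨-, -, hxo, -, hW, -, -⟩ := case_spec ha
  obtain ⟨-, -, hxo0, -, hW0, -, -⟩ := case_spec h0
  have hw : φ (psi S (0, wC)) = psi S (bOf a, wC) := by
    have e0 := (evalW_spec hxo0 wl).2
    have ea := (evalW_spec hxo wl).2
    rw [show evalW 0 wl = (0, wC) from Prod.ext wl_ok hW0] at e0
    rw [show evalW a wl = (bOf a, wC) from Prod.ext rfl hW] at ea
    rw [e0, ea, map_list_prod, List.map_map]
    refine congrArg List.prod (List.map_congr_left fun l _ => ?_)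
    simp only [Function.comp_apply]
    rcases Classical.em (l = 0) with hl | hl
    · simp only [if_pos hl, hx]
    · simp only [if_neg hl, hy]
  obtain ⟨hp, -⟩ := perm_ok
  simp only [Bool.and_eq_true, goodF_eq, fixF_eq] at hp
  obtain ⟨⟨⟨⟨⟨⟨⟨⟨⟨⟨⟨gX, -⟩, gW⟩, -⟩, fX⟩, fW⟩, -⟩, -⟩, -⟩, -⟩, -⟩, -⟩ := hp
  have tcomm : ∀ {P}, good P = true → fixT0 P = true → Commute S.t (psi S (0, P)) := fun hP hT => by
    rw [psi, e_zero, one_mul]; exact S.kcomm hP hT
  have c1 : Commute (φ S.t) (psi S (a, eX)) := hx ▸ (tcomm gX fX).map φ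
  have c2 : Commute (φ S.t) (psi S (bOf a, wC)) := hw ▸ (tcomm gW fW).map φ
  have hnb : φ S.t ∉ base S := fun hm => by
    rw [← hN.1] at hm
    obtain ⟨x, hx', e⟩ := hm
    exact t_not_mem (φ.injective e ▸ hx')
  have hh := (centraliser ha c1 c2).resolve_left hnb
  have hφt : φ S.t = S.t * (S.t * φ S.t) := by rw [← mul_assoc, S.tsq, one_mul]
  simp only [cases, List.mem_cons, List.mem_nil_iff, or_false] at ha
  rcases ha with rfl | rfl
  · refine ⟨hx, ?_⟩
    have e := trivial_of_commute hh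
      (Commute.mul_left (tcomm gX fX) c1) (Commute.mul_left (tcomm gW fW) (by rwa [wl_ok] at c2))
    rw [hφt, e, mul_one]
  · exfalso
    have ha' : (490 : ℕ) ∈ cases := by decide
    obtain ⟨-, -, -, he1, hc1, he2, hd1, hd2⟩ := xy_ok
    obtain ⟨hok, -⟩ := evalK_spec ha' [0, 1, 1, 0, 1, 1, 0, 1, 1, 0, 1, 1, 0, 1, 1, 0, 1, 1]
    have hk := commute_evalK ha' c1 c2 [0, 1, 1, 0, 1, 1, 0, 1, 1, 0, 1, 1, 0, 1, 1, 0, 1, 1]
    obtain ⟨hc0, hc2, hc3⟩ := comb_sound S J4XLaws10.laws deList 339 fun vP hvP =>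
      ⟨hvP, okHF_eq ▸ List.all_eq_true.1 dlist_ok.2.2.1 vP hvP⟩
    rw [show evalK 490 [0, 1, 1, 0, 1, 1, 0, 1, 1, 0, 1, 1, 0, 1, 1, 0, 1, 1] = (comb deList 339).2 from
      Prod.ext (he1.trans hd1.symm) (Nat.eq_of_beq_eq_true he2)] at hk
    set k := psi S (comb deList 339).2 with hkdef
    set h := S.t * φ S.t with hdef
    have e1 : h * k = psi S (comb deList 339).1 * h := by
      have ts : ∀ x, S.t * (S.t * x) = x := fun x => by rw [← mul_assoc, S.tsq, one_mul]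
      rw [hdef, mul_assoc, hk.eq, ← hc3]
      simp only [mul_assoc, ts]
    have hkb : k ∈ base S := psi_mem_base S hc2
    have hcb := psi_mem_base S hc0
    have e2 := congrArg pr (show (⟨h, hh⟩ : base S) * ⟨k, hkb⟩ = ⟨_, hcb⟩ * ⟨h, hh⟩ from Subtype.ext e1)
    rw [map_mul, map_mul] at e2
    have p0 : pr ⟨_, hcb⟩ = 1 := pr_eq_one.2 ⟨(comb deList 339).1.1, (Bool.and_eq_true_iff.1 hc0).1, by
      show psi S (comb deList 339).1 = _
      rw [psi, Nat.eq_of_beq_eq_true (List.all_eq_true.1 dlist_ok.1 339 (List.mem_range.2 (by norm_num))),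
        J4XCert18.m_idP, mul_one]⟩
    rw [p0, one_mul, mul_eq_left] at e2
    obtain ⟨i1, g2⟩ := Bool.and_eq_true_iff.1 hc2
    rw [pr_eq i1 (show ((⟨k, hkb⟩ : base S) : Spor.J4) = el (comb deList 339).2.1 (elM _ g2) from psi_el g2)] at e2
    rw [compF_eq, J4Out54Local.code_of_eq_one g2 e2, Nat.beq_refl] at hd2
    exact absurd hd2 (by simp)

/-- **The outer automorphism group is trivial.** -/
theorem card_out : Nat.card (Out Spor.J4) = 1 := by
  refine GolayOutGen.card_out_eq_one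
    (S := Set.range (PresentedGroup.of (rels := Spor.coxRelators Spor.J4.edges ∪ {r | r ∈ Spor.J4.extra})))
    (PresentedGroup.closure_range_of _) fun α => ?_
  obtain ⟨φ, hsim, hN, a, ha, hx, hy⟩ := exists_two α
  obtain ⟨hx', ht⟩ := fix_gens hN ha hx hy
  obtain ⟨qx, qy, qt⟩ := q_gens
  refine ⟨φ, hsim, ?_⟩
  rintro _ ⟨i, rfl⟩
  cases i
  · rw [qx] at hx'; exact hx'
  · rw [qy] at hy; exact hy
  · rw [qt] at ht; exact ht

end Cfsg.Agent.J4Out54Aut
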