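import Cfsg.Agent.Lib.J4XConcrete18

/-!
The subgroup of shape 2^11 : M24 of the presented fourth Janko group as pairs of a cocode class and an
element of the Mathieu group, with its projection and the seven suborbits.
-/

set_option autoImplicit false
set_option maxRecDepth 100000

namespace Cfsg.Agent.J4Out54Base

open Cfsg Cfsg.Agent.GolayBasic Cfsg.Agent.GolayPerm Cfsg.Agent.GolayEnumComp Cfsg.Agent.J4XBase18
open Cfsg.Agent.J4XLowerPair97 (mu elM pk vpart)

/-- The data of the presented group. -/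
noncomputable abbrev S : Setup Spor.J4 := J4XDe23.setup

instance finite_J4 : Finite Spor.J4 := J4XConcrete18.finite_J4

theorem hS : S.m = J4XPerm10.m := rfl

theorem hx : S.m J4XLowerPair97.eX = PresentedGroup.mk _ Spor.J4.x := J4XPerm10.m_eX

theorem hm : S.m J4XLowerPair97.eX ≠ 1 := J4XLower97.m_ne_one S hx

theorem hv {P v : ℕ} (h : good P = true) (h' : inE v = true) : inE (vact P v) = true :=
  J4XLaws10.laws.inE_vact h h'

theorem mgood : J4XCount4.MGood S := fun P => hS ▸ J4XLaws10.mgood P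

theorem hrange (P : ℕ) : S.m P ∈ (mu S).range := by
  obtain ⟨Q, hQ, e⟩ := mgood P
  exact ⟨elM Q hQ, by rw [J4XLowerPair97.mu_elM, e]⟩

theorem card_base : Nat.card (base S) = 2048 * 244823040 :=
  J4XLowerPair97.card_base S hm hv hrange

theorem psiInj : J4XCount4.PsiInj S := J4XLowerPair97.psiInj S hm hv

theorem index_facts : (base S).index = 173067389 ∧
    (∀ i < 7, (J4XCount4.orb S (J4XFacts18.rep S) i).ncard = J4XCount4.sizes.getD i 0) ∧
    (∀ q, ∃ i < 7, q ∈ J4XCount4.orb S (J4XFacts18.rep S) i) ∧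
    ∀ i < 7, ∀ j < 7, J4XCount4.orb S (J4XFacts18.rep S) i = J4XCount4.orb S (J4XFacts18.rep S) j → i = j := by
  obtain ⟨-, h1, -, h2, h3, h4⟩ := J4XCount4.main S J4XLaws10.laws mgood psiInj card_base
    (J4XLower97.hdiv S card_base) (J4XFacts18.rep S) rfl (J4XCover16.edge_all S J4XLaws10.laws)
    (J4XFacts18.facts_hold S J4XLaws10.laws) J4XStabData18.stabData J4XStabCheck4.stab_ok
  exact ⟨h1, h2, h3, h4⟩

theorem isSimple : IsSimpleGroup Spor.J4 := J4XConcrete18.facts.2.2.1

theorem card_J4 : Nat.card Spor.J4 = 86775571046077562880 := J4XConcrete18.facts.2.2.2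

theorem isCoatom : IsCoatom (base S) :=
  J4XSimple36.isCoatom_base S index_facts.1 (J4XFacts18.rep S) rfl index_facts.2.1 index_facts.2.2.1
    index_facts.2.2.2

theorem t_not_mem : S.t ∉ base S := fun h => isCoatom.1 (top_le_iff.1 (S.gen.ge.trans
  ((Subgroup.closure_le _).2 (Set.union_subset Subgroup.subset_closure
    (Set.singleton_subset_iff.2 h)))))

/-! ### pairs -/

/-- The action of an element of the Mathieu group on classes. -/
noncomputable def av (g : M24) (v : ℕ) : ℕ := vact (pk g.1) v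

theorem inE_av (g : M24) {v : ℕ} (h : inE v = true) : inE (av g v) = true :=
  hv (J4XLowerPair97.good_pk g.2) h

theorem av_xor (g : M24) (a b : ℕ) : av g (a ^^^ b) = av g a ^^^ av g b :=
  J4XPerm10.vact_xor (J4XLowerPair97.good_pk g.2) a b

theorem pk_elM {P : ℕ} (hP : good P = true) : pk (elM P hP).1 = pcomp idP P :=
  J4XLowerPair97.pk_permOf (valid_of_good hP)

theorem av_elM {P v : ℕ} (hP : good P = true) (h : inE v = true) : av (elM P hP) v = vact P v := by
  rw [av, pk_elM, J4XPerm10.vact_pcomp J4XPerm10.good_idP hP, J4XPerm10.vact_idP (hv hP h)]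

theorem av_one {v : ℕ} (h : inE v = true) : av 1 v = v := by
  have e : elM idP J4XPerm10.good_idP = 1 := Subtype.ext permOf_idP
  rw [← e, av_elM _ h, J4XPerm10.vact_idP h]

theorem av_mul (g h : M24) (v : ℕ) : av (g * h) v = av g (av h v) := by
  rw [av, av, av, Subgroup.coe_mul, J4XLowerPair97.pk_mul,
    J4XPerm10.vact_pcomp (J4XLowerPair97.good_pk g.2) (J4XLowerPair97.good_pk h.2)]

theorem elM_mul {P Q : ℕ} (hP : good P = true) (hQ : good Q = true) :
    elM P hP * elM Q hQ = elM (pcomp P Q) (J4XPerm10.good_pcomp hP hQ) :=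
  Subtype.ext (J4XPerm10.permOf_pcomp' (valid_of_good hP) (valid_of_good hQ)).symm

theorem elM_congr {P Q : ℕ} (hP : good P = true) (hQ : good Q = true) (h : pcomp idP P = pcomp idP Q) :
    elM P hP = elM Q hQ := by
  apply Subtype.ext
  have h1 := congrArg permOf h
  rw [J4XPerm10.permOf_pcomp' (valid_of_good J4XPerm10.good_idP) (valid_of_good hP),
    J4XPerm10.permOf_pcomp' (valid_of_good J4XPerm10.good_idP) (valid_of_good hQ), permOf_idP,
    one_mul, one_mul] at h1
  exact h1

theorem pk_inj {g h : M24} (e : pk g.1 = pk h.1) : g = h :=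
  Subtype.ext (by rw [← J4XLowerPair97.permOf_pk g.1, e, J4XLowerPair97.permOf_pk])

/-- An element given by a class and an element of the Mathieu group. -/
noncomputable def el (v : ℕ) (g : M24) : Spor.J4 := S.e v * mu S g

theorem mem_base {x : Spor.J4} : x ∈ base S ↔ ∃ v, inE v = true ∧ ∃ g, x = el v g := by
  rw [J4XLowerPair97.base_eq S hm hv hrange]
  exact Iff.rfl

theorem el_mem {v : ℕ} (h : inE v = true) (g : M24) : el v g ∈ base S := mem_base.2 ⟨v, h, g, rfl⟩

theorem el_inj {v w : ℕ} {g h : M24} (hv' : inE v = true) (hw : inE w = true) (e : el v g = el w h) :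
    v = w ∧ g = h := by
  obtain ⟨e1, e2⟩ := J4XLowerPair97.psi_injective S hm hv (h := (v, pk g.1)) (k := (w, pk h.1))
    (by simp [okH, hv', J4XLowerPair97.good_pk g.2]) (by simp [okH, hw, J4XLowerPair97.good_pk h.2]) e
  exact ⟨e1, Subtype.ext (by simpa [J4XLowerPair97.permOf_pk] using e2)⟩

theorem mu_e (g : M24) {v : ℕ} (h : inE v = true) : mu S g * S.e v = S.e (av g v) * mu S g :=
  S.act (J4XLowerPair97.good_pk g.2) h

theorem e_zero : S.e 0 = 1 := J4XLowerPair97.e_zero S

theorem e_mul {a b : ℕ} (ha : inE a = true) (hb : inE b = true) : S.e a * S.e b = S.e (a ^^^ b) :=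
  (S.e_mul ha hb).symm

theorem e_inv {a : ℕ} (ha : inE a = true) : (S.e a)⁻¹ = S.e a := J4XLowerPair97.e_inv S ha

theorem el_one (v : ℕ) : el v 1 = S.e v := by rw [el, map_one, mul_one]

theorem el_zero (g : M24) : el 0 g = mu S g := by rw [el, e_zero, one_mul]

theorem el_mul {a b : ℕ} (ha : inE a = true) (hb : inE b = true) (g h : M24) :
    el a g * el b h = el (a ^^^ av g b) (g * h) := by
  simp only [el]
  rw [← e_mul ha (inE_av g hb), map_mul]
  calc S.e a * mu S g * (S.e b * mu S h) = S.e a * (mu S g * S.e b) * mu S h := by group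
    _ = _ := by rw [mu_e g hb]; group

theorem psi_el {v P : ℕ} (hP : good P = true) : psi S (v, P) = el v (elM P hP) := by
  rw [psi, el, J4XLowerPair97.mu_elM]

theorem psi_mul {h k : ℕ × ℕ} (hh : okH h = true) (hk : okH k = true) :
    psi S h * psi S k = psi S (hmul h k) :=
  (J4XCert18.psi_hmul S J4XLaws10.laws hh hk).symm

/-! ### the projection -/

theorem exists_el (x : base S) : ∃ g : M24, ∃ v, inE v = true ∧ (x : Spor.J4) = el v g := by
  obtain ⟨v, h, g, e⟩ := mem_base.1 x.2
  exact ⟨g, v, h, e⟩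

/-- The projection onto the Mathieu group. -/
noncomputable def pr : base S →* M24 :=
  MonoidHom.mk' (fun x => (exists_el x).choose) fun x y => by
    obtain ⟨v, h, e⟩ := (exists_el x).choose_spec
    obtain ⟨w, h', e'⟩ := (exists_el y).choose_spec
    obtain ⟨u, h'', e''⟩ := (exists_el (x * y)).choose_spec
    exact (el_inj (J4XPerm10.inE_xor h (inE_av _ h')) h''
      ((el_mul h h' _ _).symm.trans ((congrArg₂ (· * ·) e e').symm.trans e''))).2.symm

theorem pr_spec (x : base S) : ∃ v, inE v = true ∧ (x : Spor.J4) = el v (pr x) :=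
  (exists_el x).choose_spec

theorem pr_eq {x : base S} {v : ℕ} {g : M24} (h : inE v = true) (e : (x : Spor.J4) = el v g) :
    pr x = g := by
  obtain ⟨w, h', e'⟩ := pr_spec x
  exact (el_inj h' h (e'.symm.trans e)).2

theorem pr_surjective : Function.Surjective pr := fun g =>
  ⟨⟨el 0 g, el_mem J4XPerm10.inE_zero g⟩, pr_eq J4XPerm10.inE_zero rfl⟩

/-- The elementary abelian subgroup. -/
noncomputable def EE : Subgroup Spor.J4 := vpart S

theorem mem_EE {x : Spor.J4} : x ∈ EE ↔ ∃ v, inE v = true ∧ x = S.e v := Iff.rfl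

theorem EE_le : EE ≤ base S := by
  rintro x ⟨v, h, rfl⟩
  exact el_one v ▸ el_mem h 1

theorem pr_eq_one {x : base S} : pr x = 1 ↔ (x : Spor.J4) ∈ EE := by
  obtain ⟨v, h, e⟩ := pr_spec x
  constructor
  · intro hp
    exact ⟨v, h, by rw [e, hp, el_one]⟩
  · rintro ⟨w, hw, e'⟩
    exact pr_eq hw (e'.trans (el_one w).symm)

theorem card_EE : Nat.card EE = 2048 := by
  let f : {v : ℕ // v ∈ ((List.range 4096).filter inE).toFinset} → EE := fun p =>
    ⟨S.e p.1, p.1, (List.mem_filter.mp (List.mem_toFinset.mp p.2)).2, rfl⟩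
  have hf : Function.Bijective f := by
    refine ⟨fun p q e => Subtype.ext ?_, ?_⟩
    · exact J4XLowerPair97.e_injective S hm (List.mem_filter.mp (List.mem_toFinset.mp p.2)).2
        (List.mem_filter.mp (List.mem_toFinset.mp q.2)).2 (congrArg Subtype.val e)
    · rintro ⟨_, v, hv', rfl⟩
      refine ⟨⟨v, List.mem_toFinset.mpr (List.mem_filter.mpr ⟨List.mem_range.mpr ?_, hv'⟩)⟩, rfl⟩
      exact (J4XPerm10.inE_iff.1 hv').1
  rw [← Nat.card_eq_of_bijective f hf, Nat.card_eq_finsetCard,
    List.toFinset_card_of_nodup (List.nodup_range.filter _), J4XLowerPair97.card_inE]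

theorem EE_normalised {b : Spor.J4} (hb : b ∈ base S) {x : Spor.J4} (hx : x ∈ EE) :
    b * x * b⁻¹ ∈ EE := by
  have h : pr ⟨_, mul_mem (mul_mem hb (EE_le hx)) (inv_mem hb)⟩ = 1 := by
    have h1 : pr ⟨x, EE_le hx⟩ = 1 := pr_eq_one.2 hx
    have e : (⟨_, mul_mem (mul_mem hb (EE_le hx)) (inv_mem hb)⟩ : base S) =
        ⟨b, hb⟩ * ⟨x, EE_le hx⟩ * (⟨b, hb⟩)⁻¹ := Subtype.ext rfl
    rw [e, map_mul, map_mul, h1, mul_one, ← map_mul, mul_inv_cancel, map_one]
  exact pr_eq_one.1 h

theorem normalizer_EE : Subgroup.normalizer (EE : Set Spor.J4) = base S := by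
  have hle : base S ≤ Subgroup.normalizer (EE : Set Spor.J4) := by
    intro b hb
    rw [Subgroup.mem_normalizer_iff]
    refine fun x => ⟨EE_normalised hb, fun h => ?_⟩
    have := EE_normalised (inv_mem hb) h
    simpa [mul_assoc] using this
  refine (isCoatom.le_iff.1 hle).resolve_left fun htop => ?_
  have hnorm : EE.Normal := Subgroup.normalizer_eq_top_iff.1 htop
  rcases (isSimple).eq_bot_or_eq_top_of_normal EE hnorm with h | h
  · have := card_EE
    rw [h, Subgroup.card_bot] at this
    norm_num at this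
  · exact isCoatom.1 (top_le_iff.1 (h ▸ EE_le))

attribute [irreducible] el pr

end Cfsg.Agent.J4Out54Base
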