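import Cfsg.Agent.Lib.J4Out54Chk
import Cfsg.Agent.Lib.J4M24Iso13

/-!
The finite checks for the centraliser of the trio stabiliser and for the normal form of an automorphism.
-/

set_option autoImplicit false
set_option maxRecDepth 100000

namespace Cfsg.Agent.J4Out54Chk

open Cfsg.Agent.GolayBasic Cfsg.Agent.GolayPerm Cfsg.Agent.GolayEnumComp Cfsg.Agent.GolayFast
open Cfsg.Agent.J4XBase18 Cfsg.Agent.J4XCert18 Cfsg.Agent.J4Out54Data
open Cfsg.Agent.J4M24Iso13 (eX eY)

/-! ### the classes conjugated into the subgroup by the third generator -/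

/-- The classes. -/
def dlist : List ℕ := (List.range 512).map fun c => (comb deList c).1.1

/-- The classes as bits. -/
def dmask : ℕ := dlist.foldl (fun s v => s ||| 2 ^ v) 0

theorem dlist_ok : ((List.range 512).all fun c => Nat.beq (comb deList c).1.2 idP) = true ∧
    dlist.Nodup ∧ (deList.all fun vP => okHF vP) = true ∧
    ((List.range 4096).all fun v => !(dmask.testBit v) || dlist.any fun d => Nat.beq d v) = true ∧
    (dlist.all fun d => dmask.testBit d) = true := by decide +kernel

/-! ### words in the two generators -/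

/-- The value of a word with the first generator twisted by a class. -/
def evalW (a : ℕ) : List ℕ → ℕ × ℕ
  | [] => J4XCert18.one
  | l :: w => hmulF (if l = 0 then (a, eX) else (0, eY)) (evalW a w)

/-- The second generator of the trio stabiliser, as a word. -/
def wl : List ℕ := [2, 0, 2, 0, 2, 2, 0, 2, 2, 0, 2, 0, 2, 0, 2]

/-- Twisted class of the second generator. -/
def bOf (a : ℕ) : ℕ := (evalW a wl).1

/-- The value of a word in the two generators of the trio stabiliser. -/
def evalK (a : ℕ) : List ℕ → ℕ × ℕ
  | [] => J4XCert18.one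
  | l :: w => hmulF (if l = 0 then (a, eX) else (bOf a, wC)) (evalK a w)

/-- The permutation image of a point under a word. -/
def wim : List ℕ → ℕ → ℕ
  | [], i => i
  | l :: w, i => imgF (if l = 0 then eX else wC) (wim w i)

/-- The two twists. -/
def cases : List ℕ := [0, 490]

theorem case_ok : (cases.all fun a => inE a && inE (bOf a) && okHF (a, eX) && okHF (bOf a, wC) &&
    Nat.beq (evalW a wl).2 wC && Nat.beq (evalK a [0, 1, 0, 1, 0, 1]).2 seven &&
    (List.range 4096).all fun v => !(inE v && (dmask.testBit (a ^^^ v ^^^ vactF eX v) &&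
      dmask.testBit (bOf a ^^^ v ^^^ vactF wC v))) || dmask.testBit v) = true := by decide +kernel

theorem perm_ok : (goodF eX && goodF eY && goodF wC && goodF seven && fixF eX && fixF wC &&
    Nat.beq (compF idP eX) eX && Nat.beq (compF idP wC) wC &&
    !(Nat.beq seven idP) && Nat.beq (compF idP seven) seven &&
    Nat.beq ((List.range 6).foldl (fun c _ => compF seven c) seven) idP &&
    Nat.beq (bOf 0) 0) = true ∧
    ((List.range 4096).all fun x =>
      let o := comboF basisRows x
      !(Nat.beq (wt o) 8) || trio0.any (fun o' => Nat.beq o' o) ||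
        !(Nat.beq (pmaskF seven o pts) o || Nat.beq (Nat.land (pmaskF seven o pts) o) 0)) = true ∧
    ((List.range 24).all fun i => reach.any fun w => Nat.beq (wim w 0) i) = true ∧
    ((List.range 24).all fun j => Nat.beq j 0 || sep.any fun w => Nat.beq (wim w 0) 0 && !(Nat.beq (wim w j) j)) = true ∧
    ((List.range 4096).all fun v => !(inE v && (Nat.beq (vactF eX v) v && Nat.beq (vactF wC v) v)) ||
      Nat.beq v 0) = true ∧
    trio0.length = 3 ∧ (trio0.all fun o => inCodeF o && Nat.beq (wt o) 8) = true ∧
    (trio0.all fun a => trio0.all fun b => Nat.beq a b || Nat.beq (Nat.land a b) 0) = true := by decide +kernel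

/-- The prefix parities of a class. -/
def comb3 (v : ℕ) : ℕ → ℕ
  | 0 => 0
  | n + 1 => bif ((List.range (n + 1)).foldl (fun b k => b ^^ v.testBit k) false)
      then comb3 v n ^^^ J4Out54Chk.bv n else comb3 v n

theorem basis_ok : goodF stabD = true ∧ Nat.beq (vactF stabD 3) 3 = true ∧
    ((List.range 4096).all fun v => !(inE v && Nat.beq (vactF stabD v) v) || Nat.beq v 0 || Nat.beq v 3) = true ∧
    ((List.range 11).all fun k => goodF (trs.getD k 0) &&
      Nat.beq (vactF (trs.getD k 0) 3) (J4Out54Chk.bv k)) = true ∧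
    ((List.range 4096).all fun v => !(inE v) || Nat.beq (comb3 v 11) v) = true ∧
    inE 3 = true ∧ ((List.range 11).all fun k => inE (J4Out54Chk.bv k)) = true := by decide +kernel

theorem xy_ok : (goodF eX && goodF eY && Nat.beq (compF eX eX) idP &&
    Nat.beq (compF eY (compF eY eY)) idP && okHF (0, eX) && okHF (0, eY)) = true ∧
    (fixY.all fun w => inE w && Nat.beq (vactF eY w) w) = true ∧
    ((List.range 4096).all fun a => !(inE a && Nat.beq (vactF eX a) a) ||
      fixY.any fun w => cases.any fun c => Nat.beq (a ^^^ w ^^^ vactF eX w) c) = true ∧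
    (evalK 490 [0, 1, 1, 0, 1, 1, 0, 1, 1, 0, 1, 1, 0, 1, 1, 0, 1, 1]).1 = 71 ∧
    (comb deList 339).1.1 = 71 ∧
    Nat.beq (evalK 490 [0, 1, 1, 0, 1, 1, 0, 1, 1, 0, 1, 1, 0, 1, 1, 0, 1, 1]).2 (comb deList 339).2.2 = true ∧
    (comb deList 339).2.1 = 71 ∧ Nat.beq (compF idP (comb deList 339).2.2) idP = false := by decide +kernel

theorem wl_ok : bOf 0 = 0 := by decide +kernel

end Cfsg.Agent.J4Out54Chk
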