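import Cfsg.Agent.Lib.J4Out54Local
import Cfsg.Agent.Lib.J4Out54Chk2

/-!
The centraliser of a complement trio stabiliser in the presented fourth Janko group, read off from the
seven suborbits of the subgroup of shape 2^11 : M24.
-/

set_option autoImplicit false
set_option maxRecDepth 100000

namespace Cfsg.Agent.J4Out54Cent

open Cfsg Cfsg.Agent.GolayBasic Cfsg.Agent.GolayPerm Cfsg.Agent.GolayEnumComp Cfsg.Agent.GolayFast
open Cfsg.Agent.J4XBase18 Cfsg.Agent.J4XCert18 Cfsg.Agent.J4Out54Base Cfsg.Agent.J4Out54Data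
open Cfsg.Agent.J4XLowerPair97 (mu elM pk)

attribute [local irreducible] Cfsg.Agent.J4XLowerPair97.pk
open Cfsg.Agent.J4M24Iso13 (eX eY)
open Cfsg.Agent.J4Out54Chk
open scoped Pointwise

theorem dlist_spec {d : ℕ} (hd : d ∈ dlist) :
    inE d = true ∧ S.t * S.e d * S.t ∈ base S := by
  obtain ⟨c, hc, rfl⟩ := List.mem_map.1 hd
  obtain ⟨h1, h2, h3⟩ := comb_sound S J4XLaws10.laws deList c fun vP hvP =>
    ⟨hvP, okHF_eq ▸ List.all_eq_true.1 dlist_ok.2.2.1 vP hvP⟩
  have hP : (comb deList c).1.2 = idP := Nat.eq_of_beq_eq_true (List.all_eq_true.1 dlist_ok.1 c hc)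
  refine ⟨(Bool.and_eq_true_iff.1 h1).1, ?_⟩
  have e : psi S (comb deList c).1 = S.e (comb deList c).1.1 := by
    rw [psi, hP, J4XCert18.m_idP, mul_one]
  rw [← e, h3]
  exact psi_mem_base S h2

theorem mem_dlist {v : ℕ} (hv : v < 4096) (h : dmask.testBit v = true) : v ∈ dlist := by
  have := List.all_eq_true.1 dlist_ok.2.2.2.1 v (List.mem_range.2 hv)
  rw [h, Bool.not_true, Bool.false_or] at this
  obtain ⟨d, hd, e⟩ := List.any_eq_true.1 this
  exact Nat.eq_of_beq_eq_true e ▸ hd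

/-! ### the stabiliser of the second point -/

theorem fixT0_of_smul {g : M24} (h : g ∈ J4XPerm10.Kg) : fixT0 (pk g.1) = true := by
  rw [J4XPerm10.stab_eq, MulAction.mem_stabilizer_iff, Subgroup.smul_def] at h
  simp only [fixT0, List.all_eq_true, List.contains_iff_mem]
  intro o ho
  have hmem : g.1 • mset o ∈ g.1 • J4XPerm10.T0 :=
    Finset.smul_mem_smul_finset (GolayOrbit.mem_fam.2 ⟨o, ho, rfl⟩)
  rw [h] at hmem
  obtain ⟨o', ho', e⟩ := GolayOrbit.mem_fam.1 hmem
  rw [← J4XLowerPair97.permOf_pk g.1, smul_mset (J4XLowerPair97.valid_pk g.1)] at e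
  have hlt : ∀ o ∈ trio0, o < 2 ^ 24 := by decide
  rwa [mset_inj (hlt o' ho') (J4XPerm10.pmask_lt (J4XLowerPair97.valid_pk g.1) o) e] at ho'

theorem t_mu {g : M24} (h : fixT0 (pk g.1) = true) : S.t * mu S g = mu S g * S.t :=
  S.kcomm (J4XLowerPair97.good_pk g.2) h

theorem rep_one : ∃ b ∈ base S, (J4XFacts18.rep S 1)⁻¹ = S.t * b := by
  refine ⟨_, inv_mem (psi_mem_base S (h := (0, 0xbdab49ca307b9ac5a928398a418820)) (by decide +kernel)), ?_⟩
  show (1 * psi S (0, 0xbdab49ca307b9ac5a928398a418820) * S.t)⁻¹ = _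
  rw [one_mul, mul_inv_rev, inv_eq_of_mul_eq_one_right S.tsq]

theorem stab_card_mul {i : ℕ} (hi : i < 7) {q : Spor.J4 ⧸ base S}
    (hq : q ∈ J4XCount4.orb S (J4XFacts18.rep S) i) :
    J4XCount4.sizes.getD i 0 * Nat.card (MulAction.stabilizer (base S) q) = 2048 * 244823040 := by
  rw [← index_facts.2.1 i hi, ← card_base, ← Nat.card_coe_set_eq, J4XCount4.orb,
    ← MulAction.orbit_eq_iff.2 hq, Nat.card_congr (MulAction.orbitEquivQuotientStabilizer (base S) q),
    ← Subgroup.index_eq_card, mul_comm, Subgroup.card_mul_index]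

theorem mem_stab_iff {x : base S} {g : Spor.J4} :
    x ∈ MulAction.stabilizer (base S) (QuotientGroup.mk g : Spor.J4 ⧸ base S) ↔
      g⁻¹ * x * g ∈ base S := by
  rw [MulAction.mem_stabilizer_iff]
  show (QuotientGroup.mk ((x : Spor.J4) * g) : Spor.J4 ⧸ base S) = _ ↔ _
  rw [QuotientGroup.eq]
  constructor <;> intro h
  · have := inv_mem h
    simpa [mul_assoc] using this
  · have := inv_mem h
    simpa [mul_assoc] using this

/-- The stabiliser of the second point. -/
theorem stab_t {x : base S} (hx : x ∈ MulAction.stabilizer (base S) (QuotientGroup.mk S.t : Spor.J4 ⧸ base S)) :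
    ∃ d ∈ dlist, ∃ h : M24, fixT0 (pk h.1) = true ∧ (x : Spor.J4) = el d h := by
  classical
  set St := MulAction.stabilizer (base S) (QuotientGroup.mk S.t : Spor.J4 ⧸ base S) with hSt
  let f : dlist.toFinset × J4XPerm10.Kg → St := fun p =>
    ⟨⟨el p.1.1 p.2.1, el_mem (dlist_spec (List.mem_toFinset.1 p.1.2)).1 _⟩, by
      rw [hSt, mem_stab_iff, inv_eq_of_mul_eq_one_right S.tsq]
      show S.t * el p.1.1 p.2.1 * S.t ∈ base S
      rw [el]
      rw [mul_assoc S.t, mul_assoc (S.e p.1.1), ← t_mu (fixT0_of_smul p.2.2), ← mul_assoc, ← mul_assoc]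
      exact mul_mem (dlist_spec (List.mem_toFinset.1 p.1.2)).2
        (el_zero p.2.1 ▸ el_mem J4XPerm10.inE_zero _)⟩
  have finj : Function.Injective f := by
    intro p p' h
    have h1 := el_inj (dlist_spec (List.mem_toFinset.1 p.1.2)).1 (dlist_spec (List.mem_toFinset.1 p'.1.2)).1
      (congrArg (fun z : St => ((z.1 : base S) : Spor.J4)) h)
    exact Prod.ext (Subtype.ext h1.1) (Subtype.ext h1.2)
  have hq : (QuotientGroup.mk S.t : Spor.J4 ⧸ base S) ∈ J4XCount4.orb S (J4XFacts18.rep S) 1 := by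
    obtain ⟨b, hb, e⟩ := rep_one
    rw [J4XCount4.orb, e, QuotientGroup.mk_mul_of_mem _ hb]
    exact MulAction.mem_orbit_self _
  have hc := stab_card_mul (by norm_num : (1 : ℕ) < 7) hq
  have hK : 64512 ≤ Nat.card J4XPerm10.Kg := by
    have := J4XPerm10.card_Kp_ge
    rwa [show J4XPerm10.Kp = J4XPerm10.Kg.map M24.subtype from rfl,
      Subgroup.card_map_of_injective M24.subtype_injective] at this
  have hsize : J4XCount4.sizes.getD 1 0 = 15180 := rfl
  rw [hsize] at hc
  have hsurj : Function.Surjective f := by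
    refine ((Nat.bijective_iff_injective_and_card f).2 ⟨finj, le_antisymm
      (Nat.card_le_card_of_injective f finj) ?_⟩).2
    rw [Nat.card_prod, Nat.card_eq_finsetCard, List.toFinset_card_of_nodup dlist_ok.2.1,
      show dlist.length = 512 by simp [dlist], ← hSt] at *
    omega
  obtain ⟨p, hp⟩ := hsurj ⟨x, hx⟩
  exact ⟨p.1.1, List.mem_toFinset.1 p.1.2, p.2.1, fixT0_of_smul p.2.2,
    (congrArg (fun z : St => ((z.1 : base S) : Spor.J4)) hp).symm⟩

theorem case_spec {a : ℕ} (ha : a ∈ cases) :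
    inE a = true ∧ inE (bOf a) = true ∧ okH (a, eX) = true ∧ okH (bOf a, wC) = true ∧
    (evalW a wl).2 = wC ∧ (evalK a [0, 1, 0, 1, 0, 1]).2 = seven ∧
    ∀ v, inE v = true → dmask.testBit (a ^^^ v ^^^ vact eX v) = true →
      dmask.testBit (bOf a ^^^ v ^^^ vact wC v) = true → dmask.testBit v = true := by
  have h := List.all_eq_true.1 case_ok a ha
  simp only [Bool.and_eq_true, okHF_eq, Nat.beq_eq, List.all_eq_true, List.mem_range, vactF_eq] at h
  obtain ⟨⟨⟨⟨⟨⟨h1, h2⟩, h3⟩, h4⟩, h5⟩, h6⟩, h7⟩ := h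
  refine ⟨h1, h2, h3, h4, h5, h6, fun v hv e1 e2 => ?_⟩
  have := h7 v (J4XPerm10.inE_iff.1 hv).1
  simpa [hv, e1, e2] using this

theorem evalK_spec {a : ℕ} (ha : a ∈ cases) : ∀ w : List ℕ, okH (evalK a w) = true ∧
    psi S (evalK a w) = (w.map fun l => if l = 0 then psi S (a, eX) else psi S (bOf a, wC)).prod
  | [] => ⟨okH_one, psi_one S⟩
  | l :: w => by
    obtain ⟨h1, h2⟩ := evalK_spec ha w
    obtain ⟨-, -, hx, hw, -⟩ := case_spec ha
    rw [evalK, hmulF_eq, List.map_cons, List.prod_cons, ← h2]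
    split
    · exact ⟨okH_hmul J4XLaws10.laws hx h1, psi_hmul S J4XLaws10.laws hx h1⟩
    · exact ⟨okH_hmul J4XLaws10.laws hw h1, psi_hmul S J4XLaws10.laws hw h1⟩

theorem evalW_spec {a : ℕ} (ha : okH (a, eX) = true) : ∀ w : List ℕ, okH (evalW a w) = true ∧
    psi S (evalW a w) = (w.map fun l => if l = 0 then psi S (a, eX) else psi S (0, eY)).prod
  | [] => ⟨okH_one, psi_one S⟩
  | l :: w => by
    obtain ⟨h1, h2⟩ := evalW_spec ha w
    have hy : okH (0, eY) = true := by decide +kernel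
    rw [evalW, hmulF_eq, List.map_cons, List.prod_cons, ← h2]
    split
    · exact ⟨okH_hmul J4XLaws10.laws ha h1, psi_hmul S J4XLaws10.laws ha h1⟩
    · exact ⟨okH_hmul J4XLaws10.laws hy h1, psi_hmul S J4XLaws10.laws hy h1⟩

theorem commute_evalK {a : ℕ} (ha : a ∈ cases) {g : Spor.J4} (h1 : Commute g (psi S (a, eX)))
    (h2 : Commute g (psi S (bOf a, wC))) (w : List ℕ) : Commute g (psi S (evalK a w)) := by
  rw [(evalK_spec ha w).2]
  refine Commute.list_prod_right _ _ fun x hx => ?_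
  obtain ⟨l, -, rfl⟩ := List.mem_map.1 hx
  by_cases hl : l = 0
  · rwa [if_pos hl]
  · rwa [if_neg hl]

/-! ### the centraliser -/

theorem pmask_disjoint {P a b : ℕ} (hP : valid P = true) (h : a &&& b = 0) :
    pmask P a &&& pmask P b = 0 := by
  refine Nat.eq_of_testBit_eq fun j => ?_
  rw [Nat.testBit_and, Nat.zero_testBit, Bool.and_eq_false_iff]
  by_contra hc
  push_neg at hc
  rw [Bool.ne_false_iff, Bool.ne_false_iff, testBit_pmask, testBit_pmask] at hc
  obtain ⟨⟨i, hi, hia, rfl⟩, k, hk, hkb, e⟩ := hc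
  have e' : i = k := by
    have h1 := congrArg (permOf P).symm (show permOf P (pt k) = permOf P (pt i) by
      rw [permOf_apply hP, permOf_apply hP, pfun, pfun, idx_pt hi, idx_pt hk, e])
    rw [Equiv.symm_apply_apply, Equiv.symm_apply_apply] at h1
    exact (by simpa [idx_pt hi, idx_pt hk] using (congrArg idx h1).symm)
  subst e'
  have := congrArg (fun m => m.testBit i) h
  simp [hia, hkb] at this

theorem centraliser {a : ℕ} (ha : a ∈ cases) {g : Spor.J4} (h1 : Commute g (psi S (a, eX)))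
    (h2 : Commute g (psi S (bOf a, wC))) : g ∈ base S ∨ S.t * g ∈ base S := by
  obtain ⟨hia, hib, hxo, hwo, -, h7, hcase⟩ := case_spec ha
  obtain ⟨hok7, -⟩ := evalK_spec ha [0, 1, 0, 1, 0, 1]
  obtain ⟨hp, hoct, -, -, -, -, htr, htr2⟩ := perm_ok
  simp only [Bool.and_eq_true, goodF_eq, compF_eq, Nat.beq_eq, Bool.not_eq_true'] at hp
  obtain ⟨⟨⟨⟨⟨⟨⟨⟨⟨⟨⟨gX, -⟩, gW⟩, g7⟩, -⟩, -⟩, cX⟩, cW⟩, n7⟩, c7⟩, p7⟩, -⟩ := hp
  set x7 : base S := ⟨psi S (evalK a [0, 1, 0, 1, 0, 1]), psi_mem_base S hok7⟩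
  set q : Spor.J4 ⧸ base S := QuotientGroup.mk g with hq
  have hfix : ∀ (x : base S), Commute g (x : Spor.J4) → x ∈ MulAction.stabilizer (base S) q := by
    intro x hx
    rw [hq, mem_stab_iff, mul_assoc, ← hx.eq, inv_mul_cancel_left]
    exact x.2
  have h7c : Commute g (x7 : Spor.J4) := commute_evalK ha h1 h2 _
  have pr7 : pr x7 = elM seven g7 := by
    refine pr_eq (J4XPerm10.inE_iff.2 (J4XPerm10.inE_iff.1 (Bool.and_eq_true_iff.1 hok7).1)) ?_
    show psi S (evalK a [0, 1, 0, 1, 0, 1]) = _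
    rw [← psi_el g7, ← h7]
  obtain ⟨i, hi, hqi⟩ := index_facts.2.2.1 q
  rcases Nat.lt_or_ge i 2 with hi2 | hi2
  swap
  · exfalso
    have hdvd : 7 ∣ Nat.card (MulAction.stabilizer (base S) q) := by
      have h := orderOf_dvd_natCard (⟨x7, hfix x7 h7c⟩ : MulAction.stabilizer (base S) q)
      rw [← Subgroup.orderOf_coe] at h
      refine Dvd.dvd.trans ?_ h
      refine Dvd.dvd.trans ?_ (orderOf_map_dvd pr x7)
      haveI : _root_.Fact (Nat.Prime 7) := ⟨by norm_num⟩
      rw [pr7, orderOf_eq_prime (p := 7) ?_ ?_]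
      · have e : ∀ n, ∃ hg : good ((List.range n).foldl (fun c _ => compF seven c) seven) = true,
            elM _ hg = elM seven g7 ^ (n + 1) := by
          intro n
          induction n with
          | zero => exact ⟨g7, by simp⟩
          | succ n ih =>
            obtain ⟨hg, e⟩ := ih
            have hfold : (List.range (n + 1)).foldl (fun c _ => compF seven c) seven =
                pcomp seven ((List.range n).foldl (fun c _ => compF seven c) seven) := by
              rw [List.range_succ, List.foldl_append, List.foldl_cons, List.foldl_nil, compF_eq]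
            refine ⟨hfold ▸ J4XPerm10.good_pcomp g7 hg, ?_⟩
            rw [pow_succ', ← e, elM_mul]
            exact elM_congr _ _ (congrArg _ hfold)
        obtain ⟨hg, e'⟩ := e 6
        rw [← e', elM_congr hg J4XPerm10.good_idP (congrArg _ p7)]
        exact J4Out54Local.elM_one
      · intro h
        have := J4Out54Local.code_of_eq_one g7 h
        rw [c7] at this
        rw [this, Nat.beq_refl] at n7
        exact absurd n7 (by simp)
    have hc := stab_card_mul hi hqi
    obtain ⟨k, hk⟩ := hdvd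
    rw [hk, ← mul_assoc] at hc
    have key : ∀ i < 7, 2 ≤ i → ¬ J4XCount4.sizes.getD i 0 * 7 ∣ 2048 * 244823040 := by decide +kernel
    exact key i hi hi2 ⟨k, hc.symm⟩
  interval_cases i
  · left
    obtain ⟨b, hb⟩ := hqi
    have e : (QuotientGroup.mk ((b : Spor.J4) * (1 : Spor.J4)⁻¹) : Spor.J4 ⧸ base S) = QuotientGroup.mk g := hb
    rw [inv_one, mul_one, QuotientGroup.eq] at e
    simpa using mul_mem b.2 e
  right
  obtain ⟨b, hb⟩ := hqi
  obtain ⟨r, hr, er⟩ := rep_one
  have hb' : (QuotientGroup.mk ((b : Spor.J4) * (J4XFacts18.rep S 1)⁻¹) : Spor.J4 ⧸ base S) =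
      QuotientGroup.mk g := hb
  rw [er, ← mul_assoc, QuotientGroup.mk_mul_of_mem _ hr] at hb'
  obtain ⟨v, hv0, p, ep⟩ := mem_base.1 b.2
  have hst : ∀ x : base S, Commute g (x : Spor.J4) → ∀ y : base S, (y : Spor.J4) = el v p →
      ∃ d ∈ dlist, ∃ h : M24, fixT0 (pk h.1) = true ∧ (x : Spor.J4) * y = y * el d h := by
    intro x hx y hy
    have hxs := hfix x hx
    rw [hq, ← hb', ep, ← hy, mem_stab_iff] at hxs
    obtain ⟨d, hd, h, hh, e⟩ := stab_t (x := y⁻¹ * x * y) (by
      rw [mem_stab_iff]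
      simpa [mul_assoc] using hxs)
    refine ⟨d, hd, h, hh, ?_⟩
    rw [← e]
    simp [mul_assoc]
  -- the trio is fixed by the permutation part
  have hp0 : fixT0 (pk p.1) = true := by
    obtain ⟨d, hd, h, hh, e⟩ := hst x7 h7c ⟨el v p, el_mem hv0 p⟩ rfl
    obtain ⟨c, hc, ec⟩ := pr_spec x7
    rw [pr7] at ec
    rw [show ((⟨el v p, el_mem hv0 p⟩ : base S) : Spor.J4) = el v p from rfl, ec, el_mul hc hv0,
      el_mul hv0 (dlist_spec hd).1] at e
    have e2 := congrArg (fun z : M24 => pk z.1) (el_inj (J4XPerm10.inE_xor hc (inE_av _ hv0))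
      (J4XPerm10.inE_xor hv0 (inE_av _ (dlist_spec hd).1)) e).2
    simp only [Subgroup.coe_mul, J4XLowerPair97.pk_mul, pk_elM, c7] at e2
    have vp := J4XLowerPair97.valid_pk p.1
    have gp := J4XLowerPair97.good_pk p.2
    simp only [fixT0, List.all_eq_true, List.contains_iff_mem] at hh ⊢
    intro o ho
    set o' := pmask (pk p.1) o with ho'
    have e3 : pmask seven o' = pmask (pk p.1) (pmask (pk h.1) o) := by
      rw [ho', ← J4XPerm10.pmask_pcomp (valid_of_good g7) vp, e2,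
        J4XPerm10.pmask_pcomp vp (J4XLowerPair97.valid_pk h.1)]
    have h3 : pmask seven o' = o' ∨ pmask seven o' &&& o' = 0 := by
      rw [e3, ho']
      have := List.all_eq_true.1 (List.all_eq_true.1 htr2 _ (hh o ho)) o ho
      rw [Bool.or_eq_true, Nat.beq_eq, Nat.beq_eq] at this
      rcases this with e4 | e4
      · exact Or.inl (by rw [e4])
      · exact Or.inr (pmask_disjoint vp e4)
    have ho8 := List.all_eq_true.1 htr o ho
    rw [Bool.and_eq_true, Nat.beq_eq] at ho8
    have hcode : inCode o' = true := J4XPerm10.inCode_pmask gp (by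
      have := ho8.1
      rwa [inCodeF, beq_prim, comboF_eq] at this)
    obtain ⟨x, hx, ex⟩ := exists_enc_of_inCode hcode
    have h4 := List.all_eq_true.1 hoct x (List.mem_range.2 hx)
    simp only [comboF_eq, pmaskF_eq, show combo basisRows x = o' from (ex : _)] at h4
    rw [show pmaskAux seven o' pts = pmask seven o' from rfl] at h4
    simp only [Bool.or_eq_true, Bool.not_eq_true', List.any_eq_true, Nat.beq_eq] at h4
    rcases h4 with (h4 | ⟨o'', ho'', rfl⟩) | h4
    · rw [ho', J4XPerm10.wt_pmask vp, ho8.2, Nat.beq_refl] at h4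
      exact absurd h4 (by simp)
    · exact ho''
    · rcases h3 with h3 | h3
      · rw [h3, Nat.beq_refl] at h4
        simp at h4
      · rw [show Nat.land (pmask seven o') o' = 0 from h3, Nat.beq_refl, Bool.or_true] at h4
        simp at h4
  -- replace the point
  have hqv : q = QuotientGroup.mk (S.e v * S.t) := by
    rw [hq, ← hb', ep, el, mul_assoc, ← t_mu hp0, ← mul_assoc,
      QuotientGroup.mk_mul_of_mem _ (el_zero p ▸ el_mem J4XPerm10.inE_zero p)]
  have hst' : ∀ {c P : ℕ} (hok : okH (c, P) = true), Commute g (psi S (c, P)) →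
      dmask.testBit (c ^^^ v ^^^ vact P v) = true := by
    intro c P hok hx
    obtain ⟨hc, hP⟩ := Bool.and_eq_true_iff.1 hok
    have hxs := hfix ⟨psi S (c, P), psi_mem_base S hok⟩ hx
    rw [hqv, mem_stab_iff] at hxs
    set y : base S := ⟨S.e v, EE_le ⟨v, hv0, rfl⟩⟩
    obtain ⟨d, hd, h, -, e⟩ := stab_t (x := y⁻¹ * ⟨psi S (c, P), psi_mem_base S hok⟩ * y) (by
      rw [mem_stab_iff]
      simpa [mul_assoc, y] using hxs)
    have e' : psi S (c, P) * S.e v = S.e v * el d h := by
      rw [← e]; simp [mul_assoc, y]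
    rw [psi_el hP, ← el_one v, el_mul hc hv0, el_mul hv0 (dlist_spec hd).1, av_elM hP hv0,
      av_one (dlist_spec hd).1] at e'
    have e1 := (el_inj (J4XPerm10.inE_xor hc (J4Out54Base.hv hP hv0)) (J4XPerm10.inE_xor hv0 (dlist_spec hd).1) e').1
    have e2 : c ^^^ v ^^^ vact P v = d := by
      calc c ^^^ v ^^^ vact P v = v ^^^ (c ^^^ vact P v) := by ac_rfl
        _ = v ^^^ v ^^^ d := by rw [e1, Nat.xor_assoc]
        _ = d := by rw [Nat.xor_self, Nat.zero_xor]
    rw [e2]
    exact List.all_eq_true.1 dlist_ok.2.2.2.2 d hd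
  have hvD : v ∈ dlist := mem_dlist (J4XPerm10.inE_iff.1 hv0).1 (hcase v hv0 (hst' hxo h1) (hst' hwo h2))
  have hmem := (dlist_spec hvD).2
  have e : (QuotientGroup.mk (S.e v * S.t) : Spor.J4 ⧸ base S) = QuotientGroup.mk S.t := by
    rw [show S.e v * S.t = S.t * (S.t * S.e v * S.t) by simp only [← mul_assoc, S.tsq, one_mul],
      QuotientGroup.mk_mul_of_mem _ hmem]
  have h3 := QuotientGroup.eq.1 ((hq.symm.trans hqv).trans e)
  have h4 := inv_mem h3
  rwa [mul_inv_rev, inv_inv, inv_eq_of_mul_eq_one_right S.tsq] at h4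

end Cfsg.Agent.J4Out54Cent
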