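import Cfsg.Agent.Lib.J4XCert18
import Cfsg.Agent.Lib.J4Out54Data

/-!
The finite checks on the Sylow 2-subgroup table of the Mathieu group.
-/

set_option autoImplicit false
set_option maxRecDepth 100000

namespace Cfsg.Agent.J4Out54Chk

open Cfsg.Agent.GolayBasic Cfsg.Agent.GolayPerm Cfsg.Agent.GolayEnumComp Cfsg.Agent.GolayFast
open Cfsg.Agent.J4XBase18 Cfsg.Agent.J4XCert18 Cfsg.Agent.J4Out54Data

/-! ### the table -/

/-- An entry of the table. -/
def look (i : ℕ) : ℕ × ℕ × ℕ × ℕ × ℕ := (table.getD (i / 32) []).getD (i % 32) (0, 0, 0, 0, 0)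

/-- The code of a position. -/
def cd (i : ℕ) : ℕ := (look i).1

/-- A successor. -/
def sc (i j : ℕ) : ℕ := ((look i).2.1 >>> (10 * j)) % 1024

/-- A generator code. -/
def gc (j : ℕ) : ℕ := (sylGens.getD j (0, 0)).1

/-- The check of a position. -/
def rowOK (i : ℕ) : Bool :=
  goodF (cd i) && Nat.beq (compF idP (cd i)) (cd i) &&
    ((List.range 4).all fun j => Nat.beq (cd (sc i j)) (compF (cd i) (gc j))) &&
    (Nat.beq (cd i) idP || (decide ((look i).2.2.2.1 < 1024) && decide ((look i).2.2.2.2 < 4) &&
      decide ((look (look i).2.2.2.1).2.2.1 < (look i).2.2.1) &&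
      Nat.beq (cd i) (compF (cd (look i).2.2.2.1) (gc (look i).2.2.2.2))))

theorem rows_ok : (List.range 1024).all rowOK = true := by decide +kernel

theorem incr_ok : (List.range 1023).all (fun i => decide (cd i < cd (i + 1))) = true := by decide +kernel

theorem gens_ok : (sylGens.all fun g => goodF g.1 && goodF g.2 && Nat.beq (compF g.1 g.2) idP) = true ∧
    Nat.beq (cd oneIx) idP = true ∧ oneIx < 1024 ∧ sylGens.length = 4 := by decide +kernel

/-! ### the checks -/

/-- The basis classes. -/
def bv (k : ℕ) : ℕ := 3 <<< k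

/-- Repeated commutators of an involution reach the central one. -/
def red : ℕ → ℕ → Bool
  | 0, c => Nat.beq c zc
  | n + 1, c => Nat.beq c zc || !(Nat.beq (compF c c) idP) ||
      sylGens.any fun g =>
        let c' := compF (compF (compF g.1 c) g.2) c
        !(Nat.beq c' idP) && red n c'

theorem red_ok : ((List.range 1024).all fun i => Nat.beq (cd i) idP || red 12 (cd i)) = true := by
  decide +kernel

theorem lset_ok : ((List.range 1024).all fun i => (lset.any fun c => Nat.beq c (cd i)) ||
    (List.range 11).any fun k => !(Nat.beq (vactF (cd i) (bv k ^^^ vactF zc (bv k))) (bv k ^^^ vactF zc (bv k)))) = true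
    ∧ ((List.range 11).all fun k => inE (bv k)) = true ∧ lset.length = 16 ∧
      (lset.all fun c => goodF c) = true ∧ goodF zc = true ∧ Nat.beq (compF idP zc) zc = true ∧
      ((List.range 4096).filter fun v => inE v && Nat.beq (vactF zc v) v).length = 128 ∧
      ((List.range 4096).filter fun v => inE v && (Nat.beq (vactF zc v) v &&
        lset.all fun c => Nat.beq (vactF c v) v)).length = 16 := by
  decide +kernel

end Cfsg.Agent.J4Out54Chk
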