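import Cfsg.Agent.Lib.J4Out54Base
import Cfsg.Agent.Lib.J4Out54Chk

/-!
A Sylow 2-subgroup of the presented fourth Janko group has only one normal elementary abelian subgroup of
order 2^11, so every automorphism fixes the elementary abelian subgroup of 2^11 : M24 up to conjugation.
-/

set_option autoImplicit false
set_option maxRecDepth 100000

namespace Cfsg.Agent.J4Out54Local

open Cfsg Cfsg.Agent.GolayBasic Cfsg.Agent.GolayPerm Cfsg.Agent.GolayEnumComp Cfsg.Agent.GolayFast
open Cfsg.Agent.J4XBase18 Cfsg.Agent.J4XCert18 Cfsg.Agent.J4Out54Base Cfsg.Agent.J4Out54Data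
open Cfsg.Agent.J4XLowerPair97 (mu elM pk)

attribute [local irreducible] Cfsg.Agent.J4XLowerPair97.pk
open Cfsg.Agent.J4Out54Chk

theorem goodF_iff {P : ℕ} : goodF P = true ↔ good P = true := by rw [goodF_eq]

theorem row {i : ℕ} (hi : i < 1024) :
    good (cd i) = true ∧ pcomp idP (cd i) = cd i ∧
    (∀ j < 4, cd (sc i j) = pcomp (cd i) (gc j)) ∧
    (cd i = idP ∨ ((look i).2.2.2.1 < 1024 ∧ (look i).2.2.2.2 < 4 ∧
      (look (look i).2.2.2.1).2.2.1 < (look i).2.2.1 ∧
      cd i = pcomp (cd (look i).2.2.2.1) (gc (look i).2.2.2.2))) := by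
  have h := List.all_eq_true.1 rows_ok i (List.mem_range.2 hi)
  simp only [rowOK, Bool.and_eq_true, Bool.or_eq_true, List.all_eq_true, List.mem_range, decide_eq_true_eq,
    Nat.beq_eq, compF_eq, goodF_eq] at h
  exact ⟨h.1.1.1, h.1.1.2, h.1.2, h.2.imp_right fun a => ⟨a.1.1.1, a.1.1.2, a.1.2, a.2⟩⟩

theorem gc_good {j : ℕ} (hj : j < 4) : good (gc j) = true := by
  have h := List.all_eq_true.1 gens_ok.1 (sylGens.getD j (0, 0)) (by
    rw [List.getD_eq_getElem _ _ (gens_ok.2.2.2.symm ▸ hj)]; exact List.getElem_mem _)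
  simp only [Bool.and_eq_true] at h
  exact goodF_iff.1 h.1.1

theorem cd_lt : ∀ {i k : ℕ}, i < k → k < 1024 → cd i < cd k := by
  intro i k hik
  induction k, hik using Nat.le_induction with
  | base =>
    intro hk
    exact of_decide_eq_true (List.all_eq_true.1 incr_ok i (List.mem_range.2 (by omega)))
  | succ k hik ih =>
    intro hk
    exact (ih (by omega)).trans
      (of_decide_eq_true (List.all_eq_true.1 incr_ok k (List.mem_range.2 (by omega))))

theorem cd_inj {i k : ℕ} (hi : i < 1024) (hk : k < 1024) (h : cd i = cd k) : i = k := by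
  rcases lt_trichotomy i k with h' | h' | h'
  · exact absurd h (cd_lt h' hk).ne
  · exact h'
  · exact absurd h (cd_lt h' hi).ne'

/-- The element at a position. -/
noncomputable def pt (i : Fin 1024) : M24 := elM (cd i) (row i.2).1

/-- A generator. -/
noncomputable def gn (j : Fin 4) : M24 := elM (gc j) (gc_good j.2)

theorem pk_pt (i : Fin 1024) : pk (pt i).1 = cd i := by
  rw [pt, pk_elM, (row i.2).2.1]

theorem pt_inj : Function.Injective pt := fun i k h =>
  Fin.ext (cd_inj i.2 k.2 (by rw [← pk_pt i, h, pk_pt]))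

theorem sc_lt (i j : ℕ) : sc i j < 1024 := Nat.mod_lt _ (by norm_num)

theorem pt_mul_gn (i : Fin 1024) (j : Fin 4) : pt i * gn j = pt ⟨sc i j, sc_lt _ _⟩ := by
  rw [pt, gn, pt, elM_mul]
  exact elM_congr _ _ (congrArg _ ((row i.2).2.2.1 j j.2).symm)

/-- The Sylow subgroup of the Mathieu group. -/
noncomputable def Pbar : Subgroup M24 := Subgroup.closure (Set.range gn)

theorem mem_Pbar {g : M24} : g ∈ Pbar ↔ ∃ i, pt i = g := by
  constructor
  · intro hg
    have key : ∀ h, (∃ i, pt i = h) → ∃ i, pt i = h * g := by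
      induction hg using Subgroup.closure_induction with
      | mem x hx =>
        obtain ⟨j, rfl⟩ := hx
        rintro h ⟨i, rfl⟩
        exact ⟨_, (pt_mul_gn i j).symm⟩
      | one => exact fun h hh => by rwa [mul_one]
      | mul a b _ _ ha hb => exact fun h hh => by rw [← mul_assoc]; exact hb _ (ha _ hh)
      | inv a _ ha =>
        have hsub : (fun h => h * a) '' Set.range pt ⊆ Set.range pt := by
          rintro _ ⟨h, hh, rfl⟩; exact ha h hh
        have heq := Set.eq_of_subset_of_ncard_le hsub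
          (by rw [Set.ncard_image_of_injective _ (mul_left_injective a)]) (Set.finite_range _)
        intro h hh
        obtain ⟨k, hk, rfl⟩ : h ∈ (fun h => h * a) '' Set.range pt := heq.symm ▸ hh
        rwa [mul_inv_cancel_right]
    have e : pt ⟨oneIx, gens_ok.2.2.1⟩ = 1 := by
      rw [pt, elM_congr _ J4XPerm10.good_idP (congrArg _ (Nat.eq_of_beq_eq_true gens_ok.2.1))]
      exact Subtype.ext permOf_idP
    simpa using key 1 ⟨_, e⟩
  · rintro ⟨i, rfl⟩
    induction hd : (look i).2.2.1 using Nat.strong_induction_on generalizing i with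
    | _ d ih =>
      rcases (row i.2).2.2.2 with h | ⟨h1, h2, h3, h4⟩
      · rw [pt, elM_congr _ J4XPerm10.good_idP (congrArg _ h),
          show elM idP J4XPerm10.good_idP = 1 from Subtype.ext permOf_idP]
        exact one_mem _
      · have e : pt i = pt ⟨_, h1⟩ * gn ⟨_, h2⟩ := by
          rw [pt, pt, gn, elM_mul]
          exact elM_congr _ _ (congrArg _ h4)
        rw [e]
        exact mul_mem (ih _ (hd ▸ h3) _ rfl) (Subgroup.subset_closure ⟨_, rfl⟩)

theorem card_Pbar : Nat.card Pbar = 1024 := by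
  have : (Pbar : Set M24) = Set.range pt := Set.ext fun g => mem_Pbar
  rw [← SetLike.coe_sort_coe, this, Nat.card_range_of_injective pt_inj, Nat.card_fin]

/-- The Sylow subgroup of the whole group. -/
noncomputable def P2 : Subgroup Spor.J4 := (Pbar.comap pr).map (base S).subtype

theorem P2_le : P2 ≤ base S := Subgroup.map_subtype_le _

theorem mem_P2 {x : Spor.J4} : x ∈ P2 ↔ ∃ h : x ∈ base S, pr ⟨x, h⟩ ∈ Pbar := by
  constructor
  · rintro ⟨y, hy, rfl⟩; exact ⟨y.2, hy⟩
  · rintro ⟨h, h'⟩; exact ⟨⟨x, h⟩, h', rfl⟩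

theorem EE_le_P2 : EE ≤ P2 := fun x hx => mem_P2.2 ⟨EE_le hx, by rw [pr_eq_one.2 hx]; exact one_mem _⟩

theorem card_P2 : Nat.card P2 = 2 ^ 21 := by
  rw [P2, Subgroup.card_map_of_injective (Subgroup.subtype_injective _)]
  have h1 := (Pbar.comap pr).card_mul_index
  have h2 := Pbar.card_mul_index
  rw [Subgroup.index_comap_of_surjective _ pr_surjective, card_base] at h1
  rw [card_Pbar, GolayM24.card_M24] at h2
  have h3 : Pbar.index = 239085 := by omega
  rw [h3] at h1
  exact Nat.eq_of_mul_eq_mul_right (by norm_num : 0 < 239085) (h1.trans (by norm_num))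

theorem factorization_two {n N k m : ℕ} (hn : n = N) (hN : N = 2 ^ k * m) (hm : ¬ 2 ∣ m) :
    n.factorization 2 = k := by
  have hm0 : m ≠ 0 := fun h => hm (h ▸ dvd_zero 2)
  rw [hn, hN, Nat.factorization_mul (pow_ne_zero _ two_ne_zero) hm0, Finsupp.add_apply,
    Nat.factorization_eq_zero_of_not_dvd hm, add_zero, Nat.Prime.factorization_pow Nat.prime_two,
    Finsupp.single_eq_same]

theorem exists_sylow : ∃ Q : Sylow 2 Spor.J4, (Q : Subgroup Spor.J4) = P2 := by
  haveI : Fact (Nat.Prime 2) := ⟨Nat.prime_two⟩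
  have e : (Nat.card Spor.J4).factorization 2 = 21 :=
    factorization_two card_J4 (k := 21) (m := 41377816699065) (by norm_num) (by norm_num)
  exact ⟨Sylow.ofCard P2 (card_P2.trans (congrArg (2 ^ ·) e.symm)), Sylow.coe_ofCard _ _⟩

theorem canon_pcomp {P Q : ℕ} (hP : good P = true) (hQ : good Q = true) :
    pcomp idP (pcomp P Q) = pcomp P Q := by
  conv_lhs => unfold pcomp
  conv_rhs => unfold pcomp
  refine congrArg horner (List.map_congr_left fun i hi => ?_)
  rw [show horner (pts.map fun i => pimg P (pimg Q i)) = pcomp P Q from rfl, pimg_pcomp _ _ (mem_pts.1 hi),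
    pimg_idP (pimg_lt (valid_of_good hP) (pimg_lt (valid_of_good hQ) (mem_pts.1 hi)))]

theorem elM_one : elM idP J4XPerm10.good_idP = 1 := Subtype.ext permOf_idP

theorem code_of_eq_one {P : ℕ} (hP : good P = true) (h : elM P hP = 1) : pcomp idP P = idP := by
  rw [← pk_elM hP, h, ← elM_one, pk_elM]
  decide +kernel

theorem red_spec {A : Set M24} (hA : ∀ a ∈ A, a * a = 1)
    (hmul : ∀ a ∈ A, ∀ b ∈ A, a * b ∈ A) (hconj : ∀ j, ∀ a ∈ A, gn j * a * (gn j)⁻¹ ∈ A) :
    ∀ (n c : ℕ) (hc : good c = true), pcomp idP c = c → red n c = true → elM c hc ∈ A →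
      elM zc (goodF_iff.1 lset_ok.2.2.2.2.1) ∈ A := by
  intro n
  induction n with
  | zero =>
    intro c hc _ h hm
    rw [red] at h
    rwa [elM_congr _ hc (congrArg _ (Nat.eq_of_beq_eq_true h).symm)]
  | succ n ih =>
    intro c hc _ h hm
    simp only [red, Bool.or_eq_true, Bool.not_eq_true', List.any_eq_true, Bool.and_eq_true, compF_eq] at h
    rcases h with (h | h) | ⟨g, hg, -, h⟩
    · rwa [elM_congr _ hc (congrArg _ (Nat.eq_of_beq_eq_true h).symm)]
    · exfalso
      have h2 := hA _ hm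
      rw [elM_mul] at h2
      have h3 := code_of_eq_one _ h2
      rw [canon_pcomp hc hc] at h3
      rw [h3, Nat.beq_refl] at h
      exact absurd h (by simp)
    · obtain ⟨j, hj, rfl⟩ : ∃ j, j < 4 ∧ sylGens.getD j (0, 0) = g := by
        obtain ⟨j, hj, e⟩ := List.mem_iff_getElem.1 hg
        exact ⟨j, gens_ok.2.2.2 ▸ hj, by rw [List.getD_eq_getElem _ _ hj]; exact e⟩
      have hgk := List.all_eq_true.1 gens_ok.1 _ hg
      simp only [Bool.and_eq_true, compF_eq, Nat.beq_eq, goodF_eq] at hgk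
      obtain ⟨⟨g1, g2⟩, g12⟩ := hgk
      have hinv : elM _ g2 = (gn ⟨j, hj⟩)⁻¹ := by
        refine eq_inv_of_mul_eq_one_right ?_
        show elM _ g1 * elM _ g2 = 1
        rw [elM_mul, elM_congr _ J4XPerm10.good_idP (congrArg _ g12)]
        exact Subtype.ext permOf_idP
      have hgood := J4XPerm10.good_pcomp (J4XPerm10.good_pcomp (J4XPerm10.good_pcomp g1 hc) g2) hc
      refine ih _ hgood (canon_pcomp (J4XPerm10.good_pcomp (J4XPerm10.good_pcomp g1 hc) g2) hc) h ?_
      · rw [← elM_mul (J4XPerm10.good_pcomp (J4XPerm10.good_pcomp g1 hc) g2) hc,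
          ← elM_mul (J4XPerm10.good_pcomp g1 hc) g2, ← elM_mul g1 hc, hinv]
        exact hmul _ (hconj ⟨j, hj⟩ _ hm) _ hm

/-! ### the subgroup is fixed -/

theorem av_comm {u c : ℕ} {a : M24} (hu : inE u = true) (hc : inE c = true)
    (h : el u a * S.e c = S.e c * el u a) : av a c = c := by
  rw [← el_one c, el_mul hu hc, el_mul hc hu, av_one hu, mul_one, one_mul] at h
  have h1 := (el_inj (J4XPerm10.inE_xor hu (inE_av a hc)) (J4XPerm10.inE_xor hc hu) h).1
  rw [Nat.xor_comm c u] at h1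
  exact Nat.xor_right_injective h1

theorem comm_class {w b : ℕ} {z : M24} (hw : inE w = true) (hb : inE b = true)
    (h2 : el w z * el w z = 1) :
    el w z * (S.e b * el w z * (S.e b)⁻¹) = S.e (b ^^^ av z b) := by
  rw [el_mul hw hw, ← e_zero, ← el_one 0] at h2
  obtain ⟨hww, hzz⟩ := el_inj (J4XPerm10.inE_xor hw (inE_av z hw)) J4XPerm10.inE_zero h2
  have hbw := J4XPerm10.inE_xor hb (inE_av 1 hw)
  rw [e_inv hb, ← el_one b, el_mul hb hw, el_mul hbw hb, el_mul hw (J4XPerm10.inE_xor hbw (inE_av _ hb))]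
  simp only [one_mul, mul_one, hzz, av_one hw, av_xor, ← av_mul, av_one hb, el_one]
  congr 1
  calc w ^^^ (av z b ^^^ av z w ^^^ b) = b ^^^ av z b ^^^ (w ^^^ av z w) := by ac_rfl
    _ = _ := by rw [hww, Nat.xor_zero]

/-- The element chosen by the table. -/
noncomputable def zM : M24 := elM zc (goodF_iff.1 lset_ok.2.2.2.2.1)

theorem zM_mem {R : Subgroup M24} (hR : R ≤ Pbar) (hsq : ∀ a ∈ R, a * a = 1)
    (hconj : ∀ j, ∀ a ∈ R, gn j * a * (gn j)⁻¹ ∈ R) {a : M24} (ha : a ∈ R) (ha1 : a ≠ 1) : zM ∈ R := by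
  obtain ⟨i, rfl⟩ := mem_Pbar.1 (hR ha)
  have hr := List.all_eq_true.1 red_ok i (List.mem_range.2 i.2)
  rw [Bool.or_eq_true] at hr
  rcases hr with hr | hr
  · refine absurd ?_ ha1
    rw [pt, elM_congr _ J4XPerm10.good_idP (congrArg _ (Nat.eq_of_beq_eq_true hr))]
    exact elM_one
  · exact red_spec (A := (R : Set M24)) hsq (fun a ha b hb => mul_mem ha hb) hconj 12 _ (row i.2).1
      (row i.2).2.1 hr ha

theorem mem_lset {a : M24} (ha : a ∈ Pbar)
    (hfix : ∀ b, inE b = true → av a (b ^^^ av zM b) = b ^^^ av zM b) : pk a.1 ∈ lset := by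
  obtain ⟨i, rfl⟩ := mem_Pbar.1 ha
  have h := List.all_eq_true.1 lset_ok.1 i (List.mem_range.2 i.2)
  rw [Bool.or_eq_true] at h
  rcases h with h | h
  · obtain ⟨c, hc, e⟩ := List.any_eq_true.1 h
    rw [pk_pt, ← Nat.eq_of_beq_eq_true e]
    exact hc
  · obtain ⟨k, hk, hne⟩ := List.any_eq_true.1 h
    exfalso
    have hb : inE (bv k) = true := List.all_eq_true.1 lset_ok.2.1 k hk
    have hf := hfix _ hb
    rw [zM, av_elM _ hb] at hf
    rw [pt, av_elM _ (J4XPerm10.inE_xor hb (J4Out54Base.hv (goodF_iff.1 lset_ok.2.2.2.2.1) hb))] at hf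
    rw [vactF_eq, vactF_eq, hf, Nat.beq_refl] at hne
    exact absurd hne (by simp)

theorem count_lt {R : Subgroup M24} (hz : zM ∈ R) (hL : ∀ a ∈ R, pk a.1 ∈ lset)
    (hR : Nat.card R ∣ 2048) {K : Type} [Finite K] (kv : K → ℕ) (kinj : Function.Injective kv)
    (hkv : ∀ y, inE (kv y) = true ∧ ∀ a ∈ R, av a (kv y) = kv y) :
    Nat.card K * Nat.card R < 2048 := by
  classical
  have hzfix : ∀ y, vactF zc (kv y) = kv y := fun y => by
    have h := (hkv y).2 zM hz
    rwa [zM, av_elM _ (hkv y).1, ← vactF_eq] at h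
  have hlt : ∀ y, kv y < 4096 := fun y => (J4XPerm10.inE_iff.1 (hkv y).1).1
  have bound : ∀ (l : List ℕ), (∀ y, kv y ∈ l) → Nat.card K ≤ l.length := by
    intro l hl
    refine (Nat.card_le_card_of_injective (fun y => (⟨kv y, List.mem_toFinset.2 (hl y)⟩ : l.toFinset))
      (fun y y' h => kinj (congrArg Subtype.val h))).trans ?_
    rw [Nat.card_eq_finsetCard]
    exact List.toFinset_card_le _
  have hk0 : Nat.card K ≤ 128 := (bound _ fun y => by
    refine List.mem_filter.2 ⟨List.mem_range.2 (hlt y), ?_⟩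
    rw [(hkv y).1, hzfix y, Nat.beq_refl]
    rfl).trans lset_ok.2.2.2.2.2.2.1.le
  let φ : R → lset.toFinset := fun a => ⟨pk a.1.1, List.mem_toFinset.2 (hL _ a.2)⟩
  have φinj : Function.Injective φ := fun a b h => Subtype.ext (pk_inj (congrArg Subtype.val h))
  have hlen : Nat.card lset.toFinset ≤ 16 := by
    rw [Nat.card_eq_finsetCard]
    exact (List.toFinset_card_le _).trans lset_ok.2.2.1.le
  have h16 : Nat.card R ≤ 16 := (Nat.card_le_card_of_injective φ φinj).trans hlen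
  rcases Nat.lt_or_ge 8 (Nat.card R) with h8 | h8
  · obtain ⟨k, -, e⟩ := (Nat.dvd_prime_pow Nat.prime_two).1 (show Nat.card R ∣ 2 ^ 11 from hR)
    have hk4 : k = 4 := by
      have h1 : 2 ^ k ≤ 2 ^ 4 := e ▸ h16
      have h2 : 2 ^ 3 < 2 ^ k := e ▸ h8
      have := (Nat.pow_le_pow_iff_right (by norm_num : 1 < 2)).1 h1
      have := (Nat.pow_lt_pow_iff_right (by norm_num : 1 < 2)).1 h2
      omega
    have hb : Function.Bijective φ := by
      refine (Nat.bijective_iff_injective_and_card φ).2 ⟨φinj,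
        le_antisymm (Nat.card_le_card_of_injective φ φinj) ?_⟩
      rw [e, hk4]
      exact hlen
    have hk1 : Nat.card K ≤ 16 := (bound _ fun y => by
      refine List.mem_filter.2 ⟨List.mem_range.2 (hlt y), ?_⟩
      rw [(hkv y).1, hzfix y, Nat.beq_refl, Bool.true_and, Bool.true_and, List.all_eq_true]
      intro c hc
      obtain ⟨a, ea⟩ := hb.2 ⟨c, List.mem_toFinset.2 hc⟩
      have ea' : pk a.1.1 = c := congrArg Subtype.val ea
      have hf : vact (pk a.1.1) (kv y) = kv y := (hkv y).2 _ a.2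
      rw [vactF_eq, ← ea', hf, Nat.beq_refl]).trans lset_ok.2.2.2.2.2.2.2.le
    exact lt_of_le_of_lt (Nat.mul_le_mul hk1 h16) (by norm_num)
  · exact lt_of_le_of_lt (Nat.mul_le_mul hk0 h8) (by norm_num)

theorem fix_of_map {β : MulAut Spor.J4} (hβ : P2.map β.toMonoidHom = P2) :
    EE.map β.toMonoidHom = EE := by
  have hFP : EE.map β.toMonoidHom ≤ P2 := hβ ▸ Subgroup.map_mono EE_le_P2
  have hsq : ∀ y ∈ EE.map β.toMonoidHom, y * y = 1 := by
    rintro _ ⟨x, ⟨v, hv, rfl⟩, rfl⟩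
    rw [← map_mul, e_mul hv hv, Nat.xor_self, e_zero, map_one]
  have hab : ∀ y ∈ EE.map β.toMonoidHom, ∀ y' ∈ EE.map β.toMonoidHom, y * y' = y' * y := by
    rintro _ ⟨x, ⟨v, hv, rfl⟩, rfl⟩ _ ⟨x', ⟨w, hw, rfl⟩, rfl⟩
    rw [← map_mul, ← map_mul, e_mul hv hw, e_mul hw hv, Nat.xor_comm]
  have hnor : ∀ p ∈ P2, ∀ y ∈ EE.map β.toMonoidHom, p * y * p⁻¹ ∈ EE.map β.toMonoidHom := by
    intro p hp
    rw [← hβ] at hp
    obtain ⟨p', hp', rfl⟩ := hp
    rintro _ ⟨x, hx, rfl⟩
    exact ⟨p' * x * p'⁻¹, EE_normalised (P2_le hp') hx, by simp⟩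
  have hcardF : Nat.card (EE.map β.toMonoidHom) = 2048 := by
    rw [Subgroup.card_map_of_injective β.injective, card_EE]
  generalize EE.map β.toMonoidHom = F at hFP hsq hab hnor hcardF ⊢
  have hFB : F ≤ base S := hFP.trans P2_le
  let f : F →* M24 := pr.comp (Subgroup.inclusion hFB)
  have hf : ∀ y : F, f y = pr (Subgroup.inclusion hFB y) := fun y => rfl
  have hcard : Nat.card f.ker * Nat.card f.range = 2048 := by
    rw [← hcardF, ← Subgroup.card_mul_index f.ker, Subgroup.index_ker]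
  have hlift : ∀ a ∈ f.range, ∃ u, inE u = true ∧ el u a ∈ F := by
    rintro _ ⟨y, rfl⟩
    obtain ⟨u, hu, e⟩ := pr_spec (Subgroup.inclusion hFB y)
    exact ⟨u, hu, by rw [hf, ← e]; exact y.2⟩
  by_cases htriv : ∀ a ∈ f.range, a = 1
  · refine Subgroup.eq_of_le_of_card_ge (fun y hy => ?_) (by rw [hcardF, card_EE])
    exact pr_eq_one.1 (htriv _ ⟨⟨y, hy⟩, rfl⟩)
  exfalso
  push Not at htriv
  obtain ⟨a, ha, ha1⟩ := htriv
  have hRP : f.range ≤ Pbar := by
    rintro _ ⟨y, rfl⟩
    obtain ⟨h, h'⟩ := mem_P2.1 (hFP y.2)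
    exact h'
  have hRsq : ∀ a ∈ f.range, a * a = 1 := by
    rintro _ ⟨y, rfl⟩
    rw [← map_mul, show y * y = 1 from Subtype.ext (hsq _ y.2), map_one]
  have hRconj : ∀ j, ∀ a ∈ f.range, gn j * a * (gn j)⁻¹ ∈ f.range := by
    rintro j _ ⟨y, rfl⟩
    have hb : el 0 (gn j) ∈ base S := el_mem J4XPerm10.inE_zero _
    have hpr : pr ⟨el 0 (gn j), hb⟩ = gn j := pr_eq J4XPerm10.inE_zero rfl
    have hg : el 0 (gn j) ∈ P2 := mem_P2.2 ⟨hb, by
      rw [hpr]; exact Subgroup.subset_closure ⟨j, rfl⟩⟩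
    refine ⟨⟨_, hnor _ hg _ y.2⟩, ?_⟩
    rw [hf, hf, show Subgroup.inclusion hFB ⟨_, hnor _ hg _ y.2⟩ =
        (⟨el 0 (gn j), hb⟩ : base S) * Subgroup.inclusion hFB y * (⟨el 0 (gn j), hb⟩ : base S)⁻¹
      from Subtype.ext rfl, map_mul, map_mul, map_inv, hpr]
  have hz := zM_mem hRP hRsq hRconj ha ha1
  have hL : ∀ a ∈ f.range, pk a.1 ∈ lset := by
    intro a ha
    refine mem_lset (hRP ha) fun b hb => ?_
    obtain ⟨w, hw, hwF⟩ := hlift zM hz
    obtain ⟨u, hu, huF⟩ := hlift a ha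
    have hc := mul_mem hwF (hnor _ (EE_le_P2 (mem_EE.2 ⟨b, hb, rfl⟩)) _ hwF)
    rw [comm_class hw hb (hsq _ hwF)] at hc
    exact av_comm hu (J4XPerm10.inE_xor hb (inE_av _ hb)) (hab _ huF _ hc)
  have hker : ∀ y : f.ker, ∃ v, inE v = true ∧ ((y : F) : Spor.J4) = S.e v ∧
      ∀ a ∈ f.range, av a v = v := by
    intro y
    obtain ⟨v, hv, e⟩ := mem_EE.1 (pr_eq_one.1 ((hf y.1).symm.trans y.2))
    refine ⟨v, hv, e, fun a ha => ?_⟩
    obtain ⟨u, hu, huF⟩ := hlift a ha
    exact av_comm hu hv (hab _ huF _ ((show ((y : F) : Spor.J4) = S.e v from e) ▸ y.1.2))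
  choose kv hkv using hker
  have h := count_lt hz hL (Dvd.intro_left _ hcard) kv
    (fun y y' h => Subtype.ext (Subtype.ext ((hkv y).2.1.trans ((congrArg S.e h).trans (hkv y').2.1.symm))))
    (fun y => ⟨(hkv y).1, (hkv y).2.2⟩)
  omega

/-- Up to conjugation an automorphism fixes the elementary abelian subgroup and its normaliser. -/
theorem exists_conj (α : MulAut Spor.J4) : ∃ g : Spor.J4,
    EE.map (MulAut.conj g * α).toMonoidHom = EE ∧
      (base S).map (MulAut.conj g * α).toMonoidHom = base S := by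
  haveI : Fact (Nat.Prime 2) := ⟨Nat.prime_two⟩
  obtain ⟨Q, hQ⟩ := exists_sylow
  have hcard : Nat.card (P2.map α.toMonoidHom) = Nat.card Q := by
    rw [Subgroup.card_map_of_injective α.injective, ← hQ]
  rw [Q.card_eq_multiplicity] at hcard
  obtain ⟨g, hg⟩ := MulAction.exists_smul_eq Spor.J4 (Sylow.ofCard _ hcard) Q
  have hg' : (P2.map α.toMonoidHom).map (MulAut.conj g).toMonoidHom = P2 := by
    have h := congrArg (fun R : Sylow 2 Spor.J4 => (R : Subgroup Spor.J4)) hg
    simp only [Sylow.coe_subgroup_smul, Sylow.coe_ofCard] at h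
    exact h.trans hQ
  have hP : P2.map (MulAut.conj g * α).toMonoidHom = P2 := by
    conv_rhs => rw [← hg', Subgroup.map_map]
    rfl
  refine ⟨g, fix_of_map hP, ?_⟩
  have hle : (base S).map (MulAut.conj g * α).toMonoidHom ≤ base S := by
    rintro _ ⟨b, hb, rfl⟩
    rw [← normalizer_EE, Subgroup.mem_normalizer_iff]
    intro y
    set β := MulAut.conj g * α
    have hE := fix_of_map hP
    constructor
    · intro hy
      rw [← hE] at hy ⊢
      obtain ⟨x, hx, rfl⟩ := hy
      exact ⟨b * x * b⁻¹, EE_normalised hb hx, by simp⟩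
    · intro hy
      rw [← hE] at hy ⊢
      obtain ⟨x, hx, e⟩ := hy
      refine ⟨b⁻¹ * x * b, by simpa using EE_normalised (inv_mem hb) hx, ?_⟩
      simp only [map_mul, map_inv, e]
      group
  exact Subgroup.eq_of_le_of_card_ge hle (by rw [Subgroup.card_map_of_injective (MulAut.conj g * α).injective])

end Cfsg.Agent.J4Out54Local
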