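import Cfsg.Agent.Lib.J4XConcrete18

/-!
Shared names for the automorphisms of the presented fourth Janko group.
-/

set_option autoImplicit false

namespace Cfsg.Agent.J4OutBase18

open Cfsg.Agent.J4XBase18

/-- The data of the certificate. -/
noncomputable abbrev S0 : Setup Cfsg.Spor.J4 := J4XDe23.setup

/-- The subgroup of shape 2^11 : M24. -/
noncomputable abbrev B0 : Subgroup Cfsg.Spor.J4 := base S0

/-- The elementary abelian subgroup. -/
noncomputable def E0 : Subgroup Cfsg.Spor.J4 :=
  Subgroup.closure {g | ∃ v, inE v = true ∧ g = S0.e v}

/-- The classes of the twist of the two permutation generators that is not a conjugation. -/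
def cx0 : ℕ := 411

/-- The second value. -/
def cy0 : ℕ := 0

end Cfsg.Agent.J4OutBase18
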