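import Cfsg.Agent.Lib.J4XFactsData18

/-! Kernel checks of the facts. -/

set_option autoImplicit false
set_option maxRecDepth 100000
set_option Elab.async false

namespace Cfsg.Agent.J4XFacts18

open Cfsg.Agent.J4XBase18 Cfsg.Agent.J4XCert18 Cfsg.Agent.J4XFactsData18

theorem ok4 : allOk defs blocks 160 part4 = true := by decide +kernel

theorem ok5 : allOk defs blocks 200 part5 = true := by decide +kernel

theorem ok6 : allOk defs blocks 240 part6 = true := by decide +kernel

theorem ok7 : allOk defs blocks 280 part7 = true := by decide +kernel

theorem ok8 : allOk defs blocks 320 part8 = true := by decide +kernel

theorem ok9 : allOk defs blocks 360 part9 = true := by decide +kernel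

theorem ok10 : allOk defs blocks 400 part10 = true := by decide +kernel

theorem ok11 : allOk defs blocks 440 part11 = true := by decide +kernel

theorem ok12 : allOk defs blocks 480 part12 = true := by decide +kernel

theorem ok13 : allOk defs blocks 520 part13 = true := by decide +kernel

theorem ok14 : allOk defs blocks 560 part14 = true := by decide +kernel

theorem ok15 : allOk defs blocks 600 part15 = true := by decide +kernel

theorem ok16 : allOk defs blocks 640 part16 = true := by decide +kernel

theorem ok17 : allOk defs blocks 680 part17 = true := by decide +kernel

theorem ok18 : allOk defs blocks 720 part18 = true := by decide +kernel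

theorem ok19 : allOk defs blocks 760 part19 = true := by decide +kernel

theorem ok20 : allOk defs blocks 800 part20 = true := by decide +kernel

theorem ok21 : allOk defs blocks 840 part21 = true := by decide +kernel

theorem ok22 : allOk defs blocks 880 part22 = true := by decide +kernel

theorem ok23 : allOk defs blocks 920 part23 = true := by decide +kernel

theorem ok24 : allOk defs blocks 960 part24 = true := by decide +kernel

theorem ok25 : allOk defs blocks 1000 part25 = true := by decide +kernel

theorem ok26 : allOk defs blocks 1040 part26 = true := by decide +kernel

theorem ok27 : allOk defs blocks 1080 part27 = true := by decide +kernel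

theorem ok28 : allOk defs blocks 1120 part28 = true := by decide +kernel

theorem ok29 : allOk defs blocks 1160 part29 = true := by decide +kernel

theorem ok30 : allOk defs blocks 1200 part30 = true := by decide +kernel

theorem ok31 : allOk defs blocks 1240 part31 = true := by decide +kernel

theorem ok32 : allOk defs blocks 1280 part32 = true := by decide +kernel

theorem ok33 : allOk defs blocks 1320 part33 = true := by decide +kernel

end Cfsg.Agent.J4XFacts18
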