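import Cfsg.Agent.Lib.J4XFactsA18
import Cfsg.Agent.Lib.J4XFactsB18

/-! The facts hold in every group with the given relations. -/

set_option autoImplicit false
set_option maxRecDepth 100000

namespace Cfsg.Agent.J4XFacts18

open Cfsg.Agent.J4XBase18 Cfsg.Agent.J4XCert18 Cfsg.Agent.J4XFactsData18

variable {G : Type*} [Group G] (S : Setup G)

/-- The representative reached by the defining steps. -/
noncomputable def rep : ℕ → G
  | 0 => 1
  | 1 => 1 * psi S (0, 0xbdab49ca307b9ac5a928398a418820) * S.t
  | 2 => 1 * psi S (0, 0xbdab49ca307b9ac5a928398a418820) * S.t * psi S (0, 0x1a9f11017733acca36483d66481429) * S.t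
  | 3 => 1 * psi S (0, 0xbdab49ca307b9ac5a928398a418820) * S.t * psi S (0, 0x58d30899ed64ed52a8e20511723a41) * S.t
  | 4 => 1 * psi S (0, 0xbdab49ca307b9ac5a928398a418820) * S.t * psi S (9, 0x290ed7d196ac4694280e0c04bbccd2) * S.t
  | 5 => 1 * psi S (0, 0xbdab49ca307b9ac5a928398a418820) * S.t * psi S (0, 0x1a9f11017733acca36483d66481429) * S.t * psi S (0, 0x1a9f11017733acca36483d66481429) * S.t
  | 6 => 1 * psi S (0, 0xbdab49ca307b9ac5a928398a418820) * S.t * psi S (0, 0x1a9f11017733acca36483d66481429) * S.t * psi S (0, 0x8dc03a3eaa615a6158f392d1023921) * S.t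
  | _ => 1

theorem defs_hold : DefsHold (S := S) (rep S) defs := by
  intro d hd
  fin_cases hd <;> simp [rep, val]

theorem facts_hold (L : Laws) : ∀ k, (look blocks k).Holds S (rep S) := by
  have step : ∀ (n : ℕ) (l : List (Fact × Prf)), (∀ k < n, (look blocks k).Holds S (rep S)) →
      allOk defs blocks n l = true → ∀ (N : ℕ), N = n + l.length → ∀ k < N, (look blocks k).Holds S (rep S) :=
    fun n l hn h N hN => hN ▸ allOk_sound L rfl (defs_hold S) l n hn h
  have h0 : ∀ k < 0, (look blocks k).Holds S (rep S) := fun k hk => absurd hk (by omega)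
  have h1 := step 0 part0 h0 ok0 40 rfl
  have h2 := step 40 part1 h1 ok1 80 rfl
  have h3 := step 80 part2 h2 ok2 120 rfl
  have h4 := step 120 part3 h3 ok3 160 rfl
  have h5 := step 160 part4 h4 ok4 200 rfl
  have h6 := step 200 part5 h5 ok5 240 rfl
  have h7 := step 240 part6 h6 ok6 280 rfl
  have h8 := step 280 part7 h7 ok7 320 rfl
  have h9 := step 320 part8 h8 ok8 360 rfl
  have h10 := step 360 part9 h9 ok9 400 rfl
  have h11 := step 400 part10 h10 ok10 440 rfl
  have h12 := step 440 part11 h11 ok11 480 rfl
  have h13 := step 480 part12 h12 ok12 520 rfl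
  have h14 := step 520 part13 h13 ok13 560 rfl
  have h15 := step 560 part14 h14 ok14 600 rfl
  have h16 := step 600 part15 h15 ok15 640 rfl
  have h17 := step 640 part16 h16 ok16 680 rfl
  have h18 := step 680 part17 h17 ok17 720 rfl
  have h19 := step 720 part18 h18 ok18 760 rfl
  have h20 := step 760 part19 h19 ok19 800 rfl
  have h21 := step 800 part20 h20 ok20 840 rfl
  have h22 := step 840 part21 h21 ok21 880 rfl
  have h23 := step 880 part22 h22 ok22 920 rfl
  have h24 := step 920 part23 h23 ok23 960 rfl
  have h25 := step 960 part24 h24 ok24 1000 rfl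
  have h26 := step 1000 part25 h25 ok25 1040 rfl
  have h27 := step 1040 part26 h26 ok26 1080 rfl
  have h28 := step 1080 part27 h27 ok27 1120 rfl
  have h29 := step 1120 part28 h28 ok28 1160 rfl
  have h30 := step 1160 part29 h29 ok29 1200 rfl
  have h31 := step 1200 part30 h30 ok30 1240 rfl
  have h32 := step 1240 part31 h31 ok31 1280 rfl
  have h33 := step 1280 part32 h32 ok32 1320 rfl
  have h34 := step 1320 part33 h33 ok33 1333 rfl
  intro k
  by_cases hk : k < 1333
  · exact h34 k hk
  · have e : look blocks k = dflt := by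
      rw [look]
      rcases Nat.lt_or_ge (k / 32) blocks.length with h | h
      · have hb : k / 32 = 41 := by simp [blocks] at h; omega
        have h2 : 21 ≤ k % 32 := by omega
        show (blocks.getD (k / 32) []).getD (k % 32) dflt = dflt
        rw [hb]
        exact List.getD_eq_default _ _ h2
      · show (blocks.getD (k / 32) []).getD (k % 32) dflt = dflt
        rw [List.getD_eq_default _ _ h]
        rfl
    rw [e]
    exact dflt_holds S _

end Cfsg.Agent.J4XFacts18
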