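import Cfsg.Agent.Lib.J4XCoverRun016
import Cfsg.Agent.Lib.J4XCoverRun116
import Cfsg.Agent.Lib.J4XCoverRun216
import Cfsg.Agent.Lib.J4XCoverRun316
import Cfsg.Agent.Lib.J4XCoverRun416
import Cfsg.Agent.Lib.J4XCoverRun516
import Cfsg.Agent.Lib.J4XCoverRun616
import Cfsg.Agent.Lib.J4XFacts18

/-! The third generator leads from every state of the seven suborbits to a state of one of them. -/

set_option autoImplicit false

namespace Cfsg.Agent.J4XCover16

open Cfsg.Agent.J4XBase18 Cfsg.Agent.J4XCert18 Cfsg.Agent.J4XFacts18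

variable {G : Type*} [Group G] (S : Setup G)

theorem edge_all (L : Laws) : ∀ i < 7, ∀ h, okH h = true →
    ∃ j < 7, ∃ h', okH h' = true ∧
      Cong S (val S (rep S) (i, h) * S.t) (val S (rep S) (j, h')) := by
  intro i hi h hh
  have hT := facts_hold S L
  interval_cases i
  · exact edges0 L hT h hh
  · exact edges1 L hT h hh
  · exact edges2 L hT h hh
  · exact edges3 L hT h hh
  · exact edges4 L hT h hh
  · exact edges5 L hT h hh
  · exact edges6 L hT h hh

end Cfsg.Agent.J4XCover16
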