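/-! Fact numbers of strong generators of the seven coset stabilisers. -/

namespace Cfsg.Agent.J4XStabData18

/-- Levels and vectors per suborbit. -/
def stabData : List (List (Nat × List Nat) × List Nat) :=
  [([(0, [150, 265, 267, 269, 270, 156, 266, 271, 1, 272, 172, 273, 274, 275, 0, 317, 318, 268, 319, 264, 190, 320, 321]), (1, [323, 324, 211, 193, 325, 163, 326, 327, 328, 234, 329, 330, 331, 332, 322, 333, 334, 192, 335, 191, 210, 336]), (2, [287, 338, 339, 340, 342, 202, 343, 344, 345, 346, 171, 347, 341, 243, 337, 348, 349, 350, 351, 352, 286]), (3, [354, 356, 357, 251, 355, 358, 227, 359, 360, 195, 361, 221, 177, 353, 362, 363, 292, 209, 364, 365]), (4, [367, 368, 369, 370, 372, 257, 258, 366, 374, 226, 375, 373, 306, 371, 295, 376, 377, 378, 379]), (5, [381, 382, 384, 380, 311, 386, 263, 388, 385, 383, 312, 299, 389, 390, 387]), (6, [316, 391])], [2, 408, 434, 454, 474, 481, 501, 508, 518, 549, 570]),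
   ([(0, [575, 577, 578, 579, 586, 587, 588, 5, 589, 576, 10, 598, 585, 599, 597, 600, 601, 602, 590, 8, 603, 604, 571]), (4, [619, 646, 647, 648, 584, 9, 649, 594, 664, 610, 665, 618, 666, 667, 668]), (1, [669, 574, 596, 670, 671, 672]), (2, [641, 673, 660, 674, 617]), (3, [645, 663, 675])], [696, 706, 728, 738, 748, 760, 769, 781, 793]),
   ([(0, [795, 810, 812, 813, 839, 840, 849, 847, 19, 819, 850, 794, 867, 814, 868, 809, 18, 869, 811, 799, 870, 815, 871]), (1, [805, 872, 834, 806, 829]), (2, [873, 874, 875, 877, 878, 862, 857, 838, 876, 848, 879, 808, 880, 863, 881]), (3, [882, 833, 866])], [890, 903, 907, 887]),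
   ([(0, [918, 934, 935, 937, 924, 938, 912, 917, 920, 939, 940, 941, 943, 944, 945, 946, 923, 936, 942, 37, 908, 41, 40]), (1, [948, 914, 950, 952, 954, 955, 956, 957, 953, 947, 958, 949, 959, 927, 960, 951, 961, 962, 915]), (2, [963, 964, 968, 969, 916, 967, 970, 972, 966, 933, 971, 965, 973, 974, 975])], [984]),
   ([(0, [985, 1066, 1067, 1069, 67, 1068, 1071, 1025, 1072, 1073, 990, 1070, 997, 1074, 1075, 1036, 66, 1065, 1076, 1011, 1014, 1077, 1078]), (1, [1080, 1081, 1083, 1018, 1082, 1084, 1085, 1087, 1088, 1086, 1019, 1040, 1089, 989, 1030, 1079, 1090, 996, 1091]), (2, [1092, 1095, 1096, 1093, 1055, 1017, 1094, 1097, 1054, 1098, 1099, 1100, 1035, 1056, 1034]), (3, [1053, 1102, 1103, 1048, 1101, 1061, 1104, 1105]), (4, [1064])], [1121, 1136, 1149, 1158, 1171, 1178, 1197]),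
   ([(0, [1198, 1199, 1200, 1201, 1202, 1203, 1204, 1205, 1208, 1209, 80, 1220, 1232, 1233, 1231, 1216, 1234, 1221, 1250, 1251, 79, 82, 1252]), (3, [1243, 1219, 1254, 81, 1256, 1257, 1258, 1253, 1224, 1259, 1260, 1261, 1262, 1255, 1263]), (1, [1229, 1207, 1264]), (2, [1230]), (4, [1265, 1249])], []),
   ([(0, [1266, 1271, 1280, 1293, 1294, 124, 1295, 1297, 1298, 1267, 1270, 1299, 1300, 1274, 1301, 1302, 1296, 1292, 1303, 1304, 125, 1305, 1306]), (1, [1308, 1279, 1310, 1311, 1312, 1309, 1307, 1289, 1313, 1269, 1316, 1317, 1283, 1318, 1319, 1320, 1314, 1321, 1322, 1284, 1315, 1323]), (2, [1328, 1324, 1330, 1291, 1329, 1325, 1332, 1327, 1326, 1331])], [])]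

end Cfsg.Agent.J4XStabData18
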