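import Cfsg.Agent.Lib.J4XCount4
import Cfsg.Agent.Lib.J4XFactsData18
import Cfsg.Agent.Lib.J4XStabData18

/-! The strong generators of the seven stabilisers give the seven bounds. -/

set_option autoImplicit false
set_option maxRecDepth 100000
set_option Elab.async false

namespace Cfsg.Agent.J4XStabCheck4

open Cfsg.Agent.J4XCert18 Cfsg.Agent.J4XFactsData18 Cfsg.Agent.J4XStabData18 Cfsg.Agent.J4XCount4

theorem ok0 : stabOK (look blocks) 0 (stabData.getD 0 ([], [])) = true := by decide +kernel

theorem ok1 : stabOK (look blocks) 1 (stabData.getD 1 ([], [])) = true := by decide +kernel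

theorem ok2 : stabOK (look blocks) 2 (stabData.getD 2 ([], [])) = true := by decide +kernel

theorem ok3 : stabOK (look blocks) 3 (stabData.getD 3 ([], [])) = true := by decide +kernel

theorem ok4 : stabOK (look blocks) 4 (stabData.getD 4 ([], [])) = true := by decide +kernel

theorem ok5 : stabOK (look blocks) 5 (stabData.getD 5 ([], [])) = true := by decide +kernel

theorem ok6 : stabOK (look blocks) 6 (stabData.getD 6 ([], [])) = true := by decide +kernel

/-- all seven -/
theorem stab_ok : ∀ i < 7, stabOK (look blocks) i (stabData.getD i ([], [])) = true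
  | 0, _ => ok0
  | 1, _ => ok1
  | 2, _ => ok2
  | 3, _ => ok3
  | 4, _ => ok4
  | 5, _ => ok5
  | 6, _ => ok6
  | n + 7, h => absurd h (by omega)

end Cfsg.Agent.J4XStabCheck4
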