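import Cfsg.Agent.Lib.J4XCount4
import Cfsg.Agent.Lib.J4XStabCheck4
import Cfsg.Agent.Lib.J4XFacts18
import Cfsg.Agent.Lib.J4XEdges16

/-!
From the relations to the order: any group with the setup and an injective coding of the subgroup of shape
2^11 : M24 has index 173067389 over it, with the seven suborbits.
-/

set_option autoImplicit false

namespace Cfsg.Agent.J4XMain4

open Cfsg.Agent.J4XBase18 Cfsg.Agent.J4XCert18

universe u

variable {G : Type u} [Group G] (S : Setup G)

/-- the order, the index and the suborbits -/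
theorem main (L : Laws) (hm : J4XCount4.MGood S) (hinj : J4XCount4.PsiInj S)
    (hB : Nat.card ↥(base S) = 2048 * 244823040)
    (hdiv : Finite G → 173067389 * (2048 * 244823040) ∣ Nat.card G) :
    Finite G ∧ (base S).index = 173067389 ∧ Nat.card G = 173067389 * (2048 * 244823040) ∧
      (∀ i < 7, (J4XCount4.orb S (J4XFacts18.rep S) i).ncard = J4XCount4.sizes.getD i 0) ∧
      (∀ q, ∃ i < 7, q ∈ J4XCount4.orb S (J4XFacts18.rep S) i) ∧
      ∀ i < 7, ∀ j < 7, J4XCount4.orb S (J4XFacts18.rep S) i = J4XCount4.orb S (J4XFacts18.rep S) j →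
        i = j :=
  J4XCount4.main S L hm hinj hB hdiv (J4XFacts18.rep S) rfl (J4XCover16.edge_all S L)
    (J4XFacts18.facts_hold S L) J4XStabData18.stabData J4XStabCheck4.stab_ok

/-- the order, as a number -/
theorem card_eq (L : Laws) (hm : J4XCount4.MGood S) (hinj : J4XCount4.PsiInj S)
    (hB : Nat.card ↥(base S) = 2048 * 244823040)
    (hdiv : Finite G → 173067389 * (2048 * 244823040) ∣ Nat.card G) :
    Nat.card G = 86775571046077562880 := by
  rw [(main S L hm hinj hB hdiv).2.2.1]

end Cfsg.Agent.J4XMain4
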