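import Cfsg.Agent.Lib.J4XConcrete18
import Cfsg.Agent.Lib.J4XMain4
import Cfsg.Agent.S1559

/-!
The last step for the outer automorphisms of the presented fourth Janko group: an automorphism which
preserves the subgroup of shape 2^11 : M24 and fixes its two permutation generators modulo the elementary
abelian part is inner.

The values on the two permutation generators form a cocycle; up to a coboundary there are two of them. The
third generator goes into its own double coset, and commutes with the trio stabiliser; this forces the trivial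
cocycle and then the identity.
-/

set_option autoImplicit false
set_option maxRecDepth 100000

namespace Cfsg.Agent.J4OutEnd10

open Cfsg Cfsg.Agent.GolayBasic Cfsg.Agent.GolayPerm Cfsg.Agent.GolayEnumComp Cfsg.Agent.J4XBase18
open Cfsg.Agent.J4PresGen13
open scoped Pointwise
open Cfsg.Agent.J4PresData13 (rels0)
open Cfsg.Agent.J4M24Iso13 (eX eY eYi code evalP okP wv_gg gg presEquiv)
open Cfsg.Agent.J4XPerm10 (m q gx Kg Kp wzw vals pick T0)
open Cfsg.Agent.J4XSetup23 (tt ee)

attribute [local irreducible] permOf pcomp idP presEquiv Cfsg.Agent.S1711.tau J4XPerm10.m J4XSetup23.ee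

/-! ### the subgroup as pairs -/

/-- The permutation part, as a homomorphism. -/
noncomputable def mu : ↥Cfsg.M24 →* Cfsg.Spor.J4 := S1711.tau.comp presEquiv.symm.toMonoidHom

/-- The member with a given code. -/
noncomputable def el (P : ℕ) (h : good P = true) : ↥Cfsg.M24 := ⟨permOf P, permOf_mem_M24 h⟩

theorem m_eq_mu {P : ℕ} (h : good P = true) : m P = mu (el P h) := J4XPerm10.m_good h

theorem exists_code (g : ↥Cfsg.M24) : ∃ P, ∃ h : good P = true, g = el P h := by
  obtain ⟨P, h, e⟩ := J4XPerm10.exists_good g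
  exact ⟨P, h, Subtype.ext e.symm⟩

/-- The setup. -/
noncomputable abbrev S : Setup Cfsg.Spor.J4 := J4XDe23.setup

theorem hne : S.m J4XLowerPair97.eX ≠ 1 := J4XLower97.m_ne_one S J4XPerm10.m_eX

theorem card_base : Nat.card ↥(base S) = 2048 * 244823040 :=
  J4XLowerPair97.card_base_of_mgood S hne (fun h h' => J4XLaws10.laws.inE_vact h h') J4XLaws10.mgood

theorem mem_base_iff {x : Cfsg.Spor.J4} :
    x ∈ base S ↔ ∃ v, inE v = true ∧ ∃ g, x = ee v * mu g := by
  constructor
  · intro hx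
    obtain ⟨h, hh, rfl⟩ := J4XCount4.exists_pair S J4XLaws10.laws J4XLaws10.mgood hx
    have ho := J4XCount4.canH_okH hh
    simp only [okH, Bool.and_eq_true] at ho
    exact ⟨h.1, ho.1, el h.2 ho.2, by rw [← m_eq_mu ho.2]; rfl⟩
  · rintro ⟨v, hv, g, rfl⟩
    obtain ⟨P, hP, rfl⟩ := exists_code g
    rw [← m_eq_mu hP]
    exact J4XCert18.psi_mem_base S (h := (v, P)) (by simp [okH, hv, hP])

theorem pair_inj {a b : ℕ} {g k : ↥Cfsg.M24} (ha : inE a = true) (hb : inE b = true)
    (e : ee a * mu g = ee b * mu k) : a = b ∧ g = k := by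
  obtain ⟨P, hP, rfl⟩ := exists_code g
  obtain ⟨Q, hQ, rfl⟩ := exists_code k
  rw [← m_eq_mu hP, ← m_eq_mu hQ] at e
  have h := J4XLowerPair97.psi_injective S hne (fun h h' => J4XLaws10.laws.inE_vact h h')
    (h := (a, P)) (k := (b, Q)) (by simp [okH, ha, hP]) (by simp [okH, hb, hQ]) e
  exact ⟨h.1, Subtype.ext h.2⟩

theorem ee_zero : ee 0 = 1 := J4XCert18.e_zero S

theorem ee_sq (v : ℕ) : ee v * ee v = 1 := by rw [← J4XSetup23.ee_mul, Nat.xor_self, ee_zero]

theorem ee_inv (v : ℕ) : (ee v)⁻¹ = ee v := inv_eq_of_mul_eq_one_right (ee_sq v)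

theorem mu_act {P b : ℕ} (hP : good P = true) (hb : inE b = true) :
    mu (el P hP) * ee b = ee (vact P b) * mu (el P hP) := by
  rw [← m_eq_mu hP]; exact J4XSetup23.ee_act hP hb

theorem mul_form {a b : ℕ} (g k : ↥Cfsg.M24) (ha : inE a = true) (hb : inE b = true) :
    ∃ c, inE c = true ∧ ee a * mu g * (ee b * mu k) = ee c * mu (g * k) := by
  obtain ⟨P, hP, rfl⟩ := exists_code g
  refine ⟨a ^^^ vact P b, J4XPerm10.inE_xor ha (J4XPerm10.inE_vact hP hb), ?_⟩
  rw [J4XSetup23.ee_mul, map_mul, mul_assoc (ee a), ← mul_assoc (mu _) (ee b), mu_act hP hb]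
  simp only [mul_assoc]

theorem ee_mem {v : ℕ} (hv : inE v = true) : ee v ∈ base S :=
  Subgroup.subset_closure (Or.inr ⟨v, hv, rfl⟩)

theorem mu_mem (g : ↥Cfsg.M24) : mu g ∈ base S :=
  mem_base_iff.2 ⟨0, J4XPerm10.inE_zero, g, by rw [ee_zero, one_mul]⟩

/-! ### the trio stabiliser -/

theorem good_eX : good eX = true := by decide +kernel
theorem good_eY : good eY = true := by decide +kernel

/-- The code of the second generator of the trio stabiliser. -/
def zc : ℕ := 275412899398336086125680697583979762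

theorem zc_check : (okP wzw && Nat.beq (evalP wzw) zc && good zc) = true := by decide +kernel

theorem good_zc : good zc = true := by
  have h := zc_check
  simp only [Bool.and_eq_true] at h
  exact h.2

theorem el_eX : el eX good_eX = gg 0 := Subtype.ext (by simp [el, gg])

theorem el_zc : el zc good_zc = wv gg wzw := by
  have h := zc_check
  simp only [Bool.and_eq_true] at h
  exact Subtype.ext (by rw [(wv_gg _ h.1.1).2, Nat.eq_of_beq_eq_true h.1.2]; rfl)

theorem Kg_eq : Kg = Subgroup.closure {el eX good_eX, el zc good_zc} := by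
  rw [el_eX, el_zc]; rfl

theorem x_mem : el eX good_eX ∈ Kg := by
  rw [Kg_eq]; exact Subgroup.subset_closure (Set.mem_insert _ _)

theorem z_mem : el zc good_zc ∈ Kg := by
  rw [Kg_eq]; exact Subgroup.subset_closure (Set.mem_insert_of_mem _ rfl)

theorem gx_word {w : List ℕ} {c : ℕ} (h : okP w = true) (hl : ∀ l ∈ w, l < 4) (he : evalP w = c)
    (hg : good c = true) : m c = wv gx w :=
  J4XPerm10.m_word (w := w) (c := c)
    (by simp only [Bool.and_eq_true, List.all_eq_true, decide_eq_true_eq]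
        exact ⟨⟨⟨h, hl⟩, by rw [he]; exact Nat.beq_refl c⟩, hg⟩)

theorem m_zc : m zc = wv gx wzw := by
  have h := zc_check
  simp only [Bool.and_eq_true] at h
  exact gx_word h.1.1 (by decide) (Nat.eq_of_beq_eq_true h.1.2) h.2

theorem tt_mu {k : ↥Cfsg.M24} (hk : k ∈ Kg) : tt * mu k = mu k * tt := by
  have hle : Kg ≤ (Subgroup.centralizer {tt}).comap mu := by
    rw [Kg_eq, Subgroup.closure_le]
    rintro z (rfl | rfl) <;> rw [SetLike.mem_coe, Subgroup.mem_comap,
      Subgroup.mem_centralizer_singleton_iff, ← m_eq_mu]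
    · rw [J4XPerm10.m_eX, ← J4XPerm10.gx_zero]; exact J4XPerm10.t_relators.1.symm
    · rw [m_zc]; exact J4XPerm10.t_relators.2.symm
  exact (Subgroup.mem_centralizer_singleton_iff.1 (hle hk)).symm

theorem tt_mu_tt {k : ↥Cfsg.M24} (hk : k ∈ Kg) : tt * mu k * tt = mu k := by
  rw [tt_mu hk, mul_assoc, J4XSetup23.tsq, mul_one]

theorem card_Kg : Nat.card ↥Kg = 64512 := by
  have horb : MulAction.orbit ↥Cfsg.M24 T0 = trios := by
    ext X
    constructor
    · rintro ⟨g, rfl⟩; exact GolayTrioSextet.smul_mem_trios g.2 J4XPerm10.T0_mem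
    · intro hX
      obtain ⟨a, ha⟩ := GolayOrbitThms.exists_smul_trio J4XPerm10.T0_mem
      obtain ⟨b, hb⟩ := GolayOrbitThms.exists_smul_trio hX
      exact ⟨b * a⁻¹, by show (b * a⁻¹) • T0 = X; rw [mul_smul, ← ha, inv_smul_smul, hb]⟩
  have h := Subgroup.card_eq_card_quotient_mul_card_subgroup (MulAction.stabilizer ↥Cfsg.M24 T0)
  rw [GolayM24.card_M24, ← Nat.card_congr (MulAction.orbitEquivQuotientStabilizer ↥Cfsg.M24 T0), horb,
    Nat.card_coe_set_eq, GolayOrbitThms.ncard_trios, ← J4XPerm10.stab_eq] at h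
  omega

theorem selfnorm {g : ↥Cfsg.M24} (hx : g⁻¹ * el eX good_eX * g ∈ Kg)
    (hz : g⁻¹ * el zc good_zc * g ∈ Kg) : g ∈ Kg := by
  have hfix : ∀ k ∈ Kg, k • (g • T0) = g • T0 := by
    have hle : Kg ≤ MulAction.stabilizer ↥Cfsg.M24 (g • T0) := by
      rw [Kg_eq, Subgroup.closure_le]
      have key : ∀ k, g⁻¹ * k * g ∈ Kg → k ∈ MulAction.stabilizer ↥Cfsg.M24 (g • T0) := by
        intro k hk
        rw [J4XPerm10.stab_eq, MulAction.mem_stabilizer_iff, mul_smul, mul_smul,
          inv_smul_eq_iff] at hk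
        exact MulAction.mem_stabilizer_iff.2 hk
      rintro k (rfl | rfl)
      · exact key _ hx
      · exact key _ hz
    exact fun k hk => hle hk
  obtain ⟨X1, -, X2, -, X3, -, X4, -, c1, c2, c3, c4, hcov, -⟩ := S1559.result T0 J4XPerm10.T0_mem
  have hmem : g • T0 ∈ trios := GolayTrioSextet.smul_mem_trios g.2 J4XPerm10.T0_mem
  rw [J4XPerm10.stab_eq] at hfix ⊢
  rw [MulAction.mem_stabilizer_iff]
  have one : ∀ X, g • T0 ∈ MulAction.orbit ↥(MulAction.stabilizer ↥Cfsg.M24 T0) X →
      (MulAction.orbit ↥(MulAction.stabilizer ↥Cfsg.M24 T0) X).ncard = 1 := by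
    intro X hX
    rw [← MulAction.orbit_eq_iff.2 hX, Set.ncard_eq_one]
    exact ⟨g • T0, Set.eq_singleton_iff_unique_mem.2 ⟨MulAction.mem_orbit_self _, by
      rintro _ ⟨k, rfl⟩; exact hfix k.1 k.2⟩⟩
  rw [hcov] at hmem
  rcases hmem with (((h | h) | h) | h) | h
  · exact h
  · have := one X1 h; omega
  · have := one X2 h; omega
  · have := one X3 h; omega
  · have := one X4 h; omega

/-- The two separation facts for the trio stabiliser. -/
theorem trans_check : ((List.range 24).all fun j => (List.range (vals.length + 1)).any fun n =>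
      valid (pick n) && Nat.beq (pimg (pick n) 2) j) = true ∧
    ((List.range 24).all fun j => Nat.beq j 2 || (List.range (vals.length + 1)).any fun n =>
      valid (pick n) && Nat.beq (pimg (pick n) 2) 2 && !Nat.beq (pimg (pick n) j) j) = true := by
  decide +kernel

theorem pick_mem {n : ℕ} (h : valid (pick n) = true) : permOf (pick n) ∈ Kp := by
  cases n with
  | zero => rw [pick, permOf_idP]; exact one_mem _
  | succ n => exact J4XPerm10.vals_mem n h

theorem centre_eq_one {g : ↥Cfsg.M24} (hx : g * el eX good_eX = el eX good_eX * g)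
    (hz : g * el zc good_zc = el zc good_zc * g) : g = 1 := by
  have hle : Kg ≤ Subgroup.centralizer {g} := by
    rw [Kg_eq, Subgroup.closure_le]
    rintro k (rfl | rfl) <;> rw [SetLike.mem_coe, Subgroup.mem_centralizer_singleton_iff]
    · exact hx.symm
    · exact hz.symm
  have comm : ∀ n, valid (pick n) = true → ∀ p,
      (g : Equiv.Perm GolayPt) (permOf (pick n) p) = permOf (pick n) ((g : Equiv.Perm GolayPt) p) := by
    intro n hn p
    obtain ⟨k, hk, e⟩ := Subgroup.mem_map.1 (pick_mem hn)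
    have h := congrArg (fun a : ↥Cfsg.M24 => (a : Equiv.Perm GolayPt) p)
      (Subgroup.mem_centralizer_singleton_iff.1 (hle hk))
    simp only [Subgroup.coe_mul, Equiv.Perm.coe_mul, Function.comp_apply] at h
    rw [← e]
    exact h.symm
  have key : ∀ n, valid (pick n) = true → ∀ i < 24, permOf (pick n) (pt i) = pt (pimg (pick n) i) :=
    fun n hn i hi => by rw [permOf_apply hn, pfun, idx_pt hi]
  obtain ⟨htr, hsep⟩ := trans_check
  simp only [List.all_eq_true, List.any_eq_true, List.mem_range, Bool.or_eq_true, Bool.and_eq_true,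
    Bool.not_eq_true'] at htr hsep
  have h2 : (g : Equiv.Perm GolayPt) (pt 2) = pt 2 := by
    set j := idx ((g : Equiv.Perm GolayPt) (pt 2)) with hj
    have hg : (g : Equiv.Perm GolayPt) (pt 2) = pt j := by rw [hj, pt_idx]
    rcases hsep j (idx_lt _) with h | ⟨n, -, ⟨hn, e2⟩, ne⟩
    · rw [hg, Nat.eq_of_beq_eq_true h]
    · exfalso
      have h := comm n hn (pt 2)
      rw [key n hn 2 (by omega), Nat.eq_of_beq_eq_true e2, hg, key n hn j (idx_lt _)] at h
      have h' := congrArg idx h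
      rw [idx_pt (idx_lt _), idx_pt (pimg_lt hn (idx_lt _))] at h'
      rw [← h', Nat.beq_refl] at ne
      exact Bool.noConfusion ne
  refine Subtype.ext (Equiv.ext fun p => ?_)
  obtain ⟨n, -, hn, e⟩ := htr (idx p) (idx_lt _)
  have h := comm n hn (pt 2)
  rw [key n hn 2 (by omega), Nat.eq_of_beq_eq_true e, pt_idx, h2, key n hn 2 (by omega),
    Nat.eq_of_beq_eq_true e, pt_idx] at h
  simpa using h

/-! ### classes moved into the subgroup by the third generator -/

/-- The class with given coefficients. -/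
def dv (c : ℕ) : ℕ := (J4XCert18.comb deList c).1.1

/-- Membership in the span of the nine classes. -/
def inD (v : ℕ) : Bool := inE v && !par12 (v &&& 136) && !par12 (v &&& 1095)

/-- The masks giving the coefficients. -/
def coMask : List ℕ := [80, 556, 523, 307, 357, 850, 891, 45, 333]

/-- The coefficients of a class. -/
def coef : List ℕ → ℕ → ℕ
  | [], _ => 0
  | k :: l, v => (bif par12 (v &&& k) then 1 else 0) + 2 * coef l v

theorem dv_check : ((List.range 512).all fun c => inD (dv c) &&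
    Nat.beq (J4XCert18.comb deList c).1.2 idP && Nat.beq (coef coMask (dv c)) c) = true := by
  decide +kernel

theorem coef_check : ((List.range 4096).all fun v => !inD v ||
    (decide (coef coMask v < 512) && Nat.beq (dv (coef coMask v)) v)) = true := by decide +kernel

theorem conj_check : ((List.range 4096).all fun v => !inE v || !inD (v ^^^ vact eX v) ||
    !inD (v ^^^ vact zc v) || inD v) = true := by decide +kernel

theorem fix_check : ((List.range 4096).all fun v => !inE v || !Nat.beq (vact eX v) v ||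
    !Nat.beq (vact zc v) v || Nat.beq v 0) = true := by decide +kernel

theorem inE_lt {v : ℕ} (h : inE v = true) : v < 4096 := (J4XPerm10.inE_iff.1 h).1

theorem inE_of_inD {v : ℕ} (h : inD v = true) : inE v = true := by
  simp only [inD, Bool.and_eq_true] at h
  exact h.1.1

theorem dv_spec {c : ℕ} (hc : c < 512) : inD (dv c) = true ∧ coef coMask (dv c) = c ∧
    ee (dv c) = psi S (J4XCert18.comb deList c).1 := by
  have h := List.all_eq_true.1 dv_check c (List.mem_range.2 hc)
  simp only [Bool.and_eq_true] at h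
  refine ⟨h.1.1, Nat.eq_of_beq_eq_true h.2, ?_⟩
  show _ = ee (dv c) * m (J4XCert18.comb deList c).1.2
  rw [Nat.eq_of_beq_eq_true h.1.2, J4XLaws10.m_idP, mul_one]

theorem tt_dv {c : ℕ} (hc : c < 512) :
    okH (J4XCert18.comb deList c).2 = true ∧
      tt * ee (dv c) * tt = psi S (J4XCert18.comb deList c).2 := by
  obtain ⟨-, h2, h3⟩ := J4XCert18.comb_sound S J4XLaws10.laws deList c
    fun x hx => ⟨hx, J4XCert18.deList_ok x hx⟩
  rw [(dv_spec hc).2.2]
  exact ⟨h2, h3⟩

theorem tt_inD {v : ℕ} (hv : inD v = true) : tt * ee v * tt ∈ base S := by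
  have h := List.all_eq_true.1 coef_check v (List.mem_range.2 (inE_lt (inE_of_inD hv)))
  simp only [hv, Bool.not_true, Bool.false_or, Bool.and_eq_true, decide_eq_true_eq] at h
  obtain ⟨h2, h3⟩ := tt_dv h.1
  rw [Nat.eq_of_beq_eq_true h.2] at h3
  rw [h3]
  exact J4XCert18.psi_mem_base S h2

theorem orbit_facts :
    (∀ i < 7, (J4XCount4.orb S (J4XFacts18.rep S) i).ncard = J4XCount4.sizes.getD i 0) ∧
    ∀ y, ∃ i < 7, y ∈ J4XCount4.orb S (J4XFacts18.rep S) i := by
  have h := J4XMain4.main S J4XLaws10.laws J4XLaws10.mgood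
    (J4XLower97.psiInj S J4XLaws10.laws J4XPerm10.m_eX) card_base (J4XLower97.hdiv S card_base)
  exact ⟨h.2.2.2.1, h.2.2.2.2.1⟩

/-- The suborbit of the third generator. -/
noncomputable def orbT : Set (Cfsg.Spor.J4 ⧸ base S) :=
  MulAction.orbit ↥(base S) (QuotientGroup.mk tt : Cfsg.Spor.J4 ⧸ base S)

theorem orb_one : J4XCount4.orb S (J4XFacts18.rep S) 1 = orbT := by
  have hc : psi S (0, 0xbdab49ca307b9ac5a928398a418820) ∈ base S :=
    J4XCert18.psi_mem_base S (by decide +kernel)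
  unfold J4XCount4.orb orbT
  congr 1
  rw [show J4XFacts18.rep S 1 = 1 * psi S (0, 0xbdab49ca307b9ac5a928398a418820) * tt from rfl, one_mul,
    mul_inv_rev, inv_eq_of_mul_eq_one_right J4XSetup23.tsq, QuotientGroup.eq, mul_inv_rev, inv_inv,
    mul_assoc, inv_mul_cancel, mul_one]
  exact hc

theorem card_orbT : orbT.ncard = 15180 := by
  rw [← orb_one, orbit_facts.1 1 (by omega)]
  rfl

theorem mem_stab_iff {b : ↥(base S)} :
    b ∈ MulAction.stabilizer ↥(base S) (QuotientGroup.mk tt : Cfsg.Spor.J4 ⧸ base S) ↔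
      tt * b.1 * tt ∈ base S := by
  rw [MulAction.mem_stabilizer_iff]
  show (QuotientGroup.mk (b.1 * tt) : Cfsg.Spor.J4 ⧸ base S) = QuotientGroup.mk tt ↔ _
  rw [eq_comm, QuotientGroup.eq, inv_eq_of_mul_eq_one_right J4XSetup23.tsq, ← mul_assoc]

/-- The elements of the subgroup which stay in it under conjugation by the third generator. -/
theorem stab_form {b : Cfsg.Spor.J4} (hb : b ∈ base S) (ht : tt * b * tt ∈ base S) :
    ∃ v, inD v = true ∧ ∃ k ∈ Kg, b = ee v * mu k := by
  have := J4XConcrete18.finite_J4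
  set St := MulAction.stabilizer ↥(base S) (QuotientGroup.mk tt : Cfsg.Spor.J4 ⧸ base S) with hSt
  have hcard : Nat.card ↥St = 512 * 64512 := by
    have h := Subgroup.card_eq_card_quotient_mul_card_subgroup St
    rw [card_base, hSt, ← Nat.card_congr (MulAction.orbitEquivQuotientStabilizer ↥(base S)
      (QuotientGroup.mk tt : Cfsg.Spor.J4 ⧸ base S)), Nat.card_coe_set_eq,
      show MulAction.orbit ↥(base S) (QuotientGroup.mk tt : Cfsg.Spor.J4 ⧸ base S) = orbT from rfl,
      card_orbT, ← hSt] at h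
    omega
  have hdE : ∀ c : Fin 512, inE (dv c) = true := fun c => inE_of_inD (dv_spec c.2).1
  let f : Fin 512 × ↥Kg → ↥St := fun p =>
    ⟨⟨ee (dv p.1) * mu p.2.1, mul_mem (ee_mem (hdE p.1)) (mu_mem _)⟩, mem_stab_iff.2 (by
      show tt * (ee (dv p.1) * mu p.2.1) * tt ∈ _
      have h : tt * (ee (dv p.1) * mu p.2.1) * tt = tt * ee (dv p.1) * tt * (tt * mu p.2.1 * tt) := by
        simp only [mul_assoc, ← mul_assoc tt tt, J4XSetup23.tsq, one_mul]
      rw [h, tt_mu_tt p.2.2]
      exact mul_mem (tt_inD (dv_spec p.1.2).1) (mu_mem _))⟩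
  have hinj : Function.Injective f := by
    intro p r e
    obtain ⟨e1, e2⟩ := pair_inj (hdE p.1) (hdE r.1)
      (congrArg (fun z : ↥St => (z.1 : Cfsg.Spor.J4)) e)
    refine Prod.ext (Fin.ext ?_) (Subtype.ext e2)
    rw [← (dv_spec p.1.2).2.1, e1, (dv_spec r.1.2).2.1]
  have hbij : Function.Bijective f := (Nat.bijective_iff_injective_and_card f).2
    ⟨hinj, by rw [Nat.card_prod, hcard, card_Kg, Nat.card_eq_fintype_card, Fintype.card_fin]⟩
  obtain ⟨p, hp⟩ := hbij.2 ⟨⟨b, hb⟩, mem_stab_iff.2 ht⟩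
  exact ⟨dv p.1, (dv_spec p.1.2).1, p.2.1, p.2.2,
    (congrArg (fun z : ↥St => (z.1 : Cfsg.Spor.J4)) hp).symm⟩

/-! ### cocycles -/

/-- The vector part of the image of a letter. -/
def lvec (a b : ℕ) : ℕ → ℕ
  | 0 => a
  | 1 => vact eX a
  | 2 => b
  | _ => vact eYi b

/-- The vector part of the image of a word. -/
def vecW (a b : ℕ) : List ℕ → ℕ
  | [] => 0
  | l :: w => lvec a b l ^^^ vact (code l) (vecW a b w)

theorem good_code : ∀ l, good (code l) = true
  | 0 => good_eX
  | 1 => good_eX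
  | 2 => good_eY
  | _ + 3 => show good eYi = true by decide +kernel

theorem good_evalP : ∀ w : List ℕ, good (evalP w) = true
  | [] => J4XPerm10.good_idP
  | l :: w => J4XPerm10.good_pcomp (good_code l) (good_evalP w)

theorem inE_lvec {a b : ℕ} (ha : inE a = true) (hb : inE b = true) : ∀ l, inE (lvec a b l) = true
  | 0 => ha
  | 1 => J4XPerm10.inE_vact good_eX ha
  | 2 => hb
  | _ + 3 => J4XPerm10.inE_vact (good_code 3) hb

theorem inE_vecW {a b : ℕ} (ha : inE a = true) (hb : inE b = true) :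
    ∀ w, inE (vecW a b w) = true
  | [] => J4XPerm10.inE_zero
  | l :: w => J4XPerm10.inE_xor (inE_lvec ha hb l)
      (J4XPerm10.inE_vact (good_code l) (inE_vecW ha hb w))

theorem inv_check : (Nat.beq (pcomp eX eX) idP && Nat.beq (pcomp eY eYi) idP) = true := by
  decide +kernel

theorem inv_form {P Q v : ℕ} (hP : good P = true) (hQ : good Q = true) (h : pcomp P Q = idP)
    (hv : inE v = true) : (ee v * m P)⁻¹ = ee (vact Q v) * m Q := by
  refine inv_eq_of_mul_eq_one_right ?_
  have hm : m P * m Q = 1 := by rw [← J4XPerm10.m_mul hP hQ, h, J4XLaws10.m_idP]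
  rw [mul_assoc, ← mul_assoc (m P), J4XSetup23.ee_act hP (J4XPerm10.inE_vact hQ hv),
    ← J4XPerm10.vact_pcomp hP hQ, h, J4XPerm10.vact_idP hv, mul_assoc, hm, mul_one, ee_sq]

theorem wv_form {a b : ℕ} (ha : inE a = true) (hb : inE b = true) {f : ℕ → Cfsg.Spor.J4}
    (h0 : f 0 = ee a * m eX) (h1 : f 1 = ee b * m eY) :
    ∀ w : List ℕ, (∀ l ∈ w, l < 4) → wv f w = ee (vecW a b w) * m (evalP w)
  | [], _ => by rw [wv, vecW, evalP, J4XLaws10.m_idP, ee_zero, one_mul]
  | l :: w, h => by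
    have hc := inv_check
    simp only [Bool.and_eq_true] at hc
    have hl : lv f l = ee (lvec a b l) * m (code l) := by
      have := h l List.mem_cons_self
      interval_cases l
      · simpa [lv, lvec, code] using h0
      · show (f 0)⁻¹ = _
        rw [h0, inv_form good_eX good_eX (Nat.eq_of_beq_eq_true hc.1) ha]; rfl
      · simpa [lv, lvec, code] using h1
      · show (f 1)⁻¹ = _
        rw [h1, inv_form good_eY (good_code 3) (Nat.eq_of_beq_eq_true hc.2) hb]; rfl
    have hE := inE_vecW ha hb w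
    rw [wv, hl, wv_form ha hb h0 h1 w (fun x hx => h x (List.mem_cons_of_mem _ hx))]
    show _ = ee (lvec a b l ^^^ vact (code l) (vecW a b w)) * m (pcomp (code l) (evalP w))
    rw [J4XSetup23.ee_mul, J4XPerm10.m_mul (good_code l) (good_evalP w), mul_assoc,
      ← mul_assoc (m (code l)), J4XSetup23.ee_act (good_code l) hE]
    simp only [mul_assoc]

theorem lvec_xor (a b a' b' : ℕ) : ∀ l,
    lvec (a ^^^ a') (b ^^^ b') l = lvec a b l ^^^ lvec a' b' l
  | 0 => rfl
  | 1 => J4XPerm10.vact_xor good_eX a a'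
  | 2 => rfl
  | _ + 3 => J4XPerm10.vact_xor (good_code 3) b b'

theorem vecW_xor (a b a' b' : ℕ) : ∀ w,
    vecW (a ^^^ a') (b ^^^ b') w = vecW a b w ^^^ vecW a' b' w
  | [] => (Nat.xor_self 0).symm
  | l :: w => by
    simp only [vecW, lvec_xor, vecW_xor a b a' b' w, J4XPerm10.vact_xor (good_code l)]
    ac_rfl

/-- The packed values of several words. -/
def pack (a b : ℕ) : List (List ℕ) → ℕ
  | [] => 0
  | w :: L => vecW a b w ^^^ (pack a b L <<< 12)

theorem pack_xor (a b a' b' : ℕ) : ∀ L, pack (a ^^^ a') (b ^^^ b') L = pack a b L ^^^ pack a' b' L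
  | [] => (Nat.xor_self 0).symm
  | w :: L => by
    simp only [pack, vecW_xor, pack_xor a b a' b' L, Nat.shiftLeft_xor_distrib]
    ac_rfl

/-- The pivots of the elimination. -/
def lam : List (ℕ × ℕ × ℕ) :=
  [(83, 2179, 0), (81, 2052, 0), (78, 2049, 2050), (70, 18, 0), (82, 2179, 2050), (59, 5, 5),
    (57, 6, 2050), (23, 23, 78), (21, 135, 2056), (22, 2196, 2112)]

/-- The linear section of the relation map. -/
def sect : List (ℕ × ℕ × ℕ) → ℕ → ℕ × ℕ
  | [], _ => (0, 0)
  | p :: l, N => bif N.testBit p.1 then (p.2.1 ^^^ (sect l N).1, p.2.2 ^^^ (sect l N).2) else sect l N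

theorem sect_xor (M N : ℕ) : ∀ l,
    sect l (M ^^^ N) = ((sect l M).1 ^^^ (sect l N).1, (sect l M).2 ^^^ (sect l N).2)
  | [] => by simp [sect]
  | p :: l => by
    simp only [sect, sect_xor M N l, Nat.testBit_xor]
    cases M.testBit p.1 <;> cases N.testBit p.1 <;>
      (refine Prod.ext ?_ ?_ <;> simp only [Bool.bne_eq_xor, Bool.xor_false, Bool.false_xor, Bool.xor_true,
        Bool.not_true, Bool.not_false, cond_true, cond_false] <;>
        (apply Nat.eq_of_testBit_eq; intro i; simp only [Nat.testBit_xor];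
         generalize Nat.testBit p.2.1 i = u; generalize Nat.testBit p.2.2 i = u';
         generalize Nat.testBit (sect l M).1 i = r; generalize Nat.testBit (sect l N).1 i = s;
         generalize Nat.testBit (sect l M).2 i = r'; generalize Nat.testBit (sect l N).2 i = s';
         cases u <;> cases u' <;> cases r <;> cases s <;> cases r' <;> cases s' <;> rfl))

/-- The value of the extra cocycle on the first generator. -/
def dx : ℕ := 2853
/-- The value of the extra cocycle on the second generator. -/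
def dy : ℕ := 3780

/-- A multiple of a class by a bit. -/
def sc (e : Bool) (d : ℕ) : ℕ := bif e then d else 0

theorem sc_xor (e e' : Bool) (d : ℕ) : sc (e != e') d = sc e d ^^^ sc e' d := by
  cases e <;> cases e' <;> simp [sc]

theorem xor4 (p q r s : ℕ) : p ^^^ q ^^^ (r ^^^ s) = p ^^^ r ^^^ (q ^^^ s) := by ac_rfl

theorem xor6 (w u d w' u' d' : ℕ) :
    w ^^^ u ^^^ d ^^^ (w' ^^^ u' ^^^ d') = w ^^^ w' ^^^ (u ^^^ u') ^^^ (d ^^^ d') := by ac_rfl

/-- A pair is, modulo the section, a coboundary plus a multiple of the extra cocycle. -/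
def Red (a b : ℕ) : Prop :=
  ∃ w e, inE w = true ∧ a ^^^ (sect lam (pack a b rels0)).1 = w ^^^ vact eX w ^^^ sc e dx ∧
    b ^^^ (sect lam (pack a b rels0)).2 = w ^^^ vact eY w ^^^ sc e dy

theorem Red.xor {a b a' b' : ℕ} (h : Red a b) (h' : Red a' b') : Red (a ^^^ a') (b ^^^ b') := by
  obtain ⟨w, e, hw, h1, h2⟩ := h
  obtain ⟨w', e', hw', h1', h2'⟩ := h'
  refine ⟨w ^^^ w', e != e', J4XPerm10.inE_xor hw hw', ?_, ?_⟩
  · rw [pack_xor, sect_xor, xor4, h1, h1', J4XPerm10.vact_xor good_eX, sc_xor, xor6]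
  · rw [pack_xor, sect_xor, xor4, h2, h2', J4XPerm10.vact_xor good_eY, sc_xor, xor6]

/-- The basis with the decompositions. -/
def gam : List (ℕ × ℕ × ℕ × Bool) :=
  [(2049, 0, 0, false), (2050, 0, 0, false), (2052, 0, 0, false), (2056, 0, 2142, false),
    (2064, 0, 0, false), (2080, 0, 2944, false), (2112, 0, 3269, false), (2176, 0, 0, false),
    (2304, 0, 9, true), (2560, 0, 1394, false), (3072, 0, 978, true),
    (0, 2049, 0, false), (0, 2050, 0, false), (0, 2052, 0, false), (0, 2056, 0, false),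
    (0, 2064, 2467, false), (0, 2080, 2532, false), (0, 2112, 0, false), (0, 2176, 3879, false),
    (0, 2304, 3479, false), (0, 2560, 54, false), (0, 3072, 490, false)]

theorem gam_check : (gam.all fun g => inE g.2.2.1 &&
    Nat.beq (g.1 ^^^ (sect lam (pack g.1 g.2.1 rels0)).1) (g.2.2.1 ^^^ vact eX g.2.2.1 ^^^ sc g.2.2.2 dx) &&
    Nat.beq (g.2.1 ^^^ (sect lam (pack g.1 g.2.1 rels0)).2)
      (g.2.2.1 ^^^ vact eY g.2.2.1 ^^^ sc g.2.2.2 dy)) = true := by decide +kernel

theorem red_gam {g : ℕ × ℕ × ℕ × Bool} (hg : g ∈ gam) : Red g.1 g.2.1 := by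
  have h := List.all_eq_true.1 gam_check g hg
  simp only [Bool.and_eq_true] at h
  exact ⟨g.2.2.1, g.2.2.2, h.1.1, Nat.eq_of_beq_eq_true h.1.2, Nat.eq_of_beq_eq_true h.2⟩

theorem red_zero : Red 0 0 := by
  refine ⟨0, false, J4XPerm10.inE_zero, ?_, ?_⟩ <;> decide +kernel

/-- The basis of the even classes. -/
def bas : List ℕ := [2049, 2050, 2052, 2056, 2064, 2080, 2112, 2176, 2304, 2560, 3072]

/-- Reassembling a class from the basis. -/
def unb : List ℕ → ℕ → ℕ
  | [], _ => 0
  | u :: l, v => (bif v.testBit 0 then u else 0) ^^^ unb l (v / 2)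

theorem unb_check : ((List.range 4096).all fun v => !inE v || Nat.beq (unb bas v) v) = true := by
  decide +kernel

theorem bas_check : (bas.all fun u => gam.any (fun g => Nat.beq g.1 u && Nat.beq g.2.1 0) &&
    gam.any fun g => Nat.beq g.1 0 && Nat.beq g.2.1 u) = true := by decide +kernel

theorem red_unb : ∀ (l : List ℕ) (v : ℕ), (∀ u ∈ l, Red u 0 ∧ Red 0 u) →
    Red (unb l v) 0 ∧ Red 0 (unb l v)
  | [], _, _ => ⟨red_zero, red_zero⟩
  | u :: l, v, h => by
    obtain ⟨i1, i2⟩ := red_unb l (v / 2) fun x hx => h x (List.mem_cons_of_mem _ hx)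
    obtain ⟨u1, u2⟩ := h u List.mem_cons_self
    rw [unb]
    cases v.testBit 0
    · simp only [cond_false, Nat.zero_xor]; exact ⟨i1, i2⟩
    · simp only [cond_true]
      exact ⟨by simpa using u1.xor i1, by simpa using u2.xor i2⟩

theorem red_all {a b : ℕ} (ha : inE a = true) (hb : inE b = true) : Red a b := by
  have hb' : ∀ u ∈ bas, Red u 0 ∧ Red 0 u := by
    intro u hu
    have h := List.all_eq_true.1 bas_check u hu
    simp only [Bool.and_eq_true, List.any_eq_true] at h
    obtain ⟨⟨g, hg, e1, e2⟩, g', hg', e1', e2'⟩ := h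
    have r := red_gam hg
    have r' := red_gam hg'
    rw [Nat.eq_of_beq_eq_true e1, Nat.eq_of_beq_eq_true e2] at r
    rw [Nat.eq_of_beq_eq_true e1', Nat.eq_of_beq_eq_true e2'] at r'
    exact ⟨r, r'⟩
  have hu : ∀ v, inE v = true → unb bas v = v := by
    intro v hv
    have h := List.all_eq_true.1 unb_check v (List.mem_range.2 (inE_lt hv))
    simp only [hv, Bool.not_true, Bool.false_or] at h
    exact Nat.eq_of_beq_eq_true h
  have h1 := (red_unb bas a hb').1
  have h2 := (red_unb bas b hb').2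
  rw [hu a ha] at h1
  rw [hu b hb] at h2
  simpa using h1.xor h2

theorem rels_ok : (rels0.all fun w => okP w && w.all (fun l => decide (l < 4)) &&
    Nat.beq (evalP w) idP) = true := by decide +kernel

theorem sect_zero : sect lam 0 = (0, 0) := by decide +kernel

/-- The cocycle is a coboundary plus a multiple of the extra one. -/
theorem cocycle (φ : MulAut Cfsg.Spor.J4) {a b : ℕ} (ha : inE a = true) (hb : inE b = true)
    (h0 : φ (m eX) = ee a * m eX) (h1 : φ (m eY) = ee b * m eY) :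
    ∃ w e, inE w = true ∧ a = w ^^^ vact eX w ^^^ sc e dx ∧ b = w ^^^ vact eY w ^^^ sc e dy := by
  have hz : ∀ w ∈ rels0, vecW a b w = 0 := by
    intro w hw
    have h := List.all_eq_true.1 rels_ok w hw
    simp only [Bool.and_eq_true, List.all_eq_true, decide_eq_true_eq] at h
    obtain ⟨⟨ho, hl⟩, he⟩ := h
    have he' := Nat.eq_of_beq_eq_true he
    have hw1 : wv gx w = 1 := by
      rw [← gx_word ho hl he' J4XPerm10.good_idP, J4XLaws10.m_idP]
    have hc := wv_form ha hb (f := fun i => φ.toMonoidHom (gx i))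
      (by rw [J4XPerm10.gx_zero, ← J4XPerm10.m_eX]; exact h0)
      (by rw [J4XPerm10.gx_one, ← J4XPerm10.m_eY]; exact h1) w hl
    rw [← J4M24Pres13.wv_map, hw1, map_one, he', J4XLaws10.m_idP, mul_one] at hc
    exact (pair_inj (g := (1 : ↥Cfsg.M24)) (k := 1) (inE_vecW ha hb w) J4XPerm10.inE_zero
      (by rw [← hc, ee_zero])).1
  have hp : ∀ L : List (List ℕ), (∀ w ∈ L, vecW a b w = 0) → pack a b L = 0 := by
    intro L hL
    induction L with
    | nil => rfl
    | cons w L ih =>
      rw [pack, hL w List.mem_cons_self, ih fun x hx => hL x (List.mem_cons_of_mem _ hx)]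
      simp
  obtain ⟨w, e, hw, e1, e2⟩ := red_all ha hb
  rw [hp rels0 hz, sect_zero, Nat.xor_zero] at e1 e2
  exact ⟨w, e, hw, e1, e2⟩

/-! ### the third generator -/

theorem double_coset (φ : MulAut Cfsg.Spor.J4) (hH : ∀ x, φ x ∈ base S ↔ x ∈ base S) :
    ∃ h1 ∈ base S, ∃ h2 ∈ base S, φ tt = h1 * tt * h2 := by
  let f : Cfsg.Spor.J4 ⧸ base S → Cfsg.Spor.J4 ⧸ base S := Quotient.map' (fun x => φ x) (by
    intro x y h
    rw [QuotientGroup.leftRel_apply] at h ⊢
    rwa [← map_inv, ← map_mul, hH])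
  have hf : ∀ x, f (QuotientGroup.mk x) = QuotientGroup.mk (φ x) := fun x => rfl
  have finj : Function.Injective f := by
    intro p r
    refine QuotientGroup.induction_on p fun x => QuotientGroup.induction_on r fun y h => ?_
    rw [hf, hf, QuotientGroup.eq, ← map_inv, ← map_mul, hH] at h
    exact QuotientGroup.eq.2 h
  have himg : f '' orbT = MulAction.orbit ↥(base S) (QuotientGroup.mk (φ tt) : Cfsg.Spor.J4 ⧸ base S) := by
    ext y
    constructor
    · rintro ⟨_, ⟨b, rfl⟩, rfl⟩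
      refine ⟨⟨φ b.1, (hH _).2 b.2⟩, ?_⟩
      show (QuotientGroup.mk (φ b.1 * φ tt) : Cfsg.Spor.J4 ⧸ base S) = f (QuotientGroup.mk (b.1 * tt))
      rw [hf, map_mul]
    · rintro ⟨b, rfl⟩
      refine ⟨_, ⟨⟨φ.symm b.1, (hH _).1 (by rw [MulEquiv.apply_symm_apply]; exact b.2)⟩, rfl⟩, ?_⟩
      show f (QuotientGroup.mk (φ.symm b.1 * tt)) = QuotientGroup.mk (b.1 * φ tt)
      rw [hf, map_mul, MulEquiv.apply_symm_apply]
  obtain ⟨hsz, hcov⟩ := orbit_facts
  obtain ⟨i, hi, hm⟩ := hcov (QuotientGroup.mk (φ tt))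
  have hn : (J4XCount4.orb S (J4XFacts18.rep S) i).ncard = 15180 := by
    rw [J4XCount4.orb, ← MulAction.orbit_eq_iff.2 hm, ← himg, Set.ncard_image_of_injective _ finj,
      card_orbT]
  rw [hsz i hi] at hn
  have hi1 : i = 1 := by
    interval_cases i <;> simp [J4XCount4.sizes] at hn ⊢
  subst hi1
  rw [orb_one] at hm
  obtain ⟨b, hb⟩ := hm
  have hb' : (QuotientGroup.mk (b.1 * tt) : Cfsg.Spor.J4 ⧸ base S) = QuotientGroup.mk (φ tt) := hb
  exact ⟨b.1, b.2, _, QuotientGroup.eq.1 hb', by group⟩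

theorem to_stab {u h1 h2 k : Cfsg.Spor.J4} (h1m : h1 ∈ base S) (h2m : h2 ∈ base S) (hk : k ∈ base S)
    (e : u = h1 * tt * h2) (hc : u * k = k * u) :
    h1⁻¹ * k * h1 ∈ base S ∧ tt * (h1⁻¹ * k * h1) * tt ∈ base S := by
  refine ⟨mul_mem (mul_mem (inv_mem h1m) hk) h1m, ?_⟩
  have key : tt * (h1⁻¹ * k * h1) * tt = h2 * k * h2⁻¹ := by
    calc tt * (h1⁻¹ * k * h1) * tt = tt * h1⁻¹ * (k * u) * h2⁻¹ := by rw [e]; group
      _ = tt * h1⁻¹ * (u * k) * h2⁻¹ := by rw [hc]
      _ = tt * tt * (h2 * k * h2⁻¹) := by rw [e]; group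
      _ = _ := by rw [J4XSetup23.tsq, one_mul]
  rw [key]
  exact mul_mem (mul_mem h2m hk) (inv_mem h2m)

theorem conj_form {v c P : ℕ} {g : ↥Cfsg.M24} (hv : inE v = true) (hc : inE c = true)
    (hP : good P = true) :
    ∃ u, inE u = true ∧ (ee v * mu g)⁻¹ * (ee c * mu (el P hP)) * (ee v * mu g) =
      ee u * mu (g⁻¹ * el P hP * g) ∧ (g = 1 → u = v ^^^ c ^^^ vact P v) := by
  obtain ⟨Q, hQ, hgQ⟩ := exists_code g⁻¹
  have hu : inE (v ^^^ c ^^^ vact P v) = true :=
    J4XPerm10.inE_xor (J4XPerm10.inE_xor hv hc) (J4XPerm10.inE_vact hP hv)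
  have key : (ee v * mu g)⁻¹ * (ee c * mu (el P hP)) * (ee v * mu g) =
      mu g⁻¹ * ee (v ^^^ c ^^^ vact P v) * (mu (el P hP) * mu g) := by
    rw [mul_inv_rev, ee_inv, ← map_inv, J4XSetup23.ee_mul, J4XSetup23.ee_mul]
    calc mu g⁻¹ * ee v * (ee c * mu (el P hP)) * (ee v * mu g)
        = mu g⁻¹ * ee v * ee c * (mu (el P hP) * ee v) * mu g := by simp only [mul_assoc]
      _ = _ := by rw [mu_act hP hv]; simp only [mul_assoc]
  refine ⟨vact Q (v ^^^ c ^^^ vact P v), J4XPerm10.inE_vact hQ hu, ?_, ?_⟩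
  · rw [key, hgQ, mu_act hQ hu, ← hgQ, map_mul, map_mul]
    simp only [mul_assoc]
  · intro hg
    have h1 : el Q hQ = 1 := by rw [← hgQ, hg, inv_one]
    have hcm := mu_act hQ hu
    rw [h1, map_one, one_mul, mul_one] at hcm
    exact ((pair_inj (g := (1 : ↥Cfsg.M24)) (k := 1) hu (J4XPerm10.inE_vact hQ hu) (by rw [hcm])).1).symm

theorem fixed (φ : MulAut Cfsg.Spor.J4) (hH : ∀ x, φ x ∈ base S ↔ x ∈ base S) {cx cz : ℕ}
    (hx : φ (m eX) = ee cx * m eX) (hz : φ (m zc) = ee cz * m zc) (dX : inD cx = true)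
    (dZ : inD cz = true) : ∃ h ∈ base S, φ tt = tt * h := by
  obtain ⟨h1, h1m, h2, h2m, e⟩ := double_coset φ hH
  obtain ⟨v, hv, g, rfl⟩ := mem_base_iff.1 h1m
  have hcm : ∀ (c P : ℕ) (hP : good P = true), el P hP ∈ Kg → φ (m P) = ee c * m P →
      φ tt * (ee c * mu (el P hP)) = ee c * mu (el P hP) * φ tt := by
    intro c P hP hk hφ
    rw [← m_eq_mu hP, ← hφ, ← map_mul, ← map_mul, m_eq_mu hP, tt_mu hk]
  have hstep : ∀ (v c P : ℕ) (hP : good P = true) (g : ↥Cfsg.M24) (h2 : Cfsg.Spor.J4),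
      inE v = true → inE c = true → el P hP ∈ Kg → h2 ∈ base S → φ (m P) = ee c * m P →
      φ tt = ee v * mu g * tt * h2 →
      g⁻¹ * el P hP * g ∈ Kg ∧ (g = 1 → inD (v ^^^ c ^^^ vact P v) = true) := by
    intro v c P hP g h2 hv hc hk h2m hφ e
    obtain ⟨hb, ht⟩ := to_stab (mul_mem (ee_mem hv) (mu_mem g)) h2m
      (mul_mem (ee_mem hc) (mu_mem (el P hP))) e (hcm c P hP hk hφ)
    obtain ⟨u, hu, eu, hu'⟩ := conj_form (v := v) (c := c) (g := g) hv hc hP
    obtain ⟨d, hd, k, hkK, ek⟩ := stab_form hb ht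
    rw [eu] at ek
    obtain ⟨e1, e2⟩ := pair_inj hu (inE_of_inD hd) ek
    exact ⟨e2 ▸ hkK, fun hg => by rw [← hu' hg, e1]; exact hd⟩
  have hgK : g ∈ Kg := selfnorm
    (hstep v cx eX good_eX g h2 hv (inE_of_inD dX) x_mem h2m hx e).1
    (hstep v cz zc good_zc g h2 hv (inE_of_inD dZ) z_mem h2m hz e).1
  have e' : φ tt = ee v * mu 1 * tt * (mu g * h2) := by
    rw [e, map_one, mul_one, mul_assoc (ee v) (mu g), ← tt_mu hgK]
    simp only [mul_assoc]
  have h2m' : mu g * h2 ∈ base S := mul_mem (mu_mem g) h2m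
  have u1 := (hstep v cx eX good_eX 1 _ hv (inE_of_inD dX) x_mem h2m' hx e').2 rfl
  have u2 := (hstep v cz zc good_zc 1 _ hv (inE_of_inD dZ) z_mem h2m' hz e').2 rfl
  have sub : ∀ {p r : ℕ}, inD p = true → inD r = true → inD (p ^^^ r) = true := by
    intro p r hp hr
    simp only [inD, Bool.and_eq_true, Bool.not_eq_true', Nat.and_xor_distrib_right,
      J4XLowerPair97.par12_xor] at hp hr ⊢
    exact ⟨⟨J4XPerm10.inE_xor hp.1.1 hr.1.1, by rw [hp.1.2, hr.1.2]; rfl⟩, by rw [hp.2, hr.2]; rfl⟩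
  have rid : ∀ a c b : ℕ, a ^^^ c ^^^ b ^^^ c = a ^^^ b := fun a c b => by
    rw [Nat.xor_assoc a c b, Nat.xor_comm c b, ← Nat.xor_assoc, Nat.xor_assoc, Nat.xor_self, Nat.xor_zero]
  have v1 : inD (v ^^^ vact eX v) = true := rid v cx (vact eX v) ▸ sub u1 dX
  have v2 : inD (v ^^^ vact zc v) = true := rid v cz (vact zc v) ▸ sub u2 dZ
  have hD : inD v = true := by
    have h := List.all_eq_true.1 conj_check v (List.mem_range.2 (inE_lt hv))
    simpa only [hv, v1, v2, Bool.not_true, Bool.false_or] using h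
  refine ⟨tt * ee v * tt * (mu g * h2), mul_mem (tt_inD hD) h2m', ?_⟩
  rw [e', map_one, mul_one]
  calc ee v * tt * (mu g * h2) = tt * tt * ee v * tt * (mu g * h2) := by
        rw [J4XSetup23.tsq, one_mul]
    _ = _ := by simp only [mul_assoc]

/-- The code of the product in the twisted case. -/
def wc : ℕ := pcomp (J4XCert18.comb deList 379).2.2 zc

theorem twist_check : (Nat.beq (vecW dx dy wzw) (dv 379) && inE dx && inE dy && inD dx &&
    Nat.beq (pimg zc (pimg zc 0)) 0 &&
    (List.range 24).all fun j => !Nat.beq (pimg wc (pimg wc j)) j) = true := by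
  decide +kernel

theorem phi_zc (φ : MulAut Cfsg.Spor.J4) {a b : ℕ} (ha : inE a = true) (hb : inE b = true)
    (h0 : φ (m eX) = ee a * m eX) (h1 : φ (m eY) = ee b * m eY) :
    φ (m zc) = ee (vecW a b wzw) * m zc := by
  have h := zc_check
  simp only [Bool.and_eq_true] at h
  have hc := wv_form ha hb (f := fun i => φ.toMonoidHom (gx i))
    (by rw [J4XPerm10.gx_zero, ← J4XPerm10.m_eX]; exact h0)
    (by rw [J4XPerm10.gx_one, ← J4XPerm10.m_eY]; exact h1) wzw (by decide)
  rw [← J4M24Pres13.wv_map, ← m_zc, Nat.eq_of_beq_eq_true h.1.2] at hc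
  exact hc

theorem not_twist (φ : MulAut Cfsg.Spor.J4) (hH : ∀ x, φ x ∈ base S ↔ x ∈ base S)
    (h0 : φ (m eX) = ee dx * m eX) (h1 : φ (m eY) = ee dy * m eY) : False := by
  have h := twist_check
  simp only [Bool.and_eq_true, List.all_eq_true, List.mem_range, Bool.not_eq_true'] at h
  obtain ⟨⟨⟨⟨⟨hvec, hdx⟩, hdy⟩, dX⟩, hz0⟩, hw⟩ := h
  have hcz : 379 < 512 := by omega
  have hphz := phi_zc φ hdx hdy h0 h1
  rw [Nat.eq_of_beq_eq_true hvec] at hphz
  obtain ⟨dZ, -, -⟩ := dv_spec hcz
  obtain ⟨y, hy, e⟩ := fixed φ hH h0 hphz dX dZ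
  obtain ⟨v, hv, g, rfl⟩ := mem_base_iff.1 hy
  obtain ⟨hok, ht⟩ := tt_dv hcz
  simp only [okH, Bool.and_eq_true] at hok
  have hcm : φ tt * (ee (dv 379) * m zc) = ee (dv 379) * m zc * φ tt := by
    rw [← hphz, ← map_mul, ← map_mul, m_eq_mu good_zc, tt_mu z_mem]
  have key : ee v * mu g * (ee (dv 379) * mu (el zc good_zc)) =
      ee (J4XCert18.comb deList 379).2.1 * mu (el _ hok.2 * el zc good_zc) * (ee v * mu g) := by
    rw [map_mul, ← mul_assoc (ee (J4XCert18.comb deList 379).2.1), ← m_eq_mu hok.2,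
      show ee (J4XCert18.comb deList 379).2.1 * m (J4XCert18.comb deList 379).2.2 =
        tt * ee (dv 379) * tt from ht.symm, ← m_eq_mu good_zc]
    rw [e] at hcm
    calc ee v * mu g * (ee (dv 379) * m zc)
        = tt * (tt * (ee v * mu g) * (ee (dv 379) * m zc)) := by
          simp only [← mul_assoc, J4XSetup23.tsq, one_mul]
      _ = tt * (ee (dv 379) * m zc * (tt * (ee v * mu g))) := by rw [hcm]
      _ = _ := by
          rw [m_eq_mu good_zc]
          simp only [mul_assoc]
          rw [← mul_assoc (mu _) tt, ← tt_mu z_mem, mul_assoc]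
  obtain ⟨c1, hc1, e1⟩ := mul_form g (el zc good_zc) hv (inE_of_inD dZ)
  obtain ⟨c2, hc2, e2⟩ := mul_form (el _ hok.2 * el zc good_zc) g hok.1 hv
  rw [e1, e2] at key
  have hp := congrArg Subtype.val (pair_inj hc1 hc2 key).2
  simp only [Subgroup.coe_mul, el] at hp
  have hgw : good wc = true := J4XPerm10.good_pcomp hok.2 good_zc
  rw [← J4XPerm10.permOf_pcomp' (valid_of_good hok.2) (valid_of_good good_zc)] at hp
  have hp' : ∀ p, (g : Equiv.Perm GolayPt) (permOf zc p) = permOf wc ((g : Equiv.Perm GolayPt) p) :=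
    fun p => congrArg (fun π : Equiv.Perm GolayPt => π p) hp
  set j := idx ((g : Equiv.Perm GolayPt) (pt 0)) with hj
  have hfix : permOf wc (permOf wc (pt j)) = pt j := by
    rw [hj, pt_idx, ← hp', ← hp']
    congr 1
    rw [permOf_apply (valid_of_good good_zc), pfun, permOf_apply (valid_of_good good_zc), pfun,
      idx_pt (by omega : (0 : ℕ) < 24), idx_pt (pimg_lt (valid_of_good good_zc) (by omega)),
      Nat.eq_of_beq_eq_true hz0]
  rw [permOf_apply (valid_of_good hgw), pfun, permOf_apply (valid_of_good hgw), pfun,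
    idx_pt (idx_lt _ : j < 24), idx_pt (pimg_lt (valid_of_good hgw) (idx_lt _))] at hfix
  have h' := congrArg idx hfix
  rw [idx_pt (pimg_lt (valid_of_good hgw) (pimg_lt (valid_of_good hgw) (idx_lt _))), idx_pt (idx_lt _ : j < 24)] at h'
  have := hw j (idx_lt _)
  rw [h', Nat.beq_refl] at this
  exact Bool.noConfusion this

theorem trivial_case (φ : MulAut Cfsg.Spor.J4) (hH : ∀ x, φ x ∈ base S ↔ x ∈ base S)
    (h0 : φ (m eX) = m eX) (h1 : φ (m eY) = m eY) : φ = 1 := by
  have hz : φ (m zc) = m zc := by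
    have h := phi_zc φ J4XPerm10.inE_zero J4XPerm10.inE_zero (by rw [h0, ee_zero, one_mul])
      (by rw [h1, ee_zero, one_mul])
    rwa [show vecW 0 0 wzw = 0 by decide +kernel, ee_zero, one_mul] at h
  have d0 : inD 0 = true := by decide +kernel
  obtain ⟨y, hy, e⟩ := fixed φ hH (cx := 0) (cz := 0) (by rw [h0, ee_zero, one_mul])
    (by rw [hz, ee_zero, one_mul]) d0 d0
  obtain ⟨v, hv, g, rfl⟩ := mem_base_iff.1 hy
  have com : ∀ P (hP : good P = true), el P hP ∈ Kg → φ (m P) = m P →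
      vact P v = v ∧ g * el P hP = el P hP * g := by
    intro P hP hk hφ
    have h : φ tt * m P = m P * φ tt := by
      have := congrArg φ (show tt * m P = m P * tt by rw [m_eq_mu hP, tt_mu hk])
      simpa only [map_mul, hφ] using this
    rw [e, m_eq_mu hP] at h
    have hk' : ee v * mu g * mu (el P hP) = mu (el P hP) * (ee v * mu g) := by
      refine mul_left_cancel (a := tt) ?_
      rw [← mul_assoc, h, ← mul_assoc, ← tt_mu hk, mul_assoc]
    rw [← mul_assoc, mu_act hP hv, mul_assoc, mul_assoc, ← map_mul, ← map_mul] at hk'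
    obtain ⟨a, b⟩ := pair_inj hv (J4XPerm10.inE_vact hP hv) hk'
    exact ⟨a.symm, b⟩
  obtain ⟨vx, cxg⟩ := com eX good_eX x_mem h0
  obtain ⟨vz, czg⟩ := com zc good_zc z_mem hz
  have hg := centre_eq_one cxg czg
  have hv0 : v = 0 := by
    have h := List.all_eq_true.1 fix_check v (List.mem_range.2 (inE_lt hv))
    rw [vx, vz, hv, Nat.beq_refl] at h
    exact Nat.eq_of_beq_eq_true h
  rw [hg, hv0, ee_zero, map_one, mul_one, mul_one] at e
  refine MulEquiv.ext fun x => ?_
  have : φ.toMonoidHom = MonoidHom.id Cfsg.Spor.J4 := by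
    refine MonoidHom.eq_of_eqOn_dense (PresentedGroup.closure_range_of _) ?_
    rintro _ ⟨i, rfl⟩
    cases i
    · rw [J4XPerm10.m_eX] at h0; exact h0
    · rw [J4XPerm10.m_eY] at h1; exact h1
    · exact e
  exact DFunLike.congr_fun this x

/-- An automorphism respecting the subgroup and fixing the two permutation generators modulo the elementary
abelian part is inner. -/
theorem inner_of_frame (φ : MulAut Cfsg.Spor.J4)
    (hH : ∀ x, φ x ∈ base J4XDe23.setup ↔ x ∈ base J4XDe23.setup)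
    (hx : ∃ v, inE v = true ∧ φ (m eX) = ee v * m eX)
    (hy : ∃ v, inE v = true ∧ φ (m eY) = ee v * m eY) :
    ∃ g, φ = MulAut.conj g := by
  obtain ⟨a, ha, h0⟩ := hx
  obtain ⟨b, hb, h1⟩ := hy
  obtain ⟨w, ε, hw, ea, eb⟩ := cocycle φ ha hb h0 h1
  set ψ : MulAut Cfsg.Spor.J4 := MulAut.conj (ee w) * φ with hψ
  have hψH : ∀ x, ψ x ∈ base S ↔ x ∈ base S := by
    intro x
    rw [hψ, MulAut.mul_apply, MulAut.conj_apply, ee_inv,
      (base S).mul_mem_cancel_right (ee_mem hw), (base S).mul_mem_cancel_left (ee_mem hw)]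
    exact hH x
  have hval : ∀ P u d : ℕ, good P = true → φ (m P) = ee u * m P → u = w ^^^ vact P w ^^^ d →
      ψ (m P) = ee d * m P := by
    intro P u d hP hφ hu
    have hd : w ^^^ u ^^^ vact P w = d := by
      rw [hu]
      apply Nat.eq_of_testBit_eq
      intro i
      simp only [Nat.testBit_xor]
      cases w.testBit i <;> cases (vact P w).testBit i <;> cases d.testBit i <;> rfl
    rw [hψ, MulAut.mul_apply, MulAut.conj_apply, hφ, ee_inv, ← hd, J4XSetup23.ee_mul, J4XSetup23.ee_mul]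
    simp only [mul_assoc]
    rw [J4XSetup23.ee_act hP hw]
  have p0 := hval eX a _ good_eX h0 ea
  have p1 := hval eY b _ good_eY h1 eb
  cases ε
  · simp only [sc, cond_false, ee_zero, one_mul] at p0 p1
    have h := trivial_case ψ hψH p0 p1
    refine ⟨(ee w)⁻¹, ?_⟩
    rw [map_inv]
    exact eq_inv_of_mul_eq_one_right (hψ.symm.trans h)
  · simp only [sc, cond_true] at p0 p1
    exact (not_twist ψ hψH p0 p1).elim

end Cfsg.Agent.J4OutEnd10
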