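import Cfsg.Agent.Lib.J4OutGlue18
import Cfsg.Agent.Lib.J4OutEnd10
import Cfsg.Agent.Lib.GolayOutM24

/-!
Every automorphism of the presented fourth Janko group is inner, from the Sylow statement.
-/

set_option autoImplicit false
set_option linter.style.haveILetI false
set_option maxRecDepth 100000

namespace Cfsg.Agent.J4OutFinish18

open Cfsg Cfsg.Agent.GolayPerm Cfsg.Agent.J4XBase18 Cfsg.Agent.J4OutBase18 Cfsg.Agent.J4OutNorm18
open Cfsg.Agent.J4M24Iso13 (eX eY)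
open Cfsg.Agent.J4XPerm10 (m)
open Cfsg.Agent.J4OutEnd10 (mu el)

theorem e_mem_E0 {v : ℕ} (hv : inE v = true) : S0.e v ∈ E0 := mem_E0.2 ⟨v, hv, rfl⟩

theorem mu_mem (g : ↥Cfsg.M24) : mu g ∈ B0 := J4OutEnd10.mu_mem g

theorem split {b : Spor.J4} (hb : b ∈ B0) : ∃ g : ↥Cfsg.M24, b * (mu g)⁻¹ ∈ E0 := by
  obtain ⟨⟨w, P⟩, hh, rfl⟩ := J4XCount4.exists_pair S0 J4XLaws10.laws S0_mgood hb
  obtain ⟨hw, hP⟩ : inE w = true ∧ good P = true := by
    simp only [J4XCount4.canH, okH, Bool.and_eq_true] at hh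
    exact hh.1
  refine ⟨el P hP, ?_⟩
  have h : mu (el P hP) = S0.m P := (J4OutEnd10.m_eq_mu hP).symm
  rw [h, psi, mul_inv_cancel_right]
  exact e_mem_E0 hw

theorem mu_E0 {g : ↥Cfsg.M24} (h : mu g ∈ E0) : g = 1 := by
  obtain ⟨v, hv, e⟩ := mem_E0.1 h
  have h0 : inE 0 = true := inE_zero
  have key := (J4OutEnd10.pair_inj (a := 0) (b := v) (g := g) (k := 1) h0 hv (by
    rw [map_one, mul_one, J4OutEnd10.ee_zero, one_mul]
    exact e)).2
  exact key

theorem preserves {φ : MulAut Spor.J4} (hB : ∀ b ∈ B0, φ b ∈ B0) (x : Spor.J4) :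
    φ x ∈ B0 ↔ x ∈ B0 := by
  haveI := facts.1
  refine ⟨fun h => ?_, hB x⟩
  have hcard : Nat.card (B0.map φ.toMonoidHom) = Nat.card B0 :=
    (Nat.card_congr (B0.equivMapOfInjective _ φ.injective).toEquiv).symm
  have e : B0.map φ.toMonoidHom = B0 :=
    Subgroup.eq_of_le_of_card_ge (by rintro _ ⟨u, hu, rfl⟩; exact hB u hu) hcard.ge
  obtain ⟨u, hu, hxu⟩ : φ x ∈ B0.map φ.toMonoidHom := e.symm ▸ h
  exact φ.injective hxu ▸ hu

theorem inner (φ : MulAut Spor.J4) (hB : ∀ b ∈ B0, φ b ∈ B0) (hE : ∀ v ∈ E0, φ v ∈ E0) :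
    ∃ g, φ = MulAut.conj g := by
  choose f hf using fun g => split (hB _ (mu_mem g))
  have uniq : ∀ g h : ↥Cfsg.M24, φ (mu g) * (mu h)⁻¹ ∈ E0 → f g = h := by
    intro g h hh
    have h2 : mu (f g * h⁻¹) ∈ E0 := by
      have := mul_mem (inv_mem (hf g)) hh
      rw [map_mul, map_inv]
      simpa [mul_assoc] using this
    exact mul_inv_eq_one.1 (mu_E0 h2)
  have fmul : ∀ g h, f (g * h) = f g * f h := by
    intro g h
    refine uniq _ _ ?_
    have h1 := conj_E0 (mu_mem (f g)) _ (hf h)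
    have h2 := mul_mem (hf g) h1
    simpa [map_mul, mul_assoc] using h2
  let F : ↥Cfsg.M24 →* ↥Cfsg.M24 := MonoidHom.mk' f fmul
  have finj : Function.Injective F := by
    rw [injective_iff_map_eq_one]
    intro g hg
    have h1 : φ (mu g) ∈ E0 := by
      have := hf g
      rw [show f g = 1 from hg] at this
      simpa using this
    haveI := facts.1
    have hcard : Nat.card (E0.map φ.toMonoidHom) = Nat.card E0 :=
      (Nat.card_congr (E0.equivMapOfInjective _ φ.injective).toEquiv).symm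
    have e : E0.map φ.toMonoidHom = E0 :=
      Subgroup.eq_of_le_of_card_ge (by rintro _ ⟨u, hu, rfl⟩; exact hE u hu) hcard.ge
    obtain ⟨u, hu, hxu⟩ : φ (mu g) ∈ E0.map φ.toMonoidHom := e.symm ▸ h1
    exact mu_E0 (φ.injective hxu ▸ hu)
  let A : MulAut ↥Cfsg.M24 := MulEquiv.ofBijective F ⟨finj, Finite.surjective_of_injective finj⟩
  have hA : A ∈ Cfsg.Inn ↥Cfsg.M24 := by
    have h1 := (Nat.card_eq_one_iff_unique.1 GolayOutM24.card_out).1
    exact (QuotientGroup.eq_one_iff A).1 (Subsingleton.elim _ _)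
  obtain ⟨k, hk⟩ := hA
  have hfk : ∀ g, f g = k * g * k⁻¹ := fun g => by
    have := congrArg (fun c : MulAut ↥Cfsg.M24 => c g) hk
    exact this.symm
  set ψ : MulAut Spor.J4 := MulAut.conj (mu k)⁻¹ * φ with hψ
  have hψB : ∀ b ∈ B0, ψ b ∈ B0 := fun b hb => by
    rw [hψ, MulAut.mul_apply, MulAut.conj_apply, inv_inv]
    exact mul_mem (mul_mem (inv_mem (mu_mem k)) (hB b hb)) (mu_mem k)
  have hgen : ∀ P, good P = true → ∃ v, inE v = true ∧ ψ (m P) = J4XSetup23.ee v * m P := by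
    intro P hP
    have h1 := conj_E0 (inv_mem (mu_mem k)) _ (hf (el P hP))
    rw [inv_inv] at h1
    obtain ⟨v, hv, e⟩ := mem_E0.1 h1
    refine ⟨v, hv, ?_⟩
    have e' : S0.e v = J4XSetup23.ee v := rfl
    rw [← e', ← e, J4OutEnd10.m_eq_mu hP, hψ, MulAut.mul_apply, MulAut.conj_apply, inv_inv, hfk,
      map_mul, map_mul, map_inv]
    group
  obtain ⟨g, hg⟩ := J4OutEnd10.inner_of_frame ψ (preserves hψB) (hgen eX (by decide +kernel))
    (hgen eY (by decide +kernel))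
  refine ⟨mu k * g, ?_⟩
  rw [map_mul, ← hg, hψ, map_inv, mul_inv_cancel_left]

theorem card_out (hT : SylowHyp) : Nat.card (Cfsg.Out Spor.J4) = 1 := by
  rw [Nat.card_eq_one_iff_exists]
  refine ⟨QuotientGroup.mk 1, fun p => ?_⟩
  induction p using QuotientGroup.induction_on with
  | H a =>
    obtain ⟨g, hgE, hgB⟩ := exists_conj hT a
    obtain ⟨b, hb⟩ := inner _ hgB hgE
    have ha : a = MulAut.conj (g⁻¹ * b) := by
      rw [map_mul, map_inv, ← hb, inv_mul_cancel_left]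
    rw [QuotientGroup.eq, mul_one, ha]
    exact inv_mem ⟨g⁻¹ * b, rfl⟩

end Cfsg.Agent.J4OutFinish18
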