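import Cfsg.Agent.Lib.J4XBase18
import Cfsg.Agent.Lib.GolayFast

/-!
A checker for facts about cosets of the subgroup of shape 2^11 : M24: steps of the third generator and
elements fixing a coset, each derived from the two relations and from earlier facts.
-/

set_option autoImplicit false
set_option linter.unusedSimpArgs false

namespace Cfsg.Agent.J4XCert18

open Cfsg.Agent.GolayBasic Cfsg.Agent.GolayPerm Cfsg.Agent.GolayEnumComp Cfsg.Agent.GolayFast Cfsg.Agent.J4XBase18

/-- The arithmetic laws needed by the checker. -/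
structure Laws : Prop where
  good_mul : ∀ {P Q : ℕ}, good P = true → good Q = true → good (pcomp P Q) = true
  inE_xor : ∀ {a b : ℕ}, inE a = true → inE b = true → inE (a ^^^ b) = true
  inE_vact : ∀ {P v : ℕ}, good P = true → inE v = true → inE (vact P v) = true

/-- The neutral pair. -/
def one : ℕ × ℕ := (0, idP)

/-- Equality test of pairs. -/
def eqH (a b : ℕ × ℕ) : Bool := Nat.beq a.1 b.1 && Nat.beq a.2 b.2

theorem eqH_iff {a b : ℕ × ℕ} : eqH a b = true ↔ a = b := by
  simp [eqH, Prod.ext_iff]

theorem okH_one : okH one = true := by decide +kernel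


/-! ### the same operations through primitives on naturals -/

/-- The composite of coded permutations. -/
def compF (P Q : ℕ) : ℕ :=
  List.rec (motive := fun _ => ℕ) 0 (fun i _ r => Nat.add (imgF P (imgF Q i)) (Nat.mul 32 r)) pts

theorem compF_eq (P Q : ℕ) : compF P Q = pcomp P Q := rfl

/-- The action on classes. -/
def vactF (P v : ℕ) : ℕ :=
  let w := pmaskF P (Nat.shiftLeft v 12) pts
  Nat.shiftRight (Nat.xor w (comboF basisRows (Nat.land w 4095))) 12

theorem vactF_eq (P v : ℕ) : vactF P v = vact P v := by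
  simp only [vactF, vact, cv, pmask, pmaskF_eq, comboF_eq, enc]
  rfl

/-- The product of pairs. -/
def hmulF (h k : ℕ × ℕ) : ℕ × ℕ := (Nat.xor h.1 (vactF h.2 k.1), compF h.2 k.2)

theorem hmulF_eq : hmulF = hmul := by
  funext h k
  simp only [hmulF, hmul, vactF_eq, compF_eq]
  rfl

/-- Validity of pairs. -/
def okHF (h : ℕ × ℕ) : Bool := inE h.1 && goodF h.2

theorem okHF_eq : okHF = okH := by
  funext h
  rw [okHF, okH, goodF_eq]

/-- The three octads are permuted. -/
def fixF (P : ℕ) : Bool :=
  trio0.all fun o => trio0.any fun o' => Nat.beq (pmaskF P o pts) o'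

theorem fixF_eq : fixF = fixT0 := by
  funext P
  simp only [fixF, fixT0, pmask, pmaskF_eq, beq_prim, List.any_beq]

variable {G : Type*} [Group G] (S : Setup G)

theorem m_idP : S.m idP = 1 := by
  have h : good idP = true := by decide +kernel
  have e : pcomp idP idP = idP := by decide +kernel
  have := S.m_mul h h
  rw [e] at this
  exact right_eq_mul.mp this

theorem e_zero : S.e 0 = 1 := by
  have h : inE 0 = true := by decide +kernel
  have := S.e_mul h h
  rw [Nat.xor_self] at this
  exact right_eq_mul.mp this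

theorem psi_one : psi S one = 1 := by simp [psi, one, m_idP, e_zero]

theorem psi_hmul (L : Laws) {h k : ℕ × ℕ} (hh : okH h = true) (hk : okH k = true) :
    psi S (hmul h k) = psi S h * psi S k := by
  simp only [okH, Bool.and_eq_true] at hh hk
  simp only [psi, hmul]
  rw [S.e_mul hh.1 (L.inE_vact hh.2 hk.1), S.m_mul hh.2 hk.2]
  have := S.act hh.2 hk.1
  calc S.e h.1 * S.e (vact h.2 k.1) * (S.m h.2 * S.m k.2)
      = S.e h.1 * (S.e (vact h.2 k.1) * S.m h.2) * S.m k.2 := by group
    _ = S.e h.1 * (S.m h.2 * S.e k.1) * S.m k.2 := by rw [this]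
    _ = _ := by group

theorem okH_hmul (L : Laws) {h k : ℕ × ℕ} (hh : okH h = true) (hk : okH k = true) :
    okH (hmul h k) = true := by
  simp only [okH, Bool.and_eq_true, hmul] at *
  exact ⟨L.inE_xor hh.1 (L.inE_vact hh.2 hk.1), L.good_mul hh.2 hk.2⟩

theorem psi_mem_base {h : ℕ × ℕ} (hh : okH h = true) : psi S h ∈ base S := by
  simp only [okH, Bool.and_eq_true] at hh
  exact mul_mem (Subgroup.subset_closure (Or.inr ⟨h.1, hh.1, rfl⟩))
    (Subgroup.subset_closure (Or.inl ⟨h.2, rfl⟩))

/-! ### elements conjugated into the subgroup by the third generator -/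

/-- The element with the given coefficients, and its conjugate. -/
def comb : List (ℕ × ℕ) → ℕ → (ℕ × ℕ) × (ℕ × ℕ)
  | [], _ => (one, one)
  | vP :: l, c => bif Nat.beq (c % 2) 1
      then (hmulF (vP.1, idP) (comb l (c / 2)).1, hmulF vP (comb l (c / 2)).2)
      else comb l (c / 2)

theorem comb_sound (L : Laws) : ∀ (l : List (ℕ × ℕ)) (c : ℕ), (∀ vP ∈ l, vP ∈ deList ∧ okH vP = true) →
    okH (comb l c).1 = true ∧ okH (comb l c).2 = true ∧
      S.t * psi S (comb l c).1 * S.t = psi S (comb l c).2
  | [], _, _ => by simp [comb, okH_one, psi_one, S.tsq]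
  | vP :: l, c, h => by
    obtain ⟨h1, h2, h3⟩ := comb_sound L l (c / 2) fun q hq => h q (List.mem_cons_of_mem _ hq)
    obtain ⟨hm, hv⟩ := h vP List.mem_cons_self
    have hid : good idP = true := by decide +kernel
    have hv' : okH (vP.1, idP) = true := by
      simp only [okH, Bool.and_eq_true] at hv ⊢; exact ⟨hv.1, hid⟩
    rw [comb]
    simp only [hmulF_eq]
    cases Nat.beq (c % 2) 1
    · exact ⟨h1, h2, h3⟩
    refine ⟨okH_hmul L hv' h1, okH_hmul L hv h2, ?_⟩
    simp only [cond_true]
    rw [psi_hmul S L hv' h1, psi_hmul S L hv h2, ← h3]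
    have hde := S.de vP hm
    have ts : ∀ g : G, S.t * (S.t * g) = g := fun g => by rw [← mul_assoc, S.tsq, one_mul]
    simp only [psi, m_idP, mul_one] at *
    rw [← hde]
    simp only [mul_assoc, ts]

/-- The conjugable pair with coefficients `c` and permutation `P`. -/
def dLeft (c P : ℕ) : ℕ × ℕ := hmulF (comb deList c).1 (0, P)

/-- Its conjugate. -/
def dRight (c P : ℕ) : ℕ × ℕ := hmulF (comb deList c).2 (0, P)

theorem deList_ok : ∀ vP ∈ deList, okH vP = true := by decide +kernel

theorem d_sound (L : Laws) {c P : ℕ} (hP : good P = true) (hf : fixT0 P = true) :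
    okH (dLeft c P) = true ∧ okH (dRight c P) = true ∧ psi S (dLeft c P) * S.t = S.t * psi S (dRight c P) := by
  obtain ⟨h1, h2, h3⟩ := comb_sound S L deList c fun q hq => ⟨hq, deList_ok q hq⟩
  have h0 : okH (0, P) = true := by
    simp only [okH, Bool.and_eq_true]; exact ⟨by decide +kernel, hP⟩
  refine ⟨by rw [dLeft, hmulF_eq]; exact okH_hmul L h1 h0, by rw [dRight, hmulF_eq]; exact okH_hmul L h2 h0, ?_⟩
  simp only [dLeft, dRight, hmulF_eq]
  rw [ psi_hmul S L h1 h0, psi_hmul S L h2 h0, ← h3]
  simp only [psi, e_zero, one_mul]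
  have := S.kcomm hP hf
  have ts : ∀ g : G, S.t * (S.t * g) = g := fun g => by rw [← mul_assoc, S.tsq, one_mul]
  simp only [mul_assoc, ts]
  rw [← this]

/-! ### representatives, facts and walks -/

/-- A state: a suborbit and a pair. -/
abbrev St : Type := ℕ × ℕ × ℕ

/-- The pair of a state. -/
def St.h (a : St) : ℕ × ℕ := a.2

/-- The element of a state, for the given representatives. -/
def val (r : ℕ → G) (a : St) : G := r a.1 * psi S a.2

/-- Two elements lie in one coset of the subgroup. -/
def Cong (x y : G) : Prop := x * y⁻¹ ∈ base S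

variable {S} in
theorem Cong.refl (x : G) : Cong S x x := by simp [Cong]

variable {S} in
theorem Cong.trans {x y z : G} (h1 : Cong S x y) (h2 : Cong S y z) : Cong S x z := by
  have := mul_mem h1 h2
  simpa [Cong, mul_assoc] using this

variable {S} in
theorem Cong.symm {x y : G} (h : Cong S x y) : Cong S y x := by
  have := inv_mem h
  simpa [Cong] using this

variable {S} in
theorem Cong.mul {x y : G} (h : Cong S x y) (g : G) : Cong S (x * g) (y * g) := by
  simpa [Cong, mul_assoc] using h

/-- A fact: `edge` (a step of the third generator) or not (two congruent states). -/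
structure Fact where
  edge : Bool
  a : St
  b : St

/-- The meaning of a fact. -/
def Fact.Holds (r : ℕ → G) (f : Fact) : Prop :=
  okH f.a.2 = true ∧ okH f.b.2 = true ∧
    Cong S (bif f.edge then val S r f.a * S.t else val S r f.a) (val S r f.b)

/-- Equality test of states. -/
def eqSt (a b : St) : Bool := Nat.beq a.1 b.1 && eqH a.2 b.2

theorem eqSt_iff {a b : St} : eqSt a b = true ↔ a = b := by
  simp only [eqSt, Bool.and_eq_true, eqH_iff, Nat.beq_eq]
  exact ⟨fun h => Prod.ext h.1 h.2, fun h => h ▸ ⟨rfl, rfl⟩⟩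

/-- A left step by fixing elements: fact number and the resulting pair. -/
abbrev Turn : Type := ℕ × ℕ × ℕ

/-- A segment of a walk: the incoming permutation, left steps, the edge used and its conjugable pair. -/
structure Seg where
  turns : List Turn
  k : ℕ
  c : ℕ
  P : ℕ

/-- The entry of a table. -/
def dflt : Fact := ⟨false, (0, one), (0, one)⟩

theorem dflt_holds (r : ℕ → G) : dflt.Holds S r := by
  refine ⟨okH_one, okH_one, ?_⟩
  exact Cong.refl _


/-- Apply left steps. -/
def turnsW (T : ℕ → Fact) : List Turn → St → Option St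
  | [], a => some a
  | q :: l, a =>
    let f := T q.1
    bif !f.edge && Nat.beq f.a.1 a.1 && Nat.beq f.b.1 a.1 && eqH f.b.2 one && okHF q.2 && eqH (hmulF f.a.2 q.2) a.2
    then turnsW T l (a.1, q.2) else none

variable {S}

theorem val_mul_psi (L : Laws) (r : ℕ → G) (i : ℕ) {h k : ℕ × ℕ} (hh : okH h = true) (hk : okH k = true) :
    val S r (i, h) * psi S k = val S r (i, hmul h k) := by
  simp [val, psi_hmul S L hh hk, mul_assoc]

theorem turnsW_sound (L : Laws) (r : ℕ → G) {T : ℕ → Fact} (hT : ∀ k, (T k).Holds S r) :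
    ∀ (l : List Turn) (a b : St), okH a.2 = true → turnsW T l a = some b →
      okH b.2 = true ∧ Cong S (val S r a) (val S r b)
  | [], a, b, ha, h => by cases h; exact ⟨ha, Cong.refl _⟩
  | q :: l, a, b, ha, h => by
    simp only [turnsW, hmulF_eq, okHF_eq, goodF_eq, fixF_eq, Bool.cond_eq_ite] at h
    split at h <;> rename_i hc
    swap
    · exact absurd h (by simp)
    simp only [Bool.and_eq_true, Bool.not_eq_true', eqH_iff, Nat.beq_eq, Nat.blt_eq] at hc
    obtain ⟨⟨⟨⟨⟨he, hi⟩, hj⟩, hone⟩, hq⟩, heq⟩ := hc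
    obtain ⟨h1, -, h3⟩ := hT q.1
    obtain ⟨hb, hb'⟩ := turnsW_sound L r hT l (a.1, q.2) b hq h
    refine ⟨hb, Cong.trans ?_ hb'⟩
    have h4 := h3.mul (psi S q.2)
    simp only [he, cond_false] at h4
    have e1 : val S r (T q.1).a * psi S q.2 = val S r a := by
      rw [show (T q.1).a = (a.1, (T q.1).a.2) from Prod.ext hi rfl, val_mul_psi L r _ h1 hq, heq]
    have e2 : val S r (T q.1).b * psi S q.2 = val S r (a.1, q.2) := by
      simp only [val, hj, hone, psi_one, mul_one]
    rwa [e1, e2] at h4

/-- A step of the third generator along an edge. -/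
def edgeW (T : ℕ → Fact) (s : Seg) (a : St) : Option St :=
  let f := T s.k
  bif f.edge && Nat.beq f.a.1 a.1 && goodF s.P && fixF s.P && eqH (hmulF f.a.2 (dLeft s.c s.P)) a.2
  then some (f.b.1, hmulF f.b.2 (dRight s.c s.P)) else none

theorem edgeW_sound (L : Laws) (r : ℕ → G) {T : ℕ → Fact} (hT : ∀ k, (T k).Holds S r) {s : Seg} {a b : St}
    (h : edgeW T s a = some b) : okH b.2 = true ∧ Cong S (val S r a * S.t) (val S r b) := by
  simp only [edgeW, hmulF_eq, okHF_eq, goodF_eq, fixF_eq, Bool.cond_eq_ite] at h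
  split at h <;> rename_i hc
  swap
  · exact absurd h (by simp)
  cases h
  simp only [Bool.and_eq_true, eqH_iff, Nat.beq_eq] at hc
  obtain ⟨⟨⟨⟨he, hi⟩, hP⟩, hf⟩, heq⟩ := hc
  obtain ⟨h1, h2, h3⟩ := hT s.k
  obtain ⟨d1, d2, d3⟩ := d_sound S L hP hf (c := s.c)
  refine ⟨okH_hmul L h2 d2, ?_⟩
  simp only [he, cond_true] at h3
  have e1 : val S r (T s.k).a * S.t * psi S (dRight s.c s.P) = val S r a * S.t := by
    rw [mul_assoc, ← d3, ← mul_assoc, show (T s.k).a = (a.1, (T s.k).a.2) from Prod.ext hi rfl,
      val_mul_psi L r _ h1 d1, heq]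
  have h4 := h3.mul (psi S (dRight s.c s.P))
  rw [e1, val_mul_psi L r _ h2 d2] at h4
  exact h4

/-- A walk along an alternating word. -/
def walkW (T : ℕ → Fact) : List ℕ → List Seg → St → Option St
  | [x], [], a => bif goodF x then some (a.1, hmulF a.2 (0, x)) else none
  | x :: y :: l, s :: ss, a =>
    bif goodF x then
      match turnsW T s.turns (a.1, hmulF a.2 (0, x)) with
      | none => none
      | some a' => match edgeW T s a' with
        | none => none
        | some a'' => walkW T (y :: l) ss a''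
    else none
  | _, _, _ => none

theorem walkW_sound (L : Laws) (r : ℕ → G) {T : ℕ → Fact} (hT : ∀ k, (T k).Holds S r) :
    ∀ (w : List ℕ) (ss : List Seg) (a b : St), okH a.2 = true → walkW T w ss a = some b →
      okH b.2 = true ∧ Cong S (val S r a * altVal S.m S.t w) (val S r b) := by
  intro w
  induction w with
  | nil => intro ss a b _ h; simp [walkW] at h
  | cons x w ih =>
    intro ss a b ha h
    have key : good x = true → okH (hmul a.2 (0, x)) = true ∧
        val S r a * S.m x = val S r (a.1, hmul a.2 (0, x)) := by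
      intro hx
      have hx' : okH (0, x) = true := by
        simp only [okH, Bool.and_eq_true]; exact ⟨by decide +kernel, hx⟩
      refine ⟨okH_hmul L ha hx', ?_⟩
      rw [← val_mul_psi L r _ ha hx']
      simp [psi, e_zero, val]
    cases w with
    | nil =>
      cases ss with
      | cons _ _ => simp [walkW] at h
      | nil =>
        simp only [walkW, hmulF_eq, okHF_eq, goodF_eq, fixF_eq, Bool.cond_eq_ite] at h
        split at h <;> rename_i hx
        swap
        · exact absurd h (by simp)
        cases h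
        obtain ⟨k1, k2⟩ := key hx
        exact ⟨k1, by rw [altVal, k2]; exact Cong.refl _⟩
    | cons y l =>
      cases ss with
      | nil => simp [walkW] at h
      | cons s ss =>
        simp only [walkW, hmulF_eq, okHF_eq, goodF_eq, fixF_eq, Bool.cond_eq_ite] at h
        split at h <;> rename_i hx
        swap
        · exact absurd h (by simp)
        obtain ⟨k1, k2⟩ := key hx
        split at h
        · exact absurd h (by simp)
        rename_i a' h1
        split at h
        · exact absurd h (by simp)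
        rename_i a'' h2
        obtain ⟨o1, c1⟩ := turnsW_sound L r hT _ _ _ k1 h1
        obtain ⟨o2, c2⟩ := edgeW_sound L r hT h2
        obtain ⟨o3, c3⟩ := ih ss a'' b o2 h
        refine ⟨o3, ?_⟩
        rw [altVal, ← mul_assoc, ← mul_assoc, k2]
        exact ((c1.mul S.t).mul _).trans ((c2.mul _).trans c3)

/-- Pointwise inverse codes, in reverse order. -/
def invOk : List ℕ → List ℕ → Bool
  | [x], [y] => good x && good y && Nat.beq (pcomp x y) idP
  | x :: x' :: l, ys => good x && good (ys.getLastD 0) && Nat.beq (pcomp x (ys.getLastD 0)) idP &&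
      !ys.dropLast.isEmpty && invOk (x' :: l) ys.dropLast
  | _, _ => false

theorem altVal_snoc (m : ℕ → G) (t : G) : ∀ (w : List ℕ) (y : ℕ), w ≠ [] →
    altVal m t (w ++ [y]) = altVal m t w * t * m y
  | [], _, h => absurd rfl h
  | [x], y, _ => rfl
  | x :: x' :: l, y, _ => by
    show m x * t * altVal m t ((x' :: l) ++ [y]) = m x * t * altVal m t (x' :: l) * t * m y
    rw [altVal_snoc m t (x' :: l) y (by simp)]
    group

theorem altVal_append (m : ℕ → G) (t : G) : ∀ (v w : List ℕ), v ≠ [] → w ≠ [] →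
    altVal m t (v ++ w) = altVal m t v * t * altVal m t w
  | [], _, h, _ => absurd rfl h
  | [x], w, _, hw => by
    cases w with
    | nil => exact absurd rfl hw
    | cons y l => rfl
  | x :: x' :: l, w, _, hw => by
    show m x * t * altVal m t ((x' :: l) ++ w) = m x * t * altVal m t (x' :: l) * t * altVal m t w
    rw [altVal_append m t (x' :: l) w (by simp) hw]
    group

theorem invOk_sound : ∀ (w ys : List ℕ), invOk w ys = true →
    altVal S.m S.t w * altVal S.m S.t ys = 1
  | [], ys, h => by simp [invOk] at h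
  | [x], [], h => by simp [invOk] at h
  | [x], [y], h => by
    simp only [invOk, Bool.and_eq_true, Nat.beq_eq] at h
    simp only [altVal]
    rw [← S.m_mul h.1.1 h.1.2, h.2, m_idP]
  | [x], _ :: _ :: _, h => by simp [invOk] at h
  | x :: x' :: l, ys, h => by
    simp only [invOk, Bool.and_eq_true, Nat.beq_eq, Bool.not_eq_true', List.isEmpty_eq_false_iff] at h
    obtain ⟨⟨⟨⟨hx, hy⟩, hxy⟩, hne⟩, hrec⟩ := h
    have hys : ys ≠ [] := fun e => hne (by simp [e])
    have ey : ys = ys.dropLast ++ [ys.getLastD 0] := by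
      rw [List.getLastD_eq_getLast?, List.getLast?_eq_some_getLast hys]
      exact (List.dropLast_append_getLast hys).symm
    have ih := invOk_sound (x' :: l) ys.dropLast hrec
    rw [ey, altVal_snoc _ _ _ _ hne, altVal]
    calc S.m x * S.t * altVal S.m S.t (x' :: l) *
          (altVal S.m S.t ys.dropLast * S.t * S.m (ys.getLastD 0))
        = S.m x * S.t * (altVal S.m S.t (x' :: l) * altVal S.m S.t ys.dropLast) * S.t *
            S.m (ys.getLastD 0) := by group
      _ = 1 := by rw [ih, mul_one, mul_assoc (S.m x), S.tsq, mul_one, ← S.m_mul hx hy, hxy, m_idP]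

/-- The derivation of a fact. -/
inductive Prf
  | defn (n : ℕ)
  | rev (k : ℕ)
  | ded (snd : Bool) (pre suf sufI : List ℕ) (st : St) (fs bs : List Seg)
  | loop (snd : Bool) (st : St) (ss : List Seg)
  | via (st : St) (s s' : Seg)
  | mul (k l : ℕ)
  | triv

/-- The two relations. -/
def relOf : Bool → List ℕ
  | false => relA
  | true => relB

theorem relOf_one : ∀ b, altVal S.m S.t (relOf b) = 1
  | false => S.rels.1
  | true => S.rels.2

/-- Equality test of lists. -/
def eqL : List ℕ → List ℕ → Bool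
  | [], [] => true
  | x :: l, y :: k => Nat.beq x y && eqL l k
  | _, _ => false

theorem eqL_iff : ∀ {l k : List ℕ}, eqL l k = true → l = k
  | [], [], _ => rfl
  | [], _ :: _, h => by simp [eqL] at h
  | _ :: _, [], h => by simp [eqL] at h
  | x :: l, y :: k, h => by
    simp only [eqL, Bool.and_eq_true, Nat.beq_eq] at h
    rw [h.1, eqL_iff h.2]

/-- The coset of `s` is fixed by the first entry of the fact. -/
def turnOk (f : Fact) (s e : St) : Bool :=
  !f.edge && okHF f.a.2 && Nat.beq f.a.1 s.1 && Nat.beq e.1 s.1 && eqSt f.b (s.1, one) &&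
    eqH (hmulF f.a.2 e.2) s.2

theorem turnOk_sound (L : Laws) (r : ℕ → G) {f : Fact} {s e : St} (he : okH e.2 = true)
    (h : turnOk f s e = true) (hc : Cong S (val S r s) (val S r e)) : f.Holds S r := by
  simp only [turnOk, hmulF_eq, okHF_eq, goodF_eq, fixF_eq, Bool.and_eq_true, Bool.not_eq_true', eqH_iff, eqSt_iff, Nat.beq_eq] at h
  obtain ⟨⟨⟨⟨⟨h1, h2⟩, h3⟩, h4⟩, h5⟩, h6⟩ := h
  refine ⟨h2, by rw [h5]; exact okH_one, ?_⟩
  simp only [h1, cond_false, h5]
  have hinv := hc.mul (psi S e.2)⁻¹
  have e1 : val S r s * (psi S e.2)⁻¹ = val S r f.a := by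
    simp only [val]
    rw [← h6, psi_hmul S L h2 he, h3]
    group
  have e2 : val S r e * (psi S e.2)⁻¹ = val S r (s.1, one) := by
    simp [val, h4, psi_one]
  rwa [e1, e2] at hinv

/-- The defining steps: new suborbit, old suborbit, pair. -/
abbrev Def : Type := ℕ × ℕ × ℕ × ℕ

/-- A derivation is valid for a fact, given the earlier facts. -/
def stepOk (D : List Def) (T : ℕ → Fact) (f : Fact) : Prf → Bool
  | .defn n =>
    let d := D.getD n (0, 0, one)
    Nat.blt n D.length && f.edge && okHF f.a.2 && eqSt f.a d.2 && eqSt f.b (d.1, one)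
  | .rev k =>
    let g := T k
    g.edge && f.edge && eqSt f.a g.b && eqSt f.b g.a
  | .ded b pre suf sufI st fs bs =>
    okHF st.2 && eqL (pre ++ suf) (relOf b) && !pre.isEmpty && invOk suf sufI &&
      match walkW T pre fs st, walkW T sufI bs st with
      | some X, some Z => f.edge && eqSt f.a X && eqSt f.b Z
      | _, _ => false
  | .loop b st ss =>
    okHF st.2 && match walkW T (relOf b) ss st with
      | some X => turnOk f st X
      | none => false
  | .via st s₁ s₂ =>
    okHF st.2 && match turnsW T s₁.turns st, turnsW T s₂.turns st with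
      | some a₁, some a₂ => match edgeW T s₁ a₁, edgeW T s₂ a₂ with
        | some X₁, some X₂ => turnOk f X₁ X₂
        | _, _ => false
      | _, _ => false
  | .mul k l =>
    let g := T k
    let g' := T l
    !g.edge && !g'.edge && !f.edge && Nat.beq g.a.1 g'.a.1 &&
      eqSt g.b (g.a.1, one) && eqSt g'.b (g.a.1, one) && eqSt f.a (g.a.1, hmulF g.a.2 g'.a.2) &&
      eqSt f.b (g.a.1, one)
  | .triv =>
    !f.edge && okHF f.a.2 && Nat.beq f.a.1 0 && eqSt f.b (0, one)

/-- The defining steps agree with the representatives. -/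
def DefsHold (r : ℕ → G) (D : List Def) : Prop :=
  ∀ d ∈ D, r d.1 = val S r d.2 * S.t

theorem stepOk_sound (L : Laws) {r : ℕ → G} (h0 : r 0 = 1) {D : List Def} (hD : DefsHold (S := S) r D) {T : ℕ → Fact}
    (hT : ∀ k, (T k).Holds S r) {f : Fact} {p : Prf} (h : stepOk D T f p = true) : f.Holds S r := by
  have getT : ∀ k, (T k).Holds S r := fun k => hT k
  cases p with
  | defn n =>
    simp only [stepOk, hmulF_eq, okHF_eq, goodF_eq, fixF_eq, Bool.and_eq_true, Nat.blt_eq, eqSt_iff] at h
    obtain ⟨⟨⟨⟨hn, he⟩, ha⟩, h1⟩, h2⟩ := h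
    rw [List.getD_eq_getElem _ _ hn] at h1 h2
    refine ⟨ha, by rw [h2]; exact okH_one, ?_⟩
    simp only [he, cond_true, h1, h2]
    rw [← hD _ (List.getElem_mem hn)]
    simp only [val, psi_one, mul_one]
    exact Cong.refl _
  | rev k =>
    simp only [stepOk, hmulF_eq, okHF_eq, goodF_eq, fixF_eq, Bool.and_eq_true, Nat.blt_eq, eqSt_iff] at h
    obtain ⟨⟨⟨he, he'⟩, h1⟩, h2⟩ := h
    obtain ⟨o1, o2, c⟩ := getT k
    simp only [he, cond_true] at c
    refine ⟨by rw [h1]; exact o2, by rw [h2]; exact o1, ?_⟩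
    simp only [he', cond_true, h1, h2]
    have := c.symm.mul S.t
    rwa [mul_assoc _ S.t S.t, S.tsq, mul_one] at this
  | ded b pre suf sufI st fs bs =>
    simp only [stepOk, hmulF_eq, okHF_eq, goodF_eq, fixF_eq, Bool.and_eq_true] at h
    obtain ⟨⟨⟨⟨hst, hrel⟩, hpre⟩, hinv⟩, h⟩ := h
    split at h
    swap
    · exact absurd h (by simp)
    rename_i X Z hX hZ
    simp only [Bool.and_eq_true, eqSt_iff] at h
    obtain ⟨⟨he, h1⟩, h2⟩ := h
    obtain ⟨oX, cX⟩ := walkW_sound L r hT _ _ _ _ hst hX
    obtain ⟨oZ, cZ⟩ := walkW_sound L r hT _ _ _ _ hst hZ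
    refine ⟨by rw [h1]; exact oX, by rw [h2]; exact oZ, ?_⟩
    simp only [he, cond_true, h1, h2]
    have hsuf : suf ≠ [] := fun e => by rw [e] at hinv; simp [invOk] at hinv
    have hw : altVal S.m S.t pre * S.t * altVal S.m S.t suf = 1 := by
      rw [← altVal_append _ _ _ _ (by simpa using hpre) hsuf, eqL_iff hrel]
      exact relOf_one b
    have hi := invOk_sound (S := S) _ _ hinv
    have heq : altVal S.m S.t pre * S.t = altVal S.m S.t sufI := by
      rw [← inv_eq_of_mul_eq_one_right hi]
      exact eq_inv_of_mul_eq_one_left hw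
    refine ((cX.mul S.t).symm).trans ?_
    rw [mul_assoc, heq]
    exact cZ
  | loop b st ss =>
    simp only [stepOk, hmulF_eq, okHF_eq, goodF_eq, fixF_eq, Bool.and_eq_true] at h
    obtain ⟨hst, h⟩ := h
    split at h
    swap
    · exact absurd h (by simp)
    rename_i X hX
    obtain ⟨oX, cX⟩ := walkW_sound L r hT _ _ _ _ hst hX
    rw [relOf_one, mul_one] at cX
    exact turnOk_sound L r oX h cX
  | via st s₁ s₂ =>
    simp only [stepOk, hmulF_eq, okHF_eq, goodF_eq, fixF_eq, Bool.and_eq_true] at h
    obtain ⟨hst, h⟩ := h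
    split at h
    swap
    · exact absurd h (by simp)
    rename_i a₁ a₂ h1 h2
    split at h
    swap
    · exact absurd h (by simp)
    rename_i X₁ X₂ h3 h4
    obtain ⟨oa₁, ca₁⟩ := turnsW_sound L r hT _ _ _ hst h1
    obtain ⟨oa₂, ca₂⟩ := turnsW_sound L r hT _ _ _ hst h2
    obtain ⟨oX₁, cX₁⟩ := edgeW_sound L r hT h3
    obtain ⟨oX₂, cX₂⟩ := edgeW_sound L r hT h4
    exact turnOk_sound L r oX₂ h
      ((cX₁.symm.trans ((ca₁.symm.trans ca₂).mul S.t)).trans cX₂)
  | mul k l =>
    simp only [stepOk, hmulF_eq, okHF_eq, goodF_eq, fixF_eq, Bool.and_eq_true, Bool.not_eq_true', Nat.blt_eq, Nat.beq_eq, eqSt_iff] at h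
    obtain ⟨⟨⟨⟨⟨⟨⟨e1, e2⟩, e3⟩, hi⟩, b1⟩, b2⟩, a3⟩, b3⟩ := h
    obtain ⟨o1, -, c1⟩ := getT k
    obtain ⟨o2, -, c2⟩ := getT l
    simp only [e1, e2, cond_false] at c1 c2
    generalize T k = g at *
    generalize T l = g' at *
    refine ⟨by rw [a3]; exact okH_hmul L o1 o2, by rw [b3]; exact okH_one, ?_⟩
    simp only [e3, cond_false, a3, b3]
    rw [← val_mul_psi L r g.a.1 o1 o2]
    have h1 := c1.mul (psi S g'.a.2)
    have x1 : val S r g.b * psi S g'.a.2 = val S r g'.a := by
      simp [val, b1, psi_one, hi]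
    have x2 : val S r g'.b = val S r (g.a.1, one) := by rw [b2]
    rw [x1] at h1
    rw [x2] at c2
    exact h1.trans c2
  | triv =>
    simp only [stepOk, hmulF_eq, okHF_eq, goodF_eq, fixF_eq, Bool.and_eq_true, Bool.not_eq_true', Nat.beq_eq, eqSt_iff] at h
    obtain ⟨⟨⟨he, ha⟩, hi⟩, hb⟩ := h
    refine ⟨ha, by rw [hb]; exact okH_one, ?_⟩
    simp only [he, cond_false, hb, val, hi, h0, psi_one, one_mul, mul_one, Cong, inv_one]
    exact psi_mem_base S ha

/-- A table in blocks of 32. -/
def look (A : List (List Fact)) (k : ℕ) : Fact :=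
  (A.getD (Nat.div k 32) []).getD (Nat.mod k 32) dflt

/-- The part of a table below `n`. -/
def below (A : List (List Fact)) (n k : ℕ) : Fact :=
  bif Nat.blt k n then look A k else dflt

/-- Equality test of facts. -/
def eqF (f g : Fact) : Bool :=
  (bif f.edge then g.edge else !g.edge) && eqSt f.a g.a && eqSt f.b g.b

theorem eqF_iff {f g : Fact} (h : eqF f g = true) : f = g := by
  obtain ⟨e, a, b⟩ := f
  obtain ⟨e', a', b'⟩ := g
  simp only [eqF, Bool.and_eq_true, eqSt_iff] at h
  obtain ⟨⟨h1, rfl⟩, rfl⟩ := h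
  cases e <;> cases e' <;> simp_all

/-- The derivations numbered from `n` on are valid, given the facts with smaller numbers. -/
def allOk (D : List Def) (A : List (List Fact)) : ℕ → List (Fact × Prf) → Bool
  | _, [] => true
  | n, fp :: l => eqF (look A n) fp.1 && stepOk D (below A n) fp.1 fp.2 && allOk D A (Nat.succ n) l

theorem below_holds {r : ℕ → G} {A : List (List Fact)} {n : ℕ}
    (h : ∀ k < n, (look A k).Holds S r) (k : ℕ) : (below A n k).Holds S r := by
  rw [below]
  cases hk : Nat.blt k n
  · exact dflt_holds S r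
  · exact h k (Nat.blt_eq.mp hk)

theorem allOk_sound (L : Laws) {r : ℕ → G} (h0 : r 0 = 1) {D : List Def} (hD : DefsHold (S := S) r D)
    {A : List (List Fact)} : ∀ (l : List (Fact × Prf)) (n : ℕ), (∀ k < n, (look A k).Holds S r) →
      allOk D A n l = true → ∀ k < n + l.length, (look A k).Holds S r
  | [], n, hn, _, k, hk => hn k (by simpa using hk)
  | fp :: l, n, hn, h, k, hk => by
    simp only [allOk, Bool.and_eq_true] at h
    refine allOk_sound L h0 hD l (n + 1) (fun q hq => ?_) h.2 k (by simp at hk; omega)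
    rcases Nat.lt_succ_iff_lt_or_eq.mp hq with hq | rfl
    · exact hn q hq
    · rw [eqF_iff h.1.1]
      exact stepOk_sound L h0 hD (below_holds hn) h.1.2

end Cfsg.Agent.J4XCert18
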