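import Mathlib
import Cfsg.Agent.Lib.J4XCert18

/-!
Counting from closed tables: the cosets of the subgroup of shape 2^11 : M24 fall into seven suborbits of
known sizes, so the group is finite and the index is known.
-/

set_option autoImplicit false
set_option maxRecDepth 100000
set_option linter.unusedSectionVars false

namespace Cfsg.Agent.J4XCount4

open Cfsg.Agent.GolayBasic Cfsg.Agent.GolayPerm Cfsg.Agent.GolayEnumComp
open Cfsg.Agent.J4XBase18 Cfsg.Agent.J4XCert18

universe u

/-- a pair whose permutation code is written canonically -/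
def canH (h : ℕ × ℕ) : Bool := okH h && Nat.beq (pcomp h.2 idP) h.2

/-- the sizes of the seven suborbits -/
def sizes : List ℕ := [1, 15180, 3400320, 32643072, 28336, 54405120, 82575360]

/-- no repetitions -/
def noDup : List ℕ → Bool
  | [] => true
  | a :: l => !l.any (Nat.beq a) && noDup l

/-- the pair of a fact about a fixed coset -/
def pairOK (T : ℕ → Fact) (i k : ℕ) : Bool :=
  let f := T k
  !f.edge && eqSt f.b (i, one) && Nat.beq f.a.1 i

/-- the pair of a fact -/
def pairAt (T : ℕ → Fact) (k : ℕ) : ℕ × ℕ := (T k).a.2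

/-- the transversal levels -/
def levelsOK (T : ℕ → Fact) (i : ℕ) : List ℕ → List (ℕ × List ℕ) → Bool
  | _, [] => true
  | fixed, (b, ks) :: l => Nat.blt b 24 &&
      ks.all (fun k => pairOK T i k && fixed.all fun c => Nat.beq (pimg (pairAt T k).2 c) c) &&
      noDup (b :: ks.map fun k => pimg (pairAt T k).2 b) && levelsOK T i (b :: fixed) l

/-- the echelon list of vectors -/
def evecsOK (T : ℕ → Fact) (i : ℕ) : List ℕ → Bool
  | [] => true
  | k :: l =>
      pairOK T i k && Nat.beq (pairAt T k).2 idP && !Nat.beq (pairAt T k).1 0 &&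
      (l.all fun j => Nat.blt (pairAt T j).1 (2 ^ Nat.log2 (pairAt T k).1)) && evecsOK T i l

/-- the number of fixing elements shown by an entry -/
def lowB (e : List (ℕ × List ℕ) × List ℕ) : ℕ :=
  e.1.foldr (fun l r => (l.2.length + 1) * r) (2 ^ e.2.length)

/-- the check of one suborbit -/
def stabOK (T : ℕ → Fact) (i : ℕ) (e : List (ℕ × List ℕ) × List ℕ) : Bool :=
  levelsOK T i [] e.1 && evecsOK T i e.2 && Nat.beq (sizes.getD i 0 * lowB e) (2048 * 244823040)

theorem nodup_of_noDup : ∀ {l : List ℕ}, noDup l = true → l.Nodup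
  | [], _ => List.nodup_nil
  | a :: l, h => by
    rw [noDup, Bool.and_eq_true, Bool.not_eq_true', List.any_eq_false] at h
    refine List.nodup_cons.2 ⟨fun ha => h.1 a ha (Nat.beq_refl a), nodup_of_noDup h.2⟩

theorem pcomp_canon (P Q : ℕ) : pcomp (pcomp P Q) idP = pcomp P Q := by
  show horner _ = horner _
  refine congrArg horner (List.map_congr_left fun i hi => ?_)
  rw [pimg_idP (mem_pts.1 hi), pimg_pcomp P Q (mem_pts.1 hi)]

theorem horner_lt : ∀ l : List ℕ, (∀ a ∈ l, a < 32) → horner l < 32 ^ l.length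
  | [], _ => by simp [horner]
  | a :: l, h => by
    have ha : a < 32 := h a List.mem_cons_self
    have := horner_lt l fun b hb => h b (List.mem_cons_of_mem _ hb)
    rw [horner, List.length_cons, pow_succ]
    omega

theorem pcomp_lt (P Q : ℕ) : pcomp P Q < 32 ^ 24 := by
  have h : (pts.map fun i => pimg P (pimg Q i)).length = 24 := rfl
  exact (h ▸ horner_lt _ fun a ha => by
    obtain ⟨i, -, rfl⟩ := List.mem_map.1 ha
    exact pimg_lt_32 _ _)

theorem good_idP : good idP = true := by decide +kernel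

theorem inE_zero : inE 0 = true := by decide +kernel

theorem vact_idP_zero : vact idP 0 = 0 := by decide +kernel

section
variable {G : Type u} [Group G] (S : Setup G)

/-- all permutation values come from codes -/
def MGood : Prop := ∀ P, ∃ Q, good Q = true ∧ S.m Q = S.m P

/-- distinct canonical pairs have distinct values -/
def PsiInj : Prop := ∀ h k, canH h = true → canH k = true → psi S h = psi S k → h = k

theorem m_canon {P : ℕ} (hP : good P = true) : S.m (pcomp P idP) = S.m P := by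
  rw [S.m_mul hP good_idP, m_idP, mul_one]

theorem exists_canon (L : Laws) {h : ℕ × ℕ} (hh : okH h = true) :
    ∃ k, canH k = true ∧ psi S k = psi S h := by
  simp only [okH, Bool.and_eq_true] at hh
  refine ⟨(h.1, pcomp h.2 idP), ?_, ?_⟩
  · simp only [canH, okH, Bool.and_eq_true, Nat.beq_eq]
    exact ⟨⟨hh.1, L.good_mul hh.2 good_idP⟩, pcomp_canon _ _⟩
  · simp only [psi]
    rw [m_canon S hh.2]

theorem canH_okH {h : ℕ × ℕ} (hh : canH h = true) : okH h = true := by
  rw [canH, Bool.and_eq_true] at hh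
  exact hh.1

theorem finite_canH : {h : ℕ × ℕ | canH h = true}.Finite := by
  refine ((Set.finite_Iio 4096).prod (Set.finite_Iio (32 ^ 24))).subset fun h hh => ?_
  simp only [Set.mem_setOf_eq, canH, okH, inE, Bool.and_eq_true, Nat.beq_eq, decide_eq_true_eq] at hh
  exact ⟨hh.1.1.1, by
    show h.2 < 32 ^ 24
    rw [← hh.2]
    exact pcomp_lt _ _⟩

/-- every element of the subgroup is the value of a canonical pair -/
theorem exists_pair (L : Laws) (hm : MGood S) {g : G} (hg : g ∈ base S) :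
    ∃ h, canH h = true ∧ psi S h = g := by
  let W : Set G := psi S '' {h | canH h = true}
  have hfin : W.Finite := finite_canH.image _
  have hone : (1 : G) ∈ W := ⟨one, by decide +kernel, psi_one S⟩
  have hmul : ∀ a ∈ W, ∀ b ∈ W, a * b ∈ W := by
    rintro _ ⟨h, hh, rfl⟩ _ ⟨k, hk, rfl⟩
    obtain ⟨c, hc, e⟩ := exists_canon S L (okH_hmul L (canH_okH hh) (canH_okH hk))
    exact ⟨c, hc, by rw [e, psi_hmul S L (canH_okH hh) (canH_okH hk)]⟩
  have hinv : ∀ a ∈ W, a⁻¹ ∈ W := by
    intro a ha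
    have hpow : ∀ n : ℕ, a ^ n ∈ W := fun n => by
      induction n with
      | zero => simpa using hone
      | succ n ih => rw [pow_succ]; exact hmul _ ih _ ha
    have hfo : IsOfFinOrder a := by
      by_contra hc
      exact (Set.infinite_range_of_injective (injective_pow_iff_not_isOfFinOrder.2 hc))
        (hfin.subset fun x ⟨n, hn⟩ => hn ▸ hpow n)
    obtain ⟨n, hn, he⟩ := isOfFinOrder_iff_pow_eq_one.1 hfo
    have : a⁻¹ = a ^ (n - 1) := by
      refine inv_eq_of_mul_eq_one_right ?_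
      rw [← pow_succ', Nat.sub_add_cancel hn, he]
    exact this ▸ hpow _
  induction hg using Subgroup.closure_induction with
  | mem x hx =>
    rcases hx with ⟨P, rfl⟩ | ⟨v, hv, rfl⟩
    · obtain ⟨Q, hQ, e⟩ := hm P
      have hok : okH (0, Q) = true := by simp [okH, inE_zero, hQ]
      obtain ⟨c, hc, e'⟩ := exists_canon S L hok
      exact ⟨c, hc, by rw [e', psi, e_zero, one_mul, e]⟩
    · have hok : okH (v, idP) = true := by simp [okH, hv, good_idP]
      obtain ⟨c, hc, e'⟩ := exists_canon S L hok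
      exact ⟨c, hc, by rw [e', psi, m_idP, mul_one]⟩
  | one => exact hone
  | mul x y _ _ hx hy => exact hmul x hx y hy
  | inv x _ hx => exact hinv x hx

theorem finite_base (L : Laws) (hm : MGood S) : Finite ↥(base S) := by
  refine Set.Finite.to_subtype ((finite_canH.image (psi S)).subset fun g hg => ?_)
  obtain ⟨h, hh, e⟩ := exists_pair S L hm hg
  exact ⟨h, hh, e⟩

/-- the suborbit of a representative -/
def orb (r : ℕ → G) (i : ℕ) : Set (G ⧸ base S) :=
  MulAction.orbit ↥(base S) ((QuotientGroup.mk (r i)⁻¹ : G ⧸ base S))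

theorem mk_eq_iff {x y : G} :
    (QuotientGroup.mk x⁻¹ : G ⧸ base S) = QuotientGroup.mk y⁻¹ ↔ Cong S x y := by
  rw [QuotientGroup.eq, inv_inv]
  rfl

/-- every element lies in one of the double cosets -/
theorem cover (L : Laws) (hm : MGood S) (r : ℕ → G) (hr0 : r 0 = 1)
    (hedge : ∀ i < 7, ∀ h, okH h = true → ∃ j < 7, ∃ h', okH h' = true ∧
      Cong S (val S r (i, h) * S.t) (val S r (j, h'))) (g : G) :
    ∃ i < 7, ∃ b ∈ base S, Cong S g (r i * b) := by
  let R : G → Prop := fun x => ∃ i < 7, ∃ h, okH h = true ∧ Cong S x (val S r (i, h))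
  have hB : ∀ b ∈ base S, ∀ x, R x → R (x * b) := by
    rintro b hb x ⟨i, hi, h, hh, hc⟩
    obtain ⟨k, hk, rfl⟩ := exists_pair S L hm hb
    refine ⟨i, hi, hmul h k, okH_hmul L hh (canH_okH hk), ?_⟩
    rw [← val_mul_psi L r i hh (canH_okH hk)]
    exact hc.mul _
  have ht : ∀ x, R x → R (x * S.t) := by
    rintro x ⟨i, hi, h, hh, hc⟩
    obtain ⟨j, hj, h', hh', hc'⟩ := hedge i hi h hh
    exact ⟨j, hj, h', hh', (hc.mul _).trans hc'⟩
  have key : (∀ x, R x → R (x * g)) ∧ ∀ x, R x → R (x * g⁻¹) := by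
    have hg : g ∈ Subgroup.closure (Set.range S.m ∪ {x | ∃ v, inE v = true ∧ x = S.e v} ∪ {S.t}) :=
      S.gen.symm ▸ Subgroup.mem_top g
    induction hg using Subgroup.closure_induction with
    | mem y hy =>
      rcases hy with hy | hy
      · have hyb : y ∈ base S := Subgroup.subset_closure hy
        exact ⟨hB y hyb, hB _ (inv_mem hyb)⟩
      · rw [Set.mem_singleton_iff] at hy
        subst hy
        exact ⟨ht, by rw [inv_eq_of_mul_eq_one_right S.tsq]; exact ht⟩
    | one => exact ⟨fun x hx => by rwa [mul_one], fun x hx => by rwa [inv_one, mul_one]⟩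
    | mul a b _ _ ha hb =>
      exact ⟨fun x hx => by rw [← mul_assoc]; exact hb.1 _ (ha.1 x hx),
        fun x hx => by rw [mul_inv_rev, ← mul_assoc]; exact ha.2 _ (hb.2 x hx)⟩
    | inv a _ ha => exact ⟨ha.2, by rw [inv_inv]; exact ha.1⟩
  obtain ⟨i, hi, h, hh, hc⟩ := key.1 1 ⟨0, by norm_num, one, okH_one, by
    simp [val, hr0, psi_one, Cong]⟩
  rw [one_mul] at hc
  exact ⟨i, hi, _, psi_mem_base S hh, hc⟩

theorem orb_cover (L : Laws) (hm : MGood S) (r : ℕ → G) (hr0 : r 0 = 1)
    (hedge : ∀ i < 7, ∀ h, okH h = true → ∃ j < 7, ∃ h', okH h' = true ∧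
      Cong S (val S r (i, h) * S.t) (val S r (j, h'))) (q : G ⧸ base S) :
    ∃ i < 7, q ∈ orb S r i := by
  obtain ⟨x, rfl⟩ := QuotientGroup.mk_surjective q
  obtain ⟨i, hi, b, hb, hc⟩ := cover S L hm r hr0 hedge x⁻¹
  refine ⟨i, hi, ⟨b, hb⟩⁻¹, ?_⟩
  have h := (mk_eq_iff S).2 hc
  rw [inv_inv, mul_inv_rev] at h
  rw [h]
  rfl

/-! ### the fixing elements -/

/-- the combinations of an echelon list -/
def vset : List ℕ → Finset ℕ
  | [] => {0}
  | v :: l => vset l ∪ (vset l).image (v ^^^ ·)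

/-- the products along the levels -/
def gset (vs : List ℕ) : List (List (ℕ × ℕ)) → Finset (ℕ × ℕ)
  | [] => (vset vs).image fun v => (v, idP)
  | ds :: l => ((one :: ds).toFinset ×ˢ gset vs l).image fun x => hmul x.1 x.2

/-- a pair fixing the coset -/
def Fixes (r : ℕ → G) (i : ℕ) (d : ℕ × ℕ) : Prop :=
  okH d = true ∧ r i * psi S d * (r i)⁻¹ ∈ base S

theorem pairOK_fixes (r : ℕ → G) {T : ℕ → Fact} (hT : ∀ k, (T k).Holds S r) {i k : ℕ}
    (h : pairOK T i k = true) : Fixes S r i (pairAt T k) := by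
  simp only [pairOK, Bool.and_eq_true, Bool.not_eq_true', Nat.beq_eq, eqSt_iff] at h
  obtain ⟨⟨he, hb⟩, ha⟩ := h
  obtain ⟨h1, -, h3⟩ := hT k
  refine ⟨h1, ?_⟩
  simp only [he, cond_false, Cong, val, hb, ha, psi_one, mul_one] at h3
  exact h3

theorem Fixes.mul (L : Laws) {r : ℕ → G} {i : ℕ} {a b : ℕ × ℕ} (ha : Fixes S r i a)
    (hb : Fixes S r i b) : Fixes S r i (hmul a b) := by
  refine ⟨okH_hmul L ha.1 hb.1, ?_⟩
  rw [psi_hmul S L ha.1 hb.1]
  have := mul_mem ha.2 hb.2
  rwa [show r i * psi S a * (r i)⁻¹ * (r i * psi S b * (r i)⁻¹) = r i * (psi S a * psi S b) * (r i)⁻¹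
    by group] at this

theorem fixes_one (r : ℕ → G) (i : ℕ) : Fixes S r i one :=
  ⟨okH_one, by rw [psi_one, mul_one, mul_inv_cancel]; exact one_mem _⟩

theorem vset_spec (L : Laws) (r : ℕ → G) {T : ℕ → Fact} (hT : ∀ k, (T k).Holds S r) {i : ℕ} :
    ∀ ks : List ℕ, evecsOK T i ks = true →
      (vset (ks.map fun k => (pairAt T k).1)).card = 2 ^ ks.length ∧
      (∀ v ∈ vset (ks.map fun k => (pairAt T k).1), Fixes S r i (v, idP)) ∧
      ∀ n, (∀ k ∈ ks, (pairAt T k).1 < 2 ^ n) → ∀ v ∈ vset (ks.map fun k => (pairAt T k).1), v < 2 ^ n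
  | [], _ => ⟨rfl, fun v hv => by
      rw [List.map_nil, vset, Finset.mem_singleton] at hv
      subst hv
      exact fixes_one S r i, fun n _ v hv => by
      rw [List.map_nil, vset, Finset.mem_singleton] at hv
      subst hv
      exact Nat.two_pow_pos n⟩
  | k :: l, h => by
    simp only [evecsOK, Bool.and_eq_true, Nat.beq_eq, Bool.not_eq_true', List.all_eq_true,
      Nat.blt_eq] at h
    obtain ⟨⟨⟨⟨hk, hP⟩, hv0⟩, hlt⟩, hl⟩ := h
    obtain ⟨hc, hf, hb⟩ := vset_spec L r hT l hl
    set v := (pairAt T k).1 with hv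
    have hv0' : v ≠ 0 := fun e => by rw [e] at hv0; exact absurd hv0 (by decide)
    have hsmall := hb _ hlt
    have hbit : v.testBit (Nat.log2 v) = true := by
      have h1 := Nat.log2_self_le hv0'
      have h2 : v < 2 ^ (Nat.log2 v + 1) := Nat.lt_log2_self
      rw [pow_succ] at h2
      rw [Nat.testBit_eq_decide_div_mod_eq, decide_eq_true_eq,
        show v / 2 ^ Nat.log2 v = 1 from Nat.div_eq_of_lt_le (by omega) (by omega)]
    have hdis : Disjoint (vset (l.map fun k => (pairAt T k).1))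
        ((vset (l.map fun k => (pairAt T k).1)).image (v ^^^ ·)) := by
      rw [Finset.disjoint_left]
      intro a ha ha'
      obtain ⟨b, hb', rfl⟩ := Finset.mem_image.1 ha'
      have h1 := Nat.testBit_lt_two_pow (hsmall _ ha)
      rw [Nat.testBit_xor, hbit, Nat.testBit_lt_two_pow (hsmall _ hb')] at h1
      simp at h1
    have hfk : Fixes S r i (v, idP) := by
      have := pairOK_fixes S r hT hk
      rwa [show pairAt T k = (v, idP) from Prod.ext hv.symm hP] at this
    refine ⟨?_, ?_, ?_⟩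
    · rw [List.map_cons, vset, Finset.card_union_of_disjoint hdis,
        Finset.card_image_of_injective _ (fun a b e => Nat.xor_right_injective e), hc, List.length_cons,
        pow_succ]
      omega
    · intro a ha
      rw [List.map_cons, vset, Finset.mem_union, Finset.mem_image] at ha
      rcases ha with ha | ⟨b, hb', rfl⟩
      · exact hf a ha
      · obtain ⟨hbok, hbfix⟩ := hf b hb'
        obtain ⟨hvok, hvfix⟩ := hfk
        simp only [okH, Bool.and_eq_true] at hbok hvok
        refine ⟨Bool.and_eq_true_iff.2 ⟨L.inE_xor hvok.1 hbok.1, good_idP⟩, ?_⟩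
        simp only [psi, m_idP, mul_one] at hbfix hvfix ⊢
        rw [S.e_mul hvok.1 hbok.1]
        have := mul_mem hvfix hbfix
        rwa [show r i * S.e v * (r i)⁻¹ * (r i * S.e b * (r i)⁻¹) = r i * (S.e v * S.e b) * (r i)⁻¹
          by group] at this
    · intro n hn a ha
      have hvn : v < 2 ^ n := hn k List.mem_cons_self
      have hln := hb n fun j hj => hn j (List.mem_cons_of_mem _ hj)
      rw [List.map_cons, vset, Finset.mem_union, Finset.mem_image] at ha
      rcases ha with ha | ⟨b, hb', rfl⟩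
      · exact hln a ha
      · exact Nat.xor_lt_two_pow hvn (hln b hb')

theorem pimg_prod {d a : ℕ × ℕ} {c : ℕ} (hc : c < 24) :
    pimg (hmul d a).2 c = pimg d.2 (pimg a.2 c) :=
  pimg_pcomp _ _ hc

theorem gset_spec (L : Laws) (hinj : PsiInj S) (r : ℕ → G) {T : ℕ → Fact}
    (hT : ∀ k, (T k).Holds S r) {i : ℕ} {vs : List ℕ} (hvs : evecsOK T i vs = true) :
    ∀ (ls : List (ℕ × List ℕ)) (fixed : List ℕ), (∀ c ∈ fixed, c < 24) →
      levelsOK T i fixed ls = true →
      ∀ X, X = gset (vs.map fun k => (pairAt T k).1) (ls.map fun l => l.2.map (pairAt T)) →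
        X.card = ls.foldr (fun l n => (l.2.length + 1) * n) (2 ^ vs.length) ∧
        (∀ d ∈ X, Fixes S r i d ∧ canH d = true) ∧
        ∀ d ∈ X, ∀ c ∈ fixed, pimg d.2 c = c
  | [], fixed, hfix, _, X, hX => by
    subst hX
    obtain ⟨hc, hf, -⟩ := vset_spec S L r hT vs hvs
    refine ⟨?_, ?_, ?_⟩
    · rw [List.map_nil, gset, Finset.card_image_of_injective _ (fun a b e => congrArg Prod.fst e), hc,
        List.foldr_nil]
    · intro d hd
      rw [List.map_nil, gset, Finset.mem_image] at hd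
      obtain ⟨v, hv, rfl⟩ := hd
      refine ⟨hf v hv, ?_⟩
      simp only [canH, Bool.and_eq_true, Nat.beq_eq]
      exact ⟨(hf v hv).1, by decide +kernel⟩
    · intro d hd c hc'
      rw [List.map_nil, gset, Finset.mem_image] at hd
      obtain ⟨v, -, rfl⟩ := hd
      exact pimg_idP (hfix c hc')
  | (b, ks) :: ls, fixed, hfix, h, X, hX => by
    classical
    subst hX
    simp only [levelsOK, Bool.and_eq_true, Nat.blt_eq, List.all_eq_true, Nat.beq_eq] at h
    obtain ⟨⟨⟨hb, hks⟩, hnd⟩, hls⟩ := h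
    obtain ⟨hc, hf, hp⟩ := gset_spec L hinj r hT hvs ls (b :: fixed)
      (by simpa using ⟨hb, hfix⟩) hls _ rfl
    set Y := gset (vs.map fun k => (pairAt T k).1) (ls.map fun l => l.2.map (pairAt T)) with hY
    set ds := one :: ks.map (pairAt T) with hds
    have himg : (ds.map fun d => pimg d.2 b).Nodup := by
      have := nodup_of_noDup hnd
      rw [hds, List.map_cons, List.map_map, show pimg one.2 b = b from pimg_idP hb]
      exact this
    have hdfix : ∀ d ∈ ds, Fixes S r i d ∧ ∀ c ∈ fixed, pimg d.2 c = c := by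
      intro d hd
      rcases List.mem_cons.1 hd with rfl | hd
      · exact ⟨fixes_one S r i, fun c hc' => pimg_idP (hfix c hc')⟩
      · obtain ⟨k, hk, rfl⟩ := List.mem_map.1 hd
        exact ⟨pairOK_fixes S r hT (hks k hk).1, (hks k hk).2⟩
    have hinjOn : Set.InjOn (fun x : (ℕ × ℕ) × (ℕ × ℕ) => hmul x.1 x.2)
        ↑(ds.toFinset ×ˢ Y) := by
      rintro ⟨d, a⟩ hx ⟨d', a'⟩ hx' e
      simp only [Finset.coe_product, Set.mem_prod, Finset.mem_coe, List.mem_toFinset] at hx hx' e
      have e1 : pimg d.2 b = pimg d'.2 b := by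
        have := congrArg (fun h : ℕ × ℕ => pimg h.2 b) e
        simp only [pimg_prod hb, hp a hx.2 b List.mem_cons_self, hp a' hx'.2 b List.mem_cons_self] at this
        exact this
      obtain rfl : d = d' := List.inj_on_of_nodup_map himg hx.1 hx'.1 e1
      have e2 := congrArg (psi S) e
      simp only [psi_hmul S L (hdfix d hx.1).1.1 (hf a hx.2).1.1,
        psi_hmul S L (hdfix d hx.1).1.1 (hf a' hx'.2).1.1, mul_left_cancel_iff] at e2
      rw [hinj a a' (hf a hx.2).2 (hf a' hx'.2).2 e2]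
    refine ⟨?_, ?_, ?_⟩
    · rw [List.map_cons, gset, Finset.card_image_of_injOn hinjOn, Finset.card_product, hc,
        List.foldr_cons, List.toFinset_card_of_nodup (List.Nodup.of_map _ himg), hds, List.length_cons,
        List.length_map]
    · intro x hx
      rw [List.map_cons, gset, Finset.mem_image] at hx
      obtain ⟨⟨d, a⟩, hda, rfl⟩ := hx
      rw [Finset.mem_product, List.mem_toFinset] at hda
      refine ⟨(hdfix d hda.1).1.mul S L (hf a hda.2).1, ?_⟩
      simp only [canH, Bool.and_eq_true, Nat.beq_eq]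
      exact ⟨okH_hmul L (hdfix d hda.1).1.1 (hf a hda.2).1.1, pcomp_canon _ _⟩
    · intro x hx c hc'
      rw [List.map_cons, gset, Finset.mem_image] at hx
      obtain ⟨⟨d, a⟩, hda, rfl⟩ := hx
      rw [Finset.mem_product, List.mem_toFinset] at hda
      rw [pimg_prod (hfix c hc'), hp a hda.2 c (List.mem_cons_of_mem _ hc'), (hdfix d hda.1).2 c hc']

/-- the bound on one suborbit -/
theorem orb_le (L : Laws) (hm : MGood S) (hinj : PsiInj S)
    (hB : Nat.card ↥(base S) = 2048 * 244823040) (r : ℕ → G) {T : ℕ → Fact}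
    (hT : ∀ k, (T k).Holds S r) {i : ℕ} {e : List (ℕ × List ℕ) × List ℕ} (h : stabOK T i e = true) :
    (orb S r i).ncard ≤ sizes.getD i 0 := by
  classical
  haveI := finite_base S L hm
  simp only [stabOK, Bool.and_eq_true, Nat.beq_eq] at h
  obtain ⟨⟨hl, hv⟩, hN⟩ := h
  obtain ⟨hc, hf, -⟩ := gset_spec S L hinj r hT hv e.1 [] (by simp) hl _ rfl
  set q : G ⧸ base S := QuotientGroup.mk (r i)⁻¹
  set X := gset (e.2.map fun k => (pairAt T k).1) (e.1.map fun l => l.2.map (pairAt T))
  have hfixq : ∀ d (hd : d ∈ X), (⟨psi S d, psi_mem_base S (hf d hd).1.1⟩ : ↥(base S)) ∈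
      MulAction.stabilizer ↥(base S) q := by
    intro d hd
    rw [MulAction.mem_stabilizer_iff]
    show (QuotientGroup.mk (psi S d * (r i)⁻¹) : G ⧸ base S) = QuotientGroup.mk (r i)⁻¹
    rw [QuotientGroup.eq]
    have := inv_mem (hf d hd).1.2
    simpa [mul_assoc] using this
  let f : {d // d ∈ X} → ↥(MulAction.stabilizer ↥(base S) q) := fun d => ⟨_, hfixq d.1 d.2⟩
  have hfi : Function.Injective f := fun a b e' => Subtype.ext
    (hinj _ _ (hf a.1 a.2).2 (hf b.1 b.2).2 (congrArg (fun x : ↥(MulAction.stabilizer ↥(base S) q) => (x.1 : G)) e'))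
  have hlow : lowB e ≤ Nat.card ↥(MulAction.stabilizer ↥(base S) q) := by
    refine le_trans (le_of_eq ?_) (Nat.card_le_card_of_injective f hfi)
    rw [Nat.card_eq_fintype_card, Fintype.card_coe, hc]
    rfl
  have hcard := Subgroup.card_eq_card_quotient_mul_card_subgroup (MulAction.stabilizer ↥(base S) q)
  rw [← Nat.card_congr (MulAction.orbitEquivQuotientStabilizer ↥(base S) q), hB, ← hN,
    Nat.card_coe_set_eq] at hcard
  have hpos : 0 < lowB e := Nat.pos_of_ne_zero fun h0 => by rw [h0, Nat.mul_zero] at hN; norm_num at hN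
  refine Nat.le_of_mul_le_mul_right ?_ hpos
  rw [hcard]
  exact Nat.mul_le_mul_left _ hlow

/-- the count -/
theorem main (L : Laws) (hm : MGood S) (hinj : PsiInj S)
    (hB : Nat.card ↥(base S) = 2048 * 244823040)
    (hdiv : Finite G → 173067389 * (2048 * 244823040) ∣ Nat.card G) (r : ℕ → G) (hr0 : r 0 = 1)
    (hedge : ∀ i < 7, ∀ h, okH h = true → ∃ j < 7, ∃ h', okH h' = true ∧
      Cong S (val S r (i, h) * S.t) (val S r (j, h')))
    {T : ℕ → Fact} (hT : ∀ k, (T k).Holds S r) (data : List (List (ℕ × List ℕ) × List ℕ))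
    (hdata : ∀ i < 7, stabOK T i (data.getD i ([], [])) = true) :
    Finite G ∧ (base S).index = 173067389 ∧ Nat.card G = 173067389 * (2048 * 244823040) ∧
      (∀ i < 7, (orb S r i).ncard = sizes.getD i 0) ∧
      (∀ q, ∃ i < 7, q ∈ orb S r i) ∧
      ∀ i < 7, ∀ j < 7, orb S r i = orb S r j → i = j := by
  classical
  haveI := finite_base S L hm
  have hcov := orb_cover S L hm r hr0 hedge
  haveI hQ : Finite (G ⧸ base S) := by
    refine Set.finite_univ_iff.1 ((Set.Finite.biUnion (t := fun i => orb S r i) (Set.finite_Iio 7)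
      fun i _ => ?_).subset fun q _ => ?_)
    · exact Set.finite_range _
    · obtain ⟨i, hi, hq⟩ := hcov q
      exact Set.mem_biUnion (Set.mem_Iio.2 hi) hq
  haveI hG : Finite G := Finite.of_subgroup_quotient (base S)
  have hsum : (base S).index ≤ ∑ i ∈ Finset.range 7, (orb S r i).ncard := by
    have hu : (Set.univ : Set (G ⧸ base S)) = ⋃ i ∈ Finset.range 7, orb S r i := by
      refine (Set.eq_univ_of_forall fun q => ?_).symm
      obtain ⟨i, hi, hq⟩ := hcov q
      exact Set.mem_biUnion (Finset.mem_range.2 hi) hq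
    rw [Subgroup.index, ← Set.ncard_univ, hu]
    exact Finset.set_ncard_biUnion_le _ _
  have hle : ∀ i < 7, (orb S r i).ncard ≤ sizes.getD i 0 := fun i hi =>
    orb_le S L hm hinj hB r hT (hdata i hi)
  have hs : ∑ i ∈ Finset.range 7, sizes.getD i 0 = 173067389 := by decide +kernel
  have hlow : 173067389 ≤ (base S).index := by
    have h1 := hdiv hG
    rw [← Subgroup.card_mul_index (base S), hB, mul_comm (173067389 : ℕ)] at h1
    exact Nat.le_of_dvd (Nat.pos_of_ne_zero Subgroup.index_ne_zero_of_finite)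
      ((Nat.mul_dvd_mul_iff_left (by norm_num)).1 h1)
  have hle' : ∀ i ∈ Finset.range 7, (orb S r i).ncard ≤ sizes.getD i 0 :=
    fun i hi => hle i (Finset.mem_range.1 hi)
  have hidx : (base S).index = 173067389 :=
    le_antisymm (hsum.trans ((Finset.sum_le_sum hle').trans hs.le)) hlow
  have heq : ∀ i < 7, (orb S r i).ncard = sizes.getD i 0 := by
    have := Finset.sum_eq_sum_iff_of_le hle'
    have h2 : ∑ i ∈ Finset.range 7, (orb S r i).ncard = ∑ i ∈ Finset.range 7, sizes.getD i 0 :=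
      le_antisymm (Finset.sum_le_sum hle') (hs.trans hidx.symm ▸ hsum)
    exact fun i hi => this.1 h2 i (Finset.mem_range.2 hi)
  refine ⟨hG, hidx, ?_, heq, hcov, fun i hi j hj hij => ?_⟩
  · rw [← Subgroup.card_mul_index (base S), hB, hidx, mul_comm]
  · by_contra hne
    have hu : (Set.univ : Set (G ⧸ base S)) = ⋃ k ∈ (Finset.range 7).erase j, orb S r k := by
      refine (Set.eq_univ_of_forall fun q => ?_).symm
      obtain ⟨k, hk, hq⟩ := hcov q
      by_cases hkj : k = j
      · exact Set.mem_biUnion (Finset.mem_erase.2 ⟨hne, Finset.mem_range.2 hi⟩) (hij ▸ hkj ▸ hq)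
      · exact Set.mem_biUnion (Finset.mem_erase.2 ⟨hkj, Finset.mem_range.2 hk⟩) hq
    have h1 : (base S).index ≤ ∑ k ∈ (Finset.range 7).erase j, (orb S r k).ncard := by
      rw [Subgroup.index, ← Set.ncard_univ, hu]
      exact Finset.set_ncard_biUnion_le _ _
    have h2 := Finset.sum_erase_add (Finset.range 7) (fun k => (orb S r k).ncard) (Finset.mem_range.2 hj)
    have h3 : ∑ k ∈ Finset.range 7, (orb S r k).ncard = 173067389 := by
      rw [← hs]; exact Finset.sum_congr rfl fun k hk => heq k (Finset.mem_range.1 hk)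
    have h4 : 1 ≤ (orb S r j).ncard :=
      (Set.ncard_pos (Set.toFinite _)).2 (MulAction.nonempty_orbit _)
    omega

/-- the double cosets are distinct -/
theorem uniq {r : ℕ → G} (hdist : ∀ i < 7, ∀ j < 7, orb S r i = orb S r j → i = j) {i j : ℕ}
    (hi : i < 7) (hj : j < 7) {b b' : G} (hb : b ∈ base S) (hb' : b' ∈ base S)
    (h : Cong S (r i * b) (r j * b')) : i = j := by
  refine hdist i hi j hj ?_
  have e := (mk_eq_iff S).2 h
  rw [mul_inv_rev, mul_inv_rev] at e
  have e1 : (⟨b, hb⟩ : ↥(base S))⁻¹ • (QuotientGroup.mk (r i)⁻¹ : G ⧸ base S) =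
      (⟨b', hb'⟩ : ↥(base S))⁻¹ • (QuotientGroup.mk (r j)⁻¹ : G ⧸ base S) := e
  have e2 : (QuotientGroup.mk (r i)⁻¹ : G ⧸ base S) ∈ orb S r j := by
    refine ⟨⟨b, hb⟩ * (⟨b', hb'⟩ : ↥(base S))⁻¹, ?_⟩
    show (⟨b, hb⟩ * (⟨b', hb'⟩ : ↥(base S))⁻¹) • (QuotientGroup.mk (r j)⁻¹ : G ⧸ base S) = _
    rw [mul_smul, ← e1, smul_inv_smul]
  exact MulAction.orbit_eq_iff.2 e2

end

end Cfsg.Agent.J4XCount4
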