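import Mathlib
import Cfsg.Agent.Lib.J4XCert18
import Cfsg.Agent.Lib.J4XCount4
import Cfsg.Agent.Lib.J4XCentData12

/-!
The class of the sextet elements of the normal subgroup of order 2^11 inside the subgroup of shape
2^11 : M24: it is permuted transitively, so the centraliser of one of them there has index 1771.
-/

set_option autoImplicit false
set_option maxRecDepth 100000
set_option exponentiation.threshold 5000
set_option linter.style.haveILetI false

namespace Cfsg.Agent.J4XCentClass12

open Cfsg.Agent.GolayBasic Cfsg.Agent.GolayPerm Cfsg.Agent.GolayEnumComp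
open Cfsg.Agent.J4XBase18 Cfsg.Agent.J4XCert18 Cfsg.Agent.J4XCount4 Cfsg.Agent.J4XCentData12

/-- the code of the first generator -/
def eX : ℕ := 432707787484634829614697868396384559

/-- the code of the second generator -/
def eY : ℕ := 138225968781240086889945651174970409

/-- the code of a generator by number -/
def gc (c : ℕ) : ℕ := bif Nat.beq c 0 then eX else eY

/-- the class of the first involution -/
def z0 : ℕ := 490

/-- the classes of sextets -/
def isSx (v : ℕ) : Bool := sxMask.testBit v

theorem gc_good (c : ℕ) : good (gc c) = true := by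
  have hX : good eX = true := by decide +kernel
  have hY : good eY = true := by decide +kernel
  unfold gc
  cases Nat.beq c 0 <;> simp [hX, hY]

theorem sx_table : ((List.range 4096).all fun v => bif isSx v then
    (inE v && isSx (vact eX v) && isSx (vact eY v)) else true) = true := by
  decide +kernel

theorem sx_lt {v : ℕ} (h : isSx v = true) : v < 4096 := by
  by_contra hc
  have h1 : sxMask < 2 ^ v := lt_of_lt_of_le (show sxMask < 2 ^ 4096 by decide +kernel)
    (Nat.pow_le_pow_right (by norm_num) (by omega))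
  rw [isSx, Nat.testBit_lt_two_pow h1] at h
  exact Bool.noConfusion h

theorem sx_spec {v : ℕ} (h : isSx v = true) :
    inE v = true ∧ isSx (vact eX v) = true ∧ isSx (vact eY v) = true := by
  have := List.all_eq_true.1 sx_table v (List.mem_range.2 (sx_lt h))
  rw [h] at this
  simp only [cond_true, Bool.and_eq_true] at this
  exact ⟨this.1.1, this.1.2, this.2⟩

/-- the classes as a finite set -/
def sxF : Finset ℕ := (Finset.range 4096).filter fun v => isSx v = true

theorem mem_sxF {v : ℕ} : v ∈ sxF ↔ isSx v = true := by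
  rw [sxF, Finset.mem_filter, Finset.mem_range]
  exact ⟨fun h => h.2, fun h => ⟨sx_lt h, h⟩⟩

theorem sx_count : ((List.range 4096).filter isSx).length = 1771 := by decide +kernel

theorem card_sxF : sxF.card = 1771 := by
  have h : sxF = ((List.range 4096).filter isSx).toFinset := by
    ext v
    simp [sxF]
  rw [h, List.toFinset_card_of_nodup (List.Nodup.filter _ List.nodup_range), sx_count]

/-- the tree reaches everything -/
def treeMask : List (ℕ × ℕ) → ℕ → Option ℕ
  | [], m => some m
  | cp :: l, m => bif m.testBit cp.2 then treeMask l (m ||| 2 ^ vact (gc cp.1) cp.2) else none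

theorem tree_ok : (match treeMask sxTree (2 ^ z0) with
    | some m => Nat.beq m sxMask
    | none => false) = true := by
  decide +kernel

theorem treeMask_sound (R : ℕ → Prop) (hstep : ∀ c v, R v → R (vact (gc c) v)) :
    ∀ (l : List (ℕ × ℕ)) (m m' : ℕ), (∀ v, m.testBit v = true → R v) → treeMask l m = some m' →
      ∀ v, m'.testBit v = true → R v
  | [], m, m', hm, h => by cases h; exact hm
  | cp :: l, m, m', hm, h => by
    simp only [treeMask, Bool.cond_eq_ite] at h
    split at h <;> rename_i hc
    swap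
    · exact absurd h (by simp)
    refine treeMask_sound R hstep l _ m' ?_ h
    intro v hv
    rw [Nat.testBit_or, Bool.or_eq_true, Nat.testBit_two_pow, decide_eq_true_eq] at hv
    rcases hv with hv | hv
    · exact hm v hv
    · exact hv ▸ hstep _ _ (hm _ hc)

/-- every class is reached from the first one -/
theorem sx_reach (R : ℕ → Prop) (h0 : R z0) (hstep : ∀ c v, R v → R (vact (gc c) v)) :
    ∀ v, isSx v = true → R v := by
  have hok := tree_ok
  cases hm : treeMask sxTree (2 ^ z0) with
  | none => rw [hm] at hok; exact Bool.noConfusion hok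
  | some m =>
    rw [hm] at hok
    rw [Nat.beq_eq] at hok
    intro v hv
    refine treeMask_sound R hstep sxTree _ m (fun w hw => ?_) hm v (by rw [hok]; exact hv)
    rw [Nat.testBit_two_pow, decide_eq_true_eq] at hw
    exact hw ▸ h0

theorem sx_z0 : isSx z0 = true := by decide +kernel

/-! ### inside a group -/

variable {G : Type*} [Group G] (S : Setup G)

/-- the elements of the sextet class -/
def Ecls : Set G := S.e '' {v | isSx v = true}

/-- the central involution to be studied -/
def zz : G := S.e z0

theorem zz_mem : zz S ∈ Ecls S := ⟨z0, sx_z0, rfl⟩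

theorem e_sq {v : ℕ} (hv : inE v = true) : S.e v * S.e v = 1 := by
  rw [← S.e_mul hv hv, Nat.xor_self, e_zero]

theorem e_comm {a b : ℕ} (ha : inE a = true) (hb : inE b = true) :
    S.e a * S.e b = S.e b * S.e a := by
  rw [← S.e_mul ha hb, ← S.e_mul hb ha, Nat.xor_comm]

theorem conj_e {P v : ℕ} (hP : good P = true) (hv : inE v = true) :
    S.m P * S.e v * (S.m P)⁻¹ = S.e (vact P v) := by
  rw [S.act hP hv, mul_inv_cancel_right]

theorem e_inj (hinj : PsiInj S) {a b : ℕ} (ha : inE a = true) (hb : inE b = true)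
    (h : S.e a = S.e b) : a = b := by
  have hid : (pcomp idP idP == idP) = true := by decide +kernel
  have hg : good idP = true := good_idP
  have hc : ∀ {v : ℕ}, inE v = true → canH (v, idP) = true := fun {v} hv => by
    simp only [canH, okH, Bool.and_eq_true]
    exact ⟨⟨hv, hg⟩, by rw [Nat.beq_eq]; exact beq_iff_eq.1 hid⟩
  exact congrArg Prod.fst (hinj (a, idP) (b, idP) (hc ha) (hc hb) (by simp [psi, m_idP, h]))

/-- the elements normalising the class -/
def clsNorm : Subgroup G where
  carrier := {g | ∀ x, g * x * g⁻¹ ∈ Ecls S ↔ x ∈ Ecls S}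
  one_mem' := by simp
  mul_mem' := by
    intro a b ha hb x
    rw [show a * b * x * (a * b)⁻¹ = a * (b * x * b⁻¹) * a⁻¹ by group, ha, hb]
  inv_mem' := by
    intro a ha x
    have := ha (a⁻¹ * x * a⁻¹⁻¹)
    rw [show a * (a⁻¹ * x * a⁻¹⁻¹) * a⁻¹ = x by group] at this
    exact this.symm

theorem Ecls_finite : (Ecls S).Finite :=
  (Set.Finite.subset (Set.finite_Iio 4096) fun _ hv => sx_lt hv).image _

theorem mem_clsNorm_of_maps {g : G} (h : ∀ x ∈ Ecls S, g * x * g⁻¹ ∈ Ecls S) : g ∈ clsNorm S := by
  have hinj : Set.InjOn (fun x => g * x * g⁻¹) (Ecls S) := fun a _ b _ e => by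
    simpa using e
  have heq : (fun x => g * x * g⁻¹) '' Ecls S = Ecls S :=
    Set.eq_of_subset_of_ncard_le (Set.image_subset_iff.2 h)
      (by rw [Set.ncard_image_of_injOn hinj]) (Ecls_finite S)
  intro x
  refine ⟨fun hx => ?_, h x⟩
  rw [← heq] at hx
  obtain ⟨y, hy, e⟩ := hx
  simp only [mul_left_inj, mul_right_inj] at e
  exact e ▸ hy

/-- the subgroup is generated by two permutation parts and one element of the normal part -/
def GenBase : Prop := base S = Subgroup.closure {S.m eX, S.m eY, S.e 3269}

theorem base_le_clsNorm (hgen : GenBase S) : base S ≤ clsNorm S := by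
  rw [hgen, Subgroup.closure_le]
  have hm : ∀ c, S.m (gc c) ∈ clsNorm S := fun c => mem_clsNorm_of_maps S fun x hx => by
    obtain ⟨v, hv, rfl⟩ := hx
    obtain ⟨h1, h2, h3⟩ := sx_spec hv
    rw [conj_e S (gc_good c) h1]
    refine ⟨_, ?_, rfl⟩
    show isSx (vact (gc c) v) = true
    unfold gc
    cases Nat.beq c 0
    · exact h3
    · exact h2
  rintro g (rfl | rfl | rfl)
  · exact hm 0
  · exact hm 1
  · refine mem_clsNorm_of_maps S fun x hx => ?_
    obtain ⟨v, hv, rfl⟩ := hx
    rw [e_comm S (by decide +kernel : inE 3269 = true) (sx_spec hv).1, mul_inv_cancel_right]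
    exact ⟨v, hv, rfl⟩

theorem gc_mem_base (c : ℕ) : S.m (gc c) ∈ base S :=
  Subgroup.subset_closure (Or.inl ⟨_, rfl⟩)

/-- the class is one conjugacy class of the subgroup -/
theorem transitive {x : G} (hx : x ∈ Ecls S) : ∃ b ∈ base S, b * zz S * b⁻¹ = x := by
  obtain ⟨v, hv, rfl⟩ := hx
  refine (sx_reach (fun v => isSx v = true ∧ ∃ b ∈ base S, b * zz S * b⁻¹ = S.e v)
    ⟨sx_z0, 1, one_mem _, by simp [zz]⟩ ?_ v hv).2
  rintro c w ⟨hw, b, hb, e⟩
  refine ⟨?_, S.m (gc c) * b, mul_mem (gc_mem_base S c) hb, ?_⟩
  · obtain ⟨-, h2, h3⟩ := sx_spec hw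
    unfold gc
    cases Nat.beq c 0
    · exact h3
    · exact h2
  · rw [show S.m (gc c) * b * zz S * (S.m (gc c) * b)⁻¹ = S.m (gc c) * (b * zz S * b⁻¹) * (S.m (gc c))⁻¹
      by group, e, conj_e S (gc_good c) (sx_spec hw).1]

theorem ncard_Ecls (hinj : PsiInj S) : (Ecls S).ncard = 1771 := by
  have hset : {v | isSx v = true} = (sxF : Set ℕ) := by
    ext v
    exact mem_sxF.symm
  rw [Ecls, Set.ncard_image_of_injOn, hset, Set.ncard_coe_finset, card_sxF]
  exact fun a ha b hb e => e_inj S hinj (sx_spec ha).1 (sx_spec hb).1 e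

/-- the centraliser of the involution in the subgroup -/
def cenBase : Subgroup G := Subgroup.centralizer {zz S} ⊓ base S

theorem card_cenBase (hgen : GenBase S) (hinj : PsiInj S)
    (hB : Nat.card ↥(base S) = 2048 * 244823040) :
    Nat.card ↥(cenBase S) = 283115520 := by
  let B' : Subgroup (ConjAct G) := (base S).map (ConjAct.toConjAct : G ≃* ConjAct G).toMonoidHom
  haveI : Finite ↥(base S) := Nat.finite_of_card_ne_zero (by rw [hB]; norm_num)
  have horb : MulAction.orbit ↥B' (zz S) = Ecls S := by
    ext x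
    constructor
    · rintro ⟨⟨_, b, hb, rfl⟩, rfl⟩
      exact ((base_le_clsNorm S hgen hb) (zz S)).2 (zz_mem S)
    · intro hx
      obtain ⟨b, hb, e⟩ := transitive S hx
      exact ⟨⟨_, b, hb, rfl⟩, e⟩
  have hst : MulAction.stabilizer ↥B' (zz S) =
      ((cenBase S).map (ConjAct.toConjAct : G ≃* ConjAct G).toMonoidHom).subgroupOf B' := by
    ext ⟨g, b, hb, rfl⟩
    rw [MulAction.mem_stabilizer_iff, Subgroup.mem_subgroupOf, Subgroup.mem_map_equiv]
    show b * zz S * b⁻¹ = zz S ↔ _
    rw [mul_inv_eq_iff_eq_mul]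
    simp only [cenBase, Subgroup.mem_inf, Subgroup.mem_centralizer_singleton_iff,
      MulEquiv.coe_toMonoidHom, MulEquiv.symm_apply_apply]
    exact ⟨fun e => ⟨e, hb⟩, fun e => e.1⟩
  have h := MulAction.index_stabilizer ↥B' (zz S)
  rw [horb, ncard_Ecls S hinj] at h
  have hcard := (MulAction.stabilizer ↥B' (zz S)).card_mul_index
  rw [h, hst] at hcard
  have hle : (cenBase S).map (ConjAct.toConjAct : G ≃* ConjAct G).toMonoidHom ≤ B' :=
    Subgroup.map_mono inf_le_right
  rw [Nat.card_congr (Subgroup.subgroupOfEquivOfLe hle).toEquiv,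
    ← Nat.card_congr ((cenBase S).equivMapOfInjective _ (ConjAct.toConjAct : G ≃* ConjAct G).injective).toEquiv,
    ← Nat.card_congr ((base S).equivMapOfInjective _ (ConjAct.toConjAct : G ≃* ConjAct G).injective).toEquiv,
    hB] at hcard
  omega

end Cfsg.Agent.J4XCentClass12
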