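import Mathlib
import Cfsg.Agent.Lib.J4Rep13

/-!
Several vectors of 112 bits in one number, in blocks of 128 bits.
-/

set_option autoImplicit false
set_option maxRecDepth 100000

namespace Cfsg.Agent.J4XCentPack12

open Cfsg.Agent.J4Rep13
open Cfsg.Agent.J1CertCore91 (force force_eq)

/-- the block of a packed number -/
def blk (X i : ℕ) : ℕ := (X >>> (128 * i)) &&& (2 ^ 128 - 1)

theorem testBit_blk (X i j : ℕ) :
    (blk X i).testBit j = (decide (j < 128) && X.testBit (128 * i + j)) := by
  rw [blk, Nat.testBit_and, Nat.testBit_shiftRight, Nat.testBit_two_pow_sub_one, Bool.and_comm]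

/-- the pack of a list -/
def pack : List ℕ → ℕ
  | [] => 0
  | a :: l => a % 2 ^ 128 + 2 ^ 128 * pack l

theorem blk_pack : ∀ (l : List ℕ) (k : ℕ), k < l.length → l.getD k 0 < 2 ^ 128 →
    blk (pack l) k = l.getD k 0
  | [], k, hk, _ => by simp at hk
  | a :: l, 0, _, ha => by
    simp only [List.getD_cons_zero] at ha ⊢
    rw [blk, pack, Nat.mul_zero, Nat.shiftRight_zero, Nat.and_two_pow_sub_one_eq_mod,
      Nat.add_mul_mod_self_left, Nat.mod_mod, Nat.mod_eq_of_lt ha]
  | a :: l, k + 1, hk, hl => by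
    simp only [List.getD_cons_succ, List.length_cons] at hl hk ⊢
    rw [← blk_pack l k (by omega) hl, blk, blk, show 128 * (k + 1) = 128 + 128 * k by ring,
      Nat.shiftRight_add, pack]
    congr 2
    rw [Nat.shiftRight_eq_div_pow, Nat.add_mul_div_left _ _ (by norm_num),
      Nat.div_eq_of_lt (Nat.mod_lt _ (by norm_num)), Nat.zero_add]

/-- the maps are well formed -/
def matsWF (L : List (List ℕ)) : Prop := ∀ M ∈ L, M.length = 112 ∧ ∀ r ∈ M, r < 2 ^ 112

/-- test that the maps are well formed -/
def matsOK (L : List (List ℕ)) : Bool :=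
  L.all fun M => Nat.beq M.length 112 && M.all fun r => decide (r < 2 ^ 112)

theorem matsWF_of_ok {L : List (List ℕ)} (h : matsOK L = true) : matsWF L := by
  intro M hM
  simp only [matsOK, List.all_eq_true, Bool.and_eq_true, Nat.beq_eq, decide_eq_true_eq] at h
  exact h M hM

theorem appL_lt : ∀ {L : List (List ℕ)}, matsWF L → ∀ {v n : ℕ}, 112 ≤ n → v < 2 ^ n → appL L v < 2 ^ n
  | [], _, v, n, _, hv => hv
  | M :: L, h, v, n, hn, _ =>
    appL_lt (fun M' h' => h M' (List.mem_cons_of_mem _ h')) hn
      (app_lt (fun r hr => lt_of_lt_of_le ((h M List.mem_cons_self).2 r hr)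
        (Nat.pow_le_pow_right (by norm_num) hn)) v)

theorem blk_mulL {L : List (List ℕ)} (h : matsWF L) (X : ℕ) {i : ℕ} (hi : i < 112) :
    blk (mulL L X) i = appL L (blk X i) := by
  apply Nat.eq_of_testBit_eq
  intro j
  have hlt : blk X i < 2 ^ 128 := by
    rw [blk, Nat.and_two_pow_sub_one_eq_mod]
    exact Nat.mod_lt _ (by norm_num)
  by_cases hj : j < 128
  · rw [testBit_blk, decide_eq_true hj, Bool.true_and]
    exact mulL_testBit L (fun M hM => ⟨(h M hM).1, fun r hr => ((h M hM).2 r hr).trans (by norm_num)⟩)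
      X i _ hi (fun k hk => by rw [testBit_blk, decide_eq_true hk, Bool.true_and]) j hj
  · rw [testBit_blk, decide_eq_false hj, Bool.false_and, Nat.testBit_lt_two_pow
      ((appL_lt h (by norm_num) hlt).trans_le (Nat.pow_le_pow_right (by norm_num) (by omega)))]

/-- two packs of `n` blocks side by side -/
def join (n P Q : ℕ) : ℕ := (P % 2 ^ (128 * n)) ||| ((Q % 2 ^ (128 * n)) <<< (128 * n))

theorem blk_join_left {n P Q i : ℕ} (hi : i < n) : blk (join n P Q) i = blk P i := by
  apply Nat.eq_of_testBit_eq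
  intro j
  simp only [testBit_blk, join, Nat.testBit_or, Nat.testBit_mod_two_pow, Nat.testBit_shiftLeft]
  by_cases hj : j < 128
  · have h1 : 128 * i + j < 128 * n := by omega
    simp [hj, h1, show ¬ 128 * n ≤ 128 * i + j by omega]
  · simp [hj]

theorem blk_join_right {n P Q i : ℕ} (hi : i < n) : blk (join n P Q) (n + i) = blk Q i := by
  apply Nat.eq_of_testBit_eq
  intro j
  simp only [testBit_blk, join, Nat.testBit_or, Nat.testBit_mod_two_pow, Nat.testBit_shiftLeft]
  by_cases hj : j < 128
  · have h1 : 128 * (n + i) + j - 128 * n = 128 * i + j := by omega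
    simp [hj, show ¬ 128 * (n + i) + j < 128 * n by omega, h1, show 128 * i + j < 128 * n by omega,
      show 128 * n ≤ 128 * (n + i) + j by omega]
  · simp [hj]

end Cfsg.Agent.J4XCentPack12
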