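import Mathlib
import Cfsg.Agent.Lib.J4Rep13
import Cfsg.Agent.Lib.J4XCentClass12
import Cfsg.Agent.Lib.J4XCentPack12

/-!
The normal subgroup of order 2^11 in the representation on 112 bits: the matrices of a basis, and the
images of a vector under all its elements.
-/

set_option autoImplicit false
set_option maxRecDepth 100000
set_option linter.style.haveILetI false

namespace Cfsg.Agent.J4XCentRep12

open Cfsg.Agent.GolayBasic Cfsg.Agent.GolayPerm Cfsg.Agent.GolayEnumComp
open Cfsg.Agent.J4XBase18 Cfsg.Agent.J4XCert18 Cfsg.Agent.J4XCount4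
open Cfsg.Agent.J4XCentData12 Cfsg.Agent.J4XCentClass12 Cfsg.Agent.J4XCentPack12
open Cfsg.Agent.J4RepData13 Cfsg.Agent.J4Rep13 Cfsg.Agent.J4PresGen13
open Cfsg.Agent.J1CertCore91 (force force_eq)

variable {G : Type*} [Group G] (S : Setup G)

/-- what is needed of a representation on the vectors -/
structure RepHyp (ρ : G →* Equiv.Perm Vec) : Prop where
  hX : ρ (S.m eX) = px
  hY : ρ (S.m eY) = py
  hT : ρ S.t = J4Rep13.pt
  hU : ρ (S.e 3269) = wv pn wu

/-- two additive maps agreeing on the unit vectors agree -/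
theorem eq_of_units (f g : ℕ → ℕ) (hf : ∀ a b, f (a ^^^ b) = f a ^^^ f b)
    (hg : ∀ a b, g (a ^^^ b) = g a ^^^ g b) (h : ∀ i < 112, f (2 ^ i) = g (2 ^ i)) :
    ∀ v < 2 ^ 112, f v = g v := by
  have h0 : ∀ (F : ℕ → ℕ), (∀ a b, F (a ^^^ b) = F a ^^^ F b) → F 0 = 0 := fun F hF => by
    have := hF 0 0
    rwa [Nat.xor_self, Nat.xor_self] at this
  have key : ∀ n ≤ 112, ∀ v < 2 ^ n, f v = g v := by
    intro n
    induction n with
    | zero => intro _ v hv; rw [show v = 0 by omega, h0 f hf, h0 g hg]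
    | succ n ih =>
      intro hn v hv
      cases hb : v.testBit n with
      | false =>
        refine ih (by omega) v (Nat.lt_pow_two_of_testBit _ fun p hp => ?_)
        rcases hp.eq_or_lt with rfl | hp
        · exact hb
        · exact Nat.testBit_lt_two_pow (hv.trans_le (Nat.pow_le_pow_right (by norm_num) hp))
      | true =>
        have hw : v ^^^ 2 ^ n < 2 ^ n := Nat.lt_pow_two_of_testBit _ fun p hp => by
          rw [Nat.testBit_xor, Nat.testBit_two_pow]
          rcases hp.eq_or_lt with rfl | hp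
          · simp [hb]
          · rw [Nat.testBit_lt_two_pow (hv.trans_le (Nat.pow_le_pow_right (by norm_num) hp))]
            simp [hp.ne]
        have hv' : v = (v ^^^ 2 ^ n) ^^^ 2 ^ n := by rw [Nat.xor_assoc, Nat.xor_self, Nat.xor_zero]
        rw [hv', hf, hg, ih (by omega) _ hw, h n (by omega)]
  exact key 112 le_rfl

/-- agreement of two well formed sequences of maps, tested on all unit vectors at once -/
noncomputable def sameUnits (L L' : List (List ℕ)) : Bool :=
  matsOK L && matsOK L' && Nat.beq (mulL L ident) (mulL L' ident)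

theorem ident_blk : ((List.range 112).all fun i => Nat.beq (blk ident i) (2 ^ i)) = true := by
  decide +kernel

theorem sameUnits_sound {L L' : List (List ℕ)} (h : sameUnits L L' = true) :
    ∀ v < 2 ^ 112, appL L v = appL L' v :=
  eq_of_units _ _ (appL_xor L) (appL_xor L') fun i hi => by
    simp only [sameUnits, Bool.and_eq_true, Nat.beq_eq] at h
    obtain ⟨⟨h1, h2⟩, h3⟩ := h
    have hI := List.all_eq_true.1 ident_blk i (List.mem_range.2 hi)
    rw [Nat.beq_eq] at hI
    rw [← hI, ← blk_mulL (matsWF_of_ok h1) _ hi, ← blk_mulL (matsWF_of_ok h2) _ hi, h3]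

/-- the matrix `B` gives the element `e v` -/
def RepE (ρ : G →* Equiv.Perm Vec) (v : ℕ) (B : List ℕ) : Prop :=
  inE v = true ∧ ∀ x : Vec, ((ρ (S.e v)) x).val = app B x.val

/-- the maps of a generator -/
def matG (c : ℕ) : List (List ℕ) := bif Nat.beq c 0 then [rx] else [ry, ry]

/-- the maps of its inverse -/
def matGi (c : ℕ) : List (List ℕ) := bif Nat.beq c 0 then [rx] else [ry]

theorem rho_gc {ρ : G →* Equiv.Perm Vec} (H : RepHyp S ρ) (c : ℕ) (x : Vec) :
    ((ρ (S.m (gc c))) x).val = appL (matG c) x.val ∧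
      (((ρ (S.m (gc c)))⁻¹) x).val = appL (matGi c) x.val := by
  unfold gc matG matGi
  cases Nat.beq c 0
  · simp only [cond_false, H.hY]
    exact ⟨rfl, rfl⟩
  · simp only [cond_true, H.hX]
    exact ⟨rfl, rfl⟩

/-- the chain of the basis -/
noncomputable def chainOK : List ℕ → List (List ℕ) → List (ℕ × ℕ) → List ℕ → List (List ℕ) → Bool
  | _, _, [], [], [] => true
  | vs, Bs, cp :: ps, v :: l, B :: Ls =>
    Nat.blt cp.2 vs.length && Nat.beq (vact (gc cp.1) (vs.getD cp.2 0)) v && inE v &&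
      sameUnits [B] (matGi cp.1 ++ [Bs.getD cp.2 []] ++ matG cp.1) &&
      chainOK (vs ++ [v]) (Bs ++ [B]) ps l Ls
  | _, _, _, _, _ => false

theorem chainOK_sound {ρ : G →* Equiv.Perm Vec} (H : RepHyp S ρ) :
    ∀ (ps : List (ℕ × ℕ)) (l : List ℕ) (Ls : List (List ℕ)) (vs : List ℕ) (Bs : List (List ℕ)),
      (∀ k < vs.length, RepE S ρ (vs.getD k 0) (Bs.getD k [])) →
      vs.length = Bs.length → chainOK vs Bs ps l Ls = true →
      ∀ k < (vs ++ l).length, RepE S ρ ((vs ++ l).getD k 0) ((Bs ++ Ls).getD k [])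
  | [], [], [], vs, Bs, hR, _, _ => by simpa using hR
  | [], [], _ :: _, _, _, _, _, h => by simp [chainOK] at h
  | [], _ :: _, _, _, _, _, _, h => by simp [chainOK] at h
  | _ :: _, [], _, _, _, _, _, h => by simp [chainOK] at h
  | _ :: _, _ :: _, [], _, _, _, _, h => by simp [chainOK] at h
  | cp :: ps, v :: l, B :: Ls, vs, Bs, hR, hlen, h => by
    simp only [chainOK, Bool.and_eq_true, Nat.blt_eq, Nat.beq_eq] at h
    obtain ⟨⟨⟨⟨hk, hv⟩, hin⟩, hu⟩, hrest⟩ := h
    have hnew : RepE S ρ v B := by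
      refine ⟨hin, fun x => ?_⟩
      obtain ⟨hp, hB⟩ := hR cp.2 hk
      have h1 : app B x.val = appL (matGi cp.1 ++ [Bs.getD cp.2 []] ++ matG cp.1) x.val :=
        sameUnits_sound hu x.val x.2
      rw [h1, appL_append, appL_append, ← (rho_gc S H cp.1 x).2, appL, appL, ← hB,
        ← (rho_gc S H cp.1 _).1, ← hv, ← conj_e S (gc_good cp.1) hp, map_mul, map_mul, map_inv,
        Equiv.Perm.mul_apply, Equiv.Perm.mul_apply]
    have hR' : ∀ k < (vs ++ [v]).length, RepE S ρ ((vs ++ [v]).getD k 0) ((Bs ++ [B]).getD k []) := by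
      intro k hk'
      rw [List.length_append, List.length_singleton] at hk'
      rcases Nat.lt_succ_iff_lt_or_eq.1 hk' with hlt | rfl
      · rw [List.getD_append _ _ _ _ hlt, List.getD_append _ _ _ _ (hlen ▸ hlt)]
        exact hR k hlt
      · rw [List.getD_append_right _ _ _ _ le_rfl, List.getD_append_right _ _ _ _ hlen.ge, hlen]
        simpa using hnew
    simpa using chainOK_sound H ps l Ls (vs ++ [v]) (Bs ++ [B]) hR' (by simp [hlen]) hrest

theorem first_ok : (inE 3269 && sameUnits [bms.getD 0 []] (mats wu) &&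
    Nat.beq (bas.getD 0 0) 3269 && (wu.all fun l => decide (l < 6)) && Nat.beq bas.length bms.length &&
    chainOK [bas.getD 0 0] [bms.getD 0 []] basPar bas.tail bms.tail) = true := by
  decide +kernel

theorem bas_rep {ρ : G →* Equiv.Perm Vec} (H : RepHyp S ρ) :
    ∀ k < bas.length, RepE S ρ (bas.getD k 0) (bms.getD k []) := by
  have h := first_ok
  simp only [Bool.and_eq_true, Nat.beq_eq, List.all_eq_true, decide_eq_true_eq] at h
  obtain ⟨⟨⟨⟨⟨h1, h2⟩, h3⟩, h4⟩, h5⟩, h6⟩ := h
  have e0 : RepE S ρ (bas.getD 0 0) (bms.getD 0 []) := by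
    rw [h3]
    refine ⟨h1, fun x => ?_⟩
    rw [H.hU, wv_pn_apply wu h4 x]
    exact (sameUnits_sound h2 x.val x.2).symm
  have := chainOK_sound S H basPar bas.tail bms.tail [bas.getD 0 0] [bms.getD 0 []]
    (fun k hk => by
      rw [List.length_singleton, Nat.lt_one_iff] at hk
      subst hk
      exact e0) rfl h6
  intro k hk
  have eb : [bas.getD 0 0] ++ bas.tail = bas := rfl
  have em : [bms.getD 0 []] ++ bms.tail = bms := rfl
  rw [eb, em] at this
  exact this k hk

/-- the keys of a pack are proper and its blocks are the images -/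
def PackOK (ρ : G →* Equiv.Perm Vec) (x0 : Vec) (ks : List ℕ) (P : ℕ) : Prop :=
  ks.length ≤ 112 ∧ ∀ k < ks.length, inE (ks.getD k 0) = true ∧
    ((ρ (S.e (ks.getD k 0))) x0).val = blk P k

theorem PackOK.image {ρ : G →* Equiv.Perm Vec} {x0 : Vec} {ks : List ℕ} {P : ℕ}
    (h : PackOK S ρ x0 ks P) (L : Laws) {b : ℕ} {B : List ℕ} (hB : RepE S ρ b B)
    (hw : matsWF [B]) : PackOK S ρ x0 (ks.map (b ^^^ ·)) (mulL [B] P) := by
  refine ⟨by simpa using h.1, fun k hk => ?_⟩
  rw [List.length_map] at hk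
  obtain ⟨h1, h2⟩ := h.2 k hk
  rw [List.getD_eq_getElem _ _ hk] at h1 h2
  rw [List.getD_eq_getElem _ _ (by simpa using hk), List.getElem_map]
  refine ⟨L.inE_xor hB.1 h1, ?_⟩
  rw [blk_mulL hw P (lt_of_lt_of_le hk h.1), S.e_mul hB.1 h1, map_mul, Equiv.Perm.mul_apply, hB.2, h2]
  rfl

theorem PackOK.join' {ρ : G →* Equiv.Perm Vec} {x0 : Vec} {ks ks' : List ℕ} {P Q : ℕ}
    (h : PackOK S ρ x0 ks P) (h' : PackOK S ρ x0 ks' Q) (hlen : ks'.length = ks.length)
    (hle : 2 * ks.length ≤ 112) : PackOK S ρ x0 (ks ++ ks') (join ks.length P Q) := by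
  refine ⟨by rw [List.length_append]; omega, fun k hk => ?_⟩
  rw [List.length_append] at hk
  by_cases hk' : k < ks.length
  · rw [List.getD_append _ _ _ _ hk', blk_join_left hk']
    exact h.2 k hk'
  · obtain ⟨d, rfl⟩ := Nat.exists_eq_add_of_le (Nat.le_of_not_lt hk')
    rw [List.getD_append_right _ _ _ _ (by omega), Nat.add_sub_cancel_left, blk_join_right (by omega)]
    exact h'.2 d (by omega)

/-- one pack grown over a list of basis vectors -/
noncomputable def lowPack : List (ℕ × List ℕ) → ℕ → ℕ × ℕ := fun l x =>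
  List.rec (motive := fun _ => ℕ × ℕ) (1, x)
    (fun vB _ ih => (2 * ih.1, force (mulL [vB.2] ih.2) fun Q => join ih.1 ih.2 Q)) l

/-- the keys of that pack -/
def lowKeys : List (ℕ × List ℕ) → List ℕ
  | [] => [0]
  | vB :: l => lowKeys l ++ (lowKeys l).map (vB.1 ^^^ ·)

theorem lowKeys_length : ∀ l, (lowKeys l).length = 2 ^ l.length
  | [] => rfl
  | _ :: l => by rw [lowKeys, List.length_append, List.length_map, lowKeys_length l, List.length_cons, pow_succ]; ring

theorem lowPack_sound {ρ : G →* Equiv.Perm Vec} (L : Laws) (x0 : Vec) :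
    ∀ l : List (ℕ × List ℕ), (∀ p ∈ l, RepE S ρ p.1 p.2 ∧ matsWF [p.2]) → 2 ^ l.length ≤ 64 →
      (lowPack l x0.val).1 = (lowKeys l).length ∧ PackOK S ρ x0 (lowKeys l) (lowPack l x0.val).2
  | [], _, _ => by
    refine ⟨rfl, by simp [lowKeys], fun k hk => ?_⟩
    rw [lowKeys, List.length_singleton, Nat.lt_one_iff] at hk
    subst hk
    refine ⟨by decide +kernel, ?_⟩
    show ((ρ (S.e 0)) x0).val = blk x0.val 0
    rw [e_zero, map_one, blk, Nat.mul_zero, Nat.shiftRight_zero, Nat.and_two_pow_sub_one_eq_mod,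
      Nat.mod_eq_of_lt (x0.2.trans (by norm_num))]
    rfl
  | vB :: l, hl, hlen => by
    rw [List.length_cons, pow_succ] at hlen
    obtain ⟨h1, h2⟩ := lowPack_sound L x0 l (fun q hq => hl q (List.mem_cons_of_mem _ hq)) (by omega)
    obtain ⟨hB, hw⟩ := hl vB List.mem_cons_self
    have e : lowPack (vB :: l) x0.val = (2 * (lowPack l x0.val).1,
        join (lowPack l x0.val).1 (lowPack l x0.val).2 (mulL [vB.2] (lowPack l x0.val).2)) := by
      show (_, force _ _) = _
      rw [force_eq]
      rfl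
    rw [e, h1]
    refine ⟨by simp [lowKeys, two_mul], ?_⟩
    show PackOK S ρ x0 _ (join _ _ _)
    exact h2.join' S (h2.image S L hB hw) (by simp) (by rw [lowKeys_length]; omega)

/-- the packs of the remaining basis vectors -/
noncomputable def packs : List (ℕ × List ℕ) → List ℕ → ℕ → List (List ℕ × ℕ) := fun l =>
  List.rec (motive := fun _ => List ℕ → ℕ → List (List ℕ × ℕ)) (fun ks P => [(ks, P)])
    (fun vB _ ih ks P => ih ks P ++ force (mulL [vB.2] P) fun P' => ih (ks.map (vB.1 ^^^ ·)) P') l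

theorem packs_cons (vB : ℕ × List ℕ) (l : List (ℕ × List ℕ)) (ks : List ℕ) (P : ℕ) :
    packs (vB :: l) ks P = packs l ks P ++ packs l (ks.map (vB.1 ^^^ ·)) (mulL [vB.2] P) := by
  show packs l ks P ++ force (mulL [vB.2] P) (fun P' => packs l (ks.map (vB.1 ^^^ ·)) P') = _
  rw [force_eq]

theorem packs_sound {ρ : G →* Equiv.Perm Vec} (L : Laws) (x0 : Vec) :
    ∀ l : List (ℕ × List ℕ), (∀ p ∈ l, RepE S ρ p.1 p.2 ∧ matsWF [p.2]) → ∀ ks P,
      PackOK S ρ x0 ks P → ∀ q ∈ packs l ks P, PackOK S ρ x0 q.1 q.2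
  | [], _, ks, P, h, q, hq => by
    rw [show packs [] ks P = [(ks, P)] from rfl, List.mem_singleton] at hq
    subst hq
    exact h
  | vB :: l, hl, ks, P, h, q, hq => by
    rw [packs_cons, List.mem_append] at hq
    have ih := packs_sound L x0 l (fun q hq => hl q (List.mem_cons_of_mem _ hq))
    rcases hq with hq | hq
    · exact ih ks P h q hq
    · exact ih _ _ (h.image S L (hl vB List.mem_cons_self).1 (hl vB List.mem_cons_self).2) q hq

theorem packs_fst : ∀ (l : List (ℕ × List ℕ)) (ks : List ℕ) (P P' : ℕ),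
    (packs l ks P).map Prod.fst = (packs l ks P').map Prod.fst
  | [], _, _, _ => rfl
  | vB :: l, ks, P, P' => by
    rw [packs_cons, packs_cons, List.map_append, List.map_append, packs_fst l ks P P',
      packs_fst l _ (mulL [vB.2] P) (mulL [vB.2] P')]

/-- the keys with their blocks -/
def zipV : List ℕ → ℕ → List (ℕ × ℕ)
  | [], _ => []
  | k :: ks, P => (k, P &&& (2 ^ 128 - 1)) :: zipV ks (P >>> 128)

theorem blk_shift (P k : ℕ) : blk (P >>> 128) k = blk P (k + 1) := by
  rw [blk, blk, ← Nat.shiftRight_add]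
  ring_nf

theorem zipV_spec : ∀ (ks : List ℕ) (P : ℕ) (p : ℕ × ℕ), p ∈ zipV ks P →
    ∃ k < ks.length, p = (ks.getD k 0, blk P k)
  | [], _, p, hp => by simp [zipV] at hp
  | k :: ks, P, p, hp => by
    rw [zipV, List.mem_cons] at hp
    rcases hp with rfl | hp
    · exact ⟨0, by simp, by simp [blk]⟩
    · obtain ⟨j, hj, rfl⟩ := zipV_spec ks _ p hp
      exact ⟨j + 1, by simpa using hj, by rw [List.getD_cons_succ, blk_shift]⟩

theorem zipV_fst : ∀ (ks : List ℕ) (P : ℕ), (zipV ks P).map Prod.fst = ks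
  | [], _ => rfl
  | k :: ks, P => by rw [zipV, List.map_cons, zipV_fst ks]

/-- the basis with its matrices -/
def basMs : List (ℕ × List ℕ) := bas.zip bms

/-- the images of a vector under all the elements -/
noncomputable def fullTable (x : ℕ) : List (ℕ × ℕ) :=
  force (lowPack (basMs.take 6) x).2 fun P =>
    (packs (basMs.drop 6) (lowKeys (basMs.take 6)) P).flatMap fun q => zipV q.1 q.2

theorem bms_ok : (matsOK bms && Nat.ble (2 ^ (basMs.take 6).length) 64) = true := by decide +kernel

theorem fullTable_sound {ρ : G →* Equiv.Perm Vec} (H : RepHyp S ρ) (L : Laws) (x : Vec) :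
    ∀ p ∈ fullTable x.val, inE p.1 = true ∧ ((ρ (S.e p.1)) x).val = p.2 := by
  have hok := bms_ok
  rw [Bool.and_eq_true, Nat.ble_eq] at hok
  have hmem : ∀ q ∈ basMs, RepE S ρ q.1 q.2 ∧ matsWF [q.2] := by
    intro q hq
    obtain ⟨k, hk, rfl⟩ := List.getElem_of_mem hq
    have hk' := hk
    rw [basMs, List.length_zip] at hk'
    have := bas_rep S H k (by omega)
    rw [List.getD_eq_getElem _ _ (by omega), List.getD_eq_getElem _ _ (by omega)] at this
    simp only [basMs, List.getElem_zip]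
    refine ⟨this, fun M hM => ?_⟩
    rw [List.mem_singleton] at hM
    exact matsWF_of_ok hok.1 M (hM ▸ List.getElem_mem _)
  obtain ⟨-, h0⟩ := lowPack_sound S L x (basMs.take 6) (fun q hq => hmem q (List.mem_of_mem_take hq)) hok.2
  intro p hp
  rw [fullTable, force_eq, List.mem_flatMap] at hp
  obtain ⟨q, hq, hp⟩ := hp
  have hq' := packs_sound S L x (basMs.drop 6) (fun q hq => hmem q (List.mem_of_mem_drop hq)) _ _ h0 q hq
  obtain ⟨k, hk, rfl⟩ := zipV_spec _ _ _ hp
  exact hq'.2 k hk

theorem fullTable_fst (x y : ℕ) : (fullTable x).map Prod.fst = (fullTable y).map Prod.fst := by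
  have key : ∀ (qs : List (List ℕ × ℕ)),
      (qs.flatMap fun q => zipV q.1 q.2).map Prod.fst = (qs.map Prod.fst).flatten := by
    intro qs
    induction qs with
    | nil => rfl
    | cons q qs ih => simp [ih, zipV_fst]
  simp only [fullTable, force_eq, key]
  rw [packs_fst _ _ (lowPack (basMs.take 6) x).2 (lowPack (basMs.take 6) y).2]

/-- the keys as a mask -/
noncomputable def keysMask : List ℕ → ℕ := fun l =>
  List.rec (motive := fun _ => ℕ) 0 (fun k _ ih => Nat.lor (2 ^ k) ih) l

theorem keysMask_sound : ∀ (l : List ℕ) (v : ℕ), (keysMask l).testBit v = true → v ∈ l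
  | [], v, h => by simp [keysMask] at h
  | k :: l, v, h => by
    change (2 ^ k ||| keysMask l).testBit v = true at h
    rw [Nat.testBit_or, Bool.or_eq_true, Nat.testBit_two_pow, decide_eq_true_eq] at h
    rcases h with rfl | h
    · exact List.mem_cons_self
    · exact List.mem_cons_of_mem _ (keysMask_sound l v h)

theorem keys_ok : Nat.beq (keysMask ((fullTable 0).map Prod.fst) &&& sxMask) sxMask = true := by
  decide +kernel

/-- every sextet class occurs in the table of any vector -/
theorem fullTable_keys (x : ℕ) {v : ℕ} (hv : isSx v = true) : ∃ p ∈ fullTable x, p.1 = v := by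
  have h2 : (keysMask ((fullTable 0).map Prod.fst) &&& sxMask).testBit v = true := by
    rw [Nat.eq_of_beq_eq_true keys_ok]
    exact hv
  rw [Nat.testBit_and, Bool.and_eq_true] at h2
  have hw := keysMask_sound _ _ h2.1
  rw [fullTable_fst 0 x] at hw
  obtain ⟨p, hp, rfl⟩ := List.mem_map.1 hw
  exact ⟨p, hp, rfl⟩

end Cfsg.Agent.J4XCentRep12
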