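import Mathlib
import Cfsg.Agent.Lib.J4XCentRep12

/-!
At most 77 cosets of the subgroup of shape 2^11 : M24 carry the involution of a sextet to its class: for
each suborbit a necessary condition on the vectors bounds the number of sextets.
-/

set_option autoImplicit false
set_option maxRecDepth 100000
set_option linter.style.haveILetI false

namespace Cfsg.Agent.J4XCentCount12

open Cfsg.Agent.GolayBasic Cfsg.Agent.GolayPerm Cfsg.Agent.GolayEnumComp
open Cfsg.Agent.J4XBase18 Cfsg.Agent.J4XCert18 Cfsg.Agent.J4XCount4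
open Cfsg.Agent.J4XCentData12 Cfsg.Agent.J4XCentClass12 Cfsg.Agent.J4XCentPack12
open Cfsg.Agent.J4XCentRep12
open Cfsg.Agent.J4Rep13
open Cfsg.Agent.J1CertCore91 (force force_eq)

/-- the data of a representative: its maps and the preimages of four vectors -/
structure RepData where
  Ls : List (List ℕ)
  vi : ℕ
  qi : ℕ
  qa : ℕ
  qb : ℕ

/-- the two test elements -/
def testA : ℕ × List ℕ := (bas.getD 0 0, bms.getD 0 [])

/-- the second test element -/
def testB : ℕ × List ℕ := (bas.getD 4 0, bms.getD 4 [])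

/-- the probe -/
def probe : ℕ := 1

/-- the four vectors are preimages -/
noncomputable def dataOK (d : RepData) : Bool :=
  matsOK d.Ls && decide (d.vi < 2 ^ 112) && decide (d.qi < 2 ^ 112) && decide (d.qa < 2 ^ 112) &&
    decide (d.qb < 2 ^ 112) &&
    force (mulL d.Ls (pack [d.vi, d.qi, d.qa, d.qb])) fun Z =>
      Nat.beq (blk Z 0) v0 && Nat.beq (blk Z 1) probe &&
        Nat.beq (blk Z 2) (blk (mulL [testA.2] probe) 0) &&
        Nat.beq (blk Z 3) (blk (mulL [testB.2] probe) 0)

/-- the entries that fix the vector -/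
noncomputable def cands (vi : ℕ) :
    List (ℕ × ℕ) → List (ℕ × ℕ) → List (ℕ × ℕ) → List (ℕ × ℕ) → List (ℕ × ℕ × ℕ × ℕ)
  | t :: ts, q :: qs, a :: as, b :: bs =>
    bif isSx t.1 && Nat.beq t.2 vi then (t.1, q.2, a.2, b.2) :: cands vi ts qs as bs
    else cands vi ts qs as bs
  | _, _, _, _ => []

/-- one candidate passes, read in packed images -/
noncomputable def passAt (_Z A B A' B' k : ℕ) : Bool :=
  Nat.beq (blk A k) (blk A' k) && Nat.beq (blk B k) (blk B' k)

/-- the number of passing candidates of a chunk -/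
noncomputable def chunkCount (Ls : List (List ℕ)) (l : List (ℕ × ℕ × ℕ × ℕ)) : ℕ :=
  force (mulL Ls (pack (l.map fun c => c.2.1))) fun Z =>
  force (mulL Ls (pack (l.map fun c => c.2.2.1))) fun A =>
  force (mulL Ls (pack (l.map fun c => c.2.2.2))) fun B =>
  force (mulL [testA.2] Z) fun A' =>
  force (mulL [testB.2] Z) fun B' =>
    ((List.range l.length).filter (passAt Z A B A' B')).length

/-- the number of passing candidates -/
noncomputable def passCount (Ls : List (List ℕ)) : ℕ → List (ℕ × ℕ × ℕ × ℕ) → ℕ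
  | 0, l => l.length
  | _ + 1, [] => 0
  | fuel + 1, c :: l => chunkCount Ls ((c :: l).take 112) + passCount Ls fuel ((c :: l).drop 112)

/-- the bound for one representative -/
noncomputable def kBound (d : RepData) : ℕ :=
  passCount d.Ls 20 (cands d.vi (fullTable d.vi) (fullTable d.qi) (fullTable d.qa) (fullTable d.qb))

variable {G : Type*} [Group G] (S : Setup G)

/-- the element carries the involution into the class -/
def Carries (x g : G) : Prop := g⁻¹ * x * g ∈ Ecls S

/-- the condition on a coset -/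
def CarriesQ (x : G) (q : G ⧸ base S) : Prop := Carries S x q.out

theorem carriesQ_mk (hgen : GenBase S) (x g : G) :
    CarriesQ S x (QuotientGroup.mk g) ↔ Carries S x g := by
  obtain ⟨h, hh⟩ := QuotientGroup.mk_out_eq_mul (base S) g
  rw [CarriesQ, Carries, Carries, hh]
  have e : (g * (h : G))⁻¹ * x * (g * h) = (h : G)⁻¹ * (g⁻¹ * x * g) * ((h : G)⁻¹)⁻¹ := by group
  rw [e]
  exact base_le_clsNorm S hgen (inv_mem h.2) _

theorem carriesQ_smul (hgen : GenBase S) (x b : G) (q : G ⧸ base S) :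
    CarriesQ S x (b • q) ↔ CarriesQ S (b⁻¹ * x * b) q := by
  obtain ⟨g, rfl⟩ := QuotientGroup.mk_surjective q
  rw [MulAction.Quotient.smul_mk, carriesQ_mk S hgen, carriesQ_mk S hgen, smul_eq_mul, Carries, Carries]
  group

/-- the base vector -/
def vec0 : Vec := ⟨v0, by decide +kernel⟩

theorem base_fix {ρ : G →* Equiv.Perm Vec} (H : RepHyp S ρ) (hgen : GenBase S) {b : G}
    (hb : b ∈ base S) : ρ b vec0 = vec0 := by
  have hchk : (Nat.beq (appL [Cfsg.Agent.J4RepData13.rx] v0) v0 &&
      Nat.beq (appL [Cfsg.Agent.J4RepData13.ry, Cfsg.Agent.J4RepData13.ry] v0) v0 &&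
      Nat.beq (app (bms.getD 0 []) v0) v0 && Nat.beq (bas.getD 0 0) 3269) = true := by
    decide +kernel
  simp only [Bool.and_eq_true, Nat.beq_eq] at hchk
  obtain ⟨⟨⟨h1, h2⟩, h3⟩, h4⟩ := hchk
  have hle : base S ≤ (MulAction.stabilizer (Equiv.Perm Vec) vec0).comap ρ := by
    rw [hgen, Subgroup.closure_le]
    rintro g (rfl | rfl | rfl) <;> simp only [SetLike.mem_coe, Subgroup.mem_comap,
      MulAction.mem_stabilizer_iff, Equiv.Perm.smul_def]
    · exact Subtype.ext ((congrArg (fun p : Equiv.Perm Vec => (p vec0).val) H.hX).trans h1)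
    · exact Subtype.ext ((congrArg (fun p : Equiv.Perm Vec => (p vec0).val) H.hY).trans h2)
    · have h := (bas_rep S H 0 (by decide +kernel)).2 vec0
      rw [h4] at h
      exact Subtype.ext (h.trans h3)
  exact hle hb

theorem cands_mem (vi : ℕ) : ∀ (T Q A B : List (ℕ × ℕ)) (n : ℕ), n < T.length → n < Q.length →
    n < A.length → n < B.length → isSx (T.getD n (0, 0)).1 = true → (T.getD n (0, 0)).2 = vi →
    ((T.getD n (0, 0)).1, (Q.getD n (0, 0)).2, (A.getD n (0, 0)).2, (B.getD n (0, 0)).2) ∈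
      cands vi T Q A B
  | [], _, _, _, n, h, _, _, _, _, _ => by simp at h
  | _, [], _, _, n, _, h, _, _, _, _ => by simp at h
  | _, _, [], _, n, _, _, h, _, _, _ => by simp at h
  | _, _, _, [], n, _, _, _, h, _, _ => by simp at h
  | t :: ts, q :: qs, a :: as, b :: bs, 0, _, _, _, _, hs, hv => by
    simp only [List.getD_cons_zero] at hs hv ⊢
    simp [cands, hs, hv]
  | t :: ts, q :: qs, a :: as, b :: bs, n + 1, h1, h2, h3, h4, hs, hv => by
    simp only [List.getD_cons_succ, List.length_cons] at *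
    have ih := cands_mem vi ts qs as bs n (by omega) (by omega) (by omega) (by omega) hs hv
    rw [cands]
    cases (isSx t.1 && Nat.beq t.2 vi)
    · exact ih
    · exact List.mem_cons_of_mem _ ih

theorem probe_lt : probe < 2 ^ 112 := by decide +kernel

theorem blk_probe : blk probe 0 = probe := by decide +kernel

theorem appL_one (M : List ℕ) (v : ℕ) : appL [M] v = app M v := rfl

/-- a candidate really passing -/
def Pass (Ls : List (List ℕ)) (c : ℕ × ℕ × ℕ × ℕ) : Prop :=
  c.2.1 < 2 ^ 128 ∧ c.2.2.1 < 2 ^ 128 ∧ c.2.2.2 < 2 ^ 128 ∧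
    appL Ls c.2.2.1 = appL [testA.2] (appL Ls c.2.1) ∧ appL Ls c.2.2.2 = appL [testB.2] (appL Ls c.2.1)

theorem testMats : matsWF [testA.2] ∧ matsWF [testB.2] :=
  ⟨matsWF_of_ok (by decide +kernel), matsWF_of_ok (by decide +kernel)⟩

theorem chunk_le {Ls : List (List ℕ)} (hL : matsWF Ls) (l : List (ℕ × ℕ × ℕ × ℕ)) (hl : l.length ≤ 112) :
    {v | ∃ c ∈ l, c.1 = v ∧ Pass Ls c}.ncard ≤ chunkCount Ls l := by
  classical
  rw [chunkCount, force_eq, force_eq, force_eq, force_eq, force_eq]
  generalize hF : (List.range l.length).filter _ = F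
  refine le_trans (Set.ncard_le_ncard ?_ ((Set.toFinite (F.toFinset : Set ℕ)).image
    fun k => (l.getD k (0, 0, 0, 0)).1)) ((Set.ncard_image_le (Set.toFinite _)).trans ?_)
  · rintro v ⟨c, hc, rfl, h1, h2, h3, e1, e2⟩
    obtain ⟨k, hk, rfl⟩ := List.getElem_of_mem hc
    refine ⟨k, ?_, congrArg Prod.fst (List.getD_eq_getElem _ _ hk)⟩
    rw [Finset.mem_coe, List.mem_toFinset, ← hF, List.mem_filter, List.mem_range]
    refine ⟨hk, ?_⟩
    have hk' : k < 112 := lt_of_lt_of_le hk hl
    have hbl : ∀ f : ℕ × ℕ × ℕ × ℕ → ℕ, f l[k] < 2 ^ 128 → blk (pack (l.map f)) k = f l[k] := by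
      intro f hf
      have e : (l.map f).getD k 0 = f l[k] := by
        rw [List.getD_eq_getElem _ _ (by simpa using hk), List.getElem_map]
      rw [blk_pack _ k (by simpa using hk) (by rw [e]; exact hf), e]
    simp only [passAt, Bool.and_eq_true, Nat.beq_eq, blk_mulL hL _ hk', blk_mulL testMats.1 _ hk',
      blk_mulL testMats.2 _ hk']
    rw [hbl (fun c => c.2.1) h1, hbl (fun c => c.2.2.1) h2, hbl (fun c => c.2.2.2) h3]
    exact ⟨e1, e2⟩
  · rw [Set.ncard_coe_finset]
    exact List.toFinset_card_le F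

theorem pass_le {Ls : List (List ℕ)} (hL : matsWF Ls) : ∀ (fuel : ℕ) (l : List (ℕ × ℕ × ℕ × ℕ)),
    {v | ∃ c ∈ l, c.1 = v ∧ Pass Ls c}.ncard ≤ passCount Ls fuel l
  | 0, l => by
    classical
    refine le_trans (Set.ncard_le_ncard (t := ((l.map Prod.fst).toFinset : Set ℕ)) ?_ (Set.toFinite _)) ?_
    · rintro v ⟨c, hc, rfl, -⟩
      simp only [Finset.mem_coe, List.mem_toFinset]
      exact List.mem_map_of_mem hc
    · rw [Set.ncard_coe_finset]
      exact (List.toFinset_card_le _).trans (by simp [passCount])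
  | _ + 1, [] => by simp
  | fuel + 1, c :: l => by
    rw [passCount]
    refine le_trans (le_trans (Set.ncard_le_ncard ?_ ?_) (Set.ncard_union_le _ _))
      (add_le_add (chunk_le hL _ (List.length_take_le _ _)) (pass_le hL fuel _))
    · rintro v ⟨d, hd, e⟩
      rw [← List.take_append_drop 112 (c :: l), List.mem_append] at hd
      exact hd.imp (fun h => ⟨d, h, e⟩) (fun h => ⟨d, h, e⟩)
    · refine (((c :: l).map Prod.fst).toFinset.finite_toSet).subset ?_
      rintro v (⟨d, hd, rfl, -⟩ | ⟨d, hd, rfl, -⟩) <;>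
        simp only [Finset.mem_coe, List.mem_toFinset]
      · exact List.mem_map_of_mem (List.mem_of_mem_take hd)
      · exact List.mem_map_of_mem (List.mem_of_mem_drop hd)

attribute [local irreducible] fullTable mulL cands passCount appL app

theorem same_keys {T T' : List (ℕ × ℕ)} (h : T'.map Prod.fst = T.map Prod.fst) {n : ℕ}
    (hn : n < T.length) : ∃ h' : n < T'.length, (T'[n]'h').1 = (T[n]'hn).1 := by
  have hl : T'.length = T.length := by simpa using congrArg List.length h
  refine ⟨hl ▸ hn, ?_⟩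
  have := List.getElem_map (f := Prod.fst) (l := T') (i := n) (h := by simpa [hl] using hn)
  rw [← this]
  simp [h]

/-- the bound with the tables kept abstract -/
theorem carried_le_aux {ρ : G →* Equiv.Perm Vec} (H : RepHyp S ρ) (hgen : GenBase S)
    (T : ℕ → List (ℕ × ℕ))
    (hfst : ∀ x y, (T x).map Prod.fst = (T y).map Prod.fst)
    (hsound : ∀ x : Vec, ∀ p ∈ T x.val, inE p.1 = true ∧ ((ρ (S.e p.1)) x).val = p.2)
    (hkeys : ∀ x {v : ℕ}, isSx v = true → ∃ p ∈ T x, p.1 = v)
    (d : RepData) (hd : dataOK d = true) (g : G)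
    (hg : ∀ x : Vec, ((ρ g) x).val = appL d.Ls x.val) :
    {v | isSx v = true ∧ Carries S (S.e v) g⁻¹}.ncard ≤
      passCount d.Ls 20 (cands d.vi (T d.vi) (T d.qi) (T d.qa) (T d.qb)) := by
  classical
  simp only [dataOK, force_eq, Bool.and_eq_true, Nat.beq_eq, decide_eq_true_eq] at hd
  obtain ⟨⟨⟨⟨⟨hw, hv⟩, hq⟩, ha⟩, hb⟩, ⟨⟨e0, e1⟩, e2⟩, e3⟩ := hd
  have hL := matsWF_of_ok hw
  have hlt : ∀ {n : ℕ}, n < 2 ^ 112 → n < 2 ^ 128 := fun h => h.trans (by norm_num)
  rw [blk_mulL hL _ (by norm_num), blk_pack _ 0 (by simp) (by simpa using hlt hv)] at e0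
  rw [blk_mulL hL _ (by norm_num), blk_pack _ 1 (by simp) (by simpa using hlt hq)] at e1
  rw [blk_mulL hL _ (by norm_num), blk_pack _ 2 (by simp) (by simpa using hlt ha),
    blk_mulL testMats.1 _ (by norm_num)] at e2
  rw [blk_mulL hL _ (by norm_num), blk_pack _ 3 (by simp) (by simpa using hlt hb),
    blk_mulL testMats.2 _ (by norm_num)] at e3
  simp only [List.getD_cons_zero, List.getD_cons_succ] at e0 e1 e2 e3
  have hp0 : blk probe 0 = probe := blk_probe
  rw [hp0, appL_one] at e2 e3
  let VI : Vec := ⟨d.vi, hv⟩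
  let QI : Vec := ⟨d.qi, hq⟩
  let QA : Vec := ⟨d.qa, ha⟩
  let QB : Vec := ⟨d.qb, hb⟩
  let PR : Vec := ⟨probe, probe_lt⟩
  have hA := bas_rep S H 0 (by decide +kernel)
  have hB := bas_rep S H 4 (by decide +kernel)
  have x0 : ρ g VI = vec0 := Subtype.ext ((hg VI).trans e0)
  have x1 : ρ g QI = PR := Subtype.ext ((hg QI).trans e1)
  have x2 : ρ g QA = ρ (S.e testA.1) PR := Subtype.ext (((hg QA).trans e2).trans (hA.2 PR).symm)
  have x3 : ρ g QB = ρ (S.e testB.1) PR := Subtype.ext (((hg QB).trans e3).trans (hB.2 PR).symm)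
  generalize hC : cands d.vi (T d.vi) (T d.qi) (T d.qa) (T d.qb) = C
  refine le_trans (Set.ncard_le_ncard (t := {v | ∃ c ∈ C, c.1 = v ∧ Pass d.Ls c}) ?_ ?_) (pass_le hL 20 C)
  swap
  · exact (C.map Prod.fst).toFinset.finite_toSet.subset fun v ⟨c, hc, e, _⟩ => by
      simp only [Finset.mem_coe, List.mem_toFinset, List.mem_map]
      exact ⟨c, hc, e⟩
  rintro v ⟨hsx, hcar⟩
  obtain ⟨w, hw', ew⟩ := hcar
  rw [inv_inv] at ew
  obtain ⟨t, ht, rfl⟩ := hkeys d.vi hsx
  obtain ⟨n, hn, rfl⟩ := List.getElem_of_mem ht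
  have hlen : ∀ y, (T y).length = (T d.vi).length := fun y => by
    simpa using congrArg List.length (hfst y d.vi)
  have hkey : ∀ y (h : n < (T y).length), (T y)[n].1 = (T d.vi)[n].1 := fun y h =>
    (same_keys (hfst y d.vi) hn).2
  have hval : ∀ (X : Vec) (h : n < (T X.val).length),
      ((ρ (S.e (T d.vi)[n].1)) X).val = (T X.val)[n].2 := by
    intro X h
    rw [← hkey X.val h]
    exact (hsound X _ (List.getElem_mem h)).2
  set v := (T d.vi)[n].1 with hvdef
  -- the conjugate lies in the class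
  have hconj : ∀ X : Vec, ρ g (ρ (S.e v) X) = ρ (S.e w) (ρ g X) := by
    intro X
    rw [← Equiv.Perm.mul_apply, ← Equiv.Perm.mul_apply, ← map_mul, ← map_mul, ew,
      inv_mul_cancel_right]
  have hfix : ρ (S.e v) VI = VI := by
    apply (ρ g).injective
    rw [hconj, x0]
    refine base_fix S H hgen ?_
    exact Subgroup.subset_closure (Or.inr ⟨w, (sx_spec hw').1, rfl⟩)
  have hvi : (T d.vi)[n].2 = d.vi := by
    rw [← hval VI hn, hfix]
  have hnq := (hlen d.qi).symm ▸ hn
  have hna := (hlen d.qa).symm ▸ hn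
  have hnb := (hlen d.qb).symm ▸ hn
  have hmem := cands_mem d.vi _ _ _ _ n hn hnq hna hnb
    (by rw [List.getD_eq_getElem _ _ hn]; exact hsx)
    (by rw [List.getD_eq_getElem _ _ hn]; exact hvi)
  rw [hC] at hmem
  refine ⟨_, hmem, (congrArg Prod.fst (List.getD_eq_getElem _ (0, 0) hn)).trans hvdef.symm, ?_⟩
  rw [List.getD_eq_getElem _ _ hnq, List.getD_eq_getElem _ _ hna, List.getD_eq_getElem _ _ hnb]
  have comm : ∀ b, inE b = true → ∀ X : Vec,
      ρ (S.e w) (ρ (S.e b) X) = ρ (S.e b) (ρ (S.e w) X) := by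
    intro b hb' X
    rw [← Equiv.Perm.mul_apply, ← map_mul, e_comm S (sx_spec hw').1 hb', map_mul, Equiv.Perm.mul_apply]
  have hgl : ∀ (X : Vec) (h : n < (T X.val).length),
      ((ρ g) (ρ (S.e v) X)).val = appL d.Ls (T X.val)[n].2 := fun X h => by
    rw [hg, hval X h]
  have hbd : ∀ (X : Vec) (h : n < (T X.val).length), (T X.val)[n].2 < 2 ^ 128 :=
    fun X h => hval X h ▸ hlt ((ρ (S.e v)) X).2
  refine ⟨hbd QI hnq, hbd QA hna, hbd QB hnb, ?_, ?_⟩ <;>
    rw [appL_one, ← hgl QI hnq]
  · rw [← hgl QA hna, hconj, hconj, x1, x2, comm testA.1 hA.1]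
    exact hA.2 _
  · rw [← hgl QB hnb, hconj, hconj, x1, x3, comm testB.1 hB.1]
    exact hB.2 _

/-- at most `kBound` sextets are carried into the class by a representative -/
theorem carried_le {ρ : G →* Equiv.Perm Vec} (H : RepHyp S ρ) (hgen : GenBase S) (L : Laws)
    (d : RepData) (hd : dataOK d = true) (g : G)
    (hg : ∀ x : Vec, ((ρ g) x).val = appL d.Ls x.val) :
    {v | isSx v = true ∧ Carries S (S.e v) g⁻¹}.ncard ≤ kBound d :=
  carried_le_aux S H hgen fullTable fullTable_fst (fullTable_sound S H L)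
    (fun x _ h => fullTable_keys x h) d hd g hg

/-- the bounds of the seven suborbits -/
def kb : List ℕ := [1771, 7, 0, 0, 1, 0, 0]

/-- at most 77 cosets carry the involution into the class -/
theorem carried_cosets_le [Finite G] (hgen : GenBase S) (hinj : PsiInj S) (r : ℕ → G)
    (hsize : ∀ i < 7, (orb S r i).ncard = sizes.getD i 0)
    (hcover : ∀ q, ∃ i < 7, q ∈ orb S r i)
    (hk : ∀ i < 7, {v | isSx v = true ∧ Carries S (S.e v) (r i)⁻¹}.ncard ≤ kb.getD i 0) :
    {q : G ⧸ base S | CarriesQ S (zz S) q}.ncard ≤ 77 := by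
  classical
  haveI : Fintype (G ⧸ base S) := Fintype.ofFinite _
  set Z := {q : G ⧸ base S | CarriesQ S (zz S) q} with hZ
  have hcol : ∀ v ∈ sxF,
      (Finset.univ.filter fun q : G ⧸ base S => CarriesQ S (S.e v) q).card = Z.ncard := by
    intro v hv
    obtain ⟨b, -, e⟩ := transitive S ⟨v, mem_sxF.1 hv, rfl⟩
    rw [hZ, Set.ncard_eq_toFinset_card', Set.toFinset_ofPred]
    refine Finset.card_nbij (fun q => b⁻¹ • q) ?_ ?_ ?_
    · intro q hq
      simp only [Finset.mem_coe, Finset.mem_filter, Finset.mem_univ, true_and] at hq ⊢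
      rw [carriesQ_smul S hgen, inv_inv, e]
      exact hq
    · exact fun a _ b' _ h => MulAction.injective _ h
    · intro q hq
      simp only [Finset.mem_coe, Finset.mem_filter, Finset.mem_univ, true_and] at hq
      refine ⟨b • q, ?_, by simp⟩
      simp only [Finset.mem_coe, Finset.mem_filter, Finset.mem_univ, true_and]
      rw [carriesQ_smul S hgen, show b⁻¹ * S.e v * b = zz S by rw [← e]; group]
      exact hq
  have hrow : ∀ i < 7, ∀ q ∈ orb S r i,
      (sxF.filter fun v => CarriesQ S (S.e v) q).card ≤ kb.getD i 0 := by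
    rintro i hi _ ⟨⟨b, hb⟩, rfl⟩
    refine le_trans ?_ (hk i hi)
    rw [← Set.ncard_coe_finset]
    set T := {v | isSx v = true ∧ Carries S (S.e v) (r i)⁻¹}
    have hTfin : T.Finite := (Set.finite_Iio 4096).subset fun v hv => sx_lt hv.1
    refine le_trans (Set.ncard_le_ncard_of_injOn (fun v => b⁻¹ * S.e v * b) ?_ ?_ (hTfin.image S.e))
      (Set.ncard_image_le hTfin)
    · intro v hv
      simp only [Finset.coe_filter, mem_sxF, Set.mem_ofPred_eq] at hv
      have h := ((base_le_clsNorm S hgen (inv_mem hb)) (S.e v)).2 ⟨v, hv.1, rfl⟩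
      rw [inv_inv] at h
      obtain ⟨w, hw, ew⟩ := h
      refine ⟨w, ⟨hw, ?_⟩, ew⟩
      have h2 := (carriesQ_smul S hgen (S.e v) b (QuotientGroup.mk (r i)⁻¹)).1 hv.2
      rw [carriesQ_mk S hgen] at h2
      rwa [← ew] at h2
    · intro v hv w hw e
      simp only [Finset.coe_filter, mem_sxF, Set.mem_ofPred_eq] at hv hw
      exact e_inj S hinj (sx_spec hv.1).1 (sx_spec hw.1).1 (by simpa using e)
  have hsum := Finset.sum_card_bipartiteAbove_eq_sum_card_bipartiteBelow
    (r := fun v (q : G ⧸ base S) => CarriesQ S (S.e v) q) (s := sxF) (t := Finset.univ)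
  simp only [Finset.bipartiteAbove, Finset.bipartiteBelow] at hsum
  rw [Finset.sum_congr rfl hcol, Finset.sum_const, card_sxF, smul_eq_mul] at hsum
  have hbound : ∑ q : G ⧸ base S, (sxF.filter fun v => CarriesQ S (S.e v) q).card ≤
      ∑ i ∈ Finset.range 7, sizes.getD i 0 * kb.getD i 0 := by
    calc ∑ q : G ⧸ base S, (sxF.filter fun v => CarriesQ S (S.e v) q).card
        ≤ ∑ q : G ⧸ base S, ∑ i ∈ Finset.range 7, (if q ∈ orb S r i then kb.getD i 0 else 0) := by
          refine Finset.sum_le_sum fun q _ => ?_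
          obtain ⟨i, hi, hq⟩ := hcover q
          refine le_trans (hrow i hi q hq) ?_
          have h2 := Finset.single_le_sum (f := fun i => if q ∈ orb S r i then kb.getD i 0 else 0)
            (s := Finset.range 7) (fun _ _ => Nat.zero_le _) (Finset.mem_range.2 hi)
          simpa only [if_pos hq] using h2
      _ = _ := by
          rw [Finset.sum_comm]
          refine Finset.sum_congr rfl fun i hi => ?_
          rw [Finset.sum_ite, Finset.sum_const_zero, add_zero, Finset.sum_const, smul_eq_mul,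
            ← hsize i (Finset.mem_range.1 hi), Set.ncard_eq_toFinset_card']
          congr 1
          rw [Set.toFinset_congr rfl]
          simp
  have : ∑ i ∈ Finset.range 7, sizes.getD i 0 * kb.getD i 0 = 136367 := by decide +kernel
  omega

end Cfsg.Agent.J4XCentCount12
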