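import Cfsg.Agent.Lib.J4OutNorm18
import Cfsg.Agent.Lib.J4XCentCount12

/-!
An automorphism of the presented fourth Janko group that fixes the normal subgroup of order 2^11 of the
subgroup of shape 2^11 : M24 and fixes, or twists by a cocycle, the two permutation generators is the identity.
-/

set_option autoImplicit false
set_option maxRecDepth 100000
set_option maxHeartbeats 1000000
set_option linter.style.haveILetI false

namespace Cfsg.Agent.J4OutFixCert4

open Cfsg Cfsg.Agent.GolayBasic Cfsg.Agent.GolayPerm Cfsg.Agent.GolayEnumComp Cfsg.Agent.J4XBase18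
open Cfsg.Agent.J4XCert18 Cfsg.Agent.J4XCount4 Cfsg.Agent.J4OutBase18 Cfsg.Agent.J4OutNorm18
open Cfsg.Agent.J4XCentClass12 (gc gc_good)
open Cfsg.Agent.J4XCentData12 (wu)
open Cfsg.Agent.J4XCentRep12 (RepHyp fullTable sameUnits sameUnits_sound)
open Cfsg.Agent.J4Rep13 (Vec rho mats appL app)
open Cfsg.Agent.J4PresGen13 (wv lv)

/-- words for the permutations in `deList` -/
def deWords : List (List ℕ) :=
  [[1, 0, 1, 0, 1, 0, 1, 0, 1, 1, 0, 1, 0, 1, 0, 1, 1, 0, 1, 1, 0, 1, 1, 0, 1, 0, 1, 1, 0, 1, 0, 1, 0, 1, 0, 1, 1, 0, 1, 0, 1, 0, 1, 1, 0, 1, 1, 0, 1, 1, 0, 1, 0, 1],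
   [0, 1, 0, 1, 1, 0, 1, 0, 1, 0, 1, 0, 1, 0, 1, 1, 0, 1, 0, 1, 1, 0, 1, 1, 0, 1, 0, 1, 0, 1, 1, 0, 1, 0, 1, 1, 0, 1, 0, 1, 1, 0, 1, 0, 1, 1, 0],
   [1, 0, 1, 0, 1, 0, 1, 0, 1, 1, 0, 1, 0, 1, 0, 1, 1, 0, 1, 1, 0, 1, 1, 0, 1, 1, 0, 1, 1, 0, 1, 0, 1, 1, 0, 1, 1, 0, 1, 0, 1, 0, 1, 0, 1, 1, 0, 1, 0, 1, 0, 1, 1, 0, 1, 1, 0, 1, 1, 0, 1, 0, 1],
   [1, 0, 1, 1, 0, 1, 0, 1, 1, 0, 1, 1, 0, 1, 0, 1, 1, 0, 1, 0, 1, 0, 1, 1, 0, 1, 0, 1, 1, 0, 1, 0, 1, 1, 0, 1, 1, 0, 1, 1, 0, 1, 1, 0, 1, 1, 0, 1, 0, 1, 1, 0, 1, 0, 1, 0, 1, 1, 0, 1, 0, 1, 0, 1, 0, 1, 1, 0, 1],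
   [0, 1, 0, 1, 0, 1, 0, 1, 1, 0, 1, 0, 1, 0, 1, 0, 1, 1, 0, 1, 1, 0, 1, 0, 1, 1, 0, 1, 1, 0, 1, 1, 0, 1, 1, 0, 1, 1, 0, 1, 0, 1, 1, 0, 1, 1, 0, 1, 1, 0, 1, 1, 0, 1, 0, 1, 0, 1, 0, 1, 0, 1, 0, 1],
   [1, 0, 1, 1, 0, 1, 0, 1, 0, 1, 0, 1, 0, 1, 1, 0, 1, 0, 1, 1, 0, 1, 1, 0, 1, 0, 1, 0, 1, 1, 0, 1, 0, 1, 1, 0, 1, 0, 1, 1, 0, 1, 0, 1, 1],
   [0, 1, 1, 0, 1, 1, 0, 1, 0, 1, 1, 0, 1, 1, 0, 1, 0, 1, 1, 0, 1, 1, 0, 1, 1, 0, 1, 0, 1, 1, 0, 1, 0, 1, 1, 0, 1, 0, 1, 1, 0, 1, 1, 0, 1, 0, 1, 1, 0, 1, 0, 1, 0, 1, 1, 0, 1, 1, 0, 1, 1, 0, 1],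
   [1, 0, 1, 1, 0, 1, 0, 1, 0, 1, 0, 1, 1, 0, 1, 1, 0, 1, 1, 0, 1, 1, 0, 1, 0, 1, 0, 1, 0, 1, 0, 1, 1, 0, 1, 0, 1, 1, 0, 1, 1, 0, 1, 0, 1, 1, 0, 1, 0, 1, 1, 0, 1, 1, 0, 1],
   [0, 1, 0, 1, 0, 1, 0, 1, 0, 1, 1, 0, 1, 1, 0, 1, 1, 0, 1, 1, 0, 1, 0, 1, 1, 0, 1, 1, 0, 1, 1, 0, 1, 0, 1, 0, 1, 1, 0, 1, 1, 0, 1, 1, 0, 1, 0, 1, 1, 0, 1, 1, 0, 1, 0, 1, 0, 1, 0, 1, 0, 1, 1, 0, 1, 1, 0, 1, 1, 0]]

/-- words of the two generators of the trio stabiliser -/
def kWords : List (List ℕ) := [[0], [1, 0, 1, 0, 1, 1, 0, 1, 1, 0, 1, 0, 1, 0, 1]]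

/-- the classes of the twist on those, as combinations of `deList` -/
def kComb : List (List ℕ) :=
  [[0, 1, 2, 5, 6, 8], [2, 4, 7, 8]]

/-- a path to each point, untwisted -/
def route0 : List (List ℕ) :=
  [[], [4, 2], [9, 7], [9, 4], [4, 9], [10, 2], [10, 3], [2, 10], [1], [4, 9, 1], [9, 3], [9, 2], [10, 4], [1, 10], [10, 7], [9], [7, 2], [4], [10], [9, 1], [7], [2], [10, 1], [3]]

/-- a path to each point, twisted -/
def route1 : List (List ℕ) :=
  [[], [4, 2], [9, 1], [9], [9, 3], [10, 3], [10, 2], [1, 10], [1], [9, 2], [4, 9], [4, 9, 1], [10, 7], [2, 10], [10, 4], [9, 4], [7, 2], [4], [10, 1], [9, 7], [7], [2], [10], [3]]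

/-- the span of the classes in `deList`, as a mask -/
def deMask : ℕ := 0x690069000000000096009600000000000069006900000000009600960000690000000000690096000000000096000069000000000069009600000000009669000000000069009600000000009600006900000000006900960000000000960000690069000000000096009600000000000069006900000000009600960000000096009600000000006900690000000000009600960000000000690069000096000000000096006900000000006900009600000000009600690000000000699600000000009600690000000000690000960000000000960069000000000069000096009600000000006900690000000000009600960000000000690069000069000000000069009600000000009600006900000000006900960000000000960000690069000000000096009600000000000069006900000000009600960000000069006900000000009600960000000000006900690000000000960096000069000000000069009600000000009600006900000000006900960000000000969600000000009600690000000000690000960000000000960069000000000069000096009600000000006900690000000000009600960000000000690069000000009600960000000000690069000000000000960096000000000069006900009600000000009600690000000000690000960000000000960069000000000069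

/-- the word of the third generator of the subgroup -/
def zw : List ℕ := [2, 1, 2, 1, 3, 1, 3, 1, 3, 1, 3, 4, 2, 0, 2, 0, 2, 0, 2, 0, 3, 0, 2, 1, 2, 1, 3, 1, 3, 1, 3, 1, 3, 4, 2, 0, 2, 0, 2, 0, 2, 0, 3, 0, 2, 1, 2, 1, 3, 1, 3, 1, 3, 1, 3, 4, 2, 0, 2, 0, 2, 0, 2, 0, 3, 0]

theorem repHyp : RepHyp S0 rho where
  hX := by
    show rho (J4XPerm10.m J4M24Iso13.eX) = _
    rw [J4XPerm10.m_eX]; exact J4Rep13.rho_x
  hY := by
    show rho (J4XPerm10.m J4M24Iso13.eY) = _
    rw [J4XPerm10.m_eY]; exact PresentedGroup.toGroup.of J4Rep13.rel_one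
  hT := PresentedGroup.toGroup.of J4Rep13.rel_one
  hU := by
    have h : S0.e 3269 = J4XPerm10.q (wv J4Rep13.fgen zw) := by
      rw [← show J4XPerm10.q J4XGlue18.sWord = J4XPerm10.q (wv J4Rep13.fgen zw) from
        congrArg J4XPerm10.q (show J4XGlue18.sWord = wv J4Rep13.fgen zw by decide +kernel)]
      exact J4XSetup23.cube_ee.symm
    have hr : rho (J4XPerm10.q (wv J4Rep13.fgen zw)) = wv J4Rep13.pn zw := by
      rw [← J4Rep13.lift_wv]; rfl
    rw [h, hr]
    refine Equiv.ext fun v => Subtype.ext ?_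
    have l1 : ∀ l ∈ zw, l < 6 := by decide +kernel
    have l2 : ∀ l ∈ wu, l < 6 := by decide +kernel
    rw [J4Rep13.wv_pn_apply zw l1 v, J4Rep13.wv_pn_apply wu l2 v]
    exact sameUnits_sound (by decide +kernel) v.1 v.2

/-- membership of the span -/
def inDE (v : ℕ) : Bool := deMask.testBit v

/-- the intersection of the subgroup with its conjugate -/
def InD (g : Spor.J4) : Prop := g ∈ B0 ∧ S0.t * g * S0.t ∈ B0

theorem t_inv : S0.t⁻¹ = S0.t := inv_eq_of_mul_eq_one_right S0.tsq

theorem InD.mul {g h : Spor.J4} (hg : InD g) (hh : InD h) : InD (g * h) := by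
  refine ⟨mul_mem hg.1 hh.1, ?_⟩
  have e : S0.t * (g * h) * S0.t = S0.t * g * S0.t * (S0.t * h * S0.t) := by
    calc S0.t * (g * h) * S0.t = S0.t * g * (S0.t * S0.t) * h * S0.t := by rw [S0.tsq]; group
      _ = _ := by group
  rw [e]
  exact mul_mem hg.2 hh.2

theorem InD.one : InD 1 := ⟨one_mem _, by rw [mul_one, S0.tsq]; exact one_mem _⟩

theorem InD.inv {g : Spor.J4} (hg : InD g) : InD g⁻¹ := by
  refine ⟨inv_mem hg.1, ?_⟩
  have := inv_mem hg.2
  rwa [mul_inv_rev, mul_inv_rev, t_inv, ← mul_assoc] at this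

/-- the pair of the conjugate of a combination -/
def tpair : List ℕ → ℕ × ℕ
  | [] => J4XCert18.one
  | j :: l => hmul (deList.getD j (0, idP)) (tpair l)

/-- the class of a combination -/
def tcl : List ℕ → ℕ
  | [] => 0
  | j :: l => (deList.getD j (0, idP)).1 ^^^ tcl l

theorem de_ok : ∀ j, okH (deList.getD j (0, idP)) = true := by
  intro j
  rcases Nat.lt_or_ge j deList.length with h | h
  · have hall : (deList.all okH) = true := by decide +kernel
    rw [List.getD_eq_getElem _ _ h]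
    exact List.all_eq_true.1 hall _ (List.getElem_mem h)
  · rw [List.getD_eq_default _ _ h]
    exact J4XCert18.okH_one

theorem t_de (j : ℕ) :
    S0.t * S0.e (deList.getD j (0, idP)).1 * S0.t = psi S0 (deList.getD j (0, idP)) := by
  rcases Nat.lt_or_ge j deList.length with h | h
  · rw [List.getD_eq_getElem _ _ h]
    exact S0.de _ (List.getElem_mem h)
  · rw [List.getD_eq_default _ _ h]
    simp [psi, J4XCert18.e_zero, J4XCert18.m_idP, S0.tsq]

theorem tpair_spec : ∀ l, okH (tpair l) = true ∧ inE (tcl l) = true ∧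
    S0.t * S0.e (tcl l) * S0.t = psi S0 (tpair l)
  | [] => ⟨J4XCert18.okH_one, by decide +kernel, by
      rw [tcl, tpair, J4XCert18.e_zero, J4XCert18.psi_one, mul_one, S0.tsq]⟩
  | j :: l => by
    obtain ⟨h1, h2, h3⟩ := tpair_spec l
    have hd := de_ok j
    have hd1 : inE (deList.getD j (0, idP)).1 = true := by
      simp only [okH, Bool.and_eq_true] at hd; exact hd.1
    refine ⟨okH_hmul J4XLaws10.laws hd h1, J4XLaws10.laws.inE_xor hd1 h2, ?_⟩
    rw [tcl, tpair, S0.e_mul hd1 h2, psi_hmul S0 J4XLaws10.laws hd h1, ← t_de, ← h3]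
    calc S0.t * (S0.e _ * S0.e _) * S0.t
        = S0.t * S0.e (deList.getD j (0, idP)).1 * (S0.t * S0.t) * S0.e (tcl l) * S0.t := by rw [S0.tsq]; group
      _ = _ := by group

/-- the indices of a nine digit code -/
def digits (c : ℕ) : List ℕ := (List.range 9).filter fun j => c.testBit j

theorem de_check : ((List.range 4096).all fun v =>
    !inDE v || ((List.range 512).any fun c => Nat.beq (tcl (digits c)) v)) = true := by decide +kernel

theorem de_mem {v : ℕ} (hv : inDE v = true) : inE v = true ∧ InD (S0.e v) := by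
  have hlt : v < 4096 := by
    by_contra hc
    have h1 : deMask < 2 ^ v := lt_of_lt_of_le (show deMask < 2 ^ 4096 by decide +kernel)
      (Nat.pow_le_pow_right (by norm_num) (by omega))
    rw [inDE, Nat.testBit_lt_two_pow h1] at hv
    exact Bool.false_ne_true hv
  have h := List.all_eq_true.1 de_check v (List.mem_range.2 hlt)
  simp only [hv, Bool.not_true, Bool.false_or, List.any_eq_true, Nat.beq_eq] at h
  obtain ⟨c, -, rfl⟩ := h
  obtain ⟨h1, h2, h3⟩ := tpair_spec (digits c)
  exact ⟨h2, Subgroup.subset_closure (Or.inr ⟨_, h2, rfl⟩), h3 ▸ psi_mem_base S0 h1⟩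

theorem genBase : J4XCentClass12.GenBase S0 := by
  show base S0 = _
  rw [J4XGlue18.base_eq S0 J4XLaws10.laws rfl J4XSetup23.cube_ee, J4XGlue18.H, MonoidHom.map_closure,
    ← show J4XPerm10.q J4XGlue18.sWord = S0.e 3269 from J4XSetup23.cube_ee,
    ← show J4XPerm10.q Spor.J4.x = S0.m J4XCentClass12.eX from J4XPerm10.m_eX.symm,
    ← show J4XPerm10.q Spor.J4.y = S0.m J4XCentClass12.eY from J4XPerm10.m_eY.symm]
  simp only [Set.image_insert_eq, Set.image_singleton]
  rfl

theorem tab_check : ((fullTable (appL [J4RepData13.rt] J4XCentData12.v0)).all fun p =>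
      !(Nat.beq p.2 (appL [J4RepData13.rt] J4XCentData12.v0)) || inDE p.1) = true := by
  decide +kernel

theorem keys_all : ((List.range 4096).all fun v =>
    !inE v || (J4XCentRep12.keysMask ((fullTable 0).map Prod.fst)).testBit v) = true := by
  decide +kernel

theorem de_of_mem {v : ℕ} (hv : inE v = true) (h : S0.t * S0.e v * S0.t ∈ B0) : inDE v = true := by
  set u : Vec := rho S0.t J4XCentCount12.vec0 with hu
  have h1 := J4XCentCount12.base_fix S0 repHyp genBase h
  have hfix : rho (S0.e v) u = u := by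
    apply (rho S0.t).injective
    rw [map_mul, map_mul, Equiv.Perm.mul_apply, Equiv.Perm.mul_apply, ← hu] at h1
    rw [h1, hu, ← Equiv.Perm.mul_apply, ← map_mul, S0.tsq, map_one, Equiv.Perm.one_apply]
  have hlt : v < 4096 := by
    simp only [inE, Bool.and_eq_true, decide_eq_true_eq] at hv; exact hv.1
  have hk := List.all_eq_true.1 keys_all v (List.mem_range.2 hlt)
  simp only [hv, Bool.not_true, Bool.false_or] at hk
  have hmem := J4XCentRep12.keysMask_sound _ v hk
  rw [J4XCentRep12.fullTable_fst 0 u.1] at hmem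
  obtain ⟨p, hp, hpv⟩ := List.mem_map.1 hmem
  obtain ⟨-, hval⟩ := J4XCentRep12.fullTable_sound S0 repHyp J4XLaws10.laws u p hp
  rw [hpv, hfix] at hval
  have hu1 : u.1 = appL [J4RepData13.rt] J4XCentData12.v0 := by
    rw [hu, repHyp.hT]; rfl
  have hc := List.all_eq_true.1 tab_check p (hu1 ▸ hp)
  simp only [← hval, hu1, Nat.beq_refl, Bool.not_true, Bool.false_or] at hc
  rwa [hpv] at hc

/-! ### the blocks of the trio -/

/-- the block of a point -/
def blk (i : ℕ) : ℕ := bif Nat.testBit 560668 i then 0 else bif Nat.testBit 4485344 i then 1 else 2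

theorem blk_check : ((List.range 24).all fun i => (List.range 24).all fun j => Nat.beq i j ||
    (inDE (cv (2 ^ i ^^^ 2 ^ j)) == Nat.beq (blk i) (blk j))) = true := by decide +kernel

theorem trio_check : ((List.range 3).all fun k =>
    let o := trio0.getD k 0
    Nat.beq (wt o) 8 && decide (o < 2 ^ 24) &&
      (List.range 24).all fun i => o.testBit i == Nat.beq (blk i) k) = true := by decide +kernel

theorem pmask_single {P i : ℕ} (hP : valid P = true) (hi : i < 24) : pmask P (2 ^ i) = 2 ^ pimg P i := by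
  refine Nat.eq_of_testBit_eq fun j => Bool.eq_iff_iff.2 ?_
  rw [testBit_pmask, Nat.testBit_two_pow, decide_eq_true_eq]
  constructor
  · rintro ⟨k, -, hk, e⟩
    rw [Nat.testBit_two_pow, decide_eq_true_eq] at hk
    rw [hk, e]
  · intro e
    exact ⟨i, hi, by rw [Nat.testBit_two_pow]; simp, e⟩

theorem fixT0_of {P : ℕ} (hP : good P = true) (h : ∀ v, inDE v = true → inDE (vact P v) = true) :
    fixT0 P = true := by
  have hv : valid P = true := valid_of_good hP
  have hbc : ∀ i < 24, ∀ j < 24, i ≠ j → (inDE (cv (2 ^ i ^^^ 2 ^ j)) = true ↔ blk i = blk j) := by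
    intro i hi j hj hne
    have := List.all_eq_true.1 (List.all_eq_true.1 blk_check i (List.mem_range.2 hi)) j (List.mem_range.2 hj)
    have hf : Nat.beq i j = false := by
      cases hb : Nat.beq i j
      · rfl
      · exact absurd (Nat.eq_of_beq_eq_true hb) hne
    rw [hf, Bool.false_or, beq_iff_eq] at this
    rw [this, Nat.beq_eq]
  have hmap : ∀ i < 24, ∀ j < 24, blk i = blk j → blk (pimg P i) = blk (pimg P j) := by
    intro i hi j hj e
    rcases eq_or_ne i j with rfl | hne
    · rfl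
    rcases eq_or_ne (pimg P i) (pimg P j) with he | he
    · rw [he]
    have h1 := h _ ((hbc i hi j hj hne).2 e)
    rw [J4XPerm10.vact_cv hP, J4XPerm10.pmask_xor hv, pmask_single hv hi, pmask_single hv hj] at h1
    exact (hbc _ (pimg_lt hv hi) _ (pimg_lt hv hj) he).1 h1
  simp only [fixT0, List.all_eq_true, List.contains_iff_mem]
  intro o ho
  obtain ⟨k, hk, rfl⟩ := List.getElem_of_mem ho
  have hk3 : k < 3 := by simpa [trio0] using hk
  have tc : ∀ k < 3, wt (trio0.getD k 0) = 8 ∧ trio0.getD k 0 < 2 ^ 24 ∧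
      ∀ i < 24, ((trio0.getD k 0).testBit i = true ↔ blk i = k) := by
    intro k hk
    have := List.all_eq_true.1 trio_check k (List.mem_range.2 hk)
    simp only [Bool.and_eq_true, Nat.beq_eq, decide_eq_true_eq, List.all_eq_true, List.mem_range, beq_iff_eq] at this
    exact ⟨this.1.1, this.1.2, fun i hi => by rw [this.2 i hi, Nat.beq_eq]⟩
  rw [← List.getD_eq_getElem trio0 0 hk]
  obtain ⟨hw, ho24, hbit⟩ := tc k hk3
  have hex : ∃ i < 24, blk i = k := by
    by_contra hc
    push_neg at hc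
    have h0 : trio0.getD k 0 = 0 := Nat.eq_of_testBit_eq fun i => by
      rw [Nat.zero_testBit]
      by_contra hb
      rw [Bool.not_eq_false] at hb
      have hi : i < 24 := by
        by_contra hi
        rw [Nat.testBit_lt_two_pow (ho24.trans_le (Nat.pow_le_pow_right (by norm_num) (by omega)))] at hb
        exact Bool.false_ne_true hb
      exact hc i hi ((hbit i hi).1 hb)
    rw [h0] at hw
    exact absurd hw (by decide +kernel)
  obtain ⟨i0, hi0, e0⟩ := hex
  set k' := blk (pimg P i0) with hk'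
  have hk'3 : k' < 3 := by
    rw [hk', blk]
    cases (Nat.testBit 560668 (pimg P i0)) <;> cases (Nat.testBit 4485344 (pimg P i0)) <;> simp
  obtain ⟨hw', ho24', hbit'⟩ := tc k' hk'3
  suffices he : pmask P (trio0.getD k 0) = trio0.getD k' 0 by
    rw [he, List.getD_eq_getElem trio0 0 (by simpa [trio0] using hk'3)]
    exact List.getElem_mem _
  refine mset_inj (J4XPerm10.pmask_lt hv _) ho24' ?_
  refine Finset.eq_of_subset_of_card_le ?_ (by rw [card_mset, card_mset, J4XPerm10.wt_pmask hv, hw, hw'])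
  intro p hp
  rw [mem_mset] at hp ⊢
  obtain ⟨i, hi, hb, e⟩ := testBit_pmask.1 hp
  rw [← e, (hbit' _ (pimg_lt hv hi)), hk']
  exact hmap i hi i0 hi0 (((hbit i hi).1 hb).trans e0.symm)

/-! ### the automorphism -/

/-- the permutation of a word -/
def pfold : List ℕ → ℕ
  | [] => idP
  | c :: l => pcomp (gc c) (pfold l)

/-- the image of a generator -/
def gpair (tw : Bool) (c : ℕ) : ℕ × ℕ := (bif tw && Nat.beq c 0 then cx0 else 0, gc c)

/-- the image of a word -/
def afold (tw : Bool) : List ℕ → ℕ × ℕ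
  | [] => J4XCert18.one
  | c :: l => hmul (gpair tw c) (afold tw l)

theorem gpair_ok (tw : Bool) (c : ℕ) : okH (gpair tw c) = true := by
  have h : ((inE cx0 && inE 0) = true) := by decide +kernel
  simp only [Bool.and_eq_true] at h
  simp only [gpair, okH, gc_good, Bool.and_true]
  cases (tw && Nat.beq c 0) <;> simp [h.1, h.2]

theorem afold_ok (tw : Bool) : ∀ w, okH (afold tw w) = true
  | [] => J4XCert18.okH_one
  | c :: l => okH_hmul J4XLaws10.laws (gpair_ok tw c) (afold_ok tw l)

theorem good_pfold : ∀ w, good (pfold w) = true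
  | [] => J4XCount4.good_idP
  | c :: l => J4XLaws10.laws.good_mul (gc_good c) (good_pfold l)

variable (a : MulAut Spor.J4) (tw : Bool)

theorem map_word (hg : ∀ c, a (S0.m (gc c)) = psi S0 (gpair tw c)) :
    ∀ w, a (S0.m (pfold w)) = psi S0 (afold tw w)
  | [] => by rw [pfold, afold, J4XCert18.m_idP, map_one, J4XCert18.psi_one]
  | c :: l => by
    rw [pfold, afold, S0.m_mul (gc_good c) (good_pfold l), map_mul, hg, map_word hg l,
      psi_hmul S0 J4XLaws10.laws (gpair_ok tw c) (afold_ok tw l)]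

theorem word_check : (((List.range 9).all fun j =>
    Nat.beq (pfold (deWords.getD j [])) (deList.getD j (0, idP)).2) &&
    (List.range 2).all fun j => fixT0 (pfold (kWords.getD j [])) &&
      (Nat.beq (afold false (kWords.getD j [])).1 (tcl []) &&
        Nat.beq (afold true (kWords.getD j [])).1 (tcl (kComb.getD j [])) &&
        inDE (afold false (kWords.getD j [])).1 && inDE (afold true (kWords.getD j [])).1 &&
        Nat.beq (afold false (kWords.getD j [])).2 (pfold (kWords.getD j [])) &&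
        Nat.beq (afold true (kWords.getD j [])).2 (pfold (kWords.getD j [])))) = true := by
  decide +kernel

/-- the combination of a twist -/
def comb (tw : Bool) (j : ℕ) : List ℕ := bif tw then kComb.getD j [] else []

/-- the pairs conjugated by the element sought -/
def pA (tw : Bool) (j : ℕ) : ℕ × ℕ :=
  bif Nat.blt j 9 then hmul (deList.getD j (0, idP)) J4XCert18.one
  else hmul (tpair (comb tw (j - 9))) (0, pfold (kWords.getD (j - 9) []))

/-- their images -/
def pB (tw : Bool) (j : ℕ) : ℕ × ℕ :=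
  bif Nat.blt j 9 then hmul ((deList.getD j (0, idP)).1, idP) (afold tw (deWords.getD j []))
  else hmul J4XCert18.one (afold tw (kWords.getD (j - 9) []))

theorem pair_ok (j : ℕ) (tw : Bool) : okH (pA tw j) = true ∧ okH (pB tw j) = true := by
  unfold pA pB
  cases Nat.blt j 9
  · refine ⟨okH_hmul J4XLaws10.laws (tpair_spec _).1 ?_, okH_hmul J4XLaws10.laws J4XCert18.okH_one (afold_ok _ _)⟩
    simp [okH, good_pfold, J4OutNorm18.inE_zero]
  · refine ⟨okH_hmul J4XLaws10.laws (de_ok j) J4XCert18.okH_one, okH_hmul J4XLaws10.laws ?_ (afold_ok _ _)⟩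
    have := de_ok j
    simp only [okH, Bool.and_eq_true] at this
    simp only [okH, this.1, J4XCount4.good_idP, Bool.and_self]

/-- the path map -/
def act (f : ℕ → ℕ × ℕ) : List ℕ → ℕ → ℕ
  | [], p => p
  | j :: l, p => pimg (f j).2 (act f l p)

/-- the candidate with a given image of the first point -/
def cand (tw : Bool) (p : ℕ) : ℕ :=
  horner (pts.map fun i => act (pB tw) ((bif tw then route1 else route0).getD i []) p)

theorem route_ok (tw : Bool) : ((List.range 24).all fun i =>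
    let r := (bif tw then route1 else route0).getD i []
    Nat.beq (act (pA tw) r 0) i && r.all fun j => decide (j < 11)) = true := by
  cases tw <;> decide +kernel

/-- equality of pairs -/
def eqP (h k : ℕ × ℕ) : Bool := Nat.beq h.1 k.1 && Nat.beq h.2 k.2

theorem final_check (tw : Bool) : ((List.range 24).all fun p =>
    let P := cand tw p
    !((List.range 11).all fun j => Nat.beq (pcomp P (pA tw j).2) (pcomp (pB tw j).2 P)) ||
      (List.range 4096).all fun v => !inE v ||
        !((List.range 11).all fun j => eqP (hmul (v, P) (pA tw j)) (hmul (pB tw j) (v, P))) ||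
          (!tw && Nat.beq v 0 && Nat.beq P idP)) = true := by
  cases tw <;> decide +kernel

theorem canH_hmul {h k : ℕ × ℕ} (hh : okH h = true) (hk : okH k = true) : canH (hmul h k) = true := by
  rw [canH, Bool.and_eq_true, Nat.beq_eq]
  exact ⟨okH_hmul J4XLaws10.laws hh hk, J4XCount4.pcomp_canon _ _⟩

end Cfsg.Agent.J4OutFixCert4
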