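import Cfsg.Agent.Lib.J4OutNorm18
import Cfsg.Agent.Lib.J4OutFixCert4
import Cfsg.Agent.Lib.J4XCentCount12

/-!
An automorphism of the presented fourth Janko group that fixes the normal subgroup of order 2^11 of the
subgroup of shape 2^11 : M24 and fixes, or twists by a cocycle, the two permutation generators is the identity.
-/

set_option autoImplicit false
set_option maxRecDepth 100000
set_option maxHeartbeats 1000000
set_option linter.style.haveILetI false

namespace Cfsg.Agent.J4OutFix4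

open Cfsg Cfsg.Agent.GolayBasic Cfsg.Agent.GolayPerm Cfsg.Agent.GolayEnumComp Cfsg.Agent.J4XBase18
open Cfsg.Agent.J4XCert18 Cfsg.Agent.J4XCount4 Cfsg.Agent.J4OutBase18 Cfsg.Agent.J4OutNorm18
open Cfsg.Agent.J4XCentClass12 (gc gc_good)
open Cfsg.Agent.J4XCentData12 (wu)
open Cfsg.Agent.J4XCentRep12 (RepHyp fullTable sameUnits sameUnits_sound)
open Cfsg.Agent.J4Rep13 (Vec rho mats appL app)
open Cfsg.Agent.J4PresGen13 (wv lv)

open Cfsg.Agent.J4OutFixCert4

variable (a : MulAut Spor.J4)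

theorem aut_fix (hE : ∀ v, inE v = true → a (S0.e v) = S0.e v)
    (h : (a (J4XPerm10.q Spor.J4.x) = J4XPerm10.q Spor.J4.x ∧ a (J4XPerm10.q Spor.J4.y) = J4XPerm10.q Spor.J4.y) ∨
      (a (J4XPerm10.q Spor.J4.x) = S0.e cx0 * J4XPerm10.q Spor.J4.x ∧
        a (J4XPerm10.q Spor.J4.y) = S0.e cy0 * J4XPerm10.q Spor.J4.y)) : a = 1 := by
  obtain ⟨hfin, -, -, -⟩ := facts
  -- the images of the permutation generators
  have hmx : S0.m (gc 0) = J4XPerm10.q Spor.J4.x := J4XPerm10.m_eX
  have hmy : ∀ c, Nat.beq c 0 = false → S0.m (gc c) = J4XPerm10.q Spor.J4.y := by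
    intro c hc
    unfold gc
    rw [hc]
    exact J4XPerm10.m_eY
  obtain ⟨tw, hg⟩ : ∃ tw, ∀ c, a (S0.m (gc c)) = psi S0 (gpair tw c) := by
    rcases h with ⟨hx, hy⟩ | ⟨hx, hy⟩
    · refine ⟨false, fun c => ?_⟩
      rw [gpair, Bool.false_and, cond_false, psi, J4XCert18.e_zero, one_mul]
      cases hc : Nat.beq c 0
      · rw [hmy c hc, hy]
      · rw [Nat.eq_of_beq_eq_true hc, hmx, hx]
    · refine ⟨true, fun c => ?_⟩
      rw [gpair, Bool.true_and, psi]
      cases hc : Nat.beq c 0
      · rw [hmy c hc, hy, cond_false]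
        rfl
      · rw [Nat.eq_of_beq_eq_true hc, hmx, hx, cond_true]
  -- the subgroup is preserved
  have haB : ∀ b ∈ B0, a b ∈ B0 := by
    have hle : B0 ≤ B0.comap a.toMonoidHom := by
      conv_lhs => rw [show B0 = base S0 from rfl, genBase]
      rw [Subgroup.closure_le]
      rintro g (rfl | rfl | rfl)
      · show a (S0.m (gc 0)) ∈ B0
        rw [hg]; exact psi_mem_base S0 (gpair_ok tw 0)
      · show a (S0.m (gc 1)) ∈ B0
        rw [hg]; exact psi_mem_base S0 (gpair_ok tw 1)
      · show a (S0.e 3269) ∈ B0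
        rw [hE _ (by decide +kernel)]
        exact Subgroup.subset_closure (Or.inr ⟨3269, by decide +kernel, rfl⟩)
    exact fun b hb => hle hb
  have haB' : ∀ b, a b ∈ B0 → b ∈ B0 := by
    have e : B0.map a.toMonoidHom = B0 := Subgroup.eq_of_le_of_card_ge
      (by rintro _ ⟨u, hu, rfl⟩; exact haB u hu)
      (Nat.card_congr (B0.equivMapOfInjective _ a.injective).toEquiv).le
    intro b hb
    rw [← e] at hb
    obtain ⟨u, hu, e'⟩ := hb
    exact a.injective e' ▸ hu
  -- the double coset of the third generator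
  obtain ⟨b, hb, m2, hm2, hat⟩ : ∃ b ∈ B0, ∃ m2 ∈ B0, a S0.t = b * S0.t * m2 := by
    obtain ⟨-, -, -, heq, hcov, -⟩ := J4XCount4.main S0 J4XLaws10.laws S0_mgood S0_inj card_B0
      (J4XLower97.hdiv S0 card_B0) (J4XFacts18.rep S0) rfl (J4XCover16.edge_all S0 J4XLaws10.laws)
      (J4XFacts18.facts_hold S0 J4XLaws10.laws) J4XStabData18.stabData J4XStabCheck4.stab_ok
    have hr1 : (J4XFacts18.rep S0 1)⁻¹ = S0.t := by
      show (1 * psi S0 (0, 0xbdab49ca307b9ac5a928398a418820) * S0.t)⁻¹ = S0.t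
      rw [psi, J4XCert18.e_zero, one_mul, show (0xbdab49ca307b9ac5a928398a418820 : ℕ) = idP by decide +kernel,
        J4XCert18.m_idP, one_mul, one_mul, t_inv]
    let f : Spor.J4 ⧸ B0 → Spor.J4 ⧸ B0 := fun q => QuotientGroup.mk (a q.out)
    have hf : ∀ g, f (QuotientGroup.mk g) = QuotientGroup.mk (a g) := by
      intro g
      obtain ⟨c, hc⟩ := QuotientGroup.mk_out_eq_mul B0 g
      show QuotientGroup.mk (a _) = _
      rw [hc, map_mul, QuotientGroup.mk_mul_of_mem _ (haB _ c.2)]
    have hfi : Function.Injective f := by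
      intro p q e
      obtain ⟨g, rfl⟩ := QuotientGroup.mk_surjective p
      obtain ⟨g', rfl⟩ := QuotientGroup.mk_surjective q
      rw [hf, hf, QuotientGroup.eq, ← map_inv, ← map_mul] at e
      rw [QuotientGroup.eq]
      exact haB' _ e
    set O : Set (Spor.J4 ⧸ B0) := MulAction.orbit ↥B0 (QuotientGroup.mk (a S0.t) : Spor.J4 ⧸ B0) with hO
    have himg : f '' orb S0 (J4XFacts18.rep S0) 1 = O := by
      rw [orb, hr1, hO]
      ext q
      constructor
      · rintro ⟨_, ⟨⟨c, hc⟩, rfl⟩, rfl⟩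
        refine ⟨⟨a c, haB _ hc⟩, ?_⟩
        show QuotientGroup.mk (a c * a S0.t) = f (QuotientGroup.mk (c * S0.t))
        rw [hf, map_mul]
      · rintro ⟨⟨c, hc⟩, rfl⟩
        obtain ⟨d, hd⟩ := a.surjective c
        refine ⟨QuotientGroup.mk (d * S0.t), ⟨⟨d, haB' d (hd ▸ hc)⟩, rfl⟩, ?_⟩
        rw [hf, map_mul, hd]
        rfl
    have hcard : O.ncard = 15180 := by
      rw [← himg, Set.ncard_image_of_injective _ hfi, heq 1 (by norm_num)]
      rfl
    obtain ⟨j, hj, hmem⟩ := hcov (QuotientGroup.mk (a S0.t))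
    have hOj : O = orb S0 (J4XFacts18.rep S0) j := MulAction.orbit_eq_iff.2 hmem
    have hj1 : j = 1 := by
      have := heq j hj
      rw [← hOj, hcard] at this
      interval_cases j <;> simp [sizes] at this ⊢
    subst hj1
    rw [orb, hr1] at hmem
    obtain ⟨⟨c, hc⟩, e⟩ := hmem
    have e' : (QuotientGroup.mk (c * S0.t) : Spor.J4 ⧸ B0) = QuotientGroup.mk (a S0.t) := e
    rw [QuotientGroup.eq] at e'
    exact ⟨c, hc, _, e', by group⟩
  have hat2 : (a S0.t)⁻¹ = a S0.t := by rw [← map_inv, t_inv]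
  have key : ∀ d, InD d → InD (m2 * a d * m2⁻¹) := by
    intro d hd
    refine ⟨mul_mem (mul_mem hm2 (haB d hd.1)) (inv_mem hm2), ?_⟩
    have h1 : a S0.t * a d * (a S0.t)⁻¹ ∈ B0 := by
      rw [hat2, ← map_mul, ← map_mul]
      exact haB _ hd.2
    rw [hat, mul_inv_rev, mul_inv_rev, t_inv] at h1
    have h2 := mul_mem (mul_mem (inv_mem hb) h1) hb
    have e : b⁻¹ * (b * S0.t * m2 * a d * (m2⁻¹ * (S0.t * b⁻¹))) * b = S0.t * (m2 * a d * m2⁻¹) * S0.t := by
      group
    rwa [e] at h2
  -- the left factor lies in the intersection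
  obtain ⟨⟨u2, P2⟩, hh2, hpsi⟩ := exists_pair S0 J4XLaws10.laws S0_mgood hm2
  obtain ⟨hu2, hP2⟩ : inE u2 = true ∧ good P2 = true := by
    simp only [canH, okH, Bool.and_eq_true] at hh2
    exact hh2.1
  have hconj : ∀ v, inE v = true → m2 * S0.e v * m2⁻¹ = S0.e (vact P2 v) := by
    intro v hv
    have hv' := J4XLaws10.laws.inE_vact hP2 hv
    rw [← hpsi, psi, mul_inv_rev]
    calc S0.e u2 * S0.m P2 * S0.e v * ((S0.m P2)⁻¹ * (S0.e u2)⁻¹)
        = S0.e u2 * (S0.m P2 * S0.e v) * (S0.m P2)⁻¹ * (S0.e u2)⁻¹ := by group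
      _ = S0.e u2 * (S0.e (vact P2 v) * S0.m P2) * (S0.m P2)⁻¹ * (S0.e u2)⁻¹ := by rw [S0.act hP2 hv]
      _ = S0.e u2 * S0.e (vact P2 v) * (S0.e u2)⁻¹ := by group
      _ = S0.e (vact P2 v) := by
          rw [← S0.e_mul hu2 hv', Nat.xor_comm, S0.e_mul hv' hu2]; group
  have hfix : fixT0 P2 = true := by
    refine fixT0_of hP2 fun v hv => ?_
    obtain ⟨hvE, hvD⟩ := de_mem hv
    have h1 := key _ hvD
    rw [hE v hvE, hconj v hvE] at h1
    exact de_of_mem (J4XLaws10.laws.inE_vact hP2 hvE) h1.2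
  have hPD : InD (S0.m P2) := by
    refine ⟨Subgroup.subset_closure (Or.inl ⟨P2, rfl⟩), ?_⟩
    rw [S0.kcomm hP2 hfix, mul_assoc, S0.tsq, mul_one]
    exact Subgroup.subset_closure (Or.inl ⟨P2, rfl⟩)
  obtain ⟨u, hu, hvu⟩ : ∃ u, inE u = true ∧ vact P2 u = u2 := by
    have hlt : ∀ {v}, inE v = true → v < 4096 := fun hv => by
      simp only [inE, Bool.and_eq_true, decide_eq_true_eq] at hv; exact hv.1
    let F : {v : Fin 4096 // inE v = true} → {v : Fin 4096 // inE v = true} := fun v =>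
      ⟨⟨vact P2 v.1, hlt (J4XLaws10.laws.inE_vact hP2 v.2)⟩, J4XLaws10.laws.inE_vact hP2 v.2⟩
    have hF : Function.Injective F := by
      intro p q e
      have e' : vact P2 p.1 = vact P2 q.1 := congrArg (fun z => z.1.1) e
      refine Subtype.ext (Fin.ext (e_inj p.2 q.2 ?_))
      have h1 := hconj _ p.2
      rw [e', ← hconj _ q.2] at h1
      exact mul_left_cancel (mul_right_cancel h1)
    obtain ⟨p, hp⟩ := Finite.surjective_of_injective hF ⟨⟨u2, hlt hu2⟩, hu2⟩
    exact ⟨p.1, p.2, congrArg (fun z => z.1.1) hp⟩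
  have hm2' : m2 = S0.m P2 * S0.e u := by
    rw [S0.act hP2 hu, hvu, ← hpsi]; rfl
  have wc := word_check
  simp only [Bool.and_eq_true, List.all_eq_true, List.mem_range, Nat.beq_eq] at wc
  have hkk : ∀ j < 2, InD (S0.m (pfold (kWords.getD j []))) ∧
      InD (S0.e (afold tw (kWords.getD j [])).1) ∧
      a (S0.m (pfold (kWords.getD j []))) =
        S0.e (afold tw (kWords.getD j [])).1 * S0.m (pfold (kWords.getD j [])) := by
    intro j hj
    obtain ⟨hfx, ⟨⟨⟨⟨-, -⟩, hd0⟩, hd1⟩, hs0⟩, hs1⟩ := wc.2 j hj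
    refine ⟨⟨Subgroup.subset_closure (Or.inl ⟨_, rfl⟩), ?_⟩, ?_, ?_⟩
    · rw [S0.kcomm (good_pfold _) hfx, mul_assoc, S0.tsq, mul_one]
      exact Subgroup.subset_closure (Or.inl ⟨_, rfl⟩)
    · cases tw
      · exact (de_mem hd0).2
      · exact (de_mem hd1).2
    · rw [map_word a tw hg, psi]
      cases tw
      · rw [hs0]
      · rw [hs1]
  have hclass : ∀ j < 2, inDE (u ^^^ vact (pfold (kWords.getD j [])) u) = true := by
    intro j hj
    obtain ⟨hk, hc, hak⟩ := hkk j hj
    set kk := pfold (kWords.getD j []) with hkdef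
    set c := (afold tw (kWords.getD j [])).1 with hcdef
    have hcE : inE c = true := by
      have := afold_ok tw (kWords.getD j [])
      simp only [okH, Bool.and_eq_true] at this
      exact this.1
    have hkg : good kk = true := good_pfold _
    have h1 := key _ hk
    rw [hak, hm2'] at h1
    have h2 := ((hPD.inv.mul h1).mul hPD).mul hk.inv
    have h3 := h2.mul hc.inv
    have e : (S0.m P2)⁻¹ * (S0.m P2 * S0.e u * (S0.e c * S0.m kk) * (S0.m P2 * S0.e u)⁻¹) * S0.m P2 *
        (S0.m kk)⁻¹ * (S0.e c)⁻¹ = S0.e (u ^^^ vact kk u) := by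
      have hinv : (S0.e u)⁻¹ = S0.e u := inv_eq_of_mul_eq_one_right (by
        rw [← S0.e_mul hu hu, Nat.xor_self, J4XCert18.e_zero])
      have hinvc : (S0.e c)⁻¹ = S0.e c := inv_eq_of_mul_eq_one_right (by
        rw [← S0.e_mul hcE hcE, Nat.xor_self, J4XCert18.e_zero])
      have hku := J4XLaws10.laws.inE_vact hkg hu
      calc _ = S0.e u * S0.e c * (S0.m kk * (S0.e u)⁻¹) * (S0.m kk)⁻¹ * (S0.e c)⁻¹ := by group
        _ = S0.e u * S0.e c * (S0.e (vact kk u) * S0.m kk) * (S0.m kk)⁻¹ * (S0.e c)⁻¹ := by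
            rw [hinv, S0.act hkg hu]
        _ = S0.e u * (S0.e c * S0.e (vact kk u)) * (S0.e c)⁻¹ := by group
        _ = S0.e u * (S0.e (vact kk u) * S0.e c) * (S0.e c)⁻¹ := by
            rw [← S0.e_mul hcE hku, Nat.xor_comm, S0.e_mul hku hcE]
        _ = S0.e u * S0.e (vact kk u) := by group
        _ = _ := (S0.e_mul hu hku).symm
    rw [e] at h3
    exact de_of_mem (J4XLaws10.laws.inE_xor hu (J4XLaws10.laws.inE_vact hkg hu)) h3.2
  have huD : inDE u = true := by
    have hU : ((List.range 4096).all fun v => !inE v || inDE v || !((List.range 2).all fun j =>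
        inDE (v ^^^ vact (pfold (kWords.getD j [])) v))) = true := by decide +kernel
    have hlt : u < 4096 := by
      have := hu
      simp only [inE, Bool.and_eq_true, decide_eq_true_eq] at this
      exact this.1
    have h1 := List.all_eq_true.1 hU u (List.mem_range.2 hlt)
    have h2 : ((List.range 2).all fun j => inDE (u ^^^ vact (pfold (kWords.getD j [])) u)) = true :=
      List.all_eq_true.2 fun j hj => hclass j (List.mem_range.1 hj)
    rw [h2] at h1
    simpa [hu] using h1
  have hm2D : InD m2 := hm2' ▸ hPD.mul (de_mem huD).2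
  obtain ⟨⟨v, P⟩, hh, hmv⟩ :=
    exists_pair S0 J4XLaws10.laws S0_mgood (mul_mem hb hm2D.2)
  have hat' : a S0.t = psi S0 (v, P) * S0.t := by
    rw [hmv, hat]
    calc b * S0.t * m2 = b * S0.t * m2 * (S0.t * S0.t) := by rw [S0.tsq, mul_one]
      _ = _ := by group
  -- the equations
  have hokh : okH (v, P) = true := canH_okH hh
  have heqs : ∀ j < 11, hmul (v, P) (pA tw j) = hmul (pB tw j) (v, P) := by
    intro j hj
    obtain ⟨hA, hB⟩ := pair_ok j tw
    refine S0_inj _ _ (canH_hmul hokh hA) (canH_hmul hB hokh) ?_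
    rw [psi_hmul S0 J4XLaws10.laws hokh hA, psi_hmul S0 J4XLaws10.laws hB hokh]
    suffices hs : psi S0 (v, P) * psi S0 (pA tw j) * (psi S0 (v, P))⁻¹ = psi S0 (pB tw j) by
      rw [← hs]; group
    have hmt : ∀ x, a (S0.t * x * S0.t) =
        psi S0 (v, P) * (S0.t * a x * S0.t) * (psi S0 (v, P))⁻¹ := by
      intro x
      rw [map_mul, map_mul]
      conv_lhs => arg 2; rw [← hat2]
      rw [hat', mul_inv_rev, t_inv]
      group
    unfold pA pB
    cases hjb : Nat.blt j 9
    · simp only [cond_false]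
      have hj9 : ¬ j < 9 := fun hc => by rw [← Nat.blt_eq] at hc; simp [hjb] at hc
      obtain ⟨hfx, ⟨⟨⟨⟨hz, hcc⟩, -⟩, -⟩, -⟩, -⟩ := wc.2 (j - 9) (by omega)
      set kk := pfold (kWords.getD (j - 9) []) with hkdef
      obtain ⟨hk, -, hak⟩ := hkk (j - 9) (by omega)
      have hok : okH (0, kk) = true := by simp [okH, hkdef, good_pfold, J4OutNorm18.inE_zero]
      rw [psi_hmul S0 J4XLaws10.laws (tpair_spec _).1 hok,
        psi_hmul S0 J4XLaws10.laws J4XCert18.okH_one (afold_ok _ _), J4XCert18.psi_one, one_mul,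
        ← map_word a tw hg, ← hkdef, ← (tpair_spec _).2.2]
      have htk : S0.t * S0.m kk * S0.t = S0.m kk := by
        rw [S0.kcomm (good_pfold _) hfx, mul_assoc, S0.tsq, mul_one]
      have hc' : tcl (comb tw (j - 9)) = (afold tw (kWords.getD (j - 9) [])).1 := by
        cases tw
        · exact hz.symm
        · exact hcc.symm
      have h2 := hmt (S0.m kk)
      rw [htk, hak, ← hc'] at h2
      rw [hak, ← hc', show psi S0 (0, kk) = S0.m kk by rw [psi, J4XCert18.e_zero, one_mul]]
      conv_rhs => rw [h2]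
      have e : S0.t * S0.e (tcl (comb tw (j - 9))) * S0.t * S0.m kk =
          S0.t * (S0.e (tcl (comb tw (j - 9))) * S0.m kk) * S0.t := by
        calc S0.t * S0.e (tcl (comb tw (j - 9))) * S0.t * S0.m kk
            = S0.t * S0.e (tcl (comb tw (j - 9))) * S0.t * (S0.t * S0.m kk * S0.t) := by rw [htk]
          _ = S0.t * S0.e (tcl (comb tw (j - 9))) * (S0.t * S0.t) * S0.m kk * S0.t := by group
          _ = _ := by rw [S0.tsq]; group
      rw [e]
    · simp only [cond_true]
      have hj9 : j < 9 := Nat.blt_eq.mp hjb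
      have hd1 : inE (deList.getD j (0, idP)).1 = true := by
        have := de_ok j
        simp only [okH, Bool.and_eq_true] at this
        exact this.1
      have hok : okH ((deList.getD j (0, idP)).1, idP) = true := by
        simp only [okH, hd1, J4XCount4.good_idP, Bool.and_self]
      rw [psi_hmul S0 J4XLaws10.laws (de_ok j) J4XCert18.okH_one, J4XCert18.psi_one, mul_one,
        psi_hmul S0 J4XLaws10.laws hok (afold_ok _ _), ← map_word a tw hg,
        wc.1 j hj9]
      have h2 := hmt (S0.e (deList.getD j (0, idP)).1)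
      rw [hE _ hd1, t_de] at h2
      rw [← h2, psi, map_mul]
      have hd1' := hE _ hd1
      rw [show psi S0 ((deList.getD j (0, idP)).1, idP) = S0.e (deList.getD j (0, idP)).1 by
        rw [psi, J4XCert18.m_idP, mul_one]]
      rw [hd1']
  -- the finite check
  have hv : inE v = true ∧ good P = true := by
    simp only [canH, okH, Bool.and_eq_true] at hh
    exact hh.1
  have hPc : pcomp P idP = P := by
    simp only [canH, Bool.and_eq_true, Nat.beq_eq] at hh
    exact hh.2
  have hperm : ∀ j < 11, ∀ i < 24, pimg P (pimg (pA tw j).2 i) = pimg (pB tw j).2 (pimg P i) := by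
    intro j hj i hi
    have := congrArg (fun h : ℕ × ℕ => pimg h.2 i) (heqs j hj)
    simpa [hmul, pimg_pcomp _ _ hi] using this
  have hvalA : ∀ j, ∀ i < 24, pimg (pA tw j).2 i < 24 := fun j i hi => by
    have := (pair_ok j tw).1
    simp only [okH, Bool.and_eq_true] at this
    exact pimg_lt (valid_of_good this.2) hi
  have hact : ∀ l : List ℕ, (∀ j ∈ l, j < 11) → ∀ p < 24,
      act (pA tw) l p < 24 ∧ pimg P (act (pA tw) l p) = act (pB tw) l (pimg P p) := by
    intro l
    induction l with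
    | nil => exact fun _ p hp => ⟨hp, rfl⟩
    | cons j l ih =>
      intro hl p hp
      obtain ⟨h1, h2⟩ := ih (fun i hi => hl i (List.mem_cons_of_mem _ hi)) p hp
      refine ⟨hvalA j _ h1, ?_⟩
      rw [act, act, hperm j (hl j List.mem_cons_self) _ h1, h2]
  have hPcand : P = cand tw (pimg P 0) := by
    conv_lhs => rw [← hPc]
    unfold pcomp cand
    refine congrArg horner (List.map_congr_left fun i hi => ?_)
    have hi' := mem_pts.1 hi
    rw [pimg_idP hi']
    have hr := List.all_eq_true.1 (route_ok tw) i (List.mem_range.2 hi')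
    simp only [Bool.and_eq_true, Nat.beq_eq, List.all_eq_true, decide_eq_true_eq] at hr
    conv_lhs => rw [← hr.1]
    exact (hact _ hr.2 0 (by norm_num)).2
  obtain ⟨p0, hp0⟩ : ∃ p0, p0 = pimg P 0 := ⟨_, rfl⟩
  rw [← hp0] at hPcand
  have hfinal : ((fun p => let P := cand tw p
      !((List.range 11).all fun j => Nat.beq (pcomp P (pA tw j).2) (pcomp (pB tw j).2 P)) ||
        (List.range 4096).all fun v => !inE v ||
          !((List.range 11).all fun j => eqP (hmul (v, P) (pA tw j)) (hmul (pB tw j) (v, P))) ||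
            (!tw && Nat.beq v 0 && Nat.beq P idP)) p0) = true :=
    List.all_eq_true.1 (final_check tw) p0
      (List.mem_range.2 (hp0 ▸ pimg_lt (valid_of_good hv.2) (by norm_num)))
  dsimp only at hfinal
  rw [← hPcand] at hfinal
  have h1 : ((List.range 11).all fun j => Nat.beq (pcomp P (pA tw j).2) (pcomp (pB tw j).2 P)) = true :=
    List.all_eq_true.2 fun j hj => by
      rw [Nat.beq_eq]
      have e := heqs j (List.mem_range.1 hj)
      simp only [hmul, Prod.mk.injEq] at e
      exact e.2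
  rw [h1, Bool.not_true, Bool.false_or] at hfinal
  have hvlt : v < 4096 := by
    have := hv.1
    simp only [inE, Bool.and_eq_true, decide_eq_true_eq] at this
    exact this.1
  have h2 := List.all_eq_true.1 hfinal v (List.mem_range.2 hvlt)
  have h3 : ((List.range 11).all fun j => eqP (hmul (v, P) (pA tw j)) (hmul (pB tw j) (v, P))) = true :=
    List.all_eq_true.2 fun j hj => by simp [eqP, heqs j (List.mem_range.1 hj)]
  rw [h3, hv.1] at h2
  simp only [Bool.not_true, Bool.false_or, Bool.and_eq_true, Bool.not_eq_true', Nat.beq_eq] at h2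
  obtain ⟨⟨rfl, rfl⟩, rfl⟩ := h2
  have ht : a S0.t = S0.t := by rw [hat', psi, J4XCert18.e_zero, J4XCert18.m_idP, one_mul, one_mul]
  have hm : ∀ c, a (S0.m (gc c)) = S0.m (gc c) := fun c => by
    rw [hg c, gpair, Bool.false_and, cond_false, psi, J4XCert18.e_zero, one_mul]
  have hle : (⊤ : Subgroup Spor.J4) ≤ a.toMonoidHom.eqLocus (MonoidHom.id _) := by
    rw [← S0.gen, Subgroup.closure_le]
    rintro g ((⟨Q, rfl⟩ | ⟨w, hw, rfl⟩) | hg')
    · have hQ : S0.m Q ∈ (Subgroup.closure ({Spor.J4.x, Spor.J4.y} : Set (FreeGroup Spor.J4.Gen))).map J4XPerm10.q := by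
        rw [← SetLike.mem_coe, ← J4XPerm10.range_m]
        exact ⟨Q, rfl⟩
      have hsub : (Subgroup.closure ({Spor.J4.x, Spor.J4.y} : Set (FreeGroup Spor.J4.Gen))).map J4XPerm10.q ≤
          a.toMonoidHom.eqLocus (MonoidHom.id _) := by
        rw [Subgroup.map_le_iff_le_comap, Subgroup.closure_le]
        rintro z (rfl | rfl)
        · show a (J4XPerm10.q Spor.J4.x) = J4XPerm10.q Spor.J4.x
          rw [← hmx]; exact hm 0
        · show a (J4XPerm10.q Spor.J4.y) = J4XPerm10.q Spor.J4.y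
          rw [← hmy 1 rfl]; exact hm 1
      exact hsub hQ
    · exact hE w hw
    · rw [Set.mem_singleton_iff] at hg'
      subst hg'
      exact ht
  exact MulEquiv.ext fun g => hle (Subgroup.mem_top g)

end Cfsg.Agent.J4OutFix4
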