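import Cfsg.Agent.Lib.J4OutNorm18

/-!
Every automorphism of the presented fourth Janko group is inner, from the three pieces.
-/

set_option autoImplicit false
set_option linter.style.haveILetI false

namespace Cfsg.Agent.J4OutGlue18

open Cfsg Cfsg.Agent.J4XBase18 Cfsg.Agent.J4OutBase18 Cfsg.Agent.J4OutNorm18

/-- The image of a word. -/
abbrev q : FreeGroup Spor.J4.Gen →* Spor.J4 := J4XPerm10.q

/-- The two possible forms on the permutation generators. -/
def Form (a : MulAut Spor.J4) : Prop :=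
  (a (q Spor.J4.x) = q Spor.J4.x ∧ a (q Spor.J4.y) = q Spor.J4.y) ∨
    (a (q Spor.J4.x) = S0.e cx0 * q Spor.J4.x ∧ a (q Spor.J4.y) = S0.e cy0 * q Spor.J4.y)

/-- An automorphism preserving the subgroup is an inner one times a normal form. -/
def ReduceHyp : Prop :=
  ∀ a : MulAut Spor.J4, (∀ b, b ∈ B0 → a b ∈ B0) → (∀ v ∈ E0, a v ∈ E0) →
    ∃ b ∈ B0, (∀ v, inE v = true → (MulAut.conj b * a) (S0.e v) = S0.e v) ∧ Form (MulAut.conj b * a)

/-- A normal form is the identity. -/
def FixHyp : Prop :=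
  ∀ a : MulAut Spor.J4, (∀ v, inE v = true → a (S0.e v) = S0.e v) → Form a → a = 1

theorem card_out (hT : SylowHyp) (hR : ReduceHyp) (hF : FixHyp) :
    Nat.card (Cfsg.Out Spor.J4) = 1 := by
  rw [Nat.card_eq_one_iff_exists]
  refine ⟨QuotientGroup.mk 1, fun p => ?_⟩
  induction p using QuotientGroup.induction_on with
  | H a =>
    obtain ⟨g, hgE, hgB⟩ := exists_conj hT a
    obtain ⟨b, -, hb1, hb2⟩ := hR _ hgB hgE
    have h := hF _ hb1 hb2
    have ha : a = (MulAut.conj g)⁻¹ * (MulAut.conj b)⁻¹ := by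
      have : MulAut.conj b * MulAut.conj g * a = 1 := by rw [mul_assoc]; exact h
      rw [← mul_inv_rev]
      exact eq_inv_of_mul_eq_one_right this
    rw [QuotientGroup.eq]
    rw [mul_one, ha]
    show _ ∈ Inn Spor.J4
    exact inv_mem (mul_mem (inv_mem ⟨g, rfl⟩) (inv_mem ⟨b, rfl⟩))

end Cfsg.Agent.J4OutGlue18
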