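import Cfsg.Agent.Lib.J4Simple36
import Cfsg.Agent.Lib.J4XCount4

/-!
The presented fourth Janko group is simple of the expected order, given the suborbit data of the
subgroup of shape 2^11 : M24.
-/

set_option autoImplicit false
set_option maxRecDepth 100000
set_option linter.unusedSectionVars false

namespace Cfsg.Agent.J4XSimple36

open Cfsg Cfsg.Agent.GolayBasic Cfsg.Agent.GolayPerm Cfsg.Agent.GolayEnumComp
open Cfsg.Agent.J4XBase18 Cfsg.Agent.J4XCount4 Cfsg.Agent.J4Simple36
open Cfsg.Agent.J4M24Iso13 (eX eY ps gg sigma)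

theorem eX_facts : canH (0, eX) = true ∧ canH (0, eY) = true ∧ pcomp idP idP = idP := by decide +kernel

theorem vact_fix : ((List.range 4096).all fun a =>
    !(inE a && Nat.beq (vact eX a) a && Nat.beq (vact eY a) a) || Nat.beq a 0) = true := by decide +kernel

theorem size_check : ∀ s ∈ (Finset.range 7).powerset, 0 ∈ s →
    (∑ i ∈ s, sizes.getD i 0) ∣ 173067389 → s = {0} ∨ s = Finset.range 7 := by decide +kernel

section orbits
variable {G : Type} [Group G] (S : Setup G)

/-- The subgroup is maximal as no union of suborbits containing the point has size dividing the index. -/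
theorem isCoatom_base [Finite G] (hidx : (base S).index = 173067389) (r : ℕ → G) (hr0 : r 0 = 1)
    (heq : ∀ i < 7, (orb S r i).ncard = sizes.getD i 0) (hcov : ∀ q, ∃ i < 7, q ∈ orb S r i)
    (hdist : ∀ i < 7, ∀ j < 7, orb S r i = orb S r j → i = j) : IsCoatom (base S) := by
  classical
  refine ⟨fun h => ?_, fun K hK => ?_⟩
  · rw [h, Subgroup.index_top] at hidx
    norm_num at hidx
  set q₀ : G ⧸ base S := QuotientGroup.mk 1 with hq₀
  set B : Set (G ⧸ base S) := MulAction.orbit K q₀ with hB
  have hBK : ∀ g : G, (QuotientGroup.mk g : G ⧸ base S) ∈ B ↔ g ∈ K := by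
    refine fun g => ⟨?_, fun hg => ⟨⟨g, hg⟩, ?_⟩⟩
    · rintro ⟨k, hk⟩
      have hk' : (QuotientGroup.mk ((k : G) * 1) : G ⧸ base S) = QuotientGroup.mk g := hk
      rw [mul_one, QuotientGroup.eq] at hk'
      simpa using mul_mem k.2 (hK.le hk')
    · show (QuotientGroup.mk (g * 1) : G ⧸ base S) = _
      rw [mul_one]
  have horb : ∀ i < 7, ∀ g : G, (QuotientGroup.mk g : G ⧸ base S) ∈ orb S r i → (g ∈ K ↔ r i ∈ K) := by
    rintro i - g ⟨b, hb⟩
    rw [← hBK g, ← hb]
    show (QuotientGroup.mk ((b : G) * (r i)⁻¹) : G ⧸ base S) ∈ B ↔ _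
    rw [hBK, Subgroup.mul_mem_cancel_left K (hK.le b.2), inv_mem_iff]
  set s : Finset ℕ := (Finset.range 7).filter fun i => r i ∈ K with hs
  have h0 : 0 ∈ s := by simp [hs, hr0]
  haveI : Fintype (G ⧸ base S) := Fintype.ofFinite _
  have hBu : B.toFinset = s.biUnion fun i => (orb S r i).toFinset := by
    ext q
    obtain ⟨g, rfl⟩ := QuotientGroup.mk_surjective q
    simp only [Set.mem_toFinset, Finset.mem_biUnion, hs, Finset.mem_filter, Finset.mem_range, hBK]
    constructor
    · intro hg
      obtain ⟨i, hi, hq⟩ := hcov (QuotientGroup.mk g)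
      exact ⟨i, ⟨hi, (horb i hi g hq).1 hg⟩, hq⟩
    · rintro ⟨i, ⟨hi, hri⟩, hq⟩
      exact (horb i hi g hq).2 hri
  have hcard : B.ncard = ∑ i ∈ s, sizes.getD i 0 := by
    rw [Set.ncard_eq_toFinset_card', hBu, Finset.card_biUnion]
    · refine Finset.sum_congr rfl fun i hi => ?_
      rw [← Set.ncard_eq_toFinset_card', heq i (Finset.mem_range.1 (Finset.mem_filter.1 hi).1)]
    · intro i hi j hj hne
      show Disjoint (orb S r i).toFinset (orb S r j).toFinset
      rw [Finset.disjoint_left]
      intro q hqi hqj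
      simp only [Set.mem_toFinset] at hqi hqj
      refine hne (hdist i (Finset.mem_range.1 (Finset.mem_filter.1 hi).1) j
        (Finset.mem_range.1 (Finset.mem_filter.1 hj).1) ?_)
      exact (MulAction.orbit_eq_iff.2 hqi).symm.trans (MulAction.orbit_eq_iff.2 hqj)
  have hdvd : B.ncard ∣ 173067389 := by
    have hstab : MulAction.stabilizer K q₀ = (base S).subgroupOf K := by
      ext k
      rw [MulAction.mem_stabilizer_iff, Subgroup.mem_subgroupOf]
      show (QuotientGroup.mk ((k : G) * 1) : G ⧸ base S) = QuotientGroup.mk 1 ↔ _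
      rw [mul_one, QuotientGroup.eq, mul_one, inv_mem_iff]
    rw [← Nat.card_coe_set_eq, Nat.card_congr (MulAction.orbitEquivQuotientStabilizer K q₀), hstab,
      ← hidx, ← Subgroup.relIndex_mul_index hK.le]
    exact Dvd.intro _ rfl
  rcases size_check s (Finset.mem_powerset.2 (Finset.filter_subset _ _)) h0 (hcard ▸ hdvd) with h | h
  · exfalso
    refine hK.not_ge fun g hg => ?_
    obtain ⟨i, hi, hq⟩ := hcov (QuotientGroup.mk g)
    have : i ∈ s := Finset.mem_filter.2 ⟨Finset.mem_range.2 hi, (horb i hi g hq).1 hg⟩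
    rw [h, Finset.mem_singleton] at this
    subst this
    obtain ⟨b, hb⟩ := hq
    have hb' : (QuotientGroup.mk ((b : G) * (r 0)⁻¹) : G ⧸ base S) = QuotientGroup.mk g := hb
    rw [hr0, inv_one, mul_one, QuotientGroup.eq] at hb'
    simpa using mul_mem b.2 hb'
  · refine top_le_iff.1 fun g _ => ?_
    obtain ⟨i, hi, hq⟩ := hcov (QuotientGroup.mk g)
    exact (horb i hi g hq).2 (Finset.mem_filter.1 (h ▸ Finset.mem_range.2 hi : i ∈ s)).2

end orbits

section j4
variable (S : Setup Spor.J4) (L : J4XCert18.Laws) (hm : MGood S) (hinj : PsiInj S)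

/-- The canonical pair of an element. -/
noncomputable def pairOf (g : base S) : ℕ × ℕ := (exists_pair S L hm g.2).choose

theorem pairOf_spec (g : base S) :
    canH (pairOf S L hm g) = true ∧ psi S (pairOf S L hm g) = (g : Spor.J4) :=
  (exists_pair S L hm g.2).choose_spec

include hinj in
theorem pairOf_eq {g : base S} {h : ℕ × ℕ} (hh : canH h = true) (e : psi S h = (g : Spor.J4)) :
    pairOf S L hm g = h :=
  hinj _ _ (pairOf_spec S L hm g).1 hh ((pairOf_spec S L hm g).2.trans e.symm)

theorem good_of_can {h : ℕ × ℕ} (hh : canH h = true) : good h.2 = true :=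
  (Bool.and_eq_true_iff.1 (canH_okH hh)).2

/-- The permutation part. -/
noncomputable def proj : base S →* Cfsg.M24 :=
  MonoidHom.mk' (fun g => ⟨permOf (pairOf S L hm g).2,
    permOf_mem_M24 (good_of_can (pairOf_spec S L hm g).1)⟩) fun a b => by
    obtain ⟨ha, ea⟩ := pairOf_spec S L hm a
    obtain ⟨hb, eb⟩ := pairOf_spec S L hm b
    have hc : canH (J4XBase18.hmul (pairOf S L hm a) (pairOf S L hm b)) = true := by
      simp only [canH, Bool.and_eq_true, Nat.beq_eq]
      exact ⟨J4XCert18.okH_hmul L (canH_okH ha) (canH_okH hb), pcomp_canon _ _⟩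
    have e : pairOf S L hm (a * b) = J4XBase18.hmul (pairOf S L hm a) (pairOf S L hm b) :=
      pairOf_eq S L hm hinj hc (by
        rw [J4XCert18.psi_hmul S L (canH_okH ha) (canH_okH hb), ea, eb]; rfl)
    apply Subtype.ext
    show permOf (pairOf S L hm (a * b)).2 = permOf _ * permOf _
    rw [e]
    exact permOf_pcomp (valid_of_good (good_of_can ha)) (valid_of_good (good_of_can hb))
      (valid_of_good (L.good_mul (good_of_can ha) (good_of_can hb))) rfl

variable (hmX : S.m eX = q Spor.J4.x) (hmY : S.m eY = q Spor.J4.y)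

include hmX in
theorem x_mem : q Spor.J4.x ∈ base S := hmX ▸ Subgroup.subset_closure (Or.inl ⟨eX, rfl⟩)

include hmY in
theorem y_mem : q Spor.J4.y ∈ base S := hmY ▸ Subgroup.subset_closure (Or.inl ⟨eY, rfl⟩)

include hmX hmY in
theorem range_le : S1711.tau.range ≤ base S := by
  rw [MonoidHom.range_eq_map, ← J4M24Iso13.ps_gen, MonoidHom.map_closure, Subgroup.closure_le]
  rintro _ ⟨_, (rfl | rfl), rfl⟩
  · rw [SetLike.mem_coe, tau_x]; exact x_mem S hmX
  · rw [SetLike.mem_coe, tau_y]; exact y_mem S hmY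

include hmX hmY in
theorem proj_tau (p : J4M24Iso13.P) (h : S1711.tau p ∈ base S) :
    proj S L hm hinj ⟨S1711.tau p, h⟩ = sigma p := by
  let η : J4M24Iso13.P →* base S := S1711.tau.codRestrict (base S) fun z => range_le S hmX hmY ⟨z, rfl⟩
  have key : ∀ (g : base S) (c : ℕ), canH (0, c) = true → (g : Spor.J4) = S.m c →
      (proj S L hm hinj g : Equiv.Perm GolayPt) = permOf c := fun g c hc e => by
    show permOf (pairOf S L hm g).2 = _
    rw [pairOf_eq S L hm hinj hc (by rw [psi, J4XCert18.e_zero, one_mul, e])]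
  have : (proj S L hm hinj).comp η = sigma := by
    refine MonoidHom.eq_of_eqOn_dense J4M24Iso13.ps_gen ?_
    rintro _ (rfl | rfl)
    · apply Subtype.ext
      show (proj S L hm hinj (η (ps 0)) : Equiv.Perm GolayPt) = _
      rw [key _ eX eX_facts.1 (by rw [hmX]; exact tau_x), sigma_ps0]
      simp [gg]
    · apply Subtype.ext
      show (proj S L hm hinj (η (ps 1)) : Equiv.Perm GolayPt) = _
      rw [key _ eY eX_facts.2.1 (by rw [hmY]; exact tau_y), sigma_ps1]
      simp [gg]
  exact DFunLike.congr_fun this p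

include hmX hmY in
theorem no_fixed (v : base S) (h1 : proj S L hm hinj v = 1)
    (hx : Commute (v : Spor.J4) (q Spor.J4.x)) (hy : Commute (v : Spor.J4) (q Spor.J4.y)) : v = 1 := by
  obtain ⟨hc, e⟩ := pairOf_spec S L hm v
  obtain ⟨a, P, hP⟩ : ∃ a P, pairOf S L hm v = (a, P) := ⟨_, _, rfl⟩
  rw [hP] at hc e
  have hPid : P = idP := by
    have hg := good_of_can hc
    simp only [canH, Bool.and_eq_true, Nat.beq_eq] at hc
    refine eq_of_permOf_eq (valid_of_good hg) (by decide +kernel) hc.2 eX_facts.2.2 ?_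
    rw [permOf_idP]
    have := congrArg Subtype.val h1
    rw [show ((proj S L hm hinj v : Cfsg.M24) : Equiv.Perm GolayPt) = permOf (pairOf S L hm v).2 from rfl,
      hP] at this
    exact this
  subst hPid
  have ha : inE a = true := (Bool.and_eq_true_iff.1 (canH_okH hc)).1
  have hv : (v : Spor.J4) = S.e a := by rw [← e, psi, J4XCert18.m_idP, mul_one]
  have hfix : ∀ c z, canH (0, c) = true → S.m c = z → Commute (v : Spor.J4) z → vact c a = a := by
    intro c z hcc hz hcomm
    have hgc : good c = true := good_of_can hcc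
    have h := S.act hgc ha
    rw [hz, ← hv, ← hcomm.eq] at h
    have h2 : S.e a = S.e (vact c a) := hv.symm.trans (mul_right_cancel h)
    have hcv : canH (vact c a, idP) = true := by
      simp only [canH, okH, Bool.and_eq_true, Nat.beq_eq]
      exact ⟨⟨L.inE_vact hgc ha, good_idP⟩, eX_facts.2.2⟩
    exact (congrArg Prod.fst (hinj _ _ hc hcv (by
      simp only [psi, J4XCert18.m_idP, mul_one]; exact h2))).symm
  have hall := vact_fix
  simp only [List.all_eq_true, List.mem_range, Bool.or_eq_true, Bool.not_eq_true', Bool.and_eq_false_iff,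
    Nat.beq_eq] at hall
  have ha4 : a < 4096 := by
    simp only [inE, Bool.and_eq_true, decide_eq_true_eq] at ha; exact ha.1
  have fx := hfix eX _ eX_facts.1 hmX hx
  have fy := hfix eY _ eX_facts.2.1 hmY hy
  have ha0 : a = 0 := by
    rcases hall a ha4 with ((h | h) | h) | h
    · rw [ha] at h; exact absurd h (by simp)
    · rw [fx, Nat.beq_refl] at h; exact absurd h (by simp)
    · rw [fy, Nat.beq_refl] at h; exact absurd h (by simp)
    · exact h
  apply Subtype.ext
  rw [hv, ha0, J4XCert18.e_zero]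
  rfl

include L hm hinj hmX hmY in
/-- **The presented group is simple of the expected order.** -/
theorem isJ4 [Finite Spor.J4] (hB : Nat.card ↥(base S) = 2048 * 244823040)
    (hidx : (base S).index = 173067389) (r : ℕ → Spor.J4) (hr0 : r 0 = 1)
    (heq : ∀ i < 7, (orb S r i).ncard = sizes.getD i 0) (hcov : ∀ q, ∃ i < 7, q ∈ orb S r i)
    (hdist : ∀ i < 7, ∀ j < 7, orb S r i = orb S r j → i = j) : Cfsg.IsJ4 Spor.J4 :=
  isJ4_of (base S) (proj S L hm hinj) (range_le S hmX hmY) (proj_tau S L hm hinj hmX hmY)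
    (by rw [hB]; norm_num) (isCoatom_base S hidx r hr0 heq hcov hdist) hidx
    (no_fixed S L hm hinj hmX hmY)

end j4

end Cfsg.Agent.J4XSimple36
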