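import Cfsg.Agent.Lib.J4OutBase18
import Cfsg.Agent.Lib.J4XSimple36

/-!
Automorphisms of the presented fourth Janko group can be moved to preserve the subgroup of shape 2^11 : M24.
-/

set_option autoImplicit false
set_option linter.style.haveILetI false
set_option maxRecDepth 100000

namespace Cfsg.Agent.J4OutNorm18

open Cfsg Cfsg.Agent.GolayBasic Cfsg.Agent.GolayPerm Cfsg.Agent.GolayEnumComp Cfsg.Agent.J4XBase18
open Cfsg.Agent.J4XCount4 Cfsg.Agent.J4OutBase18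

theorem inE_zero : inE 0 = true := by decide +kernel

theorem S0_mgood : MGood S0 := fun P => J4XLaws10.mgood P

theorem m_ne : S0.m J4XLowerPair97.eX ≠ 1 := J4XLower97.m_ne_one _ J4XPerm10.m_eX

theorem S0_inj : PsiInj S0 :=
  J4XLowerPair97.psiInj S0 m_ne (fun h h' => J4XLaws10.laws.inE_vact h h')

theorem card_B0 : Nat.card B0 = 2048 * 244823040 :=
  J4XLowerPair97.card_base_of_mgood S0 m_ne (fun h h' => J4XLaws10.laws.inE_vact h h') S0_mgood

theorem facts : Finite Spor.J4 ∧ B0.index = 173067389 ∧ Nat.card Spor.J4 = 86775571046077562880 ∧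
    Cfsg.IsJ4 Spor.J4 :=
  J4XFinal36.all_of S0 rfl S0_inj card_B0 (J4XLower97.hdiv S0 card_B0)

theorem coatom : IsCoatom B0 := by
  haveI := facts.1
  obtain ⟨-, hidx, -, heq, hcov, hdist⟩ := J4XCount4.main S0 J4XLaws10.laws S0_mgood S0_inj card_B0
    (J4XLower97.hdiv S0 card_B0) (J4XFacts18.rep S0) rfl (J4XCover16.edge_all S0 J4XLaws10.laws)
    (J4XFacts18.facts_hold S0 J4XLaws10.laws) J4XStabData18.stabData J4XStabCheck4.stab_ok
  exact J4XSimple36.isCoatom_base S0 hidx _ rfl heq hcov hdist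

theorem mem_E0 {g : Spor.J4} : g ∈ E0 ↔ ∃ v, inE v = true ∧ g = S0.e v := by
  refine ⟨fun hg => ?_, fun h => Subgroup.subset_closure h⟩
  induction hg using Subgroup.closure_induction with
  | mem x hx => exact hx
  | one => exact ⟨0, inE_zero, (J4XCert18.e_zero S0).symm⟩
  | mul x y _ _ hx hy =>
    obtain ⟨a, ha, rfl⟩ := hx
    obtain ⟨b, hb, rfl⟩ := hy
    exact ⟨a ^^^ b, J4XLaws10.laws.inE_xor ha hb, (S0.e_mul ha hb).symm⟩
  | inv x _ hx =>
    obtain ⟨a, ha, rfl⟩ := hx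
    refine ⟨a, ha, inv_eq_of_mul_eq_one_left ?_⟩
    rw [← S0.e_mul ha ha, Nat.xor_self, J4XCert18.e_zero]

theorem sq_E0 : ∀ a ∈ E0, a * a = 1 := by
  intro a ha
  obtain ⟨v, hv, rfl⟩ := mem_E0.1 ha
  rw [← S0.e_mul hv hv, Nat.xor_self, J4XCert18.e_zero]

theorem E0_le : E0 ≤ B0 := by
  intro g hg
  obtain ⟨v, hv, rfl⟩ := mem_E0.1 hg
  exact Subgroup.subset_closure (Or.inr ⟨v, hv, rfl⟩)

theorem e_inj {a b : ℕ} (ha : inE a = true) (hb : inE b = true) (h : S0.e a = S0.e b) : a = b := by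
  have hc : ∀ v, inE v = true → canH (v, idP) = true := fun v hv => by
    have h1 : good idP = true := by decide +kernel
    have h2 : Nat.beq (pcomp idP idP) idP = true := by decide +kernel
    simp [canH, okH, hv, h1, h2]
  have := S0_inj (a, idP) (b, idP) (hc a ha) (hc b hb) (by simp [psi, J4XCert18.m_idP, h])
  exact congrArg Prod.fst this

theorem card_E0 : Nat.card E0 = 2 ^ 11 := by
  let f : {v : Fin 4096 // inE v = true} → E0 := fun v => ⟨S0.e v.1, mem_E0.2 ⟨_, v.2, rfl⟩⟩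
  have hf : Function.Bijective f := by
    refine ⟨fun a b h => ?_, fun g => ?_⟩
    · exact Subtype.ext (Fin.ext (e_inj a.2 b.2 (congrArg Subtype.val h)))
    · obtain ⟨v, hv, e⟩ := mem_E0.1 g.2
      have hlt : v < 4096 := by
        simp only [inE, Bool.and_eq_true, decide_eq_true_eq] at hv
        exact hv.1
      exact ⟨⟨⟨v, hlt⟩, hv⟩, Subtype.ext e.symm⟩
  rw [← Nat.card_eq_of_bijective f hf, Nat.card_eq_fintype_card, Fintype.card_subtype]
  decide +kernel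

theorem conj_E0 {b : Spor.J4} (hb : b ∈ B0) : ∀ g ∈ E0, b * g * b⁻¹ ∈ E0 := by
  intro g hg
  obtain ⟨v, hv, rfl⟩ := mem_E0.1 hg
  obtain ⟨⟨w, P⟩, hh, rfl⟩ := exists_pair S0 J4XLaws10.laws S0_mgood hb
  obtain ⟨hw, hP⟩ : inE w = true ∧ good P = true := by
    simp only [canH, okH, Bool.and_eq_true] at hh
    exact hh.1
  have hv' : inE (vact P v) = true := J4XLaws10.laws.inE_vact hP hv
  refine mem_E0.2 ⟨vact P v, hv', ?_⟩
  simp only [psi, mul_inv_rev]
  calc S0.e w * S0.m P * S0.e v * ((S0.m P)⁻¹ * (S0.e w)⁻¹)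
      = S0.e w * (S0.m P * S0.e v) * (S0.m P)⁻¹ * (S0.e w)⁻¹ := by group
    _ = S0.e w * (S0.e (vact P v) * S0.m P) * (S0.m P)⁻¹ * (S0.e w)⁻¹ := by rw [S0.act hP hv]
    _ = S0.e w * S0.e (vact P v) * (S0.e w)⁻¹ := by group
    _ = S0.e (vact P v) := by
        rw [← S0.e_mul hw hv', Nat.xor_comm, S0.e_mul hv' hw]
        group

theorem normalizer_E0 : Subgroup.normalizer (E0 : Set Spor.J4) = B0 := by
  haveI := facts.1
  haveI := facts.2.2.2.1
  have hle : B0 ≤ Subgroup.normalizer (E0 : Set Spor.J4) := by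
    intro b hb
    rw [Subgroup.mem_normalizer_iff]
    refine fun g => ⟨conj_E0 hb g, fun h => ?_⟩
    have := conj_E0 (inv_mem hb) _ h
    simpa [mul_assoc] using this
  refine ((coatom.le_iff.1 hle).resolve_left fun h => ?_)
  have hn : E0.Normal := Subgroup.normalizer_eq_top_iff.1 h
  rcases Subgroup.Normal.eq_bot_or_eq_top hn with h1 | h1
  · have := card_E0
    rw [h1, Subgroup.card_bot] at this
    norm_num at this
  · have := card_E0
    rw [h1, Subgroup.card_top, facts.2.2.1] at this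
    norm_num at this

theorem sylow_of_card [Finite Spor.J4] {T : Subgroup Spor.J4} (h : Nat.card T = 2 ^ 21) :
    ∃ P : Sylow 2 Spor.J4, (P : Subgroup Spor.J4) = T := by
  haveI : Fact (Nat.Prime 2) := ⟨Nat.prime_two⟩
  obtain ⟨P, hP⟩ := (IsPGroup.of_card h).exists_le_sylow
  obtain ⟨k, hk⟩ := IsPGroup.iff_card.mp P.2
  refine ⟨P, (Subgroup.eq_of_le_of_card_ge hP ?_).symm⟩
  rw [h, hk]
  by_contra hlt
  have hk22 : 22 ≤ k := by
    by_contra h'
    exact hlt (Nat.pow_le_pow_right (by norm_num) (by omega))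
  have h1 := Subgroup.card_subgroup_dvd_card (P : Subgroup Spor.J4)
  rw [hk, facts.2.2.1] at h1
  have := (pow_dvd_pow 2 hk22).trans h1
  norm_num at this

/-- The properties of a Sylow 2-subgroup used to recognise the elementary abelian subgroup. -/
def SylowHyp : Prop :=
  ∃ T : Subgroup Spor.J4, T ≤ B0 ∧ E0 ≤ T ∧ Nat.card T = 2 ^ 21 ∧
    ∀ A ≤ T, (∀ a ∈ A, a * a = 1) → Nat.card A = 2 ^ 11 →
      (∀ t ∈ T, ∀ a ∈ A, t * a * t⁻¹ ∈ A) → A = E0

theorem exists_conj (hT : SylowHyp) (a : MulAut Spor.J4) :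
    ∃ g : Spor.J4, (∀ v ∈ E0, (MulAut.conj g * a) v ∈ E0) ∧ ∀ b ∈ B0, (MulAut.conj g * a) b ∈ B0 := by
  haveI := facts.1
  haveI : Fact (Nat.Prime 2) := ⟨Nat.prime_two⟩
  obtain ⟨T, hTB, hET, hcard, huniq⟩ := hT
  have hmap : ∀ (f : MulAut Spor.J4) (K : Subgroup Spor.J4), Nat.card (K.map f.toMonoidHom) = Nat.card K :=
    fun f K => (Nat.card_congr (K.equivMapOfInjective _ f.injective).toEquiv).symm
  obtain ⟨P, hP⟩ := sylow_of_card hcard
  obtain ⟨Q, hQ⟩ := sylow_of_card (T := T.map a.toMonoidHom) ((hmap a T).trans hcard)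
  obtain ⟨g, hg⟩ := MulAction.exists_smul_eq Spor.J4 Q P
  refine ⟨g, ?_⟩
  generalize hf : MulAut.conj g * a = f
  have hfT : ∀ t ∈ T, f t ∈ T := by
    intro t ht
    rw [← hP, ← hg, ← hf]
    show MulAut.conj g (a t) ∈ ((g • Q : Sylow 2 Spor.J4) : Subgroup Spor.J4)
    rw [Sylow.coe_subgroup_smul]
    exact Subgroup.smul_mem_pointwise_smul _ _ _ (hQ ▸ ⟨t, ht, rfl⟩)
  have hfT' : ∀ t ∈ T, f.symm t ∈ T := by
    intro t ht
    have e : T.map f.toMonoidHom = T :=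
      Subgroup.eq_of_le_of_card_ge (by rintro _ ⟨u, hu, rfl⟩; exact hfT u hu) (hmap f T).ge
    obtain ⟨u, hu, e'⟩ : t ∈ T.map f.toMonoidHom := e.symm ▸ ht
    rw [← e']
    exact (f.symm_apply_apply u).symm ▸ hu
  have hEmap : E0.map f.toMonoidHom = E0 := by
    refine huniq _ ?_ ?_ ((hmap f E0).trans card_E0) ?_
    · rintro _ ⟨v, hv, rfl⟩
      exact hfT v (hET hv)
    · rintro _ ⟨v, hv, rfl⟩
      show f v * f v = 1
      rw [← map_mul, sq_E0 v hv, map_one]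
    · rintro t ht _ ⟨v, hv, rfl⟩
      refine ⟨f.symm t * v * (f.symm t)⁻¹, conj_E0 (hTB (hfT' t ht)) v hv, ?_⟩
      show f (f.symm t * v * (f.symm t)⁻¹) = t * f v * t⁻¹
      simp
  have hE : ∀ v ∈ E0, f v ∈ E0 := fun v hv => hEmap ▸ ⟨v, hv, rfl⟩
  refine ⟨hE, fun b hb => ?_⟩
  rw [← normalizer_E0, Subgroup.mem_normalizer_iff]
  rw [← normalizer_E0, Subgroup.mem_normalizer_iff] at hb
  intro h
  constructor
  · intro hh
    obtain ⟨v, hv, e⟩ : h ∈ E0.map f.toMonoidHom := hEmap.symm ▸ hh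
    rw [← e]
    refine hEmap ▸ ⟨b * v * b⁻¹, (hb v).1 hv, ?_⟩
    show f (b * v * b⁻¹) = f b * f v * (f b)⁻¹
    simp
  · intro hh
    obtain ⟨v, hv, e⟩ : f b * h * (f b)⁻¹ ∈ E0.map f.toMonoidHom := hEmap.symm ▸ hh
    have e' : h = f (b⁻¹ * v * b) := by
      have e1 : f v = f b * h * (f b)⁻¹ := e
      simp only [map_mul, map_inv, e1]
      group
    rw [e']
    refine hE _ ((hb _).2 ?_)
    simpa [mul_assoc] using hv

end Cfsg.Agent.J4OutNorm18
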