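import Cfsg.Agent.Lib.J4XBase18
import Cfsg.Agent.Lib.J4OutSylowData13

/-!
Kernel checks on the tables of a Sylow 2-subgroup of the largest Mathieu group and of its elementary
abelian normal subgroups.
-/

set_option autoImplicit false
set_option maxRecDepth 100000

namespace Cfsg.Agent.J4OutSylowCheck13

open Cfsg.Agent.GolayPerm Cfsg.Agent.GolayEnumComp Cfsg.Agent.J4XBase18
open Cfsg.Agent.J4OutSylowData13

/-- Membership of a number in a list. -/
def has (c : ℕ) (l : List ℕ) : Bool := l.any (Nat.beq c)

/-- The entry of an index. -/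
def ent (k : ℕ) : ℕ × (ℕ × ℕ) × List ℕ :=
  (tab.getD (k / 32) []).getD (k % 32) (0, (0, 0), [])

/-- The code of an index. -/
def cd (k : ℕ) : ℕ := (ent k).1

/-- A generator. -/
def gen (j : ℕ) : ℕ := gens.getD j 0

/-- All codes. -/
def codes : List ℕ := (List.range 1024).map cd

/-- The generators are codes in the group, with the given inverses. -/
def gensOK : Bool :=
  (List.range 4).all fun j => good (gen j) && Nat.beq (pcomp idP (gen j)) (gen j) &&
    good (gensInv.getD j 0) && Nat.beq (pcomp idP (gensInv.getD j 0)) (gensInv.getD j 0) &&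
    Nat.beq (pcomp (gensInv.getD j 0) (gen j)) idP

/-- The successors, and the parent, of one index. -/
def stepOne (k : ℕ) : Bool :=
  let e := ent k
  ((List.range 4).all fun j => Nat.blt (e.2.2.getD j 0) 1024 &&
    Nat.beq (pcomp e.1 (gen j)) (cd (e.2.2.getD j 0))) &&
  (if k = 0 then Nat.beq e.1 idP
   else Nat.blt e.2.1.1 k && Nat.blt e.2.1.2 4 && Nat.beq e.1 (cd ((ent e.2.1.1).2.2.getD e.2.1.2 0)))

/-- Increasing numbers. -/
def incr : List ℕ → Bool
  | a :: b :: l => Nat.blt a b && incr (b :: l)
  | _ => true

/-- The elements of order two are listed, with the right products. -/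
def invsOK : Bool :=
  (invs.all fun e => (List.range 4).all fun j =>
    Nat.beq (pcomp (pcomp (gen j) e.1) (pcomp (gensInv.getD j 0) e.1)) (e.2.getD j 0)) &&
  (List.range 1024).all fun k => let c := cd k
    !Nat.beq (pcomp c c) idP || Nat.beq c idP || invs.any fun e => Nat.beq e.1 c

/-- One subgroup. -/
abbrev Sub := List ℕ × List ℕ × List ℕ × List (ℕ × List ℕ × ℕ)

/-- The subgroup of an index. -/
def sub (a : ℕ) : Sub := subs.getD a ([], [], [], [])

/-- One step leads to a listed larger subgroup. -/
def stOK (U : Sub) (c : ℕ) (t : ℕ × List ℕ × ℕ) : Bool :=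
  Nat.beq t.1 c && Nat.blt t.2.2 23 &&
    ((List.range U.1.length).all fun i => Nat.beq (pcomp c (U.1.getD i 0)) (t.2.1.getD i 0)) &&
    Nat.beq t.2.1.length U.1.length &&
    ((sub t.2.2).1.all fun x => has x U.1 || has x t.2.1) &&
    (U.1.all fun x => has x (sub t.2.2).1) && (t.2.1.all fun x => has x (sub t.2.2).1) &&
    Nat.blt U.1.length (sub t.2.2).1.length

/-- No way out of a subgroup but the listed ones. -/
def subOK (U : Sub) : Bool :=
  has idP U.1 && (U.2.1.all fun b => has b U.1) &&
  invs.all fun e => has e.1 U.1 || ((List.range 4).any fun j => !has (e.2.getD j 0) U.1) ||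
    U.2.2.2.any (stOK U e.1) || U.2.1.any fun b => !Nat.beq (pcomp e.1 b) (pcomp b e.1)

/-- The moves of a vector. -/
def moves (bs : List ℕ) (w : ℕ) : ℕ := bs.foldr (fun b r => r * 4096 + (w ^^^ vact b w)) 0

/-- Pairwise different moves. -/
def distinct : List ℕ → Bool
  | [] => true
  | a :: l => !l.any (Nat.beq a) && distinct l

/-- The vectors that bound the fixed space. -/
def fixOK (U : Sub) : Bool :=
  Nat.beq U.2.2.1.length (2 * U.1.length) && U.2.2.1.all inE && distinct (U.2.2.1.map (moves U.2.1))

theorem gens_ok : gensOK = true := by decide +kernel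

theorem step_ok₀ : ((List.range 256).all fun k => stepOne k) = true := by decide +kernel
theorem step_ok₁ : ((List.range 256).all fun k => stepOne (256 + k)) = true := by decide +kernel
theorem step_ok₂ : ((List.range 256).all fun k => stepOne (512 + k)) = true := by decide +kernel
theorem step_ok₃ : ((List.range 256).all fun k => stepOne (768 + k)) = true := by decide +kernel

theorem sig_ok : (Nat.beq sig.length 1024 && sig.all (fun k => Nat.blt k 1024) &&
    incr (sig.map cd)) = true := by decide +kernel

theorem invs_ok : invsOK = true := by decide +kernel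

theorem subs_ok : (Nat.beq subs.length 23 && Nat.beq (sub 0).1.length 1 &&
    (List.range 23).all fun a => subOK (sub a)) = true := by decide +kernel

theorem fix_ok : ((List.range 22).all fun a => fixOK (sub (a + 1))) = true := by decide +kernel

end Cfsg.Agent.J4OutSylowCheck13
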