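import Cfsg.Agent.Lib.J4XPerm10
import Cfsg.Agent.Lib.J4XCert18

/-!
The arithmetic laws needed by the coset checker, and every value of the permutation part is the value
of a code in the group of the length-24 code.
-/

set_option autoImplicit false

namespace Cfsg.Agent.J4XLaws10

open Cfsg.Agent.GolayPerm Cfsg.Agent.GolayEnumComp Cfsg.Agent.J4XBase18

theorem laws : Cfsg.Agent.J4XCert18.Laws where
  good_mul := J4XPerm10.good_pcomp
  inE_xor := J4XPerm10.inE_xor
  inE_vact := J4XPerm10.inE_vact

theorem m_idP : J4XPerm10.m idP = 1 := by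
  have h := J4XPerm10.good_idP
  have e : pcomp idP idP = idP := by decide +kernel
  have := J4XPerm10.m_mul h h
  rw [e] at this
  exact right_eq_mul.mp this

theorem mgood (P : ℕ) : ∃ Q, good Q = true ∧ J4XPerm10.m Q = J4XPerm10.m P := by
  by_cases h : good P = true
  · exact ⟨P, h, rfl⟩
  · exact ⟨idP, J4XPerm10.good_idP, m_idP.trans (by rw [J4XPerm10.m, dif_neg h])⟩

end Cfsg.Agent.J4XLaws10
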