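import Cfsg.Agent.Lib.J4XBase18
import Cfsg.Agent.Lib.J4XLowerTab97
import Cfsg.Agent.Lib.GolaySimple
import Cfsg.Agent.Lib.J4XCount4

/-!
The subgroup of shape 2^11 : M24 of an abstract configuration: the pair map is injective as soon as the
permutation part is nontrivial, and the subgroup has order 2^11 times the order of the Mathieu group.
-/

set_option autoImplicit false
set_option maxRecDepth 100000

namespace Cfsg.Agent.J4XLowerPair97

open Cfsg.Agent.GolayBasic Cfsg.Agent.GolayPerm Cfsg.Agent.GolayEnumComp Cfsg.Agent.J4XBase18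

/-- The first generator. -/
def eX : ℕ := 432707787484634829614697868396384559
/-- The second generator. -/
def eY : ℕ := 138225968781240086889945651174970409
/-- The inverse of the second generator. -/
def eYi : ℕ := 681746505744558667313624564938558514

/-- The code of a permutation. -/
noncomputable def pk (g : Equiv.Perm GolayPt) : ℕ := horner (pts.map fun i => idx (g (pt i)))

theorem pimg_pk (g : Equiv.Perm GolayPt) {i : ℕ} (hi : i < 24) : pimg (pk g) i = idx (g (pt i)) :=
  pimg_horner (f := fun i => idx (g (pt i))) (fun _ => (idx_lt _).trans (by norm_num)) hi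

theorem valid_pk (g : Equiv.Perm GolayPt) : valid (pk g) = true := by
  simp only [valid, Bool.and_eq_true, List.all_eq_true, decide_eq_true_eq, beq_iff_eq, mem_pts]
  refine ⟨fun i hi => by rw [pimg_pk g hi]; exact idx_lt _, Nat.eq_of_testBit_eq fun j => ?_⟩
  rw [Bool.eq_iff_iff, testBit_pmask, show (16777215 : ℕ) = 2 ^ 24 - 1 by norm_num]
  simp only [Nat.testBit_two_pow_sub_one, decide_eq_true_eq]
  constructor
  · rintro ⟨i, hi, -, rfl⟩; rw [pimg_pk g hi]; exact idx_lt _
  · intro hj
    refine ⟨idx (g⁻¹ (pt j)), idx_lt _, idx_lt _, ?_⟩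
    rw [pimg_pk g (idx_lt _), pt_idx]
    simp [idx_pt hj]

theorem permOf_pk (g : Equiv.Perm GolayPt) : permOf (pk g) = g := by
  ext p
  rw [permOf_apply (valid_pk g), pfun, pimg_pk g (idx_lt p), pt_idx, pt_idx]

theorem pmask_lt {P : ℕ} (h : valid P = true) (m : ℕ) : pmask P m < 2 ^ 24 := by
  refine Nat.lt_pow_two_of_testBit _ fun j hj => ?_
  by_contra hc
  rw [Bool.not_eq_false, testBit_pmask] at hc
  obtain ⟨i, hi, -, e⟩ := hc
  have := pimg_lt h hi
  omega

theorem good_pk {g : Equiv.Perm GolayPt} (hg : g ∈ Cfsg.M24) : good (pk g) = true := by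
  simp only [good, Bool.and_eq_true, List.all_eq_true]
  refine ⟨valid_pk g, fun b hb => ?_⟩
  have hall : basisRows.all inCode = true := by decide +kernel
  have hcode : inCode b = true := List.all_eq_true.mp hall b hb
  have hs := smul_mem_supports hg ((mset_mem_supports (inCode_lt hcode)).mpr hcode)
  rw [← permOf_pk g, smul_mset (valid_pk g)] at hs
  exact (mset_mem_supports (pmask_lt (valid_pk g) b)).mp hs

theorem pk_mul (g h : Equiv.Perm GolayPt) : pk (g * h) = pcomp (pk g) (pk h) := by
  unfold pcomp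
  conv_lhs => unfold pk
  refine congrArg horner (List.map_congr_left fun i hi => ?_)
  rw [pimg_pk h (mem_pts.1 hi), pimg_pk g (idx_lt _), pt_idx, Equiv.Perm.mul_apply]

theorem pk_permOf {P : ℕ} (h : valid P = true) : pk (permOf P) = pcomp idP P := by
  unfold pcomp pk
  refine congrArg horner (List.map_congr_left fun i hi => ?_)
  rw [pimg_idP (pimg_lt h (mem_pts.1 hi)), permOf_apply h, pfun, idx_pt (mem_pts.1 hi),
    idx_pt (pimg_lt h (mem_pts.1 hi))]

/-- The Mathieu group element of a good code. -/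
noncomputable def elM (P : ℕ) (h : good P = true) : Cfsg.M24 := ⟨permOf P, permOf_mem_M24 h⟩

theorem par12_xor (a b : ℕ) : par12 (a ^^^ b) = (par12 a ^^ par12 b) := by
  have key : ∀ (l : List ℕ) (u v : Bool), l.foldl (fun s k => s ^^ (a ^^^ b).testBit k) (u ^^ v) =
      (l.foldl (fun s k => s ^^ a.testBit k) u ^^ l.foldl (fun s k => s ^^ b.testBit k) v) := by
    intro l
    induction l with
    | nil => intros; rfl
    | cons k l ih =>
      intro u v
      simp only [List.foldl_cons]
      rw [← ih, Nat.testBit_xor]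
      congr 1
      cases u <;> cases v <;> cases a.testBit k <;> cases b.testBit k <;> rfl
  simpa [par12] using key (List.range 12) false false

theorem inE_xor {a b : ℕ} (ha : inE a = true) (hb : inE b = true) : inE (a ^^^ b) = true := by
  simp only [inE, Bool.and_eq_true, decide_eq_true_eq, Bool.not_eq_true'] at *
  exact ⟨Nat.xor_lt_two_pow (n := 12) ha.1 hb.1, by rw [par12_xor, ha.2, hb.2]; rfl⟩

theorem inE_zero : inE 0 = true := by decide

theorem card_inE : ((List.range 4096).filter inE).length = 2048 := by decide +kernel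

/-- The generators and their inverses. -/
def gcode : ℕ → ℕ
  | 0 => eX
  | _ => eY

/-- The inverse generators. -/
def gcode' : ℕ → ℕ
  | 0 => eX
  | _ => eYi

/-- The strings reached along the forest from the given set. -/
def grow : List (ℕ × ℕ × ℕ) → ℕ → ℕ
  | [], S => S
  | (c, _, p) :: l, S => grow l (if S.testBit p then S ||| 2 ^ c else S)

theorem gcode_good : (good eX && good eY && good eYi) = true := by decide +kernel

theorem forest_ok : (J4XLowerTab97.forest.all fun e => vact (gcode e.2.1) e.2.2 == e.1 &&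
    vact (gcode' e.2.1) e.1 == e.2.2 && inE e.1 && inE e.2.2) = true := by decide +kernel

theorem forest_reach : (fun S => (List.range 4096).all fun v => !inE v || v == 0 || S.testBit v)
    (grow J4XLowerTab97.forest (2 ^ 3 ||| 2 ^ 15)) = true := by decide +kernel

theorem forest_join : (fun S3 S15 => Nat.testBit S3 2764 && S15.testBit 2767 && S15.testBit 3428 &&
    S3.testBit 3435) (grow J4XLowerTab97.forest (2 ^ 3)) (grow J4XLowerTab97.forest (2 ^ 15)) = true := by
  decide +kernel

theorem deList_ok : (deList.all fun vP => inE vP.1 && good vP.2) = true ∧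
    (deList.any fun vP => pimg vP.2 0 != 0 || pimg vP.2 1 != 1 || pimg vP.2 2 != 2) = true := by
  decide +kernel

theorem good_idP : good idP = true := by decide +kernel

theorem pcomp_idP : pcomp idP idP = idP := by decide +kernel

theorem three_ne : (pimg eX 0 != 0 || pimg eX 1 != 1) = true := by decide +kernel

theorem noncomm (hP : good eX = true) (hQ : good eY = true) :
    elM eX hP * elM eY hQ ≠ elM eY hQ * elM eX hP := by
  intro h
  have h1 : permOf eX * permOf eY = permOf eY * permOf eX := congrArg Subtype.val h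
  have h2 := congrArg pk h1
  rw [pk_mul, pk_mul, pk_permOf (valid_of_good hP), pk_permOf (valid_of_good hQ)] at h2
  revert h2
  decide +kernel

section

variable {G : Type*} [Group G] (S : Setup G)

theorem m_idP : S.m idP = 1 := by
  have h := S.m_mul good_idP good_idP
  rw [pcomp_idP] at h
  exact mul_eq_left.mp h.symm

/-- The permutation part as a homomorphism. -/
noncomputable def mu : Cfsg.M24 →* G where
  toFun g := S.m (pk g.1)
  map_one' := by
    have h : pk (1 : Equiv.Perm GolayPt) = idP := by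
      rw [← permOf_idP, pk_permOf (valid_of_good good_idP), pcomp_idP]
    show S.m (pk (1 : Equiv.Perm GolayPt)) = 1
    rw [h, m_idP]
  map_mul' g h := by
    show S.m (pk (g.1 * h.1)) = _
    rw [pk_mul, S.m_mul (good_pk g.2) (good_pk h.2)]

theorem mu_elM {P : ℕ} (h : good P = true) : mu S (elM P h) = S.m P := by
  show S.m (pk (permOf P)) = _
  rw [pk_permOf (valid_of_good h), S.m_mul good_idP h, m_idP, one_mul]

theorem e_zero : S.e 0 = 1 := by
  have h := S.e_mul inE_zero inE_zero
  rw [Nat.xor_self] at h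
  exact mul_eq_left.mp h.symm

theorem e_inv {a : ℕ} (ha : inE a = true) : (S.e a)⁻¹ = S.e a :=
  inv_eq_of_mul_eq_one_right (by rw [← S.e_mul ha ha, Nat.xor_self, e_zero])

/-- The elementary abelian part. -/
def vpart : Subgroup G where
  carrier := {x | ∃ v, inE v = true ∧ x = S.e v}
  one_mem' := ⟨0, inE_zero, (e_zero S).symm⟩
  mul_mem' := by
    rintro _ _ ⟨a, ha, rfl⟩ ⟨b, hb, rfl⟩
    exact ⟨a ^^^ b, inE_xor ha hb, (S.e_mul ha hb).symm⟩
  inv_mem' := by
    rintro _ ⟨a, ha, rfl⟩
    exact ⟨a, ha, e_inv S ha⟩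

theorem vpart_comm {x y : G} (hx : x ∈ vpart S) (hy : y ∈ vpart S) : x * y = y * x := by
  obtain ⟨a, ha, rfl⟩ := hx
  obtain ⟨b, hb, rfl⟩ := hy
  rw [← S.e_mul ha hb, ← S.e_mul hb ha, Nat.xor_comm]

theorem kernel_act {P v : ℕ} (hP : good P = true) (hv : inE v = true) (h : S.e v = 1) :
    S.e (vact P v) = 1 := by
  have := S.act hP hv
  rw [h, mul_one] at this
  exact mul_eq_right.mp this.symm

theorem reach_step (T : ℕ → Prop) (hT : ∀ e ∈ J4XLowerTab97.forest, T e.2.2 → T e.1) :
    ∀ (l : List (ℕ × ℕ × ℕ)), (∀ e ∈ l, e ∈ J4XLowerTab97.forest) → ∀ s : ℕ,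
      (∀ v, s.testBit v = true → T v) → ∀ v, (grow l s).testBit v = true → T v
  | [], _, _, h => h
  | (c, g, p) :: l, hl, s, h => by
    refine reach_step T hT l (fun e he => hl e (List.mem_cons_of_mem _ he)) _ fun v hv => ?_
    by_cases hp : s.testBit p = true
    · rw [if_pos hp, Nat.testBit_or, Bool.or_eq_true] at hv
      rcases hv with hv | hv
      · exact h v hv
      · rw [Nat.testBit_two_pow, decide_eq_true_eq] at hv
        subst hv
        exact hT (c, g, p) (hl _ List.mem_cons_self) (h p hp)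
    · rw [if_neg hp] at hv
      exact h v hv

theorem forest_iff {e : ℕ × ℕ × ℕ} (he : e ∈ J4XLowerTab97.forest) : S.e e.2.2 = 1 ↔ S.e e.1 = 1 := by
  have h := List.all_eq_true.mp forest_ok e he
  simp only [Bool.and_eq_true, beq_iff_eq] at h
  obtain ⟨⟨⟨h1, h2⟩, h3⟩, h4⟩ := h
  have hg := gcode_good
  simp only [Bool.and_eq_true] at hg
  have g1 : good (gcode e.2.1) = true := by
    rcases e.2.1 with _ | n
    · exact hg.1.1
    · exact hg.1.2
  have g2 : good (gcode' e.2.1) = true := by
    rcases e.2.1 with _ | n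
    · exact hg.1.1
    · exact hg.2
  exact ⟨fun h => h1 ▸ kernel_act S g1 h4 h, fun h => h2 ▸ kernel_act S g2 h3 h⟩

variable (hm : S.m eX ≠ 1)
include hm

theorem mu_injective : Function.Injective (mu S) := by
  have := GolaySimple.isSimpleGroup_M24
  rw [← MonoidHom.ker_eq_bot_iff]
  refine (IsSimpleGroup.eq_bot_or_eq_top_of_normal (mu S).ker inferInstance).resolve_right fun h => hm ?_
  have hx : good eX = true := by have := gcode_good; simp only [Bool.and_eq_true] at this; exact this.1.1
  rw [← mu_elM S hx]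
  exact MonoidHom.mem_ker.1 (h ▸ Subgroup.mem_top _)

theorem e_eq_one {v : ℕ} (hv : inE v = true) (h : S.e v = 1) : v = 0 := by
  by_contra h0
  have hiff : ∀ r : ℕ, ∀ w, (grow J4XLowerTab97.forest (2 ^ r)).testBit w = true →
      (S.e w = 1 ↔ S.e r = 1) := fun r =>
    reach_step (fun w => S.e w = 1 ↔ S.e r = 1) (fun e he he' => (forest_iff S he).symm.trans he') _
      (fun _ h => h) _ (fun w hw => by rw [Nat.testBit_two_pow, decide_eq_true_eq] at hw; subst hw; exact Iff.rfl)
  have hall : ∀ w, (grow J4XLowerTab97.forest (2 ^ 3 ||| 2 ^ 15)).testBit w = true →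
      ((S.e w = 1 ↔ S.e 3 = 1) ∨ (S.e w = 1 ↔ S.e 15 = 1)) :=
    reach_step (fun w => (S.e w = 1 ↔ S.e 3 = 1) ∨ (S.e w = 1 ↔ S.e 15 = 1))
      (fun e he he' => he'.imp (fun a => (forest_iff S he).symm.trans a) fun a => (forest_iff S he).symm.trans a)
      _ (fun _ h => h) _ (fun w hw => by
        rw [Nat.testBit_or, Bool.or_eq_true, Nat.testBit_two_pow, Nat.testBit_two_pow, decide_eq_true_eq,
          decide_eq_true_eq] at hw
        rcases hw with rfl | rfl
        · exact Or.inl Iff.rfl
        · exact Or.inr Iff.rfl)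
  have hj := forest_join
  simp only [Bool.and_eq_true] at hj
  obtain ⟨⟨⟨j1, j2⟩, j3⟩, j4⟩ := hj
  have hin : inE 3 = true ∧ inE 15 = true ∧ inE 2764 = true ∧ inE 3428 = true := by decide +kernel
  have h315 : S.e 3 = 1 → S.e 15 = 1 := fun h3 => by
    have e1 := (hiff 3 _ j1).mpr h3
    refine (hiff 15 _ j2).mp ?_
    rw [show (2767 : ℕ) = 2764 ^^^ 3 from rfl, S.e_mul hin.2.2.1 hin.1, e1, h3, one_mul]
  have h153 : S.e 15 = 1 → S.e 3 = 1 := fun h15 => by
    have e1 := (hiff 15 _ j3).mpr h15
    refine (hiff 3 _ j4).mp ?_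
    rw [show (3435 : ℕ) = 3428 ^^^ 15 from rfl, S.e_mul hin.2.2.2 hin.2.1, e1, h15, one_mul]
  have hr := List.all_eq_true.mp forest_reach
  have hrv : ∀ w, inE w = true → w ≠ 0 → ((S.e w = 1 ↔ S.e 3 = 1) ∨ (S.e w = 1 ↔ S.e 15 = 1)) :=
    fun w hw hw0 => hall w (by
      have hlt : w < 4096 := by simp only [inE, Bool.and_eq_true, decide_eq_true_eq] at hw; exact hw.1
      simpa [hw, hw0] using hr w (List.mem_range.2 hlt))
  have h3 : S.e 3 = 1 := (hrv v hv h0).elim (fun a => a.mp h) fun a => h153 (a.mp h)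
  obtain ⟨vP, hvP, hne⟩ := List.any_eq_true.mp deList_ok.2
  have hok := List.all_eq_true.mp deList_ok.1 vP hvP
  simp only [Bool.and_eq_true] at hok
  have he1 : S.e vP.1 = 1 := by
    by_cases hz : vP.1 = 0
    · rw [hz, e_zero]
    · exact (hrv _ hok.1 hz).elim (fun a => a.mpr h3) fun a => a.mpr (h315 h3)
  have hde := S.de vP hvP
  rw [he1, mul_one, one_mul, S.tsq] at hde
  have h1 : elM vP.2 hok.2 = 1 := mu_injective S hm (by rw [mu_elM, map_one, ← hde])
  have h2 : permOf vP.2 = 1 := congrArg Subtype.val h1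
  have hfix : ∀ i < 24, pimg vP.2 i = i := fun i hi => by
    have := congrArg (fun p => idx (p (pt i))) h2
    simpa [permOf_apply (valid_of_good hok.2), pfun, idx_pt hi, idx_pt (pimg_lt (valid_of_good hok.2) hi)]
      using this
  simp [hfix 0 (by norm_num), hfix 1 (by norm_num), hfix 2 (by norm_num)] at hne

theorem e_injective {a b : ℕ} (ha : inE a = true) (hb : inE b = true) (h : S.e a = S.e b) : a = b := by
  have h0 := e_eq_one S hm (inE_xor ha hb) (by rw [S.e_mul ha hb, h, ← S.e_mul hb hb, Nat.xor_self, e_zero])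
  exact Nat.xor_eq_zero_iff.mp h0

variable (hvact : ∀ {P v : ℕ}, good P = true → inE v = true → inE (vact P v) = true)
include hvact

theorem inter_eq_one {g : Cfsg.M24} (hg : mu S g ∈ vpart S) : g = 1 := by
  have := GolaySimple.isSimpleGroup_M24
  have hnormal : ((vpart S).comap (mu S)).Normal := ⟨fun n hn c => by
    obtain ⟨v, hv, e⟩ := Subgroup.mem_comap.mp hn
    have h : S.m (pk c.1) * S.e v * (S.m (pk c.1))⁻¹ = S.e (vact (pk c.1) v) := by
      rw [S.act (good_pk c.2) hv, mul_inv_cancel_right]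
    have hin : inE (vact (pk c.1) v) = true := hvact (good_pk c.2) hv
    refine Subgroup.mem_comap.mpr ⟨_, hin, ?_⟩
    rw [map_mul, map_mul, map_inv, e]
    exact h⟩
  rcases IsSimpleGroup.eq_bot_or_eq_top_of_normal _ hnormal with h | h
  · exact Subgroup.mem_bot.mp (h ▸ (Subgroup.mem_comap.mpr hg : g ∈ (vpart S).comap (mu S)))
  · exfalso
    have hc : ∀ a b : Cfsg.M24, a * b = b * a := fun a b => mu_injective S hm (by
      rw [map_mul, map_mul]
      exact vpart_comm S (h ▸ Subgroup.mem_top a : a ∈ (vpart S).comap (mu S))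
        (h ▸ Subgroup.mem_top b : b ∈ (vpart S).comap (mu S)))
    have hg := gcode_good
    simp only [Bool.and_eq_true] at hg
    exact noncomm hg.1.1 hg.1.2 (hc _ _)

/-- The pair map is injective up to the coding of the permutation. -/
theorem psi_injective {h k : ℕ × ℕ} (hh : okH h = true) (hk : okH k = true) (e : psi S h = psi S k) :
    h.1 = k.1 ∧ permOf h.2 = permOf k.2 := by
  simp only [okH, Bool.and_eq_true] at hh hk
  have hmem : mu S (elM k.2 hk.2 * (elM h.2 hh.2)⁻¹) ∈ vpart S := by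
    rw [map_mul, map_inv, mu_elM, mu_elM]
    refine ⟨k.1 ^^^ h.1, inE_xor hk.1 hh.1, ?_⟩
    rw [S.e_mul hk.1 hh.1]
    have e' : S.e h.1 * S.m h.2 = S.e k.1 * S.m k.2 := e
    calc S.m k.2 * (S.m h.2)⁻¹ = (S.e k.1)⁻¹ * (S.e k.1 * S.m k.2) * (S.m h.2)⁻¹ := by group
      _ = (S.e k.1)⁻¹ * (S.e h.1 * S.m h.2) * (S.m h.2)⁻¹ := by rw [e']
      _ = S.e k.1 * S.e h.1 := by rw [e_inv S hk.1]; group
  have h1 := mul_inv_eq_one.mp (inter_eq_one S hm hvact hmem)
  have h2 : permOf k.2 = permOf h.2 := congrArg Subtype.val h1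
  refine ⟨e_injective S hm hh.1 hk.1 ?_, h2.symm⟩
  have e' : S.e h.1 * S.m h.2 = S.e k.1 * S.m k.2 := e
  rw [← mu_elM S hh.2, ← mu_elM S hk.2, h1] at e'
  exact mul_right_cancel e'

/-- The product subgroup. -/
def prod : Subgroup G where
  carrier := {x | ∃ v, inE v = true ∧ ∃ g : Cfsg.M24, x = S.e v * mu S g}
  one_mem' := ⟨0, inE_zero, 1, by rw [e_zero, map_one, one_mul]⟩
  mul_mem' := by
    rintro _ _ ⟨a, ha, g, rfl⟩ ⟨b, hb, k, rfl⟩
    refine ⟨a ^^^ vact (pk g.1) b, inE_xor ha (hvact (good_pk g.2) hb), g * k, ?_⟩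
    rw [S.e_mul ha (hvact (good_pk g.2) hb), map_mul]
    calc S.e a * mu S g * (S.e b * mu S k) = S.e a * (S.m (pk g.1) * S.e b) * mu S k := by
          simp [mu, mul_assoc]
      _ = S.e a * S.e (vact (pk g.1) b) * (mu S g * mu S k) := by
          rw [S.act (good_pk g.2) hb]; simp [mu, mul_assoc]
  inv_mem' := by
    rintro _ ⟨a, ha, g, rfl⟩
    refine ⟨vact (pk g⁻¹.1) a, hvact (good_pk g⁻¹.2) ha, g⁻¹, ?_⟩
    rw [mul_inv_rev, e_inv S ha, ← map_inv]
    exact S.act (good_pk g⁻¹.2) ha

theorem base_eq (hrange : ∀ P, S.m P ∈ (mu S).range) : base S = prod S hvact := by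
  refine le_antisymm ((Subgroup.closure_le _).2 ?_) ?_
  · rintro x (⟨P, rfl⟩ | ⟨v, hv, rfl⟩)
    · obtain ⟨g, hg⟩ := hrange P
      exact ⟨0, inE_zero, g, by rw [e_zero, one_mul, hg]⟩
    · exact ⟨v, hv, 1, by rw [map_one, mul_one]⟩
  · rintro _ ⟨v, hv, g, rfl⟩
    exact mul_mem (Subgroup.subset_closure (Or.inr ⟨v, hv, rfl⟩))
      (Subgroup.subset_closure (Or.inl ⟨_, rfl⟩))

theorem card_base (hrange : ∀ P, S.m P ∈ (mu S).range) : Nat.card (base S) = 2048 * 244823040 := by
  rw [base_eq S hm hvact hrange]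
  let f : {v : ℕ // v ∈ ((List.range 4096).filter inE).toFinset} × Cfsg.M24 → prod S hvact := fun p =>
    ⟨S.e p.1.1 * mu S p.2, p.1.1, (List.mem_filter.mp (List.mem_toFinset.mp p.1.2)).2, p.2, rfl⟩
  have hf : Function.Bijective f := by
    refine ⟨fun p q e => ?_, ?_⟩
    · have hp := (List.mem_filter.mp (List.mem_toFinset.mp p.1.2)).2
      have hq := (List.mem_filter.mp (List.mem_toFinset.mp q.1.2)).2
      have := psi_injective S hm hvact (h := (p.1.1, pk p.2.1)) (k := (q.1.1, pk q.2.1))
        (by simp [okH, hp, good_pk p.2.2]) (by simp [okH, hq, good_pk q.2.2]) (congrArg Subtype.val e)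
      refine Prod.ext (Subtype.ext this.1) (Subtype.ext ?_)
      have h2 := this.2
      rwa [permOf_pk, permOf_pk] at h2
    · rintro ⟨_, v, hv, g, rfl⟩
      refine ⟨(⟨v, List.mem_toFinset.mpr (List.mem_filter.mpr ⟨List.mem_range.mpr ?_, hv⟩)⟩, g), rfl⟩
      simp only [inE, Bool.and_eq_true, decide_eq_true_eq] at hv
      exact hv.1
  rw [← Nat.card_eq_of_bijective f hf, Nat.card_prod, Nat.card_eq_finsetCard,
    List.toFinset_card_of_nodup (List.nodup_range.filter _), card_inE, GolayM24.card_M24]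

theorem psiInj : J4XCount4.PsiInj S := by
  intro h k hh hk e
  simp only [J4XCount4.canH, Bool.and_eq_true, Nat.beq_eq] at hh hk
  obtain ⟨e1, e2⟩ := psi_injective S hm hvact hh.1 hk.1 e
  have canon : ∀ {P : ℕ}, good P = true → pcomp P idP = P → pk (permOf P) = P := fun {P} hP hc => by
    conv_rhs => rw [← hc]
    rw [pk_permOf (valid_of_good hP)]
    unfold pcomp
    refine congrArg horner (List.map_congr_left fun i hi => ?_)
    rw [pimg_idP (mem_pts.1 hi), pimg_idP (pimg_lt (valid_of_good hP) (mem_pts.1 hi))]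
  have g1 : good h.2 = true := by simp only [okH, Bool.and_eq_true] at hh; exact hh.1.2
  have g2 : good k.2 = true := by simp only [okH, Bool.and_eq_true] at hk; exact hk.1.2
  exact Prod.ext e1 (by rw [← canon g1 hh.2, ← canon g2 hk.2, e2])

theorem card_base_of_mgood (hg : J4XCount4.MGood S) : Nat.card (base S) = 2048 * 244823040 := by
  refine card_base S hm hvact fun P => ?_
  obtain ⟨Q, hQ, e⟩ := hg P
  exact ⟨elM Q hQ, by rw [mu_elM, e]⟩

end

end Cfsg.Agent.J4XLowerPair97
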