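import Mathlib
import Cfsg.Agent.Lib.J4OutBase18
import Cfsg.Agent.Lib.J4OutSylowCheck13
import Cfsg.Agent.Lib.J4XLowerPair97
import Cfsg.Agent.Lib.J4XLaws10

/-!
A subgroup of order 2^21 of the subgroup 2^11 : M24 of the presented fourth Janko group in which the
elementary abelian part is the only normal elementary abelian subgroup of order 2^11.
-/

set_option autoImplicit false
set_option maxRecDepth 100000

namespace Cfsg.Agent.J4OutSylow13

open Cfsg Cfsg.Agent.GolayBasic Cfsg.Agent.GolayPerm Cfsg.Agent.GolayEnumComp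
open Cfsg.Agent.J4XBase18 Cfsg.Agent.J4XLowerPair97
open Cfsg.Agent.J4OutSylowData13 Cfsg.Agent.J4OutSylowCheck13
open Cfsg.Agent.J4OutBase18

/-- The code of a member of the Mathieu group. -/
noncomputable def fc (g : Cfsg.M24) : ℕ := pk g.1

theorem fc_inj {g h : Cfsg.M24} (e : fc g = fc h) : g = h :=
  Subtype.ext (by rw [← permOf_pk g.1, ← permOf_pk h.1]; exact congrArg permOf e)

theorem fc_mul (g h : Cfsg.M24) : fc (g * h) = pcomp (fc g) (fc h) := pk_mul g.1 h.1

theorem fc_one : fc (1 : Cfsg.M24) = idP := by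
  show pk (1 : Equiv.Perm GolayPt) = idP
  rw [← permOf_idP, pk_permOf (valid_of_good J4XLowerPair97.good_idP), J4XLowerPair97.pcomp_idP]

theorem fc_good (g : Cfsg.M24) : good (fc g) = true := good_pk g.2

theorem has_iff {c : ℕ} {l : List ℕ} : has c l = true ↔ c ∈ l := by
  simp [has, List.any_eq_true]

theorem gens_spec {j : ℕ} (hj : j < 4) :
    (∃ g : Cfsg.M24, fc g = gen j ∧ fc g⁻¹ = gensInv.getD j 0) := by
  have h := List.all_eq_true.mp gens_ok j (List.mem_range.2 hj)
  simp only [Bool.and_eq_true, Nat.beq_eq] at h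
  obtain ⟨⟨⟨⟨h1, h2⟩, h3⟩, h4⟩, h5⟩ := h
  have a : fc (elM (gen j) h1) = gen j := (pk_permOf (valid_of_good h1)).trans h2
  have b : fc (elM (gensInv.getD j 0) h3) = gensInv.getD j 0 := (pk_permOf (valid_of_good h3)).trans h4
  refine ⟨elM (gen j) h1, a, ?_⟩
  rw [show (elM (gen j) h1)⁻¹ = elM (gensInv.getD j 0) h3 from inv_eq_of_mul_eq_one_left
    (fc_inj (by rw [fc_mul, a, b, fc_one, h5]))]
  exact b

/-- The Sylow 2-subgroup. -/
noncomputable def P2 : Subgroup Cfsg.M24 :=
  Subgroup.closure {g | ∃ j < 4, fc g = gen j}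

theorem stepOne_ok {k : ℕ} (hk : k < 1024) : stepOne k = true := by
  have key : ∀ a : ℕ, ((List.range 256).all fun i => stepOne (a + i)) = true → a ≤ k → k < a + 256 →
      stepOne k = true := fun a h h1 h2 => by
    have := List.all_eq_true.mp h (k - a) (List.mem_range.2 (by omega))
    rwa [Nat.add_sub_cancel' h1] at this
  rcases (show k < 256 ∨ (256 ≤ k ∧ k < 512) ∨ (512 ≤ k ∧ k < 768) ∨ (768 ≤ k ∧ k < 1024) by omega)
    with h | ⟨h, h'⟩ | ⟨h, h'⟩ | ⟨h, h'⟩
  · exact List.all_eq_true.mp step_ok₀ k (List.mem_range.2 h)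
  · exact key 256 step_ok₁ h h'
  · exact key 512 step_ok₂ h h'
  · exact key 768 step_ok₃ h h'

theorem step_spec {k : ℕ} (hk : k < 1024) :
    (∀ j < 4, pcomp (cd k) (gen j) ∈ codes) ∧
    (k = 0 → cd k = idP) ∧
    (k ≠ 0 → ∃ p < k, ∃ j < 4, cd k = pcomp (cd p) (gen j)) := by
  have e : ∀ {i : ℕ}, i < 1024 → ∀ j < 4,
      (ent i).2.2.getD j 0 < 1024 ∧ pcomp (cd i) (gen j) = cd ((ent i).2.2.getD j 0) := fun {i} hi j hj => by
    have h := stepOne_ok hi
    simp only [stepOne, Bool.and_eq_true] at h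
    have := List.all_eq_true.mp h.1 j (List.mem_range.2 hj)
    simp only [Bool.and_eq_true, Nat.blt_eq, Nat.beq_eq] at this
    exact this
  refine ⟨fun j hj => ?_, fun h0 => ?_, fun h0 => ?_⟩
  · obtain ⟨h1, h2⟩ := e hk j hj
    exact List.mem_map.2 ⟨_, List.mem_range.2 h1, h2.symm⟩
  · have h := stepOne_ok hk
    simp only [stepOne, Bool.and_eq_true, if_pos h0, Nat.beq_eq] at h
    exact h.2
  · have h := stepOne_ok hk
    simp only [stepOne, Bool.and_eq_true, if_neg h0, Nat.beq_eq, Nat.blt_eq] at h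
    obtain ⟨-, ⟨hp, hj⟩, he⟩ := h
    exact ⟨_, hp, _, hj, he.trans (e (hp.trans hk) _ hj).2.symm⟩

theorem code_mem_P2 : ∀ k, k < 1024 → ∃ g ∈ P2, fc g = cd k := by
  intro k
  induction k using Nat.strong_induction_on with
  | _ k ih =>
    intro hk
    obtain ⟨-, h0, h1⟩ := step_spec hk
    by_cases hk0 : k = 0
    · exact ⟨1, one_mem _, by rw [fc_one, h0 hk0]⟩
    · obtain ⟨p, hp, j, hj, e⟩ := h1 hk0
      obtain ⟨g, hg, eg⟩ := ih p hp (hp.trans hk)
      obtain ⟨s, hs, -⟩ := gens_spec hj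
      exact ⟨g * s, mul_mem hg (Subgroup.subset_closure ⟨j, hj, hs⟩), by rw [fc_mul, eg, hs, e]⟩

theorem P2_code {g : Cfsg.M24} (hg : g ∈ P2) : fc g ∈ codes := by
  have h : ∀ a : Cfsg.M24, fc a ∈ codes → fc (a * g) ∈ codes := by
    unfold P2 at hg
    induction hg using Subgroup.closure_induction with
    | mem x hx =>
      intro a ha
      obtain ⟨j, hj, e⟩ := hx
      obtain ⟨k, hk, ek⟩ := List.mem_map.1 ha
      rw [fc_mul, e, ← ek]
      exact (step_spec (List.mem_range.1 hk)).1 j hj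
    | one => intro a ha; rwa [mul_one]
    | mul x y _ _ hx hy => intro a ha; rw [← mul_assoc]; exact hy _ (hx _ ha)
    | inv x _ hx =>
      intro a ha
      have hp : ∀ n : ℕ, fc (a * x ^ n) ∈ codes := fun n => by
        induction n with
        | zero => simpa using ha
        | succ n ih => rw [pow_succ, ← mul_assoc]; exact hx _ ih
      have hn := orderOf_pos x
      rw [show x⁻¹ = x ^ (orderOf x - 1) from inv_eq_of_mul_eq_one_right (by
        rw [← pow_succ', Nat.sub_add_cancel hn, pow_orderOf_eq_one])]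
      exact hp _
  have h1 : fc (1 : Cfsg.M24) ∈ codes :=
    List.mem_map.2 ⟨0, List.mem_range.2 (by norm_num),
      ((step_spec (by norm_num : (0 : ℕ) < 1024)).2.1 rfl).trans fc_one.symm⟩
  simpa using h 1 h1

theorem incr_pairwise : ∀ l : List ℕ, incr l = true → l.Pairwise (· < ·)
  | [], _ => List.Pairwise.nil
  | [a], _ => List.pairwise_singleton _ _
  | a :: b :: l, h => by
    simp only [incr, Bool.and_eq_true, Nat.blt_eq] at h
    have ih := incr_pairwise (b :: l) h.2
    refine List.pairwise_cons.2 ⟨fun x hx => ?_, ih⟩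
    rcases List.mem_cons.1 hx with rfl | hx
    · exact h.1
    · exact h.1.trans ((List.pairwise_cons.1 ih).1 x hx)

theorem card_P2 : Nat.card P2 = 1024 := by
  have hs := sig_ok
  simp only [Bool.and_eq_true, Nat.beq_eq, List.all_eq_true, Nat.blt_eq] at hs
  obtain ⟨⟨hlen, hlt⟩, hinc⟩ := hs
  have hnd : (sig.map cd).Nodup := (incr_pairwise _ hinc).imp fun h => h.ne
  have himg : fc '' (P2 : Set Cfsg.M24) = ↑codes.toFinset := by
    ext c
    simp only [Set.mem_image, SetLike.mem_coe, List.coe_toFinset, Set.mem_setOf_eq]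
    constructor
    · rintro ⟨g, hg, rfl⟩; exact P2_code hg
    · intro hc
      obtain ⟨k, hk, rfl⟩ := List.mem_map.1 hc
      exact code_mem_P2 k (List.mem_range.1 hk)
  have h1 : Nat.card P2 = codes.toFinset.card := by
    rw [← Set.ncard_coe_finset, ← himg, Set.ncard_image_of_injective _ fun a b e => fc_inj e]
    exact Nat.card_coe_set_eq _
  refine h1.trans (le_antisymm ?_ ?_)
  · exact (List.toFinset_card_le _).trans (by simp [codes])
  · calc 1024 = (sig.map cd).toFinset.card := by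
          rw [List.toFinset_card_of_nodup hnd, List.length_map, hlen]
      _ ≤ codes.toFinset.card := Finset.card_le_card fun c hc => by
          rw [List.mem_toFinset] at hc ⊢
          obtain ⟨k, hk, rfl⟩ := List.mem_map.1 hc
          exact List.mem_map.2 ⟨k, List.mem_range.2 (hlt k hk), rfl⟩

theorem P2_isPGroup : IsPGroup 2 P2 :=
  IsPGroup.of_card (n := 10) (by rw [card_P2]; norm_num)

/-- A normal subgroup of `P2` strictly above a normal subgroup has an element central over it. -/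
theorem exists_central (V U : Subgroup Cfsg.M24) (hVU : V ≤ U) (hU : U ≤ P2) (hne : ¬ U ≤ V)
    (nV : ∀ p ∈ P2, ∀ v ∈ V, p * v * p⁻¹ ∈ V) (nU : ∀ p ∈ P2, ∀ u ∈ U, p * u * p⁻¹ ∈ U) :
    ∃ c ∈ U, c ∉ V ∧ ∀ p ∈ P2, p * c * p⁻¹ * c⁻¹ ∈ V := by
  haveI : (V.subgroupOf P2).Normal := ⟨fun n hn g => nV g g.2 n hn⟩
  haveI : (U.subgroupOf P2).Normal := ⟨fun n hn g => nU g g.2 n hn⟩
  let φ := QuotientGroup.mk' (V.subgroupOf P2)
  let N := (U.subgroupOf P2).map φ
  haveI : N.Normal := Subgroup.Normal.map inferInstance φ (QuotientGroup.mk'_surjective _)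
  haveI : Fact (Nat.Prime 2) := ⟨Nat.prime_two⟩
  have hQ : IsPGroup 2 (P2 ⧸ V.subgroupOf P2) := P2_isPGroup.to_quotient _
  have hN1 : N ≠ ⊥ := by
    intro h
    apply hne
    intro u hu
    have : φ ⟨u, hU hu⟩ ∈ N := Subgroup.mem_map_of_mem _ (show (⟨u, hU hu⟩ : P2) ∈ U.subgroupOf P2 from hu)
    rw [h, Subgroup.mem_bot] at this
    have h' : (⟨u, hU hu⟩ : P2) ∈ V.subgroupOf P2 := (QuotientGroup.eq_one_iff _).1 this
    exact h'
  haveI : Nontrivial N := (Subgroup.nontrivial_iff_ne_bot N).2 hN1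
  have hdvd : 2 ∣ Nat.card N := by
    obtain ⟨n, hn⟩ := IsPGroup.iff_card.1 (hQ.to_subgroup N)
    rcases n with _ | n
    · rw [pow_zero] at hn
      exact absurd hn (Finite.one_lt_card (α := N)).ne'
    · exact ⟨2 ^ n, by rw [hn, pow_succ, mul_comm]⟩
  have hQ' : IsPGroup 2 (ConjAct (P2 ⧸ V.subgroupOf P2)) := hQ.of_equiv ConjAct.toConjAct
  obtain ⟨b, hb, hb1⟩ := hQ'.exists_fixed_point_of_prime_dvd_card_of_fixed_point N hdvd
    (a := 1) (fun g => Subtype.ext (by simp [ConjAct.Subgroup.val_conj_smul]))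
  obtain ⟨c, hc, ec⟩ := Subgroup.mem_map.1 b.2
  refine ⟨c, hc, fun h => hb1 ?_, fun p hp => ?_⟩
  · refine Subtype.ext ?_
    rw [← ec]
    exact ((QuotientGroup.eq_one_iff c).2 h).symm
  · have h1 : φ ⟨p, hp⟩ * φ c * (φ ⟨p, hp⟩)⁻¹ = φ c := by
      have := congrArg Subtype.val (hb (ConjAct.toConjAct (φ ⟨p, hp⟩)))
      rwa [ConjAct.Subgroup.val_conj_smul, ConjAct.toConjAct_smul, ← ec] at this
    have h2 : φ (⟨p, hp⟩ * c * ⟨p, hp⟩⁻¹ * c⁻¹) = 1 := by
      rw [map_mul, map_mul, map_mul, map_inv, map_inv, h1, mul_inv_cancel]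
    have h3 : (⟨p, hp⟩ * c * ⟨p, hp⟩⁻¹ * c⁻¹ : P2) ∈ V.subgroupOf P2 := (QuotientGroup.eq_one_iff _).1 h2
    exact h3

/-- The listed subgroups are the only candidates. -/
theorem classify (U : Subgroup Cfsg.M24) (hU : U ≤ P2) (nU : ∀ p ∈ P2, ∀ u ∈ U, p * u * p⁻¹ ∈ U)
    (hsq : ∀ u ∈ U, u * u = 1) :
    ∃ a < 23, (∀ g ∈ U, fc g ∈ (sub a).1) ∧ ∀ x ∈ (sub a).1, ∃ g ∈ U, fc g = x := by
  classical
  have hs := subs_ok
  simp only [Bool.and_eq_true, Nat.beq_eq, List.all_eq_true, List.mem_range] at hs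
  obtain ⟨⟨-, h0⟩, hall⟩ := hs
  let Ok : ℕ → Prop := fun a => ∃ V : Subgroup Cfsg.M24, V ≤ U ∧
    (∀ p ∈ P2, ∀ v ∈ V, p * v * p⁻¹ ∈ V) ∧ (∀ g, g ∈ V ↔ fc g ∈ (sub a).1) ∧
    ∀ x ∈ (sub a).1, ∃ g ∈ V, fc g = x
  let good' : Finset ℕ := (Finset.range 23).filter Ok
  have hne : good'.Nonempty := ⟨0, by
    simp only [good', Finset.mem_filter, Finset.mem_range]
    obtain ⟨y, hy⟩ := List.length_eq_one_iff.1 h0
    have hid := hall 0 (by norm_num)
    simp only [subOK, Bool.and_eq_true, has_iff] at hid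
    have h2 := hid.1.1
    rw [hy, List.mem_singleton] at h2
    refine ⟨by norm_num, ⊥, bot_le, fun p _ v hv => ?_, fun g => ?_, fun x hx => ⟨1, one_mem _, ?_⟩⟩
    · rw [Subgroup.mem_bot] at hv ⊢; rw [hv]; group
    · rw [Subgroup.mem_bot, hy, List.mem_singleton, ← h2, ← fc_one]
      exact ⟨fun h => h ▸ rfl, fun h => fc_inj h⟩
    · rw [hy, List.mem_singleton] at hx
      rw [fc_one, hx, h2]⟩
  obtain ⟨a, ha, hmax⟩ := good'.exists_max_image (fun a => (sub a).1.length) hne
  simp only [good', Finset.mem_filter, Finset.mem_range] at ha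
  obtain ⟨ha23, V, hVU, nV, hV, hVall⟩ := ha
  refine ⟨a, ha23, ?_, fun x hx => by obtain ⟨g, hg, e⟩ := hVall x hx; exact ⟨g, hVU hg, e⟩⟩
  by_contra hcon
  have hne' : ¬ U ≤ V := fun h => hcon fun g hg => (hV g).1 (h hg)
  obtain ⟨c, hcU, hcV, hfix'⟩ := exists_central V U hVU hU hne' nV nU
  have hc : fc c ∉ (sub a).1 := fun h => hcV ((hV c).2 h)
  have hfix : ∀ p ∈ P2, fc (p * c * p⁻¹ * c⁻¹) ∈ (sub a).1 := fun p hp => (hV _).1 (hfix' p hp)
  have hok := hall a ha23
  simp only [subOK, Bool.and_eq_true, List.all_eq_true, has_iff] at hok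
  obtain ⟨⟨hid, hbas⟩, hinv⟩ := hok
  have hcomm : ∀ x ∈ U, ∀ y ∈ U, x * y = y * x := fun x hx y hy => by
    have e : (x * y)⁻¹ = x * y := inv_eq_of_mul_eq_one_right (hsq _ (mul_mem hx hy))
    rw [← e, mul_inv_rev, inv_eq_of_mul_eq_one_right (hsq x hx), inv_eq_of_mul_eq_one_right (hsq y hy)]
  obtain ⟨k, hk, ek⟩ := List.mem_map.1 (P2_code (hU hcU))
  have hci := invs_ok
  simp only [invsOK, Bool.and_eq_true, List.all_eq_true, Bool.or_eq_true, Bool.not_eq_true',
    List.any_eq_true, Nat.beq_eq, List.mem_range] at hci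
  obtain ⟨hprod, hlist⟩ := hci
  have hcc : pcomp (fc c) (fc c) = idP := by rw [← fc_mul, hsq c hcU, fc_one]
  rcases hlist k (List.mem_range.1 hk) with (h | h) | ⟨e, he, hec⟩
  · rw [ek, hcc] at h
    exact absurd h (by simp [Nat.beq_refl])
  · rw [ek] at h
    exact hc (h ▸ hid)
  · rw [ek] at hec
    have h := hinv e he
    simp only [Bool.or_eq_true, has_iff, List.any_eq_true, Bool.not_eq_true', List.mem_range] at h
    rcases h with ((h | ⟨j, hj, h⟩) | ⟨t, ht, h⟩) | ⟨b, hb, h⟩
    · exact hc (hec ▸ h)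
    · obtain ⟨s, hs, hsi⟩ := gens_spec hj
      have hf := hfix s (Subgroup.subset_closure ⟨j, hj, hs⟩)
      have e2 := hprod e he j hj
      rw [show s * c * s⁻¹ * c⁻¹ = s * c * (s⁻¹ * c) by
        rw [inv_eq_of_mul_eq_one_right (hsq c hcU)]; group, fc_mul, fc_mul, fc_mul, hs, hsi, ← hec, e2]
        at hf
      rw [← Bool.not_eq_true, has_iff] at h
      exact h hf
    · simp only [stOK, Bool.and_eq_true, Nat.beq_eq, Nat.blt_eq, List.all_eq_true, List.mem_range,
        Bool.or_eq_true, has_iff] at h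
      obtain ⟨⟨⟨⟨⟨⟨⟨-, ht23⟩, hmap⟩, hlen⟩, hsubset⟩, hsup⟩, hsup'⟩, hbig⟩ := h
      have hcx : c * c = 1 := hsq c hcU
      have hci' : c⁻¹ = c := inv_eq_of_mul_eq_one_right hcx
      let V' : Subgroup Cfsg.M24 :=
        { carrier := {g | g ∈ V ∨ c * g ∈ V}
          one_mem' := Or.inl (one_mem _)
          mul_mem' := by
            intro x y hx hy
            have hxU : x ∈ U := hx.elim (fun h => hVU h) fun h => by
              have := mul_mem hcU (hVU h)
              rwa [← mul_assoc, hcx, one_mul] at this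
            rcases hx with hx | hx <;> rcases hy with hy | hy
            · exact Or.inl (mul_mem hx hy)
            · refine Or.inr ?_
              rw [← mul_assoc, hcomm c hcU x hxU, mul_assoc]
              exact mul_mem hx hy
            · exact Or.inr (by rw [← mul_assoc]; exact mul_mem hx hy)
            · refine Or.inl ?_
              have e : x * y = c * x * (c * y) := by
                rw [hcomm c hcU x hxU, mul_assoc x c, ← mul_assoc c c, hcx, one_mul]
              rw [e]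
              exact mul_mem hx hy
          inv_mem' := by
            intro x hx
            have hxU : x ∈ U := hx.elim (fun h => hVU h) fun h => by
              have := mul_mem hcU (hVU h)
              rwa [← mul_assoc, hcx, one_mul] at this
            rw [inv_eq_of_mul_eq_one_right (hsq x hxU)]
            exact hx }
      have hV' : ∀ g, g ∈ V' ↔ g ∈ V ∨ c * g ∈ V := fun g => Iff.rfl
      have himage : ∀ g ∈ V, fc (c * g) ∈ t.2.1 := fun g hg => by
        obtain ⟨i, hi, e⟩ := List.getElem_of_mem ((hV g).1 hg)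
        have := hmap i hi
        rw [List.getD_eq_getElem _ _ hi, List.getD_eq_getElem _ _ (hlen.symm ▸ hi), hec, e, ← fc_mul]
          at this
        rw [this]
        exact List.getElem_mem _
      have hpre : ∀ x ∈ (sub t.2.2).1, ∃ g ∈ V', fc g = x := fun x hx => by
        rcases hsubset x hx with h' | h'
        · obtain ⟨g, hg, e⟩ := hVall x h'
          exact ⟨g, Or.inl hg, e⟩
        · obtain ⟨i, hi, rfl⟩ := List.getElem_of_mem h'
          have hi' : i < (sub a).1.length := hlen ▸ hi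
          have := hmap i hi'
          rw [List.getD_eq_getElem _ _ hi', List.getD_eq_getElem _ _ hi, hec] at this
          obtain ⟨g, hg, eg⟩ := hVall _ (List.getElem_mem hi')
          refine ⟨c * g, Or.inr ?_, by rw [fc_mul, eg, this]⟩
          rwa [← mul_assoc, hcx, one_mul]
      have hgood : t.2.2 ∈ good' := by
        simp only [good', Finset.mem_filter, Finset.mem_range]
        refine ⟨ht23, V', fun g hg => hg.elim (fun h => hVU h) (fun h => ?_), fun p hp v hv => ?_,
          fun g => ⟨fun hg => ?_, fun hg => ?_⟩, hpre⟩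
        · have := mul_mem hcU (hVU h)
          rwa [← mul_assoc, hcx, one_mul] at this
        · rcases hv with hv | hv
          · exact Or.inl (nV p hp v hv)
          · refine Or.inr ?_
            have e : c * (p * v * p⁻¹) = (p * c * p⁻¹ * c⁻¹)⁻¹ * (p * (c * v) * p⁻¹) := by group
            rw [e]
            exact mul_mem (inv_mem (hfix' p hp)) (nV p hp _ hv)
        · rcases hg with hg | hg
          · exact hsup _ ((hV g).1 hg)
          · have := hsup' _ (himage _ hg)
            rwa [← mul_assoc, hcx, one_mul] at this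
        · obtain ⟨h, hh, e⟩ := hpre _ hg
          exact fc_inj e ▸ hh
      exact absurd (hmax _ hgood) (not_le.2 hbig)
    · obtain ⟨g, hg', eg⟩ := hVall b (hbas b hb)
      have hg := hVU hg'
      rw [hec, ← eg, ← fc_mul, ← fc_mul, hcomm c hcU g hg] at h
      simp [Nat.beq_refl] at h

/-! ### the subgroup of order 2^21 -/

attribute [local irreducible] J4OutSylowCheck13.sub J4OutSylowCheck13.codes

section

variable {G : Type*} [Group G] (S : Setup G)


theorem hvact0 {P v : ℕ} (hP : good P = true) (hv : inE v = true) : inE (vact P v) = true :=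
  J4XPerm10.inE_vact hP hv

theorem mu_e (g : Cfsg.M24) {v : ℕ} (hv : inE v = true) :
    mu S g * S.e v = S.e (vact (fc g) v) * mu S g :=
  S.act (good_pk g.2) hv

theorem pair_eq (hm : S.m eX ≠ 1) {a b : ℕ} {g h : Cfsg.M24} (ha : inE a = true) (hb : inE b = true)
    (e : S.e a * mu S g = S.e b * mu S h) : a = b ∧ g = h := by
  have := psi_injective S hm hvact0 (h := (a, fc g)) (k := (b, fc h))
    (by simp [okH, ha, fc_good]) (by simp [okH, hb, fc_good]) e
  exact ⟨this.1, Subtype.ext (by have h2 := this.2; rwa [fc, fc, permOf_pk, permOf_pk] at h2)⟩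

/-- The preimage of the Sylow 2-subgroup. -/
def T2 : Subgroup G where
  carrier := {x | ∃ v, inE v = true ∧ ∃ g ∈ P2, x = S.e v * mu S g}
  one_mem' := ⟨0, J4XLowerPair97.inE_zero, 1, one_mem _, by rw [J4XLowerPair97.e_zero, map_one, one_mul]⟩
  mul_mem' := by
    rintro _ _ ⟨a, ha, g, hg, rfl⟩ ⟨b, hb, k, hk, rfl⟩
    refine ⟨a ^^^ vact (fc g) b, J4XLowerPair97.inE_xor ha (hvact0 (fc_good g) hb), g * k, mul_mem hg hk, ?_⟩
    rw [S.e_mul ha (hvact0 (fc_good g) hb), map_mul]
    calc S.e a * mu S g * (S.e b * mu S k) = S.e a * (mu S g * S.e b) * mu S k := by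
          group
      _ = _ := by rw [mu_e S g hb]; group
  inv_mem' := by
    rintro _ ⟨a, ha, g, hg, rfl⟩
    refine ⟨vact (fc g⁻¹) a, hvact0 (fc_good g⁻¹) ha, g⁻¹, inv_mem hg, ?_⟩
    rw [mul_inv_rev, J4XLowerPair97.e_inv S ha, ← map_inv]
    exact mu_e S g⁻¹ ha

theorem T2_le : T2 S ≤ base S := by
  rintro _ ⟨v, hv, g, -, rfl⟩
  exact mul_mem (Subgroup.subset_closure (Or.inr ⟨v, hv, rfl⟩))
    (Subgroup.subset_closure (Or.inl ⟨_, rfl⟩))

theorem vpart_le : vpart S ≤ T2 S := by
  rintro _ ⟨v, hv, rfl⟩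
  exact ⟨v, hv, 1, one_mem _, by rw [map_one, mul_one]⟩

/-- The classes. -/
def evens : Finset ℕ := ((List.range 4096).filter inE).toFinset

theorem mem_evens {v : ℕ} : v ∈ evens ↔ inE v = true := by
  simp only [evens, List.mem_toFinset, List.mem_filter, List.mem_range]
  refine ⟨fun h => h.2, fun h => ⟨?_, h⟩⟩
  simp only [inE, Bool.and_eq_true, decide_eq_true_eq] at h
  exact h.1

theorem card_evens : evens.card = 2048 := by
  rw [evens, List.toFinset_card_of_nodup (List.nodup_range.filter _), card_inE]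

attribute [local irreducible] evens

theorem card_T2 (hm : S.m eX ≠ 1) : Nat.card (T2 S) = 2 ^ 21 := by
  let f : evens × P2 → T2 S := fun p =>
    ⟨S.e p.1.1 * mu S p.2.1, p.1.1, mem_evens.1 p.1.2, p.2.1, p.2.2, rfl⟩
  have hf : Function.Bijective f := by
    refine ⟨fun p q e => ?_, ?_⟩
    · obtain ⟨h1, h2⟩ := pair_eq S hm (mem_evens.1 p.1.2) (mem_evens.1 q.1.2) (congrArg Subtype.val e)
      exact Prod.ext (Subtype.ext h1) (Subtype.ext h2)
    · rintro ⟨_, v, hv, g, hg, rfl⟩
      exact ⟨(⟨v, mem_evens.2 hv⟩, ⟨g, hg⟩), rfl⟩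
  rw [← Nat.card_eq_of_bijective f hf, Nat.card_prod, Nat.card_eq_finsetCard, card_evens, card_P2]
  norm_num

theorem card_vpart (hm : S.m eX ≠ 1) : Nat.card (vpart S) = 2 ^ 11 := by
  let f : evens → vpart S := fun p => ⟨S.e p.1, p.1, mem_evens.1 p.2, rfl⟩
  have hf : Function.Bijective f := by
    refine ⟨fun p q e => Subtype.ext ?_, ?_⟩
    · exact J4XLowerPair97.e_injective S hm (mem_evens.1 p.2) (mem_evens.1 q.2) (congrArg Subtype.val e)
    · rintro ⟨_, v, hv, rfl⟩
      exact ⟨⟨v, mem_evens.2 hv⟩, rfl⟩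
  rw [← Nat.card_eq_of_bijective f hf, Nat.card_eq_finsetCard, card_evens]
  norm_num

theorem foldr_congr_fun {α β : Type*} (h : β → ℕ → β) (f g : α → ℕ) (z : β) :
    ∀ l : List α, (∀ b ∈ l, f b = g b) →
      l.foldr (fun b r => h r (f b)) z = l.foldr (fun b r => h r (g b)) z
  | [], _ => rfl
  | b :: l, e => by
    rw [List.foldr_cons, List.foldr_cons, e b List.mem_cons_self,
      foldr_congr_fun h f g z l fun c hc => e c (List.mem_cons_of_mem _ hc)]

theorem moves_xor {bs : List ℕ} {x w : ℕ} (hgood : ∀ b ∈ bs, good b = true)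
    (hx : ∀ b ∈ bs, vact b x = x) : moves bs (x ^^^ w) = moves bs w := by
  unfold moves
  refine foldr_congr_fun (fun r c => r * 4096 + c) _ _ 0 bs fun b hb => ?_
  rw [J4XPerm10.vact_xor (hgood b hb), hx b hb]
  rw [Nat.xor_comm x w, Nat.xor_assoc, ← Nat.xor_assoc x x, Nat.xor_self, Nat.zero_xor]

theorem distinct_nodup : ∀ {l : List ℕ}, J4OutSylowCheck13.distinct l = true → l.Nodup
  | [], _ => List.nodup_nil
  | a :: l, h => by
    simp only [J4OutSylowCheck13.distinct, Bool.and_eq_true, Bool.not_eq_true', List.any_eq_false] at h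
    exact List.nodup_cons.2 ⟨fun ha => h.1 a ha (Nat.beq_refl a), distinct_nodup h.2⟩

set_option maxHeartbeats 1000000 in
/-- The only normal elementary abelian subgroup of order 2^11. -/
theorem eq_vpart (hm : S.m eX ≠ 1) (A : Subgroup G) (hA : A ≤ T2 S) (hsq : ∀ a ∈ A, a * a = 1)
    (hcard : Nat.card A = 2 ^ 11) (hn : ∀ t ∈ T2 S, ∀ a ∈ A, t * a * t⁻¹ ∈ A) : A = vpart S := by
  classical
  have hcomm : ∀ x ∈ A, ∀ y ∈ A, x * y = y * x := fun x hx y hy => by
    have e : (x * y)⁻¹ = x * y := inv_eq_of_mul_eq_one_right (hsq _ (mul_mem hx hy))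
    rw [← e, mul_inv_rev, inv_eq_of_mul_eq_one_right (hsq x hx), inv_eq_of_mul_eq_one_right (hsq y hy)]
  let U : Subgroup Cfsg.M24 :=
    { carrier := {g | ∃ v, inE v = true ∧ S.e v * mu S g ∈ A}
      one_mem' := ⟨0, J4XLowerPair97.inE_zero, by rw [J4XLowerPair97.e_zero, map_one, one_mul]; exact one_mem _⟩
      mul_mem' := by
        rintro g h ⟨a, ha, hga⟩ ⟨b, hb, hhb⟩
        refine ⟨a ^^^ vact (fc g) b, J4XLowerPair97.inE_xor ha (hvact0 (fc_good g) hb), ?_⟩
        have e : S.e (a ^^^ vact (fc g) b) * mu S (g * h) = S.e a * mu S g * (S.e b * mu S h) := by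
          rw [S.e_mul ha (hvact0 (fc_good g) hb), map_mul,
            show S.e a * mu S g * (S.e b * mu S h) = S.e a * (mu S g * S.e b) * mu S h by group,
            mu_e S g hb]
          group
        rw [e]
        exact mul_mem hga hhb
      inv_mem' := by
        rintro g ⟨a, ha, hga⟩
        refine ⟨vact (fc g⁻¹) a, hvact0 (fc_good g⁻¹) ha, ?_⟩
        have e : (S.e a * mu S g)⁻¹ = S.e (vact (fc g⁻¹) a) * mu S g⁻¹ := by
          rw [mul_inv_rev, J4XLowerPair97.e_inv S ha, ← map_inv]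
          exact mu_e S g⁻¹ ha
        exact e ▸ inv_mem hga }
  have hUP : U ≤ P2 := by
    rintro g ⟨v, hv, hg⟩
    obtain ⟨w, hw, k, hk, e⟩ := hA hg
    exact (pair_eq S hm hv hw e).2 ▸ hk
  have hUn : ∀ p ∈ P2, ∀ u ∈ U, p * u * p⁻¹ ∈ U := by
    rintro p hp u ⟨v, hv, hu⟩
    refine ⟨vact (fc p) v, hvact0 (fc_good p) hv, ?_⟩
    have hpT : mu S p ∈ T2 S :=
      ⟨0, J4XLowerPair97.inE_zero, p, hp, by rw [J4XLowerPair97.e_zero, one_mul]⟩
    have e : mu S p * (S.e v * mu S u) * (mu S p)⁻¹ = S.e (vact (fc p) v) * mu S (p * u * p⁻¹) := by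
      rw [← mul_assoc (mu S p) (S.e v), mu_e S p hv, map_mul, map_mul, map_inv]
      group
    exact e ▸ hn _ hpT _ hu
  have hUsq : ∀ u ∈ U, u * u = 1 := by
    rintro u ⟨v, hv, hu⟩
    have h := hsq _ hu
    rw [show S.e v * mu S u * (S.e v * mu S u) = S.e v * (mu S u * S.e v) * mu S u by group,
      mu_e S u hv, show S.e v * (S.e (vact (fc u) v) * mu S u) * mu S u =
        S.e v * S.e (vact (fc u) v) * (mu S u * mu S u) by group,
      ← S.e_mul hv (hvact0 (fc_good u) hv), ← map_mul] at h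
    exact (pair_eq S hm (J4XLowerPair97.inE_xor hv (hvact0 (fc_good u) hv)) J4XLowerPair97.inE_zero
      (h.trans (by rw [J4XLowerPair97.e_zero, map_one, one_mul]))).2
  obtain ⟨a, ha, hsub, hsup⟩ := classify U hUP hUn hUsq
  by_cases ha0 : a = 0
  · have hlen : (sub a).1.length = 1 := by
      have hs := subs_ok
      simp only [Bool.and_eq_true, Nat.beq_eq] at hs
      rw [ha0]
      exact hs.1.2
    obtain ⟨y, hy⟩ := List.length_eq_one_iff.1 hlen
    have hU1 : ∀ u ∈ U, u = 1 := fun u hu => fc_inj (by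
      have h1 := hsub u hu
      have h2 := hsub 1 (one_mem _)
      rw [hy, List.mem_singleton] at h1 h2
      rw [h1, h2])
    have hle : A ≤ vpart S := by
      intro x hx
      obtain ⟨v, hv, g, hg, rfl⟩ := hA hx
      rw [hU1 g ⟨v, hv, hx⟩, map_one, mul_one]
      exact ⟨v, hv, rfl⟩
    have : Finite (vpart S) := Nat.finite_of_card_ne_zero (by rw [card_vpart S hm]; norm_num)
    exact Subgroup.eq_of_le_of_card_ge hle (by rw [card_vpart S hm, hcard])
  · exfalso
    have hfx := List.all_eq_true.mp fix_ok (a - 1) (List.mem_range.2 (by omega))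
    rw [Nat.sub_add_cancel (Nat.pos_of_ne_zero ha0)] at hfx
    simp only [fixOK, Bool.and_eq_true, Nat.beq_eq, List.all_eq_true] at hfx
    obtain ⟨⟨hwlen, hwE⟩, hwd⟩ := hfx
    set W := (sub a).2.2.1 with hW
    set bs := (sub a).2.1 with hbs
    have hs := subs_ok
    simp only [Bool.and_eq_true, Nat.beq_eq, List.all_eq_true, List.mem_range] at hs
    have hok := hs.2 a ha
    simp only [subOK, Bool.and_eq_true, List.all_eq_true, has_iff] at hok
    have hbasU : ∀ b ∈ bs, ∃ u ∈ U, fc u = b := fun b hb => hsup b (hok.1.2 b hb)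
    have hbgood : ∀ b ∈ bs, good b = true := fun b hb => by
      obtain ⟨u, -, e⟩ := hbasU b hb
      exact e ▸ fc_good u
    let fixs : Finset ℕ := evens.filter fun w => ∀ b ∈ bs, vact b w = w
    have hUcard : Nat.card U ≤ (sub a).1.length := by
      clear_value fixs
      generalize (sub a).1 = M at hsub
      have h := Set.ncard_le_ncard_of_injOn (s := (U : Set Cfsg.M24)) (t := {c | c ∈ M}) fc hsub
        (fun u _ v _ e => fc_inj e) M.finite_toSet
      refine (Nat.card_coe_set_eq (U : Set Cfsg.M24)).trans_le (h.trans ?_)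
      exact (Set.ncard_le_ncard (t := (↑M.toFinset : Set ℕ)) (fun c hc => List.mem_toFinset.2 hc)
        M.toFinset.finite_toSet).trans ((Set.ncard_coe_finset _).trans_le (List.toFinset_card_le _))
    have hAcard : Nat.card A ≤ Nat.card U * fixs.card := by
      have hsel : ∀ u : U, ∃ v, inE v = true ∧ S.e v * mu S u.1 ∈ A := fun u => u.2
      choose r hr1 hr2 using hsel
      have hdec : ∀ x : A, ∃ v, inE v = true ∧ ∃ g : U, (x : G) = S.e v * mu S g.1 := fun x => by
        obtain ⟨v, hv, g, hg, e⟩ := hA x.2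
        exact ⟨v, hv, ⟨g, v, hv, e ▸ x.2⟩, e⟩
      choose dv hdv dg hdg using hdec
      have hfixmem : ∀ x : A, dv x ^^^ r (dg x) ∈ fixs := fun x => by
        simp only [fixs, Finset.mem_filter, mem_evens]
        have hin := J4XLowerPair97.inE_xor (hdv x) (hr1 (dg x))
        refine ⟨hin, fun b hb => ?_⟩
        have hmemA : S.e (dv x ^^^ r (dg x)) ∈ A := by
          have e : S.e (dv x ^^^ r (dg x)) = (x : G) * (S.e (r (dg x)) * mu S (dg x).1)⁻¹ := by
            rw [hdg x, S.e_mul (hdv x) (hr1 _), mul_inv_rev, J4XLowerPair97.e_inv S (hr1 _)]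
            group
          exact e ▸ mul_mem x.2 (inv_mem (hr2 _))
        obtain ⟨u, ⟨v, hv, hu⟩, rfl⟩ := hbasU b hb
        set w := dv x ^^^ r (dg x)
        have h := hcomm _ hmemA _ hu
        rw [show S.e v * mu S u * S.e w = S.e v * (mu S u * S.e w) by group, mu_e S u hin,
          ← mul_assoc, ← mul_assoc, ← S.e_mul hin hv, ← S.e_mul hv (hvact0 (fc_good u) hin)] at h
        have h2 := (pair_eq S hm (J4XLowerPair97.inE_xor hin hv)
          (J4XLowerPair97.inE_xor hv (hvact0 (fc_good u) hin)) h).1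
        rw [Nat.xor_comm w v] at h2
        exact (Nat.xor_right_injective h2).symm
      let f : A → U × fixs := fun x => (dg x, ⟨_, hfixmem x⟩)
      have hf : Function.Injective f := by
        intro x y e
        have e1 : dg x = dg y := congrArg Prod.fst e
        have e2 : dv x ^^^ r (dg x) = dv y ^^^ r (dg y) := congrArg Subtype.val (congrArg Prod.snd e)
        rw [e1] at e2
        have e3 := Nat.xor_left_injective e2
        exact Subtype.ext (by rw [hdg x, hdg y, e1, e3])
      refine (Nat.card_le_card_of_injective f hf).trans ?_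
      rw [Nat.card_prod, Nat.card_eq_finsetCard]
    have hWf : fixs.card * W.length ≤ 2048 := by
      have hWnd : W.Nodup := (distinct_nodup hwd).of_map _
      rw [← card_evens, ← List.toFinset_card_of_nodup hWnd, ← Finset.card_product]
      refine Finset.card_le_card_of_injOn (fun p => p.1 ^^^ p.2) ?_ ?_
      · intro p hp
        simp only [Finset.coe_product, Set.mem_prod, Finset.mem_coe, fixs, Finset.mem_filter, mem_evens,
          List.mem_toFinset] at hp ⊢
        exact J4XLowerPair97.inE_xor hp.1.1 (hwE _ hp.2)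
      · rintro ⟨x, w⟩ hx ⟨y, z⟩ hy e
        simp only [Finset.coe_product, Set.mem_prod, Finset.mem_coe, fixs, Finset.mem_filter,
          List.mem_toFinset] at hx hy e
        have e1 := congrArg (moves bs) e
        rw [moves_xor hbgood hx.1.2, moves_xor hbgood hy.1.2] at e1
        obtain rfl := List.inj_on_of_nodup_map (distinct_nodup hwd) hx.2 hy.2 e1
        rw [Nat.xor_left_injective e]
    have h1 : Nat.card U * fixs.card ≤ (sub a).1.length * fixs.card := Nat.mul_le_mul_right _ hUcard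
    rw [hwlen] at hWf
    rw [hcard] at hAcard
    have h2 : fixs.card * (2 * (sub a).1.length) = 2 * ((sub a).1.length * fixs.card) := by ring
    omega

end

theorem hm0 : S0.m eX ≠ 1 := by
  have hx : J4XDe23.setup.m eX = PresentedGroup.mk _ Spor.J4.x := J4XPerm10.m_eX
  exact J4XLower97.m_ne_one _ hx

theorem vpart_eq : vpart S0 = E0 := by
  refine le_antisymm ?_ ((Subgroup.closure_le _).2 ?_)
  · rintro x ⟨v, hv, rfl⟩
    exact Subgroup.subset_closure ⟨v, hv, rfl⟩
  · rintro x ⟨v, hv, rfl⟩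
    exact ⟨v, hv, rfl⟩

/-- The required subgroup. -/
theorem exists_T : ∃ T : Subgroup Cfsg.Spor.J4, T ≤ B0 ∧ E0 ≤ T ∧ Nat.card T = 2 ^ 21 ∧
    ∀ A ≤ T, (∀ a ∈ A, a * a = 1) → Nat.card A = 2 ^ 11 →
      (∀ t ∈ T, ∀ a ∈ A, t * a * t⁻¹ ∈ A) → A = E0 :=
  ⟨T2 S0, T2_le S0, vpart_eq ▸ vpart_le S0, card_T2 S0 hm0, fun A hA h1 h2 h3 =>
    (eq_vpart S0 hm0 A hA h1 h2 h3).trans vpart_eq⟩

end Cfsg.Agent.J4OutSylow13
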