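import Cfsg.Agent.Lib.J4PresGen13

/-! Data deriving the relators of a point stabiliser from the seven relators on two generators. -/

set_option autoImplicit false
set_option maxRecDepth 100000

namespace Cfsg.Agent.J4PresData13

open Cfsg.Agent.J4PresGen13

/-- The seven relators. -/
def rels0 : List (List Nat) :=
  [[0, 0],
   [2, 2, 2],
   [0, 2, 0, 2, 0, 2, 0, 2, 0, 2, 0, 2, 0, 2, 0, 2, 0, 2, 0, 2, 0, 2, 0, 2, 0, 2, 0, 2, 0, 2, 0, 2, 0, 2, 0, 2, 0, 2, 0, 2, 0, 2, 0, 2, 0, 2],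
   [1, 3, 0, 2, 1, 3, 0, 2, 1, 3, 0, 2, 1, 3, 0, 2, 1, 3, 0, 2, 1, 3, 0, 2, 1, 3, 0, 2, 1, 3, 0, 2, 1, 3, 0, 2, 1, 3, 0, 2, 1, 3, 0, 2, 1, 3, 0, 2],
   [1, 3, 1, 3, 0, 2, 0, 2, 1, 3, 1, 3, 0, 2, 0, 2, 1, 3, 1, 3, 0, 2, 0, 2, 1, 3, 1, 3, 0, 2, 0, 2, 1, 3, 1, 3, 0, 2, 0, 2],
   [0, 2, 0, 2, 0, 3, 0, 2, 0, 3, 0, 2, 0, 3, 0, 2, 0, 2, 0, 3, 0, 2, 0, 3, 0, 2, 0, 3, 0, 2, 0, 2, 0, 3, 0, 2, 0, 3, 0, 2, 0, 3, 0, 2, 0, 2, 0, 3, 0, 2, 0, 3, 0, 2, 0, 3],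
   [0, 2, 0, 2, 0, 3, 0, 2, 0, 2, 0, 3, 0, 2, 0, 2, 0, 3, 0, 2, 0, 3, 0, 3, 0, 2, 0, 3, 0, 3, 0, 2, 0, 3, 0, 3]]

/-- Coset representatives. -/
def reps : List (List Nat) :=
  [[],
   [0],
   [2],
   [0, 2],
   [2, 0],
   [2, 2],
   [0, 2, 0],
   [0, 2, 2],
   [2, 2, 0],
   [0, 2, 0, 2],
   [0, 2, 2, 0],
   [0, 2, 0, 2, 0],
   [0, 2, 0, 2, 2],
   [0, 2, 0, 2, 0, 2],
   [0, 2, 0, 2, 2, 0],
   [0, 2, 0, 2, 0, 2, 0],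
   [0, 2, 0, 2, 0, 2, 2],
   [0, 2, 0, 2, 2, 0, 2],
   [0, 2, 0, 2, 0, 2, 0, 2],
   [0, 2, 0, 2, 0, 2, 2, 0],
   [0, 2, 0, 2, 2, 0, 2, 0],
   [0, 2, 0, 2, 2, 0, 2, 2],
   [0, 2, 0, 2, 0, 2, 0, 2, 0],
   [0, 2, 0, 2, 2, 0, 2, 2, 0]]

/-- The Schreier generators as words. -/
def symW : List (List Nat) :=
  [[],
   [],
   [0, 0],
   [],
   [],
   [],
   [],
   [],
   [2, 0, 0, 3],
   [2, 0, 2, 1, 3],
   [],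
   [2, 2, 2],
   [0, 2, 0, 0, 3, 1],
   [],
   [],
   [0, 2, 2, 2, 1],
   [2, 2, 0, 0, 3, 3],
   [2, 2, 0, 2, 1, 3, 3],
   [],
   [],
   [0, 2, 2, 0, 0, 3, 3, 1],
   [0, 2, 2, 0, 2, 1, 3, 3, 1],
   [0, 2, 0, 2, 0, 0, 3, 1, 3, 1],
   [],
   [],
   [0, 2, 0, 2, 2, 2, 1, 3, 1],
   [],
   [],
   [0, 2, 0, 2, 2, 0, 0, 3, 3, 1, 3, 1],
   [],
   [0, 2, 0, 2, 0, 2, 0, 0, 3, 1, 3, 1, 3, 1],
   [],
   [],
   [0, 2, 0, 2, 0, 2, 2, 2, 1, 3, 1, 3, 1],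
   [],
   [],
   [],
   [0, 2, 0, 2, 0, 2, 0, 2, 2, 1, 3, 1, 3, 1, 3, 1, 3, 1],
   [0, 2, 0, 2, 0, 2, 2, 0, 0, 3, 3, 1, 3, 1, 3, 1],
   [0, 2, 0, 2, 0, 2, 2, 0, 2, 1, 3, 3, 1, 3, 1, 3, 1],
   [0, 2, 0, 2, 2, 0, 2, 0, 0, 3, 1, 3, 3, 1, 3, 1],
   [0, 2, 0, 2, 2, 0, 2, 0, 2, 1, 3, 1, 3, 3, 1, 3, 1],
   [],
   [0, 2, 0, 2, 2, 0, 2, 2, 2, 1, 3, 3, 1, 3, 1],
   [0, 2, 0, 2, 0, 2, 0, 2, 0, 0, 3, 1, 3, 1, 3, 1, 3, 1],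
   [0, 2, 0, 2, 0, 2, 0, 2, 0, 2, 1, 3, 1, 3, 1, 3, 1],
   [0, 2, 0, 2, 2, 0, 2, 2, 0, 0, 3, 3, 1, 3, 3, 1, 3, 1],
   [0, 2, 0, 2, 2, 0, 2, 2, 0, 2, 1, 3, 3, 1, 3, 3, 1, 3, 1]]

/-- The numbers of the four chosen generators. -/
def live : List Nat := [9, 17, 39, 45]

/-- Traced relators: coset, relator, word in the Schreier generators. -/
def traced : List (Nat × Nat × List Nat) :=
  [(0, 7, [54]),
   (0, 7, [46]),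
   (0, 7, [36]),
   (0, 7, [68]),
   (0, 7, [10]),
   (0, 7, [12]),
   (0, 7, [52]),
   (0, 7, [84]),
   (0, 7, [2]),
   (0, 7, [26]),
   (0, 7, [58]),
   (0, 7, [64]),
   (0, 7, [6]),
   (0, 7, [8]),
   (0, 7, [48]),
   (0, 7, [72]),
   (0, 7, [20]),
   (0, 7, [38]),
   (0, 7, [0]),
   (0, 7, [70]),
   (0, 7, [62]),
   (0, 7, [28]),
   (0, 7, [14]),
   (0, 0, [0, 4]),
   (2, 0, [8, 16]),
   (3, 0, [12, 24]),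
   (5, 0, [20, 32]),
   (7, 0, [28, 40]),
   (9, 0, [36, 44]),
   (12, 0, [48, 56]),
   (13, 0, [52, 60]),
   (16, 0, [64, 76]),
   (17, 0, [68, 80]),
   (18, 0, [72, 88]),
   (21, 0, [84, 92]),
   (0, 1, [2, 10, 22]),
   (1, 1, [6, 14, 30]),
   (4, 1, [18, 18, 18]),
   (6, 1, [26, 38, 50]),
   (8, 1, [34, 34, 34]),
   (11, 1, [46, 54, 66]),
   (14, 1, [58, 70, 86]),
   (15, 1, [62, 74, 90]),
   (19, 1, [78, 78, 78]),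
   (23, 1, [94, 94, 94]),
   (0, 2, [0, 6, 12, 26, 36, 46, 52, 62, 72, 90, 60, 54, 64, 78, 76, 66, 44, 38, 48, 58, 68, 82, 80, 70, 84, 94, 92, 86, 56, 50, 24, 14, 28, 42, 40, 30, 4, 2, 8, 18, 16, 10, 20, 34, 32, 22]),
   (22, 2, [88, 74, 88, 74, 88, 74, 88, 74, 88, 74, 88, 74, 88, 74, 88, 74, 88, 74, 88, 74, 88, 74, 88, 74, 88, 74, 88, 74, 88, 74, 88, 74, 88, 74, 88, 74, 88, 74, 88, 74, 88, 74, 88, 74, 88, 74]),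
   (0, 3, [5, 31, 28, 42, 29, 15, 12, 26, 45, 67, 64, 78, 65, 55, 52, 62, 89, 75, 72, 90, 53, 47, 44, 38, 57, 87, 84, 94, 85, 71, 68, 82, 69, 59, 56, 50, 13, 7, 4, 2, 17, 19, 16, 10, 33, 35, 32, 22]),
   (0, 4, [5, 31, 41, 43, 40, 30, 4, 2, 17, 19, 9, 3, 0, 6, 12, 26, 45, 67, 77, 79, 76, 66, 44, 38, 57, 87, 93, 95, 92, 86, 56, 50, 13, 7, 1, 23, 20, 34, 32, 22]),
   (5, 4, [33, 35, 21, 11, 8, 18, 16, 10, 33, 35, 21, 11, 8, 18, 16, 10, 33, 35, 21, 11, 8, 18, 16, 10, 33, 35, 21, 11, 8, 18, 16, 10, 33, 35, 21, 11, 8, 18, 16, 10]),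
   (10, 4, [29, 15, 25, 51, 48, 58, 68, 82, 69, 59, 49, 39, 36, 46, 52, 62, 89, 75, 89, 75, 72, 90, 60, 54, 77, 79, 65, 55, 52, 62, 72, 90, 53, 47, 37, 27, 24, 14, 28, 42]),
   (21, 4, [93, 95, 85, 71, 68, 82, 80, 70, 93, 95, 85, 71, 68, 82, 80, 70, 93, 95, 85, 71, 68, 82, 80, 70, 93, 95, 85, 71, 68, 82, 80, 70, 93, 95, 85, 71, 68, 82, 80, 70]),
   (0, 5, [0, 6, 12, 26, 36, 67, 64, 78, 76, 55, 52, 62, 72, 75, 72, 90, 60, 54, 64, 79, 76, 66, 44, 27, 24, 14, 28, 43, 40, 30, 4, 2, 8, 19, 16, 10, 20, 35, 32, 22, 0, 31, 28, 42, 40, 30, 4, 23, 20, 34, 32, 11, 8, 18, 16, 3]),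
   (1, 5, [4, 2, 8, 18, 16, 3, 0, 6, 12, 51, 48, 58, 68, 83, 80, 70, 84, 94, 92, 71, 68, 82, 80, 59, 56, 50, 24, 7, 4, 2, 8, 18, 16, 3, 0, 6, 12, 51, 48, 58, 68, 83, 80, 70, 84, 94, 92, 71, 68, 82, 80, 59, 56, 50, 24, 7]),
   (2, 5, [8, 18, 16, 10, 20, 35, 32, 22, 0, 31, 28, 42, 40, 15, 12, 26, 36, 46, 52, 91, 88, 74, 88, 63, 60, 54, 64, 79, 76, 66, 44, 38, 48, 87, 84, 94, 92, 71, 68, 82, 80, 59, 56, 50, 24, 14, 28, 43, 40, 30, 4, 23, 20, 34, 32, 11]),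
   (4, 5, [16, 10, 20, 34, 32, 11, 8, 18, 16, 3, 0, 6, 12, 51, 48, 58, 68, 82, 80, 59, 56, 50, 24, 7, 4, 2, 8, 19, 16, 10, 20, 34, 32, 11, 8, 18, 16, 3, 0, 6, 12, 51, 48, 58, 68, 82, 80, 59, 56, 50, 24, 7, 4, 2, 8, 19]),
   (5, 5, [20, 34, 32, 22, 0, 31, 28, 42, 40, 15, 12, 26, 36, 67, 64, 78, 76, 66, 44, 27, 24, 14, 28, 43, 40, 30, 4, 23, 20, 34, 32, 22, 0, 31, 28, 42, 40, 15, 12, 26, 36, 67, 64, 78, 76, 66, 44, 27, 24, 14, 28, 43, 40, 30, 4, 23]),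
   (6, 5, [24, 14, 28, 42, 40, 15, 12, 26, 36, 67, 64, 78, 76, 55, 52, 62, 72, 90, 60, 47, 44, 38, 48, 87, 84, 94, 92, 71, 68, 82, 80, 70, 84, 95, 92, 86, 56, 39, 36, 46, 52, 91, 88, 74, 88, 74, 88, 63, 60, 54, 64, 79, 76, 66, 44, 27]),
   (8, 5, [32, 22, 0, 6, 12, 51, 48, 58, 68, 83, 80, 70, 84, 95, 92, 86, 56, 50, 24, 7, 4, 2, 8, 19, 16, 10, 20, 35, 32, 22, 0, 6, 12, 51, 48, 58, 68, 83, 80, 70, 84, 95, 92, 86, 56, 50, 24, 7, 4, 2, 8, 19, 16, 10, 20, 35]),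
   (9, 5, [36, 46, 52, 62, 72, 75, 72, 90, 60, 47, 44, 38, 48, 87, 84, 94, 92, 86, 56, 39, 36, 46, 52, 91, 88, 74, 88, 63, 60, 54, 64, 78, 76, 55, 52, 62, 72, 75, 72, 90, 60, 47, 44, 38, 48, 58, 68, 83, 80, 70, 84, 95, 92, 86, 56, 39]),
   (0, 6, [0, 6, 12, 26, 36, 67, 64, 78, 76, 66, 44, 27, 24, 14, 28, 42, 40, 15, 12, 26, 36, 67, 64, 79, 76, 66, 44, 27, 24, 7, 4, 2, 8, 19, 16, 3]),
   (2, 6, [8, 18, 16, 10, 20, 35, 32, 22, 0, 6, 12, 51, 48, 58, 68, 82, 80, 59, 56, 50, 24, 7, 4, 23, 20, 34, 32, 11, 8, 19, 16, 10, 20, 35, 32, 11]),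
   (5, 6, [20, 34, 32, 22, 0, 31, 28, 42, 40, 30, 4, 23, 20, 34, 32, 22, 0, 31, 28, 42, 40, 15, 12, 51, 48, 58, 68, 83, 80, 59, 56, 50, 24, 7, 4, 23]),
   (12, 6, [48, 58, 68, 82, 80, 59, 56, 50, 24, 14, 28, 43, 40, 30, 4, 2, 8, 19, 16, 10, 20, 35, 32, 11, 8, 18, 16, 3, 0, 31, 28, 42, 40, 15, 12, 51]),
   (13, 6, [52, 62, 72, 90, 60, 47, 44, 38, 48, 58, 68, 83, 80, 70, 84, 94, 92, 71, 68, 82, 80, 59, 56, 39, 36, 46, 52, 91, 88, 63, 60, 54, 64, 79, 76, 55]),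
   (16, 6, [64, 78, 76, 66, 44, 27, 24, 14, 28, 42, 40, 15, 12, 26, 36, 46, 52, 91, 88, 74, 88, 63, 60, 47, 44, 38, 48, 87, 84, 95, 92, 86, 56, 39, 36, 67]),
   (18, 6, [72, 90, 60, 54, 64, 79, 76, 66, 44, 38, 48, 87, 84, 94, 92, 86, 56, 39, 36, 46, 52, 91, 88, 63, 60, 54, 64, 79, 76, 55, 52, 62, 72, 75, 72, 75])]

/-- Derivation steps. -/
def steps0 : List Step :=
  [⟨36, 2, false, 5, 0, true, 0⟩,
   ⟨46, 42, false, 5, 0, true, 0⟩,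
   ⟨48, 44, false, 5, 0, true, 0⟩,
   ⟨50, 4, false, 5, 0, false, 0⟩,
   ⟨71, 4, false, 5, 0, true, 0⟩,
   ⟨72, 4, false, 5, 0, false, 0⟩,
   ⟨73, 4, false, 5, 0, true, 0⟩,
   ⟨74, 4, false, 5, 0, false, 0⟩,
   ⟨75, 4, false, 5, 0, true, 0⟩,
   ⟨76, 4, false, 5, 0, false, 0⟩,
   ⟨77, 4, false, 5, 0, true, 0⟩,
   ⟨78, 4, false, 5, 0, false, 0⟩,
   ⟨79, 4, false, 5, 0, true, 0⟩,
   ⟨53, 36, false, 5, 0, true, 0⟩,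
   ⟨81, 16, false, 5, 0, false, 0⟩,
   ⟨55, 4, false, 5, 0, true, 0⟩,
   ⟨83, 52, false, 5, 0, false, 0⟩,
   ⟨56, 2, false, 5, 0, true, 0⟩,
   ⟨85, 4, false, 5, 0, false, 0⟩,
   ⟨86, 24, false, 5, 0, true, 0⟩,
   ⟨87, 4, false, 5, 0, false, 0⟩,
   ⟨59, 26, false, 5, 0, true, 0⟩,
   ⟨89, 28, false, 5, 0, true, 0⟩,
   ⟨62, 4, false, 5, 0, true, 0⟩,
   ⟨91, 24, false, 5, 0, false, 0⟩,
   ⟨92, 4, false, 5, 0, true, 0⟩,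
   ⟨93, 4, false, 5, 0, false, 0⟩,
   ⟨64, 20, false, 5, 0, true, 0⟩,
   ⟨95, 4, false, 5, 0, false, 0⟩,
   ⟨42, 2, false, 20, 0, true, 0⟩,
   ⟨69, 28, false, 20, 0, true, 0⟩,
   ⟨70, 34, false, 20, 0, false, 0⟩,
   ⟨52, 4, false, 20, 0, false, 0⟩,
   ⟨100, 4, false, 20, 0, true, 0⟩,
   ⟨101, 4, false, 20, 0, false, 0⟩,
   ⟨102, 4, false, 20, 0, true, 0⟩,
   ⟨103, 4, false, 20, 0, false, 0⟩,
   ⟨104, 4, false, 20, 0, true, 0⟩,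
   ⟨105, 4, false, 20, 0, false, 0⟩,
   ⟨106, 4, false, 20, 0, true, 0⟩,
   ⟨107, 4, false, 20, 0, false, 0⟩,
   ⟨108, 4, false, 20, 0, true, 0⟩,
   ⟨54, 16, false, 20, 0, true, 0⟩,
   ⟨110, 4, false, 20, 0, false, 0⟩,
   ⟨111, 24, false, 20, 0, true, 0⟩,
   ⟨112, 4, false, 20, 0, false, 0⟩,
   ⟨84, 37, false, 20, 0, false, 0⟩,
   ⟨58, 28, false, 20, 0, false, 0⟩,
   ⟨115, 4, false, 20, 0, true, 0⟩,
   ⟨90, 14, false, 20, 0, true, 0⟩,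
   ⟨117, 27, false, 20, 0, true, 0⟩,
   ⟨60, 50, false, 20, 0, true, 0⟩,
   ⟨65, 14, false, 20, 0, true, 0⟩,
   ⟨120, 4, false, 20, 0, false, 0⟩,
   ⟨27, 1, false, 17, 0, true, 0⟩,
   ⟨98, 18, false, 17, 0, true, 0⟩,
   ⟨49, 37, false, 17, 0, true, 0⟩,
   ⟨80, 3, false, 17, 0, false, 0⟩,
   ⟨125, 6, false, 17, 0, false, 0⟩,
   ⟨126, 6, false, 17, 0, false, 0⟩,
   ⟨127, 6, false, 17, 0, false, 0⟩,
   ⟨128, 6, false, 17, 0, false, 0⟩,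
   ⟨82, 40, false, 17, 0, true, 0⟩,
   ⟨130, 12, false, 17, 0, true, 0⟩,
   ⟨114, 15, false, 17, 0, true, 0⟩,
   ⟨132, 6, false, 17, 0, true, 0⟩,
   ⟨88, 24, false, 17, 0, true, 0⟩,
   ⟨134, 26, false, 17, 0, true, 0⟩,
   ⟨57, 1, false, 17, 0, true, 0⟩,
   ⟨136, 28, false, 17, 0, true, 0⟩,
   ⟨118, 14, false, 17, 0, true, 0⟩,
   ⟨138, 26, false, 17, 0, true, 0⟩,
   ⟨94, 4, false, 17, 0, true, 0⟩,
   ⟨140, 20, false, 17, 0, true, 0⟩,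
   ⟨141, 6, false, 17, 0, true, 0⟩,
   ⟨63, 1, false, 17, 0, true, 0⟩,
   ⟨143, 12, false, 17, 0, true, 0⟩,
   ⟨96, 32, false, 17, 0, true, 0⟩,
   ⟨19, 0, true, 24, 0, false, 0⟩,
   ⟨14, 0, true, 25, 0, false, 0⟩,
   ⟨6, 0, true, 26, 0, false, 0⟩,
   ⟨22, 0, true, 28, 0, false, 0⟩,
   ⟨3, 0, true, 29, 0, false, 0⟩,
   ⟨15, 0, true, 30, 0, false, 0⟩,
   ⟨7, 0, true, 31, 0, false, 0⟩,
   ⟨12, 0, true, 32, 0, false, 0⟩,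
   ⟨4, 0, true, 33, 0, false, 0⟩,
   ⟨16, 0, true, 34, 0, false, 0⟩,
   ⟨8, 0, true, 35, 0, false, 0⟩,
   ⟨9, 0, true, 68, 1, false, 0⟩,
   ⟨11, 0, true, 97, 1, false, 0⟩,
   ⟨13, 0, true, 37, 0, false, 0⟩,
   ⟨10, 0, true, 39, 0, false, 0⟩,
   ⟨2, 0, true, 41, 0, false, 0⟩,
   ⟨21, 0, true, 43, 0, false, 0⟩,
   ⟨14, 0, true, 129, 0, false, 0⟩,
   ⟨122, 0, true, 142, 1, false, 0⟩,
   ⟨8, 0, false, 109, 2, false, 0⟩,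
   ⟨122, 0, true, 145, 1, false, 0⟩,
   ⟨122, 0, true, 144, 1, false, 0⟩]

/-- Derivation steps. -/
def steps1 : List Step :=
  [⟨4, 0, true, 121, 0, false, 0⟩,
   ⟨19, 0, true, 61, 0, false, 0⟩,
   ⟨12, 0, true, 66, 0, false, 0⟩,
   ⟨16, 0, true, 67, 0, false, 0⟩,
   ⟨122, 0, true, 124, 1, false, 0⟩,
   ⟨22, 0, false, 51, 0, false, 0⟩,
   ⟨122, 0, true, 123, 1, false, 0⟩,
   ⟨4, 0, true, 99, 0, false, 0⟩,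
   ⟨122, 0, true, 135, 1, false, 0⟩,
   ⟨122, 0, true, 139, 1, false, 0⟩,
   ⟨122, 0, true, 133, 1, false, 0⟩,
   ⟨122, 0, true, 131, 1, false, 0⟩,
   ⟨4, 0, true, 113, 0, false, 0⟩,
   ⟨122, 0, true, 137, 1, false, 0⟩,
   ⟨8, 0, true, 116, 0, false, 0⟩,
   ⟨8, 0, true, 119, 0, false, 0⟩,
   ⟨23, 0, true, 159, 0, false, 0⟩,
   ⟨18, 0, true, 160, 0, false, 0⟩,
   ⟨1, 0, true, 161, 0, false, 0⟩,
   ⟨147, 0, true, 163, 1, false, 0⟩,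
   ⟨14, 0, true, 164, 0, false, 0⟩,
   ⟨4, 0, true, 165, 0, false, 0⟩,
   ⟨14, 0, true, 166, 0, false, 0⟩,
   ⟨157, 0, true, 167, 0, false, 0⟩,
   ⟨154, 0, true, 168, 1, false, 0⟩,
   ⟨13, 0, true, 169, 0, false, 0⟩,
   ⟨153, 0, true, 170, 1, false, 0⟩,
   ⟨152, 0, true, 171, 1, false, 0⟩,
   ⟨157, 0, true, 172, 0, false, 0⟩,
   ⟨23, 0, false, 173, 0, false, 0⟩,
   ⟨157, 0, true, 174, 0, false, 0⟩,
   ⟨4, 0, false, 175, 1, false, 0⟩,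
   ⟨155, 0, true, 47, 0, false, 0⟩,
   ⟨14, 0, true, 176, 0, false, 0⟩,
   ⟨157, 0, true, 177, 0, false, 0⟩,
   ⟨157, 0, true, 178, 0, false, 0⟩,
   ⟨14, 0, true, 179, 0, false, 0⟩,
   ⟨154, 0, true, 180, 1, false, 0⟩,
   ⟨157, 0, true, 181, 0, false, 0⟩,
   ⟨156, 0, true, 182, 1, false, 0⟩,
   ⟨156, 0, true, 183, 1, false, 0⟩,
   ⟨122, 0, false, 187, 0, false, 0⟩,
   ⟨147, 0, true, 188, 1, false, 0⟩,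
   ⟨154, 0, true, 189, 1, false, 0⟩,
   ⟨147, 0, true, 190, 1, false, 0⟩,
   ⟨19, 0, true, 191, 0, false, 0⟩,
   ⟨11, 0, false, 192, 0, false, 0⟩,
   ⟨6, 0, true, 193, 0, false, 0⟩,
   ⟨186, 0, true, 194, 0, false, 0⟩,
   ⟨1, 0, true, 195, 0, false, 0⟩,
   ⟨146, 0, false, 196, 0, false, 0⟩,
   ⟨148, 0, false, 197, 0, false, 0⟩,
   ⟨19, 0, true, 198, 0, false, 0⟩,
   ⟨11, 0, false, 199, 0, false, 0⟩,
   ⟨155, 0, true, 200, 1, false, 0⟩,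
   ⟨147, 0, true, 201, 1, false, 0⟩,
   ⟨19, 0, true, 202, 0, false, 0⟩,
   ⟨19, 0, true, 203, 0, false, 0⟩,
   ⟨147, 0, true, 204, 1, false, 0⟩,
   ⟨11, 0, false, 205, 0, false, 0⟩,
   ⟨19, 0, true, 206, 0, false, 0⟩,
   ⟨158, 0, true, 207, 0, false, 0⟩,
   ⟨158, 0, true, 208, 0, false, 0⟩,
   ⟨14, 0, true, 209, 1, false, 0⟩,
   ⟨122, 0, true, 210, 1, false, 0⟩,
   ⟨156, 0, false, 211, 0, false, 0⟩,
   ⟨9, 0, false, 212, 0, false, 0⟩,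
   ⟨184, 0, false, 213, 0, false, 0⟩,
   ⟨151, 0, true, 214, 0, false, 0⟩,
   ⟨10, 0, true, 215, 0, false, 0⟩,
   ⟨150, 0, true, 216, 0, false, 0⟩,
   ⟨12, 0, true, 217, 0, false, 0⟩,
   ⟨184, 0, false, 218, 0, false, 0⟩,
   ⟨185, 0, false, 219, 0, false, 0⟩,
   ⟨13, 0, true, 220, 0, false, 0⟩,
   ⟨151, 0, true, 221, 0, false, 0⟩,
   ⟨155, 0, true, 222, 1, false, 0⟩,
   ⟨9, 0, false, 223, 0, false, 0⟩,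
   ⟨13, 0, true, 224, 0, false, 0⟩,
   ⟨184, 0, false, 225, 0, false, 0⟩,
   ⟨9, 0, false, 226, 0, false, 0⟩,
   ⟨151, 0, true, 227, 0, false, 0⟩,
   ⟨184, 0, false, 228, 0, false, 0⟩,
   ⟨151, 0, true, 229, 0, false, 0⟩,
   ⟨151, 0, true, 230, 0, false, 0⟩,
   ⟨147, 0, true, 231, 1, false, 0⟩,
   ⟨157, 0, true, 232, 0, false, 0⟩,
   ⟨8, 0, false, 233, 1, false, 0⟩,
   ⟨19, 0, true, 234, 0, false, 0⟩,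
   ⟨22, 0, true, 235, 0, false, 0⟩,
   ⟨18, 0, false, 236, 0, false, 0⟩,
   ⟨3, 0, true, 237, 0, false, 0⟩,
   ⟨10, 0, false, 238, 0, false, 0⟩,
   ⟨153, 0, true, 239, 1, false, 0⟩,
   ⟨149, 0, false, 240, 0, false, 0⟩,
   ⟨15, 0, true, 241, 0, false, 0⟩,
   ⟨6, 0, true, 242, 0, false, 0⟩,
   ⟨185, 0, true, 243, 0, false, 0⟩,
   ⟨155, 0, true, 244, 1, false, 0⟩,
   ⟨19, 0, true, 245, 0, false, 0⟩]

/-- Derivation steps. -/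
def steps2 : List Step :=
  [⟨6, 0, true, 246, 0, false, 0⟩,
   ⟨22, 0, true, 247, 0, false, 0⟩,
   ⟨19, 0, true, 248, 0, false, 0⟩,
   ⟨185, 0, true, 249, 0, false, 0⟩,
   ⟨22, 0, true, 250, 0, false, 0⟩,
   ⟨18, 0, false, 251, 0, false, 0⟩,
   ⟨18, 0, false, 252, 0, false, 0⟩,
   ⟨122, 0, false, 253, 0, false, 0⟩,
   ⟨19, 0, true, 254, 0, false, 0⟩,
   ⟨4, 0, true, 255, 0, false, 0⟩,
   ⟨184, 0, false, 256, 0, false, 0⟩,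
   ⟨149, 0, true, 257, 1, false, 0⟩,
   ⟨3, 0, true, 258, 0, false, 0⟩,
   ⟨186, 0, false, 259, 0, false, 0⟩,
   ⟨148, 0, true, 260, 0, false, 0⟩,
   ⟨186, 0, true, 261, 0, false, 0⟩,
   ⟨149, 0, true, 262, 1, false, 0⟩,
   ⟨11, 0, true, 263, 0, false, 0⟩,
   ⟨10, 0, true, 264, 0, false, 0⟩,
   ⟨6, 0, false, 265, 0, false, 0⟩,
   ⟨155, 0, true, 266, 1, false, 0⟩,
   ⟨13, 0, true, 267, 0, false, 0⟩,
   ⟨185, 0, false, 268, 0, false, 0⟩,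
   ⟨149, 0, true, 269, 1, false, 0⟩,
   ⟨13, 0, true, 270, 0, false, 0⟩,
   ⟨148, 0, true, 271, 0, false, 0⟩,
   ⟨149, 0, true, 272, 1, false, 0⟩,
   ⟨3, 0, true, 273, 0, false, 0⟩,
   ⟨3, 0, true, 274, 0, false, 0⟩,
   ⟨14, 0, true, 275, 1, false, 0⟩,
   ⟨13, 0, true, 276, 0, false, 0⟩,
   ⟨154, 0, true, 277, 1, false, 0⟩,
   ⟨22, 0, true, 278, 0, false, 0⟩,
   ⟨23, 0, false, 279, 0, false, 0⟩,
   ⟨2, 0, true, 280, 0, false, 0⟩,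
   ⟨12, 0, true, 281, 0, false, 0⟩,
   ⟨23, 0, true, 282, 0, false, 0⟩,
   ⟨150, 0, true, 283, 0, false, 0⟩,
   ⟨184, 0, true, 284, 0, false, 0⟩,
   ⟨4, 0, true, 285, 0, false, 0⟩,
   ⟨3, 0, true, 286, 0, false, 0⟩,
   ⟨13, 0, false, 287, 0, false, 0⟩,
   ⟨155, 0, true, 288, 1, false, 0⟩,
   ⟨6, 0, true, 289, 0, false, 0⟩,
   ⟨15, 0, true, 290, 0, false, 0⟩,
   ⟨23, 0, false, 291, 0, false, 0⟩,
   ⟨6, 0, true, 292, 0, false, 0⟩,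
   ⟨13, 0, false, 293, 0, false, 0⟩,
   ⟨23, 0, false, 294, 0, false, 0⟩,
   ⟨2, 0, true, 295, 0, false, 0⟩,
   ⟨2, 0, true, 296, 0, false, 0⟩,
   ⟨147, 0, true, 297, 1, false, 0⟩,
   ⟨6, 0, true, 298, 0, false, 0⟩,
   ⟨156, 0, false, 299, 0, false, 0⟩,
   ⟨149, 0, true, 300, 1, false, 0⟩,
   ⟨6, 0, true, 301, 0, false, 0⟩,
   ⟨7, 0, true, 302, 0, false, 0⟩,
   ⟨153, 0, true, 303, 1, false, 0⟩,
   ⟨22, 0, true, 304, 0, false, 0⟩,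
   ⟨18, 0, true, 305, 0, false, 0⟩,
   ⟨146, 0, true, 306, 0, false, 0⟩,
   ⟨4, 0, false, 307, 1, false, 0⟩,
   ⟨2, 0, true, 308, 0, false, 0⟩,
   ⟨146, 0, true, 309, 0, false, 0⟩,
   ⟨155, 0, true, 310, 1, false, 0⟩,
   ⟨185, 0, false, 311, 0, false, 0⟩,
   ⟨11, 0, true, 312, 0, false, 0⟩,
   ⟨6, 0, true, 313, 0, false, 0⟩,
   ⟨10, 0, true, 314, 0, false, 0⟩,
   ⟨146, 0, true, 315, 0, false, 0⟩,
   ⟨6, 0, true, 316, 0, false, 0⟩,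
   ⟨7, 0, true, 317, 0, false, 0⟩,
   ⟨7, 0, true, 318, 0, false, 0⟩,
   ⟨122, 0, false, 319, 0, false, 0⟩,
   ⟨185, 0, false, 320, 0, false, 0⟩,
   ⟨8, 0, false, 321, 1, false, 0⟩,
   ⟨23, 0, false, 322, 0, false, 0⟩,
   ⟨185, 0, false, 323, 0, false, 0⟩,
   ⟨155, 0, true, 324, 1, false, 0⟩,
   ⟨186, 0, true, 325, 0, false, 0⟩,
   ⟨149, 0, true, 326, 1, false, 0⟩,
   ⟨15, 0, true, 327, 0, false, 0⟩,
   ⟨9, 0, true, 328, 0, false, 0⟩,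
   ⟨11, 0, false, 329, 0, false, 0⟩,
   ⟨7, 0, true, 330, 0, false, 0⟩,
   ⟨9, 0, true, 331, 0, false, 0⟩,
   ⟨155, 0, true, 332, 1, false, 0⟩,
   ⟨15, 0, true, 333, 0, false, 0⟩,
   ⟨4, 0, true, 334, 0, false, 0⟩,
   ⟨10, 0, true, 335, 0, false, 0⟩,
   ⟨3, 0, true, 336, 0, false, 0⟩,
   ⟨9, 0, true, 337, 0, false, 0⟩,
   ⟨10, 0, true, 338, 0, false, 0⟩,
   ⟨155, 0, true, 339, 1, false, 0⟩,
   ⟨21, 0, true, 340, 0, false, 0⟩,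
   ⟨14, 0, true, 341, 1, false, 0⟩,
   ⟨15, 0, true, 342, 0, false, 0⟩,
   ⟨4, 0, true, 343, 0, false, 0⟩,
   ⟨6, 0, true, 344, 0, false, 0⟩,
   ⟨15, 0, true, 345, 0, false, 0⟩]

/-- Derivation steps. -/
def steps3 : List Step :=
  [⟨21, 0, false, 346, 0, false, 0⟩,
   ⟨150, 0, true, 347, 0, false, 0⟩,
   ⟨23, 0, false, 348, 0, false, 0⟩,
   ⟨158, 0, false, 349, 0, false, 0⟩,
   ⟨147, 0, false, 350, 0, false, 0⟩,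
   ⟨15, 0, false, 351, 0, false, 0⟩,
   ⟨21, 0, true, 352, 0, false, 0⟩,
   ⟨147, 0, false, 353, 0, false, 0⟩,
   ⟨155, 0, true, 354, 1, false, 0⟩,
   ⟨11, 0, true, 355, 0, false, 0⟩,
   ⟨154, 0, true, 356, 1, false, 0⟩,
   ⟨3, 0, true, 357, 0, false, 0⟩,
   ⟨186, 0, false, 358, 0, false, 0⟩,
   ⟨14, 0, true, 359, 0, false, 0⟩,
   ⟨3, 0, true, 360, 0, false, 0⟩,
   ⟨155, 0, true, 361, 1, false, 0⟩,
   ⟨16, 0, true, 362, 0, false, 0⟩,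
   ⟨147, 0, true, 363, 1, false, 0⟩,
   ⟨11, 0, true, 364, 0, false, 0⟩,
   ⟨154, 0, true, 365, 1, false, 0⟩,
   ⟨185, 0, false, 366, 0, false, 0⟩,
   ⟨11, 0, true, 367, 0, false, 0⟩,
   ⟨152, 0, true, 368, 0, false, 0⟩,
   ⟨10, 0, false, 369, 0, false, 0⟩,
   ⟨6, 0, true, 370, 0, false, 0⟩,
   ⟨8, 0, true, 371, 0, false, 0⟩,
   ⟨14, 0, false, 372, 1, false, 0⟩,
   ⟨18, 0, false, 373, 0, false, 0⟩,
   ⟨16, 0, true, 374, 0, false, 0⟩,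
   ⟨147, 0, true, 375, 1, false, 0⟩,
   ⟨155, 0, true, 376, 1, false, 0⟩,
   ⟨4, 0, true, 377, 0, false, 0⟩,
   ⟨8, 0, true, 378, 0, false, 0⟩,
   ⟨2, 0, true, 379, 0, false, 0⟩,
   ⟨12, 0, true, 380, 0, false, 0⟩,
   ⟨147, 0, true, 381, 1, false, 0⟩,
   ⟨186, 0, false, 382, 0, false, 0⟩,
   ⟨155, 0, true, 383, 1, false, 0⟩,
   ⟨16, 0, true, 384, 1, false, 0⟩,
   ⟨122, 0, false, 385, 0, false, 0⟩,
   ⟨4, 0, true, 386, 0, false, 0⟩,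
   ⟨156, 0, false, 387, 0, false, 0⟩,
   ⟨15, 0, true, 388, 0, false, 0⟩,
   ⟨4, 0, true, 389, 0, false, 0⟩,
   ⟨1, 0, true, 390, 0, false, 0⟩,
   ⟨148, 0, true, 391, 0, false, 0⟩,
   ⟨10, 0, true, 392, 0, false, 0⟩,
   ⟨156, 0, true, 393, 1, false, 0⟩,
   ⟨9, 0, false, 394, 0, false, 0⟩,
   ⟨3, 0, true, 395, 0, false, 0⟩,
   ⟨152, 0, true, 396, 1, false, 0⟩,
   ⟨122, 0, false, 397, 0, false, 0⟩,
   ⟨155, 0, true, 398, 1, false, 0⟩,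
   ⟨154, 0, true, 399, 1, false, 0⟩,
   ⟨156, 0, true, 400, 1, false, 0⟩,
   ⟨7, 0, true, 401, 0, false, 0⟩,
   ⟨153, 0, true, 402, 1, false, 0⟩,
   ⟨9, 0, false, 403, 0, false, 0⟩,
   ⟨12, 0, true, 404, 0, false, 0⟩,
   ⟨21, 0, false, 405, 0, false, 0⟩,
   ⟨152, 0, true, 406, 1, false, 0⟩,
   ⟨14, 0, true, 407, 1, false, 0⟩,
   ⟨154, 0, true, 408, 1, false, 0⟩,
   ⟨8, 0, false, 409, 1, false, 0⟩,
   ⟨11, 0, true, 410, 0, false, 0⟩,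
   ⟨154, 0, true, 411, 1, false, 0⟩,
   ⟨12, 0, true, 412, 0, false, 0⟩,
   ⟨23, 0, true, 413, 0, false, 0⟩,
   ⟨3, 0, true, 414, 0, false, 0⟩,
   ⟨158, 0, true, 415, 0, false, 0⟩,
   ⟨19, 0, true, 416, 0, false, 0⟩,
   ⟨2, 0, true, 417, 0, false, 0⟩,
   ⟨1, 0, true, 418, 0, false, 0⟩,
   ⟨122, 0, true, 419, 1, false, 0⟩,
   ⟨155, 0, true, 420, 1, false, 0⟩,
   ⟨11, 0, false, 421, 0, false, 0⟩,
   ⟨158, 0, true, 422, 0, false, 0⟩,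
   ⟨155, 0, true, 423, 1, false, 0⟩,
   ⟨1, 0, false, 424, 0, false, 0⟩,
   ⟨19, 0, true, 425, 0, false, 0⟩,
   ⟨153, 0, true, 426, 1, false, 0⟩,
   ⟨152, 0, true, 427, 0, false, 0⟩,
   ⟨2, 0, false, 428, 0, false, 0⟩,
   ⟨147, 0, true, 429, 1, false, 0⟩,
   ⟨11, 0, false, 430, 0, false, 0⟩,
   ⟨4, 0, true, 431, 0, false, 0⟩,
   ⟨4, 0, true, 432, 0, false, 0⟩,
   ⟨11, 0, false, 433, 0, false, 0⟩,
   ⟨153, 0, true, 434, 1, false, 0⟩,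
   ⟨22, 0, true, 435, 0, false, 0⟩,
   ⟨2, 0, true, 436, 0, false, 0⟩,
   ⟨151, 0, true, 437, 0, false, 0⟩,
   ⟨13, 0, true, 438, 0, false, 0⟩,
   ⟨7, 0, true, 439, 0, false, 0⟩,
   ⟨12, 0, true, 440, 0, false, 0⟩,
   ⟨157, 0, true, 441, 0, false, 0⟩,
   ⟨155, 0, true, 442, 1, false, 0⟩,
   ⟨151, 0, true, 443, 0, false, 0⟩,
   ⟨151, 0, true, 444, 0, false, 0⟩,
   ⟨155, 0, true, 445, 1, false, 0⟩]

/-- Derivation steps. -/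
def steps4 : List Step :=
  [⟨7, 0, true, 446, 0, false, 0⟩,
   ⟨13, 0, true, 447, 0, false, 0⟩,
   ⟨186, 0, true, 448, 0, false, 0⟩,
   ⟨1, 0, true, 449, 0, false, 0⟩,
   ⟨150, 0, true, 450, 0, false, 0⟩,
   ⟨122, 0, false, 451, 0, false, 0⟩,
   ⟨151, 0, true, 452, 0, false, 0⟩,
   ⟨154, 0, true, 453, 1, false, 0⟩,
   ⟨154, 0, true, 454, 1, false, 0⟩,
   ⟨151, 0, true, 455, 0, false, 0⟩,
   ⟨1, 0, false, 456, 0, false, 0⟩,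
   ⟨149, 0, true, 457, 1, false, 0⟩,
   ⟨7, 0, true, 458, 0, false, 0⟩,
   ⟨18, 0, false, 459, 0, false, 0⟩,
   ⟨6, 0, true, 460, 0, false, 0⟩,
   ⟨21, 0, true, 461, 0, false, 0⟩,
   ⟨153, 0, true, 462, 1, false, 0⟩,
   ⟨146, 0, false, 463, 0, false, 0⟩,
   ⟨155, 0, true, 464, 1, false, 0⟩,
   ⟨185, 0, true, 465, 0, false, 0⟩,
   ⟨185, 0, true, 466, 0, false, 0⟩,
   ⟨21, 0, false, 467, 0, false, 0⟩,
   ⟨21, 0, true, 468, 0, false, 0⟩,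
   ⟨6, 0, true, 469, 0, false, 0⟩,
   ⟨150, 0, true, 470, 0, false, 0⟩,
   ⟨12, 0, true, 471, 0, false, 0⟩,
   ⟨18, 0, true, 472, 0, false, 0⟩,
   ⟨185, 0, true, 474, 0, false, 0⟩,
   ⟨156, 0, false, 475, 0, false, 0⟩,
   ⟨11, 0, false, 476, 0, false, 0⟩,
   ⟨185, 0, true, 477, 0, false, 0⟩,
   ⟨7, 0, true, 478, 0, false, 0⟩,
   ⟨23, 0, false, 479, 0, false, 0⟩,
   ⟨155, 0, true, 480, 1, false, 0⟩,
   ⟨3, 0, true, 481, 0, false, 0⟩,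
   ⟨10, 0, true, 482, 0, false, 0⟩,
   ⟨155, 0, false, 483, 0, false, 0⟩,
   ⟨186, 0, true, 484, 0, false, 0⟩,
   ⟨184, 0, false, 485, 0, false, 0⟩,
   ⟨155, 0, true, 486, 1, false, 0⟩,
   ⟨148, 0, true, 487, 0, false, 0⟩,
   ⟨148, 0, true, 488, 0, false, 0⟩,
   ⟨152, 0, true, 489, 0, false, 0⟩,
   ⟨16, 0, true, 490, 0, false, 0⟩,
   ⟨185, 0, false, 491, 0, false, 0⟩,
   ⟨10, 0, false, 492, 0, false, 0⟩,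
   ⟨153, 0, true, 493, 1, false, 0⟩,
   ⟨15, 0, true, 494, 0, false, 0⟩,
   ⟨148, 0, true, 495, 0, false, 0⟩,
   ⟨8, 0, false, 496, 1, false, 0⟩,
   ⟨151, 0, true, 497, 0, false, 0⟩,
   ⟨148, 0, true, 498, 0, false, 0⟩,
   ⟨21, 0, true, 499, 0, false, 0⟩,
   ⟨6, 0, true, 500, 0, false, 0⟩,
   ⟨155, 0, true, 501, 1, false, 0⟩,
   ⟨2, 0, true, 502, 0, false, 0⟩,
   ⟨150, 0, false, 503, 0, false, 0⟩,
   ⟨155, 0, false, 504, 1, false, 0⟩,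
   ⟨150, 0, true, 505, 0, false, 0⟩,
   ⟨22, 0, true, 506, 0, false, 0⟩,
   ⟨155, 0, true, 507, 1, false, 0⟩,
   ⟨13, 0, false, 508, 0, false, 0⟩,
   ⟨13, 0, false, 509, 0, false, 0⟩,
   ⟨1, 0, true, 510, 0, false, 0⟩,
   ⟨16, 0, true, 511, 1, false, 0⟩,
   ⟨15, 0, true, 512, 0, false, 0⟩,
   ⟨148, 0, true, 513, 0, false, 0⟩,
   ⟨186, 0, true, 514, 0, false, 0⟩,
   ⟨158, 0, false, 515, 0, false, 0⟩,
   ⟨13, 0, false, 516, 0, false, 0⟩,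
   ⟨4, 0, true, 517, 0, false, 0⟩,
   ⟨185, 0, true, 518, 0, false, 0⟩,
   ⟨13, 0, false, 519, 0, false, 0⟩,
   ⟨16, 0, true, 520, 0, false, 0⟩,
   ⟨10, 0, true, 521, 0, false, 0⟩,
   ⟨21, 0, false, 522, 0, false, 0⟩,
   ⟨7, 0, true, 523, 0, false, 0⟩,
   ⟨186, 0, false, 524, 0, false, 0⟩,
   ⟨16, 0, true, 525, 1, false, 0⟩,
   ⟨18, 0, true, 526, 0, false, 0⟩,
   ⟨22, 0, false, 527, 1, false, 0⟩,
   ⟨155, 0, true, 528, 1, false, 0⟩,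
   ⟨146, 0, true, 529, 0, false, 0⟩,
   ⟨146, 0, true, 530, 0, false, 0⟩,
   ⟨12, 0, true, 531, 0, false, 0⟩,
   ⟨152, 0, true, 532, 1, false, 0⟩,
   ⟨11, 0, true, 533, 0, false, 0⟩,
   ⟨23, 0, true, 534, 0, false, 0⟩,
   ⟨150, 0, true, 535, 0, false, 0⟩,
   ⟨8, 0, true, 536, 0, false, 0⟩,
   ⟨146, 0, true, 537, 0, false, 0⟩,
   ⟨154, 0, true, 538, 1, false, 0⟩,
   ⟨148, 0, true, 539, 0, false, 0⟩,
   ⟨146, 0, true, 540, 0, false, 0⟩,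
   ⟨152, 0, true, 541, 1, false, 0⟩,
   ⟨3, 0, true, 542, 0, false, 0⟩,
   ⟨152, 0, true, 543, 0, false, 0⟩,
   ⟨155, 0, true, 544, 1, false, 0⟩,
   ⟨153, 0, false, 545, 0, false, 0⟩,
   ⟨152, 0, true, 546, 1, false, 0⟩]

/-- Derivation steps. -/
def steps5 : List Step :=
  [⟨15, 0, true, 547, 0, false, 0⟩,
   ⟨23, 0, false, 548, 0, false, 0⟩,
   ⟨155, 0, true, 549, 1, false, 0⟩,
   ⟨9, 0, true, 550, 0, false, 0⟩,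
   ⟨9, 0, true, 551, 0, false, 0⟩,
   ⟨153, 0, true, 552, 1, false, 0⟩,
   ⟨1, 0, true, 553, 0, false, 0⟩,
   ⟨4, 0, true, 554, 0, false, 0⟩,
   ⟨22, 0, true, 555, 0, false, 0⟩,
   ⟨10, 0, false, 556, 0, false, 0⟩,
   ⟨156, 0, true, 557, 1, false, 0⟩,
   ⟨157, 0, false, 558, 0, false, 0⟩,
   ⟨156, 0, false, 559, 0, false, 0⟩,
   ⟨23, 0, true, 560, 0, false, 0⟩,
   ⟨157, 0, false, 561, 0, false, 0⟩,
   ⟨2, 0, false, 562, 0, false, 0⟩,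
   ⟨186, 0, false, 563, 0, false, 0⟩,
   ⟨2, 0, false, 564, 0, false, 0⟩,
   ⟨21, 0, false, 565, 0, false, 0⟩,
   ⟨153, 0, true, 566, 1, false, 0⟩,
   ⟨1, 0, true, 567, 0, false, 0⟩,
   ⟨11, 0, true, 568, 0, false, 0⟩,
   ⟨6, 0, true, 569, 0, false, 0⟩,
   ⟨155, 0, true, 570, 1, false, 0⟩,
   ⟨14, 0, true, 571, 0, false, 0⟩,
   ⟨14, 0, true, 572, 0, false, 0⟩,
   ⟨186, 0, true, 573, 0, false, 0⟩,
   ⟨12, 0, true, 574, 0, false, 0⟩,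
   ⟨154, 0, true, 575, 1, false, 0⟩,
   ⟨149, 0, true, 576, 1, false, 0⟩,
   ⟨148, 0, true, 577, 0, false, 0⟩,
   ⟨158, 0, true, 578, 0, false, 0⟩,
   ⟨122, 0, true, 579, 1, false, 0⟩,
   ⟨22, 0, true, 581, 0, false, 0⟩,
   ⟨122, 0, true, 582, 1, false, 0⟩,
   ⟨150, 0, true, 583, 0, false, 0⟩,
   ⟨12, 0, true, 584, 0, false, 0⟩,
   ⟨150, 0, true, 585, 0, false, 0⟩,
   ⟨152, 0, true, 586, 0, false, 0⟩,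
   ⟨186, 0, true, 587, 0, false, 0⟩,
   ⟨153, 0, false, 588, 0, false, 0⟩,
   ⟨4, 0, true, 589, 0, false, 0⟩,
   ⟨10, 0, true, 590, 0, false, 0⟩,
   ⟨155, 0, true, 591, 1, false, 0⟩,
   ⟨147, 0, true, 592, 1, false, 0⟩,
   ⟨147, 0, true, 593, 1, false, 0⟩,
   ⟨150, 0, true, 594, 0, false, 0⟩,
   ⟨153, 0, true, 595, 1, false, 0⟩,
   ⟨8, 0, true, 596, 0, false, 0⟩,
   ⟨184, 0, true, 597, 0, false, 0⟩,
   ⟨23, 0, true, 598, 0, false, 0⟩,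
   ⟨151, 0, true, 599, 0, false, 0⟩,
   ⟨14, 0, true, 600, 0, false, 0⟩,
   ⟨149, 0, true, 601, 1, false, 0⟩,
   ⟨157, 0, true, 602, 0, false, 0⟩,
   ⟨18, 0, true, 603, 0, false, 0⟩,
   ⟨153, 0, true, 604, 1, false, 0⟩,
   ⟨18, 0, true, 605, 0, false, 0⟩,
   ⟨1, 0, true, 606, 0, false, 0⟩,
   ⟨150, 0, true, 607, 0, false, 0⟩,
   ⟨12, 0, false, 608, 1, false, 0⟩,
   ⟨154, 0, true, 609, 1, false, 0⟩,
   ⟨150, 0, false, 610, 0, false, 0⟩,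
   ⟨155, 0, true, 611, 1, false, 0⟩,
   ⟨122, 0, true, 612, 1, false, 0⟩,
   ⟨122, 0, true, 613, 1, false, 0⟩,
   ⟨18, 0, true, 614, 0, false, 0⟩,
   ⟨186, 0, true, 615, 0, false, 0⟩,
   ⟨156, 0, true, 616, 1, false, 0⟩,
   ⟨146, 0, true, 617, 0, false, 0⟩,
   ⟨22, 0, true, 618, 0, false, 0⟩,
   ⟨18, 0, false, 619, 0, false, 0⟩,
   ⟨147, 0, true, 620, 1, false, 0⟩,
   ⟨184, 0, true, 621, 0, false, 0⟩,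
   ⟨19, 0, true, 622, 0, false, 0⟩,
   ⟨15, 0, true, 623, 0, false, 0⟩,
   ⟨186, 0, true, 624, 0, false, 0⟩,
   ⟨15, 0, true, 625, 0, false, 0⟩,
   ⟨12, 0, true, 626, 0, false, 0⟩,
   ⟨18, 0, true, 627, 0, false, 0⟩,
   ⟨1, 0, false, 628, 0, false, 0⟩,
   ⟨8, 0, true, 629, 0, false, 0⟩,
   ⟨186, 0, false, 630, 0, false, 0⟩,
   ⟨155, 0, true, 631, 1, false, 0⟩,
   ⟨14, 0, true, 632, 0, false, 0⟩,
   ⟨157, 0, true, 633, 0, false, 0⟩,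
   ⟨15, 0, true, 634, 0, false, 0⟩,
   ⟨150, 0, true, 635, 0, false, 0⟩,
   ⟨4, 0, true, 636, 0, false, 0⟩,
   ⟨157, 0, false, 637, 0, false, 0⟩,
   ⟨149, 0, true, 638, 1, false, 0⟩,
   ⟨3, 0, true, 639, 0, false, 0⟩,
   ⟨146, 0, true, 641, 0, false, 0⟩,
   ⟨184, 0, false, 642, 0, false, 0⟩,
   ⟨11, 0, true, 643, 0, false, 0⟩,
   ⟨150, 0, true, 644, 0, false, 0⟩,
   ⟨158, 0, false, 645, 0, false, 0⟩,
   ⟨153, 0, true, 646, 1, false, 0⟩,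
   ⟨151, 0, false, 647, 0, false, 0⟩,
   ⟨7, 0, true, 648, 0, false, 0⟩]

/-- Derivation steps. -/
def steps6 : List Step :=
  [⟨156, 0, true, 649, 1, false, 0⟩,
   ⟨12, 0, true, 650, 0, false, 0⟩,
   ⟨155, 0, true, 651, 1, false, 0⟩,
   ⟨147, 0, true, 652, 1, false, 0⟩,
   ⟨19, 0, true, 653, 0, false, 0⟩,
   ⟨158, 0, false, 654, 0, false, 0⟩,
   ⟨10, 0, false, 655, 0, false, 0⟩,
   ⟨154, 0, true, 656, 1, false, 0⟩,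
   ⟨122, 0, true, 657, 1, false, 0⟩,
   ⟨23, 0, false, 658, 0, false, 0⟩,
   ⟨2, 0, true, 659, 0, false, 0⟩,
   ⟨9, 0, true, 660, 0, false, 0⟩,
   ⟨22, 0, true, 661, 0, false, 0⟩,
   ⟨4, 0, true, 662, 0, false, 0⟩,
   ⟨10, 0, false, 663, 0, false, 0⟩,
   ⟨8, 0, true, 664, 0, false, 0⟩,
   ⟨1, 0, false, 665, 0, false, 0⟩,
   ⟨158, 0, false, 666, 0, false, 0⟩,
   ⟨21, 0, true, 667, 0, false, 0⟩,
   ⟨158, 0, true, 668, 0, false, 0⟩,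
   ⟨12, 0, false, 669, 1, false, 0⟩,
   ⟨9, 0, false, 671, 0, false, 0⟩,
   ⟨13, 0, true, 672, 0, false, 0⟩,
   ⟨8, 0, true, 673, 0, false, 0⟩,
   ⟨148, 0, true, 674, 0, false, 0⟩,
   ⟨11, 0, false, 675, 0, false, 0⟩,
   ⟨157, 0, true, 676, 0, false, 0⟩,
   ⟨6, 0, true, 677, 0, false, 0⟩,
   ⟨7, 0, true, 678, 0, false, 0⟩,
   ⟨14, 0, true, 679, 0, false, 0⟩,
   ⟨149, 0, true, 680, 1, false, 0⟩,
   ⟨154, 0, true, 681, 1, false, 0⟩,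
   ⟨148, 0, true, 682, 0, false, 0⟩,
   ⟨156, 0, true, 683, 1, false, 0⟩,
   ⟨7, 0, true, 684, 0, false, 0⟩,
   ⟨156, 0, false, 685, 0, false, 0⟩,
   ⟨16, 0, true, 686, 0, false, 0⟩,
   ⟨151, 0, true, 687, 0, false, 0⟩,
   ⟨1, 0, false, 688, 0, false, 0⟩,
   ⟨19, 0, true, 689, 0, false, 0⟩,
   ⟨6, 0, true, 690, 0, false, 0⟩,
   ⟨156, 0, true, 691, 1, false, 0⟩,
   ⟨23, 0, true, 692, 0, false, 0⟩,
   ⟨151, 0, true, 693, 0, false, 0⟩,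
   ⟨19, 0, true, 694, 0, false, 0⟩,
   ⟨10, 0, true, 695, 0, false, 0⟩,
   ⟨155, 0, true, 696, 1, false, 0⟩,
   ⟨147, 0, true, 697, 1, false, 0⟩,
   ⟨184, 0, true, 698, 0, false, 0⟩,
   ⟨8, 0, true, 699, 0, false, 0⟩,
   ⟨13, 0, false, 700, 0, false, 0⟩,
   ⟨158, 0, true, 701, 0, false, 0⟩,
   ⟨21, 0, true, 702, 0, false, 0⟩,
   ⟨156, 0, true, 703, 1, false, 0⟩,
   ⟨7, 0, false, 704, 1, false, 0⟩,
   ⟨185, 0, true, 705, 0, false, 0⟩,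
   ⟨7, 0, true, 706, 0, false, 0⟩,
   ⟨13, 0, true, 707, 0, false, 0⟩,
   ⟨185, 0, false, 708, 0, false, 0⟩,
   ⟨4, 0, true, 709, 0, false, 0⟩,
   ⟨22, 0, true, 710, 0, false, 0⟩,
   ⟨185, 0, true, 711, 0, false, 0⟩,
   ⟨184, 0, false, 712, 0, false, 0⟩,
   ⟨3, 0, true, 713, 0, false, 0⟩,
   ⟨155, 0, true, 714, 1, false, 0⟩,
   ⟨146, 0, true, 716, 0, false, 0⟩,
   ⟨156, 0, true, 717, 1, false, 0⟩,
   ⟨146, 0, true, 718, 0, false, 0⟩,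
   ⟨151, 0, true, 719, 0, false, 0⟩,
   ⟨16, 0, true, 720, 0, false, 0⟩,
   ⟨158, 0, true, 721, 0, false, 0⟩,
   ⟨2, 0, false, 722, 0, false, 0⟩,
   ⟨148, 0, true, 723, 0, false, 0⟩,
   ⟨21, 0, true, 724, 0, false, 0⟩,
   ⟨6, 0, true, 725, 0, false, 0⟩,
   ⟨15, 0, true, 726, 0, false, 0⟩,
   ⟨154, 0, true, 727, 1, false, 0⟩,
   ⟨149, 0, true, 728, 1, false, 0⟩,
   ⟨148, 0, true, 729, 0, false, 0⟩,
   ⟨22, 0, true, 730, 0, false, 0⟩,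
   ⟨186, 0, false, 731, 0, false, 0⟩,
   ⟨21, 0, false, 732, 0, false, 0⟩,
   ⟨157, 0, false, 733, 0, false, 0⟩,
   ⟨9, 0, true, 735, 0, false, 0⟩,
   ⟨18, 0, false, 736, 0, false, 0⟩,
   ⟨16, 0, true, 737, 1, false, 0⟩,
   ⟨151, 0, true, 738, 0, false, 0⟩,
   ⟨3, 0, false, 739, 0, false, 0⟩,
   ⟨23, 0, true, 740, 0, false, 0⟩,
   ⟨155, 0, false, 741, 0, false, 0⟩,
   ⟨185, 0, false, 742, 0, false, 0⟩,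
   ⟨11, 0, true, 743, 0, false, 0⟩,
   ⟨11, 0, false, 744, 0, false, 0⟩,
   ⟨184, 0, true, 745, 0, false, 0⟩,
   ⟨13, 0, false, 746, 0, false, 0⟩,
   ⟨149, 0, true, 747, 1, false, 0⟩,
   ⟨12, 0, true, 748, 0, false, 0⟩,
   ⟨152, 0, true, 749, 0, false, 0⟩,
   ⟨14, 0, true, 751, 0, false, 0⟩,
   ⟨3, 0, true, 752, 0, false, 0⟩]

/-- Derivation steps. -/
def steps7 : List Step :=
  [⟨185, 0, true, 754, 0, false, 0⟩,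
   ⟨10, 0, false, 755, 0, false, 0⟩,
   ⟨22, 0, true, 756, 0, false, 0⟩,
   ⟨16, 0, true, 757, 1, false, 0⟩,
   ⟨15, 0, true, 758, 0, false, 0⟩,
   ⟨4, 0, true, 759, 0, false, 0⟩,
   ⟨151, 0, true, 760, 0, false, 0⟩,
   ⟨146, 0, true, 761, 0, false, 0⟩,
   ⟨146, 0, true, 762, 0, false, 0⟩,
   ⟨23, 0, false, 763, 0, false, 0⟩,
   ⟨153, 0, true, 764, 1, false, 0⟩,
   ⟨1, 0, true, 765, 0, false, 0⟩,
   ⟨770, 4, false, 146, 0, true, 0⟩,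
   ⟨772, 10, false, 146, 0, true, 0⟩,
   ⟨773, 11, false, 146, 0, true, 0⟩,
   ⟨774, 8, false, 146, 0, true, 0⟩,
   ⟨775, 14, false, 146, 0, true, 0⟩,
   ⟨777, 17, false, 146, 0, true, 0⟩,
   ⟨780, 11, false, 149, 0, true, 0⟩,
   ⟨783, 19, false, 149, 0, true, 0⟩,
   ⟨784, 20, false, 149, 0, true, 0⟩,
   ⟨785, 22, false, 149, 0, true, 0⟩,
   ⟨786, 1, false, 184, 0, true, 0⟩,
   ⟨787, 1, false, 184, 0, true, 0⟩,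
   ⟨788, 1, false, 184, 0, true, 0⟩,
   ⟨792, 17, false, 184, 0, false, 0⟩,
   ⟨789, 1, false, 184, 0, true, 0⟩,
   ⟨147, 0, true, 766, 1, false, 0⟩,
   ⟨186, 0, false, 767, 0, false, 0⟩,
   ⟨6, 0, false, 768, 0, false, 0⟩,
   ⟨148, 0, true, 769, 0, false, 0⟩,
   ⟨9, 0, true, 790, 0, false, 0⟩,
   ⟨7, 0, false, 771, 1, false, 0⟩,
   ⟨157, 0, false, 791, 0, false, 0⟩,
   ⟨22, 0, true, 793, 0, false, 0⟩,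
   ⟨9, 0, true, 781, 0, false, 0⟩,
   ⟨9, 0, true, 782, 0, false, 0⟩,
   ⟨157, 0, false, 794, 0, false, 0⟩,
   ⟨9, 0, true, 776, 0, false, 0⟩,
   ⟨1, 0, false, 778, 0, false, 0⟩,
   ⟨12, 0, true, 779, 0, false, 0⟩,
   ⟨9, 0, false, 795, 0, false, 0⟩,
   ⟨13, 0, false, 797, 0, false, 0⟩,
   ⟨23, 0, true, 798, 0, false, 0⟩,
   ⟨14, 0, true, 799, 0, false, 0⟩,
   ⟨2, 0, false, 800, 0, false, 0⟩,
   ⟨122, 0, true, 801, 1, false, 0⟩,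
   ⟨157, 0, false, 802, 1, false, 0⟩,
   ⟨14, 0, true, 803, 0, false, 0⟩,
   ⟨14, 0, true, 804, 0, false, 0⟩,
   ⟨6, 0, true, 805, 6, false, 0⟩,
   ⟨14, 0, true, 806, 0, false, 0⟩,
   ⟨7, 0, true, 807, 0, false, 0⟩,
   ⟨153, 0, true, 808, 1, false, 0⟩,
   ⟨19, 0, false, 810, 0, false, 0⟩,
   ⟨22, 0, true, 811, 0, false, 0⟩,
   ⟨147, 0, true, 812, 1, false, 0⟩,
   ⟨150, 0, true, 813, 0, false, 0⟩,
   ⟨14, 0, true, 814, 0, false, 0⟩,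
   ⟨9, 0, true, 815, 7, false, 0⟩,
   ⟨147, 0, true, 816, 1, false, 0⟩,
   ⟨147, 0, true, 817, 1, false, 0⟩,
   ⟨10, 0, true, 818, 0, false, 0⟩,
   ⟨147, 0, true, 819, 1, false, 0⟩,
   ⟨21, 0, true, 820, 0, false, 0⟩,
   ⟨1, 0, false, 821, 0, false, 0⟩,
   ⟨157, 0, false, 822, 0, false, 0⟩,
   ⟨753, 1, true, 823, 2, false, 0⟩,
   ⟨18, 0, true, 825, 0, false, 0⟩,
   ⟨147, 0, true, 826, 1, false, 0⟩,
   ⟨14, 0, true, 827, 0, false, 0⟩,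
   ⟨11, 0, true, 828, 6, false, 0⟩,
   ⟨154, 0, true, 829, 6, false, 0⟩,
   ⟨3, 0, true, 830, 0, false, 0⟩,
   ⟨9, 0, false, 831, 0, false, 0⟩,
   ⟨16, 0, true, 832, 0, false, 0⟩,
   ⟨7, 0, true, 833, 0, false, 0⟩,
   ⟨151, 0, false, 836, 0, false, 0⟩,
   ⟨796, 4, true, 837, 1, false, 0⟩,
   ⟨147, 0, true, 838, 1, false, 0⟩,
   ⟨4, 0, true, 839, 0, false, 0⟩,
   ⟨8, 0, true, 840, 0, false, 0⟩,
   ⟨186, 0, false, 841, 0, false, 0⟩,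
   ⟨19, 0, true, 842, 0, false, 0⟩,
   ⟨152, 0, true, 843, 1, false, 0⟩,
   ⟨21, 0, true, 844, 0, false, 0⟩,
   ⟨158, 0, false, 845, 0, false, 0⟩,
   ⟨185, 0, true, 846, 5, false, 0⟩,
   ⟨122, 0, true, 847, 1, false, 0⟩,
   ⟨154, 0, true, 848, 1, false, 0⟩,
   ⟨156, 0, true, 849, 1, false, 0⟩,
   ⟨12, 0, true, 850, 0, false, 0⟩,
   ⟨13, 0, true, 851, 0, false, 0⟩,
   ⟨2, 0, false, 852, 0, false, 0⟩,
   ⟨16, 0, true, 853, 0, false, 0⟩,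
   ⟨8, 0, true, 854, 0, false, 0⟩,
   ⟨148, 0, true, 855, 0, false, 0⟩,
   ⟨157, 0, true, 856, 0, false, 0⟩,
   ⟨11, 0, false, 857, 0, false, 0⟩,
   ⟨158, 0, true, 858, 0, false, 0⟩]

/-- Derivation steps. -/
def steps8 : List Step :=
  [⟨153, 0, true, 859, 1, false, 0⟩,
   ⟨6, 0, true, 860, 0, false, 0⟩,
   ⟨150, 0, true, 861, 0, false, 0⟩,
   ⟨16, 0, true, 862, 1, false, 0⟩,
   ⟨8, 0, false, 863, 1, false, 0⟩,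
   ⟨23, 0, true, 864, 0, false, 0⟩,
   ⟨19, 0, true, 865, 0, false, 0⟩,
   ⟨151, 0, true, 866, 0, false, 0⟩,
   ⟨151, 0, true, 867, 0, false, 0⟩,
   ⟨186, 0, true, 868, 0, false, 0⟩,
   ⟨185, 0, false, 869, 0, false, 0⟩,
   ⟨18, 0, true, 870, 0, false, 0⟩,
   ⟨152, 0, true, 871, 1, false, 0⟩,
   ⟨22, 0, true, 873, 0, false, 0⟩,
   ⟨185, 0, true, 875, 0, false, 0⟩,
   ⟨185, 0, true, 876, 0, false, 0⟩,
   ⟨150, 0, true, 877, 0, false, 0⟩,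
   ⟨15, 0, true, 878, 0, false, 0⟩,
   ⟨15, 0, true, 879, 0, false, 0⟩,
   ⟨2, 0, false, 880, 0, false, 0⟩,
   ⟨148, 0, true, 882, 0, false, 0⟩,
   ⟨148, 0, true, 883, 0, false, 0⟩,
   ⟨10, 0, false, 884, 0, false, 0⟩,
   ⟨11, 0, true, 885, 0, false, 0⟩,
   ⟨158, 0, false, 886, 0, false, 0⟩,
   ⟨150, 0, true, 887, 0, false, 0⟩,
   ⟨13, 0, false, 888, 0, false, 0⟩,
   ⟨13, 0, false, 889, 0, false, 0⟩,
   ⟨148, 0, true, 890, 0, false, 0⟩,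
   ⟨4, 0, true, 891, 0, false, 0⟩,
   ⟨8, 0, true, 892, 0, false, 0⟩,
   ⟨18, 0, true, 893, 0, false, 0⟩,
   ⟨23, 0, true, 896, 0, false, 0⟩,
   ⟨154, 0, true, 897, 1, false, 0⟩,
   ⟨156, 0, true, 898, 1, false, 0⟩,
   ⟨15, 0, true, 899, 0, false, 0⟩,
   ⟨22, 0, true, 900, 0, false, 0⟩,
   ⟨8, 0, true, 901, 0, false, 0⟩,
   ⟨4, 0, true, 902, 0, false, 0⟩,
   ⟨11, 0, true, 903, 0, false, 0⟩,
   ⟨156, 0, true, 905, 1, false, 0⟩,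
   ⟨154, 0, true, 906, 1, false, 0⟩,
   ⟨4, 0, true, 907, 0, false, 0⟩,
   ⟨154, 0, true, 910, 1, false, 0⟩,
   ⟨796, 4, false, 162, 1, true, 0⟩,
   ⟨753, 1, false, 162, 0, false, 0⟩,
   ⟨913, 6, false, 162, 0, false, 0⟩,
   ⟨872, 6, false, 162, 0, false, 0⟩,
   ⟨874, 5, false, 162, 0, false, 0⟩,
   ⟨909, 3, false, 162, 1, true, 0⟩,
   ⟨917, 1, false, 162, 1, true, 0⟩,
   ⟨911, 2, false, 162, 0, false, 0⟩,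
   ⟨919, 4, false, 162, 1, true, 0⟩,
   ⟨920, 2, false, 162, 0, false, 0⟩,
   ⟨670, 1, false, 162, 1, true, 0⟩,
   ⟨922, 1, false, 162, 1, true, 0⟩,
   ⟨923, 1, false, 162, 1, true, 0⟩,
   ⟨924, 1, false, 162, 1, true, 0⟩,
   ⟨925, 1, false, 162, 1, true, 0⟩,
   ⟨926, 1, false, 162, 1, true, 0⟩,
   ⟨927, 1, false, 162, 1, true, 0⟩,
   ⟨928, 1, false, 162, 1, true, 0⟩,
   ⟨929, 1, false, 162, 1, true, 0⟩,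
   ⟨930, 1, false, 162, 1, true, 0⟩,
   ⟨931, 1, false, 162, 1, true, 0⟩,
   ⟨932, 1, false, 162, 1, true, 0⟩,
   ⟨933, 1, false, 162, 1, true, 0⟩,
   ⟨934, 1, false, 162, 1, true, 0⟩,
   ⟨935, 1, false, 162, 1, true, 0⟩,
   ⟨936, 1, false, 162, 1, true, 0⟩,
   ⟨937, 1, false, 162, 1, true, 0⟩,
   ⟨938, 1, false, 162, 1, true, 0⟩,
   ⟨939, 1, false, 162, 1, true, 0⟩,
   ⟨940, 1, false, 162, 1, true, 0⟩,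
   ⟨941, 1, false, 162, 1, true, 0⟩,
   ⟨942, 1, false, 162, 1, true, 0⟩,
   ⟨943, 1, false, 162, 1, true, 0⟩,
   ⟨750, 2, false, 809, 2, true, 0⟩,
   ⟨945, 3, false, 809, 2, true, 0⟩,
   ⟨912, 3, false, 809, 2, true, 0⟩,
   ⟨834, 2, false, 809, 1, false, 0⟩,
   ⟨715, 3, false, 809, 2, true, 0⟩,
   ⟨949, 2, false, 809, 1, false, 0⟩,
   ⟨835, 5, false, 809, 2, true, 0⟩,
   ⟨824, 6, false, 809, 2, true, 0⟩,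
   ⟨915, 6, false, 809, 2, true, 0⟩,
   ⟨904, 1, false, 809, 1, false, 0⟩,
   ⟨954, 2, false, 809, 2, true, 0⟩,
   ⟨955, 2, false, 809, 1, false, 0⟩,
   ⟨956, 2, false, 809, 2, true, 0⟩,
   ⟨881, 1, false, 809, 1, false, 0⟩,
   ⟨916, 3, false, 809, 1, false, 0⟩,
   ⟨959, 3, false, 809, 2, true, 0⟩,
   ⟨918, 2, false, 809, 2, true, 0⟩,
   ⟨947, 2, false, 914, 0, false, 0⟩,
   ⟨948, 1, false, 950, 2, false, 0⟩,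
   ⟨44, 0, true, 953, 9, false, 0⟩,
   ⟨946, 1, true, 957, 1, false, 0⟩,
   ⟨44, 0, false, 961, 8, false, 0⟩,
   ⟨947, 2, false, 960, 3, false, 0⟩]

/-- Derivation steps. -/
def steps9 : List Step :=
  [⟨948, 3, true, 963, 4, false, 0⟩,
   ⟨946, 1, true, 965, 5, false, 0⟩,
   ⟨44, 0, true, 966, 2, false, 0⟩,
   ⟨948, 3, true, 967, 2, false, 0⟩,
   ⟨38, 0, false, 969, 4, false, 0⟩,
   ⟨968, 0, true, 971, 0, false, 0⟩,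
   ⟨38, 0, false, 972, 4, false, 0⟩,
   ⟨45, 1, false, 947, 2, false, 0⟩,
   ⟨975, 1, false, 947, 2, false, 0⟩,
   ⟨976, 1, false, 947, 2, false, 0⟩,
   ⟨734, 0, false, 947, 2, false, 0⟩,
   ⟨962, 1, false, 947, 2, true, 1⟩,
   ⟨979, 1, false, 947, 2, false, 0⟩,
   ⟨948, 3, false, 947, 2, true, 0⟩,
   ⟨951, 4, false, 947, 2, true, 0⟩,
   ⟨895, 4, false, 947, 2, true, 0⟩,
   ⟨983, 4, false, 947, 2, true, 0⟩,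
   ⟨908, 4, false, 947, 2, false, 0⟩,
   ⟨985, 4, false, 947, 2, false, 0⟩,
   ⟨968, 2, false, 947, 2, false, 0⟩,
   ⟨987, 4, false, 947, 2, true, 0⟩,
   ⟨952, 6, false, 947, 2, false, 0⟩,
   ⟨964, 4, false, 947, 2, false, 0⟩,
   ⟨580, 1, false, 947, 2, true, 0⟩,
   ⟨991, 2, false, 947, 2, true, 0⟩,
   ⟨992, 2, false, 947, 2, true, 0⟩,
   ⟨993, 2, false, 947, 2, true, 0⟩,
   ⟨994, 2, false, 947, 2, true, 0⟩,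
   ⟨921, 3, false, 947, 2, true, 0⟩,
   ⟨996, 3, false, 947, 2, false, 0⟩,
   ⟨970, 3, false, 947, 2, false, 0⟩,
   ⟨998, 2, false, 947, 2, true, 0⟩,
   ⟨973, 3, false, 947, 2, false, 0⟩,
   ⟨1000, 6, false, 947, 2, true, 1⟩,
   ⟨958, 5, false, 947, 2, false, 0⟩,
   ⟨1002, 2, false, 947, 2, false, 0⟩,
   ⟨978, 1, false, 640, 2, true, 0⟩,
   ⟨1004, 4, false, 640, 3, false, 0⟩,
   ⟨982, 5, false, 640, 2, true, 0⟩,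
   ⟨894, 4, false, 640, 2, true, 0⟩,
   ⟨1007, 4, false, 640, 2, true, 0⟩,
   ⟨984, 3, false, 640, 3, false, 0⟩,
   ⟨1009, 7, false, 640, 3, false, 0⟩,
   ⟨986, 1, false, 640, 2, true, 0⟩,
   ⟨1011, 2, false, 640, 3, false, 0⟩,
   ⟨1012, 5, false, 640, 2, true, 0⟩,
   ⟨1013, 2, false, 640, 3, false, 0⟩,
   ⟨988, 2, false, 640, 2, true, 0⟩,
   ⟨974, 4, false, 640, 2, true, 0⟩,
   ⟨1016, 4, false, 640, 2, true, 0⟩,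
   ⟨946, 5, false, 640, 3, false, 1⟩,
   ⟨989, 8, false, 640, 2, true, 0⟩,
   ⟨990, 1, false, 640, 2, true, 0⟩,
   ⟨995, 1, false, 640, 2, true, 0⟩,
   ⟨1021, 5, false, 640, 2, true, 0⟩,
   ⟨1022, 5, false, 640, 2, true, 0⟩,
   ⟨1023, 5, false, 640, 2, true, 0⟩,
   ⟨1024, 5, false, 640, 2, true, 0⟩,
   ⟨997, 6, false, 640, 3, false, 0⟩,
   ⟨999, 12, false, 640, 2, true, 0⟩,
   ⟨1001, 1, false, 640, 3, false, 0⟩,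
   ⟨1003, 1, false, 640, 2, true, 0⟩,
   ⟨980, 2, false, 1006, 0, false, 0⟩,
   ⟨1020, 9, true, 1005, 0, false, 0⟩,
   ⟨38, 0, false, 1010, 3, false, 0⟩,
   ⟨981, 1, false, 1015, 0, false, 0⟩,
   ⟨40, 0, false, 1028, 17, false, 0⟩,
   ⟨980, 5, false, 1026, 9, false, 0⟩,
   ⟨1020, 10, true, 1027, 10, false, 0⟩,
   ⟨1020, 9, true, 1029, 12, false, 0⟩,
   ⟨1020, 9, true, 1014, 0, false, 0⟩,
   ⟨38, 0, false, 1032, 6, false, 0⟩,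
   ⟨981, 5, true, 1033, 5, false, 0⟩,
   ⟨1020, 0, false, 1035, 4, false, 0⟩,
   ⟨38, 0, true, 1038, 6, false, 0⟩,
   ⟨1030, 5, true, 1025, 4, false, 0⟩,
   ⟨1040, 13, true, 1030, 5, false, 0⟩,
   ⟨1020, 9, true, 1042, 6, false, 0⟩,
   ⟨38, 0, true, 1045, 6, false, 0⟩,
   ⟨1031, 5, true, 1046, 1, false, 0⟩,
   ⟨1047, 12, true, 1031, 10, false, 0⟩,
   ⟨38, 0, false, 1047, 3, false, 0⟩,
   ⟨38, 0, true, 1048, 0, false, 0⟩,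
   ⟨38, 0, true, 1050, 4, false, 0⟩,
   ⟨38, 0, false, 0, 0, false, 0⟩,
   ⟨40, 0, false, 0, 0, false, 0⟩,
   ⟨44, 0, false, 0, 0, false, 0⟩,
   ⟨1051, 0, false, 0, 0, false, 0⟩,
   ⟨980, 0, false, 0, 0, false, 0⟩,
   ⟨981, 0, false, 0, 0, false, 0⟩,
   ⟨1020, 0, false, 0, 0, false, 0⟩,
   ⟨1018, 0, false, 0, 0, false, 0⟩,
   ⟨1044, 0, false, 0, 0, false, 0⟩,
   ⟨977, 0, false, 0, 0, false, 0⟩,
   ⟨1017, 0, false, 0, 0, false, 0⟩,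
   ⟨1039, 0, false, 0, 0, false, 0⟩,
   ⟨1030, 0, false, 0, 0, false, 0⟩,
   ⟨944, 0, false, 0, 0, false, 0⟩,
   ⟨1019, 0, false, 0, 0, false, 0⟩,
   ⟨473, 0, false, 0, 0, false, 0⟩]

/-- Derivation steps. -/
def steps10 : List Step :=
  [⟨1036, 0, false, 0, 0, false, 0⟩,
   ⟨1041, 0, false, 0, 0, false, 0⟩,
   ⟨1049, 0, false, 0, 0, false, 0⟩,
   ⟨1034, 0, true, 0, 0, false, 0⟩,
   ⟨1037, 0, false, 0, 0, false, 0⟩,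
   ⟨1008, 0, false, 0, 0, false, 0⟩,
   ⟨1043, 0, true, 0, 0, false, 0⟩]

/-- All derivation steps. -/
def steps : List Step :=
  steps0 ++ steps1 ++ steps2 ++ steps3 ++ steps4 ++ steps5 ++ steps6 ++ steps7 ++ steps8 ++ steps9 ++ steps10

end Cfsg.Agent.J4PresData13
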