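import Cfsg.Agent.Lib.J1CertCore91

/-!
Words with paired inverse letters, checked derivations of relators, and index bounds from closed
coset tables.
-/

set_option autoImplicit false

namespace Cfsg.Agent.J4PresGen13

open Cfsg.Agent.J1CertCore91

variable {G : Type*} [Group G] (s : Nat → G)

/-- The element of a letter: `2 i` is the generator `i`, `2 i + 1` its inverse. -/
def lv (l : Nat) : G := if l % 2 = 0 then s (l / 2) else (s (l / 2))⁻¹

/-- The product of the letters of a word. -/
def wv : List Nat → G
  | [] => 1
  | l :: w => lv s l * wv w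

/-- The inverse word. -/
def invW (w : List Nat) : List Nat := w.reverse.map fun l => Nat.xor l 1

theorem lv_partner (l : Nat) : lv s (Nat.xor l 1) = (lv s l)⁻¹ := by
  rcases Nat.even_or_odd' l with ⟨c, rfl | rfl⟩
  · have h : Nat.xor (2 * c) 1 = 2 * c + 1 := by
      show 2 * c ^^^ 1 = _
      rw [Nat.xor_one_of_even ⟨c, by omega⟩]
    rw [h, lv, lv, if_neg (by omega), if_pos (by omega), show (2 * c + 1) / 2 = 2 * c / 2 by omega]
  · have h : Nat.xor (2 * c + 1) 1 = 2 * c := by
      show (2 * c + 1) ^^^ 1 = _
      rw [Nat.xor_one_of_odd ⟨c, rfl⟩]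
      omega
    rw [h, lv, lv, if_pos (by omega), if_neg (by omega), inv_inv,
      show (2 * c + 1) / 2 = 2 * c / 2 by omega]

theorem wv_append (a b : List Nat) : wv s (a ++ b) = wv s a * wv s b := by
  induction a with
  | nil => simp [wv]
  | cons x a ih => rw [List.cons_append, wv, wv, ih, mul_assoc]

theorem wv_invW (w : List Nat) : wv s (invW w) = (wv s w)⁻¹ := by
  induction w with
  | nil => simp [invW, wv]
  | cons x w ih =>
    have : invW (x :: w) = invW w ++ [Nat.xor x 1] := by simp [invW]
    rw [this, wv_append, ih, wv, wv, wv, mul_one, mul_inv_rev, lv_partner]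

/-- The letters acting on left cosets. -/
def gl (l : Nat) : G := lv s (Nat.xor l 1)

theorem val_gl (w : List Nat) : val (gl s) w = (wv s w)⁻¹ := by
  induction w with
  | nil => simp [val, wv]
  | cons x w ih => rw [val, ih, gl, lv_partner, wv, mul_inv_rev]

theorem gl_partner (x : Nat) : gl s (Nat.xor x 1) * gl s x = 1 := by
  rw [gl, gl, lv_partner, inv_mul_cancel]

/-- Push a letter on a freely reduced word. -/
def push (l : Nat) : List Nat → List Nat
  | [] => [l]
  | h :: t => bif Nat.beq h (Nat.xor l 1) then t else l :: h :: t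

/-- Free reduction. -/
def red (w : List Nat) : List Nat := w.foldr push []

theorem wv_red (w : List Nat) : wv s (red w) = wv s w := by
  induction w with
  | nil => rfl
  | cons x w ih =>
    show wv s (push x (red w)) = _
    rw [wv, ← ih]
    cases red w with
    | nil => rfl
    | cons h t =>
      rw [push]
      cases hb : Nat.beq h (Nat.xor x 1) with
      | true =>
        rw [Nat.beq_eq.mp hb]
        show wv s t = lv s x * (lv s (Nat.xor x 1) * wv s t)
        rw [lv_partner, mul_inv_cancel_left]
      | false => rfl

/-- One rotation of a word or of its inverse. -/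
def turn (w : List Nat) (o : Nat) (inv : Bool) : List Nat :=
  (bif inv then invW w else w).drop o ++ (bif inv then invW w else w).take o

theorem wv_turn {w : List Nat} (hw : wv s w = 1) (o : Nat) (inv : Bool) :
    wv s (turn w o inv) = 1 := by
  have h : wv s (bif inv then invW w else w) = 1 := by
    cases inv
    · exact hw
    · show wv s (invW w) = 1
      rw [wv_invW, hw, inv_one]
  unfold turn
  generalize (bif inv then invW w else w) = v at h
  rw [← List.take_append_drop o v, wv_append] at h
  rw [wv_append, eq_inv_of_mul_eq_one_right h, inv_mul_cancel]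

/-- A word is given by a step: two earlier relators are turned, multiplied, freely reduced, and
stripped of a conjugation of length `k`. -/
structure Step where
  i : Nat
  oi : Nat
  si : Bool
  j : Nat
  oj : Nat
  sj : Bool
  k : Nat

/-- The word obtained by a step. -/
def Step.out (R : List (List Nat)) (t : Step) : List Nat :=
  ((red (turn (R.getD t.i []) t.oi t.si ++ turn (R.getD t.j []) t.oj t.sj)).drop t.k).take
    ((red (turn (R.getD t.i []) t.oi t.si ++ turn (R.getD t.j []) t.oj t.sj)).length - 2 * t.k)

/-- A step is correct. -/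
def Step.ok (R : List (List Nat)) (t : Step) : Bool :=
  (red (turn (R.getD t.i []) t.oi t.si ++ turn (R.getD t.j []) t.oj t.sj)) ==
    (red (turn (R.getD t.i []) t.oi t.si ++ turn (R.getD t.j []) t.oj t.sj)).take t.k ++ t.out R ++
      invW ((red (turn (R.getD t.i []) t.oi t.si ++ turn (R.getD t.j []) t.oj t.sj)).take t.k)

theorem Step.sound {R : List (List Nat)} (hR : ∀ w ∈ R, wv s w = 1) {t : Step} (h : t.ok R = true) :
    wv s (t.out R) = 1 := by
  have hg : ∀ i, wv s (R.getD i []) = 1 := fun i => by
    by_cases hi : i < R.length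
    · rw [List.getD_eq_getElem _ _ hi]; exact hR _ (List.getElem_mem hi)
    · rw [List.getD_eq_default _ _ (by omega)]; rfl
  have hsum : wv s (red (turn (R.getD t.i []) t.oi t.si ++ turn (R.getD t.j []) t.oj t.sj)) = 1 := by
    rw [wv_red, wv_append, wv_turn s (hg _), wv_turn s (hg _), one_mul]
  have h' := congrArg (wv s) (beq_iff_eq.mp h)
  rw [hsum, wv_append, wv_append, wv_invW] at h'
  exact conj_eq_one_iff.mp h'.symm

/-- Apply the steps in order, appending the new relators; `none` if one of them is incorrect. -/
def derive : List Step → List (List Nat) → Option (List (List Nat))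
  | [], R => some R
  | t :: ts, R => bif t.ok R then derive ts (R ++ [t.out R]) else none

theorem derive_sound : ∀ (ts : List Step) (R R' : List (List Nat)), (∀ w ∈ R, wv s w = 1) →
    derive ts R = some R' → ∀ w ∈ R', wv s w = 1 := by
  intro ts
  induction ts with
  | nil => intro R R' hR h; cases h; exact hR
  | cons t ts ih =>
    intro R R' hR h
    rw [derive] at h
    cases hk : t.ok R with
    | false => rw [hk] at h; exact absurd h (by simp)
    | true =>
      rw [hk] at h
      refine ih _ _ (fun w hw => ?_) h
      rcases List.mem_append.mp hw with hw | hw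
      · exact hR w hw
      · rw [List.mem_singleton.mp hw]
        exact Step.sound s hR hk

/-! ### Index bounds -/

/-- Entry `(i, x)` of a closure table. -/
noncomputable def entryOk (C : Cert) (E L : Tbl) (nf N NL i x : Nat) : Bool :=
  force (entry E 48 (NL * i + x)) fun e =>
  force (Nat.shiftRight e 20) fun idx =>
  optAll (walk C.fact nf 1 (Nat.land e 1048575) (entry L 32 i) [x]) fun r =>
    Nat.blt idx N && Nat.beq r (entry L 32 idx)

/-- All entries in rows below `k`. -/
noncomputable def rowsOk (C : Cert) (E L : Tbl) (nf N NL : Nat) : Nat → Bool :=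
  Nat.rec (motive := fun _ => Bool) true
    (fun k b => (Nat.rec (motive := fun _ => Bool) true
      (fun x c => entryOk C E L nf N NL k x && c) NL) && b)

theorem rowsOk_imp {C : Cert} {E L : Tbl} {nf N NL : Nat} :
    ∀ k, rowsOk C E L nf N NL k = true → ∀ i < k, ∀ x < NL, entryOk C E L nf N NL i x = true := by
  intro k
  induction k with
  | zero => intro _ i hi; omega
  | succ k ih =>
    intro h i hi x hx
    change ((Nat.rec (motive := fun _ => Bool) true
      (fun x c => entryOk C E L nf N NL k x && c) NL) && rowsOk C E L nf N NL k) = true at h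
    rw [Bool.and_eq_true] at h
    rcases Nat.lt_succ_iff_lt_or_eq.mp hi with hi | hi
    · exact ih h.2 i hi x hx
    · subst hi
      have aux : ∀ m, (Nat.rec (motive := fun _ => Bool) true
          (fun x c => entryOk C E L nf N NL i x && c) m) = true →
          ∀ x < m, entryOk C E L nf N NL i x = true := by
        intro m
        induction m with
        | zero => intro _ x hx; omega
        | succ m ihm =>
          intro hm x hx
          change (entryOk C E L nf N NL i m && _) = true at hm
          rw [Bool.and_eq_true] at hm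
          rcases Nat.lt_succ_iff_lt_or_eq.mp hx with hx | hx
          · exact ihm hm.2 x hx
          · exact hx ▸ hm.1
      exact aux NL h.1 x hx

/-- A closed coset table bounds the index. -/
theorem index_bound {C : Cert} {E L : Tbl} {nf N NL : Nat} (H : Subgroup G)
    (hrels : ∀ w ∈ C.rels, wv s w = 1) (hsg : ∀ w ∈ C.sgens, wv s w ∈ H)
    (hfacts : Ctx (gl s) ((1 : G) : G ⧸ H) C →
      AllValid (gl s) (nodeVal (gl s) ((1 : G) : G ⧸ H) C) C nf)
    (hN : 0 < N) (h0 : entry L 32 0 = 0) (hrows : rowsOk C E L nf N NL N = true)
    (hgen : Subgroup.closure {y | ∃ l, l < NL ∧ y = gl s l} = ⊤) (heven : ∀ l < NL, Nat.xor l 1 < NL) :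
    Finite (G ⧸ H) ∧ Nat.card (G ⧸ H) ≤ N := by
  have hctx : Ctx (gl s) ((1 : G) : G ⧸ H) C := by
    refine ⟨gl_partner s, fun w hw => by rw [val_gl, hrels w hw, inv_one], fun w hw => ?_⟩
    rw [act_eq, val_gl, MulAction.Quotient.smul_coe, QuotientGroup.eq, smul_eq_mul]
    simp only [mul_one, inv_inv]
    exact hsg w hw
  have hv' := hfacts hctx
  set base : G ⧸ H := ((1 : G) : G ⧸ H)
  have hcl : ∀ i < N, ∀ x < NL, ∃ k < N,
      gl s x • nodeVal (gl s) base C (entry L 32 i) = nodeVal (gl s) base C (entry L 32 k) := by
    intro i hi x hx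
    have h := rowsOk_imp N hrows i hi x hx
    simp only [entryOk, J1CertCore91.force_eq] at h
    obtain ⟨r, hr, hk⟩ := optAll_eq_true h
    simp only [Bool.and_eq_true, Nat.blt_eq, Nat.beq_eq] at hk
    exact ⟨_, hk.1, by
      rw [← hk.2]
      simpa [act] using walk_sound (gl s) _ hctx.partner C.fact nf hv' _ _ _ _ _ hr⟩
  have key : ∀ k : G, ∀ i < N, ∃ j < N,
      k • nodeVal (gl s) base C (entry L 32 i) = nodeVal (gl s) base C (entry L 32 j) := by
    intro k
    have hk : k ∈ Subgroup.closure {y | ∃ l, l < NL ∧ y = gl s l} := hgen ▸ Subgroup.mem_top k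
    induction hk using Subgroup.closure_induction'' with
    | mem y hy =>
      obtain ⟨l, hl, rfl⟩ := hy
      exact fun i hi => hcl i hi l hl
    | inv_mem y hy =>
      obtain ⟨l, hl, rfl⟩ := hy
      rw [inv_eq_of_mul_eq_one_left (gl_partner s l)]
      exact fun i hi => hcl i hi _ (heven l hl)
    | one => exact fun i hi => ⟨i, hi, one_smul _ _⟩
    | mul a b _ _ ha hb =>
      intro i hi
      obtain ⟨j, hj, h1⟩ := hb i hi
      obtain ⟨m, hm, h2⟩ := ha j hj
      exact ⟨m, hm, by rw [mul_smul, h1, h2]⟩
  have hsurj : Function.Surjective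
      (fun i : Fin N => nodeVal (gl s) base C (entry L 32 i)) := by
    intro q
    induction q using QuotientGroup.induction_on with
    | H k =>
      obtain ⟨j, hj, h⟩ := key k 0 hN
      refine ⟨⟨j, hj⟩, h.symm.trans ?_⟩
      rw [h0, nodeVal_zero, MulAction.Quotient.smul_coe, smul_eq_mul, mul_one]
  exact ⟨Finite.of_surjective _ hsurj,
    (Nat.card_le_card_of_surjective _ hsurj).trans_eq (Nat.card_fin _)⟩

end Cfsg.Agent.J4PresGen13
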