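import Cfsg.Agent.Lib.J4Rep13
import Cfsg.Prelude.Def_Sporadic

/-!
The representation of the presented fourth Janko group by permutations of binary vectors is linear, so gives
matrices; if the group is simple of the expected order, so is its image in GL(112, 2).
-/

set_option autoImplicit false
set_option maxRecDepth 100000
set_option linter.style.haveILetI false
set_option linter.constructorNameAsVariable false

namespace Cfsg.Agent.J4RepGL14

open Cfsg.Agent.J4RepData13 Cfsg.Agent.J4PresGen13 Cfsg.Agent.J4Rep13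

/-- Additivity. -/
def Additive' (σ : Equiv.Perm Vec) : Prop :=
  ∀ a b c : Vec, c.1 = a.1 ^^^ b.1 → (σ c).1 = (σ a).1 ^^^ (σ b).1

theorem additive_img (x : Cfsg.Spor.J4.Gen) : Additive' (img x) := by
  intro a b c h
  cases x
  · show appL [rx] c.1 = appL [rx] a.1 ^^^ appL [rx] b.1
    rw [h, appL_xor]
  · show appL [ry, ry] c.1 = appL [ry, ry] a.1 ^^^ appL [ry, ry] b.1
    rw [h, appL_xor]
  · show appL [rt] c.1 = appL [rt] a.1 ^^^ appL [rt] b.1
    rw [h, appL_xor]

theorem additive_rho (g : Cfsg.Spor.J4) : Additive' (rho g) := by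
  have hg : g ∈ Subgroup.closure (Set.range (PresentedGroup.of
      (rels := Cfsg.Spor.coxRelators Cfsg.Spor.J4.edges ∪ {r | r ∈ Cfsg.Spor.J4.extra}))) :=
    (PresentedGroup.closure_range_of _).symm ▸ Subgroup.mem_top g
  induction hg using Subgroup.closure_induction with
  | mem y hy =>
    obtain ⟨x, rfl⟩ := hy
    rw [rho, PresentedGroup.toGroup.of]
    exact additive_img x
  | one => intro a b c h; rw [map_one]; exact h
  | mul y z _ _ hy hz =>
    intro a b c h
    rw [map_mul]
    exact hy _ _ _ (hz a b c h)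
  | inv y _ hy =>
    intro a b c h
    rw [map_inv]
    have hlt : (((rho y)⁻¹ a).1 ^^^ ((rho y)⁻¹ b).1) < 2 ^ 112 :=
      Nat.xor_lt_two_pow ((rho y)⁻¹ a).2 ((rho y)⁻¹ b).2
    have h1 := hy ((rho y)⁻¹ a) ((rho y)⁻¹ b) ⟨_, hlt⟩ rfl
    rw [← Equiv.Perm.mul_apply, ← Equiv.Perm.mul_apply, mul_inv_cancel, Equiv.Perm.one_apply,
      Equiv.Perm.one_apply, ← h] at h1
    have h2 : (rho y) ⟨_, hlt⟩ = c := Subtype.ext h1
    rw [← h2, ← Equiv.Perm.mul_apply, inv_mul_cancel, Equiv.Perm.one_apply]

/-- The digits of a vector. -/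
def bits (v : Vec) : Fin 112 → ZMod 2 := fun i => if v.1.testBit i then 1 else 0

theorem bits_injective : Function.Injective bits := by
  intro a b h
  refine Subtype.ext (Nat.eq_of_testBit_eq fun j => ?_)
  by_cases hj : j < 112
  · have h' := congrFun h ⟨j, hj⟩
    simp only [bits] at h'
    revert h'
    cases a.1.testBit j <;> cases b.1.testBit j <;> simp
  · have hp : 2 ^ 112 ≤ 2 ^ j := Nat.pow_le_pow_right (by norm_num) (by omega)
    rw [Nat.testBit_lt_two_pow (a.2.trans_le hp), Nat.testBit_lt_two_pow (b.2.trans_le hp)]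

theorem bits_bijective : Function.Bijective bits := by
  haveI : Finite Vec := Finite.of_injective (fun v : Vec => (⟨v.1, v.2⟩ : Fin (2 ^ 112)))
    fun a b h => Subtype.ext (congrArg Fin.val h)
  refine (Nat.bijective_iff_injective_and_card bits).mpr ⟨bits_injective, ?_⟩
  rw [Nat.card_congr (Fin.equivSubtype (n := 2 ^ 112)).symm, Nat.card_fin, Nat.card_fun, Nat.card_fin,
    Nat.card_zmod]

/-- Vectors as functions. -/
noncomputable def e : Vec ≃ (Fin 112 → ZMod 2) := Equiv.ofBijective bits bits_bijective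

theorem e_add {a b c : Vec} (h : c.1 = a.1 ^^^ b.1) : e c = e a + e b := by
  funext i
  show bits c i = bits a i + bits b i
  simp only [bits, h, Nat.testBit_xor]
  cases a.1.testBit i <;> cases b.1.testBit i <;> decide

theorem e_symm_add (x y : Fin 112 → ZMod 2) :
    (e.symm (x + y)).1 = (e.symm x).1 ^^^ (e.symm y).1 := by
  have hlt := Nat.xor_lt_two_pow (e.symm x).2 (e.symm y).2
  have h := e_add (a := e.symm x) (b := e.symm y) (c := ⟨_, hlt⟩) rfl
  rw [e.apply_symm_apply, e.apply_symm_apply] at h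
  rw [← h, e.symm_apply_apply]

/-- The linear map of a group element. -/
noncomputable def lin (g : Cfsg.Spor.J4) : (Fin 112 → ZMod 2) →ₗ[ZMod 2] (Fin 112 → ZMod 2) :=
  AddMonoidHom.toZModLinearMap 2 (AddMonoidHom.mk' (fun x => e (rho g (e.symm x))) fun x y =>
    e_add (additive_rho g _ _ _ (e_symm_add x y)))

theorem lin_apply (g : Cfsg.Spor.J4) (x : Fin 112 → ZMod 2) : lin g x = e (rho g (e.symm x)) := rfl

theorem lin_one : lin 1 = LinearMap.id := by
  refine LinearMap.ext fun x => ?_
  rw [lin_apply, map_one, Equiv.Perm.one_apply, e.apply_symm_apply]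
  rfl

theorem lin_mul (g h : Cfsg.Spor.J4) : lin (g * h) = (lin g).comp (lin h) := by
  refine LinearMap.ext fun x => ?_
  rw [LinearMap.comp_apply, lin_apply, lin_apply, lin_apply, e.symm_apply_apply, map_mul,
    Equiv.Perm.mul_apply]

/-- The matrices. -/
noncomputable def matHom : Cfsg.Spor.J4 →* Matrix (Fin 112) (Fin 112) (ZMod 2) where
  toFun g := LinearMap.toMatrix' (lin g)
  map_one' := by rw [lin_one, LinearMap.toMatrix'_id]
  map_mul' g h := by rw [lin_mul, LinearMap.toMatrix'_comp]

/-- The representation by invertible matrices. -/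
noncomputable def glHom : Cfsg.Spor.J4 →* GL (Fin 112) (ZMod 2) := matHom.toHomUnits

theorem eq_one_of_glHom {g : Cfsg.Spor.J4} (h : glHom g = 1) : rho g = 1 := by
  have h1 : LinearMap.toMatrix' (lin g) = LinearMap.toMatrix' (lin 1) := by
    rw [lin_one, LinearMap.toMatrix'_id]
    exact congrArg Units.val h
  have h2 := LinearMap.toMatrix'.injective h1
  refine Equiv.ext fun v => e.injective ?_
  have h3 := LinearMap.congr_fun h2 (e v)
  rw [lin_apply, lin_apply, e.symm_apply_apply, map_one] at h3
  exact h3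

theorem isJ4_range {A B : Type*} [Group A] [Group B] (f : A →* B) (hf : Function.Injective f)
    (h : Cfsg.IsJ4 A) : Cfsg.IsJ4 ↥f.range := by
  haveI := h.1
  exact ⟨(MonoidHom.ofInjective hf).symm.isSimpleGroup,
    (Nat.card_congr (MonoidHom.ofInjective hf).toEquiv).symm.trans h.2⟩

/-- If the presented group is simple of the expected order, GL(112, 2) has such a subgroup. -/
theorem exists_gl (h : Cfsg.IsJ4 Cfsg.Spor.J4) :
    ∃ H : Subgroup (GL (Fin 112) (ZMod 2)), Cfsg.IsJ4 H := by
  haveI := h.1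
  have hinj : Function.Injective glHom := by
    rw [← MonoidHom.ker_eq_bot_iff]
    refine (Subgroup.Normal.eq_bot_or_eq_top (MonoidHom.normal_ker glHom)).resolve_right fun hk => ?_
    refine px_ne_one ?_
    rw [← rho_x]
    exact eq_one_of_glHom (MonoidHom.mem_ker.mp (hk ▸ Subgroup.mem_top _))
  exact ⟨glHom.range, isJ4_range glHom hinj h⟩

end Cfsg.Agent.J4RepGL14
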