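import Cfsg.Agent.Lib.J4Check18
import Cfsg.Agent.Lib.J4OrbitData48

/-!
The fixed space of the first elementary abelian subgroup of order sixteen is recovered from any of
its eighteen special vectors `v`: it is spanned by the vectors `w` of the invariant bit set which
are orthogonal to the line of `v` and give another such vector when added to a member of that line.
-/

set_option autoImplicit false
set_option maxRecDepth 100000

namespace Cfsg.Agent.J4SecondLocalData73

open Cfsg.Agent.J4Data18 Cfsg.Agent.J4OrbitData48
open Cfsg.Agent.LFCheck89 (scal app qpar mem allBelow)

/-- The base vector. -/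
def base : ℕ := u18.getD 0 0

/-- Zero or in the bit set. -/
def inP0 (c : ℕ) : Bool := Nat.beq c 0 || inP c

/-- Not orthogonal. -/
def polB (a b : ℕ) : Bool := xor (xor (qpar (Nat.xor a b)) (qpar a)) (qpar b)

/-- Orthogonal to the line of the base. -/
def perpB (w : ℕ) : Bool := !polB base w && !polB (scal base) w

/-- A member of the line of the base moves it into the bit set. -/
def linked (p : ℕ → Bool) (w : ℕ) : Bool :=
  p (Nat.xor base w) || p (Nat.xor (scal base) w) || p (Nat.xor (scal (scal base)) w)

/-- The vectors of the forty-five linked with the base. -/
def wList : List ℕ := u45.filter fun w => linked (fun c => mem c u45) w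

/-- The vectors so defined lie in the fixed space. -/
def soundOK : Bool :=
  allBelow (fun w => !(inP0 w && perpB w && linked inP0 w) || mem w uList) 4096

theorem sound_ok : soundOK = true := by decide +kernel

theorem wList_ok : wList.Nodup ∧ 32 < wList.length := by decide +kernel

theorem scal_mem : mem base u18 = true ∧ mem (scal base) uList = true ∧
    mem (scal (scal base)) uList = true ∧ scal base < 4096 ∧ scal (scal base) < 4096 := by
  decide +kernel

theorem image_ok : mem (Nat.xor (app (J4Check18.el 1) 5) 5) u18 = true := by decide +kernel

end Cfsg.Agent.J4SecondLocalData73
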