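import Mathlib
import Cfsg.Agent.Lib.J4Orbit48
import Cfsg.Agent.Lib.J4SecondLocalData73

/-!
An element of the centralizer of the involution commuting with an element of the large elementary
abelian subgroup outside `O₂`, or with one over a vector of the orbit of eighteen, normalises that
subgroup.
-/

set_option autoImplicit false
set_option linter.unusedSectionVars false
set_option linter.style.haveILetI false
set_option maxHeartbeats 800000

namespace Cfsg.Agent.J4SecondLocal73

open Subgroup Cfsg.Agent.U62Mon93 Cfsg.Agent.LFForm89 Cfsg.Agent.LFMat89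
  Cfsg.Agent.J4Syl18 Cfsg.Agent.JFourSetting97 Cfsg.Agent.JFourModule85 Cfsg.Agent.J4Elem85
  Cfsg.Agent.J4OrbitX48 Cfsg.Agent.J4Orbit48 Cfsg.Agent.J4SecondLocalData73
open Cfsg.Agent.J4Coord85 (Hyp Frame Acts op)
open Cfsg.Agent.J4Data18 (u18 u45 uList)
open Cfsg.Agent.LFCheck89 (scal app qpar mem allBelow allBelow_spec)

universe u v

section Abstract

variable {X : Type u} [Group X] [Finite X] {V : Type v} [AddCommGroup V]
variable {F : Type} [Field F] [Fintype F] {s : F}
variable {h : S4 s} {ρ : X →* AddMonoid.End V} {q : V → ZMod 2} {n : X} {Mb : Subgroup X}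
variable {ν : (Fin 6 → F) → V} (H : Hyp ρ q n Mb) (C : Coord h ρ q n Mb ν)
include H C

theorem nc_xor (a b : ℕ) : nc s ν (Nat.xor a b) = nc s ν a + nc s ν b := by
  rw [nc, nc, nc, vec_xor h, C.add]

theorem op_n_nc {c : ℕ} (hc : c < 4096) : op ρ n (nc s ν c) = nc s ν (scal c) := by
  rw [nc, nc, vec_scal h hc, C.scalar]

/-- A vector with the invariant is in the bit set. -/
theorem inP0_of_Pt {c : ℕ} (hc : c < 4096) (hP : Pt H C (nc s ν c)) : inP0 c = true := by
  obtain ⟨g, hg, hgv⟩ := hP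
  have h2 := J4OrbitData48.pset_ok
  simp only [J4OrbitData48.psetOK, Bool.and_eq_true, Bool.not_eq_true'] at h2
  let S : Set V := {w | ∃ c, c < 4096 ∧ inP0 c = true ∧ w = nc s ν c}
  have hfin : S.Finite := by
    refine Set.Finite.subset ((Set.finite_Iio 4096).image (nc s ν)) ?_
    rintro w ⟨c, hc, -, rfl⟩
    exact ⟨c, hc, rfl⟩
  have key : ∀ x ∈ Mb, op ρ x '' S = S := by
    intro x hx
    rw [← C.generate] at hx
    induction hx using Subgroup.closure_induction with
    | mem x hx =>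
      obtain ⟨-, k, hk, hxA⟩ := hx
      refine Set.eq_of_subset_of_ncard_le ?_ ?_ hfin
      · rintro _ ⟨_, ⟨c, hc, hP, rfl⟩, rfl⟩
        simp only [inP0, Bool.or_eq_true, Nat.beq_eq] at hP
        rcases hP with rfl | hP
        · exact ⟨0, by norm_num, rfl, by rw [nc_zero H C, map_zero]⟩
        · have h3 := allBelow_spec h2.1.1.1 c hc
          simp only [hP, Bool.not_true, Bool.false_or, List.all_eq_true] at h3
          refine ⟨app (J4Data18.genC.getD k 0) c, app_lt _ _, ?_, acts_nc H C hxA c⟩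
          rw [inP0, h3 _ ?_, Bool.or_true]
          rw [List.getD_eq_getElem _ _
            (show k < J4Data18.genC.length by simpa [J4Data18.genC] using hk)]
          exact List.getElem_mem _
      · rw [Set.ncard_image_of_injective _ fun a b e => by
          rw [← op_inv_op H C x a, e, op_inv_op H C x b]]
    | one => simp [rho_one]
    | mul a b _ _ ea eb =>
      conv_rhs => rw [← ea, ← eb]
      rw [Set.image_image]
      exact Set.image_congr' fun w => rho_mul ρ a b w
    | inv a _ ea =>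
      conv_lhs => rw [← ea]
      rw [Set.image_image]
      exact (Set.image_congr' fun w => op_inv_op H C a w).trans (Set.image_id S)
  obtain ⟨d, hd, hde⟩ := exists_nc H C (op ρ g (nc s ν c))
  have hdP : inP0 d = true := by
    rw [inP0, Bool.or_eq_true, Nat.beq_eq]
    by_contra hno
    push Not at hno
    have hlen : J4Data18.sylGen.length = 7 := by decide +kernel
    have hgel : ∀ k < 7, J4Data18.sylGen.getD k 0 = J4Check18.el (2 ^ k) := by decide +kernel
    have hfix : (J4Data18.sylGen.all fun m => Nat.beq (app m d) d) = true := by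
      rw [List.all_eq_true]
      intro m hm
      obtain ⟨k, hk, e0⟩ := List.mem_iff_getElem.1 hm
      have hk7 : k < 7 := hlen ▸ hk
      have hb : 2 ^ k < 128 := by
        calc 2 ^ k < 2 ^ 7 := Nat.pow_lt_pow_right (by norm_num) hk7
          _ = 128 := rfl
      have e := hgv _ ⟨2 ^ k, hb, rfl⟩
      rw [← hde, op_tau_nc H C hb, ← hgel k hk7] at e
      rw [Nat.beq_eq, e0.symm.trans (List.getD_eq_getElem _ _ hk).symm]
      exact nc_inj H C (app_lt _ _) hd e
    have hP' := allBelow_spec h2.1.1.2 d hd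
    rw [hfix] at hP'
    simp only [Bool.not_true, Bool.false_or, Bool.or_eq_true, Nat.beq_eq] at hP'
    exact hP'.elim hno.1 fun e => hno.2 e
  have hmem : nc s ν c ∈ op ρ g⁻¹ '' S :=
    ⟨nc s ν d, ⟨d, hd, hdP, rfl⟩, by rw [hde, op_inv_op H C]⟩
  rw [key _ (inv_mem hg)] at hmem
  obtain ⟨c', hc', hP', e⟩ := hmem
  rwa [nc_inj H C hc hc' e]

theorem Pt_u45 (hidx : Mb.index = 2) {c : ℕ} (hc : c ∈ u45) : Pt H C (nc s ν c) := by
  obtain ⟨g, -, -, hg⟩ := trans45 H C hc
  rw [← hg]
  exact Pt_op H C hidx (Pt_45 H C hidx) g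

theorem not_Pt_u18 (hidx : Mb.index = 2) {c : ℕ} (hc : c ∈ u18) : ¬ Pt H C (nc s ν c) := by
  obtain ⟨g, -, -, hg⟩ := trans18 H C hc
  intro hP
  refine not_Pt_18 H C ?_
  have := Pt_op H C hidx hP g⁻¹
  rwa [← hg, op_inv_op H C] at this

theorem polB_eq (a b : ℕ) :
    pol q (nc s ν a) (nc s ν b) = if polB a b then 1 else 0 := by
  rw [pol, ← nc_xor H C, q_nc H C, q_nc H C, q_nc H C, polB]
  cases qpar (Nat.xor a b) <;> cases qpar a <;> cases qpar b <;> decide

/-- An element outside the subgroup of index two inverts `n`. -/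
theorem op_n_twist (hinv : ∀ t, t ∉ Mb → t * n * t⁻¹ = n⁻¹) (g : X) (v : V) :
    op ρ g (op ρ n v) = op ρ n (op ρ g v) ∨ op ρ g (op ρ n v) = op ρ n (op ρ n (op ρ g v)) := by
  by_cases hg : g ∈ Mb
  · exact Or.inl (by rw [← rho_mul, ← rho_mul, H.comm_n g hg])
  · refine Or.inr ?_
    rw [← rho_mul, ← rho_mul, ← rho_mul]
    congr 2
    rw [mul_inv_eq_iff_eq_mul.1 (hinv g hg), inv_eq_of_mul_eq_one_right (a := n) (b := n * n) (by
      rw [← pow_two, ← pow_succ', show 2 + 1 = 3 from rfl, ← H.order_n, pow_orderOf_eq_one])]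

/-- Linked with the base by the invariant. -/
def Link (H : Hyp ρ q n Mb) (C : Coord h ρ q n Mb ν) (w : V) : Prop :=
  Pt H C (nc s ν base + w) ∨ Pt H C (op ρ n (nc s ν base) + w) ∨
    Pt H C (op ρ n (op ρ n (nc s ν base)) + w)

/-- A fixer of the base maps the fixed space to itself. -/
theorem fix_base (hidx : Mb.index = 2) (hinv : ∀ t, t ∉ Mb → t * n * t⁻¹ = n⁻¹) {g : X}
    (hg : op ρ g (nc s ν base) = nc s ν base) :
    ∀ u ∈ Fix ρ (E1 H C), op ρ g u ∈ Fix ρ (E1 H C) := by
  haveI : Finite V := Nat.finite_of_card_ne_zero (by rw [H.fx.card]; norm_num)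
  set v0 := nc s ν base with hv0
  obtain ⟨hb18, hs1, hs2, hlt1, hlt2⟩ := scal_mem
  rw [mem_iff] at hb18 hs1 hs2
  have hbU := ((orb_facts H C).2.2.2.2.2.1 base hb18).1
  have hblt := (uList_spec H C hbU).1
  have hn1 : op ρ n v0 = nc s ν (scal base) := op_n_nc H C hblt
  have hn2 : op ρ n (op ρ n v0) = nc s ν (scal (scal base)) := by
    rw [hn1, op_n_nc H C hlt1]
  have hn3 : op ρ n (op ρ n (op ρ n v0)) = v0 := H.fx.o_three v0
  have hUiso : ∀ a ∈ Fix ρ (E1 H C), ∀ b ∈ Fix ρ (E1 H C), pol q a b = 0 := fun a ha b hb => by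
    simp [pol, Fix_E1_sing H C a ha, Fix_E1_sing H C b hb,
      Fix_E1_sing H C _ (AddSubgroup.add_mem _ ha hb)]
  have hmemU : ∀ c ∈ uList, nc s ν c ∈ Fix ρ (E1 H C) := fun c hc =>
    (mem_Fix_E1 H C).2 ⟨c, hc, rfl⟩
  have himg : ∀ w ∈ wList, op ρ g (nc s ν w) ∈ Fix ρ (E1 H C) := by
    intro w hw
    simp only [wList, List.mem_filter, linked, Bool.or_eq_true, mem_iff] at hw
    obtain ⟨hw45, hwl⟩ := hw
    have hwU := ((orb_facts H C).2.2.2.2.2.2 w hw45).1
    set x := nc s ν w with hx
    have hP : Pt H C x := Pt_u45 H C hidx hw45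
    have hL : Link H C x := by
      rw [Link, ← hv0, hn2, hn1, hv0, hx, ← nc_xor H C, ← nc_xor H C, ← nc_xor H C]
      exact hwl.elim (fun e => e.elim (fun e => Or.inl (Pt_u45 H C hidx e))
        fun e => Or.inr (Or.inl (Pt_u45 H C hidx e))) fun e => Or.inr (Or.inr (Pt_u45 H C hidx e))
    have hpol : ∀ d ∈ uList, pol q (nc s ν d) x = 0 := fun d hd =>
      hUiso _ (hmemU d hd) _ (hmemU w hwU)
    have hgpol : ∀ a, pol q (op ρ g a) (op ρ g x) = pol q a x := fun a => by
      simp only [pol, ← map_add, H.inv]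
    obtain ⟨c, hc, hce⟩ := exists_nc H C (op ρ g x)
    have hc1 : inP0 c = true := inP0_of_Pt H C hc (hce ▸ Pt_op H C hidx hP g)
    have hp0 : pol q v0 (nc s ν c) = 0 := by
      rw [hce]
      conv_lhs => arg 2; rw [← hg]
      rw [hgpol]
      exact hpol base hbU
    have hp1 : pol q (op ρ n v0) (nc s ν c) = 0 := by
      rw [hce]
      rcases op_n_twist H C hinv g v0 with e | e
      · rw [hg] at e
        rw [← e, hgpol, hn1]
        exact hpol _ hs1
      · rw [hg] at e
        have e1 : op ρ g (op ρ n (op ρ n v0)) = op ρ n v0 := by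
          rcases op_n_twist H C hinv g (op ρ n v0) with e' | e'
          · rw [e, hn3] at e'
            exfalso
            have := congrArg (op ρ g⁻¹) e'
            rw [op_inv_op H C] at this
            nth_rewrite 2 [← hg] at this
            rw [op_inv_op H C] at this
            rw [hn2, hv0] at this
            exact absurd (nc_inj H C hlt2 hblt this) (by decide +kernel)
          · rw [e', e, hn3]
        rw [← e1, hgpol, hn2]
        exact hpol _ hs2
    have hc2 : perpB c = true := by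
      rw [hv0, polB_eq H C] at hp0
      rw [hn1, polB_eq H C] at hp1
      simp only [perpB, Bool.and_eq_true, Bool.not_eq_true']
      constructor
      · cases hh : polB base c
        · rfl
        · simp [hh] at hp0
      · cases hh : polB (scal base) c
        · rfl
        · simp [hh] at hp1
    have hset : ∀ a, a = v0 ∨ a = op ρ n v0 ∨ a = op ρ n (op ρ n v0) →
        op ρ g a = v0 ∨ op ρ g a = op ρ n v0 ∨ op ρ g a = op ρ n (op ρ n v0) := by
      intro a ha
      rcases ha with rfl | rfl | rfl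
      · exact Or.inl hg
      · rcases op_n_twist H C hinv g v0 with e | e <;> rw [hg] at e
        · exact Or.inr (Or.inl e)
        · exact Or.inr (Or.inr e)
      · rcases op_n_twist H C hinv g v0 with e | e <;>
          rcases op_n_twist H C hinv g (op ρ n v0) with e' | e' <;>
          rw [hg] at e <;> rw [e'] <;> rw [e] <;> simp [hn3]
    have hc3 : linked inP0 c = true := by
      obtain ⟨a, ha, haP⟩ : ∃ a, (a = v0 ∨ a = op ρ n v0 ∨ a = op ρ n (op ρ n v0)) ∧
          Pt H C (a + x) := by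
        rcases hL with hh | hh | hh
        exacts [⟨_, Or.inl rfl, hh⟩, ⟨_, Or.inr (Or.inl rfl), hh⟩, ⟨_, Or.inr (Or.inr rfl), hh⟩]
      have hPt := Pt_op H C hidx haP g
      rw [map_add, ← hce] at hPt
      simp only [linked, Bool.or_eq_true]
      rcases hset a ha with e | e | e
      · rw [e, hv0, ← nc_xor H C] at hPt
        exact Or.inl (Or.inl (inP0_of_Pt H C (xor_lt hblt hc) hPt))
      · rw [e, hn1, ← nc_xor H C] at hPt
        exact Or.inl (Or.inr (inP0_of_Pt H C (xor_lt hlt1 hc) hPt))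
      · rw [e, hn2, ← nc_xor H C] at hPt
        exact Or.inr (inP0_of_Pt H C (xor_lt hlt2 hc) hPt)
    have hs := allBelow_spec sound_ok c hc
    rw [hc1, hc2, hc3] at hs
    simp only [Bool.and_self, Bool.not_true, Bool.false_or, mem_iff] at hs
    rw [← hce]
    exact hmemU c hs
  let W : AddSubgroup V := Fix ρ (E1 H C) ⊓ (Fix ρ (E1 H C)).comap (op ρ g)
  have hW : 32 < Nat.card W := by
    classical
    obtain ⟨hnd, hlen⟩ := wList_ok
    have hu : ∀ w ∈ wList, w ∈ uList := fun w hw =>
      ((orb_facts H C).2.2.2.2.2.2 w (List.mem_of_mem_filter hw)).1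
    let f : wList.toFinset → W := fun w => ⟨nc s ν w.1,
      hmemU _ (hu _ (List.mem_toFinset.1 w.2)), himg _ (List.mem_toFinset.1 w.2)⟩
    have := Nat.card_le_card_of_injective f fun a b e => Subtype.ext (nc_inj H C
      (uList_spec H C (hu _ (List.mem_toFinset.1 a.2))).1
      (uList_spec H C (hu _ (List.mem_toFinset.1 b.2))).1 (congrArg Subtype.val e))
    rw [Nat.card_eq_finsetCard, List.toFinset_card_of_nodup hnd] at this
    omega
  have hWU : W = Fix ρ (E1 H C) := by
    refine AddSubgroup.eq_of_le_of_card_ge inf_le_left ?_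
    have hd : Nat.card W ∣ Nat.card (Fix ρ (E1 H C)) := AddSubgroup.card_dvd_of_le inf_le_left
    rw [card_Fix_E1 H C] at hd ⊢
    obtain ⟨k, hk⟩ := hd
    rcases Nat.lt_or_ge k 2 with hk2 | hk2
    · interval_cases k <;> omega
    · nlinarith
  intro u hu
  rw [← hWU] at hu
  exact hu.2

/-- An element mapping a vector of the eighteen into the fixed space normalises the subgroup. -/
theorem keep (hidx : Mb.index = 2) (hinv : ∀ t, t ∉ Mb → t * n * t⁻¹ = n⁻¹) {g : X} {c : ℕ}
    (hc : c ∈ u18) (hg : op ρ g (nc s ν c) ∈ Fix ρ (E1 H C)) :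
    g ∈ Subgroup.normalizer (E1 H C : Set X) := by
  classical
  obtain ⟨d, hd, hde⟩ := (mem_Fix_E1 H C).1 hg
  have hd18 : d ∈ u18 := by
    rcases (orb_facts H C).2.2.2.2.1 d hd with rfl | h' | h'
    · exfalso
      rw [nc_zero H C] at hde
      have e := congrArg (op ρ g⁻¹) hde
      rw [op_inv_op H C, map_zero, ← nc_zero H C] at e
      obtain ⟨hcU, hc0, -⟩ := (orb_facts H C).2.2.2.2.2.1 c hc
      exact hc0 (nc_inj H C (uList_spec H C hcU).1 (by norm_num) e)
    · exact h'
    · exfalso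
      refine not_Pt_u18 H C hidx hc ?_
      have := Pt_op H C hidx (hde ▸ Pt_u45 H C hidx h') g⁻¹
      rwa [op_inv_op H C] at this
  obtain ⟨a, -, haN, ha⟩ := trans18 H C hc
  obtain ⟨b, -, hbN, hb⟩ := trans18 H C hd18
  have hfix : op ρ (b⁻¹ * g * a) (nc s ν base) = nc s ν base := by
    rw [rho_mul, rho_mul, show nc s ν base = nc s ν (u18.getD 0 0) from rfl, ha, hde, ← hb,
      op_inv_op H C]
  set k := b⁻¹ * g * a with hk
  have hkU := fix_base H C hidx hinv hfix
  have hkN : k ∈ Subgroup.normalizer (E1 H C : Set X) := by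
    haveI : Finite V := Nat.finite_of_card_ne_zero (by rw [H.fx.card]; norm_num)
    haveI := Subgroup.normal_of_index_eq_two hidx
    set U := Fix ρ (E1 H C) with hU
    have hsurj : ∀ u ∈ U, ∃ u' ∈ U, op ρ k u' = u := by
      intro u hu
      let f : U → U := fun x => ⟨op ρ k x.1, hkU _ x.2⟩
      have hf : Function.Bijective f := (Finite.injective_iff_bijective).1 fun x y e => Subtype.ext (by
        have e' := congrArg (fun z : U => op ρ k⁻¹ z.1) e
        simpa only [f, op_inv_op H C] using e')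
      obtain ⟨x, hx⟩ := hf.2 ⟨u, hu⟩
      exact ⟨x, x.2, congrArg Subtype.val hx⟩
    have hiso : ∀ a ∈ U, ∀ b ∈ U, pol q a b = 0 := fun a ha b hb => by
      simp [pol, Fix_E1_sing H C a ha, Fix_E1_sing H C b hb,
        Fix_E1_sing H C _ (U.add_mem ha hb)]
    let K : Subgroup X :=
      { carrier := {x | x ∈ Mb ∧ ∀ u ∈ U, op ρ x u = u}
        one_mem' := ⟨one_mem _, fun u _ => rho_one ρ u⟩
        mul_mem' := fun {a b} ha hb => ⟨mul_mem ha.1 hb.1, fun u hu => by
          rw [rho_mul, hb.2 u hu, ha.2 u hu]⟩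
        inv_mem' := fun {a} ha => ⟨inv_mem ha.1, fun u hu => by
          conv_lhs => rw [← ha.2 u hu]
          rw [op_inv_op H C]⟩ }
    have hd' : ∀ x ∈ K, ∀ v, op ρ x v + v ∈ U := by
      intro x hx v
      have hperp : ∀ u ∈ U, pol q (op ρ x v + v) u = 0 := fun u hu => by
        have h1 : pol q (op ρ x v) (op ρ x u) = pol q v u := by
          simp only [pol, ← map_add, H.inv]
        rw [hx.2 u hu] at h1
        rw [H.fx.addl, h1]
        exact (by decide : ∀ a : ZMod 2, a + a = 0) _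
      by_contra hw
      let U' : AddSubgroup V := U ⊔ AddSubgroup.zmultiples (op ρ x v + v)
      have hgen : ∀ p ∈ U', ∀ u ∈ U, pol q p u = 0 := by
        intro p hp u hu
        obtain ⟨y, hy, w, hw', rfl⟩ := AddSubgroup.mem_sup.1 hp
        obtain ⟨m, rfl⟩ := AddSubgroup.mem_zmultiples_iff.1 hw'
        rw [H.fx.addl, hiso y hy u hu, zero_add]
        rcases Int.even_or_odd m with ⟨j, rfl⟩ | ⟨j, rfl⟩
        · rw [add_zsmul, H.fx.two]; exact H.fx.pol_zero_left u
        · rw [add_zsmul, two_mul, add_zsmul, H.fx.two, one_zsmul, zero_add]; exact hperp u hu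
      have hi : ∀ a ∈ U', ∀ b ∈ U', pol q a b = 0 := by
        intro a ha b hb
        obtain ⟨y, hy, w, hw', rfl⟩ := AddSubgroup.mem_sup.1 hb
        obtain ⟨m, rfl⟩ := AddSubgroup.mem_zmultiples_iff.1 hw'
        rw [H.fx.addr, hgen a ha y hy, zero_add]
        rcases Int.even_or_odd m with ⟨j, rfl⟩ | ⟨j, rfl⟩
        · rw [add_zsmul, H.fx.two, pol_comm]; exact H.fx.pol_zero_left a
        · rw [add_zsmul, two_mul, add_zsmul, H.fx.two, one_zsmul, zero_add]
          obtain ⟨y', hy', w', hw'', rfl⟩ := AddSubgroup.mem_sup.1 ha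
          obtain ⟨m', rfl⟩ := AddSubgroup.mem_zmultiples_iff.1 hw''
          rw [H.fx.addl, pol_comm, hperp y' hy', zero_add]
          rcases Int.even_or_odd m' with ⟨j', rfl⟩ | ⟨j', rfl⟩
          · rw [add_zsmul, H.fx.two]; exact H.fx.pol_zero_left _
          · rw [add_zsmul, two_mul, add_zsmul, H.fx.two, one_zsmul, zero_add]
            exact H.fx.pol_self _
      have h64 := card_iso H.fx U' hi
      have hlt : U < U' := lt_of_le_of_ne le_sup_left fun e => hw (e ▸ AddSubgroup.mem_sup_right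
        (AddSubgroup.mem_zmultiples _))
      have := Set.ncard_lt_ncard (SetLike.coe_ssubset_coe.2 hlt) (Set.toFinite _)
      rw [← Nat.card_coe_set_eq, ← Nat.card_coe_set_eq] at this
      simp only [SetLike.coe_sort_coe] at this
      rw [hU, card_Fix_E1 H C] at this
      omega
    have hext : ∀ x y : X, (∀ w, op ρ x w = op ρ y w) → x = y := fun x y hxy =>
      mul_inv_eq_one.1 (H.faith (x * y⁻¹) fun w => by
        rw [rho_mul, hxy, ← rho_mul, mul_inv_cancel, rho_one])
    have hprod : ∀ x ∈ K, ∀ y ∈ K, ∀ v, op ρ (x * y) v = op ρ x v + (op ρ y v + v) :=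
      fun x hx y hy v => by
        have e0 : op ρ y v = v + (op ρ y v + v) := by
          rw [add_comm (op ρ y v) v, ← add_assoc, H.fx.two, zero_add]
        rw [rho_mul]
        conv_lhs => rw [e0]
        rw [map_add, hx.2 _ (hd' y hy v)]
    have hsq : ∀ x ∈ K, x * x = 1 := fun x hx => hext _ _ fun w => by
      rw [hprod x hx x hx, rho_one, ← add_assoc, H.fx.two, zero_add]
    have hcomm' : ∀ x ∈ K, ∀ y ∈ K, x * y = y * x := fun x hx y hy => hext _ _ fun w => by
      rw [hprod x hx y hy, hprod y hy x hx]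
      abel
    have hE1K : E1 H C ≤ K := fun x hx =>
      ⟨(E1_le H C).trans (T0_le H C) hx, fun u hu => hu x hx⟩
    have hKE : K = E1 H C := (Subgroup.eq_of_le_of_card_ge hE1K
      ((card_le_sixteen H C (show K ≤ Mb from fun x hx => hx.1) hsq hcomm').trans
        (card_E1 H C).ge)).symm
    refine mem_normalizer H C fun x hx => hKE.le ⟨(inferInstance : Mb.Normal).conj_mem x
      ((E1_le H C).trans (T0_le H C) hx) k, fun u hu => ?_⟩
    obtain ⟨u', hu', rfl⟩ := hsurj u hu
    rw [← rho_mul, inv_mul_cancel_right, rho_mul, hu' x hx]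
  have : g = b * k * a⁻¹ := by rw [hk]; group
  rw [this]
  exact mul_mem (mul_mem hbN hkN) (inv_mem haN)

end Abstract

variable {G : Type u} [Group G] [Finite G] {z : G} {P : Subgroup G}
variable {V : Type u} [AddCommGroup V] {zc : ↥(HH z)}
  {π : ↥(HH z) → V} {ρ : ↥(HH z) ⧸ QQ z →* AddMonoid.End V}
  {q : V → ZMod 2} {n : ↥(HH z) ⧸ QQ z}
  {Mb : Subgroup (↥(HH z) ⧸ QQ z)}
variable (D : Data z P zc π ρ q n Mb)
variable {F : Type} [Field F] [Fintype F] {s : F} {h : S4 s} {ν : (Fin 6 → F) → V}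
  (C : J4Syl18.Coord h ρ q n Mb ν)
include D C

/-- Centralising an element outside `O₂`. -/
theorem cent_outside {a g : ↥(HH z)} (ha : a ∈ AA D C) (haQ : a ∉ QQ z) (hga : g * a = a * g) :
    g ∈ NA D C := by
  obtain ⟨i, hi, hei⟩ := ((mem_AE D).1 ha).1
  have hi0 : i ≠ 0 := by
    rintro rfl
    rw [tau_zero (hyp D) C] at hei
    exact haQ ((QuotientGroup.eq_one_iff _).1 hei)
  obtain ⟨k, -, hkn, hke⟩ := E1_trans (hyp D) C hi hi0
  have hkN := mem_normalizer (hyp D) C hkn
  set m := k⁻¹ * mk z g * k with hm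
  have hcomm : m * tau s ρ ν 1 = tau s ρ ν 1 * m := by
    have e : mk z g * mk z a = mk z a * mk z g := by rw [← map_mul, ← map_mul, hga]
    rw [hei, ← hke] at e
    have := congrArg (fun x => k⁻¹ * x * k) e
    rw [hm]
    simpa [mul_assoc] using this
  set c := Nat.xor (LFCheck89.app (J4Check18.el 1) 5) 5 with hc
  have hc18 : c ∈ u18 := mem_iff.1 image_ok
  have hcv : nc s ν c = op ρ (tau s ρ ν 1) (nc s ν 5) + nc s ν 5 := by
    rw [hc, nc_xor (hyp D) C, op_tau_nc (hyp D) C (by norm_num)]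
  obtain ⟨a1, ha1, he1⟩ : tau s ρ ν 1 ∈ (AA D C).map (mk z) :=
    (AA_facts D C).2.2.1 ▸ ⟨_, eOne_zero.2, rfl⟩
  have hmem : op ρ m (nc s ν c) ∈ Fix ρ (E1 (hyp D) C) := by
    rw [hcv, map_add, ← rho_mul, hcomm, rho_mul]
    have := range_le_U D C ha1 (op ρ m (nc s ν 5))
    rwa [he1] at this
  have hmN := keep (hyp D) C D.index_two D.invert hc18 hmem
  rw [NA, Subgroup.mem_comap]
  have : mk z g = k * m * k⁻¹ := by rw [hm]; group
  rw [this]
  exact mul_mem (mul_mem hkN hmN) (inv_mem hkN)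

/-- Centralising an element over a vector of the eighteen. -/
theorem cent_inside {a g : ↥(HH z)} (ha : a ∈ QQ z) {c : ℕ} (hc : c ∈ u18)
    (hac : π a = nc s ν c) (hga : g * a = a * g) : g ∈ NA D C := by
  refine keep (hyp D) C D.index_two D.invert hc ?_
  have : op ρ (mk z g) (π a) = π a := by
    rw [← act D g ha, hga, mul_inv_cancel_right]
  rw [← hac, this, hac]
  exact (mem_Fix_E1 (hyp D) C).2 ⟨c, ((orb_facts (hyp D) C).2.2.2.2.2.1 c hc).1, rfl⟩

end Cfsg.Agent.J4SecondLocal73
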