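import Mathlib

/-!
The centraliser of an involution of the second class lying in an elementary abelian subgroup `V`
of order `2 ^ 11` (Janko four configuration) normalises `V`.

Only elementary facts about the conjugation action on `V` are used, collected in `SecHyp`.
Let `A` be the set of elements of `V` conjugate to `z` whose product with `t` is not.  Its size is
odd, so every `2`-subgroup of the normaliser fixes a member of `A`.  Elements of `V` conjugate to
`z` are strongly closed in the normaliser, and a downward induction on elementary abelian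
subgroups containing `t`, using dihedral groups generated by two non-conjugate involutions, shows
that the centraliser of `t` normalises `V`.
-/

set_option autoImplicit false
set_option linter.unusedSectionVars false
set_option linter.style.haveILetI false

namespace Cfsg.Agent.JFourSecond73

variable {G : Type*} [Group G] [Finite G]

/-- An element conjugate to `z` whose product with `t` is not conjugate to `z`. -/
def IsA (z t g : G) : Prop := IsConj z g ∧ ¬ IsConj z (g * t)

/-- The facts used about `z`, `t` and `V`. -/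
structure SecHyp (z t : G) (V : Subgroup G) : Prop where
  tV : t ∈ V
  sq : ∀ v ∈ V, v * v = 1
  comm : ∀ v ∈ V, ∀ w ∈ V, Commute v w
  card : Nat.card ↥V = 2 ^ 11
  nz : ¬ IsConj z t
  z1 : ¬ IsConj z 1
  wc : ∀ g : G, (∀ v ∈ V, g * v * g⁻¹ ∈ Subgroup.normalizer (V : Set G)) →
    g ∈ Subgroup.normalizer (V : Set G)
  loc : ∀ s ∈ V, IsConj z s → ∀ g : G, Commute g t → Commute g s →
    g ∈ Subgroup.normalizer (V : Set G)
  odd : Odd (Nat.card {a : G // a ∈ V ∧ IsA z t a})
  k1 : ∀ a ∈ V, IsA z t a → ∀ e ∈ V, e ≠ 1 → ¬ IsConj z e → ¬ IsConj z (e * t) →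
    ¬ IsA z t (a * e)
  k2 : ∀ d ∈ V, ∀ e ∈ V, d ≠ 1 → d ≠ t → ¬ IsConj z d → ¬ IsConj z (d * t) →
    e ≠ 1 → e ≠ t → ¬ IsConj z e → ¬ IsConj z (e * t) →
    e ≠ d → e ≠ d * t → IsConj z (d * e) ∨ IsConj z (d * e * t)
  ex : ∀ e ∈ V, ¬ IsConj z e → ¬ IsConj z (e * t) →
    ∃ s ∈ V, IsConj z s ∧ IsConj z (s * t) ∧ ¬ IsA z t (s * e) ∧ ¬ IsA z t (s * e * t)
  faith : ∀ x y : G, x ∈ Subgroup.normalizer (V : Set G) → Commute x t →
    y ∈ Subgroup.normalizer (V : Set G) → Commute y t → x * x = 1 → y * y = 1 →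
    x ∉ V → Commute x y → (∀ a ∈ V, IsA z t a → Commute x a → Commute y a) →
    y ∈ V ∨ x * y ∈ V

/-! ### Generalities -/

omit [Finite G] in
theorem isConj_conj {z x g : G} : IsConj z (g * x * g⁻¹) ↔ IsConj z x := by
  have h : IsConj x (g * x * g⁻¹) := isConj_iff.mpr ⟨g, rfl⟩
  exact ⟨fun h' => h'.trans h.symm, fun h' => h'.trans h⟩

omit [Finite G] in
theorem conj_mul {t x g : G} (hg : Commute g t) : g * x * g⁻¹ * t = g * (x * t) * g⁻¹ := by
  rw [mul_assoc (g * x), hg.inv_left.eq]
  group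

omit [Finite G] in
theorem isA_conj {z t x g : G} (hg : Commute g t) : IsA z t (g * x * g⁻¹) ↔ IsA z t x := by
  unfold IsA
  rw [conj_mul hg, isConj_conj, isConj_conj]

omit [Finite G] in
theorem commute_conj {g x y : G} (h : Commute x y) : Commute (g * x * g⁻¹) (g * y * g⁻¹) :=
  (Commute.conj_iff g).mpr h

omit [Finite G] in
theorem eq_inv_of_sq {x : G} (h : x * x = 1) : x⁻¹ = x := inv_eq_of_mul_eq_one_right h

/-- The fixed points of an involution on an elementary abelian group are at least its square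
root. -/
theorem card_le_sq {W : Subgroup G} (hsq : ∀ v ∈ W, v * v = 1)
    (hc : ∀ v ∈ W, ∀ w ∈ W, Commute v w) {a : G} (ha : a * a = 1)
    (hn : ∀ v ∈ W, a * v * a⁻¹ ∈ W) :
    Nat.card ↥W ≤ (Nat.card ↥(W ⊓ Subgroup.centralizer ({a} : Set G))) ^ 2 := by
  let f : ↥W →* ↥W :=
    { toFun := fun v => ⟨(v : G) * (a * v * a⁻¹), W.mul_mem v.2 (hn _ v.2)⟩
      map_one' := by
        apply Subtype.ext
        simp
      map_mul' := fun v w => by
        apply Subtype.ext
        show (v : G) * w * (a * (v * w) * a⁻¹) = v * (a * v * a⁻¹) * (w * (a * w * a⁻¹))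
        have e := (hc _ w.2 _ (hn _ v.2)).eq
        calc (v : G) * w * (a * (v * w) * a⁻¹)
            = v * ((w : G) * (a * v * a⁻¹)) * (a * w * a⁻¹) := by group
          _ = v * ((a * v * a⁻¹) * w) * (a * w * a⁻¹) := by rw [e]
          _ = v * (a * v * a⁻¹) * (w * (a * w * a⁻¹)) := by group }
  have hker : ∀ v : ↥W, v ∈ f.ker ↔ Commute a (v : G) := by
    intro v
    rw [MonoidHom.mem_ker, Subtype.ext_iff]
    show (v : G) * (a * v * a⁻¹) = 1 ↔ _
    rw [mul_eq_one_iff_eq_inv', eq_inv_of_sq (hsq _ v.2), mul_inv_eq_iff_eq_mul]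
    exact Iff.rfl
  have hrange : f.range ≤ f.ker := by
    rintro _ ⟨v, rfl⟩
    rw [hker]
    show a * ((v : G) * (a * v * a⁻¹)) = v * (a * v * a⁻¹) * a
    rw [(hc _ v.2 _ (hn _ v.2)).eq, eq_inv_of_sq ha]
    calc a * (a * (v : G) * a * v) = a * a * v * a * v := by group
      _ = v * a * v := by rw [ha, one_mul]
      _ = a * (v : G) * a * v * a := by
        have e := (hc _ v.2 _ (hn _ v.2)).eq
        rw [eq_inv_of_sq ha] at e
        calc (v : G) * a * v = v * a * v * (a * a) := by rw [ha, mul_one]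
          _ = (v * (a * v * a)) * a := by group
          _ = a * (v : G) * a * v * a := by rw [e]
  have h1 : Nat.card ↥f.ker ≤ Nat.card ↥(W ⊓ Subgroup.centralizer ({a} : Set G)) := by
    refine Nat.card_le_card_of_injective
      (fun v => ⟨((v : ↥W) : G), (v : ↥W).2, Subgroup.mem_centralizer_singleton_iff.mpr ?_⟩) ?_
    · exact ((hker _).mp v.2).symm.eq
    · intro v w h
      exact Subtype.ext (Subtype.ext (Subtype.ext_iff.mp h :))
  have h2 : Nat.card ↥f.range ≤ Nat.card ↥f.ker :=
    Nat.card_le_card_of_injective _ (Subgroup.inclusion_injective hrange)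
  rw [← f.ker.index_mul_card, Subgroup.index_ker, sq]
  exact Nat.mul_le_mul (h2.trans h1) h1

variable {z t : G} {V : Subgroup G}

theorem SecHyp.t_sq (h : SecHyp z t V) : t * t = 1 := h.sq t h.tV

/-- A `2`-group in the normaliser centralising `t` fixes an element of `A`. -/
theorem SecHyp.fixed (h : SecHyp z t V) (E : Subgroup G) (hE : IsPGroup 2 ↥E)
    (hN : E ≤ Subgroup.normalizer (V : Set G)) (ht : ∀ e ∈ E, Commute e t) :
    ∃ a ∈ V, IsA z t a ∧ ∀ e ∈ E, Commute e a := by
  letI act : MulAction ↥E {a : G // a ∈ V ∧ IsA z t a} :=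
    { smul := fun e a => ⟨(e : G) * a * (e : G)⁻¹,
        (Subgroup.mem_normalizer_iff.mp (hN e.2) _).mp a.2.1, (isA_conj (ht e e.2)).mpr a.2.2⟩
      one_smul := fun a => Subtype.ext (by
        show ((1 : ↥E) : G) * a * ((1 : ↥E) : G)⁻¹ = a
        simp)
      mul_smul := fun e f a => Subtype.ext (by
        show ((e * f : ↥E) : G) * a * ((e * f : ↥E) : G)⁻¹ =
          (e : G) * ((f : G) * a * (f : G)⁻¹) * (e : G)⁻¹
        rw [Subgroup.coe_mul]
        group) }
  haveI := Fact.mk Nat.prime_two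
  obtain ⟨a, ha⟩ := hE.nonempty_fixed_point_of_prime_not_dvd_card
    {a : G // a ∈ V ∧ IsA z t a} (by
      obtain ⟨k, hk⟩ := h.odd
      omega)
  refine ⟨a.1, a.2.1, a.2.2, fun e he => ?_⟩
  have e' : e * (a : G) * e⁻¹ = a := congrArg Subtype.val (ha ⟨e, he⟩)
  exact mul_inv_eq_iff_eq_mul.mp e'

omit [Finite G] in
theorem isPGroup_zpowers {x : G} (hx : x * x = 1) : IsPGroup 2 ↥(Subgroup.zpowers x) := by
  intro g
  obtain ⟨k, hk⟩ := Subgroup.mem_zpowers_iff.mp g.2
  refine ⟨1, Subtype.ext ?_⟩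
  rw [Subgroup.coe_pow, ← hk, pow_one, ← zpow_natCast, ← zpow_mul, mul_comm, zpow_mul]
  simp [pow_two, hx]

/-- Conjugates in the normaliser of elements of `V` conjugate to `z` lie in `V`. -/
theorem SecHyp.closure (h : SecHyp z t V) {g u : G} (hg : Commute g t) (hu : u ∈ V)
    (huz : IsConj z u) (hx : g * u * g⁻¹ ∈ Subgroup.normalizer (V : Set G)) :
    g * u * g⁻¹ ∈ V := by
  by_contra hxV
  set x := g * u * g⁻¹ with hxdef
  have hxz : IsConj z x := isConj_conj.mpr huz
  have htg : g * t * g⁻¹ = t := by rw [hg.eq, mul_inv_cancel_right]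
  have hxt : Commute x t := by
    have := commute_conj (g := g) (h.comm u hu t h.tV)
    rwa [htg] at this
  have hx2 : x * x = 1 := by
    calc x * x = g * (u * u) * g⁻¹ := by rw [hxdef]; group
      _ = 1 := by rw [h.sq u hu]; group
  -- elements commuting with `x` and `t` normalise the conjugate of `V`
  have hconjN : ∀ a : G, Commute a x → Commute a t → ∀ v ∈ V,
      g⁻¹ * (a * (g * v * g⁻¹) * a⁻¹) * g ∈ V := by
    intro a hax hat v hv
    have h1 : Commute (g⁻¹ * a * g) u := by
      have := commute_conj (g := g⁻¹) hax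
      simpa [hxdef, mul_assoc] using this
    have h2 : Commute (g⁻¹ * a * g) t := (hg.inv_left.mul_left hat).mul_left hg
    have h3 := (Subgroup.mem_normalizer_iff.mp (h.loc u hu huz _ h2 h1) v).mp hv
    convert h3 using 1
    group
  -- a member of `A` fixed by `x`
  obtain ⟨a, haV, haA, hax⟩ := h.fixed (Subgroup.zpowers x) (isPGroup_zpowers hx2)
    (Subgroup.zpowers_le.mpr hx) (fun e he => by
      obtain ⟨k, rfl⟩ := Subgroup.mem_zpowers_iff.mp he
      exact hxt.zpow_left k)
  have hax' : Commute x a := hax x (Subgroup.mem_zpowers x)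
  -- the common part of `V` and its conjugate has no element conjugate to `z`
  have hD : ∀ v ∈ V, g * v * g⁻¹ ∈ V → ¬ IsConj z (g * v * g⁻¹) := by
    intro v hv hgv hz'
    refine hxV ((Subgroup.mem_normalizer_iff.mp (h.wc g fun w hw => ?_) u).mp hu)
    refine h.loc _ hgv hz' _ ?_ (commute_conj (h.comm w hw v hv))
    have := commute_conj (g := g) (h.comm w hw t h.tV)
    rwa [htg] at this
  have hDt : ∀ v ∈ V, g * v * g⁻¹ ∈ V → ¬ IsConj z (g * v * g⁻¹ * t) := by
    intro v hv hgv
    rw [conj_mul hg]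
    refine hD _ (V.mul_mem hv h.tV) ?_
    rw [← conj_mul hg]
    exact V.mul_mem hgv h.tV
  -- an element of the conjugate in the normaliser, outside `V` and `x V`
  set a' := g⁻¹ * a * g with ha'
  have ha't : Commute a' t := (hg.inv_left.mul_left (h.comm a haV t h.tV)).mul_left hg
  have ha'u : Commute a' u := by
    have := commute_conj (g := g⁻¹) hax'.symm
    simpa [hxdef, ha', mul_assoc] using this
  have ha'2 : a' * a' = 1 := by
    calc a' * a' = g⁻¹ * (a * a) * g := by rw [ha']; group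
      _ = 1 := by rw [h.sq a haV]; group
  set K := V ⊓ Subgroup.centralizer ({a'} : Set G) with hK
  have hKcard : 2 ^ 11 ≤ Nat.card ↥K ^ 2 := h.card ▸ card_le_sq h.sq h.comm ha'2
    (fun v hv => (Subgroup.mem_normalizer_iff.mp (h.loc u hu huz _ ha't ha'u) v).mp hv)
  have hex : ∃ w ∈ K, g * w * g⁻¹ ∉ V ∧ x * (g * w * g⁻¹) ∉ V := by
    by_contra hno
    push Not at hno
    set S := {w : G | w ∈ K ∧ g * w * g⁻¹ ∈ V} with hS
    have hSc : S.ncard ≤ 4 := by
      by_cases hnt : ∃ w ∈ S, w ≠ 1 ∧ w ≠ t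
      · obtain ⟨w₀, ⟨hw₀, hw₀V⟩, n1, n2⟩ := hnt
        have hsub : S ⊆ {1, t, w₀, w₀ * t} := by
          rintro w ⟨hw, hwV⟩
          simp only [Set.mem_insert_iff, Set.mem_singleton_iff]
          by_contra hne
          push Not at hne
          obtain ⟨m1, m2, m3, m4⟩ := hne
          have inj : ∀ p q : G, g * p * g⁻¹ = g * q * g⁻¹ → p = q := by
            intro p q e
            simpa using e
          have c1 : g * 1 * g⁻¹ = 1 := by group
          have hprod : g * w₀ * g⁻¹ * (g * w * g⁻¹) = g * (w₀ * w) * g⁻¹ := by group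
          have hp1 := hD _ (V.mul_mem hw₀.1 hw.1) (hprod ▸ V.mul_mem hw₀V hwV)
          have hp2 := hDt _ (V.mul_mem hw₀.1 hw.1) (hprod ▸ V.mul_mem hw₀V hwV)
          rcases h.k2 _ hw₀V _ hwV (fun e => n1 (inj _ _ (e.trans c1.symm)))
            (fun e => n2 (inj _ _ (e.trans htg.symm))) (hD _ hw₀.1 hw₀V) (hDt _ hw₀.1 hw₀V)
            (fun e => m1 (inj _ _ (e.trans c1.symm))) (fun e => m2 (inj _ _ (e.trans htg.symm)))
            (hD _ hw.1 hwV) (hDt _ hw.1 hwV) (fun e => m3 (inj _ _ e))
            (fun e => m4 (inj _ _ (e.trans (by rw [conj_mul hg])))) with hh | hh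
          · exact hp1 (hprod ▸ hh)
          · exact hp2 (hprod ▸ hh)
        refine (Set.ncard_le_ncard hsub).trans ((Set.ncard_insert_le _ _).trans ?_)
        refine Nat.succ_le_succ ((Set.ncard_insert_le _ _).trans (Nat.succ_le_succ ?_))
        exact (Set.ncard_insert_le _ _).trans (by simp)
      · push Not at hnt
        have hsub : S ⊆ {1, t} := by
          intro w hw
          simp only [Set.mem_insert_iff, Set.mem_singleton_iff]
          exact or_iff_not_imp_left.mpr (hnt w hw)
        exact (Set.ncard_le_ncard hsub).trans ((Set.ncard_insert_le _ _).trans (by simp))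
    have hKS : Nat.card ↥K ≤ 8 := by
      by_cases hall : ∀ w ∈ K, g * w * g⁻¹ ∈ V
      · have : (K : Set G) ⊆ S := fun w hw => ⟨hw, hall w hw⟩
        have := Set.ncard_le_ncard this
        rw [← Nat.card_coe_set_eq] at this
        exact this.trans (hSc.trans (by norm_num))
      · push Not at hall
        obtain ⟨w₁, hw₁, hw₁V⟩ := hall
        have : (K : Set G) ⊆ S ∪ (fun w => w₁ * w) '' S := by
          intro w hw
          by_cases hwV : g * w * g⁻¹ ∈ V
          · exact Or.inl ⟨hw, hwV⟩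
          · refine Or.inr ⟨w₁⁻¹ * w, ⟨K.mul_mem (K.inv_mem hw₁) hw, ?_⟩, by
              simp [← mul_assoc]⟩
            have := V.mul_mem (V.inv_mem (hno w₁ hw₁ hw₁V)) (hno w hw hwV)
            simpa [mul_assoc] using this
        have := (Set.ncard_le_ncard this).trans (Set.ncard_union_le _ _)
        rw [← Nat.card_coe_set_eq] at this
        have h' := Set.ncard_image_le (f := fun w => w₁ * w) (s := S) (Set.toFinite _)
        exact this.trans (by omega)
    have := Nat.pow_le_pow_left hKS 2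
    norm_num at hKcard this
    omega
  obtain ⟨w, hw, hy1, hy2⟩ := hex
  set y := g * w * g⁻¹ with hydef
  have hyt : Commute y t := by
    have := commute_conj (g := g) (h.comm w hw.1 t h.tV)
    rwa [htg] at this
  have hya : Commute y a := by
    have h1 : Commute w a' := Subgroup.mem_centralizer_singleton_iff.mp hw.2
    have := commute_conj (g := g) h1
    simpa [hydef, ha', mul_assoc] using this
  have hyN := h.loc a haV haA.1 y hyt hya
  have hxy : Commute x y := commute_conj (h.comm u hu w hw.1)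
  have hy2' : y * y = 1 := by
    calc y * y = g * (w * w) * g⁻¹ := by rw [hydef]; group
      _ = 1 := by rw [h.sq w hw.1]; group
  rcases h.faith x y hx hxt hyN hyt hx2 hy2' hxV hxy (fun b hbV hbA hbx => by
    set d := y * b * y⁻¹ * b⁻¹ with hd
    have hd1 : d ∈ V :=
      V.mul_mem ((Subgroup.mem_normalizer_iff.mp hyN b).mp hbV) (V.inv_mem hbV)
    have hd2 : g⁻¹ * d * g ∈ V := by
      have h1 := hconjN b hbx.symm (h.comm b hbV t h.tV) w⁻¹ (V.inv_mem hw.1)
      convert V.mul_mem hw.1 h1 using 1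
      rw [hd, hydef]
      group
    have hd3 : g * (g⁻¹ * d * g) * g⁻¹ = d := by group
    by_cases hd0 : d = 1
    · exact mul_inv_eq_iff_eq_mul.mp (mul_inv_eq_one.mp hd0)
    · have p1 := hD _ hd2 (by rw [hd3]; exact hd1)
      have p2 := hDt _ hd2 (by rw [hd3]; exact hd1)
      rw [hd3] at p1 p2
      have e : b * d = y * b * y⁻¹ := by
        rw [(h.comm b hbV d hd1).eq, hd, inv_mul_cancel_right]
      exact absurd (e ▸ (isA_conj hyt).mpr hbA) (h.k1 b hbV hbA d hd1 hd0 p1 p2)) with hh | hh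
  · exact hy1 hh
  · exact hy2 hh

/-- An element of `V` conjugate to `z` fixes only one conjugate of `V`. -/
theorem SecHyp.fix (h : SecHyp z t V) {g s : G} (hg : Commute g t) (hs : s ∈ V)
    (hsz : IsConj z s) (hx : g * s * g⁻¹ ∈ Subgroup.normalizer (V : Set G)) :
    g ∈ Subgroup.normalizer (V : Set G) := by
  refine h.wc g fun v hv => h.loc _ (h.closure hg hs hsz hx) (isConj_conj.mpr hsz) _ ?_
    (commute_conj (h.comm v hv s hs))
  have := commute_conj (g := g) (h.comm v hv t h.tV)
  rwa [show g * t * g⁻¹ = t by rw [hg.eq, mul_inv_cancel_right]] at this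

/-- Involutions of a subgroup centralising `t` and containing an element of `V` conjugate to `z`
are conjugate into the normaliser. -/
theorem SecHyp.conj_into (h : SecHyp z t V) (Y : Subgroup G) (hY : ∀ y ∈ Y, Commute y t) {u : G}
    (huY : u ∈ Y) (hu : u ∈ V) (huz : IsConj z u) {v : G} (hv : v ∈ Y) (hv2 : v * v = 1) :
    ∃ y ∈ Y, y * v * y⁻¹ ∈ Subgroup.normalizer (V : Set G) := by
  haveI := Fact.mk Nat.prime_two
  set Q := (Subgroup.normalizer (V : Set G)).subgroupOf Y with hQ
  have huQ : (⟨u, huY⟩ : ↥Y) ∈ Q := by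
    rw [hQ, Subgroup.mem_subgroupOf]
    exact h.loc u hu huz u (hY u huY) (Commute.refl u)
  obtain ⟨T, hT⟩ := (isPGroup_zpowers (x := (⟨⟨u, huY⟩, huQ⟩ : ↥Q))
    (Subtype.ext (Subtype.ext (h.sq u hu)))).exists_le_sylow
  obtain ⟨P, hP⟩ := (T.isPGroup'.map Q.subtype).exists_le_sylow
  have hTP : (T : Subgroup ↥Q).map Q.subtype = (P : Subgroup ↥Y) := by
    by_contra hne
    haveI : Group.IsNilpotent ↥(P : Subgroup ↥Y) := P.isPGroup'.isNilpotent
    set T' := ((T : Subgroup ↥Q).map Q.subtype).subgroupOf (P : Subgroup ↥Y) with hT'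
    have hlt : T' < ⊤ := lt_top_iff_ne_top.mpr fun e =>
      hne (le_antisymm hP (Subgroup.subgroupOf_eq_top.mp e))
    obtain ⟨n, hn, hnT⟩ := Set.exists_of_ssubset
      (SetLike.coe_ssubset_coe.mpr (Group.normalizerCondition_of_isNilpotent T' hlt))
    have hu' : (⟨⟨u, huY⟩, hP ⟨⟨⟨u, huY⟩, huQ⟩, hT (Subgroup.mem_zpowers _), rfl⟩⟩ :
        ↥(P : Subgroup ↥Y)) ∈ T' :=
      Subgroup.mem_subgroupOf.mpr ⟨⟨⟨u, huY⟩, huQ⟩, hT (Subgroup.mem_zpowers _), rfl⟩
    have h1 := Subgroup.mem_subgroupOf.mp ((Subgroup.mem_normalizer_iff.mp hn _).mp hu')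
    obtain ⟨q, -, hq⟩ := h1
    have hnN : ((n : ↥Y) : G) ∈ Subgroup.normalizer (V : Set G) := by
      refine h.fix (hY _ (n : ↥Y).2) hu huz ?_
      have e := congrArg Subtype.val hq
      have := Subgroup.mem_subgroupOf.mp q.2
      simp only [Subgroup.coe_subtype, Subgroup.coe_mul, InvMemClass.coe_inv] at e
      rw [← e]
      exact this
    have hnQ : (n : ↥Y) ∈ Q := Subgroup.mem_subgroupOf.mpr hnN
    have hR : IsPGroup 2 ↥((P : Subgroup ↥Y).subgroupOf Q) :=
      P.isPGroup'.comap_of_injective Q.subtype Subtype.val_injective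
    have hTle : (T : Subgroup ↥Q) ≤ (P : Subgroup ↥Y).subgroupOf Q := fun q hq' =>
      Subgroup.mem_subgroupOf.mpr (hP ⟨q, hq', rfl⟩)
    have := T.is_maximal' hR hTle
    refine hnT (Subgroup.mem_subgroupOf.mpr ⟨⟨(n : ↥Y), hnQ⟩, ?_, rfl⟩)
    rw [← this]
    exact Subgroup.mem_subgroupOf.mpr n.2
  obtain ⟨P', hP'⟩ := (isPGroup_zpowers (x := (⟨v, hv⟩ : ↥Y))
    (Subtype.ext hv2)).exists_le_sylow
  obtain ⟨y, hy⟩ := MulAction.exists_smul_eq ↥Y P' P
  have hvP : (MulAut.conj y) ⟨v, hv⟩ ∈ (P : Subgroup ↥Y) := by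
    rw [← hy, Sylow.coe_subgroup_smul]
    exact Subgroup.smul_mem_pointwise_smul _ _ _ (hP' (Subgroup.mem_zpowers _))
  rw [← hTP] at hvP
  obtain ⟨q, -, hq⟩ := hvP
  refine ⟨y, y.2, ?_⟩
  have := Subgroup.mem_subgroupOf.mp q.2
  have e := congrArg Subtype.val hq
  simp only [Subgroup.coe_subtype, MulAut.conj_apply, Subgroup.coe_mul, InvMemClass.coe_inv] at e
  rw [← e]
  exact this

/-! ### The induction -/

/-- Elementary abelian subgroups of the normaliser containing `t`. -/
structure Elem (t : G) (V E : Subgroup G) : Prop where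
  tE : t ∈ E
  le : E ≤ Subgroup.normalizer (V : Set G)
  comm : ∀ e ∈ E, ∀ f ∈ E, Commute e f
  sq : ∀ e ∈ E, e * e = 1

omit [Finite G] in
theorem Elem.isPGroup {E : Subgroup G} (hE : Elem t V E) : IsPGroup 2 ↥E := fun e =>
  ⟨1, Subtype.ext (by simp [pow_two, hE.sq e e.2])⟩

omit [Finite G] in
/-- Adjoining a commuting involution to an elementary abelian subgroup. -/
theorem Elem.extend {E : Subgroup G} (hE : Elem t V E) {a : G}
    (ha : a ∈ Subgroup.normalizer (V : Set G)) (ha2 : a * a = 1) (hc : ∀ e ∈ E, Commute a e) :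
    ∃ F : Subgroup G, Elem t V F ∧ a ∈ F ∧ E ≤ F ∧
      ∀ f ∈ F, ∃ e ∈ E, f = e ∨ f = e * a := by
  refine ⟨{ carrier := {f | ∃ e ∈ E, f = e ∨ f = e * a}
            one_mem' := ⟨1, E.one_mem, Or.inl rfl⟩
            mul_mem' := ?_
            inv_mem' := ?_ }, ⟨⟨t, hE.tE, Or.inl rfl⟩, ?_, ?_, ?_⟩,
    ⟨1, E.one_mem, Or.inr (one_mul a).symm⟩, fun e he => ⟨e, he, Or.inl rfl⟩, fun _ hf => hf⟩
  · rintro p q ⟨e, he, rfl | rfl⟩ ⟨f, hf, rfl | rfl⟩
    · exact ⟨_, E.mul_mem he hf, Or.inl rfl⟩
    · exact ⟨_, E.mul_mem he hf, Or.inr (mul_assoc _ _ _).symm⟩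
    · refine ⟨_, E.mul_mem he hf, Or.inr ?_⟩
      rw [mul_assoc, (hc _ hf).eq, mul_assoc]
    · refine ⟨_, E.mul_mem he hf, Or.inl ?_⟩
      rw [mul_assoc, ← mul_assoc a, (hc f hf).eq, mul_assoc f, ha2, mul_one]
  · rintro p ⟨e, he, rfl | rfl⟩
    · exact ⟨_, E.inv_mem he, Or.inl rfl⟩
    · refine ⟨_, E.inv_mem he, Or.inr ?_⟩
      rw [mul_inv_rev, eq_inv_of_sq ha2, (hc _ (E.inv_mem he)).eq]
  · rintro p ⟨e, he, rfl | rfl⟩
    · exact hE.le he
    · exact mul_mem (hE.le he) ha
  · rintro p ⟨e, he, rfl | rfl⟩ q ⟨f, hf, rfl | rfl⟩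
    · exact hE.comm _ he _ hf
    · exact (hE.comm _ he _ hf).mul_right (hc _ he).symm
    · exact (hE.comm _ he _ hf).mul_left (hc _ hf)
    · exact ((hE.comm _ he _ hf).mul_right (hc _ he).symm).mul_left
        ((hc _ hf).mul_right (Commute.refl a))
  · rintro p ⟨e, he, rfl | rfl⟩
    · exact hE.sq _ he
    · rw [mul_assoc, ← mul_assoc a, (hc e he).eq, mul_assoc e a, ha2, mul_one, hE.sq e he]

/-- Centralisers of elementary abelian subgroups containing `D` normalise `V` as soon as the
fixed points contain a suitable element whose `t`-translate is also conjugate to `z`. -/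
theorem SecHyp.step (h : SecHyp z t V) (D : Set G) (_hDV : D ⊆ V)
    (grow : ∀ e ∈ V, e ∉ D → ¬ IsConj z e → ¬ IsConj z (e * t) → ∀ g : G, Commute g t →
      (∀ d ∈ D, Commute g d) → Commute g e → g ∈ Subgroup.normalizer (V : Set G))
    (E : Subgroup G) (hE : Elem t V E) (hDE : D ⊆ E) (s : G) (hs : s ∈ V) (hsz : IsConj z s)
    (hst : IsConj z (s * t)) (hsD : ∀ d ∈ D, ¬ IsA z t (s * d))
    (hsE : ∀ e ∈ E, Commute e s) (y : G) (hy : ∀ e ∈ E, Commute y e) :
    y ∈ Subgroup.normalizer (V : Set G) := by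
  induction hn : Nat.card G - Nat.card ↥E using Nat.strong_induction_on generalizing E s y with
  | _ n ih =>
  subst hn
  by_contra hyN
  have hyt : Commute y t := hy t hE.tE
  -- `E ∩ V` consists of elements of `D`
  have hEV : ∀ e ∈ E, e ∈ V → e ∈ D ∧ ¬ IsConj z e ∧ ¬ IsConj z (e * t) := by
    intro e he heV
    have n1 : ¬ IsConj z e := fun c => hyN (h.loc e heV c y hyt (hy e he))
    have n2 : ¬ IsConj z (e * t) := fun c =>
      hyN (h.loc _ (V.mul_mem heV h.tV) c y hyt (hy _ (E.mul_mem he hE.tE)))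
    refine ⟨?_, n1, n2⟩
    by_contra hd
    exact hyN (grow e heV hd n1 n2 y hyt (fun d hd' => hy d (hDE hd')) (hy e he))
  obtain ⟨u, huV, huA, huE⟩ := h.fixed E hE.isPGroup hE.le fun e he => hE.comm e he t hE.tE
  set v := y * s * y⁻¹ with hvdef
  have hvt : Commute v t := by
    have := commute_conj (g := y) (h.comm s hs t h.tV)
    rwa [show y * t * y⁻¹ = t by rw [hyt.eq, mul_inv_cancel_right]] at this
  have hvE : ∀ e ∈ E, Commute e v := fun e he =>
    ((hy e he).symm.mul_right (hsE e he)).mul_right (hy e he).symm.inv_right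
  have hvN : v ∉ Subgroup.normalizer (V : Set G) := fun c => hyN (h.fix hyt hs hsz c)
  have hu2 : u * u = 1 := h.sq u huV
  have hv2 : v * v = 1 := by
    calc v * v = y * (s * s) * y⁻¹ := by rw [hvdef]; group
      _ = 1 := by rw [h.sq s hs]; group
  set r := u * v with hr
  have hrE : ∀ e ∈ E, Commute e r := fun e he => (huE e he).mul_right (hvE e he)
  have hrt : Commute r t := (h.comm u huV t h.tV).mul_left hvt
  have hflip : ∀ k : ℕ, u * r ^ k * u⁻¹ = (r ^ k)⁻¹ := by
    intro k
    rw [← conj_pow, ← inv_pow]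
    congr 1
    rw [hr, mul_inv_rev, eq_inv_of_sq hv2, eq_inv_of_sq hu2, ← mul_assoc, hu2, one_mul]
  classical
  have hexk : ∃ k, 0 < k ∧ r ^ k ∈ E := ⟨orderOf r, orderOf_pos r, by
    rw [pow_orderOf_eq_one]; exact E.one_mem⟩
  obtain ⟨k, ⟨hk0, hkE⟩, hkmin⟩ : ∃ k, (0 < k ∧ r ^ k ∈ E) ∧
      ∀ j, 0 < j → j < k → r ^ j ∉ E :=
    ⟨Nat.find hexk, Nat.find_spec hexk, fun j hj hjk hjE => Nat.find_min hexk hjk ⟨hj, hjE⟩⟩
  rcases Nat.even_or_odd k with ⟨l, hl⟩ | ⟨l, hl⟩
  · subst hl
    set a := r ^ l with ha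
    have haE : a ∉ E := hkmin l (by omega) (by omega)
    have hat : Commute a t := hrt.pow_left l
    have hace : ∀ e ∈ E, Commute a e := fun e he => ((hrE e he).pow_right l).symm
    have hua : u * a * u⁻¹ = a⁻¹ := hflip l
    by_cases ha2 : a * a = 1
    · rw [eq_inv_of_sq ha2] at hua
      have hau : Commute a u := (mul_inv_eq_iff_eq_mul.mp hua).symm
      have hav : Commute a v := by
        have : Commute a r := Commute.pow_self r l
        have h2 := hau.inv_right.mul_right this
        rwa [hr, inv_mul_cancel_left] at h2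
      obtain ⟨F, hF, haF, hEF, hFmem⟩ :=
        hE.extend (h.loc u huV huA.1 a hat hau) ha2 hace
      have hlt : Nat.card G - Nat.card ↥F < Nat.card G - Nat.card ↥E := by
        have h1 : Nat.card ↥E < Nat.card ↥F := by
          refine lt_of_le_of_ne (Subgroup.card_le_of_le hEF) fun e => haE ?_
          rw [Subgroup.eq_of_le_of_card_ge hEF (le_of_eq e.symm)]
          exact haF
        have h2 := Subgroup.card_le_card_group F
        omega
      set Y := Subgroup.centralizer (F : Set G) with hY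
      have memY : ∀ g : G, g ∈ Y ↔ ∀ f ∈ F, Commute f g := fun g =>
        Subgroup.mem_centralizer_iff
      have hFc : ∀ g : G, (∀ e ∈ E, Commute e g) → Commute a g → g ∈ Y := by
        intro g hg hag
        rw [memY]
        intro f hf
        obtain ⟨e, he, rfl | rfl⟩ := hFmem f hf
        · exact hg _ he
        · exact (hg _ he).mul_left hag
      have huY : u ∈ Y := hFc u huE hau
      have hvY : v ∈ Y := hFc v hvE hav
      obtain ⟨g, hg, hgv⟩ := h.conj_into Y (fun g hg => ((memY g).mp hg t hF.tE).symm)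
        huY huV huA.1 hvY hv2
      have hgt : Commute g t := ((memY g).mp hg t hF.tE).symm
      have e1 : g * v * g⁻¹ = g * y * s * (g * y)⁻¹ := by rw [hvdef]; group
      have hgyt : Commute (g * y) t := hgt.mul_left hyt
      rw [e1] at hgv
      have hs'V := h.closure hgyt hs hsz hgv
      refine hvN (ih _ hlt F hF (hDE.trans hEF) _ hs'V (isConj_conj.mpr hsz)
        (by rw [conj_mul hgyt]; exact isConj_conj.mpr hst) ?_ ?_ v
        (fun f hf => ((memY v).mp hvY f hf).symm) rfl)
      · intro d hd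
        have hdc : Commute (g * y) d :=
          (((memY g).mp hg d (hEF (hDE hd))).symm).mul_left (hy d (hDE hd))
        rw [mul_assoc (g * y * s), hdc.inv_left.eq]
        rw [show g * y * s * (d * (g * y)⁻¹) = g * y * (s * d) * (g * y)⁻¹ by group]
        exact fun c => hsD d hd ((isA_conj hgyt).mp c)
      · intro f hf
        rw [← e1]
        exact (((memY g).mp hg f hf).mul_right ((memY v).mp hvY f hf)).mul_right
          ((memY g).mp hg f hf).inv_right
    · have haa : a * a ∈ E := by rwa [ha, ← pow_add]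
      have e2 : a * u * a⁻¹ = a * a * u := by
        rw [← hua]
        calc a * u * (u * a * u⁻¹) = a * (u * u) * a * u⁻¹ := by group
          _ = a * a * u := by rw [hu2, eq_inv_of_sq hu2, mul_one]
      have hmem := h.closure hat huV huA.1 (by
        rw [e2]; exact mul_mem (hE.le haa) (h.loc u huV huA.1 u (h.comm u huV t h.tV)
          (Commute.refl u)))
      rw [e2] at hmem
      have heV : a * a ∈ V := by simpa using V.mul_mem hmem (V.inv_mem huV)
      obtain ⟨-, n1, n2⟩ := hEV _ haa heV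
      refine h.k1 u huV huA _ heV ha2 n1 n2 ?_
      rw [← (huE _ haa).eq, ← e2]
      exact (isA_conj hat).mpr huA
  · subst hl
    set c := (r ^ (l + 1))⁻¹ with hc
    set e := r ^ (2 * l + 1) with he
    have hct : Commute c t := (hrt.pow_left _).inv_left
    have e2 : c * u * c⁻¹ = v * e := by
      rw [hc, inv_inv, ← hflip (l + 1), eq_inv_of_sq hu2]
      calc u * r ^ (l + 1) * u * u * r ^ (l + 1)
          = u * r ^ (l + 1) * (u * u) * r ^ (l + 1) := by group
        _ = u * (r ^ (l + 1) * r ^ (l + 1)) := by rw [hu2]; group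
        _ = u * (r * r ^ (2 * l + 1)) := by
          rw [← pow_add, ← pow_succ']
          congr 2
          omega
        _ = v * e := by rw [← mul_assoc, hr, ← mul_assoc, hu2, one_mul]
    have hye : y⁻¹ * e * y = e := by rw [mul_assoc, ← (hy e hkE).eq, inv_mul_cancel_left]
    have e3 : y⁻¹ * c * u * (y⁻¹ * c)⁻¹ = s * e := by
      calc y⁻¹ * c * u * (y⁻¹ * c)⁻¹ = y⁻¹ * (c * u * c⁻¹) * y := by group
        _ = y⁻¹ * (y * s * y⁻¹ * e) * y := by rw [e2, hvdef]
        _ = s * (y⁻¹ * e * y) := by group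
        _ = s * e := by rw [hye]
    have hyct : Commute (y⁻¹ * c) t := hyt.inv_left.mul_left hct
    have hmem := h.closure hyct huV huA.1 (by
      rw [e3]
      exact mul_mem (h.loc s hs hsz s (h.comm s hs t h.tV) (Commute.refl s)) (hE.le hkE))
    rw [e3] at hmem
    have heV : e ∈ V := by simpa using V.mul_mem (V.inv_mem hs) hmem
    exact hsD e (hEV e hkE heV).1 (e3 ▸ (isA_conj hyct).mpr huA)

/-- The centraliser of `t` normalises `V`. -/
theorem second_centralizer_le (h : SecHyp z t V) :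
    Subgroup.centralizer ({t} : Set G) ≤ Subgroup.normalizer (V : Set G) := by
  have hVN : V ≤ Subgroup.normalizer (V : Set G) := Subgroup.le_normalizer
  have helem : ∀ E : Subgroup G, t ∈ E → E ≤ V → Elem t V E := fun E ht hEV =>
    ⟨ht, hEV.trans hVN, fun e he f hf => h.comm e (hEV he) f (hEV hf),
      fun e he => h.sq e (hEV he)⟩
  have commgen : ∀ (g : G) (D : Set G), (∀ d ∈ D, Commute g d) →
      ∀ e ∈ Subgroup.closure D, Commute g e := by
    intro g D hD e he
    induction he using Subgroup.closure_induction with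
    | mem x hx => exact hD x hx
    | one => exact Commute.one_right g
    | mul x y _ _ hx hy => exact hx.mul_right hy
    | inv x _ hx => exact hx.inv_right
  have tri : ∀ e ∈ V, e ≠ 1 → e ≠ t → ¬ IsConj z e → ¬ IsConj z (e * t) → ∀ g : G,
      Commute g t → Commute g e → g ∈ Subgroup.normalizer (V : Set G) := by
    intro e he n1 n2 n3 n4 g hgt hge
    obtain ⟨s, hs, hsz, hst, hse, hset⟩ := h.ex e he n3 n4
    have hsD : ∀ d ∈ ({1, t, e, e * t} : Set G), ¬ IsA z t (s * d) := by
      intro d hd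
      simp only [Set.mem_insert_iff, Set.mem_singleton_iff] at hd
      rcases hd with rfl | rfl | rfl | rfl
      · rw [mul_one]
        exact fun c => c.2 hst
      · intro c
        refine c.2 ?_
        rwa [mul_assoc, h.t_sq, mul_one]
      · exact hse
      · rwa [← mul_assoc]
    have hDV : ({1, t, e, e * t} : Set G) ⊆ V := by
      intro d hd
      simp only [Set.mem_insert_iff, Set.mem_singleton_iff] at hd
      rcases hd with rfl | rfl | rfl | rfl
      exacts [V.one_mem, h.tV, he, V.mul_mem he h.tV]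
    have hle : Subgroup.closure {t, e} ≤ V := by
      rw [Subgroup.closure_le]
      exact Set.insert_subset h.tV (Set.singleton_subset_iff.mpr he)
    have ht' : t ∈ Subgroup.closure ({t, e} : Set G) :=
      Subgroup.subset_closure (Set.mem_insert _ _)
    have he' : e ∈ Subgroup.closure ({t, e} : Set G) :=
      Subgroup.subset_closure (Set.mem_insert_of_mem _ rfl)
    refine h.step _ hDV ?_ (Subgroup.closure {t, e}) (helem _ ht' hle) ?_ s hs hsz hst hsD
      (fun d hd => h.comm d (hle hd) s hs) g (commgen g _ ?_)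
    · intro e' he'V hne p1 p2 g' hg't hg'D hg'e
      simp only [Set.mem_insert_iff, Set.mem_singleton_iff] at hne
      push Not at hne
      obtain ⟨m1, m2, m3, m4⟩ := hne
      have hg'e0 : Commute g' e := hg'D e (by simp)
      rcases h.k2 e he e' he'V n1 n2 n3 n4 m1 m2 p1 p2 m3 m4 with c | c
      · exact h.loc _ (V.mul_mem he he'V) c g' hg't (hg'e0.mul_right hg'e)
      · exact h.loc _ (V.mul_mem (V.mul_mem he he'V) h.tV) c g' hg't
          ((hg'e0.mul_right hg'e).mul_right hg't)
    · intro d hd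
      simp only [Set.mem_insert_iff, Set.mem_singleton_iff] at hd
      rcases hd with rfl | rfl | rfl | rfl
      exacts [one_mem _, ht', he', mul_mem ht' he' |> fun _ => mul_mem he' ht']
    · intro d hd
      rcases hd with rfl | rfl
      exacts [hgt, hge]
  intro g hg
  have hgt : Commute g t := Subgroup.mem_centralizer_singleton_iff.mp hg
  obtain ⟨s, hs, hsz, hst, -, -⟩ := h.ex 1 V.one_mem h.z1 (by rw [one_mul]; exact h.nz)
  refine h.step ({1, t} : Set G) (Set.insert_subset V.one_mem (Set.singleton_subset_iff.mpr h.tV))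
    (fun e he hne p1 p2 g' hg't _ hg'e => ?_) (Subgroup.zpowers t)
    (helem _ (Subgroup.mem_zpowers t) (Subgroup.zpowers_le.mpr h.tV))
    (Set.insert_subset (one_mem _) (Set.singleton_subset_iff.mpr (Subgroup.mem_zpowers t)))
    s hs hsz hst ?_ (fun d hd => h.comm d (Subgroup.zpowers_le.mpr h.tV hd) s hs) g ?_
  · simp only [Set.mem_insert_iff, Set.mem_singleton_iff] at hne
    push Not at hne
    exact tri e he hne.1 hne.2 p1 p2 g' hg't hg'e
  · intro d hd
    rcases hd with rfl | rfl
    · rw [mul_one]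
      exact fun c => c.2 hst
    · intro c
      refine c.2 ?_
      rwa [mul_assoc, h.t_sq, mul_one]
  · intro d hd
    obtain ⟨k, rfl⟩ := Subgroup.mem_zpowers_iff.mp hd
    exact hgt.zpow_right k

end Cfsg.Agent.JFourSecond73
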