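import Mathlib
import Cfsg.Agent.Lib.JFourSecond73
import Cfsg.Agent.Lib.GolayModule
import Cfsg.Agent.Lib.GolayInvolutions
import Cfsg.Agent.Lib.GolaySteiner

/-!
The facts needed for the centraliser of an involution of the second class, for an elementary
abelian group which is the even part of the Golay cocode, the duads being the elements not
conjugate to `z`, acted on by a subgroup of `M24` through the duads.
-/

set_option autoImplicit false
set_option linter.unusedSectionVars false
set_option maxHeartbeats 800000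

namespace Cfsg.Agent.JFourSecondData73

open Cfsg Cfsg.Agent.GolayModule Cfsg.Agent.JFourSecond73
open scoped symmDiff

variable {G : Type*} [Group G] [Finite G]

/-- `f` makes `V` the even cocode, and the normaliser permutes the points through `φ`. -/
structure Cocode (z : G) (V : Subgroup G) (f : (GolayPt → ZMod 2) → G)
    (φ : ↥(Subgroup.normalizer (V : Set G)) → Equiv.Perm GolayPt) : Prop where
  mul : ∀ v w, f (v + w) = f v * f w
  mem : ∀ v, f v ∈ V
  ker : ∀ s : Finset GolayPt, 2 ∣ s.card → (f (ind s) = 1 ↔ ind s ∈ golayCode)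
  surj : ∀ v ∈ V, ∃ s : Finset GolayPt, 2 ∣ s.card ∧ f (ind s) = v
  z1 : ¬ IsConj z 1
  duad : ∀ p q : GolayPt, p ≠ q → ¬ IsConj z (f (ind {p, q}))
  other : ∀ v ∈ V, v ≠ 1 → ¬ IsConj z v →
    ∃ p q : GolayPt, p ≠ q ∧ f (ind {p, q}) = v
  perm : ∀ g, φ g ∈ M24
  phi_mul : ∀ g h, φ (g * h) = φ g * φ h
  phi_one : ∀ g, φ g = 1 ↔ (g : G) ∈ V
  induces : ∀ g : ↥(Subgroup.normalizer (V : Set G)), ∀ p q : GolayPt, p ≠ q →
    (g : G) * f (ind {p, q}) * (g : G)⁻¹ = f (ind {φ g p, φ g q})

/-! ### Sets of points -/

theorem octad_card {o : Finset GolayPt} (ho : o ∈ octads) : o.card = 8 :=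
  GolaySteiner.isSteinerSystem_octads.1 o ho

theorem ind_self (s : Finset GolayPt) : ind s + ind s = 0 :=
  funext fun _ => (by decide : ∀ a : ZMod 2, a + a = 0) _

/-- A nontrivial involution of `M24` moves at least sixteen points. -/
theorem moved_ge {σ : Equiv.Perm GolayPt} (hσ : σ ∈ M24) (h2 : σ * σ = 1) (h1 : σ ≠ 1) :
    16 ≤ (Finset.univ.filter fun p => σ p ≠ p).card := by
  classical
  obtain ⟨k, -, hk⟩ := GolayInvolutions.exists_conj_rep hσ h2 h1
  set τ := k * σ * k⁻¹ with hτ
  have h8 : (Finset.univ.filter fun p => τ p = p).card ≤ 8 := by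
    rcases hk with e | e
    · rw [e, GolayInvolutions.fix_pZ1]
      decide +kernel
    · rw [e, Finset.filter_false_of_mem fun p _ => GolayInvolutions.fixfree_pZ2 p]
      simp
  have e : (Finset.univ.filter fun p => τ p = p) =
      (Finset.univ.filter fun p => σ p = p).map k.toEmbedding := by
    ext p
    simp [hτ, Finset.mem_map_equiv, Equiv.eq_symm_apply]
  rw [e, Finset.card_map] at h8
  have := Finset.card_filter_add_card_filter_not (s := Finset.univ) (fun p => σ p = p)
  have h24 : Fintype.card GolayPt = 24 := rfl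
  rw [Finset.card_univ, h24] at this
  have e' : (Finset.univ.filter fun p => ¬ σ p = p) = Finset.univ.filter fun p => σ p ≠ p := rfl
  rw [e'] at this
  omega

section

variable {z : G} {V : Subgroup G} {f : (GolayPt → ZMod 2) → G}
  {φ : ↥(Subgroup.normalizer (V : Set G)) → Equiv.Perm GolayPt}

theorem Cocode.f_zero (K : Cocode z V f φ) : f 0 = 1 := by
  have := K.mul 0 0
  rw [add_zero] at this
  exact mul_left_cancel (a := f 0) (by rw [mul_one]; exact this.symm)

theorem Cocode.symm (K : Cocode z V f φ) (s u : Finset GolayPt) :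
    f (ind s) * f (ind u) = f (ind (s ∆ u)) := by
  rw [ind_symmDiff, K.mul]

theorem Cocode.sq (K : Cocode z V f φ) (v : GolayPt → ZMod 2) : f v * f v = 1 := by
  rw [← K.mul, ← K.f_zero]
  congr 1
  exact funext fun _ => (by decide : ∀ a : ZMod 2, a + a = 0) _

theorem Cocode.eq_of_eq (K : Cocode z V f φ) {S T : Finset GolayPt} (hS : 2 ∣ S.card)
    (hT : 2 ∣ T.card) (h6 : S.card + T.card < 8) (h : f (ind S) = f (ind T)) : S = T := by
  classical
  have h8 : (S ∆ T).card < 8 := by
    refine lt_of_le_of_lt ((Finset.card_le_card (t := S ∪ T) ?_).trans (Finset.card_union_le _ _))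
      h6
    intro p hp
    rw [Finset.mem_symmDiff] at hp
    exact hp.elim (fun h => Finset.mem_union_left _ h.1) fun h => Finset.mem_union_right _ h.1
  have he : 2 ∣ (S ∆ T).card := by
    rw [show S ∆ T = (S \ T) ∪ (T \ S) from rfl,
      Finset.card_union_of_disjoint disjoint_sdiff_sdiff]
    have h2 := Finset.card_sdiff_add_card_inter S T
    have h3 := Finset.card_sdiff_add_card_inter T S
    rw [Finset.inter_comm T] at h3
    omega
  have hz : f (ind (S ∆ T)) = 1 := by rw [← K.symm, h, K.sq]
  exact symmDiff_eq_bot.1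
    (GolayBasic.eq_empty_of_card_lt (ind_mem_iff.1 ((K.ker _ he).1 hz)) h8)

theorem Cocode.four (K : Cocode z V f φ) {S : Finset GolayPt} (hS : S.card = 4) :
    IsConj z (f (ind S)) := by
  by_contra h
  by_cases h0 : f (ind S) = 1
  · have := K.eq_of_eq (S := S) (T := ∅) (by omega) (by simp) (by simp; omega)
      (h0.trans (by rw [ind_empty, K.f_zero]))
    simp [this] at hS
  · obtain ⟨p, q, hpq, e⟩ := K.other _ (K.mem _) h0 h
    have := K.eq_of_eq (S := S) (T := {p, q}) (by omega) (by rw [Finset.card_pair hpq])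
      (by rw [Finset.card_pair hpq]; omega) e.symm
    rw [this, Finset.card_pair hpq] at hS
    omega

/-- Six points not in an octad give an element conjugate to `z`. -/
theorem Cocode.six (K : Cocode z V f φ) {S : Finset GolayPt} (hS : S.card = 6)
    (hO : ∀ o ∈ octads, ¬ S ⊆ o) : IsConj z (f (ind S)) := by
  classical
  by_contra h
  by_cases h0 : f (ind S) = 1
  · have := GolayBasic.eq_empty_of_card_lt (ind_mem_iff.1 ((K.ker _ (by omega)).1 h0)) (by omega)
    simp [this] at hS
  · obtain ⟨p, q, hpq, e⟩ := K.other _ (K.mem _) h0 h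
    have hz : f (ind (S ∆ {p, q})) = 1 := by rw [← K.symm, e, K.sq]
    have hle : (S ∆ {p, q}).card ≤ 8 := by
      refine (Finset.card_le_card (t := S ∪ {p, q}) ?_).trans
        ((Finset.card_union_le _ _).trans (by rw [Finset.card_pair hpq]; omega))
      intro x hx
      rw [Finset.mem_symmDiff] at hx
      exact hx.elim (fun h => Finset.mem_union_left _ h.1) fun h => Finset.mem_union_right _ h.1
    have heq : (S ∆ {p, q}).card + 2 * (S ∩ {p, q}).card = 8 := by
      rw [show S ∆ {p, q} = (S \ {p, q}) ∪ ({p, q} \ S) from rfl,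
        Finset.card_union_of_disjoint disjoint_sdiff_sdiff]
      have h2 := Finset.card_sdiff_add_card_inter S {p, q}
      have h3 := Finset.card_sdiff_add_card_inter {p, q} S
      rw [Finset.inter_comm {p, q}, Finset.card_pair hpq] at h3
      omega
    have hc := (K.ker _ (by omega)).1 hz
    by_cases hi : (S ∩ {p, q}).card = 0
    · refine hO _ (by
        exact ⟨ind_mem_iff.1 hc, by omega⟩) fun x hx => ?_
      rw [Finset.mem_symmDiff]
      refine Or.inl ⟨hx, fun hx' => ?_⟩
      have := Finset.card_eq_zero.mp hi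
      exact Finset.notMem_empty x (this ▸ Finset.mem_inter.2 ⟨hx, hx'⟩)
    · have := GolayBasic.eq_empty_of_card_lt (ind_mem_iff.1 hc) (by omega)
      rw [symmDiff_eq_bot.1 this, Finset.card_pair hpq] at hS
      omega

/-- The element `t`. -/
def base (f : (GolayPt → ZMod 2) → G) : G := f (ind {none, some 0})

theorem Cocode.mul_base (K : Cocode z V f φ) (S : Finset GolayPt) :
    f (ind S) * base f = f (ind (S ∆ {none, some 0})) := K.symm _ _

theorem none_ne : (none : GolayPt) ≠ some 0 := by simp

/-- Elements of `V` which, with their `t`-translate, are not conjugate to `z`. -/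
theorem Cocode.small (K : Cocode z V f φ) {e : G} (he : e ∈ V) (h1 : ¬ IsConj z e)
    (h2 : ¬ IsConj z (e * base f)) : e = 1 ∨ e = base f ∨ ∃ x c : GolayPt,
      (x = none ∨ x = some 0) ∧ c ≠ none ∧ c ≠ some 0 ∧ e = f (ind {x, c}) := by
  classical
  by_cases e0 : e = 1
  · exact Or.inl e0
  obtain ⟨p, q, hpq, rfl⟩ := K.other e he e0 h1
  by_cases hp : p = none ∨ p = some 0
  · by_cases hq : q = none ∨ q = some 0
    · refine Or.inr (Or.inl ?_)
      have : ({p, q} : Finset GolayPt) = {none, some 0} := by
        rcases hp with rfl | rfl <;> rcases hq with rfl | rfl <;>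
          simp_all [Finset.pair_comm]
      rw [this, base]
    · push Not at hq
      exact Or.inr (Or.inr ⟨p, q, hp, hq.1, hq.2, rfl⟩)
  · by_cases hq : q = none ∨ q = some 0
    · push Not at hp
      exact Or.inr (Or.inr ⟨q, p, hq, hp.1, hp.2, by rw [Finset.pair_comm]⟩)
    · refine absurd (K.mul_base _ ▸ K.four ?_) h2
      push Not at hp hq
      have : ({p, q} : Finset GolayPt) ∆ {none, some 0} = {p, q, none, some 0} := by
        ext x
        simp only [Finset.mem_symmDiff, Finset.mem_insert, Finset.mem_singleton]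
        grind
      rw [this]
      simp [hpq, hp.1, hp.2, hq.1, hq.2]

/-- The members of `A` are the sets `{a, b, r, s}`. -/
theorem Cocode.isA_iff (K : Cocode z V f φ) {v : G} (hv : v ∈ V) :
    IsA z (base f) v ↔ ∃ r s : GolayPt, r ≠ s ∧ r ≠ none ∧ r ≠ some 0 ∧ s ≠ none ∧ s ≠ some 0 ∧
      v = f (ind {none, some 0, r, s}) := by
  classical
  constructor
  · rintro ⟨hz, hzt⟩
    have hvt : v * base f ∈ V := V.mul_mem hv (K.mem _)
    have hv' : v = v * base f * base f := by rw [mul_assoc, base, K.sq, mul_one]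
    by_cases h0 : v * base f = 1
    · rw [hv', h0, one_mul] at hz
      exact absurd hz (K.duad _ _ none_ne)
    obtain ⟨p, q, hpq, e⟩ := K.other _ hvt h0 hzt
    rw [hv', ← e, K.mul_base] at hz ⊢
    by_cases hp : p = none ∨ p = some 0
    · by_cases hq : q = none ∨ q = some 0
      · have : ({p, q} : Finset GolayPt) ∆ {none, some 0} = ∅ := by
          rcases hp with rfl | rfl <;> rcases hq with rfl | rfl
          · exact absurd rfl hpq
          · exact symmDiff_self _
          · rw [Finset.pair_comm]; exact symmDiff_self _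
          · exact absurd rfl hpq
        rw [this, ind_empty, K.f_zero] at hz
        exact absurd hz K.z1
      · push Not at hq
        obtain ⟨x, hx, hxe⟩ : ∃ x : GolayPt, x ≠ q ∧
            ({p, q} : Finset GolayPt) ∆ {none, some 0} = {x, q} := by
          rcases hp with rfl | rfl
          · exact ⟨some 0, hq.2.symm, by
              ext y; simp only [Finset.mem_symmDiff, Finset.mem_insert, Finset.mem_singleton]
              grind⟩
          · exact ⟨none, hq.1.symm, by
              ext y; simp only [Finset.mem_symmDiff, Finset.mem_insert, Finset.mem_singleton]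
              grind⟩
        rw [hxe] at hz
        exact absurd hz (K.duad _ _ hx)
    · by_cases hq : q = none ∨ q = some 0
      · push Not at hp
        obtain ⟨x, hx, hxe⟩ : ∃ x : GolayPt, x ≠ p ∧
            ({p, q} : Finset GolayPt) ∆ {none, some 0} = {x, p} := by
          rcases hq with rfl | rfl
          · exact ⟨some 0, hp.2.symm, by
              ext y; simp only [Finset.mem_symmDiff, Finset.mem_insert, Finset.mem_singleton]
              grind⟩
          · exact ⟨none, hp.1.symm, by
              ext y; simp only [Finset.mem_symmDiff, Finset.mem_insert, Finset.mem_singleton]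
              grind⟩
        rw [hxe] at hz
        exact absurd hz (K.duad _ _ hx)
      · push Not at hp hq
        refine ⟨p, q, hpq, hp.1, hp.2, hq.1, hq.2, ?_⟩
        congr 2
        ext x
        simp only [Finset.mem_symmDiff, Finset.mem_insert, Finset.mem_singleton]
        grind
  · rintro ⟨r, s, hrs, r1, r2, s1, s2, rfl⟩
    refine ⟨K.four (by simp [hrs, r1.symm, r2.symm, s1.symm, s2.symm]), ?_⟩
    rw [K.mul_base]
    have : ({none, some 0, r, s} : Finset GolayPt) ∆ {none, some 0} = {r, s} := by
      ext x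
      simp only [Finset.mem_symmDiff, Finset.mem_insert, Finset.mem_singleton]
      grind
    rw [this]
    exact K.duad _ _ hrs

theorem Cocode.odd (K : Cocode z V f φ) :
    Odd (Nat.card {a : G // a ∈ V ∧ IsA z (base f) a}) := by
  classical
  let P : Finset (Finset GolayPt) :=
    ((Finset.univ.erase none).erase (some 0)).powersetCard 2
  let F : ↥P → {a : G // a ∈ V ∧ IsA z (base f) a} := fun S =>
    ⟨f (ind (S.1 ∪ {none, some 0})), K.mem _, by
      obtain ⟨hsub, hc⟩ := Finset.mem_powersetCard.1 S.2
      obtain ⟨r, s, hrs, e⟩ := Finset.card_eq_two.1 hc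
      have hr := hsub (e ▸ Finset.mem_insert_self r {s})
      have hs := hsub (e ▸ Finset.mem_insert_of_mem (Finset.mem_singleton_self s))
      simp only [Finset.mem_erase, Finset.mem_univ, and_true] at hr hs
      refine (K.isA_iff (K.mem _)).2 ⟨r, s, hrs, hr.2, hr.1, hs.2, hs.1, ?_⟩
      rw [e]
      congr 2
      ext x
      simp only [Finset.mem_union, Finset.mem_insert, Finset.mem_singleton]
      tauto⟩
  have hcard : P.card = 231 := by
    rw [Finset.card_powersetCard, Finset.card_erase_of_mem (by simp), Finset.card_erase_of_mem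
      (Finset.mem_univ _), Finset.card_univ, show Fintype.card GolayPt = 24 from rfl]
    rfl
  have hb : Function.Bijective F := by
    constructor
    · intro S T e
      obtain ⟨hS, hSc⟩ := Finset.mem_powersetCard.1 S.2
      obtain ⟨hT, hTc⟩ := Finset.mem_powersetCard.1 T.2
      have e' : f (ind (S.1 ∪ {none, some 0})) = f (ind (T.1 ∪ {none, some 0})) :=
        congrArg Subtype.val e
      have e2 : f (ind S.1) = f (ind T.1) := by
        have key : ∀ U : Finset GolayPt, U ⊆ (Finset.univ.erase none).erase (some 0) →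
            f (ind (U ∪ {none, some 0})) * base f = f (ind U) := by
          intro U hU
          rw [K.mul_base]
          congr 2
          ext x
          have := @hU x
          simp only [Finset.mem_erase, Finset.mem_univ, and_true] at this
          simp only [Finset.mem_symmDiff, Finset.mem_union, Finset.mem_insert,
            Finset.mem_singleton]
          grind
        rw [← key _ hS, ← key _ hT, e']
      exact Subtype.ext (K.eq_of_eq (by omega) (by omega) (by omega) e2)
    · rintro ⟨a, ha, hA⟩
      obtain ⟨r, s, hrs, r1, r2, s1, s2, rfl⟩ := (K.isA_iff ha).1 hA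
      refine ⟨⟨{r, s}, Finset.mem_powersetCard.2 ⟨?_, Finset.card_pair hrs⟩⟩, Subtype.ext ?_⟩
      · intro x hx
        simp only [Finset.mem_insert, Finset.mem_singleton] at hx
        rcases hx with rfl | rfl <;> simp [r1, r2, s1, s2]
      · show f (ind _) = f (ind _)
        congr 2
        ext x
        simp only [Finset.mem_union, Finset.mem_insert, Finset.mem_singleton]
        grind
  rw [← Nat.card_eq_of_bijective F hb, Nat.card_eq_finsetCard, hcard]
  exact ⟨115, rfl⟩

theorem Cocode.k1 (K : Cocode z V f φ) : ∀ a ∈ V, IsA z (base f) a → ∀ e ∈ V, e ≠ 1 →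
    ¬ IsConj z e → ¬ IsConj z (e * base f) → ¬ IsA z (base f) (a * e) := by
  classical
  intro a ha hA e he e1 h1 h2 hAe
  obtain ⟨r, s, hrs, r1, r2, s1, s2, rfl⟩ := (K.isA_iff ha).1 hA
  rcases K.small he h1 h2 with rfl | rfl | ⟨x, c, hx, c1, c2, rfl⟩
  · exact e1 rfl
  · exact hA.2 hAe.1
  · rw [K.symm] at hAe
    by_cases hc : c = r ∨ c = s
    · obtain ⟨w, u, hwu, e⟩ : ∃ w u : GolayPt, w ≠ u ∧
          ({none, some 0, r, s} : Finset GolayPt) ∆ {x, c} = {w, u} := by
        rcases hx with rfl | rfl <;> rcases hc with rfl | rfl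
        · exact ⟨some 0, s, s2.symm, by
            ext y; simp only [Finset.mem_symmDiff, Finset.mem_insert, Finset.mem_singleton]
            grind⟩
        · exact ⟨some 0, r, r2.symm, by
            ext y; simp only [Finset.mem_symmDiff, Finset.mem_insert, Finset.mem_singleton]
            grind⟩
        · exact ⟨none, s, s1.symm, by
            ext y; simp only [Finset.mem_symmDiff, Finset.mem_insert, Finset.mem_singleton]
            grind⟩
        · exact ⟨none, r, r1.symm, by
            ext y; simp only [Finset.mem_symmDiff, Finset.mem_insert, Finset.mem_singleton]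
            grind⟩
      rw [e] at hAe
      exact K.duad _ _ hwu hAe.1
    · push Not at hc
      refine hAe.2 ?_
      rw [K.mul_base]
      refine K.four ?_
      have : (({none, some 0, r, s} : Finset GolayPt) ∆ {x, c}) ∆ {none, some 0} =
          {x, r, s, c} := by
        ext y
        simp only [Finset.mem_symmDiff, Finset.mem_insert, Finset.mem_singleton]
        grind
      rw [this]
      rcases hx with rfl | rfl <;>
        simp [hrs, r1.symm, r2.symm, s1.symm, s2.symm, hc.1.symm, hc.2.symm, c1.symm, c2.symm]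

theorem Cocode.k2 (K : Cocode z V f φ) : ∀ d ∈ V, ∀ e ∈ V, d ≠ 1 → d ≠ base f →
    ¬ IsConj z d → ¬ IsConj z (d * base f) → e ≠ 1 → e ≠ base f → ¬ IsConj z e →
    ¬ IsConj z (e * base f) → e ≠ d → e ≠ d * base f →
    IsConj z (d * e) ∨ IsConj z (d * e * base f) := by
  classical
  intro d hd e he d1 d2 d3 d4 e1 e2 e3 e4 hne hne'
  rcases K.small hd d3 d4 with rfl | rfl | ⟨x, c, hx, c1, c2, rfl⟩
  · exact absurd rfl d1
  · exact absurd rfl d2
  rcases K.small he e3 e4 with rfl | rfl | ⟨y, c', hy, c1', c2', rfl⟩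
  · exact absurd rfl e1
  · exact absurd rfl e2
  have hxc : x ≠ c := by rcases hx with rfl | rfl <;> [exact c1.symm; exact c2.symm]
  by_cases hcc : c' = c
  · subst hcc
    by_cases hxy : y = x
    · subst hxy; exact absurd rfl hne
    · refine absurd ?_ hne'
      rw [K.mul_base]
      congr 2
      ext w
      simp only [Finset.mem_symmDiff, Finset.mem_insert, Finset.mem_singleton]
      grind
  by_cases hxy : y = x
  · subst hxy
    right
    rw [K.symm, K.mul_base]
    have : (({y, c} : Finset GolayPt) ∆ {y, c'}) ∆ {none, some 0} = {none, some 0, c, c'} := by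
      ext w
      simp only [Finset.mem_symmDiff, Finset.mem_insert, Finset.mem_singleton]
      grind
    rw [this]
    exact K.four (by simp [Ne.symm hcc, c1.symm, c2.symm, c1'.symm, c2'.symm])
  · left
    rw [K.symm]
    have : ({x, c} : Finset GolayPt) ∆ {y, c'} = {none, some 0, c, c'} := by
      ext w
      simp only [Finset.mem_symmDiff, Finset.mem_insert, Finset.mem_singleton]
      grind
    rw [this]
    exact K.four (by simp [Ne.symm hcc, c1.symm, c2.symm, c1'.symm, c2'.symm])

/-- Four points spanning with any two of `none`, `some 0`, `c` six points outside every octad. -/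
theorem exists_four {c : GolayPt} (c1 : c ≠ none) (c2 : c ≠ some 0) :
    ∃ S : Finset GolayPt, S.card = 4 ∧ none ∉ S ∧ some 0 ∉ S ∧ c ∉ S ∧
      ∀ o ∈ octads, S ⊆ o → (none ∉ o ∨ some 0 ∉ o) ∧ (none ∉ o ∨ c ∉ o) ∧
        (some 0 ∉ o ∨ c ∉ o) := by
  classical
  obtain ⟨R, hR, hRc⟩ := Finset.exists_subset_card_eq (n := 3)
    (s := Finset.univ \ ({none, some 0, c} : Finset GolayPt)) (by
      have := Finset.le_card_sdiff ({none, some 0, c} : Finset GolayPt) Finset.univ
      have h3 : ({none, some 0, c} : Finset GolayPt).card ≤ 3 := Finset.card_le_three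
      rw [Finset.card_univ, show Fintype.card GolayPt = 24 from rfl] at this
      omega)
  have hout : ∀ x ∈ R, x ≠ none ∧ x ≠ some 0 ∧ x ≠ c := fun x hx => by
    have := hR hx
    simpa using this
  have hfive : ∀ p q : GolayPt, p ≠ q → p ∉ R → q ∉ R → (insert p (insert q R)).card = 5 :=
    fun p q hpq hp hq => by
      rw [Finset.card_insert_of_notMem (by simp [hpq, hp]),
        Finset.card_insert_of_notMem hq, hRc]
  have nR : (none : GolayPt) ∉ R ∧ some 0 ∉ R ∧ c ∉ R :=
    ⟨fun h => (hout _ h).1 rfl, fun h => (hout _ h).2.1 rfl, fun h => (hout _ h).2.2 rfl⟩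
  obtain ⟨o1, ho1, h1⟩ := GolaySteiner.exists_octad_five
    (hfive none (some 0) none_ne nR.1 nR.2.1)
  obtain ⟨o2, ho2, h2⟩ := GolaySteiner.exists_octad_five (hfive none c c1.symm nR.1 nR.2.2)
  obtain ⟨o3, ho3, h3⟩ := GolaySteiner.exists_octad_five
    (hfive (some 0) c c2.symm nR.2.1 nR.2.2)
  obtain ⟨w, -, hw⟩ := Finset.exists_mem_notMem_of_card_lt_card
    (show (R ∪ (o1 \ R) ∪ (o2 \ R) ∪ (o3 \ R)).card <
        (Finset.univ : Finset GolayPt).card by
      have e : ∀ o ∈ octads, R ⊆ o → (o \ R).card = 5 := fun o ho hRo => by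
        rw [Finset.card_sdiff_of_subset hRo, octad_card ho, hRc]
      have hs : ∀ {p q : GolayPt} {o : Finset GolayPt}, insert p (insert q R) ⊆ o → R ⊆ o :=
        fun h x hx => h (Finset.mem_insert_of_mem (Finset.mem_insert_of_mem hx))
      have := Finset.card_union_le (R ∪ (o1 \ R) ∪ (o2 \ R)) (o3 \ R)
      have := Finset.card_union_le (R ∪ (o1 \ R)) (o2 \ R)
      have := Finset.card_union_le R (o1 \ R)
      have := e o1 ho1 (hs h1)
      have := e o2 ho2 (hs h2)
      have := e o3 ho3 (hs h3)
      rw [Finset.card_univ, show Fintype.card GolayPt = 24 from rfl]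
      omega)
  simp only [Finset.mem_union, Finset.mem_sdiff] at hw
  push Not at hw
  obtain ⟨⟨⟨wR, w1⟩, w2⟩, w3⟩ := hw
  have wo1 : w ∉ o1 := fun h => wR (w1 h)
  have wo2 : w ∉ o2 := fun h => wR (w2 h)
  have wo3 : w ∉ o3 := fun h => wR (w3 h)
  refine ⟨insert w R, by rw [Finset.card_insert_of_notMem wR, hRc], ?_, ?_, ?_,
    fun o ho hSo => ⟨?_, ?_, ?_⟩⟩
  · simp only [Finset.mem_insert, not_or]
    exact ⟨fun e => wo1 (e ▸ h1 (Finset.mem_insert_self _ _)), nR.1⟩
  · simp only [Finset.mem_insert, not_or]
    exact ⟨fun e => wo3 (e ▸ h3 (Finset.mem_insert_self _ _)), nR.2.1⟩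
  · simp only [Finset.mem_insert, not_or]
    exact ⟨fun e => wo2 (e ▸ h2 (Finset.mem_insert_of_mem (Finset.mem_insert_self _ _))), nR.2.2⟩
  all_goals by_contra hc'; push Not at hc'
  · have := GolaySteiner.octad_eq_of_five ho ho1 (hfive none (some 0) none_ne nR.1 nR.2.1).ge
      (Finset.insert_subset hc'.1 (Finset.insert_subset hc'.2
        ((Finset.subset_insert w R).trans hSo))) h1
    exact wo1 (this ▸ hSo (Finset.mem_insert_self w R))
  · have := GolaySteiner.octad_eq_of_five ho ho2 (hfive none c c1.symm nR.1 nR.2.2).ge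
      (Finset.insert_subset hc'.1 (Finset.insert_subset hc'.2
        ((Finset.subset_insert w R).trans hSo))) h2
    exact wo2 (this ▸ hSo (Finset.mem_insert_self w R))
  · have := GolaySteiner.octad_eq_of_five ho ho3 (hfive (some 0) c c2.symm nR.2.1 nR.2.2).ge
      (Finset.insert_subset hc'.1 (Finset.insert_subset hc'.2
        ((Finset.subset_insert w R).trans hSo))) h3
    exact wo3 (this ▸ hSo (Finset.mem_insert_self w R))

theorem Cocode.ex (K : Cocode z V f φ) : ∀ e ∈ V, ¬ IsConj z e → ¬ IsConj z (e * base f) →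
    ∃ s ∈ V, IsConj z s ∧ IsConj z (s * base f) ∧ ¬ IsA z (base f) (s * e) ∧
      ¬ IsA z (base f) (s * e * base f) := by
  classical
  intro e he h1 h2
  obtain ⟨c, hc1, hc2, hec⟩ : ∃ c : GolayPt, c ≠ none ∧ c ≠ some 0 ∧
      (e = 1 ∨ e = base f ∨ e = f (ind {none, c}) ∨ e = f (ind {some 0, c})) := by
    rcases K.small he h1 h2 with h | h | ⟨x, c, hx, c1, c2, h⟩
    · exact ⟨some 1, by decide, by decide, Or.inl h⟩
    · exact ⟨some 1, by decide, by decide, Or.inr (Or.inl h)⟩
    · rcases hx with rfl | rfl
      · exact ⟨c, c1, c2, Or.inr (Or.inr (Or.inl h))⟩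
      · exact ⟨c, c1, c2, Or.inr (Or.inr (Or.inr h))⟩
  obtain ⟨S, hS, n1, n2, n3, hO⟩ := exists_four hc1 hc2
  have h4 := K.four hS
  have hsix : ∀ p q : GolayPt, p ≠ q → p ∉ S → q ∉ S → (∀ o ∈ octads, S ⊆ o → p ∉ o ∨ q ∉ o) →
      IsConj z (f (ind S) * f (ind {p, q})) := by
    intro p q hpq hp hq hh
    rw [K.symm]
    have : S ∆ {p, q} = insert p (insert q S) := by
      ext w
      simp only [Finset.mem_symmDiff, Finset.mem_insert, Finset.mem_singleton]
      grind
    rw [this]
    refine K.six (by rw [Finset.card_insert_of_notMem (by simp [hpq, hp]),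
      Finset.card_insert_of_notMem hq, hS]) fun o ho hsub => ?_
    rcases hh o ho (fun w hw => hsub (by simp [hw])) with h | h
    · exact h (hsub (by simp))
    · exact h (hsub (by simp))
  have g1 := hsix none (some 0) none_ne n1 n2 fun o ho h => (hO o ho h).1
  have g2 := hsix none c hc1.symm n1 n3 fun o ho h => (hO o ho h).2.1
  have g3 := hsix (some 0) c hc2.symm n2 n3 fun o ho h => (hO o ho h).2.2
  have eab : f (ind {none, c}) * base f = f (ind {some 0, c}) := by
    rw [K.mul_base]
    congr 2
    ext w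
    simp only [Finset.mem_symmDiff, Finset.mem_insert, Finset.mem_singleton]
    grind
  have eba : f (ind {some 0, c}) * base f = f (ind {none, c}) := by
    rw [← eab, mul_assoc, base, K.sq, mul_one]
  refine ⟨f (ind S), K.mem _, h4, g1, ?_, ?_⟩
  · rintro ⟨ha, hb⟩
    rcases hec with rfl | rfl | rfl | rfl
    · exact hb (by rw [mul_one]; exact g1)
    · exact hb (by rw [mul_assoc, base, K.sq, mul_one]; exact h4)
    · exact hb (by rw [mul_assoc, eab]; exact g3)
    · exact hb (by rw [mul_assoc, eba]; exact g2)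
  · rintro ⟨ha, hb⟩
    refine hb ?_
    rw [mul_assoc (f (ind S) * e), base, K.sq, mul_one]
    rcases hec with rfl | rfl | rfl | rfl
    · rw [mul_one]; exact h4
    · exact g1
    · exact g2
    · exact g3

theorem Cocode.faith (K : Cocode z V f φ) : ∀ x y : G,
    x ∈ Subgroup.normalizer (V : Set G) → Commute x (base f) →
    y ∈ Subgroup.normalizer (V : Set G) → Commute y (base f) → x * x = 1 → y * y = 1 →
    x ∉ V → Commute x y → (∀ a ∈ V, IsA z (base f) a → Commute x a → Commute y a) →
    y ∈ V ∨ x * y ∈ V := by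
  classical
  intro x y hx hxt hy hyt hx2 hy2 hxV hxy hA
  set X : ↥(Subgroup.normalizer (V : Set G)) := ⟨x, hx⟩
  set Y : ↥(Subgroup.normalizer (V : Set G)) := ⟨y, hy⟩
  set σ := φ X with hσ
  set τ := φ Y with hτ
  have hone : φ 1 = 1 := (K.phi_one 1).2 V.one_mem
  have hσ2 : σ * σ = 1 := by
    rw [← K.phi_mul, show X * X = 1 from Subtype.ext hx2, hone]
  have hτ2 : τ * τ = 1 := by
    rw [← K.phi_mul, show Y * Y = 1 from Subtype.ext hy2, hone]
  have hστ : σ * τ = τ * σ := by
    rw [← K.phi_mul, ← K.phi_mul, show X * Y = Y * X from Subtype.ext hxy.eq]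
  by_contra hcon
  push Not at hcon
  have hτ1 : τ ≠ 1 := fun e => hcon.1 ((K.phi_one Y).1 e)
  have hν1 : σ * τ ≠ 1 := fun e => hcon.2 ((K.phi_one (X * Y)).1 (by rw [K.phi_mul]; exact e))
  have hν2 : σ * τ * (σ * τ) = 1 := by
    rw [show σ * τ * (σ * τ) = σ * (τ * σ) * τ by group, ← hστ,
      show σ * (σ * τ) * τ = σ * σ * (τ * τ) by group, hσ2, hτ2, one_mul]
  -- both stabilise the duad
  have hstab : ∀ {g : G} (hg : g ∈ Subgroup.normalizer (V : Set G)), Commute g (base f) →
      ({φ ⟨g, hg⟩ none, φ ⟨g, hg⟩ (some 0)} : Finset GolayPt) = {none, some 0} := by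
    intro g hg hgt
    have e := K.induces ⟨g, hg⟩ none (some 0) none_ne
    rw [show f (ind {none, some 0}) = base f from rfl] at e
    change g * base f * g⁻¹ = _ at e
    rw [hgt.eq, mul_inv_cancel_right] at e
    exact (K.eq_of_eq (by rw [Finset.card_pair none_ne])
      (by rw [Finset.card_pair ((φ ⟨g, hg⟩).injective.ne none_ne)])
      (by rw [Finset.card_pair none_ne, Finset.card_pair ((φ ⟨g, hg⟩).injective.ne none_ne)]
          norm_num) e).symm
  have hσab := hstab hx hxt
  have hτab := hstab hy hyt
  change ({σ none, σ (some 0)} : Finset GolayPt) = _ at hσab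
  change ({τ none, τ (some 0)} : Finset GolayPt) = _ at hτab
  -- transport of a fixed duad
  have hconj : ∀ {g : G} (hg : g ∈ Subgroup.normalizer (V : Set G)), Commute g (base f) →
      ∀ r s : GolayPt, r ≠ s → r ≠ none → r ≠ some 0 → s ≠ none → s ≠ some 0 →
      (Commute g (f (ind {none, some 0, r, s})) ↔
        ({φ ⟨g, hg⟩ r, φ ⟨g, hg⟩ s} : Finset GolayPt) = {r, s}) := by
    intro g hg hgt r s hrs r1 r2 s1 s2
    have e := K.induces ⟨g, hg⟩ r s hrs
    have e4 : f (ind {none, some 0, r, s}) = base f * f (ind {r, s}) := by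
      rw [base, K.symm]
      congr 2
      ext w
      simp only [Finset.mem_symmDiff, Finset.mem_insert, Finset.mem_singleton]
      grind
    have hinj := (φ ⟨g, hg⟩).injective.ne hrs
    rw [e4]
    constructor
    · intro h
      have h' : Commute g (f (ind {r, s})) := by
        have := hgt.mul_right h
        rwa [← mul_assoc, base, K.sq, one_mul] at this
      change g * f (ind {r, s}) * g⁻¹ = _ at e
      rw [h'.eq, mul_inv_cancel_right] at e
      exact (K.eq_of_eq (by rw [Finset.card_pair hrs]) (by rw [Finset.card_pair hinj])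
        (by rw [Finset.card_pair hrs, Finset.card_pair hinj]; norm_num) e).symm
    · intro h
      rw [h] at e
      exact hgt.mul_right (mul_inv_eq_iff_eq_mul.1 e)
  have hpair : ∀ r s : GolayPt, r ≠ s → r ≠ none → r ≠ some 0 → s ≠ none → s ≠ some 0 →
      ({σ r, σ s} : Finset GolayPt) = {r, s} → ({τ r, τ s} : Finset GolayPt) = {r, s} :=
    fun r s hrs r1 r2 s1 s2 h => (hconj hy hyt r s hrs r1 r2 s1 s2).1
      (hA _ (K.mem _) ((K.isA_iff (K.mem _)).2 ⟨r, s, hrs, r1, r2, s1, s2, rfl⟩)
        ((hconj hx hxt r s hrs r1 r2 s1 s2).2 h))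
  have hss : ∀ p, σ (σ p) = p := fun p => by rw [← Equiv.Perm.mul_apply, hσ2]; rfl
  have hout : ∀ r : GolayPt, r ≠ none → r ≠ some 0 → σ r ≠ none ∧ σ r ≠ some 0 := by
    intro r r1 r2
    have key : σ r ∉ ({σ none, σ (some 0)} : Finset GolayPt) := by
      simp [σ.injective.eq_iff, r1, r2]
    rw [hσab] at key
    simpa using key
  have hτout : ∀ r : GolayPt, r ≠ none → r ≠ some 0 → τ r ≠ none ∧ τ r ≠ some 0 := by
    intro r r1 r2
    have key : τ r ∉ ({τ none, τ (some 0)} : Finset GolayPt) := by
      simp [τ.injective.eq_iff, r1, r2]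
    rw [hτab] at key
    simpa using key
  set B := Finset.univ.filter fun p =>
    p ≠ none ∧ p ≠ some 0 ∧ σ p = p ∧ τ p ≠ p with hB
  have hBcard : B.card ≤ 2 := by
    rcases B.eq_empty_or_nonempty with h | ⟨p, hp⟩
    · simp [h]
    · rw [hB, Finset.mem_filter] at hp
      obtain ⟨-, p1, p2, p3, p4⟩ := hp
      refine (Finset.card_le_card (t := {p, τ p}) fun q hq => ?_).trans Finset.card_le_two
      rw [hB, Finset.mem_filter] at hq
      obtain ⟨-, q1, q2, q3, -⟩ := hq
      by_contra hne
      simp only [Finset.mem_insert, Finset.mem_singleton, not_or] at hne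
      have := hpair p q (Ne.symm hne.1) p1 p2 q1 q2 (by rw [p3, q3])
      have hmem : τ p ∈ ({p, q} : Finset GolayPt) := this ▸ Finset.mem_insert_self _ _
      simp only [Finset.mem_insert, Finset.mem_singleton] at hmem
      exact hmem.elim p4 fun e => hne.2 e.symm
  have hsub : (Finset.univ.filter fun p => τ p ≠ p) ∩
      (Finset.univ.filter fun p => (σ * τ) p ≠ p) ⊆ {none, some 0} ∪ B := by
    intro p hp
    simp only [Finset.mem_inter, Finset.mem_filter, Finset.mem_univ, true_and,
      Equiv.Perm.mul_apply] at hp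
    by_contra hp'
    simp only [hB, Finset.mem_union, Finset.mem_insert, Finset.mem_singleton, Finset.mem_filter,
      Finset.mem_univ, true_and, not_or] at hp'
    obtain ⟨⟨p1, p2⟩, p3⟩ := hp'
    by_cases hfix : σ p = p
    · exact p3 ⟨p1, p2, hfix, hp.1⟩
    · obtain ⟨o1, o2⟩ := hout p p1 p2
      have := hpair p (σ p) (Ne.symm hfix) p1 p2 o1 o2 (by rw [hss, Finset.pair_comm])
      have hmem : τ p ∈ ({p, σ p} : Finset GolayPt) := this ▸ Finset.mem_insert_self _ _
      simp only [Finset.mem_insert, Finset.mem_singleton] at hmem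
      rcases hmem with e | e
      · exact hp.1 e
      · exact (Finset.mem_filter.mp hp.2).2 (by show σ (τ p) = p; rw [e, hss])
  have h1 := moved_ge (K.perm Y) hτ2 hτ1
  have h2 := moved_ge (σ := σ * τ) (by rw [← K.phi_mul]; exact K.perm _) hν2 hν1
  have h3 := (Finset.card_le_card hsub).trans (Finset.card_union_le _ _)
  have h4 := Finset.card_union_add_card_inter (Finset.univ.filter fun p => τ p ≠ p)
    (Finset.univ.filter fun p => (σ * τ) p ≠ p)
  have h5 : ((Finset.univ.filter fun p => τ p ≠ p) ∪
      (Finset.univ.filter fun p => (σ * τ) p ≠ p)).card ≤ 24 :=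
    (Finset.card_le_univ _).trans_eq rfl
  have h6 : ({none, some 0} : Finset GolayPt).card = 2 := Finset.card_pair none_ne
  rw [← hτ] at h1
  omega

/-- The hypotheses of `JFourSecond73` for the duad of `none` and `some 0`. -/
theorem secHyp (K : Cocode z V f φ) (hcard : Nat.card ↥V = 2 ^ 11)
    (wc : ∀ g : G, (∀ v ∈ V, g * v * g⁻¹ ∈ Subgroup.normalizer (V : Set G)) →
      g ∈ Subgroup.normalizer (V : Set G))
    (loc : ∀ s ∈ V, IsConj z s → ∀ g : G, Commute g (base f) → Commute g s →
      g ∈ Subgroup.normalizer (V : Set G)) : SecHyp z (base f) V where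
  tV := K.mem _
  sq := fun v hv => by
    obtain ⟨s, -, rfl⟩ := K.surj v hv
    exact K.sq _
  comm := fun v hv w hw => by
    obtain ⟨s, -, rfl⟩ := K.surj v hv
    obtain ⟨u, -, rfl⟩ := K.surj w hw
    show f _ * f _ = f _ * f _
    rw [← K.mul, ← K.mul, add_comm]
  card := hcard
  nz := K.duad _ _ none_ne
  z1 := K.z1
  wc := wc
  loc := loc
  odd := K.odd
  k1 := K.k1
  k2 := K.k2
  ex := K.ex
  faith := K.faith

end

end Cfsg.Agent.JFourSecondData73
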