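import Mathlib
import Cfsg.Agent.Lib.J4SecondLocal73
import Cfsg.Agent.Lib.J4Main18
import Cfsg.Agent.Lib.JFourSecondData73

/-!
The centralizer of an involution of the second class of the elementary abelian subgroup of order
`2 ^ 11` of a simple group of Janko-four type normalises that subgroup.
-/

set_option autoImplicit false
set_option linter.unusedSectionVars false
set_option linter.style.haveILetI false
set_option maxHeartbeats 800000

namespace Cfsg.Agent.J4SecondGroup73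

open Subgroup
open Cfsg Cfsg.Agent.JFourSetting97 Cfsg.Agent.JFourModule85 Cfsg.Agent.J4Elem85
  Cfsg.Agent.J4Orbit48 Cfsg.Agent.J4Thompson85
open Cfsg.Agent.J4Syl18 (nc nc_inj nc_zero uList_spec orb_facts mem_Fix_E1)

universe u

variable {G : Type u} [Group G] [Finite G]

/-- Bit coordinates with a checked table give the cocode structure. -/
theorem exists_cocode (z : G) (hz1 : z ≠ 1) (A : Subgroup G) (Ψ : ℕ → G) {lab : List ℕ}
    {spanC : List (List ℕ)} {R : List ℕ}
    (hT : GolayCocodeTables22.tablesOK lab spanC R = true)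
    (hmul : ∀ a b, Ψ (Nat.xor a b) = Ψ a * Ψ b) (hA : ∀ i, Ψ i ∈ A)
    (hinj : ∀ i < 2048, ∀ j < 2048, Ψ i = Ψ j → i = j) (hsurj : ∀ x ∈ A, ∃ i < 2048, Ψ i = x)
    (hR : ∀ x, (x ∈ A ∧ x ≠ 1 ∧ ¬ IsConj z x) ↔ ∃ r ∈ R, Ψ r = x)
    (hcent : ∀ g, (∀ x ∈ A, g * x = x * g) → g ∈ A) :
    ∃ (f : (GolayPt → ZMod 2) → G) (φ : ↥(normalizer (A : Set G)) → Equiv.Perm GolayPt),
      JFourSecondData73.Cocode z A f φ := by
  classical
  have hcomm : ∀ a ∈ A, ∀ b ∈ A, a * b = b * a := fun a ha b hb => by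
    obtain ⟨i, -, rfl⟩ := hsurj a ha
    obtain ⟨j, -, rfl⟩ := hsurj b hb
    rw [← hmul, ← hmul, show Nat.xor i j = Nat.xor j i from Nat.xor_comm i j]
  have hnorm : ∀ {m x : G}, m ∈ normalizer (A : Set G) → x ∈ A → m * x * m⁻¹ ∈ A :=
    fun {m x} hm hx => (Subgroup.mem_normalizer_iff.1 hm x).1 hx
  letI : CommGroup A :=
    { A.toGroup with mul_comm := fun a b => Subtype.ext (hcomm a a.2 b b.2) }
  let M := normalizer (A : Set G)
  let ψ : ℕ → Additive A := fun i => Additive.ofMul ⟨Ψ i, hA i⟩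
  have hx : ∀ a b, ψ (Nat.xor a b) = ψ a + ψ b := fun a b =>
    congrArg Additive.ofMul (Subtype.ext (hmul a b) :
      (⟨Ψ (Nat.xor a b), hA _⟩ : A) = ⟨Ψ a, hA a⟩ * ⟨Ψ b, hA b⟩)
  have hinj' : ∀ i < 2048, ∀ j < 2048, ψ i = ψ j → i = j := fun i hi j hj e =>
    hinj i hi j hj (congrArg (fun v : Additive A => (Additive.toMul v).1) e)
  have hsurj' : ∀ v, ∃ i < 2048, ψ i = v := fun v => by
    obtain ⟨i, hi, e⟩ := hsurj _ (Additive.toMul v).2
    exact ⟨i, hi, congrArg Additive.ofMul (Subtype.ext e : (⟨Ψ i, hA i⟩ : A) = Additive.toMul v)⟩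
  obtain ⟨hL, hspan, hduads⟩ := GolayCocodeTables22.cocode hx hT hinj' hsurj'
  set L := GolayCocodeTables22.Lc lab ψ hx with hLdef
  have hdiff : ∀ v, v ∈ GolayDuadRigid13.duads L ↔
      (Additive.toMul v).1 ≠ 1 ∧ ¬ IsConj z (Additive.toMul v).1 := by
    intro v
    rw [hduads]
    constructor
    · rintro ⟨r, hr, rfl⟩
      exact ((hR _).2 ⟨r, hr, rfl⟩).2
    · intro hv
      obtain ⟨r, hr, e⟩ := (hR _).1 ⟨(Additive.toMul v).2, hv.1, hv.2⟩
      exact ⟨r, hr, congrArg Additive.ofMul (Subtype.ext e : (⟨Ψ r, hA r⟩ : A) = Additive.toMul v)⟩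
  let c : M →* AddMonoid.End (Additive A) :=
    { toFun := fun m =>
        { toFun := fun v => Additive.ofMul
            ⟨(m : G) * (Additive.toMul v).1 * (m : G)⁻¹, hnorm m.2 (Additive.toMul v).2⟩
          map_zero' := congrArg Additive.ofMul (Subtype.ext (by simp) :
            (⟨(m : G) * (1 : A).1 * (m : G)⁻¹, hnorm m.2 (one_mem _)⟩ : A) = 1)
          map_add' := fun a b => congrArg Additive.ofMul (Subtype.ext (by simp [mul_assoc]) :
            (⟨(m : G) * (Additive.toMul a * Additive.toMul b).1 * (m : G)⁻¹, hnorm m.2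
              (Additive.toMul a * Additive.toMul b).2⟩ : A) =
              ⟨_, hnorm m.2 (Additive.toMul a).2⟩ * ⟨_, hnorm m.2 (Additive.toMul b).2⟩) }
      map_one' := AddMonoidHom.ext fun v => congrArg Additive.ofMul (Subtype.ext (by simp) :
        (⟨((1 : M) : G) * (Additive.toMul v).1 * ((1 : M) : G)⁻¹,
          hnorm (1 : M).2 (Additive.toMul v).2⟩ : A) = Additive.toMul v)
      map_mul' := fun a b => AddMonoidHom.ext fun v => congrArg Additive.ofMul (Subtype.ext
        (show ((a * b : M) : G) * (Additive.toMul v).1 * ((a * b : M) : G)⁻¹ =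
          (a : G) * ((b : G) * (Additive.toMul v).1 * (b : G)⁻¹) * (a : G)⁻¹ by simp [mul_assoc])) }
  have hcval : ∀ (m : M) v, (Additive.toMul (c m v)).1 = (m : G) * (Additive.toMul v).1 * (m : G)⁻¹ :=
    fun m v => rfl
  have hRG : ∀ m : M, ∀ p q, p ≠ q → ∃ r t, r ≠ t ∧
      c m (GolayDuadRigid13.duad L p q) = GolayDuadRigid13.duad L r t := by
    intro m p q hpq
    have h1 := (hdiff _).1 ⟨p, q, hpq, rfl⟩
    obtain ⟨r, t, hrt, e⟩ := (hdiff (c m (GolayDuadRigid13.duad L p q))).2 ⟨fun e => h1.1 (by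
        rw [hcval, mul_inv_eq_one] at e
        exact mul_eq_left.1 e), fun e => h1.2 (by
        rw [hcval] at e
        exact IsConj.trans e (isConj_iff.2 ⟨(m : G)⁻¹, by group⟩))⟩
    exact ⟨r, t, hrt, e.symm⟩
  obtain ⟨φ, hφ, hker, -⟩ := GolayDuadRigid13.exists_hom hL hspan c hRG
  have hkerc : c.ker = A.subgroupOf M := by
    ext m
    rw [MonoidHom.mem_ker, Subgroup.mem_subgroupOf]
    constructor
    · intro e
      refine hcent _ fun x hx => ?_
      have e1 := congrArg (fun f : AddMonoid.End (Additive A) =>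
        (Additive.toMul (f (Additive.ofMul ⟨x, hx⟩))).1) e
      simp only [hcval] at e1
      exact mul_inv_eq_iff_eq_mul.1 e1
    · intro hm
      refine AddMonoidHom.ext fun v => congrArg Additive.ofMul (Subtype.ext ?_)
      show (m : G) * (Additive.toMul v).1 * (m : G)⁻¹ = (Additive.toMul v).1
      rw [hcomm _ hm _ (Additive.toMul v).2, mul_inv_cancel_right]
  refine ⟨fun w => (Additive.toMul (L w)).1, fun m => (φ m : Equiv.Perm GolayPt),
    { mul := fun v w => by rw [map_add]; rfl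
      mem := fun w => (Additive.toMul (L w)).2
      ker := fun s hs => Iff.trans ⟨fun e => Additive.toMul.injective (Subtype.ext e),
        fun e => congrArg (fun v : Additive A => (Additive.toMul v).1) e⟩ (hL s hs)
      surj := fun v hv => by
        obtain ⟨s, hs, e⟩ := hspan (Additive.ofMul ⟨v, hv⟩)
        exact ⟨s, hs, congrArg (fun v : Additive A => (Additive.toMul v).1) e⟩
      z1 := fun e => hz1 (isConj_one_left.1 e)
      duad := fun p q hpq => ((hdiff _).1 ⟨p, q, hpq, rfl⟩).2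
      other := fun v hv h1 h2 => by
        obtain ⟨p, q, hpq, e⟩ := (hdiff (Additive.ofMul ⟨v, hv⟩)).2 ⟨h1, h2⟩
        exact ⟨p, q, hpq, congrArg (fun v : Additive A => (Additive.toMul v).1) e⟩
      perm := fun g => (φ g).2
      phi_mul := fun g k => by rw [map_mul]; rfl
      phi_one := fun g => by
        rw [show ((φ g : Equiv.Perm GolayPt) = 1) ↔ φ g = 1 from
            ⟨fun e => Subtype.ext e, fun e => congrArg Subtype.val e⟩, ← MonoidHom.mem_ker, hker,
          hkerc, Subgroup.mem_subgroupOf]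
      induces := fun g p q hpq =>
        congrArg (fun v : Additive A => (Additive.toMul v).1) (hφ g p q hpq) }⟩

section Main

variable {z : G} {P : Subgroup G}
variable {V : Type u} [AddCommGroup V] {zc : ↥(HH z)}
  {π : ↥(HH z) → V} {ρ : ↥(HH z) ⧸ QQ z →* AddMonoid.End V}
  {q : V → ZMod 2} {n : ↥(HH z) ⧸ QQ z}
  {Mb : Subgroup (↥(HH z) ⧸ QQ z)}
variable (D : Data z P zc π ρ q n Mb)
variable {F : Type} [Field F] [Fintype F] {s : F} {h : U62Mon93.S4 s} {ν : (Fin 6 → F) → V}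
  (C : J4Syl18.Coord h ρ q n Mb ν)
include D C

/-- An element conjugating the subgroup into its normaliser lies in the normaliser. -/
theorem wc {g : G} (hg : ∀ v ∈ AG D C, g * v * g⁻¹ ∈ normalizer (AG D C : Set G)) :
    g ∈ normalizer (AG D C : Set G) := by
  classical
  haveI : Fact (Nat.Prime 2) := ⟨Nat.prime_two⟩
  obtain ⟨hea, hcard, -⟩ := AG_facts D C
  set A := AG D C with hA
  set B := A.map (MulAut.conj g).toMonoidHom with hB
  have hBea : J4Syl18.EA B := ea_of_sq (by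
    rintro _ ⟨x, hx, rfl⟩; rw [← map_mul, hea.1 x hx, map_one])
  have hBcard : Nat.card B = 2 ^ 11 := by
    rw [hB, Subgroup.card_map_of_injective (MulAut.conj g).injective, hcard]
  have hBN : B ≤ normalizer (A : Set G) := by
    rintro _ ⟨x, hx, rfl⟩
    exact hg x hx
  have h2 : IsPGroup 2 ↥(B ⊔ A) :=
    IsPGroup.to_sup_of_normal_right' (IsPGroup.of_card hBcard) (IsPGroup.of_card hcard) hBN
  obtain ⟨T, hT⟩ := h2.exists_le_sylow
  obtain ⟨k, -, hu⟩ := sylow_unique D C T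
  have hBA : B = A := (hu B (le_sup_left.trans hT) hBea hBcard.ge).trans
    (hu A (le_sup_right.trans hT) hea hcard.ge).symm
  refine Subgroup.mem_normalizer_fintype fun v hv => ?_
  have : g * v * g⁻¹ ∈ B := ⟨v, hv, rfl⟩
  rwa [hBA] at this

/-- An element centralising an element of the second class and a conjugate of `z` in the subgroup
normalises it. -/
theorem loc [IsSimpleGroup G] (hG : ¬ IsMulCommutative G) (hJ : Cfsg.IsOfJankoFourTypeWith z P)
    {a0 t g : G} (hs : a0 ∈ AG D C) (hsz : IsConj z a0) (ht : t ∈ AG D C) (ht1 : t ≠ 1)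
    (htz : ¬ IsConj z t) (hgt : Commute g t) (hgs : Commute g a0) :
    g ∈ normalizer (AG D C : Set G) := by
  classical
  obtain ⟨m, hm, rfl⟩ := (Set.ext_iff.1 (J4Fusion18.orbit_z D C) a0).1 ⟨hs, hsz⟩
  set g' := m⁻¹ * g * m with hg'
  have hgH : g' ∈ HH z := by
    refine Subgroup.mem_centralizer_singleton_iff.2 ?_
    have := congrArg (fun x => m⁻¹ * x * m) hgs.eq
    simpa [hg', mul_assoc] using this
  set t' := m⁻¹ * t * m with ht'
  have ht'A : t' ∈ AG D C := by
    have := J4Fusion18.AG_normal D C (inv_mem hm) ht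
    rwa [inv_inv] at this
  obtain ⟨a, haA, hae⟩ := ht'A
  have hae' : (a : G) = m⁻¹ * t * m := hae
  have hga : (⟨g', hgH⟩ : ↥(HH z)) * a = a * ⟨g', hgH⟩ := Subtype.ext (by
    show g' * (a : G) = (a : G) * g'
    have := congrArg (fun x => m⁻¹ * x * m) hgt.eq
    simpa [hg', hae', mul_assoc] using this)
  have haz : ¬ IsConj z (a : G) := fun e => htz (e.trans (isConj_iff.2 ⟨m, by rw [hae']; group⟩))
  have ha1 : a ≠ 1 := fun e => ht1 (by
    have e' : m⁻¹ * t * m = 1 := by rw [← hae', e]; rfl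
    calc t = m * (m⁻¹ * t * m) * m⁻¹ := by group
      _ = 1 := by rw [e', mul_one, mul_inv_cancel])
  have key : (⟨g', hgH⟩ : ↥(HH z)) ∈ NA D C := by
    by_cases haQ : a ∈ QQ z
    swap
    · exact J4SecondLocal73.cent_outside D C haA haQ hga
    obtain ⟨x5, x85, -, -, -, ⟨-, h85z, -⟩, hin, -⟩ := J4Fusion18.classes D C hG hJ
    have hrel : ∀ x ∈ AA D C, x ∈ QQ z → x ≠ 1 → x ≠ zc → ¬ IsConj z (x : G) →
        Rel D C x5 x := by
      intro x hxA hxQ h1 h2 hxz
      refine (hin x hxA hxQ h1 h2).resolve_right ?_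
      rintro ⟨k, -, rfl⟩
      exact hxz (h85z.trans (isConj_iff.2 ⟨(k : G), rfl⟩))
    have hazc : a ≠ zc := fun e => haz (by rw [e, D.zc_val])
    obtain ⟨xn, hX, -, -⟩ := J4Coord97.exists_xn D C hJ
    have hF := J4Main18.ff_of hG hJ D C
    obtain ⟨gg, hgg⟩ := J4Coord97.exists_gens D C hX hF
    have hc0 : J4Data18.u18.getD 0 0 ∈ J4Data18.u18 := by decide +kernel
    obtain ⟨x, hxQ, ex⟩ := D.link.surj (nc s ν (J4Data18.u18.getD 0 0))
    have hxR : ¬ IsConj z (x : G) :=
      J4Coord97.u18_RR D C hX hgg hF hxQ ⟨_, hc0, ex⟩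
    obtain ⟨-, -, -, -, -, h18, -⟩ := orb_facts (hyp D) C
    have hxA : x ∈ AA D C := (mem_AA_Q D C hxQ).2
      (ex ▸ (mem_Fix_E1 (hyp D) C).2 ⟨_, (h18 _ hc0).1, rfl⟩)
    have hx0 : π x ≠ 0 := fun e0 => (h18 _ hc0).2.1 (nc_inj (hyp D) C
      (uList_spec (hyp D) C (h18 _ hc0).1).1 (by norm_num)
      ((ex.symm.trans e0).trans (nc_zero (hyp D) C).symm))
    obtain ⟨k, hk, rfl⟩ := Rel.trans D C (Rel.symm D C (hrel x hxA hxQ
      (fun e => hx0 ((D.link.ker x hxQ).2 (Or.inl e)))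
      (fun e => hx0 ((D.link.ker x hxQ).2 (Or.inr e))) hxR)) (hrel a haA haQ ha1 hazc haz)
    have hk' : k⁻¹ * ⟨g', hgH⟩ * k ∈ NA D C := by
      refine J4SecondLocal73.cent_inside D C hxQ hc0 ex ?_
      have := congrArg (fun y => k⁻¹ * y * k) hga
      simpa [mul_assoc] using this
    have := mul_mem (mul_mem hk hk') (inv_mem hk)
    rwa [show k * (k⁻¹ * (⟨g', hgH⟩ : ↥(HH z)) * k) * k⁻¹ = ⟨g', hgH⟩ by group] at this
  have h' : g' ∈ normalizer (AG D C : Set G) := J4Fusion18.NA_normalizer D C key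
  rw [show g = m * g' * m⁻¹ by rw [hg']; group]
  exact mul_mem (mul_mem hm h') (inv_mem hm)

end Main

/-- The subgroup with the orbit counts and the centralizer of the second class. -/
theorem exists_second [IsSimpleGroup G] (hG : ¬ IsMulCommutative G) {z : G} {P : Subgroup G}
    (hJ : Cfsg.IsOfJankoFourTypeWith z P) :
    ∃ (A : Subgroup G) (t : G),
      (∀ B : Subgroup G, J4Syl18.EA B → Nat.card B = 2 ^ 11 →
        ∃ g : G, B = A.map (MulAut.conj g).toMonoidHom) ∧
      z ∈ A ∧ t ∈ A ∧ t ≠ 1 ∧ ¬ IsConj z t ∧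
      {v : G | ∃ n ∈ normalizer (A : Set G), n * z * n⁻¹ = v}.ncard = 1771 ∧
      {v : G | ∃ n ∈ normalizer (A : Set G), n * t * n⁻¹ = v}.ncard = 276 ∧
      centralizer ({t} : Set G) ≤ normalizer (A : Set G) := by
  classical
  obtain ⟨V, iV, zc, π, ρ, q, n, Mb, F, iF, iF', s, h, ν, D, C⟩ := J4Exists97.exists_coords hJ
  obtain ⟨hea, hcard, hzA⟩ := AG_facts D C
  obtain ⟨-, -, -, -, -, -, -, -, -, -, h1771⟩ := J4Fusion18.classes D C hG hJ
  have h276 : {b | b ∈ AG D C ∧ b ≠ 1 ∧ ¬ IsConj z b}.ncard = 276 := by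
    have e : {b | b ∈ AG D C ∧ b ≠ 1 ∧ ¬ IsConj z b} =
        ((AG D C : Set G) \ {1}) \ {b | b ∈ AG D C ∧ IsConj z b} := by
      ext b
      simp only [Set.mem_ofPred_eq, Set.mem_sdiff, Set.mem_singleton_iff, SetLike.mem_coe]
      tauto
    rw [e, Set.ncard_sdiff (t := (AG D C : Set G) \ {1}) (fun b hb => ⟨hb.1, fun e1 =>
        z_ne_one D C (isConj_one_left.1 (Set.mem_singleton_iff.1 e1 ▸ hb.2))⟩) (Set.toFinite _),
      Set.ncard_sdiff_singleton_of_mem (one_mem _), ← Nat.card_coe_set_eq, SetLike.coe_sort_coe,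
      hcard, h1771]
    all_goals norm_num
  obtain ⟨Ψ, hmul, hA, hinj, hsurj, hR⟩ := J4Coord97.model D C (J4Main18.ff_of hG hJ D C) hJ
  obtain ⟨f, φ, K⟩ := exists_cocode z (z_ne_one D C) (AG D C) Ψ J4CocodeData22.tables_ok hmul hA
    hinj hsurj hR (fun g hg => cent_AG D C hg)
  set t := JFourSecondData73.base f with ht
  have htA : t ∈ AG D C := K.mem _
  have htz : ¬ IsConj z t := K.duad _ _ JFourSecondData73.none_ne
  have ht1 : t ≠ 1 := by
    intro e
    have h2 : ({none, some 0} : Finset GolayPt).card = 2 :=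
      Finset.card_pair JFourSecondData73.none_ne
    have e0 := K.eq_of_eq (S := {none, some 0}) (T := ∅) (by omega) (by simp) (by simp)
      (Eq.trans e (by rw [GolayModule.ind_empty, K.f_zero]))
    rw [e0] at h2
    simp at h2
  have hsec := JFourSecond73.second_centralizer_le (JFourSecondData73.secHyp K hcard (fun g => wc D C)
    (fun a ha haz g hgt hga => loc D C hG hJ ha haz htA ht1 htz hgt hga))
  refine ⟨AG D C, t, fun B hB hc => exists_conj D C hB hc, hzA, htA, ht1, htz, ?_, ?_, hsec⟩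
  · rw [← J4Fusion18.orbit_z D C, h1771]
  · rw [← h276]
    congr 1
    ext b
    constructor
    · rintro ⟨m, hm, rfl⟩
      exact ⟨J4Fusion18.AG_normal D C hm htA, fun e => ht1 (conj_eq_one_iff.1 e),
        fun e => htz (e.trans (isConj_iff.2 ⟨m, rfl⟩).symm)⟩
    · rintro ⟨hb, hb1, hbz⟩
      exact J4Fusion18.trans_R D C hG hJ t htA b hb ht1 hb1 htz hbz

end Cfsg.Agent.J4SecondGroup73
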