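import Cfsg.Agent.S1711
import Cfsg.Prelude.Def_Sporadic

/-!
The presented fourth Janko group has no homomorphism onto the Mathieu group extending the one on the
first two generators; simplicity follows from the index and maximality of a subgroup of shape 2^11 : M24.
-/

set_option autoImplicit false
set_option maxRecDepth 100000

namespace Cfsg.Agent.J4Simple36

open Cfsg Cfsg.Agent.GolayBasic Cfsg.Agent.GolayPerm Cfsg.Agent.GolayEnumComp
open Cfsg.Agent.J4PresGen13 Cfsg.Agent.J4M24Iso13
open Cfsg.Agent.J4Rep13 (fgen)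

/-- The quotient map from the free group. -/
noncomputable abbrev q : FreeGroup Spor.J4.Gen →* Spor.J4 :=
  PresentedGroup.mk (Spor.coxRelators Spor.J4.edges ∪ {r | r ∈ Spor.J4.extra})

theorem q_rel {r : FreeGroup Spor.J4.Gen} (h : r ∈ Spor.J4.extra) : q r = 1 := by
  rw [PresentedGroup.mk_eq_one_iff]
  exact Subgroup.subset_normalClosure (Or.inr h)

theorem tau_x : S1711.tau (ps 0) = q Spor.J4.x := PresentedGroup.toGroup.of S1711.qimg_rel

theorem tau_y : S1711.tau (ps 1) = q Spor.J4.y := PresentedGroup.toGroup.of S1711.qimg_rel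

theorem sigma_ps0 : sigma (ps 0) = gg 0 := PresentedGroup.toGroup.of fimg_rel

theorem sigma_ps1 : sigma (ps 1) = gg 1 := PresentedGroup.toGroup.of fimg_rel

/-- The word commuting with `t`. -/
def zW : List Nat := [2, 0, 2, 0, 3, 0, 3, 0, 2, 0, 2, 0, 2]

/-- The word of the last relation. -/
def wW : List Nat := [2, 0, 2, 0, 2, 0, 2]

/-- Three words in `x`, `z`, `z⁻¹`. -/
def blk : Nat → List Nat
  | 0 => [0]
  | 1 => zW
  | _ => invW zW

/-- A word in the blocks, as a word in the letters. -/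
def flat (b : List Nat) : List Nat := b.flatMap blk

/-- Words carrying the first point to each point. -/
def tree : List (List Nat) := [[], [1, 0, 1], [1, 1, 0], [1, 1, 0, 1, 0, 1], [1, 0, 1, 0, 1], [0, 1, 0, 1, 1, 0], [1, 0, 1, 0], [0, 1], [0, 1, 1, 1, 0], [0, 1, 0, 1], [1, 0], [1, 1, 1, 0, 1, 0, 1], [0, 1, 0, 1, 0], [1, 1, 1, 0, 1, 0], [1, 0, 1, 1, 0], [0], [1, 1, 0, 1, 0], [1, 0, 1, 0, 1, 0], [1], [1, 1, 1, 0], [0, 1, 1, 0], [1, 0, 1, 0, 1, 1, 0], [1, 0, 1, 1, 1, 0], [0, 1, 0]]

/-- Words fixing the first point, with no other common fixed point. -/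
def stab : List (List Nat) := [[1, 1], [2, 0, 1, 1, 0, 1], [0, 2, 2, 2, 0, 1, 1, 0, 1, 1, 0]]

theorem tree_check : (List.range 24).all (fun i => okP (flat (tree.getD i [])) &&
    Nat.beq (pimg (evalP (flat (tree.getD i []))) 0) i) = true := by decide +kernel

theorem stab_check : (stab.all (fun b => okP (flat b) && Nat.beq (pimg (evalP (flat b)) 0) 0) &&
    (List.range 24).all (fun i => Nat.beq i 0 ||
      stab.any (fun b => !Nat.beq (pimg (evalP (flat b)) i) i))) = true := by decide +kernel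

/-- **Only the identity commutes with the images of `x` and `z`.** -/
theorem central_eq_one {c : Cfsg.M24} (hx : Commute c (gg 0)) (hz : Commute c (wv gg zW)) : c = 1 := by
  have hb : ∀ k, Commute c (wv gg (blk k)) := by
    intro k
    rcases k with _ | _ | k
    · simpa [blk, wv, lv] using hx
    · exact hz
    · show Commute c (wv gg (invW zW))
      rw [wv_invW]; exact hz.inv_right
  have hc : ∀ b, Commute c (wv gg (flat b)) := by
    intro b
    induction b with
    | nil => exact Commute.one_right c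
    | cons k b ih => rw [flat, List.flatMap_cons, wv_append]; exact (hb k).mul_right ih
  have app : ∀ b (p : GolayPt), okP (flat b) = true →
      (c : Equiv.Perm GolayPt) (pt (pimg (evalP (flat b)) (idx p))) =
        pt (pimg (evalP (flat b)) (idx ((c : Equiv.Perm GolayPt) p))) := by
    intro b p h
    obtain ⟨hv, e⟩ := wv_gg (flat b) h
    have h2 := DFunLike.congr_fun (congrArg (fun g : Cfsg.M24 => (g : Equiv.Perm GolayPt)) (hc b)) p
    rw [Subgroup.coe_mul, Subgroup.coe_mul, e, Equiv.Perm.mul_apply, Equiv.Perm.mul_apply,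
      permOf_apply hv, permOf_apply hv] at h2
    exact h2
  have hs := stab_check
  simp only [Bool.and_eq_true, List.all_eq_true, List.mem_range, Bool.or_eq_true, List.any_eq_true,
    Bool.not_eq_true', Nat.beq_eq] at hs
  have h0 : idx ((c : Equiv.Perm GolayPt) (pt 0)) = 0 := by
    by_contra hne
    rcases hs.2 _ (idx_lt ((c : Equiv.Perm GolayPt) (pt 0))) with h | ⟨b, hb', h⟩
    · exact hne h
    · obtain ⟨hok, hfix⟩ := hs.1 b hb'
      have := congrArg idx (app b (pt 0) hok)
      rw [idx_pt (by norm_num), hfix,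
        idx_pt (pimg_lt (wv_gg _ hok).1 (idx_lt _))] at this
      rw [← this, Nat.beq_refl] at h
      exact absurd h (by simp)
  apply Subtype.ext
  ext1 p
  have ht := tree_check
  simp only [List.all_eq_true, Bool.and_eq_true, List.mem_range, Nat.beq_eq] at ht
  obtain ⟨hok, himg⟩ := ht (idx p) (idx_lt p)
  have := app (tree.getD (idx p) []) (pt 0) hok
  rw [h0, idx_pt (by norm_num), himg, pt_idx] at this
  simpa using this

theorem map_wv_fgen {H : Type} [Group H] (F : FreeGroup Spor.J4.Gen →* H) (w : List Nat)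
    (hw : ∀ l ∈ w, l < 4) (u : Nat → H) (h0 : F Spor.J4.x = u 0) (h1 : F Spor.J4.y = u 1) :
    F (wv fgen w) = wv u w := by
  induction w with
  | nil => simp [wv]
  | cons l w ih =>
    rw [wv, wv, map_mul, ih fun k hk => hw k (List.mem_cons_of_mem _ hk)]
    congr 1
    have := hw l List.mem_cons_self
    interval_cases l <;> simp [lv, fgen, h0, h1]

theorem rel_z : Spor.J4.t⁻¹ * (wv fgen zW)⁻¹ * Spor.J4.t * wv fgen zW ∈ Spor.J4.extra := by
  decide +kernel

theorem rel_x : Spor.J4.t⁻¹ * Spor.J4.x⁻¹ * Spor.J4.t * Spor.J4.x ∈ Spor.J4.extra := by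
  decide +kernel

theorem rel_w : ((wv fgen wW) ^ 3 * Spor.J4.t *
    ((((Spor.J4.x * Spor.J4.y) ^ 3) * Spor.J4.y * ((Spor.J4.x * Spor.J4.y) ^ 6) * Spor.J4.y)⁻¹ *
      Spor.J4.t *
      (((Spor.J4.x * Spor.J4.y) ^ 3) * Spor.J4.y * ((Spor.J4.x * Spor.J4.y) ^ 6) * Spor.J4.y))) ^ 2
    ∈ Spor.J4.extra := by
  decide +kernel

theorem w6_check : (okP (wW ++ (wW ++ (wW ++ (wW ++ (wW ++ wW))))) &&
    !Nat.beq (pimg (evalP (wW ++ (wW ++ (wW ++ (wW ++ (wW ++ wW)))))) 2) 2) = true := by
  decide +kernel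

/-- **There is no homomorphism onto the Mathieu group extending the one on `x`, `y`.** -/
theorem no_hom (f : Spor.J4 →* Cfsg.M24) (hx : f (q Spor.J4.x) = gg 0)
    (hy : f (q Spor.J4.y) = gg 1) : False := by
  set F := f.comp q
  have hF : ∀ r ∈ Spor.J4.extra, F r = 1 := fun r hr => by
    show f (q r) = 1
    rw [q_rel hr, map_one]
  have comm_of : ∀ a b : Cfsg.M24, a⁻¹ * b⁻¹ * a * b = 1 → Commute a b := fun a b h => by
    have : a * b = b * a := by
      calc a * b = b * a * (a⁻¹ * b⁻¹ * a * b) := by group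
        _ = b * a := by rw [h, mul_one]
    exact this
  have hz := hF _ rel_z
  have hx' := hF _ rel_x
  simp only [map_mul, map_inv, map_wv_fgen F zW (by decide) gg hx hy] at hz
  simp only [map_mul, map_inv] at hx'
  have ht : F Spor.J4.t = 1 := central_eq_one
    (by simpa [F, hx] using comm_of _ _ hx') (comm_of _ _ hz)
  have hw := hF _ rel_w
  simp only [map_mul, map_inv, map_pow, map_wv_fgen F wW (by decide) gg hx hy, ht, mul_one,
    inv_mul_cancel] at hw
  have h6 : wv gg (wW ++ (wW ++ (wW ++ (wW ++ (wW ++ wW))))) = 1 := by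
    simp only [wv_append]
    rw [← hw, ← pow_mul]
    simp [pow_succ, mul_assoc]
  have hc := w6_check
  simp only [Bool.and_eq_true, Bool.not_eq_true'] at hc
  obtain ⟨hv, e⟩ := wv_gg _ hc.1
  rw [h6, OneMemClass.coe_one] at e
  have := congrArg idx (DFunLike.congr_fun e.symm (pt 2))
  rw [permOf_apply hv, pfun, Equiv.Perm.one_apply, idx_pt (by norm_num : (2 : ℕ) < 24),
    idx_pt (pimg_lt hv (by norm_num : (2 : ℕ) < 24))] at this
  rw [this, Nat.beq_refl] at hc
  exact absurd hc.2 (by simp)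

theorem card_P : Nat.card P = 244823040 := by
  rw [Nat.card_congr presEquiv.toEquiv, GolayM24.card_M24]

theorem ne_bot_P (h : (⊥ : Subgroup P) = ⊤) : False := by
  have := card_P
  rw [← Subgroup.card_top (G := P), ← h, Subgroup.card_bot] at this
  omega

/-- A normal subgroup containing the image of the Mathieu group is everything. -/
theorem eq_top_of_range_le (N : Subgroup Spor.J4) [N.Normal] (h : S1711.tau.range ≤ N) : N = ⊤ := by
  have hx : q Spor.J4.x ∈ N := h ⟨ps 0, tau_x⟩
  have hy : q Spor.J4.y ∈ N := h ⟨ps 1, tau_y⟩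
  let F : FreeGroup Spor.J4.Gen →* Spor.J4 ⧸ N := (QuotientGroup.mk' N).comp q
  have h1 : F Spor.J4.x = 1 := (QuotientGroup.eq_one_iff _).2 hx
  have h2 : F Spor.J4.y = 1 := (QuotientGroup.eq_one_iff _).2 hy
  have hF : ∀ r ∈ Spor.J4.extra, F r = 1 := fun r hr => by
    show QuotientGroup.mk' N (q r) = 1
    rw [q_rel hr, map_one]
  have ht2 := hF (Spor.J4.t ^ 2) (by decide +kernel)
  have ht3 := hF ((Spor.J4.y * ((Spor.J4.y * Spor.J4.x * (Spor.J4.y⁻¹) * Spor.J4.x * Spor.J4.y * Spor.J4.x *
      (Spor.J4.y⁻¹) * Spor.J4.x)⁻¹ * Spor.J4.t * (Spor.J4.y * Spor.J4.x * (Spor.J4.y⁻¹) * Spor.J4.x *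
      Spor.J4.y * Spor.J4.x * (Spor.J4.y⁻¹) * Spor.J4.x))) ^ 3) (by decide +kernel)
  simp only [map_pow, map_mul, map_inv, h1, h2, one_mul, mul_one, inv_one] at ht2 ht3
  have h3 : F Spor.J4.t = 1 := by
    rw [pow_succ, ht2, one_mul] at ht3
    exact ht3
  refine top_le_iff.1 (le_trans (PresentedGroup.closure_range_of _).ge ((Subgroup.closure_le _).2 ?_))
  rintro _ ⟨g, rfl⟩
  cases g
  · exact hx
  · exact hy
  · exact (QuotientGroup.eq_one_iff _).1 h3

/-- A normal subgroup is everything or meets the image of the Mathieu group trivially. -/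
theorem normal_cases (N : Subgroup Spor.J4) [N.Normal] :
    N = ⊤ ∨ ∀ p, S1711.tau p ∈ N → p = 1 := by
  have := P_simple
  rcases (inferInstance : (N.comap S1711.tau).Normal).eq_bot_or_eq_top with h | h
  · exact Or.inr fun p hp => Subgroup.mem_bot.1 (h ▸ (hp : p ∈ N.comap S1711.tau))
  · refine Or.inl (eq_top_of_range_le N ?_)
    rintro _ ⟨p, rfl⟩
    exact (show p ∈ N.comap S1711.tau from h ▸ Subgroup.mem_top p)

variable (M : Subgroup Spor.J4) (π : M →* Cfsg.M24)
  (hrange : S1711.tau.range ≤ M)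
  (hπ : ∀ (p : P) (h : S1711.tau p ∈ M), π ⟨S1711.tau p, h⟩ = sigma p)
  (hM : Nat.card M = 2 ^ 11 * 244823040)

include hrange hπ in
theorem pi_surjective : Function.Surjective π := fun z => by
  obtain ⟨p, rfl⟩ := sigma_surjective z
  exact ⟨_, hπ p (hrange ⟨p, rfl⟩)⟩

include hrange hπ hM in
theorem card_ker : Nat.card π.ker = 2 ^ 11 := by
  have h := Subgroup.card_eq_card_quotient_mul_card_subgroup π.ker
  rw [Nat.card_congr (QuotientGroup.quotientKerEquivOfSurjective π
    (pi_surjective M π hrange hπ)).toEquiv, GolayM24.card_M24, hM] at h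
  omega

include hrange hπ hM in
theorem inf_le_ker (N : Subgroup Spor.J4) [N.Normal] (hN : ∀ p, S1711.tau p ∈ N → p = 1) :
    N.subgroupOf M ≤ π.ker := by
  have := GolaySimple.isSimpleGroup_M24
  haveI : Finite M := Nat.finite_of_card_ne_zero (by rw [hM]; norm_num)
  have hnorm : ((N.subgroupOf M).map π).Normal :=
    Subgroup.Normal.map inferInstance π (pi_surjective M π hrange hπ)
  rcases hnorm.eq_bot_or_eq_top with h | h
  · exact (Subgroup.map_eq_bot_iff _).1 h
  · exfalso
    have hbig : Nat.card Cfsg.M24 ≤ Nat.card (N.subgroupOf M) := by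
      rw [← Subgroup.card_top (G := Cfsg.M24), ← h]
      exact Nat.card_le_card_of_surjective _ (π.subgroupMap_surjective (N.subgroupOf M))
    let φ : N.subgroupOf M × P → M := fun a => a.1.1 * ⟨S1711.tau a.2, hrange ⟨a.2, rfl⟩⟩
    have hφ : Function.Injective φ := by
      rintro ⟨a, p⟩ ⟨b, r⟩ e
      have e' : (a.1 : Spor.J4) * S1711.tau p = (b.1 : Spor.J4) * S1711.tau r := congrArg Subtype.val e
      have hm : S1711.tau (p * r⁻¹) ∈ N := by
        have : S1711.tau (p * r⁻¹) = (a.1 : Spor.J4)⁻¹ * (b.1 : Spor.J4) := by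
          rw [map_mul, map_inv, eq_inv_mul_iff_mul_eq, ← mul_assoc, e', mul_inv_cancel_right]
        rw [this]
        exact mul_mem (inv_mem a.2) b.2
      have hpr : p = r := mul_inv_eq_one.1 (hN _ hm)
      subst hpr
      exact Prod.ext (Subtype.ext (Subtype.ext (mul_right_cancel e'))) rfl
    have := Nat.card_le_card_of_injective φ hφ
    rw [Nat.card_prod, card_P, hM] at this
    rw [GolayM24.card_M24] at hbig
    have := Nat.le_of_mul_le_mul_right this (by norm_num)
    omega

include hrange hπ hM in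
/-- A normal subgroup supplementing `M` is everything. -/
theorem eq_top_of_sup (N : Subgroup Spor.J4) [N.Normal] (hsup : N ⊔ M = ⊤) : N = ⊤ := by
  refine (normal_cases N).resolve_right fun hN => ?_
  have hk := inf_le_ker M π hrange hπ hM N hN
  let ν : M →* Spor.J4 ⧸ N := (QuotientGroup.mk' N).comp M.subtype
  have hν : Function.Surjective ν := by
    intro z
    obtain ⟨g, rfl⟩ := QuotientGroup.mk'_surjective N z
    obtain ⟨n, hn, m, hm, rfl⟩ := Subgroup.mem_sup_of_normal_left.1 (hsup.ge (Subgroup.mem_top g))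
    refine ⟨⟨m, hm⟩, ?_⟩
    show QuotientGroup.mk' N m = QuotientGroup.mk' N (n * m)
    have h1 : QuotientGroup.mk' N n = 1 := (QuotientGroup.eq_one_iff n).2 hn
    rw [map_mul, h1, one_mul]
  have hker : ν.ker ≤ π.ker := fun m hm => hk ((QuotientGroup.eq_one_iff (m : Spor.J4)).1 hm)
  let g : Spor.J4 ⧸ N →* Cfsg.M24 := ν.liftOfSurjective hν ⟨π, hker⟩
  have key : ∀ p, g (QuotientGroup.mk' N (S1711.tau p)) = sigma p := fun p => by
    have hm := hrange (x := S1711.tau p) ⟨p, rfl⟩
    show g (ν ⟨S1711.tau p, hm⟩) = _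
    rw [MonoidHom.liftOfRightInverse_comp_apply]
    exact hπ p hm
  exact no_hom (g.comp (QuotientGroup.mk' N)) (by rw [← tau_x, ← sigma_ps0]; exact key (ps 0))
    (by rw [← tau_y, ← sigma_ps1]; exact key (ps 1))

include hrange hπ hM in
/-- **Simplicity**, from maximality and index of `M` and the absence of fixed points in the kernel. -/
theorem isSimple_of [Finite Spor.J4] (hmax : IsCoatom M) (hindex : M.index = 173067389)
    (hcen : ∀ v : M, π v = 1 → Commute (v : Spor.J4) (q Spor.J4.x) →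
      Commute (v : Spor.J4) (q Spor.J4.y) → v = 1) :
    IsSimpleGroup Spor.J4 := by
  classical
  haveI : Nontrivial Spor.J4 := by
    refine ⟨⟨q Spor.J4.x, 1, fun h => J4Rep13.px_ne_one ?_⟩⟩
    rw [← J4Rep13.rho_x, show PresentedGroup.mk _ Spor.J4.x = (1 : Spor.J4) from h, map_one]
  refine ⟨fun N hNn => ?_⟩
  haveI := hNn
  by_cases htop : N = ⊤
  · exact Or.inr htop
  left
  have hle : N ≤ M := by
    by_contra h
    refine htop (eq_top_of_sup M π hrange hπ hM N (hmax.2 _ (lt_of_le_of_ne le_sup_right fun e => h ?_)))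
    exact e ▸ le_sup_left
  have hk := inf_le_ker M π hrange hπ hM N ((normal_cases N).resolve_left htop)
  -- the order of `N` divides the order of the kernel
  obtain ⟨a, ha, hNa⟩ : ∃ a ≤ 11, Nat.card N = 2 ^ a := by
    apply (Nat.dvd_prime_pow Nat.prime_two).1
    rw [← card_ker M π hrange hπ hM, ← Nat.card_congr (Subgroup.subgroupOfEquivOfLe hle).toEquiv]
    exact Subgroup.card_dvd_of_le hk
  -- an element of order 43 centralises `N`
  haveI : Fact (Nat.Prime 43) := ⟨by norm_num⟩
  obtain ⟨h, hord⟩ := exists_prime_orderOf_dvd_card' (G := Spor.J4) 43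
    (by rw [← M.card_mul_index, hindex]; exact Dvd.dvd.mul_left (by norm_num) _)
  let φ : Subgroup.zpowers h →* MulAut N := MulAut.conjNormal.comp (Subgroup.zpowers h).subtype
  let act : MulAction (Subgroup.zpowers h) N := MulAction.compHom N φ
  have hp : IsPGroup 43 (Subgroup.zpowers h) :=
    IsPGroup.of_card (n := 1) (by rw [Nat.card_zpowers, hord, pow_one])
  have hmod := hp.card_modEq_card_fixedPoints N
  let C : Subgroup N := (Subgroup.centralizer ({h} : Set Spor.J4)).subgroupOf N
  have hfix : MulAction.fixedPoints (Subgroup.zpowers h) N = (C : Set N) := by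
    ext v
    simp only [MulAction.mem_fixedPoints, SetLike.mem_coe, C, Subgroup.mem_subgroupOf,
      Subgroup.mem_centralizer_singleton_iff]
    constructor
    · intro hv
      have e : h * (v : Spor.J4) * h⁻¹ = v := congrArg Subtype.val (hv ⟨h, Subgroup.mem_zpowers h⟩)
      rw [← mul_inv_eq_iff_eq_mul.1 e]
    · rintro hv ⟨g, hg⟩
      apply Subtype.ext
      show g * (v : Spor.J4) * g⁻¹ = v
      obtain ⟨k, rfl⟩ := Subgroup.mem_zpowers_iff.1 hg
      rw [(show Commute h (v : Spor.J4) from hv.symm).zpow_left k |>.eq, mul_inv_cancel_right]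
  obtain ⟨b, hb, hCb⟩ : ∃ b ≤ a, Nat.card C = 2 ^ b :=
    (Nat.dvd_prime_pow Nat.prime_two).1 (hNa ▸ Subgroup.card_subgroup_dvd_card C)
  rw [hNa, Nat.card_congr (Equiv.setCongr hfix)] at hmod
  have hab : a = b := by
    change 2 ^ a ≡ Nat.card C [MOD 43] at hmod
    rw [hCb] at hmod
    have key : ∀ a < 12, ∀ b ≤ a, (2 ^ a % 43 = 2 ^ b % 43) → a = b := by decide +kernel
    exact key a (by omega) b hb hmod
  have hC : C = ⊤ := Subgroup.eq_top_of_card_eq C (by rw [hCb, hNa, hab])
  set K := Subgroup.centralizer (N : Set Spor.J4)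
  have hhK : h ∈ K := by
    rw [Subgroup.mem_centralizer_iff]
    intro v hv
    exact Subgroup.mem_centralizer_singleton_iff.1 (hC ▸ Subgroup.mem_top (⟨v, hv⟩ : N) : (⟨v, hv⟩ : N) ∈ C)
  have hhM : h ∉ M := fun hm => by
    have h43 : 43 ∣ Nat.card M := by
      rw [← hord, ← Subgroup.orderOf_mk h hm]
      exact orderOf_dvd_natCard _
    rw [hM] at h43
    norm_num at h43
  haveI : K.Normal := inferInstanceAs (Subgroup.centralizer (N : Set Spor.J4)).Normal
  have hK : K = ⊤ := eq_top_of_sup M π hrange hπ hM K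
    (hmax.2 _ (lt_of_le_of_ne le_sup_right fun e => hhM (e ▸ Subgroup.mem_sup_left hhK)))
  refine (Subgroup.eq_bot_iff_forall N).2 fun v hv => ?_
  have hcomm : ∀ g, Commute v g := fun g => (Subgroup.mem_centralizer_iff.1 (hK ▸ Subgroup.mem_top g : g ∈ K)) v hv
  exact congrArg Subtype.val (hcen ⟨v, hle hv⟩ (hk hv) (hcomm _) (hcomm _))

include hrange hπ hM in
/-- The presented group is of the expected type. -/
theorem isJ4_of [Finite Spor.J4] (hmax : IsCoatom M) (hindex : M.index = 173067389)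
    (hcen : ∀ v : M, π v = 1 → Commute (v : Spor.J4) (q Spor.J4.x) →
      Commute (v : Spor.J4) (q Spor.J4.y) → v = 1) : Cfsg.IsJ4 Spor.J4 :=
  ⟨isSimple_of M π hrange hπ hM hmax hindex hcen, by
    rw [← M.card_mul_index, hM, hindex]; norm_num⟩

end Cfsg.Agent.J4Simple36
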