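import Mathlib

/-!
Bit sets stored in numbers: clearing the lowest member, counting bounds, and a checker walking through
the commutative subgroups of exponent two of a group given by a table of products.
-/

set_option autoImplicit false

namespace Cfsg.Agent.J4TenBits61

/-- clear the lowest bit -/
def drop1 (n : ℕ) : ℕ := Nat.land n (n - 1)

theorem testBit_drop1 {n i : ℕ} :
    (drop1 n).testBit i = true ↔ n.testBit i = true ∧ (n - 1).testBit i = true := by
  show (n &&& (n - 1)).testBit i = true ↔ _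
  rw [Nat.testBit_and, Bool.and_eq_true]

theorem keep_above {n i j : ℕ} (hi : n.testBit i = true) (hj : n.testBit j = true) (hij : i < j) :
    (drop1 n).testBit j = true := by
  refine testBit_drop1.2 ⟨hj, ?_⟩
  have hne : n % 2 ^ j ≠ 0 := fun e => by
    have h := Nat.testBit_mod_two_pow n j i
    rw [e, hi, decide_eq_true hij] at h
    simp at h
  have h1 : (n - 1) / 2 ^ j = n / 2 ^ j := by
    have h2 := Nat.div_add_mod n (2 ^ j)
    have h3 : n - 1 = 2 ^ j * (n / 2 ^ j) + (n % 2 ^ j - 1) := by omega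
    have h4 : n % 2 ^ j - 1 < 2 ^ j := by
      have := Nat.mod_lt n (show 0 < 2 ^ j by positivity)
      omega
    rw [h3, Nat.mul_add_div (show 0 < 2 ^ j by positivity), Nat.div_eq_of_lt h4, add_zero]
  rw [Nat.testBit_eq_decide_div_mod_eq, decide_eq_true_eq] at hj ⊢
  rw [h1]
  exact hj

theorem bit_cases {n i : ℕ} (h : n.testBit i = true) :
    (drop1 n).testBit i = true ∨ i = Nat.log2 (Nat.xor n (drop1 n)) := by
  by_cases hd : (drop1 n).testBit i = true
  · exact Or.inl hd
  refine Or.inr ?_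
  have e : Nat.xor n (drop1 n) = 2 ^ i := by
    apply Nat.eq_of_testBit_eq
    intro k
    show (n ^^^ drop1 n).testBit k = _
    rw [Nat.testBit_xor, Nat.testBit_two_pow]
    by_cases hk : n.testBit k = true
    · rcases lt_trichotomy i k with hik | rfl | hik
      · rw [keep_above h hk hik, hk]
        simp [hik.ne]
      · simp [h, Bool.eq_false_iff.2 hd]
      · exact absurd (keep_above hk h hik) hd
    · have hk' : (drop1 n).testBit k = false := Bool.eq_false_iff.2 fun e => hk (testBit_drop1.1 e).1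
      have hne : i ≠ k := fun e => hk (e ▸ h)
      simp [Bool.eq_false_iff.2 hk, hk', hne]
  rw [e, Nat.log2_two_pow]

/-- at most `m` bits -/
def popLe : ℕ → ℕ → Bool
  | n, 0 => Nat.beq n 0
  | n, m + 1 => Nat.beq n 0 || popLe (drop1 n) m

theorem card_le_of_popLe : ∀ (m n : ℕ), popLe n m = true → ∀ s : Finset ℕ,
    (∀ i ∈ s, n.testBit i = true) → s.card ≤ m
  | 0, n, h, s, hs => by
    rw [popLe, Nat.beq_eq] at h
    subst h
    rw [Nat.le_zero, Finset.card_eq_zero]
    exact Finset.eq_empty_of_forall_notMem fun i hi => by simpa using hs i hi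
  | m + 1, n, h, s, hs => by
    rw [popLe, Bool.or_eq_true, Nat.beq_eq] at h
    rcases h with h | h
    · subst h
      have : s = ∅ := Finset.eq_empty_of_forall_notMem fun i hi => by simpa using hs i hi
      simp [this]
    · have h1 := card_le_of_popLe m (drop1 n) h (s.erase (Nat.log2 (Nat.xor n (drop1 n))))
        fun i hi => by
          obtain ⟨h2, h3⟩ := Finset.mem_erase.1 hi
          exact (bit_cases (hs i h3)).resolve_right h2
      have := Finset.card_le_card_sdiff_add_card (s := s) (t := {Nat.log2 (Nat.xor n (drop1 n))})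
      rw [Finset.sdiff_singleton_eq_erase, Finset.card_singleton] at this
      omega

/-- every member of the bit set passes -/
def allBits (p : ℕ → Bool) : ℕ → ℕ → Bool
  | 0, n => Nat.beq n 0
  | f + 1, n => Nat.beq n 0 || (p (Nat.log2 (Nat.xor n (drop1 n))) && allBits p f (drop1 n))

theorem of_allBits (p : ℕ → Bool) : ∀ (f n : ℕ), allBits p f n = true →
    ∀ i, n.testBit i = true → p i = true
  | 0, n, h, i, hi => by
    rw [allBits, Nat.beq_eq] at h
    subst h
    simp at hi
  | f + 1, n, h, i, hi => by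
    rw [allBits, Bool.or_eq_true, Nat.beq_eq, Bool.and_eq_true] at h
    rcases h with h | ⟨h1, h2⟩
    · subst h; simp at hi
    · rcases bit_cases hi with hd | rfl
      · exact of_allBits p f _ h2 i hd
      · exact h1

/-- the bits of `n` above `j` -/
def above (n j : ℕ) : ℕ := Nat.shiftLeft (Nat.shiftRight n (j + 1)) (j + 1)

theorem testBit_above {n j i : ℕ} (h : n.testBit i = true) (hj : j < i) :
    (above n j).testBit i = true := by
  show ((n >>> (j + 1)) <<< (j + 1)).testBit i = true
  rw [Nat.testBit_shiftLeft, Nat.testBit_shiftRight, show j + 1 + (i - (j + 1)) = i by omega, h]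
  simp
  omega

/-- entry `j` of a row of byte entries -/
def byte (r j : ℕ) : ℕ := Nat.land (Nat.shiftRight r (Nat.mul 8 j)) 255

/-- the walk: `rows` hold the products, `nbs` the commuting partners, `fixs` the fixed points -/
def walk (rows nbs fixs : List ℕ) (leaf : List ℕ → ℕ → Bool) : ℕ → List ℕ → ℕ → ℕ → Bool
  | 0, _, _, _ => false
  | f + 1, span, C, U => leaf span U &&
      allBits (fun j =>
        let r := rows.getD j 0
        !(span.all fun h => Nat.blt j (byte r h)) ||
          walk rows nbs fixs leaf f (span ++ j :: span.map fun h => byte r h)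
            (above (Nat.land C (nbs.getD j 0)) j) (Nat.land U (fixs.getD j 0))) 256 C

section

variable {M : Type*} [Group M] (π : ℕ → M) (N : ℕ) (rows nbs fixs : List ℕ)
variable (leaf : List ℕ → ℕ → Bool) (W : Subgroup M) (Fix : ℕ → Prop)

theorem of_walk (hW : ∀ x ∈ W, x ≠ 1 → ∃ i < N, π i = x)
    (hab : ∀ x ∈ W, ∀ y ∈ W, x * y = y * x) (hsq : ∀ x ∈ W, x * x = 1)
    (htab : ∀ i < N, ∀ j < N, π i ≠ π j → π i * π j = π j * π i →
      (nbs.getD i 0).testBit j = true ∧ byte (rows.getD i 0) j < N ∧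
        π i * π j = π (byte (rows.getD i 0) j))
    (hfix : ∀ c, Fix c → ∀ j < N, π j ∈ W → (fixs.getD j 0).testBit c = true) :
    ∀ (f : ℕ) (span : List ℕ) (C U : ℕ), walk rows nbs fixs leaf f span C U = true →
      (∀ h ∈ span, h < N ∧ π h ∈ W ∧ π h ≠ 1) →
      (∀ h ∈ span, ∀ h' ∈ span, π h * π h' = 1 ∨ ∃ k ∈ span, π h * π h' = π k) →
      (∀ i < N, π i ∈ W → π i ≠ 1 → (∀ h ∈ span, π h ≠ π i) → C.testBit i = true) →
      (∀ c, Fix c → U.testBit c = true) →
      ∃ span' U', leaf span' U' = true ∧ (∀ h ∈ span', h < N ∧ π h ∈ W ∧ π h ≠ 1) ∧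
        (∀ x ∈ W, x ≠ 1 → ∃ h ∈ span', π h = x) ∧ ∀ c, Fix c → U'.testBit c = true
  | 0, span, C, U, h, _, _, _, _ => by simp [walk] at h
  | f + 1, span, C, U, h, hspan, hcl, hC, hU => by
    classical
    rw [walk, Bool.and_eq_true] at h
    obtain ⟨hleaf, hall⟩ := h
    by_cases hdone : ∀ x ∈ W, x ≠ 1 → ∃ h ∈ span, π h = x
    · exact ⟨span, U, hleaf, hspan, hdone, hU⟩
    push Not at hdone
    obtain ⟨x, hx, hx1, hxs⟩ := hdone
    obtain ⟨i₀, hi₀, rfl⟩ := hW x hx hx1
    let Pr : ℕ → Prop := fun i => i < N ∧ π i ∈ W ∧ π i ≠ 1 ∧ ∀ h ∈ span, π h ≠ π i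
    have hex : ∃ i, Pr i := ⟨i₀, hi₀, hx, hx1, hxs⟩
    obtain ⟨j, hj, hmin⟩ : ∃ j, Pr j ∧ ∀ i, Pr i → j ≤ i :=
      ⟨Nat.find hex, Nat.find_spec hex, fun i hi => Nat.find_min' hex hi⟩
    obtain ⟨hjN, hjW, hj1, hjs⟩ := hj
    have hprod : ∀ h ∈ span, byte (rows.getD j 0) h < N ∧ π j * π h = π (byte (rows.getD j 0) h) ∧
        Pr (byte (rows.getD j 0) h) ∧ j < byte (rows.getD j 0) h := by
      intro h hh
      obtain ⟨-, hlt, e⟩ := htab j hjN h (hspan h hh).1 (fun e => hjs h hh e.symm)
        (hab _ hjW _ (hspan h hh).2.1)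
      have hk : Pr (byte (rows.getD j 0) h) := by
        refine ⟨hlt, e ▸ mul_mem hjW (hspan h hh).2.1, fun e' => hjs h hh ?_, fun h' hh' e' => ?_⟩
        · rw [← e, ← hsq _ hjW] at e'
          exact mul_left_cancel e'
        · rw [← e] at e'
          have e2 : π j = π h' * π h := by rw [e', mul_assoc, hsq _ (hspan h hh).2.1, mul_one]
          rcases hcl h' hh' h hh with e3 | ⟨k, hk, e3⟩
          · exact hj1 (e2.trans e3)
          · exact hjs k hk (e2.trans e3).symm
      refine ⟨hlt, e, hk, lt_of_le_of_ne (hmin _ hk) fun e' => (hspan h hh).2.2 ?_⟩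
      rw [← e', mul_eq_left] at e
      exact e
    have key := of_allBits _ 256 C hall j (hC j hjN hjW hj1 hjs)
    simp only [Bool.or_eq_true, Bool.not_eq_true'] at key
    rcases key with key | key
    · exfalso
      rw [List.all_eq_false] at key
      obtain ⟨h, hh, hlt⟩ := key
      exact hlt (by rw [Nat.blt_eq]; exact (hprod h hh).2.2.2)
    refine of_walk hW hab hsq htab hfix f _ _ _ key ?_ ?_ ?_ ?_
    · intro h hh
      rcases List.mem_append.1 hh with hh | hh
      · exact hspan h hh
      rcases List.mem_cons.1 hh with rfl | hh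
      · exact ⟨hjN, hjW, hj1⟩
      · obtain ⟨a, ha, rfl⟩ := List.mem_map.1 hh
        exact ⟨(hprod a ha).1, (hprod a ha).2.2.1.2.1, (hprod a ha).2.2.1.2.2.1⟩
    · -- closure of the doubled list
      let S : Set M := {y | y = 1 ∨ ∃ h ∈ span, π h = y}
      have hS : ∀ a ∈ S, ∀ b ∈ S, a * b ∈ S := by
        rintro a (rfl | ⟨h, hh, rfl⟩) b (rfl | ⟨h', hh', rfl⟩)
        · exact Or.inl (mul_one _)
        · exact Or.inr ⟨h', hh', (one_mul _).symm⟩
        · exact Or.inr ⟨h, hh, (mul_one _).symm⟩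
        · exact (hcl h hh h' hh').imp id fun ⟨k, hk, e⟩ => ⟨k, hk, e.symm⟩
      have hSW : ∀ a ∈ S, a ∈ W := by
        rintro a (rfl | ⟨h, hh, rfl⟩)
        · exact one_mem _
        · exact (hspan h hh).2.1
      have hout : ∀ h ∈ span ++ j :: span.map (fun h => byte (rows.getD j 0) h),
          π h ∈ S ∨ ∃ a ∈ S, π h = π j * a := by
        intro h hh
        rcases List.mem_append.1 hh with hh | hh
        · exact Or.inl (Or.inr ⟨h, hh, rfl⟩)
        rcases List.mem_cons.1 hh with rfl | hh
        · exact Or.inr ⟨1, Or.inl rfl, (mul_one _).symm⟩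
        · obtain ⟨a, ha, rfl⟩ := List.mem_map.1 hh
          exact Or.inr ⟨π a, Or.inr ⟨a, ha, rfl⟩, (hprod a ha).2.1.symm⟩
      have hin : ∀ a ∈ S, (a = 1 ∨ ∃ k ∈ span ++ j :: span.map (fun h => byte (rows.getD j 0) h), a = π k) ∧
          ∃ k ∈ span ++ j :: span.map (fun h => byte (rows.getD j 0) h), π j * a = π k := by
        rintro a (rfl | ⟨h, hh, rfl⟩)
        · exact ⟨Or.inl rfl, j, by simp, mul_one _⟩
        · exact ⟨Or.inr ⟨h, List.mem_append_left _ hh, rfl⟩, _,
            List.mem_append_right _ (List.mem_cons_of_mem _ (List.mem_map.2 ⟨h, hh, rfl⟩)),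
            (hprod h hh).2.1⟩
      intro h hh h' hh'
      rcases hout h hh with ha | ⟨a, ha, ea⟩ <;> rcases hout h' hh' with hb | ⟨b, hb, eb⟩
      · exact (hin _ (hS _ ha _ hb)).1
      · right
        rw [eb, show π h * (π j * b) = π j * (π h * b) by
          rw [← mul_assoc, hab _ (hSW _ ha) _ hjW, mul_assoc]]
        exact (hin _ (hS _ ha _ hb)).2
      · right
        rw [ea, mul_assoc]
        exact (hin _ (hS _ ha _ hb)).2
      · rw [ea, eb, mul_assoc, ← mul_assoc a, hab _ (hSW _ ha) _ hjW, mul_assoc (π j), ← mul_assoc,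
          hsq _ hjW, one_mul]
        exact (hin _ (hS _ ha _ hb)).1
    · intro i hi hiW hi1 his
      have hjne : π j ≠ π i := fun e => his j (by simp) e
      have hiold : ∀ h ∈ span, π h ≠ π i := fun h hh => his h (List.mem_append_left _ hh)
      refine testBit_above ?_ (lt_of_le_of_ne (hmin i ⟨hi, hiW, hi1, hiold⟩) fun e => hjne (by rw [e]))
      show (C &&& nbs.getD j 0).testBit i = true
      rw [Nat.testBit_and, hC i hi hiW hi1 hiold, (htab j hjN i hi hjne (hab _ hjW _ hiW)).1]
      rfl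
    · intro c hc
      show (U &&& fixs.getD j 0).testBit c = true
      rw [Nat.testBit_and, hU c hc, hfix c hc j hjN hjW]
      rfl

end

end Cfsg.Agent.J4TenBits61
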