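import Mathlib
import Cfsg.Agent.Lib.GolayModule
import Cfsg.Agent.Lib.GolayEnum
import Cfsg.Agent.Lib.J4TenBits61
import Cfsg.Agent.Lib.J4TenData61

/-!
Numeric codes for the even cocode: syndromes, the action of encoded permutations, and fixed sets as
bit sets.
-/

set_option autoImplicit false
set_option maxRecDepth 100000

namespace Cfsg.Agent.J4TenCode61

open Cfsg.Agent.GolayBasic Cfsg.Agent.GolayPerm Cfsg.Agent.J4TenBits61

theorem combo_zero : ∀ l : List ℕ, combo l 0 = 0
  | [] => rfl
  | b :: l => by simp [combo, combo_zero l]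

theorem combo_zipXor : ∀ (l m : List ℕ), l.length = m.length → ∀ x,
    combo (List.zipWith Nat.xor l m) x = Nat.xor (combo l x) (combo m x)
  | [], [], _, x => by simp [combo]
  | a :: l, b :: m, h, x => by
    show ((x &&& 1) * (a ^^^ b)) ^^^ combo (List.zipWith Nat.xor l m) (x >>> 1) =
      (((x &&& 1) * a) ^^^ combo l (x >>> 1)) ^^^ (((x &&& 1) * b) ^^^ combo m (x >>> 1))
    rw [combo_zipXor l m (Nat.succ.inj h) (x >>> 1)]
    show _ ^^^ (combo l (x >>> 1) ^^^ combo m (x >>> 1)) = _
    rcases Nat.mod_two_eq_zero_or_one x with hx | hx <;>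
      simp [Nat.and_one_is_mod, hx, Nat.xor_assoc, Nat.xor_left_comm]

/-- the syndrome of a word -/
def syn (m : ℕ) : ℕ := Nat.shiftRight (Nat.xor (enc (Nat.land m 4095)) m) 12

/-- the label of a point -/
def lab (p : ℕ) : ℕ := Nat.land (syn (Nat.xor (Nat.shiftLeft 1 p) 8388608)) 2047

/-- the representing word of a code -/
def rep (i : ℕ) : ℕ :=
  combo ((List.range 11).map fun j => Nat.shiftLeft 1 (12 + j) ||| 8388608) i

/-- the matrix of an encoded permutation -/
def mat (P : ℕ) : List ℕ :=
  (List.range 11).map fun j => Nat.xor (lab (pimg P 23)) (lab (pimg P (12 + j)))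

/-- its action -/
def act (P i : ℕ) : ℕ := combo (mat P) i

/-- the displacement -/
def dsp (P : ℕ) : List ℕ := List.zipWith Nat.xor (mat P) ((List.range 11).map fun j => 2 ^ j)

theorem idList_combo : ∀ i < 2048, combo ((List.range 11).map fun j => 2 ^ j) i = i := by
  decide +kernel

theorem dsp_eq (P i : ℕ) (hi : i < 2048) : combo (dsp P) i = Nat.xor (act P i) i := by
  rw [dsp, combo_zipXor _ _ (by simp [mat]), idList_combo i hi]
  rfl

/-- the bit sets of the eleven coordinates -/
def coordSet : ℕ → ℕ → ℕ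
  | 0, _ => 0
  | f + 1, j => if f = j then Nat.shiftLeft (2 ^ (2 ^ f) - 1) (2 ^ f)
      else Nat.lor (coordSet f j) (Nat.shiftLeft (coordSet f j) (2 ^ f))

/-- the sets of all coordinates -/
def zsets : List ℕ := (List.range 11).map (coordSet 11)

/-- bit `k` of a combination, as a set -/
def fsel (k : ℕ) : List ℕ → List ℕ → ℕ
  | d :: ds, z :: zs => Nat.xor (if d.testBit k then z else 0) (fsel k ds zs)
  | _, _ => 0

theorem fsel_bit (k c : ℕ) : ∀ (ds zs : List ℕ) (x : ℕ), ds.length = zs.length →
    (∀ j < zs.length, (zs.getD j 0).testBit c = x.testBit j) →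
    (fsel k ds zs).testBit c = (combo ds x).testBit k
  | [], [], x, _, _ => by simp [fsel, combo]
  | d :: ds, z :: zs, x, hl, hz => by
    have h0 : z.testBit c = x.testBit 0 := hz 0 (by simp)
    have ih := fsel_bit k c ds zs (x >>> 1) (Nat.succ.inj hl) fun j hj => by
      rw [Nat.testBit_shiftRight, Nat.add_comm]
      exact hz (j + 1) (by simpa using hj)
    show ((if d.testBit k then z else 0) ^^^ fsel k ds zs).testBit c =
      (((x &&& 1) * d) ^^^ combo ds (x >>> 1)).testBit k
    rw [Nat.testBit_xor, Nat.testBit_xor, ih]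
    congr 1
    rcases Nat.mod_two_eq_zero_or_one x with hx | hx <;>
      simp [Nat.and_one_is_mod, hx, Nat.testBit_zero] at h0 ⊢ <;>
      cases hd : d.testBit k <;> simp [h0]

theorem zsets_spec : ∀ c < 2048, ∀ j < 11, (zsets.getD j 0).testBit c = c.testBit j := by
  decide +kernel

/-- the fixed points as a bit set -/
def fixSet (P : ℕ) : ℕ :=
  let d := dsp P
  Nat.xor (2 ^ 2048 - 1) ((List.range 11).foldr (fun k r => Nat.lor (fsel k d zsets) r) 0)

theorem testBit_foldr_lor (f : ℕ → ℕ) (c : ℕ) : ∀ l : List ℕ,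
    (l.foldr (fun k r => Nat.lor (f k) r) 0).testBit c = l.any fun k => (f k).testBit c
  | [] => by simp
  | a :: l => by
    show (f a ||| _).testBit c = _
    rw [Nat.testBit_or, testBit_foldr_lor f c l, List.any_cons]

theorem fixSet_bit {P c : ℕ} (hc : c < 2048) (h : act P c = c) : (fixSet P).testBit c = true := by
  show ((2 ^ 2048 - 1) ^^^ _).testBit c = true
  rw [Nat.testBit_xor, Nat.testBit_two_pow_sub_one, decide_eq_true hc, testBit_foldr_lor]
  have : ((List.range 11).any fun k => (fsel k (dsp P) zsets).testBit c) = false := by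
    rw [List.any_eq_false]
    intro k _
    rw [fsel_bit k c _ _ c (by simp [dsp, mat, zsets]) (fun j hj => zsets_spec c hc j (by
      simpa [zsets] using hj)), dsp_eq P c hc, h]
    show ¬ (c ^^^ c).testBit k = true
    simp
  rw [this]
  rfl

/-- entry of a list in rows of 32 -/
def get32 (l : List (List ℕ)) (i : ℕ) : ℕ := (l.getD (i / 32) []).getD (i % 32) 0

/-- two encoded permutations commute -/
def commP (P Q : ℕ) : Bool := pts.all fun x => Nat.beq (pimg P (pimg Q x)) (pimg Q (pimg P x))

/-- equality of two lists of numbers -/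
def sameList : List ℕ → List ℕ → Bool
  | [], [] => true
  | a :: l, b :: m => Nat.beq a b && sameList l m
  | _, _ => false

theorem sameList_iff : ∀ {l m : List ℕ}, sameList l m = true → l = m
  | [], [], _ => rfl
  | [], _ :: _, h => by simp [sameList] at h
  | _ :: _, [], h => by simp [sameList] at h
  | a :: l, b :: m, h => by
    rw [sameList, Bool.and_eq_true, Nat.beq_eq] at h
    rw [h.1, sameList_iff h.2]

/-- Plücker coordinates of a pair of vectors -/
def pl (x y : ℕ) : ℕ :=
  [(0, 1), (0, 2), (0, 3), (0, 4), (1, 2), (1, 3), (1, 4), (2, 3), (2, 4), (3, 4)].foldr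
    (fun e r => 2 * r + (if xor (x.testBit e.1 && y.testBit e.2) (x.testBit e.2 && y.testBit e.1)
      then 1 else 0)) 0

end Cfsg.Agent.J4TenCode61
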