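import Mathlib
import Cfsg.Agent.Lib.J4TenCode61

/-!
Checks of the tables: the Sylow subgroup, its commutative subgroups of exponent two against their fixed
spaces, the coordinates of the subgroup of order `2 ^ 10`, orbits and the Grassmannian of lines.
-/

set_option autoImplicit false
set_option maxRecDepth 100000
set_option maxHeartbeats 4000000

namespace Cfsg.Agent.J4TenCert61

open Cfsg.Agent.GolayBasic Cfsg.Agent.GolayPerm Cfsg.Agent.GolayEnum Cfsg.Agent.J4TenBits61
open Cfsg.Agent.J4TenCode61 Cfsg.Agent.J4TenData61

/-- labels represent the duads through the extra point -/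
theorem lab_ok : (List.range 24).all (fun p =>
    inCode (Nat.xor (rep (lab p)) (if Nat.beq p 23 then 0 else Nat.xor (Nat.shiftLeft 1 p) 8388608))
      && Nat.blt (lab p) 2048) = true := by decide +kernel

theorem lab_basis : (List.range 11).all (fun j => Nat.beq (lab (12 + j)) (2 ^ j)) = true := by
  decide +kernel

/-- generators are permutations of the code -/
theorem gens_ok : (gsP ++ cgP ++ qelP).all good = true := by decide +kernel

theorem syl_valid : sylP.all (fun r => r.all fun P => valid P && Nat.beq (pcomp P idP) P) = true := by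
  decide +kernel

theorem syl_head : Nat.beq (get32 sylP 0) idP = true := by decide +kernel

theorem syl_tree : (List.zip sylP.flatten (List.zip sylPar sylGen)).zipIdx.all (fun e =>
    Nat.beq e.2 0 || (Nat.blt e.1.2.1 e.2 && Nat.blt e.1.2.2 gsP.length &&
      Nat.beq e.1.1 (pcomp (gsP.getD e.1.2.2 0) (get32 sylP e.1.2.1)))) = true := by decide +kernel

theorem syl_sizes : sylP.flatten.length = 1024 ∧ sylPar.length = 1024 ∧ sylGen.length = 1024 ∧
    sylInv.length = 1024 ∧ sylNext.length = gsP.length ∧
    sylP.length = 32 ∧ sylP.all (fun r => Nat.beq r.length 32) = true ∧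
    sylNext.all (fun r => Nat.beq r.length 1024 && r.all fun i => Nat.blt i 1024) = true := by
  decide +kernel

theorem syl_closed : (List.zip gsP sylNext).all (fun e =>
    sameList (sylP.flatten.map fun P => pcomp e.1 P) (e.2.map fun i => get32 sylP i)) = true := by
  decide +kernel

theorem syl_inv : (List.zip sylP.flatten sylInv).all (fun e =>
    Nat.beq e.1 idP || !Nat.beq (pcomp e.1 e.1) idP ||
      (Nat.blt e.2 191 && Nat.beq e.1 (invP.getD e.2 0))) = true := by decide +kernel

theorem inv_valid : invP.all (fun P => valid P && Nat.beq (pcomp P idP) P && !Nat.beq P idP) = true := by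
  decide +kernel

/-- the sets of fixed codes -/
def invFix : List ℕ := invP.map fixSet

/-- the octad translations as a bit set -/
def qBits : ℕ := qIdx.foldr (fun i r => Nat.lor (Nat.shiftLeft 1 i) r) 0

/-- the condition at a node -/
def leafT (span : List ℕ) (U : ℕ) : Bool :=
  Nat.beq span.length 0 ||
    (Nat.beq span.length 15 && (span.all fun h => qBits.testBit h) &&
      qIdx.all fun h => span.any fun k => Nat.beq h k) ||
    popLe U (1023 / (span.length + 1))

theorem q_idx : qIdx.all (fun h => qelP.any fun P => Nat.beq P (invP.getD h 0)) = true := by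
  decide +kernel

theorem q_in_syl : qelP.all (fun P => sylP.any fun r => r.any fun R => Nat.beq P R) = true := by
  decide +kernel

/-- the translations: listed, a homomorphism of bit strings, fixing the octad -/
theorem q_hom : (List.range 16).all (fun a => (List.range 16).all fun b =>
      Nat.beq (pcomp (qelP.getD a 0) (qelP.getD b 0)) (qelP.getD (Nat.xor a b) 0)) = true ∧
    qelP.length = 16 ∧ Nat.beq (qelP.getD 0 0) idP = true ∧
    qelP.all (fun P => valid P && Nat.beq (pcomp P idP) P &&
      pts.all (fun i => !(13062145 : ℕ).testBit i || Nat.beq (pimg P i) i)) = true ∧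
    (List.range 16).all (fun a => (List.range 16).all fun b => Nat.beq a b ||
      !Nat.beq (pimg (qelP.getD a 0) 1) (pimg (qelP.getD b 0) 1)) = true := by decide +kernel

/-- the fixed space of the translations -/
def uCode (x : ℕ) : ℕ := combo uBasis x

/-- membership in the fixed space -/
def uBits : ℕ := (List.range 64).foldr (fun x r => Nat.lor (Nat.shiftLeft 1 (uCode x)) r) 0

theorem u_inj : (List.range 64).all (fun x => (List.range 64).all fun y =>
    Nat.beq x y || !Nat.beq (uCode x) (uCode y)) = true := by decide +kernel

theorem u_fixed : (List.range 64).all (fun x => Nat.blt (uCode x) 2048 &&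
    qelP.all fun P => Nat.beq (act P (uCode x)) (uCode x)) = true := by decide +kernel

theorem u_only : (List.range 2048).all (fun c =>
    uBits.testBit c || qelP.any fun P => !Nat.beq (act P c) c) = true := by decide +kernel

/-- the duad of the fixed point and its image -/
def dV (a : ℕ) : ℕ := Nat.xor (lab 1) (lab (pimg (qelP.getD a 0) 1))

/-- the four elementary displacements -/
def dEl (b v : ℕ) : ℕ := Nat.xor (act (qelP.getD b 0) v) v

theorem d_hom : (List.range 16).all (fun a => (List.range 16).all fun b =>
    Nat.beq (Nat.xor (dV a) (act (qelP.getD a 0) (dV b))) (dV (Nat.xor a b))) = true := by decide +kernel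

theorem d_out : (List.range 16).all (fun a => Nat.beq a 0 || !uBits.testBit (dV a)) = true := by
  decide +kernel

theorem d_norm : (List.range 16).all (fun a => (List.range 16).all fun b =>
    uBits.testBit (dEl b (dV a))) = true := by decide +kernel

/-- representatives of the fixed spaces of the four basic translations modulo the common one -/
def liftRep (k : ℕ) : ℕ :=
  ((List.range 2048).find? fun c => Nat.beq (act (qelP.getD (2 ^ k) 0) c) c && !uBits.testBit c).getD 0

theorem lift_cover : (List.range 4).all (fun k => (List.range 2048).all fun c =>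
    !Nat.beq (act (qelP.getD (2 ^ k) 0) c) c || uBits.testBit c ||
      uBits.testBit (Nat.xor c (liftRep k))) = true := by decide +kernel

/-- the candidate lift at `k` -/
def liftSel (e k : ℕ) : ℕ := if e.testBit k then liftRep k else 0

theorem lift_inner : (List.range 16).all (fun e =>
    (List.range 4).any (fun i => (List.range 4).any fun j =>
      !Nat.beq (dEl (2 ^ j) (liftSel e i)) (dEl (2 ^ i) (liftSel e j))) ||
    (List.range 2048).any fun v => (List.range 4).all fun k =>
      uBits.testBit (Nat.xor (liftSel e k) (dEl (2 ^ k) v))) = true := by decide +kernel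

theorem stab_count : popLe ((List.range 2048).foldr (fun v r => Nat.lor
    (if (List.range 4).all (fun k => uBits.testBit (dEl (2 ^ k) v)) then Nat.shiftLeft 1 v else 0) r) 0)
      1024 = true := by decide +kernel

/-- the action maps on the ten coordinates -/
theorem maps_comp : (List.zip cgP actMaps).all (fun e => (List.range 10).all fun k =>
    let im := e.2.getD k 0
    Nat.blt im 1024 &&
    if Nat.blt k 4 then
      Nat.blt im 16 && Nat.beq (pcomp e.1 (qelP.getD (2 ^ k) 0)) (pcomp (qelP.getD im 0) e.1)
    else Nat.beq (Nat.land im 15) 0 &&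
      Nat.beq (act e.1 (uCode (2 ^ (k - 4)))) (uCode (Nat.shiftRight im 4))) = true := by decide +kernel

theorem cg_stab : cgP.all (fun P => Nat.beq (pmask P 13062145) 13062145 && Nat.beq (pimg P 1) 1) = true := by
  decide +kernel

theorem maps_dual : (List.range 4).all (fun i => (List.range 10).all fun k =>
    let im := (actMaps.getD (2 + i) []).getD k 0
    Nat.blt im 1024 &&
    if Nat.blt k 4 then Nat.beq (Nat.land im 15) (2 ^ k) &&
      Nat.beq (dEl (2 ^ k) (dV (2 ^ i))) (uCode (Nat.shiftRight im 4))
    else Nat.beq im (2 ^ k)) = true ∧ actMaps.length = 6 := by decide +kernel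

/-- an orbit table -/
def orbOK (l : List (ℕ × ℕ × ℕ)) : Bool :=
  l.zipIdx.all fun e => Nat.blt e.1.1 1024 && (Nat.beq e.2 0 || (Nat.blt e.1.2.1 e.2 &&
    Nat.blt e.1.2.2 6 && Nat.beq e.1.1 (combo (actMaps.getD e.1.2.2 []) (l.getD e.1.2.1 (0, 0, 0)).1)))

theorem orbits_ok : orbOK orbT = true ∧ orbOK orbU = true ∧ orbOK orbZ = true ∧ orbOK orbS = true := by
  decide +kernel

/-- an orbit as a bit set -/
def orbBits (l : List (ℕ × ℕ × ℕ)) : ℕ := l.foldr (fun e r => Nat.lor (Nat.shiftLeft 1 e.1) r) 0

theorem orbits_sizes : orbT.length = 28 ∧ orbU.length = 35 ∧ orbZ.length = 120 ∧ orbS.length = 840 ∧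
    (List.range 1024).all (fun a => Nat.beq a 0 || (orbBits orbT).testBit a || (orbBits orbU).testBit a ||
      (orbBits orbZ).testBit a || (orbBits orbS).testBit a) = true ∧
    (orbT.all fun e => Nat.beq (Nat.land e.1 15) 0 &&
      (List.range 24).any fun p => (List.range 24).any fun q => !Nat.beq p q &&
        Nat.beq (uCode (Nat.shiftRight e.1 4)) (Nat.xor (lab p) (lab q))) = true ∧
    (orbU.all fun e => Nat.beq (Nat.land e.1 15) 0 &&
      (List.range 24).all fun p => (List.range 24).all fun q => Nat.beq p q ||
        !Nat.beq (uCode (Nat.shiftRight e.1 4)) (Nat.xor (lab p) (lab q))) = true ∧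
    (orbS.any fun e => !Nat.beq (Nat.land e.1 15) 0) = true ∧
    (orbZ.all fun e => !Nat.beq (Nat.land e.1 15) 0) = true ∧
    (orbS.all fun e => !Nat.beq (Nat.land e.1 15) 0) = true := by
  decide +kernel

/-- the decomposable vectors -/
def decBits : ℕ := Nat.lor (orbBits orbU) (orbBits orbZ)

theorem dec_pl : (List.range 32).all (fun x => (List.range 32).all fun y =>
    Nat.beq x y || Nat.beq x 0 || Nat.beq y 0 || decBits.testBit (pl x y)) = true := by decide +kernel

/-- a star -/
def starBits (x : ℕ) : ℕ := (List.range 32).foldr (fun y r => Nat.lor (Nat.shiftLeft 1 (pl x y)) r) 0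

theorem star_meet : (List.range 32).all (fun x => (List.range 32).all fun y =>
    Nat.beq x 0 || Nat.beq y 0 || Nat.beq x y ||
      Nat.beq (Nat.land (starBits x) (starBits y)) (Nat.lor 1 (Nat.shiftLeft 1 (pl x y)))) = true := by
  decide +kernel

theorem pl_line : (List.range 32).all (fun a => (List.range 32).all fun b => Nat.beq a 0 || Nat.beq a b ||
    Nat.beq b 0 || (List.range 32).all fun c => !Nat.beq (pl a b) (pl a c) || Nat.beq c b ||
      Nat.beq c (Nat.xor a b)) = true := by decide +kernel

theorem pl_add : (List.range 32).all (fun x => (List.range 32).all fun y =>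
    Nat.beq (pl x y) (pl x (Nat.xor x y))) = true := by decide +kernel

end Cfsg.Agent.J4TenCert61
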