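import Mathlib
import Cfsg.Agent.Lib.J4Invol46
import Cfsg.Agent.Lib.GolayCocodeTables22
import Cfsg.Agent.Lib.GolayOctadStab
import Cfsg.Agent.Lib.J4TenCert61

/-!
A self-centralising elementary abelian subgroup of order `2 ^ 10` inside the normaliser of a subgroup
`V` labelled by the even cocode, with complement: coordinates and first properties.
-/

set_option autoImplicit false
set_option linter.unusedSectionVars false
set_option maxRecDepth 100000

namespace Cfsg.Agent.J4TenBase61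

open Cfsg Cfsg.Agent.GolayBasic Cfsg.Agent.GolayPerm Cfsg.Agent.GolayEnum
open Cfsg.Agent.GolayModule hiding act
open Cfsg.Agent.GolayOctadStab Cfsg.Agent.J4TenBits61 Cfsg.Agent.J4TenCode61 Cfsg.Agent.J4TenData61
open Cfsg.Agent.J4TenCert61
open scoped Pointwise

universe u

/-- the element of M24 with a given code -/
noncomputable def el (P : ℕ) : ↥M24 := by
  classical
  exact if h : permOf P ∈ M24 then ⟨permOf P, h⟩ else 1

theorem el_val {P : ℕ} (h : permOf P ∈ M24) : (el P : Equiv.Perm GolayPt) = permOf P := by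
  rw [el, dif_pos h]

theorem el_good {P : ℕ} (h : good P = true) : (el P : Equiv.Perm GolayPt) = permOf P :=
  el_val (permOf_mem_M24 h)

theorem gs_good {P : ℕ} (h : P ∈ gsP) : good P = true :=
  List.all_eq_true.1 gens_ok P (by simp [h])

theorem cg_good {P : ℕ} (h : P ∈ cgP) : good P = true :=
  List.all_eq_true.1 gens_ok P (by simp [h])

theorem qel_good {a : ℕ} (h : a < 16) : good (qelP.getD a 0) = true := by
  have hl : a < qelP.length := q_hom.2.1.symm ▸ h
  rw [List.getD_eq_getElem _ _ hl]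
  exact List.all_eq_true.1 gens_ok _ (by simp)

/-- the translations of the octad complement -/
noncomputable def qe (a : ℕ) : ↥M24 := el (qelP.getD a 0)

theorem qel_valid {a : ℕ} (h : a < 16) :
    valid (qelP.getD a 0) = true ∧ pcomp (qelP.getD a 0) idP = qelP.getD a 0 := by
  have hl : a < qelP.length := q_hom.2.1.symm ▸ h
  have := List.all_eq_true.1 q_hom.2.2.2.1 _ (List.getElem_mem hl)
  simp only [Bool.and_eq_true, Nat.beq_eq] at this
  rw [List.getD_eq_getElem _ _ hl]
  exact ⟨this.1.1, this.1.2⟩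

theorem xor_lt16 {a b : ℕ} (ha : a < 16) (hb : b < 16) : Nat.xor a b < 16 :=
  Nat.xor_lt_two_pow (n := 4) ha hb

theorem qe_mul {a b : ℕ} (ha : a < 16) (hb : b < 16) : qe (Nat.xor a b) = qe a * qe b := by
  refine Subtype.ext ?_
  rw [Subgroup.coe_mul, qe, qe, qe, el_good (qel_good (xor_lt16 ha hb)), el_good (qel_good ha),
    el_good (qel_good hb)]
  refine permOf_pcomp (qel_valid ha).1 (qel_valid hb).1 (qel_valid (xor_lt16 ha hb)).1 ?_
  have := List.all_eq_true.1 (List.all_eq_true.1 q_hom.1 a (List.mem_range.2 ha)) b (List.mem_range.2 hb)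
  rw [Nat.beq_eq] at this
  exact this.symm

theorem qe_zero : qe 0 = 1 := by
  have h := qe_mul (a := 0) (b := 0) (by norm_num) (by norm_num)
  rw [show Nat.xor 0 0 = 0 from rfl] at h
  exact left_eq_mul.1 h

theorem qe_mem {a : ℕ} (ha : a < 16) : qe a ∈ pfix O0 := by
  intro p hp
  have hl : a < qelP.length := q_hom.2.1.symm ▸ ha
  have := List.all_eq_true.1 q_hom.2.2.2.1 _ (List.getElem_mem hl)
  simp only [Bool.and_eq_true, List.all_eq_true, Bool.or_eq_true, Nat.beq_eq, Bool.not_eq_true'] at this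
  rw [qe, el_good (qel_good ha), permOf_apply (qel_valid ha).1, pfun]
  rw [List.getD_eq_getElem _ _ hl]
  rcases this.2 (idx p) (mem_pts.2 (idx_lt p)) with h | h
  · rw [mem_O0 hp] at h; simp at h
  · rw [h, pt_idx]

theorem qe_inj {a b : ℕ} (ha : a < 16) (hb : b < 16) (h : qe a = qe b) : a = b := by
  have := List.all_eq_true.1 (List.all_eq_true.1 q_hom.2.2.2.2 a (List.mem_range.2 ha)) b
    (List.mem_range.2 hb)
  simp only [Bool.or_eq_true, Nat.beq_eq, Bool.not_eq_true'] at this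
  refine this.resolve_right fun hne => ?_
  have e := congrArg (fun g : ↥M24 => idx ((g : Equiv.Perm GolayPt) (pt 1))) h
  simp only [qe, el_good (qel_good ha), el_good (qel_good hb), permOf_apply (qel_valid ha).1,
    permOf_apply (qel_valid hb).1, pfun] at e
  rw [idx_pt (show 1 < 24 by norm_num), idx_pt (pimg_lt (qel_valid ha).1 (by norm_num)),
    idx_pt (pimg_lt (qel_valid hb).1 (by norm_num))] at e
  exact Nat.ne_of_beq_eq_false hne e

theorem exists_qe {g : ↥M24} (hg : g ∈ pfix O0) : ∃ a < 16, qe a = g := by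
  classical
  let f : Fin 16 → ↥(pfix O0) := fun a => ⟨qe a, qe_mem a.2⟩
  have hf : Function.Injective f := fun a b h =>
    Fin.ext (qe_inj a.2 b.2 (congrArg Subtype.val h))
  obtain ⟨a, ha⟩ := (hf.bijective_of_nat_card_le (by rw [card_pfix_O0, Nat.card_fin])).2 ⟨g, hg⟩
  exact ⟨a, a.2, congrArg Subtype.val ha⟩

/-- the mask of the duad through the extra point -/
def dmask (i : ℕ) : ℕ := if Nat.beq i 23 then 0 else Nat.xor (Nat.shiftLeft 1 i) 8388608

theorem dmask_word : ∀ p q : GolayPt, p ≠ q →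
    word (Nat.xor (dmask (idx p)) (dmask (idx q))) = ind {p, q} := by decide +kernel

theorem basis_rep : ∀ j < 11, rep (2 ^ j) = Nat.xor (dmask (12 + j)) (dmask 23) ∧
    lab (12 + j) = 2 ^ j ∧ lab 23 = 0 := by decide +kernel

theorem lab_lt {i : ℕ} (hi : i < 24) : lab i < 2048 := by
  have := List.all_eq_true.1 lab_ok i (List.mem_range.2 hi)
  simp only [Bool.and_eq_true, Nat.blt_eq] at this
  exact this.2

theorem rep_xor (a b : ℕ) : rep (Nat.xor a b) = Nat.xor (rep a) (rep b) := combo_xor _ a b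

theorem xor_lt {a b : ℕ} (ha : a < 2048) (hb : b < 2048) : Nat.xor a b < 2048 :=
  Nat.xor_lt_two_pow (n := 11) ha hb

theorem combo_two_pow : ∀ (l : List ℕ) (j : ℕ), combo l (2 ^ j) = l.getD j 0
  | [], j => by simp [combo]
  | b :: l, 0 => by simp [combo, combo_zero]
  | b :: l, j + 1 => by
    simp [combo, Nat.pow_succ, Nat.shiftRight_one, combo_two_pow l j, Nat.and_one_is_mod]

theorem act_basis (P : ℕ) {j : ℕ} (hj : j < 11) :
    J4TenCode61.act P (2 ^ j) = Nat.xor (lab (pimg P (12 + j))) (lab (pimg P 23)) := by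
  rw [J4TenCode61.act, combo_two_pow, mat, List.getD_eq_getElem _ _ (by simpa using hj),
    List.getElem_map, List.getElem_range]
  exact Nat.xor_comm _ _

theorem ten_split : ∀ a < 1024, Nat.shiftRight a 4 < 64 ∧ Nat.land a 15 < 16 ∧
    Nat.lor (Nat.shiftLeft (Nat.shiftRight a 4) 4) (Nat.land a 15) = a := by decide +kernel

theorem uCode_lt {x : ℕ} (hx : x < 64) : uCode x < 2048 := by
  have := List.all_eq_true.1 u_fixed x (List.mem_range.2 hx)
  simp only [Bool.and_eq_true, Nat.blt_eq] at this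
  exact this.1

theorem act_lt {P : ℕ} (hP : valid P = true) (i : ℕ) : act P i < 2048 := by
  have hb : ∀ (l : List ℕ), (∀ b ∈ l, b < 2048) → ∀ x, combo l x < 2048 := by
    intro l
    induction l with
    | nil => intro _ x; simp [combo]
    | cons b l ih =>
      intro hl x
      refine Nat.xor_lt_two_pow (n := 11) ?_ (ih (fun c hc' => hl c (List.mem_cons_of_mem _ hc')) _)
      have := hl b List.mem_cons_self
      rcases Nat.mod_two_eq_zero_or_one x with hx | hx <;> simp [Nat.and_one_is_mod, hx] <;> omega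
  refine hb _ (fun b hb' => ?_) i
  obtain ⟨j, hj, rfl⟩ := List.mem_map.1 hb'
  exact xor_lt (lab_lt (pimg_lt hP (by norm_num)))
    (lab_lt (pimg_lt hP (by have := List.mem_range.1 hj; omega)))

theorem uCode_xor (a b : ℕ) : uCode (Nat.xor a b) = Nat.xor (uCode a) (uCode b) := combo_xor _ a b

theorem uBits_iff {c : ℕ} : uBits.testBit c = true ↔ ∃ x < 64, uCode x = c := by
  rw [uBits, testBit_foldr_lor, List.any_eq_true]
  simp only [List.mem_range]
  refine exists_congr fun x => and_congr_right fun _ => ?_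
  show (1 <<< uCode x).testBit c = true ↔ _
  rw [Nat.one_shiftLeft, Nat.testBit_two_pow, decide_eq_true_eq]

variable {G : Type u} [Group G] [Finite G]

local notation "N[" W "]" => Subgroup.normalizer (SetLike.coe W)

/-- What is used. -/
structure Ctx (z : G) (V K : Subgroup G) (φ : ↥(N[V]) →* ↥M24) (cl : (GolayPt → ZMod 2) → G) :
    Prop where
  lab : J4Invol46.Label z V φ cl
  compl : J4Invol46.Compl V K
  card : Nat.card V = 2 ^ 11
  z_odd : ¬ 2 ∣ (Subgroup.centralizer ({z} : Set G)).index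
  n_odd : ¬ 2 ∣ (N[V]).index
  into : ∀ i : G, i * i = 1 → ∃ g : G, g * i * g⁻¹ ∈ V
  loc : ∀ t ∈ V, t ≠ 1 → ¬ IsConj z t → Subgroup.centralizer ({t} : Set G) ≤ N[V]

/-- the element of `V` with a given code -/
def psi (cl : (GolayPt → ZMod 2) → G) (i : ℕ) : G := cl (word (rep i))

variable {z : G} {V K : Subgroup G} {φ : ↥(Subgroup.normalizer (V : Set G)) →* ↥M24}
  {cl : (GolayPt → ZMod 2) → G} (hc : Ctx z V K φ cl)
include hc

theorem cl_zero : cl 0 = 1 := by
  have h := hc.lab.map_add 0 0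
  rw [add_zero] at h
  exact left_eq_mul.1 h

theorem psi_mem (i : ℕ) : psi cl i ∈ V := hc.lab.mem _

theorem psi_xor (a b : ℕ) : psi cl (Nat.xor a b) = psi cl a * psi cl b := by
  rw [psi, rep_xor, show Nat.xor (rep a) (rep b) = rep a ^^^ rep b from rfl, word_xor, hc.lab.map_add]
  rfl

theorem psi_zero : psi cl 0 = 1 := by
  have h := psi_xor hc 0 0
  rw [show Nat.xor 0 0 = 0 from rfl] at h
  exact left_eq_mul.1 h

theorem cl_code {m : ℕ} (hm : inCode m = true) : cl (word m) = 1 := by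
  have hw : word m ∈ golayCode := (word_mem_iff (inCode_lt hm)).2 hm
  have hs : mset m ∈ supports (golayCode : Set (GolayPt → ZMod 2)) :=
    (mset_mem_supports (inCode_lt hm)).2 hm
  rw [← ind_support₂ (word m)] at hw ⊢
  rw [support₂_word] at hw ⊢
  refine (hc.lab.code _ ?_).2 hw
  rcases card_support_cases hs with h | h | h | h | h <;> rw [h] <;> decide

theorem cl_dmask {i : ℕ} (hi : i < 24) : cl (word (dmask i)) = psi cl (lab i) := by
  have := List.all_eq_true.1 lab_ok i (List.mem_range.2 hi)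
  simp only [Bool.and_eq_true] at this
  have h2 := cl_code hc this.1
  change cl (word (rep (lab i) ^^^ dmask i)) = 1 at h2
  rw [word_xor, hc.lab.map_add] at h2
  have h3 := hc.lab.sq _ (hc.lab.mem (word (dmask i)))
  exact mul_right_cancel (h3.trans h2.symm)

theorem cl_pair {p q : GolayPt} (h : p ≠ q) :
    cl (ind {p, q}) = psi cl (Nat.xor (lab (idx p)) (lab (idx q))) := by
  rw [← dmask_word p q h, show Nat.xor (dmask (idx p)) (dmask (idx q)) = dmask (idx p) ^^^ dmask (idx q)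
    from rfl, word_xor, hc.lab.map_add, cl_dmask hc (idx_lt p), cl_dmask hc (idx_lt q), psi_xor hc]

theorem psi_ext {f g : ℕ → G} (hf : ∀ a b, f (Nat.xor a b) = f a * f b)
    (hg : ∀ a b, g (Nat.xor a b) = g a * g b) (h : ∀ j < 11, f (2 ^ j) = g (2 ^ j)) :
    ∀ i < 2048, f i = g i := by
  intro i
  induction i using Nat.strong_induction_on with
  | _ i ih =>
    intro hi
    rcases eq_or_ne i 0 with rfl | h0
    · have h1 := hf 0 0
      have h2 := hg 0 0
      rw [show Nat.xor 0 0 = 0 from rfl] at h1 h2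
      rw [left_eq_mul.1 h1, left_eq_mul.1 h2]
    · obtain ⟨e, hlt, hl⟩ := GolayCocodeTables22.bits_eleven i hi h0
      rw [← e, hf, hg, h _ hl, ih _ hlt (hlt.trans hi)]

theorem conj_psi (m : ↥(N[V])) {P : ℕ} (hP : valid P = true)
    (hm : (φ m : Equiv.Perm GolayPt) = permOf P) {i : ℕ} (hi : i < 2048) :
    (m : G) * psi cl i * (m : G)⁻¹ = psi cl (act P i) := by
  refine psi_ext hc (f := fun i => (m : G) * psi cl i * (m : G)⁻¹) (g := fun i => psi cl (act P i))
    (fun a b => ?_) (fun a b => ?_) (fun j hj => ?_) i hi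
  · rw [psi_xor hc]; group
  · rw [← psi_xor hc]
    exact congrArg (psi cl) (combo_xor _ a b)
  · obtain ⟨e, -, -⟩ := basis_rep j hj
    have hne : pt (12 + j) ≠ pt 23 := fun h => by
      have := congrArg idx h
      rw [idx_pt (by omega), idx_pt (by norm_num)] at this
      omega
    show (m : G) * cl (word (rep (2 ^ j))) * (m : G)⁻¹ = psi cl (act P (2 ^ j))
    rw [e, show dmask (12 + j) = dmask (idx (pt (12 + j))) by rw [idx_pt (by omega)],
      show dmask 23 = dmask (idx (pt 23)) by rw [idx_pt (by norm_num)], dmask_word _ _ hne,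
      hc.lab.equiv m _ _ hne, hm, cl_pair hc ((permOf P).injective.ne hne)]
    congr 1
    rw [permOf_apply hP, permOf_apply hP, pfun, pfun, idx_pt (show 23 < 24 by norm_num),
      idx_pt (show 12 + j < 24 by omega), idx_pt (pimg_lt hP (show 12 + j < 24 by omega)),
      idx_pt (pimg_lt hP (show 23 < 24 by norm_num))]
    exact (act_basis P hj).symm

theorem psi_surj {x : G} (hx : x ∈ V) : ∃ i < 2048, psi cl i = x := by
  classical
  obtain ⟨s, hs, rfl⟩ := hc.lab.span x hx
  have key : ∀ s : Finset GolayPt, ∃ i < 2048,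
      psi cl i = cl (ind s + (s.card : ZMod 2) • ind {(none : GolayPt)}) := by
    intro s
    induction s using Finset.induction with
    | empty => exact ⟨0, by norm_num, by simp [ind_empty, psi_zero hc, cl_zero hc]⟩
    | @insert a t ha ih =>
      obtain ⟨i, hi, e⟩ := ih
      refine ⟨Nat.xor (lab (idx a)) i, xor_lt (lab_lt (idx_lt a)) hi, ?_⟩
      rw [psi_xor hc, e, ← cl_dmask hc (idx_lt a), ← hc.lab.map_add]
      congr 1
      have hd : ∀ a : GolayPt, word (dmask (idx a)) = ind {a} + ind {(none : GolayPt)} := by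
        decide +kernel
      rw [hd, Finset.card_insert_of_notMem ha]
      funext p
      simp only [Pi.add_apply, Pi.smul_apply, ind, Finset.mem_insert, Finset.mem_singleton,
        Nat.cast_add, Nat.cast_one, smul_eq_mul]
      by_cases hpa : p = a
      · subst hpa
        by_cases hn : p = none
        · subst hn; simp [ha]; ring
        · simp [ha, hn]
      · by_cases hn : p = none
        · subst hn; by_cases ht : (none : GolayPt) ∈ t <;> simp [hpa, ht] <;> ring
        · simp [hpa, hn]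
  obtain ⟨i, hi, e⟩ := key s
  refine ⟨i, hi, e.trans ?_⟩
  rw [show (s.card : ZMod 2) = 0 from (ZMod.natCast_eq_zero_iff _ 2).2 hs, zero_smul, add_zero]

theorem psi_inj {a b : ℕ} (ha : a < 2048) (hb : b < 2048) (h : psi cl a = psi cl b) : a = b := by
  let f : Fin 2048 → ↥V := fun i => ⟨psi cl i, psi_mem hc i⟩
  have hs : Function.Surjective f := fun x => by
    obtain ⟨i, hi, e⟩ := psi_surj hc x.2
    exact ⟨⟨i, hi⟩, Subtype.ext e⟩
  have := (hs.bijective_of_nat_card_le (by rw [hc.card, Nat.card_fin]; norm_num)).1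
    (a₁ := ⟨a, ha⟩) (a₂ := ⟨b, hb⟩) (Subtype.ext h)
  exact congrArg Fin.val this

/-- which codes are not conjugate to the distinguished involution -/
theorem not_conj_iff {c : ℕ} (hc2 : c < 2048) :
    (c ≠ 0 ∧ ¬ IsConj z (psi cl c)) ↔
      ∃ p q, p < 24 ∧ q < 24 ∧ p ≠ q ∧ c = Nat.xor (lab p) (lab q) := by
  have h1 : psi cl c ≠ 1 ↔ c ≠ 0 := not_congr ⟨fun e => psi_inj hc hc2 (by norm_num)
    (e.trans (psi_zero hc).symm), fun e => by rw [e, psi_zero hc]⟩
  rw [← h1]
  refine Iff.trans ⟨fun h => ⟨psi_mem hc c, h⟩, fun h => h.2⟩ ((hc.lab.duad _).trans ?_)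
  constructor
  · rintro ⟨p, q, hpq, e⟩
    rw [cl_pair hc hpq] at e
    exact ⟨idx p, idx q, idx_lt p, idx_lt q, fun h => hpq (idx_inj h),
      (psi_inj hc (xor_lt (lab_lt (idx_lt p)) (lab_lt (idx_lt q))) hc2 e).symm⟩
  · rintro ⟨p, q, hp, hq, hpq, rfl⟩
    have hne : pt p ≠ pt q := fun h => hpq (by rw [← idx_pt hp, h, idx_pt hq])
    exact ⟨pt p, pt q, hne, by rw [cl_pair hc hne, idx_pt hp, idx_pt hq]⟩

/-- the section of `φ` -/
noncomputable def sig : ↥M24 →* G :=
  K.subtype.comp (MulEquiv.ofBijective _ ⟨hc.compl.phi_inj hc.lab, hc.compl.phi_surj hc.lab⟩).symm.toMonoidHom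

theorem sig_mem (g : ↥M24) : sig hc g ∈ N[V] := hc.compl.le (SetLike.coe_mem _)

theorem phi_sig (g : ↥M24) : φ ⟨sig hc g, sig_mem hc g⟩ = g :=
  (MulEquiv.ofBijective (φ.comp (Subgroup.inclusion hc.compl.le))
    ⟨hc.compl.phi_inj hc.lab, hc.compl.phi_surj hc.lab⟩).apply_symm_apply g

theorem sig_eq_one {g : ↥M24} (h : sig hc g ∈ V) : g = 1 := by
  rw [← phi_sig hc g]
  exact (hc.lab.ker _).2 h

theorem decomp (m : ↥(N[V])) : ∃ v ∈ V, v * sig hc (φ m) = (m : G) := by
  refine ⟨(m : G) * (sig hc (φ m))⁻¹, ?_, by group⟩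
  have : φ (m * (⟨sig hc (φ m), sig_mem hc _⟩ : ↥(N[V]))⁻¹) = 1 := by
    rw [map_mul, map_inv, phi_sig hc, mul_inv_cancel]
  exact (hc.lab.ker _).1 this

theorem conj_sig {g : ↥M24} {P : ℕ} (hP : valid P = true) (hg : (g : Equiv.Perm GolayPt) = permOf P)
    {i : ℕ} (hi : i < 2048) : sig hc g * psi cl i * (sig hc g)⁻¹ = psi cl (act P i) :=
  conj_psi hc ⟨sig hc g, sig_mem hc g⟩ hP (by rw [phi_sig hc, hg]) hi

theorem conj_qe {a i : ℕ} (ha : a < 16) (hi : i < 2048) :
    sig hc (qe a) * psi cl i * (sig hc (qe a))⁻¹ = psi cl (act (qelP.getD a 0) i) :=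
  conj_sig hc (qel_valid ha).1 (el_good (qel_good ha)) hi

theorem qe_fix {a x : ℕ} (ha : a < 16) (hx : x < 64) :
    sig hc (qe a) * psi cl (uCode x) = psi cl (uCode x) * sig hc (qe a) := by
  have := List.all_eq_true.1 u_fixed x (List.mem_range.2 hx)
  simp only [Bool.and_eq_true, List.all_eq_true, Nat.beq_eq] at this
  have hl : a < qelP.length := q_hom.2.1.symm ▸ ha
  have h2 := conj_qe hc ha (uCode_lt hx)
  rw [show act (qelP.getD a 0) (uCode x) = uCode x by
    rw [List.getD_eq_getElem _ _ hl]; exact this.2 _ (List.getElem_mem hl)] at h2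
  exact mul_inv_eq_iff_eq_mul.1 h2

/-- the coordinates of the subgroup -/
noncomputable def Phi (a : ℕ) : G :=
  psi cl (uCode (Nat.shiftRight a 4)) * sig hc (qe (Nat.land a 15))

theorem Phi_xor {a b : ℕ} (ha : a < 1024) (hb : b < 1024) :
    Phi hc (Nat.xor a b) = Phi hc a * Phi hc b := by
  obtain ⟨ha1, ha2, -⟩ := ten_split a ha
  obtain ⟨hb1, hb2, -⟩ := ten_split b hb
  simp only [Phi]
  rw [show Nat.shiftRight (Nat.xor a b) 4 = Nat.xor (Nat.shiftRight a 4) (Nat.shiftRight b 4) from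
      Nat.shiftRight_xor_distrib,
    show Nat.land (Nat.xor a b) 15 = Nat.xor (Nat.land a 15) (Nat.land b 15) from
      Nat.and_xor_distrib_right,
    qe_mul ha2 hb2, map_mul, uCode_xor, psi_xor hc]
  simp only [mul_assoc]
  congr 1
  rw [← mul_assoc, ← mul_assoc, qe_fix hc ha2 hb1]

theorem Phi_u {x : ℕ} (hx : x < 64) : Phi hc (Nat.shiftLeft x 4) = psi cl (uCode x) := by
  have h : Nat.shiftRight (Nat.shiftLeft x 4) 4 = x ∧ Nat.land (Nat.shiftLeft x 4) 15 = 0 :=
    (by decide +kernel : ∀ x < 64, Nat.shiftRight (Nat.shiftLeft x 4) 4 = x ∧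
      Nat.land (Nat.shiftLeft x 4) 15 = 0) x hx
  rw [Phi, h.1, h.2, qe_zero, map_one, mul_one]

theorem Phi_q {a : ℕ} (ha : a < 16) : Phi hc a = sig hc (qe a) := by
  have h : Nat.shiftRight a 4 = 0 ∧ Nat.land a 15 = a :=
    (by decide +kernel : ∀ a < 16, Nat.shiftRight a 4 = 0 ∧ Nat.land a 15 = a) a ha
  rw [Phi, h.1, h.2, show uCode 0 = 0 from combo_zero _, psi_zero hc, one_mul]

theorem Phi_zero : Phi hc 0 = 1 := by rw [Phi_q hc (by norm_num), qe_zero, map_one]

theorem Phi_mem_N {a : ℕ} : Phi hc a ∈ N[V] :=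
  mul_mem (Subgroup.le_normalizer (psi_mem hc _)) (sig_mem hc _)

theorem phi_Phi (a : ℕ) : φ ⟨Phi hc a, Phi_mem_N hc⟩ = qe (Nat.land a 15) := by
  have e : (⟨Phi hc a, Phi_mem_N hc⟩ : ↥(N[V])) = ⟨psi cl (uCode (Nat.shiftRight a 4)),
      Subgroup.le_normalizer (psi_mem hc _)⟩ * ⟨sig hc (qe (Nat.land a 15)), sig_mem hc _⟩ :=
    Subtype.ext rfl
  rw [e, map_mul, (hc.lab.ker _).2 (psi_mem hc _), one_mul, phi_sig hc]

theorem Phi_inj {a b : ℕ} (ha : a < 1024) (hb : b < 1024) (h : Phi hc a = Phi hc b) : a = b := by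
  obtain ⟨ha1, ha2, hea⟩ := ten_split a ha
  obtain ⟨hb1, hb2, heb⟩ := ten_split b hb
  have e1 : qe (Nat.land a 15) = qe (Nat.land b 15) := by
    rw [← phi_Phi hc a, ← phi_Phi hc b]
    exact congrArg φ (Subtype.ext h)
  have e2 := qe_inj ha2 hb2 e1
  simp only [Phi, e2] at h
  have e3 := psi_inj hc (uCode_lt ha1) (uCode_lt hb1) (mul_right_cancel h)
  have e4 : Nat.shiftRight a 4 = Nat.shiftRight b 4 := by
    have := List.all_eq_true.1 (List.all_eq_true.1 u_inj _ (List.mem_range.2 ha1)) _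
      (List.mem_range.2 hb1)
    simp only [Bool.or_eq_true, Nat.beq_eq, Bool.not_eq_true'] at this
    exact this.resolve_right fun hne => Nat.ne_of_beq_eq_false hne e3
  rw [← hea, ← heb, e2, e4]

/-- the subgroup of order `2 ^ 10` -/
noncomputable def AT : Subgroup G where
  carrier := {x | ∃ a < 1024, Phi hc a = x}
  one_mem' := ⟨0, by norm_num, Phi_zero hc⟩
  mul_mem' := by
    rintro _ _ ⟨a, ha, rfl⟩ ⟨b, hb, rfl⟩
    exact ⟨Nat.xor a b, Nat.xor_lt_two_pow (n := 10) ha hb, Phi_xor hc ha hb⟩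
  inv_mem' := by
    rintro _ ⟨a, ha, rfl⟩
    refine ⟨a, ha, eq_inv_of_mul_eq_one_left ?_⟩
    rw [← Phi_xor hc ha ha, show Nat.xor a a = 0 from Nat.xor_self a, Phi_zero hc]

theorem mem_AT {x : G} : x ∈ AT hc ↔ ∃ a < 1024, Phi hc a = x := Iff.rfl

theorem card_AT : Nat.card (AT hc) = 2 ^ 10 := by
  let f : Fin 1024 → ↥(AT hc) := fun a => ⟨Phi hc a, a.1, a.2, rfl⟩
  rw [← Nat.card_congr (Equiv.ofBijective f ⟨fun a b h =>
      Fin.ext (Phi_inj hc a.2 b.2 (congrArg Subtype.val h)),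
    fun x => by obtain ⟨a, ha, e⟩ := x.2; exact ⟨⟨a, ha⟩, Subtype.ext e⟩⟩), Nat.card_fin]
  norm_num

theorem AT_le : AT hc ≤ N[V] := fun _ hx => by
  obtain ⟨a, -, rfl⟩ := hx
  exact Phi_mem_N hc

theorem AT_comm : ∀ x ∈ AT hc, ∀ y ∈ AT hc, x * y = y * x := by
  rintro _ ⟨a, ha, rfl⟩ _ ⟨b, hb, rfl⟩
  rw [← Phi_xor hc ha hb, ← Phi_xor hc hb ha, show Nat.xor a b = Nat.xor b a from Nat.xor_comm a b]

theorem AT_sq : ∀ x ∈ AT hc, x * x = 1 := by
  rintro _ ⟨a, ha, rfl⟩
  rw [← Phi_xor hc ha ha, show Nat.xor a a = 0 from Nat.xor_self a, Phi_zero hc]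

/-- a code fixed by all translations lies in the fixed space -/
theorem fixed_u {i : ℕ} (hi : i < 2048)
    (h : ∀ a < 16, sig hc (qe a) * psi cl i = psi cl i * sig hc (qe a)) : uBits.testBit i = true := by
  have := List.all_eq_true.1 u_only i (List.mem_range.2 hi)
  simp only [Bool.or_eq_true, List.any_eq_true, Bool.not_eq_true'] at this
  refine this.resolve_right ?_
  rintro ⟨P, hP, hne⟩
  obtain ⟨a, ha, rfl⟩ := List.getElem_of_mem hP
  have ha' : a < 16 := q_hom.2.1 ▸ ha
  have h2 := conj_qe hc ha' hi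
  rw [h a ha', mul_inv_cancel_right, List.getD_eq_getElem _ _ ha] at h2
  have hlt : act qelP[a] i < 2048 := by
    refine act_lt ?_ i
    have hv := valid_of_good (qel_good ha')
    rwa [List.getD_eq_getElem _ _ ha] at hv
  exact Nat.ne_of_beq_eq_false hne (psi_inj hc hlt hi h2.symm)

theorem t0_fact : uCode 12 < 2048 ∧
    ((List.range 24).any fun p => (List.range 24).any fun q => !Nat.beq p q &&
      Nat.beq (uCode 12) (Nat.xor (lab p) (lab q))) = true := by decide +kernel

/-- the subgroup contains a non-central involution of `V` -/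
theorem exists_duad : ∃ t ∈ AT hc, t ∈ V ∧ t ≠ 1 ∧ ¬ IsConj z t := by
  obtain ⟨hlt, h⟩ := t0_fact hc
  simp only [List.any_eq_true, List.mem_range, Bool.and_eq_true, Bool.not_eq_true', Nat.beq_eq] at h
  obtain ⟨p, hp, q, hq, hpq, e⟩ := h
  obtain ⟨h0, h1⟩ := (not_conj_iff hc hlt).2 ⟨p, q, hp, hq, Nat.ne_of_beq_eq_false hpq, e⟩
  refine ⟨Phi hc (Nat.shiftLeft 12 4), ⟨_, by decide, rfl⟩, ?_, ?_, ?_⟩ <;>
    rw [Phi_u hc (by norm_num)]
  · exact psi_mem hc _
  · exact fun e' => h0 (psi_inj hc hlt (by norm_num) (e'.trans (psi_zero hc).symm))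
  · exact h1

theorem cent_le : Subgroup.centralizer (AT hc : Set G) ≤ AT hc := by
  intro x hx
  rw [Subgroup.mem_centralizer_iff] at hx
  obtain ⟨t, htA, htV, ht1, htz⟩ := exists_duad hc
  have hxN : x ∈ N[V] := hc.loc t htV ht1 htz
    (Subgroup.mem_centralizer_singleton_iff.2 (hx t htA).symm)
  have hcomm : ∀ a < 16, φ ⟨x, hxN⟩ * qe a = qe a * φ ⟨x, hxN⟩ := by
    intro a ha
    rw [← phi_sig hc (qe a), ← map_mul, ← map_mul]
    refine congrArg φ (Subtype.ext ?_)
    show x * sig hc (qe a) = sig hc (qe a) * x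
    rw [← Phi_q hc ha]
    exact (hx _ ⟨a, by omega, rfl⟩).symm
  have hp1 : pt 1 ∉ O0 := by decide +kernel
  obtain ⟨v, hv, c, hc', e⟩ := exists_decomp O0_mem hp1 (mem_soct_of_commute O0_mem (qe_mem (a := 1)
    (by norm_num)) (fun e => absurd (qe_inj (by norm_num) (by norm_num) (e.trans qe_zero.symm))
      (by norm_num)) (hcomm 1 (by norm_num)))
  have hc1 : c = 1 := comp_faithful O0_mem hp1 hc' fun w hw => by
    obtain ⟨a, ha, rfl⟩ := exists_qe hw
    have h1 := hcomm a ha
    rw [← e] at h1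
    have h2 : c * qe a = qe a * c := by
      refine mul_left_cancel (a := v) ?_
      rw [← mul_assoc, h1, ← mul_assoc, ← mul_assoc, pfix_comm O0_mem hv (qe_mem ha)]
    rw [h2, mul_inv_cancel_right]
  rw [hc1, mul_one] at e
  obtain ⟨a, ha, rfl⟩ := exists_qe hv
  obtain ⟨w, hw, ew⟩ := decomp hc ⟨x, hxN⟩
  rw [← e] at ew
  obtain ⟨i, hi, rfl⟩ := psi_surj hc hw
  change psi cl i * sig hc (qe a) = x at ew
  have hfix : ∀ b < 16, sig hc (qe b) * psi cl i = psi cl i * sig hc (qe b) := by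
    intro b hb
    have h1 := hx _ ⟨b, by omega, Phi_q hc hb⟩
    have h2 : sig hc (qe b) * sig hc (qe a) = sig hc (qe a) * sig hc (qe b) := by
      rw [← map_mul, ← map_mul, pfix_comm O0_mem (qe_mem hb) (qe_mem ha)]
    refine mul_right_cancel (b := sig hc (qe a)) ?_
    rw [mul_assoc, mul_assoc, h2, ← mul_assoc (psi cl i), ew]
    exact h1
  obtain ⟨y, hy, rfl⟩ := uBits_iff.1 (fixed_u hc hi hfix)
  rw [← ew, ← Phi_u hc hy, ← Phi_q hc ha]
  exact mul_mem ⟨_, (by decide +kernel : ∀ y < 64, Nat.shiftLeft y 4 < 1024) y hy, rfl⟩ ⟨a, by omega, rfl⟩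

end Cfsg.Agent.J4TenBase61
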