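import Mathlib
import Cfsg.Agent.Lib.J4TenCert61

/-!
Additive bijections of the ten coordinates preserving the decomposable vectors come from the general
linear group of the five-dimensional space.
-/

set_option autoImplicit false
set_option maxRecDepth 100000
set_option maxHeartbeats 1000000

namespace Cfsg.Agent.J4TenRigid30

open Cfsg.Agent.J4TenBits61 Cfsg.Agent.J4TenCode61 Cfsg.Agent.J4TenCert61
open Cfsg.Agent.GolayBasic

/-- the non-zero vectors of a star -/
def star0 (x : ℕ) : Finset ℕ := ((Finset.range 32).image (pl x)).erase 0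

theorem mem_star0 {x a : ℕ} : a ∈ star0 x ↔ a ≠ 0 ∧ ∃ y < 32, pl x y = a := by
  simp [star0, Finset.mem_erase]

theorem pl_lin : (List.range 32).all (fun x => (List.range 32).all fun y =>
    Nat.beq (combo [pl x 1, pl x 2, pl x 4, pl x 8, pl x 16] y) (pl x y)
      && Nat.blt (pl x y) 1024 && Nat.beq (pl x y) (pl y x)
      && (!(Nat.beq x y || Nat.beq x 0 || Nat.beq y 0) || Nat.beq (pl x y) 0)) = true := by
  decide +kernel

theorem star0_card : ∀ x < 32, x ≠ 0 → (star0 x).card = 15 := by decide +kernel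

theorem star_sep : (List.range 32).all (fun u => (List.range 32).all fun v =>
    Nat.beq u 0 || Nat.beq v 0 || Nat.beq u v ||
      (List.range 32).any fun y => !(starBits v).testBit (pl u y)) = true := by decide +kernel

theorem unit_pl : (List.range 10).all (fun k => (List.range 32).any fun x =>
    (List.range 32).any fun y => Nat.beq (pl x y) (2 ^ k)) = true := by decide +kernel

theorem pl_facts {x y : ℕ} (hx : x < 32) (hy : y < 32) :
    combo [pl x 1, pl x 2, pl x 4, pl x 8, pl x 16] y = pl x y ∧ pl x y < 1024 ∧ pl x y = pl y x ∧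
      (x = y ∨ x = 0 ∨ y = 0 → pl x y = 0) := by
  have h := List.all_eq_true.1 (List.all_eq_true.1 pl_lin x (List.mem_range.2 hx)) y (List.mem_range.2 hy)
  simp only [Bool.and_eq_true, Bool.or_eq_true, Nat.beq_eq, Nat.blt_eq, Bool.not_eq_true',
    Bool.or_eq_false_iff] at h
  obtain ⟨⟨⟨h1, h2⟩, h3⟩, h4⟩ := h
  refine ⟨h1, h2, h3, fun hc => h4.resolve_left ?_⟩
  rintro ⟨⟨e1, e2⟩, e3⟩
  rcases hc with rfl | rfl | rfl <;> simp at e1 e2 e3

theorem starBits_iff (x a : ℕ) : (starBits x).testBit a = true ↔ ∃ y < 32, pl x y = a := by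
  rw [starBits, testBit_foldr_lor (fun y => Nat.shiftLeft 1 (pl x y)) a, List.any_eq_true]
  refine exists_congr fun y => ?_
  rw [List.mem_range]
  refine and_congr_right fun _ => ?_
  show (1 <<< pl x y).testBit a = true ↔ _
  rw [Nat.one_shiftLeft, Nat.testBit_two_pow, decide_eq_true_eq]

theorem pl_xor {x y y' : ℕ} (hx : x < 32) (hy : y < 32) (hy' : y' < 32) :
    pl x (Nat.xor y y') = Nat.xor (pl x y) (pl x y') := by
  have h := (pl_facts hx (Nat.xor_lt_two_pow (n := 5) hy hy' : Nat.xor y y' < 32)).1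
  rw [← (pl_facts hx hy).1, ← (pl_facts hx hy').1]
  refine h.symm.trans ?_
  exact combo_xor _ _ _

theorem xor_eq_zero' {a b : ℕ} : Nat.xor a b = 0 ↔ a = b := Nat.xor_eq_zero_iff

theorem xor_cancel (a b : ℕ) : Nat.xor a (Nat.xor a b) = b := Nat.xor_xor_cancel_left a b

/-- every number is reached from the units by sums -/
theorem bits_induction {n : ℕ} (hn : (List.range (2 ^ n)).all (fun x => Nat.beq x 0 ||
      (List.range n).any fun j => Nat.blt (Nat.xor x (2 ^ j)) x) = true) (p : ℕ → Prop) (h0 : p 0)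
    (hu : ∀ j < n, p (2 ^ j)) (hx : ∀ a < 2 ^ n, ∀ b < 2 ^ n, p a → p b → p (Nat.xor a b)) :
    ∀ x < 2 ^ n, p x := by
  intro x
  induction x using Nat.strong_induction_on with
  | _ x ih =>
    intro hlt
    have h := List.all_eq_true.1 hn x (List.mem_range.2 hlt)
    simp only [Bool.or_eq_true, Nat.beq_eq, List.any_eq_true, List.mem_range, Nat.blt_eq] at h
    rcases h with rfl | ⟨j, hj, hjx⟩
    · exact h0
    · have h1 := hx _ (hjx.trans hlt) _ (Nat.pow_lt_pow_right (by norm_num) hj) (ih _ hjx (hjx.trans hlt)) (hu j hj)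
      rwa [show Nat.xor (Nat.xor x (2 ^ j)) (2 ^ j) = x from Nat.xor_xor_cancel_right x (2 ^ j)] at h1

theorem units3 : (List.range (2 ^ 3)).all (fun x => Nat.beq x 0 ||
    (List.range 3).any fun j => Nat.blt (Nat.xor x (2 ^ j)) x) = true := by decide +kernel

/-- the lines: code, two points, and the set of three points -/
def lineTab : List ℕ :=
    [14746625, 52560898, 203621379, 807666692, 3223651333, 12887393286,
    51542164487, 206161052680, 824636408841, 3298537636874, 13194142352395, 52776561017868,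
    211106235483149, 844424933147662, 3377699723609103, 88213520, 172132369, 1346635808,
    2688845857, 21479426096, 42954295345, 343602104384, 687199520833, 5497562990672,
    10995121162321, 87960935204960, 175921865459809, 1407374888667248, 2814749772253297, 159517714,
    109218835, 2424572964, 1619299365, 38663490614, 25778621495, 618484206664,
    412325809225, 9895613697114, 6597078846555, 158329683577964, 105553125477485, 2533274799705214,
    1688849869606015, 4580446336, 9143881858, 18270720144, 36524363922, 1168248410368,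
    2336479547650, 4672941789456, 9345866240274, 299067180323200, 598134343111042, 1196268668653968,
    2392537319707026, 8892191876, 4865692806, 35467367573, 19361272983, 2267776816392,
    1236984698122, 9071005078809, 4947836507419, 580542173812108, 316659383178638, 2322168592274845,
    1266637429642655, 17515681952, 34964019363, 5436151984, 10804893875, 4466833627456,
    8933599648067, 1374457239888, 2748846807379, 1143492160788960, 2286984253708771, 351843788855792,
    703687509776883, 34762661028, 17851260071, 9798229173, 6577036470, 8864947248456,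
    4535620246859, 2474035977561, 1649402289498, 2269392134741484, 1161084413976047, 633318832676349,
    422212600176126, 17661174489600, 35322080043524, 70643891118624, 141287513236004, 282574757438080,
    565149245809284, 1130298222518944, 2260596175905444, 35253628970504, 17730162435596, 141012903732777,
    70919037494829, 564050002585226, 283674537535118, 2256198397798059, 1134696537499311, 70438537931328,
    140876001618501, 17868138293856, 35735202277989, 1127000492878544, 2253999911381717, 285874097695472,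
    571747120950005, 140808355851848, 70508331183693, 35461398081129, 18144089976428, 2252901473464026,
    1128101078281951, 567350148148987, 290273217982206, 281547991692032, 563091687912198, 1126179080319792,
    2252353865102134, 18695993308032, 37387691012998, 74771086390192, 149537877111734, 563027263371016,
    281621006169870, 2252083282130745, 1126458253227839, 36292474320778, 19799799936908, 145144125536187,
    79173427902397, 1125985806728000, 2251954433080135, 281767035091824, 563516889742199, 71485436345296,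
    142953692183511, 22007413160928, 43997645749223, 2251902893440840, 1126071706107727, 563259191672697,
    282059092901758, 141871360393178, 72602127876061, 39616779075563, 26422639575020]

/-- the points of the line through two points -/
def OnLine (x y p : ℕ) : Prop := p = x ∨ p = y ∨ p = Nat.xor x y

theorem line_table : lineTab.all (fun e =>
    let c := Nat.land e 1023
    let x := Nat.land (Nat.shiftRight e 10) 31
    let y := Nat.land (Nat.shiftRight e 15) 31
    let m := Nat.shiftRight e 20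
    Nat.blt 0 x && Nat.blt 0 y && !Nat.beq x y && Nat.beq (pl x y) c &&
      Nat.beq m (Nat.lor (Nat.shiftLeft 1 x) (Nat.lor (Nat.shiftLeft 1 y) (Nat.shiftLeft 1 (Nat.xor x y)))))
      = true := by decide +kernel

theorem line_meet : lineTab.all (fun e => lineTab.all fun d =>
    !(262567432926466872196637648448325973058480168976889728683345837105383836524705515179516799038768043768440813472996187173832642213696448780787785903180800242798601906354329156314518561568052686201782514843795739000520192293208280631956201386131852559644003929679336521238322448257047841762304644736876542 : ℕ).testBit (Nat.xor (Nat.land e 1023) (Nat.land d 1023)) ||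
      !Nat.beq (Nat.land (Nat.shiftRight e 20) (Nat.shiftRight d 20)) 0) = true := by decide +kernel

theorem line_cover : (List.range 1024).all (fun a =>
    !(262567432926466872196637648448325973058480168976889728683345837105383836524705515179516799038768043768440813472996187173832642213696448780787785903180800242798601906354329156314518561568052686201782514843795739000520192293208280631956201386131852559644003929679336521238322448257047841762304644736876542 : ℕ).testBit a || lineTab.any fun e => Nat.beq (Nat.land e 1023) a) = true := by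
  decide +kernel

theorem decBits_eq : decBits = 262567432926466872196637648448325973058480168976889728683345837105383836524705515179516799038768043768440813472996187173832642213696448780787785903180800242798601906354329156314518561568052686201782514843795739000520192293208280631956201386131852559644003929679336521238322448257047841762304644736876542 := by decide +kernel

theorem line_point {x y p : ℕ}
    (h : (Nat.lor (Nat.shiftLeft 1 x) (Nat.lor (Nat.shiftLeft 1 y) (Nat.shiftLeft 1 (Nat.xor x y)))).testBit p = true) :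
    OnLine x y p := by
  change (1 <<< x ||| (1 <<< y ||| 1 <<< Nat.xor x y)).testBit p = true at h
  simp only [Nat.testBit_or, Nat.one_shiftLeft, Nat.testBit_two_pow, Bool.or_eq_true, decide_eq_true_eq] at h
  rcases h with h | h | h
  · exact Or.inl h.symm
  · exact Or.inr (Or.inl h.symm)
  · exact Or.inr (Or.inr h.symm)

/-- every decomposable vector has a line; two of them with decomposable sum meet -/
theorem exists_line {a b : ℕ} (ha : a < 1024) (hb : b < 1024) (hda : decBits.testBit a = true)
    (hdb : decBits.testBit b = true) (hab : decBits.testBit (Nat.xor a b) = true) :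
    ∃ x y u v p, x < 32 ∧ y < 32 ∧ u < 32 ∧ v < 32 ∧ pl x y = a ∧ pl u v = b ∧ p ≠ 0 ∧
      OnLine x y p ∧ OnLine u v p := by
  rw [decBits_eq] at hda hdb hab
  have get : ∀ c < 1024, (262567432926466872196637648448325973058480168976889728683345837105383836524705515179516799038768043768440813472996187173832642213696448780787785903180800242798601906354329156314518561568052686201782514843795739000520192293208280631956201386131852559644003929679336521238322448257047841762304644736876542 : ℕ).testBit c = true → ∃ e ∈ lineTab, Nat.land e 1023 = c := by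
    intro c hc hd
    have h := List.all_eq_true.1 line_cover c (List.mem_range.2 hc)
    rw [hd] at h
    simpa [List.any_eq_true] using h
  obtain ⟨e, he, rfl⟩ := get a ha hda
  obtain ⟨d, hd, rfl⟩ := get b hb hdb
  have h := List.all_eq_true.1 (List.all_eq_true.1 line_meet e he) d hd
  rw [hab] at h
  have hne : Nat.land (Nat.shiftRight e 20) (Nat.shiftRight d 20) ≠ 0 := fun h0 => by
    rw [h0] at h
    exact absurd h (by decide)
  obtain ⟨p, hp⟩ := Nat.exists_testBit_of_ne_zero hne
  have hp' : (Nat.shiftRight e 20).testBit p = true ∧ (Nat.shiftRight d 20).testBit p = true := by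
    change (Nat.shiftRight e 20 &&& Nat.shiftRight d 20).testBit p = true at hp
    rwa [Nat.testBit_and, Bool.and_eq_true] at hp
  have fe := List.all_eq_true.1 line_table e he
  have fd := List.all_eq_true.1 line_table d hd
  simp only [Bool.and_eq_true, Nat.blt_eq, Nat.beq_eq, Bool.not_eq_true', ← Bool.not_eq_true] at fe fd
  obtain ⟨⟨⟨⟨x0, y0⟩, xy⟩, hpl⟩, hm⟩ := fe
  obtain ⟨⟨⟨⟨u0, v0⟩, uv⟩, hql⟩, hn⟩ := fd
  rw [hm, hn] at hp'
  refine ⟨_, _, _, _, p, Nat.lt_succ_of_le Nat.and_le_right, Nat.lt_succ_of_le Nat.and_le_right,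
    Nat.lt_succ_of_le Nat.and_le_right, Nat.lt_succ_of_le Nat.and_le_right, hpl, hql, ?_,
    line_point hp'.1, line_point hp'.2⟩
  rcases line_point hp'.1 with rfl | rfl | rfl
  · exact x0.ne'
  · exact y0.ne'
  · exact fun e => xy (xor_eq_zero'.1 e)

theorem pl_add' {x y : ℕ} (hx : x < 32) (hy : y < 32) : pl x (Nat.xor x y) = pl x y := by
  have h := List.all_eq_true.1 (List.all_eq_true.1 pl_add x (List.mem_range.2 hx)) y (List.mem_range.2 hy)
  rw [Nat.beq_eq] at h
  exact h.symm

theorem xor32 {a b : ℕ} (ha : a < 32) (hb : b < 32) : Nat.xor a b < 32 := Nat.xor_lt_two_pow (n := 5) ha hb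

/-- a point of the line is a first point -/
theorem rebase {x y p : ℕ} (hx : x < 32) (hy : y < 32) (h : OnLine x y p) :
    p < 32 ∧ ∃ q < 32, pl p q = pl x y ∧ ∀ r, OnLine x y r → r ≠ 0 → r ≠ p → pl p r = pl x y := by
  have hsymm : pl y x = pl x y := (pl_facts hy hx).2.2.1
  have hz := xor32 hx hy
  have h1 : pl x (Nat.xor x y) = pl x y := pl_add' hx hy
  have h2 : pl y (Nat.xor x y) = pl x y := by
    rw [show Nat.xor x y = Nat.xor y x from Nat.xor_comm x y, pl_add' hy hx, hsymm]
  rcases h with rfl | rfl | rfl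
  · refine ⟨hx, y, hy, rfl, fun r hr _ hrp => ?_⟩
    rcases hr with rfl | rfl | rfl
    · exact absurd rfl hrp
    · rfl
    · exact h1
  · refine ⟨hy, x, hx, hsymm, fun r hr _ hrp => ?_⟩
    rcases hr with rfl | rfl | rfl
    · exact hsymm
    · exact absurd rfl hrp
    · exact h2
  · have g1 : pl (Nat.xor x y) x = pl x y := ((pl_facts hz hx).2.2.1).trans h1
    have g2 : pl (Nat.xor x y) y = pl x y := ((pl_facts hz hy).2.2.1).trans h2
    refine ⟨hz, x, hx, g1, fun r hr _ hrp => ?_⟩
    rcases hr with rfl | rfl | rfl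
    · exact g1
    · exact g2
    · exact absurd rfl hrp

/-- fifteen vectors closed under sums inside the decomposable ones lie in a star -/
theorem of_lines (W : Finset ℕ) (hW : W.card = 15) (h0 : 0 ∉ W) (hlt : ∀ a ∈ W, a < 1024)
    (hcl : ∀ a ∈ W, ∀ b ∈ W, a ≠ b → Nat.xor a b ∈ W) (hdec : ∀ a ∈ W, decBits.testBit a = true) :
    ∃ x < 32, x ≠ 0 ∧ ∀ a ∈ W, (starBits x).testBit a = true := by
  classical
  have meet : ∀ a ∈ W, ∀ b ∈ W, a ≠ b →
      ∃ p < 32, p ≠ 0 ∧ ∃ q < 32, ∃ q' < 32, pl p q = a ∧ pl p q' = b := by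
    intro a ha b hb hab
    obtain ⟨x, y, u, v, p, hx, hy, hu, hv, ea, eb, hp, h1, h2⟩ :=
      exists_line (hlt a ha) (hlt b hb) (hdec a ha) (hdec b hb) (hdec _ (hcl a ha b hb hab))
    obtain ⟨hp32, q, hq, eq, -⟩ := rebase hx hy h1
    obtain ⟨-, q', hq', eq', -⟩ := rebase hu hv h2
    exact ⟨p, hp32, hp, q, hq, q', hq', eq.trans ea, eq'.trans eb⟩
  -- two points of a vector determine it
  have two : ∀ w ∈ W, ∀ s t, s < 32 → t < 32 → s ≠ 0 → t ≠ 0 → s ≠ t → (∃ q < 32, pl s q = w) →
      (∃ q < 32, pl t q = w) → pl s t = w := by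
    intro w hw s t hs ht hs0 ht0 hst ⟨q, hq, eq⟩ ⟨q', hq', eq'⟩
    have hm := List.all_eq_true.1 (List.all_eq_true.1 star_meet s (List.mem_range.2 hs)) t (List.mem_range.2 ht)
    simp only [Bool.or_eq_true, Nat.beq_eq] at hm
    have hm' := hm.resolve_left (by tauto)
    have h3 : (Nat.land (starBits s) (starBits t)).testBit w = true := by
      show (starBits s &&& starBits t).testBit w = true
      rw [Nat.testBit_and, (starBits_iff s w).2 ⟨q, hq, eq⟩, (starBits_iff t w).2 ⟨q', hq', eq'⟩]
      rfl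
    rw [hm'] at h3
    have h4 : (2 ^ 0 ||| 1 <<< pl s t).testBit w = true := h3
    rw [Nat.testBit_or, Nat.one_shiftLeft, Nat.testBit_two_pow, Nat.testBit_two_pow, Bool.or_eq_true,
      decide_eq_true_eq, decide_eq_true_eq] at h4
    exact h4.resolve_left fun e => h0 (e ▸ hw)
  obtain ⟨a₁, ha₁, a₂, ha₂, h12⟩ := Finset.one_lt_card.1 (hW ▸ (by norm_num : 1 < 15))
  obtain ⟨p, hp, hp0, a, ha, b, hb, ea, eb⟩ := meet a₁ ha₁ a₂ ha₂ h12
  by_cases hall : ∀ w ∈ W, ∃ q < 32, pl p q = w
  · exact ⟨p, hp, hp0, fun w hw => (starBits_iff p w).2 (hall w hw)⟩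
  push Not at hall
  obtain ⟨w₃, hw₃, hno⟩ := hall
  exfalso
  let P : ℕ → Prop := fun v => ∃ e < 8, combo [p, a, b] e = v
  let Dp : ℕ → Prop := fun v => ∃ e < 8, combo [pl p a, pl p b, pl a b] e = v
  have h8 : ∀ {e f : ℕ}, e < 8 → f < 8 → Nat.xor e f < 8 := fun he hf => Nat.xor_lt_two_pow (n := 3) he hf
  have hP0 : P 0 := ⟨0, by norm_num, combo_zero _⟩
  have hPp : P p := ⟨1, by norm_num, by simp [combo]⟩
  have hPa : P a := ⟨2, by norm_num, by simp [combo]⟩
  have hPb : P b := ⟨4, by norm_num, by simp [combo]⟩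
  have hPx : ∀ {u v}, P u → P v → P (Nat.xor u v) := by
    rintro u v ⟨e, he, rfl⟩ ⟨f, hf, rfl⟩
    exact ⟨_, h8 he hf, combo_xor _ e f⟩
  have hP32 : ∀ {v}, P v → v < 32 := by
    rintro v ⟨e, he, rfl⟩
    refine bits_induction (n := 3) units3 (fun e => combo [p, a, b] e < 32) ?_ ?_ ?_ e he
    · show combo [p, a, b] 0 < 32
      rw [combo_zero]; norm_num
    · intro j hj
      interval_cases j <;> simp [combo] <;> assumption
    · intro e _ f _ h1 h2
      show combo [p, a, b] (Nat.xor e f) < 32
      rw [show combo [p, a, b] (Nat.xor e f) = Nat.xor (combo [p, a, b] e) (combo [p, a, b] f) from combo_xor _ e f]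
      exact xor32 h1 h2
  have hDx : ∀ {u v}, Dp u → Dp v → Dp (Nat.xor u v) := by
    rintro u v ⟨e, he, rfl⟩ ⟨f, hf, rfl⟩
    exact ⟨_, h8 he hf, combo_xor _ e f⟩
  have hD0 : Dp 0 := ⟨0, by norm_num, combo_zero _⟩
  have hgen : ∀ u, (u = p ∨ u = a ∨ u = b) → ∀ v, (v = p ∨ v = a ∨ v = b) → Dp (pl u v) := by
    intro u hu v hv
    have d1 : Dp (pl p a) := ⟨1, by norm_num, by simp [combo]⟩
    have d2 : Dp (pl p b) := ⟨2, by norm_num, by simp [combo]⟩
    have d3 : Dp (pl a b) := ⟨4, by norm_num, by simp [combo]⟩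
    have z : ∀ u, u < 32 → Dp (pl u u) := fun u hu => by
      rw [(pl_facts hu hu).2.2.2 (Or.inl rfl)]; exact hD0
    rcases hu with rfl | rfl | rfl <;> rcases hv with rfl | rfl | rfl
    · exact z _ hp
    · exact d1
    · exact d2
    · rw [(pl_facts ha hp).2.2.1]; exact d1
    · exact z _ ha
    · exact d3
    · rw [(pl_facts hb hp).2.2.1]; exact d2
    · rw [(pl_facts hb ha).2.2.1]; exact d3
    · exact z _ hb
  have hcombo : ∀ e < 8, ∀ v < 32, (∀ u, (u = p ∨ u = a ∨ u = b) → Dp (pl v u)) → Dp (pl v (combo [p, a, b] e)) := by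
    intro e he v hv hg
    refine bits_induction (n := 3) units3 (fun e => Dp (pl v (combo [p, a, b] e))) ?_ ?_ ?_ e he
    · show Dp (pl v (combo [p, a, b] 0))
      rw [combo_zero, (pl_facts hv (by norm_num)).2.2.2 (Or.inr (Or.inr rfl))]; exact hD0
    · intro j hj
      interval_cases j <;> simp [combo] <;> apply hg <;> simp
    · intro e he f hf h1 h2
      show Dp (pl v (combo [p, a, b] (Nat.xor e f)))
      rw [show combo [p, a, b] (Nat.xor e f) = Nat.xor (combo [p, a, b] e) (combo [p, a, b] f) from combo_xor _ e f,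
        pl_xor hv (hP32 ⟨e, he, rfl⟩) (hP32 ⟨f, hf, rfl⟩)]
      exact hDx h1 h2
  have hpl : ∀ {u v}, P u → P v → Dp (pl u v) := by
    intro u v hu hv
    obtain ⟨e, he, rfl⟩ := hv
    refine hcombo e he _ (hP32 hu) fun g hg => ?_
    obtain ⟨f, hf, rfl⟩ := hu
    have hg32 : g < 32 := by rcases hg with rfl | rfl | rfl <;> assumption
    rw [(pl_facts (hP32 ⟨f, hf, rfl⟩) hg32).2.2.1]
    exact hcombo f hf g hg32 fun g' hg' => hgen g hg g' hg'
  -- a common point of an old line and a line off `p`
  have old : ∀ w ∈ W, (∀ q < 32, pl p q ≠ w) → ∀ c, c < 32 → P c → pl p c ∈ W →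
      ∃ s, s < 32 ∧ s ≠ 0 ∧ s ≠ p ∧ P s ∧ (∃ q < 32, pl s q = w) ∧ pl p s = pl p c := by
    intro w hw hn c hc hPc hcW
    obtain ⟨s, hs, hs0, q, hq, q', hq', e1, e2⟩ := meet _ hcW w hw fun e => hn c hc e
    have hsp : s ≠ p := fun e => hn q' hq' (e ▸ e2)
    have h12 := two _ hcW p s hp hs hp0 hs0 (Ne.symm hsp) ⟨c, hc, rfl⟩ ⟨q, hq, e1⟩
    refine ⟨s, hs, hs0, hsp, ?_, ⟨q', hq', e2⟩, h12⟩
    have hl := List.all_eq_true.1 (List.all_eq_true.1 pl_line p (List.mem_range.2 hp)) c (List.mem_range.2 hc)
    simp only [Bool.or_eq_true, Nat.beq_eq, List.all_eq_true, List.mem_range, Bool.not_eq_true',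
      ← Bool.not_eq_true] at hl
    have hc0 : c ≠ 0 ∧ p ≠ c := by
      constructor <;> rintro rfl <;>
        exact h0 (((pl_facts hp hc).2.2.2 (by first | exact Or.inl rfl | exact Or.inr (Or.inr rfl))) ▸ hcW)
    rcases hl with ((e | e) | e) | hl
    · exact absurd e hp0
    · exact absurd e hc0.2
    · exact absurd e hc0.1
    rcases hl s hs with (e | e) | e
    · exact absurd h12.symm e
    · exact e ▸ hPc
    · exact e ▸ hPx hPp hPc
  have off : ∀ w ∈ W, (∀ q < 32, pl p q ≠ w) → ∃ s t, P s ∧ P t ∧ pl s t = w := by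
    intro w hw hn
    obtain ⟨s, hs, hs0, -, hPs, hsw, es⟩ := old w hw hn a ha hPa (ea.symm ▸ ha₁)
    obtain ⟨t, ht, ht0, -, hPt, htw, et⟩ := old w hw hn b hb hPb (eb.symm ▸ ha₂)
    refine ⟨s, t, hPs, hPt, two w hw s t hs ht hs0 ht0 (fun e => h12 ?_) hsw htw⟩
    rw [← ea, ← eb, ← es, ← et, e]
  obtain ⟨s₃, t₃, hs₃, ht₃, e₃⟩ := off w₃ hw₃ hno
  have hsub : W ⊆ ((Finset.range 8).image (combo [pl p a, pl p b, pl a b])).erase 0 := by
    intro w hw
    refine Finset.mem_erase.2 ⟨fun e => h0 (e ▸ hw), ?_⟩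
    suffices h : Dp w by
      obtain ⟨e, he, rfl⟩ := h
      exact Finset.mem_image.2 ⟨e, Finset.mem_range.2 he, rfl⟩
    by_cases hthrough : ∃ q < 32, pl p q = w
    · obtain ⟨c, hc, rfl⟩ := hthrough
      -- meet the line off `p`
      obtain ⟨r, hr, hr0, q, hq, q', hq', e1, e2⟩ := meet _ hw w₃ hw₃ fun e => hno c hc e
      have hrp : r ≠ p := fun e => hno q' hq' (e ▸ e2)
      rw [← two _ hw p r hp hr hp0 hr0 (Ne.symm hrp) ⟨c, hc, rfl⟩ ⟨q, hq, e1⟩]
      refine hpl hPp ?_
      -- a point of the third line is in the plane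
      have hs32 := hP32 hs₃
      have ht32 := hP32 ht₃
      by_cases ers : r = s₃
      · exact ers ▸ hs₃
      have hs0 : s₃ ≠ 0 := fun e => h0 (by
        rw [e, (pl_facts (by norm_num) ht32).2.2.2 (Or.inr (Or.inl rfl))] at e₃
        exact e₃ ▸ hw₃)
      have h' := two w₃ hw₃ s₃ r hs32 hr hs0 hr0 (Ne.symm ers) ⟨t₃, ht32, e₃⟩ ⟨q', hq', e2⟩
      have hl := List.all_eq_true.1 (List.all_eq_true.1 pl_line s₃ (List.mem_range.2 hs32)) t₃
        (List.mem_range.2 ht32)
      simp only [Bool.or_eq_true, Nat.beq_eq, List.all_eq_true, List.mem_range, Bool.not_eq_true',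
        ← Bool.not_eq_true] at hl
      rcases hl with ((e | e) | e) | hl
      · exact absurd e hs0
      · exfalso; subst e
        rw [(pl_facts hs32 hs32).2.2.2 (Or.inl rfl)] at e₃
        exact h0 (e₃ ▸ hw₃)
      · exfalso; subst e
        rw [(pl_facts hs32 ht32).2.2.2 (Or.inr (Or.inr rfl))] at e₃
        exact h0 (e₃ ▸ hw₃)
      rcases hl r hr with (e | e) | e
      · exact absurd (e₃.trans h'.symm) e
      · exact e ▸ ht₃
      · exact e ▸ hPx hs₃ ht₃
    · push Not at hthrough
      obtain ⟨s, t, hs, ht, rfl⟩ := off w hw hthrough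
      exact hpl hs ht
  have hc := Finset.card_le_card hsub
  have h0m : 0 ∈ (Finset.range 8).image (combo [pl p a, pl p b, pl a b]) :=
    Finset.mem_image.2 ⟨0, Finset.mem_range.2 (by norm_num), combo_zero _⟩
  rw [hW, Finset.card_erase_of_mem h0m] at hc
  have := Finset.card_image_le (f := combo [pl p a, pl p b, pl a b]) (s := Finset.range 8)
  rw [Finset.card_range] at this
  omega

theorem units5 : (List.range (2 ^ 5)).all (fun x => Nat.beq x 0 ||
    (List.range 5).any fun j => Nat.blt (Nat.xor x (2 ^ j)) x) = true := by decide +kernel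

theorem units10 : (List.range (2 ^ 10)).all (fun x => Nat.beq x 0 ||
    (List.range 10).any fun j => Nat.blt (Nat.xor x (2 ^ j)) x) = true := by decide +kernel

/-- the bit vector -/
def vec (x : ℕ) : Fin 5 → ZMod 2 := fun i => if x.testBit i then 1 else 0

theorem vec_xor (a b : ℕ) : vec (Nat.xor a b) = vec a + vec b := by
  funext i
  show (if (a ^^^ b).testBit i then (1 : ZMod 2) else 0) = _ + _
  rw [Nat.testBit_xor]
  simp only [vec]
  cases a.testBit (i : ℕ) <;> cases b.testBit (i : ℕ) <;> decide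

theorem vec_inj : ∀ a < 32, ∀ b < 32, vec a = vec b → a = b := by decide +kernel

theorem vec_unit : ∀ j : Fin 5, vec (2 ^ (j : ℕ)) = Pi.single j 1 := by decide +kernel

theorem exists_gl {H : Type*} [Group H] (ρ : H → ℕ → ℕ) (hlt : ∀ h a, a < 1024 → ρ h a < 1024)
    (hadd : ∀ h a b, a < 1024 → b < 1024 → ρ h (Nat.xor a b) = Nat.xor (ρ h a) (ρ h b))
    (hone : ∀ a, a < 1024 → ρ 1 a = a) (hmul : ∀ h k a, a < 1024 → ρ (h * k) a = ρ h (ρ k a))
    (hdec : ∀ h a, a < 1024 → J4TenCert61.decBits.testBit a = true →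
      J4TenCert61.decBits.testBit (ρ h a) = true) :
    ∃ ψ : H →* GL (Fin 5) (ZMod 2), ∀ h, ψ h = 1 → ∀ a, a < 1024 → ρ h a = a := by
  classical
  have hzero : ∀ h, ρ h 0 = 0 := fun h => by
    have := hadd h 0 0 (by norm_num) (by norm_num)
    rwa [show Nat.xor 0 0 = 0 from rfl, show Nat.xor (ρ h 0) (ρ h 0) = 0 from Nat.xor_self _] at this
  have hinj : ∀ h a, a < 1024 → ∀ b, b < 1024 → ρ h a = ρ h b → a = b := fun h a ha b hb e => by
    rw [← hone a ha, ← inv_mul_cancel h, hmul _ _ a ha, e, ← hmul _ _ b hb, inv_mul_cancel, hone b hb]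
  have h32 : ∀ a < 32, ∀ b < 32, Nat.xor a b < 32 := fun a ha b hb => Nat.xor_lt_two_pow (n := 5) ha hb
  -- a star goes into a star
  have hex : ∀ h x, x < 32 → x ≠ 0 → ∃ u < 32, u ≠ 0 ∧ ∀ y < 32, (starBits u).testBit (ρ h (pl x y)) = true := by
    intro h x hx hx0
    have hlt0 : ∀ a ∈ star0 x, a < 1024 := fun a ha => by
      obtain ⟨-, y, hy, rfl⟩ := mem_star0.1 ha
      exact (pl_facts hx hy).2.1
    obtain ⟨u, hu, hu0, hall⟩ := of_lines ((star0 x).image (ρ h))
      (by rw [Finset.card_image_of_injOn fun a ha b hb e => hinj h a (hlt0 a ha) b (hlt0 b hb) e,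
        star0_card x hx hx0])
      (fun hm => by
        obtain ⟨a, ha, e⟩ := Finset.mem_image.1 hm
        exact (mem_star0.1 ha).1 (hinj h a (hlt0 a ha) 0 (by norm_num) (e.trans (hzero h).symm)))
      (fun a ha => by
        obtain ⟨a, ha', rfl⟩ := Finset.mem_image.1 ha
        exact hlt h a (hlt0 a ha'))
      (fun a ha b hb hab => by
        obtain ⟨a, ha', rfl⟩ := Finset.mem_image.1 ha
        obtain ⟨b, hb', rfl⟩ := Finset.mem_image.1 hb
        refine Finset.mem_image.2 ⟨Nat.xor a b, mem_star0.2 ⟨fun e => hab (by rw [xor_eq_zero'.1 e]), ?_⟩,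
          hadd h a b (hlt0 a ha') (hlt0 b hb')⟩
        obtain ⟨-, y, hy, rfl⟩ := mem_star0.1 ha'
        obtain ⟨-, y', hy', rfl⟩ := mem_star0.1 hb'
        exact ⟨_, h32 y hy y' hy', pl_xor hx hy hy'⟩)
      (fun a ha => by
        obtain ⟨a, ha', rfl⟩ := Finset.mem_image.1 ha
        obtain ⟨hne, y, hy, rfl⟩ := mem_star0.1 ha'
        refine hdec h _ (hlt0 _ ha') ?_
        have hd := List.all_eq_true.1 (List.all_eq_true.1 dec_pl x (List.mem_range.2 hx)) y (List.mem_range.2 hy)
        simp only [Bool.or_eq_true, Nat.beq_eq] at hd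
        rcases hd with ((e | e) | e) | e
        · exact absurd ((pl_facts hx hy).2.2.2 (Or.inl e)) hne
        · exact absurd ((pl_facts hx hy).2.2.2 (Or.inr (Or.inl e))) hne
        · exact absurd ((pl_facts hx hy).2.2.2 (Or.inr (Or.inr e))) hne
        · exact e)
    refine ⟨u, hu, hu0, fun y hy => ?_⟩
    by_cases e : pl x y = 0
    · rw [e, hzero]
      exact (starBits_iff u 0).2 ⟨0, by norm_num, (pl_facts hu (by norm_num)).2.2.2 (Or.inr (Or.inr rfl))⟩
    · exact hall _ (Finset.mem_image_of_mem _ (mem_star0.2 ⟨e, y, hy, rfl⟩))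
  -- and into only one
  have huniq : ∀ h x, x < 32 → x ≠ 0 → ∀ u v, u < 32 → u ≠ 0 → v < 32 → v ≠ 0 →
      (∀ y < 32, (starBits u).testBit (ρ h (pl x y)) = true) →
      (∀ y < 32, (starBits v).testBit (ρ h (pl x y)) = true) → u = v := by
    intro h x hx hx0 u v hu hu0 hv hv0 hU hV
    by_contra huv
    have himg : (star0 x).image (ρ h) = star0 u := by
      refine Finset.eq_of_subset_of_card_le (fun a ha => ?_) ?_
      · obtain ⟨a, ha', rfl⟩ := Finset.mem_image.1 ha
        obtain ⟨hne, y, hy, rfl⟩ := mem_star0.1 ha'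
        refine mem_star0.2 ⟨fun e => hne (hinj h _ (pl_facts hx hy).2.1 0 (by norm_num) (e.trans (hzero h).symm)),
          (starBits_iff u _).1 (hU y hy)⟩
      · rw [star0_card u hu hu0, Finset.card_image_of_injOn, star0_card x hx hx0]
        intro a ha b hb e
        obtain ⟨-, y, hy, rfl⟩ := mem_star0.1 ha
        obtain ⟨-, y', hy', rfl⟩ := mem_star0.1 hb
        exact hinj h _ (pl_facts hx hy).2.1 _ (pl_facts hx hy').2.1 e
    have hs := List.all_eq_true.1 (List.all_eq_true.1 star_sep u (List.mem_range.2 hu)) v (List.mem_range.2 hv)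
    simp only [Bool.or_eq_true, Nat.beq_eq, List.any_eq_true, List.mem_range, Bool.not_eq_true'] at hs
    obtain ⟨y, hy, hy'⟩ := hs.resolve_left (by tauto)
    by_cases e : pl u y = 0
    · rw [e, (starBits_iff v 0).2 ⟨0, by norm_num, (pl_facts hv (by norm_num)).2.2.2 (Or.inr (Or.inr rfl))⟩] at hy'
      exact Bool.noConfusion hy'
    · obtain ⟨a, ha, e'⟩ := Finset.mem_image.1 (himg.symm ▸ mem_star0.2 ⟨e, y, hy, rfl⟩ : pl u y ∈ _)
      obtain ⟨-, y', hy2, rfl⟩ := mem_star0.1 ha
      rw [← e', hV y' hy2] at hy'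
      exact Bool.noConfusion hy'
  -- the permutation
  let σ : H → ℕ → ℕ := fun h x => if hx : x < 32 ∧ x ≠ 0 then (hex h x hx.1 hx.2).choose else 0
  have hσ : ∀ h x, x < 32 → x ≠ 0 → σ h x < 32 ∧ σ h x ≠ 0 ∧
      ∀ y < 32, (starBits (σ h x)).testBit (ρ h (pl x y)) = true := by
    intro h x hx hx0
    simp only [σ, dif_pos (show x < 32 ∧ x ≠ 0 from ⟨hx, hx0⟩)]
    exact (hex h x hx hx0).choose_spec
  have hσ0 : ∀ h, σ h 0 = 0 := fun h => dif_neg fun e => e.2 rfl
  have hσlt : ∀ h x, x < 32 → σ h x < 32 := fun h x hx => by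
    by_cases e : x = 0
    · subst e; rw [hσ0]; norm_num
    · exact (hσ h x hx e).1
  have hσinj : ∀ h x y, x < 32 → y < 32 → σ h x = σ h y → x = y := by
    intro h x y hx hy e
    by_cases hx0 : x = 0
    · subst hx0
      by_contra hy0
      rw [hσ0] at e
      exact (hσ h y hy (Ne.symm hy0)).2.1 e.symm
    by_cases hy0 : y = 0
    · subst hy0
      rw [hσ0] at e
      exact absurd e (hσ h x hx hx0).2.1
    obtain ⟨hu, hu0, hU⟩ := hσ h x hx hx0
    obtain ⟨-, -, hV⟩ := hσ h y hy hy0
    rw [← e] at hV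
    refine huniq 1 x hx hx0 x y hx hx0 hy hy0 (fun z hz => ?_) fun z hz => ?_
    · rw [hone _ (pl_facts hx hz).2.1]; exact (starBits_iff x _).2 ⟨z, hz, rfl⟩
    · rw [hone _ (pl_facts hx hz).2.1]
      by_cases e0 : pl x z = 0
      · rw [e0]; exact (starBits_iff y 0).2 ⟨0, by norm_num, (pl_facts hy (by norm_num)).2.2.2 (Or.inr (Or.inr rfl))⟩
      -- both images fill the same star
      have hsub : ∀ w, w < 32 → w ≠ 0 → (∀ z < 32, (starBits (σ h x)).testBit (ρ h (pl w z)) = true) →
          (star0 w).image (ρ h) = star0 (σ h x) := by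
        intro w hw hw0 hW
        refine Finset.eq_of_subset_of_card_le (fun a ha => ?_) ?_
        · obtain ⟨a, ha', rfl⟩ := Finset.mem_image.1 ha
          obtain ⟨hne, t, ht, rfl⟩ := mem_star0.1 ha'
          exact mem_star0.2 ⟨fun e => hne (hinj h _ (pl_facts hw ht).2.1 0 (by norm_num) (e.trans (hzero h).symm)),
            (starBits_iff _ _).1 (hW t ht)⟩
        · rw [star0_card _ hu hu0, Finset.card_image_of_injOn, star0_card w hw hw0]
          intro a ha b hb e
          obtain ⟨-, t, ht, rfl⟩ := mem_star0.1 ha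
          obtain ⟨-, t', ht', rfl⟩ := mem_star0.1 hb
          exact hinj h _ (pl_facts hw ht).2.1 _ (pl_facts hw ht').2.1 e
      have hm := Finset.mem_image_of_mem (ρ h) (mem_star0.2 ⟨e0, z, hz, rfl⟩)
      rw [hsub x hx hx0 hU, ← hsub y hy hy0 hV] at hm
      obtain ⟨a, ha, e'⟩ := Finset.mem_image.1 hm
      obtain ⟨-, t, ht, rfl⟩ := mem_star0.1 ha
      exact (starBits_iff y _).2 ⟨t, ht, hinj h _ (pl_facts hy ht).2.1 _ (pl_facts hx hz).2.1 e'⟩
  have hkey : ∀ h x y, x < 32 → y < 32 → ρ h (pl x y) = pl (σ h x) (σ h y) := by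
    intro h x y hx hy
    by_cases hd : x = y ∨ x = 0 ∨ y = 0
    · rw [(pl_facts hx hy).2.2.2 hd, hzero, (pl_facts (hσlt h x hx) (hσlt h y hy)).2.2.2]
      rcases hd with rfl | rfl | rfl
      · exact Or.inl rfl
      · exact Or.inr (Or.inl (hσ0 h))
      · exact Or.inr (Or.inr (hσ0 h))
    push Not at hd
    obtain ⟨hxy, hx0, hy0⟩ := hd
    obtain ⟨hu, hu0, hU⟩ := hσ h x hx hx0
    obtain ⟨hv, hv0, hV⟩ := hσ h y hy hy0
    have h1 := hU y hy
    have h2 := hV x hx
    rw [← (pl_facts hx hy).2.2.1] at h2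
    have hm := List.all_eq_true.1 (List.all_eq_true.1 star_meet _ (List.mem_range.2 hu)) _ (List.mem_range.2 hv)
    simp only [Bool.or_eq_true, Nat.beq_eq] at hm
    have hm' := hm.resolve_left (by have := fun e => hxy (hσinj h x y hx hy e); tauto)
    have h3 : (Nat.land (starBits (σ h x)) (starBits (σ h y))).testBit (ρ h (pl x y)) = true := by
      show (starBits (σ h x) &&& starBits (σ h y)).testBit _ = true
      rw [Nat.testBit_and, h1, h2]; rfl
    rw [hm'] at h3
    have h4 : (2 ^ 0 ||| 1 <<< pl (σ h x) (σ h y)).testBit (ρ h (pl x y)) = true := h3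
    rw [Nat.testBit_or, Nat.one_shiftLeft, Nat.testBit_two_pow, Nat.testBit_two_pow, Bool.or_eq_true,
      decide_eq_true_eq, decide_eq_true_eq] at h4
    rcases h4 with h4 | h4
    · exfalso
      have hz := h4.symm
      have he := hinj h _ (pl_facts hx hy).2.1 0 (by norm_num) (hz.trans (hzero h).symm)
      have hd := List.all_eq_true.1 (List.all_eq_true.1 dec_pl x (List.mem_range.2 hx)) y (List.mem_range.2 hy)
      rw [he] at hd
      simp only [Bool.or_eq_true, Nat.beq_eq] at hd
      rcases hd with ((e | e) | e) | e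
      · exact hxy e
      · exact hx0 e
      · exact hy0 e
      · exact absurd e (by decide +kernel)
    · exact h4.symm
  have hσadd : ∀ h x y, x < 32 → y < 32 → σ h (Nat.xor x y) = Nat.xor (σ h x) (σ h y) := by
    intro h x y hx hy
    by_cases hxy : x = y
    · subst hxy
      rw [show Nat.xor x x = 0 from Nat.xor_self x, hσ0]
      exact (Nat.xor_self _).symm
    by_cases hx0 : x = 0
    · subst hx0
      rw [hσ0, show Nat.xor 0 y = y from Nat.zero_xor y]
      exact (Nat.zero_xor _).symm
    by_cases hy0 : y = 0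
    · subst hy0
      rw [hσ0, show Nat.xor x 0 = x from Nat.xor_zero x]
      exact (Nat.xor_zero _).symm
    have hz := h32 x hx y hy
    have hp := List.all_eq_true.1 (List.all_eq_true.1 pl_add x (List.mem_range.2 hx)) y (List.mem_range.2 hy)
    rw [Nat.beq_eq] at hp
    have he : pl (σ h x) (σ h y) = pl (σ h x) (σ h (Nat.xor x y)) := by
      rw [← hkey h x y hx hy, ← hkey h x _ hx hz, hp]
    have hl := List.all_eq_true.1 (List.all_eq_true.1 pl_line _ (List.mem_range.2 (hσlt h x hx))) _
      (List.mem_range.2 (hσlt h y hy))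
    simp only [Bool.or_eq_true, Nat.beq_eq, List.all_eq_true, List.mem_range, Bool.not_eq_true',
      ← Bool.not_eq_true] at hl
    rcases hl with ((e | e) | e) | hl
    · exact absurd e (hσ h x hx hx0).2.1
    · exact absurd (hσinj h x y hx hy e) hxy
    · exact absurd e (hσ h y hy hy0).2.1
    rcases hl _ (hσlt h _ hz) with (e | e) | e
    · exact absurd he e
    · have := hσinj h _ _ hz hy e
      exfalso
      refine hx0 ?_
      have e2 : Nat.xor (Nat.xor x y) y = 0 := xor_eq_zero'.2 this
      rwa [show Nat.xor (Nat.xor x y) y = x from Nat.xor_xor_cancel_right x y] at e2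
    · exact e
  have hσone : ∀ x < 32, σ 1 x = x := by
    intro x hx
    by_cases hx0 : x = 0
    · subst hx0; exact hσ0 1
    · obtain ⟨hu, hu0, hU⟩ := hσ 1 x hx hx0
      exact huniq 1 x hx hx0 _ x hu hu0 hx hx0 hU fun y hy => by
        rw [hone _ (pl_facts hx hy).2.1]; exact (starBits_iff x _).2 ⟨y, hy, rfl⟩
  have hσmul : ∀ h k x, x < 32 → σ (h * k) x = σ h (σ k x) := by
    intro h k x hx
    by_cases hx0 : x = 0
    · subst hx0; rw [hσ0, hσ0, hσ0]
    · obtain ⟨hu, hu0, hU⟩ := hσ (h * k) x hx hx0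
      obtain ⟨hk, hk0, -⟩ := hσ k x hx hx0
      obtain ⟨hv, hv0, -⟩ := hσ h _ hk hk0
      refine huniq (h * k) x hx hx0 _ _ hu hu0 hv hv0 hU fun y hy => ?_
      rw [hmul _ _ _ (pl_facts hx hy).2.1, hkey k x y hx hy, hkey h _ _ hk (hσlt k y hy)]
      exact (starBits_iff _ _).2 ⟨_, hσlt h _ (hσlt k y hy), rfl⟩
  -- the matrix
  let M : H → Matrix (Fin 5) (Fin 5) (ZMod 2) := fun h => Matrix.of fun i j => vec (σ h (2 ^ (j : ℕ))) i
  have hM : ∀ h x, x < 32 → (M h).mulVec (vec x) = vec (σ h x) := by
    intro h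
    refine bits_induction (n := 5) units5 _ ?_ ?_ ?_
    · have e : vec 0 = 0 := by funext i; simp [vec]
      rw [hσ0, e, Matrix.mulVec_zero]
    · intro j hj
      rw [show vec (2 ^ j) = Pi.single (⟨j, hj⟩ : Fin 5) 1 from vec_unit ⟨j, hj⟩, Matrix.mulVec_single_one]
      rfl
    · intro a ha b hb h1 h2
      rw [vec_xor, Matrix.mulVec_add, h1, h2, ← vec_xor, hσadd h a b ha hb]
  have hj32 : ∀ j : Fin 5, 2 ^ (j : ℕ) < 32 := fun j =>
    Nat.pow_lt_pow_right (by norm_num : 1 < 2) j.2
  let μ : H →* Matrix (Fin 5) (Fin 5) (ZMod 2) :=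
    { toFun := M
      map_one' := by
        ext i j
        show vec (σ 1 (2 ^ (j : ℕ))) i = _
        rw [hσone _ (hj32 j), vec_unit j, Pi.single_apply, Matrix.one_apply]
      map_mul' := fun h k => by
        ext i j
        show vec (σ (h * k) (2 ^ (j : ℕ))) i = _
        rw [hσmul h k _ (hj32 j), ← hM h _ (hσlt k _ (hj32 j))]
        rfl }
  refine ⟨μ.toHomUnits, fun h e => ?_⟩
  have hM1 : M h = 1 := congrArg Units.val e
  have hfix : ∀ x < 32, σ h x = x := fun x hx => by
    refine vec_inj _ (hσlt h x hx) x hx ?_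
    rw [← hM h x hx, hM1, Matrix.one_mulVec]
  refine bits_induction (n := 10) units10 _ (hzero h) ?_ ?_
  · intro k hk
    have hu := List.all_eq_true.1 unit_pl k (List.mem_range.2 hk)
    simp only [List.any_eq_true, List.mem_range, Nat.beq_eq] at hu
    obtain ⟨x, hx, y, hy, hxy⟩ := hu
    rw [← hxy, hkey h x y hx hy, hfix x hx, hfix y hy]
  · intro a ha b hb h1 h2
    rw [hadd h a b ha hb, h1, h2]

end Cfsg.Agent.J4TenRigid30
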