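import Mathlib
import Cfsg.Agent.Lib.J4Invol46
import Cfsg.Agent.Lib.J4TenCert61
import Cfsg.Agent.Lib.J4TenRigid30

/-!
The coded model of the normaliser of an elementary abelian subgroup `V` of order `2 ^ 11` in a group of
Janko-four type: codes for the elements of `V`, lifts of encoded permutations, and the standard
elementary abelian subgroup of order `2 ^ 10`.
-/

set_option autoImplicit false
set_option maxRecDepth 100000
set_option linter.unusedSectionVars false
set_option linter.style.haveILetI false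

namespace Cfsg.Agent.J4TenModel4

open Cfsg Cfsg.Agent.GolayBasic Cfsg.Agent.GolayPerm Cfsg.Agent.GolayEnum
open Cfsg.Agent.GolayModule hiding act
open Cfsg.Agent.J4TenCode61 Cfsg.Agent.J4TenCert61 Cfsg.Agent.J4TenData61

universe u

variable {G : Type u} [Group G]

/-- What is used about `V`: labels, lifts of M24, the centralisers of the duads, fusion into `V` and
into its normaliser, and one outer element. -/
structure Frame (z : G) (V : Subgroup G) (φ : ↥(Subgroup.normalizer (V : Set G)) →* ↥M24)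
    (cl : (GolayPt → ZMod 2) → G) (κ : ↥M24 →* G) : Prop where
  lab : J4Invol46.Label z V φ cl
  card : Nat.card V = 2 ^ 11
  κN : ∀ g, κ g ∈ Subgroup.normalizer (V : Set G)
  κφ : ∀ g, φ ⟨κ g, κN g⟩ = g
  tle : ∀ x ∈ V, x ≠ 1 → ¬ IsConj z x →
    Subgroup.centralizer ({x} : Set G) ≤ Subgroup.normalizer (V : Set G)
  into : ∀ i : G, i * i = 1 → ∃ g : G, g * i * g⁻¹ ∈ V
  syl : ∀ A : Subgroup G, IsPGroup 2 A →
    ∃ g : G, A.map (MulAut.conj g).toMonoidHom ≤ Subgroup.normalizer (V : Set G)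
  outer : ∃ x d e : G, x * x = 1 ∧ x ∉ V ∧ ¬ IsConj z x ∧ d ∈ V ∧ e ∈ V ∧ d ≠ 1 ∧ e ≠ 1 ∧ d ≠ e ∧
    ¬ IsConj z d ∧ ¬ IsConj z e ∧ ¬ IsConj z (d * e) ∧ x * d = d * x ∧ x * e = e * x

/-- the element of `V` with a given code -/
def psi (cl : (GolayPt → ZMod 2) → G) (c : ℕ) : G := cl (word (rep c))

open scoped Classical in
/-- the lift of an encoded permutation -/
noncomputable def kp (κ : ↥M24 →* G) (P : ℕ) : G :=
  if h : permOf P ∈ M24 then κ ⟨permOf P, h⟩ else 1

/-- the element with given coordinates -/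
noncomputable def theta (cl : (GolayPt → ZMod 2) → G) (κ : ↥M24 →* G) (a : ℕ) : G :=
  psi cl (uCode (Nat.shiftRight a 4)) * kp κ (qelP.getD (Nat.land a 15) 0)

/-- the translation with a given number -/
abbrev qel (a : ℕ) : ℕ := qelP.getD a 0

theorem rep_facts : (List.range 2048).all (fun c => wt (rep c) % 2 == 0 && Nat.blt (rep c) (2 ^ 24)) = true := by
  decide +kernel

theorem rep_evens : M24CocodeInvol46.evens.all (fun x => Nat.beq (rep (x % 2048)) (Nat.shiftLeft x 12)) = true := by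
  decide +kernel

theorem bits11 : (List.range (2 ^ 11)).all (fun x => Nat.beq x 0 ||
    (List.range 11).any fun j => Nat.blt (Nat.xor x (2 ^ j)) x) = true := by decide +kernel

theorem bits10 : (List.range (2 ^ 10)).all (fun x => Nat.beq x 0 ||
    (List.range 10).any fun j => Nat.blt (Nat.xor x (2 ^ j)) x) = true := by decide +kernel

theorem qel_good : qelP.all (fun P => good P) = true := by decide +kernel

theorem combo_two_pow : ∀ (l : List ℕ) (j : ℕ), combo l (2 ^ j) = l.getD j 0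
  | [], j => by simp [combo]
  | b :: l, 0 => by simp [combo, combo_zero]
  | b :: l, j + 1 => by
    show ((2 ^ (j + 1) &&& 1) * b) ^^^ combo l (2 ^ (j + 1) >>> 1) = _
    rw [show 2 ^ (j + 1) >>> 1 = 2 ^ j by
      rw [Nat.shiftRight_eq_div_pow, pow_one, pow_succ, Nat.mul_div_cancel _ (by norm_num : 0 < 2)],
      combo_two_pow l j, Nat.and_one_is_mod, show 2 ^ (j + 1) % 2 = 0 by rw [pow_succ]; omega]
    simp

theorem rep_xor (a b : ℕ) : rep (Nat.xor a b) = Nat.xor (rep a) (rep b) := combo_xor _ _ _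

theorem rep_zero : rep 0 = 0 := combo_zero _

theorem rep_even {c : ℕ} (hc : c < 2048) : 2 ∣ (mset (rep c)).card ∧ rep c < 2 ^ 24 := by
  have h := List.all_eq_true.1 rep_facts c (List.mem_range.2 hc)
  rw [Bool.and_eq_true, beq_iff_eq, Nat.blt_eq] at h
  exact ⟨by rw [card_mset]; omega, h.2⟩

theorem uCode_xor (x y : ℕ) : uCode (Nat.xor x y) = Nat.xor (uCode x) (uCode y) := combo_xor _ _ _

theorem uCode_zero : uCode 0 = 0 := combo_zero _

theorem uCode_fix {x : ℕ} (hx : x < 64) : uCode x < 2048 ∧ ∀ a < 16, act (qel a) (uCode x) = uCode x := by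
  have h := List.all_eq_true.1 u_fixed x (List.mem_range.2 hx)
  rw [Bool.and_eq_true, Nat.blt_eq, List.all_eq_true] at h
  refine ⟨h.1, fun a ha => Nat.eq_of_beq_eq_true (h.2 _ ?_)⟩
  rw [qel, List.getD_eq_getElem _ _ (by rw [q_hom.2.1]; exact ha)]
  exact List.getElem_mem _

theorem qel_mem {a : ℕ} (ha : a < 16) : qel a ∈ qelP := by
  rw [qel, List.getD_eq_getElem _ _ (by rw [q_hom.2.1]; exact ha)]
  exact List.getElem_mem _

theorem qel_mem24 {a : ℕ} (ha : a < 16) : good (qel a) = true :=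
  List.all_eq_true.1 qel_good _ (qel_mem ha)

theorem qel_xor {a b : ℕ} (ha : a < 16) (hb : b < 16) :
    qel (Nat.xor a b) = pcomp (qel a) (qel b) :=
  (Nat.eq_of_beq_eq_true (List.all_eq_true.1 (List.all_eq_true.1 q_hom.1 a (List.mem_range.2 ha)) b
    (List.mem_range.2 hb))).symm

theorem qel_zero : qel 0 = idP := Nat.eq_of_beq_eq_true q_hom.2.2.1

theorem low_lt (a : ℕ) : Nat.land a 15 < 16 := lt_of_le_of_lt Nat.and_le_right (by norm_num)

theorem high_lt {a : ℕ} (ha : a < 1024) : Nat.shiftRight a 4 < 64 := by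
  show a >>> 4 < 64
  rw [Nat.shiftRight_eq_div_pow]
  omega

theorem low_xor (a b : ℕ) : Nat.land (Nat.xor a b) 15 = Nat.xor (Nat.land a 15) (Nat.land b 15) :=
  Nat.and_xor_distrib_right

theorem high_xor (a b : ℕ) :
    Nat.shiftRight (Nat.xor a b) 4 = Nat.xor (Nat.shiftRight a 4) (Nat.shiftRight b 4) :=
  Nat.shiftRight_xor_distrib

section
variable [Finite G] {z : G} {V : Subgroup G} {φ : ↥(Subgroup.normalizer (V : Set G)) →* ↥M24}
  {cl : (GolayPt → ZMod 2) → G} {κ : ↥M24 →* G} (F : Frame z V φ cl κ)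
include F

theorem cl_zero : cl 0 = 1 := by
  have h := F.lab.map_add 0 0
  rw [add_zero] at h
  exact mul_left_cancel (h.symm.trans (mul_one _).symm)

theorem psi_mem (c : ℕ) : psi cl c ∈ V := F.lab.mem _

theorem psi_zero : psi cl 0 = 1 := by rw [psi, rep_zero, word_zero, cl_zero F]

theorem psi_xor (a b : ℕ) : psi cl (Nat.xor a b) = psi cl a * psi cl b := by
  rw [psi, rep_xor, show Nat.xor (rep a) (rep b) = rep a ^^^ rep b from rfl, word_xor, F.lab.map_add]
  rfl

theorem psi_sq (c : ℕ) : psi cl c * psi cl c = 1 := F.lab.sq _ (psi_mem F c)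

theorem cl_code {m : ℕ} (h : inCode m = true) : cl (word m) = 1 := by
  rw [M24CocodeInvol46.word_eq_ind, F.lab.code _ (M24CocodeInvol46.even_code h),
    ← M24CocodeInvol46.word_eq_ind, word_mem_iff (inCode_lt h)]
  exact h

theorem psi_surj {x : G} (hx : x ∈ V) : ∃ c < 2048, psi cl c = x := by
  obtain ⟨s, hs, rfl⟩ := F.lab.span x hx
  set m := smask s with hm
  have he : 2 ∣ (mset m).card := by rw [hm, mset_smask]; exact hs
  have hlt : m < 2 ^ 24 := smask_lt s
  set x' := M24CocodeInvol46.rep m with hx'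
  have hc : inCode (enc (m &&& 4095)) = true := inCode_enc (and_lt_4096 m)
  have hrep : x' <<< 12 = m ^^^ enc (m &&& 4095) := by
    have h0 : (m ^^^ enc (m &&& 4095)) % 2 ^ 12 = 0 := by
      rw [← Nat.and_two_pow_sub_one_eq_mod, Nat.and_xor_distrib_right]
      show m &&& 4095 ^^^ enc (m &&& 4095) &&& 4095 = 0
      rw [enc_and (and_lt_4096 m), Nat.xor_self]
    rw [hx', M24CocodeInvol46.rep, Nat.shiftLeft_eq, Nat.shiftRight_eq_div_pow]
    exact Nat.div_mul_cancel (Nat.dvd_of_mod_eq_zero h0)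
  have hev : x' ∈ M24CocodeInvol46.evens := by
    refine M24CocodeInvol46.mem_evens.2 ⟨?_, ?_⟩
    · have : m ^^^ enc (m &&& 4095) < 2 ^ 24 := Nat.xor_lt_two_pow hlt (inCode_lt hc)
      rw [hx', M24CocodeInvol46.rep, Nat.shiftRight_eq_div_pow]
      omega
    · rw [hrep, M24CocodeInvol46.card_mset_xor _ _ he]
      exact M24CocodeInvol46.even_code hc
  refine ⟨x' % 2048, Nat.mod_lt _ (by norm_num), ?_⟩
  rw [psi, Nat.eq_of_beq_eq_true (List.all_eq_true.1 rep_evens _ hev),
    show Nat.shiftLeft x' 12 = x' <<< 12 from rfl, hrep, word_xor, F.lab.map_add, cl_code F hc, mul_one,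
    M24CocodeInvol46.word_eq_ind, mset_smask]

theorem psi_inj {a b : ℕ} (ha : a < 2048) (hb : b < 2048) (h : psi cl a = psi cl b) : a = b := by
  let f : Fin 2048 → ↥V := fun c => ⟨psi cl c, psi_mem F c⟩
  have hs : Function.Surjective f := by
    rintro ⟨x, hx⟩
    obtain ⟨c, hc, e⟩ := psi_surj F hx
    exact ⟨⟨c, hc⟩, Subtype.ext e⟩
  have hb' : Function.Bijective f := hs.bijective_of_nat_card_le (by rw [F.card]; simp)
  exact congrArg Fin.val (hb'.1 (Subtype.ext h : f ⟨a, ha⟩ = f ⟨b, hb⟩))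

theorem psi_lab {p q : ℕ} (hp : p < 24) (hq : q < 24) :
    psi cl (Nat.xor (lab p) (lab q)) = cl (word (Nat.xor (2 ^ p) (2 ^ q))) := by
  have key : ∀ p < 24, psi cl (lab p) =
      cl (word (if Nat.beq p 23 then 0 else Nat.xor (Nat.shiftLeft 1 p) 8388608)) := by
    intro p hp
    have h := List.all_eq_true.1 lab_ok p (List.mem_range.2 hp)
    rw [Bool.and_eq_true] at h
    have h1 := cl_code F h.1
    rw [show ∀ x y, Nat.xor x y = x ^^^ y from fun _ _ => rfl, word_xor, F.lab.map_add] at h1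
    exact mul_right_cancel (h1.trans (F.lab.sq _ (F.lab.mem _)).symm)
  have hm : ∀ p < 24, (if Nat.beq p 23 then 0 else Nat.xor (Nat.shiftLeft 1 p) 8388608) =
      Nat.xor (2 ^ p) 8388608 := by decide +kernel
  rw [psi_xor F, key p hp, key q hq, hm p hp, hm q hq, ← F.lab.map_add, ← word_xor]
  congr 2
  show (2 ^ p ^^^ 8388608) ^^^ (2 ^ q ^^^ 8388608) = 2 ^ p ^^^ 2 ^ q
  rw [Nat.xor_assoc, Nat.xor_left_comm 8388608, Nat.xor_self, Nat.xor_zero]

/-- codes of duads -/
theorem psi_duad {p q : ℕ} (hp : p < 24) (hq : q < 24) (hpq : p ≠ q) :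
    psi cl (Nat.xor (lab p) (lab q)) = cl (ind {pt p, pt q}) := by
  rw [psi_lab F hp hq, M24CocodeInvol46.word_eq_ind]
  congr 2
  rw [show Nat.xor (2 ^ p) (2 ^ q) = 2 ^ p ^^^ 2 ^ q from rfl, mset_xor, ← Nat.one_shiftLeft,
    ← Nat.one_shiftLeft, mset_one_shiftLeft hp, mset_one_shiftLeft hq]
  have hne : pt p ≠ pt q := fun e => hpq (by rw [← idx_pt hp, ← idx_pt hq, e])
  ext i
  simp only [Finset.mem_symmDiff, Finset.mem_singleton, Finset.mem_insert]
  grind

theorem lab_two_pow {j : ℕ} (hj : j < 11) : lab (12 + j) = 2 ^ j :=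
  Nat.eq_of_beq_eq_true (List.all_eq_true.1 lab_basis j (List.mem_range.2 hj))

/-- the action of the normaliser on codes -/
theorem conj_psi {m : ↥(Subgroup.normalizer (V : Set G))} {P : ℕ} (hv : valid P = true)
    (hm : (φ m : Equiv.Perm GolayPt) = permOf P) {c : ℕ} (hc : c < 2048) :
    (m : G) * psi cl c * (m : G)⁻¹ = psi cl (act P c) := by
  refine J4TenRigid30.bits_induction (n := 11) bits11
    (fun c => (m : G) * psi cl c * (m : G)⁻¹ = psi cl (act P c)) ?_ (fun j hj => ?_)
    (fun a _ b _ ha hb => ?_) c hc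
  · simp [psi_zero F, act, combo_zero]
  · have h23 : lab 23 = 0 := by decide +kernel
    have hi : ∀ i < 24, (φ m : Equiv.Perm GolayPt) (pt i) = pt (pimg P i) := fun i hi => by
      rw [hm, permOf_apply hv, pfun, idx_pt hi]
    have hne : pimg P (12 + j) ≠ pimg P 23 := fun e => by
      have h := congrArg pt e
      rw [← hi _ (by omega), ← hi _ (by norm_num)] at h
      have := congrArg idx ((φ m : Equiv.Perm GolayPt).injective h)
      rw [idx_pt (by omega : 12 + j < 24), idx_pt (by norm_num : 23 < 24)] at this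
      omega
    have hne' : pt (12 + j) ≠ pt 23 := fun e => by
      have := congrArg idx e
      rw [idx_pt (by omega : 12 + j < 24), idx_pt (by norm_num : 23 < 24)] at this
      omega
    have e1 : psi cl (2 ^ j) = cl (ind {pt (12 + j), pt 23}) := by
      rw [← psi_duad F (by omega) (by norm_num) (by omega), lab_two_pow F hj, h23]
      exact congrArg (psi cl) (Nat.xor_zero _).symm
    show _ = psi cl (combo (mat P) (2 ^ j))
    rw [e1, F.lab.equiv m _ _ hne', hi _ (by omega), hi _ (by norm_num),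
      ← psi_duad F (pimg_lt hv (by omega)) (pimg_lt hv (by norm_num)) hne, combo_two_pow, mat,
      List.getD_eq_getElem _ _ (by simpa using hj)]
    simp only [List.getElem_map, List.getElem_range]
    exact congrArg (psi cl) (Nat.xor_comm _ _)
  · rw [psi_xor F, show act P (Nat.xor a b) = Nat.xor (act P a) (act P b) from combo_xor _ _ _, psi_xor F]
    show _ = psi cl (act P a) * psi cl (act P b)
    rw [← ha, ← hb]
    group

theorem kp_eq {P : ℕ} (h : permOf P ∈ M24) : kp κ P = κ ⟨permOf P, h⟩ := dif_pos h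

theorem kp_mem (P : ℕ) : kp κ P ∈ Subgroup.normalizer (V : Set G) := by
  unfold kp
  split
  · exact F.κN _
  · exact one_mem _

theorem phi_kp {P : ℕ} (h : permOf P ∈ M24) :
    (φ ⟨kp κ P, kp_mem F P⟩ : Equiv.Perm GolayPt) = permOf P := by
  have e : (⟨kp κ P, kp_mem F P⟩ : ↥(Subgroup.normalizer (V : Set G))) = ⟨κ ⟨_, h⟩, F.κN _⟩ :=
    Subtype.ext (kp_eq F h)
  rw [e, F.κφ]

theorem kp_mul {P Q R : ℕ} (hP : valid P = true) (hQ : valid Q = true) (hR : valid R = true)
    (mP : permOf P ∈ M24) (mQ : permOf Q ∈ M24) (h : R = pcomp P Q) : kp κ R = kp κ P * kp κ Q := by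
  have e := permOf_pcomp hP hQ hR h
  rw [kp_eq F mP, kp_eq F mQ, kp_eq F (e ▸ mul_mem mP mQ), ← map_mul]
  exact congrArg κ (Subtype.ext e)

theorem kp_idP : kp κ idP = 1 := by
  rw [kp_eq F (permOf_idP ▸ one_mem _), ← map_one κ]
  exact congrArg κ (Subtype.ext permOf_idP)

/-- conjugation of a code by a lift -/
theorem kp_psi {P : ℕ} (hv : valid P = true) (h : permOf P ∈ M24) {c : ℕ} (hc : c < 2048) :
    kp κ P * psi cl c * (kp κ P)⁻¹ = psi cl (act P c) :=
  conj_psi F (m := ⟨kp κ P, kp_mem F P⟩) hv (phi_kp F h) hc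

theorem qel_psi {a c : ℕ} (ha : a < 16) (hc : c < 2048) :
    kp κ (qel a) * psi cl c * (kp κ (qel a))⁻¹ = psi cl (act (qel a) c) :=
  kp_psi F (valid_of_good (qel_mem24 ha)) (permOf_mem_M24 (qel_mem24 ha)) hc

theorem qel_mul {a b : ℕ} (ha : a < 16) (hb : b < 16) :
    kp κ (qel (Nat.xor a b)) = kp κ (qel a) * kp κ (qel b) :=
  kp_mul F (valid_of_good (qel_mem24 ha)) (valid_of_good (qel_mem24 hb))
    (valid_of_good (qel_mem24 (Nat.xor_lt_two_pow (n := 4) ha hb)))
    (permOf_mem_M24 (qel_mem24 ha)) (permOf_mem_M24 (qel_mem24 hb)) (qel_xor ha hb)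

theorem qel_comm_u {a x : ℕ} (ha : a < 16) (hx : x < 64) :
    Commute (kp κ (qel a)) (psi cl (uCode x)) := by
  have h := qel_psi F ha (uCode_fix hx).1
  rw [(uCode_fix hx).2 a ha] at h
  exact mul_inv_eq_iff_eq_mul.1 h

theorem theta_xor {a b : ℕ} (ha : a < 1024) (hb : b < 1024) :
    theta cl κ (Nat.xor a b) = theta cl κ a * theta cl κ b := by
  unfold theta
  rw [high_xor, low_xor, uCode_xor, psi_xor F, qel_mul F (low_lt a) (low_lt b)]
  have h := (qel_comm_u F (low_lt a) (high_lt hb)).eq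
  calc psi cl (uCode (Nat.shiftRight a 4)) * psi cl (uCode (Nat.shiftRight b 4)) *
        (kp κ (qel (Nat.land a 15)) * kp κ (qel (Nat.land b 15)))
      = psi cl (uCode (Nat.shiftRight a 4)) *
          (psi cl (uCode (Nat.shiftRight b 4)) * kp κ (qel (Nat.land a 15))) *
          kp κ (qel (Nat.land b 15)) := by group
    _ = _ := by rw [← h]; group

theorem theta_zero : theta cl κ 0 = 1 := by
  have e1 : Nat.shiftRight 0 4 = 0 := rfl
  have e2 : Nat.land 0 15 = 0 := rfl
  rw [theta, e1, e2, uCode_zero, psi_zero F, one_mul]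
  show kp κ (qel 0) = 1
  rw [qel_zero, kp_idP F]

theorem theta_sq {a : ℕ} (ha : a < 1024) : theta cl κ a * theta cl κ a = 1 := by
  rw [← theta_xor F ha ha, show Nat.xor a a = 0 from Nat.xor_self a, theta_zero F]

theorem theta_mem_N (a : ℕ) : theta cl κ a ∈ Subgroup.normalizer (V : Set G) :=
  mul_mem (Subgroup.le_normalizer (psi_mem F _)) (kp_mem F _)

theorem phi_theta (a : ℕ) :
    (φ ⟨theta cl κ a, theta_mem_N F a⟩ : Equiv.Perm GolayPt) = permOf (qel (Nat.land a 15)) := by
  have e : (⟨theta cl κ a, theta_mem_N F a⟩ : ↥(Subgroup.normalizer (V : Set G))) =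
      ⟨psi cl (uCode (Nat.shiftRight a 4)), Subgroup.le_normalizer (psi_mem F _)⟩ *
        ⟨kp κ (qel (Nat.land a 15)), kp_mem F _⟩ := rfl
  rw [e, map_mul, (F.lab.ker ⟨psi cl (uCode (Nat.shiftRight a 4)), _⟩).2 (psi_mem F _), one_mul,
    phi_kp F (permOf_mem_M24 (qel_mem24 (low_lt a)))]

theorem theta_inj {a b : ℕ} (ha : a < 1024) (hb : b < 1024) (h : theta cl κ a = theta cl κ b) :
    a = b := by
  have hp : permOf (qel (Nat.land a 15)) = permOf (qel (Nat.land b 15)) := by
    rw [← phi_theta F a, ← phi_theta F b]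
    simp only [h]
  have hlow : Nat.land a 15 = Nat.land b 15 := by
    have h1 := DFunLike.congr_fun hp (pt 1)
    rw [permOf_apply (valid_of_good (qel_mem24 (low_lt a))),
      permOf_apply (valid_of_good (qel_mem24 (low_lt b))), pfun, pfun,
      idx_pt (by norm_num : 1 < 24)] at h1
    have h2 := congrArg idx h1
    rw [idx_pt (pimg_lt (valid_of_good (qel_mem24 (low_lt a))) (by norm_num)),
      idx_pt (pimg_lt (valid_of_good (qel_mem24 (low_lt b))) (by norm_num))] at h2
    have h3 := List.all_eq_true.1 (List.all_eq_true.1 q_hom.2.2.2.2 _ (List.mem_range.2 (low_lt a))) _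
      (List.mem_range.2 (low_lt b))
    simp only [Bool.or_eq_true, Nat.beq_eq, Bool.not_eq_true'] at h3
    rcases h3 with h3 | h3
    · exact h3
    · rw [show qelP.getD (Nat.land a 15) 0 = qel (Nat.land a 15) from rfl,
        show qelP.getD (Nat.land b 15) 0 = qel (Nat.land b 15) from rfl, h2] at h3
      simp at h3
  have hhigh : Nat.shiftRight a 4 = Nat.shiftRight b 4 := by
    unfold theta at h
    rw [hlow] at h
    have h2 := psi_inj F (uCode_fix (high_lt ha)).1 (uCode_fix (high_lt hb)).1 (mul_right_cancel h)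
    by_contra hne
    have h3 := List.all_eq_true.1 (List.all_eq_true.1 u_inj _ (List.mem_range.2 (high_lt ha))) _
      (List.mem_range.2 (high_lt hb))
    simp only [Bool.or_eq_true, Nat.beq_eq, Bool.not_eq_true', h2] at h3
    rcases h3 with h3 | h3
    · exact hne h3
    · simp at h3
  have e : ∀ a, a = Nat.shiftRight a 4 * 16 + Nat.land a 15 := fun a => by
    show a = a >>> 4 * 16 + (a &&& 15)
    rw [Nat.shiftRight_eq_div_pow, show (15 : ℕ) = 2 ^ 4 - 1 by norm_num, Nat.and_two_pow_sub_one_eq_mod]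
    omega
  rw [e a, e b, hlow, hhigh]

/-- the standard subgroup -/
noncomputable def A0 : Subgroup G where
  carrier := {x | ∃ a < 1024, theta cl κ a = x}
  one_mem' := ⟨0, by norm_num, theta_zero F⟩
  mul_mem' := by
    rintro _ _ ⟨a, ha, rfl⟩ ⟨b, hb, rfl⟩
    exact ⟨Nat.xor a b, Nat.xor_lt_two_pow (n := 10) ha hb, theta_xor F ha hb⟩
  inv_mem' := by
    rintro _ ⟨a, ha, rfl⟩
    exact ⟨a, ha, (inv_eq_of_mul_eq_one_right (theta_sq F ha)).symm⟩

theorem mem_A0 {x : G} : x ∈ A0 F ↔ ∃ a < 1024, theta cl κ a = x := Iff.rfl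

theorem A0_le : A0 F ≤ Subgroup.normalizer (V : Set G) := by
  rintro _ ⟨a, -, rfl⟩
  exact theta_mem_N F a

theorem A0_ea : IsElementaryAbelian 2 (A0 F) := by
  refine ⟨⟨⟨?_⟩⟩, ?_⟩
  · rintro ⟨_, a, ha, rfl⟩ ⟨_, b, hb, rfl⟩
    refine Subtype.ext ?_
    show theta cl κ a * theta cl κ b = theta cl κ b * theta cl κ a
    rw [← theta_xor F ha hb, ← theta_xor F hb ha,
      show Nat.xor a b = Nat.xor b a from Nat.xor_comm a b]
  · rintro _ ⟨a, ha, rfl⟩
    rw [sq, theta_sq F ha]

theorem card_A0 : Nat.card (A0 F) = 2 ^ 10 := by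
  let f : Fin 1024 → ↥(A0 F) := fun a => ⟨theta cl κ a, a, a.2, rfl⟩
  have hf : Function.Bijective f := by
    refine ⟨fun a b h => Fin.ext (theta_inj F a.2 b.2 (congrArg Subtype.val h)), ?_⟩
    rintro ⟨_, a, ha, rfl⟩
    exact ⟨⟨a, ha⟩, rfl⟩
  rw [← Nat.card_eq_of_bijective f hf]
  simp

/-- the common fixed codes of the translations -/
theorem fixed_u {c : ℕ} (hc : c < 2048) (h : ∀ a < 16, act (qel a) c = c) : ∃ x < 64, uCode x = c := by
  have h1 := List.all_eq_true.1 u_only c (List.mem_range.2 hc)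
  simp only [Bool.or_eq_true, List.any_eq_true, Bool.not_eq_true'] at h1
  rcases h1 with h1 | ⟨P, hP, h1⟩
  · have h2 : uBits = (List.range 64).foldr (fun x r => Nat.lor (Nat.shiftLeft 1 (uCode x)) r) 0 := rfl
    rw [h2, testBit_foldr_lor (fun x => Nat.shiftLeft 1 (uCode x)) c, List.any_eq_true] at h1
    obtain ⟨x, hx, hb⟩ := h1
    refine ⟨x, List.mem_range.1 hx, ?_⟩
    change (1 <<< uCode x).testBit c = true at hb
    rw [Nat.one_shiftLeft, Nat.testBit_two_pow, decide_eq_true_eq] at hb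
    exact hb
  · obtain ⟨a, ha, rfl⟩ := List.mem_iff_getElem.1 hP
    have := h a (by rw [← q_hom.2.1]; exact ha)
    rw [qel, List.getD_eq_getElem _ _ ha] at this
    rw [this] at h1
    simp at h1

end

end Cfsg.Agent.J4TenModel4
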