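import Mathlib
import Cfsg.Agent.Lib.J4TenModel4
import Cfsg.Agent.Lib.GolayOctadStab

/-!
The standard subgroup of order `2 ^ 10` inside the normaliser of `V`: it is self-centralising, and its
normaliser there is its extension by the stabiliser of the octad.
-/

set_option autoImplicit false
set_option maxRecDepth 100000
set_option linter.unusedSectionVars false
set_option linter.style.haveILetI false

namespace Cfsg.Agent.J4TenInner4

open Cfsg Cfsg.Agent.GolayBasic Cfsg.Agent.GolayPerm Cfsg.Agent.GolayEnum Cfsg.Agent.GolayOctadStab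
open Cfsg.Agent.J4TenCode61 Cfsg.Agent.J4TenCert61 Cfsg.Agent.J4TenData61 Cfsg.Agent.J4TenBits61
open Cfsg.Agent.J4TenModel4
open Cfsg.Agent.GolayModule hiding act
open scoped Pointwise symmDiff

universe u

theorem qel_valid {a : ℕ} (ha : a < 16) : valid (qel a) = true := valid_of_good (qel_mem24 ha)

/-- the translation as an element of M24 -/
noncomputable def qE (a : ℕ) (ha : a < 16) : ↥M24 := ⟨permOf (qel a), permOf_mem_M24 (qel_mem24 ha)⟩

theorem qE_pfix {a : ℕ} (ha : a < 16) : qE a ha ∈ pfix O0 := by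
  intro p hp
  show permOf (qel a) p = p
  have h := List.all_eq_true.1 q_hom.2.2.2.1 _ (qel_mem ha)
  rw [Bool.and_eq_true, List.all_eq_true] at h
  have h2 := h.2 (idx p) (mem_pts.2 (idx_lt p))
  rw [mem_O0 hp, Bool.not_true, Bool.false_or, Nat.beq_eq] at h2
  rw [permOf_apply (qel_valid ha), pfun, h2, pt_idx]

theorem qel_inj {a b : ℕ} (ha : a < 16) (hb : b < 16) (h : permOf (qel a) = permOf (qel b)) : a = b := by
  have h1 := congrArg idx (DFunLike.congr_fun h (pt 1))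
  rw [permOf_apply (qel_valid ha), permOf_apply (qel_valid hb), pfun, pfun,
    idx_pt (by norm_num : 1 < 24), idx_pt (pimg_lt (qel_valid ha) (by norm_num)),
    idx_pt (pimg_lt (qel_valid hb) (by norm_num))] at h1
  have h3 := List.all_eq_true.1 (List.all_eq_true.1 q_hom.2.2.2.2 a (List.mem_range.2 ha)) b
    (List.mem_range.2 hb)
  simp only [Bool.or_eq_true, Nat.beq_eq, Bool.not_eq_true'] at h3
  rcases h3 with h3 | h3
  · exact h3
  · rw [show qelP.getD a 0 = qel a from rfl, show qelP.getD b 0 = qel b from rfl, h1] at h3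
    simp at h3

theorem exists_qE {h : ↥M24} (hh : h ∈ pfix O0) : ∃ a, ∃ ha : a < 16, qE a ha = h := by
  let f : Fin 16 → ↥(pfix O0) := fun a => ⟨qE a a.2, qE_pfix a.2⟩
  have hf : Function.Injective f := fun a b e => Fin.ext (qel_inj a.2 b.2 (by
    have := congrArg (fun x : ↥(pfix O0) => ((x.1 : ↥M24) : Equiv.Perm GolayPt)) e
    exact this))
  obtain ⟨a, e⟩ := (hf.bijective_of_nat_card_le (by rw [card_pfix_O0]; simp)).2 ⟨h, hh⟩
  exact ⟨a, a.2, congrArg Subtype.val e⟩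

theorem to_uBits {x : ℕ} (hx : x < 64) : uBits.testBit (uCode x) = true := by
  have h2 : uBits = (List.range 64).foldr (fun x r => Nat.lor (Nat.shiftLeft 1 (uCode x)) r) 0 := rfl
  rw [h2, testBit_foldr_lor (fun x => Nat.shiftLeft 1 (uCode x)) (uCode x), List.any_eq_true]
  refine ⟨x, List.mem_range.2 hx, ?_⟩
  show (1 <<< uCode x).testBit (uCode x) = true
  rw [Nat.one_shiftLeft, Nat.testBit_two_pow, decide_eq_true rfl]

theorem of_uBits {c : ℕ} (h : uBits.testBit c = true) : ∃ x < 64, uCode x = c := by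
  have h2 : uBits = (List.range 64).foldr (fun x r => Nat.lor (Nat.shiftLeft 1 (uCode x)) r) 0 := rfl
  rw [h2, testBit_foldr_lor (fun x => Nat.shiftLeft 1 (uCode x)) c, List.any_eq_true] at h
  obtain ⟨x, hx, hb⟩ := h
  refine ⟨x, List.mem_range.1 hx, ?_⟩
  change (1 <<< uCode x).testBit c = true at hb
  rw [Nat.one_shiftLeft, Nat.testBit_two_pow, decide_eq_true_eq] at hb
  exact hb

theorem pt_one_notMem : pt 1 ∉ O0 := fun h => by
  have := mem_O0 h
  rw [idx_pt (by norm_num : 1 < 24)] at this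
  exact absurd this (by decide +kernel)

theorem three_in_octad : ∀ p ∈ O0, ∃ q ∈ O0, ∃ r ∈ O0, q ≠ p ∧ r ≠ p ∧ q ≠ r := by decide +kernel

theorem ind_single_add {p q : GolayPt} (h : p ≠ q) : ind {p} + ind {q} = ind {p, q} := by
  rw [← ind_symmDiff]
  congr 1
  ext i
  simp only [Finset.mem_symmDiff, Finset.mem_singleton, Finset.mem_insert]
  grind

theorem add_self_zero (w : GolayPt → ZMod 2) : w + w = 0 := by
  funext p
  exact (by decide : ∀ a : ZMod 2, a + a = 0) _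

theorem lab_lt (p : ℕ) : lab p < 2048 := lt_of_le_of_lt Nat.and_le_right (by norm_num)

theorem dV_lt (a : ℕ) : dV a < 2048 := Nat.xor_lt_two_pow (n := 11) (lab_lt _) (lab_lt _)

theorem combo_lt {n : ℕ} : ∀ (l : List ℕ) (x : ℕ), (∀ b ∈ l, b < 2 ^ n) → combo l x < 2 ^ n
  | [], x, _ => by simp [combo]
  | b :: l, x, h => by
    show ((x &&& 1) * b) ^^^ combo l (x >>> 1) < 2 ^ n
    refine Nat.xor_lt_two_pow ?_ (combo_lt l _ fun c hc => h c (List.mem_cons_of_mem _ hc))
    have hb := h b List.mem_cons_self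
    rcases Nat.mod_two_eq_zero_or_one x with hx | hx <;> simp [Nat.and_one_is_mod, hx, hb]

theorem act_lt (P c : ℕ) : J4TenCode61.act P c < 2048 := by
  refine combo_lt (n := 11) _ _ fun b hb => ?_
  obtain ⟨j, -, rfl⟩ := List.mem_map.1 hb
  exact Nat.xor_lt_two_pow (lab_lt _) (lab_lt _)

theorem mem_normalizer_of_map {G : Type u} [Group G] [Finite G] {A : Subgroup G} {n : G} (h : ∀ x ∈ A, n * x * n⁻¹ ∈ A) :
    n ∈ Subgroup.normalizer (A : Set G) := by
  refine Subgroup.mem_normalizer_iff.2 fun x => ⟨h x, fun hx => ?_⟩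
  let f : ↥A → ↥A := fun y => ⟨_, h y y.2⟩
  have hf : Function.Injective f := fun a b e =>
    Subtype.ext (mul_left_cancel (mul_right_cancel (congrArg Subtype.val e :)))
  obtain ⟨y, e⟩ := (Finite.injective_iff_surjective.1 hf) ⟨_, hx⟩
  have : (y : G) = x := mul_left_cancel (mul_right_cancel (congrArg Subtype.val e :))
  exact this ▸ y.2

section
variable {G : Type u} [Group G] [Finite G] {z : G} {V : Subgroup G}
  {φ : ↥(Subgroup.normalizer (V : Set G)) →* ↥M24} {cl : (GolayPt → ZMod 2) → G} {κ : ↥M24 →* G}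
  (F : Frame z V φ cl κ)
include F

theorem duad_inj {p q r s : GolayPt} (hpq : p ≠ q) (hrs : r ≠ s)
    (h : cl (ind {p, q}) = cl (ind {r, s})) : ({p, q} : Finset GolayPt) = {r, s} := by
  letI : CommGroup ↥V :=
    { V.toGroup with mul_comm := fun a b => Subtype.ext (F.lab.comm a a.2 b b.2) }
  let L : (GolayPt → ZMod 2) →+ Additive ↥V :=
    AddMonoidHom.mk' (fun w => Additive.ofMul ⟨cl w, F.lab.mem w⟩) fun v w =>
      congrArg Additive.ofMul (Subtype.ext (F.lab.map_add v w))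
  have hL : GolayDuadRigid13.IsCocode L := by
    intro t ht
    rw [← F.lab.code t ht]
    exact ⟨fun e => congrArg (fun v : Additive ↥V => (Additive.toMul v).1) e,
      fun e => congrArg Additive.ofMul (Subtype.ext e)⟩
  exact (GolayDuadRigid13.duad_eq_iff hL hpq hrs).1 (congrArg Additive.ofMul (Subtype.ext h))

theorem conj_cl_pair (g : ↥M24) (p q : GolayPt) :
    κ g * cl (ind {p} + ind {q}) * (κ g)⁻¹ =
      cl (ind {(g : Equiv.Perm GolayPt) p} + ind {(g : Equiv.Perm GolayPt) q}) := by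
  by_cases h : p = q
  · subst h
    rw [add_self_zero, add_self_zero, cl_zero F, mul_one, mul_inv_cancel]
  · rw [ind_single_add h, ind_single_add ((g : Equiv.Perm GolayPt).injective.ne h)]
    have := F.lab.equiv ⟨κ g, F.κN g⟩ p q h
    rw [F.κφ] at this
    exact this

theorem A0_comm {x y : G} (hx : x ∈ A0 F) (hy : y ∈ A0 F) : x * y = y * x :=
  congrArg Subtype.val ((A0_ea F).1.is_comm.comm (⟨x, hx⟩ : ↥(A0 F)) ⟨y, hy⟩)

theorem theta_shift {x : ℕ} (hx : x < 64) : theta cl κ (x * 16) = psi cl (uCode x) := by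
  have e1 : Nat.shiftRight (x * 16) 4 = x := by
    show (x * 16) >>> 4 = x
    rw [Nat.shiftRight_eq_div_pow]; omega
  have e2 : Nat.land (x * 16) 15 = 0 := by
    show x * 16 &&& 15 = 0
    rw [show (15 : ℕ) = 2 ^ 4 - 1 by norm_num, Nat.and_two_pow_sub_one_eq_mod]; omega
  rw [theta, e1, e2, show qelP.getD 0 0 = qel 0 from rfl, qel_zero, kp_idP F, mul_one]

theorem u_mem {x : ℕ} (hx : x < 64) : psi cl (uCode x) ∈ A0 F :=
  ⟨x * 16, by omega, theta_shift F hx⟩

theorem theta_mem_V {a : ℕ} (h : theta cl κ a ∈ V) : Nat.land a 15 = 0 := by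
  have h1 := (F.lab.ker ⟨theta cl κ a, theta_mem_N F a⟩).2 h
  refine qel_inj (low_lt a) (by norm_num) ?_
  rw [← phi_theta F a, h1, qel_zero, permOf_idP]
  rfl

theorem psi_mem_A0 {c : ℕ} (hc : c < 2048) (h : psi cl c ∈ A0 F) : uBits.testBit c = true := by
  obtain ⟨a, ha, e⟩ := h
  have h0 : Nat.land a 15 = 0 := theta_mem_V F (e ▸ psi_mem F c)
  rw [theta, h0, show qelP.getD 0 0 = qel 0 from rfl, qel_zero, kp_idP F, mul_one] at e
  rw [← psi_inj F (uCode_fix (high_lt ha)).1 hc e]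
  exact to_uBits (high_lt ha)

theorem kappa_qE {a : ℕ} (ha : a < 16) : κ (qE a ha) = kp κ (qel a) := (kp_eq F _).symm

theorem qel_mem_A0 {a : ℕ} (ha : a < 16) : kp κ (qel a) ∈ A0 F := by
  refine ⟨a, by omega, ?_⟩
  have e1 : Nat.shiftRight a 4 = 0 := by
    show a >>> 4 = 0
    rw [Nat.shiftRight_eq_div_pow]; omega
  have e2 : Nat.land a 15 = a := by
    show a &&& 15 = a
    rw [show (15 : ℕ) = 2 ^ 4 - 1 by norm_num, Nat.and_two_pow_sub_one_eq_mod]; omega
  rw [theta, e1, e2, uCode_zero, psi_zero F, one_mul]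

theorem kappa_mem_A0 {h : ↥M24} (hh : h ∈ pfix O0) : κ h ∈ A0 F := by
  obtain ⟨a, ha, rfl⟩ := exists_qE hh
  rw [kappa_qE F ha]
  exact qel_mem_A0 F ha

theorem theta_split {a : ℕ} (ha : a < 1024) :
    ∃ v ∈ V, v ∈ A0 F ∧ ∃ h ∈ pfix O0, theta cl κ a = v * κ h :=
  ⟨psi cl (uCode (Nat.shiftRight a 4)), psi_mem F _, u_mem F (high_lt ha), qE _ (low_lt a),
    qE_pfix (low_lt a), by rw [kappa_qE F (low_lt a)]; rfl⟩

/-- what is fixed by all translations lies in the subgroup -/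
theorem mem_A0_of_comm {v : G} (hv : v ∈ V) (h : ∀ q ∈ pfix O0, κ q * v = v * κ q) : v ∈ A0 F := by
  obtain ⟨c, hc, rfl⟩ := psi_surj F hv
  have key : ∀ a < 16, J4TenCode61.act (qel a) c = c := by
    intro a ha
    have h1 := qel_psi F ha hc
    rw [← kappa_qE F ha, h _ (qE_pfix ha), mul_inv_cancel_right] at h1
    exact (psi_inj F hc (by
      exact act_lt _ _) h1).symm
  obtain ⟨x, hx, rfl⟩ := fixed_u F hc key
  exact u_mem F hx

/-- `A0` is self-centralising -/
theorem centralizer_A0 : Subgroup.centralizer ((A0 F : Subgroup G) : Set G) = A0 F := by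
  refine le_antisymm (fun n hn => ?_) fun x hx y hy => A0_comm F hy hx
  have hcomm : ∀ x ∈ A0 F, x * n = n * x := fun x hx => Subgroup.mem_centralizer_iff.1 hn x hx
  have hduad : ∀ p ∈ O0, ∀ q ∈ O0, p ≠ q → cl (ind {p, q}) ∈ A0 F := by
    intro p hp q hq hpq
    refine mem_A0_of_comm F (F.lab.mem _) fun h hh => ?_
    have h1 := conj_cl_pair F h p q
    rw [hh p hp, hh q hq, ind_single_add hpq] at h1
    exact mul_inv_eq_iff_eq_mul.1 h1
  obtain ⟨q₀, hq₀, r₀, hr₀, -, -, hne⟩ := three_in_octad (pt 0) (mem_mset.2 (by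
    rw [idx_pt (by norm_num : 0 < 24)]; decide +kernel))
  have ht : cl (ind {q₀, r₀}) ∈ V ∧ cl (ind {q₀, r₀}) ≠ 1 ∧ ¬ IsConj z (cl (ind {q₀, r₀})) :=
    (F.lab.duad _).2 ⟨q₀, r₀, hne, rfl⟩
  have hnN : n ∈ Subgroup.normalizer (V : Set G) :=
    F.tle _ ht.1 ht.2.1 ht.2.2 (Subgroup.mem_centralizer_singleton_iff.2
      (hcomm _ (hduad q₀ hq₀ r₀ hr₀ hne)).symm)
  set σ := (φ ⟨n, hnN⟩ : Equiv.Perm GolayPt) with hσ
  have hpair : ∀ p ∈ O0, ∀ q ∈ O0, p ≠ q → ({σ p, σ q} : Finset GolayPt) = {p, q} := by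
    intro p hp q hq hpq
    refine duad_inj F (σ.injective.ne hpq) hpq ?_
    rw [← F.lab.equiv ⟨n, hnN⟩ p q hpq]
    show n * cl (ind {p, q}) * n⁻¹ = _
    rw [← hcomm _ (hduad p hp q hq hpq), mul_inv_cancel_right]
  have hfix : φ ⟨n, hnN⟩ ∈ pfix O0 := by
    intro p hp
    show σ p = p
    obtain ⟨q, hq, r, hr, hqp, hrp, hqr⟩ := three_in_octad p hp
    have h1 : σ p ∈ ({p, q} : Finset GolayPt) := hpair p hp q hq hqp.symm ▸ Finset.mem_insert_self _ _
    have h2 : σ p ∈ ({p, r} : Finset GolayPt) := hpair p hp r hr hrp.symm ▸ Finset.mem_insert_self _ _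
    simp only [Finset.mem_insert, Finset.mem_singleton] at h1 h2
    rcases h1 with h1 | h1
    · exact h1
    rcases h2 with h2 | h2
    · exact h2
    · exact absurd (h1.symm.trans h2) hqr
  have hk : κ (φ ⟨n, hnN⟩) ∈ A0 F := kappa_mem_A0 F hfix
  have hv : n * (κ (φ ⟨n, hnN⟩))⁻¹ ∈ V := by
    refine (F.lab.ker ⟨_, mul_mem hnN (inv_mem (F.κN _))⟩).1 ?_
    show φ (⟨n, hnN⟩ * (⟨κ (φ ⟨n, hnN⟩), F.κN _⟩)⁻¹) = 1
    rw [map_mul, map_inv, F.κφ, mul_inv_cancel]
  have hvA : n * (κ (φ ⟨n, hnN⟩))⁻¹ ∈ A0 F := by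
    refine mem_A0_of_comm F hv fun h hh => ?_
    have e1 := hcomm _ (kappa_mem_A0 F hh)
    have e2 := A0_comm F (kappa_mem_A0 F hh) (inv_mem hk)
    rw [← mul_assoc, e1, mul_assoc, e2, mul_assoc]
  simpa using mul_mem hvA hk

/-- the element over a member of the octad stabiliser -/
noncomputable def sect (cl : (GolayPt → ZMod 2) → G) (κ : ↥M24 →* G) (g : ↥M24) : G :=
  cl (ind {pt 1} + ind {(g : Equiv.Perm GolayPt) (pt 1)}) * κ g

theorem sect_mul (g h : ↥M24) : sect cl κ (g * h) = sect cl κ g * sect cl κ h := by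
  unfold sect
  set p := pt 1
  have hc := conj_cl_pair F g p ((h : Equiv.Perm GolayPt) p)
  have e : ind {p} + ind {((g * h : ↥M24) : Equiv.Perm GolayPt) p} =
      (ind {p} + ind {(g : Equiv.Perm GolayPt) p}) +
        (ind {(g : Equiv.Perm GolayPt) p} + ind {(g : Equiv.Perm GolayPt) ((h : Equiv.Perm GolayPt) p)}) := by
    rw [add_assoc, ← add_assoc (ind {(g : Equiv.Perm GolayPt) p}), add_self_zero, zero_add]
    rfl
  rw [e, F.lab.map_add, ← hc, map_mul]
  group

theorem sect_mem_N (g : ↥M24) : sect cl κ g ∈ Subgroup.normalizer (V : Set G) :=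
  mul_mem (Subgroup.le_normalizer (F.lab.mem _)) (F.κN g)

theorem phi_sect (g : ↥M24) : φ ⟨sect cl κ g, sect_mem_N F g⟩ = g := by
  have e : (⟨sect cl κ g, sect_mem_N F g⟩ : ↥(Subgroup.normalizer (V : Set G))) =
      ⟨cl (ind {pt 1} + ind {(g : Equiv.Perm GolayPt) (pt 1)}), Subgroup.le_normalizer (F.lab.mem _)⟩ *
        ⟨κ g, F.κN g⟩ := rfl
  rw [e, map_mul, (F.lab.ker _).2 (F.lab.mem _), one_mul, F.κφ]

theorem outside_code {g : ↥M24} (hg : g ∈ soct O0) : ∃ a, ∃ ha : a < 16,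
    (g : Equiv.Perm GolayPt) (pt 1) = (qE a ha : Equiv.Perm GolayPt) (pt 1) ∧
    cl (ind {pt 1} + ind {(g : Equiv.Perm GolayPt) (pt 1)}) = psi cl (dV a) := by
  have hout : (g : Equiv.Perm GolayPt) (pt 1) ∉ O0 := fun h => pt_one_notMem (by
    rw [← mem_soct.1 hg, ← Equiv.Perm.smul_def, Finset.smul_mem_smul_finset_iff] at h
    exact h)
  obtain ⟨v, hv, hvp⟩ := pfix_trans O0_mem pt_one_notMem hout
  obtain ⟨a, ha, rfl⟩ := exists_qE hv
  have hq : (qE a ha : Equiv.Perm GolayPt) (pt 1) = pt (pimg (qel a) 1) := by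
    show permOf (qel a) (pt 1) = _
    rw [permOf_apply (qel_valid ha), pfun, idx_pt (by norm_num : 1 < 24)]
  refine ⟨a, ha, hvp.symm, ?_⟩
  rw [← hvp, hq, dV]
  by_cases h : pt 1 = pt (pimg (qel a) 1)
  · have h1 := congrArg idx h
    rw [idx_pt (by norm_num : 1 < 24), idx_pt (pimg_lt (qel_valid ha) (by norm_num))] at h1
    rw [← h, add_self_zero, cl_zero F, show qelP.getD a 0 = qel a from rfl, ← h1,
      show Nat.xor (lab 1) (lab 1) = 0 from Nat.xor_self _, psi_zero F]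
  · have h1 : 1 ≠ pimg (qel a) 1 := fun e => h (congrArg pt e)
    rw [ind_single_add h, ← psi_duad F (by norm_num) (pimg_lt (qel_valid ha) (by norm_num)) h1]

theorem sect_conj {g : ↥M24} (hg : g ∈ soct O0) {x : G} (hx : x ∈ A0 F) :
    sect cl κ g * x * (sect cl κ g)⁻¹ ∈ A0 F := by
  obtain ⟨b, hb, rfl⟩ := hx
  obtain ⟨v, hv, hvA, h, hh, e⟩ := theta_split F hb
  rw [e, sect]
  obtain ⟨a, ha, -, hd⟩ := outside_code F hg
  rw [hd]
  set d := psi cl (dV a)
  have hdV : d ∈ V := psi_mem F _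
  have hdi : d⁻¹ = d := inv_eq_of_mul_eq_one_right (psi_sq F _)
  -- the image of the part in `V`
  have hgv : κ g * v * (κ g)⁻¹ ∈ V := J4Invol46.mem_conj (F.κN g) hv
  have hgvA : κ g * v * (κ g)⁻¹ ∈ A0 F := by
    refine mem_A0_of_comm F hgv fun q hq => ?_
    have hq' : g⁻¹ * q * g⁻¹⁻¹ ∈ pfix O0 := pfix_conj ((soct O0).inv_mem hg) hq
    have h1 := A0_comm F (kappa_mem_A0 F hq') hvA
    simp only [map_mul, map_inv, inv_inv] at h1
    calc κ q * (κ g * v * (κ g)⁻¹) = κ g * ((κ g)⁻¹ * κ q * κ g * v) * (κ g)⁻¹ := by group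
      _ = κ g * (v * ((κ g)⁻¹ * κ q * κ g)) * (κ g)⁻¹ := by rw [h1]
      _ = _ := by group
  -- the image of the translation
  obtain ⟨c, hc, e'⟩ := exists_qE (pfix_conj hg hh)
  have hh' : κ g * κ h * (κ g)⁻¹ = kp κ (qel c) := by
    rw [← map_inv, ← map_mul, ← map_mul, ← e', kappa_qE F hc]
  have hdV' : dV a < 2048 := dV_lt a
  have hcd : d * kp κ (qel c) * d⁻¹ ∈ A0 F := by
    have h1 := qel_psi F hc hdV'
    have h2 : d * kp κ (qel c) * d⁻¹ = psi cl (dEl c (dV a)) * kp κ (qel c) := by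
      rw [dEl, psi_xor F, ← h1, hdi]
      calc d * kp κ (qel c) * d = d * (kp κ (qel c) * d * (kp κ (qel c))⁻¹) * kp κ (qel c) := by group
        _ = _ := by rw [F.lab.comm _ hdV _ (J4Invol46.mem_conj (kp_mem F _) hdV)]
    rw [h2]
    obtain ⟨x, hx, ex⟩ := of_uBits (List.all_eq_true.1 (List.all_eq_true.1 d_norm a
      (List.mem_range.2 ha)) c (List.mem_range.2 hc))
    rw [← ex]
    exact mul_mem (u_mem F hx) (qel_mem_A0 F hc)
  have h3 : d * (κ g * v * (κ g)⁻¹) * d⁻¹ = κ g * v * (κ g)⁻¹ := by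
    rw [F.lab.comm _ hdV _ hgv, mul_inv_cancel_right]
  rw [show d * κ g * (v * κ h) * (d * κ g)⁻¹
      = (d * (κ g * v * (κ g)⁻¹) * d⁻¹) * (d * (κ g * κ h * (κ g)⁻¹) * d⁻¹) by group, h3, hh']
  exact mul_mem hgvA hcd

/-- the complement -/
noncomputable def B0 : Subgroup G :=
  (((MonoidHom.mk' (sect cl κ) (sect_mul F)).comp (soct O0).subtype)).range

theorem mem_B0 {x : G} : x ∈ B0 F ↔ ∃ g ∈ soct O0, sect cl κ g = x :=
  ⟨fun ⟨g, e⟩ => ⟨g.1, g.2, e⟩, fun ⟨g, hg, e⟩ => ⟨⟨g, hg⟩, e⟩⟩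

theorem B0_le : B0 F ≤ Subgroup.normalizer ((A0 F : Subgroup G) : Set G) ⊓
    Subgroup.normalizer (V : Set G) := by
  intro x hx
  obtain ⟨g, hg, rfl⟩ := (mem_B0 F).1 hx
  exact ⟨mem_normalizer_of_map fun y hy => sect_conj F hg hy, sect_mem_N F g⟩

theorem card_B0 : Nat.card ↥(B0 F) = 322560 := by
  rw [← card_soct O0_mem]
  refine (Nat.card_congr (MonoidHom.ofInjective ?_).toEquiv).symm
  intro a b e
  have h1 := phi_sect F a.1
  have e' : (⟨sect cl κ a.1, sect_mem_N F a.1⟩ : ↥(Subgroup.normalizer (V : Set G))) =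
      ⟨sect cl κ b.1, sect_mem_N F b.1⟩ := Subtype.ext e
  rw [e', phi_sect F] at h1
  exact Subtype.ext h1.symm

theorem B0_inf : B0 F ⊓ A0 F = ⊥ := by
  rw [eq_bot_iff]
  intro x hx
  obtain ⟨hxB, b, hb, hbx⟩ := hx
  obtain ⟨g, hg, rfl⟩ := (mem_B0 F).1 hxB
  have hgq : g = qE (Nat.land b 15) (low_lt b) := by
    apply Subtype.ext
    show (g : Equiv.Perm GolayPt) = permOf (qel (Nat.land b 15))
    rw [← phi_theta F b]
    conv_lhs => rw [← phi_sect F g]
    simp only [hbx]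
  obtain ⟨a, ha, hga, hd⟩ := outside_code F hg
  have hdA : psi cl (dV a) ∈ A0 F := by
    rw [← hd]
    have hk : κ g ∈ A0 F := kappa_mem_A0 F (hgq ▸ qE_pfix _)
    have hs : sect cl κ g ∈ A0 F := ⟨b, hb, hbx⟩
    simpa [sect] using mul_mem hs (inv_mem hk)
  have hdlt : dV a < 2048 := dV_lt a
  have h0 := List.all_eq_true.1 d_out a (List.mem_range.2 ha)
  rw [psi_mem_A0 F hdlt hdA, Bool.not_true, Bool.or_false, Nat.beq_eq] at h0
  subst h0
  have hg1 : (g : Equiv.Perm GolayPt) (pt 1) = pt 1 := by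
    rw [hga]
    show permOf (qel 0) (pt 1) = pt 1
    rw [qel_zero, permOf_idP]
    rfl
  have : g = 1 := pfix_semireg O0_mem (hgq ▸ qE_pfix _) pt_one_notMem hg1
  rw [Subgroup.mem_bot, this, sect, map_one, mul_one]
  simp [add_self_zero, cl_zero F]

/-- the normaliser inside the normaliser of `V` -/
theorem card_inner : Nat.card ↥(Subgroup.normalizer ((A0 F : Subgroup G) : Set G) ⊓
    Subgroup.normalizer (V : Set G)) = 2 ^ 10 * 322560 := by
  classical
  set H := Subgroup.normalizer ((A0 F : Subgroup G) : Set G) ⊓ Subgroup.normalizer (V : Set G) with hH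
  refine le_antisymm ?_ ?_
  · let f : ↥H →* ↥M24 := φ.comp (Subgroup.inclusion inf_le_right)
    have hrange : f.range ≤ soct O0 := by
      rintro _ ⟨⟨n, hnA, hnN⟩, rfl⟩
      show φ ⟨n, hnN⟩ ∈ soct O0
      set g := φ ⟨n, hnN⟩ with hg
      have hnorm : ∀ h ∈ pfix O0, g * h * g⁻¹ ∈ pfix O0 := by
        intro h hh
        obtain ⟨b, hb, e⟩ := (Subgroup.mem_normalizer_iff.1 hnA _).1 (kappa_mem_A0 F hh)
        have h1 : φ ⟨theta cl κ b, theta_mem_N F b⟩ = g * h * g⁻¹ := by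
          rw [show (⟨theta cl κ b, theta_mem_N F b⟩ : ↥(Subgroup.normalizer (V : Set G))) =
            ⟨n, hnN⟩ * ⟨κ h, F.κN h⟩ * ⟨n, hnN⟩⁻¹ from Subtype.ext e, map_mul, map_mul, map_inv, F.κφ]
        rw [← h1, show φ ⟨theta cl κ b, theta_mem_N F b⟩ = qE (Nat.land b 15) (low_lt b) from
          Subtype.ext (phi_theta F b)]
        exact qE_pfix _
      rw [mem_soct]
      refine Finset.eq_of_subset_of_card_le ?_ (by rw [Finset.card_smul_finset])
      intro q hq
      obtain ⟨p, hp, rfl⟩ := Finset.mem_smul_finset.1 hq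
      by_contra hout
      have hh := qE_pfix (a := 1) (by norm_num)
      set h := qE 1 (by norm_num) with hdef
      have h2 : g⁻¹ * h * g ∈ pfix O0 := by
        -- conjugation by `g` permutes the fixer
        let e : ↥(pfix O0) → ↥(pfix O0) := fun y => ⟨_, hnorm y.1 y.2⟩
        have he : Function.Injective e := fun a b ee =>
          Subtype.ext (mul_left_cancel (mul_right_cancel (congrArg Subtype.val ee :)))
        obtain ⟨y, hy⟩ := (Finite.injective_iff_surjective.1 he) ⟨h, hh⟩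
        have hy' : g * y.1 * g⁻¹ = h := congrArg Subtype.val hy
        rw [← hy']
        simpa [mul_assoc] using y.2
      have h3 := h2 p hp
      simp only [Subgroup.coe_mul, Subgroup.coe_inv, Equiv.Perm.mul_apply, Equiv.Perm.inv_eq_iff_eq] at h3
      have h4 : h = 1 := pfix_semireg O0_mem hh hout (by simpa [Equiv.Perm.smul_def] using h3)
      have h5 := congrArg (fun x : ↥M24 => (x : Equiv.Perm GolayPt)) h4
      simp only [hdef, qE, Subgroup.coe_one] at h5
      have h6 := qel_inj (a := 1) (b := 0) (by norm_num) (by norm_num) (by rw [h5, qel_zero, permOf_idP])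
      exact absurd h6 (by norm_num)
    let s : Finset ℕ := (Finset.range 2048).filter fun v =>
      (List.range 4).all (fun k => uBits.testBit (dEl (2 ^ k) v)) = true
    have hs : s.card ≤ 1024 := by
      refine card_le_of_popLe 1024 _ stab_count s fun v hv => ?_
      obtain ⟨hv1, hv2⟩ := Finset.mem_filter.1 hv
      rw [testBit_foldr_lor (fun v => if (List.range 4).all (fun k => uBits.testBit (dEl (2 ^ k) v))
        then Nat.shiftLeft 1 v else 0), List.any_eq_true]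
      refine ⟨v, List.mem_range.2 (Finset.mem_range.1 hv1), ?_⟩
      rw [if_pos hv2]
      show (1 <<< v).testBit v = true
      rw [Nat.one_shiftLeft, Nat.testBit_two_pow, decide_eq_true rfl]
    have hker : Nat.card ↥f.ker ≤ 1024 := by
      have key : ∀ x : ↥f.ker, ∃ c : {c // c ∈ s}, psi cl c.1 = ((x.1 : ↥H) : G) := by
        rintro ⟨⟨n, hnA, hnN⟩, hx⟩
        have hnV : n ∈ V := (F.lab.ker ⟨n, hnN⟩).1 hx
        obtain ⟨c, hc, rfl⟩ := psi_surj F hnV
        refine ⟨⟨c, Finset.mem_filter.2 ⟨Finset.mem_range.2 hc, List.all_eq_true.2 fun k hk => ?_⟩⟩, rfl⟩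
        have hk16 : 2 ^ k < 16 := Nat.pow_lt_pow_right (by norm_num : 1 < 2) (List.mem_range.1 hk) |>.trans_le (by norm_num)
        have h1 := (Subgroup.mem_normalizer_iff.1 hnA _).1 (qel_mem_A0 F hk16)
        have h2 : psi cl (dEl (2 ^ k) c) = psi cl c * kp κ (qel (2 ^ k)) * (psi cl c)⁻¹ *
            (kp κ (qel (2 ^ k)))⁻¹ := by
          rw [dEl, psi_xor F, ← qel_psi F hk16 hc, inv_eq_of_mul_eq_one_right (psi_sq F c),
            F.lab.comm _ (J4Invol46.mem_conj (kp_mem F _) hnV) _ hnV]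
          group
        refine psi_mem_A0 F (Nat.xor_lt_two_pow (n := 11) (act_lt _ c) hc) ?_
        rw [h2]
        exact mul_mem h1 (inv_mem (qel_mem_A0 F hk16))
      choose c hc using key
      refine (Nat.card_le_card_of_injective c fun a b e => ?_).trans (by simpa using hs)
      exact Subtype.ext (Subtype.ext (by rw [← hc a, ← hc b, e]))
    have h1 := Subgroup.card_eq_card_quotient_mul_card_subgroup f.ker
    rw [Nat.card_congr (QuotientGroup.quotientKerEquivRange f).toEquiv] at h1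
    have h2 : Nat.card ↥f.range ≤ 322560 := (Subgroup.card_le_of_le hrange).trans (card_soct O0_mem).le
    rw [h1, Nat.mul_comm]
    exact Nat.mul_le_mul hker h2
  · let m : ↥(A0 F) × ↥(B0 F) → ↥H := fun x => ⟨x.1.1 * x.2.1,
      mul_mem ⟨Subgroup.le_normalizer x.1.2, A0_le F x.1.2⟩ (B0_le F x.2.2)⟩
    have hm : Function.Injective m := by
      intro a b e
      have e' : a.1.1 * a.2.1 = b.1.1 * b.2.1 := congrArg Subtype.val e
      have h1 : b.1.1⁻¹ * a.1.1 = b.2.1 * a.2.1⁻¹ := by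
        rw [inv_mul_eq_iff_eq_mul, ← mul_assoc, eq_mul_inv_iff_mul_eq, e']
      have h2 : b.1.1⁻¹ * a.1.1 ∈ B0 F ⊓ A0 F :=
        Subgroup.mem_inf.2 ⟨h1 ▸ (B0 F).mul_mem b.2.2 ((B0 F).inv_mem a.2.2),
          (A0 F).mul_mem ((A0 F).inv_mem b.1.2) a.1.2⟩
      rw [B0_inf F, Subgroup.mem_bot, inv_mul_eq_one] at h2
      rw [← h2] at e'
      exact Prod.ext (Subtype.ext h2.symm) (Subtype.ext (mul_left_cancel e'))
    have := Nat.card_le_card_of_injective m hm
    rwa [Nat.card_prod, card_A0 F, card_B0 F] at this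

end

end Cfsg.Agent.J4TenInner4
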