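import Mathlib
import Cfsg.Agent.Lib.J4TenInner4

/-!
The orbits of the normaliser inside `N(V)` on the standard subgroup of order `2 ^ 10`.
-/

set_option autoImplicit false
set_option maxRecDepth 100000
set_option linter.unusedSectionVars false

namespace Cfsg.Agent.J4TenOrbit4

open Cfsg Cfsg.Agent.GolayBasic Cfsg.Agent.GolayPerm Cfsg.Agent.GolayEnum
open Cfsg.Agent.J4TenCode61 Cfsg.Agent.J4TenCert61 Cfsg.Agent.J4TenData61
open Cfsg.Agent.J4TenModel4 Cfsg.Agent.J4TenInner4
open Cfsg.Agent.GolayModule hiding act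

universe u

theorem low_of_lt {a : ℕ} (ha : a < 16) : Nat.shiftRight a 4 = 0 ∧ Nat.land a 15 = a := by
  constructor
  · show a >>> 4 = 0
    rw [Nat.shiftRight_eq_div_pow]; omega
  · show a &&& 15 = a
    rw [show (15 : ℕ) = 2 ^ 4 - 1 by norm_num, Nat.and_two_pow_sub_one_eq_mod]; omega

theorem testBit_orbBits (a : ℕ) : ∀ l : List (ℕ × ℕ × ℕ),
    (orbBits l).testBit a = true ↔ ∃ e ∈ l, e.1 = a
  | [] => by simp [orbBits]
  | e :: l => by
    show ((1 <<< e.1) ||| orbBits l).testBit a = true ↔ _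
    rw [Nat.testBit_or, Bool.or_eq_true, testBit_orbBits a l, Nat.one_shiftLeft, Nat.testBit_two_pow,
      decide_eq_true_eq]
    simp

theorem orb_nonzero : (orbBits orbT).testBit 0 = false ∧ (orbBits orbU).testBit 0 = false ∧
    (orbBits orbZ).testBit 0 = false ∧ (orbBits orbS).testBit 0 = false := by decide +kernel

/-- the six maps are the six elements -/
theorem maps_mem : ∀ i < 2, (cgP.getD i 0, actMaps.getD i []) ∈ List.zip cgP actMaps := by
  decide +kernel

theorem cg_mem : ∀ i < 2, cgP.getD i 0 ∈ gsP ++ cgP ++ qelP := by decide +kernel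

section
variable {G : Type u} [Group G] [Finite G] {z : G} {V : Subgroup G}
  {φ : ↥(Subgroup.normalizer (V : Set G)) →* ↥M24} {cl : (GolayPt → ZMod 2) → G} {κ : ↥M24 →* G}
  (F : Frame z V φ cl κ)
include F

/-- the normaliser inside the normaliser of `V` -/
noncomputable abbrev Hin : Subgroup G :=
  Subgroup.normalizer ((A0 F : Subgroup G) : Set G) ⊓ Subgroup.normalizer (V : Set G)

theorem theta_low {a : ℕ} (ha : a < 16) : theta cl κ a = kp κ (qel a) := by
  rw [theta, (low_of_lt ha).1, (low_of_lt ha).2, uCode_zero, psi_zero F, one_mul]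

theorem theta_high {a : ℕ} (h : Nat.land a 15 = 0) :
    theta cl κ a = psi cl (uCode (Nat.shiftRight a 4)) := by
  rw [theta, h, show qelP.getD 0 0 = qel 0 from rfl, qel_zero, kp_idP F, mul_one]

theorem psi_conj_qel {c d : ℕ} (hc : c < 16) (hd : d < 2048) :
    psi cl d * kp κ (qel c) * (psi cl d)⁻¹ = psi cl (dEl c d) * kp κ (qel c) := by
  have hdV : psi cl d ∈ V := psi_mem F _
  rw [dEl, psi_xor F, ← qel_psi F hc hd, inv_eq_of_mul_eq_one_right (psi_sq F d)]
  calc psi cl d * kp κ (qel c) * psi cl d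
      = psi cl d * (kp κ (qel c) * psi cl d * (kp κ (qel c))⁻¹) * kp κ (qel c) := by group
    _ = _ := by rw [F.lab.comm _ hdV _ (J4Invol46.mem_conj (kp_mem F _) hdV)]

theorem mem_Hin_of {n : G} (hn : n ∈ Subgroup.normalizer (V : Set G))
    (h : ∀ a < 1024, n * theta cl κ a * n⁻¹ ∈ A0 F) : n ∈ Hin F := by
  refine ⟨mem_normalizer_of_map ?_, hn⟩
  rintro _ ⟨a, ha, rfl⟩
  exact h a ha

/-- a map given on the units is conjugation -/
theorem gen_of_units {n : G} {L : List ℕ} (hn : n ∈ Subgroup.normalizer (V : Set G))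
    (hu : ∀ k < 10, L.getD k 0 < 1024 ∧ n * theta cl κ (2 ^ k) * n⁻¹ = theta cl κ (L.getD k 0)) :
    n ∈ Hin F ∧ ∀ a < 1024, n * theta cl κ a * n⁻¹ = theta cl κ (combo L a) := by
  have key : ∀ a < 1024, combo L a < 1024 ∧ n * theta cl κ a * n⁻¹ = theta cl κ (combo L a) := by
    refine J4TenRigid30.bits_induction (n := 10) bits10
      (fun a => combo L a < 1024 ∧ n * theta cl κ a * n⁻¹ = theta cl κ (combo L a)) ?_ ?_ ?_
    · rw [combo_zero, theta_zero F]
      exact ⟨by norm_num, by simp⟩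
    · intro k hk
      rw [combo_two_pow]
      exact hu k hk
    · intro a ha b hb h1 h2
      have e : combo L (Nat.xor a b) = Nat.xor (combo L a) (combo L b) := combo_xor _ _ _
      rw [e, theta_xor F ha hb, theta_xor F h1.1 h2.1, ← h1.2, ← h2.2]
      exact ⟨Nat.xor_lt_two_pow (n := 10) h1.1 h2.1, by group⟩
  exact ⟨mem_Hin_of F hn fun a ha => ⟨_, (key a ha).1, (key a ha).2.symm⟩, fun a ha => (key a ha).2⟩

theorem gen_exists {i : ℕ} (hi : i < 6) :
    ∃ n ∈ Hin F, ∀ a < 1024, n * theta cl κ a * n⁻¹ = theta cl κ (combo (actMaps.getD i []) a) := by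
  by_cases h2 : i < 2
  · -- lifts of the generators of the point stabiliser
    set P := cgP.getD i 0 with hP
    have hg : good P = true := List.all_eq_true.1 gens_ok _ (cg_mem i h2)
    have hv := valid_of_good hg
    have hm := permOf_mem_M24 hg
    have hall := List.all_eq_true.1 maps_comp _ (maps_mem i h2)
    refine ⟨kp κ P, gen_of_units F (kp_mem F P) fun k hk => ?_⟩
    have h := List.all_eq_true.1 hall k (List.mem_range.2 hk)
    simp only [Bool.and_eq_true, Nat.blt_eq] at h
    obtain ⟨hlt, h⟩ := h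
    refine ⟨hlt, ?_⟩
    set im := (actMaps.getD i []).getD k 0 with him
    by_cases h4 : k < 4
    · rw [if_pos h4] at h
      simp only [Bool.and_eq_true, Nat.blt_eq, Nat.beq_eq] at h
      obtain ⟨h16, he⟩ := h
      have hk16 : 2 ^ k < 16 := (Nat.pow_lt_pow_right (by norm_num : 1 < 2) h4).trans_le (by norm_num)
      rw [theta_low F hk16, theta_low F h16]
      have mk := qel_mem24 hk16
      have mi := qel_mem24 h16
      have e : (⟨permOf P, hm⟩ : ↥M24) * qE (2 ^ k) hk16 = qE im h16 * ⟨permOf P, hm⟩ := by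
        refine Subtype.ext (Equiv.ext fun p => ?_)
        show permOf P (permOf (qel (2 ^ k)) p) = permOf (qel im) (permOf P p)
        have hp := idx_lt p
        rw [permOf_apply hv, permOf_apply (qel_valid hk16), permOf_apply (qel_valid h16),
          permOf_apply hv, pfun, pfun, pfun, pfun, idx_pt (pimg_lt (qel_valid hk16) hp),
          idx_pt (pimg_lt hv hp), ← pimg_pcomp _ _ hp, ← pimg_pcomp _ _ hp]
        exact congrArg (fun R => pt (pimg R (idx p))) he
      have e2 := congrArg κ e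
      rw [map_mul, map_mul, kappa_qE F hk16, kappa_qE F h16, ← kp_eq F hm] at e2
      rw [e2, mul_inv_cancel_right]
    · rw [if_neg h4] at h
      simp only [Bool.and_eq_true, Nat.beq_eq] at h
      obtain ⟨hl0, he⟩ := h
      have hx : 2 ^ (k - 4) < 64 :=
        (Nat.pow_lt_pow_right (by norm_num : 1 < 2) (by omega : k - 4 < 6)).trans_le (by norm_num)
      have e : 2 ^ k = 2 ^ (k - 4) * 16 := by
        rw [show (16 : ℕ) = 2 ^ 4 by norm_num, ← pow_add]
        congr 1
        omega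
      rw [e, theta_shift F hx, theta_high F hl0, kp_psi F hv hm (uCode_fix hx).1, he]
  · -- the four elements of `V`
    obtain ⟨j, rfl⟩ : ∃ j, i = 2 + j := ⟨i - 2, by omega⟩
    have hj : j < 4 := by omega
    have hall := List.all_eq_true.1 maps_dual.1 j (List.mem_range.2 hj)
    refine ⟨psi cl (dV (2 ^ j)), gen_of_units F (Subgroup.le_normalizer (psi_mem F _)) fun k hk => ?_⟩
    have h := List.all_eq_true.1 hall k (List.mem_range.2 hk)
    simp only [Bool.and_eq_true, Nat.blt_eq] at h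
    obtain ⟨hlt, h⟩ := h
    refine ⟨hlt, ?_⟩
    by_cases h4 : k < 4
    · rw [if_pos h4] at h
      simp only [Bool.and_eq_true, Nat.beq_eq] at h
      obtain ⟨hl, he⟩ := h
      have hk16 : 2 ^ k < 16 := (Nat.pow_lt_pow_right (by norm_num : 1 < 2) h4).trans_le (by norm_num)
      rw [theta_low F hk16, psi_conj_qel F hk16 (dV_lt _), he]
      unfold theta
      rw [hl]
    · rw [if_neg h4, Nat.beq_eq] at h
      have hx : 2 ^ (k - 4) < 64 :=
        (Nat.pow_lt_pow_right (by norm_num : 1 < 2) (by omega : k - 4 < 6)).trans_le (by norm_num)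
      have e : 2 ^ k = 2 ^ (k - 4) * 16 := by
        rw [show (16 : ℕ) = 2 ^ 4 by norm_num, ← pow_add]
        congr 1
        omega
      rw [h, e, theta_shift F hx, F.lab.comm _ (psi_mem F _) _ (psi_mem F _), mul_inv_cancel_right]

/-- every member of an orbit table is conjugate to the first -/
theorem orb_conj (l : List (ℕ × ℕ × ℕ)) (h : orbOK l = true) : ∀ j < l.length,
    ∃ n ∈ Hin F, n * theta cl κ (l.getD 0 (0, 0, 0)).1 * n⁻¹ = theta cl κ (l.getD j (0, 0, 0)).1 := by
  intro j
  induction j using Nat.strong_induction_on with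
  | _ j ih =>
    intro hj
    have hmem : (l.getD j (0, 0, 0), j) ∈ l.zipIdx := by
      rw [List.mk_mem_zipIdx_iff_getElem?, List.getD_eq_getElem _ _ hj, List.getElem?_eq_getElem hj]
    have he := List.all_eq_true.1 h _ hmem
    simp only [Bool.and_eq_true, Bool.or_eq_true, Nat.beq_eq, Nat.blt_eq] at he
    obtain ⟨-, rfl | ⟨⟨hp, hg⟩, hv⟩⟩ := he
    · exact ⟨1, one_mem _, by simp⟩
    · obtain ⟨m, hm, hm'⟩ := gen_exists F hg
      obtain ⟨n, hn, hn'⟩ := ih _ hp (hp.trans hj)
      have hlt : (l.getD (l.getD j (0, 0, 0)).2.1 (0, 0, 0)).1 < 1024 := by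
        have hp' := hp.trans hj
        have hmem' : (l.getD (l.getD j (0, 0, 0)).2.1 (0, 0, 0), (l.getD j (0, 0, 0)).2.1) ∈ l.zipIdx := by
          rw [List.mk_mem_zipIdx_iff_getElem?, List.getD_eq_getElem _ _ hp',
            List.getElem?_eq_getElem hp']
        have := List.all_eq_true.1 h _ hmem'
        simp only [Bool.and_eq_true, Nat.blt_eq] at this
        exact this.1
      refine ⟨m * n, mul_mem hm hn, ?_⟩
      rw [hv, ← hm' _ hlt, ← hn']
      group

theorem orb_rel {l : List (ℕ × ℕ × ℕ)} (h : orbOK l = true) {a b : ℕ}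
    (ha : (orbBits l).testBit a = true) (hb : (orbBits l).testBit b = true) :
    ∃ n ∈ Hin F, n * theta cl κ a * n⁻¹ = theta cl κ b := by
  obtain ⟨e, he, rfl⟩ := (testBit_orbBits a l).1 ha
  obtain ⟨e', he', rfl⟩ := (testBit_orbBits b l).1 hb
  obtain ⟨i, hi, rfl⟩ := List.mem_iff_getElem.1 he
  obtain ⟨j, hj, rfl⟩ := List.mem_iff_getElem.1 he'
  obtain ⟨n, hn, e1⟩ := orb_conj F l h i hi
  obtain ⟨m, hm, e2⟩ := orb_conj F l h j hj
  rw [List.getD_eq_getElem _ _ hi] at e1
  rw [List.getD_eq_getElem _ _ hj] at e2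
  refine ⟨m * n⁻¹, mul_mem hm (inv_mem hn), ?_⟩
  rw [← e1, ← e2]
  group

theorem orb_T {a : ℕ} (h : (orbBits orbT).testBit a = true) :
    theta cl κ a ∈ V ∧ theta cl κ a ≠ 1 ∧ ¬ IsConj z (theta cl κ a) := by
  obtain ⟨e, he, rfl⟩ := (testBit_orbBits a _).1 h
  have h1 := List.all_eq_true.1 orbits_sizes.2.2.2.2.2.1 e he
  simp only [Bool.and_eq_true, Nat.beq_eq, List.any_eq_true, List.mem_range, Bool.not_eq_true'] at h1
  obtain ⟨h0, p, hp, q, hq, hpq, hc⟩ := h1
  have hne : p ≠ q := fun e => by subst e; simp at hpq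
  rw [theta_high F h0, hc, psi_duad F hp hq hne]
  exact (F.lab.duad _).2 ⟨pt p, pt q, fun e => hne (by
    rw [← idx_pt hp, ← idx_pt hq, e]), rfl⟩

theorem orb_U {a : ℕ} (h : (orbBits orbU).testBit a = true) (ha : a < 1024) :
    theta cl κ a ∈ V ∧ IsConj z (theta cl κ a) := by
  obtain ⟨e, he, rfl⟩ := (testBit_orbBits a _).1 h
  have h1 := List.all_eq_true.1 orbits_sizes.2.2.2.2.2.2.1 e he
  simp only [Bool.and_eq_true, Nat.beq_eq] at h1
  obtain ⟨h0, hall⟩ := h1
  have hV : theta cl κ e.1 ∈ V := by rw [theta_high F h0]; exact psi_mem F _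
  refine ⟨hV, ?_⟩
  by_contra hz
  have h1' : theta cl κ e.1 ≠ 1 := fun e1 => by
    rw [theta_inj F ha (by norm_num) (e1.trans (theta_zero F).symm)] at h
    exact Bool.false_ne_true (orb_nonzero.2.1 ▸ h)
  obtain ⟨p, q, hpq, hd⟩ := (F.lab.duad _).1 ⟨hV, h1', hz⟩
  have hd' := hd
  rw [← pt_idx p, ← pt_idx q, ← psi_duad F (idx_lt p) (idx_lt q) (fun e => hpq (idx_inj e)),
    theta_high F h0] at hd'
  have h2 := List.all_eq_true.1 (List.all_eq_true.1 hall _ (List.mem_range.2 (idx_lt p))) _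
    (List.mem_range.2 (idx_lt q))
  simp only [Bool.or_eq_true, Nat.beq_eq, Bool.not_eq_true'] at h2
  rcases h2 with h2 | h2
  · exact hpq (idx_inj h2)
  · have he' : Nat.xor (lab (idx p)) (lab (idx q)) = uCode (Nat.shiftRight e.1 4) :=
      psi_inj F (Nat.xor_lt_two_pow (n := 11) (lab_lt _) (lab_lt _)) (uCode_fix (high_lt ha)).1 hd'
    rw [he'] at h2
    simp at h2

theorem orb_out {a : ℕ} (h : (orbBits orbZ).testBit a = true ∨ (orbBits orbS).testBit a = true) :
    theta cl κ a ∉ V := by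
  intro hV
  have h0 := theta_mem_V F hV
  rcases h with h | h <;> obtain ⟨e, he, rfl⟩ := (testBit_orbBits a _).1 h
  · have := List.all_eq_true.1 orbits_sizes.2.2.2.2.2.2.2.2.1 e he
    rw [h0] at this
    exact absurd this (by decide)
  · have := List.all_eq_true.1 orbits_sizes.2.2.2.2.2.2.2.2.2 e he
    rw [h0] at this
    exact absurd this (by decide)

theorem cover {a : ℕ} (ha : a < 1024) (h0 : a ≠ 0) :
    (orbBits orbT).testBit a = true ∨ (orbBits orbU).testBit a = true ∨
      (orbBits orbZ).testBit a = true ∨ (orbBits orbS).testBit a = true := by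
  have h := List.all_eq_true.1 orbits_sizes.2.2.2.2.1 a (List.mem_range.2 ha)
  simp only [Bool.or_eq_true, Nat.beq_eq] at h
  tauto

end

end Cfsg.Agent.J4TenOrbit4
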