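import Mathlib
import Cfsg.Agent.Lib.J4TenOrbit4
import Cfsg.Agent.Lib.GolayInvolutions

/-!
Fusion in the standard subgroup of order `2 ^ 10`: the two orbits of its normaliser, of lengths 155 and
868, and the order of the normaliser.
-/

set_option autoImplicit false
set_option maxRecDepth 100000
set_option maxHeartbeats 400000
set_option linter.unusedSectionVars false

namespace Cfsg.Agent.J4TenCount4

open Cfsg Cfsg.Agent.GolayBasic Cfsg.Agent.GolayPerm Cfsg.Agent.GolayEnum Cfsg.Agent.GolayOctadStab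
open Cfsg.Agent.J4TenCode61 Cfsg.Agent.J4TenCert61 Cfsg.Agent.J4TenData61
open Cfsg.Agent.J4TenModel4 Cfsg.Agent.J4TenInner4 Cfsg.Agent.J4TenOrbit4
open Cfsg.Agent.GolayModule hiding act
open scoped Pointwise symmDiff

universe u

section Generic
variable {G : Type u} [Group G]

/-- the classes under conjugation by a subgroup -/
def orb (K : Subgroup G) (t : G) : Set G := {v | ∃ n ∈ K, n * t * n⁻¹ = v}

theorem card_eq_orb_mul [Finite G] (K : Subgroup G) (t : G) :
    Nat.card ↥K = (orb K t).ncard * Nat.card ↥(K ⊓ Subgroup.centralizer ({t} : Set G)) := by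
  classical
  set s := (Subgroup.centralizer ({t} : Set G)).subgroupOf K with hs
  have key : ∀ a b : ↥K, a⁻¹ * b ∈ s ↔ (a : G) * t * (a : G)⁻¹ = (b : G) * t * (b : G)⁻¹ := by
    intro a b
    rw [hs, Subgroup.mem_subgroupOf, Subgroup.mem_centralizer_singleton_iff, Subgroup.coe_mul,
      Subgroup.coe_inv]
    constructor <;> intro h
    · calc (a : G) * t * (a : G)⁻¹ = a * (t * ((a : G)⁻¹ * b)) * (b : G)⁻¹ := by group
        _ = a * ((a : G)⁻¹ * b * t) * (b : G)⁻¹ := by rw [h]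
        _ = _ := by group
    · calc (a : G)⁻¹ * b * t = (a : G)⁻¹ * ((b : G) * t * (b : G)⁻¹) * b := by group
        _ = (a : G)⁻¹ * ((a : G) * t * (a : G)⁻¹) * b := by rw [h]
        _ = t * ((a : G)⁻¹ * b) := by group
  let f : ↥K ⧸ s → ↥(orb K t) := Quotient.lift
    (fun a => ⟨(a : G) * t * (a : G)⁻¹, a, a.2, rfl⟩)
    fun a b h => Subtype.ext ((key a b).1 (QuotientGroup.leftRel_apply.1 h))
  have hf : Function.Bijective f := by
    constructor
    · rintro ⟨a⟩ ⟨b⟩ h
      exact Quotient.sound (QuotientGroup.leftRel_apply.2 ((key a b).2 (congrArg Subtype.val h)))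
    · rintro ⟨_, n, hn, rfl⟩
      exact ⟨Quotient.mk'' ⟨n, hn⟩, rfl⟩
  rw [Subgroup.card_eq_card_quotient_mul_card_subgroup s, Nat.card_eq_of_bijective f hf,
    Nat.card_coe_set_eq]
  congr 1
  refine Nat.card_congr (((Equiv.subtypeEquivRight fun x => ?_).trans
    (Equiv.subtypeSubtypeEquivSubtypeInter (fun x => x ∈ K) (fun x => x ∈ Subgroup.centralizer ({t} : Set G)))))
  exact Subgroup.mem_subgroupOf

theorem map_conj_mul (A : Subgroup G) (a b : G) :
    (A.map (MulAut.conj a).toMonoidHom).map (MulAut.conj b).toMonoidHom =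
      A.map (MulAut.conj (b * a)).toMonoidHom := by
  rw [Subgroup.map_map]
  congr 1
  ext x
  simp [mul_assoc]

theorem centralizer_map (A : Subgroup G) (e : G ≃* G) :
    Subgroup.centralizer ((A.map e.toMonoidHom : Subgroup G) : Set G) =
      (Subgroup.centralizer (A : Set G)).map e.toMonoidHom := by
  ext x
  rw [Subgroup.mem_map_equiv, Subgroup.mem_centralizer_iff, Subgroup.mem_centralizer_iff]
  constructor
  · intro h y hy
    apply e.injective
    rw [map_mul, map_mul, e.apply_symm_apply]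
    exact h _ ⟨y, hy, rfl⟩
  · rintro h _ ⟨y, hy, rfl⟩
    apply e.symm.injective
    simpa using h y hy

theorem ea_map {A : Subgroup G} (hA : IsElementaryAbelian 2 A) (e : G ≃* G) :
    IsElementaryAbelian 2 (A.map e.toMonoidHom) := by
  refine ⟨⟨⟨?_⟩⟩, fun x hx => ?_⟩
  · rintro ⟨_, a, ha, rfl⟩ ⟨_, b, hb, rfl⟩
    refine Subtype.ext ?_
    show e.toMonoidHom a * e.toMonoidHom b = e.toMonoidHom b * e.toMonoidHom a
    have h : a * b = b * a := congrArg Subtype.val (hA.1.is_comm.comm (⟨a, ha⟩ : ↥A) ⟨b, hb⟩)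
    rw [← map_mul, ← map_mul, h]
  · obtain ⟨v, hv, rfl⟩ := hx
    rw [← map_pow, hA.2 v hv, map_one]

theorem pair_eq {a b p q : GolayPt} (hp : p ∈ ({a, b} : Finset GolayPt))
    (hq : q ∈ ({a, b} : Finset GolayPt)) (h : ¬ q = p) : ({a, b} : Finset GolayPt) = {p, q} := by
  refine (Finset.eq_of_subset_of_card_le ?_ ?_).symm
  · intro x hx
    rcases Finset.mem_insert.1 hx with rfl | hx
    · exact hp
    · exact Finset.mem_singleton.1 hx ▸ hq
  · rw [Finset.card_pair (Ne.symm h)]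
    exact Finset.card_le_two

end Generic

/-- the first member of the orbit of duads -/
abbrev T0 : ℕ := 192

theorem T0_facts : (orbBits orbT).testBit T0 = true ∧ T0 < 1024 ∧ T0 ≠ 0 := by decide +kernel

/-- the set chosen by the kinds of the two outer orbits -/
def kinds (tz ts : Bool) : Finset ℕ := (Finset.range 1024).filter fun a =>
  ((orbBits orbT).testBit a || (tz && (orbBits orbZ).testBit a) || (ts && (orbBits orbS).testBit a)) = true

theorem kinds_lt {tz ts : Bool} : ∀ a ∈ kinds tz ts, a < 1024 := fun _ ha =>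
  Finset.mem_range.1 (Finset.mem_filter.1 ha).1

theorem kinds_card : (kinds false false).card = 28 ∧ (kinds true false).card = 148 ∧
    (kinds false true).card = 868 ∧ (kinds true true).card = 988 := by decide +kernel

theorem dec_card : ((Finset.range 1024).filter fun a => decBits.testBit a = true).card = 155 := by
  decide +kernel

theorem disjoint_check : (List.range 1024).all (fun a =>
    !((orbBits orbU).testBit a && ((orbBits orbT).testBit a || (orbBits orbZ).testBit a ||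
      (orbBits orbS).testBit a)) && !((orbBits orbZ).testBit a && ((orbBits orbT).testBit a ||
      (orbBits orbS).testBit a)) && !((orbBits orbT).testBit a && (orbBits orbS).testBit a)) = true := by
  decide +kernel

theorem T0_sum : (List.range 1024).any (fun a => (orbBits orbU).testBit a &&
    (orbBits orbU).testBit (Nat.xor a T0)) = true := by decide +kernel

theorem move_check : (List.range 16).all (fun b => Nat.beq b 0 || (List.range 2048).all fun c =>
    !Nat.beq (J4TenCode61.act (qelP.getD b 0) c) c || uBits.testBit c ||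
      uBits.testBit (Nat.xor c (dEl b 2))) = true := by decide +kernel

theorem decBits_iff (a : ℕ) :
    decBits.testBit a = true ↔ (orbBits orbU).testBit a = true ∨ (orbBits orbZ).testBit a = true := by
  show (orbBits orbU ||| orbBits orbZ).testBit a = true ↔ _
  rw [Nat.testBit_or, Bool.or_eq_true]

section
variable {G : Type u} [Group G] [Finite G] {z : G} {V : Subgroup G}
  {φ : ↥(Subgroup.normalizer (V : Set G)) →* ↥M24} {cl : (GolayPt → ZMod 2) → G} {κ : ↥M24 →* G}

/-- the self-centralising subgroups of that order in the normaliser are conjugate there -/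
def Classified (F : Frame z V φ cl κ) : Prop :=
  ∀ A : Subgroup G, IsElementaryAbelian 2 A → Nat.card ↥A = 2 ^ 10 →
    Subgroup.centralizer (A : Set G) = A → A ≤ Subgroup.normalizer (V : Set G) →
      ∃ k ∈ Subgroup.normalizer (V : Set G), A.map (MulAut.conj k).toMonoidHom = A0 F

variable (F : Frame z V φ cl κ)
include F

/-- the elements of the second class -/
def IsT (z : G) (cl : (GolayPt → ZMod 2) → G) (κ : ↥M24 →* G) (a : ℕ) : Prop :=
  a < 1024 ∧ a ≠ 0 ∧ ¬ IsConj z (theta cl κ a)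

/-- the normaliser -/
noncomputable abbrev NA : Subgroup G := Subgroup.normalizer ((A0 F : Subgroup G) : Set G)

theorem ne_one {a : ℕ} (ha : a < 1024) (h0 : a ≠ 0) : theta cl κ a ≠ 1 := fun e =>
  h0 (theta_inj F ha (by norm_num) (e.trans (theta_zero F).symm))

theorem isT_T0 : IsT z cl κ T0 := ⟨T0_facts.2.1, T0_facts.2.2, (orb_T F T0_facts.1).2.2⟩

theorem conj_isT {a b : ℕ} (ha : IsT z cl κ a) (hb : b < 1024) {n : G}
    (h : n * theta cl κ a * n⁻¹ = theta cl κ b) : IsT z cl κ b := by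
  refine ⟨hb, fun e => ?_, fun hz => ha.2.2 (hz.trans (isConj_iff.2 ⟨n, h⟩).symm)⟩
  subst e
  rw [theta_zero F, conj_eq_one_iff] at h
  exact ne_one F ha.1 ha.2.1 h

theorem exists_image {n : G} (hn : n ∈ NA F) {a : ℕ} (ha : a < 1024) :
    ∃ b < 1024, theta cl κ b = n * theta cl κ a * n⁻¹ :=
  (Subgroup.mem_normalizer_iff.1 hn _).1 ⟨a, ha, rfl⟩

theorem T_of_inV {a : ℕ} (ha : IsT z cl κ a) (hV : theta cl κ a ∈ V) :
    (orbBits orbT).testBit a = true := by
  rcases cover F ha.1 ha.2.1 with h | h | h | h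
  · exact h
  · exact absurd (orb_U F h ha.1).2 ha.2.2
  · exact absurd hV (orb_out F (Or.inl h))
  · exact absurd hV (orb_out F (Or.inr h))

variable (hcl : Classified F)
include hcl

theorem trans_T {a : ℕ} (ha : IsT z cl κ a) :
    ∃ n ∈ NA F, n * theta cl κ a * n⁻¹ = theta cl κ T0 := by
  obtain ⟨g, hg⟩ := F.into (theta cl κ a) (theta_sq F ha.1)
  set t := g * theta cl κ a * g⁻¹ with ht
  have ht1 : t ≠ 1 := fun e => ne_one F ha.1 ha.2.1 (conj_eq_one_iff.1 e)
  have htz : ¬ IsConj z t := fun h => ha.2.2 (h.trans (isConj_iff.2 ⟨g, rfl⟩).symm)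
  set A' := (A0 F).map (MulAut.conj g).toMonoidHom with hA'
  have htA : t ∈ A' := ⟨_, ⟨a, ha.1, rfl⟩, rfl⟩
  have hEA := ea_map (A0_ea F) (MulAut.conj g)
  have hle : A' ≤ Subgroup.normalizer (V : Set G) := fun y hy =>
    F.tle t hg ht1 htz (Subgroup.mem_centralizer_singleton_iff.2
      (congrArg Subtype.val (hEA.1.is_comm.comm (⟨y, hy⟩ : ↥A') ⟨t, htA⟩)))
  obtain ⟨k, hk, hkA⟩ := hcl A' hEA
    (by rw [hA', Subgroup.card_map_of_injective (MulAut.conj g).injective, card_A0 F])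
    (by rw [hA', centralizer_map, centralizer_A0 F]) hle
  have hu : k * t * k⁻¹ ∈ A0 F := hkA ▸ ⟨t, htA, rfl⟩
  obtain ⟨b, hb, hbe⟩ := hu
  have hbV : theta cl κ b ∈ V := hbe ▸ J4Invol46.mem_conj hk hg
  have hab : k * g * theta cl κ a * (k * g)⁻¹ = theta cl κ b := by rw [hbe, ht]; group
  obtain ⟨n, hn, hne⟩ := orb_rel F orbits_ok.1 (T_of_inV F (conj_isT F ha hb hab) hbV) T0_facts.1
  have hkg : k * g ∈ NA F := by
    refine mem_normalizer_of_map fun x hx => ?_
    rw [map_conj_mul] at hkA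
    exact hkA ▸ ⟨x, hx, rfl⟩
  refine ⟨n * (k * g), mul_mem hn.1 hkg, ?_⟩
  rw [← hne, ← hab]
  group

omit hcl in
theorem witness : ∃ a, IsT z cl κ a ∧ theta cl κ a ∉ V := by
  obtain ⟨x, d, e, hx2, hxV, hxz, hd, he, hd1, he1, hde, hdz, hez, hdez, hxd, hxe⟩ := F.outer
  have hxN : x ∈ Subgroup.normalizer (V : Set G) :=
    F.tle d hd hd1 hdz (Subgroup.mem_centralizer_singleton_iff.2 hxd)
  set σ := φ ⟨x, hxN⟩ with hσ
  have hde1 : d * e ≠ 1 := fun h => hde (mul_right_cancel (h.trans (F.lab.sq e he).symm))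
  obtain ⟨a, b, hab, hdab⟩ := (F.lab.duad d).1 ⟨hd, hd1, hdz⟩
  obtain ⟨c, f, hcf, hecf⟩ := (F.lab.duad e).1 ⟨he, he1, hez⟩
  obtain ⟨g, h, hgh, hdegh⟩ := (F.lab.duad (d * e)).1 ⟨mul_mem hd he, hde1, hdez⟩
  -- the image fixes the common point
  have hpair : ∀ (y : G) (p q : GolayPt), p ≠ q → cl (ind {p, q}) = y → x * y = y * x →
      ({(σ : Equiv.Perm GolayPt) p, (σ : Equiv.Perm GolayPt) q} : Finset GolayPt) = {p, q} := by
    intro y p q hpq hy hxy
    refine duad_inj F ((σ : Equiv.Perm GolayPt).injective.ne hpq) hpq ?_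
    rw [← F.lab.equiv ⟨x, hxN⟩ p q hpq]
    show x * cl (ind {p, q}) * x⁻¹ = _
    rw [hy, hxy, mul_inv_cancel_right]
  have h1 := hpair d a b hab hdab hxd
  have h2 := hpair e c f hcf hecf hxe
  obtain ⟨p, hp1, hp2⟩ : ∃ p, p ∈ ({a, b} : Finset GolayPt) ∧ p ∈ ({c, f} : Finset GolayPt) := by
    by_contra hno
    push Not at hno
    have hdis : Disjoint ({a, b} : Finset GolayPt) {c, f} := Finset.disjoint_left.2 hno
    have hS : ({a, b} : Finset GolayPt) ∆ {c, f} = {a, b} ∪ {c, f} := hdis.symmDiff_eq_sup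
    letI : CommGroup ↥V :=
      { V.toGroup with mul_comm := fun a b => Subtype.ext (F.lab.comm a a.2 b b.2) }
    let L : (GolayPt → ZMod 2) →+ Additive ↥V :=
      AddMonoidHom.mk' (fun w => Additive.ofMul ⟨cl w, F.lab.mem w⟩) fun v w =>
        congrArg Additive.ofMul (Subtype.ext (F.lab.map_add v w))
    have hL : GolayDuadRigid13.IsCocode L := by
      intro t ht
      rw [← F.lab.code t ht]
      exact ⟨fun e => congrArg (fun v : Additive ↥V => (Additive.toMul v).1) e,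
        fun e => congrArg Additive.ofMul (Subtype.ext e)⟩
    have h4 : (({a, b} : Finset GolayPt) ∆ {c, f}).card = 4 := by
      rw [hS, Finset.card_union_of_disjoint hdis, Finset.card_pair hab, Finset.card_pair hcf]
    have h5 := GolayDuadRigid13.eq_of_L_eq hL (S := ({a, b} : Finset GolayPt) ∆ {c, f}) (T := {g, h})
      (by rw [h4]; norm_num) (by rw [Finset.card_pair hgh])
      (by rw [h4, Finset.card_pair hgh]; norm_num)
      (congrArg Additive.ofMul (Subtype.ext (by
        show cl (ind ({a, b} ∆ {c, f})) = cl (ind {g, h})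
        rw [ind_symmDiff, F.lab.map_add, hdab, hecf, hdegh])))
    rw [h5, Finset.card_pair hgh] at h4
    norm_num at h4
  have hfix : (σ : Equiv.Perm GolayPt) p = p := by
    have m1 : (σ : Equiv.Perm GolayPt) p ∈ ({a, b} : Finset GolayPt) := by
      rw [← h1]
      simp only [Finset.mem_insert, Finset.mem_singleton] at hp1 ⊢
      rcases hp1 with rfl | rfl <;> simp
    have m2 : (σ : Equiv.Perm GolayPt) p ∈ ({c, f} : Finset GolayPt) := by
      rw [← h2]
      simp only [Finset.mem_insert, Finset.mem_singleton] at hp2 ⊢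
      rcases hp2 with rfl | rfl <;> simp
    by_contra hne
    apply hde
    rw [← hdab, ← hecf]
    congr 2
    rw [pair_eq hp1 m1 hne, pair_eq hp2 m2 hne]
  have hσ2 : (σ : Equiv.Perm GolayPt) * σ = 1 := by
    rw [← Subgroup.coe_mul, hσ, ← map_mul,
      show (⟨x, hxN⟩ : ↥(Subgroup.normalizer (V : Set G))) * ⟨x, hxN⟩ = 1 from Subtype.ext hx2, map_one,
      Subgroup.coe_one]
  have hσ1 : (σ : Equiv.Perm GolayPt) ≠ 1 := fun e => hxV ((F.lab.ker ⟨x, hxN⟩).1 (Subtype.ext e))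
  obtain ⟨τ, hτ, e1 | e1⟩ := GolayInvolutions.exists_conj_rep σ.2 hσ2 hσ1
  swap
  · exact absurd hfix ((GolayInvolutions.kind_of_conj e1).2 GolayInvolutions.fixfree_pZ2 p)
  set y := κ ⟨τ, hτ⟩ * x * (κ ⟨τ, hτ⟩)⁻¹ with hy
  have hyN : y ∈ Subgroup.normalizer (V : Set G) := mul_mem (mul_mem (F.κN _) hxN) (inv_mem (F.κN _))
  have hφy : φ ⟨y, hyN⟩ = ⟨τ, hτ⟩ * σ * ⟨τ, hτ⟩⁻¹ := by
    rw [show (⟨y, hyN⟩ : ↥(Subgroup.normalizer (V : Set G))) =
      ⟨_, F.κN ⟨τ, hτ⟩⟩ * ⟨x, hxN⟩ * ⟨_, F.κN ⟨τ, hτ⟩⟩⁻¹ from rfl, map_mul, map_mul, map_inv, F.κφ]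
  have hφy' : φ ⟨y, hyN⟩ ∈ pfix O0 := mem_pfix_of_filter (by
    rw [← GolayInvolutions.fix_pZ1, ← e1, hφy]
    rfl)
  obtain ⟨q, hq, hqe⟩ := exists_qE hφy'
  have hq0 : q ≠ 0 := by
    rintro rfl
    apply hσ1
    have h0 : (φ ⟨y, hyN⟩ : ↥M24) = 1 := by
      rw [← hqe]
      exact Subtype.ext (show permOf (qel 0) = 1 by rw [qel_zero, permOf_idP])
    rw [hφy, conj_eq_one_iff] at h0
    rw [h0, Subgroup.coe_one]
  have hyV : y ∉ V := fun h => hq0 (qel_inj hq (by norm_num) (by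
    rw [qel_zero, permOf_idP, ← Subgroup.coe_one, ← (F.lab.ker ⟨y, hyN⟩).2 h, ← hqe]
    rfl))
  have hvV : y * (kp κ (qel q))⁻¹ ∈ V := by
    refine (F.lab.ker ⟨_, mul_mem hyN (inv_mem (kp_mem F _))⟩).1 ?_
    show φ (⟨y, hyN⟩ * (⟨kp κ (qel q), kp_mem F _⟩)⁻¹) = 1
    rw [map_mul, map_inv, ← hqe, mul_inv_eq_one]
    exact Subtype.ext (phi_kp F (permOf_mem_M24 (qel_mem24 hq))).symm
  obtain ⟨v, hv, hve⟩ := psi_surj F hvV
  have hyv : y = psi cl v * kp κ (qel q) := by rw [hve]; group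
  have hy2 : y * y = 1 := by
    rw [hy, show κ ⟨τ, hτ⟩ * x * (κ ⟨τ, hτ⟩)⁻¹ * (κ ⟨τ, hτ⟩ * x * (κ ⟨τ, hτ⟩)⁻¹) =
      κ ⟨τ, hτ⟩ * (x * x) * (κ ⟨τ, hτ⟩)⁻¹ by group, hx2]
    group
  have hqq : kp κ (qel q) * kp κ (qel q) = 1 := by
    rw [← theta_low F hq, theta_sq F (by omega : q < 1024)]
  have hact : J4TenCode61.act (qel q) v = v := by
    refine psi_inj F (act_lt _ _) hv ?_
    rw [← qel_psi F hq hv, inv_eq_of_mul_eq_one_right hqq]
    rw [hyv] at hy2
    calc kp κ (qel q) * psi cl v * kp κ (qel q)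
        = (psi cl v)⁻¹ * (psi cl v * kp κ (qel q) * (psi cl v * kp κ (qel q))) := by group
      _ = psi cl v := by rw [hy2, mul_one, inv_eq_of_mul_eq_one_right (psi_sq F v)]
  obtain ⟨w, hwA, hwn⟩ : ∃ w ∈ A0 F, ∃ n ∈ Subgroup.normalizer (V : Set G), n * y * n⁻¹ = w := by
    have hm := List.all_eq_true.1 move_check q (List.mem_range.2 hq)
    rw [Bool.or_eq_true, Nat.beq_eq, List.all_eq_true] at hm
    have hm2 := hm.resolve_left hq0 v (List.mem_range.2 hv)
    simp only [Bool.or_eq_true, Bool.not_eq_true', show qelP.getD q 0 = qel q from rfl, hact] at hm2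
    rcases hm2 with (h | h) | h
    · simp at h
    · obtain ⟨u, hu, rfl⟩ := of_uBits h
      exact ⟨y, hyv ▸ mul_mem (u_mem F hu) (qel_mem_A0 F hq), 1, one_mem _, by simp⟩
    · obtain ⟨u, hu, hue⟩ := of_uBits h
      refine ⟨psi cl (Nat.xor v (dEl q 2)) * kp κ (qel q), ?_, psi cl 2,
        Subgroup.le_normalizer (psi_mem F _), ?_⟩
      · rw [← hue]
        exact mul_mem (u_mem F hu) (qel_mem_A0 F hq)
      · rw [hyv, psi_xor F, mul_assoc (psi cl v) (psi cl (dEl q 2)), ← psi_conj_qel F hq (by norm_num : 2 < 2048)]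
        calc psi cl 2 * (psi cl v * kp κ (qel q)) * (psi cl 2)⁻¹
            = (psi cl 2 * psi cl v) * kp κ (qel q) * (psi cl 2)⁻¹ := by group
          _ = (psi cl v * psi cl 2) * kp κ (qel q) * (psi cl 2)⁻¹ := by
              rw [F.lab.comm _ (psi_mem F _) _ (psi_mem F _)]
          _ = _ := by group
  obtain ⟨n, hn, hnw⟩ := hwn
  obtain ⟨r, hr, hre⟩ := hwA
  have hwV : theta cl κ r ∉ V := by
    rw [hre, ← hnw]
    intro hV
    exact hyV (by simpa [mul_assoc] using J4Invol46.mem_conj (inv_mem hn) hV)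
  refine ⟨r, ⟨hr, fun e => hwV (by rw [e, theta_zero F]; exact one_mem _), fun hz => hxz ?_⟩, hwV⟩
  rw [hre, ← hnw] at hz
  exact hz.trans ((isConj_iff.2 ⟨κ ⟨τ, hτ⟩, rfl⟩).trans (isConj_iff.2 ⟨n, rfl⟩)).symm

omit hcl in
theorem isConj_orb {l : List (ℕ × ℕ × ℕ)} (h : orbOK l = true) {a b : ℕ}
    (ha : (orbBits l).testBit a = true) (hb : (orbBits l).testBit b = true) :
    IsConj z (theta cl κ a) ↔ IsConj z (theta cl κ b) := by
  obtain ⟨n, -, hn⟩ := orb_rel F h ha hb
  have : IsConj (theta cl κ a) (theta cl κ b) := isConj_iff.2 ⟨n, hn⟩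
  exact ⟨fun e => e.trans this, fun e => e.trans this.symm⟩

theorem orb_NA : orb (NA F) (theta cl κ T0) = theta cl κ '' {a | IsT z cl κ a} := by
  ext v
  constructor
  · rintro ⟨n, hn, rfl⟩
    obtain ⟨b, hb, hbe⟩ := exists_image F hn T0_facts.2.1
    exact ⟨b, conj_isT F (isT_T0 F) hb hbe.symm, hbe⟩
  · rintro ⟨a, ha, rfl⟩
    obtain ⟨n, hn, hne⟩ := trans_T F hcl ha
    exact ⟨n⁻¹, inv_mem hn, by rw [← hne]; group⟩

omit hcl in
theorem orb_Hin : orb (Hin F) (theta cl κ T0) = theta cl κ '' ↑(kinds false false) := by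
  have hmem : ∀ a, a ∈ kinds false false ↔ a < 1024 ∧ (orbBits orbT).testBit a = true := fun a => by
    simp [kinds, Finset.mem_filter]
  ext v
  constructor
  · rintro ⟨n, hn, rfl⟩
    obtain ⟨b, hb, hbe⟩ := exists_image F hn.1 T0_facts.2.1
    refine ⟨b, (hmem b).2 ⟨hb, T_of_inV F (conj_isT F (isT_T0 F) hb hbe.symm) ?_⟩, hbe⟩
    rw [hbe]
    exact J4Invol46.mem_conj hn.2 (orb_T F T0_facts.1).1
  · rintro ⟨a, ha, rfl⟩
    exact orb_rel F orbits_ok.1 T0_facts.1 ((hmem a).1 ha).2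

omit hcl in
theorem ncard_image {s : Finset ℕ} (hs : ∀ a ∈ s, a < 1024) :
    (theta cl κ '' (s : Set ℕ)).ncard = s.card := by
  rw [Set.ncard_image_of_injOn fun a ha b hb e => theta_inj F (hs a ha) (hs b hb) e, Set.ncard_coe_finset]

/-- the elements of the second class are those of two orbits, and the order of the normaliser -/
theorem counts : (∀ a, IsT z cl κ a ↔ a ∈ kinds false true) ∧
    Nat.card ↥(NA F) = 2 ^ 10 * 9999360 := by
  classical
  obtain ⟨zb, hzb, hzp⟩ : ∃ tz : Bool, (∀ a < 1024, (orbBits orbZ).testBit a = true →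
      (¬ IsConj z (theta cl κ a) ↔ tz = true)) ∧ True := by
    obtain ⟨e, he⟩ := List.exists_mem_of_ne_nil orbZ (fun e => by
      have := orbits_sizes.2.2.1; rw [e] at this; simp at this)
    have hz0 := (testBit_orbBits e.1 orbZ).2 ⟨e, he, rfl⟩
    refine ⟨decide (¬ IsConj z (theta cl κ e.1)), fun a _ ha => ?_, trivial⟩
    rw [decide_eq_true_eq, isConj_orb F orbits_ok.2.2.1 ha hz0]
  obtain ⟨sb, hsb⟩ : ∃ ts : Bool, ∀ a < 1024, (orbBits orbS).testBit a = true →
      (¬ IsConj z (theta cl κ a) ↔ ts = true) := by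
    obtain ⟨e, he⟩ := List.exists_mem_of_ne_nil orbS (fun e => by
      have := orbits_sizes.2.2.2.1; rw [e] at this; simp at this)
    have hs0 := (testBit_orbBits e.1 orbS).2 ⟨e, he, rfl⟩
    refine ⟨decide (¬ IsConj z (theta cl κ e.1)), fun a _ ha => ?_⟩
    rw [decide_eq_true_eq, isConj_orb F orbits_ok.2.2.2 ha hs0]
  have hiff : ∀ a, IsT z cl κ a ↔ a ∈ kinds zb sb := by
    intro a
    simp only [kinds, Finset.mem_filter, Finset.mem_range, Bool.or_eq_true, Bool.and_eq_true]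
    constructor
    · intro ha
      refine ⟨ha.1, ?_⟩
      rcases cover F ha.1 ha.2.1 with h | h | h | h
      · exact Or.inl (Or.inl h)
      · exact absurd (orb_U F h ha.1).2 ha.2.2
      · exact Or.inl (Or.inr ⟨(hzb a ha.1 h).1 ha.2.2, h⟩)
      · exact Or.inr ⟨(hsb a ha.1 h).1 ha.2.2, h⟩
    · rintro ⟨ha, (h | ⟨hb, h⟩) | ⟨hb, h⟩⟩
      · exact ⟨ha, fun e => Bool.false_ne_true (orb_nonzero.1 ▸ e ▸ h), (orb_T F h).2.2⟩
      · exact ⟨ha, fun e => Bool.false_ne_true (orb_nonzero.2.2.1 ▸ e ▸ h), (hzb a ha h).2 hb⟩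
      · exact ⟨ha, fun e => Bool.false_ne_true (orb_nonzero.2.2.2 ▸ e ▸ h), (hsb a ha h).2 hb⟩
  set t := theta cl κ T0 with ht
  set C := Subgroup.centralizer ({t} : Set G) with hC
  have hCN : C ≤ Subgroup.normalizer (V : Set G) :=
    F.tle t (orb_T F T0_facts.1).1 (orb_T F T0_facts.1).2.1 (orb_T F T0_facts.1).2.2
  have hinter : NA F ⊓ C = Hin F ⊓ C :=
    le_antisymm (fun x hx => ⟨⟨hx.1, hCN hx.2⟩, hx.2⟩) (inf_le_inf_right _ inf_le_left)
  have h1 := card_eq_orb_mul (NA F) t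
  have hset : theta cl κ '' {a | IsT z cl κ a} = theta cl κ '' ↑(kinds zb sb) := by
    congr 1
    ext a
    exact hiff a
  rw [orb_NA F hcl, hset, ncard_image F kinds_lt] at h1
  have h2 := card_eq_orb_mul (Hin F) t
  rw [orb_Hin F, ncard_image F kinds_lt,
    kinds_card.1, card_inner F, ← hC] at h2
  rw [← hC, hinter] at h1
  have hdvd : 2 ^ 10 * 322560 ∣ Nat.card ↥(NA F) :=
    card_inner F ▸ Subgroup.card_dvd_of_le inf_le_left
  obtain ⟨m, hm⟩ := hdvd
  obtain ⟨hk0, hk1, hk2, hk3⟩ := kinds_card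
  obtain ⟨r, hr, hrV⟩ := witness F
  have hne : ¬ (zb = false ∧ sb = false) := by
    rintro ⟨rfl, rfl⟩
    have := (hiff r).1 hr
    simp only [kinds, Finset.mem_filter, Bool.false_and, Bool.or_false] at this
    exact hrV (orb_T F this.2).1
  cases zb <;> cases sb
  · exact absurd ⟨rfl, rfl⟩ hne
  · exact ⟨hiff, by rw [hk2] at h1; omega⟩
  · exfalso; rw [hk1] at h1; omega
  · exfalso; rw [hk3] at h1; omega

theorem class_z {a : ℕ} (ha : a < 1024) (h0 : a ≠ 0) :
    IsConj z (theta cl κ a) ↔ decBits.testBit a = true := by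
  have hT := (counts F hcl).1 a
  simp only [IsT, kinds, Finset.mem_filter, Finset.mem_range, Bool.false_and, Bool.or_false,
    Bool.true_and, Bool.or_eq_true, ha, true_and] at hT
  have hd := List.all_eq_true.1 disjoint_check a (List.mem_range.2 ha)
  rw [decBits_iff]
  constructor
  · intro hz
    rcases cover F ha h0 with h | h | h | h
    · exact absurd hz (hT.2 (Or.inl h)).2
    · exact Or.inl h
    · exact Or.inr h
    · exact absurd hz (hT.2 (Or.inr h)).2
  · intro h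
    by_contra hz
    have h' := hT.1 ⟨h0, hz⟩
    rcases h with h | h <;> rcases h' with h' | h' <;> simp [h, h'] at hd

/-- the orbit of length 868 -/
theorem orbit_T : (orb (NA F) (theta cl κ T0)).ncard = 868 := by
  have hset : theta cl κ '' {a | IsT z cl κ a} = theta cl κ '' ↑(kinds false true) := by
    congr 1
    ext a
    exact (counts F hcl).1 a
  rw [orb_NA F hcl, hset, ncard_image F kinds_lt,
    kinds_card.2.2.1]

/-- the orbit of length 155 -/
theorem orbit_Z : ∃ u < 1024, (orb (NA F) (theta cl κ u)).ncard = 155 := by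
  classical
  obtain ⟨u, hu, hU⟩ := List.any_eq_true.1 T0_sum
  rw [List.mem_range] at hu
  rw [Bool.and_eq_true] at hU
  obtain ⟨hU1, hU2⟩ := hU
  refine ⟨u, hu, ?_⟩
  have hnz : ∀ b, (orbBits orbU).testBit b = true → b ≠ 0 := fun b hb e =>
    Bool.false_ne_true (orb_nonzero.2.1 ▸ e ▸ hb)
  have himg : ∀ b, decBits.testBit b = true → b < 1024 → ∀ n ∈ NA F,
      ∃ b' < 1024, decBits.testBit b' = true ∧ theta cl κ b' = n * theta cl κ b * n⁻¹ := by
    intro b hb hlt n hn
    obtain ⟨b', hb', he⟩ := exists_image F hn hlt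
    have hb0 : b ≠ 0 := fun e => by
      subst e
      rcases (decBits_iff 0).1 hb with h | h
      · exact hnz 0 h rfl
      · exact Bool.false_ne_true (orb_nonzero.2.2.1 ▸ h)
    have hb'0 : b' ≠ 0 := fun e => by
      subst e
      rw [theta_zero F, eq_comm, conj_eq_one_iff] at he
      exact ne_one F hlt hb0 he
    exact ⟨b', hb', (class_z F hcl hb' hb'0).1
      (((class_z F hcl hlt hb0).2 hb).trans (isConj_iff.2 ⟨n, he.symm⟩)), he⟩
  -- some member of the inner orbit goes to the outer one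
  obtain ⟨b, hb, hZ, n, hn, hne⟩ : ∃ b < 1024, (orbBits orbZ).testBit b = true ∧
      ∃ n ∈ NA F, n * theta cl κ u * n⁻¹ = theta cl κ b := by
    obtain ⟨s, hsT, hsV⟩ := witness F
    obtain ⟨m, hm, hme⟩ := trans_T F hcl hsT
    have hu' : Nat.xor u T0 < 1024 := Nat.xor_lt_two_pow (n := 10) hu T0_facts.2.1
    obtain ⟨b1, hb1, hd1, he1⟩ := himg u ((decBits_iff u).2 (Or.inl hU1)) hu m⁻¹ (inv_mem hm)
    obtain ⟨b2, hb2, hd2, he2⟩ :=
      himg _ ((decBits_iff _).2 (Or.inl hU2)) hu' m⁻¹ (inv_mem hm)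
    have hsum : theta cl κ b1 * theta cl κ b2 = theta cl κ s := by
      rw [he1, he2, theta_xor F hu T0_facts.2.1, ← hme,
        show theta cl κ u * (m * theta cl κ s * m⁻¹) = theta cl κ u * m * theta cl κ s * m⁻¹ by group]
      have h := theta_sq F hu
      calc m⁻¹ * theta cl κ u * m⁻¹⁻¹ * (m⁻¹ * (theta cl κ u * m * theta cl κ s * m⁻¹) * m⁻¹⁻¹)
          = m⁻¹ * (theta cl κ u * theta cl κ u) * m * theta cl κ s := by group
        _ = _ := by rw [h]; group
    rcases (decBits_iff b1).1 hd1 with h1 | h1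
    · rcases (decBits_iff b2).1 hd2 with h2 | h2
      · exact absurd (hsum ▸ mul_mem (orb_U F h1 hb1).1 (orb_U F h2 hb2).1) hsV
      · obtain ⟨k, hk, hke⟩ := orb_rel F orbits_ok.2.1 hU1 hU2
        exact ⟨b2, hb2, h2, m⁻¹ * k, mul_mem (inv_mem hm) hk.1, by rw [he2, ← hke]; group⟩
    · exact ⟨b1, hb1, h1, m⁻¹, inv_mem hm, by rw [he1]⟩
  have hset : orb (NA F) (theta cl κ u) =
      theta cl κ '' ↑((Finset.range 1024).filter fun a => decBits.testBit a = true) := by
    ext v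
    constructor
    · rintro ⟨k, hk, rfl⟩
      obtain ⟨b', hb', hd', he'⟩ := himg u ((decBits_iff u).2 (Or.inl hU1)) hu k hk
      exact ⟨b', Finset.mem_filter.2 ⟨Finset.mem_range.2 hb', hd'⟩, he'⟩
    · rintro ⟨a, ha, rfl⟩
      rcases (decBits_iff a).1 (Finset.mem_filter.1 ha).2 with h | h
      · obtain ⟨k, hk, hke⟩ := orb_rel F orbits_ok.2.1 hU1 h
        exact ⟨k, hk.1, hke⟩
      · obtain ⟨k, hk, hke⟩ := orb_rel F orbits_ok.2.2.1 hZ h
        exact ⟨k * n, mul_mem hk.1 hn, by rw [← hke, ← hne]; group⟩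
  rw [hset, ncard_image F (fun a ha => Finset.mem_range.1 (Finset.mem_filter.1 ha).1), dec_card]

end

end Cfsg.Agent.J4TenCount4
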