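import Mathlib
import Cfsg.Agent.Lib.J4TenCode61

/-!
Checks of the tables of the Sylow subgroup: listing, absence of repetitions, and products of involutions.
-/

set_option autoImplicit false
set_option maxRecDepth 100000
set_option maxHeartbeats 4000000
set_option Elab.async false

namespace Cfsg.Agent.J4TenSylKeys61

open Cfsg.Agent.GolayBasic Cfsg.Agent.GolayPerm Cfsg.Agent.GolayEnum Cfsg.Agent.J4TenBits61
open Cfsg.Agent.J4TenCode61 Cfsg.Agent.J4TenData61

theorem syl_flat : sameList sylP.flatten ((List.range 1024).map (get32 sylP)) = true := by decide +kernel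

/-- a number determining a member of the Sylow subgroup -/
def sylKey (P : ℕ) : ℕ := pimg P 0 + 32 * (pimg P 1 + 32 * (pimg P 2 +
  32 * (pimg P 3 + 32 * (pimg P 4 + 32 * (pimg P 5 + 32 * (pimg P 12 + 32 * pimg P 14))))))

/-- no repetition -/
def nodupB : List ℕ → Bool
  | [] => true
  | a :: l => (l.all fun b => !Nat.beq a b) && nodupB l

theorem syl_nodup : (List.range 31).all (fun r =>
    nodupB ((sylP.flatten.map sylKey).filter fun k => Nat.beq (k % 31) r)) = true := by decide +kernel

theorem invP_good : invP.all good = true := by decide +kernel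

theorem invP_length : invP.length = 191 ∧ invRows.length = 191 ∧ invNbs.length = 191 := by decide +kernel

/-- one row of the table of involutions -/
def invRow (a : (ℕ × ℕ × ℕ) × ℕ) : Bool :=
  invP.zipIdx.all fun b => Nat.beq a.2 b.2 || !commP a.1.1 b.1 ||
    (Nat.testBit a.1.2.2 b.2 && Nat.blt (byte a.1.2.1 b.2) 191 &&
      Nat.beq (pcomp a.1.1 b.1) (invP.getD (byte a.1.2.1 b.2) 0))

theorem inv_rows_lo :
    ((List.zip invP (List.zip invRows invNbs)).zipIdx.take 64).all invRow = true := by decide +kernel

theorem inv_rows_mid :
    (((List.zip invP (List.zip invRows invNbs)).zipIdx.drop 64).take 64).all invRow = true := by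
  decide +kernel

theorem inv_rows_hi :
    (((List.zip invP (List.zip invRows invNbs)).zipIdx.drop 64).drop 64).all invRow = true := by
  decide +kernel

theorem q_all : qelP.all (fun P => Nat.beq P idP || qIdx.any fun h => Nat.beq P (invP.getD h 0)) = true := by
  decide +kernel

end Cfsg.Agent.J4TenSylKeys61
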