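import Mathlib
import Cfsg.Agent.Lib.J4TenCert61
import Cfsg.Agent.Lib.J4TenWalkData30

/-!
A faster walk through the commutative subgroups of exponent two: candidates are kept in a list and the
tables in rows of sixteen.
-/

set_option autoImplicit false
set_option maxRecDepth 100000
set_option maxHeartbeats 4000000

namespace Cfsg.Agent.J4TenWalk30

open Cfsg.Agent.J4TenBits61 Cfsg.Agent.J4TenCode61 Cfsg.Agent.J4TenData61 Cfsg.Agent.J4TenCert61
open Cfsg.Agent.J4TenWalkData30

/-- the walk -/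
def walkL (row nb fx : ℕ → ℕ) (leaf : List ℕ → ℕ → Bool) : ℕ → List ℕ → List ℕ → ℕ → Bool
  | 0, _, _, _ => false
  | f + 1, span, L, U => leaf span U &&
      L.all fun j =>
        let r := row j
        !(span.all fun h => Nat.blt j (byte r h)) ||
          walkL row nb fx leaf f (span ++ j :: span.map fun h => byte r h)
            (let n := nb j; L.filter fun i => Nat.blt j i && n.testBit i) (Nat.land U (fx j))

section

variable {M : Type*} [Group M] (π : ℕ → M) (N : ℕ) (row nb fx : ℕ → ℕ)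
variable (leaf : List ℕ → ℕ → Bool) (W : Subgroup M) (Fix : ℕ → Prop)

theorem of_walkL (hW : ∀ x ∈ W, x ≠ 1 → ∃ i < N, π i = x)
    (hab : ∀ x ∈ W, ∀ y ∈ W, x * y = y * x) (hsq : ∀ x ∈ W, x * x = 1)
    (htab : ∀ i < N, ∀ j < N, π i ≠ π j → π i * π j = π j * π i →
      (nb i).testBit j = true ∧ byte (row i) j < N ∧ π i * π j = π (byte (row i) j))
    (hfix : ∀ c, Fix c → ∀ j < N, π j ∈ W → (fx j).testBit c = true) :
    ∀ (f : ℕ) (span : List ℕ) (L : List ℕ) (U : ℕ), walkL row nb fx leaf f span L U = true →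
      (∀ h ∈ span, h < N ∧ π h ∈ W ∧ π h ≠ 1) →
      (∀ h ∈ span, ∀ h' ∈ span, π h * π h' = 1 ∨ ∃ k ∈ span, π h * π h' = π k) →
      (∀ i < N, π i ∈ W → π i ≠ 1 → (∀ h ∈ span, π h ≠ π i) → i ∈ L) →
      (∀ c, Fix c → U.testBit c = true) →
      ∃ span' U', leaf span' U' = true ∧ (∀ h ∈ span', h < N ∧ π h ∈ W ∧ π h ≠ 1) ∧
        (∀ x ∈ W, x ≠ 1 → ∃ h ∈ span', π h = x) ∧ ∀ c, Fix c → U'.testBit c = true
  | 0, span, L, U, h, _, _, _, _ => by simp [walkL] at h
  | f + 1, span, L, U, h, hspan, hcl, hC, hU => by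
    classical
    rw [walkL, Bool.and_eq_true] at h
    obtain ⟨hleaf, hall⟩ := h
    by_cases hdone : ∀ x ∈ W, x ≠ 1 → ∃ h ∈ span, π h = x
    · exact ⟨span, U, hleaf, hspan, hdone, hU⟩
    push Not at hdone
    obtain ⟨x, hx, hx1, hxs⟩ := hdone
    obtain ⟨i₀, hi₀, rfl⟩ := hW x hx hx1
    let Pr : ℕ → Prop := fun i => i < N ∧ π i ∈ W ∧ π i ≠ 1 ∧ ∀ h ∈ span, π h ≠ π i
    have hex : ∃ i, Pr i := ⟨i₀, hi₀, hx, hx1, hxs⟩
    obtain ⟨j, hj, hmin⟩ : ∃ j, Pr j ∧ ∀ i, Pr i → j ≤ i :=
      ⟨Nat.find hex, Nat.find_spec hex, fun i hi => Nat.find_min' hex hi⟩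
    obtain ⟨hjN, hjW, hj1, hjs⟩ := hj
    have hprod : ∀ h ∈ span, byte (row j) h < N ∧ π j * π h = π (byte (row j) h) ∧
        Pr (byte (row j) h) ∧ j < byte (row j) h := by
      intro h hh
      obtain ⟨-, hlt, e⟩ := htab j hjN h (hspan h hh).1 (fun e => hjs h hh e.symm)
        (hab _ hjW _ (hspan h hh).2.1)
      have hk : Pr (byte (row j) h) := by
        refine ⟨hlt, e ▸ mul_mem hjW (hspan h hh).2.1, fun e' => hjs h hh ?_, fun h' hh' e' => ?_⟩
        · rw [← e, ← hsq _ hjW] at e'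
          exact mul_left_cancel e'
        · rw [← e] at e'
          have e2 : π j = π h' * π h := by rw [e', mul_assoc, hsq _ (hspan h hh).2.1, mul_one]
          rcases hcl h' hh' h hh with e3 | ⟨k, hk, e3⟩
          · exact hj1 (e2.trans e3)
          · exact hjs k hk (e2.trans e3).symm
      refine ⟨hlt, e, hk, lt_of_le_of_ne (hmin _ hk) fun e' => (hspan h hh).2.2 ?_⟩
      rw [← e', mul_eq_left] at e
      exact e
    have key := List.all_eq_true.1 hall j (hC j hjN hjW hj1 hjs)
    simp only [Bool.or_eq_true, Bool.not_eq_true'] at key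
    rcases key with key | key
    · exfalso
      rw [List.all_eq_false] at key
      obtain ⟨h, hh, hlt⟩ := key
      exact hlt (by rw [Nat.blt_eq]; exact (hprod h hh).2.2.2)
    refine of_walkL hW hab hsq htab hfix f _ _ _ key ?_ ?_ ?_ ?_
    · intro h hh
      rcases List.mem_append.1 hh with hh | hh
      · exact hspan h hh
      rcases List.mem_cons.1 hh with rfl | hh
      · exact ⟨hjN, hjW, hj1⟩
      · obtain ⟨a, ha, rfl⟩ := List.mem_map.1 hh
        exact ⟨(hprod a ha).1, (hprod a ha).2.2.1.2.1, (hprod a ha).2.2.1.2.2.1⟩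
    · -- closure of the doubled list
      let S : Set M := {y | y = 1 ∨ ∃ h ∈ span, π h = y}
      have hS : ∀ a ∈ S, ∀ b ∈ S, a * b ∈ S := by
        rintro a (rfl | ⟨h, hh, rfl⟩) b (rfl | ⟨h', hh', rfl⟩)
        · exact Or.inl (mul_one _)
        · exact Or.inr ⟨h', hh', (one_mul _).symm⟩
        · exact Or.inr ⟨h, hh, (mul_one _).symm⟩
        · exact (hcl h hh h' hh').imp id fun ⟨k, hk, e⟩ => ⟨k, hk, e.symm⟩
      have hSW : ∀ a ∈ S, a ∈ W := by
        rintro a (rfl | ⟨h, hh, rfl⟩)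
        · exact one_mem _
        · exact (hspan h hh).2.1
      have hout : ∀ h ∈ span ++ j :: span.map (fun h => byte (row j) h),
          π h ∈ S ∨ ∃ a ∈ S, π h = π j * a := by
        intro h hh
        rcases List.mem_append.1 hh with hh | hh
        · exact Or.inl (Or.inr ⟨h, hh, rfl⟩)
        rcases List.mem_cons.1 hh with rfl | hh
        · exact Or.inr ⟨1, Or.inl rfl, (mul_one _).symm⟩
        · obtain ⟨a, ha, rfl⟩ := List.mem_map.1 hh
          exact Or.inr ⟨π a, Or.inr ⟨a, ha, rfl⟩, (hprod a ha).2.1.symm⟩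
      have hin : ∀ a ∈ S, (a = 1 ∨ ∃ k ∈ span ++ j :: span.map (fun h => byte (row j) h), a = π k) ∧
          ∃ k ∈ span ++ j :: span.map (fun h => byte (row j) h), π j * a = π k := by
        rintro a (rfl | ⟨h, hh, rfl⟩)
        · exact ⟨Or.inl rfl, j, by simp, mul_one _⟩
        · exact ⟨Or.inr ⟨h, List.mem_append_left _ hh, rfl⟩, _,
            List.mem_append_right _ (List.mem_cons_of_mem _ (List.mem_map.2 ⟨h, hh, rfl⟩)),
            (hprod h hh).2.1⟩
      intro h hh h' hh'
      rcases hout h hh with ha | ⟨a, ha, ea⟩ <;> rcases hout h' hh' with hb | ⟨b, hb, eb⟩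
      · exact (hin _ (hS _ ha _ hb)).1
      · right
        rw [eb, show π h * (π j * b) = π j * (π h * b) by
          rw [← mul_assoc, hab _ (hSW _ ha) _ hjW, mul_assoc]]
        exact (hin _ (hS _ ha _ hb)).2
      · right
        rw [ea, mul_assoc]
        exact (hin _ (hS _ ha _ hb)).2
      · rw [ea, eb, mul_assoc, ← mul_assoc a, hab _ (hSW _ ha) _ hjW, mul_assoc (π j), ← mul_assoc,
          hsq _ hjW, one_mul]
        exact (hin _ (hS _ ha _ hb)).1
    · intro i hi hiW hi1 his
      have hjne : π j ≠ π i := fun e => his j (by simp) e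
      have hiold : ∀ h ∈ span, π h ≠ π i := fun h hh => his h (List.mem_append_left _ hh)
      rw [List.mem_filter, Bool.and_eq_true, Nat.blt_eq]
      exact ⟨hC i hi hiW hi1 hiold, lt_of_le_of_ne (hmin i ⟨hi, hiW, hi1, hiold⟩) (fun e => hjne (by rw [e])),
        (htab j hjN i hi hjne (hab _ hjW _ hiW)).1⟩
    · intro c hc
      show (U &&& fx j).testBit c = true
      rw [Nat.testBit_and, hU c hc, hfix c hc j hjN hjW]
      rfl

end

/-- the tables agree -/
theorem tables_ok : sameList ((List.range 191).map (get16 rows16)) invRows = true ∧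
    sameList ((List.range 191).map (get16 nbs16)) invNbs = true ∧
    sameList ((List.range 191).map (get16 fix16)) invFix = true := by decide +kernel

theorem getD_of_same {g : ℕ → ℕ} {l : List ℕ} (h : sameList ((List.range 191).map g) l = true) {j : ℕ}
    (hj : j < 191) : l.getD j 0 = g j := by
  rw [← sameList_iff h, List.getD_eq_getElem _ _ (by simpa using hj)]
  simp

/-- a child of the root -/
def child (j : ℕ) : Bool :=
  walkL (get16 rows16) (get16 nbs16) (get16 fix16) leafT 7 [j]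
    (let n := get16 nbs16 j; (List.range 191).filter fun i => Nat.blt j i && n.testBit i)
    (Nat.land (2 ^ 2048 - 1) (get16 fix16 j))

end Cfsg.Agent.J4TenWalk30
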