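import Mathlib
import Cfsg.Agent.Lib.J4TenWalk30

/-!
Part A of the walk.
-/

set_option autoImplicit false
set_option maxRecDepth 100000
set_option maxHeartbeats 4000000

namespace Cfsg.Agent.J4TenWalk30

theorem partA_ok : (List.range' 0 8).all child = true := by decide +kernel

end Cfsg.Agent.J4TenWalk30
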