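import Mathlib
import Cfsg.Agent.Lib.J4TenWalkPartA30
import Cfsg.Agent.Lib.J4TenWalkPartB30
import Cfsg.Agent.Lib.J4TenWalkPartC30

/-!
The conclusion of the walk for the tables of the involutions.
-/

set_option autoImplicit false
set_option maxRecDepth 100000

namespace Cfsg.Agent.J4TenWalk30

open Cfsg.Agent.J4TenBits61 Cfsg.Agent.J4TenCode61 Cfsg.Agent.J4TenData61 Cfsg.Agent.J4TenCert61
open Cfsg.Agent.J4TenWalkData30

theorem root_ok : walkL (get16 rows16) (get16 nbs16) (get16 fix16) leafT 8 [] (List.range 191)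
    (2 ^ 2048 - 1) = true := by
  rw [walkL, Bool.and_eq_true]
  refine ⟨rfl, List.all_eq_true.2 fun j hj => ?_⟩
  have h : child j = true := by
    rw [List.mem_range] at hj
    by_cases h1 : j < 8
    · exact List.all_eq_true.1 partA_ok j (List.mem_range'_1.2 ⟨Nat.zero_le _, by omega⟩)
    by_cases h2 : j < 26
    · exact List.all_eq_true.1 partB_ok j (List.mem_range'_1.2 ⟨by omega, by omega⟩)
    · exact List.all_eq_true.1 partC_ok j (List.mem_range'_1.2 ⟨by omega, by omega⟩)
  rw [Bool.or_eq_true]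
  exact Or.inr h

/-- a commutative subgroup of exponent two in the table yields a leaf -/
theorem walk_sound {M : Type*} [Group M] (π : ℕ → M) (W : Subgroup M) (Fix : ℕ → Prop)
    (hW : ∀ x ∈ W, x ≠ 1 → ∃ i < 191, π i = x)
    (hab : ∀ x ∈ W, ∀ y ∈ W, x * y = y * x) (hsq : ∀ x ∈ W, x * x = 1)
    (htab : ∀ i < 191, ∀ j < 191, π i ≠ π j → π i * π j = π j * π i →
      (invNbs.getD i 0).testBit j = true ∧ byte (invRows.getD i 0) j < 191 ∧
        π i * π j = π (byte (invRows.getD i 0) j))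
    (hfix : ∀ c, Fix c → ∀ j < 191, π j ∈ W → (invFix.getD j 0).testBit c = true)
    (hlt : ∀ c, Fix c → c < 2048) :
    ∃ span U, leafT span U = true ∧ (∀ h ∈ span, h < 191 ∧ π h ∈ W ∧ π h ≠ 1) ∧
      (∀ x ∈ W, x ≠ 1 → ∃ h ∈ span, π h = x) ∧ ∀ c, Fix c → U.testBit c = true := by
  obtain ⟨tr, tn, tf⟩ := tables_ok
  refine of_walkL π 191 _ _ _ leafT W Fix hW hab hsq ?_ ?_ 8 [] _ _ root_ok (by simp) (by simp)
    (fun i hi _ _ _ => List.mem_range.2 hi) fun c hc => ?_
  · intro i hi j hj hne hc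
    rw [← getD_of_same tr hi, ← getD_of_same tn hi]
    exact htab i hi j hj hne hc
  · intro c hc j hj hjW
    rw [← getD_of_same tf hj]
    exact hfix c hc j hj hjW
  · rw [Nat.testBit_two_pow_sub_one]
    simp [hlt c hc]

end Cfsg.Agent.J4TenWalk30
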