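import Mathlib
import Cfsg.Agent.Lib.J4TenBase61
import Cfsg.Agent.Lib.J4TenSylKeys61
import Cfsg.Agent.Lib.J4TenWalkMain30

/-!
The Sylow 2-subgroup of the split extension of the even cocode by M24 and its self-centralising
elementary abelian subgroups of order `2 ^ 10`: they form one class.
-/

set_option autoImplicit false
set_option linter.unusedSectionVars false
set_option maxRecDepth 100000

namespace Cfsg.Agent.J4TenSylow61

open Cfsg Cfsg.Agent.GolayBasic Cfsg.Agent.GolayPerm Cfsg.Agent.GolayEnum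
open Cfsg.Agent.GolayModule hiding act
open Cfsg.Agent.GolayOctadStab Cfsg.Agent.J4TenBits61 Cfsg.Agent.J4TenCode61 Cfsg.Agent.J4TenData61
open Cfsg.Agent.J4TenSylKeys61 Cfsg.Agent.J4TenCert61 Cfsg.Agent.J4TenBase61
open scoped Pointwise

universe u

/-- a Sylow subgroup of M24 -/
noncomputable def SM : Subgroup ↥M24 := Subgroup.closure {g | ∃ P ∈ gsP, el P = g}

/-- its members -/
noncomputable def sy (n : ℕ) : ↥M24 := el (get32 sylP n)

theorem flat : sylP.flatten = (List.range 1024).map (get32 sylP) := sameList_iff syl_flat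

theorem sy_valid {n : ℕ} (hn : n < 1024) :
    valid (get32 sylP n) = true ∧ pcomp (get32 sylP n) idP = get32 sylP n := by
  have hm : get32 sylP n ∈ sylP.flatten := flat ▸ List.mem_map.2 ⟨n, List.mem_range.2 hn, rfl⟩
  obtain ⟨r, hr, hP⟩ := List.mem_flatten.1 hm
  have := List.all_eq_true.1 (List.all_eq_true.1 syl_valid r hr) _ hP
  simp only [Bool.and_eq_true, Nat.beq_eq] at this
  exact this

theorem idP_zero : get32 sylP 0 = idP := by
  have h := syl_head
  rwa [Nat.beq_eq] at h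

theorem step {n : ℕ} (hn : n < 1024) (h0 : n ≠ 0) :
    ∃ m k, m < n ∧ k < gsP.length ∧ get32 sylP n = pcomp (gsP.getD k 0) (get32 sylP m) := by
  obtain ⟨hl, hp, hg, -⟩ := syl_sizes
  have hlen : n < (List.zip sylP.flatten (List.zip sylPar sylGen)).zipIdx.length := by
    rw [List.length_zipIdx, List.length_zip, List.length_zip, hl, hp, hg]
    omega
  have := List.all_eq_true.1 syl_tree _ (List.getElem_mem hlen)
  rw [List.getElem_zipIdx, List.getElem_zip, List.getElem_zip] at this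
  simp only [Nat.zero_add, Bool.or_eq_true, Bool.and_eq_true, Nat.beq_eq, Nat.blt_eq] at this
  obtain ⟨⟨h1, h2⟩, h3⟩ := this.resolve_left h0
  refine ⟨_, _, h1, h2, ?_⟩
  rw [← h3, List.getElem_of_eq flat (by omega), List.getElem_map, List.getElem_range]

theorem gs_getD {k : ℕ} (hk : k < gsP.length) : gsP.getD k 0 ∈ gsP := by
  rw [List.getD_eq_getElem _ _ hk]
  exact List.getElem_mem hk

theorem sy_spec : ∀ n < 1024, permOf (get32 sylP n) ∈ M24 ∧ sy n ∈ SM := by
  intro n
  induction n using Nat.strong_induction_on with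
  | _ n ih =>
    intro hn
    rcases eq_or_ne n 0 with rfl | h0
    · have e : permOf (get32 sylP 0) = 1 := by rw [idP_zero, permOf_idP]
      refine ⟨e ▸ one_mem _, ?_⟩
      rw [show sy 0 = 1 from Subtype.ext ((el_val (e ▸ one_mem _)).trans e)]
      exact one_mem _
    · obtain ⟨m, k, hm, hk, e⟩ := step hn h0
      have hg := gs_good (gs_getD hk)
      obtain ⟨h1, h2⟩ := ih m hm (hm.trans hn)
      have e2 : permOf (get32 sylP n) = permOf (gsP.getD k 0) * permOf (get32 sylP m) :=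
        permOf_pcomp (valid_of_good hg) (sy_valid (hm.trans hn)).1 (sy_valid hn).1 e
      have h3 : permOf (get32 sylP n) ∈ M24 := e2 ▸ mul_mem (permOf_mem_M24 hg) h1
      refine ⟨h3, ?_⟩
      rw [show sy n = el (gsP.getD k 0) * sy m from Subtype.ext (by
        rw [Subgroup.coe_mul, sy, sy, el_val h3, el_val h1, el_good hg, e2])]
      exact mul_mem (Subgroup.subset_closure ⟨_, gs_getD hk, rfl⟩) h2

theorem sy_val {n : ℕ} (hn : n < 1024) : (sy n : Equiv.Perm GolayPt) = permOf (get32 sylP n) :=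
  el_val (sy_spec n hn).1

theorem left_mul {P : ℕ} (hP : P ∈ gsP) {n : ℕ} (hn : n < 1024) :
    ∃ m < 1024, el P * sy n = sy m := by
  obtain ⟨k, hk, rfl⟩ := List.getElem_of_mem hP
  obtain ⟨hl, -, -, -, hnx, -, -, hrow⟩ := syl_sizes
  have hz : k < (List.zip gsP sylNext).length := by rw [List.length_zip, hnx]; simpa using hk
  have h := sameList_iff (List.all_eq_true.1 syl_closed _ (List.getElem_mem hz))
  rw [List.getElem_zip] at h
  have hkn : k < sylNext.length := hnx ▸ hk
  have hr := List.all_eq_true.1 hrow _ (List.getElem_mem hkn)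
  simp only [Bool.and_eq_true, Nat.beq_eq, List.all_eq_true, Nat.blt_eq] at hr
  have hnn : n < (sylNext[k]'hkn).length := by rw [hr.1]; exact hn
  have hm : (sylNext[k]'hkn)[n]'hnn < 1024 := hr.2 _ (List.getElem_mem hnn)
  refine ⟨_, hm, Subtype.ext ?_⟩
  have e := List.getElem_of_eq h (i := n) (by rw [List.length_map, hl]; omega)
  rw [List.getElem_map, List.getElem_map, List.getElem_of_eq flat (by omega), List.getElem_map,
    List.getElem_range] at e
  rw [Subgroup.coe_mul, sy_val hn, sy_val hm, el_good (gs_good hP)]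
  exact (permOf_pcomp (valid_of_good (gs_good hP)) (sy_valid hn).1 (sy_valid hm).1 e.symm).symm

theorem mem_SM {g : ↥M24} (hg : g ∈ SM) : ∃ n < 1024, sy n = g := by
  induction hg using Subgroup.closure_induction_left with
  | one => exact ⟨0, by norm_num, Subtype.ext (by rw [sy_val (by norm_num), idP_zero, permOf_idP]; rfl)⟩
  | mul_left x hx y _ ih =>
    obtain ⟨P, hP, rfl⟩ := hx
    obtain ⟨n, hn, rfl⟩ := ih
    obtain ⟨m, hm, e⟩ := left_mul hP hn
    exact ⟨m, hm, e.symm⟩
  | inv_mul_cancel x hx y _ ih =>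
    have key : ∀ j : ℕ, ∃ n < 1024, sy n = x ^ j * y := by
      intro j
      induction j with
      | zero => simpa using ih
      | succ j ihj =>
        obtain ⟨P, hP, rfl⟩ := hx
        obtain ⟨n, hn, e⟩ := ihj
        obtain ⟨m, hm, e'⟩ := left_mul hP hn
        exact ⟨m, hm, by rw [← e', e, pow_succ', mul_assoc]⟩
    obtain ⟨n, hn, e⟩ := key (orderOf x - 1)
    refine ⟨n, hn, e.trans ?_⟩
    congr 1
    refine eq_inv_of_mul_eq_one_left ?_
    rw [← pow_succ, Nat.sub_add_cancel (orderOf_pos x), pow_orderOf_eq_one]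

theorem nodup_of_nodupB : ∀ {l : List ℕ}, nodupB l = true → l.Nodup
  | [], _ => List.nodup_nil
  | a :: l, h => by
    rw [nodupB, Bool.and_eq_true, List.all_eq_true] at h
    refine List.nodup_cons.2 ⟨fun ha => ?_, nodup_of_nodupB h.2⟩
    have := h.1 a ha
    simp at this

theorem keys_nodup : (sylP.flatten.map sylKey).Nodup := by
  rw [List.nodup_iff_count_le_one]
  intro a
  have h := nodup_of_nodupB (List.all_eq_true.1 syl_nodup (a % 31)
    (List.mem_range.2 (Nat.mod_lt _ (by norm_num))))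
  rw [List.nodup_iff_count_le_one] at h
  have := h a
  rwa [List.count_filter (by simp)] at this

theorem sy_inj {n m : ℕ} (hn : n < 1024) (hm : m < 1024) (h : sy n = sy m) : n = m := by
  have hp : ∀ i < 24, pimg (get32 sylP n) i = pimg (get32 sylP m) i := by
    intro i hi
    have e := congrArg (fun g : ↥M24 => idx ((g : Equiv.Perm GolayPt) (pt i))) h
    simp only [sy_val hn, sy_val hm, permOf_apply (sy_valid hn).1, permOf_apply (sy_valid hm).1,
      pfun, idx_pt hi] at e
    rwa [idx_pt (pimg_lt (sy_valid hn).1 hi), idx_pt (pimg_lt (sy_valid hm).1 hi)] at e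
  have hk : sylKey (get32 sylP n) = sylKey (get32 sylP m) := by
    simp only [sylKey, hp 0 (by norm_num), hp 1 (by norm_num), hp 2 (by norm_num), hp 3 (by norm_num),
      hp 4 (by norm_num), hp 5 (by norm_num), hp 12 (by norm_num), hp 14 (by norm_num)]
  have hnd := keys_nodup
  rw [flat, List.map_map] at hnd
  refine (List.Nodup.getElem_inj_iff hnd (hi := by simpa using hn) (hj := by simpa using hm)).1 ?_
  simp only [List.getElem_map, List.getElem_range, Function.comp_apply, hk]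

theorem card_SM : Nat.card SM = 1024 := by
  let f : Fin 1024 → ↥SM := fun n => ⟨sy n, (sy_spec n n.2).2⟩
  rw [← Nat.card_congr (Equiv.ofBijective f ⟨fun a b h =>
      Fin.ext (sy_inj a.2 b.2 (congrArg Subtype.val h)),
    fun x => by obtain ⟨n, hn, e⟩ := mem_SM x.2; exact ⟨⟨n, hn⟩, Subtype.ext e⟩⟩), Nat.card_fin]

/-- the involutions -/
noncomputable def iv (i : ℕ) : ↥M24 := el (invP.getD i 0)

theorem iv_good {i : ℕ} (hi : i < 191) : good (invP.getD i 0) = true := by
  have hl : i < invP.length := invP_length.1.symm ▸ hi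
  rw [List.getD_eq_getElem _ _ hl]
  exact List.all_eq_true.1 invP_good _ (List.getElem_mem hl)

theorem iv_val {i : ℕ} (hi : i < 191) : (iv i : Equiv.Perm GolayPt) = permOf (invP.getD i 0) :=
  el_good (iv_good hi)

theorem iv_cover {g : ↥M24} (hg : g ∈ SM) (h1 : g ≠ 1) (hsq : g * g = 1) : ∃ i < 191, iv i = g := by
  obtain ⟨n, hn, rfl⟩ := mem_SM hg
  obtain ⟨hv, -⟩ := sy_valid hn
  obtain ⟨hl, -, -, hi, -⟩ := syl_sizes
  have hz : n < (List.zip sylP.flatten sylInv).length := by rw [List.length_zip, hl, hi]; omega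
  have h := List.all_eq_true.1 syl_inv _ (List.getElem_mem hz)
  rw [List.getElem_zip] at h
  simp only [Bool.or_eq_true, Bool.and_eq_true, Nat.beq_eq, Nat.blt_eq, Bool.not_eq_true',
    List.getElem_of_eq flat (i := n) (by omega), List.getElem_map, List.getElem_range] at h
  rcases h with (h | h) | ⟨hlt, h⟩
  · exact absurd (Subtype.ext (by rw [sy_val hn, h, permOf_idP]; rfl)) h1
  · refine absurd ?_ (Nat.ne_of_beq_eq_false h)
    refine congrArg horner ((List.map_congr_left fun i hi => ?_).trans (List.map_id _))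
    have e := congrArg (fun g : ↥M24 => idx ((g : Equiv.Perm GolayPt) (pt i))) hsq
    simp only [Subgroup.coe_mul, sy_val hn, Equiv.Perm.mul_apply, permOf_apply hv, pfun,
      idx_pt (mem_pts.1 hi), idx_pt (pimg_lt hv (mem_pts.1 hi)), Subgroup.coe_one, Equiv.Perm.coe_one,
      id_eq] at e
    rwa [idx_pt (pimg_lt hv (pimg_lt hv (mem_pts.1 hi)))] at e
  · exact ⟨_, hlt, Subtype.ext (by rw [iv_val hlt, sy_val hn, h])⟩

theorem iv_table {i j : ℕ} (hi : i < 191) (hj : j < 191) (hne : iv i ≠ iv j)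
    (hc : iv i * iv j = iv j * iv i) :
    (invNbs.getD i 0).testBit j = true ∧ byte (invRows.getD i 0) j < 191 ∧
      iv i * iv j = iv (byte (invRows.getD i 0) j) := by
  have hij : i ≠ j := fun e => hne (e ▸ rfl)
  obtain ⟨hl1, hl2, hl3⟩ := invP_length
  have hall : (List.zip invP (List.zip invRows invNbs)).zipIdx.all invRow = true := by
    rw [← List.take_append_drop 64 (List.zip invP (List.zip invRows invNbs)).zipIdx, List.all_append,
      inv_rows_lo, ← List.take_append_drop 64 (List.drop 64 _), List.all_append, inv_rows_mid,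
      inv_rows_hi]
    rfl
  have hz : i < (List.zip invP (List.zip invRows invNbs)).zipIdx.length := by
    rw [List.length_zipIdx, List.length_zip, List.length_zip, hl1, hl2, hl3]; omega
  have h := List.all_eq_true.1 hall _ (List.getElem_mem hz)
  rw [List.getElem_zipIdx, List.getElem_zip, List.getElem_zip, Nat.zero_add] at h
  have hm : (invP.getD j 0, j) ∈ invP.zipIdx := by
    rw [List.getD_eq_getElem _ _ (hl1.symm ▸ hj), List.mem_zipIdx_iff_getElem?]
    exact List.getElem?_eq_getElem _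
  have h := List.all_eq_true.1 h _ hm
  simp only [Bool.or_eq_true, Bool.and_eq_true, Nat.beq_eq, Nat.blt_eq, Bool.not_eq_true'] at h
  rw [← List.getD_eq_getElem invP 0, ← List.getD_eq_getElem invRows 0,
    ← List.getD_eq_getElem invNbs 0] at h
  have hvi := valid_of_good (iv_good hi)
  have hvj := valid_of_good (iv_good hj)
  rcases h with (h | h) | ⟨⟨h1, h2⟩, h3⟩
  · exact absurd h hij
  · exfalso
    rw [commP, List.all_eq_false] at h
    obtain ⟨x, hx, h⟩ := h
    refine h ?_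
    rw [Nat.beq_eq]
    have e := congrArg (fun g : ↥M24 => idx ((g : Equiv.Perm GolayPt) (pt x))) hc
    simp only [Subgroup.coe_mul, iv_val hi, iv_val hj, Equiv.Perm.mul_apply, permOf_apply hvi,
      permOf_apply hvj, pfun, idx_pt (mem_pts.1 hx), idx_pt (pimg_lt hvi (mem_pts.1 hx)),
      idx_pt (pimg_lt hvj (mem_pts.1 hx))] at e
    rwa [idx_pt (pimg_lt hvi (pimg_lt hvj (mem_pts.1 hx))),
      idx_pt (pimg_lt hvj (pimg_lt hvi (mem_pts.1 hx)))] at e
  · exact ⟨h1, h2, Subtype.ext (by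
      rw [Subgroup.coe_mul, iv_val hi, iv_val hj, iv_val h2]
      exact (permOf_pcomp hvi hvj (valid_of_good (iv_good h2)) h3.symm).symm)⟩

theorem fix_getD {j : ℕ} (hj : j < 191) : invFix.getD j 0 = fixSet (invP.getD j 0) := by
  have hl : j < invP.length := invP_length.1.symm ▸ hj
  rw [invFix, List.getD_eq_getElem _ _ (by rwa [List.length_map]), List.getElem_map,
    List.getD_eq_getElem _ _ hl]

variable {G : Type u} [Group G] [Finite G]

local notation "N[" W "]" => Subgroup.normalizer (SetLike.coe W)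

variable {z : G} {V K : Subgroup G} {φ : ↥(Subgroup.normalizer (V : Set G)) →* ↥M24}
  {cl : (GolayPt → ZMod 2) → G}

/-- the Sylow subgroup -/
noncomputable def T (_hc : Ctx z V K φ cl) : Subgroup G :=
  (SM.comap φ).map (Subgroup.normalizer (V : Set G)).subtype

variable (hc : Ctx z V K φ cl)
include hc

theorem mem_T {x : G} : x ∈ T hc ↔ ∃ h : x ∈ N[V], φ ⟨x, h⟩ ∈ SM :=
  ⟨fun ⟨y, hy, e⟩ => e ▸ ⟨y.2, hy⟩, fun ⟨h, hx⟩ => ⟨⟨x, h⟩, hx, rfl⟩⟩

theorem le_T : V ≤ T hc := fun _ hx =>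
  (mem_T hc).2 ⟨Subgroup.le_normalizer hx,
    ((hc.lab.ker ⟨_, Subgroup.le_normalizer hx⟩).2 hx).symm ▸ one_mem _⟩

theorem card_N : Nat.card ↥(N[V]) = 2 ^ 11 * 244823040 := by
  have hker : φ.ker = V.subgroupOf N[V] := by
    ext m
    rw [MonoidHom.mem_ker, Subgroup.mem_subgroupOf, hc.lab.ker]
  rw [← Subgroup.card_mul_index φ.ker, Subgroup.index_ker,
    MonoidHom.range_eq_top.2 hc.lab.surj, Subgroup.card_top, GolayM24.card_M24, hker,
    Nat.card_congr (Subgroup.subgroupOfEquivOfLe Subgroup.le_normalizer).toEquiv, hc.card]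

theorem card_T : Nat.card (T hc) = 2 ^ 21 := by
  rw [T, Subgroup.card_map_of_injective (Subgroup.subtype_injective _)]
  have h1 := Subgroup.card_mul_index (SM.comap φ)
  rw [Subgroup.index_comap_of_surjective _ hc.lab.surj, card_N hc] at h1
  have h2 := Subgroup.card_mul_index SM
  rw [card_SM, GolayM24.card_M24] at h2
  have h3 : SM.index = 239085 := by omega
  rw [h3] at h1
  omega

theorem T_odd : ¬ 2 ∣ (T hc).index := by
  intro h
  have h1 := Subgroup.card_mul_index (T hc)
  have h2 := Subgroup.card_mul_index N[V]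
  rw [card_N hc] at h2
  rw [card_T hc, ← h2] at h1
  have key : ∀ a b : ℕ, 2 ^ 21 * a = 2 ^ 11 * 244823040 * b → a = 239085 * b := fun a b e => by
    norm_num at e
    omega
  rw [key _ _ h1] at h
  exact hc.n_odd ((Nat.Prime.dvd_mul Nat.prime_two).1 h |>.resolve_left (by norm_num))

/-- every 2-subgroup is conjugate into the Sylow subgroup -/
theorem exists_into {P : Subgroup G} (hP : IsPGroup 2 P) :
    ∃ g : G, P.map (MulAut.conj g).toMonoidHom ≤ T hc := by
  haveI : Fact (Nat.Prime 2) := ⟨Nat.prime_two⟩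
  obtain ⟨Q, hQ⟩ := hP.exists_le_sylow
  obtain ⟨g, hg⟩ := MulAction.exists_smul_eq G Q
    ((IsPGroup.of_card (card_T hc)).toSylow (T_odd hc))
  refine ⟨g, fun x hx => ?_⟩
  obtain ⟨y, hy, rfl⟩ := hx
  have : g * y * g⁻¹ ∈ ((g • Q : Sylow 2 G) : Subgroup G) := ⟨y, hQ hy, rfl⟩
  rw [hg] at this
  exact this

/-- the key property: one class below the Sylow subgroup -/
theorem star {B : Subgroup G} (hBT : B ≤ T hc) (hab : ∀ x ∈ B, ∀ y ∈ B, x * y = y * x)
    (hsq : ∀ x ∈ B, x * x = 1) (hcard : Nat.card B = 2 ^ 10) (hV : ¬ B ≤ V) :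
    ∃ v ∈ V, B = (AT hc).map (MulAut.conj v).toMonoidHom := by
  classical
  have hBN : B ≤ N[V] := fun x hx => ((mem_T hc).1 (hBT hx)).1
  let f : ↥B →* ↥M24 := φ.comp (Subgroup.inclusion hBN)
  have hWS : ∀ x ∈ f.range, x ∈ SM := by
    rintro _ ⟨b, rfl⟩
    exact ((mem_T hc).1 (hBT b.2)).2
  obtain ⟨span, U, hleaf, hspan, hcov, hU⟩ := J4TenWalk30.walk_sound iv f.range
    (fun c => c < 2048 ∧ psi cl c ∈ B)
    (fun x hx h1 => iv_cover (hWS x hx) h1 (by
      obtain ⟨b, rfl⟩ := hx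
      rw [← map_mul, show b * b = 1 from Subtype.ext (hsq b b.2), map_one]))
    (by rintro _ ⟨a, rfl⟩ _ ⟨b, rfl⟩
        rw [← map_mul, ← map_mul, show a * b = b * a from Subtype.ext (hab a a.2 b b.2)])
    (by rintro _ ⟨a, rfl⟩
        rw [← map_mul, show a * a = 1 from Subtype.ext (hsq a a.2), map_one])
    (fun i hi j hj => iv_table hi hj)
    (fun c ⟨hc2, hcB⟩ j hj ⟨b, hb⟩ => by
      rw [fix_getD hj]
      refine fixSet_bit hc2 (psi_inj hc (act_lt (valid_of_good (iv_good hj)) _) hc2 ?_)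
      rw [← conj_psi hc ⟨(b : G), hBN b.2⟩ (valid_of_good (iv_good hj))
        ((congrArg Subtype.val hb).trans (iv_val hj)) hc2]
      show (b : G) * psi cl c * (b : G)⁻¹ = _
      rw [hab _ b.2 _ hcB, mul_inv_cancel_right])
    (fun c hc' => hc'.1)
  -- the kernel part is small
  let s : Finset ℕ := (Finset.range 2048).filter fun c => psi cl c ∈ B
  have hker : Nat.card f.ker ≤ s.card := by
    rw [← Nat.card_eq_finsetCard]
    refine Nat.card_le_card_of_surjective (fun c : s => (⟨⟨psi cl c.1, (Finset.mem_filter.1 c.2).2⟩,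
      (hc.lab.ker ⟨_, hBN (Finset.mem_filter.1 c.2).2⟩).2 (psi_mem hc _)⟩ : f.ker)) ?_
    rintro ⟨⟨x, hxB⟩, hx⟩
    obtain ⟨i, hi, e⟩ := psi_surj hc ((hc.lab.ker ⟨x, hBN hxB⟩).1 hx)
    exact ⟨⟨i, Finset.mem_filter.2 ⟨Finset.mem_range.2 hi, e.symm ▸ hxB⟩⟩,
      Subtype.ext (Subtype.ext e)⟩
  have hprod : Nat.card f.ker * Nat.card f.range = 2 ^ 10 := by
    rw [← hcard, ← Subgroup.card_mul_index f.ker, Subgroup.index_ker]
  have hrange : Nat.card f.range ≤ span.length + 1 := by
    have h1 : ((insert 1 (span.map iv).toFinset : Finset ↥M24)).card ≤ span.length + 1 := by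
      refine (Finset.card_insert_le _ _).trans (Nat.add_le_add_right ?_ 1)
      exact (List.toFinset_card_le _).trans (by simp)
    refine le_trans ?_ h1
    rw [← Nat.card_eq_finsetCard]
    refine Nat.card_le_card_of_injective (fun x : f.range => ⟨x.1, ?_⟩)
      fun a b h => Subtype.ext (Subtype.ext_iff.1 h :)
    rcases eq_or_ne x.1 1 with h | h
    · exact Finset.mem_insert.2 (Or.inl h)
    · obtain ⟨i, hi, e⟩ := hcov x.1 x.2 h
      exact Finset.mem_insert.2 (Or.inr (List.mem_toFinset.2 (List.mem_map.2 ⟨i, hi, e⟩)))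
  simp only [leafT, Bool.or_eq_true, Bool.and_eq_true, Nat.beq_eq, List.all_eq_true, List.any_eq_true]
    at hleaf
  rcases hleaf with (h0 | ⟨⟨h15, hq⟩, hqi⟩) | hpop
  · refine absurd (fun x hx => (hc.lab.ker ⟨x, hBN hx⟩).1 ?_) hV
    by_contra hne
    obtain ⟨i, hi, -⟩ := hcov _ ⟨⟨x, hx⟩, rfl⟩ hne
    rw [List.length_eq_zero_iff.1 h0] at hi
    simp at hi
  swap
  · have hs := card_le_of_popLe _ _ hpop s fun c hc' =>
      hU c ⟨Finset.mem_range.1 (Finset.mem_filter.1 hc').1, (Finset.mem_filter.1 hc').2⟩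
    have h1 := Nat.mul_le_mul (hker.trans hs) hrange
    rw [hprod] at h1
    have h2 := h1.trans (Nat.div_mul_le_self _ _)
    norm_num at h2
  -- the translations of an octad
  have hWq : ∀ x ∈ f.range, ∃ a < 16, qe a = x := by
    intro x hx
    rcases eq_or_ne x 1 with rfl | h
    · exact ⟨0, by norm_num, qe_zero⟩
    obtain ⟨i, hi, rfl⟩ := hcov x hx h
    have hb : qBits.testBit i = true := hq i hi
    rw [qBits, testBit_foldr_lor, List.any_eq_true] at hb
    obtain ⟨h', hh', hb⟩ := hb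
    rw [show Nat.shiftLeft 1 h' = 2 ^ h' from Nat.one_shiftLeft _, Nat.testBit_two_pow,
      decide_eq_true_eq] at hb
    subst hb
    have := List.all_eq_true.1 q_idx _ hh'
    rw [List.any_eq_true] at this
    obtain ⟨P, hP, e⟩ := this
    rw [Nat.beq_eq] at e
    obtain ⟨a, ha, rfl⟩ := List.getElem_of_mem hP
    exact ⟨a, q_hom.2.1 ▸ ha, by rw [qe, iv, ← e, List.getD_eq_getElem _ _ ha]⟩
  have hqW : ∀ a < 16, qe a ∈ f.range := by
    intro a ha
    have hl : a < qelP.length := q_hom.2.1.symm ▸ ha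
    have := List.all_eq_true.1 q_all _ (List.getElem_mem hl)
    simp only [Bool.or_eq_true, Nat.beq_eq, List.any_eq_true] at this
    rcases this with h | ⟨i, hi, e⟩
    · rw [show qe a = 1 from Subtype.ext (by
        rw [qe, el_good (qel_good ha), List.getD_eq_getElem _ _ hl, h, permOf_idP]; rfl)]
      exact one_mem _
    · obtain ⟨k, hk, rfl⟩ := hqi i hi
      rw [show qe a = iv i by rw [qe, iv, List.getD_eq_getElem _ _ hl, e]]
      exact (hspan i hk).2.1
  have hr16 : Nat.card f.range = 16 := by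
    let g : Fin 16 → ↥f.range := fun a => ⟨qe a, hqW a a.2⟩
    rw [← Nat.card_congr (Equiv.ofBijective g ⟨fun a b h =>
        Fin.ext (qe_inj a.2 b.2 (congrArg Subtype.val h)),
      fun x => by obtain ⟨a, ha, e⟩ := hWq x.1 x.2; exact ⟨⟨a, ha⟩, Subtype.ext e⟩⟩), Nat.card_fin]
  -- lifts
  have hlift : ∀ a < 16, ∃ v < 2048, psi cl v * sig hc (qe a) ∈ B := by
    intro a ha
    obtain ⟨b, hb⟩ := hqW a ha
    obtain ⟨w, hw, e⟩ := decomp hc ⟨(b : G), hBN b.2⟩
    obtain ⟨v, hv, rfl⟩ := psi_surj hc hw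
    change φ ⟨(b : G), hBN b.2⟩ = qe a at hb
    rw [hb] at e
    exact ⟨v, hv, e.symm ▸ b.2⟩
  -- the kernel part is the fixed space
  have hsU : ∀ c ∈ s, uBits.testBit c = true := by
    intro c hc'
    obtain ⟨hc2, hcB⟩ := Finset.mem_filter.1 hc'
    refine fixed_u hc (Finset.mem_range.1 hc2) fun a ha => ?_
    obtain ⟨v, hv, hvB⟩ := hlift a ha
    have h1 := hab _ hvB _ hcB
    rw [mul_assoc, ← mul_assoc (psi cl c), hc.lab.comm _ (psi_mem hc c) _ (psi_mem hc v),
      mul_assoc] at h1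
    exact mul_left_cancel h1
  have hU64 : ∀ x < 64, psi cl (uCode x) ∈ B := by
    have hsub : s ⊆ (Finset.range 64).image uCode := fun c hc' => by
      obtain ⟨x, hx, e⟩ := uBits_iff.1 (hsU c hc')
      exact Finset.mem_image.2 ⟨x, Finset.mem_range.2 hx, e⟩
    have heq : s = (Finset.range 64).image uCode := by
      refine Finset.eq_of_subset_of_card_le hsub ?_
      have := Finset.card_image_le (s := Finset.range 64) (f := uCode)
      rw [Finset.card_range] at this
      rw [hr16] at hprod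
      omega
    intro x hx
    have hm : uCode x ∈ s := heq ▸ Finset.mem_image_of_mem _ (Finset.mem_range.2 hx)
    exact (Finset.mem_filter.1 hm).2
  -- coordinates of the lifts modulo the fixed space
  choose! vl hvl hvlB using hlift
  have hxor : ∀ {a b c : ℕ}, Nat.xor a b = c → Nat.xor c b = a := by
    intro a b c h
    rw [← h]
    exact Nat.xor_xor_cancel_right a b
  have hsqfix : ∀ a < 16, act (qelP.getD a 0) (vl a) = vl a := by
    intro a ha
    have h1 := hsq _ (hvlB a ha)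
    have h2 : psi cl (vl a) * sig hc (qe a) * (psi cl (vl a) * sig hc (qe a)) =
        psi cl (Nat.xor (vl a) (act (qelP.getD a 0) (vl a))) * sig hc (qe a * qe a) := by
      rw [psi_xor hc, ← conj_qe hc ha (hvl a ha), map_mul]; group
    rw [h2, show qe a * qe a = 1 by rw [← qe_mul ha ha, show Nat.xor a a = 0 from Nat.xor_self a,
      qe_zero], map_one, mul_one] at h1
    have hlt := act_lt (P := qelP.getD a 0) (qel_valid ha).1 (vl a)
    exact (Nat.xor_eq_zero_iff.1
      (psi_inj hc (xor_lt (hvl a ha) hlt) (by norm_num) (h1.trans (psi_zero hc).symm))).symm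
  have hcomm : ∀ a < 16, ∀ b < 16, dEl b (vl a) = dEl a (vl b) := by
    intro a ha b hb
    have hmul : ∀ a < 16, ∀ b < 16, psi cl (vl a) * sig hc (qe a) * (psi cl (vl b) * sig hc (qe b)) =
        psi cl (Nat.xor (vl a) (act (qelP.getD a 0) (vl b))) * sig hc (qe (Nat.xor a b)) := by
      intro a ha b hb
      rw [psi_xor hc, ← conj_qe hc ha (hvl b hb), qe_mul ha hb, map_mul]; group
    have h1 := hab _ (hvlB a ha) _ (hvlB b hb)
    rw [hmul a ha b hb, hmul b hb a ha, show Nat.xor b a = Nat.xor a b from Nat.xor_comm b a] at h1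
    have h2 := psi_inj hc (xor_lt (hvl a ha) (act_lt (qel_valid ha).1 _))
      (xor_lt (hvl b hb) (act_lt (qel_valid hb).1 _)) (mul_right_cancel h1)
    show (act (qelP.getD b 0) (vl a) ^^^ vl a) = (act (qelP.getD a 0) (vl b) ^^^ vl b)
    change (vl a ^^^ act (qelP.getD a 0) (vl b)) = (vl b ^^^ act (qelP.getD b 0) (vl a)) at h2
    apply Nat.eq_of_testBit_eq
    intro k
    have h3 := congrArg (fun n => n.testBit k) h2
    simp only [Nat.testBit_xor] at h3 ⊢
    revert h3
    cases (vl a).testBit k <;> cases (vl b).testBit k <;>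
      cases (act (qelP.getD a 0) (vl b)).testBit k <;>
      cases (act (qelP.getD b 0) (vl a)).testBit k <;> simp
  have hdU : ∀ a < 16, ∀ c, uBits.testBit c = true → act (qelP.getD a 0) c = c := by
    intro a ha c hcu
    obtain ⟨x, hx, rfl⟩ := uBits_iff.1 hcu
    have hl : a < qelP.length := q_hom.2.1.symm ▸ ha
    have := List.all_eq_true.1 u_fixed x (List.mem_range.2 hx)
    simp only [Bool.and_eq_true, List.all_eq_true, Nat.beq_eq] at this
    rw [List.getD_eq_getElem _ _ hl]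
    exact this.2 _ (List.getElem_mem hl)
  have hsel : ∀ k < 4, uBits.testBit (vl (2 ^ k)) = true ∨
      uBits.testBit (Nat.xor (vl (2 ^ k)) (liftRep k)) = true := by
    intro k hk
    have h16 : 2 ^ k < 16 := by interval_cases k <;> norm_num
    have := List.all_eq_true.1 (List.all_eq_true.1 lift_cover k (List.mem_range.2 hk)) (vl (2 ^ k))
      (List.mem_range.2 (hvl _ h16))
    simp only [Bool.or_eq_true, Bool.not_eq_true'] at this
    rcases this with (h | h) | h
    · exact absurd (hsqfix _ h16) (Nat.ne_of_beq_eq_false h)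
    · exact Or.inl h
    · exact Or.inr h
  let e : ℕ := (List.range 4).foldr
    (fun k r => Nat.lor (if uBits.testBit (vl (2 ^ k)) then 0 else Nat.shiftLeft 1 k) r) 0
  have he : ∀ k < 4, uBits.testBit (Nat.xor (vl (2 ^ k)) (liftSel e k)) = true := by
    intro k hk
    have hek : e.testBit k = !uBits.testBit (vl (2 ^ k)) := by
      rw [show e = _ from rfl, testBit_foldr_lor]
      apply Bool.eq_iff_iff.2
      rw [List.any_eq_true]
      constructor
      · rintro ⟨j, -, h⟩
        split at h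
        · simp at h
        · rename_i hu
          rw [show Nat.shiftLeft 1 j = 2 ^ j from Nat.one_shiftLeft _, Nat.testBit_two_pow,
            decide_eq_true_eq] at h
          subst h
          simpa using hu
      · intro h
        refine ⟨k, List.mem_range.2 hk, ?_⟩
        rw [Bool.not_eq_true'] at h
        rw [h]
        show (1 <<< k).testBit k = true
        rw [Nat.one_shiftLeft, Nat.testBit_two_pow_self]
    rw [liftSel, hek]
    cases hu : uBits.testBit (vl (2 ^ k))
    · exact (hsel k hk).resolve_left (by simp [hu])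
    · simpa [show ∀ a, Nat.xor a 0 = a from Nat.xor_zero] using hu
  have he16 : e < 16 := by
    refine Nat.lt_pow_two_of_testBit (n := 4) e fun i hi => ?_
    rw [show e = _ from rfl, testBit_foldr_lor, List.any_eq_false]
    intro j hj
    rw [List.mem_range] at hj
    split
    · simp
    · rw [show Nat.shiftLeft 1 j = 2 ^ j from Nat.one_shiftLeft _, Nat.testBit_two_pow,
        decide_eq_true_eq]
      omega
  have hdlin : ∀ a b c, dEl a (Nat.xor b c) = Nat.xor (dEl a b) (dEl a c) := by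
    intro a b c
    show (act (qelP.getD a 0) (b ^^^ c) ^^^ (b ^^^ c)) =
      ((act (qelP.getD a 0) b ^^^ b) ^^^ (act (qelP.getD a 0) c ^^^ c))
    rw [show act (qelP.getD a 0) (b ^^^ c) =
      act (qelP.getD a 0) b ^^^ act (qelP.getD a 0) c from combo_xor _ b c]
    apply Nat.eq_of_testBit_eq
    intro k
    simp only [Nat.testBit_xor]
    cases (act (qelP.getD a 0) b).testBit k <;> cases b.testBit k <;>
      cases (act (qelP.getD a 0) c).testBit k <;> cases c.testBit k <;> rfl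
  have hdsel : ∀ k < 4, ∀ j < 4, dEl (2 ^ j) (vl (2 ^ k)) = dEl (2 ^ j) (liftSel e k) := by
    intro k hk j hj
    have h16 : 2 ^ j < 16 := by interval_cases j <;> norm_num
    have h1 := hdlin (2 ^ j) (vl (2 ^ k)) (liftSel e k)
    rw [show dEl (2 ^ j) (Nat.xor (vl (2 ^ k)) (liftSel e k)) = 0 from by
      show Nat.xor _ _ = 0
      rw [hdU _ h16 _ (he k hk)]
      exact Nat.xor_self _] at h1
    exact Nat.xor_eq_zero_iff.1 h1.symm
  have hlin := List.all_eq_true.1 lift_inner e (List.mem_range.2 he16)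
  simp only [Bool.or_eq_true, List.any_eq_true, List.all_eq_true, List.mem_range, Bool.not_eq_true']
    at hlin
  rcases hlin with ⟨i, hi, j, hj, hne⟩ | ⟨v, hv, hvk⟩
  · refine absurd ?_ (Nat.ne_of_beq_eq_false hne)
    rw [← hdsel i hi j hj, ← hdsel j hj i hi]
    exact hcomm _ (by interval_cases i <;> norm_num) _ (by interval_cases j <;> norm_num)
  -- conclusion
  refine ⟨psi cl v, psi_mem hc v, ?_⟩
  set C := (AT hc).map (MulAut.conj (psi cl v)).toMonoidHom with hC
  have hCu : ∀ x < 64, psi cl (uCode x) ∈ B ⊓ C := fun x hx => ⟨hU64 x hx, Phi hc (Nat.shiftLeft x 4),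
    ⟨_, (by decide +kernel : ∀ x < 64, Nat.shiftLeft x 4 < 1024) x hx, rfl⟩, by
      show psi cl v * Phi hc _ * (psi cl v)⁻¹ = _
      rw [Phi_u hc hx, hc.lab.comm _ (psi_mem hc _) _ (psi_mem hc _), mul_inv_cancel_right]⟩
  have hgen : ∀ k < 4, psi cl (vl (2 ^ k)) * sig hc (qe (2 ^ k)) ∈ B ⊓ C := by
    intro k hk
    have h16 : 2 ^ k < 16 := by interval_cases k <;> norm_num
    refine ⟨hvlB _ h16, ?_⟩
    -- split off the fixed part
    obtain ⟨x, hx, ex⟩ := uBits_iff.1 (show uBits.testBit (Nat.xor (vl (2 ^ k)) (dEl (2 ^ k) v)) = true from by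
      obtain ⟨x, hx, ex⟩ := uBits_iff.1 (he k hk)
      obtain ⟨y, hy, ey⟩ := uBits_iff.1 (hvk k hk)
      refine uBits_iff.2 ⟨Nat.xor x y, Nat.xor_lt_two_pow (n := 6) hx hy, ?_⟩
      rw [uCode_xor, ex, ey]
      show (vl (2 ^ k) ^^^ liftSel e k) ^^^ (liftSel e k ^^^ dEl (2 ^ k) v) = _
      rw [Nat.xor_assoc, Nat.xor_xor_cancel_left]
      rfl)
    have hl : Phi hc (2 ^ k) = sig hc (qe (2 ^ k)) := Phi_q hc h16
    have hmem : psi cl v * sig hc (qe (2 ^ k)) * (psi cl v)⁻¹ ∈ C :=
      ⟨Phi hc (2 ^ k), ⟨_, by omega, rfl⟩, by rw [hl]; rfl⟩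
    have hmem' : psi cl (uCode x) ∈ C := (hCu x hx).2
    have e1 : vl (2 ^ k) = Nat.xor (uCode x) (dEl (2 ^ k) v) := by
      rw [ex]
      exact (Nat.xor_xor_cancel_right _ _).symm
    have e2 : psi cl (dEl (2 ^ k) v) * sig hc (qe (2 ^ k)) =
        psi cl v * sig hc (qe (2 ^ k)) * (psi cl v)⁻¹ := by
      rw [dEl, psi_xor hc, ← conj_qe hc h16 hv,
        inv_eq_of_mul_eq_one_right (hc.lab.sq _ (psi_mem hc v))]
      have h5 : sig hc (qe (2 ^ k)) * psi cl v * (sig hc (qe (2 ^ k)))⁻¹ ∈ V := by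
        rw [conj_qe hc h16 hv]; exact psi_mem hc _
      rw [hc.lab.comm _ h5 _ (psi_mem hc v)]
      group
    rw [e1, psi_xor hc, mul_assoc, e2]
    exact mul_mem hmem' hmem
  -- images
  have himg : ∀ a < 16, ∃ h ∈ B ⊓ C, ∃ hN : h ∈ N[V], φ ⟨h, hN⟩ = qe a := by
    intro a
    induction a using Nat.strong_induction_on with
    | _ a ih =>
      intro ha
      rcases eq_or_ne a 0 with rfl | h0
      · exact ⟨1, one_mem _, one_mem _, by rw [qe_zero]; exact map_one φ⟩
      · have hd : ∀ a < 16, a ≠ 0 → ∃ k < 4, Nat.xor a (2 ^ k) < a := by decide +kernel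
        obtain ⟨k, hk, hlt⟩ := hd a ha h0
        obtain ⟨h, hh, hN, e'⟩ := ih _ hlt (hlt.trans ha)
        have h16 : 2 ^ k < 16 := by interval_cases k <;> norm_num
        have hgN : psi cl (vl (2 ^ k)) * sig hc (qe (2 ^ k)) ∈ N[V] :=
          mul_mem (Subgroup.le_normalizer (psi_mem hc _)) (sig_mem hc _)
        refine ⟨_, mul_mem hh (hgen k hk), mul_mem hN hgN, ?_⟩
        rw [show (⟨_, mul_mem hN hgN⟩ : ↥(N[V])) = ⟨h, hN⟩ *
            (⟨psi cl (vl (2 ^ k)), Subgroup.le_normalizer (psi_mem hc _)⟩ *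
              ⟨sig hc (qe (2 ^ k)), sig_mem hc _⟩) from rfl,
          map_mul, map_mul, (hc.lab.ker ⟨psi cl (vl (2 ^ k)), _⟩).2 (psi_mem hc _), one_mul, phi_sig hc, e',
          ← qe_mul (hlt.trans ha) h16]
        congr 1
        exact Nat.xor_xor_cancel_right _ _
  have hle : B ≤ C := by
    intro b hb
    obtain ⟨a, ha, ea⟩ := hWq _ ⟨⟨b, hb⟩, rfl⟩
    obtain ⟨h, hh, hN, e'⟩ := himg a ha
    have hk : φ (⟨b, hBN hb⟩ * (⟨h, hN⟩ : ↥(N[V]))⁻¹) = 1 := by
      rw [map_mul, map_inv, e', show φ ⟨b, hBN hb⟩ = qe a from ea.symm, mul_inv_cancel]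
    obtain ⟨i, hi, ei⟩ := psi_surj hc ((hc.lab.ker _).1 hk)
    have hiB : psi cl i ∈ B := ei ▸ mul_mem hb (inv_mem hh.1)
    obtain ⟨x, hx, ex⟩ := uBits_iff.1 (hsU i (Finset.mem_filter.2 ⟨Finset.mem_range.2 hi, hiB⟩))
    have : b * h⁻¹ ∈ C := by
      rw [show b * h⁻¹ = psi cl (uCode x) by rw [ex]; exact ei.symm]
      exact (hCu x hx).2
    simpa using mul_mem this hh.2
  refine Subgroup.eq_of_le_of_card_ge hle (le_of_eq ?_)
  rw [hC, Subgroup.card_map_of_injective (MulAut.conj _).injective, card_AT hc, hcard]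

/-- all self-centralising elementary abelian subgroups of order `2 ^ 10` are conjugate -/
theorem conj_AT {B : Subgroup G} (hab : ∀ x ∈ B, ∀ y ∈ B, x * y = y * x) (hsq : ∀ x ∈ B, x * x = 1)
    (hcard : Nat.card B = 2 ^ 10) (hcent : Subgroup.centralizer (B : Set G) ≤ B) :
    ∃ g : G, B = (AT hc).map (MulAut.conj g).toMonoidHom := by
  obtain ⟨g, hg⟩ := exists_into hc (IsPGroup.of_card hcard)
  set B' := B.map (MulAut.conj g).toMonoidHom with hB'
  have hc' : Nat.card B' = 2 ^ 10 := by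
    rw [hB', Subgroup.card_map_of_injective (MulAut.conj g).injective, hcard]
  have hV : ¬ B' ≤ V := by
    intro hle
    have : V ≤ B' := by
      intro v hv
      have h1 : g⁻¹ * v * g ∈ B := hcent (Subgroup.mem_centralizer_iff.2 fun b hb => by
        have h2 := hc.lab.comm _ (hle ⟨b, hb, rfl⟩) v hv
        change g * b * g⁻¹ * v = v * (g * b * g⁻¹) at h2
        calc b * (g⁻¹ * v * g) = g⁻¹ * (g * b * g⁻¹ * v) * g := by group
          _ = g⁻¹ * (v * (g * b * g⁻¹)) * g := by rw [h2]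
          _ = g⁻¹ * v * g * b := by group)
      exact ⟨_, h1, by simp [mul_assoc]⟩
    have := Subgroup.card_le_of_le this
    rw [hc.card, hc'] at this
    norm_num at this
  obtain ⟨v, -, hv⟩ := star hc hg
    (by rintro _ ⟨a, ha, rfl⟩ _ ⟨b, hb, rfl⟩
        rw [← map_mul, ← map_mul, hab a ha b hb])
    (by rintro _ ⟨a, ha, rfl⟩
        rw [← map_mul, hsq a ha, map_one]) hc' hV
  refine ⟨g⁻¹ * v, ?_⟩
  ext x
  constructor
  · intro hx
    have : g * x * g⁻¹ ∈ B' := ⟨x, hx, rfl⟩
    rw [hv] at this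
    obtain ⟨a, ha, e⟩ := this
    change v * a * v⁻¹ = g * x * g⁻¹ at e
    exact ⟨a, ha, show g⁻¹ * v * a * (g⁻¹ * v)⁻¹ = x by
      rw [show g⁻¹ * v * a * (g⁻¹ * v)⁻¹ = g⁻¹ * (v * a * v⁻¹) * g by group, e]; group⟩
  · rintro ⟨a, ha, rfl⟩
    have : v * a * v⁻¹ ∈ B' := hv ▸ ⟨a, ha, rfl⟩
    obtain ⟨b, hb, e⟩ := this
    change g * b * g⁻¹ = v * a * v⁻¹ at e
    show g⁻¹ * v * a * (g⁻¹ * v)⁻¹ ∈ B
    rwa [show g⁻¹ * v * a * (g⁻¹ * v)⁻¹ = g⁻¹ * (v * a * v⁻¹) * g by group, ← e,
      show g⁻¹ * (g * b * g⁻¹) * g = b by group]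

theorem self_cent_map {g : G} :
    ¬ (AT hc).map (MulAut.conj g).toMonoidHom ≤ V := by
  intro hle
  have h : V.map (MulAut.conj g⁻¹).toMonoidHom ≤ AT hc := by
    rintro _ ⟨v, hv, rfl⟩
    show g⁻¹ * v * g⁻¹⁻¹ ∈ AT hc
    rw [inv_inv]
    refine cent_le hc (Subgroup.mem_centralizer_iff.2 fun b hb => ?_)
    have h2 := hc.lab.comm _ (hle ⟨b, hb, rfl⟩) v hv
    change g * b * g⁻¹ * v = v * (g * b * g⁻¹) at h2
    calc b * (g⁻¹ * v * g) = g⁻¹ * (g * b * g⁻¹ * v) * g := by group
      _ = g⁻¹ * (v * (g * b * g⁻¹)) * g := by rw [h2]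
      _ = g⁻¹ * v * g * b := by group
  have := Subgroup.card_le_of_le h
  rw [Subgroup.card_map_of_injective (MulAut.conj g⁻¹).injective, hc.card, card_AT hc] at this
  norm_num at this

/-- the normaliser controls fusion of elements with centraliser of odd index -/
theorem fusion {x x' : G} (hx : x ∈ AT hc) (hx' : x' ∈ AT hc) (hcj : IsConj x x')
    (hodd : ¬ 2 ∣ (Subgroup.centralizer ({x} : Set G)).index) :
    ∃ n ∈ N[AT hc], n * x * n⁻¹ = x' := by
  haveI : Fact (Nat.Prime 2) := ⟨Nat.prime_two⟩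
  obtain ⟨g, hg⟩ := isConj_iff.1 hcj
  set H := Subgroup.centralizer ({x'} : Set G) with hH
  have hHx : ∀ y, y ∈ H ↔ y * x' = x' * y := fun y => Subgroup.mem_centralizer_singleton_iff
  have hA : AT hc ≤ H := fun a ha => (hHx a).2 (AT_comm hc a ha x' hx')
  set B := (AT hc).map (MulAut.conj g).toMonoidHom with hB
  have hBH : B ≤ H := by
    rintro _ ⟨a, ha, rfl⟩
    refine (hHx _).2 ?_
    rw [← hg]
    show g * a * g⁻¹ * (g * x * g⁻¹) = g * x * g⁻¹ * (g * a * g⁻¹)
    rw [show g * a * g⁻¹ * (g * x * g⁻¹) = g * (a * x) * g⁻¹ by group, AT_comm hc a ha x hx]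
    group
  have hoddH : ¬ 2 ∣ H.index := by
    have hmap : H = (Subgroup.centralizer ({x} : Set G)).map (MulAut.conj g).toMonoidHom := by
      ext y
      rw [hHx, Subgroup.mem_map_equiv, Subgroup.mem_centralizer_singleton_iff, MulAut.conj_symm_apply,
        ← hg]
      constructor <;> intro h
      · calc g⁻¹ * y * g * x = g⁻¹ * (y * (g * x * g⁻¹)) * g := by group
          _ = g⁻¹ * ((g * x * g⁻¹) * y) * g := by rw [h]
          _ = x * (g⁻¹ * y * g) := by group
      · calc y * (g * x * g⁻¹) = g * (g⁻¹ * y * g * x) * g⁻¹ := by group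
          _ = g * (x * (g⁻¹ * y * g)) * g⁻¹ := by rw [h]
          _ = g * x * g⁻¹ * y := by group
    rw [hmap, Subgroup.index_map_of_bijective (MulAut.conj g).bijective]
    exact hodd
  have hpA : IsPGroup 2 ↥((AT hc).subgroupOf H) :=
    (IsPGroup.of_card (card_AT hc)).of_equiv (Subgroup.subgroupOfEquivOfLe hA).symm
  have hpB : IsPGroup 2 ↥(B.subgroupOf H) := by
    refine IsPGroup.of_card (n := 10) ?_
    rw [Nat.card_congr (Subgroup.subgroupOfEquivOfLe hBH).toEquiv, hB,
      Subgroup.card_map_of_injective (MulAut.conj g).injective, card_AT hc]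
  obtain ⟨R, hR⟩ := hpA.exists_le_sylow
  obtain ⟨R', hR'⟩ := hpB.exists_le_sylow
  obtain ⟨c, hcR⟩ := MulAction.exists_smul_eq H R' R
  -- the Sylow subgroup of the centraliser is one of the group
  set RG := (R : Subgroup H).map H.subtype with hRG
  have hRp : IsPGroup 2 RG := R.2.map _
  obtain ⟨h, hh⟩ := exists_into hc hRp
  have hTeq : RG.map (MulAut.conj h).toMonoidHom = T hc := by
    refine Subgroup.eq_of_le_of_card_ge hh ?_
    obtain ⟨n, hn⟩ := IsPGroup.iff_card.1 hRp
    rw [Subgroup.card_map_of_injective (MulAut.conj h).injective, hn, card_T hc]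
    refine Nat.pow_le_pow_right (by norm_num) ?_
    by_contra hlt
    have h1 : RG.index = (R : Subgroup H).index * H.index := by
      rw [hRG, Subgroup.index_map_subtype]
    have h2 : ¬ 2 ∣ RG.index := by
      rw [h1]
      intro hd
      rcases (Nat.Prime.dvd_mul Nat.prime_two).1 hd with hd | hd
      · exact R.not_dvd_index hd
      · exact hoddH hd
    have h3 := Subgroup.card_mul_index RG
    rw [hn, ← Subgroup.card_mul_index (T hc), card_T hc] at h3
    have h4 : 2 ^ 21 ∣ 2 ^ n := ((Nat.coprime_two_left.2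
      (Nat.odd_iff.2 (Nat.two_dvd_ne_zero.1 h2))).pow_left 21).dvd_of_dvd_mul_right ⟨_, h3⟩
    exact hlt ((Nat.pow_dvd_pow_iff_le_right (by norm_num)).1 h4)
  -- x' is central in it
  set u := h * x' * h⁻¹ with hu
  have hcen : ∀ t ∈ T hc, t * u = u * t := by
    intro t ht
    rw [← hTeq] at ht
    obtain ⟨r, hr, rfl⟩ := ht
    obtain ⟨r', -, rfl⟩ := hr
    have := (hHx _).1 r'.2
    show h * (r' : G) * h⁻¹ * (h * x' * h⁻¹) = h * x' * h⁻¹ * (h * (r' : G) * h⁻¹)
    rw [show h * (r' : G) * h⁻¹ * (h * x' * h⁻¹) = h * ((r' : G) * x') * h⁻¹ by group, this]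
    group
  -- both conjugates lie below
  have h1 : (AT hc).map (MulAut.conj h).toMonoidHom ≤ T hc := by
    rw [← hTeq]
    exact Subgroup.map_mono fun a ha => ⟨⟨a, hA ha⟩, hR ha, rfl⟩
  have h2 : (AT hc).map (MulAut.conj (h * (c : G) * g)).toMonoidHom ≤ T hc := by
    rintro _ ⟨a, ha, rfl⟩
    rw [← hTeq]
    have hm : (⟨g * a * g⁻¹, hBH ⟨a, ha, rfl⟩⟩ : ↥H) ∈ (R' : Subgroup H) := hR' ⟨a, ha, rfl⟩
    have hm2 : c * ⟨g * a * g⁻¹, hBH ⟨a, ha, rfl⟩⟩ * c⁻¹ ∈ ((c • R' : Sylow 2 H) : Subgroup H) :=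
      ⟨_, hm, rfl⟩
    rw [hcR] at hm2
    refine ⟨_, ⟨_, hm2, rfl⟩, ?_⟩
    show h * ((c : G) * (g * a * g⁻¹) * (c : G)⁻¹) * h⁻¹ = h * c * g * a * (h * c * g)⁻¹
    group
  have hab : ∀ k : G, ∀ p ∈ (AT hc).map (MulAut.conj k).toMonoidHom,
      (∀ q ∈ (AT hc).map (MulAut.conj k).toMonoidHom, p * q = q * p) ∧ p * p = 1 := by
    rintro k _ ⟨a, ha, rfl⟩
    refine ⟨?_, by rw [← map_mul, AT_sq hc a ha, map_one]⟩
    rintro _ ⟨b, hb, rfl⟩
    rw [← map_mul, ← map_mul, AT_comm hc a ha b hb]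
  have hcard : ∀ k : G, Nat.card ↥((AT hc).map (MulAut.conj k).toMonoidHom) = 2 ^ 10 := fun k => by
    rw [Subgroup.card_map_of_injective (MulAut.conj k).injective, card_AT hc]
  obtain ⟨v, hv, ev⟩ := star hc h1 (fun p hp => (hab h p hp).1) (fun p hp => (hab h p hp).2) (hcard h)
    (self_cent_map hc)
  obtain ⟨w, hw, ew⟩ := star hc h2 (fun p hp => (hab _ p hp).1) (fun p hp => (hab _ p hp).2) (hcard _)
    (self_cent_map hc)
  set m := h⁻¹ * (v * w⁻¹) * h * (c * g) with hm
  refine ⟨m, Subgroup.mem_normalizer_iff_map_conj_eq.2 ?_, ?_⟩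
  · have hcomp : ∀ p q : G, ∀ D : Subgroup G, (D.map (MulAut.conj q).toMonoidHom).map
        (MulAut.conj p).toMonoidHom = D.map (MulAut.conj (p * q)).toMonoidHom := by
      intro p q D
      rw [Subgroup.map_map]
      congr 1
      ext y
      simp [mul_assoc]
    have e1 : (AT hc).map (MulAut.conj ((c : G) * g)).toMonoidHom =
        (AT hc).map (MulAut.conj (h⁻¹ * w)).toMonoidHom := by
      rw [← hcomp h⁻¹ w, ← ew, hcomp]
      congr 2
      rw [show h⁻¹ * (h * (c : G) * g) = c * g by group]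
    show (AT hc).map (MulAut.conj m).toMonoidHom = AT hc
    rw [hm, ← hcomp, e1, hcomp, show h⁻¹ * (v * w⁻¹) * h * (h⁻¹ * w) = h⁻¹ * v by group,
      ← hcomp h⁻¹ v, ← ev, hcomp, inv_mul_cancel, map_one]
    exact Subgroup.map_id _
  · have e : v * w⁻¹ * u * (v * w⁻¹)⁻¹ = u := by
      rw [hcen _ (mul_mem (le_T hc hv) (inv_mem (le_T hc hw))), mul_inv_cancel_right]
    have hcg : (c : G) * g * x * ((c : G) * g)⁻¹ = x' := by
      rw [show (c : G) * g * x * ((c : G) * g)⁻¹ = c * (g * x * g⁻¹) * (c : G)⁻¹ by group, hg,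
        (hHx _).1 c.2, mul_inv_cancel_right]
    calc m * x * m⁻¹ = h⁻¹ * (v * w⁻¹) * h * ((c : G) * g * x * ((c : G) * g)⁻¹) * h⁻¹ *
          (v * w⁻¹)⁻¹ * h := by rw [hm]; group
      _ = h⁻¹ * (v * w⁻¹ * u * (v * w⁻¹)⁻¹) * h := by rw [hcg, hu]; group
      _ = x' := by rw [e, hu]; group

end Cfsg.Agent.J4TenSylow61
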