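import Mathlib
import Cfsg.Agent.Lib.J4TenSylow61
import Cfsg.Agent.Lib.J4TenCount4
import Cfsg.Agent.Lib.JFourSetting97

/-!
The classification of the self-centralising subgroups, read on the model of the normaliser.
-/

set_option autoImplicit false
set_option maxRecDepth 100000
set_option linter.unusedSectionVars false

namespace Cfsg.Agent.J4TenBridge4

open Cfsg Cfsg.Agent.GolayBasic Cfsg.Agent.GolayPerm
open Cfsg.Agent.J4TenModel4 Cfsg.Agent.J4TenInner4
open Cfsg.Agent.GolayModule hiding act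

universe u

variable {G : Type u} [Group G] [Finite G] {z : G} {V : Subgroup G}
  {φ : ↥(Subgroup.normalizer (V : Set G)) →* ↥M24} {cl : (GolayPt → ZMod 2) → G} {κ : ↥M24 →* G}
  (F : Frame z V φ cl κ)
include F

/-- the lifts form a complement -/
theorem compl : J4Invol46.Compl V κ.range := by
  refine ⟨?_, ?_, le_antisymm (sup_le ?_ Subgroup.le_normalizer) fun n hn => ?_⟩
  · rintro _ ⟨g, rfl⟩; exact F.κN g
  · rw [eq_bot_iff]
    rintro _ ⟨⟨g, rfl⟩, hg⟩
    have h := (F.lab.ker ⟨κ g, F.κN g⟩).2 hg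
    rw [F.κφ] at h
    rw [Subgroup.mem_bot, h, map_one]
  · rintro _ ⟨g, rfl⟩; exact F.κN g
  · have hv : (κ (φ ⟨n, hn⟩))⁻¹ * n ∈ V := by
      refine (F.lab.ker ⟨_, mul_mem (inv_mem (F.κN _)) hn⟩).1 ?_
      show φ (⟨κ (φ ⟨n, hn⟩), F.κN _⟩⁻¹ * ⟨n, hn⟩) = 1
      rw [map_mul, map_inv, F.κφ, inv_mul_cancel]
    have := mul_mem (Subgroup.mem_sup_left (show κ (φ ⟨n, hn⟩) ∈ κ.range from ⟨_, rfl⟩) :
      κ (φ ⟨n, hn⟩) ∈ κ.range ⊔ V) (Subgroup.mem_sup_right hv)
    rwa [mul_inv_cancel_left] at this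

theorem card_N : Nat.card ↥(Subgroup.normalizer (V : Set G)) = 2 ^ 11 * 244823040 := by
  have hker : φ.ker = V.subgroupOf (Subgroup.normalizer (V : Set G)) := by
    ext m
    rw [MonoidHom.mem_ker, Subgroup.mem_subgroupOf, F.lab.ker]
  rw [← Subgroup.card_mul_index φ.ker, Subgroup.index_ker,
    MonoidHom.range_eq_top.2 F.lab.surj, Subgroup.card_top, GolayM24.card_M24, hker,
    Nat.card_congr (Subgroup.subgroupOfEquivOfLe Subgroup.le_normalizer).toEquiv, F.card]

theorem n_odd : ¬ 2 ∣ (Subgroup.normalizer (V : Set G)).index := by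
  haveI : Fact (Nat.Prime 2) := ⟨Nat.prime_two⟩
  obtain ⟨S⟩ : Nonempty (Sylow 2 G) := inferInstance
  obtain ⟨g, hg⟩ := F.syl (S : Subgroup G) S.2
  intro h
  refine S.not_dvd_index ?_
  rw [← Subgroup.index_map_of_bijective (H := (S : Subgroup G)) (f := (MulAut.conj g).toMonoidHom)
    (MulAut.conj g).bijective]
  exact h.trans (Subgroup.index_dvd_of_le hg)

theorem z_odd (hJ : Cfsg.IsOfJankoFourTypeAt z) :
    ¬ 2 ∣ (Subgroup.centralizer ({z} : Set G)).index := by
  obtain ⟨P, hJP⟩ := hJ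
  obtain ⟨N, p, D⟩ := JFourSetting97.exists_pack hJP
  rintro ⟨k, hk⟩
  have h1 := Subgroup.card_mul_index (Subgroup.centralizer ({z} : Set G))
  have h2 := Subgroup.card_mul_index (Subgroup.normalizer (V : Set G))
  rw [show Nat.card ↥(Subgroup.centralizer ({z} : Set G)) = 2 ^ 13 * 3 * 887040 from
    JFourSetting97.card_HH D, hk, ← h2, card_N F] at h1
  have hodd := n_odd F
  rw [Nat.dvd_iff_mod_eq_zero] at hodd
  norm_num at h1
  omega

theorem classified (hz : ¬ 2 ∣ (Subgroup.centralizer ({z} : Set G)).index) :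
    J4TenCount4.Classified F := by
  have hc : J4TenBase61.Ctx z V κ.range φ cl := ⟨F.lab, compl F, F.card, hz, n_odd F, F.into, F.tle⟩
  have hsig : ∀ g, J4TenBase61.sig hc g = κ g := by
    intro g
    have h1 : J4TenBase61.sig hc g ∈ κ.range := SetLike.coe_mem _
    obtain ⟨g', hg'⟩ := h1
    have h2 := J4TenBase61.phi_sig hc g
    rw [show (⟨J4TenBase61.sig hc g, J4TenBase61.sig_mem hc g⟩ : ↥(Subgroup.normalizer (V : Set G))) =
      ⟨κ g', F.κN g'⟩ from Subtype.ext hg'.symm, F.κφ] at h2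
    rw [← hg', h2]
  have hphi : ∀ a, J4TenBase61.Phi hc a = theta cl κ a := by
    intro a
    rw [J4TenBase61.Phi, hsig, theta, J4TenBase61.qe, kp_eq F
      (permOf_mem_M24 (qel_mem24 (low_lt a)))]
    congr 2
    exact Subtype.ext (J4TenBase61.el_good (qel_mem24 (low_lt a)))
  have hAT : J4TenBase61.AT hc = A0 F := by
    ext x
    simp only [J4TenBase61.mem_AT, mem_A0, hphi]
  intro A hA hcard hself hle
  haveI : Fact (Nat.Prime 2) := ⟨Nat.prime_two⟩
  set NV := Subgroup.normalizer (V : Set G)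
  have hTle : J4TenSylow61.T hc ≤ NV := fun x hx => ((J4TenSylow61.mem_T hc).1 hx).1
  -- into the Sylow subgroup by an element of the normaliser
  have hpA : IsPGroup 2 ↥(A.subgroupOf NV) :=
    (IsPGroup.of_card hcard).of_equiv (Subgroup.subgroupOfEquivOfLe hle).symm
  have hpT : IsPGroup 2 ↥((J4TenSylow61.T hc).subgroupOf NV) :=
    (IsPGroup.of_card (J4TenSylow61.card_T hc)).of_equiv (Subgroup.subgroupOfEquivOfLe hTle).symm
  have hTodd : ¬ 2 ∣ ((J4TenSylow61.T hc).subgroupOf NV).index := fun h =>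
    J4TenSylow61.T_odd hc (h.trans (Subgroup.relIndex_dvd_index_of_le hTle))
  obtain ⟨Q, hQ⟩ := hpA.exists_le_sylow
  obtain ⟨g, hg⟩ := MulAction.exists_smul_eq ↥NV Q (hpT.toSylow hTodd)
  have hBT : A.map (MulAut.conj (g : G)).toMonoidHom ≤ J4TenSylow61.T hc := by
    rintro _ ⟨a, ha, rfl⟩
    have h : g * (⟨a, hle ha⟩ : ↥NV) * g⁻¹ ∈ ((g • Q : Sylow 2 ↥NV) : Subgroup ↥NV) :=
      ⟨⟨a, hle ha⟩, hQ (Subgroup.mem_subgroupOf.2 ha), rfl⟩
    rw [hg] at h
    exact h
  have hB := J4TenCount4.ea_map hA (MulAut.conj (g : G))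
  have hBc : Nat.card ↥(A.map (MulAut.conj (g : G)).toMonoidHom) = 2 ^ 10 := by
    rw [Subgroup.card_map_of_injective (MulAut.conj (g : G)).injective, hcard]
  have hBV : ¬ A.map (MulAut.conj (g : G)).toMonoidHom ≤ V := by
    intro hBle
    have hsub : V ≤ A.map (MulAut.conj (g : G)).toMonoidHom := by
      conv_rhs => rw [← hself, ← J4TenCount4.centralizer_map]
      intro v hv
      exact Subgroup.mem_centralizer_iff.2 fun b hb => F.lab.comm b (hBle hb) v hv
    have := Subgroup.card_le_of_le hsub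
    rw [F.card, hBc] at this
    norm_num at this
  obtain ⟨v, hv, hve⟩ := J4TenSylow61.star hc hBT
    (fun x hx y hy => congrArg Subtype.val
      (hB.1.is_comm.comm (⟨x, hx⟩ : ↥(A.map (MulAut.conj (g : G)).toMonoidHom)) ⟨y, hy⟩))
    (fun x hx => by rw [← sq]; exact hB.2 x hx) hBc hBV
  refine ⟨v⁻¹ * g, mul_mem (inv_mem (Subgroup.le_normalizer hv)) g.2, ?_⟩
  rw [← J4TenCount4.map_conj_mul, hve, J4TenCount4.map_conj_mul, hAT, inv_mul_cancel, map_one]
  exact Subgroup.map_id _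

end Cfsg.Agent.J4TenBridge4
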