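import Mathlib
import Cfsg.Prelude.Def_Transfer
import Cfsg.Agent.Lib.CoprimeGaschutz

/-!
The end of the analysis of a self-centralising elementary abelian subgroup of order `2 ^ 10` whose
normaliser induces `GL(5,2)`: a complement, and irreducibility from two orbit lengths.
-/

set_option autoImplicit false

namespace Cfsg.Agent.J4TenEnd85

open Subgroup

/-- Over two elements the special and the general linear group agree. -/
theorem gl_equiv_sl : Nonempty (GL (Fin 5) (ZMod 2) ≃* Matrix.SpecialLinearGroup (Fin 5) (ZMod 2)) := by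
  refine ⟨(MulEquiv.ofBijective Matrix.SpecialLinearGroup.toGL ⟨?_, ?_⟩).symm⟩
  · intro a b e
    exact Subtype.ext (congrArg Units.val e)
  · intro g
    have h1 : (g : Matrix (Fin 5) (Fin 5) (ZMod 2)).det = 1 := by
      have h2 : IsUnit (g : Matrix (Fin 5) (Fin 5) (ZMod 2)).det :=
        (Matrix.isUnit_iff_isUnit_det _).1 g.isUnit
      have h3 : ∀ d : ZMod 2, d ≠ 0 → d = 1 := by decide
      exact h3 _ h2.ne_zero
    refine ⟨⟨(g : Matrix (Fin 5) (Fin 5) (ZMod 2)), h1⟩, Units.ext ?_⟩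
    exact Matrix.SpecialLinearGroup.coe_GL_coe_matrix _

variable {G : Type*} [Group G] [Finite G]

/-- A homomorphism with kernel `A` into a group of the order of the quotient is surjective. -/
theorem surjective_of_card {A : Subgroup G} {L : Type*} [Group L] [Finite L]
    (ψ : ↥(normalizer (A : Set G)) →* L) (hker : ∀ g, ψ g = 1 ↔ (g : G) ∈ A)
    (hcard : Nat.card A * Nat.card L ≤ Nat.card ↥(normalizer (A : Set G))) : Function.Surjective ψ := by
  rw [← MonoidHom.range_eq_top]
  refine Subgroup.eq_top_of_le_card _ ?_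
  have h1 : ψ.ker = A.subgroupOf (normalizer (A : Set G)) := by
    ext g
    rw [MonoidHom.mem_ker, hker, Subgroup.mem_subgroupOf]
  have h2 := ψ.ker.card_mul_index
  rw [Subgroup.index_ker, h1, Nat.card_congr (Subgroup.subgroupOfEquivOfLe Subgroup.le_normalizer).toEquiv]
    at h2
  rw [← h2] at hcard
  exact Nat.le_of_mul_le_mul_left hcard Nat.card_pos

/-- A complement in the normaliser, isomorphic to `SL(5,2)`. -/
theorem exists_complement_sl (A : Subgroup G) (hA : Cfsg.IsElementaryAbelian 2 A)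
    (ψ : ↥(normalizer (A : Set G)) →* GL (Fin 5) (ZMod 2)) (hker : ∀ g, ψ g = 1 ↔ (g : G) ∈ A)
    (hsurj : Function.Surjective ψ) (U D : Subgroup G) (hU : U ≤ normalizer (A : Set G)) (hAU : A ≤ U)
    (hodd : Odd (U.relIndex (normalizer (A : Set G)))) (hDU : D ≤ U) (hDA : D ⊓ A = ⊥)
    (hAD : A ⊔ D = U) :
    ∃ B : Subgroup G, B ≤ normalizer (A : Set G) ∧ B ⊓ A = ⊥ ∧ B ⊔ A = normalizer (A : Set G) ∧
      Nonempty (↥B ≃* Matrix.SpecialLinearGroup (Fin 5) (ZMod 2)) := by
  set K := A.subgroupOf (normalizer (A : Set G)) with hK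
  have hAN : A ≤ (normalizer (A : Set G)) := Subgroup.le_normalizer
  haveI : K.Normal := Subgroup.normal_subgroupOf_of_le_normalizer le_rfl
  have hcomm : ∀ x ∈ A, ∀ y ∈ A, x * y = y * x := fun x hx y hy => by
    have := hA.1
    exact Subgroup.mul_comm_of_mem_isMulCommutative A hx hy
  haveI : IsMulCommutative K := ⟨⟨fun a b => Subtype.ext (Subtype.ext
    (hcomm _ (Subgroup.mem_subgroupOf.1 a.2) _ (Subgroup.mem_subgroupOf.1 b.2)))⟩⟩
  have h2 : IsPGroup 2 A := fun a => ⟨1, Subtype.ext (by simpa using hA.2 a a.2)⟩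
  have hcop : (Nat.card K).Coprime (U.subgroupOf (normalizer (A : Set G))).index := by
    haveI : Fact (Nat.Prime 2) := ⟨Nat.prime_two⟩
    obtain ⟨e, he⟩ := IsPGroup.iff_card.1 h2
    rw [Nat.card_congr (Subgroup.subgroupOfEquivOfLe hAN).toEquiv, he]
    exact (Nat.coprime_two_left.2 hodd).pow_left e
  obtain ⟨H, hH⟩ := CoprimeGaschutz.exists_complement (K := K) (U := U.subgroupOf (normalizer (A : Set G)))
    (fun x hx => hAU hx) hcop (D.subgroupOf (normalizer (A : Set G))) (fun x hx => hDU hx)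
    (by
      rw [eq_bot_iff]
      rintro x ⟨hxD, hxA⟩
      have h1 : (x : G) ∈ D ⊓ A := ⟨hxD, hxA⟩
      rw [hDA, Subgroup.mem_bot] at h1
      exact Subgroup.mem_bot.2 (Subtype.ext h1))
    (by rw [← Subgroup.subgroupOf_sup hAN (hDU.trans hU), hAD])
  refine ⟨H.map (normalizer (A : Set G)).subtype, Subgroup.map_subtype_le _, ?_, ?_, ?_⟩
  · rw [eq_bot_iff]
    rintro x ⟨⟨y, hy, rfl⟩, hxA⟩
    have h1 : y ∈ H ⊓ K := ⟨hy, hxA⟩
    rw [hH.disjoint.symm.eq_bot, Subgroup.mem_bot] at h1
    simp [h1]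
  · have e : K.map (normalizer (A : Set G)).subtype = A := Subgroup.map_subgroupOf_eq_of_le hAN
    calc H.map (normalizer (A : Set G)).subtype ⊔ A
        = H.map (normalizer (A : Set G)).subtype ⊔ K.map (normalizer (A : Set G)).subtype := by rw [e]
      _ = normalizer (A : Set G) := by
        rw [← Subgroup.map_sup, sup_comm, hH.sup_eq_top, ← MonoidHom.range_eq_map, Subgroup.range_subtype]
  · obtain ⟨σ⟩ := gl_equiv_sl
    have hbij : Function.Bijective (ψ.comp H.subtype) := by
      constructor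
      · rw [injective_iff_map_eq_one]
        intro x hx
        have h1 : (x : (normalizer (A : Set G))) ∈ H ⊓ K := ⟨x.2, (hker _).1 hx⟩
        rw [hH.disjoint.symm.eq_bot, Subgroup.mem_bot] at h1
        exact Subtype.ext h1
      · intro l
        obtain ⟨g, rfl⟩ := hsurj l
        have hg : g ∈ K ⊔ H := by rw [hH.sup_eq_top]; trivial
        obtain ⟨k, hk, x, hx, rfl⟩ := Subgroup.mem_sup_of_normal_left.1 hg
        refine ⟨⟨x, hx⟩, ?_⟩
        rw [map_mul, (hker k).2 hk, one_mul]
        rfl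
    exact ⟨((H.equivMapOfInjective (normalizer (A : Set G)).subtype (Subgroup.subtype_injective (normalizer (A : Set G)))).symm.trans
      (MulEquiv.ofBijective _ hbij)).trans σ⟩

/-- The complement, from the orders. -/
theorem exists_split {A B : Subgroup G} (hA : Cfsg.IsElementaryAbelian 2 A) (hc : Nat.card ↥A = 2 ^ 10)
    (hN : Nat.card ↥(normalizer (A : Set G)) = 2 ^ 10 * 9999360) (hB : B ≤ normalizer (A : Set G))
    (hBA : B ⊓ A = ⊥) (hBc : Nat.card ↥B = 322560)
    (ψ : ↥(normalizer (A : Set G)) →* Matrix.GeneralLinearGroup (Fin 5) (ZMod 2))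
    (hψ : ∀ m, ψ m = 1 → (m : G) ∈ A) :
    ∃ C : Subgroup G, C ≤ normalizer (A : Set G) ∧ C ⊓ A = ⊥ ∧ C ⊔ A = normalizer (A : Set G) ∧
      Nonempty (↥C ≃* Matrix.SpecialLinearGroup (Fin 5) (ZMod 2)) := by
  have hAN : A ≤ normalizer (A : Set G) := Subgroup.le_normalizer
  have hgl : Nat.card (GL (Fin 5) (ZMod 2)) = 9999360 := by
    rw [Matrix.card_GL_field]
    simp [Fin.prod_univ_five, Nat.card_eq_fintype_card, ZMod.card]
  have hker : ψ.ker ≤ A.subgroupOf (normalizer (A : Set G)) := fun m hm => hψ m hm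
  have hkeq : ψ.ker = A.subgroupOf (normalizer (A : Set G)) := by
    refine Subgroup.eq_of_le_of_card_ge hker ?_
    have h1 := ψ.ker.card_mul_index
    rw [Subgroup.index_ker, hN] at h1
    have h2 : Nat.card ψ.range ≤ 9999360 := hgl ▸ Subgroup.card_le_card_group _
    rw [Nat.card_congr (Subgroup.subgroupOfEquivOfLe hAN).toEquiv, hc]
    by_contra hlt
    push Not at hlt
    nlinarith
  have hker' : ∀ g, ψ g = 1 ↔ (g : G) ∈ A := fun g => by
    rw [← MonoidHom.mem_ker, hkeq, Subgroup.mem_subgroupOf]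
  have hsurj : Function.Surjective ψ := surjective_of_card ψ hker' (by rw [hc, hgl, hN])
  refine exists_complement_sl A hA ψ hker' hsurj (A ⊔ B) B (sup_le hAN hB) le_sup_left ?_ le_sup_right hBA rfl
  set B' := B.subgroupOf (normalizer (A : Set G)) with hB'
  have hinjB : Nat.card ↥(B'.map ψ) = 322560 := by
    rw [Nat.card_congr (Equiv.ofBijective (fun x : B' => (⟨ψ x, x, x.2, rfl⟩ : ↥(B'.map ψ))) ⟨?_, ?_⟩).symm,
      Nat.card_congr (Subgroup.subgroupOfEquivOfLe hB).toEquiv, hBc]
    · intro x y e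
      have e1 : ψ (x⁻¹ * y : ↥B') = 1 := by
        rw [Subgroup.coe_mul, Subgroup.coe_inv, map_mul, map_inv, inv_mul_eq_one]
        exact congrArg Subtype.val e
      have h0 : (((x⁻¹ * y : ↥B') : ↥(normalizer (A : Set G))) : G) ∈ B ⊓ A :=
        ⟨(x⁻¹ * y : ↥B').2, hψ _ e1⟩
      rw [hBA, Subgroup.mem_bot] at h0
      exact inv_mul_eq_one.1 (Subtype.ext (Subtype.ext h0))
    · rintro ⟨_, x, hx, rfl⟩
      exact ⟨⟨x, hx⟩, rfl⟩
  have h31 : (B'.map ψ).index = 31 := by
    have h1 := (B'.map ψ).card_mul_index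
    rw [hinjB, hgl] at h1
    omega
  have hcomap : (A ⊔ B).subgroupOf (normalizer (A : Set G)) = (B'.map ψ).comap ψ := by
    rw [Subgroup.comap_map_eq, hkeq, Subgroup.subgroupOf_sup hAN hB, sup_comm]
  have h6 : (A ⊔ B).relIndex (normalizer (A : Set G)) = 31 := by
    show ((A ⊔ B).subgroupOf (normalizer (A : Set G))).index = 31
    rw [hcomap, Subgroup.index_comap_of_surjective _ hsurj, h31]
  rw [h6]
  decide

/-- Orbits of lengths `155` and `868` leave no invariant subgroup between. -/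
theorem irreducible (A : Subgroup G) (hcard : Nat.card A = 2 ^ 10) {a b : G} (ha : a ∈ A) (hb : b ∈ A)
    (h155 : Set.ncard {v : G | ∃ n ∈ normalizer (A : Set G), n * a * n⁻¹ = v} = 155)
    (h868 : Set.ncard {v : G | ∃ n ∈ normalizer (A : Set G), n * b * n⁻¹ = v} = 868)
    (W : Subgroup G) (hWA : W ≤ A) (hW : normalizer (A : Set G) ≤ normalizer (W : Set G)) :
    W = ⊥ ∨ W = A := by
  classical
  set O : G → Set G := fun x => {v : G | ∃ n ∈ normalizer (A : Set G), n * x * n⁻¹ = v} with hO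
  have hself : ∀ x, x ∈ O x := fun x => ⟨1, one_mem _, by group⟩
  have hsame : ∀ x y, y ∈ O x → O y = O x := by
    rintro x _ ⟨n, hn, rfl⟩
    ext v
    constructor
    · rintro ⟨m, hm, rfl⟩
      exact ⟨m * n, mul_mem hm hn, by group⟩
    · rintro ⟨m, hm, rfl⟩
      exact ⟨m * n⁻¹, mul_mem hm (inv_mem hn), by group⟩
  have hnot1 : ∀ x, Set.ncard (O x) ≠ 1 → (1 : G) ∉ O x := by
    rintro x hx ⟨n, hn, e⟩
    refine hx ?_
    have hx1 : x = 1 := conj_eq_one_iff.1 e
    subst hx1
    rw [Set.ncard_eq_one]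
    refine ⟨1, Set.ext fun v => ⟨?_, ?_⟩⟩
    · rintro ⟨m, -, rfl⟩; simp
    · rintro rfl; exact hself 1
  have hsub : ∀ x ∈ A, O x ⊆ (A : Set G) := by
    rintro x hx _ ⟨n, hn, rfl⟩
    exact (Subgroup.mem_normalizer_iff.1 hn x).1 hx
  have hdisj : Disjoint (O a) (O b) := by
    rw [Set.disjoint_left]
    intro v hva hvb
    have := (hsame a v hva).symm.trans (hsame b v hvb)
    change O a = O b at this
    have e := congrArg Set.ncard this
    change Set.ncard (O a) = Set.ncard (O b) at e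
    rw [h155, h868] at e
    omega
  have hA1 : (A : Set G) = {1} ∪ (O a ∪ O b) := by
    refine (Set.eq_of_subset_of_ncard_le ?_ ?_ (Set.toFinite _)).symm
    · exact Set.union_subset (Set.singleton_subset_iff.2 (one_mem A))
        (Set.union_subset (hsub a ha) (hsub b hb))
    · rw [Set.ncard_union_eq ?_ (Set.toFinite _) (Set.toFinite _), Set.ncard_singleton,
        Set.ncard_union_eq hdisj (Set.toFinite _) (Set.toFinite _)]
      · change Set.ncard (A : Set G) ≤ 1 + (Set.ncard (O a) + Set.ncard (O b))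
        rw [h155, h868, ← Nat.card_coe_set_eq, SetLike.coe_sort_coe, hcard]
        norm_num
      · rw [Set.disjoint_singleton_left]
        rintro (h | h)
        · exact hnot1 a (by change Set.ncard (O a) ≠ 1; rw [h155]; norm_num) h
        · exact hnot1 b (by change Set.ncard (O b) ≠ 1; rw [h868]; norm_num) h
  have hinv : ∀ x ∈ W, O x ⊆ (W : Set G) := by
    rintro x hx _ ⟨n, hn, rfl⟩
    exact (Subgroup.mem_normalizer_iff.1 (hW hn) x).1 hx
  have hdvd : Nat.card W ∣ 2 ^ 10 := hcard ▸ Subgroup.card_dvd_of_le hWA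
  obtain ⟨e, he, hWc⟩ := (Nat.dvd_prime_pow Nat.prime_two).1 hdvd
  by_cases hWbot : W = ⊥
  · exact Or.inl hWbot
  refine Or.inr (le_antisymm hWA ?_)
  obtain ⟨w, hwW, hw1⟩ := W.bot_or_exists_ne_one.resolve_left hWbot
  have hwA : w ∈ ({1} ∪ (O a ∪ O b) : Set G) := hA1 ▸ hWA hwW
  have hWset : (W : Set G).ncard = 2 ^ e := by rw [← Nat.card_coe_set_eq, SetLike.coe_sort_coe, hWc]
  rcases hwA with h | h | h
  · exact absurd h hw1
  · have h1 : O a ⊆ (W : Set G) := hsame a w h ▸ hinv w hwW
    by_cases hmeet : ∃ v ∈ W, v ∈ O b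
    · obtain ⟨v, hvW, hv⟩ := hmeet
      intro x hx
      have hxA : x ∈ ({1} ∪ (O a ∪ O b) : Set G) := hA1 ▸ hx
      rcases hxA with h' | h' | h'
      · rw [Set.mem_singleton_iff.1 h']; exact one_mem W
      · exact h1 h'
      · exact (hsame b v hv ▸ hinv v hvW) h'
    · exfalso
      have hWeq : (W : Set G) = {1} ∪ O a := by
        ext x
        constructor
        · intro hx
          have hxA : x ∈ ({1} ∪ (O a ∪ O b) : Set G) := hA1 ▸ hWA hx
          rcases hxA with h' | h' | h'
          · exact Or.inl h'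
          · exact Or.inr h'
          · exact absurd ⟨x, hx, h'⟩ hmeet
        · rintro (h' | h')
          · rw [Set.mem_singleton_iff.1 h']; exact one_mem W
          · exact h1 h'
      rw [hWeq, Set.ncard_union_eq (Set.disjoint_singleton_left.2 (hnot1 a (by
        change Set.ncard (O a) ≠ 1; rw [h155]; norm_num))) (Set.toFinite _) (Set.toFinite _),
        Set.ncard_singleton] at hWset
      change 1 + Set.ncard (O a) = 2 ^ e at hWset
      rw [h155] at hWset
      interval_cases e <;> norm_num at hWset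
  · have h1 : O b ⊆ (W : Set G) := hsame b w h ▸ hinv w hwW
    have h2 := Set.ncard_le_ncard h1 (Set.toFinite _)
    change Set.ncard (O b) ≤ _ at h2
    rw [h868, hWset] at h2
    have : e = 10 := by
      interval_cases e <;> first | rfl | (exfalso; revert h2; norm_num)
    intro x hx
    have := Subgroup.eq_of_le_of_card_ge hWA (by rw [hWc, hcard, this])
    rwa [this]

end Cfsg.Agent.J4TenEnd85
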