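import Mathlib
import Cfsg.Agent.Lib.J4Main18
import Cfsg.Agent.Lib.J4Coord97
import Cfsg.Agent.Lib.J4Exists97
import Cfsg.Agent.Lib.J4Thompson85
import Cfsg.Agent.Lib.J4OrbitSize48

/-!
An involution outside the elementary abelian subgroup of order `2 ^ 11`, not conjugate to the central
one, centralising a four-group of that subgroup without conjugates of the central involution.
-/

set_option autoImplicit false
set_option linter.style.haveILetI false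
set_option linter.unusedSectionVars false
set_option maxHeartbeats 800000
set_option maxRecDepth 100000

namespace Cfsg.Agent.J4TenOuter85

open Subgroup Cfsg Cfsg.Agent.U62Mon93 Cfsg.Agent.U62Existence93 Cfsg.Agent.LFForm89 Cfsg.Agent.LFMat89
open Cfsg.Agent.JFourSetting97 Cfsg.Agent.JFourModule85 Cfsg.Agent.J4Syl18 Cfsg.Agent.J4Elem85
open Cfsg.Agent.J4Orbit48 Cfsg.Agent.J4Data18 Cfsg.Agent.J4Check18
open Cfsg.Agent.J4OrbitSing48 (levB levB_ok inO)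
open Cfsg.Agent.J4Coord85 (Hyp op)
open Cfsg.Agent.LFCheck89 (qpar)

universe u

/-- The codes that are used. -/
theorem codes : (102 ∈ u18 ∧ 187 ∈ u18 ∧ 221 ∈ u18) ∧ (102 ∈ uList ∧ 187 ∈ uList ∧ 221 ∈ uList) ∧
    6 ∉ uList ∧ (∀ c ∈ uList, c < 4096) ∧ inO levB 6 = true ∧ qpar 6 = false ∧
    Nat.xor 102 187 = 221 ∧ J4CoordCheck97.polB 6 102 = false ∧ J4CoordCheck97.polB 6 187 = false := by
  decide +kernel

variable {G : Type u} [Group G] [Finite G] {z : G} {P : Subgroup G}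
variable {V : Type u} [AddCommGroup V] {zc : ↥(HH z)}
  {π : ↥(HH z) → V} {ρ : ↥(HH z) ⧸ QQ z →* AddMonoid.End V}
  {q : V → ZMod 2} {n : ↥(HH z) ⧸ QQ z}
  {Mb : Subgroup (↥(HH z) ⧸ QQ z)}
variable (D : Data z P zc π ρ q n Mb)
variable {F : Type} [Field F] [Fintype F] {s : F} {h : S4 s} {ν : (Fin 6 → F) → V}
  (C : Coord h ρ q n Mb ν)

/-- The configuration for the standard subgroup. -/
theorem outer_AA (hF : J4Coord97.FF D C) (hJ : Cfsg.IsOfJankoFourTypeWith z P) :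
    ∃ x d e : ↥(HH z), x * x = 1 ∧ x ∉ AA D C ∧ ¬ IsConj z (x : G) ∧ d ∈ AA D C ∧ e ∈ AA D C ∧
      d ≠ 1 ∧ e ≠ 1 ∧ d ≠ e ∧ ¬ IsConj z (d : G) ∧ ¬ IsConj z (e : G) ∧
      ¬ IsConj z ((d * e : ↥(HH z)) : G) ∧ x * d = d * x ∧ x * e = e * x := by
  obtain ⟨⟨ha18, hb18, hc18⟩, ⟨haU, hbU, hcU⟩, h6, hlt, h6B, h6q, hxor, hp1, hp2⟩ := codes
  obtain ⟨xn, hX, -, -⟩ := J4Coord97.exists_xn D C hJ
  obtain ⟨g, hg⟩ := J4Coord97.exists_gens D C hX hF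
  obtain ⟨d, hd, hdπ⟩ := D.link.surj (nc s ν 102)
  obtain ⟨e, he, heπ⟩ := D.link.surj (nc s ν 187)
  obtain ⟨x, hx, hxπ⟩ := D.link.surj (nc s ν 6)
  have hdeπ : π (d * e) = nc s ν 221 := by
    rw [D.link.add d hd e he, hdπ, heπ, ← hxor, nc, nc, nc, vec_xor h, C.add]
  have hAA : ∀ {y : ↥(HH z)} {c : ℕ}, y ∈ QQ z → π y = nc s ν c → c ∈ uList → y ∈ AA D C :=
    fun hy hc hcu => (mem_AA_Q D C hy).2 (hc ▸ (mem_Fix_E1 (hyp D) C).2 ⟨_, hcu, rfl⟩)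
  have hne : ∀ {y y' : ↥(HH z)} {c c' : ℕ}, π y = nc s ν c → π y' = nc s ν c' → c < 4096 →
      c' < 4096 → c ≠ c' → y ≠ y' := fun h1 h2 hc hc' hcc hyy =>
    hcc (nc_inj (hyp D) C hc hc' (by rw [← h1, ← h2, hyy]))
  have hone : π (1 : ↥(HH z)) = nc s ν 0 := by rw [pi_one D, nc_zero (hyp D) C]
  have hRd : J4Coord97.RR d := J4Coord97.u18_RR D C hX hg hF hd ⟨_, ha18, hdπ⟩
  have hcomm : ∀ {y : ↥(HH z)} {c : ℕ}, y ∈ QQ z → π y = nc s ν c →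
      J4CoordCheck97.polB 6 c = false → x * y = y * x := by
    intro y c hy hc hp
    rw [comm_iff D hx hy, hxπ, hc, J4Coord97.polB_nc D C hX hg hF, hp]
    rfl
  refine ⟨x, d, e, ?_, ?_, ?_, hAA hd hdπ haU, hAA he heπ hbU, hne hdπ hone (by norm_num)
    (by norm_num) (by norm_num), hne heπ hone (by norm_num) (by norm_num) (by norm_num),
    hne hdπ heπ (by norm_num) (by norm_num) (by norm_num), hRd,
    J4Coord97.u18_RR D C hX hg hF he ⟨_, hb18, heπ⟩,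
    J4Coord97.u18_RR D C hX hg hF (mul_mem hd he) ⟨_, hc18, hdeπ⟩, hcomm hd hdπ hp1, hcomm he heπ hp2⟩
  · rw [sq_iff D hx, hxπ, q_nc (hyp D) C, h6q]
    rfl
  · intro hxA
    obtain ⟨c, hc, hce⟩ := (mem_Fix_E1 (hyp D) C).1 ((mem_AA_Q D C hx).1 hxA)
    rw [hxπ] at hce
    exact h6 (nc_inj (hyp D) C (by norm_num) (hlt c hc) hce ▸ hc)
  · have h1 := J4OrbitSize48.orbit_eq (hyp D) C (show (102 : ℕ) < 4096 by norm_num) levB_ok
    have h2 : nc s ν 6 ∈ {w | ∃ g ∈ Mb, op ρ g (nc s ν 102) = w} := by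
      rw [h1]
      exact ⟨6, ⟨by norm_num, h6B⟩, rfl⟩
    obtain ⟨γ, -, hγ⟩ := h2
    obtain ⟨γ', rfl⟩ := QuotientGroup.mk'_surjective (QQ z) γ
    have hc : γ' * d * γ'⁻¹ ∈ QQ z := (inferInstance : (QQ z).Normal).conj_mem d hd γ'
    have hcπ : π (γ' * d * γ'⁻¹) = π x := by rw [act D γ' hd, hdπ, hγ, hxπ]
    have hdc : IsConj (d : G) ((γ' * d * γ'⁻¹ : ↥(HH z)) : G) := isConj_iff.2 ⟨γ', rfl⟩
    intro hzx
    refine hRd ?_
    rcases pi_eq D hc hx hcπ with e1 | e1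
    · exact (hzx.trans (e1 ▸ hdc.symm))
    · have h0 : π (γ' * d * γ'⁻¹) ≠ 0 := by
        rw [hcπ, hxπ, ← nc_zero (hyp D) C]
        intro h'
        exact absurd (nc_inj (hyp D) C (by norm_num) (by norm_num) h') (by norm_num)
      obtain ⟨k, -, hk⟩ := flip_rel D C hc h0
      rw [← e1] at hk
      exact hzx.trans ((hdc.trans (isConj_iff.2 ⟨k, congrArg Subtype.val hk⟩)).symm)

omit D C in
theorem exists_outer {G : Type*} [Group G] [Finite G] [IsSimpleGroup G] (hG : ¬ IsMulCommutative G)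
    {z : G} {P : Subgroup G}
    (hJ : Cfsg.IsOfJankoFourTypeWith z P) (W : Subgroup G) (hW : Cfsg.IsElementaryAbelian 2 W)
    (hWc : Nat.card ↥W = 2 ^ 11) :
    ∃ x d e : G, x * x = 1 ∧ x ∉ W ∧ ¬ IsConj z x ∧ d ∈ W ∧ e ∈ W ∧ d ≠ 1 ∧ e ≠ 1 ∧ d ≠ e ∧
      ¬ IsConj z d ∧ ¬ IsConj z e ∧ ¬ IsConj z (d * e) ∧ x * d = d * x ∧ x * e = e * x := by
  obtain ⟨V, iV, zc, π, ρ, q, n, Mb, F, iF, iF', s, h, ν, D, C⟩ := J4Exists97.exists_coords hJ
  obtain ⟨x, d, e, hx2, hxW, hxR, hdA, heA, hd1, he1, hde, hdR, heR, hdeR, hxd, hxe⟩ :=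
    outer_AA D C (J4Main18.ff_of hG hJ D C) hJ
  obtain ⟨g, rfl⟩ := J4Thompson85.exists_conj D C ((J4Thompson85.ea_iff W).1 hW) hWc
  set c := MulAut.conj g with hc
  have hmem : ∀ {y : ↥(HH z)}, y ∈ AA D C → c (y : G) ∈ cj g (J4Thompson85.AG D C) :=
    fun {y} hy => ⟨_, ⟨y, hy, rfl⟩, rfl⟩
  have hconj : ∀ {y : G}, ¬ IsConj z y → ¬ IsConj z (c y) := fun hy hzy =>
    hy (hzy.trans (isConj_iff.2 ⟨g⁻¹, by simp [hc, mul_assoc]⟩))
  refine ⟨c x, c d, c e, ?_, ?_, hconj hxR, hmem hdA, hmem heA, ?_, ?_, ?_, hconj hdR, hconj heR,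
    ?_, ?_, ?_⟩
  · rw [← map_mul, ← Subgroup.coe_mul, hx2, Subgroup.coe_one, map_one]
  · rintro ⟨y, ⟨y', hy', rfl⟩, hy⟩
    exact hxW (Subtype.ext (c.injective hy) ▸ hy')
  · exact fun h => hd1 (Subtype.ext (c.injective (h.trans (map_one c).symm)))
  · exact fun h => he1 (Subtype.ext (c.injective (h.trans (map_one c).symm)))
  · exact fun h => hde (Subtype.ext (c.injective h))
  · rw [← map_mul]
    exact hconj hdeR
  · rw [← map_mul, ← map_mul, ← Subgroup.coe_mul, hxd, Subgroup.coe_mul]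
  · rw [← map_mul, ← map_mul, ← Subgroup.coe_mul, hxe, Subgroup.coe_mul]

end Cfsg.Agent.J4TenOuter85
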