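import Mathlib
import Cfsg.Agent.Lib.JFourCent97

/-!
The fusion record from a coded elementary abelian subgroup: codes compose by exclusive or, a finite
table says which of them give conjugates of the involution.
-/

set_option autoImplicit false
set_option linter.unusedSectionVars false

namespace Cfsg.Agent.JFourFus97

open Subgroup Cfsg.Agent.JFourSetting97 Cfsg.Agent.JFourCent97

/-- The finite conditions on the chosen codes. -/
def check (R : ℕ → Bool) (a b c w : ℕ) : Bool :=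
  Nat.blt 1 a && Nat.blt a 2048 && Nat.blt 1 b && Nat.blt b 2048 && Nat.blt 1 c && Nat.blt c 2048 &&
  Nat.blt 0 w && Nat.blt w 2048 && !Nat.beq w a &&
  Nat.blt 1 (Nat.xor a b) && Nat.blt 1 (Nat.xor a c) &&
  !R a && !R b && !R c && !R (Nat.xor a b) && R (Nat.xor a c) && R (Nat.xor a 1) &&
  xor (R w) (R (Nat.xor w a))

variable {G : Type*} [Group G] [Finite G] {z p : G} {P N : Subgroup G}

theorem of_codes (D : Pack z P N p) (Ψ : ℕ → G) (R : ℕ → Bool)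
    (hx : ∀ a b, Ψ (Nat.xor a b) = Ψ a * Ψ b) (hH : ∀ i, Ψ i ∈ HH z)
    (hinj : ∀ i < 2048, ∀ j < 2048, Ψ i = Ψ j → i = j) (hz : Ψ 1 = z)
    (hR : ∀ i < 2048, i ≠ 0 → (IsConj z (Ψ i) ↔ R i = false))
    {a b c v w : ℕ} (fa : p * Ψ a * p⁻¹ = Ψ a) (fb : p * Ψ b * p⁻¹ = Ψ b)
    (fc : p * Ψ c * p⁻¹ = Ψ c) (fv : p * Ψ v * p⁻¹ = Ψ (Nat.xor w v))
    (hchk : check R a b c w = true) :
    Fus z p P (Ψ a) (Ψ b) (Ψ c) := by
  simp only [check, Bool.and_eq_true, Nat.blt_eq, Bool.not_eq_true'] at hchk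
  obtain ⟨⟨⟨⟨⟨⟨⟨⟨⟨⟨⟨⟨⟨⟨⟨⟨⟨a1, a2⟩, b1⟩, b2⟩, c1⟩, c2⟩, w1⟩, w2⟩, wa⟩, ab⟩, ac⟩, Ra⟩, Rb⟩, Rc⟩, Rab⟩,
    Rac⟩, Raz⟩, Rw⟩ := hchk
  have wa' : w ≠ a := fun e => by
    rw [e] at wa
    exact absurd (Nat.beq_refl a) (by rw [wa]; simp)
  have h0 : Ψ 0 = 1 := by
    have h := hx 0 0
    rw [show Nat.xor 0 0 = 0 from rfl] at h
    exact left_eq_mul.1 h
  have hcomm : ∀ i j, Commute (Ψ i) (Ψ j) := fun i j => by
    show Ψ i * Ψ j = Ψ j * Ψ i
    rw [← hx, ← hx, show Nat.xor i j = Nat.xor j i from Nat.xor_comm i j]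
  have hsq : ∀ i, Ψ i * Ψ i = 1 := fun i => by
    rw [← hx, show Nat.xor i i = 0 from Nat.xor_self i, h0]
  have hlt : ∀ i < 2048, ∀ j < 2048, Nat.xor i j < 2048 := fun i hi j hj =>
    Nat.xor_lt_two_pow (n := 11) hi hj
  have hne : ∀ i < 2048, ∀ j < 2048, i ≠ j → Ψ i ≠ Ψ j := fun i hi j hj h e => h (hinj i hi j hj e)
  have hne0 : ∀ i < 2048, i ≠ 0 → Ψ i ≠ 1 := fun i hi h => h0 ▸ hne i hi 0 (by norm_num) h
  have hnez : ∀ i < 2048, i ≠ 1 → Ψ i ≠ z := fun i hi h => hz ▸ hne i hi 1 (by norm_num) h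
  have yes : ∀ i < 2048, i ≠ 0 → R i = false → IsConj z (Ψ i) := fun i hi h e => (hR i hi h).2 e
  have no : ∀ i < 2048, i ≠ 0 → R i = true → ¬ IsConj z (Ψ i) := fun i hi h e hc => by
    rw [(hR i hi h).1 hc] at e
    exact Bool.noConfusion e
  have hK : ∀ i, p * Ψ i * p⁻¹ = Ψ i → Ψ i ∈ KK z P := fun i hi => ⟨hH i, fun y hy => by
    rw [SetLike.mem_coe, ← D.gen] at hy
    obtain ⟨k, rfl⟩ := mem_zpowers_iff.1 hy
    exact ((show Commute p (Ψ i) from mul_inv_eq_iff_eq_mul.1 hi).zpow_left k).eq⟩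
  have hab := hlt a a2 b b2
  have hac := hlt a a2 c c2
  have haz := hlt a a2 1 (by norm_num)
  have haz0 : Nat.xor a 1 ≠ 0 := fun e => by
    have h : Ψ (Nat.xor a 1) = 1 := by rw [e, h0]
    rw [hx, mul_eq_one_iff_eq_inv, inv_eq_of_mul_eq_one_right (hsq 1)] at h
    exact hne a a2 1 (by norm_num) (by omega) h
  have hwa : Nat.xor w a ≠ 0 := fun e => by
    have h : Ψ (Nat.xor w a) = 1 := by rw [e, h0]
    rw [hx, mul_eq_one_iff_eq_inv, inv_eq_of_mul_eq_one_right (hsq a)] at h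
    exact hne w w2 a a2 wa' h
  have hcw : p * Ψ v * p⁻¹ * (Ψ v)⁻¹ = Ψ w := by
    rw [fv, hx, mul_inv_cancel_right]
  refine ⟨hK a fa, hK b fb, hK c fc, hnez a a2 (by omega), hnez b b2 (by omega), hnez c c2 (by omega),
    yes a a2 (by omega) Ra, yes b b2 (by omega) Rb, yes c c2 (by omega) Rc, hcomm a b, hcomm a c,
    ?_, ?_, ?_, ?_, ?_, ?_, ?_, ⟨Ψ v, hcomm v a, ?_, ?_, ?_, ?_⟩⟩
  · rw [← hx]; exact hnez _ hab (by omega)
  · rw [← hx]; exact hne0 _ hab (by omega)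
  · rw [← hx]; exact yes _ hab (by omega) Rab
  · rw [← hx]; exact hne0 _ hac (by omega)
  · rw [← hx]; exact hnez _ hac (by omega)
  · rw [← hx]; exact no _ hac (by omega) Rac
  · rw [← hz, ← hx, hz]; exact no _ haz haz0 Raz
  · rw [hcw, pow_two]; exact hsq w
  · rw [hcw]; exact hne0 w w2 (by omega)
  · rw [hcw]; exact hne w w2 a a2 wa'
  · rw [hcw, ← hx, hR w w2 (by omega), hR _ (hlt w w2 a a2) hwa]
    cases h : R w <;> cases h' : R (Nat.xor w a) <;> simp_all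

end Cfsg.Agent.JFourFus97
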