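import Mathlib
import Cfsg.Agent.Lib.J4Coord97
import Cfsg.Agent.Lib.JFourFus97

/-!
The fusion record of the centraliser of `P`, read off the coordinates of the elementary abelian
subgroup of order `2 ^ 11`.
-/

set_option autoImplicit false
set_option linter.unusedSectionVars false
set_option linter.style.haveILetI false
set_option maxRecDepth 100000

namespace Cfsg.Agent.JFourFus97Model

open Subgroup Cfsg Cfsg.Agent.U62Mon93 Cfsg.Agent.LFMat89
open Cfsg.Agent.JFourSetting97 Cfsg.Agent.JFourModule85 Cfsg.Agent.J4Syl18 Cfsg.Agent.J4Elem85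
open Cfsg.Agent.J4Orbit48 Cfsg.Agent.J4Check18 Cfsg.Agent.J4CoordCheck97 Cfsg.Agent.J4Coord97
open Cfsg.Agent.J4Coord85 (Hyp Frame Acts op)
open Cfsg.Agent.LFCheck89 (scal)

universe u

attribute [local instance] Classical.propDecidable

variable {G : Type u} [Group G] [Finite G] {z : G} {P : Subgroup G}
variable {V : Type u} [AddCommGroup V] {zc : ↥(HH z)}
  {π : ↥(HH z) → V} {ρ : ↥(HH z) ⧸ QQ z →* AddMonoid.End V}
  {q : V → ZMod 2} {n : ↥(HH z) ⧸ QQ z}
  {Mb : Subgroup (↥(HH z) ⧸ QQ z)}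
variable (D : Data z P zc π ρ q n Mb)
variable {F : Type} [Field F] [Fintype F] {s : F} {h : S4 s} {ν : (Fin 6 → F) → V}
  (C : Coord h ρ q n Mb ν)

/-- The chosen codes and the moved vector. -/
theorem chosen : JFourFus97.check (inR 1) 129 257 513 98 = true ∧
    Nat.mul 2 (uIdx (scal (uCode 18))) = Nat.xor 98 36 ∧ uIdx (scal (uCode 18)) < 64 ∧
    uCode 18 < 4096 ∧ uCode (uIdx (scal (uCode 18))) = scal (uCode 18) := by decide +kernel

include D C

theorem fus_of_FF (hJ : Cfsg.IsOfJankoFourTypeWith z P) (hF : FF D C) :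
    ∃ (p : G) (a b c : G), zpowers p = P ∧ JFourCent97.Fus z p P a b c := by
  obtain ⟨hchk, hw, hu', hlt, hsc⟩ := chosen
  obtain ⟨xn, hX, hgen, hord⟩ := exists_xn D C hJ
  obtain ⟨N, p', DP'⟩ := exists_pack hJ
  have DP : Pack z P N (xn : G) := { DP' with gen := hgen, ord := hord }
  obtain ⟨g, hg⟩ := exists_gens D C hX hF
  obtain ⟨hinj, -, hR⟩ := model_psi D C hF hX hg
  let Ψ : ℕ → G := fun i => (psi g i : G)
  have hfix : ∀ i < 16, (xn : G) * Ψ (code true 0 i) * (xn : G)⁻¹ = Ψ (code true 0 i) := fun i hi =>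
    congrArg Subtype.val (code0_spec D C hX hg (b := true) hi).1
  refine ⟨xn, Ψ 129, Ψ 257, Ψ 513, hgen, JFourFus97.of_codes DP Ψ (inR 1)
    (fun a b => congrArg Subtype.val (psiX D C hX hg a b)) (fun i => (psi g i).2)
    (fun i hi j hj e => hinj i hi j hj (Subtype.ext e)) ?_ ?_ (v := 36)
    (hfix 1 (by norm_num)) (hfix 2 (by norm_num)) (hfix 4 (by norm_num)) ?_ hchk⟩
  · show (psi g (2 ^ 0) : G) = z
    rw [psi_pow g 0 (by norm_num), hg.g0, D.zc_val]
  · intro i hi hi0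
    have hmem : (psi g i : G) ∈ AG D C := ⟨psi g i, psiA D C hX hg i, rfl⟩
    have h1 : (psi g i : G) ≠ 1 := fun e => hi0 (hinj i hi 0 (by norm_num)
      ((Subtype.ext e : psi g i = 1).trans (psi_zero g).symm))
    constructor
    · intro hc
      rw [Bool.eq_false_iff]
      intro he
      exact ((hR _).2 ⟨i, (inR_iff D C).1 he, rfl⟩).2.2 hc
    · intro he
      by_contra hc
      obtain ⟨r, hr, hre⟩ := (hR _).1 ⟨hmem, h1, hc⟩
      have := hinj r ((rlist_facts D C 1 (by norm_num)).2.2 r hr).1 i hi (Subtype.ext hre)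
      rw [this] at hr
      rw [(inR_iff D C).2 hr] at he
      exact Bool.noConfusion he
  · obtain ⟨a1, a2, a3⟩ := psi_u D C hX hg 18 (by norm_num)
    obtain ⟨b1, b2, b3⟩ := psi_u D C hX hg _ hu'
    have hc : xn * psi g (2 * 18) * xn⁻¹ ∈ QQ z :=
      (inferInstance : (QQ z).Normal).conj_mem _ a1.1 xn
    have hpi : π (xn * psi g (2 * 18) * xn⁻¹) = π (psi g (2 * uIdx (scal (uCode 18)))) := by
      rw [act D xn a1.1, hX.img, a2, b2, hsc, nc, nc, vec_scal h hlt, C.scalar]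
    have hmemU : xn * psi g (2 * 18) * xn⁻¹ ∈ Qf D (UU D C) := ⟨hc, hpi ▸ b1.2⟩
    have hnm : nm xn (xn * psi g (2 * 18) * xn⁻¹) = 1 := by
      rw [show nm xn (xn * psi g (2 * 18) * xn⁻¹) = xn * nm xn (psi g (2 * 18)) * xn⁻¹ by
        simp only [nm]; group, a3, mul_one, mul_inv_cancel]
    have he := eq_of_norm D C hX hmemU b1 hpi (hnm.trans b3.symm)
    rw [← hw]
    exact congrArg Subtype.val he

end Cfsg.Agent.JFourFus97Model
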