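import Mathlib
import Cfsg.Agent.S5566
import Cfsg.Agent.S5567
import Cfsg.Agent.S5568
import Cfsg.Agent.Lib.J4InvolMain46
import Cfsg.Agent.Lib.J4TenModel4
import Cfsg.Agent.Lib.J4TenOuter85

/-!
The frame around an elementary abelian subgroup of order `2 ^ 11` in a simple group of Janko-four type.
-/

set_option autoImplicit false
set_option maxHeartbeats 800000
set_option linter.style.haveILetI false

namespace Cfsg.Agent.J4TenFrame4

open Cfsg Cfsg.Agent.GolayModule Cfsg.Agent.J4TenModel4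

universe u

variable {G : Type u} [Group G] [Finite G] [IsSimpleGroup G]

/-- the complements give the lifts -/
theorem exists_lift {V K : Subgroup G} {φ : ↥(Subgroup.normalizer (V : Set G)) →* ↥M24} {z : G}
    {cl : (GolayPt → ZMod 2) → G} (hK : J4Invol46.Compl V K) (hl : J4Invol46.Label z V φ cl) :
    ∃ κ : ↥M24 →* G, ∃ h : ∀ g, κ g ∈ Subgroup.normalizer (V : Set G), ∀ g, φ ⟨κ g, h g⟩ = g := by
  let f : ↥K →* ↥M24 := φ.comp (Subgroup.inclusion hK.le)
  have hf : Function.Bijective f := ⟨hK.phi_inj hl, hK.phi_surj hl⟩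
  let e := MulEquiv.ofBijective f hf
  refine ⟨K.subtype.comp e.symm.toMonoidHom, fun g => hK.le (e.symm g).2, fun g => ?_⟩
  exact e.apply_symm_apply g

/-- a Sylow subgroup containing the standard subgroup normalises it -/
theorem exists_conj_normalizer {V : Subgroup G}
    (huniq : ∀ T : Sylow 2 G, ∃! W : Subgroup G,
      W ≤ (T : Subgroup G) ∧ IsElementaryAbelian 2 W ∧ Nat.card ↥W = 2 ^ 11)
    (hV : IsElementaryAbelian 2 V) (hcard : Nat.card ↥V = 2 ^ 11) {A : Subgroup G} (hA : IsPGroup 2 A) :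
    ∃ g : G, A.map (MulAut.conj g).toMonoidHom ≤ Subgroup.normalizer (V : Set G) := by
  classical
  haveI : Fact (Nat.Prime 2) := ⟨Nat.prime_two⟩
  obtain ⟨S, hS⟩ := (IsPGroup.of_card (p := 2) hcard).exists_le_sylow
  have hSN : (S : Subgroup G) ≤ Subgroup.normalizer (V : Set G) := by
    intro s hs
    let e := MulAut.conj s
    have hmap : V.map e.toMonoidHom = V := by
      obtain ⟨W, -, hW⟩ := huniq S
      refine (hW _ ⟨?_, ?_, ?_⟩).trans (hW V ⟨hS, hV, hcard⟩).symm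
      · rintro _ ⟨v, hv, rfl⟩
        exact mul_mem (mul_mem hs (hS hv)) (inv_mem hs)
      · haveI := hV.1
        refine ⟨⟨⟨?_⟩⟩, fun x hx => ?_⟩
        · rintro ⟨_, a, ha, rfl⟩ ⟨_, b, hb, rfl⟩
          refine Subtype.ext ?_
          show e.toMonoidHom a * e.toMonoidHom b = e.toMonoidHom b * e.toMonoidHom a
          have h : a * b = b * a :=
            congrArg Subtype.val (this.is_comm.comm (⟨a, ha⟩ : ↥V) ⟨b, hb⟩)
          rw [← map_mul, ← map_mul, h]
        · obtain ⟨v, hv, rfl⟩ := hx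
          rw [← map_pow, hV.2 v hv, map_one]
      · rw [← hcard]
        exact (Nat.card_congr (V.equivMapOfInjective _ e.injective).toEquiv).symm
    refine Subgroup.mem_normalizer_iff.2 fun x => ⟨fun hx => hmap ▸ ⟨x, hx, rfl⟩, fun hx => ?_⟩
    have hx' : s * x * s⁻¹ ∈ V.map e.toMonoidHom := hmap.symm ▸ hx
    obtain ⟨y, hy, ey⟩ := hx'
    exact e.injective ey ▸ hy
  obtain ⟨T, hT⟩ := hA.exists_le_sylow
  obtain ⟨g, hg⟩ := MulAction.exists_smul_eq G T S
  refine ⟨g, le_trans ?_ hSN⟩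
  rw [← hg]
  exact Subgroup.map_mono hT

theorem exists_frame (hG : ¬ IsMulCommutative G) (hJ : Cfsg.IsOfJankoFourType G) :
    ∃ (z : G) (V : Subgroup G) (φ : ↥(Subgroup.normalizer (V : Set G)) →* ↥M24)
      (cl : (GolayPt → ZMod 2) → G) (κ : ↥M24 →* G),
      Frame z V φ cl κ ∧ Cfsg.IsOfJankoFourTypeAt z := by
  obtain ⟨z, P, hJP⟩ := hJ
  have hJT : Cfsg.IsOfJankoFourType G := ⟨z, P, hJP⟩
  obtain ⟨V, p, φ, cl, hV, hVc, hcore, hlab, -⟩ := J4InvolMain46.exists_standard hG hJP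
  obtain ⟨hcen, K, hKN, hKV, hKsup, -⟩ := S5567.result hG hJT V hV hVc
  have hK : J4Invol46.Compl V K := ⟨hKN, hKV, hKsup⟩
  obtain ⟨κ, hκN, hκφ⟩ := exists_lift hK hlab
  refine ⟨z, V, φ, cl, κ, ⟨hlab, hVc, hκN, hκφ, ?_, ?_, ?_, J4TenOuter85.exists_outer hG hJP V hV hVc⟩,
    P, hJP⟩
  · obtain ⟨-, t, -, htV, ht1, -, htn, -, -, hle⟩ := S5568.result hG z ⟨P, hJP⟩ V hV hVc
    obtain ⟨a, b, hab, hab'⟩ := (hlab.duad t).1 ⟨htV, ht1, htn⟩
    intro x hxV hx1 hxn
    obtain ⟨c, d, hcd, hcd'⟩ := (hlab.duad x).1 ⟨hxV, hx1, hxn⟩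
    obtain ⟨σ, hσ, hσe⟩ := exists_map_sets (s := ({a, b} : Finset GolayPt)) (t := {c, d})
      (by rw [Finset.card_pair hab, Finset.card_pair hcd]) (by rw [Finset.card_pair hab]; norm_num)
    obtain ⟨m, hm⟩ := hlab.surj ⟨σ, hσ⟩
    have hms : (m : G) * t * (m : G)⁻¹ = x := by
      rw [← hab', ← hcd', hlab.equiv m a b hab, hm, ← hσe]
      simp [Finset.smul_finset_def]
    intro y hy
    have h1 : (m : G)⁻¹ * y * m ∈ Subgroup.normalizer (V : Set G) := hle (by
      rw [Subgroup.mem_centralizer_singleton_iff] at hy ⊢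
      rw [← hms] at hy
      calc (m : G)⁻¹ * y * m * t = (m : G)⁻¹ * (y * ((m : G) * t * (m : G)⁻¹)) * m := by group
        _ = (m : G)⁻¹ * (((m : G) * t * (m : G)⁻¹) * y) * m := by rw [hy]
        _ = t * ((m : G)⁻¹ * y * m) := by group)
    simpa [mul_assoc] using mul_mem (mul_mem m.2 h1) (inv_mem m.2)
  · intro i hi
    refine J4InvolMain46.exists_conj_into hG ⟨P, hJP⟩ (fun A hA hAc => ?_) hV hVc hi
    obtain ⟨-, L, h1, h2, h3, -⟩ := S5567.result hG hJT A hA hAc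
    exact ⟨L, h1, h2, h3⟩
  · exact fun A hA => exists_conj_normalizer (fun T => S5566.result hG hJT T) hV hVc hA

end Cfsg.Agent.J4TenFrame4
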