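import Mathlib
import Cfsg.Agent.Lib.J4TenCode61

/-!
A check of the tables kept in a module of its own.
-/

set_option autoImplicit false
set_option maxRecDepth 100000
set_option maxHeartbeats 4000000

namespace Cfsg.Agent.J4TenCert61

open Cfsg.Agent.GolayBasic Cfsg.Agent.GolayPerm Cfsg.Agent.GolayEnum Cfsg.Agent.J4TenBits61
open Cfsg.Agent.J4TenCode61 Cfsg.Agent.J4TenData61

theorem inv_table : (List.zip invP (List.zip invRows invNbs)).zipIdx.all (fun a =>
    invP.zipIdx.all fun b => Nat.beq a.2 b.2 || !commP a.1.1 b.1 ||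
      (Nat.testBit a.1.2.2 b.2 && Nat.blt (byte a.1.2.1 b.2) 191 &&
        Nat.beq (pcomp a.1.1 b.1) (invP.getD (byte a.1.2.1 b.2) 0))) = true := by decide +kernel

end Cfsg.Agent.J4TenCert61
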