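import Mathlib
import Cfsg.Agent.Lib.J4TenRigid30

/-!
The linear action of the normaliser on the coded elementary abelian subgroup of order `2 ^ 10`.
-/

set_option autoImplicit false

namespace Cfsg.Agent.J4TenLinear85

open Subgroup Cfsg.Agent.J4TenCert61

variable {G : Type*} [Group G]

/-- The normaliser acts through `GL(5,2)` with kernel in the subgroup. -/
theorem exists_linear {A : Subgroup G} (θ : ℕ → G) (hmem : ∀ a < 1024, θ a ∈ A)
    (hsurj : ∀ x ∈ A, ∃ a < 1024, θ a = x)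
    (hinj : ∀ a < 1024, ∀ b < 1024, θ a = θ b → a = b)
    (hxor : ∀ a < 1024, ∀ b < 1024, θ (Nat.xor a b) = θ a * θ b)
    (hself : Subgroup.centralizer (A : Set G) = A)
    (hdec : ∀ n ∈ Subgroup.normalizer (A : Set G), ∀ a < 1024, decBits.testBit a = true →
      ∀ b < 1024, θ b = n * θ a * n⁻¹ → decBits.testBit b = true) :
    ∃ ψ : ↥(Subgroup.normalizer (A : Set G)) →* GL (Fin 5) (ZMod 2), ∀ m, ψ m = 1 → (m : G) ∈ A := by
  classical
  have hex : ∀ (m : ↥(Subgroup.normalizer (A : Set G))) (a : ℕ), a < 1024 →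
      ∃ b, b < 1024 ∧ θ b = (m : G) * θ a * (m : G)⁻¹ := fun m a ha => by
    obtain ⟨b, hb, e⟩ := hsurj _ ((Subgroup.mem_normalizer_iff.1 m.2 _).1 (hmem a ha))
    exact ⟨b, hb, e⟩
  choose f hf1 hf2 using hex
  let ρ : ↥(Subgroup.normalizer (A : Set G)) → ℕ → ℕ := fun m a =>
    if h : a < 1024 then f m a h else a
  have hρ : ∀ m a, a < 1024 → ρ m a < 1024 ∧ θ (ρ m a) = (m : G) * θ a * (m : G)⁻¹ := fun m a ha => by
    simp only [ρ, dif_pos ha]
    exact ⟨hf1 m a ha, hf2 m a ha⟩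
  have hx : ∀ a b : ℕ, a < 1024 → b < 1024 → Nat.xor a b < 1024 := fun a b ha hb =>
    Nat.xor_lt_two_pow (n := 10) ha hb
  obtain ⟨ψ, hψ⟩ := J4TenRigid30.exists_gl ρ (fun m a ha => (hρ m a ha).1)
    (fun m a b ha hb => hinj _ (hρ m _ (hx a b ha hb)).1 _ (hx _ _ (hρ m a ha).1 (hρ m b hb).1) (by
      rw [(hρ m _ (hx a b ha hb)).2, hxor a ha b hb, hxor _ (hρ m a ha).1 _ (hρ m b hb).1,
        (hρ m a ha).2, (hρ m b hb).2]
      group))
    (fun a ha => hinj _ (hρ 1 a ha).1 _ ha (by rw [(hρ 1 a ha).2]; simp))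
    (fun h k a ha => hinj _ (hρ (h * k) a ha).1 _ (hρ h _ (hρ k a ha).1).1 (by
      rw [(hρ (h * k) a ha).2, (hρ h _ (hρ k a ha).1).2, (hρ k a ha).2, Subgroup.coe_mul]
      group))
    (fun m a ha hd => hdec m m.2 a ha hd _ (hρ m a ha).1 (hρ m a ha).2)
  refine ⟨ψ, fun m hm => ?_⟩
  refine hself.le ?_
  rw [Subgroup.mem_centralizer_iff]
  intro x hx'
  obtain ⟨a, ha, rfl⟩ := hsurj x hx'
  have h1 := (hρ m a ha).2
  rw [hψ m hm a ha] at h1
  exact (eq_mul_inv_iff_mul_eq.1 h1)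

end Cfsg.Agent.J4TenLinear85
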