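import Mathlib
import Cfsg.Agent.Lib.J4TenFrame4
import Cfsg.Agent.Lib.J4TenBridge4
import Cfsg.Agent.Lib.J4TenEnd85
import Cfsg.Agent.Lib.J4TenLinear85

/-!
Self-centralising elementary abelian subgroups of order `2 ^ 10` in a simple group of Janko-four type.
-/

set_option autoImplicit false
set_option maxRecDepth 100000
set_option linter.unusedSectionVars false

namespace Cfsg.Agent.J4TenMain4

open Cfsg Cfsg.Agent.J4TenCert61
open Cfsg.Agent.J4TenModel4 Cfsg.Agent.J4TenInner4 Cfsg.Agent.J4TenCount4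
open Cfsg.Agent.GolayModule hiding act

universe u

variable {G : Type u} [Group G] [Finite G]

/-- what the conclusion says about one subgroup -/
def Good (A : Subgroup G) : Prop :=
  (∃ B : Subgroup G, B ≤ Subgroup.normalizer (A : Set G) ∧ B ⊓ A = ⊥ ∧
    B ⊔ A = Subgroup.normalizer (A : Set G) ∧
    Nonempty (↥B ≃* Matrix.SpecialLinearGroup (Fin 5) (ZMod 2))) ∧
  ∃ a b : G, a ∈ A ∧ b ∈ A ∧ (orb (Subgroup.normalizer (A : Set G)) a).ncard = 155 ∧
    (orb (Subgroup.normalizer (A : Set G)) b).ncard = 868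

theorem orb_map (K : Subgroup G) (e : G ≃* G) (a : G) :
    orb (K.map e.toMonoidHom) (e a) = e '' orb K a := by
  ext v
  constructor
  · rintro ⟨_, ⟨n, hn, rfl⟩, rfl⟩
    exact ⟨n * a * n⁻¹, ⟨n, hn, rfl⟩, by simp⟩
  · rintro ⟨_, ⟨n, hn, rfl⟩, rfl⟩
    exact ⟨e n, ⟨n, hn, rfl⟩, by simp⟩

theorem Good.map {A : Subgroup G} (h : Good A) (e : G ≃* G) : Good (A.map e.toMonoidHom) := by
  obtain ⟨⟨B, hB, hBA, hBs, ⟨iso⟩⟩, a, b, ha, hb, h1, h2⟩ := h
  have hN : Subgroup.normalizer ((A.map e.toMonoidHom : Subgroup G) : Set G) =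
      (Subgroup.normalizer (A : Set G)).map e.toMonoidHom :=
    (Subgroup.map_equiv_normalizer_eq A e).symm
  refine ⟨⟨B.map e.toMonoidHom, ?_, ?_, ?_,
    ⟨(B.equivMapOfInjective e.toMonoidHom e.injective).symm.trans iso⟩⟩,
    e a, e b, ⟨a, ha, rfl⟩, ⟨b, hb, rfl⟩, ?_, ?_⟩
  · rw [hN]; exact Subgroup.map_mono hB
  · rw [← Subgroup.map_inf _ _ e.toMonoidHom e.injective, hBA, Subgroup.map_bot]
  · rw [hN, ← Subgroup.map_sup, hBs]
  · rw [hN, orb_map, Set.ncard_image_of_injective _ e.injective, h1]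
  · rw [hN, orb_map, Set.ncard_image_of_injective _ e.injective, h2]

section
variable {z : G} {V : Subgroup G} {φ : ↥(Subgroup.normalizer (V : Set G)) →* ↥M24}
  {cl : (GolayPt → ZMod 2) → G} {κ : ↥M24 →* G} (F : Frame z V φ cl κ)
include F

theorem dec_ne_zero {a : ℕ} (h : decBits.testBit a = true) : a ≠ 0 := by
  rintro rfl
  rcases (decBits_iff 0).1 h with h | h
  · exact Bool.false_ne_true (J4TenOrbit4.orb_nonzero.2.1 ▸ h)
  · exact Bool.false_ne_true (J4TenOrbit4.orb_nonzero.2.2.1 ▸ h)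

theorem good_A0 (hcl : Classified F) : Good (A0 F) := by
  obtain ⟨u, hu, h155⟩ := orbit_Z F hcl
  refine ⟨?_, theta cl κ u, theta cl κ T0, ⟨u, hu, rfl⟩, ⟨T0, T0_facts.2.1, rfl⟩, h155,
    orbit_T F hcl⟩
  obtain ⟨ψ, hψ⟩ := J4TenLinear85.exists_linear (A := A0 F) (theta cl κ) (fun a ha => ⟨a, ha, rfl⟩)
    (fun x hx => hx) (fun a ha b hb e => theta_inj F ha hb e) (fun a ha b hb => theta_xor F ha hb)
    (centralizer_A0 F) (fun n hn a ha had b hb e => by
      have ha0 := dec_ne_zero F had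
      have hb0 : b ≠ 0 := fun h0 => by
        rw [h0, theta_zero F, eq_comm, conj_eq_one_iff] at e
        exact ne_one F ha ha0 e
      exact (class_z F hcl hb hb0).1
        (((class_z F hcl ha ha0).2 had).trans (isConj_iff.2 ⟨n, e.symm⟩)))
  exact J4TenEnd85.exists_split (A0_ea F) (card_A0 F) (counts F hcl).2
    ((B0_le F).trans inf_le_left) (B0_inf F) (card_B0 F) ψ hψ

theorem exists_conj_A0 (hcl : Classified F) {A : Subgroup G} (hA : IsElementaryAbelian 2 A)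
    (hc : Nat.card ↥A = 2 ^ 10) (hs : Subgroup.centralizer (A : Set G) = A) :
    ∃ g : G, A = (A0 F).map (MulAut.conj g).toMonoidHom := by
  haveI : Fact (Nat.Prime 2) := ⟨Nat.prime_two⟩
  obtain ⟨g, hg⟩ := F.syl A (IsPGroup.of_card hc)
  obtain ⟨k, -, hk⟩ := hcl _ (ea_map hA _)
    (by rw [Subgroup.card_map_of_injective (MulAut.conj g).injective, hc])
    (by rw [centralizer_map, hs]) hg
  refine ⟨(k * g)⁻¹, ?_⟩
  rw [← hk, map_conj_mul, map_conj_mul, mul_assoc (k * g)⁻¹, inv_mul_cancel, map_one]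
  exact (Subgroup.map_id _).symm

end

/-- the whole theorem -/
theorem main [IsSimpleGroup G] (hG : ¬ IsMulCommutative G) (hJ : Cfsg.IsOfJankoFourType G) :
    ∃ A₀ : Subgroup G, IsElementaryAbelian 2 A₀ ∧ Nat.card ↥A₀ = 2 ^ 10 ∧
      Subgroup.centralizer (A₀ : Set G) = A₀ ∧
      ∀ A : Subgroup G, IsElementaryAbelian 2 A → Nat.card ↥A = 2 ^ 10 →
        Subgroup.centralizer (A : Set G) = A →
          (∃ g : G, A = A₀.map (MulAut.conj g).toMonoidHom) ∧ Good A := by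
  obtain ⟨z, V, φ, cl, κ, F, hz⟩ := J4TenFrame4.exists_frame hG hJ
  have hcl := J4TenBridge4.classified F (J4TenBridge4.z_odd F hz)
  refine ⟨A0 F, A0_ea F, card_A0 F, centralizer_A0 F, fun A hA hc hs => ?_⟩
  obtain ⟨g, rfl⟩ := exists_conj_A0 F hcl hA hc hs
  exact ⟨⟨g, rfl⟩, (good_A0 F hcl).map _⟩

end Cfsg.Agent.J4TenMain4
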