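import Mathlib
import Cfsg.Agent.Lib.J4TenCode61

/-!
A check of the tables kept in a module of its own.
-/

set_option autoImplicit false
set_option maxRecDepth 100000
set_option maxHeartbeats 4000000

namespace Cfsg.Agent.J4TenCert61

open Cfsg.Agent.GolayBasic Cfsg.Agent.GolayPerm Cfsg.Agent.GolayEnum Cfsg.Agent.J4TenBits61
open Cfsg.Agent.J4TenCode61 Cfsg.Agent.J4TenData61

theorem syl_distinct : (let l := sylP.flatten.map fun P => pimg P 0 + 32 * (pimg P 1 + 32 * (pimg P 2 +
      32 * (pimg P 3 + 32 * (pimg P 4 + 32 * (pimg P 5 + 32 * (pimg P 12 + 32 * (pimg P 14)))))));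
    List.all (List.range 32) fun i => List.all (List.range 32) fun j =>
      ((l.drop (32 * i)).take 32).zipIdx.all fun a => ((l.drop (32 * j)).take 32).zipIdx.all fun b =>
        !Nat.beq a.1 b.1 || Nat.beq (32 * i + a.2) (32 * j + b.2)) = true := by decide +kernel

end Cfsg.Agent.J4TenCert61
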