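import Mathlib
import Cfsg.Agent.Lib.J4TenWalkMain30
import Cfsg.Agent.Lib.J4TenInvTable30
import Cfsg.Agent.Lib.J4TenSylDistinct30
import Cfsg.Agent.Lib.GolayM24

/-!
Commutative subgroups of exponent two of M24 against their fixed codes: up to conjugation the subgroup
is that of the sixteen translations, or its order times the number of its fixed codes is below 1024.
-/

set_option autoImplicit false
set_option maxRecDepth 100000
set_option maxHeartbeats 800000

namespace Cfsg.Agent.J4TenPerm30

open Cfsg Cfsg.Agent.GolayBasic Cfsg.Agent.GolayPerm Cfsg.Agent.GolayEnum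
open Cfsg.Agent.J4TenBits61 Cfsg.Agent.J4TenCode61 Cfsg.Agent.J4TenData61 Cfsg.Agent.J4TenCert61

/-- the element of the table of involutions -/
noncomputable def ip (i : ℕ) : Equiv.Perm GolayPt := permOf (invP.getD i 0)

/-- the translations -/
def QSet : Set (Equiv.Perm GolayPt) := {x | ∃ a < 16, permOf (qelP.getD a 0) = x}

theorem syl_good : sylP.all (fun r => r.all good) = true := by decide +kernel

theorem inv_len : invP.length = 191 ∧ invRows.length = 191 ∧ invNbs.length = 191 ∧ invFix.length = 191 ∧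
    gsP.all valid = true := by decide +kernel

theorem q_cover : qelP.all (fun P => Nat.beq P idP || qIdx.any fun h =>
    Nat.blt h 191 && Nat.beq (invP.getD h 0) P) = true ∧
    qIdx.all (fun h => Nat.blt h 191 && !Nat.beq (invP.getD h 0) idP) = true := by decide +kernel

theorem inv_facts {i : ℕ} (hi : i < 191) :
    valid (invP.getD i 0) = true ∧ pcomp (invP.getD i 0) idP = invP.getD i 0 ∧ invP.getD i 0 ≠ idP := by
  have h := List.all_eq_true.1 inv_valid _ (List.getElem_mem (l := invP) (by rw [inv_len.1]; exact hi))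
  simp only [Bool.and_eq_true, Nat.beq_eq, Bool.not_eq_true', ← Bool.not_eq_true] at h
  rw [List.getD_eq_getElem _ _ (by rw [inv_len.1]; exact hi)]
  exact ⟨h.1.1, h.1.2, h.2⟩

theorem valid_idP : valid idP = true ∧ pcomp idP idP = idP := by decide +kernel

theorem ip_ne {i : ℕ} (hi : i < 191) : ip i ≠ 1 := fun e => (inv_facts hi).2.2
  (eq_of_permOf_eq (inv_facts hi).1 valid_idP.1 (inv_facts hi).2.1 valid_idP.2 (e.trans permOf_idP.symm))

/-- the entry of the Sylow table -/
noncomputable def sp (i : ℕ) : Equiv.Perm GolayPt := permOf (sylP.flatten.getD i 0)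

theorem syl_mem {i : ℕ} (hi : i < 1024) : sylP.flatten.getD i 0 ∈ sylP.flatten ∧
    valid (sylP.flatten.getD i 0) = true ∧ good (sylP.flatten.getD i 0) = true ∧
    pcomp (sylP.flatten.getD i 0) idP = sylP.flatten.getD i 0 := by
  have hl : i < sylP.flatten.length := by rw [syl_sizes.1]; exact hi
  rw [List.getD_eq_getElem _ _ hl]
  have hm := List.getElem_mem hl
  obtain ⟨r, hr, hP⟩ := List.mem_flatten.1 hm
  have h1 := List.all_eq_true.1 (List.all_eq_true.1 syl_valid r hr) _ hP
  simp only [Bool.and_eq_true, Nat.beq_eq] at h1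
  exact ⟨hm, h1.1, List.all_eq_true.1 (List.all_eq_true.1 syl_good r hr) _ hP, h1.2⟩

theorem get32_list : sameList ((List.range 1024).map (get32 sylP)) sylP.flatten = true := by decide +kernel

theorem get32_eq : (List.range 1024).all (fun i => Nat.beq (get32 sylP i) (sylP.flatten.getD i 0)) = true := by
  rw [List.all_eq_true]
  intro i hi
  rw [Nat.beq_eq, ← sameList_iff get32_list,
    List.getD_eq_getElem _ _ (by simpa using List.mem_range.1 hi)]
  simp

theorem sylNext_ok : (List.zip gsP sylNext).all (fun e => e.2.all fun i => Nat.blt i 1024) = true := by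
  decide +kernel

/-- multiplying by a generator stays in the table -/
theorem gen_mul {g : ℕ} (hg : g < gsP.length) {i : ℕ} (hi : i < 1024) :
    ∃ k < 1024, permOf (gsP.getD g 0) * sp i = sp k := by
  have hlen : sylNext.length = gsP.length := syl_sizes.2.2.2.2.1
  have hz : g < (List.zip gsP sylNext).length := by rw [List.length_zip, hlen, min_self]; exact hg
  have h := List.all_eq_true.1 syl_closed _ (List.getElem_mem hz)
  rw [List.getElem_zip] at h
  dsimp only at h
  have he := sameList_iff h
  have hlen' : (sylNext[g]'(hlen ▸ hg)).length = 1024 := by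
    have := congrArg List.length he
    rw [List.length_map, List.length_map, syl_sizes.1] at this
    exact this.symm
  have hk : (sylNext[g]'(hlen ▸ hg))[i]'(hlen' ▸ hi) < 1024 := by
    have h2 := List.all_eq_true.1 sylNext_ok _ (List.getElem_mem hz)
    rw [List.getElem_zip] at h2
    exact Nat.blt_eq ▸ List.all_eq_true.1 h2 _ (List.getElem_mem _)
  refine ⟨_, hk, ?_⟩
  have hv : valid (gsP.getD g 0) = true := by
    rw [List.getD_eq_getElem _ _ hg]
    exact List.all_eq_true.1 inv_len.2.2.2.2 _ (List.getElem_mem hg)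
  have hi' : i < sylP.flatten.length := by rw [syl_sizes.1]; exact hi
  have e := List.getElem_of_eq he (i := i) (by rw [List.length_map]; exact hi')
  rw [List.getElem_map, List.getElem_map] at e
  have hg32 := List.all_eq_true.1 get32_eq _ (List.mem_range.2 hk)
  rw [Nat.beq_eq] at hg32
  replace e := e.trans hg32
  rw [← List.getD_eq_getElem sylP.flatten 0 hi', ← List.getD_eq_getElem gsP 0 hg] at e
  exact (permOf_pcomp hv (syl_mem hi).2.1 (syl_mem hk).2.1 e.symm).symm

theorem sp_zero : sp 0 = 1 := by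
  have h := syl_head
  rw [Nat.beq_eq] at h
  have h2 := List.all_eq_true.1 get32_eq 0 (by simp)
  rw [Nat.beq_eq] at h2
  rw [sp, ← h2, h, permOf_idP]

theorem tree_at {i : ℕ} (hi : i < 1024) (h0 : i ≠ 0) : ∃ g < gsP.length, ∃ k < i,
    sylP.flatten.getD i 0 = pcomp (gsP.getD g 0) (sylP.flatten.getD k 0) := by
  have hz : i < (List.zip sylP.flatten (List.zip sylPar sylGen)).zipIdx.length := by
    rw [List.length_zipIdx, List.length_zip, List.length_zip, syl_sizes.1, syl_sizes.2.1, syl_sizes.2.2.1]
    simpa using hi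
  have h := List.all_eq_true.1 syl_tree _ (List.getElem_mem hz)
  rw [List.getElem_zipIdx, List.getElem_zip, List.getElem_zip] at h
  simp only [Nat.zero_add, Bool.or_eq_true, Bool.and_eq_true, Nat.beq_eq, Nat.blt_eq] at h
  obtain ⟨⟨hk, hg⟩, e⟩ := h.resolve_left h0
  refine ⟨_, hg, _, hk, ?_⟩
  have hg32 := List.all_eq_true.1 get32_eq _ (List.mem_range.2 (hk.trans hi))
  rw [Nat.beq_eq] at hg32
  rw [← hg32, List.getD_eq_getElem sylP.flatten 0 (by rw [syl_sizes.1]; exact hi)]
  exact e

theorem sp_mul : ∀ i < 1024, ∀ j < 1024, ∃ k < 1024, sp i * sp j = sp k := by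
  intro i
  induction i using Nat.strong_induction_on with
  | _ i ih =>
    intro hi j hj
    by_cases h0 : i = 0
    · subst h0
      exact ⟨j, hj, by rw [sp_zero, one_mul]⟩
    obtain ⟨g, hg, k, hk, e⟩ := tree_at hi h0
    obtain ⟨l, hl, el⟩ := ih k hk (hk.trans hi) j hj
    obtain ⟨m, hm, em⟩ := gen_mul hg hl
    refine ⟨m, hm, ?_⟩
    have hv : valid (gsP.getD g 0) = true := by
      rw [List.getD_eq_getElem _ _ hg]
      exact List.all_eq_true.1 inv_len.2.2.2.2 _ (List.getElem_mem hg)
    rw [sp, permOf_pcomp hv (syl_mem (hk.trans hi)).2.1 (syl_mem hi).2.1 e, mul_assoc, ← em, ← el]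
    rfl

/-- the Sylow subgroup of the table -/
noncomputable def syl : Subgroup (Equiv.Perm GolayPt) where
  carrier := {x | ∃ i < 1024, sp i = x}
  one_mem' := ⟨0, by norm_num, sp_zero⟩
  mul_mem' := by
    rintro _ _ ⟨i, hi, rfl⟩ ⟨j, hj, rfl⟩
    obtain ⟨k, hk, e⟩ := sp_mul i hi j hj
    exact ⟨k, hk, e.symm⟩
  inv_mem' := by
    rintro _ ⟨i, hi, rfl⟩
    have hpow : ∀ n : ℕ, ∃ k < 1024, sp i ^ n = sp k := by
      intro n
      induction n with
      | zero => exact ⟨0, by norm_num, by rw [pow_zero, sp_zero]⟩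
      | succ n ih =>
        obtain ⟨k, hk, e⟩ := ih
        obtain ⟨m, hm, em⟩ := sp_mul k hk i hi
        exact ⟨m, hm, by rw [pow_succ, e, em]⟩
    obtain ⟨k, hk, e⟩ := hpow (orderOf (sp i) - 1)
    refine ⟨k, hk, ?_⟩
    rw [← e]
    refine eq_inv_of_mul_eq_one_left ?_
    rw [← pow_succ, Nat.sub_add_cancel (orderOf_pos (sp i)), pow_orderOf_eq_one]

theorem syl_le : syl ≤ M24 := by
  rintro _ ⟨i, hi, rfl⟩
  exact permOf_mem_M24 (syl_mem hi).2.2.1

/-- the distinguishing key -/
def key (P : ℕ) : ℕ := pimg P 0 + 32 * (pimg P 1 + 32 * (pimg P 2 +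
  32 * (pimg P 3 + 32 * (pimg P 4 + 32 * (pimg P 5 + 32 * (pimg P 12 + 32 * (pimg P 14)))))))

theorem card_syl : Nat.card syl = 1024 := by
  have hinj : Function.Injective fun i : Fin 1024 => (⟨sp i, i, i.2, rfl⟩ : syl) := by
    intro i j e
    have he : sylP.flatten.getD i 0 = sylP.flatten.getD j 0 := eq_of_permOf_eq (syl_mem i.2).2.1
      (syl_mem j.2).2.1 (syl_mem i.2).2.2.2 (syl_mem j.2).2.2.2 (congrArg Subtype.val e)
    have hd := syl_distinct
    simp only [List.all_eq_true, List.mem_range] at hd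
    set l := List.map (fun P => pimg P 0 + 32 * (pimg P 1 + 32 * (pimg P 2 +
      32 * (pimg P 3 + 32 * (pimg P 4 + 32 * (pimg P 5 + 32 * (pimg P 12 + 32 * (pimg P 14)))))))) sylP.flatten
      with hl
    have hll : l.length = 1024 := by rw [hl, List.length_map, syl_sizes.1]
    have get : ∀ n : Fin 1024, ∀ (h : (n : ℕ) % 32 < ((l.drop (32 * ((n : ℕ) / 32))).take 32).zipIdx.length),
        ((l.drop (32 * ((n : ℕ) / 32))).take 32).zipIdx[(n : ℕ) % 32] =
          (key (sylP.flatten.getD n 0), (n : ℕ) % 32) := by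
      intro n h
      have hn : (n : ℕ) < sylP.flatten.length := by rw [syl_sizes.1]; exact n.2
      simp only [List.getElem_zipIdx, List.getElem_take, List.getElem_drop, hl, List.getElem_map,
        Nat.div_add_mod, Nat.zero_add, List.getD_eq_getElem sylP.flatten 0 hn]
      rfl
    have len : ∀ n : Fin 1024, (n : ℕ) % 32 < ((l.drop (32 * ((n : ℕ) / 32))).take 32).zipIdx.length := by
      intro n
      rw [List.length_zipIdx, List.length_take, List.length_drop, hll]
      have := n.2
      omega
    have h := hd ((i : ℕ) / 32) (by omega) ((j : ℕ) / 32) (by omega) _ (List.getElem_mem (len i))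
      _ (List.getElem_mem (len j))
    rw [get i (len i), get j (len j), he] at h
    simp only [Bool.or_eq_true, Bool.not_eq_true', Nat.beq_eq] at h
    rcases h with h | h
    · rw [Nat.beq_refl] at h
      exact Bool.noConfusion h
    · rw [Nat.div_add_mod, Nat.div_add_mod] at h
      exact Fin.ext h
  have hsurj : Function.Surjective fun i : Fin 1024 => (⟨sp i, i, i.2, rfl⟩ : syl) :=
    fun ⟨x, i, hi, e⟩ => ⟨⟨i, hi⟩, Subtype.ext e⟩
  rw [← Nat.card_congr (Equiv.ofBijective _ ⟨hinj, hsurj⟩), Nat.card_fin]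

/-- involutions of the Sylow subgroup are listed -/
theorem syl_invol {x : Equiv.Perm GolayPt} (hx : x ∈ syl) (h2 : x * x = 1) (h1 : x ≠ 1) :
    ∃ i < 191, ip i = x := by
  obtain ⟨n, hn, rfl⟩ := hx
  have hl : n < sylP.flatten.length := by rw [syl_sizes.1]; exact hn
  have hl2 : n < (List.zip sylP.flatten sylInv).length := by
    rw [List.length_zip, syl_sizes.1, syl_sizes.2.2.2.1]
    simpa using hn
  have h := List.all_eq_true.1 syl_inv _ (List.getElem_mem hl2)
  rw [List.getElem_zip, ← List.getD_eq_getElem sylP.flatten 0 hl] at h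
  simp only [Bool.or_eq_true, Bool.and_eq_true, Nat.beq_eq, Bool.not_eq_true', ← Bool.not_eq_true,
    Nat.blt_eq] at h
  rcases h with (h | h) | ⟨hk, h⟩
  · exact absurd (by rw [sp, h, permOf_idP]) h1
  · refine absurd ?_ h
    have hv := (syl_mem hn).2.1
    refine congrArg horner ((List.map_congr_left fun i hi => ?_).trans (List.map_id _))
    have e := DFunLike.congr_fun h2 (pt i)
    rw [sp, Equiv.Perm.mul_apply, permOf_apply hv, permOf_apply hv, pfun, pfun,
      idx_pt (mem_pts.1 hi), idx_pt (pimg_lt hv (mem_pts.1 hi)), Equiv.Perm.one_apply] at e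
    have := congrArg idx e
    rwa [idx_pt (pimg_lt hv (pimg_lt hv (mem_pts.1 hi))), idx_pt (mem_pts.1 hi)] at this
  · exact ⟨_, hk, by rw [ip, sp, h]⟩

theorem table_entry {i j : ℕ} (hi : i < 191) (hj : j < 191) (hne : ip i ≠ ip j)
    (hc : ip i * ip j = ip j * ip i) :
    (invNbs.getD i 0).testBit j = true ∧ byte (invRows.getD i 0) j < 191 ∧
      ip i * ip j = ip (byte (invRows.getD i 0) j) := by
  have li : i < invP.length := by rw [inv_len.1]; exact hi
  have lj : j < invP.length := by rw [inv_len.1]; exact hj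
  have l1 : i < (List.zip invP (List.zip invRows invNbs)).zipIdx.length := by
    rw [List.length_zipIdx, List.length_zip, List.length_zip, inv_len.1, inv_len.2.1, inv_len.2.2.1]
    simpa using hi
  have h := List.all_eq_true.1 (List.all_eq_true.1 inv_table _ (List.getElem_mem l1)) _
    (List.getElem_mem (l := invP.zipIdx) (n := j) (by rw [List.length_zipIdx]; exact lj))
  rw [List.getElem_zipIdx, List.getElem_zipIdx, List.getElem_zip, List.getElem_zip,
    ← List.getD_eq_getElem invP 0 li, ← List.getD_eq_getElem invP 0 lj,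
    ← List.getD_eq_getElem invRows 0 (by rw [inv_len.2.1]; exact hi),
    ← List.getD_eq_getElem invNbs 0 (by rw [inv_len.2.2.1]; exact hi)] at h
  simp only [Nat.zero_add, Bool.or_eq_true, Bool.and_eq_true, Nat.beq_eq, Bool.not_eq_true', Nat.blt_eq] at h
  rcases h with (h | h) | h
  · subst h; exact absurd rfl hne
  · exfalso
    rw [commP, List.all_eq_false] at h
    obtain ⟨q, hq, hq'⟩ := h
    refine hq' ?_
    rw [Nat.beq_eq]
    have hvi := (inv_facts hi).1
    have hvj := (inv_facts hj).1
    have e := DFunLike.congr_fun hc (pt q)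
    rw [ip, ip, Equiv.Perm.mul_apply, Equiv.Perm.mul_apply, permOf_apply hvj, permOf_apply hvi,
      permOf_apply hvi, permOf_apply hvj, pfun, pfun, pfun, pfun, idx_pt (mem_pts.1 hq),
      idx_pt (pimg_lt hvj (mem_pts.1 hq)), idx_pt (pimg_lt hvi (mem_pts.1 hq))] at e
    have := congrArg idx e
    rwa [idx_pt (pimg_lt hvi (pimg_lt hvj (mem_pts.1 hq))),
      idx_pt (pimg_lt hvj (pimg_lt hvi (mem_pts.1 hq)))] at this
  · obtain ⟨⟨h1, h2⟩, h3⟩ := h
    exact ⟨h1, h2, (permOf_pcomp (inv_facts hi).1 (inv_facts hj).1 (inv_facts h2).1 h3.symm).symm⟩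

/-- inside the Sylow subgroup: the translations, or few fixed codes -/
theorem in_syl (W : Subgroup (Equiv.Perm GolayPt)) (hWS : W ≤ syl) (hne : W ≠ ⊥)
    (hab : ∀ x ∈ W, ∀ y ∈ W, x * y = y * x) (hsq : ∀ x ∈ W, x * x = 1) :
    (W : Set (Equiv.Perm GolayPt)) = QSet ∨ ∀ S : Finset ℕ,
      (∀ c ∈ S, c < 2048 ∧ ∀ P, valid P = true → permOf P ∈ W → act P c = c) →
      Nat.card W * S.card < 1024 := by
  classical
  by_contra hcon
  push Not at hcon
  obtain ⟨hQ, S, hS, hbig⟩ := hcon
  obtain ⟨span, U, hleaf, hspan, hall, hU⟩ := J4TenWalk30.walk_sound ip W (· ∈ S)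
    (fun x hx h1 => syl_invol (hWS hx) (hsq x hx) h1) hab hsq
    (fun i hi j hj hne hc => table_entry hi hj hne hc)
    (fun c hc j hj hjW => by
      rw [show invFix.getD j 0 = fixSet (invP.getD j 0) by
        rw [invFix, List.getD_eq_getElem _ _ (by rw [List.length_map, inv_len.1]; exact hj),
          List.getElem_map, List.getD_eq_getElem _ _ (by rw [inv_len.1]; exact hj)]]
      exact fixSet_bit (hS c hc).1 ((hS c hc).2 _ (inv_facts hj).1 hjW))
    (fun c hc => (hS c hc).1)
  simp only [leafT, Bool.or_eq_true, Bool.and_eq_true, Nat.beq_eq, List.all_eq_true,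
    List.any_eq_true] at hleaf
  rcases hleaf with (h0 | ⟨⟨-, hq⟩, hq'⟩) | hp
  · refine hne ((Subgroup.eq_bot_iff_forall W).2 fun x hx => ?_)
    by_contra hx1
    obtain ⟨h, hh, -⟩ := hall x hx hx1
    rw [List.length_eq_zero_iff.1 h0] at hh
    exact List.not_mem_nil hh
  · refine hQ (Set.Subset.antisymm (fun x hx => ?_) ?_)
    · by_cases hx1 : x = 1
      · subst hx1
        refine ⟨0, by norm_num, ?_⟩
        have := q_hom.2.2.1
        rw [Nat.beq_eq] at this
        rw [this, permOf_idP]
      · obtain ⟨h, hh, rfl⟩ := hall x hx hx1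
        have hb : h ∈ qIdx := by
          have := hq h hh
          rw [qBits, testBit_foldr_lor (fun i => Nat.shiftLeft 1 i), List.any_eq_true] at this
          obtain ⟨i, hi, e⟩ := this
          change (1 <<< i).testBit h = true at e
          rw [Nat.one_shiftLeft, Nat.testBit_two_pow, decide_eq_true_eq] at e
          exact e ▸ hi
        have := List.all_eq_true.1 q_idx h hb
        rw [List.any_eq_true] at this
        obtain ⟨P, hP, e⟩ := this
        rw [Nat.beq_eq] at e
        obtain ⟨a, ha, rfl⟩ := List.mem_iff_getElem.1 hP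
        refine ⟨a, q_hom.2.1 ▸ ha, ?_⟩
        rw [ip, ← e, List.getD_eq_getElem _ _ ha]
    · rintro _ ⟨a, ha, rfl⟩
      have ha' : a < qelP.length := by rw [q_hom.2.1]; exact ha
      rw [List.getD_eq_getElem _ _ ha']
      have := List.all_eq_true.1 q_cover.1 _ (List.getElem_mem ha')
      simp only [Bool.or_eq_true, Nat.beq_eq, List.any_eq_true, Bool.and_eq_true] at this
      rcases this with e | ⟨h, hh, -, e⟩
      · rw [e, permOf_idP]; exact one_mem W
      · obtain ⟨k, hk, e'⟩ := hq' h hh
        rw [← e, e']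
        exact (hspan k hk).2.1
  · have h1 := card_le_of_popLe _ U hp S hU
    let f : W → Option (Fin span.length) := fun x =>
      if hx : (x : Equiv.Perm GolayPt) = 1 then none
      else some ⟨span.idxOf (hall x x.2 hx).choose, List.idxOf_lt_length_iff.2 (hall x x.2 hx).choose_spec.1⟩
    have hf : Function.Injective f := by
      intro x y e
      by_cases hx : (x : Equiv.Perm GolayPt) = 1 <;> by_cases hy : (y : Equiv.Perm GolayPt) = 1 <;>
        simp only [f, dif_pos, dif_neg, hx, hy, not_false_iff, Option.some.injEq, reduceCtorEq] at e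
      · exact Subtype.ext (hx.trans hy.symm)
      · have e' := List.idxOf_inj (hall x x.2 hx).choose_spec.1 |>.1 (congrArg Fin.val e)
        refine Subtype.ext ?_
        rw [← (hall x x.2 hx).choose_spec.2, ← (hall y y.2 hy).choose_spec.2, e']
    have hW : Nat.card W ≤ span.length + 1 := by
      refine (Nat.card_le_card_of_injective f hf).trans ?_
      simp
    have h2 : Nat.card W * S.card ≤ (span.length + 1) * (1023 / (span.length + 1)) :=
      Nat.mul_le_mul hW h1
    have h3 := Nat.mul_div_le 1023 (span.length + 1)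
    omega

theorem card_subgroupOf_syl : Nat.card (syl.subgroupOf M24) = 2 ^ 10 := by
  rw [Nat.card_congr (Subgroup.subgroupOfEquivOfLe syl_le).toEquiv, card_syl]
  norm_num

/-- up to conjugation: the translations, or few fixed codes -/
theorem classify (W : Subgroup (Equiv.Perm GolayPt)) (hWM : W ≤ M24) (hne : W ≠ ⊥)
    (hab : ∀ x ∈ W, ∀ y ∈ W, x * y = y * x) (hsq : ∀ x ∈ W, x * x = 1) :
    ∃ g ∈ M24, ((W.map (MulAut.conj g).toMonoidHom : Subgroup (Equiv.Perm GolayPt)) :
          Set (Equiv.Perm GolayPt)) = QSet ∨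
      ∀ S : Finset ℕ, (∀ c ∈ S, c < 2048 ∧ ∀ P, valid P = true →
          permOf P ∈ W.map (MulAut.conj g).toMonoidHom → act P c = c) →
        Nat.card W * S.card < 1024 := by
  haveI : Fact (Nat.Prime 2) := ⟨Nat.prime_two⟩
  let T : Sylow 2 ↥M24 := Sylow.ofCard (syl.subgroupOf M24) (by
    rw [card_subgroupOf_syl, GolayM24.card_M24, show (244823040 : ℕ) = 2 ^ 10 * 239085 by norm_num,
      Nat.factorization_mul (by norm_num) (by norm_num), Finsupp.add_apply,
      Nat.Prime.factorization_pow Nat.prime_two, Finsupp.single_eq_same,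
      Nat.factorization_eq_zero_of_not_dvd (by norm_num)])
  have hp : IsPGroup 2 (W.subgroupOf M24) := fun x => ⟨1, Subtype.ext (Subtype.ext (by
    rw [pow_one, pow_two]
    exact hsq _ x.2))⟩
  obtain ⟨T', hT'⟩ := hp.exists_le_sylow
  obtain ⟨g, hg⟩ := MulAction.exists_smul_eq ↥M24 T' T
  refine ⟨g, g.2, ?_⟩
  have hle : W.map (MulAut.conj (g : Equiv.Perm GolayPt)).toMonoidHom ≤ syl := by
    rintro _ ⟨x, hx, rfl⟩
    have h1 : g * ⟨x, hWM hx⟩ * g⁻¹ ∈ ((g • T' : Sylow 2 ↥M24) : Subgroup ↥M24) := by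
      rw [Sylow.coe_subgroup_smul]
      exact Subgroup.smul_mem_pointwise_smul _ (MulAut.conj g) _
        (hT' (show (⟨x, hWM hx⟩ : ↥M24) ∈ W.subgroupOf M24 from hx))
    rw [hg] at h1
    exact h1
  have hne' : W.map (MulAut.conj (g : Equiv.Perm GolayPt)).toMonoidHom ≠ ⊥ := fun e => hne
    ((Subgroup.map_eq_bot_iff_of_injective _ (MulAut.conj (g : Equiv.Perm GolayPt)).injective).1 e)
  rcases in_syl _ hle hne'
    (by rintro _ ⟨x, hx, rfl⟩ _ ⟨y, hy, rfl⟩; rw [← map_mul, ← map_mul, hab x hx y hy])
    (by rintro _ ⟨x, hx, rfl⟩; rw [← map_mul, hsq x hx, map_one]) with h | h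
  · exact Or.inl h
  · refine Or.inr fun S hS => ?_
    have := h S hS
    rwa [Subgroup.card_map_of_injective (MulAut.conj (g : Equiv.Perm GolayPt)).injective] at this

end Cfsg.Agent.J4TenPerm30
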