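import Mathlib
import Cfsg.Prelude.Def_TwoFusion

/-!
Elementary lemmas for the normaliser of a special group of order `2 ^ 15`: direct products of a group of
prime order with a complement, conjugacy of subgroups of prime order, and facts about the symmetric group
of degree five.
-/

set_option autoImplicit false
set_option linter.unusedSectionVars false
set_option linter.style.haveILetI false

namespace Cfsg.Agent.J4TrioBase48

open Subgroup Cfsg

section General

variable {G : Type*} [Group G]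

theorem idp_exists {A B C : Subgroup G} (h : IsInternalDirectProduct A B C) {x : G} (hx : x ∈ C) :
    ∃ a ∈ A, ∃ b ∈ B, x = a * b := by
  obtain ⟨-, -, h3, -, h5⟩ := h
  have hc : ∀ (a : A) (b : B), Commute (A.subtype a) (B.subtype b) := fun a b => h3 a a.2 b b.2
  have hr : (A.subtype.noncommCoprod B.subtype hc).range = C := by
    rw [MonoidHom.noncommCoprod_range, range_subtype, range_subtype]; exact h5
  rw [← hr] at hx
  obtain ⟨⟨a, b⟩, rfl⟩ := hx
  exact ⟨a, a.2, b, b.2, rfl⟩

theorem idp_card {A B C : Subgroup G} (h : IsInternalDirectProduct A B C) :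
    Nat.card C = Nat.card A * Nat.card B := by
  obtain ⟨-, -, h3, h4, h5⟩ := h
  have hc : ∀ (a : A) (b : B), Commute (A.subtype a) (B.subtype b) := fun a b => h3 a a.2 b b.2
  have hr : (A.subtype.noncommCoprod B.subtype hc).range = C := by
    rw [MonoidHom.noncommCoprod_range, range_subtype, range_subtype]; exact h5
  have hinj : Function.Injective (A.subtype.noncommCoprod B.subtype hc) := by
    rw [MonoidHom.noncommCoprod_injective]
    refine ⟨Subtype.val_injective, Subtype.val_injective, ?_⟩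
    rw [range_subtype, range_subtype, disjoint_iff]
    exact h4
  rw [← Nat.card_prod, ← hr]
  exact (Nat.card_congr (MonoidHom.ofInjective hinj).toEquiv).symm

/-- An element of the product killed by a number prime to the order of the first factor lies in the
second one. -/
theorem idp_right {A B C : Subgroup G} (h : IsInternalDirectProduct A B C) {m : ℕ}
    (hm : Nat.Coprime (Nat.card A) m) {x : G} (hx : x ∈ C) (hxm : x ^ m = 1) : x ∈ B := by
  obtain ⟨a, ha, b, hb, rfl⟩ := idp_exists h hx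
  rw [Commute.mul_pow (h.2.2.1 a ha b hb)] at hxm
  have h1 : a ^ m ∈ A ⊓ B :=
    ⟨A.pow_mem ha m, by rw [eq_inv_of_mul_eq_one_left hxm]; exact B.inv_mem (B.pow_mem hb m)⟩
  rw [h.2.2.2.1, mem_bot] at h1
  have h2 : orderOf a ∣ Nat.card A := by
    have := orderOf_dvd_natCard (⟨a, ha⟩ : A)
    rwa [← Subgroup.orderOf_coe] at this
  have h3 : a = 1 := orderOf_eq_one_iff.1
    (Nat.eq_one_of_dvd_coprimes hm h2 (orderOf_dvd_of_pow_eq_one h1))
  rw [h3, one_mul]
  exact hb

/-- Conjugation as an endomorphism. -/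
abbrev cj (g : G) : G →* G := (MulAut.conj g).toMonoidHom

theorem cj_inj (g : G) : Function.Injective (cj g) := (MulAut.conj g).injective

theorem mem_cj {g : G} {A : Subgroup G} {x : G} : x ∈ A.map (cj g) ↔ g⁻¹ * x * g ∈ A := by
  constructor
  · rintro ⟨a, ha, rfl⟩
    have e : g⁻¹ * (cj g a) * g = a := by
      show g⁻¹ * (g * a * g⁻¹) * g = a
      group
    rw [e]; exact ha
  · intro h
    exact ⟨_, h, by show g * (g⁻¹ * x * g) * g⁻¹ = x; group⟩

theorem conj_mem_cj {g : G} {A : Subgroup G} {x : G} (h : x ∈ A) : g * x * g⁻¹ ∈ A.map (cj g) :=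
  ⟨x, h, rfl⟩

theorem card_cj (g : G) (A : Subgroup G) : Nat.card (A.map (cj g)) = Nat.card A :=
  Subgroup.card_map_of_injective (cj_inj g)

theorem centralizer_cj (g : G) (A : Subgroup G) :
    (centralizer (A : Set G)).map (cj g) = centralizer ((A.map (cj g) : Subgroup G) : Set G) := by
  ext x
  rw [mem_cj, mem_centralizer_iff, mem_centralizer_iff]
  constructor
  · rintro h _ ⟨a, ha, rfl⟩
    have e := h a ha
    show g * a * g⁻¹ * x = x * (g * a * g⁻¹)
    calc g * a * g⁻¹ * x = g * (a * (g⁻¹ * x * g)) * g⁻¹ := by group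
      _ = x * (g * a * g⁻¹) := by rw [e]; group
  · intro h a ha
    have e := h _ (conj_mem_cj (g := g) ha)
    calc a * (g⁻¹ * x * g) = g⁻¹ * (g * a * g⁻¹ * x) * g := by group
      _ = g⁻¹ * x * g * a := by rw [e]; group

theorem idp_cj (g : G) {A B C : Subgroup G} (h : IsInternalDirectProduct A B C) :
    IsInternalDirectProduct (A.map (cj g)) (B.map (cj g)) (C.map (cj g)) := by
  refine ⟨map_mono h.1, map_mono h.2.1, ?_, ?_, ?_⟩
  · rintro _ ⟨a, ha, rfl⟩ _ ⟨b, hb, rfl⟩
    rw [← map_mul, ← map_mul, h.2.2.1 a ha b hb]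
  · rw [← map_inf A B (cj g) (cj_inj g), h.2.2.2.1, Subgroup.map_bot]
  · rw [← Subgroup.map_sup, h.2.2.2.2]

/-- Two subgroups of order `q` are conjugate when the square of `q` does not divide the order. -/
theorem sylow_conj [Finite G] {q : ℕ} [Fact q.Prime] (hn : ¬ q ^ 2 ∣ Nat.card G) (A B : Subgroup G)
    (hA : Nat.card A = q) (hB : Nat.card B = q) : ∃ g : G, A.map (cj g) = B := by
  have hd : q ∣ Nat.card G := hA ▸ Subgroup.card_subgroup_dvd_card A
  have hf : (Nat.card G).factorization q = 1 := by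
    have h1 := (Nat.Prime.pow_dvd_iff_le_factorization (k := 1) (Fact.out : q.Prime)
      Nat.card_pos.ne').1 (by rwa [pow_one])
    have h2 : ¬ 2 ≤ (Nat.card G).factorization q := fun h =>
      hn ((Nat.Prime.pow_dvd_iff_le_factorization (Fact.out : q.Prime) Nat.card_pos.ne').2 h)
    omega
  let PA : Sylow q G := Sylow.ofCard A (by rw [hA, hf, pow_one])
  let PB : Sylow q G := Sylow.ofCard B (by rw [hB, hf, pow_one])
  obtain ⟨g, hg⟩ := MulAction.exists_smul_eq G PA PB
  exact ⟨g, congrArg Sylow.toSubgroup hg⟩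

/-- A subgroup of prime order is cyclic with the given generator. -/
theorem exists_gen [Finite G] {q : ℕ} [Fact q.Prime] {A : Subgroup G} (hA : Nat.card A = q) :
    ∃ a : G, orderOf a = q ∧ zpowers a = A := by
  obtain ⟨a, ha⟩ := exists_prime_orderOf_dvd_card' (G := A) q (by rw [hA])
  have ha' : orderOf (a : G) = q := (Subgroup.orderOf_coe a).trans ha
  exact ⟨a, ha', eq_of_le_of_card_ge (zpowers_le.2 a.2) (by rw [hA, Nat.card_zpowers, ha'])⟩

theorem exists_sub [Finite G] {q : ℕ} [Fact q.Prime] {A : Subgroup G} (hA : q ∣ Nat.card A) :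
    ∃ a ∈ A, orderOf a = q ∧ Nat.card (zpowers a) = q := by
  obtain ⟨a, ha⟩ := exists_prime_orderOf_dvd_card' (G := A) q hA
  have ha' : orderOf (a : G) = q := (Subgroup.orderOf_coe a).trans ha
  exact ⟨a, a.2, ha', by rw [Nat.card_zpowers, ha']⟩

theorem mem_cent_zpowers {a x : G} :
    x ∈ centralizer ((zpowers a : Subgroup G) : Set G) ↔ x ∈ centralizer ({a} : Set G) := by
  rw [mem_centralizer_singleton_iff, mem_centralizer_iff]
  constructor
  · exact fun h => (h a (mem_zpowers a)).symm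
  · intro h y hy
    obtain ⟨i, rfl⟩ := mem_zpowers_iff.1 hy
    exact ((show Commute x a from h).zpow_right i).symm.eq

theorem pow_card_one [Finite G] {A : Subgroup G} {x : G} (hx : x ∈ A) : x ^ Nat.card A = 1 := by
  have h : (⟨x, hx⟩ : A) ^ Nat.card A = 1 := pow_card_eq_one'
  exact congrArg Subtype.val h

theorem sq_inv {x : G} (h : x * x = 1) : x⁻¹ = x := inv_eq_of_mul_eq_one_right h

theorem comm_of_sq {A : Subgroup G} (h : ∀ x ∈ A, x * x = 1) : ∀ x ∈ A, ∀ y ∈ A, x * y = y * x :=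
  fun x hx y hy => by
    calc x * y = (x * y)⁻¹ := (sq_inv (h _ (mul_mem hx hy))).symm
      _ = y * x := by rw [mul_inv_rev, sq_inv (h x hx), sq_inv (h y hy)]

end General

/-! ### The symmetric group of degree five -/

local notation "S₅" => Equiv.Perm (Fin 5)

theorem perm_fifteen : ∀ σ : S₅, σ ^ 15 = 1 → σ ^ 5 = 1 ∨ σ ^ 3 = 1 := by decide +kernel

theorem perm_two_three : ∀ σ : S₅, σ * σ = 1 → Equiv.Perm.sign σ = 1 →
    σ = 1 ∨ ∀ τ : S₅, τ ^ 3 = 1 → σ * τ = τ * σ → τ = 1 := by decide +kernel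

theorem perm_three_even : ∀ σ : S₅, σ ^ 3 = 1 → Equiv.Perm.sign σ = 1 := by decide +kernel

theorem perm_comm_eight : ∀ σ : S₅, σ = 1 ∨ ∃ τ : S₅, (σ * τ * σ⁻¹ * τ⁻¹) ^ 8 ≠ 1 := by decide +kernel

theorem card_S5 : Nat.card S₅ = 120 := by rw [Nat.card_perm, Nat.card_fin]; rfl

theorem no_eight (X : Subgroup S₅) (h : ∀ x ∈ X, x * x = 1) : Nat.card X ≠ 8 := by
  intro h8
  haveI : Fact (Nat.Prime 2) := ⟨Nat.prime_two⟩
  let c : S₅ := Equiv.swap 0 1 * Equiv.swap 1 2 * Equiv.swap 2 3
  have hc4 : c ^ 4 = 1 := by decide +kernel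
  have hc2 : c * c ≠ 1 := by decide +kernel
  have hf : (Nat.card S₅).factorization 2 = 3 := by
    rw [card_S5, show 120 = 2 ^ 3 * 15 by norm_num, Nat.factorization_mul (by norm_num) (by norm_num),
      Nat.factorization_pow, Finsupp.add_apply, Finsupp.smul_apply,
      Nat.Prime.factorization_self Nat.prime_two, Nat.factorization_eq_zero_of_not_dvd (by norm_num)]
    rfl
  have hz : IsPGroup 2 (zpowers c) := fun x => ⟨2, by
    obtain ⟨k, hk⟩ := mem_zpowers_iff.1 x.2
    apply Subtype.ext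
    rw [SubmonoidClass.coe_pow, OneMemClass.coe_one, ← hk, ← zpow_natCast, ← zpow_mul, mul_comm,
      zpow_mul, zpow_natCast]
    norm_num [hc4]⟩
  obtain ⟨R, hR⟩ := hz.exists_le_sylow
  let PX : Sylow 2 S₅ := Sylow.ofCard X (by rw [h8, hf]; rfl)
  obtain ⟨g, hg⟩ := MulAction.exists_smul_eq S₅ PX R
  have hmem : c ∈ X.map (cj g) := by
    have e : X.map (cj g) = (R : Subgroup S₅) := congrArg Sylow.toSubgroup hg
    rw [e]; exact hR (mem_zpowers c)
  obtain ⟨x, hx, hxc⟩ := hmem
  apply hc2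
  rw [← hxc, ← map_mul, h x hx, map_one]

theorem no_fifteen (X : Subgroup S₅) : Nat.card X ≠ 15 := by
  intro h
  haveI : Fact (Nat.Prime 5) := ⟨by norm_num⟩
  haveI : Fact (Nat.Prime 3) := ⟨by norm_num⟩
  have hnorm : ∀ q : ℕ, [Fact q.Prime] → (∀ d : ℕ, d ∣ 15 → d ≡ 1 [MOD q] → d = 1) →
      ∀ P : Sylow q X, (P : Subgroup X).Normal := by
    intro q _ hd P
    have h1 := card_sylow_modEq_one q X
    have h2 : Nat.card (Sylow q X) ∣ 15 :=
      (P.card_dvd_index.trans (Subgroup.index_dvd_card _)).trans (by rw [h])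
    have h3 := hd _ h2 h1
    rw [Sylow.card_eq_index_normalizer P, Subgroup.index_eq_one] at h3
    exact Subgroup.normalizer_eq_top_iff.1 h3
  obtain ⟨a, ha⟩ := exists_prime_orderOf_dvd_card' (G := X) 3 (by rw [h]; norm_num)
  obtain ⟨b, hb⟩ := exists_prime_orderOf_dvd_card' (G := X) 5 (by rw [h]; norm_num)
  obtain ⟨Pa, hPa⟩ := (IsPGroup.of_card (p := 3) (n := 1) (by rw [Nat.card_zpowers, ha, pow_one] :
    Nat.card (zpowers a) = _)).exists_le_sylow
  obtain ⟨Pb, hPb⟩ := (IsPGroup.of_card (p := 5) (n := 1) (by rw [Nat.card_zpowers, hb, pow_one] :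
    Nat.card (zpowers b) = _)).exists_le_sylow
  have hdiv : ∀ d, d ∣ 15 → d = 1 ∨ d = 3 ∨ d = 5 ∨ d = 15 := by
    intro d hd
    have h1 : d ≤ 15 := Nat.le_of_dvd (by norm_num) hd
    interval_cases d <;> omega
  have hca : (Pa : Subgroup X).Normal := hnorm 3 (fun d hd hm => by
    unfold Nat.ModEq at hm
    rcases hdiv d hd with r | r | r | r <;> omega) Pa
  have hcb : (Pb : Subgroup X).Normal := hnorm 5 (fun d hd hm => by
    unfold Nat.ModEq at hm
    rcases hdiv d hd with r | r | r | r <;> omega) Pb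
  have hdis : Disjoint (Pa : Subgroup X) Pb := IsPGroup.disjoint_of_ne 3 5 (by norm_num) _ _
    Pa.isPGroup' Pb.isPGroup'
  have hc : Commute a b := commute_of_normal_of_disjoint _ _ hca hcb hdis _ _ (hPa (mem_zpowers a))
    (hPb (mem_zpowers b))
  have ho : orderOf (a * b) = 15 := by
    rw [hc.orderOf_mul_eq_mul_orderOf_of_coprime (by rw [ha, hb]; norm_num), ha, hb]
  have ho' : orderOf ((a * b : X) : S₅) = 15 := by rw [Subgroup.orderOf_coe, ho]
  rcases perm_fifteen _ (by rw [← ho']; exact pow_orderOf_eq_one _) with e | e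
  · have := orderOf_dvd_of_pow_eq_one e
    rw [ho'] at this; norm_num at this
  · have := orderOf_dvd_of_pow_eq_one e
    rw [ho'] at this; norm_num at this

/-- A subgroup of index two contains no commuting non-trivial elements of orders two and three. -/
theorem index_two (X : Subgroup S₅) (hX : Nat.card X = 60) :
    (∀ x : S₅, x ^ 3 = 1 → x ∈ X) ∧
      ∀ a ∈ X, ∀ b : S₅, a * a = 1 → b ^ 3 = 1 → a * b = b * a → a = 1 ∨ b = 1 := by
  have hidx : X.index = 2 := by
    have := X.card_mul_index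
    rw [hX, card_S5] at this
    omega
  obtain rfl := Equiv.Perm.eq_alternatingGroup_of_index_eq_two hidx
  refine ⟨fun x hx => Equiv.Perm.mem_alternatingGroup.2 (perm_three_even x hx),
    fun a ha b h2 h3 hc => ?_⟩
  rcases perm_two_three a h2 (Equiv.Perm.mem_alternatingGroup.1 ha) with r | r
  · exact Or.inl r
  · exact Or.inr (r b h3 hc)

/-- The symmetric group of degree five has no non-trivial normal 2-subgroup. -/
theorem no_normal_two (X : Subgroup S₅) [X.Normal] (hX : IsPGroup 2 X) : X = ⊥ := by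
  haveI : Fact (Nat.Prime 2) := ⟨Nat.prime_two⟩
  rw [eq_bot_iff_forall]
  intro σ hσ
  rcases perm_comm_eight σ with e | ⟨τ, hτ⟩
  · exact e
  exfalso
  obtain ⟨k, hk⟩ := IsPGroup.iff_card.1 hX
  have hdvd : Nat.card X ∣ 2 ^ 3 * 15 := by
    have h1 := X.card_subgroup_dvd_card
    rw [card_S5] at h1
    exact h1
  rw [hk] at hdvd
  have h8 : 2 ^ k ∣ 8 := (Nat.Coprime.pow_left k (by norm_num : Nat.Coprime 2 15)).dvd_of_dvd_mul_right
    (by simpa using hdvd)
  apply hτ
  have hmem : σ * τ * σ⁻¹ * τ⁻¹ ∈ X := by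
    rw [show σ * τ * σ⁻¹ * τ⁻¹ = σ * (τ * σ⁻¹ * τ⁻¹) by group]
    exact X.mul_mem hσ (‹X.Normal›.conj_mem _ (X.inv_mem hσ) τ)
  obtain ⟨m, hm⟩ := h8
  rw [show (8 : ℕ) = Nat.card X * m by rw [hk, ← hm], pow_mul, pow_card_one hmem, one_pow]

end Cfsg.Agent.J4TrioBase48
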