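import Mathlib
import Cfsg.Agent.Lib.JFourModule85

/-!
An element of order seven commuting with a fixed point free element of order three on a twelve
dimensional orthogonal space has no non-zero fixed vector; in a group of Janko-four type it centralises
in the extraspecial subgroup only its centre.
-/

set_option autoImplicit false
set_option linter.unusedSectionVars false
set_option linter.style.haveILetI false

namespace Cfsg.Agent.JFourSevenFix30

open Cfsg.Agent.LFForm89

universe u

theorem card_fixed_modEq {α : Type*} [Finite α] {p : ℕ} [Fact p.Prime] (f : α → α)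
    (hf : ∀ x, f^[p] x = x) : Nat.card α ≡ Nat.card {x // f x = x} [MOD p] := by
  classical
  haveI := Fintype.ofFinite α
  let g : Function.End α := f
  have h1 : g ^ p ^ 1 = 1 := by
    rw [pow_one]
    funext x
    have : ∀ k : ℕ, (g ^ k : Function.End α) x = f^[k] x := by
      intro k
      induction k with
      | zero => rfl
      | succ k ih =>
        rw [pow_succ', Function.iterate_succ_apply']
        show f ((g ^ k : Function.End α) x) = _
        rw [ih]
    rw [this, hf]
    rfl
  have h := Equiv.Perm.card_fixedPoints_modEq h1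
  rw [← Nat.card_eq_fintype_card, ← Nat.card_eq_fintype_card] at h
  exact h

/-- The sign of a bit. -/
def sgn (a : ZMod 2) : ℤ := if a = 0 then 1 else -1

theorem sgn_add : ∀ a b : ZMod 2, sgn (a + b) = sgn a * sgn b := by decide

theorem sgn_one : sgn 1 = -1 := by decide

theorem sgn_zero : sgn 0 = 1 := by decide

/-- A non-degenerate quadratic space of sixty four vectors has twenty eight or thirty six singular
ones. -/
theorem count_singular {W : Type*} [AddCommGroup W] [Finite W] (q : W → ZMod 2)
    (two : ∀ v : W, v + v = 0) (hcard : Nat.card W = 64)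
    (addl : ∀ u v w, pol q (u + v) w = pol q u w + pol q v w)
    (nondeg : ∀ v, (∀ w, pol q v w = 0) → v = 0) :
    Nat.card {v // q v = 0} = 36 ∨ Nat.card {v // q v = 0} = 28 := by
  classical
  haveI := Fintype.ofFinite W
  have hb : ∀ a : ZMod 2, a + a = 0 := by decide
  have q0 : q 0 = 0 := by
    have := addl 0 0 0
    simp only [pol, add_zero] at this
    have h3 : ∀ a : ZMod 2, a + a + a = a + a + a + (a + a + a) → a = 0 := by decide
    exact h3 _ this
  have hsplit : ∀ a c, sgn (q a) * sgn (q (a + c)) = sgn (pol q a c) * sgn (q c) := by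
    intro a c
    rw [← sgn_add, ← sgn_add, pol]
    congr 1
    have : ∀ x y w : ZMod 2, x + w = w + x + y + y := by decide
    exact this _ _ _
  set S := ∑ a : W, sgn (q a) with hS
  have hSS : S * S = 64 := by
    have h1 : S * S = ∑ a : W, ∑ b : W, sgn (q a) * sgn (q b) := by
      rw [hS, Finset.sum_mul_sum]
    have h2 : ∀ a : W, ∑ b : W, sgn (q a) * sgn (q b) = ∑ c : W, sgn (pol q a c) * sgn (q c) := by
      intro a
      rw [← Equiv.sum_comp (Equiv.addLeft a) fun b => sgn (q a) * sgn (q b)]
      exact Finset.sum_congr rfl fun c _ => hsplit a c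
    rw [h1, Finset.sum_congr rfl fun a _ => h2 a, Finset.sum_comm]
    have h3 : ∀ c : W, ∑ a : W, sgn (pol q a c) * sgn (q c) =
        if c = 0 then 64 else 0 := by
      intro c
      rw [← Finset.sum_mul]
      split_ifs with hc
      · subst hc
        have : ∀ a, pol q a 0 = 0 := fun a => by
          simp only [pol, add_zero, q0]
          exact hb _
        simp only [this, sgn_zero, q0, mul_one, Finset.sum_const, Finset.card_univ, ← Nat.card_eq_fintype_card,
          hcard]
        rfl
      · obtain ⟨a₀, ha₀⟩ : ∃ a₀, pol q a₀ c ≠ 0 := by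
          by_contra h
          push Not at h
          refine hc (nondeg c fun w => ?_)
          have := h w
          simp only [pol] at this ⊢
          rw [add_comm c w, add_right_comm, this]
        have ha1 : pol q a₀ c = 1 := (by decide : ∀ a : ZMod 2, a ≠ 0 → a = 1) _ ha₀
        have hneg : ∑ a : W, sgn (pol q a c) = -∑ a : W, sgn (pol q a c) := by
          conv_lhs => rw [← Equiv.sum_comp (Equiv.addLeft a₀) fun a => sgn (pol q a c)]
          rw [← Finset.sum_neg_distrib]
          refine Finset.sum_congr rfl fun a _ => ?_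
          show sgn (pol q (a₀ + a) c) = _
          rw [addl, sgn_add, ha1, sgn_one, neg_one_mul]
        have : ∑ a : W, sgn (pol q a c) = 0 := by linarith
        rw [this, zero_mul]
    rw [Finset.sum_congr rfl fun c _ => h3 c]
    simp
  have hN : S = 2 * (Nat.card {v // q v = 0} : ℤ) - 64 := by
    have hpt : ∀ a, sgn (q a) = 2 * (if q a = 0 then 1 else 0) - 1 := by
      intro a; unfold sgn; split_ifs <;> norm_num
    rw [hS, Finset.sum_congr rfl fun a _ => hpt a, Finset.sum_sub_distrib, ← Finset.mul_sum,
      Finset.sum_boole, Finset.sum_const, Finset.card_univ, ← Nat.card_eq_fintype_card, hcard,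
      Nat.card_eq_fintype_card, Fintype.card_subtype]
    simp
  have hcases : S = 8 ∨ S = -8 := by
    have : (S - 8) * (S + 8) = 0 := by linarith
    rcases mul_eq_zero.1 this with h | h
    · left; linarith
    · right; linarith
  rcases hcases with h | h
  · left; omega
  · right; omega

/-- The fixed space is trivial. -/
theorem fixed_free {V : Type*} [AddCommGroup V] {o σ : V →+ V} {q : V → ZMod 2} (hfx : Fx o q)
    (hinv : ∀ v, q (σ v) = q v) (hcomm : ∀ v, σ (o v) = o (σ v)) (h7 : ∀ v, σ^[7] v = v)
    (hne : ∃ v, σ v ≠ v) : ∀ v, σ v = v → v = 0 := by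
  classical
  haveI : Finite V := Nat.finite_of_card_ne_zero (by rw [hfx.card]; norm_num)
  haveI : Fact (Nat.Prime 7) := ⟨by norm_num⟩
  haveI : Fact (Nat.Prime 3) := ⟨Nat.prime_three⟩
  have htwo := hfx.two
  have hneg : ∀ v : V, -v = v := fun v => neg_eq_of_add_eq_zero_right (htwo v)
  have ho3 : ∀ v, o^[3] v = v := fun v => by
    have h := congrArg o (hfx.rel v)
    rw [map_add, map_add, map_zero] at h
    show o (o (o v)) = v
    have h2 := hfx.rel v
    have e : o (o v) + o v = v := by
      have := eq_neg_of_add_eq_zero_left h2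
      rwa [hneg] at this
    calc o (o (o v)) = -(o (o v) + o v) := eq_neg_of_add_eq_zero_left (by rw [← add_assoc]; exact h)
      _ = v := by rw [hneg, e]
  have hofix : ∀ v, o v = v → v = 0 := fun v hv => by
    have := hfx.rel v
    rwa [hv, hv, htwo, zero_add] at this
  let τ : V →+ V := σ + AddMonoidHom.id V
  set U := τ.ker with hU
  set W := τ.range with hW
  have hmemU : ∀ v, v ∈ U ↔ σ v = v := fun v => by
    rw [hU, AddMonoidHom.mem_ker]
    show σ v + v = 0 ↔ _
    rw [add_eq_zero_iff_eq_neg, hneg]
  suffices hU1 : Nat.card U = 1 by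
    intro v hv
    haveI := (Nat.card_eq_one_iff_unique.1 hU1).1
    exact congrArg Subtype.val (Subsingleton.elim (⟨v, (hmemU v).2 hv⟩ : U) 0)
  have hUW : Nat.card U * Nat.card W = 4096 := by
    rw [← hfx.card, ← AddSubgroup.card_mul_index U, hU, AddSubgroup.index_ker]
  obtain ⟨d, hd, hUd⟩ := (Nat.dvd_prime_pow Nat.prime_two).1
    (show Nat.card U ∣ 2 ^ 12 from ⟨Nat.card W, by rw [hUW]; norm_num⟩)
  have hU7 : 4096 ≡ 2 ^ d [MOD 7] := by
    rw [← hfx.card, ← hUd]
    refine (card_fixed_modEq σ h7).trans ?_
    rw [Nat.card_congr (Equiv.subtypeEquivRight fun v => (hmemU v).symm : {v // σ v = v} ≃ U)]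
  have hU3 : 2 ^ d ≡ 1 [MOD 3] := by
    rw [← hUd]
    have hmap : ∀ v : U, o v ∈ U := fun v => by
      rw [hmemU, hcomm, (hmemU v).1 v.2]
    have hit : ∀ k (v : U), ((fun v : U => (⟨o v, hmap v⟩ : U))^[k] v : V) = o^[k] (v : V) := by
      intro k
      induction k with
      | zero => intro v; rfl
      | succ k ih =>
        intro v
        rw [Function.iterate_succ_apply', Function.iterate_succ_apply']
        show o _ = _
        rw [ih]
    refine (card_fixed_modEq (fun v : U => (⟨o v, hmap v⟩ : U)) fun v => Subtype.ext ?_).trans ?_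
    · rw [hit, ho3]
    · rw [show Nat.card {v : U // (⟨o v, hmap v⟩ : U) = v} = 1 from Nat.card_eq_one_iff_unique.2
        ⟨⟨fun a b => Subtype.ext (Subtype.ext ((hofix _ (congrArg Subtype.val a.2)).trans
          (hofix _ (congrArg Subtype.val b.2)).symm))⟩, ⟨⟨0, Subtype.ext (map_zero o)⟩⟩⟩]
  have hcases : d = 0 ∨ d = 6 ∨ d = 12 := by
    unfold Nat.ModEq at hU7 hU3
    interval_cases d <;> first | decide | (exfalso; revert hU7 hU3; decide)
  have h12 : d ≠ 12 := by
    rintro rfl
    obtain ⟨v, hv⟩ := hne
    apply hv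
    rw [← hmemU]
    have : U = ⊤ := AddSubgroup.eq_top_of_card_eq _ (by rw [hUd, hfx.card]; norm_num)
    exact this ▸ AddSubgroup.mem_top v
  by_contra hne1
  obtain rfl : d = 6 := by
    rcases hcases with h | h | h
    · exact absurd (by rw [hUd, h]; rfl) hne1
    · exact h
    · exact absurd h h12
  have hWc : Nat.card W = 64 := by
    rw [hUd] at hUW
    omega
  -- no common vector
  have hdisj : ∀ v, σ v = v → v ∈ W → v = 0 := by
    rintro v hv ⟨w, rfl⟩
    set v := τ w with hvdef
    have hw : σ w = w + v := by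
      show σ w = w + (σ w + w)
      rw [← add_assoc, add_comm w, add_assoc, htwo, add_zero]
    have hk : ∀ k : ℕ, σ^[k] w = w + k • v := by
      intro k
      induction k with
      | zero => simp
      | succ k ih => rw [Function.iterate_succ_apply', ih, map_add, map_nsmul, hv, hw, succ_nsmul', add_assoc]
    have := hk 7
    rw [h7, left_eq_add] at this
    have e : (7 : ℕ) • v = v := by
      rw [show (7 : ℕ) = 2 * 3 + 1 by norm_num, succ_nsmul, mul_nsmul, two_nsmul, htwo, smul_zero, zero_add]
    rwa [e] at this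
  have hpc : ∀ a b, pol q a b = pol q b a := fun a b => by
    simp only [pol, add_comm a b, add_right_comm]
  have hperp : ∀ u x, σ u = u → pol q u (σ x + x) = 0 := by
    intro u x hu
    rw [hpc, hfx.addl]
    have : pol q (σ x) u = pol q x u := by
      conv_lhs => rw [← hu]
      simp only [pol, ← map_add, hinv]
    rw [this]
    exact (by decide : ∀ a : ZMod 2, a + a = 0) _
  have hsum : ∀ v, ∃ u w, σ u = u ∧ w ∈ W ∧ v = u + w := by
    let f : U × W → V := fun x => (x.1 : V) + x.2
    have hf : Function.Injective f := by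
      intro x y e
      have e' : (x.1 : V) - y.1 = (y.2 : V) - x.2 := by
        rw [sub_eq_sub_iff_add_eq_add, add_comm (y.2 : V)]
        exact e
      have hz := hdisj _ ((hmemU _).1 (U.sub_mem x.1.2 y.1.2)) (e' ▸ W.sub_mem y.2.2 x.2.2)
      have h1 : (x.1 : V) = y.1 := sub_eq_zero.1 hz
      refine Prod.ext (Subtype.ext h1) (Subtype.ext ?_)
      rw [hz] at e'
      exact (sub_eq_zero.1 e'.symm).symm
    have hbij := hf.bijective_of_nat_card_le (by rw [Nat.card_prod, hUW, hfx.card])
    intro v
    obtain ⟨x, hx⟩ := hbij.2 v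
    exact ⟨x.1, x.2, (hmemU _).1 x.1.2, x.2.2, hx.symm⟩
  have hσW : ∀ w : W, σ w ∈ W := by
    rintro ⟨_, x, rfl⟩
    exact ⟨σ x, show σ (σ x) + σ x = σ (σ x + x) by rw [map_add]⟩
  have hoW : ∀ w : W, o w ∈ W := by
    rintro ⟨_, x, rfl⟩
    exact ⟨o x, show σ (o x) + o x = o (σ x + x) by rw [map_add, hcomm]⟩
  have hcount := count_singular (fun w : W => q w) (fun w => Subtype.ext (htwo _)) hWc
    (fun a b c => hfx.addl a b c)
    (fun w hw => by
      refine Subtype.ext (hfx.nondeg _ fun v => ?_)
      obtain ⟨u, x, hu, hx, rfl⟩ := hsum v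
      rw [hpc, hfx.addl, hpc u, hpc x]
      obtain ⟨y, hy⟩ := w.2
      have h1 : pol q (w : V) u = 0 := by
        rw [hpc, ← hy]
        exact hperp u y hu
      have h2 : pol q (w : V) x = 0 := hw ⟨x, hx⟩
      rw [h1, h2, add_zero])
  set Sg := {w : W // q w = 0} with hSg
  let fσ : Sg → Sg := fun w => ⟨⟨σ w.1, hσW w.1⟩, (hinv _).trans w.2⟩
  let fo : Sg → Sg := fun w => ⟨⟨o w.1, hoW w.1⟩, (hfx.inv _).trans w.2⟩
  have itσ : ∀ k (w : Sg), ((fσ^[k] w).1 : V) = σ^[k] (w.1 : V) := by
    intro k
    induction k with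
    | zero => intro w; rfl
    | succ k ih => intro w; rw [Function.iterate_succ_apply', Function.iterate_succ_apply', ← ih]
  have ito : ∀ k (w : Sg), ((fo^[k] w).1 : V) = o^[k] (w.1 : V) := by
    intro k
    induction k with
    | zero => intro w; rfl
    | succ k ih => intro w; rw [Function.iterate_succ_apply', Function.iterate_succ_apply', ← ih]
  have q0 : q 0 = 0 := by
    have := hfx.addl 0 0 0
    simp only [pol, add_zero] at this
    exact (by decide : ∀ a : ZMod 2, a + a + a = a + a + a + (a + a + a) → a = 0) _ this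
  have z0 : ∀ f : Sg → Sg, (∀ w : Sg, f w = w → (w.1 : V) = 0) → (∀ w : Sg, (w.1 : V) = 0 → f w = w) →
      Nat.card {w : Sg // f w = w} = 1 := fun f hf hf' => Nat.card_eq_one_iff_unique.2
    ⟨⟨fun a b => Subtype.ext (Subtype.ext (Subtype.ext ((hf _ a.2).trans (hf _ b.2).symm)))⟩,
      ⟨⟨⟨0, q0⟩, hf' _ rfl⟩⟩⟩
  have m7 : Nat.card Sg ≡ 1 [MOD 7] := by
    have := card_fixed_modEq fσ fun w => Subtype.ext (Subtype.ext (by rw [itσ, h7]))
    rwa [z0 fσ (fun w h => hdisj _ (congrArg (fun s : Sg => (s.1 : V)) h) w.1.2)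
      (fun w h => Subtype.ext (Subtype.ext (by show σ _ = _; rw [h, map_zero])))] at this
  have m3 : Nat.card Sg ≡ 1 [MOD 3] := by
    have := card_fixed_modEq fo fun w => Subtype.ext (Subtype.ext (by rw [ito, ho3]))
    rwa [z0 fo (fun w h => hofix _ (congrArg (fun s : Sg => (s.1 : V)) h))
      (fun w h => Subtype.ext (Subtype.ext (by show o _ = _; rw [h, map_zero])))] at this
  rw [hSg] at m7 m3
  unfold Nat.ModEq at m7 m3
  rcases hcount with h | h <;> rw [h] at m7 m3 <;> omega

section Group

open Subgroup Cfsg.Agent.LargeExtraspecial Cfsg.Agent.FischerFrame18 Cfsg.Agent.JFourSetting97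
  Cfsg.Agent.JFourModule85

/-- An element of order seven centralising `P` centralises only the centre in the extraspecial
subgroup. -/
theorem cent_core {G : Type u} [Group G] [Finite G] {z : G} {P : Subgroup G}
    (hJ : Cfsg.IsOfJankoFourTypeWith z P) {s : G} (hs : s ∈ KK z P) (h7 : orderOf s = 7) {e : G}
    (he : e ∈ Cfsg.twoCoreOfCentralizer z) (hc : Commute e s) : e ∈ zpowers z := by
  obtain ⟨V, _, zc, π, ρ, q, n, Mb, D⟩ := exists_data hJ
  set sH : ↥(HH z) := ⟨s, hs.1⟩ with hsH
  set x := mk z sH with hx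
  set eH : ↥(HH z) := ⟨e, by obtain ⟨y, -, rfl⟩ := he; exact y.2⟩ with heH
  have heQ : eH ∈ QQ z := mem_E.1 he
  have hxM : x ∈ Mb := by
    rw [D.Mb_eq]
    exact ⟨sH, hs, rfl⟩
  have hx7 : x ^ 7 = 1 := by
    rw [hx, ← map_pow, show sH ^ 7 = 1 from Subtype.ext (h7 ▸ pow_orderOf_eq_one s), map_one]
  have hx1 : x ≠ 1 := by
    intro h
    rw [hx, QuotientGroup.mk'_apply, QuotientGroup.eq_one_iff] at h
    have hd := orderOf_dvd_natCard (⟨sH, h⟩ : QQ z)
    rw [Subgroup.orderOf_mk, show orderOf sH = orderOf s from (Subgroup.orderOf_coe sH).symm, h7,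
      D.card_Q] at hd
    norm_num at hd
  let σ : V →+ V := ρ x
  have hpow : ∀ k v, σ^[k] v = ρ (x ^ k) v := by
    intro k
    induction k with
    | zero => intro v; rw [pow_zero, map_one]; rfl
    | succ k ih =>
      intro v
      rw [Function.iterate_succ_apply', pow_succ', map_mul, ih]
      rfl
  have hfree := fixed_free (σ := σ) D.hyp.fx (fun v => D.hyp.inv x v)
    (fun v => by
      show ρ x (ρ n v) = ρ n (ρ x v)
      have := congrArg (fun g => ρ g v) (D.hyp.comm_n x hxM)
      simp only [map_mul] at this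
      exact this)
    (fun v => by rw [hpow, hx7, map_one]; rfl)
    (by
      by_contra h
      push Not at h
      exact hx1 (D.hyp.faith x h))
  have hfix : σ (π eH) = π eH := by
    show ρ (mk z sH) (π eH) = π eH
    rw [QuotientGroup.mk'_apply, ← D.link.equiv sH eH heQ]
    congr 1
    apply Subtype.ext
    show s * e * s⁻¹ = e
    rw [← hc.eq, mul_inv_cancel_right]
  rcases (D.link.ker eH heQ).1 (hfree _ hfix) with h | h
  · rw [show e = 1 from congrArg Subtype.val h]; exact one_mem _
  · rw [show e = z from (congrArg Subtype.val h).trans D.zc_val]; exact mem_zpowers z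

end Group

end Cfsg.Agent.JFourSevenFix30
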