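import Mathlib
import Cfsg.Prelude.Def_Transfer
import Cfsg.Prelude.Def_Solvable
import Cfsg.Agent.Lib.PSLSimple
import Cfsg.Agent.Lib.PSLCard
import Cfsg.Agent.Lib.LargeExtraspecial
import Cfsg.Agent.Lib.PGroupsBasic
import Cfsg.Agent.Lib.JFourSevenFix30

/-!
General lemmas for the normaliser of a special group with centre of order eight: fixed points of an
automorphism of prime order, the simple group of order 168, and a complement to an elementary group of
order eight in a permutation group of degree 24.
-/

set_option autoImplicit false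
set_option linter.unusedSectionVars false
set_option linter.style.haveILetI false

namespace Cfsg.Agent.J4TrioGen48

open Subgroup

local notation "SL32" => Matrix.SpecialLinearGroup (Fin 3) (ZMod 2)

theorem sl32_simple : IsSimpleGroup SL32 := by
  haveI : Fact (Nat.Prime 2) := ⟨Nat.prime_two⟩
  have hcen : Subgroup.center SL32 = ⊥ := by
    rw [← Subgroup.card_eq_one, PSLCard.card_center_SL, Nat.card_zmod]; rfl
  haveI : IsSimpleGroup (Matrix.ProjectiveSpecialLinearGroup (Fin 3) (ZMod 2)) :=
    PSLSimple.isSimpleGroup_PSL_fin' (by norm_num) (by norm_num)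
  exact ((QuotientGroup.quotientMulEquivOfEq hcen).trans QuotientGroup.quotientBot).symm.isSimpleGroup

theorem sl32_two_three : ∀ B : Matrix (Fin 3) (Fin 3) (ZMod 2), B * (B * B) = 1 → B = 1 ∨
    ∀ A : Matrix (Fin 3) (Fin 3) (ZMod 2), A * A = 1 → A * B = B * A → A = 1 := by decide +kernel

theorem sl32_card : Nat.card SL32 = 168 := by
  rw [Nat.card_eq_fintype_card]
  decide +kernel

/-- Commuting elements of orders dividing two and three are not both non-trivial. -/
theorem two_three {X : Type*} [Group X] (e : X ≃* SL32) {a b : X} (ha : a * a = 1) (hb : b ^ 3 = 1)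
    (hb1 : b ≠ 1) (hc : a * b = b * a) : a = 1 := by
  have hA := congrArg (fun x => ((e x : SL32) : Matrix (Fin 3) (Fin 3) (ZMod 2))) ha
  have hB := congrArg (fun x => ((e x : SL32) : Matrix (Fin 3) (Fin 3) (ZMod 2))) hb
  have hC := congrArg (fun x => ((e x : SL32) : Matrix (Fin 3) (Fin 3) (ZMod 2))) hc
  simp only [map_mul, map_one, map_pow, pow_succ, pow_zero, one_mul,
    Matrix.SpecialLinearGroup.coe_mul, Matrix.SpecialLinearGroup.coe_one, mul_assoc] at hA hB hC
  rcases sl32_two_three _ hB with h | h
  · exact absurd (e.injective ((Subtype.ext h).trans (map_one e).symm)) hb1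
  · exact e.injective ((Subtype.ext (h _ hA hC)).trans (map_one e).symm)

/-- The fixed points of an automorphism of prime order count modulo the prime. -/
theorem card_modEq_cent {G : Type*} [Group G] [Finite G] {p : ℕ} [Fact p.Prime] {s : G}
    (hs : orderOf s = p) (L : Subgroup G) (hn : ∀ x ∈ L, s * x * s⁻¹ ∈ L) :
    Nat.card L ≡ Nat.card ↥(L ⊓ centralizer ({s} : Set G)) [MOD p] := by
  let f : L → L := fun x => ⟨s * x * s⁻¹, hn x x.2⟩
  have hit : ∀ (k : ℕ) (x : L), ((f^[k] x : L) : G) = s ^ k * x * (s ^ k)⁻¹ := by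
    intro k
    induction k with
    | zero => intro x; simp
    | succ k ih =>
      intro x
      rw [Function.iterate_succ_apply']
      show s * _ * s⁻¹ = _
      rw [ih, pow_succ']; group
  have h := JFourSevenFix30.card_fixed_modEq (p := p) f fun x => Subtype.ext (by
    rw [hit, show s ^ p = 1 by rw [← hs]; exact pow_orderOf_eq_one s]; simp)
  let e : {x : L // f x = x} ≃ ↥(L ⊓ centralizer ({s} : Set G)) :=
    { toFun := fun x => ⟨x.1.1, x.1.2, by
        show (x.1.1 : G) ∈ centralizer ({s} : Set G)
        rw [mem_centralizer_singleton_iff]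
        exact (mul_inv_eq_iff_eq_mul.1 (congrArg Subtype.val x.2)).symm⟩
      invFun := fun x => ⟨⟨x.1, x.2.1⟩, Subtype.ext (by
        show s * x.1 * s⁻¹ = x.1
        rw [← (mem_centralizer_singleton_iff.1 x.2.2)]
        group)⟩
      left_inv := fun x => rfl
      right_inv := fun x => rfl }
  rwa [Nat.card_congr e] at h

/-- A simple group of order 168 has no proper subgroup of index at most six. -/
theorem eq_top_of_index {X : Type*} [Group X] [Finite X] [IsSimpleGroup X] (hX : Nat.card X = 168)
    (K : Subgroup X) (hK : K.index ≤ 6) : K = ⊤ := by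
  by_contra hne
  have h0 : K.normalCore = ⊥ := by
    rcases K.normalCore_normal.eq_bot_or_eq_top with h | h
    · exact h
    · exact absurd (top_le_iff.1 (h ▸ K.normalCore_le)) hne
  have hd : K.normalCore.index ∣ (K.index).factorial := by
    rw [Subgroup.normalCore_eq_ker, Subgroup.index_ker]
    have h1 := Subgroup.card_subgroup_dvd_card (MulAction.toPermHom X (X ⧸ K)).range
    rwa [Nat.card_perm, ← Subgroup.index_eq_card] at h1
  rw [h0, Subgroup.index_bot, hX] at hd
  have h7 : 7 ∣ (K.index).factorial := dvd_trans (by norm_num) hd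
  rw [(Nat.Prime.dvd_factorial (by norm_num : Nat.Prime 7))] at h7
  omega

/-- A normal subgroup of order eight whose non-trivial elements fix at most eight of 24 points, in a
group inducing on it an automorphism of order seven without fixed points, with simple quotient of order
168, has a complement. -/
theorem exists_complement {α : Type*} [Finite α] (hα : Nat.card α = 24) {Y : Type*} [Group Y]
    [Finite Y] (φ : Y →* Equiv.Perm α) (E : Subgroup Y) [E.Normal] [IsSimpleGroup (Y ⧸ E)]
    (hE : Nat.card E = 8) (hidx : Nat.card (Y ⧸ E) = 168) {s : Y} (hs : orderOf s = 7)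
    (hfix : ∀ e ∈ E, e ≠ 1 → Nat.card {a // φ e a = a} ≤ 8)
    (hfree : ∀ e ∈ E, e ≠ 1 → s * e * s⁻¹ ≠ e) :
    ∃ C : Subgroup Y, C ⊓ E = ⊥ ∧ Nat.card C = 168 := by
  classical
  haveI : Fact (Nat.Prime 7) := ⟨by norm_num⟩
  haveI : Fact (Nat.Prime 2) := ⟨Nat.prime_two⟩
  letI : Fintype α := Fintype.ofFinite α
  letI : MulAction Y α := MulAction.compHom α φ
  have hsmul : ∀ (y : Y) (a : α), y • a = φ y a := fun y a => rfl
  have hs7 : s ^ 7 = 1 := by rw [← hs]; exact pow_orderOf_eq_one s
  have hnorm : ∀ e ∈ E, s * e * s⁻¹ ∈ E := fun e he => (inferInstance : E.Normal).conj_mem e he s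
  -- the points moved by the subgroup
  set U : Finset α := Finset.univ.filter fun a => ∃ e ∈ E, φ e a ≠ a with hU
  have hUmem : ∀ a, a ∈ U ↔ ∃ e ∈ E, φ e a ≠ a := fun a => by simp [hU]
  have hUs : ∀ a, a ∈ U → φ s a ∈ U := by
    intro a ha
    obtain ⟨e, he, hea⟩ := (hUmem a).1 ha
    refine (hUmem _).2 ⟨s * e * s⁻¹, hnorm e he, fun h => hea ((φ s).injective ?_)⟩
    rw [map_mul, map_mul, Equiv.Perm.mul_apply, Equiv.Perm.mul_apply, map_inv,
      Equiv.Perm.inv_def, Equiv.symm_apply_apply] at h
    exact h
  obtain ⟨e0, he0, he01⟩ : ∃ e ∈ E, e ≠ 1 := by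
    by_contra hno
    push Not at hno
    have : E = ⊥ := (Subgroup.eq_bot_iff_forall E).2 hno
    rw [this, Subgroup.card_bot] at hE
    norm_num at hE
  have h16 : 16 ≤ U.card := by
    have h1 : (Finset.univ.filter fun a => ¬ φ e0 a = a) ⊆ U := fun a ha =>
      (hUmem a).2 ⟨e0, he0, (Finset.mem_filter.1 ha).2⟩
    have h2 := Finset.card_le_card h1
    have h3 := Finset.card_filter_add_card_filter_not (s := (Finset.univ : Finset α))
      (fun a => φ e0 a = a)
    rw [Finset.card_univ, ← Nat.card_eq_fintype_card, hα] at h3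
    have h4 := hfix e0 he0 he01
    rw [Nat.card_eq_fintype_card, Fintype.card_subtype] at h4
    omega
  have heven : 2 ∣ U.card := by
    have hp : IsPGroup 2 E := IsPGroup.of_card (n := 3) (by rw [hE]; norm_num)
    have h1 := hp.card_modEq_card_fixedPoints α
    rw [hα] at h1
    have h2 : Nat.card (MulAction.fixedPoints E α) = 24 - U.card := by
      have h3 := Finset.card_filter_add_card_filter_not (s := (Finset.univ : Finset α))
        (fun a => ∃ e ∈ E, φ e a ≠ a)
      rw [Finset.card_univ, ← Nat.card_eq_fintype_card, hα, ← hU] at h3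
      rw [Nat.card_congr (Equiv.subtypeEquivRight (q := fun a => ¬ ∃ e ∈ E, φ e a ≠ a) fun a => by
        simp only [MulAction.mem_fixedPoints, Subtype.forall, not_exists, not_and, not_not]
        rfl), Nat.card_eq_fintype_card, Fintype.card_subtype]
      omega
    rw [h2] at h1
    have h5 : U.card ≤ 24 := by
      rw [← hα, Nat.card_eq_fintype_card]; exact U.card_le_univ
    unfold Nat.ModEq at h1
    omega
  -- a moved point fixed by the element of order seven
  obtain ⟨a, haU, has⟩ : ∃ a ∈ U, φ s a = a := by
    by_contra hno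
    push Not at hno
    let f : U → U := fun a => ⟨φ s a, hUs a a.2⟩
    have hit : ∀ (k : ℕ) (x : U), ((f^[k] x : U) : α) = φ (s ^ k) x := by
      intro k
      induction k with
      | zero => intro x; simp
      | succ k ih =>
        intro x
        rw [Function.iterate_succ_apply']
        show φ s _ = _
        rw [ih, pow_succ', map_mul, Equiv.Perm.mul_apply]
    have h1 := JFourSevenFix30.card_fixed_modEq (p := 7) f fun x => Subtype.ext (by
      rw [hit, hs7, map_one]; rfl)
    rw [Nat.card_eq_fintype_card, Fintype.card_coe] at h1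
    haveI : IsEmpty {x : U // f x = x} :=
      ⟨fun x => hno x.1.1 x.1.2 (congrArg Subtype.val x.2)⟩
    rw [Nat.card_of_isEmpty] at h1
    have h5 : U.card ≤ 24 := by
      rw [← hα, Nat.card_eq_fintype_card]; exact U.card_le_univ
    unfold Nat.ModEq at h1
    omega
  -- its stabiliser
  set C := MulAction.stabilizer Y a with hC
  have hCmem : ∀ y, y ∈ C ↔ φ y a = a := fun y => Iff.rfl
  have hsC : s ∈ C := (hCmem s).2 has
  have hB : C ⊓ E = ⊥ := by
    by_contra hne
    set B := C ⊓ E with hBdef
    have hBs : ∀ e ∈ B, s * e * s⁻¹ ∈ B := fun e he =>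
      ⟨C.mul_mem (C.mul_mem hsC he.1) (C.inv_mem hsC), hnorm e he.2⟩
    have h1 := card_modEq_cent hs B hBs
    have hfx : B ⊓ centralizer ({s} : Set Y) = ⊥ := by
      rw [Subgroup.eq_bot_iff_forall]
      rintro e ⟨he, hec⟩
      by_contra he1
      refine hfree e he.2 he1 ?_
      rw [← mem_centralizer_singleton_iff.1 hec]
      group
    rw [hfx, Subgroup.card_bot] at h1
    have h2 : Nat.card B ∣ 8 := hE ▸ Subgroup.card_dvd_of_le inf_le_right
    have h3 : Nat.card B ≠ 8 := by
      intro h8
      have hBE : B = E := Subgroup.eq_of_le_of_card_ge inf_le_right (by rw [h8, hE])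
      obtain ⟨e, he, hea⟩ := (hUmem a).1 haU
      exact hea ((hCmem e).1 ((hBE.ge he).1))
    have h4 : Nat.card B ≠ 1 := fun h => hne (Subgroup.card_eq_one.1 h)
    have h5 : Nat.card B ≤ 8 := Nat.le_of_dvd (by norm_num) h2
    unfold Nat.ModEq at h1
    generalize Nat.card B = m at *
    interval_cases m <;> omega
  refine ⟨C, hB, ?_⟩
  -- its image is the whole quotient
  have hYcard : Nat.card Y = 1344 := by
    rw [Subgroup.card_eq_card_quotient_mul_card_subgroup E, hidx, hE]
  have hinj : Function.Injective ((QuotientGroup.mk' E).comp C.subtype) := by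
    rw [injective_iff_map_eq_one]
    intro y hy
    have : (y : Y) ∈ C ⊓ E := ⟨y.2, (QuotientGroup.eq_one_iff _).1 hy⟩
    rw [hB, Subgroup.mem_bot] at this
    exact Subtype.ext this
  have hcardC : Nat.card (((QuotientGroup.mk' E).comp C.subtype).range) = Nat.card C :=
    (Nat.card_congr (MonoidHom.ofInjective hinj).toEquiv).symm
  have horb : C.index ≤ 24 := by
    rw [hC, MulAction.index_stabilizer, ← hα, ← Nat.card_coe_set_eq]
    exact Nat.card_le_card_of_injective _ Subtype.val_injective
  have hCmul := C.card_mul_index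
  rw [hYcard] at hCmul
  set K := ((QuotientGroup.mk' E).comp C.subtype).range with hK
  have hKmul := K.card_mul_index
  rw [hidx, hcardC] at hKmul
  have hK6 : K.index ≤ 6 := by
    have h1 : 1344 ≤ Nat.card C * 24 := by
      rw [← hCmul]; exact Nat.mul_le_mul_left _ horb
    nlinarith
  have htop := eq_top_of_index hidx K hK6
  rw [← hcardC, htop, Subgroup.card_top, hidx]

end Cfsg.Agent.J4TrioGen48
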