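import Mathlib
import Cfsg.Agent.Lib.J4OrbitSize48
import Cfsg.Agent.Lib.J4Elem85
import Cfsg.Agent.Lib.JFourModule85

/-!
In a group of Janko-four type the centraliser of an elementary abelian group of order eight through the
involution `z` on which the subgroup of order three acts: its order and a normal subgroup of it of order
`2 ^ 11` with derived group generated by `z`.
-/

set_option autoImplicit false
set_option linter.unusedSectionVars false
set_option linter.style.haveILetI false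
set_option maxHeartbeats 800000

namespace Cfsg.Agent.J4TrioLine48

open Subgroup Cfsg.Agent.LargeExtraspecial Cfsg.Agent.U62Mon93 Cfsg.Agent.LFForm89
  Cfsg.Agent.J4Syl18 Cfsg.Agent.JFourSetting97 Cfsg.Agent.JFourModule85 Cfsg.Agent.J4Elem85
open Cfsg.Agent.J4Coord85 (Hyp Frame Acts op)

universe u

/-- What the centraliser of the group of order eight provides. -/
structure Line {G : Type u} [Group G] (z : G) (E0 D : Subgroup G) : Prop where
  le : D ≤ centralizer (E0 : Set G)
  E0_le : E0 ≤ D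
  card : Nat.card D = 2 ^ 11
  normal : ∀ g ∈ centralizer (E0 : Set G), ∀ d ∈ D, g * d * g⁻¹ ∈ D
  derived : ∀ a ∈ D, ∀ b ∈ D, a * b * a⁻¹ * b⁻¹ = 1 ∨ a * b * a⁻¹ * b⁻¹ = z
  nonab : ∃ a ∈ D, ∃ b ∈ D, a * b * a⁻¹ * b⁻¹ = z
  size : Nat.card (centralizer (E0 : Set G)) = 2 ^ 18 * 15 ∨
    Nat.card (centralizer (E0 : Set G)) = 2 ^ 17 * 15

theorem line_cent {G : Type u} [Group G] [Finite G] {z : G} {P : Subgroup G}
    (hJ : Cfsg.IsOfJankoFourTypeWith z P) {E0 : Subgroup G} (hcard : Nat.card E0 = 8)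
    (hea : ∀ x ∈ E0, x * x = 1) (hz : z ∈ E0)
    (hnorm : ∀ g ∈ P, ∀ e ∈ E0, g * e * g⁻¹ ∈ E0)
    (hfree : ∀ e ∈ E0, (∀ g ∈ P, g * e = e * g) → e = 1 ∨ e = z) :
    ∃ D : Subgroup G, Line z E0 D := by
  classical
  haveI : Fintype ↥(HH z) := Fintype.ofFinite _
  obtain ⟨V, _, zc, π, ρ, q, n, Mb, D⟩ := exists_data hJ
  haveI := finiteV D
  haveI : Fintype (GaloisField 2 2) := Fintype.ofFinite _
  have hc4 : Fintype.card (GaloisField 2 2) = 4 := by
    rw [← Nat.card_eq_fintype_card, GaloisField.card 2 2 (by norm_num)]; norm_num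
  obtain ⟨s, hs⟩ := U62Mon93.exists_S4 hc4
  obtain ⟨ν, C⟩ := J4Syl18.exists_coord D.hyp hs
  have fx := D.hyp.fx
  obtain ⟨pH, hpP, hp3, hpn⟩ := D.n_lift
  have hpmem : (pH : G) ∈ P := hpP ▸ mem_zpowers _
  have hcommE : ∀ x ∈ E0, ∀ y ∈ E0, x * y = y * x := fun x hx y hy => by
    have inv : ∀ w ∈ E0, w⁻¹ = w := fun w hw => inv_eq_of_mul_eq_one_right (hea w hw)
    calc x * y = (x * y)⁻¹ := (inv _ (mul_mem hx hy)).symm
      _ = y * x := by rw [mul_inv_rev, inv x hx, inv y hy]
  have hEH : E0 ≤ HH z := fun e he => mem_centralizer_singleton_iff.2 (hcommE e he z hz)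
  -- inside the largest normal 2-subgroup
  set E0H := E0.subgroupOf (HH z) with hE0H
  have hcardH : Nat.card E0H = 8 := by
    rw [Nat.card_congr (subgroupOfEquivOfLe hEH).toEquiv, hcard]
  have hzH : zc ∈ E0H := by rw [mem_subgroupOf, D.zc_val]; exact hz
  have heaH : ∀ x ∈ E0H, x * x = 1 := fun x hx => Subtype.ext (hea _ hx)
  have hcommH : ∀ x ∈ E0H, ∀ y ∈ E0H, x * y = y * x := fun x hx y hy =>
    Subtype.ext (hcommE _ hx _ hy)
  have hnormH : ∀ e ∈ E0H, pH * e * pH⁻¹ ∈ E0H := fun e he => by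
    rw [mem_subgroupOf]
    exact hnorm _ hpmem _ he
  have hfreeH : ∀ e ∈ E0H, pH * e = e * pH → e = 1 ∨ e = zc := by
    intro e he hc
    have hc' : (pH : G) * e = e * pH := congrArg Subtype.val hc
    rcases hfree _ he (fun g hg => by
      rw [← hpP] at hg
      obtain ⟨i, rfl⟩ := mem_zpowers_iff.1 hg
      exact ((show Commute (pH : G) e from hc').zpow_left i).eq) with h | h
    · exact Or.inl (Subtype.ext h)
    · exact Or.inr (Subtype.ext (h.trans D.zc_val.symm))
  have hn3 : n ^ 3 = 1 := by rw [← D.hyp.order_n]; exact pow_orderOf_eq_one n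
  have hn1 : n ≠ 1 := fun e => by
    have := D.hyp.order_n
    rw [e, orderOf_one] at this
    omega
  have hcQ : ∀ e ∈ E0H, e * (pH * e * pH⁻¹) ∈ QQ z := by
    intro e he
    have hsq : mk z (e * (pH * e * pH⁻¹)) * mk z (e * (pH * e * pH⁻¹)) = 1 := by
      rw [← map_mul, heaH _ (mul_mem he (hnormH e he)), map_one]
    have hinv : (mk z e)⁻¹ = mk z e := inv_eq_of_mul_eq_one_right (by
      rw [← map_mul, heaH e he, map_one])
    have hval : mk z (e * (pH * e * pH⁻¹)) = mk z e * n * (mk z e)⁻¹ * n⁻¹ := by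
      rw [map_mul, map_mul, map_mul, map_inv, hpn, hinv]; group
    rw [← QuotientGroup.eq_one_iff]
    show mk z (e * (pH * e * pH⁻¹)) = 1
    rcases D.normal_n (mk z e) with h | h
    · rw [hval, h, mul_inv_cancel]
    · exfalso
      rw [hval, h] at hsq
      refine hn1 ?_
      have h4 : n * n * n * n = 1 := by
        calc n * n * n * n = (n⁻¹ * n⁻¹ * (n⁻¹ * n⁻¹))⁻¹ := by
              simp only [mul_inv_rev, inv_inv, mul_assoc]
          _ = 1 := by rw [hsq, inv_one]
      have h3 : n * n * n = 1 := by rw [← hn3, pow_succ, pow_two]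
      rwa [h3, one_mul] at h4
  have hEQ : E0H ≤ QQ z := by
    let f : E0H →* E0H := MonoidHom.mk' (fun e => ⟨e.1 * (pH * e.1 * pH⁻¹),
      mul_mem e.2 (hnormH _ e.2)⟩) fun a b => Subtype.ext (by
        show a.1 * b.1 * (pH * (a.1 * b.1) * pH⁻¹) =
          a.1 * (pH * a.1 * pH⁻¹) * (b.1 * (pH * b.1 * pH⁻¹))
        have hc := hcommH _ b.2 _ (hnormH _ a.2)
        calc a.1 * b.1 * (pH * (a.1 * b.1) * pH⁻¹)
            = a.1 * (b.1 * (pH * a.1 * pH⁻¹)) * (pH * b.1 * pH⁻¹) := by group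
          _ = _ := by rw [hc]; group)
    have hker : Nat.card f.ker ≤ 2 := by
      have hsub : f.ker.map E0H.subtype ≤ zpowers zc := by
        rintro _ ⟨e, he, rfl⟩
        have he' : e.1 * (pH * e.1 * pH⁻¹) = 1 := congrArg Subtype.val he
        have hpe : pH * e.1 * pH⁻¹ = e.1 := by
          rw [eq_inv_of_mul_eq_one_right he']
          exact inv_eq_of_mul_eq_one_right (heaH _ e.2)
        rcases hfreeH _ e.2 (mul_inv_eq_iff_eq_mul.1 hpe) with h | h
        · show e.1 ∈ _
          rw [h]; exact one_mem _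
        · show e.1 ∈ _
          rw [h]; exact mem_zpowers _
      have h1 := Subgroup.card_dvd_of_le hsub
      rw [Subgroup.card_map_of_injective E0H.subtype_injective, Nat.card_zpowers,
        orderOf_eq_prime (p := 2) (by rw [pow_two, D.ext.zz]) D.ext.ne_one] at h1
      exact Nat.le_of_dvd (by norm_num) h1
    have hzr : zc ∉ f.range.map E0H.subtype := by
      rintro ⟨_, ⟨e, rfl⟩, he⟩
      have he' : e.1 * (pH * e.1 * pH⁻¹) = zc := he
      have hpe : pH * e.1 * pH⁻¹ = e.1 * zc := by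
        rw [← he', ← mul_assoc, heaH _ e.2, one_mul]
      have hp3' : pH ^ 3 = 1 := by
        refine Subtype.ext ?_
        rw [SubmonoidClass.coe_pow, OneMemClass.coe_one, ← hp3]
        exact pow_orderOf_eq_one _
      have hzp : ∀ g, g * zc * g⁻¹ = zc := fun g => by rw [D.zc_central g, mul_inv_cancel_right]
      have h2 : pH ^ 2 * e.1 * (pH ^ 2)⁻¹ = e.1 := by
        rw [show pH ^ 2 * e.1 * (pH ^ 2)⁻¹ = pH * (pH * e.1 * pH⁻¹) * pH⁻¹ by
            rw [pow_two, mul_inv_rev]; simp only [mul_assoc], hpe,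
          show pH * (e.1 * zc) * pH⁻¹ = (pH * e.1 * pH⁻¹) * (pH * zc * pH⁻¹) by group, hpe, hzp,
          mul_assoc, D.ext.zz, mul_one]
      have h3 : pH ^ 3 * e.1 * (pH ^ 3)⁻¹ = e.1 * zc := by
        rw [show pH ^ 3 * e.1 * (pH ^ 3)⁻¹ = pH * (pH ^ 2 * e.1 * (pH ^ 2)⁻¹) * pH⁻¹ by
          rw [pow_succ' pH 2, mul_inv_rev]; simp only [mul_assoc], h2, hpe]
      rw [hp3'] at h3
      simp at h3
      exact D.ext.ne_one h3
    set K := f.range.map E0H.subtype with hK
    have hKQ : K ≤ E0H ⊓ QQ z := by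
      rintro _ ⟨_, ⟨e, rfl⟩, rfl⟩
      exact ⟨(f e).2, hcQ _ e.2⟩
    have hKc : 4 ≤ Nat.card K := by
      rw [hK, Subgroup.card_map_of_injective E0H.subtype_injective]
      have h1 := f.ker.card_mul_index
      rw [Subgroup.index_ker, hcardH] at h1
      nlinarith
    have hlt : Nat.card K < Nat.card ↥(E0H ⊓ QQ z) := by
      refine lt_of_le_of_ne (Subgroup.card_le_of_le hKQ) fun e => hzr ?_
      rw [Subgroup.eq_of_le_of_card_ge hKQ e.ge]
      exact ⟨hzH, D.ext.mem⟩
    have hd : Nat.card ↥(E0H ⊓ QQ z) ∣ 8 := hcardH ▸ Subgroup.card_dvd_of_le inf_le_left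
    have h8 : Nat.card ↥(E0H ⊓ QQ z) = 8 := by
      have h5 := Nat.le_of_dvd (by norm_num) hd
      generalize Nat.card ↥(E0H ⊓ QQ z) = m at *
      interval_cases m <;> omega
    exact (Subgroup.eq_of_le_of_card_ge (inf_le_left : E0H ⊓ QQ z ≤ E0H)
      (by rw [h8, hcardH])).symm.le.trans inf_le_right
  -- a generating pair
  obtain ⟨x, hxE, hx1, hxz⟩ : ∃ x ∈ E0H, x ≠ 1 ∧ x ≠ zc := by
    by_contra hno
    push Not at hno
    have hsub : E0H ≤ zpowers zc := fun x hx => by
      by_cases h : x = 1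
      · rw [h]; exact one_mem _
      · rw [hno x hx h]; exact mem_zpowers _
    have := Nat.le_of_dvd (Nat.card_pos) (Subgroup.card_dvd_of_le hsub)
    rw [Nat.card_zpowers, orderOf_eq_prime (p := 2) (by rw [pow_two, D.ext.zz]) D.ext.ne_one,
      hcardH] at this
    omega
  set x' := pH * x * pH⁻¹ with hx'
  have hx'E : x' ∈ E0H := hnormH x hxE
  set u := π x with hu
  have hu0 : u ≠ 0 := fun e => by
    rcases (D.link.ker x (hEQ hxE)).1 e with h | h
    · exact hx1 h
    · exact hxz h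
  have hqu : q u = 0 := (J4Elem85.sq_iff D (hEQ hxE)).1 (heaH x hxE)
  have hπx' : π x' = op ρ n u := by rw [hx', act D pH (hEQ hxE), hpn]
  have hnu : op ρ n u ≠ u := fun e => hu0 (by
    have h3 := fx.rel u
    rw [e, e, fx.two, zero_add] at h3
    exact h3)
  have hnu0 : op ρ n u ≠ 0 := fun e => hu0 (by
    have h3 := fx.rel u
    rw [e, map_zero, add_zero, zero_add] at h3
    exact h3)
  -- it is generated by `z` and the pair
  have hgen : Subgroup.closure ({zc, x, x'} : Set ↥(HH z)) = E0H := by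
    have hle : Subgroup.closure ({zc, x, x'} : Set ↥(HH z)) ≤ E0H := by
      rw [Subgroup.closure_le]
      rintro _ (rfl | rfl | rfl)
      · exact hzH
      · exact hxE
      · exact hx'E
    refine Subgroup.eq_of_le_of_card_ge hle ?_
    set K := Subgroup.closure ({zc, x, x'} : Set ↥(HH z)) with hK
    haveI : Fintype ↥K := Fintype.ofFinite _
    have hd : Nat.card K ∣ 8 := hcardH ▸ Subgroup.card_dvd_of_le hle
    have hzK : zc ∈ K := Subgroup.subset_closure (by simp)
    have hxK : x ∈ K := Subgroup.subset_closure (by simp)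
    have hx'K : x' ∈ K := Subgroup.subset_closure (by simp)
    have hsub : ({1, zc, x, x * zc, x'} : Finset ↥(HH z)) ⊆ Finset.univ.filter (· ∈ K) := by
      intro w hw
      simp only [Finset.mem_insert, Finset.mem_singleton] at hw
      refine Finset.mem_filter.2 ⟨Finset.mem_univ _, ?_⟩
      rcases hw with rfl | rfl | rfl | rfl | rfl
      · exact one_mem _
      · exact hzK
      · exact hxK
      · exact mul_mem hxK hzK
      · exact hx'K
    have hxzc : π (x * zc) = u := by
      rw [D.link.add _ (hEQ hxE) _ D.ext.mem, (D.link.ker zc D.ext.mem).2 (Or.inr rfl), add_zero]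
    have d1 : x' ≠ 1 := fun e => hnu0 (by rw [← hπx', e, pi_one D])
    have d2 : x' ≠ zc := fun e => hnu0 (by
      rw [← hπx', e, (D.link.ker zc D.ext.mem).2 (Or.inr rfl)])
    have d3 : x' ≠ x := fun e => hnu (by rw [← hπx', e])
    have d4 : x' ≠ x * zc := fun e => hnu (by rw [← hπx', e, hxzc])
    have d5 : x * zc ≠ 1 := fun e => hxz (by
      rw [← mul_one x, ← D.ext.zz, ← mul_assoc, e, one_mul])
    have d6 : x * zc ≠ zc := fun e => hx1 (mul_eq_right.1 e)
    have d7 : x * zc ≠ x := fun e => D.ext.ne_one (mul_eq_left.1 e)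
    have h5 : ({1, zc, x, x * zc, x'} : Finset ↥(HH z)).card = 5 := by
      rw [Finset.card_insert_of_notMem, Finset.card_insert_of_notMem, Finset.card_insert_of_notMem,
        Finset.card_insert_of_notMem, Finset.card_singleton]
      · simp [d4.symm]
      · simp [d7.symm, d3.symm]
      · simp [Ne.symm hxz, d6.symm, d2.symm]
      · simp [D.ext.ne_one.symm, Ne.symm hx1, d5.symm, d1.symm]
    have h6 := Finset.card_le_card hsub
    rw [h5, ← Fintype.card_subtype, ← Nat.card_eq_fintype_card] at h6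
    have h7 := Nat.le_of_dvd (by norm_num) hd
    rw [hcardH]
    change 5 ≤ Nat.card K at h6
    generalize Nat.card K = m at *
    interval_cases m <;> omega
  -- the centraliser inside the centraliser of `z`
  set T := centralizer (E0 : Set G) with hT
  have hTH : T ≤ HH z := fun g hg =>
    mem_centralizer_singleton_iff.2 ((mem_centralizer_iff.1 hg z hz).symm)
  set TH := T.subgroupOf (HH z) with hTH'
  have hTmem : ∀ g, g ∈ TH ↔ g * x = x * g ∧ g * x' = x' * g := by
    intro g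
    rw [hTH', mem_subgroupOf]
    refine ⟨fun hg => ⟨Subtype.ext (mem_centralizer_iff.1 hg x hxE).symm,
      Subtype.ext (mem_centralizer_iff.1 hg x' hx'E).symm⟩, fun hg => ?_⟩
    have hle : E0H ≤ centralizer ({g} : Set ↥(HH z)) := by
      rw [← hgen, Subgroup.closure_le]
      rintro _ (rfl | rfl | rfl)
      · exact mem_centralizer_singleton_iff.2 (D.zc_central g).symm
      · exact mem_centralizer_singleton_iff.2 hg.1.symm
      · exact mem_centralizer_singleton_iff.2 hg.2.symm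
    rw [mem_centralizer_iff]
    intro e he
    exact congrArg Subtype.val (mem_centralizer_singleton_iff.1 (hle (show ⟨e, hEH he⟩ ∈ E0H from he)))
  -- the pairing with the two vectors
  let ψ : ↥(QQ z) →* Multiplicative (ZMod 2 × ZMod 2) := MonoidHom.mk'
    (fun y => Multiplicative.ofAdd (pol q (π y.1) u, pol q (π y.1) (op ρ n u)))
    fun a b => by
      rw [← ofAdd_add, Prod.mk_add_mk, ← fx.addl, ← fx.addl, ← D.link.add _ a.2 _ b.2]
      rfl
  have hw : ∀ v : V, v ≠ 0 → ∃ w, pol q w v = 1 := by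
    intro v hv
    by_contra hno
    push Not at hno
    refine hv (fx.nondeg v fun w => ?_)
    rw [pol_comm]
    exact (by decide : ∀ a : ZMod 2, a ≠ 1 → a = 0) _ (hno w)
  have hψ : Function.Surjective ψ := by
    have hval : ∀ a b : ZMod 2, ∀ w, pol q w u = a → pol q w (op ρ n u) = b →
        Multiplicative.ofAdd (a, b) ∈ ψ.range := by
      intro a b w ha hb
      obtain ⟨y, hy, rfl⟩ := D.link.surj w
      exact ⟨⟨y, hy⟩, by show Multiplicative.ofAdd (_, _) = _; rw [ha, hb]⟩
    obtain ⟨w1, e1⟩ := hw u hu0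
    obtain ⟨w2, e2⟩ := hw _ hnu0
    obtain ⟨w3, e3⟩ := hw (u + op ρ n u) fun e => hnu (by
      rw [← zero_add (op ρ n u), ← fx.two u, add_assoc, e, add_zero])
    have e3' : pol q w3 u + pol q w3 (op ρ n u) = 1 := by
      rw [pol_comm (q := q) w3 u, pol_comm (q := q) w3 (op ρ n u), ← fx.addl, pol_comm]; exact e3
    have m1 := hval _ _ w1 rfl rfl
    have m2 := hval _ _ w2 rfl rfl
    have m3 := hval _ _ w3 rfl rfl
    rw [e1] at m1
    rw [e2] at m2
    have key : ∀ a b c d : ZMod 2, c + d = 1 → ∀ t : ZMod 2 × ZMod 2,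
        t = 0 ∨ t = (1, a) ∨ t = (b, 1) ∨ t = (c, d) ∨ t = (1, a) + (b, 1) ∨ t = (1, a) + (c, d) ∨
        t = (b, 1) + (c, d) ∨ t = (1, a) + (b, 1) + (c, d) := by decide
    intro t
    obtain ⟨t, rfl⟩ : ∃ t', Multiplicative.ofAdd t' = t := ⟨_, rfl⟩
    show _ ∈ ψ.range
    rcases key _ _ _ _ e3' t with h | h | h | h | h | h | h | h <;> rw [h]
    · exact one_mem _
    · exact m1
    · exact m2
    · exact m3
    · exact mul_mem m1 m2
    · exact mul_mem m1 m3
    · exact mul_mem m2 m3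
    · exact mul_mem (mul_mem m1 m2) m3
  -- the part inside
  set DH := TH ⊓ QQ z with hDH
  have hDker : DH = ψ.ker.map (QQ z).subtype := by
    ext y
    constructor
    · rintro ⟨hyT, hyQ⟩
      refine ⟨⟨y, hyQ⟩, ?_, rfl⟩
      show Multiplicative.ofAdd (_, _) = _
      rw [(comm_iff D hyQ (hEQ hxE)).1 ((hTmem y).1 hyT).1,
        show op ρ n u = π x' from hπx'.symm, (comm_iff D hyQ (hEQ hx'E)).1 ((hTmem y).1 hyT).2]
      rfl
    · rintro ⟨⟨y, hyQ⟩, hy, rfl⟩
      have h := congrArg Multiplicative.toAdd (show ψ ⟨y, hyQ⟩ = 1 from hy)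
      refine ⟨(hTmem y).2 ⟨(comm_iff D hyQ (hEQ hxE)).2 (congrArg Prod.fst h),
        (comm_iff D hyQ (hEQ hx'E)).2 ?_⟩, hyQ⟩
      rw [hπx']
      exact congrArg Prod.snd h
  have hDcard : Nat.card DH = 2 ^ 11 := by
    rw [hDker, Subgroup.card_map_of_injective (QQ z).subtype_injective]
    have h1 := ψ.ker.card_mul_index
    rw [Subgroup.index_ker, MonoidHom.range_eq_top.2 hψ, Subgroup.card_top, D.card_Q,
      Nat.card_congr Multiplicative.toAdd, Nat.card_prod, Nat.card_zmod] at h1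
    omega
  -- the image
  have himg : TH.map (mk z) = J4OrbitSize48.Stab ρ Mb u := by
    ext g
    constructor
    · rintro ⟨h, hh, rfl⟩
      obtain ⟨h1, h2⟩ := (hTmem h).1 hh
      have f1 : op ρ (mk z h) u = u := by
        rw [hu, ← act D h (hEQ hxE), mul_inv_eq_iff_eq_mul.2 h1]
      have f2 : op ρ (mk z h) (op ρ n u) = op ρ n u := by
        rw [← hπx', ← act D h (hEQ hx'E), mul_inv_eq_iff_eq_mul.2 h2]
      refine ⟨?_, f1⟩
      by_contra hM
      have e := D.invert _ hM
      have e' : mk z h * n = n⁻¹ * mk z h := mul_inv_eq_iff_eq_mul.1 e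
      rw [← J4Syl18.rho_mul, e', J4Syl18.rho_mul, f1] at f2
      refine hnu ?_
      have e2 : op ρ n (op ρ n⁻¹ u) = u := by
        rw [← J4Syl18.rho_mul, mul_inv_cancel, J4Syl18.rho_one]
      rw [f2] at e2
      have h3 := fx.rel u
      rw [e2] at h3
      have : op ρ n u = 0 := by rw [add_comm u, add_assoc, fx.two, add_zero] at h3; exact h3
      exact absurd this hnu0
    · rintro ⟨hgM, hgu⟩
      obtain ⟨h0, rfl⟩ := QuotientGroup.mk'_surjective (QQ z) g
      have c1 : π (h0 * x * h0⁻¹) = u := by rw [act D h0 (hEQ hxE)]; exact hgu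
      have c2 : π (h0 * x' * h0⁻¹) = op ρ n u := by
        rw [act D h0 (hEQ hx'E), hπx', ← J4Syl18.rho_mul]
        show op ρ (QuotientGroup.mk' (QQ z) h0 * n) u = _
        rw [D.hyp.comm_n _ hgM, J4Syl18.rho_mul, hgu]
      have k1 : h0 * x * h0⁻¹ ∈ QQ z := (inferInstance : (QQ z).Normal).conj_mem x (hEQ hxE) h0
      have k2 : h0 * x' * h0⁻¹ ∈ QQ z := (inferInstance : (QQ z).Normal).conj_mem x' (hEQ hx'E) h0
      obtain ⟨⟨y, hyQ⟩, hy⟩ := hψ (Multiplicative.ofAdd
        ((if h0 * x * h0⁻¹ = x then 0 else 1 : ZMod 2), (if h0 * x' * h0⁻¹ = x' then 0 else 1 : ZMod 2)))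
      have hy' := congrArg Multiplicative.toAdd hy
      have fix_one : ∀ w ∈ E0H, ∀ k, k = h0 * w * h0⁻¹ → π k = π w →
          pol q (π y) (π w) = (if k = w then 0 else 1) → (y * h0) * w * (y * h0)⁻¹ = w := by
        intro w hw k hk hπk hpol
        have hkQ : k ∈ QQ z := hk ▸ (inferInstance : (QQ z).Normal).conj_mem w (hEQ hw) h0
        have e1 : (y * h0) * w * (y * h0)⁻¹ = y * k * y⁻¹ := by rw [hk]; group
        rw [e1]
        have hyk : y * w * y⁻¹ = w ↔ pol q (π y) (π w) = 0 := by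
          rw [mul_inv_eq_iff_eq_mul]; exact comm_iff D hyQ (hEQ hw)
        have hyw := D.ext.conj y hyQ w (hEQ hw)
        by_cases hkw : k = w
        · rw [if_pos hkw] at hpol
          rw [hkw]; exact hyk.2 hpol
        · rw [if_neg hkw] at hpol
          have hkz : k = w * zc := (pi_eq D (hEQ hw) hkQ hπk.symm).resolve_left hkw
          have h1 : y * w * y⁻¹ = zc * w := hyw.resolve_left fun e => by
            rw [hyk.1 e] at hpol; exact zero_ne_one hpol
          rw [hkz, show y * (w * zc) * y⁻¹ = y * w * y⁻¹ * (y * zc * y⁻¹) by group, h1,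
            D.zc_central y, mul_inv_cancel_right, ← D.zc_central w, mul_assoc, D.ext.zz, mul_one]
      refine ⟨y * h0, (hTmem _).2 ⟨?_, ?_⟩, ?_⟩
      · exact mul_inv_eq_iff_eq_mul.1 (fix_one x hxE _ rfl c1 (congrArg Prod.fst hy'))
      · refine mul_inv_eq_iff_eq_mul.1 (fix_one x' hx'E _ rfl (c2.trans hπx'.symm) ?_)
        rw [hπx']
        exact congrArg Prod.snd hy'
      · rw [map_mul, show mk z y = 1 from (QuotientGroup.eq_one_iff _).2 hyQ, one_mul]
  have hTcard : Nat.card TH = Nat.card DH * Nat.card (J4OrbitSize48.Stab ρ Mb u) := by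
    rw [← himg]; exact J4Elem85.card_eq_mul (QQ z) TH
  have hTT : Nat.card T = Nat.card TH := (Nat.card_congr (subgroupOfEquivOfLe hTH).toEquiv).symm
  set D0 := DH.map (HH z).subtype with hD0
  have hD0mem : ∀ {g : G}, g ∈ D0 → ∃ d ∈ DH, (d : G) = g := fun hg => hg
  refine ⟨D0, ?_, ?_, ?_, ?_, ?_, ?_, ?_⟩
  · rintro _ ⟨d, hd, rfl⟩
    exact hd.1
  · intro e he
    refine ⟨⟨e, hEH he⟩, ⟨?_, hEQ (show _ ∈ E0H from he)⟩, rfl⟩
    show e ∈ T
    exact mem_centralizer_iff.2 fun w hw => hcommE w hw e he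
  · rw [hD0, Subgroup.card_map_of_injective (HH z).subtype_injective, hDcard]
  · rintro g hg _ ⟨d, hd, rfl⟩
    refine ⟨⟨g, hTH hg⟩ * d * ⟨g, hTH hg⟩⁻¹, ⟨?_,
      (inferInstance : (QQ z).Normal).conj_mem d hd.2 _⟩, rfl⟩
    exact T.mul_mem (T.mul_mem hg hd.1) (T.inv_mem hg)
  · rintro _ ⟨a, ha, rfl⟩ _ ⟨b, hb, rfl⟩
    rcases D.ext.conj a ha.2 b hb.2 with e | e
    · left
      have h1 : a * b * a⁻¹ * b⁻¹ = 1 := by rw [e, mul_inv_cancel]
      exact congrArg Subtype.val h1
    · right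
      have h1 : a * b * a⁻¹ * b⁻¹ = zc := by rw [e, mul_inv_cancel_right]
      exact (congrArg Subtype.val h1).trans D.zc_val
  · -- otherwise a totally isotropic space would be too large
    by_contra hno
    push Not at hno
    have hcomm : ∀ a ∈ DH, ∀ b ∈ DH, pol q (π a) (π b) = 0 := by
      intro a ha b hb
      refine (comm_iff D ha.2 hb.2).1 ?_
      rcases D.ext.conj a ha.2 b hb.2 with e | e
      · exact mul_inv_eq_iff_eq_mul.1 e
      · refine absurd ?_ (hno _ ⟨a, ha, rfl⟩ _ ⟨b, hb, rfl⟩)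
        have h1 : a * b * a⁻¹ * b⁻¹ = zc := by rw [e, mul_inv_cancel_right]
        exact (congrArg Subtype.val h1).trans D.zc_val
    let W : AddSubgroup V :=
      { carrier := {v | ∃ y ∈ DH, π y = v}
        zero_mem' := ⟨1, one_mem _, pi_one D⟩
        add_mem' := fun {a b} ⟨y, hy, ea⟩ ⟨y', hy', eb⟩ =>
          ⟨y * y', mul_mem hy hy', by rw [D.link.add y hy.2 y' hy'.2, ea, eb]⟩
        neg_mem' := fun {a} ⟨y, hy, ea⟩ => ⟨y, hy, by
          rw [ea, eq_neg_iff_add_eq_zero, D.orth.two]⟩ }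
    have hW : Nat.card W ≤ 64 := card_iso fx W (by
      rintro _ ⟨a, ha, rfl⟩ _ ⟨b, hb, rfl⟩
      exact hcomm a ha b hb)
    have h2 := card_piIm D DH
    have hle : piIm D DH ≤ W := by
      rintro _ ⟨y, hy, rfl⟩
      exact ⟨y, hy.1, rfl⟩
    have h3 : Nat.card (piIm D DH) ≤ Nat.card W :=
      Nat.card_le_card_of_injective _ (AddSubgroup.inclusion_injective hle)
    rw [show DH ⊓ QQ z = DH from inf_eq_left.2 inf_le_right, hDcard] at h2
    omega
  · rw [← hT, hTT, hTcard, hDcard]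
    rcases J4OrbitSize48.card_stab D.hyp C hqu hu0 with h | h <;> rw [h] <;> norm_num

end Cfsg.Agent.J4TrioLine48
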