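import Mathlib
import Cfsg.Prelude.Def_JankoFourType
import Cfsg.Agent.Lib.J4TrioBase48
import Cfsg.Agent.Lib.J4TrioGen48
import Cfsg.Agent.Lib.J4TrioLine48

/-!
The centraliser of a subgroup of order five in a group of Janko-four type: the elementary abelian group
of order eight in it is acted on faithfully and transitively.
-/

set_option autoImplicit false
set_option linter.unusedSectionVars false
set_option linter.style.haveILetI false

namespace Cfsg.Agent.J4TrioFive48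

open Subgroup Cfsg Cfsg.Agent.J4TrioBase48

local notation "SL32" => Matrix.SpecialLinearGroup (Fin 3) (ZMod 2)
local notation "S₅" => Equiv.Perm (Fin 5)

variable {G : Type*} [Group G] [Finite G]

/-- The centraliser of a subgroup `Q` of order five. -/
structure Five (Q J E0 : Subgroup G) (θ : ↥J →* SL32) : Prop where
  qcard : Nat.card Q = 5
  idp : IsInternalDirectProduct Q J (centralizer (Q : Set G))
  E0_le : E0 ≤ J
  E0_card : Nat.card E0 = 8
  E0_sq : ∀ e ∈ E0, e * e = 1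
  E0_norm : ∀ j ∈ J, ∀ e ∈ E0, j * e * j⁻¹ ∈ E0
  surj : Function.Surjective θ
  ker : ∀ j : J, θ j = 1 ↔ (j : G) ∈ E0
  nonsplit : ∀ K : Subgroup G, K ≤ J → K ⊓ E0 = ⊥ → Nat.card K ≠ 168

/-- Every subgroup of order seven has centraliser `7 × S₅`. -/
def Sevens (G : Type*) [Group G] : Prop :=
  ∀ S : Subgroup G, Nat.card S = 7 →
    ∃ I : Subgroup G, IsInternalDirectProduct S I (centralizer (S : Set G)) ∧ Nonempty (↥I ≃* S₅)

theorem exists_five {Q : Subgroup G} (hQ : Nat.card Q = 5)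
    (h : ∃ J : Subgroup G, IsInternalDirectProduct Q J (centralizer (Q : Set G)) ∧
      ∃ (E : Subgroup ↥J) (_ : E.Normal), IsElementaryAbelian 2 E ∧ Nat.card ↥E = 8 ∧
        Nonempty (↥J ⧸ E ≃* SL32) ∧ ∀ K : Subgroup ↥J, ¬ E.IsComplement' K) :
    ∃ (J E0 : Subgroup G) (θ : ↥J →* SL32), Five Q J E0 θ := by
  obtain ⟨J, hJ, E, hE, ⟨-, hsq⟩, hc, ⟨e⟩, hns⟩ := h
  refine ⟨J, E.map J.subtype, e.toMonoidHom.comp (QuotientGroup.mk' E),
    ⟨hQ, hJ, map_subtype_le E, ?_, ?_, ?_, e.surjective.comp (QuotientGroup.mk'_surjective E), ?_, ?_⟩⟩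
  · rw [card_map_of_injective Subtype.val_injective, hc]
  · rintro _ ⟨x, hx, rfl⟩
    have := hsq x hx
    rw [pow_two] at this
    exact congrArg Subtype.val this
  · rintro j hj _ ⟨x, hx, rfl⟩
    exact ⟨⟨j, hj⟩ * x * ⟨j, hj⟩⁻¹, hE.conj_mem x hx _, rfl⟩
  · intro j
    rw [MonoidHom.comp_apply, MulEquiv.coe_toMonoidHom, MulEquiv.map_eq_one_iff, QuotientGroup.mk'_apply,
      QuotientGroup.eq_one_iff]
    constructor
    · exact fun hj => ⟨j, hj, rfl⟩
    · rintro ⟨x, hx, hxj⟩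
      rwa [← Subtype.ext (a1 := x) (a2 := j) hxj]
  · intro K hK hd h168
    refine hns (K.subgroupOf J) (isComplement'_of_card_mul_and_disjoint ?_ ?_)
    · rw [Nat.card_congr (subgroupOfEquivOfLe hK).toEquiv, hc, h168,
        Subgroup.card_eq_card_quotient_mul_card_subgroup E, Nat.card_congr e.toEquiv,
        J4TrioGen48.sl32_card, hc]
    · rw [disjoint_iff, eq_bot_iff_forall]
      rintro x ⟨hx1, hx2⟩
      have : (x : G) ∈ K ⊓ E.map J.subtype := ⟨hx2, x, hx1, rfl⟩
      rw [hd, mem_bot] at this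
      exact Subtype.ext this

variable {Q J E0 : Subgroup G} {θ : ↥J →* SL32} (F : Five Q J E0 θ)
include F

theorem exists_cj (g : G) : ∃ θ' : ↥(J.map (cj g)) →* SL32,
    Five (Q.map (cj g)) (J.map (cj g)) (E0.map (cj g)) θ' := by
  let e := equivMapOfInjective J (cj g) (cj_inj g)
  refine ⟨θ.comp e.symm.toMonoidHom, ⟨by rw [card_cj]; exact F.qcard, ?_, map_mono F.E0_le,
    by rw [card_cj]; exact F.E0_card, ?_, ?_, F.surj.comp e.symm.surjective, ?_, ?_⟩⟩
  · rw [← centralizer_cj]; exact idp_cj g F.idp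
  · rintro _ ⟨x, hx, rfl⟩
    rw [← map_mul, F.E0_sq x hx, map_one]
  · rintro _ ⟨j, hj, rfl⟩ _ ⟨x, hx, rfl⟩
    rw [← map_inv, ← map_mul, ← map_mul]
    exact mem_map_of_mem _ (F.E0_norm j hj x hx)
  · intro j
    obtain ⟨x, rfl⟩ := e.surjective j
    rw [MonoidHom.comp_apply, MulEquiv.coe_toMonoidHom, MulEquiv.symm_apply_apply, F.ker]
    exact (mem_map_iff_mem (cj_inj g)).symm
  · intro K hK hd h168
    refine F.nonsplit (K.map (cj g⁻¹)) ?_ ?_ (by rw [card_cj, h168])
    · rintro _ ⟨k, hk, rfl⟩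
      obtain ⟨j, hj, rfl⟩ := hK hk
      show g⁻¹ * (g * j * g⁻¹) * g⁻¹⁻¹ ∈ J
      simpa [mul_assoc] using hj
    · rw [eq_bot_iff_forall]
      rintro _ ⟨⟨k, hk, rfl⟩, hx⟩
      have : k ∈ K ⊓ E0.map (cj g) := ⟨hk, mem_cj.2 (by
        have e : (cj g⁻¹) k = g⁻¹ * k * g := by show g⁻¹ * k * g⁻¹⁻¹ = _; rw [inv_inv]
        rw [← e]; exact hx)⟩
      rw [hd, mem_bot] at this
      rw [this, map_one]

theorem card_ker : Nat.card θ.ker = 8 := by
  have e : θ.ker = E0.subgroupOf J := by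
    ext j; rw [MonoidHom.mem_ker, F.ker, mem_subgroupOf]
  rw [e, Nat.card_congr (subgroupOfEquivOfLe F.E0_le).toEquiv, F.E0_card]

theorem card_J : Nat.card J = 1344 := by
  rw [← θ.ker.card_mul_index, Subgroup.index_ker, MonoidHom.range_eq_top.2 F.surj, card_top,
    card_ker F, J4TrioGen48.sl32_card]

theorem E0_comm : ∀ x ∈ E0, ∀ y ∈ E0, x * y = y * x := comm_of_sq F.E0_sq

theorem Q_J_comm {q j : G} (hq : q ∈ Q) (hj : j ∈ J) : q * j = j * q := F.idp.2.2.1 q hq j hj

theorem J_le : J ≤ centralizer (Q : Set G) := F.idp.2.1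

/-- An element centralising `Q` killed by a number prime to five lies in `J`. -/
theorem mem_J {x : G} {m : ℕ} (hm : Nat.Coprime 5 m) (hc : ∀ q ∈ Q, q * x = x * q) (hx : x ^ m = 1) :
    x ∈ J := idp_right F.idp (by rwa [F.qcard]) (mem_centralizer_iff.2 hc) hx

/-- A normal subgroup of `J` containing the kernel is the kernel or everything. -/
theorem normal_cases (N : Subgroup ↥J) [hN : N.Normal] (hker : θ.ker ≤ N) : N = θ.ker ∨ N = ⊤ := by
  haveI := J4TrioGen48.sl32_simple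
  have hcm : (N.map θ).comap θ = N := by rw [comap_map_eq, sup_eq_left.2 hker]
  rcases (hN.map θ F.surj).eq_bot_or_eq_top with e | e
  · left; rw [← hcm, e]; rfl
  · right; rw [← hcm, e]; rfl

/-- A subgroup of order seven of `J` centralises no non-trivial element of `E0`. -/
theorem no_fix (h7 : Sevens G) {s : G} (hs : orderOf s = 7) (hsJ : s ∈ J) {e : G} (he : e ∈ E0)
    (hc : s * e = e * s) : e = 1 := by
  by_contra he1
  haveI : Fact (Nat.Prime 7) := ⟨by norm_num⟩
  have hmod := J4TrioGen48.card_modEq_cent hs E0 (fun x hx => F.E0_norm s hsJ x hx)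
  rw [F.E0_card] at hmod
  set B := E0 ⊓ centralizer ({s} : Set G) with hB
  have heB : e ∈ B := ⟨he, mem_centralizer_singleton_iff.2 hc.symm⟩
  have hd : Nat.card B ∣ 8 := F.E0_card ▸ card_dvd_of_le inf_le_left
  have h2 : 2 ≤ Nat.card B := by
    by_contra h
    have : Nat.card B = 1 := by have := Nat.card_pos (α := B); omega
    rw [Subgroup.card_eq_one] at this
    rw [this, mem_bot] at heB
    exact he1 heB
  have h8 : Nat.card B = 8 := by
    have h5 : Nat.card B ≤ 8 := Nat.le_of_dvd (by norm_num) hd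
    unfold Nat.ModEq at hmod
    generalize Nat.card B = m at *
    interval_cases m <;> omega
  have hBE : B = E0 := eq_of_le_of_card_ge inf_le_left (by rw [h8, F.E0_card])
  obtain ⟨I, hI, ⟨φ⟩⟩ := h7 (zpowers s) (by rw [Nat.card_zpowers, hs])
  have hEI : E0 ≤ I := by
    intro x hx
    refine idp_right hI (m := 2) (by rw [Nat.card_zpowers, hs]; norm_num) ?_
      (by rw [pow_two]; exact F.E0_sq x hx)
    exact mem_cent_zpowers.2 (hBE.ge hx).2
  refine no_eight ((E0.subgroupOf I).map φ.toMonoidHom) ?_ ?_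
  · rintro _ ⟨x, hx, rfl⟩
    rw [← map_mul, Subtype.ext (a1 := x * x) (a2 := 1) (F.E0_sq _ hx), map_one]
  · rw [card_map_of_injective φ.injective, Nat.card_congr (subgroupOfEquivOfLe hEI).toEquiv, F.E0_card]

theorem exists_seven : ∃ s ∈ J, orderOf s = 7 := by
  haveI : Fact (Nat.Prime 7) := ⟨by norm_num⟩
  obtain ⟨s, h1, h2, -⟩ := exists_sub (A := J) (q := 7) (by rw [card_J F]; norm_num)
  exact ⟨s, h1, h2⟩

/-- `J` acts faithfully modulo `E0`. -/
theorem cent_E0 (h7 : Sevens G) {j : G} (hj : j ∈ J) (hc : ∀ e ∈ E0, e * j = j * e) : j ∈ E0 := by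
  let N : Subgroup ↥J := (centralizer (E0 : Set G)).subgroupOf J
  haveI : N.Normal := ⟨fun n hn k => by
    rw [mem_subgroupOf, mem_centralizer_iff] at hn ⊢
    intro e he
    have h1 := hn ((k : G)⁻¹ * e * k) (by
      have := F.E0_norm _ (J.inv_mem k.2) e he
      rwa [inv_inv] at this)
    show e * ((k : G) * n * (k : G)⁻¹) = (k : G) * n * (k : G)⁻¹ * e
    calc e * ((k : G) * n * (k : G)⁻¹) = (k : G) * (((k : G)⁻¹ * e * k) * n) * (k : G)⁻¹ := by group
      _ = (k : G) * n * (k : G)⁻¹ * e := by rw [h1]; group⟩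
  have hker : θ.ker ≤ N := fun x hx =>
    mem_subgroupOf.2 (mem_centralizer_iff.2 fun e he => E0_comm F e he x ((F.ker x).1 hx))
  rcases normal_cases F N hker with e | e
  · exact (F.ker ⟨j, hj⟩).1 (e.le (mem_subgroupOf.2 (mem_centralizer_iff.2 hc) : (⟨j, hj⟩ : J) ∈ N))
  · exfalso
    obtain ⟨s, hsJ, hs⟩ := exists_seven F
    have hsN : (⟨s, hsJ⟩ : J) ∈ N := e ▸ mem_top _
    have h1 : ∀ x ∈ E0, x = 1 := fun x hx => no_fix F h7 hs hsJ hx
      ((mem_centralizer_iff.1 (mem_subgroupOf.1 hsN) x hx).symm)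
    have h2 := F.E0_card
    rw [(eq_bot_iff_forall E0).2 h1, card_bot] at h2
    norm_num at h2

/-- `J` is transitive on the non-trivial elements of `E0`. -/
theorem trans_E0 (h7 : Sevens G) {e f : G} (he : e ∈ E0) (he1 : e ≠ 1) (hf : f ∈ E0) (hf1 : f ≠ 1) :
    ∃ j ∈ J, j * e * j⁻¹ = f := by
  haveI : Fact (Nat.Prime 7) := ⟨by norm_num⟩
  obtain ⟨s, hsJ, hs⟩ := exists_seven F
  let m : Fin 7 → G := fun k => s ^ (k : ℕ) * e * (s ^ (k : ℕ))⁻¹
  have hm : ∀ k, m k ∈ (E0 : Set G) \ {1} := fun k =>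
    ⟨F.E0_norm _ (J.pow_mem hsJ _) e he, fun h => he1 (conj_eq_one_iff.1 (Set.mem_singleton_iff.1 h))⟩
  have key : ∀ a b : Fin 7, (a : ℕ) ≤ (b : ℕ) → m a = m b → a = b := by
    intro a b hle heq
    obtain ⟨d, hd⟩ := Nat.exists_eq_add_of_le hle
    by_contra hne
    have hd0 : d ≠ 0 := fun h => hne (Fin.ext (by omega))
    have hd7 : Nat.Coprime 7 d := by
      rw [Nat.Prime.coprime_iff_not_dvd (by norm_num)]
      intro hdiv
      have := Nat.le_of_dvd (by omega) hdiv
      have := b.2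
      omega
    have h1 : s ^ d * e * (s ^ d)⁻¹ = e := by
      have h2 : m b = s ^ (a : ℕ) * (s ^ d * e * (s ^ d)⁻¹) * (s ^ (a : ℕ))⁻¹ := by
        show s ^ (b : ℕ) * e * _ = _
        rw [hd, pow_add]; group
      rw [← heq] at h2
      exact (mul_left_cancel (mul_right_cancel h2)).symm
    have hsd : orderOf (s ^ d) = 7 := by
      rw [Nat.Coprime.orderOf_pow (by rwa [hs]), hs]
    exact he1 (no_fix F h7 hsd (J.pow_mem hsJ d) he (mul_inv_eq_iff_eq_mul.1 h1))
  have hinj : Function.Injective m := fun a b h => by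
    rcases le_total (a : ℕ) (b : ℕ) with r | r
    · exact key a b r h
    · exact (key b a r h.symm).symm
  have h7' : (Set.range m).ncard = 7 := by
    rw [← Nat.card_coe_set_eq, Nat.card_range_of_injective hinj, Nat.card_fin]
  have heq : Set.range m = (E0 : Set G) \ {1} :=
    Set.eq_of_subset_of_ncard_le (by rintro _ ⟨k, rfl⟩; exact hm k) (by
      rw [Set.ncard_sdiff_singleton_of_mem (one_mem E0), ← Nat.card_coe_set_eq, SetLike.coe_sort_coe,
        F.E0_card, h7']) (Set.toFinite _)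
  obtain ⟨k, hk⟩ := (heq ▸ ⟨hf, hf1⟩ : f ∈ Set.range m)
  exact ⟨_, J.pow_mem hsJ _, hk⟩

/-- The involution and the subgroup of order three centralising `Q` give a line of the group. -/
theorem exists_line (h7 : Sevens G) {z : G} {P : Subgroup G} (hJ : IsOfJankoFourTypeWith z P)
    (hz1 : z ≠ 1) (hz2 : z * z = 1) (hzP : ∀ g ∈ P, z * g = g * z) (hzQ : ∀ q ∈ Q, q * z = z * q)
    (hPQ : P ≤ centralizer (Q : Set G)) (hP : Nat.card P = 3) :
    z ∈ E0 ∧ ∃ D : Subgroup G, J4TrioLine48.Line z E0 D := by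
  haveI : Fact (Nat.Prime 3) := ⟨by norm_num⟩
  obtain ⟨p, hp, hgen⟩ := exists_gen hP
  have hpP : p ∈ P := hgen ▸ mem_zpowers p
  have hp3 : p ^ 3 = 1 := by rw [← hp]; exact pow_orderOf_eq_one p
  have hp1 : p ≠ 1 := fun h => by rw [h, orderOf_one] at hp; omega
  have hzJ : z ∈ J := mem_J F (m := 2) (by norm_num) hzQ (by rw [pow_two, hz2])
  have hPJ : P ≤ J := fun g hg => mem_J F (m := 3) (by norm_num)
    (mem_centralizer_iff.1 (hPQ hg)) (by rw [← hP]; exact pow_card_one hg)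
  have hpE : p ∉ E0 := fun h => hp1 (by
    have h1 := F.E0_sq p h
    rw [pow_succ, pow_two, h1, one_mul] at hp3
    exact hp3)
  have hzE : z ∈ E0 := (F.ker ⟨z, hzJ⟩).1 (J4TrioGen48.two_three (MulEquiv.refl _)
    (b := θ ⟨p, hPJ hpP⟩) (by rw [← map_mul]; exact (congrArg θ (Subtype.ext hz2)).trans (map_one θ))
    (by rw [← map_pow]; exact (congrArg θ (Subtype.ext hp3)).trans (map_one θ))
    (fun h => hpE ((F.ker _).1 h))
    (by rw [← map_mul, ← map_mul]; exact congrArg θ (Subtype.ext (hzP p hpP))))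
  refine ⟨hzE, J4TrioLine48.line_cent hJ F.E0_card F.E0_sq hzE (fun g hg => F.E0_norm g (hPJ hg)) ?_⟩
  intro e he hec
  have hmod := J4TrioGen48.card_modEq_cent hp E0 (fun x hx => F.E0_norm p (hPJ hpP) x hx)
  rw [F.E0_card] at hmod
  set B := E0 ⊓ centralizer ({p} : Set G) with hB
  have hd : Nat.card B ∣ 8 := F.E0_card ▸ card_dvd_of_le inf_le_left
  have hzB : z ∈ B := ⟨hzE, mem_centralizer_singleton_iff.2 (hzP p hpP)⟩
  have hle : zpowers z ≤ B := zpowers_le.2 hzB
  have hz2' : Nat.card (zpowers z) = 2 := by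
    rw [Nat.card_zpowers]
    exact orderOf_eq_prime (by rw [pow_two, hz2]) hz1
  have h2 : 2 ≤ Nat.card B := hz2' ▸ Subgroup.card_le_of_le hle
  have h8 : Nat.card B ≠ 8 := fun h => hpE (by
    have hBE : B = E0 := eq_of_le_of_card_ge inf_le_left (by rw [h, F.E0_card])
    exact cent_E0 F h7 (hPJ hpP) fun x hx => mem_centralizer_singleton_iff.1 (hBE.ge hx).2)
  have hc : Nat.card B = 2 := by
    have h5 : Nat.card B ≤ 8 := Nat.le_of_dvd (by norm_num) hd
    unfold Nat.ModEq at hmod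
    generalize Nat.card B = m at *
    interval_cases m <;> omega
  have hBz : zpowers z = B := eq_of_le_of_card_ge hle (by rw [hc, hz2'])
  have heB : e ∈ B := ⟨he, mem_centralizer_singleton_iff.2 (hec p hpP).symm⟩
  rw [← hBz] at heB
  obtain ⟨i, rfl⟩ := mem_zpowers_iff.1 heB
  rcases Int.even_or_odd i with ⟨c, rfl⟩ | ⟨c, rfl⟩
  · left
    rw [← two_mul, zpow_mul, zpow_two, hz2, one_zpow]
  · right
    rw [zpow_add, zpow_mul, zpow_two, hz2, one_zpow, one_mul, zpow_one]

end Cfsg.Agent.J4TrioFive48
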