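import Mathlib
import Cfsg.Agent.Lib.LargeExtraspecialPair
import Cfsg.Agent.Lib.HallCore
import Cfsg.Agent.Lib.PSLSimple

/-!
The normaliser of an elementary abelian group of order eight generated by the centres of three
large extraspecial conjugates, each centre lying in the two other groups.
-/

set_option autoImplicit false
set_option linter.unusedSectionVars false
set_option linter.style.haveILetI false
set_option maxHeartbeats 1000000

namespace Cfsg.Agent.LFLocal52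

open scoped Pointwise
open Subgroup Cfsg.Agent.LargeExtraspecial Cfsg.Agent.LargeExtraspecialPair

variable {G : Type*} [Group G] [Finite G]

/-! ### General facts -/

/-- An element of `Q` moving `u` and fixing `w`. -/
theorem two_fn {Q : Subgroup G} {z : G} (h : LHyp Q z) {u w : G} (hu : u ∈ Q) (hw : w ∈ Q)
    (h1 : u ≠ 1) (h2 : u ≠ z) (h3 : u ≠ w⁻¹) (h4 : u ≠ z * w⁻¹) :
    ∃ q ∈ Q, q * u * q⁻¹ = z * u ∧ q * w = w * q := by
  by_contra hno
  push Not at hno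
  rcases h.toExt.double_centralizer hw hu fun t ht htw => by
    by_contra hne
    exact hno t ht ((h.not_comm_iff hu ht).mp hne) htw with e | e | e | e
  exacts [h1 e, h2 e, h3 e, h4 e]

/-- Adjusting by `u` makes an element fixed. -/
theorem adjust {Q : Subgroup G} {z : G} (h : LHyp Q z) {w u q : G} (hw : w ∈ Q) (hq : q ∈ Q)
    (e : q * u * q⁻¹ = z * u) :
    q * w = w * q ∨ q * (w * u) = w * u * q := by
  by_cases hc : q * w = w * q
  · exact Or.inl hc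
  · refine Or.inr (mul_inv_eq_iff_eq_mul.mp ?_)
    have e2 := (h.not_comm_iff hw hq).mp hc
    calc q * (w * u) * q⁻¹ = (q * w * q⁻¹) * (q * u * q⁻¹) := by group
      _ = z * w * (z * u) := by rw [e2, e]
      _ = z * (w * z) * u := by group
      _ = w * u := by rw [h.comm w hw, h.z_mul_z_mul]

/-- An element of `Q` centralising all that fixes `s` and `x` lies in `⟨z, s, x⟩`. -/
theorem mem_of_cent {Q : Subgroup G} {z s x : G} (h : LHyp Q z) (hs : s ∈ Q) (hx : x ∈ Q)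
    (hsx : s * x = x * s) (h1 : s ≠ 1) (h2 : s ≠ z) (h3 : s ≠ x⁻¹) (h4 : s ≠ z * x⁻¹)
    (k1 : x ≠ 1) (k2 : x ≠ z) (k3 : x ≠ s⁻¹) (k4 : x ≠ z * s⁻¹) {w : G} (hw : w ∈ Q)
    (hc : ∀ q ∈ Q, q * s = s * q → q * x = x * q → q * w = w * q) (N : Subgroup G)
    (zN : z ∈ N) (sN : s ∈ N) (xN : x ∈ N) : w ∈ N := by
  obtain ⟨a, ha, ea, hax⟩ := two_fn h hs hx h1 h2 h3 h4
  obtain ⟨b, hb, eb, hbs⟩ := two_fn h hx hs k1 k2 k3 k4
  -- fix by `a`
  obtain ⟨w₁, hw₁, haw, hN₁, hc₁⟩ : ∃ w₁ ∈ Q, a * w₁ = w₁ * a ∧ (w₁ ∈ N → w ∈ N) ∧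
      ∀ q ∈ Q, q * s = s * q → q * x = x * q → q * w₁ = w₁ * q := by
    rcases adjust h hw ha ea with e | e
    · exact ⟨w, hw, e, id, hc⟩
    · exact ⟨w * s, Q.mul_mem hw hs, e, fun hm => (N.mul_mem_cancel_right sN).mp hm,
        fun q hq e1 e2 => ((show Commute q w from hc q hq e1 e2).mul_right e1).eq⟩
  obtain ⟨w₂, hw₂, haw₂, hbw₂, hN₂, hc₂⟩ : ∃ w₂ ∈ Q, a * w₂ = w₂ * a ∧ b * w₂ = w₂ * b ∧
      (w₂ ∈ N → w ∈ N) ∧ ∀ q ∈ Q, q * s = s * q → q * x = x * q → q * w₂ = w₂ * q := by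
    rcases adjust h hw₁ hb eb with e | e
    · exact ⟨w₁, hw₁, haw, e, hN₁, hc₁⟩
    · exact ⟨w₁ * x, Q.mul_mem hw₁ hx, ((show Commute a w₁ from haw).mul_right hax).eq, e,
        fun hm => hN₁ ((N.mul_mem_cancel_right xN).mp hm),
        fun q hq e1 e2 => ((show Commute q w₁ from hc₁ q hq e1 e2).mul_right e2).eq⟩
  have hall : ∀ q ∈ Q, Commute q w₂ := by
    intro q hq
    have step : ∀ q ∈ Q, q * s = s * q → Commute q w₂ := by
      intro q hq hqs
      by_cases hqx : q * x = x * q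
      · exact hc₂ q hq hqs hqx
      · have e := mul_inv_eq_iff_eq_mul.mp (h.mul_fix hb eb ((h.not_comm_iff hx hq).mp hqx))
        have h2 : Commute (b * q) w₂ :=
          hc₂ _ (Q.mul_mem hb hq) ((show Commute b s from hbs).mul_left hqs).eq e
        have h3 := ((show Commute b w₂ from hbw₂).inv_left).mul_left h2
        rwa [inv_mul_cancel_left] at h3
    by_cases hqs : q * s = s * q
    · exact step q hq hqs
    · have e := mul_inv_eq_iff_eq_mul.mp (h.mul_fix ha ea ((h.not_comm_iff hs hq).mp hqs))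
      have h3 := ((show Commute a w₂ from haw₂).inv_left).mul_left (step _ (Q.mul_mem ha hq) e)
      rwa [inv_mul_cancel_left] at h3
  refine hN₂ ?_
  rcases h.toExt.central hw₂ fun q hq => (hall q hq).eq with e | e <;> rw [e]
  exacts [one_mem _, zN]

/-- Half of a subgroup fixes `u`. -/
theorem card_half {Q : Subgroup G} {z : G} (h : Ext Q z) {H : Subgroup G} (hH : H ≤ Q) {u : G}
    (hu : u ∈ Q) {q : G} (hq : q ∈ H) (e : q * u * q⁻¹ = z * u) :
    Nat.card H = 2 * Nat.card ↥(H ⊓ centralizer ({u} : Set G)) := by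
  have hi : ((centralizer ({u} : Set G)).subgroupOf H).index = 2 := by
    rw [index_eq_two_iff]
    refine ⟨⟨q, hq⟩, fun b => ?_⟩
    simp only [mem_subgroupOf, coe_mul, mem_centralizer_singleton_iff]
    have hqu : ¬ q * u = u * q := fun e' => h.z_mul_ne u (by rw [← e, e', mul_inv_cancel_right])
    by_cases hb : (b : G) * u = u * b
    · refine Or.inr ⟨hb, fun hbq => hqu ?_⟩
      have h3 := ((show Commute (b : G) u from hb).inv_left).mul_left hbq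
      rwa [inv_mul_cancel_left] at h3
    · exact Or.inl ⟨mul_inv_eq_iff_eq_mul.mp
        (h.mul_fix (hH b.2) ((h.not_comm_iff hu (hH b.2)).mp hb) e), hb⟩
  rw [← ((centralizer ({u} : Set G)).subgroupOf H).card_mul_index, hi, mul_comm,
    ← inf_subgroupOf_left, Nat.card_congr (subgroupOfEquivOfLe inf_le_left).toEquiv]

theorem comm_eq_sq_mul {P : Type*} [Group P] (a b : P) :
    a * b * a⁻¹ * b⁻¹ = a * a * (a⁻¹ * b * (a⁻¹ * b)) * (b⁻¹ * b⁻¹) := by group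

theorem commutator_le_frattini {P : Type*} [Group P] [Finite P] (h : IsPGroup 2 P) :
    _root_.commutator P ≤ frattini P := by
  rw [_root_.commutator_def, Subgroup.commutator_le]
  intro a _ b _
  rw [commutatorElement_def, comm_eq_sq_mul]
  exact mul_mem (mul_mem (sq_mem_frattini h a) (sq_mem_frattini h _)) (sq_mem_frattini h _)

/-- A normal subgroup of order a power of two of a simple group of order 360 is trivial. -/
theorem bot_of_two_group {A : Type*} [Group A] [Finite A] [IsSimpleGroup A]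
    (hA : Nat.card A = 360) (N : Subgroup A) [N.Normal] (hN : IsPGroup 2 N) : N = ⊥ := by
  rcases (‹N.Normal›).eq_bot_or_eq_top with e | e
  · exact e
  · exfalso
    haveI : Fact (Nat.Prime 2) := ⟨Nat.prime_two⟩
    obtain ⟨k, hk⟩ := IsPGroup.iff_card.mp hN
    rw [e, card_top, hA] at hk
    have h5 : 5 ∣ 2 ^ k := ⟨72, by omega⟩
    have := (show Nat.Prime 5 by norm_num).dvd_of_dvd_pow h5
    omega

/-! ### The configuration -/

/-- Three large extraspecial conjugates whose centres lie in one another. -/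
structure Tri (Q Qs Qx : Subgroup G) (z s x : G) : Prop where
  pair : Pair Q Qs z s
  hx : LHyp Qx x
  xQ : x ∈ Q
  xQs : x ∈ Qs
  zQx : z ∈ Qx
  sQx : s ∈ Qx
  x_ne_z : x ≠ z
  x_ne_s : x ≠ s
  x_ne_zs : x ≠ z * s
  cardQ : Nat.card Q = 2 ^ 13
  cardQs : Nat.card Qs = 2 ^ 13
  cardE : Nat.card ↥(Q ⊓ Qs) = 2 ^ 7
  cQ : ∀ g, g * z * g⁻¹ = s → ∀ q ∈ Q, g * q * g⁻¹ ∈ Qs
  cQs : ∀ g, g * s * g⁻¹ = x → ∀ q ∈ Qs, g * q * g⁻¹ ∈ Qx
  cQx : ∀ g, g * x * g⁻¹ = s → ∀ q ∈ Qx, g * q * g⁻¹ ∈ Qs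
  selfperp : ∀ y ∈ Q, (∀ d ∈ Q ⊓ Qs, y * d = d * y) → y ∈ Q ⊓ Qs
  move : ∀ g : G, g * z = z * g → g * s = s * g →
    g * x * g⁻¹ = x ∨ g * x * g⁻¹ = z * x ∨ g * x * g⁻¹ = s * x ∨ g * x * g⁻¹ = z * s * x

/-- The vectors. -/
abbrev W : Type := Fin 3 → ZMod 2

namespace Tri

variable {Q Qs Qx : Subgroup G} {z s x : G} (T : Tri Q Qs Qx z s x)
include T

theorem h : LHyp Q z := T.pair.h
theorem hs : LHyp Qs s := T.pair.h'
theorem sQ : s ∈ Q := T.pair.z'Q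
theorem zQs : z ∈ Qs := T.pair.zQ'
theorem s_ne_z : s ≠ z := T.pair.ne
theorem z_inv : z⁻¹ = z := T.h.toExt.inv_z
theorem s_inv : s⁻¹ = s := T.hs.toExt.inv_z
theorem x_inv : x⁻¹ = x := T.hx.toExt.inv_z
theorem zs : Commute z s := T.pair.hzz'
theorem zx : Commute z x := (T.h.comm x T.xQ).symm
theorem sx : Commute s x := (T.hs.comm x T.xQs).symm

theorem z_ne_sx : z ≠ s * x := fun e => T.x_ne_zs (by
  rw [T.zs.eq, e, ← mul_assoc, T.hs.zz, one_mul])

theorem s_ne_zx : s ≠ z * x := fun e => T.x_ne_zs (by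
  rw [e, ← mul_assoc, T.h.zz, one_mul])

theorem mem_E_x : x ∈ Q ⊓ Qs := ⟨T.xQ, T.xQs⟩

/-- The map onto the group of order eight. -/
def ι (_T : Tri Q Qs Qx z s x) : Multiplicative W → G := fun v =>
  z ^ (Multiplicative.toAdd v 0).val * s ^ (Multiplicative.toAdd v 1).val *
    x ^ (Multiplicative.toAdd v 2).val

omit T in
theorem pow_add_val {a : G} (ha : a * a = 1) (i j : ZMod 2) :
    a ^ (i + j).val = a ^ i.val * a ^ j.val := by
  rw [← pow_add, ZMod.val_add]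
  exact (pow_eq_pow_mod _ (by rw [pow_two, ha])).symm

theorem ι_mul (u v : Multiplicative W) : T.ι (u * v) = T.ι u * T.ι v := by
  simp only [ι, toAdd_mul, Pi.add_apply, pow_add_val T.h.zz, pow_add_val T.hs.zz,
    pow_add_val T.hx.zz]
  have hb := T.zs.pow_pow (Multiplicative.toAdd v 0).val (Multiplicative.toAdd u 1).val
  have hc := T.zx.pow_pow (Multiplicative.toAdd v 0).val (Multiplicative.toAdd u 2).val
  have hd := T.sx.pow_pow (Multiplicative.toAdd v 1).val (Multiplicative.toAdd u 2).val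
  generalize z ^ (Multiplicative.toAdd u 0).val = a, z ^ (Multiplicative.toAdd v 0).val = a',
    s ^ (Multiplicative.toAdd u 1).val = b, s ^ (Multiplicative.toAdd v 1).val = b',
    x ^ (Multiplicative.toAdd u 2).val = c, x ^ (Multiplicative.toAdd v 2).val = c' at hb hc hd ⊢
  calc a * a' * (b * b') * (c * c') = a * (a' * b) * (b' * c) * c' := by group
    _ = a * (b * a') * (c * b') * c' := by rw [hb.eq, hd.eq]
    _ = a * b * (a' * c) * b' * c' := by group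
    _ = a * b * (c * a') * b' * c' := by rw [hc.eq]
    _ = _ := by group

/-- The embedding of the vectors. -/
def ιh : Multiplicative W →* G := MonoidHom.mk' T.ι T.ι_mul

theorem ι_inj : Function.Injective T.ιh := by
  rw [injective_iff_map_eq_one]
  intro v hv
  change z ^ (Multiplicative.toAdd v 0).val * s ^ (Multiplicative.toAdd v 1).val *
    x ^ (Multiplicative.toAdd v 2).val = 1 at hv
  have hcase : ∀ i : ZMod 2, i = 0 ∨ i = 1 := by decide
  suffices h0 : Multiplicative.toAdd v = 0 by exact toAdd_eq_zero.mp h0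
  have key : Multiplicative.toAdd v 0 = 0 ∧ Multiplicative.toAdd v 1 = 0 ∧
      Multiplicative.toAdd v 2 = 0 := by
    rcases hcase (Multiplicative.toAdd v 0) with e0 | e0 <;>
      rcases hcase (Multiplicative.toAdd v 1) with e1 | e1 <;>
      rcases hcase (Multiplicative.toAdd v 2) with e2 | e2 <;>
      rw [e0, e1, e2] at hv ⊢ <;>
      simp only [ZMod.val_zero, ZMod.val_one, pow_zero, pow_one, one_mul, mul_one] at hv
    · exact ⟨rfl, rfl, rfl⟩
    · exact absurd hv T.hx.ne_one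
    · exact absurd hv T.hs.ne_one
    · exact absurd (by rw [eq_inv_of_mul_eq_one_right hv, T.s_inv]) T.x_ne_s
    · exact absurd hv T.h.ne_one
    · exact absurd (by rw [eq_inv_of_mul_eq_one_right hv, T.z_inv]) T.x_ne_z
    · exact absurd (by rw [eq_inv_of_mul_eq_one_right hv, T.z_inv]) T.s_ne_z
    · exact absurd (by rw [eq_inv_of_mul_eq_one_right hv, mul_inv_rev, T.z_inv, T.s_inv, T.zs.eq])
        T.x_ne_zs
  funext i
  fin_cases i <;> simp [key.1, key.2.1, key.2.2]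

/-- The group of order eight. -/
def V : Subgroup G := T.ιh.range

/-- Its normaliser. -/
def L : Subgroup G := normalizer (T.V : Set G)

theorem card_V : Nat.card T.V = 8 := by
  unfold V
  rw [← Nat.card_congr (MonoidHom.ofInjective T.ι_inj).toEquiv, Nat.card_congr Multiplicative.toAdd,
    Nat.card_fun, Nat.card_fin, Nat.card_zmod]
  rfl

/-- The basis. -/
def e (_T : Tri Q Qs Qx z s x) (i : Fin 3) : Multiplicative W :=
  Multiplicative.ofAdd (Pi.single i 1)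

theorem ι_e : T.ιh (T.e 0) = z ∧ T.ιh (T.e 1) = s ∧ T.ιh (T.e 2) = x := by
  refine ⟨?_, ?_, ?_⟩ <;>
    simp [ιh, ι, e, ZMod.val_one]

theorem z_V : z ∈ T.V := ⟨_, T.ι_e.1⟩
theorem s_V : s ∈ T.V := ⟨_, T.ι_e.2.1⟩
theorem x_V : x ∈ T.V := ⟨_, T.ι_e.2.2⟩

theorem V_le {N : Subgroup G} (h1 : z ∈ N) (h2 : s ∈ N) (h3 : x ∈ N) : T.V ≤ N := by
  rintro _ ⟨v, rfl⟩
  exact mul_mem (mul_mem (pow_mem h1 _) (pow_mem h2 _)) (pow_mem h3 _)

theorem mem_L {g : G} (h1 : g * z * g⁻¹ ∈ T.V) (h2 : g * s * g⁻¹ ∈ T.V)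
    (h3 : g * x * g⁻¹ ∈ T.V) : g ∈ T.L := by
  refine mem_normalizer_fintype fun v hv => ?_
  exact T.V_le (N := T.V.comap (MulAut.conj g).toMonoidHom) h1 h2 h3 hv

theorem Q_le_L : Q ≤ T.L := fun q hq => by
  refine mem_normalizer_fintype fun v hv => ?_
  rcases T.h.conj q hq v (T.V_le T.h.mem T.sQ T.xQ hv) with e | e <;> rw [e]
  exacts [hv, mul_mem T.z_V hv]

theorem Qs_le_L : Qs ≤ T.L := fun q hq => by
  refine mem_normalizer_fintype fun v hv => ?_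
  rcases T.hs.conj q hq v (T.V_le T.zQs T.hs.mem T.xQs hv) with e | e <;> rw [e]
  exacts [hv, mul_mem T.s_V hv]

theorem Qx_le_L : Qx ≤ T.L := fun q hq => by
  refine mem_normalizer_fintype fun v hv => ?_
  rcases T.hx.conj q hq v (T.V_le T.zQx T.sQx T.hx.mem hv) with e | e <;> rw [e]
  exacts [hv, mul_mem T.x_V hv]

/-- The permutation of the vectors. -/
noncomputable def cf (g : G) (v : Multiplicative W) : Multiplicative W :=
  Function.invFun T.ιh (g * T.ιh v * g⁻¹)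

theorem ι_cf {g : G} (hg : g ∈ T.L) (v : Multiplicative W) :
    T.ιh (T.cf g v) = g * T.ιh v * g⁻¹ :=
  Function.invFun_eq ((mem_normalizer_iff.mp hg _).mp ⟨v, rfl⟩)

/-- The linear action. -/
noncomputable def lf (g : ↥T.L) : W →ₗ[ZMod 2] W :=
  AddMonoidHom.toZModLinearMap 2 (AddMonoidHom.mk'
    (fun v => Multiplicative.toAdd (T.cf (g : G) (Multiplicative.ofAdd v))) fun u v => by
    rw [← toAdd_mul]
    refine congrArg Multiplicative.toAdd (T.ι_inj ?_)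
    rw [map_mul, T.ι_cf g.2, T.ι_cf g.2, T.ι_cf g.2, ofAdd_add, map_mul]
    group)

theorem ι_lf (g : ↥T.L) (v : W) :
    T.ιh (Multiplicative.ofAdd (T.lf g v)) =
      (g : G) * T.ιh (Multiplicative.ofAdd v) * (g : G)⁻¹ :=
  T.ι_cf g.2 _

theorem lf_one : T.lf 1 = LinearMap.id := LinearMap.ext fun v =>
  Multiplicative.ofAdd.injective (T.ι_inj (by rw [T.ι_lf]; simp))

theorem lf_mul (g g' : ↥T.L) : T.lf (g * g') = (T.lf g).comp (T.lf g') := LinearMap.ext fun v =>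
  Multiplicative.ofAdd.injective (T.ι_inj (by
    rw [T.ι_lf, LinearMap.comp_apply, T.ι_lf, T.ι_lf, coe_mul]; group))

/-- The action on the group of order eight. -/
noncomputable def φ : ↥T.L →* Matrix.SpecialLinearGroup (Fin 3) (ZMod 2) :=
  MonoidHom.mk' (fun g => ⟨LinearMap.toMatrix' (T.lf g), by
    have h1 : (LinearMap.toMatrix' (T.lf g)).det * (LinearMap.toMatrix' (T.lf g⁻¹)).det = 1 := by
      rw [← Matrix.det_mul, ← LinearMap.toMatrix'_comp, ← T.lf_mul, mul_inv_cancel, T.lf_one,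
        LinearMap.toMatrix'_id, Matrix.det_one]
    have hcase : ∀ a : ZMod 2, a = 1 ∨ a = 0 := by decide
    refine (hcase _).resolve_right fun h0 => ?_
    rw [h0, zero_mul] at h1
    exact zero_ne_one h1⟩) fun g g' => Subtype.ext (by
      show LinearMap.toMatrix' (T.lf (g * g')) = _
      rw [T.lf_mul, LinearMap.toMatrix'_comp]; rfl)

theorem lf_eq_of_φ {g g' : ↥T.L} (h : T.φ g = T.φ g') : T.lf g = T.lf g' :=
  LinearMap.toMatrix'.injective (congrArg Subtype.val h)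

theorem φ_eq_one {g : ↥T.L} :
    T.φ g = 1 ↔ (g : G) * z = z * g ∧ (g : G) * s = s * g ∧ (g : G) * x = x * g := by
  constructor
  · intro h
    have hl : ∀ v, (g : G) * T.ιh v * (g : G)⁻¹ = T.ιh v := fun v => by
      have e := T.ι_lf g (Multiplicative.toAdd v)
      rw [T.lf_eq_of_φ (h.trans (map_one T.φ).symm), T.lf_one] at e
      simpa using e.symm
    obtain ⟨e0, e1, e2⟩ := T.ι_e
    have k0 := hl (T.e 0); have k1 := hl (T.e 1); have k2 := hl (T.e 2)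
    rw [e0] at k0; rw [e1] at k1; rw [e2] at k2
    exact ⟨mul_inv_eq_iff_eq_mul.mp k0, mul_inv_eq_iff_eq_mul.mp k1, mul_inv_eq_iff_eq_mul.mp k2⟩
  · rintro ⟨h1, h2, h3⟩
    have hV : T.V ≤ centralizer ({(g : G)} : Set G) := T.V_le
      (mem_centralizer_singleton_iff.mpr h1.symm) (mem_centralizer_singleton_iff.mpr h2.symm)
      (mem_centralizer_singleton_iff.mpr h3.symm)
    have : T.lf g = LinearMap.id := LinearMap.ext fun v =>
      Multiplicative.ofAdd.injective (T.ι_inj (by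
        rw [T.ι_lf, LinearMap.id_apply]
        exact mul_inv_eq_iff_eq_mul.mpr
          (mem_centralizer_singleton_iff.mp (hV ⟨_, rfl⟩)).symm))
    exact Subtype.ext (by show LinearMap.toMatrix' (T.lf g) = 1; rw [this, LinearMap.toMatrix'_id])

omit T in
theorem transv_entry (i j a b : Fin 3) (hij : i ≠ j) :
    (if b = j then (Pi.single i 1 + Pi.single j 1 : W) else Pi.single b 1) a =
      Matrix.transvection i j (1 : ZMod 2) a b := by
  simp only [Matrix.transvection, Matrix.add_apply, Matrix.one_apply, Matrix.single_apply]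
  fin_cases i <;> fin_cases j <;> fin_cases a <;> fin_cases b <;> simp_all

theorem transv_mem {K : Subgroup G} (hQ : Q ≤ K) (hQs : Qs ≤ K) (hQx : Qx ≤ K)
    (i j : Fin 3) (hij : i ≠ j) :
    ∃ g : ↥T.L, (g : G) ∈ K ∧ T.φ g = Matrix.SpecialLinearGroup.transvection hij 1 := by
  obtain ⟨e0, e1, e2⟩ := T.ι_e
  obtain ⟨a1, m1, c1, d1⟩ := two_fn T.h T.sQ T.xQ T.hs.ne_one T.s_ne_z
    (by rw [T.x_inv]; exact T.x_ne_s.symm) (by rw [T.x_inv]; exact T.s_ne_zx)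
  obtain ⟨a2, m2, c2, d2⟩ := two_fn T.h T.xQ T.sQ T.hx.ne_one T.x_ne_z
    (by rw [T.s_inv]; exact T.x_ne_s) (by rw [T.s_inv]; exact T.x_ne_zs)
  obtain ⟨b1, n1, f1, g1⟩ := two_fn T.hs T.zQs T.xQs T.h.ne_one T.s_ne_z.symm
    (by rw [T.x_inv]; exact T.x_ne_z.symm) (by rw [T.x_inv]; exact T.z_ne_sx)
  obtain ⟨b2, n2, f2, g2⟩ := two_fn T.hs T.xQs T.zQs T.hx.ne_one T.x_ne_s
    (by rw [T.z_inv]; exact T.x_ne_z) (by rw [T.z_inv, ← T.zs.eq]; exact T.x_ne_zs)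
  obtain ⟨c3, o1, p1, r1⟩ := two_fn T.hx T.zQx T.sQx T.h.ne_one T.x_ne_z.symm
    (by rw [T.s_inv]; exact T.s_ne_z.symm) (by rw [T.s_inv, ← T.sx.eq]; exact T.z_ne_sx)
  obtain ⟨c4, o2, p2, r2⟩ := two_fn T.hx T.sQx T.zQx T.hs.ne_one T.x_ne_s.symm
    (by rw [T.z_inv]; exact T.s_ne_z) (by rw [T.z_inv, ← T.zx.eq]; exact T.s_ne_zx)
  suffices key : ∃ g : ↥T.L, (g : G) ∈ K ∧ ∀ k : Fin 3,
      (g : G) * T.ιh (T.e k) * (g : G)⁻¹ =
        if k = j then T.ιh (T.e i) * T.ιh (T.e j) else T.ιh (T.e k) by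
    obtain ⟨g, hg, hk⟩ := key
    refine ⟨g, hg, Subtype.ext (Matrix.ext fun a b => ?_)⟩
    show LinearMap.toMatrix' (T.lf g) a b =
      (Matrix.SpecialLinearGroup.transvection hij (1 : ZMod 2)).1 a b
    rw [LinearMap.toMatrix'_apply]
    have e' : T.lf g (Pi.single b 1) =
        if b = j then Pi.single i 1 + Pi.single j 1 else Pi.single b 1 := by
      refine Multiplicative.ofAdd.injective (T.ι_inj ?_)
      rw [T.ι_lf]
      refine (hk b).trans ?_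
      split
      · rw [ofAdd_add, map_mul]; rfl
      · rfl
    rw [e']
    exact transv_entry i j a b hij
  have hq : ∀ {q : G}, q ∈ K → q ∈ T.L → ∀ (hz' : q * z * q⁻¹ = if (0 : Fin 3) = j then
        T.ιh (T.e i) * T.ιh (T.e j) else z) (hs' : q * s * q⁻¹ = if (1 : Fin 3) = j then
        T.ιh (T.e i) * T.ιh (T.e j) else s) (hx' : q * x * q⁻¹ = if (2 : Fin 3) = j then
        T.ιh (T.e i) * T.ιh (T.e j) else x), ∃ g : ↥T.L, (g : G) ∈ K ∧ ∀ k : Fin 3,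
      (g : G) * T.ιh (T.e k) * (g : G)⁻¹ =
        if k = j then T.ιh (T.e i) * T.ιh (T.e j) else T.ιh (T.e k) := by
    intro q hqK hqL hz' hs' hx'
    refine ⟨⟨q, hqL⟩, hqK, fun k => ?_⟩
    fin_cases k
    · simpa [e0] using hz'
    · simpa [e1] using hs'
    · simpa [e2] using hx'
  have fz : ∀ {q : G}, q ∈ Q → q * z * q⁻¹ = z := fun hq =>
    mul_inv_eq_iff_eq_mul.mpr (T.h.comm _ hq)
  have fs : ∀ {q : G}, q ∈ Qs → q * s * q⁻¹ = s := fun hq =>
    mul_inv_eq_iff_eq_mul.mpr (T.hs.comm _ hq)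
  have fx : ∀ {q : G}, q ∈ Qx → q * x * q⁻¹ = x := fun hq =>
    mul_inv_eq_iff_eq_mul.mpr (T.hx.comm _ hq)
  have fc : ∀ {q u : G}, q * u = u * q → q * u * q⁻¹ = u := fun h => mul_inv_eq_iff_eq_mul.mpr h
  fin_cases i <;> fin_cases j
  · exact absurd rfl hij
  · exact hq (hQ m1) (T.Q_le_L m1) (by simp [fz m1]) (by simpa [e0, e1] using c1)
      (by simp [fc d1])
  · exact hq (hQ m2) (T.Q_le_L m2) (by simp [fz m2]) (by simp [fc d2])
      (by simpa [e0, e2] using c2)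
  · exact hq (hQs n1) (T.Qs_le_L n1) (by simpa [e0, e1] using f1) (by simp [fs n1])
      (by simp [fc g1])
  · exact absurd rfl hij
  · exact hq (hQs n2) (T.Qs_le_L n2) (by simp [fc g2]) (by simp [fs n2])
      (by simpa [e1, e2] using f2)
  · exact hq (hQx o1) (T.Qx_le_L o1) (by simpa [e0, e2] using p1) (by simp [fc r1])
      (by simp [fx o1])
  · exact hq (hQx o2) (T.Qx_le_L o2) (by simp [fc r2]) (by simpa [e1, e2] using p2)
      (by simp [fx o2])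
  · exact absurd rfl hij

theorem map_φ_eq_top {K : Subgroup G} (hQ : Q ≤ K) (hQs : Qs ≤ K) (hQx : Qx ≤ K) :
    (K.subgroupOf T.L).map T.φ = ⊤ := by
  refine PSLSimple.eq_top_of_transvection_mem _ fun i j hij c => ?_
  have hcase : c = 0 ∨ c = 1 := by revert c; decide
  rcases hcase with rfl | rfl
  · rw [show Matrix.SpecialLinearGroup.transvection hij (0 : ZMod 2) = 1 from
      Subtype.ext (Matrix.transvection_zero i j)]
    exact one_mem _
  · obtain ⟨g, hg, e⟩ := T.transv_mem hQ hQs hQx i j hij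
    exact ⟨g, hg, e⟩

theorem φ_surj : Function.Surjective T.φ := fun M => by
  obtain ⟨g, -, e⟩ := (T.map_φ_eq_top (K := ⊤) le_top le_top le_top).ge (mem_top M)
  exact ⟨g, e⟩

/-- A cyclic shift. -/
theorem exists_cycle : ∃ g : ↥T.L, (g : G) * z * (g : G)⁻¹ = s ∧ (g : G) * s * (g : G)⁻¹ = x ∧
    (g : G) * x * (g : G)⁻¹ = z := by
  obtain ⟨g, hg⟩ := T.φ_surj ⟨!![0, 0, 1; 1, 0, 0; 0, 1, 0], by rw [Matrix.det_fin_three]; simp⟩
  have key : ∀ a b : Fin 3, T.lf g (Pi.single b 1) a =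
      (!![0, 0, 1; 1, 0, 0; 0, 1, 0] : Matrix (Fin 3) (Fin 3) (ZMod 2)) a b := fun a b => by
    rw [← LinearMap.toMatrix'_apply]
    exact congrArg (fun M : Matrix.SpecialLinearGroup (Fin 3) (ZMod 2) => M.1 a b) hg
  obtain ⟨e0, e1, e2⟩ := T.ι_e
  have k : ∀ b c : Fin 3, (∀ a, (!![0, 0, 1; 1, 0, 0; 0, 1, 0] : Matrix (Fin 3) (Fin 3) (ZMod 2))
      a b = (Pi.single c 1 : W) a) →
      (g : G) * T.ιh (T.e b) * (g : G)⁻¹ = T.ιh (T.e c) := fun b c h => by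
    rw [Tri.e, ← T.ι_lf]
    exact congrArg _ (congrArg _ (funext fun a => (key a b).trans (h a)))
  have k0 := k 0 1 (by decide)
  have k1 := k 1 2 (by decide)
  have k2 := k 2 0 (by decide)
  rw [e0, e1] at k0; rw [e1, e2] at k1; rw [e0, e2] at k2
  exact ⟨g, k0, k1, k2⟩

/-! ### The centraliser of the group of order eight -/

/-- The centraliser. -/
def CV (_T : Tri Q Qs Qx z s x) : Subgroup G :=
  centralizer ({z} : Set G) ⊓ centralizer ({s} : Set G) ⊓ centralizer ({x} : Set G)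

theorem mem_CV {g : G} : g ∈ T.CV ↔ g * z = z * g ∧ g * s = s * g ∧ g * x = x * g := by
  simp only [CV, mem_inf, mem_centralizer_singleton_iff, and_assoc]

theorem CV_le_L : T.CV ≤ T.L := fun g hg => by
  obtain ⟨h1, h2, h3⟩ := T.mem_CV.mp hg
  refine T.mem_L ?_ ?_ ?_
  · rw [h1, mul_inv_cancel_right]; exact T.z_V
  · rw [h2, mul_inv_cancel_right]; exact T.s_V
  · rw [h3, mul_inv_cancel_right]; exact T.x_V

theorem CV_iff {g : ↥T.L} : (g : G) ∈ T.CV ↔ T.φ g = 1 := T.mem_CV.trans T.φ_eq_one.symm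

theorem CV_normal {g c : G} (hg : g ∈ T.L) (hc : c ∈ T.CV) : g * c * g⁻¹ ∈ T.CV := by
  refine (T.CV_iff (g := ⟨g, hg⟩ * ⟨c, T.CV_le_L hc⟩ * ⟨g, hg⟩⁻¹)).mpr ?_
  rw [map_mul, map_mul, map_inv, (T.CV_iff (g := ⟨c, T.CV_le_L hc⟩)).mp hc, mul_one,
    mul_inv_cancel]

/-- The part in `Q`. -/
def Rz : Subgroup G := T.pair.C ⊓ centralizer ({x} : Set G)

/-- The part in `Qs`. -/
def Rs : Subgroup G := T.pair.C' ⊓ centralizer ({x} : Set G)

theorem mem_Rz {g : G} : g ∈ T.Rz ↔ g ∈ Q ∧ g * s = s * g ∧ g * x = x * g := by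
  rw [Rz, mem_inf, T.pair.mem_C, mem_centralizer_singleton_iff, and_assoc]

theorem mem_Rs {g : G} : g ∈ T.Rs ↔ g ∈ Qs ∧ g * z = z * g ∧ g * x = x * g := by
  rw [Rs, mem_inf, T.pair.mem_C', mem_centralizer_singleton_iff, and_assoc]

theorem Rz_le : T.Rz ≤ T.CV := fun g hg => by
  obtain ⟨h1, h2, h3⟩ := T.mem_Rz.mp hg
  exact T.mem_CV.mpr ⟨T.h.comm g h1, h2, h3⟩

theorem Rs_le : T.Rs ≤ T.CV := fun g hg => by
  obtain ⟨h1, h2, h3⟩ := T.mem_Rs.mp hg
  exact T.mem_CV.mpr ⟨h2, T.hs.comm g h1, h3⟩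

theorem card_Rz : Nat.card T.Rz = 2 ^ 11 := by
  obtain ⟨a, ha, ea⟩ := T.h.partner s T.sQ T.hs.ne_one T.s_ne_z
  have h1 := card_half T.h.toExt le_rfl T.sQ ha ea
  obtain ⟨b, hb, eb, hbs⟩ := two_fn T.h T.xQ T.sQ T.hx.ne_one T.x_ne_z
    (by rw [T.s_inv]; exact T.x_ne_s) (by rw [T.s_inv]; exact T.x_ne_zs)
  have h2 := card_half T.h.toExt (H := T.pair.C) inf_le_left T.xQ (T.pair.mem_C.mpr ⟨hb, hbs⟩) eb
  rw [T.cardQ] at h1
  change 2 ^ 13 = 2 * Nat.card T.pair.C at h1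
  change Nat.card T.pair.C = 2 * Nat.card T.Rz at h2
  omega

theorem card_Rs : Nat.card T.Rs = 2 ^ 11 := by
  obtain ⟨a, ha, ea⟩ := T.hs.partner z T.zQs T.h.ne_one T.s_ne_z.symm
  have h1 := card_half T.hs.toExt le_rfl T.zQs ha ea
  obtain ⟨b, hb, eb, hbs⟩ := two_fn T.hs T.xQs T.zQs T.hx.ne_one T.x_ne_s
    (by rw [T.z_inv]; exact T.x_ne_z) (by rw [T.z_inv, ← T.zs.eq]; exact T.x_ne_zs)
  have h2 := card_half T.hs.toExt (H := T.pair.C') inf_le_left T.xQs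
    (T.pair.mem_C'.mpr ⟨hb, hbs⟩) eb
  rw [T.cardQs] at h1
  change 2 ^ 13 = 2 * Nat.card T.pair.C' at h1
  change Nat.card T.pair.C' = 2 * Nat.card T.Rs at h2
  omega

theorem E_le : Q ⊓ Qs ≤ T.Rz ∧ Q ⊓ Qs ≤ T.Rs := by
  have hx : ∀ d ∈ Q ⊓ Qs, d * x = x * d := fun d hd => T.pair.E_comm hd T.mem_E_x
  exact ⟨fun d hd => T.mem_Rz.mpr ⟨hd.1, T.hs.comm d hd.2, hx d hd⟩,
    fun d hd => T.mem_Rs.mpr ⟨hd.2, T.h.comm d hd.1, hx d hd⟩⟩

/-- The kernel. -/
def R : Subgroup G := T.CV ⊓ T.pair.R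

theorem Rz_le_R : T.Rz ≤ T.R := le_inf T.Rz_le (inf_le_left.trans le_sup_right)
theorem Rs_le_R : T.Rs ≤ T.R := le_inf T.Rs_le (inf_le_left.trans le_sup_left)
theorem R_le_CV : T.R ≤ T.CV := inf_le_left

theorem V_le_R : T.V ≤ T.R := by
  refine T.V_le (T.Rz_le_R ?_) (T.Rz_le_R ?_) (T.Rz_le_R ?_) <;> refine T.mem_Rz.mpr ?_
  exacts [⟨T.h.mem, T.zs.eq, T.zx.eq⟩, ⟨T.sQ, rfl, T.sx.eq⟩, ⟨T.xQ, T.sx.eq.symm, rfl⟩]

theorem split_R {r : G} (hr : r ∈ T.R) : ∃ a ∈ T.Rz, ∃ b ∈ T.Rs, r = a * b := by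
  obtain ⟨hCV, hPR⟩ := mem_inf.mp hr
  have hn : T.pair.C ≤ normalizer (T.pair.C' : Set G) := fun c hc =>
    mem_normalizer_fintype fun d hd => (T.pair.C_C' hc hd).1
  have hset : r ∈ (T.pair.C : Set G) * (T.pair.C' : Set G) := by
    rw [← Subgroup.coe_mul_of_left_le_normalizer_right _ _ hn, sup_comm]
    exact hPR
  obtain ⟨a, ha, b, hb, rfl⟩ := Set.mem_mul.mp hset
  obtain ⟨haQ, has⟩ := T.pair.mem_C.mp ha
  obtain ⟨hbQ, hbz⟩ := T.pair.mem_C'.mp hb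
  have hrx : a * b * x * (a * b)⁻¹ = x := mul_inv_eq_iff_eq_mul.mpr (T.mem_CV.mp hCV).2.2
  rw [show a * b * x * (a * b)⁻¹ = a * (b * x * b⁻¹) * a⁻¹ by group] at hrx
  rcases T.hs.conj b hbQ x T.xQs with e | e
  · rw [e] at hrx
    exact ⟨a, T.mem_Rz.mpr ⟨haQ, has, mul_inv_eq_iff_eq_mul.mp hrx⟩, b,
      T.mem_Rs.mpr ⟨hbQ, hbz, mul_inv_eq_iff_eq_mul.mp e⟩, rfl⟩
  · rw [e, show a * (s * x) * a⁻¹ = (a * s) * x * a⁻¹ by group, has,
      show s * a * x * a⁻¹ = s * (a * x * a⁻¹) by group] at hrx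
    rcases T.h.conj a haQ x T.xQ with e' | e' <;> rw [e'] at hrx
    · exact absurd (mul_eq_right.mp hrx) T.hs.ne_one
    · rw [← mul_assoc] at hrx
      have := eq_inv_of_mul_eq_one_right (mul_eq_right.mp hrx)
      rw [T.s_inv] at this
      exact absurd this.symm T.s_ne_z

theorem card_R : Nat.card T.R = 2 ^ 15 := by
  choose a ha b hb hab using fun r : ↥T.R => T.split_R r.2
  let f : ↥T.R × ↥(Q ⊓ Qs) → ↥T.Rz × ↥T.Rs := fun p =>
    (⟨a p.1 * p.2, mul_mem (ha p.1) (T.E_le.1 p.2.2)⟩,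
      ⟨(p.2 : G)⁻¹ * b p.1, mul_mem (inv_mem (T.E_le.2 p.2.2)) (hb p.1)⟩)
  have hf : Function.Bijective f := by
    constructor
    · rintro ⟨r, e⟩ ⟨r', e'⟩ h
      have h1 : a r * e = a r' * e' := congrArg (fun q => (q.1 : G)) h
      have h2 : (e : G)⁻¹ * b r = (e' : G)⁻¹ * b r' := congrArg (fun q => (q.2 : G)) h
      have hr : r = r' := Subtype.ext (by
        rw [hab r, hab r', show a r * b r = a r * e * ((e : G)⁻¹ * b r) by group, h1, h2]
        group)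
      subst hr
      exact Prod.ext rfl (Subtype.ext (mul_left_cancel h1))
    · rintro ⟨⟨c, hc⟩, ⟨d, hd⟩⟩
      let r : ↥T.R := ⟨c * d, mul_mem (T.Rz_le_R hc) (T.Rs_le_R hd)⟩
      have hr : c * d = a r * b r := hab r
      have he : (a r)⁻¹ * c = b r * d⁻¹ := by
        calc (a r)⁻¹ * c = (a r)⁻¹ * (c * d) * d⁻¹ := by group
          _ = b r * d⁻¹ := by rw [hr]; group
      have heE : (a r)⁻¹ * c ∈ Q ⊓ Qs := mem_inf.mpr ⟨Q.mul_mem (Q.inv_mem (T.mem_Rz.mp (ha r)).1)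
        (T.mem_Rz.mp hc).1,
        he ▸ Qs.mul_mem (T.mem_Rs.mp (hb r)).1 (Qs.inv_mem (T.mem_Rs.mp hd).1)⟩
      refine ⟨(r, ⟨_, heE⟩), Prod.ext (Subtype.ext ?_) (Subtype.ext ?_)⟩
      · show a r * ((a r)⁻¹ * c) = c
        group
      · show ((a r)⁻¹ * c)⁻¹ * b r = d
        rw [he]; group
  have h := Nat.card_eq_of_bijective f hf
  rw [Nat.card_prod, Nat.card_prod, T.cardE, T.card_Rz, T.card_Rs] at h
  omega

theorem R_isPGroup : IsPGroup 2 T.R := IsPGroup.of_card T.card_R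

theorem exists_fix {g : G} (h1 : g * z = z * g) (h2 : g * s = s * g) :
    ∃ r ∈ T.pair.R, r * (g * x * g⁻¹) * r⁻¹ = x := by
  obtain ⟨a, ha, ea, has⟩ := two_fn T.h T.xQ T.sQ T.hx.ne_one T.x_ne_z
    (by rw [T.s_inv]; exact T.x_ne_s) (by rw [T.s_inv]; exact T.x_ne_zs)
  obtain ⟨b, hb, eb, hbz⟩ := two_fn T.hs T.xQs T.zQs T.hx.ne_one T.x_ne_s
    (by rw [T.z_inv]; exact T.x_ne_z) (by rw [T.z_inv, ← T.zs.eq]; exact T.x_ne_zs)
  have haR : a ∈ T.pair.R := (le_sup_right : T.pair.C ≤ T.pair.R) (T.pair.mem_C.mpr ⟨ha, has⟩)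
  have hbR : b ∈ T.pair.R := (le_sup_left : T.pair.C' ≤ T.pair.R) (T.pair.mem_C'.mpr ⟨hb, hbz⟩)
  have caz : Commute a z := T.h.comm a ha
  have cbs : Commute b s := T.hs.comm b hb
  have fa : a * (z * x) * a⁻¹ = x := by
    rw [show a * (z * x) * a⁻¹ = (a * z) * x * a⁻¹ by group, caz.eq,
      show z * a * x * a⁻¹ = z * (a * x * a⁻¹) by group, ea, T.h.z_mul_z_mul]
  have fb : b * (s * x) * b⁻¹ = x := by
    rw [show b * (s * x) * b⁻¹ = (b * s) * x * b⁻¹ by group, cbs.eq,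
      show s * b * x * b⁻¹ = s * (b * x * b⁻¹) by group, eb, T.hs.toExt.z_mul_z_mul]
  rcases T.move g h1 h2 with e | e | e | e <;> rw [e]
  · exact ⟨1, one_mem _, by group⟩
  · exact ⟨a, haR, fa⟩
  · exact ⟨b, hbR, fb⟩
  · refine ⟨a * b, mul_mem haR hbR, ?_⟩
    calc a * b * (z * s * x) * (a * b)⁻¹ = a * ((b * z) * (s * x) * b⁻¹) * a⁻¹ := by group
      _ = a * (z * (b * (s * x) * b⁻¹)) * a⁻¹ := by rw [hbz]; group
      _ = x := by rw [fb, fa]

end Tri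

/-! ### The quotient by the kernel -/

section

variable {Q Qs Qx : Subgroup G} {z s x : G} (T : Tri Q Qs Qx z s x)
  (θ : ↥(centralizer ({z} : Set G) ⊓ centralizer ({s} : Set G)) →* alternatingGroup (Fin 6))
  (hθ : Function.Surjective θ) (hker : ∀ g, θ g = 1 ↔ (g : G) ∈ T.pair.R)

/-- The restriction to the centraliser of the group of order eight. -/
noncomputable def θ₂ : ↥T.CV →* alternatingGroup (Fin 6) :=
  θ.comp (Subgroup.inclusion (inf_le_left : T.CV ≤ _))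

include hθ hker

theorem θ₂_eq_one {c : ↥T.CV} : θ₂ T θ c = 1 ↔ (c : G) ∈ T.R := by
  refine (hker _).trans ?_
  show (c : G) ∈ T.pair.R ↔ (c : G) ∈ T.CV ⊓ T.pair.R
  rw [mem_inf, and_iff_right c.2]

theorem θ₂_surj : Function.Surjective (θ₂ T θ) := by
  intro a
  obtain ⟨⟨g, hg⟩, rfl⟩ := hθ a
  have hg' := hg
  rw [mem_inf, mem_centralizer_singleton_iff, mem_centralizer_singleton_iff] at hg'
  obtain ⟨r, hr, e⟩ := T.exists_fix hg'.1 hg'.2
  obtain ⟨r1, r2⟩ := T.pair.R_cent hr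
  have hrg : r * g ∈ T.CV := by
    refine T.mem_CV.mpr ⟨((show Commute r z from r1).mul_left hg'.1).eq,
      ((show Commute r s from r2).mul_left hg'.2).eq, mul_inv_eq_iff_eq_mul.mp ?_⟩
    calc r * g * x * (r * g)⁻¹ = r * (g * x * g⁻¹) * r⁻¹ := by group
      _ = x := e
  refine ⟨⟨r * g, hrg⟩, ?_⟩
  have hr' : r ∈ centralizer ({z} : Set G) ⊓ centralizer ({s} : Set G) := by
    rw [mem_inf, mem_centralizer_singleton_iff, mem_centralizer_singleton_iff]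
    exact ⟨r1, r2⟩
  have e1 : θ₂ T θ ⟨r * g, hrg⟩ = θ (⟨r, hr'⟩ * ⟨g, hg⟩) := congrArg θ (Subtype.ext rfl)
  rw [e1, map_mul, (hker _).mpr hr, one_mul]

theorem R_normal {g r : G} (hg : g ∈ T.L) (hr : r ∈ T.R) : g * r * g⁻¹ ∈ T.R := by
  haveI : IsSimpleGroup ↥(alternatingGroup (Fin 6)) := alternatingGroup.isSimpleGroup (by simp)
  have h360 : Nat.card ↥(alternatingGroup (Fin 6)) = 360 := by
    rw [Nat.card_eq_fintype_card, card_alternatingGroup]; rfl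
  let μ : ↥T.R →* alternatingGroup (Fin 6) := MonoidHom.mk'
    (fun r => θ₂ T θ ⟨g * r * g⁻¹, T.CV_normal hg (T.R_le_CV r.2)⟩) fun a b => by
      rw [← map_mul]
      exact congrArg _ (Subtype.ext (by simp only [coe_mul]; group))
  haveI : μ.range.Normal := ⟨by
    rintro _ ⟨r, rfl⟩ a
    obtain ⟨c, rfl⟩ := θ₂_surj T θ hθ hker a
    have hc' : g⁻¹ * c * g ∈ T.CV := by simpa using T.CV_normal (inv_mem hg) c.2
    have hr' : g⁻¹ * c * g * r * (g⁻¹ * c * g)⁻¹ ∈ T.R := by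
      have h1 : θ₂ T θ (⟨_, hc'⟩ * ⟨r, T.R_le_CV r.2⟩ * ⟨_, hc'⟩⁻¹) = 1 := by
        rw [map_mul, map_mul, map_inv, (θ₂_eq_one T θ hθ hker (c := ⟨r, T.R_le_CV r.2⟩)).mpr r.2,
          mul_one, mul_inv_cancel]
      exact (θ₂_eq_one T θ hθ hker).mp h1
    refine ⟨⟨_, hr'⟩, ?_⟩
    show θ₂ T θ _ = θ₂ T θ c * θ₂ T θ _ * (θ₂ T θ c)⁻¹
    rw [← map_mul, ← map_inv, ← map_mul]
    exact congrArg _ (Subtype.ext (by simp only [coe_mul, coe_inv]; group))⟩
  have hbot : μ.range = ⊥ := bot_of_two_group h360 _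
    (T.R_isPGroup.of_surjective μ.rangeRestrict μ.rangeRestrict_surjective)
  have h1 : μ ⟨r, hr⟩ = 1 := by
    rw [← mem_bot, ← hbot]; exact ⟨_, rfl⟩
  exact (θ₂_eq_one T θ hθ hker).mp h1

/-- The intersection of the two groups of order `2^7` is the group of order eight. -/
theorem E_inter {g : G} (hg : g ∈ T.L) (k0 : g * z * g⁻¹ = s) (k1 : g * s * g⁻¹ = x) {w : G}
    (hw : w ∈ Q) (hws : w ∈ Qs) (hwx : w ∈ Qx) : w ∈ T.V := by
  refine mem_of_cent T.h T.sQ T.xQ T.sx.eq T.hs.ne_one T.s_ne_z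
    (by rw [T.x_inv]; exact T.x_ne_s.symm) (by rw [T.x_inv]; exact T.s_ne_zx) T.hx.ne_one T.x_ne_z
    (by rw [T.s_inv]; exact T.x_ne_s) (by rw [T.s_inv]; exact T.x_ne_zs) hw
    (fun q hq hqs hqx => ?_) _ T.z_V T.s_V T.x_V
  have hqR : g⁻¹ * q * g ∈ T.R := by
    simpa using R_normal T θ hθ hker (inv_mem hg) (T.Rz_le_R (T.mem_Rz.mpr ⟨hq, hqs, hqx⟩))
  obtain ⟨a, ha, b, hb, e⟩ := T.split_R hqR
  obtain ⟨haQ, -, -⟩ := T.mem_Rz.mp ha
  have hbQ : b ∈ Qs := (T.mem_Rs.mp hb).1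
  set a' := g * a * g⁻¹ with ha'
  set b' := g * b * g⁻¹ with hb'
  have ha'Q : a' ∈ Qs := T.cQ g k0 a haQ
  have hb'Q : b' ∈ Qx := T.cQs g k1 b hbQ
  have ha'x : a' * x = x * a' := (T.mem_CV.mp (T.CV_normal hg (T.Rz_le ha))).2.2
  have eq : q = a' * b' := by
    rw [ha', hb', show g * a * g⁻¹ * (g * b * g⁻¹) = g * (a * b) * g⁻¹ by group, ← e]; group
  by_contra hne
  have h1 := (T.h.not_comm_iff hw hq).mp hne
  rw [eq, show a' * b' * w * (a' * b')⁻¹ = a' * (b' * w * b'⁻¹) * a'⁻¹ by group] at h1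
  rcases T.hx.conj b' hb'Q w hwx with e1 | e1 <;> rw [e1] at h1
  · rcases T.hs.conj a' ha'Q w hws with e2 | e2 <;> rw [e2] at h1
    · exact T.h.toExt.z_mul_ne w h1.symm
    · exact T.s_ne_z (mul_right_cancel h1)
  · rw [show a' * (x * w) * a'⁻¹ = (a' * x) * w * a'⁻¹ by group, ha'x,
      show x * a' * w * a'⁻¹ = x * (a' * w * a'⁻¹) by group] at h1
    rcases T.hs.conj a' ha'Q w hws with e2 | e2 <;> rw [e2] at h1
    · exact T.x_ne_z (mul_right_cancel h1)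
    · rw [← mul_assoc] at h1
      exact T.z_ne_sx (by rw [T.sx.eq]; exact (mul_right_cancel h1).symm)

theorem sq_comm_mem {a b : G} (ha : a ∈ T.R) (hb : b ∈ T.R) :
    a * a ∈ T.V ∧ a * b * a⁻¹ * b⁻¹ ∈ T.V := by
  obtain ⟨⟨g, hg⟩, k0, k1, -⟩ := T.exists_cycle
  have cj : ∀ {r}, r ∈ T.R → g⁻¹ * r * g ∈ T.R := fun hr => by
    simpa using R_normal T θ hθ hker (inv_mem hg) hr
  have cm : ∀ {w}, w ∈ T.pair.E → g⁻¹ * w * g ∈ T.pair.E → w ∈ T.V := by
    intro w hw hw'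
    have h2 : g * (g⁻¹ * w * g) * g⁻¹ = w := by group
    refine E_inter T θ hθ hker hg k0 k1 hw.1 hw.2 ?_
    have := T.cQs g k1 _ hw'.2
    rwa [h2] at this
  refine ⟨cm ?_ ?_, cm (T.pair.R_comm ha.2 hb.2) ?_⟩
  · rw [← pow_two]; exact T.pair.R_sq ha.2
  · have := T.pair.R_sq (cj ha).2
    rwa [pow_two, show g⁻¹ * a * g * (g⁻¹ * a * g) = g⁻¹ * (a * a) * g by group] at this
  · have := T.pair.R_comm (cj ha).2 (cj hb).2
    rwa [show g⁻¹ * a * g * (g⁻¹ * b * g) * (g⁻¹ * a * g)⁻¹ * (g⁻¹ * b * g)⁻¹ =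
      g⁻¹ * (a * b * a⁻¹ * b⁻¹) * g by group] at this

theorem center_mem {r : G} (hr : r ∈ T.R) (hc : ∀ t ∈ T.R, t * r = r * t) : r ∈ T.V := by
  obtain ⟨a, ha, b, hb, e⟩ := T.split_R hr
  obtain ⟨haQ, has, -⟩ := T.mem_Rz.mp ha
  have hbQ : b ∈ Qs := (T.mem_Rs.mp hb).1
  have haE : a ∈ Q ⊓ Qs := by
    refine T.selfperp a haQ fun d hd => ?_
    have h1 : r * d * r⁻¹ = d :=
      mul_inv_eq_iff_eq_mul.mpr (hc d (T.Rz_le_R (T.E_le.1 hd))).symm
    rw [e, show a * b * d * (a * b)⁻¹ = a * (b * d * b⁻¹) * a⁻¹ by group] at h1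
    rcases T.hs.conj b hbQ d hd.2 with e1 | e1 <;> rw [e1] at h1
    · exact mul_inv_eq_iff_eq_mul.mp h1
    · rw [show a * (s * d) * a⁻¹ = (a * s) * d * a⁻¹ by group, has,
        show s * a * d * a⁻¹ = s * (a * d * a⁻¹) by group] at h1
      rcases T.h.conj a haQ d hd.1 with e2 | e2 <;> rw [e2] at h1
      · exact absurd (mul_eq_right.mp h1) T.hs.ne_one
      · rw [← mul_assoc] at h1
        exact absurd ((eq_inv_of_mul_eq_one_right (mul_eq_right.mp h1)).trans T.s_inv).symm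
          T.s_ne_z
  refine mem_of_cent T.hs T.zQs T.xQs T.zx.eq T.h.ne_one T.s_ne_z.symm
    (by rw [T.x_inv]; exact T.x_ne_z.symm) (by rw [T.x_inv]; exact T.z_ne_sx) T.hx.ne_one T.x_ne_s
    (by rw [T.z_inv]; exact T.x_ne_z) (by rw [T.z_inv, ← T.zs.eq]; exact T.x_ne_zs)
    (e ▸ mul_mem haE.2 hbQ) (fun q hq hqz hqx => ?_) _ T.s_V T.z_V T.x_V
  exact hc q (T.Rs_le_R (T.mem_Rs.mpr ⟨hq, hqz, hqx⟩))

theorem exists_comm : ∃ a ∈ T.Rz, ∃ b ∈ T.Rz, a * b * a⁻¹ * b⁻¹ = z := by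
  obtain ⟨a, ha, haV⟩ : ∃ a ∈ T.Rz, a ∉ T.V := by
    by_contra hno
    push Not at hno
    have := Subgroup.card_le_of_le hno
    rw [T.card_Rz, T.card_V] at this
    omega
  obtain ⟨haQ, -, -⟩ := T.mem_Rz.mp ha
  by_contra hno
  push Not at hno
  refine haV (mem_of_cent T.h T.sQ T.xQ T.sx.eq T.hs.ne_one T.s_ne_z
    (by rw [T.x_inv]; exact T.x_ne_s.symm) (by rw [T.x_inv]; exact T.s_ne_zx) T.hx.ne_one T.x_ne_z
    (by rw [T.s_inv]; exact T.x_ne_s) (by rw [T.s_inv]; exact T.x_ne_zs) haQ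
    (fun q hq hqs hqx => ?_) _ T.z_V T.s_V T.x_V)
  have hq' := T.mem_Rz.mpr ⟨hq, hqs, hqx⟩
  rcases Pair.comm_cases T.pair T.h haQ hq with e | e
  · exact (mul_inv_eq_iff_eq_mul.mp (mul_inv_eq_one.mp e)).symm
  · exact absurd e (hno a ha q hq')

theorem V_comm_R {v r : G} (hv : v ∈ T.V) (hr : r ∈ T.R) : r * v = v * r := by
  obtain ⟨h1, h2, h3⟩ := T.mem_CV.mp (T.R_le_CV hr)
  exact (mem_centralizer_singleton_iff.mp (T.V_le (N := centralizer ({r} : Set G))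
    (mem_centralizer_singleton_iff.mpr h1.symm) (mem_centralizer_singleton_iff.mpr h2.symm)
    (mem_centralizer_singleton_iff.mpr h3.symm) hv)).symm

theorem center_R : center ↥T.R = T.V.subgroupOf T.R := by
  ext a
  rw [mem_center_iff, mem_subgroupOf]
  constructor
  · exact fun h => center_mem T θ hθ hker a.2 fun t ht => congrArg Subtype.val (h ⟨t, ht⟩)
  · exact fun h t => Subtype.ext (V_comm_R T θ hθ hker h t.2)

theorem special : Cfsg.IsSpecial 2 ↥T.R := by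
  have hp := T.R_isPGroup
  have hsq : ∀ a : ↥T.R, a * a ∈ center ↥T.R := fun a => by
    rw [center_R T θ hθ hker, mem_subgroupOf]
    exact (sq_comm_mem T θ hθ hker a.2 a.2).1
  have hcm : ∀ a b : ↥T.R, a * b * a⁻¹ * b⁻¹ ∈ center ↥T.R := fun a b => by
    rw [center_R T θ hθ hker, mem_subgroupOf]
    exact (sq_comm_mem T θ hθ hker a.2 b.2).2
  have hVc : center ↥T.R ≤ _root_.commutator ↥T.R := by
    obtain ⟨⟨g, hg⟩, k0, k1, -⟩ := T.exists_cycle
    obtain ⟨a, ha, b, hb, e⟩ := exists_comm T θ hθ hker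
    let N := (_root_.commutator ↥T.R).map T.R.subtype
    have hN : ∀ {a b : G}, a ∈ T.R → b ∈ T.R → a * b * a⁻¹ * b⁻¹ ∈ N := fun {a b} ha hb =>
      ⟨⟨a, ha⟩ * ⟨b, hb⟩ * ⟨a, ha⟩⁻¹ * ⟨b, hb⟩⁻¹,
        commutator_mem_commutator (mem_top _) (mem_top _), rfl⟩
    have ha1 := R_normal T θ hθ hker hg (T.Rz_le_R ha)
    have hb1 := R_normal T θ hθ hker hg (T.Rz_le_R hb)
    have hzN : z ∈ N := e ▸ hN (T.Rz_le_R ha) (T.Rz_le_R hb)
    have hsN : s ∈ N := by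
      have := hN ha1 hb1
      rwa [show g * a * g⁻¹ * (g * b * g⁻¹) * (g * a * g⁻¹)⁻¹ * (g * b * g⁻¹)⁻¹ =
        g * (a * b * a⁻¹ * b⁻¹) * g⁻¹ by group, e, k0] at this
    have hxN : x ∈ N := by
      have := hN (R_normal T θ hθ hker hg ha1) (R_normal T θ hθ hker hg hb1)
      rwa [show g * (g * a * g⁻¹) * g⁻¹ * (g * (g * b * g⁻¹) * g⁻¹) *
          (g * (g * a * g⁻¹) * g⁻¹)⁻¹ * (g * (g * b * g⁻¹) * g⁻¹)⁻¹ =
        g * (g * (a * b * a⁻¹ * b⁻¹) * g⁻¹) * g⁻¹ by group, e, k0, k1] at this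
    intro c hc
    rw [center_R T θ hθ hker, mem_subgroupOf] at hc
    obtain ⟨c', hc', e'⟩ := T.V_le hzN hsN hxN hc
    rwa [← Subtype.ext (a2 := c) e']
  refine ⟨hp, le_antisymm (frattini_le_of_sq_mem _ hsq hcm)
    (hVc.trans (commutator_le_frattini hp)), le_antisymm ?_ hVc⟩
  rw [_root_.commutator_def, Subgroup.commutator_le]
  exact fun a _ b _ => hcm a b

theorem center_map : (center ↥T.R).map T.R.subtype = T.V := by
  rw [center_R T θ hθ hker, subgroupOf_map_subtype]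
  exact inf_eq_left.mpr T.V_le_R

theorem R_subgroupOf_normal : (T.R.subgroupOf T.L).Normal :=
  ⟨fun r hr g => R_normal T θ hθ hker g.2 hr⟩

theorem pCore_eq :
    T.R = (Cfsg.pCore 2 ↥T.L).map T.L.subtype := by
  have hcase : ∀ a : ZMod 2, a = 1 ∨ a = 0 := by decide
  haveI := R_subgroupOf_normal T θ hθ hker
  haveI : Fact (Nat.Prime 2) := ⟨Nat.prime_two⟩
  haveI : IsSimpleGroup ↥(alternatingGroup (Fin 6)) := alternatingGroup.isSimpleGroup (by simp)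
  have h360 : Nat.card ↥(alternatingGroup (Fin 6)) = 360 := by
    rw [Nat.card_eq_fintype_card, card_alternatingGroup]; rfl
  set P₂ := Cfsg.pCore 2 ↥T.L with hP₂
  haveI : P₂.Normal := HallCore.pCore_normal 2 _
  have hP : IsPGroup 2 P₂ := HallCore.isPGroup_pCore 2 _
  have hle : T.R.subgroupOf T.L ≤ P₂ := HallCore.le_pCore
    (T.R_isPGroup.comap_of_injective T.L.subtype T.L.subtype_injective)
  -- it acts trivially
  let act : MulAction ↥P₂ W :=
    { smul := fun p v => T.lf (p : ↥T.L) v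
      one_smul := fun v => by show T.lf 1 v = v; rw [T.lf_one]; rfl
      mul_smul := fun p p' v => by
        show T.lf ((p : ↥T.L) * p') v = T.lf _ (T.lf _ v)
        rw [T.lf_mul]; rfl }
  letI := act
  have h0 : (0 : W) ∈ MulAction.fixedPoints ↥P₂ W := fun p => map_zero (T.lf (p : ↥T.L))
  obtain ⟨v, hv, hv0⟩ := hP.exists_fixed_point_of_prime_dvd_card_of_fixed_point W
    (by rw [Nat.card_fun, Nat.card_fin, Nat.card_zmod]; decide) h0
  let F : AddSubgroup W :=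
    { carrier := {v | ∀ p : ↥P₂, T.lf (p : ↥T.L) v = v}
      zero_mem' := fun p => map_zero _
      add_mem' := fun {a b} ha hb p => by rw [map_add, ha p, hb p]
      neg_mem' := fun {a} ha p => by rw [map_neg, ha p] }
  have hinv : ∀ (g : ↥T.L) (a : W), a ∈ F → T.lf g a ∈ F := by
    intro g a ha p
    have h := ha ⟨g⁻¹ * p * g, by
      simpa using (inferInstance : P₂.Normal).conj_mem _ p.2 g⁻¹⟩
    calc T.lf (p : ↥T.L) (T.lf g a)
        = T.lf g (T.lf (g⁻¹ * p * g) a) := by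
          rw [← LinearMap.comp_apply, ← T.lf_mul, ← LinearMap.comp_apply, ← T.lf_mul]
          congr 2
          group
      _ = T.lf g a := by rw [h]
  have hF : ∀ w : W, w ∈ F := by
    have htr : ∀ (i j : Fin 3) (w : W), i ≠ j → w ∈ F → w j = 1 →
        (Pi.single i 1 : W) ∈ F := by
      intro i j w hij hw hwj
      obtain ⟨g, hg⟩ := T.φ_surj (Matrix.SpecialLinearGroup.transvection hij 1)
      have h1 := add_mem hw (hinv g w hw)
      have h2 : T.lf g w = w + Pi.single i 1 := by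
        have h3 : LinearMap.toMatrix' (T.lf g) =
            (Matrix.SpecialLinearGroup.transvection hij (1 : ZMod 2) :
              Matrix (Fin 3) (Fin 3) (ZMod 2)) := congrArg Subtype.val hg
        rw [← Matrix.toLin'_toMatrix' (T.lf g), Matrix.toLin'_apply, h3,
          PSLSimple.transvection_mulVec]
        simp [hwj]
      rw [h2, ← add_assoc, show w + w = 0 from funext fun k => CharTwo.add_self_eq_zero (w k),
        zero_add] at h1
      exact h1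
    obtain ⟨j, hj⟩ : ∃ j, v j = 1 := by
      by_contra hno
      push Not at hno
      refine hv0 (funext fun j => ?_)
      exact ((hcase _).resolve_left (hno j)).symm
    have hvF : v ∈ F := fun p => hv p
    have hne : ∀ i, i ≠ j → (Pi.single i 1 : W) ∈ F := fun i hi => htr i j v hi hvF hj
    have hall : ∀ i, (Pi.single i 1 : W) ∈ F := by
      intro i
      by_cases hi : i = j
      · obtain ⟨k, hk⟩ : ∃ k, k ≠ j := exists_ne j
        exact htr i k _ (by rw [hi]; exact hk.symm) (hne k hk) (Pi.single_eq_same k _)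
      · exact hne i hi
    intro w
    rw [← Finset.univ_sum_single w]
    refine AddSubgroup.sum_mem _ fun i _ => ?_
    rcases hcase (w i) with e | e <;> rw [e]
    · exact hall i
    · rw [Pi.single_zero]; exact zero_mem _
  have hCV : ∀ p ∈ P₂, (p : G) ∈ T.CV := fun p hp => by
    refine T.CV_iff.mpr (Subtype.ext ?_)
    show LinearMap.toMatrix' (T.lf p) = 1
    rw [show T.lf p = LinearMap.id from LinearMap.ext fun w => hF w ⟨p, hp⟩,
      LinearMap.toMatrix'_id]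
  -- and lies in the kernel
  let μ : ↥P₂ →* alternatingGroup (Fin 6) := MonoidHom.mk'
    (fun p => θ₂ T θ ⟨_, hCV p p.2⟩) fun a b => by rw [← map_mul]; rfl
  haveI : μ.range.Normal := ⟨by
    rintro _ ⟨p, rfl⟩ a
    obtain ⟨c, rfl⟩ := θ₂_surj T θ hθ hker a
    refine ⟨⟨_, (inferInstance : P₂.Normal).conj_mem _ p.2 ⟨c, T.CV_le_L c.2⟩⟩, ?_⟩
    show θ₂ T θ _ = θ₂ T θ c * θ₂ T θ _ * (θ₂ T θ c)⁻¹
    rw [← map_mul, ← map_inv, ← map_mul]
    rfl⟩
  have hbot : μ.range = ⊥ := bot_of_two_group h360 _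
    (hP.of_surjective μ.rangeRestrict μ.rangeRestrict_surjective)
  ext w
  constructor
  · intro hw
    exact ⟨⟨w, T.CV_le_L (T.R_le_CV hw)⟩, hle hw, rfl⟩
  · rintro ⟨p, hp, rfl⟩
    refine (θ₂_eq_one T θ hθ hker (c := ⟨p, hCV p hp⟩)).mp ?_
    show μ ⟨p, hp⟩ = 1
    rw [← mem_bot, ← hbot]; exact ⟨_, rfl⟩

/-- The elements acting trivially on `CV / R`. -/
def K : Subgroup G where
  carrier := {g | g ∈ T.L ∧ ∀ c ∈ T.CV, g * c * g⁻¹ * c⁻¹ ∈ T.R}
  one_mem' := ⟨one_mem _, fun c _ => by simp⟩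
  mul_mem' := fun {a b} ha hb => ⟨mul_mem ha.1 hb.1, fun c hc => by
    rw [show a * b * c * (a * b)⁻¹ * c⁻¹ =
      a * (b * c * b⁻¹ * c⁻¹) * a⁻¹ * (a * c * a⁻¹ * c⁻¹) by group]
    exact mul_mem (R_normal T θ hθ hker ha.1 (hb.2 c hc)) (ha.2 c hc)⟩
  inv_mem' := fun {a} ha => ⟨inv_mem ha.1, fun c hc => by
    rw [show a⁻¹ * c * a⁻¹⁻¹ * c⁻¹ = a⁻¹ * (a * c * a⁻¹ * c⁻¹)⁻¹ * a⁻¹⁻¹ by group]
    exact R_normal T θ hθ hker (inv_mem ha.1) (inv_mem (ha.2 c hc))⟩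

theorem le_K : Q ≤ K T θ hθ hker ∧ Qs ≤ K T θ hθ hker ∧ Qx ≤ K T θ hθ hker := by
  have key : ∀ {Q₀ : Subgroup G} {z₀ : G}, LHyp Q₀ z₀ → (∀ c ∈ T.CV, c * z₀ = z₀ * c) →
      Q₀ ≤ T.L → (∀ y ∈ Q₀, y ∈ T.CV → y ∈ T.R) → Q₀ ≤ K T θ hθ hker := by
    intro Q₀ z₀ h₀ hc₀ hL hR q hq
    refine ⟨hL hq, fun c hc => hR _ ?_ ?_⟩
    · rw [show q * c * q⁻¹ * c⁻¹ = q * (c * q⁻¹ * c⁻¹) by group]
      exact mul_mem hq (h₀.norm c (hc₀ c hc) _ (inv_mem hq))
    · exact mul_mem (T.CV_normal (hL hq) hc) (inv_mem hc)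
  refine ⟨key T.h (fun c hc => (T.mem_CV.mp hc).1) T.Q_le_L fun y hy hy' => T.Rz_le_R
      (T.mem_Rz.mpr ⟨hy, (T.mem_CV.mp hy').2⟩),
    key T.hs (fun c hc => (T.mem_CV.mp hc).2.1) T.Qs_le_L fun y hy hy' => T.Rs_le_R
      (T.mem_Rs.mpr ⟨hy, (T.mem_CV.mp hy').1, (T.mem_CV.mp hy').2.2⟩),
    key T.hx (fun c hc => (T.mem_CV.mp hc).2.2) T.Qx_le_L fun y hy hy' => ?_⟩
  obtain ⟨⟨g, hg⟩, k0, k1, -⟩ := T.exists_cycle
  have h1 : g⁻¹ * y * g ∈ T.CV := by simpa using T.CV_normal (inv_mem hg) hy'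
  have h2 : g⁻¹ * y * g ∈ Qs := by
    have hgx : g⁻¹ * x * g⁻¹⁻¹ = s := by
      rw [← k1]; simp only [inv_inv]; group
    simpa using T.cQx g⁻¹ hgx y hy
  have := R_normal T θ hθ hker hg (T.Rs_le_R
    (T.mem_Rs.mpr ⟨h2, (T.mem_CV.mp h1).1, (T.mem_CV.mp h1).2.2⟩))
  rwa [show g * (g⁻¹ * y * g) * g⁻¹ = y by group] at this

theorem K_inf_CV {k : G} (hk : k ∈ K T θ hθ hker) (hk' : k ∈ T.CV) : k ∈ T.R := by
  refine (θ₂_eq_one T θ hθ hker (c := ⟨k, hk'⟩)).mp ?_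
  have hz : θ₂ T θ ⟨k, hk'⟩ ∈ center ↥(alternatingGroup (Fin 6)) := by
    refine mem_center_iff.mpr fun a => ?_
    obtain ⟨c, rfl⟩ := θ₂_surj T θ hθ hker a
    have h := (θ₂_eq_one T θ hθ hker (c := ⟨k, hk'⟩ * c * ⟨k, hk'⟩⁻¹ * c⁻¹)).mpr (hk.2 c c.2)
    rw [map_mul, map_mul, map_mul, map_inv, map_inv, mul_inv_eq_one, mul_inv_eq_iff_eq_mul] at h
    exact h.symm
  haveI : IsSimpleGroup ↥(alternatingGroup (Fin 6)) := alternatingGroup.isSimpleGroup (by simp)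
  rcases (Subgroup.instNormalCenter (G := ↥(alternatingGroup (Fin 6)))).eq_bot_or_eq_top with e | e
  · rw [e] at hz; exact mem_bot.mp hz
  · exfalso
    have h1 : Equiv.swap (0 : Fin 6) 1 * Equiv.swap 1 2 ∈ alternatingGroup (Fin 6) := by
      rw [Equiv.Perm.mem_alternatingGroup, map_mul, Equiv.Perm.sign_swap (by decide),
        Equiv.Perm.sign_swap (by decide)]
      decide
    have h2 : Equiv.swap (0 : Fin 6) 1 * Equiv.swap 0 3 ∈ alternatingGroup (Fin 6) := by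
      rw [Equiv.Perm.mem_alternatingGroup, map_mul, Equiv.Perm.sign_swap (by decide),
        Equiv.Perm.sign_swap (by decide)]
      decide
    have h3 := mem_center_iff.mp (e ▸ mem_top (⟨_, h1⟩ : alternatingGroup (Fin 6))) ⟨_, h2⟩
    have h4 : Equiv.swap (0 : Fin 6) 1 * Equiv.swap 0 3 * (Equiv.swap 0 1 * Equiv.swap 1 2) ≠
        Equiv.swap 0 1 * Equiv.swap 1 2 * (Equiv.swap 0 1 * Equiv.swap 0 3) := by decide
    exact h4 (congrArg Subtype.val h3)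

theorem quotient_iso : ∃ _ : (T.R.subgroupOf T.L).Normal,
    Nonempty (↥T.L ⧸ T.R.subgroupOf T.L ≃*
      Matrix.SpecialLinearGroup (Fin 3) (ZMod 2) × ↥(alternatingGroup (Fin 6))) := by
  haveI := R_subgroupOf_normal T θ hθ hker
  refine ⟨inferInstance, ?_⟩
  obtain ⟨k1, k2, k3⟩ := le_K T θ hθ hker
  let S : ↥T.L → alternatingGroup (Fin 6) → Prop := fun g a =>
    ∃ k ∈ K T θ hθ hker, ∃ c : ↥T.CV, (g : G) = k * c ∧ θ₂ T θ c = a
  have hex : ∀ g, ∃ a, S g a := by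
    intro g
    obtain ⟨k, hk, e⟩ := (T.map_φ_eq_top k1 k2 k3).ge (mem_top (T.φ g))
    have hc : ((k⁻¹ * g : ↥T.L) : G) ∈ T.CV := T.CV_iff.mpr (by
      rw [map_mul, map_inv, e, inv_mul_cancel])
    exact ⟨_, (k : G), hk, ⟨_, hc⟩, by simp, rfl⟩
  have huni : ∀ g a a', S g a → S g a' → a = a' := by
    rintro g a a' ⟨k, hk, c, e, rfl⟩ ⟨k', hk', c', e', rfl⟩
    have h2 : (c' : G) * (c : G)⁻¹ = k'⁻¹ * k := by
      rw [show k = (g : G) * (c : G)⁻¹ by rw [e]; group, e']; group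
    have h := (θ₂_eq_one T θ hθ hker (c := c' * c⁻¹)).mpr
      (K_inf_CV T θ hθ hker (by rw [coe_mul, coe_inv, h2]; exact mul_mem (inv_mem hk') hk) (c' * c⁻¹).2)
    rw [map_mul, map_inv, mul_inv_eq_one] at h
    exact h.symm
  choose ψf hψ using hex
  let ψ : ↥T.L →* alternatingGroup (Fin 6) := MonoidHom.mk' ψf fun g g' => by
    obtain ⟨k, hk, c, e, ec⟩ := hψ g
    obtain ⟨k', hk', c', e', ec'⟩ := hψ g'
    refine huni _ _ _ (hψ (g * g')) ?_
    have hd : k'⁻¹ * c * k' ∈ T.CV := by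
      simpa using T.CV_normal (inv_mem hk'.1) c.2
    refine ⟨k * k', mul_mem hk hk', ⟨_, hd⟩ * c', by rw [coe_mul, coe_mul, e, e']; group, ?_⟩
    have hR : k'⁻¹ * c * k' * (c : G)⁻¹ ∈ T.R := by
      simpa using (inv_mem hk').2 c c.2
    have h := (θ₂_eq_one T θ hθ hker (c := ⟨_, hd⟩ * c⁻¹)).mpr hR
    rw [map_mul, map_inv, mul_inv_eq_one] at h
    rw [map_mul, h, ec, ec']
  have hsurj : Function.Surjective (T.φ.prod ψ) := by
    rintro ⟨M, a⟩
    obtain ⟨k, hk, e⟩ := (T.map_φ_eq_top k1 k2 k3).ge (mem_top M)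
    obtain ⟨c, rfl⟩ := θ₂_surj T θ hθ hker a
    refine ⟨k * ⟨c, T.CV_le_L c.2⟩, Prod.ext ?_ ?_⟩
    · show T.φ (k * _) = M
      rw [map_mul, e, (T.CV_iff (g := ⟨c, T.CV_le_L c.2⟩)).mp c.2, mul_one]
    · exact huni _ _ _ (hψ _) ⟨k, hk, c, rfl, rfl⟩
  refine ⟨QuotientGroup.liftEquiv (T.R.subgroupOf T.L) hsurj ?_⟩
  ext g
  rw [mem_subgroupOf, MonoidHom.mem_ker, MonoidHom.prod_apply, Prod.mk_eq_one]
  constructor
  · intro hg
    exact ⟨T.CV_iff.mp (T.R_le_CV hg), huni _ _ _ (hψ g) ⟨1, one_mem _, ⟨g, T.R_le_CV hg⟩,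
      (one_mul _).symm, (θ₂_eq_one T θ hθ hker).mpr hg⟩⟩
  · rintro ⟨h1, h2⟩
    have hg := T.CV_iff.mpr h1
    have h3 := huni _ _ _ (hψ g) ⟨1, one_mem _, ⟨g, hg⟩, (one_mul _).symm, rfl⟩
    exact (θ₂_eq_one T θ hθ hker (c := ⟨g, hg⟩)).mp (h3.symm.trans h2)

/-- The structure of the normaliser. -/
theorem structure_normalizer :
    ∃ V : Subgroup G, Cfsg.IsElementaryAbelian 2 V ∧ Nat.card V = 8 ∧ z ∈ V ∧
      ∃ R : Subgroup G, R = (Cfsg.pCore 2 ↥(normalizer (V : Set G))).map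
          (normalizer (V : Set G)).subtype ∧
        Cfsg.IsSpecial 2 ↥R ∧ Nat.card R = 2 ^ 15 ∧ (center ↥R).map R.subtype = V ∧
        ∃ _ : (R.subgroupOf (normalizer (V : Set G))).Normal,
          Nonempty (↥(normalizer (V : Set G)) ⧸ R.subgroupOf (normalizer (V : Set G)) ≃*
            Matrix.SpecialLinearGroup (Fin 3) (ZMod 2) × ↥(alternatingGroup (Fin 6))) := by
  refine ⟨T.V, ⟨⟨⟨fun a b => Subtype.ext (V_comm_R T θ hθ hker b.2 (T.V_le_R a.2))⟩⟩, ?_⟩,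
    T.card_V, T.z_V, T.R, pCore_eq T θ hθ hker, special T θ hθ hker, T.card_R,
    center_map T θ hθ hker, quotient_iso T θ hθ hker⟩
  rintro _ ⟨v, rfl⟩
  rw [pow_two, ← map_mul, show v * v = 1 from Multiplicative.toAdd.injective
    (funext fun i => CharTwo.add_self_eq_zero (Multiplicative.toAdd v i)), map_one]

end

end Cfsg.Agent.LFLocal52
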