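import Mathlib
import Cfsg.Agent.Lib.J4TrioFive48
import Cfsg.Agent.Lib.JFourSetting97
import Cfsg.Agent.Lib.HallCore
import Cfsg.Agent.Lib.LFLocal52

/-!
The centraliser of the group of order eight and its largest normal 2-subgroup of order `2 ^ 15`.
-/

set_option autoImplicit false
set_option linter.unusedSectionVars false
set_option linter.style.haveILetI false

namespace Cfsg.Agent.J4TrioCore48

open Subgroup Cfsg Cfsg.Agent.J4TrioBase48 Cfsg.Agent.J4TrioFive48

local notation "SL32" => Matrix.SpecialLinearGroup (Fin 3) (ZMod 2)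
local notation "S₅" => Equiv.Perm (Fin 5)

variable {G : Type*} [Group G] [Finite G]

/-- The subgroups of order five and seven and their centralisers, with the line through `w`. -/
structure Cfg (z w : G) (P Q S I J E0 D : Subgroup G) (θ : ↥J →* SL32) (φ : ↥I ≃* S₅) : Prop where
  five : Five Q J E0 θ
  h7 : Sevens G
  sev : IsInternalDirectProduct S I (centralizer (S : Set G))
  scard : Nat.card S = 7
  QI : Q ≤ I
  SJ : S ≤ J
  z1 : z ≠ 1
  z2 : z * z = 1
  pcard : Nat.card P = 3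
  zP : ∀ g ∈ P, z * g = g * z
  zI : z ∈ I
  PI : P ≤ I
  NP : normalizer (P : Set G) ≤ centralizer ({z} : Set G)
  nofive : ¬ 5 ^ 2 ∣ Nat.card G
  noseven : ¬ 7 ^ 2 ∣ Nat.card G
  w1 : w ≠ 1
  wE : w ∈ E0
  line : J4TrioLine48.Line w E0 D

theorem exists_cfg {z : G} {P : Subgroup G} (hJ : IsOfJankoFourTypeWith z P)
    (hNP : normalizer (P : Set G) ≤ centralizer ({z} : Set G))
    (h5 : ∀ Q : Subgroup G, Nat.card Q = 5 → Q ≤ centralizer ({z} : Set G) →
      ¬ (25 ∣ Nat.card G) ∧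
      ∃ J : Subgroup G, IsInternalDirectProduct Q J (centralizer (Q : Set G)) ∧
        ∃ (E : Subgroup ↥J) (_ : E.Normal), IsElementaryAbelian 2 E ∧ Nat.card ↥E = 8 ∧
          Nonempty (↥J ⧸ E ≃* SL32) ∧ ∀ K : Subgroup ↥J, ¬ E.IsComplement' K)
    (h7 : ∀ S : Subgroup G, Nat.card S = 7 → S ≤ centralizer ({z} : Set G) →
      ¬ (49 ∣ Nat.card G) ∧
      ∃ I : Subgroup G, IsInternalDirectProduct S I (centralizer (S : Set G)) ∧ Nonempty (↥I ≃* S₅)) :
    ∃ (w : G) (Q S I J E0 D : Subgroup G) (θ : ↥J →* SL32) (φ : ↥I ≃* S₅),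
      Cfg z w P Q S I J E0 D θ φ ∧ S ≤ centralizer ({z} : Set G) := by
  haveI : Fact (Nat.Prime 5) := ⟨by norm_num⟩
  haveI : Fact (Nat.Prime 7) := ⟨by norm_num⟩
  obtain ⟨N, p, K⟩ := JFourSetting97.exists_pack hJ
  have hKcard := JFourSetting97.card_KK K
  obtain ⟨s, hsK, -, hScard⟩ := exists_sub (A := JFourSetting97.KK z P) (q := 7)
    (by rw [hKcard]; norm_num)
  obtain ⟨q, hqK, -, hQcard⟩ := exists_sub (A := JFourSetting97.KK z P) (q := 5)
    (by rw [hKcard]; norm_num)
  have hSK : zpowers s ≤ JFourSetting97.KK z P := zpowers_le.2 hsK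
  have hQK : zpowers q ≤ JFourSetting97.KK z P := zpowers_le.2 hqK
  obtain ⟨h49, I, hI, ⟨φ⟩⟩ := h7 _ hScard (hSK.trans inf_le_left)
  obtain ⟨h25, hfive⟩ := h5 _ hQcard (hQK.trans inf_le_left)
  obtain ⟨J0, E00, θ0, F0⟩ := exists_five hQcard hfive
  have hsev : Sevens G := fun S' hS' => by
    obtain ⟨g, hg⟩ := sylow_conj (q := 7) (by norm_num; exact h49) _ _ hScard hS'
    refine ⟨I.map (cj g), ?_, ⟨(equivMapOfInjective I (cj g) (cj_inj g)).symm.trans φ⟩⟩
    rw [← hg, ← centralizer_cj]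
    exact idp_cj g hI
  have hz2 : z * z = 1 := by rw [← pow_two, ← K.hz]; exact pow_orderOf_eq_one z
  have hz1 : z ≠ 1 := fun h => by have := K.hz; rw [h, orderOf_one] at this; omega
  have hPz : P ≤ centralizer ({z} : Set G) := JFourSetting97.PH K
  have hzP : ∀ g ∈ P, z * g = g * z := fun g hg => (mem_centralizer_singleton_iff.1 (hPz hg)).symm
  have hzI : z ∈ I := idp_right hI (m := 2) (by rw [hScard]; norm_num)
    (mem_centralizer_iff.2 fun x hx => mem_centralizer_singleton_iff.1 (hSK hx).1)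
    (by rw [pow_two, hz2])
  have hPI : P ≤ I := fun g hg => idp_right hI (m := 3) (by rw [hScard]; norm_num)
    (mem_centralizer_iff.2 fun x hx => (mem_centralizer_iff.1 (hSK hx).2 g hg).symm)
    (by rw [← K.cardP]; exact pow_card_one hg)
  obtain ⟨q', hqI, -, hQ'⟩ := exists_sub (A := I) (q := 5)
    (by rw [Nat.card_congr φ.toEquiv, card_S5]; norm_num)
  obtain ⟨g, hg⟩ := sylow_conj (q := 5) (by norm_num; exact h25) _ _ hQcard hQ'
  obtain ⟨θ, F⟩ := exists_cj F0 g
  rw [hg] at F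
  obtain ⟨hzE, D0, hD0⟩ := exists_line F0 hsev hJ hz1 hz2 hzP
    (fun x hx => mem_centralizer_singleton_iff.1 (hQK hx).1)
    (fun x hx => mem_centralizer_iff.2 fun y hy => (mem_centralizer_iff.1 (hQK hy).2 x hx).symm)
    K.cardP
  have hline : J4TrioLine48.Line (g * z * g⁻¹) (E00.map (cj g)) (D0.map (cj g)) := by
    refine ⟨?_, map_mono hD0.E0_le, by rw [card_cj]; exact hD0.card, ?_, ?_, ?_, ?_⟩
    · rw [← centralizer_cj]; exact map_mono hD0.le
    · intro x hx d hd
      rw [← centralizer_cj, mem_cj] at hx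
      rw [mem_cj] at hd ⊢
      have := hD0.normal _ hx _ hd
      convert this using 1
      group
    · rintro _ ⟨a, ha, rfl⟩ _ ⟨b, hb, rfl⟩
      rw [← map_inv, ← map_inv, ← map_mul, ← map_mul, ← map_mul]
      rcases hD0.derived a ha b hb with r | r
      · left; rw [r, map_one]
      · right; rw [r]; rfl
    · obtain ⟨a, ha, b, hb, r⟩ := hD0.nonab
      refine ⟨_, mem_map_of_mem (cj g) ha, _, mem_map_of_mem (cj g) hb, ?_⟩
      rw [← map_inv, ← map_inv, ← map_mul, ← map_mul, ← map_mul, r]; rfl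
    · rw [← centralizer_cj, card_cj]; exact hD0.size
  refine ⟨g * z * g⁻¹, _, zpowers s, I, _, _, _, θ, φ, ⟨F, hsev, hI, hScard, zpowers_le.2 hqI, ?_,
    hz1, hz2, K.cardP, hzP, hzI, hPI, hNP, by norm_num; exact h25, by norm_num; exact h49,
    fun h => hz1 (conj_eq_one_iff.1 h), conj_mem_cj hzE, hline⟩,
    hSK.trans inf_le_left⟩
  intro x hx
  exact mem_J F (m := 7) (by norm_num) (fun y hy => (hI.2.2.1 x hx y (zpowers_le.2 hqI hy)).symm)
    (by rw [← hScard]; exact pow_card_one hx)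

/-- The largest normal 2-subgroup of the centraliser of `E0`. -/
def LL (E0 : Subgroup G) : Subgroup G :=
  (Cfsg.pCore 2 ↥(centralizer (E0 : Set G))).map (centralizer (E0 : Set G)).subtype

theorem LL_le (E0 : Subgroup G) : LL E0 ≤ centralizer (E0 : Set G) := map_subtype_le _

theorem LL_two (E0 : Subgroup G) : IsPGroup 2 ↥(LL E0) :=
  (HallCore.isPGroup_pCore 2 _).map _

theorem le_LL {E0 A : Subgroup G} (hA : A ≤ centralizer (E0 : Set G)) (h2 : IsPGroup 2 A)
    (hn : ∀ t ∈ centralizer (E0 : Set G), ∀ a ∈ A, t * a * t⁻¹ ∈ A) : A ≤ LL E0 := by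
  haveI : (A.subgroupOf (centralizer (E0 : Set G))).Normal :=
    ⟨fun a ha t => mem_subgroupOf.2 (hn t t.2 a (mem_subgroupOf.1 ha))⟩
  intro a ha
  exact ⟨⟨a, hA ha⟩, HallCore.le_pCore
    (h2.of_equiv (subgroupOfEquivOfLe hA).symm) (mem_subgroupOf.2 ha), rfl⟩

theorem cent_norm {E0 : Subgroup G} {n : G} (hn : n ∈ normalizer (E0 : Set G)) {t : G}
    (ht : t ∈ centralizer (E0 : Set G)) : n * t * n⁻¹ ∈ centralizer (E0 : Set G) := by
  rw [mem_centralizer_iff] at ht ⊢
  intro e he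
  have h1 := ht (n⁻¹ * e * n) (by
    rw [SetLike.mem_coe, mem_normalizer_iff.1 hn]
    simpa [mul_assoc] using he)
  calc e * (n * t * n⁻¹) = n * (n⁻¹ * e * n * t) * n⁻¹ := by group
    _ = n * t * n⁻¹ * e := by rw [h1]; group

theorem LL_norm {E0 : Subgroup G} {n : G} (hn : n ∈ normalizer (E0 : Set G)) {l : G}
    (hl : l ∈ LL E0) : n * l * n⁻¹ ∈ LL E0 := by
  refine le_LL (A := (LL E0).map (cj n)) ?_ ((LL_two E0).map _) ?_ (conj_mem_cj hl)
  · rintro _ ⟨x, hx, rfl⟩
    exact cent_norm hn (LL_le E0 hx)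
  · intro t ht _ ⟨x, hx, hxa⟩
    subst hxa
    obtain ⟨y, hy, rfl⟩ := hx
    have ht' := cent_norm (inv_mem hn) ht
    rw [inv_inv] at ht'
    refine ⟨(n⁻¹ * t * n) * (y : G) * (n⁻¹ * t * n)⁻¹,
      ⟨⟨_, ht'⟩ * y * ⟨_, ht'⟩⁻¹, (HallCore.pCore_normal 2 _).conj_mem y hy _, rfl⟩, ?_⟩
    show n * _ * n⁻¹ = t * (n * (y : G) * n⁻¹) * t⁻¹
    group

theorem norm_of_cent {E0 : Subgroup G} {t : G} (ht : t ∈ centralizer (E0 : Set G)) :
    t ∈ normalizer (E0 : Set G) := Subgroup.centralizer_le_normalizer _ ht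

theorem norm_of_conj {A : Subgroup G} {n : G} (h : ∀ a ∈ A, n * a * n⁻¹ ∈ A) :
    n ∈ normalizer (A : Set G) := mem_normalizer_fintype fun x hx => h x hx

theorem two_pow_card {A : Subgroup G} (h : IsPGroup 2 A) : ∃ k, Nat.card A = 2 ^ k := by
  haveI : Fact (Nat.Prime 2) := ⟨Nat.prime_two⟩
  exact IsPGroup.iff_card.1 h

section Main

variable {z w : G} {P Q S I J E0 D : Subgroup G} {θ : ↥J →* SL32} {φ : ↥I ≃* S₅}
  (C : Cfg z w P Q S I J E0 D θ φ)
include C

theorem J_norm {j : G} (hj : j ∈ J) : j ∈ normalizer (E0 : Set G) :=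
  norm_of_conj fun e he => C.five.E0_norm j hj e he

theorem Q_le_T : Q ≤ centralizer (E0 : Set G) := fun q hq =>
  mem_centralizer_iff.2 fun e he => (C.five.idp.2.2.1 q hq e (C.five.E0_le he)).symm

theorem card_I : Nat.card I = 120 := by rw [Nat.card_congr φ.toEquiv, card_S5]

theorem SI_comm {s i : G} (hs : s ∈ S) (hi : i ∈ I) : s * i = i * s := C.sev.2.2.1 s hs i hi

theorem exists_s : ∃ s : G, orderOf s = 7 ∧ zpowers s = S := by
  haveI : Fact (Nat.Prime 7) := ⟨by norm_num⟩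
  exact exists_gen C.scard

/-- The centraliser of `E0` contains `I`. -/
theorem I_le_T : I ≤ centralizer (E0 : Set G) ∧
    Nat.card (centralizer (E0 : Set G)) = 2 ^ 18 * 15 := by
  haveI : Fact (Nat.Prime 7) := ⟨by norm_num⟩
  haveI : Fact (Nat.Prime 5) := ⟨by norm_num⟩
  obtain ⟨s, hs, hgen⟩ := exists_s C
  set T := centralizer (E0 : Set G) with hT
  have hsJ : s ∈ J := C.SJ (hgen ▸ mem_zpowers s)
  have hmod := J4TrioGen48.card_modEq_cent hs T fun x hx => cent_norm (J_norm C hsJ) hx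
  set F := T ⊓ centralizer ({s} : Set G) with hF
  have hcS : centralizer ({s} : Set G) = centralizer (S : Set G) := by
    ext x; rw [← hgen]; exact mem_cent_zpowers.symm
  have hQF : Q ≤ F := fun q hq => ⟨Q_le_T C hq, by
    show q ∈ centralizer ({s} : Set G)
    rw [hcS]; exact mem_centralizer_iff.2 fun x hx => SI_comm C hx (C.QI hq)⟩
  have hd1 : Nat.card F ∣ 840 := by
    have h1 : Nat.card F ∣ Nat.card (centralizer ({s} : Set G)) := card_dvd_of_le inf_le_right
    rw [hcS, idp_card C.sev, C.scard, card_I C] at h1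
    exact h1
  have hd2 : Nat.card F ∣ 2 ^ 18 * 15 := by
    rcases C.line.size with r | r
    · exact r ▸ card_dvd_of_le inf_le_left
    · exact (r ▸ card_dvd_of_le inf_le_left : Nat.card F ∣ 2 ^ 17 * 15).trans ⟨2, by norm_num⟩
  have hd : Nat.card F ∣ 120 := (Nat.dvd_gcd hd1 hd2).trans (by norm_num)
  have hFI : F ≤ I := fun x hx => idp_right C.sev (m := 120) (by rw [C.scard]; norm_num)
    (hcS ▸ hx.2) (by obtain ⟨k, hk⟩ := hd; rw [hk, pow_mul, pow_card_one hx, one_pow])
  have h5 : 5 ∣ Nat.card F := C.five.qcard ▸ card_dvd_of_le hQF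
  set X := (F.subgroupOf I).map φ.toMonoidHom with hX
  have hXc : Nat.card X = Nat.card F := by
    rw [card_map_of_injective φ.injective, Nat.card_congr (subgroupOfEquivOfLe hFI).toEquiv]
  have hn15 : Nat.card F ≠ 15 := hXc ▸ no_fifteen X
  rcases C.line.size with hsz | hsz
  · have h120 : Nat.card F = 120 := by
      rw [hsz] at hmod
      have hle : Nat.card F ≤ 120 := Nat.le_of_dvd (by norm_num) hd
      obtain ⟨c, hc⟩ := h5
      have : c ≤ 24 := by omega
      unfold Nat.ModEq at hmod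
      rw [hc] at hd hmod hn15 ⊢
      interval_cases c <;> omega
    have hFeq : F = I := eq_of_le_of_card_ge hFI (by rw [h120, card_I C])
    exact ⟨hFeq ▸ inf_le_left, hsz⟩
  · exfalso
    have h60 : Nat.card F = 60 := by
      rw [hsz] at hmod
      have hle : Nat.card F ≤ 120 := Nat.le_of_dvd (by norm_num) hd
      obtain ⟨c, hc⟩ := h5
      have : c ≤ 24 := by omega
      unfold Nat.ModEq at hmod
      rw [hc] at hd hmod hn15 ⊢
      interval_cases c <;> omega
    obtain ⟨hthree, hsix⟩ := index_two X (hXc.trans h60)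
    haveI : Fact (Nat.Prime 3) := ⟨Nat.prime_three⟩
    obtain ⟨p, hp, hpgen⟩ := exists_gen C.pcard
    have hpP : p ∈ P := hpgen ▸ mem_zpowers p
    have hp3 : p ^ 3 = 1 := by rw [← hp]; exact pow_orderOf_eq_one p
    have back : ∀ {x : G} (hx : x ∈ I), φ ⟨x, hx⟩ ∈ X → x ∈ F := by
      rintro x hx ⟨y, hy, e⟩
      obtain rfl := φ.injective e
      exact hy
    have hpF : p ∈ F := back (C.PI hpP) (hthree _ (by
      rw [← map_pow, (show (⟨p, C.PI hpP⟩ : ↥I) ^ 3 = 1 from Subtype.ext hp3), map_one]))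
    have hEz : ∀ e ∈ E0, e ∈ centralizer ({z} : Set G) := fun e he => C.NP
      (Subgroup.centralizer_le_normalizer _ (by
        rw [← hpgen]
        exact mem_cent_zpowers.2 (mem_centralizer_singleton_iff.2 (mem_centralizer_iff.1 hpF.1 e he))))
    have hzF : z ∈ F := ⟨mem_centralizer_iff.2 fun e he => mem_centralizer_singleton_iff.1 (hEz e he), by
      show z ∈ centralizer ({s} : Set G)
      rw [hcS]; exact mem_centralizer_iff.2 fun x hx => SI_comm C hx C.zI⟩
    rcases hsix (φ ⟨z, C.zI⟩) ⟨⟨z, C.zI⟩, mem_subgroupOf.2 hzF, rfl⟩ (φ ⟨p, C.PI hpP⟩)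
      (by rw [← map_mul, (show (⟨z, C.zI⟩ : ↥I) * ⟨z, C.zI⟩ = 1 from Subtype.ext C.z2), map_one])
      (by rw [← map_pow, (show (⟨p, C.PI hpP⟩ : ↥I) ^ 3 = 1 from Subtype.ext hp3), map_one])
      (by rw [← map_mul, ← map_mul]; exact congrArg φ (Subtype.ext (C.zP p hpP))) with e | e
    · exact C.z1 (congrArg Subtype.val (φ.injective (e.trans (map_one φ).symm)))
    · have := congrArg Subtype.val (φ.injective (e.trans (map_one φ).symm))
      simp only [OneMemClass.coe_one] at this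
      rw [this, orderOf_one] at hp
      norm_num at hp

theorem D_le_L : D ≤ LL E0 :=
  le_LL C.line.le (IsPGroup.of_card (n := 11) C.line.card) C.line.normal

theorem E0_le_L : E0 ≤ LL E0 := C.line.E0_le.trans (D_le_L C)

theorem L_inf_I : LL E0 ⊓ I = ⊥ := by
  haveI hn : ((LL E0).subgroupOf I).Normal := ⟨fun a ha i => mem_subgroupOf.2
    (LL_norm (norm_of_cent ((I_le_T C).1 i.2)) (mem_subgroupOf.1 ha))⟩
  haveI := hn.map φ.toMonoidHom φ.surjective
  have h2 : IsPGroup 2 ((LL E0).subgroupOf I) :=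
    ((LL_two E0).to_le inf_le_left (H := LL E0 ⊓ I)).of_equiv
      ((subgroupOfEquivOfLe inf_le_right).symm.trans
        (MulEquiv.subgroupCongr (inf_subgroupOf_right (LL E0) I)))
  have := no_normal_two _ (h2.map φ.toMonoidHom)
  rw [map_eq_bot_iff_of_injective _ φ.injective, subgroupOf_eq_bot] at this
  exact disjoint_iff.1 this

theorem two_pow_one {A : Subgroup G} (h : IsPGroup 2 A) {x : G} (hx : x ∈ A) :
    ∃ k, x ^ 2 ^ k = 1 := by
  obtain ⟨k, hk⟩ := two_pow_card h
  exact ⟨k, hk ▸ pow_card_one hx⟩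

/-- The elements of the core centralising `S`. -/
theorem L_S {x : G} (hx : x ∈ LL E0) (hc : ∀ s ∈ S, s * x = x * s) : x = 1 := by
  obtain ⟨k, hk⟩ := two_pow_one C (LL_two E0) hx
  have hI := idp_right C.sev (m := 2 ^ k) (by rw [C.scard]; exact Nat.Coprime.pow_right _ (by norm_num))
    (mem_centralizer_iff.2 hc) hk
  have : x ∈ LL E0 ⊓ I := ⟨hx, hI⟩
  rwa [L_inf_I C, mem_bot] at this

/-- The elements of the core centralising `Q`. -/
theorem L_Q {x : G} (hx : x ∈ LL E0) (hc : ∀ q ∈ Q, q * x = x * q) : x ∈ E0 := by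
  obtain ⟨k, hk⟩ := two_pow_one C (LL_two E0) hx
  have hJ := mem_J C.five (m := 2 ^ k) (Nat.Coprime.pow_right _ (by norm_num)) hc hk
  exact cent_E0 C.five C.h7 hJ fun e he => mem_centralizer_iff.1 (LL_le E0 hx) e he

/-- A subgroup of the core above `E0` invariant under `Q` has order `2 ^ k` with `k ≡ 3` modulo four. -/
theorem card_Q_inv {A : Subgroup G} (hA : A ≤ LL E0) (hE : E0 ≤ A)
    (hn : ∀ q ∈ Q, ∀ a ∈ A, q * a * q⁻¹ ∈ A) : Nat.card A ≡ 8 [MOD 5] := by
  haveI : Fact (Nat.Prime 5) := ⟨by norm_num⟩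
  obtain ⟨q, hq, hgen⟩ := exists_gen C.five.qcard
  have h := J4TrioGen48.card_modEq_cent hq A fun x hx => hn q (hgen ▸ mem_zpowers q) x hx
  have e : A ⊓ centralizer ({q} : Set G) = E0 := by
    ext x
    constructor
    · rintro ⟨hxA, hxc⟩
      exact L_Q C (hA hxA) (mem_centralizer_iff.1 (hgen ▸ mem_cent_zpowers.2 hxc))
    · exact fun hx => ⟨hE hx, mem_centralizer_singleton_iff.2
        (C.five.idp.2.2.1 q (hgen ▸ mem_zpowers q) x (C.five.E0_le hx)).symm⟩
  rwa [e, C.five.E0_card] at h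

/-- A subgroup of the core invariant under `S`. -/
theorem card_S_inv {A : Subgroup G} (hA : A ≤ LL E0)
    (hn : ∀ s ∈ S, ∀ a ∈ A, s * a * s⁻¹ ∈ A) : Nat.card A ≡ 1 [MOD 7] := by
  haveI : Fact (Nat.Prime 7) := ⟨by norm_num⟩
  obtain ⟨s, hs, hgen⟩ := exists_s C
  have h := J4TrioGen48.card_modEq_cent hs A fun x hx => hn s (hgen ▸ mem_zpowers s) x hx
  have e : A ⊓ centralizer ({s} : Set G) = ⊥ := by
    rw [eq_bot_iff_forall]
    rintro x ⟨hxA, hxc⟩
    exact L_S C (hA hxA) (mem_centralizer_iff.1 (hgen ▸ mem_cent_zpowers.2 hxc))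
  rwa [e, card_bot] at h

theorem card_L : Nat.card (LL E0) = 2 ^ 15 := by
  obtain ⟨k, hk⟩ := two_pow_card (LL_two E0)
  have h5 := card_Q_inv C le_rfl (E0_le_L C) fun q hq a ha =>
    LL_norm (norm_of_cent (Q_le_T C hq)) ha
  have h7 := card_S_inv C le_rfl fun s hs a ha => LL_norm (J_norm C (C.SJ hs)) ha
  have h11 : 11 ≤ k := by
    have := Subgroup.card_le_of_le (D_le_L C)
    rw [C.line.card, hk] at this
    exact (Nat.pow_le_pow_iff_right (by norm_num)).1 this
  have h15 : k ≤ 15 := by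
    let f : ↥(LL E0) × ↥I → ↥(centralizer (E0 : Set G)) :=
      fun x => ⟨x.1 * x.2, mul_mem (LL_le E0 x.1.2) ((I_le_T C).1 x.2.2)⟩
    have hinj : Function.Injective f := fun a b h =>
      Subgroup.mul_injective_of_disjoint (disjoint_iff.2 (L_inf_I C)) (congrArg Subtype.val h)
    have := Nat.card_le_card_of_injective f hinj
    rw [Nat.card_prod, hk, card_I C, (I_le_T C).2] at this
    have h2 : 2 ^ k ≤ 2 ^ 15 :=
      Nat.le_of_mul_le_mul_right (this.trans (by norm_num)) (by norm_num : 0 < 120)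
    exact (Nat.pow_le_pow_iff_right (by norm_num : 1 < 2)).1 h2
  rw [hk] at h5 h7 ⊢
  unfold Nat.ModEq at h5 h7
  interval_cases k <;> first | rfl | omega

/-- The centraliser of `E0` is the product of the core and `I`. -/
theorem T_eq {t : G} (ht : t ∈ centralizer (E0 : Set G)) : ∃ l ∈ LL E0, ∃ i ∈ I, t = l * i := by
  let f : ↥(LL E0) × ↥I → ↥(centralizer (E0 : Set G)) :=
    fun x => ⟨x.1 * x.2, mul_mem (LL_le E0 x.1.2) ((I_le_T C).1 x.2.2)⟩
  have hinj : Function.Injective f := fun a b h =>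
    Subgroup.mul_injective_of_disjoint (disjoint_iff.2 (L_inf_I C)) (congrArg Subtype.val h)
  have hb := (Nat.bijective_iff_injective_and_card f).2 ⟨hinj, by
    rw [Nat.card_prod, card_L C, card_I C, (I_le_T C).2]; norm_num⟩
  obtain ⟨⟨l, i⟩, h⟩ := hb.2 ⟨t, ht⟩
  exact ⟨l, l.2, i, i.2, (congrArg Subtype.val h).symm⟩

/-- The elements of `D` whose conjugates under `J` stay in `D` are those of `E0`. -/
theorem mem_E0_of_D {x : G} (hx : ∀ j ∈ J, j * x * j⁻¹ ∈ D) : x ∈ E0 := by
  let M : Subgroup G :=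
    { carrier := {y | ∀ j ∈ J, j * y * j⁻¹ ∈ D}
      one_mem' := fun j _ => by simp
      mul_mem' := fun {a b} ha hb j hj => by
        have := mul_mem (ha j hj) (hb j hj)
        convert this using 1
        group
      inv_mem' := fun {a} ha j hj => by
        have := inv_mem (ha j hj)
        convert this using 1
        group }
  have hMD : M ≤ D := fun y hy => by simpa using hy 1 (one_mem J)
  have hEM : E0 ≤ M := fun e he j hj => C.line.E0_le (C.five.E0_norm j hj e he)
  have hQM : ∀ q ∈ Q, ∀ a ∈ M, q * a * q⁻¹ ∈ M := fun q hq a ha j hj => by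
    have h1 := C.line.normal q (Q_le_T C hq) _ (ha j hj)
    have hc := Q_J_comm C.five hq hj
    convert h1 using 1
    have hc' : q * j * q⁻¹ = j := by rw [hc]; group
    calc j * (q * a * q⁻¹) * j⁻¹ = (q * j * q⁻¹) * (q * a * q⁻¹) * (q * j * q⁻¹)⁻¹ := by rw [hc']
      _ = q * (j * a * j⁻¹) * q⁻¹ := by group
  have hSM : ∀ s ∈ S, ∀ a ∈ M, s * a * s⁻¹ ∈ M := fun s hs a ha j hj => by
    have := ha (j * s) (mul_mem hj (C.SJ hs))
    convert this using 1
    group
  have h5 := card_Q_inv C (hMD.trans (D_le_L C)) hEM hQM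
  have h7 := card_S_inv C (hMD.trans (D_le_L C)) hSM
  obtain ⟨k, hk⟩ := two_pow_card ((LL_two E0).to_le (hMD.trans (D_le_L C)))
  have h11 : k ≤ 11 := by
    have := Subgroup.card_le_of_le hMD
    rw [C.line.card, hk] at this
    exact (Nat.pow_le_pow_iff_right (by norm_num)).1 this
  have h3 : 3 ≤ k := by
    have := Subgroup.card_le_of_le hEM
    rw [C.five.E0_card, hk, show 8 = 2 ^ 3 by norm_num] at this
    exact (Nat.pow_le_pow_iff_right (by norm_num)).1 this
  have h8 : Nat.card M = 8 := by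
    rw [hk] at h5 h7 ⊢
    unfold Nat.ModEq at h5 h7
    interval_cases k <;> first | rfl | omega
  have hM : E0 = M := eq_of_le_of_card_ge hEM (by rw [h8, C.five.E0_card])
  rw [hM]
  exact hx

/-- The squares of the core lie in `E0`. -/
theorem sq_mem {x : G} (hx : x ∈ LL E0) : x * x ∈ E0 := by
  let B : Subgroup G := closure ((D : Set G) ∪ {y | ∃ a ∈ LL E0, a * a = y})
  have hBL : B ≤ LL E0 := (closure_le _).2 (by
    rintro y (hy | ⟨a, ha, rfl⟩)
    · exact D_le_L C hy
    · exact mul_mem ha ha)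
  have hDB : D ≤ B := fun y hy => subset_closure (Or.inl hy)
  have hQB : ∀ q ∈ Q, ∀ a ∈ B, q * a * q⁻¹ ∈ B := fun q hq a ha => by
    have hle : B.map (cj q) ≤ B := by
      rw [show B.map (cj q) = closure ((cj q) '' _) from MonoidHom.map_closure _ _, closure_le]
      rintro _ ⟨y, hy | ⟨b, hb, rfl⟩, rfl⟩
      · exact hDB (C.line.normal q (Q_le_T C hq) y hy)
      · exact subset_closure (Or.inr ⟨q * b * q⁻¹, LL_norm (norm_of_cent (Q_le_T C hq)) hb,
          (map_mul (cj q) b b).symm⟩)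
    exact hle (conj_mem_cj ha)
  have h5 := card_Q_inv C hBL (C.line.E0_le.trans hDB) hQB
  obtain ⟨k, hk⟩ := two_pow_card ((LL_two E0).to_le hBL)
  have h11 : 11 ≤ k := by
    have := Subgroup.card_le_of_le hDB
    rw [C.line.card, hk] at this
    exact (Nat.pow_le_pow_iff_right (by norm_num)).1 this
  have h15 : k ≤ 15 := by
    have := Subgroup.card_le_of_le hBL
    rw [card_L C, hk] at this
    exact (Nat.pow_le_pow_iff_right (by norm_num)).1 this
  rw [hk] at h5
  unfold Nat.ModEq at h5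
  have hk' : k = 11 ∨ k = 15 := by interval_cases k <;> omega
  have hBD : B = D := by
    rcases hk' with r | r
    · exact (eq_of_le_of_card_ge hDB (by rw [C.line.card, hk, r])).symm
    · exfalso
      have hBtop : B = LL E0 := eq_of_le_of_card_ge hBL (by rw [hk, r, card_L C])
      have hDtop : D.subgroupOf (LL E0) = ⊤ := by
        apply frattini_nongenerating
        rw [eq_top_iff]
        intro y _
        have hy : (y : G) ∈ B := hBtop.ge y.2
        have : B ≤ (D.subgroupOf (LL E0) ⊔ frattini ↥(LL E0)).map (LL E0).subtype :=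
          (closure_le _).2 (by
            rintro u (hu | ⟨a, ha, rfl⟩)
            · exact ⟨⟨u, D_le_L C hu⟩, mem_sup_left (mem_subgroupOf.2 hu), rfl⟩
            · exact ⟨⟨a, ha⟩ * ⟨a, ha⟩,
                mem_sup_right (LargeExtraspecial.sq_mem_frattini (LL_two E0) _), rfl⟩)
        exact (mem_map_iff_mem Subtype.val_injective).1 (this hy)
      have := Subgroup.card_le_of_le (subgroupOf_eq_top.1 hDtop)
      rw [C.line.card, card_L C] at this
      norm_num at this
  refine mem_E0_of_D C fun j hj => hBD ▸ subset_closure (Or.inr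
    ⟨j * x * j⁻¹, LL_norm (J_norm C hj) hx, ?_⟩)
  group

theorem comm_mem {a b : G} (ha : a ∈ LL E0) (hb : b ∈ LL E0) : a * b * a⁻¹ * b⁻¹ ∈ E0 := by
  rw [LFLocal52.comm_eq_sq_mul]
  exact mul_mem (mul_mem (sq_mem C ha) (sq_mem C (mul_mem (inv_mem ha) hb))) (sq_mem C (inv_mem hb))

/-- `E0` is the centre of the core. -/
theorem center_eq : LL E0 ⊓ centralizer ((LL E0 : Subgroup G) : Set G) = E0 := by
  set A := LL E0 ⊓ centralizer ((LL E0 : Subgroup G) : Set G) with hA
  have hE : E0 ≤ A := fun e he => ⟨E0_le_L C he,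
    mem_centralizer_iff.2 fun l hl => (mem_centralizer_iff.1 (LL_le E0 hl) e he).symm⟩
  have inv : ∀ {n : G}, n ∈ normalizer (E0 : Set G) → ∀ a ∈ A, n * a * n⁻¹ ∈ A := by
    intro n hn a ha
    refine ⟨LL_norm hn ha.1, mem_centralizer_iff.2 fun l hl => ?_⟩
    have h1 := mem_centralizer_iff.1 ha.2 (n⁻¹ * l * n) (by
      simpa using LL_norm (inv_mem hn) hl)
    calc l * (n * a * n⁻¹) = n * (n⁻¹ * l * n * a) * n⁻¹ := by group
      _ = n * a * n⁻¹ * l := by rw [h1]; group
  have h5 := card_Q_inv C inf_le_left hE fun q hq => inv (norm_of_cent (Q_le_T C hq))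
  have h7 := card_S_inv C inf_le_left fun s hs => inv (J_norm C (C.SJ hs))
  obtain ⟨k, hk⟩ := two_pow_card ((LL_two E0).to_le (inf_le_left : A ≤ LL E0))
  have h3 : 3 ≤ k := by
    have := Subgroup.card_le_of_le hE
    rw [C.five.E0_card, hk, show 8 = 2 ^ 3 by norm_num] at this
    exact (Nat.pow_le_pow_iff_right (by norm_num)).1 this
  have h15 : k ≤ 15 := by
    have := Subgroup.card_le_of_le (inf_le_left : A ≤ LL E0)
    rw [card_L C, hk] at this
    exact (Nat.pow_le_pow_iff_right (by norm_num)).1 this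
  have hk' : k = 3 ∨ k = 15 := by
    rw [hk] at h5 h7
    unfold Nat.ModEq at h5 h7
    interval_cases k <;> omega
  rcases hk' with r | r
  · exact (eq_of_le_of_card_ge hE (by rw [C.five.E0_card, hk, r]; norm_num)).symm
  · exfalso
    have hAL : A = LL E0 := eq_of_le_of_card_ge inf_le_left (by rw [hk, r, card_L C])
    obtain ⟨a, ha, b, hb, hab⟩ := C.line.nonab
    have h1 := mem_centralizer_iff.1 (hAL.ge (D_le_L C hb)).2 a (D_le_L C ha)
    have hw : w = 1 := by rw [← hab, h1]; group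
    exact C.w1 hw

end Main

end Cfsg.Agent.J4TrioCore48
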