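import Mathlib
import Cfsg.Agent.Lib.J4TrioCore48
import Cfsg.Agent.Lib.GolayInvolutions
import Cfsg.Agent.Lib.JFourSecondData73

/-!
The normaliser of the special group of order `2 ^ 15`: its quotient `S₅ × L₃(2)`, non-splitting, the two
complements of its factors, and the normalisers of Sylow 5- and 7-subgroups inside it.
-/

set_option autoImplicit false
set_option linter.unusedSectionVars false
set_option linter.style.haveILetI false

namespace Cfsg.Agent.J4TrioNorm48

open Subgroup Cfsg Cfsg.Agent.J4TrioBase48 Cfsg.Agent.J4TrioFive48 Cfsg.Agent.J4TrioCore48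

local notation "SL32" => Matrix.SpecialLinearGroup (Fin 3) (ZMod 2)
local notation "S₅" => Equiv.Perm (Fin 5)

variable {G : Type*} [Group G] [Finite G]

/-- There are at most 168 ordered bases of a group of order eight and exponent two. -/
theorem ncard_bases {E0 : Subgroup G} (hc : Nat.card E0 = 8) (hsq : ∀ e ∈ E0, e * e = 1) :
    {t : G × G × G | t.1 ∈ E0 ∧ t.1 ≠ 1 ∧ t.2.1 ∈ E0 ∧ t.2.1 ≠ 1 ∧ t.2.1 ≠ t.1 ∧ t.2.2 ∈ E0 ∧
      t.2.2 ≠ 1 ∧ t.2.2 ≠ t.1 ∧ t.2.2 ≠ t.2.1 ∧ t.2.2 ≠ t.1 * t.2.1}.ncard ≤ 168 := by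
  classical
  haveI := Fintype.ofFinite G
  set A : Finset G := Finset.univ.filter (· ∈ E0) with hA
  have hAc : A.card = 8 := by
    rw [← hc, Nat.card_eq_fintype_card, Fintype.card_subtype]
  set U : Finset (G × G × G) := (A.erase 1).biUnion fun x => ((A.erase 1).erase x).biUnion fun y =>
    ((((A.erase 1).erase x).erase y).erase (x * y)).image fun w => (x, y, w) with hU
  have hU168 : U.card ≤ (A.erase 1).card * 24 := by
    refine Finset.card_biUnion_le_card_mul _ _ _ fun x hx => ?_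
    have hx' : x ≠ 1 ∧ x ∈ E0 := by simpa [hA] using hx
    have h1 : ((A.erase 1).erase x).card = 6 := by
      rw [Finset.card_erase_of_mem hx, Finset.card_erase_of_mem (by simp [hA]), hAc]
    refine (Finset.card_biUnion_le_card_mul _ _ 4 fun y hy => ?_).trans (by rw [h1])
    have hy' : y ≠ x ∧ y ≠ 1 ∧ y ∈ E0 := by simpa [hA] using hy
    refine Finset.card_image_le.trans ?_
    have hxy : x * y ∈ ((A.erase 1).erase x).erase y := by
      simp only [Finset.mem_erase, ne_eq, mul_eq_left, mul_eq_right, hA, Finset.mem_filter,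
        Finset.mem_univ, true_and]
      refine ⟨hx'.1, hy'.2.1, fun h => hy'.1 ?_, mul_mem hx'.2 hy'.2.2⟩
      rw [← sq_inv (hsq x hx'.2)]
      exact eq_inv_of_mul_eq_one_right h
    rw [Finset.card_erase_of_mem hxy, Finset.card_erase_of_mem hy, h1]
  rw [Finset.card_erase_of_mem (by simp [hA]), hAc] at hU168
  refine le_trans (le_of_le_of_eq (Set.ncard_le_ncard (t := (U : Set (G × G × G))) ?_ (Set.toFinite _))
    (Set.ncard_coe_finset U)) hU168
  rintro ⟨x, y, w⟩ ⟨h1, h2, h3, h4, h5, h6, h7, h8, h9, h10⟩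
  simp only [hU, hA, Finset.mem_coe, Finset.mem_biUnion, Finset.mem_erase, Finset.mem_image,
    Finset.mem_filter, Finset.mem_univ, true_and]
  exact ⟨x, ⟨h2, h1⟩, y, ⟨h5, h4, h3⟩, w, ⟨h10, h9, h8, h7, h6⟩, rfl⟩

section Main

variable {z w : G} {P Q S I J E0 D : Subgroup G} {θ : ↥J →* SL32} {φ : ↥I ≃* S₅}
  (C : Cfg z w P Q S I J E0 D θ φ)
include C

theorem exists_same {n : G} (hn : n ∈ normalizer (E0 : Set G)) :
    ∃ j ∈ J, ∀ e ∈ E0, n * e * n⁻¹ = j * e * j⁻¹ := by
  classical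
  have hE := C.five.E0_card
  have pick : ∀ X : Finset G, X.card < 8 → ∃ e ∈ E0, e ∉ X := by
    intro X hX
    by_contra hno
    push Not at hno
    have h1 : (E0 : Set G).ncard ≤ (X : Set G).ncard := Set.ncard_le_ncard hno (Set.toFinite _)
    rw [Set.ncard_coe_finset, ← Nat.card_coe_set_eq, SetLike.coe_sort_coe, hE] at h1
    omega
  obtain ⟨a, ha, ha'⟩ := pick {1} (by simp)
  obtain ⟨b, hb, hb'⟩ := pick {1, a} (lt_of_le_of_lt Finset.card_le_two (by norm_num))
  obtain ⟨c, hc, hc'⟩ := pick {1, a, b, a * b} (lt_of_le_of_lt Finset.card_le_four (by norm_num))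
  simp only [Finset.mem_insert, Finset.mem_singleton, not_or] at ha' hb' hc'
  obtain ⟨hb1, hba⟩ := hb'
  obtain ⟨hc1, hca, hcb, hcab⟩ := hc'
  set Tr := {t : G × G × G | t.1 ∈ E0 ∧ t.1 ≠ 1 ∧ t.2.1 ∈ E0 ∧ t.2.1 ≠ 1 ∧ t.2.1 ≠ t.1 ∧ t.2.2 ∈ E0 ∧
    t.2.2 ≠ 1 ∧ t.2.2 ≠ t.1 ∧ t.2.2 ≠ t.2.1 ∧ t.2.2 ≠ t.1 * t.2.1} with hTr
  let im : G → G × G × G := fun g => (g * a * g⁻¹, g * b * g⁻¹, g * c * g⁻¹)
  have him : ∀ g ∈ normalizer (E0 : Set G), im g ∈ Tr := by
    intro g hg
    have hm : ∀ e ∈ E0, g * e * g⁻¹ ∈ E0 := fun e he => (mem_normalizer_iff.1 hg e).1 he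
    have hi : ∀ {u v : G}, g * u * g⁻¹ = g * v * g⁻¹ → u = v := fun h =>
      mul_left_cancel (mul_right_cancel h)
    refine ⟨hm a ha, fun h => ha' (conj_eq_one_iff.1 h), hm b hb, fun h => hb1 (conj_eq_one_iff.1 h),
      fun h => hba (hi h), hm c hc, fun h => hc1 (conj_eq_one_iff.1 h), fun h => hca (hi h),
      fun h => hcb (hi h), fun h => hcab (hi (h.trans ?_))⟩
    show g * a * g⁻¹ * (g * b * g⁻¹) = g * (a * b) * g⁻¹
    group
  have hgen : ∀ u v : G, im u = im v → ∀ e ∈ E0, u * e * u⁻¹ = v * e * v⁻¹ := by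
    intro u v huv
    let H : Subgroup G := MonoidHom.eqLocus (cj u) (cj v) ⊓ E0
    simp only [im, Prod.mk.injEq] at huv
    have h5 : ({1, a, b, a * b, c} : Finset G) ⊆ (Set.toFinite (H : Set G)).toFinset := by
      intro x hx
      rw [Set.Finite.mem_toFinset]
      simp only [Finset.mem_insert, Finset.mem_singleton] at hx
      have haH : a ∈ H := ⟨huv.1, ha⟩
      have hbH : b ∈ H := ⟨huv.2.1, hb⟩
      rcases hx with r | r | r | r | r <;> subst r
      · exact H.one_mem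
      · exact haH
      · exact hbH
      · exact H.mul_mem haH hbH
      · exact ⟨huv.2.2, hc⟩
    have hsq := C.five.E0_sq
    have hab1 : a * b ≠ 1 := fun h => hba (by
      rw [← sq_inv (hsq a ha)]; exact eq_inv_of_mul_eq_one_right h)
    have h5' := Finset.card_le_card h5
    rw [← Set.ncard_eq_toFinset_card _ (Set.toFinite _), ← Nat.card_coe_set_eq, SetLike.coe_sort_coe] at h5'
    have hne : ({1, a, b, a * b, c} : Finset G).card = 5 := by
      rw [Finset.card_insert_of_notMem (by simp [Ne.symm ha', Ne.symm hb1, Ne.symm hab1, Ne.symm hc1]),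
        Finset.card_insert_of_notMem (by simp [Ne.symm hba, hb1, Ne.symm hca]),
        Finset.card_insert_of_notMem (by simp [ha', Ne.symm hcb]),
        Finset.card_insert_of_notMem (by simp [Ne.symm hcab]), Finset.card_singleton]
    rw [hne] at h5'
    have hd : Nat.card H ∣ 8 := hE ▸ card_dvd_of_le inf_le_right
    have h8 : Nat.card H = 8 := by
      have h5 : Nat.card H ≤ 8 := Nat.le_of_dvd (by norm_num) hd
      generalize Nat.card H = m at *
      interval_cases m <;> omega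
    have hHE : H = E0 := eq_of_le_of_card_ge inf_le_right (by rw [h8, hE])
    intro e he
    exact (hHE.ge he).1
  let g : SL32 → Tr := fun x => ⟨im (Function.surjInv C.five.surj x : ↥J),
    him _ (J_norm C (Function.surjInv C.five.surj x).2)⟩
  have hinj : Function.Injective g := by
    intro x y hxy
    have h1 := hgen _ _ (congrArg Subtype.val hxy)
    set u := Function.surjInv C.five.surj x
    set v := Function.surjInv C.five.surj y
    have h2 : ((u⁻¹ * v : ↥J) : G) ∈ E0 := cent_E0 C.five C.h7 (u⁻¹ * v).2 fun e he => by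
      show e * ((u : G)⁻¹ * v) = (u : G)⁻¹ * v * e
      calc e * ((u : G)⁻¹ * v) = (u : G)⁻¹ * (u * e * (u : G)⁻¹) * v := by group
        _ = (u : G)⁻¹ * v * e := by rw [h1 e he]; group
    rw [← C.five.ker, map_mul, map_inv, inv_mul_eq_one, Function.surjInv_eq C.five.surj,
      Function.surjInv_eq C.five.surj] at h2
    exact h2
  have hcard : Nat.card Tr ≤ 168 := by
    rw [Nat.card_coe_set_eq]; exact ncard_bases hE C.five.E0_sq
  have hsurj := ((Nat.bijective_iff_injective_and_card g).2 ⟨hinj, le_antisymm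
    (Nat.card_le_card_of_injective g hinj) (by rw [J4TrioGen48.sl32_card]; exact hcard)⟩).2
  obtain ⟨x, hx⟩ := hsurj ⟨im n, him n hn⟩
  exact ⟨_, (Function.surjInv C.five.surj x).2, hgen _ _ (congrArg Subtype.val hx).symm⟩

/-- The normaliser of the core is the normaliser of `E0`. -/
theorem norm_eq : normalizer ((LL E0 : Subgroup G) : Set G) = normalizer (E0 : Set G) := by
  refine le_antisymm (fun n hn => norm_of_conj fun e he => ?_) (fun n hn => norm_of_conj fun l hl =>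
    LL_norm hn hl)
  rw [← center_eq C] at he
  rw [← center_eq C]
  refine ⟨(mem_normalizer_iff.1 hn e).1 he.1, mem_centralizer_iff.2 fun l hl => ?_⟩
  have h1 := mem_centralizer_iff.1 he.2 (n⁻¹ * l * n) (by
    rw [SetLike.mem_coe, mem_normalizer_iff.1 hn]
    simpa [mul_assoc] using hl)
  calc l * (n * e * n⁻¹) = n * (n⁻¹ * l * n * e) * n⁻¹ := by group
    _ = n * e * n⁻¹ * l := by rw [h1]; group

theorem T_le_N : centralizer (E0 : Set G) ≤ normalizer ((LL E0 : Subgroup G) : Set G) := fun _ ht =>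
  (norm_eq C).ge (norm_of_cent ht)

theorem J_le_N : J ≤ normalizer ((LL E0 : Subgroup G) : Set G) := fun _ hj =>
  (norm_eq C).ge (J_norm C hj)

theorem I_le_N : I ≤ normalizer ((LL E0 : Subgroup G) : Set G) := (I_le_T C).1.trans (T_le_N C)

theorem exists_decomp {n : G} (hn : n ∈ normalizer ((LL E0 : Subgroup G) : Set G)) :
    ∃ l ∈ LL E0, ∃ i ∈ I, ∃ j ∈ J, n = l * i * j := by
  rw [norm_eq C] at hn
  obtain ⟨j, hj, h⟩ := exists_same C hn
  obtain ⟨l, hl, i, hi, e⟩ := T_eq C (t := n * j⁻¹) (mem_centralizer_iff.2 fun e he => by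
    have := h (j⁻¹ * e * j) (by simpa using C.five.E0_norm _ (J.inv_mem hj) e he)
    calc e * (n * j⁻¹) = j * (j⁻¹ * e * j) * j⁻¹ * (n * j⁻¹) := by group
      _ = n * j⁻¹ * e := by rw [← this]; group)
  exact ⟨l, hl, i, hi, j, hj, by rw [← e]; group⟩

/-- The homomorphism of the normaliser onto `S₅ × L₃(2)`. -/
theorem exists_chi : ∃ χ : ↥(normalizer ((LL E0 : Subgroup G) : Set G)) →* S₅ × SL32,
    Function.Surjective χ ∧ (∀ n, χ n = 1 ↔ (n : G) ∈ LL E0) ∧
    (∀ (n : ↥(normalizer ((LL E0 : Subgroup G) : Set G))) (i : ↥I), (n : G) = i → χ n = (φ i, 1)) ∧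
    ∀ (n : ↥(normalizer ((LL E0 : Subgroup G) : Set G))) (j : ↥J), (n : G) = j → χ n = (1, θ j) := by
  set N := normalizer ((LL E0 : Subgroup G) : Set G) with hN
  haveI hLn : ((LL E0).subgroupOf N).Normal := ⟨fun a ha n => mem_subgroupOf.2
    (LL_norm ((norm_eq C).le n.2) (mem_subgroupOf.1 ha))⟩
  set q := QuotientGroup.mk' ((LL E0).subgroupOf N) with hq
  have hq1 : ∀ n : ↥N, q n = 1 ↔ (n : G) ∈ LL E0 := fun n => QuotientGroup.eq_one_iff n
  let qI := q.comp (Subgroup.inclusion (I_le_N C))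
  let qJ := q.comp (Subgroup.inclusion (J_le_N C))
  haveI hTn : ((centralizer (E0 : Set G)).subgroupOf N).Normal := ⟨fun a ha n => mem_subgroupOf.2
    (cent_norm ((norm_eq C).le n.2) (mem_subgroupOf.1 ha))⟩
  have hrange : qI.range = ((centralizer (E0 : Set G)).subgroupOf N).map q := by
    ext x
    constructor
    · rintro ⟨i, rfl⟩
      exact ⟨Subgroup.inclusion (I_le_N C) i, (I_le_T C).1 i.2, rfl⟩
    · rintro ⟨t, ht, rfl⟩
      obtain ⟨l, hl, i, hi, e⟩ := T_eq C ht
      refine ⟨⟨i, hi⟩, ?_⟩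
      have : t = ⟨l, T_le_N C (LL_le E0 hl)⟩ * Subgroup.inclusion (I_le_N C) ⟨i, hi⟩ := Subtype.ext e
      rw [this, map_mul, (hq1 _).2 hl, one_mul]
      rfl
  haveI hRn : qI.range.Normal := hrange ▸ hTn.map q (QuotientGroup.mk'_surjective _)
  let J' : Subgroup ↥J := (centralizer (qI.range : Set (↥N ⧸ (LL E0).subgroupOf N))).comap qJ
  haveI : J'.Normal := by unfold J'; infer_instance
  have hJ' : J' = ⊤ := by
    rcases normal_cases C.five J' (fun x hx => mem_comap.2 (by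
      rw [show qJ x = 1 from (hq1 _).2 (E0_le_L C ((C.five.ker x).1 hx))]
      exact one_mem _)) with e | e
    · exfalso
      obtain ⟨s, hs, hgen⟩ := exists_s C
      have hsS : s ∈ S := hgen ▸ mem_zpowers s
      have hmem : (⟨s, C.SJ hsS⟩ : ↥J) ∈ J' := mem_comap.2 (mem_centralizer_iff.2 (by
        rintro _ ⟨i, rfl⟩
        rw [MonoidHom.comp_apply, MonoidHom.comp_apply, ← map_mul, ← map_mul]
        exact congrArg q (Subtype.ext (SI_comm C hsS i.2).symm)))
      have h1 := C.five.E0_sq s ((C.five.ker _).1 (e.le hmem))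
      have h2 : orderOf s ∣ 2 := orderOf_dvd_of_pow_eq_one (by rw [pow_two]; exact h1)
      rw [hs] at h2
      norm_num at h2
    · exact e
  have hcomm : ∀ (i : ↥I) (j : ↥J), Commute (qI i) (qJ j) := fun i j =>
    mem_centralizer_iff.1 (mem_comap.1 (hJ'.ge (mem_top j))) _ ⟨i, rfl⟩
  set Ω := qI.noncommCoprod qJ hcomm with hΩ
  have hΩs : Function.Surjective Ω := fun x => by
    induction x using QuotientGroup.induction_on with
    | _ n =>
      obtain ⟨l, hl, i, hi, j, hj, e⟩ := exists_decomp C n.2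
      refine ⟨(⟨i, hi⟩, ⟨j, hj⟩), ?_⟩
      have : n = ⟨l, T_le_N C (LL_le E0 hl)⟩ * Subgroup.inclusion (I_le_N C) ⟨i, hi⟩ *
          Subgroup.inclusion (J_le_N C) ⟨j, hj⟩ := Subtype.ext e
      show qI ⟨i, hi⟩ * qJ ⟨j, hj⟩ = q n
      rw [this, map_mul, map_mul, (hq1 _).2 hl, one_mul]
      rfl
  set η := φ.toMonoidHom.prodMap θ with hη
  have hηs : Function.Surjective η := fun x => by
    obtain ⟨i, hi⟩ := φ.surjective x.1
    obtain ⟨j, hj⟩ := C.five.surj x.2
    exact ⟨(i, j), Prod.ext hi hj⟩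
  have hker : Ω.ker = η.ker := by
    ext ⟨i, j⟩
    rw [MonoidHom.mem_ker, MonoidHom.mem_ker]
    show qI i * qJ j = 1 ↔ (φ i, θ j) = 1
    rw [Prod.mk_eq_one, MulEquiv.map_eq_one_iff, C.five.ker]
    constructor
    · intro h
      rw [MonoidHom.comp_apply, MonoidHom.comp_apply, ← map_mul, hq1] at h
      have hjT : (j : G) ∈ centralizer (E0 : Set G) := by
        have h2 := mul_mem (inv_mem ((I_le_T C).1 i.2)) (LL_le E0 h)
        simpa using h2
      have hjE : (j : G) ∈ E0 := cent_E0 C.five C.h7 j.2 (mem_centralizer_iff.1 hjT)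
      refine ⟨?_, hjE⟩
      have hiL : (i : G) ∈ LL E0 ⊓ I := ⟨by
        simpa using mul_mem h (inv_mem (E0_le_L C hjE)), i.2⟩
      rw [L_inf_I C, mem_bot] at hiL
      exact Subtype.ext hiL
    · rintro ⟨rfl, hj⟩
      rw [map_one, one_mul]
      exact (hq1 _).2 (E0_le_L C hj)
  let ε := (QuotientGroup.quotientKerEquivOfSurjective Ω hΩs).symm.trans
    ((QuotientGroup.quotientMulEquivOfEq hker).trans (QuotientGroup.quotientKerEquivOfSurjective η hηs))
  have hεΩ : ∀ x, ε (Ω x) = η x := fun x => by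
    have h1 : (QuotientGroup.quotientKerEquivOfSurjective Ω hΩs).symm (Ω x) = QuotientGroup.mk x :=
      (MulEquiv.symm_apply_eq _).2 rfl
    show QuotientGroup.quotientKerEquivOfSurjective η hηs (QuotientGroup.quotientMulEquivOfEq hker
      ((QuotientGroup.quotientKerEquivOfSurjective Ω hΩs).symm (Ω x))) = η x
    rw [h1]
    rfl
  refine ⟨ε.toMonoidHom.comp q, ε.surjective.comp (QuotientGroup.mk'_surjective _), fun n => ?_, ?_, ?_⟩
  · rw [MonoidHom.comp_apply, MulEquiv.coe_toMonoidHom, MulEquiv.map_eq_one_iff, hq1]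
  · intro n i hni
    show ε (q n) = _
    have : q n = Ω (i, 1) := by
      show q n = qI i * qJ 1
      rw [map_one, mul_one]
      exact congrArg q (Subtype.ext hni)
    rw [this, hεΩ]
    show (φ i, θ 1) = _
    rw [map_one]
  · intro n j hnj
    show ε (q n) = _
    have : q n = Ω (1, j) := by
      show q n = qI 1 * qJ j
      rw [map_one, one_mul]
      exact congrArg q (Subtype.ext hnj)
    rw [this, hεΩ]
    show (φ 1, θ j) = _
    rw [map_one]

theorem quot_iso : Nonempty (↥(normalizer ((LL E0 : Subgroup G) : Set G)) ⧸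
    (LL E0).subgroupOf (normalizer ((LL E0 : Subgroup G) : Set G)) ≃* S₅ × SL32) := by
  obtain ⟨χ, hs, hk, -⟩ := exists_chi C
  exact ⟨(QuotientGroup.quotientMulEquivOfEq (by ext n; rw [MonoidHom.mem_ker, hk, mem_subgroupOf])).trans
    (QuotientGroup.quotientKerEquivOfSurjective χ hs)⟩

theorem C_Q_le_N : centralizer (Q : Set G) ≤ normalizer ((LL E0 : Subgroup G) : Set G) := fun x hx => by
  obtain ⟨a, ha, b, hb, rfl⟩ := idp_exists C.five.idp hx
  exact mul_mem (T_le_N C (Q_le_T C ha)) (J_le_N C hb)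

/-- The core has no complement in its normaliser. -/
theorem no_complement : ∀ K : Subgroup ↥(normalizer ((LL E0 : Subgroup G) : Set G)),
    ¬ ((LL E0).subgroupOf (normalizer ((LL E0 : Subgroup G) : Set G))).IsComplement' K := by
  set N := normalizer ((LL E0 : Subgroup G) : Set G) with hN
  set L' := (LL E0).subgroupOf N with hL'
  intro K hK
  haveI hLn : L'.Normal := ⟨fun a ha n => mem_subgroupOf.2
    (LL_norm ((norm_eq C).le n.2) (mem_subgroupOf.1 ha))⟩
  haveI : Fact (Nat.Prime 5) := ⟨by norm_num⟩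
  obtain ⟨χ, hs, hk, -⟩ := exists_chi C
  have hKcard : Nat.card K = 120 * 168 := by
    have h1 := hK.card_mul_card
    have h2 := χ.ker.card_mul_index
    have h3 : χ.ker = L' := by ext n; rw [MonoidHom.mem_ker, hk, hL', mem_subgroupOf]
    rw [h3] at h2
    have h4 : L'.index = 120 * 168 := by
      rw [← h3, Subgroup.index_ker, MonoidHom.range_eq_top.2 hs, card_top, Nat.card_prod, card_S5,
        J4TrioGen48.sl32_card]
    rw [h4] at h2
    exact Nat.eq_of_mul_eq_mul_left Nat.card_pos (h1.trans h2.symm)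
  obtain ⟨a, haK, -, ha⟩ := exists_sub (A := K) (q := 5) (by rw [hKcard]; norm_num)
  have hQN : Q ≤ N := (Q_le_T C).trans (T_le_N C)
  have h25 : ¬ 5 ^ 2 ∣ Nat.card ↥N := fun h => C.nofive (h.trans N.card_subgroup_dvd_card)
  obtain ⟨g, hg⟩ := sylow_conj h25 (zpowers a) (Q.subgroupOf N) ha
    (by rw [Nat.card_congr (subgroupOfEquivOfLe hQN).toEquiv, C.five.qcard])
  set K' := K.map (cj g) with hK'
  have hQK : Q.subgroupOf N ≤ K' := hg ▸ map_mono (zpowers_le.2 haK)
  have hdis : ∀ x ∈ K', x ∈ L' → x = 1 := by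
    intro x hx hxL
    have h1 : g⁻¹ * x * g ∈ L' ⊓ K := ⟨by
      have := hLn.conj_mem x hxL g⁻¹
      rwa [inv_inv] at this, mem_cj.1 hx⟩
    rw [disjoint_iff.1 hK.disjoint, mem_bot] at h1
    calc x = g * (g⁻¹ * x * g) * g⁻¹ := by group
      _ = 1 := by rw [h1]; group
  have hdec : ∀ n : ↥N, ∃ l ∈ L', ∃ k ∈ K', n = l * k := by
    intro n
    obtain ⟨⟨l, k⟩, e⟩ := hK.2 (g⁻¹ * n * g)
    refine ⟨g * l * g⁻¹, hLn.conj_mem _ l.2 g, g * k * g⁻¹, conj_mem_cj k.2, ?_⟩
    calc n = g * (g⁻¹ * n * g) * g⁻¹ := by group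
      _ = g * (l * k : ↥N) * g⁻¹ := by rw [← e]
      _ = _ := by group
  set K3 := K'.map N.subtype ⊓ J with hK3
  have hdj : K3 ⊓ E0 = ⊥ := by
    rw [eq_bot_iff_forall]
    rintro x ⟨⟨⟨k, hkK, rfl⟩, -⟩, hxE⟩
    rw [hdis k hkK (mem_subgroupOf.2 (E0_le_L C hxE)), map_one]
  refine C.five.nonsplit K3 inf_le_right hdj ?_
  -- `K3` covers `J` modulo `E0`
  have hcov : ∀ j : ↥J, ∃ k : ↥K3, θ ⟨k, k.2.2⟩ = θ j := by
    intro j
    obtain ⟨l, hl, k, hk', e⟩ := hdec ⟨j, J_le_N C j.2⟩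
    have hcq : ∀ x ∈ Q, x * (k : G) = k * x := by
      intro x hx
      set y : ↥N := ⟨x, hQN hx⟩
      have hy : y ∈ K' := hQK (mem_subgroupOf.2 hx)
      have hfix : (l * k) * y * (l * k)⁻¹ = y := by
        rw [← e]
        refine Subtype.ext ?_
        show (j : G) * x * (j : G)⁻¹ = x
        rw [← C.five.idp.2.2.1 x hx j j.2]
        group
      have h1 : k * y * k⁻¹ * y⁻¹ ∈ K' :=
        mul_mem (mul_mem (mul_mem hk' hy) (inv_mem hk')) (inv_mem hy)
      have h2 : k * y * k⁻¹ * y⁻¹ ∈ L' := by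
        have e2 : k * y * k⁻¹ * y⁻¹ = l⁻¹ * (y * l * y⁻¹) := by
          calc k * y * k⁻¹ * y⁻¹ = l⁻¹ * ((l * k) * y * (l * k)⁻¹) * l * y⁻¹ := by group
            _ = l⁻¹ * (y * l * y⁻¹) := by rw [hfix]; group
        rw [e2]
        exact mul_mem (inv_mem hl) (hLn.conj_mem l hl y)
      have h3 := congrArg Subtype.val (mul_inv_eq_one.1 (hdis _ h1 h2))
      exact (mul_inv_eq_iff_eq_mul.1 h3).symm
    have hj' : (j : G) = (l : G) * k := congrArg Subtype.val e
    have hlE : (l : G) ∈ E0 := L_Q C hl fun x hx => by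
      have h1 := C.five.idp.2.2.1 x hx j j.2
      have hl' : (l : G) = j * (k : G)⁻¹ := by rw [hj']; group
      rw [hl', ← mul_assoc, h1, mul_assoc, ← (show Commute x (k : G) from hcq x hx).inv_right.eq.symm,
        mul_assoc]
    have hkJ : (k : G) ∈ J := by
      have : (k : G) = (l : G)⁻¹ * j := by rw [hj']; group
      rw [this]; exact mul_mem (inv_mem (C.five.E0_le hlE)) j.2
    refine ⟨⟨k, ⟨k, hk', rfl⟩, hkJ⟩, ?_⟩
    have hlj : (⟨l, C.five.E0_le hlE⟩ : ↥J) * ⟨k, hkJ⟩ = j := Subtype.ext hj'.symm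
    rw [← hlj, map_mul, (C.five.ker ⟨l, C.five.E0_le hlE⟩).2 hlE, one_mul]
  let f : ↥K3 → SL32 := fun k => θ ⟨k, k.2.2⟩
  have hb : Function.Bijective f := ⟨fun u v h => by
    have h1 : θ (⟨u, u.2.2⟩⁻¹ * ⟨v, v.2.2⟩) = 1 := by
      rw [map_mul, map_inv, inv_mul_eq_one]; exact h
    have h2 : (u : G)⁻¹ * v ∈ K3 ⊓ E0 := ⟨K3.mul_mem (K3.inv_mem u.2) v.2, (C.five.ker _).1 h1⟩
    rw [hdj, mem_bot, inv_mul_eq_one] at h2
    exact Subtype.ext h2, fun x => by
    obtain ⟨j, rfl⟩ := C.five.surj x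
    exact hcov j⟩
  rw [Nat.card_eq_of_bijective f hb, J4TrioGen48.sl32_card]

end Main

end Cfsg.Agent.J4TrioNorm48
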