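import Mathlib
import Cfsg.Agent.Lib.J4TrioNorm48

/-!
A special group of order `2 ^ 15` in a group of Janko-four type whose normaliser is an extension of it by
`S₅ × L₃(2)`, from the centralisers of elements of orders three, five and seven.
-/

set_option autoImplicit false
set_option linter.unusedSectionVars false
set_option linter.style.haveILetI false

namespace Cfsg.Agent.J4Trio48

open scoped commutatorElement
open Subgroup Cfsg Cfsg.Agent.J4TrioBase48 Cfsg.Agent.J4TrioFive48 Cfsg.Agent.J4TrioCore48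
  Cfsg.Agent.J4TrioNorm48 Cfsg.Agent.JFourSetting97

local notation "SL32" => Matrix.SpecialLinearGroup (Fin 3) (ZMod 2)
local notation "S₅" => Equiv.Perm (Fin 5)

section Main

variable {G : Type*} [Group G] [Finite G] {z w : G} {P Q S I J E0 D : Subgroup G} {θ : ↥J →* SL32}
  {φ : ↥I ≃* S₅} (C : Cfg z w P Q S I J E0 D θ φ)
include C

local notation "NN" => normalizer ((LL E0 : Subgroup G) : Set G)

theorem exists_p : ∃ p : G, orderOf p = 3 ∧ zpowers p = P ∧ p ∈ I ∧ p ∈ centralizer (E0 : Set G) := by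
  haveI : Fact (Nat.Prime 3) := ⟨Nat.prime_three⟩
  obtain ⟨p, hp, hgen⟩ := exists_gen C.pcard
  have hI : p ∈ I := C.PI (hgen ▸ mem_zpowers p)
  exact ⟨p, hp, hgen, hI, (I_le_T C).1 hI⟩

/-- An element of `J` agrees modulo the core with an element of the normaliser centralising `P`. -/
theorem exists_lift (χ : ↥NN →* S₅ × SL32) (hk : ∀ n, χ n = 1 ↔ (n : G) ∈ LL E0)
    (hI : ∀ (n : ↥NN) (i : ↥I), (n : G) = i → χ n = (φ i, 1))
    (hJ : ∀ (n : ↥NN) (j : ↥J), (n : G) = j → χ n = (1, θ j)) (j : ↥J) :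
    ∃ n : ↥NN, (n : G) ∈ centralizer (P : Set G) ∧ χ n = (1, θ j) := by
  haveI : Fact (Nat.Prime 3) := ⟨Nat.prime_three⟩
  obtain ⟨p, hp, hgen, hpI, -⟩ := exists_p C
  let pN : ↥NN := ⟨p, I_le_N C hpI⟩
  let jN : ↥NN := ⟨j, J_le_N C j.2⟩
  have hχp : χ pN = (φ ⟨p, hpI⟩, 1) := hI pN ⟨p, hpI⟩ rfl
  have hχj : χ jN = (1, θ j) := hJ jN j rfl
  have hcom : Commute (χ pN) (χ jN) := by rw [hχp, hχj]; exact Prod.ext (by simp) (by simp)
  have hpN : orderOf pN = 3 := by rw [← Subgroup.orderOf_coe]; exact hp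
  have hinj : ∀ x ∈ zpowers pN, χ x = 1 → x = 1 := by
    intro x hx h1
    have hxI : (x : G) ∈ I := by
      obtain ⟨i, rfl⟩ := mem_zpowers_iff.1 hx
      rw [SubgroupClass.coe_zpow]
      exact zpow_mem hpI i
    have : (x : G) ∈ LL E0 ⊓ I := ⟨(hk x).1 h1, hxI⟩
    rw [L_inf_I C, mem_bot] at this
    exact Subtype.ext this
  have hord : Nat.card (zpowers (χ pN)) = 3 := by
    rw [Nat.card_zpowers]
    refine orderOf_eq_prime (by rw [← map_pow, orderOf_dvd_iff_pow_eq_one.1 hpN.dvd, map_one]) fun h => ?_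
    rw [hinj pN (mem_zpowers _) h, orderOf_one] at hpN
    norm_num at hpN
  set W : Subgroup ↥NN := (zpowers (χ pN)).comap χ with hW
  have hWcard : Nat.card W = 2 ^ 15 * 3 := by
    have hle : χ.ker ≤ W := fun x hx => mem_comap.2 (by rw [MonoidHom.mem_ker.1 hx]; exact one_mem _)
    have hker : Nat.card χ.ker = 2 ^ 15 := by
      have e : χ.ker = (LL E0).subgroupOf NN := by
        ext n; rw [MonoidHom.mem_ker, hk, mem_subgroupOf]
      rw [e, Nat.card_congr (subgroupOfEquivOfLe le_normalizer).toEquiv, card_L C]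
    have hr : (χ.comp W.subtype).range = zpowers (χ pN) := by
      apply le_antisymm
      · rintro _ ⟨x, rfl⟩; exact x.2
      · rw [zpowers_le]; exact ⟨⟨pN, mem_comap.2 (mem_zpowers _)⟩, rfl⟩
    rw [← (χ.comp W.subtype).ker.card_mul_index, Subgroup.index_ker, hr, hord,
      show (χ.comp W.subtype).ker = χ.ker.subgroupOf W from rfl,
      Nat.card_congr (subgroupOfEquivOfLe hle).toEquiv, hker]
  have hpW : pN ∈ W := mem_comap.2 (mem_zpowers _)
  have hjpW : jN * pN * jN⁻¹ ∈ W := mem_comap.2 (by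
    rw [map_mul, map_mul, map_inv, ← hcom.eq, mul_inv_cancel_right]; exact mem_zpowers _)
  have h9 : ¬ 3 ^ 2 ∣ Nat.card W := by rw [hWcard]; norm_num
  obtain ⟨v, hv⟩ := sylow_conj h9 (zpowers (⟨pN, hpW⟩ : W)) (zpowers ⟨jN * pN * jN⁻¹, hjpW⟩)
    (by rw [Nat.card_zpowers, ← Subgroup.orderOf_coe]; exact hpN)
    (by rw [Nat.card_zpowers, ← Subgroup.orderOf_coe]
        show orderOf (jN * pN * jN⁻¹) = 3
        rw [← hpN]
        exact (MulEquiv.orderOf_eq (MulAut.conj jN) pN))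
  have hmem : (⟨jN * pN * jN⁻¹, hjpW⟩ : W) ∈ (zpowers (⟨pN, hpW⟩ : W)).map (cj v) :=
    hv.ge (mem_zpowers _)
  obtain ⟨i, hi⟩ := mem_zpowers_iff.1 (mem_cj.1 hmem)
  set n1 : ↥NN := (v : ↥NN)⁻¹ * jN with hn1
  have hconj : n1 * pN * n1⁻¹ = pN ^ i := by
    have := congrArg Subtype.val hi
    simp only [SubgroupClass.coe_zpow, Subgroup.coe_mul, Subgroup.coe_inv] at this
    rw [this, hn1]
    group
  obtain ⟨m, hm⟩ := mem_zpowers_iff.1 (mem_comap.1 v.2)
  have hχn1 : χ n1 = χ pN ^ (-m) * χ jN := by rw [hn1, map_mul, map_inv, ← hm, zpow_neg]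
  have hfix : n1 * pN * n1⁻¹ = pN := by
    have h1 : χ (n1 * pN * n1⁻¹) = χ pN := by
      rw [map_mul, map_mul, map_inv, hχn1]
      calc χ pN ^ (-m) * χ jN * χ pN * (χ pN ^ (-m) * χ jN)⁻¹
          = χ pN ^ (-m) * (χ jN * χ pN * (χ jN)⁻¹) * (χ pN ^ (-m))⁻¹ := by group
        _ = χ pN := by rw [← hcom.eq, mul_inv_cancel_right]; group
    refine mul_inv_eq_one.1 (hinj _ ?_ (by rw [map_mul, map_inv, h1, mul_inv_cancel]))
    exact mul_mem (hconj ▸ zpow_mem (mem_zpowers _) i) (inv_mem (mem_zpowers _))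
  refine ⟨pN ^ m * n1, ?_, ?_⟩
  · rw [← hgen]
    refine mem_cent_zpowers.2 (mem_centralizer_singleton_iff.2 ?_)
    have hc : Commute (pN ^ m * n1) pN :=
      ((Commute.refl pN).zpow_left m).mul_left (show Commute n1 pN from mul_inv_eq_iff_eq_mul.1 hfix)
    exact congrArg Subtype.val hc.eq
  · rw [map_mul, map_zpow, hχn1, ← mul_assoc, ← zpow_add, add_neg_cancel, zpow_zero, one_mul, hχj]

/-- The normaliser contains a complement of order 168 modulo `S₅`. -/
theorem exists_sl32 {N : Subgroup G} {q : G} (K : Pack z P N q) :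
    ∃ K2 : Subgroup G, K2 ≤ NN ∧ Nonempty (↥K2 ≃* SL32) := by
  classical
  haveI : Fact (Nat.Prime 7) := ⟨by norm_num⟩
  obtain ⟨χ, -, hk, hI, hJ⟩ := exists_chi C
  obtain ⟨p, hp, hgen, hpI, hpT⟩ := exists_p C
  set Y : Subgroup ↥NN := (centralizer (P : Set G)).subgroupOf NN ⊓
    ((MonoidHom.fst S₅ SL32).comp χ).ker with hY
  let ψ : ↥Y →* SL32 := ((MonoidHom.snd S₅ SL32).comp χ).comp Y.subtype
  have hψs : Function.Surjective ψ := fun x => by
    obtain ⟨j, rfl⟩ := C.five.surj x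
    obtain ⟨n, hn, hn'⟩ := exists_lift C χ hk hI hJ j
    exact ⟨⟨n, mem_subgroupOf.2 hn, by
      show (χ n).1 = 1
      rw [hn']⟩, congrArg Prod.snd hn'⟩
  have hψk : ∀ y : ↥Y, ψ y = 1 ↔ ((y : ↥NN) : G) ∈ LL E0 := fun y => by
    rw [← hk]
    exact ⟨fun h => Prod.ext (MonoidHom.mem_ker.1 y.2.2) h, fun h => congrArg Prod.snd h⟩
  -- into M22
  obtain ⟨f, -, hfk, -⟩ := exists_hom K
  have hincl : Y.map (NN).subtype ≤ KK z P := by
    rintro _ ⟨y, hy, rfl⟩
    exact ⟨C.NP (Subgroup.centralizer_le_normalizer _ hy.1), hy.1⟩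
  let g : ↥Y →* ↥Cfsg.Spor.M22 := f.comp ((Subgroup.inclusion hincl).comp ((NN).subtype.subgroupMap Y))
  have hginj : Function.Injective g := by
    rw [injective_iff_map_eq_one]
    intro y hy
    have h1 : ((y : ↥NN) : G) ∈ zpowers (z * q) := by
      have h2 : (Subgroup.inclusion hincl ((NN).subtype.subgroupMap Y y)) ∈ f.ker := hy
      rw [hfk] at h2
      exact h2
    have hyI : ((y : ↥NN) : G) ∈ I := (zpowers_le.2 (mul_mem C.zI (C.PI (p_mem K)))) h1
    have h3 : φ ⟨_, hyI⟩ = 1 := by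
      have h4 := MonoidHom.mem_ker.1 y.2.2
      rw [MonoidHom.comp_apply, hI y ⟨_, hyI⟩ rfl] at h4
      exact h4
    rw [MulEquiv.map_eq_one_iff] at h3
    exact Subtype.ext (Subtype.ext (congrArg Subtype.val h3 : _))
  -- the kernel
  have hYcard : Nat.card Y = Nat.card ψ.ker * 168 := by
    rw [← ψ.ker.card_mul_index, Subgroup.index_ker, MonoidHom.range_eq_top.2 hψs, card_top,
      J4TrioGen48.sl32_card]
  have hA : (ψ.ker.map Y.subtype).map (NN).subtype = LL E0 ⊓ centralizer (P : Set G) := by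
    ext x
    constructor
    · rintro ⟨_, ⟨y, hy, rfl⟩, rfl⟩
      exact ⟨(hψk y).1 hy, y.2.1⟩
    · rintro ⟨hxL, hxP⟩
      have hxN : x ∈ NN := le_normalizer hxL
      have hy : (⟨x, hxN⟩ : ↥NN) ∈ Y := ⟨hxP, by
        show (χ ⟨x, hxN⟩).1 = 1
        rw [(hk _).2 hxL]; rfl⟩
      exact ⟨⟨x, hxN⟩, ⟨⟨_, hy⟩, (hψk _).2 hxL, rfl⟩, rfl⟩
  have hcard : Nat.card ψ.ker = Nat.card ↥(LL E0 ⊓ centralizer (P : Set G)) := by
    rw [← hA, card_map_of_injective Subtype.val_injective, card_map_of_injective Subtype.val_injective]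
  have hSP : ∀ s ∈ S, ∀ x ∈ P, s * x = x * s := fun s hs x hx => SI_comm C hs (C.PI hx)
  have hE : E0 ≤ LL E0 ⊓ centralizer (P : Set G) := fun e he => ⟨E0_le_L C he,
    mem_centralizer_iff.2 fun x hx => (mem_centralizer_iff.1 ((I_le_T C).1 (C.PI hx)) e he).symm⟩
  have h7 := card_S_inv C (A := LL E0 ⊓ centralizer (P : Set G)) inf_le_left fun s hs a ha =>
    ⟨LL_norm (J_norm C (C.SJ hs)) ha.1, mem_centralizer_iff.2 fun x hx => by
      have h1 := mem_centralizer_iff.1 ha.2 x hx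
      have h2 : Commute x s := (hSP s hs x hx).symm
      exact ((h2.mul_right (show Commute x a from h1)).mul_right h2.inv_right).eq⟩
  obtain ⟨k, hk2⟩ := two_pow_card ((LL_two E0).to_le
    (inf_le_left : LL E0 ⊓ centralizer (P : Set G) ≤ LL E0))
  have hM22 : Nat.card ↥Cfsg.Spor.M22 = 443520 := by
    have h1 := f.ker.card_mul_index
    rw [Subgroup.index_ker] at h1
    exact JFourM22Facts97.card_M22
  have hdvd : Nat.card Y ∣ 443520 := hM22 ▸ Subgroup.card_dvd_of_injective g hginj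
  rw [hYcard, hcard, hk2] at hdvd
  have h3 : 3 ≤ k := by
    have := Subgroup.card_le_of_le hE
    rw [C.five.E0_card, hk2, show 8 = 2 ^ 3 by norm_num] at this
    exact (Nat.pow_le_pow_iff_right (by norm_num)).1 this
  have h4 : k ≤ 4 := by
    by_contra hc
    push Not at hc
    have h1 : 2 ^ 5 * 168 ∣ 443520 := (Nat.mul_dvd_mul_right (pow_dvd_pow 2 hc) 168).trans hdvd
    norm_num at h1
  have hk3 : k = 3 := by
    rw [hk2] at h7
    unfold Nat.ModEq at h7
    interval_cases k <;> omega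
  have hAE : LL E0 ⊓ centralizer (P : Set G) = E0 :=
    (eq_of_le_of_card_ge hE (by rw [hk2, hk3, C.five.E0_card]; norm_num)).symm
  have hkerE : ∀ y ∈ ψ.ker, ((y : ↥NN) : G) ∈ E0 := fun y hy =>
    hAE.le ⟨(hψk y).1 hy, y.2.1⟩
  -- the element of order seven
  obtain ⟨s, hs, hsgen⟩ := exists_s C
  have hsS : s ∈ S := hsgen ▸ mem_zpowers s
  have hsY : (⟨s, J_le_N C (C.SJ hsS)⟩ : ↥NN) ∈ Y := ⟨mem_centralizer_iff.2 fun x hx =>
      (hSP s hsS x hx).symm, by
    show (χ _).1 = 1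
    rw [hJ _ ⟨s, C.SJ hsS⟩ rfl]⟩
  haveI : IsSimpleGroup (↥Y ⧸ ψ.ker) := by
    haveI := J4TrioGen48.sl32_simple
    exact (QuotientGroup.quotientKerEquivOfSurjective ψ hψs).isSimpleGroup
  have hfix : ∀ e ∈ ψ.ker, e ≠ 1 → Nat.card {a // (Cfsg.Spor.M22.subtype.comp g) e a = a} ≤ 8 := by
    intro e he he1
    have hge : g e ≠ 1 := fun h => he1 (hginj (h.trans (map_one g).symm))
    have h24 : ((g e : ↥Cfsg.Spor.M22) : Equiv.Perm GolayPt) ∈ M24 := (g e).2.1.1
    have he2 : orderOf ((g e : ↥Cfsg.Spor.M22) : Equiv.Perm GolayPt) = 2 := by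
      rw [Subgroup.orderOf_coe]
      refine orderOf_eq_prime ?_ hge
      rw [← map_pow, pow_two]
      rw [Subtype.ext (a1 := e * e) (a2 := 1) (Subtype.ext (C.five.E0_sq _ (hkerE e he))), map_one]
    rcases GolayInvolutions.classification.1 _ h24 he2 with r | r
    · have := JFourSecondData73.octad_card r
      rw [Nat.card_eq_fintype_card, Fintype.card_subtype]
      exact le_of_eq this
    · haveI : IsEmpty {a : GolayPt // (Cfsg.Spor.M22.subtype.comp g) e a = a} := ⟨fun a => r a.1 a.2⟩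
      rw [Nat.card_of_isEmpty]
      norm_num
  have hfree : ∀ e ∈ ψ.ker, e ≠ 1 → (⟨_, hsY⟩ : ↥Y) * e * (⟨_, hsY⟩ : ↥Y)⁻¹ ≠ e := by
    intro e he he1 hfix
    have h1 : s * ((e : ↥NN) : G) = ((e : ↥NN) : G) * s :=
      mul_inv_eq_iff_eq_mul.1 (congrArg (fun y : ↥Y => ((y : ↥NN) : G)) hfix)
    exact he1 (Subtype.ext (Subtype.ext (no_fix C.five C.h7 hs (C.SJ hsS) (hkerE e he) h1)))
  obtain ⟨C2, hC2, hC2c⟩ := J4TrioGen48.exists_complement (α := GolayPt)
    (by rw [Nat.card_eq_fintype_card]; rfl) (Cfsg.Spor.M22.subtype.comp g) ψ.ker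
    (by rw [hcard, hk2, hk3]; norm_num)
    (by rw [Nat.card_congr (QuotientGroup.quotientKerEquivOfSurjective ψ hψs).toEquiv,
      J4TrioGen48.sl32_card])
    (s := ⟨_, hsY⟩) (by rw [← Subgroup.orderOf_coe, ← Subgroup.orderOf_coe]; exact hs) hfix hfree
  have hinj : Function.Injective (ψ.comp C2.subtype) := by
    rw [injective_iff_map_eq_one]
    intro c hc
    have : (c : ↥Y) ∈ C2 ⊓ ψ.ker := ⟨c.2, hc⟩
    rw [hC2, mem_bot] at this
    exact Subtype.ext this
  have hbij := (Nat.bijective_iff_injective_and_card (ψ.comp C2.subtype)).2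
    ⟨hinj, by rw [hC2c, J4TrioGen48.sl32_card]⟩
  refine ⟨(C2.map Y.subtype).map (NN).subtype, map_subtype_le _, ⟨?_⟩⟩
  exact ((equivMapOfInjective _ _ Subtype.val_injective).symm.trans
    (equivMapOfInjective _ _ Subtype.val_injective).symm).trans
    (MulEquiv.ofBijective (ψ.comp C2.subtype) hbij)

theorem special : Cfsg.IsSpecial 2 ↥(LL E0) ∧ Nat.card ↥(center ↥(LL E0)) = 8 := by
  set L := LL E0 with hL
  have hcen : center ↥L = E0.subgroupOf L := by
    ext x
    rw [Subgroup.mem_center_iff, mem_subgroupOf]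
    constructor
    · intro h
      rw [← center_eq C]
      exact ⟨x.2, mem_centralizer_iff.2 fun l hl => congrArg Subtype.val (h ⟨l, hl⟩)⟩
    · intro h g
      rw [← center_eq C] at h
      exact Subtype.ext (mem_centralizer_iff.1 h.2 g g.2)
  have h1 : frattini ↥L ≤ center ↥L := by
    rw [hcen]
    exact LargeExtraspecial.frattini_le_of_sq_mem _ (fun x => mem_subgroupOf.2 (sq_mem C x.2))
      (fun x y => mem_subgroupOf.2 (comm_mem C x.2 y.2))
  have h2 := LFLocal52.commutator_le_frattini (LL_two E0)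
  have h3 : center ↥L ≤ _root_.commutator ↥L := by
    rw [hcen]
    rintro ⟨e, heL⟩ he
    rw [mem_subgroupOf] at he
    by_cases he1 : e = 1
    · subst he1; exact one_mem _
    obtain ⟨a, ha, b, hb, hab⟩ := C.line.nonab
    obtain ⟨j, hj, hje⟩ := trans_E0 C.five C.h7 C.wE C.w1 he he1
    have hj' := J_norm C hj
    have h4 : ⁅(⟨j * a * j⁻¹, LL_norm hj' (D_le_L C ha)⟩ : ↥L),
        (⟨j * b * j⁻¹, LL_norm hj' (D_le_L C hb)⟩ : ↥L)⁆ = ⟨e, heL⟩ := by
      refine Subtype.ext ?_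
      rw [commutatorElement_def]
      show j * a * j⁻¹ * (j * b * j⁻¹) * (j * a * j⁻¹)⁻¹ * (j * b * j⁻¹)⁻¹ = e
      refine Eq.trans ?_ hje
      rw [← hab]
      group
    rw [← h4, _root_.commutator_def]
    exact Subgroup.commutator_mem_commutator (mem_top _) (mem_top _)
  refine ⟨⟨LL_two E0, le_antisymm h1 (h3.trans h2), le_antisymm (h2.trans h1) h3⟩, ?_⟩
  rw [hcen, Nat.card_congr (subgroupOfEquivOfLe (E0_le_L C)).toEquiv, C.five.E0_card]

theorem sylow_five : ∃ R : Sylow 5 G, normalizer ((R : Subgroup G) : Set G) ≤ NN := by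
  haveI : Fact (Nat.Prime 5) := ⟨by norm_num⟩
  have hd : 5 ∣ Nat.card G := C.five.qcard ▸ Subgroup.card_subgroup_dvd_card Q
  have hf : (Nat.card G).factorization 5 = 1 := by
    have h1 := (Nat.Prime.pow_dvd_iff_le_factorization (k := 1) (Fact.out : Nat.Prime 5)
      Nat.card_pos.ne').1 (by rwa [pow_one])
    have h2 : ¬ 2 ≤ (Nat.card G).factorization 5 := fun h =>
      C.nofive ((Nat.Prime.pow_dvd_iff_le_factorization (Fact.out : Nat.Prime 5) Nat.card_pos.ne').2 h)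
    omega
  refine ⟨Sylow.ofCard Q (by rw [C.five.qcard, hf, pow_one]), ?_⟩
  intro g hg
  rw [Sylow.coe_ofCard] at hg
  have hCg : ∀ {n : G}, n ∈ normalizer (Q : Set G) → ∀ x ∈ centralizer (Q : Set G),
      n * x * n⁻¹ ∈ centralizer (Q : Set G) := fun hn x hx => cent_norm hn hx
  have hsub : ∀ e ∈ E0, g * e * g⁻¹ ∈ J := fun e he =>
    mem_J C.five (m := 2) (by norm_num)
      (mem_centralizer_iff.1 (hCg hg e (J_le C.five (C.five.E0_le he))))
      (by rw [conj_pow, pow_two e, C.five.E0_sq e he]; group)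
  haveI := J4TrioGen48.sl32_simple
  let X : Subgroup ↥J := (E0.map (cj g)).subgroupOf J
  haveI hXn : X.Normal := ⟨fun x hx j => by
    rw [mem_subgroupOf, mem_cj] at hx ⊢
    have hgj : g⁻¹ * (j : G) * g ∈ centralizer (Q : Set G) := by
      have := hCg (inv_mem hg) j (J_le C.five j.2)
      rwa [inv_inv] at this
    obtain ⟨a, ha, b, hb, hab⟩ := idp_exists C.five.idp hgj
    set e := g⁻¹ * (x : G) * g
    have h1 : g⁻¹ * ((j * x * j⁻¹ : ↥J) : G) * g = b * e * b⁻¹ := by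
      have h2 : a * (b * e * b⁻¹) = b * e * b⁻¹ * a :=
        C.five.idp.2.2.1 a ha _ (C.five.E0_le (C.five.E0_norm b hb e hx))
      calc g⁻¹ * ((j : G) * x * (j : G)⁻¹) * g
          = (g⁻¹ * j * g) * e * (g⁻¹ * j * g)⁻¹ := by simp only [e]; group
        _ = a * (b * e * b⁻¹) * a⁻¹ := by rw [hab]; group
        _ = b * e * b⁻¹ := by rw [h2]; group
    rw [h1]
    exact C.five.E0_norm b hb e hx⟩
  have hle : E0.map (cj g) ≤ J := by rintro _ ⟨e, he, rfl⟩; exact hsub e he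
  have hXc : Nat.card X = 8 := by
    rw [Nat.card_congr (subgroupOfEquivOfLe hle).toEquiv, card_cj, C.five.E0_card]
  have hbot : X.map θ = ⊥ := by
    rcases (hXn.map θ C.five.surj).eq_bot_or_eq_top with r | r
    · exact r
    · exfalso
      have h1 : Nat.card (X.map θ) ∣ Nat.card X := Subgroup.card_map_dvd _ _
      rw [r, card_top, J4TrioGen48.sl32_card, hXc] at h1
      norm_num at h1
  rw [norm_eq C]
  refine norm_of_conj fun e he => ?_
  have h1 : θ ⟨g * e * g⁻¹, hsub e he⟩ ∈ X.map θ :=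
    mem_map_of_mem _ (mem_subgroupOf.2 (conj_mem_cj he))
  rw [hbot, mem_bot] at h1
  exact (C.five.ker _).1 h1

theorem sylow_seven (hS : Nat.card ↥(normalizer (S : Set G)) = 3 * Nat.card ↥(centralizer (S : Set G))) :
    ∃ R : Sylow 7 G, normalizer ((R : Subgroup G) : Set G) ≤ NN := by
  haveI : Fact (Nat.Prime 7) := ⟨by norm_num⟩
  have hd : 7 ∣ Nat.card G := C.scard ▸ Subgroup.card_subgroup_dvd_card S
  have hf : (Nat.card G).factorization 7 = 1 := by
    have h1 := (Nat.Prime.pow_dvd_iff_le_factorization (k := 1) (Fact.out : Nat.Prime 7)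
      Nat.card_pos.ne').1 (by rwa [pow_one])
    have h2 : ¬ 2 ≤ (Nat.card G).factorization 7 := fun h =>
      C.noseven ((Nat.Prime.pow_dvd_iff_le_factorization (Fact.out : Nat.Prime 7) Nat.card_pos.ne').2 h)
    omega
  refine ⟨Sylow.ofCard S (by rw [C.scard, hf, pow_one]), ?_⟩
  rw [Sylow.coe_ofCard]
  have hCS : centralizer (S : Set G) ≤ NN := fun x hx => by
    obtain ⟨a, ha, b, hb, rfl⟩ := idp_exists C.sev hx
    exact mul_mem (J_le_N C (C.SJ ha)) (I_le_N C hb)
  -- an element of `J` moving the element of order seven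
  set M := normalizer (S : Set G) ⊓ NN with hM
  have hlt : ∃ x ∈ M, x ∉ centralizer (S : Set G) := by
    by_contra hno
    push Not at hno
    let P7 : Sylow 7 ↥J := Sylow.ofCard (S.subgroupOf J) (by
      rw [Nat.card_congr (subgroupOfEquivOfLe C.SJ).toEquiv, C.scard, card_J C.five,
        show 1344 = 2 ^ 6 * 3 * 7 by norm_num, Nat.factorization_mul (by norm_num) (by norm_num),
        Finsupp.add_apply, Nat.factorization_eq_zero_of_not_dvd (by norm_num : ¬ 7 ∣ 2 ^ 6 * 3),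
        Nat.Prime.factorization_self (by norm_num)]
      norm_num)
    have hnorm : normalizer ((P7 : Subgroup ↥J) : Set ↥J) = (P7 : Subgroup ↥J) := by
      refine le_antisymm (fun x hx => ?_) le_normalizer
      rw [Sylow.coe_ofCard] at hx ⊢
      rw [mem_subgroupOf]
      have hxn : (x : G) ∈ normalizer (S : Set G) := norm_of_conj fun a ha => by
        have h1 := (mem_normalizer_iff.1 hx (⟨a, C.SJ ha⟩ : ↥J)).1 (mem_subgroupOf.2 ha)
        exact mem_subgroupOf.1 h1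
      have hxc := hno x ⟨hxn, J_le_N C x.2⟩
      obtain ⟨a, ha, b, hb, hab⟩ := idp_exists C.sev hxc
      have hbJ : b ∈ J := by
        rw [show b = a⁻¹ * (x : G) by rw [hab]; group]; exact mul_mem (inv_mem (C.SJ ha)) x.2
      have hbE : b ∈ E0 := cent_E0 C.five C.h7 hbJ (mem_centralizer_iff.1 ((I_le_T C).1 hb))
      have hb1 : b = 1 := by
        obtain ⟨s, hs, hgen⟩ := exists_s C
        have hsS : s ∈ S := hgen ▸ mem_zpowers s
        exact no_fix C.five C.h7 hs (C.SJ hsS) hbE (SI_comm C hsS hb)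
      rw [hab, hb1, mul_one]
      exact ha
    have h1 := card_sylow_modEq_one 7 ↥J
    rw [Sylow.card_eq_index_normalizer P7] at h1
    change (normalizer ((P7 : Subgroup ↥J) : Set ↥J)).index ≡ 1 [MOD 7] at h1
    rw [hnorm, Sylow.coe_ofCard] at h1
    have h2 := (S.subgroupOf J).card_mul_index
    rw [Nat.card_congr (subgroupOfEquivOfLe C.SJ).toEquiv, C.scard, card_J C.five] at h2
    unfold Nat.ModEq at h1
    omega
  obtain ⟨x, hxM, hxC⟩ := hlt
  have hle : centralizer (S : Set G) ≤ M := le_inf (Subgroup.centralizer_le_normalizer _) hCS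
  have hd1 : Nat.card (centralizer (S : Set G)) ∣ Nat.card M := card_dvd_of_le hle
  have hd2 : Nat.card M ∣ 3 * Nat.card (centralizer (S : Set G)) := hS ▸ card_dvd_of_le inf_le_left
  obtain ⟨c, hc⟩ := hd1
  have hpos : 0 < Nat.card (centralizer (S : Set G)) := Nat.card_pos
  have hc3 : c ∣ 3 := by
    rw [hc, mul_comm 3] at hd2
    exact Nat.dvd_of_mul_dvd_mul_left hpos hd2
  have hceq : c = 3 := by
    rcases (Nat.dvd_prime Nat.prime_three).1 hc3 with r | r
    · exfalso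
      rw [r, mul_one] at hc
      exact hxC ((eq_of_le_of_card_ge hle hc.le).ge hxM)
    · exact r
  have hMN : M = normalizer (S : Set G) :=
    eq_of_le_of_card_ge inf_le_left (by rw [hS, hc, hceq, mul_comm])
  exact hMN.ge.trans inf_le_right

end Main

/-- The special group and the properties of its normaliser. -/
theorem trio {G : Type*} [Group G] [Finite G] (z : G) (P : Subgroup G)
    (hJ : Cfsg.IsOfJankoFourTypeWith z P)
    (hNP : normalizer (P : Set G) ≤ centralizer ({z} : Set G))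
    (h5 : ∀ Q : Subgroup G, Nat.card Q = 5 → Q ≤ centralizer ({z} : Set G) →
      ¬ (25 ∣ Nat.card G) ∧
      ∃ J : Subgroup G, Cfsg.IsInternalDirectProduct Q J (centralizer (Q : Set G)) ∧
        ∃ (E : Subgroup ↥J) (_ : E.Normal), Cfsg.IsElementaryAbelian 2 E ∧ Nat.card ↥E = 8 ∧
          Nonempty (↥J ⧸ E ≃* SL32) ∧ ∀ K : Subgroup ↥J, ¬ E.IsComplement' K)
    (h7 : ∀ S : Subgroup G, Nat.card S = 7 → S ≤ centralizer ({z} : Set G) →
      ¬ (49 ∣ Nat.card G) ∧
      (∃ I : Subgroup G, Cfsg.IsInternalDirectProduct S I (centralizer (S : Set G)) ∧ Nonempty (↥I ≃* S₅)) ∧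
      Nat.card ↥(normalizer (S : Set G)) = 3 * Nat.card ↥(centralizer (S : Set G))) :
    ∃ L : Subgroup G, Cfsg.IsSpecial 2 ↥L ∧ Nat.card ↥L = 2 ^ 15 ∧ Nat.card ↥(center ↥L) = 8 ∧
      Nonempty (↥(normalizer (L : Set G)) ⧸ L.subgroupOf (normalizer (L : Set G)) ≃* S₅ × SL32) ∧
      (∀ K : Subgroup ↥(normalizer (L : Set G)), ¬ (L.subgroupOf (normalizer (L : Set G))).IsComplement' K) ∧
      (∃ K₁ : Subgroup G, K₁ ≤ normalizer (L : Set G) ∧ Nonempty (↥K₁ ≃* S₅)) ∧
      (∃ K₂ : Subgroup G, K₂ ≤ normalizer (L : Set G) ∧ Nonempty (↥K₂ ≃* SL32)) ∧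
      (∃ Q : Sylow 5 G, normalizer ((Q : Subgroup G) : Set G) ≤ normalizer (L : Set G)) ∧
      (∃ S : Sylow 7 G, normalizer ((S : Subgroup G) : Set G) ≤ normalizer (L : Set G)) := by
  obtain ⟨w, Q, S, I, J, E0, D, θ, φ, C, hSz⟩ :=
    exists_cfg hJ hNP h5 fun S hS hSz => ⟨(h7 S hS hSz).1, (h7 S hS hSz).2.1⟩
  obtain ⟨N, q, K⟩ := exists_pack hJ
  exact ⟨LL E0, (special C).1, card_L C, (special C).2, quot_iso C, no_complement C,
    ⟨I, I_le_N C, ⟨φ⟩⟩, exists_sl32 C K, sylow_five C, sylow_seven C (h7 S C.scard hSz).2.2⟩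

end Cfsg.Agent.J4Trio48
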