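import Cfsg.Agent.Lib.GolayEnumComp
import Cfsg.Prelude.Def_Spor_J4

/-!
Shared definitions for the certificate that the presented fourth Janko group has the expected index
over the subgroup of shape 2^11 : M24.  Elements of that subgroup are pairs `(v, P)` of a twelve digit
even cocode word `v` and a coded permutation `P`, standing for `e v * m P`.
-/

set_option autoImplicit false

namespace Cfsg.Agent.J4XBase18

open Cfsg.Agent.GolayBasic Cfsg.Agent.GolayPerm Cfsg.Agent.GolayEnumComp

/-- The cocode class of a mask, in twelve digits. -/
def cv (v : ℕ) : ℕ := (v ^^^ enc (v &&& 4095)) >>> 12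

/-- Parity of the low twelve digits. -/
def par12 (v : ℕ) : Bool :=
  ((List.range 12).foldl (fun b k => b ^^ v.testBit k) false)

/-- The even classes. -/
def inE (v : ℕ) : Bool := decide (v < 4096) && !par12 v

/-- The action of a coded permutation on classes. -/
def vact (P v : ℕ) : ℕ := cv (pmask P (v <<< 12))

/-- The three octads fixed by the centraliser of the third generator. -/
def trio0 : List ℕ := [560668, 4485344, 11731203]

/-- The coded permutation permutes the three octads. -/
def fixT0 (P : ℕ) : Bool := trio0.all fun o => trio0.contains (pmask P o)

/-- A basis of the classes whose conjugate by the third generator stays in the subgroup, with the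
permutation part of that conjugate: `t * e v * t = e v * m P`. -/
def deList : List (ℕ × ℕ) :=
  [(2282, 964048407182602316934532090727873568), (2984, 882347702174517951620763603307694600),
   (1272, 349203007542633698174863381893319221), (1450, 28883877603931312833195863318865559),
   (2699, 693222715476034070299053596570103473), (4015, 965346966670364367458681901213092896),
   (2815, 23691902609993013530910936484907671), (1622, 48678543479395988511252799195024116),
   (881, 682838510472561512629757753662999217)]

/-- The two relations, as alternating words `m a₁ * t * m a₂ * t * ... * m aₖ`. -/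
def relA : List ℕ :=
  [652972543795511064724345351988956370, 46295494398780993553105610245520916,
   46295494398780993553105610245520916, 132056853011701137955993130399014568]

/-- The second relation. -/
def relB : List ℕ :=
  [612131189791198827083437709345656197, 807817067203401370953522382883932706,
   920433896810894153024533932203588721, 807817067203401370953522382883932706,
   231229256689100798787363907265069360]

variable {G : Type*} [Group G]

/-- The value of an alternating word. -/
def altVal (m : ℕ → G) (t : G) : List ℕ → G
  | [] => 1
  | [a] => m a
  | a :: b :: l => m a * t * altVal m t (b :: l)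

/-- What is needed about the subgroup and the third generator. -/
structure Setup (G : Type*) [Group G] where
  /-- the permutation part -/
  m : ℕ → G
  /-- the elementary abelian part -/
  e : ℕ → G
  /-- the third generator -/
  t : G
  m_mul : ∀ {P Q : ℕ}, good P = true → good Q = true → m (pcomp P Q) = m P * m Q
  e_mul : ∀ {a b : ℕ}, inE a = true → inE b = true → e (a ^^^ b) = e a * e b
  act : ∀ {P v : ℕ}, good P = true → inE v = true → m P * e v = e (vact P v) * m P
  tsq : t * t = 1
  kcomm : ∀ {P : ℕ}, good P = true → fixT0 P = true → t * m P = m P * t
  de : ∀ vP ∈ deList, t * e vP.1 * t = e vP.1 * m vP.2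
  rels : altVal m t relA = 1 ∧ altVal m t relB = 1
  gen : Subgroup.closure (Set.range m ∪ {x | ∃ v, inE v = true ∧ x = e v} ∪ {t}) = ⊤

/-- The value of a pair. -/
def psi (S : Setup G) (h : ℕ × ℕ) : G := S.e h.1 * S.m h.2

/-- Validity of a pair. -/
def okH (h : ℕ × ℕ) : Bool := inE h.1 && good h.2

/-- The product of pairs. -/
def hmul (h k : ℕ × ℕ) : ℕ × ℕ := (h.1 ^^^ vact h.2 k.1, pcomp h.2 k.2)

/-- The subgroup of shape 2^11 : M24. -/
def base (S : Setup G) : Subgroup G :=
  Subgroup.closure (Set.range S.m ∪ {x | ∃ v, inE v = true ∧ x = S.e v})

/-- The unfolding lemmas of the definitions above, made here once for all files that use them. -/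
theorem unfoldings : True := by
  have := @cv.eq_1
  have := @cv.eq_def
  have := @par12.eq_1
  have := @inE.eq_1
  have := @inE.eq_def
  have := @vact.eq_1
  have := @vact.eq_def
  have := @fixT0.eq_1
  have := @fixT0.eq_def
  have := @altVal.eq_1.{0}
  have := @altVal.eq_2.{0}
  have := @altVal.eq_3.{0}
  have := @altVal.eq_def.{0}
  have := @psi.eq_1.{0}
  have := @okH.eq_1
  have := @hmul.eq_1
  trivial

end Cfsg.Agent.J4XBase18
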