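import Mathlib
import Cfsg.Agent.Lib.M24DuadAut46
import Cfsg.Agent.Lib.J4XCentData4
import Cfsg.Agent.Lib.J4XCentImageData97

/-!
The twenty-one permutations of 77 points generate a group of order 887040 with a simple normal
subgroup of order 443520: the stabiliser of the duad {0, 23} acting on the octads through it.
-/

set_option autoImplicit false

namespace Cfsg.Agent.J4XCentImage97

open Cfsg Cfsg.Agent.GolayBasic Cfsg.Agent.GolayPerm Cfsg.Agent.GolayChain
open Cfsg.Agent.J4XCentData4 Cfsg.Agent.J4XCentImageData97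
open Cfsg.Agent.M24DuadAut46
open scoped Pointwise

/-! ### a straight line program -/

/-- each entry is a valid code of the product of two earlier entries -/
def slpCheck : List ℕ → List (ℕ × ℕ × ℕ) → Bool
  | _, [] => true
  | pool, (i, j, c) :: r =>
    decide (i < pool.length) && decide (j < pool.length) && valid c &&
      (pts.all fun x => pimg c x == pimg (pool.getD i 0) (pimg (pool.getD j 0) x)) &&
      slpCheck (pool ++ [c]) r

theorem mem_of_slp {H : Subgroup (Equiv.Perm GolayPt)} : ∀ (r : List (ℕ × ℕ × ℕ)) (pool : List ℕ),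
    slpCheck pool r = true → (∀ P ∈ pool, valid P = true ∧ permOf P ∈ H) →
    ∀ P ∈ pool ++ r.map (fun e => e.2.2), valid P = true ∧ permOf P ∈ H
  | [], pool, _, hp, P, hP => hp P (by simpa using hP)
  | (i, j, c) :: r, pool, hc, hp, P, hP => by
    simp only [slpCheck, Bool.and_eq_true, decide_eq_true_eq, List.all_eq_true, beq_iff_eq] at hc
    obtain ⟨⟨⟨⟨hi, hj⟩, hv⟩, hx⟩, hr⟩ := hc
    have hA := hp (pool.getD i 0) (by rw [List.getD_eq_getElem _ _ hi]; exact List.getElem_mem hi)
    have hB := hp (pool.getD j 0) (by rw [List.getD_eq_getElem _ _ hj]; exact List.getElem_mem hj)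
    have hC : permOf c ∈ H := by
      have e : permOf c = permOf (pool.getD i 0) * permOf (pool.getD j 0) :=
        Equiv.ext fun x => idx_inj (by
          rw [idx_permOf hv, Equiv.Perm.mul_apply, idx_permOf hA.1, idx_permOf hB.1]
          exact hx _ (mem_pts.2 (idx_lt x)))
      rw [e]
      exact mul_mem hA.2 hB.2
    refine mem_of_slp r (pool ++ [c]) hr (fun Q hQ => ?_) P (by simpa using hP)
    rcases List.mem_append.1 hQ with h | h
    · exact hp Q h
    · rw [List.mem_singleton.1 h]; exact ⟨hv, hC⟩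

/-! ### the group on the 24 points -/

/-- the stabiliser of the duad of the two points numbered 23 and 0 -/
abbrev D : Subgroup (Equiv.Perm GolayPt) := duadStab (none : GolayPt) (some 0)

theorem card_D : Nat.card D = 887040 := by
  rw [Nat.card_congr (MulEquiv.ofBijective toAut ⟨injective_toAut, surjective_toAut⟩).toEquiv]
  exact JFourM22Facts97.card_mulAut

/-- the generating permutation with number `j` -/
noncomputable def gen (j : Fin 21) : Equiv.Perm GolayPt := permOf (g24.getD j 0)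

theorem g24_ok : g24.length = 21 ∧
    (g24.all fun P => good P &&
      ((pimg P 23 == 23 && pimg P 0 == 0) || (pimg P 23 == 0 && pimg P 0 == 23))) = true := by
  decide +kernel

theorem g24_mem {P : ℕ} (hP : P ∈ g24) : valid P = true ∧ permOf P ∈ D := by
  have h := List.all_eq_true.1 g24_ok.2 P hP
  simp only [Bool.and_eq_true, Bool.or_eq_true, beq_iff_eq] at h
  have hv := valid_of_good h.1
  have key : ∀ a b, a < 24 → b < 24 → pimg P a = b → permOf P • pt a = pt b := by
    intro a b ha hb e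
    apply idx_inj
    rw [Equiv.Perm.smul_def, idx_permOf hv, idx_pt ha, idx_pt hb, e]
  refine ⟨hv, mem_duadStab.2 ⟨permOf_mem_M24 h.1, ?_⟩⟩
  rw [← GolayM24.pt_none, ← GolayM24.pt_zero]
  rcases h.2 with ⟨h1, h2⟩ | ⟨h1, h2⟩
  · exact Or.inl ⟨key _ _ (by norm_num) (by norm_num) h1, key _ _ (by norm_num) (by norm_num) h2⟩
  · exact Or.inr ⟨key _ _ (by norm_num) (by norm_num) h1, key _ _ (by norm_num) (by norm_num) h2⟩

theorem getD_mem (j : Fin 21) : g24.getD j 0 ∈ g24 := by
  have h : (j : ℕ) < g24.length := by rw [g24_ok.1]; exact j.2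
  rw [List.getD_eq_getElem _ _ h]
  exact List.getElem_mem h

theorem chain_ok : slpCheck g24 slp = true ∧ chainCheck [] lvl = true ∧ size lvl = 887040 ∧
    ((elts lvl).all fun T => (g24 ++ slp.map fun e => e.2.2).contains T) = true := by
  decide +kernel

theorem closure_gen : Subgroup.closure (Set.range gen) = D := by
  have hle : Subgroup.closure (Set.range gen) ≤ D := by
    rw [Subgroup.closure_le]
    rintro _ ⟨j, rfl⟩
    exact (g24_mem (getD_mem j)).2
  refine Subgroup.eq_of_le_of_card_ge hle ?_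
  have hpool : ∀ P ∈ g24, valid P = true ∧ permOf P ∈ Subgroup.closure (Set.range gen) := by
    intro P hP
    refine ⟨(g24_mem hP).1, Subgroup.subset_closure ?_⟩
    obtain ⟨i, hi, rfl⟩ := List.getElem_of_mem hP
    exact ⟨⟨i, by rw [← g24_ok.1]; exact hi⟩, by rw [gen, List.getD_eq_getElem _ _ hi]⟩
  have h := GolayChain.le_card (H := Subgroup.closure (Set.range gen)) lvl [] chain_ok.2.1
    (by simp) (fun T hT => (mem_of_slp slp g24 chain_ok.1 hpool T
      (List.contains_iff_mem.1 (List.all_eq_true.1 chain_ok.2.2.2 T hT))).2)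
  rw [chain_ok.2.2.1] at h
  rw [card_D]
  exact h

/-! ### the octads through the duad -/

/-- the octad with number `k` -/
def octAt (k : Fin 77) : Finset GolayPt := mset (octs.getD k 0)

theorem octs_ok : octs.length = 77 ∧ (octs.all fun o => decide (o < 2 ^ 24)) = true ∧ octs.Nodup ∧
    closeCheck octs cops = true := by
  decide +kernel

theorem mset_inj {a b : ℕ} (ha : a < 2 ^ 24) (hb : b < 2 ^ 24) (h : mset a = mset b) : a = b := by
  apply Nat.eq_of_testBit_eq
  intro i
  by_cases hi : i < 24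
  · have h1 : pt i ∈ mset a ↔ pt i ∈ mset b := by rw [h]
    rw [mem_mset, mem_mset, idx_pt hi] at h1
    exact Bool.eq_iff_iff.2 h1
  · rw [Nat.testBit_lt_two_pow (lt_of_lt_of_le ha (Nat.pow_le_pow_right (by norm_num) (by omega))),
      Nat.testBit_lt_two_pow (lt_of_lt_of_le hb (Nat.pow_le_pow_right (by norm_num) (by omega)))]

theorem octAt_inj : Function.Injective octAt := by
  intro a b h
  have ha : (a : ℕ) < octs.length := by rw [octs_ok.1]; exact a.2
  have hb : (b : ℕ) < octs.length := by rw [octs_ok.1]; exact b.2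
  simp only [octAt, List.getD_eq_getElem _ _ ha, List.getD_eq_getElem _ _ hb] at h
  have hlt := fun (i : ℕ) (hi : i < octs.length) =>
    of_decide_eq_true (List.all_eq_true.1 octs_ok.2.1 (octs[i]) (List.getElem_mem hi))
  exact Fin.ext ((octs_ok.2.2.1.getElem_inj_iff).1 (mset_inj (hlt _ ha) (hlt _ hb) h))

theorem eq_one_of_fix {s : Equiv.Perm GolayPt} (hs : s ∈ M24)
    (h : ∀ k, s • octAt k = octAt k) : s = 1 := by
  refine eq_one_of_closeCheck octs_ok.2.2.2 hs fun m hm => ?_
  obtain ⟨i, hi, rfl⟩ := List.getElem_of_mem hm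
  have h' := h ⟨i, by rw [← octs_ok.1]; exact hi⟩
  simp only [octAt, List.getD_eq_getElem _ _ hi] at h'
  exact h'

/-- image of point `k` under generator `j` -/
def sigFun (j : Fin 21) (k : Fin 77) : Fin 77 :=
  ⟨(sig.getD j []).getD k 0 % 77, Nat.mod_lt _ (by norm_num)⟩

theorem sig_ok : ((List.range 21).all fun j =>
    decide ((sig.getD j []).Nodup) && decide ((sig.getD j []).length = 77) &&
      (List.range 77).all fun k => decide ((sig.getD j []).getD k 0 < 77) &&
        (pmask (g24.getD j 0) (octs.getD k 0) == octs.getD ((sig.getD j []).getD k 0) 0)) = true := by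
  decide +kernel

theorem sig_spec (j : Fin 21) : (sig.getD j []).Nodup ∧ (sig.getD j []).length = 77 ∧
    ∀ k : Fin 77, (sig.getD j []).getD k 0 < 77 ∧
      pmask (g24.getD j 0) (octs.getD k 0) = octs.getD ((sig.getD j []).getD k 0) 0 := by
  have h := List.all_eq_true.1 sig_ok j (List.mem_range.2 j.2)
  simp only [Bool.and_eq_true, decide_eq_true_eq, List.all_eq_true, beq_iff_eq] at h
  exact ⟨h.1.1, h.1.2, fun k => h.2 k (List.mem_range.2 k.2)⟩

theorem sigFun_val (j : Fin 21) (k : Fin 77) : (sigFun j k : ℕ) = (sig.getD j []).getD k 0 :=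
  Nat.mod_eq_of_lt ((sig_spec j).2.2 k).1

theorem sigFun_bijective (j : Fin 21) : Function.Bijective (sigFun j) := by
  refine Finite.injective_iff_bijective.1 fun a b h => ?_
  have h' := congrArg Fin.val h
  rw [sigFun_val, sigFun_val] at h'
  obtain ⟨hnd, hlen, -⟩ := sig_spec j
  have ha : (a : ℕ) < (sig.getD j []).length := by rw [hlen]; exact a.2
  have hb : (b : ℕ) < (sig.getD j []).length := by rw [hlen]; exact b.2
  rw [List.getD_eq_getElem _ _ ha, List.getD_eq_getElem _ _ hb] at h'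
  exact Fin.ext (hnd.getElem_inj_iff.1 h')

/-- the permutation of the 77 points with number `j` -/
noncomputable def perm (j : Fin 21) : Equiv.Perm (Fin 77) :=
  Equiv.ofBijective (sigFun j) (sigFun_bijective j)

theorem perm_val (j : Fin 21) (k : Fin 77) : (perm j k : ℕ) = (sig.getD j []).getD k 0 :=
  sigFun_val j k

theorem gen_smul (j : Fin 21) (k : Fin 77) : gen j • octAt k = octAt (perm j k) := by
  rw [gen, octAt, octAt, smul_mset (g24_mem (getD_mem j)).1, ((sig_spec j).2.2 k).2, perm_val]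

/-! ### the graph of the action -/

/-- pairs of a member of the duad stabiliser and the permutation it induces on the 77 octads -/
def graph : Subgroup (Equiv.Perm GolayPt × Equiv.Perm (Fin 77)) where
  carrier := {x | x.1 ∈ D ∧ ∀ k, x.1 • octAt k = octAt (x.2 k)}
  one_mem' := ⟨one_mem _, fun k => one_smul _ _⟩
  mul_mem' := by
    rintro a b ⟨ha, ha'⟩ ⟨hb, hb'⟩
    refine ⟨mul_mem ha hb, fun k => ?_⟩
    show (a.1 * b.1) • octAt k = octAt ((a.2 * b.2) k)
    rw [mul_smul, hb', ha', Equiv.Perm.mul_apply]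
  inv_mem' := by
    rintro a ⟨ha, ha'⟩
    refine ⟨inv_mem ha, fun k => ?_⟩
    show a.1⁻¹ • octAt k = octAt (a.2⁻¹ k)
    rw [inv_smul_eq_iff, ha' (a.2⁻¹ k), ← Equiv.Perm.mul_apply, mul_inv_cancel, Equiv.Perm.one_apply]

theorem fst_inj {a b : Equiv.Perm GolayPt × Equiv.Perm (Fin 77)} (ha : a ∈ graph) (hb : b ∈ graph)
    (h : a.1 = b.1) : a = b :=
  Prod.ext h (Equiv.ext fun k => octAt_inj (by rw [← ha.2 k, ← hb.2 k, h]))

theorem snd_inj {a b : Equiv.Perm GolayPt × Equiv.Perm (Fin 77)} (ha : a ∈ graph) (hb : b ∈ graph)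
    (h : a.2 = b.2) : a = b := by
  refine Prod.ext ?_ h
  have hm : b.1⁻¹ * a.1 ∈ D := mul_mem (inv_mem hb.1) ha.1
  have h1 : b.1⁻¹ * a.1 = 1 := eq_one_of_fix (mem_duadStab.1 hm).1 fun k => by
    rw [mul_smul, ha.2 k, h, ← hb.2 k, inv_smul_smul]
  exact (inv_mul_eq_one.1 h1).symm

/-- the subgroup generated by the twenty-one pairs -/
noncomputable def W : Subgroup (Equiv.Perm GolayPt × Equiv.Perm (Fin 77)) :=
  Subgroup.closure (Set.range fun j => (gen j, perm j))

theorem W_le : W ≤ graph := by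
  rw [W, Subgroup.closure_le]
  rintro _ ⟨j, rfl⟩
  exact ⟨(g24_mem (getD_mem j)).2, gen_smul j⟩

theorem map_fst : W.map (MonoidHom.fst _ _) = D := by
  rw [W, MonoidHom.map_closure, ← Set.range_comp, ← closure_gen]
  rfl

theorem map_snd : W.map (MonoidHom.snd _ _) = Subgroup.closure (Set.range perm) := by
  rw [W, MonoidHom.map_closure, ← Set.range_comp]
  rfl

theorem card_map_fst {K : Subgroup (Equiv.Perm GolayPt × Equiv.Perm (Fin 77))} (hK : K ≤ W) :
    Nat.card (K.map (MonoidHom.fst _ _)) = Nat.card K := by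
  refine (Nat.card_congr (Equiv.ofBijective
    (fun x : K => (⟨x.1.1, Subgroup.mem_map.2 ⟨x.1, x.2, rfl⟩⟩ : K.map (MonoidHom.fst _ _))) ⟨?_, ?_⟩)).symm
  · intro a b h
    exact Subtype.ext (fst_inj (W_le (hK a.2)) (W_le (hK b.2)) (congrArg Subtype.val h :))
  · rintro ⟨_, x, hx, rfl⟩
    exact ⟨⟨x, hx⟩, rfl⟩

theorem card_map_snd {K : Subgroup (Equiv.Perm GolayPt × Equiv.Perm (Fin 77))} (hK : K ≤ W) :
    Nat.card (K.map (MonoidHom.snd _ _)) = Nat.card K := by
  refine (Nat.card_congr (Equiv.ofBijective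
    (fun x : K => (⟨x.1.2, Subgroup.mem_map.2 ⟨x.1, x.2, rfl⟩⟩ : K.map (MonoidHom.snd _ _))) ⟨?_, ?_⟩)).symm
  · intro a b h
    exact Subtype.ext (snd_inj (W_le (hK a.2)) (W_le (hK b.2)) (congrArg Subtype.val h :))
  · rintro ⟨_, x, hx, rfl⟩
    exact ⟨⟨x, hx⟩, rfl⟩

/-- The generated group on the 77 points and its simple normal subgroup of index two. -/
theorem image_facts : ∃ img M0 : Subgroup (Equiv.Perm (Fin 77)),
    img = Subgroup.closure
      {σ | ∃ j < 21, ∀ k : Fin 77, (σ k : ℕ) = (J4XCentData4.sig.getD j []).getD k 0} ∧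
    Nat.card img = 887040 ∧ M0 ≤ img ∧ (M0.subgroupOf img).Normal ∧ Nat.card M0 = 443520 ∧
    IsSimpleGroup M0 := by
  have hset : {σ : Equiv.Perm (Fin 77) |
      ∃ j < 21, ∀ k : Fin 77, (σ k : ℕ) = (J4XCentData4.sig.getD j []).getD k 0} = Set.range perm := by
    ext σ
    constructor
    · rintro ⟨j, hj, h⟩
      exact ⟨⟨j, hj⟩, Equiv.ext fun k => Fin.ext (by rw [perm_val, h k])⟩
    · rintro ⟨j, rfl⟩
      exact ⟨j, j.2, perm_val j⟩
  let W0 := W ⊓ Spor.M22.comap (MonoidHom.fst (Equiv.Perm GolayPt) (Equiv.Perm (Fin 77)))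
  have hW0 : W0 ≤ W := inf_le_left
  have hf : W0.map (MonoidHom.fst _ _) = Spor.M22 := by
    apply le_antisymm
    · rintro _ ⟨x, hx, rfl⟩
      exact hx.2
    · intro g hg
      obtain ⟨x, hx, rfl⟩ : g ∈ W.map (MonoidHom.fst _ _) := by rw [map_fst]; exact M22_le hg
      exact ⟨x, ⟨hx, hg⟩, rfl⟩
  have hcard0 : Nat.card W0 = 443520 := by rw [← card_map_fst hW0, hf, GolayM24.card_M22]
  refine ⟨_, W0.map (MonoidHom.snd _ _), rfl, ?_, ?_, ?_, ?_, ?_⟩
  · rw [hset, ← map_snd, card_map_snd le_rfl, ← card_map_fst le_rfl, map_fst, card_D]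
  · rw [hset, ← map_snd]
    exact Subgroup.map_mono hW0
  · rw [hset, ← map_snd]
    refine ⟨fun n hn g => ?_⟩
    rw [Subgroup.mem_subgroupOf] at hn ⊢
    obtain ⟨a, ha, hae⟩ := hn
    obtain ⟨b, hb, hbe⟩ := g.2
    refine ⟨b * a * b⁻¹, ⟨W.mul_mem (W.mul_mem hb ha.1) (W.inv_mem hb), ?_⟩, ?_⟩
    · exact (conj_M22 (W_le hb).1 a.1).1 ha.2
    · simp [map_mul, map_inv] at hae hbe ⊢
      rw [hae, hbe]
  · rw [card_map_snd hW0, hcard0]
  · let f : W0 →* Equiv.Perm GolayPt := (MonoidHom.fst _ _).comp W0.subtype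
    let t : W0 →* Equiv.Perm (Fin 77) := (MonoidHom.snd _ _).comp W0.subtype
    have hf' : Function.Injective f := fun a b h =>
      Subtype.ext (fst_inj (W_le (hW0 a.2)) (W_le (hW0 b.2)) h)
    have ht' : Function.Injective t := fun a b h =>
      Subtype.ext (snd_inj (W_le (hW0 a.2)) (W_le (hW0 b.2)) h)
    have e1 : f.range = Spor.M22 := by
      rw [MonoidHom.range_comp, Subgroup.range_subtype, hf]
    have e2 : t.range = W0.map (MonoidHom.snd _ _) := by
      rw [MonoidHom.range_comp, Subgroup.range_subtype]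
    have e : ↥(W0.map (MonoidHom.snd _ _)) ≃* ↥Spor.M22 :=
      (((MulEquiv.subgroupCongr e2).symm.trans (MonoidHom.ofInjective ht').symm).trans
        (MonoidHom.ofInjective hf')).trans (MulEquiv.subgroupCongr e1)
    exact (MulEquiv.isSimpleGroup_congr e).2 GolaySimple.isSimpleGroup_M22

end Cfsg.Agent.J4XCentImage97
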