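import Mathlib
import Cfsg.Agent.Lib.J4XCentImage97
import Cfsg.Agent.Lib.J4XCentCoreData12
import Cfsg.Agent.Lib.J4XCentCodeData12

/-!
The fifteen point maps of the centraliser: they generate the stabiliser of the duad {23, 0}, of order
887040, act on the 77 hexad masks by the given permutations and faithfully so.
-/

set_option autoImplicit false

namespace Cfsg.Agent.J4XCentCode12

open Cfsg Cfsg.Agent.GolayBasic Cfsg.Agent.GolayPerm Cfsg.Agent.GolayChain
open Cfsg.Agent.M24DuadAut46
open Cfsg.Agent.J4XCentCoreData12 (gcodes perms hexes)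
open Cfsg.Agent.J4XCentCodeData12 (codeSlp codeLvl)
open Cfsg.Agent.J4XCentImage97 (D card_D)
open scoped Pointwise

/-- the point map with number `i` -/
noncomputable def gperm (i : ℕ) : Equiv.Perm GolayPt := permOf (gcodes.getD i 0)

/-- the group generated by the fifteen point maps -/
noncomputable def H24 : Subgroup (Equiv.Perm GolayPt) :=
  Subgroup.closure (Set.range fun i : Fin 15 => gperm i)

theorem gcodes_ok : gcodes.length = 15 ∧
    (gcodes.all fun P => good P &&
      ((pimg P 23 == 23 && pimg P 0 == 0) || (pimg P 23 == 0 && pimg P 0 == 23))) = true := by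
  decide +kernel

theorem code_mem {i : ℕ} (hi : i < 15) : gcodes.getD i 0 ∈ gcodes := by
  have h : i < gcodes.length := by rw [gcodes_ok.1]; exact hi
  rw [List.getD_eq_getElem _ _ h]
  exact List.getElem_mem h

theorem code_good {i : ℕ} (hi : i < 15) : good (gcodes.getD i 0) = true := by
  have h := List.all_eq_true.1 gcodes_ok.2 _ (code_mem hi)
  simp only [Bool.and_eq_true] at h
  exact h.1

theorem gperm_mem {i : ℕ} (hi : i < 15) : gperm i ∈ M24 := permOf_mem_M24 (code_good hi)

theorem gperm_mem_H24 {i : ℕ} (hi : i < 15) : gperm i ∈ H24 :=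
  Subgroup.subset_closure ⟨⟨i, hi⟩, rfl⟩

theorem gperm_mem_D {i : ℕ} (hi : i < 15) : gperm i ∈ D := by
  have h := List.all_eq_true.1 gcodes_ok.2 _ (code_mem hi)
  simp only [Bool.and_eq_true, Bool.or_eq_true, beq_iff_eq] at h
  have key : ∀ a b, a < 24 → b < 24 → pimg (gcodes.getD i 0) a = b →
      gperm i • pt a = pt b := by
    intro a b ha hb e
    apply idx_inj
    rw [gperm, Equiv.Perm.smul_def, idx_permOf (valid_of_good h.1), idx_pt ha, idx_pt hb, e]
  refine mem_duadStab.2 ⟨gperm_mem hi, ?_⟩
  rw [← GolayM24.pt_none, ← GolayM24.pt_zero]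
  rcases h.2 with ⟨h1, h2⟩ | ⟨h1, h2⟩
  · exact Or.inl ⟨key _ _ (by norm_num) (by norm_num) h1, key _ _ (by norm_num) (by norm_num) h2⟩
  · exact Or.inr ⟨key _ _ (by norm_num) (by norm_num) h1, key _ _ (by norm_num) (by norm_num) h2⟩

theorem H24_le_D : H24 ≤ D := by
  rw [H24, Subgroup.closure_le]
  rintro _ ⟨i, rfl⟩
  exact gperm_mem_D i.2

theorem H24_le_M24 : H24 ≤ M24 := fun _ h => (mem_duadStab.1 (H24_le_D h)).1

theorem chain_ok : GolayChain.slpCheck gcodes codeSlp = true ∧ chainCheck [] codeLvl = true ∧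
    size codeLvl = 887040 ∧
    ((elts codeLvl).all fun T => (gcodes ++ codeSlp.map fun e => e.2.2).contains T ||
      (valid T && pts.all fun x => pimg T x == x)) = true := by
  decide +kernel

theorem le_card : 887040 ≤ Nat.card H24 := by
  have hpool : ∀ P ∈ gcodes, valid P = true ∧ permOf P ∈ H24 := by
    intro P hP
    obtain ⟨i, hi, rfl⟩ := List.getElem_of_mem hP
    have hi' : i < 15 := by rw [← gcodes_ok.1]; exact hi
    have hd : valid (gcodes.getD i 0) = true ∧ permOf (gcodes.getD i 0) ∈ H24 :=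
      ⟨valid_of_good (code_good hi'), gperm_mem_H24 hi'⟩
    rw [List.getD_eq_getElem _ _ hi] at hd
    exact hd
  have h := GolayChain.le_card (H := H24) codeLvl [] chain_ok.2.1 (by simp) (fun T hT => by
    have hT' := List.all_eq_true.1 chain_ok.2.2.2 T hT
    simp only [Bool.or_eq_true, Bool.and_eq_true, List.all_eq_true, beq_iff_eq] at hT'
    rcases hT' with hT' | ⟨hv, hx⟩
    · exact GolayChain.mem_of_slp codeSlp gcodes hpool chain_ok.1 T (List.contains_iff_mem.1 hT')
    · have e : permOf T = 1 := Equiv.ext fun x => idx_inj (by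
        rw [idx_permOf hv]
        exact hx _ (mem_pts.2 (idx_lt x)))
      rw [e]
      exact one_mem _)
  rw [chain_ok.2.2.1] at h
  exact h

theorem H24_eq : H24 = D :=
  Subgroup.eq_of_le_of_card_ge H24_le_D (by rw [card_D]; exact le_card)

theorem card_H24 : Nat.card H24 = 887040 := by rw [H24_eq, card_D]

theorem perms_ok : perms.length = 15 ∧ hexes.length = 77 ∧
    ((List.range 15).all fun i => (List.range 77).all fun j =>
      decide ((perms.getD i []).getD j 0 < 77) &&
      (pmask (gcodes.getD i 0) (hexes.getD j 0) ==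
        hexes.getD ((perms.getD i []).getD j 0) 0)) = true := by
  decide +kernel

theorem hex_act : ∀ i < 15, ∀ j < 77, gperm i • mset (hexes.getD j 0) =
    mset (hexes.getD ((perms.getD i []).getD j 0) 0) := by
  intro i hi j hj
  have h := List.all_eq_true.1 (List.all_eq_true.1 perms_ok.2.2 i (List.mem_range.2 hi)) j
    (List.mem_range.2 hj)
  simp only [Bool.and_eq_true, decide_eq_true_eq, beq_iff_eq] at h
  rw [gperm, smul_mset (valid_of_good (code_good hi)), h.2]

theorem octs_sub : (J4XCentData4.octs.all fun m => hexes.contains m) = true := by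
  decide +kernel

theorem eq_one_of_hexes {g : Equiv.Perm GolayPt} (hg : g ∈ M24)
    (h : ∀ j < 77, g • mset (hexes.getD j 0) = mset (hexes.getD j 0)) : g = 1 := by
  refine eq_one_of_closeCheck J4XCentImage97.octs_ok.2.2.2 hg fun m hm => ?_
  have hm' : m ∈ hexes := List.contains_iff_mem.1 (List.all_eq_true.1 octs_sub m hm)
  obtain ⟨i, hi, rfl⟩ := List.getElem_of_mem hm'
  have h' := h i (by rw [← perms_ok.2.1]; exact hi)
  rw [List.getD_eq_getElem _ _ hi] at h'
  exact h'

theorem m22 : Spor.M22 ≤ H24 := by rw [H24_eq]; exact M22_le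

theorem m22_normal : (Spor.M22.subgroupOf H24).Normal ∧ (Spor.M22.subgroupOf H24).index = 2 := by
  refine ⟨⟨fun n hn g => ?_⟩, ?_⟩
  · rw [Subgroup.mem_subgroupOf] at hn ⊢
    exact (conj_M22 (H24_le_D g.2) n.1).1 hn
  · have h := Subgroup.card_mul_index (Spor.M22.subgroupOf H24)
    rw [Nat.card_congr (Subgroup.subgroupOfEquivOfLe m22).toEquiv, GolayM24.card_M22,
      card_H24] at h
    omega

end Cfsg.Agent.J4XCentCode12
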