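import Cfsg.Agent.Lib.J4XBase18
import Cfsg.Agent.Lib.GolayOrbitThms
import Cfsg.Agent.S1711

/-!
The permutation side of the certificate for the presented fourth Janko group: linearity of the action
of coded permutations on cocode classes, the map of coded permutations into the presented group, the
commutation of the third generator with the stabiliser of a trio, and the two long relations.
-/

set_option autoImplicit false
set_option maxRecDepth 100000

namespace Cfsg.Agent.J4XPerm10

open Cfsg Cfsg.Agent.GolayBasic Cfsg.Agent.GolayPerm Cfsg.Agent.GolayEnumComp Cfsg.Agent.J4XBase18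
open Cfsg.Agent.J4PresGen13 Cfsg.Agent.J4M24Iso13
open scoped Pointwise

/-! ### coded permutations -/

theorem pmask_lt {P : ℕ} (h : valid P = true) (m : ℕ) : pmask P m < 2 ^ 24 := by
  refine Nat.lt_pow_two_of_testBit _ fun j hj => ?_
  by_contra hb
  rw [Bool.not_eq_false] at hb
  obtain ⟨i, hi, -, hij⟩ := testBit_pmask.1 hb
  have := pimg_lt h hi
  omega

theorem valid_pcomp {P Q : ℕ} (hP : valid P = true) (hQ : valid Q = true) :
    valid (pcomp P Q) = true := by
  simp only [valid, Bool.and_eq_true, List.all_eq_true, decide_eq_true_eq, beq_iff_eq]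
  refine ⟨fun i hi => ?_, Nat.eq_of_testBit_eq fun j => Bool.eq_iff_iff.2 ?_⟩
  · rw [pimg_pcomp _ _ (mem_pts.1 hi)]
    exact pimg_lt hP (pimg_lt hQ (mem_pts.1 hi))
  · rw [testBit_pmask, show (16777215 : ℕ) = 2 ^ 24 - 1 by norm_num, Nat.testBit_two_pow_sub_one,
      decide_eq_true_eq]
    constructor
    · rintro ⟨i, hi, -, rfl⟩
      rw [pimg_pcomp _ _ hi]
      exact pimg_lt hP (pimg_lt hQ hi)
    · intro hj
      have hfull : ∀ R, valid R = true → ∀ k < 24, ∃ i < 24, pimg R i = k := by
        intro R hR k hk
        simp only [valid, Bool.and_eq_true, beq_iff_eq] at hR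
        have h2 : (pmask R 16777215).testBit k = true := by
          rw [hR.2, show (16777215 : ℕ) = 2 ^ 24 - 1 by norm_num, Nat.testBit_two_pow_sub_one]
          simp [hk]
        obtain ⟨i, hi, -, e⟩ := testBit_pmask.1 h2
        exact ⟨i, hi, e⟩
      obtain ⟨k, hk, ek⟩ := hfull P hP j hj
      obtain ⟨i, hi, ei⟩ := hfull Q hQ k hk
      exact ⟨i, hi, by rw [Nat.testBit_two_pow_sub_one]; simp [hi], by rw [pimg_pcomp _ _ hi, ei, ek]⟩

theorem good_of_mem {P : ℕ} (h : valid P = true) (hm : permOf P ∈ M24) : good P = true := by
  simp only [good, Bool.and_eq_true, List.all_eq_true]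
  refine ⟨h, fun b hb => ?_⟩
  rw [← mset_mem_supports (pmask_lt h b), ← smul_mset h]
  refine mem_M24_iff.1 hm _ ?_
  have hrows : ∀ b ∈ basisRows, b < 2 ^ 24 ∧ inCode b = true := by decide +kernel
  exact (mset_mem_supports (hrows b hb).1).2 (hrows b hb).2

theorem permOf_pcomp' {P Q : ℕ} (hP : valid P = true) (hQ : valid Q = true) :
    permOf (pcomp P Q) = permOf P * permOf Q :=
  permOf_pcomp hP hQ (valid_pcomp hP hQ) rfl

theorem good_pcomp {P Q : ℕ} (hP : good P = true) (hQ : good Q = true) :
    good (pcomp P Q) = true :=
  good_of_mem (valid_pcomp (valid_of_good hP) (valid_of_good hQ)) (by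
    rw [permOf_pcomp' (valid_of_good hP) (valid_of_good hQ)]
    exact mul_mem (permOf_mem_M24 hP) (permOf_mem_M24 hQ))

theorem good_idP : good idP = true := by decide +kernel

/-! ### cocode classes -/

theorem cv_xor (a b : ℕ) : cv (a ^^^ b) = cv a ^^^ cv b := by
  simp only [cv, Nat.and_xor_distrib_right, enc_xor, Nat.shiftRight_xor_distrib]
  ac_rfl

theorem cv_code {c : ℕ} (hc : inCode c = true) : cv c = 0 := by
  simp only [inCode, beq_iff_eq] at hc
  simp [cv, hc]

theorem shl12_and (v : ℕ) : (v <<< 12) &&& 4095 = 0 := by
  refine Nat.eq_of_testBit_eq fun i => ?_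
  rw [Nat.testBit_and, Nat.testBit_shiftLeft, Nat.zero_testBit, show (4095 : ℕ) = 2 ^ 12 - 1 by rfl,
    Nat.testBit_two_pow_sub_one]
  by_cases hi : i < 12 <;> simp [hi]

theorem shl12_lt {v : ℕ} (hv : v < 4096) : v <<< 12 < 2 ^ 24 := by
  rw [Nat.shiftLeft_eq]; omega

theorem cv_lt {m : ℕ} (hm : m < 2 ^ 24) : cv m < 4096 := by
  have h := Nat.xor_lt_two_pow hm (enc_lt (and_lt_4096 m))
  rw [cv, Nat.shiftRight_eq_div_pow]
  omega

theorem cv_shl (v : ℕ) : cv (v <<< 12) = v := by
  rw [cv, shl12_and, enc_zero, Nat.xor_zero, Nat.shiftLeft_shiftRight]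

theorem shl_cv {m : ℕ} : cv m <<< 12 = m ^^^ enc (m &&& 4095) := by
  set w := m ^^^ enc (m &&& 4095) with hw
  have h0 : w &&& 4095 = 0 := by
    rw [hw, Nat.and_xor_distrib_right, enc_and (and_lt_4096 m), Nat.xor_self]
  show (w >>> 12) <<< 12 = w
  rw [show (4095 : ℕ) = 2 ^ 12 - 1 by rfl, Nat.and_two_pow_sub_one_eq_mod] at h0
  rw [Nat.shiftRight_eq_div_pow, Nat.shiftLeft_eq]
  omega

theorem pmask_xor {P : ℕ} (h : valid P = true) (a b : ℕ) :
    pmask P (a ^^^ b) = pmask P a ^^^ pmask P b := by
  refine mset_inj (pmask_lt h _) (Nat.xor_lt_two_pow (pmask_lt h _) (pmask_lt h _)) ?_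
  rw [← smul_mset h, mset_xor, mset_xor, smul_finset_symmDiff, smul_mset h, smul_mset h]

theorem pmask_pcomp {P Q : ℕ} (hP : valid P = true) (hQ : valid Q = true) (m : ℕ) :
    pmask (pcomp P Q) m = pmask P (pmask Q m) := by
  refine mset_inj (pmask_lt (valid_pcomp hP hQ) _) (pmask_lt hP _) ?_
  rw [← smul_mset (valid_pcomp hP hQ), ← smul_mset hP, ← smul_mset hQ, permOf_pcomp' hP hQ, mul_smul]

theorem inCode_pmask {P : ℕ} (h : good P = true) {c : ℕ} (hc : inCode c = true) :
    inCode (pmask P c) = true := by
  rw [← mset_mem_supports (pmask_lt (valid_of_good h) c), ← smul_mset (valid_of_good h)]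
  exact mem_M24_iff.1 (permOf_mem_M24 h) _ ((mset_mem_supports (inCode_lt hc)).2 hc)

theorem vact_cv {P : ℕ} (h : good P = true) (m : ℕ) :
    vact P (cv m) = cv (pmask P m) := by
  rw [vact, shl_cv, pmask_xor (valid_of_good h), cv_xor,
    cv_code (inCode_pmask h (inCode_enc (and_lt_4096 m))), Nat.xor_zero]

theorem wt_xor (a b : ℕ) : wt (a ^^^ b) % 2 = (wt a + wt b) % 2 := by
  simp only [← card_mset, mset_xor]
  rw [← Finset.card_sdiff_add_card_inter (mset a) (mset b),
    ← Finset.card_sdiff_add_card_inter (mset b) (mset a), Finset.inter_comm (mset b) (mset a),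
    symmDiff_def, Finset.sup_eq_union,
    Finset.card_union_of_disjoint disjoint_sdiff_sdiff]
  omega

theorem wt_pmask {P : ℕ} (h : valid P = true) (m : ℕ) : wt (pmask P m) = wt m := by
  rw [← card_mset, ← card_mset, ← smul_mset h, Finset.card_smul_finset]

theorem wt_code_even {c : ℕ} (hc : inCode c = true) : wt c % 2 = 0 := by
  obtain ⟨x, hx, rfl⟩ := exists_enc_of_inCode hc
  have h := List.all_eq_true.1 weights_aux x (List.mem_range.2 hx)
  simp only [Bool.or_eq_true, beq_iff_eq] at h
  rcases h with (((rfl | h) | h) | h) | h
  · decide +kernel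
  all_goals rw [h]

theorem par_check : (List.range 4096).all (fun v =>
    (!par12 v) == Nat.beq (wt (v <<< 12) % 2) 0) = true := by decide +kernel

theorem inE_iff {v : ℕ} : inE v = true ↔ v < 4096 ∧ wt (v <<< 12) % 2 = 0 := by
  rw [inE, Bool.and_eq_true, decide_eq_true_eq]
  refine and_congr_right fun hv => ?_
  rw [beq_iff_eq.1 (List.all_eq_true.1 par_check v (List.mem_range.2 hv))]
  exact ⟨Nat.eq_of_beq_eq_true, fun h => by rw [h]; rfl⟩

theorem inE_zero : inE 0 = true := by decide +kernel

theorem inE_xor {a b : ℕ} (ha : inE a = true) (hb : inE b = true) : inE (a ^^^ b) = true := by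
  rw [inE_iff] at *
  refine ⟨Nat.xor_lt_two_pow (n := 12) ha.1 hb.1, ?_⟩
  rw [Nat.shiftLeft_xor_distrib, wt_xor]
  omega

theorem inE_vact {P v : ℕ} (hP : good P = true) (hv : inE v = true) : inE (vact P v) = true := by
  have h := valid_of_good hP
  rw [inE_iff] at *
  refine ⟨cv_lt (pmask_lt h _), ?_⟩
  rw [vact, shl_cv, wt_xor, Nat.add_mod, wt_code_even (inCode_enc (and_lt_4096 _)), wt_pmask h, hv.2]

theorem vact_xor {P : ℕ} (hP : good P = true) (a b : ℕ) :
    vact P (a ^^^ b) = vact P a ^^^ vact P b := by
  simp only [vact, Nat.shiftLeft_xor_distrib, pmask_xor (valid_of_good hP), cv_xor]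

theorem vact_pcomp {P Q : ℕ} (hP : good P = true) (hQ : good Q = true) (v : ℕ) :
    vact (pcomp P Q) v = vact P (vact Q v) := by
  show _ = vact P (cv (pmask Q (v <<< 12)))
  rw [vact_cv hP, vact, pmask_pcomp (valid_of_good hP) (valid_of_good hQ)]

theorem vact_idP {v : ℕ} (hE : inE v = true) : vact idP v = v := by
  have hv : v < 4096 := (inE_iff.1 hE).1
  have h : valid idP = true := valid_of_good good_idP
  rw [vact, show pmask idP (v <<< 12) = v <<< 12 from
    mset_inj (pmask_lt h _) (shl12_lt hv) (by rw [← smul_mset h, permOf_idP, one_smul]), cv_shl]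

/-! ### the map into the presented group -/

/-- The projection onto the presented group. -/
def q : FreeGroup Cfsg.Spor.J4.Gen →* Cfsg.Spor.J4 :=
  PresentedGroup.mk (Cfsg.Spor.coxRelators Cfsg.Spor.J4.edges ∪ {r | r ∈ Cfsg.Spor.J4.extra})

theorem q_apply (w : FreeGroup Cfsg.Spor.J4.Gen) : q w =
    PresentedGroup.mk (Cfsg.Spor.coxRelators Cfsg.Spor.J4.edges ∪ {r | r ∈ Cfsg.Spor.J4.extra}) w := rfl

/-- The images of the two permutation generators. -/
noncomputable def gx (i : ℕ) : Cfsg.Spor.J4 := S1711.tau (ps i)

theorem gx_zero : gx 0 = q Cfsg.Spor.J4.x := PresentedGroup.toGroup.of S1711.qimg_rel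

theorem gx_one : gx 1 = q Cfsg.Spor.J4.y := PresentedGroup.toGroup.of S1711.qimg_rel

theorem presEquiv_wv {w : List ℕ} (hl : ∀ l ∈ w, l < 4) : presEquiv (wv ps w) = wv gg w :=
  sigma_wv hl

attribute [local irreducible] permOf pcomp idP presEquiv Cfsg.Agent.S1711.tau

/-- The permutation part of the subgroup. -/
noncomputable def m (P : ℕ) : Cfsg.Spor.J4 :=
  if h : good P = true then S1711.tau (presEquiv.symm ⟨permOf P, permOf_mem_M24 h⟩) else 1

theorem m_good {P : ℕ} (h : good P = true) :
    m P = S1711.tau (presEquiv.symm ⟨permOf P, permOf_mem_M24 h⟩) := dif_pos h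

theorem m_mul {P Q : ℕ} (hP : good P = true) (hQ : good Q = true) :
    m (pcomp P Q) = m P * m Q := by
  have e : (⟨permOf (pcomp P Q), permOf_mem_M24 (good_pcomp hP hQ)⟩ : ↥M24) =
      ⟨permOf P, permOf_mem_M24 hP⟩ * ⟨permOf Q, permOf_mem_M24 hQ⟩ :=
    Subtype.ext (permOf_pcomp' (valid_of_good hP) (valid_of_good hQ))
  rw [m_good hP, m_good hQ, m_good (good_pcomp hP hQ), e, map_mul, map_mul]

theorem m_word {w : List ℕ} {c : ℕ}
    (h : (okP w && (w.all fun l => decide (l < 4)) && Nat.beq (evalP w) c && good c) = true) :
    m c = wv gx w := by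
  simp only [Bool.and_eq_true, List.all_eq_true, decide_eq_true_eq] at h
  obtain ⟨⟨⟨hok, hl⟩, he⟩, hg⟩ := h
  have e : presEquiv.symm ⟨permOf c, permOf_mem_M24 hg⟩ = wv ps w := by
    rw [MulEquiv.symm_apply_eq, presEquiv_wv hl]
    exact Subtype.ext (by rw [(wv_gg w hok).2, Nat.eq_of_beq_eq_true he])
  rw [m_good hg, e, J4M24Pres13.wv_map]
  rfl

theorem m_eX : m eX = q Cfsg.Spor.J4.x := by
  rw [m_word (w := [0]) (by decide +kernel), ← gx_zero]
  simp [wv, lv]

theorem m_eY : m eY = q Cfsg.Spor.J4.y := by
  rw [m_word (w := [2]) (by decide +kernel), ← gx_one]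
  simp [wv, lv]

/-- A code for every member of the group of the code. -/
theorem exists_good (g : ↥M24) : ∃ P, good P = true ∧ permOf P = (g : Equiv.Perm GolayPt) := by
  let f : ℕ → ℕ := fun i => idx ((g : Equiv.Perm GolayPt) (pt i))
  have hf : ∀ i, f i < 32 := fun i => lt_trans (idx_lt _) (by norm_num)
  set P := horner (pts.map f) with hP
  have himg : ∀ i < 24, pimg P i = f i := fun i hi => pimg_horner hf hi
  have hv : valid P = true := by
    simp only [valid, Bool.and_eq_true, List.all_eq_true, decide_eq_true_eq, beq_iff_eq]
    refine ⟨fun i hi => by rw [himg i (mem_pts.1 hi)]; exact idx_lt _,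
      Nat.eq_of_testBit_eq fun j => Bool.eq_iff_iff.2 ?_⟩
    rw [testBit_pmask, show (16777215 : ℕ) = 2 ^ 24 - 1 by norm_num, Nat.testBit_two_pow_sub_one,
      decide_eq_true_eq]
    constructor
    · rintro ⟨i, hi, -, rfl⟩
      rw [himg i hi]; exact idx_lt _
    · intro hj
      refine ⟨idx ((g : Equiv.Perm GolayPt).symm (pt j)), idx_lt _, ?_, ?_⟩
      · rw [Nat.testBit_two_pow_sub_one]
        simp [idx_lt]
      rw [himg _ (idx_lt _)]
      simp [f, pt_idx, idx_pt hj]
  have hperm : permOf P = (g : Equiv.Perm GolayPt) := by
    ext p : 1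
    rw [permOf_apply hv, pfun, himg _ (idx_lt p)]
    simp [f, pt_idx]
  exact ⟨P, good_of_mem hv (hperm ▸ g.2), hperm⟩

theorem range_m_eq_tau : Set.range m = (S1711.tau.range : Set Cfsg.Spor.J4) := by
  ext z
  constructor
  · rintro ⟨P, rfl⟩
    by_cases h : good P = true
    · rw [m_good h]; exact ⟨_, rfl⟩
    · rw [m, dif_neg h]; exact one_mem _
  · rintro ⟨a, rfl⟩
    obtain ⟨P, hP, e⟩ := exists_good (presEquiv a)
    exact ⟨P, by rw [m_good hP, show (⟨permOf P, permOf_mem_M24 hP⟩ : ↥M24) = presEquiv a from
      Subtype.ext e, MulEquiv.symm_apply_apply]⟩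

theorem range_m : Set.range m =
    ((Subgroup.closure ({Cfsg.Spor.J4.x, Cfsg.Spor.J4.y} : Set (FreeGroup Cfsg.Spor.J4.Gen))).map q :
      Set Cfsg.Spor.J4) := by
  rw [range_m_eq_tau, S1711.tau_range]
  rfl

/-! ### the stabiliser of the trio -/

/-- The word of the second generator of the stabiliser. -/
def wzw : List ℕ := [2, 0, 2, 0, 3, 0, 3, 0, 2, 0, 2, 0, 2]

/-- The stabiliser generated by the two words. -/
noncomputable def Kg : Subgroup ↥M24 := Subgroup.closure {gg 0, wv gg wzw}

/-- The same as a group of permutations. -/
noncomputable def Kp : Subgroup (Equiv.Perm GolayPt) := Kg.map M24.subtype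

/-- straight-line steps for the members of the trio stabiliser -/
def slp : List (ℕ × ℕ) :=
  [(1, 0), (0, 3), (2, 1), (1, 5), (6, 0), (0, 2), (1, 0), (0, 9), (8, 0), (0, 0),
    (9, 0), (10, 12), (0, 2), (13, 5), (12, 1), (7, 5), (15, 16), (19, 2), (20, 17), (17, 16),
    (21, 1), (22, 14), (11, 24), (1, 0), (25, 26), (16, 24), (0, 2), (0, 0), (0, 2), (31, 0),
    (30, 32), (2, 1), (0, 31), (34, 35), (2, 30), (36, 37), (33, 38), (39, 4), (24, 5), (41, 2),
    (29, 40), (43, 42), (0, 1), (44, 45), (44, 46), (42, 14), (2, 0), (34, 39), (1, 50), (51, 27),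
    (49, 52), (53, 52), (54, 48), (44, 0), (44, 56), (28, 5), (0, 52), (59, 52), (60, 58), (44, 61),
    (44, 55), (55, 0), (25, 64), (23, 48), (33, 51), (67, 47), (0, 68), (69, 40), (70, 66), (68, 52),
    (72, 71), (39, 36), (34, 74), (75, 57), (76, 52), (77, 73), (18, 58), (0, 52), (80, 0), (81, 68),
    (82, 79), (40, 68), (84, 83), (52, 85), (1, 0), (36, 87), (1, 88), (37, 89), (2, 90), (67, 91),
    (92, 65), (93, 63), (94, 62), (95, 86), (44, 55), (61, 0), (55, 98), (1, 66), (0, 76), (101, 68),
    (102, 100), (68, 52), (104, 103), (14, 100), (0, 40), (107, 106), (92, 2), (109, 99), (110, 97), (40, 111),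
    (112, 108), (48, 5), (0, 40), (115, 111), (116, 114), (68, 52), (118, 117), (76, 119), (0, 2), (121, 52),
    (58, 106), (122, 123), (111, 124), (66, 114), (0, 52), (127, 126), (68, 40), (129, 128), (113, 96), (125, 96),
    (130, 96), (125, 113), (130, 113), (130, 125), (125, 131), (130, 131), (130, 132), (130, 134), (130, 137), (120, 78),
    (78, 44), (120, 44), (55, 25), (105, 25), (25, 55), (44, 55), (1, 0), (25, 0), (44, 0), (55, 0),
    (61, 0), (105, 0), (120, 0), (125, 0), (130, 0), (1, 1), (25, 1), (105, 1), (25, 149), (44, 149),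
    (61, 149), (113, 149), (78, 150), (105, 150), (0, 151), (0, 154), (105, 160)]

/-- the members produced by the steps -/
def vals : List ℕ :=
  [432707787484634829614697868396384559, 275412899398336086125680697583979762,
    550614259114318871848011824565987570, 113322498585004499204322446938617994,
    843799472493662722761440555172042263, 984818244535754528103549039458486304,
    275412899398336086125680697583979762, 113322498585004499204322446938617994,
    939092855204526651020538036904025671, 113322498585004499204322446938617994,
    843799472493662722761440555172042263, 5911264581187970456937574154057384,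
    984818244535754528103549039458486304, 275412899398336086125680697583979762,
    843799472493662722761440555172042263, 939092855204526651020538036904025671,
    275412899398336086125680697583979762, 275412899398336086125680697583979762,
    113322498585004499204322446938617994, 432707787484634829614697868396384559,
    939092855204526651020538036904025671, 432707787484634829614697868396384559,
    683649458414781013565809404914482208, 501630911399216687876717655422050887,
    357036569087008559534742620372113136, 838139012553363166255974291491883009,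
    113322498585004499204322446938617994, 109407318602268509924728384186167658,
    933617708815107072811149733091071181, 939092855204526651020538036904025671,
    984818244535754528103549039458486304, 939092855204526651020538036904025671,
    5911264581187970456937574154057384, 5911264581187970456937574154057384,
    984818244535754528103549039458486304, 550614259114318871848011824565987570,
    550614259114318871848011824565987570, 550614259114318871848011824565987570,
    683649458414781013565809404914482208, 56533029438492119636565912386608808,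
    838139012553363166255974291491883009, 357036569087008559534742620372113136,
    623505574891776757599853564016406595, 554874131882327598947997248738974962,
    355693384806729664424707763883576052, 501630911399216687876717655422050887,
    585035507228169721705466024472626573, 917187694415303746165561493619869126,
    798402543315646676646691937456489775, 643979737423348429734985094306093427,
    56533029438492119636565912386608808, 302956614707476516139969348427056310,
    60361231216936777598450215340313141, 484571425286988657647539706161158275,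
    196419238751377827781459179351726153, 604505164923808627482825235367299314,
    174310253096495443554005582624113007, 422322915231669874965350075289294127,
    933617708815107072811149733091071181, 380517352666831834084245686913126507,
    132498967195004421208497024601215588, 249726521669859178378475448854219342,
    234238340476305443327448055358261654, 915879430671208833840741664515459500,
    436277641681835288402193770725415524, 436926758984001962861993679663646827,
    12028977481320021797106407483820567, 646861477961325815492792252557972548,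
    775455188469490575558015465295284423, 305297226320171610368389771663430034,
    213137268570794344050940875461677644, 519814692043172657104640385955957445,
    279622555084696039358777375857150668, 18499587187186774111121799820446452,
    154566192949197973655203443697456617, 154566192949197973655203443697456617,
    562803235933857325063932738033256854, 498732391181579162263360254483990994,
    775496000210578728666414033139763606, 978774703857357104509582499428509236,
    380517352666831834084245686913126507, 688045665744940535083693217558412960,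
    583743079745324802038615338596318445, 582092666286330752624150313634859596,
    277073284959784107831371078745328205, 848359287293655100752910645475772456,
    9431930833736543338516033644366391, 113322498585004499204322446938617994,
    432707787484634829614697868396384559, 113322498585004499204322446938617994,
    432707787484634829614697868396384559, 643979737423348429734985094306093427,
    12028977481320021797106407483820567, 583101945242574637919547075543042469,
    59063144619287654238859000376560279, 291669279169846814652663886566754477,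
    551132159724383926452761253873027463, 915879430671208833840741664515459500,
    445688412033258609123033460015570067, 433681349663685813815506881259012399,
    753791340214180547998793468550545830, 918040181938600797850846949023469773,
    383397771126666683454705780809978178, 550690417571787551913287991140059310,
    279622555084696039358777375857150668, 65579782884325279046181097802140296,
    402814415308000536200029606897146947, 101709366674273936432114016552505833,
    60671167122088929179425964497898120, 152333047108410418961662755912005762,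
    520829882335598819661097889837844646, 713455692274593659495399770016549608,
    735643359685658211459897558150253192, 839275460223600264010588874097133569,
    798402543315646676646691937456489775, 101709366674273936432114016552505833,
    141914809460241350196603652715860051, 50158574157171350826048299057056501,
    279622555084696039358777375857150668, 936213607180888172299510922741909709,
    725137119481151161711548956172978928, 939092855204526651020538036904025671,
    750783363454908009200908985149447374, 20171067575826650118740243923819191,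
    592152951939460768430158006730197394, 748225210228569476837496586932160726,
    255162390338872602140866587074937548, 380517352666831834084245686913126507,
    944245664251819271367369962078472359, 602816492512553488354973082579142886,
    682838510472561512629757753662999217, 602526513579936257951099434892888300,
    882347702174517951620763603307694600, 275707153838614613120358974692100677,
    209581451674045573087806854835309254, 349203007542633698174863381893319221,
    520780795885557591046659646135830958, 722567951272153883609751218947197200,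
    943992266826039664564945555793479858, 48678543479395988511252799195024116,
    318936583224812078793204017815194061, 23691902609993013530910936484907671,
    524682288801239067341277655849863406, 302053865458068469325894243329346126,
    57791328934578439640043686313691680, 260525453559672819479912802200029767,
    901513944321978200261141406421420308, 520754021142815825969843004748466598,
    915879430671208833840741664515459500, 113322498585004499204322446938617994,
    424635396517511436509984869247933743, 174310253096495443554005582624113007,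
    436277641681835288402193770725415524, 445688412033258609123033460015570067,
    380500555693445953265926811282036331, 797628621299706339244109974188851499,
    443092342826411294685235614019163439, 423621740875938203499737819026301231,
    683649458414781013565809404914482208, 778454688394961985664409319911853478,
    526621802400326172178954394199533998, 109407318602268509924728384186167658,
    93932383704646477819969063644256580, 91046491773089292053596530115921194,
    109427640877367478545799364636554378, 486942902957090397741444230757402931,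
    391331352776225605284944695084680811, 680256953061756946133141857309594272,
    60386426096760715623708926326156565, 270746241795222358917271315761570983]

/-- the chain: fixed points, moved point, transversal -/
def chain : List (List ℕ × ℕ × List ℕ) :=
  [([], 2, [156, 167, 0, 160, 168, 157, 153, 154, 158, 170, 161, 169, 162, 165, 150, 159, 152, 164, 166, 2, 1, 155, 163, 151]),
    ([2], 3, [0, 148, 149, 147, 56, 146, 26]),
    ([2, 3], 4, [0, 62, 45, 144, 106, 145]),
    ([2, 3, 4], 10, [0, 79, 143, 121]),
    ([2, 3, 4, 10], 0, [0, 114, 134, 135, 97, 133, 132, 141, 137, 138, 131, 139, 140, 136, 126, 142])]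

theorem gens_check : (Nat.beq (evalP [0]) (vals.getD 0 0) && okP [0] &&
    Nat.beq (evalP wzw) (vals.getD 1 0) && okP wzw &&
    valid (vals.getD 2 0) && Nat.beq (pcomp (vals.getD 1 0) (vals.getD 2 0)) idP) = true := by
  decide +kernel

theorem slp_check : vals.length = slp.length + 3 ∧ (slp.zipIdx.all fun e =>
    decide (e.1.1 < e.2 + 3) && decide (e.1.2 < e.2 + 3) && valid (vals.getD (e.2 + 3) 0) &&
      Nat.beq (pcomp (vals.getD e.1.1 0) (vals.getD e.1.2 0)) (vals.getD (e.2 + 3) 0)) = true := by
  decide +kernel

theorem permOf_zero_code : permOf 0 = 1 := by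
  rw [permOf, dif_neg]
  decide +kernel

theorem vals_mem : ∀ k, valid (vals.getD k 0) = true → permOf (vals.getD k 0) ∈ Kp := by
  obtain ⟨hlen, hs⟩ := slp_check
  have hg := gens_check
  simp only [Bool.and_eq_true] at hg
  obtain ⟨⟨⟨⟨⟨h0, o0⟩, h1⟩, o1⟩, v2⟩, h2⟩ := hg
  have m0 : permOf (vals.getD 0 0) ∈ Kp := by
    refine Subgroup.mem_map.2 ⟨wv gg [0], ?_, ?_⟩
    · rw [show wv gg [0] = gg 0 by simp [wv, lv]]
      exact Subgroup.subset_closure (Set.mem_insert _ _)
    · rw [← Nat.eq_of_beq_eq_true h0]; exact (wv_gg _ o0).2
  have m1 : permOf (vals.getD 1 0) ∈ Kp := by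
    refine Subgroup.mem_map.2 ⟨wv gg wzw, Subgroup.subset_closure (Set.mem_insert_of_mem _ rfl), ?_⟩
    rw [← Nat.eq_of_beq_eq_true h1]; exact (wv_gg _ o1).2
  have v1 : valid (vals.getD 1 0) = true := by
    rw [← Nat.eq_of_beq_eq_true h1]; exact (wv_gg _ o1).1
  have m2 : permOf (vals.getD 2 0) ∈ Kp := by
    have e : permOf (vals.getD 1 0) * permOf (vals.getD 2 0) = 1 := by
      rw [← permOf_pcomp' v1 v2, Nat.eq_of_beq_eq_true h2, permOf_idP]
    rw [← inv_eq_of_mul_eq_one_right e]
    exact inv_mem m1
  have key : ∀ k < vals.length, valid (vals.getD k 0) = true ∧ permOf (vals.getD k 0) ∈ Kp := by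
    intro k
    induction k using Nat.strong_induction_on with
    | _ k ih =>
      intro hk
      by_cases h3 : k < 3
      · interval_cases k
        · exact ⟨by rw [← Nat.eq_of_beq_eq_true h0]; exact (wv_gg _ o0).1, m0⟩
        · exact ⟨v1, m1⟩
        · exact ⟨v2, m2⟩
      · have hi : k - 3 < slp.length := by omega
        have hmem : (slp[k - 3], k - 3) ∈ slp.zipIdx := by
          rw [List.mem_iff_getElem]
          exact ⟨k - 3, by simpa using hi, by simp⟩
        have h := List.all_eq_true.1 hs _ hmem
        simp only [Bool.and_eq_true, decide_eq_true_eq, show k - 3 + 3 = k by omega] at h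
        obtain ⟨⟨⟨ha, hb⟩, hv⟩, he⟩ := h
        obtain ⟨va, ma⟩ := ih _ ha (by omega)
        obtain ⟨vb, mb⟩ := ih _ hb (by omega)
        exact ⟨hv, by rw [← Nat.eq_of_beq_eq_true he, permOf_pcomp' va vb]; exact mul_mem ma mb⟩
  intro k hv
  by_cases hk : k < vals.length
  · exact (key k hk).2
  · rw [List.getD_eq_default _ _ (not_lt.1 hk), permOf_zero_code]
    exact one_mem _

/-- The member with a given number in a transversal; number zero is the identity. -/
def pick : ℕ → ℕ
  | 0 => idP
  | n + 1 => vals.getD n 0

/-- One level of the chain. -/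
def levelCheck (e : List ℕ × ℕ × List ℕ) : Bool :=
  decide (e.2.1 < 24) && e.1.all (fun f => decide (f < 24)) &&
    e.2.2.all (fun n => valid (pick n) && e.1.all fun f => Nat.beq (pimg (pick n) f) f) &&
    decide (e.2.2.map fun n => pimg (pick n) e.2.1).Nodup

theorem step_le {fix : List ℕ} {b : ℕ} {ids : List ℕ} (h : levelCheck (fix, b, ids) = true) :
    ids.length * Nat.card (fixList Kp (fix ++ [b])) ≤ Nat.card (fixList Kp fix) := by
  classical
  simp only [levelCheck, Bool.and_eq_true, decide_eq_true_eq, List.all_eq_true] at h
  obtain ⟨⟨⟨hb, hf⟩, hids⟩, hnd⟩ := h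
  rw [card_eq_card_mul (fixList Kp fix) (pt b)
    (Finset.univ.filter fun y => ∃ g ∈ fixList Kp fix, g (pt b) = y)
    (fun g hg => Finset.mem_filter.2 ⟨Finset.mem_univ _, g, hg, rfl⟩)
    (fun y hy => (Finset.mem_filter.1 hy).2), fixList_append]
  refine Nat.mul_le_mul_right _ ?_
  have hsub : ((ids.map fun n => pimg (pick n) b).map pt).toFinset ⊆
      Finset.univ.filter fun y => ∃ g ∈ fixList Kp fix, g (pt b) = y := by
    intro y hy
    rw [List.mem_toFinset, List.mem_map] at hy
    obtain ⟨_, hi, rfl⟩ := hy
    obtain ⟨n, hn, rfl⟩ := List.mem_map.1 hi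
    obtain ⟨hv, hfix⟩ := hids n hn
    refine Finset.mem_filter.2 ⟨Finset.mem_univ _, permOf (pick n), mem_fixList.2 ⟨?_, ?_⟩, ?_⟩
    · cases n with
      | zero => rw [pick, permOf_idP]; exact one_mem _
      | succ n => exact vals_mem n hv
    · intro f hf'
      rw [permOf_apply hv, pfun, idx_pt (hf f hf'), Nat.eq_of_beq_eq_true (hfix f hf')]
    · rw [permOf_apply hv, pfun, idx_pt hb]
  refine le_trans (le_of_eq ?_) (Finset.card_le_card hsub)
  rw [List.toFinset_card_of_nodup, List.length_map, List.length_map]
  refine List.Nodup.map_on (fun a ha c hc e => ?_) hnd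
  obtain ⟨n, hn, rfl⟩ := List.mem_map.1 ha
  obtain ⟨k, hk, rfl⟩ := List.mem_map.1 hc
  have := congrArg idx e
  rwa [idx_pt (pimg_lt (hids n hn).1 hb), idx_pt (pimg_lt (hids k hk).1 hb)] at this

theorem chain_check : chain.all levelCheck = true := by decide +kernel

theorem card_Kp_ge : 64512 ≤ Nat.card Kp := by
  have h : ∀ e ∈ chain, e.2.2.length * Nat.card (fixList Kp (e.1 ++ [e.2.1])) ≤
      Nat.card (fixList Kp e.1) :=
    fun e he => step_le (List.all_eq_true.1 chain_check e he)
  simp only [chain, List.forall_mem_cons, List.length_cons, List.length_nil, List.nil_append,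
    List.cons_append] at h
  obtain ⟨h0, h1, h2, h3, h4, -⟩ := h
  have hpos : 1 ≤ Nat.card (fixList Kp [2, 3, 4, 10, 0]) := Nat.card_pos
  show 64512 ≤ Nat.card (fixList Kp [])
  omega

/-- The trio fixed by the two generators. -/
def T0 : Finset (Finset GolayPt) := GolayOrbit.fam J4XBase18.trio0

theorem T0_mem : T0 ∈ trios := GolayOrbitThms.trio_of_chk (by decide +kernel)

theorem smul_T0 {P : ℕ} (hv : valid P = true) (h : fixT0 P = true) : permOf P • T0 = T0 := by
  simp only [fixT0, List.all_eq_true, List.contains_iff_mem] at h
  refine Finset.eq_of_subset_of_card_le ?_ (by rw [Finset.card_smul_finset])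
  intro s hs
  obtain ⟨a, ha, rfl⟩ := Finset.mem_smul_finset.1 hs
  obtain ⟨o, ho, rfl⟩ := GolayOrbit.mem_fam.1 ha
  rw [smul_mset hv]
  exact GolayOrbit.mem_fam.2 ⟨_, h o ho, rfl⟩

theorem fix_check : (fixT0 (evalP [0]) && okP [0] && fixT0 (evalP wzw) && okP wzw) = true := by
  decide +kernel

theorem stab_eq : Kg = MulAction.stabilizer ↥M24 T0 := by
  have hle : Kg ≤ MulAction.stabilizer ↥M24 T0 := by
    have hk := fix_check
    simp only [Bool.and_eq_true] at hk
    rw [Kg, Subgroup.closure_le]
    rintro z (rfl | rfl) <;> rw [SetLike.mem_coe, MulAction.mem_stabilizer_iff, Subgroup.smul_def]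
    · rw [show gg 0 = wv gg [0] by simp [wv, lv], (wv_gg _ hk.1.1.2).2]
      exact smul_T0 (wv_gg _ hk.1.1.2).1 hk.1.1.1
    · rw [(wv_gg _ hk.2).2]
      exact smul_T0 (wv_gg _ hk.2).1 hk.1.2
  refine Subgroup.eq_of_le_of_card_ge hle ?_
  have hK : Nat.card Kp = Nat.card Kg := Subgroup.card_map_of_injective M24.subtype_injective
  have horb : MulAction.orbit ↥M24 T0 = trios := by
    ext X
    constructor
    · rintro ⟨g, rfl⟩; exact GolayTrioSextet.smul_mem_trios g.2 T0_mem
    · intro hX
      obtain ⟨a, ha⟩ := GolayOrbitThms.exists_smul_trio T0_mem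
      obtain ⟨b, hb⟩ := GolayOrbitThms.exists_smul_trio hX
      exact ⟨b * a⁻¹, by show (b * a⁻¹) • T0 = X; rw [mul_smul, ← ha, inv_smul_smul, hb]⟩
  have h := Subgroup.card_eq_card_quotient_mul_card_subgroup (MulAction.stabilizer ↥M24 T0)
  rw [GolayM24.card_M24, ← Nat.card_congr (MulAction.orbitEquivQuotientStabilizer ↥M24 T0), horb,
    Nat.card_coe_set_eq, GolayOrbitThms.ncard_trios] at h
  have := card_Kp_ge
  omega

theorem t_relators :
    q Cfsg.Spor.J4.t * gx 0 = gx 0 * q Cfsg.Spor.J4.t ∧
    q Cfsg.Spor.J4.t * wv gx wzw = wv gx wzw * q Cfsg.Spor.J4.t := by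
  have key : ∀ r ∈ Cfsg.Spor.J4.extra, q r = 1 := fun r hr => by
    rw [q, PresentedGroup.mk_eq_one_iff]
    exact Subgroup.subset_normalClosure (Or.inr hr)
  have conv : ∀ a b : Cfsg.Spor.J4, a⁻¹ * b⁻¹ * a * b = 1 → a * b = b * a := by
    intro a b h
    calc a * b = b * a * (a⁻¹ * b⁻¹ * a * b) := by group
      _ = b * a := by rw [h, mul_one]
  have hz : q (Cfsg.Spor.J4.y * Cfsg.Spor.J4.x * Cfsg.Spor.J4.y *
      ((Cfsg.Spor.J4.x * Cfsg.Spor.J4.y⁻¹) ^ 2) * ((Cfsg.Spor.J4.x * Cfsg.Spor.J4.y) ^ 3)) = wv gx wzw := by
    simp [wzw, wv, lv, gx_zero, gx_one, pow_succ, mul_assoc]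
  constructor
  · rw [gx_zero]
    have h := key _ (List.mem_of_getElem? (i := 9) rfl)
    simp only [map_mul, map_inv] at h
    exact conv _ _ h
  · rw [← hz]
    refine conv _ _ ?_
    have h := key _ (List.mem_of_getElem? (i := 8) rfl)
    simp only [map_mul, map_inv] at h ⊢
    exact h

theorem kcomm {P : ℕ} (hP : good P = true) (hT : fixT0 P = true) :
    q Cfsg.Spor.J4.t * m P = m P * q Cfsg.Spor.J4.t := by
  rw [m_good hP]
  have hle : Kg ≤ (Subgroup.centralizer {q Cfsg.Spor.J4.t}).comap
      (S1711.tau.comp presEquiv.symm.toMonoidHom) := by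
    have hx : presEquiv.symm (gg 0) = ps 0 := by
      rw [MulEquiv.symm_apply_eq]
      simpa [wv, lv] using (presEquiv_wv (w := [0]) (by decide)).symm
    have hz : presEquiv.symm (wv gg wzw) = wv ps wzw := by
      rw [MulEquiv.symm_apply_eq, presEquiv_wv (by decide)]
    rw [Kg, Subgroup.closure_le]
    rintro z (rfl | rfl) <;> rw [SetLike.mem_coe, Subgroup.mem_comap,
      Subgroup.mem_centralizer_singleton_iff, MonoidHom.comp_apply, MulEquiv.coe_toMonoidHom]
    · rw [hx]; exact t_relators.1.symm
    · rw [hz, J4M24Pres13.wv_map]; exact t_relators.2.symm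
  have hmem : (⟨permOf P, permOf_mem_M24 hP⟩ : ↥M24) ∈ Kg := by
    rw [stab_eq, MulAction.mem_stabilizer_iff]
    exact smul_T0 (valid_of_good hP) hT
  have h := Subgroup.mem_centralizer_singleton_iff.1 (hle hmem)
  exact h.symm

/-! ### the long relations -/

/-- The word of the first conjugator. -/
def wa : List ℕ := [2, 0, 3, 0, 2, 0, 3, 0]
/-- Its inverse. -/
def waI : List ℕ := [1, 2, 1, 3, 1, 2, 1, 3]
/-- The word of the second conjugator. -/
def wb : List ℕ := [0, 2, 0, 2, 0, 2, 2, 0, 2, 0, 2, 0, 2, 0, 2, 0, 2, 0, 2, 2]
/-- Its inverse. -/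
def wbI : List ℕ := [3, 3, 1, 3, 1, 3, 1, 3, 1, 3, 1, 3, 1, 3, 3, 1, 3, 1, 3, 1]
/-- The leading factor of the second relation. -/
def wY : List ℕ :=
  [2, 0, 2, 0, 2, 0, 2, 2, 0, 2, 0, 2, 0, 2, 2, 0, 2, 0, 2, 0, 2]

theorem rels : altVal m (q Cfsg.Spor.J4.t) relA = 1 ∧ altVal m (q Cfsg.Spor.J4.t) relB = 1 := by
  have key : ∀ r ∈ Cfsg.Spor.J4.extra, q r = 1 := fun r hr => by
    rw [q, PresentedGroup.mk_eq_one_iff]
    exact Subgroup.subset_normalClosure (Or.inr hr)
  constructor
  · have h := key _ (List.mem_of_getElem? (i := 10) rfl)
    rw [← h]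
    simp only [relA, altVal]
    rw [m_word (w := [2] ++ waI) (c := 652972543795511064724345351988956370) (by decide +kernel),
      m_word (w := wa ++ [2] ++ waI) (c := 46295494398780993553105610245520916) (by decide +kernel),
      m_word (w := wa) (c := 132056853011701137955993130399014568) (by decide +kernel)]
    simp [wa, waI, wv, lv, gx_zero, gx_one, pow_succ, mul_assoc]
  · have h := key _ (List.mem_of_getElem? (i := 11) rfl)
    rw [← h]
    simp only [relB, altVal]
    rw [m_word (w := wY) (c := 612131189791198827083437709345656197) (by decide +kernel),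
      m_word (w := wbI) (c := 807817067203401370953522382883932706) (by decide +kernel),
      m_word (w := wb ++ wY) (c := 920433896810894153024533932203588721) (by decide +kernel),
      m_word (w := wb) (c := 231229256689100798787363907265069360) (by decide +kernel)]
    simp [wY, wb, wbI, wv, lv, gx_zero, gx_one, pow_succ, mul_assoc]

end Cfsg.Agent.J4XPerm10
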