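import Mathlib
import Cfsg.Agent.Lib.J4XCentCount12
import Cfsg.Agent.Lib.J4XCentCoreData12
import Cfsg.Agent.Lib.J4XPerm10
import Cfsg.Agent.Lib.J4M24Iso13

/-!
Fifteen elements centralising the involution, their maps on 77 vectors, and the order of the centraliser
from the orbit of the subgroup of shape 2^11 : M24 under it.
-/

set_option autoImplicit false
set_option maxRecDepth 100000
set_option linter.style.haveILetI false

namespace Cfsg.Agent.J4XCentGens12

open Cfsg.Agent.GolayBasic Cfsg.Agent.GolayEnumComp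
open Cfsg.Agent.GolayPerm hiding pts
open Cfsg.Agent.J4XBase18 Cfsg.Agent.J4XCert18 Cfsg.Agent.J4XCount4
open Cfsg.Agent.J4XCentData12 Cfsg.Agent.J4XCentClass12 Cfsg.Agent.J4XCentPack12
open Cfsg.Agent.J4XCentRep12 Cfsg.Agent.J4XCentCount12 Cfsg.Agent.J4XCentCoreData12
open Cfsg.Agent.J4Rep13 Cfsg.Agent.J4PresGen13
open Cfsg.Agent.J4M24Iso13 (evalP okP code eYi)

variable {G : Type*} [Group G] (S : Setup G)

/-- the fifteen elements -/
def gval (i : ℕ) : G := bif Nat.blt i 14 then psi S (gpairs.getD i one) else S.t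

theorem gval_lt {i : ℕ} (h : i < 14) : gval S i = psi S (gpairs.getD i one) := by
  have e : Nat.blt i 14 = true := by rw [Nat.blt_eq]; exact h
  rw [gval, e, cond_true]

theorem gval_last : gval S 14 = S.t := rfl

theorem gpairs_ok : ((List.range 14).all fun i => okH (gpairs.getD i one) &&
    eqH (hmulF (gpairs.getD i one) (z0, idP)) (hmulF (z0, idP) (gpairs.getD i one))) = true := by
  decide +kernel

theorem comb_ok : (eqH (comb deList combC).1 (z0, idP) && eqH (comb deList combC).2 (z0, idP) &&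
    inE z0) = true := by
  decide +kernel

theorem psi_z0 : psi S (z0, idP) = zz S := by
  rw [psi, m_idP, mul_one, zz]

theorem gval_cen (L : Laws) {i : ℕ} (hi : i < 15) :
    gval S i ∈ Subgroup.centralizer ({zz S} : Set G) := by
  have hz : okH (z0, idP) = true := by decide +kernel
  rw [Subgroup.mem_centralizer_singleton_iff, ← psi_z0 S]
  rcases Nat.lt_succ_iff_lt_or_eq.1 hi with h | rfl
  · have hg := List.all_eq_true.1 gpairs_ok i (List.mem_range.2 h)
    rw [Bool.and_eq_true, eqH_iff, hmulF_eq] at hg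
    rw [gval_lt S h, ← psi_hmul S L hg.1 hz, ← psi_hmul S L hz hg.1, hg.2]
  · have hc := comb_ok
    simp only [Bool.and_eq_true, eqH_iff] at hc
    obtain ⟨⟨h1, h2⟩, -⟩ := hc
    have h3 := (comb_sound S L deList combC fun q hq => ⟨hq, deList_ok q hq⟩).2.2
    rw [h1, h2] at h3
    rw [gval_last]
    calc S.t * psi S (z0, idP) = S.t * psi S (z0, idP) * (S.t * S.t) := by rw [S.tsq, mul_one]
      _ = (S.t * psi S (z0, idP) * S.t) * S.t := by group
      _ = _ := by rw [h3]

theorem code_facts : (good (code 0) && good (code 1) && good (code 2) && good (code 3) &&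
    Nat.beq (code 0) J4XCentClass12.eX && Nat.beq (code 1) J4XCentClass12.eX &&
    Nat.beq (code 2) J4XCentClass12.eY && Nat.beq (pcomp (code 2) (code 3)) idP &&
    Nat.beq (pcomp (code 0) (code 1)) idP) = true := by
  decide +kernel

/-- a word in the first two generators acts by its maps -/
theorem rho_word {ρ : G →* Equiv.Perm Vec} (H : RepHyp S ρ) :
    ∀ w : List ℕ, (∀ l ∈ w, l < 4) → good (evalP w) = true ∧ ρ (S.m (evalP w)) = wv pn w
  | [], _ => ⟨J4XPerm10.good_idP, by
      show ρ (S.m idP) = 1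
      rw [m_idP, map_one]⟩
  | l :: w, hl => by
    obtain ⟨hg, hr⟩ := rho_word H w fun l' h' => hl l' (List.mem_cons_of_mem _ h')
    have h4 := hl l List.mem_cons_self
    have hc := code_facts
    simp only [Bool.and_eq_true, Nat.beq_eq] at hc
    obtain ⟨⟨⟨⟨⟨⟨⟨⟨g0, g1⟩, g2⟩, g3⟩, c0⟩, -⟩, c2⟩, c23⟩, c01⟩ := hc
    have hgl : good (code l) = true := by
      rcases l with _ | _ | _ | _ | l
      · exact g0
      · exact g1
      · exact g2
      · exact g3
      · omega
    refine ⟨J4XPerm10.good_pcomp hgl hg, ?_⟩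
    show ρ (S.m (pcomp (code l) (evalP w))) = lv pn l * wv pn w
    rw [S.m_mul hgl hg, map_mul, hr]
    congr 1
    have hy : ρ (S.m (code 2)) = py := by rw [c2, H.hY]
    have hx : ρ (S.m (code 0)) = px := by rw [c0, H.hX]
    rcases l with _ | _ | _ | _ | l
    · exact hx
    · show ρ (S.m (code 1)) = px⁻¹
      refine eq_inv_of_mul_eq_one_right (a := px) ?_
      rw [← hx, ← map_mul, ← S.m_mul g0 g1, c01, m_idP, map_one]
    · exact hy
    · show ρ (S.m (code 3)) = py⁻¹
      refine eq_inv_of_mul_eq_one_right (a := py) ?_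
      rw [← hy, ← map_mul, ← S.m_mul g2 g3, c23, m_idP, map_one]
    · omega

theorem gmats_ok : (matsOK gmats && Nat.beq gmats.length 15 &&
    ((List.range 3).all fun k => (pickWords.getD k []).all (fun l => decide (l < 4)) &&
      Nat.beq (gpairs.getD k one).1 0 && Nat.beq (evalP (pickWords.getD k [])) (gpairs.getD k one).2 &&
      sameUnits [gmats.getD k []] (mats (pickWords.getD k []))) &&
    ((List.range 11).all fun k => eqH (gpairs.getD (3 + k) one) (bas.getD k 0, idP) &&
      sameUnits [gmats.getD (3 + k) []] [bms.getD k []]) &&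
    sameUnits [gmats.getD 14 []] [Cfsg.Agent.J4RepData13.rt] && Nat.beq bas.length 11) = true := by
  decide +kernel

theorem gval_rep {ρ : G →* Equiv.Perm Vec} (H : RepHyp S ρ) {i : ℕ} (hi : i < 15) (x : Vec) :
    ((ρ (gval S i)) x).val = app (gmats.getD i []) x.val := by
  have hok := gmats_ok
  simp only [Bool.and_eq_true, List.all_eq_true, List.mem_range, eqH_iff, Nat.beq_eq,
    decide_eq_true_eq] at hok
  obtain ⟨⟨⟨⟨-, h3⟩, h11⟩, ht⟩, hb⟩ := hok
  show _ = appL [gmats.getD i []] x.val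
  by_cases hi3 : i < 3
  · obtain ⟨⟨⟨hw, hp1⟩, hp2⟩, hu⟩ := h3 i hi3
    obtain ⟨-, hr⟩ := rho_word S H (pickWords.getD i []) hw
    rw [sameUnits_sound hu x.val x.2, gval_lt S (by omega), psi, hp1, e_zero, one_mul, ← hp2, hr,
      wv_pn_apply _ (fun l hl => (hw l hl).trans (by norm_num))]
  by_cases hi14 : i < 14
  · obtain ⟨k, rfl⟩ := Nat.exists_eq_add_of_le (Nat.le_of_not_lt hi3)
    obtain ⟨hp, hu⟩ := h11 k (by omega)
    rw [sameUnits_sound hu x.val x.2, gval_lt S hi14, hp, psi, m_idP, mul_one,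
      (bas_rep S H k (by omega)).2 x]
    rfl
  · obtain rfl : i = 14 := by omega
    rw [sameUnits_sound ht x.val x.2, gval_last, H.hT]
    rfl

/-! ### the 77 vectors -/

theorem pts_ok : (Nat.beq pts.length 77 && Nat.beq (pts.getD 0 0) v0 &&
    (pts.all fun p => decide (p < 2 ^ 112)) && decide pts.Nodup &&
    Nat.beq perms.length 15 && (perms.all fun l => Nat.beq l.length 77 && l.all fun j => decide (j < 77)) &&
    ((List.range 15).all fun i =>
      Nat.beq (mulL [gmats.getD i []] (pack pts)) (pack ((perms.getD i []).map fun j => pts.getD j 0))) &&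
    Nat.beq ptree.length 76 && ((List.range 76).all fun k =>
      decide ((ptree.getD k (0, 0)).2 < 15) && decide ((ptree.getD k (0, 0)).1 < k + 1) &&
        Nat.beq ((perms.getD (ptree.getD k (0, 0)).2 []).getD (ptree.getD k (0, 0)).1 0) (k + 1))) = true := by
  decide +kernel

theorem pts_lt (j : Fin 77) : pts.getD j.val 0 < 2 ^ 112 := by
  have h := pts_ok
  simp only [Bool.and_eq_true, List.all_eq_true, decide_eq_true_eq, Nat.beq_eq] at h
  obtain ⟨⟨⟨⟨⟨⟨⟨⟨hl, -⟩, hp⟩, -⟩, -⟩, -⟩, -⟩, -⟩, -⟩ := h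
  have hj : j.val < pts.length := hl.symm ▸ j.2
  rw [List.getD_eq_getElem _ _ hj]
  exact hp _ (List.getElem_mem hj)

/-- the vectors -/
def ptv (j : Fin 77) : Vec := ⟨pts.getD j.val 0, pts_lt j⟩

theorem ptv_inj : Function.Injective ptv := by
  intro a b e
  have h := pts_ok
  simp only [Bool.and_eq_true, List.all_eq_true, decide_eq_true_eq, Nat.beq_eq] at h
  obtain ⟨⟨⟨⟨⟨⟨⟨⟨hl, -⟩, -⟩, hn⟩, -⟩, -⟩, -⟩, -⟩, -⟩ := h
  have e' := congrArg Subtype.val e
  simp only [ptv] at e'
  have ha : a.val < pts.length := hl.symm ▸ a.2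
  have hb : b.val < pts.length := hl.symm ▸ b.2
  rw [List.getD_eq_getElem _ _ ha, List.getD_eq_getElem _ _ hb] at e'
  exact Fin.ext ((List.Nodup.getElem_inj_iff hn).1 e')

theorem ptv_zero : ptv 0 = vec0 := by
  have h := pts_ok
  simp only [Bool.and_eq_true, Nat.beq_eq] at h
  exact Subtype.ext h.1.1.1.1.1.1.1.2

/-- the map of a generator on the indices -/
def pidx (i : ℕ) (j : Fin 77) : Fin 77 := Fin.ofNat 77 ((perms.getD i []).getD j.val 0)

theorem gval_ptv {ρ : G →* Equiv.Perm Vec} (H : RepHyp S ρ) {i : ℕ} (hi : i < 15) (j : Fin 77) :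
    (ρ (gval S i)) (ptv j) = ptv (pidx i j) := by
  have h := pts_ok
  simp only [Bool.and_eq_true, List.all_eq_true, decide_eq_true_eq, Nat.beq_eq, List.mem_range] at h
  obtain ⟨⟨⟨⟨⟨⟨⟨⟨hl, -⟩, -⟩, -⟩, hpl⟩, hp⟩, hm⟩, -⟩, -⟩ := h
  have hi' : i < perms.length := hpl.symm ▸ hi
  obtain ⟨hlen, hlt⟩ := hp _ (List.getElem_mem hi')
  have hj : j.val < (perms[i]).length := hlen.symm ▸ j.2
  have hk : (perms.getD i []).getD j.val 0 < 77 := by
    rw [List.getD_eq_getElem _ _ hi', List.getD_eq_getElem _ _ hj]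
    exact hlt _ (List.getElem_mem hj)
  have hwf : matsWF [gmats.getD i []] := by
    have hok := gmats_ok
    simp only [Bool.and_eq_true, Nat.beq_eq] at hok
    have hg : i < gmats.length := hok.1.1.1.1.2.symm ▸ hi
    intro M hM
    rw [List.mem_singleton] at hM
    rw [hM, List.getD_eq_getElem _ _ hg]
    exact matsWF_of_ok hok.1.1.1.1.1 _ (List.getElem_mem _)
  apply Subtype.ext
  rw [gval_rep S H hi]
  have e := congrArg (fun X => blk X j.val) (hm i hi)
  have hj128 : ∀ n, n < 77 → pts.getD n 0 < 2 ^ 128 := fun n hn =>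
    (pts_lt ⟨n, hn⟩).trans (by norm_num)
  rw [blk_mulL hwf _ (j.2.trans (by norm_num)), blk_pack pts j.val (hl.symm ▸ j.2) (hj128 _ j.2)] at e
  have hj' : j.val < (perms.getD i []).length := by
    rw [List.getD_eq_getElem _ _ hi']; exact hj
  have e2 : ((perms.getD i []).map fun j => pts.getD j 0).getD j.val 0 =
      pts.getD ((perms.getD i []).getD j.val 0) 0 := by
    rw [List.getD_eq_getElem _ _ (by simpa using hj'), List.getElem_map, List.getD_eq_getElem _ _ hj']
  rw [blk_pack _ j.val (by simpa using hj') (by rw [e2]; exact hj128 _ hk), e2] at e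
  show appL [gmats.getD i []] (pts.getD j.val 0) = pts.getD (pidx i j).val 0
  rw [e, pidx, Fin.val_ofNat, Nat.mod_eq_of_lt hk]

/-- the centraliser of the involution -/
abbrev cen : Subgroup G := Subgroup.centralizer ({zz S} : Set G)

theorem reach {ρ : G →* Equiv.Perm Vec} (H : RepHyp S ρ) (L : Laws) :
    ∀ j : Fin 77, ∃ c ∈ cen S, (ρ c) vec0 = ptv j := by
  have h := pts_ok
  simp only [Bool.and_eq_true, List.all_eq_true, decide_eq_true_eq, Nat.beq_eq, List.mem_range] at h
  obtain ⟨-, htr⟩ := h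
  intro j
  obtain ⟨n, hn⟩ := j
  induction n using Nat.strong_induction_on with
  | _ n ih =>
    cases n with
    | zero => exact ⟨1, one_mem _, by rw [map_one]; exact ptv_zero.symm⟩
    | succ k =>
      obtain ⟨⟨hg, hpar⟩, hk⟩ := htr k (by omega)
      obtain ⟨c, hc, ec⟩ := ih (ptree.getD k (0, 0)).1 hpar (by omega)
      refine ⟨gval S (ptree.getD k (0, 0)).2 * c, mul_mem (gval_cen S L hg) hc, ?_⟩
      rw [map_mul, Equiv.Perm.mul_apply, ec, gval_ptv S H hg]
      congr 1
      apply Fin.ext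
      rw [pidx, Fin.val_ofNat, hk, Nat.mod_eq_of_lt hn]

/-- the map from the cosets in the centraliser to the vectors -/
noncomputable def orbMap {ρ : G →* Equiv.Perm Vec} (H : RepHyp S ρ) (hgen : GenBase S) :
    ↥(cen S) ⧸ (base S).subgroupOf (cen S) → Vec :=
  Quotient.lift (fun c : cen S => (ρ c) vec0) fun a b hab => by
    have hab : a⁻¹ * b ∈ (base S).subgroupOf (cen S) := QuotientGroup.leftRel_apply.1 hab
    rw [Subgroup.mem_subgroupOf] at hab
    have e : (ρ ((a⁻¹ * b : cen S) : G)) vec0 = vec0 := base_fix S H hgen hab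
    rw [Subgroup.coe_mul, Subgroup.coe_inv] at e
    calc (ρ (a : G)) vec0 = (ρ (a : G)) ((ρ ((a : G)⁻¹ * b)) vec0) := by rw [e]
      _ = _ := by rw [← Equiv.Perm.mul_apply, ← map_mul, mul_inv_cancel_left]

theorem orbMap_mk {ρ : G →* Equiv.Perm Vec} (H : RepHyp S ρ) (hgen : GenBase S) (c : cen S) :
    orbMap S H hgen (QuotientGroup.mk c) = (ρ (c : G)) vec0 := rfl

theorem orbit_facts [Finite G] {ρ : G →* Equiv.Perm Vec} (H : RepHyp S ρ) (L : Laws) (hgen : GenBase S)
    (h77 : {q : G ⧸ base S | CarriesQ S (zz S) q}.ncard ≤ 77) :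
    ((base S).subgroupOf (cen S)).index = 77 ∧ Set.range (orbMap S H hgen) = Set.range ptv := by
  classical
  have hsub : Set.range ptv ⊆ Set.range (orbMap S H hgen) := by
    rintro _ ⟨j, rfl⟩
    obtain ⟨c, hc, e⟩ := reach S H L j
    exact ⟨QuotientGroup.mk ⟨c, hc⟩, e⟩
  have hle : Nat.card (↥(cen S) ⧸ (base S).subgroupOf (cen S)) ≤ 77 := by
    refine le_trans ?_ h77
    rw [← Nat.card_coe_set_eq]
    refine Nat.card_le_card_of_injective
      (fun q => ⟨QuotientGroup.mk ((q.out : cen S) : G), ?_⟩) ?_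
    · show CarriesQ S (zz S) _
      rw [carriesQ_mk S hgen, Carries]
      have hc := Subgroup.mem_centralizer_singleton_iff.1 (q.out).2
      rw [mul_assoc, ← hc, inv_mul_cancel_left]
      exact zz_mem S
    · intro a b e
      have e' := QuotientGroup.eq.1 (congrArg Subtype.val e)
      rw [← a.out_eq', ← b.out_eq', QuotientGroup.eq, Subgroup.mem_subgroupOf]
      simpa using e'
  have h1 : (Set.range ptv).ncard = 77 := by
    rw [← Nat.card_coe_set_eq, Nat.card_range_of_injective ptv_inj, Nat.card_eq_fintype_card,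
      Fintype.card_fin]
  have h2 : (Set.range (orbMap S H hgen)).ncard ≤
      Nat.card (↥(cen S) ⧸ (base S).subgroupOf (cen S)) := by
    rw [← Nat.card_coe_set_eq]
    exact Finite.card_range_le _
  have h3 := Set.ncard_le_ncard hsub (Set.finite_range _)
  refine ⟨?_, (Set.eq_of_subset_of_ncard_le hsub (by omega) (Set.finite_range _)).symm⟩
  rw [Subgroup.index_eq_card]
  omega

theorem card_cen [Finite G] {ρ : G →* Equiv.Perm Vec} (H : RepHyp S ρ) (L : Laws) (hgen : GenBase S)
    (hinj : PsiInj S) (hB : Nat.card ↥(base S) = 2048 * 244823040)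
    (h77 : {q : G ⧸ base S | CarriesQ S (zz S) q}.ncard ≤ 77) :
    Nat.card ↥(cen S) = 887040 * 24576 := by
  have hi := (orbit_facts S H L hgen h77).1
  have hc : Nat.card ↥((base S).subgroupOf (cen S)) = 283115520 := by
    have h := card_cenBase S hgen hinj hB
    rw [cenBase, inf_comm] at h
    rw [← Subgroup.inf_subgroupOf_right, ← h]
    exact Nat.card_congr (Subgroup.subgroupOfEquivOfLe inf_le_right).toEquiv
  rw [← Subgroup.card_mul_index ((base S).subgroupOf (cen S)), hi, hc]

/-- every element of the centraliser permutes the vectors -/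
theorem cen_maps [Finite G] {ρ : G →* Equiv.Perm Vec} (H : RepHyp S ρ) (L : Laws) (hgen : GenBase S)
    (h77 : {q : G ⧸ base S | CarriesQ S (zz S) q}.ncard ≤ 77) {c : G} (hc : c ∈ cen S) (j : Fin 77) :
    ∃ k, (ρ c) (ptv j) = ptv k := by
  obtain ⟨d, hd, e⟩ := reach S H L j
  have h := (orbit_facts S H L hgen h77).2
  have hm : (ρ (c * d)) vec0 ∈ Set.range ptv := by
    rw [← h]
    exact ⟨QuotientGroup.mk ⟨c * d, mul_mem hc hd⟩, rfl⟩
  obtain ⟨k, hk⟩ := hm
  exact ⟨k, by rw [← e, ← Equiv.Perm.mul_apply, ← map_mul, hk]⟩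

end Cfsg.Agent.J4XCentGens12
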