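import Mathlib
import Cfsg.Agent.Lib.J4XCentGens12
import Cfsg.Agent.Lib.GolayM24
import Cfsg.Agent.Lib.GolaySimple
import Cfsg.Prelude.Def_Sporadic
import Cfsg.Agent.Lib.ExtraspecialTransfer

/-!
The centraliser of the involution maps onto the stabiliser of a duad in the group of the code, with kernel
of order 3 * 2^13 holding the normal extraspecial subgroup of order 2^13.
-/

set_option autoImplicit false
set_option maxRecDepth 100000
set_option linter.style.haveILetI false

namespace Cfsg.Agent.J4XCentCore12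

open Cfsg Cfsg.Agent.GolayBasic Cfsg.Agent.GolayPerm Cfsg.Agent.GolayEnumComp
open Cfsg.Agent.J4XBase18 Cfsg.Agent.J4XCert18 Cfsg.Agent.J4XCount4
open Cfsg.Agent.J4XCentClass12 Cfsg.Agent.J4XCentRep12 Cfsg.Agent.J4XCentCount12
open Cfsg.Agent.J4XCentCoreData12 Cfsg.Agent.J4XCentGens12
open Cfsg.Agent.J4Rep13 (Vec)
open Cfsg.Agent.J1CertCore91 (force force_eq)
open scoped Pointwise

/-- the point map of a generator -/
noncomputable def gperm (i : ℕ) : Equiv.Perm GolayPt := permOf (gcodes.getD i 0)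

/-- the group they generate -/
noncomputable def H24 : Subgroup (Equiv.Perm GolayPt) :=
  Subgroup.closure (Set.range fun i : Fin 15 => gperm i)

/-- a hexad -/
def hexm (j : ℕ) : Finset GolayPt := mset (hexes.getD j 0)

theorem gcodes_good : ((List.range 14).all fun i => good (gcodes.getD i idP) &&
    Nat.beq (gcodes.getD i idP) (gcodes.getD i 0)) = true := by
  decide +kernel

variable {G : Type} [Group G] (S : Setup G)

/-- the generators of the graph -/
noncomputable def lamGen (L : Laws) (i : Fin 15) : ↥(cen S) × Equiv.Perm GolayPt :=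
  (⟨gval S i, gval_cen S L i.2⟩, gperm i)

/-- the graph -/
noncomputable def lam (L : Laws) : Subgroup (↥(cen S) × Equiv.Perm GolayPt) :=
  Subgroup.closure (Set.range (lamGen S L))

/-- an element and a point map agree on the vectors and the hexads -/
def Agree (ρ : G →* Equiv.Perm Vec) (p : ↥(cen S) × Equiv.Perm GolayPt) : Prop :=
  p.2 ∈ M24 ∧ ∀ j : Fin 77, ∃ k : Fin 77, (ρ (p.1 : G)) (ptv j) = ptv k ∧ p.2 • hexm j = hexm k

theorem agree_of_mem [Finite G] {ρ : G →* Equiv.Perm Vec} (H : RepHyp S ρ) (L : Laws)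
    (hgen : GenBase S) (h77 : {q : G ⧸ base S | CarriesQ S (zz S) q}.ncard ≤ 77)
    (hM : ∀ i < 15, gperm i ∈ M24)
    (hact : ∀ i < 15, ∀ j < 77, gperm i • mset (hexes.getD j 0) =
      mset (hexes.getD ((perms.getD i []).getD j 0) 0))
    {p : ↥(cen S) × Equiv.Perm GolayPt} (hp : p ∈ lam S L) : Agree S ρ p := by
  refine Subgroup.closure_induction ?_ ?_ ?_ ?_ hp
  · rintro _ ⟨i, rfl⟩
    refine ⟨hM i i.2, fun j => ⟨pidx i j, gval_ptv S H i.2 j, ?_⟩⟩
    have h := pts_ok
    simp only [Bool.and_eq_true, List.all_eq_true, decide_eq_true_eq, Nat.beq_eq] at h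
    obtain ⟨⟨⟨-, hpl⟩, hpp⟩, -⟩ := h.1.1
    have hi' : i.val < perms.length := by
      have : perms.length = 15 := hpl
      omega
    have hj : j.val < (perms[i.val]).length := by
      rw [(hpp _ (List.getElem_mem hi')).1]
      exact j.2
    have hk : (perms.getD i []).getD j.val 0 < 77 := by
      rw [List.getD_eq_getElem _ _ hi', List.getD_eq_getElem _ _ hj]
      exact (hpp _ (List.getElem_mem hi')).2 _ (List.getElem_mem hj)
    show gperm i • mset (hexes.getD j.val 0) = mset (hexes.getD (pidx i j).val 0)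
    rw [hact i i.2 j j.2, pidx, Fin.val_ofNat, Nat.mod_eq_of_lt hk]
  · exact ⟨one_mem _, fun j => ⟨j, by simp, by simp⟩⟩
  · rintro a b - - ⟨ha, ha'⟩ ⟨hb, hb'⟩
    refine ⟨mul_mem ha hb, fun j => ?_⟩
    obtain ⟨k, hk, hk'⟩ := hb' j
    obtain ⟨l, hl, hl'⟩ := ha' k
    refine ⟨l, ?_, ?_⟩
    · rw [Prod.fst_mul, Subgroup.coe_mul, map_mul, Equiv.Perm.mul_apply, hk, hl]
    · rw [Prod.snd_mul, mul_smul, hk', hl']
  · rintro a - ⟨ha, ha'⟩
    refine ⟨inv_mem ha, fun j => ?_⟩
    obtain ⟨k, hk⟩ := cen_maps S H L hgen h77 (inv_mem a.1.2) j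
    obtain ⟨j', hj', hj''⟩ := ha' k
    have e : (ρ (a.1 : G)) (ptv k) = ptv j := by
      rw [← hk, ← Equiv.Perm.mul_apply, ← map_mul, mul_inv_cancel, map_one]
      rfl
    obtain rfl : j' = j := ptv_inj (hj'.symm.trans e)
    refine ⟨k, by simpa using hk, ?_⟩
    rw [Prod.snd_inv, ← hj'', inv_smul_smul]

/-! ### elements with trivial point map -/

/-- one step of the program -/
noncomputable def runK : List (ℕ × ℕ) → ℕ → List ((ℕ × ℕ) × ℕ) → (List ((ℕ × ℕ) × ℕ) → Bool) → Bool :=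
  fun l => List.rec (motive := fun _ => ℕ → List ((ℕ × ℕ) × ℕ) → (List ((ℕ × ℕ) × ℕ) → Bool) → Bool)
    (fun _ acc k => k acc)
    (fun op _ ih n acc k =>
      force (Nat.xor (acc.getD (n - 1 - op.1) (one, idP)).1.1
        (vactF (acc.getD (n - 1 - op.1) (one, idP)).1.2 (acc.getD (n - 1 - op.2) (one, idP)).1.1)) fun v =>
      force (compF (acc.getD (n - 1 - op.1) (one, idP)).1.2
        (acc.getD (n - 1 - op.2) (one, idP)).1.2) fun P =>
      force (compF (acc.getD (n - 1 - op.1) (one, idP)).2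
        (acc.getD (n - 1 - op.2) (one, idP)).2) fun c =>
      ih (n + 1) (((v, P), c) :: acc) k) l

/-- the starting entries -/
def seeds : List ((ℕ × ℕ) × ℕ) :=
  ((List.range 14).map fun i => (gpairs.getD i one, gcodes.getD i idP)).reverse

/-- what the program must end with -/
noncomputable def finCheck (acc : List ((ℕ × ℕ) × ℕ)) : Bool :=
  ((List.range qPairs.length).all fun k =>
    eqH (acc.getD (pairOps.length + 13 - qIdx.getD k 0) (one, 0)).1 (qPairs.getD k one) &&
      Nat.beq (acc.getD (pairOps.length + 13 - qIdx.getD k 0) (one, 0)).2 idP) &&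
  eqH (acc.getD (pairOps.length + 13 - cIdx) (one, 0)).1 cPair &&
    Nat.beq (acc.getD (pairOps.length + 13 - cIdx) (one, 0)).2 idP

theorem slp_ok : runK pairOps 14 seeds finCheck = true := by decide +kernel

/-- an entry is realised in the graph -/
def Real (L : Laws) (e : (ℕ × ℕ) × ℕ) : Prop :=
  okH e.1 = true ∧ good e.2 = true ∧
    ∃ p ∈ lam S L, (p.1 : G) = psi S e.1 ∧ p.2 = permOf e.2

theorem real_one (L : Laws) : Real S L (one, idP) :=
  ⟨okH_one, J4XPerm10.good_idP, 1, one_mem _, by simp [psi_one], by simp [permOf_idP]⟩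

theorem runK_sound (L : Laws) : ∀ (l : List (ℕ × ℕ)) (n : ℕ) (acc : List ((ℕ × ℕ) × ℕ))
    (k : List ((ℕ × ℕ) × ℕ) → Bool), (∀ e ∈ acc, Real S L e) → runK l n acc k = true →
    ∃ acc', (∀ e ∈ acc', Real S L e) ∧ k acc' = true
  | [], _, acc, _, ha, h => ⟨acc, ha, h⟩
  | op :: l, n, acc, k, ha, h => by
    change force _ (fun v => force _ fun P => force _ fun c => runK l (n + 1) (((v, P), c) :: acc) k) =
      true at h
    rw [force_eq, force_eq, force_eq] at h
    refine runK_sound L l (n + 1) _ k ?_ h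
    intro e he
    rcases List.mem_cons.1 he with rfl | he
    · have hget : ∀ i, Real S L (acc.getD i (one, idP)) := fun i => by
        by_cases hi : i < acc.length
        · rw [List.getD_eq_getElem _ _ hi]
          exact ha _ (List.getElem_mem hi)
        · rw [List.getD_eq_default _ _ (by omega)]
          exact real_one S L
      obtain ⟨a1, a2, p, hp, ep, ep'⟩ := hget (n - 1 - op.1)
      obtain ⟨b1, b2, q, hq, eq, eq'⟩ := hget (n - 1 - op.2)
      generalize acc.getD (n - 1 - op.1) (one, idP) = A at a1 a2 ep ep' ⊢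
      generalize acc.getD (n - 1 - op.2) (one, idP) = B at b1 b2 eq eq' ⊢
      have e1 : (Nat.xor A.1.1 (vactF A.1.2 B.1.1), compF A.1.2 B.1.2) = hmul A.1 B.1 := by
        rw [← hmulF_eq]; rfl
      show Real S L ((Nat.xor A.1.1 (vactF A.1.2 B.1.1), compF A.1.2 B.1.2), compF A.2 B.2)
      rw [e1, compF_eq]
      refine ⟨okH_hmul L a1 b1, J4XPerm10.good_pcomp a2 b2, p * q, mul_mem hp hq, ?_, ?_⟩
      · rw [Prod.fst_mul, Subgroup.coe_mul, ep, eq, psi_hmul S L a1 b1]
      · rw [Prod.snd_mul, ep', eq', J4XPerm10.permOf_pcomp' (valid_of_good a2) (valid_of_good b2)]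
    · exact ha e he

/-- the elements whose point map is trivial -/
noncomputable def ker12 (L : Laws) : Subgroup ↥(cen S) :=
  (lam S L).comap (MonoidHom.inl ↥(cen S) (Equiv.Perm GolayPt))

theorem in_ker (L : Laws) {e : ℕ × ℕ} (he : e ∈ qPairs ∨ e = cPair) :
    ∃ c ∈ ker12 S L, (c : G) = psi S e := by
  have hseed : ∀ x ∈ seeds, Real S L x := by
    intro x hx
    rw [seeds, List.mem_reverse, List.mem_map] at hx
    obtain ⟨i, hi, rfl⟩ := hx
    rw [List.mem_range] at hi
    have hg := List.all_eq_true.1 gcodes_good i (List.mem_range.2 hi)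
    rw [Bool.and_eq_true, Nat.beq_eq] at hg
    have ho := List.all_eq_true.1 gpairs_ok i (List.mem_range.2 hi)
    rw [Bool.and_eq_true] at ho
    refine ⟨ho.1, hg.1, lamGen S L ⟨i, by omega⟩, Subgroup.subset_closure ⟨_, rfl⟩, gval_lt S hi, ?_⟩
    show gperm i = _
    rw [gperm, ← hg.2]
  obtain ⟨acc, hacc, hfin⟩ := runK_sound S L _ _ _ _ hseed slp_ok
  have get : ∀ i e', eqH (acc.getD i (one, 0)).1 e' = true →
      Nat.beq (acc.getD i (one, 0)).2 idP = true → ∃ c ∈ ker12 S L, (c : G) = psi S e' := by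
    intro i e' h1 h2
    rw [eqH_iff] at h1
    rw [Nat.beq_eq] at h2
    have hR : Real S L (acc.getD i (one, 0)) := by
      by_cases hi : i < acc.length
      · rw [List.getD_eq_getElem _ _ hi]
        exact hacc _ (List.getElem_mem hi)
      · rw [List.getD_eq_default _ _ (by omega)] at h2
        exact absurd h2 (by decide +kernel)
    obtain ⟨-, -, ⟨c, s⟩, hp, e1, e2⟩ := hR
    simp only at e1 e2
    rw [h2, permOf_idP] at e2
    subst e2
    exact ⟨c, hp, e1.trans (congrArg (psi S) h1)⟩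
  simp only [finCheck, Bool.and_eq_true, List.all_eq_true, List.mem_range] at hfin
  obtain ⟨⟨hq, hc1⟩, hc2⟩ := hfin
  rcases he with he | rfl
  · obtain ⟨k, hk, rfl⟩ := List.getElem_of_mem he
    have := hq k hk
    rw [List.getD_eq_getElem _ _ hk] at this
    exact get _ _ this.1 this.2
  · exact get _ _ hc1 hc2

/-- the assembly -/
theorem core [Finite G] {ρ : G →* Equiv.Perm Vec} (H : RepHyp S ρ) (L : Laws) (hgen : GenBase S)
    (hinj : PsiInj S) (hB : Nat.card ↥(base S) = 2048 * 244823040)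
    (h77 : {q : G ⧸ base S | CarriesQ S (zz S) q}.ncard ≤ 77)
    (hM : ∀ i < 15, gperm i ∈ M24)
    (hact : ∀ i < 15, ∀ j < 77, gperm i • mset (hexes.getD j 0) =
      mset (hexes.getD ((perms.getD i []).getD j 0) 0))
    (hone : ∀ g ∈ M24, (∀ j < 77, g • mset (hexes.getD j 0) = mset (hexes.getD j 0)) → g = 1)
    (hle : 887040 ≤ Nat.card ↥H24)
    (h22 : Nat.card ↥H24 = 887040 → Spor.M22 ≤ H24 ∧ (Spor.M22.subgroupOf H24).index = 2)
    (hQ : Nat.card ↥(Subgroup.closure {g : G | ∃ p ∈ qPairs, g = psi S p}) = 2 ^ 13)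
    (hQe : Cfsg.IsExtraspecial 2 ↥(Subgroup.closure {g : G | ∃ p ∈ qPairs, g = psi S p}))
    (hc3 : orderOf (psi S cPair) = 3)
    (hcn : ∀ g ∈ Subgroup.closure {g : G | ∃ p ∈ qPairs, g = psi S p},
      psi S cPair * g * (psi S cPair)⁻¹ ∈ Subgroup.closure {g : G | ∃ p ∈ qPairs, g = psi S p}) :
    ∃ z : G, orderOf z = 2 ∧ ∃ Q N M : Subgroup ↥(Subgroup.centralizer ({z} : Set G)),
      Q.Normal ∧ N.Normal ∧ Q ≤ N ∧ N ≤ M ∧ Nat.card Q = 2 ^ 13 ∧ Cfsg.IsExtraspecial 2 Q ∧
      Nat.card N = 3 * 2 ^ 13 ∧ M.index = 2 ∧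
      ∃ (_ : (N.subgroupOf M).Normal), Cfsg.IsM22 (↥M ⧸ N.subgroupOf M) := by
  classical
  have hz : orderOf (zz S) = 2 := by
    have h0 : inE z0 = true := (sx_spec sx_z0).1
    refine orderOf_eq_prime (by rw [pow_two]; exact e_sq S h0) fun e => ?_
    have e0 : S.e z0 = S.e 0 := by rw [J4XCert18.e_zero]; exact e
    exact absurd (e_inj S hinj h0 J4XPerm10.inE_zero e0) (by decide +kernel)
  refine ⟨zz S, hz, ?_⟩
  have hagree := fun p (hp : p ∈ lam S L) => agree_of_mem S H L hgen h77 hM hact hp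
  -- the first projection is injective on the graph
  let π₁ : ↥(lam S L) →* ↥(cen S) := (MonoidHom.fst _ _).comp (lam S L).subtype
  let π₂ : ↥(lam S L) →* Equiv.Perm GolayPt := (MonoidHom.snd _ _).comp (lam S L).subtype
  have hinj1 : Function.Injective π₁ := by
    rw [injective_iff_map_eq_one]
    rintro ⟨⟨c, s⟩, hp⟩ (hc : c = 1)
    subst hc
    obtain ⟨hs, hs'⟩ := hagree _ hp
    have hs1 : s = 1 := hone s hs fun j hj => by
      obtain ⟨k, hk, hk'⟩ := hs' ⟨j, hj⟩
      simp only [OneMemClass.coe_one, map_one, Equiv.Perm.one_apply] at hk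
      rw [← ptv_inj hk] at hk'
      exact hk'
    exact Subtype.ext (Prod.ext rfl hs1)
  have hr2 : π₂.range = H24 := by
    rw [MonoidHom.range_comp, Subgroup.range_subtype, lam, MonoidHom.map_closure, ← Set.range_comp]
    rfl
  have hker : Nat.card ↥π₂.ker = Nat.card ↥(ker12 S L) := by
    refine Nat.card_congr
      { toFun := fun p => ⟨π₁ p.1, ?_⟩
        invFun := fun c => ⟨⟨((c : ↥(cen S)), 1), c.2⟩, rfl⟩
        left_inv := ?_
        right_inv := fun c => rfl }
    · show ((p.1.1).1, (1 : Equiv.Perm GolayPt)) ∈ lam S L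
      have e : (p.1.1).2 = 1 := p.2
      rw [← e]
      exact p.1.2
    · rintro ⟨⟨⟨c, s⟩, hp⟩, hs⟩
      have e : s = 1 := hs
      subst e
      rfl
  have hcard : Nat.card ↥(lam S L) = Nat.card ↥(ker12 S L) * Nat.card ↥H24 := by
    rw [← Subgroup.card_mul_index π₂.ker, Subgroup.index_ker, hker, hr2]
  have hcc := card_cen S H L hgen hinj hB h77
  have hle1 : Nat.card ↥(lam S L) ≤ Nat.card ↥(cen S) := Nat.card_le_card_of_injective _ hinj1
  -- the normal subgroup inside the kernel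
  set Q0 := Subgroup.closure {g : G | ∃ p ∈ qPairs, g = psi S p} with hQ0
  have hQle : Q0 ≤ (ker12 S L).map (cen S).subtype := by
    rw [hQ0, Subgroup.closure_le]
    rintro _ ⟨p, hp, rfl⟩
    obtain ⟨c, hc, e⟩ := in_ker S L (Or.inl hp)
    exact ⟨c, hc, e⟩
  have hQcen : Q0 ≤ cen S := hQle.trans (Subgroup.map_subtype_le _)
  let Q : Subgroup ↥(cen S) := Q0.subgroupOf (cen S)
  have eQ : Q ≃* Q0 := Subgroup.subgroupOfEquivOfLe hQcen
  have hQcard : Nat.card Q = 2 ^ 13 := (Nat.card_congr eQ.toEquiv).trans hQ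
  have hQN : Q ≤ ker12 S L := by
    intro x hx
    obtain ⟨c, hc, e⟩ := hQle hx
    rwa [← Subtype.ext e]
  obtain ⟨c3, hc3N, hc3v⟩ := in_ker S L (Or.inr rfl)
  have h24 : 24576 ∣ Nat.card ↥(ker12 S L) := by
    have h1 : 2 ^ 13 ∣ Nat.card ↥(ker12 S L) := hQcard ▸ Subgroup.card_dvd_of_le hQN
    have h2 : 3 ∣ Nat.card ↥(ker12 S L) := by
      have h := orderOf_dvd_natCard (⟨c3, hc3N⟩ : ↥(ker12 S L))
      rwa [← Subgroup.orderOf_coe, ← Subgroup.orderOf_coe, hc3v, hc3] at h
    exact Nat.Coprime.mul_dvd_of_dvd_of_dvd (m := 2 ^ 13) (n := 3) (by norm_num) h1 h2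
  have hb := Nat.le_of_dvd Nat.card_pos h24
  have hab : Nat.card ↥H24 = 887040 ∧ Nat.card ↥(ker12 S L) = 24576 := by
    rw [hcard, hcc] at hle1
    constructor
    · by_contra h
      have h' : 887040 < Nat.card ↥H24 := lt_of_le_of_ne hle (Ne.symm h)
      nlinarith
    · by_contra h
      have h' : 24576 < Nat.card ↥(ker12 S L) := lt_of_le_of_ne hb (Ne.symm h)
      nlinarith
  have hsurj : Function.Bijective π₁ := by
    rw [Nat.bijective_iff_injective_and_card]
    exact ⟨hinj1, by rw [hcard, hab.1, hab.2, hcc]⟩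
  let e1 := MulEquiv.ofBijective π₁ hsurj
  let φ : ↥(cen S) →* Equiv.Perm GolayPt := π₂.comp e1.symm.toMonoidHom
  have hφr : φ.range = H24 := by
    rw [MonoidHom.range_comp, MonoidHom.range_eq_top_of_surjective _ e1.symm.surjective,
      ← MonoidHom.range_eq_map, hr2]
  have hφk : φ.ker = ker12 S L := by
    ext c
    rw [MonoidHom.mem_ker]
    constructor
    · intro h
      show (c, (1 : Equiv.Perm GolayPt)) ∈ lam S L
      have e : (e1.symm c : ↥(cen S) × Equiv.Perm GolayPt) = (c, 1) :=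
        Prod.ext (e1.apply_symm_apply c) h
      rw [← e]
      exact (e1.symm c).2
    · intro h
      have e : e1.symm c = ⟨(c, 1), h⟩ := e1.injective (by rw [MulEquiv.apply_symm_apply]; rfl)
      show π₂ (e1.symm c) = 1
      rw [e]
      rfl
  -- normality
  have hN : (ker12 S L).Normal := hφk ▸ inferInstance
  have hnorm3 : ∀ x ∈ ker12 S L, ∀ y ∈ Q, x * y * x⁻¹ ∈ Q := by
    -- the normaliser of the subgroup contains it and the element of order three
    have hcQ : (⟨c3, hc3N⟩ : ↥(ker12 S L)) ∈ Subgroup.normalizer (Q.subgroupOf (ker12 S L) : Set _) := by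
      haveI : Finite ↥(ker12 S L) := inferInstance
      refine Subgroup.mem_normalizer_fintype fun y hy => ?_
      have : psi S cPair * ((y : ↥(cen S)) : G) * (psi S cPair)⁻¹ ∈ Q0 := hcn _ hy
      rw [← hc3v] at this
      exact this
    intro x hx y hy
    have hle' : Subgroup.zpowers (⟨c3, hc3N⟩ : ↥(ker12 S L)) ⊔ Q.subgroupOf (ker12 S L) ≤
        Subgroup.normalizer (Q.subgroupOf (ker12 S L) : Set _) :=
      sup_le (by rwa [Subgroup.zpowers_le]) Subgroup.le_normalizer
    have htop : Subgroup.zpowers (⟨c3, hc3N⟩ : ↥(ker12 S L)) ⊔ Q.subgroupOf (ker12 S L) = ⊤ := by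
      refine Subgroup.eq_top_of_card_eq _ (Nat.dvd_antisymm (Subgroup.card_subgroup_dvd_card _) ?_)
      rw [hab.2]
      refine Nat.Coprime.mul_dvd_of_dvd_of_dvd (m := 2 ^ 13) (n := 3) (by norm_num) ?_ ?_
      · rw [← hQcard, ← Nat.card_congr (Subgroup.subgroupOfEquivOfLe hQN).toEquiv]
        exact Subgroup.card_dvd_of_le le_sup_right
      · have h3 : orderOf (⟨c3, hc3N⟩ : ↥(ker12 S L)) = 3 := by
          rw [← Subgroup.orderOf_coe, ← Subgroup.orderOf_coe, hc3v, hc3]
        rw [← h3, ← Nat.card_zpowers]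
        exact Subgroup.card_dvd_of_le le_sup_left
    have hx' : (⟨x, hx⟩ : ↥(ker12 S L)) ∈ Subgroup.normalizer (Q.subgroupOf (ker12 S L) : Set _) :=
      hle' (htop ▸ Subgroup.mem_top _)
    exact (Subgroup.mem_normalizer_iff.1 hx' ⟨y, hQN hy⟩).1 hy
  have hQn : Q.Normal := by
    constructor
    intro y hy g
    have hN' : g * y * g⁻¹ ∈ ker12 S L := hN.conj_mem y (hQN hy) g
    have hNn : (Q.subgroupOf (ker12 S L)).Normal :=
      ⟨fun a ha b => hnorm3 _ b.2 _ ha⟩
    let w : ↥(ker12 S L) := ⟨g * y * g⁻¹, hN'⟩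
    have hidx : (Q.subgroupOf (ker12 S L)).index = 3 := by
      have h := Subgroup.card_mul_index (Q.subgroupOf (ker12 S L))
      rw [Nat.card_congr (Subgroup.subgroupOfEquivOfLe hQN).toEquiv, hQcard, hab.2] at h
      omega
    have h2 : orderOf w ∣ 2 ^ 13 := by
      rw [← Subgroup.orderOf_coe]
      show orderOf (g * y * g⁻¹) ∣ _
      rw [← MulAut.conj_apply, MulEquiv.orderOf_eq, ← hQcard]
      exact (Subgroup.orderOf_dvd_natCard Q hy)
    have hw : orderOf (QuotientGroup.mk w : ↥(ker12 S L) ⧸ Q.subgroupOf (ker12 S L)) ∣ Nat.gcd (2 ^ 13) 3 :=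
      Nat.dvd_gcd ((orderOf_map_dvd (QuotientGroup.mk' _) w).trans h2)
        (hidx ▸ Subgroup.index_eq_card (Q.subgroupOf (ker12 S L)) ▸ orderOf_dvd_natCard _)
    rw [show Nat.gcd (2 ^ 13) 3 = 1 by norm_num, Nat.dvd_one, orderOf_eq_one_iff,
      QuotientGroup.eq_one_iff] at hw
    exact hw
  -- the subgroup of index two
  obtain ⟨h22le, h22idx⟩ := h22 hab.1
  let M : Subgroup ↥(cen S) := Spor.M22.comap φ
  have hNM : ker12 S L ≤ M := by
    rw [← hφk]
    intro c hc
    show φ c ∈ Spor.M22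
    rw [MonoidHom.mem_ker.1 hc]
    exact one_mem _
  refine ⟨Q, ker12 S L, M, hQn, hN, hQN, hNM, hQcard,
    Cfsg.Agent.ExtraspecialTransfer.of_mulEquiv eQ.symm hQe, by rw [hab.2]; norm_num, ?_, ?_⟩
  · rw [Subgroup.index_comap, hφr]
    exact h22idx
  · have hnm : ((ker12 S L).subgroupOf M).Normal := hN.subgroupOf M
    refine ⟨hnm, ?_⟩
    let ψ : ↥M →* ↥Spor.M22 :=
      { toFun := fun c => ⟨φ c, c.2⟩
        map_one' := Subtype.ext (map_one φ)
        map_mul' := fun a b => Subtype.ext (map_mul φ (a : ↥(cen S)) b) }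
    have hψs : Function.Surjective ψ := by
      rintro ⟨s, hs⟩
      have : s ∈ φ.range := hφr ▸ h22le hs
      obtain ⟨c, rfl⟩ := this
      exact ⟨⟨c, hs⟩, rfl⟩
    have hψk : ψ.ker = (ker12 S L).subgroupOf M := by
      ext c
      rw [MonoidHom.mem_ker, Subgroup.mem_subgroupOf, ← hφk, MonoidHom.mem_ker]
      exact Subtype.ext_iff
    have eM : ↥M ⧸ (ker12 S L).subgroupOf M ≃* ↥Spor.M22 :=
      (QuotientGroup.quotientMulEquivOfEq hψk.symm).trans
        (QuotientGroup.quotientKerEquivOfSurjective ψ hψs)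
    exact ⟨eM.isSimpleGroup_congr.2 Cfsg.Agent.GolaySimple.isSimpleGroup_M22,
      (Nat.card_congr eM.toEquiv).trans Cfsg.Agent.GolayM24.card_M22⟩

end Cfsg.Agent.J4XCentCore12
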