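import Mathlib
import Cfsg.Prelude.Def_Transfer
import Cfsg.Agent.Lib.SymplecticType
import Cfsg.Agent.Lib.J4XCentClass12
import Cfsg.Agent.Lib.J4XCentCoreData12
import Cfsg.Agent.Lib.J1CertCore91

/-!
The extraspecial subgroup of order 2^13 in the centraliser of the involution: pairs of one of 128 vectors and one
of 64 representatives, closed under the thirteen generators.
-/

set_option autoImplicit false
set_option maxRecDepth 100000
set_option linter.style.haveILetI false

namespace Cfsg.Agent.J4XCentQ12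

open Cfsg Cfsg.Agent.GolayBasic Cfsg.Agent.GolayPerm Cfsg.Agent.GolayEnumComp
open Cfsg.Agent.J4XBase18 Cfsg.Agent.J4XCert18 Cfsg.Agent.J4XCount4
open Cfsg.Agent.J4XCentClass12 (z0 zz e_sq e_inj e_comm)
open Cfsg.Agent.J4XCentCoreData12 (qPairs cPair)
open Cfsg.Agent.J1CertCore91 (force force_eq)
open scoped commutatorElement

/-- the seven vectors -/
def vb : List ℕ := [3, 5, 48, 473, 528, 1088, 2265]

/-- the span of the seven vectors -/
def e0 : List ℕ :=
  [0, 3, 5, 6, 48, 51, 53, 54, 473, 474, 476, 479, 489, 490, 492, 495,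
    528, 531, 533, 534, 544, 547, 549, 550, 969, 970, 972, 975, 1017, 1018, 1020, 1023,
    1088, 1091, 1093, 1094, 1136, 1139, 1141, 1142, 1433, 1434, 1436, 1439, 1449, 1450, 1452, 1455,
    1616, 1619, 1621, 1622, 1632, 1635, 1637, 1638, 1929, 1930, 1932, 1935, 1977, 1978, 1980, 1983,
    2265, 2266, 2268, 2271, 2281, 2282, 2284, 2287, 2304, 2307, 2309, 2310, 2352, 2355, 2357, 2358,
    2761, 2762, 2764, 2767, 2809, 2810, 2812, 2815, 2832, 2835, 2837, 2838, 2848, 2851, 2853, 2854,
    3225, 3226, 3228, 3231, 3241, 3242, 3244, 3247, 3392, 3395, 3397, 3398, 3440, 3443, 3445, 3446,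
    3721, 3722, 3724, 3727, 3769, 3770, 3772, 3775, 3920, 3923, 3925, 3926, 3936, 3939, 3941, 3942]

/-- representatives of the subgroup over its vector part -/
def reps : List (ℕ × ℕ) :=
  [(0, 0xbdab49ca307b9ac5a928398a418820), (2309, 0xb9ab419630135c72254865a4b9bc20),
    (1638, 0x4aa11da304b9ac209e8394cb9aa97), (3721, 0x16a199a30535c75bc4864ac41a697),
    (2762, 0x9aa0996304b0ee589e86da441aaf4), (975, 0xdaa01ca3051d8d23c48718ab9a6f4),
    (3398, 0xa16b719a307b0ee229286cacb98801), (1449, 0xa4ab79da3011d8d5a548714c41bc01),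
    (3727, 0xda205caa87b0ee9a930698a320af4), (1930, 0x9a20216a811d8d1a55075a535bef4),
    (2307, 0xa4a3725aa84b0ee189f0694d35a801), (492, 0xa163759aa851d8d9bc5074ac322401),
    (1093, 0xb9a34596a84b9ac989f03da4322820), (3392, 0xbda3424aa8535c71bc50618b35a420),
    (547, 0x162121aa87b9ac1a9303cad358a97), (2764, 0x4a215daa8135c79a550614c323e97),
    (2265, 0x49019da117b0ee5a935694c418a97), (54, 0x150119a1111d8d2255574acb9be97),
    (3925, 0xbd9141ca114b0ee209f5698ab9a820), (1616, 0xb99149961151d8d5bc5575a441a420),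
    (531, 0xa151799a114b9ac589f53cac41a801), (2812, 0xa49171da11535c723c55614cb9a401),
    (1141, 0x9900196117b9ac229353da4b98af4), (3440, 0xd9009ca11135c75a555618a41bef4),
    (1980, 0xa4a175d9157b9ac9a931394c320801), (3923, 0xa161721915135c71a55164ad35bc01),
    (474, 0xda00249154b9ac189f1398b35aaf4), (2271, 0x9a0059515535c79bc5165a43226f4),
    (3446, 0x1601599154b0ee989f16cac322a97), (1433, 0x4a012591551d8d1bc51714d35a697),
    (2810, 0xb9a14215157b0ee1a9316da5358820), (1023, 0xbda145c91511d8d9a551718a323c20),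
    (2358, 0xa5a179c915530ee5bc51698a41a401), (51, 0xa1a171951549d8d209f175a4b9a801),
    (3770, 0xca001d915130ee22551694cb9bef4), (1621, 0x96009991579d8d5a93174ac418af4),
    (1020, 0x1a0199515139ac5a5513da441be97), (2809, 0x5a011c9157b5c722931618ab98a97),
    (1434, 0xb961419915539ac23c513cacb9a420), (3445, 0xbca149d9154b5c7589f1614c41a820),
    (1619, 0x59015ca11539ac9bc55398a322697), (3926, 0x1901216114b5c7189f565a535aa97),
    (53, 0xbc91425a11139ac1a555394d35bc20), (2266, 0xb951459a117b5c79a93564ac320820),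
    (3225, 0xa191759611130ee9a5556da4323c01), (1436, 0xa591724a1179d8d1a935718b358801),
    (2837, 0x950021a11530ee1bc556cad35a6f4), (1018, 0xc9005da1149d8d989f5714c322af4),
    (495, 0xca209daa8539ac5bc50394c41a6f4), (2304, 0x962019aa84b5c7209f064acb9aaf4),
    (1929, 0xa5a371caa8139ac22550398ab9bc01), (3724, 0xa1a37996a87b5c75a93065a4418801),
    (2853, 0xb963499aa8130ee5a5506cac41bc20), (970, 0xbca341daa879d8d22930714cb98820),
    (3241, 0x1a21196a8530ee23c506da4b9a697), (1452, 0x5a219caa849d8d589f0718a41aa97),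
    (3936, 0xbcab45da30530ee9bc48694c322420), (1935, 0xb96b421a3049d8d189e874ad35a820),
    (2284, 0x5aa124a30130ee1a548698b35be97), (489, 0x1aa15963079d8d9a92875a4320a97),
    (1450, 0x96a059a30139ac9a5483cac323ef4), (3397, 0xcaa025a307b5c71a928614d358af4),
    (972, 0xa1ab721630539ac1bc483da535a401), (2761, 0xa5ab75ca304b5c7989e8618a322801)]

/-- repeated doubling of a list by right multiplication -/
def doubles : List (ℕ × ℕ) → List (ℕ × ℕ) → List (ℕ × ℕ)
  | [], l => l
  | g :: r, l => doubles r (l ++ l.map fun h => hmulF h g)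

theorem e0_eq : e0 = (List.range 128).map (combo vb) := by decide +kernel

theorem reps_eq : doubles (qPairs.drop 7) [one] = reps := by decide +kernel

theorem vb_eq : qPairs.take 7 = vb.map (fun v => (v, idP)) := by decide +kernel

theorem reps_ok : reps.length = 64 ∧ (reps.map Prod.snd).Nodup ∧ e0.Nodup ∧
    (reps.all canH && qPairs.all canH && e0.all inE && vb.all inE) = true ∧
    reps.getD 0 one = one := by
  decide +kernel

/-- a product lies in the set -/
noncomputable def hit (x : ℕ × ℕ) : Bool :=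
  force x.1 fun v => force x.2 fun P =>
    reps.any fun r => Nat.beq r.2 P && e0.any (Nat.beq (Nat.xor v r.1))

theorem hit_all : (reps.all fun r => qPairs.all fun g => hit (hmulF r g)) = true := by
  decide +kernel

theorem conj_all :
    (qPairs.all fun g => hit (hmulF (hmulF cPair g) (hmulF cPair cPair))) = true := by
  decide +kernel

theorem c_ok : canH cPair = true ∧ eqH cPair one = false ∧
    eqH (hmulF (hmulF cPair cPair) cPair) one = true := by
  decide +kernel

theorem comm_all : (qPairs.all fun g => qPairs.all fun h =>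
    Nat.beq (hmulF g h).2 (hmulF h g).2 &&
      [0, 490].any (Nat.beq (Nat.xor (hmulF g h).1 (hmulF h g).1))) = true := by
  decide +kernel

theorem sq_all : (qPairs.all fun g => Nat.beq (hmulF g g).2 idP &&
    [0, 490].any (Nat.beq (hmulF g g).1)) = true := by
  decide +kernel

theorem fix_all : (qPairs.all fun g => Nat.beq (vactF g.2 490) 490) = true := by
  decide +kernel

theorem move_all : ((reps.drop 1).all fun r => vb.any fun w => !Nat.beq (vactF r.2 w) w) = true ∧
    (e0.all fun u => [0, 490].any (Nat.beq u) ||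
      qPairs.any fun g => !Nat.beq (vactF g.2 u) u) = true := by
  decide +kernel

theorem mem_zero_or {x : ℕ} (h : [0, 490].any (Nat.beq x) = true) : x = 0 ∨ x = 490 := by
  simpa [Nat.beq_eq] using h

theorem canH_reps {r : ℕ × ℕ} (hr : r ∈ reps) : canH r = true := by
  have h := reps_ok.2.2.2.1
  simp only [Bool.and_eq_true, List.all_eq_true] at h
  exact h.1.1.1 r hr

theorem canH_q {g : ℕ × ℕ} (hg : g ∈ qPairs) : canH g = true := by
  have h := reps_ok.2.2.2.1
  simp only [Bool.and_eq_true, List.all_eq_true] at h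
  exact h.1.1.2 g hg

theorem inE_e0 {u : ℕ} (hu : u ∈ e0) : inE u = true := by
  have h := reps_ok.2.2.2.1
  simp only [Bool.and_eq_true, List.all_eq_true] at h
  exact h.1.2 u hu

theorem inE_vb {u : ℕ} (hu : u ∈ vb) : inE u = true := by
  have h := reps_ok.2.2.2.1
  simp only [Bool.and_eq_true, List.all_eq_true] at h
  exact h.2 u hu

theorem e0_mem {d : ℕ} (hd : d < 128) : combo vb d ∈ e0 := by
  rw [e0_eq]; exact List.mem_map.2 ⟨d, List.mem_range.2 hd, rfl⟩

theorem okH_parts {h : ℕ × ℕ} (hh : okH h = true) : inE h.1 = true ∧ good h.2 = true := by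
  simpa [okH] using hh

/-- the representative with number `a` -/
def rep (a : Fin 64) : ℕ × ℕ := reps.getD a one

theorem rep_mem (a : Fin 64) : rep a ∈ reps := by
  have ha : (a : ℕ) < reps.length := by rw [reps_ok.1]; exact a.2
  rw [rep, List.getD_eq_getElem _ _ ha]
  exact List.getElem_mem ha

theorem exists_rep {r : ℕ × ℕ} (hr : r ∈ reps) : ∃ a : Fin 64, rep a = r := by
  obtain ⟨i, hi, rfl⟩ := List.getElem_of_mem hr
  exact ⟨⟨i, by rw [← reps_ok.1]; exact hi⟩, by rw [rep, List.getD_eq_getElem _ _ hi]⟩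

theorem rep_zero : rep 0 = one := reps_ok.2.2.2.2

theorem rep_inj {a b : Fin 64} (h : (rep a).2 = (rep b).2) : a = b := by
  have hl : (reps.map Prod.snd).length = 64 := by rw [List.length_map, reps_ok.1]
  have ha : (a : ℕ) < reps.length := by rw [reps_ok.1]; exact a.2
  have hb : (b : ℕ) < reps.length := by rw [reps_ok.1]; exact b.2
  rw [rep, rep, List.getD_eq_getElem _ _ ha, List.getD_eq_getElem _ _ hb] at h
  have h' : (reps.map Prod.snd)[(a : ℕ)]'(by omega) = (reps.map Prod.snd)[(b : ℕ)]'(by omega) := by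
    simpa using h
  exact Fin.ext (reps_ok.2.1.getElem_inj_iff.1 h')

theorem combo_inj {c d : ℕ} (hc : c < 128) (hd : d < 128) (h : combo vb c = combo vb d) : c = d := by
  have hnd := reps_ok.2.2.1
  rw [e0_eq] at hnd
  exact List.inj_on_of_nodup_map hnd (List.mem_range.2 hc) (List.mem_range.2 hd) h

/-! ### inside a group -/

variable {G : Type*} [Group G] (S : Setup G)

/-- the subgroup generated by the thirteen elements -/
def qGrp : Subgroup G := Subgroup.closure {g : G | ∃ p ∈ qPairs, g = psi S p}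

theorem gen_mem {p : ℕ × ℕ} (hp : p ∈ qPairs) : psi S p ∈ qGrp S :=
  Subgroup.subset_closure ⟨p, hp, rfl⟩

/-- the pair with numbers `a`, `d` -/
def pairOf (x : Fin 64 × Fin 128) : ℕ × ℕ := (combo vb x.2 ^^^ (rep x.1).1, (rep x.1).2)

/-- the element with numbers `a`, `d` -/
def elt (x : Fin 64 × Fin 128) : G := psi S (pairOf x)

theorem canH_pairOf (L : Laws) (x : Fin 64 × Fin 128) : canH (pairOf x) = true := by
  have h := canH_reps (rep_mem x.1)
  simp only [canH, okH, Bool.and_eq_true] at h ⊢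
  exact ⟨⟨L.inE_xor (inE_e0 (e0_mem x.2.2)) h.1.1, h.1.2⟩, h.2⟩

theorem elt_eq (L : Laws) (x : Fin 64 × Fin 128) :
    elt S x = S.e (combo vb x.2) * psi S (rep x.1) := by
  have h := okH_parts (canH_okH (canH_reps (rep_mem x.1)))
  show S.e _ * _ = _
  rw [pairOf, S.e_mul (inE_e0 (e0_mem x.2.2)) h.1, psi, mul_assoc]

theorem elt_inj (L : Laws) (hinj : PsiInj S) : Function.Injective (elt S) := by
  intro x y h
  have h' := hinj _ _ (canH_pairOf L x) (canH_pairOf L y) h
  simp only [pairOf, Prod.mk.injEq] at h'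
  have hxy : x.1 = y.1 := rep_inj h'.2
  rw [hxy] at h'
  have h1 := congrArg (fun t => t ^^^ (rep y.1).1) h'.1
  simp only [Nat.xor_assoc, Nat.xor_self, Nat.xor_zero] at h1
  exact Prod.ext hxy (Fin.ext (combo_inj x.2.2 y.2.2 h1))

theorem e_mem (L : Laws) (d : ℕ) : S.e (combo vb d) ∈ qGrp S := by
  have key : ∀ (l : List ℕ), (∀ b ∈ l, inE b = true ∧ S.e b ∈ qGrp S) →
      ∀ y, inE (combo l y) = true ∧ S.e (combo l y) ∈ qGrp S := by
    intro l
    induction l with
    | nil =>
      intro _ y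
      rw [combo]
      exact ⟨J4XCount4.inE_zero, by rw [e_zero]; exact one_mem _⟩
    | cons b l ih =>
      intro hl y
      obtain ⟨h1, h2⟩ := ih (fun c hc => hl c (List.mem_cons_of_mem _ hc)) (y >>> 1)
      obtain ⟨hb1, hb2⟩ := hl b List.mem_cons_self
      rw [combo]
      rcases Nat.mod_two_eq_zero_or_one y with hy | hy
      · rw [Nat.and_one_is_mod, hy, zero_mul, Nat.zero_xor]
        exact ⟨h1, h2⟩
      · rw [Nat.and_one_is_mod, hy, one_mul, S.e_mul hb1 h1]
        exact ⟨L.inE_xor hb1 h1, mul_mem hb2 h2⟩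
  refine (key vb (fun b hb => ⟨inE_vb hb, ?_⟩) d).2
  have hp : (b, idP) ∈ qPairs :=
    List.mem_of_mem_take (i := 7) (vb_eq ▸ List.mem_map.2 ⟨b, hb, rfl⟩)
  have h := gen_mem S hp
  rwa [psi, m_idP, mul_one] at h

theorem doubles_mem (L : Laws) : ∀ (gs l : List (ℕ × ℕ)), (∀ g ∈ gs, g ∈ qPairs) →
    (∀ r ∈ l, okH r = true ∧ psi S r ∈ qGrp S) →
    ∀ r ∈ doubles gs l, okH r = true ∧ psi S r ∈ qGrp S
  | [], _, _, hl, r, hr => hl r hr
  | g :: gs, l, hg, hl, r, hr => by
    refine doubles_mem L gs _ (fun x hx => hg x (List.mem_cons_of_mem _ hx)) ?_ r hr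
    intro x hx
    rcases List.mem_append.1 hx with hx | hx
    · exact hl x hx
    · obtain ⟨h, hh, rfl⟩ := List.mem_map.1 hx
      have hgq := hg g List.mem_cons_self
      have hok := canH_okH (canH_q hgq)
      rw [hmulF_eq, psi_hmul S L (hl h hh).1 hok]
      exact ⟨okH_hmul L (hl h hh).1 hok, mul_mem (hl h hh).2 (gen_mem S hgq)⟩

theorem elt_mem (L : Laws) (x : Fin 64 × Fin 128) : elt S x ∈ qGrp S := by
  rw [elt_eq S L]
  refine mul_mem (e_mem S L x.2) ?_
  have h := rep_mem x.1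
  rw [← reps_eq] at h
  refine (doubles_mem S L _ _ (fun g hg => List.mem_of_mem_drop hg) ?_ _ h).2
  intro r hr
  rw [List.mem_singleton.1 hr, psi_one]
  exact ⟨okH_one, one_mem _⟩

theorem exists_of_hit {x : ℕ × ℕ} (h : hit x = true) :
    ∃ (b : Fin 64) (d : Fin 128), x = pairOf (b, d) := by
  simp only [hit, force_eq, List.any_eq_true, Bool.and_eq_true, Nat.beq_eq] at h
  obtain ⟨r, hr, h2, u, hu, h1⟩ := h
  obtain ⟨b, rfl⟩ := exists_rep hr
  rw [e0_eq] at hu
  obtain ⟨d, hd, rfl⟩ := List.mem_map.1 hu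
  refine ⟨b, ⟨d, List.mem_range.1 hd⟩, Prod.ext ?_ h2.symm⟩
  show x.1 = combo vb d ^^^ (rep b).1
  rw [← h1]
  show x.1 = (x.1 ^^^ (rep b).1) ^^^ (rep b).1
  rw [Nat.xor_assoc, Nat.xor_self, Nat.xor_zero]

theorem elt_mul_gen (L : Laws) (x : Fin 64 × Fin 128) {g : ℕ × ℕ} (hg : g ∈ qPairs) :
    ∃ y, elt S x * psi S g = elt S y := by
  have hh := List.all_eq_true.1 (List.all_eq_true.1 hit_all _ (rep_mem x.1)) g hg
  obtain ⟨b, d, hbd⟩ := exists_of_hit hh
  have hok := canH_okH (canH_q hg)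
  have hr := canH_okH (canH_reps (rep_mem x.1))
  rw [hmulF_eq] at hbd
  refine ⟨(b, ⟨(x.2 : ℕ) ^^^ d, Nat.xor_lt_two_pow (n := 7) x.2.2 d.2⟩), ?_⟩
  rw [elt_eq S L, mul_assoc, ← psi_hmul S L hr hok, hbd]
  show S.e (combo vb x.2) * elt S (b, d) = _
  rw [elt_eq S L, elt_eq S L, ← mul_assoc, ← S.e_mul (inE_e0 (e0_mem x.2.2)) (inE_e0 (e0_mem d.2)),
    ← combo_xor]

theorem mem_iff (L : Laws) {g : G} : g ∈ qGrp S ↔ ∃ x, elt S x = g := by
  refine ⟨fun hg => ?_, fun ⟨x, hx⟩ => hx ▸ elt_mem S L x⟩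
  have hfin : (Set.range (elt S)).Finite := Set.finite_range _
  have h1 : ∀ (p : ℕ × ℕ), p ∈ qPairs → ∀ y ∈ Set.range (elt S), y * psi S p ∈ Set.range (elt S) := by
    rintro p hp _ ⟨x, rfl⟩
    obtain ⟨y, hy⟩ := elt_mul_gen S L x hp
    exact ⟨y, hy.symm⟩
  have h2 : ∀ (p : ℕ × ℕ), p ∈ qPairs → ∀ y ∈ Set.range (elt S),
      y * (psi S p)⁻¹ ∈ Set.range (elt S) := by
    intro p hp y hy
    have hbij := (hfin.injOn_iff_bijOn_of_mapsTo (f := fun z => z * psi S p) (fun a ha => h1 p hp a ha)).1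
      (fun a _ b _ hab => mul_right_cancel hab)
    obtain ⟨z, hz, e⟩ := hbij.surjOn hy
    dsimp only at e
    rw [← e, mul_inv_cancel_right]
    exact hz
  refine Subgroup.closure_induction_right (p := fun z _ => z ∈ Set.range (elt S)) ?_ ?_ ?_ hg
  · refine ⟨(0, 0), ?_⟩
    rw [elt_eq S L, rep_zero, psi_one, mul_one]
    show S.e (combo vb 0) = 1
    rw [show combo vb 0 = 0 by decide +kernel, e_zero]
  · rintro y _ _ ⟨p, hp, rfl⟩ hy
    exact h1 p hp y hy
  · rintro y _ _ ⟨p, hp, rfl⟩ hy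
    exact h2 p hp y hy

theorem card_q (L : Laws) (hinj : PsiInj S) : Nat.card ↥(qGrp S) = 2 ^ 13 := by
  have e : (qGrp S : Set G) = Set.range (elt S) := Set.ext fun g => mem_iff S L
  show Nat.card ↥(qGrp S : Set G) = _
  rw [e, Nat.card_range_of_injective (elt_inj S L hinj)]
  simp

theorem e490_mem (L : Laws) : S.e 490 ∈ qGrp S := by
  have h := e_mem S L 13
  rwa [show combo vb 13 = 490 by decide +kernel] at h

theorem inE_490 : inE 490 = true := by decide +kernel

theorem e_pow_mem {v : ℕ} (h : v = 0 ∨ v = 490) : S.e v ∈ Subgroup.zpowers (S.e 490) := by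
  rcases h with rfl | rfl
  · rw [e_zero]; exact one_mem _
  · exact Subgroup.mem_zpowers _

theorem gen_comm490 {g : ℕ × ℕ} (hg : g ∈ qPairs) : psi S g * S.e 490 = S.e 490 * psi S g := by
  obtain ⟨h1, h2⟩ := okH_parts (canH_okH (canH_q hg))
  have hf := List.all_eq_true.1 fix_all g hg
  rw [Nat.beq_eq, vactF_eq] at hf
  rw [psi, mul_assoc, S.act h2 inE_490, hf, ← mul_assoc, e_comm S h1 inE_490, mul_assoc]

theorem gen_comm {g h : ℕ × ℕ} (hg : g ∈ qPairs) (hh : h ∈ qPairs) :
    ∃ c ∈ Subgroup.zpowers (S.e 490), ∀ _ : Laws, psi S g * psi S h = c * (psi S h * psi S g) := by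
  have hc := List.all_eq_true.1 (List.all_eq_true.1 comm_all g hg) h hh
  rw [Bool.and_eq_true, Nat.beq_eq, hmulF_eq] at hc
  refine ⟨_, e_pow_mem S (mem_zero_or hc.2), fun L => ?_⟩
  have ag := canH_okH (canH_q hg)
  have ah := canH_okH (canH_q hh)
  obtain ⟨a1, -⟩ := okH_parts (okH_hmul L ag ah)
  obtain ⟨b1, -⟩ := okH_parts (okH_hmul L ah ag)
  rw [← psi_hmul S L ag ah, ← psi_hmul S L ah ag, psi, psi, hc.1, ← mul_assoc]
  congr 1
  show S.e _ = S.e ((hmul g h).1 ^^^ (hmul h g).1) * S.e (hmul h g).1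
  rw [← S.e_mul (L.inE_xor a1 b1) b1, Nat.xor_assoc, Nat.xor_self, Nat.xor_zero]

theorem gen_sq (L : Laws) {g : ℕ × ℕ} (hg : g ∈ qPairs) :
    psi S g * psi S g ∈ Subgroup.zpowers (S.e 490) := by
  have hc := List.all_eq_true.1 sq_all g hg
  rw [Bool.and_eq_true, Nat.beq_eq, hmulF_eq] at hc
  have ag := canH_okH (canH_q hg)
  rw [← psi_hmul S L ag ag, psi, hc.1, m_idP, mul_one]
  exact e_pow_mem S (mem_zero_or hc.2)

theorem central_zero_or (L : Laws) (hinj : PsiInj S) (x : Fin 64 × Fin 128)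
    (h : ∀ p ∈ qPairs, elt S x * psi S p = psi S p * elt S x) :
    elt S x ∈ Subgroup.zpowers (S.e 490) := by
  obtain ⟨a, d⟩ := x
  have hu := inE_e0 (e0_mem d.2)
  rcases eq_or_ne a 0 with rfl | ha
  · have hx : elt S (0, d) = S.e (combo vb d) := by
      rw [elt_eq S L, rep_zero, psi_one, mul_one]
    have hm := List.all_eq_true.1 move_all.2 _ (e0_mem d.2)
    rw [Bool.or_eq_true] at hm
    rw [hx]
    rcases hm with hm | hm
    · exact e_pow_mem S (mem_zero_or hm)
    · exfalso
      simp only [List.any_eq_true, Bool.not_eq_true', ← Bool.not_eq_true, Nat.beq_eq, vactF_eq] at hm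
      obtain ⟨g, hg, hgu⟩ := hm
      obtain ⟨h1, h2⟩ := okH_parts (canH_okH (canH_q hg))
      have e := h g hg
      rw [hx, psi, mul_assoc, S.act h2 hu, ← mul_assoc, ← mul_assoc, e_comm S hu h1] at e
      have e' : S.e (combo vb d) = S.e (vact g.2 (combo vb d)) :=
        mul_left_cancel (mul_right_cancel e)
      exact hgu (e_inj S hinj (L.inE_vact h2 hu) hu e'.symm)
  · exfalso
    have hr : rep a ∈ reps.drop 1 := by
      have ha' : (a : ℕ) < reps.length := by rw [reps_ok.1]; exact a.2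
      have ha0 : 1 ≤ (a : ℕ) := Nat.one_le_iff_ne_zero.2 fun e => ha (Fin.ext e)
      refine List.mem_iff_getElem.2 ⟨(a : ℕ) - 1, by simp; omega, ?_⟩
      rw [rep, List.getD_eq_getElem _ _ ha', List.getElem_drop]
      congr 1
      omega
    have hm := List.all_eq_true.1 move_all.1 _ hr
    simp only [List.any_eq_true, Bool.not_eq_true', ← Bool.not_eq_true, Nat.beq_eq, vactF_eq] at hm
    obtain ⟨w, hw, hmw⟩ := hm
    obtain ⟨hp1, hp2⟩ := okH_parts (canH_okH (canH_pairOf L (a, d)))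
    have hw' := inE_vb hw
    have e := h (w, idP) (List.mem_of_mem_take (i := 7) (vb_eq ▸ List.mem_map.2 ⟨w, hw, rfl⟩))
    have hP : (pairOf (a, d)).2 = (rep a).2 := rfl
    simp only [elt, psi, m_idP, mul_one] at e
    rw [mul_assoc, S.act hp2 hw', hP, ← mul_assoc, ← mul_assoc, e_comm S hw' hp1] at e
    have e' : S.e (vact (rep a).2 w) = S.e w := mul_left_cancel (mul_right_cancel e)
    exact hmw (e_inj S hinj (L.inE_vact (hP ▸ hp2) hw') hw' e')

theorem extra (L : Laws) (hinj : PsiInj S) : Cfsg.IsExtraspecial 2 ↥(qGrp S) := by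
  classical
  haveI : Fact (Nat.Prime 2) := ⟨Nat.prime_two⟩
  have hcard := card_q S L hinj
  haveI : Finite ↥(qGrp S) := Nat.finite_of_card_ne_zero (by rw [hcard]; norm_num)
  have hne : S.e 490 ≠ 1 := fun e => by
    rw [← e_zero S] at e
    exact absurd (e_inj S hinj inE_490 J4XCount4.inE_zero e) (by norm_num)
  let z : ↥(qGrp S) := ⟨S.e 490, e490_mem S L⟩
  let gs : Set ↥(qGrp S) := (↑) ⁻¹' {g : G | ∃ p ∈ qPairs, g = psi S p}
  have htop : Subgroup.closure gs = ⊤ := Subgroup.closure_closure_coe_preimage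
  have hzc : z ∈ Subgroup.center ↥(qGrp S) := by
    refine Subgroup.mem_center_iff.2 fun x => ?_
    have hx : x ∈ Subgroup.centralizer ({z} : Set ↥(qGrp S)) := by
      revert x
      rw [← Subgroup.eq_top_iff', ← top_le_iff, ← htop, Subgroup.closure_le]
      rintro ⟨_, hm⟩ ⟨p, hp, rfl⟩
      exact Subgroup.mem_centralizer_singleton_iff.2 (Subtype.ext (gen_comm490 S hp))
    exact Subgroup.mem_centralizer_singleton_iff.1 hx
  have hmemz : ∀ x : ↥(qGrp S), (x : G) ∈ Subgroup.zpowers (S.e 490) → x ∈ Subgroup.zpowers z := by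
    rintro x ⟨k, hk⟩
    exact ⟨k, Subtype.ext hk⟩
  haveI hn : (Subgroup.zpowers z).Normal :=
    Cfsg.Agent.PGroupsBasic.normal_of_le_center (Subgroup.zpowers_le.2 hzc)
  let q := QuotientGroup.mk' (Subgroup.zpowers z)
  have hgen : ∀ a ∈ gs, ∀ b ∈ gs, q a * q b = q b * q a := by
    rintro ⟨_, ha⟩ ⟨p, hp, rfl⟩ ⟨_, hb⟩ ⟨r, hr, rfl⟩
    obtain ⟨c, hc, hcc⟩ := gen_comm S hp hr
    have hcq : c ∈ qGrp S := (Subgroup.zpowers_le.2 (e490_mem S L)) hc
    have e : (⟨psi S p, ha⟩ * ⟨psi S r, hb⟩ : ↥(qGrp S)) =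
        ⟨c, hcq⟩ * (⟨psi S r, hb⟩ * ⟨psi S p, ha⟩) := Subtype.ext (hcc L)
    rw [← map_mul, e, map_mul, map_mul, (QuotientGroup.eq_one_iff _).2 (hmemz ⟨c, hcq⟩ hc) |> fun h =>
      (show q ⟨c, hcq⟩ = 1 from h), one_mul]
  have hcomm : ∀ a b, q a * q b = q b * q a := by
    have h1 : ∀ a ∈ gs, ∀ b, q a * q b = q b * q a := by
      intro a ha b
      have hb : b ∈ Subgroup.closure gs := htop ▸ Subgroup.mem_top b
      induction hb using Subgroup.closure_induction with
      | mem b hb => exact hgen a ha b hb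
      | one => simp
      | mul b c _ _ hb hc => rw [map_mul]; exact Commute.mul_right hb hc
      | inv b _ hb => rw [map_inv]; exact Commute.inv_right hb
    intro a b
    have ha : a ∈ Subgroup.closure gs := htop ▸ Subgroup.mem_top a
    induction ha using Subgroup.closure_induction with
    | mem a ha => exact h1 a ha b
    | one => simp
    | mul a c _ _ ha hc => rw [map_mul]; exact Commute.mul_left ha hc
    | inv a _ ha => rw [map_inv]; exact Commute.inv_left ha
  have hsq : ∀ a, q a ^ 2 = 1 := by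
    intro a
    have ha : a ∈ Subgroup.closure gs := htop ▸ Subgroup.mem_top a
    induction ha using Subgroup.closure_induction with
    | mem a ha =>
      obtain ⟨p, hp, hap⟩ := ha
      rw [← map_pow]
      refine (QuotientGroup.eq_one_iff _).2 (hmemz _ ?_)
      rw [Subgroup.coe_pow, pow_two, hap]
      exact gen_sq S L hp
    | one => simp
    | mul a c _ _ ha hc => rw [map_mul, Commute.mul_pow (hcomm a c), ha, hc, mul_one]
    | inv a _ ha => rw [map_inv, inv_pow, ha, inv_one]
  refine Cfsg.Agent.SymplecticType.isExtraspecial_of (z := z) (IsPGroup.of_card hcard) ⟨hzc, ?_⟩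
    ?_ ?_ ?_ ?_
  · rw [← Subgroup.orderOf_coe]
    exact orderOf_eq_prime (by rw [pow_two]; exact e_sq S inE_490) hne
  · intro g h
    refine (QuotientGroup.eq_one_iff _).1 ?_
    show q ⁅g, h⁆ = 1
    rw [map_commutatorElement, commutatorElement_eq_one_iff_mul_comm]
    exact hcomm g h
  · intro g
    refine (QuotientGroup.eq_one_iff _).1 ?_
    show q (g ^ 2) = 1
    rw [map_pow]
    exact hsq g
  · intro g hg
    obtain ⟨x, hx⟩ := (mem_iff S L).1 g.2
    refine hmemz g ?_
    rw [← hx]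
    refine central_zero_or S L hinj x fun p hp => ?_
    have := Subgroup.mem_center_iff.1 hg ⟨psi S p, gen_mem S hp⟩
    rw [hx]
    exact (congrArg Subtype.val this).symm
  · by_contra hh
    push Not at hh
    have hall : ∀ g : ↥(qGrp S), g ∈ Subgroup.zpowers z := fun g => by
      obtain ⟨x, hx⟩ := (mem_iff S L).1 g.2
      refine hmemz g ?_
      rw [← hx]
      refine central_zero_or S L hinj x fun p hp => ?_
      rw [hx]
      exact congrArg Subtype.val
        (commutatorElement_eq_one_iff_mul_comm.1 (hh g ⟨psi S p, gen_mem S hp⟩))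
    have h2 : Nat.card ↥(qGrp S) ≤ orderOf z := by
      rw [← Nat.card_zpowers]
      exact Nat.card_le_card_of_injective (fun g => ⟨g, hall g⟩) fun a b e => congrArg Subtype.val e
    rw [hcard, ← Subgroup.orderOf_coe, orderOf_eq_prime (p := 2)
      (by rw [pow_two]; exact e_sq S inE_490) hne] at h2
    norm_num at h2

theorem c_cube (L : Laws) : psi S cPair * psi S cPair * psi S cPair = 1 := by
  have h := c_ok.2.2
  rw [eqH_iff, hmulF_eq] at h
  have hc := canH_okH c_ok.1
  rw [← psi_hmul S L hc hc, ← psi_hmul S L (okH_hmul L hc hc) hc, h, psi_one]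

theorem c_order (L : Laws) (hinj : PsiInj S) : orderOf (psi S cPair) = 3 := by
  haveI : Fact (Nat.Prime 3) := ⟨Nat.prime_three⟩
  refine orderOf_eq_prime (by rw [pow_succ, pow_two]; exact c_cube S L) fun e => ?_
  rw [← psi_one S] at e
  have := hinj _ _ c_ok.1 (by decide +kernel) e
  exact absurd (eqH_iff.2 this) (by rw [c_ok.2.1]; simp)

theorem c_norm (L : Laws) :
    ∀ g ∈ qGrp S, psi S cPair * g * (psi S cPair)⁻¹ ∈ qGrp S := by
  have hc := canH_okH c_ok.1
  have hinv : (psi S cPair)⁻¹ = psi S cPair * psi S cPair := by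
    rw [inv_eq_iff_mul_eq_one, ← mul_assoc]
    exact c_cube S L
  intro g hg
  induction hg using Subgroup.closure_induction with
  | mem g hg =>
    obtain ⟨p, hp, rfl⟩ := hg
    have hpk := canH_okH (canH_q hp)
    obtain ⟨b, d, hbd⟩ := exists_of_hit (List.all_eq_true.1 conj_all p hp)
    rw [hmulF_eq] at hbd
    rw [hinv, ← psi_hmul S L hc hc, ← psi_hmul S L hc hpk,
      ← psi_hmul S L (okH_hmul L hc hpk) (okH_hmul L hc hc), hbd]
    exact elt_mem S L (b, d)
  | one => simp
  | mul a b _ _ ha hb =>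
    have e : psi S cPair * (a * b) * (psi S cPair)⁻¹ =
        psi S cPair * a * (psi S cPair)⁻¹ * (psi S cPair * b * (psi S cPair)⁻¹) := by group
    rw [e]
    exact mul_mem ha hb
  | inv a _ ha =>
    have e : psi S cPair * a⁻¹ * (psi S cPair)⁻¹ = (psi S cPair * a * (psi S cPair)⁻¹)⁻¹ := by group
    rw [e]
    exact inv_mem ha

end Cfsg.Agent.J4XCentQ12
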