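import Cfsg.Agent.Lib.J4XConcrete18
import Cfsg.Agent.Lib.J4XCentCount12

/-!
The concrete inputs for the centraliser of an involution in the presented fourth Janko group.
-/

set_option autoImplicit false
set_option maxRecDepth 100000

namespace Cfsg.Agent.J4XCentTop12

open Cfsg Cfsg.Agent.J4XBase18 Cfsg.Agent.J4XCount4 Cfsg.Agent.J4Rep13 Cfsg.Agent.J4PresGen13
open Cfsg.Agent.J4XCentData12 Cfsg.Agent.J4XCentRep12

/-- the letters of the third word -/
def wS : List ℕ :=
  [2, 1, 2, 1, 3, 1, 3, 1, 3, 1, 3, 4, 2, 0, 2, 0, 2, 0, 2, 0, 3, 0,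
  2, 1, 2, 1, 3, 1, 3, 1, 3, 1, 3, 4, 2, 0, 2, 0, 2, 0, 2, 0, 3, 0,
  2, 1, 2, 1, 3, 1, 3, 1, 3, 1, 3, 4, 2, 0, 2, 0, 2, 0, 2, 0, 3, 0]

theorem sWord_eq : J4XGlue18.sWord = wv fgen wS := by decide +kernel

theorem wS_ok : (sameUnits (mats wS) (mats wu) && (wS.all fun l => decide (l < 6)) &&
    wu.all fun l => decide (l < 6)) = true := by decide +kernel

theorem wS_perm : wv pn wS = wv pn wu := by
  have h := wS_ok
  simp only [Bool.and_eq_true, List.all_eq_true, decide_eq_true_eq] at h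
  obtain ⟨⟨h1, h2⟩, h3⟩ := h
  exact Equiv.ext fun v => Subtype.ext (by
    rw [wv_pn_apply wS h2, wv_pn_apply wu h3]
    exact sameUnits_sound h1 v.val v.2)

theorem rho_q (w : FreeGroup Spor.J4.Gen) : rho (J4XPerm10.q w) = FreeGroup.lift img w := rfl

theorem m_eX' : J4XDe23.setup.m J4XCentClass12.eX = J4XPerm10.q Spor.J4.x := J4XPerm10.m_eX

theorem m_eY' : J4XDe23.setup.m J4XCentClass12.eY = J4XPerm10.q Spor.J4.y := J4XPerm10.m_eY

theorem hs : J4XPerm10.q J4XGlue18.sWord = J4XDe23.setup.e 3269 := J4XSetup23.cube_ee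

theorem repHyp : RepHyp J4XDe23.setup rho where
  hX := by rw [m_eX', rho_q]; exact FreeGroup.lift_apply_of
  hY := by rw [m_eY', rho_q]; exact FreeGroup.lift_apply_of
  hT := (rho_q Spor.J4.t).trans FreeGroup.lift_apply_of
  hU := by rw [← hs, rho_q, sWord_eq, lift_wv, wS_perm]

theorem mgood : MGood J4XDe23.setup := fun P => J4XLaws10.mgood P

theorem hx : J4XDe23.setup.m J4XLowerPair97.eX = PresentedGroup.mk _ Spor.J4.x := J4XPerm10.m_eX

theorem card_base : Nat.card ↥(base J4XDe23.setup) = 2048 * 244823040 :=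
  J4XLowerPair97.card_base_of_mgood J4XDe23.setup (J4XLower97.m_ne_one _ hx)
    (fun h h' => J4XLaws10.laws.inE_vact h h') mgood

theorem psiInj : PsiInj J4XDe23.setup :=
  J4XLower97.psiInj J4XDe23.setup J4XLaws10.laws hx

theorem genBase : J4XCentClass12.GenBase J4XDe23.setup := by
  show base _ = _
  have h := J4XGlue18.base_eq J4XDe23.setup J4XLaws10.laws rfl hs
  rw [h, J4XGlue18.H, MonoidHom.map_closure, Set.image_insert_eq, Set.image_insert_eq,
    Set.image_singleton, ← hs, m_eX', m_eY']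
  rfl

theorem finite : Finite Spor.J4 := J4XConcrete18.finite_J4

theorem orbits :
    (∀ i < 7, (orb J4XDe23.setup (J4XFacts18.rep J4XDe23.setup) i).ncard = sizes.getD i 0) ∧
      (∀ q, ∃ i < 7, q ∈ orb J4XDe23.setup (J4XFacts18.rep J4XDe23.setup) i) := by
  obtain ⟨-, -, -, h1, h2, -⟩ := J4XCount4.main J4XDe23.setup J4XLaws10.laws mgood psiInj card_base
    (J4XLower97.hdiv J4XDe23.setup card_base) (J4XFacts18.rep J4XDe23.setup) rfl
    (J4XCover16.edge_all J4XDe23.setup J4XLaws10.laws)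
    (J4XFacts18.facts_hold J4XDe23.setup J4XLaws10.laws) J4XStabData18.stabData J4XStabCheck4.stab_ok
  exact ⟨h1, h2⟩

end Cfsg.Agent.J4XCentTop12
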