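import Cfsg.Agent.Lib.J4XSetup23

/-!
The conjugates by the third generator of nine vectors of the elementary abelian subgroup, and the data
of the coset certificate for the presented fourth Janko group.
-/

set_option autoImplicit false
set_option maxRecDepth 100000

namespace Cfsg.Agent.J4XDe23

open Cfsg.Agent.GolayPerm Cfsg.Agent.GolayEnumComp Cfsg.Agent.J4XBase18
open Cfsg.Agent.J4XSetup23 Cfsg.Agent.J4XResidue54
open Cfsg.Agent.J4XPerm10 (m)

/-- A code of the sextet of the core identity. -/
def sR : ℕ := 138225968781240086889945651174970409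

/-- The permutation part of the core identity. -/
def pR : ℕ := 360885332564804183477328761917313589

theorem core : tt * sconj m tt sR * tt = sconj m tt sR * m pR := by
  have hA : tt * tcj m tt 213185223853839097574519062759460050 = tcj m tt 213185223853839097574519062759460050 * tt := by
    have := J4XResidue54.tcj_comm pre (R := 550614259114318871848011824565987570) (P := idP) (Q := 213185223853839097574519062759460050) (by decide +kernel)
      (by decide +kernel) (by decide +kernel) (by decide +kernel) (by decide +kernel)
    rw [tcj_idP pre] at this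
    exact this.eq
  have hB := crossT pre (R := 721090568793964172965488904482015872) (R' := 336892371857394205437863854315096576) (x := 138225968781240086889945651174970409) (y := idP) (u := 227714904946005297031741333649361586) (p := 348761863890827989197743647269095968)
    (by decide +kernel) 1
  have hC := crossT pre (R := 810369357054394248100247769847077995) (R' := 315694095644445074303897815757136269) (x := 542926374607518441769407717188519494) (y := idP) (u := 940322200302190627887914997016217063) (p := 970980199206478545871285271897673781)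
    (by decide +kernel) 1
  rw [tcj_idP pre, mul_one, mul_one] at hB hC
  have cA : tt * tcj m tt 213185223853839097574519062759460050 * tt = tcj m tt 213185223853839097574519062759460050 := by rw [hA, mul_assoc, pre.tsq, mul_one]
  have cB : tt * tcj m tt 138225968781240086889945651174970409 * tt = tcj m tt 227714904946005297031741333649361586 * m 348761863890827989197743647269095968 := by
    rw [mul_assoc, hB, ← mul_assoc, pre.tsq, one_mul]
  have cC : tt * tcj m tt 542926374607518441769407717188519494 * tt = tcj m tt 940322200302190627887914997016217063 * m 970980199206478545871285271897673781 := by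
    rw [mul_assoc, hC, ← mul_assoc, pre.tsq, one_mul]
  have mv := moveT pre (p := 348761863890827989197743647269095968) (y := 940322200302190627887914997016217063) (c := 525324768725246299083003763822724462) (by decide +kernel) (m 970980199206478545871285271897673781)
  have mm' : m 348761863890827989197743647269095968 * m 970980199206478545871285271897673781 = m pR := by
    rw [← pre.m_mul (by decide +kernel) (by decide +kernel)]
    exact congrArg m (by decide +kernel)
  have e1 := sconj_tri pre (P := sR) (a := 2) (b := 0) (c := 11) (A := 213185223853839097574519062759460050) (B := 138225968781240086889945651174970409) (D := 542926374607518441769407717188519494)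
    (by decide +kernel)
  have e2 := sconj_tri pre (P := sR) (a := 2) (b := 5) (c := 14) (A := 213185223853839097574519062759460050) (B := 643889710990369843770370593387092713) (D := 478594417005532871007618332624110990)
    (by decide +kernel)
  have g1 : tcj m tt 213185223853839097574519062759460050 = tcj m tt 213185223853839097574519062759460050 :=
    tcj_congr pre (by decide +kernel) (by decide +kernel) (by decide +kernel)
  have g2 : tcj m tt 227714904946005297031741333649361586 = tcj m tt 643889710990369843770370593387092713 :=
    tcj_congr pre (by decide +kernel) (by decide +kernel) (by decide +kernel)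
  have g3 : tcj m tt 525324768725246299083003763822724462 = tcj m tt 478594417005532871007618332624110990 :=
    tcj_congr pre (by decide +kernel) (by decide +kernel) (by decide +kernel)
  calc tt * sconj m tt sR * tt
      = tt * tcj m tt 213185223853839097574519062759460050 * tt * (tt * tcj m tt 138225968781240086889945651174970409 * tt) * (tt * tcj m tt 542926374607518441769407717188519494 * tt) := by
        rw [e1]; simp only [mul_assoc]; simp only [← mul_assoc tt tt, pre.tsq, one_mul]
    _ = tcj m tt 213185223853839097574519062759460050 * (tcj m tt 227714904946005297031741333649361586 * (m 348761863890827989197743647269095968 * (tcj m tt 940322200302190627887914997016217063 * m 970980199206478545871285271897673781))) := by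
        rw [cA, cB, cC]; simp only [mul_assoc]
    _ = tcj m tt 213185223853839097574519062759460050 * (tcj m tt 227714904946005297031741333649361586 * (tcj m tt 525324768725246299083003763822724462 * m pR)) := by rw [mv, mm']
    _ = _ := by rw [e2, g1, g2, g3]; simp only [mul_assoc]

/-- A fact: classes `v`, `w` and a code `P`, standing for `t * e v * t = e w * m P`. -/
def Holds (f : ℕ × ℕ × ℕ) : Prop :=
  inE f.1 = true ∧ inE f.2.1 = true ∧ good f.2.2 = true ∧ tt * ee f.1 * tt = ee f.2.1 * m f.2.2

/-- The default fact. -/
def triv : ℕ × ℕ × ℕ := (0, 0, idP)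

/-- Codes of the seven sextets over the first trio. -/
def sevenCodes : List ℕ :=
  [(984818244535754528103549039458486304),
    (598420182209985059180993270351241799),
    (236873248261172655568168873845378290),
    (550614259114318871848011824565987570),
    (847671743200340332320172408742449717),
    (112256222395100799322467064992776299),
    (102600078364743024194009714247516779)]

/-- The starting facts. -/
def start : List (ℕ × ℕ × ℕ) :=
  (vact sR 490, vact sR 490, pR) :: sevenCodes.map fun Q => (vact Q 490, vact Q 490, idP)

theorem ee_zero : ee 0 = 1 := by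
  have h := ee_mul 0 0
  rw [Nat.xor_self] at h
  exact right_eq_mul.mp h

theorem holds_triv : Holds triv :=
  ⟨by decide +kernel, by decide +kernel, by decide +kernel, by
    simp only [triv]
    rw [ee_zero, J4XLaws10.m_idP, mul_one, one_mul]
    exact pre.tsq⟩

theorem holds_start : ∀ f ∈ start, Holds f := by
  intro f hf
  rcases List.mem_cons.1 hf with rfl | hf
  · have hR : good sR = true := by decide +kernel
    refine ⟨by decide +kernel, by decide +kernel, by decide +kernel, ?_⟩
    simp only []
    rw [ee_sext hR]
    exact core
  · obtain ⟨Q, hQ, rfl⟩ := List.mem_map.1 hf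
    have hq : (sevenCodes.all fun Q => good Q && onSext Q idP && inE (vact Q 490)) = true := by
      decide +kernel
    have h := List.all_eq_true.1 hq Q hQ
    simp only [Bool.and_eq_true] at h
    refine ⟨h.2, h.2, J4XPerm10.good_idP, ?_⟩
    simp only []
    rw [ee_sext h.1.1, (t_comm_sconj pre h.1.1 h.1.2).eq, mul_assoc, pre.tsq, J4XLaws10.m_idP]

/-- One step: conjugation by an element commuting with `t`, or a product of two facts. -/
def next (L : List (ℕ × ℕ × ℕ)) (x : ℕ × ℕ × ℕ × ℕ) : ℕ × ℕ × ℕ :=
  bif Nat.beq x.1 0 then
    bif good x.2.2.1 && fixT0 x.2.2.1 && good x.2.2.2 &&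
        Nat.beq (pcomp x.2.2.2 x.2.2.1) (pcomp x.2.2.1 (L.getD x.2.1 triv).2.2) then
      (vact x.2.2.1 (L.getD x.2.1 triv).1, vact x.2.2.1 (L.getD x.2.1 triv).2.1, x.2.2.2)
    else triv
  else
    ((L.getD x.2.1 triv).1 ^^^ (L.getD x.2.2.1 triv).1,
      (L.getD x.2.1 triv).2.1 ^^^ vact (L.getD x.2.1 triv).2.2 (L.getD x.2.2.1 triv).2.1,
      pcomp (L.getD x.2.1 triv).2.2 (L.getD x.2.2.1 triv).2.2)

theorem holds_getD {L : List (ℕ × ℕ × ℕ)} (hL : ∀ f ∈ L, Holds f) (i : ℕ) : Holds (L.getD i triv) := by
  by_cases hi : i < L.length
  · rw [List.getD_eq_getElem _ _ hi]; exact hL _ (List.getElem_mem hi)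
  · rw [List.getD_eq_default _ _ (Nat.le_of_not_lt hi)]; exact holds_triv

theorem holds_next {L : List (ℕ × ℕ × ℕ)} (hL : ∀ f ∈ L, Holds f) (x : ℕ × ℕ × ℕ × ℕ) :
    Holds (next L x) := by
  obtain ⟨h1, h2, h3, h4⟩ := holds_getD hL x.2.1
  unfold next
  cases Nat.beq x.1 0
  · obtain ⟨k1, k2, k3, k4⟩ := holds_getD hL x.2.2.1
    simp only [cond_false]
    generalize L.getD x.2.1 triv = f at h1 h2 h3 h4 ⊢
    generalize L.getD x.2.2.1 triv = g at k1 k2 k3 k4 ⊢
    refine ⟨J4XPerm10.inE_xor h1 k1, J4XPerm10.inE_xor h2 (J4XPerm10.inE_vact h3 k2),
      J4XPerm10.good_pcomp h3 k3, ?_⟩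
    rw [ee_mul, ee_mul, J4XPerm10.m_mul h3 k3]
    calc tt * (ee f.1 * ee g.1) * tt = tt * ee f.1 * tt * (tt * ee g.1 * tt) := by
          simp only [mul_assoc]; simp only [← mul_assoc tt tt, pre.tsq, one_mul]
      _ = ee f.2.1 * (m f.2.2 * ee g.2.1) * m g.2.2 := by rw [h4, k4]; simp only [mul_assoc]
      _ = _ := by rw [ee_act h3 k2]; simp only [mul_assoc]
  · simp only [cond_true]
    generalize L.getD x.2.1 triv = f at h1 h2 h3 h4 ⊢
    cases hb : (good x.2.2.1 && fixT0 x.2.2.1 && good x.2.2.2 &&
        Nat.beq (pcomp x.2.2.2 x.2.2.1) (pcomp x.2.2.1 f.2.2))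
    · exact holds_triv
    simp only [cond_true]
    simp only [Bool.and_eq_true] at hb
    obtain ⟨⟨⟨hk, hf⟩, hQ⟩, he⟩ := hb
    refine ⟨J4XPerm10.inE_vact hk h1, J4XPerm10.inE_vact hk h2, hQ, ?_⟩
    have e : m x.2.2.2 * m x.2.2.1 = m x.2.2.1 * m f.2.2 := by
      rw [← J4XPerm10.m_mul hQ hk, ← J4XPerm10.m_mul hk h3, Nat.eq_of_beq_eq_true he]
    have ct : tt * m x.2.2.1 = m x.2.2.1 * tt := pre.kcomm hk hf
    refine mul_right_cancel (b := m x.2.2.1) ?_
    calc tt * ee (vact x.2.2.1 f.1) * tt * m x.2.2.1
        = tt * (ee (vact x.2.2.1 f.1) * m x.2.2.1) * tt := by simp only [mul_assoc, ct]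
      _ = m x.2.2.1 * (tt * ee f.1 * tt) := by
          rw [← ee_act hk h1, ← mul_assoc, ct]; simp only [mul_assoc]
      _ = ee (vact x.2.2.1 f.2.1) * (m x.2.2.1 * m f.2.2) := by
          rw [h4, ← mul_assoc, ee_act hk h2, mul_assoc]
      _ = _ := by rw [← e, mul_assoc]

/-- All facts derived by the steps. -/
def derive : List (ℕ × ℕ × ℕ) → List (ℕ × ℕ × ℕ × ℕ) → List (ℕ × ℕ × ℕ)
  | L, [] => L
  | L, x :: X => derive (L ++ [next L x]) X

theorem holds_derive : ∀ (X : List (ℕ × ℕ × ℕ × ℕ)) (L : List (ℕ × ℕ × ℕ)), (∀ f ∈ L, Holds f) →
    ∀ f ∈ derive L X, Holds f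
  | [], _, hL => hL
  | x :: X, L, hL => holds_derive X _ fun f hf => by
    rcases List.mem_append.1 hf with hf | hf
    · exact hL f hf
    · rw [List.mem_singleton.1 hf]; exact holds_next hL x

/-- The steps. -/
def steps : List (ℕ × ℕ × ℕ × ℕ) :=
  [(0, 0, 301379018530235236018242641042943414, 962750373820247208505083556844120096),
    (0, 0, 49681275258903740888759440893946496, 901818663127560286593026386736254472),
    (0, 0, 337501122406054913175120696706676373, 349203007542633698174863381893319221),
    (0, 0, 971831744091528896138257545369594132, 735548024930411952566838200231251216),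
    (0, 0, 443109427017356804045801174440949026, 974433247249825690626314945982442528),
    (0, 0, 271509392248605296599036332109807308, 973135206459819183275216022251278368),
    (0, 0, 798481244112408030586029490352865763, 28883877603931312833195863318865559),
    (0, 0, 570756258086074829095714728400982213, 962750373820247208505083556844120096),
    (0, 0, 629700709386069817740207338841362505, 360885332564804183477328761917313589),
    (1, 13, 12, 0),
    (1, 4, 8, 0),
    (1, 18, 9, 0),
    (1, 19, 12, 0),
    (1, 7, 10, 0),
    (1, 16, 9, 0),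
    (1, 0, 1, 0),
    (1, 23, 2, 0),
    (1, 24, 9, 0),
    (1, 25, 11, 0),
    (1, 15, 12, 0),
    (1, 7, 8, 0),
    (1, 28, 9, 0),
    (1, 29, 10, 0),
    (1, 30, 12, 0),
    (1, 23, 3, 0),
    (1, 32, 8, 0),
    (1, 33, 11, 0),
    (1, 14, 11, 0),
    (1, 35, 12, 0)]

theorem de : ∀ vP ∈ deList, tt * ee vP.1 * tt = ee vP.1 * m vP.2 := by
  intro vP hv
  have hall : (deList.all fun vP => (derive start steps).contains (vP.1, vP.1, vP.2)) = true := by
    decide +kernel
  have h := List.all_eq_true.1 hall vP hv
  exact (holds_derive steps start holds_start _ (List.contains_iff_mem.1 h)).2.2.2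

/-- The data needed by the coset certificate. -/
noncomputable def setup : Setup Cfsg.Spor.J4 := setupOf de

end Cfsg.Agent.J4XDe23
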