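import Cfsg.Agent.Lib.J4Rep13
import Cfsg.Agent.Lib.J4XLowerNodes97
import Cfsg.Agent.Lib.J4XLowerPair97

/-!
Lower bound for the presented fourth Janko group: from its representation of degree 112, elements of orders
29, 31, 37, 43 and a nonabelian subgroup of exponent eleven; with the order of the subgroup of shape
2^11 : M24 this gives the full order as a divisor of the group order.
-/

set_option autoImplicit false
set_option maxRecDepth 100000

namespace Cfsg.Agent.J4XLower97

open Cfsg.Agent.J4Rep13 Cfsg.Agent.J4RepData13 Cfsg.Agent.J4XBase18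
open Cfsg.Agent.J4XLowerNodes97
open Cfsg.Spor

/-- Rows of full length and width 112. -/
def rowsOK (M : List Nat) : Bool := Nat.beq M.length 112 && M.all fun r => decide (r < 2 ^ 112)

theorem rowsOK_spec {M : List Nat} (h : rowsOK M = true) : M.length = 112 ∧ ∀ r ∈ M, r < 2 ^ 112 := by
  simpa [rowsOK, List.all_eq_true, Nat.beq_eq] using h

theorem appL_lt {L : List (List Nat)} (hL : ∀ M ∈ L, rowsOK M = true) : ∀ v < 2 ^ 112, appL L v < 2 ^ 112 := by
  induction L with
  | nil => exact fun _ hv => hv
  | cons M L ih =>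
    intro v _
    exact ih (fun M' h' => hL M' (List.mem_cons_of_mem _ h')) _
      (app_lt (rowsOK_spec (hL M List.mem_cons_self)).2 v)

theorem ident_bits : ∀ i < 112, ∀ j < 128, ident.testBit (128 * i + j) = (2 ^ i).testBit j := by
  have key : (List.range 112).all (fun i => (List.range 128).all fun j =>
      ident.testBit (128 * i + j) == (2 ^ i).testBit j) = true := by decide +kernel
  intro i hi j hj
  simp only [List.all_eq_true, List.mem_range, beq_iff_eq] at key
  exact key i hi j hj

theorem eq_of_mulL {L L' : List (List Nat)} (hL : ∀ M ∈ L, rowsOK M = true) (hL' : ∀ M ∈ L', rowsOK M = true)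
    (h : Nat.beq (mulL L ident) (mulL L' ident) = true) : ∀ v < 2 ^ 112, appL L v = appL L' v := by
  have hw : ∀ {L : List (List Nat)}, (∀ M ∈ L, rowsOK M = true) →
      ∀ M ∈ L, M.length = 112 ∧ ∀ r ∈ M, r < 2 ^ 128 := fun hL M hM =>
    ⟨(rowsOK_spec (hL M hM)).1, fun r hr => ((rowsOK_spec (hL M hM)).2 r hr).trans (by norm_num)⟩
  have hb : ∀ i < 112, appL L (2 ^ i) = appL L' (2 ^ i) := by
    intro i hi
    apply Nat.eq_of_testBit_eq
    intro j
    by_cases hj : j < 128
    · rw [← mulL_testBit L (hw hL) ident i _ hi (ident_bits i hi) j hj,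
        ← mulL_testBit L' (hw hL') ident i _ hi (ident_bits i hi) j hj, Nat.eq_of_beq_eq_true h]
    · have h2 : (2 : Nat) ^ i < 2 ^ 112 := Nat.pow_lt_pow_right (by norm_num) hi
      rw [Nat.testBit_lt_two_pow ((appL_lt hL _ h2).trans_le (Nat.pow_le_pow_right (by norm_num) (by omega))),
        Nat.testBit_lt_two_pow ((appL_lt hL' _ h2).trans_le (Nat.pow_le_pow_right (by norm_num) (by omega)))]
  have hn : ∀ n ≤ 112, ∀ v < 2 ^ n, appL L v = appL L' v := by
    intro n
    induction n with
    | zero => intro _ v hv; rw [show v = 0 by omega, appL_zero, appL_zero]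
    | succ n ih =>
      intro hn v hv
      cases hb' : v.testBit n with
      | false =>
        refine ih (by omega) v (Nat.lt_pow_two_of_testBit _ fun p hp => ?_)
        rcases hp.eq_or_lt with rfl | hp
        · exact hb'
        · exact Nat.testBit_lt_two_pow (hv.trans_le (Nat.pow_le_pow_right (by norm_num) hp))
      | true =>
        have hw : v ^^^ 2 ^ n < 2 ^ n := Nat.lt_pow_two_of_testBit _ fun p hp => by
          rw [Nat.testBit_xor, Nat.testBit_two_pow]
          rcases hp.eq_or_lt with rfl | hp
          · simp [hb']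
          · rw [Nat.testBit_lt_two_pow (hv.trans_le (Nat.pow_le_pow_right (by norm_num) hp))]
            simp [hp.ne]
        have e1 := ih (by omega) _ hw
        rw [appL_xor, appL_xor, hb n (by omega)] at e1
        exact Nat.xor_left_injective e1
  exact hn 112 le_rfl

/-- The matrix of a node. -/
def matAt (i : Nat) : List Nat := (nodes.getD i (.word [], [])).2

/-- The check of a node. -/
noncomputable def stepOK (k : Nat) (e : Recipe × List Nat) : Bool :=
  rowsOK e.2 && match e.1 with
    | .word w => (w.all fun l => decide (l < 6)) &&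
        Nat.beq (mulL (mats w) ident) (mulL [e.2] ident)
    | .mul i j => decide (i < k) && decide (j < k) &&
        Nat.beq (mulL [matAt j, matAt i] ident) (mulL [e.2] ident)
    | .inv i => decide (i < k) && Nat.beq (mulL [e.2, matAt i] ident) (mulL [] ident)

theorem nodes_ok : ((List.range nodes.length).all fun k => stepOK k (nodes.getD k (.word [], []))) = true := by
  decide +kernel

/-- The matrix is that of an element. -/
def IsIm (M : List Nat) (g : J4) : Prop := rowsOK M = true ∧ ∀ v : Vec, ((rho g) v : Nat) = app M v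

theorem mk_wv : ∀ w : List Nat, rho (PresentedGroup.mk _ (J4PresGen13.wv fgen w)) = J4PresGen13.wv pn w := fun w => by
  show PresentedGroup.toGroup rel_one (PresentedGroup.mk _ _) = _
  rw [← lift_wv]
  rfl

theorem node_im : ∀ k < nodes.length, ∃ g : J4, IsIm (matAt k) g := by
  intro k
  induction k using Nat.strong_induction_on with
  | _ k ih =>
    intro hk
    have h := List.all_eq_true.mp nodes_ok k (List.mem_range.mpr hk)
    unfold matAt
    generalize nodes.getD k (Recipe.word [], []) = e at h ⊢
    obtain ⟨r, M⟩ := e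
    rcases r with w | ⟨i, j⟩ | i
    · simp only [stepOK, Bool.and_eq_true, List.all_eq_true, decide_eq_true_eq] at h
      obtain ⟨hM, hl, he⟩ := h
      refine ⟨PresentedGroup.mk _ (J4PresGen13.wv fgen w), hM, fun v => ?_⟩
      rw [mk_wv, wv_pn_apply w hl v]
      refine eq_of_mulL (L' := [M]) (fun M' h' => ?_) (fun M' h' => ?_) he v.1 v.2
      · have := mat_ok (mats_mem w M' h')
        simp [rowsOK, this.1, List.all_eq_true]
        exact this.2
      · rw [List.mem_singleton] at h'; subst h'; exact hM
    · simp only [stepOK, Bool.and_eq_true, decide_eq_true_eq] at h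
      obtain ⟨hM, ⟨hi, hj⟩, he⟩ := h
      obtain ⟨g, hg0, hg⟩ := ih i hi (hi.trans hk)
      obtain ⟨g', hg0', hg'⟩ := ih j hj (hj.trans hk)
      refine ⟨g * g', hM, fun v => ?_⟩
      rw [map_mul, Equiv.Perm.mul_apply, hg, hg']
      refine eq_of_mulL (L := [matAt j, matAt i]) (L' := [M]) (fun M' h' => ?_) (fun M' h' => ?_) he v.1 v.2
      · simp only [List.mem_cons, List.not_mem_nil, or_false] at h'
        rcases h' with rfl | rfl
        · exact hg0'
        · exact hg0
      · rw [List.mem_singleton] at h'; subst h'; exact hM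
    · simp only [stepOK, Bool.and_eq_true, decide_eq_true_eq] at h
      obtain ⟨hM, hi, he⟩ := h
      obtain ⟨g, hg0, hg⟩ := ih i hi (hi.trans hk)
      refine ⟨g⁻¹, hM, fun v => ?_⟩
      have hlt : app M v.1 < 2 ^ 112 := app_lt (rowsOK_spec hM).2 _
      have h1 : rho g ⟨app M v.1, hlt⟩ = v := Subtype.ext (by
        rw [hg]
        refine eq_of_mulL (L := [M, matAt i]) (L' := []) (fun M' h' => ?_) (fun M' h' => ?_) he v.1 v.2
        · simp only [List.mem_cons, List.not_mem_nil, or_false] at h'
          rcases h' with rfl | rfl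
          · exact hM
          · exact hg0
        · simp at h')
      conv_lhs => rw [← h1]
      rw [map_inv]
      exact congrArg Subtype.val ((rho g).symm_apply_apply _)

/-- Equality of products. -/
noncomputable def eqM (L L' : List Nat) : Bool :=
  Nat.beq (mulL (L.map matAt) ident) (mulL (L'.map matAt) ident)

/-- The index of a nontrivial element whose power is trivial. -/
noncomputable def ordOK (i p : Nat) : Bool :=
  decide (i < nodes.length) && eqM (List.replicate p i) [] &&
    !((List.range 112).all fun j => Nat.beq (app (matAt i) (2 ^ j)) (2 ^ j))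

theorem facts : (ordOK ia 11 && ordOK ib 11 && ordOK ic 11 && eqM [ia, ic] [ic, ia] && eqM [ib, ic] [ic, ib] &&
    eqM [ib, ia] [ia, ib, ic]) = true := by decide +kernel

theorem prime_facts : (primeIx.all fun e => ordOK e.2 e.1) = true := by decide +kernel

/-- The element of a node. -/
noncomputable def el (i : Nat) : J4 := if h : i < nodes.length then (node_im i h).choose else 1

theorem el_spec {i : Nat} (h : i < nodes.length) : IsIm (matAt i) (el i) := by
  rw [el, dif_pos h]; exact (node_im i h).choose_spec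

/-- The image of a list of nodes, the first applied first. -/
noncomputable def val : List Nat → Equiv.Perm Vec
  | [] => 1
  | i :: L => val L * rho (el i)

theorem val_apply : ∀ L : List Nat, (∀ i ∈ L, i < nodes.length) → ∀ v : Vec,
    ((val L) v : Nat) = appL (L.map matAt) v
  | [], _, _ => rfl
  | i :: L, h, v => by
    rw [val, Equiv.Perm.mul_apply, val_apply L (fun j hj => h j (List.mem_cons_of_mem _ hj)),
      List.map_cons, appL, (el_spec (h i List.mem_cons_self)).2]

theorem map_ok {L : List Nat} (h : ∀ i ∈ L, i < nodes.length) : ∀ M ∈ L.map matAt, rowsOK M = true := by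
  intro M hM
  obtain ⟨i, hi, rfl⟩ := List.mem_map.1 hM
  exact (el_spec (h i hi)).1

theorem val_eq {L L' : List Nat} (h : ∀ i ∈ L, i < nodes.length) (h' : ∀ i ∈ L', i < nodes.length)
    (e : eqM L L' = true) : val L = val L' :=
  Equiv.ext fun v => Subtype.ext (by
    rw [val_apply L h, val_apply L' h']
    exact eq_of_mulL (map_ok h) (map_ok h') e v.1 v.2)

theorem val_replicate (i : Nat) : ∀ n, val (List.replicate n i) = rho (el i) ^ n
  | 0 => rfl
  | n + 1 => by rw [List.replicate_succ, val, val_replicate i n, pow_succ]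

theorem ord_spec {i p : Nat} (hp : p.Prime) (h : ordOK i p = true) :
    i < nodes.length ∧ orderOf (rho (el i)) = p := by
  have := Fact.mk hp
  simp only [ordOK, Bool.and_eq_true, decide_eq_true_eq, Bool.not_eq_true'] at h
  obtain ⟨⟨hi, h1⟩, h2⟩ := h
  refine ⟨hi, orderOf_eq_prime ?_ fun e => ?_⟩
  · rw [← val_replicate]
    exact val_eq (fun j hj => (List.mem_replicate.1 hj).2 ▸ hi) (by simp) h1
  · rw [← Bool.not_eq_true] at h2
    refine h2 (List.all_eq_true.2 fun j hj => Nat.beq_eq ▸ ?_)
    have hv : 2 ^ j < 2 ^ 112 := Nat.pow_lt_pow_right (by norm_num) (List.mem_range.1 hj)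
    have := congrArg (fun q : Equiv.Perm Vec => (q ⟨_, hv⟩ : Nat)) e
    simpa [(el_spec hi).2] using this

theorem dvd_1331 [Finite J4] : 11 ^ 3 ∣ Nat.card J4 := by
  have : Fact (Nat.Prime 11) := ⟨by norm_num⟩
  have hp : Nat.Prime 11 := by norm_num
  have h := facts
  simp only [Bool.and_eq_true] at h
  obtain ⟨⟨⟨⟨⟨ha, hb⟩, hc⟩, hac⟩, hbc⟩, hab⟩ := h
  obtain ⟨la, oa⟩ := ord_spec hp ha
  obtain ⟨lb, ob⟩ := ord_spec hp hb
  obtain ⟨lc, oc⟩ := ord_spec hp hc
  have e1 := val_eq (by simp [la, lc]) (by simp [la, lc]) hac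
  have e2 := val_eq (by simp [lb, lc]) (by simp [lb, lc]) hbc
  have e3 := val_eq (by simp [la, lb]) (by simp [la, lb, lc]) hab
  simp only [val, one_mul] at e1 e2 e3
  let f := rho.rangeRestrict
  have hrf : ∀ g : J4, ((f g : rho.range) : Equiv.Perm Vec) = rho g := fun g => rfl
  have : Finite rho.range := Finite.of_surjective f rho.rangeRestrict_surjective
  set A := f (el ia) with hA
  set B := f (el ib) with hB
  set C := f (el ic) with hC
  have oA : orderOf A = 11 := by rw [← Subgroup.orderOf_coe]; exact oa
  have oB : orderOf B = 11 := by rw [← Subgroup.orderOf_coe]; exact ob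
  have oC : orderOf C = 11 := by rw [← Subgroup.orderOf_coe]; exact oc
  have cAC : A * C = C * A := Subtype.ext (by simpa [hrf, hA, hC] using e1.symm)
  have cBC : B * C = C * B := Subtype.ext (by simpa [hrf, hB, hC] using e2.symm)
  have eAB : A * B = C * B * A := Subtype.ext (by simpa [hrf, hA, hB, hC, mul_assoc] using e3)
  have pgrp : ∀ x : rho.range, orderOf x = 11 → IsPGroup 11 (Subgroup.zpowers x) := fun x hx =>
    IsPGroup.of_card (n := 1) (by rw [Nat.card_zpowers, hx, pow_one])
  set Z := Subgroup.zpowers B ⊔ Subgroup.zpowers C with hZ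
  have hCN : Subgroup.zpowers B ≤ Subgroup.normalizer (Subgroup.zpowers C : Set rho.range) := by
    refine le_trans ?_ (Subgroup.centralizer_le_normalizer _)
    rw [Subgroup.zpowers_le, Subgroup.mem_centralizer_iff]
    rintro _ ⟨n, rfl⟩
    exact (Commute.zpow_left (show Commute C B from cBC.symm) n).eq
  have hZp : IsPGroup 11 Z := (pgrp B oB).to_sup_of_normal_right' (pgrp C oC) hCN
  have hAN : Subgroup.zpowers A ≤ Subgroup.normalizer (Z : Set rho.range) := by
    rw [Subgroup.zpowers_le]
    have hle : Z.map (MulAut.conj A).toMonoidHom ≤ Z := by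
      rw [hZ, Subgroup.map_sup, MonoidHom.map_zpowers, MonoidHom.map_zpowers]
      refine sup_le ?_ ?_ <;> rw [Subgroup.zpowers_le]
      · rw [show (MulAut.conj A).toMonoidHom B = C * B by simp [eAB]]
        exact mul_mem (Subgroup.mem_sup_right (Subgroup.mem_zpowers C))
          (Subgroup.mem_sup_left (Subgroup.mem_zpowers B))
      · rw [show (MulAut.conj A).toMonoidHom C = C by simp [cAC]]
        exact Subgroup.mem_sup_right (Subgroup.mem_zpowers C)
    have heq := Subgroup.eq_of_le_of_card_ge hle (le_of_eq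
      (Subgroup.card_map_of_injective (f := (MulAut.conj A).toMonoidHom) (MulAut.conj A).injective).symm)
    rw [Subgroup.mem_normalizer_iff]
    intro x
    refine ⟨fun hx => heq ▸ ⟨x, hx, rfl⟩, fun hx => ?_⟩
    obtain ⟨y, hy, e⟩ := heq.symm ▸ hx
    rwa [← (MulAut.conj A).injective e]
  set P := Subgroup.zpowers A ⊔ Z with hP
  have hPp : IsPGroup 11 P := (pgrp A oA).to_sup_of_normal_right' hZp hAN
  obtain ⟨k, hk⟩ := IsPGroup.iff_card.1 hPp
  have hk3 : 3 ≤ k := by
    by_contra hk3
    have hcomm : ∀ x y : P, x * y = y * x := by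
      intro x y
      rcases (by omega : k = 0 ∨ k = 1 ∨ k = 2) with rfl | rfl | rfl
      · have : Subsingleton P := (Nat.card_eq_one_iff_unique.1 (by simpa using hk)).1
        exact Subsingleton.elim _ _
      · have : IsCyclic P := isCyclic_of_prime_card (p := 11) (by simpa using hk)
        exact IsMulCommutative.is_comm.comm x y
      · exact IsPGroup.commutative_of_card_eq_prime_sq hk x y
    have h' := congrArg Subtype.val (hcomm ⟨A, Subgroup.mem_sup_left (Subgroup.mem_zpowers A)⟩
      ⟨B, Subgroup.mem_sup_right (Subgroup.mem_sup_left (Subgroup.mem_zpowers B))⟩)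
    simp only [Subgroup.coe_mul] at h'
    rw [eAB, mul_assoc] at h'
    exact absurd (mul_eq_right.mp h') (fun e => by rw [e, orderOf_one] at oC; norm_num at oC)
  calc 11 ^ 3 ∣ 11 ^ k := pow_dvd_pow 11 hk3
    _ ∣ Nat.card rho.range := hk ▸ Subgroup.card_subgroup_dvd_card P
    _ ∣ Nat.card J4 := Subgroup.card_range_dvd rho

theorem dvd_primes [Finite J4] {p : Nat} (hp : p.Prime) (h : ∃ e ∈ primeIx, e.1 = p) : p ∣ Nat.card J4 := by
  obtain ⟨e, he, rfl⟩ := h
  obtain ⟨-, ho⟩ := ord_spec hp (List.all_eq_true.mp prime_facts e he)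
  rw [← ho]
  exact (orderOf_map_dvd rho (el e.2)).trans (orderOf_dvd_natCard _)

/-- The divisor of the group order. -/
theorem hdiv (S : Setup J4) (hB : Nat.card (base S) = 2048 * 244823040) :
    Finite J4 → 173067389 * (2048 * 244823040) ∣ Nat.card J4 := by
  intro hf
  have hb : 2 ^ 21 * 27 * 5 * 7 * 23 ∣ Nat.card J4 :=
    (by norm_num : 2 ^ 21 * 27 * 5 * 7 * 23 ∣ 2048 * 244823040).trans (hB ▸ Subgroup.card_subgroup_dvd_card _)
  have h := Nat.Coprime.mul_dvd_of_dvd_of_dvd (by norm_num) hb dvd_1331
  have h29 := Nat.Coprime.mul_dvd_of_dvd_of_dvd (by norm_num) h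
    (dvd_primes (p := 29) (by norm_num) (by decide))
  have h31 := Nat.Coprime.mul_dvd_of_dvd_of_dvd (by norm_num) h29
    (dvd_primes (p := 31) (by norm_num) (by decide))
  have h37 := Nat.Coprime.mul_dvd_of_dvd_of_dvd (by norm_num) h31
    (dvd_primes (p := 37) (by norm_num) (by decide))
  have h43 := Nat.Coprime.mul_dvd_of_dvd_of_dvd (by norm_num) h37
    (dvd_primes (p := 43) (by norm_num) (by decide))
  norm_num at h43 ⊢
  exact h43

theorem m_ne_one (S : Setup J4) (hx : S.m J4XLowerPair97.eX = PresentedGroup.mk _ J4.x) :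
    S.m J4XLowerPair97.eX ≠ 1 := fun h => px_ne_one (by rw [← rho_x, ← hx, h, map_one])

/-- Injectivity of the pair map. -/
theorem psiInj (S : Setup J4) (L : J4XCert18.Laws) (hx : S.m J4XLowerPair97.eX = PresentedGroup.mk _ J4.x) :
    J4XCount4.PsiInj S :=
  J4XLowerPair97.psiInj S (m_ne_one S hx) L.inE_vact

/-- The order of the subgroup of shape 2^11 : M24. -/
theorem hB (S : Setup J4) (L : J4XCert18.Laws) (hx : S.m J4XLowerPair97.eX = PresentedGroup.mk _ J4.x)
    (hg : J4XCount4.MGood S) : Nat.card (base S) = 2048 * 244823040 :=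
  J4XLowerPair97.card_base_of_mgood S (m_ne_one S hx) L.inE_vact hg

end Cfsg.Agent.J4XLower97
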