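import Cfsg.Agent.Lib.J4XTop36
import Cfsg.Agent.Lib.J4XDe23
import Cfsg.Agent.Lib.J4XLower97

/-!
The presented fourth Janko group is finite, simple of the expected order, and its subgroup of shape
2^11 : M24 has index 173067389.
-/

set_option autoImplicit false
set_option maxRecDepth 100000

namespace Cfsg.Agent.J4XConcrete18

open Cfsg Cfsg.Agent.J4XBase18

theorem facts : Finite Spor.J4 ∧ J4XGlue18.H.index = 173067389 ∧ Cfsg.IsJ4 Spor.J4 := by
  have hS : J4XDe23.setup.m = J4XPerm10.m := rfl
  have hx : J4XDe23.setup.m J4XLowerPair97.eX = PresentedGroup.mk _ Spor.J4.x := J4XPerm10.m_eX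
  refine J4XTop36.top_of J4XDe23.setup hS J4XSetup23.cube_ee ?_
  exact J4XLower97.hdiv J4XDe23.setup
    (J4XLowerPair97.card_base_of_mgood J4XDe23.setup (J4XLower97.m_ne_one _ hx)
      (fun h h' => J4XLaws10.laws.inE_vact h h') fun P => hS ▸ J4XLaws10.mgood P)

theorem finite_J4 : Finite Spor.J4 := facts.1

end Cfsg.Agent.J4XConcrete18
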