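import Cfsg.Agent.Lib.J4XTrioTable16

/-!
From every point of every suborbit the third generator leads to a listed state: each point either carries
an edge fact or is moved to an earlier point by a fixing fact.
-/

set_option autoImplicit false
set_option maxRecDepth 100000

namespace Cfsg.Agent.J4XCover16

open Cfsg.Agent.GolayBasic Cfsg.Agent.GolayPerm Cfsg.Agent.GolayEnumComp Cfsg.Agent.GolayFast
open Cfsg.Agent.GolayOrbit (tmap tableOk tmap_eq)
open Cfsg.Agent.J4XBase18 Cfsg.Agent.J4XCert18 Cfsg.Agent.J4XTrio16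
open Cfsg.Agent.CosetCertCore (force force_eq)

/-! ### tables of fixing pairs -/

/-- image of a mask by a nibble table, with primitive operations -/
def tmF (T m : ℕ) : ℕ :=
  Nat.lor (Nat.lor (Nat.lor (Nat.lor (Nat.lor
    (Nat.land (Nat.shiftRight T (24 * Nat.land m 15)) 16777215)
    (Nat.land (Nat.shiftRight T (24 * (16 + Nat.land (Nat.shiftRight m 4) 15))) 16777215))
    (Nat.land (Nat.shiftRight T (24 * (32 + Nat.land (Nat.shiftRight m 8) 15))) 16777215))
    (Nat.land (Nat.shiftRight T (24 * (48 + Nat.land (Nat.shiftRight m 12) 15))) 16777215))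
    (Nat.land (Nat.shiftRight T (24 * (64 + Nat.land (Nat.shiftRight m 16) 15))) 16777215))
    (Nat.land (Nat.shiftRight T (24 * (80 + Nat.land (Nat.shiftRight m 20) 15))) 16777215)

theorem tmF_eq (T m : ℕ) : tmF T m = tmap T m := rfl

/-- one entry of a table for words -/
def ventry (V k : ℕ) : ℕ := Nat.land (Nat.shiftRight V (12 * k)) 4095

/-- image of a word by a nibble table -/
def vmap (V c : ℕ) : ℕ :=
  Nat.xor (Nat.xor (ventry V (Nat.land c 15)) (ventry V (16 + Nat.land (Nat.shiftRight c 4) 15)))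
    (ventry V (32 + Nat.land (Nat.shiftRight c 8) 15))

/-- a table is the table of a permutation acting on words -/
def vtabOk (P V : ℕ) : Bool :=
  (List.range 16).all fun d => (List.range 3).all fun j =>
    Nat.beq (ventry V (16 * j + d)) (vactF P (d <<< (4 * j)))

theorem word_split : ∀ c < 4096,
    ((c &&& 15) ^^^ (((c >>> 4) &&& 15) <<< 4)) ^^^ (((c >>> 8) &&& 15) <<< 8) = c := by
  decide +kernel

theorem vmap_eq {P V c : ℕ} (hP : valid P = true) (h : vtabOk P V = true) (hc : c < 4096) :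
    vmap V c = vact P c := by
  simp only [vtabOk, List.all_eq_true, List.mem_range, Nat.beq_eq, vactF_eq] at h
  have e : ∀ w j, j < 3 → ventry V (16 * j + (w &&& 15)) = vact P ((w &&& 15) <<< (4 * j)) :=
    fun w j hj => h _ (lt_of_le_of_lt Nat.and_le_right (by norm_num)) j hj
  conv_rhs => rw [← word_split c hc]
  rw [linear_vact hP, linear_vact hP]
  have e0 := e c 0 (by norm_num)
  have e1 := e (c >>> 4) 1 (by norm_num)
  have e2 := e (c >>> 8) 2 (by norm_num)
  simp only [Nat.mul_zero, Nat.zero_add, Nat.shiftLeft_zero, Nat.mul_one] at e0 e1 e2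
  rw [← e0, ← e1, ← e2]
  rfl

/-- A fixing fact with tables: fact number, word, mask table, word table. -/
abbrev Gen : Type := ℕ × ℕ × ℕ × ℕ

/-- The tables agree with the fact. -/
def genOk (T : ℕ → Fact) (i : ℕ) (g : Gen) : Bool :=
  let f := T g.1
  !f.edge && Nat.beq f.a.1 i && eqSt f.b (i, one) && Nat.beq g.2.1 f.a.2.1 &&
    tableOk f.a.2.2 g.2.2.1 && vtabOk f.a.2.2 g.2.2.2

/-! ### the run -/

/-- A point with a root fact. -/
noncomputable def rootOk (D : ℕ → ℕ) (T : ℕ → Fact) (i p q : ℕ) : Bool :=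
  let f := T q
  f.edge && Nat.beq f.a.1 i && Nat.blt f.b.1 7 &&
    crit (D (Nat.shiftRight p 2)) (Nat.land p 3) f.a.2.1 (pmaskF f.a.2.2 t0a pts)
      (pmaskF f.a.2.2 t0b pts) (pmaskF f.a.2.2 t0c pts)

/-- The core test of a moved point. -/
noncomputable def moveCore (dp dq jp jq kv PT VT : ℕ) : Bool :=
  crit dp jp (Nat.xor kv (vmap VT (cls dq jq))) (tmF PT (oct0 dq)) (tmF PT (oct1 dq))
    (tmF PT (oct2 dq))

/-- A point moved to an earlier one. -/
noncomputable def moveOk (D : ℕ → ℕ) (K : List Gen) (M p q g : ℕ) : Bool :=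
  Nat.blt q 15180 && Nat.beq (Nat.land (Nat.shiftRight M q) 1) 1 && Nat.blt g K.length &&
    (let k := K.getD g (0, 0, 0, 0)
     force (D (Nat.shiftRight p 2)) fun dp => force (D (Nat.shiftRight q 2)) fun dq =>
      moveCore dp dq (Nat.land p 3) (Nat.land q 3) k.2.1 k.2.2.1 k.2.2.2)

/-- One entry: the point, 255 or the number of a fixing fact, and the fact or earlier point. -/
noncomputable def entryOk (D : ℕ → ℕ) (T : ℕ → Fact) (K : List Gen) (i M e : ℕ) : Bool :=
  force (Nat.land e 16383) fun p => force (Nat.land (Nat.shiftRight e 14) 255) fun g =>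
  force (Nat.shiftRight e 22) fun q =>
    Nat.blt p 15180 && cond (Nat.beq g 255) (rootOk D T i p q) (moveOk D K M p q g)

/-- Follow a list of entries from one set of finished points to another. -/
noncomputable def runOk (D : ℕ → ℕ) (T : ℕ → Fact) (K : List Gen) (i : ℕ) (l : List ℕ) (M M' : ℕ) : Bool :=
  List.rec (motive := fun _ => ℕ → Bool) (fun M => Nat.beq M M')
    (fun e _ ih M => entryOk D T K i M e &&
      force (Nat.lor M (Nat.shiftLeft 1 (Nat.land e 16383))) ih) l M

theorem runOk_cons (D : ℕ → ℕ) (T : ℕ → Fact) (K : List Gen) (i e : ℕ) (l : List ℕ) (M M' : ℕ) :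
    runOk D T K i (e :: l) M M' =
      (entryOk D T K i M e && runOk D T K i l (M ||| 1 <<< (e &&& 16383)) M') := by
  simp only [runOk, force_eq]
  rfl

/-! ### soundness -/

variable {G : Type*} [Group G] (S : Setup G)

/-- The step from an element leads to a listed state. -/
def EdgeAt (r : ℕ → G) (i : ℕ) (g : G) : Prop :=
  ∃ b : St, b.1 < 7 ∧ okH b.2 = true ∧ Cong S (r i * g * S.t) (val S r b)

theorem horner_lt : ∀ (l : List ℕ), (∀ a ∈ l, a < 32) → horner l < 32 ^ l.length
  | [], _ => by simp [horner]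
  | a :: l, h => by
    have h1 := horner_lt l fun b hb => h b (List.mem_cons_of_mem _ hb)
    have h2 := h a List.mem_cons_self
    rw [horner, List.length_cons, pow_succ]
    omega

/-- The values of pairs are closed under inverses. -/
theorem exists_inv (L : Laws) {h : ℕ × ℕ} (hh : okH h = true) :
    ∃ k, okH k = true ∧ psi S k = (psi S h)⁻¹ := by
  have hfin : Finite {g : G // ∃ k, okH k = true ∧ psi S k = g} := by
    have hid : good idP = true := by decide +kernel
    let f : Fin 4096 × Fin (32 ^ 24) → G := fun x => psi S (x.1.1, x.2.1)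
    refine Set.finite_coe_iff.2 ((Set.finite_range f).subset ?_)
    rintro g ⟨k, hk, rfl⟩
    simp only [okH, Bool.and_eq_true] at hk
    have hlt : pcomp idP k.2 < 32 ^ 24 := by
      have h := horner_lt (pts.map fun i => pimg idP (pimg k.2 i)) fun a ha => by
        obtain ⟨i, -, rfl⟩ := List.mem_map.1 ha
        exact pimg_lt_32 _ _
      rwa [List.length_map] at h
    have hv : k.1 < 4096 := by
      have h := hk.1
      simp only [inE, Bool.and_eq_true, decide_eq_true_eq] at h; exact h.1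
    refine ⟨(⟨k.1, hv⟩, ⟨_, hlt⟩), ?_⟩
    simp only [f, psi]
    rw [S.m_mul hid hk.2, m_idP, one_mul]
  let F : {g : G // ∃ k, okH k = true ∧ psi S k = g} → {g : G // ∃ k, okH k = true ∧ psi S k = g} :=
    fun g => ⟨psi S h * g.1, by
      obtain ⟨g, k, hk, rfl⟩ := g
      exact ⟨hmul h k, okH_hmul L hh hk, psi_hmul S L hh hk⟩⟩
  have hinj : Function.Injective F := fun a b e => Subtype.ext (mul_left_cancel (congrArg Subtype.val e))
  obtain ⟨⟨g, k, hk, rfl⟩, hg⟩ := (Finite.injective_iff_surjective.1 hinj) ⟨1, one, okH_one, psi_one S⟩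
  exact ⟨k, hk, eq_inv_of_mul_eq_one_right (congrArg Subtype.val hg)⟩

variable {S}

theorem EdgeAt.mul_right {r : ℕ → G} {i : ℕ} {g d d' : G} (L : Laws) (hg : EdgeAt S r i g)
    (hd : d * S.t = S.t * d') (hd' : ∃ k, okH k = true ∧ psi S k = d') : EdgeAt S r i (g * d) := by
  obtain ⟨b, h7, hb, hc⟩ := hg
  obtain ⟨k, hk, rfl⟩ := hd'
  refine ⟨(b.1, hmul b.2 k), h7, okH_hmul L hb hk, ?_⟩
  have := hc.mul (psi S k)
  rw [show b = (b.1, b.2) from rfl, val_mul_psi L r _ hb hk] at this
  rwa [show r i * (g * d) * S.t = r i * g * S.t * psi S k by simp only [mul_assoc, hd]]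

theorem EdgeAt.left {r : ℕ → G} {i : ℕ} {g k : G} (hg : EdgeAt S r i g)
    (hk : Cong S (r i * k) (r i)) : EdgeAt S r i (k * g) := by
  obtain ⟨b, h7, hb, hc⟩ := hg
  refine ⟨b, h7, hb, Cong.trans ?_ hc⟩
  have := hk.mul (g * S.t)
  simpa [mul_assoc] using this

/-- The points marked in a mask lead to listed states. -/
def Inv (S : Setup G) (D : ℕ → ℕ) (r : ℕ → G) (i M : ℕ) : Prop :=
  ∀ p < 15180, M.testBit p = true → ∀ x : ℕ × ℕ, okH x = true →
    Crit (D (p >>> 2)) (p &&& 3) x → EdgeAt S r i (psi S x)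

theorem inv_zero (D : ℕ → ℕ) (r : ℕ → G) (i : ℕ) : Inv S D r i 0 := fun p _ h => by simp at h

theorem spread (L : Laws) {r : ℕ → G} {i d j : ℕ} (T : TrioOk d) {x0 x : ℕ × ℕ} (h0 : okH x0 = true)
    (c0 : Crit d j x0) (hx : okH x = true) (cx : Crit d j x) (he : EdgeAt S r i (psi S x0)) :
    EdgeAt S r i (psi S x) := by
  obtain ⟨q, -, -, -, -, hq⟩ := exists_rep S L T j
  obtain ⟨C0, P0, g0, f0, e0⟩ := hq x0 h0 c0
  obtain ⟨C, P, g, f, e⟩ := hq x hx cx
  obtain ⟨-, okR0, d0⟩ := d_sound S L g0 f0 (c := C0)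
  obtain ⟨-, okR, d1⟩ := d_sound S L g f (c := C)
  have hq' : EdgeAt S r i (psi S q) := by
    have := he.mul_right L (d := (psi S (dLeft C0 P0))⁻¹) (d' := (psi S (dRight C0 P0))⁻¹) (by
      rw [inv_mul_eq_iff_eq_mul, ← mul_assoc, d0, mul_assoc, mul_inv_cancel, mul_one]) (exists_inv S L okR0)
    rwa [e0, mul_assoc, mul_inv_cancel, mul_one] at this
  rw [e]
  exact hq'.mul_right L d1 ⟨_, okR, rfl⟩

theorem entry_sound (L : Laws) {D : ℕ → ℕ} (hD : ∀ T < 3795, TrioOk (D T)) {r : ℕ → G} {T : ℕ → Fact}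
    (hT : ∀ k, (T k).Holds S r) {K : List Gen} {i : ℕ} (hK : K.all (genOk T i) = true) {M e : ℕ}
    (hM : Inv S D r i M) (h : entryOk D T K i M e = true) :
    Inv S D r i (M ||| 1 <<< (e &&& 16383)) := by
  intro p hp hbit x hx hc
  rw [Nat.testBit_or, Bool.or_eq_true] at hbit
  rcases hbit with hbit | hbit
  · exact hM p hp hbit x hx hc
  obtain rfl : e &&& 16383 = p := by
    rw [Nat.one_shiftLeft, Nat.testBit_two_pow] at hbit; simpa using hbit
  simp only [entryOk, force_eq, Bool.and_eq_true] at h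
  obtain ⟨-, h⟩ := h
  have hTp : (e &&& 16383) >>> 2 < 3795 := by rw [Nat.shiftRight_eq_div_pow]; omega
  change cond _ _ (moveOk D K M (e &&& 16383) _ _) = true at h
  cases hg : Nat.beq (Nat.land (Nat.shiftRight e 14) 255) 255 <;> rw [hg] at h
  · simp only [cond_false, moveOk, force_eq, Bool.and_eq_true, Nat.blt_eq, Nat.beq_eq] at h
    obtain ⟨⟨⟨hq, hMq⟩, hlen⟩, hcore⟩ := h
    generalize Nat.shiftRight e 22 = q at hq hMq hcore
    generalize Nat.land (Nat.shiftRight e 14) 255 = g at hlen hcore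
    have hMq' : M.testBit q = true := by
      have h1 : (M >>> q) &&& 1 = 1 := hMq
      rw [shiftRight_and_one] at h1
      cases hb : M.testBit q
      · rw [hb] at h1; exact absurd h1 (by decide)
      · rfl
    rw [List.getD_eq_getElem _ _ hlen] at hcore
    have hk := List.all_eq_true.1 hK _ (List.getElem_mem hlen)
    generalize K[g] = k at hk hcore
    simp only [genOk, Bool.and_eq_true, Bool.not_eq_true', Nat.blt_eq, Nat.beq_eq, eqSt_iff] at hk
    obtain ⟨⟨⟨⟨⟨he, hi⟩, hb⟩, hkv⟩, hPT⟩, hVT⟩ := hk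
    obtain ⟨o1, -, c1⟩ := hT k.1
    generalize T k.1 = f at he hi hb hkv hPT hVT o1 c1
    have hTq : q >>> 2 < 3795 := by rw [Nat.shiftRight_eq_div_pow]; omega
    obtain ⟨hq0, okq, cq, hv, ⟨u0, u1, u2⟩, -⟩ := exists_rep S L (hD _ hTq) (q &&& 3)
    have hedge := hM q hq hMq' hq0 okq cq
    have ok1 : okH f.a.2 = true := o1
    simp only [okH, Bool.and_eq_true] at ok1 okq
    have hv1 := valid_of_good ok1.2
    have hvq := valid_of_good okq.2
    have okm : okH (hmul f.a.2 hq0) = true :=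
      okH_hmul L o1 (by simp only [okH, Bool.and_eq_true]; exact okq)
    refine spread L (hD _ hTp) okm ?_ hx hc ?_
    · have hvm := valid_of_good (L.good_mul ok1.2 okq.2)
      have hc4 : cls (D (q >>> 2)) (q &&& 3) < 4096 := by
        have h := cls_inE L (hD _ hTq) (q &&& 3)
        simp only [inE, Bool.and_eq_true, decide_eq_true_eq] at h; exact h.1
      have hlt : ∀ y, y &&& 16777215 < 2 ^ 24 := fun y => lt_of_le_of_lt Nat.and_le_right (by norm_num)
      simp only [moveCore, tmF_eq] at hcore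
      show crit _ _ (hmul f.a.2 hq0).1 (pmask (pcomp f.a.2.2 hq0.2) t0a)
        (pmask (pcomp f.a.2.2 hq0.2) t0b) (pmask (pcomp f.a.2.2 hq0.2) t0c) = true
      rw [pmask_pcomp hv1 hvq hvm, pmask_pcomp hv1 hvq hvm, pmask_pcomp hv1 hvq hvm, u0, u1, u2,
        ← tmap_eq hPT (show oct0 (D (q >>> 2)) < 2 ^ 24 from hlt _),
        ← tmap_eq hPT (show oct1 (D (q >>> 2)) < 2 ^ 24 from hlt _),
        ← tmap_eq hPT (show oct2 (D (q >>> 2)) < 2 ^ 24 from hlt _)]
      simp only [hmul, hv]
      rw [← vmap_eq hv1 hVT hc4, ← hkv]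
      exact hcore
    · rw [psi_hmul S L o1 (by simp only [okH, Bool.and_eq_true]; exact okq)]
      refine hedge.left ?_
      simp only [he, cond_false, hb] at c1
      simpa [val, hi, psi_one] using c1
  · simp only [cond_true, rootOk, Bool.and_eq_true, Nat.blt_eq, Nat.beq_eq, pmaskF_eq] at h
    obtain ⟨⟨⟨he, hi⟩, h7⟩, hcr⟩ := h
    generalize Nat.shiftRight e 22 = q at he hi h7 hcr
    obtain ⟨o1, o2, c1⟩ := hT q
    simp only [he, cond_true] at c1
    refine spread L (hD _ hTp) o1 hcr hx hc ⟨(T q).b, h7, o2, ?_⟩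
    simpa [val, hi] using c1

theorem runOk_sound (L : Laws) {D : ℕ → ℕ} (hD : ∀ T < 3795, TrioOk (D T)) {r : ℕ → G} {T : ℕ → Fact}
    (hT : ∀ k, (T k).Holds S r) {K : List Gen} {i : ℕ} (hK : K.all (genOk T i) = true) :
    ∀ {l : List ℕ} {M M' : ℕ}, runOk D T K i l M M' = true → Inv S D r i M → Inv S D r i M'
  | [], M, M', h, hM => by
    have : M = M' := by simpa [runOk] using h
    exact this ▸ hM
  | e :: l, M, M', h, hM => by
    rw [runOk_cons, Bool.and_eq_true] at h
    exact runOk_sound L hD hT hK h.2 (entry_sound L hD hT hK hM h.1)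

/-- All points done: the third generator leads from every state of the suborbit to a listed state. -/
theorem edge_everywhere {D : ℕ → ℕ} (hD : ∀ T < 3795, TrioOk (D T)) {octs : List ℕ}
    {idx : List (List ℕ)} (hcover : coverChk D octs idx = true) {r : ℕ → G} {i : ℕ}
    (hI : Inv S D r i (2 ^ 15180 - 1)) (h : ℕ × ℕ) (hh : okH h = true) :
    ∃ j < 7, ∃ h', okH h' = true ∧ Cong S (val S r (i, h) * S.t) (val S r (j, h')) := by
  have hh' := hh
  simp only [okH, Bool.and_eq_true] at hh'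
  obtain ⟨T, hT, h0, h1, h2⟩ := exists_trio hcover hh'.2
  obtain ⟨j, hj, hcr⟩ := exists_class (hD T hT) (v := h.1) h0 h1 h2
  have e1 : (4 * T + j) >>> 2 = T := by rw [Nat.shiftRight_eq_div_pow]; omega
  have e2 : (4 * T + j) &&& 3 = j := by
    rw [show (3 : ℕ) = 2 ^ 2 - 1 by norm_num, Nat.and_two_pow_sub_one_eq_mod]; omega
  have := hI (4 * T + j) (by omega) (by rw [Nat.testBit_two_pow_sub_one]; simp; omega) h hh
    (by rw [e1, e2]; exact hcr)
  obtain ⟨b, h7, hb, hc⟩ := this
  exact ⟨b.1, h7, b.2, hb, hc⟩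

end Cfsg.Agent.J4XCover16
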