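import Cfsg.Agent.Lib.J4XElemData23
import Cfsg.Agent.Lib.J4M24Iso13
import Mathlib.GroupTheory.OrderOfElement

/-!
The elementary abelian subgroup of order 2^11 of the presented fourth Janko group, derived from one
involution for each sextet and the relations of the lines on a trio.
-/

set_option autoImplicit false
set_option maxRecDepth 100000

namespace Cfsg.Agent.J4XElem23

open Cfsg.Agent.GolayBasic Cfsg.Agent.GolayPerm Cfsg.Agent.GolayEnumComp Cfsg.Agent.J4XBase18
open Cfsg.Agent.J4XElemData23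
open Cfsg.Agent.J4M24Iso13 (eX eY gg)

/-! ### generation of the valid codes -/

theorem gg_closure : Subgroup.closure {gg 0, gg 1} = (⊤ : Subgroup Cfsg.M24) := by
  rw [← MonoidHom.range_eq_top.2 J4M24Iso13.sigma_surjective, MonoidHom.range_eq_map,
    ← J4M24Iso13.ps_gen, MonoidHom.map_closure, Set.image_pair]
  have h0 := J4M24Iso13.sigma_wv (w := [0]) (by decide)
  have h1 := J4M24Iso13.sigma_wv (w := [2]) (by decide)
  simp only [J4PresGen13.wv, J4PresGen13.lv, mul_one] at h0 h1
  norm_num at h0 h1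
  rw [h0, h1]

/-- Codes of equal permutations have the same normal form. -/
theorem pcomp_idP_congr {P Q : ℕ} (hP : valid P = true) (hQ : valid Q = true) (h : permOf P = permOf Q) :
    pcomp P idP = pcomp Q idP := by
  refine congrArg horner (List.map_congr_left fun i hi => ?_)
  rw [pimg_idP (mem_pts.1 hi)]
  have e := DFunLike.congr_fun h (pt i)
  rw [permOf_apply hP, permOf_apply hQ, pfun, pfun, idx_pt (mem_pts.1 hi)] at e
  have := congrArg idx e
  rwa [idx_pt (pimg_lt hP (mem_pts.1 hi)), idx_pt (pimg_lt hQ (mem_pts.1 hi))] at this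

/-- Induction on valid codes. -/
theorem good_induction (good_mul : ∀ {P Q : ℕ}, good P = true → good Q = true → good (pcomp P Q) = true)
    {p : ℕ → Prop} (h1 : p idP) (hx : p eX) (hy : p eY)
    (hmul : ∀ {P R : ℕ}, good P = true → good R = true → p P → p R → p (pcomp P R)) :
    ∀ P, good P = true → ∃ R, good R = true ∧ pcomp R idP = pcomp P idP ∧ p R := by
  intro P hP
  have hmem : (⟨permOf P, permOf_mem_M24 hP⟩ : Cfsg.M24) ∈ Submonoid.closure {gg 0, gg 1} := by
    rw [← Subgroup.closure_toSubmonoid_of_finite, gg_closure]; exact Subgroup.mem_top _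
  have hg := J4M24Iso13.good_gens
  simp only [Bool.and_eq_true] at hg
  have key : ∀ σ ∈ Submonoid.closure {gg 0, gg 1}, ∃ R, good R = true ∧ permOf R = (σ : Equiv.Perm GolayPt) ∧ p R := by
    intro σ hσ
    induction hσ using Submonoid.closure_induction with
    | mem x hx' =>
      rcases hx' with rfl | rfl
      · exact ⟨eX, hg.1.1.1.1, by rw [gg, if_pos rfl], hx⟩
      · exact ⟨eY, hg.1.1.1.2, by rw [gg, if_neg Nat.one_ne_zero], hy⟩
    | one => exact ⟨idP, by decide +kernel, permOf_idP, h1⟩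
    | mul a b _ _ ha hb =>
      obtain ⟨A, hA, eA, pA⟩ := ha
      obtain ⟨Bc, hB, eB, pB⟩ := hb
      refine ⟨pcomp A Bc, good_mul hA hB, ?_, hmul hA hB pA pB⟩
      rw [permOf_pcomp (valid_of_good hA) (valid_of_good hB) (valid_of_good (good_mul hA hB)) rfl, eA, eB]
      rfl
  obtain ⟨R, hR, eR, pR⟩ := key _ hmem
  exact ⟨R, hR, pcomp_idP_congr (valid_of_good hR) (valid_of_good hP) eR, pR⟩

/-! ### hypotheses -/

/-- The arithmetic of the action on classes. -/
structure VLaws : Prop where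
  good_mul : ∀ {P Q : ℕ}, good P = true → good Q = true → good (pcomp P Q) = true
  inE_xor : ∀ {a b : ℕ}, inE a = true → inE b = true → inE (a ^^^ b) = true
  inE_vact : ∀ {P v : ℕ}, good P = true → inE v = true → inE (vact P v) = true
  vact_xor : ∀ {P a b : ℕ}, good P = true → inE a = true → inE b = true →
    vact P (a ^^^ b) = vact P a ^^^ vact P b
  vact_pcomp : ∀ {P Q v : ℕ}, good P = true → good Q = true → inE v = true →
    vact (pcomp P Q) v = vact P (vact Q v)
  vact_idP : ∀ {v : ℕ}, inE v = true → vact idP v = v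

/-- What is used about the involutions of the sextets. -/
structure Hyp (G : Type*) [Group G] where
  /-- the permutation part -/
  m : ℕ → G
  /-- the involution of a sextet -/
  s : ℕ → G
  m_mul : ∀ {P Q : ℕ}, good P = true → good Q = true → m (pcomp P Q) = m P * m Q
  act : ∀ {P Q : ℕ}, good P = true → good Q = true →
    m P * s (vact Q 490) = s (vact P (vact Q 490)) * m P
  line : ∀ t ∈ T42, s (L0.getD t.1 0) * s (L0.getD t.2.1 0) = s (L0.getD t.2.2 0)

/-! ### products over bits -/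

variable {G : Type*} [Group G]

/-- The product of `b k` over the set bits `k < n`. -/
def ev (b : ℕ → G) : ℕ → ℕ → G
  | 0, _ => 1
  | n + 1, c => ev b n c * bif c.testBit n then b n else 1

theorem commute_ev {b : ℕ → G} {x : G} : ∀ {n : ℕ}, (∀ k < n, Commute x (b k)) → ∀ c, Commute x (ev b n c)
  | 0, _, _ => Commute.one_right _
  | n + 1, h, c => by
    refine (commute_ev (fun k hk => h k (Nat.lt_succ_of_lt hk)) c).mul_right ?_
    cases c.testBit n
    · exact Commute.one_right _
    · exact h n (Nat.lt_succ_self n)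

theorem ev_xor {b : ℕ → G} : ∀ {n : ℕ}, (∀ k < n, b k * b k = 1) →
    (∀ j < n, ∀ k < n, Commute (b j) (b k)) → ∀ c d, ev b n (c ^^^ d) = ev b n c * ev b n d
  | 0, _, _, _, _ => (one_mul 1).symm
  | n + 1, hsq, hc, c, d => by
    have ih := ev_xor (fun k hk => hsq k (Nat.lt_succ_of_lt hk))
      (fun j hj k hk => hc j (Nat.lt_succ_of_lt hj) k (Nat.lt_succ_of_lt hk)) c d
    have hcm : Commute (b n) (ev b n d) :=
      commute_ev (fun k hk => hc n (Nat.lt_succ_self n) k (Nat.lt_succ_of_lt hk)) d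
    simp only [ev, Nat.testBit_xor]
    rw [ih]
    cases c.testBit n <;> cases d.testBit n <;> simp only [bne_self_eq_false, Bool.false_bne,
      Bool.true_bne, Bool.not_false, cond_true, cond_false, mul_one, mul_assoc]
    · rw [hcm.eq]
    · rw [← mul_assoc (b n), hcm.eq, mul_assoc, hsq n (Nat.lt_succ_self n), mul_one]

theorem ev_pow {b : ℕ → G} {k : ℕ} : ∀ {n : ℕ}, ev b n (2 ^ k) = if k < n then b k else 1
  | 0 => rfl
  | n + 1 => by
    rw [ev, ev_pow, Nat.testBit_two_pow]
    rcases Nat.lt_trichotomy k n with h | h | h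
    · simp [h, Nat.lt_succ_of_lt h, ne_of_lt h]
    · subst h; simp
    · simp [not_lt.2 h.le, (Nat.not_lt.2 (by omega : n + 1 ≤ k)), ne_of_gt h]

/-- The exclusive or of `b k` over the set bits `k < n`. -/
def xv (b : ℕ → ℕ) : ℕ → ℕ → ℕ
  | 0, _ => 0
  | n + 1, c => xv b n c ^^^ bif c.testBit n then b n else 0

theorem xv_xor {b : ℕ → ℕ} : ∀ (n c d : ℕ), xv b n (c ^^^ d) = xv b n c ^^^ xv b n d
  | 0, _, _ => (Nat.xor_self 0).symm
  | n + 1, c, d => by
    simp only [xv, Nat.testBit_xor, xv_xor n c d]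
    cases c.testBit n <;> cases d.testBit n <;>
      simp [Nat.xor_assoc, Nat.xor_comm, Nat.xor_left_comm]

/-- The coordinates of an even vector in the basis. -/
def coord (v : ℕ) : ℕ := xv (fun k => M.getD k 0) 11 (v / 2)

theorem coord_xor (a b : ℕ) : coord (a ^^^ b) = coord a ^^^ coord b := by
  unfold coord
  rw [show (a ^^^ b) / 2 = (a / 2) ^^^ (b / 2) from Nat.xor_div_two ..]
  exact xv_xor 11 _ _

/-- The vector with given coordinates. -/
def vecB (c : ℕ) : ℕ := xv (fun k => B.getD k 0) 11 c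

/-! ### lines -/

/-- A line of the orbit: a valid code and a line of the first trio. -/
def lineOK (l : ℕ × ℕ × ℕ × ℕ) : Bool := good l.1 && T42.contains (l.2.1, l.2.2.1, l.2.2.2)

/-- The three sextets of a line. -/
def lv (l : ℕ × ℕ × ℕ × ℕ) : ℕ × ℕ × ℕ :=
  (vact l.1 (L0.getD l.2.1 0), vact l.1 (L0.getD l.2.2.1 0), vact l.1 (L0.getD l.2.2.2 0))

/-- A sextet of the orbit. -/
def IsSV (v : ℕ) : Prop := ∃ Q, good Q = true ∧ v = vact Q 490

theorem t42_lt : ∀ t ∈ T42, t.1 < 7 ∧ t.2.1 < 7 ∧ t.2.2 < 7 ∧ (t.2.1, t.1, t.2.2) ∈ T42 ∧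
    (t.2.2, t.2.1, t.1) ∈ T42 := by decide +kernel

theorem Q7_ok : ∀ i < 7, good (Q7.getD i 0) = true ∧ vact (Q7.getD i 0) 490 = L0.getD i 0 := by
  decide +kernel

theorem inE_490 : inE 490 = true := by decide +kernel

theorem isSV_L0 {i : ℕ} (hi : i < 7) : IsSV (L0.getD i 0) :=
  ⟨Q7.getD i 0, (Q7_ok i hi).1, (Q7_ok i hi).2.symm⟩

theorem IsSV.inE (V : VLaws) {v : ℕ} (h : IsSV v) : inE v = true := by
  obtain ⟨Q, hQ, rfl⟩ := h
  exact V.inE_vact hQ inE_490

theorem IsSV.vact (V : VLaws) {P v : ℕ} (hP : good P = true) (h : IsSV v) : IsSV (vact P v) := by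
  obtain ⟨Q, hQ, rfl⟩ := h
  exact ⟨pcomp P Q, V.good_mul hP hQ, (V.vact_pcomp hP hQ inE_490).symm⟩

namespace Hyp

variable (H : Hyp G) (V : VLaws)

theorem act' {P v : ℕ} (hP : good P = true) (h : IsSV v) : H.m P * H.s v = H.s (vact P v) * H.m P := by
  obtain ⟨Q, hQ, rfl⟩ := h
  exact H.act hP hQ

theorem conj {P v : ℕ} (hP : good P = true) (h : IsSV v) :
    H.s (vact P v) = MulAut.conj (H.m P) (H.s v) := by
  rw [MulAut.conj_apply, H.act' hP h, mul_inv_cancel_right]

theorem line_mul {l : ℕ × ℕ × ℕ × ℕ} (h : lineOK l = true) :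
    H.s (lv l).1 * H.s (lv l).2.1 = H.s (lv l).2.2 := by
  simp only [lineOK, Bool.and_eq_true, List.contains_iff_mem] at h
  obtain ⟨h1, h2, h3, -, -⟩ := t42_lt _ h.2
  simp only [lv]
  rw [H.conj h.1 (isSV_L0 h1), H.conj h.1 (isSV_L0 h2), H.conj h.1 (isSV_L0 h3), ← map_mul,
    H.line _ h.2]

theorem line_comm {l : ℕ × ℕ × ℕ × ℕ} (h : lineOK l = true) :
    Commute (H.s (lv l).1) (H.s (lv l).2.1) := by
  have h' : lineOK (l.1, l.2.2.1, l.2.1, l.2.2.2) = true := by
    simp only [lineOK, Bool.and_eq_true, List.contains_iff_mem] at h ⊢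
    exact ⟨h.1, (t42_lt _ h.2).2.2.2.1⟩
  have r := H.line_mul h'
  have r0 := H.line_mul h
  simp only [lv] at r r0 ⊢
  unfold Commute SemiconjBy
  rw [r0, r]

include V in
theorem line_isSV {l : ℕ × ℕ × ℕ × ℕ} (h : lineOK l = true) :
    IsSV (lv l).1 ∧ IsSV (lv l).2.1 ∧ IsSV (lv l).2.2 := by
  simp only [lineOK, Bool.and_eq_true, List.contains_iff_mem] at h
  obtain ⟨h1, h2, h3, -, -⟩ := t42_lt _ h.2
  exact ⟨(isSV_L0 h1).vact V h.1, (isSV_L0 h2).vact V h.1, (isSV_L0 h3).vact V h.1⟩

theorem sq_base : H.s 490 * H.s 490 = 1 := by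
  have h1 := H.line (1, 0, 5) (by decide +kernel)
  have h2 := H.line (5, 0, 1) (by decide +kernel)
  simp only [show L0.getD 0 0 = 490 by rfl] at h1 h2
  rw [← h1, mul_assoc] at h2
  exact mul_left_cancel (h2.trans (mul_one _).symm)

theorem sq {v : ℕ} (h : IsSV v) : H.s v * H.s v = 1 := by
  obtain ⟨Q, hQ, rfl⟩ := h
  rw [H.conj hQ ⟨idP, by decide +kernel, by decide +kernel⟩, ← map_mul, H.sq_base, map_one]

/-- Check of the six lines showing that two sextet involutions commute. -/
def _root_.Cfsg.Agent.J4XElem23.sixOK (L : List (ℕ × ℕ × ℕ × ℕ)) (p q : ℕ) : Bool :=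
  match L with
  | [l1, l2, l3, l4, l5, l6] =>
    L.all lineOK &&
      decide ((lv l1).2.1 = q ∧ (lv l2).1 = p ∧ (lv l3).1 = (lv l1).1 ∧ (lv l3).2.1 = p ∧
        (lv l4).1 = (lv l2).2.1 ∧ (lv l4).2.1 = q ∧ (lv l5).1 = (lv l1).2.2 ∧
        (lv l5).2.1 = (lv l2).2.2 ∧ (lv l6).1 = (lv l3).2.2 ∧ (lv l6).2.1 = (lv l4).2.2 ∧
        (lv l6).2.2 = (lv l5).2.2)
  | _ => false

theorem six_comm {L : List (ℕ × ℕ × ℕ × ℕ)} {p q : ℕ} (h : sixOK L p q = true) :
    Commute (H.s p) (H.s q) := by
  unfold sixOK at h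
  split at h
  case h_2 => exact absurd h Bool.false_ne_true
  next l1 l2 l3 l4 l5 l6 =>
  simp only [List.all_cons, List.all_nil, Bool.and_true, Bool.and_eq_true, decide_eq_true_eq] at h
  obtain ⟨⟨h1, h2, h3, h4, h5, h6⟩, e1, e2, e3, e3', e4, e4', e5, e5', e6, e6', e7⟩ := h
  have c4 := H.line_comm h4
  have r1 := H.line_mul h1
  have r2 := H.line_mul h2
  have r3 := H.line_mul h3
  have r4 := H.line_mul h4
  have r5 := H.line_mul h5
  have r6 := H.line_mul h6
  rw [e1] at r1
  rw [e2] at r2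
  rw [e3, e3'] at r3
  rw [e4, e4'] at r4 c4
  rw [e5, e5', ← r1, ← r2] at r5
  rw [e6, e6', e7, ← r3, ← r4, ← r5] at r6
  simp only [mul_assoc] at r6
  have r7 := mul_left_cancel r6
  rw [c4.eq, ← mul_assoc, ← mul_assoc (H.s q) (H.s p)] at r7
  exact mul_right_cancel r7

/-! ### the third type of pair -/

include V in
theorem comm_1440 : Commute (H.s 105) (H.s 3269) := by
  have ok : ∀ l ∈ rl, lineOK l = true := by decide +kernel
  have hv : rl.map lv = [(51, 90, 105), (111, 150, 249), (1666, 2782, 3164), (153, 3164, 3269),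
      (105, 150, 255), (105, 2782, 2743), (1050, 150, 1164), (150, 1146, 1260), (153, 1045, 1164),
      (1045, 249, 1260)] := by decide +kernel
  have key : ∀ t ∈ rl.map lv, H.s t.1 * H.s t.2.1 = H.s t.2.2 ∧ Commute (H.s t.1) (H.s t.2.1) ∧
      H.s t.1 * H.s t.1 = 1 ∧ H.s t.2.1 * H.s t.2.1 = 1 := by
    intro t ht
    obtain ⟨l, hl, rfl⟩ := List.mem_map.1 ht
    exact ⟨H.line_mul (ok l hl), H.line_comm (ok l hl), H.sq (line_isSV V (ok l hl)).1,
      H.sq (line_isSV V (ok l hl)).2.1⟩
  rw [hv] at key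
  simp only [List.mem_cons, List.not_mem_nil, or_false, forall_eq_or_imp, forall_eq] at key
  obtain ⟨l0, l1, l2, l3, l4, l5, l6, l7, l8, l9⟩ := key
  have hd1 : H.s 1164 * H.s 1260 = H.s 1050 * H.s 1146 := by
    rw [← l6.1, ← l7.1, mul_assoc, ← mul_assoc (H.s 150), l7.2.2.1, one_mul]
  have hd2 : H.s 1164 * H.s 1260 = H.s 153 * H.s 249 := by
    rw [← l8.1, ← l9.1, mul_assoc, ← mul_assoc (H.s 1045), l9.2.2.1, one_mul]
  have c51 : Commute (H.s 51) (H.s 1164 * H.s 1260) :=
    (H.six_comm (L := six0) (by decide +kernel)).mul_right (H.six_comm (L := six1) (by decide +kernel))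
  have c90 : Commute (H.s 90) (H.s 1164 * H.s 1260) := hd1 ▸
    (H.six_comm (L := six2) (by decide +kernel)).mul_right (H.six_comm (L := six3) (by decide +kernel))
  have cd : Commute (H.s 105) (H.s 1164 * H.s 1260) := l0.1 ▸ c51.mul_left c90
  have c249 : Commute (H.s 105) (H.s 249) :=
    l1.1 ▸ (H.six_comm (L := six4) (by decide +kernel)).mul_right l4.2.1
  have c153 : Commute (H.s 105) (H.s 153) := by
    have := (hd2 ▸ cd).mul_right c249
    rwa [mul_assoc, l9.2.2.2, mul_one] at this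
  have c3164 : Commute (H.s 105) (H.s 3164) :=
    l2.1 ▸ (H.six_comm (L := six5) (by decide +kernel)).mul_right l5.2.1
  exact l3.1 ▸ c153.mul_right c3164

/-! ### the basis commutes -/

/-- The three representative pairs. -/
def _root_.Cfsg.Agent.J4XElem23.rep : ℕ → ℕ × ℕ
  | 0 => (L0.getD 0 0, L0.getD 1 0)
  | 1 => (51, 1164)
  | _ => (105, 3269)

theorem B_ok : ∀ k < 11, good (QB.getD k 0) = true ∧ B.getD k 0 = vact (QB.getD k 0) 490 ∧
    coord (B.getD k 0) = 2 ^ k := by decide +kernel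

theorem isSV_B {k : ℕ} (hk : k < 11) : IsSV (B.getD k 0) :=
  ⟨QB.getD k 0, (B_ok k hk).1, (B_ok k hk).2.1⟩

include V in
theorem rep_sound (r : ℕ) : IsSV (rep r).1 ∧ IsSV (rep r).2 ∧ Commute (H.s (rep r).1) (H.s (rep r).2) := by
  have ok : ∀ l ∈ rl, lineOK l = true := by decide +kernel
  have hl : ∀ i < 10, lineOK (rl.getD i (0, 0, 0, 0)) = true := by decide +kernel
  match r with
  | 0 =>
    refine ⟨isSV_L0 (i := 0) (by norm_num), isSV_L0 (i := 1) (by norm_num), ?_⟩
    have h : lineOK (idP, 0, 1, 5) = true := by decide +kernel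
    have e : (lv (idP, 0, 1, 5)) = (L0.getD 0 0, L0.getD 1 0, L0.getD 5 0) := by decide +kernel
    have c := H.line_comm h
    rw [e] at c
    exact c
  | 1 =>
    have i1 := (line_isSV V (hl 0 (by norm_num))).1
    have i2 := (line_isSV V (hl 6 (by norm_num))).2.2
    rw [show (lv (rl.getD 0 (0, 0, 0, 0))).1 = 51 by decide +kernel] at i1
    rw [show (lv (rl.getD 6 (0, 0, 0, 0))).2.2 = 1164 by decide +kernel] at i2
    exact ⟨i1, i2, H.six_comm (L := six0) (by decide +kernel)⟩
  | _ + 2 =>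
    have i1 := (line_isSV V (hl 0 (by norm_num))).2.2
    have i2 := (line_isSV V (hl 3 (by norm_num))).2.2
    rw [show (lv (rl.getD 0 (0, 0, 0, 0))).2.2 = 105 by decide +kernel] at i1
    rw [show (lv (rl.getD 3 (0, 0, 0, 0))).2.2 = 3269 by decide +kernel] at i2
    exact ⟨i1, i2, H.comm_1440 V⟩

/-- Check of a transporter of a pair of basis elements. -/
def _root_.Cfsg.Agent.J4XElem23.pairOK (x : ℕ × ℕ × ℕ × ℕ) : Bool :=
  good x.2.2.2 && Nat.beq (vact x.2.2.2 (rep x.2.2.1).1) (B.getD x.2.1 0) &&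
    Nat.beq (vact x.2.2.2 (rep x.2.2.1).2) (B.getD x.1 0)

theorem pairs_ok : pairs.all pairOK = true := by decide +kernel

theorem pairs_cover : ∀ j < 11, ∀ k < 11, (j == k || pairs.any fun x =>
    (x.1 == j && x.2.1 == k) || (x.1 == k && x.2.1 == j)) = true := by decide +kernel

include V in
theorem comm_B {j k : ℕ} (hj : j < 11) (hk : k < 11) :
    Commute (H.s (B.getD j 0)) (H.s (B.getD k 0)) := by
  have h := pairs_cover j hj k hk
  simp only [Bool.or_eq_true, beq_iff_eq, List.any_eq_true, Bool.and_eq_true] at h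
  rcases h with rfl | ⟨x, hx, h⟩
  · exact Commute.refl _
  have hok := List.all_eq_true.1 pairs_ok x hx
  simp only [pairOK, Bool.and_eq_true] at hok
  obtain ⟨⟨hP, e1⟩, e2⟩ := hok
  obtain ⟨i1, i2, c⟩ := H.rep_sound V x.2.2.1
  have c' := c.map (MulAut.conj (H.m x.2.2.2))
  rw [← H.conj hP i1, ← H.conj hP i2, Nat.eq_of_beq_eq_true e1, Nat.eq_of_beq_eq_true e2] at c'
  rcases h with ⟨rfl, rfl⟩ | ⟨rfl, rfl⟩
  · exact c'.symm
  · exact c'

/-! ### the elementary abelian subgroup -/

/-- The value of a vector. -/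
def e (v : ℕ) : G := ev (fun k => H.s (B.getD k 0)) 11 (coord v)

include V in
theorem e_xor (a b : ℕ) : H.e (a ^^^ b) = H.e a * H.e b := by
  rw [e, coord_xor]
  exact ev_xor (fun k hk => H.sq (isSV_B hk)) (fun j hj k hk => H.comm_B V hj hk) _ _

include V in
theorem e_zero : H.e 0 = 1 := by
  have h := H.e_xor V 0 0
  rw [Nat.xor_self] at h
  exact right_eq_mul.mp h

theorem e_B {k : ℕ} (hk : k < 11) : H.e (B.getD k 0) = H.s (B.getD k 0) := by
  rw [e, (B_ok k hk).2.2, ev_pow, if_pos hk]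

/-- The values reached by the chain. -/
def _root_.Cfsg.Agent.J4XElem23.run : List ℕ → List (ℕ × ℕ × ℕ × ℕ) → List ℕ
  | K, [] => K
  | K, l :: L =>
    run (bif lineOK l && K.contains (lv l).1 && K.contains (lv l).2.1 &&
        Nat.beq ((lv l).1 ^^^ (lv l).2.1) (lv l).2.2 then (lv l).2.2 :: K else K) L

include V in
theorem run_sound : ∀ (L : List (ℕ × ℕ × ℕ × ℕ)) (K : List ℕ), (∀ v ∈ K, H.e v = H.s v) →
    ∀ v ∈ run K L, H.e v = H.s v
  | [], _, hK => hK
  | l :: L, K, hK => by
    refine run_sound L _ ?_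
    cases hb : (lineOK l && K.contains (lv l).1 && K.contains (lv l).2.1 &&
        Nat.beq ((lv l).1 ^^^ (lv l).2.1) (lv l).2.2)
    · exact hK
    · simp only [Bool.and_eq_true, List.contains_iff_mem] at hb
      obtain ⟨⟨⟨hl, ha⟩, hb'⟩, hx⟩ := hb
      intro v hv
      rcases List.mem_cons.1 hv with rfl | hv
      · rw [← H.line_mul hl, ← hK _ ha, ← hK _ hb', ← H.e_xor V, Nat.eq_of_beq_eq_true hx]
      · exact hK v hv

theorem targets_ok : ∀ k < 11, (vact eX (B.getD k 0) ∈ run B chain) ∧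
    (vact eY (B.getD k 0) ∈ run B chain) ∧ 490 ∈ run B chain := by decide +kernel

include V in
theorem run_B : ∀ v ∈ run B chain, H.e v = H.s v :=
  H.run_sound V chain B fun v hv => by
    obtain ⟨k, hk, rfl⟩ := List.mem_iff_getElem.1 hv
    rw [← List.getD_eq_getElem B 0 hk]
    exact H.e_B hk

theorem vecB_coord : ∀ v < 4096, inE v = true → vecB (coord v) = v := by decide +kernel

theorem inE_B : ∀ k < 11, inE (B.getD k 0) = true := by decide +kernel

include V in
theorem inE_xv (c : ℕ) : ∀ n ≤ 11, inE (xv (fun k => B.getD k 0) n c) = true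
  | 0, _ => (by decide +kernel : inE 0 = true)
  | n + 1, h => by
    refine V.inE_xor (inE_xv c n (Nat.le_of_succ_le h)) ?_
    cases c.testBit n
    · exact (by decide +kernel : inE 0 = true)
    · exact inE_B n h

include V in
theorem act_of_basis {P : ℕ} (hP : good P = true)
    (h : ∀ k < 11, H.e (vact P (B.getD k 0)) = H.s (vact P (B.getD k 0))) {v : ℕ} (hv : inE v = true) :
    H.m P * H.e v = H.e (vact P v) * H.m P := by
  have key : ∀ c n, n ≤ 11 → H.m P * H.e (xv (fun k => B.getD k 0) n c) =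
      H.e (vact P (xv (fun k => B.getD k 0) n c)) * H.m P := by
    intro c n hn
    induction n with
    | zero =>
      have h0 : inE 0 = true := by decide +kernel
      have := V.vact_xor hP h0 h0
      rw [Nat.xor_self, Nat.xor_self] at this
      simp [xv, this, H.e_zero V]
    | succ n ih =>
      have hn' := inE_xv V c n (Nat.le_of_succ_le hn)
      simp only [xv]
      cases c.testBit n
      · simpa using ih (Nat.le_of_succ_le hn)
      · simp only [cond_true]
        rw [V.vact_xor hP hn' (inE_B n hn), H.e_xor V, H.e_xor V, ← mul_assoc,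
          ih (Nat.le_of_succ_le hn), mul_assoc, H.e_B hn, H.act' hP (isSV_B hn), h n hn, mul_assoc]
  have hlt : v < 4096 := by
    simp only [inE, Bool.and_eq_true, decide_eq_true_eq] at hv
    exact hv.1
  have := key (coord v) 11 le_rfl
  change H.m P * H.e (vecB (coord v)) = H.e (vact P (vecB (coord v))) * H.m P at this
  rwa [vecB_coord v hlt hv] at this

include V in
theorem act_e : ∀ {P v : ℕ}, good P = true → inE v = true → H.m P * H.e v = H.e (vact P v) * H.m P := by
  suffices h : ∀ P, good P = true → ∀ v, inE v = true → H.m P * H.e v = H.e (vact P v) * H.m P by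
    intro P v hP hv
    exact h P hP v hv
  intro P hP
  have hg := J4M24Iso13.good_gens
  simp only [Bool.and_eq_true] at hg
  have hid : good idP = true := by decide +kernel
  have h1 : H.m idP = 1 := by
    have h := H.m_mul hid hid
    rw [show pcomp idP idP = idP by decide +kernel] at h
    exact right_eq_mul.mp h
  suffices h : ∃ R, good R = true ∧ pcomp R idP = pcomp P idP ∧
      (good R = true ∧ ∀ v, inE v = true → H.m R * H.e v = H.e (vact R v) * H.m R) by
    obtain ⟨R, hR, eR, -, h⟩ := h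
    intro v hv
    have em : H.m R = H.m P := by
      simpa [H.m_mul hR hid, H.m_mul hP hid, h1] using congrArg H.m eR
    have evv : vact R v = vact P v := by
      have := congrArg (fun C => vact C v) eR
      simpa [V.vact_pcomp hR hid hv, V.vact_pcomp hP hid hv, V.vact_idP hv] using this
    rw [← em, ← evv]
    exact h v hv
  refine good_induction V.good_mul (p := fun P => good P = true ∧ ∀ v, inE v = true →
    H.m P * H.e v = H.e (vact P v) * H.m P) ?_ ?_ ?_ ?_ P hP
  · refine ⟨hid, fun v hv => ?_⟩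
    rw [h1, one_mul, mul_one, V.vact_idP hv]
  · exact ⟨hg.1.1.1.1, fun v hv => H.act_of_basis V hg.1.1.1.1
      (fun k hk => H.run_B V _ (targets_ok k hk).1) hv⟩
  · exact ⟨hg.1.1.1.2, fun v hv => H.act_of_basis V hg.1.1.1.2
      (fun k hk => H.run_B V _ (targets_ok k hk).2.1) hv⟩
  · intro P R _ _ hp hr
    refine ⟨V.good_mul hp.1 hr.1, fun v hv => ?_⟩
    rw [H.m_mul hp.1 hr.1, mul_assoc, hr.2 v hv, ← mul_assoc, hp.2 _ (V.inE_vact hr.1 hv), mul_assoc,
      V.vact_pcomp hp.1 hr.1 hv]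

include V in
theorem e_eq_s {v : ℕ} (h : IsSV v) : H.e v = H.s v := by
  obtain ⟨Q, hQ, rfl⟩ := h
  have h1 := H.act_e V hQ inE_490
  have h490 : IsSV 490 := ⟨idP, by decide +kernel, by decide +kernel⟩
  rw [H.run_B V 490 (targets_ok 0 (by norm_num)).2.2, H.act' hQ h490] at h1
  exact (mul_right_cancel h1).symm

include V in
theorem e_mem (v : ℕ) :
    H.e v ∈ Subgroup.closure (Set.range H.m ∪ {H.s 490}) := by
  have hb : ∀ k < 11, H.s (B.getD k 0) ∈ Subgroup.closure (Set.range H.m ∪ {H.s 490}) := by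
    intro k hk
    rw [(B_ok k hk).2.1, H.conj (B_ok k hk).1 ⟨idP, by decide +kernel, by decide +kernel⟩,
      MulAut.conj_apply]
    exact mul_mem (mul_mem (Subgroup.subset_closure (Or.inl ⟨_, rfl⟩))
      (Subgroup.subset_closure (Or.inr rfl))) (inv_mem (Subgroup.subset_closure (Or.inl ⟨_, rfl⟩)))
  have key : ∀ n ≤ 11, ev (fun k => H.s (B.getD k 0)) n (coord v) ∈
      Subgroup.closure (Set.range H.m ∪ {H.s 490}) := by
    intro n hn
    induction n with
    | zero => exact one_mem _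
    | succ n ih =>
      refine mul_mem (ih (Nat.le_of_succ_le hn)) ?_
      cases (coord v).testBit n
      · exact one_mem _
      · exact hb n hn
  exact key 11 le_rfl

include V in
/-- The subgroup of the permutations and the elementary part is generated by any one sextet involution. -/
theorem closure_eq {v : ℕ} (hv : IsSV v) :
    Subgroup.closure (Set.range H.m ∪ {x | ∃ w, inE w = true ∧ x = H.e w}) =
      Subgroup.closure (Set.range H.m ∪ {H.s v}) := by
  refine le_antisymm ?_ ?_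
  · rw [Subgroup.closure_le]
    rintro x (hx | ⟨w, -, rfl⟩)
    · exact Subgroup.subset_closure (Or.inl hx)
    · refine (?_ : Subgroup.closure (Set.range H.m ∪ {H.s 490}) ≤ _) (H.e_mem V w)
      rw [Subgroup.closure_le]
      rintro y (hy | rfl)
      · exact Subgroup.subset_closure (Or.inl hy)
      obtain ⟨Q, hQ, rfl⟩ := hv
      have e : H.s 490 = (H.m Q)⁻¹ * H.s (vact Q 490) * H.m Q := by
        rw [mul_assoc, ← H.act' hQ ⟨idP, by decide +kernel, by decide +kernel⟩, inv_mul_cancel_left]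
      rw [e]
      exact mul_mem (mul_mem (inv_mem (Subgroup.subset_closure (Or.inl ⟨_, rfl⟩)))
        (Subgroup.subset_closure (Or.inr rfl))) (Subgroup.subset_closure (Or.inl ⟨_, rfl⟩))
  · rw [Subgroup.closure_le]
    rintro x (hx | rfl)
    · exact Subgroup.subset_closure (Or.inl hx)
    · exact Subgroup.subset_closure (Or.inr ⟨v, hv.inE V, (H.e_eq_s V hv).symm⟩)

end Hyp

end Cfsg.Agent.J4XElem23
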