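import Cfsg.Agent.Lib.J4XFacts18

/-! The facts as one list. -/

set_option autoImplicit false

namespace Cfsg.Agent.J4XFactList18

open Cfsg.Agent.J4XBase18 Cfsg.Agent.J4XCert18 Cfsg.Agent.J4XFactsData18

/-- All facts. -/
def factList : List Fact := blocks.flatten

theorem blocks_small : (blocks.all fun l => decide (l.length ≤ 32)) = true := by decide +kernel

theorem facts_mem {G : Type*} [Group G] (S : Setup G) (L : Laws) :
    ∀ f ∈ factList, f.Holds S (J4XFacts18.rep S) := by
  intro f hf
  obtain ⟨l, hl, hfl⟩ := List.mem_flatten.1 hf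
  obtain ⟨j, hj, rfl⟩ := List.getElem_of_mem hl
  obtain ⟨c, hc, rfl⟩ := List.getElem_of_mem hfl
  have h32 : blocks[j].length ≤ 32 := by
    have := List.all_eq_true.1 blocks_small _ (List.getElem_mem hj)
    simpa using this
  have h := J4XFacts18.facts_hold S L (32 * j + c)
  have e1 : Nat.div (32 * j + c) 32 = j := by
    show (32 * j + c) / 32 = j
    omega
  have e2 : Nat.mod (32 * j + c) 32 = c := by
    show (32 * j + c) % 32 = c
    omega
  rw [look, e1, e2, List.getD_eq_getElem _ _ hj, List.getD_eq_getElem _ _ hc] at h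
  exact h

end Cfsg.Agent.J4XFactList18
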