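import Cfsg.Agent.Lib.J4XFactsData18

/-! Kernel checks of the facts. -/

set_option autoImplicit false
set_option maxRecDepth 100000
set_option Elab.async false

namespace Cfsg.Agent.J4XFacts18

open Cfsg.Agent.J4XBase18 Cfsg.Agent.J4XCert18 Cfsg.Agent.J4XFactsData18

theorem ok0 : allOk defs blocks 0 part0 = true := by decide +kernel

theorem ok1 : allOk defs blocks 40 part1 = true := by decide +kernel

theorem ok2 : allOk defs blocks 80 part2 = true := by decide +kernel

theorem ok3 : allOk defs blocks 120 part3 = true := by decide +kernel

end Cfsg.Agent.J4XFacts18
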