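import Cfsg.Agent.Lib.J4XSimple36
import Cfsg.Agent.Lib.J4XEdges16
import Cfsg.Agent.Lib.J4XStabCheck4
import Cfsg.Agent.Lib.J4XLaws10

/-!
The certificates put together: index, order and simplicity of the presented fourth Janko group from the
subgroup of shape 2^11 : M24 inside it.
-/

set_option autoImplicit false
set_option maxRecDepth 100000

namespace Cfsg.Agent.J4XFinal36

open Cfsg Cfsg.Agent.J4XBase18 Cfsg.Agent.J4XCount4
open Cfsg.Agent.J4M24Iso13 (eX eY)

/-- The certificates for the presented group: finite, of the expected index, order and type. -/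
theorem all_of (S : Setup Spor.J4) (hS : S.m = J4XPerm10.m) (hinj : PsiInj S)
    (hB : Nat.card ↥(base S) = 2048 * 244823040)
    (hdiv : Finite Spor.J4 → 173067389 * (2048 * 244823040) ∣ Nat.card Spor.J4) :
    Finite Spor.J4 ∧ (base S).index = 173067389 ∧ Nat.card Spor.J4 = 86775571046077562880 ∧
      Cfsg.IsJ4 Spor.J4 := by
  have hm : MGood S := fun P => hS ▸ J4XLaws10.mgood P
  have hmX : S.m eX = J4Simple36.q Spor.J4.x := by rw [hS, J4XPerm10.m_eX]; rfl
  have hmY : S.m eY = J4Simple36.q Spor.J4.y := by rw [hS, J4XPerm10.m_eY]; rfl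
  obtain ⟨hfin, hidx, hcard, heq, hcov, hdist⟩ := J4XCount4.main S J4XLaws10.laws hm hinj hB hdiv
    (J4XFacts18.rep S) rfl (J4XCover16.edge_all S J4XLaws10.laws)
    (J4XFacts18.facts_hold S J4XLaws10.laws) J4XStabData18.stabData J4XStabCheck4.stab_ok
  haveI := hfin
  exact ⟨hfin, hidx, hcard.trans (by norm_num), J4XSimple36.isJ4 S J4XLaws10.laws hm hinj hmX hmY hB hidx
    (J4XFacts18.rep S) rfl heq hcov hdist⟩

end Cfsg.Agent.J4XFinal36
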