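import Cfsg.Agent.Lib.J4XCert18
import Cfsg.Agent.Lib.J4XPerm10

/-!
The subgroup of shape 2^11 : M24 is the one generated by the words x, y and (y t^w)^3.
-/

set_option autoImplicit false
set_option maxRecDepth 100000

namespace Cfsg.Agent.J4XGlue18

open Cfsg.Agent.GolayBasic Cfsg.Agent.GolayPerm Cfsg.Agent.GolayEnumComp Cfsg.Agent.J4XBase18
open Cfsg.Agent.J4M24Iso13 (eX eY)
open Cfsg.Spor

/-- The third word. -/
def sWord : FreeGroup J4.Gen :=
  (J4.y * ((J4.y * J4.x) ^ 4 * J4.y⁻¹ * J4.x)⁻¹ * J4.t * ((J4.y * J4.x) ^ 4 * J4.y⁻¹ * J4.x)) ^ 3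

/-- The class of the sextet of the third word. -/
def vS : ℕ := 3269

/-- The spanning walk: generator (0 for x, 1 for y) and earlier class. -/
def walk : List (ℕ × ℕ) :=
  [(0, 0), (1, 1), (0, 2), (1, 2), (1, 3), (0, 4), (0, 5), (1, 5), (1, 7), (0, 8)]

/-- The classes met. -/
def spanList : List ℕ := [3269, 3202, 1205, 2338, 105, 3321, 1463, 1217, 1079, 2594, 3832]

/-- The coordinate vectors. -/
def unitList : List ℕ := [3, 5, 9, 17, 33, 65, 129, 257, 513, 1025, 2049]

/-- Their coordinates in the span of the classes met. -/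
def unitCoef : List ℕ := [1644, 120, 1714, 1630, 181, 1559, 1896, 1576, 1056, 511, 249]

theorem unit_check : (unitList.zipIdx.all fun p =>
    Nat.beq (combo spanList (unitCoef.getD p.2 0)) p.1) = true := by decide +kernel

theorem span_check :
    ((List.range 4096).all fun v => !inE v || Nat.beq (combo unitList (v >>> 1)) v) = true := by decide +kernel

theorem walk_check : (walk.zipIdx.all fun p =>
    Nat.blt p.1.2 (p.2 + 1) && Nat.beq (spanList.getD (p.2 + 1) 0)
      (vact (bif Nat.beq p.1.1 0 then eX else eY) (spanList.getD p.1.2 0))) = true := by decide +kernel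

theorem span_inE : (spanList.all inE) = true := by decide +kernel

variable (S : Setup Cfsg.Spor.J4)

/-- The frozen subgroup. -/
abbrev H : Subgroup Cfsg.Spor.J4 :=
  (Subgroup.closure ({J4.x, J4.y, sWord} : Set (FreeGroup J4.Gen))).map
    (PresentedGroup.mk (coxRelators J4.edges ∪ {r | r ∈ J4.extra}))

theorem q_mem {w : FreeGroup J4.Gen} (h : w ∈ ({J4.x, J4.y, sWord} : Set (FreeGroup J4.Gen))) :
    J4XPerm10.q w ∈ H :=
  ⟨w, Subgroup.subset_closure h, rfl⟩

theorem m_mem (hm : S.m = J4XPerm10.m) (P : ℕ) : S.m P ∈ H := by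
  have h : J4XPerm10.m P ∈ Set.range J4XPerm10.m := ⟨P, rfl⟩
  rw [J4XPerm10.range_m] at h
  rw [hm]
  exact Subgroup.map_mono (Subgroup.closure_mono (by
    intro z hz
    rcases hz with rfl | rfl
    · exact Or.inl rfl
    · exact Or.inr (Or.inl rfl))) h

theorem e_mem (L : J4XCert18.Laws) (hm : S.m = J4XPerm10.m) (hs : J4XPerm10.q sWord = S.e vS) {v : ℕ}
    (hv : inE v = true) : S.e v ∈ H := by
  have hl : ∀ n : ℕ, ∀ u : ℕ, spanList[n]? = some u → inE u = true ∧ S.e u ∈ H := by
    intro n
    induction n using Nat.strong_induction_on with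
    | _ n ih =>
      intro u hu
      have huE : inE u = true := List.all_eq_true.1 span_inE u (List.mem_of_getElem? hu)
      refine ⟨huE, ?_⟩
      cases n with
      | zero =>
        have : u = vS := by simp [spanList, vS] at hu ⊢; omega
        rw [this, ← hs]
        exact q_mem (Or.inr (Or.inr rfl))
      | succ k =>
        have hk : k < walk.length := by
          have : k + 1 < spanList.length := (List.getElem?_eq_some_iff.1 hu).1
          simp [spanList, walk] at this ⊢
          omega
        have hw := List.all_eq_true.1 walk_check (walk[k], k)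
          (List.mem_zipIdx_iff_getElem?.2 (List.getElem?_eq_getElem hk))
        simp only [Bool.and_eq_true, Nat.blt_eq, Nat.beq_eq] at hw
        obtain ⟨hlt, heq⟩ := hw
        have hu' : spanList.getD (k + 1) 0 = u := by
          rw [List.getD_eq_getElem?_getD, hu]
          rfl
        rw [hu'] at heq
        have hpl : walk[k].2 < spanList.length := by
          have : k + 1 < spanList.length := (List.getElem?_eq_some_iff.1 hu).1
          omega
        obtain ⟨hE, hmem⟩ := ih walk[k].2 (by omega) _ (List.getElem?_eq_getElem hpl)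
        rw [List.getD_eq_getElem _ _ hpl] at heq
        have hg : ∀ P, good P = true → u = vact P spanList[walk[k].2] → S.e u ∈ H := by
          intro P hP e
          have hact := S.act hP hE
          rw [← e] at hact
          rw [eq_mul_inv_of_mul_eq hact.symm]
          exact mul_mem (mul_mem (m_mem S hm P) hmem) (inv_mem (m_mem S hm P))
        rcases hb : Nat.beq walk[k].1 0 with _ | _ <;> rw [hb] at heq <;>
          simp only [cond_true, cond_false] at heq
        · exact hg eY (by decide +kernel) heq
        · exact hg eX (by decide +kernel) heq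
  have hsum : ∀ l : List ℕ, (∀ u ∈ l, inE u = true ∧ S.e u ∈ H) →
      ∀ c, inE (combo l c) = true ∧ S.e (combo l c) ∈ H := by
    intro l
    induction l with
    | nil =>
      intro _ c
      exact ⟨by rw [combo]; decide +kernel, by rw [combo, J4XCert18.e_zero]; exact one_mem _⟩
    | cons a l ih =>
      intro h c
      obtain ⟨h1, h2⟩ := ih (fun u hu => h u (List.mem_cons_of_mem _ hu)) (c >>> 1)
      obtain ⟨ha, ha'⟩ := h a List.mem_cons_self
      rw [combo]
      rcases Nat.mod_two_eq_zero_or_one c with hc | hc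
      · rw [Nat.and_one_is_mod, hc, Nat.zero_mul, Nat.zero_xor]
        exact ⟨h1, h2⟩
      · rw [Nat.and_one_is_mod, hc, Nat.one_mul]
        exact ⟨L.inE_xor ha h1, by rw [S.e_mul ha h1]; exact mul_mem ha' h2⟩
  have hspan := hsum spanList fun u hu => by
    obtain ⟨n, hn⟩ := List.getElem?_of_mem hu
    exact hl n u hn
  have hunit : ∀ u ∈ unitList, inE u = true ∧ S.e u ∈ H := by
    intro u hu
    obtain ⟨n, hn⟩ := List.getElem?_of_mem hu
    have h := List.all_eq_true.1 unit_check (u, n) (List.mem_zipIdx_iff_getElem?.2 hn)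
    rw [Nat.beq_eq] at h
    have h' := hspan (unitCoef.getD n 0)
    simp only at h
    rw [h] at h'
    exact h'
  have hlt : v < 4096 := by
    simp only [inE, Bool.and_eq_true, decide_eq_true_eq] at hv
    exact hv.1
  have h := List.all_eq_true.1 span_check v (List.mem_range.2 hlt)
  simp only [hv, Bool.not_true, Bool.false_or, Nat.beq_eq] at h
  have h' := hsum unitList hunit (v >>> 1)
  rw [h] at h'
  exact h'.2

/-- The subgroup of pairs is the frozen subgroup. -/
theorem base_eq (L : J4XCert18.Laws) (hm : S.m = J4XPerm10.m) (hs : J4XPerm10.q sWord = S.e vS) :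
    base S = H := by
  apply le_antisymm
  · rw [base, Subgroup.closure_le]
    rintro _ (⟨P, rfl⟩ | ⟨v, hv, rfl⟩)
    · exact m_mem S hm P
    · exact e_mem S L hm hs hv
  · rw [H, Subgroup.map_le_iff_le_comap, Subgroup.closure_le]
    rintro z (rfl | rfl | rfl)
    · show J4XPerm10.q J4.x ∈ base S
      rw [← J4XPerm10.m_eX, ← hm]
      exact Subgroup.subset_closure (Or.inl ⟨_, rfl⟩)
    · show J4XPerm10.q J4.y ∈ base S
      rw [← J4XPerm10.m_eY, ← hm]
      exact Subgroup.subset_closure (Or.inl ⟨_, rfl⟩)
    · show J4XPerm10.q sWord ∈ base S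
      rw [hs]
      exact Subgroup.subset_closure (Or.inr ⟨vS, by decide +kernel, rfl⟩)

end Cfsg.Agent.J4XGlue18
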