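import Cfsg.Agent.Lib.J4XBase18

/-!
Inverse codes, composition, and masks of coded permutations of the 24 points.
-/

set_option autoImplicit false

namespace Cfsg.Agent.J4XPermInv54

open Cfsg Cfsg.Agent.GolayBasic Cfsg.Agent.GolayPerm Cfsg.Agent.GolayEnumComp Cfsg.Agent.J4XBase18
open scoped Pointwise

theorem testBit_full {i : ℕ} (hi : i < 24) : (16777215 : ℕ).testBit i = true := by
  rw [show (16777215 : ℕ) = 2 ^ 24 - 1 by norm_num, Nat.testBit_two_pow_sub_one]
  simp [hi]

theorem good_idP : good idP = true := by decide +kernel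

theorem pmask_lt {P : ℕ} (h : valid P = true) (x : ℕ) : pmask P x < 2 ^ 24 := by
  refine Nat.lt_pow_two_of_testBit _ fun j hj => ?_
  rw [← Bool.not_eq_true]
  intro hc
  obtain ⟨i, hi, -, rfl⟩ := testBit_pmask.1 hc
  exact absurd (pimg_lt h hi) (Nat.not_lt.2 hj)

theorem valid_pcomp {P Q : ℕ} (hP : valid P = true) (hQ : valid Q = true) :
    valid (pcomp P Q) = true := by
  simp only [valid, Bool.and_eq_true, List.all_eq_true, decide_eq_true_eq, beq_iff_eq]
  refine ⟨fun i hi => ?_, Nat.eq_of_testBit_eq fun j => ?_⟩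
  · rw [pimg_pcomp _ _ (mem_pts.1 hi)]
    exact pimg_lt hP (pimg_lt hQ (mem_pts.1 hi))
  · rw [show (16777215 : ℕ) = 2 ^ 24 - 1 by norm_num, Nat.testBit_two_pow_sub_one, Bool.eq_iff_iff,
      testBit_pmask, decide_eq_true_eq]
    constructor
    · rintro ⟨i, hi, -, rfl⟩
      rw [pimg_pcomp _ _ hi]
      exact pimg_lt hP (pimg_lt hQ hi)
    · intro hj
      obtain ⟨q, hq⟩ := (pfun_bijective hP).2 (pt j)
      obtain ⟨p, hp⟩ := (pfun_bijective hQ).2 q
      refine ⟨idx p, idx_lt p, testBit_full (idx_lt p), ?_⟩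
      rw [pimg_pcomp _ _ (idx_lt p)]
      have h1 := congrArg idx hp
      rw [pfun, idx_pt (pimg_lt hQ (idx_lt p))] at h1
      have h2 := congrArg idx hq
      rw [pfun, idx_pt (pimg_lt hP (idx_lt q)), idx_pt hj] at h2
      rw [h1, h2]

theorem pmask_pcomp {P Q : ℕ} (hP : valid P = true) (hQ : valid Q = true) (x : ℕ) :
    pmask (pcomp P Q) x = pmask P (pmask Q x) := by
  have hR := valid_pcomp hP hQ
  refine mset_inj (pmask_lt hR x) (pmask_lt hP _) ?_
  rw [← smul_mset hR, ← smul_mset hP, ← smul_mset hQ, permOf_pcomp hP hQ hR rfl, mul_smul]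

theorem inCode_pmask {P c : ℕ} (hP : good P = true) (hc : inCode c = true) :
    inCode (pmask P c) = true := by
  have hv := valid_of_good hP
  rw [← mset_mem_supports (pmask_lt hv c), ← smul_mset hv]
  exact smul_mem_supports (permOf_mem_M24 hP) ((mset_mem_supports (inCode_lt hc)).2 hc)

theorem good_pcomp {P Q : ℕ} (hP : good P = true) (hQ : good Q = true) :
    good (pcomp P Q) = true := by
  rw [good, Bool.and_eq_true, List.all_eq_true]
  refine ⟨valid_pcomp (valid_of_good hP) (valid_of_good hQ), fun b hb => ?_⟩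
  have hb' : inCode (pmask Q b) = true := by
    simp only [good, Bool.and_eq_true, List.all_eq_true] at hQ
    exact hQ.2 b hb
  rw [pmask_pcomp (valid_of_good hP) (valid_of_good hQ)]
  exact inCode_pmask hP hb'

/-- The inverse of an encoded permutation. -/
noncomputable def pinv (P : ℕ) : ℕ := horner (pts.map fun i => idx ((permOf P)⁻¹ (pt i)))

theorem pimg_pinv (P : ℕ) {i : ℕ} (hi : i < 24) :
    pimg (pinv P) i = idx ((permOf P)⁻¹ (pt i)) :=
  pimg_horner (fun j => (idx_lt _).trans (by norm_num)) hi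

theorem valid_pinv (P : ℕ) : valid (pinv P) = true := by
  simp only [valid, Bool.and_eq_true, List.all_eq_true, decide_eq_true_eq, beq_iff_eq]
  refine ⟨fun i hi => ?_, Nat.eq_of_testBit_eq fun j => ?_⟩
  · rw [pimg_pinv P (mem_pts.1 hi)]; exact idx_lt _
  · rw [show (16777215 : ℕ) = 2 ^ 24 - 1 by norm_num, Nat.testBit_two_pow_sub_one, Bool.eq_iff_iff,
      testBit_pmask, decide_eq_true_eq]
    constructor
    · rintro ⟨i, hi, -, rfl⟩
      rw [pimg_pinv P hi]; exact idx_lt _
    · intro hj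
      refine ⟨idx (permOf P (pt j)), idx_lt _, testBit_full (idx_lt _), ?_⟩
      rw [pimg_pinv P (idx_lt _), pt_idx, ← Equiv.Perm.mul_apply, inv_mul_cancel,
        Equiv.Perm.one_apply, idx_pt hj]

theorem permOf_pinv (P : ℕ) : permOf (pinv P) = (permOf P)⁻¹ := by
  refine Equiv.ext fun p => ?_
  rw [permOf_apply (valid_pinv P), pfun, pimg_pinv P (idx_lt p), pt_idx, pt_idx]

theorem good_pinv {P : ℕ} (hP : good P = true) : good (pinv P) = true := by
  rw [good, Bool.and_eq_true, List.all_eq_true]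
  refine ⟨valid_pinv P, fun b hb => ?_⟩
  have hb' : inCode b = true := by
    have h : basisRows.all (fun b => inCode b) = true := by decide +kernel
    exact List.all_eq_true.1 h b hb
  rw [← mset_mem_supports (pmask_lt (valid_pinv P) b), ← smul_mset (valid_pinv P), permOf_pinv]
  exact smul_mem_supports (inv_mem (permOf_mem_M24 hP)) ((mset_mem_supports (inCode_lt hb')).2 hb')

theorem eq_idP_of_pimg {R : ℕ → ℕ → ℕ} {P Q : ℕ} (h : ∀ i < 24, pimg P (pimg Q i) = i)
    (hR : R = pcomp) : R P Q = idP := by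
  subst hR
  exact congrArg horner ((List.map_congr_left fun i hi => h i (mem_pts.1 hi)).trans (List.map_id _))

theorem pinv_pcomp {P : ℕ} (hP : valid P = true) : pcomp (pinv P) P = idP := by
  refine eq_idP_of_pimg (fun i hi => ?_) rfl
  rw [pimg_pinv P (pimg_lt hP hi), show pt (pimg P i) = permOf P (pt i) by
    rw [permOf_apply hP, pfun, idx_pt hi], ← Equiv.Perm.mul_apply, inv_mul_cancel,
    Equiv.Perm.one_apply, idx_pt hi]

theorem pcomp_pinv {P : ℕ} (hP : valid P = true) : pcomp P (pinv P) = idP := by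
  refine eq_idP_of_pimg (fun i hi => ?_) rfl
  rw [pimg_pinv P hi]
  have h : pfun P ((permOf P)⁻¹ (pt i)) = pt i := by
    rw [← permOf_apply hP, ← Equiv.Perm.mul_apply, mul_inv_cancel, Equiv.Perm.one_apply]
  have h2 := congrArg idx h
  rw [pfun, idx_pt (pimg_lt hP (idx_lt _)), idx_pt hi] at h2
  exact h2

theorem pmask_idP {x : ℕ} (hx : x < 2 ^ 24) : pmask idP x = x := by
  refine mset_inj (pmask_lt (valid_of_good good_idP) x) hx ?_
  rw [← smul_mset (valid_of_good good_idP), permOf_idP, one_smul]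

theorem pmask_pinv_pmask {P : ℕ} (hP : valid P = true) {x : ℕ} (hx : x < 2 ^ 24) :
    pmask (pinv P) (pmask P x) = x := by
  rw [← pmask_pcomp (valid_pinv P) hP, pinv_pcomp hP, pmask_idP hx]

theorem pmask_pmask_pinv {P : ℕ} (hP : valid P = true) {x : ℕ} (hx : x < 2 ^ 24) :
    pmask P (pmask (pinv P) x) = x := by
  rw [← pmask_pcomp hP (valid_pinv P), pcomp_pinv hP, pmask_idP hx]

theorem pmask_or {P : ℕ} (hP : valid P = true) (x y : ℕ) :
    pmask P (x ||| y) = pmask P x ||| pmask P y := by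
  refine mset_inj (pmask_lt hP _) ?_ ?_
  · exact Nat.or_lt_two_pow (pmask_lt hP _) (pmask_lt hP _)
  · rw [← smul_mset hP, mset_or, mset_or, ← smul_mset hP, ← smul_mset hP, Finset.smul_finset_union]

theorem pmask_xor {P : ℕ} (hP : valid P = true) (x y : ℕ) :
    pmask P (x ^^^ y) = pmask P x ^^^ pmask P y := by
  refine mset_inj (pmask_lt hP _) ?_ ?_
  · exact Nat.xor_lt_two_pow (pmask_lt hP _) (pmask_lt hP _)
  · rw [← smul_mset hP, mset_xor, mset_xor, ← smul_mset hP, ← smul_mset hP, smul_finset_symmDiff]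

theorem pimg_inj {P : ℕ} (hP : valid P = true) {i j : ℕ} (hi : i < 24) (hj : j < 24)
    (h : pimg P i = pimg P j) : i = j := by
  have h' : pfun P (pt i) = pfun P (pt j) := by rw [pfun, pfun, idx_pt hi, idx_pt hj, h]
  have := congrArg idx ((pfun_bijective hP).1 h')
  rwa [idx_pt hi, idx_pt hj] at this

theorem cv_xor (a b : ℕ) : cv (a ^^^ b) = cv a ^^^ cv b := by
  unfold cv
  rw [Nat.and_xor_distrib_right, enc_xor, ← Nat.shiftRight_xor_distrib]
  congr 1
  ac_rfl

theorem cv_inCode {c : ℕ} (h : inCode c = true) : cv c = 0 := by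
  unfold cv
  simp only [inCode, beq_iff_eq] at h
  rw [h, Nat.xor_self, Nat.zero_shiftRight]

theorem cv_pmask {P : ℕ} (hP : good P = true) (x : ℕ) : cv (pmask P x) = vact P (cv x) := by
  have hlow : x &&& 4095 < 4096 := Nat.lt_succ_of_le Nat.and_le_right
  have hz : (x ^^^ enc (x &&& 4095)) &&& 4095 = 0 := by
    rw [Nat.and_xor_distrib_right, enc_and hlow, Nat.xor_self]
  have hdec : x = (cv x <<< 12) ^^^ enc (x &&& 4095) := by
    have h0 : cv x <<< 12 = x ^^^ enc (x &&& 4095) := by
      unfold cv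
      refine Nat.eq_of_testBit_eq fun j => ?_
      rw [Nat.testBit_shiftLeft, Nat.testBit_shiftRight]
      by_cases hj : 12 ≤ j
      · simp [hj]
      · have hb := congrArg (fun z => Nat.testBit z j) hz
        simp only [Nat.testBit_and, Nat.zero_testBit, show (4095 : ℕ) = 2 ^ 12 - 1 by norm_num,
          Nat.testBit_two_pow_sub_one, Nat.not_le.1 hj, decide_true, Bool.and_true] at hb
        simp only [hj, decide_false, Bool.false_and]
        exact hb.symm
    rw [h0, Nat.xor_assoc, Nat.xor_self, Nat.xor_zero]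
  conv_lhs => rw [hdec, pmask_xor (valid_of_good hP), cv_xor,
    cv_inCode (inCode_pmask hP (inCode_enc hlow)), Nat.xor_zero]
  rfl

end Cfsg.Agent.J4XPermInv54
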