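import Cfsg.Agent.Lib.J4XResidue54Sext

/-!
The product of the elements of two sextets on a trio is the element of the third sextet of their line,
and the element of the subgroup of shape 2^11 : M24 is the element of a sextet.
-/

set_option autoImplicit false
set_option maxRecDepth 100000

namespace Cfsg.Agent.J4XResidue54

open Cfsg.Agent.GolayBasic Cfsg.Agent.GolayPerm Cfsg.Agent.GolayEnumComp Cfsg.Agent.J4XBase18
open Cfsg.Agent.J4XPermInv54

variable {G : Type} [Group G] {m : ℕ → G} {t : G}

/-- Partial products of the second relation. -/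
def bq : ℕ → ℕ
  | 0 => relB.getD 0 0
  | n + 1 => pcomp (bq n) (relB.getD (n + 1) 0)

/-- The inverse of the last partial product. -/
def bqInv : ℕ := 683649458414781013565809404914482208

theorem relB_conjugates (h : Pre m t) :
    tcj m t (bq 0) * tcj m t (bq 1) * tcj m t (bq 2) * tcj m t (bq 3) * m (bq 4) = 1 := by
  have g0 : good (relB.getD 0 0) = true := by decide +kernel
  have g1 : good (relB.getD 1 0) = true := by decide +kernel
  have g2 : good (relB.getD 2 0) = true := by decide +kernel
  have g3 : good (relB.getD 3 0) = true := by decide +kernel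
  have g4 : good (relB.getD 4 0) = true := by decide +kernel
  have hb : relB = [relB.getD 0 0, relB.getD 1 0, relB.getD 2 0, relB.getD 3 0, relB.getD 4 0] := by
    decide +kernel
  have hv := h.rels.2
  rw [hb] at hv
  simp only [altVal] at hv
  have q1 := good_pcomp g0 g1
  have q2 := good_pcomp q1 g2
  have q3 := good_pcomp q2 g3
  simp only [bq, tcj, Nat.zero_add, Nat.reduceAdd]
  rw [h.m_mul q3 g4, h.m_mul q2 g3, h.m_mul q1 g2, h.m_mul g0 g1]
  refine Eq.trans ?_ hv
  group

/-- The data of a crossing are those of the second relation moved by a code. -/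
def crossChk (R R' x y u p : ℕ) : Bool :=
  good R && good R' && good x && good y && good u && Nat.beq (pcomp R R') idP &&
    sameTrio x (pcomp R (bq 1)) && sameTrio y (pcomp R (bq 0)) &&
    sameTrio u (pcomp R (pcomp bqInv (bq 3))) && Nat.beq p (pcomp R (pcomp bqInv R'))

theorem cross_standard (h : Pre m t) :
    tcj m t (bq 1) * tcj m t (bq 0) = tcj m t (bq 0) * tcj m t (pcomp bqInv (bq 3)) * m bqInv := by
  have g0 : good (bq 0) = true := by decide +kernel
  have g2 : good (bq 2) = true := by decide +kernel
  have g3 : good (bq 3) = true := by decide +kernel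
  have g4 : good (bq 4) = true := by decide +kernel
  have gi : good bqInv = true := by decide +kernel
  have e4 : pcomp (bq 4) bqInv = idP := by decide +kernel
  have hm : (m (bq 4))⁻¹ = m bqInv := inv_eq_of_mul_eq_one_right (by rw [← h.m_mul g4 gi, e4, m_idP h])
  have hr := relB_conjugates h
  rw [tcj_congr h g2 g0 (by decide +kernel), mul_assoc _ (tcj m t (bq 3))] at hr
  have h2 : tcj m t (bq 0) * tcj m t (bq 1) * tcj m t (bq 0) =
      (m (bq 4))⁻¹ * tcj m t (bq 3) := by
    rw [eq_inv_of_mul_eq_one_left hr, mul_inv_rev, inv_eq_of_mul_eq_one_right (tcj_sq h _)]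
  rw [← tcj_conj h gi g3, ← hm, inv_inv]
  calc tcj m t (bq 1) * tcj m t (bq 0)
      = tcj m t (bq 0) * (tcj m t (bq 0) * tcj m t (bq 1) * tcj m t (bq 0)) := by
        rw [mul_assoc (tcj m t (bq 0)) (tcj m t (bq 1)), ← mul_assoc (tcj m t (bq 0)) (tcj m t (bq 0)),
          tcj_sq h, one_mul]
    _ = _ := by rw [h2]; group

theorem crossT (h : Pre m t) {R R' x y u p : ℕ} (hk : crossChk R R' x y u p = true) (z : G) :
    tcj m t x * (tcj m t y * z) = tcj m t y * (tcj m t u * (m p * z)) := by
  simp only [crossChk, Bool.and_eq_true, Nat.beq_eq] at hk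
  obtain ⟨⟨⟨⟨⟨⟨⟨⟨⟨hR, hR'⟩, hx⟩, hy⟩, hu⟩, hinv⟩, ex⟩, ey⟩, eu⟩, ep⟩ := hk
  have g0 : good (bq 0) = true := by decide +kernel
  have g1 : good (bq 1) = true := by decide +kernel
  have g3 : good (pcomp bqInv (bq 3)) = true := by decide +kernel
  have gi : good bqInv = true := by decide +kernel
  have hm : (m R)⁻¹ = m R' := inv_eq_of_mul_eq_one_right (by rw [← h.m_mul hR hR', hinv, m_idP h])
  rw [tcj_congr h hx (good_pcomp hR g1) ex, tcj_congr h hy (good_pcomp hR g0) ey,
    tcj_congr h hu (good_pcomp hR g3) eu, ep, ← tcj_conj h hR g1, ← tcj_conj h hR g0,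
    ← tcj_conj h hR g3, h.m_mul hR (good_pcomp gi hR'), h.m_mul gi hR', ← hm]
  calc m R * tcj m t (bq 1) * (m R)⁻¹ * (m R * tcj m t (bq 0) * (m R)⁻¹ * z)
      = m R * (tcj m t (bq 1) * tcj m t (bq 0)) * (m R)⁻¹ * z := by group
    _ = _ := by rw [cross_standard h]; group

/-- Two trios and the third of their line. -/
def lineChk (R a b c : ℕ) : Bool :=
  good R && good a && good b && good c && sameTrio a (pcomp R (relA.getD 0 0)) &&
    sameTrio b (pcomp R (pcomp (relA.getD 0 0) (relA.getD 1 0))) &&
    sameTrio c (pcomp R (pcomp (pcomp (relA.getD 0 0) (relA.getD 1 0)) (relA.getD 2 0)))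

theorem lineT (h : Pre m t) {R a b c : ℕ} (hk : lineChk R a b c = true) (z : G) :
    tcj m t a * (tcj m t b * z) = tcj m t c * z := by
  simp only [lineChk, Bool.and_eq_true] at hk
  obtain ⟨⟨⟨⟨⟨⟨hR, ha⟩, hb⟩, hc⟩, ea⟩, eb⟩, ec⟩ := hk
  have h3 := triple h hR ha hb hc ea eb ec
  rw [← mul_assoc, eq_inv_of_mul_eq_one_left h3, inv_eq_of_mul_eq_one_right (tcj_sq h c)]

theorem moveT (h : Pre m t) {p y c : ℕ}
    (hk : (good p && good y && good c && sameTrio c (pcomp p y)) = true) (z : G) :
    m p * (tcj m t y * z) = tcj m t c * (m p * z) := by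
  simp only [Bool.and_eq_true] at hk
  rw [tcj_congr h hk.1.2 (good_pcomp hk.1.1.1 hk.1.1.2) hk.2, ← tcj_conj h hk.1.1.1 hk.1.1.2]
  group

theorem mulT (h : Pre m t) {p q r : ℕ}
    (hk : (good p && good q && Nat.beq r (pcomp p q)) = true) (z : G) : m p * (m q * z) = m r * z := by
  simp only [Bool.and_eq_true, Nat.beq_eq] at hk
  rw [hk.2, h.m_mul hk.1.1 hk.1.2, mul_assoc]

theorem cancelM (h : Pre m t) {p q : ℕ}
    (hk : (good p && good q && Nat.beq (pcomp p q) idP) = true) (z : G) : m p * (m q * z) = z := by
  simp only [Bool.and_eq_true, Nat.beq_eq] at hk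
  rw [← mul_assoc, ← h.m_mul hk.1.1 hk.1.2, hk.2, m_idP h, one_mul]

theorem cancelT (h : Pre m t) {a b : ℕ}
    (hk : (good a && good b && sameTrio a b) = true) (z : G) : tcj m t a * (tcj m t b * z) = z := by
  simp only [Bool.and_eq_true] at hk
  rw [tcj_congr h hk.1.1 hk.1.2 hk.2, ← mul_assoc, tcj_sq h, one_mul]

theorem sconj_tri (h : Pre m t) {P a b c A B D : ℕ}
    (hk : (good P && tris.contains (a, b, c) && Nat.beq (pcomp P (letter a)) A &&
      Nat.beq (pcomp P (letter b)) B && Nat.beq (pcomp P (letter c)) D) = true) :
    sconj m t P = tcj m t A * tcj m t B * tcj m t D := by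
  simp only [Bool.and_eq_true, Nat.beq_eq, List.contains_iff_mem] at hk
  obtain ⟨⟨⟨⟨hP, hm⟩, ea⟩, eb⟩, ec⟩ := hk
  rw [sconj, ← tri_val h hm, conj_three h hP, ea, eb, ec]

theorem standard_word (h : Pre m t) :
    tcj m t 479368062511286484179562720616906895 * (tcj m t 147130408809766406909438574599030803 * (tcj m t 13680620271844149373341019502482069 * (tcj m t 343994003471823419801281329305958769 * (tcj m t 633584501329978687005747657269499499 * (tcj m t 607958156951976950906010192826387139 * (tcj m t 967927692939307892781686393745250353 * (tcj m t 222262339954065442504849588490873266 * (tcj m t 389587323098202910045739835696138346 * (1))))))))) = 1 := by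
  rw [crossT h (R := 873106635586080961371428181509621897) (R' := 856382480288272400584202233786733846) (x := 13680620271844149373341019502482069) (y := 343994003471823419801281329305958769) (u := 940021509384201390120636446913433074) (p := 48678543479395988511252799195024116) (by decide +kernel),
    lineT h (R := 460259180344143819199081599993398982) (a := 147130408809766406909438574599030803) (b := 343994003471823419801281329305958769) (c := 761570916905517255225336872876495085) (by decide +kernel),
    moveT h (p := 48678543479395988511252799195024116) (y := 633584501329978687005747657269499499) (c := 645268042009660744990854095860089451) (by decide +kernel),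
    crossT h (R := 52152515154264245761776671509292750) (R' := 666731155685921937294776303780744941) (x := 940021509384201390120636446913433074) (y := 645268042009660744990854095860089451) (u := 105566585174910444942812525867780329) (p := 70745225772012246368245954393778932) (by decide +kernel),
    crossT h (R := 307306562997787872404035596956706864) (R' := 898966244705644299180981443653647397) (x := 761570916905517255225336872876495085) (y := 645268042009660744990854095860089451) (u := 183824920242224569233499551061025450) (p := 962750373820247208505083556844120096) (by decide +kernel),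
    lineT h (R := 774276196039677478147090820348215908) (a := 479368062511286484179562720616906895) (b := 645268042009660744990854095860089451) (c := 640724772346202485027794775163085131) (by decide +kernel),
    moveT h (p := 962750373820247208505083556844120096) (y := 105566585174910444942812525867780329) (c := 437547481034756077576350462640724431) (by decide +kernel),
    mulT h (p := 962750373820247208505083556844120096) (q := 70745225772012246368245954393778932) (r := 48678543479395988511252799195024116) (by decide +kernel),
    cancelM h (p := 48678543479395988511252799195024116) (q := 48678543479395988511252799195024116) (by decide +kernel),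
    lineT h (R := 178788753072986774295001254279230737) (a := 437547481034756077576350462640724431) (b := 607958156951976950906010192826387139) (c := 971309689457870374917720246264679937) (by decide +kernel),
    cancelT h (a := 971309689457870374917720246264679937) (b := 967927692939307892781686393745250353) (by decide +kernel),
    cancelT h (a := 183824920242224569233499551061025450) (b := 222262339954065442504849588490873266) (by decide +kernel),
    cancelT h (a := 640724772346202485027794775163085131) (b := 389587323098202910045739835696138346) (by decide +kernel)]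

theorem standard_line (h : Pre m t) : sconj m t idP * sconj m t lineB * sconj m t lineC = 1 := by
  rw [sconj_tri h (P := idP) (a := 6) (b := 3) (c := 7) (A := 479368062511286484179562720616906895) (B := 147130408809766406909438574599030803)
      (D := 13680620271844149373341019502482069) (by decide +kernel),
    sconj_tri h (P := lineB) (a := 3) (b := 5) (c := 8) (A := 343994003471823419801281329305958769) (B := 633584501329978687005747657269499499)
      (D := 607958156951976950906010192826387139) (by decide +kernel),
    sconj_tri h (P := lineC) (a := 11) (b := 8) (c := 9) (A := 967927692939307892781686393745250353) (B := 222262339954065442504849588490873266)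
      (D := 389587323098202910045739835696138346) (by decide +kernel)]
  refine Eq.trans ?_ (standard_word h)
  simp only [mul_assoc, mul_one]


theorem line (h : Pre m t) : sconj m t idP * sconj m t lineB = sconj m t lineC := by
  rw [eq_inv_of_mul_eq_one_left (standard_line h), inv_eq_of_mul_eq_one_right (sconj_sq h lineC)]

/-- All orders of the standard line. -/
theorem line_orders (h : Pre m t) :
    sconj m t lineB * sconj m t idP = sconj m t lineC ∧
    sconj m t idP * sconj m t lineC = sconj m t lineB ∧
    sconj m t lineC * sconj m t idP = sconj m t lineB ∧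
    sconj m t lineB * sconj m t lineC = sconj m t idP ∧
    sconj m t lineC * sconj m t lineB = sconj m t idP := by
  obtain ⟨q1, q2, q3, q4, q5⟩ :=
    perm_three (sconj_sq h idP) (sconj_sq h lineB) (sconj_sq h lineC) (standard_line h)
  refine ⟨?_, ?_, ?_, ?_, ?_⟩
  · rw [eq_inv_of_mul_eq_one_left q2, inv_eq_of_mul_eq_one_right (sconj_sq h lineC)]
  · rw [eq_inv_of_mul_eq_one_left q1, inv_eq_of_mul_eq_one_right (sconj_sq h lineB)]
  · rw [eq_inv_of_mul_eq_one_left q4, inv_eq_of_mul_eq_one_right (sconj_sq h lineB)]
  · rw [eq_inv_of_mul_eq_one_left q3, inv_eq_of_mul_eq_one_right (sconj_sq h idP)]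
  · rw [eq_inv_of_mul_eq_one_left q5, inv_eq_of_mul_eq_one_right (sconj_sq h idP)]

/-- The element defining the subgroup of shape 2^11 : M24 is the element of the sextet of `relS`. -/
theorem wordS_val (h : Pre m t) : altVal m t wordS = sconj m t relS := by
  have ga : good (wordS.getD 0 0) = true := by decide +kernel
  have gb : good (wordS.getD 1 0) = true := by decide +kernel
  have gc : good (wordS.getD 2 0) = true := by decide +kernel
  have gd : good (wordS.getD 3 0) = true := by decide +kernel
  have hw : wordS = [wordS.getD 0 0, wordS.getD 1 0, wordS.getD 2 0, wordS.getD 3 0] := by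
    decide +kernel
  have he : pcomp (pcomp (pcomp (wordS.getD 0 0) (wordS.getD 1 0)) (wordS.getD 2 0)) (wordS.getD 3 0) =
      idP := by decide +kernel
  have gab := good_pcomp ga gb
  have gabc := good_pcomp gab gc
  have hd : m (wordS.getD 3 0) =
      (m (wordS.getD 0 0) * m (wordS.getD 1 0) * m (wordS.getD 2 0))⁻¹ := by
    refine (inv_eq_of_mul_eq_one_right ?_).symm
    rw [← h.m_mul ga gb, ← h.m_mul gab gc, ← h.m_mul gabc gd, he, m_idP h]
  have hv : altVal m t wordS = tcj m t (wordS.getD 0 0) * tcj m t (pcomp (wordS.getD 0 0) (wordS.getD 1 0)) *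
      tcj m t (pcomp (pcomp (wordS.getD 0 0) (wordS.getD 1 0)) (wordS.getD 2 0)) := by
    conv_lhs => rw [hw]
    simp only [altVal, hd, tcj, h.m_mul gab gc, h.m_mul ga gb]
    group
  have hm : (10, 1, 0) ∈ tris := by decide +kernel
  have gS : good relS = true := by decide +kernel
  rw [hv, tcj_congr h ga (good_pcomp gS (good_letter 10)) (by decide +kernel),
    tcj_congr h gab (good_pcomp gS (good_letter 1)) (by decide +kernel),
    tcj_congr h gabc (good_pcomp gS (good_letter 0)) (by decide +kernel), sconj, ← tri_val h hm,
    conj_three h gS]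

/-- The cube in the definition of the subgroup, with `W` the code of the conjugating word and `Y`
of the second generator. -/
theorem cube_val (h : Pre m t) {Y W : ℕ} (hY : good Y = true) (hW : good W = true)
    (hw : (Nat.beq (pcomp (wordS.getD 0 0) W) Y && Nat.beq (pcomp W (wordS.getD 0 0)) (wordS.getD 1 0) &&
      Nat.beq (pcomp W (wordS.getD 0 0)) (wordS.getD 2 0) && Nat.beq W (wordS.getD 3 0)) = true) :
    (m Y * (m W)⁻¹ * t * m W) ^ 3 = sconj m t relS := by
  simp only [Bool.and_eq_true, Nat.beq_eq] at hw
  have ga : good (wordS.getD 0 0) = true := by decide +kernel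
  have e1 : m Y * (m W)⁻¹ = m (wordS.getD 0 0) := by
    rw [← hw.1.1.1, h.m_mul ga hW, mul_inv_cancel_right]
  have e2 : m (wordS.getD 1 0) = m W * m (wordS.getD 0 0) := by rw [← hw.1.1.2, h.m_mul hW ga]
  have e3 : m (wordS.getD 2 0) = m W * m (wordS.getD 0 0) := by rw [← hw.1.2, h.m_mul hW ga]
  have hl : wordS = [wordS.getD 0 0, wordS.getD 1 0, wordS.getD 2 0, wordS.getD 3 0] := by
    decide +kernel
  rw [← wordS_val h, hl, e1, altVal, altVal, altVal, altVal, e2, e3, ← hw.2]
  simp only [pow_succ, pow_zero, one_mul, mul_assoc]

/-- The classes of the three sextets of the standard line. -/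
theorem line_classes : cv (sext0.getD 0 0) = 490 ∧ vact lineB 490 = 3727 ∧ vact lineC 490 = 3941 ∧
    good lineB = true ∧ good lineC = true := by
  decide +kernel

/-- A mask of four points in the class of the standard sextet is one of its tetrads. -/
def classTet : Bool :=
  (List.range 24).all fun a => (List.range 24).all fun b => (List.range 24).all fun c =>
    let d := (pts.map fun i => cv (1 <<< i)).idxOf
      (490 ^^^ cv (1 <<< a) ^^^ cv (1 <<< b) ^^^ cv (1 <<< c))
    Nat.beq a b || Nat.beq a c || Nat.beq b c || Nat.beq d 24 || Nat.beq d a || Nat.beq d b ||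
      Nat.beq d c || sext0.contains ((1 <<< a) ||| (1 <<< b) ||| (1 <<< c) ||| (1 <<< d))

theorem classTet_ok : classTet = true := by decide +kernel

theorem pmask_point {P i : ℕ} (hP : valid P = true) (hi : i < 24) :
    pmask P (1 <<< i) = 1 <<< pimg P i := by
  refine Nat.eq_of_testBit_eq fun j => ?_
  rw [Bool.eq_iff_iff, testBit_pmask, Nat.one_shiftLeft, Nat.one_shiftLeft, Nat.testBit_two_pow,
    decide_eq_true_eq]
  constructor
  · rintro ⟨k, -, hk, rfl⟩
    rw [Nat.testBit_two_pow, decide_eq_true_eq] at hk
    rw [hk]
  · intro hj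
    exact ⟨i, hi, by rw [Nat.testBit_two_pow, decide_eq_true_eq], hj⟩

/-- A code fixing the class of the standard sextet permutes its tetrads. -/
theorem sext0_image {R : ℕ} (hR : good R = true) (h490 : vact R 490 = 490) {T : ℕ} (hT : T ∈ sext0) :
    pmask R T ∈ sext0 := by
  have hv := valid_of_good hR
  have hdata : (sext0.all fun T => Nat.beq (cv T) 490 &&
      match pts.filter fun i => T.testBit i with
      | [a, b, c, d] => Nat.beq T ((1 <<< a) ||| (1 <<< b) ||| (1 <<< c) ||| (1 <<< d)) &&
          Nat.beq T ((1 <<< a) ^^^ (1 <<< b) ^^^ (1 <<< c) ^^^ (1 <<< d)) &&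
          !(Nat.beq a b || Nat.beq a c || Nat.beq a d || Nat.beq b c || Nat.beq b d || Nat.beq c d)
      | _ => false) = true := by decide +kernel
  have hk := List.all_eq_true.1 hdata T hT
  simp only [Bool.and_eq_true, Nat.beq_eq] at hk
  obtain ⟨hc, hk⟩ := hk
  split at hk
  · rename_i a b c d hf
    simp only [Bool.and_eq_true, Nat.beq_eq, Bool.not_eq_true', Bool.or_eq_false_iff] at hk
    obtain ⟨⟨hor, hxor⟩, ⟨⟨⟨⟨⟨nab, nac⟩, nad⟩, nbc⟩, nbd⟩, ncd⟩⟩ := hk
    have hmem : ∀ i ∈ [a, b, c, d], i < 24 := fun i hi => by
      have h1 := List.mem_of_mem_filter (hf ▸ hi : i ∈ pts.filter fun i => T.testBit i)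
      exact mem_pts.1 h1
    have la := pimg_lt hv (hmem a (by simp))
    have lb := pimg_lt hv (hmem b (by simp))
    have lc := pimg_lt hv (hmem c (by simp))
    have ld := pimg_lt hv (hmem d (by simp))
    have hne : ∀ {i j : ℕ}, i ∈ [a, b, c, d] → j ∈ [a, b, c, d] → Nat.beq i j = false →
        pimg R i ≠ pimg R j := fun hi hj hn he => by
      rw [pimg_inj hv (hmem _ hi) (hmem _ hj) he] at hn
      simp at hn
    have hcls : cv (pmask R T) = 490 := by rw [cv_pmask hR, hc, h490]
    have himg : pmask R T =
        (1 <<< pimg R a) ||| (1 <<< pimg R b) ||| (1 <<< pimg R c) ||| (1 <<< pimg R d) := by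
      rw [hor, pmask_or hv, pmask_or hv, pmask_or hv, pmask_point hv (hmem a (by simp)),
        pmask_point hv (hmem b (by simp)), pmask_point hv (hmem c (by simp)),
        pmask_point hv (hmem d (by simp))]
    have hx : pmask R T =
        (1 <<< pimg R a) ^^^ (1 <<< pimg R b) ^^^ (1 <<< pimg R c) ^^^ (1 <<< pimg R d) := by
      rw [hxor, pmask_xor hv, pmask_xor hv, pmask_xor hv, pmask_point hv (hmem a (by simp)),
        pmask_point hv (hmem b (by simp)), pmask_point hv (hmem c (by simp)),
        pmask_point hv (hmem d (by simp))]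
    rw [hx, cv_xor, cv_xor, cv_xor] at hcls
    have hok := classTet_ok
    simp only [classTet, List.all_eq_true, List.mem_range] at hok
    have hq := hok _ la _ lb _ lc
    have hidx : (pts.map fun i => cv (1 <<< i)).idxOf
        (490 ^^^ cv (1 <<< pimg R a) ^^^ cv (1 <<< pimg R b) ^^^ cv (1 <<< pimg R c)) = pimg R d := by
      have e : 490 ^^^ cv (1 <<< pimg R a) ^^^ cv (1 <<< pimg R b) ^^^ cv (1 <<< pimg R c) =
          cv (1 <<< pimg R d) := by
        conv_lhs => rw [← hcls]
        generalize cv (1 <<< pimg R a) = A
        generalize cv (1 <<< pimg R b) = B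
        generalize cv (1 <<< pimg R c) = C
        generalize cv (1 <<< pimg R d) = D
        refine Nat.eq_of_testBit_eq fun j => ?_
        simp only [Nat.testBit_xor]
        cases A.testBit j <;> cases B.testBit j <;> cases C.testBit j <;> cases D.testBit j <;> rfl
      have hnd : (pts.map fun i => cv (1 <<< i)).Nodup := by decide +kernel
      have hlen : pimg R d < (pts.map fun i => cv (1 <<< i)).length := by
        rw [List.length_map]; exact ld
      have hget : (pts.map fun i => cv (1 <<< i))[pimg R d]'hlen = cv (1 <<< pimg R d) := by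
        rw [List.getElem_map]
        congr 2
        simp [show pts = List.range 24 from rfl]
      rw [e, ← hget]
      exact hnd.idxOf_getElem _ _
    simp only [hidx, Bool.or_eq_true, Nat.beq_eq, List.contains_iff_mem] at hq
    rcases hq with ((((((q | q) | q) | q) | q) | q) | q) | q
    · exact absurd q (hne (by simp) (by simp) nab)
    · exact absurd q (hne (by simp) (by simp) nac)
    · exact absurd q (hne (by simp) (by simp) nbc)
    · omega
    · exact absurd q.symm (hne (by simp) (by simp) nad)
    · exact absurd q.symm (hne (by simp) (by simp) nbd)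
    · exact absurd q.symm (hne (by simp) (by simp) ncd)
    · rw [himg]; exact q
  · exact absurd hk (by simp)

/-- The element of a sextet only depends on its class. -/
theorem sconj_congr_class (h : Pre m t) {P Q : ℕ} (hP : good P = true) (hQ : good Q = true)
    (hs : vact P 490 = vact Q 490) : sconj m t P = sconj m t Q := by
  have hR : good (quot Q P) = true := good_pcomp (good_pinv hQ) hP
  have key : ∀ {A x : ℕ}, good A = true → x < 2 ^ 24 → cv (pmask A x) = vact A (cv x) :=
    fun hA _ => cv_pmask hA _
  have h490 : vact (quot Q P) 490 = 490 := by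
    have hc : cv (sext0.getD 0 0) = 490 := line_classes.1
    have hT : sext0.getD 0 0 < 2 ^ 24 := by decide +kernel
    have h1 : cv (pmask (quot Q P) (sext0.getD 0 0)) = vact (quot Q P) 490 := by
      rw [key hR hT, hc]
    rw [← h1, quot, pmask_pcomp (valid_pinv Q) (valid_of_good hP), cv_pmask (good_pinv hQ),
      cv_pmask hP, hc, hs, ← hc, ← cv_pmask hQ, ← cv_pmask (good_pinv hQ),
      pmask_pinv_pmask (valid_of_good hQ) hT]
  have hfix := conj_sv h hR fun T hT => sext0_image hR h490 hT
  simp only [sconj, m_quot h hP hQ, mul_inv_rev]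
  calc m Q * m (quot Q P) * sv m t * ((m (quot Q P))⁻¹ * (m Q)⁻¹)
      = m Q * (m (quot Q P) * sv m t * (m (quot Q P))⁻¹) * (m Q)⁻¹ := by group
    _ = _ := by rw [hfix]

end Cfsg.Agent.J4XResidue54
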