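import Cfsg.Agent.Lib.J4XPermInv54
import Cfsg.Agent.Lib.J4XResidue54Data

/-!
Conjugates of the third generator indexed by trios, and products of three of them indexed by sextets.
-/

set_option autoImplicit false
set_option maxRecDepth 100000

namespace Cfsg.Agent.J4XResidue54

open Cfsg.Agent.GolayBasic Cfsg.Agent.GolayPerm Cfsg.Agent.GolayEnumComp Cfsg.Agent.J4XBase18
open Cfsg.Agent.J4XPermInv54

variable {G : Type*} [Group G]

/-- What is used about the subgroup M24 and the third generator. -/
structure Pre (m : ℕ → G) (t : G) : Prop where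
  m_mul : ∀ {P Q : ℕ}, good P = true → good Q = true → m (pcomp P Q) = m P * m Q
  kcomm : ∀ {P : ℕ}, good P = true → fixT0 P = true → t * m P = m P * t
  tsq : t * t = 1
  rels : altVal m t relA = 1 ∧ altVal m t relB = 1

/-- The conjugate of `t` belonging to the trio of `P`. -/
def tcj (m : ℕ → G) (t : G) (P : ℕ) : G := m P * t * (m P)⁻¹

/-- Every octad of the trio of `P` is one of the trio of `Q`. -/
def sameTrio (P Q : ℕ) : Bool :=
  trio0.all fun o => (trio0.map (pmask Q)).contains (pmask P o)

/-- Every tetrad of the sextet of `P` is one of the sextet of `Q`. -/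
def sameSext (P Q : ℕ) : Bool :=
  sext0.all fun T => (sext0.map (pmask Q)).contains (pmask P T)

/-- Letter number `i` of the standard sextet. -/
def letter (i : ℕ) : ℕ := let15.getD i idP

/-- The trio of `P` lies over the sextet of `R`. -/
def onSext (R P : ℕ) : Bool :=
  (List.range 15).any fun i => sameTrio P (pcomp R (letter i))

/-- The element of the standard sextet. -/
def sv (m : ℕ → G) (t : G) : G :=
  tcj m t (letter (tris.getD 0 (0, 0, 0)).1) * tcj m t (letter (tris.getD 0 (0, 0, 0)).2.1) *
    tcj m t (letter (tris.getD 0 (0, 0, 0)).2.2)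

/-- The element of the sextet of `P`. -/
def sconj (m : ℕ → G) (t : G) (P : ℕ) : G := m P * sv m t * (m P)⁻¹

theorem good_letter (i : ℕ) : good (letter i) = true := by
  have h : let15.all good = true := by decide +kernel
  unfold letter
  by_cases hi : i < let15.length
  · rw [List.getD_eq_getElem _ _ hi]; exact List.all_eq_true.1 h _ (List.getElem_mem hi)
  · rw [List.getD_eq_default _ _ (Nat.le_of_not_lt hi)]; exact good_idP

variable {m : ℕ → G} {t : G}

theorem m_idP (h : Pre m t) : m idP = 1 := by
  have e : pcomp idP idP = idP := by decide +kernel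
  have := h.m_mul good_idP good_idP
  rw [e] at this
  exact right_eq_mul.mp this

theorem m_inv (h : Pre m t) {P : ℕ} (hP : good P = true) : (m P)⁻¹ = m (pinv P) := by
  refine inv_eq_of_mul_eq_one_right ?_
  rw [← h.m_mul hP (good_pinv hP), pcomp_pinv (valid_of_good hP), m_idP h]

/-- The quotient of two codes. -/
noncomputable def quot (Q P : ℕ) : ℕ := pcomp (pinv Q) P

theorem m_quot (h : Pre m t) {P Q : ℕ} (hP : good P = true) (hQ : good Q = true) :
    m P = m Q * m (quot Q P) := by
  rw [quot, h.m_mul (good_pinv hQ) hP, ← m_inv h hQ, mul_inv_cancel_left]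

theorem pmask_quot {P Q x y : ℕ} (hP : good P = true) (hQ : good Q = true) (hy : y < 2 ^ 24)
    (he : pmask P x = pmask Q y) : pmask (quot Q P) x = y := by
  rw [quot, pmask_pcomp (valid_pinv Q) (valid_of_good hP), he, pmask_pinv_pmask (valid_of_good hQ) hy]

theorem trio0_lt {o : ℕ} (ho : o ∈ trio0) : o < 2 ^ 24 := by
  have h : trio0.all (fun o => decide (o < 2 ^ 24)) = true := by decide +kernel
  exact of_decide_eq_true (List.all_eq_true.1 h o ho)

theorem tcj_congr (h : Pre m t) {P Q : ℕ} (hP : good P = true) (hQ : good Q = true)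
    (hs : sameTrio P Q = true) : tcj m t P = tcj m t Q := by
  have hR : good (quot Q P) = true := good_pcomp (good_pinv hQ) hP
  have hf : fixT0 (quot Q P) = true := by
    simp only [sameTrio, List.all_eq_true, List.contains_iff_mem] at hs
    simp only [fixT0, List.all_eq_true, List.contains_iff_mem]
    intro o ho
    obtain ⟨o', ho', he⟩ := List.mem_map.1 (hs o ho)
    rw [pmask_quot hP hQ (trio0_lt ho') he.symm]
    exact ho'
  simp only [tcj, m_quot h hP hQ, mul_inv_rev]
  have := h.kcomm hR hf
  calc m Q * m (quot Q P) * t * ((m (quot Q P))⁻¹ * (m Q)⁻¹)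
      = m Q * (m (quot Q P) * t) * (m (quot Q P))⁻¹ * (m Q)⁻¹ := by group
    _ = m Q * (t * m (quot Q P)) * (m (quot Q P))⁻¹ * (m Q)⁻¹ := by rw [this]
    _ = _ := by group

theorem tcj_conj (h : Pre m t) {R P : ℕ} (hR : good R = true) (hP : good P = true) :
    m R * tcj m t P * (m R)⁻¹ = tcj m t (pcomp R P) := by
  simp only [tcj, h.m_mul hR hP, mul_inv_rev]
  group

theorem tcj_idP (h : Pre m t) : tcj m t idP = t := by
  simp [tcj, m_idP h]

theorem tcj_sq (h : Pre m t) (P : ℕ) : tcj m t P * tcj m t P = 1 := by
  simp only [tcj]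
  calc m P * t * (m P)⁻¹ * (m P * t * (m P)⁻¹) = m P * (t * t) * (m P)⁻¹ := by group
    _ = 1 := by rw [h.tsq]; group

theorem sconj_idP (h : Pre m t) : sconj m t idP = sv m t := by
  simp [sconj, m_idP h]

theorem sconj_conj (h : Pre m t) {R P : ℕ} (hR : good R = true) (hP : good P = true) :
    m R * sconj m t P * (m R)⁻¹ = sconj m t (pcomp R P) := by
  simp only [sconj, h.m_mul hR hP, mul_inv_rev]
  group

/-- The products of three letters, conjugated. -/
theorem conj_three (h : Pre m t) {R a b c : ℕ} (hR : good R = true) :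
    m R * (tcj m t (letter a) * tcj m t (letter b) * tcj m t (letter c)) * (m R)⁻¹ =
      tcj m t (pcomp R (letter a)) * tcj m t (pcomp R (letter b)) * tcj m t (pcomp R (letter c)) := by
  simp only [← tcj_conj h hR (good_letter _)]
  group

/-- Four factors of the first relation. -/
theorem relA_conjugates (h : Pre m t) {a b c d : ℕ} (ha : good a = true) (hb : good b = true)
    (hc : good c = true) (hd : good d = true) (hprod : pcomp (pcomp (pcomp a b) c) d = idP)
    (hv : altVal m t [a, b, c, d] = 1) :
    tcj m t a * tcj m t (pcomp a b) * tcj m t (pcomp (pcomp a b) c) = 1 := by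
  have hab := good_pcomp ha hb
  have hd' : m a * m b * m c * m d = 1 := by
    rw [← h.m_mul ha hb, ← h.m_mul hab hc, ← h.m_mul (good_pcomp hab hc) hd, hprod, m_idP h]
  have hd2 : m d = (m a * m b * m c)⁻¹ := (inv_eq_of_mul_eq_one_right hd').symm
  simp only [altVal, hd2] at hv
  simp only [tcj, h.m_mul hab hc, h.m_mul ha hb]
  refine Eq.trans ?_ hv
  group

end Cfsg.Agent.J4XResidue54
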