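import Cfsg.Agent.Lib.J4XResidue54Defs
import Cfsg.Agent.Lib.J4XSextet54Data

/-!
The fifteen conjugates of the third generator over one sextet: they commute and the twenty triangles
have one product, which only depends on the sextet.
-/

set_option autoImplicit false
set_option maxRecDepth 100000

namespace Cfsg.Agent.J4XResidue54

open Cfsg.Agent.CosetCertCore
open Cfsg.Agent.GolayBasic Cfsg.Agent.GolayPerm Cfsg.Agent.GolayEnumComp Cfsg.Agent.J4XBase18
open Cfsg.Agent.J4XPermInv54

variable {G : Type} [Group G] {m : ℕ → G} {t : G}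

/-- The relation of the first kind, carried by a code. -/
theorem triple (h : Pre m t) {R : ℕ} (hR : good R = true) {a b c : ℕ} (ha : good a = true)
    (hb : good b = true) (hc : good c = true)
    (ea : sameTrio a (pcomp R (relA.getD 0 0)) = true)
    (eb : sameTrio b (pcomp R (pcomp (relA.getD 0 0) (relA.getD 1 0))) = true)
    (ec : sameTrio c (pcomp R (pcomp (pcomp (relA.getD 0 0) (relA.getD 1 0)) (relA.getD 2 0))) = true) :
    tcj m t a * tcj m t b * tcj m t c = 1 := by
  have g0 : good (relA.getD 0 0) = true := by decide +kernel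
  have g1 : good (relA.getD 1 0) = true := by decide +kernel
  have g2 : good (relA.getD 2 0) = true := by decide +kernel
  have g3 : good (relA.getD 3 0) = true := by decide +kernel
  have e4 : pcomp (pcomp (pcomp (relA.getD 0 0) (relA.getD 1 0)) (relA.getD 2 0)) (relA.getD 3 0) = idP := by
    decide +kernel
  have hw : altVal m t [relA.getD 0 0, relA.getD 1 0, relA.getD 2 0, relA.getD 3 0] = 1 := by
    have e : [relA.getD 0 0, relA.getD 1 0, relA.getD 2 0, relA.getD 3 0] = relA := by decide +kernel
    rw [e]; exact h.rels.1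
  have h01 := good_pcomp g0 g1
  have h012 := good_pcomp h01 g2
  have base3 := relA_conjugates h g0 g1 g2 g3 e4 hw
  rw [tcj_congr h ha (good_pcomp hR g0) ea, tcj_congr h hb (good_pcomp hR h01) eb,
    tcj_congr h hc (good_pcomp hR h012) ec, ← tcj_conj h hR g0, ← tcj_conj h hR h01, ← tcj_conj h hR h012]
  calc m R * tcj m t (relA.getD 0 0) * (m R)⁻¹ *
          (m R * tcj m t (pcomp (relA.getD 0 0) (relA.getD 1 0)) * (m R)⁻¹) *
          (m R * tcj m t (pcomp (pcomp (relA.getD 0 0) (relA.getD 1 0)) (relA.getD 2 0)) * (m R)⁻¹)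
      = m R * (tcj m t (relA.getD 0 0) * tcj m t (pcomp (relA.getD 0 0) (relA.getD 1 0)) *
          tcj m t (pcomp (pcomp (relA.getD 0 0) (relA.getD 1 0)) (relA.getD 2 0))) * (m R)⁻¹ := by group
    _ = 1 := by rw [base3]; group

/-- All six orders of a line. -/
def lineWords : List (List ℕ) :=
  lines15.flatMap fun l => [[l.1, l.2.1, l.2.2.1], [l.1, l.2.2.1, l.2.1], [l.2.1, l.1, l.2.2.1],
    [l.2.1, l.2.2.1, l.1], [l.2.2.1, l.1, l.2.1], [l.2.2.1, l.2.1, l.1]]

/-- A line is the image of the standard triple. -/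
def lineOk (l : ℕ × ℕ × ℕ × ℕ) : Bool :=
  good l.2.2.2 && sameTrio (letter l.1) (pcomp l.2.2.2 (relA.getD 0 0)) &&
    sameTrio (letter l.2.1) (pcomp l.2.2.2 (pcomp (relA.getD 0 0) (relA.getD 1 0))) &&
    sameTrio (letter l.2.2.1)
      (pcomp l.2.2.2 (pcomp (pcomp (relA.getD 0 0) (relA.getD 1 0)) (relA.getD 2 0)))

theorem lines15_ok : lines15.all lineOk = true := by decide +kernel

theorem perm_three {x y z : G} (hx : x * x = 1) (hy : y * y = 1) (hz : z * z = 1) (h : x * y * z = 1) :
    x * z * y = 1 ∧ y * x * z = 1 ∧ y * z * x = 1 ∧ z * x * y = 1 ∧ z * y * x = 1 := by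
  have ix : x⁻¹ = x := inv_eq_of_mul_eq_one_right hx
  have iy : y⁻¹ = y := inv_eq_of_mul_eq_one_right hy
  have iz : z⁻¹ = z := inv_eq_of_mul_eq_one_right hz
  have hxy : x * y = z := by rw [eq_inv_of_mul_eq_one_left h, iz]
  have hyx : y * x = z := by
    rw [← iz, ← hxy, mul_inv_rev, ix, iy]
  have hzx : z * x = y := by rw [← hyx, mul_assoc, hx, mul_one]
  refine ⟨?_, ?_, ?_, ?_, ?_⟩
  · rw [← hxy, ← mul_assoc x x y, hx, one_mul, hy]
  · rw [hyx, hz]
  · rw [mul_assoc, hzx, hy]
  · rw [hzx, hy]
  · rw [← hxy, mul_assoc x y y, hy, mul_one, hx]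

theorem lineWords_val (h : Pre m t) :
    ∀ w ∈ lineWords, val (fun i => tcj m t (letter i)) w = 1 := by
  intro w hw
  simp only [lineWords, List.mem_flatMap] at hw
  obtain ⟨⟨a, b, c, R⟩, hl, hw⟩ := hw
  have hk := List.all_eq_true.1 lines15_ok _ hl
  simp only [lineOk, Bool.and_eq_true] at hk
  have h3 := triple h hk.1.1.1 (good_letter a) (good_letter b) (good_letter c) hk.1.1.2 hk.1.2 hk.2
  obtain ⟨q1, q2, q3, q4, q5⟩ := perm_three (tcj_sq h _) (tcj_sq h _) (tcj_sq h _) h3
  simp only [List.mem_cons, List.not_mem_nil, or_false] at hw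
  rcases hw with rfl | rfl | rfl | rfl | rfl | rfl <;>
    simp only [val_cons, val_nil, mul_one, ← mul_assoc] <;> assumption

/-- Words checked to be trivial. -/
noncomputable def pathOk (q : List ℕ × ℕ × ℕ) : Bool :=
  optAll (walk J4XSextet54Data.cert.fact J4XSextet54Data.size q.2.1 q.2.2 0 q.1) fun r => Nat.beq r 0

theorem paths_ok : (J4XSextet54Data.commPaths ++ J4XSextet54Data.triPaths).all pathOk = true := by
  decide +kernel

theorem path_val (h : Pre m t) {q : List ℕ × ℕ × ℕ}
    (hq : q ∈ J4XSextet54Data.commPaths ++ J4XSextet54Data.triPaths) :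
    val (fun i => tcj m t (letter i)) q.1 = 1 := by
  have hctx : Ctx (fun i => tcj m t (letter i)) (1 : G) J4XSextet54Data.cert := by
    refine ⟨fun x => tcj_sq h _, fun w hw => ?_, fun w hw => ?_⟩
    · have hk : (J4XSextet54Data.cert.rels.all fun w =>
          decide (w ∈ lineWords ++ (List.range 15).map fun i => [i, i])) = true := by decide +kernel
      simp only [List.all_eq_true, decide_eq_true_eq] at hk
      rcases List.mem_append.1 (hk w hw) with hm | hm
      · exact lineWords_val h w hm
      · obtain ⟨i, -, rfl⟩ := List.mem_map.1 hm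
        simp only [val_cons, val_nil, mul_one]
        exact tcj_sq h _
    · have hk : J4XSextet54Data.cert.sgens = [] := by decide +kernel
      simp [hk] at hw
  obtain ⟨a, ha, hr⟩ := optAll_eq_true (List.all_eq_true.1 paths_ok q hq)
  have hs := walk_sound (fun i => tcj m t (letter i)) (nodeVal (fun i => tcj m t (letter i)) 1 _)
    (fun x => tcj_sq h _) J4XSextet54Data.cert.fact J4XSextet54Data.size
    (J4XSextet54Data.valid _ _ hctx) _ _ _ _ _ ha
  rw [Nat.beq_eq.mp hr, nodeVal_zero, act_eq _ (fun x => tcj_sq h _), smul_eq_mul, mul_one,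
    inv_eq_one] at hs
  exact hs

theorem comm_letters (h : Pre m t) {i j : ℕ} (hi : i < 15) (hj : j < 15) :
    Commute (tcj m t (letter i)) (tcj m t (letter j)) := by
  have hk : ((List.range 15).all fun i => (List.range 15).all fun j =>
      (J4XSextet54Data.commPaths.map Prod.fst).contains [i, j, i, j]) = true := by decide +kernel
  simp only [List.all_eq_true, List.contains_iff_mem, List.mem_range] at hk
  obtain ⟨q, hq, he⟩ := List.mem_map.1 (hk i hi j hj)
  have hv := path_val h (List.mem_append_left _ hq)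
  rw [he] at hv
  simp only [val_cons, val_nil, mul_one] at hv
  have h2 : (tcj m t (letter i) * tcj m t (letter j))⁻¹ = tcj m t (letter i) * tcj m t (letter j) :=
    inv_eq_of_mul_eq_one_right (by rw [mul_assoc]; exact hv)
  rw [mul_inv_rev, inv_eq_of_mul_eq_one_right (tcj_sq h _), inv_eq_of_mul_eq_one_right (tcj_sq h _)] at h2
  exact h2.symm

theorem tri_val (h : Pre m t) {a b c : ℕ} (hm : (a, b, c) ∈ tris) :
    tcj m t (letter a) * tcj m t (letter b) * tcj m t (letter c) = sv m t := by
  have hk : (tris.all fun q => (J4XSextet54Data.triPaths.map Prod.fst).contains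
      [q.1, q.2.1, q.2.2, (tris.getD 0 (0, 0, 0)).2.2, (tris.getD 0 (0, 0, 0)).2.1,
        (tris.getD 0 (0, 0, 0)).1]) = true := by decide +kernel
  simp only [List.all_eq_true, List.contains_iff_mem] at hk
  obtain ⟨q, hq, he⟩ := List.mem_map.1 (hk _ hm)
  have hv := path_val h (List.mem_append_right _ hq)
  rw [he] at hv
  simp only [val_cons, val_nil, mul_one, ← mul_assoc] at hv
  have h2 := eq_inv_of_mul_eq_one_left hv
  rw [inv_eq_of_mul_eq_one_right (tcj_sq h _)] at h2
  have h3 := congrArg (fun z => z * tcj m t (letter (tris.getD 0 (0, 0, 0)).2.1)) h2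
  simp only [mul_assoc _ (tcj m t (letter (tris.getD 0 (0, 0, 0)).2.1)), tcj_sq h, mul_one] at h3
  rw [sv]
  have h4 : tcj m t (letter a) * tcj m t (letter b) * tcj m t (letter c) *
      tcj m t (letter (tris.getD 0 (0, 0, 0)).2.2) =
      tcj m t (letter (tris.getD 0 (0, 0, 0)).1) * tcj m t (letter (tris.getD 0 (0, 0, 0)).2.1) := h3
  rw [← h4, mul_assoc _ (tcj m t (letter (tris.getD 0 (0, 0, 0)).2.2)), tcj_sq h, mul_one]

theorem tris_lt {a b c : ℕ} (hm : (a, b, c) ∈ tris) : a < 15 ∧ b < 15 ∧ c < 15 := by
  have hk : (tris.all fun q => Nat.blt q.1 15 && Nat.blt q.2.1 15 && Nat.blt q.2.2 15) = true := by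
    decide +kernel
  have := List.all_eq_true.1 hk _ hm
  simp only [Bool.and_eq_true, Nat.blt_eq] at this
  exact ⟨this.1.1, this.1.2, this.2⟩

theorem comm_letter_sv (h : Pre m t) {i : ℕ} (hi : i < 15) :
    Commute (tcj m t (letter i)) (sv m t) := by
  have hm : tris.getD 0 (0, 0, 0) ∈ tris := by decide +kernel
  obtain ⟨ha, hb, hc⟩ := tris_lt (a := (tris.getD 0 (0, 0, 0)).1) (b := (tris.getD 0 (0, 0, 0)).2.1)
    (c := (tris.getD 0 (0, 0, 0)).2.2) hm
  exact ((comm_letters h hi ha).mul_right (comm_letters h hi hb)).mul_right (comm_letters h hi hc)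

theorem sq_three {a b c : G} (ha : a * a = 1) (hb : b * b = 1) (hc : c * c = 1) (hab : Commute a b)
    (hcab : Commute c (a * b)) : a * b * c * (a * b * c) = 1 := by
  calc a * b * c * (a * b * c) = a * b * (c * (a * b)) * c := by simp only [mul_assoc]
    _ = a * b * (a * b * c) * c := by rw [hcab.eq]
    _ = a * (b * a) * b * (c * c) := by simp only [mul_assoc]
    _ = a * (a * b) * b * (c * c) := by rw [hab.eq]
    _ = 1 := by rw [← mul_assoc a a b, ha, one_mul, hb, one_mul, hc]

theorem sv_sq (h : Pre m t) : sv m t * sv m t = 1 := by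
  have hm : tris.getD 0 (0, 0, 0) ∈ tris := by decide +kernel
  obtain ⟨ha, hb, hc⟩ := tris_lt (a := (tris.getD 0 (0, 0, 0)).1) (b := (tris.getD 0 (0, 0, 0)).2.1)
    (c := (tris.getD 0 (0, 0, 0)).2.2) hm
  have cab := comm_letters h ha hb
  have cc := (comm_letters h hc ha).mul_right (comm_letters h hc hb)
  rw [sv]
  exact sq_three (tcj_sq h _) (tcj_sq h _) (tcj_sq h _) cab cc

/-- The trio number of a list of three pairs of tetrads, in the image of the tetrads. -/
def imgTrio (L : List ℕ) (i : ℕ) : Option ℕ :=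
  (List.range 15).find? fun k => (pairs15.getD i []).all fun p =>
    (trio0.map (pmask (letter k))).contains (L.getD p.1 0 ||| L.getD p.2 0)

/-- The triangle moved along a permutation of the tetrads is a triangle. -/
def imgOk (L : List ℕ) : Bool :=
  match imgTrio L (tris.getD 0 (0, 0, 0)).1, imgTrio L (tris.getD 0 (0, 0, 0)).2.1,
      imgTrio L (tris.getD 0 (0, 0, 0)).2.2 with
  | some a, some b, some c => tris.contains (a, b, c)
  | _, _, _ => false

theorem img_ok : sext0.permutations'.all imgOk = true := by decide +kernel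

theorem pairs15_ok : ((List.range 15).all fun i =>
    trio0.map (pmask (letter i)) == (pairs15.getD i []).map fun p =>
      sext0.getD p.1 0 ||| sext0.getD p.2 0) = true := by decide +kernel

theorem sext0_lt {T : ℕ} (hT : T ∈ sext0) : T < 2 ^ 24 := by
  have h : sext0.all (fun T => decide (T < 2 ^ 24)) = true := by decide +kernel
  exact of_decide_eq_true (List.all_eq_true.1 h T hT)

/-- A code permuting the tetrads of the standard sextet fixes its element. -/
theorem conj_sv (h : Pre m t) {R : ℕ} (hR : good R = true)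
    (hs : ∀ T ∈ sext0, pmask R T ∈ sext0) : m R * sv m t * (m R)⁻¹ = sv m t := by
  have hv := valid_of_good hR
  have hperm : (sext0.map (pmask R)).Perm sext0 := by
    have hnd : sext0.Nodup := by decide +kernel
    have hnd' : (sext0.map (pmask R)).Nodup :=
      List.Nodup.map_on (fun x hx y hy hxy => by
        have := congrArg (pmask (pinv R)) hxy
        rwa [pmask_pinv_pmask hv (sext0_lt hx), pmask_pinv_pmask hv (sext0_lt hy)] at this) hnd
    refine List.Perm.symm ((hnd'.subperm ?_).perm_of_length_le (by simp)).symm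
    intro x hx
    obtain ⟨T, hT, rfl⟩ := List.mem_map.1 hx
    exact hs T hT
  have hok := List.all_eq_true.1 img_ok _ (List.mem_permutations'.2 hperm)
  simp only [imgOk] at hok
  have key : ∀ i k, i < 15 → imgTrio (sext0.map (pmask R)) i = some k →
      tcj m t (pcomp R (letter i)) = tcj m t (letter k) := by
    intro i k hi hk
    refine tcj_congr h (good_pcomp hR (good_letter i)) (good_letter k) ?_
    have h1 := List.find?_some hk
    simp only [List.all_eq_true] at h1
    have h2 := List.all_eq_true.1 pairs15_ok i (List.mem_range.2 hi)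
    simp only [beq_iff_eq] at h2
    have hlen : (pairs15.getD i []).all (fun p => Nat.blt p.1 6 && Nat.blt p.2 6) = true := by
      have : (List.range 15).all (fun i =>
          (pairs15.getD i []).all (fun p => Nat.blt p.1 6 && Nat.blt p.2 6)) = true := by decide +kernel
      exact List.all_eq_true.1 this i (List.mem_range.2 hi)
    simp only [sameTrio, List.all_eq_true, List.contains_iff_mem]
    intro o ho
    rw [pmask_pcomp hv (valid_of_good (good_letter i))]
    have ho' : pmask (letter i) o ∈ trio0.map (pmask (letter i)) := List.mem_map_of_mem ho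
    rw [h2] at ho'
    obtain ⟨p, hp, he⟩ := List.mem_map.1 ho'
    rw [← he, pmask_or hv]
    have hpl := List.all_eq_true.1 hlen p hp
    simp only [Bool.and_eq_true, Nat.blt_eq] at hpl
    have hmem := h1 p hp
    have hl : sext0.length = 6 := rfl
    rw [List.contains_iff_mem] at hmem
    rw [List.getD_eq_getElem _ _ (by rw [List.length_map]; omega),
      List.getD_eq_getElem _ _ (by rw [List.length_map]; omega), List.getElem_map, List.getElem_map] at hmem
    rw [List.getD_eq_getElem _ _ (by omega), List.getD_eq_getElem _ _ (by omega)]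
    exact hmem
  have hm : tris.getD 0 (0, 0, 0) ∈ tris := by decide +kernel
  obtain ⟨ha, hb, hc⟩ := tris_lt (a := (tris.getD 0 (0, 0, 0)).1) (b := (tris.getD 0 (0, 0, 0)).2.1)
    (c := (tris.getD 0 (0, 0, 0)).2.2) hm
  split at hok
  · rename_i a b c e1 e2 e3
    rw [List.contains_iff_mem] at hok
    conv_lhs => rw [sv, conj_three h hR, key _ _ ha e1, key _ _ hb e2, key _ _ hc e3]
    exact tri_val h hok
  · exact absurd hok (by simp)

theorem sconj_congr (h : Pre m t) {P Q : ℕ} (hP : good P = true) (hQ : good Q = true)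
    (hs : sameSext P Q = true) : sconj m t P = sconj m t Q := by
  simp only [sameSext, List.all_eq_true, List.contains_iff_mem] at hs
  have hR : good (quot Q P) = true := good_pcomp (good_pinv hQ) hP
  have hfix := conj_sv h hR fun T hT => by
    obtain ⟨T', hT', he⟩ := List.mem_map.1 (hs T hT)
    rw [pmask_quot hP hQ (sext0_lt hT') he.symm]
    exact hT'
  simp only [sconj, m_quot h hP hQ, mul_inv_rev]
  calc m Q * m (quot Q P) * sv m t * ((m (quot Q P))⁻¹ * (m Q)⁻¹)
      = m Q * (m (quot Q P) * sv m t * (m (quot Q P))⁻¹) * (m Q)⁻¹ := by group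
    _ = _ := by rw [hfix]

theorem sconj_sq (h : Pre m t) (P : ℕ) : sconj m t P * sconj m t P = 1 := by
  simp only [sconj]
  calc m P * sv m t * (m P)⁻¹ * (m P * sv m t * (m P)⁻¹) = m P * (sv m t * sv m t) * (m P)⁻¹ := by group
    _ = 1 := by rw [sv_sq h]; group

theorem exists_letter (h : Pre m t) {R P : ℕ} (hR : good R = true) (hP : good P = true)
    (hs : onSext R P = true) :
    ∃ i < 15, tcj m t P = m R * tcj m t (letter i) * (m R)⁻¹ := by
  simp only [onSext, List.any_eq_true, List.mem_range] at hs
  obtain ⟨i, hi, hs⟩ := hs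
  exact ⟨i, hi, by rw [tcj_conj h hR (good_letter i)]; exact tcj_congr h hP (good_pcomp hR (good_letter i)) hs⟩

theorem commute_conj {a b c : G} (hab : Commute a b) : Commute (c * a * c⁻¹) (c * b * c⁻¹) := by
  show c * a * c⁻¹ * (c * b * c⁻¹) = c * b * c⁻¹ * (c * a * c⁻¹)
  calc c * a * c⁻¹ * (c * b * c⁻¹) = c * (a * b) * c⁻¹ := by group
    _ = c * (b * a) * c⁻¹ := by rw [hab.eq]
    _ = _ := by group

/-- Conjugates belonging to trios over a common sextet commute. -/
theorem tcj_comm (h : Pre m t) {R P Q : ℕ} (hR : good R = true) (hP : good P = true)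
    (hQ : good Q = true) (hp : onSext R P = true) (hq : onSext R Q = true) :
    Commute (tcj m t P) (tcj m t Q) := by
  obtain ⟨i, hi, ei⟩ := exists_letter h hR hP hp
  obtain ⟨j, hj, ej⟩ := exists_letter h hR hQ hq
  rw [ei, ej]
  exact commute_conj (comm_letters h hi hj)

/-- A conjugate commutes with the elements of the sextets on its trio. -/
theorem tcj_comm_sconj (h : Pre m t) {R P : ℕ} (hR : good R = true) (hP : good P = true)
    (hp : onSext R P = true) : Commute (tcj m t P) (sconj m t R) := by
  obtain ⟨i, hi, ei⟩ := exists_letter h hR hP hp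
  rw [ei]
  exact commute_conj (comm_letter_sv h hi)

/-- The third generator commutes with the elements of the sextets on `trio0`. -/
theorem t_comm_sconj (h : Pre m t) {R : ℕ} (hR : good R = true) (hp : onSext R idP = true) :
    Commute t (sconj m t R) := by
  have := tcj_comm_sconj h hR good_idP hp
  rwa [tcj_idP h] at this

end Cfsg.Agent.J4XResidue54
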