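import Cfsg.Agent.Lib.J4XElem23
import Cfsg.Agent.Lib.J4XResidue54
import Cfsg.Agent.Lib.J4XLaws10

/-!
The elementary abelian subgroup inside the presented fourth Janko group, and the assembly of the data
needed by the coset certificate.
-/

set_option autoImplicit false
set_option maxRecDepth 100000

namespace Cfsg.Agent.J4XSetup23

open Cfsg.Agent.GolayPerm Cfsg.Agent.GolayEnumComp Cfsg.Agent.J4XBase18
open Cfsg.Agent.J4XElem23 Cfsg.Agent.J4XElemData23
open Cfsg.Agent.J4M24Iso13 (eX eY eYi)
open Cfsg.Agent.J4XPerm10 (m q)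
open Cfsg.Agent.J4XResidue54 (Pre sconj)

/-- The third generator. -/
def tt : Cfsg.Spor.J4 := q Cfsg.Spor.J4.t

theorem tsq : tt * tt = 1 := by
  have h : q (Cfsg.Spor.J4.t ^ 2) = 1 := by
    rw [J4XPerm10.q, PresentedGroup.mk_eq_one_iff]
    exact Subgroup.subset_normalClosure (Or.inr (by simp [Cfsg.Spor.J4.extra]))
  rwa [map_pow, pow_two] at h

theorem pre : Pre m tt where
  m_mul := J4XPerm10.m_mul
  kcomm := J4XPerm10.kcomm
  tsq := tsq
  rels := J4XPerm10.rels

theorem vlaws : VLaws where
  good_mul := J4XPerm10.good_pcomp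
  inE_xor := J4XPerm10.inE_xor
  inE_vact := J4XPerm10.inE_vact
  vact_xor := fun hP _ _ => J4XPerm10.vact_xor hP _ _
  vact_pcomp := fun hP hQ _ => J4XPerm10.vact_pcomp hP hQ _
  vact_idP := J4XPerm10.vact_idP

open scoped Classical in
/-- The involution of a sextet class. -/
noncomputable def sfun (v : ℕ) : Cfsg.Spor.J4 :=
  if h : ∃ P, good P = true ∧ vact P 490 = v then sconj m tt h.choose else 1

theorem s_eq {Q : ℕ} (hQ : good Q = true) : sfun (vact Q 490) = sconj m tt Q := by
  have h : ∃ P, good P = true ∧ vact P 490 = vact Q 490 := ⟨Q, hQ, rfl⟩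
  rw [sfun, dif_pos h]
  exact J4XResidue54.sconj_congr_class pre h.choose_spec.1 hQ h.choose_spec.2

theorem act {P Q : ℕ} (hP : good P = true) (hQ : good Q = true) :
    m P * sfun (vact Q 490) = sfun (vact P (vact Q 490)) * m P := by
  rw [← J4XPerm10.vact_pcomp hP hQ, s_eq hQ, s_eq (J4XPerm10.good_pcomp hP hQ),
    ← J4XResidue54.sconj_conj pre hP hQ, inv_mul_cancel_right]

/-- Codes carrying the standard line to the lines of the first trio. -/
def lineCodes : List ℕ :=
  [337501122406054913175120696706676373,
    56533029438492119636565912386608808,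
    425093376140950752361519756652184674,
    670132659097921891474581570921351925,
    501630911399216687876717655422050887,
    719971769428082716369079304250898433,
    900884389806197519132738722889764113,
    958629609542948857254268904836319252,
    46751670003262002047071481365969553,
    550614259114318871848011824565987570,
    445610184427258707556506135861728739,
    603871112849120419647477093198072214,
    417071254196712348274101490469516655,
    967116474448488337615813642427751072,
    465492776204247937471506147575092548,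
    847671743200340332320172408742449717,
    888208922407460273880060275869724400,
    112256222395100799322467064992776299,
    984818244535754528103549039458486304,
    184411527136427644206136799729959531,
    58433788286173903301979337267653365,
    529217010033594306839215940317973938,
    941363159292110845637066646962125997,
    540735563288633780499582562451402134,
    432707787484634829614697868396384559,
    752080191365896447585805788492881078,
    403017198845800043743287318843284811,
    262753868391361490842838883383658183,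
    554772409569901275469202485408301526,
    933617708815107072811149733091071181,
    252330577916307880350303202177451237,
    401229678475361254899572369142303091,
    978774703857357104509582499428509236,
    187705035885078859861551276281503051,
    275412899398336086125680697583979762,
    154566192949197973655203443697456617,
    5911264581187970456937574154057384,
    643979737423348429734985094306093427,
    843799472493662722761440555172042263,
    357036569087008559534742620372113136,
    113322498585004499204322446938617994,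
    799981831732252995647023607447238980]

theorem lineCodes_ok : (List.zip T42 lineCodes).all (fun x => good x.2 &&
    Nat.beq (vact x.2 490) (L0.getD x.1.1 0) && Nat.beq (vact x.2 3727) (L0.getD x.1.2.1 0) &&
    Nat.beq (vact x.2 3941) (L0.getD x.1.2.2 0)) = true := by decide +kernel

theorem line_base : sfun 490 * sfun 3727 = sfun 3941 := by
  obtain ⟨-, hB, hC, gB, gC⟩ := J4XResidue54.line_classes
  have h := J4XResidue54.line pre
  rw [← s_eq J4XPerm10.good_idP, ← s_eq gB, ← s_eq gC, hB, hC,
    show vact idP 490 = 490 by decide +kernel] at h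
  exact h

theorem line : ∀ x ∈ T42, sfun (L0.getD x.1 0) * sfun (L0.getD x.2.1 0) = sfun (L0.getD x.2.2 0) := by
  intro x hx
  have hmem : x ∈ (List.zip T42 lineCodes).map Prod.fst := by
    rw [show (List.zip T42 lineCodes).map Prod.fst = T42 by decide +kernel]
    exact hx
  obtain ⟨⟨y, P⟩, hy, rfl⟩ := List.mem_map.1 hmem
  have h := List.all_eq_true.1 lineCodes_ok _ hy
  simp only [Bool.and_eq_true] at h
  obtain ⟨⟨⟨hP, e1⟩, e2⟩, e3⟩ := h
  obtain ⟨-, hB, hC, gB, gC⟩ := J4XResidue54.line_classes
  have c : ∀ {v w : ℕ}, IsSV v → vact P v = w → sfun w = MulAut.conj (m P) (sfun v) := by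
    rintro v w ⟨Q, hQ, rfl⟩ rfl
    rw [MulAut.conj_apply, act hP hQ, mul_inv_cancel_right]
  rw [c ⟨idP, J4XPerm10.good_idP, by decide +kernel⟩ (Nat.eq_of_beq_eq_true e1),
    c ⟨_, gB, hB.symm⟩ (Nat.eq_of_beq_eq_true e2), c ⟨_, gC, hC.symm⟩ (Nat.eq_of_beq_eq_true e3),
    ← map_mul, line_base]

/-- The hypotheses of the construction of the elementary abelian subgroup hold. -/
noncomputable def hyp : Hyp Cfsg.Spor.J4 where
  m := m
  s := sfun
  m_mul := J4XPerm10.m_mul
  act := act
  line := line

/-- The elementary abelian part. -/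
noncomputable def ee (v : ℕ) : Cfsg.Spor.J4 := hyp.e v

theorem ee_mul (a b : ℕ) : ee (a ^^^ b) = ee a * ee b := hyp.e_xor vlaws a b

theorem ee_act {P v : ℕ} (hP : good P = true) (hv : inE v = true) :
    m P * ee v = ee (vact P v) * m P := hyp.act_e vlaws hP hv

theorem ee_sext {Q : ℕ} (hQ : good Q = true) : ee (vact Q 490) = sconj m tt Q :=
  (hyp.e_eq_s vlaws ⟨Q, hQ, rfl⟩).trans (s_eq hQ)

/-- The code of the word `(y x)^4 y⁻¹ x`. -/
def cW : ℕ := 926074724975847201825882898416552595

theorem cube_eq : q ((Cfsg.Spor.J4.y * ((Cfsg.Spor.J4.y * Cfsg.Spor.J4.x) ^ 4 * Cfsg.Spor.J4.y⁻¹ *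
    Cfsg.Spor.J4.x)⁻¹ * Cfsg.Spor.J4.t * ((Cfsg.Spor.J4.y * Cfsg.Spor.J4.x) ^ 4 *
    Cfsg.Spor.J4.y⁻¹ * Cfsg.Spor.J4.x)) ^ 3) = sfun 3269 := by
  have hW : m cW = q ((Cfsg.Spor.J4.y * Cfsg.Spor.J4.x) ^ 4 * Cfsg.Spor.J4.y⁻¹ * Cfsg.Spor.J4.x) := by
    rw [J4XPerm10.m_word (w := [2, 0, 2, 0, 2, 0, 2, 0, 3, 0]) (by decide +kernel)]
    simp [J4PresGen13.wv, J4PresGen13.lv, J4XPerm10.gx_zero, J4XPerm10.gx_one, pow_succ, mul_assoc]
  have hc := J4XResidue54.cube_val pre (Y := eY) (W := cW) (by decide +kernel) (by decide +kernel)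
    (by decide +kernel)
  have hr : good J4XResidue54.relS = true ∧ vact J4XResidue54.relS 490 = 3269 := by decide +kernel
  rw [← hr.2, s_eq hr.1, ← hc, hW, J4XPerm10.m_eY, tt]
  simp only [map_pow, map_mul, map_inv]

/-- The third generator of the frozen subgroup is the element of the class 3269. -/
theorem cube_ee : q ((Cfsg.Spor.J4.y * ((Cfsg.Spor.J4.y * Cfsg.Spor.J4.x) ^ 4 * Cfsg.Spor.J4.y⁻¹ *
    Cfsg.Spor.J4.x)⁻¹ * Cfsg.Spor.J4.t * ((Cfsg.Spor.J4.y * Cfsg.Spor.J4.x) ^ 4 *
    Cfsg.Spor.J4.y⁻¹ * Cfsg.Spor.J4.x)) ^ 3) = ee 3269 := by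
  have hr : good J4XResidue54.relS = true ∧ vact J4XResidue54.relS 490 = 3269 := by decide +kernel
  rw [cube_eq, ← hr.2]
  exact (hyp.e_eq_s vlaws ⟨_, hr.1, rfl⟩).symm

theorem gen : Subgroup.closure (Set.range m ∪ {g | ∃ v, inE v = true ∧ g = ee v} ∪ {tt}) = ⊤ := by
  refine top_le_iff.1 (le_trans (PresentedGroup.closure_range_of _).ge ((Subgroup.closure_le _).2 ?_))
  rintro _ ⟨i, rfl⟩
  refine Subgroup.subset_closure ?_
  cases i
  · exact Or.inl (Or.inl ⟨eX, J4XPerm10.m_eX⟩)
  · exact Or.inl (Or.inl ⟨eY, J4XPerm10.m_eY⟩)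
  · exact Or.inr rfl

/-- The data needed by the coset certificate, given the conjugation by the third generator. -/
noncomputable def setupOf (hde : ∀ vP ∈ deList, tt * ee vP.1 * tt = ee vP.1 * m vP.2) :
    Setup Cfsg.Spor.J4 where
  m := m
  e := ee
  t := tt
  m_mul := J4XPerm10.m_mul
  e_mul := fun {a b} _ _ => ee_mul a b
  act := ee_act
  tsq := tsq
  kcomm := J4XPerm10.kcomm
  de := hde
  rels := J4XPerm10.rels
  gen := gen

end Cfsg.Agent.J4XSetup23
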