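import Cfsg.Agent.Lib.J4XFinal36
import Cfsg.Agent.Lib.J4XLowerPair97
import Cfsg.Agent.Lib.J4XGlue18

/-!
The final statements about the presented fourth Janko group, from a setup on the landed permutation part
and the divisibility of the order.
-/

set_option autoImplicit false
set_option maxRecDepth 100000

namespace Cfsg.Agent.J4XTop36

open Cfsg Cfsg.Agent.J4XBase18
open Cfsg.Agent.J4M24Iso13 (eX eY)

/-- Finiteness, the index of the frozen subgroup, and the type. -/
theorem top_of (S : Setup Spor.J4) (hS : S.m = J4XPerm10.m)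
    (hs : J4XPerm10.q J4XGlue18.sWord = S.e J4XGlue18.vS)
    (hdiv : Finite Spor.J4 → 173067389 * (2048 * 244823040) ∣ Nat.card Spor.J4) :
    Finite Spor.J4 ∧ J4XGlue18.H.index = 173067389 ∧ Cfsg.IsJ4 Spor.J4 := by
  have hx : S.m J4XLowerPair97.eX ≠ 1 := by
    show S.m eX ≠ 1
    rw [hS, J4XPerm10.m_eX]
    exact fun h => J4Rep13.px_ne_one (by
      rw [← J4Rep13.rho_x, show PresentedGroup.mk _ Spor.J4.x = (1 : Spor.J4) from h, map_one])
  have hv : ∀ {P v : ℕ}, GolayPerm.good P = true → inE v = true → inE (vact P v) = true :=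
    fun h h' => J4XLaws10.laws.inE_vact h h'
  have hm : J4XCount4.MGood S := fun P => hS ▸ J4XLaws10.mgood P
  obtain ⟨hfin, hidx, -, hJ⟩ := J4XFinal36.all_of S hS (J4XLowerPair97.psiInj S hx hv)
    (J4XLowerPair97.card_base_of_mgood S hx hv hm) hdiv
  refine ⟨hfin, ?_, hJ⟩
  rw [← J4XGlue18.base_eq S J4XLaws10.laws hS hs]
  exact hidx

end Cfsg.Agent.J4XTop36
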