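import Cfsg.Agent.Lib.J4XCert18
import Cfsg.Agent.Lib.GolayFast
import Cfsg.Agent.Lib.GolayOrbit

/-!
Points of the coset space of the stabiliser of the third generator inside the subgroup of shape
2^11 : M24: a trio (image of the standard trio) and one of four classes of cocode words.  A trio record
packs three octads (24 bits each), two parity functionals and two representing words (12 bits each).
-/

set_option autoImplicit false
set_option maxRecDepth 100000

namespace Cfsg.Agent.J4XTrio16

open Cfsg Cfsg.Agent.GolayBasic Cfsg.Agent.GolayPerm Cfsg.Agent.GolayEnumComp Cfsg.Agent.GolayFast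
open Cfsg.Agent.GolayOrbit (tmap tableOk tmap_eq pmask_or)
open Cfsg.Agent.J4XBase18 Cfsg.Agent.J4XCert18
open scoped Pointwise

/-! ### linear algebra on words -/

theorem combo_zero : ∀ l : List ℕ, combo l 0 = 0
  | [] => rfl
  | b :: l => by simp [combo, combo_zero l]

theorem combo_append : ∀ (l k : List ℕ) (x : ℕ), combo (l ++ k) x = combo l x ^^^ combo k (x >>> l.length)
  | [], k, x => by simp [combo]
  | b :: l, k, x => by
    simp only [List.cons_append, combo, combo_append l k, List.length_cons, Nat.add_comm l.length 1,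
      Nat.shiftRight_add, Nat.xor_assoc]

/-- A map respecting exclusive or. -/
def Linear (φ : ℕ → ℕ) : Prop := ∀ a b, φ (a ^^^ b) = φ a ^^^ φ b

theorem Linear.zero {φ : ℕ → ℕ} (h : Linear φ) : φ 0 = 0 := by
  have := h 0 0
  rwa [Nat.xor_self, Nat.xor_self] at this

theorem combo_map {φ : ℕ → ℕ} (h : Linear φ) : ∀ (l : List ℕ) (x : ℕ), combo (l.map φ) x = φ (combo l x)
  | [], x => by simp [combo, h.zero]
  | b :: l, x => by
    rw [List.map_cons, combo, combo, combo_map h l, h]
    rcases Nat.mod_two_eq_zero_or_one x with hx | hx <;> simp [Nat.and_one_is_mod, hx, h.zero]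

theorem linear_combo (l : List ℕ) : Linear (combo l) := combo_xor l

theorem linear_cv : Linear cv := fun a b => by
  simp only [cv, Nat.and_xor_distrib_right, enc_xor, ← Nat.shiftRight_xor_distrib]
  congr 1
  simp only [Nat.xor_assoc, Nat.xor_left_comm]

theorem pmask_inter {P : ℕ} (hP : valid P = true) (a b : ℕ) :
    pmask P (a &&& b) = pmask P a &&& pmask P b := by
  refine mset_inj (GolayOrbit.pmask_lt hP _)
    (lt_of_le_of_lt Nat.and_le_left (GolayOrbit.pmask_lt hP _)) ?_
  rw [← smul_mset hP, mset_and, Finset.smul_finset_inter, smul_mset hP, smul_mset hP, mset_and]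

theorem linear_pmask {P : ℕ} (hP : valid P = true) : Linear (pmask P) := fun a b => by
  refine mset_inj (GolayOrbit.pmask_lt hP _)
    (Nat.xor_lt_two_pow (GolayOrbit.pmask_lt hP _) (GolayOrbit.pmask_lt hP _)) ?_
  rw [← smul_mset hP, mset_xor, smul_finset_symmDiff, smul_mset hP, smul_mset hP, mset_xor]

theorem linear_vact {P : ℕ} (hP : valid P = true) : Linear (vact P) := fun a b => by
  simp only [vact, Nat.shiftLeft_xor_distrib, linear_pmask hP _ _, linear_cv _ _]

theorem vact_zero {P : ℕ} (hP : valid P = true) : vact P 0 = 0 := (linear_vact hP).zero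

theorem pmask_pcomp {P Q : ℕ} (hP : valid P = true) (hQ : valid Q = true)
    (h : valid (pcomp P Q) = true) (a : ℕ) : pmask (pcomp P Q) a = pmask P (pmask Q a) := by
  refine mset_inj (GolayOrbit.pmask_lt h _) (GolayOrbit.pmask_lt hP _) ?_
  rw [← smul_mset h, permOf_pcomp hP hQ h rfl, mul_smul, smul_mset hQ, smul_mset hP]

/-! ### parity functionals -/

/-- the parities of all numbers below 4096 -/
def parC : ℕ := 0x6996966996696996966969966996966996696996699696696996966996696996966969966996966969969669966969966996966996696996966969966996966996696996699696696996966996696996699696699669699696696996699696696996966996696996966969966996966996696996699696696996966996696996966969966996966969969669966969966996966996696996966969966996966969969669966969969669699669969669966969966996966969969669966969966996966996696996966969966996966996696996699696696996966996696996966969966996966969969669966969966996966996696996966969966996966996696996699696696996966996696996699696699669699696696996699696696996966996696996966969966996966996696996699696696996966996696996699696699669699696696996699696699669699669969669699696699669699696696996699696696996966996696996699696699669699696696996699696696996966996696996966969966996966996696996699696696996966996696996966969966996966969969669966969966996966996696996966969966996966996696996699696696996966996696996699696699669699696696996699696696996966996696996966969966996966996696996699696696996966996696996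

/-- twelve ones -/
def ones : List ℕ := [1, 1, 1, 1, 1, 1, 1, 1, 1, 1, 1, 1]

theorem parC_spec : ∀ x < 4096, Nat.land (Nat.shiftRight parC x) 1 = combo ones x := by decide +kernel

/-- parity of the common digits -/
def fpar (f v : ℕ) : ℕ := Nat.land (Nat.shiftRight parC (Nat.land f v)) 1

theorem fpar_eq {f : ℕ} (hf : f < 4096) (v : ℕ) : fpar f v = combo ones (f &&& v) :=
  parC_spec _ (lt_of_le_of_lt Nat.and_le_left hf)

theorem linear_fpar {f : ℕ} (hf : f < 4096) : Linear (fpar f) := fun a b => by
  rw [fpar_eq hf, fpar_eq hf, fpar_eq hf, Nat.and_xor_distrib_left, combo_xor]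

theorem fpar_le (f v : ℕ) : fpar f v = 0 ∨ fpar f v = 1 := by
  have : fpar f v = (parC >>> (f &&& v)) % 2 := Nat.and_one_is_mod _
  omega

/-! ### records of trios -/

/-- first octad -/
def oct0 (d : ℕ) : ℕ := Nat.land d 16777215
/-- second octad -/
def oct1 (d : ℕ) : ℕ := Nat.land (Nat.shiftRight d 24) 16777215
/-- third octad -/
def oct2 (d : ℕ) : ℕ := Nat.land (Nat.shiftRight d 48) 16777215
/-- first functional -/
def fA (d : ℕ) : ℕ := Nat.land (Nat.shiftRight d 72) 4095
/-- second functional -/
def fB (d : ℕ) : ℕ := Nat.land (Nat.shiftRight d 84) 4095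
/-- first word -/
def cA (d : ℕ) : ℕ := Nat.land (Nat.shiftRight d 96) 4095
/-- second word -/
def cB (d : ℕ) : ℕ := Nat.land (Nat.shiftRight d 108) 4095

/-- one of the octads of the record -/
def inOcts (d x : ℕ) : Bool :=
  Bool.rec (motive := fun _ => Bool)
    (Bool.rec (motive := fun _ => Bool) (Nat.beq x (oct2 d)) true (Nat.beq x (oct1 d)))
    true (Nat.beq x (oct0 d))

theorem inOcts_iff {d x : ℕ} : inOcts d x = true ↔ x = oct0 d ∨ x = oct1 d ∨ x = oct2 d := by
  unfold inOcts
  cases h0 : Nat.beq x (oct0 d) <;> cases h1 : Nat.beq x (oct1 d) <;>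
    simp [← Nat.beq_eq, h0, h1]

/-- the word of class `j` -/
def cls (d j : ℕ) : ℕ := Nat.xor (Nat.mul (Nat.land j 1) (cA d)) (Nat.mul (Nat.land (Nat.shiftRight j 1) 1) (cB d))

theorem cls_eq (d j : ℕ) : cls d j = combo [cA d, cB d] j := by
  simp [cls, combo]

/-- the point with record `d` and class `j` contains a pair with word `v` carrying the standard
trio to the three masks -/
def crit (d j v x0 x1 x2 : ℕ) : Bool :=
  Bool.rec (motive := fun _ => Bool) false
    (Bool.rec (motive := fun _ => Bool) false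
      (Bool.rec (motive := fun _ => Bool) false
        (Bool.rec (motive := fun _ => Bool) false
          (Nat.beq (fpar (fB d) (Nat.xor v (cls d j))) 0)
          (Nat.beq (fpar (fA d) (Nat.xor v (cls d j))) 0))
        (inOcts d x2))
      (inOcts d x1))
    (inOcts d x0)

theorem crit_iff {d j v x0 x1 x2 : ℕ} : crit d j v x0 x1 x2 = true ↔
    inOcts d x0 = true ∧ inOcts d x1 = true ∧ inOcts d x2 = true ∧
      fpar (fA d) (v ^^^ cls d j) = 0 ∧ fpar (fB d) (v ^^^ cls d j) = 0 := by
  unfold crit
  simp only [show Nat.xor v (cls d j) = v ^^^ cls d j from rfl]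
  cases inOcts d x0 <;> cases inOcts d x1 <;> cases inOcts d x2 <;>
    cases h : Nat.beq (fpar (fA d) (v ^^^ cls d j)) 0 <;>
    simp [← Nat.beq_eq, h]

/-- the standard trio, separately -/
def t0a : ℕ := 560668
/-- the standard trio, separately -/
def t0b : ℕ := 4485344
/-- the standard trio, separately -/
def t0c : ℕ := 11731203

/-- the point with record `d` and class `j` contains the pair -/
def Crit (d j : ℕ) (h : ℕ × ℕ) : Prop :=
  crit d j h.1 (pmask h.2 t0a) (pmask h.2 t0b) (pmask h.2 t0c) = true

/-- the first coordinates of the conjugable basis -/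
def deV : List ℕ := deList.map Prod.fst

/-- a basis of the even words -/
def bb : List ℕ := [3, 5, 9, 17, 33, 65, 129, 257, 513, 1025, 2049]

theorem bb_spec : ∀ v < 4096, inE v = true → combo bb (v >>> 1) = v := by decide +kernel

/-- What is known about a record. -/
structure TrioOk (d : ℕ) : Prop where
  perm : ∃ u ui : ℕ, good u = true ∧ good ui = true ∧ pcomp u ui = idP ∧
    (pmask u t0a = oct0 d ∧ pmask u t0b = oct1 d ∧ pmask u t0c = oct2 d) ∧
    (pmask ui (oct0 d) = t0a ∧ pmask ui (oct1 d) = t0b ∧ pmask ui (oct2 d) = t0c) ∧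
    (∀ g ∈ deV.map (vact u), fpar (fA d) g = 0 ∧ fpar (fB d) g = 0) ∧
    ∀ v, inE v = true → ∃ C, v = combo (deV.map (vact u) ++ [cA d, cB d]) C
  inA : inE (cA d) = true
  inB : inE (cB d) = true
  fAA : fpar (fA d) (cA d) = 1
  fAB : fpar (fA d) (cB d) = 0
  fBA : fpar (fB d) (cA d) = 0
  fBB : fpar (fB d) (cB d) = 1

theorem fA_lt (d : ℕ) : fA d < 4096 := lt_of_le_of_lt Nat.and_le_right (by norm_num)

theorem fB_lt (d : ℕ) : fB d < 4096 := lt_of_le_of_lt Nat.and_le_right (by norm_num)

/-! ### the check of one record -/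

/-- The check of a record against a permutation, its inverse and coefficients of the basis. -/
def trioChk (d u ui : ℕ) (cs : List ℕ) : Bool :=
  goodF u && goodF ui && Nat.beq (pcomp u ui) idP &&
    (Nat.beq (pmaskF u t0a pts) (oct0 d) && Nat.beq (pmaskF u t0b pts) (oct1 d) &&
      Nat.beq (pmaskF u t0c pts) (oct2 d)) &&
    (Nat.beq (pmaskF ui (oct0 d) pts) t0a && Nat.beq (pmaskF ui (oct1 d) pts) t0b &&
      Nat.beq (pmaskF ui (oct2 d) pts) t0c) &&
    (inE (cA d) && inE (cB d) && Nat.beq (fpar (fA d) (cA d)) 1 && Nat.beq (fpar (fA d) (cB d)) 0 &&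
      Nat.beq (fpar (fB d) (cA d)) 0 && Nat.beq (fpar (fB d) (cB d)) 1) &&
    (let g := deV.map (vactF u)
     (g.all fun x => Nat.beq (fpar (fA d) x) 0 && Nat.beq (fpar (fB d) x) 0) &&
      eqL (cs.map (comboF (g ++ [cA d, cB d]))) bb)

theorem trioChk_sound {d u ui : ℕ} {cs : List ℕ} (h : trioChk d u ui cs = true) : TrioOk d := by
  simp only [trioChk, Bool.and_eq_true, Nat.beq_eq, goodF_eq, pmaskF_eq, List.all_eq_true] at h
  obtain ⟨⟨⟨⟨⟨⟨hu, hui⟩, hc⟩, ⟨⟨o0, o1⟩, o2⟩⟩, ⟨⟨i0, i1⟩, i2⟩⟩,
    ⟨⟨⟨⟨⟨a1, a2⟩, a3⟩, a4⟩, a5⟩, a6⟩⟩, hg, hcs⟩ := h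
  have hmap : deV.map (vactF u) = deV.map (vact u) := List.map_congr_left fun v _ => vactF_eq u v
  rw [hmap] at hg hcs
  refine ⟨⟨u, ui, hu, hui, hc, ⟨o0, o1, o2⟩, ⟨i0, i1, i2⟩, hg, fun v hv => ?_⟩, a1, a2, a3, a4, a5, a6⟩
  have hlt : v < 4096 := by
    simp only [inE, Bool.and_eq_true, decide_eq_true_eq] at hv; exact hv.1
  refine ⟨combo cs (v >>> 1), ?_⟩
  conv_lhs => rw [← bb_spec v hlt hv, ← eqL_iff hcs]
  rw [List.map_congr_left fun c _ => comboF_eq _ c, combo_map (linear_combo _)]

/-! ### factorisation -/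

variable {G : Type*} [Group G] (S : Setup G)

theorem valid_idP : valid idP = true := by decide +kernel

theorem inE_zero : inE 0 = true := by decide +kernel

theorem inE_combo (L : Laws) : ∀ (l : List ℕ), (∀ x ∈ l, inE x = true) → ∀ C, inE (combo l C) = true
  | [], _, _ => inE_zero
  | b :: l, h, C => by
    rw [combo]
    refine L.inE_xor ?_ (inE_combo L l (fun x hx => h x (List.mem_cons_of_mem _ hx)) _)
    rcases Nat.mod_two_eq_zero_or_one C with hx | hx <;> rw [Nat.and_one_is_mod, hx]
    · rw [zero_mul]; exact inE_zero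
    · rw [one_mul]; exact h b List.mem_cons_self

theorem deV_ok : ∀ x ∈ deV, inE x = true := by decide +kernel

theorem comb_fst (L : Laws) : ∀ (l : List (ℕ × ℕ)), (∀ vP ∈ l, vP ∈ deList ∧ okH vP = true) → ∀ c,
    psi S (comb l c).1 = S.e (combo (l.map Prod.fst) c)
  | [], _, c => by
    show psi S one = S.e 0
    rw [psi_one, e_zero]
  | vP :: l, h, c => by
    have hl : ∀ q ∈ l, q ∈ deList ∧ okH q = true := fun q hq => h q (List.mem_cons_of_mem _ hq)
    obtain ⟨hm, hv⟩ := h vP List.mem_cons_self
    have ih := comb_fst L l hl (c / 2)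
    obtain ⟨h1, -, -⟩ := comb_sound S L l (c / 2) hl
    have hE : ∀ x ∈ l.map Prod.fst, inE x = true := fun x hx => by
      obtain ⟨q, hq, rfl⟩ := List.mem_map.1 hx
      have := (hl q hq).2
      simp only [okH, Bool.and_eq_true] at this; exact this.1
    simp only [okH, Bool.and_eq_true] at hv
    have hv' : okH (vP.1, idP) = true := by
      simp only [okH, Bool.and_eq_true]; exact ⟨hv.1, by decide +kernel⟩
    rw [comb, hmulF_eq, List.map_cons, combo, Nat.and_one_is_mod, Nat.shiftRight_eq_div_pow, pow_one]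
    rcases Nat.mod_two_eq_zero_or_one c with hx | hx <;> rw [hx]
    · rw [show Nat.beq 0 1 = false from rfl, cond_false, zero_mul, Nat.zero_xor, ih]
    · rw [show Nat.beq 1 1 = true from rfl, cond_true, one_mul, psi_hmul S L hv' h1, ih,
        S.e_mul hv.1 (inE_combo L _ hE _)]
      simp [psi, m_idP]

theorem psi_dLeft (L : Laws) {C P : ℕ} (hP : good P = true) :
    psi S (dLeft C P) = S.e (combo deV C) * S.m P := by
  obtain ⟨h1, -, -⟩ := comb_sound S L deList C fun q hq => ⟨hq, deList_ok q hq⟩
  have h0 : okH (0, P) = true := by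
    simp only [okH, Bool.and_eq_true]; exact ⟨inE_zero, hP⟩
  rw [dLeft, hmulF_eq, psi_hmul S L h1 h0, comb_fst S L deList (fun q hq => ⟨hq, deList_ok q hq⟩)]
  simp [psi, e_zero, deV]

theorem cls_inE (L : Laws) {d : ℕ} (T : TrioOk d) (j : ℕ) : inE (cls d j) = true := by
  rw [cls_eq]
  exact inE_combo L _ (by simp [T.inA, T.inB]) j

/-- A point contains a pair, and all its pairs differ from it by conjugable pairs on the right. -/
theorem exists_rep (L : Laws) {d : ℕ} (T : TrioOk d) (j : ℕ) :
    ∃ q : ℕ × ℕ, okH q = true ∧ Crit d j q ∧ q.1 = cls d j ∧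
      (pmask q.2 t0a = oct0 d ∧ pmask q.2 t0b = oct1 d ∧ pmask q.2 t0c = oct2 d) ∧
      ∀ h : ℕ × ℕ, okH h = true → Crit d j h →
        ∃ C P, good P = true ∧ fixT0 P = true ∧ psi S h = psi S q * psi S (dLeft C P) := by
  obtain ⟨u, ui, hu, hui, hc, ho, hi, hg, hspan⟩ := T.perm
  have lA := linear_fpar (fA_lt d)
  have lB := linear_fpar (fB_lt d)
  refine ⟨(cls d j, u), by simp only [okH, Bool.and_eq_true]; exact ⟨cls_inE L T j, hu⟩, ?_, rfl, ho, ?_⟩
  · simp only [Crit, crit_iff, inOcts_iff, ho, Nat.xor_self, lA.zero, lB.zero, true_or, or_true,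
      and_self]
  rintro ⟨v, R⟩ hh hcr
  simp only [okH, Bool.and_eq_true] at hh
  obtain ⟨hv, hR⟩ := hh
  obtain ⟨k0, k1, k2, kA, kB⟩ := crit_iff.1 hcr
  dsimp only at k0 k1 k2 kA kB
  have hP : good (pcomp ui R) = true := L.good_mul hui hR
  have himg : ∀ x, inOcts d x = true → trio0.contains (pmask ui x) = true := by
    intro x hx
    rcases inOcts_iff.1 hx with rfl | rfl | rfl <;>
      simp only [hi] <;> decide
  have hfix : fixT0 (pcomp ui R) = true := by
    have e := pmask_pcomp (valid_of_good hui) (valid_of_good hR) (valid_of_good hP)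
    simp only [fixT0, trio0, List.all_cons, List.all_nil, Bool.and_true, Bool.and_eq_true]
    simp only [e]
    exact ⟨himg _ k0, himg _ k1, himg _ k2⟩
  have hw : inE (v ^^^ cls d j) = true := L.inE_xor hv (cls_inE L T j)
  obtain ⟨C, hC⟩ := hspan _ hw
  have hzero : combo (deV.map (vact u) ++ [cA d, cB d]) C = combo (deV.map (vact u)) C := by
    rw [combo_append, List.length_map, show deV.length = 9 from rfl]
    have key : ∀ f, f < 4096 → (∀ g ∈ deV.map (vact u), fpar f g = 0) →
        fpar f (combo (deV.map (vact u) ++ [cA d, cB d]) C) =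
          combo [fpar f (cA d), fpar f (cB d)] (C >>> 9) := by
      intro f hf hz
      rw [← combo_map (linear_fpar hf), List.map_append, combo_append, List.length_map, List.length_map,
        show deV.length = 9 from rfl]
      have : ∀ (l : List ℕ), (∀ x ∈ l, x = 0) → ∀ y, combo l y = 0 := by
        intro l
        induction l with
        | nil => intro _ y; rfl
        | cons b l ih =>
          intro h y
          rw [combo, h b List.mem_cons_self, ih (fun x hx => h x (List.mem_cons_of_mem _ hx))]
          simp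
      rw [this _ (by
        intro x hx
        obtain ⟨g, hg', rfl⟩ := List.mem_map.1 hx
        exact hz g hg'), Nat.zero_xor]
      rfl
    have kA' := key _ (fA_lt d) fun g h => (hg g h).1
    have kB' := key _ (fB_lt d) fun g h => (hg g h).2
    rw [← hC, kA, T.fAA, T.fAB] at kA'
    rw [← hC, kB, T.fBA, T.fBB] at kB'
    simp only [combo, mul_zero, mul_one, Nat.xor_zero, Nat.zero_xor] at kA' kB' ⊢
    rw [← kA', ← kB']
    simp
  rw [hzero, combo_map (linear_vact (valid_of_good hu))] at hC
  refine ⟨C, pcomp ui R, hP, hfix, ?_⟩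
  have hW : inE (combo deV C) = true := inE_combo L _ deV_ok C
  have huu : S.m u * S.m ui = 1 := by rw [← S.m_mul hu hui, hc, m_idP]
  have hv' : v = cls d j ^^^ vact u (combo deV C) := by
    rw [← hC, ← Nat.xor_assoc, Nat.xor_comm (cls d j), Nat.xor_assoc, Nat.xor_self, Nat.xor_zero]
  rw [psi_dLeft S L hP, S.m_mul hui hR]
  simp only [psi]
  calc S.e v * S.m R
      = S.e (cls d j) * S.e (vact u (combo deV C)) * ((S.m u * S.m ui) * S.m R) := by
        rw [huu, one_mul, ← S.e_mul (cls_inE L T j) (L.inE_vact hu hW), ← hv']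
    _ = S.e (cls d j) * (S.e (vact u (combo deV C)) * S.m u) * (S.m ui * S.m R) := by group
    _ = S.e (cls d j) * (S.m u * S.e (combo deV C)) * (S.m ui * S.m R) := by rw [S.act hu hW]
    _ = _ := by group

/-! ### every pair lies in a point -/

/-- The check that octads are listed and that disjoint pairs of them lead to records. -/
def coverChk (D : ℕ → ℕ) (octs : List ℕ) (idx : List (List ℕ)) : Bool :=
  ((List.range 4096).all fun x => !Nat.beq (wt (enc x)) 8 || octs.contains (enc x)) &&
    (Nat.beq idx.length octs.length &&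
    (octs.zip idx).all fun oi =>
      let l := octs.filter fun o => Nat.beq (Nat.land oi.1 o) 0
      Nat.beq oi.2.length l.length &&
        (l.zip oi.2).all fun ot =>
          Nat.blt ot.2 3795 && inOcts (D ot.2) oi.1 && inOcts (D ot.2) ot.1 &&
            inOcts (D ot.2) (Nat.xor 16777215 (Nat.xor oi.1 ot.1)))

theorem exists_zip {α β : Type*} : ∀ {l : List α} {k : List β}, l.length ≤ k.length → ∀ {a}, a ∈ l →
    ∃ b, (a, b) ∈ l.zip k
  | [], _, _, _, h => by simp at h
  | _ :: _, [], h, _, _ => by simp at h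
  | x :: l, y :: k, h, a, ha => by
    rcases List.mem_cons.1 ha with rfl | ha
    · exact ⟨y, List.mem_cons_self⟩
    · obtain ⟨b, hb⟩ := exists_zip (by simpa using h) ha
      exact ⟨b, List.mem_cons_of_mem _ hb⟩

theorem pmask_all {P : ℕ} (hP : valid P = true) : pmask P 16777215 = 16777215 := by
  simp only [valid, Bool.and_eq_true, beq_iff_eq] at hP
  exact hP.2

theorem exists_trio {D : ℕ → ℕ} {octs : List ℕ} {idx : List (List ℕ)}
    (hc : coverChk D octs idx = true) {R : ℕ} (hR : good R = true) :
    ∃ T < 3795, inOcts (D T) (pmask R t0a) = true ∧ inOcts (D T) (pmask R t0b) = true ∧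
      inOcts (D T) (pmask R t0c) = true := by
  simp only [coverChk, Bool.and_eq_true, List.all_eq_true, Nat.beq_eq, Nat.blt_eq, List.mem_range,
    Bool.or_eq_true, Bool.not_eq_true'] at hc
  obtain ⟨hoct, hlen, hall⟩ := hc
  have hv := valid_of_good hR
  have oct : ∀ t, mset t ∈ octads → pmask R t ∈ octs := by
    intro t ht
    have h1 := smul_mem_octads (permOf_mem_M24 hR) ht
    rw [smul_mset hv, mset_mem_octads (GolayOrbit.pmask_lt hv _)] at h1
    obtain ⟨x, hx, he⟩ := exists_enc_of_inCode h1.1
    rcases hoct x hx with h | h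
    · rw [he, h1.2, Nat.beq_refl] at h; exact absurd h (by decide)
    · rw [← he]; simpa using h
  have ho : ∀ t ∈ [t0a, t0b], mset t ∈ octads := by
    intro t ht
    simp only [List.mem_cons, List.not_mem_nil, or_false] at ht
    rcases ht with rfl | rfl <;> rw [mset_mem_octads (by decide)] <;> decide +kernel
  have ha := oct t0a (ho _ (by simp))
  have hb := oct t0b (ho _ (by simp))
  obtain ⟨li, hli⟩ := exists_zip (le_of_eq hlen.symm) ha
  obtain ⟨hl, hp⟩ := hall _ hli
  have hdis : pmask R t0a &&& pmask R t0b = 0 := by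
    rw [← pmask_inter hv, show t0a &&& t0b = 0 from by decide]
    exact (linear_pmask hv).zero
  have hbm : pmask R t0b ∈ octs.filter fun o => Nat.beq (Nat.land (pmask R t0a) o) 0 :=
    List.mem_filter.2 ⟨hb, by rw [Nat.beq_eq]; exact hdis⟩
  obtain ⟨T, hT⟩ := exists_zip (le_of_eq hl.symm) hbm
  obtain ⟨⟨⟨h1, h2⟩, h3⟩, h4⟩ := hp _ hT
  refine ⟨T, h1, h2, h3, ?_⟩
  have e : pmask R t0c = 16777215 ^^^ (pmask R t0a ^^^ pmask R t0b) := by
    rw [show t0c = 16777215 ^^^ (t0a ^^^ t0b) from by decide, linear_pmask hv, linear_pmask hv,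
      pmask_all hv]
  rw [e]; exact h4

/-- Every pair lies in one of the four points over the trio it maps the standard trio to. -/
theorem exists_class {d : ℕ} (T : TrioOk d) {v x0 x1 x2 : ℕ} (h0 : inOcts d x0 = true)
    (h1 : inOcts d x1 = true) (h2 : inOcts d x2 = true) : ∃ j < 4, crit d j v x0 x1 x2 = true := by
  have key : ∀ j, fpar (fA d) (v ^^^ cls d j) = fpar (fA d) v ^^^ combo [1, 0] j ∧
      fpar (fB d) (v ^^^ cls d j) = fpar (fB d) v ^^^ combo [0, 1] j := by
    intro j
    rw [linear_fpar (fA_lt d), linear_fpar (fB_lt d), cls_eq, ← combo_map (linear_fpar (fA_lt d)),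
      ← combo_map (linear_fpar (fB_lt d))]
    simp [T.fAA, T.fAB, T.fBA, T.fBB]
  rcases fpar_le (fA d) v with a | a <;> rcases fpar_le (fB d) v with b | b
  · exact ⟨0, by omega, crit_iff.2 ⟨h0, h1, h2, by rw [(key 0).1, a]; rfl, by rw [(key 0).2, b]; rfl⟩⟩
  · exact ⟨2, by omega, crit_iff.2 ⟨h0, h1, h2, by rw [(key 2).1, a]; rfl, by rw [(key 2).2, b]; rfl⟩⟩
  · exact ⟨1, by omega, crit_iff.2 ⟨h0, h1, h2, by rw [(key 1).1, a]; rfl, by rw [(key 1).2, b]; rfl⟩⟩
  · exact ⟨3, by omega, crit_iff.2 ⟨h0, h1, h2, by rw [(key 3).1, a]; rfl, by rw [(key 3).2, b]; rfl⟩⟩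

end Cfsg.Agent.J4XTrio16
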