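import Cfsg.Agent.Lib.J4XTrioTable16

/-! Every trio of disjoint octads is in the table. -/

set_option autoImplicit false
set_option maxRecDepth 100000
set_option Elab.async false

namespace Cfsg.Agent.J4XTrio16

theorem all_of_pieces60 {α : Type*} (P : α → Bool) : ∀ (k n : ℕ) (l : List α), l.length ≤ k * n →
    (∀ i < k, ((l.drop (i * n)).take n).all P = true) → l.all P = true
  | 0, n, l, hl, _ => by
    have h0 : l = [] := List.length_eq_zero_iff.1 (by simpa using hl)
    simp [h0]
  | k + 1, n, l, hl, h => by
    have h0 := h 0 (by omega)
    rw [zero_mul, List.drop_zero] at h0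
    rw [← List.take_append_drop n l, List.all_append, h0, Bool.true_and]
    refine all_of_pieces60 P k n _ ?_ fun i hi => ?_
    · rw [List.length_drop]
      have : (k + 1) * n = k * n + n := Nat.succ_mul k n
      omega
    · rw [List.drop_drop]
      have := h (i + 1) (by omega)
      rwa [Nat.succ_mul, Nat.add_comm] at this

/-- The octad test of one word. -/
def octTest60 (x : ℕ) : Bool := !Nat.beq (GolayBasic.wt (GolayBasic.enc x)) 8 || octList.contains (GolayBasic.enc x)

/-- The test of the records over one octad. -/
noncomputable def pairTest60 (oi : ℕ × List ℕ) : Bool :=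
  let l := octList.filter fun o => Nat.beq (Nat.land oi.1 o) 0
  Nat.beq oi.2.length l.length &&
    (l.zip oi.2).all fun ot =>
      Nat.blt ot.2 3795 && inOcts (trioRec ot.2) oi.1 && inOcts (trioRec ot.2) ot.1 &&
        inOcts (trioRec ot.2) (Nat.xor 16777215 (Nat.xor oi.1 ot.1))

/-- One block of the words. -/
def octPiece60 (i : ℕ) : Bool := (((List.range 4096).drop (i * 1024)).take 1024).all octTest60

/-- One block of the octads. -/
noncomputable def pairPiece60 (i : ℕ) : Bool := (((octList.zip octIdx).drop (i * 100)).take 100).all pairTest60

theorem octPiece60_0 : octPiece60 0 = true := by decide +kernel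
theorem octPiece60_1 : octPiece60 1 = true := by decide +kernel
theorem octPiece60_2 : octPiece60 2 = true := by decide +kernel
theorem octPiece60_3 : octPiece60 3 = true := by decide +kernel
theorem pairPiece60_0 : pairPiece60 0 = true := by decide +kernel
theorem pairPiece60_1 : pairPiece60 1 = true := by decide +kernel
theorem pairPiece60_2 : pairPiece60 2 = true := by decide +kernel
theorem pairPiece60_3 : pairPiece60 3 = true := by decide +kernel
theorem pairPiece60_4 : pairPiece60 4 = true := by decide +kernel
theorem pairPiece60_5 : pairPiece60 5 = true := by decide +kernel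
theorem pairPiece60_6 : pairPiece60 6 = true := by decide +kernel
theorem pairPiece60_7 : pairPiece60 7 = true := by decide +kernel

theorem lengths60 : Nat.beq octIdx.length octList.length = true ∧ (octList.zip octIdx).length ≤ 8 * 100 := by
  decide +kernel

theorem trio_cover : coverChk trioRec octList octIdx = true := by
  have h1 : (List.range 4096).all octTest60 = true :=
    all_of_pieces60 _ 4 1024 _ (by simp) fun i hi => by
      interval_cases i
      exacts [octPiece60_0, octPiece60_1, octPiece60_2, octPiece60_3]
  have h2 : (octList.zip octIdx).all pairTest60 = true :=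
    all_of_pieces60 _ 8 100 _ lengths60.2 fun i hi => by
      interval_cases i
      exacts [pairPiece60_0, pairPiece60_1, pairPiece60_2, pairPiece60_3, pairPiece60_4, pairPiece60_5,
        pairPiece60_6, pairPiece60_7]
  rw [coverChk, Bool.and_eq_true, Bool.and_eq_true]
  exact ⟨h1, lengths60.1, h2⟩

end Cfsg.Agent.J4XTrio16
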