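import Cfsg.Agent.Lib.J4XTrioRun016
import Cfsg.Agent.Lib.J4XTrioRun116
import Cfsg.Agent.Lib.J4XTrioRun216
import Cfsg.Agent.Lib.J4XTrioCover16

/-! All 3795 records are correct. -/

set_option autoImplicit false

namespace Cfsg.Agent.J4XTrio16

theorem trios_all : ∀ T < 3795, TrioOk (trioRec T) :=
  trios2 (trios1 (trios0 (trios_zero _)))

end Cfsg.Agent.J4XTrio16
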