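import Cfsg.Agent.Lib.J4XTrio16
import Cfsg.Agent.Lib.J4XTrioData16

/-! The table of trios. -/

set_option autoImplicit false

namespace Cfsg.Agent.J4XTrio16

open Cfsg.Agent.CosetCertCore

/-- The record of a trio. -/
noncomputable def trioRec (T : ℕ) : ℕ := entry trioTbl 120 T

/-- The records below a bound are correct. -/
def TriosBelow (D : ℕ → ℕ) (n : ℕ) : Prop := ∀ T < n, TrioOk (D T)

/-- The check of consecutive records against their witnesses. -/
noncomputable def recsOk (D : ℕ → ℕ) (lo : ℕ) (l : List (ℕ × ℕ × List ℕ)) : Bool :=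
  List.rec (motive := fun _ => ℕ → Bool) (fun _ => true)
    (fun w _ ih k => force (D k) (fun d => trioChk d w.1 w.2.1 w.2.2) && force (k + 1) ih) l lo

theorem recsOk_cons (D : ℕ → ℕ) (lo : ℕ) (w : ℕ × ℕ × List ℕ) (l : List (ℕ × ℕ × List ℕ)) :
    recsOk D lo (w :: l) = (trioChk (D lo) w.1 w.2.1 w.2.2 && recsOk D (lo + 1) l) := by
  simp only [recsOk, force_eq]

theorem recsOk_step {D : ℕ → ℕ} : ∀ {l : List (ℕ × ℕ × List ℕ)} {lo : ℕ}, TriosBelow D lo →
    recsOk D lo l = true → TriosBelow D (lo + l.length)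
  | [], lo, h, _ => h
  | w :: l, lo, h, hc => by
    rw [recsOk_cons, Bool.and_eq_true] at hc
    have h1 : TriosBelow D (lo + 1) := fun T hT => by
      rcases Nat.lt_succ_iff_lt_or_eq.1 hT with hT | rfl
      · exact h T hT
      · exact trioChk_sound hc.1
    have := recsOk_step h1 hc.2
    rwa [List.length_cons, ← Nat.add_assoc, Nat.add_right_comm]

theorem trios_zero (D : ℕ → ℕ) : TriosBelow D 0 := fun _ h => absurd h (Nat.not_lt_zero _)

end Cfsg.Agent.J4XTrio16
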