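import Mathlib
import Cfsg.Prelude.Def_PLocal

/-!
A group of automorphisms of an elementary abelian 2-group with a self-centralising nilpotent
normal subgroup of odd order: elements moving everything by a single vector.
-/

set_option autoImplicit false

namespace Cfsg.Agent.JCompTV

variable {X : Type*} [Group X]

/-- The standing hypotheses. -/
structure Ctx (V H F : Subgroup X) : Prop where
  comm : ∀ v ∈ V, ∀ w ∈ V, v * w = w * v
  sq : ∀ v ∈ V, v * v = 1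
  norm : ∀ h ∈ H, ∀ v ∈ V, h * v * h⁻¹ ∈ V
  faith : ∀ h ∈ H, (∀ v ∈ V, h * v * h⁻¹ = v) → h = 1
  F_le : F ≤ H
  F_norm : ∀ h ∈ H, ∀ f ∈ F, h * f * h⁻¹ ∈ F
  F_odd : ∀ f ∈ F, Odd (orderOf f)
  F_nilp : Group.IsNilpotent ↥F
  F_cent : ∀ h ∈ H, (∀ f ∈ F, f * h = h * f) → h ∈ F

/-- `t` is an involution of `H` moving every element of `V` by `1` or `v₀`. -/
structure IsTv (V H : Subgroup X) (t v₀ : X) : Prop where
  mem : t ∈ H
  sq : t * t = 1
  ne : t ≠ 1
  vmem : v₀ ∈ V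
  vne : v₀ ≠ 1
  move : ∀ v ∈ V, t * v * t⁻¹ = v ∨ t * v * t⁻¹ = v * v₀

/-- A nontrivial element of odd order inverted by `t`. -/
structure IsInv (H : Subgroup X) (t f : X) : Prop where
  mem : f ∈ H
  odd : Odd (orderOf f)
  ne : f ≠ 1
  inv : t * f * t⁻¹ = f⁻¹

/-- `[V, f]`. -/
def W (V : Subgroup X) (f : X) : Subgroup X :=
  Subgroup.closure {x | ∃ v ∈ V, x = v⁻¹ * (f * v * f⁻¹)}

theorem mem_four {a b x : X} (ha : a * a = 1) (hb : b * b = 1) (hab : a * b = b * a)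
    (hx : x ∈ Subgroup.closure ({a, b} : Set X)) : x = 1 ∨ x = a ∨ x = b ∨ x = a * b := by
  have hab1 : a * (a * b) = b := by rw [← mul_assoc, ha, one_mul]
  have hab2 : b * (a * b) = a := by rw [hab, ← mul_assoc, hb, one_mul]
  induction hx using Subgroup.closure_induction with
  | mem y hy => rcases hy with rfl | rfl <;> simp
  | one => simp
  | inv y _ hy =>
    rcases hy with rfl | rfl | rfl | rfl
    · simp
    · exact Or.inr (Or.inl (inv_eq_of_mul_eq_one_right ha))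
    · exact Or.inr (Or.inr (Or.inl (inv_eq_of_mul_eq_one_right hb)))
    · refine Or.inr (Or.inr (Or.inr (inv_eq_of_mul_eq_one_right ?_)))
      rw [mul_assoc, hab2, ha]
  | mul y z _ _ hy hz =>
    rcases hy with rfl | rfl | rfl | rfl <;> rcases hz with rfl | rfl | rfl | rfl
    all_goals first
      | simp [ha, hb, hab1, hab2, ← hab]; done
      | (simp only [mul_assoc]; simp [ha, hb, hab1, hab2, ← hab]; done)

theorem conj_conj (g h v : X) : g * (h * v * h⁻¹) * g⁻¹ = g * h * v * (g * h)⁻¹ := by group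

theorem zpowers_cases {f x : X} (h3 : f ^ 3 = 1) (hx : x ∈ Subgroup.zpowers f) :
    x = 1 ∨ x = f ∨ x = f⁻¹ := by
  obtain ⟨i, rfl⟩ := Subgroup.mem_zpowers_iff.1 hx
  have e : f ^ i = f ^ (i % 3) := by
    conv_lhs => rw [← Int.emod_add_mul_ediv i 3]
    rw [zpow_add, zpow_mul, show (3 : ℤ) = ((3 : ℕ) : ℤ) from rfl, zpow_natCast, h3, one_zpow,
      mul_one]
  rcases (by omega : i % 3 = 0 ∨ i % 3 = 1 ∨ i % 3 = 2) with h | h | h <;> rw [e, h]
  · simp
  · simp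
  · refine Or.inr (Or.inr (eq_inv_of_mul_eq_one_right ?_))
    rw [← h3]
    simp [pow_succ, mul_assoc]

variable {V H F : Subgroup X}

namespace Ctx

theorem inv_V (h : Ctx V H F) {v : X} (hv : v ∈ V) : v⁻¹ = v :=
  inv_eq_of_mul_eq_one_right (h.sq v hv)

theorem cancel (h : Ctx V H F) {v : X} (hv : v ∈ V) (x : X) : v * (v * x) = x := by
  rw [← mul_assoc, h.sq v hv, one_mul]

/-- An element of odd order moving `V` inside a subgroup on which it is trivial is trivial. -/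
theorem eq_one_of_stab (h : Ctx V H F) {g : X} (hg : g ∈ H) (ho : Odd (orderOf g))
    {W₀ : Subgroup X} (hWV : W₀ ≤ V) (hfix : ∀ w ∈ W₀, g * w * g⁻¹ = w)
    (hmove : ∀ v ∈ V, v⁻¹ * (g * v * g⁻¹) ∈ W₀) : g = 1 := by
  refine h.faith g hg fun v hv => ?_
  set w := v⁻¹ * (g * v * g⁻¹) with hw
  have hww : w ∈ W₀ := hmove v hv
  have h1 : g * v * g⁻¹ = v * w := by rw [hw]; group
  have hn : ∀ n : ℕ, g ^ n * v * (g ^ n)⁻¹ = v * w ^ n := by
    intro n
    induction n with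
    | zero => simp
    | succ n ih =>
      have : g ^ (n + 1) * v * (g ^ (n + 1))⁻¹ = g * (g ^ n * v * (g ^ n)⁻¹) * g⁻¹ := by
        rw [conj_conj, ← pow_succ']
      rw [this, ih, show g * (v * w ^ n) * g⁻¹ = (g * v * g⁻¹) * (g * w ^ n * g⁻¹) by group, h1,
        hfix _ (pow_mem hww n), mul_assoc, ← pow_succ']
  have h2 := hn (orderOf g)
  rw [pow_orderOf_eq_one, one_mul, inv_one, mul_one] at h2
  obtain ⟨k, hk⟩ := ho
  rw [hk, pow_succ, pow_mul, pow_two, h.sq w (hWV hww), one_pow, one_mul] at h2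
  have : w = 1 := by simpa using h2.symm
  rw [h1, this, mul_one]

theorem W_le (h : Ctx V H F) {f : X} (hf : f ∈ H) : W V f ≤ V :=
  (Subgroup.closure_le V).2 fun _ ⟨v, hv, e⟩ => e ▸ mul_mem (inv_mem hv) (h.norm f hf v hv)

theorem fixes_center (h : Ctx V H F) {t v₀ : X} (ht : IsTv V H t v₀) : t * v₀ * t⁻¹ = v₀ := by
  obtain ⟨v, hv, hne⟩ : ∃ v ∈ V, t * v * t⁻¹ ≠ v := by
    by_contra hall
    push Not at hall
    exact ht.ne (h.faith t ht.mem hall)
  have h1 : t * v * t⁻¹ = v * v₀ := (ht.move v hv).resolve_left hne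
  have h2 : t * (t * v * t⁻¹) * t⁻¹ = v := by rw [conj_conj, ht.sq]; simp
  rw [h1, show t * (v * v₀) * t⁻¹ = (t * v * t⁻¹) * (t * v₀ * t⁻¹) by group, h1] at h2
  calc t * v₀ * t⁻¹ = (v * v₀)⁻¹ * (v * v₀ * (t * v₀ * t⁻¹)) := by group
    _ = v₀⁻¹ := by rw [h2]; group
    _ = v₀ := h.inv_V ht.vmem

theorem conj_tv (h : Ctx V H F) {t v₀ : X} (ht : IsTv V H t v₀) {g : X} (hg : g ∈ H) :
    IsTv V H (g * t * g⁻¹) (g * v₀ * g⁻¹) := by
  refine ⟨mul_mem (mul_mem hg ht.mem) (inv_mem hg), ?_, ?_, h.norm g hg _ ht.vmem, ?_, fun v hv => ?_⟩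
  · rw [show g * t * g⁻¹ * (g * t * g⁻¹) = g * (t * t) * g⁻¹ by group, ht.sq]; group
  · exact fun e => ht.ne (conj_eq_one_iff.1 e)
  · exact fun e => ht.vne (conj_eq_one_iff.1 e)
  · have hv' := h.norm g⁻¹ (inv_mem hg) v hv
    rw [show g * t * g⁻¹ * v * (g * t * g⁻¹)⁻¹ = g * (t * (g⁻¹ * v * g⁻¹⁻¹) * t⁻¹) * g⁻¹ by group]
    rcases ht.move _ hv' with e | e <;> rw [e]
    · left; group
    · right; group

theorem conj_inv (h : Ctx V H F) {t f : X} (hi : IsInv H t f) {g : X} (hg : g ∈ H) :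
    IsInv H (g * t * g⁻¹) (g * f * g⁻¹) := by
  have hc : Function.Injective (MulAut.conj g).toMonoidHom := (MulAut.conj g).injective
  refine ⟨mul_mem (mul_mem hg hi.mem) (inv_mem hg), ?_, ?_, ?_⟩
  · have e := orderOf_injective _ hc f
    rw [show (MulAut.conj g).toMonoidHom f = g * f * g⁻¹ from rfl] at e
    rw [e]; exact hi.odd
  · exact fun e => hi.ne (conj_eq_one_iff.1 e)
  · rw [show g * t * g⁻¹ * (g * f * g⁻¹) * (g * t * g⁻¹)⁻¹ = g * (t * f * t⁻¹) * g⁻¹ by group, hi.inv]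
    group

theorem mem_of_sq (_h : Ctx V H F) {f : X} (ho : Odd (orderOf f)) {S : Subgroup X}
    (hf : f * f ∈ S) : f ∈ S := by
  obtain ⟨k, hk⟩ := ho
  have : (f * f) ^ (k + 1) = f := by
    rw [← pow_two, ← pow_mul, show 2 * (k + 1) = orderOf f + 1 by omega, pow_succ,
      pow_orderOf_eq_one, one_mul]
  exact this ▸ pow_mem hf _

/-- The action of an inverted element. -/
theorem inv_action (h : Ctx V H F) {t v₀ f : X} (ht : IsTv V H t v₀) (hi : IsInv H t f) :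
    (∀ v ∈ V, v⁻¹ * (f * v * f⁻¹) ∈ Subgroup.closure ({v₀, f * v₀ * f⁻¹} : Set X)) ∧
      f * v₀ * f⁻¹ ≠ v₀ ∧ f * (f * v₀ * f⁻¹) * f⁻¹ = v₀ * (f * v₀ * f⁻¹) ∧ f ^ 3 = 1 := by
  set b := f * v₀ * f⁻¹ with hb
  set U := Subgroup.closure ({v₀, b} : Set X) with hU
  have hbV : b ∈ V := h.norm f hi.mem _ ht.vmem
  have hUV : U ≤ V := (Subgroup.closure_le V).2 (by
    rintro x (rfl | rfl)
    exacts [ht.vmem, hbV])
  have hv₀U : v₀ ∈ U := Subgroup.subset_closure (Or.inl rfl)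
  have hbU : b ∈ U := Subgroup.subset_closure (Or.inr rfl)
  have hsq : f * f = (f * t * f⁻¹) * t := by
    have e : t * f⁻¹ * t⁻¹ = f := by
      rw [show t * f⁻¹ * t⁻¹ = (t * f * t⁻¹)⁻¹ by group, hi.inv, inv_inv]
    have e2 : t⁻¹ = t := inv_eq_of_mul_eq_one_right ht.sq
    calc f * f = f * (t * f⁻¹ * t⁻¹) := by rw [e]
      _ = (f * t * f⁻¹) * t := by rw [e2]; group
  have hs := h.conj_tv ht hi.mem
  have move2 : ∀ v ∈ V, v⁻¹ * (f * f * v * (f * f)⁻¹) ∈ U := by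
    intro v hv
    rw [hsq, ← conj_conj]
    obtain ⟨e, he, he'⟩ : ∃ e ∈ U, t * v * t⁻¹ = v * e := by
      rcases ht.move v hv with q | q
      · exact ⟨1, one_mem U, by rw [q, mul_one]⟩
      · exact ⟨v₀, hv₀U, q⟩
    rw [he']
    rcases hs.move _ (mul_mem hv (hUV he)) with q | q <;> rw [q]
    · simpa using he
    · simpa [hb, mul_assoc] using mul_mem he hbU
  -- the elements moving `V` inside `U`
  let S : Subgroup X :=
    { carrier := {g | g ∈ H ∧ ∀ v ∈ V, v⁻¹ * (g * v * g⁻¹) ∈ U}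
      one_mem' := ⟨one_mem H, fun v _ => by simp [one_mem U]⟩
      mul_mem' := fun {g k} hg hk => ⟨mul_mem hg.1 hk.1, fun v hv => by
        have h1 := hg.2 _ (h.norm k hk.1 v hv)
        have e : v⁻¹ * (g * k * v * (g * k)⁻¹) =
            (v⁻¹ * (k * v * k⁻¹)) * ((k * v * k⁻¹)⁻¹ * (g * (k * v * k⁻¹) * g⁻¹)) := by group
        rw [e]
        exact mul_mem (hk.2 v hv) h1⟩
      inv_mem' := fun {g} hg => ⟨inv_mem hg.1, fun v hv => by
        have h1 := inv_mem (hg.2 _ (h.norm g⁻¹ (inv_mem hg.1) v hv))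
        have e : ((g⁻¹ * v * g⁻¹⁻¹)⁻¹ * (g * (g⁻¹ * v * g⁻¹⁻¹) * g⁻¹))⁻¹ =
            v⁻¹ * (g⁻¹ * v * g⁻¹⁻¹) := by group
        rwa [e] at h1⟩ }
  have hfS : f ∈ S := h.mem_of_sq hi.odd (S := S) ⟨mul_mem hi.mem hi.mem, move2⟩
  have move : ∀ v ∈ V, v⁻¹ * (f * v * f⁻¹) ∈ U := hfS.2
  have hc : v₀ * b = b * v₀ := h.comm _ ht.vmem _ hbV
  have four : ∀ x ∈ U, x = 1 ∨ x = v₀ ∨ x = b ∨ x = v₀ * b := fun x hx =>
    mem_four (h.sq _ ht.vmem) (h.sq _ hbV) hc hx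
  have hne : b ≠ v₀ := by
    intro e
    refine hi.ne (h.eq_one_of_stab hi.mem hi.odd hUV (fun w hw => ?_) move)
    have hfv : f * v₀ * f⁻¹ = v₀ := hb ▸ e
    rcases four w hw with rfl | rfl | rfl | rfl
    · group
    · exact hfv
    · rw [e]; exact hfv
    · rw [e, h.sq _ ht.vmem]; group
  have hb1 : b ≠ 1 := fun e => ht.vne (conj_eq_one_iff.1 e)
  have hfb : f * b * f⁻¹ = v₀ * b := by
    have hinU : f * b * f⁻¹ ∈ U := by
      have := mul_mem hbU (move b hbV)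
      rwa [mul_inv_cancel_left] at this
    rcases four _ hinU with e | e | e | e
    · exact absurd (conj_eq_one_iff.1 e) hb1
    · exfalso
      apply hne
      have e2 : f * f * v₀ * (f * f)⁻¹ = v₀ := by rw [← conj_conj]; exact e
      let St : Subgroup X :=
        { carrier := {g | g * v₀ * g⁻¹ = v₀}
          one_mem' := by simp
          mul_mem' := fun {g k} hg hk => by
            show g * k * v₀ * (g * k)⁻¹ = v₀
            rw [← conj_conj, show k * v₀ * k⁻¹ = v₀ from hk]; exact hg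
          inv_mem' := fun {g} hg => by
            show g⁻¹ * v₀ * g⁻¹⁻¹ = v₀
            calc g⁻¹ * v₀ * g⁻¹⁻¹ = g⁻¹ * (g * v₀ * g⁻¹) * g⁻¹⁻¹ := by rw [show g * v₀ * g⁻¹ = v₀ from hg]
              _ = v₀ := by group }
      exact h.mem_of_sq hi.odd (S := St) e2
    · exact absurd (mul_left_cancel (mul_right_cancel (e.trans hb))) hne
    · exact e
  refine ⟨move, hne, hfb, ?_⟩
  have hf3v : f ^ 3 * v₀ * (f ^ 3)⁻¹ = v₀ := by
    rw [pow_three, ← conj_conj, ← conj_conj, ← hb, hfb,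
      show f * (v₀ * b) * f⁻¹ = (f * v₀ * f⁻¹) * (f * b * f⁻¹) by group, ← hb, hfb, hc,
      h.cancel hbV]
  have hf3b : f ^ 3 * b * (f ^ 3)⁻¹ = b := by
    rw [hb, conj_conj, ← pow_succ, pow_succ', ← conj_conj, hf3v]
  have hS3 : f ^ 3 ∈ S := pow_mem hfS 3
  refine h.eq_one_of_stab (pow_mem hi.mem 3) ?_ hUV (fun w hw => ?_) hS3.2
  · exact hi.odd.of_dvd_nat (orderOf_pow_dvd 3)
  · rcases four w hw with rfl | rfl | rfl | rfl
    · group
    · exact hf3v
    · exact hf3b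
    · rw [show f ^ 3 * (v₀ * b) * (f ^ 3)⁻¹ = (f ^ 3 * v₀ * (f ^ 3)⁻¹) * (f ^ 3 * b * (f ^ 3)⁻¹) by group,
        hf3v, hf3b]

theorem W_eq (h : Ctx V H F) {t v₀ f : X} (ht : IsTv V H t v₀) (hi : IsInv H t f) :
    W V f = Subgroup.closure ({v₀, f * v₀ * f⁻¹} : Set X) := by
  obtain ⟨move, -, hfb, -⟩ := h.inv_action ht hi
  set b := f * v₀ * f⁻¹ with hb
  have hbV : b ∈ V := h.norm f hi.mem _ ht.vmem
  refine le_antisymm ((Subgroup.closure_le _).2 fun _ ⟨v, hv, e⟩ => e ▸ move v hv) ?_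
  have h1 : v₀ * b ∈ W V f :=
    Subgroup.subset_closure ⟨v₀, ht.vmem, by rw [← hb, h.inv_V ht.vmem]⟩
  have h2 : v₀ ∈ W V f :=
    Subgroup.subset_closure ⟨b, hbV, by rw [hfb, h.comm _ ht.vmem _ hbV, h.inv_V hbV, h.cancel hbV]⟩
  refine (Subgroup.closure_le _).2 ?_
  rintro x (rfl | rfl)
  · exact h2
  · have := mul_mem h2 h1
    rwa [h.cancel ht.vmem] at this

theorem vmem_W (h : Ctx V H F) {t v₀ f : X} (ht : IsTv V H t v₀) (hi : IsInv H t f) :
    v₀ ∈ W V f := by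
  rw [h.W_eq ht hi]; exact Subgroup.subset_closure (Or.inl rfl)

theorem pow_three (h : Ctx V H F) {t v₀ f : X} (ht : IsTv V H t v₀) (hi : IsInv H t f) :
    f ^ 3 = 1 := (h.inv_action ht hi).2.2.2

theorem W_card (h : Ctx V H F) {t v₀ f : X} (ht : IsTv V H t v₀) (hi : IsInv H t f) :
    Nat.card ↥(W V f) = 4 := by
  classical
  obtain ⟨-, hne, -, -⟩ := h.inv_action ht hi
  rw [h.W_eq ht hi]
  set b := f * v₀ * f⁻¹ with hb
  have hbV : b ∈ V := h.norm f hi.mem _ ht.vmem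
  have hb1 : b ≠ 1 := fun e => ht.vne (conj_eq_one_iff.1 e)
  have hc : v₀ * b = b * v₀ := h.comm _ ht.vmem _ hbV
  have e : (Subgroup.closure ({v₀, b} : Set X) : Set X) = ↑({1, v₀, b, v₀ * b} : Finset X) := by
    ext x
    simp only [SetLike.mem_coe, Finset.coe_insert, Finset.coe_singleton, Set.mem_insert_iff,
      Set.mem_singleton_iff]
    refine ⟨fun hx => mem_four (h.sq _ ht.vmem) (h.sq _ hbV) hc hx, ?_⟩
    rintro (rfl | rfl | rfl | rfl)
    · exact one_mem _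
    · exact Subgroup.subset_closure (Or.inl rfl)
    · exact Subgroup.subset_closure (Or.inr rfl)
    · exact mul_mem (Subgroup.subset_closure (Or.inl rfl)) (Subgroup.subset_closure (Or.inr rfl))
  have h1 : v₀ * b ≠ 1 := fun q => hne ((mul_eq_one_iff_eq_inv'.1 q).trans (h.inv_V ht.vmem))
  rw [← SetLike.coe_sort_coe, e, Nat.card_eq_card_toFinset, Finset.toFinset_coe,
    Finset.card_insert_of_notMem, Finset.card_insert_of_notMem, Finset.card_pair]
  · simp [ht.vne, Ne.symm ht.vne, Ne.symm hne, h1, Ne.symm h1]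
  · simp [Ne.symm hne, hb1]
  · simp [Ne.symm ht.vne, Ne.symm hb1, Ne.symm h1]

theorem W_conj (h : Ctx V H F) {f g : X} (hg : g ∈ H) {w : X} (hw : w ∈ W V f) :
    g * w * g⁻¹ ∈ W V (g * f * g⁻¹) := by
  induction hw using Subgroup.closure_induction with
  | mem y hy =>
    obtain ⟨v, hv, rfl⟩ := hy
    exact Subgroup.subset_closure ⟨g * v * g⁻¹, h.norm g hg v hv, by group⟩
  | one => simp [one_mem]
  | inv y _ hy => rw [show g * y⁻¹ * g⁻¹ = (g * y * g⁻¹)⁻¹ by group]; exact inv_mem hy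
  | mul y z _ _ hy hz =>
    rw [show g * (y * z) * g⁻¹ = (g * y * g⁻¹) * (g * z * g⁻¹) by group]; exact mul_mem hy hz

theorem W_comm_mem (h : Ctx V H F) {f g : X} (hg : g ∈ H) (hc : g * f = f * g) {w : X}
    (hw : w ∈ W V f) : g * w * g⁻¹ ∈ W V f := by
  have := h.W_conj hg hw
  rwa [hc, mul_inv_cancel_right] at this

/-- An element commuting with `f` fixing a nontrivial element of `W` fixes `W`. -/
theorem fix_W (h : Ctx V H F) {t v₀ f : X} (ht : IsTv V H t v₀) (hi : IsInv H t f)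
    {g : X} (hgf : g * f = f * g) {w : X} (hw : w ∈ W V f) (hw1 : w ≠ 1)
    (hgw : g * w * g⁻¹ = w) : ∀ x ∈ W V f, g * x * g⁻¹ = x := by
  obtain ⟨-, -, hfb, -⟩ := h.inv_action ht hi
  rw [h.W_eq ht hi] at hw ⊢
  set b := f * v₀ * f⁻¹ with hb
  have hbV : b ∈ V := h.norm f hi.mem _ ht.vmem
  have hc : v₀ * b = b * v₀ := h.comm _ ht.vmem _ hbV
  have step : ∀ x, g * x * g⁻¹ = x → g * (f * x * f⁻¹) * g⁻¹ = f * x * f⁻¹ := by
    intro x hx
    rw [conj_conj, hgf, ← conj_conj, hx]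
  have hf3 : f * (v₀ * b) * f⁻¹ = v₀ := by
    rw [show f * (v₀ * b) * f⁻¹ = (f * v₀ * f⁻¹) * (f * b * f⁻¹) by group, ← hb, hfb, hc,
      h.cancel hbV]
  have hall : g * v₀ * g⁻¹ = v₀ ∧ g * b * g⁻¹ = b := by
    rcases mem_four (h.sq _ ht.vmem) (h.sq _ hbV) hc hw with rfl | rfl | rfl | rfl
    · exact absurd rfl hw1
    · exact ⟨hgw, step _ hgw⟩
    · have h1 := step _ hgw
      rw [hfb] at h1
      have h2 := step _ h1
      rw [hf3] at h2
      exact ⟨h2, hgw⟩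
    · have h2 := step _ hgw
      rw [hf3] at h2
      exact ⟨h2, step _ h2⟩
  intro x hx
  induction hx using Subgroup.closure_induction with
  | mem y hy => rcases hy with rfl | rfl; exacts [hall.1, hall.2]
  | one => group
  | inv y _ hy =>
    calc g * y⁻¹ * g⁻¹ = (g * y * g⁻¹)⁻¹ := by group
      _ = y⁻¹ := by rw [hy]
  | mul y z _ _ hy hz =>
    calc g * (y * z) * g⁻¹ = (g * y * g⁻¹) * (g * z * g⁻¹) := by group
      _ = y * z := by rw [hy, hz]

theorem odd_of_mem (h : Ctx V H F) {f : X} (hf : f ∈ F) : Odd (orderOf f) := h.F_odd f hf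

/-- Two nontrivial elements of `F` inverted by `t` generate the same subgroup. -/
theorem inv_unique (h : Ctx V H F) {t v₀ f g : X} (ht : IsTv V H t v₀) (hi : IsInv H t f)
    (hj : IsInv H t g) (hf : f ∈ F) (hg : g ∈ F) : g = f ∨ g = f⁻¹ := by
  obtain ⟨move, hne, hfb, hf3⟩ := h.inv_action ht hi
  obtain ⟨move', hne', hgb, -⟩ := h.inv_action ht hj
  have eW := h.W_eq ht hi
  have eW' := h.W_eq ht hj
  set b := f * v₀ * f⁻¹ with hb
  set b' := g * v₀ * g⁻¹ with hb'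
  have hbV : b ∈ V := h.norm f hi.mem _ ht.vmem
  have hb'V : b' ∈ V := h.norm g hj.mem _ ht.vmem
  have hc : v₀ * b = b * v₀ := h.comm _ ht.vmem _ hbV
  have hfvb : f * (v₀ * b) * f⁻¹ = v₀ := by
    rw [show f * (v₀ * b) * f⁻¹ = (f * v₀ * f⁻¹) * (f * b * f⁻¹) by group, ← hb, hfb, hc,
      h.cancel hbV]
  set U := Subgroup.closure ({v₀, b} : Set X) with hU
  by_cases hcase : b' ∈ U
  · have hb'1 : b' ≠ 1 := fun e => ht.vne (conj_eq_one_iff.1 e)
    -- `g` acts on `U` as `f` or `f⁻¹`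
    have fixk : ∀ k : X, k ∈ F → (k * v₀ * k⁻¹ = v₀) → (k * b * k⁻¹ = b) →
        (∀ v ∈ V, v⁻¹ * (k * v * k⁻¹) ∈ U) → k = 1 := by
      intro k hk h1 h2 h3
      refine h.eq_one_of_stab (h.F_le hk) (h.F_odd k hk) (eW ▸ h.W_le hi.mem) (fun w hw => ?_) h3
      rcases mem_four (h.sq _ ht.vmem) (h.sq _ hbV) hc hw with rfl | rfl | rfl | rfl
      · group
      · exact h1
      · exact h2
      · rw [show k * (v₀ * b) * k⁻¹ = (k * v₀ * k⁻¹) * (k * b * k⁻¹) by group, h1, h2]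
    have hsub : Subgroup.closure ({v₀, b'} : Set X) ≤ U := (Subgroup.closure_le _).2 (by
      rintro x (rfl | rfl)
      exacts [Subgroup.subset_closure (Or.inl rfl), hcase])
    have hmg : ∀ v ∈ V, v⁻¹ * (g * v * g⁻¹) ∈ U := fun v hv => hsub (move' v hv)
    rcases mem_four (h.sq _ ht.vmem) (h.sq _ hbV) hc hcase with e | e | e | e
    · exact absurd e hb'1
    · exact absurd e hne'
    · left
      rw [e] at hgb
      have : f⁻¹ * g = 1 := by
        refine fixk _ (mul_mem (inv_mem hf) hg) ?_ ?_ fun v hv => ?_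
        · calc f⁻¹ * g * v₀ * (f⁻¹ * g)⁻¹ = f⁻¹ * b' * f⁻¹⁻¹ := by rw [hb']; group
            _ = v₀ := by rw [e, hb]; group
        · calc f⁻¹ * g * b * (f⁻¹ * g)⁻¹ = f⁻¹ * (g * b * g⁻¹) * f⁻¹⁻¹ := by group
            _ = f⁻¹ * (f * b * f⁻¹) * f⁻¹⁻¹ := by rw [hgb, hfb]
            _ = b := by group
        · have hgv := h.norm g hj.mem v hv
          have h1 := inv_mem (move _ (h.norm f⁻¹ (inv_mem hi.mem) _ hgv))
          have e2 : v⁻¹ * (f⁻¹ * g * v * (f⁻¹ * g)⁻¹) = (v⁻¹ * (g * v * g⁻¹)) *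
              ((f⁻¹ * (g * v * g⁻¹) * f⁻¹⁻¹)⁻¹ * (f * (f⁻¹ * (g * v * g⁻¹) * f⁻¹⁻¹) * f⁻¹))⁻¹ := by
            group
          rw [e2]
          exact mul_mem (hmg v hv) h1
      exact (inv_mul_eq_one.1 this).symm
    · right
      rw [e, h.cancel ht.vmem] at hgb
      have hgb' : g * b * g⁻¹ = v₀ := by
        calc g * b * g⁻¹ = g * (v₀ * b' ) * g⁻¹ := by rw [e, h.cancel ht.vmem]
          _ = b' * (g * b' * g⁻¹) := by rw [hb']; group
          _ = v₀ := by rw [e, hgb, mul_assoc, h.sq _ hbV, mul_one]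
      have : f * g = 1 := by
        refine fixk _ (mul_mem hf hg) ?_ ?_ fun v hv => ?_
        · rw [← conj_conj, ← hb', e, hfvb]
        · rw [← conj_conj, hgb']
        · have h1 := move _ (h.norm g hj.mem v hv)
          have e2 : v⁻¹ * (f * g * v * (f * g)⁻¹) =
              (v⁻¹ * (g * v * g⁻¹)) * ((g * v * g⁻¹)⁻¹ * (f * (g * v * g⁻¹) * f⁻¹)) := by group
          rw [e2]
          exact mul_mem (hmg v hv) h1
      exact eq_inv_of_mul_eq_one_right this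
  · exfalso
    set P := Subgroup.closure ({f, g} : Set X) with hP
    have hPF : P ≤ F := (Subgroup.closure_le F).2 (by
      rintro x (rfl | rfl)
      exacts [hf, hg])
    have := h.F_nilp
    have : Group.IsNilpotent ↥P :=
      Group.nilpotent_of_mulEquiv (Subgroup.subgroupOfEquivOfLe hPF)
    have : Nontrivial ↥P := ⟨⟨⟨f, Subgroup.subset_closure (Or.inl rfl)⟩, 1,
      fun e => hi.ne (congrArg Subtype.val e)⟩⟩
    have : Nontrivial (Subgroup.center ↥P) :=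
      (Subgroup.nontrivial_iff_ne_bot _).2 (Group.IsNilpotent.center_ne_bot ↥P)
    obtain ⟨z, hz⟩ := exists_ne (1 : Subgroup.center ↥P)
    set z' : X := ((z : ↥P) : X) with hz'
    have hzP : z' ∈ P := (z : ↥P).2
    have hzH : z' ∈ H := h.F_le (hPF hzP)
    have hzc : ∀ p ∈ P, z' * p = p * z' := fun p hp =>
      (congrArg Subtype.val (Subgroup.mem_center_iff.1 z.2 ⟨p, hp⟩)).symm
    have hzf := hzc f (Subgroup.subset_closure (Or.inl rfl))
    have hzg := hzc g (Subgroup.subset_closure (Or.inr rfl))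
    have h1 : z' * v₀ * z'⁻¹ ∈ U := eW ▸ h.W_comm_mem hzH hzf (h.vmem_W ht hi)
    have h2 : z' * v₀ * z'⁻¹ ∈ Subgroup.closure ({v₀, b'} : Set X) :=
      eW' ▸ h.W_comm_mem hzH hzg (h.vmem_W ht hj)
    have hzv : z' * v₀ * z'⁻¹ = v₀ := by
      rcases mem_four (h.sq _ ht.vmem) (h.sq _ hb'V) (h.comm _ ht.vmem _ hb'V) h2 with q | q | q | q
      · exact absurd (conj_eq_one_iff.1 q) ht.vne
      · exact q
      · exact absurd (q ▸ h1) hcase
      · exfalso
        have := mul_mem (Subgroup.subset_closure (Or.inl rfl) : v₀ ∈ U) (q ▸ h1)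
        rw [h.cancel ht.vmem] at this
        exact hcase this
    have fixf := h.fix_W ht hi hzf (h.vmem_W ht hi) ht.vne hzv
    have fixg := h.fix_W ht hj hzg (h.vmem_W ht hj) ht.vne hzv
    set U' := W V f ⊔ W V g with hU'
    have hU'V : U' ≤ V := sup_le (h.W_le hi.mem) (h.W_le hj.mem)
    have movP : ∀ p ∈ P, p ∈ H ∧ ∀ v ∈ V, v⁻¹ * (p * v * p⁻¹) ∈ U' := by
      intro p hp
      induction hp using Subgroup.closure_induction with
      | mem y hy =>
        rcases hy with rfl | rfl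
        · exact ⟨hi.mem, fun v hv => Subgroup.mem_sup_left (Subgroup.subset_closure ⟨v, hv, rfl⟩)⟩
        · exact ⟨hj.mem, fun v hv => Subgroup.mem_sup_right (Subgroup.subset_closure ⟨v, hv, rfl⟩)⟩
      | one => exact ⟨one_mem H, fun v _ => by simp [one_mem]⟩
      | inv y _ hy =>
        refine ⟨inv_mem hy.1, fun v hv => ?_⟩
        have h1 := inv_mem (hy.2 _ (h.norm y⁻¹ (inv_mem hy.1) v hv))
        have e : ((y⁻¹ * v * y⁻¹⁻¹)⁻¹ * (y * (y⁻¹ * v * y⁻¹⁻¹) * y⁻¹))⁻¹ =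
            v⁻¹ * (y⁻¹ * v * y⁻¹⁻¹) := by group
        rwa [e] at h1
      | mul y w _ _ hy hw =>
        refine ⟨mul_mem hy.1 hw.1, fun v hv => ?_⟩
        have h1 := hy.2 _ (h.norm w hw.1 v hv)
        have e : v⁻¹ * (y * w * v * (y * w)⁻¹) =
            (v⁻¹ * (w * v * w⁻¹)) * ((w * v * w⁻¹)⁻¹ * (y * (w * v * w⁻¹) * y⁻¹)) := by group
        rw [e]
        exact mul_mem (hw.2 v hv) h1
    let Fx : Subgroup X :=
      { carrier := {x | z' * x * z'⁻¹ = x}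
        one_mem' := by simp
        mul_mem' := fun {a c} ha hc' => by
          show z' * (a * c) * z'⁻¹ = a * c
          calc _ = (z' * a * z'⁻¹) * (z' * c * z'⁻¹) := by group
            _ = _ := by rw [show z' * a * z'⁻¹ = a from ha, show z' * c * z'⁻¹ = c from hc']
        inv_mem' := fun {a} ha => by
          show z' * a⁻¹ * z'⁻¹ = a⁻¹
          calc _ = (z' * a * z'⁻¹)⁻¹ := by group
            _ = _ := by rw [show z' * a * z'⁻¹ = a from ha] }
    have hz1 : z' = 1 := h.eq_one_of_stab hzH (h.F_odd _ (hPF hzP)) hU'V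
      (fun w hw => (sup_le fixf fixg : U' ≤ Fx) hw) (movP z' hzP).2
    exact hz (Subtype.ext (Subtype.ext hz1))

/-- Every such involution inverts a nontrivial element of `F`. -/
theorem exists_inv (h : Ctx V H F) {t v₀ : X} (ht : IsTv V H t v₀) : ∃ f ∈ F, IsInv H t f := by
  obtain ⟨x, hx, hne⟩ : ∃ x ∈ F, x * t ≠ t * x := by
    by_contra hall
    push Not at hall
    have htF := h.F_cent t ht.mem hall
    obtain ⟨k, hk⟩ := h.F_odd t htF
    have := pow_orderOf_eq_one t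
    rw [hk, pow_succ, pow_mul, pow_two, ht.sq, one_pow, one_mul] at this
    exact ht.ne this
  have hm : x * (t * x⁻¹ * t⁻¹) ∈ F := mul_mem hx (h.F_norm t ht.mem _ (inv_mem hx))
  refine ⟨_, hm, h.F_le hm, h.F_odd _ hm, fun e => hne ?_, ?_⟩
  · calc x * t = x * (t * x⁻¹ * t⁻¹) * (t * x) := by group
      _ = t * x := by rw [e, one_mul]
  · have e2 : t⁻¹ = t := inv_eq_of_mul_eq_one_right ht.sq
    rw [mul_inv_rev, mul_inv_rev, mul_inv_rev, inv_inv, inv_inv]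
    rw [e2]
    calc t * (x * (t * x⁻¹ * t)) * t = t * x * t * x⁻¹ * (t * t) := by group
      _ = t * (x * t) * x⁻¹ := by rw [ht.sq]; group
      _ = _ := by group

/-- An inverted element of `F` is central in `F`. -/
theorem inv_central (h : Ctx V H F) {t v₀ f : X} (ht : IsTv V H t v₀) (hi : IsInv H t f)
    (hf : f ∈ F) {x : X} (hx : x ∈ F) : x * f = f * x := by
  have h3 := h.pow_three ht hi
  -- commutators with `t` lie in `⟨f⟩`
  have key : ∀ y ∈ F, y * (t * y⁻¹ * t⁻¹) ∈ Subgroup.zpowers f := by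
    intro y hy
    by_cases e : y * (t * y⁻¹ * t⁻¹) = 1
    · rw [e]; exact one_mem _
    have hm : y * (t * y⁻¹ * t⁻¹) ∈ F := mul_mem hy (h.F_norm t ht.mem _ (inv_mem hy))
    have hinv : IsInv H t (y * (t * y⁻¹ * t⁻¹)) := by
      refine ⟨h.F_le hm, h.F_odd _ hm, e, ?_⟩
      have e2 : t⁻¹ = t := inv_eq_of_mul_eq_one_right ht.sq
      rw [mul_inv_rev, mul_inv_rev, mul_inv_rev, inv_inv, inv_inv]
      rw [e2]
      calc t * (y * (t * y⁻¹ * t)) * t = t * y * t * y⁻¹ * (t * t) := by group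
        _ = t * (y * t) * y⁻¹ := by rw [ht.sq]; group
        _ = _ := by group
    rcases h.inv_unique ht hi hinv hf hm with q | q <;> rw [q]
    · exact Subgroup.mem_zpowers f
    · exact inv_mem (Subgroup.mem_zpowers f)
  have hf2 : f * (t * f⁻¹ * t⁻¹) = f * f := by
    rw [show t * f⁻¹ * t⁻¹ = (t * f * t⁻¹)⁻¹ by group, hi.inv, inv_inv]
  have hconj : x * (f * f) * x⁻¹ ∈ Subgroup.zpowers f := by
    have e : x * (f * (t * f⁻¹ * t⁻¹)) * x⁻¹ =
        (x * f * (t * (x * f)⁻¹ * t⁻¹)) * (x * (t * x⁻¹ * t⁻¹))⁻¹ := by group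
    rw [← hf2, e]
    exact mul_mem (key _ (mul_mem hx hf)) (inv_mem (key x hx))
  have hxf : x * f * x⁻¹ ∈ Subgroup.zpowers f := by
    have e : (x * (f * f) * x⁻¹) ^ 2 = x * f * x⁻¹ := by
      rw [conj_pow, ← pow_two, ← pow_mul, show 2 * 2 = 3 + 1 from rfl, pow_succ, h3, one_mul]
    exact e ▸ pow_mem hconj 2
  rcases zpowers_cases h3 hxf with q | q | q
  · exact absurd (conj_eq_one_iff.1 q) hi.ne
  · exact mul_inv_eq_iff_eq_mul.1 q
  · exfalso
    have e2 : x * x * f * (x * x)⁻¹ = f := by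
      rw [← conj_conj, q]
      calc x * f⁻¹ * x⁻¹ = (x * f * x⁻¹)⁻¹ := by group
        _ = f := by rw [q, inv_inv]
    let St : Subgroup X :=
      { carrier := {g | g * f * g⁻¹ = f}
        one_mem' := by simp
        mul_mem' := fun {g k} hg hk => by
          show g * k * f * (g * k)⁻¹ = f
          rw [← conj_conj, show k * f * k⁻¹ = f from hk]; exact hg
        inv_mem' := fun {g} hg => by
          show g⁻¹ * f * g⁻¹⁻¹ = f
          calc g⁻¹ * f * g⁻¹⁻¹ = g⁻¹ * (g * f * g⁻¹) * g⁻¹⁻¹ := by rw [show g * f * g⁻¹ = f from hg]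
            _ = f := by group }
    have h4 : x * f * x⁻¹ = f := h.mem_of_sq (h.F_odd x hx) (S := St) e2
    have h5 : f * f = 1 := by
      calc f * f = f * (x * f * x⁻¹) := by rw [h4]
        _ = 1 := by rw [q, mul_inv_cancel]
    refine hi.ne ?_
    calc f = f ^ 3 * (f * f)⁻¹ := by rw [pow_succ, pow_two]; group
      _ = 1 := by rw [h3, h5]; simp

/-- Inverted elements of `F` whose subgroups `W` meet generate the same subgroup. -/
theorem same_of_meet (h : Ctx V H F) {t v₀ f t' u g : X} (ht : IsTv V H t v₀) (hi : IsInv H t f)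
    (hf : f ∈ F) (ht' : IsTv V H t' u) (hj : IsInv H t' g) (hgF : g ∈ F) {w : X}
    (hw : w ∈ W V f) (hw' : w ∈ W V g) (hw1 : w ≠ 1) : g = f ∨ g = f⁻¹ := by
  obtain ⟨move, -, -, -⟩ := h.inv_action ht hi
  have eW := h.W_eq ht hi
  set b := f * v₀ * f⁻¹ with hb
  have hbV : b ∈ V := h.norm f hi.mem _ ht.vmem
  have hcomm : f * g = g * f := h.inv_central ht' hj hgF hf
  -- `W g ≤ W f`
  obtain ⟨-, hne', hgb, -⟩ := h.inv_action ht' hj
  have eW' := h.W_eq ht' hj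
  set b' := g * u * g⁻¹ with hb'
  have hb'V : b' ∈ V := h.norm g hj.mem _ ht'.vmem
  have hstab : ∀ x ∈ W V f, g * x * g⁻¹ ∈ W V f := fun x hx => h.W_comm_mem hj.mem hcomm.symm hx
  have hg3 : g * (u * b') * g⁻¹ = u := by
    rw [show g * (u * b') * g⁻¹ = (g * u * g⁻¹) * (g * b' * g⁻¹) by group, ← hb', hgb,
      h.comm _ ht'.vmem _ hb'V, h.cancel hb'V]
  have hsub : W V g ≤ W V f := by
    rw [eW'] at hw' ⊢
    have hall : u ∈ W V f ∧ b' ∈ W V f := by
      rcases mem_four (h.sq _ ht'.vmem) (h.sq _ hb'V) (h.comm _ ht'.vmem _ hb'V) hw' with rfl | rfl | rfl | rfl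
      · exact absurd rfl hw1
      · exact ⟨hw, hstab _ hw⟩
      · have h1 := hstab _ hw
        rw [hgb] at h1
        have h2 := hstab _ h1
        rw [hg3] at h2
        exact ⟨h2, hw⟩
      · have h2 := hstab _ hw
        rw [hg3] at h2
        exact ⟨h2, hstab _ h2⟩
    exact (Subgroup.closure_le _).2 (by rintro x (rfl | rfl); exacts [hall.1, hall.2])
  -- `g` agrees with a power of `f` on `W f`
  have hgv : g * v₀ * g⁻¹ ∈ W V f := hstab _ (h.vmem_W ht hi)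
  have fin : ∀ k : X, k ∈ Subgroup.zpowers f → k * v₀ * k⁻¹ = g * v₀ * g⁻¹ → g = k := by
    intro k hk e
    have hkF : k ∈ F := (Subgroup.zpowers_le.2 hf) hk
    have hkc : k * f = f * k := by
      obtain ⟨i, rfl⟩ := Subgroup.mem_zpowers_iff.1 hk
      exact ((Commute.refl f).zpow_left i).eq
    have hc' : (k⁻¹ * g) * f = f * (k⁻¹ * g) :=
      (Commute.mul_left (Commute.inv_left (show Commute k f from hkc)) (show Commute g f from hcomm.symm)).eq
    have hfix : k⁻¹ * g * v₀ * (k⁻¹ * g)⁻¹ = v₀ := by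
      rw [← conj_conj, ← e]; group
    have := h.eq_one_of_stab (mul_mem (inv_mem (h.F_le hkF)) hj.mem)
      (h.F_odd _ (mul_mem (inv_mem hkF) hgF)) (h.W_le hi.mem)
      (h.fix_W ht hi hc' (h.vmem_W ht hi) ht.vne hfix) ?_
    · exact (inv_mul_eq_one.1 this).symm
    intro v hv
    have hkmove : ∀ y ∈ V, y⁻¹ * (k⁻¹ * y * k⁻¹⁻¹) ∈ W V f := by
      intro y hy
      rcases zpowers_cases (h.pow_three ht hi) (inv_mem hk) with q | q | q <;> rw [q]
      · simp [one_mem]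
      · exact Subgroup.subset_closure ⟨y, hy, rfl⟩
      · have h1 := inv_mem (Subgroup.subset_closure
          (⟨_, h.norm f⁻¹ (inv_mem hi.mem) y hy, rfl⟩ :
            (f⁻¹ * y * f⁻¹⁻¹)⁻¹ * (f * (f⁻¹ * y * f⁻¹⁻¹) * f⁻¹) ∈ {x | ∃ v ∈ V, x = v⁻¹ * (f * v * f⁻¹)}) :
          _ ∈ W V f)
        have e2 : ((f⁻¹ * y * f⁻¹⁻¹)⁻¹ * (f * (f⁻¹ * y * f⁻¹⁻¹) * f⁻¹))⁻¹ =
            y⁻¹ * (f⁻¹ * y * f⁻¹⁻¹) := by group
        rwa [e2] at h1
    have e3 : v⁻¹ * (k⁻¹ * g * v * (k⁻¹ * g)⁻¹) =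
        (v⁻¹ * (g * v * g⁻¹)) * ((g * v * g⁻¹)⁻¹ * (k⁻¹ * (g * v * g⁻¹) * k⁻¹⁻¹)) := by group
    rw [e3]
    exact mul_mem (hsub (Subgroup.subset_closure ⟨v, hv, rfl⟩)) (hkmove _ (h.norm g hj.mem v hv))
  obtain ⟨-, -, hfb, hf3⟩ := h.inv_action ht hi
  rw [eW] at hgv
  rcases mem_four (h.sq _ ht.vmem) (h.sq _ hbV) (h.comm _ ht.vmem _ hbV) hgv with q | q | q | q
  · exact absurd (conj_eq_one_iff.1 q) ht.vne
  · exact absurd (fin 1 (one_mem _) (by rw [q]; group)) hj.ne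
  · exact Or.inl (fin f (Subgroup.mem_zpowers f) q.symm)
  · refine Or.inr (fin f⁻¹ (inv_mem (Subgroup.mem_zpowers f)) ?_)
    have e : f⁻¹ = f * f := inv_eq_of_mul_eq_one_right (by rw [← hf3, pow_succ', pow_two])
    rw [q, hb, ← hfb, conj_conj f f, ← e]

/-- Two such involutions: the second fixes or inverts the element inverted by the first. -/
theorem tv_normalizes (h : Ctx V H F) {t v₀ f s s₀ : X} (ht : IsTv V H t v₀) (hi : IsInv H t f)
    (hf : f ∈ F) (hs : IsTv V H s s₀) : s * f * s⁻¹ = f ∨ s * f * s⁻¹ = f⁻¹ := by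
  set g := s * f * s⁻¹ with hg
  have hgF : g ∈ F := h.F_norm s hs.mem f hf
  have ht' := h.conj_tv ht hs.mem
  have hj := h.conj_inv hi hs.mem
  rw [← hg] at hj
  obtain ⟨move, -, -, -⟩ := h.inv_action ht hi
  have eW := h.W_eq ht hi
  set b := f * v₀ * f⁻¹ with hb
  have hbV : b ∈ V := h.norm f hi.mem _ ht.vmem
  -- a common nontrivial element of `W f` and `W g`
  obtain ⟨w, hw, hw', hw1⟩ : ∃ w ∈ W V f, w ∈ W V g ∧ w ≠ 1 := by
    have hv : ∀ x ∈ W V f, s * x * s⁻¹ = x → x ∈ W V g := fun x hx e => e ▸ (hg ▸ h.W_conj hs.mem hx)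
    have hv₀ : v₀ ∈ W V f := h.vmem_W ht hi
    have hbW : b ∈ W V f := by rw [eW]; exact Subgroup.subset_closure (Or.inr rfl)
    have hb1 : b ≠ 1 := fun e => ht.vne (conj_eq_one_iff.1 e)
    rcases hs.move _ ht.vmem with q | q
    · exact ⟨v₀, hv₀, hv _ hv₀ q, ht.vne⟩
    rcases hs.move _ hbV with q' | q'
    · exact ⟨b, hbW, hv _ hbW q', hb1⟩
    refine ⟨v₀ * b, mul_mem hv₀ hbW, hv _ (mul_mem hv₀ hbW) ?_, fun e => ?_⟩
    · rw [show s * (v₀ * b) * s⁻¹ = (s * v₀ * s⁻¹) * (s * b * s⁻¹) by group, q, q',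
        h.comm b hbV s₀ hs.vmem, mul_assoc v₀, h.cancel hs.vmem]
    · exact (h.inv_action ht hi).2.1 ((mul_eq_one_iff_eq_inv'.1 e).trans (h.inv_V ht.vmem))
  exact h.same_of_meet ht hi hf ht' hj hgF hw hw' hw1

/-- Two involutions with the same centre inverting the same element are equal. -/
theorem tv_eq (h : Ctx V H F) {t v₀ f s : X} (ht : IsTv V H t v₀) (hi : IsInv H t f)
    (hs : IsTv V H s v₀) (hj : IsInv H s f) : s = t := by
  obtain ⟨move, hne, hfb, -⟩ := h.inv_action ht hi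
  set b := f * v₀ * f⁻¹ with hb
  have hbV : b ∈ V := h.norm f hi.mem _ ht.vmem
  have hc : v₀ * b = b * v₀ := h.comm _ ht.vmem _ hbV
  -- fixed points of `f` are fixed by both
  have hfix : ∀ {r : X}, IsTv V H r v₀ → IsInv H r f → ∀ y ∈ V, f * y * f⁻¹ = y →
      r * y * r⁻¹ = y := by
    intro r hr hrf y hy hfy
    rcases hr.move y hy with q | q
    · exact q
    exfalso
    have e : f⁻¹ * y * f⁻¹⁻¹ = y := by
      calc f⁻¹ * y * f⁻¹⁻¹ = f⁻¹ * (f * y * f⁻¹) * f⁻¹⁻¹ := by rw [hfy]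
        _ = y := by group
    have e' : r * f⁻¹ * r⁻¹ = f := by
      rw [show r * f⁻¹ * r⁻¹ = (r * f * r⁻¹)⁻¹ by group, hrf.inv, inv_inv]
    have e2 : f * (r * y * r⁻¹) * f⁻¹ = r * y * r⁻¹ := by
      calc f * (r * y * r⁻¹) * f⁻¹ = (r * f⁻¹ * r⁻¹) * (r * y * r⁻¹) * (r * f⁻¹ * r⁻¹)⁻¹ := by rw [e']
        _ = r * (f⁻¹ * y * f⁻¹⁻¹) * r⁻¹ := by group
        _ = r * y * r⁻¹ := by rw [e]
    rw [q, show f * (y * v₀) * f⁻¹ = (f * y * f⁻¹) * (f * v₀ * f⁻¹) by group, hfy] at e2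
    exact hne (hb.trans (mul_left_cancel e2))
  -- both act alike on `W f`
  have hW : ∀ {r : X}, IsTv V H r v₀ → IsInv H r f → r * v₀ * r⁻¹ = v₀ ∧ r * b * r⁻¹ = v₀ * b := by
    intro r hr hrf
    refine ⟨h.fixes_center hr, ?_⟩
    have e : r * b * r⁻¹ = f⁻¹ * v₀ * f⁻¹⁻¹ := by
      rw [hb, show r * (f * v₀ * f⁻¹) * r⁻¹ = (r * f * r⁻¹) * (r * v₀ * r⁻¹) * (r * f * r⁻¹)⁻¹ by group,
        hrf.inv, h.fixes_center hr]
    rw [e]
    calc f⁻¹ * v₀ * f⁻¹⁻¹ = f⁻¹ * (f * (v₀ * b) * f⁻¹) * f⁻¹⁻¹ := by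
          rw [show f * (v₀ * b) * f⁻¹ = (f * v₀ * f⁻¹) * (f * b * f⁻¹) by group, ← hb, hfb, hc,
            h.cancel hbV]
      _ = v₀ * b := by group
  have hagree : ∀ x ∈ Subgroup.closure ({v₀, b} : Set X), s * x * s⁻¹ = t * x * t⁻¹ := by
    intro x hx
    obtain ⟨a1, a2⟩ := hW hs hj
    obtain ⟨c1, c2⟩ := hW ht hi
    rcases mem_four (h.sq _ ht.vmem) (h.sq _ hbV) hc hx with rfl | rfl | rfl | rfl
    · group
    · rw [a1, c1]
    · rw [a2, c2]
    · rw [show s * (v₀ * b) * s⁻¹ = (s * v₀ * s⁻¹) * (s * b * s⁻¹) by group,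
        show t * (v₀ * b) * t⁻¹ = (t * v₀ * t⁻¹) * (t * b * t⁻¹) by group, a1, a2, c1, c2]
  have key : t⁻¹ * s = 1 := by
    refine h.faith _ (mul_mem (inv_mem ht.mem) hs.mem) fun v hv => ?_
    obtain ⟨w, hw, hwm⟩ : ∃ w ∈ Subgroup.closure ({v₀, b} : Set X),
        w⁻¹ * (f * w * f⁻¹) = v⁻¹ * (f * v * f⁻¹) := by
      have h0 : v₀ ∈ Subgroup.closure ({v₀, b} : Set X) := Subgroup.subset_closure (Or.inl rfl)
      have h1 : b ∈ Subgroup.closure ({v₀, b} : Set X) := Subgroup.subset_closure (Or.inr rfl)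
      rcases mem_four (h.sq _ ht.vmem) (h.sq _ hbV) hc (move v hv) with q | q | q | q <;> rw [q]
      · exact ⟨1, one_mem _, by group⟩
      · exact ⟨b, h1, by rw [hfb, hc, h.inv_V hbV, h.cancel hbV]⟩
      · refine ⟨v₀ * b, mul_mem h0 h1, ?_⟩
        rw [show f * (v₀ * b) * f⁻¹ = (f * v₀ * f⁻¹) * (f * b * f⁻¹) by group, ← hb, hfb,
          h.inv_V (mul_mem ht.vmem hbV), hc, h.cancel hbV, mul_assoc, h.sq _ ht.vmem, mul_one]
      · exact ⟨v₀, h0, by rw [← hb, h.inv_V ht.vmem]⟩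
    have hwV : w ∈ V := ((Subgroup.closure_le V).2 (by
      rintro x (rfl | rfl)
      exacts [ht.vmem, hbV])) hw
    have hy : f * (v * w⁻¹) * f⁻¹ = v * w⁻¹ := by
      have e1 : f * v * f⁻¹ = v * (w⁻¹ * (f * w * f⁻¹)) := by rw [hwm]; group
      calc f * (v * w⁻¹) * f⁻¹ = (f * v * f⁻¹) * (f * w * f⁻¹)⁻¹ := by group
        _ = v * w⁻¹ := by rw [e1]; group
    have hyV : v * w⁻¹ ∈ V := mul_mem hv (inv_mem hwV)
    have hsv : s * v * s⁻¹ = t * v * t⁻¹ := by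
      calc s * v * s⁻¹ = (s * (v * w⁻¹) * s⁻¹) * (s * w * s⁻¹) := by group
        _ = (t * (v * w⁻¹) * t⁻¹) * (t * w * t⁻¹) := by
            rw [hfix hs hj _ hyV hy, hfix ht hi _ hyV hy, hagree w hw]
        _ = t * v * t⁻¹ := by group
    calc t⁻¹ * s * v * (t⁻¹ * s)⁻¹ = t⁻¹ * (s * v * s⁻¹) * t⁻¹⁻¹ := by group
      _ = v := by rw [hsv]; group
  exact (inv_mul_eq_one.1 key).symm

theorem inv_of_zpowers (h : Ctx V H F) {t v₀ f g : X} (ht : IsTv V H t v₀) (hi : IsInv H t f)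
    (hg : g = f ∨ g = f⁻¹) : IsInv H t g := by
  rcases hg with rfl | rfl
  · exact hi
  · refine ⟨inv_mem hi.mem, by rw [orderOf_inv]; exact hi.odd, inv_ne_one.2 hi.ne, ?_⟩
    rw [show t * f⁻¹ * t⁻¹ = (t * f * t⁻¹)⁻¹ by group, hi.inv]

/-- The involutions inverting `f` are conjugate under `⟨f⟩`. -/
theorem tv_conj (h : Ctx V H F) {t v₀ f s s₀ : X} (ht : IsTv V H t v₀) (hi : IsInv H t f)
    (hs : IsTv V H s s₀) (hj : IsInv H s f) :
    ∃ k ∈ Subgroup.zpowers f, s = k * t * k⁻¹ := by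
  obtain ⟨-, -, hfb, hf3⟩ := h.inv_action ht hi
  have hmem : s₀ ∈ Subgroup.closure ({v₀, f * v₀ * f⁻¹} : Set X) :=
    h.W_eq ht hi ▸ h.vmem_W hs hj
  have main : ∀ k ∈ Subgroup.zpowers f, k * v₀ * k⁻¹ = s₀ → s = k * t * k⁻¹ := by
    intro k hk e
    have hkH : k ∈ H := Subgroup.zpowers_le.2 hi.mem hk
    have hkf : k * f * k⁻¹ = f := by
      obtain ⟨i, rfl⟩ := Subgroup.mem_zpowers_iff.1 hk
      rw [((Commute.refl f).zpow_left i).eq, mul_inv_cancel_right]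
    have hinv := h.conj_inv hi hkH
    rw [hkf] at hinv
    exact h.tv_eq (e ▸ h.conj_tv ht hkH) hinv hs hj
  have hbV : f * v₀ * f⁻¹ ∈ V := h.norm f hi.mem _ ht.vmem
  rcases mem_four (h.sq _ ht.vmem) (h.sq _ hbV) (h.comm _ ht.vmem _ hbV) hmem with q | q | q | q
  · exact absurd q hs.vne
  · exact ⟨1, one_mem _, main 1 (one_mem _) (by rw [q]; group)⟩
  · exact ⟨f, Subgroup.mem_zpowers f, main f (Subgroup.mem_zpowers f) q.symm⟩
  · refine ⟨f⁻¹, inv_mem (Subgroup.mem_zpowers f), main _ (inv_mem (Subgroup.mem_zpowers f)) ?_⟩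
    have e : f⁻¹ = f * f := inv_eq_of_mul_eq_one_right (by rw [← hf3, pow_succ', pow_two])
    rw [q, ← hfb, conj_conj f f, ← e]

/-- The commutator of two such involutions lies in the subgroup inverted by the second. -/
theorem tv_comm_mem (h : Ctx V H F) {t v₀ f s s₀ : X} (ht : IsTv V H t v₀) (hi : IsInv H t f)
    (hf : f ∈ F) (hs : IsTv V H s s₀) : s * t * s⁻¹ * t⁻¹ ∈ Subgroup.zpowers f := by
  have ht' := h.conj_tv ht hs.mem
  have hj := h.conj_inv hi hs.mem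
  have hj' : IsInv H (s * t * s⁻¹) f := by
    rcases h.tv_normalizes ht hi hf hs with q | q <;> rw [q] at hj
    · exact hj
    · exact h.inv_of_zpowers ht' hj (Or.inr (inv_inv f).symm)
  obtain ⟨k, hk, e⟩ := h.tv_conj ht hi ht' hj'
  rw [e, mul_assoc k t, mul_assoc k]
  refine mul_mem hk ?_
  obtain ⟨i, rfl⟩ := Subgroup.mem_zpowers_iff.1 hk
  rw [show t * (f ^ i)⁻¹ * t⁻¹ = (t * f * t⁻¹) ^ (-i) by rw [conj_zpow, zpow_neg], hi.inv]
  exact zpow_mem (inv_mem (Subgroup.mem_zpowers f)) _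

/-- An inverted element of one pair fixes the subgroup `W` of a different pair. -/
theorem fix_other (h : Ctx V H F) {t v₀ f t' u g : X} (ht : IsTv V H t v₀) (hi : IsInv H t f)
    (hf : f ∈ F) (ht' : IsTv V H t' u) (hj : IsInv H t' g) (hgF : g ∈ F)
    (hne : ¬ (g = f ∨ g = f⁻¹)) {w : X} (hw : w ∈ W V g) : f * w * f⁻¹ = w := by
  have hwV := h.W_le hj.mem hw
  have hm1 : w⁻¹ * (f * w * f⁻¹) ∈ W V f := Subgroup.subset_closure ⟨w, hwV, rfl⟩
  have hm2 : w⁻¹ * (f * w * f⁻¹) ∈ W V g :=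
    mul_mem (inv_mem hw) (h.W_comm_mem hi.mem (h.inv_central ht' hj hgF hf) hw)
  by_contra hc
  refine hne (h.same_of_meet ht hi hf ht' hj hgF hm1 hm2 fun e => hc ?_)
  exact (inv_mul_eq_one.1 e).symm

end Ctx

/-- The subgroup generated by the inverted elements. -/
def E (V H F : Subgroup X) : Subgroup X :=
  Subgroup.closure {f | ∃ t v₀, IsTv V H t v₀ ∧ IsInv H t f ∧ f ∈ F}

/-- The subgroup generated by the involutions moving `V` by a single vector. -/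
def Gtv (V H : Subgroup X) : Subgroup X :=
  Subgroup.closure {t | ∃ v₀, IsTv V H t v₀}

namespace Ctx

theorem E_le (_h : Ctx V H F) : E V H F ≤ F :=
  (Subgroup.closure_le F).2 fun _ ⟨_, _, _, _, hf⟩ => hf

theorem E_norm (h : Ctx V H F) {g : X} (hg : g ∈ H) {e : X} (he : e ∈ E V H F) :
    g * e * g⁻¹ ∈ E V H F := by
  induction he using Subgroup.closure_induction with
  | mem y hy =>
    obtain ⟨t, v₀, ht, hi, hf⟩ := hy
    exact Subgroup.subset_closure ⟨_, _, h.conj_tv ht hg, h.conj_inv hi hg, h.F_norm g hg y hf⟩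
  | one => simp [one_mem]
  | inv y _ hy => rw [show g * y⁻¹ * g⁻¹ = (g * y * g⁻¹)⁻¹ by group]; exact inv_mem hy
  | mul y z _ _ hy hz =>
    rw [show g * (y * z) * g⁻¹ = (g * y * g⁻¹) * (g * z * g⁻¹) by group]; exact mul_mem hy hz

theorem E_central (h : Ctx V H F) {e x : X} (he : e ∈ E V H F) (hx : x ∈ F) : x * e = e * x := by
  induction he using Subgroup.closure_induction with
  | mem y hy => obtain ⟨t, v₀, ht, hi, hf⟩ := hy; exact h.inv_central ht hi hf hx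
  | one => simp
  | inv y _ hy => exact (Commute.inv_right hy).eq
  | mul y z _ _ hy hz => exact (Commute.mul_right hy hz).eq

theorem Gtv_le (_h : Ctx V H F) : Gtv V H ≤ H :=
  (Subgroup.closure_le H).2 fun _ ⟨_, ht⟩ => ht.mem

theorem Gtv_norm (h : Ctx V H F) {g : X} (hg : g ∈ H) {e : X} (he : e ∈ Gtv V H) :
    g * e * g⁻¹ ∈ Gtv V H := by
  induction he using Subgroup.closure_induction with
  | mem y hy => obtain ⟨v₀, ht⟩ := hy; exact Subgroup.subset_closure ⟨_, h.conj_tv ht hg⟩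
  | one => simp [one_mem]
  | inv y _ hy => rw [show g * y⁻¹ * g⁻¹ = (g * y * g⁻¹)⁻¹ by group]; exact inv_mem hy
  | mul y z _ _ hy hz =>
    rw [show g * (y * z) * g⁻¹ = (g * y * g⁻¹) * (g * z * g⁻¹) by group]; exact mul_mem hy hz

theorem Gtv_comm (h : Ctx V H F) {x y : X} (hx : x ∈ Gtv V H) (hy : y ∈ Gtv V H) :
    x * y * x⁻¹ * y⁻¹ ∈ E V H F := by
  have h1 : ∀ a ∈ Gtv V H, ∀ s s₀, IsTv V H s s₀ → a * s * a⁻¹ * s⁻¹ ∈ E V H F := by
    intro a ha
    induction ha using Subgroup.closure_induction with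
    | mem z hz =>
      intro s s₀ hs
      obtain ⟨v₀, hz⟩ := hz
      obtain ⟨f, hf, hi⟩ := h.exists_inv hs
      exact (Subgroup.zpowers_le.2 (Subgroup.subset_closure ⟨s, s₀, hs, hi, hf⟩ : f ∈ E V H F))
        (h.tv_comm_mem hs hi hf hz)
    | one => intro s s₀ _; simp [one_mem]
    | inv z hz ih =>
      intro s s₀ hs
      have := h.E_norm (inv_mem (h.Gtv_le hz)) (inv_mem (ih s s₀ hs))
      rwa [show z⁻¹ * (z * s * z⁻¹ * s⁻¹)⁻¹ * z⁻¹⁻¹ = z⁻¹ * s * z⁻¹⁻¹ * s⁻¹ by group] at this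
    | mul z w hz hw ihz ihw =>
      intro s s₀ hs
      have := mul_mem (h.E_norm (h.Gtv_le hz) (ihw s s₀ hs)) (ihz s s₀ hs)
      rwa [show z * (w * s * w⁻¹ * s⁻¹) * z⁻¹ * (z * s * z⁻¹ * s⁻¹) =
        z * w * s * (z * w)⁻¹ * s⁻¹ by group] at this
  induction hy using Subgroup.closure_induction with
  | mem z hz => obtain ⟨v₀, hz⟩ := hz; exact h1 x hx z v₀ hz
  | one => simp [one_mem]
  | inv z hz ih =>
    have := h.E_norm (inv_mem (h.Gtv_le hz)) (inv_mem ih)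
    rwa [show z⁻¹ * (x * z * x⁻¹ * z⁻¹)⁻¹ * z⁻¹⁻¹ = x * z⁻¹ * x⁻¹ * z⁻¹⁻¹ by group] at this
  | mul z w hz hw ihz ihw =>
    have := mul_mem ihz (h.E_norm (h.Gtv_le hz) ihw)
    rwa [show x * z * x⁻¹ * z⁻¹ * (z * (x * w * x⁻¹ * w⁻¹) * z⁻¹) =
      x * (z * w) * x⁻¹ * (z * w)⁻¹ by group] at this

theorem Gtv_sq (h : Ctx V H F) {x : X} (hx : x ∈ Gtv V H) : x * x ∈ E V H F := by
  induction hx using Subgroup.closure_induction with
  | mem z hz => obtain ⟨v₀, hz⟩ := hz; rw [hz.sq]; exact one_mem _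
  | one => simp [one_mem]
  | inv z _ ih => rw [← mul_inv_rev]; exact inv_mem ih
  | mul z w hz hw ihz ihw =>
    rw [show z * w * (z * w) = z * z * (z⁻¹ * w * z⁻¹⁻¹ * w⁻¹) * (w * w) by group]
    exact mul_mem (mul_mem ihz (h.Gtv_comm (inv_mem hz) hw)) ihw

/-- Elements of odd order generated by the involutions lie in `E`. -/
theorem odd_mem_E (h : Ctx V H F) {x : X} (hx : x ∈ Gtv V H) (ho : Odd (orderOf x)) :
    x ∈ E V H F :=
  h.mem_of_sq ho (h.Gtv_sq hx)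

theorem Gtv_normalizes (h : Ctx V H F) {t v₀ f x : X} (ht : IsTv V H t v₀) (hi : IsInv H t f)
    (hf : f ∈ F) (hx : x ∈ Gtv V H) : x * f * x⁻¹ = f ∨ x * f * x⁻¹ = f⁻¹ := by
  induction hx using Subgroup.closure_induction with
  | mem z hz => obtain ⟨s₀, hz⟩ := hz; exact h.tv_normalizes ht hi hf hz
  | one => simp
  | inv z _ ih =>
    rcases ih with q | q
    · left
      conv_lhs => rw [← q]
      group
    · right
      have e : z⁻¹ * f⁻¹ * z⁻¹⁻¹ = f := by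
        rw [← q]; group
      calc z⁻¹ * f * z⁻¹⁻¹ = (z⁻¹ * f⁻¹ * z⁻¹⁻¹)⁻¹ := by group
        _ = f⁻¹ := by rw [e]
  | mul z w _ _ ihz ihw =>
    rw [← conj_conj]
    rcases ihw with q | q <;> rw [q]
    · exact ihz
    · rw [show z * f⁻¹ * z⁻¹ = (z * f * z⁻¹)⁻¹ by group]
      rcases ihz with q' | q' <;> rw [q'] <;> simp

end Ctx

end Cfsg.Agent.JCompTV
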