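import Mathlib
import Cfsg.Prelude.Def_Local
import Cfsg.Prelude.Def_PLocal
import Cfsg.Prelude.Def_JComponents
import Cfsg.Agent.Lib.Offenders
import Cfsg.Agent.Lib.OffendersFF
import Cfsg.Agent.Lib.LocalBasics
import Cfsg.Agent.Lib.ComponentsFitting
import Cfsg.Agent.Lib.CharPLocal
import Cfsg.Agent.Lib.JCompTV

/-!
The action of an overgroup `L` of `T` on `Ω₁(Z(O₂(L)))`.
-/

set_option autoImplicit false

namespace Cfsg.Agent.JCompBase

open Subgroup Cfsg
open scoped commutatorElement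

variable {G : Type*} [Group G]

/-- The standing hypotheses of the family of statements. -/
structure Std (T L : Subgroup G) : Prop where
  char2 : Cfsg.IsCharacteristicTwoType G
  solv : ∀ N : Subgroup G, Cfsg.IsTwoLocal N → Group.IsSolvable ↥N
  zentral : ∀ S : Sylow 2 G, Subgroup.centralizer (Cfsg.omegaCenterOf (S : Subgroup G) : Set G) ≤
    Subgroup.normalizer ((S : Subgroup G) : Set G)
  tp : IsPGroup 2 ↥T
  mem : L ∈ Cfsg.jOvergroups T

theorem normalizer_le_omegaCenter (X : Subgroup G) :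
    normalizer (X : Set G) ≤ normalizer (Cfsg.omegaCenterOf X : Set G) := by
  refine LocalBasics.le_normalizer_of_conj fun n hn v hv => ?_
  have hN := LocalBasics.le_normalizer_inf (le_refl (normalizer (X : Set G)))
    (LocalBasics.le_normalizer_centralizer le_rfl)
  have h : Cfsg.omegaCenterOf X ≤ (Cfsg.omegaCenterOf X).comap (MulAut.conj n).toMonoidHom := by
    refine (closure_le _).mpr fun x hx => ?_
    refine Subgroup.subset_closure ⟨LocalBasics.conj_mem_of_le_normalizer hN hn hx.1, ?_⟩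
    show (n * x * n⁻¹) ^ 2 = 1
    rw [conj_pow, hx.2, mul_one, mul_inv_cancel]
  exact h hv

/-- `Ω₁(Z(O₂(L)))`. -/
abbrev Vq (L : Subgroup G) : Subgroup G := Cfsg.omegaCenterOf (Cfsg.pCoreOf 2 L)

/-- The kernel of the action of `L` on `Vq L`. -/
def Ker (L : Subgroup G) : Subgroup G := L ⊓ centralizer (Vq L : Set G)

/-- The elements of `L` centralising `Ker L` modulo `O₂(L)`. -/
def Mid (L : Subgroup G) : Set G := {x | x ∈ L ∧ ∀ c ∈ Ker L, x * c * x⁻¹ * c⁻¹ ∈ Cfsg.pCoreOf 2 L}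

theorem le_norm_Q (L : Subgroup G) : L ≤ normalizer (Cfsg.pCoreOf 2 L : Set G) :=
  LocalBasics.le_normalizer_pCoreOf 2 L

theorem le_norm_V (L : Subgroup G) : L ≤ normalizer (Vq L : Set G) :=
  (le_norm_Q L).trans (normalizer_le_omegaCenter _)

theorem V_le_center (L : Subgroup G) :
    Vq L ≤ Cfsg.pCoreOf 2 L ⊓ centralizer (Cfsg.pCoreOf 2 L : Set G) := Offenders.omegaOne_le _

theorem V_le_Q (L : Subgroup G) : Vq L ≤ Cfsg.pCoreOf 2 L := (V_le_center L).trans inf_le_left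

theorem V_ea (L : Subgroup G) : IsElementaryAbelian 2 (Vq L) :=
  Offenders.omegaOne_ea fun x hx y hy => hy.2 x hx.1

theorem V_comm (L : Subgroup G) {v w : G} (hv : v ∈ Vq L) (hw : w ∈ Vq L) : v * w = w * v :=
  ((Offenders.ea_iff _).1 (V_ea L)).1 v hv w hw

theorem V_sq (L : Subgroup G) {v : G} (hv : v ∈ Vq L) : v * v = 1 := by
  rw [← pow_two]; exact ((Offenders.ea_iff _).1 (V_ea L)).2 v hv

theorem Q_le_Ker (L : Subgroup G) : Cfsg.pCoreOf 2 L ≤ Ker L :=
  le_inf (LocalBasics.pCoreOf_le 2 L) fun q hq v hv => ((V_le_center L hv).2 q hq).symm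

theorem Ker_le (L : Subgroup G) : Ker L ≤ L := inf_le_left

theorem Ker_norm (L : Subgroup G) : L ≤ normalizer (Ker L : Set G) :=
  LocalBasics.le_normalizer_inf le_normalizer
    (LocalBasics.le_normalizer_centralizer (le_norm_V L))

theorem normalizer_le_pCoreOf [Finite G] (p : ℕ) [Fact p.Prime] (K : Subgroup G) :
    normalizer (K : Set G) ≤ normalizer (Cfsg.pCoreOf p K : Set G) := by
  refine LocalBasics.le_normalizer_of_conj fun n hn q hq => ?_
  set c := (MulAut.conj n).toMonoidHom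
  have h : (Cfsg.pCoreOf p K).map c ≤ Cfsg.pCoreOf p K := by
    refine LocalBasics.le_pCoreOf ?_ ?_ ((LocalBasics.isPGroup_pCoreOf p K).map c)
    · rintro _ ⟨x, hx, rfl⟩
      exact LocalBasics.conj_mem_of_le_normalizer le_rfl hn (LocalBasics.pCoreOf_le p K hx)
    · refine LocalBasics.le_normalizer_of_conj fun k hk => ?_
      rintro _ ⟨x, hx, rfl⟩
      refine ⟨(n⁻¹ * k * n⁻¹⁻¹) * x * (n⁻¹ * k * n⁻¹⁻¹)⁻¹, LocalBasics.conj_mem_of_le_normalizer
        (LocalBasics.le_normalizer_pCoreOf p K)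
        (LocalBasics.conj_mem_of_le_normalizer le_rfl (inv_mem hn) hk) hx, ?_⟩
      simp only [c, MulEquiv.coe_toMonoidHom, MulAut.conj_apply]
      group
  exact h ⟨q, hq, by simp [c]⟩

section Finite

variable [Finite G]

/-- A normal 2-subgroup lies in every Sylow 2-subgroup. -/
theorem le_sylowTwoIn {S L N : Subgroup G} (hS : Cfsg.IsSylowTwoIn S L) (hNL : N ≤ L)
    (hn : L ≤ normalizer (N : Set G)) (hN : IsPGroup 2 ↥N) : N ≤ S := by
  obtain ⟨hSL, hSp, hodd⟩ := hS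
  have hsup : IsPGroup 2 ↥(N ⊔ S : Subgroup G) :=
    hN.to_sup_of_normal_left' hSp (hSL.trans hn)
  have h1 := relIndex_mul_relIndex S (N ⊔ S) L le_sup_right (sup_le hNL hSL)
  obtain ⟨k, hk⟩ := (IsPGroup.iff_card).1 hsup
  have h2 : S.relIndex (N ⊔ S) ∣ 2 ^ k := hk ▸ relIndex_dvd_card _ _
  have h3 : Odd (S.relIndex (N ⊔ S)) := Odd.of_dvd_nat hodd ⟨_, h1.symm⟩
  obtain ⟨j, -, hj⟩ := (Nat.dvd_prime_pow Nat.prime_two).1 h2
  rcases j with _ | j
  · exact (le_sup_left : N ≤ N ⊔ S).trans (relIndex_eq_one.1 (hj.trans (pow_zero 2)))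
  · rw [hj, pow_succ] at h3
    exact absurd h3 (Nat.not_odd_iff_even.2 (even_two.mul_left _))

theorem sylowTwoIn_conj {S S' L : Subgroup G} (hS : Cfsg.IsSylowTwoIn S L) (hS'L : S' ≤ L)
    (hS' : IsPGroup 2 ↥S') : ∃ l ∈ L, S' ≤ S.map (MulAut.conj l).toMonoidHom := by
  obtain ⟨hSL, hSp, hodd⟩ := hS
  have hidx : ¬ 2 ∣ (S.subgroupOf L).index := by
    intro h
    obtain ⟨k, hk⟩ := hodd
    rw [Subgroup.relIndex] at hk
    omega
  let P : Sylow 2 ↥L := (hSp.comap_of_injective L.subtype L.subtype_injective :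
    IsPGroup 2 (S.subgroupOf L)).toSylow hidx
  obtain ⟨P', hP'⟩ := (hS'.comap_of_injective L.subtype L.subtype_injective :
    IsPGroup 2 (S'.subgroupOf L)).exists_le_sylow
  obtain ⟨l, hl⟩ := MulAction.exists_smul_eq ↥L P P'
  refine ⟨l, l.2, fun x hx => ?_⟩
  have hx' : (⟨x, hS'L hx⟩ : ↥L) ∈ (P' : Subgroup ↥L) := hP' hx
  rw [← hl, Sylow.coe_subgroup_smul] at hx'
  obtain ⟨y, hy, e⟩ := hx'
  exact ⟨(y : G), hy, congrArg Subtype.val e⟩

theorem exists_sylowTwoIn {P L : Subgroup G} (hPL : P ≤ L) (hP : IsPGroup 2 ↥P) :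
    ∃ S, Cfsg.IsSylowTwoIn S L ∧ P ≤ S := by
  obtain ⟨R, hR⟩ := (hP.comap_of_injective L.subtype L.subtype_injective :
    IsPGroup 2 (P.subgroupOf L)).exists_le_sylow
  refine ⟨(R : Subgroup ↥L).map L.subtype, ⟨map_subtype_le _, R.2.map _, ?_⟩,
    fun x hx => ⟨⟨x, hPL hx⟩, hR hx, rfl⟩⟩
  rw [Subgroup.relIndex, subgroupOf, comap_map_eq_self_of_injective L.subtype_injective,
    Nat.odd_iff]
  have := R.not_dvd_index
  omega

end Finite

namespace Std

variable {T L : Subgroup G}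

theorem T_le (h : Std T L) : T ≤ L := h.mem.1.1

theorem sylT (h : Std T L) : Cfsg.IsSylowTwoIn T L := h.mem.1

theorem cent_Q (h : Std T L) :
    centralizer (Cfsg.pCoreOf 2 L : Set G) ≤ Cfsg.pCoreOf 2 L := h.mem.2.2

variable [Finite G]

theorem Q_ne_bot (h : Std T L) : Cfsg.pCoreOf 2 L ≠ ⊥ := by
  intro e
  have h1 := h.cent_Q
  rw [e] at h1
  refine h.mem.2.1 fun x _ => ?_
  rw [e]
  exact h1 fun y hy => by rw [Subgroup.mem_bot.1 hy]; simp

theorem isTwoLocal_normQ (h : Std T L) :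
    Cfsg.IsTwoLocal (normalizer (Cfsg.pCoreOf 2 L : Set G)) :=
  ⟨_, LocalBasics.isPGroup_pCoreOf 2 L, h.Q_ne_bot, rfl⟩

theorem solvable (h : Std T L) : Group.IsSolvable ↥L := by
  have := h.solv _ h.isTwoLocal_normQ
  exact Group.isSolvable_of_isSolvable_injective (f := Subgroup.inclusion (le_norm_Q L))
    (Subgroup.inclusion_injective _)

theorem Q_le_T (h : Std T L) : Cfsg.pCoreOf 2 L ≤ T :=
  le_sylowTwoIn h.sylT (LocalBasics.pCoreOf_le 2 L) (le_norm_Q L) (LocalBasics.isPGroup_pCoreOf 2 L)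

/-- The kernel normalises `T`. -/
theorem Ker_norm_T (h : Std T L) : Ker L ≤ normalizer (T : Set G) := by
  obtain ⟨S, hS⟩ := h.tp.exists_le_sylow
  have hZV : Cfsg.omegaCenterOf (S : Subgroup G) ≤ Vq L := by
    refine (closure_le _).2 fun z hz => ?_
    have hzQ : z ∈ centralizer (Cfsg.pCoreOf 2 L : Set G) := fun q hq => hz.1.2 q (hS (h.Q_le_T hq))
    exact Offenders.mem_omegaOne ⟨h.cent_Q hzQ, hzQ⟩ hz.2
  have hCS : Ker L ≤ normalizer ((S : Subgroup G) : Set G) :=
    inf_le_right.trans ((centralizer_le hZV).trans (h.zentral S))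
  have hT : (S : Subgroup G) ⊓ L = T := by
    refine le_antisymm ?_ (le_inf hS h.T_le)
    obtain ⟨l, -, hsub⟩ := sylowTwoIn_conj h.sylT (inf_le_right : (S : Subgroup G) ⊓ L ≤ L)
      (S.2.to_le inf_le_left)
    have hle : Nat.card ↥((S : Subgroup G) ⊓ L) ≤ Nat.card T :=
      (Subgroup.card_le_of_le hsub).trans_eq (card_map_of_injective (MulAut.conj l).injective)
    exact (eq_of_le_of_card_ge (le_inf hS h.T_le) hle).ge
  rw [← hT]
  exact LocalBasics.le_normalizer_inf hCS ((Ker_le L).trans le_normalizer)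

theorem Ker_inf_T (h : Std T L) : Ker L ⊓ T ≤ Cfsg.pCoreOf 2 L := by
  have hn : Ker L ≤ normalizer ((Ker L ⊓ T : Subgroup G) : Set G) :=
    LocalBasics.le_normalizer_inf le_normalizer h.Ker_norm_T
  have h1 : Ker L ⊓ T ≤ Cfsg.pCoreOf 2 (Ker L) :=
    LocalBasics.le_pCoreOf inf_le_left hn (h.tp.to_le inf_le_right)
  refine h1.trans (LocalBasics.le_pCoreOf ((LocalBasics.pCoreOf_le 2 _).trans (Ker_le L))
    ((Ker_norm L).trans (normalizer_le_pCoreOf 2 _)) (LocalBasics.isPGroup_pCoreOf 2 _))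

theorem T_mid (h : Std T L) {t : G} (ht : t ∈ T) : t ∈ Mid L := by
  refine ⟨h.T_le ht, fun c hc => h.Ker_inf_T ⟨?_, ?_⟩⟩
  · show t * c * t⁻¹ * c⁻¹ ∈ Ker L
    exact mul_mem (LocalBasics.conj_mem_of_le_normalizer (Ker_norm L) (h.T_le ht) hc) (inv_mem hc)
  · show t * c * t⁻¹ * c⁻¹ ∈ T
    rw [mul_assoc (t * c), mul_assoc, ← mul_assoc c]
    exact mul_mem ht (LocalBasics.conj_mem_of_le_normalizer h.Ker_norm_T hc (inv_mem ht : t⁻¹ ∈ T))

theorem mid_mul (_h : Std T L) {x y : G} (hx : x ∈ Mid L) (hy : y ∈ Mid L) : x * y ∈ Mid L := by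
  refine ⟨mul_mem hx.1 hy.1, fun c hc => ?_⟩
  have e : x * y * c * (x * y)⁻¹ * c⁻¹ =
      (x * (y * c * y⁻¹ * c⁻¹) * x⁻¹) * (x * c * x⁻¹ * c⁻¹) := by group
  rw [e]
  exact mul_mem (LocalBasics.conj_mem_of_le_normalizer (le_norm_Q L) hx.1 (hy.2 c hc)) (hx.2 c hc)

theorem mid_inv (_h : Std T L) {x : G} (hx : x ∈ Mid L) : x⁻¹ ∈ Mid L := by
  refine ⟨inv_mem hx.1, fun c hc => ?_⟩
  have e : x⁻¹ * c * x⁻¹⁻¹ * c⁻¹ = x⁻¹ * (x * c * x⁻¹ * c⁻¹)⁻¹ * x⁻¹⁻¹ := by group
  rw [e]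
  exact LocalBasics.conj_mem_of_le_normalizer (le_norm_Q L) (inv_mem hx.1) (inv_mem (hx.2 c hc))

theorem mid_conj (_h : Std T L) {l x : G} (hl : l ∈ L) (hx : x ∈ Mid L) :
    l * x * l⁻¹ ∈ Mid L := by
  refine ⟨mul_mem (mul_mem hl hx.1) (inv_mem hl), fun c hc => ?_⟩
  have hc' := LocalBasics.conj_mem_of_le_normalizer (Ker_norm L) (inv_mem hl) hc
  have e : l * x * l⁻¹ * c * (l * x * l⁻¹)⁻¹ * c⁻¹ =
      l * (x * (l⁻¹ * c * l⁻¹⁻¹) * x⁻¹ * (l⁻¹ * c * l⁻¹⁻¹)⁻¹) * l⁻¹ := by group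
  rw [e]
  exact LocalBasics.conj_mem_of_le_normalizer (le_norm_Q L) hl (hx.2 _ hc')

/-- Every 2-element of `L` centralises the kernel modulo `O₂(L)`. -/
theorem twoGroup_mid (h : Std T L) {P : Subgroup G} (hPL : P ≤ L) (hP : IsPGroup 2 ↥P) {x : G}
    (hx : x ∈ P) : x ∈ Mid L := by
  obtain ⟨l, hl, hsub⟩ := sylowTwoIn_conj h.sylT hPL hP
  obtain ⟨t, ht, rfl⟩ := hsub hx
  exact h.mid_conj hl (h.T_mid ht)

theorem two_elements_ker (h : Std T L) {P : Subgroup G} (hPL : P ≤ L) (hP : IsPGroup 2 ↥P) :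
    P ⊓ Ker L ≤ Cfsg.pCoreOf 2 L := by
  obtain ⟨l, hl, hsub⟩ := sylowTwoIn_conj h.sylT hPL hP
  rintro x ⟨hxP, hxC⟩
  obtain ⟨t, ht, rfl⟩ := hsub hxP
  simp only [MulEquiv.coe_toMonoidHom, MulAut.conj_apply] at hxC ⊢
  refine LocalBasics.conj_mem_of_le_normalizer (le_norm_Q L) hl (h.Ker_inf_T ⟨?_, ht⟩)
  have := LocalBasics.conj_mem_of_le_normalizer (Ker_norm L) (inv_mem hl) hxC
  simpa [mul_assoc] using this

end Std

/-- The ambient group for the action of `L`. -/
abbrev X (L : Subgroup G) := ↥(Vq L) ⋊[MonoidHom.id (MulAut ↥(Vq L))] MulAut ↥(Vq L)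

instance [Finite G] (L : Subgroup G) : Finite (X L) :=
  haveI : Finite (MulAut ↥(Vq L)) := Finite.of_injective _ DFunLike.coe_injective
  Finite.of_equiv _ SemidirectProduct.equivProd.symm

/-- The action of `L`. -/
def π (L : Subgroup G) : ↥L →* X L :=
  SemidirectProduct.inr.comp ((Vq L).normalizerMonoidHom.comp (Subgroup.inclusion (le_norm_V L)))

/-- The embedding of `Vq L`. -/
def ι (L : Subgroup G) : ↥(Vq L) →* X L := SemidirectProduct.inl

abbrev Vx (L : Subgroup G) : Subgroup (X L) := (ι L).range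

abbrev Hx (L : Subgroup G) : Subgroup (X L) := (π L).range

/-- The Fitting subgroup of `Hx L`. -/
def Fx (L : Subgroup G) : Subgroup (X L) :=
  (Cfsg.fittingSubgroup ↥(Hx L)).map (Hx L).subtype

theorem ι_injective (L : Subgroup G) : Function.Injective (ι L) :=
  SemidirectProduct.inl_injective

/-- Conjugation in the ambient group is conjugation in `G`. -/
theorem conj_ι (L : Subgroup G) (l : ↥L) (v : ↥(Vq L)) :
    π L l * ι L v * (π L l)⁻¹ = ι L ⟨(l : G) * v * (l : G)⁻¹,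
      LocalBasics.conj_mem_of_le_normalizer (le_norm_V L) l.2 v.2⟩ := by
  show SemidirectProduct.inr _ * SemidirectProduct.inl v * (SemidirectProduct.inr _)⁻¹ = _
  rw [← map_inv SemidirectProduct.inr, ← SemidirectProduct.inl_aut]
  rfl

theorem π_eq_one_iff (L : Subgroup G) (l : ↥L) : π L l = 1 ↔ (l : G) ∈ Ker L := by
  constructor
  · intro h
    refine ⟨l.2, fun v hv => ?_⟩
    have h1 := conj_ι L l ⟨v, hv⟩
    rw [h, one_mul, inv_one, mul_one] at h1
    have h2 : v = (l : G) * v * (l : G)⁻¹ := congrArg Subtype.val (ι_injective L h1)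
    exact eq_mul_inv_iff_mul_eq.1 h2
  · rintro ⟨-, hc⟩
    show SemidirectProduct.inr _ = 1
    rw [← map_one (SemidirectProduct.inr (φ := MonoidHom.id (MulAut ↥(Vq L))))]
    refine congrArg _ (MulEquiv.ext fun v => Subtype.ext ?_)
    show (l : G) * v * (l : G)⁻¹ = (v : G)
    rw [← hc v v.2, mul_inv_cancel_right]

theorem π_eq_iff (L : Subgroup G) (l m : ↥L) : π L l = π L m ↔ (l : G)⁻¹ * m ∈ Ker L := by
  rw [← inv_mul_eq_one, ← map_inv, ← map_mul, π_eq_one_iff]
  simp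

section Finite

variable [Finite G] {T L : Subgroup G}

theorem pCore_eq_bot (h : Std T L) : Cfsg.pCore 2 ↥(Hx L) = ⊥ := by
  set f := (π L).rangeRestrict with hf
  set P := (Cfsg.pCore 2 ↥(Hx L)).comap f with hP
  have : P.Normal := inferInstance
  set P' : Subgroup G := P.map L.subtype with hP'
  have hP'L : P' ≤ L := map_subtype_le _
  have hLP' : L ≤ normalizer (P' : Set G) := LocalBasics.le_normalizer_map_normal L P
  have hker : f.ker = (Ker L).subgroupOf L := by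
    ext l
    rw [MonoidHom.mem_ker, mem_subgroupOf, ← π_eq_one_iff]
    exact Subtype.ext_iff
  have hsurj : P.map f = Cfsg.pCore 2 ↥(Hx L) :=
    map_comap_eq_self_of_surjective (π L).rangeRestrict_surjective _
  -- `|P' : Ker L|` is a power of 2
  obtain ⟨k, hk⟩ : ∃ k, (Ker L).relIndex P' = 2 ^ k := by
    obtain ⟨k, hk⟩ := IsPGroup.iff_card.1 (HallCore.isPGroup_pCore 2 ↥(Hx L))
    refine ⟨k, ?_⟩
    rw [hP', ← relIndex_comap]
    show ((Ker L).subgroupOf L).relIndex P = _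
    rw [← hker, relIndex_ker, hsurj, hk]
  -- `|P' : T ⊓ P'|` is odd
  have hodd : Odd ((T ⊓ P').relIndex P') := by
    rw [inf_relIndex_right]
    have h1 := OffendersReplace.card_sup_mul_card_inf T P' (h.T_le.trans hLP')
    have h2 : Nat.card ↥(T ⊓ P') * (T ⊓ P').relIndex P' = Nat.card P' :=
      HallCore.card_mul_relIndex inf_le_right
    have h3 : Nat.card T * T.relIndex (T ⊔ P') = Nat.card ↥(T ⊔ P') :=
      HallCore.card_mul_relIndex le_sup_left
    rw [inf_relIndex_right] at h2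
    have e : T.relIndex (T ⊔ P') = T.relIndex P' := by
      refine Nat.eq_of_mul_eq_mul_left (Nat.mul_pos (Nat.card_pos (α := T))
        (Nat.card_pos (α := ↥(T ⊓ P')))) ?_
      rw [← h2, ← h3] at h1
      linarith
    have hdvd : T.relIndex P' ∣ T.relIndex L := e ▸
      ⟨_, (relIndex_mul_relIndex _ _ _ le_sup_left (sup_le h.T_le hP'L)).symm⟩
    exact h.sylT.2.2.of_dvd_nat hdvd
  have one_of : ∀ n, n ∣ 2 ^ k → Odd n → n = 1 := by
    intro n hn ho
    obtain ⟨j, -, rfl⟩ := (Nat.dvd_prime_pow Nat.prime_two).1 hn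
    rcases j with _ | j
    · simp
    · exact absurd ho (Nat.not_odd_iff_even.2 (by rw [pow_succ]; exact even_two.mul_left _))
  set N := normalizer ((T ⊓ P' : Subgroup G) : Set G) with hN
  have hP'N : P' ≤ N := by
    have hCN : Ker L ≤ N :=
      LocalBasics.le_normalizer_inf h.Ker_norm_T ((Ker_le L).trans hLP')
    exact relIndex_eq_one.1 (one_of _ (hk ▸ relIndex_dvd_of_le_left _ hCN)
      (hodd.of_dvd_nat (relIndex_dvd_of_le_left _ le_normalizer)))
  have hTQ : T ⊓ P' ≤ Cfsg.pCoreOf 2 L :=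
    (LocalBasics.le_pCoreOf inf_le_right hP'N (h.tp.to_le inf_le_left)).trans
      (LocalBasics.le_pCoreOf ((LocalBasics.pCoreOf_le 2 _).trans hP'L)
        (hLP'.trans (normalizer_le_pCoreOf 2 _)) (LocalBasics.isPGroup_pCoreOf 2 _))
  have h1 : P' ≤ Ker L := relIndex_eq_one.1 (one_of _ hk.dvd
    (hodd.of_dvd_nat (relIndex_dvd_of_le_left _ (hTQ.trans (Q_le_Ker L)))))
  rw [← hsurj, Subgroup.map_eq_bot_iff, hker]
  exact fun x hx => mem_subgroupOf.2 (h1 ⟨x, hx, rfl⟩)

theorem fx_le (L : Subgroup G) : Fx L ≤ Hx L := map_subtype_le _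

theorem fitting_odd (h : Std T L) : Odd (Nat.card ↥(Fx L)) := by
  rw [Fx, card_map_of_injective (Hx L).subtype_injective, Nat.odd_iff]
  by_contra hne
  have hdvd : 2 ∣ Nat.card ↥(Cfsg.fittingSubgroup ↥(Hx L)) := by omega
  obtain ⟨R⟩ := (inferInstance : Nonempty (Sylow 2 ↥(Cfsg.fittingSubgroup ↥(Hx L))))
  have : (R : Subgroup ↥(Cfsg.fittingSubgroup ↥(Hx L))).Normal := inferInstance
  have : (R : Subgroup ↥(Cfsg.fittingSubgroup ↥(Hx L))).Characteristic :=
    R.characteristic_of_normal inferInstance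
  have : ((R : Subgroup ↥(Cfsg.fittingSubgroup ↥(Hx L))).map (Cfsg.fittingSubgroup ↥(Hx L)).subtype).Normal :=
    inferInstance
  have hle := Cfsg.Agent.ComponentsCores.le_pCore' (R.2.map (Cfsg.fittingSubgroup ↥(Hx L)).subtype)
  rw [pCore_eq_bot h, le_bot_iff, map_eq_bot_iff_of_injective _ (Subgroup.subtype_injective _)] at hle
  exact R.ne_bot_of_dvd_card hdvd hle

theorem ctx (h : Std T L) : JCompTV.Ctx (Vx L) (Hx L) (Fx L) where
  comm := by
    rintro _ ⟨v, rfl⟩ _ ⟨w, rfl⟩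
    rw [← map_mul, ← map_mul]
    exact congrArg _ (Subtype.ext (V_comm L v.2 w.2))
  sq := by
    rintro _ ⟨v, rfl⟩
    rw [← map_mul, show v * v = 1 from Subtype.ext (V_sq L v.2), map_one]
  norm := by
    rintro _ ⟨l, rfl⟩ _ ⟨v, rfl⟩
    exact ⟨_, (conj_ι L l v).symm⟩
  faith := by
    rintro _ ⟨l, rfl⟩ hfix
    refine (π_eq_one_iff L l).2 ⟨l.2, fun v hv => ?_⟩
    have h1 := (conj_ι L l ⟨v, hv⟩).symm.trans (hfix _ ⟨⟨v, hv⟩, rfl⟩)
    exact (mul_inv_eq_iff_eq_mul.1 (congrArg Subtype.val (ι_injective L h1))).symm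
  F_le := fx_le L
  F_norm := by
    rintro g hg _ ⟨f, hf, rfl⟩
    exact ⟨_, (inferInstance : (Cfsg.fittingSubgroup ↥(Hx L)).Normal).conj_mem f hf ⟨g, hg⟩, rfl⟩
  F_odd := fun f hf => (fitting_odd h).of_dvd_nat (orderOf_dvd_natCard _ hf)
  F_nilp := Group.nilpotent_of_mulEquiv
    ((Cfsg.fittingSubgroup ↥(Hx L)).equivMapOfInjective _ (Hx L).subtype_injective)
  F_cent := by
    intro g hg hc
    have := h.solvable
    have : Group.IsSolvable ↥(Hx L) :=
      Group.isSolvable_of_surjective (π L).rangeRestrict_surjective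
    exact ⟨⟨g, hg⟩, Cfsg.Agent.ComponentsFitting.centralizer_fitting_le_of_solvable
      (fun f hf => Subtype.ext (hc f ⟨f, hf, rfl⟩)), rfl⟩

theorem hyp (h : Std T L) : OffendersFF.Hyp 2 (Vx L) (Hx L) where
  ea := by
    show IsElementaryAbelian 2 (ι L).range
    rw [MonoidHom.range_eq_map]
    refine Offenders.ea_map ((Offenders.ea_iff _).2 ⟨fun x _ y _ => Subtype.ext (V_comm L x.2 y.2),
      fun x _ => Subtype.ext (((Offenders.ea_iff _).1 (V_ea L)).2 x x.2)⟩) _
  norm := by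
    intro g hg
    refine Subgroup.mem_normalizer_iff.2 fun v => ⟨(ctx h).norm g hg v, fun hv => ?_⟩
    have := (ctx h).norm g⁻¹ (inv_mem hg) _ hv
    simpa [mul_assoc] using this
  faithful := by
    rw [eq_bot_iff]
    rintro g ⟨hg, hc⟩
    exact Subgroup.mem_bot.2 ((ctx h).faith g hg fun v hv => by rw [← hc v hv, mul_inv_cancel_right])
  selfCent := by
    have hle : Cfsg.fittingSubgroup ↥(Hx L) ≤ Cfsg.pPrimeCore 2 ↥(Hx L) := by
      refine HallCore.le_pPrimeCore ?_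
      have h1 := fitting_odd h
      rw [Fx, card_map_of_injective (Hx L).subtype_injective] at h1
      exact Nat.coprime_two_right.2 h1
    have := h.solvable
    have : Group.IsSolvable ↥(Hx L) :=
      Group.isSolvable_of_surjective (π L).rangeRestrict_surjective
    exact ((centralizer_le hle).trans
      Cfsg.Agent.ComponentsFitting.centralizer_fitting_le_of_solvable).trans hle

/-- A largest elementary abelian subgroup of `T` acts as a best offender. -/
theorem max_offender (h : Std T L) {A : Subgroup G} (hA : Offenders.IsMaxIn 2 T A) :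
    IsBestOffenderOn 2 (Vx L) ((A.subgroupOf L).map (π L)) := by
  obtain ⟨hAT, hAe, hAmax⟩ := hA
  have hAL : A ≤ L := hAT.trans h.T_le
  have hAc := ((Offenders.ea_iff A).1 hAe).1
  set f := (π L).comp (Subgroup.inclusion hAL) with hf
  have hrange : (A.subgroupOf L).map (π L) = f.range := by
    rw [hf, MonoidHom.range_comp, Subgroup.inclusion_range]
  rw [hrange]
  refine ⟨fun B hB => ?_, ?_, ?_⟩
  · set B₁ : Subgroup G := (B.comap f).map A.subtype with hB₁
    set D : Subgroup G := Vq L ⊓ centralizer (B₁ : Set G) with hD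
    have hB₁A : B₁ ≤ A := map_subtype_le _
    have hB₁e := Offenders.ea_mono hAe hB₁A
    have hfix : ∀ (K : Subgroup ↥A),
        Nat.card ↥(Vx L ⊓ centralizer ((K.map f : Subgroup (X L)) : Set (X L))) =
          Nat.card ↥(Vq L ⊓ centralizer ((K.map A.subtype : Subgroup G) : Set G)) := by
      intro K
      have e : Vx L ⊓ centralizer ((K.map f : Subgroup (X L)) : Set (X L)) =
          ((Vq L ⊓ centralizer ((K.map A.subtype : Subgroup G) : Set G)).subgroupOf (Vq L)).map (ι L) := by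
        ext x
        constructor
        · rintro ⟨⟨v, rfl⟩, hx⟩
          refine ⟨v, ⟨v.2, ?_⟩, rfl⟩
          rintro _ ⟨a, ha, rfl⟩
          have h1 := hx (f a) ⟨a, ha, rfl⟩
          have h2 := conj_ι L (Subgroup.inclusion hAL a) v
          rw [show π L (Subgroup.inclusion hAL a) = f a from rfl, h1, mul_inv_cancel_right] at h2
          exact (eq_mul_inv_iff_mul_eq.1 (congrArg Subtype.val (ι_injective L h2))).symm
        · rintro ⟨v, hv, rfl⟩
          refine ⟨⟨v, rfl⟩, ?_⟩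
          rintro _ ⟨a, ha, rfl⟩
          have h1 : (a : G) * v = v * a := hv.2 a ⟨a, ha, rfl⟩
          refine mul_inv_eq_iff_eq_mul.1 ((conj_ι L (Subgroup.inclusion hAL a) v).trans
            (congrArg _ (Subtype.ext ?_)))
          exact mul_inv_eq_iff_eq_mul.2 h1
      rw [e, card_map_of_injective (ι_injective L),
        Nat.card_congr (subgroupOfEquivOfLe inf_le_left).toEquiv]
    have hrA : ((⊤ : Subgroup ↥A).map A.subtype) = A := by
      rw [← MonoidHom.range_eq_map, range_subtype]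
    have h1 := hfix (B.comap f)
    rw [map_comap_eq_self hB] at h1
    have h2 := hfix ⊤
    rw [← MonoidHom.range_eq_map f, hrA] at h2
    rw [h1, h2]
    -- cardinalities of preimages
    have hcard : Nat.card ↥B₁ = Nat.card B * Nat.card f.ker := by
      rw [hB₁, card_map_of_injective A.subtype_injective]
      have h3 := card_mul_index (B.comap f)
      rw [index_comap] at h3
      have h4 := card_mul_index f.ker
      rw [index_ker] at h4
      have h5 : Nat.card B * B.relIndex f.range = Nat.card f.range := HallCore.card_mul_relIndex hB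
      refine Nat.eq_of_mul_eq_mul_right (Nat.pos_of_ne_zero fun q : B.relIndex f.range = 0 => ?_) ?_
      · rw [q, mul_zero] at h5
        exact Nat.card_pos.ne h5
      rw [h3, ← h4, ← h5]
      ring
    have hcardA : Nat.card ↥A = Nat.card f.range * Nat.card f.ker := by
      rw [← card_mul_index f.ker, index_ker, mul_comm]
    have hsup := OffendersReplace.card_sup_mul_card_inf B₁ D
      (OffendersReplace.le_normalizer_of_commute fun b hb v hv => hv.2 b hb)
    have hDT : B₁ ⊔ D ≤ T :=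
      sup_le (hB₁A.trans hAT) (inf_le_left.trans ((V_le_Q L).trans h.Q_le_T))
    have hDe : IsElementaryAbelian 2 (B₁ ⊔ D : Subgroup G) :=
      Offenders.ea_sup hB₁e (Offenders.ea_mono (V_ea L) inf_le_left) fun b hb v hv => hv.2 b hb
    have h6 : Nat.card B₁ * Nat.card D ≤
        Nat.card A * Nat.card ↥(Vq L ⊓ centralizer (A : Set G)) := by
      rw [← hsup]
      refine Nat.mul_le_mul (hAmax _ hDT hDe) (Subgroup.card_le_of_le ?_)
      exact le_inf (inf_le_right.trans inf_le_left) fun x hx a ha => hAc a ha x (hB₁A hx.1)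
    rw [hcard, hcardA] at h6
    refine Nat.le_of_mul_le_mul_right (?_ : _ * Nat.card f.ker ≤ _ * Nat.card f.ker) Nat.card_pos
    convert h6 using 1 <;> ring
  · rw [commutator_le]
    rintro _ ⟨a, rfl⟩ _ ⟨b, rfl⟩
    rw [← map_commutatorElement, show ⁅a, b⁆ = 1 from
      commutatorElement_eq_one_iff_mul_comm.2 (Subtype.ext (hAc a a.2 b b.2)), map_one]
    exact one_mem _
  · rintro _ ⟨a, rfl⟩
    rw [← map_pow, show a ^ 2 = 1 from Subtype.ext (((Offenders.ea_iff A).1 hAe).2 a a.2), map_one]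
    exact one_mem _

/-- An offender of order 2 moves the module by a single vector. -/
theorem minimal_tv (h : Std T L) {B : Subgroup (X L)} (hBH : B ≤ Hx L)
    (hB : OffendersFF.IsMinimal 2 (Vx L) B) :
    ∃ b, B = zpowers b ∧ ∃ v₀, JCompTV.IsTv (Vx L) (Hx L) b v₀ := by
  obtain ⟨b, hb, hb1, e⟩ := (hyp h).minimal_eq_zpowers hBH hB
  have h2 : Nat.card ↥(⁅Vx L, B⁆) = 2 := (hyp h).minimal_commutator hBH hB
  obtain ⟨⟨c, hc⟩, hc1⟩ : ∃ z : ↥(⁅Vx L, B⁆), z ≠ 1 := by
    have : Nontrivial ↥(⁅Vx L, B⁆) := Finite.one_lt_card_iff_nontrivial.1 (h2 ▸ one_lt_two)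
    exact exists_ne 1
  have hsq : b * b = 1 := by
    have := (hyp h).minimal_card hBH hB
    rw [e, Nat.card_zpowers] at this
    rw [← pow_two, ← this, pow_orderOf_eq_one]
  have hle : ⁅Vx L, B⁆ ≤ Vx L := commutator_le.2 fun v hv k hk => by
    rw [commutatorElement_def, mul_assoc, mul_assoc, ← mul_assoc k]
    exact mul_mem hv ((ctx h).norm k (hBH hk) _ (inv_mem hv))
  refine ⟨b, e, c, hBH hb, hsq, hb1, hle hc, fun q => hc1 (Subtype.ext q), fun v hv => ?_⟩
  have hm : ⁅v⁻¹, b⁆ ∈ ⁅Vx L, B⁆ := commutator_mem_commutator (inv_mem hv) hb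
  have hall : ∀ x : ↥(⁅Vx L, B⁆), x = 1 ∨ x = ⟨c, hc⟩ := by
    intro x
    obtain ⟨y, -, huniq⟩ := (Nat.card_eq_two_iff' (1 : ↥(⁅Vx L, B⁆))).1 h2
    by_cases hx : x = 1
    · exact Or.inl hx
    · exact Or.inr ((huniq x hx).trans (huniq _ hc1).symm)
  have e2 : b * v * b⁻¹ = v * ⁅v⁻¹, b⁆ := by rw [commutatorElement_def]; group
  rcases hall ⟨_, hm⟩ with q | q
  · left; rw [e2, show ⁅v⁻¹, b⁆ = 1 from congrArg Subtype.val q, mul_one]
  · right; rw [e2, show ⁅v⁻¹, b⁆ = c from congrArg Subtype.val q]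

/-- The involutions moving `Vq L` by one vector that come from `J(T)`. -/
def Jtv (T L : Subgroup G) : Set (X L) :=
  {t | (∃ v₀, JCompTV.IsTv (Vx L) (Hx L) t v₀) ∧
    ∃ j : ↥L, (j : G) ∈ Cfsg.thompsonSubgroupOf 2 T ∧ π L j = t}

theorem J_image (h : Std T L) :
    ((Cfsg.thompsonSubgroupOf 2 T).subgroupOf L).map (π L) ≤ closure (Jtv T L) := by
  have hJL : Cfsg.thompsonSubgroupOf 2 T ≤ L := (Offenders.thompsonOf_le T).trans h.T_le
  rintro _ ⟨⟨j, hjL⟩, hj, rfl⟩
  have hj' : j ∈ sSup {A | Offenders.IsMaxIn 2 T A} := by rw [← Offenders.thompsonOf_eq]; exact hj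
  have key : sSup {A | Offenders.IsMaxIn 2 T A} ≤
      (((closure (Jtv T L)).comap (π L))).map L.subtype := by
    refine sSup_le fun A hA => ?_
    have hAJ : A ≤ Cfsg.thompsonSubgroupOf 2 T := by
      rw [Offenders.thompsonOf_eq]; exact le_sSup hA
    set A' := (A.subgroupOf L).map (π L) with hA'
    suffices hs : A' ≤ closure (Jtv T L) by
      exact fun a ha => ⟨⟨a, hJL (hAJ ha)⟩, hs ⟨_, ha, rfl⟩, rfl⟩
    by_cases hbot : A' = ⊥
    · rw [hbot]; exact bot_le
    have hA'H : A' ≤ Hx L := by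
      rw [hA', show Hx L = (π L).range from rfl, MonoidHom.range_eq_map]
      exact map_mono le_top
    obtain ⟨n, B, hB, -, hsup⟩ := (hyp h).exists_decomp hA'H (max_offender h hA) hbot
    rw [← hsup]
    refine iSup_le fun i => ?_
    obtain ⟨b, hb, htv⟩ := minimal_tv h ((hB i).1.trans hA'H) (hB i).2
    rw [hb]
    obtain ⟨a, ha, e⟩ := (hB i).1 (hb ▸ mem_zpowers b)
    exact zpowers_le.2 (subset_closure ⟨htv, a, hAJ ha, e⟩)
  obtain ⟨y, hy, e⟩ := key hj'
  rw [show (⟨j, hjL⟩ : ↥L) = y from Subtype.ext e.symm]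
  exact hy

end Finite

end Cfsg.Agent.JCompBase
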