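import Mathlib
import Cfsg.Prelude.Def_JComponents
import Cfsg.Agent.Lib.JCompBase

/-!
Basic structure of the components attached to `J(T)` inside an overgroup of `T`.
-/

set_option autoImplicit false

namespace Cfsg.Agent.JCompCore

open Subgroup Cfsg JCompBase JCompTV
open scoped commutatorElement

variable {G : Type*} [Group G]

/-! ### Thompson subgroups -/

theorem thompson_le_map [Finite G] {P S : Subgroup G} {g : G}
    (hPS : P ≤ S.map (MulAut.conj g).toMonoidHom) {B : Subgroup G} (hB : B ≤ P)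
    (hBe : IsElementaryAbelian 2 B) {A : Subgroup G} (hA : Offenders.IsMaxIn 2 S A) :
    Nat.card B ≤ Nat.card A := by
  have h1 : (B.map (MulAut.conj g⁻¹).toMonoidHom) ≤ S := by
    rintro _ ⟨b, hb, rfl⟩
    obtain ⟨s, hs, rfl⟩ := hPS (hB hb)
    simpa [mul_assoc] using hs
  have := hA.2.2 _ h1 (Offenders.ea_map hBe _)
  rwa [card_map_of_injective (MulAut.conj g⁻¹).injective] at this

theorem exists_maxIn [Finite G] (S : Subgroup G) : ∃ A, Offenders.IsMaxIn 2 S A := by
  obtain ⟨A, ⟨hA, hAe⟩, hmax⟩ := Set.exists_max_image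
    {A : Subgroup G | A ≤ S ∧ IsElementaryAbelian 2 A} (fun A => Nat.card A) (Set.toFinite _)
    ⟨⊥, bot_le, Offenders.ea_bot⟩
  exact ⟨A, hA, hAe, fun B hB hBe => hmax B ⟨hB, hBe⟩⟩

theorem maxIn_le_thompson {S A : Subgroup G} (hA : Offenders.IsMaxIn 2 S A) :
    A ≤ Cfsg.thompsonSubgroupOf 2 S := by
  rw [Offenders.thompsonOf_eq]; exact le_sSup hA

/-- If `J(S) ≤ P` and `P` has no larger elementary abelian subgroups, then `J(S) ≤ J(P)`. -/
theorem thompson_le_of_bound {P S : Subgroup G} (hJP : Cfsg.thompsonSubgroupOf 2 S ≤ P)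
    (hb : ∀ B, B ≤ P → IsElementaryAbelian 2 B → ∀ A, Offenders.IsMaxIn 2 S A →
      Nat.card B ≤ Nat.card A) :
    Cfsg.thompsonSubgroupOf 2 S ≤ Cfsg.thompsonSubgroupOf 2 P := by
  rw [Offenders.thompsonOf_eq (U := P), Offenders.thompsonOf_eq (U := S)]
  exact sSup_le fun A hA => le_sSup ⟨(maxIn_le_thompson hA).trans hJP, hA.2.1,
    fun B hB hBe => hb B hB hBe A hA⟩

/-- A 2-group between `J(S)` and a conjugate of `S` has Thompson subgroup `J(S)`. -/
theorem thompson_eq_of_conj [Finite G] {P S : Subgroup G} {g : G}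
    (hJP : Cfsg.thompsonSubgroupOf 2 S ≤ P) (hPS : P ≤ S.map (MulAut.conj g).toMonoidHom) :
    Cfsg.thompsonSubgroupOf 2 P = Cfsg.thompsonSubgroupOf 2 S := by
  have h1 := thompson_le_of_bound hJP fun B hB hBe A hA => thompson_le_map hPS hB hBe hA
  refine (eq_of_le_of_card_ge h1 ?_).symm
  have h2 : Cfsg.thompsonSubgroupOf 2 P ≤
      (Cfsg.thompsonSubgroupOf 2 S).map (MulAut.conj g).toMonoidHom := by
    rw [Offenders.thompsonOf_eq (U := P)]
    refine sSup_le fun B hB => ?_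
    obtain ⟨A, hA⟩ := exists_maxIn S
    have hge : Nat.card A ≤ Nat.card B :=
      hB.2.2 A ((maxIn_le_thompson hA).trans hJP) hA.2.1
    have h3 : B.map (MulAut.conj g⁻¹).toMonoidHom ≤ S := by
      rintro _ ⟨b, hb, rfl⟩
      obtain ⟨s, hs, rfl⟩ := hPS (hB.1 hb)
      simpa [mul_assoc] using hs
    have h4 : Offenders.IsMaxIn 2 S (B.map (MulAut.conj g⁻¹).toMonoidHom) :=
      ⟨h3, Offenders.ea_map hB.2.1 _, fun C hC hCe => (hA.2.2 C hC hCe).trans
        (hge.trans_eq (card_map_of_injective (MulAut.conj g⁻¹).injective).symm)⟩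
    intro b hb
    exact ⟨g⁻¹ * b * g⁻¹⁻¹, maxIn_le_thompson h4 ⟨b, hb, rfl⟩, by simp [mul_assoc]⟩
  exact (Subgroup.card_le_of_le h2).trans_eq (card_map_of_injective (MulAut.conj g).injective)

theorem thompson_normalizer {S : Subgroup G} :
    normalizer (S : Set G) ≤ normalizer (Cfsg.thompsonSubgroupOf 2 S : Set G) := by
  refine LocalBasics.le_normalizer_of_conj fun n hn x hx => ?_
  have e : S.map (MulAut.conj n).toMonoidHom = S := by
    ext y
    constructor
    · rintro ⟨z, hz, rfl⟩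
      exact LocalBasics.conj_mem_of_le_normalizer le_rfl hn hz
    · intro hy
      exact ⟨n⁻¹ * y * n⁻¹⁻¹, LocalBasics.conj_mem_of_le_normalizer le_rfl (inv_mem hn) hy,
        by simp [mul_assoc]⟩
  rw [← e, ← Offenders.thompsonOf_map_conj]
  exact ⟨x, hx, rfl⟩

/-! ### Elementary consequences of the definition -/

theorem comp_congr {T T' K : Subgroup G}
    (h : Cfsg.thompsonSubgroupOf 2 T = Cfsg.thompsonSubgroupOf 2 T')
    (hK : Cfsg.IsJComponent T K) : Cfsg.IsJComponent T' K := by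
  unfold Cfsg.IsJComponent at hK ⊢
  rwa [← h]

theorem le_normalizer_comm (A B : Subgroup G) :
    B ≤ normalizer ((⁅A, B⁆ : Subgroup G) : Set G) := by
  refine LocalBasics.le_normalizer_of_conj fun y hy c hc => ?_
  have h : ⁅A, B⁆ ≤ (⁅A, B⁆).comap (MulAut.conj y).toMonoidHom := by
    refine Subgroup.commutator_le.mpr fun x hx z hz => ?_
    show y * ⁅x, z⁆ * y⁻¹ ∈ ⁅A, B⁆
    have h : y * ⁅x, z⁆ * y⁻¹ = ⁅x, y⁆⁻¹ * ⁅x, y * z⁆ := by
      simp only [commutatorElement_def]; group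
    rw [h]
    exact mul_mem (inv_mem (commutator_mem_commutator hx hy))
      (commutator_mem_commutator hx (mul_mem hy hz))
  exact h hc

theorem comp_norm {T K : Subgroup G} (hK : Cfsg.IsJComponent T K) :
    Cfsg.thompsonSubgroupOf 2 T ≤ normalizer (K : Set G) := by
  have h := le_normalizer_comm K (Cfsg.thompsonSubgroupOf 2 T)
  rwa [hK.2.1] at h

theorem sup_le_normalizer {T K : Subgroup G} (hK : Cfsg.IsJComponent T K) :
    K ⊔ Cfsg.thompsonSubgroupOf 2 T ≤ normalizer (K : Set G) :=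
  sup_le le_normalizer (comp_norm hK)

theorem normalizer_le_wOf [Finite G] (K : Subgroup G) :
    normalizer (K : Set G) ≤ normalizer (Cfsg.wOf K : Set G) := by
  refine LocalBasics.le_normalizer_of_conj fun n hn c hc => ?_
  have hV : n ∈ normalizer (Cfsg.omegaCenterOf (Cfsg.pCoreOf 2 K) : Set G) :=
    JCompBase.normalizer_le_omegaCenter _ (JCompBase.normalizer_le_pCoreOf 2 K hn)
  have h : Cfsg.wOf K ≤ (Cfsg.wOf K).comap (MulAut.conj n).toMonoidHom :=
    commutator_le.mpr fun a ha b hb => by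
      show n * ⁅a, b⁆ * n⁻¹ ∈ Cfsg.wOf K
      rw [show n * ⁅a, b⁆ * n⁻¹ = ⁅n * a * n⁻¹, n * b * n⁻¹⁆ by
        simp only [commutatorElement_def]; group]
      exact commutator_mem_commutator (LocalBasics.conj_mem_of_le_normalizer le_rfl hV ha)
        (LocalBasics.conj_mem_of_le_normalizer le_rfl hn hb)
  exact h hc

theorem comp_core_le [Finite G] {T K : Subgroup G} (_hK : Cfsg.IsJComponent T K) :
    Cfsg.pCoreOf 2 K ≤ K := LocalBasics.pCoreOf_le 2 K

theorem comp_not_twoGroup [Finite G] {T K : Subgroup G} (hK : Cfsg.IsJComponent T K) :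
    ¬ IsPGroup 2 ↥K := by
  intro h
  have := LocalBasics.le_pCoreOf le_rfl le_normalizer h
  have h3 := hK.2.2.1
  rw [relIndex_eq_one.2 this] at h3
  omega

/-- An element of odd order in `K P`, for a 2-group `P` normalising `K`, lies in `K`. -/
theorem odd_mem_of_sup {K P : Subgroup G} (hP : IsPGroup 2 ↥P) (hn : P ≤ normalizer (K : Set G))
    {x : G} (hx : x ∈ K ⊔ P) (ho : Odd (orderOf x)) : x ∈ K := by
  rw [← SetLike.mem_coe, coe_mul_of_right_le_normalizer_left K P hn] at hx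
  obtain ⟨k, hk, q, hq, rfl⟩ := hx
  change Odd (orderOf (k * q)) at ho
  show k * q ∈ K
  obtain ⟨n, hn2⟩ := hP ⟨q, hq⟩
  have hq2 : q ^ 2 ^ n = 1 := congrArg Subtype.val hn2
  have key : ∀ m : ℕ, ∃ a ∈ K, (k * q) ^ m = a * q ^ m := by
    intro m
    induction m with
    | zero => exact ⟨1, one_mem K, by simp⟩
    | succ m ih =>
      obtain ⟨a, ha, e⟩ := ih
      refine ⟨a * (q ^ m * k * (q ^ m)⁻¹), mul_mem ha
        (LocalBasics.conj_mem_of_le_normalizer hn (pow_mem hq m) hk), ?_⟩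
      rw [pow_succ, e, pow_succ]; group
  obtain ⟨a, ha, e⟩ := key (2 ^ n)
  rw [hq2, mul_one] at e
  have hcop : (orderOf (k * q)).Coprime (2 ^ n) := (Nat.coprime_two_right.2 ho).pow_right n
  obtain ⟨m, hm⟩ := exists_pow_eq_self_of_coprime hcop.symm
  rw [← hm, e]
  exact pow_mem ha m

theorem comp_gen_odd {T K : Subgroup G} (hK : Cfsg.IsJComponent T K) {N : Subgroup G}
    (h : ∀ k ∈ K, Odd (orderOf k) → k ∈ N) : K ≤ N := by
  conv_lhs => rw [← hK.1]
  exact (closure_le N).2 fun k hk => h k hk.1 hk.2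

/-! ### Conjugation -/

theorem map_pCoreOf_le [Finite G] (g : G) (K : Subgroup G) :
    (Cfsg.pCoreOf 2 K).map (MulAut.conj g).toMonoidHom ≤
      Cfsg.pCoreOf 2 (K.map (MulAut.conj g).toMonoidHom) := by
  refine LocalBasics.le_pCoreOf (map_mono (LocalBasics.pCoreOf_le 2 K)) ?_
    ((LocalBasics.isPGroup_pCoreOf 2 K).map _)
  refine LocalBasics.le_normalizer_of_conj ?_
  rintro _ ⟨x, hx, rfl⟩ _ ⟨y, hy, rfl⟩
  exact ⟨x * y * x⁻¹, LocalBasics.conj_mem_of_le_normalizer
    (LocalBasics.le_normalizer_pCoreOf 2 K) hx hy, by simp [mul_assoc]⟩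

theorem map_conj_inv (g : G) (K : Subgroup G) :
    (K.map (MulAut.conj g).toMonoidHom).map (MulAut.conj g⁻¹).toMonoidHom = K := by
  ext x
  constructor
  · rintro ⟨_, ⟨y, hy, rfl⟩, rfl⟩
    simpa [mul_assoc] using hy
  · intro hx
    exact ⟨g * x * g⁻¹, ⟨x, hx, rfl⟩, by simp [mul_assoc]⟩

theorem map_conj_inv' (g : G) (K : Subgroup G) :
    (K.map (MulAut.conj g⁻¹).toMonoidHom).map (MulAut.conj g).toMonoidHom = K := by
  conv_rhs => rw [← map_conj_inv g⁻¹ K]
  rw [inv_inv]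

theorem map_pCoreOf [Finite G] (g : G) (K : Subgroup G) :
    (Cfsg.pCoreOf 2 K).map (MulAut.conj g).toMonoidHom =
      Cfsg.pCoreOf 2 (K.map (MulAut.conj g).toMonoidHom) := by
  refine le_antisymm (map_pCoreOf_le g K) ?_
  have := map_mono (f := (MulAut.conj g).toMonoidHom)
    (map_pCoreOf_le g⁻¹ (K.map (MulAut.conj g).toMonoidHom))
  rwa [map_conj_inv, map_conj_inv'] at this

theorem map_omegaCenter_le (g : G) (X : Subgroup G) :
    (Cfsg.omegaCenterOf X).map (MulAut.conj g).toMonoidHom ≤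
      Cfsg.omegaCenterOf (X.map (MulAut.conj g).toMonoidHom) := by
  rw [map_le_iff_le_comap]
  refine (closure_le _).2 fun x hx => Subgroup.subset_closure ⟨⟨⟨x, hx.1.1, rfl⟩, ?_⟩, ?_⟩
  · rintro _ ⟨y, hy, rfl⟩
    show _ * _ = _ * _
    rw [← map_mul, ← map_mul, hx.1.2 y hy]
  · rw [← map_pow, hx.2, map_one]

theorem map_omegaCenter (g : G) (X : Subgroup G) :
    (Cfsg.omegaCenterOf X).map (MulAut.conj g).toMonoidHom =
      Cfsg.omegaCenterOf (X.map (MulAut.conj g).toMonoidHom) := by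
  refine le_antisymm (map_omegaCenter_le g X) ?_
  have := map_mono (f := (MulAut.conj g).toMonoidHom)
    (map_omegaCenter_le g⁻¹ (X.map (MulAut.conj g).toMonoidHom))
  rwa [map_conj_inv, map_conj_inv'] at this

theorem map_wOf [Finite G] (g : G) (K : Subgroup G) :
    (Cfsg.wOf K).map (MulAut.conj g).toMonoidHom =
      Cfsg.wOf (K.map (MulAut.conj g).toMonoidHom) := by
  rw [Cfsg.wOf, Cfsg.wOf, Subgroup.map_commutator, map_omegaCenter, map_pCoreOf]

theorem comp_conj [Finite G] {T K : Subgroup G} (g : G) (hK : Cfsg.IsJComponent T K) :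
    Cfsg.IsJComponent (T.map (MulAut.conj g).toMonoidHom) (K.map (MulAut.conj g).toMonoidHom) := by
  obtain ⟨hgen, hcomm, hidx, hJmax, hW4, hWexp⟩ := hK
  have hinj : Function.Injective (MulAut.conj g).toMonoidHom := (MulAut.conj g).injective
  refine ⟨?_, ?_, ?_, ?_, ?_, ?_⟩
  · refine le_antisymm ((closure_le _).2 fun x hx => hx.1) ?_
    conv_lhs => rw [← hgen, MonoidHom.map_closure]
    refine closure_mono ?_
    rintro _ ⟨x, hx, rfl⟩
    exact ⟨⟨x, hx.1, rfl⟩, by rw [orderOf_injective _ hinj]; exact hx.2⟩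
  · rw [← Offenders.thompsonOf_map_conj, ← Subgroup.map_commutator, hcomm]
  · rw [← map_pCoreOf, relIndex_map_map_of_injective _ _ hinj, hidx]
  · intro S hS hJS
    rw [← Offenders.thompsonOf_map_conj] at hS hJS ⊢
    rw [← Subgroup.map_sup] at hS
    set S' := S.map (MulAut.conj g⁻¹).toMonoidHom with hS'
    have e : S'.map (MulAut.conj g).toMonoidHom = S := map_conj_inv' g S
    have h1 : Cfsg.IsSylowTwoIn S' (K ⊔ Cfsg.thompsonSubgroupOf 2 T) := by
      refine ⟨?_, hS.2.1.map _, ?_⟩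
      · have := map_mono (f := (MulAut.conj g⁻¹).toMonoidHom) hS.1
        rwa [map_conj_inv] at this
      · have := hS.2.2
        rwa [← e, relIndex_map_map_of_injective _ _ hinj] at this
    have h2 : Cfsg.thompsonSubgroupOf 2 T ≤ S' := by
      have := map_mono (f := (MulAut.conj g⁻¹).toMonoidHom) hJS
      rwa [map_conj_inv] at this
    rw [← e, ← Offenders.thompsonOf_map_conj, hJmax S' h1 h2]
  · rw [← map_wOf, card_map_of_injective hinj, hW4]
  · rw [← map_wOf]
    rintro _ ⟨w, hw, rfl⟩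
    rw [← map_mul, hWexp w hw, map_one]

theorem conj_eq_self {g : G} {K : Subgroup G} (hg : g ∈ normalizer (K : Set G)) :
    K.map (MulAut.conj g).toMonoidHom = K := by
  ext y
  constructor
  · rintro ⟨z, hz, rfl⟩
    exact LocalBasics.conj_mem_of_le_normalizer le_rfl hg hz
  · intro hy
    exact ⟨g⁻¹ * y * g⁻¹⁻¹, LocalBasics.conj_mem_of_le_normalizer le_rfl (inv_mem hg) hy,
      by simp [mul_assoc]⟩

theorem mem_normalizer_of_map_eq {g : G} {K : Subgroup G}
    (h : K.map (MulAut.conj g).toMonoidHom = K) : g ∈ normalizer (K : Set G) := by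
  refine mem_normalizer_iff.2 fun x => ⟨fun hx => h ▸ ⟨x, hx, rfl⟩, fun hx => ?_⟩
  rw [← h] at hx
  obtain ⟨y, hy, e⟩ := hx
  rwa [show x = y from ((MulAut.conj g).injective e).symm]

end Cfsg.Agent.JCompCore
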