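import Mathlib
import Cfsg.Prelude.Def_JComponents
import Cfsg.Agent.Lib.JCompCore

/-!
The image of a component in the action of an overgroup `L`.
-/

set_option autoImplicit false

namespace Cfsg.Agent.JCompLine

open Subgroup Cfsg JCompBase JCompTV JCompCore
open scoped commutatorElement

variable {G : Type*} [Group G] [Finite G] {T L : Subgroup G}

/-- `O₂(L)` inside `L`. -/
abbrev Qs (L : Subgroup G) : Subgroup ↥L := (Cfsg.pCoreOf 2 L).subgroupOf L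

instance qs_normal (L : Subgroup G) : (Qs L).Normal :=
  LocalBasics.normal_subgroupOf_of_le (le_norm_Q L)

/-- `L / O₂(L)`. -/
abbrev qm (L : Subgroup G) : ↥L →* ↥L ⧸ Qs L := QuotientGroup.mk' (Qs L)

theorem qm_eq_one (L : Subgroup G) (x : ↥L) : qm L x = 1 ↔ (x : G) ∈ Cfsg.pCoreOf 2 L := by
  rw [qm, QuotientGroup.mk'_apply, QuotientGroup.eq_one_iff, mem_subgroupOf]

/-- The kernel commutes with `Mid L` modulo `O₂(L)`. -/
theorem mid_commute {x c : ↥L} (hx : (x : G) ∈ Mid L) (hc : (c : G) ∈ Ker L) :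
    Commute (qm L x) (qm L c) := by
  refine commutatorElement_eq_one_iff_mul_comm.1 ?_
  rw [← map_commutatorElement, qm_eq_one]
  exact hx.2 c hc

/-- `(t, v₀, f)`: an involution moving by one vector and an element of the Fitting subgroup it inverts. -/
structure IsLine (L : Subgroup G) (t v₀ f : X L) : Prop where
  tv : IsTv (Vx L) (Hx L) t v₀
  inv : IsInv (Hx L) t f
  mem : f ∈ Fx L

theorem jtv_le (T L : Subgroup G) : closure (Jtv T L) ≤ Gtv (Vx L) (Hx L) :=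
  closure_mono fun _ h => h.1

/-- The image of an element of `J(T)` lies in the subgroup generated by the involutions. -/
theorem J_gtv (h : Std T L) {j : ↥L} (hj : (j : G) ∈ Cfsg.thompsonSubgroupOf 2 T) :
    π L j ∈ Gtv (Vx L) (Hx L) :=
  jtv_le T L (J_image h ⟨j, hj, rfl⟩)

/-- Lifts of involutions inverting something can be chosen as 2-elements. -/
theorem two_lift (h : Std T L) {t : X L} (ht : t ∈ Hx L) (ht2 : t * t = 1) :
    ∃ s : ↥L, π L s = t ∧ (s : G) ∈ Mid L := by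
  obtain ⟨l, rfl⟩ := ht
  set n := orderOf l
  obtain ⟨e, m, hm, hn⟩ := Nat.exists_eq_two_pow_mul_odd (show n ≠ 0 from (orderOf_pos l).ne')
  refine ⟨l ^ m, ?_, ?_⟩
  · obtain ⟨k, rfl⟩ := hm
    rw [map_pow, pow_succ, pow_mul, pow_two, ht2, one_pow, one_mul]
  · have hp : IsPGroup 2 ↥(zpowers ((l ^ m : ↥L) : G)) := by
      refine IsPGroup.of_card (n := (Nat.card ↥(zpowers ((l ^ m : ↥L) : G))).factorization 2) ?_
      have hdvd : orderOf ((l ^ m : ↥L) : G) ∣ 2 ^ e := by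
        rw [orderOf_coe]
        refine orderOf_dvd_of_pow_eq_one ?_
        rw [← pow_mul, mul_comm, ← hn, pow_orderOf_eq_one]
      obtain ⟨i, -, hi⟩ := (Nat.dvd_prime_pow Nat.prime_two).1 hdvd
      rw [Nat.card_zpowers, hi, Nat.Prime.factorization_pow Nat.prime_two]
      simp
    exact h.twoGroup_mid (zpowers_le.2 (l ^ m).2) hp (mem_zpowers _)

/-- Inverted elements of the Fitting subgroup have lifts centralising the kernel modulo `O₂(L)`. -/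
theorem line_lift (h : Std T L) {t v₀ f : X L} (hl : IsLine L t v₀ f) :
    ∃ s y : ↥L, π L s = t ∧ (s : G) ∈ Mid L ∧ π L y = f ∧ (y : G) ∈ Mid L := by
  obtain ⟨s, hs, hsM⟩ := two_lift h hl.tv.mem hl.tv.sq
  obtain ⟨l, hf⟩ := hl.inv.mem
  refine ⟨s, (l * s * l⁻¹ * s⁻¹) ^ 2, hs, hsM, ?_, ?_⟩
  · rw [map_pow, map_mul, map_mul, map_mul, map_inv, map_inv, hf, hs,
      show f * t * f⁻¹ * t⁻¹ = f * (t * f * t⁻¹)⁻¹ by group, hl.inv.inv, inv_inv, ← pow_two,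
      ← pow_mul, show 2 * 2 = 3 + 1 from rfl, pow_succ, (ctx h).pow_three hl.tv hl.inv, one_mul]
  · have hc : ((l * s * l⁻¹ * s⁻¹ : ↥L) : G) ∈ Mid L :=
      h.mid_mul (h.mid_conj l.2 hsM) (h.mid_inv hsM)
    rw [pow_two]
    exact h.mid_mul hc hc

/-- A component centralises the kernel modulo `O₂(L)`. -/
theorem comp_mid (h : Std T L) {K : Subgroup G} (hK : Cfsg.IsJComponent T K) (hKL : K ≤ L) {k : G}
    (hk : k ∈ K) : k ∈ Mid L := by
  let M : Subgroup G :=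
    { carrier := Mid L
      one_mem' := ⟨one_mem L, fun c _ => by simp [one_mem]⟩
      mul_mem' := fun ha hb => h.mid_mul ha hb
      inv_mem' := fun ha => h.mid_inv ha }
  have hle : ⁅K, Cfsg.thompsonSubgroupOf 2 T⁆ ≤ M := commutator_le.2 fun a ha j hj => by
    have hjM : j ∈ Mid L := h.T_mid (Offenders.thompsonOf_le T hj)
    rw [commutatorElement_def]
    exact h.mid_mul (h.mid_conj (hKL ha) hjM) (h.mid_inv hjM)
  exact hle (hK.2.1.ge hk)

theorem comp_gtv (h : Std T L) {K : Subgroup G} (hK : Cfsg.IsJComponent T K) (hKL : K ≤ L)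
    {k : ↥L} (hk : (k : G) ∈ K) : π L k ∈ Gtv (Vx L) (Hx L) := by
  have hle : ⁅K, Cfsg.thompsonSubgroupOf 2 T⁆ ≤
      ((Gtv (Vx L) (Hx L)).comap (π L)).map L.subtype := commutator_le.2 fun a ha j hj => by
    have hjL : j ∈ L := h.T_le (Offenders.thompsonOf_le T hj)
    refine ⟨⁅(⟨a, hKL ha⟩ : ↥L), (⟨j, hjL⟩ : ↥L)⁆, ?_, rfl⟩
    show π L _ ∈ Gtv (Vx L) (Hx L)
    rw [map_commutatorElement, commutatorElement_def]
    exact mul_mem ((ctx h).Gtv_norm ⟨_, rfl⟩ (J_gtv h (j := ⟨j, hjL⟩) hj))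
      (inv_mem (J_gtv h (j := ⟨j, hjL⟩) hj))
  obtain ⟨y, hy, e⟩ := hle (hK.2.1.ge hk)
  rwa [show k = y from Subtype.ext e.symm]

theorem comp_image_E (h : Std T L) {K : Subgroup G} (hK : Cfsg.IsJComponent T K) (hKL : K ≤ L)
    {k : ↥L} (hk : (k : G) ∈ K) : π L k ∈ E (Vx L) (Hx L) (Fx L) := by
  have hle : K ≤ ((E (Vx L) (Hx L) (Fx L)).comap (π L)).map L.subtype :=
    comp_gen_odd hK fun x hx ho => ⟨⟨x, hKL hx⟩, (ctx h).odd_mem_E
      (comp_gtv h hK hKL (k := ⟨x, hKL hx⟩) hx)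
      (ho.of_dvd_nat ((orderOf_map_dvd _ _).trans (by rw [← orderOf_coe]))), rfl⟩
  obtain ⟨y, hy, e⟩ := hle hk
  rwa [show k = y from Subtype.ext e.symm]

theorem comp_core_Q (h : Std T L) {K : Subgroup G} (hK : Cfsg.IsJComponent T K) (hKL : K ≤ L) :
    Cfsg.pCoreOf 2 K ≤ Cfsg.pCoreOf 2 L := by
  intro x hx
  have hxK := LocalBasics.pCoreOf_le 2 K hx
  refine h.two_elements_ker ((LocalBasics.pCoreOf_le 2 K).trans hKL)
    (LocalBasics.isPGroup_pCoreOf 2 K) ⟨hx, ?_⟩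
  refine (π_eq_one_iff L ⟨x, hKL hxK⟩).1 ?_
  have ho : Odd (orderOf (π L ⟨x, hKL hxK⟩)) :=
    (ctx h).F_odd _ ((ctx h).E_le (comp_image_E h hK hKL (k := ⟨x, hKL hxK⟩) hxK))
  obtain ⟨n, hn⟩ := LocalBasics.isPGroup_pCoreOf 2 K ⟨x, hx⟩
  have h1 : (⟨x, hKL hxK⟩ : ↥L) ^ 2 ^ n = 1 := by
    have hv : x ^ 2 ^ n = 1 := congrArg Subtype.val hn
    exact Subtype.ext hv
  have h2 : orderOf (π L ⟨x, hKL hxK⟩) ∣ 2 ^ n := by
    refine orderOf_dvd_of_pow_eq_one ?_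
    rw [← map_pow, h1, map_one]
  exact orderOf_eq_one_iff.1 (Nat.eq_one_of_dvd_coprimes ((Nat.coprime_two_right.2 ho).pow_right n)
    dvd_rfl h2)

theorem comp_not_le_ker (h : Std T L) {K : Subgroup G} (hK : Cfsg.IsJComponent T K) :
    ¬ K ≤ Ker L := by
  intro hle
  refine comp_not_twoGroup hK ((LocalBasics.isPGroup_pCoreOf 2 L).to_le ?_)
  conv_lhs => rw [← hK.2.1]
  refine commutator_le.2 fun k hk j hj => ?_
  have h1 := (h.T_mid (Offenders.thompsonOf_le T hj)).2 k (hle hk)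
  rw [show ⁅k, j⁆ = (j * k * j⁻¹ * k⁻¹)⁻¹ by rw [commutatorElement_def]; group]
  exact inv_mem h1

/-- A component is `⟨y⟩ O₂(K)` for any `y` outside `O₂(K)`. -/
theorem comp_decomp {K : Subgroup G} (hK : Cfsg.IsJComponent T K) {y : G} (hy : y ∈ K)
    (hyQ : y ∉ Cfsg.pCoreOf 2 K) {k : G} (hk : k ∈ K) :
    ∃ i : ℕ, ∃ q ∈ Cfsg.pCoreOf 2 K, k = y ^ i * q := by
  set Q := Cfsg.pCoreOf 2 K
  have : (Q.subgroupOf K).Normal :=
    LocalBasics.normal_subgroupOf_of_le (LocalBasics.le_normalizer_pCoreOf 2 K)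
  have hcard : Nat.card (↥K ⧸ Q.subgroupOf K) = 3 := hK.2.2.1
  have : Fact (Nat.Prime 3) := ⟨Nat.prime_three⟩
  have hy1 : (QuotientGroup.mk ⟨y, hy⟩ : ↥K ⧸ Q.subgroupOf K) ≠ 1 := fun e =>
    hyQ (mem_subgroupOf.mp ((QuotientGroup.eq_one_iff (N := Q.subgroupOf K) _).mp e))
  obtain ⟨i, hi⟩ := (Submonoid.mem_powers_iff _ _).mp
    (mem_powers_of_prime_card hcard hy1 (g' := (QuotientGroup.mk ⟨k, hk⟩ : ↥K ⧸ Q.subgroupOf K)))
  rw [← QuotientGroup.mk_pow] at hi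
  refine ⟨i, (y ^ i)⁻¹ * k, ?_, by group⟩
  simpa [mem_subgroupOf] using QuotientGroup.eq.mp hi

theorem comp_cube {K : Subgroup G} (hK : Cfsg.IsJComponent T K) {y : G} (hy : y ∈ K) :
    y ^ 3 ∈ Cfsg.pCoreOf 2 K := by
  have : ((Cfsg.pCoreOf 2 K).subgroupOf K).Normal :=
    LocalBasics.normal_subgroupOf_of_le (LocalBasics.le_normalizer_pCoreOf 2 K)
  have h := pow_index_mem ((Cfsg.pCoreOf 2 K).subgroupOf K) ⟨y, hy⟩
  rw [show ((Cfsg.pCoreOf 2 K).subgroupOf K).index = 3 from hK.2.2.1] at h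
  simpa [mem_subgroupOf] using h

/-- A component acts as the subgroup inverted by some involution coming from `J(T)`. -/
theorem comp_line (h : Std T L) {K : Subgroup G} (hK : Cfsg.IsJComponent T K) (hKL : K ≤ L) :
    ∃ (t v₀ : X L) (k₀ : ↥L), t ∈ Jtv T L ∧ (k₀ : G) ∈ K ∧ IsLine L t v₀ (π L k₀) ∧
      (∀ k : ↥L, (k : G) ∈ K → π L k ∈ zpowers (π L k₀)) ∧
      ∀ k ∈ K, k ∈ zpowers (k₀ : G) ⊔ Cfsg.pCoreOf 2 L := by
  obtain ⟨y, hy, hyC⟩ := SetLike.not_le_iff_exists.1 (comp_not_le_ker h hK)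
  set k₀ : ↥L := ⟨y, hKL hy⟩
  set f := π L k₀ with hf
  have hyQ : y ∉ Cfsg.pCoreOf 2 K := fun e => hyC (Q_le_Ker L (comp_core_Q h hK hKL e))
  have hdec : ∀ k ∈ K, k ∈ zpowers (k₀ : G) ⊔ Cfsg.pCoreOf 2 L := by
    intro k hk
    obtain ⟨i, q, hq, rfl⟩ := comp_decomp hK hy hyQ hk
    exact mul_mem (mem_sup_left (pow_mem (mem_zpowers _) i))
      (mem_sup_right (comp_core_Q h hK hKL hq))
  have hline : ∀ k : ↥L, (k : G) ∈ K → π L k ∈ zpowers f := by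
    intro k hk
    obtain ⟨i, q, hq, e⟩ := comp_decomp hK hy hyQ hk
    have hqQ := comp_core_Q h hK hKL hq
    have hk' : k = k₀ ^ i * ⟨q, LocalBasics.pCoreOf_le 2 L hqQ⟩ := Subtype.ext e
    rw [hk', map_mul, map_pow, (π_eq_one_iff L ⟨q, LocalBasics.pCoreOf_le 2 L hqQ⟩).2 (Q_le_Ker L hqQ), mul_one]
    exact pow_mem (mem_zpowers f) i
  have hf3 : f ^ 3 = 1 := by
    rw [hf, ← map_pow, π_eq_one_iff]
    exact Q_le_Ker L (comp_core_Q h hK hKL (comp_cube hK hy))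
  have hf1 : f ≠ 1 := fun e => hyC ((π_eq_one_iff L k₀).1 e)
  have hfF : f ∈ Fx L := (ctx h).E_le (comp_image_E h hK hKL hy)
  obtain ⟨t, htJ, hne⟩ : ∃ t ∈ Jtv T L, t * f ≠ f * t := by
    by_contra hall
    push Not at hall
    have hcl : closure (Jtv T L) ≤ centralizer ({f} : Set (X L)) :=
      (closure_le _).2 fun t ht => mem_centralizer_iff.2 fun g hg => by
        rw [Set.mem_singleton_iff.1 hg, hall t ht]
    refine comp_not_le_ker h hK ?_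
    conv_lhs => rw [← hK.2.1]
    refine commutator_le.2 fun k hk j hj => ?_
    have hjL : j ∈ L := h.T_le (Offenders.thompsonOf_le T hj)
    refine (π_eq_one_iff L ⁅(⟨k, hKL hk⟩ : ↥L), (⟨j, hjL⟩ : ↥L)⁆).1 ?_
    rw [map_commutatorElement]
    have hj' : π L ⟨j, hjL⟩ * f = f * π L ⟨j, hjL⟩ :=
      (mem_centralizer_iff.1 (hcl (J_image h ⟨⟨j, hjL⟩, hj, rfl⟩)) f rfl).symm
    obtain ⟨i, hi⟩ := mem_zpowers_iff.1 (hline ⟨k, hKL hk⟩ hk)
    exact commutatorElement_eq_one_iff_mul_comm.2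
      (hi ▸ ((show Commute f _ from hj'.symm).zpow_left i).eq)
  obtain ⟨⟨v₀, htv⟩, j, hj, e⟩ := htJ
  refine ⟨t, v₀, k₀, ⟨⟨v₀, htv⟩, j, hj, e⟩, hy, ⟨htv, ⟨⟨k₀, rfl⟩, ?_, hf1, ?_⟩, hfF⟩,
    hline, hdec⟩
  · exact (ctx h).F_odd f hfF
  · have hm : t * f * t⁻¹ ∈ zpowers f := by
      rw [← e, hf, ← map_mul, ← map_inv, ← map_mul]
      exact hline _ (LocalBasics.conj_mem_of_le_normalizer (comp_norm hK) hj hy)
    rcases zpowers_cases hf3 hm with q | q | q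
    · exact absurd (conj_eq_one_iff.1 q) hf1
    · exact absurd (mul_inv_eq_iff_eq_mul.1 q) hne
    · exact q

/-- Conjugation by `Q = O₂(L)` fixes a component. -/
theorem Q_norm_comp (h : Std T L) {K : Subgroup G} (hK : Cfsg.IsJComponent T K) (hKL : K ≤ L) :
    Cfsg.pCoreOf 2 L ≤ normalizer (K : Set G) := by
  set J := Cfsg.thompsonSubgroupOf 2 T with hJdef
  have hTJ : T ≤ normalizer (J : Set G) := le_normalizer.trans thompson_normalizer
  refine LocalBasics.le_normalizer_of_conj fun q hq => ?_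
  set c := (MulAut.conj q).toMonoidHom
  have hconjJ : ∀ k ∈ K, ∀ j ∈ J, c (k * j * k⁻¹) ∈ K ⊔ J := by
    intro k hk j hj
    have h1 : k⁻¹ * q * k⁻¹⁻¹ ∈ T :=
      h.Q_le_T (LocalBasics.conj_mem_of_le_normalizer (le_norm_Q L) (inv_mem (hKL hk)) hq)
    have h2 := LocalBasics.conj_mem_of_le_normalizer hTJ h1 hj
    rw [show c (k * j * k⁻¹) = k * ((k⁻¹ * q * k⁻¹⁻¹) * j * (k⁻¹ * q * k⁻¹⁻¹)⁻¹) * k⁻¹ by
      simp only [c, MulEquiv.coe_toMonoidHom, MulAut.conj_apply]; group]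
    exact mul_mem (mul_mem (mem_sup_left hk) (mem_sup_right h2)) (inv_mem (mem_sup_left hk))
  have hle : K ≤ (K ⊔ J).comap c := by
    conv_lhs => rw [← hK.2.1]
    refine commutator_le.2 fun k hk j hj => ?_
    show c ⁅k, j⁆ ∈ K ⊔ J
    rw [commutatorElement_def, map_mul]
    refine mul_mem (hconjJ k hk j hj) ?_
    have := hconjJ 1 (one_mem K) j⁻¹ (inv_mem hj)
    simpa using this
  have hle2 : K ≤ K.comap c := comp_gen_odd hK fun k hk ho => by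
    refine odd_mem_of_sup (h.tp.to_le (Offenders.thompsonOf_le T)) (comp_norm hK) (hle hk) ?_
    rw [orderOf_injective _ (MulAut.conj q).injective]
    exact ho
  exact fun k hk => hle2 hk

theorem odd_mem_comp (h : Std T L) {K : Subgroup G} (hK : Cfsg.IsJComponent T K) (hKL : K ≤ L)
    {x : G} (hx : x ∈ K ⊔ Cfsg.pCoreOf 2 L) (ho : Odd (orderOf x)) : x ∈ K :=
  odd_mem_of_sup (LocalBasics.isPGroup_pCoreOf 2 L) (Q_norm_comp h hK hKL) hx ho

/-- An element normalising `K O₂(L)` normalises `K`. -/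
theorem norm_of_norm_sup (h : Std T L) {K : Subgroup G} (hK : Cfsg.IsJComponent T K) (hKL : K ≤ L)
    {y : G} (hy : y ∈ normalizer ((K ⊔ Cfsg.pCoreOf 2 L : Subgroup G) : Set G)) :
    y ∈ normalizer (K : Set G) := by
  have key : ∀ z ∈ normalizer ((K ⊔ Cfsg.pCoreOf 2 L : Subgroup G) : Set G),
      ∀ k ∈ K, z * k * z⁻¹ ∈ K := by
    intro z hz
    have hle : K ≤ K.comap (MulAut.conj z).toMonoidHom := comp_gen_odd hK fun k hk ho => by
      refine odd_mem_comp h hK hKL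
        (LocalBasics.conj_mem_of_le_normalizer le_rfl hz (mem_sup_left hk)) ?_
      rw [orderOf_injective _ (MulAut.conj z).injective]
      exact ho
    exact fun k hk => hle hk
  refine mem_normalizer_iff.2 fun x => ⟨key y hy x, fun hx => ?_⟩
  have := key y⁻¹ (inv_mem hy) _ hx
  simpa [mul_assoc] using this

/-- Components acting alike are equal. -/
theorem comp_le_of_image (h : Std T L) {K K' : Subgroup G} (hK : Cfsg.IsJComponent T K)
    (hKL : K ≤ L) (hK' : Cfsg.IsJComponent T K') (hK'L : K' ≤ L)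
    (himg : ∀ k' : ↥L, (k' : G) ∈ K' → ∃ k : ↥L, (k : G) ∈ K ∧ π L k = π L k') : K' ≤ K := by
  have hle : K' ≤ K ⊔ Cfsg.pCoreOf 2 L := by
    conv_lhs => rw [← hK'.2.1]
    refine commutator_le.2 fun k' hk' j hj => ?_
    obtain ⟨⟨k, hkL⟩, hk, e⟩ := himg ⟨k', hK'L hk'⟩ hk'
    have hc : k⁻¹ * k' ∈ Ker L := (π_eq_iff L _ _).1 e
    set c := k⁻¹ * k' with hcdef
    have hq : ⁅c, j⁆ ∈ Cfsg.pCoreOf 2 L := by
      rw [show ⁅c, j⁆ = (j * c * j⁻¹ * c⁻¹)⁻¹ by rw [commutatorElement_def]; group]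
      exact inv_mem ((h.T_mid (Offenders.thompsonOf_le T hj)).2 c hc)
    have e' : ⁅k', j⁆ = (k * ⁅c, j⁆ * k⁻¹) * ⁅k, j⁆ := by
      rw [hcdef]; simp only [commutatorElement_def]; group
    rw [e']
    exact mul_mem (mem_sup_right (LocalBasics.conj_mem_of_le_normalizer (le_norm_Q L) hkL hq))
      (mem_sup_left (hK.2.1.le (commutator_mem_commutator hk hj)))
  exact comp_gen_odd hK' fun x hx ho => odd_mem_comp h hK hKL (hle hx) ho

theorem comp_le_of_line (h : Std T L) {K K' : Subgroup G} (hK : Cfsg.IsJComponent T K)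
    (hKL : K ≤ L) (hK' : Cfsg.IsJComponent T K') (hK'L : K' ≤ L) {f g : X L}
    (hf : ∃ k : ↥L, (k : G) ∈ K ∧ π L k = f)
    (hg : ∀ k : ↥L, (k : G) ∈ K' → π L k ∈ zpowers g) (hgf : g = f ∨ g = f⁻¹) : K' ≤ K := by
  refine comp_le_of_image h hK hKL hK' hK'L fun k' hk' => ?_
  obtain ⟨k, hk, rfl⟩ := hf
  obtain ⟨i, hi⟩ := mem_zpowers_iff.1 (hg k' hk')
  rcases hgf with e | e
  · exact ⟨k ^ i, by simpa using zpow_mem hk i, by rw [map_zpow, ← hi, e]⟩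
  · exact ⟨k ^ (-i), by simpa using zpow_mem hk i, by rw [map_zpow, ← hi, e, inv_zpow, zpow_neg]⟩

/-- Conjugating the embedded module. -/
theorem move_ι (L : Subgroup G) (k : ↥L) (v : ↥(Vq L)) :
    (ι L v)⁻¹ * (π L k * ι L v * (π L k)⁻¹) =
      ι L ⟨(v : G)⁻¹ * ((k : G) * v * (k : G)⁻¹), mul_mem (inv_mem v.2)
        (LocalBasics.conj_mem_of_le_normalizer (le_norm_V L) k.2 v.2)⟩ := by
  rw [conj_ι, ← map_inv, ← map_mul]; rfl

/-- `[V, K]` lies in `W_K`. -/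
theorem W_le_wOf (h : Std T L) {K : Subgroup G} (hKL : K ≤ L)
    (hJn : Cfsg.thompsonSubgroupOf 2 T ≤ normalizer (K : Set G))
    (hcomm' : ⁅K, Cfsg.thompsonSubgroupOf 2 T⁆ = K)
    (hcore : Cfsg.pCoreOf 2 K ≤ Cfsg.pCoreOf 2 L)
    {t v₀ : X L} {k₀ : ↥L} (hk₀ : (k₀ : G) ∈ K) (hl : IsLine L t v₀ (π L k₀)) :
    ((W (Vx L) (π L k₀)).comap (ι L)).map (Vq L).subtype ≤ Cfsg.wOf K := by
  set J := Cfsg.thompsonSubgroupOf 2 T with hJdef
  have hJT : J ≤ T := Offenders.thompsonOf_le T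
  set H := K ⊔ J with hHdef
  set f := π L k₀ with hf
  set S := ((W (Vx L) f).comap (ι L)).map (Vq L).subtype with hS
  have hHL : H ≤ L := sup_le hKL (hJT.trans h.T_le)
  have hHK : H ≤ normalizer (K : Set G) := sup_le le_normalizer hJn
  set V₀ := Vq L ⊓ H with hV₀
  have hHV₀ : H ≤ normalizer (V₀ : Set G) :=
    LocalBasics.le_normalizer_inf (hHL.trans (le_norm_V L)) le_normalizer
  -- `[V, H] ≤ V₀`
  let M : Subgroup G :=
    { carrier := {x | x ∈ H ∧ ∀ v ∈ Vq L, v⁻¹ * (x * v * x⁻¹) ∈ V₀}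
      one_mem' := ⟨one_mem H, fun v _ => by simp [one_mem]⟩
      mul_mem' := fun {g k} hg hk => ⟨mul_mem hg.1 hk.1, fun v hv => by
        have h1 := hg.2 _ (LocalBasics.conj_mem_of_le_normalizer (le_norm_V L) (hHL hk.1) hv)
        have e : v⁻¹ * (g * k * v * (g * k)⁻¹) =
            (v⁻¹ * (k * v * k⁻¹)) * ((k * v * k⁻¹)⁻¹ * (g * (k * v * k⁻¹) * g⁻¹)) := by group
        rw [e]; exact mul_mem (hk.2 v hv) h1⟩
      inv_mem' := fun {g} hg => ⟨inv_mem hg.1, fun v hv => by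
        have h1 := inv_mem (hg.2 _ (LocalBasics.conj_mem_of_le_normalizer (le_norm_V L)
          (inv_mem (hHL hg.1)) hv))
        have e : ((g⁻¹ * v * g⁻¹⁻¹)⁻¹ * (g * (g⁻¹ * v * g⁻¹⁻¹) * g⁻¹))⁻¹ =
            v⁻¹ * (g⁻¹ * v * g⁻¹⁻¹) := by group
        rwa [e] at h1⟩ }
  have hTJ : T ≤ normalizer (J : Set G) := le_normalizer.trans thompson_normalizer
  have hJM : J ≤ M := fun j hj => ⟨mem_sup_right hj, fun v hv => by
    show v⁻¹ * (j * v * j⁻¹) ∈ Vq L ⊓ H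
    have hV : v⁻¹ * (j * v * j⁻¹) ∈ Vq L := mul_mem (inv_mem hv)
      (LocalBasics.conj_mem_of_le_normalizer (le_norm_V L) (h.T_le (hJT hj)) hv)
    refine ⟨hV, mem_sup_right ?_⟩
    have h1 := LocalBasics.conj_mem_of_le_normalizer hTJ
      (inv_mem (h.Q_le_T (V_le_Q L hv)) : v⁻¹ ∈ T) hj
    rw [inv_inv] at h1
    have h2 := mul_mem h1 (inv_mem hj)
    rwa [show v⁻¹ * j * v * j⁻¹ = v⁻¹ * (j * v * j⁻¹) by group] at h2⟩
  have hHM : H ≤ normalizer (M : Set G) := by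
    refine LocalBasics.le_normalizer_of_conj fun g hg x hx => ⟨mul_mem (mul_mem hg hx.1) (inv_mem hg),
      fun v hv => ?_⟩
    have hv' := LocalBasics.conj_mem_of_le_normalizer (le_norm_V L) (inv_mem (hHL hg)) hv
    have h1 := LocalBasics.conj_mem_of_le_normalizer hHV₀ hg (hx.2 _ hv')
    have e : g * ((g⁻¹ * v * g⁻¹⁻¹)⁻¹ * (x * (g⁻¹ * v * g⁻¹⁻¹) * x⁻¹)) * g⁻¹ =
        v⁻¹ * (g * x * g⁻¹ * v * (g * x * g⁻¹)⁻¹) := by group
    rwa [e] at h1
  have hKM : K ≤ M := by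
    conv_lhs => rw [← hcomm']
    refine commutator_le.2 fun k hk j hj => ?_
    rw [commutatorElement_def]
    exact mul_mem (LocalBasics.conj_mem_of_le_normalizer hHM (mem_sup_left hk) (hJM hj))
      (inv_mem (hJM hj))
  -- generators of `W`
  have hgen : ∀ w ∈ W (Vx L) f, ∃ s : ↥(Vq L), (s : G) ∈ V₀ ∧ ι L s = w := by
    intro w hw
    induction hw using Subgroup.closure_induction with
    | mem y hy =>
      obtain ⟨_, ⟨v, rfl⟩, rfl⟩ := hy
      exact ⟨_, (hKM hk₀).2 v v.2, (move_ι L k₀ v).symm⟩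
    | one => exact ⟨1, one_mem V₀, map_one _⟩
    | inv y _ hy => obtain ⟨s, hs, rfl⟩ := hy; exact ⟨s⁻¹, inv_mem hs, map_inv _ _⟩
    | mul y z _ _ hy hz =>
      obtain ⟨s, hs, rfl⟩ := hy
      obtain ⟨r, hr, rfl⟩ := hz
      exact ⟨s * r, mul_mem hs hr, map_mul _ _ _⟩
  set V₁ := V₀ ⊓ K with hV₁
  have hV₁Q : V₁ ≤ Cfsg.pCoreOf 2 K := LocalBasics.le_pCoreOf inf_le_right
    (LocalBasics.le_normalizer_inf ((le_sup_left (a := K) (b := J)).trans hHV₀) le_normalizer)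
    ((LocalBasics.isPGroup_pCoreOf 2 L).to_le
      (inf_le_left.trans (inf_le_left.trans (V_le_Q L))))
  have hmem : ∀ x ∈ W (Vx L) f, x⁻¹ * (f * x * f⁻¹) ∈
      ((⁅V₀, K⁆ ⊓ V₁ : Subgroup G).subgroupOf (Vq L)).map (ι L) := by
    intro x hx
    obtain ⟨s, hs, rfl⟩ := hgen x hx
    refine ⟨_, ⟨?_, ?_⟩, (move_ι L k₀ s).symm⟩
    · show (s : G)⁻¹ * ((k₀ : G) * s * (k₀ : G)⁻¹) ∈ ⁅V₀, K⁆
      rw [show (s : G)⁻¹ * ((k₀ : G) * s * (k₀ : G)⁻¹) = ⁅(s : G)⁻¹, (k₀ : G)⁆ by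
        rw [commutatorElement_def]; group]
      exact commutator_mem_commutator (inv_mem hs) hk₀
    · refine ⟨(hKM hk₀).2 s s.2, ?_⟩
      have hsK := LocalBasics.conj_mem_of_le_normalizer hHK (inv_mem hs.2 : (s : G)⁻¹ ∈ H) hk₀
      rw [inv_inv] at hsK
      have h2 := mul_mem hsK (inv_mem hk₀)
      rwa [show (s : G)⁻¹ * (k₀ : G) * s * (k₀ : G)⁻¹ =
        (s : G)⁻¹ * ((k₀ : G) * s * (k₀ : G)⁻¹) by group] at h2
  -- every element of `W` is such an element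
  have hall : ∀ w ∈ W (Vx L) f, w ∈ ((⁅V₀, K⁆ ⊓ V₁ : Subgroup G).subgroupOf (Vq L)).map (ι L) := by
    obtain ⟨-, -, hfb, -⟩ := (ctx h).inv_action hl.tv hl.inv
    have eW := (ctx h).W_eq hl.tv hl.inv
    set b := f * v₀ * f⁻¹ with hb
    have hbV : b ∈ Vx L := (ctx h).norm f hl.inv.mem _ hl.tv.vmem
    rw [eW] at hmem ⊢
    have h0 : v₀ ∈ closure ({v₀, b} : Set (X L)) := subset_closure (Or.inl rfl)
    have h1 : b ∈ closure ({v₀, b} : Set (X L)) := subset_closure (Or.inr rfl)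
    have m1 := hmem v₀ h0
    rw [← hb, (ctx h).inv_V hl.tv.vmem] at m1
    have m2 := hmem b h1
    rw [hfb, (ctx h).comm _ hl.tv.vmem _ hbV, (ctx h).inv_V hbV, (ctx h).cancel hbV] at m2
    have m3 := mul_mem m2 m1
    rw [(ctx h).cancel hl.tv.vmem] at m3
    refine fun w hw => (closure_le _).2 ?_ hw
    rintro y (rfl | rfl)
    exacts [m2, m3]
  have hSV : S ≤ ⁅V₀, K⁆ ⊓ V₁ := by
    rintro _ ⟨s, hs, rfl⟩
    obtain ⟨r, hr, e⟩ := hall _ hs
    rw [← ι_injective L e]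
    exact hr
  have hcomm : ∀ x ∈ V₁, x ∈ Cfsg.omegaCenterOf (Cfsg.pCoreOf 2 K) := fun x hx =>
    Offenders.mem_omegaOne ⟨hV₁Q hx, fun q hq => (V_le_center L hx.1.1).2 q (hcore hq)⟩
      (by rw [pow_two]; exact V_sq L hx.1.1)
  -- `S` is generated by commutators with elements of `S`
  have hSW : S ≤ Cfsg.wOf K := by
    rintro _ ⟨s, hs, rfl⟩
    obtain ⟨-, -, hfb, -⟩ := (ctx h).inv_action hl.tv hl.inv
    have eW := (ctx h).W_eq hl.tv hl.inv
    set b := f * v₀ * f⁻¹ with hb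
    have hbV : b ∈ Vx L := (ctx h).norm f hl.inv.mem _ hl.tv.vmem
    have hgoal : ∀ x ∈ W (Vx L) f, x⁻¹ * (f * x * f⁻¹) ∈
        ((Cfsg.wOf K).subgroupOf (Vq L)).map (ι L) := by
      intro x hx
      obtain ⟨r, hr, rfl⟩ := hall x hx
      refine ⟨_, ?_, (move_ι L k₀ r).symm⟩
      show (r : G)⁻¹ * ((k₀ : G) * r * (k₀ : G)⁻¹) ∈ Cfsg.wOf K
      rw [show (r : G)⁻¹ * ((k₀ : G) * r * (k₀ : G)⁻¹) = ⁅(r : G)⁻¹, (k₀ : G)⁆ by
        rw [commutatorElement_def]; group]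
      exact commutator_mem_commutator (inv_mem (hcomm _ hr.2)) hk₀
    have hs' : ι L s ∈ closure ({v₀, b} : Set (X L)) := eW ▸ hs
    have h0 : v₀ ∈ W (Vx L) f := by rw [eW]; exact subset_closure (Or.inl rfl)
    have h1 : b ∈ W (Vx L) f := by rw [eW]; exact subset_closure (Or.inr rfl)
    have m1 := hgoal v₀ h0
    rw [← hb, (ctx h).inv_V hl.tv.vmem] at m1
    have m2 := hgoal b h1
    rw [hfb, (ctx h).comm _ hl.tv.vmem _ hbV, (ctx h).inv_V hbV, (ctx h).cancel hbV] at m2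
    have m3 := mul_mem m2 m1
    rw [(ctx h).cancel hl.tv.vmem] at m3
    have := (closure_le (((Cfsg.wOf K).subgroupOf (Vq L)).map (ι L))).2
      (show ({v₀, b} : Set (X L)) ⊆ _ by rintro y (rfl | rfl); exacts [m2, m3]) hs'
    obtain ⟨r, hr, e⟩ := this
    rw [← ι_injective L e]
    exact hr
  exact hSW

/-- `W_K` is `[V, K]`. -/
theorem comp_wOf (h : Std T L) {K : Subgroup G} (hK : Cfsg.IsJComponent T K) (hKL : K ≤ L)
    {t v₀ : X L} {k₀ : ↥L} (hk₀ : (k₀ : G) ∈ K) (hl : IsLine L t v₀ (π L k₀)) :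
    Cfsg.wOf K = ((W (Vx L) (π L k₀)).comap (ι L)).map (Vq L).subtype := by
  refine (eq_of_le_of_card_ge (W_le_wOf h hKL (comp_norm hK) hK.2.1 (comp_core_Q h hK hKL) hk₀ hl) ?_).symm
  rw [hK.2.2.2.2.1, card_map_of_injective (Vq L).subtype_injective]
  have hWle : W (Vx L) (π L k₀) ≤ (ι L).range := (ctx h).W_le hl.inv.mem
  rw [← card_map_of_injective (H := X L) (f := ι L) (ι_injective L), map_comap_eq_self hWle,
    (ctx h).W_card hl.tv hl.inv]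

/-- A line whose element has image in the span of a component's line, or not: in both cases a lift
normalises the component. -/
theorem lift_norm (h : Std T L) {K : Subgroup G} (hK : Cfsg.IsJComponent T K) (hKL : K ≤ L)
    {t v₀ g : X L} (hg : IsLine L t v₀ g) :
    ∃ y : ↥L, π L y = g ∧ (y : G) ∈ normalizer (K : Set G) := by
  obtain ⟨u, u₀, k₀, -, hk₀, hl, -, hdec⟩ := comp_line h hK hKL
  set f := π L k₀ with hf
  by_cases hsame : f = g ∨ f = g⁻¹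
  · rcases hsame with e | e
    · exact ⟨k₀, e, le_normalizer hk₀⟩
    · exact ⟨k₀⁻¹, by rw [map_inv, ← hf, e, inv_inv], inv_mem (le_normalizer hk₀)⟩
  obtain ⟨s, y, hs, hsM, hy, hyM⟩ := line_lift h hg
  refine ⟨y, hy, norm_of_norm_sup h hK hKL ?_⟩
  have hkM : (k₀ : G) ∈ Mid L := comp_mid h hK hKL hk₀
  have hfg : g * f = f * g := (ctx h).inv_central hl.tv hl.inv hl.mem hg.mem
  have htf : t * f * t⁻¹ = f := by
    rcases (ctx h).tv_normalizes hl.tv hl.inv hl.mem hg.tv with q | q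
    · exact q
    · exact absurd ((ctx h).inv_unique hg.tv hg.inv ⟨hl.inv.mem, hl.inv.odd, hl.inv.ne, q⟩
        hg.mem hl.mem) hsame
  set c : ↥L := y * k₀ * y⁻¹ * k₀⁻¹ with hc
  have hπc : π L c = 1 := by
    rw [hc, map_mul, map_mul, map_mul, map_inv, map_inv, hy, ← hf, hfg]; group
  have hcK : (c : G) ∈ Ker L := (π_eq_one_iff L c).1 hπc
  set c₁ : ↥L := y * (s * y * s⁻¹) with hc₁
  set c₂ : ↥L := k₀⁻¹ * (s * k₀ * s⁻¹) with hc₂
  have hc₁K : (c₁ : G) ∈ Ker L := by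
    refine (π_eq_one_iff L c₁).1 ?_
    rw [hc₁, map_mul, map_mul, map_mul, map_inv, hy, hs, hg.inv.inv, mul_inv_cancel]
  have hc₂K : (c₂ : G) ∈ Ker L := by
    refine (π_eq_one_iff L c₂).1 ?_
    rw [hc₂, map_mul, map_mul, map_mul, map_inv, map_inv, hs, ← hf, htf, inv_mul_cancel]
  set Y := qm L y
  set K₀ := qm L k₀
  set C := qm L c with hC
  have hCdef : C = Y * K₀ * Y⁻¹ * K₀⁻¹ := by simp [hC, hc, Y, K₀]
  have key : C = C⁻¹ := by
    have a1 : qm L (s * y * s⁻¹) = Y⁻¹ * qm L c₁ := by simp [hc₁, Y]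
    have a2 : qm L (s * k₀ * s⁻¹) = K₀ * qm L c₂ := by simp [hc₂, K₀]
    have b : qm L (s * c * s⁻¹) = C := by
      rw [map_mul, map_mul, map_inv, (mid_commute hsM hcK).eq, mul_inv_cancel_right]
    have b2 : qm L (s * c * s⁻¹) = qm L (s * y * s⁻¹) * qm L (s * k₀ * s⁻¹) *
        (qm L (s * y * s⁻¹))⁻¹ * (qm L (s * k₀ * s⁻¹))⁻¹ := by
      rw [← map_inv, ← map_inv, ← map_mul, ← map_mul, ← map_mul]
      congr 1
      rw [hc]; group
    rw [b, a1, a2] at b2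
    have e1 : Commute (qm L c₁) K₀ := (mid_commute hkM hc₁K).symm
    have e2 : Commute (qm L c₁) (qm L c₂) := by
      have hcs : ((s * k₀ * s⁻¹ : ↥L) : G) ∈ Mid L := h.mid_conj s.2 hkM
      have hc₂M : (c₂ : G) ∈ Mid L := h.mid_mul (h.mid_inv hkM) hcs
      exact (mid_commute hc₂M hc₁K).symm
    have e3 : Commute (qm L c₂) Y := (mid_commute hyM hc₂K).symm
    calc C = Y⁻¹ * qm L c₁ * (K₀ * qm L c₂) * (Y⁻¹ * qm L c₁)⁻¹ * (K₀ * qm L c₂)⁻¹ := b2
      _ = Y⁻¹ * ((K₀ * qm L c₂) * qm L c₁) * (qm L c₁)⁻¹ * Y * (qm L c₂)⁻¹ * K₀⁻¹ := by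
          rw [← (e1.mul_right e2).eq]; group
      _ = Y⁻¹ * K₀ * (qm L c₂ * Y) * (qm L c₂)⁻¹ * K₀⁻¹ := by group
      _ = Y⁻¹ * K₀ * Y * K₀⁻¹ := by rw [e3.eq]; group
      _ = Y⁻¹ * (Y * K₀ * Y⁻¹ * K₀⁻¹)⁻¹ * Y := by group
      _ = C⁻¹ := by rw [← hCdef, mul_assoc, (mid_commute hyM hcK).symm.inv_left.eq,
            inv_mul_cancel_left]
  have hcQ : (c : G) ∈ Cfsg.pCoreOf 2 L := by
    have h2 : (c : G) ^ 2 ∈ Cfsg.pCoreOf 2 L := by
      have : qm L (c ^ 2) = 1 := by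
        rw [map_pow, pow_two, ← hC]; nth_rewrite 2 [key]; exact mul_inv_cancel C
      exact (qm_eq_one L _).1 this
    obtain ⟨n, hn⟩ := LocalBasics.isPGroup_pCoreOf 2 L ⟨_, h2⟩
    have hn' : ((c : G) ^ 2) ^ 2 ^ n = 1 := congrArg Subtype.val hn
    have hp : IsPGroup 2 ↥(zpowers (c : G)) := by
      rw [← pow_mul, ← pow_succ'] at hn'
      obtain ⟨i, -, hi⟩ := (Nat.dvd_prime_pow Nat.prime_two).1 (orderOf_dvd_of_pow_eq_one hn')
      exact IsPGroup.of_card (n := i) (by rw [Nat.card_zpowers, hi])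
    exact h.two_elements_ker (zpowers_le.2 c.2) hp ⟨mem_zpowers _, hcK⟩
  have hfin : ∀ z : ↥L, (z : G) * k₀ * (z : G)⁻¹ * (k₀ : G)⁻¹ ∈ Cfsg.pCoreOf 2 L →
      ∀ x ∈ K ⊔ Cfsg.pCoreOf 2 L, (z : G) * x * (z : G)⁻¹ ∈ K ⊔ Cfsg.pCoreOf 2 L := by
    intro z hz x hx
    have hle : zpowers (k₀ : G) ⊔ Cfsg.pCoreOf 2 L ≤
        (K ⊔ Cfsg.pCoreOf 2 L).comap (MulAut.conj (z : G)).toMonoidHom := by
      refine sup_le (zpowers_le.2 ?_) fun q hq => mem_sup_right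
        (LocalBasics.conj_mem_of_le_normalizer (le_norm_Q L) z.2 hq)
      show (z : G) * k₀ * (z : G)⁻¹ ∈ K ⊔ Cfsg.pCoreOf 2 L
      have := mul_mem (mem_sup_right (S := K) hz) (mem_sup_left (T := Cfsg.pCoreOf 2 L) hk₀)
      rwa [inv_mul_cancel_right] at this
    exact hle ((sup_le (fun k hk => hdec k hk) le_sup_right :
      K ⊔ Cfsg.pCoreOf 2 L ≤ zpowers (k₀ : G) ⊔ Cfsg.pCoreOf 2 L) hx)
  refine mem_normalizer_iff.2 fun x => ⟨hfin y hcQ x, fun hx => ?_⟩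
  have hinv : ((y⁻¹ : ↥L) : G) * k₀ * ((y⁻¹ : ↥L) : G)⁻¹ * (k₀ : G)⁻¹ ∈ Cfsg.pCoreOf 2 L := by
    have h1 := LocalBasics.conj_mem_of_le_normalizer (le_norm_Q L) (inv_mem y.2) (inv_mem hcQ)
    simpa [hc, mul_assoc] using h1
  have := hfin y⁻¹ hinv _ hx
  simpa [mul_assoc] using this

/-- Elements acting inside `E` normalise every component. -/
theorem E_norm_comp (h : Std T L) {K : Subgroup G} (hK : Cfsg.IsJComponent T K) (hKL : K ≤ L)
    {x : ↥L} (hx : π L x ∈ E (Vx L) (Hx L) (Fx L)) : (x : G) ∈ normalizer (K : Set G) := by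
  have hker : Ker L ≤ normalizer (K : Set G) := by
    intro c hc
    refine norm_of_norm_sup h hK hKL ?_
    have key : ∀ d ∈ Ker L, ∀ z ∈ K ⊔ Cfsg.pCoreOf 2 L, d * z * d⁻¹ ∈ K ⊔ Cfsg.pCoreOf 2 L := by
      intro d hd z hz
      have hle : K ⊔ Cfsg.pCoreOf 2 L ≤
          (K ⊔ Cfsg.pCoreOf 2 L).comap (MulAut.conj d).toMonoidHom := by
        refine sup_le (fun k hk => ?_) fun q hq => mem_sup_right
          (LocalBasics.conj_mem_of_le_normalizer (le_norm_Q L) (Ker_le L hd) hq)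
        show d * k * d⁻¹ ∈ K ⊔ Cfsg.pCoreOf 2 L
        have hq := inv_mem ((comp_mid h hK hKL hk).2 d hd)
        rw [show d * k * d⁻¹ = (k * d * k⁻¹ * d⁻¹)⁻¹ * k by group]
        exact mul_mem (mem_sup_right hq) (mem_sup_left hk)
      exact hle hz
    refine mem_normalizer_iff.2 fun z => ⟨key c hc z, fun hz => ?_⟩
    have := key c⁻¹ (inv_mem hc) _ hz
    simpa [mul_assoc] using this
  set N := ((normalizer (K : Set G)).subgroupOf L).map (π L)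
  have hle : E (Vx L) (Hx L) (Fx L) ≤ N := (closure_le _).2 fun g ⟨t, v₀, ht, hi, hg⟩ => by
    obtain ⟨y, hy, hyn⟩ := lift_norm h hK hKL ⟨ht, hi, hg⟩
    exact ⟨y, hyn, hy⟩
  obtain ⟨y, hy, e⟩ := hle hx
  have := mul_mem (show (y : G) ∈ normalizer (K : Set G) from hy) (hker ((π_eq_iff L y x).1 e))
  rwa [mul_inv_cancel_left] at this

/-- `L` is the product of the preimage of `E` and the normaliser of `J(T)`. -/
theorem frattini (h : Std T L) (x : ↥L) :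
    ∃ e : ↥L, π L e ∈ E (Vx L) (Hx L) (Fx L) ∧
      ((e⁻¹ * x : ↥L) : G) ∈ normalizer (Cfsg.thompsonSubgroupOf 2 T : Set G) := by
  set Y := (Gtv (Vx L) (Hx L)).comap (π L) with hY
  set Eh := (E (Vx L) (Hx L) (Fx L)).comap (π L) with hEh
  have : Y.Normal := ⟨fun a ha g => by
    show π L (g * a * g⁻¹) ∈ Gtv (Vx L) (Hx L)
    rw [map_mul, map_mul, map_inv]
    exact (ctx h).Gtv_norm ⟨g, rfl⟩ ha⟩
  have : Eh.Normal := ⟨fun a ha g => by
    show π L (g * a * g⁻¹) ∈ E (Vx L) (Hx L) (Fx L)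
    rw [map_mul, map_mul, map_inv]
    exact (ctx h).E_norm ⟨g, rfl⟩ ha⟩
  have : Fact (Nat.Prime 2) := ⟨Nat.prime_two⟩
  let P : Sylow 2 ↥L := (h.tp.comap_of_injective L.subtype L.subtype_injective :
    IsPGroup 2 (T.subgroupOf L)).toSylow (by
      intro hd
      change 2 ∣ (T.subgroupOf L).index at hd
      obtain ⟨k, hk⟩ := h.sylT.2.2
      rw [Subgroup.relIndex] at hk
      omega)
  -- a Sylow subgroup of `Y` containing `J`
  obtain ⟨R, hR⟩ : ∃ R : Sylow 2 ↥Y, (R : Subgroup ↥Y) = (T.subgroupOf L).subgroupOf Y := by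
    obtain ⟨R, hR⟩ := LocalBasics.exists_sylow_inf P Y
    exact ⟨R, hR⟩
  set R' : Subgroup G := ((R : Subgroup ↥Y).map Y.subtype).map L.subtype with hR'
  have hR'T : R' ≤ T := by
    rintro _ ⟨_, ⟨r, hr, rfl⟩, rfl⟩
    rw [hR] at hr
    exact hr
  have hJR : Cfsg.thompsonSubgroupOf 2 T ≤ R' := by
    intro j hj
    have hjT := Offenders.thompsonOf_le T hj
    refine ⟨⟨j, h.T_le hjT⟩, ⟨⟨⟨j, h.T_le hjT⟩, J_gtv h (j := ⟨j, h.T_le hjT⟩) hj⟩, ?_, rfl⟩, rfl⟩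
    rw [SetLike.mem_coe, hR]
    exact hjT
  have hJR' : Cfsg.thompsonSubgroupOf 2 R' = Cfsg.thompsonSubgroupOf 2 T :=
    thompson_eq_of_conj (g := 1) hJR fun r hr => ⟨r, hR'T hr, by simp⟩
  -- Frattini
  have hfr := Sylow.normalizer_sup_eq_top R
  have hxm : x ∈ (Y : Subgroup ↥L) ⊔ normalizer (((R : Subgroup ↥Y).map Y.subtype) : Set ↥L) := by
    rw [sup_comm, hfr]; exact mem_top x
  rw [← SetLike.mem_coe, normal_mul] at hxm
  obtain ⟨y, hy, n, hn, rfl⟩ := hxm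
  -- `Y = Eh (T ⊓ Y)`
  set N₀ : Subgroup ↥Y := Eh.subgroupOf Y ⊔ (R : Subgroup ↥Y)
  have hN₀ : N₀ = ⊤ := by
    have h2 : IsPGroup 2 (↥Y ⧸ Eh.subgroupOf Y) := by
      intro z
      obtain ⟨z, rfl⟩ := QuotientGroup.mk_surjective z
      refine ⟨1, ?_⟩
      rw [pow_one, ← QuotientGroup.mk_pow, QuotientGroup.eq_one_iff, mem_subgroupOf]
      show π L (((z ^ 2 : ↥Y)) : ↥L) ∈ E (Vx L) (Hx L) (Fx L)
      rw [pow_two, coe_mul, map_mul]
      exact (ctx h).Gtv_sq z.2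
    obtain ⟨k, hk⟩ := IsPGroup.iff_card.1 h2
    have d1 : N₀.index ∣ 2 ^ k := hk ▸ index_dvd_of_le (le_sup_left : Eh.subgroupOf Y ≤ N₀)
    have d2 : N₀.index ∣ (R : Subgroup ↥Y).index := index_dvd_of_le le_sup_right
    obtain ⟨i, -, hi⟩ := (Nat.dvd_prime_pow Nat.prime_two).1 d1
    rcases i with _ | i
    · exact index_eq_one.1 (by simpa using hi)
    · exact absurd ((dvd_of_eq (by rw [pow_succ']) : 2 * 2 ^ i ∣ 2 ^ (i + 1))) fun _ =>
        R.not_dvd_index ((Dvd.intro _ (hi.trans (pow_succ' 2 i)).symm).trans d2)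
  have hym : (⟨y, hy⟩ : ↥Y) ∈ N₀ := hN₀ ▸ mem_top _
  rw [← SetLike.mem_coe, normal_mul] at hym
  obtain ⟨e, he, r, hr, hey⟩ := hym
  refine ⟨(e : ↥L), he, ?_⟩
  have hyv : y = (e : ↥L) * r := (congrArg Subtype.val hey).symm
  show (((e : ↥L)⁻¹ * (y * n) : ↥L) : G) ∈ _
  rw [hyv, mul_assoc, inv_mul_cancel_left, coe_mul]
  refine mul_mem (thompson_normalizer (le_normalizer (hR'T ⟨_, ⟨r, hr, rfl⟩, rfl⟩))) ?_
  rw [← hJR']
  refine thompson_normalizer (mem_normalizer_of_map_eq ?_)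
  have hn' := conj_eq_self hn
  calc R'.map (MulAut.conj (n : G)).toMonoidHom
      = (((R : Subgroup ↥Y).map Y.subtype).map (MulAut.conj n).toMonoidHom).map L.subtype := by
        rw [hR', Subgroup.map_map, Subgroup.map_map (f := (MulAut.conj n).toMonoidHom)]
        congr 1
    _ = R' := by rw [hn', hR']

/-- An element of `N(J(T)) ⊓ L` sends a component to a component. -/
theorem comp_conj_J {K : Subgroup G} (hK : Cfsg.IsJComponent T K) {n : G}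
    (hn : n ∈ normalizer (Cfsg.thompsonSubgroupOf 2 T : Set G)) :
    Cfsg.IsJComponent T (K.map (MulAut.conj n).toMonoidHom) := by
  refine comp_congr ?_ (comp_conj n hK)
  rw [← Offenders.thompsonOf_map_conj, conj_eq_self hn]

/-- Components in `L` with meeting `W` are equal. -/
theorem comp_eq_of_meet (h : Std T L) {K K' : Subgroup G} (hK : Cfsg.IsJComponent T K)
    (hKL : K ≤ L) (hK' : Cfsg.IsJComponent T K') (hK'L : K' ≤ L) {w : G} (hw : w ∈ Cfsg.wOf K)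
    (hw' : w ∈ Cfsg.wOf K') (hw1 : w ≠ 1) : K = K' := by
  obtain ⟨t, v₀, k₀, -, hk₀, hl, hline, -⟩ := comp_line h hK hKL
  obtain ⟨t', v₀', k₀', -, hk₀', hl', hline', -⟩ := comp_line h hK' hK'L
  rw [comp_wOf h hK hKL hk₀ hl] at hw
  rw [comp_wOf h hK' hK'L hk₀' hl'] at hw'
  obtain ⟨v, hv, rfl⟩ := hw
  obtain ⟨v', hv', e⟩ := hw'
  obtain rfl : v' = v := Subtype.ext e
  have hne : ι L v' ≠ 1 := fun q => hw1 (by rw [← map_one (ι L)] at q; rw [ι_injective L q]; rfl)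
  have hsame := (ctx h).same_of_meet hl.tv hl.inv hl.mem hl'.tv hl'.inv hl'.mem hv hv' hne
  refine le_antisymm ?_ (comp_le_of_line h hK hKL hK' hK'L ⟨k₀, hk₀, rfl⟩ hline' hsame)
  refine comp_le_of_line h hK' hK'L hK hKL ⟨k₀', hk₀', rfl⟩ hline ?_
  rcases hsame with q | q
  · exact Or.inl q.symm
  · exact Or.inr (by rw [q, inv_inv])

end Cfsg.Agent.JCompLine
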