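import Mathlib
import Cfsg.Prelude.Def_JComponents
import Cfsg.Agent.Lib.JCompLine

/-!
`J(T)` normalises `W_K` when `K` is subnormal in `⟨K, J(T)⟩` inside an overgroup of `T`.
-/

set_option autoImplicit false

namespace Cfsg.Agent.JCompSubnormal

open Subgroup Cfsg JCompBase JCompTV JCompCore JCompLine
open scoped commutatorElement

variable {G : Type*} [Group G] [Finite G]

/-- A normal 2-subgroup adds no elements of odd order to a subnormal subgroup. -/
theorem odd_mem_subnormal {H : Type*} [Group H] [Finite H] {A : Subgroup H} (hA : A.IsSubnormal)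
    {O : Subgroup H} [O.Normal] (hO : IsPGroup 2 ↥O) {x : H} (hx : x ∈ A ⊔ O)
    (ho : Odd (orderOf x)) : x ∈ A := by
  induction hA with
  | top => exact mem_top x
  | step B C h_le hC hN ih =>
    have hxC : x ∈ C := ih (sup_le_sup_right h_le O hx)
    have hBC : C ≤ normalizer (B : Set H) :=
      LocalBasics.le_normalizer_of_conj fun c hc b hb =>
        hN.conj_mem ⟨b, h_le hb⟩ hb ⟨c, hc⟩
    refine odd_mem_of_sup (P := O ⊓ C) (hO.to_le inf_le_left) (inf_le_right.trans hBC) ?_ ho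
    rw [← SetLike.mem_coe, mul_normal] at hx
    obtain ⟨b, hb, o, hov, rfl⟩ := hx
    refine mul_mem (mem_sup_left hb) (mem_sup_right ⟨hov, ?_⟩)
    have := mul_mem (inv_mem (h_le hb)) hxC
    rwa [inv_mul_cancel_left] at this

/-- `O₂(M)` normalises a subnormal subgroup of `M` generated by elements of odd order. -/
theorem core_norm {K M : Subgroup G} (hKM : K ≤ M) (hsn : (K.subgroupOf M).IsSubnormal)
    (hgen : Subgroup.closure {g : G | g ∈ K ∧ Odd (orderOf g)} = K) :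
    Cfsg.pCoreOf 2 M ≤ normalizer (K : Set G) := by
  set O := (Cfsg.pCoreOf 2 M).subgroupOf M
  have : O.Normal := LocalBasics.normal_subgroupOf_of_le (LocalBasics.le_normalizer_pCoreOf 2 M)
  have hO : IsPGroup 2 ↥O :=
    (LocalBasics.isPGroup_pCoreOf 2 M).comap_of_injective M.subtype M.subtype_injective
  refine LocalBasics.le_normalizer_of_conj fun o ho k hk => ?_
  have hle : K ≤ K.comap (MulAut.conj o).toMonoidHom := by
    conv_lhs => rw [← hgen]
    refine (closure_le _).2 fun x hx => ?_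
    show o * x * o⁻¹ ∈ K
    have hoM : o ∈ M := LocalBasics.pCoreOf_le 2 M ho
    set y : ↥M := ⟨o, hoM⟩ * ⟨x, hKM hx.1⟩ * ⟨o, hoM⟩⁻¹ with hy
    have hyo : Odd (orderOf y) := by
      rw [← orderOf_coe, show (y : G) = (MulAut.conj o).toMonoidHom x from rfl,
        orderOf_injective _ (MulAut.conj o).injective]
      exact hx.2
    refine mem_subgroupOf.1 (odd_mem_subnormal hsn hO (x := y) ?_ hyo)
    refine mul_mem (mul_mem (mem_sup_right ?_) (mem_sup_left ?_)) (inv_mem (mem_sup_right ?_))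
    exacts [ho, hx.1, ho]
  exact hle hk

/-- An element of 2-power order commuting with an inverted element centralises its `W`. -/
theorem two_fix {X : Type*} [Group X] {V H F : Subgroup X} (h : Ctx V H F) {t v₀ f g : X}
    (ht : IsTv V H t v₀) (hi : IsInv H t f) (hg : g ∈ H) (hc : g * f = f * g) {n : ℕ}
    (hn : g ^ 2 ^ n = 1) : ∀ x ∈ W V f, g * x * g⁻¹ = x := by
  refine h.fix_W ht hi hc (h.vmem_W ht hi) ht.vne ?_
  obtain ⟨-, hne, hfb, hf3⟩ := h.inv_action ht hi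
  set b := f * v₀ * f⁻¹ with hb
  have hbV : b ∈ V := h.norm f hi.mem _ ht.vmem
  have hm : g * v₀ * g⁻¹ ∈ closure ({v₀, b} : Set X) :=
    h.W_eq ht hi ▸ h.W_comm_mem hg hc (h.vmem_W ht hi)
  have key : ∀ k ∈ zpowers f, g * v₀ * g⁻¹ = k * v₀ * k⁻¹ →
      k ^ 2 ^ n * v₀ * (k ^ 2 ^ n)⁻¹ = v₀ := by
    intro k hk e
    obtain ⟨i, rfl⟩ := mem_zpowers_iff.1 hk
    have hck : Commute g (f ^ i) := (show Commute g f from hc).zpow_right i
    have hs : ∀ m : ℕ, g ^ m * v₀ * (g ^ m)⁻¹ = (f ^ i) ^ m * v₀ * ((f ^ i) ^ m)⁻¹ := by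
      intro m
      induction m with
      | zero => simp
      | succ m ih =>
        calc g ^ (m + 1) * v₀ * (g ^ (m + 1))⁻¹ = g ^ m * (g * v₀ * g⁻¹) * (g ^ m)⁻¹ := by
              rw [pow_succ]; group
          _ = g ^ m * (f ^ i) * v₀ * (g ^ m * f ^ i)⁻¹ := by rw [e]; group
          _ = f ^ i * (g ^ m * v₀ * (g ^ m)⁻¹) * (f ^ i)⁻¹ := by
              rw [(hck.pow_left m).eq]; group
          _ = _ := by rw [ih, pow_succ' (f ^ i)]; group
    rw [← hs, hn]; group
  have hmod : 2 ^ n % 3 = 1 ∨ 2 ^ n % 3 = 2 := by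
    have : ¬ 3 ∣ 2 ^ n := fun hd => by
      have := Nat.prime_three.dvd_of_dvd_pow hd
      omega
    omega
  have hpow : ∀ k ∈ zpowers f, k ^ 2 ^ n = k ∨ k ^ 2 ^ n = k * k := by
    intro k hk
    have h3 : k ^ 3 = 1 := by
      obtain ⟨i, rfl⟩ := mem_zpowers_iff.1 hk
      rw [← zpow_natCast, ← zpow_mul, mul_comm, zpow_mul, zpow_natCast, hf3, one_zpow]
    rcases hmod with q | q
    · left; rw [← Nat.mod_add_div (2 ^ n) 3, q, pow_add, pow_mul, h3, one_pow, pow_one, mul_one]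
    · right; rw [← Nat.mod_add_div (2 ^ n) 3, q, pow_add, pow_mul, h3, one_pow, pow_two, mul_one]
  have hfvb : f * (v₀ * b) * f⁻¹ = v₀ := by
    rw [show f * (v₀ * b) * f⁻¹ = (f * v₀ * f⁻¹) * (f * b * f⁻¹) by group, ← hb, hfb,
      h.comm _ ht.vmem _ hbV, h.cancel hbV]
  have hb1 : b ≠ 1 := fun e => ht.vne (conj_eq_one_iff.1 e)
  have hf2v : f * f * v₀ * (f * f)⁻¹ = v₀ * b := by rw [← conj_conj, ← hb, hfb]
  have hff : f * f * v₀ * (f * f)⁻¹ ≠ v₀ := by
    rw [hf2v]; exact fun e => hb1 (mul_eq_left.1 e)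
  rcases mem_four (h.sq _ ht.vmem) (h.sq _ hbV) (h.comm _ ht.vmem _ hbV) hm with q | q | q | q
  · exact absurd (conj_eq_one_iff.1 q) ht.vne
  · exact q
  · exfalso
    have := key f (mem_zpowers f) q
    rcases hpow f (mem_zpowers f) with r | r <;> rw [r] at this
    · exact hne this
    · exact hff this
  · exfalso
    have := key (f * f) (mul_mem (mem_zpowers f) (mem_zpowers f)) (q.trans hf2v.symm)
    rcases hpow (f * f) (mul_mem (mem_zpowers f) (mem_zpowers f)) with r | r <;> rw [r] at this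
    · exact hff this
    · refine hne ?_
      rw [show f * f * (f * f) = f by
        rw [← pow_two, ← pow_two, ← pow_mul, show 2 * 2 = 3 + 1 from rfl, pow_succ, hf3, one_mul]] at this
      exact this

theorem W_inv {X : Type*} [Group X] {V H F : Subgroup X} (h : Ctx V H F) {t v₀ f g : X}
    (ht : IsTv V H t v₀) (hi : IsInv H t f) (hg : g = f ∨ g = f⁻¹) : W V g = W V f := by
  rcases hg with rfl | rfl
  · rfl
  have hi' := h.inv_of_zpowers ht hi (Or.inr rfl : f⁻¹ = f ∨ f⁻¹ = f⁻¹)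
  rw [h.W_eq ht hi', h.W_eq ht hi]
  obtain ⟨-, -, hfb, hf3⟩ := h.inv_action ht hi
  set b := f * v₀ * f⁻¹ with hb
  have e : f⁻¹ = f * f := inv_eq_of_mul_eq_one_right (by rw [← hf3, pow_succ', pow_two])
  have e2 : f⁻¹ * v₀ * f⁻¹⁻¹ = v₀ * b := by
    rw [← hfb, hb, conj_conj f f, ← e]
  rw [e2]
  apply le_antisymm <;> rw [closure_le] <;> rintro x (rfl | rfl)
  · exact subset_closure (Or.inl rfl)
  · exact mul_mem (subset_closure (Or.inl rfl)) (subset_closure (Or.inr rfl))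
  · exact subset_closure (Or.inl rfl)
  · have := mul_mem (subset_closure (Or.inl rfl) : v₀ ∈ closure ({v₀, v₀ * b} : Set X))
      (subset_closure (Or.inr rfl) : v₀ * b ∈ closure ({v₀, v₀ * b} : Set X))
    rwa [h.cancel ht.vmem] at this

theorem main {T L K : Subgroup G} (h : Std T L) (hKL : K ≤ L)
    (hsn : (K.subgroupOf (K ⊔ Cfsg.thompsonSubgroupOf 2 T)).IsSubnormal) {T' : Subgroup G}
    (hK : Cfsg.IsJComponent T' K) :
    Cfsg.thompsonSubgroupOf 2 T ≤ normalizer (Cfsg.wOf K : Set G) := by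
  classical
  set J := Cfsg.thompsonSubgroupOf 2 T with hJdef
  set M := K ⊔ J with hMdef
  set O := Cfsg.pCoreOf 2 M with hOdef
  have hJT : J ≤ T := Offenders.thompsonOf_le T
  have hJp : IsPGroup 2 ↥J := h.tp.to_le hJT
  have hML : M ≤ L := sup_le hKL (hJT.trans h.T_le)
  have hOM : O ≤ M := LocalBasics.pCoreOf_le 2 M
  have hOp : IsPGroup 2 ↥O := LocalBasics.isPGroup_pCoreOf 2 M
  have hOK : O ≤ normalizer (K : Set G) := core_norm le_sup_left hsn hK.1
  have hMO : M ≤ normalizer (O : Set G) := LocalBasics.le_normalizer_pCoreOf 2 M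
  have hQMO : Cfsg.pCoreOf 2 L ⊓ M ≤ O := LocalBasics.le_pCoreOf inf_le_right
    (LocalBasics.le_normalizer_inf (hML.trans (le_norm_Q L)) le_normalizer)
    ((LocalBasics.isPGroup_pCoreOf 2 L).to_le inf_le_left)
  by_cases hA : ∀ t ∈ Jtv T L, t ∈ (O.subgroupOf L).map (π L)
  · -- `J ≤ O₂(M)`
    refine le_trans (fun j hj => ?_) (hOK.trans (normalizer_le_wOf K))
    obtain ⟨o, ho, e⟩ := (closure_le ((O.subgroupOf L).map (π L))).2 hA
      (J_image h ⟨⟨j, h.T_le (hJT hj)⟩, hj, rfl⟩)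
    have hc : (o : G)⁻¹ * j ∈ Ker L := (π_eq_iff L o _).1 e
    have hP : IsPGroup 2 ↥(O ⊔ J : Subgroup G) :=
      hOp.to_sup_of_normal_left' hJp ((le_sup_right (a := K)).trans hMO)
    have hcQ := h.two_elements_ker (sup_le (hOM.trans hML) (hJT.trans h.T_le)) hP
      ⟨mul_mem (mem_sup_left (inv_mem ho)) (mem_sup_right hj), hc⟩
    have hcM : (o : G)⁻¹ * j ∈ M := mul_mem (inv_mem (hOM ho)) (mem_sup_right hj)
    have hcO : (o : G)⁻¹ * j ∈ O := hQMO ⟨hcQ, hcM⟩
    have := mul_mem (show (o : G) ∈ O from ho) hcO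
    rwa [mul_inv_cancel_left] at this
  push Not at hA
  obtain ⟨t, ⟨⟨v₀, htv⟩, j₀, hj₀, hπj₀⟩, htO⟩ := hA
  -- some conjugate of `t` does not commute with it
  obtain ⟨m, hm⟩ : ∃ m : ↥L, (m : G) ∈ M ∧
      (π L m * t * (π L m)⁻¹) * t ≠ t * (π L m * t * (π L m)⁻¹) := by
    by_contra hall
    push Not at hall
    apply htO
    set S₀ : Set (X L) := {x | ∃ m : ↥L, (m : G) ∈ M ∧ x = π L m * t * (π L m)⁻¹}
    set D := closure S₀ with hD
    have hcomm : ∀ x ∈ S₀, ∀ y ∈ S₀, x * y = y * x := by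
      rintro _ ⟨a, ha, rfl⟩ _ ⟨b, hb, rfl⟩
      have h1 := hall (a⁻¹ * b) (mul_mem (inv_mem ha) hb)
      have := congrArg (fun z => π L a * z * (π L a)⁻¹) h1.symm
      simpa [mul_assoc] using this
    have hDc : ∀ x ∈ D, ∀ y ∈ D, x * y = y * x := fun x hx y hy => by
      have h1 : D ≤ centralizer S₀ := (closure_le _).2 fun z hz =>
        mem_centralizer_iff.2 fun g hg => hcomm g hg z hz
      have h2 : D ≤ centralizer (D : Set (X L)) := (closure_le _).2 fun z hz =>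
        mem_centralizer_iff.2 fun g hg => (mem_centralizer_iff.1 (h1 hg) z hz).symm
      exact (mem_centralizer_iff.1 (h2 hx) y hy).symm
    have hD2 : ∀ x ∈ D, x * x = 1 := by
      intro x hx
      induction hx using closure_induction with
      | mem y hy =>
        obtain ⟨a, -, rfl⟩ := hy
        rw [show π L a * t * (π L a)⁻¹ * (π L a * t * (π L a)⁻¹) = π L a * (t * t) * (π L a)⁻¹ by group,
          htv.sq]; group
      | one => simp
      | inv y _ hy => rw [← mul_inv_rev, hy, inv_one]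
      | mul y z hy hz iy iz =>
        calc y * z * (y * z) = y * (z * y) * z := by group
          _ = (y * y) * (z * z) := by rw [hDc z hz y hy]; group
          _ = 1 := by rw [iy, iz, one_mul]
    set P := M ⊓ (D.comap (π L)).map L.subtype with hP
    have hPM : P ≤ M := inf_le_left
    have hPn : M ≤ normalizer (P : Set G) := by
      refine LocalBasics.le_normalizer_inf le_normalizer (LocalBasics.le_normalizer_of_conj ?_)
      rintro g hg _ ⟨y, hy, rfl⟩
      refine ⟨⟨g, hML hg⟩ * y * ⟨g, hML hg⟩⁻¹, ?_, rfl⟩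
      show π L _ ∈ D
      rw [map_mul, map_mul, map_inv]
      have hle : D ≤ D.comap (MulAut.conj (π L ⟨g, hML hg⟩)).toMonoidHom := by
        refine (closure_le _).2 ?_
        rintro _ ⟨a, ha, rfl⟩
        refine subset_closure ⟨⟨g, hML hg⟩ * a, mul_mem hg ha, ?_⟩
        simp [mul_assoc]
      exact hle hy
    have hjP : (j₀ : G) ∈ P := ⟨mem_sup_right hj₀, j₀,
      subset_closure ⟨1, one_mem M, by simp [hπj₀]⟩, rfl⟩
    obtain ⟨S, hS, hjS⟩ := exists_sylowTwoIn (P := zpowers (j₀ : G)) (zpowers_le.2 hjP)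
      (hJp.to_le (zpowers_le.2 hj₀))
    set C := Ker L ⊓ M with hC
    have hCP : C ≤ P := le_inf inf_le_right fun c hc => ⟨⟨c, Ker_le L hc.1⟩, by
      show π L _ ∈ D
      rw [(π_eq_one_iff L ⟨c, Ker_le L hc.1⟩).2 hc.1]; exact one_mem D, rfl⟩
    have hQS : Cfsg.pCoreOf 2 L ⊓ M ≤ S := le_sylowTwoIn hS
      ((inf_le_inf_right M (Q_le_Ker L)).trans hCP)
      (LocalBasics.le_normalizer_inf ((hPM.trans hML).trans (le_norm_Q L))
        (hPM.trans le_normalizer))
      ((LocalBasics.isPGroup_pCoreOf 2 L).to_le inf_le_left)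
    have hCS : C ≤ normalizer (S : Set G) := LocalBasics.le_normalizer_of_conj fun c hc s hs => by
      have h1 := inv_mem ((h.twoGroup_mid (hS.1.trans (hPM.trans hML)) hS.2.1 hs).2 c hc.1)
      have h2 : (s * c * s⁻¹ * c⁻¹)⁻¹ ∈ M := inv_mem (mul_mem (mul_mem (mul_mem (hPM (hS.1 hs)) hc.2)
        (inv_mem (hPM (hS.1 hs)))) (inv_mem hc.2))
      rw [show c * s * c⁻¹ = (s * c * s⁻¹ * c⁻¹)⁻¹ * s by group]
      exact mul_mem (hQS ⟨h1, h2⟩) hs
    set N := normalizer (S : Set G)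
    have hCn : (C.subgroupOf P).Normal := LocalBasics.normal_subgroupOf_of_le
      (LocalBasics.le_normalizer_inf ((hPM.trans hML).trans (Ker_norm L)) (hPM.trans le_normalizer))
    have hquot : IsPGroup 2 (↥P ⧸ C.subgroupOf P) := by
      intro z
      obtain ⟨z, rfl⟩ := QuotientGroup.mk_surjective z
      refine ⟨1, ?_⟩
      rw [pow_one, ← QuotientGroup.mk_pow, QuotientGroup.eq_one_iff, mem_subgroupOf]
      obtain ⟨hzM, y, hy, hye⟩ := z.2
      refine ⟨?_, pow_mem hzM 2⟩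
      show (z : G) ^ 2 ∈ Ker L
      rw [← hye]
      refine (π_eq_one_iff L (y ^ 2)).1 ?_
      rw [map_pow, pow_two, hD2 _ hy]
    obtain ⟨k, hk⟩ := IsPGroup.iff_card.1 hquot
    have d1 : N.relIndex P ∣ 2 ^ k := hk ▸ (relIndex_dvd_of_le_left P hCS)
    have d2 : Odd (N.relIndex P) := hS.2.2.of_dvd_nat (relIndex_dvd_of_le_left P le_normalizer)
    have hPN : P ≤ N := by
      obtain ⟨i, -, hi⟩ := (Nat.dvd_prime_pow Nat.prime_two).1 d1
      rcases i with _ | i
      · exact relIndex_eq_one.1 (hi.trans (pow_zero 2))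
      · rw [hi] at d2
        exact absurd d2 (Nat.not_odd_iff_even.2 (by rw [pow_succ]; exact even_two.mul_left _))
    have hSO : S ≤ O := (LocalBasics.le_pCoreOf hS.1 hPN hS.2.1).trans
      (LocalBasics.le_pCoreOf ((LocalBasics.pCoreOf_le 2 P).trans hPM)
        (hPn.trans (JCompBase.normalizer_le_pCoreOf 2 P)) (LocalBasics.isPGroup_pCoreOf 2 P))
    exact ⟨j₀, hSO (hjS (mem_zpowers _)), hπj₀⟩
  obtain ⟨f, hfF, hinv⟩ := (ctx h).exists_inv htv
  set t' := π L m * t * (π L m)⁻¹ with ht'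
  have htv' : IsTv (Vx L) (Hx L) t' (π L m * v₀ * (π L m)⁻¹) := (ctx h).conj_tv htv ⟨m, rfl⟩
  -- lift of `f` inside `M`
  obtain ⟨y, hyM, hy⟩ : ∃ y : ↥L, (y : G) ∈ M ∧ π L y = f := by
    set c : ↥L := (m * j₀ * m⁻¹) * j₀ * (m * j₀ * m⁻¹)⁻¹ * j₀⁻¹ with hc
    have hcM : (c : G) ∈ M := by
      have h1 : (j₀ : G) ∈ M := mem_sup_right hj₀
      simp only [hc, coe_mul, coe_inv]
      exact mul_mem (mul_mem (mul_mem (mul_mem (mul_mem hm.1 h1) (inv_mem hm.1)) h1)
        (inv_mem (mul_mem (mul_mem hm.1 h1) (inv_mem hm.1)))) (inv_mem h1)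
    have hπc : π L c = t' * t * t'⁻¹ * t⁻¹ := by simp [hc, hπj₀, t', mul_assoc]
    have hmem : π L c ∈ zpowers f := hπc ▸ (ctx h).tv_comm_mem htv hinv hfF htv'
    rcases zpowers_cases ((ctx h).pow_three htv hinv) hmem with q | q | q
    · refine absurd ?_ hm.2
      rw [hπc] at q
      exact commutatorElement_eq_one_iff_mul_comm.1 q
    · exact ⟨c, hcM, q⟩
    · exact ⟨c⁻¹, inv_mem hcM, by rw [map_inv, q, inv_inv]⟩
  set V₀ := Vq L ⊓ M with hV₀
  have hMV₀ : M ≤ normalizer (V₀ : Set G) :=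
    LocalBasics.le_normalizer_inf (hML.trans (le_norm_V L)) le_normalizer
  have hV₀O : V₀ ≤ O := fun x hx => hQMO ⟨V_le_Q L hx.1, hx.2⟩
  -- commutators of `J` with `V` lie in `V₀`
  have hTJ : T ≤ normalizer (J : Set G) := le_normalizer.trans thompson_normalizer
  have hmv : ∀ v ∈ Vq L, v⁻¹ * ((y : G) * v * (y : G)⁻¹) ∈ V₀ := by
    let N₀ : Subgroup G :=
      { carrier := {x | x ∈ M ∧ ∀ v ∈ Vq L, v⁻¹ * (x * v * x⁻¹) ∈ V₀}
        one_mem' := ⟨one_mem M, fun v _ => by simp [one_mem]⟩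
        mul_mem' := fun {g k} hg hk => ⟨mul_mem hg.1 hk.1, fun v hv => by
          have h1 := hg.2 _ (LocalBasics.conj_mem_of_le_normalizer (le_norm_V L) (hML hk.1) hv)
          have e : v⁻¹ * (g * k * v * (g * k)⁻¹) =
              (v⁻¹ * (k * v * k⁻¹)) * ((k * v * k⁻¹)⁻¹ * (g * (k * v * k⁻¹) * g⁻¹)) := by group
          rw [e]; exact mul_mem (hk.2 v hv) h1⟩
        inv_mem' := fun {g} hg => ⟨inv_mem hg.1, fun v hv => by
          have h1 := inv_mem (hg.2 _ (LocalBasics.conj_mem_of_le_normalizer (le_norm_V L)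
            (inv_mem (hML hg.1)) hv))
          have e : ((g⁻¹ * v * g⁻¹⁻¹)⁻¹ * (g * (g⁻¹ * v * g⁻¹⁻¹) * g⁻¹))⁻¹ =
              v⁻¹ * (g⁻¹ * v * g⁻¹⁻¹) := by group
          rwa [e] at h1⟩ }
    have hMN : M ≤ normalizer (N₀ : Set G) := by
      refine LocalBasics.le_normalizer_of_conj fun g hg x hx =>
        ⟨mul_mem (mul_mem hg hx.1) (inv_mem hg), fun v hv => ?_⟩
      have hv' := LocalBasics.conj_mem_of_le_normalizer (le_norm_V L) (inv_mem (hML hg)) hv
      have h1 := LocalBasics.conj_mem_of_le_normalizer hMV₀ hg (hx.2 _ hv')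
      have e : g * ((g⁻¹ * v * g⁻¹⁻¹)⁻¹ * (x * (g⁻¹ * v * g⁻¹⁻¹) * x⁻¹)) * g⁻¹ =
          v⁻¹ * (g * x * g⁻¹ * v * (g * x * g⁻¹)⁻¹) := by group
      rwa [e] at h1
    have hJN : J ≤ N₀ := fun j hj => ⟨mem_sup_right hj, fun v hv => by
      have hV : v⁻¹ * (j * v * j⁻¹) ∈ Vq L := mul_mem (inv_mem hv)
        (LocalBasics.conj_mem_of_le_normalizer (le_norm_V L) (h.T_le (hJT hj)) hv)
      refine ⟨hV, mem_sup_right ?_⟩
      have h1 := LocalBasics.conj_mem_of_le_normalizer hTJ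
        (inv_mem (h.Q_le_T (V_le_Q L hv)) : v⁻¹ ∈ T) hj
      rw [inv_inv] at h1
      have h2 := mul_mem h1 (inv_mem hj)
      rwa [show v⁻¹ * j * v * j⁻¹ = v⁻¹ * (j * v * j⁻¹) by group] at h2⟩
    have hj1 : (j₀ : G) ∈ N₀ := hJN hj₀
    have hj2 : (m : G) * j₀ * (m : G)⁻¹ ∈ N₀ :=
      LocalBasics.conj_mem_of_le_normalizer hMN hm.1 hj1
    set c : G := ((m : G) * j₀ * (m : G)⁻¹) * j₀ * ((m : G) * j₀ * (m : G)⁻¹)⁻¹ * (j₀ : G)⁻¹
    have hc : c ∈ N₀ := mul_mem (mul_mem (mul_mem hj2 hj1) (inv_mem hj2)) (inv_mem hj1)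
    intro v hv
    -- conjugation by `y` and by `c^{±1}` agree on `Vq L`
    set cL : ↥L := (m * j₀ * m⁻¹) * j₀ * (m * j₀ * m⁻¹)⁻¹ * j₀⁻¹
    have hπc : π L cL = t' * t * t'⁻¹ * t⁻¹ := by simp [cL, hπj₀, t', mul_assoc]
    have hmem : π L cL ∈ zpowers f := hπc ▸ (ctx h).tv_comm_mem htv hinv hfF htv'
    have hgood : ∃ z ∈ N₀, ∃ hz : z ∈ L, π L ⟨z, hz⟩ = π L y := by
      rcases zpowers_cases ((ctx h).pow_three htv hinv) hmem with q | q | q
      · refine absurd ?_ hm.2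
        rw [hπc] at q
        exact commutatorElement_eq_one_iff_mul_comm.1 q
      · exact ⟨c, hc, cL.2, q.trans hy.symm⟩
      · refine ⟨c⁻¹, inv_mem hc, (cL⁻¹).2, ?_⟩
        rw [show (⟨c⁻¹, (cL⁻¹).2⟩ : ↥L) = cL⁻¹ from rfl, map_inv, q, inv_inv, hy]
    obtain ⟨z, hzN, hzL, hz⟩ := hgood
    have e1 := conj_ι L ⟨z, hzL⟩ ⟨v, hv⟩
    rw [hz, conj_ι L y ⟨v, hv⟩] at e1
    have e2 : (y : G) * v * (y : G)⁻¹ = z * v * z⁻¹ := congrArg Subtype.val (ι_injective L e1)
    rw [e2]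
    exact hzN.2 v hv
  -- the elements of `Vq L` acted upon
  let Good : Subgroup G :=
    { carrier := {x | x ∈ V₀ ∧ ∀ o ∈ O, o * x = x * o}
      one_mem' := ⟨one_mem V₀, fun o _ => by simp⟩
      mul_mem' := fun ha hb => ⟨mul_mem ha.1 hb.1, fun o ho =>
        (Commute.mul_right (ha.2 o ho) (hb.2 o ho)).eq⟩
      inv_mem' := fun ha => ⟨inv_mem ha.1, fun o ho =>
        (Commute.inv_right (ha.2 o ho)).eq⟩ }
  have hMG : M ≤ normalizer (Good : Set G) := by
    refine LocalBasics.le_normalizer_of_conj fun g hg x hx =>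
      ⟨LocalBasics.conj_mem_of_le_normalizer hMV₀ hg hx.1, fun o ho => ?_⟩
    have := hx.2 _ (LocalBasics.conj_mem_of_le_normalizer hMO (inv_mem hg) ho)
    calc o * (g * x * g⁻¹) = g * ((g⁻¹ * o * g⁻¹⁻¹) * x) * g⁻¹ := by group
      _ = g * (x * (g⁻¹ * o * g⁻¹⁻¹)) * g⁻¹ := by rw [this]
      _ = _ := by group
  have hWgood : ∀ w ∈ W (Vx L) f, ∃ s : ↥(Vq L), (s : G) ∈ Good ∧ ι L s = w := by
    have hO : ∀ o ∈ O, ∀ w ∈ W (Vx L) f, ∀ hoL : o ∈ L,
        π L ⟨o, hoL⟩ * w * (π L ⟨o, hoL⟩)⁻¹ = w := by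
      intro o ho w hw hoL
      set g := π L ⟨o, hoL⟩
      obtain ⟨n, hn⟩ := hOp ⟨o, ho⟩
      have hgn : g ^ 2 ^ n = 1 := by
        have hv : o ^ 2 ^ n = 1 := congrArg Subtype.val hn
        rw [← map_pow, show (⟨o, hoL⟩ : ↥L) ^ 2 ^ n = 1 from Subtype.ext hv, map_one]
      have hc : g * f = f * g := by
        set e : ↥L := ⟨o, hoL⟩ * y * ⟨o, hoL⟩⁻¹ * y⁻¹
        have heO : (e : G) ∈ O := by
          have h1 := LocalBasics.conj_mem_of_le_normalizer hMO hyM (inv_mem ho)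
          have h2 := mul_mem ho h1
          simpa [e, mul_assoc] using h2
        have hπe : π L e = g * f * g⁻¹ * f⁻¹ := by simp [e, hy, g]
        have hF : π L e ∈ Fx L := hπe ▸
          mul_mem ((ctx h).F_norm g ⟨_, rfl⟩ f hfF) (inv_mem hfF)
        obtain ⟨k, hk⟩ := hOp ⟨_, heO⟩
        have hek : e ^ 2 ^ k = 1 := by
          have hv : (e : G) ^ 2 ^ k = 1 := congrArg Subtype.val hk
          exact Subtype.ext hv
        have : π L e = 1 := orderOf_eq_one_iff.1 (Nat.eq_one_of_dvd_coprimes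
          ((Nat.coprime_two_right.2 ((ctx h).F_odd _ hF)).pow_right k) dvd_rfl
          (orderOf_dvd_of_pow_eq_one (by rw [← map_pow, hek, map_one])))
        rw [hπe] at this
        exact commutatorElement_eq_one_iff_mul_comm.1 this
      exact two_fix (ctx h) htv hinv ⟨_, rfl⟩ hc hgn w hw
    intro w hw
    have key : ∀ u ∈ W (Vx L) f, ∃ s : ↥(Vq L), (s : G) ∈ V₀ ∧ ι L s = u := by
      intro u hu
      induction hu using Subgroup.closure_induction with
      | mem x hx =>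
        obtain ⟨_, ⟨v, rfl⟩, rfl⟩ := hx
        exact ⟨_, hmv v v.2, by rw [← hy]; exact (move_ι L y v).symm⟩
      | one => exact ⟨1, one_mem V₀, map_one _⟩
      | inv x _ hx => obtain ⟨s, hs, rfl⟩ := hx; exact ⟨s⁻¹, inv_mem hs, map_inv _ _⟩
      | mul x z _ _ hx hz =>
        obtain ⟨s, hs, rfl⟩ := hx
        obtain ⟨r, hr, rfl⟩ := hz
        exact ⟨s * r, mul_mem hs hr, map_mul _ _ _⟩
    obtain ⟨s, hs, rfl⟩ := key w hw
    refine ⟨s, ⟨hs, fun o ho => ?_⟩, rfl⟩
    have h1 := hO o ho _ hw (hML (hOM ho))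
    rw [conj_ι] at h1
    exact mul_inv_eq_iff_eq_mul.1 (congrArg Subtype.val (ι_injective L h1))
  have hK2O : Cfsg.pCoreOf 2 K ≤ O := by
    intro x hx
    have h1 : (Cfsg.pCoreOf 2 K).subgroupOf M ≤ O.subgroupOf M := by
      have hn : ((Cfsg.pCoreOf 2 K).subgroupOf M).IsSubnormal := by
        refine IsSubnormal.step _ _ (comap_mono (LocalBasics.pCoreOf_le 2 K)) hsn ⟨fun a ha g => ?_⟩
        exact LocalBasics.conj_mem_of_le_normalizer (LocalBasics.le_normalizer_pCoreOf 2 K) g.2 ha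
      have := LocalBasics.le_pCore_of_subnormal hn
        ((LocalBasics.isPGroup_pCoreOf 2 K).comap_of_injective M.subtype M.subtype_injective)
      exact fun z hz => ⟨z, this hz, rfl⟩
    exact h1 (x := ⟨x, le_sup_left (α := Subgroup G) (LocalBasics.pCoreOf_le 2 K hx)⟩) hx
  -- commutators of good elements with odd elements of `K` lie in `W_K`
  have hcommW : ∀ k ∈ K, Odd (orderOf k) → ∀ s ∈ Good, s⁻¹ * (k * s * k⁻¹) ∈ Cfsg.wOf K := by
    intro k hk ho s hs
    set D : G → G := fun z => z⁻¹ * (k * z * k⁻¹) with hD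
    have hDgood : ∀ z ∈ Good, D z ∈ Good := fun z hz =>
      mul_mem (inv_mem hz) (LocalBasics.conj_mem_of_le_normalizer hMG (mem_sup_left hk) hz)
    have hDK : ∀ z ∈ Good, D z ∈ Cfsg.omegaCenterOf (Cfsg.pCoreOf 2 K) := by
      intro z hz
      have hV₁ : V₀ ⊓ K ≤ Cfsg.pCoreOf 2 K := LocalBasics.le_pCoreOf inf_le_right
        (LocalBasics.le_normalizer_inf ((le_sup_left (b := J)).trans hMV₀) le_normalizer)
        ((hOp.to_le hV₀O).to_le inf_le_left)
      have hz' := hDgood z hz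
      refine Offenders.mem_omegaOne ⟨hV₁ ⟨hz'.1, ?_⟩, fun q hq => hz'.2 q (hK2O hq)⟩
        (by rw [pow_two]; exact V_sq L hz'.1.1)
      have h1 := LocalBasics.conj_mem_of_le_normalizer hOK (inv_mem (hV₀O hz.1)) hk
      rw [inv_inv] at h1
      have h2 := mul_mem h1 (inv_mem hk)
      rwa [show z⁻¹ * k * z * k⁻¹ = z⁻¹ * (k * z * k⁻¹) by group] at h2
    have iterG : ∀ n, ∀ z ∈ Good, D^[n] z ∈ Good := by
      intro n
      induction n with
      | zero => exact fun z hz => hz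
      | succ n ih => exact fun z hz => by rw [Function.iterate_succ_apply]; exact ih _ (hDgood z hz)
    -- the Frobenius identity
    have frob : ∀ a, ∀ z ∈ Good, D^[2 ^ a] z = z⁻¹ * (k ^ 2 ^ a * z * (k ^ 2 ^ a)⁻¹) := by
      intro a
      induction a with
      | zero => intro z _; simp [hD]
      | succ a ih =>
        intro z hz
        set p := k ^ 2 ^ a with hp
        have hzV := hz.1.1
        have hp' : p ∈ L := pow_mem (hKL hk) _
        have hc1 : p * z * p⁻¹ ∈ Vq L := LocalBasics.conj_mem_of_le_normalizer (le_norm_V L) hp' hzV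
        have hc2 : p * (p * z * p⁻¹) * p⁻¹ ∈ Vq L :=
          LocalBasics.conj_mem_of_le_normalizer (le_norm_V L) hp' hc1
        have hzi : z⁻¹ = z := inv_eq_of_mul_eq_one_right (V_sq L hzV)
        have hci : (p * z * p⁻¹)⁻¹ = p * z * p⁻¹ := inv_eq_of_mul_eq_one_right (V_sq L hc1)
        have hk2 : k ^ 2 ^ (a + 1) = p * p := by rw [hp, ← pow_add, pow_succ]; ring_nf
        rw [show (2 : ℕ) ^ (a + 1) = 2 ^ a + 2 ^ a by rw [pow_succ]; ring] at *
        rw [Function.iterate_add_apply, ih _ (iterG _ z hz), ih z hz, hk2]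
        rw [mul_inv_rev, inv_inv]
        calc (p * z * p⁻¹)⁻¹ * z * (p * (z⁻¹ * (p * z * p⁻¹)) * p⁻¹)
            = (p * z * p⁻¹) * z * ((p * z * p⁻¹) * (p * (p * z * p⁻¹) * p⁻¹)) := by
              rw [hci, hzi]; group
          _ = z * ((p * z * p⁻¹) * ((p * z * p⁻¹) * (p * (p * z * p⁻¹) * p⁻¹))) := by
              rw [V_comm L hc1 hzV, mul_assoc]
          _ = z * (p * (p * z * p⁻¹) * p⁻¹) := by
              rw [← mul_assoc (p * z * p⁻¹) (p * z * p⁻¹), V_sq L hc1, one_mul]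
          _ = z⁻¹ * (p * p * z * (p * p)⁻¹) := by rw [hzi]; group
    set n := orderOf k with hn
    have hn0 : n ≠ 0 := (orderOf_pos k).ne'
    have hphi : 0 < n.totient := Nat.totient_pos.2 (Nat.pos_of_ne_zero hn0)
    have hmod := Nat.ModEq.pow_totient ((Nat.coprime_two_left).2 ho : Nat.Coprime 2 n)
    have hkk : k ^ 2 ^ n.totient = k := by
      conv_rhs => rw [← pow_one k]
      exact pow_eq_pow_iff_modEq.2 hmod
    have h1 := frob n.totient s hs
    rw [hkk] at h1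
    have h2 : D s = D (D^[2 ^ n.totient - 1] s) := by
      rw [show D s = s⁻¹ * (k * s * k⁻¹) from rfl, ← h1, ← Function.iterate_succ_apply' D]
      congr 1
      have : 0 < 2 ^ n.totient := Nat.two_pow_pos _
      omega
    have hne : 0 < 2 ^ n.totient - 1 := by
      have : 2 ≤ 2 ^ n.totient := Nat.le_self_pow hphi.ne' 2
      omega
    obtain ⟨r, hr⟩ := Nat.exists_eq_succ_of_ne_zero hne.ne'
    rw [show s⁻¹ * (k * s * k⁻¹) = D s from rfl, h2, hr, Function.iterate_succ_apply']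
    set d := D (D^[r] s)
    show d⁻¹ * (k * d * k⁻¹) ∈ Cfsg.wOf K
    rw [show d⁻¹ * (k * d * k⁻¹) = ⁅d⁻¹, k⁆ by rw [commutatorElement_def]; group]
    exact commutator_mem_commutator (inv_mem (hDK _ (iterG r s hs))) hk
  -- the subgroup of `X L` corresponding to `W_K`
  set WX := ((Cfsg.wOf K).subgroupOf (Vq L)).map (ι L) with hWX
  have hWXcard : Nat.card ↥WX ≤ 4 := by
    rw [hWX, card_map_of_injective (ι_injective L), ← hK.2.2.2.2.1]
    exact Nat.card_le_card_of_injective (fun x => (⟨(x : ↥(Vq L)).1, x.2⟩ : ↥(Cfsg.wOf K)))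
      fun a b e => by
        have e' : ((a : ↥(Vq L)) : G) = ((b : ↥(Vq L)) : G) := Subtype.mk.inj e
        exact Subtype.ext (Subtype.ext e')
  obtain ⟨-, hbne, hfb, -⟩ := (ctx h).inv_action htv hinv
  set b := f * v₀ * f⁻¹ with hb
  have hbW : b ∈ W (Vx L) f := by
    rw [(ctx h).W_eq htv hinv]; exact subset_closure (Or.inr rfl)
  have hv₀W : v₀ ∈ W (Vx L) f := (ctx h).vmem_W htv hinv
  -- `m(W_g) = W_K` whenever it has no fixed points
  have himage : ∀ k : ↥L, (k : G) ∈ K → Odd (orderOf (k : G)) → ∀ (u u₀ g : X L),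
      IsTv (Vx L) (Hx L) u u₀ → IsInv (Hx L) u g →
      (∀ w ∈ W (Vx L) g, ∃ s : ↥(Vq L), (s : G) ∈ Good ∧ ι L s = w) →
      (∀ w ∈ W (Vx L) g, π L k * w * (π L k)⁻¹ = w → w = 1) →
      ∀ d ∈ WX, ∃ w ∈ W (Vx L) g, w⁻¹ * (π L k * w * (π L k)⁻¹) = d := by
    intro k hk ho u u₀ g hu hug hgood hfix d hd
    have hmap : ∀ w : ↥(W (Vx L) g), (w : X L)⁻¹ * (π L k * w * (π L k)⁻¹) ∈ WX := by
      intro w
      obtain ⟨s, hs, e⟩ := hgood w w.2
      rw [← e, move_ι]
      exact ⟨_, hcommW k hk ho s hs, rfl⟩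
    set φ : ↥(W (Vx L) g) → ↥WX := fun w => ⟨_, hmap w⟩
    have hinj : Function.Injective φ := by
      intro a c e
      have e' : (a : X L)⁻¹ * (π L k * a * (π L k)⁻¹) = (c : X L)⁻¹ * (π L k * c * (π L k)⁻¹) :=
        congrArg Subtype.val e
      have hVa := (ctx h).W_le hug.mem a.2
      have hVc := (ctx h).W_le hug.mem c.2
      have h1 : π L k * ((a : X L) * (c : X L)⁻¹) * (π L k)⁻¹ = (a : X L) * (c : X L)⁻¹ := by
        have e2 : π L k * (a : X L) * (π L k)⁻¹ =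
            (a : X L) * (c : X L)⁻¹ * (π L k * (c : X L) * (π L k)⁻¹) := by
          calc π L k * (a : X L) * (π L k)⁻¹ = (a : X L) * ((a : X L)⁻¹ * (π L k * a * (π L k)⁻¹)) := by group
            _ = (a : X L) * ((c : X L)⁻¹ * (π L k * c * (π L k)⁻¹)) := by rw [e']
            _ = _ := by group
        calc π L k * ((a : X L) * (c : X L)⁻¹) * (π L k)⁻¹
            = (π L k * a * (π L k)⁻¹) * (π L k * c * (π L k)⁻¹)⁻¹ := by group
          _ = _ := by rw [e2]; group
      exact Subtype.ext (mul_inv_eq_one.1 (hfix _ (mul_mem a.2 (inv_mem c.2)) h1))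
    have hsurj : Function.Surjective φ := by
      refine (hinj.bijective_of_nat_card_le ?_).2
      rw [(ctx h).W_card hu hug]
      exact hWXcard
    obtain ⟨w, hw⟩ := hsurj ⟨d, hd⟩
    exact ⟨w, w.2, congrArg Subtype.val hw⟩
  have himage' : ∀ k : ↥L, (k : G) ∈ K → Odd (orderOf (k : G)) → ∀ w ∈ W (Vx L) f,
      w⁻¹ * (π L k * w * (π L k)⁻¹) ∈ WX := by
    intro k hk ho w hw
    obtain ⟨s, hs, rfl⟩ := hWgood w hw
    rw [move_ι]
    exact ⟨_, hcommW k hk ho s hs, rfl⟩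
  by_cases hii : ∀ k : ↥L, (k : G) ∈ K → Odd (orderOf (k : G)) →
      π L k * f * (π L k)⁻¹ = f ∨ π L k * f * (π L k)⁻¹ = f⁻¹
  · -- case (i)
    have hcent : ∀ k : ↥L, (k : G) ∈ K → Odd (orderOf (k : G)) → π L k * f = f * π L k := by
      intro k hk ho
      rcases hii k hk ho with q | q
      · exact mul_inv_eq_iff_eq_mul.1 q
      have ho' : Odd (orderOf (π L k)) :=
        ho.of_dvd_nat ((orderOf_map_dvd _ _).trans (by rw [← orderOf_coe]))
      have h2 : π L k * π L k ∈ centralizer ({f} : Set (X L)) := by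
        refine mem_centralizer_iff.2 fun g hg => ?_
        rw [Set.mem_singleton_iff.1 hg]
        refine (mul_inv_eq_iff_eq_mul.1 ?_).symm
        rw [← conj_conj, q, show π L k * f⁻¹ * (π L k)⁻¹ = (π L k * f * (π L k)⁻¹)⁻¹ by group, q,
          inv_inv]
      exact (mem_centralizer_iff.1 ((ctx h).mem_of_sq ho' h2) f rfl).symm
    by_cases hmoves : ∃ k : ↥L, (k : G) ∈ K ∧ Odd (orderOf (k : G)) ∧
        π L k * v₀ * (π L k)⁻¹ ≠ v₀
    · obtain ⟨k, hk, ho, hne⟩ := hmoves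
      have hkc := hcent k hk ho
      have hfix : ∀ w ∈ W (Vx L) f, π L k * w * (π L k)⁻¹ = w → w = 1 := by
        intro w hw e
        by_contra hw1
        exact hne ((ctx h).fix_W htv hinv hkc hw hw1 e v₀ hv₀W)
      -- `W_K` is the subgroup `W f`
      have hWK : WX ≤ W (Vx L) f := by
        intro d hd
        obtain ⟨w, hw, rfl⟩ := himage k hk ho t v₀ f htv hinv hWgood hfix d hd
        exact mul_mem (inv_mem hw) ((ctx h).W_comm_mem ⟨k, rfl⟩ hkc hw)
      set S := ((W (Vx L) f).comap (ι L)).map (Vq L).subtype with hS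
      have hSW : S ≤ Cfsg.wOf K := by
        rintro _ ⟨s, hs, rfl⟩
        have h1 : W (Vx L) f ≤ WX := by
          have hcardle : Nat.card ↥(W (Vx L) f) ≤ Nat.card ↥WX := by
            refine Nat.card_le_card_of_injective
              (fun w => (⟨_, himage' k hk ho w w.2⟩ : ↥WX)) fun a c e => ?_
            have e' : (a : X L)⁻¹ * (π L k * a * (π L k)⁻¹) = (c : X L)⁻¹ * (π L k * c * (π L k)⁻¹) :=
              congrArg Subtype.val e
            have e2 : π L k * (a : X L) * (π L k)⁻¹ =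
                (a : X L) * (c : X L)⁻¹ * (π L k * (c : X L) * (π L k)⁻¹) := by
              calc π L k * (a : X L) * (π L k)⁻¹ = (a : X L) * ((a : X L)⁻¹ * (π L k * a * (π L k)⁻¹)) := by group
                _ = (a : X L) * ((c : X L)⁻¹ * (π L k * c * (π L k)⁻¹)) := by rw [e']
                _ = _ := by group
            refine Subtype.ext (mul_inv_eq_one.1 (hfix _ (mul_mem a.2 (inv_mem c.2)) ?_))
            calc π L k * ((a : X L) * (c : X L)⁻¹) * (π L k)⁻¹
                = (π L k * a * (π L k)⁻¹) * (π L k * c * (π L k)⁻¹)⁻¹ := by group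
              _ = _ := by rw [e2]; group
          exact (eq_of_le_of_card_ge hWK hcardle).ge
        obtain ⟨r, hr, e⟩ := h1 hs
        rw [← ι_injective L e]
        exact hr
      have heq : S = Cfsg.wOf K := by
        refine eq_of_le_of_card_ge hSW ?_
        rw [hK.2.2.2.2.1, hS, card_map_of_injective (Vq L).subtype_injective]
        rw [← card_map_of_injective (H := X L) (f := ι L) (ι_injective L),
          map_comap_eq_self ((ctx h).W_le hinv.mem), (ctx h).W_card htv hinv]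
      rw [← heq]
      refine LocalBasics.le_normalizer_of_conj ?_
      rintro j hj _ ⟨s, hs, rfl⟩
      have hjL : j ∈ L := h.T_le (hJT hj)
      refine ⟨⟨_, LocalBasics.conj_mem_of_le_normalizer (le_norm_V L) hjL s.2⟩, ?_, rfl⟩
      show ι L _ ∈ W (Vx L) f
      rw [← conj_ι L ⟨j, hjL⟩ s]
      have h1 := (ctx h).W_conj (f := f) (⟨⟨j, hjL⟩, rfl⟩ : π L ⟨j, hjL⟩ ∈ Hx L) hs
      rwa [W_inv (ctx h) htv hinv
        ((ctx h).Gtv_normalizes htv hinv hfF (J_gtv h (j := ⟨j, hjL⟩) hj))] at h1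
    · -- everything commutes with `t`
      exfalso
      push Not at hmoves
      have hKt : ∀ k : ↥L, (k : G) ∈ K → π L k * t = t * π L k := by
        have hle : K ≤ ((centralizer ({t} : Set (X L))).comap (π L)).map L.subtype := by
          conv_lhs => rw [← hK.1]
          refine (closure_le _).2 fun x hx => ⟨⟨x, hKL hx.1⟩, ?_, rfl⟩
          refine mem_centralizer_iff.2 fun g hg => ?_
          rw [Set.mem_singleton_iff.1 hg]
          set kk : ↥L := ⟨x, hKL hx.1⟩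
          have h1 := (ctx h).conj_tv htv (⟨kk, rfl⟩ : π L kk ∈ Hx L)
          rw [hmoves kk hx.1 hx.2] at h1
          have h2 := (ctx h).conj_inv hinv (⟨kk, rfl⟩ : π L kk ∈ Hx L)
          rw [mul_inv_eq_iff_eq_mul.2 (hcent kk hx.1 hx.2)] at h2
          have h3 := (ctx h).tv_eq htv hinv h1 h2
          exact (mul_inv_eq_iff_eq_mul.1 h3).symm
        intro k hk
        obtain ⟨z, hz, e⟩ := hle hk
        rw [show k = z from Subtype.ext e.symm]
        exact (mem_centralizer_iff.1 hz t rfl).symm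
      have hJt : ∀ j : ↥L, (j : G) ∈ J → π L j * t = t * π L j := by
        intro j hj
        set c : ↥L := j * j₀ * j⁻¹ * j₀⁻¹
        have hc : π L c = π L j * t * (π L j)⁻¹ * t⁻¹ := by simp [c, hπj₀]
        have hcE : π L c ∈ E (Vx L) (Hx L) (Fx L) :=
          hc ▸ (ctx h).Gtv_comm (J_gtv h hj) (subset_closure ⟨v₀, htv⟩)
        have hcJ : (c : G) ∈ J := mul_mem (mul_mem (mul_mem hj hj₀) (inv_mem hj)) (inv_mem hj₀)
        obtain ⟨k, hk⟩ := hJp ⟨_, hcJ⟩
        have hck : c ^ 2 ^ k = 1 := by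
          have hv : (c : G) ^ 2 ^ k = 1 := congrArg Subtype.val hk
          exact Subtype.ext hv
        have : π L c = 1 := orderOf_eq_one_iff.1 (Nat.eq_one_of_dvd_coprimes
          ((Nat.coprime_two_right.2 ((ctx h).F_odd _ ((ctx h).E_le hcE))).pow_right k) dvd_rfl
          (orderOf_dvd_of_pow_eq_one (by rw [← map_pow, hck, map_one])))
        rw [hc] at this
        exact commutatorElement_eq_one_iff_mul_comm.1 this
      apply hm.2
      have hle : M ≤ ((centralizer ({t} : Set (X L))).comap (π L)).map L.subtype := by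
        refine sup_le (fun k hk => ⟨⟨k, hKL hk⟩, ?_, rfl⟩) (fun j hj => ⟨⟨j, h.T_le (hJT hj)⟩, ?_, rfl⟩)
        · exact mem_centralizer_iff.2 fun g hg => by
            rw [Set.mem_singleton_iff.1 hg]; exact (hKt _ hk).symm
        · exact mem_centralizer_iff.2 fun g hg => by
            rw [Set.mem_singleton_iff.1 hg]; exact (hJt _ hj).symm
      obtain ⟨z, hz, e⟩ := hle hm.1
      have hmt : π L m * t * (π L m)⁻¹ = t := by
        rw [show m = z from Subtype.ext e.symm, ← mem_centralizer_iff.1 hz t rfl, mul_inv_cancel_right]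
      rw [show t' = t from hmt]
  · -- case (ii): three different lines
    exfalso
    push Not at hii
    obtain ⟨k, hk, ho, hne1, hne2⟩ := hii
    set g := π L k with hg
    have hgH : g ∈ Hx L := ⟨k, rfl⟩
    have ho' : Odd (orderOf g) :=
      ho.of_dvd_nat ((orderOf_map_dvd _ _).trans (by rw [← orderOf_coe]))
    set f₁ := g * f * g⁻¹ with hf₁
    set f₂ := g * f₁ * g⁻¹ with hf₂
    have ht₁ := (ctx h).conj_tv htv hgH
    have hi₁ := (ctx h).conj_inv hinv hgH
    have hF₁ : f₁ ∈ Fx L := (ctx h).F_norm g hgH f hfF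
    have ht₂ := (ctx h).conj_tv ht₁ hgH
    have hi₂ := (ctx h).conj_inv hi₁ hgH
    have hF₂ : f₂ ∈ Fx L := (ctx h).F_norm g hgH f₁ hF₁
    have hne12 : ¬ (f₂ = f₁ ∨ f₂ = f₁⁻¹) := by
      rintro (e | e)
      · exact hne1 (mul_left_cancel (mul_right_cancel e))
      · refine hne2 (mul_left_cancel (a := g) (mul_right_cancel (b := g⁻¹) ?_))
        rw [show g * f⁻¹ * g⁻¹ = f₁⁻¹ by rw [hf₁]; group, ← e, hf₂, hf₁]
    have hne02 : ¬ (f₂ = f ∨ f₂ = f⁻¹) := by
      intro e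
      let St : Subgroup (X L) := normalizer ((zpowers f : Subgroup (X L)) : Set (X L))
      have hmem : g * g ∈ St := by
        have hcf : ∀ x ∈ zpowers f, g * g * x * (g * g)⁻¹ ∈ zpowers f := by
          intro x hx
          obtain ⟨i, rfl⟩ := mem_zpowers_iff.1 hx
          rw [← conj_zpow, ← conj_conj, ← hf₁, ← hf₂]
          rcases e with q | q <;> rw [q]
          · exact zpow_mem (mem_zpowers f) i
          · exact zpow_mem (inv_mem (mem_zpowers f)) i
        exact (mem_normalizer_of_map_eq (g := g * g) (K := zpowers f) (by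
          refine eq_of_le_of_card_ge ?_ (card_map_of_injective (MulAut.conj (g * g)).injective).ge
          rintro _ ⟨x, hx, rfl⟩
          exact hcf x hx))
      have hg' : g ∈ St := (ctx h).mem_of_sq ho' hmem
      have := LocalBasics.conj_mem_of_le_normalizer le_rfl hg' (mem_zpowers f)
      rcases zpowers_cases ((ctx h).pow_three htv hinv) this with q | q | q
      · exact hinv.ne (conj_eq_one_iff.1 q)
      · exact hne1 q
      · exact hne2 q
    have hfix₁ : ∀ w ∈ W (Vx L) f₁, g * w * g⁻¹ = w → w = 1 := by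
      intro w hw e
      by_contra hw1
      have hw2 : w ∈ W (Vx L) f₂ := e ▸ (ctx h).W_conj hgH hw
      exact hne12 ((ctx h).same_of_meet ht₁ hi₁ hF₁ ht₂ hi₂ hF₂ hw hw2 hw1)
    have hgood₁ : ∀ w ∈ W (Vx L) f₁, ∃ s : ↥(Vq L), (s : G) ∈ Good ∧ ι L s = w := by
      intro w hw
      have h1 := (ctx h).W_conj (inv_mem hgH) hw
      rw [hf₁, show g⁻¹ * (g * f * g⁻¹) * g⁻¹⁻¹ = f by group] at h1
      obtain ⟨s, hs, e⟩ := hWgood _ h1
      refine ⟨⟨(k : G) * s * (k : G)⁻¹, LocalBasics.conj_mem_of_le_normalizer (le_norm_V L) k.2 s.2⟩,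
        LocalBasics.conj_mem_of_le_normalizer hMG (mem_sup_left hk) hs, ?_⟩
      rw [← conj_ι, e, ← hg]; group
    obtain ⟨u, hu, e⟩ := himage k hk ho _ _ f₁ ht₁ hi₁ hgood₁ hfix₁ _ (himage' k hk ho v₀ hv₀W)
    -- `v₀` is then fixed by `f`
    have hd0 : f * (g * v₀ * g⁻¹) * f⁻¹ = g * v₀ * g⁻¹ :=
      (ctx h).fix_other htv hinv hfF ht₁ hi₁ hF₁ (fun q => by
        rcases q with q | q
        · exact hne1 q
        · exact hne2 q) ((ctx h).W_conj hgH hv₀W)
    have hdu : f * u * f⁻¹ = u :=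
      (ctx h).fix_other htv hinv hfF ht₁ hi₁ hF₁ (fun q => by
        rcases q with q | q
        · exact hne1 q
        · exact hne2 q) hu
    have hdu2 : f * (g * u * g⁻¹) * f⁻¹ = g * u * g⁻¹ :=
      (ctx h).fix_other htv hinv hfF ht₂ hi₂ hF₂ hne02 ((ctx h).W_conj hgH hu)
    have hv : v₀ = (g * v₀ * g⁻¹) * (u⁻¹ * (g * u * g⁻¹))⁻¹ := by
      rw [← hg] at e
      rw [e]; group
    apply hbne
    show f * v₀ * f⁻¹ = v₀
    conv_lhs => rw [hv]
    rw [show f * ((g * v₀ * g⁻¹) * (u⁻¹ * (g * u * g⁻¹))⁻¹) * f⁻¹ =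
      (f * (g * v₀ * g⁻¹) * f⁻¹) * ((f * u * f⁻¹)⁻¹ * (f * (g * u * g⁻¹) * f⁻¹))⁻¹ by group,
      hd0, hdu, hdu2, ← hv]

end Cfsg.Agent.JCompSubnormal
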