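import Mathlib
import Cfsg.Prelude.Def_JComponents
import Cfsg.Agent.Lib.JCompLine
import Cfsg.Agent.Lib.JCompSubnormal

/-!
Construction of a component from an involution of `J(T)` acting as a transvection.
-/

set_option autoImplicit false

namespace Cfsg.Agent.JCompExist

open Subgroup Cfsg JCompBase JCompTV JCompCore JCompLine
open scoped commutatorElement

variable {G : Type*} [Group G] [Finite G] {T L : Subgroup G}

/-- An element of the kernel whose square lies in `O₂(L)` lies there. -/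
theorem ker_two (h : Std T L) {c : ↥L} (hc : (c : G) ∈ Ker L)
    (h2 : (c : G) ^ 2 ∈ Cfsg.pCoreOf 2 L) : (c : G) ∈ Cfsg.pCoreOf 2 L := by
  obtain ⟨n, hn⟩ := LocalBasics.isPGroup_pCoreOf 2 L ⟨_, h2⟩
  have hn' : ((c : G) ^ 2) ^ 2 ^ n = 1 := congrArg Subtype.val hn
  have hp : IsPGroup 2 ↥(zpowers (c : G)) := by
    rw [← pow_mul, ← pow_succ'] at hn'
    obtain ⟨i, -, hi⟩ := (Nat.dvd_prime_pow Nat.prime_two).1 (orderOf_dvd_of_pow_eq_one hn')
    exact IsPGroup.of_card (n := i) (by rw [Nat.card_zpowers, hi])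
  exact h.two_elements_ker (zpowers_le.2 c.2) hp ⟨mem_zpowers _, hc⟩

/-- Two elements of `J(T)` act by commuting automorphisms. -/
theorem J_commute (h : Std T L) {i j : ↥L} (hi : (i : G) ∈ Cfsg.thompsonSubgroupOf 2 T)
    (hj : (j : G) ∈ Cfsg.thompsonSubgroupOf 2 T) : π L i * π L j = π L j * π L i := by
  set c : ↥L := i * j * i⁻¹ * j⁻¹
  have hc : π L c = π L i * π L j * (π L i)⁻¹ * (π L j)⁻¹ := by simp [c]
  have hcE : π L c ∈ E (Vx L) (Hx L) (Fx L) := hc ▸ (ctx h).Gtv_comm (J_gtv h hi) (J_gtv h hj)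
  have hcJ : (c : G) ∈ T := Offenders.thompsonOf_le T
    (mul_mem (mul_mem (mul_mem hi hj) (inv_mem hi)) (inv_mem hj))
  obtain ⟨k, hk⟩ := h.tp ⟨_, hcJ⟩
  have hck : c ^ 2 ^ k = 1 := by
    have hv : (c : G) ^ 2 ^ k = 1 := congrArg Subtype.val hk
    exact Subtype.ext hv
  have : π L c = 1 := orderOf_eq_one_iff.1 (Nat.eq_one_of_dvd_coprimes
    ((Nat.coprime_two_right.2 ((ctx h).F_odd _ ((ctx h).E_le hcE))).pow_right k) dvd_rfl
    (orderOf_dvd_of_pow_eq_one (by rw [← map_pow, hck, map_one])))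
  rw [hc] at this
  exact commutatorElement_eq_one_iff_mul_comm.1 this

/-- An element of `J(T)` of trivial action lies in `O₂(L)`. -/
theorem J_ker (h : Std T L) {c : ↥L} (hcT : (c : G) ∈ T) (hc : π L c = 1) :
    (c : G) ∈ Cfsg.pCoreOf 2 L :=
  h.Ker_inf_T ⟨(π_eq_one_iff L c).1 hc, hcT⟩

/-- `J(T)` contains an involution acting as a transvection. -/
theorem exists_jtv (h : Std T L) : ∃ t, t ∈ Jtv T L := by
  by_contra hno
  push Not at hno
  refine h.mem.2.1 fun j hj => ?_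
  have hjT := Offenders.thompsonOf_le T hj
  have h1 : π L ⟨j, h.T_le hjT⟩ ∈ closure (Jtv T L) := J_image h ⟨⟨j, h.T_le hjT⟩, hj, rfl⟩
  rw [Set.eq_empty_iff_forall_notMem.2 hno, Subgroup.closure_empty] at h1
  exact J_ker h (c := ⟨j, h.T_le hjT⟩) hjT (mem_bot.1 h1)

/-- A generator modulo `O₂(L)` of the future component, with the action of `J(T)` on it. -/
theorem exists_gen (h : Std T L) {t v₀ f : X L} (hl : IsLine L t v₀ f) {j₀ : ↥L}
    (hj₀ : (j₀ : G) ∈ Cfsg.thompsonSubgroupOf 2 T) (hπ : π L j₀ = t) :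
    ∃ z : ↥L, π L z = f ∧ (z : G) ^ 3 ∈ Cfsg.pCoreOf 2 L ∧
      (qm L j₀ * qm L z * (qm L j₀)⁻¹ = (qm L z)⁻¹) ∧
      ∀ j : ↥L, (j : G) ∈ Cfsg.thompsonSubgroupOf 2 T →
        qm L j * qm L z * (qm L j)⁻¹ ∈ zpowers (qm L z) := by
  obtain ⟨-, y, -, -, hy, hyM⟩ := line_lift h hl
  have hf3 : f ^ 3 = 1 := (ctx h).pow_three hl.tv hl.inv
  have hj₀T : (j₀ : G) ∈ T := Offenders.thompsonOf_le T hj₀
  have hj₀M : (j₀ : G) ∈ Mid L := h.T_mid hj₀T
  have hJ2 : qm L j₀ * qm L j₀ = 1 := by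
    rw [← map_mul, qm_eq_one]
    exact J_ker h (c := j₀ * j₀) (mul_mem hj₀T hj₀T) (by rw [map_mul, hπ, hl.tv.sq])
  set Y := qm L y
  set a := qm L j₀
  have hai : a⁻¹ = a := inv_eq_of_mul_eq_one_right hJ2
  set c₁ : ↥L := y * (j₀ * y * j₀⁻¹) with hc₁
  have hc₁K : (c₁ : G) ∈ Ker L := by
    refine (π_eq_one_iff L c₁).1 ?_
    rw [hc₁, map_mul, map_mul, map_mul, map_inv, hy, hπ, hl.inv.inv, mul_inv_cancel]
  set C := qm L c₁ with hC
  have hC' : a * Y * a⁻¹ = Y⁻¹ * C := by simp [hC, hc₁, a, Y]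
  have hY3K : ((y ^ 3 : ↥L) : G) ∈ Ker L := (π_eq_one_iff L (y ^ 3)).1 (by rw [map_pow, hy, hf3])
  have haY3 : a * Y ^ 3 * a⁻¹ = Y ^ 3 := by
    have := (mid_commute hj₀M hY3K).eq
    rw [map_pow] at this
    rw [this, mul_inv_cancel_right]
  have hYC : Commute Y C := mid_commute hyM hc₁K
  have hC3 : C ^ 3 = Y ^ 3 * Y ^ 3 := by
    have h1 : Y ^ 3 = (Y⁻¹) ^ 3 * C ^ 3 := by
      rw [← (hYC.inv_left).mul_pow, ← hC', conj_pow, haY3]
    calc C ^ 3 = Y ^ 3 * ((Y⁻¹) ^ 3 * C ^ 3) := by rw [inv_pow, mul_inv_cancel_left]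
      _ = Y ^ 3 * Y ^ 3 := by rw [← h1]
  -- the commutator
  set z₁ : ↥L := y * j₀ * y⁻¹ * j₀⁻¹ with hz₁
  have hZ₁ : qm L z₁ = Y * Y * C⁻¹ := by
    have e : qm L z₁ = Y * (a * Y * a⁻¹)⁻¹ := by simp [hz₁, a, Y, mul_assoc]
    rw [e, hC', mul_inv_rev, inv_inv, ← (hYC.inv_right).eq, ← mul_assoc]
  have hZ₁3 : qm L z₁ ^ 3 = 1 := by
    rw [hZ₁, ((hYC.mul_left hYC).inv_right).mul_pow, ← pow_two, ← pow_mul, inv_pow, hC3]
    rw [← pow_add, mul_inv_eq_one]
  have hπz₁ : π L z₁ = f * f := by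
    rw [hz₁, map_mul, map_mul, map_mul, map_inv, map_inv, hy, hπ,
      show f * t * f⁻¹ * t⁻¹ = f * (t * f * t⁻¹)⁻¹ by group, hl.inv.inv, inv_inv]
  have hinv₁ : a * qm L z₁ * a⁻¹ = (qm L z₁)⁻¹ := by
    have e : qm L z₁ = Y * a * Y⁻¹ * a⁻¹ := by simp [hz₁, a, Y]
    rw [e, mul_inv_rev, mul_inv_rev, mul_inv_rev, inv_inv, inv_inv, hai]
    calc a * (Y * a * Y⁻¹ * a) * a = a * Y * a * Y⁻¹ * (a * a) := by group
      _ = a * (Y * (a * Y⁻¹)) := by rw [hJ2]; group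
  set z : ↥L := z₁⁻¹ with hz
  have hπz : π L z = f := by
    rw [hz, map_inv, hπz₁]
    refine inv_eq_of_mul_eq_one_left ?_
    rw [← hf3, pow_succ', pow_two]
  set Z := qm L z with hZ
  have hZ3 : Z ^ 3 = 1 := by rw [hZ, hz, map_inv, inv_pow, hZ₁3, inv_one]
  have hZinv : a * Z * a⁻¹ = Z⁻¹ := by
    rw [hZ, hz, map_inv, ← conj_inv, hinv₁]
  have hzM : (z : G) ∈ Mid L :=
    h.mid_inv (h.mid_mul (h.mid_conj y.2 hj₀M) (h.mid_inv hj₀M))
  refine ⟨z, hπz, ?_, hZinv, fun j hj => ?_⟩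
  · exact (qm_eq_one L (z ^ 3)).1 (by rw [map_pow]; exact hZ3)
  have hjT : (j : G) ∈ T := Offenders.thompsonOf_le T hj
  set b := qm L j
  have hab : a * b = b * a := by
    refine commutatorElement_eq_one_iff_mul_comm.1 ?_
    rw [← map_commutatorElement, qm_eq_one]
    refine J_ker h (c := ⁅j₀, j⁆) ?_ ?_
    · exact mul_mem (mul_mem (mul_mem hj₀T hjT) (inv_mem hj₀T)) (inv_mem hjT)
    · rw [map_commutatorElement]
      exact commutatorElement_eq_one_iff_mul_comm.2 (J_commute h hj₀ hj)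
  have key : ∀ (e : ↥L), (π L e = π L j * f * (π L j)⁻¹) → Commute Z (qm L e) →
      a * qm L e * a⁻¹ = (qm L e)⁻¹ → b * Z * b⁻¹ = qm L e := by
    intro e he hce hae
    set c₀ : ↥L := e⁻¹ * (j * z * j⁻¹) with hc₀
    have hc₀K : (c₀ : G) ∈ Ker L := by
      refine (π_eq_one_iff L c₀).1 ?_
      rw [hc₀, map_mul, map_mul, map_mul, map_inv (π L) e, map_inv (π L) j, hπz, he, inv_mul_cancel]
    set C₀ := qm L c₀ with hC₀
    have hb : b * Z * b⁻¹ = qm L e * C₀ := by simp [hC₀, hc₀, b, Z]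
    have haC : a * C₀ * a⁻¹ = C₀ := by
      rw [(mid_commute hj₀M hc₀K).eq, mul_inv_cancel_right]
    have h1 : a * (b * Z * b⁻¹) * a⁻¹ = (b * Z * b⁻¹)⁻¹ := by
      calc a * (b * Z * b⁻¹) * a⁻¹ = (a * b) * Z * (a * b)⁻¹ := by group
        _ = b * (a * Z * a⁻¹) * b⁻¹ := by rw [hab]; group
        _ = (b * Z * b⁻¹)⁻¹ := by rw [hZinv]; group
    rw [hb, show a * (qm L e * C₀) * a⁻¹ = (a * qm L e * a⁻¹) * (a * C₀ * a⁻¹) by group, hae, haC,
      mul_inv_rev] at h1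
    have hcomm : Commute C₀ (qm L e) := by
      have heM : ((j * z * j⁻¹ : ↥L) : G) ∈ Mid L := h.mid_conj j.2 hzM
      have h2 : Commute (qm L (j * z * j⁻¹)) C₀ := mid_commute heM hc₀K
      rw [show qm L (j * z * j⁻¹) = qm L e * C₀ by rw [← hb]; simp [b, Z]] at h2
      have h3 : Commute (qm L e) C₀ := by
        simpa using h2.mul_left (Commute.refl C₀).inv_left
      exact h3.symm
    have h2 : C₀ = C₀⁻¹ := by
      rw [(hcomm.inv_inv).eq] at h1
      exact mul_left_cancel h1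
    have : C₀ = 1 := by
      refine (qm_eq_one L c₀).2 (ker_two h hc₀K ?_)
      refine (qm_eq_one L (c₀ ^ 2)).1 ?_
      rw [map_pow, pow_two, ← hC₀]
      nth_rewrite 2 [h2]
      exact mul_inv_cancel _
    rw [hb, this, mul_one]
  rcases (ctx h).Gtv_normalizes hl.tv hl.inv hl.mem (J_gtv h hj) with q | q
  · rw [key z (by rw [hπz, q]) (Commute.refl Z) hZinv]
    exact mem_zpowers _
  · rw [key z⁻¹ (by rw [map_inv, hπz, q]) (by rw [map_inv]; exact (Commute.refl Z).inv_right)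
      (by rw [map_inv, ← conj_inv, hZinv])]
    rw [map_inv]
    exact inv_mem (mem_zpowers _)

/-- The data of a component, apart from the order of `W_K`. -/
structure Pre (T L K : Subgroup G) : Prop where
  gen : Subgroup.closure {g : G | g ∈ K ∧ Odd (orderOf g)} = K
  norm : Cfsg.thompsonSubgroupOf 2 T ≤ normalizer (K : Set G)
  comm : ⁅K, Cfsg.thompsonSubgroupOf 2 T⁆ = K
  core : Cfsg.pCoreOf 2 K ≤ Cfsg.pCoreOf 2 L
  index : (Cfsg.pCoreOf 2 K).relIndex K = 3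
  le : K ≤ L

theorem exists_pre (h : Std T L) {t v₀ f : X L} (hl : IsLine L t v₀ f) (ht : t ∈ Jtv T L) :
    ∃ (K : Subgroup G) (k : ↥L), Pre T L K ∧ (k : G) ∈ K ∧ (π L k = f ∨ π L k = f⁻¹) := by
  obtain ⟨-, j₀, hj₀, hπ⟩ := ht
  obtain ⟨z, hπz, hz3, hainv, hJz⟩ := exists_gen h hl hj₀ hπ
  set J := Cfsg.thompsonSubgroupOf 2 T with hJdef
  set Q := Cfsg.pCoreOf 2 L with hQdef
  have hJT : J ≤ T := Offenders.thompsonOf_le T
  have hJL : J ≤ L := hJT.trans h.T_le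
  have hJp : IsPGroup 2 ↥J := h.tp.to_le hJT
  have hf3 : f ^ 3 = 1 := (ctx h).pow_three hl.tv hl.inv
  set D := zpowers (z : G) ⊔ Q with hD
  have hDL : D ≤ L := sup_le (zpowers_le.2 z.2) (LocalBasics.pCoreOf_le 2 L)
  have hDmem : ∀ x : ↥L, (x : G) ∈ D ↔ qm L x ∈ zpowers (qm L z) := by
    intro x
    constructor
    · intro hx
      have hle : D ≤ ((zpowers (qm L z)).comap (qm L)).map L.subtype :=
        sup_le (zpowers_le.2 ⟨z, mem_zpowers _, rfl⟩) fun q hq =>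
          ⟨⟨q, LocalBasics.pCoreOf_le 2 L hq⟩, by
            show qm L _ ∈ zpowers (qm L z)
            rw [(qm_eq_one L ⟨q, LocalBasics.pCoreOf_le 2 L hq⟩).2 hq]
            exact one_mem _, rfl⟩
      obtain ⟨y, hy, e⟩ := hle hx
      rwa [show x = y from Subtype.ext e.symm]
    · intro hx
      obtain ⟨i, hi⟩ := mem_zpowers_iff.1 hx
      have h1 : ((z ^ i)⁻¹ * x : ↥L).1 ∈ Q :=
        (qm_eq_one L _).1 (by rw [map_mul, map_inv, map_zpow, hi, inv_mul_cancel])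
      rw [show (x : G) = ((z ^ i : ↥L) : G) * ((z ^ i)⁻¹ * x : ↥L).1 by simp]
      exact mul_mem (mem_sup_left (by simpa using zpow_mem (mem_zpowers (z : G)) i)) (mem_sup_right h1)
  have hJD : J ≤ normalizer (D : Set G) := LocalBasics.le_normalizer_of_conj fun j hj x hx => by
    have hxL := hDL hx
    refine (hDmem (⟨j, hJL hj⟩ * ⟨x, hxL⟩ * ⟨j, hJL hj⟩⁻¹)).2 ?_
    obtain ⟨i, hi⟩ := mem_zpowers_iff.1 ((hDmem ⟨x, hxL⟩).1 hx)
    rw [map_mul, map_mul, map_inv, ← hi, ← conj_zpow]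
    exact zpow_mem (hJz ⟨j, hJL hj⟩ hj) i
  set Jz := J.map (MulAut.conj (z : G)).toMonoidHom with hJzdef
  set Xg := J ⊔ Jz with hXg
  have hXDJ : Xg ≤ D ⊔ J := sup_le le_sup_right (by
    rintro _ ⟨j, hj, rfl⟩
    exact mul_mem (mul_mem (mem_sup_left (mem_sup_left (mem_zpowers _))) (mem_sup_right hj))
      (inv_mem (mem_sup_left (mem_sup_left (mem_zpowers _)))))
  set K := closure {g : G | g ∈ Xg ∧ Odd (orderOf g)} with hK
  have hKX : K ≤ Xg := (closure_le _).2 fun g hg => hg.1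
  have hKD : K ≤ D := (closure_le _).2 fun g hg => odd_mem_of_sup hJp hJD (hXDJ hg.1) hg.2
  have hgen : closure {g : G | g ∈ K ∧ Odd (orderOf g)} = K := by
    refine le_antisymm ((closure_le _).2 fun g hg => hg.1) ?_
    conv_lhs => rw [hK]
    exact closure_mono fun g hg => ⟨subset_closure hg, hg.2⟩
  have hKnorm : ∀ x, x ∈ normalizer (Xg : Set G) → ∀ k ∈ K, x * k * x⁻¹ ∈ K := by
    intro x hx k hk
    have hle : K ≤ K.comap (MulAut.conj x).toMonoidHom := (closure_le _).2 fun g hg => by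
      refine subset_closure ⟨LocalBasics.conj_mem_of_le_normalizer le_rfl hx hg.1, ?_⟩
      rw [orderOf_injective _ (MulAut.conj x).injective]
      exact hg.2
    exact hle hk
  have hJK : J ≤ normalizer (K : Set G) := LocalBasics.le_normalizer_of_conj fun j hj =>
    hKnorm j (le_normalizer (mem_sup_left hj))
  have hTJ : T ≤ normalizer (J : Set G) := le_normalizer.trans thompson_normalizer
  have hQX : Q ≤ normalizer (Xg : Set G) := by
    refine LocalBasics.le_normalizer_of_conj fun q hq x hx => ?_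
    have hle : Xg ≤ Xg.comap (MulAut.conj q).toMonoidHom := by
      refine sup_le (fun j hj => mem_sup_left
        (LocalBasics.conj_mem_of_le_normalizer hTJ (h.Q_le_T hq) hj)) ?_
      rintro _ ⟨j, hj, rfl⟩
      have h1 : (z : G)⁻¹ * q * (z : G)⁻¹⁻¹ ∈ T :=
        h.Q_le_T (LocalBasics.conj_mem_of_le_normalizer (le_norm_Q L) (inv_mem z.2) hq)
      refine mem_sup_right ⟨_, LocalBasics.conj_mem_of_le_normalizer hTJ h1 hj, ?_⟩
      simp [mul_assoc]
    exact hle hx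
  have hQK : Q ≤ normalizer (K : Set G) := LocalBasics.le_normalizer_of_conj fun q hq =>
    hKnorm q (hQX hq)
  -- an element of odd order of `K` outside the kernel
  set c : ↥L := z * j₀ * z⁻¹ * j₀⁻¹ with hc
  have hcX : (c : G) ∈ Xg := by
    show (z : G) * j₀ * (z : G)⁻¹ * (j₀ : G)⁻¹ ∈ Xg
    exact mul_mem (mem_sup_right ⟨j₀, hj₀, rfl⟩) (inv_mem (mem_sup_left hj₀))
  have hπc : π L c = f * f := by
    rw [hc, map_mul, map_mul, map_mul, map_inv, map_inv, hπz, hπ,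
      show f * t * f⁻¹ * t⁻¹ = f * (t * f * t⁻¹)⁻¹ by group, hl.inv.inv, inv_inv]
  obtain ⟨e, m, hm, hn⟩ := Nat.exists_eq_two_pow_mul_odd (orderOf_pos c).ne'
  set k : ↥L := c ^ 2 ^ e with hk
  have hkodd : Odd (orderOf (k : G)) := by
    rw [orderOf_coe]
    refine hm.of_dvd_nat (orderOf_dvd_of_pow_eq_one ?_)
    rw [hk, ← pow_mul, ← hn, pow_orderOf_eq_one]
  have hkK : (k : G) ∈ K := subset_closure ⟨by rw [hk, coe_pow]; exact pow_mem hcX _, hkodd⟩
  have hπk : π L k = f ∨ π L k = f⁻¹ := by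
    have h1 : π L k ∈ zpowers f := by
      rw [hk, map_pow, hπc]; exact pow_mem (mul_mem (mem_zpowers f) (mem_zpowers f)) _
    rcases zpowers_cases hf3 h1 with q | q
    · exfalso
      rw [hk, map_pow, hπc] at q
      have h2 : orderOf (f * f) ∣ 2 ^ e := orderOf_dvd_of_pow_eq_one q
      have h3 : orderOf (f * f) ∣ 3 := orderOf_dvd_of_pow_eq_one (by
        rw [← pow_two, ← pow_mul, mul_comm, pow_mul, hf3, one_pow])
      have h4 : f * f = 1 := orderOf_eq_one_iff.1 (Nat.eq_one_of_dvd_coprimes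
        (Nat.Coprime.pow_right e (by norm_num : Nat.Coprime 3 2)) h3 h2)
      exact hl.inv.ne (by
        calc f = f ^ 3 * (f * f)⁻¹ := by group
          _ = 1 := by rw [hf3, h4]; simp)
    · exact q
  have hkz : qm L k ∈ zpowers (qm L z) := (hDmem k).1 (hKD hkK)
  have hk1 : qm L k ≠ 1 := by
    intro q
    have := (π_eq_one_iff L k).2 (Q_le_Ker L ((qm_eq_one L k).1 q))
    rcases hπk with r | r <;> rw [r] at this
    · exact hl.inv.ne this
    · exact hl.inv.ne (inv_eq_one.1 this)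
  have hZ3 : qm L z ^ 3 = 1 := by rw [← map_pow, qm_eq_one]; exact hz3
  have hzk : qm L z ∈ zpowers (qm L k) := by
    rcases zpowers_cases hZ3 hkz with q | q | q
    · exact absurd q hk1
    · rw [q]; exact mem_zpowers _
    · rw [q]; exact ⟨-1, by simp⟩
  -- `z ∈ K Q`
  have hzKQ : ∃ k' ∈ K, ∃ q ∈ Q, (z : G) = k' * q := by
    obtain ⟨i, hi⟩ := mem_zpowers_iff.1 hzk
    refine ⟨(k : G) ^ i, zpow_mem hkK i, ((k ^ i)⁻¹ * z : ↥L).1, ?_, by simp⟩
    exact (qm_eq_one L _).1 (by rw [map_mul, map_inv, map_zpow, hi, inv_mul_cancel])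
  obtain ⟨k', hk', q', hq', hzeq⟩ := hzKQ
  have hJzle : ∀ x ∈ Jz, ∃ j ∈ J, x = k' * j * k'⁻¹ := by
    rintro _ ⟨j, hj, rfl⟩
    refine ⟨q' * j * q'⁻¹, LocalBasics.conj_mem_of_le_normalizer hTJ (h.Q_le_T hq') hj, ?_⟩
    show (z : G) * j * (z : G)⁻¹ = _
    rw [hzeq]; group
  have hcomm : ⁅K, J⁆ = K := by
    have hle : ⁅K, J⁆ ≤ K := commutator_le.2 fun x hx j hj => by
      rw [commutatorElement_def, mul_assoc x, mul_assoc]
      exact mul_mem hx (LocalBasics.conj_mem_of_le_normalizer hJK hj (inv_mem hx))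
    refine le_antisymm hle ?_
    have hXle : Xg ≤ ⁅K, J⁆ ⊔ J := sup_le le_sup_right fun x hx => by
      obtain ⟨j, hj, rfl⟩ := hJzle x hx
      rw [show k' * j * k'⁻¹ = ⁅k', j⁆ * j by simp only [commutatorElement_def]; group]
      exact mul_mem (mem_sup_left (commutator_mem_commutator hk' hj)) (mem_sup_right hj)
    exact (closure_le _).2 fun g hg => odd_mem_of_sup hJp (le_normalizer_comm K J) (hXle hg.1) hg.2
  -- the 2-core
  have hKL : K ≤ L := hKD.trans hDL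
  have hQKindex : Q.relIndex K = 3 := by
    have e1 : (K.subgroupOf L).map (qm L) = zpowers (qm L z) := by
      refine le_antisymm ?_ (zpowers_le.2 ?_)
      · rintro _ ⟨x, hx, rfl⟩
        exact (hDmem x).1 (hKD hx)
      · obtain ⟨i, hi⟩ := mem_zpowers_iff.1 hzk
        exact ⟨k ^ i, by simpa using zpow_mem (mem_subgroupOf.2 hkK : k ∈ K.subgroupOf L) i,
          by rw [map_zpow, hi]⟩
    have e2 := relIndex_ker (K := K.subgroupOf L) (qm L)
    rw [QuotientGroup.ker_mk', e1, Nat.card_zpowers] at e2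
    rw [show Q.relIndex K = (Qs L).relIndex (K.subgroupOf L) by
      rw [Qs, relIndex_subgroupOf hKL], e2]
    refine orderOf_eq_prime hZ3 fun q => hk1 ?_
    rw [q, zpowers_one_eq_bot, mem_bot] at hkz
    exact hkz
  have hcore : Q ⊓ K = Cfsg.pCoreOf 2 K := by
    have hle : Q ⊓ K ≤ Cfsg.pCoreOf 2 K := LocalBasics.le_pCoreOf inf_le_right
      (LocalBasics.le_normalizer_inf (hKL.trans (le_norm_Q L)) le_normalizer)
      ((LocalBasics.isPGroup_pCoreOf 2 L).to_le inf_le_left)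
    have h1 := relIndex_mul_relIndex _ _ K hle (LocalBasics.pCoreOf_le 2 K)
    rw [inf_relIndex_right, hQKindex] at h1
    rcases (Nat.dvd_prime Nat.prime_three).1 ⟨_, h1.symm⟩ with q | q
    · exact le_antisymm hle (relIndex_eq_one.1 q)
    · exfalso
      rw [q] at h1
      have h2 : K ≤ Cfsg.pCoreOf 2 K := relIndex_eq_one.1 (by omega)
      obtain ⟨n, hn'⟩ := LocalBasics.isPGroup_pCoreOf 2 K ⟨_, h2 hkK⟩
      have hn'' : (k : G) ^ 2 ^ n = 1 := congrArg Subtype.val hn'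
      have : (k : G) = 1 := orderOf_eq_one_iff.1 (Nat.eq_one_of_dvd_coprimes
        ((Nat.coprime_two_right.2 hkodd).pow_right n) dvd_rfl (orderOf_dvd_of_pow_eq_one hn''))
      exact hk1 (by rw [show k = 1 from Subtype.ext this, map_one])
  exact ⟨K, k, ⟨hgen, hJK, hcomm, hcore ▸ inf_le_left,
    by rw [← hcore, inf_relIndex_right, hQKindex], hKL⟩, hkK, hπk⟩

/-- Modulo `O₂(K)` an element of `J(T)` fixes or inverts a generator. -/
theorem pre_action {K : Subgroup G} (hp : Pre T L K) {k : G} (hk : k ∈ K)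
    (hkc : k ∉ Cfsg.pCoreOf 2 K) {j : G} (hj : j ∈ Cfsg.thompsonSubgroupOf 2 T) :
    (∃ q ∈ Cfsg.pCoreOf 2 K, j * k * j⁻¹ = k * q) ∨
      ∃ q ∈ Cfsg.pCoreOf 2 K, j * k * j⁻¹ = k⁻¹ * q := by
  set P := Cfsg.pCoreOf 2 K
  have hn : (P.subgroupOf K).Normal :=
    LocalBasics.normal_subgroupOf_of_le (LocalBasics.le_normalizer_pCoreOf 2 K)
  set x : ↥K := ⟨k, hk⟩
  set y : ↥K := ⟨j * k * j⁻¹, LocalBasics.conj_mem_of_le_normalizer hp.norm hj hk⟩
  have hcard : Nat.card (↥K ⧸ P.subgroupOf K) = 3 := hp.index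
  have hx1 : (QuotientGroup.mk x : ↥K ⧸ P.subgroupOf K) ≠ 1 := fun e =>
    hkc (mem_subgroupOf.mp ((QuotientGroup.eq_one_iff (N := P.subgroupOf K) _).mp e))
  have hy1 : (QuotientGroup.mk y : ↥K ⧸ P.subgroupOf K) ≠ 1 := by
    intro e
    have h1 : j * k * j⁻¹ ∈ P :=
      mem_subgroupOf.mp ((QuotientGroup.eq_one_iff (N := P.subgroupOf K) _).mp e)
    have h2 := LocalBasics.conj_mem_of_le_normalizer
      (hp.norm.trans (JCompBase.normalizer_le_pCoreOf 2 K)) (inv_mem hj) h1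
    exact hkc (by simpa [mul_assoc] using h2)
  have : Fact (Nat.Prime 3) := ⟨Nat.prime_three⟩
  obtain ⟨i, hi⟩ := (Submonoid.mem_powers_iff _ _).mp
    (mem_powers_of_prime_card hcard hx1 (g' := (QuotientGroup.mk y : ↥K ⧸ P.subgroupOf K)))
  have h3 : (QuotientGroup.mk x : ↥K ⧸ P.subgroupOf K) ^ 3 = 1 := hcard ▸ pow_card_eq_one'
  have hmem : ∀ w : ↥K, (QuotientGroup.mk w : ↥K ⧸ P.subgroupOf K) = QuotientGroup.mk y →
      (w : G)⁻¹ * (j * k * j⁻¹) ∈ P := fun w e => by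
    simpa [mem_subgroupOf] using QuotientGroup.eq.mp e
  rw [← Nat.mod_add_div i 3, pow_add, pow_mul, h3, one_pow, mul_one] at hi
  obtain q | q | q : i % 3 = 0 ∨ i % 3 = 1 ∨ i % 3 = 2 := by omega
  · rw [q, pow_zero] at hi; exact absurd hi.symm hy1
  · rw [q, pow_one] at hi
    exact Or.inl ⟨_, hmem x hi, by show _ = k * (k⁻¹ * _); group⟩
  · rw [q] at hi
    have e : (QuotientGroup.mk x : ↥K ⧸ P.subgroupOf K) ^ 2 = QuotientGroup.mk x⁻¹ := by
      rw [QuotientGroup.mk_inv]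
      refine (inv_eq_of_mul_eq_one_right ?_).symm
      rw [← pow_succ', h3]
    exact Or.inr ⟨_, hmem x⁻¹ (e.symm.trans hi), by show _ = k⁻¹ * (k⁻¹⁻¹ * _); group⟩

/-- The order of `W_K`. -/
theorem pre_card (h : Std T L) {K : Subgroup G} (hp : Pre T L K) {t v₀ : X L} {k₀ : ↥L}
    (hk₀ : (k₀ : G) ∈ K) (hl : IsLine L t v₀ (π L k₀)) :
    Nat.card ↥(Cfsg.wOf K) = 4 ∧ ∀ w ∈ Cfsg.wOf K, w * w = 1 := by
  classical
  set k := (k₀ : G) with hkdef
  set g := π L k₀ with hg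
  set J := Cfsg.thompsonSubgroupOf 2 T with hJdef
  set P := Cfsg.pCoreOf 2 K with hP
  set Ω := Cfsg.omegaCenterOf P with hΩdef
  set W' := Cfsg.wOf K with hW'
  set S := ((W (Vx L) g).comap (ι L)).map (Vq L).subtype with hS
  have hSW : S ≤ W' := W_le_wOf h hp.le hp.norm hp.comm hp.core hk₀ hl
  have hJT : J ≤ T := Offenders.thompsonOf_le T
  have hKΩ : K ≤ normalizer (Ω : Set G) :=
    (LocalBasics.le_normalizer_pCoreOf 2 K).trans (JCompBase.normalizer_le_omegaCenter _)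
  have hW'Ω : W' ≤ Ω := commutator_le.mpr fun v hv x hx => by
    rw [commutatorElement_def, mul_assoc, mul_assoc, ← mul_assoc x]
    exact mul_mem hv (LocalBasics.conj_mem_of_le_normalizer hKΩ hx (inv_mem hv))
  have hΩP : Ω ≤ P ⊓ centralizer (P : Set G) := Offenders.omegaOne_le _
  have hΩea : IsElementaryAbelian 2 Ω := Offenders.omegaOne_ea fun x hx y hy => hy.2 x hx.1
  have hΩc := ((Offenders.ea_iff Ω).1 hΩea).1
  have hΩ2 : ∀ v ∈ Ω, v * v = 1 := fun v hv => by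
    rw [← pow_two]; exact ((Offenders.ea_iff Ω).1 hΩea).2 v hv
  have hinvΩ : ∀ v ∈ Ω, v⁻¹ = v := fun v hv => inv_eq_of_mul_eq_one_right (hΩ2 v hv)
  have hkW' : ∀ x ∈ K, ∀ w ∈ W', x * w * x⁻¹ ∈ W' := fun x hx w hw =>
    LocalBasics.conj_mem_of_le_normalizer (normalizer_le_wOf K) (le_normalizer hx) hw
  have hPfix : ∀ q ∈ P, ∀ w ∈ Ω, q * w * q⁻¹ = w := fun q hq w hw => by
    rw [(hΩP hw).2 q hq, mul_inv_cancel_right]
  have hW'T : W' ≤ T := (hW'Ω.trans (hΩP.trans inf_le_left)).trans (hp.core.trans h.Q_le_T)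
  have hg3 : g ^ 3 = 1 := (ctx h).pow_three hl.tv hl.inv
  have hkc : k ∉ P := fun e => hl.inv.ne ((π_eq_one_iff L k₀).2 (Q_le_Ker L (hp.core e)))
  -- the action of `k` on `Ω` has cube one
  have hk3 : k ^ 3 ∈ P := by
    have : (P.subgroupOf K).Normal :=
      LocalBasics.normal_subgroupOf_of_le (LocalBasics.le_normalizer_pCoreOf 2 K)
    have h1 := pow_index_mem (P.subgroupOf K) ⟨k, hk₀⟩
    rw [show (P.subgroupOf K).index = 3 from hp.index] at h1
    simpa [mem_subgroupOf] using h1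
  set σ : G → G := fun x => k * x * k⁻¹ with hσ
  have hσΩ : ∀ x ∈ Ω, σ x ∈ Ω := fun x hx => LocalBasics.conj_mem_of_le_normalizer hKΩ hk₀ hx
  have hσ3 : ∀ x ∈ Ω, σ (σ (σ x)) = x := fun x hx => by
    have := hPfix _ hk3 x hx
    rw [pow_three] at this
    simpa [σ, mul_assoc] using this
  have hσmul : ∀ x y, σ (x * y) = σ x * σ y := fun x y => by simp [σ, mul_assoc]
  -- no nontrivial fixed point in `W'`
  have hfpf : ∀ w ∈ W', σ w = w → w = 1 := by
    let ψ : G → G := fun x => x * σ x * σ (σ x)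
    have hψσ : ∀ x ∈ Ω, ψ (σ x) = ψ x := fun x hx => by
      show σ x * σ (σ x) * σ (σ (σ x)) = x * σ x * σ (σ x)
      calc σ x * σ (σ x) * σ (σ (σ x)) = (σ x * σ (σ x)) * x := by rw [hσ3 x hx]
        _ = x * (σ x * σ (σ x)) := hΩc _ (mul_mem (hσΩ x hx) (hσΩ _ (hσΩ x hx))) x hx
        _ = _ := (mul_assoc _ _ _).symm
    have hψmul : ∀ x ∈ Ω, ∀ y ∈ Ω, ψ (x * y) = ψ x * ψ y := fun x hx y hy => by
      show x * y * σ (x * y) * σ (σ (x * y)) = (x * σ x * σ (σ x)) * (y * σ y * σ (σ y))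
      have c1 : Commute y (σ x) := hΩc y hy _ (hσΩ x hx)
      have c2 : Commute (y * σ y) (σ (σ x)) :=
        hΩc _ (mul_mem hy (hσΩ y hy)) _ (hσΩ _ (hσΩ x hx))
      rw [hσmul, hσmul]
      calc x * y * (σ x * σ y) * (σ (σ x) * σ (σ y))
          = x * (y * σ x) * σ y * (σ (σ x) * σ (σ y)) := by group
        _ = x * σ x * ((y * σ y) * σ (σ x)) * σ (σ y) := by rw [c1.eq]; group
        _ = _ := by rw [c2.eq]; group
    let Nk : Subgroup G :=
      { carrier := {x | x ∈ Ω ∧ ψ x = 1}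
        one_mem' := ⟨one_mem Ω, by simp [ψ, σ]⟩
        mul_mem' := fun {a b} ha hb => ⟨mul_mem ha.1 hb.1, by rw [hψmul a ha.1 b hb.1, ha.2, hb.2, one_mul]⟩
        inv_mem' := fun {a} ha => by rw [hinvΩ a ha.1]; exact ha }
    have hker : W' ≤ Nk := commutator_le.2 fun v hv x hx => by
      have hvi := inv_mem hv
      have hmem : ⁅v, x⁆ = v * (x * v⁻¹ * x⁻¹) := by simp only [commutatorElement_def]; group
      have hcon := LocalBasics.conj_mem_of_le_normalizer hKΩ hx hvi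
      refine ⟨by rw [hmem]; exact mul_mem hv hcon, ?_⟩
      rw [hmem, hψmul v hv _ hcon]
      have hψpow : ∀ i : ℕ, ψ (k ^ i * v⁻¹ * (k ^ i)⁻¹) = ψ v⁻¹ := by
        intro i
        induction i with
        | zero => simp
        | succ i ih =>
          rw [show k ^ (i + 1) * v⁻¹ * (k ^ (i + 1))⁻¹ = σ (k ^ i * v⁻¹ * (k ^ i)⁻¹) by
            rw [pow_succ']; simp [σ, mul_assoc],
            hψσ _ (LocalBasics.conj_mem_of_le_normalizer hKΩ (pow_mem hk₀ i) hvi), ih]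
      have : (P.subgroupOf K).Normal :=
        LocalBasics.normal_subgroupOf_of_le (LocalBasics.le_normalizer_pCoreOf 2 K)
      have : Fact (Nat.Prime 3) := ⟨Nat.prime_three⟩
      have hx1 : (QuotientGroup.mk ⟨k, hk₀⟩ : ↥K ⧸ P.subgroupOf K) ≠ 1 := fun e =>
        hkc (mem_subgroupOf.mp ((QuotientGroup.eq_one_iff (N := P.subgroupOf K) _).mp e))
      obtain ⟨i, hi⟩ := (Submonoid.mem_powers_iff _ _).mp
        (mem_powers_of_prime_card (hp.index : Nat.card (↥K ⧸ P.subgroupOf K) = 3) hx1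
          (g' := (QuotientGroup.mk ⟨x, hx⟩ : ↥K ⧸ P.subgroupOf K)))
      rw [← QuotientGroup.mk_pow] at hi
      have hq : (k ^ i)⁻¹ * x ∈ P := by simpa [mem_subgroupOf] using QuotientGroup.eq.mp hi
      rw [show x * v⁻¹ * x⁻¹ = k ^ i * (((k ^ i)⁻¹ * x) * v⁻¹ * ((k ^ i)⁻¹ * x)⁻¹) * (k ^ i)⁻¹ by group,
        hPfix _ hq _ hvi, hψpow i, ← hψmul v hv _ hvi, mul_inv_cancel]
      simp [ψ, σ]
    intro w hw hfix
    have h1 : w * σ w * σ (σ w) = 1 := (hker hw).2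
    rw [hfix, hfix, hΩ2 w (hW'Ω hw), one_mul] at h1
    exact h1
  -- `S`
  have hι : ∀ s : ↥(Vq L), (s : G) ∈ S ↔ ι L s ∈ W (Vx L) g := by
    intro s
    exact ⟨fun ⟨s', hs', e⟩ => by rwa [← (Subtype.ext e : s' = s)], fun hs => ⟨s, hs, rfl⟩⟩
  have hSσ : ∀ s ∈ S, σ s ∈ S := by
    rintro _ ⟨s, hs, rfl⟩
    refine ⟨⟨(k₀ : G) * s * (k₀ : G)⁻¹,
      LocalBasics.conj_mem_of_le_normalizer (le_norm_V L) k₀.2 s.2⟩, ?_, rfl⟩
    show ι L _ ∈ W (Vx L) g
    rw [← conj_ι L k₀ s]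
    exact (ctx h).W_comm_mem ⟨k₀, rfl⟩ rfl hs
  have hSJ : ∀ j ∈ J, ∀ s ∈ S, j * s * j⁻¹ ∈ S := by
    rintro j hj _ ⟨s, hs, rfl⟩
    have hjL : j ∈ L := h.T_le (hJT hj)
    refine ⟨⟨_, LocalBasics.conj_mem_of_le_normalizer (le_norm_V L) hjL s.2⟩, ?_, rfl⟩
    show ι L _ ∈ W (Vx L) g
    rw [← conj_ι L ⟨j, hjL⟩ s]
    have h1 := (ctx h).W_conj (f := g) (⟨⟨j, hjL⟩, rfl⟩ : π L ⟨j, hjL⟩ ∈ Hx L) hs
    rwa [JCompSubnormal.W_inv (ctx h) hl.tv hl.inv
      ((ctx h).Gtv_normalizes hl.tv hl.inv hl.mem (J_gtv h (j := ⟨j, hjL⟩) hj))] at h1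
  have hScard : Nat.card ↥S = 4 := by
    rw [hS, card_map_of_injective (Vq L).subtype_injective,
      ← card_map_of_injective (H := X L) (f := ι L) (ι_injective L),
      map_comap_eq_self ((ctx h).W_le hl.inv.mem), (ctx h).W_card hl.tv hl.inv]
  have hSm : ∀ s ∈ S, ∃ s' ∈ S, s'⁻¹ * σ s' = s := by
    set φ : ↥S → ↥S := fun s => ⟨(s : G)⁻¹ * σ s, mul_mem (inv_mem s.2) (hSσ _ s.2)⟩
    have hinj : Function.Injective φ := by
      intro a b e
      have e' : (a : G)⁻¹ * σ a = (b : G)⁻¹ * σ b := congrArg Subtype.val e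
      refine Subtype.ext (mul_inv_eq_one.1 (hfpf _ (hSW (mul_mem a.2 (inv_mem b.2))) ?_))
      have h1 : σ a = (a : G) * (b : G)⁻¹ * σ b := by
        calc σ a = (a : G) * ((a : G)⁻¹ * σ a) := by group
          _ = _ := by rw [e']; group
      calc σ ((a : G) * (b : G)⁻¹) = σ a * (σ b)⁻¹ := by simp [σ, mul_assoc]
        _ = _ := by rw [h1]; group
    intro s hs
    obtain ⟨s', e⟩ := (hinj.bijective_of_nat_card_le le_rfl).2 ⟨s, hs⟩
    exact ⟨s', s'.2, congrArg Subtype.val e⟩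
  -- an element fixed modulo `S` lies in `S`
  have hmodS : ∀ x ∈ W', x⁻¹ * σ x ∈ S → x ∈ S := by
    intro x hx hs
    obtain ⟨s', hs', e⟩ := hSm _ hs
    have hfix : σ (x * s'⁻¹) = x * s'⁻¹ := by
      calc σ (x * s'⁻¹) = σ x * (σ s')⁻¹ := by simp [σ, mul_assoc]
        _ = x * (x⁻¹ * σ x) * (σ s')⁻¹ := by group
        _ = x * (s'⁻¹ * σ s') * (σ s')⁻¹ := by rw [e]
        _ = _ := by group
    have := hfpf _ (mul_mem hx (inv_mem (hSW hs'))) hfix
    rwa [mul_inv_eq_one.1 this]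
  have hSne : ∃ s ∈ S, s ≠ 1 := by
    by_contra hno
    push Not at hno
    rw [(eq_bot_iff_forall _).2 hno, card_bot] at hScard
    omega
  refine ⟨?_, fun w hw => hΩ2 w (hW'Ω hw)⟩
  suffices W' ≤ S by rw [le_antisymm this hSW, hScard]
  by_contra hcon
  -- a largest elementary abelian subgroup not centralising `S`
  obtain ⟨A, hA, a, ha, haS⟩ : ∃ A, Offenders.IsMaxIn 2 T A ∧ ∃ a ∈ A, a ∉ centralizer (S : Set G) := by
    by_contra hall
    push Not at hall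
    have hJS : J ≤ centralizer (S : Set G) := by
      rw [hJdef, Offenders.thompsonOf_eq]
      exact sSup_le fun A hA x hx => hall A hA x hx
    obtain ⟨s, hs, hs1⟩ := hSne
    refine hs1 (hfpf s (hSW hs) ?_)
    have hnS : K ≤ normalizer (S : Set G) := by
      intro x hx
      refine mem_normalizer_of_map_eq (eq_of_le_of_card_ge ?_
        (card_map_of_injective (MulAut.conj x).injective).ge)
      rintro _ ⟨w, hw, rfl⟩
      show x * w * x⁻¹ ∈ S
      have : (P.subgroupOf K).Normal :=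
        LocalBasics.normal_subgroupOf_of_le (LocalBasics.le_normalizer_pCoreOf 2 K)
      have : Fact (Nat.Prime 3) := ⟨Nat.prime_three⟩
      have hx1 : (QuotientGroup.mk ⟨k, hk₀⟩ : ↥K ⧸ P.subgroupOf K) ≠ 1 := fun e =>
        hkc (mem_subgroupOf.mp ((QuotientGroup.eq_one_iff (N := P.subgroupOf K) _).mp e))
      obtain ⟨i, hi⟩ := (Submonoid.mem_powers_iff _ _).mp
        (mem_powers_of_prime_card (hp.index : Nat.card (↥K ⧸ P.subgroupOf K) = 3) hx1
          (g' := (QuotientGroup.mk ⟨x, hx⟩ : ↥K ⧸ P.subgroupOf K)))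
      rw [← QuotientGroup.mk_pow] at hi
      have hq : (k ^ i)⁻¹ * x ∈ P := by simpa [mem_subgroupOf] using QuotientGroup.eq.mp hi
      rw [show x * w * x⁻¹ = k ^ i * (((k ^ i)⁻¹ * x) * w * ((k ^ i)⁻¹ * x)⁻¹) * (k ^ i)⁻¹ by group,
        hPfix _ hq _ (hW'Ω (hSW hw))]
      clear hi hq
      induction i with
      | zero => simpa using hw
      | succ i ih =>
        rw [show k ^ (i + 1) * w * (k ^ (i + 1))⁻¹ = σ (k ^ i * w * (k ^ i)⁻¹) by
          rw [pow_succ']; simp [σ, mul_assoc]]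
        exact hSσ _ ih
    have hcs : ⁅K, J⁆ ≤ centralizer (S : Set G) := commutator_le.2 fun x hx j hj => by
      rw [commutatorElement_def]
      exact mul_mem (LocalBasics.conj_mem_of_le_normalizer
        (LocalBasics.le_normalizer_centralizer hnS) hx (hJS hj)) (inv_mem (hJS hj))
    show k * s * k⁻¹ = s
    rw [← hcs (hp.comm.ge hk₀) s hs, mul_inv_cancel_right]
  obtain ⟨hAT, hAe, hAmax⟩ := hA
  have hAJ : A ≤ J := maxIn_le_thompson ⟨hAT, hAe, hAmax⟩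
  have hAc := ((Offenders.ea_iff A).1 hAe).1
  have hA2 : ∀ x ∈ A, x * x = 1 := fun x hx => by
    rw [← pow_two]; exact ((Offenders.ea_iff A).1 hAe).2 x hx
  set B := A ⊓ centralizer (S : Set G) with hB
  -- the two types of action
  have hcent_of : ∀ x ∈ J, (∃ q ∈ P, x * k * x⁻¹ = k * q) → x ∈ centralizer (S : Set G) := by
    intro x hx ⟨q, hq, e⟩
    have hxL : x ∈ L := h.T_le (hJT hx)
    set xx : ↥L := ⟨x, hxL⟩
    obtain ⟨n, hn⟩ := (h.tp.to_le hJT) ⟨x, hx⟩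
    have hxn : π L xx ^ 2 ^ n = 1 := by
      have hv : x ^ 2 ^ n = 1 := congrArg Subtype.val hn
      rw [← map_pow, show xx ^ 2 ^ n = 1 from Subtype.ext hv, map_one]
    have hcomm : π L xx * g = g * π L xx := by
      have hqL : q ∈ L := hp.le (LocalBasics.pCoreOf_le 2 K hq)
      have e' : xx * k₀ * xx⁻¹ = k₀ * ⟨q, hqL⟩ := Subtype.ext e
      have := congrArg (π L) e'
      rw [map_mul, map_mul, map_mul, map_inv, (π_eq_one_iff L ⟨q, hqL⟩).2 (Q_le_Ker L (hp.core hq)),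
        mul_one] at this
      exact mul_inv_eq_iff_eq_mul.1 this
    rintro _ ⟨s, hs, rfl⟩
    have h1 := JCompSubnormal.two_fix (ctx h) hl.tv hl.inv ⟨xx, rfl⟩ hcomm hxn _ hs
    rw [conj_ι] at h1
    exact (mul_inv_eq_iff_eq_mul.1 (congrArg Subtype.val (ι_injective L h1))).symm
  have hainv : ∃ q ∈ P, a * k * a⁻¹ = k⁻¹ * q :=
    (pre_action hp hk₀ hkc (hAJ ha)).resolve_left fun e => haS (hcent_of a (hAJ ha) e)
  have hBσ : ∀ b ∈ B, ∀ w ∈ Ω, b * σ w * b⁻¹ = σ (b * w * b⁻¹) := by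
    intro b hb w hw
    rcases pre_action hp hk₀ hkc (hAJ hb.1) with ⟨q, hq, e⟩ | ⟨q, hq, e⟩
    · have hbw : b * w * b⁻¹ ∈ Ω := LocalBasics.conj_mem_of_le_normalizer
        ((hp.norm.trans (JCompBase.normalizer_le_pCoreOf 2 K)).trans
          (JCompBase.normalizer_le_omegaCenter _)) (hAJ hb.1) hw
      calc b * σ w * b⁻¹ = (b * k * b⁻¹) * (b * w * b⁻¹) * (b * k * b⁻¹)⁻¹ := by simp [σ, mul_assoc]
        _ = k * (q * (b * w * b⁻¹) * q⁻¹) * k⁻¹ := by rw [e]; group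
        _ = σ (b * w * b⁻¹) := by rw [hPfix q hq _ hbw]
    · exfalso
      obtain ⟨s, hs, hs1⟩ := hSne
      refine hs1 (hfpf s (hSW hs) ?_)
      have hbs : ∀ u ∈ S, b * u * b⁻¹ = u := fun u hu => by
        rw [← hb.2 u hu, mul_inv_cancel_right]
      have h1 := hbs _ (hSσ s hs)
      rw [show b * σ s * b⁻¹ = (b * k * b⁻¹) * (b * s * b⁻¹) * (b * k * b⁻¹)⁻¹ by simp [σ, mul_assoc],
        e, hbs s hs] at h1
      have h2 : k⁻¹ * s * k⁻¹⁻¹ = σ s := by
        rw [← h1]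
        calc k⁻¹ * s * k⁻¹⁻¹ = k⁻¹ * (q * s * q⁻¹) * k⁻¹⁻¹ := by rw [hPfix q hq _ (hW'Ω (hSW hs))]
          _ = _ := by group
      have h3 : σ (σ s) = s := by
        rw [← h2]; simp [σ, mul_assoc]
      calc σ s = σ (σ (σ s)) := by rw [h3]
        _ = s := hσ3 s (hW'Ω (hSW hs))
  have haσ : ∀ w ∈ Ω, a * σ w * a⁻¹ = σ (σ (a * w * a⁻¹)) := by
    intro w hw
    obtain ⟨q, hq, e⟩ := hainv
    have haw : a * w * a⁻¹ ∈ Ω := LocalBasics.conj_mem_of_le_normalizer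
      ((hp.norm.trans (JCompBase.normalizer_le_pCoreOf 2 K)).trans
        (JCompBase.normalizer_le_omegaCenter _)) (hAJ ha) hw
    have h1 : a * σ w * a⁻¹ = k⁻¹ * (a * w * a⁻¹) * k⁻¹⁻¹ := by
      calc a * σ w * a⁻¹ = (a * k * a⁻¹) * (a * w * a⁻¹) * (a * k * a⁻¹)⁻¹ := by simp [σ, mul_assoc]
        _ = k⁻¹ * (q * (a * w * a⁻¹) * q⁻¹) * k⁻¹⁻¹ := by rw [e]; group
        _ = _ := by rw [hPfix q hq _ haw]
    rw [h1]
    have h2 := hσ3 _ haw
    conv_lhs => rw [← h2]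
    simp [σ, mul_assoc]
  -- `|A| ≤ 2 |B|`
  have hBA : B ≤ A := inf_le_left
  have haB : a ∉ B := fun e => haS e.2
  have hdiff : ∀ x ∈ A, x ∉ B → x * a ∈ B := by
    intro x hx hxB
    refine ⟨mul_mem hx ha, hcent_of _ (hAJ (mul_mem hx ha)) ?_⟩
    obtain ⟨q, hq, e⟩ := hainv
    obtain ⟨r, hr, er⟩ := (pre_action hp hk₀ hkc (hAJ hx)).resolve_left fun er =>
      hxB ⟨hx, hcent_of x (hAJ hx) er⟩
    have hn : J ≤ normalizer (P : Set G) := hp.norm.trans (JCompBase.normalizer_le_pCoreOf 2 K)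
    refine ⟨k⁻¹ * r⁻¹ * k * (x * q * x⁻¹), ?_, ?_⟩
    · exact mul_mem (by
        have := LocalBasics.conj_mem_of_le_normalizer (LocalBasics.le_normalizer_pCoreOf 2 K)
          (inv_mem hk₀) (inv_mem hr)
        simpa using this) (LocalBasics.conj_mem_of_le_normalizer hn (hAJ hx) hq)
    · calc x * a * k * (x * a)⁻¹ = x * (a * k * a⁻¹) * x⁻¹ := by group
        _ = (x * k * x⁻¹)⁻¹ * (x * q * x⁻¹) := by rw [e]; group
        _ = _ := by rw [er]; group
  have hcardA : Nat.card A = 2 * Nat.card B := by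
    have hidx : (B.subgroupOf A).index = 2 := index_eq_two_iff.2 ⟨⟨a, ha⟩, fun b => by
      by_cases hb : (b : G) ∈ B
      · refine Or.inr ⟨mem_subgroupOf.2 hb, fun e => haB ?_⟩
        have h1 : (b : G) * a ∈ B := mem_subgroupOf.1 e
        have := mul_mem (inv_mem hb) h1
        rwa [inv_mul_cancel_left] at this
      · exact Or.inl ⟨mem_subgroupOf.2 (hdiff b b.2 hb), fun e => hb (mem_subgroupOf.1 e)⟩⟩
    rw [← card_mul_index (B.subgroupOf A), hidx,
      Nat.card_congr (subgroupOfEquivOfLe hBA).toEquiv, mul_comm]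
  set M₀ := B ⊔ S with hM₀
  have hM₀T : M₀ ≤ T := sup_le (hBA.trans hAT) (hSW.trans hW'T)
  have hSea : IsElementaryAbelian 2 S := Offenders.ea_mono hΩea (hSW.trans hW'Ω)
  have hM₀e : IsElementaryAbelian 2 M₀ := Offenders.ea_sup (Offenders.ea_mono hAe hBA) hSea
    fun b hb s hs => (hb.2 s hs).symm
  have hSnB : ¬ S ≤ B := fun hle => haS fun s hs => hAc s (hle hs).1 a ha
  have hM₀card : Nat.card A ≤ Nat.card ↥M₀ := by
    rw [hcardA]
    have hlt : B < M₀ := lt_of_le_of_ne le_sup_left fun e => hSnB (e.ge.trans' le_sup_right)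
    obtain ⟨c, hc⟩ := Subgroup.card_dvd_of_le hlt.le
    have : Nat.card B < Nat.card ↥M₀ := by
      by_contra hno
      exact hlt.ne (eq_of_le_of_card_ge hlt.le (not_lt.1 hno))
    rcases c with _ | _ | c
    · simp at hc; omega
    · simp at hc; omega
    · rw [hc]; nlinarith
  have hM₀max : ∀ D, M₀ ≤ D → D ≤ T → IsElementaryAbelian 2 D → D ≤ M₀ := fun D h1 h2 h3 =>
    (eq_of_le_of_card_ge h1 ((hAmax D h2 h3).trans hM₀card)).ge
  -- the centraliser of `B` in `W'` is `S`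
  have haS' : ∀ s ∈ S, a * s * a⁻¹ ∈ S := hSJ a (hAJ ha)
  have hW₁ : ∀ x ∈ W', (∀ b ∈ B, b * x = x * b) → x ∈ S := by
    intro x hx hxB
    have hcen : ∀ y ∈ W', (∀ b ∈ B, b * y = y * b) → (a * y * a⁻¹)⁻¹ * y ∈ S ∧ y ∈ M₀ := by
      intro y hy hyB
      have hym : y ∈ M₀ := by
        refine hM₀max (M₀ ⊔ zpowers y) le_sup_left (sup_le hM₀T (zpowers_le.2 (hW'T hy))) ?_
          (mem_sup_right (mem_zpowers y))
        refine Offenders.ea_sup hM₀e
          (Offenders.ea_zpowers (p := 2) (by rw [pow_two]; exact hΩ2 y (hW'Ω hy))) ?_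
        intro m hm c hc
        obtain ⟨i, rfl⟩ := hc
        refine (Commute.zpow_right ?_ i).eq
        have hle : M₀ ≤ centralizer ({y} : Set G) := sup_le
          (fun b hb => mem_centralizer_iff.2 fun u hu => by
            rw [Set.mem_singleton_iff.1 hu]; exact (hyB b hb).symm)
          (fun s hs => mem_centralizer_iff.2 fun u hu => by
            rw [Set.mem_singleton_iff.1 hu]; exact hΩc y (hW'Ω hy) s (hW'Ω (hSW hs)))
        exact (mem_centralizer_iff.1 (hle hm) y rfl).symm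
      refine ⟨?_, hym⟩
      rw [← SetLike.mem_coe, coe_mul_of_left_le_normalizer_right B S (fun b hb =>
        mem_normalizer_of_map_eq (eq_of_le_of_card_ge (by
          rintro _ ⟨s, hs, rfl⟩; exact hSJ b (hAJ hb.1) s hs)
          (card_map_of_injective (MulAut.conj b).injective).ge))] at hym
      obtain ⟨b, hb, s, hs, rfl⟩ := hym
      have h1 : (a * s * a⁻¹)⁻¹ * s ∈ S := mul_mem (inv_mem (haS' s hs)) hs
      convert h1 using 1
      show (a * (b * s) * a⁻¹)⁻¹ * (b * s) = (a * s * a⁻¹)⁻¹ * s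
      calc (a * (b * s) * a⁻¹)⁻¹ * (b * s)
          = (a * s * a⁻¹)⁻¹ * ((a * b * a⁻¹)⁻¹ * b) * s := by group
        _ = _ := by rw [hAc a ha b hb.1, mul_inv_cancel_right, inv_mul_cancel, mul_one]
    have hσB : ∀ b ∈ B, b * σ x = σ x * b := fun b hb => by
      refine mul_inv_eq_iff_eq_mul.1 ?_
      rw [hBσ b hb x (hW'Ω hx)]
      congr 1
      exact mul_inv_eq_iff_eq_mul.2 (hxB b hb)
    obtain ⟨h1, -⟩ := hcen x hx hxB
    obtain ⟨h2, -⟩ := hcen (σ x) (hkW' k hk₀ x hx) hσB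
    rw [haσ x (hW'Ω hx)] at h2
    -- `σ² x ≡ σ x`
    have h3 : (σ (σ x))⁻¹ * σ x ∈ S := by
      have h4 : σ (σ ((a * x * a⁻¹)⁻¹ * x)) ∈ S := hSσ _ (hSσ _ h1)
      rw [hσmul, hσmul] at h4
      have := mul_mem (inv_mem h4) h2
      rw [mul_inv_rev] at this
      convert this using 1
      simp [σ, mul_assoc]
    have h5 := hSσ _ h3
    rw [hσmul] at h5
    refine hmodS x hx ?_
    have h6 : σ ((σ (σ x))⁻¹) = x⁻¹ := by
      calc σ ((σ (σ x))⁻¹) = (σ (σ (σ x)))⁻¹ := by simp [σ, mul_assoc]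
        _ = _ := by rw [hσ3 x (hW'Ω hx)]
    rw [h6] at h5
    have h7 : σ (σ x) = σ x * (σ x⁻¹ * σ (σ x)) := by simp [σ, mul_assoc]
    have h8 := mul_mem h5 (by
      have := inv_mem h3
      rwa [mul_inv_rev, inv_inv] at this : (σ x)⁻¹ * σ (σ x) ∈ S)
    -- `h5 : x⁻¹ σ²x`, `h8 = x⁻¹ σ² x σ x⁻¹ σ² x`
    have h9 : x⁻¹ * σ (σ x) * ((σ x)⁻¹ * σ (σ x)) = x⁻¹ * σ x := by
      have hx' := hW'Ω hx
      have c1 := hσΩ _ hx'
      have c2 := hσΩ _ c1
      rw [hinvΩ x hx', hinvΩ _ c1, hΩc _ c1 _ c2, ← mul_assoc, mul_assoc x, hΩ2 _ c2, mul_one]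
    rwa [h9] at h8
  -- an element outside `S` moved by `A` into `S`
  set mA : G → G → G := fun x p => p⁻¹ * (x * p * x⁻¹) with hmA
  have hAW' : ∀ x ∈ A, ∀ p ∈ W', x * p * x⁻¹ ∈ W' := fun x hx p hp' =>
    LocalBasics.conj_mem_of_le_normalizer (normalizer_le_wOf K) (hp.norm (hAJ hx)) hp'
  obtain ⟨p, ⟨hpW, hpS⟩, hpmax⟩ := Set.exists_max_image {p : G | p ∈ W' ∧ p ∉ S}
    (fun p => {x : G | x ∈ A ∧ mA x p ∈ S}.ncard) (Set.toFinite _)
    (by obtain ⟨p, hp1, hp2⟩ := SetLike.not_le_iff_exists.1 hcon; exact ⟨p, hp1, hp2⟩)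
  have hpA : ∀ x ∈ A, mA x p ∈ S := by
    intro x hx
    by_contra hxp
    have hp' : mA x p ∈ W' := mul_mem (inv_mem hpW) (hAW' x hx p hpW)
    have hle := hpmax (mA x p) ⟨hp', hxp⟩
    have hsub : {y : G | y ∈ A ∧ mA y p ∈ S} ⊂ {y : G | y ∈ A ∧ mA y (mA x p) ∈ S} := by
      refine ⟨fun y ⟨hy, hys⟩ => ⟨hy, ?_⟩, fun hsub => hxp (hsub ⟨hx, ?_⟩).2⟩
      · have h1 : mA x (mA y p) ∈ S := mul_mem (inv_mem hys) (hSJ x (hAJ hx) _ hys)
        have e : mA y (mA x p) = mA x (mA y p) := by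
          have hpΩ := hW'Ω hpW
          have c1 := hW'Ω (hAW' x hx p hpW)
          have c2 := hW'Ω (hAW' y hy p hpW)
          show (p⁻¹ * (x * p * x⁻¹))⁻¹ * (y * (p⁻¹ * (x * p * x⁻¹)) * y⁻¹) =
            (p⁻¹ * (y * p * y⁻¹))⁻¹ * (x * (p⁻¹ * (y * p * y⁻¹)) * x⁻¹)
          have hxy : y * (x * p * x⁻¹) * y⁻¹ = x * (y * p * y⁻¹) * x⁻¹ := by
            rw [conj_conj, conj_conj, hAc x hx y hy]
          rw [show y * (p⁻¹ * (x * p * x⁻¹)) * y⁻¹ = (y * p * y⁻¹)⁻¹ * (y * (x * p * x⁻¹) * y⁻¹) by group,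
            show x * (p⁻¹ * (y * p * y⁻¹)) * x⁻¹ = (x * p * x⁻¹)⁻¹ * (x * (y * p * y⁻¹) * x⁻¹) by group,
            hxy]
          set u := x * p * x⁻¹
          set w := y * p * y⁻¹
          set r := x * w * x⁻¹
          calc (p⁻¹ * u)⁻¹ * (w⁻¹ * r) = u⁻¹ * (p * w⁻¹) * r := by group
            _ = u⁻¹ * w⁻¹ * p * r := by rw [hΩc p hpΩ _ (inv_mem c2)]; group
            _ = w⁻¹ * (u⁻¹ * p) * r := by rw [hΩc _ (inv_mem c1) _ (inv_mem c2)]; group
            _ = (p⁻¹ * w)⁻¹ * (u⁻¹ * r) := by rw [hΩc _ (inv_mem c1) p hpΩ]; group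
        rw [e]; exact h1
      · have hxi : x * x = 1 := hA2 x hx
        have hxinv : x⁻¹ = x := inv_eq_of_mul_eq_one_right hxi
        have e : mA x (mA x p) = 1 := by
          have c1 := hW'Ω (hAW' x hx p hpW)
          have hpΩ := hW'Ω hpW
          show (p⁻¹ * (x * p * x⁻¹))⁻¹ * (x * (p⁻¹ * (x * p * x⁻¹)) * x⁻¹) = 1
          rw [show x * (p⁻¹ * (x * p * x⁻¹)) * x⁻¹ = (x * p * x⁻¹)⁻¹ * ((x * x) * p * (x * x)⁻¹) by group,
            hxi, inv_mul_eq_one, hinvΩ p hpΩ, hinvΩ _ c1, inv_one, one_mul, mul_one,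
            hΩc _ hpΩ _ c1]
        rw [e]; exact one_mem S
    exact absurd hle (not_le.2 (Set.ncard_lt_ncard hsub (Set.toFinite _)))
  -- the centraliser of `p` in `B`
  set B₀ := B ⊓ centralizer ({p} : Set G) with hB₀
  have hBcS : ∀ b ∈ B, ∀ s ∈ S, b * s * b⁻¹ = s := fun b hb s hs => by
    rw [← hb.2 s hs, mul_inv_cancel_right]
  have hmb_fix : ∀ b ∈ B, a * mA b p * a⁻¹ = mA b p := by
    intro b hb
    have hs := hpA a ha
    set s := mA a p with hsdef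
    have e : a * p * a⁻¹ = p * s := by rw [hsdef]; simp [mA, mul_assoc]
    calc a * mA b p * a⁻¹ = (a * p * a⁻¹)⁻¹ * ((a * b) * p * (a * b)⁻¹) := by simp [mA, mul_assoc]
      _ = (p * s)⁻¹ * (b * (p * s) * b⁻¹) := by rw [hAc a ha b hb.1, ← e]; group
      _ = s⁻¹ * mA b p * (b * s * b⁻¹) := by simp [mA, mul_assoc]
      _ = mA b p := by
        rw [hBcS b hb s hs]
        have c1 := hW'Ω (hSW (hpA b hb.1))
        rw [mul_assoc, hΩc _ c1 s (hW'Ω (hSW hs)), ← mul_assoc, inv_mul_cancel, one_mul]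
  have hSa : ∀ s ∈ S, ∀ s' ∈ S, a * s * a⁻¹ = s → a * s' * a⁻¹ = s' → s ≠ 1 → s' ≠ 1 → s = s' := by
    intro s hs s' hs' e e' hs1 hs'1
    by_contra hne
    refine haS fun u hu => ?_
    rcases mem_four (hΩ2 _ (hW'Ω (hSW hs))) (hΩ2 _ (hW'Ω (hSW hs')))
      (hΩc _ (hW'Ω (hSW hs)) _ (hW'Ω (hSW hs')))
      (show u ∈ closure ({s, s'} : Set G) by
        have hle : closure ({s, s'} : Set G) ≤ S := (closure_le S).2 (by
          rintro y (rfl | rfl); exacts [hs, hs'])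
        have hcard : Nat.card ↥S ≤ Nat.card ↥(closure ({s, s'} : Set G)) := by
          rw [hScard]
          have m1 : s ∈ closure ({s, s'} : Set G) := subset_closure (Or.inl rfl)
          have m2 : s' ∈ closure ({s, s'} : Set G) := subset_closure (Or.inr rfl)
          have hss : s * s' ≠ 1 := fun q =>
            hne ((mul_eq_one_iff_eq_inv.1 q).trans (hinvΩ _ (hW'Ω (hSW hs'))))
          have n1 : s ≠ s * s' := fun q => hs'1 (by simpa using q)
          have n2 : s' ≠ s * s' := fun q => hs1 (by simpa using q)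
          set C₄ := closure ({s, s'} : Set G)
          have h4 : ({⟨1, one_mem _⟩, ⟨s, m1⟩, ⟨s', m2⟩, ⟨s * s', mul_mem m1 m2⟩} : Finset ↥C₄).card = 4 := by
            rw [Finset.card_insert_of_notMem, Finset.card_insert_of_notMem, Finset.card_pair]
            all_goals simp [Ne.symm hs1, Ne.symm hs'1, Ne.symm hss, hne, n1, n2]
          have : Fintype ↥C₄ := Fintype.ofFinite _
          rw [← h4, Nat.card_eq_fintype_card]
          exact Finset.card_le_univ _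
        rw [eq_of_le_of_card_ge hle hcard]; exact hu) with rfl | rfl | rfl | rfl
    · simp
    · exact (mul_inv_eq_iff_eq_mul.1 e).symm
    · exact (mul_inv_eq_iff_eq_mul.1 e').symm
    · exact ((Commute.mul_right (mul_inv_eq_iff_eq_mul.1 e : Commute a s)
        (mul_inv_eq_iff_eq_mul.1 e' : Commute a s')).eq).symm
  have hmem₀ : ∀ b ∈ B, mA b p = 1 → b ∈ B₀ := fun b hb e => ⟨hb, mem_centralizer_iff.2 fun u hu => by
    rw [Set.mem_singleton_iff.1 hu]
    exact (mul_inv_eq_iff_eq_mul.1 (inv_mul_eq_one.1 e).symm).symm⟩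
  have hcardB₀ : Nat.card B ≤ 2 * Nat.card B₀ := by
    by_cases hall : ∀ b ∈ B, mA b p = 1
    · have : B ≤ B₀ := fun b hb => hmem₀ b hb (hall b hb)
      have := Subgroup.card_le_of_le this
      omega
    push Not at hall
    obtain ⟨b₁, hb₁, hb₁p⟩ := hall
    have hidx : (B₀.subgroupOf B).index ≤ 2 := by
      refine Nat.le_of_dvd two_pos (dvd_of_eq (index_eq_two_iff.2 ⟨⟨b₁, hb₁⟩, fun b => ?_⟩))
      by_cases hb : (b : G) ∈ B₀
      · refine Or.inr ⟨mem_subgroupOf.2 hb, fun e => hb₁p ?_⟩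
        have h1 : (b : G) * b₁ ∈ B₀ := mem_subgroupOf.1 e
        have := mul_mem (inv_mem hb) h1
        rw [inv_mul_cancel_left] at this
        show p⁻¹ * (b₁ * p * b₁⁻¹) = 1
        rw [← mem_centralizer_iff.1 this.2 p rfl]; group
      · refine Or.inl ⟨mem_subgroupOf.2 ?_, fun e => hb (mem_subgroupOf.1 e)⟩
        show (b : G) * b₁ ∈ B₀
        refine hmem₀ _ (mul_mem b.2 hb₁) ?_
        have hbp : mA (b : G) p ≠ 1 := fun e => hb (hmem₀ _ b.2 e)
        have h1 := hSa _ (hpA _ b.2.1) _ (hpA _ hb₁.1) (hmb_fix _ b.2) (hmb_fix _ hb₁) hbp hb₁p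
        show p⁻¹ * ((b : G) * b₁ * p * ((b : G) * b₁)⁻¹) = 1
        calc p⁻¹ * ((b : G) * b₁ * p * ((b : G) * b₁)⁻¹)
            = mA (b : G) p * ((b : G) * mA b₁ p * (b : G)⁻¹) := by simp [mA, mul_assoc]
          _ = 1 := by
            rw [hBcS _ b.2 _ (hpA _ hb₁.1), h1]
            exact hΩ2 _ (hW'Ω (hSW (hpA _ hb₁.1)))
    calc Nat.card B = Nat.card (B₀.subgroupOf B) * (B₀.subgroupOf B).index :=
          (card_mul_index _).symm
      _ ≤ Nat.card (B₀.subgroupOf B) * 2 := Nat.mul_le_mul_left _ hidx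
      _ = 2 * Nat.card B₀ := by
          rw [mul_comm, Nat.card_congr (subgroupOfEquivOfLe inf_le_left).toEquiv]
  -- the contradiction
  set M' := B₀ ⊔ S with hM'
  set M₁ := M' ⊔ zpowers p ⊔ zpowers (σ p) with hM₁
  have hσpW : σ p ∈ W' := hkW' k hk₀ p hpW
  have hB₀c : ∀ b ∈ B₀, ∀ w ∈ S ⊔ (zpowers p ⊔ zpowers (σ p)), b * w = w * b := by
    intro b hb w hw
    have hle : S ⊔ (zpowers p ⊔ zpowers (σ p)) ≤ centralizer ({b} : Set G) := by
      refine sup_le (fun s hs => ?_) (sup_le (zpowers_le.2 ?_) (zpowers_le.2 ?_)) <;>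
        refine mem_centralizer_iff.2 fun u hu => ?_ <;> rw [Set.mem_singleton_iff.1 hu]
      · exact (hb.1.2 s hs).symm
      · exact (mem_centralizer_iff.1 hb.2 p rfl).symm
      · refine mul_inv_eq_iff_eq_mul.1 ?_
        rw [hBσ b hb.1 p (hW'Ω hpW)]
        congr 1
        exact mul_inv_eq_iff_eq_mul.2 (mem_centralizer_iff.1 hb.2 p rfl).symm
    exact mem_centralizer_iff.1 (hle hw) b rfl
  have hYW : S ⊔ (zpowers p ⊔ zpowers (σ p)) ≤ W' :=
    sup_le hSW (sup_le (zpowers_le.2 hpW) (zpowers_le.2 hσpW))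
  have hM₁eq : M₁ = B₀ ⊔ (S ⊔ (zpowers p ⊔ zpowers (σ p))) := by simp [hM₁, hM', sup_assoc]
  have hM₁le : Nat.card ↥M₁ ≤ Nat.card A := by
    refine hAmax _ ?_ ?_ <;> rw [hM₁eq]
    · exact sup_le ((inf_le_left.trans hBA).trans hAT) (hYW.trans hW'T)
    · exact Offenders.ea_sup (Offenders.ea_mono hAe (inf_le_left.trans hBA))
        (Offenders.ea_mono hΩea (hYW.trans hW'Ω)) hB₀c
  have hM'M₀ : M' ≤ M₀ := sup_le_sup_right inf_le_left S
  have hinM₀ : ∀ w ∈ W', w ∈ M₀ → w ∈ S := fun w hw hwM => hW₁ w hw fun b hb => by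
    have hle : M₀ ≤ centralizer ({b} : Set G) := sup_le
      (fun c hc => mem_centralizer_iff.2 fun u hu => by
        rw [Set.mem_singleton_iff.1 hu]; exact hAc b hb.1 c hc.1)
      (fun s hs => mem_centralizer_iff.2 fun u hu => by
        rw [Set.mem_singleton_iff.1 hu]; exact (hb.2 s hs).symm)
    exact mem_centralizer_iff.1 (hle hwM) b rfl
  have double : ∀ (D : Subgroup G) (x : G), x ∉ D → 2 * Nat.card D ≤ Nat.card ↥(D ⊔ zpowers x) := by
    intro D x hx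
    obtain ⟨c, hc⟩ := Subgroup.card_dvd_of_le (le_sup_left : D ≤ D ⊔ zpowers x)
    have hpos : 0 < Nat.card ↥(D ⊔ zpowers x) := Nat.card_pos
    rcases c with _ | _ | c
    · simp at hc; omega
    · exact absurd ((eq_of_le_of_card_ge le_sup_left (by rw [hc]; simp)).ge
        (mem_sup_right (mem_zpowers x))) hx
    · rw [hc]; nlinarith
  have h1 : 2 * Nat.card ↥M' ≤ Nat.card ↥(M' ⊔ zpowers p) :=
    double M' p fun e => hpS (hinM₀ p hpW (hM'M₀ e))
  have h2 : 2 * Nat.card ↥(M' ⊔ zpowers p) ≤ Nat.card ↥M₁ := double _ _ fun e => by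
    rw [← SetLike.mem_coe, coe_mul_of_right_le_normalizer_left M' (zpowers p) ?_] at e
    swap
    · refine zpowers_le.2 (mem_normalizer_of_map_eq (eq_of_le_of_card_ge ?_
        (card_map_of_injective (MulAut.conj p).injective).ge))
      rintro _ ⟨y, hy, rfl⟩
      have hle : M' ≤ centralizer ({p} : Set G) := sup_le inf_le_right fun s hs =>
        mem_centralizer_iff.2 fun u hu => by
          rw [Set.mem_singleton_iff.1 hu]; exact hΩc p (hW'Ω hpW) s (hW'Ω (hSW hs))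
      show p * y * p⁻¹ ∈ M'
      rw [mem_centralizer_iff.1 (hle hy) p rfl, mul_inv_cancel_right]
      exact hy
    obtain ⟨y, hy, w, hw, hyw⟩ := e
    obtain ⟨i, rfl⟩ := hw
    have hy' : y * p ^ i = σ p := hyw
    rcases Int.even_or_odd i with ⟨m, hm⟩ | ⟨m, hm⟩
    · have hpi : p ^ i = 1 := by
        rw [hm, ← two_mul, zpow_mul, show p ^ (2 : ℤ) = p * p from zpow_two p, hΩ2 p (hW'Ω hpW),
          one_zpow]
      rw [hpi, mul_one] at hy'
      refine hpS ?_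
      have h3 := hSσ _ (hSσ _ (hinM₀ _ hσpW (hM'M₀ (hy' ▸ hy))))
      rwa [hσ3 p (hW'Ω hpW)] at h3
    · have hpi : p ^ i = p := by
        rw [hm, zpow_add, zpow_mul, show p ^ (2 : ℤ) = p * p from zpow_two p, hΩ2 p (hW'Ω hpW),
          one_zpow, one_mul, zpow_one]
      rw [hpi] at hy'
      refine hpS (hmodS p hpW ?_)
      have e1 : σ p * p⁻¹ = y := by rw [← hy', mul_inv_cancel_right]
      have h3 := hinM₀ _ (mul_mem hσpW (inv_mem hpW)) (e1 ▸ hM'M₀ hy)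
      rwa [hΩc _ (hσΩ p (hW'Ω hpW)) _ (inv_mem (hW'Ω hpW))] at h3
  have h3 : Nat.card ↥M₀ ≤ 2 * Nat.card ↥M' := by
    have hc1 := OffendersReplace.card_sup_mul_card_inf B S
      (OffendersReplace.le_normalizer_of_commute fun b hb s hs => (hb.2 s hs).symm)
    have hc2 := OffendersReplace.card_sup_mul_card_inf B₀ S
      (OffendersReplace.le_normalizer_of_commute fun b hb s hs => (hb.1.2 s hs).symm)
    have hle : Nat.card ↥(B₀ ⊓ S) ≤ Nat.card ↥(B ⊓ S) :=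
      Subgroup.card_le_of_le (inf_le_inf_right S inf_le_left)
    have hpos : 0 < Nat.card ↥(B ⊓ S) := Nat.card_pos
    refine Nat.le_of_mul_le_mul_right ?_ hpos
    calc Nat.card ↥M₀ * Nat.card ↥(B ⊓ S) = Nat.card B * Nat.card S := hc1
      _ ≤ 2 * Nat.card B₀ * Nat.card S := Nat.mul_le_mul_right _ hcardB₀
      _ = 2 * (Nat.card ↥M' * Nat.card ↥(B₀ ⊓ S)) := by rw [hc2]; ring
      _ ≤ 2 * (Nat.card ↥M' * Nat.card ↥(B ⊓ S)) := by gcongr
      _ = 2 * Nat.card ↥M' * Nat.card ↥(B ⊓ S) := by ring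
  have hpos : 0 < Nat.card A := Nat.card_pos
  omega

/-- A component through a line met by `J(T)`. -/
theorem exists_component (h : Std T L) {t v₀ f : X L} (hl : IsLine L t v₀ f) (ht : t ∈ Jtv T L) :
    ∃ (K : Subgroup G) (k : ↥L), Cfsg.IsJComponent T K ∧ K ≤ L ∧ (k : G) ∈ K ∧
      (π L k = f ∨ π L k = f⁻¹) := by
  obtain ⟨K, k, hp, hk, hπk⟩ := exists_pre h hl ht
  have hl' : IsLine L t v₀ (π L k) := by
    refine ⟨hl.tv, (ctx h).inv_of_zpowers hl.tv hl.inv hπk, ?_⟩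
    rcases hπk with q | q <;> rw [q]
    exacts [hl.mem, inv_mem hl.mem]
  obtain ⟨hcard, hsq⟩ := pre_card h hp hk hl'
  refine ⟨K, k, ⟨hp.gen, hp.comm, hp.index, fun S hS hJS => ?_, hcard, hsq⟩, hp.le, hk, hπk⟩
  obtain ⟨l, -, hsub⟩ := sylowTwoIn_conj h.sylT
    (hS.1.trans (sup_le hp.le ((Offenders.thompsonOf_le T).trans h.T_le))) hS.2.1
  exact thompson_eq_of_conj hJS hsub

end Cfsg.Agent.JCompExist
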