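import Mathlib
import Cfsg.Prelude.Def_JComponents
import Cfsg.Agent.Lib.JCompExist

/-!
Maximal straddling 2-subgroups.
-/

set_option autoImplicit false

namespace Cfsg.Agent.JCompMax

open Subgroup Cfsg JCompBase JCompTV JCompCore JCompLine JCompExist

variable {G : Type*} [Group G] [Finite G]

theorem maxElem_eq {T A : Subgroup G} (hA : Offenders.IsMaxIn 2 T A) :
    Cfsg.maxElemAbelianOrder T = Nat.card A := by
  obtain ⟨hAT, hAe, hAmax⟩ := hA
  have hmem : A.subgroupOf T ∈ Cfsg.maxElementaryAbelianSubgroups 2 ↥T := by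
    refine ⟨Offenders.ea_comap hAe T.subtype T.subtype_injective, fun B hB => ?_⟩
    rw [Nat.card_congr (subgroupOfEquivOfLe hAT).toEquiv,
      ← card_map_of_injective (H := G) (f := T.subtype) T.subtype_injective]
    exact hAmax _ (map_subtype_le B) (Offenders.ea_map hB _)
  have e : (fun B : Subgroup ↥T => Nat.card ↥B) '' Cfsg.maxElementaryAbelianSubgroups 2 ↥T =
      {Nat.card A} := by
    ext n
    simp only [Set.mem_image, Set.mem_singleton_iff]
    constructor
    · rintro ⟨B, hB, rfl⟩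
      rw [Offenders.max_card_eq hB hmem, Nat.card_congr (subgroupOfEquivOfLe hAT).toEquiv]
    · rintro rfl
      exact ⟨_, hmem, Nat.card_congr (subgroupOfEquivOfLe hAT).toEquiv⟩
  rw [Cfsg.maxElemAbelianOrder, e, csSup_singleton]

theorem thompson_ne_bot {T : Subgroup G} (hT : IsPGroup 2 ↥T) (hT1 : T ≠ ⊥) :
    Cfsg.thompsonSubgroupOf 2 T ≠ ⊥ := by
  intro e
  obtain ⟨A, hA⟩ := exists_maxIn T
  have hA1 : A = ⊥ := le_bot_iff.1 (e ▸ maxIn_le_thompson hA)
  have : Nontrivial ↥T := (nontrivial_iff_ne_bot T).2 hT1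
  obtain ⟨n, hn, hcard⟩ := (hT.nontrivial_iff_card).1 this
  obtain ⟨x, hx⟩ := exists_prime_orderOf_dvd_card' (G := ↥T) 2 (hcard ▸ dvd_pow_self 2 (by omega))
  have hle := hA.2.2 (zpowers (x : G)) (zpowers_le.2 x.2)
    (Offenders.ea_zpowers (p := 2) (by
      rw [← hx, ← orderOf_coe, pow_orderOf_eq_one]))
  rw [Nat.card_zpowers, orderOf_coe, hx, hA1, card_bot] at hle
  omega

/-- A member containing `J(T)` does not exceed the maximal member `T`. -/
theorem straddle_max {M T P : Subgroup G} (hT : T ∈ Cfsg.maxStraddlingTwoSubgroups M)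
    (hP : P ∈ Cfsg.straddlingTwoSubgroups M) (hJP : Cfsg.thompsonSubgroupOf 2 T ≤ P) :
    Cfsg.thompsonSubgroupOf 2 P = Cfsg.thompsonSubgroupOf 2 T ∧ Nat.card P ≤ Nat.card T := by
  obtain ⟨A, hA⟩ := exists_maxIn T
  obtain ⟨B, hB⟩ := exists_maxIn P
  obtain ⟨h1, h2⟩ := hT.2 P hP
  have hge : Nat.card A ≤ Nat.card B := hB.2.2 A ((maxIn_le_thompson hA).trans hJP) hA.2.1
  rw [maxElem_eq hA, maxElem_eq hB] at h1 h2
  have heq : Nat.card B = Nat.card A := le_antisymm h1 hge
  obtain ⟨h3, h4⟩ := h2 heq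
  have hle := thompson_le_of_bound hJP fun C hC hCe A' hA' =>
    (hB.2.2 C hC hCe).trans (heq.le.trans (hA'.2.2 A hA.1 hA.2.1))
  have e := (eq_of_le_of_card_ge hle h3).symm
  exact ⟨e, h4 (by rw [e])⟩

theorem exists_norm_gt {T S : Subgroup G} (hS : IsPGroup 2 ↥S) (hTS : T < S) :
    T < S ⊓ normalizer (T : Set G) := by
  refine lt_of_le_of_ne (le_inf hTS.le le_normalizer) fun e => ?_
  have : Fact (Nat.Prime 2) := ⟨Nat.prime_two⟩
  have := hS.isNilpotent
  have hlt : T.subgroupOf S < ⊤ := lt_top_iff_ne_top.2 fun h =>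
    hTS.not_ge (subgroupOf_eq_top.1 h)
  have h2 := Group.normalizerCondition_of_isNilpotent (G := ↥S) _ hlt
  obtain ⟨x, hx, hxT⟩ := SetLike.exists_of_lt h2
  refine hxT ?_
  rw [mem_subgroupOf, e]
  refine ⟨x.2, mem_normalizer_iff.2 fun y => ⟨fun hy => ?_, fun hy => ?_⟩⟩
  · exact (mem_normalizer_iff.1 hx ⟨y, hTS.le hy⟩).1 hy
  · have hyS : y ∈ S := by
      have := mul_mem (mul_mem (inv_mem x.2) (hTS.le hy)) x.2
      simpa [mul_assoc] using this
    exact (mem_normalizer_iff.1 hx ⟨y, hyS⟩).2 hy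

section

variable (hc : Cfsg.IsCharacteristicTwoType G)
  (hN : ∀ N : Subgroup G, Cfsg.IsTwoLocal N → Group.IsSolvable ↥N)
  (hZ : ∀ S : Sylow 2 G, Subgroup.centralizer (Cfsg.omegaCenterOf (S : Subgroup G) : Set G) ≤
    Subgroup.normalizer ((S : Subgroup G) : Set G))
  {S : Sylow 2 G} {M T : Subgroup G}

/-- `N(J(T)) ≤ M`. -/
theorem normalizer_J_le
    (hMJ : normalizer (Cfsg.thompsonSubgroupOf 2 (S : Subgroup G) : Set G) ≤ M)
    (hT : T ∈ Cfsg.maxStraddlingTwoSubgroups M) :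
    normalizer (Cfsg.thompsonSubgroupOf 2 T : Set G) ≤ M := by
  obtain ⟨hTp, hT1, hTM, -⟩ := hT.1
  set J := Cfsg.thompsonSubgroupOf 2 T with hJdef
  have hJT : J ≤ T := Offenders.thompsonOf_le T
  by_contra hNM
  have hJ1 := thompson_ne_bot hTp hT1
  have hNloc : Cfsg.IsTwoLocal (normalizer (J : Set G)) := ⟨J, hTp.to_le hJT, hJ1, rfl⟩
  have hTN : T ≤ normalizer (J : Set G) := le_normalizer.trans thompson_normalizer
  have hnot : ∀ P : Subgroup G, IsPGroup 2 ↥P → T < P → P ≤ M → P ≤ normalizer (J : Set G) → False := by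
    intro P hP hlt hPM hPN
    have hP1 : P ≠ ⊥ := fun e => hT1 (le_bot_iff.1 (e ▸ hlt.le))
    have h1 := (straddle_max hT ⟨hP, hP1, hPM, _, hNloc, hPN, hNM⟩ (hJT.trans hlt.le)).2
    exact hlt.ne (eq_of_le_of_card_ge hlt.le h1)
  obtain ⟨S', hS', hTS'⟩ := exists_sylowTwoIn hTM hTp
  rcases hTS'.eq_or_lt with e | hlt
  · -- `T` is a Sylow subgroup of `M`
    have hSM : (S : Subgroup G) ≤ M := (le_normalizer.trans thompson_normalizer).trans hMJ
    obtain ⟨m, hm, hsub⟩ := sylowTwoIn_conj hS' hSM S.2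
    rw [← e] at hsub
    have heq := S.is_maximal' (hTp.map _) hsub
    apply hNM
    intro n hn
    have h1 : m * n * m⁻¹ ∈ normalizer (Cfsg.thompsonSubgroupOf 2 (S : Subgroup G) : Set G) := by
      rw [← heq, ← Offenders.thompsonOf_map_conj]
      refine mem_normalizer_of_map_eq (eq_of_le_of_card_ge ?_
        (card_map_of_injective (MulAut.conj (m * n * m⁻¹)).injective).ge)
      rintro _ ⟨_, ⟨x, hx, rfl⟩, rfl⟩
      exact ⟨n * x * n⁻¹, LocalBasics.conj_mem_of_le_normalizer le_rfl hn hx, by simp [mul_assoc]⟩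
    have := mul_mem (mul_mem (inv_mem hm) (hMJ h1)) hm
    simpa [mul_assoc] using this
  · exact hnot _ (hS'.2.1.to_le inf_le_left) (exists_norm_gt hS'.2.1 hlt)
      (inf_le_left.trans hS'.1) (inf_le_right.trans thompson_normalizer)

include hc hN hZ in
/-- Any 2-local subgroup outside `M` is an overgroup of its Sylow subgroups through `J(T)`. -/
theorem std_of_max
    (hMJ : normalizer (Cfsg.thompsonSubgroupOf 2 (S : Subgroup G) : Set G) ≤ M)
    (hT : T ∈ Cfsg.maxStraddlingTwoSubgroups M)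
    {L : Subgroup G} (hL : Cfsg.IsTwoLocal L) (hLM : ¬ L ≤ M) {T₀ : Subgroup G}
    (hT₀ : Cfsg.IsSylowTwoIn T₀ L) (hJT₀ : Cfsg.thompsonSubgroupOf 2 T ≤ T₀) :
    Cfsg.thompsonSubgroupOf 2 T₀ = Cfsg.thompsonSubgroupOf 2 T ∧
      T₀ ∈ Cfsg.straddlingTwoSubgroups M ∧ Std T₀ L ∧ Nat.card T₀ ≤ Nat.card T := by
  obtain ⟨hTp, hT1, hTM, -⟩ := hT.1
  set J := Cfsg.thompsonSubgroupOf 2 T with hJdef
  have hJ1 := thompson_ne_bot hTp hT1
  have hJM : J ≤ M := (Offenders.thompsonOf_le T).trans hTM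
  have hT₀1 : T₀ ≠ ⊥ := fun e => hJ1 (le_bot_iff.1 (e ▸ hJT₀))
  have hT₀M : T₀ ≤ M := by
    set T₁ := T₀ ⊓ M
    have hJT₁ : J ≤ T₁ := le_inf hJT₀ hJM
    have hstr : T₁ ∈ Cfsg.straddlingTwoSubgroups M :=
      ⟨hT₀.2.1.to_le inf_le_left, fun e => hJ1 (le_bot_iff.1 (e ▸ hJT₁)), inf_le_right,
        L, hL, inf_le_left.trans hT₀.1, hLM⟩
    have hJ₁ := (straddle_max hT hstr hJT₁).1
    by_contra hcon
    have hlt : T₁ < T₀ := lt_of_le_of_ne inf_le_left fun e => hcon (e ▸ inf_le_right)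
    have h2 := exists_norm_gt hT₀.2.1 hlt
    refine h2.not_ge (le_inf inf_le_left fun x hx => ?_)
    have := thompson_normalizer hx.2
    rw [hJ₁] at this
    exact normalizer_J_le hMJ hT this
  have hstr : T₀ ∈ Cfsg.straddlingTwoSubgroups M := ⟨hT₀.2.1, hT₀1, hT₀M, L, hL, hT₀.1, hLM⟩
  obtain ⟨hJ₀, hcard⟩ := straddle_max hT hstr hJT₀
  refine ⟨hJ₀, hstr, ⟨hc, hN, hZ, hT₀.2.1, hT₀, ?_, ?_⟩, hcard⟩
  · intro hle
    refine hLM ?_
    have hJQ : J ≤ Cfsg.pCoreOf 2 L := le_of_eq_of_le (by rw [hJdef, hJ₀]) hle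
    have hQT₀ : Cfsg.pCoreOf 2 L ≤ T₀ := le_sylowTwoIn hT₀ (LocalBasics.pCoreOf_le 2 L)
      (le_norm_Q L) (LocalBasics.isPGroup_pCoreOf 2 L)
    have he : Cfsg.thompsonSubgroupOf 2 (Cfsg.pCoreOf 2 L) = J := by
      rw [hJdef, ← hJ₀]
      exact thompson_eq_of_conj (g := 1) (hJ₀.le.trans hJQ) fun x hx => ⟨x, hQT₀ hx, by simp⟩
    have := (le_norm_Q L).trans thompson_normalizer
    rw [he] at this
    exact this.trans (normalizer_J_le hMJ hT)
  · obtain ⟨R, hRp, hR1, rfl⟩ := hL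
    intro x hx
    have hRQ : R ≤ Cfsg.pCoreOf 2 (normalizer (R : Set G)) :=
      LocalBasics.le_pCoreOf le_normalizer le_rfl hRp
    have hxL : x ∈ normalizer (R : Set G) :=
      LocalBasics.centralizer_le_normalizer _ (centralizer_le (SetLike.coe_subset_coe.2 hRQ) hx)
    have := hc.2 R hRp hR1 (x := ⟨x, hxL⟩) fun q hq => Subtype.ext (hx q ⟨q, hq, rfl⟩)
    exact ⟨⟨x, hxL⟩, this, rfl⟩

include hc hN hZ in
theorem std_of_le
    (hMJ : normalizer (Cfsg.thompsonSubgroupOf 2 (S : Subgroup G) : Set G) ≤ M)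
    (hT : T ∈ Cfsg.maxStraddlingTwoSubgroups M)
    {L : Subgroup G} (hL : Cfsg.IsTwoLocal L) (hLM : ¬ L ≤ M) (hTL : T ≤ L) : Std T L := by
  obtain ⟨T₀, hT₀, hTT₀⟩ := exists_sylowTwoIn hTL hT.1.1
  obtain ⟨-, -, h, hcard⟩ := std_of_max hc hN hZ hMJ hT hL hLM hT₀
    ((Offenders.thompsonOf_le T).trans hTT₀)
  rwa [← eq_of_le_of_card_ge hTT₀ hcard] at h

end

/-- A component exists in every overgroup. -/
theorem exists_comp {T L : Subgroup G} (h : Std T L) : ∃ K, Cfsg.IsJComponent T K ∧ K ≤ L := by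
  obtain ⟨t, ht⟩ := exists_jtv h
  obtain ⟨v₀, htv⟩ := ht.1
  obtain ⟨f, hf, hi⟩ := (ctx h).exists_inv htv
  obtain ⟨K, k, hK, hKL, -, -⟩ := exists_component h ⟨htv, hi, hf⟩ ht
  exact ⟨K, hK, hKL⟩

/-- Some component is not contained in `M`. -/
theorem exists_comp_outside {T L M : Subgroup G} (h : Std T L)
    (hNJ : normalizer (Cfsg.thompsonSubgroupOf 2 T : Set G) ≤ M) (hLM : ¬ L ≤ M) :
    ∃ K, Cfsg.IsJComponent T K ∧ K ≤ L ∧ ¬ K ≤ M := by
  by_contra hall
  push Not at hall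
  apply hLM
  set J := Cfsg.thompsonSubgroupOf 2 T with hJdef
  have hTJ : T ≤ normalizer (J : Set G) := le_normalizer.trans thompson_normalizer
  have hKerM : ∀ c : ↥L, π L c = 1 → (c : G) ∈ M := fun c hc =>
    hNJ (thompson_normalizer (h.Ker_norm_T ((π_eq_one_iff L c).1 hc)))
  have hEM : ∀ e : ↥L, π L e ∈ E (Vx L) (Hx L) (Fx L) → (e : G) ∈ M := by
    have hle : E (Vx L) (Hx L) (Fx L) ≤ (M.subgroupOf L).map (π L) := by
      refine (closure_le _).2 ?_
      rintro g ⟨t', v₀', htv', hi', hg⟩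
      have hl : IsLine L t' v₀' g := ⟨htv', hi', hg⟩
      by_cases hmet : ∃ t ∈ Jtv T L, t * g * t⁻¹ = g⁻¹
      · obtain ⟨t, htJ, hinv⟩ := hmet
        obtain ⟨v₀, htv⟩ := htJ.1
        obtain ⟨K, k, hK, hKL, hk, hπk⟩ := exists_component h
          (⟨htv, ⟨hi'.mem, hi'.odd, hi'.ne, hinv⟩, hg⟩ : IsLine L t v₀ g) htJ
        rcases hπk with q | q
        · exact ⟨k, hall K hK hKL hk, q⟩
        · exact ⟨k⁻¹, inv_mem (hall K hK hKL hk), by rw [map_inv, q, inv_inv]⟩
      · push Not at hmet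
        -- all of `J(T)` centralises `g`
        have hcent : ∀ j : ↥L, (j : G) ∈ J → π L j * g = g * π L j := by
          have hcl : closure (Jtv T L) ≤ centralizer ({g} : Set (X L)) :=
            (closure_le _).2 fun t ht => mem_centralizer_iff.2 fun u hu => by
              rw [Set.mem_singleton_iff.1 hu]
              obtain ⟨v₀, htv⟩ := ht.1
              rcases (ctx h).tv_normalizes htv' hi' hg htv with q | q
              · exact (mul_inv_eq_iff_eq_mul.1 q).symm
              · exact absurd q (hmet t ht)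
          exact fun j hj => (mem_centralizer_iff.1 (hcl (J_image h ⟨j, hj, rfl⟩)) g rfl).symm
        obtain ⟨-, y, -, -, hy, hyM⟩ := line_lift h hl
        have hmod : ∀ j : ↥L, (j : G) ∈ J → (y * j * y⁻¹ * j⁻¹ : ↥L).1 ∈ Cfsg.pCoreOf 2 L := by
          intro j hj
          have hjT : (j : G) ∈ T := Offenders.thompsonOf_le T hj
          set c : ↥L := y⁻¹ * (j * y * j⁻¹) with hc
          have hcK : (c : G) ∈ Ker L := by
            refine (π_eq_one_iff L c).1 ?_
            rw [hc, map_mul, map_mul, map_mul, map_inv, map_inv, hy, hcent j hj]; group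
          set C := qm L c with hC
          set Y := qm L y with hY
          set b := qm L j with hb
          have hstep : b * Y * b⁻¹ = Y * C := by simp [hC, hc, b, Y]
          have hbC : b * C * b⁻¹ = C := by
            rw [hC, (mid_commute (h.T_mid hjT) hcK).eq, mul_inv_cancel_right]
          have hiter : ∀ n : ℕ, b ^ n * Y * (b ^ n)⁻¹ = Y * C ^ n := by
            intro n
            induction n with
            | zero => simp
            | succ n ih =>
              calc b ^ (n + 1) * Y * (b ^ (n + 1))⁻¹ = b * (b ^ n * Y * (b ^ n)⁻¹) * b⁻¹ := by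
                    rw [pow_succ']; group
                _ = (b * Y * b⁻¹) * (b * C * b⁻¹) ^ n := by rw [ih, conj_pow]; group
                _ = Y * C ^ (n + 1) := by rw [hstep, hbC, pow_succ']; group
          obtain ⟨n, hn⟩ := h.tp ⟨_, hjT⟩
          have hjn : j ^ 2 ^ n = 1 := by
            have hv : (j : G) ^ 2 ^ n = 1 := congrArg Subtype.val hn
            exact Subtype.ext hv
          have hCn : C ^ 2 ^ n = 1 := by
            have := hiter (2 ^ n)
            rw [hb, ← map_pow, hjn, map_one, one_mul, inv_one, mul_one] at this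
            exact mul_eq_left.1 this.symm
          have hcQ : (c : G) ∈ Cfsg.pCoreOf 2 L := by
            have h1 : (c : G) ^ 2 ^ n ∈ Cfsg.pCoreOf 2 L :=
              (qm_eq_one L (c ^ 2 ^ n)).1 (by rw [map_pow]; exact hCn)
            obtain ⟨k, hk⟩ := LocalBasics.isPGroup_pCoreOf 2 L ⟨_, h1⟩
            have hk' : ((c : G) ^ 2 ^ n) ^ 2 ^ k = 1 := congrArg Subtype.val hk
            rw [← pow_mul, ← pow_add] at hk'
            obtain ⟨i, -, hi⟩ := (Nat.dvd_prime_pow Nat.prime_two).1 (orderOf_dvd_of_pow_eq_one hk')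
            have hp : IsPGroup 2 ↥(zpowers (c : G)) :=
              IsPGroup.of_card (n := i) (by rw [Nat.card_zpowers, hi])
            exact h.two_elements_ker (zpowers_le.2 c.2) hp ⟨mem_zpowers _, hcK⟩
          have hbY : b * Y = Y * b := by
            rw [show C = 1 from (qm_eq_one L c).2 hcQ, mul_one] at hstep
            exact mul_inv_eq_iff_eq_mul.1 hstep
          refine (qm_eq_one L _).1 ?_
          rw [map_mul, map_mul, map_mul, map_inv, map_inv, ← hbY, mul_inv_cancel_right, mul_inv_cancel]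
        -- so `y` normalises `J O₂(L)`
        set P := J ⊔ Cfsg.pCoreOf 2 L
        have hPT : P ≤ T := sup_le (Offenders.thompsonOf_le T) h.Q_le_T
        have hJP : Cfsg.thompsonSubgroupOf 2 P = J :=
          thompson_eq_of_conj (g := 1) le_sup_left fun x hx => ⟨x, hPT hx, by simp⟩
        refine ⟨y, hNJ ?_, hy⟩
        rw [← hJP]
        refine thompson_normalizer (mem_normalizer_of_map_eq (eq_of_le_of_card_ge ?_
          (card_map_of_injective (MulAut.conj (y : G)).injective).ge))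
        refine map_le_iff_le_comap.2 (sup_le (fun j hj => ?_) fun q hq => mem_sup_right
          (LocalBasics.conj_mem_of_le_normalizer (le_norm_Q L) y.2 hq))
        show (y : G) * j * (y : G)⁻¹ ∈ P
        have h1 : (y : G) * j * (y : G)⁻¹ * j⁻¹ ∈ Cfsg.pCoreOf 2 L :=
          hmod ⟨j, h.T_le (Offenders.thompsonOf_le T hj)⟩ hj
        have := mul_mem (mem_sup_right h1 : _ ∈ P) (mem_sup_left hj : j ∈ P)
        rwa [inv_mul_cancel_right] at this
    intro e he
    obtain ⟨m, hm, hme⟩ := hle he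
    have := mul_mem (show (m : G) ∈ M from hm)
      (hKerM (m⁻¹ * e) (by rw [map_mul, map_inv, hme, inv_mul_cancel]))
    simpa using this
  intro x hx
  obtain ⟨e, he, hn⟩ := frattini h ⟨x, hx⟩
  have := mul_mem (hEM e he) (hNJ hn)
  simpa using this

end Cfsg.Agent.JCompMax
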