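import Mathlib
import Cfsg.Prelude.Def_JComponents
import Cfsg.Agent.Lib.JCompLine

/-!
`N(W_K)` for a component `K` with `J(T)` the Thompson subgroup of its Sylow subgroups.
-/

set_option autoImplicit false

namespace Cfsg.Agent.JCompZero

open Subgroup Cfsg JCompBase JCompTV JCompCore JCompLine

variable {G : Type*} [Group G] [Finite G]

theorem wOf_twoLocal {T K : Subgroup G} (hK : Cfsg.IsJComponent T K) :
    Cfsg.IsTwoLocal (normalizer (Cfsg.wOf K : Set G)) := by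
  refine ⟨Cfsg.wOf K, IsPGroup.of_card (n := 2) (by rw [hK.2.2.2.2.1]; norm_num), ?_, rfl⟩
  intro e
  have := hK.2.2.2.2.1
  rw [e, card_bot] at this
  omega

theorem J_le_normalizer_wOf {T K : Subgroup G} (hK : Cfsg.IsJComponent T K) :
    Cfsg.thompsonSubgroupOf 2 T ≤ normalizer (Cfsg.wOf K : Set G) :=
  (comp_norm hK).trans (normalizer_le_wOf K)

/-- `N(W_K)` is an overgroup of its Sylow subgroups through `J(T)`. -/
theorem std_normalizer_wOf (hc : Cfsg.IsCharacteristicTwoType G)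
    (hN : ∀ N : Subgroup G, Cfsg.IsTwoLocal N → Group.IsSolvable ↥N)
    (hZ : ∀ S : Sylow 2 G, Subgroup.centralizer (Cfsg.omegaCenterOf (S : Subgroup G) : Set G) ≤
      Subgroup.normalizer ((S : Subgroup G) : Set G)) {T K : Subgroup G} (hT : IsPGroup 2 ↥T)
    (hK : K ∈ Cfsg.jComponentsZero T) :
    ∃ T₁ : Subgroup G, Std T₁ (normalizer (Cfsg.wOf K : Set G)) ∧
      Cfsg.thompsonSubgroupOf 2 T₁ = Cfsg.thompsonSubgroupOf 2 T ∧
      Cfsg.thompsonSubgroupOf 2 T ≤ T₁ := by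
  obtain ⟨hKc, hJmax⟩ := hK
  set X := normalizer (Cfsg.wOf K : Set G) with hX
  set J := Cfsg.thompsonSubgroupOf 2 T with hJdef
  obtain ⟨T₁, hT₁, hJT₁⟩ := exists_sylowTwoIn (J_le_normalizer_wOf hKc)
    (hT.to_le (Offenders.thompsonOf_le T))
  have hJ₁ := hJmax T₁ hJT₁ hT₁
  have hWp : IsPGroup 2 ↥(Cfsg.wOf K) := IsPGroup.of_card (n := 2) (by rw [hKc.2.2.2.2.1]; norm_num)
  have hWQ : Cfsg.wOf K ≤ Cfsg.pCoreOf 2 X := LocalBasics.le_pCoreOf le_normalizer le_rfl hWp
  have hW1 : Cfsg.wOf K ≠ ⊥ := by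
    intro e
    have := hKc.2.2.2.2.1
    rw [e, card_bot] at this
    omega
  refine ⟨T₁, ⟨hc, hN, hZ, hT₁.2.1, hT₁, ?_, ?_⟩, hJ₁, hJT₁⟩
  · rw [hJ₁]
    intro hle
    set M := Cfsg.pCoreOf 2 X ⊓ (K ⊔ J)
    have hHX : K ⊔ J ≤ X := sup_le (le_normalizer.trans (normalizer_le_wOf K)) (J_le_normalizer_wOf hKc)
    have hHM : K ⊔ J ≤ normalizer (M : Set G) :=
      LocalBasics.le_normalizer_inf (hHX.trans (le_norm_Q X)) le_normalizer
    have hJM : J ≤ M := le_inf hle le_sup_right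
    refine comp_not_twoGroup hKc (((LocalBasics.isPGroup_pCoreOf 2 X).to_le
      (inf_le_left : M ≤ _)).to_le ?_)
    conv_lhs => rw [← hKc.2.1]
    refine commutator_le.2 fun k hk j hj => ?_
    rw [commutatorElement_def]
    exact mul_mem (LocalBasics.conj_mem_of_le_normalizer hHM (mem_sup_left hk) (hJM hj))
      (inv_mem (hJM hj))
  · intro x hx
    have hxX : x ∈ X :=
      LocalBasics.centralizer_le_normalizer _ (centralizer_le (SetLike.coe_subset_coe.2 hWQ) hx)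
    have := hc.2 _ hWp hW1 (x := ⟨x, hxX⟩) fun q hq => Subtype.ext (hx q ⟨q, hq, rfl⟩)
    exact ⟨⟨x, hxX⟩, this, rfl⟩

/-- `N(W_K) = N(K)`. -/
theorem normalizer_eq (hc : Cfsg.IsCharacteristicTwoType G)
    (hN : ∀ N : Subgroup G, Cfsg.IsTwoLocal N → Group.IsSolvable ↥N)
    (hZ : ∀ S : Sylow 2 G, Subgroup.centralizer (Cfsg.omegaCenterOf (S : Subgroup G) : Set G) ≤
      Subgroup.normalizer ((S : Subgroup G) : Set G)) {T K : Subgroup G} (hT : IsPGroup 2 ↥T)
    (hK : K ∈ Cfsg.jComponentsZero T) :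
    normalizer (K : Set G) = normalizer (Cfsg.wOf K : Set G) := by
  refine le_antisymm (normalizer_le_wOf K) fun x hx => ?_
  obtain ⟨T₁, h, hJ₁, -⟩ := std_normalizer_wOf hc hN hZ hT hK
  have hK₁ : Cfsg.IsJComponent T₁ K := comp_congr hJ₁.symm hK.1
  have hKX : K ≤ normalizer (Cfsg.wOf K : Set G) := le_normalizer.trans (normalizer_le_wOf K)
  obtain ⟨e, he, hn⟩ := frattini h ⟨x, hx⟩
  have heK := E_norm_comp h hK₁ hKX he
  set n := ((e⁻¹ * ⟨x, hx⟩ : ↥(normalizer (Cfsg.wOf K : Set G))) : G) with hn'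
  have hnX : n ∈ normalizer (Cfsg.wOf K : Set G) :=
    (e⁻¹ * ⟨x, hx⟩ : ↥(normalizer (Cfsg.wOf K : Set G))).2
  have hK' := comp_conj_J hK₁ hn
  have hK'X : K.map (MulAut.conj n).toMonoidHom ≤ normalizer (Cfsg.wOf K : Set G) := by
    rintro _ ⟨k, hk, rfl⟩
    exact mul_mem (mul_mem hnX (hKX hk)) (inv_mem hnX)
  obtain ⟨w, hw, hw1⟩ : ∃ w ∈ Cfsg.wOf K, w ≠ 1 := by
    by_contra hno
    push Not at hno
    have := hK.1.2.2.2.2.1
    rw [(eq_bot_iff_forall _).2 hno, card_bot] at this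
    omega
  have heq := comp_eq_of_meet h hK₁ hKX hK' hK'X hw
    (by rw [← map_wOf, conj_eq_self hnX]; exact hw) hw1
  have := mul_mem heK (mem_normalizer_of_map_eq heq.symm)
  simpa [hn'] using this

/-- `K` is a component for every conjugate of `T` whose Thompson subgroup normalises `W_K`. -/
theorem comp_of_conj (hc : Cfsg.IsCharacteristicTwoType G)
    (hN : ∀ N : Subgroup G, Cfsg.IsTwoLocal N → Group.IsSolvable ↥N)
    (hZ : ∀ S : Sylow 2 G, Subgroup.centralizer (Cfsg.omegaCenterOf (S : Subgroup G) : Set G) ≤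
      Subgroup.normalizer ((S : Subgroup G) : Set G)) {T K : Subgroup G} (hT : IsPGroup 2 ↥T)
    (hK : K ∈ Cfsg.jComponentsZero T) {g : G}
    (hg : Cfsg.thompsonSubgroupOf 2 (T.map (MulAut.conj g).toMonoidHom) ≤
      normalizer (Cfsg.wOf K : Set G)) :
    Cfsg.IsJComponent (T.map (MulAut.conj g).toMonoidHom) K := by
  obtain ⟨T₁, h, hJ₁, hJT₁⟩ := std_normalizer_wOf hc hN hZ hT hK
  set T' := T.map (MulAut.conj g).toMonoidHom with hT'
  obtain ⟨x, hx, hsub⟩ := sylowTwoIn_conj h.sylT hg ((hT.map _).to_le (Offenders.thompsonOf_le _))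
  have hxK : x ∈ normalizer (K : Set G) := (normalizer_eq hc hN hZ hT hK).ge hx
  have hJx : Cfsg.thompsonSubgroupOf 2 (T.map (MulAut.conj x).toMonoidHom) =
      Cfsg.thompsonSubgroupOf 2 (T₁.map (MulAut.conj x).toMonoidHom) := by
    rw [← Offenders.thompsonOf_map_conj, ← Offenders.thompsonOf_map_conj, hJ₁]
  have hle := thompson_le_of_bound (P := T₁.map (MulAut.conj x).toMonoidHom) (S := T') hsub
    fun B hB hBe A hA => by
      obtain ⟨A₁, hA₁⟩ := exists_maxIn T₁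
      have h1 : Nat.card B ≤ Nat.card A₁ := thompson_le_map (le_refl _) hB hBe hA₁
      have hA₁T : A₁ ≤ T := (maxIn_le_thompson hA₁).trans
        (hJ₁.le.trans (Offenders.thompsonOf_le T))
      have h2 := hA.2.2 (A₁.map (MulAut.conj g).toMonoidHom) (map_mono hA₁T)
        (Offenders.ea_map hA₁.2.1 _)
      rw [card_map_of_injective (MulAut.conj g).injective] at h2
      exact h1.trans h2
  have heq : Cfsg.thompsonSubgroupOf 2 T' =
      Cfsg.thompsonSubgroupOf 2 (T.map (MulAut.conj x).toMonoidHom) := by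
    rw [← hJx] at hle
    refine eq_of_le_of_card_ge hle (le_of_eq ?_)
    rw [hT', ← Offenders.thompsonOf_map_conj, ← Offenders.thompsonOf_map_conj,
      card_map_of_injective (MulAut.conj x).injective, card_map_of_injective (MulAut.conj g).injective]
  have := comp_conj x hK.1
  rw [conj_eq_self hxK] at this
  exact comp_congr heq.symm this

end Cfsg.Agent.JCompZero
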