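import Mathlib
import Cfsg.Prelude.Def_JComponents
import Cfsg.Agent.Lib.JCompMax
import Cfsg.Agent.Lib.JCompZero

/-!
The class of a component and the unique maximal 2-local subgroup containing it.
-/

set_option autoImplicit false

namespace Cfsg.Agent.JCompClass

open Subgroup Cfsg JCompBase JCompTV JCompCore JCompLine JCompMax JCompZero
open scoped commutatorElement

variable {G : Type*} [Group G] [Finite G]

/-- A component all of whose 2-local overgroups have Sylow subgroups with Thompson subgroup `J(T)`. -/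
structure Rooted (T K : Subgroup G) : Prop where
  char2 : Cfsg.IsCharacteristicTwoType G
  solv : ∀ N : Subgroup G, Cfsg.IsTwoLocal N → Group.IsSolvable ↥N
  zentral : ∀ S : Sylow 2 G, Subgroup.centralizer (Cfsg.omegaCenterOf (S : Subgroup G) : Set G) ≤
    Subgroup.normalizer ((S : Subgroup G) : Set G)
  tp : IsPGroup 2 ↥T
  comp : Cfsg.IsJComponent T K
  root : ∀ L : Subgroup G, Cfsg.IsTwoLocal L → K ⊔ Cfsg.thompsonSubgroupOf 2 T ≤ L →
    ∀ T' : Subgroup G, Cfsg.IsSylowTwoIn T' L → Cfsg.thompsonSubgroupOf 2 T ≤ T' →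
      Cfsg.thompsonSubgroupOf 2 T' = Cfsg.thompsonSubgroupOf 2 T

theorem centralizer_core_le (hc : Cfsg.IsCharacteristicTwoType G) {L : Subgroup G}
    (hL : Cfsg.IsTwoLocal L) :
    centralizer (Cfsg.pCoreOf 2 L : Set G) ≤ Cfsg.pCoreOf 2 L := by
  obtain ⟨R, hRp, hR1, rfl⟩ := hL
  intro x hx
  have hRQ : R ≤ Cfsg.pCoreOf 2 (normalizer (R : Set G)) :=
    LocalBasics.le_pCoreOf le_normalizer le_rfl hRp
  have hxL : x ∈ normalizer (R : Set G) :=
    LocalBasics.centralizer_le_normalizer _ (centralizer_le (SetLike.coe_subset_coe.2 hRQ) hx)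
  have := hc.2 R hRp hR1 (x := ⟨x, hxL⟩) fun q hq => Subtype.ext (hx q ⟨q, hq, rfl⟩)
  exact ⟨⟨x, hxL⟩, this, rfl⟩

variable {T K : Subgroup G}

namespace Rooted

theorem std (r : Rooted T K) {L : Subgroup G} (hL : Cfsg.IsTwoLocal L)
    (hKL : K ⊔ Cfsg.thompsonSubgroupOf 2 T ≤ L) :
    ∃ T' : Subgroup G, Std T' L ∧ Cfsg.thompsonSubgroupOf 2 T' = Cfsg.thompsonSubgroupOf 2 T := by
  set J := Cfsg.thompsonSubgroupOf 2 T
  obtain ⟨T', hT', hJT'⟩ := exists_sylowTwoIn (le_sup_right.trans hKL)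
    (r.tp.to_le (Offenders.thompsonOf_le T))
  have hJ' := r.root L hL hKL T' hT' hJT'
  refine ⟨T', ⟨r.char2, r.solv, r.zentral, hT'.2.1, hT', ?_, centralizer_core_le r.char2 hL⟩, hJ'⟩
  rw [hJ']
  intro hle
  set M := Cfsg.pCoreOf 2 L ⊓ (K ⊔ J)
  have hHM : K ⊔ J ≤ normalizer (M : Set G) :=
    LocalBasics.le_normalizer_inf (hKL.trans (le_norm_Q L)) le_normalizer
  have hJM : J ≤ M := le_inf hle le_sup_right
  refine comp_not_twoGroup r.comp (((LocalBasics.isPGroup_pCoreOf 2 L).to_le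
    (inf_le_left : M ≤ _)).to_le ?_)
  conv_lhs => rw [← r.comp.2.1]
  refine commutator_le.2 fun k hk j hj => ?_
  rw [commutatorElement_def]
  exact mul_mem (LocalBasics.conj_mem_of_le_normalizer hHM (mem_sup_left hk) (hJM hj))
    (inv_mem (hJM hj))

theorem sup_le_normalizer_wOf (r : Rooted T K) :
    K ⊔ Cfsg.thompsonSubgroupOf 2 T ≤ normalizer (Cfsg.wOf K : Set G) :=
  sup_le (le_normalizer.trans (normalizer_le_wOf K)) (J_le_normalizer_wOf r.comp)

theorem zero (r : Rooted T K) : K ∈ Cfsg.jComponentsZero T :=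
  ⟨r.comp, fun S hJS hS => r.root _ (wOf_twoLocal r.comp) r.sup_le_normalizer_wOf S hS hJS⟩

/-- Two components inside one overgroup of `K` normalise each other. -/
theorem le_normalizer_of_mem (r : Rooted T K) {L K₁ K₂ : Subgroup G} (hL : Cfsg.IsTwoLocal L)
    (hKL : K ⊔ Cfsg.thompsonSubgroupOf 2 T ≤ L) (h₁ : Cfsg.IsJComponent T K₁) (h₁L : K₁ ≤ L)
    (h₂ : Cfsg.IsJComponent T K₂) (h₂L : K₂ ≤ L) : K₂ ≤ normalizer (K₁ : Set G) := by
  obtain ⟨T', h, hJ'⟩ := r.std hL hKL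
  intro x hx
  exact E_norm_comp h (comp_congr hJ'.symm h₁) h₁L (x := ⟨x, h₂L hx⟩)
    (comp_image_E h (comp_congr hJ'.symm h₂) h₂L hx)

/-- The components normalising `W_K`. -/
def cls (T K : Subgroup G) : Set (Subgroup G) :=
  {K' | Cfsg.IsJComponent T K' ∧ K' ≤ normalizer (Cfsg.wOf K : Set G)}

/-- The product of the corresponding four-groups. -/
def star (T K : Subgroup G) : Subgroup G := sSup (Cfsg.wOf '' cls T K)

theorem self_mem_cls (r : Rooted T K) : K ∈ cls T K :=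
  ⟨r.comp, le_normalizer.trans (normalizer_le_wOf K)⟩

theorem le_normalizer_cls (r : Rooted T K) {K' : Subgroup G} (h : K' ∈ cls T K) :
    K ≤ normalizer (K' : Set G) :=
  r.le_normalizer_of_mem (wOf_twoLocal r.comp) r.sup_le_normalizer_wOf h.1 h.2 r.comp
    r.self_mem_cls.2

theorem star_twoLocal (r : Rooted T K) : Cfsg.IsTwoLocal (normalizer (star T K : Set G)) := by
  obtain ⟨T', h, hJ'⟩ := r.std (wOf_twoLocal r.comp) r.sup_le_normalizer_wOf
  have hle : star T K ≤ Vq (normalizer (Cfsg.wOf K : Set G)) := sSup_le fun W hW => by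
    obtain ⟨K', hK', rfl⟩ := hW
    have hK'' := comp_congr hJ'.symm hK'.1
    obtain ⟨t, v₀, k₀, -, hk₀, hl, -, -⟩ := comp_line h hK'' hK'.2
    rw [comp_wOf h hK'' hK'.2 hk₀ hl]
    exact map_subtype_le _
  refine ⟨star T K, (Offenders.ea_isPGroup (V_ea _)).to_le hle, fun e => ?_, rfl⟩
  have h1 : Cfsg.wOf K ≤ star T K := le_sSup ⟨K, r.self_mem_cls, rfl⟩
  have h4 := r.comp.2.2.2.2.1
  rw [le_bot_iff.1 (h1.trans_eq e), card_bot] at h4
  omega

/-- `N(W_K)` permutes the class. -/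
theorem conj_mem_cls (r : Rooted T K) {x : G} (hx : x ∈ normalizer (Cfsg.wOf K : Set G))
    {K' : Subgroup G} (hK' : K' ∈ cls T K) : K'.map (MulAut.conj x).toMonoidHom ∈ cls T K := by
  obtain ⟨T', h, hJ'⟩ := r.std (wOf_twoLocal r.comp) r.sup_le_normalizer_wOf
  obtain ⟨e, he, hn⟩ := frattini h ⟨x, hx⟩
  rw [hJ'] at hn
  set n := ((e⁻¹ * ⟨x, hx⟩ : ↥(normalizer (Cfsg.wOf K : Set G))) : G) with hn'
  have he' := E_norm_comp h (comp_congr hJ'.symm hK'.1) hK'.2 he
  have hnX : n ∈ normalizer (Cfsg.wOf K : Set G) := SetLike.coe_mem _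
  have hle : K'.map (MulAut.conj n).toMonoidHom ≤ normalizer (Cfsg.wOf K : Set G) := by
    rintro _ ⟨k, hk, rfl⟩
    exact mul_mem (mul_mem hnX (hK'.2 hk)) (inv_mem hnX)
  have hmem : K'.map (MulAut.conj n).toMonoidHom ∈ cls T K :=
    ⟨comp_conj_J hK'.1 hn, hle⟩
  have he'' := E_norm_comp h (comp_congr hJ'.symm hmem.1) hle he
  have e2 : K'.map (MulAut.conj x).toMonoidHom = K'.map (MulAut.conj n).toMonoidHom := by
    have hx' : x = (e : G) * n := by simp [hn']
    have e3 : (MulAut.conj x).toMonoidHom =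
        (MulAut.conj (e : G)).toMonoidHom.comp (MulAut.conj n).toMonoidHom := by
      rw [hx', map_mul]; rfl
    rw [e3, ← Subgroup.map_map, conj_eq_self he'']
  rw [e2]
  exact hmem

/-- Every 2-local overgroup of `⟨K, J(T)⟩` normalises the product of the four-groups of the class. -/
theorem le_normalizer_star (r : Rooted T K) {L : Subgroup G} (hL : Cfsg.IsTwoLocal L)
    (hKL : K ⊔ Cfsg.thompsonSubgroupOf 2 T ≤ L) : L ≤ normalizer (star T K : Set G) := by
  obtain ⟨T', h, hJ'⟩ := r.std hL hKL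
  have hK' := comp_congr hJ'.symm r.comp
  intro x hx
  obtain ⟨e, he, hn⟩ := frattini h ⟨x, hx⟩
  rw [hJ'] at hn
  set n := ((e⁻¹ * ⟨x, hx⟩ : ↥L) : G) with hn'
  have hKle : K ≤ L := le_sup_left.trans hKL
  have heX : (e : G) ∈ normalizer (Cfsg.wOf K : Set G) :=
    normalizer_le_wOf K (E_norm_comp h hK' hKle he)
  have hnL : n ∈ L := SetLike.coe_mem _
  -- `n` maps the class to itself
  set K₁ := K.map (MulAut.conj n).toMonoidHom with hK₁
  have h₁ : Cfsg.IsJComponent T K₁ := comp_conj_J r.comp hn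
  have h₁L : K₁ ≤ L := by
    rintro _ ⟨k, hk, rfl⟩
    exact mul_mem (mul_mem hnL (hKle hk)) (inv_mem hnL)
  have hcls : ∀ K' ∈ cls T K, K'.map (MulAut.conj n).toMonoidHom ∈ cls T K := by
    intro K' hK'c
    have hK₁K : K ≤ normalizer (K₁ : Set G) := r.le_normalizer_of_mem hL hKL h₁ h₁L r.comp hKle
    have hloc : K ⊔ Cfsg.thompsonSubgroupOf 2 T ≤ normalizer (Cfsg.wOf K₁ : Set G) :=
      sup_le (hK₁K.trans (normalizer_le_wOf K₁)) (J_le_normalizer_wOf h₁)
    have hK'n : K'.map (MulAut.conj n).toMonoidHom ≤ normalizer (Cfsg.wOf K₁ : Set G) := by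
      rintro _ ⟨k, hk, rfl⟩
      rw [hK₁, ← map_wOf]
      refine mem_normalizer_of_map_eq (eq_of_le_of_card_ge ?_
        (card_map_of_injective (MulAut.conj _).injective).ge)
      rintro _ ⟨_, ⟨w, hw, rfl⟩, rfl⟩
      exact ⟨k * w * k⁻¹, LocalBasics.conj_mem_of_le_normalizer hK'c.2 hk hw, by simp [mul_assoc]⟩
    refine ⟨comp_conj_J hK'c.1 hn, le_trans ?_ (normalizer_le_wOf K)⟩
    exact r.le_normalizer_of_mem (wOf_twoLocal h₁) hloc r.comp (le_sup_left.trans hloc)
      (comp_conj_J hK'c.1 hn) hK'n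
  refine mem_normalizer_of_map_eq (eq_of_le_of_card_ge ?_
    (card_map_of_injective (MulAut.conj x).injective).ge)
  rw [map_le_iff_le_comap]
  refine sSup_le fun W hW => ?_
  obtain ⟨K', hK'c, rfl⟩ := hW
  rw [← map_le_iff_le_comap]
  have hx' : x = (e : G) * n := by simp [hn']
  have e3 : (MulAut.conj x).toMonoidHom =
      (MulAut.conj (e : G)).toMonoidHom.comp (MulAut.conj n).toMonoidHom := by
    rw [hx', map_mul]; rfl
  rw [e3, ← Subgroup.map_map, map_wOf, map_wOf]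
  exact le_sSup ⟨_, r.conj_mem_cls heX (hcls K' hK'c), rfl⟩

/-- A maximal 2-local overgroup is the normaliser of the product of the class. -/
theorem max_eq (r : Rooted T K) {L : Subgroup G} (hL : Cfsg.IsMaximalTwoLocal L)
    (hKL : K ⊔ Cfsg.thompsonSubgroupOf 2 T ≤ L) : normalizer (star T K : Set G) = L :=
  hL.2 _ r.star_twoLocal (r.le_normalizer_star hL.1 hKL)

theorem isMax_star (r : Rooted T K) :
    Cfsg.IsMaximalTwoLocal (normalizer (star T K : Set G)) :=
  ⟨r.star_twoLocal, fun _ hN hle => le_antisymm (r.le_normalizer_star hN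
    ((r.sup_le_normalizer_wOf.trans (r.le_normalizer_star (wOf_twoLocal r.comp)
      r.sup_le_normalizer_wOf)).trans hle)) hle⟩

end Rooted

theorem rooted_of_max (hc : Cfsg.IsCharacteristicTwoType G)
    (hN : ∀ N : Subgroup G, Cfsg.IsTwoLocal N → Group.IsSolvable ↥N)
    (hZ : ∀ S : Sylow 2 G, Subgroup.centralizer (Cfsg.omegaCenterOf (S : Subgroup G) : Set G) ≤
      Subgroup.normalizer ((S : Subgroup G) : Set G)) {S : Sylow 2 G} {M : Subgroup G}
    (hMJ : normalizer (Cfsg.thompsonSubgroupOf 2 (S : Subgroup G) : Set G) ≤ M) {T K : Subgroup G}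
    (hT : T ∈ Cfsg.maxStraddlingTwoSubgroups M) (hK : Cfsg.IsJComponent T K) (hKM : ¬ K ≤ M) :
    Rooted T K :=
  ⟨hc, hN, hZ, hT.1.1, hK, fun _ hL hle _ hT' hJT' =>
    (std_of_max hc hN hZ hMJ hT hL (fun h => hKM ((le_sup_left.trans hle).trans h)) hT' hJT').1⟩

end Cfsg.Agent.JCompClass
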