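import Mathlib
import Cfsg.Prelude.Def_JComponents
import Cfsg.Agent.Lib.JCompClass
import Cfsg.Agent.S2946

/-!
Two components whose maximal 2-local overgroups differ: the centre of `J(T)` is small and `T`
normalises both components.
-/

set_option autoImplicit false

namespace Cfsg.Agent.JCompDuo

open Subgroup Cfsg JCompBase JCompTV JCompCore JCompLine JCompClass

variable {G : Type*} [Group G]

/-- `Ω₁(Z(J(T)))`. -/
abbrev Z0 (T : Subgroup G) : Subgroup G := Cfsg.omegaCenterOf (Cfsg.thompsonSubgroupOf 2 T)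

/-- The part of `Z0 T` centralising `K`. -/
def Cz (T K : Subgroup G) : Subgroup G := Z0 T ⊓ centralizer (K : Set G)

/-- The maximal 2-local overgroup of `⟨K, J(T)⟩`. -/
abbrev Lstar (T K : Subgroup G) : Subgroup G := normalizer (Rooted.star T K : Set G)

theorem Z0_le (T : Subgroup G) :
    Z0 T ≤ Cfsg.thompsonSubgroupOf 2 T ⊓ centralizer (Cfsg.thompsonSubgroupOf 2 T : Set G) :=
  Offenders.omegaOne_le _

theorem Z0_le_T (T : Subgroup G) : Z0 T ≤ T :=
  (Z0_le T).trans (inf_le_left.trans (Offenders.thompsonOf_le T))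

theorem Z0_comm {T : Subgroup G} {z j : G} (hz : z ∈ Z0 T) (hj : j ∈ Cfsg.thompsonSubgroupOf 2 T) :
    j * z = z * j :=
  (Z0_le T hz).2 j hj

theorem Z0_ea (T : Subgroup G) : IsElementaryAbelian 2 (Z0 T) :=
  Offenders.omegaOne_ea fun x hx _ hy => hy.2 x hx.1

theorem Z0_sq {T : Subgroup G} {z : G} (hz : z ∈ Z0 T) : z * z = 1 := by
  rw [← pow_two]; exact ((Offenders.ea_iff _).1 (Z0_ea T)).2 z hz

theorem Z0_comm' {T : Subgroup G} {z y : G} (hz : z ∈ Z0 T) (hy : y ∈ Z0 T) : z * y = y * z :=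
  ((Offenders.ea_iff _).1 (Z0_ea T)).1 z hz y hy

theorem Z0_inv {T : Subgroup G} {z : G} (hz : z ∈ Z0 T) : z⁻¹ = z :=
  inv_eq_of_mul_eq_one_right (Z0_sq hz)

theorem norm_J_Z0 (T : Subgroup G) :
    normalizer (Cfsg.thompsonSubgroupOf 2 T : Set G) ≤ normalizer (Z0 T : Set G) :=
  JCompBase.normalizer_le_omegaCenter _

theorem T_norm_Z0 (T : Subgroup G) : T ≤ normalizer (Z0 T : Set G) :=
  (le_normalizer.trans thompson_normalizer).trans (norm_J_Z0 T)

variable [Finite G]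

/-- An involution of `T` commuting with `A` lies in `A`, for `A` largest elementary abelian. -/
theorem mem_maxIn {T A : Subgroup G} (hA : Offenders.IsMaxIn 2 T A) {x : G} (hxT : x ∈ T)
    (hx2 : x * x = 1) (hc : ∀ a ∈ A, a * x = x * a) : x ∈ A := by
  have he : IsElementaryAbelian 2 (A ⊔ zpowers x : Subgroup G) :=
    Offenders.ea_sup hA.2.1 (Offenders.ea_zpowers (p := 2) (by rwa [pow_two])) fun a ha c hcx => by
      obtain ⟨i, rfl⟩ := hcx
      exact ((show Commute a x from hc a ha).zpow_right i).eq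
  have := eq_of_le_of_card_ge le_sup_left
    (hA.2.2 _ (sup_le hA.1 (zpowers_le.2 hxT)) he)
  rw [this]
  exact mem_sup_right (mem_zpowers x)

theorem mem_Z0 {T : Subgroup G} {x : G} (hxT : x ∈ T) (hx2 : x * x = 1)
    (hc : ∀ j ∈ Cfsg.thompsonSubgroupOf 2 T, j * x = x * j) : x ∈ Z0 T := by
  obtain ⟨A, hA⟩ := exists_maxIn T
  refine Offenders.mem_omegaOne ⟨?_, hc⟩ (by rwa [pow_two])
  exact maxIn_le_thompson hA (mem_maxIn hA hxT hx2 fun a ha => hc a (maxIn_le_thompson hA ha))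

theorem omegaCenter_le_Z0 (T : Subgroup G) : Cfsg.omegaCenterOf T ≤ Z0 T :=
  (closure_le _).2 fun _ hx => mem_Z0 hx.1.1 (by rw [← pow_two]; exact hx.2)
    fun j hj => hx.1.2 j (Offenders.thompsonOf_le T hj)

theorem Z0_le_maxIn {T A : Subgroup G} (hA : Offenders.IsMaxIn 2 T A) : Z0 T ≤ A :=
  fun _ hz => mem_maxIn hA (Z0_le_T T hz) (Z0_sq hz)
    fun _ ha => Z0_comm hz (maxIn_le_thompson hA ha)

theorem centralizer_twoLocal {x : G} (hx2 : x * x = 1) (hx1 : x ≠ 1) :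
    Cfsg.IsTwoLocal (centralizer ({x} : Set G)) := by
  have hox : orderOf x = 2 := orderOf_eq_prime (by rwa [pow_two]) hx1
  refine ⟨zpowers x, IsPGroup.of_card (n := 1) (by rw [Nat.card_zpowers, hox, pow_one]),
    fun e => hx1 (zpowers_eq_bot.1 e), le_antisymm ?_ ?_⟩
  · refine fun g hg => mem_normalizer_of_map_eq ?_
    rw [MonoidHom.map_zpowers]
    congr 1
    show g * x * g⁻¹ = x
    rw [mem_centralizer_singleton_iff.1 hg, mul_inv_cancel_right]
  · intro g hg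
    refine mem_centralizer_singleton_iff.2 ?_
    have hm : g * x * g⁻¹ ∈ zpowers x :=
      LocalBasics.conj_mem_of_le_normalizer le_rfl hg (mem_zpowers x)
    obtain ⟨i, hi⟩ := mem_zpowers_iff.1 hm
    rcases Int.even_or_odd i with ⟨m, rfl⟩ | ⟨m, rfl⟩
    · rw [← two_mul, zpow_mul, show x ^ (2 : ℤ) = x * x from zpow_two x, hx2, one_zpow] at hi
      exact absurd (conj_eq_one_iff.1 hi.symm) hx1
    · rw [zpow_add, zpow_mul, show x ^ (2 : ℤ) = x * x from zpow_two x, hx2, one_zpow, one_mul,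
        zpow_one] at hi
      exact mul_inv_eq_iff_eq_mul.1 hi.symm

/-- Nothing containing `⟨K, J(T)⟩` has a normal Sylow 2-subgroup. -/
theorem not_le_sylow_normalizer {T K : Subgroup G} (hK : Cfsg.IsJComponent T K)
    (hT : IsPGroup 2 ↥T) (S : Sylow 2 G) :
    ¬ K ⊔ Cfsg.thompsonSubgroupOf 2 T ≤ normalizer ((S : Subgroup G) : Set G) := by
  intro hle
  set J := Cfsg.thompsonSubgroupOf 2 T
  have hJ : J ≤ (S : Subgroup G) := by
    have hp : IsPGroup 2 ↥((S : Subgroup G) ⊔ J) :=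
      S.2.to_sup_of_normal_left' (hT.to_le (Offenders.thompsonOf_le T)) (le_sup_right.trans hle)
    rw [← S.is_maximal' hp le_sup_left]
    exact le_sup_right
  refine comp_not_twoGroup hK (S.2.to_le ?_)
  conv_lhs => rw [← hK.2.1]
  refine commutator_le.2 fun k hk j hj => ?_
  rw [commutatorElement_def]
  exact mul_mem (LocalBasics.conj_mem_of_le_normalizer le_rfl (hle (mem_sup_left hk)) (hJ hj))
    (inv_mem (hJ hj))

variable {T K K' : Subgroup G}

theorem T_ne_bot (r : Rooted T K) : T ≠ ⊥ := by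
  intro e
  have hJ : Cfsg.thompsonSubgroupOf 2 T = ⊥ := le_bot_iff.1 (e ▸ Offenders.thompsonOf_le T)
  refine comp_not_twoGroup r.comp ?_
  rw [← r.comp.2.1, hJ, commutator_bot_right]
  exact IsPGroup.of_bot

/-- Only the identity of `W_K` is centralised by `K`. -/
theorem no_fixed (r : Rooted T K) {x : G} (hx : x ∈ Cfsg.wOf K) (hx1 : x ≠ 1) :
    x ∉ centralizer (K : Set G) := by
  intro hc
  obtain ⟨T', h, hJ'⟩ := r.std (wOf_twoLocal' r) r.sup_le_normalizer_wOf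
  have hK := comp_congr hJ'.symm r.comp
  have hKL : K ≤ normalizer (Cfsg.wOf K : Set G) := le_normalizer.trans (normalizer_le_wOf K)
  obtain ⟨t, v₀, k₀, -, hk₀, hl, -, -⟩ := comp_line h hK hKL
  rw [comp_wOf h hK hKL hk₀ hl] at hx
  obtain ⟨v, hv, rfl⟩ := hx
  have hne : ι _ v ≠ 1 := fun q => hx1 (by rw [← map_one (ι _)] at q; rw [ι_injective _ q]; rfl)
  have hfix : π _ k₀ * ι _ v * (π _ k₀)⁻¹ = ι _ v := by
    rw [conj_ι]
    refine congrArg _ (Subtype.ext ?_)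
    show (k₀ : G) * v * (k₀ : G)⁻¹ = (v : G)
    exact mul_inv_eq_iff_eq_mul.2 (hc k₀ hk₀)
  have := (ctx h).fix_W hl.tv hl.inv (g := π _ k₀) rfl hv hne hfix _ ((ctx h).vmem_W hl.tv hl.inv)
  exact ((ctx h).inv_action hl.tv hl.inv).2.1 this
where
  wOf_twoLocal' {T K : Subgroup G} (r : Rooted T K) :
      Cfsg.IsTwoLocal (normalizer (Cfsg.wOf K : Set G)) := JCompZero.wOf_twoLocal r.comp

theorem Cz_le_Z0 (T K : Subgroup G) : Cz T K ≤ Z0 T := inf_le_left

/-- The nontrivial element `w` of `Z0 T ⊓ W_K` and the decomposition of `Z0 T`. -/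
theorem exists_w (r : Rooted T K) :
    ∃ w, w ∈ Z0 T ∧ w ∈ Cfsg.wOf K ∧ w ≠ 1 ∧ w ∉ Cz T K ∧
      (∀ x ∈ Z0 T, x ∈ Cfsg.wOf K → x = 1 ∨ x = w) ∧
      ∀ x ∈ Z0 T, x ∈ Cz T K ∨ x * w ∈ Cz T K := by
  obtain ⟨h2, hsup⟩ := Cfsg.Agent.S2946.result r.char2 r.solv r.zentral T r.tp (T_ne_bot r) K
    r.comp (Z0 T) rfl
  obtain ⟨y, -, huniq⟩ := (Nat.card_eq_two_iff' (1 : ↥(Z0 T ⊓ Cfsg.wOf K))).1 h2
  have : Nontrivial ↥(Z0 T ⊓ Cfsg.wOf K) :=
    Finite.one_lt_card_iff_nontrivial.1 (h2 ▸ one_lt_two)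
  obtain ⟨⟨w, hwZ, hwW⟩, hw⟩ := exists_ne (1 : ↥(Z0 T ⊓ Cfsg.wOf K))
  have hw1 : w ≠ 1 := fun e => hw (Subtype.ext e)
  have hall : ∀ x ∈ Z0 T, x ∈ Cfsg.wOf K → x = 1 ∨ x = w := by
    intro x hx hxW
    by_cases e : x = 1
    · exact Or.inl e
    · exact Or.inr (congrArg Subtype.val
        ((huniq ⟨x, hx, hxW⟩ fun q => e (congrArg Subtype.val q)).trans (huniq _ hw).symm))
  refine ⟨w, hwZ, hwW, hw1, fun hc => no_fixed r hwW hw1 hc.2, hall, fun x hx => ?_⟩
  rw [← hsup, ← SetLike.mem_coe] at hx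
  rw [coe_mul_of_left_le_normalizer_right] at hx
  swap
  · exact OffendersReplace.le_normalizer_of_commute fun a ha b hb => Z0_comm' ha.1 hb.1
  obtain ⟨a, ha, b, hb, rfl⟩ := hx
  have haC : a ∈ Cz T K :=
    ⟨ha.1, fun k hk => ha.2.2 k (Or.inl hk)⟩
  rcases hall b hb.1 hb.2 with rfl | rfl
  · left; simpa using haC
  · right
    show a * b * b ∈ Cz T K
    rw [mul_assoc, Z0_sq hb.1, mul_one]
    exact haC

theorem card_Z0 (r : Rooted T K) : Nat.card ↥(Z0 T) = 2 * Nat.card ↥(Cz T K) := by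
  obtain ⟨w, hwZ, -, -, hwC, -, hdec⟩ := exists_w r
  have hidx : ((Cz T K).subgroupOf (Z0 T)).index = 2 := by
    refine index_eq_two_iff.2 ⟨⟨w, hwZ⟩, fun b => ?_⟩
    simp only [mem_subgroupOf, coe_mul]
    by_cases hb : (b : G) ∈ Cz T K
    · refine Or.inr ⟨hb, fun e => hwC ?_⟩
      have := mul_mem (inv_mem hb) e
      rwa [inv_mul_cancel_left] at this
    · exact Or.inl ⟨(hdec b b.2).resolve_left hb, hb⟩
  rw [← card_mul_index ((Cz T K).subgroupOf (Z0 T)), hidx, mul_comm,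
    Nat.card_congr (subgroupOfEquivOfLe (Cz_le_Z0 T K)).toEquiv]

theorem KJ_le_centralizer {z : G} (hz : z ∈ Cz T K) :
    K ⊔ Cfsg.thompsonSubgroupOf 2 T ≤ centralizer ({z} : Set G) :=
  sup_le (fun k hk => mem_centralizer_singleton_iff.2 (hz.2 k hk))
    fun _ hj => mem_centralizer_singleton_iff.2 (Z0_comm hz.1 hj)

theorem KJ_le_Lstar (r : Rooted T K) : K ⊔ Cfsg.thompsonSubgroupOf 2 T ≤ Lstar T K :=
  r.sup_le_normalizer_wOf.trans
    (r.le_normalizer_star (JCompZero.wOf_twoLocal r.comp) r.sup_le_normalizer_wOf)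

theorem cent_le_Lstar (r : Rooted T K) {z : G} (hz : z ∈ Cz T K) (hz1 : z ≠ 1) :
    centralizer ({z} : Set G) ≤ Lstar T K :=
  r.le_normalizer_star (centralizer_twoLocal (Z0_sq hz.1) hz1) (KJ_le_centralizer hz)

theorem Lstar_eq (r : Rooted T K) (r' : Rooted T K')
    (h : K' ⊔ Cfsg.thompsonSubgroupOf 2 T ≤ Lstar T K) : Lstar T K' = Lstar T K :=
  r'.max_eq r.isMax_star h

theorem meet (r : Rooted T K) (r' : Rooted T K') {z : G} (hz : z ∈ Cz T K) (hz' : z ∈ Cz T K')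
    (hz1 : z ≠ 1) : Lstar T K' = Lstar T K :=
  Lstar_eq r r' ((KJ_le_centralizer hz').trans (cent_le_Lstar r hz hz1))

/-- The same for a component of the class of `K`. -/
theorem meet_cls (r : Rooted T K) (r' : Rooted T K') {K₂ : Subgroup G}
    (h₂ : K₂ ∈ Rooted.cls T K) {z : G} (hz : z ∈ Cz T K₂) (hz' : z ∈ Cz T K') (hz1 : z ≠ 1) :
    Lstar T K' = Lstar T K := by
  have h₂L : K₂ ≤ Lstar T K' :=
    ((le_sup_left (b := Cfsg.thompsonSubgroupOf 2 T)).trans (KJ_le_centralizer hz)).trans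
      (cent_le_Lstar r' hz' hz1)
  have hK'L : K' ≤ Lstar T K' := le_sup_left.trans (KJ_le_Lstar r')
  have h' : K' ≤ normalizer (Cfsg.wOf K₂ : Set G) :=
    (r'.le_normalizer_of_mem r'.isMax_star.1 (KJ_le_Lstar r') h₂.1 h₂L r'.comp hK'L).trans
      (normalizer_le_wOf K₂)
  have hK : K ≤ normalizer (Cfsg.wOf K₂ : Set G) :=
    (r.le_normalizer_cls h₂).trans (normalizer_le_wOf K₂)
  have hJ := JCompZero.J_le_normalizer_wOf h₂.1
  exact Lstar_eq r r' ((sup_le h' hJ).trans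
    (r.le_normalizer_star (JCompZero.wOf_twoLocal h₂.1) (sup_le hK hJ)))

theorem card_Cz_le (r : Rooted T K) (r' : Rooted T K') (hne : Lstar T K ≠ Lstar T K') :
    Nat.card ↥(Cz T K) ≤ 2 := by
  have hbot : Cz T K ⊓ Cz T K' = ⊥ :=
    (eq_bot_iff_forall _).2 fun z hz => by_contra fun h1 => hne (meet r r' hz.1 hz.2 h1).symm
  have h := OffendersReplace.card_sup_mul_card_inf (Cz T K) (Cz T K')
    (OffendersReplace.le_normalizer_of_commute fun a ha b hb => Z0_comm' ha.1 hb.1)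
  rw [hbot, card_bot, mul_one] at h
  have hle := Subgroup.card_le_of_le
    (sup_le (Cz_le_Z0 T K) (Cz_le_Z0 T K') : Cz T K ⊔ Cz T K' ≤ Z0 T)
  have e := card_Z0 r
  have e' := card_Z0 r'
  rw [h] at hle
  have hp : 0 < Nat.card ↥(Cz T K) := Nat.card_pos
  nlinarith

theorem map_twoLocal {L : Subgroup G} (g : G) (hL : Cfsg.IsTwoLocal L) :
    Cfsg.IsTwoLocal (L.map (MulAut.conj g).toMonoidHom) := by
  obtain ⟨P, hP, hP1, rfl⟩ := hL
  refine ⟨P.map (MulAut.conj g).toMonoidHom, hP.map _, fun e => hP1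
    ((map_eq_bot_iff_of_injective _ (MulAut.conj g).injective).1 e), ?_⟩
  exact map_equiv_normalizer_eq P (MulAut.conj g)

theorem map_J {g : G} (hg : g ∈ normalizer (Cfsg.thompsonSubgroupOf 2 T : Set G)) :
    (Cfsg.thompsonSubgroupOf 2 T).map (MulAut.conj g).toMonoidHom = Cfsg.thompsonSubgroupOf 2 T :=
  conj_eq_self hg

theorem rooted_conj (r : Rooted T K) {g : G}
    (hg : g ∈ normalizer (Cfsg.thompsonSubgroupOf 2 T : Set G)) :
    Rooted T (K.map (MulAut.conj g).toMonoidHom) := by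
  refine ⟨r.char2, r.solv, r.zentral, r.tp, comp_conj_J r.comp hg, fun L hL hle T' hT' hJT' => ?_⟩
  have hg' : (Cfsg.thompsonSubgroupOf 2 T).map (MulAut.conj g⁻¹).toMonoidHom =
      Cfsg.thompsonSubgroupOf 2 T := conj_eq_self (inv_mem hg)
  have h1 : K ⊔ Cfsg.thompsonSubgroupOf 2 T ≤ L.map (MulAut.conj g⁻¹).toMonoidHom := by
    have := map_mono (f := (MulAut.conj g⁻¹).toMonoidHom) hle
    rwa [Subgroup.map_sup, map_conj_inv, hg'] at this
  have hinj : Function.Injective (MulAut.conj g⁻¹).toMonoidHom := (MulAut.conj g⁻¹).injective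
  have h2 := r.root _ (map_twoLocal g⁻¹ hL) h1 (T'.map (MulAut.conj g⁻¹).toMonoidHom)
    ⟨map_mono hT'.1, hT'.2.1.map _, by
      rw [relIndex_map_map_of_injective _ _ hinj]; exact hT'.2.2⟩
    (hg' ▸ map_mono hJT')
  have h3 := congrArg (Subgroup.map (MulAut.conj g).toMonoidHom) h2
  rwa [← Offenders.thompsonOf_map_conj, map_conj_inv', map_J hg] at h3

theorem Lstar_conj (r : Rooted T K) {g : G}
    (hg : g ∈ normalizer (Cfsg.thompsonSubgroupOf 2 T : Set G)) :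
    Lstar T (K.map (MulAut.conj g).toMonoidHom) =
      (Lstar T K).map (MulAut.conj g).toMonoidHom := by
  refine (rooted_conj r hg).max_eq ⟨map_twoLocal g r.isMax_star.1, fun N hN hle => ?_⟩ ?_
  · have h1 := map_mono (f := (MulAut.conj g⁻¹).toMonoidHom) hle
    rw [map_conj_inv] at h1
    exact (map_conj_inv' g N).symm.trans (congrArg _ (r.isMax_star.2 _ (map_twoLocal g⁻¹ hN) h1))
  · have := map_mono (f := (MulAut.conj g).toMonoidHom) (KJ_le_Lstar r)
    rwa [Subgroup.map_sup, map_J hg] at this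

theorem mem_of_norm_Lstar (r : Rooted T K) {g : G}
    (h : (Lstar T K).map (MulAut.conj g).toMonoidHom = Lstar T K) : g ∈ Lstar T K := by
  obtain ⟨P, hP, hP1, e⟩ := r.isMax_star.1
  set L := Lstar T K
  have hPL : P ≤ L := le_normalizer.trans e.ge
  have hQ1 : Cfsg.pCoreOf 2 L ≠ ⊥ := fun q => hP1 (le_bot_iff.1
    ((LocalBasics.le_pCoreOf hPL e.le hP).trans_eq q))
  have hNQ := r.isMax_star.2 _ ⟨_, LocalBasics.isPGroup_pCoreOf 2 L, hQ1, rfl⟩
    (le_norm_Q L)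
  have hg : g ∈ normalizer (L : Set G) := mem_normalizer_of_map_eq h
  have := JCompBase.normalizer_le_pCoreOf 2 L hg
  rwa [hNQ] at this

/-- Two components with different maximal 2-local overgroups, both containing `T`. -/
structure Duo (T K K' : Subgroup G) : Prop where
  r : Rooted T K
  r' : Rooted T K'
  h : Std T (Lstar T K)
  h' : Std T (Lstar T K')
  ne : Lstar T K ≠ Lstar T K'

namespace Duo

theorem symm (d : Duo T K K') : Duo T K' K := ⟨d.r', d.r, d.h', d.h, d.ne.symm⟩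

theorem card_le (d : Duo T K K') : Nat.card ↥(Cz T K) ≤ 2 := card_Cz_le d.r d.r' d.ne

/-- A component of the maximal overgroup lies in the class and centralises `W_K`. -/
theorem other (d : Duo T K K') {K₂ : Subgroup G} (h₂ : Cfsg.IsJComponent T K₂)
    (h₂L : K₂ ≤ Lstar T K) :
    K₂ ∈ Rooted.cls T K ∧ (K₂ ≠ K → ∀ x ∈ Cfsg.wOf K, x ∈ centralizer (K₂ : Set G)) := by
  have hKL : K ≤ Lstar T K := le_sup_left.trans (KJ_le_Lstar d.r)
  refine ⟨⟨h₂, (d.r.le_normalizer_of_mem d.r.isMax_star.1 (KJ_le_Lstar d.r) d.r.comp hKL h₂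
    h₂L).trans (normalizer_le_wOf K)⟩, fun hne x hx => ?_⟩
  obtain ⟨t, v₀, k₀, -, hk₀, hl, hline, -⟩ := comp_line d.h d.r.comp hKL
  obtain ⟨t', u, k₂, -, hk₂, hl', hline', hdec'⟩ := comp_line d.h h₂ h₂L
  rw [comp_wOf d.h d.r.comp hKL hk₀ hl] at hx
  obtain ⟨v, hv, rfl⟩ := hx
  have hdiff : ¬ (π _ k₀ = π _ k₂ ∨ π _ k₀ = (π _ k₂)⁻¹) := by
    intro e
    refine hne (le_antisymm (comp_le_of_line d.h d.r.comp hKL h₂ h₂L ⟨k₀, hk₀, rfl⟩ hline' ?_)
      (comp_le_of_line d.h h₂ h₂L d.r.comp hKL ⟨k₂, hk₂, rfl⟩ hline e))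
    rcases e with q | q
    · exact Or.inl q.symm
    · exact Or.inr (by rw [q, inv_inv])
  have hfix := (ctx d.h).fix_other hl'.tv hl'.inv hl'.mem hl.tv hl.inv hl.mem hdiff hv
  rw [conj_ι] at hfix
  have hk : (k₂ : G) ∈ centralizer ({((Vq (Lstar T K)).subtype v : G)} : Set G) :=
    mem_centralizer_singleton_iff.2
      (mul_inv_eq_iff_eq_mul.1 (congrArg Subtype.val (ι_injective _ hfix)))
  intro k hk'
  have hle : zpowers (k₂ : G) ⊔ Cfsg.pCoreOf 2 (Lstar T K) ≤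
      centralizer ({((Vq (Lstar T K)).subtype v : G)} : Set G) :=
    sup_le (zpowers_le.2 hk) fun q hq => mem_centralizer_singleton_iff.2
      ((V_le_center _ v.2).2 q hq)
  exact mem_centralizer_singleton_iff.1 (hle (hdec' k hk'))

/-- `T` normalises `K`. -/
theorem norm (d : Duo T K K') : T ≤ normalizer (K : Set G) := by
  classical
  have hTJ : T ≤ normalizer (Cfsg.thompsonSubgroupOf 2 T : Set G) :=
    le_normalizer.trans thompson_normalizer
  -- an element of `T` either normalises `K` or swaps two elements of `Z0 T`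
  have key : ∀ {K K' : Subgroup G}, Duo T K K' → ∀ t ∈ T, ∀ w w₂ c : G,
      w ∈ Z0 T → w ∈ Cfsg.wOf K → w ≠ 1 → w₂ = t * w * t⁻¹ →
      c ∈ Cz T K' → c ≠ 1 →
      K.map (MulAut.conj t).toMonoidHom = K ∨ (w₂ ≠ w ∧ c = w * w₂ ∧ t * c * t⁻¹ = c) := by
    intro K K' d t ht w w₂ c hwZ hwW hw1 hw₂ hc hc1
    by_cases hfix : K.map (MulAut.conj t).toMonoidHom = K
    · exact Or.inl hfix
    right
    set K₂ := K.map (MulAut.conj t).toMonoidHom with hK₂def
    have hKL : K ≤ Lstar T K := le_sup_left.trans (KJ_le_Lstar d.r)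
    have h₂ : Cfsg.IsJComponent T K₂ := comp_conj_J d.r.comp (hTJ ht)
    have h₂L : K₂ ≤ Lstar T K := by
      rintro _ ⟨k, hk, rfl⟩
      exact mul_mem (mul_mem (d.h.T_le ht) (hKL hk)) (inv_mem (d.h.T_le ht))
    obtain ⟨hcls, hcent⟩ := d.other h₂ h₂L
    have hw₂Z : w₂ ∈ Z0 T := hw₂ ▸ LocalBasics.conj_mem_of_le_normalizer (T_norm_Z0 T) ht hwZ
    have hw₂W : w₂ ∈ Cfsg.wOf K₂ := by rw [hw₂, hK₂def, ← map_wOf]; exact ⟨w, hwW, rfl⟩
    have hw₂1 : w₂ ≠ 1 := hw₂ ▸ fun e => hw1 (conj_eq_one_iff.1 e)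
    have hne : w₂ ≠ w := fun e => hfix
      (comp_eq_of_meet d.h d.r.comp hKL h₂ h₂L hwW (e ▸ hw₂W) hw1).symm
    have hwC : w ∈ Cz T K₂ := ⟨hwZ, hcent hfix w hwW⟩
    have hL₂ : Lstar T K₂ = Lstar T K := Lstar_eq d.r (rooted_conj d.r (hTJ ht))
      (sup_le h₂L (le_sup_right.trans (KJ_le_Lstar d.r)))
    have d₂ : Duo T K₂ K' :=
      ⟨rooted_conj d.r (hTJ ht), d.r', hL₂.symm ▸ d.h, d.h', fun e => d.ne (hL₂.symm.trans e)⟩
    have hw₂C : w₂ ∈ Cz T K :=
      ⟨hw₂Z, (d₂.other d.r.comp (hKL.trans hL₂.ge)).2 (fun e => hfix e.symm) w₂ hw₂W⟩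
    have h4 : Nat.card ↥(Z0 T) ≤ 4 := by rw [card_Z0 d.r]; have := d.card_le; omega
    have hww : w * w₂ ≠ 1 := fun e => hne ((mul_eq_one_iff_eq_inv'.1 e).trans (Z0_inv hwZ))
    have hall : ∀ x ∈ Z0 T, x = 1 ∨ x = w ∨ x = w₂ ∨ x = w * w₂ := by
      have hle : closure ({w, w₂} : Set G) ≤ Z0 T := (closure_le _).2 (by
        rintro y (rfl | rfl); exacts [hwZ, hw₂Z])
      have hn1 : w ≠ w * w₂ := fun q => hw₂1 (by simpa using q)
      have hn2 : w₂ ≠ w * w₂ := fun q => hw1 (by simpa using q)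
      intro x hx
      by_contra hx'
      simp only [not_or] at hx'
      obtain ⟨hx1, hxw, hxw₂, hxww⟩ := hx'
      have h5 : ({⟨1, one_mem _⟩, ⟨w, hwZ⟩, ⟨w₂, hw₂Z⟩, ⟨w * w₂, mul_mem hwZ hw₂Z⟩, ⟨x, hx⟩} :
          Finset ↥(Z0 T)).card = 5 := by
        rw [Finset.card_insert_of_notMem, Finset.card_insert_of_notMem,
          Finset.card_insert_of_notMem, Finset.card_pair]
        all_goals simp [Ne.symm hw1, Ne.symm hw₂1, Ne.symm hww, Ne.symm hne, hn1, hn2,
          Ne.symm hx1, Ne.symm hxw, Ne.symm hxw₂, Ne.symm hxww]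
      haveI := Fintype.ofFinite ↥(Z0 T)
      have := Finset.card_le_univ
        ({⟨1, one_mem _⟩, ⟨w, hwZ⟩, ⟨w₂, hw₂Z⟩, ⟨w * w₂, mul_mem hwZ hw₂Z⟩, ⟨x, hx⟩} :
          Finset ↥(Z0 T))
      rw [h5, ← Nat.card_eq_fintype_card] at this
      omega
    refine ⟨hne, ?_, ?_⟩
    · rcases hall c hc.1 with q | q | q | q
      · exact absurd q hc1
      · exact absurd (meet_cls d.r d.r' hcls hwC (q ▸ hc) hw1).symm d.ne
      · exact absurd (meet d.r d.r' hw₂C (q ▸ hc) hw₂1).symm d.ne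
      · exact q
    · -- `t` interchanges `w` and `w₂`
      have hts : t * w₂ * t⁻¹ = w := by
        have hm := LocalBasics.conj_mem_of_le_normalizer (T_norm_Z0 T) ht hw₂Z
        have hcase := hall _ hm
        rcases hcase with q | q | q | q
        · exact absurd (conj_eq_one_iff.1 q) hw₂1
        · exact q
        · exact absurd ((mul_inv_eq_iff_eq_mul.1 q).trans (by
            have := mul_inv_eq_iff_eq_mul.1 hw₂.symm
            exact this.symm)) (fun e => hne (mul_left_cancel e))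
        · -- a 3-cycle is impossible for a 2-element
          exfalso
          have e1 : t * (w * w₂) * t⁻¹ = w := by
            calc t * (w * w₂) * t⁻¹ = (t * w * t⁻¹) * (t * w₂ * t⁻¹) := by group
              _ = w₂ * (w * w₂) := by rw [q, ← hw₂]
              _ = w := by rw [Z0_comm' hwZ hw₂Z, ← mul_assoc, Z0_sq hw₂Z, one_mul]
          have e3 : t ^ 3 * w * (t ^ 3)⁻¹ = w := by
            calc t ^ 3 * w * (t ^ 3)⁻¹ = t * (t * (t * w * t⁻¹) * t⁻¹) * t⁻¹ := by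
                  rw [pow_three]; group
              _ = w := by rw [← hw₂, q, e1]
          obtain ⟨n, hn⟩ := d.r.tp ⟨t, ht⟩
          have hn' : t ^ 2 ^ n = 1 := congrArg Subtype.val hn
          have hSt : t ^ 3 ∈ centralizer ({w} : Set G) :=
            mem_centralizer_singleton_iff.2 (mul_inv_eq_iff_eq_mul.1 e3)
          have hcop : (orderOf t).Coprime 3 := by
            obtain ⟨i, -, hi⟩ := (Nat.dvd_prime_pow Nat.prime_two).1 (orderOf_dvd_of_pow_eq_one hn')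
            rw [hi]; exact Nat.Coprime.pow_left i (by norm_num)
          obtain ⟨m, hm'⟩ := exists_pow_eq_self_of_coprime hcop.symm
          have := pow_mem hSt m
          rw [hm'] at this
          exact hne (hw₂.trans (mul_inv_eq_iff_eq_mul.2 (mem_centralizer_singleton_iff.1 this)))
      have hcw : c = w * w₂ := by
        rcases hall c hc.1 with q | q | q | q
        · exact absurd q hc1
        · exact absurd (meet_cls d.r d.r' hcls hwC (q ▸ hc) hw1).symm d.ne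
        · exact absurd (meet d.r d.r' hw₂C (q ▸ hc) hw₂1).symm d.ne
        · exact q
      rw [hcw]
      calc t * (w * w₂) * t⁻¹ = (t * w * t⁻¹) * (t * w₂ * t⁻¹) := by group
        _ = w₂ * w := by rw [← hw₂, hts]
        _ = w * w₂ := Z0_comm' hw₂Z hwZ
  intro t ht
  refine mem_normalizer_of_map_eq ?_
  by_contra hmove
  obtain ⟨w, hwZ, hwW, hw1, -, -, -⟩ := exists_w d.r
  obtain ⟨w', hw'Z, hw'W, hw'1, hw'C, hw'all, -⟩ := exists_w d.r'
  -- `Cz T K'` is nontrivial, since `Z0 T` is not `{1, w'}`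
  have hw₂Z : t * w * t⁻¹ ∈ Z0 T := LocalBasics.conj_mem_of_le_normalizer (T_norm_Z0 T) ht hwZ
  have hKL : K ≤ Lstar T K := le_sup_left.trans (KJ_le_Lstar d.r)
  have hne : t * w * t⁻¹ ≠ w := by
    intro e
    refine hmove (comp_eq_of_meet d.h d.r.comp hKL (comp_conj_J d.r.comp (hTJ ht)) ?_ hwW ?_ hw1).symm
    · rintro _ ⟨k, hk, rfl⟩
      exact mul_mem (mul_mem (d.h.T_le ht) (hKL hk)) (inv_mem (d.h.T_le ht))
    · rw [← map_wOf]; exact ⟨w, hwW, by simpa using e⟩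
  obtain ⟨c, hc, hc1⟩ : ∃ c ∈ Cz T K', c ≠ 1 := by
    by_contra hall
    push Not at hall
    have h1 : Nat.card ↥(Z0 T) = 2 := by
      rw [card_Z0 d.r', (eq_bot_iff_forall _).2 hall, card_bot]
    obtain ⟨y, -, huniq⟩ := (Nat.card_eq_two_iff' (1 : ↥(Z0 T))).1 h1
    exact hne (congrArg Subtype.val ((huniq ⟨_, hw₂Z⟩
      fun q => hw1 (conj_eq_one_iff.1 (congrArg Subtype.val q))).trans
      (huniq ⟨w, hwZ⟩ fun q => hw1 (congrArg Subtype.val q)).symm))
  obtain ⟨-, hcw, hct⟩ := (key d t ht w _ c hwZ hwW hw1 rfl hc hc1).resolve_left hmove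
  -- `t` fixes `K'`
  obtain ⟨c₁, hc₁, hc₁1⟩ : ∃ c₁ ∈ Cz T K, c₁ ≠ 1 := by
    by_contra hall
    push Not at hall
    have h1 := card_Z0 d.r
    rw [card_Z0 d.r', (eq_bot_iff_forall _).2 hall, card_bot] at h1
    have : Nat.card ↥(Cz T K') = 1 := by omega
    exact hc1 (mem_bot.1 (eq_bot_of_card_eq _ this ▸ hc))
  have hfix' : t * w' * t⁻¹ = w' := by
    rcases key d.symm t ht w' _ c₁ hw'Z hw'W hw'1 rfl hc₁ hc₁1 with q | ⟨hne', hcw', -⟩
    · have hm : t * w' * t⁻¹ ∈ Cfsg.wOf K' := by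
        rw [← q, ← map_wOf]; exact ⟨w', hw'W, rfl⟩
      exact (hw'all _ (LocalBasics.conj_mem_of_le_normalizer (T_norm_Z0 T) ht hw'Z) hm).resolve_left
        fun e => hw'1 (conj_eq_one_iff.1 e)
    · exfalso
      have hK'L : K' ≤ Lstar T K' := le_sup_left.trans (KJ_le_Lstar d.r')
      have h₂ := comp_conj_J d.r'.comp (hTJ ht)
      have h₂L : K'.map (MulAut.conj t).toMonoidHom ≤ Lstar T K' := by
        rintro _ ⟨k, hk, rfl⟩
        exact mul_mem (mul_mem (d.h'.T_le ht) (hK'L hk)) (inv_mem (d.h'.T_le ht))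
      have hne2 : K'.map (MulAut.conj t).toMonoidHom ≠ K' := by
        intro e
        refine hne' ((hw'all _ (LocalBasics.conj_mem_of_le_normalizer (T_norm_Z0 T) ht hw'Z)
          (by rw [← e, ← map_wOf]; exact ⟨w', hw'W, rfl⟩)).resolve_left
          fun q => hw'1 (conj_eq_one_iff.1 q))
      have h2C : t * c * t⁻¹ ∈ Cz T (K'.map (MulAut.conj t).toMonoidHom) := by
        refine ⟨LocalBasics.conj_mem_of_le_normalizer (T_norm_Z0 T) ht hc.1, ?_⟩
        rintro _ ⟨k, hk, rfl⟩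
        show t * k * t⁻¹ * (t * c * t⁻¹) = t * c * t⁻¹ * (t * k * t⁻¹)
        calc _ = t * (k * c) * t⁻¹ := by group
          _ = t * (c * k) * t⁻¹ := by rw [hc.2 k hk]
          _ = _ := by group
      rw [hct] at h2C
      -- `c` would be the element of `W_{K'}`
      obtain ⟨-, hcent⟩ := d.symm.other h₂ h₂L
      have hw'C₂ : w' ∈ Cz T (K'.map (MulAut.conj t).toMonoidHom) := ⟨hw'Z, hcent hne2 w' hw'W⟩
      have hcw'' : c ≠ w' := fun e => hw'C (e ▸ hc)
      have hle : Nat.card ↥(Cz T (K'.map (MulAut.conj t).toMonoidHom)) ≤ 2 := by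
        have e := card_Z0 (rooted_conj d.r' (hTJ ht))
        have e' := card_Z0 d.r'
        have := d.symm.card_le
        omega
      have h5 : ({⟨1, one_mem _⟩, ⟨c, h2C⟩, ⟨w', hw'C₂⟩} :
          Finset ↥(Cz T (K'.map (MulAut.conj t).toMonoidHom))).card = 3 := by
        rw [Finset.card_insert_of_notMem, Finset.card_pair]
        · exact fun q => hcw'' (congrArg Subtype.val q)
        · simp only [Finset.mem_insert, Finset.mem_singleton, not_or]
          exact ⟨fun q => hc1 (congrArg Subtype.val q).symm,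
            fun q => hw'1 (congrArg Subtype.val q).symm⟩
      haveI := Fintype.ofFinite ↥(Cz T (K'.map (MulAut.conj t).toMonoidHom))
      have := Finset.card_le_univ ({⟨1, one_mem _⟩, ⟨c, h2C⟩, ⟨w', hw'C₂⟩} :
          Finset ↥(Cz T (K'.map (MulAut.conj t).toMonoidHom)))
      rw [h5, ← Nat.card_eq_fintype_card] at this
      omega
  -- `w'` is one of the two interchanged elements
  set w₂ := t * w * t⁻¹ with hw₂
  have h4 : Nat.card ↥(Z0 T) ≤ 4 := by rw [card_Z0 d.r]; have := d.card_le; omega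
  have hw'ne : w' ≠ c := fun e => hw'C (e ▸ hc)
  have hwc : w ≠ c := fun e => by
    rw [hcw] at e
    exact hw1 (conj_eq_one_iff.1 (by simpa using e : w₂ = 1))
  have hw₂c : w₂ ≠ c := fun e => by
    rw [hcw] at e
    exact hw1 (by simpa using e)
  have hw'w : w' ≠ w := fun e => hne (by rw [e] at hfix'; exact hfix')
  have hw'w₂ : w' ≠ w₂ := by
    intro e
    rw [e] at hfix'
    exact hne (mul_left_cancel (mul_right_cancel hfix'))
  have h5 : ({⟨1, one_mem _⟩, ⟨w, hwZ⟩, ⟨w₂, hw₂Z⟩, ⟨c, hc.1⟩, ⟨w', hw'Z⟩} :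
      Finset ↥(Z0 T)).card = 5 := by
    rw [Finset.card_insert_of_notMem, Finset.card_insert_of_notMem,
      Finset.card_insert_of_notMem, Finset.card_pair]
    all_goals simp [Ne.symm hw1, Ne.symm hc1, Ne.symm hw'1, Ne.symm hne, hwc, hw₂c,
      Ne.symm hw'w, Ne.symm hw'w₂, Ne.symm hw'ne,
      show (1 : G) ≠ w₂ from fun q => hw1 (conj_eq_one_iff.1 q.symm)]
  haveI := Fintype.ofFinite ↥(Z0 T)
  have := Finset.card_le_univ ({⟨1, one_mem _⟩, ⟨w, hwZ⟩, ⟨w₂, hw₂Z⟩, ⟨c, hc.1⟩, ⟨w', hw'Z⟩} :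
      Finset ↥(Z0 T))
  rw [h5, ← Nat.card_eq_fintype_card] at this
  omega

end Duo

end Cfsg.Agent.JCompDuo
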