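import Mathlib
import Cfsg.Prelude.Def_JComponents
import Cfsg.Agent.Lib.JCompDuo

/-!
The group `⟨K, T⟩` for a component `K` normalised by `T`.
-/

set_option autoImplicit false

namespace Cfsg.Agent.JCompSide

open Subgroup Cfsg JCompBase JCompTV JCompCore JCompLine JCompClass JCompDuo
open scoped commutatorElement

variable {G : Type*} [Group G] [Finite G]

/-- The elements of `T` centralising `W_K`. -/
def Rt (T K : Subgroup G) : Subgroup G := T ⊓ centralizer (Cfsg.wOf K : Set G)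

theorem wOf_le_omega (K : Subgroup G) :
    Cfsg.wOf K ≤ Cfsg.omegaCenterOf (Cfsg.pCoreOf 2 K) :=
  commutator_le.mpr fun v hv k hk => by
    rw [commutatorElement_def, mul_assoc, mul_assoc, ← mul_assoc k]
    exact mul_mem hv (LocalBasics.conj_mem_of_le_normalizer
      ((LocalBasics.le_normalizer_pCoreOf 2 K).trans (JCompBase.normalizer_le_omegaCenter _)) hk
      (inv_mem hv))

theorem wOf_le_core (K : Subgroup G) : Cfsg.wOf K ≤ Cfsg.pCoreOf 2 K :=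
  (wOf_le_omega K).trans ((Offenders.omegaOne_le _).trans inf_le_left)

theorem core_comm_wOf {K : Subgroup G} {q x : G} (hq : q ∈ Cfsg.pCoreOf 2 K)
    (hx : x ∈ Cfsg.wOf K) : q * x = x * q :=
  ((Offenders.omegaOne_le _).trans inf_le_right) (wOf_le_omega K hx) q hq

/-- A component with all the data of one side. -/
structure Side (T K : Subgroup G) : Prop where
  r : Rooted T K
  h : Std T (Lstar T K)
  norm : T ≤ normalizer (K : Set G)
  small : Nat.card ↥(Cz T K) ≤ 2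

theorem Side.of_duo {T K K' : Subgroup G} (d : Duo T K K') : Side T K :=
  ⟨d.r, d.h, d.norm, d.card_le⟩

/-- A choice of `w` and of an element of order 3. -/
structure Pick (T K : Subgroup G) (w k : G) : Prop where
  side : Side T K
  wZ : w ∈ Z0 T
  wW : w ∈ Cfsg.wOf K
  w1 : w ≠ 1
  wC : w ∉ Cz T K
  wall : ∀ x ∈ Z0 T, x ∈ Cfsg.wOf K → x = 1 ∨ x = w
  wdec : ∀ x ∈ Z0 T, x ∈ Cz T K ∨ x * w ∈ Cz T K
  kK : k ∈ K
  k3 : k ^ 3 = 1
  kQ : k ∉ Cfsg.pCoreOf 2 K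

variable {T K : Subgroup G}

theorem Side.exists_pick (s : Side T K) : ∃ w k, Pick T K w k := by
  obtain ⟨w, hwZ, hwW, hw1, hwC, hall, hdec⟩ := exists_w s.r
  obtain ⟨x, hxK, hxo, hxQ⟩ : ∃ x ∈ K, Odd (orderOf x) ∧ x ∉ Cfsg.pCoreOf 2 K := by
    by_contra hno
    push Not at hno
    exact comp_not_twoGroup s.r.comp
      ((LocalBasics.isPGroup_pCoreOf 2 K).to_le (comp_gen_odd s.r.comp hno))
  refine ⟨w, x, s, hwZ, hwW, hw1, hwC, hall, hdec, hxK, ?_, hxQ⟩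
  have h3 := comp_cube s.r.comp hxK
  obtain ⟨n, hn⟩ := LocalBasics.isPGroup_pCoreOf 2 K ⟨_, h3⟩
  have hn' : (x ^ 3) ^ 2 ^ n = 1 := congrArg Subtype.val hn
  refine orderOf_eq_one_iff.1 (Nat.eq_one_of_dvd_coprimes (a := orderOf x) (b := 2 ^ n) ?_ ?_
    (orderOf_dvd_of_pow_eq_one hn'))
  · exact (Nat.coprime_two_right.2 hxo).pow_right n
  · exact orderOf_pow_dvd 3

variable {w k : G}

namespace Pick

variable (p : Pick T K w k)
include p

theorem K_le : K ≤ Lstar T K := le_sup_left.trans (KJ_le_Lstar p.side.r)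

theorem core_le_T : Cfsg.pCoreOf 2 K ≤ T :=
  (comp_core_Q p.side.h p.side.r.comp p.K_le).trans p.side.h.Q_le_T

theorem core_le_Rt : Cfsg.pCoreOf 2 K ≤ Rt T K :=
  le_inf p.core_le_T fun _ hq _ hx => (core_comm_wOf hq hx).symm

theorem W_le_Rt : Cfsg.wOf K ≤ Rt T K := (wOf_le_core K).trans p.core_le_Rt

theorem W_sq {x : G} (hx : x ∈ Cfsg.wOf K) : x * x = 1 := p.side.r.comp.2.2.2.2.2 x hx

theorem W_inv {x : G} (hx : x ∈ Cfsg.wOf K) : x⁻¹ = x :=
  inv_eq_of_mul_eq_one_right (p.W_sq hx)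

theorem W_comm {x y : G} (hx : x ∈ Cfsg.wOf K) (hy : y ∈ Cfsg.wOf K) : x * y = y * x :=
  core_comm_wOf (wOf_le_core K hx) hy

theorem decomp {x : G} (hx : x ∈ K) : ∃ i : ℕ, ∃ q ∈ Cfsg.pCoreOf 2 K, x = k ^ i * q :=
  comp_decomp p.side.r.comp p.kK p.kQ hx

theorem k_moves {x : G} (hx : x ∈ Cfsg.wOf K) (hx1 : x ≠ 1) : k * x * k⁻¹ ≠ x := by
  intro e
  refine no_fixed p.side.r hx hx1 fun y hy => ?_
  obtain ⟨i, q, hq, rfl⟩ := p.decomp hy
  exact (Commute.mul_left ((show Commute k x from mul_inv_eq_iff_eq_mul.1 e).pow_left i)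
    (core_comm_wOf hq hx)).eq

theorem k_W {x : G} (hx : x ∈ Cfsg.wOf K) : k * x * k⁻¹ ∈ Cfsg.wOf K :=
  LocalBasics.conj_mem_of_le_normalizer (le_normalizer.trans (normalizer_le_wOf K)) p.kK hx

theorem T_W {t x : G} (ht : t ∈ T) (hx : x ∈ Cfsg.wOf K) : t * x * t⁻¹ ∈ Cfsg.wOf K :=
  LocalBasics.conj_mem_of_le_normalizer (p.side.norm.trans (normalizer_le_wOf K)) ht hx

theorem u_ne : k * w * k⁻¹ ≠ w := p.k_moves p.wW p.w1

theorem u_one : k * w * k⁻¹ ≠ 1 := fun e => p.w1 (conj_eq_one_iff.1 e)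

theorem W_cases {x : G} (hx : x ∈ Cfsg.wOf K) :
    x = 1 ∨ x = w ∨ x = k * w * k⁻¹ ∨ x = w * (k * w * k⁻¹) :=
  S2946.four_elems p.side.r.comp.2.2.2.2.1 (fun _ h => p.W_sq h) p.wW (p.k_W p.wW) p.w1 p.u_one
    p.u_ne hx

theorem u_sq : k * (k * w * k⁻¹) * k⁻¹ = w * (k * w * k⁻¹) := by
  rcases p.W_cases (p.k_W (p.k_W p.wW)) with e | e | e | e
  · exact absurd (conj_eq_one_iff.1 e) p.u_one
  · exfalso
    refine p.u_ne ?_
    calc k * w * k⁻¹ = k * (k * (k * w * k⁻¹) * k⁻¹) * k⁻¹ := by rw [e]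
      _ = k ^ 3 * w * (k ^ 3)⁻¹ := by rw [pow_three]; group
      _ = w := by rw [p.k3]; group
  · exact absurd e (p.k_moves (p.k_W p.wW) p.u_one)
  · exact e

theorem T_w {t : G} (ht : t ∈ T) : t * w * t⁻¹ = w :=
  (p.wall _ (LocalBasics.conj_mem_of_le_normalizer (T_norm_Z0 T) ht p.wZ)
    (p.T_W ht p.wW)).resolve_left fun e => p.w1 (conj_eq_one_iff.1 e)

theorem T_u {t : G} (ht : t ∈ T) :
    (t * (k * w * k⁻¹) * t⁻¹ = k * w * k⁻¹ ∧ t ∈ Rt T K) ∨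
      (t * (k * w * k⁻¹) * t⁻¹ = w * (k * w * k⁻¹) ∧ t ∉ Rt T K) := by
  set u := k * w * k⁻¹ with hu
  rcases p.W_cases (p.T_W ht (p.k_W p.wW)) with e | e | e | e
  · exact absurd (conj_eq_one_iff.1 e) p.u_one
  · exact absurd (mul_left_cancel (mul_right_cancel (e.trans (p.T_w ht).symm))) p.u_ne
  · refine Or.inl ⟨e, ht, fun x hx => ?_⟩
    have h1 : t * w = w * t := mul_inv_eq_iff_eq_mul.1 (p.T_w ht)
    have h2 : t * u = u * t := mul_inv_eq_iff_eq_mul.1 e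
    rcases p.W_cases hx with rfl | rfl | rfl | rfl
    · simp
    · exact h1.symm
    · exact h2.symm
    · exact (Commute.mul_right (show Commute t w from h1) (show Commute t u from h2)).eq.symm
  · refine Or.inr ⟨e, fun h => ?_⟩
    have := mul_inv_eq_iff_eq_mul.2 (h.2 u (p.k_W p.wW)).symm
    rw [e] at this
    exact p.w1 (mul_eq_right.1 this)

theorem T_move {t x : G} (ht : t ∈ T) (hx : x ∈ Cfsg.wOf K) :
    t * x * t⁻¹ = x ∨ t * x * t⁻¹ = x * w := by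
  set u := k * w * k⁻¹ with hu
  rcases p.T_u ht with ⟨-, htR⟩ | ⟨e, -⟩
  · exact Or.inl (mul_inv_eq_iff_eq_mul.2 (htR.2 x hx).symm)
  · rcases p.W_cases hx with rfl | rfl | rfl | rfl
    · left; group
    · exact Or.inl (p.T_w ht)
    · right; rw [e, p.W_comm p.wW (p.k_W p.wW)]
    · right
      rw [show t * (w * u) * t⁻¹ = (t * w * t⁻¹) * (t * u * t⁻¹) by group, p.T_w ht, e,
        mul_assoc w u, ← p.W_comm p.wW (p.k_W p.wW)]

theorem mul_not_mem {a b : G} (ha : a ∈ T) (hb : b ∈ T) (haR : a ∉ Rt T K) (hbR : b ∉ Rt T K) :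
    a * b ∈ Rt T K := by
  rcases p.T_u (mul_mem ha hb) with ⟨-, h⟩ | ⟨e, -⟩
  · exact h
  exfalso
  have ea := ((p.T_u ha).resolve_left fun q => haR q.2).1
  have eb := ((p.T_u hb).resolve_left fun q => hbR q.2).1
  refine p.w1 ?_
  set u := k * w * k⁻¹
  have : a * b * u * (a * b)⁻¹ = u := by
    calc a * b * u * (a * b)⁻¹ = a * (b * u * b⁻¹) * a⁻¹ := by group
      _ = (a * w * a⁻¹) * (a * u * a⁻¹) := by rw [eb]; group
      _ = u := by rw [p.T_w ha, ea, ← mul_assoc, p.W_sq p.wW, one_mul]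
  exact mul_eq_right.1 (e.symm.trans this)

theorem exists_not_mem : ∃ A, Offenders.IsMaxIn 2 T A ∧ ¬ A ≤ Rt T K := by
  by_contra hall
  push Not at hall
  have hJR : Cfsg.thompsonSubgroupOf 2 T ≤ Rt T K := by
    rw [Offenders.thompsonOf_eq]; exact sSup_le hall
  suffices hk : k ∈ centralizer (Cfsg.wOf K : Set G) from
    p.u_ne (mul_inv_eq_iff_eq_mul.2 (hk w p.wW).symm)
  have hle : ⁅K, Cfsg.thompsonSubgroupOf 2 T⁆ ≤ centralizer (Cfsg.wOf K : Set G) :=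
    commutator_le.2 fun a ha j hj => by
      rw [commutatorElement_def]
      exact mul_mem (LocalBasics.conj_mem_of_le_normalizer (LocalBasics.le_normalizer_centralizer
        (le_normalizer.trans (normalizer_le_wOf K))) ha (hJR hj).2) (inv_mem (hJR hj).2)
  exact hle (p.side.r.comp.2.1.ge p.kK)

theorem exists_out : ∃ t ∈ T, t ∉ Rt T K := by
  obtain ⟨A, hA, hAR⟩ := p.exists_not_mem
  obtain ⟨a, ha, haR⟩ := SetLike.not_le_iff_exists.1 hAR
  exact ⟨a, hA.1 ha, haR⟩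

theorem Rt_index : (Rt T K).relIndex T = 2 := by
  obtain ⟨t, ht, htR⟩ := p.exists_out
  refine index_eq_two_iff.2 ⟨⟨t, ht⟩, fun b => ?_⟩
  simp only [mem_subgroupOf, coe_mul]
  by_cases hb : (b : G) ∈ Rt T K
  · exact Or.inr ⟨hb, fun e => htR (by simpa using mul_mem (inv_mem hb) e)⟩
  · exact Or.inl ⟨p.mul_not_mem b.2 ht hb htR, hb⟩

theorem Rt_norm_T : T ≤ normalizer (Rt T K : Set G) :=
  LocalBasics.le_normalizer_inf le_normalizer
    (LocalBasics.le_normalizer_centralizer (p.side.norm.trans (normalizer_le_wOf K)))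

/-- How `T` moves `k` modulo `O₂(K)`. -/
theorem conj_k {t : G} (ht : t ∈ T) :
    (t ∈ Rt T K → ∃ q ∈ Cfsg.pCoreOf 2 K, t * k * t⁻¹ = k * q) ∧
      (t ∉ Rt T K → ∃ q ∈ Cfsg.pCoreOf 2 K, t * k * t⁻¹ = k⁻¹ * q) := by
  obtain ⟨i, q, hq, e⟩ := p.decomp (LocalBasics.conj_mem_of_le_normalizer p.side.norm ht p.kK)
  have hact : t * (k * w * k⁻¹) * t⁻¹ = k ^ i * w * (k ^ i)⁻¹ := by
    calc t * (k * w * k⁻¹) * t⁻¹ = (t * k * t⁻¹) * (t * w * t⁻¹) * (t * k * t⁻¹)⁻¹ := by group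
      _ = k ^ i * (q * w) * q⁻¹ * (k ^ i)⁻¹ := by rw [p.T_w ht, e]; group
      _ = k ^ i * w * (k ^ i)⁻¹ := by rw [core_comm_wOf hq p.wW]; group
  have hmod : k ^ i = k ^ (i % 3) := by
    conv_lhs => rw [← Nat.mod_add_div i 3, pow_add, pow_mul, p.k3, one_pow, mul_one]
  rw [hmod] at hact e
  have hi : i % 3 = 0 ∨ i % 3 = 1 ∨ i % 3 = 2 := by omega
  have hk2 : k ^ 2 = k⁻¹ := eq_inv_of_mul_eq_one_left (by rw [← pow_succ]; exact p.k3)
  rcases hi with h | h | h <;> rw [h] at hact e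
  · exfalso
    rw [pow_zero, one_mul, inv_one, mul_one] at hact
    rcases p.T_u ht with ⟨e', -⟩ | ⟨e', -⟩
    · exact p.u_ne (e'.symm.trans hact)
    · exact p.u_one (mul_eq_left.1 (e'.symm.trans hact))
  · rw [pow_one] at hact e
    refine ⟨fun _ => ⟨q, hq, e⟩, fun htR => absurd ?_ p.w1⟩
    exact mul_eq_right.1 (((p.T_u ht).resolve_left fun h => htR h.2).1.symm.trans hact)
  · rw [hk2] at e
    refine ⟨fun htR => absurd ?_ p.w1, fun _ => ⟨q, hq, e⟩⟩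
    have h1 : k ^ 2 * w * (k ^ 2)⁻¹ = w * (k * w * k⁻¹) := by
      rw [← p.u_sq, pow_two]; group
    have h2 := ((p.T_u ht).resolve_right fun h => h.2 htR).1
    rw [h2, h1] at hact
    exact mul_eq_right.1 hact.symm

theorem k_Rt {r : G} (hr : r ∈ Rt T K) : k * r * k⁻¹ ∈ Rt T K := by
  obtain ⟨q, hq, e⟩ := (p.conj_k hr.1).1 hr
  have hkr : k * r * k⁻¹ = k * q⁻¹ * k⁻¹ * r := by
    calc k * r * k⁻¹ = k * (r * k * r⁻¹)⁻¹ * r := by group
      _ = k * q⁻¹ * k⁻¹ * r := by rw [e]; group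
  rw [hkr]
  exact mul_mem (p.core_le_Rt (LocalBasics.conj_mem_of_le_normalizer
    (LocalBasics.le_normalizer_pCoreOf 2 K) p.kK (inv_mem hq))) hr

theorem K_norm_Rt : K ≤ normalizer (Rt T K : Set G) := by
  intro x hx
  obtain ⟨i, q, hq, rfl⟩ := p.decomp hx
  refine mul_mem (pow_mem (mem_normalizer_of_map_eq (eq_of_le_of_card_ge ?_
    (card_map_of_injective (MulAut.conj k).injective).ge)) i) (p.Rt_norm_T (p.core_le_T hq))
  rintro _ ⟨r, hr, rfl⟩
  exact p.k_Rt hr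

theorem P_norm_Rt : K ⊔ T ≤ normalizer (Rt T K : Set G) := sup_le p.K_norm_Rt p.Rt_norm_T

theorem P_le : K ⊔ T ≤ Lstar T K := sup_le p.K_le p.side.h.T_le

theorem mem_P {x : G} (hx : x ∈ K ⊔ T) : ∃ i : ℕ, ∃ t ∈ T, x = k ^ i * t := by
  rw [← SetLike.mem_coe, coe_mul_of_right_le_normalizer_left K T p.side.norm] at hx
  obtain ⟨y, hy, t, ht, rfl⟩ := hx
  obtain ⟨i, q, hq, rfl⟩ := p.decomp hy
  exact ⟨i, q * t, mul_mem (p.core_le_T hq) ht, mul_assoc _ _ _⟩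

theorem k_not_mem : k ∉ T := by
  intro hk
  obtain ⟨n, hn⟩ := p.side.r.tp ⟨k, hk⟩
  have hn' : k ^ 2 ^ n = 1 := congrArg Subtype.val hn
  have h1 : k = 1 := orderOf_eq_one_iff.1 (Nat.eq_one_of_dvd_coprimes
    (Nat.Coprime.pow_right n (by norm_num : Nat.Coprime 3 2))
    (orderOf_dvd_of_pow_eq_one p.k3) (orderOf_dvd_of_pow_eq_one hn'))
  exact p.kQ (h1 ▸ one_mem _)

theorem comm_not_mem {t : G} (ht : t ∈ T) (htR : t ∉ Rt T K) : k * t * k⁻¹ * t⁻¹ ∉ T := by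
  obtain ⟨q, hq, e⟩ := (p.conj_k ht).2 htR
  intro h
  have hck : k * t * k⁻¹ * t⁻¹ = (k * q⁻¹ * k⁻¹) * (k * k) := by
    calc k * t * k⁻¹ * t⁻¹ = k * (t * k * t⁻¹)⁻¹ := by group
      _ = _ := by rw [e]; group
  have hq' := p.core_le_T (LocalBasics.conj_mem_of_le_normalizer
    (LocalBasics.le_normalizer_pCoreOf 2 K) p.kK (inv_mem hq))
  have hkk : k * k ∈ T := by
    have := mul_mem (inv_mem hq') (hck ▸ h)
    rwa [inv_mul_cancel_left] at this
  have := mul_mem hkk hkk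
  rw [show k * k * (k * k) = k ^ 3 * k by rw [pow_three]; group, p.k3, one_mul] at this
  exact p.k_not_mem this

theorem sylow_P : Cfsg.IsSylowTwoIn T (K ⊔ T) :=
  ⟨le_sup_right, p.side.r.tp, p.side.h.sylT.2.2.of_dvd_nat
    ⟨_, (relIndex_mul_relIndex T (K ⊔ T) (Lstar T K) le_sup_right p.P_le).symm⟩⟩

theorem core_P : Cfsg.pCoreOf 2 (K ⊔ T) = Rt T K := by
  have hRp : IsPGroup 2 ↥(Rt T K) := p.side.r.tp.to_le inf_le_left
  refine le_antisymm (fun x hx => ?_)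
    (LocalBasics.le_pCoreOf (inf_le_left.trans le_sup_right) p.P_norm_Rt hRp)
  have hOT : Cfsg.pCoreOf 2 (K ⊔ T) ≤ T := le_sylowTwoIn p.sylow_P (LocalBasics.pCoreOf_le 2 _)
    (LocalBasics.le_normalizer_pCoreOf 2 _) (LocalBasics.isPGroup_pCoreOf 2 _)
  by_contra hxR
  refine p.comm_not_mem (hOT hx) hxR (hOT ?_)
  exact mul_mem (LocalBasics.conj_mem_of_le_normalizer (LocalBasics.le_normalizer_pCoreOf 2 _)
    (mem_sup_left p.kK) hx) (inv_mem hx)

theorem inf_eq_core : K ⊓ T = Cfsg.pCoreOf 2 K := by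
  refine le_antisymm ?_ (le_inf (LocalBasics.pCoreOf_le 2 K) p.core_le_T)
  rintro x ⟨hxK, hxT⟩
  obtain ⟨i, q, hq, rfl⟩ := p.decomp hxK
  change k ^ i * q ∈ K at hxK
  change k ^ i * q ∈ T at hxT
  have hki : k ^ i ∈ T := by
    have := mul_mem hxT (inv_mem (p.core_le_T hq))
    rwa [mul_inv_cancel_right] at this
  have hmod : k ^ i = k ^ (i % 3) := by
    conv_lhs => rw [← Nat.mod_add_div i 3, pow_add, pow_mul, p.k3, one_pow, mul_one]
  rcases (by omega : i % 3 = 0 ∨ i % 3 = 1 ∨ i % 3 = 2) with h | h | h <;> rw [h] at hmod <;>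
    rw [hmod] at hki ⊢
  · rw [pow_zero, one_mul]; exact hq
  · rw [pow_one] at hki; exact absurd hki p.k_not_mem
  · have := mul_mem hki hki
    rw [show k ^ 2 * k ^ 2 = k ^ 3 * k by rw [← pow_add, ← pow_succ], p.k3, one_mul] at this
    exact absurd this p.k_not_mem

theorem relIndex_Rt : (Rt T K).relIndex (K ⊔ T) = 6 := by
  have h1 := OffendersReplace.card_sup_mul_card_inf T K p.side.norm
  rw [inf_comm, p.inf_eq_core, sup_comm] at h1
  have h2 := HallCore.card_mul_relIndex (LocalBasics.pCoreOf_le 2 K)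
  rw [p.side.r.comp.2.2.1] at h2
  have h3 := HallCore.card_mul_relIndex (le_sup_right : T ≤ K ⊔ T)
  have hT : T.relIndex (K ⊔ T) = 3 := by
    refine Nat.eq_of_mul_eq_mul_left (Nat.mul_pos (Nat.card_pos (α := T))
      (Nat.card_pos (α := ↥(Cfsg.pCoreOf 2 K)))) ?_
    rw [← h3, ← h2] at h1
    linarith
  rw [← relIndex_mul_relIndex (Rt T K) T _ inf_le_left le_sup_right, p.Rt_index, hT]

theorem nonabelian : ¬ ⁅K ⊔ T, K ⊔ T⁆ ≤ Cfsg.pCoreOf 2 (K ⊔ T) := by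
  intro h
  obtain ⟨t, ht, htR⟩ := p.exists_out
  have := h (commutator_mem_commutator (mem_sup_left p.kK) (mem_sup_right ht))
  rw [p.core_P] at this
  exact p.comm_not_mem ht htR this.1

theorem cent_Rt : centralizer (Rt T K : Set G) ≤ Rt T K := by
  have h1 : Cfsg.pCoreOf 2 (Lstar T K) ≤ Rt T K := p.core_P ▸
    LocalBasics.le_pCoreOf (p.side.h.Q_le_T.trans le_sup_right)
      (p.P_le.trans (le_norm_Q _)) (LocalBasics.isPGroup_pCoreOf 2 _)
  exact ((centralizer_le (SetLike.coe_subset_coe.2 h1)).trans p.side.h.cent_Q).trans h1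

theorem omegaCenter_sylow_le (S : Sylow 2 G) (hTS : T ≤ (S : Subgroup G)) :
    Cfsg.omegaCenterOf (S : Subgroup G) ≤ Cfsg.omegaCenterOf T :=
  (closure_le _).2 fun x hx => Offenders.mem_omegaOne
    ⟨(p.cent_Rt fun r hr => hx.1.2 r (hTS hr.1)).1, fun t ht => hx.1.2 t (hTS ht)⟩ hx.2

theorem omega_comm : ⁅Cfsg.omegaCenterOf T, K ⊔ T⁆ ≠ ⊥ := by
  intro e
  obtain ⟨S, hS⟩ := p.side.r.tp.exists_le_sylow
  refine not_le_sylow_normalizer p.side.r.comp p.side.r.tp S ?_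
  refine ((sup_le_sup_left (Offenders.thompsonOf_le T) K).trans fun x hx => ?_).trans
    ((centralizer_le (SetLike.coe_subset_coe.2 (p.omegaCenter_sylow_le S hS))).trans
      (p.side.r.zentral S))
  intro z hz
  exact commutatorElement_eq_one_iff_mul_comm.1 (mem_bot.1 (e ▸ commutator_mem_commutator hz hx))

theorem T_Z0 {t z : G} (ht : t ∈ T) (hz : z ∈ Z0 T) : t * z = z * t := by
  classical
  refine mul_inv_eq_iff_eq_mul.1 ?_
  have hC : ∀ c ∈ Cz T K, t * c * t⁻¹ = c := by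
    intro c hc
    by_cases hc1 : c = 1
    · subst hc1; group
    have hm : t * c * t⁻¹ ∈ Cz T K :=
      ⟨LocalBasics.conj_mem_of_le_normalizer (T_norm_Z0 T) ht hc.1,
        LocalBasics.conj_mem_of_le_normalizer (LocalBasics.le_normalizer_centralizer p.side.norm)
          ht hc.2⟩
    by_contra hne
    have h3 : ({⟨1, one_mem _⟩, ⟨c, hc⟩, ⟨_, hm⟩} : Finset ↥(Cz T K)).card = 3 := by
      rw [Finset.card_insert_of_notMem, Finset.card_pair]
      · exact fun q => hne (congrArg Subtype.val q).symm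
      · simp only [Finset.mem_insert, Finset.mem_singleton, not_or]
        exact ⟨fun q => hc1 (congrArg Subtype.val q).symm,
          fun q => hc1 (conj_eq_one_iff.1 (congrArg Subtype.val q).symm)⟩
    have := Fintype.ofFinite ↥(Cz T K)
    have := Finset.card_le_univ ({⟨1, one_mem _⟩, ⟨c, hc⟩, ⟨_, hm⟩} : Finset ↥(Cz T K))
    rw [h3, ← Nat.card_eq_fintype_card] at this
    have := p.side.small
    omega
  rcases p.wdec z hz with h | h
  · exact hC z h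
  · calc t * z * t⁻¹ = (t * (z * w) * t⁻¹) * (t * w * t⁻¹)⁻¹ := by group
      _ = z := by rw [hC _ h, p.T_w ht, mul_inv_cancel_right]

theorem Z0_le_Rt : Z0 T ≤ Rt T K := by
  intro z hz
  rcases p.T_u (Z0_le_T T hz) with ⟨-, h⟩ | ⟨e, -⟩
  · exact h
  exfalso
  set u := k * w * k⁻¹ with hu
  have hCu : ∀ c ∈ Cz T K, c * u * c⁻¹ = u := fun c hc => by
    have h1 : c * k = k * c := (hc.2 k p.kK).symm
    have h2 : c * w * c⁻¹ = w := mul_inv_eq_iff_eq_mul.2 (Z0_comm' hc.1 p.wZ)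
    calc c * u * c⁻¹ = (c * k) * w * (c * k)⁻¹ := by rw [hu]; group
      _ = k * (c * w * c⁻¹) * k⁻¹ := by rw [h1]; group
      _ = u := by rw [h2]
  have hfix : z * u * z⁻¹ = u := by
    rcases p.wdec z hz with h | h
    · exact hCu z h
    · calc z * u * z⁻¹ = (z * w) * (w⁻¹ * u * w⁻¹⁻¹) * (z * w)⁻¹ := by group
        _ = u := by
          rw [p.W_inv p.wW, p.W_comm p.wW (p.k_W p.wW), mul_assoc u w, mul_inv_cancel, mul_one,
            hCu _ h]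
  exact p.w1 (mul_eq_right.1 (e.symm.trans hfix))

/-- `W_K Z0 T`. -/
theorem E0_le : Cfsg.wOf K ⊔ Z0 T ≤ Rt T K := sup_le p.W_le_Rt p.Z0_le_Rt

theorem E0_comm {x r : G} (hx : x ∈ Cfsg.wOf K ⊔ Z0 T) (hr : r ∈ Rt T K) : r * x = x * r :=
  (sup_le (fun _ hy => mem_centralizer_singleton_iff.2 (hr.2 _ hy))
    (fun _ hy => mem_centralizer_singleton_iff.2 (p.T_Z0 hr.1 hy).symm) :
    Cfsg.wOf K ⊔ Z0 T ≤ centralizer ({r} : Set G)) hx r rfl

theorem E0_mem {x : G} (hx : x ∈ Cfsg.wOf K ⊔ Z0 T) :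
    ∃ v ∈ Cfsg.wOf K, ∃ c ∈ Cz T K, x = v * c := by
  rw [← SetLike.mem_coe, coe_mul_of_left_le_normalizer_right (Cfsg.wOf K) (Z0 T)
    (OffendersReplace.le_normalizer_of_commute fun a ha b hb =>
      p.T_Z0 (p.W_le_Rt ha).1 hb)] at hx
  obtain ⟨v, hv, z, hz, rfl⟩ := hx
  rcases p.wdec z hz with h | h
  · exact ⟨v, hv, z, h, rfl⟩
  · refine ⟨v * w, mul_mem hv p.wW, z * w, h, ?_⟩
    show v * z = v * w * (z * w)
    rw [mul_assoc v w, ← mul_assoc w z w, Z0_comm' p.wZ hz, mul_assoc z, Z0_sq p.wZ, mul_one]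

theorem E0_ea : IsElementaryAbelian 2 (Cfsg.wOf K ⊔ Z0 T : Subgroup G) :=
  Offenders.ea_sup ((Offenders.ea_iff _).2 ⟨fun _ hx _ hy => p.W_comm hx hy,
    fun x hx => by rw [pow_two]; exact p.W_sq hx⟩) (Z0_ea T)
    fun _ ha _ hb => p.T_Z0 (p.W_le_Rt ha).1 hb

theorem k_E0 {x : G} (hx : x ∈ Cfsg.wOf K ⊔ Z0 T) : k * x * k⁻¹ ∈ Cfsg.wOf K ⊔ Z0 T := by
  obtain ⟨v, hv, c, hc, rfl⟩ := p.E0_mem hx
  rw [show k * (v * c) * k⁻¹ = (k * v * k⁻¹) * (k * c * k⁻¹) by group,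
    mul_inv_eq_iff_eq_mul.2 (hc.2 k p.kK)]
  exact mul_mem (mem_sup_left (p.k_W hv)) (mem_sup_right hc.1)

theorem T_E0 {t x : G} (ht : t ∈ T) (hx : x ∈ Cfsg.wOf K ⊔ Z0 T) :
    t * x * t⁻¹ ∈ Cfsg.wOf K ⊔ Z0 T :=
  LocalBasics.conj_mem_of_le_normalizer (LocalBasics.le_normalizer_sup
    (p.side.norm.trans (normalizer_le_wOf K)) (T_norm_Z0 T)) ht hx

theorem fixed_E0 {a x : G} (ha : a ∈ T) (haR : a ∉ Rt T K) (hx : x ∈ Cfsg.wOf K ⊔ Z0 T)
    (hfix : a * x = x * a) : x ∈ Z0 T := by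
  obtain ⟨v, hv, c, hc, rfl⟩ := p.E0_mem hx
  refine mul_mem ?_ hc.1
  have hav : a * v * a⁻¹ = v := by
    calc a * v * a⁻¹ = (a * (v * c) * a⁻¹) * (a * c * a⁻¹)⁻¹ := by group
      _ = v := by
        rw [mul_inv_eq_iff_eq_mul.2 hfix, mul_inv_eq_iff_eq_mul.2 (p.T_Z0 ha hc.1),
          mul_inv_cancel_right]
  set u := k * w * k⁻¹ with hu
  have e := ((p.T_u ha).resolve_left fun q => haR q.2).1
  rcases p.W_cases hv with rfl | rfl | rfl | rfl
  · exact one_mem _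
  · exact p.wZ
  · exact absurd (mul_eq_right.1 (e.symm.trans hav)) p.w1
  · refine absurd ?_ p.w1
    rw [show a * (w * u) * a⁻¹ = (a * w * a⁻¹) * (a * u * a⁻¹) by group, p.T_w ha, e] at hav
    exact mul_eq_right.1 (mul_left_cancel hav)

theorem card_E0 : 2 * Nat.card ↥(Z0 T) ≤ Nat.card ↥(Cfsg.wOf K ⊔ Z0 T) := by
  have h := OffendersReplace.card_sup_mul_card_inf (Cfsg.wOf K) (Z0 T)
    (OffendersReplace.le_normalizer_of_commute fun a ha b hb => p.T_Z0 (p.W_le_Rt ha).1 hb)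
  rw [p.side.r.comp.2.2.2.2.1] at h
  have h2 : Nat.card ↥(Cfsg.wOf K ⊓ Z0 T) ≤ 2 := by
    rw [inf_comm]
    exact (Cfsg.Agent.S2946.result p.side.r.char2 p.side.r.solv p.side.r.zentral T p.side.r.tp
      (T_ne_bot p.side.r) K p.side.r.comp (Z0 T) rfl).1.le
  nlinarith

end Pick

end Cfsg.Agent.JCompSide
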