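import Mathlib
import Cfsg.Prelude.Def_JComponents
import Cfsg.Agent.Lib.JCompSide

/-!
Two sides `⟨K, T⟩`, `⟨K', T⟩`: what happens when `W_{K'}` centralises `W_K`.
-/

set_option autoImplicit false

namespace Cfsg.Agent.JCompAdjacent

open Subgroup Cfsg JCompBase JCompTV JCompCore JCompLine JCompClass JCompDuo JCompSide JCompExist

variable {G : Type*} [Group G] [Finite G]

/-- A subgroup in which any two outside elements multiply inside has index at most 2. -/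
theorem card_le_double {A B : Subgroup G} (hBA : B ≤ A)
    (h : ∀ x ∈ A, ∀ y ∈ A, x ∉ B → y ∉ B → x * y ∈ B) : Nat.card A ≤ 2 * Nat.card B := by
  by_cases hall : A ≤ B
  · have := Subgroup.card_le_of_le hall
    omega
  obtain ⟨a, ha, haB⟩ := SetLike.not_le_iff_exists.1 hall
  have hidx : (B.subgroupOf A).index = 2 := index_eq_two_iff.2 ⟨⟨a, ha⟩, fun b => by
    simp only [mem_subgroupOf, coe_mul]
    by_cases hb : (b : G) ∈ B
    · exact Or.inr ⟨hb, fun e => haB (by simpa using mul_mem (inv_mem hb) e)⟩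
    · exact Or.inl ⟨h b b.2 a ha hb haB, hb⟩⟩
  rw [← card_mul_index (B.subgroupOf A), hidx, mul_comm,
    Nat.card_congr (subgroupOfEquivOfLe hBA).toEquiv]

theorem sup_zpowers_cases {U : Subgroup G} {a : G} (ha : a * a = 1)
    (hc : ∀ x ∈ U, x * a = a * x) {x : G} (hx : x ∈ U ⊔ zpowers a) :
    ∃ e ∈ U, x = e ∨ x = e * a := by
  rw [← SetLike.mem_coe, coe_mul_of_left_le_normalizer_right U (zpowers a)
    (OffendersReplace.le_normalizer_of_commute fun b hb c hcz => by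
      obtain ⟨i, rfl⟩ := hcz
      exact ((show Commute b a from hc b hb).zpow_right i).eq)] at hx
  obtain ⟨e, he, y, ⟨i, rfl⟩, rfl⟩ := hx
  refine ⟨e, he, ?_⟩
  show e * a ^ i = e ∨ e * a ^ i = e * a
  rcases Int.even_or_odd i with ⟨m, rfl⟩ | ⟨m, rfl⟩
  · left
    rw [← two_mul, zpow_mul, show a ^ (2 : ℤ) = a * a from zpow_two a, ha, one_zpow, mul_one]
  · right
    rw [zpow_add, zpow_mul, show a ^ (2 : ℤ) = a * a from zpow_two a, ha, one_zpow, one_mul,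
      zpow_one]

theorem double {U : Subgroup G} {a : G} (ha : a ∉ U) :
    2 * Nat.card U ≤ Nat.card ↥(U ⊔ zpowers a) :=
  Cfsg.Agent.S2946.card_two_mul_le
    (lt_of_le_of_ne le_sup_left fun e => ha (e ▸ mem_sup_right (mem_zpowers a)))

variable {T K K' : Subgroup G} {w k w' k' : G}

theorem mem_Cz (p : Pick T K w k) {z : G} (hz : z ∈ Z0 T) (hk : k * z * k⁻¹ = z) : z ∈ Cz T K := by
  refine ⟨hz, fun y hy => ?_⟩
  obtain ⟨i, q, hq, rfl⟩ := p.decomp hy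
  exact (Commute.mul_left ((show Commute k z from mul_inv_eq_iff_eq_mul.1 hk).pow_left i)
    (p.T_Z0 (p.core_le_T hq) hz)).eq

theorem core_join (d : Duo T K K') : Cfsg.pCoreOf 2 ((K ⊔ T) ⊔ (K' ⊔ T)) = ⊥ := by
  by_contra hne
  have hloc : Cfsg.IsTwoLocal
      (normalizer (Cfsg.pCoreOf 2 ((K ⊔ T) ⊔ (K' ⊔ T)) : Set G)) :=
    ⟨_, LocalBasics.isPGroup_pCoreOf 2 _, hne, rfl⟩
  have hle := LocalBasics.le_normalizer_pCoreOf 2 ((K ⊔ T) ⊔ (K' ⊔ T))
  have h1 : K ⊔ Cfsg.thompsonSubgroupOf 2 T ≤ _ :=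
    ((sup_le_sup_left (Offenders.thompsonOf_le T) K).trans le_sup_left).trans hle
  have h2 : K' ⊔ Cfsg.thompsonSubgroupOf 2 T ≤ _ :=
    ((sup_le_sup_left (Offenders.thompsonOf_le T) K').trans le_sup_right).trans hle
  exact d.ne (Lstar_eq d.r d.r' (h2.trans (d.r.le_normalizer_star hloc h1))).symm

theorem Rt_ne (d : Duo T K K') (p : Pick T K w k) (p' : Pick T K' w' k') : Rt T K ≠ Rt T K' := by
  intro e
  have hle : Rt T K ≤ Cfsg.pCoreOf 2 ((K ⊔ T) ⊔ (K' ⊔ T)) :=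
    LocalBasics.le_pCoreOf (inf_le_left.trans (le_sup_right.trans le_sup_left))
      (sup_le p.P_norm_Rt (e ▸ p'.P_norm_Rt)) (p.side.r.tp.to_le inf_le_left)
  rw [core_join d, le_bot_iff] at hle
  exact p.w1 (mem_bot.1 (hle ▸ p.W_le_Rt p.wW))

theorem Rt_swap (p : Pick T K w k) (h : Cfsg.wOf K' ≤ Rt T K) : Cfsg.wOf K ≤ Rt T K' :=
  fun _ hx => ⟨(p.W_le_Rt hx).1, fun _ hy => ((h hy).2 _ hx).symm⟩

/-- If `W_{K'}` centralises `W_K`, then `K` centralises `w'`. -/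
theorem w_mem (d : Duo T K K') (p : Pick T K w k) (p' : Pick T K' w' k')
    (hW : Cfsg.wOf K' ≤ Rt T K) : w' ∈ Cz T K := by
  classical
  by_contra hw'
  have hkw : k * w' * k⁻¹ ≠ w' := fun e => hw' (mem_Cz p p'.wZ e)
  set E0 := Cfsg.wOf K ⊔ Z0 T with hE0
  set x := k' * w' * k'⁻¹ with hxdef
  have hxW : x ∈ Cfsg.wOf K' := p'.k_W p'.wW
  have hxR : x ∈ Rt T K := hW hxW
  have hwE : w' ∈ E0 := mem_sup_right p'.wZ
  have hkk : ∀ y ∈ E0, k⁻¹ * y * k⁻¹⁻¹ ∈ E0 := by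
    intro y hy
    have e : k⁻¹ * y * k⁻¹⁻¹ = k * (k * y * k⁻¹) * k⁻¹ := by
      have e1 : k⁻¹ = k * k := inv_eq_of_mul_eq_one_right (by rw [← pow_three]; exact p.k3)
      calc k⁻¹ * y * k⁻¹⁻¹ = (k * k) * y * (k * k)⁻¹ := by rw [← e1]
        _ = _ := by group
    rw [e]; exact p.k_E0 (p.k_E0 hy)
  -- how `Rt T K` moves the conjugates of `x`
  have hkR : ∀ r ∈ Rt T K, k⁻¹ * r * k⁻¹⁻¹ ∈ Rt T K := fun r hr =>
    LocalBasics.conj_mem_of_le_normalizer p.K_norm_Rt (inv_mem p.kK) hr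
  have move : ∀ g ∈ K, ∀ r ∈ Rt T K, r * (g * x * g⁻¹) * r⁻¹ = g * x * g⁻¹ ∨
      r * (g * x * g⁻¹) * r⁻¹ = g * x * g⁻¹ * (g * w' * g⁻¹) := by
    intro g hg r hr
    have hr' : g⁻¹ * r * g⁻¹⁻¹ ∈ Rt T K :=
      LocalBasics.conj_mem_of_le_normalizer p.K_norm_Rt (inv_mem hg) hr
    have e : r * (g * x * g⁻¹) * r⁻¹ =
        g * ((g⁻¹ * r * g⁻¹⁻¹) * x * (g⁻¹ * r * g⁻¹⁻¹)⁻¹) * g⁻¹ := by group
    rcases p'.T_move hr'.1 hxW with q | q <;> rw [e, q]
    · left; rfl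
    · right; group
  -- the case where the conjugates of `x` agree modulo `E0`
  by_cases hA : k * x * k⁻¹ * x⁻¹ ∈ E0
  · apply Rt_ne d p p'
    have hle : Rt T K ≤ Rt T K' := by
      intro r hr
      rcases p'.T_u hr.1 with ⟨-, h⟩ | ⟨q, -⟩
      · exact h
      exfalso
      set e := k * x * k⁻¹ * x⁻¹ with he
      have hkx : k * x * k⁻¹ = e * x := by rw [he]; group
      have hrx : r * x * r⁻¹ = x * w' := by rw [q, p'.W_comm p'.wW hxW]
      have h1 : r * (k * x * k⁻¹) * r⁻¹ = e * x * w' := by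
        calc r * (k * x * k⁻¹) * r⁻¹ = (r * e * r⁻¹) * (r * x * r⁻¹) := by rw [hkx]; group
          _ = e * x * w' := by
            rw [mul_inv_eq_iff_eq_mul.2 (p.E0_comm hA hr), hrx]
            exact (mul_assoc _ _ _).symm
      rcases move k p.kK r hr with q' | q' <;> rw [q', hkx] at h1
      · exact p'.w1 (mul_eq_left.1 h1.symm)
      · exact hkw (mul_left_cancel h1)
    refine eq_of_le_of_card_ge hle (le_of_eq ?_)
    have e1 : Nat.card ↥(Rt T K) * (Rt T K).relIndex T = Nat.card ↥T :=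
      HallCore.card_mul_relIndex inf_le_left
    have e2 : Nat.card ↥(Rt T K') * (Rt T K').relIndex T = Nat.card ↥T :=
      HallCore.card_mul_relIndex inf_le_left
    rw [p.Rt_index] at e1
    rw [p'.Rt_index] at e2
    omega
  -- now they are independent
  set a₁ := k * x * k⁻¹ with ha₁
  set a₂ := k⁻¹ * x * k⁻¹⁻¹ with ha₂
  set w₁ := k * w' * k⁻¹ with hw₁
  set w₂ := k⁻¹ * w' * k⁻¹⁻¹ with hw₂
  have hx2 : x * x = 1 := p'.W_sq hxW
  have ha₁2 : a₁ * a₁ = 1 := by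
    rw [ha₁, show k * x * k⁻¹ * (k * x * k⁻¹) = k * (x * x) * k⁻¹ by group, hx2]; group
  have ha₂2 : a₂ * a₂ = 1 := by
    rw [ha₂, show k⁻¹ * x * k⁻¹⁻¹ * (k⁻¹ * x * k⁻¹⁻¹) = k⁻¹ * (x * x) * k⁻¹⁻¹ by group, hx2]
    group
  have ha₁R : a₁ ∈ Rt T K := p.k_Rt hxR
  have ha₂R : a₂ ∈ Rt T K := hkR x hxR
  have hw₁E : w₁ ∈ E0 := p.k_E0 hwE
  have hw₂E : w₂ ∈ E0 := hkk _ hwE
  have move₁ : ∀ r ∈ Rt T K, r * a₁ * r⁻¹ = a₁ ∨ r * a₁ * r⁻¹ = a₁ * w₁ := move k p.kK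
  have move₂ : ∀ r ∈ Rt T K, r * a₂ * r⁻¹ = a₂ ∨ r * a₂ * r⁻¹ = a₂ * w₂ :=
    move k⁻¹ (inv_mem p.kK)
  have hxinv : x⁻¹ = x := inv_eq_of_mul_eq_one_right hx2
  have hn₁ : a₁ ∉ E0 := by
    intro h
    refine hA (mul_mem h (inv_mem ?_))
    have := hkk _ h
    rwa [ha₁, show k⁻¹ * (k * x * k⁻¹) * k⁻¹⁻¹ = x by group] at this
  have hn₁₂ : ∀ e ∈ E0, a₁ ≠ a₂ * e := by
    intro e he q
    refine hA ?_
    have h1 := hkk _ he
    have hk2 : k⁻¹ * k⁻¹ = k := by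
      rw [← mul_inv_rev]
      exact inv_eq_of_mul_eq_one_left (by rw [← pow_three]; exact p.k3)
    have c2 : k⁻¹ * a₂ * k⁻¹⁻¹ = k * x * k⁻¹ := by
      rw [ha₂, conj_conj, hk2]
    have h2 : k⁻¹ * e * k⁻¹⁻¹ = (k * x * k⁻¹)⁻¹ * x := by
      have e2 : x = (k⁻¹ * a₂ * k⁻¹⁻¹) * (k⁻¹ * e * k⁻¹⁻¹) := by
        calc x = k⁻¹ * a₁ * k⁻¹⁻¹ := by rw [ha₁]; group
          _ = _ := by rw [q]; group
      rw [c2] at e2
      exact eq_inv_mul_iff_mul_eq.2 e2.symm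
    rw [h2] at h1
    have := inv_mem h1
    rw [mul_inv_rev, inv_inv, hxinv] at this
    have h3 := p.T_E0 hxR.1 this
    rwa [show x * (x * (k * x * k⁻¹)) * x⁻¹ = (x * x) * (k * x * k⁻¹) * x⁻¹ by group, hx2,
      one_mul] at h3
  have hn₂ : a₂ ∉ E0 := fun h => by
    have h1 := p.k_E0 h
    rw [ha₂, show k * (k⁻¹ * x * k⁻¹⁻¹) * k⁻¹ = x by group] at h1
    exact hn₁ (p.k_E0 h1)
  have hEc : ∀ e ∈ E0, ∀ r ∈ Rt T K, e * r = r * e := fun e he r hr => (p.E0_comm he hr).symm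
  have hcomm : a₁ * a₂ = a₂ * a₁ := by
    rcases move₁ a₂ ha₂R with q | q
    · exact (mul_inv_eq_iff_eq_mul.1 q).symm
    rcases move₂ a₁ ha₁R with q' | q'
    · exact mul_inv_eq_iff_eq_mul.1 q'
    exfalso
    have e1 : a₂ * a₁ = a₁ * w₁ * a₂ := mul_inv_eq_iff_eq_mul.1 q
    have e2 : a₁ * a₂ = a₂ * w₂ * a₁ := mul_inv_eq_iff_eq_mul.1 q'
    have e3 : a₂ * a₁ = a₂ * a₁ * (w₂ * w₁) := by
      calc a₂ * a₁ = a₁ * w₁ * a₂ := e1
        _ = (a₁ * a₂) * w₁ := by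
            rw [mul_assoc a₁ w₁ a₂, hEc w₁ hw₁E a₂ ha₂R, ← mul_assoc a₁ a₂ w₁]
        _ = a₂ * (w₂ * a₁) * w₁ := by rw [e2, mul_assoc a₂]
        _ = a₂ * a₁ * (w₂ * w₁) := by rw [hEc w₂ hw₂E a₁ ha₁R]; group
    have e4 : w₂ = w₁ := by
      have h1 : w₁⁻¹ = w₁ := by
        rw [hw₁, show (k * w' * k⁻¹)⁻¹ = k * w'⁻¹ * k⁻¹ by group, Z0_inv p'.wZ]
      exact (eq_inv_of_mul_eq_one_left (mul_eq_left.1 e3.symm)).trans h1
    refine hkw ?_
    have e5 : k * w₂ * k⁻¹ = k * w₁ * k⁻¹ := by rw [e4]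
    have hw'' : w' = k * (k * w' * k⁻¹) * k⁻¹ := by
      rw [hw₁, hw₂] at e5
      rw [show k * (k⁻¹ * w' * k⁻¹⁻¹) * k⁻¹ = w' by group] at e5
      exact e5
    calc k * w' * k⁻¹ = k * (k * (k * w' * k⁻¹) * k⁻¹) * k⁻¹ := by rw [← hw'']
      _ = k ^ 3 * w' * (k ^ 3)⁻¹ := by rw [pow_three]; group
      _ = w' := by rw [p.k3]; group
  -- a largest elementary abelian subgroup moving `W`
  obtain ⟨A, hA', hAR⟩ := p.exists_not_mem
  obtain ⟨a, ha, haR⟩ := SetLike.not_le_iff_exists.1 hAR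
  have hAcomm := ((Offenders.ea_iff A).1 hA'.2.1).1
  set B := A ⊓ Rt T K
  have hAB : Nat.card A ≤ 2 * Nat.card B := card_le_double inf_le_left fun y hy z hz hyB hzB =>
    ⟨mul_mem hy hz, p.mul_not_mem (hA'.1 hy) (hA'.1 hz) (fun q => hyB ⟨hy, q⟩)
      (fun q => hzB ⟨hz, q⟩)⟩
  obtain ⟨e₀, he₀, hswap⟩ : ∃ e ∈ E0, a * a₁ * a⁻¹ = a₂ * e := by
    obtain ⟨q, hq, eq1⟩ := (p.conj_k (hA'.1 ha)).2 haR
    obtain ⟨ε, hε, hax⟩ : ∃ ε ∈ E0, a * x * a⁻¹ = x * ε := by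
      rcases p'.T_move (hA'.1 ha) hxW with h | h
      · exact ⟨1, one_mem _, by rw [h, mul_one]⟩
      · exact ⟨w', hwE, h⟩
    obtain ⟨ε₂, hε₂, hqx⟩ : ∃ ε ∈ E0, q * x * q⁻¹ = x * ε := by
      rcases p'.T_move (p.core_le_T hq) hxW with h | h
      · exact ⟨1, one_mem _, by rw [h, mul_one]⟩
      · exact ⟨w', hwE, h⟩
    refine ⟨k⁻¹ * (ε₂ * ε) * k⁻¹⁻¹, hkk _ (mul_mem hε₂ hε), ?_⟩
    calc a * a₁ * a⁻¹ = (a * k * a⁻¹) * (a * x * a⁻¹) * (a * k * a⁻¹)⁻¹ := by rw [ha₁]; group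
      _ = k⁻¹ * ((q * x * q⁻¹) * (q * ε * q⁻¹)) * k⁻¹⁻¹ := by rw [eq1, hax]; group
      _ = k⁻¹ * (x * ε₂ * ε) * k⁻¹⁻¹ := by
          rw [hqx, mul_inv_eq_iff_eq_mul.2 (p.E0_comm hε (p.core_le_Rt hq))]
      _ = _ := by rw [ha₂]; group
  have hBmove : ∀ b ∈ B, (b * a₁ = a₁ * b ↔ b * a₂ = a₂ * b) := by
    intro b hb
    have hab : a * b = b * a := hAcomm a ha b hb.1
    have hbe : b * e₀ = e₀ * b := p.E0_comm he₀ hb.2
    constructor
    · intro h
      have h1 : b * (a * a₁ * a⁻¹) = (a * a₁ * a⁻¹) * b :=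
        ((Commute.mul_right (Commute.mul_right (show Commute b a from hab.symm)
          (show Commute b a₁ from h)) (show Commute b a from hab.symm).inv_right)).eq
      rw [hswap] at h1
      have h2 : Commute b (a₂ * e₀ * e₀⁻¹) :=
        Commute.mul_right h1 (show Commute b e₀ from hbe).inv_right
      rwa [mul_inv_cancel_right] at h2
    · intro h
      have h1 : Commute b (a⁻¹ * (a₂ * e₀) * a) :=
        Commute.mul_right (Commute.mul_right (show Commute b a from hab.symm).inv_right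
          (Commute.mul_right h hbe)) hab.symm
      rw [← hswap] at h1
      rwa [show a⁻¹ * (a * a₁ * a⁻¹) * a = a₁ by group] at h1
  set D := B ⊓ centralizer ({a₁} : Set G) with hD
  have hBD : Nat.card B ≤ 2 * Nat.card D := by
    refine card_le_double inf_le_left fun y hy z hz hyD hzD =>
      ⟨mul_mem hy hz, mem_centralizer_singleton_iff.2 ?_⟩
    have hy' := (move₁ y hy.2).resolve_left fun q =>
      hyD ⟨hy, mem_centralizer_singleton_iff.2 (mul_inv_eq_iff_eq_mul.1 q)⟩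
    have hz' := (move₁ z hz.2).resolve_left fun q =>
      hzD ⟨hz, mem_centralizer_singleton_iff.2 (mul_inv_eq_iff_eq_mul.1 q)⟩
    refine mul_inv_eq_iff_eq_mul.1 ?_
    calc y * z * a₁ * (y * z)⁻¹ = y * (z * a₁ * z⁻¹) * y⁻¹ := by group
      _ = (y * a₁ * y⁻¹) * (y * w₁ * y⁻¹) := by rw [hz']; group
      _ = a₁ * (w₁ * w₁) := by
          rw [hy', mul_inv_eq_iff_eq_mul.2 (p.E0_comm hw₁E hy.2), mul_assoc]
      _ = a₁ := by
          rw [hw₁, show k * w' * k⁻¹ * (k * w' * k⁻¹) = k * (w' * w') * k⁻¹ by group,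
            Z0_sq p'.wZ]
          group
  -- the elementary abelian group `E0 ⟨a₁, a₂⟩`
  set U₁ := E0 ⊔ zpowers a₁ with hU₁
  set U := U₁ ⊔ zpowers a₂ with hU
  have hc₁ : ∀ e ∈ E0, e * a₁ = a₁ * e := fun e he => hEc e he a₁ ha₁R
  have hU₁le : U₁ ≤ centralizer ({a₂} : Set G) :=
    sup_le (fun e he => mem_centralizer_singleton_iff.2 (hEc e he a₂ ha₂R))
      (zpowers_le.2 (mem_centralizer_singleton_iff.2 hcomm))
  have hc₂ : ∀ y ∈ U₁, y * a₂ = a₂ * y := fun y hy => mem_centralizer_singleton_iff.1 (hU₁le hy)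
  have hU₁ea : IsElementaryAbelian 2 U₁ :=
    Offenders.ea_sup p.E0_ea (Offenders.ea_zpowers (p := 2) (by rw [pow_two]; exact ha₁2))
      fun e he c hc => by
        obtain ⟨i, rfl⟩ := hc
        exact ((show Commute e a₁ from hc₁ e he).zpow_right i).eq
  have hUea : IsElementaryAbelian 2 U :=
    Offenders.ea_sup hU₁ea (Offenders.ea_zpowers (p := 2) (by rw [pow_two]; exact ha₂2))
      fun e he c hc => by
        obtain ⟨i, rfl⟩ := hc
        exact ((show Commute e a₂ from hc₂ e he).zpow_right i).eq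
  have hUcases : ∀ y ∈ U, ∃ e ∈ E0,
      y = e ∨ y = e * a₁ ∨ y = e * a₂ ∨ y = e * a₁ * a₂ := by
    intro y hy
    obtain ⟨z, hz, hyz⟩ := sup_zpowers_cases ha₂2 hc₂ hy
    obtain ⟨e, he, hze⟩ := sup_zpowers_cases ha₁2 hc₁ hz
    refine ⟨e, he, ?_⟩
    rcases hze with rfl | rfl <;> rcases hyz with rfl | rfl <;> simp
  have hcardU : 8 * Nat.card ↥(Z0 T) ≤ Nat.card U := by
    have d1 : 2 * Nat.card ↥E0 ≤ Nat.card ↥U₁ := double hn₁
    have d2 : 2 * Nat.card ↥U₁ ≤ Nat.card U := by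
      refine double fun h => ?_
      obtain ⟨e, he, q⟩ := sup_zpowers_cases ha₁2 hc₁ h
      rcases q with q | q
      · exact hn₂ (q ▸ he)
      · refine hn₁₂ _ (inv_mem he) ?_
        rw [q, hc₁ e he]
        group
    have d3 : 2 * Nat.card ↥(Z0 T) ≤ Nat.card ↥E0 := p.card_E0
    omega
  -- elements of `A ⊓ U`
  have hfix1 : ∀ e ∈ E0, e * a₁ ∉ A ∧ e * a₂ ∉ A := by
    have haE : ∀ e ∈ E0, a * e * a⁻¹ ∈ E0 := fun e he => p.T_E0 (hA'.1 ha) he
    have haA : ∀ y ∈ A, a * y * a⁻¹ = y := fun y hy => mul_inv_eq_iff_eq_mul.2 (hAcomm a ha y hy)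
    intro e he
    constructor
    · intro h
      have h1 := haA _ h
      rw [show a * (e * a₁) * a⁻¹ = (a * e * a⁻¹) * (a * a₁ * a⁻¹) by group, hswap] at h1
      refine hn₁₂ ((e⁻¹ * (a * e * a⁻¹)) * e₀) (mul_mem (mul_mem (inv_mem he) (haE e he)) he₀) ?_
      calc a₁ = e⁻¹ * (e * a₁) := by group
        _ = (e⁻¹ * (a * e * a⁻¹)) * a₂ * e₀ := by rw [← h1]; group
        _ = _ := by rw [hEc _ (mul_mem (inv_mem he) (haE e he)) a₂ ha₂R, mul_assoc]
    · intro h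
      have h1 := haA _ h
      have hsw2 : a * a₂ * a⁻¹ = a₁ * (a * e₀ * a⁻¹)⁻¹ := by
        have e1 : a₁ = a * (a * a₁ * a⁻¹) * a⁻¹ := by
          have e2 : a * a = 1 := by rw [← pow_two]; exact ((Offenders.ea_iff A).1 hA'.2.1).2 a ha
          rw [show a * (a * a₁ * a⁻¹) * a⁻¹ = (a * a) * a₁ * (a * a)⁻¹ by group, e2]; group
        rw [hswap, show a * (a₂ * e₀) * a⁻¹ = (a * a₂ * a⁻¹) * (a * e₀ * a⁻¹) by group] at e1
        rw [e1]; group
      rw [show a * (e * a₂) * a⁻¹ = (a * e * a⁻¹) * (a * a₂ * a⁻¹) by group, hsw2] at h1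
      refine hn₁₂ ((a * e * a⁻¹)⁻¹ * e * (a * e₀ * a⁻¹))
        (mul_mem (mul_mem (inv_mem (haE e he)) he) (haE e₀ he₀)) ?_
      calc a₁ = (a * e * a⁻¹)⁻¹ * ((a * e * a⁻¹) * (a₁ * (a * e₀ * a⁻¹)⁻¹)) * (a * e₀ * a⁻¹) := by
            group
        _ = ((a * e * a⁻¹)⁻¹ * e) * a₂ * (a * e₀ * a⁻¹) := by rw [h1]; group
        _ = _ := by rw [hEc _ (mul_mem (inv_mem (haE e he)) he) a₂ ha₂R, mul_assoc]
  have hZ0fix : ∀ e ∈ E0, e ∈ A → e ∈ Z0 T := fun e he heA =>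
    p.fixed_E0 (hA'.1 ha) haR he (hAcomm a ha e heA)
  have hle : Nat.card ↥(D ⊔ U) ≤ Nat.card A := by
    refine hA'.2.2 _ (sup_le ((inf_le_left.trans inf_le_left).trans hA'.1)
      (sup_le (sup_le (p.E0_le.trans inf_le_left) (zpowers_le.2 ha₁R.1)) (zpowers_le.2 ha₂R.1))) ?_
    refine Offenders.ea_sup (Offenders.ea_mono hA'.2.1 (inf_le_left.trans inf_le_left)) hUea ?_
    intro b hb y hy
    have hb1 : b * a₁ = a₁ * b := mem_centralizer_singleton_iff.1 hb.2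
    have hb2 := (hBmove b hb.1).1 hb1
    have hle : U ≤ centralizer ({b} : Set G) :=
      sup_le (sup_le (fun e he => mem_centralizer_singleton_iff.2 (p.E0_comm he hb.1.2).symm)
        (zpowers_le.2 (mem_centralizer_singleton_iff.2 hb1.symm)))
        (zpowers_le.2 (mem_centralizer_singleton_iff.2 hb2.symm))
    exact (mem_centralizer_singleton_iff.1 (hle hy)).symm
  have hprod : Nat.card ↥(D ⊔ U) * Nat.card ↥(D ⊓ U) = Nat.card D * Nat.card U := by
    refine OffendersReplace.card_sup_mul_card_inf D U (LocalBasics.le_normalizer_of_conj ?_)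
    intro b hb y hy
    have hb1 : b * a₁ = a₁ * b := mem_centralizer_singleton_iff.1 hb.2
    have hb2 := (hBmove b hb.1).1 hb1
    have hle : U ≤ centralizer ({b} : Set G) :=
      sup_le (sup_le (fun e he => mem_centralizer_singleton_iff.2 (p.E0_comm he hb.1.2).symm)
        (zpowers_le.2 (mem_centralizer_singleton_iff.2 hb1.symm)))
        (zpowers_le.2 (mem_centralizer_singleton_iff.2 hb2.symm))
    rw [← mem_centralizer_singleton_iff.1 (hle hy), mul_inv_cancel_right]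
    exact hy
  have hApos : 0 < Nat.card A := Nat.card_pos
  by_cases hall : B ≤ centralizer ({a₁} : Set G)
  · -- `B` centralises both
    have hDB : D = B := inf_eq_left.2 hall
    have hinf : Nat.card ↥(A ⊓ U) ≤ 2 * Nat.card ↥(Z0 T) := by
      refine (card_le_double (B := A ⊓ (U ⊓ Z0 T)) (inf_le_inf_left A inf_le_left) ?_).trans
        (Nat.mul_le_mul_left 2 (Subgroup.card_le_of_le (inf_le_right.trans inf_le_right)))
      intro y hy z hz hyB hzB
      refine ⟨mul_mem hy.1 hz.1, mul_mem hy.2 hz.2, ?_⟩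
      have form : ∀ y ∈ A ⊓ U, y ∉ A ⊓ (U ⊓ Z0 T) → ∃ e ∈ E0, y = e * a₁ * a₂ := by
        intro y hy hyB
        obtain ⟨e, he, q⟩ := hUcases y hy.2
        rcases q with q | q | q | q
        · exact absurd ⟨hy.1, hy.2, hZ0fix y (q ▸ he) hy.1⟩ hyB
        · exact absurd (q ▸ hy.1) (hfix1 e he).1
        · exact absurd (q ▸ hy.1) (hfix1 e he).2
        · exact ⟨e, he, q⟩
      obtain ⟨e, he, rfl⟩ := form y hy hyB
      obtain ⟨e', he', rfl⟩ := form z hz hzB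
      refine hZ0fix _ ?_ (mul_mem hy.1 hz.1)
      have : e * a₁ * a₂ * (e' * a₁ * a₂) = e * e' * ((a₁ * a₂) * (a₁ * a₂)) := by
        rw [show e * a₁ * a₂ * (e' * a₁ * a₂) = e * ((a₁ * a₂) * e') * (a₁ * a₂) by group,
          ← hEc e' he' _ (mul_mem ha₁R ha₂R)]
        group
      rw [this, show (a₁ * a₂) * (a₁ * a₂) = a₁ * (a₂ * a₁) * a₂ by group, ← hcomm,
        show a₁ * (a₁ * a₂) * a₂ = (a₁ * a₁) * (a₂ * a₂) by group, ha₁2, ha₂2, one_mul, mul_one]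
      exact mul_mem he he'
    have hDU : Nat.card ↥(D ⊓ U) ≤ Nat.card ↥(A ⊓ U) :=
      Subgroup.card_le_of_le (inf_le_inf_right U (inf_le_left.trans inf_le_left))
    rw [hDB] at hle hprod hDU
    have hz : 0 < Nat.card ↥(Z0 T) := Nat.card_pos
    nlinarith
  · obtain ⟨b, hb, hbc⟩ := SetLike.not_le_iff_exists.1 hall
    have hb1 : b * a₁ * b⁻¹ = a₁ * w₁ := (move₁ b hb.2).resolve_left fun q =>
      hbc (mem_centralizer_singleton_iff.2 (mul_inv_eq_iff_eq_mul.1 q))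
    have hb2 : b * a₂ * b⁻¹ = a₂ * w₂ := (move₂ b hb.2).resolve_left fun q =>
      hbc (mem_centralizer_singleton_iff.2 ((hBmove b hb).2 (mul_inv_eq_iff_eq_mul.1 q)))
    have hinf : A ⊓ U ≤ Z0 T := by
      intro y hy
      obtain ⟨e, he, q⟩ := hUcases y hy.2
      rcases q with q | q | q | q
      · exact hZ0fix y (q ▸ he) hy.1
      · exact absurd (q ▸ hy.1) (hfix1 e he).1
      · exact absurd (q ▸ hy.1) (hfix1 e he).2
      · exfalso
        have h1 : b * y * b⁻¹ = y := mul_inv_eq_iff_eq_mul.2 (hAcomm b hb.1 y hy.1)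
        have h2 : b * y * b⁻¹ = y * (w₁ * w₂) := by
          rw [q, show b * (e * a₁ * a₂) * b⁻¹ = (b * e * b⁻¹) * ((b * a₁ * b⁻¹) * (b * a₂ * b⁻¹))
            by group, mul_inv_eq_iff_eq_mul.2 (p.E0_comm he hb.2), hb1, hb2,
            show a₁ * w₁ * (a₂ * w₂) = a₁ * (w₁ * a₂) * w₂ by group, hEc w₁ hw₁E a₂ ha₂R]
          group
        rw [h1] at h2
        have h3 : w₁ * w₂ = 1 := mul_eq_left.1 h2.symm
        refine hkw ?_
        have h4 : w₂ = w₁ := by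
          have h5 : w₁⁻¹ = w₁ := by
            rw [hw₁, show (k * w' * k⁻¹)⁻¹ = k * w'⁻¹ * k⁻¹ by group, Z0_inv p'.wZ]
          exact (eq_inv_of_mul_eq_one_right h3).trans h5
        have h6 : k * w₂ * k⁻¹ = k * w₁ * k⁻¹ := by rw [h4]
        rw [hw₁, hw₂, show k * (k⁻¹ * w' * k⁻¹⁻¹) * k⁻¹ = w' by group] at h6
        calc k * w' * k⁻¹ = k * (k * (k * w' * k⁻¹) * k⁻¹) * k⁻¹ := by rw [← h6]
          _ = k ^ 3 * w' * (k ^ 3)⁻¹ := by rw [pow_three]; group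
          _ = w' := by rw [p.k3]; group
    have hDU : Nat.card ↥(D ⊓ U) ≤ Nat.card ↥(Z0 T) :=
      Subgroup.card_le_of_le
        ((inf_le_inf_right U (inf_le_left.trans inf_le_left)).trans hinf)
    have hz : 0 < Nat.card ↥(Z0 T) := Nat.card_pos
    nlinarith

/-- In that situation `K` is the only component of its maximal 2-local overgroup. -/
theorem unique (d : Duo T K K') (p : Pick T K w k) (p' : Pick T K' w' k')
    (hW : Cfsg.wOf K' ≤ Rt T K) {K₂ : Subgroup G} (h₂ : Cfsg.IsJComponent T K₂)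
    (h₂L : K₂ ≤ Lstar T K) : K₂ = K := by
  by_contra hne
  obtain ⟨hcls, hcent⟩ := d.other h₂ h₂L
  exact d.ne (meet_cls d.r d.r' hcls ⟨p.wZ, hcent hne w p.wW⟩
    (w_mem d.symm p' p (Rt_swap p hW)) p.w1).symm

/-- With a single component, `L` is `⟨k⟩` times elements fixing `Z0 T` and normalising `T` and `K`. -/
theorem Lstar_decomp (p : Pick T K w k)
    (huniq : ∀ K₂, Cfsg.IsJComponent T K₂ → K₂ ≤ Lstar T K → K₂ = K) {x : G}
    (hx : x ∈ Lstar T K) :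
    ∃ (i : ℕ) (m : G), x = k ^ i * m ∧ m ∈ Lstar T K ∧ m ∈ normalizer (T : Set G) ∧
      m ∈ normalizer (K : Set G) ∧ ∀ z ∈ Z0 T, m * z = z * m := by
  classical
  set L := Lstar T K with hL
  have h := p.side.h
  have hK := p.side.r.comp
  set k₀ : ↥L := ⟨k, p.K_le p.kK⟩
  obtain ⟨t, v₀, k₁, -, hk₁, hl, hline, -⟩ := comp_line h hK p.K_le
  have hWV : Cfsg.wOf K ≤ Vq L := by
    rw [comp_wOf h hK p.K_le hk₁ hl]; exact map_subtype_le _
  set f := π L k₀ with hf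
  have hf1 : f ≠ 1 := fun e => p.k_moves p.wW p.w1
    (mul_inv_eq_iff_eq_mul.2 (((π_eq_one_iff L k₀).1 e).2 w (hWV p.wW)).symm)
  have hfl : IsLine L t v₀ f := by
    rcases zpowers_cases ((ctx h).pow_three hl.tv hl.inv) (hline k₀ p.kK) with q | q | q
    · exact absurd q hf1
    · exact ⟨hl.tv, by rw [hf, q]; exact hl.inv, by rw [hf, q]; exact hl.mem⟩
    · exact ⟨hl.tv, (ctx h).inv_of_zpowers hl.tv hl.inv (Or.inr q),
        by rw [hf, q]; exact inv_mem hl.mem⟩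
  have hlineK : ∀ y : ↥L, (y : G) ∈ K → π L y ∈ zpowers f := by
    intro y hy
    obtain ⟨i, q, hq, e⟩ := p.decomp hy
    have hqL : q ∈ Cfsg.pCoreOf 2 L := comp_core_Q h hK p.K_le hq
    have hy' : y = k₀ ^ i * ⟨q, LocalBasics.pCoreOf_le 2 L hqL⟩ := Subtype.ext e
    rw [hy', map_mul, map_pow,
      (π_eq_one_iff L ⟨q, LocalBasics.pCoreOf_le 2 L hqL⟩).2 (Q_le_Ker L hqL), mul_one]
    exact pow_mem (mem_zpowers f) i
  have hall : E (Vx L) (Hx L) (Fx L) ≤ zpowers f := by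
    refine (closure_le _).2 ?_
    rintro g ⟨t', v₀', htv', hi', hg⟩
    have hgl : IsLine L t' v₀' g := ⟨htv', hi', hg⟩
    by_cases hmet : ∃ s ∈ Jtv T L, s * g * s⁻¹ = g⁻¹
    · obtain ⟨s, hsJ, hinv⟩ := hmet
      obtain ⟨s₀, hstv⟩ := hsJ.1
      obtain ⟨K₂, k₂, h₂, h₂L, hk₂, hπ⟩ := exists_component h
        (⟨hstv, ⟨hi'.mem, hi'.odd, hi'.ne, hinv⟩, hg⟩ : IsLine L s s₀ g) hsJ
      have hm := hlineK k₂ (huniq K₂ h₂ h₂L ▸ hk₂)
      rcases hπ with q | q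
      · exact q ▸ hm
      · have := inv_mem hm
        rwa [q, inv_inv] at this
    push Not at hmet
    -- `W g` lies in `Z0 T`
    have hS : ((W (Vx L) g).comap (ι L)).map (Vq L).subtype ≤ Z0 T := by
      rintro _ ⟨v, hv, rfl⟩
      refine mem_Z0 (h.Q_le_T (V_le_Q L v.2)) (V_sq L v.2) fun j hj => ?_
      have hjL : j ∈ L := h.T_le (Offenders.thompsonOf_le T hj)
      have hcl : closure (Jtv T L) ≤ centralizer ({ι L v} : Set (X L)) := by
        refine (closure_le _).2 fun s hs => mem_centralizer_singleton_iff.2 ?_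
        obtain ⟨s₀, hstv⟩ := hs.1
        rcases (ctx h).tv_normalizes htv' hi' hg hstv with q | q
        · exact mul_inv_eq_iff_eq_mul.1 (JCompSubnormal.two_fix (ctx h) htv' hi' hstv.mem
            (mul_inv_eq_iff_eq_mul.1 q) (n := 1) (by rw [pow_one, pow_two]; exact hstv.sq) _ hv)
        · exact absurd q (hmet s hs)
      have h1 := mem_centralizer_singleton_iff.1
        (hcl (J_image h (Subgroup.mem_map_of_mem (π L) (show (⟨j, hjL⟩ : ↥L) ∈ (Cfsg.thompsonSubgroupOf 2 T).subgroupOf L from hj))))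
      have h2 := conj_ι L ⟨j, hjL⟩ v
      rw [h1, mul_inv_cancel_right] at h2
      exact (eq_mul_inv_iff_mul_eq.1 (congrArg Subtype.val (ι_injective L h2))).symm
    have hScard : Nat.card ↥(((W (Vx L) g).comap (ι L)).map (Vq L).subtype) = 4 := by
      rw [card_map_of_injective (Vq L).subtype_injective,
        ← card_map_of_injective (H := X L) (f := ι L) (ι_injective L),
        map_comap_eq_self ((ctx h).W_le hi'.mem), (ctx h).W_card htv' hi']
    have hZ4 : Nat.card ↥(Z0 T) ≤ 4 := by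
      rw [card_Z0 p.side.r]; have := p.side.small; omega
    have hwS := (eq_of_le_of_card_ge hS (hScard ▸ hZ4)).ge p.wZ
    have hwK : w ∈ ((W (Vx L) f).comap (ι L)).map (Vq L).subtype :=
      comp_wOf h hK p.K_le (k₀ := k₀) p.kK hfl ▸ p.wW
    obtain ⟨v, hv, hve⟩ := hwS
    obtain ⟨v', hv', hve'⟩ := hwK
    obtain rfl : v' = v := Subtype.ext (hve'.trans hve.symm)
    have hne : ι L v' ≠ 1 := fun q => p.w1 (by
      rw [← map_one (ι L)] at q; rw [← hve, ι_injective L q]; rfl)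
    rcases (ctx h).same_of_meet hfl.tv hfl.inv hfl.mem htv' hi' hg hv' hv hne with q | q <;> rw [q]
    · exact mem_zpowers f
    · exact inv_mem (mem_zpowers f)
  obtain ⟨e, he, hn⟩ := frattini h ⟨x, hx⟩
  obtain ⟨i, hi⟩ := (mem_powers_iff_mem_zpowers).2 (hall he)
  have hci : (k₀ ^ i)⁻¹ * e ∈ (Ker L).subgroupOf L := by
    rw [mem_subgroupOf]
    refine (π_eq_one_iff L _).1 ?_
    rw [map_mul, map_inv, map_pow, ← hf, ← hi, inv_mul_cancel]
  set m : G := (k ^ i)⁻¹ * x with hm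
  have hmL : m ∈ L := mul_mem (inv_mem (pow_mem (p.K_le p.kK) i)) hx
  have hmJ : m ∈ normalizer (Cfsg.thompsonSubgroupOf 2 T : Set G) := by
    have h1 := thompson_normalizer (h.Ker_norm_T (mem_subgroupOf.1 hci))
    have := mul_mem h1 hn
    simpa [hm, k₀, mul_assoc] using this
  have hmK : m ∈ normalizer (K : Set G) := by
    refine mem_normalizer_of_map_eq (huniq _ (comp_conj_J hK hmJ) ?_)
    rintro _ ⟨y, hy, rfl⟩
    exact mul_mem (mul_mem hmL (p.K_le hy)) (inv_mem hmL)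
  have hmW : m * w * m⁻¹ = w :=
    (p.wall _ (LocalBasics.conj_mem_of_le_normalizer le_rfl (norm_J_Z0 T hmJ) p.wZ)
      (LocalBasics.conj_mem_of_le_normalizer le_rfl (normalizer_le_wOf K hmK) p.wW)).resolve_left
      fun q => p.w1 (conj_eq_one_iff.1 q)
  have hmC : ∀ c ∈ Cz T K, m * c * m⁻¹ = c := by
    intro c hc
    by_cases hc1 : c = 1
    · subst hc1; group
    have hm' : m * c * m⁻¹ ∈ Cz T K :=
      ⟨LocalBasics.conj_mem_of_le_normalizer le_rfl (norm_J_Z0 T hmJ) hc.1,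
        LocalBasics.conj_mem_of_le_normalizer (LocalBasics.le_normalizer_centralizer le_rfl)
          hmK hc.2⟩
    by_contra hne
    have h3 : ({⟨1, one_mem _⟩, ⟨c, hc⟩, ⟨_, hm'⟩} : Finset ↥(Cz T K)).card = 3 := by
      rw [Finset.card_insert_of_notMem, Finset.card_pair]
      · exact fun q => hne (congrArg Subtype.val q).symm
      · simp only [Finset.mem_insert, Finset.mem_singleton, not_or]
        exact ⟨fun q => hc1 (congrArg Subtype.val q).symm,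
          fun q => hc1 (conj_eq_one_iff.1 (congrArg Subtype.val q).symm)⟩
    have := Fintype.ofFinite ↥(Cz T K)
    have := Finset.card_le_univ ({⟨1, one_mem _⟩, ⟨c, hc⟩, ⟨_, hm'⟩} : Finset ↥(Cz T K))
    rw [h3, ← Nat.card_eq_fintype_card] at this
    have := p.side.small
    omega
  have hmZ : ∀ z ∈ Z0 T, m * z = z * m := by
    intro z hz
    refine mul_inv_eq_iff_eq_mul.1 ?_
    rcases p.wdec z hz with hzc | hzc
    · exact hmC z hzc
    · calc m * z * m⁻¹ = (m * (z * w) * m⁻¹) * (m * w * m⁻¹)⁻¹ := by group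
        _ = z := by rw [hmC _ hzc, hmW, mul_inv_cancel_right]
  refine ⟨i, m, by rw [hm]; group, hmL, ?_, hmK, hmZ⟩
  obtain ⟨S, hS⟩ := h.tp.exists_le_sylow
  have hmS : m ∈ normalizer ((S : Subgroup G) : Set G) := p.side.r.zentral S fun z hz =>
    (hmZ z (omegaCenter_le_Z0 T (p.omegaCenter_sylow_le S hS hz))).symm
  have hST : (S : Subgroup G) ⊓ L = T := by
    refine (eq_of_le_of_card_ge (le_inf hS h.T_le) ?_).symm
    obtain ⟨l, -, hsub⟩ := sylowTwoIn_conj h.sylT (inf_le_right : (S : Subgroup G) ⊓ L ≤ L)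
      (S.2.to_le inf_le_left)
    exact (Subgroup.card_le_of_le hsub).trans_eq (card_map_of_injective (MulAut.conj l).injective)
  have : m ∈ normalizer (((S : Subgroup G) ⊓ L : Subgroup G) : Set G) :=
    LocalBasics.le_normalizer_inf (X := normalizer ((S : Subgroup G) : Set G) ⊓ L)
      inf_le_left (inf_le_right.trans le_normalizer) ⟨hmS, hmL⟩
  rwa [hST] at this

end Cfsg.Agent.JCompAdjacent
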