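import Mathlib
import Cfsg.Prelude.Def_JComponents
import Cfsg.Agent.Lib.JCompAdjacent

/-!
`W_{K'}` does not centralise `W_K`.
-/

set_option autoImplicit false

namespace Cfsg.Agent.JCompFar

open Subgroup Cfsg JCompBase JCompTV JCompCore JCompLine JCompClass JCompDuo JCompSide JCompAdjacent

variable {G : Type*} [Group G] [Finite G]

/-- The side reached after `n` steps starting from `s`. -/
def par (s : Bool) : ℕ → Bool
  | 0 => s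
  | n + 1 => !(par s n)

theorem par_not (s : Bool) : ∀ n, par (!s) n = !(par s n)
  | 0 => rfl
  | n + 1 => by show (!(par (!s) n)) = !!(par s n); rw [par_not s n]

/-- Products of `n` factors taken alternately from the two sides. -/
def Wd (P : Bool → Subgroup G) : Bool → ℕ → Set G
  | _, 0 => {1}
  | s, n + 1 => {g | ∃ p ∈ P s, ∃ h ∈ Wd P (!s) n, g = p * h}

variable {P : Bool → Subgroup G}

theorem snoc : ∀ (n : ℕ) (s : Bool) (h p : G), h ∈ Wd P s n → p ∈ P (par s n) →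
    h * p ∈ Wd P s (n + 1) := by
  intro n
  induction n with
  | zero =>
    intro s h p hh hp
    have h1 : h = 1 := hh
    exact ⟨p, hp, 1, rfl, by rw [h1]; group⟩
  | succ n ih =>
    rintro s h p ⟨q, hq, h', hh', rfl⟩ hp
    exact ⟨q, hq, h' * p, ih (!s) h' p hh' (by rwa [par_not]), mul_assoc _ _ _⟩

theorem unsnoc : ∀ (n : ℕ) (s : Bool) (g : G), g ∈ Wd P s (n + 1) →
    ∃ h ∈ Wd P s n, ∃ p ∈ P (par s n), g = h * p := by
  intro n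
  induction n with
  | zero =>
    rintro s g ⟨p, hp, h, hh, rfl⟩
    have h1 : h = 1 := hh
    exact ⟨1, rfl, p, hp, by rw [h1]; group⟩
  | succ n ih =>
    rintro s g ⟨q, hq, h', hh', rfl⟩
    obtain ⟨h, hh, p, hp, rfl⟩ := ih (!s) h' hh'
    exact ⟨q * h, ⟨q, hq, h, hh, rfl⟩, p, by rwa [par_not] at hp, (mul_assoc _ _ _).symm⟩

theorem inv_mem' : ∀ (n : ℕ) (s : Bool) (g : G), g ∈ Wd P s n → ∃ a, g⁻¹ ∈ Wd P a n := by
  suffices h : ∀ (n : ℕ) (s : Bool) (g : G), g ∈ Wd P s (n + 1) → g⁻¹ ∈ Wd P (par s n) (n + 1) by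
    intro n s g hg
    cases n with
    | zero => exact ⟨s, by rw [show g = 1 from hg]; exact inv_one⟩
    | succ n => exact ⟨_, h n s g hg⟩
  intro n
  induction n with
  | zero =>
    rintro s g ⟨p, hp, h, hh, rfl⟩
    have h1 : h = 1 := hh
    exact ⟨p⁻¹, inv_mem hp, 1, rfl, by rw [h1]; group⟩
  | succ n ih =>
    rintro s g ⟨p, hp, h, hh, rfl⟩
    rw [mul_inv_rev]
    have h1 := ih (!s) h hh
    rw [par_not] at h1
    refine snoc (n + 1) _ _ _ h1 ?_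
    have hpar : ∀ m, par (!(par s m)) (m + 1) = s := by
      intro m
      induction m with
      | zero => show (!(!s)) = s; simp
      | succ m ihm =>
        show (!(par (!!(par s m)) (m + 1))) = s
        rw [par_not, Bool.not_not]; exact ihm
    rw [show par (par s (n + 1)) (n + 1) = s from hpar n]
    exact inv_mem hp

/-- All data of two sides with commuting `W`'s. -/
structure Amal (T : Subgroup G) (K : Bool → Subgroup G) (w k : Bool → G) : Prop where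
  pick : ∀ s, Pick T (K s) (w s) (k s)
  duo : ∀ s, Duo T (K s) (K (!s))
  low : ∀ s, Cfsg.wOf (K (!s)) ≤ Rt T (K s)

variable {T : Subgroup G} {K : Bool → Subgroup G} {w k : Bool → G}

namespace Amal

variable (a : Amal T K w k)
include a

theorem w_Cz (s : Bool) : w s ∈ Cz T (K (!s)) := by
  have := w_mem (a.duo (!s)) (a.pick (!s)) (by simpa using a.pick s)
    (by simpa using a.low (!s))
  simpa using this

theorem W_norm {s : Bool} {p y : G} (hp : p ∈ K s ⊔ T) (hy : y ∈ Cfsg.wOf (K s)) :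
    p * y * p⁻¹ ∈ Cfsg.wOf (K s) :=
  LocalBasics.conj_mem_of_le_normalizer
    ((sup_le le_normalizer (a.pick s).side.norm).trans (normalizer_le_wOf (K s))) hp hy

theorem P_fix {s : Bool} {p : G} (hp : p ∈ K (!s) ⊔ T) : p * w s * p⁻¹ = w s := by
  obtain ⟨i, t, ht, rfl⟩ := (a.pick (!s)).mem_P hp
  have h1 : Commute (k (!s)) (w s) := (a.w_Cz s).2 _ (a.pick (!s)).kK
  have h2 : Commute t (w s) := (a.pick s).T_Z0 ht (a.pick s).wZ
  exact mul_inv_eq_iff_eq_mul.2 (Commute.mul_left (h1.pow_left i) h2).eq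

theorem uniq (s : Bool) : ∀ K₂, Cfsg.IsJComponent T K₂ → K₂ ≤ Lstar T (K s) → K₂ = K s :=
  fun _ h₂ h₂L => JCompAdjacent.unique (a.duo s) (a.pick s) (a.pick (!s)) (a.low s) h₂ h₂L

theorem map_Lstar {u v : Bool} {g : G} (hg : g * w u * g⁻¹ = w v) :
    (Lstar T (K (!u))).map (MulAut.conj g).toMonoidHom = Lstar T (K (!v)) := by
  refine ((a.pick (!v)).side.r.max_eq ⟨map_twoLocal g (a.pick (!u)).side.r.isMax_star.1,
    fun N hN hle => ?_⟩ ?_).symm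
  · have h1 := map_mono (f := (MulAut.conj g⁻¹).toMonoidHom) hle
    rw [map_conj_inv] at h1
    exact (map_conj_inv' g N).symm.trans
      (congrArg _ ((a.pick (!u)).side.r.isMax_star.2 _ (map_twoLocal g⁻¹ hN) h1))
  · refine (KJ_le_centralizer (a.w_Cz v)).trans fun x hx => ?_
    refine ⟨g⁻¹ * x * g, cent_le_Lstar (a.pick (!u)).side.r (a.w_Cz u) (a.pick u).w1 ?_,
      by simp [mul_assoc]⟩
    refine mem_centralizer_singleton_iff.2 ?_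
    have h1 : x * w v = w v * x := mem_centralizer_singleton_iff.1 hx
    have h2 : w u = g⁻¹ * w v * g := by rw [← hg]; group
    rw [h2]
    calc g⁻¹ * x * g * (g⁻¹ * w v * g) = g⁻¹ * (x * w v) * g := by group
      _ = _ := by rw [h1]; group

end Amal

/-- Some conjugate of some `W` does not commute with some `W`, with `n` factors. -/
def Bad (T : Subgroup G) (K : Bool → Subgroup G) (n : ℕ) : Prop :=
  ∃ b s t : Bool, ∃ g ∈ Wd (fun x => K x ⊔ T) b n, ∃ x ∈ Cfsg.wOf (K s), ∃ y ∈ Cfsg.wOf (K t),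
    x * (g * y * g⁻¹) ≠ g * y * g⁻¹ * x

namespace Amal

variable (a : Amal T K w k)
include a

theorem exists_bad : ∃ n, Bad T K n := by
  by_contra hno
  set P : Bool → Subgroup G := fun x => K x ⊔ T with hP
  set G0 := P true ⊔ P false
  set U : Set G := {g | ∃ b n, g ∈ Wd P b n}
  have hmul : ∀ s, ∀ p ∈ P s, ∀ g ∈ U, p * g ∈ U := by
    rintro s p hp g ⟨b, n, hg⟩
    by_cases hb : b = !s
    · exact ⟨s, n + 1, p, hp, g, hb ▸ hg, rfl⟩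
    have hbs : b = s := by cases b <;> cases s <;> simp_all
    subst hbs
    cases n with
    | zero => exact ⟨b, 1, p, hp, 1, rfl, by rw [show g = 1 from hg]⟩
    | succ n =>
      obtain ⟨q, hq, h, hh, rfl⟩ := hg
      exact ⟨b, n + 1, p * q, mul_mem hp hq, h, hh, (mul_assoc _ _ _).symm⟩
  have hG0 : ∀ g ∈ G0, g ∈ U := by
    intro g hg
    have e : G0 = closure ((P true : Set G) ∪ P false) := by
      rw [Subgroup.closure_union, closure_eq, closure_eq]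
    rw [e] at hg
    induction hg using Subgroup.closure_induction_left with
    | one => exact ⟨true, 0, rfl⟩
    | mul_left x hx y _ hy => rcases hx with h | h; exacts [hmul _ x h y hy, hmul _ x h y hy]
    | inv_mul_cancel x hx y _ hy =>
      rcases hx with h | h
      exacts [hmul _ _ (inv_mem h) y hy, hmul _ _ (inv_mem h) y hy]
  set S : Set G := {z | ∃ g ∈ G0, ∃ t, ∃ y ∈ Cfsg.wOf (K t), z = g * y * g⁻¹} with hS
  have hcomm : ∀ z ∈ S, ∀ z' ∈ S, z * z' = z' * z := by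
    rintro _ ⟨g, hg, t, x, hx, rfl⟩ _ ⟨g', hg', t', y, hy, rfl⟩
    obtain ⟨b, n, hn⟩ := hG0 _ (mul_mem (inv_mem hg) hg')
    have h1 : x * ((g⁻¹ * g') * y * (g⁻¹ * g')⁻¹) = (g⁻¹ * g') * y * (g⁻¹ * g')⁻¹ * x :=
      by_contra fun h => hno ⟨n, b, t, t', _, hn, x, hx, y, hy, h⟩
    calc g * x * g⁻¹ * (g' * y * g'⁻¹) = g * (x * ((g⁻¹ * g') * y * (g⁻¹ * g')⁻¹)) * g⁻¹ := by group
      _ = g * ((g⁻¹ * g') * y * (g⁻¹ * g')⁻¹ * x) * g⁻¹ := by rw [h1]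
      _ = _ := by group
  set N := closure S
  have hNc : ∀ x ∈ N, ∀ y ∈ N, x * y = y * x := fun x hx y hy => by
    have h1 : N ≤ centralizer S := (closure_le _).2 fun z hz =>
      mem_centralizer_iff.2 fun g hg => hcomm g hg z hz
    have h2 : N ≤ centralizer (N : Set G) := (closure_le _).2 fun z hz =>
      mem_centralizer_iff.2 fun g hg => (mem_centralizer_iff.1 (h1 hg) z hz).symm
    exact (mem_centralizer_iff.1 (h2 hx) y hy).symm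
  have hNeq : omegaOne 2 N = N := le_antisymm (Offenders.omegaOne_le _) ((closure_le _).2 (by
    rintro z ⟨g, hg, t, y, hy, rfl⟩
    refine Offenders.mem_omegaOne (subset_closure ⟨g, hg, t, y, hy, rfl⟩) ?_
    rw [conj_pow, pow_two, (a.pick t).W_sq hy]; group))
  have hNp : IsPGroup 2 ↥N := hNeq ▸ Offenders.ea_isPGroup (Offenders.omegaOne_ea hNc)
  have hPle : ∀ t, P t ≤ G0 := fun t => by cases t; exacts [le_sup_right, le_sup_left]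
  have hNG : N ≤ G0 := (closure_le _).2 (by
    rintro z ⟨g, hg, t, y, hy, rfl⟩
    refine mul_mem (mul_mem hg (hPle t (mem_sup_right ?_))) (inv_mem hg)
    exact ((a.pick t).W_le_Rt hy).1)
  have hGN : G0 ≤ normalizer (N : Set G) := LocalBasics.le_normalizer_of_conj fun g hg z hz => by
    induction hz using Subgroup.closure_induction with
    | mem z hz =>
      obtain ⟨g', hg', t, y, hy, rfl⟩ := hz
      exact subset_closure ⟨g * g', mul_mem hg hg', t, y, hy, by group⟩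
    | one => simp [one_mem]
    | inv y _ hy => rw [show g * y⁻¹ * g⁻¹ = (g * y * g⁻¹)⁻¹ by group]; exact inv_mem hy
    | mul y z _ _ hy hz =>
      rw [show g * (y * z) * g⁻¹ = (g * y * g⁻¹) * (g * z * g⁻¹) by group]; exact mul_mem hy hz
  have hN1 : N ≤ Cfsg.pCoreOf 2 G0 := LocalBasics.le_pCoreOf hNG hGN hNp
  have hj : Cfsg.pCoreOf 2 G0 = ⊥ := core_join (a.duo true)
  rw [hj, le_bot_iff] at hN1
  have : w true ∈ N := subset_closure ⟨1, one_mem _, true, w true, (a.pick true).wW, by group⟩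
  exact (a.pick true).w1 (mem_bot.1 (hN1 ▸ this))

theorem bad_one : ∃ s : Bool, ∃ p ∈ K (!s) ⊔ T, ∃ x ∈ Cfsg.wOf (K s), ∃ y ∈ Cfsg.wOf (K s),
    x * (p * y * p⁻¹) ≠ p * y * p⁻¹ * x := by
  classical
  have hex := a.exists_bad
  have hmin : ∀ i < Nat.find hex, ¬ Bad T K i := fun i hi => Nat.find_min hex hi
  have hbad := Nat.find_spec hex
  revert hmin hbad
  generalize Nat.find hex = n
  intro hmin hbad
  obtain ⟨b, s, t, g, hg, x, hx, y, hy, hne⟩ := hbad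
  rcases n with _ | m
  · exfalso
    rw [show g = 1 from hg] at hne
    apply hne
    rw [one_mul, inv_one, mul_one]
    by_cases hst : t = s
    · subst hst; exact (a.pick t).W_comm hx hy
    · have hts : t = !s := by cases t <;> cases s <;> simp_all
      subst hts
      exact (a.low s hy).2 x hx
  have hmin' : ∀ i ≤ m, ∀ b s t : Bool, ∀ g ∈ Wd (fun x => K x ⊔ T) b i,
      ∀ x ∈ Cfsg.wOf (K s), ∀ y ∈ Cfsg.wOf (K t), x * (g * y * g⁻¹) = g * y * g⁻¹ * x :=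
    fun i hi b s t g hg x hx y hy => by_contra fun h =>
      hmin i (Nat.lt_succ_of_le hi) ⟨b, s, t, g, hg, x, hx, y, hy, h⟩
  -- conjugates by short products stay in `T`
  have hin : ∀ i ≤ m + 1, ∀ b s : Bool, ∀ h ∈ Wd (fun x => K x ⊔ T) b i,
      ∀ x ∈ Cfsg.wOf (K s), h⁻¹ * x * h ∈ T := by
    intro i
    induction i with
    | zero =>
      intro _ b s h hh x hx
      rw [show h = 1 from hh, inv_one, one_mul, mul_one]
      exact ((a.pick s).W_le_Rt hx).1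
    | succ i ih =>
      intro hi b s h hh x hx
      obtain ⟨h₀, hh₀, p, hp, rfl⟩ := unsnoc i b h hh
      have h1 : h₀⁻¹ * x * h₀ ∈ Rt T (K (par b i)) := by
        refine ⟨ih (by omega) b s h₀ hh₀ x hx, fun z hz => ?_⟩
        have h2 := hmin' i (by omega) b s (par b i) h₀ hh₀ x hx z hz
        calc z * (h₀⁻¹ * x * h₀) = h₀⁻¹ * ((h₀ * z * h₀⁻¹) * x) * h₀ := by group
          _ = h₀⁻¹ * (x * (h₀ * z * h₀⁻¹)) * h₀ := by rw [h2]
          _ = _ := by group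
      have h2 := LocalBasics.conj_mem_of_le_normalizer (a.pick (par b i)).P_norm_Rt (inv_mem hp) h1
      have e : (h₀ * p)⁻¹ * x * (h₀ * p) = p⁻¹ * (h₀⁻¹ * x * h₀) * p⁻¹⁻¹ := by group
      rw [e]; exact h2.1
  -- the first factor
  have hb : b = !s := by
    by_contra hb
    have hbs : b = s := by cases b <;> cases s <;> simp_all
    subst hbs
    obtain ⟨p, hp, h, hh, rfl⟩ := hg
    apply hne
    have h1 := hmin' m le_rfl _ b t h hh _ (a.W_norm (inv_mem hp) hx) y hy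
    calc x * (p * h * y * (p * h)⁻¹) = p * ((p⁻¹ * x * p⁻¹⁻¹) * (h * y * h⁻¹)) * p⁻¹ := by group
      _ = p * ((h * y * h⁻¹) * (p⁻¹ * x * p⁻¹⁻¹)) * p⁻¹ := by rw [h1]
      _ = _ := by group
  subst hb
  -- the last factor
  have hlast : par (!s) m = !t := by
    by_contra hl
    have hlt : par (!s) m = t := by
      revert hl
      cases par (!s) m <;> cases t <;> simp
    obtain ⟨h, hh, p, hp, rfl⟩ := unsnoc m (!s) g hg
    apply hne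
    rw [hlt] at hp
    have h1 := hmin' m le_rfl _ s t h hh x hx _ (a.W_norm hp hy)
    calc x * (h * p * y * (h * p)⁻¹) = x * (h * (p * y * p⁻¹) * h⁻¹) := by group
      _ = h * (p * y * p⁻¹) * h⁻¹ * x := h1
      _ = _ := by group
  rcases m with _ | l
  · have hts : t = s := by
      change (!s) = !t at hlast
      exact (Bool.not_inj hlast).symm
    subst hts
    obtain ⟨p, hp, h, hh, rfl⟩ := hg
    rw [show h = 1 from hh, mul_one] at hne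
    exact ⟨t, p, hp, x, hx, y, hy, hne⟩
  exfalso
  -- the commutator
  have hy' : g * y * g⁻¹ ∈ T := by
    obtain ⟨b', hb'⟩ := inv_mem' _ _ _ hg
    have := hin _ le_rfl b' t g⁻¹ hb' y hy
    rwa [inv_inv] at this
  have hx' : g⁻¹ * x * g ∈ T := hin _ le_rfl _ s g hg x hx
  have e1 := ((a.pick s).T_move hy' hx).resolve_left fun q =>
    hne (mul_inv_eq_iff_eq_mul.1 q).symm
  have e2 := ((a.pick t).T_move hx' hy).resolve_left fun q => hne (by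
    calc x * (g * y * g⁻¹) = g * ((g⁻¹ * x * g) * y) * g⁻¹ := by group
      _ = g * (y * (g⁻¹ * x * g)) * g⁻¹ := by rw [mul_inv_eq_iff_eq_mul.1 q]
      _ = _ := by group)
  have hwg : g * w t * g⁻¹ = w s := by
    have hyw : y * w t * y⁻¹ = w t := by
      rw [(a.pick t).W_comm hy (a.pick t).wW, mul_inv_cancel_right]
    have hxw : x * w s * x⁻¹ = w s := by
      rw [(a.pick s).W_comm hx (a.pick s).wW, mul_inv_cancel_right]
    calc g * w t * g⁻¹ = g * (y * (w t)⁻¹ * y⁻¹) * g⁻¹ := by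
          rw [Z0_inv (a.pick t).wZ, hyw]
      _ = g * (y * ((g⁻¹ * x * g) * y * (g⁻¹ * x * g)⁻¹)⁻¹) * g⁻¹ := by rw [e2]; group
      _ = ((g * y * g⁻¹) * x * (g * y * g⁻¹)⁻¹) * x⁻¹ := by group
      _ = w s := by rw [e1, hxw]
  obtain ⟨p₁, hp₁, g', hg', rfl⟩ := hg
  obtain ⟨g₂, -, pn, hpn, rfl⟩ := unsnoc l (!!s) g' hg'
  rw [Bool.not_not] at hpn
  have hpl : par s l = !t := by
    change (!(par (!s) l)) = !t at hlast
    rw [par_not, Bool.not_not] at hlast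
    exact hlast
  rw [hpl] at hpn
  have hg₂ : g₂ * w t * g₂⁻¹ = w s := by
    calc g₂ * w t * g₂⁻¹ = g₂ * (pn * w t * pn⁻¹) * g₂⁻¹ := by rw [a.P_fix hpn]
      _ = p₁⁻¹ * ((p₁ * (g₂ * pn)) * w t * (p₁ * (g₂ * pn))⁻¹) * p₁⁻¹⁻¹ := by group
      _ = w s := by rw [hwg, a.P_fix (inv_mem hp₁)]
  set Ls := Lstar T (K (!s)) with hLs
  have hL₂ := a.map_Lstar hg₂
  obtain ⟨q, hq, hsub⟩ := sylowTwoIn_conj (a.pick (!s)).side.h.sylT
    (S' := T.map (MulAut.conj g₂).toMonoidHom)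
    (hL₂ ▸ map_mono (a.pick (!t)).side.h.T_le) ((a.pick s).side.r.tp.map _)
  have heq := eq_of_le_of_card_ge hsub (le_of_eq ((card_map_of_injective
    (MulAut.conj q).injective).trans (card_map_of_injective (MulAut.conj g₂).injective).symm))
  set d := q⁻¹ * g₂ with hd
  have hdT : d ∈ normalizer (T : Set G) := by
    refine mem_normalizer_of_map_eq ?_
    have e3 : (MulAut.conj d).toMonoidHom =
        (MulAut.conj q⁻¹).toMonoidHom.comp (MulAut.conj g₂).toMonoidHom := by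
      rw [hd, map_mul]; rfl
    rw [e3, ← Subgroup.map_map, heq, map_conj_inv]
  have hdJ := thompson_normalizer hdT
  have hKd : ∀ u v, (Lstar T (K u)).map (MulAut.conj d).toMonoidHom = Lstar T (K v) →
      (K u).map (MulAut.conj d).toMonoidHom = K v := fun u v huv =>
    a.uniq v _ (comp_conj_J (a.pick u).side.r.comp hdJ) (huv ▸ map_mono (a.pick u).K_le)
  have hd₁ : (Lstar T (K (!t))).map (MulAut.conj d).toMonoidHom = Ls := by
    have e3 : (MulAut.conj d).toMonoidHom =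
        (MulAut.conj q⁻¹).toMonoidHom.comp (MulAut.conj g₂).toMonoidHom := by
      rw [hd, map_mul]; rfl
    rw [e3, ← Subgroup.map_map, hL₂, conj_eq_self (le_normalizer (inv_mem hq))]
  have hK₁ := hKd _ _ hd₁
  have hdw : d * w (!t) * d⁻¹ = w (!s) :=
    ((a.pick (!s)).wall _ (LocalBasics.conj_mem_of_le_normalizer le_rfl (norm_J_Z0 T hdJ)
      (a.pick (!t)).wZ) (by rw [← hK₁, ← map_wOf]; exact ⟨_, (a.pick (!t)).wW, rfl⟩)).resolve_left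
      fun q => (a.pick (!t)).w1 (conj_eq_one_iff.1 q)
  have hd₂ := a.map_Lstar hdw
  rw [Bool.not_not, Bool.not_not] at hd₂
  have hK₂ := hKd _ _ hd₂
  have hp' : d * pn * d⁻¹ ∈ K (!s) ⊔ T := by
    have h1 : (K (!t) ⊔ T).map (MulAut.conj d).toMonoidHom = K (!s) ⊔ T := by
      rw [Subgroup.map_sup, hK₁, conj_eq_self hdT]
    exact h1 ▸ ⟨pn, hpn, rfl⟩
  have hyd : d * y * d⁻¹ ∈ Cfsg.wOf (K s) := by
    rw [← hK₂, ← map_wOf]; exact ⟨y, hy, rfl⟩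
  set h := p₁ * q * (d * pn * d⁻¹) with hh
  have hhL : h ∈ Ls :=
    mul_mem (mul_mem ((a.pick (!s)).P_le hp₁) hq) ((a.pick (!s)).P_le hp')
  obtain ⟨i, m, hm, -, hmT, -, hmZ⟩ := Lstar_decomp (a.pick (!s)) (a.uniq (!s)) hhL
  have hmL : m ∈ Lstar T (K s) := by
    have h1 := a.w_Cz (!s)
    rw [Bool.not_not] at h1
    exact cent_le_Lstar (a.pick s).side.r h1 (a.pick (!s)).w1
      (mem_centralizer_singleton_iff.2 (hmZ _ (a.pick (!s)).wZ))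
  have hmK : (K s).map (MulAut.conj m).toMonoidHom = K s := by
    refine a.uniq s _ (comp_conj_J (a.pick s).side.r.comp (thompson_normalizer hmT)) ?_
    rintro _ ⟨z, hz, rfl⟩
    exact mul_mem (mul_mem hmL ((a.pick s).K_le hz)) (inv_mem hmL)
  have hym : m * (d * y * d⁻¹) * m⁻¹ ∈ Cfsg.wOf (K s) := by
    rw [← hmK, ← map_wOf]; exact ⟨_, hyd, rfl⟩
  refine hne ?_
  have hk : (k (!s)) ^ i ∈ Wd (fun x => K x ⊔ T) (!s) 1 :=
    ⟨_, mem_sup_left (pow_mem (a.pick (!s)).kK i), 1, rfl, (mul_one _).symm⟩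
  have h1 := hmin' 1 (by omega) _ s s _ hk x hx _ hym
  have e4 : p₁ * (g₂ * pn) * y * (p₁ * (g₂ * pn))⁻¹ =
      (k (!s)) ^ i * (m * (d * y * d⁻¹) * m⁻¹) * ((k (!s)) ^ i)⁻¹ := by
    calc p₁ * (g₂ * pn) * y * (p₁ * (g₂ * pn))⁻¹ = h * (d * y * d⁻¹) * h⁻¹ := by
          rw [hh, hd]; group
      _ = _ := by rw [hm]; group
  rw [e4]
  exact h1

end Amal

variable {K₁ K₂ : Subgroup G} {w₁ k₁ w₂ k₂ : G}

/-- The commutator of conjugates taken on one side. -/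
theorem sq_side (p : Pick T K₁ w₁ k₁) (p' : Pick T K₂ w₂ k₂) (hW : Cfsg.wOf K₂ ≤ Rt T K₁)
    (hw : w₂ ∈ Cz T K₁) {u y : G} (hu : u ∈ Cfsg.wOf K₂)
    (hnc : u * (k₁ * u * k₁⁻¹) ≠ k₁ * u * k₁⁻¹ * u) (hy : y ∈ Rt T K₂) (hyR : y ∉ Rt T K₁) :
    ∃ c, c = (k₁ * u * k₁⁻¹) * y * (k₁ * u * k₁⁻¹) * y⁻¹ ∧ c * c = w₂ := by
  refine ⟨_, rfl, ?_⟩
  set x₁ := k₁ * u * k₁⁻¹ with hx₁
  set x₂ := k₁⁻¹ * u * k₁⁻¹⁻¹ with hx₂
  have hkz : Commute k₁ w₂ := hw.2 _ p.kK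
  have hu2 : u * u = 1 := p'.W_sq hu
  have hx₁R : x₁ ∈ Rt T K₁ := p.k_Rt (hW hu)
  have hx₂R : x₂ ∈ Rt T K₁ :=
    LocalBasics.conj_mem_of_le_normalizer p.K_norm_Rt (inv_mem p.kK) (hW hu)
  clear_value x₁ x₂
  have h1 : x₁ * u * x₁⁻¹ = u * w₂ :=
    (p'.T_move hx₁R.1 hu).resolve_left fun q => hnc (mul_inv_eq_iff_eq_mul.1 q).symm
  have hcent : ∀ t ∈ T, t * w₂ = w₂ * t := fun t ht => p'.T_Z0 ht p'.wZ
  have hk2 : k₁ * k₁ = k₁⁻¹ :=
    (inv_eq_of_mul_eq_one_right (by rw [← pow_three]; exact p.k3)).symm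
  have h2 : x₂ * x₁ * x₂⁻¹ = x₁ * w₂ := by
    have e : x₂ = k₁ * x₁ * k₁⁻¹ := by
      rw [hx₁, hx₂, conj_conj, hk2]
    rw [e]
    calc k₁ * x₁ * k₁⁻¹ * x₁ * (k₁ * x₁ * k₁⁻¹)⁻¹
        = k₁ * (x₁ * u * x₁⁻¹) * k₁⁻¹ := by rw [hx₁]; group
      _ = x₁ * (k₁ * w₂ * k₁⁻¹) := by rw [h1, hx₁]; group
      _ = x₁ * w₂ := by rw [hkz.eq, mul_inv_cancel_right]
  obtain ⟨q, hq, eq1⟩ := (p.conj_k hy.1).2 hyR
  have hyu : y * u * y⁻¹ = u := mul_inv_eq_iff_eq_mul.2 (hy.2 u hu).symm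
  have h3 : y * x₁ * y⁻¹ = x₂ ∨ y * x₁ * y⁻¹ = x₂ * w₂ := by
    have e : y * x₁ * y⁻¹ = k₁⁻¹ * (q * u * q⁻¹) * k₁⁻¹⁻¹ := by
      calc y * x₁ * y⁻¹ = (y * k₁ * y⁻¹) * (y * u * y⁻¹) * (y * k₁ * y⁻¹)⁻¹ := by rw [hx₁]; group
        _ = _ := by rw [eq1, hyu]; group
    rcases p'.T_move (p.core_le_T hq) hu with h | h <;> rw [e, h]
    · exact Or.inl hx₂.symm
    · right
      rw [hx₂, show k₁⁻¹ * (u * w₂) * k₁⁻¹⁻¹ = (k₁⁻¹ * u * k₁⁻¹⁻¹) * (k₁⁻¹ * w₂ * k₁⁻¹⁻¹) by group,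
        hkz.inv_left.eq, mul_inv_cancel_right]
  have hx₁2 : x₁ * x₁ = 1 := by
    rw [hx₁, show k₁ * u * k₁⁻¹ * (k₁ * u * k₁⁻¹) = k₁ * (u * u) * k₁⁻¹ by group, hu2]; group
  have hx₂2 : x₂ * x₂ = 1 := by
    rw [hx₂, show k₁⁻¹ * u * k₁⁻¹⁻¹ * (k₁⁻¹ * u * k₁⁻¹⁻¹) = k₁⁻¹ * (u * u) * k₁⁻¹⁻¹ by group, hu2]
    group
  have hbase : x₁ * x₂ * (x₁ * x₂) = w₂ := by
    calc x₁ * x₂ * (x₁ * x₂) = x₁ * (x₂ * x₁ * x₂⁻¹) * (x₂ * x₂) := by group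
      _ = w₂ := by rw [h2, hx₂2, ← mul_assoc, hx₁2, one_mul, mul_one]
  have hcc : x₁ * y * x₁ * y⁻¹ = x₁ * x₂ ∨ x₁ * y * x₁ * y⁻¹ = x₁ * x₂ * w₂ := by
    have e : x₁ * y * x₁ * y⁻¹ = x₁ * (y * x₁ * y⁻¹) := by group
    rcases h3 with h | h <;> rw [e, h]
    · exact Or.inl rfl
    · exact Or.inr (mul_assoc _ _ _).symm
  rcases hcc with h | h <;> rw [h]
  · exact hbase
  · calc x₁ * x₂ * w₂ * (x₁ * x₂ * w₂) = x₁ * x₂ * (w₂ * (x₁ * x₂)) * w₂ := by group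
      _ = x₁ * x₂ * (x₁ * x₂) * (w₂ * w₂) := by
          rw [← hcent _ (mul_mem hx₁R.1 hx₂R.1)]; group
      _ = w₂ := by rw [hbase, Z0_sq p'.wZ, mul_one]

/-- Two sides cannot both be far apart. -/
theorem one_step (d : Duo T K₁ K₂) (p : Pick T K₁ w₁ k₁) (p' : Pick T K₂ w₂ k₂)
    (hW : Cfsg.wOf K₂ ≤ Rt T K₁) {i : ℕ} {x y : G} (hx : x ∈ Cfsg.wOf K₂) (hy : y ∈ Cfsg.wOf K₂)
    (hne : x * (k₁ ^ i * y * (k₁ ^ i)⁻¹) ≠ k₁ ^ i * y * (k₁ ^ i)⁻¹ * x) : False := by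
  have hW' := Rt_swap p hW
  have hzC : w₂ ∈ Cz T K₁ := w_mem d p p' hW
  have hwC : w₁ ∈ Cz T K₂ := w_mem d.symm p' p hW'
  have hww : w₂ ≠ w₁ := fun e => p.wC (e ▸ hzC)
  set u := k₂ * w₂ * k₂⁻¹ with hu
  have huW : u ∈ Cfsg.wOf K₂ := p'.k_W p'.wW
  have hkz : Commute k₁ w₂ := hzC.2 _ p.kK
  -- reduce to `u` and `k₁ u k₁⁻¹`
  have hnc : u * (k₁ * u * k₁⁻¹) ≠ k₁ * u * k₁⁻¹ * u := by
    intro hc
    apply hne
    have hall : ∀ x ∈ Cfsg.wOf K₂, ∀ y ∈ Cfsg.wOf K₂, Commute x (k₁ * y * k₁⁻¹) := by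
      intro x hx y hy
      have hz : ∀ r ∈ Rt T K₁, Commute w₂ r := fun r hr => (p'.T_Z0 hr.1 p'.wZ).symm
      have hkw : k₁ * w₂ * k₁⁻¹ = w₂ := mul_inv_eq_iff_eq_mul.2 hkz.eq
      have hy' : Commute u (k₁ * y * k₁⁻¹) := by
        rcases p'.W_cases hy with rfl | rfl | rfl | rfl
        · simp
        · rw [hkw]; exact (hz u (hW huW)).symm
        · exact hc
        · rw [show k₁ * (w₂ * (k₂ * w₂ * k₂⁻¹)) * k₁⁻¹ = (k₁ * w₂ * k₁⁻¹) * (k₁ * u * k₁⁻¹) by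
            rw [hu]; group, hkw]
          exact Commute.mul_right (hz u (hW huW)).symm hc
      have hyR : k₁ * y * k₁⁻¹ ∈ Rt T K₁ := p.k_Rt (hW hy)
      rcases p'.W_cases hx with rfl | rfl | rfl | rfl
      · exact Commute.one_left _
      · exact hz _ hyR
      · exact hy'
      · exact Commute.mul_left (hz _ hyR) hy'
    have hmod : k₁ ^ i = k₁ ^ (i % 3) := by
      conv_lhs => rw [← Nat.mod_add_div i 3, pow_add, pow_mul, p.k3, one_pow, mul_one]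
    rw [hmod]
    rcases (by omega : i % 3 = 0 ∨ i % 3 = 1 ∨ i % 3 = 2) with h | h | h <;> rw [h]
    · rw [pow_zero, one_mul, inv_one, mul_one]; exact p'.W_comm hx hy
    · rw [pow_one]; exact (hall x hx y hy).eq
    · have h1 := (hall y hy x hx).eq
      have e : k₁ ^ 2 = k₁⁻¹ := eq_inv_of_mul_eq_one_left (by rw [← pow_succ]; exact p.k3)
      rw [e]
      calc x * (k₁⁻¹ * y * k₁⁻¹⁻¹) = k₁⁻¹ * ((k₁ * x * k₁⁻¹) * y) * k₁ := by group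
        _ = k₁⁻¹ * (y * (k₁ * x * k₁⁻¹)) * k₁ := by rw [h1]
        _ = _ := by group
  clear hne hx hy
  clear_value u
  set x₁ := k₁ * u * k₁⁻¹ with hx₁
  have hx₁R : x₁ ∈ Rt T K₁ := p.k_Rt (hW huW)
  clear_value x₁
  have hx₁R' : x₁ ∉ Rt T K₂ := fun h => hnc (h.2 u huW)
  have hu2 : u * u = 1 := p'.W_sq huW
  have hx₁2 : x₁ * x₁ = 1 := by
    rw [hx₁, show k₁ * u * k₁⁻¹ * (k₁ * u * k₁⁻¹) = k₁ * (u * u) * k₁⁻¹ by group, hu2]; group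
  set v := k₁ * w₁ * k₁⁻¹ with hv
  have hvW : v ∈ Cfsg.wOf K₁ := p.k_W p.wW
  set y₁ := k₂ * v * k₂⁻¹ with hy₁
  have hy₁R' : y₁ ∈ Rt T K₂ := p'.k_Rt (hW' hvW)
  have hv2 : v * v = 1 := p.W_sq hvW
  clear_value v y₁
  have hy₁2 : y₁ * y₁ = 1 := by
    rw [hy₁, show k₂ * v * k₂⁻¹ * (k₂ * v * k₂⁻¹) = k₂ * (v * v) * k₂⁻¹ by group, hv2]; group
  by_cases hnc' : v * y₁ = y₁ * v
  swap
  · -- both sides
    have hy₁R : y₁ ∉ Rt T K₁ := fun h => hnc' (h.2 v hvW)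
    obtain ⟨c, hc, hcc⟩ := sq_side p p' hW hzC huW (by rw [← hx₁]; exact hnc) hy₁R' hy₁R
    obtain ⟨c', hc', hcc'⟩ := sq_side p' p hW' hwC hvW (by rw [← hy₁]; exact hnc') hx₁R hx₁R'
    rw [← hx₁] at hc
    rw [← hy₁] at hc'
    have e : c' = c⁻¹ := by
      rw [hc', hc]
      simp only [mul_inv_rev, inv_inv, inv_eq_of_mul_eq_one_right hx₁2,
        inv_eq_of_mul_eq_one_right hy₁2]
      group
    refine hww ?_
    rw [← hcc', e, ← mul_inv_rev, hcc, Z0_inv p'.wZ]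
  -- the other side is commutative
  set y₂ := k₂⁻¹ * v * k₂⁻¹⁻¹ with hy₂
  have hk2 : k₂ * k₂ = k₂⁻¹ :=
    (inv_eq_of_mul_eq_one_right (by rw [← pow_three]; exact p'.k3)).symm
  have hy₂R' : y₂ ∈ Rt T K₂ :=
    LocalBasics.conj_mem_of_le_normalizer p'.K_norm_Rt (inv_mem p'.kK) (hW' hvW)
  clear_value y₂
  have hcomV : ∀ {r : G}, r ∈ T → v * r = r * v → r ∈ Rt T K₁ := by
    intro r hr hc
    rcases p.T_u hr with ⟨-, h⟩ | ⟨q, -⟩
    · exact h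
    · exfalso
      rw [← hv, show r * v * r⁻¹ = v by rw [← hc, mul_inv_cancel_right]] at q
      exact p.w1 (mul_eq_right.1 q.symm)
  have hy₁R : y₁ ∈ Rt T K₁ := hcomV hy₁R'.1 hnc'
  have hy₂R : y₂ ∈ Rt T K₁ := by
    refine hcomV hy₂R'.1 ?_
    rw [hy₂]
    calc v * (k₂⁻¹ * v * k₂⁻¹⁻¹) = k₂⁻¹ * (y₁ * v) * k₂ := by rw [hy₁]; group
      _ = k₂⁻¹ * (v * y₁) * k₂ := by rw [hnc']
      _ = _ := by rw [hy₁]; group
  have hkw : k₂ * w₁ * k₂⁻¹ = w₁ := mul_inv_eq_iff_eq_mul.2 (hwC.2 _ p'.kK)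
  set E0 := Cfsg.wOf K₂ ⊔ Z0 T with hE0
  obtain ⟨e, he, hy21⟩ : ∃ e ∈ E0, y₂ = y₁ * e := by
    obtain ⟨q, hq, eq1⟩ := (p'.conj_k hx₁R.1).2 hx₁R'
    have hxv : x₁ * v * x₁⁻¹ = v := mul_inv_eq_iff_eq_mul.2 (hx₁R.2 v hvW).symm
    obtain ⟨ε, hε, h1⟩ : ∃ ε ∈ Z0 T, x₁ * y₁ * x₁⁻¹ = y₂ * ε := by
      have e0 : x₁ * y₁ * x₁⁻¹ = k₂⁻¹ * (q * v * q⁻¹) * k₂⁻¹⁻¹ := by
        calc x₁ * y₁ * x₁⁻¹ = (x₁ * k₂ * x₁⁻¹) * (x₁ * v * x₁⁻¹) * (x₁ * k₂ * x₁⁻¹)⁻¹ := by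
              rw [hy₁]; group
          _ = _ := by rw [eq1, hxv]; group
      rcases p.T_move (p'.core_le_T hq) hvW with h | h <;> rw [e0, h]
      · exact ⟨1, one_mem _, by rw [hy₂, mul_one]⟩
      · refine ⟨w₁, p.wZ, ?_⟩
        rw [hy₂, show k₂⁻¹ * (v * w₁) * k₂⁻¹⁻¹ = (k₂⁻¹ * v * k₂⁻¹⁻¹) * (k₂⁻¹ * w₁ * k₂⁻¹⁻¹) by group]
        congr 1
        calc k₂⁻¹ * w₁ * k₂⁻¹⁻¹ = k₂⁻¹ * (k₂ * w₁ * k₂⁻¹) * k₂⁻¹⁻¹ := by rw [hkw]
          _ = w₁ := by group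
    obtain ⟨ε', hε', h2⟩ : ∃ ε ∈ Z0 T, x₁ * y₁ * x₁⁻¹ = y₁ * ε := by
      have hm : y₁ * x₁ * y₁⁻¹ = x₁ ∨ y₁ * x₁ * y₁⁻¹ = x₁ * w₂ := by
        have hr' : k₁⁻¹ * y₁ * k₁⁻¹⁻¹ ∈ Rt T K₁ :=
          LocalBasics.conj_mem_of_le_normalizer p.K_norm_Rt (inv_mem p.kK) hy₁R
        have e0 : y₁ * x₁ * y₁⁻¹ =
            k₁ * ((k₁⁻¹ * y₁ * k₁⁻¹⁻¹) * u * (k₁⁻¹ * y₁ * k₁⁻¹⁻¹)⁻¹) * k₁⁻¹ := by rw [hx₁]; group
        rcases p'.T_move hr'.1 huW with h | h <;> rw [e0, h]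
        · exact Or.inl hx₁.symm
        · right
          rw [hx₁, show k₁ * (u * w₂) * k₁⁻¹ = (k₁ * u * k₁⁻¹) * (k₁ * w₂ * k₁⁻¹) by group,
            mul_inv_eq_iff_eq_mul.2 hkz.eq]
      rcases hm with h | h
      · refine ⟨1, one_mem _, ?_⟩
        rw [mul_one]
        exact mul_inv_eq_iff_eq_mul.2 (mul_inv_eq_iff_eq_mul.1 h).symm
      · refine ⟨w₂, p'.wZ, ?_⟩
        refine mul_inv_eq_iff_eq_mul.2 ?_
        calc x₁ * y₁ = (x₁ * w₂ * y₁) * (y₁⁻¹ * w₂ * y₁) := by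
              rw [show x₁ * w₂ * y₁ * (y₁⁻¹ * w₂ * y₁) = x₁ * (w₂ * w₂) * y₁ by group,
                Z0_sq p'.wZ, mul_one]
          _ = y₁ * x₁ * (y₁⁻¹ * w₂ * y₁) := by rw [← mul_inv_eq_iff_eq_mul.1 h]
          _ = y₁ * w₂ * x₁ := by
              rw [show y₁⁻¹ * w₂ * y₁ = y₁⁻¹ * (w₂ * y₁) by group, ← p'.T_Z0 hy₁R.1 p'.wZ,
                inv_mul_cancel_left, mul_assoc, p'.T_Z0 hx₁R.1 p'.wZ, ← mul_assoc]
    refine ⟨ε' * ε⁻¹, mul_mem (mem_sup_right hε') (inv_mem (mem_sup_right hε)), ?_⟩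
    rw [h1] at h2
    rw [← mul_assoc, ← h2, mul_inv_cancel_right]
  have hkE : ∀ z ∈ E0, k₂⁻¹ * z * k₂⁻¹⁻¹ ∈ E0 := by
    intro z hz
    have : k₂⁻¹ * z * k₂⁻¹⁻¹ = k₂ * (k₂ * z * k₂⁻¹) * k₂⁻¹ := by rw [conj_conj, hk2]
    rw [this]; exact p'.k_E0 (p'.k_E0 hz)
  obtain ⟨e₁, he₁, hve₁⟩ : ∃ e ∈ E0, y₁ = v * e := by
    refine ⟨(k₂ * e * k₂⁻¹)⁻¹ * e⁻¹, mul_mem (inv_mem (p'.k_E0 he)) (inv_mem he), ?_⟩
    have h1 : k₂ * y₁ * k₂⁻¹ = y₂ := by rw [hy₁, hy₂, conj_conj, hk2]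
    have h2 : k₂ * y₂ * k₂⁻¹ = v := by rw [hy₂]; group
    have h3 : v = y₁ * e * (k₂ * e * k₂⁻¹) := by
      calc v = k₂ * y₂ * k₂⁻¹ := h2.symm
        _ = (k₂ * y₁ * k₂⁻¹) * (k₂ * e * k₂⁻¹) := by rw [hy21]; group
        _ = _ := by rw [h1, hy21]
    rw [h3]; group
  obtain ⟨e₂, he₂, hve₂⟩ : ∃ e ∈ E0, y₂ = v * e :=
    ⟨e₁ * e, mul_mem he₁ he, by rw [hy21, hve₁, mul_assoc]⟩
  set N0 := Rt T K₁ ⊓ Rt T K₂ with hN0
  have hstab : ∀ n ∈ N0, k₂⁻¹ * n * k₂⁻¹⁻¹ ∈ N0 := by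
    intro n hn
    have h1 : k₂⁻¹ * n * k₂⁻¹⁻¹ ∈ Rt T K₂ :=
      LocalBasics.conj_mem_of_le_normalizer p'.K_norm_Rt (inv_mem p'.kK) hn.2
    refine ⟨hcomV h1.1 ?_, h1⟩
    have h2 : n * y₁ = y₁ * n := by
      rw [hve₁]
      exact (Commute.mul_right (show Commute n v from (hn.1.2 v hvW).symm)
        (show Commute n e₁ from p'.E0_comm he₁ hn.2)).eq
    calc v * (k₂⁻¹ * n * k₂⁻¹⁻¹) = k₂⁻¹ * (y₁ * n) * k₂ := by rw [hy₁]; group
      _ = k₂⁻¹ * (n * y₁) * k₂ := by rw [h2]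
      _ = _ := by rw [hy₁]; group
  -- the element squaring to `w₂`
  set x₂ := k₁⁻¹ * u * k₁⁻¹⁻¹ with hx₂
  have hk1 : k₁ * k₁ = k₁⁻¹ :=
    (inv_eq_of_mul_eq_one_right (by rw [← pow_three]; exact p.k3)).symm
  have hx₂R : x₂ ∈ Rt T K₁ :=
    LocalBasics.conj_mem_of_le_normalizer p.K_norm_Rt (inv_mem p.kK) (hW huW)
  clear_value x₂
  have hzR : ∀ t ∈ T, t * w₂ = w₂ * t := fun t ht => p'.T_Z0 ht p'.wZ
  have c01 : x₁ * u = u * x₁ * w₂ := by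
    have := (p'.T_move hx₁R.1 huW).resolve_left fun q => hnc (mul_inv_eq_iff_eq_mul.1 q).symm
    rw [mul_inv_eq_iff_eq_mul.1 this, mul_assoc, ← hzR x₁ hx₁R.1, ← mul_assoc]
  have hconj : ∀ {a b : G}, a * b = b * a * w₂ →
      (k₁ * a * k₁⁻¹) * (k₁ * b * k₁⁻¹) = (k₁ * b * k₁⁻¹) * (k₁ * a * k₁⁻¹) * w₂ := by
    intro a b h
    calc k₁ * a * k₁⁻¹ * (k₁ * b * k₁⁻¹) = k₁ * (a * b) * k₁⁻¹ := by group
      _ = (k₁ * b * k₁⁻¹) * (k₁ * a * k₁⁻¹) * (k₁ * w₂ * k₁⁻¹) := by rw [h]; group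
      _ = _ := by rw [mul_inv_eq_iff_eq_mul.2 hkz.eq]
  have hkx₁ : k₁ * x₁ * k₁⁻¹ = x₂ := by rw [hx₁, hx₂, conj_conj, hk1]
  have c12 : x₂ * x₁ = x₁ * x₂ * w₂ := by
    have := hconj c01
    rwa [hkx₁, ← hx₁] at this
  have c20 : u * x₂ = x₂ * u * w₂ := by
    have := hconj c12
    rwa [hkx₁, show k₁ * x₂ * k₁⁻¹ = u by rw [hx₂]; group] at this
  have hx₂2 : x₂ * x₂ = 1 := by
    rw [hx₂, show k₁⁻¹ * u * k₁⁻¹⁻¹ * (k₁⁻¹ * u * k₁⁻¹⁻¹) = k₁⁻¹ * (u * u) * k₁⁻¹⁻¹ by group, hu2]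
    group
  set f := u * x₁ * x₂ with hf
  have huT : u ∈ T := (p'.W_le_Rt huW).1
  have hfu : f * u = u * f := by
    rw [hf]
    have hz2 := Z0_sq p'.wZ
    have c20' : x₂ * u = u * x₂ * w₂ := by rw [c20, mul_assoc, hz2, mul_one]
    calc u * x₁ * x₂ * u = u * x₁ * (x₂ * u) := by group
      _ = u * (x₁ * u) * x₂ * w₂ := by rw [c20']; group
      _ = u * u * x₁ * (w₂ * x₂) * w₂ := by rw [c01]; group
      _ = u * u * x₁ * x₂ * (w₂ * w₂) := by rw [← hzR x₂ hx₂R.1]; group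
      _ = u * (u * x₁ * x₂) := by rw [hz2, mul_one]; group
  have hff : f * f = w₂ := by
    have e0 : f * f = f * u * (x₁ * x₂) := by rw [hf]; group
    rw [e0, hfu]
    calc u * f * (x₁ * x₂) = (u * u) * x₁ * (x₂ * x₁) * x₂ := by rw [hf]; group
      _ = (x₁ * x₁) * x₂ * (w₂ * x₂) := by rw [hu2, c12]; group
      _ = x₂ * x₂ * w₂ := by rw [hx₁2, ← hzR x₂ hx₂R.1]; group
      _ = w₂ := by rw [hx₂2, one_mul]
  have hfN : f ∈ N0 := by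
    have hfR : f ∈ Rt T K₁ := mul_mem (mul_mem (hW huW) hx₁R) hx₂R
    refine ⟨hfR, ?_⟩
    rcases p'.T_u hfR.1 with ⟨-, h⟩ | ⟨q, -⟩
    · exact h
    · exfalso
      rw [← hu, hfu, mul_inv_cancel_right] at q
      exact p'.w1 (mul_eq_right.1 q.symm)
  have hzN : w₂ ∈ N0 := ⟨p.Z0_le_Rt p'.wZ, p'.Z0_le_Rt p'.wZ⟩
  have huN : u ∈ N0 := ⟨hW huW, p'.W_le_Rt huW⟩
  set x' := k₂ * x₁ * k₂⁻¹ with hx'
  -- how `N0` moves `x₁`
  have mv : ∀ n ∈ N0, n * x₁ * n⁻¹ = x₁ ∨ n * x₁ * n⁻¹ = x₁ * w₂ := by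
    intro n hn
    have hr' : k₁⁻¹ * n * k₁⁻¹⁻¹ ∈ Rt T K₁ :=
      LocalBasics.conj_mem_of_le_normalizer p.K_norm_Rt (inv_mem p.kK) hn.1
    have e0 : n * x₁ * n⁻¹ =
        k₁ * ((k₁⁻¹ * n * k₁⁻¹⁻¹) * u * (k₁⁻¹ * n * k₁⁻¹⁻¹)⁻¹) * k₁⁻¹ := by rw [hx₁]; group
    rcases p'.T_move hr'.1 huW with h | h <;> rw [e0, h]
    · exact Or.inl hx₁.symm
    · right
      rw [hx₁, show k₁ * (u * w₂) * k₁⁻¹ = (k₁ * u * k₁⁻¹) * (k₁ * w₂ * k₁⁻¹) by group,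
        mul_inv_eq_iff_eq_mul.2 hkz.eq]
  set z' := k₂⁻¹ * w₂ * k₂⁻¹⁻¹ with hz'
  have hz'x : z' * x₁ ≠ x₁ * z' := by
    have hW2 : z' ∈ Cfsg.wOf K₂ := LocalBasics.conj_mem_of_le_normalizer
      (le_normalizer.trans (normalizer_le_wOf K₂)) (inv_mem p'.kK) p'.wW
    intro hc
    rcases p'.W_cases hW2 with q | q | q | q
    · exact p'.w1 (conj_eq_one_iff.1 q)
    · refine p'.u_ne ?_
      calc k₂ * w₂ * k₂⁻¹ = k₂ * (k₂⁻¹ * w₂ * k₂⁻¹⁻¹) * k₂⁻¹ := by rw [← hz', q]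
        _ = w₂ := by group
    · rw [q, ← hu] at hc; exact hnc hc
    · rw [q, ← hu] at hc
      refine hnc ?_
      have h1 : Commute w₂ x₁ := (hzR x₁ hx₁R.1).symm
      have h2 := Commute.mul_left h1.inv_left (show Commute (w₂ * u) x₁ from hc)
      rwa [inv_mul_cancel_left] at h2
  obtain ⟨δ₁, hδ₁, hδ₁f, hδ₁x⟩ : ∃ δ ∈ N0, δ * δ = w₂ ∧ δ * x₁ = x₁ * δ := by
    rcases mv f hfN with h | h
    · exact ⟨f, hfN, hff, mul_inv_eq_iff_eq_mul.1 h⟩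
    · refine ⟨f * u, mul_mem hfN huN, ?_, ?_⟩
      · calc f * u * (f * u) = f * (u * f) * u := by group
          _ = (f * f) * (u * u) := by rw [← hfu]; group
          _ = w₂ := by rw [hff, hu2, mul_one]
      · have hux : u * x₁ * u⁻¹ = x₁ * w₂ := (mv u huN).resolve_left fun q =>
          hnc (mul_inv_eq_iff_eq_mul.1 q)
        refine mul_inv_eq_iff_eq_mul.1 ?_
        calc f * u * x₁ * (f * u)⁻¹ = f * (u * x₁ * u⁻¹) * f⁻¹ := by group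
          _ = (f * x₁ * f⁻¹) * (f * w₂ * f⁻¹) := by rw [hux]; group
          _ = x₁ * (w₂ * w₂) := by rw [h, hzR f hfN.1.1]; group
          _ = x₁ := by rw [Z0_sq p'.wZ, mul_one]
  obtain ⟨δ, hδf, hδx'⟩ : ∃ δ, δ * δ = w₂ ∧ δ * x' = x' * δ := by
    have hn' := hstab δ₁ hδ₁
    rcases mv _ hn' with h | h
    · refine ⟨δ₁, hδ₁f, mul_inv_eq_iff_eq_mul.1 ?_⟩
      calc δ₁ * x' * δ₁⁻¹ =
            k₂ * ((k₂⁻¹ * δ₁ * k₂⁻¹⁻¹) * x₁ * (k₂⁻¹ * δ₁ * k₂⁻¹⁻¹)⁻¹) * k₂⁻¹ := by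
              rw [hx']; group
        _ = x' := by rw [h]
    · refine ⟨δ₁ * w₂, ?_, mul_inv_eq_iff_eq_mul.1 ?_⟩
      · calc δ₁ * w₂ * (δ₁ * w₂) = δ₁ * (w₂ * δ₁) * w₂ := by group
          _ = (δ₁ * δ₁) * (w₂ * w₂) := by rw [← hzR δ₁ hδ₁.1.1]; group
          _ = w₂ := by rw [hδ₁f, Z0_sq p'.wZ, mul_one]
      · have hz1 : z' * x₁ * z'⁻¹ = x₁ * w₂ :=
          (mv z' (hstab w₂ hzN)).resolve_left fun q => hz'x (mul_inv_eq_iff_eq_mul.1 q)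
        set n' := k₂⁻¹ * δ₁ * k₂⁻¹⁻¹
        calc δ₁ * w₂ * x' * (δ₁ * w₂)⁻¹ =
              k₂ * (n' * (z' * x₁ * z'⁻¹) * n'⁻¹) * k₂⁻¹ := by
                simp only [hx', hz', n']; group
          _ = k₂ * ((n' * x₁ * n'⁻¹) * (n' * w₂ * n'⁻¹)) * k₂⁻¹ := by rw [hz1]; group
          _ = k₂ * (x₁ * (w₂ * w₂)) * k₂⁻¹ := by rw [h, hzR n' hn'.1.1]; group
          _ = x' := by rw [Z0_sq p'.wZ, mul_one]
  refine hz'x ?_
  have h1 : Commute w₂ x' := hδf ▸ Commute.mul_left hδx' hδx'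
  calc z' * x₁ = k₂⁻¹ * (w₂ * x') * k₂ := by rw [hz', hx']; group
    _ = k₂⁻¹ * (x' * w₂) * k₂ := by rw [h1.eq]
    _ = x₁ * z' := by rw [hz', hx']; group

/-- `W_{K'}` does not centralise `W_K`. -/
theorem not_le {T K K' : Subgroup G} {w k w' k' : G} (d : Duo T K K') (p : Pick T K w k)
    (p' : Pick T K' w' k') : ¬ Cfsg.wOf K' ≤ Rt T K := by
  intro hW
  have a : Amal T (fun b => cond b K K') (fun b => cond b w w') (fun b => cond b k k') :=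
    ⟨Bool.rec p' p, Bool.rec d.symm d, Bool.rec (Rt_swap p hW) hW⟩
  obtain ⟨s, q, hq, x, hx, y, hy, hne⟩ := a.bad_one
  obtain ⟨i, t, ht, rfl⟩ := (a.pick (!s)).mem_P hq
  have hd := a.duo (!s)
  have hl := a.low (!s)
  rw [Bool.not_not] at hd hl
  refine one_step hd (a.pick (!s)) (a.pick s) hl (i := i) hx ((a.pick s).T_W ht hy) ?_
  intro h
  apply hne
  refine Eq.trans ?_ (h.trans ?_)
  · group
  · group

end Cfsg.Agent.JCompFar
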