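import Mathlib
import Cfsg.Agent.Lib.OffendersReplace

/-!
Recognising the symmetric group on four letters as a four group extended by a group of order 6.
-/

set_option autoImplicit false

namespace Cfsg.Agent.JCompS4

open Subgroup

variable {X : Type*} [Group X]

/-- A four group, an element of order 3 acting on it and an involution inverting that element. -/
structure Data (W : Subgroup X) (w g s : X) : Prop where
  card : Nat.card ↥W = 4
  comm : ∀ x ∈ W, ∀ y ∈ W, x * y = y * x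
  mem : w ∈ W
  g3 : g ^ 3 = 1
  s2 : s * s = 1
  inv : s * g * s⁻¹ = g⁻¹
  gnorm : g ∈ normalizer (W : Set X)
  snorm : s ∈ normalizer (W : Set X)
  fixw : s * w * s⁻¹ = w
  moveg : g * w * g⁻¹ ≠ w
  moves : s * (g * w * g⁻¹) * s⁻¹ ≠ g * w * g⁻¹

variable {W : Subgroup X} {w g s : X}

theorem cases_H0 (d : Data W w g s) {x : X} (hx : x ∈ zpowers g ⊔ zpowers s) :
    ∃ i < 3, x = g ^ i ∨ x = g ^ i * s := by
  have hn : zpowers s ≤ normalizer (zpowers g : Set X) := by
    refine zpowers_le.2 (mem_normalizer_iff.2 fun y => ?_)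
    have hs : s⁻¹ = s := inv_eq_of_mul_eq_one_right d.s2
    have key : ∀ z ∈ zpowers g, s * z * s⁻¹ ∈ zpowers g := by
      rintro _ ⟨i, rfl⟩
      show s * g ^ i * s⁻¹ ∈ zpowers g
      rw [← conj_zpow, d.inv]
      exact zpow_mem (inv_mem (mem_zpowers g)) i
    refine ⟨key y, fun hy => ?_⟩
    have := key _ hy
    rwa [show s * (s * y * s⁻¹) * s⁻¹ = (s * s) * y * (s * s)⁻¹ by group, d.s2, one_mul, inv_one,
      mul_one] at this
  rw [← SetLike.mem_coe, coe_mul_of_right_le_normalizer_left _ _ hn] at hx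
  obtain ⟨a, ⟨i, rfl⟩, b, ⟨j, rfl⟩, rfl⟩ := hx
  have e : g ^ i = g ^ (i % 3).toNat := by
    rw [← zpow_natCast g (i % 3).toNat, Int.toNat_of_nonneg (Int.emod_nonneg i (by norm_num))]
    conv_lhs => rw [← Int.emod_add_mul_ediv i 3]
    rw [zpow_add, zpow_mul, show (3 : ℤ) = ((3 : ℕ) : ℤ) from rfl, zpow_natCast, d.g3, one_zpow,
      mul_one]
  refine ⟨(i % 3).toNat, by omega, ?_⟩
  show g ^ i * s ^ j = _ ∨ g ^ i * s ^ j = _
  rw [e]
  rcases Int.even_or_odd j with ⟨m, rfl⟩ | ⟨m, rfl⟩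
  · left
    rw [← two_mul, zpow_mul, show s ^ (2 : ℤ) = s * s from zpow_two s, d.s2, one_zpow, mul_one]
  · right
    rw [zpow_add, zpow_mul, show s ^ (2 : ℤ) = s * s from zpow_two s, d.s2, one_zpow, one_mul,
      zpow_one]

theorem g_move2 (d : Data W w g s) : g ^ 2 * w * (g ^ 2)⁻¹ ≠ w := by
  intro e
  refine d.moveg ?_
  calc g * w * g⁻¹ = g * (g ^ 2 * w * (g ^ 2)⁻¹) * g⁻¹ := by rw [e]
    _ = g ^ 3 * w * (g ^ 3)⁻¹ := by group
    _ = w := by rw [d.g3]; group

theorem faith (d : Data W w g s) {x : X} (hx : x ∈ zpowers g ⊔ zpowers s)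
    (hc : ∀ y ∈ W, x * y * x⁻¹ = y) : x = 1 := by
  obtain ⟨i, hi, rfl | rfl⟩ := cases_H0 d hx
  · interval_cases i
    · simp
    · exact absurd (by simpa using hc w d.mem) d.moveg
    · exact absurd (hc w d.mem) (g_move2 d)
  · have h1 := hc w d.mem
    rw [show g ^ i * s * w * (g ^ i * s)⁻¹ = g ^ i * (s * w * s⁻¹) * (g ^ i)⁻¹ by group,
      d.fixw] at h1
    interval_cases i
    · exfalso
      have hu : g * w * g⁻¹ ∈ W := (mem_normalizer_iff.1 d.gnorm w).1 d.mem
      exact d.moves (by simpa using hc _ hu)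
    · exact absurd (by simpa using h1) d.moveg
    · exact absurd h1 (g_move2 d)

theorem inf_eq_bot (d : Data W w g s) : W ⊓ (zpowers g ⊔ zpowers s) = ⊥ :=
  (eq_bot_iff_forall _).2 fun x hx => faith d hx.2 fun y hy => by
    rw [d.comm x hx.1 y hy, mul_inv_cancel_right]

theorem card_H0 [Finite X] (d : Data W w g s) : Nat.card ↥(zpowers g ⊔ zpowers s) = 6 := by
  have hn : zpowers s ≤ normalizer (zpowers g : Set X) := by
    refine zpowers_le.2 ?_
    have hle : (zpowers g).map (MulAut.conj s).toMonoidHom = zpowers g := by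
      rw [MonoidHom.map_zpowers, show (MulAut.conj s).toMonoidHom g = g⁻¹ from d.inv,
        zpowers_inv]
    refine mem_normalizer_iff.2 fun y => ⟨fun hy => hle ▸ ⟨y, hy, rfl⟩, fun hy => ?_⟩
    rw [← hle] at hy
    obtain ⟨z, hz, e⟩ := hy
    rwa [show y = z from ((MulAut.conj s).injective e).symm]
  have hg1 : g ≠ 1 := fun e => d.moveg (by rw [e]; group)
  have hs1 : s ≠ 1 := fun e => d.moves (by rw [e]; group)
  have ho : orderOf g = 3 :=
    haveI : Fact (Nat.Prime 3) := ⟨Nat.prime_three⟩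
    orderOf_eq_prime d.g3 hg1
  have hos : orderOf s = 2 := orderOf_eq_prime (by rw [pow_two]; exact d.s2) hs1
  have h := OffendersReplace.card_sup_mul_card_inf (zpowers s) (zpowers g) hn
  rw [Nat.card_zpowers, Nat.card_zpowers, ho, hos] at h
  have hbot : zpowers s ⊓ zpowers g = ⊥ := by
    refine Subgroup.inf_eq_bot_of_coprime ?_
    rw [Nat.card_zpowers, Nat.card_zpowers, ho, hos]; norm_num
  rw [hbot, card_bot, mul_one, sup_comm] at h
  exact h

theorem H0_norm (d : Data W w g s) : zpowers g ⊔ zpowers s ≤ normalizer (W : Set X) :=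
  sup_le (zpowers_le.2 d.gnorm) (zpowers_le.2 d.snorm)

theorem card_sup [Finite X] (d : Data W w g s) :
    Nat.card ↥(W ⊔ (zpowers g ⊔ zpowers s)) = 24 := by
  have h := OffendersReplace.card_sup_mul_card_inf (zpowers g ⊔ zpowers s) W (H0_norm d)
  rw [card_H0 d, d.card, inf_comm, inf_eq_bot d, card_bot, mul_one, sup_comm] at h
  exact h

/-- The extension is the symmetric group on four letters. -/
theorem iso [Finite X] (d : Data W w g s) :
    Nonempty (↥(W ⊔ (zpowers g ⊔ zpowers s)) ≃* Equiv.Perm (Fin 4)) := by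
  set H0 := zpowers g ⊔ zpowers s
  set H := W ⊔ H0 with hH
  have hWH : W ≤ H := le_sup_left
  have hH0H : H0 ≤ H := le_sup_right
  set A := H0.subgroupOf H
  have hA6 : Nat.card ↥A = 6 :=
    (Nat.card_congr (subgroupOfEquivOfLe hH0H).toEquiv).trans (card_H0 d)
  have hidx : A.index = 4 := by
    have h := A.card_mul_index
    rw [hA6, card_sup d] at h
    omega
  obtain ⟨e⟩ : Nonempty ((↥H ⧸ A) ≃ Fin 4) := ⟨(Finite.equivFinOfCardEq hidx)⟩
  let φ : ↥H →* Equiv.Perm (Fin 4) :=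
    (e.permCongrHom : Equiv.Perm (↥H ⧸ A) ≃* Equiv.Perm (Fin 4)).toMonoidHom.comp
      (MulAction.toPermHom ↥H (↥H ⧸ A))
  have hHW : H ≤ normalizer (W : Set X) := sup_le le_normalizer (H0_norm d)
  have hinj : Function.Injective φ := by
    rw [← MonoidHom.ker_eq_bot_iff, eq_bot_iff]
    intro n hn
    have hn' : n ∈ A.normalCore := by
      rw [normalCore_eq_ker, MonoidHom.mem_ker]
      exact e.permCongrHom.injective (by rw [map_one]; exact hn)
    have hnA : (n : X) ∈ H0 := mem_subgroupOf.1 (normalCore_le A hn')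
    refine Subgroup.mem_bot.2 (Subtype.ext (faith d hnA fun y hy => ?_))
    have hcomm : (n : X) * y * (n : X)⁻¹ * y⁻¹ ∈ W ⊓ H0 := by
      refine ⟨(mul_mem ((mem_normalizer_iff.1 (hHW n.2) y).1 hy) (inv_mem hy) : _ ∈ W), ?_⟩
      have h1 := (normalCore_normal A).conj_mem n⁻¹ (inv_mem hn') ⟨y, hWH hy⟩
      have h2 : ((⟨y, hWH hy⟩ : ↥H) * n⁻¹ * (⟨y, hWH hy⟩ : ↥H)⁻¹ : ↥H).1 ∈ H0 :=
        mem_subgroupOf.1 (normalCore_le A h1)
      have := mul_mem hnA h2
      simpa [mul_assoc] using this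
    rw [inf_eq_bot d, Subgroup.mem_bot] at hcomm
    exact mul_inv_eq_one.1 hcomm
  have hbij : Function.Bijective φ := by
    refine (Nat.bijective_iff_injective_and_card φ).2 ⟨hinj, ?_⟩
    rw [card_sup d, Nat.card_perm, Nat.card_fin]
    rfl
  exact ⟨MulEquiv.ofBijective φ hbij⟩

end Cfsg.Agent.JCompS4
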