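import Mathlib
import Cfsg.Prelude.Def_JComponents
import Cfsg.Agent.Lib.JCompFar
import Cfsg.Agent.Lib.JCompS4

/-!
The structure of the two maximal 2-local subgroups.
-/

set_option autoImplicit false

namespace Cfsg.Agent.JCompShape

open Subgroup Cfsg JCompBase JCompTV JCompCore JCompLine JCompClass JCompDuo JCompSide JCompAdjacent

variable {G : Type*} [Group G] [Finite G] {T K K' : Subgroup G} {w k w' k' : G}

/-- The subgroup generated by the squares of the elements of `R`. -/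
def Sq (R : Subgroup G) : Subgroup G := Subgroup.closure {x | ∃ r ∈ R, x = r * r}

theorem Sq_le (R : Subgroup G) : Sq R ≤ R :=
  (closure_le R).2 (by rintro x ⟨r, hr, rfl⟩; exact mul_mem hr hr)

theorem Sq_norm (R : Subgroup G) : normalizer (R : Set G) ≤ normalizer (Sq R : Set G) := by
  refine LocalBasics.le_normalizer_of_conj fun n hn x hx => ?_
  induction hx using Subgroup.closure_induction with
  | mem y hy =>
    obtain ⟨r, hr, rfl⟩ := hy
    exact subset_closure ⟨n * r * n⁻¹, LocalBasics.conj_mem_of_le_normalizer le_rfl hn hr,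
      by group⟩
  | one => simp [one_mem]
  | inv y _ hy => rw [show n * y⁻¹ * n⁻¹ = (n * y * n⁻¹)⁻¹ by group]; exact inv_mem hy
  | mul y z _ _ hy hz =>
    rw [show n * (y * z) * n⁻¹ = (n * y * n⁻¹) * (n * z * n⁻¹) by group]; exact mul_mem hy hz

/-- The elements used to describe the structure. -/
structure Near (T K K' : Subgroup G) (w k w' k' : G) : Prop where
  duo : Duo T K K'
  p : Pick T K w k
  p' : Pick T K' w' k'

namespace Near

variable (n : Near T K K' w k w' k')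
include n

theorem symm : Near T K' K w' k' w k := ⟨n.duo.symm, n.p', n.p⟩

theorem u'_not : k' * w' * k'⁻¹ ∉ Rt T K := by
  intro h
  refine JCompFar.not_le n.duo n.p n.p' fun x hx => ?_
  have hw : w' ∈ Rt T K := n.p.Z0_le_Rt n.p'.wZ
  rcases n.p'.W_cases hx with rfl | rfl | rfl | rfl
  exacts [one_mem _, hw, h, mul_mem hw h]

theorem u'_T : k' * w' * k'⁻¹ ∈ T := (n.p'.W_le_Rt (n.p'.k_W n.p'.wW)).1

theorem w_eq : w' = w := by
  set u := k * w * k⁻¹ with hu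
  set v := k' * w' * k'⁻¹ with hv
  have huW : u ∈ Cfsg.wOf K := n.p.k_W n.p.wW
  have hvW : v ∈ Cfsg.wOf K' := n.p'.k_W n.p'.wW
  have e1 : v * u * v⁻¹ = w * u := ((n.p.T_u n.u'_T).resolve_left fun q => n.u'_not q.2).1
  have e2 : u * v * u⁻¹ = w' * v :=
    ((n.p'.T_u n.symm.u'_T).resolve_left fun q => n.symm.u'_not q.2).1
  clear_value u v
  have hu2 : u⁻¹ = u := n.p.W_inv huW
  have hv2 : v⁻¹ = v := n.p'.W_inv hvW
  rw [hv2] at e1
  rw [hu2] at e2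
  have h1 : v * u * v * u = w := by
    rw [e1, mul_assoc]
    rw [← pow_two u, pow_two, n.p.W_sq huW, mul_one]
  have h2 : u * v * u * v = w' := by
    rw [e2, mul_assoc]
    rw [← pow_two v, pow_two, n.p'.W_sq hvW, mul_one]
  calc w' = (v * u * v * u)⁻¹ := by rw [← h2, mul_inv_rev, mul_inv_rev, mul_inv_rev, hu2, hv2]; group
    _ = w := by rw [h1, n.p.W_inv n.p.wW]

/-- Every element of `Rt T K` is, modulo `W_K`, centralised by `u'` and by its conjugate under `k`. -/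
theorem exists_D : ∃ D : Subgroup G, D ≤ Rt T K ⊓ Rt T K' ∧
    (∀ x ∈ D, Commute x (k' * w' * k'⁻¹)) ∧
    ∀ r ∈ Rt T K, ∃ δ ∈ D, ∃ v ∈ Cfsg.wOf K, r = δ * v := by
  have hww := n.w_eq
  set u := k * w * k⁻¹ with hu
  set v := k' * w' * k'⁻¹ with hv
  have hvT : v ∈ T := n.u'_T
  have hvR : v ∉ Rt T K := n.u'_not
  have huW : u ∈ Cfsg.wOf K := n.p.k_W n.p.wW
  have hvW : v ∈ Cfsg.wOf K' := n.p'.k_W n.p'.wW
  set x₁ := k * v * k⁻¹ with hx₁
  set D := Rt T K ⊓ centralizer ({v} : Set G) ⊓ centralizer ({x₁} : Set G) with hD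
  have hvu : v * u * v⁻¹ = w * u := ((n.p.T_u hvT).resolve_left fun q => hvR q.2).1
  have hwv : Commute w v := (n.p.T_Z0 hvT n.p.wZ).symm
  -- elements of `Rt T K` move `v` by `w`
  have mv : ∀ r ∈ Rt T K, r * v * r⁻¹ = v ∨ r * v * r⁻¹ = v * w := fun r hr => by
    have := n.p'.T_move hr.1 hvW
    rwa [hww] at this
  refine ⟨D, fun x hx => ⟨hx.1.1, ?_⟩, fun x hx => mem_centralizer_singleton_iff.1 hx.1.2,
    fun r hr => ?_⟩
  · rcases n.p'.T_u hx.1.1.1 with ⟨-, h⟩ | ⟨q, -⟩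
    · exact h
    · exfalso
      rw [← hv, mul_inv_eq_iff_eq_mul.2 (mem_centralizer_singleton_iff.1 hx.1.2)] at q
      exact n.p'.w1 (mul_eq_right.1 q.symm)
  clear_value u v
  have huv : u * v * u⁻¹ = v * w := by
    rcases mv u (n.p.W_le_Rt huW) with q | q
    · exfalso
      refine n.p.w1 (mul_eq_right.1 (hvu.symm.trans ?_))
      exact mul_inv_eq_iff_eq_mul.2 (mul_inv_eq_iff_eq_mul.1 q).symm
    · exact q
  -- first adjust by `u`
  obtain ⟨r₁, hr₁, e₁, he₁, hre, hr₁c⟩ : ∃ r₁ ∈ Rt T K, ∃ e₁ ∈ Cfsg.wOf K,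
      r = r₁ * e₁ ∧ r₁ * v = v * r₁ := by
    rcases mv r hr with h | h
    · exact ⟨r, hr, 1, one_mem _, (mul_one r).symm, mul_inv_eq_iff_eq_mul.1 h⟩
    · refine ⟨r * u, mul_mem hr (n.p.W_le_Rt huW), u, huW, ?_, mul_inv_eq_iff_eq_mul.1 ?_⟩
      · rw [mul_assoc, n.p.W_sq huW, mul_one]
      · calc r * u * v * (r * u)⁻¹ = r * (u * v * u⁻¹) * r⁻¹ := by group
          _ = (r * v * r⁻¹) * (r * w * r⁻¹) := by rw [huv]; group
          _ = v * (w * w) := by rw [h, n.p.T_w hr.1, mul_assoc]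
          _ = v := by rw [n.p.W_sq n.p.wW, mul_one]
  -- then by `w`
  have mv₁ : ∀ y ∈ Rt T K, y * x₁ * y⁻¹ = x₁ ∨
      y * x₁ * y⁻¹ = x₁ * (k * w * k⁻¹) := fun y hy => by
    have e : y * x₁ * y⁻¹ = k * ((k⁻¹ * y * k⁻¹⁻¹) * v * (k⁻¹ * y * k⁻¹⁻¹)⁻¹) * k⁻¹ := by
      rw [hx₁]; group
    rcases mv _ (LocalBasics.conj_mem_of_le_normalizer n.p.K_norm_Rt (inv_mem n.p.kK) hy)
      with h | h <;> rw [e, h]
    · exact Or.inl hx₁.symm
    · right; rw [hx₁]; group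
  rcases mv₁ r₁ hr₁ with h | h
  · exact ⟨r₁, ⟨⟨hr₁, mem_centralizer_singleton_iff.2 hr₁c⟩,
      mem_centralizer_singleton_iff.2 (mul_inv_eq_iff_eq_mul.1 h)⟩, e₁, he₁, hre⟩
  refine ⟨r₁ * w, ⟨⟨mul_mem hr₁ (n.p.W_le_Rt n.p.wW), mem_centralizer_singleton_iff.2
    (Commute.mul_left (show Commute r₁ v from hr₁c) hwv).eq⟩,
    mem_centralizer_singleton_iff.2 (mul_inv_eq_iff_eq_mul.1 ?_)⟩,
    w * e₁, mul_mem n.p.wW he₁, ?_⟩
  swap
  · rw [hre]
    calc r₁ * e₁ = r₁ * (w * w) * e₁ := by rw [n.p.W_sq n.p.wW, mul_one]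
      _ = _ := by group
  have hwx : w * x₁ * w⁻¹ = x₁ * (k * w * k⁻¹) := by
    rcases mv₁ w (n.p.W_le_Rt n.p.wW) with q | q
    · exfalso
      -- `k⁻¹ w k` would commute with `v`
      have hc : Commute (k⁻¹ * w * k⁻¹⁻¹) v := by
        have q' : w * x₁ = x₁ * w := mul_inv_eq_iff_eq_mul.1 q
        show _ = _
        calc k⁻¹ * w * k⁻¹⁻¹ * v = k⁻¹ * (w * x₁) * k := by rw [hx₁]; group
          _ = k⁻¹ * (x₁ * w) * k := by rw [q']
          _ = _ := by rw [hx₁]; group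
      have hz : k⁻¹ * w * k⁻¹⁻¹ ∈ Cfsg.wOf K := LocalBasics.conj_mem_of_le_normalizer
        (le_normalizer.trans (normalizer_le_wOf K)) (inv_mem n.p.kK) n.p.wW
      have huvne : ¬ Commute u v := fun hc' => n.p.w1 (mul_eq_right.1
        (hvu.symm.trans (mul_inv_eq_iff_eq_mul.2 hc'.symm.eq)))
      rcases n.p.W_cases hz with c | c | c | c
      · exact n.p.w1 (conj_eq_one_iff.1 c)
      · refine n.p.u_ne ?_
        calc k * w * k⁻¹ = k * (k⁻¹ * w * k⁻¹⁻¹) * k⁻¹ := by rw [c]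
          _ = w := by group
      · exact huvne (by rw [c, ← hu] at hc; exact hc)
      · rw [c, ← hu] at hc
        refine huvne ?_
        have := Commute.mul_left hwv.inv_left hc
        rwa [inv_mul_cancel_left] at this
    · exact q
  calc r₁ * w * x₁ * (r₁ * w)⁻¹ = r₁ * (w * x₁ * w⁻¹) * r₁⁻¹ := by group
    _ = (r₁ * x₁ * r₁⁻¹) * (r₁ * (k * w * k⁻¹) * r₁⁻¹) := by rw [hwx]; group
    _ = x₁ * ((k * w * k⁻¹) * (k * w * k⁻¹)) := by
        rw [h, mul_inv_eq_iff_eq_mul.2 (hr₁.2 _ (n.p.k_W n.p.wW)).symm, mul_assoc]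
    _ = x₁ := by rw [n.p.W_sq (n.p.k_W n.p.wW), mul_one]

theorem Sq_eq : Sq (Rt T K) = Sq (Rt T K ⊓ Rt T K') := by
  obtain ⟨D, hD, -, hdec⟩ := n.exists_D
  refine le_antisymm ((closure_le _).2 ?_)
    (closure_mono fun x ⟨r, hr, e⟩ => ⟨r, hr.1, e⟩)
  rintro x ⟨r, hr, rfl⟩
  obtain ⟨δ, hδ, v, hv, rfl⟩ := hdec r hr
  refine subset_closure ⟨δ, hD hδ, ?_⟩
  have hc : v * δ = δ * v := (hD hδ).1.2 v hv
  calc δ * v * (δ * v) = δ * (v * δ) * v := by group
    _ = δ * δ * (v * v) := by rw [hc]; group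
    _ = δ * δ := by rw [n.p.W_sq hv, mul_one]

theorem exponent {r : G} (hr : r ∈ Rt T K) : r * r = 1 := by
  have e : Sq (Rt T K) = Sq (Rt T K') := by
    rw [n.Sq_eq, n.symm.Sq_eq, inf_comm]
  have hle : Sq (Rt T K) ≤ Cfsg.pCoreOf 2 ((K ⊔ T) ⊔ (K' ⊔ T)) := by
    refine LocalBasics.le_pCoreOf ((Sq_le _).trans (inf_le_left.trans
      (le_sup_right.trans le_sup_left))) (sup_le (n.p.P_norm_Rt.trans (Sq_norm _)) ?_)
      (n.p.side.r.tp.to_le ((Sq_le _).trans inf_le_left))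
    rw [e]
    exact n.p'.P_norm_Rt.trans (Sq_norm _)
  rw [core_join n.duo, le_bot_iff] at hle
  exact Subgroup.mem_bot.1 (hle ▸ subset_closure ⟨r, hr, rfl⟩)

theorem comm {r s : G} (hr : r ∈ Rt T K) (hs : s ∈ Rt T K) : r * s = s * r := by
  have h1 := inv_eq_of_mul_eq_one_right (n.exponent (mul_mem hr hs))
  rw [mul_inv_rev, inv_eq_of_mul_eq_one_right (n.exponent hr),
    inv_eq_of_mul_eq_one_right (n.exponent hs)] at h1
  exact h1.symm

theorem split {t : G} (ht : t ∈ T) :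
    t ∈ Rt T K ∨ ∃ r ∈ Rt T K, t = r * (k' * w' * k'⁻¹) := by
  by_cases h : t ∈ Rt T K
  · exact Or.inl h
  · refine Or.inr ⟨t * (k' * w' * k'⁻¹), n.p.mul_not_mem ht n.u'_T h n.u'_not, ?_⟩
    rw [mul_assoc, n.p'.W_sq (n.p'.k_W n.p'.wW), mul_one]

theorem Rt_eq : Rt T K = Cfsg.wOf K ⊔ Z0 T := by
  refine le_antisymm ?_ n.p.E0_le
  obtain ⟨D, hD, hDv, hdec⟩ := n.exists_D
  intro r hr
  obtain ⟨δ, hδ, v, hv, rfl⟩ := hdec r hr
  refine mul_mem (mem_sup_right ?_) (mem_sup_left hv)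
  refine mem_Z0 (hD hδ).1.1 (n.exponent (hD hδ).1) fun j hj => ?_
  rcases n.split (Offenders.thompsonOf_le T hj) with h | ⟨s, hs, rfl⟩
  · exact n.comm h (hD hδ).1
  · exact (Commute.mul_left (n.comm hs (hD hδ).1) (hDv δ hδ).symm).eq

theorem card_Rt_le : Nat.card ↥(Rt T K) ≤ 8 := by
  rw [n.Rt_eq]
  have h := OffendersReplace.card_sup_mul_card_inf (Cfsg.wOf K) (Z0 T)
    (OffendersReplace.le_normalizer_of_commute fun a ha b hb =>
      n.p.T_Z0 (n.p.W_le_Rt ha).1 hb)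
  rw [n.p.side.r.comp.2.2.2.2.1, card_Z0 n.p.side.r] at h
  have h2 : 2 ≤ Nat.card ↥(Cfsg.wOf K ⊓ Z0 T) := by
    rw [inf_comm]
    exact (Cfsg.Agent.S2946.result n.p.side.r.char2 n.p.side.r.solv n.p.side.r.zentral T
      n.p.side.r.tp (T_ne_bot n.p.side.r) K n.p.side.r.comp (Z0 T) rfl).1.ge
  have := n.p.side.small
  nlinarith

theorem mem_R_or {x : G} (hx : x ∈ T) (hx2 : x * x = 1) : x ∈ Rt T K ∨ x ∈ Rt T K' := by
  rcases n.split hx with h | ⟨r, hr, rfl⟩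
  · exact Or.inl h
  right
  set v := k' * w' * k'⁻¹ with hv
  have hvR' : v ∈ Rt T K' := n.p'.W_le_Rt (n.p'.k_W n.p'.wW)
  have hr' : r * v = v * r := by
    have h1 := inv_eq_of_mul_eq_one_right hx2
    rw [mul_inv_rev, inv_eq_of_mul_eq_one_right (n.exponent hr),
      n.p'.W_inv (n.p'.k_W n.p'.wW)] at h1
    exact h1.symm
  refine mul_mem ?_ hvR'
  rcases n.p'.T_u hr.1 with ⟨-, h⟩ | ⟨q, -⟩
  · exact h
  · exfalso
    rw [← hv, mul_inv_eq_iff_eq_mul.2 hr'] at q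
    exact n.p'.w1 (mul_eq_right.1 q.symm)

theorem core_L : Cfsg.pCoreOf 2 (Lstar T K) = Rt T K := by
  have hle : Cfsg.pCoreOf 2 (Lstar T K) ≤ Rt T K := n.p.core_P ▸
    LocalBasics.le_pCoreOf (n.p.side.h.Q_le_T.trans le_sup_right)
      (n.p.P_le.trans (le_norm_Q _)) (LocalBasics.isPGroup_pCoreOf 2 _)
  exact le_antisymm hle fun r hr => n.p.side.h.cent_Q fun q hq => n.comm (hle hq) hr

theorem uniq {K₂ : Subgroup G} (h₂ : Cfsg.IsJComponent T K₂) (h₂L : K₂ ≤ Lstar T K) : K₂ = K := by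
  by_contra hne
  have hle : Cfsg.wOf K ⊔ Cfsg.wOf K₂ ≤ Rt T K := sup_le n.p.W_le_Rt
    ((wOf_le_core K₂).trans ((comp_core_Q n.p.side.h h₂ h₂L).trans n.core_L.le))
  have hbot : Cfsg.wOf K ⊓ Cfsg.wOf K₂ = ⊥ := (eq_bot_iff_forall _).2 fun x hx =>
    by_contra fun h1 => hne
      (comp_eq_of_meet n.p.side.h n.p.side.r.comp n.p.K_le h₂ h₂L hx.1 hx.2 h1).symm
  have h := OffendersReplace.card_sup_mul_card_inf (Cfsg.wOf K) (Cfsg.wOf K₂)
    (OffendersReplace.le_normalizer_of_commute fun a ha b hb =>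
      n.comm (hle (mem_sup_left ha)) (hle (mem_sup_right hb)))
  rw [hbot, card_bot, mul_one, n.p.side.r.comp.2.2.2.2.1, h₂.2.2.2.2.1] at h
  have := Subgroup.card_le_of_le hle
  have := n.card_Rt_le
  omega

theorem L_eq : Lstar T K = K ⊔ T := by
  refine le_antisymm (fun x hx => ?_) n.p.P_le
  obtain ⟨i, m, rfl, hmL, -, hmK, hmZ⟩ :=
    Lstar_decomp n.p (fun _ h₂ h₂L => n.uniq h₂ h₂L) hx
  refine mul_mem (mem_sup_left (pow_mem n.p.kK i)) ?_
  -- an element fixing `W` and `Z0 T` lies in `Rt T K`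
  have key : ∀ y : G, y * (k * w * k⁻¹) * y⁻¹ = k * w * k⁻¹ → (∀ z ∈ Z0 T, y * z = z * y) →
      y ∈ Rt T K := by
    intro y hyu hyZ
    refine n.p.cent_Rt fun r hr => ?_
    rw [n.Rt_eq] at hr
    have hle : Cfsg.wOf K ⊔ Z0 T ≤ centralizer ({y} : Set G) := by
      refine sup_le (fun v hv => ?_) fun z hz => mem_centralizer_singleton_iff.2 (hyZ z hz).symm
      refine mem_centralizer_singleton_iff.2 ?_
      have h1 : Commute y w := hyZ w n.p.wZ
      have h2 : Commute y (k * w * k⁻¹) := mul_inv_eq_iff_eq_mul.1 hyu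
      rcases n.p.W_cases hv with rfl | rfl | rfl | rfl
      · simp
      · exact h1.symm.eq
      · exact h2.symm.eq
      · exact (Commute.mul_right h1 h2).symm.eq
    exact mem_centralizer_singleton_iff.1 (hle hr)
  have hmu : m * (k * w * k⁻¹) * m⁻¹ ∈ Cfsg.wOf K :=
    LocalBasics.conj_mem_of_le_normalizer le_rfl (normalizer_le_wOf K hmK) (n.p.k_W n.p.wW)
  rcases n.p.W_cases hmu with e | e | e | e
  · exact absurd (conj_eq_one_iff.1 e) n.p.u_one
  · exact absurd (mul_left_cancel (mul_right_cancel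
      (e.trans (mul_inv_eq_iff_eq_mul.2 (hmZ w n.p.wZ)).symm))) n.p.u_ne
  · exact mem_sup_right (key m e hmZ).1
  · set v := k' * w' * k'⁻¹ with hv
    set u := k * w * k⁻¹ with hu
    have hvu : v * u * v⁻¹ = w * u := ((n.p.T_u n.u'_T).resolve_left fun q => n.u'_not q.2).1
    have hvw : v * w = w * v := n.p.T_Z0 n.u'_T n.p.wZ
    have h1 : v * m ∈ Rt T K := by
      refine key _ ?_ fun z hz => (Commute.mul_left (n.p.T_Z0 n.u'_T hz) (hmZ z hz)).eq
      calc v * m * u * (v * m)⁻¹ = v * (m * u * m⁻¹) * v⁻¹ := by group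
        _ = (v * w * v⁻¹) * (v * u * v⁻¹) := by rw [e]; group
        _ = w * w * u := by rw [mul_inv_eq_iff_eq_mul.2 hvw, hvu, mul_assoc]
        _ = u := by rw [n.p.W_sq n.p.wW, one_mul]
    have := mul_mem (inv_mem n.u'_T) h1.1
    rw [← hv, inv_mul_cancel_left] at this
    exact mem_sup_right this

theorem card_P : Nat.card ↥(K ⊔ T) = 24 * Nat.card ↥(Cz T K) := by
  have h := HallCore.card_mul_relIndex
    ((inf_le_left : Rt T K ≤ T).trans (le_sup_right (a := K)))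
  rw [show (T ⊓ centralizer (Cfsg.wOf K : Set G)) = Rt T K from rfl, n.p.relIndex_Rt] at h
  have h' := OffendersReplace.card_sup_mul_card_inf (Cfsg.wOf K) (Cz T K)
    (OffendersReplace.le_normalizer_of_commute fun a ha b hb =>
      n.p.T_Z0 (n.p.W_le_Rt ha).1 hb.1)
  have hbot : Cfsg.wOf K ⊓ Cz T K = ⊥ := (eq_bot_iff_forall _).2 fun x hx =>
    by_contra fun h1 => no_fixed n.p.side.r hx.1 h1 hx.2.2
  rw [hbot, card_bot, mul_one, n.p.side.r.comp.2.2.2.2.1] at h'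
  have e : Rt T K = Cfsg.wOf K ⊔ Cz T K := by
    rw [n.Rt_eq]
    refine le_antisymm (fun x hx => ?_) (sup_le_sup_left (Cz_le_Z0 T K) _)
    obtain ⟨v, hv, c, hc, rfl⟩ := n.p.E0_mem hx
    exact mul_mem (mem_sup_left hv) (mem_sup_right hc)
  rw [e, h'] at h
  omega

theorem exists_data : ∃ g s, JCompS4.Data (Cfsg.wOf K) w g s ∧ g ∈ K ⊔ T ∧ s ∈ K ⊔ T := by
  set v := k' * w' * k'⁻¹ with hv
  have hvT : v ∈ T := n.u'_T
  have hvR : v ∉ Rt T K := n.u'_not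
  have hvP : v ∈ K ⊔ T := mem_sup_right hvT
  have hkP : k ∈ K ⊔ T := mem_sup_left n.p.kK
  have hvW' : v ∈ Cfsg.wOf K' := n.p'.k_W n.p'.wW
  obtain ⟨q, hq, eq1⟩ := (n.p.conj_k hvT).2 hvR
  have hv2 : v * v = 1 := n.p'.W_sq hvW'
  have hvu := ((n.p.T_u hvT).resolve_left fun q => hvR q.2).1
  clear_value v
  have hvinv : v⁻¹ = v := inv_eq_of_mul_eq_one_right hv2
  set y := k * v * k⁻¹ * v with hy
  have hyP : y ∈ K ⊔ T := mul_mem (mul_mem (mul_mem hkP hvP) (inv_mem hkP)) hvP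
  have hinv : v * y * v⁻¹ = y⁻¹ := by
    rw [hy, hvinv, mul_inv_rev, mul_inv_rev, mul_inv_rev, hvinv, inv_inv]
    calc v * (k * v * k⁻¹ * v) * v = v * (k * (v * k⁻¹)) * (v * v) := by group
      _ = _ := by rw [hv2, mul_one]
  have hyact : ∀ x ∈ Cfsg.wOf K, y * x * y⁻¹ = k * (k * x * k⁻¹) * k⁻¹ := by
    intro x hx
    have e : y = k * q⁻¹ * k := by
      rw [hy]
      calc k * v * k⁻¹ * v = k * (v * k * v⁻¹)⁻¹ * (v * v) := by group
        _ = _ := by rw [eq1, hv2]; group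
    rw [e]
    have hc : q⁻¹ * (k * x * k⁻¹) * q⁻¹⁻¹ = k * x * k⁻¹ :=
      mul_inv_eq_iff_eq_mul.2 (core_comm_wOf (inv_mem hq) (n.p.k_W hx))
    calc k * q⁻¹ * k * x * (k * q⁻¹ * k)⁻¹ = k * (q⁻¹ * (k * x * k⁻¹) * q⁻¹⁻¹) * k⁻¹ := by group
      _ = _ := by rw [hc]
  clear_value y
  have hkW : ∀ x ∈ Cfsg.wOf K, k * x * k⁻¹ ∈ Cfsg.wOf K := fun x hx => n.p.k_W hx
  have hy4 : y ^ 4 * w * (y ^ 4)⁻¹ = k * (k * w * k⁻¹) * k⁻¹ := by
    have h1 : ∀ x ∈ Cfsg.wOf K, y * (y * x * y⁻¹) * y⁻¹ = k * x * k⁻¹ := fun x hx => by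
      rw [hyact x hx, hyact _ (hkW _ (hkW _ hx))]
      calc k * (k * (k * (k * x * k⁻¹) * k⁻¹) * k⁻¹) * k⁻¹ = k * (k ^ 3 * x * (k ^ 3)⁻¹) * k⁻¹ := by
            rw [pow_three]; group
        _ = _ := by rw [n.p.k3]; group
    calc y ^ 4 * w * (y ^ 4)⁻¹ = y * (y * (y * (y * w * y⁻¹) * y⁻¹) * y⁻¹) * y⁻¹ := by
          simp only [pow_succ, pow_zero, one_mul]; group
      _ = _ := by rw [h1 w n.p.wW, h1 _ (hkW _ n.p.wW)]
  have hy12 : (y ^ 4) ^ 3 = 1 := by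
    have : ((Rt T K).subgroupOf (K ⊔ T)).Normal :=
      LocalBasics.normal_subgroupOf_of_le n.p.P_norm_Rt
    have h6 := pow_index_mem ((Rt T K).subgroupOf (K ⊔ T)) ⟨y, hyP⟩
    rw [show ((Rt T K).subgroupOf (K ⊔ T)).index = 6 from n.p.relIndex_Rt, mem_subgroupOf] at h6
    have := n.exponent h6
    rw [← pow_mul, show 4 * 3 = 6 + 6 from rfl, pow_add]
    simpa using this
  have hgN : y ^ 4 ∈ normalizer (Cfsg.wOf K : Set G) :=
    pow_mem ((sup_le le_normalizer n.p.side.norm).trans (normalizer_le_wOf K) hyP) 4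
  refine ⟨y ^ 4, v, ⟨n.p.side.r.comp.2.2.2.2.1, fun a ha b hb => n.p.W_comm ha hb, n.p.wW, hy12,
    hv2, ?_, hgN, (n.p.side.norm.trans (normalizer_le_wOf K)) hvT, n.p.T_w hvT, ?_, ?_⟩,
    pow_mem hyP 4, hvP⟩
  · rw [← conj_pow, hinv, inv_pow]
  · rw [hy4, n.p.u_sq]
    exact fun e => n.p.u_one (mul_eq_left.1 e)
  · rw [hy4, n.p.u_sq, show v * (w * (k * w * k⁻¹)) * v⁻¹ =
      (v * w * v⁻¹) * (v * (k * w * k⁻¹) * v⁻¹) by group, n.p.T_w hvT, hvu]
    exact fun e => n.p.w1 (mul_eq_right.1 (mul_left_cancel e))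

/-- The group is the symmetric group on four letters, or its product with a group of order 2. -/
theorem iso :
    (Nat.card ↥(Cz T K) = 1 ∧ Nonempty (↥(Lstar T K) ≃* Equiv.Perm (Fin 4))) ∨
      (Nat.card ↥(Cz T K) = 2 ∧
        Nonempty (↥(Lstar T K) ≃* Equiv.Perm (Fin 4) × Multiplicative (ZMod 2))) := by
  obtain ⟨g, s, d, hg, hs⟩ := n.exists_data
  rw [n.L_eq]
  set H := Cfsg.wOf K ⊔ (zpowers g ⊔ zpowers s)
  have hHP : H ≤ K ⊔ T := sup_le (n.p.W_le_Rt.trans (inf_le_left.trans le_sup_right))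
    (sup_le (zpowers_le.2 hg) (zpowers_le.2 hs))
  have hcard : Nat.card ↥H = 24 := JCompS4.card_sup d
  obtain ⟨e⟩ := JCompS4.iso d
  have hP := n.card_P
  have hpos : 0 < Nat.card ↥(Cz T K) := Nat.card_pos
  have hle := n.p.side.small
  rcases (show Nat.card ↥(Cz T K) = 1 ∨ Nat.card ↥(Cz T K) = 2 by omega) with h1 | h2
  · refine Or.inl ⟨h1, ?_⟩
    rw [← eq_of_le_of_card_ge hHP (by rw [hcard, hP, h1])]
    exact ⟨e⟩
  · refine Or.inr ⟨h2, ?_⟩
    have hCP : Cz T K ≤ K ⊔ T := (Cz_le_Z0 T K).trans ((Z0_le_T T).trans le_sup_right)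
    have hcen : ∀ (x : G), x ∈ K ⊔ T → ∀ c ∈ Cz T K, x * c = c * x := by
      intro x hx c hc
      obtain ⟨i, t, ht, rfl⟩ := n.p.mem_P hx
      exact (Commute.mul_left ((show Commute k c from hc.2 k n.p.kK).pow_left i)
        (n.p.T_Z0 ht hc.1)).eq
    let φ : ↥H × ↥(Cz T K) →* ↥(K ⊔ T) :=
      (Subgroup.inclusion hHP).noncommCoprod (Subgroup.inclusion hCP) fun x c =>
        Subtype.ext (hcen _ (hHP x.2) _ c.2)
    have hinj : Function.Injective φ := by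
      rw [← MonoidHom.ker_eq_bot_iff, eq_bot_iff]
      rintro ⟨⟨x, hx⟩, ⟨c, hc⟩⟩ hxc
      have h0 : x * c = 1 := congrArg Subtype.val hxc
      have hx' : x = c := (eq_inv_of_mul_eq_one_left h0).trans (Z0_inv hc.1)
      subst hx'
      -- `x` centralises `H`
      have hxW : ∀ y ∈ Cfsg.wOf K, x * y * x⁻¹ = y := fun y hy =>
        mul_inv_eq_iff_eq_mul.2 (hcen y (hHP (mem_sup_left hy)) x hc).symm
      have hmem : x ∈ Cfsg.wOf K ⊔ (zpowers g ⊔ zpowers s) := hx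
      rw [← SetLike.mem_coe, coe_mul_of_right_le_normalizer_left _ _ (JCompS4.H0_norm d)] at hmem
      obtain ⟨a, ha, b, hb, hab⟩ := hmem
      change a * b = x at hab
      have hb1 : b = 1 := JCompS4.faith d hb fun y hy => by
        calc b * y * b⁻¹ = a⁻¹ * ((a * b) * y * (a * b)⁻¹) * a := by group
          _ = a⁻¹ * y * a := by rw [hab, hxW y hy]
          _ = y := by rw [mul_assoc, d.comm y hy a ha, inv_mul_cancel_left]
      have hxW' : x ∈ Cfsg.wOf K := by rw [← hab, hb1, mul_one]; exact ha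
      have hx1 : x = 1 := by_contra fun h => no_fixed n.p.side.r hxW' h hc.2
      subst hx1
      rfl
    have hbij : Function.Bijective φ :=
      (Nat.bijective_iff_injective_and_card φ).2
        ⟨hinj, by rw [Nat.card_prod, hcard, hP]⟩
    have : Fact (Nat.Prime 2) := ⟨Nat.prime_two⟩
    have hz : Nat.card (Multiplicative (ZMod 2)) = 2 := Nat.card_zmod 2
    exact ⟨(MulEquiv.ofBijective φ hbij).symm.trans
      (e.prodCongr (mulEquivOfPrimeCardEq h2 hz))⟩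

end Near

end Cfsg.Agent.JCompShape
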