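import Mathlib
import Cfsg.Prelude.Def_JComponents
import Cfsg.Agent.Lib.JCompShape
import Cfsg.Agent.Lib.SignalizerStrongEmb
import Cfsg.Agent.S2947

/-!
The existence of a second component.
-/

set_option autoImplicit false

namespace Cfsg.Agent.JCompSecond

open Subgroup Cfsg JCompBase JCompCore JCompLine JCompMax JCompClass JCompDuo JCompSide
open scoped commutatorElement

variable {G : Type*} [Group G] [Finite G] {T K : Subgroup G}

theorem std_map (h : Std T (Lstar T K)) {g : G} (hg : g ∈ normalizer (T : Set G)) :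
    Std T ((Lstar T K).map (MulAut.conj g).toMonoidHom) := by
  set L := Lstar T K
  set c := (MulAut.conj g).toMonoidHom with hc
  have hinj : Function.Injective c := (MulAut.conj g).injective
  have hT : T.map c = T := conj_eq_self hg
  refine ⟨h.char2, h.solv, h.zentral, h.tp, ⟨?_, h.tp, ?_⟩, fun hle => h.mem.2.1 ?_, fun x hx => ?_⟩
  · exact hT ▸ map_mono h.T_le
  · have := relIndex_map_map_of_injective T L hinj
    rw [hT] at this
    rw [this]; exact h.sylT.2.2
  · have hJ : (Cfsg.thompsonSubgroupOf 2 T).map c = Cfsg.thompsonSubgroupOf 2 T :=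
      conj_eq_self (thompson_normalizer hg)
    rw [← hJ, ← map_pCoreOf] at hle
    exact (map_le_map_iff_of_injective hinj).1 hle
  · rw [← map_pCoreOf] at hx ⊢
    refine ⟨g⁻¹ * x * g, h.cent_Q fun q hq => ?_, by simp [hc, mul_assoc]⟩
    have h1 : g * q * g⁻¹ * x = x * (g * q * g⁻¹) := hx _ ⟨q, hq, rfl⟩
    calc q * (g⁻¹ * x * g) = g⁻¹ * ((g * q * g⁻¹) * x) * g := by group
      _ = g⁻¹ * (x * (g * q * g⁻¹)) * g := by rw [h1]
      _ = _ := by group

/-- A conjugate of `K` under an element of `N(T)` outside the overgroup gives a second component. -/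
theorem duo_of_conj (r : Rooted T K) (h : Std T (Lstar T K)) {g : G}
    (hg : g ∈ normalizer (T : Set G)) (hgL : g ∉ Lstar T K) :
    Duo T K (K.map (MulAut.conj g).toMonoidHom) := by
  have e := Lstar_conj r (thompson_normalizer hg)
  exact ⟨r, rooted_conj r (thompson_normalizer hg), h, e ▸ std_map h hg,
    fun q => hgL (mem_of_norm_Lstar r (e.symm.trans q.symm))⟩

theorem inf_Lstar (h : Std T (Lstar T K)) {S : Subgroup G} (hS : IsPGroup 2 ↥S) (hTS : T ≤ S) :
    S ⊓ Lstar T K = T := by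
  refine (eq_of_le_of_card_ge (le_inf hTS h.T_le) ?_).symm
  obtain ⟨l, -, hsub⟩ := sylowTwoIn_conj h.sylT (inf_le_right : S ⊓ Lstar T K ≤ Lstar T K)
    (hS.to_le inf_le_left)
  exact (Subgroup.card_le_of_le hsub).trans_eq (card_map_of_injective (MulAut.conj l).injective)

theorem exists_outside (h : Std T (Lstar T K)) {S : Subgroup G} (hS : IsPGroup 2 ↥S) (hTS : T < S) :
    ∃ g ∈ S, g ∈ normalizer (T : Set G) ∧ g ∉ Lstar T K := by
  obtain ⟨x, ⟨hxS, hxN⟩, hxT⟩ := SetLike.exists_of_lt (exists_norm_gt hS hTS)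
  exact ⟨x, hxS, hxN, fun hL => hxT ((inf_Lstar h hS hTS.le).le ⟨hxS, hL⟩)⟩

/-- The image of `Rt` under conjugation by an element normalising `T`. -/
theorem map_Rt {g : G} (hg : g ∈ normalizer (T : Set G)) :
    (Rt T K).map (MulAut.conj g).toMonoidHom = Rt T (K.map (MulAut.conj g).toMonoidHom) := by
  rw [Rt, Rt, Subgroup.map_inf _ _ _ (MulAut.conj g).injective, conj_eq_self hg, ← map_wOf]
  congr 1
  ext x
  constructor
  · rintro ⟨y, hy, rfl⟩ _ ⟨z, hz, rfl⟩
    show _ * _ = _ * _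
    rw [← map_mul, ← map_mul, hy z hz]
  · intro hx
    refine ⟨g⁻¹ * x * g, fun z hz => ?_, by simp [mul_assoc]⟩
    have h1 : g * z * g⁻¹ * x = x * (g * z * g⁻¹) := hx _ ⟨z, hz, rfl⟩
    calc z * (g⁻¹ * x * g) = g⁻¹ * ((g * z * g⁻¹) * x) * g := by group
      _ = g⁻¹ * (x * (g * z * g⁻¹)) * g := by rw [h1]
      _ = _ := by group

/-- A nontrivial central element of a Sylow subgroup has a small centraliser, after conjugation. -/
theorem not_conj_center (hT : IsPGroup 2 ↥T) (hK : Cfsg.IsJComponent T K)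
    (hZ : ∀ S : Sylow 2 G, centralizer (Cfsg.omegaCenterOf (S : Subgroup G) : Set G) ≤
      normalizer ((S : Subgroup G) : Set G))
    {S : Sylow 2 G} {z : G} (hz : ∀ y ∈ Cfsg.omegaCenterOf (S : Subgroup G), y = 1 ∨ y = z) {g : G}
    (hle : K ⊔ Cfsg.thompsonSubgroupOf 2 T ≤ centralizer ({g * z * g⁻¹} : Set G)) : False := by
  refine not_le_sylow_normalizer hK hT (g • S) fun x hx => ?_
  have h1 : x * (g * z * g⁻¹) = g * z * g⁻¹ * x := mem_centralizer_singleton_iff.1 (hle hx)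
  have h2 : g⁻¹ * x * g ∈ normalizer ((S : Subgroup G) : Set G) := by
    refine hZ S fun y hy => ?_
    rcases hz y hy with rfl | rfl
    · simp
    · calc y * (g⁻¹ * x * g) = g⁻¹ * (g * y * g⁻¹ * x) * g := by group
        _ = g⁻¹ * (x * (g * y * g⁻¹)) * g := by rw [h1]
        _ = _ := by group
  have e : ((g • S : Sylow 2 G) : Subgroup G) =
      (S : Subgroup G).map (MulAut.conj g).toMonoidHom := by
    rw [Sylow.coe_subgroup_smul]; rfl
  rw [e, ← map_equiv_normalizer_eq]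
  exact ⟨g⁻¹ * x * g, h2, by simp [mul_assoc]⟩

/-- Between two nontrivial elements of `W_K` some element of `K` conjugates one to the other. -/
theorem orbit (r : Rooted T K) {z c : G} (hz : z ∈ Cfsg.wOf K) (hc : c ∈ Cfsg.wOf K) (hz1 : z ≠ 1)
    (hc1 : c ≠ 1) : ∃ g ∈ K, g * z * g⁻¹ = c := by
  obtain ⟨k, hkK, hko, hkQ⟩ : ∃ x ∈ K, Odd (orderOf x) ∧ x ∉ Cfsg.pCoreOf 2 K := by
    by_contra hno
    push Not at hno
    exact comp_not_twoGroup r.comp
      ((LocalBasics.isPGroup_pCoreOf 2 K).to_le (comp_gen_odd r.comp hno))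
  have hk3 : k ^ 3 = 1 := by
    obtain ⟨n, hn⟩ := LocalBasics.isPGroup_pCoreOf 2 K ⟨_, comp_cube r.comp hkK⟩
    have hn' : (k ^ 3) ^ 2 ^ n = 1 := congrArg Subtype.val hn
    exact orderOf_eq_one_iff.1 (Nat.eq_one_of_dvd_coprimes
      ((Nat.coprime_two_right.2 hko).pow_right n) (orderOf_pow_dvd 3)
      (orderOf_dvd_of_pow_eq_one hn'))
  have hmove : ∀ x ∈ Cfsg.wOf K, x ≠ 1 → k * x * k⁻¹ ≠ x := fun x hx hx1 e => by
    refine no_fixed r hx hx1 fun y hy => ?_
    obtain ⟨i, q, hq, rfl⟩ := comp_decomp r.comp hkK hkQ hy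
    exact (Commute.mul_left ((show Commute k x from mul_inv_eq_iff_eq_mul.1 e).pow_left i)
      (core_comm_wOf hq hx)).eq
  have hkW : ∀ x ∈ Cfsg.wOf K, k * x * k⁻¹ ∈ Cfsg.wOf K := fun x hx =>
    LocalBasics.conj_mem_of_le_normalizer (le_normalizer.trans (normalizer_le_wOf K)) hkK hx
  set u := k * z * k⁻¹ with hu
  have hu1 : u ≠ 1 := fun e => hz1 (conj_eq_one_iff.1 e)
  have four := fun {x : G} (hx : x ∈ Cfsg.wOf K) => S2946.four_elems r.comp.2.2.2.2.1
    r.comp.2.2.2.2.2 hz (hkW z hz) hz1 hu1 (hmove z hz hz1) hx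
  rcases four hc with e | e | e | e
  · exact absurd e hc1
  · exact ⟨1, one_mem K, by rw [e]; group⟩
  · exact ⟨k, hkK, e.symm⟩
  · refine ⟨k * k, mul_mem hkK hkK, ?_⟩
    have e2 : k * k * z * (k * k)⁻¹ = k * u * k⁻¹ := by rw [hu]; group
    rw [e2, e]
    rcases four (hkW u (hkW z hz)) with q | q | q | q
    · exact absurd (conj_eq_one_iff.1 q) hu1
    · exfalso
      refine hmove z hz hz1 ?_
      calc k * z * k⁻¹ = k * (k * u * k⁻¹) * k⁻¹ := by rw [q]
        _ = k ^ 3 * z * (k ^ 3)⁻¹ := by rw [hu, pow_three]; group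
        _ = z := by rw [hk3]; group
    · exact absurd q (hmove u (hkW z hz) hu1)
    · exact q

/-- Invariance of the size of a largest elementary abelian subgroup. -/
theorem maxIn_map {P A : Subgroup G} (g : G) (hA : Offenders.IsMaxIn 2 P A) :
    Offenders.IsMaxIn 2 (P.map (MulAut.conj g).toMonoidHom) (A.map (MulAut.conj g).toMonoidHom) := by
  refine ⟨map_mono hA.1, Offenders.ea_map hA.2.1 _, fun B hB hBe => ?_⟩
  have h1 : B.map (MulAut.conj g⁻¹).toMonoidHom ≤ P := by
    have := map_mono (f := (MulAut.conj g⁻¹).toMonoidHom) hB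
    rwa [map_conj_inv] at this
  have h2 := hA.2.2 _ h1 (Offenders.ea_map hBe _)
  rwa [card_map_of_injective (MulAut.conj g⁻¹).injective,
    ← card_map_of_injective (K := A) (f := (MulAut.conj g).toMonoidHom) (MulAut.conj g).injective]
    at h2

theorem maxElem_conj (g : G) (P : Subgroup G) :
    Cfsg.maxElemAbelianOrder (P.map (MulAut.conj g).toMonoidHom) = Cfsg.maxElemAbelianOrder P := by
  obtain ⟨A, hA⟩ := exists_maxIn P
  rw [maxElem_eq hA, maxElem_eq (maxIn_map g hA),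
    card_map_of_injective (MulAut.conj g).injective]

theorem straddle_conj {L P : Subgroup G} {g : G} (hg : g ∈ L)
    (hP : P ∈ Cfsg.straddlingTwoSubgroups L) :
    P.map (MulAut.conj g).toMonoidHom ∈ Cfsg.straddlingTwoSubgroups L := by
  obtain ⟨hp, h1, hPL, X, hX, hPX, hXL⟩ := hP
  refine ⟨hp.map _, fun e => h1 ((map_eq_bot_iff_of_injective _ (MulAut.conj g).injective).1 e),
    ?_, X.map (MulAut.conj g).toMonoidHom, map_twoLocal g hX, map_mono hPX, fun hle => hXL ?_⟩
  · rintro _ ⟨x, hx, rfl⟩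
    exact mul_mem (mul_mem hg (hPL hx)) (inv_mem hg)
  · intro x hx
    have h2 : g * x * g⁻¹ ∈ L := hle ⟨x, hx, rfl⟩
    have := mul_mem (mul_mem (inv_mem hg) h2) hg
    simpa [mul_assoc] using this

/-- A maximal straddling subgroup can be found inside a given Sylow subgroup. -/
theorem exists_max_le {L S : Subgroup G} (hS : Cfsg.IsSylowTwoIn S L)
    (hne : (Cfsg.straddlingTwoSubgroups L).Nonempty) :
    ∃ P ≤ S, P ∈ Cfsg.maxStraddlingTwoSubgroups L := by
  classical
  have conjS : ∀ P ∈ Cfsg.straddlingTwoSubgroups L, ∃ g ∈ L,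
      P.map (MulAut.conj g).toMonoidHom ≤ S := by
    intro P hP
    obtain ⟨l, hl, hsub⟩ := sylowTwoIn_conj hS hP.2.2.1 hP.1
    refine ⟨l⁻¹, inv_mem hl, ?_⟩
    have := map_mono (f := (MulAut.conj l⁻¹).toMonoidHom) hsub
    rwa [map_conj_inv] at this
  set F : Set (Subgroup G) := {P | P ∈ Cfsg.straddlingTwoSubgroups L ∧ P ≤ S}
  have hF : F.Nonempty := by
    obtain ⟨P, hP⟩ := hne
    obtain ⟨g, hg, hle⟩ := conjS P hP
    exact ⟨_, straddle_conj hg hP, hle⟩
  obtain ⟨P₁, hP₁, h₁⟩ := Set.exists_max_image F Cfsg.maxElemAbelianOrder (Set.toFinite _) hF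
  set F₂ : Set (Subgroup G) :=
    {P | P ∈ F ∧ Cfsg.maxElemAbelianOrder P = Cfsg.maxElemAbelianOrder P₁}
  obtain ⟨P₂, hP₂, h₂⟩ := Set.exists_max_image F₂
    (fun P => Nat.card ↥(Cfsg.thompsonSubgroupOf 2 P)) (Set.toFinite _) ⟨P₁, hP₁, rfl⟩
  set F₃ : Set (Subgroup G) := {P | P ∈ F₂ ∧
    Nat.card ↥(Cfsg.thompsonSubgroupOf 2 P) = Nat.card ↥(Cfsg.thompsonSubgroupOf 2 P₂)}
  obtain ⟨P₃, hP₃, h₃⟩ := Set.exists_max_image F₃ (fun P => Nat.card ↥P) (Set.toFinite _)
    ⟨P₂, hP₂, rfl⟩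
  refine ⟨P₃, hP₃.1.1.2, hP₃.1.1.1, fun Q hQ => ?_⟩
  obtain ⟨g, hg, hle⟩ := conjS Q hQ
  set Q' := Q.map (MulAut.conj g).toMonoidHom with hQ'
  have hQ'F : Q' ∈ F := ⟨straddle_conj hg hQ, hle⟩
  have ea : Cfsg.maxElemAbelianOrder Q' = Cfsg.maxElemAbelianOrder Q := maxElem_conj g Q
  have eJ : Nat.card ↥(Cfsg.thompsonSubgroupOf 2 Q') =
      Nat.card ↥(Cfsg.thompsonSubgroupOf 2 Q) := by
    rw [hQ', ← Offenders.thompsonOf_map_conj, card_map_of_injective (MulAut.conj g).injective]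
  have ec : Nat.card ↥Q' = Nat.card ↥Q := card_map_of_injective (MulAut.conj g).injective
  rw [hP₃.1.2, ← ea]
  refine ⟨h₁ Q' hQ'F, fun e => ?_⟩
  rw [hP₃.2, ← eJ]
  refine ⟨h₂ Q' ⟨hQ'F, e⟩, fun e' => ?_⟩
  rw [← ec]
  exact h₃ Q' ⟨⟨hQ'F, e⟩, e'⟩

/-- If `T` is a Sylow subgroup and `N(T)` lies in the overgroup, so does `N(J(T))`. -/
theorem normalizer_J_le_Lstar (r : Rooted T K) (h : Std T (Lstar T K)) (S : Sylow 2 G)
    (hS : (S : Subgroup G) = T) (hN : normalizer (T : Set G) ≤ Lstar T K) :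
    normalizer (Cfsg.thompsonSubgroupOf 2 T : Set G) ≤ Lstar T K := by
  classical
  intro σ hσ
  by_contra hσL
  have r₂ := rooted_conj r hσ
  have hne : Lstar T K ≠ Lstar T (K.map (MulAut.conj σ).toMonoidHom) := fun q =>
    hσL (mem_of_norm_Lstar r ((Lstar_conj r hσ).symm.trans q.symm))
  have hC2 : Nat.card ↥(Cz T K) ≤ 2 := card_Cz_le r r₂ hne
  have hZle : Cfsg.omegaCenterOf (S : Subgroup G) ≤ Z0 T := hS ▸ omegaCenter_le_Z0 T
  -- elements fixing `Z0 T` pointwise lie in `N(T)`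
  have hcent : ∀ x : G, (∀ z ∈ Z0 T, x * z = z * x) → x ∈ normalizer (T : Set G) := fun x hx => by
    rw [← hS]
    exact r.zentral S fun z hz => (hx z (hZle hz)).symm
  by_cases hTc : ∀ t ∈ T, ∀ z ∈ Z0 T, t * z = z * t
  · -- then `T` is normal in `N(J(T))`
    refine hσL (hN (mem_normalizer_of_map_eq ?_))
    refine eq_of_le_of_card_ge ?_ (card_map_of_injective (MulAut.conj σ).injective).ge
    have hle : T.map (MulAut.conj σ).toMonoidHom ≤ normalizer (T : Set G) := by
      rintro _ ⟨t, ht, rfl⟩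
      refine hcent _ fun z hz => ?_
      show σ * t * σ⁻¹ * z = z * (σ * t * σ⁻¹)
      have hz' : σ⁻¹ * z * σ⁻¹⁻¹ ∈ Z0 T :=
        LocalBasics.conj_mem_of_le_normalizer le_rfl (norm_J_Z0 T (inv_mem hσ)) hz
      calc σ * t * σ⁻¹ * z = σ * (t * (σ⁻¹ * z * σ⁻¹⁻¹)) * σ⁻¹ := by group
        _ = σ * ((σ⁻¹ * z * σ⁻¹⁻¹) * t) * σ⁻¹ := by rw [hTc t ht _ hz']
        _ = _ := by group
    have hp := r.tp.to_sup_of_normal_left' (r.tp.map (MulAut.conj σ).toMonoidHom) hle
    have := S.is_maximal' hp (hS.le.trans le_sup_left)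
    rw [hS] at this
    exact le_sup_right.trans this.le
  push Not at hTc
  obtain ⟨t, ht, z₁, hz₁, htz⟩ := hTc
  obtain ⟨w, hwZ, hwW, hw1, hwC, -, hdec⟩ := exists_w r
  have htJ : t ∈ normalizer (Cfsg.thompsonSubgroupOf 2 T : Set G) :=
    thompson_normalizer (le_normalizer ht)
  obtain ⟨c, hc, hc1⟩ : ∃ c ∈ Cz T K, c ≠ 1 := by
    by_contra hall
    push Not at hall
    refine htz (mul_inv_eq_iff_eq_mul.1 ?_)
    have h2 : Nat.card ↥(Z0 T) = 2 := by
      rw [card_Z0 r, (eq_bot_iff_forall _).2 hall, card_bot]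
    obtain ⟨y, -, huniq⟩ := (Nat.card_eq_two_iff' (1 : ↥(Z0 T))).1 h2
    by_cases hz : z₁ = 1
    · subst hz; group
    exact congrArg Subtype.val ((huniq ⟨_, LocalBasics.conj_mem_of_le_normalizer (T_norm_Z0 T) ht hz₁⟩
      fun q => hz (conj_eq_one_iff.1 (congrArg Subtype.val q))).trans
      (huniq ⟨z₁, hz₁⟩ fun q => hz (congrArg Subtype.val q)).symm)
  have hcw : c ≠ w := fun e => hwC (e ▸ hc)
  have four : ∀ x ∈ Z0 T, x = 1 ∨ x = c ∨ x = w ∨ x = c * w := by
    intro x hx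
    have hC : ∀ y ∈ Cz T K, y = 1 ∨ y = c := by
      intro y hy
      by_contra hy'
      simp only [not_or] at hy'
      have h3 : ({⟨1, one_mem _⟩, ⟨c, hc⟩, ⟨y, hy⟩} : Finset ↥(Cz T K)).card = 3 := by
        rw [Finset.card_insert_of_notMem, Finset.card_pair]
        · exact fun q => hy'.2 (congrArg Subtype.val q).symm
        · simp only [Finset.mem_insert, Finset.mem_singleton, not_or]
          exact ⟨fun q => hc1 (congrArg Subtype.val q).symm,
            fun q => hy'.1 (congrArg Subtype.val q).symm⟩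
      have := Fintype.ofFinite ↥(Cz T K)
      have := Finset.card_le_univ ({⟨1, one_mem _⟩, ⟨c, hc⟩, ⟨y, hy⟩} : Finset ↥(Cz T K))
      rw [h3, ← Nat.card_eq_fintype_card] at this
      omega
    rcases hdec x hx with h1 | h1 <;> rcases hC _ h1 with e | e
    · exact Or.inl e
    · exact Or.inr (Or.inl e)
    · exact Or.inr (Or.inr (Or.inl ((mul_eq_one_iff_eq_inv.1 e).trans (Z0_inv hwZ))))
    · refine Or.inr (Or.inr (Or.inr ?_))
      rw [← e, mul_assoc, Z0_sq hwZ, mul_one]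
  -- the fixed element
  have hZ1 : ∃ z, z ∈ Z0 T ∧ z ≠ 1 ∧ z ∈ Cfsg.omegaCenterOf (S : Subgroup G) := by
    by_contra hno
    push Not at hno
    refine not_le_sylow_normalizer r.comp r.tp S fun x _ => r.zentral S fun y hy => ?_
    have : y = 1 := by_contra fun h1 => hno y (hZle hy) h1 hy
    subst this
    simp
  obtain ⟨z, hzZ, hz1, hzS⟩ := hZ1
  have hfix : ∀ {s : G}, s ∈ T → s * z = z * s := fun {s} hs =>
    ((Offenders.omegaOne_le _).trans inf_le_right) hzS s (hS.ge hs)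
  have honly : ∀ y ∈ Cfsg.omegaCenterOf (S : Subgroup G), y = 1 ∨ y = z := by
    intro y hy
    by_contra hy'
    simp only [not_or] at hy'
    refine htz ?_
    have hyfix : t * y = y * t :=
      ((Offenders.omegaOne_le _).trans inf_le_right) hy t (hS.ge ht)
    have hsub : Z0 T ≤ closure ({z, y} : Set G) := by
      refine (eq_of_le_of_card_ge ((closure_le _).2 ?_) ?_).ge
      · rintro a (rfl | rfl); exacts [hzZ, hZle hy]
      · rw [card_Z0 r]
        have h4 : ({⟨1, one_mem _⟩, ⟨z, subset_closure (Or.inl rfl)⟩,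
            ⟨y, subset_closure (Or.inr rfl)⟩} : Finset ↥(closure ({z, y} : Set G))).card = 3 := by
          rw [Finset.card_insert_of_notMem, Finset.card_pair]
          · exact fun q => hy'.2 (congrArg Subtype.val q).symm
          · simp only [Finset.mem_insert, Finset.mem_singleton, not_or]
            exact ⟨fun q => hz1 (congrArg Subtype.val q).symm,
              fun q => hy'.1 (congrArg Subtype.val q).symm⟩
        have := Fintype.ofFinite ↥(closure ({z, y} : Set G))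
        have h5 := Finset.card_le_univ ({⟨1, one_mem _⟩, ⟨z, subset_closure (Or.inl rfl)⟩,
            ⟨y, subset_closure (Or.inr rfl)⟩} : Finset ↥(closure ({z, y} : Set G)))
        rw [h4, ← Nat.card_eq_fintype_card] at h5
        have hle : closure ({z, y} : Set G) ≤ Z0 T := (closure_le _).2 (by
          rintro a (rfl | rfl); exacts [hzZ, hZle hy])
        obtain ⟨n, hn⟩ := Subgroup.card_dvd_of_le hle
        rw [card_Z0 r] at hn
        have := Subgroup.card_le_of_le hle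
        rw [card_Z0 r] at this
        rcases n with _ | _ | n
        · simp at hn; omega
        · omega
        · nlinarith
    have hle2 : closure ({z, y} : Set G) ≤ centralizer ({t} : Set G) := (closure_le _).2 (by
      rintro a (rfl | rfl)
      exacts [mem_centralizer_singleton_iff.2 (hfix ht).symm,
        mem_centralizer_singleton_iff.2 hyfix.symm])
    exact (mem_centralizer_singleton_iff.1 (hle2 (hsub hz₁))).symm
  -- no conjugate of `z` is centralised by `K`
  have nconj : ∀ g : G, g * z * g⁻¹ ∉ Cz T K := fun g hg =>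
    not_conj_center r.tp r.comp r.zentral honly (KJ_le_centralizer hg)
  have hzc : z ≠ c := fun e => nconj 1 (by rw [e]; simpa using hc)
  have hcC₂ : ∀ s ∈ T, s * c * s⁻¹ ∈ Cz T (K.map (MulAut.conj s).toMonoidHom) := by
    intro s hs
    refine ⟨LocalBasics.conj_mem_of_le_normalizer (T_norm_Z0 T) hs hc.1, ?_⟩
    rintro _ ⟨y, hy, rfl⟩
    show s * y * s⁻¹ * (s * c * s⁻¹) = s * c * s⁻¹ * (s * y * s⁻¹)
    calc s * y * s⁻¹ * (s * c * s⁻¹) = s * (y * c) * s⁻¹ := by group
      _ = s * (c * y) * s⁻¹ := by rw [hc.2 y hy]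
      _ = _ := by group
  -- `t` moves `c`, and the three involutions are `z`, `c` and `t c t⁻¹`
  have hct : t * c * t⁻¹ ≠ c := by
    intro e
    refine htz ?_
    have hle : ∀ a ∈ ({z, c} : Set G), a ∈ centralizer ({t} : Set G) := by
      rintro a (rfl | rfl)
      exacts [mem_centralizer_singleton_iff.2 (hfix ht).symm,
        mem_centralizer_singleton_iff.2 (mul_inv_eq_iff_eq_mul.1 e).symm]
    have hz' : z = w ∨ z = c * w := by
      rcases four z hzZ with q | q | q | q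
      · exact absurd q hz1
      · exact absurd q hzc
      · exact Or.inl q
      · exact Or.inr q
    have hwt : w ∈ centralizer ({t} : Set G) := by
      rcases hz' with q | q
      · exact q ▸ hle z (Or.inl rfl)
      · have : w = c * z := by rw [q, ← mul_assoc, Z0_sq hc.1, one_mul]
        rw [this]
        exact mul_mem (hle c (Or.inr rfl)) (hle z (Or.inl rfl))
    have hall : Z0 T ≤ centralizer ({t} : Set G) := by
      intro a ha
      rcases four a ha with rfl | rfl | rfl | rfl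
      exacts [one_mem _, hle _ (Or.inr rfl), hwt, mul_mem (hle _ (Or.inr rfl)) hwt]
    exact (mem_centralizer_singleton_iff.1 (hall hz₁)).symm
  have three : ∀ x ∈ Z0 T, x = 1 ∨ x = z ∨ x = c ∨ x = t * c * t⁻¹ := by
    intro x hx
    have hm := LocalBasics.conj_mem_of_le_normalizer (T_norm_Z0 T) ht hc.1
    have hm1 : t * c * t⁻¹ ≠ 1 := fun e => hc1 (conj_eq_one_iff.1 e)
    have hmz : t * c * t⁻¹ ≠ z := fun e => hzc.symm (by
      have h1 : t * c * t⁻¹ = t * z * t⁻¹ := by rw [e, hfix ht, mul_inv_cancel_right]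
      exact mul_left_cancel (mul_right_cancel h1))
    rcases four x hx with rfl | rfl | rfl | rfl
    · exact Or.inl rfl
    · exact Or.inr (Or.inr (Or.inl rfl))
    all_goals
      rcases four z hzZ with q | q | q | q <;> rcases four _ hm with q' | q' | q' | q'
      all_goals first
        | exact absurd q hz1
        | exact absurd q hzc
        | exact absurd q' hm1
        | exact absurd q' hct
        | exact absurd (q'.trans q.symm) hmz
        | exact Or.inr (Or.inl q.symm)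
        | exact Or.inr (Or.inr (Or.inr q'.symm))
  -- `σ` fixes `z`
  have hσz : σ * z * σ⁻¹ = z := by
    rcases three _ (LocalBasics.conj_mem_of_le_normalizer le_rfl (norm_J_Z0 T hσ) hzZ) with
      q | q | q | q
    · exact absurd (conj_eq_one_iff.1 q) hz1
    · exact q
    · exact absurd (q ▸ hc : σ * z * σ⁻¹ ∈ Cz T K) (nconj σ)
    · exfalso
      refine nconj (t⁻¹ * σ) ?_
      rw [show t⁻¹ * σ * z * (t⁻¹ * σ)⁻¹ = t⁻¹ * (σ * z * σ⁻¹) * t by group, q,
        show t⁻¹ * (t * c * t⁻¹) * t = c by group]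
      exact hc
  -- so `σ` or `t σ` fixes everything
  have key : ∀ x : G, x * z * x⁻¹ = z → x * c * x⁻¹ = c → x ∈ Lstar T K := by
    intro x hxz hxc
    refine hN (hcent x fun a ha => mul_inv_eq_iff_eq_mul.1 ?_)
    have hC : ({z, c} : Set G) ⊆ centralizer ({x} : Set G) := by
      rintro b (rfl | rfl) <;>
        refine mem_centralizer_singleton_iff.2 ?_
      exacts [(mul_inv_eq_iff_eq_mul.1 hxz).symm, (mul_inv_eq_iff_eq_mul.1 hxc).symm]
    have hzw : w ∈ centralizer ({x} : Set G) := by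
      rcases four z hzZ with q | q | q | q
      · exact absurd q hz1
      · exact absurd q hzc
      · exact q ▸ hC (Or.inl rfl)
      · have : w = c * z := by rw [q, ← mul_assoc, Z0_sq hc.1, one_mul]
        rw [this]
        exact mul_mem (hC (Or.inr rfl)) (hC (Or.inl rfl))
    refine mul_inv_eq_iff_eq_mul.2 ?_
    rcases four a ha with rfl | rfl | rfl | rfl
    · simp
    · exact (mem_centralizer_singleton_iff.1 (hC (Or.inr rfl))).symm
    · exact (mem_centralizer_singleton_iff.1 hzw).symm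
    · exact (mem_centralizer_singleton_iff.1
        (mul_mem (hC (Or.inr rfl)) hzw : c * w ∈ centralizer ({x} : Set G))).symm
  have hσc := LocalBasics.conj_mem_of_le_normalizer le_rfl (norm_J_Z0 T hσ) hc.1
  rcases three _ hσc with q | q | q | q
  · exact hc1 (conj_eq_one_iff.1 q)
  · exact hzc.symm (mul_left_cancel (mul_right_cancel (q.trans hσz.symm)))
  · exact hσL (key σ hσz q)
  · refine hσL ?_
    have h1 : t⁻¹ * σ ∈ Lstar T K := by
      refine key _ ?_ ?_
      · rw [show t⁻¹ * σ * z * (t⁻¹ * σ)⁻¹ = t⁻¹ * (σ * z * σ⁻¹) * t by group, hσz,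
          mul_assoc, ← hfix ht, inv_mul_cancel_left]
      · rw [show t⁻¹ * σ * c * (t⁻¹ * σ)⁻¹ = t⁻¹ * (σ * c * σ⁻¹) * t by group, q]
        group
    simpa using mul_mem (hN (le_normalizer ht)) h1

/-- Inside a component's overgroup there is a second component. -/
theorem exists_duo (hc : Cfsg.IsCharacteristicTwoType G)
    (hN : ∀ N : Subgroup G, Cfsg.IsTwoLocal N → Group.IsSolvable ↥N)
    (hZ : ∀ S : Sylow 2 G, centralizer (Cfsg.omegaCenterOf (S : Subgroup G) : Set G) ≤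
      normalizer ((S : Subgroup G) : Set G))
    (hO : Cfsg.pCore 2 G = ⊥) (r : Rooted T K) (h : Std T (Lstar T K)) :
    ∃ K', Duo T K K' := by
  classical
  have : Fact (Nat.Prime 2) := ⟨Nat.prime_two⟩
  obtain ⟨S, hS⟩ := r.tp.exists_le_sylow
  rcases hS.eq_or_lt with hST | hlt
  swap
  · obtain ⟨g, -, hgN, hgL⟩ := exists_outside h S.2 hlt
    exact ⟨_, duo_of_conj r h hgN hgL⟩
  by_cases hNT : normalizer (T : Set G) ≤ Lstar T K
  swap
  · obtain ⟨g, hgN, hgL⟩ := SetLike.not_le_iff_exists.1 hNT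
    exact ⟨_, duo_of_conj r h hgN hgL⟩
  set L := Lstar T K with hLdef
  have hNJ := normalizer_J_le_Lstar r h S hST.symm hNT
  have hMJ : normalizer (Cfsg.thompsonSubgroupOf 2 (S : Subgroup G) : Set G) ≤ L := by
    rw [← hST]; exact hNJ
  obtain ⟨w, hwZ, hwW, hw1, -, -, -⟩ := exists_w r
  have hKL : K ≤ L := le_sup_left.trans (KJ_le_Lstar r)
  obtain ⟨t₀, v₀, k₀, -, hk₀, hl, -, -⟩ := comp_line h r.comp hKL
  have hWV : Cfsg.wOf K ≤ Vq L := by
    rw [comp_wOf h r.comp hKL hk₀ hl]; exact map_subtype_le _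
  have hne : (Cfsg.straddlingTwoSubgroups L).Nonempty := by
    rw [Set.nonempty_iff_ne_empty]
    intro hemp
    have hse := (Cfsg.Agent.S2947.result hc hN hZ hO S L r.isMax_star.1 hMJ).2 hemp
    refine h.mem.2.1 ?_
    rw [Offenders.thompsonOf_eq]
    refine sSup_le fun A hA a ha => ?_
    by_cases ha1 : a = 1
    · rw [ha1]; exact one_mem _
    have hw2 : orderOf w = 2 :=
      orderOf_eq_prime (by rw [pow_two]; exact Z0_sq hwZ) hw1
    have ha2 : orderOf a = 2 := orderOf_eq_prime (((Offenders.ea_iff A).1 hA.2.1).2 a ha) ha1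
    obtain ⟨g, hg⟩ := isConj_iff.1 (SignalizerStrongEmb.isConj_involutions hse hw2 ha2)
    have hgL : g ∈ L := SignalizerStrongEmb.mem_of_conj_mem hse hw2
      (h.T_le (Z0_le_T T hwZ)) (hg ▸ h.T_le (hA.1 ha))
    rw [← hg]
    exact V_le_Q L (LocalBasics.conj_mem_of_le_normalizer (le_norm_V L) hgL (hWV hwW))
  obtain ⟨T₂, hT₂T, hT₂⟩ := exists_max_le h.sylT hne
  have hNJ₂ := normalizer_J_le hMJ hT₂
  obtain ⟨-, -, -, X, hX, hT₂X, hXL⟩ := hT₂.1
  have hX' := std_of_le hc hN hZ hMJ hT₂ hX hXL hT₂X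
  obtain ⟨K₂, hK₂, hK₂X, hK₂L⟩ := exists_comp_outside hX' hNJ₂ hXL
  have r₂ : Rooted T₂ K₂ := rooted_of_max hc hN hZ hMJ hT₂ hK₂ hK₂L
  have hXL₂ : X ≤ Lstar T₂ K₂ := r₂.le_normalizer_star hX
    (sup_le hK₂X ((Offenders.thompsonOf_le T₂).trans hT₂X))
  have hL₂L : ¬ Lstar T₂ K₂ ≤ L := fun hle => hXL (hXL₂.trans hle)
  have h₂ : Std T₂ (Lstar T₂ K₂) :=
    std_of_le hc hN hZ hMJ hT₂ r₂.isMax_star.1 hL₂L (hT₂X.trans hXL₂)
  rcases hT₂T.eq_or_lt with e | hlt
  · subst e
    exact ⟨K₂, r, r₂, h, h₂, fun q => hL₂L q.ge⟩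
  exfalso
  -- `V = Ω₁(Z(O₂(L)))`
  set V := Vq L with hV
  have hVT : V ≤ T := (V_le_Q L).trans h.Q_le_T
  have hTV : T ≤ normalizer (V : Set G) := h.T_le.trans (le_norm_V L)
  by_cases hVT₂ : V ≤ T₂
  · obtain ⟨σ, hσT, hσN, hσL⟩ := exists_outside h₂ r.tp hlt
    have d := duo_of_conj r₂ h₂ hσN hσL
    obtain ⟨w₂, k₂, p⟩ := (Side.of_duo d).exists_pick
    obtain ⟨w₃, k₃, p'⟩ := (Side.of_duo d.symm).exists_pick
    have n : JCompShape.Near T₂ K₂ _ w₂ k₂ w₃ k₃ := ⟨d, p, p'⟩
    set K₃ := K₂.map (MulAut.conj σ).toMonoidHom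
    have hσV : ∀ x ∈ V, σ * x * σ⁻¹ ∈ V ∧ σ⁻¹ * x * σ⁻¹⁻¹ ∈ V := fun x hx =>
      ⟨LocalBasics.conj_mem_of_le_normalizer hTV hσT hx,
        LocalBasics.conj_mem_of_le_normalizer hTV (inv_mem hσT) hx⟩
    have hmap := map_Rt (K := K₂) hσN
    have hboth : V ≤ Rt T₂ K₂ ∧ V ≤ Rt T₂ K₃ := by
      have h1 : V ≤ Rt T₂ K₂ ∨ V ≤ Rt T₂ K₃ := by
        by_contra hno
        simp only [not_or] at hno
        obtain ⟨x, hx, hxR⟩ := SetLike.not_le_iff_exists.1 hno.1
        obtain ⟨y, hy, hyR⟩ := SetLike.not_le_iff_exists.1 hno.2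
        have hxR' := (n.mem_R_or (hVT₂ hx) (V_sq L hx)).resolve_left hxR
        have hyR' := (n.mem_R_or (hVT₂ hy) (V_sq L hy)).resolve_right hyR
        rcases n.mem_R_or (hVT₂ (mul_mem hx hy)) (V_sq L (mul_mem hx hy)) with q | q
        · exact hxR (by simpa using mul_mem q (inv_mem hyR'))
        · exact hyR (by simpa using mul_mem (inv_mem hxR') q)
      rcases h1 with h1 | h1
      · refine ⟨h1, fun x hx => ?_⟩
        rw [← hmap]
        exact ⟨_, h1 (hσV x hx).2, by simp [mul_assoc]⟩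
      · refine ⟨fun x hx => ?_, h1⟩
        have := h1 (hσV x hx).1
        rw [← hmap] at this
        obtain ⟨y, hy, e⟩ := this
        rwa [show x = y from ((MulAut.conj σ).injective e).symm]
    have hVZ : V ≤ Z0 T₂ := by
      intro x hx
      refine p.fixed_E0 n.u'_T n.u'_not (n.Rt_eq.le (hboth.1 hx)) ?_
      exact (hboth.2 hx).2 _ (p'.k_W p'.wW)
    have hW4 : Cfsg.wOf K = V ∧ V = Z0 T₂ := by
      have h4 : Nat.card ↥(Z0 T₂) ≤ 4 := by rw [card_Z0 r₂]; have := d.card_le; omega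
      have e1 := eq_of_le_of_card_ge (hWV.trans hVZ) (by rw [r.comp.2.2.2.2.1]; exact h4)
      exact ⟨le_antisymm hWV (hVZ.trans e1.ge), le_antisymm hVZ (e1.ge.trans hWV)⟩
    -- the centre of `T`
    have hZV : Cfsg.omegaCenterOf (S : Subgroup G) ≤ V := by
      refine (closure_le _).2 fun z hz => ?_
      have hzQ : z ∈ centralizer (Cfsg.pCoreOf 2 L : Set G) := fun q hq =>
        hz.1.2 q (hS (h.Q_le_T hq))
      exact Offenders.mem_omegaOne ⟨h.cent_Q hzQ, hzQ⟩ hz.2
    obtain ⟨z, hzS, hz1⟩ : ∃ z ∈ Cfsg.omegaCenterOf (S : Subgroup G), z ≠ 1 := by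
      by_contra hno
      push Not at hno
      exact not_le_sylow_normalizer r.comp r.tp S fun x _ => hZ S fun y hy => by
        rw [hno y hy]; simp
    have honly : ∀ y ∈ Cfsg.omegaCenterOf (S : Subgroup G), y = 1 ∨ y = z := by
      intro y hy
      by_contra hy'
      simp only [not_or] at hy'
      have hcenV : ∀ x ∈ V, ∀ j ∈ T, j * x = x * j := by
        intro x hx j hj
        have hcz : ∀ a ∈ Cfsg.omegaCenterOf (S : Subgroup G), j * a = a * j := fun a ha =>
          ((Offenders.omegaOne_le _).trans inf_le_right) ha j (hS hj)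
        rcases S2946.four_elems r.comp.2.2.2.2.1 r.comp.2.2.2.2.2 (hW4.1.ge (hZV hzS))
          (hW4.1.ge (hZV hy)) hz1 hy'.1 hy'.2 (hW4.1.ge hx) with rfl | rfl | rfl | rfl
        · simp
        · exact hcz _ hzS
        · exact hcz _ hy
        · exact hcz _ (mul_mem hzS hy)
      refine no_fixed r hwW hw1 fun a ha => ?_
      have hle : ⁅K, Cfsg.thompsonSubgroupOf 2 T⁆ ≤ centralizer (V : Set G) :=
        commutator_le.2 fun b hb j hj => by
          have hjc : j ∈ centralizer (V : Set G) := fun x hx =>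
            (hcenV x hx j (Offenders.thompsonOf_le T hj)).symm
          rw [commutatorElement_def]
          exact mul_mem (LocalBasics.conj_mem_of_le_normalizer
            (LocalBasics.le_normalizer_centralizer (hKL.trans (le_norm_V L))) hb hjc) (inv_mem hjc)
      exact (hle (r.comp.2.1.ge ha) w (hWV hwW)).symm
    obtain ⟨c, hc₂, hc1⟩ : ∃ c ∈ Cz T₂ K₂, c ≠ 1 := by
      by_contra hno
      push Not at hno
      have e := card_Z0 r₂
      rw [(eq_bot_iff_forall _).2 hno, card_bot, ← hW4.2, ← hW4.1, r.comp.2.2.2.2.1] at e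
      omega
    obtain ⟨g, -, hg⟩ := orbit r (hW4.1.ge (hZV hzS)) (hW4.1.ge (hW4.2.ge hc₂.1)) hz1 hc1
    exact not_conj_center r₂.tp r₂.comp hZ honly (hg.symm ▸ KJ_le_centralizer hc₂)
  · -- an element of `V` outside `T₂` normalising it
    have hlt' : T₂ < T₂ ⊔ V := lt_of_le_of_ne le_sup_left fun e => hVT₂ (e ▸ le_sup_right)
    have hp : IsPGroup 2 ↥(T₂ ⊔ V) := r.tp.to_le (sup_le hlt.le hVT)
    obtain ⟨x, ⟨hx, hxN⟩, hxT⟩ := SetLike.exists_of_lt (exists_norm_gt hp hlt')
    change x ∈ normalizer (T₂ : Set G) at hxN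
    change x ∈ ((T₂ ⊔ V : Subgroup G) : Set G) at hx
    rw [coe_mul_of_left_le_normalizer_right T₂ V (hlt.le.trans hTV)] at hx
    obtain ⟨a, ha, v, hv, rfl⟩ := hx
    have hvN : v ∈ normalizer (T₂ : Set G) := by
      have := mul_mem (inv_mem (le_normalizer ha)) hxN
      simpa using this
    have hvT₂ : v ∉ T₂ := fun e => hxT (mul_mem ha e)
    have hvL : v ∉ Lstar T₂ K₂ := fun e => hvT₂ ((inf_Lstar h₂ r.tp hlt.le).le ⟨hVT hv, e⟩)
    have d := duo_of_conj r₂ h₂ hvN hvL
    obtain ⟨w₂, k₂, p⟩ := (Side.of_duo d).exists_pick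
    obtain ⟨w₃, k₃, p'⟩ := (Side.of_duo d.symm).exists_pick
    have n : JCompShape.Near T₂ K₂ _ w₂ k₂ w₃ k₃ := ⟨d, p, p'⟩
    refine JCompAdjacent.Rt_ne d p p' ?_
    have hmap := map_Rt (K := K₂) hvN
    refine (eq_of_le_of_card_ge ?_ (card_map_of_injective
      (MulAut.conj v).injective).ge).symm.trans hmap
    rintro _ ⟨s, hs, rfl⟩
    show v * s * v⁻¹ ∈ Rt T₂ K₂
    set e := v * s * v⁻¹ * s⁻¹ with he
    have heT : e ∈ T₂ :=
      mul_mem (LocalBasics.conj_mem_of_le_normalizer le_rfl hvN hs.1) (inv_mem hs.1)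
    have heV : e ∈ V := by
      rw [he, show v * s * v⁻¹ * s⁻¹ = v * (s * v⁻¹ * s⁻¹) by group]
      exact mul_mem hv (LocalBasics.conj_mem_of_le_normalizer hTV (hlt.le hs.1) (inv_mem hv))
    have heR : e ∈ Rt T₂ K₂ := by
      rcases n.mem_R_or heT (V_sq L heV) with q | q
      · exact q
      · rw [← hmap] at q
        obtain ⟨y, hy, hye⟩ := q
        have hye' : v * y * v⁻¹ = e := hye
        have : y = e := by
          calc y = v⁻¹ * (v * y * v⁻¹) * v := by group
            _ = v⁻¹ * (e * v) := by rw [hye', mul_assoc]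
            _ = e := by rw [V_comm L heV hv, inv_mul_cancel_left]
        rwa [← this]
    have := mul_mem heR hs
    rwa [he, inv_mul_cancel_right] at this

end Cfsg.Agent.JCompSecond
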