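import Mathlib
import Cfsg.Prelude.Def_JComponents
import Cfsg.Agent.Lib.JCompSecond

/-!
Pairs of components attached to a maximal straddling subgroup.
-/

set_option autoImplicit false

namespace Cfsg.Agent.JCompMaxPair

open Subgroup Cfsg JCompBase JCompCore JCompMax JCompClass JCompDuo

variable {G : Type*} [Group G] [Finite G] {S : Sylow 2 G} {M T K : Subgroup G}

theorem of_outside (hc : Cfsg.IsCharacteristicTwoType G)
    (hN : ∀ N : Subgroup G, Cfsg.IsTwoLocal N → Group.IsSolvable ↥N)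
    (hZ : ∀ S : Sylow 2 G, centralizer (Cfsg.omegaCenterOf (S : Subgroup G) : Set G) ≤
      normalizer ((S : Subgroup G) : Set G))
    (hMJ : normalizer (Cfsg.thompsonSubgroupOf 2 (S : Subgroup G) : Set G) ≤ M)
    (hT : T ∈ Cfsg.maxStraddlingTwoSubgroups M) (hK : K ∈ Cfsg.jComponentsOutside M T) :
    Rooted T K ∧ Std T (Lstar T K) ∧ K ⊔ T ≤ Lstar T K := by
  obtain ⟨⟨hKc, -⟩, hKM, hP1⟩ := hK
  have r : Rooted T K := rooted_of_max hc hN hZ hMJ hT hKc hKM
  have hP : K ⊔ T ≤ Lstar T K :=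
    (LocalBasics.le_normalizer_pCoreOf 2 _).trans (r.le_normalizer_star
      ⟨_, LocalBasics.isPGroup_pCoreOf 2 _, hP1, rfl⟩
      ((sup_le_sup_left (Offenders.thompsonOf_le T) K).trans (LocalBasics.le_normalizer_pCoreOf 2 _)))
  exact ⟨r, std_of_le hc hN hZ hMJ hT r.star_twoLocal
    (fun hle => hKM ((le_sup_left.trans hP).trans hle)) (le_sup_right.trans hP), hP⟩

theorem exists_pair (hc : Cfsg.IsCharacteristicTwoType G)
    (hN : ∀ N : Subgroup G, Cfsg.IsTwoLocal N → Group.IsSolvable ↥N)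
    (hZ : ∀ S : Sylow 2 G, centralizer (Cfsg.omegaCenterOf (S : Subgroup G) : Set G) ≤
      normalizer ((S : Subgroup G) : Set G))
    (hO : Cfsg.pCore 2 G = ⊥)
    (hMJ : normalizer (Cfsg.thompsonSubgroupOf 2 (S : Subgroup G) : Set G) ≤ M)
    (hT : T ∈ Cfsg.maxStraddlingTwoSubgroups M) :
    ∃ K K' : Subgroup G, Duo T K K' := by
  obtain ⟨-, -, -, X, hX, hTX, hXM⟩ := hT.1
  obtain ⟨K, hK, hKX, hKM⟩ := exists_comp_outside (std_of_le hc hN hZ hMJ hT hX hXM hTX)
    (normalizer_J_le hMJ hT) hXM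
  have r : Rooted T K := rooted_of_max hc hN hZ hMJ hT hK hKM
  have hle : X ≤ Lstar T K :=
    r.le_normalizer_star hX (sup_le hKX ((Offenders.thompsonOf_le T).trans hTX))
  exact ⟨K, JCompSecond.exists_duo hc hN hZ hO r (std_of_le hc hN hZ hMJ hT r.star_twoLocal
    (fun h => hXM (hle.trans h)) (hTX.trans hle))⟩

end Cfsg.Agent.JCompMaxPair
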