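import Cfsg.Agent.Lib.JFiveSet4
import Cfsg.Agent.Lib.PSLCard

/-!
A finite group with an involution centraliser of order 192 as in `JFiveSet4` and small centralisers of the
remaining involutions is a non-split extension of an elementary abelian group of order eight by `SL(3, 2)`.
-/

set_option autoImplicit false
set_option linter.unusedSectionVars false

namespace Cfsg.Agent.JFiveCore4

open Subgroup
open scoped Pointwise
open Cfsg.Agent.JFiveSet4

variable {X : Type*} [Group X] [Finite X]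
variable {z p s t : X} {R : Subgroup X} (D : Cfg z R p s t)

set_option quotPrecheck false in
local notation "C" => centralizer ({z} : Set X)

/-- the subgroup of index two -/
def C0 (R : Subgroup X) (p : X) : Subgroup X := zpowers p ⊔ R

section C0
include D

theorem p_norm : zpowers p ≤ normalizer (R : Set X) :=
  zpowers_le.2 (D.R_norm D.p_mem)

theorem C0_le : C0 R p ≤ C := sup_le (zpowers_le.2 D.p_mem) D.R_le

theorem R_le_C0 : R ≤ C0 R p := le_sup_right

theorem p_mem_C0 : p ∈ C0 R p := mem_sup_left (mem_zpowers p)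

theorem mem_C0 {x : X} (hx : x ∈ C0 R p) : ∃ i : ℕ, i < 3 ∧ ∃ r ∈ R, x = p ^ i * r := by
  have : (x : X) ∈ (↑(zpowers p ⊔ R) : Set X) := hx
  rw [Subgroup.coe_mul_of_left_le_normalizer_right _ _ (p_norm D)] at this
  obtain ⟨a, ha, r, hr, rfl⟩ := Set.mem_mul.1 this
  obtain ⟨n, rfl⟩ := mem_powers_iff_mem_zpowers.2 ha
  exact ⟨n % 3, Nat.mod_lt _ (by norm_num), r, hr, by
    rw [← D.p_ord, pow_mod_orderOf]⟩

theorem p_pow_not_mem {i : ℕ} (hi : i = 1 ∨ i = 2) : p ^ i ∉ R := by
  intro h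
  have h1 : p ∈ R := by
    rcases hi with rfl | rfl
    · simpa using h
    · have : p = p ^ 2 * p ^ 2 := by
        rw [← pow_add, show 2 + 2 = orderOf p + 1 by rw [D.p_ord], pow_succ, pow_orderOf_eq_one, one_mul]
      rw [this]; exact mul_mem h h
  have hd := orderOf_dvd_natCard (⟨p, h1⟩ : ↥R)
  rw [← Subgroup.orderOf_coe, Subgroup.coe_mk, D.p_ord, D.cardR] at hd
  omega

theorem s_not : s ∉ C0 R p := by
  intro h
  obtain ⟨i, -, r, hr, e⟩ := mem_C0 D h
  have hcalc : s * p * s⁻¹ = p * (p⁻¹ * (p ^ i * (r * (p * r⁻¹ * p⁻¹)) * (p ^ i)⁻¹) * p) := by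
    rw [e]
    calc p ^ i * r * p * (p ^ i * r)⁻¹
        = p ^ i * (r * (p * r⁻¹ * p⁻¹)) * p * (p ^ i)⁻¹ := by group
      _ = p ^ i * (r * (p * r⁻¹ * p⁻¹)) * ((p ^ i)⁻¹ * p) := by
          rw [mul_assoc _ p, ((Commute.self_pow p i).inv_right).eq]
      _ = _ := by group
  have hm : p⁻¹ * (p ^ i * (r * (p * r⁻¹ * p⁻¹)) * (p ^ i)⁻¹) * p ∈ R := by
    have hn : ∀ y : X, y ∈ R → ∀ c ∈ C, c * y * c⁻¹ ∈ R := fun y hy c hc => conj_R D hc hy
    have := hn _ (hn _ (mul_mem hr (hn _ (inv_mem hr) p D.p_mem)) (p ^ i) (pow_mem D.p_mem i)) p⁻¹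
      (inv_mem D.p_mem)
    rwa [inv_inv] at this
  set w := p⁻¹ * (p ^ i * (r * (p * r⁻¹ * p⁻¹)) * (p ^ i)⁻¹) * p
  have h2 : p * w * p ∈ R := by rw [← hcalc]; exact D.s_inv
  apply p_pow_not_mem D (Or.inr rfl)
  have h3 : p ^ 2 = (p * w * p) * (p⁻¹ * w * p)⁻¹ := by rw [pow_two]; group
  rw [h3]
  exact mul_mem h2 (inv_mem (by simpa using conj_R D (inv_mem D.p_mem) hm))

theorem cardC0 : Nat.card (C0 R p) = 96 := by
  have hd : Nat.card (C0 R p) ∣ 192 := D.cardC ▸ Subgroup.card_dvd_of_le (C0_le D)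
  have h3 : 3 ∣ Nat.card (C0 R p) := by
    have := Subgroup.card_dvd_of_le (le_sup_left : zpowers p ≤ C0 R p)
    rwa [Nat.card_zpowers, D.p_ord] at this
  have h32 : 32 ∣ Nat.card (C0 R p) := D.cardR ▸ Subgroup.card_dvd_of_le (le_sup_right : R ≤ C0 R p)
  have hne : Nat.card (C0 R p) ≠ 192 := fun e =>
    s_not D ((Subgroup.eq_of_le_of_card_ge (C0_le D) (by have := D.cardC; omega)).symm ▸ D.s_mem)
  have hle := Nat.le_of_dvd (by norm_num) hd
  have : 96 ∣ Nat.card (C0 R p) := Nat.Coprime.mul_dvd_of_dvd_of_dvd (by norm_num) h3 h32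
  have := Nat.card_pos (α := C0 R p)
  omega

theorem C0_index : ((C0 R p).subgroupOf C).index = 2 := by
  have e := Subgroup.card_mul_index ((C0 R p).subgroupOf C)
  rw [Nat.card_congr (subgroupOfEquivOfLe (C0_le D)).toEquiv, cardC0 D, D.cardC] at e
  omega

theorem mul_out {x y : X} (hx : x ∈ C) (hy : y ∈ C) (hx0 : x ∉ C0 R p) (hy0 : y ∉ C0 R p) :
    x * y ∈ C0 R p := by
  have := Subgroup.mul_mem_iff_of_index_two (C0_index D) (a := (⟨x, hx⟩ : ↥C)) (b := ⟨y, hy⟩)
  simp only [Subgroup.mem_subgroupOf, Subgroup.coe_mul] at this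
  exact this.2 (iff_of_false hx0 hy0)

theorem conj_C0 {x c : X} (hx : x ∈ C) (hc : c ∈ C0 R p) : x * c * x⁻¹ ∈ C0 R p := by
  haveI := Subgroup.normal_of_index_eq_two (C0_index D)
  have := Subgroup.Normal.conj_mem (H := (C0 R p).subgroupOf C) inferInstance ⟨c, C0_le D hc⟩
    (by rw [Subgroup.mem_subgroupOf]; exact hc) ⟨x, hx⟩
  rw [Subgroup.mem_subgroupOf] at this
  exact this

theorem inv_C0 {x : X} (hx : x ∈ C) (h : x ∉ C0 R p) : ∃ r ∈ R, x * p * x⁻¹ = p⁻¹ * r := by
  have hs : x * s⁻¹ ∈ C0 R p := mul_out D hx (inv_mem D.s_mem) h (fun k => s_not D ((inv_mem_iff).1 k))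
  obtain ⟨i, -, r, hr, e⟩ := mem_C0 D hs
  have hx' : x = p ^ i * r * s := by rw [← e, inv_mul_cancel_right]
  refine ⟨p * (p ^ i * (r * (s * p * s⁻¹ * p) * (p⁻¹ * r⁻¹ * p)) * (p ^ i)⁻¹) * p⁻¹ , ?_, ?_⟩
  · refine conj_R D D.p_mem (conj_R D (pow_mem D.p_mem i) (mul_mem (mul_mem hr D.s_inv) ?_))
    simpa using conj_R D (inv_mem D.p_mem) (inv_mem hr)
  · rw [hx']
    calc p ^ i * r * s * p * (p ^ i * r * s)⁻¹
        = p ^ i * (r * (s * p * s⁻¹ * p) * (p⁻¹ * r⁻¹ * p)) * (p⁻¹ * (p ^ i)⁻¹) := by group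
      _ = p ^ i * (r * (s * p * s⁻¹ * p) * (p⁻¹ * r⁻¹ * p)) * ((p ^ i)⁻¹ * p⁻¹) := by
          rw [((Commute.self_pow p i).inv_inv).eq]
      _ = _ := by group

theorem inv_or (r : X) (hr : r * r = 1) : r⁻¹ = r := inv_eq_of_mul_eq_one_left hr

theorem mem_R_of_sq {x : X} (hx : x ∈ C0 R p) (h : x * x ∈ R) : x ∈ R := by
  obtain ⟨i, hi, r, hr, rfl⟩ := mem_C0 D hx
  have h2 : p ^ (2 * i) ∈ R := by
    have : p ^ (2 * i) = p ^ i * r * (p ^ i * r) * (r⁻¹ * ((p ^ i)⁻¹ * r⁻¹ * p ^ i)) := by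
      rw [two_mul, pow_add]; group
    rw [this]
    refine mul_mem h (mul_mem (inv_mem hr) ?_)
    simpa using conj_R D (inv_mem (pow_mem D.p_mem i)) (inv_mem hr)
  interval_cases i
  · simpa using hr
  · exact absurd h2 (p_pow_not_mem D (Or.inr rfl))
  · exact absurd (show p ^ 1 ∈ R by
      rwa [show 2 * 2 = orderOf p + 1 by rw [D.p_ord], pow_add, pow_orderOf_eq_one, one_mul] at h2)
      (p_pow_not_mem D (Or.inl rfl))

theorem zC : z ∈ C := D.R_le D.z_mem

theorem inv_mem_R {x : X} (hx : x ∈ C0 R p) (h : orderOf x = 2) : x ∈ R := by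
  refine mem_R_of_sq D hx ?_
  rw [← sq, ← h, pow_orderOf_eq_one]; exact one_mem _

end C0


/-- a non-central involution of `R` -/
def Good (z : X) (R : Subgroup X) (r : X) : Prop := r ∈ R ∧ r * r = 1 ∧ r ≠ 1 ∧ r ≠ z

section Six
include D

theorem good_t : Good z R t := by
  refine ⟨D.t_mem, by rw [← sq, ← D.t_ord]; exact pow_orderOf_eq_one t, ?_, fun e => D.t_not (e ▸ IsConj.refl z)⟩
  intro e; have := D.t_ord; rw [e, orderOf_one] at this; omega

theorem good_conj {r c : X} (h : Good z R r) (hc : c ∈ C) : Good z R (c * r * c⁻¹) := by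
  refine ⟨conj_R D hc h.1, ?_, fun e => h.2.2.1 (conj_eq_one_iff.1 e), fun e => h.2.2.2 ?_⟩
  · calc c * r * c⁻¹ * (c * r * c⁻¹) = c * (r * r) * c⁻¹ := by group
      _ = 1 := by rw [h.2.1]; group
  · rw [← conj_z D hc] at e
    simpa using e

theorem six_self (r : X) : r ∈ Six z p r := Set.mem_insert _ _

theorem six_C0 {r x c : X} (hr : r ∈ R) (hx : x ∈ Six z p r) (hc : c ∈ C0 R p) :
    c * x * c⁻¹ ∈ Six z p r := by
  obtain ⟨i, -, w, hw, rfl⟩ := mem_C0 D hc
  clear hc
  induction i with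
  | zero => simpa using six_R D hr hx hw
  | succ i ih =>
    have := six_p D ih
    convert this using 1
    rw [pow_succ']; group

theorem six_orb {r x : X} (hr : Good z R r) (hx : x ∈ Six z p r) :
    ∃ c ∈ C0 R p, c * r * c⁻¹ = x := by
  obtain ⟨-, w, hw, hwz⟩ := card_cent_R D hr.1 hr.2.2.1 hr.2.2.2
  have e1 : ∀ a : X, p * (a * z) * p⁻¹ = p * a * p⁻¹ * z := fun a => by
    calc p * (a * z) * p⁻¹ = p * a * p⁻¹ * (p * z * p⁻¹) := by group
      _ = _ := by rw [conj_z D D.p_mem]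
  have hp := p_mem_C0 D
  have hw' : w ∈ C0 R p := R_le_C0 D hw
  have k : ∀ c : X, p * c * r * (p * c)⁻¹ = p * (c * r * c⁻¹) * p⁻¹ := fun c => by group
  simp only [Six, Set.mem_insert_iff, Set.mem_singleton_iff] at hx
  rcases hx with rfl | rfl | rfl | rfl | rfl | rfl
  · exact ⟨1, one_mem _, by group⟩
  · exact ⟨w, hw', hwz⟩
  · exact ⟨p, hp, rfl⟩
  · exact ⟨p * w, mul_mem hp hw', by rw [k, hwz, e1]⟩
  · exact ⟨p * p, mul_mem hp hp, by group⟩
  · exact ⟨p * (p * w), mul_mem hp (mul_mem hp hw'), by rw [k, k, hwz, e1, e1]⟩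

theorem good_six {r x : X} (hr : Good z R r) (hx : x ∈ Six z p r) : Good z R x := by
  obtain ⟨c, hc, rfl⟩ := six_orb D hr hx
  exact good_conj D hr (C0_le D hc)

theorem six_eq {r x : X} (hr : Good z R r) (hx : x ∈ Six z p r) : Six z p x = Six z p r := by
  have hx' := good_six D hr hx
  have mono : ∀ a b : X, Good z R a → b ∈ Six z p a → Six z p b ⊆ Six z p a := by
    intro a b ha hb y hy
    obtain ⟨c, hc, rfl⟩ := six_orb D (good_six D ha hb) hy
    exact six_C0 D ha.1 hb hc
  refine Set.Subset.antisymm (mono r x hr hx) (mono x r hx' ?_)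
  obtain ⟨c, hc, rfl⟩ := six_orb D hr hx
  have := six_C0 D hx'.1 (six_self D (c * r * c⁻¹)) (inv_mem hc)
  convert this using 1
  group

theorem six_map {r x y : X} (hr : Good z R r) (hy : y ∈ C) (hx : x ∈ Six z p r) :
    y * x * y⁻¹ ∈ Six z p (y * r * y⁻¹) := by
  obtain ⟨c, hc, rfl⟩ := six_orb D hr hx
  have := six_C0 D (good_conj D hr hy).1 (six_self D (y * r * y⁻¹)) (conj_C0 D hy hc)
  convert this using 1
  group

theorem six_disj {a b x : X} (ha : Good z R a) (hb : Good z R b) (h : b ∉ Six z p a)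
    (hxa : x ∈ Six z p a) : x ∉ Six z p b := by
  intro hxb
  have := six_self D b
  rw [← six_eq D hb hxb, six_eq D ha hxa] at this
  exact h this

theorem six_not_conj {a x : X} (ha : Good z R a) (hna : ¬ IsConj z a) (hx : x ∈ Six z p a) :
    ¬ IsConj z x := by
  obtain ⟨c, -, rfl⟩ := six_orb D ha hx
  exact fun h => hna (h.trans (isConj_iff.2 ⟨c, rfl⟩).symm)

theorem orbit_bound {r : X} (hr : Good z R r) (S : Set X) (hS : S.ncard ≤ 8)
    (h : ∀ c ∈ C, c * r * c⁻¹ ∈ S) : IsConj z r := by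
  by_contra hn
  have ho : orderOf r = 2 := orderOf_eq_prime (by rw [sq, hr.2.1]) hr.2.2.1
  have h16 := D.big r ho hn
  have hsub : orb C r ⊆ S := by
    rintro y ⟨c, hc, rfl⟩; exact h c hc
  have h1 := Set.ncard_le_ncard hsub (Set.toFinite S)
  have h2 := orb_mul C r
  have h3 : Nat.card ↥(C ⊓ centralizer ({r} : Set X) : Subgroup X) ≤ 16 :=
    h16 ▸ Subgroup.card_le_of_le inf_le_right
  rw [D.cardC] at h2
  nlinarith

theorem u_good : Good z R (s * t * s⁻¹) := good_conj D (good_t D) D.s_mem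

theorem u_not_six : s * t * s⁻¹ ∉ Six z p t := by
  intro hu
  refine D.t_not (orbit_bound D (good_t D) (Six z p t) ((six_ncard_le t).trans (by norm_num)) fun c hc => ?_)
  by_cases h : c ∈ C0 R p
  · exact six_C0 D D.t_mem (six_self D t) h
  · have hcs := mul_out D hc (inv_mem D.s_mem) h (fun k => s_not D ((inv_mem_iff).1 k))
    have := six_C0 D D.t_mem hu hcs
    convert this using 1
    group

theorem out_t {y x : X} (hy : y ∈ C) (hy0 : y ∉ C0 R p) (hx : x ∈ Six z p t) :
    y * x * y⁻¹ ∈ Six z p (s * t * s⁻¹) := by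
  have hcs := mul_out D hy (inv_mem D.s_mem) hy0 (fun k => s_not D ((inv_mem_iff).1 k))
  have h1 := six_map D (good_t D) D.s_mem hx
  have := six_C0 D (u_good D).1 h1 hcs
  convert this using 1
  group

theorem out_u {y x : X} (hy : y ∈ C) (hy0 : y ∉ C0 R p) (hx : x ∈ Six z p (s * t * s⁻¹)) :
    y * x * y⁻¹ ∈ Six z p t := by
  have h1 := six_map D (u_good D) hy hx
  have h2 := six_C0 D D.t_mem (six_self D t) (mul_out D hy D.s_mem hy0 (s_not D))
  rw [show y * (s * t * s⁻¹) * y⁻¹ = y * s * t * (y * s)⁻¹ by group] at h1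
  rwa [six_eq D (good_t D) h2] at h1

theorem V_iff {r : X} (hr : Good z R r) (x : X) :
    x ∈ V R p r ↔ x = 1 ∨ x = z ∨ x ∈ Six z p r :=
  (inv_facts D hr.1 hr.2.1 hr.2.2.1 hr.2.2.2).2.1 x

theorem V_C0 {r x c : X} (hr : Good z R r) (hc : c ∈ C0 R p) (hx : x ∈ V R p r) :
    c * x * c⁻¹ ∈ V R p r := by
  rw [V_iff D hr] at hx ⊢
  rcases hx with rfl | rfl | hx
  · exact Or.inl (by group)
  · exact Or.inr (Or.inl (conj_z D (C0_le D hc)))
  · exact Or.inr (Or.inr (six_C0 D hr.1 hx hc))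

theorem V_le (r : X) : V R p r ≤ R := inf_le_left.trans inf_le_left

theorem V_mem_six {r x : X} (hr : Good z R r) (hx : x ∈ V R p r) (h1 : x ≠ 1) (hz : x ≠ z) :
    x ∈ Six z p r := ((V_iff D hr x).1 hx).resolve_left h1 |>.resolve_left hz

theorem six_mem_V {r x : X} (hr : Good z R r) (hx : x ∈ Six z p r) : x ∈ V R p r :=
  (V_iff D hr x).2 (Or.inr (Or.inr hx))

theorem z_mem_V {r : X} (hr : Good z R r) : z ∈ V R p r := (V_iff D hr z).2 (Or.inr (Or.inl rfl))

theorem V_inf {a b x : X} (ha : Good z R a) (hb : Good z R b) (h : b ∉ Six z p a)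
    (hxa : x ∈ V R p a) (hxb : x ∈ V R p b) : x = 1 ∨ x = z := by
  by_contra hh
  push Not at hh
  exact six_disj D ha hb h (V_mem_six D ha hxa hh.1 hh.2) (V_mem_six D hb hxb hh.1 hh.2)

theorem decomp {a b r : X} (ha : Good z R a) (hb : Good z R b) (h : b ∉ Six z p a) (hr : r ∈ R) :
    ∃ x ∈ V R p a, ∃ y ∈ V R p b, r = x * y := by
  have hn : V R p b ≤ normalizer (V R p a : Set X) := by
    intro c hc
    have hc' : c ∈ C0 R p := R_le_C0 D (V_le D b hc)
    refine mem_normalizer_iff.2 fun x => ⟨V_C0 D ha hc', fun hx => ?_⟩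
    have := V_C0 D ha (inv_mem hc') hx
    simpa [mul_assoc] using this
  set W := V R p b ⊔ V R p a with hW
  have hcoe : (↑W : Set X) = (V R p b : Set X) * (V R p a : Set X) :=
    Subgroup.coe_mul_of_left_le_normalizer_right _ _ hn
  have hWR : W = R := by
    have hle : W ≤ R := sup_le (V_le D b) (V_le D a)
    refine Subgroup.eq_of_le_of_card_ge hle ?_
    have hp : ∀ w ∈ W, p * w * p⁻¹ ∈ W := by
      intro w hw
      rw [← SetLike.mem_coe, hcoe] at hw
      obtain ⟨x, hx, y, hy, rfl⟩ := Set.mem_mul.1 hw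
      rw [show p * (x * y) * p⁻¹ = p * x * p⁻¹ * (p * y * p⁻¹) by group]
      exact mul_mem (mem_sup_left (V_C0 D hb (p_mem_C0 D) hx)) (mem_sup_right (V_C0 D ha (p_mem_C0 D) hy))
    have h8 := (inv_facts D ha.1 ha.2.1 ha.2.2.1 ha.2.2.2).2.2.1
    have hlt : V R p a < W := lt_of_le_of_ne le_sup_right fun e => by
      have : b ∈ V R p a := e ▸ mem_sup_left (six_mem_V D hb (six_self D b))
      exact h (V_mem_six D ha this hb.2.2.1 hb.2.2.2)
    have hgt : 8 < Nat.card W := by
      rcases (Subgroup.card_le_of_le hlt.le).lt_or_eq with k | k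
      · omega
      · exact absurd (Subgroup.eq_of_le_of_card_ge hlt.le k.ge) hlt.ne
    rcases card_invariant D hle (mem_sup_right (z_mem_V D ha)) hp with k | k | k <;> [omega; omega; skip]
    rw [D.cardR, k]
  have hr' : r⁻¹ ∈ (↑W : Set X) := by rw [hWR]; exact inv_mem hr
  rw [hcoe] at hr'
  obtain ⟨y, hy, x, hx, e⟩ := Set.mem_mul.1 hr'
  exact ⟨x⁻¹, inv_mem hx, y⁻¹, inv_mem hy, by rw [← mul_inv_rev, e, inv_inv]⟩

end Six

/-- the third invariant subgroup -/
structure Mid (z : X) (R : Subgroup X) (p s t e : X) : Prop where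
  good : Good z R e
  ne_t : e ∉ Six z p t
  ne_u : e ∉ Six z p (s * t * s⁻¹)
  comm : t * e = e * t
  cases : ∀ r, Good z R r → r ∈ Six z p t ∨ r ∈ Six z p (s * t * s⁻¹) ∨ r ∈ Six z p e
  conj : IsConj z e

include D in
theorem exists_mid : ∃ e, Mid z R p s t e := by
  set u := s * t * s⁻¹ with hu
  have gt := good_t D
  have gu : Good z R u := u_good D
  have htu := u_not_six D
  rw [← hu] at htu
  set W := V R p u ⊓ centralizer ({t} : Set X) with hW
  obtain ⟨-, -, hV8, -, hab⟩ := inv_facts D gu.1 gu.2.1 gu.2.2.1 gu.2.2.2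
  have habt := (inv_facts D gt.1 gt.2.1 gt.2.2.1 gt.2.2.2).2.2.2.2
  have hW4 : Nat.card W = 4 := by
    have h1 := orb_mul (V R p u) t
    rw [← hW, hV8] at h1
    have h2 : (orb (V R p u) t).ncard ≤ 2 := by
      refine (Set.ncard_le_ncard (t := {t, t * z}) ?_ (Set.toFinite _)).trans ?_
      · rintro y ⟨c, hc, rfl⟩; exact comm_cases D gt.1 (V_le D u hc)
      · exact (Set.ncard_insert_le _ _).trans (by rw [Set.ncard_singleton])
    have hd : Nat.card W ∣ 2 ^ 3 := by
      have := Subgroup.card_dvd_of_le (inf_le_left : W ≤ V R p u)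
      rwa [hV8] at this
    have hne : Nat.card W ≠ 8 := by
      intro e
      have hfix : W = V R p u := Subgroup.eq_of_le_of_card_ge inf_le_left (by omega)
      have hc : ∀ r' ∈ R, t * r' = r' * t := by
        intro r' hr'
        obtain ⟨x, hx, y, hy, rfl⟩ := decomp D gt gu htu hr'
        have h1 := habt t (six_mem_V D gt (six_self D t)) x hx
        have h2 : y * t = t * y := mem_centralizer_singleton_iff.1 (hfix ▸ hy : y ∈ W).2
        rw [← mul_assoc, h1, mul_assoc, ← h2, mul_assoc]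
      exact (D.cen t gt.1 hc).elim gt.2.2.1 gt.2.2.2
    obtain ⟨j, hj, e⟩ := (Nat.dvd_prime_pow Nat.prime_two).1 hd
    rw [e] at h1 hne ⊢
    interval_cases j <;> omega
  have hzW : z ∈ W := ⟨z_mem_V D gu, mem_centralizer_singleton_iff.2 (zR D gt.1).symm⟩
  obtain ⟨b0, hb0, hb1, hbz⟩ : ∃ b ∈ W, b ≠ 1 ∧ b ≠ z := by
    by_contra h
    push Not at h
    have hsub : (W : Set X) ⊆ {1, z} := fun x hx => (em (x = 1)).elim Or.inl fun k => Or.inr (h x hx k)
    have := Set.ncard_le_ncard hsub (Set.toFinite _)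
    rw [← Nat.card_coe_set_eq, SetLike.coe_sort_coe, hW4, Set.ncard_pair (z_ne D).symm] at this
    omega
  have hb6 : b0 ∈ Six z p u := V_mem_six D gu hb0.1 hb1 hbz
  have gb := good_six D gu hb6
  have hWset : ∀ b ∈ W, b = 1 ∨ b = z ∨ b = b0 ∨ b = b0 * z := by
    have hsub : ({1, z, b0, b0 * z} : Set X) ⊆ (W : Set X) := by
      rintro x (rfl | rfl | rfl | rfl)
      · exact one_mem _
      · exact hzW
      · exact hb0
      · exact mul_mem hb0 hzW
    have hcard : ({1, z, b0, b0 * z} : Set X).ncard = 4 := by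
      have z1 := z_ne D
      have n1 : b0 * z ≠ 1 := fun e => hbz (by
        rw [← inv_eq_of_mul_eq_one_left e, inv_eq_of_mul_eq_one_left (zz D)])
      have n2 : b0 * z ≠ z := fun e => hb1 (by simpa using e)
      have n3 : b0 * z ≠ b0 := fun e => z1 (by simpa using e)
      rw [Set.ncard_insert_of_notMem (by simp [z1.symm, Ne.symm hb1, Ne.symm n1]) (Set.toFinite _),
        Set.ncard_insert_of_notMem (by simp [Ne.symm hbz, Ne.symm n2]) (Set.toFinite _),
        Set.ncard_pair n3.symm]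
    intro b hb
    have hh := Set.eq_of_subset_of_ncard_le hsub
      (by rw [hcard, ← Nat.card_coe_set_eq, SetLike.coe_sort_coe, hW4]) (Set.toFinite _)
    have : b ∈ ({1, z, b0, b0 * z} : Set X) := hh ▸ hb
    simpa using this
  set e := t * b0 with he
  have htb : t * b0 = b0 * t := (mem_centralizer_singleton_iff.1 hb0.2).symm
  have gtb : ∀ x, x ∈ Six z p t → x ∉ Six z p u := fun x hx => six_disj D gt gu htu hx
  have ge : Good z R e := by
    refine ⟨mul_mem gt.1 gb.1, ?_, fun k => ?_, fun k => ?_⟩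
    · rw [he]
      calc t * b0 * (t * b0) = t * (b0 * t) * b0 := by group
        _ = t * (t * b0) * b0 := by rw [htb]
        _ = t * t * (b0 * b0) := by group
        _ = 1 := by rw [gt.2.1, gb.2.1, mul_one]
    · have : t = b0 := (eq_inv_of_mul_eq_one_left k).trans (inv_or D b0 gb.2.1)
      exact gtb t (six_self D t) (this ▸ hb6)
    · have h' : b0 = t * z := by rw [← k, he, ← mul_assoc, gt.2.1, one_mul]
      exact gtb (t * z) (Set.mem_insert_of_mem _ (Set.mem_insert _ _)) (h' ▸ hb6)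
  have hnet : e ∉ Six z p t := fun k => by
    have h1 : b0 ∈ V R p t := by
      have : b0 = t * e := by rw [he, ← mul_assoc, gt.2.1, one_mul]
      rw [this]; exact mul_mem (six_mem_V D gt (six_self D t)) (six_mem_V D gt k)
    exact (V_inf D gt gu htu h1 hb0.1).elim hb1 hbz
  have hneu : e ∉ Six z p u := fun k => by
    have h1 : t ∈ V R p u := by
      have : t = e * b0 := by rw [he, mul_assoc, gb.2.1, mul_one]
      rw [this]; exact mul_mem (six_mem_V D gu k) hb0.1
    exact gtb t (six_self D t) (V_mem_six D gu h1 gt.2.2.1 gt.2.2.2)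
  have ez : ∀ a, a ∈ Six z p e → a * z ∈ Six z p e := by
    intro a ha
    simp only [Six, Set.mem_insert_iff, Set.mem_singleton_iff] at ha ⊢
    rcases ha with rfl | rfl | rfl | rfl | rfl | rfl <;>
      simp only [mul_assoc _ z z, zz D, mul_one] <;> tauto
  let P : X → Prop := fun a => ∀ b ∈ Six z p u, a * b = b * a → a * b ∈ Six z p e
  have pt : P t := by
    intro b hb hc
    rcases hWset b ⟨six_mem_V D gu hb, mem_centralizer_singleton_iff.2 hc.symm⟩ with rfl | rfl | rfl | rfl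
    · exact absurd rfl (good_six D gu hb).2.2.1
    · exact absurd rfl (good_six D gu hb).2.2.2
    · exact six_self D e
    · rw [← mul_assoc]; exact ez _ (six_self D e)
  have pz : ∀ a ∈ R, P a → P (a * z) := by
    intro a ha h b hb hc
    have hbR := six_mem_R D gu.1 hb
    have e1 : a * z * b = a * b * z := by rw [mul_assoc, ← zR D hbR, mul_assoc]
    rw [e1] at hc ⊢
    refine ez _ (h b hb ?_)
    rw [← mul_assoc b a z] at hc
    exact mul_right_cancel hc
  have pp' : ∀ a, P a → P (p * a * p⁻¹) := by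
    intro a h b hb hc
    have hb' := six_C0 D gu.1 hb (inv_mem (p_mem_C0 D))
    have hc' : a * (p⁻¹ * b * p⁻¹⁻¹) = p⁻¹ * b * p⁻¹⁻¹ * a := by
      calc a * (p⁻¹ * b * p⁻¹⁻¹) = p⁻¹ * (p * a * p⁻¹ * b) * p := by group
        _ = p⁻¹ * (b * (p * a * p⁻¹)) * p := by rw [hc]
        _ = _ := by group
    have := six_p D (h _ hb' hc')
    convert this using 1
    group
  have hcases : ∀ r, Good z R r → r ∈ Six z p t ∨ r ∈ Six z p u ∨ r ∈ Six z p e := by
    intro r hr
    obtain ⟨x, hx, y, hy, rfl⟩ := decomp D gt gu htu hr.1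
    rcases (V_iff D gt x).1 hx with rfl | rfl | hx6
    · right; left; rw [one_mul] at hr ⊢; exact V_mem_six D gu hy hr.2.2.1 hr.2.2.2
    · right; left; exact V_mem_six D gu (mul_mem (z_mem_V D gu) hy) hr.2.2.1 hr.2.2.2
    rcases (V_iff D gu y).1 hy with rfl | rfl | hy6
    · left; rwa [mul_one]
    · left; exact V_mem_six D gt (mul_mem hx (z_mem_V D gt)) hr.2.2.1 hr.2.2.2
    right; right
    have hc : x * y = y * x := by
      have := eq_inv_of_mul_eq_one_left hr.2.1
      rwa [mul_inv_rev, inv_or D _ (good_six D gu hy6).2.1, inv_or D _ (good_six D gt hx6).2.1] at this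
    have hP : P x := by
      have h2 := p_conj_mem D gt.1
      simp only [Six, Set.mem_insert_iff, Set.mem_singleton_iff] at hx6
      rcases hx6 with rfl | rfl | rfl | rfl | rfl | rfl
      · exact pt
      · exact pz _ gt.1 pt
      · exact pp' _ pt
      · exact pz _ h2 (pp' _ pt)
      · exact pp' _ (pp' _ pt)
      · exact pz _ (p_conj_mem D h2) (pp' _ (pp' _ pt))
    exact hP y hy6 hc
  refine ⟨e, ge, hnet, hneu, ?_, hcases,
    orbit_bound D ge (Six z p e) ((six_ncard_le e).trans (by norm_num)) fun c hc => ?_⟩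
  · rw [he]
    calc t * (t * b0) = t * (b0 * t) := by rw [htb]
      _ = _ := by group
  · rcases hcases _ (good_conj D ge hc) with k | k | k
    · exfalso
      by_cases h : c ∈ C0 R p
      · have := six_C0 D gt.1 k (inv_mem h)
        exact hnet (by convert this using 1; group)
      · have := out_t D (inv_mem hc) (fun q => h ((inv_mem_iff).1 q)) k
        exact hneu (by convert this using 1; group)
    · exfalso
      by_cases h : c ∈ C0 R p
      · have := six_C0 D gu.1 k (inv_mem h)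
        exact hneu (by convert this using 1; group)
      · have := out_u D (inv_mem hc) (fun q => h ((inv_mem_iff).1 q)) k
        exact hnet (by convert this using 1; group)
    · exact k


section Outer0
include D

theorem zmove {a b : X} (h : a * z = b) : a = b * z := by rw [← h, mul_assoc, zz D, mul_one]

end Outer0

section Outer
variable {e : X} (M : Mid z R p s t e)
include D M

theorem conj_iff {r : X} (hr : Good z R r) : IsConj z r ↔ r ∈ Six z p e := by
  constructor
  · intro h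
    rcases M.cases r hr with k | k | k
    · exact absurd h (six_not_conj D (good_t D) D.t_not k)
    · exact absurd h (six_not_conj D (u_good D)
        (fun k => D.t_not (k.trans (isConj_iff.2 ⟨s, rfl⟩).symm)) k)
    · exact k
  · intro h
    obtain ⟨c, -, rfl⟩ := six_orb D M.good h
    exact M.conj.trans (isConj_iff.2 ⟨c, rfl⟩)

theorem six_e_C {x c : X} (hc : c ∈ C) (hx : x ∈ Six z p e) : c * x * c⁻¹ ∈ Six z p e :=
  (conj_iff D M (good_conj D (good_six D M.good hx) hc)).1
    (((conj_iff D M (good_six D M.good hx)).2 hx).trans (isConj_iff.2 ⟨c, rfl⟩))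

theorem A1_C {a c : X} (hc : c ∈ C) (ha : a ∈ V R p e) : c * a * c⁻¹ ∈ V R p e := by
  rw [V_iff D M.good] at ha ⊢
  rcases ha with rfl | rfl | ha
  · exact Or.inl (by group)
  · exact Or.inr (Or.inl (conj_z D hc))
  · exact Or.inr (Or.inr (six_e_C D M hc ha))

theorem A1_conj {a : X} (ha : a ∈ V R p e) (h1 : a ≠ 1) : IsConj z a := by
  rcases (V_iff D M.good a).1 ha with rfl | rfl | k
  · exact absurd rfl h1
  · exact IsConj.refl _
  · exact (conj_iff D M (good_six D M.good k)).2 k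

theorem R_conj_mem {a : X} (ha : a ∈ R) (h2 : a * a = 1) (hc : IsConj z a) : a ∈ V R p e := by
  by_cases hz : a = z
  · exact hz ▸ z_mem_V D M.good
  · refine six_mem_V D M.good ((conj_iff D M ⟨ha, h2, ?_, hz⟩).1 hc)
    rintro rfl
    exact z_ne D (isConj_one_left.1 hc)

theorem fix_classes {x : X} (hx : x ∈ C) (h : ∀ a ∈ V R p e, x * a * x⁻¹ = a ∨ x * a * x⁻¹ = a * z) :
    x ∈ R := by
  have he := M.good
  have heV := six_mem_V D he (six_self D e)
  have ez : ∀ a : X, p * (a * z) * p⁻¹ = p * a * p⁻¹ * z := fun a => by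
    calc p * (a * z) * p⁻¹ = p * a * p⁻¹ * (p * z * p⁻¹) := by group
      _ = _ := by rw [conj_z D D.p_mem]
  by_cases h0 : x ∈ C0 R p
  · obtain ⟨i, hi, r, hr, rfl⟩ := mem_C0 D h0
    interval_cases i
    · simpa using hr
    all_goals exfalso
    · have h1 := h _ heV
      have h2 : r * e * r⁻¹ = e ∨ r * e * r⁻¹ = e * z := comm_cases D he.1 hr
      rw [pow_one, show p * r * e * (p * r)⁻¹ = p * (r * e * r⁻¹) * p⁻¹ by group] at h1
      refine (p_class D he.1 ?_).elim he.2.2.1 he.2.2.2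
      rcases h2 with k | k <;> rw [k] at h1
      · exact h1
      · rw [ez] at h1
        rcases h1 with k' | k'
        · exact Or.inr (zmove D k')
        · exact Or.inl (mul_right_cancel k')
    · have h1 := h _ heV
      have h2 : r * e * r⁻¹ = e ∨ r * e * r⁻¹ = e * z := comm_cases D he.1 hr
      rw [show p ^ 2 * r * e * (p ^ 2 * r)⁻¹ = p * (p * (r * e * r⁻¹) * p⁻¹) * p⁻¹ by
        rw [pow_two]; group] at h1
      have h3 := p_conj_three D e
      refine (p_class D he.1 ?_).elim he.2.2.1 he.2.2.2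
      rcases h2 with k | k <;> rw [k] at h1
      · rcases h1 with k' | k' <;> rw [k'] at h3
        · exact Or.inl h3
        · rw [ez] at h3
          exact Or.inr (zmove D h3)
      · rw [ez, ez] at h1
        rcases h1 with k' | k'
        · have k2 : p * (p * e * p⁻¹) * p⁻¹ = e * z := zmove D k'
          rw [k2, ez] at h3
          exact Or.inr (zmove D h3)
        · rw [mul_right_cancel k'] at h3
          exact Or.inl h3
  · exfalso
    obtain ⟨r0, hr0, hxp⟩ := inv_C0 D hx h0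
    set f := p⁻¹ * e * p with hf
    have hfR : f ∈ R := by simpa [hf] using conj_R D (inv_mem D.p_mem) he.1
    have hef : p * f * p⁻¹ = e := by rw [hf]; group
    have h1 := h _ (six_mem_V D he (six_p D (six_self D e)))
    have h2 := h _ heV
    have hr : ∀ a ∈ R, r0 * a * r0⁻¹ = a ∨ r0 * a * r0⁻¹ = a * z := fun a ha => comm_cases D ha hr0
    have e2 : x * (p * e * p⁻¹) * x⁻¹ = p⁻¹ * (r0 * (x * e * x⁻¹) * r0⁻¹) * p := by
      calc x * (p * e * p⁻¹) * x⁻¹ = x * p * x⁻¹ * (x * e * x⁻¹) * (x * p * x⁻¹)⁻¹ := by group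
        _ = _ := by rw [hxp]; group
    have k : x * (p * e * p⁻¹) * x⁻¹ = f ∨ x * (p * e * p⁻¹) * x⁻¹ = f * z := by
      have hz' : ∀ a : X, p⁻¹ * (a * z) * p = p⁻¹ * a * p * z := fun a => by
        calc p⁻¹ * (a * z) * p = p⁻¹ * a * (z * p) := by group
          _ = p⁻¹ * a * (p * z) := by rw [z_comm D D.p_mem]
          _ = _ := by group
      rw [e2]
      rcases h2 with k | k <;> rw [k]
      · rcases hr e he.1 with l | l <;> rw [l]
        · exact Or.inl hf.symm
        · exact Or.inr (hz' e)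
      · rcases hr (e * z) (mul_mem he.1 D.z_mem) with l | l <;> rw [l]
        · exact Or.inr (hz' e)
        · rw [mul_assoc e z z, zz D, mul_one]; exact Or.inl hf.symm
    have k3 : p * e * p⁻¹ = f ∨ p * e * p⁻¹ = f * z := by
      rcases h1 with l | l <;> rw [l] at k <;> rcases k with k | k
      · exact Or.inl k
      · exact Or.inr k
      · exact Or.inr (zmove D k)
      · exact Or.inl (mul_right_cancel k)
    have hfne : f ≠ 1 ∧ f ≠ z := by
      constructor <;> intro q <;> rw [q] at hef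
      · exact he.2.2.1 (by rw [← hef]; group)
      · exact he.2.2.2 (by rw [← hef, conj_z D D.p_mem])
    refine (p_class D hfR ?_).elim hfne.1 hfne.2
    have h3 := p_conj_three D f
    rw [hef] at h3 ⊢
    rcases k3 with l | l <;> rw [l] at h3
    · rw [hef] at h3; exact Or.inl h3
    · rw [ez, hef] at h3
      exact Or.inr (zmove D h3)

theorem cent_A1 {x : X} (hx : x ∈ C) (h : ∀ a ∈ V R p e, x * a = a * x) : x ∈ V R p e := by
  have hR : x ∈ R := fix_classes D M hx fun a ha => Or.inl (by rw [h a ha, mul_inv_cancel_right])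
  have heV := six_mem_V D M.good (six_self D e)
  refine ⟨⟨hR, mem_centralizer_singleton_iff.2 (h e heV)⟩, mem_centralizer_singleton_iff.2 (h _ ?_)⟩
  exact six_mem_V D M.good (six_p D (six_self D e))

omit D M in
theorem card_mul_le {H K L : Subgroup X} (hH : H ≤ L) (hK : K ≤ L) :
    Nat.card H * Nat.card K ≤ Nat.card ↥(K ⊓ H : Subgroup X) * Nat.card L := by
  have h1 := Subgroup.card_mul_index (K.subgroupOf H)
  have h2 := Subgroup.card_mul_index (K.subgroupOf L)
  have hle : K.relIndex H ≤ K.relIndex L :=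
    Subgroup.relIndex_le_of_le_right hH Subgroup.index_ne_zero_of_finite
  rw [Nat.card_congr (subgroupOfEquivOfLe hK).toEquiv] at h2
  rw [← Subgroup.inf_subgroupOf_right K H, Nat.card_congr (subgroupOfEquivOfLe (inf_le_right : K ⊓ H ≤ H)).toEquiv,
    Subgroup.inf_subgroupOf_right] at h1
  simp only [Subgroup.relIndex] at hle
  rw [← h1, ← h2]
  calc Nat.card ↥(K ⊓ H : Subgroup X) * (K.subgroupOf H).index * Nat.card K
      ≤ Nat.card ↥(K ⊓ H : Subgroup X) * (K.subgroupOf L).index * Nat.card K := by gcongr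
    _ = _ := by ring

omit M in
theorem out_inner {f x : X} (hf : f ∈ C) (hf0 : f ∉ C0 R p) (hx : x ∈ C0 R p) (h : x * f = f * x) :
    x ∈ R := by
  obtain ⟨r0, hr0, hfp⟩ := inv_C0 D hf hf0
  have case1 : ∀ r ∈ R, p * r * f = f * (p * r) → False := by
    intro r hr e
    apply p_pow_not_mem D (Or.inr rfl)
    have h1 : f * (p * r) * f⁻¹ = p⁻¹ * r0 * (f * r * f⁻¹) := by
      rw [← hfp]; group
    rw [← e, mul_inv_cancel_right] at h1
    have : p ^ 2 = r0 * (f * r * f⁻¹) * r⁻¹ := by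
      calc p ^ 2 = p * (p * r) * r⁻¹ := by rw [pow_two]; group
        _ = p * (p⁻¹ * r0 * (f * r * f⁻¹)) * r⁻¹ := by rw [h1]
        _ = _ := by group
    rw [this]
    exact mul_mem (mul_mem hr0 (conj_R D hf hr)) (inv_mem hr)
  obtain ⟨i, hi, r, hr, rfl⟩ := mem_C0 D hx
  interval_cases i
  · simpa using hr
  · exact (case1 r hr (by simpa using h)).elim
  · refine (case1 (p⁻¹ * p⁻¹ * r * p * p * r) (mul_mem ?_ hr) ?_).elim
    · have := conj_R D (inv_mem D.p_mem) (conj_R D (inv_mem D.p_mem) hr)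
      simpa [mul_assoc] using this
    · have e4 : p * (p⁻¹ * p⁻¹ * r * p * p * r) = p ^ 2 * r * (p ^ 2 * r) := by
        calc p * (p⁻¹ * p⁻¹ * r * p * p * r) = (p * p * p) * (p⁻¹ * r * p * p * r) * 1 := by
              rw [pp D]; group
          _ = _ := by rw [pow_two]; group
      rw [e4]
      exact (Commute.mul_left (h : Commute _ f) h).eq

theorem no_outer {f : X} (hf : f ∈ C) (hfR : f ∉ R) (ho : orderOf f = 2) : ¬ IsConj z f := by
  intro hcj
  have f0 : f ∉ C0 R p := fun h => hfR (inv_mem_R D h ho)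
  have ff : f * f = 1 := by rw [← sq, ← ho]; exact pow_orderOf_eq_one f
  have fi : f⁻¹ = f := inv_eq_of_mul_eq_one_left ff
  obtain ⟨g, hg⟩ := isConj_iff.1 hcj
  obtain ⟨r0, hr0, hfp⟩ := inv_C0 D hf f0
  let Fz : Subgroup X :=
    { carrier := {r | r ∈ R ∧ (f * r * f⁻¹ = r ∨ f * r * f⁻¹ = r * z)}
      one_mem' := ⟨one_mem _, Or.inl (by group)⟩
      mul_mem' := by
        rintro a b ⟨ha, ha'⟩ ⟨hb, hb'⟩
        refine ⟨mul_mem ha hb, ?_⟩
        rw [show f * (a * b) * f⁻¹ = f * a * f⁻¹ * (f * b * f⁻¹) by group]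
        rcases ha' with k | k <;> rcases hb' with l | l <;> rw [k, l]
        · exact Or.inl rfl
        · exact Or.inr (by group)
        · exact Or.inr (by rw [mul_assoc a z b, ← zR D hb, mul_assoc])
        · exact Or.inl (by rw [mul_assoc a z (b * z), ← mul_assoc z b z, ← zR D hb, mul_assoc b z z, zz D, mul_one])
      inv_mem' := by
        rintro a ⟨ha, ha'⟩
        refine ⟨inv_mem ha, ?_⟩
        rw [show f * a⁻¹ * f⁻¹ = (f * a * f⁻¹)⁻¹ by group]
        rcases ha' with k | k <;> rw [k]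
        · exact Or.inl rfl
        · exact Or.inr (by rw [zR D ha, mul_inv_rev, inv_eq_of_mul_eq_one_left (zz D)]) }
  have hFzR : Fz ≤ R := fun x hx => hx.1
  have hVt : ∀ x ∈ V R p t, (f * x * f⁻¹ = x ∨ f * x * f⁻¹ = x * z) → x = 1 ∨ x = z := by
    intro x hx hx'
    by_contra hh
    push Not at hh
    have h6 := V_mem_six D (good_t D) hx hh.1 hh.2
    have h7 := out_t D hf f0 h6
    refine six_disj D (good_t D) (u_good D) (u_not_six D) ?_ h7
    rcases hx' with k | k <;> rw [k]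
    · exact h6
    · refine V_mem_six D (good_t D) (mul_mem hx (z_mem_V D (good_t D))) (fun q => hh.2 ?_) (fun q => hh.1 ?_)
      · rw [eq_inv_of_mul_eq_one_left q, inv_eq_of_mul_eq_one_left (zz D)]
      · simpa using q
  have hFz : Nat.card Fz ≤ 8 := by
    have h1 := card_mul_le hFzR (V_le D (p := p) t)
    have h2 : Nat.card ↥(V R p t ⊓ Fz : Subgroup X) ≤ 2 := by
      rw [← SetLike.coe_sort_coe, Nat.card_coe_set_eq]
      exact (Set.ncard_le_ncard (t := {1, z}) (fun x hx => hVt x hx.1 hx.2.2) (Set.toFinite _)).trans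
        (by rw [Set.ncard_pair (z_ne D).symm])
    rw [(inv_facts D (good_t D).1 (good_t D).2.1 (good_t D).2.2.1 (good_t D).2.2.2).2.2.1, D.cardR] at h1
    nlinarith
  set CR := R ⊓ centralizer ({f} : Set X) with hCR
  have hCRF : CR ≤ Fz := fun x hx =>
    ⟨hx.1, Or.inl (by rw [← mem_centralizer_singleton_iff.1 hx.2, mul_inv_cancel_right])⟩
  set z' := g⁻¹ * z * g with hz'
  have hfz : f * z = z * f := z_comm D hf
  have z'C : z' ∈ C := by
    rw [mem_centralizer_singleton_iff]
    calc g⁻¹ * z * g * z = g⁻¹ * (z * (g * z * g⁻¹)) * g := by group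
      _ = g⁻¹ * ((g * z * g⁻¹) * z) * g := by rw [hg, hfz]
      _ = z * (g⁻¹ * z * g) := by group
  have z'c : IsConj z z' := isConj_iff.2 ⟨g⁻¹, by rw [hz', inv_inv]⟩
  have z'2 : z' * z' = 1 := by
    rw [hz']
    calc g⁻¹ * z * g * (g⁻¹ * z * g) = g⁻¹ * (z * z) * g := by group
      _ = 1 := by rw [zz D]; group
  have z'1 : z' ≠ 1 := fun e => z_ne D (by
    calc z = g * z' * g⁻¹ := by rw [hz']; group
      _ = 1 := by rw [e]; group)
  have z'z : z' ≠ z := fun e => hfR (by
    have : f = z := by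
      rw [← hg]
      calc g * z * g⁻¹ = g * z' * g⁻¹ := by rw [e]
        _ = z := by rw [hz']; group
    rw [this]; exact D.z_mem)
  have hmap : C ⊓ centralizer ({f} : Set X)
      = (centralizer ({z'} : Set X) ⊓ C).map (MulAut.conj g).toMonoidHom := by
    rw [Subgroup.map_inf _ _ _ (MulAut.conj g).injective, ← conj_centralizer, ← conj_centralizer, hg,
      show g * z' * g⁻¹ = z by rw [hz']; group]
  have hC16 : Nat.card ↥(C ⊓ centralizer ({f} : Set X) : Subgroup X) ≤ 16 := by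
    have h1 := card_mul_le (inf_le_left : C ⊓ centralizer ({f} : Set X) ≤ C) (C0_le D)
    have h2 : C0 R p ⊓ (C ⊓ centralizer ({f} : Set X)) ≤ Fz :=
      fun x hx => hCRF ⟨out_inner D hf f0 hx.1 (mem_centralizer_singleton_iff.1 hx.2.2), hx.2.2⟩
    have := (Subgroup.card_le_of_le h2).trans hFz
    rw [cardC0 D, D.cardC] at h1
    nlinarith
  have z'R : z' ∉ R := by
    intro h
    have h6 := (conj_iff D M ⟨h, z'2, z'1, z'z⟩).1 z'c
    have h1 := orb_mul C z'
    have h2 := Set.ncard_le_ncard (t := Six z p e) (s := orb C z')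
      (by rintro y ⟨c, hc, rfl⟩; exact six_e_C D M hc h6) (Set.toFinite _)
    have h3 := six_ncard_le (z := z) (p := p) e
    have h4 : Nat.card ↥(C ⊓ centralizer ({z'} : Set X) : Subgroup X) ≤ 16 := by
      rw [inf_comm, ← Subgroup.card_map_of_injective (f := (MulAut.conj g).toMonoidHom)
        (MulAut.conj g).injective, ← hmap]
      exact hC16
    rw [D.cardC] at h1
    nlinarith
  have z'0 : z' ∉ C0 R p := fun h => z'R (mem_R_of_sq D h (by rw [z'2]; exact one_mem _))
  have hsq : ∀ y ∈ C, y * z' = z' * y → y * y = 1 ∨ y * y = z := by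
    intro y hy hyz
    by_cases h : y ∈ C0 R p
    · exact D.sq y (out_inner D z'C z'0 h hyz)
    · have h1 := mul_out D hy z'C h z'0
      have h2 : y * z' * (y * z') = y * y := by
        calc y * z' * (y * z') = y * (z' * y) * z' := by group
          _ = y * y * (z' * z') := by rw [← hyz]; group
          _ = y * y := by rw [z'2, mul_one]
      rw [← h2]
      refine D.sq _ (out_inner D z'C z'0 h1 ?_)
      rw [hyz, mul_assoc, hyz]
  have hCR2 : ∀ r ∈ CR, r * r = 1 := by
    intro r hr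
    refine (D.sq r hr.1).resolve_right fun e2 => ?_
    have hrf := mem_centralizer_singleton_iff.1 hr.2
    have y1 : g⁻¹ * r * g ∈ C := by
      rw [mem_centralizer_singleton_iff]
      calc g⁻¹ * r * g * z = g⁻¹ * (r * (g * z * g⁻¹)) * g := by group
        _ = g⁻¹ * ((g * z * g⁻¹) * r) * g := by rw [hg, hrf]
        _ = z * (g⁻¹ * r * g) := by group
    have y2 : g⁻¹ * r * g * z' = z' * (g⁻¹ * r * g) := by
      calc g⁻¹ * r * g * z' = g⁻¹ * (r * z) * g := by rw [hz']; group
        _ = g⁻¹ * (z * r) * g := by rw [zR D hr.1]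
        _ = _ := by rw [hz']; group
    have y3 : g⁻¹ * r * g * (g⁻¹ * r * g) = z' := by
      calc g⁻¹ * r * g * (g⁻¹ * r * g) = g⁻¹ * (r * r) * g := by group
        _ = z' := by rw [e2]
    rcases hsq _ y1 y2 with k | k <;> rw [y3] at k
    · exact z'1 k
    · exact z'z k
  have hCRA : CR ≤ V R p e := by
    intro r hr
    rw [V_iff D M.good]
    by_cases r1 : r = 1
    · exact Or.inl r1
    by_cases rz : r = z
    · exact Or.inr (Or.inl rz)
    right; right
    have hrf : f * r * f⁻¹ = r := by rw [← mem_centralizer_singleton_iff.1 hr.2, mul_inv_cancel_right]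
    rcases M.cases r ⟨hr.1, hCR2 r hr, r1, rz⟩ with k | k | k
    · exact absurd (hrf ▸ out_t D hf f0 k) (six_disj D (good_t D) (u_good D) (u_not_six D) k)
    · exact absurd k (six_disj D (good_t D) (u_good D) (u_not_six D) (hrf ▸ out_u D hf f0 k))
    · exact k
  have hV8 := (inv_facts D M.good.1 M.good.2.1 M.good.2.2.1 M.good.2.2.2).2.2.1
  have hCR4 : Nat.card CR ≤ 4 := by
    have hd : Nat.card CR ∣ 2 ^ 3 := by have := Subgroup.card_dvd_of_le hCRA; rwa [hV8] at this
    have hne : Nat.card CR ≠ 8 := by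
      intro e8
      have he : CR = V R p e := Subgroup.eq_of_le_of_card_ge hCRA (by omega)
      refine hfR (fix_classes D M hf fun a ha => Or.inl ?_)
      rw [← mem_centralizer_singleton_iff.1 (he ▸ ha : a ∈ CR).2, mul_inv_cancel_right]
    obtain ⟨j, hj, e⟩ := (Nat.dvd_prime_pow Nat.prime_two).1 hd
    rw [e] at hne ⊢
    interval_cases j <;> omega
  set T : Set X := (fun r => f * r) '' {r | r ∈ R ∧ f * r * f⁻¹ = r⁻¹} with hT
  have hT8 : T.ncard ≤ 8 := by
    refine (Set.ncard_image_le (Set.toFinite _)).trans ((Set.ncard_le_ncard (t := (Fz : Set X)) ?_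
      (Set.toFinite _)).trans (by rwa [← Nat.card_coe_set_eq, SetLike.coe_sort_coe]))
    rintro r ⟨hr, e⟩
    refine ⟨hr, ?_⟩
    rw [e]
    rcases D.sq r hr with k | k
    · exact Or.inl (inv_eq_of_mul_eq_one_left k)
    · refine Or.inr (inv_eq_of_mul_eq_one_left ?_)
      rw [zR D hr, mul_assoc, k, zz D]
  have horb : orb R f = T := by
    refine Set.eq_of_subset_of_ncard_le ?_ ?_ (Set.toFinite _)
    · rintro y ⟨c, hc, rfl⟩
      refine ⟨f⁻¹ * c * f * c⁻¹, ⟨mul_mem ?_ (inv_mem hc), ?_⟩, by group⟩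
      · simpa using conj_R D (inv_mem hf) hc
      · rw [fi]
        calc f * (f * c * f * c⁻¹) * f = (f * f) * c * f * c⁻¹ * f := by group
          _ = c * f * c⁻¹ * f := by rw [ff, one_mul]
          _ = c * f⁻¹ * c⁻¹ * f⁻¹ := by rw [fi]
          _ = _ := by group
    · have := orb_mul R f
      rw [← hCR, D.cardR] at this
      nlinarith
  have hfR' : ∀ w : X, w * w = 1 → f * w ∈ R → IsConj z w := by
    intro w hw hfw
    have : w ∈ orb R f := by
      rw [horb]
      refine ⟨f * w, ⟨hfw, ?_⟩, by simp only; rw [← mul_assoc, ff, one_mul]⟩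
      rw [mul_inv_rev, fi, inv_or D w hw, ← mul_assoc, ff, one_mul]
    obtain ⟨c, -, e⟩ := this
    exact hcj.trans (isConj_iff.2 ⟨c, e⟩)
  have hall : ∀ w ∈ C, w ∉ R → w * w = 1 → IsConj z w := by
    intro w hw hwR hw2
    have w0 : w ∉ C0 R p := fun h => hwR (mem_R_of_sq D h (by rw [hw2]; exact one_mem _))
    have step : ∀ (v : X) (i : ℕ), (∃ r ∈ R, f * v = p ^ i * r) →
        ∃ r ∈ R, f * (p * v * p⁻¹) = p ^ (i + 1) * r := by
      rintro v i ⟨r, hr, e⟩
      have hfp' : f * p * f = p⁻¹ * r0 := by rw [← hfp, fi]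
      refine ⟨(p ^ i)⁻¹ * (p⁻¹ * (p⁻¹ * r0 * p) * p) * p ^ i * (p * r * p⁻¹),
        mul_mem ?_ (conj_R D D.p_mem hr), ?_⟩
      · have h1 := conj_R D (inv_mem (pow_mem D.p_mem i))
          (conj_R D (inv_mem D.p_mem) (conj_R D (inv_mem D.p_mem) hr0))
        simpa [mul_assoc] using h1
      · have hv : v = f * (p ^ i * r) := by rw [← e, ← mul_assoc, ff, one_mul]
        rw [hv]
        have e3 : p⁻¹ * r0 = p * p * r0 := by
          calc p⁻¹ * r0 = (p * p * p) * (p⁻¹ * r0) := by rw [pp D, one_mul]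
            _ = p * p * r0 := by group
        have e4 : p * r0 = (p⁻¹ * (p⁻¹ * r0 * p) * p) * p := by
          calc p * r0 = (p * p * p)⁻¹ * (p * r0) * (p * p * p) := by rw [pp D]; group
            _ = _ := by group
        have e5 : p * p ^ i = p ^ i * p := (Commute.self_pow p i).eq
        calc f * (p * (f * (p ^ i * r)) * p⁻¹) = (f * p * f) * (p ^ i * r) * p⁻¹ := by group
          _ = p * (p * r0) * (p ^ i * r) * p⁻¹ := by rw [hfp', e3]; group
          _ = p * (p⁻¹ * (p⁻¹ * r0 * p) * p) * (p * p ^ i) * r * p⁻¹ := by rw [e4]; group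
          _ = p * (p⁻¹ * (p⁻¹ * r0 * p) * p) * (p ^ i * p) * r * p⁻¹ := by rw [e5]
          _ = p * p ^ i * ((p ^ i)⁻¹ * (p⁻¹ * (p⁻¹ * r0 * p) * p) * p ^ i * (p * r * p⁻¹)) := by group
          _ = _ := by rw [pow_succ']
    have hfw : f * w ∈ C0 R p := mul_out D hf hw f0 w0
    obtain ⟨i, hi, r, hr, e⟩ := mem_C0 D hfw
    have h1 := step w i ⟨r, hr, e⟩
    have h2 := step _ _ h1
    have c2 : ∀ v : X, v * v = 1 → p * v * p⁻¹ * (p * v * p⁻¹) = 1 := fun v hv => by
      calc p * v * p⁻¹ * (p * v * p⁻¹) = p * (v * v) * p⁻¹ := by group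
        _ = 1 := by rw [hv]; group
    have hp3 : p ^ 3 = 1 := by rw [← D.p_ord, pow_orderOf_eq_one]
    interval_cases i
    · exact hfR' w hw2 (by rw [e, pow_zero, one_mul]; exact hr)
    · obtain ⟨r', hr', e'⟩ := h2
      rw [show 1 + 1 + 1 = 3 by rfl, hp3, one_mul] at e'
      exact ((hfR' _ (c2 _ (c2 _ hw2)) (e' ▸ hr'))).trans
        ((isConj_iff.2 ⟨p, rfl⟩).symm.trans (isConj_iff.2 ⟨p, rfl⟩).symm)
    · obtain ⟨r', hr', e'⟩ := h1
      rw [show 2 + 1 = 3 by rfl, hp3, one_mul] at e'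
      exact ((hfR' _ (c2 _ hw2) (e' ▸ hr'))).trans (isConj_iff.2 ⟨p, rfl⟩).symm
  set U : Set X := {v | IsConj t v}
  set K : Set X := {v | IsConj z v}
  set KC : Set X := {k | IsConj z k ∧ k ∈ C}
  have hUC : ∀ v ∈ C, IsConj t v → v ∈ Six z p t ∪ Six z p (s * t * s⁻¹) := by
    intro v hv hc
    have v2 : v * v = 1 := by
      obtain ⟨c, rfl⟩ := isConj_iff.1 hc
      calc c * t * c⁻¹ * (c * t * c⁻¹) = c * (t * t) * c⁻¹ := by group
        _ = 1 := by rw [(good_t D).2.1]; group
    have vnc : ¬ IsConj z v := fun h => D.t_not (h.trans hc.symm)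
    by_cases hvR : v ∈ R
    · rcases M.cases v ⟨hvR, v2, fun e => (good_t D).2.2.1 (isConj_one_left.1 (e ▸ hc)),
          fun e => vnc (e ▸ IsConj.refl z)⟩ with k | k | k
      · exact Or.inl k
      · exact Or.inr k
      · exact absurd ((conj_iff D M (good_six D M.good k)).2 k) vnc
    · exact absurd (hall v hv hvR v2) vnc
  have h12 : ∀ k ∈ KC, {v | IsConj t v ∧ v * k = k * v}.ncard ≤ 12 := by
    rintro k ⟨hk, -⟩
    obtain ⟨c, rfl⟩ := isConj_iff.1 hk
    refine (Set.ncard_le_ncard (t := (fun v => c * v * c⁻¹) '' (Six z p t ∪ Six z p (s * t * s⁻¹))) ?_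
      (Set.toFinite _)).trans ((Set.ncard_image_le (Set.toFinite _)).trans ?_)
    · rintro v ⟨hv, hvk⟩
      refine ⟨c⁻¹ * v * c, hUC _ (mem_centralizer_singleton_iff.2 ?_)
        (hv.trans (isConj_iff.2 ⟨c⁻¹, by group⟩)), by group⟩
      calc c⁻¹ * v * c * z = c⁻¹ * (v * (c * z * c⁻¹)) * c := by group
        _ = c⁻¹ * (c * z * c⁻¹ * v) * c := by rw [hvk]
        _ = z * (c⁻¹ * v * c) := by group
    · exact (Set.ncard_union_le _ _).trans
        (Nat.add_le_add (six_ncard_le t) (six_ncard_le (s * t * s⁻¹)))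
  have hcover : ∀ v, IsConj t v → ∃ k ∈ KC, v * k = k * v := by
    intro v hv
    have v2 : orderOf v = 2 := by
      obtain ⟨c, rfl⟩ := isConj_iff.1 hv
      rw [← MulAut.conj_apply, MulEquiv.orderOf_eq, D.t_ord]
    obtain ⟨x, hx, hzx, hvx⟩ := exists_common D.hz v2 (fun h => D.t_not (h.trans hv.symm))
    have hxC : x ∈ C := mem_centralizer_singleton_iff.2 hzx.symm
    by_cases hc : IsConj z x
    · exact ⟨x, ⟨hc, hxC⟩, hvx⟩
    refine ⟨z, ⟨IsConj.refl z, zC D⟩, mem_centralizer_singleton_iff.1 ?_⟩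
    have x2 : x * x = 1 := by rw [← sq, ← hx]; exact pow_orderOf_eq_one x
    have hxR : x ∈ R := by
      by_contra h; exact hc (hall x hxC h x2)
    have gx : Good z R x := ⟨hxR, x2, fun e => by rw [e, orderOf_one] at hx; omega,
      fun e => hc (e ▸ IsConj.refl z)⟩
    have hS : ∀ c ∈ C, c * x * c⁻¹ ∈ Six z p t ∪ Six z p (s * t * s⁻¹) := by
      intro c hc'
      rcases M.cases _ (good_conj D gx hc') with k | k | k
      · exact Or.inl k
      · exact Or.inr k
      · exact absurd (((conj_iff D M (good_six D M.good k)).2 k).trans (isConj_iff.2 ⟨c, rfl⟩).symm) hc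
    have h1 := orb_mul C x
    have h2 := (Set.ncard_le_ncard (s := orb C x) (by rintro y ⟨c, hc', rfl⟩; exact hS c hc')
      (Set.toFinite _)).trans ((Set.ncard_union_le _ _).trans
        (Nat.add_le_add (six_ncard_le (z := z) (p := p) t) (six_ncard_le (z := z) (p := p) (s * t * s⁻¹))))
    have h3 := D.big x hx hc
    have hle : centralizer ({x} : Set X) ≤ C := by
      have : C ⊓ centralizer ({x} : Set X) = centralizer ({x} : Set X) := by
        refine Subgroup.eq_of_le_of_card_ge inf_le_right ?_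
        rw [D.cardC] at h1
        nlinarith
      exact inf_eq_right.1 this
    exact hle (mem_centralizer_singleton_iff.2 hvx)
  have hUK : U.ncard = 12 * K.ncard := by
    have h1 := orb_mul ⊤ t
    have h2 := orb_mul ⊤ z
    rw [top_inf_eq, D.big t D.t_ord D.t_not] at h1
    rw [top_inf_eq, D.cardC] at h2
    have e1 : orb (⊤ : Subgroup X) t = U := by ext y; simp [orb, U, isConj_iff]
    have e2 : orb (⊤ : Subgroup X) z = K := by ext y; simp [orb, K, isConj_iff]
    rw [e1] at h1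
    rw [e2] at h2
    omega
  have hKle : KC.ncard ≤ K.ncard := Set.ncard_le_ncard (fun x hx => hx.1) (Set.toFinite _)
  classical
  let F : X → Finset X := fun k => (Set.toFinite {v | IsConj t v ∧ v * k = k * v}).toFinset
  let KF : Finset X := (Set.toFinite KC).toFinset
  have hzK : z ∈ KF := (Set.Finite.mem_toFinset _).2 ⟨IsConj.refl z, zC D⟩
  have heK : e ∈ KF.erase z := by
    rw [Finset.mem_erase]
    exact ⟨M.good.2.2.2, (Set.Finite.mem_toFinset _).2 ⟨M.conj, D.R_le M.good.1⟩⟩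
  have hsub : (Set.toFinite U).toFinset ⊆
      (F z ∪ F e) ∪ ((KF.erase z).erase e).biUnion F := by
    intro v hv
    simp only [Set.Finite.mem_toFinset, U, Set.mem_ofPred_eq] at hv
    obtain ⟨k, hk, hvk⟩ := hcover v hv
    simp only [Finset.mem_union, Finset.mem_biUnion, Finset.mem_erase]
    by_cases k1 : k = z
    · exact Or.inl (Or.inl ((Set.Finite.mem_toFinset _).2 ⟨hv, k1 ▸ hvk⟩))
    by_cases k2 : k = e
    · exact Or.inl (Or.inr ((Set.Finite.mem_toFinset _).2 ⟨hv, k2 ▸ hvk⟩))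
    · exact Or.inr ⟨k, ⟨k2, k1, (Set.Finite.mem_toFinset _).2 hk⟩, (Set.Finite.mem_toFinset _).2 ⟨hv, hvk⟩⟩
  have hF : ∀ k ∈ KF, (F k).card ≤ 12 := fun k hk => by
    rw [← Set.ncard_eq_toFinset_card]; exact h12 k ((Set.Finite.mem_toFinset _).1 hk)
  have htin : t ∈ F z ∩ F e := by
    exact Finset.mem_inter.2 ⟨(Set.Finite.mem_toFinset _).2 ⟨IsConj.refl t, zR D D.t_mem⟩,
      (Set.Finite.mem_toFinset _).2 ⟨IsConj.refl t, M.comm⟩⟩
  have c1 := (Finset.card_le_card hsub).trans ((Finset.card_union_le _ _).trans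
    (Nat.add_le_add le_rfl ((Finset.card_biUnion_le_card_mul _ _ 12 fun k hk =>
      hF k (Finset.mem_of_mem_erase (Finset.mem_of_mem_erase hk))))))
  have c2 := Finset.card_union_add_card_inter (F z) (F e)
  have c3 : 0 < (F z ∩ F e).card := Finset.card_pos.2 ⟨t, htin⟩
  have c4 := hF z hzK
  have c5 := hF e (Finset.mem_of_mem_erase heK)
  have c6 := Finset.card_erase_add_one hzK
  have c7 := Finset.card_erase_add_one heK
  rw [← Set.ncard_eq_toFinset_card, hUK] at c1
  have c8 : KF.card = KC.ncard := (Set.ncard_eq_toFinset_card _ _).symm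
  omega

end Outer


theorem eq_one_of_ne : ∀ c : ZMod 2, c ≠ 0 → c = 1 := by decide

/-- a group with a self-centralising normal subgroup `2³` and the right order has quotient `SL(3, 2)` -/
theorem sl_of_elementary (A : Subgroup X) [A.Normal] (hsq : ∀ a ∈ A, a * a = 1)
    (hA : Nat.card A = 8) (hX : Nat.card X = 1344) (hc : ∀ x : X, (∀ a ∈ A, x * a = a * x) → x ∈ A) :
    Nonempty (X ⧸ A ≃* Matrix.SpecialLinearGroup (Fin 3) (ZMod 2)) := by
  classical
  have hcomm : ∀ a ∈ A, ∀ b ∈ A, a * b = b * a := fun a ha b hb => by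
    calc a * b = (a * b)⁻¹ := (inv_eq_of_mul_eq_one_left (hsq _ (mul_mem ha hb))).symm
      _ = b⁻¹ * a⁻¹ := mul_inv_rev a b
      _ = b * a := by rw [inv_eq_of_mul_eq_one_left (hsq a ha), inv_eq_of_mul_eq_one_left (hsq b hb)]
  letI : CommGroup ↥A := { (inferInstance : Group ↥A) with
    mul_comm := fun a b => Subtype.ext (hcomm a a.2 b b.2) }
  letI : Module (ZMod 2) (Additive ↥A) :=
    AddCommGroup.zmodModule (n := 2) fun v => by
      rw [two_nsmul]
      exact congrArg Additive.ofMul (Subtype.ext (hsq (Additive.toMul v : ↥A) (Additive.toMul v).2) :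
        (Additive.toMul v) * (Additive.toMul v) = (1 : ↥A))
  haveI : Finite (Additive ↥A) := inferInstanceAs (Finite ↥A)
  haveI : Module.Finite (ZMod 2) (Additive ↥A) := Module.Finite.of_finite
  haveI : Fact (Nat.Prime 2) := ⟨Nat.prime_two⟩
  have hr : Module.finrank (ZMod 2) (Additive ↥A) = 3 := by
    have h := Module.natCard_eq_pow_finrank (K := ZMod 2) (V := Additive ↥A)
    rw [show Nat.card (Additive ↥A) = 8 from hA, Nat.card_zmod] at h
    exact Nat.pow_right_injective le_rfl (show 2 ^ _ = 2 ^ 3 by rw [← h])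
  let b := Module.finBasisOfFinrankEq (ZMod 2) (Additive ↥A) hr
  let cj : X → (Additive ↥A →+ Additive ↥A) := fun x =>
    MonoidHom.toAdditive (MonoidHom.mk' (fun a : ↥A =>
      (⟨x * a * x⁻¹, Subgroup.Normal.conj_mem inferInstance _ a.2 x⟩ : ↥A))
      fun a c => Subtype.ext (by
        show x * ((a : X) * c) * x⁻¹ = x * a * x⁻¹ * (x * c * x⁻¹)
        group))
  have hcj : ∀ x y : X, cj (x * y) = (cj x).comp (cj y) := fun x y => AddMonoidHom.ext fun v =>
    congrArg Additive.ofMul (Subtype.ext (by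
      show x * y * ((Additive.toMul v : ↥A) : X) * (x * y)⁻¹
        = x * (y * ((Additive.toMul v : ↥A) : X) * y⁻¹) * x⁻¹
      group))
  let L : X → Matrix (Fin 3) (Fin 3) (ZMod 2) := fun x =>
    LinearMap.toMatrix b b ((cj x).toZModLinearMap 2)
  have hL : ∀ x y, L (x * y) = L x * L y := fun x y => by
    simp only [L, ← LinearMap.toMatrix_comp]
    congr 1
    exact LinearMap.ext fun v => DFunLike.congr_fun (hcj x y) v
  have hL1 : L 1 = 1 := by
    simp only [L]
    rw [← LinearMap.toMatrix_id b]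
    congr 1
    exact LinearMap.ext fun v => congrArg Additive.ofMul (Subtype.ext (by
      show (1 : X) * ((Additive.toMul v : ↥A) : X) * (1 : X)⁻¹ = ((Additive.toMul v : ↥A) : X)
      simp))
  have hdet : ∀ x, (L x).det = 1 := fun x => eq_one_of_ne _ fun h0 => by
    have h1 := congrArg Matrix.det (hL x x⁻¹)
    rw [mul_inv_cancel, hL1, Matrix.det_one, Matrix.det_mul, h0, zero_mul] at h1
    exact one_ne_zero h1
  let φ : X →* Matrix.SpecialLinearGroup (Fin 3) (ZMod 2) :=
    MonoidHom.mk' (fun x => ⟨L x, hdet x⟩) fun x y => Subtype.ext (hL x y)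
  have hker : φ.ker = A := by
    ext x
    rw [MonoidHom.mem_ker]
    constructor
    · intro h
      refine hc x fun a ha => ?_
      have h1 : L x = L 1 := by rw [hL1]; exact congrArg Subtype.val h
      have h2 := congrArg Subtype.val (congrArg Additive.toMul
        (LinearMap.congr_fun ((LinearMap.toMatrix b b).injective h1) (Additive.ofMul (⟨a, ha⟩ : ↥A))))
      exact mul_inv_eq_iff_eq_mul.1 (h2.trans (show (1 : X) * a * (1 : X)⁻¹ = a by simp))
    · intro h
      refine Subtype.ext ?_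
      show L x = 1
      rw [← hL1]
      simp only [L]
      congr 1
      exact LinearMap.ext fun v => congrArg Additive.ofMul (Subtype.ext (by
        show x * _ * x⁻¹ = (1 : X) * _ * (1 : X)⁻¹
        rw [hcomm x h _ (Additive.toMul v : ↥A).2]
        simp))
  have hq : Nat.card (X ⧸ A) = 168 := by
    have := Subgroup.card_eq_card_quotient_mul_card_subgroup A
    rw [hX, hA] at this
    omega
  have hs : Nat.card (Matrix.SpecialLinearGroup (Fin 3) (ZMod 2)) = 168 := by
    have h := PSLCard.card_SL (F := ZMod 2) 3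
    rw [Nat.card_zmod] at h
    simpa [Fin.prod_univ_three] using h
  let ψ := QuotientGroup.kerLift φ
  refine ⟨(QuotientGroup.quotientMulEquivOfEq hker).symm.trans (MulEquiv.ofBijective ψ
    ((Nat.bijective_iff_injective_and_card _).2 ⟨QuotientGroup.kerLift_injective φ, ?_⟩))⟩
  rw [Nat.card_congr (QuotientGroup.quotientMulEquivOfEq hker).toEquiv, hq, hs]

section Final
include D

theorem small_cent {x : X} (hxC : x ∈ R) (hx : orderOf x = 2) (hc : ¬ IsConj z x) :
    centralizer ({x} : Set X) ≤ C := by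
  obtain ⟨e, M⟩ := exists_mid D
  have x2 : x * x = 1 := by rw [← sq, ← hx]; exact pow_orderOf_eq_one x
  have gx : Good z R x := ⟨hxC, x2, fun e => by rw [e, orderOf_one] at hx; omega,
    fun e => hc (e ▸ IsConj.refl z)⟩
  have hS : orb C x ⊆ Six z p t ∪ Six z p (s * t * s⁻¹) := by
    rintro y ⟨c, hc', rfl⟩
    rcases M.cases _ (good_conj D gx hc') with k | k | k
    · exact Or.inl k
    · exact Or.inr k
    · exact absurd (((conj_iff D M (good_six D M.good k)).2 k).trans (isConj_iff.2 ⟨c, rfl⟩).symm) hc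
  have h1 := orb_mul C x
  have h2 := (Set.ncard_le_ncard hS (Set.toFinite _)).trans ((Set.ncard_union_le _ _).trans
    (Nat.add_le_add (six_ncard_le (z := z) (p := p) t) (six_ncard_le (z := z) (p := p) (s * t * s⁻¹))))
  have h3 := D.big x hx hc
  have : C ⊓ centralizer ({x} : Set X) = centralizer ({x} : Set X) := by
    refine Subgroup.eq_of_le_of_card_ge inf_le_right ?_
    rw [D.cardC] at h1
    nlinarith
  exact inf_eq_right.1 this

/-- The structure theorem. -/
theorem structure_theorem :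
    ∃ (A : Subgroup X) (_ : A.Normal), (∀ a ∈ A, a * a = 1) ∧ (∀ a ∈ A, ∀ b ∈ A, a * b = b * a) ∧
      Nat.card A = 8 ∧ Nat.card X = 1344 ∧
      Nonempty (X ⧸ A ≃* Matrix.SpecialLinearGroup (Fin 3) (ZMod 2)) ∧
      ∀ K : Subgroup X, ¬ A.IsComplement' K := by
  obtain ⟨e, M⟩ := exists_mid D
  set A := V R p e with hA
  have ge := M.good
  obtain ⟨-, -, hA8, hA2, hAc⟩ := inv_facts D ge.1 ge.2.1 ge.2.2.1 ge.2.2.2
  rw [← hA] at hA8 hA2 hAc
  have hAC : A ≤ C := (V_le D e).trans D.R_le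
  set N := normalizer (A : Set X) with hN
  have mem_A : ∀ w ∈ C, w * w = 1 → IsConj z w → w ∈ A := by
    intro w hw w2 hc
    by_cases hR : w ∈ R
    · exact R_conj_mem D M hR w2 hc
    · refine absurd hc (no_outer D M hw hR (orderOf_eq_prime (by rw [sq, w2]) ?_))
      rintro rfl
      exact z_ne D (isConj_one_left.1 hc)
  have memN : ∀ g : X, (∀ y ∈ A, g * y * g⁻¹ ∈ A) → g ∈ N := by
    intro g hg
    have hle : A.map (MulAut.conj g).toMonoidHom ≤ A := by
      rintro _ ⟨y, hy, rfl⟩; exact hg y hy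
    have heq := Subgroup.eq_of_le_of_card_ge hle (by
      rw [Subgroup.card_map_of_injective (MulAut.conj g).injective])
    refine mem_normalizer_iff.2 fun y => ⟨hg y, fun hy => ?_⟩
    rw [← heq, Subgroup.mem_map_equiv] at hy
    simpa [mul_assoc] using hy
  have conjN : ∀ g ∈ N, ∀ y ∈ A, g * y * g⁻¹ ∈ A := fun g hg y hy =>
    (mem_normalizer_iff.1 hg y).1 hy
  have hCN : C ≤ N := fun c hc => memN c fun y hy => A1_C D M hc hy
  have trans : ∀ g : X, g * z * g⁻¹ ∈ A → g ∈ N := by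
    intro g ha
    refine memN g fun y hy => ?_
    by_cases y1 : y = 1
    · rw [y1]; simp
    have haz := z_comm D (hAC ha)
    have hz'C : g⁻¹ * z * g ∈ C := by
      rw [mem_centralizer_singleton_iff]
      calc g⁻¹ * z * g * z = g⁻¹ * (z * (g * z * g⁻¹)) * g := by group
        _ = g⁻¹ * ((g * z * g⁻¹) * z) * g := by rw [haz]
        _ = z * (g⁻¹ * z * g) := by group
    have hz'A : g⁻¹ * z * g ∈ A := by
      refine mem_A _ hz'C ?_ (isConj_iff.2 ⟨g⁻¹, by group⟩)
      calc g⁻¹ * z * g * (g⁻¹ * z * g) = g⁻¹ * (z * z) * g := by group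
        _ = 1 := by rw [zz D]; group
    refine mem_A _ (mem_centralizer_singleton_iff.2 ?_) ?_
      ((A1_conj D M hy y1).trans (isConj_iff.2 ⟨g, rfl⟩))
    · calc g * y * g⁻¹ * z = g * (y * (g⁻¹ * z * g)) * g⁻¹ := by group
        _ = g * (g⁻¹ * z * g * y) * g⁻¹ := by rw [hAc y hy _ hz'A]
        _ = z * (g * y * g⁻¹) := by group
    · calc g * y * g⁻¹ * (g * y * g⁻¹) = g * (y * y) * g⁻¹ := by group
        _ = 1 := by rw [hA2 y hy]; group
  have hcardN : Nat.card N = 1344 := by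
    have h1 := orb_mul N z
    have ho : orb N z = (A : Set X) \ {1} := by
      ext y
      constructor
      · rintro ⟨g, hg, rfl⟩
        exact ⟨conjN g hg z (z_mem_V D ge), fun h => z_ne D (conj_eq_one_iff.1 h)⟩
      · rintro ⟨hy, hy1⟩
        obtain ⟨g, rfl⟩ := isConj_iff.1 (A1_conj D M hy hy1)
        exact ⟨g, trans g hy, rfl⟩
    rw [ho, Set.ncard_sdiff_singleton_of_mem (one_mem A), ← Nat.card_coe_set_eq, SetLike.coe_sort_coe,
      hA8, inf_eq_right.2 hCN, D.cardC] at h1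
    omega
  have centA : ∀ x : X, (∀ a ∈ A, x * a = a * x) → x ∈ A := fun x h =>
    cent_A1 D M (mem_centralizer_singleton_iff.2 (h z (z_mem_V D ge))) h
  have invN : ∀ w ∈ N, w * w = 1 → w ≠ 1 →
      centralizer ({w} : Set X) ≤ N ∧ (IsConj z w → w ∈ A) := by
    intro w hwN w2 w1
    have mapN : ∀ (g y : X), g ∈ N → centralizer ({y} : Set X) ≤ N →
        centralizer ({g * y * g⁻¹} : Set X) ≤ N := by
      intro g y hg hy
      rw [conj_centralizer]
      rintro _ ⟨c, hc, rfl⟩
      exact mul_mem (mul_mem hg (hy hc)) (inv_mem hg)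
    by_cases hwA : w ∈ A
    · refine ⟨?_, fun _ => hwA⟩
      obtain ⟨g, rfl⟩ := isConj_iff.1 (A1_conj D M hwA w1)
      exact mapN g z (trans g hwA) hCN
    have wi : w⁻¹ = w := inv_or D w w2
    let f : ↥A →* ↥A := MonoidHom.mk' (fun a => a * ⟨w * a * w⁻¹, conjN w hwN a a.2⟩) fun a b =>
      Subtype.ext (by
        show (a : X) * b * (w * ((a : X) * b) * w⁻¹) = (a : X) * (w * a * w⁻¹) * (b * (w * b * w⁻¹))
        have h1 := hAc (b : X) b.2 _ (conjN w hwN a a.2)
        calc (a : X) * b * (w * ((a : X) * b) * w⁻¹)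
            = (a : X) * ((b : X) * (w * a * w⁻¹)) * (w * b * w⁻¹) := by group
          _ = (a : X) * (w * a * w⁻¹ * b) * (w * b * w⁻¹) := by rw [h1]
          _ = _ := by group)
    have hfix : ∀ a ∈ A, w * (a * (w * a * w⁻¹)) * w⁻¹ = a * (w * a * w⁻¹) := by
      intro a ha
      calc w * (a * (w * a * w⁻¹)) * w⁻¹ = w * a * w⁻¹ * (w * w * a * (w * w)⁻¹) := by group
        _ = w * a * w⁻¹ * a := by rw [w2]; group
        _ = _ := hAc _ (conjN w hwN a ha) a ha
    have hrk : f.range ≤ f.ker := by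
      rintro _ ⟨a, rfl⟩
      refine MonoidHom.mem_ker.2 (Subtype.ext ?_)
      show ((a : X) * (w * a * w⁻¹)) * (w * ((a : X) * (w * a * w⁻¹)) * w⁻¹) = 1
      rw [hfix a a.2]
      exact hA2 _ (mul_mem a.2 (conjN w hwN a a.2))
    have hr2 : Nat.card f.range ≤ 2 := by
      have h1 := Subgroup.card_eq_card_quotient_mul_card_subgroup f.ker
      rw [Nat.card_congr (QuotientGroup.quotientKerEquivRange f).toEquiv, hA8] at h1
      have h2 := Subgroup.card_le_of_le hrk
      nlinarith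
    obtain ⟨a0, ha0, ha0'⟩ : ∃ a ∈ A, a * (w * a * w⁻¹) ≠ 1 := by
      by_contra h
      push Not at h
      refine hwA (centA w fun a ha => ?_)
      have := h a ha
      rw [mul_eq_one_iff_inv_eq, inv_eq_of_mul_eq_one_left (hA2 a ha)] at this
      exact (mul_inv_eq_iff_eq_mul.1 this.symm)
    set c := a0 * (w * a0 * w⁻¹) with hc
    have hcA : c ∈ A := mul_mem ha0 (conjN w hwN a0 ha0)
    have hval : ∀ a ∈ A, w * a * w⁻¹ = a ∨ w * a * w⁻¹ = a * c := by
      intro a ha
      have hmem : f ⟨a, ha⟩ = 1 ∨ f ⟨a, ha⟩ = ⟨c, hcA⟩ := by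
        by_contra hh
        push Not at hh
        have h3 : ({1, ⟨c, hcA⟩, f ⟨a, ha⟩} : Set ↥A) ⊆ (f.range : Set ↥A) := by
          rintro x (rfl | rfl | rfl)
          · exact one_mem _
          · exact ⟨⟨a0, ha0⟩, rfl⟩
          · exact ⟨_, rfl⟩
        have h4 := Set.ncard_le_ncard h3 (Set.toFinite _)
        rw [← Nat.card_coe_set_eq (f.range : Set ↥A), SetLike.coe_sort_coe,
          Set.ncard_insert_of_notMem (by
            simp only [Set.mem_insert_iff, Set.mem_singleton_iff, not_or]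
            exact ⟨fun k => ha0' (congrArg Subtype.val k).symm, fun k => hh.1 k.symm⟩) (Set.toFinite _),
          Set.ncard_pair (fun k => hh.2 k.symm)] at h4
        omega
      rcases hmem with k | k
      · left
        have : a * (w * a * w⁻¹) = 1 := congrArg Subtype.val k
        rwa [mul_eq_one_iff_inv_eq, inv_eq_of_mul_eq_one_left (hA2 a ha), eq_comm] at this
      · right
        have h5 : a * (w * a * w⁻¹) = c := congrArg Subtype.val k
        rw [← h5, ← mul_assoc a a, hA2 a ha, one_mul]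
    obtain ⟨g, hg⟩ := isConj_iff.1 (A1_conj D M hcA ha0')
    have hgN : g ∈ N := trans g (hg ▸ hcA)
    have hwc : w * c * w⁻¹ = c := hfix a0 ha0
    set y := g⁻¹ * w * g with hy
    have hyC : y ∈ C := by
      rw [mem_centralizer_singleton_iff, hy]
      calc g⁻¹ * w * g * z = g⁻¹ * (w * (g * z * g⁻¹) * w⁻¹) * w * g := by group
        _ = g⁻¹ * (g * z * g⁻¹) * w * g := by rw [hg, hwc]
        _ = z * (g⁻¹ * w * g) := by group
    have hyR : y ∈ R := fix_classes D M hyC fun a ha => by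
      have h6 := hval _ (conjN g hgN a ha)
      have e1 : y * a * y⁻¹ = g⁻¹ * (w * (g * a * g⁻¹) * w⁻¹) * g := by rw [hy]; group
      rw [e1]
      rcases h6 with k | k <;> rw [k]
      · exact Or.inl (by group)
      · exact Or.inr (by rw [← hg]; group)
    have hwy : g * y * g⁻¹ = w := by rw [hy]; group
    have hyA : y ∉ A := fun h => hwA (hwy ▸ conjN g hgN y h)
    have y2 : y * y = 1 := by
      rw [hy]
      calc g⁻¹ * w * g * (g⁻¹ * w * g) = g⁻¹ * (w * w) * g := by group
        _ = 1 := by rw [w2]; group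
    have hyc : ¬ IsConj z y := fun h => hyA (R_conj_mem D M hyR y2 h)
    have hyo : orderOf y = 2 := orderOf_eq_prime (by rw [sq, y2]) fun h => hyA (h ▸ one_mem A)
    refine ⟨hwy ▸ mapN g y hgN ((small_cent D hyR hyo hyc).trans hCN), fun h => ?_⟩
    exact absurd (h.trans (isConj_iff.2 ⟨g, hwy⟩).symm) hyc
  have tN : ∀ v, IsConj t v → v ∈ N := by
    intro v hv
    have v2 : orderOf v = 2 := by
      obtain ⟨c, rfl⟩ := isConj_iff.1 hv
      rw [← MulAut.conj_apply, MulEquiv.orderOf_eq, D.t_ord]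
    obtain ⟨x, hx, hzx, hvx⟩ := exists_common D.hz v2 (fun h => D.t_not (h.trans hv.symm))
    have hxN : x ∈ N := hCN (mem_centralizer_singleton_iff.2 hzx.symm)
    have x1 : x ≠ 1 := fun e => by rw [e, orderOf_one] at hx; omega
    have x2 : x * x = 1 := by rw [← sq, ← hx]; exact pow_orderOf_eq_one x
    exact (invN x hxN x2 x1).1 (mem_centralizer_singleton_iff.2 hvx)
  have zN : ∀ k, IsConj z k → k ∈ A := by
    intro k hk
    obtain ⟨g, rfl⟩ := isConj_iff.1 hk
    have gt := good_t D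
    obtain ⟨-, x, -, hx⟩ := card_cent_R D gt.1 gt.2.2.1 gt.2.2.2
    have hm : g * z * g⁻¹ ∈ N := by
      have h1 := tN _ (isConj_iff.2 ⟨g, rfl⟩)
      have h2 := tN _ (isConj_iff.2 ⟨g * x, rfl⟩)
      have : g * z * g⁻¹ = g * t * g⁻¹ * (g * x * t * (g * x)⁻¹) := by
        calc g * z * g⁻¹ = g * ((t * t) * z) * g⁻¹ := by rw [gt.2.1, one_mul]
          _ = g * (t * (x * t * x⁻¹)) * g⁻¹ := by rw [hx, ← mul_assoc t t z]
          _ = _ := by group
      rw [this]; exact mul_mem h1 h2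
    refine (invN _ hm ?_ fun h => z_ne D (conj_eq_one_iff.1 h)).2 hk
    calc g * z * g⁻¹ * (g * z * g⁻¹) = g * (z * z) * g⁻¹ := by group
      _ = 1 := by rw [zz D]; group
  have hn : A.Normal := ⟨fun y hy g => by
    by_cases y1 : y = 1
    · rw [y1]; simp
    · exact zN _ ((A1_conj D M hy y1).trans (isConj_iff.2 ⟨g, rfl⟩))⟩
  have hX : Nat.card X = 1344 := by
    have : N = ⊤ := normalizer_eq_top_iff.2 hn
    rw [← hcardN, this, Subgroup.card_top]
  refine ⟨A, hn, hA2, hAc, hA8, hX, sl_of_elementary A hA2 hA8 hX centA, fun K hK => ?_⟩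
  have hdec : ∀ x : X, ∃ a ∈ A, ∃ k ∈ K, x = a * k := fun x => by
    obtain ⟨⟨⟨a, ha⟩, ⟨k, hk⟩⟩, hak⟩ := hK.2 x
    exact ⟨a, ha, k, hk, hak.symm⟩
  have hAK : ∀ x ∈ A, x ∈ K → x = 1 := fun x hx hx' => by
    have h := hK.disjoint.le_bot (⟨hx, hx'⟩ : x ∈ A ⊓ K)
    simpa using h
  have gt := good_t D
  have gu := u_good D
  have hkey : ∀ r ∈ R, r ∈ K → r ≠ 1 →
      Good z R r ∧ (r ∈ Six z p t ∨ r ∈ Six z p (s * t * s⁻¹)) := by
    intro r hr hrK r1
    have r2 : r * r = 1 := by
      rcases D.sq r hr with k | k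
      · exact k
      · exact absurd (hAK _ (z_mem_V D ge) (k ▸ mul_mem hrK hrK)) (z_ne D)
    have gr : Good z R r := ⟨hr, r2, r1, fun k => z_ne D (hAK _ (z_mem_V D ge) (k ▸ hrK))⟩
    refine ⟨gr, ?_⟩
    rcases M.cases r gr with k | k | k
    · exact Or.inl k
    · exact Or.inr k
    · exact absurd (hAK r (six_mem_V D ge k) hrK) r1
  obtain ⟨a, ha, k, hk, htak⟩ := hdec t
  have hkR : k ∈ R := by
    have : k = a⁻¹ * t := by rw [htak]; group
    rw [this]; exact mul_mem (inv_mem (V_le D e ha)) D.t_mem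
  have hk1 : k ≠ 1 := fun k1 => by
    rw [k1, mul_one] at htak
    exact six_disj D ge gt (fun h => M.ne_t (by
      have := six_self D (z := z) (p := p) e
      rwa [← six_eq D ge h] at this)) (V_mem_six D ge (htak ▸ ha) gt.2.2.1 gt.2.2.2) (six_self D t)
  obtain ⟨gk, hk6⟩ := hkey k hkR hk hk1
  obtain ⟨b, hb, y, hy, hsby⟩ := hdec s
  have hbC0 : b ∈ C0 R p := R_le_C0 D (V_le D e hb)
  have hyC : y ∈ C := by
    have : y = b⁻¹ * s := by rw [hsby]; group
    rw [this]; exact mul_mem (inv_mem (hAC hb)) D.s_mem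
  have hy0 : y ∉ C0 R p := fun h => s_not D (hsby ▸ mul_mem hbC0 h)
  have hk' : y * k * y⁻¹ ∈ K := mul_mem (mul_mem hy hk) (inv_mem hy)
  obtain ⟨a', b', ha', hb', haK, hbK⟩ : ∃ a' b', a' ∈ Six z p t ∧ b' ∈ Six z p (s * t * s⁻¹) ∧
      a' ∈ K ∧ b' ∈ K := by
    rcases hk6 with h | h
    · exact ⟨k, _, h, out_t D hyC hy0 h, hk, hk'⟩
    · exact ⟨_, k, out_u D hyC hy0 h, h, hk', hk⟩
  have ga := good_six D gt ha'
  have gb := good_six D gu hb'
  have hne : a' * b' ≠ 1 := fun h => by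
    have : a' = b' := by rw [eq_inv_of_mul_eq_one_left h, inv_or D b' gb.2.1]
    exact six_disj D gt gu (u_not_six D) ha' (this ▸ hb')
  obtain ⟨-, h⟩ := hkey _ (mul_mem ga.1 gb.1) (mul_mem haK hbK) hne
  rcases h with h | h
  · have h1 : b' ∈ V R p t := by
      rw [show b' = a'⁻¹ * (a' * b') by group]
      exact mul_mem (inv_mem (six_mem_V D gt ha')) (six_mem_V D gt h)
    exact six_disj D gt gu (u_not_six D) (V_mem_six D gt h1 gb.2.2.1 gb.2.2.2) hb'
  · have h1 : a' ∈ V R p (s * t * s⁻¹) := by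
      rw [show a' = a' * b' * b'⁻¹ by group]
      exact mul_mem (six_mem_V D gu h) (inv_mem (six_mem_V D gu hb'))
    exact six_disj D gt gu (u_not_six D) ha' (V_mem_six D gu h1 ga.2.2.1 ga.2.2.2)

end Final

end Cfsg.Agent.JFiveCore4
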