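import Mathlib
import Cfsg.Agent.Lib.JFourSevenFix30

/-!
An element of order five commuting with a fixed point free element of order three on a twelve dimensional
orthogonal space fixes a non-degenerate space of sixteen vectors; in a group of Janko-four type it centralises
in the extraspecial subgroup a subgroup of order 32 whose centre has order two.
-/

set_option autoImplicit false
set_option linter.unusedSectionVars false
set_option linter.style.haveILetI false

namespace Cfsg.Agent.JFiveFix4

open Cfsg.Agent.LFForm89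
open Cfsg.Agent.JFourSevenFix30 (sgn sgn_add sgn_one sgn_zero card_fixed_modEq)

universe u

/-- The number of singular vectors of a non-degenerate quadratic space. -/
theorem count_sq {W : Type*} [AddCommGroup W] [Finite W] (q : W → ZMod 2)
    (addl : ∀ u v w, pol q (u + v) w = pol q u w + pol q v w)
    (nondeg : ∀ v, (∀ w, pol q v w = 0) → v = 0) :
    (2 * (Nat.card {v // q v = 0} : ℤ) - Nat.card W) * (2 * (Nat.card {v // q v = 0} : ℤ) - Nat.card W)
      = Nat.card W := by
  classical
  haveI := Fintype.ofFinite W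
  have hb : ∀ a : ZMod 2, a + a = 0 := by decide
  have q0 : q 0 = 0 := by
    have := addl 0 0 0
    simp only [pol, add_zero] at this
    have h3 : ∀ a : ZMod 2, a + a + a = a + a + a + (a + a + a) → a = 0 := by decide
    exact h3 _ this
  have hsplit : ∀ a c, sgn (q a) * sgn (q (a + c)) = sgn (pol q a c) * sgn (q c) := by
    intro a c
    rw [← sgn_add, ← sgn_add, pol]
    congr 1
    have : ∀ x y w : ZMod 2, x + w = w + x + y + y := by decide
    exact this _ _ _
  set S := ∑ a : W, sgn (q a) with hS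
  have hSS : S * S = Nat.card W := by
    have h1 : S * S = ∑ a : W, ∑ b : W, sgn (q a) * sgn (q b) := by
      rw [hS, Finset.sum_mul_sum]
    have h2 : ∀ a : W, ∑ b : W, sgn (q a) * sgn (q b) = ∑ c : W, sgn (pol q a c) * sgn (q c) := by
      intro a
      rw [← Equiv.sum_comp (Equiv.addLeft a) fun b => sgn (q a) * sgn (q b)]
      exact Finset.sum_congr rfl fun c _ => hsplit a c
    rw [h1, Finset.sum_congr rfl fun a _ => h2 a, Finset.sum_comm]
    have h3 : ∀ c : W, ∑ a : W, sgn (pol q a c) * sgn (q c) =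
        if c = 0 then (Nat.card W : ℤ) else 0 := by
      intro c
      rw [← Finset.sum_mul]
      split_ifs with hc
      · subst hc
        have : ∀ a, pol q a 0 = 0 := fun a => by
          simp only [pol, add_zero, q0]
          exact hb _
        simp only [this, sgn_zero, q0, mul_one, Finset.sum_const, Finset.card_univ, ← Nat.card_eq_fintype_card]
        simp
      · obtain ⟨a₀, ha₀⟩ : ∃ a₀, pol q a₀ c ≠ 0 := by
          by_contra h
          push Not at h
          refine hc (nondeg c fun w => ?_)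
          have := h w
          simp only [pol] at this ⊢
          rw [add_comm c w, add_right_comm, this]
        have ha1 : pol q a₀ c = 1 := (by decide : ∀ a : ZMod 2, a ≠ 0 → a = 1) _ ha₀
        have hneg : ∑ a : W, sgn (pol q a c) = -∑ a : W, sgn (pol q a c) := by
          conv_lhs => rw [← Equiv.sum_comp (Equiv.addLeft a₀) fun a => sgn (pol q a c)]
          rw [← Finset.sum_neg_distrib]
          refine Finset.sum_congr rfl fun a _ => ?_
          show sgn (pol q (a₀ + a) c) = _
          rw [addl, sgn_add, ha1, sgn_one, neg_one_mul]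
        have : ∑ a : W, sgn (pol q a c) = 0 := by linarith
        rw [this, zero_mul]
    rw [Finset.sum_congr rfl fun c _ => h3 c]
    simp
  have hN : S = 2 * (Nat.card {v // q v = 0} : ℤ) - Nat.card W := by
    have hpt : ∀ a, sgn (q a) = 2 * (if q a = 0 then 1 else 0) - 1 := by
      intro a; unfold sgn; split_ifs <;> norm_num
    rw [hS, Finset.sum_congr rfl fun a _ => hpt a, Finset.sum_sub_distrib, ← Finset.mul_sum,
      Finset.sum_boole, Finset.sum_const, Finset.card_univ, ← Nat.card_eq_fintype_card,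
      Nat.card_eq_fintype_card (α := {v // q v = 0}), Fintype.card_subtype]
    simp
  rw [← hN]; exact hSS

/-- The fixed space. -/
theorem fixed_sixteen {V : Type*} [AddCommGroup V] {o σ : V →+ V} {q : V → ZMod 2} (hfx : Fx o q)
    (hinv : ∀ v, q (σ v) = q v) (hcomm : ∀ v, σ (o v) = o (σ v)) (h5 : ∀ v, σ^[5] v = v)
    (hne : ∃ v, σ v ≠ v) :
    Nat.card {v // σ v = v} = 16 ∧
      ∀ v, σ v = v → (∀ w, σ w = w → pol q v w = 0) → v = 0 := by
  classical
  haveI : Finite V := Nat.finite_of_card_ne_zero (by rw [hfx.card]; norm_num)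
  haveI : Fact (Nat.Prime 5) := ⟨by norm_num⟩
  haveI : Fact (Nat.Prime 3) := ⟨Nat.prime_three⟩
  have htwo := hfx.two
  have hneg : ∀ v : V, -v = v := fun v => neg_eq_of_add_eq_zero_right (htwo v)
  have ho3 : ∀ v, o^[3] v = v := fun v => by
    have h := congrArg o (hfx.rel v)
    rw [map_add, map_add, map_zero] at h
    show o (o (o v)) = v
    have h2 := hfx.rel v
    have e : o (o v) + o v = v := by
      have := eq_neg_of_add_eq_zero_left h2
      rwa [hneg] at this
    calc o (o (o v)) = -(o (o v) + o v) := eq_neg_of_add_eq_zero_left (by rw [← add_assoc]; exact h)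
      _ = v := by rw [hneg, e]
  have hofix : ∀ v, o v = v → v = 0 := fun v hv => by
    have := hfx.rel v
    rwa [hv, hv, htwo, zero_add] at this
  let τ : V →+ V := σ + AddMonoidHom.id V
  set U := τ.ker with hU
  set W := τ.range with hW
  have hmemU : ∀ v, v ∈ U ↔ σ v = v := fun v => by
    rw [hU, AddMonoidHom.mem_ker]
    show σ v + v = 0 ↔ _
    rw [add_eq_zero_iff_eq_neg, hneg]
  have hUW : Nat.card U * Nat.card W = 4096 := by
    rw [← hfx.card, ← AddSubgroup.card_mul_index U, hU, AddSubgroup.index_ker]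
  obtain ⟨d, hd, hUd⟩ := (Nat.dvd_prime_pow Nat.prime_two).1
    (show Nat.card U ∣ 2 ^ 12 from ⟨Nat.card W, by rw [hUW]; norm_num⟩)
  have hU5 : 4096 ≡ 2 ^ d [MOD 5] := by
    rw [← hfx.card, ← hUd]
    refine (card_fixed_modEq σ h5).trans ?_
    rw [Nat.card_congr (Equiv.subtypeEquivRight fun v => (hmemU v).symm : {v // σ v = v} ≃ U)]
  have h12 : d ≠ 12 := by
    rintro rfl
    obtain ⟨v, hv⟩ := hne
    apply hv
    rw [← hmemU]
    have : U = ⊤ := AddSubgroup.eq_top_of_card_eq _ (by rw [hUd, hfx.card]; norm_num)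
    exact this ▸ AddSubgroup.mem_top v
  have hcases : d = 0 ∨ d = 4 ∨ d = 8 := by
    unfold Nat.ModEq at hU5
    interval_cases d <;> omega
  have hdisj : ∀ v, σ v = v → v ∈ W → v = 0 := by
    rintro v hv ⟨w, rfl⟩
    set v := τ w with hvdef
    have hw : σ w = w + v := by
      show σ w = w + (σ w + w)
      rw [← add_assoc, add_comm w, add_assoc, htwo, add_zero]
    have hk : ∀ k : ℕ, σ^[k] w = w + k • v := by
      intro k
      induction k with
      | zero => simp
      | succ k ih => rw [Function.iterate_succ_apply', ih, map_add, map_nsmul, hv, hw, succ_nsmul', add_assoc]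
    have := hk 5
    rw [h5, left_eq_add] at this
    have e : (5 : ℕ) • v = v := by
      rw [show (5 : ℕ) • v = (v + v) + (v + v) + v by abel, htwo, zero_add]
    rwa [e] at this
  have hperp : ∀ u x, σ u = u → pol q u (σ x + x) = 0 := by
    intro u x hu
    rw [pol_comm, hfx.addl]
    have : pol q (σ x) u = pol q x u := by
      conv_lhs => rw [← hu]
      simp only [pol, ← map_add, hinv]
    rw [this]
    exact (by decide : ∀ a : ZMod 2, a + a = 0) _
  have hsum : ∀ v, ∃ u w, σ u = u ∧ w ∈ W ∧ v = u + w := by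
    let f : U × W → V := fun x => (x.1 : V) + x.2
    have hf : Function.Injective f := by
      intro x y e
      have e' : (x.1 : V) - y.1 = (y.2 : V) - x.2 := by
        rw [sub_eq_sub_iff_add_eq_add, add_comm (y.2 : V)]
        exact e
      have hz := hdisj _ ((hmemU _).1 (U.sub_mem x.1.2 y.1.2)) (e' ▸ W.sub_mem y.2.2 x.2.2)
      have h1 : (x.1 : V) = y.1 := sub_eq_zero.1 hz
      refine Prod.ext (Subtype.ext h1) (Subtype.ext ?_)
      rw [hz] at e'
      exact (sub_eq_zero.1 e'.symm).symm
    have hbij := hf.bijective_of_nat_card_le (by rw [Nat.card_prod, hUW, hfx.card])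
    intro v
    obtain ⟨x, hx⟩ := hbij.2 v
    exact ⟨x.1, x.2, (hmemU _).1 x.1.2, x.2.2, hx.symm⟩
  have hUnd : ∀ v, σ v = v → (∀ w, σ w = w → pol q v w = 0) → v = 0 := by
    intro v hv h
    refine hfx.nondeg v fun w => ?_
    obtain ⟨u, x, hu, hx, rfl⟩ := hsum w
    obtain ⟨y, rfl⟩ := hx
    rw [pol_comm, hfx.addl, pol_comm u, pol_comm (τ y), h u hu,
      show pol q v (τ y) = 0 from hperp v y hv, add_zero]
  refine ⟨?_, hUnd⟩
  rw [Nat.card_congr (Equiv.subtypeEquivRight fun v => (hmemU v).symm : {v // σ v = v} ≃ U), hUd]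
  suffices hd4 : d = 4 by rw [hd4]; rfl
  by_contra hne4
  have hWc : Nat.card W = 4096 ∨ Nat.card W = 16 := by
    rw [hUd] at hUW
    rcases hcases with rfl | rfl | rfl
    · left; omega
    · exact absurd rfl hne4
    · right; omega
  have hσW : ∀ w : W, σ w ∈ W := by
    rintro ⟨_, x, rfl⟩
    exact ⟨σ x, show σ (σ x) + σ x = σ (σ x + x) by rw [map_add]⟩
  have hoW : ∀ w : W, o w ∈ W := by
    rintro ⟨_, x, rfl⟩
    exact ⟨o x, show σ (o x) + o x = o (σ x + x) by rw [map_add, hcomm]⟩
  have hcount := count_sq (fun w : W => q w) (fun a b c => hfx.addl a b c)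
    (fun w hw => by
      refine Subtype.ext (hfx.nondeg _ fun v => ?_)
      obtain ⟨u, x, hu, hx, rfl⟩ := hsum v
      rw [pol_comm, hfx.addl, pol_comm u, pol_comm x]
      obtain ⟨y, hy⟩ := w.2
      have h1 : pol q (w : V) u = 0 := by
        rw [pol_comm, ← hy]
        exact hperp u y hu
      have h2 : pol q (w : V) x = 0 := hw ⟨x, hx⟩
      rw [h1, h2, add_zero])
  set Sg := {w : W // q w = 0} with hSg
  let fσ : Sg → Sg := fun w => ⟨⟨σ w.1, hσW w.1⟩, (hinv _).trans w.2⟩
  let fo : Sg → Sg := fun w => ⟨⟨o w.1, hoW w.1⟩, (hfx.inv _).trans w.2⟩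
  have itσ : ∀ k (w : Sg), ((fσ^[k] w).1 : V) = σ^[k] (w.1 : V) := by
    intro k
    induction k with
    | zero => intro w; rfl
    | succ k ih => intro w; rw [Function.iterate_succ_apply', Function.iterate_succ_apply', ← ih]
  have ito : ∀ k (w : Sg), ((fo^[k] w).1 : V) = o^[k] (w.1 : V) := by
    intro k
    induction k with
    | zero => intro w; rfl
    | succ k ih => intro w; rw [Function.iterate_succ_apply', Function.iterate_succ_apply', ← ih]
  have q0 : q 0 = 0 := by
    have := hfx.addl 0 0 0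
    simp only [pol, add_zero] at this
    exact (by decide : ∀ a : ZMod 2, a + a + a = a + a + a + (a + a + a) → a = 0) _ this
  have z0 : ∀ f : Sg → Sg, (∀ w : Sg, f w = w → (w.1 : V) = 0) → (∀ w : Sg, (w.1 : V) = 0 → f w = w) →
      Nat.card {w : Sg // f w = w} = 1 := fun f hf hf' => Nat.card_eq_one_iff_unique.2
    ⟨⟨fun a b => Subtype.ext (Subtype.ext (Subtype.ext ((hf _ a.2).trans (hf _ b.2).symm)))⟩,
      ⟨⟨⟨0, q0⟩, hf' _ rfl⟩⟩⟩
  have m5 : Nat.card Sg ≡ 1 [MOD 5] := by
    have := card_fixed_modEq fσ fun w => Subtype.ext (Subtype.ext (by rw [itσ, h5]))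
    rwa [z0 fσ (fun w h => hdisj _ (congrArg (fun s : Sg => (s.1 : V)) h) w.1.2)
      (fun w h => Subtype.ext (Subtype.ext (by show σ _ = _; rw [h, map_zero])))] at this
  have m3 : Nat.card Sg ≡ 1 [MOD 3] := by
    have := card_fixed_modEq fo fun w => Subtype.ext (Subtype.ext (by rw [ito, ho3]))
    rwa [z0 fo (fun w h => hofix _ (congrArg (fun s : Sg => (s.1 : V)) h))
      (fun w h => Subtype.ext (Subtype.ext (by show o _ = _; rw [h, map_zero])))] at this
  rw [hSg] at m5 m3
  unfold Nat.ModEq at m5 m3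
  set m := Nat.card {w : W // q w = 0}
  rcases hWc with h | h <;> rw [h] at hcount
  · have h2 : (2 * (m : ℤ) - (4096 : ℕ) - 64) * (2 * (m : ℤ) - (4096 : ℕ) + 64) = 0 := by
      linear_combination hcount
    rcases mul_eq_zero.1 h2 with e | e <;> omega
  · have h2 : (2 * (m : ℤ) - (16 : ℕ) - 4) * (2 * (m : ℤ) - (16 : ℕ) + 4) = 0 := by
      linear_combination hcount
    rcases mul_eq_zero.1 h2 with e | e <;> omega

section Group

open Subgroup Cfsg.Agent.LargeExtraspecial Cfsg.Agent.FischerFrame18 Cfsg.Agent.JFourSetting97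
  Cfsg.Agent.JFourModule85

/-- An element of order five centralising `P` centralises a subgroup of order 32 with centre of order two in
the extraspecial subgroup. -/
theorem cent_core {G : Type u} [Group G] [Finite G] {z : G} {P : Subgroup G}
    (hJ : Cfsg.IsOfJankoFourTypeWith z P) {s : G} (hs : s ∈ KK z P) (h5 : orderOf s = 5) :
    Nat.card ↥(Cfsg.twoCoreOfCentralizer z ⊓ centralizer ({s} : Set G) : Subgroup G) = 32 ∧
    (∀ e ∈ Cfsg.twoCoreOfCentralizer z ⊓ centralizer ({s} : Set G), e * e = 1 ∨ e * e = z) ∧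
    ∀ e ∈ Cfsg.twoCoreOfCentralizer z ⊓ centralizer ({s} : Set G),
      (∀ e' ∈ Cfsg.twoCoreOfCentralizer z ⊓ centralizer ({s} : Set G), e * e' = e' * e) → e = 1 ∨ e = z := by
  classical
  obtain ⟨V, _, zc, π, ρ, q, n, Mb, D⟩ := exists_data hJ
  set sH : ↥(HH z) := ⟨s, hs.1⟩ with hsH
  set x := mk z sH with hx
  have hxM : x ∈ Mb := by
    rw [D.Mb_eq]
    exact ⟨sH, hs, rfl⟩
  have hs5 : sH ^ 5 = 1 := Subtype.ext (show s ^ 5 = 1 from h5 ▸ pow_orderOf_eq_one s)
  have hx5 : x ^ 5 = 1 := by rw [hx, ← map_pow, hs5, map_one]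
  have hx1 : x ≠ 1 := by
    intro h
    rw [hx, QuotientGroup.mk'_apply, QuotientGroup.eq_one_iff] at h
    have hd := orderOf_dvd_natCard (⟨sH, h⟩ : QQ z)
    rw [Subgroup.orderOf_mk, show orderOf sH = orderOf s from (Subgroup.orderOf_coe sH).symm, h5,
      D.card_Q] at hd
    norm_num at hd
  let σ : V →+ V := ρ x
  have hpow : ∀ k v, σ^[k] v = ρ (x ^ k) v := by
    intro k
    induction k with
    | zero => intro v; rw [pow_zero, map_one]; rfl
    | succ k ih =>
      intro v
      rw [Function.iterate_succ_apply', pow_succ', map_mul, ih]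
      rfl
  obtain ⟨hU, hnd⟩ := fixed_sixteen (σ := σ) D.hyp.fx (fun v => D.hyp.inv x v)
    (fun v => by
      show ρ x (ρ n v) = ρ n (ρ x v)
      have := congrArg (fun g => ρ g v) (D.hyp.comm_n x hxM)
      simp only [map_mul] at this
      exact this)
    (fun v => by rw [hpow, hx5, map_one]; rfl)
    (by
      by_contra h
      push Not at h
      exact hx1 (D.hyp.faith x h))
  have zc2 : zc * zc = 1 := D.ext.zz
  have zc1 : zc ≠ 1 := D.ext.ne_one
  -- commuting and fixing agree
  have hiff : ∀ e : ↥(HH z), e ∈ QQ z → (e * sH = sH * e ↔ σ (π e) = π e) := by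
    intro e he
    have hse : sH * e * sH⁻¹ ∈ QQ z := (JFourModule85.instNormalSubtypeMemSubgroupHHQQ z).conj_mem e he sH
    have heq : π (sH * e * sH⁻¹) = σ (π e) := D.link.equiv sH e he
    constructor
    · intro h
      rw [← heq, ← h, mul_inv_cancel_right]
    · intro h
      have h2 : π (e⁻¹ * (sH * e * sH⁻¹)) = 0 := by
        have h3 := D.link.add e⁻¹ (inv_mem he) (sH * e * sH⁻¹) hse
        have h4 := D.link.add e⁻¹ (inv_mem he) e he
        rw [inv_mul_cancel] at h4
        have h1 : π (1 : ↥(HH z)) = 0 := (D.link.ker 1 (one_mem _)).2 (Or.inl rfl)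
        rw [h1] at h4
        rw [h3, heq, h, ← h4]
      rcases (D.link.ker _ (mul_mem (inv_mem he) hse)).1 h2 with k | k
      · rw [inv_mul_eq_one] at k
        exact mul_inv_eq_iff_eq_mul.1 k.symm |>.symm
      · exfalso
        have hc : sH * e * sH⁻¹ = e * zc := by rw [← k, mul_inv_cancel_left]
        have hit : ∀ j : ℕ, sH ^ j * e * (sH ^ j)⁻¹ = e * zc ^ j := by
          intro j
          induction j with
          | zero => simp
          | succ j ih =>
            calc sH ^ (j + 1) * e * (sH ^ (j + 1))⁻¹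
                = sH * (sH ^ j * e * (sH ^ j)⁻¹) * sH⁻¹ := by rw [pow_succ']; group
              _ = sH * e * sH⁻¹ * (sH * zc ^ j * sH⁻¹) := by rw [ih]; group
              _ = e * zc ^ (j + 1) := by
                rw [hc, (Commute.pow_right (D.zc_central sH : Commute sH zc) j).eq, mul_inv_cancel_right,
                  mul_assoc, ← pow_succ']
        have h5' := hit 5
        rw [hs5, show zc ^ 5 = (zc * zc) ^ 2 * zc by rw [pow_two, pow_succ, pow_succ, pow_succ, pow_two]; group, zc2] at h5'
        exact zc1 (by simpa using h5')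
  set R := Cfsg.twoCoreOfCentralizer z ⊓ centralizer ({s} : Set G) with hR
  have hRH : R ≤ HH z := fun y hy => by obtain ⟨w, -, rfl⟩ := hy.1; exact w.2
  have hRQ : ∀ y : ↥R, (⟨y, hRH y.2⟩ : ↥(HH z)) ∈ QQ z := fun y => mem_E.1 y.2.1
  have hRfix : ∀ y : ↥R, σ (π ⟨y, hRH y.2⟩) = π ⟨y, hRH y.2⟩ := fun y =>
    (hiff _ (hRQ y)).1 (Subtype.ext (mem_centralizer_singleton_iff.1 y.2.2))
  have hlift : ∀ v, σ v = v → ∃ y : ↥R, π ⟨y, hRH y.2⟩ = v := by
    intro v hv
    obtain ⟨e, he, rfl⟩ := D.link.surj v
    refine ⟨⟨e, mem_E.2 he, mem_centralizer_singleton_iff.2 ?_⟩, rfl⟩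
    exact congrArg Subtype.val ((hiff e he).2 hv)
  refine ⟨?_, fun e he => ?_, fun e he hcen => ?_⟩
  · let g : ↥R →* Multiplicative V := MonoidHom.mk'
      (fun y => Multiplicative.ofAdd (π ⟨y, hRH y.2⟩))
      fun a b => congrArg Multiplicative.ofAdd (D.link.add _ (hRQ a) _ (hRQ b))
    have hrange : Nat.card g.range = 16 := by
      rw [← hU]
      refine Nat.card_congr (Equiv.ofBijective (fun y : g.range => (⟨Multiplicative.toAdd y.1, by
        obtain ⟨w, hw⟩ := y.2; rw [← hw]; exact hRfix w⟩ : {v // σ v = v})) ⟨?_, ?_⟩)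
      · intro a b h; exact Subtype.ext (congrArg Subtype.val h :)
      · rintro ⟨v, hv⟩
        obtain ⟨w, hw⟩ := hlift v hv
        exact ⟨⟨_, w, rfl⟩, Subtype.ext hw⟩
    have hzR : z ∈ R := by
      refine ⟨(have h := (mem_E (z := z)).2 D.ext.mem; by rwa [D.zc_val] at h), mem_centralizer_singleton_iff.2 ?_⟩
      exact (mem_centralizer_singleton_iff.1 hs.1).symm
    have hker : Nat.card g.ker = 2 := by
      have hk : (g.ker : Set ↥R) = {1, ⟨z, hzR⟩} := by
        ext y
        rw [SetLike.mem_coe, MonoidHom.mem_ker]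
        show Multiplicative.ofAdd (π ⟨y, hRH y.2⟩) = 1 ↔ _
        rw [← ofAdd_zero, Multiplicative.ofAdd.apply_eq_iff_eq, D.link.ker _ (hRQ y), Set.mem_insert_iff,
          Set.mem_singleton_iff]
        refine or_congr ⟨fun h => Subtype.ext (congrArg Subtype.val h :), fun h => by subst h; rfl⟩
          ⟨fun h => Subtype.ext ((congrArg Subtype.val h :).trans D.zc_val), fun h => ?_⟩
        subst h; exact Subtype.ext D.zc_val.symm
      rw [← SetLike.coe_sort_coe, Nat.card_coe_set_eq, hk, Set.ncard_pair]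
      intro h
      have h' : z = 1 := (congrArg Subtype.val h).symm
      exact zc1 (Subtype.ext (D.zc_val.trans h'))
    rw [← Subgroup.card_mul_index g.ker, Subgroup.index_ker, hker, hrange]
  · rcases D.ext.sq _ (mem_E.1 he.1 : (⟨e, hRH he⟩ : ↥(HH z)) ∈ QQ z) with k | k
    · exact Or.inl (congrArg Subtype.val k)
    · exact Or.inr ((congrArg Subtype.val k).trans D.zc_val)
  · have h0 : π ⟨e, hRH he⟩ = 0 := by
      refine hnd _ (hRfix ⟨e, he⟩) fun w hw => ?_
      obtain ⟨y, rfl⟩ := hlift w hw
      have h := D.link.polar _ (hRQ ⟨e, he⟩) _ (hRQ y)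
      rw [if_pos (Subtype.ext (hcen y y.2))] at h
      exact h
    rcases (D.link.ker _ (hRQ ⟨e, he⟩)).1 h0 with k | k
    · exact Or.inl (congrArg Subtype.val k)
    · exact Or.inr ((congrArg Subtype.val k).trans D.zc_val)

end Group

end Cfsg.Agent.JFiveFix4
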