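import Mathlib
import Cfsg.Agent.Lib.GolayBlockM22
import Cfsg.Agent.Lib.JFourM22Facts97
import Cfsg.Agent.Lib.GolayOutM22
import Cfsg.Agent.Lib.J4M22Facts85

/-!
Elements of order five of the automorphism group of the Mathieu group of degree 22: their centralisers
have order ten, and one of them is squared by conjugation with an element of order dividing four.
-/

set_option autoImplicit false

namespace Cfsg.Agent.JFiveM22x4

open Cfsg Cfsg.Agent.GolayBasic Cfsg.Agent.GolayPerm Cfsg.Agent.GolayOutTool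
open Cfsg.Agent.GolayBlockTools Cfsg.Agent.JFourM22Facts97


set_option quotPrecheck false in
local notation "M" => ↥Cfsg.Spor.M22

/-- the element of order five -/
noncomputable def x5 : M := el Spor.M22 GolayBlockDataM22.pR0

theorem orderOf_x5 : orderOf x5 = 5 := (GolayBlockM22.order_iff _).1 (IsConj.refl _)

theorem cent5_length : GolayBlockDataM22.cent5.length = 5 := by decide

theorem card_cent_x5 : Nat.card (Subgroup.centralizer ({x5} : Set M)) = 5 := by
  refine le_antisymm ?_ ?_
  · obtain ⟨hc, hH, hs, hx, -, hsol, -⟩ := GolayBlockM22.cent5_ok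
    obtain ⟨-, -, -, he, -⟩ := GolayBlockM22.reps_ok
    classical
    have hsub : Subtype.val '' (Subgroup.centralizer ({x5} : Set M) : Set M) ⊆
        (((GolayBlockDataM22.cent5.map Prod.fst).map permOf).toFinset : Set (Equiv.Perm GolayPt)) := by
      rintro _ ⟨u, hu, rfl⟩
      have h' := congrArg Subtype.val (Subgroup.mem_centralizer_singleton_iff.1 hu)
      rw [Subgroup.coe_mul, Subgroup.coe_mul, x5, he, coe_el GolayBlockM22.mc_sound hx] at h'
      obtain ⟨s, hs', hus⟩ := exists_msol hc
        (fun T hT => (GolayBlockM22.mc_sound T (List.all_eq_true.1 hH T hT)).2)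
        (by rw [GolayBlockM22.card_H, hs]) hsol u.2 h'
      simp only [List.coe_toFinset, Set.mem_ofPred_eq, List.mem_map]
      obtain ⟨q, hq, rfl⟩ := List.mem_map.1 hs'
      exact ⟨q.1, ⟨q, hq, rfl⟩, hus.symm⟩
    calc Nat.card (Subgroup.centralizer ({x5} : Set M))
        = (Subgroup.centralizer ({x5} : Set M) : Set M).ncard := (Nat.card_coe_set_eq _)
      _ = (Subtype.val '' (Subgroup.centralizer ({x5} : Set M) : Set M)).ncard :=
          (Set.ncard_image_of_injective _ Subtype.val_injective).symm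
      _ ≤ _ := Set.ncard_le_ncard hsub (Finset.finite_toSet _)
      _ ≤ 5 := by
          rw [Set.ncard_coe_finset]
          exact (List.toFinset_card_le _).trans (by rw [List.length_map, List.length_map, cent5_length])
  · calc 5 = Nat.card (Subgroup.zpowers x5) := by rw [Nat.card_zpowers, orderOf_x5]
      _ ≤ _ := Subgroup.card_le_of_le (Subgroup.zpowers_le.2 (Subgroup.mem_centralizer_singleton_iff.2 rfl))

theorem conj_inj : Function.Injective (MulAut.conj : M → MulAut M) := by
  intro a b e
  have hc : a⁻¹ * b ∈ Subgroup.center M := by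
    refine Subgroup.mem_center_iff.2 fun g => ?_
    have e1 : a * g * a⁻¹ = b * g * b⁻¹ := by simpa using congrArg (fun f : MulAut M => f g) e
    calc g * (a⁻¹ * b) = a⁻¹ * (a * g * a⁻¹) * b := by group
      _ = a⁻¹ * (b * g * b⁻¹) * b := by rw [e1]
      _ = a⁻¹ * b * g := by group
  rw [center_eq_bot, Subgroup.mem_bot, inv_mul_eq_one] at hc
  exact hc

theorem index_inn : (Inn M).index = 2 := by
  have := Subgroup.card_mul_index (Inn M)
  rw [card_inn, card_mulAut] at this
  omega

/-- Every element of order five is inner and conjugate to the given one. -/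
theorem exists_rep {q : MulAut M} (hq : orderOf q = 5) :
    ∃ g : M, MulAut.conj g * MulAut.conj x5 * (MulAut.conj g)⁻¹ = q := by
  have hin : q ∈ Inn M := by
    have h2 : q ^ 2 ∈ Inn M := Subgroup.sq_mem_of_index_two index_inn q
    have e : q = (q ^ 2) ^ 3 := by
      rw [← pow_mul, pow_eq_pow_mod (2 * 3) (show q ^ 5 = 1 by rw [← hq]; exact pow_orderOf_eq_one q)]
      norm_num
    rw [e]; exact pow_mem h2 3
  obtain ⟨x, rfl⟩ := hin
  have hx : orderOf x = 5 := (orderOf_injective MulAut.conj conj_inj x).symm.trans hq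
  obtain ⟨g, hg⟩ := isConj_iff.1 ((GolayBlockM22.order_iff x).2 hx)
  exact ⟨g, by rw [← map_mul, ← map_inv, ← map_mul]; exact congrArg _ hg⟩

theorem outer_commutes : ∃ φ : MulAut M, φ ∉ Inn M ∧ φ * MulAut.conj x5 = MulAut.conj x5 * φ := by
  obtain ⟨φ, hφ⟩ : ∃ φ : MulAut M, φ ∉ Inn M := by
    by_contra h
    push Not at h
    have : Inn M = ⊤ := Subgroup.eq_top_iff' _ |>.2 h
    have h2 := index_inn
    rw [this, Subgroup.index_top] at h2
    omega
  have hx : orderOf (φ x5) = 5 := (φ.orderOf_eq x5).trans orderOf_x5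
  obtain ⟨g, hg⟩ := isConj_iff.1 ((GolayBlockM22.order_iff (φ x5)).2 hx)
  refine ⟨(MulAut.conj g)⁻¹ * φ, fun h => hφ ?_, ?_⟩
  · have := mul_mem (show MulAut.conj g ∈ Inn M from ⟨g, rfl⟩) h
    rwa [mul_inv_cancel_left] at this
  · ext y
    simp only [MulAut.mul_apply, MulAut.inv_apply, MulAut.conj_apply, MulAut.conj_symm_apply, map_mul, map_inv]
    rw [show φ x5 = g * x5 * g⁻¹ from hg.symm]
    group

theorem card_cent {q : MulAut M} (hq : orderOf q = 5) :
    Nat.card (Subgroup.centralizer ({q} : Set (MulAut M))) = 10 ∧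
      ¬ Subgroup.centralizer ({q} : Set (MulAut M)) ≤ Inn M := by
  obtain ⟨g, rfl⟩ := exists_rep hq
  obtain ⟨φ, hφ, hc⟩ := outer_commutes
  set c := MulAut.conj g with hcdef
  set q₀ := MulAut.conj x5 with hq₀
  set C := Subgroup.centralizer ({c * q₀ * c⁻¹} : Set (MulAut M)) with hC
  have hout : c * φ * c⁻¹ ∈ C ∧ c * φ * c⁻¹ ∉ Inn M := by
    refine ⟨Subgroup.mem_centralizer_singleton_iff.2 ?_, fun h => hφ ?_⟩
    · calc c * φ * c⁻¹ * (c * q₀ * c⁻¹) = c * (φ * q₀) * c⁻¹ := by group
        _ = c * (q₀ * φ) * c⁻¹ := by rw [hc]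
        _ = c * q₀ * c⁻¹ * (c * φ * c⁻¹) := by group
    · have hcI : c ∈ Inn M := ⟨g, rfl⟩
      have := mul_mem (mul_mem (inv_mem hcI) h) hcI
      rwa [show c⁻¹ * (c * φ * c⁻¹) * c = φ by group] at this
  have hinner : Nat.card ↥(C ⊓ Inn M : Subgroup (MulAut M)) = 5 := by
    rw [← card_cent_x5]
    have e : C ⊓ Inn M = (Subgroup.centralizer ({x5} : Set M)).map
        ((MulAut.conj c).toMonoidHom.comp MulAut.conj) := by
      ext y
      constructor
      · rintro ⟨hy, u, rfl⟩
        refine ⟨g⁻¹ * u * g, ?_, ?_⟩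
        · rw [SetLike.mem_coe, Subgroup.mem_centralizer_singleton_iff]
          have h := Subgroup.mem_centralizer_singleton_iff.1 hy
          apply conj_inj
          simp only [map_mul, map_inv]
          rw [← hcdef, ← hq₀]
          calc c⁻¹ * MulAut.conj u * c * q₀ = c⁻¹ * (MulAut.conj u * (c * q₀ * c⁻¹)) * c := by group
            _ = c⁻¹ * ((c * q₀ * c⁻¹) * MulAut.conj u) * c := by rw [h]
            _ = q₀ * (c⁻¹ * MulAut.conj u * c) := by group
        · simp only [MonoidHom.coe_comp, Function.comp_apply, MulEquiv.coe_toMonoidHom]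
          rw [MulAut.conj_apply (G := MulAut M), map_mul, map_mul, map_inv, ← hcdef]
          group
      · rintro ⟨u, hu, rfl⟩
        refine ⟨?_, g * u * g⁻¹, ?_⟩
        · show _ ∈ Subgroup.centralizer ({c * q₀ * c⁻¹} : Set (MulAut M))
          rw [Subgroup.mem_centralizer_singleton_iff]
          have h := congrArg (MulAut.conj : M → MulAut M) (Subgroup.mem_centralizer_singleton_iff.1 hu)
          rw [map_mul, map_mul, ← hq₀] at h
          simp only [MonoidHom.coe_comp, Function.comp_apply, MulEquiv.coe_toMonoidHom, MulAut.conj_apply]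
          calc c * MulAut.conj u * c⁻¹ * (c * q₀ * c⁻¹) = c * (MulAut.conj u * q₀) * c⁻¹ := by group
            _ = c * (q₀ * MulAut.conj u) * c⁻¹ := by rw [h]
            _ = c * q₀ * c⁻¹ * (c * MulAut.conj u * c⁻¹) := by group
        · simp only [MonoidHom.coe_comp, Function.comp_apply, MulEquiv.coe_toMonoidHom, map_mul, map_inv]
          rw [MulAut.conj_apply, ← hcdef]
    rw [e, Subgroup.card_map_of_injective ((MulAut.conj c).injective.comp conj_inj)]
  have hne : (Inn M).relIndex C ≠ 1 := fun h =>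
    hout.2 ((Subgroup.relIndex_eq_one.1 h) hout.1)
  haveI : (Inn M).Normal := Subgroup.normal_of_index_eq_two index_inn
  have hle : (Inn M).relIndex C ∣ 2 := index_inn ▸ Subgroup.relIndex_dvd_index_of_normal _ _
  have h2 : (Inn M).relIndex C = 2 :=
    ((Nat.dvd_prime Nat.prime_two).1 hle).resolve_left hne
  refine ⟨?_, fun h => hout.2 (h hout.1)⟩
  have := Subgroup.card_mul_index ((Inn M).subgroupOf C)
  rw [show ((Inn M).subgroupOf C).index = 2 from h2, ← Subgroup.inf_subgroupOf_right,
    Nat.card_congr (Subgroup.subgroupOfEquivOfLe inf_le_right).toEquiv, inf_comm, hinner] at this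
  omega

theorem exists_frobenius : ∃ q u : MulAut M, orderOf q = 5 ∧ u ^ 4 = 1 ∧ u * q * u⁻¹ = q ^ 2 := by
  refine ⟨MulAut.conj GolayOutM22.gU, MulAut.conj GolayOutM22.gV, ?_, ?_, ?_⟩
  · rw [orderOf_injective MulAut.conj conj_inj]
    exact orderOf_eq_prime (hp := ⟨by norm_num⟩) J4M22Facts85.gU_pow J4M22Facts85.gU_ne
  · rw [← map_pow, J4M22Facts85.gV_pow, map_one]
  · rw [← map_inv, ← map_mul, ← map_mul, J4M22Facts85.gV_gU, map_pow]

end Cfsg.Agent.JFiveM22x4
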