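import Mathlib
import Cfsg.Agent.Lib.KleinSelfCent
import Cfsg.Agent.Lib.TransferThompson

/-!
A finite group in which every involution has centraliser of order twelve or eight, some of order
twelve and a four group all of whose involutions have centraliser of order eight, is the symmetric
group of degree five.
-/

set_option autoImplicit false
set_option linter.unusedSectionVars false
set_option linter.style.haveILetI false

namespace Cfsg.Agent.JFourSevenGroup30

open Subgroup
open scoped Pointwise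

variable {X : Type*} [Group X] [Finite X]

/-- The order of the centraliser of an element. -/
noncomputable def cc (x : X) : ℕ := Nat.card (centralizer ({x} : Set X))

theorem cc_conj (g x : X) : cc (g * x * g⁻¹) = cc x := by
  have e : centralizer ({g * x * g⁻¹} : Set X) =
      (centralizer ({x} : Set X)).map (MulAut.conj g).toMonoidHom := by
    ext c
    rw [Subgroup.mem_map_equiv, mem_centralizer_singleton_iff, mem_centralizer_singleton_iff,
      MulAut.conj_symm_apply]
    constructor
    · intro h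
      calc g⁻¹ * c * g * x = g⁻¹ * (c * (g * x * g⁻¹)) * g := by group
        _ = x * (g⁻¹ * c * g) := by rw [h]; group
    · intro h
      calc c * (g * x * g⁻¹) = g * (g⁻¹ * c * g * x) * g⁻¹ := by group
        _ = g * x * g⁻¹ * c := by rw [h]; group
  rw [cc, cc, e, card_map_of_injective (MulAut.conj g).injective]

theorem cc_isConj {x y : X} (h : IsConj x y) : cc y = cc x := by
  obtain ⟨g, rfl⟩ := isConj_iff.1 h
  exact cc_conj g x

theorem inv_self {x : X} (h : x * x = 1) : x⁻¹ = x := inv_eq_of_mul_eq_one_right h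

theorem sq_one {x : X} (h : orderOf x = 2) : x * x = 1 := by
  rw [← pow_two, ← h, pow_orderOf_eq_one]

theorem ne_one {x : X} (h : orderOf x = 2) : x ≠ 1 := fun e => by rw [e, orderOf_one] at h; omega

theorem order_two {x : X} (h : x * x = 1) (h1 : x ≠ 1) : orderOf x = 2 :=
  orderOf_eq_prime (by rw [pow_two, h]) h1

/-- The four group of two commuting involutions. -/
def four {a b : X} (ha : a * a = 1) (hb : b * b = 1) (hab : Commute a b) : Subgroup X where
  carrier := {1, a, b, a * b}
  one_mem' := by simp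
  mul_mem' := by
    intro x y hx hy
    simp only [Set.mem_insert_iff, Set.mem_singleton_iff] at hx hy ⊢
    have e1 : a * (a * b) = b := by rw [← mul_assoc, ha, one_mul]
    have e2 : b * a = a * b := hab.symm.eq
    have e3 : b * (a * b) = a := by rw [← mul_assoc, e2, mul_assoc, hb, mul_one]
    have e4 : a * b * a = b := by rw [mul_assoc, e2, e1]
    have e5 : a * b * b = a := by rw [mul_assoc, hb, mul_one]
    have e6 : a * b * (a * b) = 1 := by rw [mul_assoc, e3, ha]
    rcases hx with rfl | rfl | rfl | rfl <;> rcases hy with rfl | rfl | rfl | rfl <;>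
      simp [ha, hb, e1, e2, e3, e4, e5, e6]
  inv_mem' := by
    intro x hx
    simp only [Set.mem_insert_iff, Set.mem_singleton_iff] at hx ⊢
    have e : (a * b)⁻¹ = a * b := by rw [mul_inv_rev, inv_self ha, inv_self hb, hab.eq]
    rcases hx with rfl | rfl | rfl | rfl <;> simp [inv_self ha, inv_self hb, e]

theorem mem_four {a b : X} {ha : a * a = 1} {hb : b * b = 1} {hab : Commute a b} {x : X} :
    x ∈ four ha hb hab ↔ x = 1 ∨ x = a ∨ x = b ∨ x = a * b := by
  show x ∈ ({1, a, b, a * b} : Set X) ↔ _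
  simp

theorem card_four {a b : X} (ha : a * a = 1) (hb : b * b = 1) (hab : Commute a b) (ha1 : a ≠ 1)
    (hb1 : b ≠ 1) (hne : a ≠ b) : Nat.card (four ha hb hab) = 4 := by
  classical
  have e : (four ha hb hab : Set X) = ({1, a, b, a * b} : Finset X) := by
    ext x; simp [mem_four]
  have e1 : a ≠ a * b := fun h => hb1 (by simpa using h)
  have e2 : b ≠ a * b := fun h => ha1 (by simpa using h)
  have e3 : (1 : X) ≠ a * b := fun h => hne (by
    rw [← inv_self hb]; exact mul_eq_one_iff_eq_inv.1 h.symm)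
  rw [← SetLike.coe_sort_coe, Nat.card_coe_set_eq, e, Set.ncard_coe_finset]
  rw [Finset.card_insert_of_notMem (by simp [ha1.symm, hb1.symm, e3]),
    Finset.card_insert_of_notMem (by simp [hne, e1]), Finset.card_pair e2]

/-- The hypotheses. -/
structure Hyp (z a b : X) : Prop where
  hz : orderOf z = 2
  hzc : cc z = 12
  ha : orderOf a = 2
  hb : orderOf b = 2
  hab : Commute a b
  hne : a ≠ b
  hac : cc a = 8
  hbc : cc b = 8
  habc : cc (a * b) = 8
  hall : ∀ x : X, orderOf x = 2 → cc x = 12 ∨ cc x = 8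

variable {z a b : X} (D : Hyp z a b)
include D

theorem hab2 : orderOf (a * b) = 2 := by
  refine order_two ?_ fun e => D.hne ?_
  · rw [show a * b * (a * b) = a * (b * a) * b by group, D.hab.symm.eq,
      show a * (a * b) * b = (a * a) * (b * b) by group, sq_one D.ha, sq_one D.hb, one_mul]
  · rw [← inv_self (sq_one D.hb)]
    exact mul_eq_one_iff_eq_inv.1 e

/-- The four group. -/
def AA : Subgroup X := four (sq_one D.ha) (sq_one D.hb) D.hab

theorem mem_AA {x : X} : x ∈ AA D ↔ x = 1 ∨ x = a ∨ x = b ∨ x = a * b := mem_four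

theorem AA_cc {x : X} (hx : x ∈ AA D) (h1 : x ≠ 1) : orderOf x = 2 ∧ cc x = 8 := by
  rcases (mem_AA D).1 hx with rfl | rfl | rfl | rfl
  exacts [absurd rfl h1, ⟨D.ha, D.hac⟩, ⟨D.hb, D.hbc⟩, ⟨hab2 D, D.habc⟩]

theorem AA_comm {x y : X} (hx : x ∈ AA D) (hy : y ∈ AA D) : Commute x y := by
  have key : ∀ w ∈ AA D, Commute w a ∧ Commute w b := by
    intro w hw
    rcases (mem_AA D).1 hw with rfl | rfl | rfl | rfl
    exacts [⟨.one_left _, .one_left _⟩, ⟨.refl _, D.hab⟩, ⟨D.hab.symm, .refl _⟩,
      ⟨(Commute.refl a).mul_left D.hab.symm, D.hab.mul_left (.refl b)⟩]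
  obtain ⟨h1, h2⟩ := key x hx
  rcases (mem_AA D).1 hy with rfl | rfl | rfl | rfl
  exacts [.one_right _, h1, h2, h1.mul_right h2]

theorem card_AA : Nat.card (AA D) = 4 :=
  card_four _ _ _ (ne_one D.ha) (ne_one D.hb) D.hne

/-- Any two involutions of the four group determine it. -/
theorem three {x y w : X} (hx : x ∈ AA D) (hy : y ∈ AA D) (hx1 : x ≠ 1) (hy1 : y ≠ 1) (hxy : x ≠ y)
    (hw : w ∈ AA D) : w = 1 ∨ w = x ∨ w = y ∨ w = x * y := by
  have hx2 := sq_one (AA_cc D hx hx1).1
  have hy2 := sq_one (AA_cc D hy hy1).1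
  have hle : four hx2 hy2 (AA_comm D hx hy) ≤ AA D := by
    intro v hv
    rcases mem_four.1 hv with rfl | rfl | rfl | rfl
    exacts [one_mem _, hx, hy, mul_mem hx hy]
  have he := eq_of_le_of_card_ge hle (by rw [card_AA D, card_four _ _ _ hx1 hy1 hxy])
  exact mem_four.1 (he.symm ▸ hw)

theorem cent_pGroup {x : X} (hx : x ∈ AA D) (h1 : x ≠ 1) :
    IsPGroup 2 (centralizer ({x} : Set X)) := IsPGroup.of_card (n := 3) (AA_cc D hx h1).2

theorem eight_dvd : 8 ∣ Nat.card X := D.hac ▸ card_subgroup_dvd_card _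

theorem sylow_card (W : Sylow 2 X) : Nat.card (W : Subgroup X) = 8 := by
  haveI : Fact (Nat.Prime 2) := ⟨Nat.prime_two⟩
  obtain ⟨k, hk⟩ := IsPGroup.iff_card.1 W.isPGroup'
  have h8 : 2 ^ 3 ∣ Nat.card (W : Subgroup X) := by
    obtain ⟨W', hW'⟩ := (cent_pGroup D ((mem_AA D).2 (Or.inr (Or.inl rfl)))
      (ne_one D.ha)).exists_le_sylow
    rw [W.card_eq_multiplicity, ← W'.card_eq_multiplicity]
    have := card_dvd_of_le hW'
    rwa [show Nat.card (centralizer ({a} : Set X)) = 2 ^ 3 from D.hac] at this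
  haveI : Nontrivial (W : Subgroup X) := by
    rw [← Finite.one_lt_card_iff_nontrivial]
    exact lt_of_lt_of_le (by norm_num) (Nat.le_of_dvd Nat.card_pos h8)
  have hc := W.isPGroup'.center_nontrivial
  obtain ⟨y, hy⟩ := exists_prime_orderOf_dvd_card' (G := center (W : Subgroup X)) 2 (by
    obtain ⟨j, hj, hj'⟩ := (IsPGroup.nontrivial_iff_card (W.isPGroup'.to_subgroup _)).1 hc
    rw [hj']; exact dvd_pow_self _ (by omega))
  have hy2 : orderOf ((y : (W : Subgroup X)) : X) = 2 := by
    rw [Subgroup.orderOf_coe, Subgroup.orderOf_coe, hy]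
  have hle : (W : Subgroup X) ≤ centralizer ({((y : (W : Subgroup X)) : X)} : Set X) :=
    fun w hw => mem_centralizer_singleton_iff.2
      (congrArg Subtype.val ((mem_center_iff.1 y.2) ⟨w, hw⟩))
  have hd := card_dvd_of_le hle
  rw [hk] at hd h8 ⊢
  have hd' : 2 ^ k ∣ 12 ∨ 2 ^ k ∣ 8 := by
    rcases D.hall _ hy2 with e | e
    · left; rw [cc] at e; rwa [e] at hd
    · right; rw [cc] at e; rwa [e] at hd
  have hk3 : 3 ≤ k := (Nat.pow_dvd_pow_iff_le_right (by norm_num)).1 h8
  rcases hd' with h | h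
  · exact absurd ((pow_dvd_pow 2 hk3).trans h) (by norm_num)
  · have : k ≤ 3 := (Nat.pow_dvd_pow_iff_le_right (by norm_num)).1 (h.trans (by norm_num : 8 ∣ 2 ^ 3))
    rw [show k = 3 by omega]; norm_num

/-- A Sylow subgroup containing the four group, and a conjugate of `z` in it. -/
theorem setup : ∃ (W : Sylow 2 X) (z' : X), AA D ≤ (W : Subgroup X) ∧ IsConj z z' ∧
    z' ∈ (W : Subgroup X) ∧ z' ∉ AA D ∧ orderOf z' = 2 ∧ cc z' = 12 ∧
    ∃ x ∈ AA D, x ≠ 1 ∧ z' * x * z'⁻¹ ≠ x := by
  haveI : Fact (Nat.Prime 2) := ⟨Nat.prime_two⟩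
  obtain ⟨W, hW⟩ := (IsPGroup.of_card (n := 2) (card_AA D) : IsPGroup 2 (AA D)).exists_le_sylow
  obtain ⟨V, hV⟩ := (IsPGroup.of_card (n := 1) (by rw [Nat.card_zpowers, D.hz, pow_one]) :
    IsPGroup 2 (zpowers z)).exists_le_sylow
  obtain ⟨g, hg⟩ := MulAction.exists_smul_eq X V W
  have hz' : g * z * g⁻¹ ∈ (W : Subgroup X) := by
    rw [← hg, Sylow.coe_subgroup_smul]
    exact Subgroup.smul_mem_pointwise_smul _ _ _ (hV (mem_zpowers z))
  have hcz : cc (g * z * g⁻¹) = 12 := by rw [cc_conj, D.hzc]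
  have ho : orderOf (g * z * g⁻¹) = 2 := by
    rw [← MulAut.conj_apply]
    exact (orderOf_injective (MulAut.conj g).toMonoidHom (MulAut.conj g).injective z).trans D.hz
  have hnA : g * z * g⁻¹ ∉ AA D := fun h => by
    have := (AA_cc D h (ne_one ho)).2; omega
  refine ⟨W, g * z * g⁻¹, hW, isConj_iff.2 ⟨g, rfl⟩, hz', hnA, ho, hcz, ?_⟩
  set y := g * z * g⁻¹
  by_contra hno
  push Not at hno
  have hsub : ((W : Subgroup X) : Set X) ⊆ (centralizer ({y} : Set X) : Set X) := by
    have hA : AA D ⊔ zpowers y ≤ centralizer ({y} : Set X) := by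
      refine sup_le (fun x hx => mem_centralizer_singleton_iff.2 ?_)
        (zpowers_le.2 (mem_centralizer_singleton_iff.2 rfl))
      by_cases h1 : x = 1
      · rw [h1, one_mul, mul_one]
      · exact (mul_inv_eq_iff_eq_mul.1 (hno x hx h1)).symm
    have hle : AA D ⊔ zpowers y ≤ (W : Subgroup X) := sup_le hW (zpowers_le.2 hz')
    have hd := card_dvd_of_le hle
    rw [sylow_card D] at hd
    have hlt : AA D < AA D ⊔ zpowers y :=
      lt_of_le_not_ge le_sup_left fun h => hnA (h (mem_sup_right (mem_zpowers y)))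
    have hgt : Nat.card (AA D) < Nat.card ↥(AA D ⊔ zpowers y) := by
      by_contra hh
      push Not at hh
      exact hlt.ne (eq_of_le_of_card_ge hlt.le hh)
    rw [card_AA D] at hgt
    have h8 : Nat.card ↥(AA D ⊔ zpowers y) = 8 := by
      have := Nat.le_of_dvd (by norm_num) hd
      obtain ⟨m, hm⟩ := hd
      have : m ≤ 1 := by nlinarith
      interval_cases m <;> omega
    have he : AA D ⊔ zpowers y = (W : Subgroup X) :=
      eq_of_le_of_card_ge hle (by rw [h8, sylow_card D])
    exact fun x hx => hA (he.symm ▸ hx)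
  have := card_dvd_of_le (H := (W : Subgroup X)) (K := centralizer ({y} : Set X)) hsub
  rw [sylow_card D, show Nat.card (centralizer ({y} : Set X)) = 12 from hcz] at this
  norm_num at this

/-- No non-trivial normal subgroup has odd order. -/
theorem no_odd (K : Subgroup X) [K.Normal] (hK : Odd (Nat.card K)) : K = ⊥ := by
  refine KleinSelfCent.eq_bot_of_four K hK (sq_one D.ha) (sq_one D.hb) D.hab ?_
  intro u hu k hk huk
  have hu' : u ∈ AA D ∧ u ≠ 1 := by
    rcases hu with rfl | rfl | rfl
    exacts [⟨(mem_AA D).2 (by simp), ne_one D.ha⟩, ⟨(mem_AA D).2 (by simp), ne_one D.hb⟩,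
      ⟨(mem_AA D).2 (by simp), ne_one (hab2 D)⟩]
  have h1 : orderOf k ∣ Nat.card K := by
    have := orderOf_dvd_natCard (⟨k, hk⟩ : K)
    rwa [Subgroup.orderOf_mk] at this
  have h2 : orderOf k ∣ 2 ^ 3 := by
    have := orderOf_dvd_natCard (⟨k, mem_centralizer_singleton_iff.2 huk.symm.eq⟩ :
      centralizer ({u} : Set X))
    rwa [Subgroup.orderOf_mk, show Nat.card (centralizer ({u} : Set X)) = 2 ^ 3 from
      (AA_cc D hu'.1 hu'.2).2] at this
  exact orderOf_eq_one_iff.1 (Nat.eq_one_of_dvd_coprimes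
    ((Nat.coprime_two_left.2 hK).pow_left 3) h2 h1)

/-- A normal subgroup of index two with a normal 2-complement has order four. -/
theorem complement_small (M : Subgroup X) [M.Normal] (hM : M.index = 2) (P : Sylow 2 M)
    (hP : normalizer ((P : Subgroup M) : Set M) ≤ centralizer ((P : Subgroup M) : Set M)) :
    False := by
  haveI : Fact (Nat.Prime 2) := ⟨Nat.prime_two⟩
  set O := (MonoidHom.transferSylow P hP).ker with hO
  have hc : O.IsComplement' (P : Subgroup M) := MonoidHom.ker_transferSylow_isComplement' P hP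
  have hodd : Odd (Nat.card O) := by
    rw [Nat.odd_iff, ← Nat.two_dvd_ne_zero]
    intro h2
    obtain ⟨u, hu⟩ := exists_prime_orderOf_dvd_card' (G := O) 2 h2
    have hp : IsPGroup 2 (zpowers (u : M)) :=
      IsPGroup.of_card (n := 1) (by rw [Nat.card_zpowers, Subgroup.orderOf_coe, hu, pow_one])
    have hd := MonoidHom.ker_transferSylow_disjoint P hP _ hp
    have : (u : M) ∈ (⊥ : Subgroup M) := disjoint_iff.1 hd ▸ ⟨u.2, mem_zpowers _⟩
    rw [mem_bot] at this
    rw [show u = 1 from Subtype.ext this, orderOf_one] at hu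
    omega
  have hOn : (O.map M.subtype).Normal := by
    refine ⟨?_⟩
    rintro _ ⟨k, hk, rfl⟩ g
    have hmem : g * (k : X) * g⁻¹ ∈ M := ‹M.Normal›.conj_mem _ k.2 g
    refine ⟨⟨_, hmem⟩, ?_, rfl⟩
    have hk1 : k ^ Nat.card O = 1 := by
      have := pow_card_eq_one' (x := (⟨k, hk⟩ : O))
      exact congrArg Subtype.val this
    have hk2 : (⟨_, hmem⟩ : M) ^ Nat.card O = 1 := by
      apply Subtype.ext
      rw [SubmonoidClass.coe_pow, OneMemClass.coe_one, conj_pow,
        ← SubmonoidClass.coe_pow, hk1, OneMemClass.coe_one, mul_one, mul_inv_cancel]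
    show MonoidHom.transferSylow P hP ⟨_, hmem⟩ = 1
    obtain ⟨j, hj⟩ := P.isPGroup' (MonoidHom.transferSylow P hP ⟨_, hmem⟩)
    refine orderOf_eq_one_iff.1 (Nat.eq_one_of_dvd_coprimes
      ((Nat.coprime_two_left.2 hodd).pow_left j) (orderOf_dvd_of_pow_eq_one hj)
      (orderOf_dvd_of_pow_eq_one ?_))
    rw [← map_pow, hk2, map_one]
  haveI := hOn
  have hbot := no_odd D (O.map M.subtype)
    (by rwa [card_map_of_injective (Subgroup.subtype_injective M)])
  rw [Subgroup.map_eq_bot_iff_of_injective _ (Subgroup.subtype_injective M)] at hbot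
  have h4 : Nat.card (P : Subgroup M) = Nat.card M := by
    have := hc.card_mul_card
    rwa [hbot, card_bot, one_mul] at this
  have hX : Nat.card M * 2 = Nat.card X := by rw [← hM, card_mul_index]
  obtain ⟨j, hj⟩ := IsPGroup.iff_card.1 P.isPGroup'
  have h12 : 3 ∣ Nat.card X := by
    refine Dvd.dvd.trans ?_ (card_subgroup_dvd_card (centralizer ({z} : Set X)))
    rw [show Nat.card (centralizer ({z} : Set X)) = 12 from D.hzc]
    norm_num
  rw [← hX, ← h4, hj, ← pow_succ] at h12
  exact absurd (Nat.prime_three.dvd_of_dvd_pow h12) (by norm_num)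

theorem index_two_AA (M : Subgroup X) [M.Normal] (hM : M.index = 2) (W : Sylow 2 X)
    (hW : AA D ≤ (W : Subgroup X)) {z' : X} (hzW : z' ∈ (W : Subgroup X)) (ho : orderOf z' = 2)
    (hzM : z' ∉ M) {x : X} (hx : x ∈ AA D) (hx1 : x ≠ 1) (hxz : z' * x * z'⁻¹ ≠ x) :
    AA D ≤ M := by
  haveI : Fact (Nat.Prime 2) := ⟨Nat.prime_two⟩
  by_contra hAM
  have hi : ∀ {u v : X}, u * v ∈ M ↔ (u ∈ M ↔ v ∈ M) := Subgroup.mul_mem_iff_of_index_two hM
  set y := z' * x * z'⁻¹ with hy
  have hsub : AA D = AA D ⊓ (W : Subgroup X) := (inf_eq_left.2 hW).symm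
  -- the four group is normal in the Sylow subgroup
  have hAn : ((AA D).subgroupOf (W : Subgroup X)).Normal := by
    apply Subgroup.normal_of_index_eq_two
    have h := card_mul_index ((AA D).subgroupOf (W : Subgroup X))
    rw [Nat.card_congr (Subgroup.subgroupOfEquivOfLe hW).toEquiv, card_AA D, sylow_card D] at h
    omega
  have hyA : y ∈ AA D := hAn.conj_mem ⟨x, hW hx⟩ hx ⟨z', hzW⟩
  have hy1 : y ≠ 1 := fun e => hx1 (conj_eq_one_iff.1 (hy ▸ e))
  have hcA : x * y ∈ AA D := mul_mem hx hyA
  have hxy : x * y ≠ 1 := fun e => hxz (by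
    rw [← inv_self (sq_one (AA_cc D hx hx1).1)]; exact (inv_eq_of_mul_eq_one_right e).symm)
  have hyM : y ∈ M ↔ x ∈ M := by
    rw [hy]
    constructor
    · intro h
      have := ‹M.Normal›.conj_mem _ h z'⁻¹
      simpa [mul_assoc] using this
    · exact fun h => ‹M.Normal›.conj_mem _ h z'
  have hcM : x * y ∈ M := by rw [hi]; exact hyM.symm
  have hxM : x ∉ M := by
    intro hxM
    apply hAM
    have hall : ∀ w ∈ AA D, w ≠ 1 → w = x ∨ w = y ∨ w = x * y := fun w hw hw1 =>
      (three D hx hyA hx1 hy1 (fun e => hxz e.symm) hw).resolve_left hw1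
    intro w hw
    by_cases hw1 : w = 1
    · rw [hw1]; exact M.one_mem
    rcases hall w hw hw1 with rfl | rfl | rfl
    exacts [hxM, hyM.2 hxM, hcM]
  -- the intersection with the Sylow subgroup is cyclic
  set m := z' * x with hm
  have hmM : m ∈ M := by rw [hm, hi]; exact iff_of_false hzM hxM
  have hmW : m ∈ (W : Subgroup X) := mul_mem hzW (hW hx)
  have hm2 : m ^ 2 = y * x := by
    calc m ^ 2 = z' * x * z' * x := by rw [pow_two, hm]; group
      _ = z' * x * z'⁻¹ * x := by rw [inv_self (sq_one ho)]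
      _ = y * x := by rw [hy]
  have hm2' : m ^ 2 = x * y := hm2.trans (AA_comm D hyA hx).eq
  have hm4 : orderOf m = 4 := by
    refine orderOf_eq_prime_pow (p := 2) (n := 1) ?_ ?_
    · rw [pow_one, hm2']; exact hxy
    · rw [show 2 ^ (1 + 1) = 2 * 2 by norm_num, pow_mul, hm2', pow_two]
      exact sq_one (AA_cc D hcA hxy).1
  set Q := (zpowers m).subgroupOf M with hQ
  have hQc : Nat.card Q = 4 := by
    rw [Nat.card_congr (Subgroup.subgroupOfEquivOfLe (zpowers_le.2 hmM)).toEquiv, Nat.card_zpowers,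
      hm4]
  obtain ⟨P, hP⟩ := (IsPGroup.of_card (n := 2) hQc : IsPGroup 2 Q).exists_le_sylow
  have hPQ : Q = (P : Subgroup M) := by
    refine eq_of_le_of_card_ge hP ?_
    obtain ⟨j, hj⟩ := IsPGroup.iff_card.1 P.isPGroup'
    obtain ⟨V, hV⟩ := (P.isPGroup'.map M.subtype).exists_le_sylow
    have hd := card_dvd_of_le hV
    rw [card_map_of_injective (Subgroup.subtype_injective M), hj, sylow_card D] at hd
    have hj3 : j ≤ 3 := (Nat.pow_dvd_pow_iff_le_right (by norm_num)).1
      (hd.trans (by norm_num : 8 ∣ 2 ^ 3))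
    rw [hQc, hj]
    by_contra hh
    push Not at hh
    have : j = 3 := by
      interval_cases j <;> first | rfl | norm_num at hh
    subst this
    have h16 : 2 ^ 4 ∣ Nat.card X := by
      rw [← card_mul_index M, hM, pow_succ]
      exact Nat.mul_dvd_mul (hj ▸ card_subgroup_dvd_card _) dvd_rfl
    obtain ⟨U, hU⟩ := Sylow.exists_subgroup_card_pow_prime 2 h16
    obtain ⟨U', hU'⟩ := (IsPGroup.of_card hU : IsPGroup 2 U).exists_le_sylow
    have := card_dvd_of_le hU'
    rw [hU, sylow_card D] at this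
    norm_num at this
  have hcyc : IsCyclic (P : Subgroup M) := by
    rw [← hPQ]
    exact (Subgroup.subgroupOfEquivOfLe (zpowers_le.2 hmM)).symm.isCyclic.1 inferInstance
  have hmin : (Nat.card M).minFac = 2 :=
    (Nat.minFac_eq_two_iff _).2 ((dvd_trans (by norm_num) (dvd_of_eq hQc.symm : 4 ∣ Nat.card Q)).trans
      (card_subgroup_dvd_card Q))
  exact complement_small D M hM P (IsCyclic.normalizer_le_centralizer hmin hcyc)

/-- The normal subgroup of index two. -/
theorem exists_half : ∃ (M : Subgroup X) (z' : X), M.Normal ∧ M.index = 2 ∧ AA D ≤ M ∧ z' ∉ M ∧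
    IsConj z z' ∧ cc z' = 12 ∧ ∀ u, orderOf u = 2 → cc u = 12 → IsConj z u := by
  haveI : Fact (Nat.Prime 2) := ⟨Nat.prime_two⟩
  obtain ⟨W, z', hW, hconj, hzW, hzA, ho, hcz, x, hx, hx1, hxz⟩ := setup D
  have hrel : (AA D).relIndex (W : Subgroup X) = 2 := by
    have h := card_mul_index ((AA D).subgroupOf (W : Subgroup X))
    rw [Nat.card_congr (Subgroup.subgroupOfEquivOfLe hW).toEquiv, card_AA D, sylow_card D] at h
    show ((AA D).subgroupOf (W : Subgroup X)).index = 2
    omega
  obtain ⟨M, hMn, hM, hzM⟩ := TransferThompson.thompson_transfer W (AA D) hW hrel ho hzW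
    (fun g h => by
      have h1 : g * z' * g⁻¹ ≠ 1 := fun e => ne_one ho (conj_eq_one_iff.1 e)
      have := (AA_cc D h h1).2
      rw [cc_conj, hcz] at this
      omega)
  haveI := hMn
  have hAM := index_two_AA D M hM W hW hzW ho hzM hx hx1 hxz
  refine ⟨M, z', hMn, hM, hAM, hzM, hconj, hcz, fun u hu hcu => ?_⟩
  obtain ⟨U, hU⟩ := (IsPGroup.of_card (n := 1) (by rw [Nat.card_zpowers, hu, pow_one]) :
    IsPGroup 2 (zpowers u)).exists_le_sylow
  obtain ⟨g, hg⟩ := MulAction.exists_smul_eq X U W
  have huW : g * u * g⁻¹ ∈ (W : Subgroup X) := by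
    rw [← hg, Sylow.coe_subgroup_smul]
    exact Subgroup.smul_mem_pointwise_smul _ _ _ (hU (mem_zpowers u))
  set u' := g * u * g⁻¹ with hu'
  have huu : IsConj u u' := isConj_iff.2 ⟨g, rfl⟩
  have hcu' : cc u' = 12 := by rw [cc_isConj huu, hcu]
  have hu'2 : u' * u' = 1 := by
    rw [hu', show g * u * g⁻¹ * (g * u * g⁻¹) = g * (u * u) * g⁻¹ by group, sq_one hu, mul_one,
      mul_inv_cancel]
  have hu'1 : u' ≠ 1 := fun e => ne_one hu (conj_eq_one_iff.1 e)
  have huA : u' ∉ AA D := fun h => by
    have := (AA_cc D h hu'1).2; omega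
  have hiW : ((AA D).subgroupOf (W : Subgroup X)).index = 2 := hrel
  obtain ⟨α, hα, hue⟩ : ∃ α ∈ AA D, u' = z' * α := by
    refine ⟨z'⁻¹ * u', ?_, (mul_inv_cancel_left _ _).symm⟩
    have := (Subgroup.mul_mem_iff_of_index_two hiW (a := (⟨z'⁻¹, inv_mem hzW⟩ : (W : Subgroup X)))
      (b := ⟨u', huW⟩)).2 (iff_of_false
        (fun h => hzA (by simpa using inv_mem (mem_subgroupOf.1 h)))
        (fun h => huA (mem_subgroupOf.1 h)))
    exact mem_subgroupOf.1 this
  by_cases hα1 : α = 1
  · rw [hα1, mul_one] at hue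
    exact hconj.trans (hue ▸ huu.symm)
  have hα2 := sq_one (AA_cc D hα hα1).1
  have hzα : z' * α * z'⁻¹ = α := by
    have e : z' * α * (z' * α) = 1 := hue ▸ hu'2
    rw [inv_self (sq_one ho)]
    calc z' * α * z' = z' * α * (z' * α) * α⁻¹ := by group
      _ = α := by rw [e, one_mul, inv_self hα2]
  -- the other two elements are swapped
  set y := z' * x * z'⁻¹ with hy
  have hAn : ((AA D).subgroupOf (W : Subgroup X)).Normal := Subgroup.normal_of_index_eq_two hiW
  have hyA : y ∈ AA D := hAn.conj_mem ⟨x, hW hx⟩ hx ⟨z', hzW⟩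
  have hy1 : y ≠ 1 := fun e => hx1 (conj_eq_one_iff.1 (hy ▸ e))
  have hαe : α = x * y := by
    have hne1 : α ≠ x := fun e => hxz (by show z' * x * z'⁻¹ = x; rw [← e]; exact hzα)
    have hne2 : α ≠ y := by
      intro e
      apply hxz
      have h3 : z' * y * z'⁻¹ = y := by rw [← e]; exact hzα
      rw [hy] at h3
      calc z' * x * z'⁻¹ = z'⁻¹ * (z' * (z' * x * z'⁻¹) * z'⁻¹) * z' := by group
        _ = z'⁻¹ * (z' * x * z'⁻¹) * z' := by rw [h3]
        _ = x := by group
    rcases three D hx hyA hx1 hy1 (fun e => hxz e.symm) hα with h | h | h | h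
    exacts [absurd h hα1, absurd h hne1, absurd h hne2, h]
  have he : x * z' * x⁻¹ = u' := by
    rw [hue, hαe, hy, inv_self (sq_one ho), inv_self (sq_one (AA_cc D hx hx1).1)]
    have hc := (AA_comm D hx hyA).eq
    rw [hy, inv_self (sq_one ho)] at hc
    calc x * z' * x = z' * (z' * x * z' * x) := by
          simp only [← mul_assoc, sq_one ho, one_mul]
      _ = z' * (x * (z' * x * z')) := by rw [hc]
  exact hconj.trans ((isConj_iff.2 ⟨x, he⟩).trans huu.symm)

theorem recognition : Nonempty (X ≃* Equiv.Perm (Fin 5)) ∧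
    ∀ u : X, orderOf u = 2 → cc u = 12 → IsConj z u := by
  classical
  haveI : Fact (Nat.Prime 2) := ⟨Nat.prime_two⟩
  haveI : Fact (Nat.Prime 3) := ⟨Nat.prime_three⟩
  obtain ⟨M, z', hMn, hM, hAM, hzM, hconj, hcz, hclass⟩ := exists_half D
  haveI := hMn
  refine ⟨?_, hclass⟩
  have hX : Nat.card M * 2 = Nat.card X := by rw [← hM, card_mul_index]
  have hno16 : ¬ 16 ∣ Nat.card X := by
    intro h
    obtain ⟨U, hU⟩ := Sylow.exists_subgroup_card_pow_prime (G := X) 2 (n := 4) h
    obtain ⟨U', hU'⟩ := (IsPGroup.of_card hU : IsPGroup 2 U).exists_le_sylow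
    have := card_dvd_of_le hU'
    rw [hU, sylow_card D] at this
    norm_num at this
  have h8 : ¬ 8 ∣ Nat.card M := fun h => hno16 (hX ▸ Nat.mul_dvd_mul h (dvd_refl 2))
  -- centralisers inside the half
  have hcent : ∀ x ∈ AA D, x ≠ 1 → M ⊓ centralizer ({x} : Set X) = AA D := by
    intro x hx h1
    symm
    refine eq_of_le_of_card_ge (le_inf hAM fun y hy => mem_centralizer_singleton_iff.2
      (AA_comm D hy hx).eq) ?_
    have hd := card_dvd_of_le (inf_le_right : M ⊓ centralizer ({x} : Set X) ≤ _)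
    rw [show Nat.card (centralizer ({x} : Set X)) = 8 from (AA_cc D hx h1).2] at hd
    have hd2 : Nat.card ↥(M ⊓ centralizer ({x} : Set X)) ∣ Nat.card M := card_dvd_of_le inf_le_left
    rw [card_AA D]
    have hle := Nat.le_of_dvd (by norm_num) hd
    by_contra hlt
    push Not at hlt
    obtain ⟨k, hk⟩ := hd
    generalize hc : Nat.card ↥(M ⊓ centralizer ({x} : Set X)) = c at *
    interval_cases c <;> omega
  set A' := (AA D).subgroupOf M with hA'
  have hA'c : Nat.card A' = 4 := by
    rw [Nat.card_congr (Subgroup.subgroupOfEquivOfLe hAM).toEquiv, card_AA D]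
  obtain ⟨P, hP⟩ := (IsPGroup.of_card (n := 2) hA'c : IsPGroup 2 A').exists_le_sylow
  have hPA : A' = (P : Subgroup M) := by
    refine eq_of_le_of_card_ge hP ?_
    obtain ⟨j, hj⟩ := IsPGroup.iff_card.1 P.isPGroup'
    rw [hA'c, hj]
    by_contra hlt
    push Not at hlt
    have : 3 ≤ j := by
      by_contra hj3
      push Not at hj3
      interval_cases j <;> norm_num at hlt
    exact h8 (((by norm_num : 8 ∣ 2 ^ 3).trans (pow_dvd_pow 2 this)).trans
      (hj ▸ card_subgroup_dvd_card _))
  -- some element permutes the three involutions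
  obtain ⟨n, hnN, hnC⟩ : ∃ n : M, n ∈ normalizer ((P : Subgroup M) : Set M) ∧
      n ∉ centralizer ((P : Subgroup M) : Set M) := by
    by_contra h
    push Not at h
    exact complement_small D M hM P h
  have hmap : ∀ x ∈ AA D, (n : X) * x * (n : X)⁻¹ ∈ AA D := by
    intro x hx
    have h1 : (⟨x, hAM hx⟩ : M) ∈ (P : Subgroup M) := hPA ▸ hx
    have h2 := (mem_normalizer_iff.1 hnN _).1 h1
    rw [← hPA] at h2
    exact h2
  have hfix : ∀ x ∈ AA D, x ≠ 1 → (n : X) * x * (n : X)⁻¹ ≠ x := by
    intro x hx h1 he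
    apply hnC
    have hn' : (n : X) ∈ AA D := by
      rw [← hcent x hx h1]
      exact ⟨n.2, mem_centralizer_singleton_iff.2 (mul_inv_eq_iff_eq_mul.1 he)⟩
    intro y hy
    rw [← hPA] at hy
    exact Subtype.ext (AA_comm D hy hn').eq
  have hinj : ∀ x y : X, (n : X) * x * (n : X)⁻¹ = (n : X) * y * (n : X)⁻¹ → x = y :=
    fun x y e => mul_left_cancel (mul_right_cancel e)
  have hAconj : ∀ x ∈ AA D, x ≠ 1 → ∃ g : M, (g : X) * x * (g : X)⁻¹ = a := by
    intro x hx h1
    by_cases hxa : x = a
    · exact ⟨1, by simp [hxa]⟩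
    have hy1 : (n : X) * x * (n : X)⁻¹ ≠ 1 := fun e => h1 (conj_eq_one_iff.1 e)
    by_cases hya : (n : X) * x * (n : X)⁻¹ = a
    · exact ⟨n, hya⟩
    set y := (n : X) * x * (n : X)⁻¹ with hy
    set w := (n : X) * y * (n : X)⁻¹ with hw
    have hyA : y ∈ AA D := hmap x hx
    have hwA : w ∈ AA D := hmap y hyA
    have hwy : w ≠ y := hfix y hyA hy1
    have hw1 : w ≠ 1 := fun e => hy1 (conj_eq_one_iff.1 (hw ▸ e))
    have hyx : y ≠ x := hfix x hx h1
    have haA' : a ∈ AA D := (mem_AA D).2 (Or.inr (Or.inl rfl))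
    refine ⟨n * n, ?_⟩
    have hwa : w = a := by
      by_contra hwa
      have hwx : w = x := by
        rcases three D hx hyA h1 hy1 hyx.symm hwA with h | h | h | h
        · exact absurd h hw1
        · exact h
        · exact absurd h hwy
        · exfalso
          rcases three D hx hyA h1 hy1 hyx.symm haA' with h' | h' | h' | h'
          exacts [ne_one D.ha h', hxa h'.symm, hya h'.symm, hwa (h.trans h'.symm)]
      -- then the third involution is fixed
      have h3 : x * y ∈ AA D := mul_mem hx hyA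
      have h31 : x * y ≠ 1 := fun e => hyx (by
        rw [← inv_self (sq_one (AA_cc D hx h1).1)]; exact (inv_eq_of_mul_eq_one_right e).symm)
      refine hfix _ h3 h31 ?_
      calc (n : X) * (x * y) * (n : X)⁻¹ =
          ((n : X) * x * (n : X)⁻¹) * ((n : X) * y * (n : X)⁻¹) := by group
        _ = y * x := by rw [← hy, ← hw, hwx]
        _ = x * y := (AA_comm D hyA hx).eq
    rw [← hwa, hw, hy, Subgroup.coe_mul]
    group
  have hconjM : ∀ u v : M, orderOf u = 2 → orderOf v = 2 → IsConj u v := by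
    have haM : a ∈ M := hAM ((mem_AA D).2 (Or.inr (Or.inl rfl)))
    suffices h : ∀ u : M, orderOf u = 2 → IsConj u ⟨a, haM⟩ from
      fun u v hu hv => (h u hu).trans (h v hv).symm
    intro u hu
    obtain ⟨U, hU⟩ := (IsPGroup.of_card (n := 1) (by rw [Nat.card_zpowers, hu, pow_one]) :
      IsPGroup 2 (zpowers u)).exists_le_sylow
    obtain ⟨g, hg⟩ := MulAction.exists_smul_eq M U P
    have huP : g * u * g⁻¹ ∈ (P : Subgroup M) := by
      rw [← hg, Sylow.coe_subgroup_smul]
      exact Subgroup.smul_mem_pointwise_smul _ _ _ (hU (mem_zpowers u))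
    rw [← hPA] at huP
    have h1 : ((g * u * g⁻¹ : M) : X) ≠ 1 := fun e => ne_one hu
      (conj_eq_one_iff.1 (Subtype.ext e : g * u * g⁻¹ = 1))
    obtain ⟨k, hk⟩ := hAconj _ huP h1
    exact (isConj_iff.2 ⟨g, rfl⟩ : IsConj u (g * u * g⁻¹)).trans
      (isConj_iff.2 ⟨k, Subtype.ext hk⟩)
  have haA : a ∈ AA D := (mem_AA D).2 (Or.inr (Or.inl rfl))
  have hbA : b ∈ AA D := (mem_AA D).2 (Or.inr (Or.inr (Or.inl rfl)))
  rcases KleinSelfCent.card_twelve_or_alternating (G := M) (t := ⟨a, hAM haA⟩) (a := ⟨b, hAM hbA⟩)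
    (by rw [Subgroup.orderOf_mk]; exact D.ha) (by rw [Subgroup.orderOf_mk]; exact D.hb)
    (Subtype.ext D.hab.eq) (fun e => D.hne (congrArg Subtype.val e).symm)
    (fun c hc => by
      have : (c : X) ∈ AA D := by
        rw [← hcent a haA (ne_one D.ha)]
        exact ⟨c.2, mem_centralizer_singleton_iff.2 (congrArg Subtype.val hc.eq)⟩
      rcases (mem_AA D).1 this with h | h | h | h
      exacts [Or.inl (Subtype.ext h), Or.inr (Or.inl (Subtype.ext h)),
        Or.inr (Or.inr (Or.inl (Subtype.ext h))), Or.inr (Or.inr (Or.inr (Subtype.ext h)))])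
    hconjM h8 with h12 | ⟨hsimple, ⟨e⟩⟩
  · exfalso
    -- order twenty four is impossible
    set C := centralizer ({z'} : Set X) with hC
    have hCc : Nat.card C = 12 := hcz
    have hCi : C.index = 2 := by
      have := card_mul_index C
      rw [hCc, ← hX, h12] at this
      omega
    haveI : C.Normal := Subgroup.normal_of_index_eq_two hCi
    have hI : Nat.card ↥(C ⊓ M) = 6 := by
      have hd1 : Nat.card ↥(C ⊓ M) ∣ 12 := hCc ▸ card_dvd_of_le inf_le_left
      have hne : Nat.card ↥(C ⊓ M) ≠ 12 := fun he => hzM (by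
        have heq := eq_of_le_of_card_ge (inf_le_left : C ⊓ M ≤ C) (by rw [he, hCc])
        exact (heq.symm ▸ mem_centralizer_singleton_iff.2 rfl : z' ∈ C ⊓ M).2)
      have hrel : M.relIndex C ∣ 2 := hM ▸ relIndex_dvd_index_of_normal M C
      have hmul : Nat.card (M.subgroupOf C) * M.relIndex C = 12 := by
        rw [relIndex, card_mul_index, hCc]
      have hcard : Nat.card (M.subgroupOf C) = Nat.card ↥(C ⊓ M) := by
        rw [← inf_subgroupOf_left]
        exact Nat.card_congr (Subgroup.subgroupOfEquivOfLe inf_le_left).toEquiv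
      rw [hcard] at hmul
      have := Nat.le_of_dvd (by norm_num) hrel
      interval_cases h : M.relIndex C <;> omega
    have hnorm12 : ∀ g ∈ M, ∀ x ∈ AA D, g * x * g⁻¹ ∈ AA D := by
      intro g hg x hx
      have hN : normalizer ((P : Subgroup M) : Set M) = ⊤ := by
        refine eq_top_of_card_eq _ ?_
        have h1 : Nat.card (P : Subgroup M) ∣ Nat.card (normalizer ((P : Subgroup M) : Set M)) :=
          card_dvd_of_le le_normalizer
        have h2 := card_subgroup_dvd_card (normalizer ((P : Subgroup M) : Set M))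
        have h3 : Nat.card (normalizer ((P : Subgroup M) : Set M)) ≠ 4 := fun he => hnC (by
          have heq : (P : Subgroup M) = normalizer ((P : Subgroup M) : Set M) :=
            eq_of_le_of_card_ge le_normalizer (by rw [he, ← hPA, hA'c])
          have hnP : n ∈ (P : Subgroup M) := heq.symm ▸ hnN
          intro y hy
          rw [← hPA] at hy hnP
          exact Subtype.ext (AA_comm D hy hnP).eq)
        rw [← hPA, hA'c] at h1
        rw [h12] at h2 ⊢
        rw [hPA] at h1
        obtain ⟨k, hk⟩ := h1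
        have hle := Nat.le_of_dvd (by norm_num) h2
        have hk3 : k ≤ 3 := by omega
        rw [hk] at h2 h3 ⊢
        interval_cases k <;> first | rfl | exact absurd rfl h3 | exact absurd h2 (by norm_num)
      have h2 := (mem_normalizer_iff.1 (hN ▸ mem_top (⟨g, hg⟩ : M)) ⟨x, hAM hx⟩).1 (hPA ▸ hx)
      rw [← hPA] at h2
      exact h2
    obtain ⟨k, hk⟩ := exists_prime_orderOf_dvd_card' (G := ↥(C ⊓ M)) 3 (by rw [hI]; norm_num)
    obtain ⟨c, hc⟩ := exists_prime_orderOf_dvd_card' (G := ↥(C ⊓ M)) 2 (by rw [hI]; norm_num)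
    -- the involution of the four group centralising `z'`
    have hcA : (c : X) ∈ AA D := by
      obtain ⟨g, hg⟩ := isConj_iff.1 (hconjM ⟨a, hAM haA⟩ ⟨c, c.2.2⟩
        (by rw [Subgroup.orderOf_mk]; exact D.ha) (by rw [Subgroup.orderOf_mk, Subgroup.orderOf_coe, hc]))
      have := congrArg Subtype.val hg
      simp only [Subgroup.coe_mul, Subgroup.coe_inv] at this
      rw [← this]
      exact hnorm12 g g.2 a haA
    have hc1 : (c : X) ≠ 1 := fun e => ne_one hc (Subtype.ext e)
    have hkc : (k : X) * c * (k : X)⁻¹ = c := by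
      have h1 : (k : X) * c * (k : X)⁻¹ ∈ AA D ⊓ (C ⊓ M) :=
        ⟨hnorm12 _ k.2.2 _ hcA, (C ⊓ M).mul_mem ((C ⊓ M).mul_mem k.2 c.2) ((C ⊓ M).inv_mem k.2)⟩
      have h2 : zpowers (c : X) = AA D ⊓ (C ⊓ M) := by
        refine eq_of_le_of_card_ge (zpowers_le.2 ⟨hcA, c.2⟩) ?_
        rw [Nat.card_zpowers, Subgroup.orderOf_coe, hc]
        refine Nat.le_of_dvd (by norm_num) ((Nat.dvd_gcd (card_dvd_of_le inf_le_left)
          (card_dvd_of_le inf_le_right)).trans (dvd_of_eq ?_))
        rw [card_AA D, hI]; rfl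
      rw [← h2] at h1
      obtain ⟨i, hi⟩ := h1
      simp only at hi
      rcases Int.even_or_odd i with ⟨j, rfl⟩ | ⟨j, rfl⟩
      · exfalso
        rw [← two_mul, zpow_mul, zpow_two, sq_one (AA_cc D hcA hc1).1, one_zpow] at hi
        exact hc1 (conj_eq_one_iff.1 hi.symm)
      · rw [zpow_add, zpow_mul, zpow_two, sq_one (AA_cc D hcA hc1).1, one_zpow, one_mul, zpow_one] at hi
        exact hi.symm
    have hkA : (k : X) ∈ AA D := by
      rw [← hcent c hcA hc1]
      exact ⟨k.2.2, mem_centralizer_singleton_iff.2 (mul_inv_eq_iff_eq_mul.1 hkc)⟩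
    have hd := orderOf_dvd_natCard (⟨(k : X), hkA⟩ : AA D)
    rw [Subgroup.orderOf_mk, Subgroup.orderOf_coe, hk, card_AA D] at hd
    norm_num at hd
  · haveI := hsimple
    have h60 : Nat.card M = 60 := by
      rw [Nat.card_congr e.toEquiv, nat_card_alternatingGroup, Nat.card_fin]; rfl
    -- five Sylow subgroups
    have h5 : Nat.card (Sylow 2 M) = 5 := by
      set N := normalizer ((P : Subgroup M) : Set M)
      have h1 : 4 ∣ Nat.card N := hA'c ▸ hPA ▸ card_dvd_of_le le_normalizer
      have h2 : Nat.card N ∣ 60 := h60 ▸ card_subgroup_dvd_card N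
      have h3 : Nat.card N ≠ 4 := fun he => hnC (by
        have heq : (P : Subgroup M) = N :=
          eq_of_le_of_card_ge le_normalizer (by rw [he, ← hPA, hA'c])
        have hnP : n ∈ (P : Subgroup M) := heq.symm ▸ hnN
        intro y hy
        rw [← hPA] at hy hnP
        exact Subtype.ext (AA_comm D hy hnP).eq)
      have h4 : Nat.card N ≠ 60 := fun he => by
        have hN : N = ⊤ := eq_top_of_card_eq _ (he.trans h60.symm)
        haveI : ((P : Subgroup M)).Normal := normalizer_eq_top_iff.1 hN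
        rcases (inferInstance : ((P : Subgroup M)).Normal).eq_bot_or_eq_top with hb | ht
        · rw [← hPA] at hb; rw [hb, card_bot] at hA'c; omega
        · rw [← hPA] at ht; rw [ht, card_top, h60] at hA'c; omega
      have h6 : ¬ 5 ∣ Nat.card N := fun hd => by
        haveI : Fact (Nat.Prime 5) := ⟨by norm_num⟩
        obtain ⟨g, hg⟩ := exists_prime_orderOf_dvd_card' (G := N) 5 hd
        set g' : X := ((g : M) : X) with hg'
        have hg5 : orderOf g' = 5 := by rw [hg', Subgroup.orderOf_coe, Subgroup.orderOf_coe, hg]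
        have hmapg : ∀ i : ℕ, g' ^ i * a * (g' ^ i)⁻¹ ∈ AA D := by
          intro i
          have h := (mem_normalizer_iff.1 (pow_mem g.2 i) ⟨a, hAM haA⟩).1 (hPA ▸ haA)
          rw [← hPA] at h
          simpa [A', mem_subgroupOf] using h
        have hne : ∀ i, i < 5 → i ≠ 0 → g' ^ i * a * (g' ^ i)⁻¹ ≠ a := by
          intro i hi h0 he
          have : g' ^ i ∈ AA D := by
            rw [← hcent a haA (ne_one D.ha)]
            exact ⟨pow_mem (g : M).2 i, mem_centralizer_singleton_iff.2 (mul_inv_eq_iff_eq_mul.1 he)⟩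
          have hd' := orderOf_dvd_natCard (⟨_, this⟩ : AA D)
          rw [Subgroup.orderOf_mk, card_AA D, Nat.Coprime.orderOf_pow (by
            rw [hg5]
            exact (Nat.Prime.coprime_iff_not_dvd (by norm_num)).2 (Nat.not_dvd_of_pos_of_lt (by omega) hi)),
            hg5] at hd'
          norm_num at hd'
        let f : Fin 5 → AA D := fun i => ⟨_, hmapg i⟩
        have hf : Function.Injective f := by
          intro i j hij
          have hij' : g' ^ (i : ℕ) * a * (g' ^ (i : ℕ))⁻¹ = g' ^ (j : ℕ) * a * (g' ^ (j : ℕ))⁻¹ :=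
            congrArg Subtype.val hij
          rcases lt_trichotomy (i : ℕ) j with h | h | h
          · exfalso
            refine hne (j - i : ℕ) (by omega) (by omega) ?_
            rw [show (j : ℕ) = i + (j - i) by omega, pow_add] at hij'
            calc g' ^ ((j : ℕ) - i) * a * (g' ^ ((j : ℕ) - i))⁻¹
                = (g' ^ (i : ℕ))⁻¹ * (g' ^ (i : ℕ) * g' ^ ((j : ℕ) - i) * a *
                  (g' ^ (i : ℕ) * g' ^ ((j : ℕ) - i))⁻¹) * g' ^ (i : ℕ) := by group
              _ = a := by rw [← hij']; group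
          · exact Fin.ext h
          · exfalso
            refine hne (i - j : ℕ) (by omega) (by omega) ?_
            rw [show (i : ℕ) = j + (i - j) by omega, pow_add] at hij'
            calc g' ^ ((i : ℕ) - j) * a * (g' ^ ((i : ℕ) - j))⁻¹
                = (g' ^ (j : ℕ))⁻¹ * (g' ^ (j : ℕ) * g' ^ ((i : ℕ) - j) * a *
                  (g' ^ (j : ℕ) * g' ^ ((i : ℕ) - j))⁻¹) * g' ^ (j : ℕ) := by group
              _ = a := by rw [hij']; group
        have := Nat.card_le_card_of_injective f hf
        rw [card_AA D, Nat.card_fin] at this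
        omega
      have hN12 : Nat.card N = 12 := by
        obtain ⟨k, hk⟩ := h1
        have hk15 : k ∣ 15 := by
          rw [hk, show (60 : ℕ) = 4 * 15 by norm_num] at h2
          exact (Nat.mul_dvd_mul_iff_left (by norm_num)).1 h2
        have hle := Nat.le_of_dvd (by norm_num) hk15
        rw [hk] at h3 h6 ⊢
        rw [Nat.dvd_iff_mod_eq_zero] at hk15 h6
        interval_cases k <;> omega
      have h7 := card_mul_index N
      rw [hN12, h60] at h7
      rw [P.card_eq_index_normalizer, show normalizer (P : Set M) = N from rfl]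
      omega
    let φ : X →* Equiv.Perm (Sylow 2 M) :=
      (MulAction.toPermHom (MulAut M) (Sylow 2 M)).comp MulAut.conjNormal
    have hinj : Function.Injective φ := by
      rw [← MonoidHom.ker_eq_bot_iff]
      set K := φ.ker with hK
      have hKM : K.subgroupOf M = ⊥ := by
        rcases (inferInstance : (K.subgroupOf M).Normal).eq_bot_or_eq_top with h | h
        · exact h
        exfalso
        -- the four group would be normal
        have hsub : ((P : Subgroup M)).Normal := by
          refine ⟨fun y hy g => ?_⟩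
          have hg : g ∈ K.subgroupOf M := h ▸ mem_top g
          have hs : φ (g : X) P = P := by
            rw [MonoidHom.mem_ker.1 (mem_subgroupOf.1 hg)]; rfl
          have hs' := congrArg (fun S : Sylow 2 M => (S : Subgroup M)) hs
          rw [← hs']
          exact ⟨y, hy, Subtype.ext rfl⟩
        haveI := hsub
        rcases hsub.eq_bot_or_eq_top with hb | ht
        · rw [← hPA] at hb; rw [hb, card_bot] at hA'c; omega
        · rw [← hPA] at ht; rw [ht, card_top, h60] at hA'c; omega
      by_contra hne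
      have hcard : Nat.card K ∣ 2 := by
        rw [← hM, index_eq_card]
        refine card_dvd_of_injective ((QuotientGroup.mk' M).comp K.subtype) ?_
        intro x y hxy
        have : (x : X)⁻¹ * y ∈ M := QuotientGroup.eq.1 hxy
        have hm : (⟨_, this⟩ : M) ∈ K.subgroupOf M := mul_mem (inv_mem x.2) y.2
        rw [hKM, mem_bot] at hm
        exact Subtype.ext (inv_mul_eq_one.1 (congrArg Subtype.val hm))
      have h2 : Nat.card K = 2 := by
        rcases (Nat.dvd_prime Nat.prime_two).1 hcard with h | h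
        · exact absurd (card_eq_one.1 h) hne
        · exact h
      obtain ⟨k, hk⟩ := exists_prime_orderOf_dvd_card' (G := K) 2 (by rw [h2])
      have hk' : orderOf (k : X) = 2 := by rw [Subgroup.orderOf_coe, hk]
      have hkcent : centralizer ({(k : X)} : Set X) = ⊤ := by
        rw [eq_top_iff]
        intro g _
        have hmem : g * (k : X) * g⁻¹ ∈ K := (φ.normal_ker).conj_mem _ k.2 g
        have hall : ∀ y : K, y = 1 ∨ y = k := by
          intro y
          have : y ∈ zpowers k := by
            rw [(eq_top_of_card_eq (zpowers k) (by rw [Nat.card_zpowers, hk, h2]))]; exact mem_top y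
          obtain ⟨i, rfl⟩ := mem_zpowers_iff.1 this
          rcases Int.even_or_odd i with ⟨j, rfl⟩ | ⟨j, rfl⟩
          · left; rw [← two_mul, zpow_mul, zpow_two, sq_one hk, one_zpow]
          · right; rw [zpow_add, zpow_mul, zpow_two, sq_one hk, one_zpow, one_mul, zpow_one]
        rcases hall ⟨_, hmem⟩ with h | h
        · exact absurd (conj_eq_one_iff.1 (congrArg Subtype.val h)) (ne_one hk')
        · exact mem_centralizer_singleton_iff.2 (mul_inv_eq_iff_eq_mul.1 (congrArg Subtype.val h))
      have := D.hall _ hk'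
      rw [cc, hkcent, card_top, ← hX, h60] at this
      omega
    obtain ⟨ε⟩ := Finite.card_eq.1 (h5.trans (Nat.card_fin 5).symm)
    let ψ : X →* Equiv.Perm (Fin 5) := ε.permCongrHom.toMonoidHom.comp φ
    have hψ : Function.Injective ψ := ε.permCongrHom.injective.comp hinj
    refine ⟨MulEquiv.ofBijective ψ ⟨hψ, ?_⟩⟩
    refine (hψ.bijective_of_nat_card_le ?_).2
    rw [Nat.card_perm, Nat.card_fin, ← hX, h60]
    rfl

end Cfsg.Agent.JFourSevenGroup30
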