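import Mathlib
import Cfsg.Agent.Lib.GolayBlockM22
import Cfsg.Agent.Lib.JFourM22Facts97
import Cfsg.Agent.Lib.J4M22Facts85

/-!
Subgroups of order seven in the automorphism group of the Mathieu group of degree 22 and an element of
order twenty one in the Mathieu group of degree 24.
-/

set_option autoImplicit false
set_option maxRecDepth 100000
set_option linter.style.haveILetI false

namespace Cfsg.Agent.JFourSevenM22x30

open Cfsg Subgroup Cfsg.Agent.GolayBasic Cfsg.Agent.GolayPerm Cfsg.Agent.GolayBlockTools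
  Cfsg.Agent.GolayOutTool Cfsg.Agent.GolayChain Cfsg.Agent.GolaySolve Cfsg.Agent.GolayOutOuter
open scoped Pointwise

set_option quotPrecheck false in
local notation "M" => ↥Cfsg.Spor.M22

/-- membership test -/
def mc : ℕ → Bool := GolayBlockM22.mc

theorem mc_sound : Sound Spor.M22 mc := GolayBlockM22.mc_sound

/-- the base element of order seven -/
def x7 : ℕ := GolayBlockDataM22.x7

/-- an element of M24 fixing the pair of base points -/
def pS14 : ℕ := 22581101433122784057294743331616471

/-- its square -/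
def pY : ℕ := 975518088804823835650894598063334944

/-- an element of order twenty one -/
def p21 : ℕ := 521204729111533341973971408694548610

theorem seven_ok : mc x7 = true ∧ primeOrd [x7] 7 = true ∧
    mc (GolayBlockDataM22.rsInv.getD 0 0) = true ∧
    isId [x7, GolayBlockDataM22.rsInv.getD 0 0] = true ∧ GolayBlockDataM22.cent7.length = 7 := by
  decide +kernel

theorem cent_base {g : M} (hg : g * el Spor.M22 x7 = el Spor.M22 x7 * g) :
    ∃ s ∈ GolayBlockDataM22.cent7.map Prod.fst, (g : Equiv.Perm GolayPt) = permOf s := by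
  obtain ⟨hc, hH, hs, hx, -, hsol, -⟩ := GolayBlockM22.cent7_ok
  have he := congrArg Subtype.val hg
  simp only [Subgroup.coe_mul, show x7 = GolayBlockDataM22.x7 from rfl, coe_el mc_sound hx] at he
  exact exists_msol hc (fun T hT => (mc_sound T (List.all_eq_true.1 hH T hT)).2)
    (by rw [GolayM24.card_M22, hs]) hsol g.2 he

theorem base_order : orderOf (el Spor.M22 x7) = 7 := by
  have := (primeOrd_iff mc_sound (w := [x7]) (by simp [seven_ok.1]) (p := 7) (by norm_num)).2 seven_ok.2.1
  simpa using this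

theorem base_facts : (∀ g : M, Commute g (el Spor.M22 x7) → g ∈ zpowers (el Spor.M22 x7)) ∧
    ¬ IsConj (el Spor.M22 x7) (el Spor.M22 x7)⁻¹ := by
  obtain ⟨hx, -, hr, hid, hlen⟩ := seven_ok
  refine ⟨fun g hg => ?_, ?_⟩
  · classical
    set C := {g : M | Commute g (el Spor.M22 x7)} with hC
    have hle : C.ncard ≤ 7 := by
      have hf : Set.InjOn (fun g : M => (g : Equiv.Perm GolayPt)) C := fun a _ b _ e => Subtype.ext e
      rw [← hf.ncard_image]
      refine (Set.ncard_le_ncard (t := ↑((GolayBlockDataM22.cent7.map Prod.fst).map permOf).toFinset)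
        ?_ (Finset.finite_toSet _)).trans ?_
      · rintro _ ⟨a, ha, rfl⟩
        obtain ⟨s, hs, e⟩ := cent_base ha.eq
        simp only [Finset.mem_coe, List.mem_toFinset]
        exact e ▸ List.mem_map_of_mem hs
      · rw [Set.ncard_coe_finset]
        refine (List.toFinset_card_le _).trans ?_
        rw [List.length_map, List.length_map, hlen]
    have hsub : (zpowers (el Spor.M22 x7) : Set M) ⊆ C := by
      rintro _ ⟨i, rfl⟩
      exact (Commute.refl _).zpow_left i
    have he := Set.eq_of_subset_of_ncard_le hsub (hle.trans (by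
      rw [← Nat.card_coe_set_eq, SetLike.coe_sort_coe, Nat.card_zpowers, base_order])) (Set.toFinite _)
    exact he.ge hg
  · have hinv : (el Spor.M22 x7)⁻¹ = el Spor.M22 (GolayBlockDataM22.rsInv.getD 0 0) := by
      refine inv_eq_of_mul_eq_one_right ?_
      have := (el_word_one mc_sound (l := [x7, GolayBlockDataM22.rsInv.getD 0 0]) (by
        intro P hP
        simp only [List.mem_cons, List.not_mem_nil, or_false] at hP
        rcases hP with rfl | rfl
        exacts [hx, hr])).2 hid
      simpa using this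
    rw [hinv]
    exact GolayBlockM22.not_inv7

theorem seven_dvd : Nat.card M = 7 * 63360 ∧ ¬ 7 ∣ 63360 :=
  ⟨by rw [GolayM24.card_M22], by norm_num⟩

theorem seven_facts {x : M} (hx : orderOf x = 7) :
    (∀ g : M, Commute g x → g ∈ zpowers x) ∧ ¬ IsConj x x⁻¹ := by
  haveI : Finite M := Subtype.finite
  obtain ⟨hC, hinv⟩ := base_facts
  set b := el Spor.M22 x7 with hb
  obtain ⟨i, hi0, hi7, hconj⟩ := exists_conj_pow (by norm_num : Nat.Prime 7) seven_dvd.1 seven_dvd.2
    base_order hx
  obtain ⟨c, hc⟩ := isConj_iff.1 hconj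
  obtain ⟨j, hj⟩ : ∃ j, (b ^ i) ^ j = b := exists_pow_eq_self_of_coprime (by
    rw [base_order]
    exact ((Nat.Prime.coprime_iff_not_dvd (by norm_num)).2
      (Nat.not_dvd_of_pos_of_lt hi0 hi7)).symm)
  refine ⟨fun g hg => ?_, fun h => hinv ?_⟩
  · have h1 : Commute (c * g * c⁻¹) (b ^ i) := by
      rw [← hc]
      show c * g * c⁻¹ * (c * x * c⁻¹) = c * x * c⁻¹ * (c * g * c⁻¹)
      calc c * g * c⁻¹ * (c * x * c⁻¹) = c * (g * x) * c⁻¹ := by group
        _ = c * (x * g) * c⁻¹ := by rw [hg.eq]
        _ = _ := by group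
    have h2 := h1.pow_right j
    rw [hj] at h2
    have h3 := hC _ h2
    have hle : zpowers b ≤ (zpowers x).map (MulAut.conj c).toMonoidHom := by
      refine zpowers_le.2 ?_
      rw [← hj, ← hc]
      exact pow_mem (Subgroup.mem_map.2 ⟨x, mem_zpowers x, rfl⟩) j
    obtain ⟨y, hy, e⟩ := hle h3
    have : y = g := (MulAut.conj c).injective e
    rwa [this] at hy
  · have h1 : IsConj (b ^ i) (b ^ i)⁻¹ := by
      refine hconj.symm.trans (h.trans ?_)
      exact isConj_iff.2 ⟨c, by rw [← hc]; group⟩
    obtain ⟨d, hd⟩ := isConj_iff.1 h1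
    refine isConj_iff.2 ⟨d, ?_⟩
    calc d * b * d⁻¹ = (d * b ^ i * d⁻¹) ^ j := by rw [conj_pow, hj]
      _ = b⁻¹ := by rw [hd, inv_pow, hj]

theorem outer_ok : good pS14 = true ∧ memCheck [23, 0] 16777215 pY = true ∧
    primeOrd [pY] 7 = true ∧ sameWord [pS14, pS14] [pY] = true ∧ pimg pS14 23 = 0 ∧ pimg pS14 0 = 23 ∧
    sameWord [pS14, pS14, pS14, pS14, pS14, pS14, pS14, GolayOutConst.pT]
      [GolayOutConst.pT, pS14, pS14, pS14, pS14, pS14, pS14, pS14] = false ∧
    good p21 = true ∧ isId (List.replicate 21 p21) = true ∧ isId (List.replicate 7 p21) = false ∧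
    isId (List.replicate 3 p21) = false := by
  decide +kernel

/-- An element of order seven fixed by an automorphism whose seventh power is not trivial. -/
theorem exists_fixed : ∃ (y : M) (φ : MulAut M), orderOf y = 7 ∧ φ y = y ∧ φ ^ 7 ≠ 1 := by
  obtain ⟨hS, hY, hord, hsq, h23, h0, hne, -⟩ := outer_ok
  have hv := valid_of_good hS
  have hyM : mc pY = true := hY
  set s : Equiv.Perm GolayPt := permOf pS14 with hsdef
  have hs : s ∈ M24 := permOf_mem_M24 hS
  have h1 : s • (none : GolayPt) = some 0 := by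
    rw [← GolayM24.pt_none, ← GolayM24.pt_zero, Equiv.Perm.smul_def]
    apply idx_inj
    rw [hsdef, idx_permOf hv, idx_pt (by norm_num), idx_pt (by norm_num), h23]
  have h2 : s • (some 0 : GolayPt) = none := by
    rw [← GolayM24.pt_none, ← GolayM24.pt_zero, Equiv.Perm.smul_def]
    apply idx_inj
    rw [hsdef, idx_permOf hv, idx_pt (by norm_num), idx_pt (by norm_num), h0]
  have hn : ∀ g, g ∈ Spor.M22 ↔ s * g * s⁻¹ ∈ Spor.M22 := by
    intro g
    have e1 : s⁻¹ • (some 0 : GolayPt) = none := inv_smul_eq_iff.2 h1.symm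
    have e2 : s⁻¹ • (none : GolayPt) = some 0 := inv_smul_eq_iff.2 h2.symm
    rw [GolayOutM22.mem_iff, GolayOutM22.mem_iff]
    constructor
    · rintro ⟨hg, a, b⟩
      exact ⟨mul_mem (mul_mem hs hg) (inv_mem hs), by rw [mul_smul, mul_smul, e2, b, h2],
        by rw [mul_smul, mul_smul, e1, a, h1]⟩
    · rintro ⟨hg, a, b⟩
      rw [mul_smul, mul_smul, smul_eq_iff_eq_inv_smul] at a b
      rw [e2] at a
      rw [e1] at b
      refine ⟨?_, b, a⟩
      simpa [mul_assoc] using mul_mem (mul_mem (inv_mem hs) hg) hs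
  set y := el Spor.M22 pY with hy
  have hyc : (y : Equiv.Perm GolayPt) = s * s := by
    rw [hy, coe_el mc_sound hyM, hsdef]
    have := prod_eq_of_sameWord (l := [pS14, pS14]) (l' := [pY])
      (by intro P hP; simp only [List.mem_cons, List.not_mem_nil, or_false, or_self] at hP; rw [hP]; exact hv)
      (by intro P hP; rw [List.mem_singleton.1 hP]; exact (mc_sound _ hyM).1) hsq
    simpa using this.symm
  refine ⟨y, autOf s hn, ?_, Subtype.ext ?_, ?_⟩
  · have := (primeOrd_iff mc_sound (w := [pY]) (by simp [hyM]) (p := 7) (by norm_num)).2 hord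
    simpa using this
  · show s * (y : Equiv.Perm GolayPt) * s⁻¹ = y
    rw [hyc, mul_assoc, mul_inv_cancel_right]
  · intro e
    have h := congrArg (fun f : MulAut M => (f GolayOutM22.gT : Equiv.Perm GolayPt)) e
    simp only [pow_succ, pow_zero, MulAut.mul_apply, MulAut.one_apply, one_mul] at h
    simp only [autOf, MulEquiv.coe_mk, Equiv.coe_fn_mk] at h
    have hT : valid GolayOutConst.pT = true := by decide +kernel
    have hv' : ∀ l : List ℕ, (∀ P ∈ l, P = pS14 ∨ P = GolayOutConst.pT) → ∀ P ∈ l, valid P = true :=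
      fun l hl P hP => (hl P hP).elim (fun e => e ▸ hv) (fun e => e ▸ hT)
    have := JFourM22Facts97.sameWord_of_prod_eq
      (l := [pS14, pS14, pS14, pS14, pS14, pS14, pS14, GolayOutConst.pT])
      (l' := [GolayOutConst.pT, pS14, pS14, pS14, pS14, pS14, pS14, pS14])
      (hv' _ (by simp)) (hv' _ (by simp)) ?_
    · rw [hne] at this
      exact Bool.noConfusion this
    · simp only [List.map_cons, List.map_nil, List.prod_cons, List.prod_nil, mul_one]
      rw [← hsdef]
      change _ = (GolayOutM22.gT : Equiv.Perm GolayPt) * _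
      refine (eq_mul_of_mul_inv_eq ?_).trans rfl
      rw [← J4M22Facts85.coe_gT]
      simpa [mul_assoc] using h

theorem zmod_seven : ∀ a : ZMod 7, a * a - 1 = 0 → a = 1 ∨ a = -1 := by decide

/-- Subgroups of order seven of the automorphism group. -/
theorem aut_seven (S : Subgroup (MulAut M)) (hS : Nat.card S = 7) :
    Nat.card (centralizer (S : Set (MulAut M))) = 14 ∧
      Nat.card (normalizer (S : Set (MulAut M))) = 42 := by
  haveI : Finite M := Subtype.finite
  haveI : Fact (Nat.Prime 7) := ⟨by norm_num⟩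
  haveI := GolaySimple.isSimpleGroup_M22
  obtain ⟨y, φ, hy, hφy, hφ7⟩ := exists_fixed
  obtain ⟨hCy, hinv⟩ := seven_facts hy
  set c : M →* MulAut M := MulAut.conj with hc
  have hcinj : Function.Injective c := by
    rw [← MonoidHom.ker_eq_bot_iff, eq_bot_iff]
    intro g hg
    rw [← JFourM22Facts97.center_eq_bot, mem_center_iff]
    intro k
    have := congrArg (fun a : MulAut M => a k) (MonoidHom.mem_ker.1 hg)
    simp only [hc, MulAut.conj_apply, MulAut.one_apply] at this
    exact (mul_inv_eq_iff_eq_mul.1 this).symm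
  have hconjφ : ∀ (ψ : MulAut M) (g : M), ψ * c g * ψ⁻¹ = c (ψ g) := by
    intro ψ g
    apply MulEquiv.ext
    intro k
    simp [hc, MulAut.conj_apply, MulAut.mul_apply]
  set S₀ := (zpowers y).map c with hS₀
  have hS₀c : Nat.card S₀ = 7 := by
    rw [hS₀, card_map_of_injective hcinj, Nat.card_zpowers, hy]
  have hcy : c y ∈ S₀ := ⟨y, mem_zpowers y, rfl⟩
  -- reduce to the base subgroup
  obtain ⟨g, hg⟩ : ∃ g : MulAut M, S₀ = S.map (MulAut.conj g).toMonoidHom := by
    obtain ⟨g, hg⟩ := exists_conj_zpowers (G := MulAut M) (p := 7) (k := 1) (m := 126720) (by norm_num)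
      (by rw [JFourM22Facts97.card_mulAut]; norm_num) (by norm_num) (P := S₀)
      (by rw [hS₀c, pow_one]) (Q := S) (IsPGroup.of_card (n := 1) (by rw [hS, pow_one]))
    refine ⟨g, (eq_of_le_of_card_ge ?_ ?_).symm⟩
    · rintro _ ⟨x, hx, rfl⟩; exact hg x hx
    · rw [hS₀c, card_map_of_injective (MulAut.conj g).injective, hS]
  have hcoe : (S₀ : Set (MulAut M)) = (MulAut.conj g) '' (S : Set (MulAut M)) := by rw [hg]; rfl
  suffices h : Nat.card (centralizer (S₀ : Set (MulAut M))) = 14 ∧
      Nat.card (normalizer (S₀ : Set (MulAut M))) = 42 by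
    constructor
    · rw [← h.1]
      refine (Nat.card_congr (Equiv.subtypeEquiv (MulAut.conj g).toEquiv fun x => ?_))
      rw [mem_centralizer_iff, mem_centralizer_iff, hcoe, Set.forall_mem_image]
      refine forall₂_congr fun a _ => ?_
      rw [← (MulAut.conj g).injective.eq_iff, map_mul, map_mul]
      rfl
    · rw [← h.2]
      refine (Nat.card_congr (Equiv.subtypeEquiv (MulAut.conj g).toEquiv fun x => ?_))
      show x ∈ normalizer (S : Set (MulAut M)) ↔ MulAut.conj g x ∈ normalizer (S₀ : Set (MulAut M))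
      rw [mem_normalizer_iff, mem_normalizer_iff, hg]
      constructor
      · intro hx b
        obtain ⟨b, rfl⟩ := (MulAut.conj g).surjective b
        rw [Subgroup.mem_map_equiv, Subgroup.mem_map_equiv, MulEquiv.symm_apply_apply, ← map_inv,
          ← map_mul, ← map_mul, MulEquiv.symm_apply_apply]
        exact hx b
      · intro hx b
        have := hx (MulAut.conj g b)
        rwa [Subgroup.mem_map_equiv, Subgroup.mem_map_equiv, MulEquiv.symm_apply_apply, ← map_inv,
          ← map_mul, ← map_mul, MulEquiv.symm_apply_apply] at this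
  -- the inner automorphisms
  set I := c.range with hI
  haveI hIn : I.Normal := ⟨by rintro _ ⟨k, rfl⟩ ψ; exact ⟨ψ k, (hconjφ ψ k).symm⟩⟩
  have hIc : Nat.card I = 443520 := JFourM22Facts97.card_inn
  have hIi : I.index = 2 := by
    have := card_mul_index I
    rw [hIc, JFourM22Facts97.card_mulAut] at this
    omega
  have hφI : φ ∉ I := by
    rintro ⟨m, hm⟩
    apply hφ7
    have hmy : Commute m y := by
      have : m * y * m⁻¹ = y := by
        have := congrArg (fun a : MulAut M => a y) hm
        simpa [hc, hφy] using this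
      exact mul_inv_eq_iff_eq_mul.1 this
    obtain ⟨i, hi⟩ := mem_zpowers_iff.1 (hCy m hmy)
    rw [← hm, ← map_pow, ← hi, ← zpow_natCast, ← zpow_mul, mul_comm, zpow_mul, zpow_natCast,
      show y ^ 7 = 1 from hy ▸ pow_orderOf_eq_one y, one_zpow, map_one]
  have hmemC : ∀ ψ, ψ ∈ centralizer (S₀ : Set (MulAut M)) ↔ ψ y = y := by
    intro ψ
    constructor
    · intro h
      apply hcinj
      rw [← hconjφ, ← h _ hcy, mul_inv_cancel_right]
    · rintro h _ ⟨k, hk, rfl⟩
      obtain ⟨i, rfl⟩ := mem_zpowers_iff.1 hk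
      have := hconjφ ψ (y ^ i)
      rw [map_zpow ψ, h] at this
      exact (mul_inv_eq_iff_eq_mul.1 this).symm
  have hCI : centralizer (S₀ : Set (MulAut M)) ⊓ I = S₀ := by
    refine le_antisymm ?_ (le_inf (fun s hs => ?_) (by rintro _ ⟨k, -, rfl⟩; exact ⟨k, rfl⟩))
    · rintro _ ⟨hk, k, rfl⟩
      refine ⟨k, hCy k ?_, rfl⟩
      have := (hmemC _).1 hk
      rw [hc, MulAut.conj_apply] at this
      exact mul_inv_eq_iff_eq_mul.1 this
    · obtain ⟨k, hk, rfl⟩ := hs
      rw [hmemC]
      obtain ⟨i, rfl⟩ := mem_zpowers_iff.1 hk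
      rw [hc, MulAut.conj_apply, ((Commute.refl y).zpow_left i).eq, mul_inv_cancel_right]
  have half : ∀ T : Subgroup (MulAut M), φ ∈ T → Nat.card T = 2 * Nat.card ↥(T ⊓ I) := by
    intro T hT
    have hd : I.relIndex T ∣ 2 := hIi ▸ relIndex_dvd_index_of_normal I T
    have hne : I.relIndex T ≠ 1 := fun h => hφI (relIndex_eq_one.1 h hT)
    have h2 : I.relIndex T = 2 := by
      rcases (Nat.dvd_prime Nat.prime_two).1 hd with h | h
      exacts [absurd h hne, h]
    rw [← card_mul_index (I.subgroupOf T), ← inf_subgroupOf_left,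
      Nat.card_congr (Subgroup.subgroupOfEquivOfLe inf_le_left).toEquiv, inf_subgroupOf_left,
      show (I.subgroupOf T).index = 2 from h2, mul_comm]
  have hφC : φ ∈ centralizer (S₀ : Set (MulAut M)) := (hmemC φ).2 hφy
  refine ⟨by rw [half _ hφC, hCI, hS₀c], ?_⟩
  rw [half _ (centralizer_le_normalizer _ hφC)]
  -- the normaliser inside M22
  have hNI : normalizer (S₀ : Set (MulAut M)) ⊓ I = (normalizer (zpowers y : Set M)).map c := by
    ext ψ
    constructor
    · rintro ⟨hψ, k, rfl⟩
      refine ⟨k, mem_normalizer_fintype fun v hv => ?_, rfl⟩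
      have h1 := (mem_normalizer_iff.1 hψ (c v)).1 ⟨v, hv, rfl⟩
      rw [← map_inv, ← map_mul, ← map_mul] at h1
      obtain ⟨w, hw, e⟩ := h1
      rw [← hcinj e]; exact hw
    · rintro ⟨k, hk, rfl⟩
      refine ⟨mem_normalizer_fintype ?_, k, rfl⟩
      rintro _ ⟨v, hv, rfl⟩
      exact ⟨k * v * k⁻¹, (mem_normalizer_iff.1 hk v).1 hv, by rw [map_mul, map_mul, map_inv]⟩
  rw [hNI, card_map_of_injective hcinj]
  -- order twenty one
  set N := normalizer (zpowers y : Set M) with hN
  set f : N →* MulAut (zpowers y) := (zpowers y).normalizerMonoidHom with hf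
  have hker : Nat.card f.ker = 7 := by
    rw [hf, normalizerMonoidHom_ker]
    have e : centralizer (zpowers y : Set M) = zpowers y := by
      refine le_antisymm (fun k hk => hCy k (hk y (mem_zpowers y)).symm) fun k hk v hv => ?_
      obtain ⟨i, rfl⟩ := mem_zpowers_iff.1 hk
      obtain ⟨j, rfl⟩ := mem_zpowers_iff.1 hv
      exact ((Commute.refl y).zpow_zpow j i).eq
    rw [Nat.card_congr (Subgroup.subgroupOfEquivOfLe (centralizer_le_normalizer _)).toEquiv, e,
      Nat.card_zpowers, hy]
  have h6 : Nat.card f.range ∣ 6 := by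
    refine (card_subgroup_dvd_card _).trans (dvd_of_eq ?_)
    haveI : IsCyclic (zpowers y) := inferInstance
    rw [IsCyclic.card_mulAut, Nat.card_zpowers, hy]
    decide
  have hne1 : Nat.card f.range ≠ 1 := by
    intro h1
    have hcard : Nat.card N = 7 := by
      rw [← card_mul_index f.ker, index_ker, h1, hker]
    let P : Sylow 7 M := Sylow.ofCard (zpowers y) (by
      rw [Nat.card_zpowers, hy, seven_dvd.1, Nat.factorization_mul (by norm_num) (by norm_num),
        Finsupp.add_apply, Nat.Prime.factorization_self (by norm_num),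
        Nat.factorization_eq_zero_of_not_dvd seven_dvd.2, add_zero, pow_one])
    have hle : normalizer ((P : Subgroup M) : Set M) ≤ centralizer ((P : Subgroup M) : Set M) := by
      show N ≤ centralizer (zpowers y : Set M)
      have e : zpowers y = N := eq_of_le_of_card_ge le_normalizer (by rw [hcard, Nat.card_zpowers, hy])
      intro k hk v hv
      rw [← e] at hk
      obtain ⟨i, rfl⟩ := mem_zpowers_iff.1 hk
      obtain ⟨j, rfl⟩ := mem_zpowers_iff.1 hv
      exact ((Commute.refl y).zpow_zpow j i).eq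
    have hcomp := MonoidHom.ker_transferSylow_isComplement' P hle
    rcases (inferInstance : (MonoidHom.transferSylow P hle).ker.Normal).eq_bot_or_eq_top with h | h
    · have := hcomp.card_mul_card
      rw [h, card_bot, one_mul, GolayM24.card_M22] at this
      have h7 : Nat.card (P : Subgroup M) = 7 := by
        show Nat.card (zpowers y) = 7
        rw [Nat.card_zpowers, hy]
      omega
    · have := hcomp.card_mul_card
      rw [h, card_top, GolayM24.card_M22] at this
      have h7 : Nat.card (P : Subgroup M) = 7 := by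
        show Nat.card (zpowers y) = 7
        rw [Nat.card_zpowers, hy]
      omega
  have hno2 : ¬ 2 ∣ Nat.card f.range := by
    intro h2
    haveI : Fact (Nat.Prime 2) := ⟨Nat.prime_two⟩
    obtain ⟨⟨a, ha'⟩, ha⟩ := exists_prime_orderOf_dvd_card' (G := f.range) 2 h2
    rw [Subgroup.orderOf_mk] at ha
    obtain ⟨k, rfl⟩ := ha'
    apply hinv
    set u : zpowers y := ⟨y, mem_zpowers y⟩
    obtain ⟨i, hi⟩ := mem_zpowers_iff.1 (f k u).2
    have h1 : f k (f k u) = u := by
      have := congrArg (fun b : MulAut (zpowers y) => b u) (ha ▸ pow_orderOf_eq_one (f k))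
      simpa [pow_two] using this
    have h2' : (y ^ i) ^ i = y := by
      have hu : f k u = u ^ i := Subtype.ext (by rw [← hi]; rfl)
      rw [hu, map_zpow, hu] at h1
      exact congrArg Subtype.val h1
    have hne : f k u ≠ u := by
      intro e
      have : f k = 1 := by
        apply MulEquiv.ext
        intro v
        obtain ⟨j, hj⟩ := mem_zpowers_iff.1 v.2
        have hv : v = u ^ j := Subtype.ext hj.symm
        rw [hv, map_zpow, e]; rfl
      rw [this, orderOf_one] at ha
      omega
    have hi1 : (((i * i - 1 : ℤ)) : ZMod 7) = 0 := by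
      rw [ZMod.intCast_zmod_eq_zero_iff_dvd, show ((7 : ℕ) : ℤ) = (orderOf y : ℤ) by rw [hy],
        orderOf_dvd_iff_zpow_eq_one, sub_eq_add_neg, zpow_add, zpow_mul, h2', zpow_neg, zpow_one,
        mul_inv_cancel]
    have hcases := zmod_seven (i : ZMod 7) (by push_cast at hi1; exact hi1)
    have hyi : y ^ i = y ∨ y ^ i = y⁻¹ := by
      have key : ∀ j : ℤ, ((j : ℤ) : ZMod 7) = 0 → y ^ j = 1 := by
        intro j hj
        rw [ZMod.intCast_zmod_eq_zero_iff_dvd, show ((7 : ℕ) : ℤ) = (orderOf y : ℤ) by rw [hy]] at hj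
        exact orderOf_dvd_iff_zpow_eq_one.1 hj
      rcases hcases with h | h
      · left
        have := key (i - 1) (by push_cast; rw [h]; ring)
        rwa [zpow_sub, zpow_one, mul_inv_eq_one] at this
      · right
        have := key (i + 1) (by push_cast; rw [h]; ring)
        rw [zpow_add, zpow_one] at this
        exact eq_inv_of_mul_eq_one_left this
    rcases hyi with h | h
    · exact absurd (Subtype.ext (hi.symm.trans h)) hne
    · refine isConj_iff.2 ⟨(k : M), ?_⟩
      have hfk : ((f k u : zpowers y) : M) = (k : M) * y * (k : M)⁻¹ := rfl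
      rw [← hfk, ← hi, h]
  have h3 : Nat.card f.range = 3 := by
    have hle := Nat.le_of_dvd (by norm_num) h6
    rw [Nat.dvd_iff_mod_eq_zero] at h6 hno2
    interval_cases h : Nat.card f.range <;> omega
  rw [← card_mul_index f.ker, index_ker, h3, hker]

/-- An element of order twenty one. -/
theorem exists_twentyone : ∃ g : ↥Cfsg.M24, orderOf g = 21 := by
  obtain ⟨-, -, -, -, -, -, -, hg, h21, h7, h3⟩ := outer_ok
  have hv := valid_of_good hg
  refine ⟨⟨permOf p21, permOf_mem_M24 hg⟩, ?_⟩
  rw [Subgroup.orderOf_mk]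
  have hpow : ∀ n, permOf p21 ^ n = 1 ↔ isId (List.replicate n p21) = true := fun n => by
    rw [← prod_eq_one_iff (l := List.replicate n p21) (fun P hP => by rw [List.eq_of_mem_replicate hP]; exact hv)]
    simp
  have hd : orderOf (permOf p21) ∣ 21 := orderOf_dvd_of_pow_eq_one ((hpow 21).2 h21)
  have hle := Nat.le_of_dvd (by norm_num) hd
  have hn7 : ¬ orderOf (permOf p21) ∣ 7 := fun h => by
    rw [orderOf_dvd_iff_pow_eq_one, hpow, h7] at h; exact Bool.noConfusion h
  have hn3 : ¬ orderOf (permOf p21) ∣ 3 := fun h => by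
    rw [orderOf_dvd_iff_pow_eq_one, hpow, h3] at h; exact Bool.noConfusion h
  rw [Nat.dvd_iff_mod_eq_zero] at hd hn7 hn3
  interval_cases h : orderOf (permOf p21) <;> omega

end Cfsg.Agent.JFourSevenM22x30
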