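import Mathlib
import Cfsg.Agent.Lib.JFourSevenGroup30
import Cfsg.Agent.Lib.JFourSevenM22x30
import Cfsg.Agent.Lib.JFourSevenFix30
import Cfsg.Prelude.Def_Spor_Mathieu

/-!
The normaliser of a subgroup of order seven in a group of Janko-four type, from the centraliser of an
involution not conjugate to the central one and the normaliser of the large elementary abelian subgroup.
-/

set_option autoImplicit false
set_option linter.unusedSectionVars false
set_option linter.style.haveILetI false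

namespace Cfsg.Agent.JFourSevenMain30

open Subgroup Cfsg.Agent.JFourSetting97 Cfsg.Agent.JFourM22Facts97
open scoped Pointwise

universe u

variable {G : Type u} [Group G] [Finite G]

/-- The centraliser shape of an involution not conjugate to the central one. -/
def TShape (t : G) : Prop :=
  ∃ V K : Subgroup G, V ≤ centralizer ({t} : Set G) ∧ K ≤ centralizer ({t} : Set G) ∧
    centralizer ({t} : Set G) ≤ normalizer (V : Set G) ∧ Cfsg.IsElementaryAbelian 2 V ∧
    Nat.card ↥V = 2 ^ 11 ∧ K ⊓ V = ⊥ ∧ K ⊔ V = centralizer ({t} : Set G) ∧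
    Nonempty (↥K ≃* MulAut ↥Cfsg.Spor.M22)

/-- The facts used. -/
structure Facts (z : G) (P : Subgroup G) : Prop where
  three : ∀ x y : G, orderOf x = 3 → orderOf y = 3 → IsConj x y
  norm : normalizer (P : Set G) ≤ HH z
  shape : ∀ t, orderOf t = 2 → ¬ IsConj z t → TShape t
  exists_t : ∃ t, orderOf t = 2 ∧ ¬ IsConj z t
  split : ∀ V : Subgroup G, Cfsg.IsElementaryAbelian 2 V → Nat.card ↥V = 2 ^ 11 →
    ∃ K : Subgroup G, K ≤ normalizer (V : Set G) ∧ K ⊓ V = ⊥ ∧
      K ⊔ V = normalizer (V : Set G) ∧ Cfsg.Spor.IsoM24 ↥K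

/-- The centraliser of a subgroup inside another. -/
abbrev CI (T S : Subgroup G) : Subgroup G := T ⊓ centralizer (S : Set G)

/-- The normaliser of a subgroup inside another. -/
abbrev NI (T S : Subgroup G) : Subgroup G := T ⊓ normalizer (S : Set G)

/-- The conjugate subgroup. -/
abbrev cj (g : G) (S : Subgroup G) : Subgroup G := S.map (MulAut.conj g).toMonoidHom

theorem card_cj (g : G) (S : Subgroup G) : Nat.card ↥(cj g S) = Nat.card ↥S :=
  card_map_of_injective (MulAut.conj g).injective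

theorem mem_cj {g x : G} {S : Subgroup G} : x ∈ cj g S ↔ g⁻¹ * x * g ∈ S := by
  rw [Subgroup.mem_map_equiv, MulAut.conj_symm_apply]

theorem cj_cj (g h : G) (S : Subgroup G) : cj g (cj h S) = cj (g * h) S := by
  ext x
  simp only [mem_cj, mul_inv_rev, mul_assoc]

theorem cj_one (S : Subgroup G) : cj 1 S = S := by
  ext x; simp [mem_cj]

theorem CI_cj (g : G) (T S : Subgroup G) : CI (cj g T) (cj g S) = cj g (CI T S) := by
  ext x
  simp only [CI, Subgroup.mem_inf, mem_cj, mem_centralizer_iff, SetLike.mem_coe]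
  refine and_congr_right fun _ => ⟨fun h y hy => ?_, fun h y hy => ?_⟩
  · have h1 := h (g * y * g⁻¹) (by simpa [mul_assoc] using hy)
    calc y * (g⁻¹ * x * g) = g⁻¹ * (g * y * g⁻¹ * x) * g := by group
      _ = g⁻¹ * x * g * y := by rw [h1]; group
  · have h1 := h _ hy
    calc y * x = g * (g⁻¹ * y * g * (g⁻¹ * x * g)) * g⁻¹ := by group
      _ = x * y := by rw [h1]; group

theorem NI_cj (g : G) (T S : Subgroup G) : NI (cj g T) (cj g S) = cj g (NI T S) := by
  ext x
  simp only [NI, Subgroup.mem_inf, mem_cj, mem_normalizer_iff]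
  refine and_congr_right fun _ => ⟨fun h y => ?_, fun h y => ?_⟩
  · have := h (g * y * g⁻¹)
    simpa [mem_cj, mul_assoc] using this
  · have := h (g⁻¹ * y * g)
    simpa [mem_cj, mul_assoc] using this

theorem cj_self {g : G} {T : Subgroup G} (hg : g ∈ T) : cj g T = T := by
  ext x
  rw [mem_cj]
  refine ⟨fun h => ?_, fun h => mul_mem (mul_mem (inv_mem hg) h) hg⟩
  simpa [mul_assoc] using mul_mem (mul_mem hg h) (inv_mem hg)

theorem cj_centralizer (g x : G) :
    cj g (centralizer ({x} : Set G)) = centralizer ({g * x * g⁻¹} : Set G) := by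
  ext c
  rw [mem_cj, mem_centralizer_singleton_iff, mem_centralizer_singleton_iff]
  constructor
  · intro h
    calc c * (g * x * g⁻¹) = g * (g⁻¹ * c * g * x) * g⁻¹ := by group
      _ = g * x * g⁻¹ * c := by rw [h]; group
  · intro h
    calc g⁻¹ * c * g * x = g⁻¹ * (c * (g * x * g⁻¹)) * g := by group
      _ = x * (g⁻¹ * c * g) := by rw [h]; group

/-- Two subgroups of order seven of a subgroup whose order is not divisible by 49 are conjugate in it. -/
theorem conj_seven {T S S' : Subgroup G} (hT : ¬ 49 ∣ Nat.card ↥T) (hS : Nat.card ↥S = 7)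
    (hS' : Nat.card ↥S' = 7) (h : S ≤ T) (h' : S' ≤ T) : ∃ g ∈ T, cj g S = S' := by
  have hd : 7 ∣ Nat.card ↥T := hS ▸ card_dvd_of_le h
  obtain ⟨m, hm⟩ := hd
  have hm7 : ¬ 7 ∣ m := fun hd => hT (by rw [hm]; exact Nat.mul_dvd_mul_left 7 hd)
  obtain ⟨c, hc⟩ := GolayBlockTools.exists_conj_zpowers (G := ↥T) (p := 7) (k := 1) (m := m)
    (by norm_num) (by rw [hm, pow_one]) hm7 (P := S'.subgroupOf T)
    (by rw [Nat.card_congr (subgroupOfEquivOfLe h').toEquiv, hS', pow_one]) (Q := S.subgroupOf T)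
    (IsPGroup.of_card (n := 1) (by rw [Nat.card_congr (subgroupOfEquivOfLe h).toEquiv, hS, pow_one]))
  refine ⟨c, c.2, eq_of_le_of_card_ge ?_ (by rw [card_cj, hS, hS'])⟩
  rintro _ ⟨x, hx, rfl⟩
  exact hc ⟨x, h hx⟩ hx

theorem seven_gen {S : Subgroup G} (hS : Nat.card ↥S = 7) :
    ∃ s : G, orderOf s = 7 ∧ zpowers s = S := by
  haveI : Fact (Nat.Prime 7) := ⟨by norm_num⟩
  obtain ⟨s, hs⟩ := exists_prime_orderOf_dvd_card' (G := S) 7 (by rw [hS])
  refine ⟨s, by rw [Subgroup.orderOf_coe, hs], eq_of_le_of_card_ge (zpowers_le.2 s.2) ?_⟩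
  rw [Nat.card_zpowers, Subgroup.orderOf_coe, hs, hS]

theorem pow_seven {S : Subgroup G} (hS : Nat.card ↥S = 7) {x : G} (hx : x ∈ S) : x ^ 7 = 1 := by
  have h := pow_card_eq_one' (x := (⟨x, hx⟩ : S))
  rw [hS] at h
  exact congrArg Subtype.val h

theorem mem_cent_gen {s g : G} {S : Subgroup G} (h : zpowers s = S) :
    g ∈ centralizer (S : Set G) ↔ g * s = s * g := by
  subst h
  refine ⟨fun hg => (hg s (mem_zpowers s)).symm, fun hg y hy => ?_⟩
  obtain ⟨i, rfl⟩ := mem_zpowers_iff.1 hy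
  exact ((Commute.zpow_right (show Commute g s from hg) i).eq).symm

section Local

variable {z : G} {P : Subgroup G} (hJ : Cfsg.IsOfJankoFourTypeWith z P)
include hJ

theorem card_HH_not : ¬ 49 ∣ Nat.card ↥(HH z) := by
  obtain ⟨N, p, D⟩ := exists_pack hJ
  rw [card_HH D]; norm_num

theorem exists_seven : ∃ S₀ : Subgroup G, S₀ ≤ KK z P ∧ Nat.card ↥S₀ = 7 := by
  obtain ⟨N, p, D⟩ := exists_pack hJ
  haveI : Fact (Nat.Prime 7) := ⟨by norm_num⟩
  obtain ⟨s, hs⟩ := exists_prime_orderOf_dvd_card' (G := ↥(KK z P)) 7 (by rw [card_KK D]; norm_num)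
  exact ⟨zpowers (s : G), zpowers_le.2 s.2, by rw [Nat.card_zpowers, Subgroup.orderOf_coe, hs]⟩

/-- Every element of the centraliser of the involution is a product. -/
theorem decompose {h : G} (hh : h ∈ HH z) :
    ∃ e ∈ Cfsg.twoCoreOfCentralizer z, ∃ m ∈ NP z P, h = e * m := by
  obtain ⟨N, p, D⟩ := exists_pack hJ
  set E' := Cfsg.pCore 2 ↥(HH z) with hE'
  haveI : E'.Normal := HallCore.pCore_normal 2 _
  let f : ↥(NP z P) →* ↥(HH z) ⧸ E' := (QuotientGroup.mk' E').comp (Subgroup.inclusion inf_le_left)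
  have hker : Nat.card f.ker ≤ 2 := by
    refine Nat.le_trans (Nat.card_le_card_of_injective (β := zpowers z)
      (fun x => ⟨((x : ↥(NP z P)) : G), ?_⟩) ?_) (by rw [Nat.card_zpowers, D.hz])
    · have hx := x.2
      rw [MonoidHom.mem_ker, MonoidHom.comp_apply, QuotientGroup.mk'_apply, QuotientGroup.eq_one_iff] at hx
      exact E_inf_NP D ⟨_, hx, rfl⟩ (x : ↥(NP z P)).2.2
    · intro a b e
      simp only [Subtype.mk.injEq] at e
      exact Subtype.ext (Subtype.ext e)
  have hX : Nat.card (↥(HH z) ⧸ E') = 3 * 887040 := by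
    have h1 := card_eq_card_quotient_mul_card_subgroup E'
    rw [card_HH D, show Nat.card E' = 2 ^ 13 from
      (card_map_of_injective (subtype_injective _)).symm.trans D.cardE] at h1
    omega
  have hsurj : f.range = ⊤ := by
    refine eq_top_of_le_card _ ?_
    have h2 := card_mul_index f.ker
    rw [index_ker, card_NP D] at h2
    rw [hX]
    nlinarith
  obtain ⟨m, hm⟩ : QuotientGroup.mk' E' ⟨h, hh⟩ ∈ f.range := hsurj ▸ mem_top _
  have hm' : (⟨(m : G), m.2.1⟩ : ↥(HH z))⁻¹ * ⟨h, hh⟩ ∈ E' := QuotientGroup.eq.1 hm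
  refine ⟨(m : G) * ((m : G)⁻¹ * h) * (m : G)⁻¹, ?_, m, m.2, by group⟩
  exact E_normal D m.2.1 ⟨_, hm', rfl⟩

theorem local_eq {S₀ : Subgroup G} (h0 : S₀ ≤ KK z P) (hc : Nat.card ↥S₀ = 7) :
    CI (HH z) S₀ = CI (NP z P) S₀ ∧ NI (HH z) S₀ = NI (NP z P) S₀ := by
  obtain ⟨N, p, D⟩ := exists_pack hJ
  obtain ⟨s, hs7, hsS⟩ := seven_gen hc
  have hsK : s ∈ KK z P := h0 (hsS ▸ mem_zpowers s)
  have key : ∀ h ∈ NI (HH z) S₀, h ∈ NP z P := by
    intro h hh
    obtain ⟨e, he, m, hm, rfl⟩ := decompose hJ hh.1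
    have h1 : (e * m) * s * (e * m)⁻¹ ∈ S₀ :=
      (mem_normalizer_iff.1 hh.2 s).1 (hsS ▸ mem_zpowers s)
    set s' := (e * m) * s * (e * m)⁻¹ with hs'
    have hs'K : s' ∈ KK z P := h0 h1
    set c := (m * s * m⁻¹) * s'⁻¹ with hc'
    have hcN : c ∈ NP z P :=
      mul_mem (mul_mem (mul_mem hm (KK_le_NP D hsK)) (inv_mem hm)) (inv_mem (KK_le_NP D hs'K))
    have hcE : c ∈ Cfsg.twoCoreOfCentralizer z := by
      have : c = e⁻¹ * (s' * e * s'⁻¹) := by rw [hc', hs']; group
      rw [this]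
      exact mul_mem (inv_mem he) (E_normal D hs'K.1 he)
    have hcz := E_inf_NP D hcE hcN.2
    have hcc : Commute c s' := by
      obtain ⟨i, hi⟩ := mem_zpowers_iff.1 hcz
      rw [← hi]
      exact (Commute.zpow_left (mem_centralizer_singleton_iff.1 hs'K.1).symm i)
    have h7 : (c * s') ^ 7 = 1 := by
      rw [hc', inv_mul_cancel_right, conj_pow, ← hs7, pow_orderOf_eq_one, mul_one, mul_inv_cancel]
    rw [hcc.mul_pow, show s' ^ 7 = 1 from pow_seven hc h1, mul_one] at h7
    have hc2 : c ^ 2 = 1 := by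
      obtain ⟨i, hi⟩ := mem_zpowers_iff.1 hcz
      rw [← hi, ← zpow_natCast, ← zpow_mul, mul_comm, zpow_mul, zpow_natCast,
        show z ^ 2 = 1 from D.hz ▸ pow_orderOf_eq_one z, one_zpow]
    have hc1 : c = 1 := by
      rw [show (7 : ℕ) = 2 * 3 + 1 by norm_num, pow_succ, pow_mul, hc2, one_pow, one_mul] at h7
      exact h7
    have hms : m * s * m⁻¹ = s' := mul_inv_eq_one.1 hc1
    have hes : Commute e s' := by
      have : e * (m * s * m⁻¹) * e⁻¹ = s' := by rw [hs']; group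
      rw [hms] at this
      exact mul_inv_eq_iff_eq_mul.1 this
    have hgen : s' ≠ 1 := fun e1 => by
      have : s = 1 := by
        rw [hs'] at e1
        exact conj_eq_one_iff.1 e1
      rw [this, orderOf_one] at hs7
      omega
    haveI : Fact (Nat.Prime 7) := ⟨by norm_num⟩
    have hs'7 : orderOf s' = 7 := orderOf_eq_prime (pow_seven hc h1) hgen
    have hez := JFourSevenFix30.cent_core hJ hs'K hs'7 he hes
    exact mul_mem (KK_le_NP D (zp_KK D (zpowers_le.2 (z_zp D) hez))) hm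
  refine ⟨le_antisymm (fun h hh => ⟨key h ⟨hh.1, centralizer_le_normalizer _ hh.2⟩, hh.2⟩)
    (inf_le_inf_right _ inf_le_left), le_antisymm (fun h hh => ⟨key h hh, hh.2⟩)
    (inf_le_inf_right _ inf_le_left)⟩

theorem card_local {S₀ : Subgroup G} (h0 : S₀ ≤ KK z P) (hc : Nat.card ↥S₀ = 7) :
    Nat.card ↥(CI (NP z P) S₀) = 84 ∧ Nat.card ↥(NI (NP z P) S₀) = 252 := by
  obtain ⟨N, p, D⟩ := exists_pack hJ
  obtain ⟨ψ, hψ, hker⟩ := exists_aut D
  obtain ⟨s, hs7, hsS⟩ := seven_gen hc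
  have hsK : s ∈ KK z P := h0 (hsS ▸ mem_zpowers s)
  have hle : S₀ ≤ NP z P := h0.trans (KK_le_NP D)
  have hkerc : Nat.card ψ.ker = 6 := by
    rw [hker, Nat.card_congr (subgroupOfEquivOfLe ((zp_KK D).trans (KK_le_NP D))).toEquiv,
      Nat.card_zpowers, order_zp D]
  -- the kernel meets the subgroup trivially
  have hinj : ∀ x : ↥(NP z P), (x : G) ^ 7 = 1 → ψ x = 1 → x = 1 := by
    intro x h7 hx
    rw [← MonoidHom.mem_ker, hker, mem_subgroupOf] at hx
    have h6 : (x : G) ^ 6 = 1 := by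
      obtain ⟨i, hi⟩ := mem_zpowers_iff.1 hx
      rw [← hi, ← zpow_natCast, ← zpow_mul, mul_comm, zpow_mul, zpow_natCast, ← order_zp D,
        pow_orderOf_eq_one, one_zpow]
    apply Subtype.ext
    rw [OneMemClass.coe_one]
    calc (x : G) = (x : G) ^ 7 * ((x : G) ^ 6)⁻¹ := by rw [pow_succ' _ 6, mul_inv_cancel_right]
      _ = 1 := by rw [h7, h6, inv_one, one_mul]
  set S' := (S₀.subgroupOf (NP z P)).map ψ with hS'
  have hS'c : Nat.card S' = 7 := by
    rw [← hc, hS', ← Nat.card_congr (subgroupOfEquivOfLe hle).toEquiv]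
    refine (Nat.card_congr (Equiv.ofBijective (fun x => (⟨ψ x.1, x.1, x.2, rfl⟩ : _)) ⟨?_, ?_⟩)).symm
    · intro a b e
      have e' : ψ a.1 = ψ b.1 := congrArg Subtype.val e
      apply Subtype.ext
      rw [← mul_inv_eq_one]
      refine hinj _ ?_ (by rw [map_mul, map_inv, e', mul_inv_cancel])
      exact pow_seven hc (mul_mem a.2 (inv_mem b.2))
    · rintro ⟨_, x, hx, rfl⟩; exact ⟨⟨x, hx⟩, rfl⟩
  obtain ⟨hC14, hN42⟩ := JFourSevenM22x30.aut_seven S' hS'c
  -- conjugates of the generator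
  have hlift : ∀ (x : ↥(NP z P)) (s' : G), s' ∈ S₀ →
      ∀ hs' : s' ∈ NP z P, ψ (x * ⟨s, KK_le_NP D hsK⟩ * x⁻¹) = ψ ⟨s', hs'⟩ →
      (x : G) * s * (x : G)⁻¹ = s' := by
    intro x s' hs'S hs' e
    set k := x * ⟨s, KK_le_NP D hsK⟩ * x⁻¹ * (⟨s', hs'⟩ : ↥(NP z P))⁻¹ with hk
    have hk1 : ψ k = 1 := by rw [hk, map_mul, map_inv, e, mul_inv_cancel]
    have hkk : (k : G) ∈ zpowers (z * p) := by
      rw [← MonoidHom.mem_ker, hker, mem_subgroupOf] at hk1
      exact hk1
    have hcomm : Commute (k : G) s' := (center_elems D hkk s' (h0 hs'S)).symm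
    have h7 : (k : G) ^ 7 = 1 := by
      have hmul : (k : G) * s' = (x : G) * s * (x : G)⁻¹ := by
        rw [hk]; simp
      have : ((k : G) * s') ^ 7 = 1 := by
        rw [hmul, conj_pow, ← hs7, pow_orderOf_eq_one, mul_one, mul_inv_cancel]
      rwa [hcomm.mul_pow, pow_seven hc hs'S, mul_one] at this
    have hk0 := congrArg (Subtype.val : ↥(NP z P) → G) (hinj k h7 hk1)
    rw [hk] at hk0
    simpa [mul_inv_eq_one] using hk0
  have eC : (CI (NP z P) S₀).subgroupOf (NP z P) = (centralizer (S' : Set _)).comap ψ := by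
    ext x
    rw [mem_subgroupOf, mem_comap]
    constructor
    · rintro ⟨-, hx⟩ _ ⟨y, hy, rfl⟩
      rw [← map_mul, ← map_mul]
      exact congrArg ψ (Subtype.ext (hx y hy))
    · intro hx
      refine ⟨x.2, (mem_cent_gen hsS).2 (mul_inv_eq_iff_eq_mul.1
        (hlift x s (hsS ▸ mem_zpowers s) (KK_le_NP D hsK) ?_))⟩
      rw [map_mul, map_mul, map_inv, ← hx (ψ ⟨s, KK_le_NP D hsK⟩)
        ⟨_, (show (⟨s, KK_le_NP D hsK⟩ : ↥(NP z P)) ∈ S₀.subgroupOf _ from hsS ▸ mem_zpowers s), rfl⟩,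
        mul_inv_cancel_right]
  have eN : (NI (NP z P) S₀).subgroupOf (NP z P) = (normalizer (S' : Set _)).comap ψ := by
    ext x
    rw [mem_subgroupOf, mem_comap]
    constructor
    · rintro ⟨-, hx⟩
      refine mem_normalizer_fintype ?_
      rintro _ ⟨y, hy, rfl⟩
      refine ⟨x * y * x⁻¹, ?_, by rw [map_mul, map_mul, map_inv]⟩
      exact (mem_normalizer_iff.1 hx y).1 hy
    · intro hx
      obtain ⟨y, hy, e⟩ := (mem_normalizer_iff.1 hx (ψ ⟨s, KK_le_NP D hsK⟩)).1
        ⟨_, (show (⟨s, KK_le_NP D hsK⟩ : ↥(NP z P)) ∈ S₀.subgroupOf _ from hsS ▸ mem_zpowers s), rfl⟩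
      have he := hlift x y hy y.2 (by rw [map_mul, map_mul, map_inv, e])
      refine ⟨x.2, mem_normalizer_fintype fun w hw => ?_⟩
      rw [← hsS] at hw
      obtain ⟨i, rfl⟩ := mem_zpowers_iff.1 hw
      rw [← conj_zpow, he]
      exact zpow_mem hy i
  have key : ∀ (T : Subgroup G) (A : Subgroup (MulAut ↥Cfsg.Spor.M22)), T ≤ NP z P →
      T.subgroupOf (NP z P) = A.comap ψ → Nat.card ↥T = 6 * Nat.card A := by
    intro T A hT e
    rw [← Nat.card_congr (subgroupOfEquivOfLe hT).toEquiv, e]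
    have h1 := card_mul_index (A.comap ψ)
    rw [index_comap_of_surjective _ hψ, card_NP D] at h1
    have h2 := card_mul_index A
    rw [card_mulAut] at h2
    rw [← h2] at h1
    have hi : 0 < A.index := Nat.pos_of_ne_zero index_ne_zero_of_finite
    exact Nat.eq_of_mul_eq_mul_right hi (h1.trans (mul_assoc _ _ _).symm)
  exact ⟨by rw [key _ _ inf_le_left eC, hC14], by rw [key _ _ inf_le_left eN, hN42]⟩

theorem local_facts {S : Subgroup G} (hS : Nat.card ↥S = 7) (hSH : S ≤ HH z) :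
    Nat.card ↥(CI (HH z) S) = 84 ∧ Nat.card ↥(NI (HH z) S) = 252 := by
  obtain ⟨S₀, h0, hc⟩ := exists_seven hJ
  obtain ⟨g, hg, e⟩ := conj_seven (card_HH_not hJ) hc hS (h0.trans inf_le_left) hSH
  obtain ⟨e1, e2⟩ := local_eq hJ h0 hc
  obtain ⟨n1, n2⟩ := card_local hJ h0 hc
  constructor
  · rw [← cj_self hg, ← e, CI_cj, card_cj, e1, n1]
  · rw [← cj_self hg, ← e, NI_cj, card_cj, e2, n2]

end Local

section Shape

variable {t : G} {V K : Subgroup G} (hVC : V ≤ centralizer ({t} : Set G))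
  (hKC : K ≤ centralizer ({t} : Set G)) (hN : centralizer ({t} : Set G) ≤ normalizer (V : Set G))
  (hV : Cfsg.IsElementaryAbelian 2 V) (hVc : Nat.card ↥V = 2 ^ 11) (hKV : K ⊓ V = ⊥)
  (hsup : K ⊔ V = centralizer ({t} : Set G)) (iso : ↥K ≃* MulAut ↥Cfsg.Spor.M22)
include hVC hKC hN hVc hKV hsup iso

theorem t_mem (ht : orderOf t = 2) : t ∈ V := by
  have hmem : t ∈ ((K ⊔ V : Subgroup G) : Set G) := by
    rw [hsup]; exact mem_centralizer_singleton_iff.2 rfl
  rw [Subgroup.coe_mul_of_left_le_normalizer_right K V (hKC.trans hN)] at hmem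
  obtain ⟨k, hk, v, hv, e⟩ := hmem
  have hkc : ∀ y ∈ K, k * y = y * k := by
    intro y hy
    have h1 : t * y = y * t := (mem_centralizer_singleton_iff.1 (hKC hy)).symm
    rw [← e] at h1
    have h2 : k⁻¹ * y⁻¹ * k * y = v * (y⁻¹ * v⁻¹ * y) := by
      calc k⁻¹ * y⁻¹ * k * y = k⁻¹ * y⁻¹ * (k * v * y) * (y⁻¹ * v⁻¹ * y) := by group
        _ = k⁻¹ * y⁻¹ * (y * (k * v)) * (y⁻¹ * v⁻¹ * y) := by rw [h1]
        _ = v * (y⁻¹ * v⁻¹ * y) := by group
    have hV' : y⁻¹ * v⁻¹ * y ∈ V := by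
      have := (mem_normalizer_iff.1 (hN (inv_mem (hKC hy))) v⁻¹).1 (inv_mem hv)
      simpa using this
    have : k⁻¹ * y⁻¹ * k * y = 1 := by
      rw [← Subgroup.mem_bot, ← hKV]
      exact Subgroup.mem_inf.2 ⟨mul_mem (mul_mem (mul_mem (inv_mem hk) (inv_mem hy)) hk) hy, h2 ▸ mul_mem hv hV'⟩
    calc k * y = y * k * (k⁻¹ * y⁻¹ * k * y) := by group
      _ = y * k := by rw [this, mul_one]
  have hk1 : iso ⟨k, hk⟩ = 1 := by
    apply MulEquiv.ext
    intro g
    obtain ⟨y, hy⟩ := iso.surjective (MulAut.conj g)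
    have h1 : iso ⟨k, hk⟩ * MulAut.conj g = MulAut.conj g * iso ⟨k, hk⟩ := by
      rw [← hy, ← map_mul, ← map_mul]
      exact congrArg iso (Subtype.ext (hkc y y.2))
    set φ := iso ⟨k, hk⟩
    have h2 : ∀ x, φ g * φ x * (φ g)⁻¹ = g * φ x * g⁻¹ := fun x => by
      have := congrArg (fun f : MulAut ↥Cfsg.Spor.M22 => f x) h1
      simpa [MulAut.mul_apply] using this
    have h3 : g⁻¹ * φ g ∈ center ↥Cfsg.Spor.M22 := by
      rw [mem_center_iff]
      intro x
      obtain ⟨x, rfl⟩ := φ.surjective x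
      calc φ x * (g⁻¹ * φ g) = g⁻¹ * (g * φ x * g⁻¹) * φ g := by group
        _ = g⁻¹ * φ g * φ x := by rw [← h2]; group
    rw [center_eq_bot, mem_bot, inv_mul_eq_one] at h3
    exact h3.symm
  rw [MulEquiv.map_eq_one_iff] at hk1
  rw [← e, show k = 1 from congrArg Subtype.val hk1]
  simpa using hv

theorem card_cent : Nat.card ↥(centralizer ({t} : Set G)) = 2 ^ 11 * 887040 ∧
    Nat.card ↥K = 887040 := by
  have hK : Nat.card ↥K = 887040 := by rw [Nat.card_congr iso.toEquiv, card_mulAut]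
  refine ⟨?_, hK⟩
  rw [← hVc, ← hK]
  rw [← SetLike.coe_sort_coe (centralizer ({t} : Set G)), ← hsup,
    Subgroup.coe_mul_of_left_le_normalizer_right K V (hKC.trans hN)]
  rw [← Nat.card_prod]
  refine Nat.card_congr ((Equiv.prodComm _ _).trans (Equiv.ofBijective
    (fun x : ↥K × ↥V => (⟨(x.1 : G) * x.2, Set.mul_mem_mul x.1.2 x.2.2⟩ : ((K : Set G) * (V : Set G) : Set G)))
    ⟨?_, ?_⟩)).symm
  · intro a b e
    have e' : (a.1 : G) * a.2 = b.1 * b.2 := congrArg Subtype.val e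
    have h : (b.1 : G)⁻¹ * a.1 = b.2 * (a.2 : G)⁻¹ := by
      calc (b.1 : G)⁻¹ * a.1 = (b.1 : G)⁻¹ * ((a.1 : G) * a.2) * (a.2 : G)⁻¹ := by group
        _ = _ := by rw [e']; group
    have h1 : (b.1 : G)⁻¹ * a.1 = 1 := by
      rw [← Subgroup.mem_bot, ← hKV]
      exact Subgroup.mem_inf.2 ⟨mul_mem (inv_mem b.1.2) a.1.2, h ▸ mul_mem b.2.2 (inv_mem a.2.2)⟩
    refine Prod.ext (Subtype.ext (inv_mul_eq_one.1 h1).symm) (Subtype.ext ?_)
    rw [h1] at h
    exact (mul_inv_eq_one.1 h.symm).symm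
  · rintro ⟨_, k, hk, v, hv, rfl⟩; exact ⟨(⟨k, hk⟩, ⟨v, hv⟩), rfl⟩

theorem cent_seven_card {S : Subgroup G} (hS : Nat.card ↥S = 7)
    (hSC : S ≤ centralizer ({t} : Set G)) :
    Nat.card ↥(CI (centralizer ({t} : Set G)) S) = Nat.card ↥(CI V S) * 14 := by
  obtain ⟨hC, hK⟩ := card_cent hVC hKC hN hVc hKV hsup iso
  obtain ⟨s, hs⟩ : ∃ S₁ : Subgroup G, S₁ ≤ K ∧ Nat.card ↥S₁ = 7 := by
    haveI : Fact (Nat.Prime 7) := ⟨by norm_num⟩
    obtain ⟨x, hx⟩ := exists_prime_orderOf_dvd_card' (G := K) 7 (by rw [hK]; norm_num)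
    exact ⟨zpowers (x : G), zpowers_le.2 x.2, by rw [Nat.card_zpowers, Subgroup.orderOf_coe, hx]⟩
  obtain ⟨hsK, hsc⟩ := hs
  obtain ⟨g, hg, e⟩ := conj_seven (T := centralizer ({t} : Set G)) (by rw [hC]; norm_num) hsc hS
    (hsK.trans hKC) hSC
  have hVg : cj g V = V := by
    ext x
    rw [mem_cj]
    have := mem_normalizer_iff.1 (hN (inv_mem hg)) x
    simpa using this.symm
  rw [← e]
  conv_lhs => rw [← cj_self hg, CI_cj, card_cj]
  conv_rhs => rw [← hVg, CI_cj, card_cj]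
  set S₁ := s with hS₁
  obtain ⟨x, hx7, hxS⟩ := seven_gen hsc
  have hxK : x ∈ K := hsK (hxS ▸ mem_zpowers x)
  have hdec : ∀ g ∈ CI (centralizer ({t} : Set G)) S₁,
      ∃ k ∈ CI K S₁, ∃ v ∈ CI V S₁, g = k * v := by
    rintro g ⟨hg, hgS⟩
    have hmem : g ∈ ((K ⊔ V : Subgroup G) : Set G) := by rw [hsup]; exact hg
    rw [Subgroup.coe_mul_of_left_le_normalizer_right K V (hKC.trans hN)] at hmem
    obtain ⟨k, hk, v, hv, rfl⟩ := hmem
    have h1 : k * v * x = x * (k * v) := (mem_cent_gen hxS).1 hgS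
    have h4 : x⁻¹ * k * x * (x⁻¹ * v * x) = k * v := by
      calc x⁻¹ * k * x * (x⁻¹ * v * x) = x⁻¹ * (k * v * x) := by group
        _ = k * v := by rw [h1]; group
    have hvx : x⁻¹ * v * x ∈ V := by
      have := (mem_normalizer_iff.1 (hN (inv_mem (hKC hxK))) v).1 hv
      simpa using this
    have h5 : k⁻¹ * (x⁻¹ * k * x) = v * (x⁻¹ * v * x)⁻¹ := by
      calc k⁻¹ * (x⁻¹ * k * x) = k⁻¹ * (x⁻¹ * k * x * (x⁻¹ * v * x)) * (x⁻¹ * v * x)⁻¹ := by group
        _ = _ := by rw [h4]; group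
    have h6 : k⁻¹ * (x⁻¹ * k * x) = 1 := by
      rw [← Subgroup.mem_bot, ← hKV]
      exact Subgroup.mem_inf.2 ⟨mul_mem (inv_mem hk) (mul_mem (mul_mem (inv_mem hxK) hk) hxK),
        h5 ▸ mul_mem hv (inv_mem hvx)⟩
    have hkx : k * x = x * k := by
      calc k * x = x * (k * (k⁻¹ * (x⁻¹ * k * x))) := by group
        _ = x * k := by rw [h6, mul_one]
    have hkS : k ∈ centralizer (S₁ : Set G) := (mem_cent_gen hxS).2 hkx
    refine ⟨k, ⟨hk, hkS⟩, v, ⟨hv, ?_⟩, rfl⟩
    have : k⁻¹ * (k * v) ∈ centralizer (S₁ : Set G) := mul_mem (inv_mem hkS) hgS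
    rwa [inv_mul_cancel_left] at this
  have hbij : Nat.card ↥(CI (centralizer ({t} : Set G)) S₁) =
      Nat.card ↥(CI V S₁) * Nat.card ↥(CI K S₁) := by
    rw [← Nat.card_prod]
    refine (Nat.card_congr (Equiv.ofBijective (fun y : ↥(CI V S₁) × ↥(CI K S₁) =>
      (⟨(y.2 : G) * y.1, mul_mem (hKC y.2.2.1) (hVC y.1.2.1), mul_mem y.2.2.2 y.1.2.2⟩ :
        ↥(CI (centralizer ({t} : Set G)) S₁))) ⟨?_, ?_⟩)).symm
    · intro a b e
      have e' : (a.2 : G) * a.1 = b.2 * b.1 := congrArg Subtype.val e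
      have h : (b.2 : G)⁻¹ * a.2 = b.1 * (a.1 : G)⁻¹ := by
        calc (b.2 : G)⁻¹ * a.2 = (b.2 : G)⁻¹ * ((a.2 : G) * a.1) * (a.1 : G)⁻¹ := by group
          _ = _ := by rw [e']; group
      have h1 : (b.2 : G)⁻¹ * a.2 = 1 := by
        rw [← Subgroup.mem_bot, ← hKV]
        exact Subgroup.mem_inf.2 ⟨mul_mem (inv_mem b.2.2.1) a.2.2.1, h ▸ mul_mem b.1.2.1 (inv_mem a.1.2.1)⟩
      refine Prod.ext (Subtype.ext ?_) (Subtype.ext (inv_mul_eq_one.1 h1).symm)
      rw [h1] at h
      exact (mul_inv_eq_one.1 h.symm).symm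
    · rintro ⟨g, hg⟩
      obtain ⟨k, hk, v, hv, rfl⟩ := hdec g hg
      exact ⟨(⟨v, hv⟩, ⟨k, hk⟩), rfl⟩
  rw [hbij]
  congr 1
  -- transport to the automorphism group
  set A := (S₁.subgroupOf K).map iso.toMonoidHom with hA
  have hAc : Nat.card A = 7 := by
    rw [hA, card_map_of_injective (f := iso.toMonoidHom) iso.injective,
      Nat.card_congr (subgroupOfEquivOfLe hsK).toEquiv, hsc]
  rw [← (JFourSevenM22x30.aut_seven A hAc).1]
  refine (Nat.card_congr (Equiv.ofBijective (fun y : ↥(CI K S₁) =>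
    (⟨iso ⟨y, y.2.1⟩, ?_⟩ : ↥(centralizer (A : Set (MulAut ↥Cfsg.Spor.M22))))) ⟨?_, ?_⟩))
  · rintro _ ⟨w, hw, rfl⟩
    show iso w * _ = _ * iso w
    rw [← map_mul, ← map_mul]
    exact congrArg iso (Subtype.ext (y.2.2 w hw))
  · intro a b e
    exact Subtype.ext (congrArg (Subtype.val : ↥K → G) (iso.injective (congrArg Subtype.val e)))
  · rintro ⟨φ, hφ⟩
    obtain ⟨k, rfl⟩ := iso.surjective φ
    refine ⟨⟨k, k.2, fun w hw => ?_⟩, rfl⟩
    have := hφ (iso ⟨w, hsK hw⟩) ⟨⟨w, hsK hw⟩, hw, rfl⟩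
    rw [← map_mul, ← map_mul] at this
    exact congrArg Subtype.val (iso.injective this)

end Shape

/-- The number of fixed elements of an elementary abelian subgroup of order 2^11. -/
theorem fixed_mod {V S : Subgroup G} (hVc : Nat.card ↥V = 2 ^ 11) (hS : Nat.card ↥S = 7)
    (hn : S ≤ normalizer (V : Set G)) : Nat.card ↥(CI V S) ≡ 4 [MOD 7] := by
  haveI : Fact (Nat.Prime 7) := ⟨by norm_num⟩
  obtain ⟨s, hs7, hsS⟩ := seven_gen hS
  let f : ↥V → ↥V := fun v => ⟨s * v * s⁻¹,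
    (mem_normalizer_iff.1 (hn (hsS ▸ mem_zpowers s)) v).1 v.2⟩
  have hit : ∀ k (v : ↥V), ((f^[k] v : ↥V) : G) = s ^ k * v * (s ^ k)⁻¹ := by
    intro k
    induction k with
    | zero => intro v; simp
    | succ k ih =>
      intro v
      rw [Function.iterate_succ_apply', pow_succ']
      show s * _ * s⁻¹ = _
      rw [ih]; group
  have h := JFourSevenFix30.card_fixed_modEq (p := 7) f fun v => Subtype.ext (by
    rw [hit, ← hs7, pow_orderOf_eq_one]; simp)
  rw [hVc] at h
  have e : Nat.card {v : ↥V // f v = v} = Nat.card ↥(CI V S) := by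
    refine Nat.card_congr
      { toFun := fun v => ⟨v.1, v.1.2, (mem_cent_gen hsS).2 ?_⟩
        invFun := fun v => ⟨⟨v.1, v.2.1⟩, Subtype.ext ?_⟩
        left_inv := fun v => rfl
        right_inv := fun v => rfl }
    · exact (mul_inv_eq_iff_eq_mul.1 (congrArg Subtype.val v.2)).symm
    · show s * (v : G) * s⁻¹ = v
      rw [← (mem_cent_gen hsS).1 v.2.2, mul_inv_cancel_right]
  rw [e] at h
  exact h.symm.trans (by decide)

/-! ### The quotient of the centraliser -/

/-- The subgroup inside its centraliser. -/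
abbrev Sc (S : Subgroup G) : Subgroup ↥(centralizer (S : Set G)) :=
  S.subgroupOf (centralizer (S : Set G))

instance (S : Subgroup G) : (Sc S).Normal := ⟨fun n hn g => by
  have h : ((n : G) * g = g * n) := g.2 n hn
  show (g : G) * n * (g : G)⁻¹ ∈ S
  rw [← h, mul_inv_cancel_right]
  exact hn⟩

/-- The quotient. -/
abbrev XX (S : Subgroup G) : Type u := ↥(centralizer (S : Set G)) ⧸ Sc S

section Quot

variable {S : Subgroup G} (hS : Nat.card ↥S = 7)
include hS

theorem S_le : S ≤ centralizer (S : Set G) := by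
  intro x hx y hy
  obtain ⟨s, -, hsS⟩ := seven_gen hS
  rw [SetLike.mem_coe, ← hsS] at hy
  rw [← hsS] at hx
  obtain ⟨i, rfl⟩ := mem_zpowers_iff.1 hy
  obtain ⟨j, rfl⟩ := mem_zpowers_iff.1 hx
  exact ((Commute.refl s).zpow_zpow i j).eq

theorem card_Sc : Nat.card (Sc S) = 7 := by
  rw [Nat.card_congr (subgroupOfEquivOfLe (S_le hS)).toEquiv, hS]

theorem sc_eq_one {w : ↥(centralizer (S : Set G))} (hw : w ∈ Sc S) (h2 : w ^ 2 = 1) : w = 1 := by
  have h7 : w ^ 7 = 1 := Subtype.ext (pow_seven hS hw)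
  rw [show (7 : ℕ) = 2 * 3 + 1 by norm_num, pow_succ, pow_mul, h2, one_pow, one_mul] at h7
  exact h7

theorem order_mk {u : ↥(centralizer (S : Set G))} (hu : orderOf u = 2) :
    orderOf (QuotientGroup.mk' (Sc S) u) = 2 := by
  have h2 : u ^ 2 = 1 := hu ▸ pow_orderOf_eq_one u
  refine orderOf_eq_prime (by rw [← map_pow, h2, map_one]) fun e => ?_
  rw [QuotientGroup.mk'_apply, QuotientGroup.eq_one_iff] at e
  have := sc_eq_one hS e h2
  rw [this, orderOf_one] at hu
  omega

theorem exists_lift (x : XX S) (hx : orderOf x = 2) :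
    ∃ u : ↥(centralizer (S : Set G)), orderOf u = 2 ∧ QuotientGroup.mk' (Sc S) u = x := by
  obtain ⟨u, rfl⟩ := QuotientGroup.mk'_surjective _ x
  have h2 : u ^ 2 ∈ Sc S := by
    rw [← QuotientGroup.eq_one_iff]
    show QuotientGroup.mk' (Sc S) (u ^ 2) = 1
    rw [map_pow, ← hx, pow_orderOf_eq_one]
  have he : QuotientGroup.mk' (Sc S) (u ^ 7) = QuotientGroup.mk' (Sc S) u := by
    rw [map_pow, show (7 : ℕ) = 2 * 3 + 1 by norm_num, pow_succ, pow_mul,
      show QuotientGroup.mk' (Sc S) u ^ 2 = 1 from hx ▸ pow_orderOf_eq_one _, one_pow, one_mul]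
  refine ⟨u ^ 7, orderOf_eq_prime ?_ ?_, he⟩
  · rw [← pow_mul, mul_comm, pow_mul]
    exact Subtype.ext (pow_seven hS h2)
  · intro h1
    rw [h1, map_one] at he
    rw [← he, orderOf_one] at hx
    omega

theorem card_cent_mk {u : ↥(centralizer (S : Set G))} (hu : orderOf u = 2) :
    7 * JFourSevenGroup30.cc (QuotientGroup.mk' (Sc S) u) =
      Nat.card ↥(CI (centralizer ({(u : G)} : Set G)) S) := by
  have e : (centralizer ({QuotientGroup.mk' (Sc S) u} : Set (XX S))).comap (QuotientGroup.mk' (Sc S)) =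
      centralizer ({u} : Set ↥(centralizer (S : Set G))) := by
    ext g
    rw [mem_comap, mem_centralizer_singleton_iff, mem_centralizer_singleton_iff]
    constructor
    · intro h
      rw [← map_mul, ← map_mul, QuotientGroup.mk'_apply, QuotientGroup.mk'_apply, QuotientGroup.eq] at h
      set w := (g * u)⁻¹ * (u * g) with hw
      have hc : ∀ y, y * w = w * y := fun y => Subtype.ext (y.2 w h).symm
      have h1 : g⁻¹ * u * g = u * w := by rw [hw]; group
      have h2 : (u * w) ^ 2 = 1 := by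
        rw [← h1, pow_two]
        calc g⁻¹ * u * g * (g⁻¹ * u * g) = g⁻¹ * (u * u) * g := by group
          _ = 1 := by rw [show u * u = 1 by rw [← pow_two, ← hu, pow_orderOf_eq_one]]; group
      rw [(show Commute u w from hc u).mul_pow, ← hu, pow_orderOf_eq_one, one_mul] at h2
      have := sc_eq_one hS h (hu ▸ h2)
      rw [hw, inv_mul_eq_one] at this
      exact this
    · intro h; rw [← map_mul, ← map_mul, h]
  have h1 := congrArg (fun T : Subgroup _ => Nat.card T) e
  have h3 : Nat.card ↥(centralizer ({u} : Set ↥(centralizer (S : Set G)))) =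
      Nat.card ↥(CI (centralizer ({(u : G)} : Set G)) S) := by
    refine Nat.card_congr
      { toFun := fun g => ⟨(g.1 : G), mem_centralizer_singleton_iff.2
          (congrArg Subtype.val (mem_centralizer_singleton_iff.1 g.2)), g.1.2⟩
        invFun := fun g => ⟨⟨g.1, g.2.2⟩, mem_centralizer_singleton_iff.2
          (Subtype.ext (mem_centralizer_singleton_iff.1 g.2.1))⟩
        left_inv := fun g => rfl
        right_inv := fun g => rfl }
  rw [← h3, ← h1]
  set A := centralizer ({QuotientGroup.mk' (Sc S) u} : Set (XX S))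
  have k1 := card_mul_index (A.comap (QuotientGroup.mk' (Sc S)))
  have k2 := card_mul_index A
  rw [index_comap_of_surjective _ (QuotientGroup.mk'_surjective _),
    card_eq_card_quotient_mul_card_subgroup (Sc S), card_Sc hS, ← k2] at k1
  have hi : 0 < A.index := Nat.pos_of_ne_zero index_ne_zero_of_finite
  show 7 * Nat.card A = _
  refine Nat.eq_of_mul_eq_mul_right hi ?_
  rw [k1]; ring

end Quot

/-- A two-group with an element whose centraliser has order four has no elementary subgroup of order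
eight. -/
theorem no_eight {W : Type*} [Group W] [Finite W] {n : ℕ} (hW : Nat.card W = 2 ^ n) {x : W}
    (hC : Nat.card ↥(centralizer ({x} : Set W)) = 4) {B : Subgroup W}
    (hB2 : ∀ b ∈ B, b ^ 2 = 1) (hB : 8 ∣ Nat.card B) : False := by
  haveI : Fact (Nat.Prime 2) := ⟨Nat.prime_two⟩
  set A := centralizer ({x} : Set W) with hA
  have hcomm : ∀ a ∈ A, ∀ b ∈ A, a * b = b * a := by
    intro a ha b hb
    exact congrArg Subtype.val (IsPGroup.commutative_of_card_eq_prime_sq (p := 2) (G := A)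
      (by rw [hC]; norm_num) ⟨a, ha⟩ ⟨b, hb⟩)
  have hAA : centralizer (A : Set W) = A := by
    refine le_antisymm (fun w hw => mem_centralizer_singleton_iff.2
      (hw x (mem_centralizer_singleton_iff.2 rfl)).symm) fun w hw a ha => (hcomm a ha w hw)
  have hclass := MaxClassTwo.class_of_self_centralizing n W hW A (by rw [hC]; norm_num) hAA
  have h8 : 8 ∣ Nat.card W := hB.trans (card_subgroup_dvd_card B)
  have hn : 3 ≤ n := by
    rw [hW, show 8 = 2 ^ 3 by norm_num] at h8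
    exact (Nat.pow_dvd_pow_iff_le_right (by norm_num)).1 h8
  obtain ⟨Cy, hcyc, hidx⟩ := MaxClassTwo.exists_cyclic_index_two n W hW hn hclass
  haveI := hcyc
  haveI : Cy.Normal := normal_of_index_eq_two hidx
  have hle : Cy.relIndex B ∣ 2 := hidx ▸ relIndex_dvd_index_of_normal Cy B
  set T := Cy.subgroupOf B with hT
  have h4 : 4 ∣ Nat.card T := by
    have h := card_mul_index T
    rw [← h, show T.index = Cy.relIndex B from rfl] at hB
    rcases (Nat.dvd_prime Nat.prime_two).1 hle with e | e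
    · rw [e, mul_one] at hB; exact (by norm_num : 4 ∣ 8).trans hB
    · rw [e] at hB; exact (Nat.mul_dvd_mul_iff_right (by norm_num : 0 < 2)).1 hB
  have hTc : IsCyclic T := isCyclic_of_injective
    ((MonoidHom.codRestrict ((B.subtype).comp T.subtype) Cy fun y => y.2))
    fun a b e => Subtype.ext (Subtype.ext (congrArg Subtype.val e :))
  obtain ⟨g, hg⟩ := IsCyclic.exists_ofOrder_eq_natCard (α := T)
  have h2 : orderOf g ∣ 2 := orderOf_dvd_of_pow_eq_one (Subtype.ext (Subtype.ext (hB2 _ g.1.2)))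
  rw [hg] at h2
  exact absurd (Nat.le_of_dvd (by norm_num) (h4.trans h2)) (by norm_num)

theorem image_bound {X : Type*} [Group X] [Finite X] {x : X}
    (hx : orderOf x = 2) (hc : JFourSevenGroup30.cc x = 12) (B : Subgroup X)
    (hB2 : ∀ b ∈ B, b ^ 2 = 1) : ¬ 8 ∣ Nat.card B := by
  intro hB
  haveI : Fact (Nat.Prime 2) := ⟨Nat.prime_two⟩
  set Cx := centralizer ({x} : Set X) with hCx
  obtain ⟨A⟩ := (inferInstance : Nonempty (Sylow 2 Cx))
  have hA4 : Nat.card (A : Subgroup Cx) = 4 := by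
    rw [A.card_eq_multiplicity, show Nat.card Cx = 2 ^ 2 * 3 from hc,
      Nat.factorization_mul (by norm_num) (by norm_num), Finsupp.add_apply,
      Nat.Prime.factorization_pow Nat.prime_two, Finsupp.single_eq_same,
      Nat.factorization_eq_zero_of_not_dvd (by norm_num), add_zero]
    norm_num
  have hxA : (⟨x, mem_centralizer_singleton_iff.2 rfl⟩ : Cx) ∈ (A : Subgroup Cx) := by
    set x' : Cx := ⟨x, mem_centralizer_singleton_iff.2 rfl⟩
    haveI : (zpowers x').Normal := ⟨fun n hn g => by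
      obtain ⟨i, rfl⟩ := mem_zpowers_iff.1 hn
      have hgx : Commute g x' := Subtype.ext (mem_centralizer_singleton_iff.1 g.2)
      rw [(hgx.zpow_right i).eq, mul_inv_cancel_right]
      exact zpow_mem (mem_zpowers x') i⟩
    have hP : IsPGroup 2 (zpowers x') := IsPGroup.of_card (n := 1) (by
      rw [Nat.card_zpowers, ← Subgroup.orderOf_coe, hx, pow_one])
    exact (A.is_maximal' (hP.to_sup_of_normal_left A.isPGroup') le_sup_right).le.trans'
      le_sup_left (mem_zpowers x')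
  set A' := (A : Subgroup Cx).map Cx.subtype with hA'
  obtain ⟨W, hW⟩ := (A.isPGroup'.map Cx.subtype).exists_le_sylow
  have hxW : x ∈ (W : Subgroup X) := hW ⟨_, hxA, rfl⟩
  obtain ⟨n, hn⟩ := IsPGroup.iff_card.1 W.isPGroup'
  set xw : ↥(W : Subgroup X) := ⟨x, hxW⟩
  have hC4 : Nat.card ↥(centralizer ({xw} : Set ↥(W : Subgroup X))) = 4 := by
    refine Nat.dvd_antisymm ?_ ?_
    · let f : ↥(centralizer ({xw} : Set ↥(W : Subgroup X))) →* Cx :=
        ((Subgroup.subtype _).comp (Subgroup.subtype _)).codRestrict Cx fun g =>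
          mem_centralizer_singleton_iff.2 (congrArg Subtype.val (mem_centralizer_singleton_iff.1 g.2))
      have hf : Function.Injective f := fun a b e =>
        Subtype.ext (Subtype.ext (congrArg Subtype.val e :))
      have hd := card_dvd_of_injective f hf
      rw [show Nat.card Cx = 12 from hc] at hd
      obtain ⟨j, hj⟩ := IsPGroup.iff_card.1
        ((IsPGroup.of_card hn).to_subgroup (centralizer ({xw} : Set ↥(W : Subgroup X))))
      rw [hj] at hd ⊢
      have : j ≤ 2 := by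
        by_contra h
        push Not at h
        exact absurd ((pow_dvd_pow 2 h).trans hd) (by norm_num)
      exact (pow_dvd_pow 2 this).trans (dvd_of_eq rfl)
    · rw [← hA4]
      refine card_dvd_of_injective (α := (A : Subgroup Cx))
        (MonoidHom.codRestrict (MonoidHom.codRestrict (Cx.subtype.comp (A : Subgroup Cx).subtype)
          (W : Subgroup X) fun y => hW ⟨y, y.2, rfl⟩) _ fun y => mem_centralizer_singleton_iff.2
            (Subtype.ext (mem_centralizer_singleton_iff.1 (y : Cx).2))) ?_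
      intro a b e
      exact Subtype.ext (Subtype.ext
        (congrArg (fun w : ↥(centralizer ({xw} : Set ↥(W : Subgroup X))) => ((w.1 : X))) e))
  have hB2g : IsPGroup 2 B := fun b => ⟨1, Subtype.ext (hB2 _ b.2)⟩
  obtain ⟨U, hU⟩ := hB2g.exists_le_sylow
  obtain ⟨g, hg⟩ := MulAction.exists_smul_eq X U W
  let f : B →* ↥(W : Subgroup X) := ((MulAut.conj g).toMonoidHom.comp B.subtype).codRestrict _ fun b => by
    rw [← hg, Sylow.coe_subgroup_smul]
    exact Subgroup.smul_mem_pointwise_smul _ _ _ (hU b.2)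
  have hf : Function.Injective f := fun a b e =>
    Subtype.ext ((MulAut.conj g).injective (congrArg Subtype.val e :))
  refine no_eight hn hC4 (B := f.range) ?_ ?_
  · rintro _ ⟨b, rfl⟩
    rw [← map_pow, show b ^ 2 = 1 from Subtype.ext (hB2 _ b.2), map_one]
  · rw [← Nat.card_congr (MonoidHom.ofInjective hf).toEquiv]; exact hB

section Global

variable {z : G} {P : Subgroup G} (hJ : Cfsg.IsOfJankoFourTypeWith z P) (F : Facts z P)
include hJ F

/-- Subgroups of order seven centralised by an element of order three are conjugate. -/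
theorem conj_to {S S' : Subgroup G} (hS : Nat.card ↥S = 7) (hSH : S ≤ HH z)
    (hS' : Nat.card ↥S' = 7) {r : G} (hr : orderOf r = 3) (hrS : r ∈ centralizer (S' : Set G)) :
    ∃ g, cj g S' = S := by
  obtain ⟨N, p, D⟩ := exists_pack hJ
  obtain ⟨g, hg⟩ := isConj_iff.1 (F.three r p hr D.ord)
  have hle : cj g S' ≤ HH z := by
    rintro _ ⟨x, hx, rfl⟩
    refine F.norm (centralizer_le_normalizer _ ?_)
    intro y hy
    rw [SetLike.mem_coe, ← D.gen] at hy
    obtain ⟨i, rfl⟩ := mem_zpowers_iff.1 hy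
    have h1 : Commute (g * x * g⁻¹) p := by
      rw [← hg]
      show g * x * g⁻¹ * (g * r * g⁻¹) = g * r * g⁻¹ * (g * x * g⁻¹)
      calc g * x * g⁻¹ * (g * r * g⁻¹) = g * (x * r) * g⁻¹ := by group
        _ = g * (r * x) * g⁻¹ := by rw [hrS x hx]
        _ = _ := by group
    exact (h1.zpow_right i).eq.symm
  obtain ⟨h, -, e⟩ := conj_seven (card_HH_not hJ) (by rw [card_cj, hS']) hS hle hSH
  exact ⟨h * g, by rw [← cj_cj, e]⟩

/-- A subgroup of order seven centralising an involution not conjugate to the central one and an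
element of order three normalising the large elementary subgroup. -/
theorem exists_config : ∃ (S' V K : Subgroup G) (t r : G), Nat.card ↥S' = 7 ∧ orderOf t = 2 ∧
    ¬ IsConj z t ∧ orderOf r = 3 ∧ r ∈ centralizer (S' : Set G) ∧
    r ∈ normalizer (V : Set G) ∧ S' ≤ centralizer ({t} : Set G) ∧
    V ≤ centralizer ({t} : Set G) ∧ K ≤ centralizer ({t} : Set G) ∧
    centralizer ({t} : Set G) ≤ normalizer (V : Set G) ∧ Cfsg.IsElementaryAbelian 2 V ∧
    Nat.card ↥V = 2 ^ 11 ∧ K ⊓ V = ⊥ ∧ K ⊔ V = centralizer ({t} : Set G) ∧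
    Nonempty (↥K ≃* MulAut ↥Cfsg.Spor.M22) := by
  obtain ⟨t, ht, hnc⟩ := F.exists_t
  obtain ⟨V, K, hVC, hKC, hN, hV, hVc, hKV, hsup, ⟨iso⟩⟩ := F.shape t ht hnc
  obtain ⟨K24, hK24, hK24V, hsup24, ⟨iso24⟩⟩ := F.split V hV hVc
  obtain ⟨hC, hKc⟩ := card_cent hVC hKC hN hVc hKV hsup iso
  haveI : Fact (Nat.Prime 7) := ⟨by norm_num⟩
  obtain ⟨g₀, hg₀⟩ := JFourSevenM22x30.exists_twentyone
  set g := ((iso24.symm g₀ : ↥K24) : G) with hgdef
  have hg21 : orderOf g = 21 := by
    rw [hgdef, Subgroup.orderOf_coe, ← hg₀]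
    exact orderOf_injective iso24.symm.toMonoidHom iso24.symm.injective g₀
  have hgN : g ∈ normalizer (V : Set G) := hK24 (iso24.symm g₀).2
  have hs : orderOf (g ^ 3) = 7 := by rw [orderOf_pow, hg21]; rfl
  have hr : orderOf (g ^ 7) = 3 := by rw [orderOf_pow, hg21]; rfl
  obtain ⟨x, hx⟩ := exists_prime_orderOf_dvd_card' (G := ↥(centralizer ({t} : Set G))) 7
    (by rw [hC]; norm_num)
  have hcardN : ¬ 49 ∣ Nat.card ↥(normalizer (V : Set G)) := by
    have hd : Nat.card ↥(normalizer (V : Set G)) ∣ 2 ^ 11 * 244823040 := by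
      rw [← hVc, ← GolayM24.card_M24, ← Nat.card_congr iso24.toEquiv, ← hsup24,
        ← SetLike.coe_sort_coe, Subgroup.coe_mul_of_left_le_normalizer_right K24 V hK24]
      refine dvd_of_eq ?_
      rw [← Nat.card_prod]
      refine (Nat.card_congr ((Equiv.prodComm _ _).trans (Equiv.ofBijective
        (fun x : ↥K24 × ↥V => (⟨(x.1 : G) * x.2, Set.mul_mem_mul x.1.2 x.2.2⟩ :
          ((K24 : Set G) * (V : Set G) : Set G))) ⟨?_, ?_⟩))).symm
      · intro a b e
        have e' : (a.1 : G) * a.2 = b.1 * b.2 := congrArg Subtype.val e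
        have h : (b.1 : G)⁻¹ * a.1 = b.2 * (a.2 : G)⁻¹ := by
          calc (b.1 : G)⁻¹ * a.1 = (b.1 : G)⁻¹ * ((a.1 : G) * a.2) * (a.2 : G)⁻¹ := by group
            _ = _ := by rw [e']; group
        have h1 : (b.1 : G)⁻¹ * a.1 = 1 := by
          rw [← Subgroup.mem_bot, ← hK24V]
          exact Subgroup.mem_inf.2 ⟨mul_mem (inv_mem b.1.2) a.1.2, h ▸ mul_mem b.2.2 (inv_mem a.2.2)⟩
        refine Prod.ext (Subtype.ext (inv_mul_eq_one.1 h1).symm) (Subtype.ext ?_)
        rw [h1] at h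
        exact (mul_inv_eq_one.1 h.symm).symm
      · rintro ⟨_, k, hk, v, hv, rfl⟩; exact ⟨(⟨k, hk⟩, ⟨v, hv⟩), rfl⟩
    exact fun h => absurd (h.trans hd) (by norm_num)
  obtain ⟨n, hn, e⟩ := conj_seven hcardN (S := zpowers (g ^ 3)) (S' := zpowers (x : G))
    (by rw [Nat.card_zpowers, hs]) (by rw [Nat.card_zpowers, Subgroup.orderOf_coe, hx])
    (zpowers_le.2 (pow_mem hgN 3)) (zpowers_le.2 (hN x.2))
  refine ⟨cj n (zpowers (g ^ 3)), V, K, t, n * g ^ 7 * n⁻¹, by rw [card_cj, Nat.card_zpowers, hs],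
    ht, hnc, ?_, ?_, mul_mem (mul_mem hn (pow_mem hgN 7)) (inv_mem hn), ?_, hVC, hKC, hN, hV, hVc,
    hKV, hsup, ⟨iso⟩⟩
  · rw [← hr]
    exact orderOf_injective (MulAut.conj n).toMonoidHom (MulAut.conj n).injective _
  · rintro _ ⟨y, hy, rfl⟩
    obtain ⟨i, rfl⟩ := mem_zpowers_iff.1 hy
    show n * (g ^ 3) ^ i * n⁻¹ * (n * g ^ 7 * n⁻¹) = n * g ^ 7 * n⁻¹ * (n * (g ^ 3) ^ i * n⁻¹)
    calc n * (g ^ 3) ^ i * n⁻¹ * (n * g ^ 7 * n⁻¹) = n * ((g ^ 3) ^ i * g ^ 7) * n⁻¹ := by group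
      _ = n * (g ^ 7 * (g ^ 3) ^ i) * n⁻¹ := by
        rw [(((Commute.refl g).pow_pow 3 7).zpow_left i).eq]
      _ = _ := by group
  · rw [e]; exact zpowers_le.2 x.2

theorem cc_z {S : Subgroup G} (hS : Nat.card ↥S = 7) {u : ↥(centralizer (S : Set G))}
    (hu : orderOf u = 2) (hc : IsConj z (u : G)) :
    JFourSevenGroup30.cc (QuotientGroup.mk' (Sc S) u) = 12 := by
  obtain ⟨g, hg⟩ := isConj_iff.1 hc.symm
  have hle : cj g S ≤ HH z := by
    rintro _ ⟨x, hx, rfl⟩
    refine mem_centralizer_singleton_iff.2 ?_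
    rw [← hg]
    show g * x * g⁻¹ * (g * u * g⁻¹) = g * u * g⁻¹ * (g * x * g⁻¹)
    calc g * x * g⁻¹ * (g * u * g⁻¹) = g * (x * u) * g⁻¹ := by group
      _ = g * (u * x) * g⁻¹ := by rw [u.2 x hx]
      _ = _ := by group
  have h := (local_facts hJ (by rw [card_cj, hS]) hle).1
  rw [show HH z = cj g (centralizer ({(u : G)} : Set G)) by rw [cj_centralizer, hg], CI_cj, card_cj,
    ← card_cent_mk hS hu] at h
  omega

/-- The main statement. -/
theorem seven {S : Subgroup G} (hS : Nat.card ↥S = 7) (hSH : S ≤ HH z) :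
    ¬ (49 ∣ Nat.card G) ∧
    (∃ I : Subgroup G, Cfsg.IsInternalDirectProduct S I (centralizer (S : Set G)) ∧
      Nonempty (↥I ≃* Equiv.Perm (Fin 5))) ∧
    Nat.card ↥(normalizer (S : Set G)) = 3 * Nat.card ↥(centralizer (S : Set G)) ∧
    Nat.card ↥(normalizer (S : Set G)) = 2 ^ 3 * 3 ^ 2 * 5 * 7 := by
  classical
  haveI : Fact (Nat.Prime 2) := ⟨Nat.prime_two⟩
  haveI : Fact (Nat.Prime 7) := ⟨by norm_num⟩
  obtain ⟨N, p, D⟩ := exists_pack hJ
  have hzC : z ∈ centralizer (S : Set G) := fun x hx => mem_centralizer_singleton_iff.1 (hSH hx)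
  set zc : ↥(centralizer (S : Set G)) := ⟨z, hzC⟩ with hzc
  have hzo : orderOf zc = 2 := by rw [Subgroup.orderOf_mk, D.hz]
  set zq := QuotientGroup.mk' (Sc S) zc with hzq
  have hzq2 : orderOf zq = 2 := order_mk hS hzo
  have hzq12 : JFourSevenGroup30.cc zq = 12 := cc_z hJ F hS hzo (IsConj.refl z)
  -- two-rank two
  have hrank : ∀ B : Subgroup G, B ≤ centralizer (S : Set G) → (∀ b ∈ B, b ^ 2 = 1) →
      ¬ 8 ∣ Nat.card B := by
    intro B hB hB2 h8
    let f : B →* XX S := (QuotientGroup.mk' (Sc S)).comp (Subgroup.inclusion hB)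
    have hf : Function.Injective f := by
      rw [← MonoidHom.ker_eq_bot_iff, eq_bot_iff]
      intro b hb
      rw [MonoidHom.mem_ker, MonoidHom.comp_apply, QuotientGroup.mk'_apply, QuotientGroup.eq_one_iff] at hb
      rw [mem_bot]
      exact Subgroup.inclusion_injective hB
        ((sc_eq_one hS hb (Subtype.ext (hB2 _ b.2))).trans (map_one _).symm)
    refine image_bound hzq2 hzq12 f.range ?_ ?_
    · rintro _ ⟨b, rfl⟩
      rw [← map_pow, show b ^ 2 = 1 from Subtype.ext (hB2 _ b.2), map_one]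
    · rw [← Nat.card_congr (MonoidHom.ofInjective hf).toEquiv]; exact h8
  -- the fixed space of a subgroup of order seven has order four
  have hfour : ∀ (t : G) (V K : Subgroup G) (S' : Subgroup G), Cfsg.IsElementaryAbelian 2 V →
      Nat.card ↥V = 2 ^ 11 → Nat.card ↥S' = 7 → S' ≤ normalizer (V : Set G) →
      (∃ g, cj g S' = S) → Nat.card ↥(CI V S') = 4 := by
    intro t V K S' hV hVc hS' hn ⟨g, hg⟩
    have hd : Nat.card ↥(CI V S') ∣ 2 ^ 11 := hVc ▸ card_dvd_of_le inf_le_left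
    obtain ⟨k, hk, hke⟩ := (Nat.dvd_prime_pow Nat.prime_two).1 hd
    have hk3 : k < 3 := by
      by_contra h
      push Not at h
      refine hrank (cj g (CI V S')) ?_ ?_ ?_
      · rw [← hg, ← CI_cj]; exact inf_le_right
      · rintro _ ⟨b, hb, rfl⟩
        rw [← map_pow, show b ^ 2 = 1 from hV.2 b hb.1, map_one]
      · rw [card_cj, hke, show (8 : ℕ) = 2 ^ 3 by norm_num]
        exact pow_dvd_pow 2 h
    have hm := fixed_mod hVc hS' hn
    rw [hke] at hm ⊢
    unfold Nat.ModEq at hm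
    interval_cases k <;> omega
  obtain ⟨S', V, K, t, r, hS', ht, hnc, hr, hrS, hrN, hSt, hVC, hKC, hN, hV, hVc, hKV, hsup, ⟨iso⟩⟩ :=
    exists_config hJ F
  obtain ⟨g, hg⟩ := conj_to hJ F hS hSH hS' hr hrS
  have ht4 : Nat.card ↥(CI V S') = 4 := hfour t V K S' hV hVc hS' (hSt.trans hN) ⟨g, hg⟩
  have htV : t ∈ V := t_mem hVC hKC hN hVc hKV hsup iso ht
  have htS' : t ∈ centralizer (S' : Set G) := fun x hx => mem_centralizer_singleton_iff.1 (hSt hx)
  -- every other involution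
  have hother : ∀ u : ↥(centralizer (S : Set G)), orderOf u = 2 → ¬ IsConj z (u : G) →
      JFourSevenGroup30.cc (QuotientGroup.mk' (Sc S) u) = 8 := by
    intro u hu hncu
    obtain ⟨V₁, K₁, hVC₁, hKC₁, hN₁, hV₁, hVc₁, hKV₁, hsup₁, ⟨iso₁⟩⟩ :=
      F.shape u (by rw [Subgroup.orderOf_coe, hu]) hncu
    have hSu : S ≤ centralizer ({(u : G)} : Set G) := fun x hx =>
      mem_centralizer_singleton_iff.2 (u.2 x hx)
    have h4 := hfour u V₁ K₁ S hV₁ hVc₁ hS (hSu.trans hN₁) ⟨1, cj_one S⟩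
    have h := card_cent_mk hS hu
    rw [cent_seven_card hVC₁ hKC₁ hN₁ hVc₁ hKV₁ hsup₁ iso₁ hS hSu, h4] at h
    omega
  -- the four group
  have hrV : ∀ v ∈ CI V S', r * v * r⁻¹ ∈ CI V S' := by
    rintro v ⟨hv, hvS⟩
    exact Subgroup.mem_inf.2 ⟨(mem_normalizer_iff.1 hrN v).1 hv, mul_mem (mul_mem hrS hvS) (inv_mem hrS)⟩
  set v := r * t * r⁻¹ with hv
  have hvA : v ∈ CI V S' := hrV t ⟨htV, htS'⟩
  have hvo : orderOf v = 2 := by
    rw [hv, ← MulAut.conj_apply]
    exact (orderOf_injective (MulAut.conj r).toMonoidHom (MulAut.conj r).injective t).trans ht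
  have hvt : t ≠ v := by
    intro e
    have hrt : r ∈ CI (centralizer ({t} : Set G)) S' :=
      ⟨mem_centralizer_singleton_iff.2 (mul_inv_eq_iff_eq_mul.1 (hv ▸ e.symm)), hrS⟩
    have := orderOf_dvd_natCard (⟨r, hrt⟩ : ↥(CI (centralizer ({t} : Set G)) S'))
    rw [Subgroup.orderOf_mk, hr, cent_seven_card hVC hKC hN hVc hKV hsup iso hS' hSt, ht4] at this
    norm_num at this
  have hvnc : ¬ IsConj z v := fun h => hnc (h.trans (isConj_iff.2 ⟨r⁻¹, by rw [hv]; group⟩))
  have htv : Commute t v := by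
    have := congrArg Subtype.val (hV.1.is_comm.comm ⟨t, htV⟩ ⟨v, hvA.1⟩)
    exact this
  have hwnc : ¬ IsConj z (t * v) := by
    -- the third involution is the next conjugate
    set w := r * v * r⁻¹ with hw
    have hwA : w ∈ CI V S' := hrV v hvA
    have hwo : orderOf w = 2 := by
      rw [hw, ← MulAut.conj_apply]
      exact (orderOf_injective (MulAut.conj r).toMonoidHom (MulAut.conj r).injective v).trans hvo
    have hwv : w ≠ v := fun e => hvt (by
      have : r * v * r⁻¹ = r * t * r⁻¹ := hw ▸ hv ▸ e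
      exact (mul_left_cancel (mul_right_cancel this)).symm)
    have hwt : w ≠ t := fun e => hvt (by
      have h1 : r ^ 3 * t * (r ^ 3)⁻¹ = t := by rw [← hr, pow_orderOf_eq_one]; simp
      have h2 : r ^ 3 * t * (r ^ 3)⁻¹ = r * w * r⁻¹ := by
        rw [hw, hv, pow_succ, pow_two]
        simp only [mul_assoc, mul_inv_rev]
      rw [h2, e, ← hv] at h1
      exact h1.symm)
    have hsq : ∀ x : G, orderOf x = 2 → x * x = 1 := fun x h => JFourSevenGroup30.sq_one h
    have hle : JFourSevenGroup30.four (hsq t ht) (hsq v hvo) htv ≤ CI V S' := by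
      intro x hx
      rcases JFourSevenGroup30.mem_four.1 hx with rfl | rfl | rfl | rfl
      exacts [one_mem _, ⟨htV, htS'⟩, hvA, mul_mem ⟨htV, htS'⟩ hvA]
    have he := eq_of_le_of_card_ge hle (by
      rw [ht4, JFourSevenGroup30.card_four _ _ _ (JFourSevenGroup30.ne_one ht)
        (JFourSevenGroup30.ne_one hvo) hvt])
    rcases JFourSevenGroup30.mem_four.1 (he.symm ▸ hwA) with h | h | h | h
    · exact absurd h (JFourSevenGroup30.ne_one hwo)
    · exact absurd h hwt
    · exact absurd h hwv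
    · rw [← h]
      exact fun h' => hvnc (h'.trans (isConj_iff.2 ⟨r⁻¹, by rw [hw]; group⟩))
  -- move everything to the given subgroup
  have hmove : ∀ x ∈ centralizer (S' : Set G), g * x * g⁻¹ ∈ centralizer (S : Set G) := by
    intro x hx
    rw [← hg]
    rintro _ ⟨y, hy, rfl⟩
    show g * y * g⁻¹ * (g * x * g⁻¹) = g * x * g⁻¹ * (g * y * g⁻¹)
    calc g * y * g⁻¹ * (g * x * g⁻¹) = g * (y * x) * g⁻¹ := by group
      _ = g * (x * y) * g⁻¹ := by rw [hx y hy]
      _ = _ := by group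
  set a : ↥(centralizer (S : Set G)) := ⟨g * t * g⁻¹, hmove t htS'⟩ with ha
  set b : ↥(centralizer (S : Set G)) := ⟨g * v * g⁻¹, hmove v hvA.2⟩ with hb
  have hao : orderOf a = 2 := by
    rw [Subgroup.orderOf_mk, ← MulAut.conj_apply]
    exact (orderOf_injective (MulAut.conj g).toMonoidHom (MulAut.conj g).injective t).trans ht
  have hbo : orderOf b = 2 := by
    rw [Subgroup.orderOf_mk, ← MulAut.conj_apply]
    exact (orderOf_injective (MulAut.conj g).toMonoidHom (MulAut.conj g).injective v).trans hvo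
  have habo : orderOf (a * b) = 2 := by
    rw [← Subgroup.orderOf_coe, Subgroup.coe_mul, show g * t * g⁻¹ * (g * v * g⁻¹) = g * (t * v) * g⁻¹ by group,
      ← MulAut.conj_apply]
    refine (orderOf_injective (MulAut.conj g).toMonoidHom (MulAut.conj g).injective (t * v)).trans ?_
    refine orderOf_eq_prime ?_ ?_
    · rw [htv.mul_pow, ← ht, pow_orderOf_eq_one, ht, ← hvo, pow_orderOf_eq_one, one_mul]
    · intro e
      apply hvt
      rw [← JFourSevenGroup30.inv_self (JFourSevenGroup30.sq_one hvo)]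
      exact mul_eq_one_iff_eq_inv.1 e
  have hnconj : ∀ x : G, ¬ IsConj z x → ¬ IsConj z (g * x * g⁻¹) :=
    fun x hx h => hx (h.trans (isConj_iff.2 ⟨g⁻¹, by group⟩))
  have hne : QuotientGroup.mk' (Sc S) a ≠ QuotientGroup.mk' (Sc S) b := by
    intro e
    have h1 : a⁻¹ * b ∈ Sc S := QuotientGroup.eq.1 e
    have ha1 : a⁻¹ = a := JFourSevenGroup30.inv_self (JFourSevenGroup30.sq_one hao)
    rw [ha1] at h1
    have := sc_eq_one hS h1 (habo ▸ pow_orderOf_eq_one (a * b))
    rw [this, orderOf_one] at habo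
    omega
  have hab : Commute a b := Subtype.ext (by
    show g * t * g⁻¹ * (g * v * g⁻¹) = g * v * g⁻¹ * (g * t * g⁻¹)
    calc g * t * g⁻¹ * (g * v * g⁻¹) = g * (t * v) * g⁻¹ := by group
      _ = g * (v * t) * g⁻¹ := by rw [htv.eq]
      _ = _ := by group)
  have hHyp : JFourSevenGroup30.Hyp zq (QuotientGroup.mk' (Sc S) a) (QuotientGroup.mk' (Sc S) b) :=
    { hz := hzq2
      hzc := hzq12
      ha := order_mk hS hao
      hb := order_mk hS hbo
      hab := hab.map _
      hne := hne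
      hac := hother a hao (hnconj t hnc)
      hbc := hother b hbo (hnconj v hvnc)
      habc := by
        rw [← map_mul]
        refine hother _ habo ?_
        rw [Subgroup.coe_mul, show g * t * g⁻¹ * (g * v * g⁻¹) = g * (t * v) * g⁻¹ by group]
        exact hnconj _ hwnc
      hall := fun x hx => by
        obtain ⟨u, hu, rfl⟩ := exists_lift hS x hx
        by_cases hc : IsConj z (u : G)
        · exact Or.inl (cc_z hJ F hS hu hc)
        · exact Or.inr (hother u hu hc) }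
  obtain ⟨⟨e5⟩, hclass⟩ := JFourSevenGroup30.recognition hHyp
  have hX : Nat.card (XX S) = 120 := by
    rw [Nat.card_congr e5.toEquiv, Nat.card_perm, Nat.card_fin]; rfl
  have hCc : Nat.card ↥(centralizer (S : Set G)) = 840 := by
    rw [card_eq_card_quotient_mul_card_subgroup (Sc S), hX, card_Sc hS]
  -- the normaliser
  set Ns := normalizer (S : Set G) with hNs
  have hCN : centralizer (S : Set G) ≤ Ns := centralizer_le_normalizer _
  have hfac : ∀ n ∈ Ns, ∃ c ∈ centralizer (S : Set G), c⁻¹ * n ∈ NI (HH z) S := by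
    intro n hn
    have hz' : n * z * n⁻¹ ∈ centralizer (S : Set G) := by
      intro x hx
      have hx' : n⁻¹ * x * n ∈ S := by
        have := (mem_normalizer_iff.1 (inv_mem hn) x).1 hx
        simpa using this
      calc x * (n * z * n⁻¹) = n * (n⁻¹ * x * n * z) * n⁻¹ := by group
        _ = n * (z * (n⁻¹ * x * n)) * n⁻¹ := by rw [hzC _ hx']
        _ = n * z * n⁻¹ * x := by group
    set u : ↥(centralizer (S : Set G)) := ⟨n * z * n⁻¹, hz'⟩ with hu
    have huo : orderOf u = 2 := by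
      rw [Subgroup.orderOf_mk, ← MulAut.conj_apply]
      exact (orderOf_injective (MulAut.conj n).toMonoidHom (MulAut.conj n).injective z).trans D.hz
    obtain ⟨c', hc'⟩ := isConj_iff.1 (hclass _ (order_mk hS huo)
      (cc_z hJ F hS huo (isConj_iff.2 ⟨n, rfl⟩)))
    obtain ⟨c, rfl⟩ := QuotientGroup.mk'_surjective _ c'
    rw [hzq, ← map_inv, ← map_mul, ← map_mul, QuotientGroup.mk'_apply, QuotientGroup.mk'_apply,
      QuotientGroup.eq] at hc'
    set w := (c * zc * c⁻¹)⁻¹ * u with hw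
    have hcw : Commute (c * zc * c⁻¹) w := Subtype.ext ((c * zc * c⁻¹).2 w hc').symm
    have hu2 : u ^ 2 = 1 := huo ▸ pow_orderOf_eq_one u
    have h2 : (c * zc * c⁻¹ * w) ^ 2 = 1 := by rw [hw, mul_inv_cancel_left, hu2]
    rw [hcw.mul_pow, conj_pow, show zc ^ 2 = 1 from hzo ▸ pow_orderOf_eq_one zc, mul_one,
      mul_inv_cancel, one_mul] at h2
    have hw1 := sc_eq_one hS hc' h2
    rw [hw, inv_mul_eq_one] at hw1
    have e1 : (c : G) * z * (c : G)⁻¹ = n * z * n⁻¹ := congrArg Subtype.val hw1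
    refine ⟨c, c.2, Subgroup.mem_inf.2 ⟨mem_centralizer_singleton_iff.2 ?_, mul_mem (inv_mem (hCN c.2)) hn⟩⟩
    calc (c : G)⁻¹ * n * z = (c : G)⁻¹ * (n * z * n⁻¹) * n := by group
      _ = z * ((c : G)⁻¹ * n) := by rw [← e1]; group
  obtain ⟨hC84, hN252⟩ := local_facts hJ hS hSH
  have hNcard : Nat.card Ns = 2520 := by
    set C' := (centralizer (S : Set G)).subgroupOf Ns with hC'
    haveI : C'.Normal := by
      rw [hC', hNs, ← normalizerMonoidHom_ker]; infer_instance
    let φ : ↥(NI (HH z) S) →* ↥Ns ⧸ C' :=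
      (QuotientGroup.mk' C').comp (Subgroup.inclusion inf_le_right)
    have hφ : Function.Surjective φ := by
      intro q
      obtain ⟨n, rfl⟩ := QuotientGroup.mk'_surjective _ q
      obtain ⟨c, hc, hcn⟩ := hfac n n.2
      refine ⟨⟨c⁻¹ * n, hcn⟩, ?_⟩
      rw [MonoidHom.comp_apply, QuotientGroup.mk'_apply, QuotientGroup.mk'_apply, QuotientGroup.eq,
        mem_subgroupOf]
      show (c⁻¹ * (n : G))⁻¹ * n ∈ centralizer (S : Set G)
      have hx : (c⁻¹ * (n : G))⁻¹ * n = (n : G)⁻¹ * c * n := by group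
      rw [hx]
      intro y hy
      have hy' : (n : G) * y * (n : G)⁻¹ ∈ S := (mem_normalizer_iff.1 n.2 y).1 hy
      calc y * ((n : G)⁻¹ * c * n) = (n : G)⁻¹ * ((n : G) * y * (n : G)⁻¹ * c) * n := by group
        _ = (n : G)⁻¹ * (c * ((n : G) * y * (n : G)⁻¹)) * n := by rw [hc _ hy']
        _ = (n : G)⁻¹ * c * n * y := by group
    have hker : φ.ker = (CI (HH z) S).subgroupOf (NI (HH z) S) := by
      ext x
      rw [MonoidHom.mem_ker, MonoidHom.comp_apply, QuotientGroup.mk'_apply, QuotientGroup.eq_one_iff,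
        mem_subgroupOf, mem_subgroupOf]
      exact ⟨fun h => ⟨x.2.1, h⟩, fun h => h.2⟩
    have h1 := card_mul_index φ.ker
    rw [index_ker, MonoidHom.range_eq_top.2 hφ, card_top, hN252, hker,
      Nat.card_congr (subgroupOfEquivOfLe (inf_le_inf_left _ (centralizer_le_normalizer _))).toEquiv,
      hC84] at h1
    have h2 := card_eq_card_quotient_mul_card_subgroup C'
    rw [Nat.card_congr (subgroupOfEquivOfLe hCN).toEquiv, hCc] at h2
    omega
  have h49 : ¬ 49 ∣ Nat.card G := by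
    intro h
    obtain ⟨R, hR⟩ := Sylow.exists_subgroup_card_pow_succ (p := 7) (n := 1) (H := S)
      (by norm_num; exact h) (by rw [hS, pow_one])
    obtain ⟨hR1, hR2⟩ := hR
    have hRN : R ≤ Ns := by
      have hidx : (S.subgroupOf R).index = 7 := by
        have := card_mul_index (S.subgroupOf R)
        rw [Nat.card_congr (subgroupOfEquivOfLe hR2).toEquiv, hS, hR1] at this
        norm_num at this
        omega
      haveI : (S.subgroupOf R).Normal := by
        refine Subgroup.normal_of_index_eq_minFac_card ?_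
        rw [hidx, hR1]
        norm_num
      exact (normal_subgroupOf_iff_le_normalizer hR2).1 inferInstance
    have := card_dvd_of_le hRN
    rw [hR1, hNcard] at this
    norm_num at this
  refine ⟨h49, ?_, by rw [hNcard, hCc], by rw [hNcard]; norm_num⟩
  obtain ⟨I', hI'⟩ := exists_right_complement'_of_coprime (N := Sc S) (by
    rw [card_Sc hS, index_eq_card, hX]; norm_num)
  refine ⟨I'.map (centralizer (S : Set G)).subtype, ⟨S_le hS, map_subtype_le _, ?_, ?_, ?_⟩, ?_⟩
  · intro x hx y hy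
    obtain ⟨y, -, rfl⟩ := hy
    exact y.2 x hx
  · rw [eq_bot_iff]
    rintro x ⟨hx, y, hy, rfl⟩
    have : y ∈ Sc S ⊓ I' := ⟨hx, hy⟩
    rw [hI'.disjoint.eq_bot, mem_bot] at this
    rw [this]; exact one_mem _
  · refine le_antisymm (sup_le (S_le hS) (map_subtype_le _)) fun x hx => ?_
    obtain ⟨⟨a', b'⟩, hab'⟩ := hI'.2 ⟨x, hx⟩
    have e : ((a' : ↥(centralizer (S : Set G))) : G) * (b' : ↥(centralizer (S : Set G))) = x :=
      congrArg Subtype.val hab'
    rw [← e]
    exact mul_mem (mem_sup_left a'.2) (mem_sup_right ⟨b', b'.2, rfl⟩)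
  · refine ⟨((I'.equivMapOfInjective _ (subtype_injective _)).symm.trans
      (MulEquiv.ofBijective ((QuotientGroup.mk' (Sc S)).comp I'.subtype) ⟨?_, ?_⟩)).trans e5⟩
    · rw [← MonoidHom.ker_eq_bot_iff, eq_bot_iff]
      intro y hy
      rw [MonoidHom.mem_ker, MonoidHom.comp_apply, QuotientGroup.mk'_apply, QuotientGroup.eq_one_iff] at hy
      have : (y : ↥(centralizer (S : Set G))) ∈ Sc S ⊓ I' := ⟨hy, y.2⟩
      rw [hI'.disjoint.eq_bot, mem_bot] at this
      rw [mem_bot]; exact Subtype.ext this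
    · intro q
      obtain ⟨x, rfl⟩ := QuotientGroup.mk'_surjective _ q
      obtain ⟨⟨a', b'⟩, hab'⟩ := hI'.2 x
      refine ⟨b', ?_⟩
      simp only at hab'
      rw [← hab', MonoidHom.comp_apply, map_mul]
      show _ = QuotientGroup.mk' (Sc S) (a' : ↥(centralizer (S : Set G))) * _
      rw [show QuotientGroup.mk' (Sc S) (a' : ↥(centralizer (S : Set G))) = 1 from
        (QuotientGroup.eq_one_iff _).2 a'.2, one_mul]
      rfl

end Global

end Cfsg.Agent.JFourSevenMain30
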