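import Cfsg.Agent.Lib.JFiveFix4
import Cfsg.Agent.Lib.JFiveM22x4
import Cfsg.Agent.Lib.JFourSevenMain30

/-!
The centraliser of a subgroup of order five inside the centraliser of the central involution in a group of
Janko-four type.
-/

set_option autoImplicit false
set_option linter.unusedSectionVars false
set_option linter.style.haveILetI false

namespace Cfsg.Agent.JFiveLocal4

open Subgroup Cfsg.Agent.JFourSetting97 Cfsg.Agent.JFourM22Facts97
open Cfsg.Agent.JFourSevenMain30 (CI NI cj card_cj mem_cj CI_cj cj_self cj_centralizer mem_cent_gen decompose)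

universe u

variable {G : Type u} [Group G] [Finite G]

local notation "EE" => Cfsg.twoCoreOfCentralizer

/-- The facts about the centraliser of a subgroup of order five. -/
structure Loc (z : G) (S : Subgroup G) (s p0 w0 : G) : Prop where
  gen : zpowers s = S
  ord : orderOf s = 5
  p_mem : p0 ∈ CI (HH z) S
  p_ord : orderOf p0 = 3
  w_mem : w0 ∈ CI (HH z) S
  inv : w0 * p0 * w0⁻¹ * p0 = 1
  card : Nat.card ↥(CI (HH z) S) = 960
  cardR : Nat.card ↥(CI (EE z) S) = 32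
  sq : ∀ e ∈ CI (EE z) S, e * e = 1 ∨ e * e = z
  cen : ∀ e ∈ CI (EE z) S, (∀ e' ∈ CI (EE z) S, e * e' = e' * e) → e = 1 ∨ e = z
  fix : ∀ e ∈ CI (EE z) S, p0 * e = e * p0 → e = 1 ∨ e = z
  frob : ∃ w ∈ HH z, w * s * w⁻¹ = s ^ 2

theorem card_sup_mul_inf (B C : Subgroup G) (h : B ≤ normalizer (C : Set G)) :
    Nat.card ↥(B ⊔ C) * Nat.card ↥(B ⊓ C) = Nat.card B * Nat.card C := by
  have := Subgroup.normal_subgroupOf_of_le_normalizer h
  have := Subgroup.normal_subgroupOf_sup_of_le_normalizer h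
  have e := QuotientGroup.quotientInfEquivProdNormalizerQuotient B C h
  have h1 : C.relIndex B = C.relIndex (B ⊔ C) := Nat.card_congr e.toEquiv
  have h2 : Nat.card C * C.relIndex (B ⊔ C) = Nat.card ↥(B ⊔ C) := by
    have := Subgroup.card_mul_index (C.subgroupOf (B ⊔ C))
    rwa [Nat.card_congr (Subgroup.subgroupOfEquivOfLe (le_sup_right : C ≤ B ⊔ C)).toEquiv] at this
  have h3 : Nat.card ↥(B ⊓ C) * C.relIndex B = Nat.card B := by
    have := Subgroup.card_mul_index (C.subgroupOf B)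
    rwa [show C.subgroupOf B = (B ⊓ C).subgroupOf B from (Subgroup.inf_subgroupOf_left C B).symm,
      Nat.card_congr (Subgroup.subgroupOfEquivOfLe (inf_le_left : B ⊓ C ≤ B)).toEquiv,
      show ((B ⊓ C).subgroupOf B) = C.subgroupOf B from Subgroup.inf_subgroupOf_left C B] at this
  rw [← h2, ← h3, h1]
  ring

/-- Two subgroups of order five of a subgroup whose order is not divisible by 25 are conjugate in it. -/
theorem conj_five {X : Type*} [Group X] [Finite X] {T : Subgroup X} {a b : X} (hT : ¬ 25 ∣ Nat.card ↥T)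
    (ha : orderOf a = 5) (hb : orderOf b = 5) (h : a ∈ T) (h' : b ∈ T) :
    ∃ g ∈ T, ∃ i : ℕ, g * a * g⁻¹ = b ^ i := by
  have hd : 5 ∣ Nat.card ↥T := by
    have := orderOf_dvd_natCard (⟨a, h⟩ : T)
    rwa [Subgroup.orderOf_mk, ha] at this
  obtain ⟨m, hm⟩ := hd
  have hm5 : ¬ 5 ∣ m := fun hd => hT (by rw [hm]; exact Nat.mul_dvd_mul_left 5 hd)
  obtain ⟨c, hc⟩ := GolayBlockTools.exists_conj_zpowers (G := ↥T) (p := 5) (k := 1) (m := m)
    (by norm_num) (by rw [hm, pow_one]) hm5 (P := zpowers (⟨b, h'⟩ : T))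
    (by rw [Nat.card_zpowers, Subgroup.orderOf_mk, hb, pow_one]) (Q := zpowers (⟨a, h⟩ : T))
    (IsPGroup.of_card (n := 1) (by rw [Nat.card_zpowers, Subgroup.orderOf_mk, ha, pow_one]))
  obtain ⟨i, hi⟩ := mem_powers_iff_mem_zpowers.2 (hc _ (mem_zpowers _))
  exact ⟨c, c.2, i, (congrArg Subtype.val hi).symm⟩

variable {z : G} {P : Subgroup G}

theorem card_HH_not (hJ : Cfsg.IsOfJankoFourTypeWith z P) : ¬ 25 ∣ Nat.card ↥(HH z) := by
  obtain ⟨N, p, D⟩ := exists_pack hJ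
  rw [card_HH D]; norm_num

/-- The conditions transported by an element of the centraliser. -/
theorem with_conj (hJ : Cfsg.IsOfJankoFourTypeWith z P) {g : G} (hg : g ∈ HH z) :
    Cfsg.IsOfJankoFourTypeWith z (cj g P) := by
  obtain ⟨N, p, D⟩ := exists_pack hJ
  obtain ⟨h1, h2, h3, h4, ⟨N, hEN, hNH, hnorm, hN, hq, hPN⟩, h6, h7, h8, h9⟩ := hJ
  have hgE : cj g (EE z) = EE z := by
    refine eq_of_le_of_card_ge ?_ (by rw [card_cj])
    rintro _ ⟨x, hx, rfl⟩
    exact E_normal D hg hx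
  have hgH : cj g (HH z) = HH z := cj_self hg
  have hzg : g * z * g⁻¹ = z := by
    rw [mem_centralizer_singleton_iff.1 hg, mul_inv_cancel_right]
  refine ⟨h1, h2, h3, h4, ⟨N, hEN, hNH, hnorm, hN, hq, ?_⟩, by rw [card_cj, h6], ?_, ?_, ?_⟩
  · rintro _ ⟨x, hx, rfl⟩
    exact (mem_normalizer_iff.1 (hnorm hg) x).1 (hPN hx)
  · show CI (EE z) (cj g P) = _
    conv_lhs => rw [← hgE]
    rw [CI_cj, show CI (EE z) P = zpowers z from h7, cj, MonoidHom.map_zpowers]
    exact congrArg zpowers hzg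
  · show NI (HH z) (cj g P) ≠ CI (HH z) (cj g P)
    rw [← hgH, JFourSevenMain30.NI_cj, CI_cj]
    exact fun h => h8 (map_injective (f := (MulAut.conj g).toMonoidHom) (MulAut.conj g).injective h)
  · show cj g P ≤ ⁅CI (HH z) (cj g P), CI (HH z) (cj g P)⁆
    rw [← hgH, CI_cj, cj, cj, ← map_commutator]
    exact map_mono h9

/-- The facts for an element centralising the subgroup of order three. -/
theorem loc_base (hJ : Cfsg.IsOfJankoFourTypeWith z P) {s : G} (hs : s ∈ KK z P) (h5 : orderOf s = 5) :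
    ∃ p0 w0, Loc z (zpowers s) s p0 w0 := by
  obtain ⟨hR32, hRsq, hRcen⟩ := JFiveFix4.cent_core hJ hs h5
  obtain ⟨N, p, D⟩ := exists_pack hJ
  obtain ⟨f, hf, -, ψ, hψ, hker, hcon⟩ := exists_hom D
  have hsN : s ∈ NP z P := KK_le_NP D hs
  have hs1 : s ≠ 1 := fun e => by rw [e, orderOf_one] at h5; omega
  have hkey : ∀ c ∈ zpowers (z * p), c ^ 5 = 1 → c = 1 := by
    intro c hc h
    obtain ⟨i, rfl⟩ := mem_zpowers_iff.1 hc
    have h6 : ((z * p) ^ i) ^ 6 = 1 := by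
      rw [← zpow_natCast, ← zpow_mul, mul_comm, zpow_mul, zpow_natCast, ← order_zp D,
        pow_orderOf_eq_one, one_zpow]
    calc (z * p) ^ i = ((z * p) ^ i) ^ 6 * (((z * p) ^ i) ^ 5)⁻¹ := by
          rw [pow_succ' _ 5, mul_inv_cancel_right]
      _ = 1 := by rw [h6, h, inv_one, mul_one]
  have hlift : ∀ (x : ↥(NP z P)) (s' : G) (hs' : s' ∈ KK z P), s' ^ 5 = 1 →
      ψ (x * ⟨s, hsN⟩ * x⁻¹) = ψ ⟨s', KK_le_NP D hs'⟩ → (x : G) * s * (x : G)⁻¹ = s' := by
    intro x s' hs' h5' e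
    set k := x * ⟨s, hsN⟩ * x⁻¹ * (⟨s', KK_le_NP D hs'⟩ : ↥(NP z P))⁻¹ with hk
    have hk1 : ψ k = 1 := by rw [hk, map_mul, map_inv, e, mul_inv_cancel]
    have hkk : (k : G) ∈ zpowers (z * p) := by
      rw [← MonoidHom.mem_ker, hker, mem_subgroupOf] at hk1
      exact hk1
    have hcomm : Commute (k : G) s' := (center_elems D hkk s' hs').symm
    have hmul : (k : G) * s' = (x : G) * s * (x : G)⁻¹ := by rw [hk]; simp
    have h : ((k : G) * s') ^ 5 = 1 := by
      rw [hmul, conj_pow, ← h5, pow_orderOf_eq_one, mul_one, mul_inv_cancel]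
    rw [hcomm.mul_pow, h5', mul_one] at h
    rw [← hmul, hkey _ hkk h, one_mul]
  set q := ψ ⟨s, hsN⟩ with hq
  haveI : Fact (Nat.Prime 5) := ⟨by norm_num⟩
  have hq5 : orderOf q = 5 := by
    refine orderOf_eq_prime ?_ ?_
    · rw [hq, ← map_pow, show (⟨s, hsN⟩ : ↥(NP z P)) ^ 5 = 1 from
        Subtype.ext (show s ^ 5 = 1 from h5 ▸ pow_orderOf_eq_one s), map_one]
    · intro h
      rw [hq, ← MonoidHom.mem_ker, hker, mem_subgroupOf] at h
      exact hs1 (hkey s h (h5 ▸ pow_orderOf_eq_one s))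
  obtain ⟨hC10, hCout⟩ := JFiveM22x4.card_cent hq5
  have eC : (CI (NP z P) (zpowers s)).subgroupOf (NP z P) =
      (centralizer ({q} : Set (MulAut ↥Cfsg.Spor.M22))).comap ψ := by
    ext x
    rw [mem_subgroupOf, mem_comap, mem_centralizer_singleton_iff]
    constructor
    · rintro ⟨-, hx⟩
      rw [hq, ← map_mul, ← map_mul]
      exact congrArg ψ (Subtype.ext ((mem_cent_gen rfl).1 hx))
    · intro hx
      refine ⟨x.2, (mem_cent_gen rfl).2 (mul_inv_eq_iff_eq_mul.1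
        (hlift x s hs (h5 ▸ pow_orderOf_eq_one s) ?_))⟩
      rw [map_mul, map_mul, map_inv, ← hq, hx, mul_inv_cancel_right]
  have h60 : Nat.card ↥(CI (NP z P) (zpowers s)) = 60 := by
    rw [← Nat.card_congr (subgroupOfEquivOfLe (inf_le_left : CI (NP z P) (zpowers s) ≤ NP z P)).toEquiv,
      eC]
    have h1 := card_mul_index ((centralizer ({q} : Set (MulAut ↥Cfsg.Spor.M22))).comap ψ)
    rw [index_comap_of_surjective _ hψ, card_NP D] at h1
    have h2 := card_mul_index (centralizer ({q} : Set (MulAut ↥Cfsg.Spor.M22)))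
    rw [card_mulAut, hC10] at h2
    have hi : 0 < (centralizer ({q} : Set (MulAut ↥Cfsg.Spor.M22))).index :=
      Nat.pos_of_ne_zero index_ne_zero_of_finite
    nlinarith
  obtain ⟨w0, hw0, hw0K⟩ : ∃ w ∈ CI (NP z P) (zpowers s), w ∉ KK z P := by
    by_contra h
    push Not at h
    refine hCout fun φ hφ => ?_
    obtain ⟨x, rfl⟩ := hψ φ
    have hx : x ∈ (CI (NP z P) (zpowers s)).subgroupOf (NP z P) := eC ▸ hφ
    exact ⟨f ⟨x, h _ hx⟩, (hcon ⟨x, h _ hx⟩).symm⟩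
  have pmem : p ∈ P := p_mem D
  have hpH : p ∈ CI (HH z) (zpowers s) :=
    ⟨PH D pmem, (mem_cent_gen rfl).2 (hs.2 p pmem)⟩
  have hinv : w0 * p * w0⁻¹ * p = 1 := by
    have hm : w0 * p * w0⁻¹ ∈ zpowers p := by
      rw [D.gen]; exact (mem_normalizer_iff.1 hw0.1.2 p).1 pmem
    obtain ⟨i, hi⟩ := mem_powers_iff_mem_zpowers.2 hm
    simp only at hi
    have hp3 : p ^ 3 = 1 := D.ord ▸ pow_orderOf_eq_one p
    rw [← pow_mod_orderOf, D.ord] at hi
    have hi3 : i % 3 < 3 := Nat.mod_lt _ (by norm_num)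
    interval_cases hm3 : i % 3
    · exfalso
      rw [pow_zero] at hi
      have : p = 1 := conj_eq_one_iff.1 hi.symm
      have h := D.ord
      rw [this, orderOf_one] at h
      omega
    · exfalso
      rw [pow_one] at hi
      refine hw0K ⟨hw0.1.1, fun y hy => ?_⟩
      rw [SetLike.mem_coe, ← D.gen] at hy
      obtain ⟨j, rfl⟩ := mem_zpowers_iff.1 hy
      exact ((Commute.zpow_right (show Commute w0 p from mul_inv_eq_iff_eq_mul.1 hi.symm) j).eq).symm
    · rw [← hi, ← pow_succ, hp3]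
  have hfix : ∀ e ∈ CI (EE z) (zpowers s), p * e = e * p → e = 1 ∨ e = z := by
    rintro e ⟨he, -⟩ hpe
    have hm : e ∈ zpowers z := D.fixE ▸ (⟨he, (mem_cent_gen D.gen).2 hpe.symm⟩ : e ∈ EE z ⊓ centralizer (P : Set G))
    obtain ⟨i, hi⟩ := mem_powers_iff_mem_zpowers.2 hm
    simp only at hi
    rw [← pow_mod_orderOf, D.hz] at hi
    rcases Nat.mod_two_eq_zero_or_one i with k | k <;> rw [k] at hi
    · exact Or.inl (by rw [← hi, pow_zero])
    · exact Or.inr (by rw [← hi, pow_one])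
  have eR : CI (EE z) (zpowers s) = EE z ⊓ centralizer ({s} : Set G) := by
    ext y
    simp only [CI, Subgroup.mem_inf, mem_cent_gen (rfl : zpowers s = _), mem_centralizer_singleton_iff]
  rw [← eR] at hR32 hRsq hRcen
  have hEH : EE z ≤ HH z := fun y hy => by obtain ⟨w, -, rfl⟩ := hy; exact w.2
  have hz : z ∈ CI (EE z) (zpowers s) :=
    ⟨z_mem D, (mem_cent_gen rfl).2 (mem_centralizer_singleton_iff.1 hs.1).symm⟩
  have hnorm : CI (NP z P) (zpowers s) ≤ normalizer (CI (EE z) (zpowers s) : Set G) := by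
    refine Subgroup.le_normalizer_iff.2 fun g hg y hy => ?_
    exact Subgroup.mem_inf.2 ⟨E_normal D hg.1.1 hy.1, mul_mem (mul_mem hg.2 hy.2) (inv_mem hg.2)⟩
  have hinf : CI (NP z P) (zpowers s) ⊓ CI (EE z) (zpowers s) = zpowers z := by
    refine le_antisymm (fun y hy => E_inf_NP D hy.2.1 hy.1.1.2) (zpowers_le.2 ⟨⟨?_, hz.2⟩, hz⟩)
    exact KK_le_NP D (zp_KK D (z_zp D))
  have hsup : CI (NP z P) (zpowers s) ⊔ CI (EE z) (zpowers s) = CI (HH z) (zpowers s) := by
    refine le_antisymm (sup_le (inf_le_inf_right _ inf_le_left) (inf_le_inf_right _ hEH)) ?_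
    rintro h ⟨hh, hhs⟩
    obtain ⟨e, he, m, hm, rfl⟩ := decompose hJ hh
    have hes : e * m * s = s * (e * m) := (mem_cent_gen rfl).1 hhs
    set c := m * s * m⁻¹ * s⁻¹ with hc
    have hcN : c ∈ NP z P := mul_mem (mul_mem (mul_mem hm hsN) (inv_mem hm)) (inv_mem hsN)
    have hcE : c ∈ EE z := by
      have hh : m * s * m⁻¹ = e⁻¹ * s * e := by
        calc m * s * m⁻¹ = e⁻¹ * (e * m * s) * m⁻¹ := by group
          _ = e⁻¹ * (s * (e * m)) * m⁻¹ := by rw [hes]
          _ = _ := by group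
      rw [hc, hh, show e⁻¹ * s * e * s⁻¹ = e⁻¹ * (s * e * s⁻¹) by group]
      exact mul_mem (inv_mem he) (E_normal D hs.1 he)
    have hcz : c ∈ zpowers (z * p) := zpowers_le.2 (z_zp D) (E_inf_NP D hcE hcN.2)
    have h : (c * s) ^ 5 = 1 := by
      rw [hc, inv_mul_cancel_right, conj_pow, ← h5, pow_orderOf_eq_one, mul_one, mul_inv_cancel]
    rw [(show Commute c s from (center_elems D hcz s hs).symm).mul_pow, ← h5, pow_orderOf_eq_one,
      mul_one, h5] at h
    have hms : m * s = s * m := mul_inv_eq_iff_eq_mul.1 (mul_inv_eq_one.1 (hc.symm.trans (hkey c hcz h)))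
    have hm' : m ∈ CI (NP z P) (zpowers s) := ⟨hm, (mem_cent_gen rfl).2 hms⟩
    have he' : e ∈ CI (EE z) (zpowers s) := by
      refine Subgroup.mem_inf.2 ⟨he, ?_⟩
      have hhs' : e * m ∈ centralizer (zpowers s : Set G) := hhs
      have hm'' : m ∈ centralizer (zpowers s : Set G) := hm'.2
      have := mul_mem hhs' (inv_mem hm'')
      rwa [mul_inv_cancel_right] at this
    exact mul_mem (mem_sup_right he') (mem_sup_left hm')
  have h960 : Nat.card ↥(CI (HH z) (zpowers s)) = 960 := by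
    have h := card_sup_mul_inf _ _ hnorm
    rw [hsup, hinf, Nat.card_zpowers, D.hz, h60, hR32] at h
    omega
  refine ⟨p, w0, ⟨rfl, h5, hpH, D.ord, ⟨hw0.1.1, hw0.2⟩, hinv, h960, hR32, hRsq, hRcen, hfix, ?_⟩⟩
  obtain ⟨q1, u, hq1, -, hu⟩ := JFiveM22x4.exists_frobenius
  obtain ⟨g, -, i, hi⟩ := conj_five (T := (⊤ : Subgroup (MulAut ↥Cfsg.Spor.M22)))
    (by rw [Subgroup.card_top, card_mulAut]; norm_num) hq5 hq1 (mem_top _) (mem_top _)
  set φ := g⁻¹ * u * g with hφ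
  have hφq : φ * q * φ⁻¹ = q ^ 2 := by
    have h1 : u * (q1 ^ i) * u⁻¹ = (q1 ^ i) ^ 2 := by
      rw [← conj_pow, hu, ← pow_mul, ← pow_mul, mul_comm]
    rw [← hi] at h1
    calc φ * q * φ⁻¹ = g⁻¹ * (u * (g * q * g⁻¹) * u⁻¹) * g := by rw [hφ]; group
      _ = g⁻¹ * (g * q * g⁻¹) ^ 2 * g := by rw [h1]
      _ = q ^ 2 := by rw [conj_pow]; group
  obtain ⟨x, hx⟩ := hψ φ
  refine ⟨x, x.2.1, hlift x (s ^ 2) (pow_mem hs 2) ?_ ?_⟩
  · rw [← pow_mul, mul_comm, pow_mul, ← h5, pow_orderOf_eq_one, one_pow]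
  · rw [map_mul, map_mul, map_inv, hx, ← hq, hφq, hq, ← map_pow]
    rfl

theorem exists_loc (hJ : Cfsg.IsOfJankoFourTypeWith z P) {S : Subgroup G} (hS : Nat.card ↥S = 5)
    (hSH : S ≤ HH z) : ∃ s p0 w0, Loc z S s p0 w0 := by
  obtain ⟨N, p, D⟩ := exists_pack hJ
  haveI : Fact (Nat.Prime 5) := ⟨by norm_num⟩
  obtain ⟨a, ha⟩ := exists_prime_orderOf_dvd_card' (G := ↥(KK z P)) 5 (by rw [card_KK D]; norm_num)
  obtain ⟨b, hb⟩ := exists_prime_orderOf_dvd_card' (G := S) 5 (by rw [hS])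
  have ha5 : orderOf (a : G) = 5 := by rw [Subgroup.orderOf_coe, ha]
  have hb5 : orderOf (b : G) = 5 := by rw [Subgroup.orderOf_coe, hb]
  have hbS : zpowers (b : G) = S :=
    eq_of_le_of_card_ge (zpowers_le.2 b.2) (by rw [hS, Nat.card_zpowers, hb5])
  obtain ⟨g, hg, i, e⟩ := conj_five (card_HH_not hJ) ha5 hb5 a.2.1 (hSH b.2)
  have hK : g * (a : G) * g⁻¹ ∈ KK z (cj g P) := by
    refine Subgroup.mem_inf.2 ⟨mul_mem (mul_mem hg a.2.1) (inv_mem hg), ?_⟩
    rintro _ ⟨y, hy, rfl⟩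
    show g * y * g⁻¹ * (g * a * g⁻¹) = g * a * g⁻¹ * (g * y * g⁻¹)
    calc g * y * g⁻¹ * (g * a * g⁻¹) = g * (y * a) * g⁻¹ := by group
      _ = g * (a * y) * g⁻¹ := by rw [a.2.2 y hy]
      _ = _ := by group
  have hs5 : orderOf (g * (a : G) * g⁻¹) = 5 := by
    rw [← ha5, ← MulAut.conj_apply, MulEquiv.orderOf_eq]
  obtain ⟨p0, w0, L⟩ := loc_base (with_conj hJ hg) hK hs5
  have hgen : zpowers (g * (a : G) * g⁻¹) = S := by
    refine eq_of_le_of_card_ge ?_ (by rw [hS, Nat.card_zpowers, hs5])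
    rw [zpowers_le, e]
    exact pow_mem b.2 i
  exact ⟨_, p0, w0, hgen ▸ L⟩

end Cfsg.Agent.JFiveLocal4
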