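import Cfsg.Agent.Lib.JFiveLocal4
import Cfsg.Agent.Lib.JFiveCore4

/-!
The normaliser of a subgroup of order five in a group of Janko-four type, from the centraliser of an
involution not conjugate to the central one and the orbits of the normaliser of the large elementary abelian
subgroup.
-/

set_option autoImplicit false
set_option linter.unusedSectionVars false
set_option linter.style.haveILetI false

namespace Cfsg.Agent.JFiveMain4

open Subgroup Cfsg.Agent.JFourSetting97 Cfsg.Agent.JFourM22Facts97 Cfsg.Agent.JFiveLocal4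
open Cfsg.Agent.JFourSevenMain30 (TShape CI NI cj card_cj mem_cj CI_cj cj_cj cj_self cj_centralizer
  mem_cent_gen t_mem Sc XX)

universe u

variable {G : Type u} [Group G] [Finite G]

local notation "EE" => Cfsg.twoCoreOfCentralizer

/-- The facts used. -/
structure Facts (z : G) : Prop where
  shape : ∀ t, orderOf t = 2 → ¬ IsConj z t → TShape t
  orbit : ∀ V : Subgroup G, Cfsg.IsElementaryAbelian 2 V → Nat.card ↥V = 2 ^ 11 →
    ∃ z' t : G, z' ∈ V ∧ t ∈ V ∧ t ≠ 1 ∧ IsConj z z' ∧ ¬ IsConj z t ∧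
      Set.ncard {v : G | ∃ n ∈ normalizer (V : Set G), n * z' * n⁻¹ = v} = 1771 ∧
      Set.ncard {v : G | ∃ n ∈ normalizer (V : Set G), n * t * n⁻¹ = v} = 276 ∧
      centralizer ({t} : Set G) ≤ normalizer (V : Set G)
  exists_V : ∃ V : Subgroup G, Cfsg.IsElementaryAbelian 2 V ∧ Nat.card ↥V = 2 ^ 11

theorem five_gen {S : Subgroup G} (hS : Nat.card ↥S = 5) : ∃ s : G, orderOf s = 5 ∧ zpowers s = S := by
  haveI : Fact (Nat.Prime 5) := ⟨by norm_num⟩
  obtain ⟨s, hs⟩ := exists_prime_orderOf_dvd_card' (G := S) 5 (by rw [hS])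
  refine ⟨s, by rw [Subgroup.orderOf_coe, hs], eq_of_le_of_card_ge (zpowers_le.2 s.2) ?_⟩
  rw [Nat.card_zpowers, Subgroup.orderOf_coe, hs, hS]

theorem pow_five {S : Subgroup G} (hS : Nat.card ↥S = 5) {x : G} (hx : x ∈ S) : x ^ 5 = 1 := by
  have h := pow_card_eq_one' (x := (⟨x, hx⟩ : S))
  rw [hS] at h
  exact congrArg Subtype.val h

theorem two_five {x : G} (h2 : ∃ k : ℕ, x ^ 2 ^ k = 1) (h5 : x ^ 5 = 1) : x = 1 := by
  obtain ⟨k, hk⟩ := h2
  have h1 := Nat.dvd_gcd (orderOf_dvd_of_pow_eq_one hk) (orderOf_dvd_of_pow_eq_one h5)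
  rw [Nat.Coprime.gcd_eq_one (Nat.Coprime.pow_left k (by norm_num))] at h1
  exact orderOf_eq_one_iff.1 (Nat.dvd_one.1 h1)

theorem sq_one {x : G} (h : orderOf x = 2) : x * x = 1 := by
  rw [← pow_two, ← h, pow_orderOf_eq_one]

theorem order_conj (g x : G) : orderOf (g * x * g⁻¹) = orderOf x := by
  rw [← MulAut.conj_apply, MulEquiv.orderOf_eq]

theorem cj_five {T S S' : Subgroup G} (hT : ¬ 25 ∣ Nat.card ↥T) (hS : Nat.card ↥S = 5)
    (hS' : Nat.card ↥S' = 5) (h : S ≤ T) (h' : S' ≤ T) : ∃ g ∈ T, cj g S = S' := by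
  obtain ⟨a, ha, rfl⟩ := five_gen hS
  obtain ⟨b, hb, rfl⟩ := five_gen hS'
  obtain ⟨g, hg, i, e⟩ := conj_five hT ha hb (h (mem_zpowers a)) (h' (mem_zpowers b))
  refine ⟨g, hg, eq_of_le_of_card_ge ?_ (by rw [card_cj, hS, hS'])⟩
  rw [cj, MonoidHom.map_zpowers, zpowers_le]
  show g * a * g⁻¹ ∈ _
  rw [e]
  exact pow_mem (mem_zpowers b) i

section Shape

variable {t : G} {V K : Subgroup G} (hVC : V ≤ centralizer ({t} : Set G))
  (hKC : K ≤ centralizer ({t} : Set G)) (hN : centralizer ({t} : Set G) ≤ normalizer (V : Set G))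
  (hVc : Nat.card ↥V = 2 ^ 11) (hKV : K ⊓ V = ⊥)
  (hsup : K ⊔ V = centralizer ({t} : Set G)) (iso : ↥K ≃* MulAut ↥Cfsg.Spor.M22)
include hVC hKC hN hVc hKV hsup iso

theorem cent_five_card {S : Subgroup G} (hS : Nat.card ↥S = 5)
    (hSC : S ≤ centralizer ({t} : Set G)) :
    Nat.card ↥(CI (centralizer ({t} : Set G)) S) = Nat.card ↥(CI V S) * 10 := by
  obtain ⟨hC, hK⟩ := JFourSevenMain30.card_cent hVC hKC hN hVc hKV hsup iso
  haveI : Fact (Nat.Prime 5) := ⟨by norm_num⟩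
  obtain ⟨x, hx5'⟩ := exists_prime_orderOf_dvd_card' (G := K) 5 (by rw [hK]; norm_num)
  set S₁ := zpowers (x : G) with hS₁
  have hx5 : orderOf (x : G) = 5 := by rw [Subgroup.orderOf_coe, hx5']
  have hsc : Nat.card ↥S₁ = 5 := by rw [Nat.card_zpowers, hx5]
  obtain ⟨g, hg, e⟩ := cj_five (T := centralizer ({t} : Set G)) (by rw [hC]; norm_num) hsc hS
    (zpowers_le.2 (hKC x.2)) hSC
  have hVg : cj g V = V := by
    ext y
    rw [mem_cj]
    have := mem_normalizer_iff.1 (hN (inv_mem hg)) y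
    simpa using this.symm
  rw [← e]
  conv_lhs => rw [← cj_self hg, CI_cj, card_cj]
  conv_rhs => rw [← hVg, CI_cj, card_cj]
  have hxS : zpowers (x : G) = S₁ := rfl
  have hxK : (x : G) ∈ K := x.2
  have hdec : ∀ g ∈ CI (centralizer ({t} : Set G)) S₁,
      ∃ k ∈ CI K S₁, ∃ v ∈ CI V S₁, g = k * v := by
    rintro g ⟨hg, hgS⟩
    have hmem : g ∈ ((K ⊔ V : Subgroup G) : Set G) := by rw [hsup]; exact hg
    rw [Subgroup.coe_mul_of_left_le_normalizer_right K V (hKC.trans hN)] at hmem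
    obtain ⟨k, hk, v, hv, rfl⟩ := hmem
    have h1 : k * v * x = x * (k * v) := (mem_cent_gen hxS).1 hgS
    have h4 : (x : G)⁻¹ * k * x * ((x : G)⁻¹ * v * x) = k * v := by
      calc (x : G)⁻¹ * k * x * ((x : G)⁻¹ * v * x) = (x : G)⁻¹ * (k * v * x) := by group
        _ = k * v := by rw [h1]; group
    have hvx : (x : G)⁻¹ * v * x ∈ V := by
      have := (mem_normalizer_iff.1 (hN (inv_mem (hKC hxK))) v).1 hv
      simpa using this
    have h5 : k⁻¹ * ((x : G)⁻¹ * k * x) = v * ((x : G)⁻¹ * v * x)⁻¹ := by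
      calc k⁻¹ * ((x : G)⁻¹ * k * x)
          = k⁻¹ * ((x : G)⁻¹ * k * x * ((x : G)⁻¹ * v * x)) * ((x : G)⁻¹ * v * x)⁻¹ := by group
        _ = _ := by rw [h4]; group
    have h6 : k⁻¹ * ((x : G)⁻¹ * k * x) = 1 := by
      rw [← Subgroup.mem_bot, ← hKV]
      exact Subgroup.mem_inf.2 ⟨mul_mem (inv_mem hk) (mul_mem (mul_mem (inv_mem hxK) hk) hxK),
        h5 ▸ mul_mem hv (inv_mem hvx)⟩
    have hkx : k * x = x * k := by
      calc k * x = x * (k * (k⁻¹ * ((x : G)⁻¹ * k * x))) := by group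
        _ = x * k := by rw [h6, mul_one]
    have hkS : k ∈ centralizer (S₁ : Set G) := (mem_cent_gen hxS).2 hkx
    refine ⟨k, ⟨hk, hkS⟩, v, ⟨hv, ?_⟩, rfl⟩
    have : k⁻¹ * (k * v) ∈ centralizer (S₁ : Set G) := mul_mem (inv_mem hkS) hgS
    rwa [inv_mul_cancel_left] at this
  have hbij : Nat.card ↥(CI (centralizer ({t} : Set G)) S₁) =
      Nat.card ↥(CI V S₁) * Nat.card ↥(CI K S₁) := by
    rw [← Nat.card_prod]
    refine (Nat.card_congr (Equiv.ofBijective (fun y : ↥(CI V S₁) × ↥(CI K S₁) =>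
      (⟨(y.2 : G) * y.1, mul_mem (hKC y.2.2.1) (hVC y.1.2.1), mul_mem y.2.2.2 y.1.2.2⟩ :
        ↥(CI (centralizer ({t} : Set G)) S₁))) ⟨?_, ?_⟩)).symm
    · intro a b e
      have e' : (a.2 : G) * a.1 = b.2 * b.1 := congrArg Subtype.val e
      have h : (b.2 : G)⁻¹ * a.2 = b.1 * (a.1 : G)⁻¹ := by
        calc (b.2 : G)⁻¹ * a.2 = (b.2 : G)⁻¹ * ((a.2 : G) * a.1) * (a.1 : G)⁻¹ := by group
          _ = _ := by rw [e']; group
      have h1 : (b.2 : G)⁻¹ * a.2 = 1 := by
        rw [← Subgroup.mem_bot, ← hKV]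
        exact Subgroup.mem_inf.2 ⟨mul_mem (inv_mem b.2.2.1) a.2.2.1, h ▸ mul_mem b.1.2.1 (inv_mem a.1.2.1)⟩
      refine Prod.ext (Subtype.ext ?_) (Subtype.ext (inv_mul_eq_one.1 h1).symm)
      rw [h1] at h
      exact (mul_inv_eq_one.1 h.symm).symm
    · rintro ⟨g, hg⟩
      obtain ⟨k, hk, v, hv, rfl⟩ := hdec g hg
      exact ⟨(⟨v, hv⟩, ⟨k, hk⟩), rfl⟩
  rw [hbij]
  congr 1
  rw [← (JFiveM22x4.card_cent (q := iso x) ((orderOf_injective iso.toMonoidHom iso.injective x).trans hx5')).1]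
  refine (Nat.card_congr (Equiv.ofBijective (fun y : ↥(CI K S₁) =>
    (⟨iso ⟨y, y.2.1⟩, ?_⟩ : ↥(centralizer ({iso x} : Set (MulAut ↥Cfsg.Spor.M22))))) ⟨?_, ?_⟩))
  · rw [mem_centralizer_singleton_iff, ← map_mul, ← map_mul]
    exact congrArg iso (Subtype.ext ((mem_cent_gen hxS).1 y.2.2))
  · intro a b e
    exact Subtype.ext (congrArg (Subtype.val : ↥K → G) (iso.injective (congrArg Subtype.val e)))
  · rintro ⟨φ, hφ⟩
    obtain ⟨k, rfl⟩ := iso.surjective φ
    refine ⟨⟨k, k.2, (mem_cent_gen hxS).2 ?_⟩, rfl⟩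
    have := mem_centralizer_singleton_iff.1 hφ
    rw [← map_mul, ← map_mul] at this
    exact congrArg Subtype.val (iso.injective this)

end Shape

section Fixed

variable {V S : Subgroup G} (hV : Cfsg.IsElementaryAbelian 2 V) (hVc : Nat.card ↥V = 2 ^ 11)
  (hS : Nat.card ↥S = 5) (hn : S ≤ normalizer (V : Set G))
include hV hVc hS hn

theorem fixed_mod : Nat.card ↥(CI V S) ≡ 3 [MOD 5] ∧
    ∀ z : G, Set.ncard {v : G | v ∈ V ∧ IsConj z v} ≡
      Set.ncard {v : G | v ∈ CI V S ∧ IsConj z v} [MOD 5] := by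
  haveI : Fact (Nat.Prime 5) := ⟨by norm_num⟩
  obtain ⟨s, hs5, hsS⟩ := five_gen hS
  have hsn : ∀ v ∈ V, s * v * s⁻¹ ∈ V := fun v hv =>
    (mem_normalizer_iff.1 (hn (hsS ▸ mem_zpowers s)) v).1 hv
  have hs : s ^ 5 = 1 := hs5 ▸ pow_orderOf_eq_one s
  constructor
  · let f : ↥V → ↥V := fun v => ⟨s * v * s⁻¹, hsn v v.2⟩
    have hit : ∀ k (v : ↥V), ((f^[k] v : ↥V) : G) = s ^ k * v * (s ^ k)⁻¹ := by
      intro k
      induction k with
      | zero => intro v; simp
      | succ k ih =>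
        intro v
        rw [Function.iterate_succ_apply', pow_succ']
        show s * _ * s⁻¹ = _
        rw [ih]; group
    have h := JFourSevenFix30.card_fixed_modEq (p := 5) f fun v => Subtype.ext (by rw [hit, hs]; simp)
    rw [hVc] at h
    have e : Nat.card {v : ↥V // f v = v} = Nat.card ↥(CI V S) := by
      refine Nat.card_congr
        { toFun := fun v => ⟨v.1, v.1.2, (mem_cent_gen hsS).2
            (mul_inv_eq_iff_eq_mul.1 (congrArg Subtype.val v.2)).symm⟩
          invFun := fun v => ⟨⟨v.1, v.2.1⟩, Subtype.ext ?_⟩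
          left_inv := fun v => rfl
          right_inv := fun v => rfl }
      show s * (v : G) * s⁻¹ = v
      rw [← (mem_cent_gen hsS).1 v.2.2, mul_inv_cancel_right]
    rw [e] at h
    exact h.symm.trans (by decide)
  · intro z
    let T := {v : G | v ∈ V ∧ IsConj z v}
    let f : ↥T → ↥T := fun v => ⟨s * v * s⁻¹, hsn v v.2.1, v.2.2.trans (isConj_iff.2 ⟨s, rfl⟩)⟩
    have hit : ∀ k (v : ↥T), ((f^[k] v : ↥T) : G) = s ^ k * v * (s ^ k)⁻¹ := by
      intro k
      induction k with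
      | zero => intro v; simp
      | succ k ih =>
        intro v
        rw [Function.iterate_succ_apply', pow_succ']
        show s * _ * s⁻¹ = _
        rw [ih]; group
    have h := JFourSevenFix30.card_fixed_modEq (p := 5) f fun v => Subtype.ext (by rw [hit, hs]; simp)
    rw [← Nat.card_coe_set_eq, ← Nat.card_coe_set_eq]
    refine h.trans ?_
    rw [Nat.card_congr
      { toFun := fun v : {v : ↥T // f v = v} => (⟨(v.1 : G), ⟨v.1.2.1, (mem_cent_gen hsS).2
            (mul_inv_eq_iff_eq_mul.1 (congrArg Subtype.val v.2)).symm⟩, v.1.2.2⟩ :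
              ↥{v : G | v ∈ CI V S ∧ IsConj z v})
        invFun := fun v => ⟨⟨v.1, v.2.1.1, v.2.2⟩, Subtype.ext (by
          show s * (v : G) * s⁻¹ = v
          rw [← (mem_cent_gen hsS).1 v.2.1.2, mul_inv_cancel_right])⟩
        left_inv := fun v => rfl
        right_inv := fun v => rfl }]

end Fixed

variable {z : G} {P : Subgroup G}

/-- The class of the central involution inside a large elementary subgroup. -/
theorem class_orbit (F : Facts z) (hz : orderOf z = 2) {V : Subgroup G}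
    (hV : Cfsg.IsElementaryAbelian 2 V) (hVc : Nat.card ↥V = 2 ^ 11) :
    Set.ncard {v : G | v ∈ V ∧ IsConj z v} = 1771 ∧
    ∀ v w : G, v ∈ V → w ∈ V → IsConj z v → IsConj z w →
      ∃ n ∈ normalizer (V : Set G), n * v * n⁻¹ = w := by
  obtain ⟨z', t, hz', ht, ht1, hzc, htn, hA, hB, -⟩ := F.orbit V hV hVc
  set A := {v : G | ∃ n ∈ normalizer (V : Set G), n * z' * n⁻¹ = v}
  set B := {v : G | ∃ n ∈ normalizer (V : Set G), n * t * n⁻¹ = v}
  have hAc : ∀ v ∈ A, IsConj z v := by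
    rintro v ⟨n, -, rfl⟩; exact hzc.trans (isConj_iff.2 ⟨n, rfl⟩)
  have hBc : ∀ v ∈ B, ¬ IsConj z v := by
    rintro v ⟨n, -, rfl⟩ h; exact htn (h.trans (isConj_iff.2 ⟨n, rfl⟩).symm)
  have hsub : A ∪ B ⊆ (V : Set G) \ {1} := by
    rintro v (⟨n, hn, rfl⟩ | ⟨n, hn, rfl⟩)
    · refine ⟨(mem_normalizer_iff.1 hn _).1 hz', fun h => ?_⟩
      have e := conj_eq_one_iff.1 (Set.mem_singleton_iff.1 h)
      rw [e] at hzc
      rw [isConj_one_left.1 hzc, orderOf_one] at hz
      omega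
    · exact ⟨(mem_normalizer_iff.1 hn _).1 ht, fun h => ht1 (conj_eq_one_iff.1 (Set.mem_singleton_iff.1 h))⟩
  have heq : A ∪ B = (V : Set G) \ {1} := by
    refine Set.eq_of_subset_of_ncard_le hsub ?_ (Set.toFinite _)
    rw [Set.ncard_union_eq (Set.disjoint_left.2 fun v hv hv' => hBc v hv' (hAc v hv)) (Set.toFinite _)
      (Set.toFinite _), hA, hB, Set.ncard_sdiff_singleton_of_mem (one_mem V), ← Nat.card_coe_set_eq,
      SetLike.coe_sort_coe, hVc]
    norm_num
  have hAeq : {v : G | v ∈ V ∧ IsConj z v} = A := by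
    ext v
    refine ⟨fun h => ?_, fun h => ⟨(hsub (Or.inl h)).1, hAc v h⟩⟩
    have hv1 : v ∈ (V : Set G) \ {1} := ⟨h.1, fun e => by
      have e' := h.2
      rw [Set.mem_singleton_iff.1 e] at e'
      rw [isConj_one_left.1 e', orderOf_one] at hz
      omega⟩
    rw [← heq] at hv1
    exact hv1.resolve_right fun h' => hBc v h' h.2
  refine ⟨by rw [hAeq, hA], fun v w hv hw hcv hcw => ?_⟩
  obtain ⟨a, ha, ea⟩ : v ∈ A := hAeq ▸ ⟨hv, hcv⟩
  obtain ⟨b, hb, eb⟩ : w ∈ A := hAeq ▸ ⟨hw, hcw⟩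
  refine ⟨b * a⁻¹, mul_mem hb (inv_mem ha), ?_⟩
  rw [← ea, ← eb]; group

section Bound

variable (hJ : Cfsg.IsOfJankoFourTypeWith z P) (F : Facts z)
include hJ F

/-- The fixed points of a subgroup of order five in a large elementary subgroup. -/
theorem fixed_eight {V S : Subgroup G} (hV : Cfsg.IsElementaryAbelian 2 V)
    (hVc : Nat.card ↥V = 2 ^ 11) (hS : Nat.card ↥S = 5) (hn : S ≤ normalizer (V : Set G)) :
    Nat.card ↥(CI V S) = 8 ∧ Set.ncard {v : G | v ∈ CI V S ∧ IsConj z v} % 5 = 1 ∧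
      ∃ g, g * z * g⁻¹ ∈ CI V S ∧ S ≤ centralizer ({g * z * g⁻¹} : Set G) := by
  obtain ⟨N, p, D⟩ := exists_pack hJ
  obtain ⟨hmod, hcl⟩ := fixed_mod hV hVc hS hn
  have hZ : Set.ncard {v : G | v ∈ CI V S ∧ IsConj z v} % 5 = 1 := by
    rw [← hcl z, (class_orbit F D.hz hV hVc).1]
  obtain ⟨v, hv, hvc⟩ : ({v : G | v ∈ CI V S ∧ IsConj z v}).Nonempty :=
    Set.nonempty_of_ncard_ne_zero (by omega)
  obtain ⟨g, rfl⟩ := isConj_iff.1 hvc
  have hSv : S ≤ centralizer ({g * z * g⁻¹} : Set G) := fun x hx =>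
    mem_centralizer_singleton_iff.2 (hv.2 x hx)
  refine ⟨?_, hZ, g, hv, hSv⟩
  have hle : cj g⁻¹ (centralizer ({g * z * g⁻¹} : Set G)) = HH z := by
    rw [cj_centralizer, show g⁻¹ * (g * z * g⁻¹) * g⁻¹⁻¹ = z by group]
  have hSle : cj g⁻¹ S ≤ HH z := hle ▸ map_mono hSv
  obtain ⟨s, p0, w0, L⟩ := exists_loc hJ (by rw [card_cj, hS]) hSle
  have hA : CI V S ≤ CI (centralizer ({g * z * g⁻¹} : Set G)) S := fun x hx =>
    ⟨mem_centralizer_singleton_iff.2 (congrArg Subtype.val (hV.1.is_comm.comm ⟨x, hx.1⟩ ⟨_, hv.1⟩)), hx.2⟩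
  have hd : Nat.card ↥(CI V S) ∣ 960 := by
    have := card_dvd_of_le hA
    rwa [← card_cj g⁻¹ (CI (centralizer ({g * z * g⁻¹} : Set G)) S), ← CI_cj, hle, L.card] at this
  obtain ⟨j, hj, hje⟩ := (Nat.dvd_prime_pow Nat.prime_two).1
    (hVc ▸ card_dvd_of_le (inf_le_left : CI V S ≤ V))
  rw [hje] at hd hmod ⊢
  unfold Nat.ModEq at hmod
  interval_cases j <;> omega

/-- An element of order three normalising a subgroup of order five centralises it. -/
theorem three_cent {S : Subgroup G} (hS : Nat.card ↥S = 5) {r : G} (hr : orderOf r = 3)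
    (hrn : r ∈ normalizer (S : Set G)) : r ∈ centralizer (S : Set G) := by
  obtain ⟨s, hs5, rfl⟩ := five_gen hS
  refine (mem_cent_gen rfl).2 ?_
  obtain ⟨k, hk⟩ := mem_powers_iff_mem_zpowers.2 ((mem_normalizer_iff.1 hrn s).1 (mem_zpowers s))
  simp only at hk
  have h2 : r * (r * (r * s * r⁻¹) * r⁻¹) * r⁻¹ = s ^ (k * k * k) := by
    rw [← hk, ← conj_pow, ← hk, ← pow_mul, ← conj_pow, ← hk, ← pow_mul, mul_assoc]
  rw [show r * (r * (r * s * r⁻¹) * r⁻¹) * r⁻¹ = r ^ 3 * s * (r ^ 3)⁻¹ by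
    rw [pow_succ, pow_two]; group, ← hr, pow_orderOf_eq_one] at h2
  simp only [one_mul, inv_one, mul_one] at h2
  have hmod : k * k * k ≡ 1 [MOD 5] := by
    rw [← hs5]
    exact pow_eq_pow_iff_modEq.1 (by rw [← h2, pow_one])
  have hk1 : k % 5 = 1 := by
    have h := Nat.mod_lt k (by norm_num : 0 < 5)
    unfold Nat.ModEq at hmod
    rw [Nat.mul_mod, Nat.mul_mod k k] at hmod
    interval_cases hh : k % 5 <;> first | rfl | norm_num at hmod
  have : r * s * r⁻¹ = s := by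
    rw [← hk, ← pow_mod_orderOf, hs5, hk1, pow_one]
  exact mul_inv_eq_iff_eq_mul.1 this

/-- A non-central involution in the core part. -/
theorem exists_t {S : Subgroup G} (hS : Nat.card ↥S = 5) (hSH : S ≤ HH z) :
    ∃ t, t ∈ CI (EE z) S ∧ orderOf t = 2 ∧ ¬ IsConj z t := by
  obtain ⟨N, p, D⟩ := exists_pack hJ
  obtain ⟨V₀, hV₀, hV₀c⟩ := F.exists_V
  obtain ⟨z₀, t, -, htV₀, ht1, -, htn, -, -, -⟩ := F.orbit V₀ hV₀ hV₀c
  have ht : orderOf t = 2 := orderOf_eq_prime (hV₀.2 t htV₀) ht1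
  obtain ⟨V, K, hVC, hKC, hN, hV, hVc, hKV, hsup, ⟨iso⟩⟩ := F.shape t ht htn
  obtain ⟨hC, hKcard⟩ := JFourSevenMain30.card_cent hVC hKC hN hVc hKV hsup iso
  haveI : Fact (Nat.Prime 5) := ⟨by norm_num⟩
  haveI : Fact (Nat.Prime 3) := ⟨Nat.prime_three⟩
  haveI : Fact (Nat.Prime 2) := ⟨Nat.prime_two⟩
  obtain ⟨q, hq⟩ := exists_prime_orderOf_dvd_card' (G := K) 5 (by rw [hKcard]; norm_num)
  set S' := zpowers (q : G) with hS'
  have hS'c : Nat.card ↥S' = 5 := by rw [Nat.card_zpowers, Subgroup.orderOf_coe, hq]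
  have hS't : S' ≤ centralizer ({t} : Set G) := zpowers_le.2 (hKC q.2)
  have hn : S' ≤ normalizer (V : Set G) := hS't.trans hN
  obtain ⟨hA8, hZ, g, hgA, -⟩ := fixed_eight hJ F hV hVc hS'c hn
  set A := CI V S' with hA
  have htA : t ∈ A :=
    ⟨t_mem hVC hKC hN hVc hKV hsup iso ht, (mem_cent_gen rfl).2
      (mem_centralizer_singleton_iff.1 (hKC q.2)).symm⟩
  set Zs := {v : G | v ∈ A ∧ IsConj z v} with hZs
  have hz1 : ¬ IsConj z (1 : G) := fun h => by
    have h' := D.hz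
    rw [isConj_one_left.1 h, orderOf_one] at h'
    omega
  have hZle : Zs ⊆ (A : Set G) \ {1, t} := by
    rintro v ⟨hv, hc⟩
    refine ⟨hv, ?_⟩
    rintro (rfl | rfl)
    · exact hz1 hc
    · exact htn hc
  have hrest : ((A : Set G) \ {1, t}).ncard = 6 := by
    rw [Set.ncard_sdiff (Set.insert_subset (one_mem A) (Set.singleton_subset_iff.2 htA)) (Set.toFinite _),
      Set.ncard_pair ht1.symm, ← Nat.card_coe_set_eq, SetLike.coe_sort_coe, hA8]
  have hone : ∀ v ∈ A, ∀ w ∈ A, IsConj z v → IsConj z w → v = w := by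
    suffices h1 : Zs.ncard = 1 by
      intro v hv w hw hcv hcw
      obtain ⟨a, ha⟩ := Set.ncard_eq_one.1 h1
      have e1 : v ∈ Zs := ⟨hv, hcv⟩
      have e2 : w ∈ Zs := ⟨hw, hcw⟩
      rw [ha, Set.mem_singleton_iff] at e1 e2
      rw [e1, e2]
    have hle := Set.ncard_le_ncard hZle (Set.toFinite _)
    rw [hrest] at hle
    by_contra hne
    have h6 : Zs.ncard = 6 := by omega
    have hall : Zs = (A : Set G) \ {1, t} :=
      Set.eq_of_subset_of_ncard_le hZle (by rw [hrest, h6]) (Set.toFinite _)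
    set Nq := normalizer (V : Set G) ⊓ normalizer (S' : Set G) with hNq
    have hNA : ∀ n ∈ Nq, ∀ v ∈ A, n * v * n⁻¹ ∈ A := by
      intro n hn' v hv
      refine Subgroup.mem_inf.2 ⟨(mem_normalizer_iff.1 hn'.1 v).1 hv.1, fun x hx => ?_⟩
      have hx' : n⁻¹ * x * n ∈ S' := by
        have := (mem_normalizer_iff.1 (inv_mem hn'.2) x).1 hx
        simpa using this
      calc x * (n * v * n⁻¹) = n * (n⁻¹ * x * n * v) * n⁻¹ := by group
        _ = n * (v * (n⁻¹ * x * n)) * n⁻¹ := by rw [hv.2 _ hx']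
        _ = n * v * n⁻¹ * x := by group
    have horb : JFiveSet4.orb Nq (g * z * g⁻¹) = Zs := by
      ext w
      constructor
      · rintro ⟨n, hn', rfl⟩
        exact ⟨hNA n hn' _ hgA, (isConj_iff.2 ⟨n * g, by group⟩ : IsConj z _)⟩
      · rintro ⟨hw, hcw⟩
        obtain ⟨n, hn', e⟩ := (class_orbit F D.hz hV hVc).2 _ w hgA.1 hw.1 (isConj_iff.2 ⟨g, rfl⟩) hcw
        -- move the subgroup of order five back
        set T := centralizer ({w} : Set G) ⊓ normalizer (V : Set G) with hT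
        have hT25 : ¬ 25 ∣ Nat.card ↥T := by
          intro h
          obtain ⟨b, hb⟩ := isConj_iff.1 hcw
          have h2 : Nat.card ↥(centralizer ({w} : Set G)) = Nat.card ↥(HH z) := by
            rw [← hb, ← cj_centralizer, card_cj]
          exact card_HH_not hJ ((h.trans (card_dvd_of_le inf_le_left)).trans (dvd_of_eq h2))
        have h1 : S' ≤ T := le_inf (fun x hx => mem_centralizer_singleton_iff.2 (hw.2 x hx)) hn
        have h2 : cj n S' ≤ T := by
          rintro _ ⟨x, hx, rfl⟩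
          refine Subgroup.mem_inf.2 ⟨mem_centralizer_singleton_iff.2 ?_,
            mul_mem (mul_mem hn' (hn hx)) (inv_mem hn')⟩
          show n * x * n⁻¹ * w = w * (n * x * n⁻¹)
          rw [← e]
          calc n * x * n⁻¹ * (n * (g * z * g⁻¹) * n⁻¹) = n * (x * (g * z * g⁻¹)) * n⁻¹ := by group
            _ = n * (g * z * g⁻¹ * x) * n⁻¹ := by rw [hgA.2 x hx]
            _ = _ := by group
        obtain ⟨c, hc, ec⟩ := cj_five hT25 (by rw [card_cj, hS'c]) hS'c h2 h1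
        rw [cj_cj] at ec
        refine ⟨c * n, Subgroup.mem_inf.2 ⟨mul_mem hc.2 hn', mem_normalizer_fintype fun x hx => ?_⟩, ?_⟩
        · have : c * n * x * (c * n)⁻¹ ∈ cj (c * n) S' := ⟨x, hx, rfl⟩
          rwa [ec] at this
        · calc c * n * (g * z * g⁻¹) * (c * n)⁻¹ = c * (n * (g * z * g⁻¹) * n⁻¹) * c⁻¹ := by group
            _ = c * w * c⁻¹ := by rw [e]
            _ = w := mul_inv_eq_iff_eq_mul.2 (mem_centralizer_singleton_iff.1 hc.1)
    have h3 : 3 ∣ Nat.card ↥Nq := by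
      have := JFiveSet4.orb_mul Nq (g * z * g⁻¹)
      rw [horb, h6] at this
      exact ⟨2 * Nat.card ↥(Nq ⊓ centralizer ({g * z * g⁻¹} : Set G) : Subgroup G), by rw [← this]; ring⟩
    obtain ⟨r, hr⟩ := exists_prime_orderOf_dvd_card' (G := Nq) 3 h3
    have hr3 : orderOf (r : G) = 3 := by rw [Subgroup.orderOf_coe, hr]
    have hrc := three_cent hJ F hS'c hr3 r.2.2
    have hrt : (r : G) * t * (r : G)⁻¹ = t := by
      have h1 : (r : G) * t * (r : G)⁻¹ ∈ A := hNA r r.2 t htA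
      by_contra hne'
      have hmem : (r : G) * t * (r : G)⁻¹ ∈ (A : Set G) \ {1, t} := by
        refine ⟨h1, ?_⟩
        rintro (h' | h')
        · exact ht1 (conj_eq_one_iff.1 h')
        · exact hne' h'
      rw [← hall] at hmem
      exact htn (hmem.2.trans (isConj_iff.2 ⟨(r : G), rfl⟩).symm)
    have hrC : (r : G) ∈ CI (centralizer ({t} : Set G)) S' :=
      ⟨mem_centralizer_singleton_iff.2 (mul_inv_eq_iff_eq_mul.1 hrt), hrc⟩
    have := orderOf_dvd_natCard (⟨(r : G), hrC⟩ : ↥(CI (centralizer ({t} : Set G)) S'))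
    rw [Subgroup.orderOf_mk, hr3, cent_five_card hVC hKC hN hVc hKV hsup iso hS'c hS't, hA8] at this
    norm_num at this
  -- move to the given subgroup
  have hgz : g⁻¹ * (g * z * g⁻¹) * g⁻¹⁻¹ = z := by group
  have hle : cj g⁻¹ S' ≤ HH z := by
    rintro _ ⟨x, hx, rfl⟩
    refine mem_centralizer_singleton_iff.2 ?_
    show g⁻¹ * x * g⁻¹⁻¹ * z = z * (g⁻¹ * x * g⁻¹⁻¹)
    calc g⁻¹ * x * g⁻¹⁻¹ * z = g⁻¹ * (x * (g * z * g⁻¹)) * g := by group
      _ = g⁻¹ * (g * z * g⁻¹ * x) * g := by rw [hgA.2 x hx]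
      _ = _ := by group
  obtain ⟨h, hh, eh⟩ := cj_five (card_HH_not hJ) (by rw [card_cj, hS'c]) hS hle hSH
  rw [cj_cj] at eh
  set k := h * g⁻¹ with hk
  have hkz : k * (g * z * g⁻¹) * k⁻¹ = z := by
    calc k * (g * z * g⁻¹) * k⁻¹ = h * z * h⁻¹ := by rw [hk]; group
      _ = z := mul_inv_eq_iff_eq_mul.2 (mem_centralizer_singleton_iff.1 hh)
  set B := cj k A with hB
  have hB8 : Nat.card ↥B = 8 := by rw [hB, card_cj, hA8]
  have hBle : B ≤ CI (HH z) S := by
    rw [show HH z = cj k (centralizer ({g * z * g⁻¹} : Set G)) by rw [cj_centralizer, hkz], ← eh, CI_cj]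
    refine map_mono fun x hx => ⟨mem_centralizer_singleton_iff.2 ?_, hx.2⟩
    exact congrArg Subtype.val (hV.1.is_comm.comm ⟨x, hx.1⟩ ⟨_, hgA.1⟩)
  obtain ⟨s, p0, w0, L⟩ := exists_loc hJ hS hSH
  set R0 := CI (EE z) S with hR0
  have hnorm : B ≤ normalizer (R0 : Set G) := Subgroup.le_normalizer_iff.2 fun b hb y hy => by
    have h1 : b ∈ centralizer (S : Set G) := (hBle hb).2
    exact Subgroup.mem_inf.2 ⟨E_normal D (hBle hb).1 hy.1, mul_mem (mul_mem h1 hy.2) (inv_mem h1)⟩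
  have hEH : EE z ≤ HH z := fun y hy => by obtain ⟨w, -, rfl⟩ := hy; exact w.2
  have hsup2 : Nat.card ↥(B ⊔ R0) ∣ 64 := by
    have h1 : IsPGroup 2 ↥(B ⊔ R0) := (IsPGroup.of_card (n := 3) (by rw [hB8]; rfl)).to_sup_of_normal_right'
      (IsPGroup.of_card (n := 5) (by rw [L.cardR]; rfl)) hnorm
    obtain ⟨m, hm⟩ := IsPGroup.iff_card.1 h1
    have h2 : Nat.card ↥(B ⊔ R0) ∣ 960 :=
      L.card ▸ card_dvd_of_le (sup_le hBle (inf_le_inf_right _ hEH))
    rw [hm] at h2 ⊢
    have : m ≤ 6 := by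
      by_contra hm'
      push Not at hm'
      exact absurd ((pow_dvd_pow 2 hm').trans h2) (by norm_num)
    exact (pow_dvd_pow 2 this).trans (by norm_num)
  have hinf : 4 ≤ Nat.card ↥(B ⊓ R0) := by
    have h := card_sup_mul_inf B R0 hnorm
    rw [hB8, L.cardR] at h
    have := Nat.le_of_dvd (by norm_num) hsup2
    nlinarith
  obtain ⟨w, hw, hw1, hwz⟩ : ∃ w ∈ B ⊓ R0, w ≠ 1 ∧ w ≠ z := by
    by_contra hcon
    push Not at hcon
    have hsub : ((B ⊓ R0 : Subgroup G) : Set G) ⊆ {1, z} := fun w hw =>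
      (em (w = 1)).elim Or.inl fun h' => Or.inr (hcon w hw h')
    have := (Set.ncard_le_ncard hsub (Set.toFinite _)).trans
      ((Set.ncard_insert_le _ _).trans (by rw [Set.ncard_singleton]))
    rw [← Nat.card_coe_set_eq, SetLike.coe_sort_coe] at this
    omega
  obtain ⟨⟨a, ha, ea⟩, hwR⟩ := hw
  change k * a * k⁻¹ = w at ea
  refine ⟨w, hwR, orderOf_eq_prime ?_ hw1, fun hc => hwz ?_⟩
  · rw [← ea, conj_pow, hV.2 a ha.1]; group
  · have hac : IsConj z a := hc.trans (isConj_iff.2 ⟨k⁻¹, by rw [← ea]; group⟩)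
    rw [← ea, hone a ha _ hgA hac (isConj_iff.2 ⟨g, rfl⟩), hkz]

end Bound

/-! ### The quotient of the centraliser -/

section Quot

variable {S : Subgroup G} (hS : Nat.card ↥S = 5)
include hS

theorem S_le : S ≤ centralizer (S : Set G) := by
  intro x hx y hy
  obtain ⟨s, -, hsS⟩ := five_gen hS
  rw [SetLike.mem_coe, ← hsS] at hy
  rw [← hsS] at hx
  obtain ⟨i, rfl⟩ := mem_zpowers_iff.1 hy
  obtain ⟨j, rfl⟩ := mem_zpowers_iff.1 hx
  exact ((Commute.refl s).zpow_zpow i j).eq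

theorem card_Sc : Nat.card (Sc S) = 5 := by
  rw [Nat.card_congr (subgroupOfEquivOfLe (S_le hS)).toEquiv, hS]

theorem sc_two {w : ↥(centralizer (S : Set G))} (hw : w ∈ Sc S)
    (h2 : ∃ k : ℕ, (w : G) ^ 2 ^ k = 1) : w = 1 :=
  Subtype.ext (two_five h2 (pow_five hS hw))

theorem inv_eq_of_mk {a b : ↥(centralizer (S : Set G))} (ha : orderOf a = 2) (hb : orderOf b = 2)
    (h : QuotientGroup.mk' (Sc S) a = QuotientGroup.mk' (Sc S) b) : a = b := by
  rw [QuotientGroup.mk'_apply, QuotientGroup.mk'_apply, QuotientGroup.eq] at h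
  set w := a⁻¹ * b with hw
  have hcw : Commute a w := Subtype.ext (show (a : G) * w = w * a from (a.2 _ h).symm)
  have hb2 : b ^ 2 = 1 := hb ▸ pow_orderOf_eq_one b
  have ha2 : a ^ 2 = 1 := ha ▸ pow_orderOf_eq_one a
  have hw2 : w ^ 2 ^ 1 = 1 := by
    have : (a * w) ^ 2 = 1 := by rw [hw, mul_inv_cancel_left, hb2]
    rwa [hcw.mul_pow, ha2, one_mul] at this
  exact inv_mul_eq_one.1 (sc_two hS h ⟨1, congrArg Subtype.val hw2⟩)

theorem order_mk {u : ↥(centralizer (S : Set G))} (hu : orderOf u = 2) :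
    orderOf (QuotientGroup.mk' (Sc S) u) = 2 := by
  have h2 : u ^ 2 = 1 := hu ▸ pow_orderOf_eq_one u
  refine orderOf_eq_prime (by rw [← map_pow, h2, map_one]) fun e => ?_
  rw [QuotientGroup.mk'_apply, QuotientGroup.eq_one_iff] at e
  have := sc_two hS e ⟨1, congrArg Subtype.val h2⟩
  rw [this, orderOf_one] at hu
  omega

theorem exists_lift {x : XX S} (hx : orderOf x = 2) :
    ∃ u : ↥(centralizer (S : Set G)), orderOf u = 2 ∧ QuotientGroup.mk' (Sc S) u = x := by
  obtain ⟨u, rfl⟩ := QuotientGroup.mk'_surjective _ x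
  have h2 : u ^ 2 ∈ Sc S := by
    rw [← QuotientGroup.eq_one_iff]
    show QuotientGroup.mk' (Sc S) (u ^ 2) = 1
    rw [map_pow, ← hx, pow_orderOf_eq_one]
  have he : QuotientGroup.mk' (Sc S) (u ^ 5) = QuotientGroup.mk' (Sc S) u := by
    rw [map_pow, show (5 : ℕ) = 2 * 2 + 1 by norm_num, pow_succ, pow_mul,
      show QuotientGroup.mk' (Sc S) u ^ 2 = 1 from hx ▸ pow_orderOf_eq_one _, one_pow, one_mul]
  refine ⟨u ^ 5, orderOf_eq_prime ?_ ?_, he⟩
  · rw [← pow_mul, mul_comm, pow_mul]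
    exact Subtype.ext (pow_five hS h2)
  · intro h1
    rw [h1, map_one] at he
    rw [← he, orderOf_one] at hx
    omega

theorem cent_mk {u : ↥(centralizer (S : Set G))} (hu : orderOf u = 2) (g : ↥(centralizer (S : Set G))) :
    QuotientGroup.mk' (Sc S) g ∈ centralizer ({QuotientGroup.mk' (Sc S) u} : Set (XX S)) ↔
      (g : G) ∈ centralizer ({(u : G)} : Set G) := by
  rw [mem_centralizer_singleton_iff, mem_centralizer_singleton_iff]
  constructor
  · intro h
    have h' : QuotientGroup.mk' (Sc S) (g * u * g⁻¹) = QuotientGroup.mk' (Sc S) u := by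
      rw [map_mul, map_mul, map_inv, h, mul_inv_cancel_right]
    have := inv_eq_of_mk hS (by rw [← MulAut.conj_apply, MulEquiv.orderOf_eq, hu]) hu h'
    exact congrArg Subtype.val (mul_inv_eq_iff_eq_mul.1 this)
  · intro h
    rw [← map_mul, ← map_mul]
    exact congrArg _ (Subtype.ext h)

theorem card_cent_mk {u : ↥(centralizer (S : Set G))} (hu : orderOf u = 2) :
    5 * Nat.card ↥(centralizer ({QuotientGroup.mk' (Sc S) u} : Set (XX S))) =
      Nat.card ↥(CI (centralizer ({(u : G)} : Set G)) S) := by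
  set A := centralizer ({QuotientGroup.mk' (Sc S) u} : Set (XX S)) with hA
  have h3 : Nat.card ↥(A.comap (QuotientGroup.mk' (Sc S))) =
      Nat.card ↥(CI (centralizer ({(u : G)} : Set G)) S) :=
    Nat.card_congr
      { toFun := fun g => ⟨(g.1 : G), (cent_mk hS hu g.1).1 g.2, g.1.2⟩
        invFun := fun g => ⟨⟨g.1, g.2.2⟩, (cent_mk hS hu ⟨g.1, g.2.2⟩).2 g.2.1⟩
        left_inv := fun g => rfl
        right_inv := fun g => rfl }
  rw [← h3]
  have k1 := card_mul_index (A.comap (QuotientGroup.mk' (Sc S)))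
  have k2 := card_mul_index A
  rw [index_comap_of_surjective _ (QuotientGroup.mk'_surjective _),
    card_eq_card_quotient_mul_card_subgroup (Sc S), card_Sc hS, ← k2] at k1
  have hi : 0 < A.index := Nat.pos_of_ne_zero index_ne_zero_of_finite
  refine Nat.eq_of_mul_eq_mul_right hi ?_
  rw [k1]; ring

end Quot

theorem pow_two_pow {s w : G} (h : w * s * w⁻¹ = s ^ 2) (i : ℕ) :
    w ^ i * s * (w ^ i)⁻¹ = s ^ 2 ^ i := by
  induction i with
  | zero => simp
  | succ i ih =>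
    calc w ^ (i + 1) * s * (w ^ (i + 1))⁻¹ = w * (w ^ i * s * (w ^ i)⁻¹) * w⁻¹ := by
          rw [pow_succ']; group
      _ = s ^ 2 ^ (i + 1) := by rw [ih, ← conj_pow, h, ← pow_mul, pow_succ']

/-- The main statement. -/
theorem five (hJ : Cfsg.IsOfJankoFourTypeWith z P) (F : Facts z) {S : Subgroup G}
    (hS : Nat.card ↥S = 5) (hSH : S ≤ HH z) :
    ¬ (25 ∣ Nat.card G) ∧
    (∃ J : Subgroup G, Cfsg.IsInternalDirectProduct S J (centralizer (S : Set G)) ∧
      ∃ (E : Subgroup ↥J) (_ : E.Normal), Cfsg.IsElementaryAbelian 2 E ∧ Nat.card ↥E = 8 ∧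
        Nonempty (↥J ⧸ E ≃* Matrix.SpecialLinearGroup (Fin 3) (ZMod 2)) ∧
        ∀ K : Subgroup ↥J, ¬ E.IsComplement' K) ∧
    (∃ R : Subgroup G, S ≤ R ∧ R ≤ normalizer (S : Set G) ∧ Nat.card ↥R = 20 ∧
      R ⊓ centralizer (S : Set G) = S) ∧
    Nat.card ↥(normalizer (S : Set G)) = 2 ^ 8 * 3 * 5 * 7 := by
  classical
  obtain ⟨N, p, D⟩ := exists_pack hJ
  haveI : Fact (Nat.Prime 5) := ⟨by norm_num⟩
  obtain ⟨s, p0, w0, L⟩ := exists_loc hJ hS hSH
  set C := centralizer (S : Set G) with hC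
  set π := QuotientGroup.mk' (Sc S) with hπ
  have hzC : z ∈ C := fun x hx => mem_centralizer_singleton_iff.1 (hSH hx)
  set zc : ↥C := ⟨z, hzC⟩ with hzc
  have hzo : orderOf zc = 2 := by rw [Subgroup.orderOf_mk, D.hz]
  -- fusion of the central involution in the centraliser
  have hfus : ∀ u : ↥C, orderOf u = 2 → IsConj z (u : G) → ∃ c : ↥C, c * zc * c⁻¹ = u := by
    intro u hu hc
    obtain ⟨g, hg⟩ := isConj_iff.1 hc.symm
    have hle : cj g S ≤ HH z := by
      rintro _ ⟨x, hx, rfl⟩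
      refine mem_centralizer_singleton_iff.2 ?_
      rw [← hg]
      show g * x * g⁻¹ * (g * u * g⁻¹) = g * u * g⁻¹ * (g * x * g⁻¹)
      calc g * x * g⁻¹ * (g * u * g⁻¹) = g * (x * u) * g⁻¹ := by group
        _ = g * (u * x) * g⁻¹ := by rw [u.2 x hx]
        _ = _ := by group
    obtain ⟨h, hh, eh⟩ := cj_five (card_HH_not hJ) (by rw [card_cj, hS]) hS hle hSH
    rw [cj_cj] at eh
    set n := h * g with hn
    have hnz : n * u * n⁻¹ = z := by
      calc n * u * n⁻¹ = h * (g * u * g⁻¹) * h⁻¹ := by rw [hn]; group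
        _ = z := by rw [hg]; exact mul_inv_eq_iff_eq_mul.2 (mem_centralizer_singleton_iff.1 hh)
    have hns : n * s * n⁻¹ ∈ zpowers s := by
      rw [L.gen]
      exact eh.le ⟨s, L.gen ▸ mem_zpowers s, rfl⟩
    obtain ⟨k, hk⟩ := mem_powers_iff_mem_zpowers.2 hns
    simp only at hk
    rw [← pow_mod_orderOf, L.ord] at hk
    obtain ⟨w, hw, hws⟩ := L.frob
    obtain ⟨i, hi⟩ : ∃ i : ℕ, w ^ i * s * (w ^ i)⁻¹ = n * s * n⁻¹ := by
      have h5 : k % 5 < 5 := Nat.mod_lt _ (by norm_num)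
      have hs5 : s ^ 5 = 1 := L.ord ▸ pow_orderOf_eq_one s
      interval_cases hkk : k % 5
      · exfalso
        rw [pow_zero] at hk
        have := L.ord
        rw [conj_eq_one_iff.1 hk.symm, orderOf_one] at this
        omega
      · exact ⟨0, by rw [pow_two_pow hws, ← hk]; rfl⟩
      · exact ⟨1, by rw [pow_two_pow hws, ← hk]; rfl⟩
      · refine ⟨3, ?_⟩
        rw [pow_two_pow hws, ← hk, show 2 ^ 3 = 5 + 3 by norm_num, pow_add, hs5, one_mul]
      · exact ⟨2, by rw [pow_two_pow hws, ← hk]; rfl⟩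
    have hcC : (w ^ i)⁻¹ * n ∈ C := by
      rw [hC]
      refine (mem_cent_gen L.gen).2 ?_
      calc (w ^ i)⁻¹ * n * s = (w ^ i)⁻¹ * (n * s * n⁻¹) * n := by group
        _ = s * ((w ^ i)⁻¹ * n) := by rw [← hi]; group
    refine ⟨(⟨_, hcC⟩ : ↥C)⁻¹, Subtype.ext ?_⟩
    show ((w ^ i)⁻¹ * n)⁻¹ * z * ((w ^ i)⁻¹ * n)⁻¹⁻¹ = u
    calc ((w ^ i)⁻¹ * n)⁻¹ * z * ((w ^ i)⁻¹ * n)⁻¹⁻¹ = n⁻¹ * (w ^ i * z * (w ^ i)⁻¹) * n := by group
      _ = n⁻¹ * z * n := by
        rw [mem_centralizer_singleton_iff.1 (pow_mem hw i), mul_inv_cancel_right]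
      _ = u := by rw [← hnz]; group
  -- the configuration in the quotient
  obtain ⟨t, htR, hto, htn⟩ := exists_t hJ F hS hSH
  set R0 := CI (EE z) S with hR0
  have hR0C : R0 ≤ C := inf_le_right
  set R := (R0.subgroupOf C).map π with hR
  have hpw : ∀ w ∈ R0, ∃ k : ℕ, w ^ 2 ^ k = 1 := fun w hw => ⟨5, by
    have h := pow_card_eq_one' (x := (⟨w, hw⟩ : ↥R0))
    rw [L.cardR] at h
    exact congrArg Subtype.val h⟩
  have hinj : ∀ a : ↥C, (a : G) ∈ R0 → π a = 1 → a = 1 := fun a ha h => by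
    rw [hπ, QuotientGroup.mk'_apply, QuotientGroup.eq_one_iff] at h
    exact sc_two hS h (hpw _ ha)
  have hzR0 : z ∈ R0 := Subgroup.mem_inf.2 ⟨z_mem D, hzC⟩
  have hR0n : ∀ a ∈ CI (HH z) S, ∀ e ∈ R0, a * e * a⁻¹ ∈ R0 := by
    intro a ha e he
    have h1 : a ∈ centralizer (S : Set G) := ha.2
    exact Subgroup.mem_inf.2 ⟨E_normal D ha.1 he.1, mul_mem (mul_mem h1 he.2) (inv_mem h1)⟩
  set pc : ↥C := ⟨p0, L.p_mem.2⟩ with hpc
  set wc : ↥C := ⟨w0, L.w_mem.2⟩ with hwc
  set tc : ↥C := ⟨t, hR0C htR⟩ with htc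
  have hto' : orderOf tc = 2 := by rw [Subgroup.orderOf_mk, hto]
  have hcent : ∀ a : ↥C, π a ∈ centralizer ({π zc} : Set (XX S)) ↔ (a : G) ∈ HH z :=
    fun a => cent_mk hS hzo a
  have memR : ∀ a : ↥C, (a : G) ∈ R0 → π a ∈ R := fun a ha => ⟨a, ha, rfl⟩
  have cfg : JFiveSet4.Cfg (π zc) R (π pc) (π wc) (π tc) := by
    refine
      { hz := order_mk hS hzo
        cardC := ?_
        R_le := ?_
        cardR := ?_
        R_norm := ?_
        z_mem := memR zc hzR0
        sq := ?_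
        cen := ?_
        p_mem := (hcent pc).2 L.p_mem.1
        p_ord := ?_
        p_fix := ?_
        s_mem := (hcent wc).2 L.w_mem.1
        s_inv := ?_
        big := ?_
        t_mem := memR tc htR
        t_ord := order_mk hS hto'
        t_not := ?_ }
    · have h := card_cent_mk hS hzo
      rw [show CI (centralizer ({(zc : G)} : Set G)) S = CI (HH z) S from rfl, L.card] at h
      exact Nat.eq_of_mul_eq_mul_left (show 0 < 5 by norm_num) (h.trans (by norm_num))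
    · rintro _ ⟨a, ha, rfl⟩
      refine (hcent a).2 ?_
      have hEH : EE z ≤ HH z := fun y hy => by obtain ⟨w, -, rfl⟩ := hy; exact w.2
      exact hEH ha.1
    · rw [hR, ← L.cardR, ← Nat.card_congr (subgroupOfEquivOfLe hR0C).toEquiv]
      refine (Nat.card_congr (Equiv.ofBijective
        (fun a : ↥(R0.subgroupOf C) => (⟨π a, a, a.2, rfl⟩ : ↥((R0.subgroupOf C).map π))) ⟨?_, ?_⟩)).symm
      · intro a b e
        have e' : π (a : ↥C) = π b := congrArg Subtype.val e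
        refine Subtype.ext (inv_mul_eq_one.1 (hinj _ ?_ (by rw [map_mul, map_inv, e', inv_mul_cancel])))
        exact mul_mem (inv_mem (a.2 : ((a : ↥C) : G) ∈ R0)) (b.2 : ((b : ↥C) : G) ∈ R0)
      · rintro ⟨_, a, ha, rfl⟩; exact ⟨⟨a, ha⟩, rfl⟩
    · intro x hx
      obtain ⟨a, rfl⟩ := QuotientGroup.mk'_surjective _ x
      have haH : (a : G) ∈ CI (HH z) S := ⟨(hcent a).1 hx, a.2⟩
      refine mem_normalizer_fintype ?_
      rintro _ ⟨b, hb, rfl⟩
      refine ⟨a * b * a⁻¹, hR0n _ haH _ hb, ?_⟩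
      rw [map_mul, map_mul, map_inv]
    · rintro _ ⟨a, ha, rfl⟩
      rcases L.sq _ ha with h | h
      · left; rw [← map_mul, show a * a = 1 from Subtype.ext h, map_one]
      · right; rw [← map_mul, show a * a = zc from Subtype.ext h]
    · rintro _ ⟨a, ha, rfl⟩ hcomm
      have hcen : ∀ e' ∈ R0, (a : G) * e' = e' * a := by
        intro e' he'
        set b : ↥C := ⟨e', hR0C he'⟩
        have h : π (a * b * (b * a)⁻¹) = 1 := by
          rw [map_mul, map_inv, map_mul, map_mul, hcomm _ (memR b he'), mul_inv_cancel]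
        have h1 := hinj _ (mul_mem (mul_mem ha he') (inv_mem (mul_mem he' ha))) h
        exact congrArg Subtype.val (mul_inv_eq_one.1 h1)
      rcases L.cen _ ha hcen with h | h
      · left; rw [show a = 1 from Subtype.ext h, map_one]
      · right; rw [show a = zc from Subtype.ext h]
    · haveI : Fact (Nat.Prime 3) := ⟨Nat.prime_three⟩
      have h3 : pc ^ 3 = 1 := Subtype.ext (show p0 ^ 3 = 1 from L.p_ord ▸ pow_orderOf_eq_one p0)
      refine orderOf_eq_prime (by rw [← map_pow, h3, map_one]) fun e => ?_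
      rw [hπ, QuotientGroup.mk'_apply, QuotientGroup.eq_one_iff] at e
      have h5 : p0 ^ 5 = 1 := pow_five hS e
      have hd := Nat.dvd_gcd (orderOf_dvd_of_pow_eq_one h5) (dvd_refl (orderOf p0))
      rw [L.p_ord] at hd
      norm_num at hd
    · rintro _ ⟨a, ha, rfl⟩ hcomm
      have h : π (pc * a * pc⁻¹ * a⁻¹) = 1 := by
        rw [map_mul, map_mul, map_mul, map_inv, map_inv, hcomm, mul_inv_cancel_right, mul_inv_cancel]
      have h1 := hinj _ (mul_mem (hR0n _ L.p_mem _ ha) (inv_mem ha)) h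
      have h2 : p0 * (a : G) = a * p0 :=
        mul_inv_eq_iff_eq_mul.1 (mul_inv_eq_one.1 (congrArg Subtype.val h1))
      rcases L.fix _ ha h2 with h | h
      · left; rw [show a = 1 from Subtype.ext h, map_one]
      · right; rw [show a = zc from Subtype.ext h]
    · rw [← map_inv, ← map_mul, ← map_mul, ← map_mul,
        show wc * pc * wc⁻¹ * pc = 1 from Subtype.ext L.inv, map_one]
      exact one_mem _
    · intro x hx hnx
      obtain ⟨u, hu, rfl⟩ := exists_lift hS hx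
      have hnu : ¬ IsConj z (u : G) := fun h => hnx (by
        obtain ⟨c, rfl⟩ := hfus u hu h
        exact isConj_iff.2 ⟨π c, by rw [map_mul, map_mul, map_inv]⟩)
      obtain ⟨V, K, hVC, hKC, hN, hV, hVc, hKV, hsup, ⟨iso⟩⟩ :=
        F.shape u (by rw [Subgroup.orderOf_coe, hu]) hnu
      have hSu : S ≤ centralizer ({(u : G)} : Set G) := fun x hx =>
        mem_centralizer_singleton_iff.2 (u.2 x hx)
      have h8 := (fixed_eight hJ F hV hVc hS (hSu.trans hN)).1
      have h := card_cent_mk hS hu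
      rw [cent_five_card hVC hKC hN hVc hKV hsup iso hS hSu, h8] at h
      exact Nat.eq_of_mul_eq_mul_left (show 0 < 5 by norm_num) (h.trans (by norm_num))
    · intro h
      obtain ⟨c', hc'⟩ := isConj_iff.1 h
      obtain ⟨c, rfl⟩ := QuotientGroup.mk'_surjective _ c'
      rw [hπ, ← map_inv, ← map_mul, ← map_mul] at hc'
      have e := inv_eq_of_mk hS (by rw [← MulAut.conj_apply, MulEquiv.orderOf_eq, hzo]) hto' hc'
      exact htn (isConj_iff.2 ⟨c, congrArg Subtype.val e⟩)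
  obtain ⟨A, hAn, hA2, hAc, hA8, hX, ⟨eSL⟩, hno⟩ := JFiveCore4.structure_theorem cfg
  haveI := hAn
  have hCc : Nat.card ↥C = 6720 := by
    rw [card_eq_card_quotient_mul_card_subgroup (Sc S), hX, card_Sc hS]
  have h25 : ¬ 25 ∣ Nat.card G := by
    intro h
    obtain ⟨T, hT, hST⟩ := Sylow.exists_subgroup_card_pow_succ (p := 5) (n := 1) (H := S)
      (by norm_num; exact h) (by rw [hS, pow_one])
    have hTC : T ≤ C := fun x hx y hy => by
      exact congrArg Subtype.val (IsPGroup.commutative_of_card_eq_prime_sq (p := 5) (G := T)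
        (by rw [hT]) ⟨y, hST hy⟩ ⟨x, hx⟩)
    have := card_dvd_of_le hTC
    rw [hT, hCc] at this
    norm_num at this
  -- the normaliser
  set Ns := normalizer (S : Set G) with hNs
  have hCN : C ≤ Ns := centralizer_le_normalizer _
  obtain ⟨w, hw, hws⟩ := L.frob
  have hwN : w ∈ Ns := by
    refine mem_normalizer_fintype fun x hx => ?_
    rw [SetLike.mem_coe, ← L.gen] at hx ⊢
    obtain ⟨i, rfl⟩ := mem_zpowers_iff.1 hx
    rw [← conj_zpow, hws]
    exact zpow_mem (pow_mem (mem_zpowers s) 2) i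
  have hs5 : s ^ 5 = 1 := L.ord ▸ pow_orderOf_eq_one s
  have hexp : ∀ i j : Fin 4, s ^ 2 ^ (i : ℕ) = s ^ 2 ^ (j : ℕ) → i = j := by
    intro i j e
    have h := pow_eq_pow_iff_modEq.1 e
    rw [L.ord] at h
    exact (by decide : ∀ i j : Fin 4, 2 ^ (i : ℕ) % 5 = 2 ^ (j : ℕ) % 5 → i = j) i j h
  have hconjC : ∀ c ∈ C, c * s * c⁻¹ = s := fun c hc =>
    mul_inv_eq_iff_eq_mul.2 ((mem_cent_gen L.gen).1 hc)
  have hNcard : Nat.card ↥Ns = 4 * 6720 := by
    rw [← hCc]
    conv_rhs => arg 1; rw [← Nat.card_fin 4]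
    rw [← Nat.card_prod]
    refine (Nat.card_congr (Equiv.ofBijective (fun y : Fin 4 × ↥C =>
      (⟨w ^ (y.1 : ℕ) * y.2, mul_mem (pow_mem hwN _) (hCN y.2.2)⟩ : ↥Ns)) ⟨?_, ?_⟩)).symm
    · intro a b e
      have e' : w ^ (a.1 : ℕ) * a.2 = w ^ (b.1 : ℕ) * b.2 := congrArg Subtype.val e
      have h : ∀ y : Fin 4 × ↥C, (w ^ (y.1 : ℕ) * (y.2 : G)) * s * (w ^ (y.1 : ℕ) * (y.2 : G))⁻¹
          = s ^ 2 ^ (y.1 : ℕ) := fun y => by
        rw [← pow_two_pow hws,
          show w ^ (y.1 : ℕ) * (y.2 : G) * s * (w ^ (y.1 : ℕ) * (y.2 : G))⁻¹ =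
            w ^ (y.1 : ℕ) * ((y.2 : G) * s * (y.2 : G)⁻¹) * (w ^ (y.1 : ℕ))⁻¹ by group, hconjC _ y.2.2]
      have hi : a.1 = b.1 := hexp _ _ (by rw [← h a, ← h b, e'])
      refine Prod.ext hi (Subtype.ext ?_)
      rw [hi] at e'
      exact mul_left_cancel e'
    · rintro ⟨n, hn⟩
      have hns : n * s * n⁻¹ ∈ zpowers s := by
        rw [L.gen]; exact (mem_normalizer_iff.1 hn s).1 (L.gen ▸ mem_zpowers s)
      obtain ⟨k, hk⟩ := mem_powers_iff_mem_zpowers.2 hns
      simp only at hk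
      rw [← pow_mod_orderOf, L.ord] at hk
      obtain ⟨i, hi⟩ : ∃ i : Fin 4, s ^ 2 ^ (i : ℕ) = n * s * n⁻¹ := by
        have h5 : k % 5 < 5 := Nat.mod_lt _ (by norm_num)
        interval_cases hkk : k % 5
        · exfalso
          rw [pow_zero] at hk
          have := L.ord
          rw [conj_eq_one_iff.1 hk.symm, orderOf_one] at this
          omega
        · exact ⟨0, by rw [← hk]; rfl⟩
        · exact ⟨1, by rw [← hk]; rfl⟩
        · refine ⟨3, ?_⟩
          rw [← hk, show 2 ^ ((3 : Fin 4) : ℕ) = 5 + 3 by rfl, pow_add, hs5, one_mul]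
        · exact ⟨2, by rw [← hk]; rfl⟩
      have hc : (w ^ (i : ℕ))⁻¹ * n ∈ C := by
        rw [hC]
        refine (mem_cent_gen L.gen).2 ?_
        calc (w ^ (i : ℕ))⁻¹ * n * s = (w ^ (i : ℕ))⁻¹ * (n * s * n⁻¹) * n := by group
          _ = s * ((w ^ (i : ℕ))⁻¹ * n) := by rw [← hi, ← pow_two_pow hws]; group
      exact ⟨(i, ⟨_, hc⟩), Subtype.ext (mul_inv_cancel_left _ _)⟩
  refine ⟨h25, ?_, ?_, by rw [hNcard]; norm_num⟩
  · obtain ⟨I', hI'⟩ := exists_right_complement'_of_coprime (N := Sc S) (by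
      rw [card_Sc hS, index_eq_card, hX]; norm_num)
    refine ⟨I'.map C.subtype, ⟨S_le hS, map_subtype_le _, ?_, ?_, ?_⟩, ?_⟩
    · intro x hx y hy
      obtain ⟨y, -, rfl⟩ := hy
      exact y.2 x hx
    · rw [eq_bot_iff]
      rintro x ⟨hx, y, hy, rfl⟩
      have : y ∈ Sc S ⊓ I' := ⟨hx, hy⟩
      rw [hI'.disjoint.eq_bot, mem_bot] at this
      rw [this]; exact one_mem _
    · refine le_antisymm (sup_le (S_le hS) (map_subtype_le _)) fun x hx => ?_
      obtain ⟨⟨a', b'⟩, hab'⟩ := hI'.2 ⟨x, hx⟩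
      have e : ((a' : ↥C) : G) * (b' : ↥C) = x := congrArg Subtype.val hab'
      rw [← e]
      exact mul_mem (mem_sup_left a'.2) (mem_sup_right ⟨b', b'.2, rfl⟩)
    · let eJ : ↥(I'.map C.subtype) ≃* XX S :=
        (I'.equivMapOfInjective _ (subtype_injective _)).symm.trans
          (MulEquiv.ofBijective (π.comp I'.subtype) (by
            constructor
            · rw [← MonoidHom.ker_eq_bot_iff, eq_bot_iff]
              intro y hy
              rw [MonoidHom.mem_ker, MonoidHom.comp_apply, hπ, QuotientGroup.mk'_apply,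
                QuotientGroup.eq_one_iff] at hy
              have : (y : ↥C) ∈ Sc S ⊓ I' := ⟨hy, y.2⟩
              rw [hI'.disjoint.eq_bot, mem_bot] at this
              rw [mem_bot]; exact Subtype.ext this
            · intro q
              obtain ⟨x, rfl⟩ := QuotientGroup.mk'_surjective _ q
              obtain ⟨⟨a', b'⟩, hab'⟩ := hI'.2 x
              refine ⟨b', ?_⟩
              simp only at hab'
              rw [← hab', MonoidHom.comp_apply, map_mul]
              show _ = QuotientGroup.mk' (Sc S) (a' : ↥C) * _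
              rw [show QuotientGroup.mk' (Sc S) (a' : ↥C) = 1 from (QuotientGroup.eq_one_iff _).2 a'.2,
                one_mul]
              rfl))
      set E := A.comap eJ.toMonoidHom with hE
      have hEA : E.map eJ.toMonoidHom = A := map_comap_eq_self_of_surjective eJ.surjective _
      refine ⟨E, hAn.comap _, ⟨⟨⟨fun a b => Subtype.ext (eJ.injective (by
          rw [Subgroup.coe_mul, Subgroup.coe_mul, map_mul, map_mul]
          exact hAc _ a.2 _ b.2))⟩⟩, fun a ha => eJ.injective (by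
          rw [map_pow, map_one, pow_two]; exact hA2 _ ha)⟩, ?_,
        ⟨(QuotientGroup.congr E A eJ hEA).trans eSL⟩, fun K hK => ?_⟩
      · rw [← hA8, ← hEA, card_map_of_injective (f := eJ.toMonoidHom) eJ.injective]
      · refine hno (K.map eJ.toMonoidHom) (isComplement'_of_disjoint_and_mul_eq_univ ?_ ?_)
        · rw [disjoint_iff, ← hEA, ← map_inf _ _ _ eJ.injective, hK.disjoint.eq_bot, Subgroup.map_bot]
        · rw [Set.eq_univ_iff_forall]
          intro x
          obtain ⟨⟨⟨a, ha⟩, ⟨k, hk⟩⟩, hak⟩ := hK.2 (eJ.symm x)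
          simp only at hak
          refine ⟨eJ a, ha, eJ k, ⟨k, hk, rfl⟩, ?_⟩
          show eJ a * eJ k = x
          rw [← map_mul, hak, MulEquiv.apply_symm_apply]
  · obtain ⟨V₀, hV₀, hV₀c⟩ := F.exists_V
    obtain ⟨z₀, t₀, -, ht₀V, ht₀1, -, ht₀n, -, -, -⟩ := F.orbit V₀ hV₀ hV₀c
    obtain ⟨V, K, hVC, hKC, hN, hV, hVc, hKV, hsup, ⟨iso⟩⟩ :=
      F.shape t₀ (orderOf_eq_prime (hV₀.2 t₀ ht₀V) ht₀1) ht₀n
    obtain ⟨q, u, hq, hu4, huq⟩ := JFiveM22x4.exists_frobenius
    set q' : G := ((iso.symm q : ↥K) : G) with hq'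
    set u' : G := ((iso.symm u : ↥K) : G) with hu'
    have hq'5 : orderOf q' = 5 := by
      rw [hq', Subgroup.orderOf_coe, MulEquiv.orderOf_eq, hq]
    obtain ⟨g, -, i, e⟩ := conj_five (T := (⊤ : Subgroup G)) (by rw [Subgroup.card_top]; exact h25)
      hq'5 L.ord (mem_top _) (mem_top _)
    set a := g * q' * g⁻¹ with ha
    set b := g * u' * g⁻¹ with hb
    have haS : zpowers a = S := by
      refine eq_of_le_of_card_ge ?_ (by rw [hS, Nat.card_zpowers, order_conj, hq'5])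
      rw [zpowers_le, e, ← L.gen]
      exact pow_mem (mem_zpowers s) i
    have hab : b * a * b⁻¹ = a ^ 2 := by
      have h1 := congrArg (fun f => ((iso.symm f : ↥K) : G)) huq
      simp only [map_mul, map_inv, map_pow, Subgroup.coe_mul, Subgroup.coe_inv, SubmonoidClass.coe_pow] at h1
      rw [← hq', ← hu'] at h1
      rw [ha, hb, conj_pow, ← h1]; group
    have hb4 : b ^ 4 = 1 := by
      have h1 := congrArg (fun f => ((iso.symm f : ↥K) : G)) hu4
      simp only [map_pow, map_one, SubmonoidClass.coe_pow, OneMemClass.coe_one] at h1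
      rw [← hu'] at h1
      rw [hb, conj_pow, h1]; group
    have hao : orderOf a = 5 := by rw [ha, order_conj, hq'5]
    have hbo : orderOf b = 4 := by
      haveI : Fact (Nat.Prime 2) := ⟨Nat.prime_two⟩
      refine orderOf_eq_prime_pow (p := 2) (n := 1) ?_ hb4
      intro h
      have h2 := pow_two_pow hab 2
      rw [show (2 : ℕ) ^ 1 = 2 from rfl] at h
      rw [h, one_mul, inv_one, mul_one] at h2
      have := pow_eq_pow_iff_modEq.1 ((pow_one a).trans h2)
      rw [hao] at this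
      exact absurd this (by decide)
    have hbN : b ∈ Ns := by
      refine mem_normalizer_fintype fun x hx => ?_
      rw [SetLike.mem_coe, ← haS] at hx ⊢
      obtain ⟨j, rfl⟩ := mem_zpowers_iff.1 hx
      rw [← conj_zpow, hab]
      exact zpow_mem (pow_mem (mem_zpowers a) 2) j
    refine ⟨zpowers b ⊔ S, le_sup_right, sup_le (zpowers_le.2 hbN) le_normalizer, ?_, ?_⟩
    · have h := card_sup_mul_inf (zpowers b) S (zpowers_le.2 hbN)
      have hi : Nat.card ↥(zpowers b ⊓ S) = 1 := by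
        refine Nat.dvd_one.1 ?_
        have h1 := Nat.dvd_gcd (card_dvd_of_le (inf_le_left : zpowers b ⊓ S ≤ zpowers b))
          (card_dvd_of_le (inf_le_right : zpowers b ⊓ S ≤ S))
        rwa [Nat.card_zpowers, hbo, hS] at h1
      rw [hi, mul_one, Nat.card_zpowers, hbo, hS] at h
      exact h
    · refine le_antisymm ?_ (le_inf le_sup_right (S_le hS))
      rintro x ⟨hx, hxc⟩
      have hx' : x ∈ ((zpowers b ⊔ S : Subgroup G) : Set G) := hx
      rw [Subgroup.coe_mul_of_left_le_normalizer_right _ S (zpowers_le.2 hbN)] at hx'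
      clear hx
      revert hxc
      intro hxc
      rename' hx' => hx
      obtain ⟨y, hy, v, hv, rfl⟩ := hx
      obtain ⟨j, rfl⟩ := mem_powers_iff_mem_zpowers.2 hy
      simp only at hxc ⊢
      have hyc : b ^ j ∈ centralizer (S : Set G) := by
        have hxc' : b ^ j * v ∈ centralizer (S : Set G) := hxc
        have := mul_mem hxc' (inv_mem (S_le hS hv))
        rwa [mul_inv_cancel_right] at this
      have hja : b ^ j * a * (b ^ j)⁻¹ = a :=
        mul_inv_eq_iff_eq_mul.2 ((mem_cent_gen haS).1 hyc)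
      rw [← pow_mod_orderOf, hbo] at hja ⊢
      rw [pow_two_pow hab] at hja
      have h := pow_eq_pow_iff_modEq.1 (hja.trans (pow_one a).symm)
      rw [hao] at h
      have hj : j % 4 < 4 := Nat.mod_lt _ (by norm_num)
      unfold Nat.ModEq at h
      interval_cases hjj : j % 4
      · simpa using hv
      all_goals norm_num at h

end Cfsg.Agent.JFiveMain4
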