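import Mathlib

/-!
The centraliser of an involution of order 192 with an extraspecial core of order 32 and a fixed point free
element of order three: the elementary abelian subgroups of the core.
-/

set_option autoImplicit false
set_option linter.unusedSectionVars false

namespace Cfsg.Agent.JFiveSet4

open Subgroup

variable {X : Type*} [Group X] [Finite X]

/-- The setting. -/
structure Cfg (z : X) (R : Subgroup X) (p s t : X) : Prop where
  hz : orderOf z = 2
  cardC : Nat.card (centralizer ({z} : Set X)) = 192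
  R_le : R ≤ centralizer ({z} : Set X)
  cardR : Nat.card R = 32
  R_norm : centralizer ({z} : Set X) ≤ normalizer (R : Set X)
  z_mem : z ∈ R
  sq : ∀ r ∈ R, r * r = 1 ∨ r * r = z
  cen : ∀ r ∈ R, (∀ r' ∈ R, r * r' = r' * r) → r = 1 ∨ r = z
  p_mem : p ∈ centralizer ({z} : Set X)
  p_ord : orderOf p = 3
  p_fix : ∀ r ∈ R, p * r = r * p → r = 1 ∨ r = z
  s_mem : s ∈ centralizer ({z} : Set X)
  s_inv : s * p * s⁻¹ * p ∈ R
  big : ∀ x, orderOf x = 2 → ¬ IsConj z x → Nat.card (centralizer ({x} : Set X)) = 16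
  t_mem : t ∈ R
  t_ord : orderOf t = 2
  t_not : ¬ IsConj z t

variable {z p s t : X} {R : Subgroup X} (D : Cfg z R p s t)

/-- the orbit of `r` under a subgroup -/
def orb (H : Subgroup X) (r : X) : Set X := {y | ∃ c ∈ H, c * r * c⁻¹ = y}

theorem orb_mul (H : Subgroup X) (r : X) :
    (orb H r).ncard * Nat.card ↥(H ⊓ centralizer ({r} : Set X) : Subgroup X) = Nat.card H := by
  let f : ↥H → X := fun c => (c : X) * r * (c : X)⁻¹
  have hf : ∀ a b : H, f a = f b ↔
      a⁻¹ * b ∈ (H ⊓ centralizer ({r} : Set X) : Subgroup X).subgroupOf H := by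
    intro a b
    rw [Subgroup.mem_subgroupOf, Subgroup.mem_inf, mem_centralizer_singleton_iff]
    constructor
    · intro h
      refine ⟨(a⁻¹ * b).2, ?_⟩
      simp only [f] at h
      simp only [Subgroup.coe_mul, InvMemClass.coe_inv]
      calc (a : X)⁻¹ * b * r = (a : X)⁻¹ * ((b : X) * r * (b : X)⁻¹) * b := by group
        _ = (a : X)⁻¹ * ((a : X) * r * (a : X)⁻¹) * b := by rw [h]
        _ = r * ((a : X)⁻¹ * b) := by group
    · rintro ⟨-, h⟩
      simp only [Subgroup.coe_mul, InvMemClass.coe_inv] at h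
      simp only [f]
      calc (a : X) * r * (a : X)⁻¹ = (a : X) * (r * ((a : X)⁻¹ * b)) * (b : X)⁻¹ := by group
        _ = (a : X) * ((a : X)⁻¹ * b * r) * (b : X)⁻¹ := by rw [h]
        _ = (b : X) * r * (b : X)⁻¹ := by group
  let g : ↥H ⧸ (H ⊓ centralizer ({r} : Set X) : Subgroup X).subgroupOf H → X :=
    Quotient.lift f fun a b h => (hf a b).2 (QuotientGroup.leftRel_apply.1 h)
  have hg : Function.Injective g := by
    intro u v
    induction u using QuotientGroup.induction_on
    induction v using QuotientGroup.induction_on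
    exact fun h => QuotientGroup.eq.2 ((hf _ _).1 h)
  have hr : Set.range g = orb H r := by
    ext y
    constructor
    · rintro ⟨u, rfl⟩
      induction u using QuotientGroup.induction_on with
      | H a => exact ⟨a, a.2, rfl⟩
    · rintro ⟨c, hc, rfl⟩
      exact ⟨((⟨c, hc⟩ : H) : ↥H ⧸ _), rfl⟩
  rw [← hr, Set.ncard_range_of_injective hg,
    ← Nat.card_congr (subgroupOfEquivOfLe (inf_le_left : H ⊓ centralizer ({r} : Set X) ≤ H)).toEquiv]
  exact (Subgroup.card_eq_card_quotient_mul_card_subgroup _).symm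

theorem exists_common {u v : X} (hu : orderOf u = 2) (hv : orderOf v = 2) (h : ¬ IsConj u v) :
    ∃ x, orderOf x = 2 ∧ u * x = x * u ∧ v * x = x * v := by
  have uu : u * u = 1 := by rw [← sq, ← hu]; exact pow_orderOf_eq_one u
  have vv : v * v = 1 := by rw [← sq, ← hv]; exact pow_orderOf_eq_one v
  have ui : u⁻¹ = u := inv_eq_of_mul_eq_one_left uu
  have vi : v⁻¹ = v := inv_eq_of_mul_eq_one_left vv
  set w := u * v with hw
  have wu : u * w * u = w⁻¹ := by
    rw [hw, mul_inv_rev, ui, vi, ← mul_assoc u u v, uu, one_mul]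
  have wv : v * w * v = w⁻¹ := by
    rw [hw, mul_inv_rev, ui, vi, mul_assoc v (u * v) v, mul_assoc u v v, vv, mul_one]
  have hcu : ∀ k : ℕ, u * w ^ k * u = (w ^ k)⁻¹ := by
    intro k
    rw [show u * w ^ k * u = u * w ^ k * u⁻¹ by rw [ui], ← conj_pow, ui, wu, inv_pow]
  have hcv : ∀ k : ℕ, v * w ^ k * v = (w ^ k)⁻¹ := by
    intro k
    rw [show v * w ^ k * v = v * w ^ k * v⁻¹ by rw [vi], ← conj_pow, vi, wv, inv_pow]
  have hpos : 0 < orderOf w := orderOf_pos w
  rcases Nat.even_or_odd (orderOf w) with he | ⟨k, hk⟩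
  · obtain ⟨k, hk⟩ := he
    have hord : orderOf (w ^ k) = 2 := by
      rw [orderOf_pow' w (by omega), hk, ← two_mul, Nat.gcd_mul_left_left, Nat.mul_div_cancel _ (by omega)]
    have hinv : (w ^ k)⁻¹ = w ^ k := inv_eq_of_mul_eq_one_left (by
      rw [← sq, ← hord]; exact pow_orderOf_eq_one _)
    refine ⟨w ^ k, hord, ?_, ?_⟩
    · have := hcu k; rw [hinv] at this
      calc u * w ^ k = u * w ^ k * u * u := by rw [mul_assoc (u * w ^ k) u u, uu, mul_one]
        _ = w ^ k * u := by rw [this]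
    · have := hcv k; rw [hinv] at this
      calc v * w ^ k = v * w ^ k * v * v := by rw [mul_assoc (v * w ^ k) v v, vv, mul_one]
        _ = w ^ k * v := by rw [this]
  · refine absurd (isConj_iff.2 ⟨w ^ k, ?_⟩) h
    have h1 : w ^ (2 * k) = w⁻¹ := eq_inv_of_mul_eq_one_left (by
      rw [← pow_succ, ← hk]; exact pow_orderOf_eq_one w)
    have h2 : u * (w ^ k)⁻¹ = w ^ k * u := by
      rw [← hcu k, ← mul_assoc, ← mul_assoc, uu, one_mul]
    calc w ^ k * u * (w ^ k)⁻¹ = w ^ k * (w ^ k * u) := by rw [mul_assoc, h2]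
      _ = w ^ (2 * k) * u := by rw [← mul_assoc, ← pow_add, two_mul]
      _ = v⁻¹ := by rw [h1, hw, mul_inv_rev, ui, mul_assoc, uu, mul_one]
      _ = v := vi

theorem conj_centralizer (g x : X) :
    centralizer ({g * x * g⁻¹} : Set X) = (centralizer ({x} : Set X)).map (MulAut.conj g).toMonoidHom := by
  ext y
  rw [Subgroup.mem_map_equiv, MulAut.conj_symm_apply, mem_centralizer_singleton_iff, mem_centralizer_singleton_iff]
  constructor
  · intro h
    calc g⁻¹ * y * g * x = g⁻¹ * (y * (g * x * g⁻¹)) * g := by group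
      _ = g⁻¹ * ((g * x * g⁻¹) * y) * g := by rw [h]
      _ = x * (g⁻¹ * y * g) := by group
  · intro h
    calc y * (g * x * g⁻¹) = g * (g⁻¹ * y * g * x) * g⁻¹ := by group
      _ = g * (x * (g⁻¹ * y * g)) * g⁻¹ := by rw [h]
      _ = (g * x * g⁻¹) * y := by group

theorem nodup8 {z a b c : X} (zz : z * z = 1) (z1 : z ≠ 1) (a1 : a ≠ 1) (az : a ≠ z) (b1 : b ≠ 1)
    (bz : b ≠ z) (c1 : c ≠ 1) (cz : c ≠ z) (ab : a ≠ b) (ab' : b ≠ a * z) (bc : b ≠ c)
    (bc' : c ≠ b * z) (ca : a ≠ c) (ca' : a ≠ c * z) :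
    List.Nodup [1, z, a, a * z, b, b * z, c, c * z] := by
  have zr : ∀ x y : X, x * z = y ↔ x = y * z := fun x y =>
    ⟨fun e => by rw [← e, mul_assoc, zz, mul_one], fun e => by rw [e, mul_assoc, zz, mul_one]⟩
  have n1 : ∀ x : X, x * z ≠ x := fun x e => z1 (by simpa using e)
  have n2 : ∀ x : X, x ≠ 1 → x ≠ z → x * z ≠ 1 ∧ x * z ≠ z := fun x h h' =>
    ⟨fun e => h' (by rw [(zr x 1).1 e, one_mul]), fun e => h (by simpa using e)⟩
  have := n2 a a1 az
  have := n2 b b1 bz
  have := n2 c c1 cz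
  simp only [List.nodup_cons, List.mem_cons, List.not_mem_nil, or_false, List.nodup_nil, and_true,
    not_or, mul_right_cancel_iff]
  grind

section Basic
include D

theorem zz : z * z = 1 := by rw [← sq, ← D.hz]; exact pow_orderOf_eq_one z

theorem z_ne : z ≠ 1 := fun h => by have := D.hz; rw [h, orderOf_one] at this; omega

theorem z_comm {x : X} (hx : x ∈ centralizer ({z} : Set X)) : x * z = z * x :=
  mem_centralizer_singleton_iff.1 hx

theorem zR {r : X} (hr : r ∈ R) : r * z = z * r := z_comm D (D.R_le hr)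

theorem conj_R {x r : X} (hx : x ∈ centralizer ({z} : Set X)) (hr : r ∈ R) : x * r * x⁻¹ ∈ R :=
  (mem_normalizer_iff.1 (D.R_norm hx) r).1 hr

theorem conj_z {x : X} (hx : x ∈ centralizer ({z} : Set X)) : x * z * x⁻¹ = z := by
  rw [z_comm D hx, mul_inv_cancel_right]

theorem comm_cases {a b : X} (ha : a ∈ R) (hb : b ∈ R) :
    b * a * b⁻¹ = a ∨ b * a * b⁻¹ = a * z := by
  have key : ∃ e, (e = 1 ∨ e = z) ∧ b * a = a * b * e := by
    have e1 := D.sq _ (mul_mem ha hb)
    have e2 := D.sq a ha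
    have e3 := D.sq b hb
    have hinv : ∀ x : X, x = 1 ∨ x = z → x⁻¹ = x := by
      rintro x (rfl | rfl)
      · simp
      · exact inv_eq_of_mul_eq_one_left (zz D)
    have hmul : ∀ x y : X, x = 1 ∨ x = z → y = 1 ∨ y = z → x * y = 1 ∨ x * y = z := by
      rintro x y (rfl | rfl) (rfl | rfl) <;> simp [zz D]
    have hcen : ∀ x : X, x = 1 ∨ x = z → ∀ r ∈ R, r * x = x * r := by
      rintro x (rfl | rfl) r hr
      · simp
      · exact zR D hr
    refine ⟨(b * b) * ((a * b * (a * b)) * (a * a)), ?_, ?_⟩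
    · exact hmul _ _ e3 (hmul _ _ e1 e2)
    · have c1 := hcen _ e2 b hb
      have c2 := hcen _ e1
      calc b * a = a⁻¹ * (a * b * (a * b)) * b⁻¹ := by group
        _ = (a * a)⁻¹ * (a * (a * b * (a * b))) * ((b * b)⁻¹ * b) := by group
        _ = (a * a) * ((a * b * (a * b)) * a) * ((b * b) * b) := by
          rw [hinv _ e2, hinv _ e3, c2 a ha]
        _ = (a * a) * (a * b * (a * b)) * (a * ((b * b) * b)) := by group
        _ = (a * a) * (a * b * (a * b)) * (a * (b * (b * b))) := by group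
        _ = ((a * a) * (a * b * (a * b))) * (a * b) * (b * b) := by group
        _ = (a * b) * ((a * a) * (a * b * (a * b))) * (b * b) := by
          rw [hcen _ (hmul _ _ e2 e1) (a * b) (mul_mem ha hb)]
        _ = (a * b) * ((b * b) * ((a * b * (a * b)) * (a * a))) := by
          have k1 := hcen _ e1 (a * a) (mul_mem ha ha)
          have k2 := hcen _ (hmul _ _ e2 e1) (b * b) (mul_mem hb hb)
          rw [← k1, k2, mul_assoc]
  obtain ⟨e, he | he, h⟩ := key <;> subst he
  · left; rw [h, mul_one, mul_inv_cancel_right]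
  · right; rw [h, mul_assoc a b, zR D hb, ← mul_assoc, mul_inv_cancel_right]

theorem pp : p * p * p = 1 := by
  have := pow_orderOf_eq_one p
  rwa [D.p_ord, pow_succ, pow_succ, pow_one] at this

theorem p_conj_three (r : X) : p * (p * (p * r * p⁻¹) * p⁻¹) * p⁻¹ = r := by
  calc p * (p * (p * r * p⁻¹) * p⁻¹) * p⁻¹ = (p * p * p) * r * (p * p * p)⁻¹ := by group
    _ = r := by rw [pp D]; group

theorem p_conj_mem {r : X} (hr : r ∈ R) : p * r * p⁻¹ ∈ R := conj_R D D.p_mem hr

theorem p_class {r : X} (hr : r ∈ R) (h : p * r * p⁻¹ = r ∨ p * r * p⁻¹ = r * z) : r = 1 ∨ r = z := by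
  rcases h with h | h
  · exact D.p_fix r hr (mul_inv_eq_iff_eq_mul.1 h)
  · exfalso
    have h3 := p_conj_three D r
    have e : ∀ x : X, p * (x * z) * p⁻¹ = p * x * p⁻¹ * z := fun x => by
      calc p * (x * z) * p⁻¹ = p * x * p⁻¹ * (p * z * p⁻¹) := by group
        _ = _ := by rw [conj_z D D.p_mem]
    rw [h, e, h, mul_assoc r z z, zz D, mul_one, h] at h3
    exact z_ne D (by simpa using h3)

/-- subgroups of the core invariant under the element of order three -/
theorem card_invariant {H : Subgroup X} (hH : H ≤ R) (hzH : z ∈ H)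
    (hp : ∀ h ∈ H, p * h * p⁻¹ ∈ H) : Nat.card H = 2 ∨ Nat.card H = 8 ∨ Nat.card H = 32 := by
  haveI : Fact (Nat.Prime 3) := ⟨Nat.prime_three⟩
  haveI : Fintype ↥H := Fintype.ofFinite _
  classical
  let f : Function.End ↥H := fun h => ⟨p * (h : X) * p⁻¹, hp h h.2⟩
  have hf : f ^ 3 ^ 1 = 1 := by
    funext h
    apply Subtype.ext
    rw [pow_one]
    show p * (p * (p * (h : X) * p⁻¹) * p⁻¹) * p⁻¹ = _
    rw [p_conj_three D]; rfl
  have hmod := Equiv.Perm.card_fixedPoints_modEq (p := 3) (n := 1) hf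
  have hfix : Fintype.card ↥(Function.fixedPoints f) = 2 := by
    have hs : Function.fixedPoints f = ({1, ⟨z, hzH⟩} : Set ↥H) := by
      ext h
      simp only [Function.mem_fixedPoints, Function.IsFixedPt, Set.mem_insert_iff, Set.mem_singleton_iff]
      constructor
      · intro e
        have e' : p * (h : X) * p⁻¹ = h := congrArg Subtype.val e
        rcases D.p_fix h (hH h.2) (mul_inv_eq_iff_eq_mul.1 e') with k | k
        · exact Or.inl (Subtype.ext k)
        · exact Or.inr (Subtype.ext k)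
      · rintro (rfl | rfl) <;> apply Subtype.ext
        · show p * 1 * p⁻¹ = 1; group
        · exact conj_z D D.p_mem
    rw [← Nat.card_eq_fintype_card, Nat.card_coe_set_eq, hs, Set.ncard_pair]
    intro e; exact z_ne D (congrArg Subtype.val e).symm
  rw [hfix] at hmod
  have hdvd : Fintype.card ↥H ∣ 2 ^ 5 := by
    rw [← Nat.card_eq_fintype_card]; exact (by simpa [D.cardR] using Subgroup.card_dvd_of_le hH)
  obtain ⟨j, hj, e⟩ := (Nat.dvd_prime_pow Nat.prime_two).1 hdvd
  rw [Nat.card_eq_fintype_card, e]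
  rw [e] at hmod
  interval_cases j <;> simp_all [Nat.ModEq]

theorem card_cent_R {r : X} (hr : r ∈ R) (h1 : r ≠ 1) (hz' : r ≠ z) :
    Nat.card ↥(R ⊓ centralizer ({r} : Set X) : Subgroup X) = 16 ∧ ∃ x ∈ R, x * r * x⁻¹ = r * z := by
  have hex : ∃ x ∈ R, x * r * x⁻¹ = r * z := by
    by_contra h
    push Not at h
    have hc : ∀ r' ∈ R, r * r' = r' * r := fun r' hr' => by
      rcases comm_cases D hr hr' with k | k
      · exact (mul_inv_eq_iff_eq_mul.1 k).symm
      · exact absurd k (h r' hr')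
    exact (D.cen r hr hc).elim h1 hz'
  refine ⟨?_, hex⟩
  have horb : orb R r = {r, r * z} := by
    ext y
    constructor
    · rintro ⟨c, hc, rfl⟩; exact comm_cases D hr hc
    · rintro (rfl | rfl)
      · exact ⟨1, one_mem _, by group⟩
      · obtain ⟨x, hx, e⟩ := hex; exact ⟨x, hx, e⟩
  have := orb_mul R r
  rw [horb, Set.ncard_pair (fun e => z_ne D (by simpa using e)), D.cardR] at this
  omega

/-- the six elements of the invariant elementary abelian subgroup of an involution -/
def Six (z p r : X) : Set X :=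
  {r, r * z, p * r * p⁻¹, p * r * p⁻¹ * z, p * (p * r * p⁻¹) * p⁻¹, p * (p * r * p⁻¹) * p⁻¹ * z}

omit D in
theorem six_ncard_le (r : X) : (Six z p r).ncard ≤ 6 := by
  have h := fun (a : X) (S : Set X) => Set.ncard_insert_le a S
  have h1 := Set.ncard_singleton (p * (p * r * p⁻¹) * p⁻¹ * z)
  unfold Six
  grind

theorem six_p {r x : X} (hx : x ∈ Six z p r) : p * x * p⁻¹ ∈ Six z p r := by
  have e : ∀ a : X, p * (a * z) * p⁻¹ = p * a * p⁻¹ * z := fun a => by
    calc p * (a * z) * p⁻¹ = p * a * p⁻¹ * (p * z * p⁻¹) := by group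
      _ = _ := by rw [conj_z D D.p_mem]
  simp only [Six, Set.mem_insert_iff, Set.mem_singleton_iff] at hx ⊢
  rcases hx with rfl | rfl | rfl | rfl | rfl | rfl <;>
    simp only [e, p_conj_three D] <;> tauto

theorem six_mem_R {r x : X} (hr : r ∈ R) (hx : x ∈ Six z p r) : x ∈ R := by
  simp only [Six, Set.mem_insert_iff, Set.mem_singleton_iff] at hx
  rcases hx with rfl | rfl | rfl | rfl | rfl | rfl <;>
    first
    | assumption
    | exact mul_mem hr D.z_mem
    | exact p_conj_mem D hr
    | exact mul_mem (p_conj_mem D hr) D.z_mem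
    | exact p_conj_mem D (p_conj_mem D hr)
    | exact mul_mem (p_conj_mem D (p_conj_mem D hr)) D.z_mem

theorem six_R {r x c : X} (hr : r ∈ R) (hx : x ∈ Six z p r) (hc : c ∈ R) :
    c * x * c⁻¹ ∈ Six z p r := by
  have hxR := six_mem_R D hr hx
  rcases comm_cases D hxR hc with e | e <;> rw [e]
  · exact hx
  · simp only [Six, Set.mem_insert_iff, Set.mem_singleton_iff] at hx ⊢
    rcases hx with rfl | rfl | rfl | rfl | rfl | rfl <;>
      simp only [mul_assoc _ z z, zz D, mul_one] <;> tauto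

/-- the invariant subgroup of an involution -/
def V (R : Subgroup X) (p r : X) : Subgroup X :=
  R ⊓ centralizer ({r} : Set X) ⊓ centralizer ({p * r * p⁻¹} : Set X)

theorem inv_facts {r : X} (hr : r ∈ R) (h2 : r * r = 1) (h1 : r ≠ 1) (hz' : r ≠ z) :
    r * (p * r * p⁻¹) = p * r * p⁻¹ * r ∧
    (∀ x, x ∈ V R p r ↔ x = 1 ∨ x = z ∨ x ∈ Six z p r) ∧ Nat.card (V R p r) = 8 ∧
    (∀ x ∈ V R p r, x * x = 1) ∧ (∀ x ∈ V R p r, ∀ y ∈ V R p r, x * y = y * x) := by
  set r1 := p * r * p⁻¹ with hr1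
  set r2 := p * r1 * p⁻¹ with hr2
  have m1 : r1 ∈ R := p_conj_mem D hr
  have m2 : r2 ∈ R := p_conj_mem D m1
  have cm : ∀ a b : X, p * a * p⁻¹ * (p * b * p⁻¹) = p * (a * b) * p⁻¹ := fun a b => by group
  have q1 : r1 * r1 = 1 := by
    rw [hr1, cm, h2]; group
  have q2 : r2 * r2 = 1 := by rw [hr2, cm, q1]; group
  set w := r * r1 * r2 with hw
  have hwR : w ∈ R := mul_mem (mul_mem hr m1) m2
  have hwp : p * w * p⁻¹ = r⁻¹ * w * r := by
    rw [hw]
    calc p * (r * r1 * r2) * p⁻¹ = r1 * r2 * (p * r2 * p⁻¹) := by rw [hr2, hr1]; group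
      _ = r1 * r2 * r := by rw [hr2, hr1, p_conj_three D]
      _ = _ := by group
  have hw1 : w = 1 ∨ w = z := by
    apply p_class D hwR
    rcases comm_cases D hwR (inv_mem hr) with e | e <;> rw [inv_inv] at e
    · exact Or.inl (hwp.trans e)
    · exact Or.inr (hwp.trans e)
  have hr2e : r2 = r1 * r * w := by
    rw [hw, mul_assoc r1 r, ← mul_assoc r (r * r1) r2, ← mul_assoc r r r1, h2, one_mul,
      ← mul_assoc r1 r1 r2, q1, one_mul]
  have hwc : ∀ x ∈ R, w * x = x * w := by
    intro x hx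
    rcases hw1 with e | e <;> rw [e]
    · simp
    · exact (zR D hx).symm
  have hww : w * w = 1 := by rcases hw1 with e | e <;> rw [e] <;> simp [zz D]
  have hcomm : r * r1 = r1 * r := by
    have h := q2
    rw [hr2e] at h
    have h' : r1 * r * (r1 * r) = 1 := by
      calc r1 * r * (r1 * r) = r1 * r * (r1 * r) * (w * w) := by rw [hww, mul_one]
        _ = r1 * r * ((r1 * r) * w) * w := by group
        _ = r1 * r * (w * (r1 * r)) * w := by rw [hwc _ (mul_mem m1 hr)]
        _ = r1 * r * w * (r1 * r * w) := by group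
        _ = 1 := h
    have i1 : r⁻¹ = r := inv_eq_of_mul_eq_one_left h2
    have i2 : r1⁻¹ = r1 := inv_eq_of_mul_eq_one_left q1
    have := eq_inv_of_mul_eq_one_left h'
    rw [mul_inv_rev, i1, i2] at this
    exact this.symm
  have r1ne : r1 ≠ 1 := fun e => h1 (by
    have := congrArg (fun x => p⁻¹ * x * p) e
    simpa [hr1, mul_assoc] using this)
  have r1z : r1 ≠ z := fun e => hz' (by
    have h3 : p⁻¹ * r1 * p = r := by rw [hr1]; group
    rw [e] at h3
    rw [← h3]
    calc p⁻¹ * z * p = p⁻¹ * (z * p) := by group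
      _ = p⁻¹ * (p * z) := by rw [z_comm D D.p_mem]
      _ = z := by group)
  set H := R ⊓ centralizer ({r} : Set X) with hH
  set H1 := R ⊓ centralizer ({r1} : Set X) with hH1
  have c0 : Nat.card H = 16 := (card_cent_R D hr h1 hz').1
  have c1 : Nat.card H1 = 16 := (card_cent_R D m1 r1ne r1z).1
  have hne : H ≠ H1 := by
    intro e
    have hinv : ∀ h ∈ H, p * h * p⁻¹ ∈ H := by
      intro h hh
      rw [e]
      refine ⟨p_conj_mem D hh.1, ?_⟩
      show _ ∈ centralizer ({p * r * p⁻¹} : Set X)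
      rw [conj_centralizer]
      exact ⟨h, hh.2, rfl⟩
    rcases card_invariant D (H := H) inf_le_left ⟨D.z_mem, mem_centralizer_singleton_iff.2 (zR D hr).symm⟩ hinv
      with k | k | k <;> omega
  have hVdef : V R p r = H ⊓ H1 := by
    rw [V, hH, hH1]
    exact le_antisymm (le_inf inf_le_left (le_inf (inf_le_left.trans inf_le_left) inf_le_right))
      (le_inf inf_le_left (inf_le_right.trans inf_le_right))
  have hVlt : Nat.card (V R p r) < 16 := by
    rcases (Subgroup.card_le_of_le (hVdef ▸ inf_le_left : V R p r ≤ H)).lt_or_eq with k | k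
    · omega
    · exfalso
      have e1 : V R p r = H := Subgroup.eq_of_le_of_card_ge (hVdef ▸ inf_le_left) k.ge
      have e2 : V R p r = H1 := Subgroup.eq_of_le_of_card_ge (hVdef ▸ inf_le_right) (by omega)
      exact hne (e1.symm.trans e2)
  have hV8 : Nat.card (V R p r) = 8 := by
    have hd : Nat.card (V R p r) ∣ 2 ^ 4 := by
      have := Subgroup.card_dvd_of_le (hVdef ▸ inf_le_left : V R p r ≤ H)
      rwa [c0] at this
    obtain ⟨j, hj, e⟩ := (Nat.dvd_prime_pow Nat.prime_two).1 hd
    have hge : 8 ≤ Nat.card (V R p r) := by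
      have h3 := Subgroup.relIndex_inf_le (H := H) (K := H1) (L := R)
      have e0 := Subgroup.card_mul_index (H.subgroupOf R)
      have e1 := Subgroup.card_mul_index (H1.subgroupOf R)
      have e2 := Subgroup.card_mul_index ((H ⊓ H1).subgroupOf R)
      rw [Nat.card_congr (subgroupOfEquivOfLe inf_le_left).toEquiv, D.cardR] at e0 e1
      rw [Nat.card_congr (subgroupOfEquivOfLe (inf_le_left.trans inf_le_left)).toEquiv, D.cardR] at e2
      rw [hVdef]
      simp only [Subgroup.relIndex] at h3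
      rw [c0] at e0
      rw [c1] at e1
      have a0 : (H.subgroupOf R).index = 2 := by omega
      have a1 : (H1.subgroupOf R).index = 2 := by omega
      rw [a0, a1] at h3
      nlinarith
    interval_cases j <;> omega
  set S : Set X := {x | x = 1 ∨ x = z ∨ x ∈ Six z p r} with hS
  have hzV : z ∈ V R p r := ⟨⟨D.z_mem, mem_centralizer_singleton_iff.2 (zR D hr).symm⟩,
    mem_centralizer_singleton_iff.2 (zR D m1).symm⟩
  have hrV : r ∈ V R p r := ⟨⟨hr, mem_centralizer_singleton_iff.2 rfl⟩, mem_centralizer_singleton_iff.2 hcomm⟩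
  have hr1V : r1 ∈ V R p r := ⟨⟨m1, mem_centralizer_singleton_iff.2 hcomm.symm⟩,
    mem_centralizer_singleton_iff.2 rfl⟩
  have hr2V : r2 ∈ V R p r := by
    rw [hr2e]
    refine mul_mem (mul_mem hr1V hrV) ?_
    rcases hw1 with e | e <;> rw [e]
    · exact one_mem _
    · exact hzV
  have hSV : S ⊆ (V R p r : Set X) := by
    rintro x (rfl | rfl | hx)
    · exact one_mem _
    · exact hzV
    · simp only [Six, Set.mem_insert_iff, Set.mem_singleton_iff] at hx
      rcases hx with rfl | rfl | rfl | rfl | rfl | rfl <;>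
        first
        | exact hrV | exact hr1V | exact hr2V | exact mul_mem hrV hzV
        | exact mul_mem hr1V hzV | exact mul_mem hr2V hzV
  have hcls : ∀ a ∈ S, a * z ∈ S := by
    rintro a (rfl | rfl | ha)
    · exact Or.inr (Or.inl (one_mul z))
    · exact Or.inl (zz D)
    · refine Or.inr (Or.inr ?_)
      simp only [Six, Set.mem_insert_iff, Set.mem_singleton_iff] at ha ⊢
      rcases ha with rfl | rfl | rfl | rfl | rfl | rfl <;>
        simp only [mul_assoc _ z z, zz D, mul_one] <;> tauto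
  have np : ∀ a ∈ R, a ≠ 1 → a ≠ z → ¬ (p * a * p⁻¹ = a ∨ p * a * p⁻¹ = a * z) :=
    fun a ha a1 a2 h => (p_class D ha h).elim a1 a2
  have d1 := np r hr h1 hz'
  have d2 := np r1 m1 r1ne r1z
  have r2ne : r2 ≠ 1 := fun e => r1ne (by
    have := congrArg (fun x => p⁻¹ * x * p) e
    simpa [hr2, mul_assoc] using this)
  have r2z : r2 ≠ z := fun e => r1z (by
    have h3 : p⁻¹ * r2 * p = r1 := by rw [hr2]; group
    rw [e] at h3
    rw [← h3]
    calc p⁻¹ * z * p = p⁻¹ * (z * p) := by group
      _ = p⁻¹ * (p * z) := by rw [z_comm D D.p_mem]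
      _ = z := by group)
  have d3 := np r2 m2 r2ne r2z
  rw [← hr1] at d1
  rw [← hr2] at d2
  rw [show p * r2 * p⁻¹ = r by rw [hr2, hr1, p_conj_three D]] at d3
  have key : S = (V R p r : Set X) := by
    refine Set.eq_of_subset_of_ncard_le hSV ?_ (Set.toFinite _)
    rw [← Nat.card_coe_set_eq, SetLike.coe_sort_coe, hV8]
    classical
    have hS' : S = ↑([1, z, r, r * z, r1, r1 * z, r2, r2 * z].toFinset) := by
      ext x
      simp [hS, Six, ← hr1, ← hr2]
    rw [hS', Set.ncard_coe_finset, List.toFinset_card_of_nodup]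
    · simp
    exact nodup8 (zz D) (z_ne D) h1 hz' r1ne r1z r2ne r2z (fun e => d1 (Or.inl e.symm))
      (fun e => d1 (Or.inr e)) (fun e => d2 (Or.inl e.symm)) (fun e => d2 (Or.inr e))
      (fun e => d3 (Or.inl e)) (fun e => d3 (Or.inr e))
  refine ⟨hcomm, fun x => by rw [← SetLike.mem_coe, ← key]; rfl, hV8, ?_, ?_⟩
  · intro x hx
    have hxS : x ∈ S := key ▸ hx
    rcases hxS with rfl | rfl | hx
    · simp
    · exact zz D
    · have q : ∀ a : X, a * a = 1 → a ∈ R → a * z * (a * z) = 1 := fun a e hm => by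
        rw [mul_assoc a z (a * z), ← mul_assoc z a z, ← zR D hm, mul_assoc a z z, zz D, mul_one, e]
      simp only [Six, Set.mem_insert_iff, Set.mem_singleton_iff] at hx
      rcases hx with rfl | rfl | rfl | rfl | rfl | rfl <;>
        first
        | exact h2 | exact q1 | exact q2 | exact q _ h2 hr | exact q _ q1 m1 | exact q _ q2 m2
  · have hg : ∀ a ∈ S, ∀ b ∈ S, a * b * (a * b) = 1 := by
      intro a ha b hb
      have hab : a * b ∈ S := key ▸ mul_mem (hSV ha) (hSV hb)
      rcases hab with e | e | e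
      · rw [e, mul_one]
      · rw [e, zz D]
      · have q : ∀ a : X, a * a = 1 → a ∈ R → a * z * (a * z) = 1 := fun a e hm => by
          rw [mul_assoc a z (a * z), ← mul_assoc z a z, ← zR D hm, mul_assoc a z z, zz D, mul_one, e]
        simp only [Six, Set.mem_insert_iff, Set.mem_singleton_iff] at e
        rcases e with e | e | e | e | e | e <;> rw [e] <;>
          first
          | exact h2 | exact q1 | exact q2 | exact q _ h2 hr | exact q _ q1 m1 | exact q _ q2 m2
    intro x hx y hy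
    have hxx : ∀ a ∈ S, a * a = 1 := fun a ha => by
      have := hg a ha 1 (Or.inl rfl); simpa using this
    have hx' : x ∈ S := key ▸ hx
    have hy' : y ∈ S := key ▸ hy
    calc x * y = (x * y)⁻¹ := (inv_eq_of_mul_eq_one_left (hg x hx' y hy')).symm
      _ = y⁻¹ * x⁻¹ := mul_inv_rev x y
      _ = y * x := by rw [inv_eq_of_mul_eq_one_left (hxx x hx'), inv_eq_of_mul_eq_one_left (hxx y hy')]

end Basic

end Cfsg.Agent.JFiveSet4
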