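import Mathlib
import Cfsg.Agent.Lib.J4Fusion18
import Cfsg.Agent.Lib.J4Exists97
import Cfsg.Agent.Lib.JFourFus97Model

/-!
The fusion record exists in a simple group of Janko-four type.
-/

set_option autoImplicit false
set_option linter.unusedSectionVars false

namespace Cfsg.Agent.JFourFus97Exists

open Subgroup Cfsg Cfsg.Agent.JFourSetting97

universe u

theorem exists_fus {G : Type u} [Group G] [Finite G] [IsSimpleGroup G] (hG : ¬ IsMulCommutative G)
    {z : G} {P : Subgroup G} (hJ : Cfsg.IsOfJankoFourTypeWith z P) :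
    ∃ (p : G) (a b c : G), zpowers p = P ∧ JFourCent97.Fus z p P a b c := by
  obtain ⟨V, _, zc, π, ρ, q, n, Mb, F, _, _, s, h, ν, D, C⟩ := J4Exists97.exists_coords hJ
  obtain ⟨-, -, -, -, -, -, -, -, h36, h240, -⟩ := J4Fusion18.classes D C hG hJ
  exact JFourFus97Model.fus_of_FF D C hJ ⟨h36, h240, J4Fusion18.trans_R D C hG hJ⟩

end Cfsg.Agent.JFourFus97Exists
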