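import Mathlib
import Cfsg.Agent.Lib.AutPSLBasic
import Cfsg.Agent.Lib.AutPSLMain
import Cfsg.Agent.Lib.AutPSLApi
import Cfsg.Agent.Lib.AutPSLField
import Cfsg.Agent.Lib.PSL2SylowTwo
import Cfsg.Agent.Lib.PSLCard
import Cfsg.Agent.Lib.PSL2Elements
import Cfsg.Agent.Lib.AutPSLBalance

/-!
`PSL(2,q)` with abelian Sylow `2`-subgroups: `q ≡ ±3 mod 8`, and an automorphism of `2`-power order
fixing a Sylow `2`-subgroup elementwise is conjugation by one of its elements.
-/

set_option autoImplicit false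
set_option linter.all false

namespace Cfsg.Agent.PSL2FixSylow7

open Matrix Cfsg.Agent.AutPSLBasic Cfsg.Agent.AutPSLMain Cfsg.Agent.AutPSLApi Cfsg.Agent.AutPSLField
open scoped MatrixGroups

variable {F : Type*} [Field F] [Fintype F]

theorem mod_eight (hodd : Odd (Fintype.card F)) (V : Sylow 2 (P 2 F))
    (hV : IsMulCommutative (V : Subgroup (P 2 F))) :
    Nat.card F % 8 = 3 ∨ Nat.card F % 8 = 5 := by
  have : Fact (Nat.Prime 2) := ⟨Nat.prime_two⟩
  have hoddN : Odd (Nat.card F) := by rw [Nat.card_eq_fintype_card]; exact hodd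
  by_contra hcon
  have h8 : Nat.card F % 8 = 1 ∨ Nat.card F % 8 = 7 := by
    rw [Nat.odd_iff] at hoddN; omega
  obtain ⟨R⟩ : Nonempty (Sylow 2 SL(2, F)) := inferInstance
  obtain ⟨k, hk1, ⟨e⟩⟩ := PSL2SylowTwo.sylow_two_quaternion hoddN R
  -- the order of the Sylow subgroup of `SL` is at least `16`
  have h16 : 2 ^ 4 ∣ Nat.card SL(2, F) := by
    rw [PSLCard.card_SL2]
    refine dvd_mul_of_dvd_right ?_ _
    have : Nat.card F ^ 2 % 16 = 1 := by
      have : Nat.card F % 16 = 1 ∨ Nat.card F % 16 = 7 ∨ Nat.card F % 16 = 9 ∨ Nat.card F % 16 = 15 := by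
        omega
      rcases this with h | h | h | h <;> rw [Nat.pow_mod, h] <;> rfl
    omega
  have hR : 2 ^ 4 ∣ Nat.card R := R.pow_dvd_card_of_pow_dvd_card h16
  rw [Nat.card_congr e.toEquiv, Nat.card_eq_fintype_card, QuaternionGroup.card] at hR
  have hk : 2 ≤ k := by
    by_contra h
    have : k = 1 := by omega
    subst this
    norm_num at hR
  set π : SL(2, F) →* P 2 F := QuotientGroup.mk' (Subgroup.center SL(2, F)) with hπ
  obtain ⟨Q, hQ⟩ := (R.isPGroup'.map π).exists_le_sylow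
  have hQc : ∀ x ∈ (Q : Subgroup (P 2 F)), ∀ y ∈ (Q : Subgroup (P 2 F)), x * y = y * x := by
    intro x hx y hy
    have e' := Sylow.equiv Q V
    have h := hV.is_comm.comm (e' ⟨x, hx⟩) (e' ⟨y, hy⟩)
    rw [← map_mul, ← map_mul] at h
    exact congrArg Subtype.val (e'.injective h)
  set a : SL(2, F) := ((e.symm (QuaternionGroup.a 1) : R) : SL(2, F)) with ha
  set b : SL(2, F) := ((e.symm (QuaternionGroup.xa 0) : R) : SL(2, F)) with hb
  set c : SL(2, F) := a * b * a⁻¹ * b⁻¹ with hc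
  have hcC : c ∈ Subgroup.center SL(2, F) := by
    rw [← QuotientGroup.eq_one_iff]
    show π c = 1
    have h := hQc _ (hQ (Subgroup.mem_map_of_mem π (e.symm (QuaternionGroup.a 1)).2)) _
      (hQ (Subgroup.mem_map_of_mem π (e.symm (QuaternionGroup.xa 0)).2))
    rw [← ha, ← hb] at h
    rw [hc, map_mul, map_mul, map_mul, map_inv, map_inv, h]
    group
  have hc2 : c ^ 2 = 1 := by
    rcases (PSL2Elements.mem_center_iff _).1 hcC with h | h <;> rw [h] <;> simp
  have hq2 : (QuaternionGroup.a (2 : ZMod (2 * 2 ^ k))) ^ 2 = (1 : QuaternionGroup (2 ^ k)) := by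
    apply e.symm.injective
    apply Subtype.ext
    rw [map_pow, map_one, SubgroupClass.coe_pow, OneMemClass.coe_one, ← hc2]
    congr 1
    rw [hc, eq_mul_inv_iff_mul_eq, eq_mul_inv_iff_mul_eq, ha, hb, mul_assoc, ← Subgroup.coe_mul,
      ← Subgroup.coe_mul, ← Subgroup.coe_mul, ← map_mul, ← map_mul, ← map_mul]
    congr 2
    simp only [QuaternionGroup.a_mul_xa, QuaternionGroup.xa_mul_a, QuaternionGroup.a_mul_a]
    congr 1
    ring
  have hqv : (QuaternionGroup.a (2 : ZMod (2 * 2 ^ k))) ^ 2 =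
      QuaternionGroup.a (4 : ZMod (2 * 2 ^ k)) := by
    rw [pow_two, QuaternionGroup.a_mul_a]
    congr 1
    norm_num
  rw [hqv, QuaternionGroup.one_def, QuaternionGroup.a.injEq] at hq2
  have h4 : (2 * 2 ^ k) ∣ 4 := (ZMod.natCast_eq_zero_iff _ _).1 (by exact_mod_cast hq2)
  have : 2 ^ 2 ≤ 2 ^ k := Nat.pow_le_pow_right two_pos hk
  have := Nat.le_of_dvd (by norm_num) h4
  omega

lemma odd_degree (hq : Nat.card F % 8 = 3 ∨ Nat.card F % 8 = 5) :
    Odd (Nat.card (F ≃+* F)) := by
  obtain ⟨p, hp⟩ := CharP.exists F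
  obtain ⟨f, hpr, hf⟩ := FiniteField.card F p
  haveI : Fact p.Prime := ⟨hpr⟩
  rw [AutPSLApi.card_ringAut hf f.pos]
  rcases Nat.even_or_odd (f : ℕ) with ⟨m, hm⟩ | h
  · exfalso
    rw [Nat.card_eq_fintype_card, hf, hm, pow_add] at hq
    have h : (p ^ m % 8) * (p ^ m % 8) % 8 ≠ 3 ∧ (p ^ m % 8) * (p ^ m % 8) % 8 ≠ 5 := by
      have := Nat.mod_lt (p ^ m) (show 8 > 0 by norm_num)
      interval_cases (p ^ m % 8) <;> decide
    rw [Nat.mul_mod] at hq
    omega
  · exact h

lemma card_range_cj : Nat.card ((cj : GL (Fin 2) F →* MulAut (P 2 F)).range) =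
    Nat.card F * (Nat.card F ^ 2 - 1) := by
  rw [← Subgroup.index_ker]
  have : (cj : GL (Fin 2) F →* MulAut (P 2 F)).ker = Subgroup.center (GL (Fin 2) F) := by
    ext g; exact cj_eq_one_iff le_rfl g
  rw [this, ← PSLCard.card_PGL2]
  rfl

/-- An element of a `2`-group containing a Sylow subgroup lies in it. -/
lemma mem_of_commute {G : Type*} [Group G] [Finite G] {p : ℕ} [Fact p.Prime] (P : Sylow p G) {x : G} {k : ℕ}
    (hx : x ^ p ^ k = 1) (hc : ∀ v ∈ (P : Subgroup G), v * x = x * v) : x ∈ (P : Subgroup G) := by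
  have hz : IsPGroup p (Subgroup.zpowers x) := by
    obtain ⟨j, -, hj⟩ := (Nat.dvd_prime_pow Fact.out).1 (orderOf_dvd_of_pow_eq_one hx)
    exact IsPGroup.of_card (n := j) (by rw [Nat.card_zpowers, hj])
  have hN : Subgroup.zpowers x ≤ Subgroup.normalizer ((P : Subgroup G) : Set G) := by
    refine le_trans (Subgroup.zpowers_le.2 ?_) (Subgroup.centralizer_le_normalizer _)
    exact Subgroup.mem_centralizer_iff.2 hc
  have h1 : IsPGroup p (Subgroup.zpowers x ⊔ (P : Subgroup G) : Subgroup G) :=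
    hz.to_sup_of_normal_right' P.isPGroup' hN
  have h2 := P.is_maximal' h1 le_sup_right
  rw [← h2]
  exact Subgroup.mem_sup_left (Subgroup.mem_zpowers x)

/-- An automorphism of `2`-power order fixing a Sylow `2`-subgroup elementwise is inner, by an element
of this subgroup. -/
theorem fixed_inner (hodd : Odd (Fintype.card F)) (V : Sylow 2 (P 2 F))
    (hVc : IsMulCommutative (V : Subgroup (P 2 F))) (α : MulAut (P 2 F)) {k : ℕ} (hα : α ^ 2 ^ k = 1)
    (hfix : ∀ v ∈ (V : Subgroup (P 2 F)), α v = v) :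
    ∃ v ∈ (V : Subgroup (P 2 F)), α = MulAut.conj v := by
  classical
  have : Fact (Nat.Prime 2) := ⟨Nat.prime_two⟩
  have hq := mod_eight hodd V hVc
  have h2 : (2 : F) ≠ 0 := PSL2SylowTwo.two_ne_zero_of_odd (by rw [Nat.card_eq_fintype_card]; exact hodd)
  obtain ⟨g, σ, hgσ | ⟨h3, -⟩⟩ := aut_decomp (le_refl 2) α
  swap; · omega
  haveI : Finite (F ≃+* F) := Finite.of_injective (fun σ => (σ : F → F)) DFunLike.coe_injective
  have hσ : σ = 1 := by
    have h := hα
    rw [hgσ, pow_cj_fd] at h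
    have hdvd := orderOf_dvd_of_pow_eq_one (cj_fd_eq_one le_rfl h).2
    have hodd' : Odd (orderOf σ) := (odd_degree hq).of_dvd_nat (orderOf_dvd_natCard σ)
    obtain ⟨j, -, hj⟩ := (Nat.dvd_prime_pow Nat.prime_two).1 hdvd
    rw [← orderOf_eq_one_iff, hj]
    rw [hj] at hodd'
    rcases Nat.eq_zero_or_pos j with rfl | hpos
    · rfl
    · exact absurd hodd' (Nat.not_odd_iff_even.2 ((Nat.even_pow).2 ⟨even_two, hpos.ne'⟩))
  rw [hσ, map_one, mul_one] at hgσ
  subst hgσ
  set A := (cj : GL (Fin 2) F →* MulAut (P 2 F)).range with hA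
  have hconj : Function.Injective (MulAut.conj : P 2 F → MulAut (P 2 F)) := AutPSLBalance.inn_injective le_rfl
  by_cases hin : ∃ x : P 2 F, cj g = MulAut.conj x
  · obtain ⟨x, hx⟩ := hin
    refine ⟨x, mem_of_commute V (k := k) (hconj ?_) ?_, hx⟩
    · rw [map_pow, map_one, ← hx, hα]
    · intro v hv
      have h := hfix v hv
      rw [hx, MulAut.conj_apply, mul_inv_eq_iff_eq_mul] at h
      exact h.symm
  exfalso
  -- the image of `V` together with `cj g` is an abelian Sylow subgroup of `A`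
  set Vi : Subgroup (MulAut (P 2 F)) := (V : Subgroup (P 2 F)).map MulAut.conj with hVi
  set Z : Subgroup (MulAut (P 2 F)) := Subgroup.zpowers (cj g) with hZ
  have hcomm : ∀ v ∈ Vi, cj g * v = v * cj g := by
    rintro _ ⟨v, hv, rfl⟩
    ext w
    simp [MulAut.conj_apply, hfix v hv]
  have hViA : Vi ≤ A := by
    rintro _ ⟨v, -, rfl⟩
    obtain ⟨s, rfl⟩ := QuotientGroup.mk_surjective v
    exact ⟨_, (AutPSLGeometry.conj_mk s).symm⟩
  have hViP : IsPGroup 2 Vi := V.isPGroup'.map _
  have hZP : IsPGroup 2 Z := by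
    obtain ⟨j, -, hj⟩ := (Nat.dvd_prime_pow Nat.prime_two).1 (orderOf_dvd_of_pow_eq_one hα)
    exact IsPGroup.of_card (n := j) (by rw [Nat.card_zpowers, hj])
  have hZN : Z ≤ Subgroup.normalizer (Vi : Set (MulAut (P 2 F))) := by
    refine le_trans (Subgroup.zpowers_le.2 ?_) (Subgroup.centralizer_le_normalizer _)
    exact Subgroup.mem_centralizer_iff.2 fun v hv => (hcomm v hv).symm
  set K := Z ⊔ Vi with hK
  have hKP : IsPGroup 2 K := hZP.to_sup_of_normal_right' hViP hZN
  have hKA : K ≤ A := sup_le (Subgroup.zpowers_le.2 ⟨g, rfl⟩) hViA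
  have hKc : ∀ x ∈ K, ∀ y ∈ K, x * y = y * x := by
    have hgen : K = Subgroup.closure ({cj g} ∪ (Vi : Set (MulAut (P 2 F)))) := by
      rw [Subgroup.closure_union, Subgroup.closure_eq, ← Subgroup.zpowers_eq_closure]
    intro x hx y hy
    rw [hgen] at hx hy
    have : IsMulCommutative (Subgroup.closure ({cj g} ∪ (Vi : Set (MulAut (P 2 F))))) :=
      Subgroup.isMulCommutative_closure (by
        rintro u (rfl | hu) w (rfl | hw)
        · rfl
        · exact hcomm w hw
        · exact (hcomm u hu).symm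
        · obtain ⟨a, ha, rfl⟩ := hu
          obtain ⟨b, hb, rfl⟩ := hw
          rw [← map_mul, ← map_mul]
          exact congrArg MulAut.conj (congrArg Subtype.val (hVc.is_comm.comm ⟨a, ha⟩ ⟨b, hb⟩)))
    exact congrArg Subtype.val (this.is_comm.comm ⟨x, hx⟩ ⟨y, hy⟩)
  have hVcard : Nat.card Vi = 4 := by
    rw [hVi, Subgroup.card_map_of_injective hconj]
    exact (PSL2SylowTwo.sylow_two_klein hq V).card_four
  obtain ⟨j, hj⟩ := hKP.exists_card_eq
  have hj3 : 3 ≤ j := by
    have hle : Nat.card Vi < Nat.card K := by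
      have hlt : Vi < K := lt_of_le_of_ne le_sup_right fun h => hin (by
        have : cj g ∈ Vi := h ▸ Subgroup.mem_sup_left (Subgroup.mem_zpowers _)
        obtain ⟨x, -, hx⟩ := this
        exact ⟨x, hx.symm⟩)
      exact Set.Finite.card_lt_card (Set.toFinite _) hlt
    rw [hVcard, hj] at hle
    by_contra h
    have : 2 ^ j ≤ 2 ^ 2 := Nat.pow_le_pow_right two_pos (by omega)
    omega
  set K' := K.subgroupOf A with hK'
  have hK'card : Nat.card K' = 2 ^ j := by rw [hK', Nat.card_congr (Subgroup.subgroupOfEquivOfLe hKA).toEquiv, hj]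
  have hindex : ¬ 2 ∣ K'.index := by
    intro hd
    have h := Nat.mul_dvd_mul_left (Nat.card K') hd
    rw [Subgroup.card_mul_index, hK'card, card_range_cj] at h
    have h16 : 2 ^ 4 ∣ Nat.card F * (Nat.card F ^ 2 - 1) :=
      dvd_trans (by rw [show 2 ^ j * 2 = 2 ^ (j + 1) by ring]; exact pow_dvd_pow 2 (by omega)) h
    have hc : Nat.Coprime (2 ^ 4) (Nat.card F) := by
      apply Nat.Coprime.pow_left
      rw [Nat.coprime_two_left, Nat.odd_iff]
      omega
    have h' := hc.dvd_of_dvd_mul_left h16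
    have hmod : Nat.card F % 16 = 3 ∨ Nat.card F % 16 = 5 ∨ Nat.card F % 16 = 11 ∨ Nat.card F % 16 = 13 := by
      omega
    have : Nat.card F ^ 2 % 16 = 9 := by
      rcases hmod with h | h | h | h <;> rw [Nat.pow_mod, h] <;> rfl
    omega
  let T : Sylow 2 A := IsPGroup.toSylow (hKP.comap_of_injective A.subtype A.subtype_injective) hindex
  have hTc : ∀ x ∈ (T : Subgroup A), ∀ y ∈ (T : Subgroup A), x * y = y * x := fun x hx y hy =>
    Subtype.ext (hKc _ hx _ hy)
  -- two non-commuting elements of a 2-subgroup of `A`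
  let am : GL (Fin 2) F := GeneralLinearGroup.mkOfDetNeZero !![1, 0; 0, -1] (by simp [det_fin_two])
  let em : GL (Fin 2) F := GeneralLinearGroup.mkOfDetNeZero !![1, 1; -1, 1] (by
    simp [det_fin_two]
    exact fun h => h2 (by linear_combination h))
  let a : A := ⟨cj am, am, rfl⟩
  let e : A := ⟨cj em, em, rfl⟩
  have hcen : ∀ (x : GL (Fin 2) F) (c : F), (x : Matrix (Fin 2) (Fin 2) F) = c • 1 →
      x ∈ Subgroup.center (GL (Fin 2) F) := by
    intro x c hx
    rw [Subgroup.mem_center_iff]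
    intro y
    apply Units.ext
    rw [Units.val_mul, Units.val_mul, hx]
    simp
  have ha2 : a * a = 1 := by
    apply Subtype.ext
    show cj am * cj am = 1
    rw [← map_mul, cj_eq_one_iff le_rfl]
    exact hcen _ 1 (by ext i j; fin_cases i <;> fin_cases j <;> simp [am, Matrix.mul_apply, Fin.sum_univ_two])
  have he4 : e ^ 4 = 1 := by
    apply Subtype.ext
    show cj em ^ 4 = 1
    rw [← map_pow, cj_eq_one_iff le_rfl]
    exact hcen _ (-4) (by
      ext i j; fin_cases i <;> fin_cases j <;>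
        simp [em, pow_succ, Matrix.mul_apply, Fin.sum_univ_two] <;> ring)
  have hae : a * e * a = e⁻¹ := by
    rw [← mul_eq_one_iff_eq_inv]
    apply Subtype.ext
    show cj am * cj em * cj am * cj em = 1
    rw [← map_mul, ← map_mul, ← map_mul, cj_eq_one_iff le_rfl]
    exact hcen _ 2 (by
      ext i j; fin_cases i <;> fin_cases j <;> simp [am, em, Matrix.mul_apply, Fin.sum_univ_two] <;> ring)
  have haN : Subgroup.zpowers a ≤ Subgroup.normalizer ((Subgroup.zpowers e : Subgroup A) : Set A) := by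
    rw [Subgroup.zpowers_le, Subgroup.mem_normalizer_iff]
    have hai : a⁻¹ = a := inv_eq_of_mul_eq_one_right ha2
    have hstep : ∀ z ∈ Subgroup.zpowers e, a * z * a⁻¹ ∈ Subgroup.zpowers e := by
      rintro _ ⟨i, rfl⟩
      rw [← MulAut.conj_apply, map_zpow, MulAut.conj_apply, hai, hae]
      exact zpow_mem (inv_mem (Subgroup.mem_zpowers e)) i
    intro z
    refine ⟨hstep z, fun h => ?_⟩
    have := hstep _ h
    rwa [hai, show a * (a * z * a) * a = (a * a) * z * (a * a) by group, ha2, one_mul, mul_one] at this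
  have hpa : IsPGroup 2 (Subgroup.zpowers a) := by
    obtain ⟨i, -, hi⟩ := (Nat.dvd_prime_pow Nat.prime_two).1
      (orderOf_dvd_of_pow_eq_one (show a ^ 2 ^ 1 = 1 by rw [pow_one, pow_two, ha2]))
    exact IsPGroup.of_card (n := i) (by rw [Nat.card_zpowers, hi])
  have hpe : IsPGroup 2 (Subgroup.zpowers e) := by
    obtain ⟨i, -, hi⟩ := (Nat.dvd_prime_pow Nat.prime_two).1
      (orderOf_dvd_of_pow_eq_one (show e ^ 2 ^ 2 = 1 by norm_num; exact he4))
    exact IsPGroup.of_card (n := i) (by rw [Nat.card_zpowers, hi])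
  obtain ⟨Q, hQ⟩ := (hpa.to_sup_of_normal_right' hpe haN).exists_le_sylow
  have hcom : a * e = e * a := by
    have e' := Sylow.equiv Q T
    have h := hTc _ (e' ⟨a, hQ (Subgroup.mem_sup_left (Subgroup.mem_zpowers a))⟩).2 _
      (e' ⟨e, hQ (Subgroup.mem_sup_right (Subgroup.mem_zpowers e))⟩).2
    have h' := e'.injective (show e' _ = e' _ from (map_mul e' _ _).trans ((Subtype.ext h).trans (map_mul e' _ _).symm))
    exact congrArg Subtype.val h'
  have he2 : e * e = 1 := by
    rw [hcom, mul_assoc, ha2, mul_one] at hae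
    exact mul_eq_one_iff_eq_inv.2 hae
  have := congrArg Subtype.val he2
  change cj em * cj em = 1 at this
  rw [← map_mul, cj_eq_one_iff le_rfl, Subgroup.mem_center_iff] at this
  have h := congrArg (fun x : GL (Fin 2) F => (x : Matrix (Fin 2) (Fin 2) F) 0 1) (this am)
  simp [am, em, Matrix.mul_apply, Fin.sum_univ_two] at h
  exact h2 (mul_self_eq_zero.1 (by linear_combination h))

end Cfsg.Agent.PSL2FixSylow7
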