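import Mathlib
import Cfsg.Agent.Lib.ComponentsBasic
import Cfsg.Agent.Lib.ComponentsCores
import Cfsg.Agent.Lib.ComponentsFitting
import Cfsg.Agent.Lib.StrongPEmb
import Cfsg.Agent.Lib.SubnormalJoin

/-! Sylow subgroups and subnormal subgroups: the Sylow subgroup of a join. -/

set_option autoImplicit false
set_option linter.all false

namespace Cfsg.Agent.SubnormalSylow56

open Subgroup
open scoped Pointwise

universe u

variable {G : Type u} [Group G] [Finite G] {p : ℕ} [Fact p.Prime]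

/-- The trace of a Sylow subgroup on a subnormal subgroup is a Sylow subgroup of it. -/
theorem not_dvd_relIndex_subnormal {M : Subgroup G} (hM : M.IsSubnormal) (T : Sylow p G) :
    ¬ p ∣ (T : Subgroup G).relIndex M := by
  induction hM with
  | top => rw [Subgroup.relIndex_top_right]; exact T.not_dvd_index
  | step L M h_le _ hN ih =>
    haveI := hN
    let P : Sylow p ↥M := (T.isPGroup'.comap_of_injective _ M.subtype_injective).toSylow ih
    have h2 := Cfsg.Agent.StrongPEmb.not_dvd_relIndex_sylow P (L.subgroupOf M)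
    have hP : (P : Subgroup ↥M).map M.subtype = (T : Subgroup G) ⊓ M := by
      show ((T : Subgroup G).subgroupOf M).map M.subtype = _
      rw [Subgroup.subgroupOf_map_subtype]
    rwa [← Subgroup.relIndex_map_map_of_injective _ _ M.subtype_injective, hP,
      Subgroup.subgroupOf_map_subtype, inf_of_le_left h_le,
      ← Subgroup.inf_relIndex_right, inf_assoc, inf_of_le_right h_le,
      Subgroup.inf_relIndex_right] at h2

/-- The Sylow subgroup `T ⊓ M` of a subnormal subgroup `M`. -/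
noncomputable def sylowOf (T : Sylow p G) {M : Subgroup G} (hM : M.IsSubnormal) : Sylow p ↥M :=
  (T.isPGroup'.comap_of_injective _ M.subtype_injective).toSylow (not_dvd_relIndex_subnormal hM T)

theorem coe_sylowOf (T : Sylow p G) {M : Subgroup G} (hM : M.IsSubnormal) :
    (sylowOf T hM : Subgroup ↥M) = (T : Subgroup G).subgroupOf M := rfl

/-- A subnormal subgroup containing a Sylow subgroup contains every `p`-element. -/
theorem mem_of_sylow_le {X : Subgroup G} (hX : X.IsSubnormal) (T : Sylow p G)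
    (hT : (T : Subgroup G) ≤ X) {x : G} (hx : ∃ k, orderOf x = p ^ k) : x ∈ X := by
  induction hX with
  | top => trivial
  | step L M h_le hM hN ih =>
    haveI := hN
    have hxM := ih (hT.trans h_le)
    obtain ⟨k, hk⟩ := hx
    have hz : IsPGroup p ↥(Subgroup.zpowers (⟨x, hxM⟩ : ↥M)) :=
      IsPGroup.of_card (n := k) (by rw [Nat.card_zpowers, ← Subgroup.orderOf_coe, hk])
    obtain ⟨Q, hQ⟩ := hz.exists_le_sylow
    obtain ⟨g, rfl⟩ := MulAction.exists_smul_eq ↥M (T.subtype (hT.trans h_le)) Q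
    have h1 := hQ (Subgroup.mem_zpowers _)
    rw [Sylow.coe_subgroup_smul] at h1
    obtain ⟨y, hy, hyx⟩ := h1
    have h2 := hN.conj_mem y (show y ∈ L.subgroupOf M from hT hy) g
    have h3 : g * y * g⁻¹ = (⟨x, hxM⟩ : ↥M) := hyx
    rw [h3] at h2
    exact h2

theorem sup_normal_case (T : Sylow p G) (A B : Subgroup G) [A.Normal] (hB : B.IsSubnormal)
    (h : A ⊔ B = ⊤) : (T : Subgroup G) ≤ ((T : Subgroup G) ⊓ A) ⊔ ((T : Subgroup G) ⊓ B) := by
  let f : ↥B →* G ⧸ A := (QuotientGroup.mk' A).comp B.subtype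
  have hf : Function.Surjective f := by
    intro q
    obtain ⟨g, rfl⟩ := QuotientGroup.mk'_surjective A q
    have hg : g ∈ B ⊔ A := by rw [sup_comm, h]; trivial
    rw [← SetLike.mem_coe, Subgroup.mul_normal] at hg
    obtain ⟨b, hb, a, ha, rfl⟩ := Set.mem_mul.mp hg
    exact ⟨⟨b, hb⟩, by simp [f, (QuotientGroup.eq_one_iff a).mpr ha]⟩
  let P : Sylow p (G ⧸ A) := (sylowOf T hB).mapSurjective hf
  have hle : (P : Subgroup (G ⧸ A)) ≤ (T : Subgroup G).map (QuotientGroup.mk' A) := by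
    rintro _ ⟨y, hy, rfl⟩
    exact ⟨y, hy, rfl⟩
  have heq := P.3 (T.2.map (QuotientGroup.mk' A)) hle
  intro t ht
  have h1 : QuotientGroup.mk' A t ∈ (P : Subgroup (G ⧸ A)) := heq ▸ Subgroup.mem_map_of_mem _ ht
  obtain ⟨y, hy, hyt⟩ := h1
  have hyt' : QuotientGroup.mk' A (y : G) = QuotientGroup.mk' A t := hyt
  have hyT : (y : G) ∈ (T : Subgroup G) := hy
  have hA : (y : G)⁻¹ * t ∈ A := QuotientGroup.eq.mp hyt'
  have := Subgroup.mul_mem_sup (show (y : G) ∈ (T : Subgroup G) ⊓ B from ⟨hyT, y.2⟩)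
    (show (y : G)⁻¹ * t ∈ (T : Subgroup G) ⊓ A from ⟨(T : Subgroup G).mul_mem ((T : Subgroup G).inv_mem hyT) ht, hA⟩)
  rw [mul_inv_cancel_left, sup_comm] at this
  exact this

/-- A normal proper maximal subgroup over a proper subnormal subgroup, complemented by `B`. -/
theorem exists_maximal_normal {A : Subgroup G} (hA : A.IsSubnormal) (hne : A ≠ ⊤) :
    ∃ N : Subgroup G, N.Normal ∧ A ≤ N ∧ N ≠ ⊤ ∧ ∀ M : Subgroup G, M.Normal → N ≤ M → M ≠ ⊤ → M = N := by
  rcases hA.lt_normal with h | ⟨N₀, hN₀, hle, hlt⟩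
  · exact absurd h hne
  obtain ⟨N, h₀, ⟨hN, hNt⟩, hmax⟩ :=
    Finite.exists_le_maximal (p := fun N : Subgroup G => N.Normal ∧ N ≠ ⊤) (a := N₀) ⟨hN₀, hlt.ne⟩
  exact ⟨N, hN, hle.trans h₀, hNt, fun M hM hNM hMt => le_antisymm (hmax ⟨hM, hMt⟩ hNM) hNM⟩

/-- A minimal configuration: a subnormal subgroup isomorphic to a simple group. -/
theorem simple_cases {A : Subgroup G} (hA : A.IsSubnormal) (hs : IsSimpleGroup ↥A) :
    Cfsg.IsComponent A ∨ ∃ q : ℕ, q.Prime ∧ A ≤ Cfsg.pCore q G := by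
  by_cases hc : ∀ a b : ↥A, a * b = b * a
  · right
    letI : CommGroup ↥A := { (inferInstance : Group ↥A) with mul_comm := hc }
    haveI := hs
    have hq : (Nat.card ↥A).Prime := IsSimpleGroup.prime_card
    haveI := Fact.mk hq
    exact ⟨_, hq, Cfsg.Agent.ComponentsCores.subnormal_pGroup_le_pCore hA
      (IsPGroup.of_card (n := 1) (by rw [pow_one]))⟩
  · exact Or.inl ⟨hA, Cfsg.Agent.ComponentsBasic.isQuasisimple_of_simple hs (fun h => hc h.is_comm.comm)⟩

theorem sylow_le_sup_aux (n : ℕ) : ∀ {G : Type u} [Group G] [Finite G], Nat.card G ≤ n →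
    ∀ (T : Sylow p G) (A B : Subgroup G), A.IsSubnormal → B.IsSubnormal → A ⊔ B = ⊤ →
      (T : Subgroup G) ≤ ((T : Subgroup G) ⊓ A) ⊔ ((T : Subgroup G) ⊓ B) := by
  induction n using Nat.strong_induction_on with
  | _ n IH => ?_
  intro G _ _ hn T A B hA hB h
  -- secondary induction: larger pairs first
  induction hm : (2 * Nat.card G - (Nat.card ↥A + Nat.card ↥B)) using Nat.strong_induction_on
    generalizing A B with
  | _ m IH2 => ?_
  set W := ((T : Subgroup G) ⊓ A) ⊔ ((T : Subgroup G) ⊓ B)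
  by_cases hAt : A = ⊤
  · exact le_sup_of_le_left (le_inf le_rfl (hAt ▸ le_top))
  by_cases hBt : B = ⊤
  · exact le_sup_of_le_right (le_inf le_rfl (hBt ▸ le_top))
  by_cases hAn : A.Normal
  · exact sup_normal_case T A B hB h
  by_cases hBn : B.Normal
  · exact (sup_normal_case T B A hA (by rwa [sup_comm])).trans (sup_comm _ _).le
  -- a proper subnormal join is covered by induction
  have hsub : ∀ X Y : Subgroup G, X.IsSubnormal → Y.IsSubnormal → X ⊔ Y ≠ ⊤ →
      (T : Subgroup G) ⊓ (X ⊔ Y) ≤ ((T : Subgroup G) ⊓ X) ⊔ ((T : Subgroup G) ⊓ Y) := by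
    intro X Y hX hY hne
    have hJ := Cfsg.Agent.SubnormalJoin.isSubnormal_sup hX hY
    have hlt : Nat.card ↥(X ⊔ Y) < Nat.card G := lt_of_le_of_ne (Subgroup.card_le_card_group _)
      fun e => hne (Subgroup.card_eq_iff_eq_top _ |>.mp e)
    have h1 := IH (Nat.card ↥(X ⊔ Y)) (lt_of_lt_of_le hlt hn) le_rfl (sylowOf T hJ)
      (X.subgroupOf (X ⊔ Y)) (Y.subgroupOf (X ⊔ Y)) hX.subgroupOf hY.subgroupOf
      (by rw [← Subgroup.subgroupOf_sup le_sup_left le_sup_right, Subgroup.subgroupOf_self])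
    have h2 := Subgroup.map_mono (f := (X ⊔ Y).subtype) h1
    rw [Subgroup.map_sup, Subgroup.map_inf _ _ _ (Subgroup.subtype_injective _),
      Subgroup.map_inf _ _ _ (Subgroup.subtype_injective _), coe_sylowOf,
      Subgroup.subgroupOf_map_subtype, Subgroup.subgroupOf_map_subtype, Subgroup.subgroupOf_map_subtype,
      inf_of_le_left (le_sup_left : X ≤ X ⊔ Y), inf_of_le_left (le_sup_right : Y ≤ X ⊔ Y)] at h2
    exact h2.trans (sup_le_sup (inf_le_inf_right _ inf_le_left) (inf_le_inf_right _ inf_le_left))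
  obtain ⟨N, hNn, hAN, hNt, hNmax⟩ := exists_maximal_normal hA hAt
  obtain ⟨M, hMn, hBM, hMt, hMmax⟩ := exists_maximal_normal hB hBt
  have hNS : N.IsSubnormal := Subgroup.Normal.isSubnormal hNn
  have hMS : M.IsSubnormal := Subgroup.Normal.isSubnormal hMn
  have hNB : (N ⊓ B).IsSubnormal := hNS.inf hB
  have hMA : (M ⊓ A).IsSubnormal := hMS.inf hA
  by_cases step1 : N ⊓ B ≤ A
  swap
  · have hsn := Cfsg.Agent.SubnormalJoin.isSubnormal_sup hA hNB
    have hlt : Nat.card ↥A < Nat.card ↥(A ⊔ N ⊓ B) := lt_of_le_of_ne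
      (Subgroup.card_le_of_le le_sup_left) fun e =>
        step1 (le_sup_right.trans (Subgroup.eq_of_le_of_card_ge le_sup_left e.ge).ge)
    have h1 := IH2 _ (by
      have := Subgroup.card_le_card_group (A ⊔ N ⊓ B)
      have := Subgroup.card_le_card_group B
      omega) (A ⊔ N ⊓ B) B hsn hB (top_le_iff.mp (h ▸ sup_le_sup_right le_sup_left B)) rfl
    exact h1.trans (sup_le ((hsub A (N ⊓ B) hA hNB
      (fun e => hNt (top_le_iff.mp (e ▸ sup_le hAN inf_le_left)))).trans
        (sup_le_sup_left (inf_le_inf_left _ inf_le_right) _)) le_sup_right)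
  by_cases step2 : M ⊓ A ≤ B
  swap
  · have hsn := Cfsg.Agent.SubnormalJoin.isSubnormal_sup hB hMA
    have hlt : Nat.card ↥B < Nat.card ↥(B ⊔ M ⊓ A) := lt_of_le_of_ne
      (Subgroup.card_le_of_le le_sup_left) fun e =>
        step2 (le_sup_right.trans (Subgroup.eq_of_le_of_card_ge le_sup_left e.ge).ge)
    have h1 := IH2 _ (by
      have := Subgroup.card_le_card_group (B ⊔ M ⊓ A)
      have := Subgroup.card_le_card_group A
      omega) A (B ⊔ M ⊓ A) hA hsn (top_le_iff.mp (h ▸ sup_le_sup_left le_sup_left A)) rfl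
    exact h1.trans (sup_le le_sup_left ((hsub B (M ⊓ A) hB hMA
      (fun e => hMt (top_le_iff.mp (e ▸ sup_le hBM inf_le_left)))).trans
        (sup_le le_sup_right (le_sup_of_le_left (inf_le_inf_left _ inf_le_right)))))
  -- `D = A ⊓ B` is normal
  have hD1 : A ⊓ B = N ⊓ B := le_antisymm (inf_le_inf_right _ hAN) (le_inf step1 inf_le_right)
  have hD2 : A ⊓ B = M ⊓ A := le_antisymm (le_inf (inf_le_right.trans hBM) inf_le_left)
    (le_inf inf_le_right step2)
  have hnorm : ∀ (X Y : Subgroup G), X.Normal → Y ≤ Subgroup.normalizer ((X ⊓ Y : Subgroup G) : Set G) :=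
    fun X Y hX => Cfsg.Agent.ComponentsBasic.le_normalizer_of_normal_subgroupOf inf_le_right (by
      haveI := hX
      rw [Subgroup.inf_subgroupOf_right]
      infer_instance)
  haveI hDn : (A ⊓ B).Normal := by
    refine Subgroup.normalizer_eq_top_iff.mp (top_le_iff.mp (h ▸ sup_le ?_ ?_))
    · rw [hD2]; exact hnorm M A hMn
    · rw [hD1]; exact hnorm N B hNn
  by_cases hD : A ⊓ B = ⊥
  swap
  · -- pass to the quotient
    set π := QuotientGroup.mk' (A ⊓ B)
    have hπ : Function.Surjective π := QuotientGroup.mk'_surjective _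
    have hker : π.ker = A ⊓ B := QuotientGroup.ker_mk' _
    have hcard : Nat.card (G ⧸ (A ⊓ B)) < Nat.card G := by
      rw [← Subgroup.index_eq_card]
      have := (A ⊓ B).card_mul_index
      have h2 : 1 < Nat.card ↥(A ⊓ B) := Subgroup.one_lt_card_iff_ne_bot _ |>.mpr hD
      have h3 : 0 < (A ⊓ B).index := Nat.pos_of_ne_zero Subgroup.index_ne_zero_of_finite
      nlinarith
    have h1 := IH _ (lt_of_lt_of_le hcard hn) le_rfl (T.mapSurjective hπ) (A.map π) (B.map π)
      (Cfsg.Agent.ComponentsBasic.isSubnormal_map_hom_of_surjective hπ hA)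
      (Cfsg.Agent.ComponentsBasic.isSubnormal_map_hom_of_surjective hπ hB)
      (by rw [← Subgroup.map_sup, h, Subgroup.map_top_of_surjective _ hπ])
    have hmap : ∀ X : Subgroup G, A ⊓ B ≤ X →
        (T : Subgroup G).map π ⊓ X.map π ≤ ((T : Subgroup G) ⊓ X).map π := by
      rintro X hX _ ⟨⟨t, ht, rfl⟩, x, hx, hxt⟩
      refine ⟨t, ⟨ht, ?_⟩, rfl⟩
      have h4 : x⁻¹ * t ∈ π.ker := by rw [MonoidHom.mem_ker, map_mul, map_inv, hxt, inv_mul_cancel]
      rw [hker] at h4
      have := mul_mem hx (hX h4)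
      rwa [mul_inv_cancel_left] at this
    have h2 : (T : Subgroup G).map π ≤ W.map π := by
      refine h1.trans ?_
      rw [Subgroup.map_sup]
      exact sup_le_sup (hmap A inf_le_left) (hmap B inf_le_right)
    intro t ht
    obtain ⟨w, hw, hwt⟩ := h2 ⟨t, ht, rfl⟩
    have h4 : w⁻¹ * t ∈ π.ker := by rw [MonoidHom.mem_ker, map_mul, map_inv, hwt, inv_mul_cancel]
    rw [hker] at h4
    have hWT : W ≤ (T : Subgroup G) := sup_le inf_le_left inf_le_left
    have h5 : w⁻¹ * t ∈ (T : Subgroup G) ⊓ A := ⟨(T : Subgroup G).mul_mem ((T : Subgroup G).inv_mem (hWT hw)) ht, h4.1⟩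
    have := mul_mem hw (Subgroup.mem_sup_left (T := (T : Subgroup G) ⊓ B) h5)
    rwa [mul_inv_cancel_left] at this
  -- `A` and `B` are simple
  have hsimple : ∀ (X Y K : Subgroup G), X.IsSubnormal → Y.IsSubnormal → K.Normal → X ≤ K → K ≠ ⊤ →
      (∀ L : Subgroup G, L.Normal → K ≤ L → L ≠ ⊤ → L = K) → X ⊔ Y = ⊤ → K ⊓ Y = ⊥ →
      IsSimpleGroup ↥Y := by
    intro X Y K hX hY hK hXK hKt hKmax hXY hKY
    haveI := hK
    let f : ↥Y →* G ⧸ K := (QuotientGroup.mk' K).comp Y.subtype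
    have hinj : Function.Injective f := by
      rw [← MonoidHom.ker_eq_bot_iff, Subgroup.eq_bot_iff_forall]
      intro y hy
      have h1 : (y : G) ∈ K ⊓ Y := ⟨(QuotientGroup.eq_one_iff (y : G)).mp hy, y.2⟩
      rw [hKY] at h1
      exact Subtype.ext h1
    have hsurj : Function.Surjective f := by
      intro q
      obtain ⟨g, rfl⟩ := QuotientGroup.mk'_surjective K q
      have hg : g ∈ Y ⊔ K := by
        have h1 : X ⊔ Y ≤ Y ⊔ K := sup_le (le_sup_of_le_right hXK) le_sup_left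
        rw [hXY] at h1
        exact h1 trivial
      rw [← SetLike.mem_coe, Subgroup.mul_normal] at hg
      obtain ⟨b, hb, a, ha, rfl⟩ := Set.mem_mul.mp hg
      exact ⟨⟨b, hb⟩, by simp [f, (QuotientGroup.eq_one_iff a).mpr ha]⟩
    haveI : Nontrivial (G ⧸ K) := QuotientGroup.nontrivial_iff.mpr hKt
    haveI : IsSimpleGroup (G ⧸ K) := ⟨fun L hL => by
      by_cases hLt : L.comap (QuotientGroup.mk' K) = ⊤
      · right
        rw [← Subgroup.map_comap_eq_self_of_surjective (QuotientGroup.mk'_surjective K) L, hLt,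
          Subgroup.map_top_of_surjective _ (QuotientGroup.mk'_surjective K)]
      · left
        have h2 := hKmax _ (hL.comap _) (QuotientGroup.le_comap_mk' K L) hLt
        rw [← Subgroup.map_comap_eq_self_of_surjective (QuotientGroup.mk'_surjective K) L, h2,
          QuotientGroup.map_mk'_self]⟩
    haveI : Nontrivial ↥Y := (MulEquiv.ofBijective f ⟨hinj, hsurj⟩).toEquiv.nontrivial
    exact IsSimpleGroup.isSimpleGroup_of_surjective (MulEquiv.ofBijective f ⟨hinj, hsurj⟩).symm.toMonoidHom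
      (MulEquiv.ofBijective f ⟨hinj, hsurj⟩).symm.surjective
  have hBs : IsSimpleGroup ↥B := hsimple A B N hA hB hNn hAN hNt hNmax h (hD1 ▸ hD)
  have hAs : IsSimpleGroup ↥A := hsimple B A M hB hA hMn hBM hMt hMmax (by rwa [sup_comm]) (hD2 ▸ hD)
  -- commuting or one inside the other makes a factor normal
  have hcomm : ∀ X Y : Subgroup G, X ⊔ Y = ⊤ → ⁅X, Y⁆ = ⊥ → X.Normal := by
    intro X Y hXY hc
    refine Subgroup.normalizer_eq_top_iff.mp (top_le_iff.mp (hXY ▸ sup_le Subgroup.le_normalizer ?_))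
    refine le_trans ?_ (Subgroup.centralizer_le_normalizer _)
    rw [← Subgroup.commutator_eq_bot_iff_le_centralizer, Subgroup.commutator_comm]
    exact hc
  rcases simple_cases hA hAs with hAc | ⟨q, hq, hAq⟩
  · rcases Cfsg.Agent.ComponentsBasic.component_le_or_commute hAc hB with h1 | h1
    · exact absurd (le_antisymm le_top (h ▸ sup_le h1 le_rfl)) hBt
    · exact absurd (hcomm A B h h1) hAn
  rcases simple_cases hB hBs with hBc | ⟨r, hr, hBr⟩
  · rcases Cfsg.Agent.ComponentsBasic.component_le_or_commute hBc hA with h1 | h1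
    · exact absurd (le_antisymm le_top (h ▸ sup_le le_rfl h1)) hAt
    · exact absurd (hcomm B A (by rwa [sup_comm]) h1) hBn
  by_cases hqr : q = r
  · subst hqr
    haveI := Fact.mk hq
    have hG : Cfsg.pCore q G = ⊤ := top_le_iff.mp (h ▸ sup_le hAq hBr)
    have hGp : IsPGroup q G := fun g => by
      obtain ⟨k, hk⟩ := (Cfsg.Agent.ComponentsCores.isPGroup_pCore q) ⟨g, hG ▸ trivial⟩
      exact ⟨k, congrArg Subtype.val hk⟩
    by_cases hqp : q = p
    · subst hqp
      have hTt : (T : Subgroup G) = ⊤ :=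
        (T.3 (hGp.to_subgroup ⊤) le_top).symm
      show (T : Subgroup G) ≤ W
      rw [hTt]
      refine le_of_eq_of_le h.symm ?_
      simp [W, hTt]
    · intro t ht
      obtain ⟨k, hk⟩ := IsPGroup.iff_orderOf.mp hGp t
      obtain ⟨l, hl⟩ := IsPGroup.iff_orderOf.mp T.2 ⟨t, ht⟩
      rw [← Subgroup.orderOf_coe] at hl
      rcases Nat.eq_zero_or_pos k with rfl | hk0
      · rw [pow_zero, orderOf_eq_one_iff] at hk
        rw [hk]; exact W.one_mem
      · exfalso
        have hd : q ∣ p ^ l := by rw [← hl, show orderOf t = q ^ k from hk]; exact dvd_pow_self q hk0.ne'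
        exact hqp ((Nat.prime_dvd_prime_iff_eq hq Fact.out).mp (hq.dvd_of_dvd_pow hd))
  · refine absurd (hcomm A B h ?_) hAn
    rw [Subgroup.commutator_eq_bot_iff_le_centralizer]
    intro a ha
    rw [Subgroup.mem_centralizer_iff]
    intro b hb
    exact (Cfsg.Agent.ComponentsFitting.commute_pCore hq hr hqr a b (hAq ha) (hBr hb)).symm.eq

/-- `T ⊓ ⟨A, B⟩ = ⟨T ⊓ A, T ⊓ B⟩` for subnormal `A`, `B`. -/
theorem sylow_inf_sup (T : Sylow p G) {A B : Subgroup G} (hA : A.IsSubnormal) (hB : B.IsSubnormal) :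
    (T : Subgroup G) ⊓ (A ⊔ B) = ((T : Subgroup G) ⊓ A) ⊔ ((T : Subgroup G) ⊓ B) := by
  refine le_antisymm ?_ (sup_le (inf_le_inf_left _ le_sup_left) (inf_le_inf_left _ le_sup_right))
  have hJ := Cfsg.Agent.SubnormalJoin.isSubnormal_sup hA hB
  have h1 := sylow_le_sup_aux (Nat.card ↥(A ⊔ B)) le_rfl (sylowOf T hJ)
    (A.subgroupOf (A ⊔ B)) (B.subgroupOf (A ⊔ B)) hA.subgroupOf hB.subgroupOf
    (by rw [← Subgroup.subgroupOf_sup le_sup_left le_sup_right, Subgroup.subgroupOf_self])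
  have h2 := Subgroup.map_mono (f := (A ⊔ B).subtype) h1
  rw [Subgroup.map_sup, Subgroup.map_inf _ _ _ (Subgroup.subtype_injective _),
    Subgroup.map_inf _ _ _ (Subgroup.subtype_injective _), coe_sylowOf,
    Subgroup.subgroupOf_map_subtype, Subgroup.subgroupOf_map_subtype, Subgroup.subgroupOf_map_subtype,
    inf_of_le_left (le_sup_left : A ≤ A ⊔ B), inf_of_le_left (le_sup_right : B ≤ A ⊔ B)] at h2
  exact h2.trans (sup_le_sup (inf_le_inf_right _ inf_le_left) (inf_le_inf_right _ inf_le_left))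

end Cfsg.Agent.SubnormalSylow56
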