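import Mathlib
import Cfsg.Prelude.Def_TwoFusion
import Cfsg.Agent.Lib.PSL2FixSylow7
import Cfsg.Agent.Lib.SubnormalSylow56
import Cfsg.Agent.Lib.PSLSimple

/-!
Simple groups with abelian Sylow `2`-subgroups having an involution centralizer `⟨t⟩ × E` with
`PSL(2,q) ◁ E`: structure of the Sylow `2`-subgroup and of its normalizer, and automorphisms fixing it.
-/

set_option autoImplicit false
set_option linter.all false

namespace Cfsg.Agent.JRStructure7

open Subgroup
open scoped IsMulCommutative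
open Cfsg.Agent.AutPSLBasic (P)

variable {G : Type*} [Group G] [Finite G]

theorem eq_one_of_normalizer_centralizes [IsSimpleGroup G] (hG : ¬ IsMulCommutative G) {p : ℕ} [Fact p.Prime]
    (S : Sylow p G) [IsMulCommutative (S : Subgroup G)] {x : G} (hx : x ∈ (S : Subgroup G))
    (h : ∀ n ∈ normalizer ((S : Subgroup G) : Set G), n * x = x * n) : x = 1 := by
  have key : ∀ (k : ℕ) (g₀ : G), g₀⁻¹ * x ^ k * g₀ ∈ (S : Subgroup G) → g₀⁻¹ * x ^ k * g₀ = x ^ k := by
    intro k g₀ hk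
    obtain ⟨n, hn, hn'⟩ := S.conj_eq_normalizer_conj_of_mem (x ^ k) g₀ (pow_mem hx k) hk
    exact hn'.trans (Commute.inv_mul_cancel ((Commute.pow_right (h n hn) k)))
  have htr := MonoidHom.transfer_eq_pow (H := (S : Subgroup G)) (MonoidHom.id (S : Subgroup G)) x key
  set f := MonoidHom.transfer (H := (S : Subgroup G)) (MonoidHom.id (S : Subgroup G))
  rcases (inferInstance : f.ker.Normal).eq_bot_or_eq_top with hk | hk
  · refine absurd ⟨⟨fun a b => (MonoidHom.ker_eq_bot_iff f).1 hk ?_⟩⟩ hG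
    rw [map_mul, map_mul]
    exact mul_comm _ _
  · have h1 : f x = 1 := by rw [← MonoidHom.mem_ker, hk]; trivial
    rw [htr] at h1
    have h2 : x ^ (S : Subgroup G).index = 1 := congrArg Subtype.val h1
    obtain ⟨k, hk'⟩ := S.isPGroup' ⟨x, hx⟩
    have h3 : x ^ p ^ k = 1 := congrArg Subtype.val hk'
    have hc : Nat.Coprime (p ^ k) (S : Subgroup G).index :=
      Nat.Coprime.pow_left k ((Fact.out : p.Prime).coprime_iff_not_dvd.2 S.not_dvd_index)
    rw [← pow_one x, ← hc]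
    exact pow_gcd_eq_one.2 ⟨h3, h2⟩

/-- Powers of an automorphism are computed along a conjugating equivalence. -/
lemma restrict_pow {H : Type*} [Group H] {N : Subgroup G} (ε : N ≃* H) (φ : MulAut G) (α : MulAut H)
    (h : ∀ y : H, ((ε.symm (α y) : N) : G) = φ ((ε.symm y : N) : G)) :
    ∀ (m : ℕ) (y : H), ((ε.symm ((α ^ m) y) : N) : G) = (φ ^ m) ((ε.symm y : N) : G) := by
  intro m
  induction m with
  | zero => intro y; simp
  | succ m ih => intro y; rw [pow_succ', pow_succ', MulAut.mul_apply, MulAut.mul_apply, h, ih]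

/-- The hypotheses. -/
structure Data (G : Type*) [Group G] [Finite G] where
  t : G
  ht : orderOf t = 2
  E : Subgroup G
  hC : Cfsg.IsInternalDirectProduct (zpowers t) E (centralizer ({t} : Set G))
  S : Sylow 2 G
  htS : t ∈ (S : Subgroup G)
  hSc : IsMulCommutative (S : Subgroup G)

namespace Data

variable (D : Data G)

/-- The centralizer of `t`. -/
abbrev C : Subgroup G := centralizer ({D.t} : Set G)

lemma mem_C {g : G} : g ∈ D.C ↔ g * D.t = D.t * g := by
  rw [Data.C, mem_centralizer_singleton_iff]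

lemma t_sq : D.t * D.t = 1 := by
  rw [← pow_two, ← D.ht, pow_orderOf_eq_one]

lemma t_ne_one : D.t ≠ 1 := fun h => by
  have := D.ht; rw [h, orderOf_one] at this; omega

lemma mem_zpowers_t {a : G} (ha : a ∈ zpowers D.t) : a = 1 ∨ a = D.t := by
  obtain ⟨i, rfl⟩ := mem_zpowers_iff.1 ha
  have hi := zpow_mod_orderOf D.t i
  rw [← hi, D.ht]
  rcases Int.emod_two_eq i with h | h <;> norm_num [h]

lemma decomp {c : G} (hc : c ∈ D.C) : ∃ a e : G, (a = 1 ∨ a = D.t) ∧ e ∈ D.E ∧ c = a * e := by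
  rw [Data.C, ← D.hC.2.2.2.2] at hc
  have hn : D.E ≤ normalizer ((zpowers D.t : Subgroup G) : Set G) := by
    refine le_trans (fun e he => ?_) (centralizer_le_normalizer _)
    rw [mem_centralizer_iff]
    exact fun a ha => D.hC.2.2.1 a ha e he
  rw [← SetLike.mem_coe, coe_mul_of_right_le_normalizer_left _ _ hn, Set.mem_mul] at hc
  obtain ⟨a, ha, e, he, rfl⟩ := hc
  exact ⟨a, e, D.mem_zpowers_t ha, he, rfl⟩

lemma t_not_mem_E : D.t ∉ D.E := fun h => D.t_ne_one (by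
  have h' : D.t ∈ zpowers D.t ⊓ D.E := ⟨mem_zpowers _, h⟩
  rwa [D.hC.2.2.2.1, mem_bot] at h')

lemma scomm {x y : G} (hx : x ∈ (D.S : Subgroup G)) (hy : y ∈ (D.S : Subgroup G)) : x * y = y * x :=
  congrArg Subtype.val (D.hSc.is_comm.comm ⟨x, hx⟩ ⟨y, hy⟩)

lemma S_le_C : (D.S : Subgroup G) ≤ D.C := fun x hx => D.mem_C.2 (D.scomm hx D.htS)

end Data

/-- The hypotheses together with the normal subgroup `PSL(2,q)` of `E`. -/
structure Ext (G : Type*) [Group G] [Finite G] (F : Type*) [Field F] [Fintype F] extends Data G where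
  hodd : Odd (Fintype.card F)
  hF3 : 3 < Fintype.card F
  N : Subgroup G
  hNE : N ≤ E
  hNn : ∀ e ∈ E, ∀ n ∈ N, e * n * e⁻¹ ∈ N
  hNc : ∀ e ∈ E, (∀ n ∈ N, e * n = n * e) → e = 1
  ε : N ≃* P 2 F

namespace Ext

variable {F : Type*} [Field F] [Fintype F] (D : Ext G F)
include D

lemma N_le_C : D.N ≤ D.C := fun n hn => D.hC.2.1 (D.hNE hn)

lemma conj_N {c n : G} (hc : c ∈ D.C) (hn : n ∈ D.N) : c * n * c⁻¹ ∈ D.N := by
  obtain ⟨a, e, ha, he, rfl⟩ := D.toData.decomp hc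
  have h1 := D.hNn e he n hn
  have h2 : a * (e * n * e⁻¹) = (e * n * e⁻¹) * a := by
    rcases ha with rfl | rfl
    · simp
    · exact D.hC.2.2.1 _ (mem_zpowers _) _ (D.hNE h1)
  have : a * e * n * (a * e)⁻¹ = a * (e * n * e⁻¹) * a⁻¹ := by group
  rw [this, h2]
  simpa using h1

lemma cent_N {c : G} (hc : c ∈ D.C) (h : ∀ n ∈ D.N, c * n = n * c) : c = 1 ∨ c = D.t := by
  obtain ⟨a, e, ha, he, rfl⟩ := D.toData.decomp hc
  have : e = 1 := by
    refine D.hNc e he fun n hn => ?_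
    have h2 : a * n = n * a := by
      rcases ha with rfl | rfl
      · simp
      · exact D.hC.2.2.1 _ (mem_zpowers _) _ (D.hNE hn)
    apply mul_left_cancel (a := a)
    rw [← mul_assoc, h n hn, ← mul_assoc a n e, h2, mul_assoc]
  rw [this, mul_one]
  exact ha

lemma q4 : 4 ≤ Nat.card F := by rw [Nat.card_eq_fintype_card]; exact D.hF3

lemma simpleP : IsSimpleGroup (P 2 F) := PSLSimple.isSimpleGroup_PSL_fin' le_rfl fun _ => D.q4

lemma noncommP : ¬ IsMulCommutative (P 2 F) := fun h =>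
  PSLSimple.not_isMulCommutative_PSL_fin (F := F) le_rfl (fun _ => D.q4) fun a b => h.is_comm.comm a b

lemma exists_sylowP : ∃ V : Sylow 2 (P 2 F),
    ∀ x : D.N, D.ε x ∈ (V : Subgroup (P 2 F)) ↔ (x : G) ∈ (D.S : Subgroup G) := by
  have : Fact (Nat.Prime 2) := ⟨Nat.prime_two⟩
  haveI : (D.N.subgroupOf D.C).Normal := ⟨fun n hn c => D.conj_N c.2 hn⟩
  let T : Sylow 2 D.C := D.S.subtype D.toData.S_le_C
  let U := SubnormalSylow56.sylowOf T (Subgroup.Normal.isSubnormal (H := D.N.subgroupOf D.C) inferInstance)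
  let θ : ↥(D.N.subgroupOf D.C) ≃* P 2 F := (subgroupOfEquivOfLe D.N_le_C).trans D.ε
  refine ⟨U.mapSurjective (f := θ.toMonoidHom) (show Function.Surjective θ.toMonoidHom from θ.surjective), fun x => ?_⟩
  show D.ε x ∈ (U : Subgroup ↥(D.N.subgroupOf D.C)).map θ.toMonoidHom ↔ _
  rw [Subgroup.mem_map]
  constructor
  · rintro ⟨y, hy, he⟩
    have : subgroupOfEquivOfLe D.N_le_C y = x := D.ε.injective he
    rw [← this]
    exact hy
  · intro hx
    exact ⟨(subgroupOfEquivOfLe D.N_le_C).symm x, hx,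
      congrArg D.ε ((subgroupOfEquivOfLe D.N_le_C).apply_symm_apply x)⟩

/-- The Sylow subgroup of `N`. -/
noncomputable def V : Sylow 2 (P 2 F) := D.exists_sylowP.choose

lemma mem_V (x : D.N) : D.ε x ∈ (D.V : Subgroup (P 2 F)) ↔ (x : G) ∈ (D.S : Subgroup G) :=
  D.exists_sylowP.choose_spec x

lemma V_comm : IsMulCommutative (D.V : Subgroup (P 2 F)) := by
  refine ⟨⟨fun a b => ?_⟩⟩
  obtain ⟨x, hx⟩ := D.ε.surjective (a : P 2 F)
  obtain ⟨y, hy⟩ := D.ε.surjective (b : P 2 F)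
  have hxS := (D.mem_V x).1 (hx ▸ a.2)
  have hyS := (D.mem_V y).1 (hy ▸ b.2)
  apply Subtype.ext
  show (a : P 2 F) * b = b * a
  rw [← hx, ← hy, ← map_mul, ← map_mul]
  exact congrArg D.ε (Subtype.ext (D.toData.scomm hxS hyS))

lemma q_mod : Nat.card F % 8 = 3 ∨ Nat.card F % 8 = 5 := PSL2FixSylow7.mod_eight D.hodd D.V D.V_comm

lemma klein : IsKleinFour (D.V : Subgroup (P 2 F)) := PSL2SylowTwo.sylow_two_klein D.q_mod D.V

/-- An automorphism of `2`-power order fixing `S` acts on `N` as an element of `S ∩ N`. -/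
theorem act_N (φ : MulAut G) {k : ℕ} (hφ : φ ^ 2 ^ k = 1) (hN : ∀ n ∈ D.N, φ n ∈ D.N)
    (hS : ∀ s ∈ (D.S : Subgroup G), φ s = s) :
    ∃ v ∈ (D.S : Subgroup G), v ∈ D.N ∧ ∀ n ∈ D.N, φ n = v * n * v⁻¹ := by
  let f : D.N →* D.N := (φ.toMonoidHom.comp D.N.subtype).codRestrict D.N fun n => hN n n.2
  have hf : Function.Bijective f := by
    apply Finite.injective_iff_bijective.1
    intro a b h
    exact Subtype.ext (φ.injective (congrArg Subtype.val h))
  let α : MulAut (P 2 F) := (D.ε.symm.trans (MulEquiv.ofBijective f hf)).trans D.ε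
  have hstep : ∀ y, ((D.ε.symm (α y) : D.N) : G) = φ ((D.ε.symm y : D.N) : G) := fun y =>
    congrArg Subtype.val (D.ε.symm_apply_apply (f (D.ε.symm y)))
  have hα : α ^ 2 ^ k = 1 := by
    ext y
    apply D.ε.symm.injective
    apply Subtype.ext
    rw [restrict_pow D.ε φ α hstep, hφ]
    rfl
  have hfix : ∀ y ∈ (D.V : Subgroup (P 2 F)), α y = y := by
    intro y hy
    apply D.ε.symm.injective
    apply Subtype.ext
    rw [hstep]
    exact hS _ ((D.mem_V _).1 (by rwa [MulEquiv.apply_symm_apply]))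
  obtain ⟨y, hy, hyα⟩ := PSL2FixSylow7.fixed_inner D.hodd D.V D.V_comm α hα hfix
  refine ⟨(D.ε.symm y : D.N), (D.mem_V _).1 (by rwa [MulEquiv.apply_symm_apply]),
    (D.ε.symm y).2, fun n hn => ?_⟩
  have h := hstep (D.ε ⟨n, hn⟩)
  rw [hyα, MulAut.conj_apply] at h
  simpa using h.symm

lemma S_decomp {s : G} (hs : s ∈ (D.S : Subgroup G)) :
    ∃ a v : G, (a = 1 ∨ a = D.t) ∧ v ∈ (D.S : Subgroup G) ∧ v ∈ D.N ∧ s = a * v := by
  obtain ⟨k, hk⟩ := D.S.isPGroup' ⟨s, hs⟩
  obtain ⟨v, hvS, hvN, hv⟩ := D.act_N (MulAut.conj s) (k := k)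
    (by rw [← map_pow, show s ^ 2 ^ k = 1 from congrArg Subtype.val hk, map_one])
    (fun n hn => D.conj_N (D.toData.S_le_C hs) hn)
    (fun x hx => by rw [MulAut.conj_apply, D.toData.scomm hs hx]; group)
  refine ⟨s * v⁻¹, v, D.cent_N (mul_mem (D.toData.S_le_C hs) (inv_mem (D.toData.S_le_C hvS))) ?_, hvS,
    hvN, by group⟩
  intro n hn
  have hm : v⁻¹ * n * v ∈ D.N := mul_mem (mul_mem (inv_mem hvN) hn) hvN
  have h := hv _ hm
  rw [MulAut.conj_apply] at h
  calc s * v⁻¹ * n = s * (v⁻¹ * n * v) * s⁻¹ * (s * v⁻¹) := by group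
    _ = v * (v⁻¹ * n * v) * v⁻¹ * (s * v⁻¹) := by rw [h]
    _ = n * (s * v⁻¹) := by group

lemma sq_one {s : G} (hs : s ∈ (D.S : Subgroup G)) : s * s = 1 := by
  obtain ⟨a, v, ha, hvS, hvN, rfl⟩ := D.S_decomp hs
  have hv2 : v * v = 1 := by
    have hvV := (D.mem_V ⟨v, hvN⟩).2 hvS
    haveI := D.klein
    have := congrArg Subtype.val (IsKleinFour.mul_self (⟨_, hvV⟩ : (D.V : Subgroup (P 2 F))))
    change D.ε ⟨v, hvN⟩ * D.ε ⟨v, hvN⟩ = 1 at this
    rw [← map_mul, ← map_one D.ε] at this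
    exact congrArg Subtype.val (D.ε.injective this)
  rcases ha with rfl | rfl
  · simpa using hv2
  · rw [mul_assoc, ← mul_assoc v, D.toData.scomm hvS D.htS, mul_assoc D.t v v, hv2, mul_one, D.toData.t_sq]

lemma card_S : Nat.card (D.S : Subgroup G) = 8 := by
  haveI := D.klein
  let g : zpowers D.t × (D.V : Subgroup (P 2 F)) → (D.S : Subgroup G) := fun x =>
    ⟨(x.1 : G) * ((D.ε.symm (x.2 : P 2 F) : D.N) : G), mul_mem (zpowers_le.2 D.htS x.1.2)
      ((D.mem_V _).1 (by rw [MulEquiv.apply_symm_apply]; exact x.2.2))⟩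
  have hg : Function.Bijective g := by
    constructor
    · rintro ⟨a, v⟩ ⟨a', v'⟩ h
      have h1 : (a : G) * ((D.ε.symm (v : P 2 F) : D.N) : G) = a' * ((D.ε.symm (v' : P 2 F) : D.N) : G) :=
        congrArg Subtype.val h
      have h2 : (a' : G)⁻¹ * a = ((D.ε.symm (v' : P 2 F) : D.N) : G) * ((D.ε.symm (v : P 2 F) : D.N) : G)⁻¹ := by
        rw [eq_mul_inv_iff_mul_eq, mul_assoc, h1, inv_mul_cancel_left]
      have h3 : (a' : G)⁻¹ * a ∈ zpowers D.t ⊓ D.E := by
        refine Subgroup.mem_inf.2 ⟨mul_mem (inv_mem a'.2) a.2, ?_⟩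
        rw [h2]
        exact mul_mem (D.hNE (D.ε.symm _).2) (inv_mem (D.hNE (D.ε.symm _).2))
      rw [D.hC.2.2.2.1, mem_bot, inv_mul_eq_one] at h3
      refine Prod.ext (Subtype.ext h3.symm) (Subtype.ext (D.ε.symm.injective (Subtype.ext ?_)))
      rw [← h3] at h1
      exact mul_left_cancel h1
    · rintro ⟨s, hs⟩
      obtain ⟨a, v, ha, hvS, hvN, rfl⟩ := D.S_decomp hs
      refine ⟨⟨⟨a, ?_⟩, ⟨D.ε ⟨v, hvN⟩, (D.mem_V _).2 hvS⟩⟩, Subtype.ext ?_⟩
      · rcases ha with rfl | rfl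
        · exact one_mem _
        · exact mem_zpowers _
      · simp [g]
  rw [← Nat.card_eq_of_bijective g hg, Nat.card_prod, Nat.card_zpowers, D.ht, IsKleinFour.card_four]

/-- An automorphism of `2`-power order fixing `S` elementwise agrees on `C` with conjugation by an
element of `S`. -/
theorem fix_C (φ : MulAut G) {k : ℕ} (hφ : φ ^ 2 ^ k = 1) (hS : ∀ s ∈ (D.S : Subgroup G), φ s = s) :
    ∃ v ∈ (D.S : Subgroup G), ∀ c ∈ D.C, φ c = v * c * v⁻¹ := by
  classical
  have hφC : ∀ c ∈ D.C, φ c ∈ D.C := fun c hc => by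
    rw [D.toData.mem_C] at hc ⊢
    have h := congrArg φ hc
    rwa [map_mul, map_mul, hS _ D.htS] at h
  have hN : ∀ n ∈ D.N, φ n ∈ D.N := by
    set M := D.N.map φ.toMonoidHom with hM
    have hsurj : D.C.map φ.toMonoidHom = D.C :=
      eq_of_le_of_card_ge (Subgroup.map_le_iff_le_comap.2 hφC)
        (le_of_eq (Subgroup.card_map_of_injective φ.injective).symm)
    have hMn : ∀ c ∈ D.C, ∀ m ∈ M, c * m * c⁻¹ ∈ M := by
      intro c hc m hm
      obtain ⟨n, hn, rfl⟩ := hm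
      rw [← hsurj] at hc
      obtain ⟨c', hc', rfl⟩ := hc
      exact ⟨_, D.conj_N hc' hn, by simp⟩
    haveI := D.simpleP
    haveI : Nontrivial D.N := D.ε.toEquiv.nontrivial
    haveI : IsSimpleGroup D.N := IsSimpleGroup.isSimpleGroup_of_surjective
      (f := D.ε.symm.toMonoidHom) D.ε.symm.surjective
    have hn : (M.subgroupOf D.N).Normal := ⟨fun m hm n => hMn _ (D.N_le_C n.2) _ hm⟩
    rcases hn.eq_bot_or_eq_top with h | h
    · exfalso
      have hsub : ∀ m ∈ M, m = 1 ∨ m = D.t := by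
        intro m hm
        obtain ⟨m', hm', rfl⟩ := hm
        have hmC : φ.toMonoidHom m' ∈ D.C := hφC _ (D.N_le_C hm')
        refine D.cent_N hmC fun n hn' => ?_
        have hx : φ.toMonoidHom m' * n * (φ.toMonoidHom m')⁻¹ * n⁻¹ ∈ D.N :=
          mul_mem (D.conj_N hmC hn') (inv_mem hn')
        have hy : φ.toMonoidHom m' * n * (φ.toMonoidHom m')⁻¹ * n⁻¹ ∈ M := by
          rw [mul_assoc, mul_assoc, ← mul_assoc n]
          exact mul_mem ⟨m', hm', rfl⟩ (hMn n (D.N_le_C hn') _ (inv_mem ⟨m', hm', rfl⟩))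
        have hbot : (⟨_, hx⟩ : D.N) ∈ (⊥ : Subgroup D.N) := h ▸ hy
        rw [mem_bot, Subtype.ext_iff, OneMemClass.coe_one, mul_inv_eq_one, mul_inv_eq_iff_eq_mul] at hbot
        exact hbot
      have hle : M ≤ zpowers D.t := fun m hm => by
        rcases hsub m hm with rfl | rfl
        · exact one_mem _
        · exact mem_zpowers _
      have h2 : Nat.card D.N ≤ 2 := by
        rw [← Subgroup.card_map_of_injective (f := φ.toMonoidHom) (K := D.N) φ.injective, ← D.ht,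
          ← Nat.card_zpowers]
        exact Subgroup.card_le_of_le hle
      have h4 : 4 ≤ Nat.card D.N := by
        haveI := D.klein
        rw [Nat.card_congr D.ε.toEquiv, ← IsKleinFour.card_four (G := (D.V : Subgroup (P 2 F)))]
        exact Subgroup.card_le_card_group _
      omega
    · rw [subgroupOf_eq_top] at h
      have hMeq : D.N = M := eq_of_le_of_card_ge h (le_of_eq (Subgroup.card_map_of_injective φ.injective))
      intro n hn'
      rw [hMeq]
      exact ⟨n, hn', rfl⟩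
  obtain ⟨v, hvS, hvN, hv⟩ := D.act_N φ hφ hN hS
  refine ⟨v, hvS, ?_⟩
  set ψ : MulAut G := (MulAut.conj v)⁻¹ * φ with hψ
  have hψN : ∀ n ∈ D.N, ψ n = n := fun n hn => by
    rw [hψ, MulAut.mul_apply, hv n hn, ← MulAut.conj_apply, MulAut.inv_apply_self]
  have hψS : ∀ s ∈ (D.S : Subgroup G), ψ s = s := fun s hs => by
    rw [hψ, MulAut.mul_apply, hS s hs, MulAut.conj_inv_apply]
    rw [mul_assoc, D.toData.scomm hs hvS]; group
  have hψC : ∀ c ∈ D.C, c⁻¹ * ψ c ∈ zpowers D.t := by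
    intro c hc
    have hψc : ψ c ∈ D.C := by
      rw [hψ, MulAut.mul_apply, MulAut.conj_inv_apply]
      exact mul_mem (mul_mem (inv_mem (D.toData.S_le_C hvS)) (hφC c hc)) (D.toData.S_le_C hvS)
    rcases D.cent_N (mul_mem (inv_mem hc) hψc) (fun n hn => by
      have h := hψN _ (D.conj_N hc hn)
      rw [map_mul, map_mul, map_inv, hψN n hn] at h
      rw [← mul_inv_eq_iff_eq_mul]
      calc c⁻¹ * ψ c * n * (c⁻¹ * ψ c)⁻¹ = c⁻¹ * (ψ c * n * (ψ c)⁻¹) * c := by group
        _ = n := by rw [h]; group) with h | h <;> rw [h]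
    · exact one_mem _
    · exact mem_zpowers _
  let d : D.C →* zpowers D.t := MonoidHom.mk' (fun c => ⟨(c : G)⁻¹ * ψ c, hψC _ c.2⟩) (fun x y => by
    apply Subtype.ext
    show ((x : G) * y)⁻¹ * ψ (x * y) = ((x : G)⁻¹ * ψ x) * ((y : G)⁻¹ * ψ y)
    have hxy : (y : G)⁻¹ * ((x : G)⁻¹ * ψ x) * y = (x : G)⁻¹ * ψ x := by
      rcases D.toData.mem_zpowers_t (hψC _ x.2) with h | h <;> rw [h]
      · group
      · have hy := D.toData.mem_C.1 y.2
        rw [mul_assoc, ← hy]; group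
    calc ((x : G) * y)⁻¹ * ψ (x * y) = ((y : G)⁻¹ * ((x : G)⁻¹ * ψ x) * y) * ((y : G)⁻¹ * ψ y) := by
          rw [map_mul]; group
      _ = _ := by rw [hxy])
  have : Fact (Nat.Prime 2) := ⟨Nat.prime_two⟩
  have hker : (D.S : Subgroup G).subgroupOf D.C ≤ d.ker := fun c hc => by
    rw [MonoidHom.mem_ker]
    apply Subtype.ext
    show (c : G)⁻¹ * ψ c = 1
    rw [hψS (c : G) (Subgroup.mem_subgroupOf.1 hc), inv_mul_cancel]
  have h1 : ¬ 2 ∣ d.ker.index := fun hd =>
    (D.S.subtype D.toData.S_le_C).not_dvd_index (hd.trans (Subgroup.index_dvd_of_le hker))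
  have h2 : Nat.card d.range ∣ 2 := by
    have h := Subgroup.card_subgroup_dvd_card d.range
    rwa [Nat.card_zpowers, D.ht] at h
  rw [Subgroup.index_ker] at h1
  have h3 : Nat.card d.range = 1 := (Nat.prime_two.eq_one_or_self_of_dvd _ h2).resolve_right fun h => h1 (by rw [h])
  intro c hc
  have h4 : d ⟨c, hc⟩ ∈ (⊥ : Subgroup (zpowers D.t)) := (Subgroup.eq_bot_of_card_eq _ h3) ▸ ⟨_, rfl⟩
  have h5 : c⁻¹ * ψ c = 1 := congrArg Subtype.val (mem_bot.1 h4)
  rw [inv_mul_eq_one, hψ, MulAut.mul_apply, MulAut.conj_inv_apply] at h5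
  conv_rhs => rw [h5]
  group

end Ext

end Cfsg.Agent.JRStructure7
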