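import Mathlib
import Cfsg.Agent.Lib.JRStructure7

/-!
The normalizer of the Sylow `2`-subgroup induces a Frobenius group of order `21` on it; consequences
for automorphisms fixing it and for central extensions.
-/

set_option autoImplicit false
set_option linter.all false

namespace Cfsg.Agent.JRStructure7

open Subgroup
open scoped IsMulCommutative
open Cfsg.Agent.AutPSLBasic (P)

variable {G : Type*} [Group G] [Finite G]

namespace Ext

variable {F : Type*} [Field F] [Fintype F] (D : Ext G F)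
include D

/-- The action of the normalizer on `S`. -/
noncomputable def act : (normalizer ((D.S : Subgroup G) : Set G)) →* MulAut (D.S : Subgroup G) :=
  (D.S : Subgroup G).normalizerMonoidHom

lemma act_apply (n : normalizer ((D.S : Subgroup G) : Set G)) (s : (D.S : Subgroup G)) :
    ((D.act n s : (D.S : Subgroup G)) : G) = (n : G) * s * (n : G)⁻¹ := rfl

lemma act_eq_one (n : normalizer ((D.S : Subgroup G) : Set G)) :
    D.act n = 1 ↔ ∀ s ∈ (D.S : Subgroup G), (n : G) * s = s * n := by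
  constructor
  · intro h s hs
    have h1 := congrArg (fun σ : MulAut (D.S : Subgroup G) => ((σ ⟨s, hs⟩ : (D.S : Subgroup G)) : G)) h
    change (n : G) * s * (n : G)⁻¹ = s at h1
    exact mul_inv_eq_iff_eq_mul.1 h1
  · intro h
    ext s
    show (n : G) * s * (n : G)⁻¹ = s
    rw [h s s.2]; group

lemma odd_range : Odd (Nat.card D.act.range) := by
  have : Fact (Nat.Prime 2) := ⟨Nat.prime_two⟩
  rw [← Subgroup.index_ker, Nat.odd_iff, ← Nat.two_dvd_ne_zero]
  intro h
  refine D.S.not_dvd_index (h.trans (dvd_trans (Subgroup.index_dvd_of_le (H :=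
    (D.S : Subgroup G).subgroupOf (normalizer ((D.S : Subgroup G) : Set G))) ?_) ?_))
  · intro n hn
    rw [MonoidHom.mem_ker, act_eq_one]
    exact fun s hs => D.toData.scomm hn hs
  · exact Dvd.intro _ (Subgroup.relIndex_mul_index le_normalizer)

lemma odd_order {m : MulAut (D.S : Subgroup G)} (hm : m ∈ D.act.range) : Odd (orderOf m) := by
  rw [← Subgroup.orderOf_mk m hm]
  exact D.odd_range.of_dvd_nat (orderOf_dvd_natCard _)

lemma eq_one_of_sq {m : MulAut (D.S : Subgroup G)} (hm : m ∈ D.act.range) (h : m * m = 1) : m = 1 := by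
  rw [← orderOf_eq_one_iff]
  rcases (Nat.dvd_prime Nat.prime_two).1 (orderOf_dvd_of_pow_eq_one (show m ^ 2 = 1 by rw [pow_two, h]))
    with h1 | h1
  · exact h1
  · have := D.odd_order hm
    rw [h1] at this
    exact absurd this (by decide)

/-- `t` as an element of `S`. -/
abbrev tS : (D.S : Subgroup G) := ⟨D.t, D.htS⟩

lemma s_sq (x : (D.S : Subgroup G)) : x * x = 1 := Subtype.ext (D.sq_one x.2)

lemma eq_one_of_fix_two {m : MulAut (D.S : Subgroup G)} (hm : m ∈ D.act.range) (hmt : m D.tS = D.tS)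
    {w : (D.S : Subgroup G)} (hw1 : w ≠ 1) (hwt : w ≠ D.tS) (hmw : m w = w) : m = 1 := by
  classical
  haveI := D.toData.hSc
  refine D.eq_one_of_sq hm ?_
  set W : Subgroup (D.S : Subgroup G) := closure {D.tS, w} with hW
  have hfix : ∀ x ∈ W, m x = x := fun x hx =>
    (closure_le (K := MonoidHom.eqLocus m.toMonoidHom (MonoidHom.id _))).2 (by
      rintro y (rfl | rfl)
      · exact hmt
      · exact hmw) hx
  have ht2 : orderOf D.tS = 2 := by rw [← Subgroup.orderOf_coe]; exact D.ht
  have h4 : 4 ∣ Nat.card W ∨ 4 ≤ Nat.card W := by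
    right
    have hsub : ({1, D.tS, w, D.tS * w} : Finset (D.S : Subgroup G)) ⊆ (W : Set (D.S : Subgroup G)).toFinite.toFinset := by
      intro x hx
      simp only [Finset.mem_insert, Finset.mem_singleton] at hx
      rw [Set.Finite.mem_toFinset, SetLike.mem_coe]
      have ha : D.tS ∈ W := subset_closure (Set.mem_insert _ _)
      have hb : w ∈ W := subset_closure (Set.mem_insert_of_mem _ rfl)
      rcases hx with rfl | rfl | rfl | rfl
      · exact one_mem _
      · exact ha
      · exact hb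
      · exact mul_mem ha hb
    have h1 := Finset.card_le_card hsub
    have ht1 : D.tS ≠ 1 := fun h => by rw [h, orderOf_one] at ht2; omega
    have htw : D.tS * w ≠ 1 := fun h => hwt (by rw [mul_eq_one_iff_eq_inv] at h; rw [h, inv_eq_of_mul_eq_one_right (D.s_sq w)])
    rw [← Set.ncard_eq_toFinset_card] at h1
    rw [← Nat.card_coe_set_eq] at h1
    refine le_trans (le_of_eq ?_) h1
    rw [Finset.card_insert_of_notMem, Finset.card_insert_of_notMem, Finset.card_insert_of_notMem,
      Finset.card_singleton]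
    · simp [ht1]
    · simp only [Finset.mem_insert, Finset.mem_singleton, not_or]
      refine ⟨Ne.symm hwt, fun h => hw1 ?_⟩
      simpa using h
    · simp only [Finset.mem_insert, Finset.mem_singleton, not_or]
      exact ⟨Ne.symm ht1, Ne.symm hw1, Ne.symm htw⟩
  have hidx : W.index ≤ 2 := by
    have h := Subgroup.card_mul_index W
    rw [D.card_S] at h
    have h4' : 4 ≤ Nat.card W := by
      rcases h4 with h' | h'
      · exact Nat.le_of_dvd Nat.card_pos h'
      · exact h'
    by_contra hc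
    have : 4 * 3 ≤ Nat.card W * W.index := Nat.mul_le_mul h4' (by omega)
    omega
  ext1 x
  show m (m x) = x
  by_cases hx : x ∈ W
  · rw [hfix x hx, hfix x hx]
  have hi2 : W.index = 2 := by
    rcases Nat.lt_or_ge W.index 2 with h | h
    · have : W.index ≠ 0 := Subgroup.index_ne_zero_of_finite
      have h1 : W.index = 1 := by omega
      exact absurd (Subgroup.index_eq_one.1 h1 ▸ mem_top x) hx
    · omega
  have hmx : m x ∉ W := fun h => hx (by
    have h1 := hfix _ h
    rwa [m.injective h1] at h)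
  have hw' : m x * x ∈ W := by
    rw [Subgroup.mul_mem_iff_of_index_two hi2]
    tauto
  have h1 : m x = (m x * x) * x := by rw [mul_assoc, D.s_sq, mul_one]
  calc m (m x) = m ((m x * x) * x) := congrArg m h1
    _ = (m x * x) * m x := by rw [map_mul, hfix _ hw']
    _ = x := by rw [mul_comm, ← mul_assoc, D.s_sq, one_mul]

lemma exists_h : ∃ h : normalizer ((D.S : Subgroup G) : Set G),
    (h : G) ∈ D.C ∧ D.act h ≠ 1 := by
  have : Fact (Nat.Prime 2) := ⟨Nat.prime_two⟩
  haveI := D.simpleP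
  haveI := D.V_comm
  haveI := D.klein
  haveI : Nontrivial (D.V : Subgroup (P 2 F)) := Finite.one_lt_card_iff_nontrivial.1 (by
    rw [IsKleinFour.card_four]; norm_num)
  obtain ⟨⟨x, hx⟩, hx1⟩ := exists_ne (1 : (D.V : Subgroup (P 2 F)))
  have hex : ∃ n ∈ normalizer ((D.V : Subgroup (P 2 F)) : Set (P 2 F)), n * x ≠ x * n := by
    by_contra hcon
    push_neg at hcon
    exact hx1 (Subtype.ext (eq_one_of_normalizer_centralizes D.noncommP D.V hx hcon))
  obtain ⟨n, hn, hnx⟩ := hex
  set g : G := ((D.ε.symm n : D.N) : G) with hg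
  have hgC : g ∈ D.C := D.N_le_C (D.ε.symm n).2
  have hgS : ∀ s ∈ (D.S : Subgroup G), g * s * g⁻¹ ∈ (D.S : Subgroup G) := by
    intro s hs
    obtain ⟨a, v, ha, hvS, hvN, rfl⟩ := D.S_decomp hs
    have hga : g * a = a * g := by
      rcases ha with rfl | rfl
      · simp
      · exact D.toData.mem_C.1 hgC
    have h1 : g * (a * v) * g⁻¹ = a * (g * v * g⁻¹) := by rw [← mul_assoc, hga]; group
    rw [h1]
    refine mul_mem ?_ ?_
    · rcases ha with rfl | rfl
      · exact one_mem _
      · exact D.htS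
    · have h2 := (mem_normalizer_iff.1 hn _).1 ((D.mem_V ⟨v, hvN⟩).2 hvS)
      have h3 : n * D.ε ⟨v, hvN⟩ * n⁻¹ = D.ε (D.ε.symm n * ⟨v, hvN⟩ * (D.ε.symm n)⁻¹) := by simp
      rw [h3] at h2
      exact (D.mem_V _).1 h2
  have hgN : g ∈ normalizer ((D.S : Subgroup G) : Set G) := by
    have hle : (D.S : Subgroup G).map (MulAut.conj g).toMonoidHom ≤ (D.S : Subgroup G) := by
      rintro _ ⟨s, hs, rfl⟩
      exact hgS s hs
    have heq := eq_of_le_of_card_ge hle (le_of_eq (Subgroup.card_map_of_injective (MulAut.conj g).injective).symm)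
    rw [mem_normalizer_iff]
    intro s
    refine ⟨hgS s, fun h => ?_⟩
    have h' : g * s * g⁻¹ ∈ (D.S : Subgroup G).map (MulAut.conj g).toMonoidHom := by rw [heq]; exact h
    obtain ⟨s', hs', he⟩ := h'
    have : s' = s := (MulAut.conj g).injective he
    exact this ▸ hs'
  refine ⟨⟨g, hgN⟩, hgC, fun h => hnx ?_⟩
  have hxS : ((D.ε.symm x : D.N) : G) ∈ (D.S : Subgroup G) := (D.mem_V _).1 (by rwa [MulEquiv.apply_symm_apply])
  have h1 := (D.act_eq_one _).1 h _ hxS
  apply D.ε.symm.injective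
  rw [map_mul, map_mul]
  exact Subtype.ext h1

lemma fix_h {h : normalizer ((D.S : Subgroup G) : Set G)} (hC : (h : G) ∈ D.C) :
    D.act h D.tS = D.tS := by
  apply Subtype.ext
  show (h : G) * D.t * (h : G)⁻¹ = D.t
  rw [D.toData.mem_C.1 hC]; group

lemma zpowers_t_cases {x : (D.S : Subgroup G)} (hx : x ∈ zpowers D.tS) : x = 1 ∨ x = D.tS := by
  obtain ⟨i, rfl⟩ := mem_zpowers_iff.1 hx
  rcases D.toData.mem_zpowers_t (a := D.t ^ i) (zpow_mem (mem_zpowers _) i) with h | h
  · left; exact Subtype.ext (by simpa using h)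
  · right; exact Subtype.ext (by simpa using h)

/-- The Frobenius data on `S`. -/
theorem frobenius (hG : ¬ IsMulCommutative G) [IsSimpleGroup G] :
    (∀ x : (D.S : Subgroup G), x ≠ 1 → ∃ m ∈ D.act.range, m D.tS = x) ∧
    ∃ (g h : normalizer ((D.S : Subgroup G) : Set G)) (j : ℕ),
      (∀ x, D.act g x = x → x = 1) ∧ (h : G) ∈ D.C ∧
      (∀ x, D.act h x = x → x = 1 ∨ x = D.tS) ∧
      D.act h * D.act g = D.act g ^ j * D.act h := by
  classical
  have : Fact (Nat.Prime 2) := ⟨Nat.prime_two⟩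
  haveI := D.toData.hSc
  obtain ⟨h, hhC, hh1⟩ := D.exists_h
  set M := D.act.range with hM
  haveI : Finite (MulAut (D.S : Subgroup G)) := Finite.of_injective (fun σ => (σ : ↥(D.S : Subgroup G) → ↥(D.S : Subgroup G))) DFunLike.coe_injective
  set η : M := ⟨D.act h, h, rfl⟩ with hη
  have hη1 : η ≠ 1 := fun e => hh1 (congrArg Subtype.val e)
  -- projection modulo `t`
  have hηfix : ∀ x, D.act h x = x → x = 1 ∨ x = D.tS := by
    intro x hx
    by_contra hc
    push_neg at hc
    exact hh1 (D.eq_one_of_fix_two ⟨h, rfl⟩ (D.fix_h hhC) hc.1 hc.2 hx)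
  -- the stabilizer of `t` in `M` has order three
  set T : Subgroup M := MulAction.stabilizer M D.tS with hT
  have hmemT : ∀ m : M, m ∈ T ↔ (m : MulAut (D.S : Subgroup G)) D.tS = D.tS := fun m => Iff.rfl
  have hTodd : Odd (Nat.card T) := D.odd_range.of_dvd_nat (Subgroup.card_subgroup_dvd_card T)
  obtain ⟨w, hw1, hwt⟩ : ∃ w : (D.S : Subgroup G), w ≠ 1 ∧ w ≠ D.tS := by
    by_contra hc
    push_neg at hc
    have hle : Nat.card (D.S : Subgroup G) ≤ 2 := by
      have hsub : (Set.univ : Set (D.S : Subgroup G)) ⊆ {1, D.tS} := fun x _ => by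
        rcases eq_or_ne x 1 with h | h
        · exact Or.inl h
        · exact Or.inr (hc x h)
      have h1 := Set.ncard_le_ncard hsub (Set.toFinite _)
      rw [Set.ncard_univ] at h1
      exact h1.trans (Set.ncard_insert_le _ _ |>.trans (by simp))
    rw [D.card_S] at hle; omega
  let Q := (D.S : Subgroup G) ⧸ zpowers D.tS
  have hQcard : Nat.card Q = 4 := by
    have h1 := Subgroup.card_eq_card_quotient_mul_card_subgroup (zpowers D.tS)
    rw [D.card_S, Nat.card_zpowers, ← Subgroup.orderOf_coe, D.ht] at h1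
    show Nat.card ((D.S : Subgroup G) ⧸ zpowers D.tS) = 4
    omega
  let fT : T → {c : Q // c ≠ ((1 : (D.S : Subgroup G)) : Q)} := fun m =>
    ⟨((((m : M) : MulAut (D.S : Subgroup G)) w : (D.S : Subgroup G)) : Q), fun e => by
      have hm := (hmemT _).1 m.2
      rw [QuotientGroup.eq, mul_one, inv_mem_iff] at e
      rcases D.zpowers_t_cases e with e | e
      · exact hw1 (MulEquiv.map_eq_one_iff _ |>.1 e)
      · exact hwt (((m : M) : MulAut (D.S : Subgroup G)).injective (e.trans hm.symm))⟩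
  have hfT : Function.Injective fT := by
    intro m m' e
    have e1 := congrArg Subtype.val e
    replace e1 := QuotientGroup.eq.1 e1
    have hm := (hmemT _).1 m.2
    have hm' := (hmemT _).1 m'.2
    set r : M := (m : M)⁻¹ * m' with hr
    have hrt : (r : MulAut (D.S : Subgroup G)) D.tS = D.tS :=
      (hmemT r).1 (T.mul_mem (T.inv_mem m.2) m'.2)
    have happ : ∀ x, ((m : M) : MulAut (D.S : Subgroup G)) ((r : MulAut (D.S : Subgroup G)) x) =
        ((m' : M) : MulAut (D.S : Subgroup G)) x := by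
      intro x
      rw [← MulAut.mul_apply, ← Subgroup.coe_mul, hr, mul_inv_cancel_left]
    have hrw : (r : MulAut (D.S : Subgroup G)) w = w ∨ (r : MulAut (D.S : Subgroup G)) w = w * D.tS := by
      rcases D.zpowers_t_cases e1 with e2 | e2
      · left
        apply ((m : M) : MulAut (D.S : Subgroup G)).injective
        rw [happ]
        exact (inv_mul_eq_one.1 e2).symm
      · right
        apply ((m : M) : MulAut (D.S : Subgroup G)).injective
        rw [happ, map_mul, hm]
        exact inv_mul_eq_iff_eq_mul.1 e2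
    have hr1 : r = 1 := by
      rcases hrw with e3 | e3
      · exact Subtype.ext (D.eq_one_of_fix_two r.2 hrt hw1 hwt e3)
      · have hr2 : r * r = 1 := by
          apply Subtype.ext
          refine D.eq_one_of_fix_two (r * r).2 ?_ hw1 hwt ?_
          · rw [Subgroup.coe_mul, MulAut.mul_apply, hrt, hrt]
          · rw [Subgroup.coe_mul, MulAut.mul_apply, e3, map_mul, e3, hrt, mul_assoc, D.s_sq, mul_one]
        exact Subtype.ext (D.eq_one_of_sq r.2 (congrArg Subtype.val hr2))
    exact Subtype.ext (inv_mul_eq_one.1 hr1)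
  have hTle : Nat.card T ≤ 3 := by
    refine (Nat.card_le_card_of_injective fT hfT).trans (le_of_eq ?_)
    have hh : Nat.card {c : Q // c ≠ ((1 : (D.S : Subgroup G)) : Q)} =
        ((Set.univ : Set Q) \ {((1 : (D.S : Subgroup G)) : Q)}).ncard := by
      rw [← Nat.card_coe_set_eq]
      exact Nat.card_congr (Equiv.subtypeEquivRight fun c => by simp)
    rw [hh, Set.ncard_sdiff_singleton_of_mem (Set.mem_univ _), Set.ncard_univ, hQcard]
  have hηT : η ∈ T := (hmemT _).2 (D.fix_h hhC)
  have hT3 : Nat.card T = 3 := by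
    have h1 : 1 < Nat.card T := Finite.one_lt_card_iff_nontrivial.2
      ⟨⟨⟨η, hηT⟩, 1, fun e => hη1 (congrArg Subtype.val e)⟩⟩
    rw [Nat.odd_iff] at hTodd
    omega
  have hη3 : orderOf η = 3 := by
    have h1 : orderOf η ∣ 3 := by
      rw [← hT3, ← Subgroup.orderOf_mk η hηT]
      exact orderOf_dvd_natCard _
    exact ((Nat.dvd_prime Nat.prime_three).1 h1).resolve_left fun h => hη1 (orderOf_eq_one_iff.1 h)
  -- the orbit of `t`
  set O := MulAction.orbit M D.tS with hO
  have hOsub : O ⊆ {x | x ≠ 1} := by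
    rintro _ ⟨m, rfl⟩ e
    exact D.toData.t_ne_one (congrArg Subtype.val ((MulEquiv.map_eq_one_iff (m : MulAut (D.S : Subgroup G))).1 e))
  have hOmul : Nat.card O * 3 = Nat.card M := by
    rw [← hT3, hO, hT, Nat.card_congr (MulAction.orbitEquivQuotientStabilizer M D.tS)]
    exact (Subgroup.card_eq_card_quotient_mul_card_subgroup _).symm
  have hOodd : Odd (Nat.card O) := D.odd_range.of_dvd_nat ⟨3, hOmul.symm⟩
  have hne1 : ({x : (D.S : Subgroup G) | x ≠ 1}).ncard = 7 := by
    have e : ({x : (D.S : Subgroup G) | x ≠ 1}) = Set.univ \ {1} := by ext; simp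
    rw [e, Set.ncard_sdiff_singleton_of_mem (Set.mem_univ _), Set.ncard_univ, D.card_S]
  have hOle : Nat.card O ≤ 7 := by
    rw [Nat.card_coe_set_eq, ← hne1]
    exact Set.ncard_le_ncard hOsub (Set.toFinite _)
  have hOne : Nat.card O ≠ 1 := by
    intro h1
    have hfix : ∀ n ∈ normalizer ((D.S : Subgroup G) : Set G), n * D.t = D.t * n := by
      intro n hn
      have hmem : (⟨D.act ⟨n, hn⟩, ⟨n, hn⟩, rfl⟩ : M) • D.tS ∈ O := MulAction.mem_orbit _ _
      rw [Nat.card_eq_one_iff_unique] at h1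
      obtain ⟨hs, -⟩ := h1
      have e := congrArg Subtype.val (hs.elim ⟨_, hmem⟩ ⟨D.tS, MulAction.mem_orbit_self _⟩)
      have e2 := congrArg Subtype.val e
      change n * D.t * n⁻¹ = D.t at e2
      exact mul_inv_eq_iff_eq_mul.1 e2
    exact D.toData.t_ne_one (eq_one_of_normalizer_centralizes hG D.S D.htS hfix)
  have hO3 : Nat.card O % 3 = 1 := by
    have hP : IsPGroup 3 (zpowers η) := IsPGroup.of_card (n := 1) (by rw [Nat.card_zpowers, hη3, pow_one])
    haveI : Fact (Nat.Prime 3) := ⟨Nat.prime_three⟩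
    letI : MulAction (zpowers η) O := MulAction.compHom O (zpowers η).subtype
    have hmod := hP.card_modEq_card_fixedPoints O
    have hfp : Nat.card (MulAction.fixedPoints (zpowers η) O) = 1 := by
      rw [Nat.card_eq_one_iff_unique]
      refine ⟨⟨fun a b => ?_⟩, ⟨⟨⟨D.tS, MulAction.mem_orbit_self _⟩, ?_⟩⟩⟩
      · have key : ∀ c : MulAction.fixedPoints (zpowers η) O, ((c : O) : (D.S : Subgroup G)) = D.tS := by
          intro c
          have e := congrArg Subtype.val (c.2 ⟨η, mem_zpowers η⟩)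
          exact (hηfix _ e).resolve_left (hOsub (c : O).2)
        exact Subtype.ext (Subtype.ext ((key a).trans (key b).symm))
      · intro z
        apply Subtype.ext
        exact (hmemT _).1 ((zpowers_le.2 hηT) z.2)
    rw [hfp] at hmod
    exact hmod
  have hO7 : Nat.card O = 7 := by
    have hpos : 0 < Nat.card O := by
      haveI : Nonempty O := ⟨⟨D.tS, MulAction.mem_orbit_self _⟩⟩
      exact Nat.card_pos
    rw [Nat.odd_iff] at hOodd
    omega
  have hOeq : O = {x : (D.S : Subgroup G) | x ≠ 1} :=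
    Set.eq_of_subset_of_ncard_le hOsub (by rw [hne1, ← Nat.card_coe_set_eq, hO7]) (Set.toFinite _)
  have htrans : ∀ x : (D.S : Subgroup G), x ≠ 1 → ∃ m : M, m • D.tS = x := fun x hx => by
    have : x ∈ O := by rw [hOeq]; exact hx
    exact this
  refine ⟨fun x hx => (htrans x hx).elim fun m e => ⟨m, m.2, e⟩, ?_⟩
  have hM21 : Nat.card M = 21 := by rw [← hOmul, hO7]
  haveI : Fact (Nat.Prime 7) := ⟨by norm_num⟩
  obtain ⟨γ, hγ⟩ := exists_prime_orderOf_dvd_card' 7 (show 7 ∣ Nat.card M by rw [hM21]; norm_num)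
  have hγ0 : ∀ x, (γ : MulAut (D.S : Subgroup G)) x = x → x = 1 := by
    intro x hx
    by_contra hx1
    have hst : γ ∈ MulAction.stabilizer M x := hx
    have hcard : Nat.card (MulAction.stabilizer M x) = 3 := by
      obtain ⟨m, rfl⟩ := htrans x hx1
      have h1 : Nat.card M = Nat.card (MulAction.orbit M (m • D.tS)) * Nat.card (MulAction.stabilizer M (m • D.tS)) := by
        rw [Nat.card_congr (MulAction.orbitEquivQuotientStabilizer M (m • D.tS))]
        exact Subgroup.card_eq_card_quotient_mul_card_subgroup _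
      rw [MulAction.orbit_smul, ← hO, hO7, hM21] at h1
      omega
    have h2 := Subgroup.orderOf_mk γ hst ▸ orderOf_dvd_natCard (⟨γ, hst⟩ : MulAction.stabilizer M x)
    rw [hcard, hγ] at h2
    norm_num at h2
  obtain ⟨P7, hP7⟩ := (IsPGroup.of_card (n := 1) (by rw [Nat.card_zpowers, hγ, pow_one]) :
    IsPGroup 7 (zpowers γ)).exists_le_sylow
  have hP7card : Nat.card (P7 : Subgroup M) = 7 := by
    obtain ⟨n, hn⟩ := P7.isPGroup'.exists_card_eq
    have h1 : 7 ≤ Nat.card (P7 : Subgroup M) := by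
      calc 7 = Nat.card (zpowers γ) := by rw [Nat.card_zpowers, hγ]
        _ ≤ _ := Subgroup.card_le_of_le hP7
    have h2 : Nat.card (P7 : Subgroup M) ∣ 21 := hM21 ▸ Subgroup.card_subgroup_dvd_card _
    rw [hn] at h1 h2 ⊢
    have hn2 : n < 2 := by
      by_contra hc
      have h3 := (pow_dvd_pow 7 (not_lt.1 hc)).trans h2
      norm_num at h3
    interval_cases n
    · norm_num at h1
    · rfl
  have hn7 : Nat.card (Sylow 7 M) = 1 := by
    have h1 : Nat.card (Sylow 7 M) ∣ 3 := by
      have h := P7.card_dvd_index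
      have hi : (P7 : Subgroup M).index = 3 := by
        have e := Subgroup.card_mul_index (P7 : Subgroup M)
        rw [hP7card, hM21] at e; omega
      rwa [hi] at h
    have h2 := card_sylow_modEq_one 7 M
    rcases (Nat.dvd_prime Nat.prime_three).1 h1 with h | h
    · exact h
    · rw [h] at h2; exact absurd h2 (by decide)
  haveI : (P7 : Subgroup M).Normal := by
    haveI : Subsingleton (Sylow 7 M) := (Nat.card_eq_one_iff_unique.1 hn7).1
    exact P7.normal_of_subsingleton
  have hzeq : zpowers γ = (P7 : Subgroup M) :=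
    eq_of_le_of_card_ge hP7 (by rw [hP7card, Nat.card_zpowers, hγ])
  have hconj : η * γ * η⁻¹ ∈ zpowers γ := by
    rw [hzeq]
    exact ‹(P7 : Subgroup M).Normal›.conj_mem γ (hP7 (mem_zpowers γ)) η
  obtain ⟨j, hj⟩ := (IsOfFinOrder.mem_powers_iff_mem_zpowers (isOfFinOrder_of_finite γ)).2 hconj
  obtain ⟨g, hg⟩ := γ.2
  refine ⟨g, h, j, fun x hx => hγ0 x (by rw [← hg]; exact hx), hhC, hηfix, ?_⟩
  have e := congrArg (fun z : M => (z : MulAut (D.S : Subgroup G))) hj
  simp only [SubmonoidClass.coe_pow, Subgroup.coe_mul, Subgroup.coe_inv] at e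
  rw [hg, e, hη, ← hg]
  group

/-- An automorphism of `2`-power order fixing `S` elementwise is inner. -/
theorem inner_of_fix (hG : ¬ IsMulCommutative G) [IsSimpleGroup G]
    (hmax : IsCoatom (centralizer ({D.t} : Set G)))
    (φ : MulAut G) {k : ℕ} (hφ : φ ^ 2 ^ k = 1) (hS : ∀ s ∈ (D.S : Subgroup G), φ s = s) :
    ∃ a : G, φ = MulAut.conj a := by
  have : Fact (Nat.Prime 2) := ⟨Nat.prime_two⟩
  haveI := D.toData.hSc
  obtain ⟨v, hv, hvC⟩ := D.fix_C φ hφ hS
  obtain ⟨-, g, h, j, hg0, hhC, hh0, hrel⟩ := D.frobenius hG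
  set ψ : MulAut G := (MulAut.conj v)⁻¹ * φ with hψ
  have hψC : ∀ c ∈ D.C, ψ c = c := fun c hc => by
    rw [hψ, MulAut.mul_apply, hvC c hc, ← MulAut.conj_apply, MulAut.inv_apply_self]
  have hcentS : ∀ c : G, (∀ s ∈ (D.S : Subgroup G), c * s = s * c) → c ∈ D.C := fun c hc =>
    D.toData.mem_C.2 (hc _ D.htS)
  have hψpow : ψ ^ 2 ^ (k + 1) = 1 := by
    have hcomm : Commute (MulAut.conj v) φ := by
      ext x
      simp only [MulAut.mul_apply, MulAut.conj_apply, map_mul, map_inv, hS v hv]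
    rw [hψ, hcomm.inv_left.mul_pow, inv_pow, ← map_pow, pow_succ 2 k, pow_mul φ, hφ, one_pow, mul_one,
      mul_comm (2 ^ k) 2, pow_mul v, pow_two, D.sq_one hv, one_pow, map_one, inv_one]
  set s₀ : G := (g : G)⁻¹ * ψ (g : G) with hs₀
  have hs₀C : ∀ s ∈ (D.S : Subgroup G), s * s₀ = s₀ * s := by
    intro s hs
    have hgs : (g : G) * s * (g : G)⁻¹ ∈ (D.S : Subgroup G) := (mem_normalizer_iff.1 g.2 s).1 hs
    have e := hψC _ (D.toData.S_le_C hgs)
    rw [map_mul, map_mul, map_inv, hψC s (D.toData.S_le_C hs)] at e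
    have e2 : ψ (g : G) * s = (g : G) * s * (g : G)⁻¹ * ψ (g : G) := mul_inv_eq_iff_eq_mul.1 e
    rw [hs₀, mul_assoc ((g : G)⁻¹), e2]
    group
  have hiter : ∀ m : ℕ, (ψ ^ m) (g : G) = g * s₀ ^ m := by
    intro m
    induction m with
    | zero => simp
    | succ m ih =>
      rw [pow_succ', MulAut.mul_apply, ih, map_mul, map_pow,
        hψC s₀ (hcentS s₀ fun s hs => (hs₀C s hs).symm), pow_succ', ← mul_assoc, hs₀, mul_inv_cancel_left]
  have hs₀S : s₀ ∈ (D.S : Subgroup G) := by
    refine PSL2FixSylow7.mem_of_commute D.S (k := k + 1) ?_ hs₀C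
    have e := hiter (2 ^ (k + 1))
    rw [hψpow, MulAut.one_apply] at e
    exact mul_eq_left.1 e.symm
  -- solve `g⁻¹ u g u⁻¹ = s₀`
  let f : ↥(D.S : Subgroup G) → ↥(D.S : Subgroup G) := fun u => (D.act g)⁻¹ u * u⁻¹
  have hf : Function.Bijective f := by
    apply Finite.injective_iff_bijective.1
    intro a b e
    have e1 : (D.act g)⁻¹ (a * b⁻¹) = a * b⁻¹ := by
      rw [map_mul, map_inv]
      have e2 : (D.act g)⁻¹ a = f a * a := (inv_mul_cancel_right _ _).symm
      have e3 : (D.act g)⁻¹ b = f b * b := (inv_mul_cancel_right _ _).symm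
      rw [e2, e3, e]
      rw [mul_inv, mul_mul_mul_comm, mul_inv_cancel, one_mul]
    have e4 : D.act g (a * b⁻¹) = a * b⁻¹ := by
      conv_lhs => rw [← e1]
      rw [← MulAut.mul_apply, mul_inv_cancel, MulAut.one_apply]
    exact mul_inv_eq_one.1 (hg0 _ e4)
  obtain ⟨u, hu⟩ := hf.2 ⟨s₀, hs₀S⟩
  have hu' : (g : G)⁻¹ * (u : G) * g * (u : G)⁻¹ = s₀ := by
    have h1 := congrArg Subtype.val hu
    have h2 : ((((D.act g)⁻¹) u : (D.S : Subgroup G)) : G) = (g : G)⁻¹ * u * g := by
      rw [← map_inv]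
      show ((g⁻¹ : normalizer ((D.S : Subgroup G) : Set G)) : G) * u * ((g⁻¹ : normalizer ((D.S : Subgroup G) : Set G)) : G)⁻¹ = _
      rw [Subgroup.coe_inv, inv_inv]
    rw [← h2]
    exact h1
  set ψ₁ : MulAut G := (MulAut.conj (u : G))⁻¹ * ψ with hψ₁
  have hψ₁g : ψ₁ (g : G) = g := by
    rw [hψ₁, MulAut.mul_apply, MulAut.conj_inv_apply,
      show ψ (g : G) = g * s₀ by rw [hs₀, mul_inv_cancel_left], ← hu']
    group
  -- `h` centralizes `u`
  set c : G := ((g : G) ^ j * h)⁻¹ * ((h : G) * g) with hc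
  have hcS : ∀ s ∈ (D.S : Subgroup G), c * s = s * c := by
    have hact : D.act ((g ^ j * h)⁻¹ * (h * g)) = 1 := by
      rw [map_mul, map_inv, map_mul, map_mul, map_pow, hrel, inv_mul_cancel]
    exact (D.act_eq_one _).1 hact
  have hψ₁c : ψ₁ c = c := by
    rw [hψ₁, MulAut.mul_apply, hψC c (hcentS c hcS), MulAut.conj_inv_apply, mul_assoc, hcS _ u.2,
      inv_mul_cancel_left]
  have hψ₁h : ψ₁ (h : G) = (u : G)⁻¹ * h * u := by
    rw [hψ₁, MulAut.mul_apply, hψC _ hhC, MulAut.conj_inv_apply]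
  set r : G := (h : G)⁻¹ * (u : G)⁻¹ * h * u with hr
  have hrS : r ∈ (D.S : Subgroup G) := by
    have h1 := (mem_normalizer_iff''.1 h.2 _).1 (inv_mem u.2)
    exact mul_mem h1 u.2
  have e0 : (h : G) * g = g ^ j * h * c := by rw [hc]; group
  have e := congrArg ψ₁ e0
  rw [map_mul, map_mul, map_mul, map_pow, hψ₁g, hψ₁h, hψ₁c] at e
  have hrg : r * (g : G) = g * r := by
    have e2 : (h : G) * r * g = g ^ j * ((h : G) * r) * c := by
      rw [hr]; simpa [mul_assoc] using e
    have e3 : (h : G) * r * g = (g ^ j * h * c) * r := by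
      rw [e2, mul_assoc _ c r, hcS r hrS]; group
    rw [← e0] at e3
    apply mul_left_cancel (a := (h : G))
    rw [← mul_assoc, e3, mul_assoc]
  have hr1 : r = 1 := by
    have := hg0 ⟨r, hrS⟩ (Subtype.ext (show (g : G) * r * (g : G)⁻¹ = r by rw [← hrg]; group))
    exact congrArg Subtype.val this
  have hut : (u : G) = 1 ∨ (u : G) = D.t := by
    have e5 : (h : G) * u * (h : G)⁻¹ = u := by
      have e6 : (u : G)⁻¹ * h * u = h := by
        rw [← mul_right_inj ((h : G)⁻¹), inv_mul_cancel, ← hr1, hr]; group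
      have e7 : (h : G) * u = u * h := by
        conv_rhs => rw [← e6]
        group
      rw [e7]; group
    rcases hh0 u (Subtype.ext e5) with e7 | e7 <;> rw [e7]
    · exact Or.inl rfl
    · exact Or.inr rfl
  have hψ₁C : ∀ x ∈ D.C, ψ₁ x = x := by
    intro x hx
    rw [hψ₁, MulAut.mul_apply, hψC x hx, MulAut.conj_inv_apply]
    rcases hut with e8 | e8 <;> rw [e8]
    · simp
    · rw [mul_assoc, D.toData.mem_C.1 hx, ← mul_assoc, inv_mul_cancel, one_mul]
  -- the fixed points exceed `C`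
  have hgC : (g : G) ∉ D.C := fun hgC => D.toData.t_ne_one (congrArg Subtype.val (hg0 D.tS
    (Subtype.ext (show (g : G) * D.t * (g : G)⁻¹ = D.t by rw [D.toData.mem_C.1 hgC]; group))))
  let Fx : Subgroup G := MonoidHom.eqLocus ψ₁.toMonoidHom (MonoidHom.id G)
  have htop : Fx = ⊤ := hmax.2 Fx (lt_of_le_of_ne (fun x hx => hψ₁C x hx) fun e9 => hgC (by
    show (g : G) ∈ centralizer ({D.t} : Set G)
    rw [e9]; exact hψ₁g))
  refine ⟨v * u, ?_⟩
  have h1 : ψ₁ = 1 := by
    ext x
    have : x ∈ Fx := htop ▸ mem_top x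
    exact this
  rw [hψ₁, hψ, ← mul_assoc] at h1
  rw [map_mul]
  have h2 := eq_inv_of_mul_eq_one_right h1
  rw [h2, mul_inv_rev, inv_inv, inv_inv]

end Ext

end Cfsg.Agent.JRStructure7
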