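import Mathlib
import Cfsg.Agent.Lib.BaerSuzuki
import Cfsg.Agent.Lib.SuzukiTypeA
import Cfsg.Agent.Lib.CIT21Basic

/-!
# Affine groups on `2 ^ n` points with a transitive cyclic multiplier: the non-translation case
-/

set_option autoImplicit false
set_option linter.unusedSectionVars false
set_option linter.style.haveILetI false

namespace Cfsg.Agent.JTAffine62

open MulAction

variable {T : Type*} [CommGroup T] [Finite T]

/-- The setting in which `A` is faithful on `V`. -/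
structure Setup (A : Subgroup (MulAut T)) (t : T) (V : Subgroup T) (n : ℕ) (c : A) : Prop where
  two_le : 2 ≤ n
  card_V : Nat.card V = 2 ^ n
  sq : ∀ x : T, x * x = 1
  notMem : t ∉ V
  cover : ∀ x : T, x ∈ V ∨ t * x ∈ V
  inv : ∀ (a : A), ∀ x ∈ V, a • x ∈ V
  fix_c : c • t = t
  trans : ∀ a ∈ V, ∀ b ∈ V, a ≠ 1 → b ≠ 1 → ∃ i : ℕ, (c ^ i) • a = b
  norm : ∀ a : A, a • t = t → ∃ i : ℕ, ∀ x ∈ V, (a * c * a⁻¹) • x = (c ^ i) • x
  odd : ∀ a : A, a • t = t → Odd (orderOf a)
  orb : ∀ x ∈ V, ∃ a : A, a • t = t * x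
  faithful : ∀ a : A, (∀ y ∈ V, a • y = y) → a = 1

namespace Setup

variable {A : Subgroup (MulAut T)} {t : T} {V : Subgroup T} {n : ℕ} {c : A} (h : Setup A t V n c)
include h

theorem inv_self (x : T) : x⁻¹ = x := inv_eq_of_mul_eq_one_right (h.sq x)

theorem tmul (x : T) : t * (t * x) = x := by rw [← mul_assoc, h.sq, one_mul]

theorem coset {ω : T} (hω : ω ∉ V) : t * ω ∈ V := (h.cover ω).resolve_left hω

theorem notMem_mul {x : T} (hx : x ∈ V) : t * x ∉ V := fun hm => h.notMem (by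
  simpa using V.mul_mem hm (V.inv_mem hx))

theorem smul_notMem (a : A) {ω : T} (hω : ω ∉ V) : a • ω ∉ V := fun hm => hω (by
  simpa using h.inv a⁻¹ _ hm)

theorem ext' {a b : A} (ht : a • t = b • t) (hV : ∀ y ∈ V, a • y = b • y) : a = b := by
  refine Subtype.ext (MulEquiv.ext fun x => ?_)
  show a • x = b • x
  rcases h.cover x with hx | hx
  · exact hV x hx
  · conv_lhs => rw [← h.tmul x, smul_mul', ht, hV _ hx, ← smul_mul', h.tmul]

theorem two_trans {ω₁ ω₂ : T} (h1 : ω₁ ∉ V) (h2 : ω₂ ∉ V) (hne : ω₁ ≠ ω₂) {v : T} (hv : v ∈ V)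
    (hv1 : v ≠ 1) : ∃ a : A, a • t = ω₁ ∧ a • (t * v) = ω₂ := by
  obtain ⟨g, hg⟩ := h.orb _ (h.coset h1)
  rw [h.tmul] at hg
  have hu : t * g⁻¹ • ω₂ ∈ V := h.coset (h.smul_notMem g⁻¹ h2)
  have hu1 : t * g⁻¹ • ω₂ ≠ 1 := fun e => hne (by
    have : g⁻¹ • ω₂ = t := by rw [← h.tmul (g⁻¹ • ω₂), e, mul_one]
    rw [← hg]; exact (inv_smul_eq_iff.1 this).symm)
  obtain ⟨i, hi⟩ := h.trans v hv _ hu hv1 hu1
  have hci : (c ^ i) • t = t := by
    have hmem : c ^ i ∈ stabilizer A t := Subgroup.pow_mem _ h.fix_c i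
    exact hmem
  refine ⟨g * c ^ i, ?_, ?_⟩
  · rw [mul_smul, hci, hg]
  · rw [mul_smul, smul_mul', hci, hi, h.tmul, smul_inv_smul]

theorem stab_odd {a : A} {ω : T} (hω : ω ∉ V) (ha : a • ω = ω) : Odd (orderOf a) := by
  obtain ⟨g, hg⟩ := h.orb _ (h.coset hω)
  rw [h.tmul] at hg
  have h1 := h.odd (g⁻¹ * a * g) (by rw [mul_smul, mul_smul, hg, ha, ← hg, inv_smul_smul])
  rwa [show g⁻¹ * a * g = MulAut.conj g⁻¹ a by simp, MulEquiv.orderOf_eq] at h1

theorem involution_free {u : A} (hu : orderOf u = 2) {ω : T} (hω : ω ∉ V) : u • ω ≠ ω := fun e => by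
  have := h.stab_odd hω e
  rw [hu] at this
  exact Nat.not_odd_iff_even.2 even_two this

theorem conj_c {a : A} (ha : a • t = t) : ∃ s : ℕ, a * c * a⁻¹ = c ^ s := by
  obtain ⟨s, hs⟩ := h.norm a ha
  refine ⟨s, h.ext' ?_ hs⟩
  have h1 : a * c * a⁻¹ ∈ stabilizer A t :=
    Subgroup.mul_mem _ (Subgroup.mul_mem _ ha h.fix_c) (Subgroup.inv_mem _ ha)
  have h2 : c ^ s ∈ stabilizer A t := Subgroup.pow_mem _ h.fix_c s
  rw [mem_stabilizer_iff] at h1 h2
  rw [h1, h2]

theorem delta_comm_base {a b : A} {v : T} (hv : v ∈ V) (hv1 : v ≠ 1) (hat : a • t = t)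
    (hav : a • v = v) (hbt : b • t = t) (hbv : b • v = v) : a * b = b * a := by
  obtain ⟨s, hs⟩ := h.conj_c hat
  obtain ⟨r, hr⟩ := h.conj_c hbt
  refine h.ext' (by rw [mul_smul, mul_smul, hat, hbt, hat]) fun y hy => ?_
  rcases eq_or_ne y 1 with rfl | hy1
  · simp
  obtain ⟨i, rfl⟩ := h.trans v hv y hy hv1 hy1
  have key : ∀ (g : A) (k : ℕ), g * c * g⁻¹ = c ^ k → g • v = v → ∀ i : ℕ,
      g • (c ^ i) • v = (c ^ (k * i)) • v := by
    intro g k hk hgv i
    rw [← mul_smul, show g * c ^ i = (g * c * g⁻¹) ^ i * g by rw [conj_pow]; group, hk, ← pow_mul,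
      mul_smul, hgv]
  rw [mul_smul, mul_smul, key b r hr hbv, key a s hs hav, key a s hs hav, key b r hr hbv,
    mul_left_comm]

theorem delta_comm {a b : A} {ω₁ ω₂ : T} (h1 : ω₁ ∉ V) (h2 : ω₂ ∉ V) (hne : ω₁ ≠ ω₂)
    (ha1 : a • ω₁ = ω₁) (ha2 : a • ω₂ = ω₂) (hb1 : b • ω₁ = ω₁) (hb2 : b • ω₂ = ω₂) :
    a * b = b * a := by
  have : Nontrivial V := by
    rw [← Finite.one_lt_card_iff_nontrivial, h.card_V]
    exact Nat.one_lt_two_pow (by have := h.two_le; omega)
  obtain ⟨⟨v, hv⟩, hv1⟩ := exists_ne (1 : V)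
  have hv1' : v ≠ 1 := fun e => hv1 (Subtype.ext e)
  obtain ⟨g, hg1, hg2⟩ := h.two_trans h1 h2 hne hv hv1'
  have conjfix : ∀ z : A, z • ω₁ = ω₁ → z • ω₂ = ω₂ →
      (g⁻¹ * z * g) • t = t ∧ (g⁻¹ * z * g) • v = v := by
    intro z hz1 hz2
    have e1 : (g⁻¹ * z * g) • t = t := by rw [mul_smul, mul_smul, hg1, hz1, ← hg1, inv_smul_smul]
    refine ⟨e1, ?_⟩
    have e2 : (g⁻¹ * z * g) • (t * v) = t * v := by
      rw [mul_smul, mul_smul, hg2, hz2, ← hg2, inv_smul_smul]
    rw [smul_mul', e1] at e2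
    exact mul_left_cancel e2
  have := h.delta_comm_base hv hv1' (conjfix a ha1 ha2).1 (conjfix a ha1 ha2).2 (conjfix b hb1 hb2).1
    (conjfix b hb1 hb2).2
  calc a * b = g * ((g⁻¹ * a * g) * (g⁻¹ * b * g)) * g⁻¹ := by group
    _ = g * ((g⁻¹ * b * g) * (g⁻¹ * a * g)) * g⁻¹ := by rw [this]
    _ = b * a := by group

theorem swap_involution {a : A} {ω ω' : T} (hω : ω ∉ V) (hne : ω ≠ ω') (h1 : a • ω = ω')
    (h2 : a • ω' = ω) : ∃ k : ℕ, orderOf (a ^ k) = 2 ∧ a ^ k • ω = ω' ∧ a ^ k • ω' = ω := by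
  have hfix : (a ^ 2) • ω = ω := by rw [pow_two, mul_smul, h1, h2]
  obtain ⟨j, hj⟩ := h.stab_odd hω hfix
  have hpow : (a ^ (2 * j)) • ω = ω := by
    rw [pow_mul]; exact Subgroup.pow_mem (stabilizer A ω) hfix j
  have hpow' : (a ^ (2 * j)) • ω' = ω' := by
    rw [← h1, ← mul_smul, ← pow_succ, pow_succ', mul_smul, hpow]
  refine ⟨orderOf (a ^ 2), ?_, ?_, ?_⟩
  · refine CIT21.orderOf_eq_two ?_ fun e => ?_
    · rw [← pow_add, ← two_mul, pow_mul, pow_orderOf_eq_one]
    · have : a ^ orderOf (a ^ 2) • ω = ω' := by rw [hj, pow_succ', mul_smul, hpow, h1]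
      rw [e, one_smul] at this
      exact hne this
  · rw [hj, pow_succ', mul_smul, hpow, h1]
  · rw [hj, pow_succ', mul_smul, hpow', h2]

theorem exists_fixed {g : A} {p : ℕ} (hp : p.Prime) (hp2 : p ≠ 2) (hg : orderOf g = p) :
    ∃ ω : T, ω ∉ V ∧ g • ω = ω := by
  classical
  haveI := Fact.mk hp
  let σ : Equiv.Perm {ω : T // ω ∉ V} :=
    (MulAction.toPerm g).subtypePerm fun x => ⟨fun hx hm => hx (by
      simpa using h.inv g _ hm), fun hx => h.smul_notMem g hx⟩
  have hiter : ∀ k : ℕ, ∀ w : {ω : T // ω ∉ V}, ((σ ^ k) w : T) = g ^ k • (w : T) := by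
    intro k
    induction k with
    | zero => intro w; simp
    | succ k ih =>
      intro w
      rw [pow_succ', pow_succ', Equiv.Perm.mul_apply, mul_smul, ← ih]
      rfl
  haveI := Fintype.ofFinite {ω : T // ω ∉ V}
  have hcard : Fintype.card {ω : T // ω ∉ V} = 2 ^ n := by
    rw [← Nat.card_eq_fintype_card, ← h.card_V]
    exact Nat.card_congr
      { toFun := fun w => ⟨t * w, h.coset w.2⟩
        invFun := fun x => ⟨t * x, h.notMem_mul x.2⟩
        left_inv := fun w => Subtype.ext (h.tmul _)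
        right_inv := fun x => Subtype.ext (h.tmul _) }
  obtain ⟨w, hw⟩ := Equiv.Perm.exists_fixed_point_of_prime (p := p) (n := 1)
    (by
      rw [hcard]
      exact fun hd => hp2 ((Nat.prime_dvd_prime_iff_eq hp Nat.prime_two).1 (hp.dvd_of_dvd_pow hd)))
    (σ := σ) (Equiv.ext fun w => Subtype.ext (by
      rw [hiter, pow_one, ← hg, pow_orderOf_eq_one, one_smul]; rfl))
  exact ⟨w, w.2, congrArg Subtype.val hw⟩

/-- There are no non-trivial normal `2`-subgroups. -/
theorem o2_trivial {P : Subgroup A} (hP : P.Normal) (hPp : IsPGroup 2 P) : P = ⊥ := by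
  classical
  haveI : Fact (Nat.Prime 2) := ⟨Nat.prime_two⟩
  have key : ∃ v ∈ V, v ≠ 1 ∧ ∀ p ∈ P, p • v = v := by
    let _ : MulAction P V :=
      { smul := fun p x => ⟨(p : A) • (x : T), h.inv _ _ x.2⟩
        one_smul := fun x => Subtype.ext (one_smul A (x : T))
        mul_smul := fun a b x => Subtype.ext (mul_smul (a : A) (b : A) (x : T)) }
    have h2 : 2 ∣ Nat.card V := h.card_V ▸ dvd_pow_self 2 (by have := h.two_le; omega)
    obtain ⟨v, hv, hv1⟩ := hPp.exists_fixed_point_of_prime_dvd_card_of_fixed_point V h2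
      (a := (1 : V)) (fun p => Subtype.ext (smul_one (p : A)))
    exact ⟨v, v.2, fun e => hv1 (Subtype.ext e.symm), fun p hp => congrArg Subtype.val (hv ⟨p, hp⟩)⟩
  obtain ⟨v, hv, hv1, hfix⟩ := key
  refine (Subgroup.eq_bot_iff_forall P).2 fun p hp => h.faithful p fun y hy => ?_
  rcases eq_or_ne y 1 with rfl | hy1
  · exact smul_one p
  obtain ⟨i, rfl⟩ := h.trans v hv y hy hv1 hy1
  have := hfix _ (hP.conj_mem p hp (c ^ i)⁻¹)
  rw [inv_inv, mul_smul, mul_smul, inv_smul_eq_iff] at this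
  exact this

/-- The involution swapping the base pair does not centralise its stabiliser. -/
theorem exists_inverted {v : T} (hv : v ∈ V) (hv1 : v ≠ 1) {x : A} (hx : orderOf x = 2)
    (hxt : x • t = t * v) (hxtv : x • (t * v) = t) :
    ∃ δ : A, ∃ r : ℕ, r.Prime ∧ r ≠ 2 ∧ orderOf δ = r ∧ δ • t = t ∧ δ • v = v ∧
      x * δ * x = δ⁻¹ := by
  classical
  have hxx := CIT21.mul_self_of_orderOf hx
  have hnorm : ∀ a : A, a • t = t → a • v = v → (x * a * x) • t = t ∧ (x * a * x) • v = v := by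
    intro a hat hav
    have e1 : a • (t * v) = t * v := by rw [smul_mul', hat, hav]
    have e2 : (x * a * x) • t = t := by rw [mul_smul, mul_smul, hxt, e1, hxtv]
    refine ⟨e2, ?_⟩
    have e3 : (x * a * x) • (t * v) = t * v := by rw [mul_smul, mul_smul, hxtv, hat, hxt]
    rw [smul_mul', e2] at e3
    exact mul_left_cancel e3
  by_contra hcon
  push Not at hcon
  -- `x` centralises the stabiliser of the pair
  have hcent : ∀ a : A, a • t = t → a • v = v → x * a * x = a := by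
    intro a hat hav
    by_contra hne
    set e := a⁻¹ * (x * a * x) with he
    obtain ⟨hbt, hbv⟩ := hnorm a hat hav
    have het : e • t = t := by rw [he, mul_smul, hbt, inv_smul_eq_iff, hat]
    have hev : e • v = v := by rw [he, mul_smul, hbv, inv_smul_eq_iff, hav]
    have hcomm := h.delta_comm_base hv hv1 hat hav hbt hbv
    have hinv : x * e * x = e⁻¹ := by
      rw [he, mul_inv_rev, inv_inv]
      calc x * (a⁻¹ * (x * a * x)) * x = x * a⁻¹ * x * (a * (x * x)) := by group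
        _ = (x * a * x)⁻¹ * a := by
          rw [hxx, mul_one, mul_inv_rev, mul_inv_rev, inv_eq_of_mul_eq_one_right hxx]; group
    have he1 : e ≠ 1 := fun e1 => hne (inv_mul_eq_one.1 e1).symm
    obtain ⟨r, hr, hrd⟩ := Nat.exists_prime_and_dvd (mt orderOf_eq_one_iff.1 he1)
    have hr2 : r ≠ 2 := by
      rintro rfl
      exact Nat.not_odd_iff_even.2 (even_iff_two_dvd.2 hrd) (h.odd e het)
    refine hcon (e ^ (orderOf e / r)) r hr hr2 (orderOf_pow_orderOf_div (orderOf_pos e).ne' hrd)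
      (Subgroup.pow_mem (stabilizer A t) het _) (Subgroup.pow_mem (stabilizer A v) hev _) ?_
    have := CIT21.inverts_pow hxx hinv (orderOf e / r)
    exact this
  -- every involution centralises the stabiliser of each pair it swaps
  obtain ⟨g, hg1, hgo, hginv⟩ := BaerSuzuki.exists_inverted_odd x hx fun N hN hNp hxN => by
    have := Subgroup.mem_bot.1 (h.o2_trivial hN hNp ▸ hxN)
    rw [this, orderOf_one] at hx
    omega
  rw [inv_eq_of_mul_eq_one_right hxx] at hginv
  obtain ⟨p, hp, hpd⟩ := Nat.exists_prime_and_dvd (mt orderOf_eq_one_iff.1 hg1)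
  have hp2 : p ≠ 2 := by
    rintro rfl
    exact Nat.not_odd_iff_even.2 (even_iff_two_dvd.2 hpd) hgo
  set g' := g ^ (orderOf g / p) with hg'
  have hg'o : orderOf g' = p := orderOf_pow_orderOf_div (orderOf_pos g).ne' hpd
  have hg'inv : x * g' * x = g'⁻¹ := CIT21.inverts_pow hxx hginv _
  obtain ⟨y, hy, hgy⟩ := h.exists_fixed hp hp2 hg'o
  have hgxy : g' • x • y = x • y := by
    have e : g' * x = x * g'⁻¹ := by
      rw [← hg'inv]; simp [← mul_assoc, hxx]
    rw [← mul_smul, e, mul_smul, inv_smul_eq_iff.2 hgy.symm]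
  obtain ⟨a, ha1, ha2⟩ := h.two_trans hy (h.smul_notMem x hy) (Ne.symm (h.involution_free hx hy)) hv hv1
  have hd : (a⁻¹ * g' * a) • t = t ∧ (a⁻¹ * g' * a) • v = v := by
    have e1 : (a⁻¹ * g' * a) • t = t := by rw [mul_smul, mul_smul, ha1, hgy, ← ha1, inv_smul_smul]
    refine ⟨e1, ?_⟩
    have e2 : (a⁻¹ * g' * a) • (t * v) = t * v := by
      rw [mul_smul, mul_smul, ha2, hgxy, ← ha2, inv_smul_smul]
    rw [smul_mul', e1] at e2
    exact mul_left_cancel e2
  have hu : (x * (a⁻¹ * x * a)) • t = t ∧ (x * (a⁻¹ * x * a)) • v = v := by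
    have hxxy : x • x • y = y := by rw [← mul_smul, hxx, one_smul]
    have e1 : (x * (a⁻¹ * x * a)) • t = t := by
      rw [mul_smul, mul_smul, mul_smul, ha1, ← ha2, inv_smul_smul, hxtv]
    refine ⟨e1, ?_⟩
    have e2 : (x * (a⁻¹ * x * a)) • (t * v) = t * v := by
      rw [mul_smul, mul_smul, mul_smul, ha2, hxxy, ← ha1, inv_smul_smul, hxt]
    rw [smul_mul', e1] at e2
    exact mul_left_cancel e2
  set d := a⁻¹ * g' * a with hd'
  set w := x * (a⁻¹ * x * a) with hw
  have hdw := h.delta_comm_base hv hv1 hd.1 hd.2 hu.1 hu.2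
  have hxd : x * d = d * x := by
    calc x * d = x * d * x * x := by rw [mul_assoc (x * d), hxx, mul_one]
      _ = d * x := by rw [hcent d hd.1 hd.2]
  have key : (a⁻¹ * x * a) * d = d * (a⁻¹ * x * a) := by
    have e : a⁻¹ * x * a = x * w := by rw [hw, ← mul_assoc x x, hxx, one_mul]
    rw [e, mul_assoc, ← hdw, ← mul_assoc, hxd, mul_assoc]
  have hcommg : x * g' = g' * x := by
    calc x * g' = a * ((a⁻¹ * x * a) * d) * a⁻¹ := by rw [hd']; group
      _ = a * (d * (a⁻¹ * x * a)) * a⁻¹ := by rw [key]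
      _ = g' * x := by rw [hd']; group
  have hsq : g' ^ 2 = 1 := by
    rw [hcommg, mul_assoc, hxx, mul_one] at hg'inv
    rw [pow_two]
    nth_rw 2 [hg'inv]
    exact mul_inv_cancel g'
  have := orderOf_dvd_of_pow_eq_one hsq
  rw [hg'o] at this
  exact hp2 ((Nat.prime_dvd_prime_iff_eq hp Nat.prime_two).1 this)

/-- The fixed points of an inverted element of prime order in `V` are `1` and `v`. -/
theorem fixed_eq {v : T} (hv : v ∈ V) (hv1 : v ≠ 1) {x δ : A} (hx : orderOf x = 2)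
    (hxt : x • t = t * v) (hxtv : x • (t * v) = t) {r : ℕ} (hr : r.Prime) (hr2 : r ≠ 2)
    (hδo : orderOf δ = r) (hδt : δ • t = t) (hδv : δ • v = v) (hinv : x * δ * x = δ⁻¹) :
    (∀ u ∈ V, δ • u = u → u = 1 ∨ u = v) ∧
      ∀ g : A, g * δ = δ * g → g • t = t ∧ g • v = v := by
  classical
  have hxx := CIT21.mul_self_of_orderOf hx
  -- no element centralising `δ` swaps the pair
  have noswap : ∀ g : A, g * δ = δ * g → g • t = t * v → g • (t * v) = t → False := by
    intro g hg h1 h2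
    obtain ⟨k, hk, hk1, hk2⟩ := h.swap_involution h.notMem
      (fun e => hv1 (by simpa using (mul_eq_left (a := t) (b := v)).1 e.symm)) h1 h2
    set y := g ^ k
    have hy : y * δ = δ * y := (Commute.pow_left (show Commute g δ from hg) k).eq
    have e1 : (x * y) • t = t := by rw [mul_smul, hk1, hxtv]
    have e2 : (x * y) • v = v := by
      have e3 : (x * y) • (t * v) = t * v := by rw [mul_smul, hk2, hxt]
      rw [smul_mul', e1] at e3
      exact mul_left_cancel e3
    have hc := h.delta_comm_base hv hv1 e1 e2 hδt hδv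
    have hxd : x * δ = δ * x := by
      have : x * δ * y = δ * x * y := by rw [mul_assoc x, ← hy, ← mul_assoc, hc, ← mul_assoc]
      exact mul_right_cancel this
    rw [hxd, mul_assoc, hxx, mul_one] at hinv
    have hsq : δ ^ 2 = 1 := by rw [pow_two]; nth_rw 2 [hinv]; exact mul_inv_cancel δ
    have := orderOf_dvd_of_pow_eq_one hsq
    rw [hδo] at this
    exact hr2 ((Nat.prime_dvd_prime_iff_eq hr Nat.prime_two).1 this)
  have hfix : ∀ u ∈ V, δ • u = u → u = 1 ∨ u = v := by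
    intro u hu hδu
    by_contra hcon
    push Not at hcon
    -- powers of `c` moving fixed points to fixed points centralise `δ`
    have hcc : ∀ a ∈ V, a ≠ 1 → δ • a = a → ∃ i : ℕ, c ^ i • v = a ∧ c ^ i * δ = δ * c ^ i := by
      intro a ha ha1 hδa
      obtain ⟨i, hi⟩ := h.trans v hv a ha hv1 ha1
      refine ⟨i, hi, ?_⟩
      obtain ⟨s, hs⟩ := h.conj_c hδt
      have e : δ * c ^ i * δ⁻¹ = c ^ (s * i) := by rw [← conj_pow, hs, ← pow_mul]
      have hcs : c ^ (s * i) = c ^ i := by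
        have hv' : c ^ (s * i) • v = c ^ i • v := by
          rw [← e, mul_smul, mul_smul, inv_smul_eq_iff.2 hδv.symm, hi, hδa]
        have hmem : ∀ j : ℕ, c ^ j • t = t := fun j => Subgroup.pow_mem (stabilizer A t) h.fix_c j
        refine h.ext' (by rw [hmem, hmem]) fun y hy => ?_
        rcases eq_or_ne y 1 with rfl | hy1
        · simp
        obtain ⟨j, rfl⟩ := h.trans v hv y hy hv1 hy1
        rw [← mul_smul, ← mul_smul, ← pow_add, ← pow_add, add_comm _ j, add_comm i, pow_add, pow_add,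
          mul_smul, mul_smul, hv']
      rw [hcs] at e
      exact (mul_inv_eq_iff_eq_mul.1 e).symm
    have hct : ∀ i : ℕ, c ^ i • t = t := fun i => Subgroup.pow_mem (stabilizer A t) h.fix_c i
    have hxδ : x * δ = δ⁻¹ * x := by rw [← hinv, mul_assoc (x * δ), hxx, mul_one]
    have hxδ' : x * δ⁻¹ = δ * x := by rw [← hinv, ← mul_assoc, ← mul_assoc, hxx, one_mul]
    have hxv : x • v = v := by
      have e := hxtv
      rw [smul_mul', hxt, mul_assoc] at e
      rw [eq_inv_of_mul_eq_one_right (mul_eq_left.1 e), h.inv_self]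
    -- elements centralising `δ`, fixing `t v` and moving `t`
    have move : ∀ a ∈ V, a ≠ v → δ • a = a →
        ∃ g : A, g * δ = δ * g ∧ g • (t * v) = t * v ∧ g • t = t * a := by
      intro a ha hav hδa
      have hb1 : x • (v * a) ≠ 1 := fun e => by
        rw [smul_eq_iff_eq_inv_smul, smul_one] at e
        have e2 := eq_inv_of_mul_eq_one_right e
        rw [h.inv_self] at e2
        exact hav e2
      have hbδ : δ • (x • (v * a)) = x • (v * a) := by
        rw [← mul_smul, ← hxδ', mul_smul, inv_smul_eq_iff.2]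
        rw [smul_mul', hδv, hδa]
      obtain ⟨i, hi, hicomm⟩ := hcc (x • (v * a)) (h.inv x _ (V.mul_mem hv ha)) hb1 hbδ
      refine ⟨x * c ^ i * x, ?_, ?_, ?_⟩
      · have hci' : c ^ i * δ⁻¹ = δ⁻¹ * c ^ i := (show Commute (c ^ i) δ from hicomm).inv_right.eq
        calc x * c ^ i * x * δ = x * c ^ i * (x * δ) := by group
          _ = x * (c ^ i * δ⁻¹) * x := by rw [hxδ]; group
          _ = x * δ⁻¹ * c ^ i * x := by rw [hci']; group
          _ = δ * (x * c ^ i * x) := by rw [hxδ']; group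
      · rw [mul_smul, mul_smul, hxtv, hct, hxt]
      · rw [mul_smul, mul_smul, hxt, smul_mul', hct, hi, smul_mul', hxt, ← mul_smul, hxx, one_smul,
          mul_assoc, ← mul_assoc v v, h.sq, one_mul]
    obtain ⟨g₁, hg₁δ, hg₁v, hg₁t⟩ := move u hu hcon.2 hδu
    obtain ⟨i, hi, hicomm⟩ := hcc u hu hcon.1 hδu
    have hcinv : (c ^ i)⁻¹ • t = t := inv_smul_eq_iff.2 (hct i).symm
    have hcδ : (c ^ i)⁻¹ * δ = δ * (c ^ i)⁻¹ := (show Commute (c ^ i) δ from hicomm).inv_left.eq
    set g := (c ^ i)⁻¹ * g₁ with hg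
    have hgt : g • t = t * v := by
      rw [hg, mul_smul, hg₁t, inv_smul_eq_iff, smul_mul', hct, hi]
    set p := (c ^ i)⁻¹ • v with hp
    have hgtv : g • (t * v) = t * p := by
      rw [hg, mul_smul, hg₁v, smul_mul', hcinv]
    have hpv : p ≠ v := fun e => by
      rw [hp, inv_smul_eq_iff, hi] at e
      exact hcon.2 e.symm
    have hpδ : δ • p = p := by rw [hp, ← mul_smul, ← hcδ, mul_smul, hδv]
    obtain ⟨g₂, hg₂δ, hg₂v, hg₂t⟩ := move p (h.inv _ _ hv) hpv hpδ
    refine noswap (g₂⁻¹ * g) ?_ ?_ ?_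
    · have h1 : Commute g₂ δ := hg₂δ
      have h2 : Commute g δ := (show Commute (c ^ i)⁻¹ δ from hcδ).mul_left hg₁δ
      exact (h1.inv_left.mul_left h2).eq
    · rw [mul_smul, hgt, inv_smul_eq_iff, hg₂v]
    · rw [mul_smul, hgtv, inv_smul_eq_iff, hg₂t]
  refine ⟨hfix, fun g hg => ?_⟩
  have hgt : g • t = t ∨ g • t = t * v := by
    have hmem := h.coset (h.smul_notMem g h.notMem)
    have hf : δ • (g • t) = g • t := by rw [← mul_smul, ← hg, mul_smul, hδt]
    rcases hfix _ hmem (by rw [smul_mul', hδt, hf]) with e | e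
    · left; rw [← h.tmul (g • t), e, mul_one]
    · right; rw [← h.tmul (g • t), e]
  have hgtv : g • (t * v) = t ∨ g • (t * v) = t * v := by
    have hmem := h.coset (h.smul_notMem g (h.notMem_mul hv))
    have hf : δ • (g • (t * v)) = g • (t * v) := by
      rw [← mul_smul, ← hg, mul_smul, smul_mul', hδt, hδv]
    rcases hfix _ hmem (by rw [smul_mul', hδt, hf]) with e | e
    · left; rw [← h.tmul (g • (t * v)), e, mul_one]
    · right; rw [← h.tmul (g • (t * v)), e]
  have hne : t * v ≠ t := fun e => hv1 (mul_eq_left.1 e)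
  rcases hgt with e | e
  · refine ⟨e, ?_⟩
    rcases hgtv with e' | e'
    · exact absurd (MulAction.injective g (e'.trans e.symm)) hne
    · rw [smul_mul', e] at e'
      exact mul_left_cancel e'
  · rcases hgtv with e' | e'
    · exact absurd (noswap g hg e e') id
    · exact absurd (MulAction.injective g (e'.trans e.symm)) hne

end Setup

end Cfsg.Agent.JTAffine62
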