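import Mathlib
import Cfsg.Agent.Lib.JTAffine62Basic
import Cfsg.Agent.Lib.CharInducedBurnside

/-!
# Affine groups on `2 ^ n` points: translations, or `n = 3` and order `168`
-/

set_option autoImplicit false
set_option linter.unusedSectionVars false
set_option linter.style.haveILetI false

namespace Cfsg.Agent.JTAffine62

open MulAction

variable {T : Type*} [CommGroup T] [Finite T]

namespace Setup

variable {A : Subgroup (MulAut T)} {t : T} {V : Subgroup T} {n : ℕ} {c : A} (h : Setup A t V n c)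
include h

/-- The stabiliser of a pair has prime order `n`. -/
theorem pair_stabilizer {v : T} (hv : v ∈ V) (hv1 : v ≠ 1) {δ : A} {r : ℕ}
    (hδo : orderOf δ = r) (hδt : δ • t = t) (hδv : δ • v = v)
    (hfix : ∀ u ∈ V, δ • u = u → u = 1 ∨ u = v) :
    r = n ∧ Nat.card ↥(stabilizer A t ⊓ stabilizer A v) = r ∧
      ∀ ε : A, ε • t = t → ε • v = v → ε ∈ Subgroup.zpowers δ := by
  classical
  haveI := Fact.mk Nat.prime_two
  have hn0 : n ≠ 0 := by have := h.two_le; omega
  let res : A →* AddMonoid.End (Additive V) :=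
    { toFun := fun a => MonoidHom.toAdditive
        { toFun := fun x : V => (⟨a • (x : T), h.inv a _ x.2⟩ : V)
          map_one' := Subtype.ext (smul_one a)
          map_mul' := fun x y => Subtype.ext (smul_mul' a (x : T) y) }
      map_one' := by
        ext x
        exact one_smul A _
      map_mul' := fun a b => by
        ext x
        exact mul_smul a b _ }
  have hres : ∀ (a : A) (x : Additive V), ((res a x).toMul : T) = a • (x.toMul : T) := fun _ _ => rfl
  let K := Subgroup.zpowers c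
  have hK : ∀ k l : K, k * l = l * k := fun k l => by
    obtain ⟨_, i, rfl⟩ := k
    obtain ⟨_, j, rfl⟩ := l
    exact Subtype.ext ((Commute.refl c).zpow_zpow i j).eq
  obtain ⟨e, he1, hscal, hscal'⟩ := SuzukiTypeA.field_model (V := Additive V) hK (res.comp K.subtype)
    (fun a b ha hb => by
      obtain ⟨i, hi⟩ := h.trans (a.toMul : T) a.toMul.2 (b.toMul : T) b.toMul.2
        (fun e => ha (Additive.toMul.injective (Subtype.ext e)))
        (fun e => hb (Additive.toMul.injective (Subtype.ext e)))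
      exact ⟨⟨c ^ i, Subgroup.pow_mem _ (Subgroup.mem_zpowers c) i⟩,
        Additive.toMul.injective (Subtype.ext hi)⟩)
    hn0 h.card_V (v₀ := Additive.ofMul (⟨v, hv⟩ : V))
    (fun e => hv1 (congrArg (fun x : Additive V => (x.toMul : T)) e))
  set P := stabilizer A t ⊓ stabilizer A v with hP
  -- the restriction of `P` to the field
  let φ : A → GaloisField 2 n → GaloisField 2 n := fun a x => e.symm (res a (e x))
  have hφadd : ∀ a x y, φ a (x + y) = φ a x + φ a y := fun a x y => by simp [φ]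
  have hφone : ∀ a ∈ P, φ a 1 = 1 := fun a ha => by
    apply e.injective
    simp only [φ, AddEquiv.apply_symm_apply, he1]
    exact Additive.toMul.injective (Subtype.ext ha.2)
  have hφmul : ∀ a ∈ P, ∀ x y, φ a (x * y) = φ a x * φ a y := by
    intro a ha x y
    rcases eq_or_ne x 0 with rfl | hx
    · simp [φ]
    obtain ⟨⟨k, hk⟩, hk'⟩ := hscal x hx
    obtain ⟨i, rfl⟩ := (Submonoid.mem_powers_iff _ _).1
      ((isOfFinOrder_of_finite c).mem_powers_iff_mem_zpowers.2 hk)
    obtain ⟨s, hs⟩ := h.conj_c ha.1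
    have e1 : a * c ^ i = c ^ (s * i) * a := by
      rw [pow_mul, ← hs, conj_pow]; group
    obtain ⟨l, -, hl⟩ := hscal' ⟨c ^ (s * i), Subgroup.pow_mem _ (Subgroup.mem_zpowers c) _⟩
    have hlin : ∀ z, φ a (x * z) = l * φ a z := fun z => by
      apply e.injective
      rw [hl]
      simp only [φ, AddEquiv.apply_symm_apply]
      rw [hk' z]
      apply Additive.toMul.injective
      apply Subtype.ext
      rw [hres]
      show a • ((res (c ^ i) (e z)).toMul : T) = ((res (c ^ (s * i)) (res a (e z))).toMul : T)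
      rw [hres, hres, hres, ← mul_smul, ← mul_smul, e1]
    have := hlin 1
    rw [mul_one, hφone a ha, mul_one] at this
    rw [hlin, this]
  have hinj : ∀ a : A, Function.Injective (φ a) := fun a x y hxy => by
    apply e.injective
    have h2 := congrArg e hxy
    simp only [φ, AddEquiv.apply_symm_apply] at h2
    apply Additive.toMul.injective
    apply Subtype.ext
    exact MulAction.injective a (congrArg (fun z : Additive V => (z.toMul : T)) h2)
  let ψ : P → GaloisField 2 n ≃ₐ[ZMod 2] GaloisField 2 n := fun a =>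
    AlgEquiv.ofBijective
      { toFun := φ a
        map_one' := hφone a a.2
        map_mul' := hφmul a a.2
        map_zero' := by simp [φ]
        map_add' := hφadd a
        commutes' := fun k => by
          have := RingHom.congr_fun (Subsingleton.elim
            ((({ toFun := φ a, map_one' := hφone a a.2, map_mul' := hφmul a a.2,
                 map_zero' := by simp [φ], map_add' := hφadd a } :
                GaloisField 2 n →+* GaloisField 2 n)).comp (algebraMap (ZMod 2) _))
            (algebraMap (ZMod 2) (GaloisField 2 n))) k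
          exact this }
      (Finite.injective_iff_bijective.1 (hinj a))
  have hψapp : ∀ (a : P) x, ψ a x = e.symm (res (a : A) (e x)) := fun _ _ => rfl
  let Ψ : P →* (GaloisField 2 n ≃ₐ[ZMod 2] GaloisField 2 n) :=
    MonoidHom.mk' ψ fun a b => AlgEquiv.ext fun x => by
      rw [AlgEquiv.mul_apply, hψapp, hψapp, hψapp, AddEquiv.apply_symm_apply, Subgroup.coe_mul,
        map_mul]
      rfl
  have hΨinj : Function.Injective Ψ := by
    intro a b hab
    refine Subtype.ext (h.ext' (a.2.1.trans b.2.1.symm) fun y hy => ?_)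
    have h1 := congrArg e (AlgEquiv.congr_fun hab (e.symm (Additive.ofMul (⟨y, hy⟩ : V))))
    change e (ψ a _) = e (ψ b _) at h1
    rw [hψapp, hψapp] at h1
    simp only [AddEquiv.apply_symm_apply] at h1
    exact congrArg (fun x : Additive V => (x.toMul : T)) h1
  have hgal : Nat.card (GaloisField 2 n ≃ₐ[ZMod 2] GaloisField 2 n) = n := by
    rw [IsGalois.card_aut_eq_finrank, GaloisField.finrank 2 hn0]
  set δ' : P := ⟨δ, hδt, hδv⟩ with hδ'
  set H := Subgroup.zpowers (Ψ δ') with hH
  have hcardH : Nat.card H = r := by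
    rw [hH, Nat.card_zpowers, orderOf_injective Ψ hΨinj, ← Subgroup.orderOf_coe]; exact hδo
  have hbot : IntermediateField.fixedField H = ⊥ := by
    rw [eq_bot_iff]
    intro x hx
    have h1 : Ψ δ' x = x := hx ⟨Ψ δ', Subgroup.mem_zpowers _⟩
    change ψ δ' x = x at h1
    rw [hψapp] at h1
    have h2 := congrArg e h1
    rw [AddEquiv.apply_symm_apply] at h2
    have h3 : δ • ((e x).toMul : T) = ((e x).toMul : T) :=
      congrArg (fun z : Additive V => (z.toMul : T)) h2
    rcases hfix _ (e x).toMul.2 h3 with h4 | h4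
    · have : e x = 0 := Additive.toMul.injective (Subtype.ext h4)
      rw [map_eq_zero_iff e e.injective] at this
      rw [this]
      exact zero_mem _
    · have : e x = e 1 := by rw [he1]; exact Additive.toMul.injective (Subtype.ext h4)
      rw [e.injective this]
      exact one_mem _
  have hrn : r = n := by
    rw [← hcardH, ← IntermediateField.finrank_fixedField_eq_card H, hbot,
      IntermediateField.finrank_bot', GaloisField.finrank 2 hn0]
  have hle : Nat.card P ≤ n := hgal ▸ Nat.card_le_card_of_injective Ψ hΨinj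
  have hsub : Subgroup.zpowers δ ≤ P := Subgroup.zpowers_le.2 ⟨hδt, hδv⟩
  have heq : Subgroup.zpowers δ = P :=
    Subgroup.eq_of_le_of_card_ge hsub (by rw [Nat.card_zpowers, hδo, hrn]; exact hle)
  refine ⟨hrn, ?_, fun ε h1 h2 => ?_⟩
  · rw [← heq, Nat.card_zpowers, hδo]
  · rw [heq]; exact ⟨h1, h2⟩

/-- The order and the two-local structure in the non-translation case. -/
theorem three : n = 3 ∧ Nat.card A = 168 := by
  classical
  haveI : Fact (Nat.Prime 2) := ⟨Nat.prime_two⟩
  have hn0 : n ≠ 0 := by have := h.two_le; omega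
  haveI : Nontrivial V := by
    rw [← Finite.one_lt_card_iff_nontrivial, h.card_V]
    exact Nat.one_lt_two_pow hn0
  obtain ⟨⟨v, hv⟩, hv1'⟩ := exists_ne (1 : V)
  have hv1 : v ≠ 1 := fun e => hv1' (Subtype.ext e)
  have htv : t * v ∉ V := h.notMem_mul hv
  have hne : t ≠ t * v := fun e => hv1 (mul_eq_left.1 e.symm)
  obtain ⟨g₀, hg₀, hg₀'⟩ := h.two_trans htv h.notMem hne.symm hv hv1
  obtain ⟨k₀, hk₀, hk₁, hk₂⟩ := h.swap_involution h.notMem hne hg₀ hg₀'
  set x := g₀ ^ k₀ with hxdef
  clear_value x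
  clear hxdef hg₀ hg₀' g₀
  rename' hk₀ => hx, hk₁ => hxt, hk₂ => hxtv
  have hxx := CIT21.mul_self_of_orderOf hx
  have hxinv : x⁻¹ = x := inv_eq_of_mul_eq_one_right hxx
  have hxv : x • v = v := by
    have e := hxtv
    rw [smul_mul', hxt, mul_assoc] at e
    rw [eq_inv_of_mul_eq_one_right (mul_eq_left.1 e), h.inv_self]
  obtain ⟨δ, r, hr, hr2, hδo, hδt, hδv, hinv⟩ := h.exists_inverted hv hv1 hx hxt hxtv
  obtain ⟨hfix, hcentδ⟩ := h.fixed_eq hv hv1 hx hxt hxtv hr hr2 hδo hδt hδv hinv
  obtain ⟨hrn, hPcard, hPmem⟩ := h.pair_stabilizer hv hv1 hδo hδt hδv hfix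
  haveI := Fact.mk hr
  have hr3 : 3 ≤ r := by have := hr.two_le; omega
  have hrodd : Odd r := hr.odd_of_ne_two hr2
  have hδodd : Odd (orderOf δ) := hδo ▸ hrodd
  have hδ1 : δ ≠ 1 := fun e => by rw [e, orderOf_one] at hδo; omega
  -- powers of `δ` are inverted
  have hinvpow : ∀ ε ∈ Subgroup.zpowers δ, x * ε * x = ε⁻¹ := by
    intro ε hε
    obtain ⟨i, rfl⟩ := (Submonoid.mem_powers_iff _ _).1
      ((isOfFinOrder_of_finite δ).mem_powers_iff_mem_zpowers.2 hε)
    exact CIT21.inverts_pow hxx hinv i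
  -- conjugating a swapped pair to the base pair
  have tobase : ∀ (u : A) (y : T), y ∉ V → u • y ≠ y → u * u = 1 →
      ∃ a : A, a • t = y ∧ a • (t * v) = u • y ∧ x * (a⁻¹ * u * a) ∈ Subgroup.zpowers δ := by
    intro u y hy hne' huu
    obtain ⟨a, ha1, ha2⟩ := h.two_trans hy (h.smul_notMem u hy) hne'.symm hv hv1
    refine ⟨a, ha1, ha2, ?_⟩
    have huy : u • u • y = y := by rw [← mul_smul, huu, one_smul]
    have e1 : (x * (a⁻¹ * u * a)) • t = t := by
      rw [mul_smul, mul_smul, mul_smul, ha1, ← ha2, inv_smul_smul, hxtv]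
    have e2 : (x * (a⁻¹ * u * a)) • (t * v) = t * v := by
      rw [mul_smul, mul_smul, mul_smul, ha2, huy, ← ha1, inv_smul_smul, hxt]
    rw [smul_mul', e1] at e2
    exact hPmem _ e1 (mul_left_cancel e2)
  -- centralisers of involutions are `2`-groups
  have hCIT : CIT21.IsCIT A := by
    intro u hu
    have huu := CIT21.mul_self_of_orderOf hu
    refine CIT21.isPGroup_of_forall fun g hg => ?_
    rw [CIT21.mem_centralizer_one] at hg
    by_contra hnot
    obtain ⟨p, hp, hp2, hpd⟩ : ∃ p, p.Prime ∧ p ≠ 2 ∧ p ∣ orderOf g := by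
      by_contra hcon
      push Not at hcon
      obtain ⟨k, m, hm, hkm⟩ := Nat.exists_eq_two_pow_mul_odd (orderOf_pos g).ne'
      refine hnot ⟨k, ?_⟩
      have hm1 : m = 1 := by
        by_contra hm1
        obtain ⟨p, hp, hpd⟩ := Nat.exists_prime_and_dvd hm1
        refine hcon p hp (fun e => ?_) (hkm ▸ hpd.mul_left _)
        exact Nat.not_odd_iff_even.2 (even_iff_two_dvd.2 (e ▸ hpd)) hm
      rw [hm1, mul_one] at hkm
      rw [← hkm, pow_orderOf_eq_one]
    set g' := g ^ (orderOf g / p) with hg'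
    have hg'o : orderOf g' = p := orderOf_pow_orderOf_div (orderOf_pos g).ne' hpd
    have hcomm : u * g' = g' * u := ((show Commute u g from hg).pow_right _).eq
    obtain ⟨y, hy, hgy⟩ := h.exists_fixed hp hp2 hg'o
    obtain ⟨a, ha1, ha2, hw⟩ := tobase u y hy (h.involution_free hu hy) huu
    have hgu : g' • u • y = u • y := by rw [← mul_smul, ← hcomm, mul_smul, hgy]
    set d := a⁻¹ * g' * a with hd
    have hdP : d ∈ Subgroup.zpowers δ := by
      have e1 : d • t = t := by rw [hd, mul_smul, mul_smul, ha1, hgy, ← ha1, inv_smul_smul]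
      have e2 : d • (t * v) = t * v := by
        rw [hd, mul_smul, mul_smul, ha2, hgu, ← ha2, inv_smul_smul]
      rw [smul_mul', e1] at e2
      exact hPmem _ e1 (mul_left_cancel e2)
    set w := x * (a⁻¹ * u * a) with hw'
    have hwd : w * d = d * w := by
      obtain ⟨i, hi⟩ := Subgroup.mem_zpowers_iff.1 hw
      obtain ⟨j, hj⟩ := Subgroup.mem_zpowers_iff.1 hdP
      rw [← hi, ← hj]
      exact ((Commute.refl δ).zpow_zpow i j).eq
    have hxw : a⁻¹ * u * a = x * w := by rw [hw', ← mul_assoc x x, hxx, one_mul]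
    have hxd : x * d = d * x := by
      have h1 : (a⁻¹ * u * a) * d = d * (a⁻¹ * u * a) := by
        rw [hd]
        calc a⁻¹ * u * a * (a⁻¹ * g' * a) = a⁻¹ * (u * g') * a := by group
          _ = a⁻¹ * (g' * u) * a := by rw [hcomm]
          _ = _ := by group
      rw [hxw] at h1
      refine mul_right_cancel (b := w) ?_
      calc x * d * w = x * (w * d) := by rw [hwd, mul_assoc]
        _ = d * (x * w) := by rw [← mul_assoc, h1]
        _ = d * x * w := (mul_assoc d x w).symm
    have hd2 := hinvpow d hdP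
    rw [hxd, mul_assoc, hxx, mul_one] at hd2
    have hsq : d ^ 2 = 1 := by rw [pow_two]; nth_rw 2 [hd2]; exact mul_inv_cancel d
    have := orderOf_dvd_of_pow_eq_one hsq
    rw [hd, show a⁻¹ * g' * a = MulAut.conj a⁻¹ g' by simp, MulEquiv.orderOf_eq, hg'o] at this
    exact hp2 ((Nat.prime_dvd_prime_iff_eq hp Nat.prime_two).1 this)
  -- all involutions are conjugate to `x`
  have hconj : ∀ u : A, orderOf u = 2 → ∃ a : A, a⁻¹ * u * a = x := by
    intro u hu
    obtain ⟨a, -, -, hw⟩ := tobase u t h.notMem (h.involution_free hu h.notMem)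
      (CIT21.mul_self_of_orderOf hu)
    obtain ⟨i, hi⟩ := (Submonoid.mem_powers_iff _ _).1
      ((isOfFinOrder_of_finite δ).mem_powers_iff_mem_zpowers.2 hw)
    obtain ⟨j, hj⟩ := hrodd
    refine ⟨a * δ ^ (i * j), ?_⟩
    have e1 : a⁻¹ * u * a = x * δ ^ i := by rw [hi, ← mul_assoc x x, hxx, one_mul]
    have e2 : (δ ^ (i * j))⁻¹ * x = x * δ ^ (i * j) := by
      rw [← CIT21.inverts_pow hxx hinv (i * j), mul_assoc, hxx, mul_one]
    have e3 : δ ^ (i * (2 * j + 1)) = 1 := by
      rw [mul_comm, pow_mul, ← hj, ← hδo, pow_orderOf_eq_one, one_pow]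
    calc (a * δ ^ (i * j))⁻¹ * u * (a * δ ^ (i * j))
        = (δ ^ (i * j))⁻¹ * (a⁻¹ * u * a) * δ ^ (i * j) := by group
      _ = (δ ^ (i * j))⁻¹ * x * (δ ^ i * δ ^ (i * j)) := by rw [e1]; group
      _ = x * δ ^ (i * (2 * j + 1)) := by
        rw [e2, mul_assoc, ← pow_add, ← pow_add, show i * (2 * j + 1) = i * j + (i + i * j) by ring]
      _ = x := by rw [e3, mul_one]
  -- orders
  have hct : ∀ i : ℕ, c ^ i • t = t := fun i => Subgroup.pow_mem (stabilizer A t) h.fix_c i
  have hVc : ((V : Set T) \ {1}).ncard = 2 ^ n - 1 := by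
    rw [Set.ncard_sdiff_singleton_of_mem V.one_mem, ← Nat.card_coe_set_eq]
    exact congrArg (· - 1) h.card_V
  set M := stabilizer A v with hM
  set K := stabilizer A t with hKdef
  have hMidx : M.index = 2 ^ n - 1 := by
    rw [hM, index_stabilizer, show orbit A v = (V : Set T) \ {1} from ?_, hVc]
    ext y
    constructor
    · rintro ⟨a, rfl⟩
      exact ⟨h.inv a v hv, fun e => hv1 (by simpa using (inv_smul_eq_iff.2 (Set.mem_singleton_iff.1 e).symm).symm)⟩
    · rintro ⟨hy, hy1⟩
      obtain ⟨i, hi⟩ := h.trans v hv y hy hv1 hy1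
      exact ⟨c ^ i, hi⟩
  have hKidx : K.index = 2 ^ n := by
    rw [hKdef, index_stabilizer, show orbit A t = (fun z => t * z) '' (V : Set T) from ?_,
      Set.ncard_image_of_injective _ (mul_right_injective t), ← Nat.card_coe_set_eq]
    · exact h.card_V
    ext y
    constructor
    · rintro ⟨a, rfl⟩
      exact ⟨t * a • t, h.coset (h.smul_notMem a h.notMem), h.tmul _⟩
    · rintro ⟨z, hz, rfl⟩
      obtain ⟨a, ha⟩ := h.orb z hz
      exact ⟨a, ha⟩
  have hKM : (K ⊓ M).relIndex K = 2 ^ n - 1 := by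
    rw [Subgroup.inf_relIndex_left, Subgroup.relIndex,
      show M.subgroupOf K = stabilizer K v from rfl, index_stabilizer,
      show orbit K v = (V : Set T) \ {1} from ?_, hVc]
    ext y
    constructor
    · rintro ⟨a, rfl⟩
      exact ⟨h.inv a v hv, fun e => hv1 (by
        simpa using (inv_smul_eq_iff.2 (Set.mem_singleton_iff.1 e).symm).symm)⟩
    · rintro ⟨hy, hy1⟩
      obtain ⟨i, hi⟩ := h.trans v hv y hy hv1 hy1
      exact ⟨⟨c ^ i, hct i⟩, hi⟩
  have hA : Nat.card A = 2 ^ n * ((2 ^ n - 1) * r) := by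
    rw [← Subgroup.card_mul_index K, hKidx, ← Subgroup.relIndex_bot_left,
      ← Subgroup.relIndex_mul_relIndex ⊥ (K ⊓ M) K bot_le inf_le_left, hKM,
      Subgroup.relIndex_bot_left, hPcard]
    ring
  have h2n1 : 0 < 2 ^ n - 1 := by have := Nat.one_lt_two_pow hn0; omega
  have hMcard : Nat.card M = 2 ^ n * r := by
    have := Subgroup.card_mul_index M
    rw [hMidx, hA, ← mul_assoc (2 ^ n)] at this
    exact Nat.eq_of_mul_eq_mul_right h2n1 (by rw [this]; ring)
  -- the `2`-core of the point stabiliser in `V`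
  haveI hMsol : Group.IsSolvable M :=
    CharInduced.solvable_of_card_two_primes (G := M) 2 r n 1 Nat.prime_two hr (by rw [hMcard, pow_one])
  set Q := CIT21.O2 M with hQ
  have hQp := CIT21.isPGroup_O2 M
  have hQM := CIT21.O2_le M
  have hδM : δ ∈ M := hδv
  have hxM : x ∈ M := hxv
  set D := Subgroup.zpowers δ with hD
  have hDM : D ≤ M := Subgroup.zpowers_le.2 hδM
  set ND := Subgroup.normalizer (D : Set A) ⊓ M with hND
  have hQδ : ∀ q ∈ Q, q * δ = δ * q → q = 1 := fun q hq hqd =>
    CIT21.fpf hCIT hQp hδodd hδ1 hq hqd.symm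
  have hNDmem : ∀ g ∈ Subgroup.normalizer (D : Set A), g ∈ D ∨ x * g ∈ D := by
    intro g hg
    have hδg : δ • g • t = g • t := by
      have hh : g⁻¹ * δ * g ∈ D := by
        have := (Subgroup.mem_normalizer_iff.1 (Subgroup.inv_mem _ hg) δ).1 (Subgroup.mem_zpowers δ)
        simpa using this
      have h2 : (g⁻¹ * δ * g) • t = t := (Subgroup.zpowers_le.2 (show δ ∈ K from hδt) : D ≤ K) hh
      rw [mul_smul, mul_smul, inv_smul_eq_iff] at h2
      exact h2
    have hδg2 : δ • g • (t * v) = g • (t * v) := by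
      have hh : g⁻¹ * δ * g ∈ D := by
        have := (Subgroup.mem_normalizer_iff.1 (Subgroup.inv_mem _ hg) δ).1 (Subgroup.mem_zpowers δ)
        simpa using this
      have h2 : (g⁻¹ * δ * g) • (t * v) = t * v := by
        have hle : D ≤ stabilizer A (t * v) := Subgroup.zpowers_le.2 (by
          show δ • (t * v) = t * v
          rw [smul_mul', hδt, hδv])
        exact hle hh
      rw [mul_smul, mul_smul, inv_smul_eq_iff] at h2
      exact h2
    have two : ∀ y, y ∉ V → δ • y = y → y = t ∨ y = t * v := by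
      intro y hy hyδ
      rcases hfix _ (h.coset hy) (by rw [smul_mul', hδt, hyδ]) with e | e
      · left; rw [← h.tmul y, e, mul_one]
      · right; rw [← h.tmul y, e]
    rcases two _ (h.smul_notMem g h.notMem) hδg with e | e <;>
      rcases two _ (h.smul_notMem g htv) hδg2 with e' | e'
    · exact absurd (MulAction.injective g (e'.trans e.symm)) hne.symm
    · left
      refine hPmem g e ?_
      rw [smul_mul', e] at e'
      exact mul_left_cancel e'
    · right
      have e1 : (x * g) • t = t := by rw [mul_smul, e, hxtv]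
      refine hPmem _ e1 ?_
      have e2 : (x * g) • (t * v) = t * v := by rw [mul_smul, e', hxt]
      rw [smul_mul', e1] at e2
      exact mul_left_cancel e2
    · exact absurd (MulAction.injective g (e'.trans e.symm)) hne.symm
  have hxnorm : x ∈ Subgroup.normalizer (D : Set A) := by
    have hstep : ∀ y ∈ D, x * y * x⁻¹ ∈ D := fun y hy => by
      rw [hxinv, hinvpow y hy]
      exact D.inv_mem hy
    rw [Subgroup.mem_normalizer_iff]
    refine fun y => ⟨hstep y, fun hy => ?_⟩
    have := hstep _ hy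
    rwa [hxinv, ← mul_assoc, ← mul_assoc, hxx, one_mul, mul_assoc, hxx, mul_one] at this
  have hQnorm : M ≤ Subgroup.normalizer (Q : Set A) := CIT21.le_normalizer_O2 M
  -- the Frattini argument
  have hdecomp : ∀ g ∈ M, ∃ q ∈ Q, ∃ d ∈ D, g = q * d ∨ g = q * x * d := by
    haveI hQn : (Cfsg.pCore 2 M).Normal := CIT21.pCore_two_normal M
    set π := QuotientGroup.mk' (Cfsg.pCore 2 M) with hπ
    -- no normal `2`-subgroup in the quotient
    have hno : ∀ L : Subgroup (M ⧸ Cfsg.pCore 2 M), L.Normal → IsPGroup 2 L → L = ⊥ := by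
      intro L hL hLp
      haveI := hL
      have h1 : L.comap π ≤ Cfsg.pCore 2 M := by
        refine le_sSup ⟨inferInstance, ?_⟩
        refine hLp.comap_of_ker_isPGroup π ?_
        rw [hπ, QuotientGroup.ker_mk']
        exact CIT21.isPGroup_pCore_two M
      rw [eq_bot_iff]
      intro z hz
      obtain ⟨w, rfl⟩ := QuotientGroup.mk'_surjective _ z
      exact (QuotientGroup.eq_one_iff w).2 (h1 hz)
    set δM : M := ⟨δ, hδM⟩ with hδM'
    have hδπ : orderOf (π δM) = r := by
      have hd : orderOf (π δM) ∣ r := by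
        have := orderOf_map_dvd π δM
        rwa [Subgroup.orderOf_mk, hδo] at this
      rcases (Nat.dvd_prime hr).1 hd with e | e
      · exfalso
        have hm := (QuotientGroup.eq_one_iff δM).1 (orderOf_eq_one_iff.1 e)
        have hmQ : δ ∈ Q := ⟨δM, hm, rfl⟩
        exact hδ1 (hQδ δ hmQ rfl)
      · exact e
    -- the last derived subgroup is the normal subgroup of order `r`
    have hLexists : ∃ L : Subgroup (M ⧸ Cfsg.pCore 2 M), L.Normal ∧ L ≠ ⊥ ∧
        ∀ a ∈ L, ∀ b ∈ L, a * b = b * a := by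
      haveI : Nontrivial (M ⧸ Cfsg.pCore 2 M) := ⟨π δM, 1, fun e => by
        rw [e, orderOf_one] at hδπ; omega⟩
      haveI : Group.IsSolvable (M ⧸ Cfsg.pCore 2 M) :=
        Group.isSolvable_of_surjective (QuotientGroup.mk'_surjective _)
      obtain ⟨m, hm⟩ := (Group.isSolvable_def (M ⧸ Cfsg.pCore 2 M)).1 inferInstance
      have hex : ∃ m, derivedSeries (M ⧸ Cfsg.pCore 2 M) m = ⊥ := ⟨m, hm⟩
      obtain ⟨j, hj⟩ : ∃ j, Nat.find hex = j + 1 := by
        refine ⟨Nat.find hex - 1, ?_⟩
        have : Nat.find hex ≠ 0 := fun e => by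
          have := Nat.find_spec hex
          rw [e, derivedSeries_zero] at this
          exact top_ne_bot this
        omega
      refine ⟨derivedSeries _ j, derivedSeries_normal _ j, Nat.find_min hex (by omega), fun a ha b hb => ?_⟩
      have hs := Nat.find_spec hex
      rw [hj, derivedSeries_succ] at hs
      have := Subgroup.commutator_mem_commutator ha hb
      rw [hs, Subgroup.mem_bot] at this
      exact commutatorElement_eq_one_iff_mul_comm.1 this
    obtain ⟨L, hLn, hL1, hLc⟩ := hLexists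
    haveI := hLn
    have hLodd : ¬ 2 ∣ Nat.card L := by
      intro hd
      obtain ⟨z, hz⟩ := exists_prime_orderOf_dvd_card' (G := L) 2 hd
      let L2 : Subgroup (M ⧸ Cfsg.pCore 2 M) :=
        { carrier := {a | a ∈ L ∧ a * a = 1}
          one_mem' := ⟨L.one_mem, mul_one 1⟩
          inv_mem' := fun {a} ha => ⟨L.inv_mem ha.1, by rw [← mul_inv_rev, ha.2, inv_one]⟩
          mul_mem' := fun {a b} ha hb => ⟨L.mul_mem ha.1 hb.1, by
            rw [mul_assoc, ← mul_assoc b, ← hLc a ha.1 b hb.1, mul_assoc a b b, hb.2, mul_one,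
              ha.2]⟩ }
      have hL2n : L2.Normal := ⟨fun a ha g => ⟨hLn.conj_mem a ha.1 g, by
        rw [show g * a * g⁻¹ * (g * a * g⁻¹) = g * (a * a) * g⁻¹ by group, ha.2]; group⟩⟩
      have := hno L2 hL2n fun a => ⟨1, Subtype.ext (by
        rw [pow_one, pow_two, Subgroup.coe_mul]; exact a.2.2)⟩
      have hz2 : (z : M ⧸ Cfsg.pCore 2 M) ∈ L2 := ⟨z.2, by
        have h2 := pow_orderOf_eq_one z
        rw [hz, pow_two] at h2
        simpa using congrArg Subtype.val h2⟩
      rw [this, Subgroup.mem_bot] at hz2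
      rw [← Subgroup.orderOf_coe, hz2, orderOf_one] at hz
      omega
    have hLd : Nat.card L ∣ 2 ^ n * r := by
      refine (Subgroup.card_subgroup_dvd_card L).trans ?_
      rw [← hMcard]
      exact Dvd.intro _ (Subgroup.card_eq_card_quotient_mul_card_subgroup _).symm
    have hLr : Nat.card L = r := by
      have hd : Nat.card L ∣ r := (Nat.Coprime.pow_right n
        (Nat.prime_two.coprime_iff_not_dvd.2 hLodd).symm).dvd_of_dvd_mul_left hLd
      rcases (Nat.dvd_prime hr).1 hd with e | e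
      · exact absurd (Subgroup.card_eq_one.1 e) hL1
      · exact e
    -- `L` is generated by the image of `δ`
    have hLeq : L = Subgroup.zpowers (π δM) := by
      have hcard : Nat.card (Subgroup.zpowers (π δM)) = r := by rw [Nat.card_zpowers, hδπ]
      by_contra hne'
      have hdisj : L ⊓ Subgroup.zpowers (π δM) = ⊥ := by
        rw [← Subgroup.card_eq_one]
        have h1 := Subgroup.card_dvd_of_le (inf_le_left : L ⊓ Subgroup.zpowers (π δM) ≤ L)
        rw [hLr] at h1
        rcases (Nat.dvd_prime hr).1 h1 with e | e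
        · exact e
        · exfalso
          have e1 := Subgroup.eq_of_le_of_card_ge (inf_le_left : L ⊓ Subgroup.zpowers (π δM) ≤ L)
            (by rw [e, hLr])
          have e2 := Subgroup.eq_of_le_of_card_ge
            (inf_le_right : L ⊓ Subgroup.zpowers (π δM) ≤ Subgroup.zpowers (π δM))
            (by rw [e, hcard])
          exact hne' (e1.symm.trans e2)
      have hd := Subgroup.card_subgroup_dvd_card (L ⊔ Subgroup.zpowers (π δM))
      have hsup : Nat.card ↥(L ⊔ Subgroup.zpowers (π δM)) = r * r := by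
        have h1 := Subgroup.relIndex_mul_relIndex (⊥ : Subgroup _) L (L ⊔ Subgroup.zpowers (π δM))
          bot_le le_sup_left
        rw [Subgroup.relIndex_bot_left, Subgroup.relIndex_bot_left, Subgroup.relIndex_sup_left,
          ← Subgroup.inf_relIndex_right, hdisj, Subgroup.relIndex_bot_left, hLr, hcard] at h1
        exact h1.symm
      rw [hsup] at hd
      have hd' : r * r ∣ 2 ^ n * r :=
        hMcard ▸ hd.trans (Dvd.intro _ (Subgroup.card_eq_card_quotient_mul_card_subgroup _).symm)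
      have := Nat.dvd_of_mul_dvd_mul_right hr.pos hd'
      exact hr2 ((Nat.prime_dvd_prime_iff_eq hr Nat.prime_two).1 (hr.dvd_of_dvd_pow this))
    -- Frattini in the preimage
    intro g hg
    set gM : M := ⟨g, hg⟩ with hgM
    have hmem : π (gM * δM * gM⁻¹) ∈ Subgroup.zpowers (π δM) := by
      rw [← hLeq, map_mul, map_mul, map_inv]
      exact hLn.conj_mem _ (hLeq ▸ Subgroup.mem_zpowers _) _
    set X := Q ⊔ D with hX
    have hgX : g * δ * g⁻¹ ∈ X := by
      obtain ⟨i, hi⟩ := Subgroup.mem_zpowers_iff.1 hmem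
      rw [← map_zpow] at hi
      have hq : (δM ^ i)⁻¹ * (gM * δM * gM⁻¹) ∈ Cfsg.pCore 2 M :=
        QuotientGroup.eq.1 hi
      have hq' : (δ ^ i)⁻¹ * (g * δ * g⁻¹) ∈ Q := ⟨_, hq, by simp [δM, gM]⟩
      have := X.mul_mem (Subgroup.mem_sup_right (Subgroup.zpow_mem _ (Subgroup.mem_zpowers δ) i) : δ ^ i ∈ X)
        (Subgroup.mem_sup_left hq')
      rwa [mul_inv_cancel_left] at this
    -- `D` is a Sylow subgroup of `X`
    have hnormD : D ≤ Subgroup.normalizer (Q : Set A) := hDM.trans hQnorm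
    obtain ⟨q, hq, d, hd, hqd⟩ : ∃ q ∈ Q, ∃ d ∈ D, q * d = g * δ * g⁻¹ := by
      have : g * δ * g⁻¹ ∈ ((Q ⊔ D : Subgroup A) : Set A) := hgX
      rw [Subgroup.coe_mul_of_right_le_normalizer_left _ _ hnormD] at this
      exact Set.mem_mul.1 this
    -- fixed-point-free: `q d` is `Q`-conjugate to `d`
    have hd1 : d ≠ 1 := by
      intro e
      rw [e, mul_one] at hqd
      have h2 := CIT21.twoElt_of_mem hQp (hqd ▸ hq)
      have ho : orderOf (g * δ * g⁻¹) = r := by
        rw [show g * δ * g⁻¹ = MulAut.conj g δ by simp, MulEquiv.orderOf_eq, hδo]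
      have := CIT21.eq_one_of_odd_twoElt (ho ▸ hrodd) h2
      rw [this, orderOf_one] at ho
      omega
    have hdodd : Odd (orderOf d) := by
      have := orderOf_dvd_of_mem_zpowers hd
      exact Odd.of_dvd_nat hδodd this
    let f : Q → Q := fun y => ⟨(y : A) * d * (y : A)⁻¹ * d⁻¹, by
      have := (Subgroup.mem_normalizer_iff.1 (hnormD hd) (y : A)⁻¹).1 (Q.inv_mem y.2)
      have := Q.mul_mem y.2 this
      simpa [mul_assoc] using this⟩
    have hf : Function.Injective f := by
      intro y y' he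
      have he' : (y : A) * d * (y : A)⁻¹ = (y' : A) * d * (y' : A)⁻¹ :=
        mul_right_cancel (congrArg Subtype.val he)
      refine Subtype.ext (inv_mul_eq_one.1 (CIT21.fpf hCIT hQp hdodd hd1
        (Q.mul_mem (Q.inv_mem y.2) y'.2) ?_))
      calc d * ((y : A)⁻¹ * (y' : A)) = (y : A)⁻¹ * ((y : A) * d * (y : A)⁻¹) * (y' : A) := by group
        _ = (y : A)⁻¹ * ((y' : A) * d * (y' : A)⁻¹) * (y' : A) := by rw [he']
        _ = _ := by group
    obtain ⟨⟨y, hy⟩, hye⟩ := (Finite.injective_iff_surjective.1 hf) ⟨q, hq⟩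
    have hye' : y * d * y⁻¹ = g * δ * g⁻¹ := by
      have : y * d * y⁻¹ * d⁻¹ = q := congrArg Subtype.val hye
      rw [← hqd, ← this]; group
    have hyD : y⁻¹ * g ∈ Subgroup.normalizer (D : Set A) := by
      have hmap : D.map (MulAut.conj (y⁻¹ * g)).toMonoidHom = D := by
        refine Subgroup.eq_of_le_of_card_ge ?_ (le_of_eq (Subgroup.card_map_of_injective (MulEquiv.injective _)).symm)
        rw [hD, MonoidHom.map_zpowers, Subgroup.zpowers_le]
        have : (MulAut.conj (y⁻¹ * g)).toMonoidHom δ = d := by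
          simp only [MulEquiv.coe_toMonoidHom, MulAut.conj_apply, mul_inv_rev, inv_inv]
          calc y⁻¹ * g * δ * (g⁻¹ * y) = y⁻¹ * (g * δ * g⁻¹) * y := by group
            _ = d := by rw [← hye']; group
        rw [this]
        exact hd
      rw [Subgroup.mem_normalizer_iff]
      intro z
      constructor
      · intro hz
        rw [← hmap]
        exact ⟨z, hz, by simp [mul_assoc]⟩
      · intro hz
        rw [← hmap] at hz
        obtain ⟨w, hw, he⟩ := hz
        simp only [MulEquiv.coe_toMonoidHom, MulAut.conj_apply] at he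
        exact (mul_left_cancel (mul_right_cancel he)) ▸ hw
    rcases hNDmem _ hyD with hh | hh
    · exact ⟨y, hy, y⁻¹ * g, hh, Or.inl (by group)⟩
    · refine ⟨y, hy, x * (y⁻¹ * g), hh, Or.inr ?_⟩
      calc g = y * (x * x) * (y⁻¹ * g) := by rw [hxx]; group
        _ = _ := by group
  have hQodd : ∀ y ∈ Q, Odd (orderOf y) → y = 1 := fun y hy ho =>
    CIT21.eq_one_of_odd_twoElt ho (CIT21.twoElt_of_mem hQp hy)
  have hxQ : x ∉ Q := by
    intro hxQ
    have h1 : δ * x * δ⁻¹ ∈ Q := CIT21.O2_conj_mem hδM hxQ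
    have h2 : x * (δ * x * δ⁻¹) = (δ ^ 2)⁻¹ := by
      rw [pow_two, mul_inv_rev, ← mul_assoc, ← mul_assoc, hinv]
    have h3 := hQodd _ (h2 ▸ Q.mul_mem hxQ h1) (by
      rw [orderOf_inv]; exact Odd.of_dvd_nat hδodd (orderOf_pow_dvd 2))
    rw [inv_eq_one] at h3
    have := orderOf_dvd_of_pow_eq_one h3
    rw [hδo] at this
    exact hr2 ((Nat.prime_dvd_prime_iff_eq hr Nat.prime_two).1 this)
  have hQnx : Subgroup.zpowers x ≤ Subgroup.normalizer (Q : Set A) :=
    Subgroup.zpowers_le.2 (hQnorm hxM)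
  have hxzp : IsPGroup 2 (Subgroup.zpowers x) :=
    IsPGroup.of_card (n := 1) (by rw [Nat.card_zpowers, hx, pow_one])
  set R := Q ⊔ Subgroup.zpowers x with hR
  have hRp : IsPGroup 2 R := by
    rw [hR, sup_comm]
    exact hxzp.to_sup_of_normal_right' hQp hQnx
  have hxR : x ∈ R := Subgroup.mem_sup_right (Subgroup.mem_zpowers x)
  have hRmem : ∀ y ∈ R, y ∈ Q ∨ ∃ q ∈ Q, y = q * x := by
    intro y hy
    rw [← SetLike.mem_coe, hR, Subgroup.coe_mul_of_right_le_normalizer_left _ _ hQnx] at hy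
    obtain ⟨q, hq, z, hz, rfl⟩ := Set.mem_mul.1 hy
    obtain ⟨i, rfl⟩ := Subgroup.mem_zpowers_iff.1 hz
    rw [zpow_mod_orderOf x i |>.symm, hx]
    rcases Int.emod_two_eq_zero_or_one i with e | e
    · left; rw [show i % ((2 : ℕ) : ℤ) = 0 from e, zpow_zero, mul_one]; exact hq
    · right; exact ⟨q, hq, by rw [show i % ((2 : ℕ) : ℤ) = 1 from e, zpow_one]⟩
  have hNA : ∀ P : Subgroup A, IsPGroup 2 P → Nat.card P ≤ 2 ^ n := by
    intro P hP
    obtain ⟨j, hj⟩ := hP.exists_card_eq
    have hd := Subgroup.card_subgroup_dvd_card P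
    rw [hj, hA] at hd
    have hodd2 : ¬ 2 ∣ (2 ^ n - 1) * r := by
      rw [Nat.Prime.dvd_mul Nat.prime_two]
      have : 2 ∣ 2 ^ n := dvd_pow_self 2 hn0
      rintro (e | e)
      · omega
      · exact Nat.not_odd_iff_even.2 (even_iff_two_dvd.2 e) hrodd
    rw [hj]
    exact Nat.le_of_dvd (by positivity)
      ((Nat.Coprime.pow_left j (Nat.prime_two.coprime_iff_not_dvd.2 hodd2)).dvd_of_dvd_mul_right hd)
  obtain ⟨j, hj⟩ := hRp.exists_card_eq
  obtain ⟨k, hk⟩ := hQp.exists_card_eq
  have hjn : j ≤ n := (Nat.pow_le_pow_iff_right one_lt_two).1 (hj ▸ hNA R hRp)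
  have hkj : k < j := by
    by_contra hle
    have hle2 : 2 ^ j ≤ 2 ^ k := Nat.pow_le_pow_right two_pos (by omega)
    refine hxQ ?_
    rw [Subgroup.eq_of_le_of_card_ge (le_sup_left : Q ≤ R) (hj.le.trans (hle2.trans hk.ge))]
    exact hxR
  have hnk : n ≤ k + 1 := by
    have hsurj : Nat.card M ≤ Nat.card ((Q × D) × Bool) := by
      refine Nat.card_le_card_of_injective (β := (Q × D) × Bool) (fun g => ?_) ?_
      · exact if hh : ∃ q ∈ Q, ∃ d ∈ D, (g : A) = q * d then
            ((⟨_, hh.choose_spec.1⟩, ⟨_, hh.choose_spec.2.choose_spec.1⟩), false)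
          else
            have hh' : ∃ q ∈ Q, ∃ d ∈ D, (g : A) = q * x * d := by
              obtain ⟨q, hq, d, hd, e | e⟩ := hdecomp g g.2
              · exact absurd ⟨q, hq, d, hd, e⟩ hh
              · exact ⟨q, hq, d, hd, e⟩
            ((⟨_, hh'.choose_spec.1⟩, ⟨_, hh'.choose_spec.2.choose_spec.1⟩), true)
      · intro g g' he
        simp only at he
        split_ifs at he with h1 h2 h2
        · simp only [Prod.mk.injEq, Subtype.mk.injEq, and_true] at he
          refine Subtype.ext ?_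
          rw [h1.choose_spec.2.choose_spec.2, h2.choose_spec.2.choose_spec.2]
          exact congrArg₂ (· * ·) he.1 he.2
        · simp at he
        · simp at he
        · simp only [Prod.mk.injEq, Subtype.mk.injEq, and_true] at he
          obtain ⟨q, hq, d, hd, e | e⟩ := hdecomp g g.2
          · exact absurd ⟨q, hq, d, hd, e⟩ h1
          obtain ⟨q', hq', d', hd', e' | e'⟩ := hdecomp g' g'.2
          · exact absurd ⟨q', hq', d', hd', e'⟩ h2
          have k1 : ∃ q ∈ Q, ∃ d ∈ D, (g : A) = q * x * d := ⟨q, hq, d, hd, e⟩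
          have k2 : ∃ q ∈ Q, ∃ d ∈ D, (g' : A) = q * x * d := ⟨q', hq', d', hd', e'⟩
          refine Subtype.ext ?_
          rw [k1.choose_spec.2.choose_spec.2, k2.choose_spec.2.choose_spec.2]
          exact congrArg₂ (fun q d => q * x * d) he.1 he.2
    rw [Nat.card_prod, Nat.card_prod, hMcard, hk, show Nat.card D = r by
      rw [hD, Nat.card_zpowers, hδo], Nat.card_eq_fintype_card (α := Bool), Fintype.card_bool] at hsurj
    refine (Nat.pow_le_pow_iff_right one_lt_two).1 ?_
    rw [pow_succ]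
    nlinarith [hr.pos]
  have hRcard : Nat.card R = 2 ^ n := by rw [hj, show j = n by omega]
  have hQcard : Nat.card Q = 2 ^ (n - 1) := by rw [hk, show k = n - 1 by omega]
  -- the elementary central subgroup of `Q`
  let Z : Subgroup A :=
    { carrier := {q | q ∈ Q ∧ q * q = 1 ∧ ∀ y ∈ Q, q * y = y * q}
      one_mem' := ⟨Q.one_mem, mul_one 1, fun y _ => by simp⟩
      inv_mem' := fun {q} hq => by
        have e : q⁻¹ = q := inv_eq_of_mul_eq_one_right hq.2.1
        show q⁻¹ ∈ {q | q ∈ Q ∧ q * q = 1 ∧ ∀ y ∈ Q, q * y = y * q}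
        rw [e]; exact hq
      mul_mem' := fun {a b} ha hb => ⟨Q.mul_mem ha.1 hb.1, by
          rw [mul_assoc, ← mul_assoc b, hb.2.2 a ha.1, mul_assoc a b b, hb.2.1, mul_one, ha.2.1],
        fun y hy => by rw [mul_assoc, hb.2.2 y hy, ← mul_assoc, ha.2.2 y hy, mul_assoc]⟩ }
  have hZQ : Z ≤ Q := fun q hq => hq.1
  have hZp : IsPGroup 2 Z := hQp.to_le hZQ
  have hZne : Z ≠ ⊥ := by
    haveI : Nontrivial Q := by
      rw [← Finite.one_lt_card_iff_nontrivial, hQcard]
      exact Nat.one_lt_two_pow (by have := h.two_le; omega)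
    haveI := hQp.center_nontrivial
    obtain ⟨m, hm0, hm⟩ := (hQp.to_subgroup (Subgroup.center Q)).nontrivial_iff_card.1 inferInstance
    obtain ⟨z, hz⟩ := exists_prime_orderOf_dvd_card' (G := Subgroup.center Q) 2
      (hm ▸ dvd_pow_self 2 hm0.ne')
    intro hb
    have hzz := pow_orderOf_eq_one z
    rw [hz, pow_two] at hzz
    have hmem : ((z : Q) : A) ∈ Z := ⟨(z : Q).2,
      congrArg (fun u : Subgroup.center Q => ((u : Q) : A)) hzz,
      fun y hy => (congrArg Subtype.val (Subgroup.mem_center_iff.1 z.2 ⟨y, hy⟩)).symm⟩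
    rw [hb, Subgroup.mem_bot] at hmem
    have : z = 1 := Subtype.ext (Subtype.ext hmem)
    rw [this, orderOf_one] at hz
    omega
  have hZconj : ∀ g ∈ Subgroup.normalizer (Q : Set A), ∀ e ∈ Z, g * e * g⁻¹ ∈ Z := by
    intro g hg e he
    refine ⟨(Subgroup.mem_normalizer_iff.1 hg e).1 he.1, ?_, fun y hy => ?_⟩
    · rw [show g * e * g⁻¹ * (g * e * g⁻¹) = g * (e * e) * g⁻¹ by group, he.2.1]; group
    · have hy' : g⁻¹ * y * g ∈ Q := by
        rw [Subgroup.mem_normalizer_iff.1 hg (g⁻¹ * y * g)]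
        simpa [mul_assoc] using hy
      calc g * e * g⁻¹ * y = g * (e * (g⁻¹ * y * g)) * g⁻¹ := by group
        _ = g * ((g⁻¹ * y * g) * e) * g⁻¹ := by rw [he.2.2 _ hy']
        _ = _ := by group
  have hZnorm : ∀ g ∈ Subgroup.normalizer (Q : Set A), g ∈ Subgroup.normalizer (Z : Set A) := by
    intro g hg
    rw [Subgroup.mem_normalizer_iff]
    refine fun e => ⟨hZconj g hg e, fun he => ?_⟩
    have := hZconj g⁻¹ (Subgroup.inv_mem _ hg) _ he
    simpa [mul_assoc] using this
  set W := Z ⊓ Subgroup.centralizer ({x} : Set A) with hW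
  have hsq : Nat.card W ^ 2 = Nat.card Z := CIT21.card_fixed_sq hCIT hZp hx hδodd hδ1
    hinv (hZnorm x (hQnorm hxM)) (hZnorm δ (hQnorm hδM))
  obtain ⟨i, hi⟩ := (hZp.to_le (inf_le_left : W ≤ Z)).exists_card_eq
  have hi1 : 1 ≤ i := by
    by_contra hi0
    rw [show i = 0 by omega, pow_zero] at hi
    rw [hi, one_pow] at hsq
    exact hZne (Subgroup.card_eq_one.1 hsq.symm)
  have hi2 : i + i ≤ n - 1 := by
    refine (Nat.pow_le_pow_iff_right one_lt_two).1 ?_
    rw [pow_add, ← hQcard, ← hi, ← pow_two, hsq]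
    exact Nat.le_of_dvd Nat.card_pos (Subgroup.card_dvd_of_le hZQ)
  -- centralisers
  have hCeq : ∀ u a : A, Nat.card ↥(Subgroup.centralizer ({a⁻¹ * u * a} : Set A)) =
      Nat.card ↥(Subgroup.centralizer ({u} : Set A)) := by
    intro u a
    have hh := CIT21.card_fixed_conj (P := (⊤ : Subgroup A)) (y := u) (g := a⁻¹)
      (Subgroup.le_normalizer (Subgroup.mem_top _))
    rw [inv_inv, top_inf_eq, top_inf_eq] at hh
    exact hh
  have hW1 : ∀ e ∈ W, e ≠ 1 → Subgroup.centralizer ({e} : Set A) = R := by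
    intro e he he1
    refine (Subgroup.eq_of_le_of_card_ge (sup_le (fun y hy => ?_) (Subgroup.zpowers_le.2 ?_)) ?_).symm
    · exact CIT21.mem_centralizer_one.2 (he.1.2.2 y hy)
    · exact CIT21.mem_centralizer_one.2 (CIT21.mem_centralizer_one.1 he.2).symm
    · rw [hRcard]
      exact hNA _ (hCIT e (CIT21.orderOf_eq_two he.1.2.1 he1))
  have hWne : W ≠ ⊥ := fun hb => by
    have h1 : Nat.card W = 1 := Subgroup.card_eq_one.2 hb
    have := hi.symm.trans h1
    have : 2 ≤ 2 ^ i := Nat.le_self_pow (by omega) 2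
    omega
  obtain ⟨⟨e₀, he₀⟩, he₀1⟩ := Subgroup.ne_bot_iff_exists_ne_one.1 hWne
  have he₀1' : e₀ ≠ 1 := fun e => he₀1 (Subtype.ext e)
  have hCcard : ∀ e : A, orderOf e = 2 → Nat.card ↥(Subgroup.centralizer ({e} : Set A)) = 2 ^ n := by
    intro e he
    obtain ⟨a, ha⟩ := hconj e he
    obtain ⟨b, hb⟩ := hconj e₀ (CIT21.orderOf_eq_two he₀.1.2.1 he₀1')
    rw [← hCeq e a, ha, ← hb, hCeq, hW1 e₀ he₀ he₀1', hRcard]
  -- the normaliser of `Q`
  set N := Subgroup.normalizer (Q : Set A) with hN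
  have hleN : ∀ P : Subgroup A, Q ≤ P → Nat.card P = 2 ^ n → P ≤ N := by
    intro P hQP hP
    have hidx : (Q.subgroupOf P).index = 2 := by
      have := Subgroup.card_mul_index (Q.subgroupOf P)
      rw [Nat.card_congr (Subgroup.subgroupOfEquivOfLe hQP).toEquiv, hQcard, hP] at this
      refine Nat.eq_of_mul_eq_mul_left (show 0 < 2 ^ (n - 1) by positivity) (this.trans ?_)
      rw [← pow_succ]; congr 1; omega
    haveI := Subgroup.normal_of_index_eq_two hidx
    exact (Subgroup.normal_subgroupOf_iff_le_normalizer hQP).1 inferInstance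
  have hRN : R ≤ N := hleN R le_sup_left hRcard
  have hQC : ∀ e ∈ Z, Q ≤ Subgroup.centralizer ({e} : Set A) := fun e he y hy =>
    CIT21.mem_centralizer_one.2 (he.2.2 y hy)
  have hsylN : ∀ P : Subgroup A, P ≤ N → Nat.card P = 2 ^ n →
      ∃ g ∈ N, P = R.map (MulAut.conj g).toMonoidHom := by
    intro P hPN hP
    have mk : ∀ S : Subgroup A, S ≤ N → Nat.card S = 2 ^ n →
        ∃ T : Sylow 2 N, (T : Subgroup N).map N.subtype = S := by
      intro S hSN hS
      have hSc : Nat.card (S.subgroupOf N) = 2 ^ n := by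
        rw [Nat.card_congr (Subgroup.subgroupOfEquivOfLe hSN).toEquiv, hS]
      obtain ⟨T, hT⟩ := (IsPGroup.of_card (p := 2) hSc).exists_le_sylow
      refine ⟨T, ?_⟩
      have hle : Nat.card (T : Subgroup N) ≤ 2 ^ n := by
        rw [← Subgroup.card_map_of_injective (Subgroup.subtype_injective N)]
        exact hNA _ (T.isPGroup'.map _)
      have := Subgroup.eq_of_le_of_card_ge hT (hSc ▸ hle)
      rw [← this, Subgroup.subgroupOf_map_subtype, inf_eq_left.2 hSN]
    obtain ⟨T₁, hT₁⟩ := mk R hRN hRcard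
    obtain ⟨T₂, hT₂⟩ := mk P hPN hP
    obtain ⟨g, hg⟩ := MulAction.exists_smul_eq N T₁ T₂
    refine ⟨g, g.2, ?_⟩
    rw [← hT₂, ← hg, ← hT₁]
    change ((T₁ : Subgroup N).map (MulAut.conj g).toMonoidHom).map N.subtype = _
    rw [Subgroup.map_map, Subgroup.map_map]
    rfl
  let act : MulAction N (Subgroup A) :=
    { smul := fun g S => S.map (MulAut.conj (g : A)).toMonoidHom
      one_smul := fun S => by
        show S.map (MulAut.conj ((1 : N) : A)).toMonoidHom = S
        ext y; simp
      mul_smul := fun a b S => by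
        show S.map (MulAut.conj ((a * b : N) : A)).toMonoidHom =
          (S.map (MulAut.conj (b : A)).toMonoidHom).map (MulAut.conj (a : A)).toMonoidHom
        rw [Subgroup.map_map]; congr 1 }
  have hsmul : ∀ (g : N) (S : Subgroup A), g • S = S.map (MulAut.conj (g : A)).toMonoidHom :=
    fun _ _ => rfl
  let Zs := {e : A // e ∈ Z ∧ e ≠ 1}
  let f : Zs → orbit N R := fun e => ⟨Subgroup.centralizer ({e.1} : Set A), by
    have he2 := hCcard e.1 (CIT21.orderOf_eq_two e.2.1.2.1 e.2.2)
    obtain ⟨g, hg, hgR⟩ := hsylN _ (hleN _ (hQC _ e.2.1) he2) he2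
    exact ⟨⟨g, hg⟩, hgR.symm⟩⟩
  have hfib : ∀ S : orbit N R, Nat.card {e : Zs // f e = S} = 2 ^ i - 1 := by
    rintro ⟨_, g, rfl⟩
    have hWs : Nat.card {e : A // e ∈ W ∧ e ≠ 1} = 2 ^ i - 1 := by
      rw [← hi, ← Nat.card_congr (Equiv.subtypeSubtypeEquivSubtypeInter (fun e : A => e ∈ W) (fun e => e ≠ 1))]
      haveI := Fintype.ofFinite W
      rw [show Nat.card {e : W // (e : A) ≠ 1} = Nat.card {e : W // e ≠ 1} from
        Nat.card_congr (Equiv.subtypeEquivRight fun e => by simp)]
      simp [Nat.card_eq_fintype_card]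
      rw [← Nat.card_eq_fintype_card]
      rfl
    rw [← hWs]
    have hcmap : ∀ e : A, Subgroup.centralizer ({(g : A) * e * (g : A)⁻¹} : Set A) =
        (Subgroup.centralizer ({e} : Set A)).map (MulAut.conj (g : A)).toMonoidHom := by
      intro e
      ext y
      rw [Subgroup.mem_map_equiv, CIT21.mem_centralizer_one, CIT21.mem_centralizer_one,
        MulAut.conj_symm_apply]
      constructor
      · intro hh
        calc e * ((g : A)⁻¹ * y * g) = (g : A)⁻¹ * (g * e * (g : A)⁻¹ * y) * g := by group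
          _ = (g : A)⁻¹ * (y * (g * e * (g : A)⁻¹)) * g := by rw [hh]
          _ = _ := by group
      · intro hh
        calc (g : A) * e * (g : A)⁻¹ * y = g * (e * ((g : A)⁻¹ * y * g)) * (g : A)⁻¹ := by group
          _ = g * (((g : A)⁻¹ * y * g) * e) * (g : A)⁻¹ := by rw [hh]
          _ = _ := by group
    refine Nat.card_congr
      { toFun := fun e => ⟨(g : A)⁻¹ * e.1.1 * g, ?_, ?_⟩
        invFun := fun e => ⟨⟨(g : A) * e.1 * (g : A)⁻¹, ?_, ?_⟩, ?_⟩
        left_inv := fun e => Subtype.ext (Subtype.ext (by group))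
        right_inv := fun e => Subtype.ext (by group) }
    · have hz : (g : A)⁻¹ * e.1.1 * g ∈ Z := by
        have := hZconj _ (Subgroup.inv_mem _ g.2) _ e.1.2.1
        simpa using this
      refine ⟨hz, ?_⟩
      have he : Subgroup.centralizer ({e.1.1} : Set A) = R.map (MulAut.conj (g : A)).toMonoidHom :=
        congrArg Subtype.val e.2
      rw [show e.1.1 = (g : A) * ((g : A)⁻¹ * e.1.1 * g) * (g : A)⁻¹ by group, hcmap] at he
      have he' := Subgroup.map_injective (MulEquiv.injective (MulAut.conj (g : A))) he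
      have hxC : x ∈ Subgroup.centralizer ({(g : A)⁻¹ * e.1.1 * g} : Set A) := by
        rw [he']; exact hxR
      exact CIT21.mem_centralizer_one.2 (CIT21.mem_centralizer_one.1 hxC).symm
    · intro e1
      exact e.1.2.2 (by
        calc e.1.1 = (g : A) * ((g : A)⁻¹ * e.1.1 * g) * (g : A)⁻¹ := by group
          _ = 1 := by rw [e1]; group)
    · exact hZconj _ g.2 _ e.2.1.1
    · intro e1
      exact e.2.2 (by
        calc e.1 = (g : A)⁻¹ * ((g : A) * e.1 * (g : A)⁻¹) * g := by group
          _ = 1 := by rw [e1]; group)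
    · refine Subtype.ext ?_
      show Subgroup.centralizer ({(g : A) * e.1 * (g : A)⁻¹} : Set A) = _
      rw [hcmap, hW1 e.1 e.2.1 e.2.2]
      rfl
  have hνdvd : Nat.card (orbit N R) ∣ (2 ^ n - 1) * r := by
    rw [Nat.card_coe_set_eq, ← index_stabilizer]
    have hle : R.subgroupOf N ≤ stabilizer N R := by
      intro y hy
      show y • R = R
      rw [hsmul]
      refine Subgroup.eq_of_le_of_card_ge ?_
        (le_of_eq (Subgroup.card_map_of_injective (MulEquiv.injective _)).symm)
      rintro _ ⟨w, hw, rfl⟩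
      exact R.mul_mem (R.mul_mem hy hw) (R.inv_mem hy)
    refine (Subgroup.index_dvd_of_le hle).trans ?_
    refine (Dvd.intro _ (Subgroup.relIndex_mul_index hRN) : R.relIndex N ∣ R.index).trans ?_
    refine dvd_of_eq (Nat.eq_of_mul_eq_mul_left (show 0 < 2 ^ n by positivity) ?_)
    rw [← hA, ← hRcard, Subgroup.card_mul_index]
  have hcount : Nat.card Z - 1 = Nat.card (orbit N R) * (2 ^ i - 1) := by
    haveI := Fintype.ofFinite (orbit N R)
    have h1 : Nat.card Zs = Nat.card Z - 1 := by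
      rw [← Nat.card_congr (Equiv.subtypeSubtypeEquivSubtypeInter (fun e : A => e ∈ Z) (fun e => e ≠ 1))]
      haveI := Fintype.ofFinite Z
      rw [show Nat.card {e : Z // (e : A) ≠ 1} = Nat.card {e : Z // e ≠ 1} from
        Nat.card_congr (Equiv.subtypeEquivRight fun e => by simp)]
      simp [Nat.card_eq_fintype_card]
    rw [← h1, ← Nat.card_congr (Equiv.sigmaFiberEquiv f), Nat.card_sigma]
    simp only [hfib, Finset.sum_const, Finset.card_univ, smul_eq_mul, Nat.card_eq_fintype_card]
  have hwν : Nat.card (orbit N R) = 2 ^ i + 1 := by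
    have h2 : 2 ≤ 2 ^ i := Nat.le_self_pow (by omega) 2
    refine Nat.eq_of_mul_eq_mul_right (show 0 < 2 ^ i - 1 by omega) ?_
    rw [← hcount, ← hsq, hi]
    obtain ⟨m, hm⟩ : ∃ m, 2 ^ i = m + 2 := ⟨2 ^ i - 2, by omega⟩
    rw [hm, show m + 2 - 1 = m + 1 by omega]
    have : (m + 2) ^ 2 = (m + 2 + 1) * (m + 1) + 1 := by ring
    omega
  -- Burnside
  have hWdvd : 2 ^ i - 1 ∣ (2 ^ n - 1) * r := by
    set NR := Subgroup.normalizer (R : Set A) with hNR
    let act2 : MulAction NR A := MulAction.compHom A ((MulAut.conj : A →* MulAut A).comp NR.subtype)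
    have hsm : ∀ (g : NR) (e : A), g • e = (g : A) * e * (g : A)⁻¹ := fun _ _ => rfl
    have hcen : ∀ e ∈ W, e ≠ 1 → ∀ y ∈ R, y * e = e * y := fun e he he1 y hy =>
      (CIT21.mem_centralizer_one.1 (by rw [hW1 e he he1]; exact hy)).symm
    have horbit : orbit NR e₀ = {e | e ∈ W ∧ e ≠ 1} := by
      ext e
      constructor
      · rintro ⟨g, rfl⟩
        show g • e₀ ∈ W ∧ g • e₀ ≠ 1
        rw [hsm]
        have hne1 : (g : A) * e₀ * (g : A)⁻¹ ≠ 1 := fun e => he₀1' (conj_eq_one_iff.1 e)
        have hsq1 : (g : A) * e₀ * (g : A)⁻¹ * ((g : A) * e₀ * (g : A)⁻¹) = 1 := by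
          rw [show (g : A) * e₀ * (g : A)⁻¹ * ((g : A) * e₀ * (g : A)⁻¹) =
            g * (e₀ * e₀) * (g : A)⁻¹ by group, he₀.1.2.1]
          group
        have he₀R : e₀ ∈ R := Subgroup.mem_sup_left he₀.1.1
        have hR' : (g : A) * e₀ * (g : A)⁻¹ ∈ R := (Subgroup.mem_normalizer_iff.1 g.2 e₀).1 he₀R
        have hc' : ∀ y ∈ R, y * ((g : A) * e₀ * (g : A)⁻¹) = (g : A) * e₀ * (g : A)⁻¹ * y := by
          intro y hy
          have hy' : (g : A)⁻¹ * y * g ∈ R := by
            rw [Subgroup.mem_normalizer_iff.1 g.2]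
            simpa [mul_assoc] using hy
          calc y * ((g : A) * e₀ * (g : A)⁻¹) = g * (((g : A)⁻¹ * y * g) * e₀) * (g : A)⁻¹ := by group
            _ = g * (e₀ * ((g : A)⁻¹ * y * g)) * (g : A)⁻¹ := by rw [hcen e₀ he₀ he₀1' _ hy']
            _ = _ := by group
        refine ⟨⟨⟨?_, hsq1, fun y hy => (hc' y (Subgroup.mem_sup_left hy)).symm⟩, ?_⟩, hne1⟩
        · rcases hRmem _ hR' with hh | ⟨q, hq, hqe⟩
          · exact hh
          exfalso
          have hall : Z ≤ W := fun z hz => by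
            refine ⟨hz, CIT21.mem_centralizer_one.2 ?_⟩
            have h1 := hc' z (Subgroup.mem_sup_left (hZQ hz))
            rw [hqe] at h1
            have h2 : z * q = q * z := hz.2.2 q hq
            rw [← mul_assoc, h2, mul_assoc, mul_assoc] at h1
            exact (mul_left_cancel h1).symm
          have : W = Z := le_antisymm inf_le_left hall
          rw [← this, hi] at hsq
          have h2 : 2 ≤ 2 ^ i := Nat.le_self_pow (by omega) 2
          nlinarith
        · exact CIT21.mem_centralizer_one.2 (hc' x hxR)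
      · rintro ⟨he, he1⟩
        haveI : Finite (Sylow 2 A) := inferInstance
        obtain ⟨P, hP⟩ := hRp.exists_le_sylow
        have hPR : (P : Subgroup A) = R :=
          (Subgroup.eq_of_le_of_card_ge hP (hRcard ▸ hNA _ P.isPGroup')).symm
        obtain ⟨a, ha⟩ := hconj e₀ (CIT21.orderOf_eq_two he₀.1.2.1 he₀1')
        obtain ⟨b, hb⟩ := hconj e (CIT21.orderOf_eq_two he.1.2.1 he1)
        have hcR : ∀ u ∈ W, u ≠ 1 → u ∈ Subgroup.centralizer ((P : Subgroup A) : Set A) := by
          intro u hu hu1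
          rw [hPR, Subgroup.mem_centralizer_iff]
          exact fun y hy => hcen u hu hu1 y hy
        have heq : (a * b⁻¹)⁻¹ * e₀ * (a * b⁻¹) = e := by
          calc (a * b⁻¹)⁻¹ * e₀ * (a * b⁻¹) = b * (a⁻¹ * e₀ * a) * b⁻¹ := by group
            _ = b * (b⁻¹ * e * b) * b⁻¹ := by rw [ha, hb]
            _ = e := by group
        obtain ⟨m, hm, hme⟩ := Sylow.conj_eq_normalizer_conj_of_mem_centralizer P e₀ (a * b⁻¹)
          (hcR e₀ he₀ he₀1') (by rw [heq]; exact hcR e he he1)
        rw [heq] at hme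
        have hm' : m ∈ NR := by rw [hNR, ← hPR]; exact hm
        refine ⟨⟨m⁻¹, Subgroup.inv_mem _ hm'⟩, ?_⟩
        show (⟨m⁻¹, _⟩ : NR) • e₀ = e
        rw [hsm, inv_inv]
        exact hme.symm
    have hidx : (stabilizer NR e₀).index = 2 ^ i - 1 := by
      rw [index_stabilizer, horbit, ← hi, show {e | e ∈ W ∧ e ≠ 1} = ((W : Set A) \ {1}) from rfl,
        Set.ncard_sdiff_singleton_of_mem W.one_mem, ← Nat.card_coe_set_eq]
      rfl
    rw [← hidx]
    have hle : R.subgroupOf NR ≤ stabilizer NR e₀ := by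
      intro y hy
      show y • e₀ = e₀
      rw [hsm, show (y : A) * e₀ = e₀ * (y : A) from hcen e₀ he₀ he₀1' _ (Subgroup.mem_subgroupOf.1 hy),
        mul_inv_cancel_right]
    refine (Subgroup.index_dvd_of_le hle).trans ?_
    refine (Dvd.intro _ (Subgroup.relIndex_mul_index (Subgroup.le_normalizer (H := R))) :
      R.relIndex NR ∣ R.index).trans ?_
    refine dvd_of_eq (Nat.eq_of_mul_eq_mul_left (show 0 < 2 ^ n by positivity) ?_)
    rw [← hA, ← hRcard, Subgroup.card_mul_index]
  rw [hwν] at hνdvd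
  have hnp : n.Prime := hrn ▸ hr
  have hcop1 : Nat.Coprime (2 ^ i - 1) (2 ^ n - 1) := by
    rw [Nat.Coprime, Nat.pow_sub_one_gcd_pow_sub_one]
    have : Nat.gcd i n = 1 := (hnp.coprime_iff_not_dvd.2 fun hd => by
      have := Nat.le_of_dvd (by omega) hd; omega).symm
    rw [this]; rfl
  have hcop2 : Nat.Coprime (2 ^ i + 1) (2 ^ n - 1) := by
    refine Nat.Coprime.coprime_dvd_left (k := 2 ^ (i + i) - 1) ⟨2 ^ i - 1, ?_⟩ ?_
    · obtain ⟨m, hm⟩ : ∃ m, 2 ^ i = m + 1 :=
        ⟨2 ^ i - 1, by have := Nat.one_le_two_pow (n := i); omega⟩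
      rw [pow_add, hm, Nat.add_sub_cancel]
      have : (m + 1) * (m + 1) = (m + 1 + 1) * m + 1 := by ring
      omega
    rw [Nat.Coprime, Nat.pow_sub_one_gcd_pow_sub_one]
    have : Nat.gcd (i + i) n = 1 := (hnp.coprime_iff_not_dvd.2 fun hd => by
      have := Nat.le_of_dvd (by omega) hd; omega).symm
    rw [this]; rfl
  have h1 := (Nat.dvd_prime hr).1 (hcop2.dvd_of_dvd_mul_left hνdvd)
  have h2 := (Nat.dvd_prime hr).1 (hcop1.dvd_of_dvd_mul_left hWdvd)
  have hr3' : r = 3 := by
    have := Nat.one_le_two_pow (n := i)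
    rcases h1 with e | e <;> rcases h2 with e' | e' <;> omega
  refine ⟨by omega, ?_⟩
  rw [hA, ← hrn, hr3']
  norm_num

end Setup

/-- Either all translations occur, or the group has order `168`. -/
theorem translations_or_three {T : Type*} [CommGroup T] [Finite T] (A : Subgroup (MulAut T)) {t : T}
    {V : Subgroup T} {n : ℕ} {c : MulAut T}
    (hn : 2 ≤ n) (hcard : Nat.card V = 2 ^ n) (hsq : ∀ x : T, x * x = 1) (htV : t ∉ V)
    (hcover : ∀ x : T, x ∈ V ∨ t * x ∈ V) (hV : ∀ a ∈ A, ∀ x ∈ V, a x ∈ V)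
    (hc : c ∈ A) (hct : c t = t)
    (htrans : ∀ a ∈ V, ∀ b ∈ V, a ≠ 1 → b ≠ 1 → ∃ i : ℕ, (c ^ i) a = b)
    (hnorm : ∀ a ∈ A, a t = t → ∃ i : ℕ, ∀ x ∈ V, (a * c * a⁻¹) x = (c ^ i) x)
    (hodd : ∀ a ∈ A, a t = t → Odd (orderOf a))
    (horb : ∀ x ∈ V, ∃ a ∈ A, a t = t * x) :
    (∀ x ∈ V, ∃ a ∈ A, a t = t * x ∧ ∀ y ∈ V, a y = y) ∨
      (n = 3 ∧ Nat.card A = 168 ∧ ∀ a ∈ A, (∀ y ∈ V, a y = y) → a = 1) := by
  classical
  by_cases hall : ∀ x ∈ V, ∃ a ∈ A, a t = t * x ∧ ∀ y ∈ V, a y = y
  · exact Or.inl hall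
  right
  have htt : ∀ x : T, t * (t * x) = x := fun x => by rw [← mul_assoc, hsq, one_mul]
  have hout : ∀ a ∈ A, ∀ ω : T, ω ∉ V → a ω ∉ V := fun a ha ω hω hm => hω (by
    have := hV a⁻¹ (inv_mem ha) _ hm
    rwa [MulAut.inv_apply_self] at this)
  -- a translation part is trivial
  have hfaith : ∀ a ∈ A, (∀ y ∈ V, a y = y) → a = 1 := by
    intro a ha hay
    have hu : t * a t ∈ V := (hcover (a t)).resolve_left (hout a ha t htV)
    by_cases h1 : t * a t = 1
    · refine MulEquiv.ext fun x => ?_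
      rw [MulAut.one_apply]
      have hat : a t = t := by rw [← htt (a t), h1, mul_one]
      rcases hcover x with hx | hx
      · exact hay x hx
      · conv_lhs => rw [← htt x]
        rw [map_mul, hat, hay _ hx, htt]
    · exfalso
      refine hall fun x hx => ?_
      rcases eq_or_ne x 1 with rfl | hx1
      · exact ⟨1, one_mem A, by simp, fun y _ => rfl⟩
      obtain ⟨i, hi⟩ := htrans _ hu x hx h1 hx1
      have hci : ∀ j : ℕ, (c ^ j) t = t := fun j => by
        induction j with
        | zero => rfl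
        | succ j ih => rw [pow_succ, MulAut.mul_apply, hct, ih]
      refine ⟨c ^ i * a * (c ^ i)⁻¹, mul_mem (mul_mem (pow_mem hc i) ha) (inv_mem (pow_mem hc i)),
        ?_, fun y hy => ?_⟩
      · rw [MulAut.mul_apply, MulAut.mul_apply]
        have e1 : (c ^ i)⁻¹ t = t := by
          nth_rw 1 [← hci i]
          rw [MulAut.inv_apply_self]
        rw [e1, ← hi, map_mul, hci, htt]
      · rw [MulAut.mul_apply, MulAut.mul_apply, hay _ (hV _ (inv_mem (pow_mem hc i)) y hy),
          MulAut.apply_inv_self]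
  have S : Setup A t V n ⟨c, hc⟩ :=
    { two_le := hn
      card_V := hcard
      sq := hsq
      notMem := htV
      cover := hcover
      inv := fun a => hV a a.2
      fix_c := hct
      trans := htrans
      norm := fun a ha => hnorm a a.2 ha
      odd := fun a ha => by rw [← Subgroup.orderOf_coe]; exact hodd a a.2 ha
      orb := fun x hx => by
        obtain ⟨a, ha, hax⟩ := horb x hx
        exact ⟨⟨a, ha⟩, hax⟩
      faithful := fun a hay => Subtype.ext (hfaith a a.2 hay) }
  exact ⟨S.three.1, S.three.2, hfaith⟩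

end Cfsg.Agent.JTAffine62
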