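import Cfsg.Agent.Lib.JTDihedral62

/-!
# The chain of two-subgroups above an elementary centraliser `⟨t⟩ × V`

`Layer H V t Q Q₁ m`: `Q` is normalised by `t`, `C_Q(t) = V`, the set of commutators `[t, Q]` is
`Q₁` and `x ↦ [t, x]` iterated `m` times maps `Q / Q₁` isomorphically onto `V`.
-/

set_option autoImplicit false
set_option linter.unusedSectionVars false

namespace Cfsg.Agent.JTChain62

open Subgroup
open JTPsl62 (mem_normalizer_of_conj)
open JTDihedral62 (conj_inj conj_comp conj_of_commute commute_of_conj)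

variable {G : Type*} [Group G]

/-- The commutator of `t` and `x`. -/
def cm (t x : G) : G := t * x * t⁻¹ * x⁻¹

theorem cm_one (t : G) : cm t 1 = 1 := by simp [cm]

theorem cm_eq_one {t x : G} : cm t x = 1 ↔ t * x * t⁻¹ = x := mul_inv_eq_one

theorem cm_conj {t g : G} (hg : g * t * g⁻¹ = t) (x : G) :
    cm t (g * x * g⁻¹) = g * cm t x * g⁻¹ := by
  unfold cm
  conv_lhs => rw [← hg]
  group

theorem iter_cm_conj {t g : G} (hg : g * t * g⁻¹ = t) (m : ℕ) (x : G) :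
    (cm t)^[m] (g * x * g⁻¹) = g * (cm t)^[m] x * g⁻¹ := by
  induction m generalizing x with
  | zero => rfl
  | succ m ih => rw [Function.iterate_succ_apply, Function.iterate_succ_apply, cm_conj hg, ih]

/-- The data at the bottom: `⟨t⟩ × V` is a Sylow 2-subgroup of the centraliser of `t` in `H`. -/
structure Base (H V : Subgroup G) (t c : G) (n : ℕ) : Prop where
  two_le : 2 ≤ n
  card_V : Nat.card V = 2 ^ n
  sq : ∀ x ∈ V, x * x = 1
  t_sq : t * t = 1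
  t_notMem : t ∉ V
  t_mem : t ∈ H
  V_le : V ≤ H
  comm : ∀ x ∈ V, t * x * t⁻¹ = x
  c_mem : c ∈ H
  c_comm : c * t * c⁻¹ = t
  c_norm : ∀ x ∈ V, c * x * c⁻¹ ∈ V
  trans : ∀ a ∈ V, ∀ b ∈ V, a ≠ 1 → b ≠ 1 → ∃ i : ℕ, c ^ i * a * (c ^ i)⁻¹ = b
  norm_c : ∀ g ∈ H, g * t * g⁻¹ = t → (∀ x ∈ V, g * x * g⁻¹ ∈ V) →
    ∃ i : ℕ, ∀ x ∈ V, (g * c * g⁻¹) * x * (g * c * g⁻¹)⁻¹ = c ^ i * x * (c ^ i)⁻¹
  bound : ∀ P : Subgroup G, P ≤ H → IsPGroup 2 P → (∀ x ∈ P, x * t = t * x) →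
    Nat.card P ≤ 2 ^ (n + 1)

/-- One layer of the chain. -/
structure Layer (H V : Subgroup G) (t : G) (Q Q₁ : Subgroup G) (m : ℕ) : Prop where
  le_one : Q₁ ≤ Q
  leH : Q ≤ H
  pQ : IsPGroup 2 Q
  V_le : V ≤ Q
  t_notMem : t ∉ Q
  nt : ∀ x ∈ Q, t * x * t⁻¹ ∈ Q
  n_one : ∀ x ∈ Q, ∀ y ∈ Q₁, x * y * x⁻¹ ∈ Q₁
  sq : ∀ x ∈ Q, x * x ∈ Q₁
  cent : ∀ x ∈ Q, t * x * t⁻¹ = x → x ∈ V
  fmem : ∀ x ∈ Q, cm t x ∈ Q₁
  surj : ∀ y ∈ Q₁, ∃ x ∈ Q, cm t x = y
  maps : ∀ x ∈ Q, (cm t)^[m] x ∈ V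
  hom : ∀ x ∈ Q, ∀ y ∈ Q, (cm t)^[m] (x * y) = (cm t)^[m] x * (cm t)^[m] y
  kern : ∀ x ∈ Q, (cm t)^[m] x = 1 ↔ x ∈ Q₁
  onto : ∀ v ∈ V, ∃ x ∈ Q, (cm t)^[m] x = v

variable {H V : Subgroup G} {t c : G} {n : ℕ}

theorem Base.t_inv (hb : Base H V t c n) : t⁻¹ = t := inv_eq_of_mul_eq_one_right hb.t_sq

theorem Base.commV (hb : Base H V t c n) {a b : G} (ha : a ∈ V) (hbm : b ∈ V) :
    a * b = b * a := by
  have hinv : ∀ {x : G}, x ∈ V → x⁻¹ = x := fun hx => inv_eq_of_mul_eq_one_right (hb.sq _ hx)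
  rw [← hinv (mul_mem ha hbm), mul_inv_rev, hinv ha, hinv hbm]

theorem Base.layer [Finite G] (hb : Base H V t c n) : Layer H V t V ⊥ 0 where
  le_one := bot_le
  leH := hb.V_le
  pQ := IsPGroup.iff_card.mpr ⟨n, hb.card_V⟩
  V_le := le_rfl
  t_notMem := hb.t_notMem
  nt := fun x hx => by rw [hb.comm x hx]; exact hx
  n_one := fun x _ y hy => by rw [mem_bot] at hy; subst hy; simp
  sq := fun x hx => by rw [hb.sq x hx]; exact one_mem _
  cent := fun x hx _ => hx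
  fmem := fun x hx => by rw [cm_eq_one.mpr (hb.comm x hx)]; exact one_mem _
  surj := fun y hy => ⟨1, one_mem _, by rw [cm_one, mem_bot.mp hy]⟩
  maps := fun x hx => hx
  hom := fun _ _ _ _ => rfl
  kern := fun x _ => mem_bot.symm
  onto := fun v hv => ⟨v, hv, rfl⟩

section

variable {Q Q₁ : Subgroup G} {m : ℕ} (hb : Base H V t c n) (hl : Layer H V t Q Q₁ m)

include hb hl

theorem tq {x : G} (hx : x ∈ Q) : t * x * t ∈ Q := by
  have := hl.nt x hx
  rwa [hb.t_inv] at this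

/-- The subgroup `Q⟨t⟩`. -/
def ext : Subgroup G where
  carrier := {x | x ∈ Q ∨ t * x ∈ Q}
  one_mem' := Or.inl (one_mem _)
  mul_mem' := by
    intro a b ha hb'
    rcases ha with ha | ha <;> rcases hb' with hb' | hb'
    · exact Or.inl (mul_mem ha hb')
    · refine Or.inr ?_
      have e : t * (a * b) = (t * a * t) * (t * b) := by
        calc t * (a * b) = t * a * (t * t) * b := by rw [hb.t_sq]; group
          _ = _ := by group
      rw [e]; exact mul_mem (tq hb hl ha) hb'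
    · exact Or.inr (by rw [← mul_assoc]; exact mul_mem ha hb')
    · refine Or.inl ?_
      have e : a * b = (t * (t * a) * t) * (t * b) := by
        calc a * b = (t * t) * a * (t * t) * b := by rw [hb.t_sq]; group
          _ = _ := by group
      rw [e]; exact mul_mem (tq hb hl ha) hb'
  inv_mem' := by
    intro a ha
    rcases ha with ha | ha
    · exact Or.inl (inv_mem ha)
    · refine Or.inr ?_
      have e : t * a⁻¹ = t * (t * a)⁻¹ * t := by
        calc t * a⁻¹ = t * a⁻¹ * (t⁻¹ * t) := by group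
          _ = _ := by group
      rw [e]; exact tq hb hl (inv_mem ha)

theorem mem_ext {x : G} : x ∈ ext hb hl ↔ x ∈ Q ∨ t * x ∈ Q := Iff.rfl

theorem le_ext : Q ≤ ext hb hl := fun _ hx => Or.inl hx

theorem t_mem_ext : t ∈ ext hb hl := Or.inr (by rw [hb.t_sq]; exact one_mem _)

theorem out_mem {x : G} (hx : x ∈ ext hb hl) (hxQ : x ∉ Q) : t * x ∈ Q := hx.resolve_left hxQ

theorem ext_le : ext hb hl ≤ H := by
  rintro x (hx | hx)
  · exact hl.leH hx
  · have := mul_mem (inv_mem hb.t_mem) (hl.leH hx)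
    rwa [inv_mul_cancel_left] at this

theorem sq_mem {x : G} (hx : x ∈ ext hb hl) : x * x ∈ Q₁ := by
  rcases hx with hx | hx
  · exact hl.sq x hx
  · have e : x * x = cm t (t * x) * ((t * x) * (t * x)) := by
      unfold cm
      calc x * x = (t * t) * x * (t * t) * x := by rw [hb.t_sq]; group
        _ = t * (t * x) * t * (t * x) := by group
        _ = _ := by rw [hb.t_inv]; group
    rw [e]
    exact mul_mem (hl.fmem _ hx) (hl.sq _ hx)

theorem norm_one {x y : G} (hx : x ∈ ext hb hl) (hy : y ∈ Q₁) : x * y * x⁻¹ ∈ Q₁ := by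
  have ht : ∀ z ∈ Q₁, t * z * t⁻¹ ∈ Q₁ := fun z hz => by
    have := mul_mem (hl.fmem z (hl.le_one hz)) hz
    rwa [show cm t z * z = t * z * t⁻¹ by unfold cm; group] at this
  rcases hx with hx | hx
  · exact hl.n_one x hx y hy
  · have e : x * y * x⁻¹ = t⁻¹ * ((t * x) * y * (t * x)⁻¹) * (t⁻¹)⁻¹ := by group
    rw [e, hb.t_inv]
    exact ht _ (hl.n_one _ hx y hy)

/-- `Q⟨t⟩ / Q₁` is abelian. -/
theorem comm_mem {x y : G} (hx : x ∈ ext hb hl) (hy : y ∈ ext hb hl) :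
    x * y * x⁻¹ * y⁻¹ ∈ Q₁ := by
  have e : x * y * x⁻¹ * y⁻¹
      = (x * y) * (x * y) * (y⁻¹ * (x⁻¹ * x⁻¹) * y⁻¹⁻¹) * (y⁻¹ * y⁻¹) := by group
  rw [e]
  exact mul_mem (mul_mem (sq_mem hb hl (mul_mem hx hy))
    (norm_one hb hl (inv_mem hy) (sq_mem hb hl (inv_mem hx)))) (sq_mem hb hl (inv_mem hy))

/-- Conjugating `t` by `x` moves it by `[t, x]`. -/
theorem conj_t (x : G) : x * t * x⁻¹ = t * cm t x := by
  unfold cm
  calc x * t * x⁻¹ = (t * t) * x * t * x⁻¹ := by rw [hb.t_sq]; group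
    _ = _ := by rw [hb.t_inv]; group

theorem exists_conj {y : G} (hy : y ∈ Q₁) : ∃ x ∈ Q, x * t * x⁻¹ = t * y := by
  obtain ⟨x, hx, hxy⟩ := hl.surj y hy
  exact ⟨x, hx, by rw [conj_t hb hl, hxy]⟩

theorem ext_pGroup : IsPGroup 2 (ext hb hl) := by
  rintro ⟨x, hx⟩
  obtain ⟨j, hj⟩ := hl.pQ ⟨x * x, hl.le_one (sq_mem hb hl hx)⟩
  refine ⟨j + 1, Subtype.ext ?_⟩
  have hj' : (x * x) ^ 2 ^ j = 1 := congrArg Subtype.val hj
  simpa [pow_succ', pow_mul, sq] using hj'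

theorem phi_eq {x y : G} (hx : x ∈ Q) (hy : y ∈ Q) :
    (cm t)^[m] x = (cm t)^[m] y ↔ y⁻¹ * x ∈ Q₁ := by
  have h : (cm t)^[m] x = (cm t)^[m] y * (cm t)^[m] (y⁻¹ * x) := by
    rw [← hl.hom y hy _ (mul_mem (inv_mem hy) hx), mul_inv_cancel_left]
  rw [← hl.kern _ (mul_mem (inv_mem hy) hx), h, mul_eq_left]

theorem card_eq [Finite G] : Nat.card Q = 2 ^ n * Nat.card Q₁ := by
  let φ : ↥Q →* ↥V :=
    { toFun := fun x => ⟨(cm t)^[m] (x : G), hl.maps _ x.2⟩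
      map_one' := Subtype.ext ((hl.kern 1 (one_mem _)).mpr (one_mem _))
      map_mul' := fun x y => Subtype.ext (hl.hom _ x.2 _ y.2) }
  have hker : φ.ker = Q₁.subgroupOf Q := by
    ext x
    rw [MonoidHom.mem_ker, mem_subgroupOf, ← hl.kern _ x.2]
    exact Subtype.ext_iff
  have hsurj : Function.Surjective φ := fun ⟨v, hv⟩ => by
    obtain ⟨x, hx, hxv⟩ := hl.onto v hv
    exact ⟨⟨x, hx⟩, Subtype.ext hxv⟩
  rw [← φ.ker.card_mul_index, Subgroup.index_ker, MonoidHom.range_eq_top.mpr hsurj,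
    Subgroup.card_top, hb.card_V, hker, Nat.card_congr (subgroupOfEquivOfLe hl.le_one).toEquiv,
    mul_comm]

theorem card_ext [Finite G] : Nat.card ↥(ext hb hl) = 2 * Nat.card Q := by
  have hidx : (Q.subgroupOf (ext hb hl)).index = 2 := by
    rw [Subgroup.index_eq_two_iff]
    refine ⟨⟨t, t_mem_ext hb hl⟩, fun ⟨y, hy⟩ => ?_⟩
    simp only [mem_subgroupOf, MulMemClass.mk_mul_mk]
    by_cases hyQ : y ∈ Q
    · refine Or.inr ⟨hyQ, fun h => hl.t_notMem ?_⟩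
      simpa using mul_mem (inv_mem hyQ) h
    · refine Or.inl ⟨?_, hyQ⟩
      have h := tq hb hl (out_mem hb hl hy hyQ)
      rwa [show t * (t * y) * t = (t * t) * (y * t) by group, hb.t_sq, one_mul] at h
  rw [← (Q.subgroupOf (ext hb hl)).card_mul_index, hidx,
    Nat.card_congr (subgroupOfEquivOfLe (le_ext hb hl)).toEquiv, mul_comm]

/-- A 2-element of `H` fixing `t` that normalises `Q⟨t⟩` lies in it. -/
theorem fix_two [Finite G] {R : Subgroup G} (hR : R ≤ H) (hRp : IsPGroup 2 R)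
    (hle : ext hb hl ≤ R) {r : G} (hr : r ∈ R) (hrt : r * t * r⁻¹ = t) : r ∈ ext hb hl := by
  have hC : ∀ x ∈ R ⊓ centralizer ({t} : Set G), x * t = t * x := fun x hx =>
    mem_centralizer_singleton_iff.mp hx.2
  have h1 := hb.bound (R ⊓ centralizer ({t} : Set G)) (inf_le_left.trans hR)
    (hRp.to_le inf_le_left) hC
  have hVle : V ≤ ext hb hl := hl.V_le.trans (le_ext hb hl)
  have hl0 := hb.layer
  have hle0 : ext hb hl0 ≤ R ⊓ centralizer ({t} : Set G) := by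
    intro x hx
    rcases hx with hx | hx
    · exact ⟨hle (hVle hx), mem_centralizer_singleton_iff.mpr (commute_of_conj (hb.comm x hx)).symm⟩
    · have ht : t ∈ R ⊓ centralizer ({t} : Set G) :=
        ⟨hle (t_mem_ext hb hl), mem_centralizer_singleton_iff.mpr rfl⟩
      have hm : t * x ∈ R ⊓ centralizer ({t} : Set G) :=
        ⟨hle (hVle hx), mem_centralizer_singleton_iff.mpr (commute_of_conj (hb.comm _ hx)).symm⟩
      have := mul_mem (inv_mem ht) hm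
      rwa [inv_mul_cancel_left] at this
  have h2 : ext hb hl0 = R ⊓ centralizer ({t} : Set G) := eq_of_le_of_card_ge hle0 (by
    rw [card_ext hb hl0, hb.card_V]; rw [pow_succ'] at h1; exact h1)
  have hmem : r ∈ ext hb hl0 := h2.symm ▸
    (⟨hr, mem_centralizer_singleton_iff.mpr (commute_of_conj hrt)⟩ :
      r ∈ R ⊓ centralizer ({t} : Set G))
  exact hmem.imp (fun h => hl.V_le h) (fun h => hl.V_le h)

end

/-- A chain of length at least two, normalised by `c`. -/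
structure Two (H V : Subgroup G) (t c : G) (n : ℕ) (Q Q₁ Q₂ : Subgroup G) (m : ℕ) : Prop where
  base : Base H V t c n
  top : Layer H V t Q Q₁ (m + 1)
  below : Layer H V t Q₁ Q₂ m
  nc : ∀ x ∈ Q, c * x * c⁻¹ ∈ Q
  comm : ∀ x ∈ Q, ∀ y ∈ Q, x * y * x⁻¹ * y⁻¹ ∈ Q₂

theorem Two.card_Q [Finite G] {Q Q₁ Q₂ : Subgroup G} {m : ℕ}
    (h : Two H V t c n Q Q₁ Q₂ m) : Nat.card Q = 2 ^ (2 * n) * Nat.card Q₂ := by
  rw [card_eq h.base h.top, card_eq h.base h.below, ← mul_assoc, two_mul, pow_add]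

/-- Every element of `Q` has a large centraliser. -/
theorem Two.big [Finite G] {Q Q₁ Q₂ : Subgroup G} {m : ℕ} (h : Two H V t c n Q Q₁ Q₂ m)
    {u : G} (hu : u ∈ Q) : 2 ^ (2 * n) ≤ Nat.card ↥(Q ⊓ centralizer ({u} : Set G)) := by
  set C := (Q ⊓ centralizer ({u} : Set G)).subgroupOf Q with hC
  have key : ∀ a b : Q, a⁻¹ * b ∈ C ↔ (a : G) * u * (a : G)⁻¹ = (b : G) * u * (b : G)⁻¹ := by
    intro a b
    rw [hC, mem_subgroupOf, mem_inf, mem_centralizer_singleton_iff]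
    simp only [coe_mul, coe_inv]
    constructor
    · rintro ⟨-, e⟩
      calc (a : G) * u * (a : G)⁻¹ = (a : G) * (u * ((a : G)⁻¹ * b)) * (b : G)⁻¹ := by group
        _ = (b : G) * u * (b : G)⁻¹ := by rw [← e]; group
    · intro e
      refine ⟨mul_mem (inv_mem a.2) b.2, ?_⟩
      calc (a : G)⁻¹ * b * u = (a : G)⁻¹ * ((b : G) * u * (b : G)⁻¹) * b := by group
        _ = u * ((a : G)⁻¹ * b) := by rw [← e]; group
  let f : ↥Q ⧸ C → ↥Q₂ := Quotient.lift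
    (fun a : Q => ⟨(a : G) * u * (a : G)⁻¹ * u⁻¹, h.comm _ a.2 u hu⟩)
    (fun a b hab => Subtype.ext (by
      have := (key a b).mp (QuotientGroup.leftRel_apply.mp hab)
      simp only [this]))
  have hf : Function.Injective f := by
    intro p q hpq
    induction p using Quotient.inductionOn with
    | h a =>
      induction q using Quotient.inductionOn with
      | h b =>
        refine Quotient.sound (QuotientGroup.leftRel_apply.mpr ((key a b).mpr ?_))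
        exact mul_right_cancel (congrArg Subtype.val hpq)
  have h1 := Nat.card_le_card_of_injective f hf
  rw [← Subgroup.index] at h1
  have h2 := C.card_mul_index
  rw [hC, Nat.card_congr (subgroupOfEquivOfLe inf_le_left).toEquiv, ← hC, h.card_Q] at h2
  have h3 := Nat.mul_le_mul_left (Nat.card ↥(Q ⊓ centralizer ({u} : Set G))) h1
  rw [h2] at h3
  exact Nat.le_of_mul_le_mul_right h3 Nat.card_pos

/-- The exceptional step: `R` induces on `Q / Q₁` a Sylow subgroup of `GL(3,2)`, transitively on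
the coset of `t`. -/
structure Three (H V : Subgroup G) (t : G) (Q Q₁ R : Subgroup G) : Prop where
  t_mem : t ∈ R
  le : Q ≤ R
  leH : R ≤ H
  pR : IsPGroup 2 R
  card : Nat.card R = 16 * Nat.card Q
  norm : ∀ r ∈ R, ∀ x ∈ Q, r * x * r⁻¹ ∈ Q
  norm_one : ∀ r ∈ R, ∀ x ∈ Q₁, r * x * r⁻¹ ∈ Q₁
  norm_t : ∀ r ∈ R, cm t r ∈ Q
  trans : ∀ q ∈ Q, ∃ r ∈ R, q⁻¹ * cm t r ∈ Q₁
  faith : ∀ r ∈ R, (∀ x ∈ Q, x⁻¹ * (r * x * r⁻¹) ∈ Q₁) → r ∈ Q ∨ t * r ∈ Q
  fix : ∀ r ∈ R, cm t r ∈ Q₁ → r ∈ Q ∨ t * r ∈ Q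
  max : ∀ R' : Subgroup G, IsPGroup 2 R' → R' ≤ H → R ≤ R' →
    (∀ r ∈ R', ∀ x : G, x ∈ Q ∨ t * x ∈ Q → r * x * r⁻¹ ∈ Q ∨ t * (r * x * r⁻¹) ∈ Q) → R' = R

end Cfsg.Agent.JTChain62
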