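import Cfsg.Agent.Lib.JTSmall62
import Cfsg.Agent.Lib.NormalFourGroup

/-!
# `D` dihedral and `T` of index at least 4 in `S`: reduction to `|D| = 8` and a normal four group
-/

set_option autoImplicit false
set_option linter.unusedSectionVars false

namespace Cfsg.Agent.JTDihReduce62

open Subgroup JTSetup62 JTDihedral62 JTSmall62

variable {G : Type*} [Group G] [Finite G]

theorem no_cyclic_half {t : G} {T D : Subgroup G} {k : ℕ} {c b : G} (h : DH t T D k c b)
    {S : Subgroup G} (hTS : T ≤ S) (x : S) (hx : Nat.card S ≤ 2 * orderOf x) : False := by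
  set A := zpowers x with hA
  set T' := T.subgroupOf S with hT'
  have hidx : A.index ≤ 2 := by
    have h1 := A.card_mul_index
    rw [hA, Nat.card_zpowers] at h1
    exact Nat.le_of_mul_le_mul_left (h1.le.trans (hx.trans_eq (mul_comm 2 _))) (orderOf_pos x)
  have hrel : ((A ⊓ T').subgroupOf T').index ≤ 2 := by
    rw [inf_subgroupOf_right]
    refine le_trans ?_ hidx
    change A.relIndex T' ≤ A.index
    rw [← relIndex_top_right A]
    exact relIndex_le_of_le_right (H := A) (K := T') (L := ⊤) le_top (by rw [relIndex_top_right]; exact index_ne_zero_of_finite)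
  haveI : IsCyclic ↥(A ⊓ T' : Subgroup S) :=
    isCyclic_of_injective (Subgroup.inclusion (inf_le_left : A ⊓ T' ≤ A))
      (Subgroup.inclusion_injective _)
  obtain ⟨y, hy⟩ := IsCyclic.exists_generator (α := ↥(A ⊓ T' : Subgroup S))
  have hcy : orderOf y = Nat.card ↥(A ⊓ T' : Subgroup S) := orderOf_eq_card_of_forall_mem_zpowers hy
  have hyT : ((y : S) : G) ∈ T := y.2.2
  have hle : orderOf y ≤ 2 ^ k := by
    refine Nat.le_of_dvd (by positivity) (orderOf_dvd_of_pow_eq_one ?_)
    apply Subtype.ext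
    apply Subtype.ext
    simpa using pow_T h hyT
  have hmul := ((A ⊓ T').subgroupOf T').card_mul_index
  rw [Nat.card_congr (subgroupOfEquivOfLe (inf_le_right : A ⊓ T' ≤ T')).toEquiv, ← hcy,
    Nat.card_congr (subgroupOfEquivOfLe hTS).toEquiv, card_T' h] at hmul
  have h2 : 2 ^ (k + 2) ≤ 2 ^ k * 2 := by rw [← hmul]; exact Nat.mul_le_mul hle hrel
  have h3 : 0 < 2 ^ k := by positivity
  rw [pow_add] at h2
  omega

/-- A normal four-group of `S`, by two of its elements. -/
theorem exists_four {t : G} {T D : Subgroup G} {k : ℕ} {c b : G} (h : DH t T D k c b)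
    (S : Sylow 2 G) (hTS : T ≤ (S : Subgroup G)) :
    ∃ z ∈ (S : Subgroup G), ∃ w ∈ (S : Subgroup G), z ≠ 1 ∧ w ≠ 1 ∧ w ≠ z ∧ z * z = 1 ∧ w * w = 1 ∧
      (∀ s ∈ (S : Subgroup G), s * z = z * s) ∧
      ∀ s ∈ (S : Subgroup G), s * w * s⁻¹ = w ∨ s * w * s⁻¹ = w * z := by
  haveI : Fact (Nat.Prime 2) := ⟨Nat.prime_two⟩
  rcases Cfsg.NormalFourGroup.four_or_special S.isPGroup' with
    ⟨E, hE, hcard, hel⟩ | hcyc | ⟨m, ⟨e⟩⟩ | ⟨m, ⟨e⟩⟩ | ⟨m, -, hcard, x, y, hx, -, -⟩
  · haveI := hE
    obtain ⟨R, hR, hRE, hRcard⟩ :=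
      PGroupsBasic.exists_normal_card_pow S.isPGroup' E 1 (by rw [hcard]; norm_num)
    rw [pow_one] at hRcard
    obtain ⟨z, hz1, hzu⟩ := (Nat.card_eq_two_iff' (1 : R)).mp hRcard
    have hR2 : ∀ r ∈ R, r ≠ 1 → r = (z : ↥(S : Subgroup G)) := fun r hr h1 =>
      congrArg Subtype.val (hzu ⟨r, hr⟩ fun e => h1 (congrArg Subtype.val e))
    have hz1' : (z : ↥(S : Subgroup G)) ≠ 1 := fun e => hz1 (Subtype.ext e)
    have hidx : (R.subgroupOf E).index = 2 := by
      have h1 := (R.subgroupOf E).card_mul_index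
      rw [Nat.card_congr (subgroupOfEquivOfLe hRE).toEquiv, hRcard, hcard] at h1
      omega
    obtain ⟨w, hwE, hwR⟩ : ∃ w ∈ E, w ∉ R := by
      by_contra hall
      push Not at hall
      rw [(index_eq_one (H := R.subgroupOf E)).mpr (eq_top_iff.mpr fun v _ => hall v.1 v.2)] at hidx
      omega
    have hww : w * w = 1 := by rw [← sq]; exact hel.2 w hwE
    have hcases : ∀ v ∈ E, v ∉ R → v = w ∨ v = w * z := by
      intro v hv hvR
      have h1 : w * v ∈ R := (mul_mem_iff_of_index_two hidx (a := ⟨w, hwE⟩) (b := ⟨v, hv⟩)).mpr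
        (iff_of_false hwR hvR)
      have h2 : v = w * (w * v) := by rw [← mul_assoc, hww, one_mul]
      by_cases h3 : w * v = 1
      · left; rw [h2, h3, mul_one]
      · right; rw [h2, hR2 _ h1 h3]
    refine ⟨((z : ↥(S : Subgroup G)) : G), (z : ↥(S : Subgroup G)).2, (w : G), w.2,
      fun e => hz1' (Subtype.ext e), fun e => hwR ?_, fun e => hwR ?_, ?_, ?_, ?_, ?_⟩
    · rw [show w = 1 from Subtype.ext e]; exact one_mem _
    · rw [show w = (z : ↥(S : Subgroup G)) from Subtype.ext e]; exact z.2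
    · have := hel.2 _ (hRE z.2)
      rw [sq] at this
      exact congrArg Subtype.val this
    · exact congrArg Subtype.val hww
    · intro s hs
      have h1 : (⟨s, hs⟩ : ↥(S : Subgroup G)) * z * (⟨s, hs⟩ : ↥(S : Subgroup G))⁻¹ = z :=
        hR2 _ (hR.conj_mem _ z.2 _) (fun e => hz1' (conj_eq_one_iff.mp e))
      exact commute_of_conj (congrArg Subtype.val h1)
    · intro s hs
      have h1 : (⟨s, hs⟩ : ↥(S : Subgroup G)) * w * (⟨s, hs⟩ : ↥(S : Subgroup G))⁻¹ ∉ R := by
        intro hmem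
        have := hR.conj_mem _ hmem (⟨s, hs⟩ : ↥(S : Subgroup G))⁻¹
        simp [mul_assoc] at this
        exact hwR this
      rcases hcases _ (hE.conj_mem w hwE _) h1 with e | e
      · exact Or.inl (congrArg Subtype.val e)
      · exact Or.inr (congrArg Subtype.val e)
  · exfalso
    obtain ⟨x, hx⟩ := hcyc.exists_generator
    refine no_cyclic_half h hTS x ?_
    rw [orderOf_eq_card_of_forall_mem_zpowers hx]
    omega
  · exfalso
    refine no_cyclic_half h hTS (e.symm (DihedralGroup.r 1)) ?_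
    rw [MulEquiv.orderOf_eq, DihedralGroup.orderOf_r_one, Nat.card_congr e.toEquiv,
      DihedralGroup.nat_card]
  · exfalso
    rcases Nat.eq_zero_or_pos m with rfl | hm
    · haveI := Finite.of_equiv _ e.toEquiv
      have : Finite (ZMod (2 * 0)) :=
        Finite.of_injective (QuaternionGroup.a (n := 0)) fun a b h => by cases h; rfl
      have : Finite ℤ := this
      exact not_finite ℤ
    · haveI : NeZero m := ⟨hm.ne'⟩
      refine no_cyclic_half h hTS (e.symm (QuaternionGroup.a 1)) ?_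
      rw [MulEquiv.orderOf_eq, QuaternionGroup.orderOf_a_one, Nat.card_congr e.toEquiv,
        Nat.card_eq_fintype_card, QuaternionGroup.card]
      omega
  · exfalso
    refine no_cyclic_half h hTS x ?_
    rw [hx, hcard, pow_succ']

theorem dih_reduce [IsSimpleGroup G] (hG : ¬ IsMulCommutative G) {t : G} {T D : Subgroup G} {k : ℕ}
    {c b : G} (hyp : LocHyp t) (h : DH t T D k c b) (S : Sylow 2 G) (hTS : T ≤ (S : Subgroup G))
    (hbig : 4 * Nat.card T ≤ Nat.card ↥(S : Subgroup G)) :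
    ∃ t' T' D' c' b', IsConj t t' ∧ DH t' T' D' 2 c' b' ∧ T' ≤ (S : Subgroup G) ∧
      (∀ s ∈ (S : Subgroup G), ∀ v ∈ Subgroup.closure ({zz 2 c', b'} : Set G),
        s * v * s⁻¹ ∈ Subgroup.closure ({zz 2 c', b'} : Set G)) := by
  haveI : Fact (Nat.Prime 2) := ⟨Nat.prime_two⟩
  obtain ⟨z, hzS, w, hwS, hz1, hw1, hwz, hzz, hww, hzc, hwc⟩ := exists_four h S hTS
  have hTpos : 0 < Nat.card T := Nat.card_pos
  set M := (S : Subgroup G) ⊓ centralizer ({w} : Set G) with hM
  have hMS : M ≤ (S : Subgroup G) := inf_le_left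
  have hMw : ∀ x ∈ M, x * w = w * x := fun x hx => mem_centralizer_singleton_iff.mp hx.2
  have hidx : ∀ s₀ ∈ (S : Subgroup G), s₀ ∉ M → (M.subgroupOf (S : Subgroup G)).index = 2 := by
    intro s₀ hs₀ hs₀M
    have key : ∀ s ∈ (S : Subgroup G), s ∉ M → s * w * s⁻¹ = w * z := fun s hs hsM =>
      (hwc s hs).resolve_left fun e =>
        hsM ⟨hs, mem_centralizer_singleton_iff.mpr (commute_of_conj e)⟩
    rw [Subgroup.index_eq_two_iff]
    refine ⟨⟨s₀, hs₀⟩, fun ⟨s, hs⟩ => ?_⟩
    simp only [mem_subgroupOf, MulMemClass.mk_mul_mk]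
    by_cases hsM : s ∈ M
    · exact Or.inr ⟨hsM, fun e => hs₀M (by simpa using mul_mem (inv_mem hsM) e)⟩
    · refine Or.inl ⟨⟨mul_mem hs hs₀, mem_centralizer_singleton_iff.mpr (commute_of_conj ?_)⟩, hsM⟩
      rw [conj_comp, key s₀ hs₀ hs₀M, ← conj_mul, key s hs hsM, conj_of_commute (hzc s hs),
        mul_assoc, hzz, mul_one]
  have hMcard : Nat.card T < Nat.card M := by
    have h1 : Nat.card ↥(S : Subgroup G) ≤ 2 * Nat.card M := by
      by_cases hall : ∀ s ∈ (S : Subgroup G), s ∈ M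
      · rw [show M = (S : Subgroup G) from le_antisymm hMS hall]; omega
      · push Not at hall
        obtain ⟨s₀, hs₀, hs₀M⟩ := hall
        have := (M.subgroupOf (S : Subgroup G)).card_mul_index
        rw [hidx s₀ hs₀ hs₀M, Nat.card_congr (subgroupOfEquivOfLe hMS).toEquiv] at this
        omega
    omega
  have hnot : ∀ {v : G}, (∀ x ∈ M, x * v = v * x) → ¬ IsConj t v := fun hv =>
    not_conj h.loc (S.isPGroup'.to_le hMS) hv hMcard
  have hnz : ¬ IsConj t z := hnot fun x hx => hzc x (hMS hx)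
  have hnw : ¬ IsConj t w := hnot hMw
  have hnwz : ¬ IsConj t (w * z) := hnot fun x hx => by
    rw [← mul_assoc, hMw x hx, mul_assoc, hzc x (hMS hx), mul_assoc]
  -- a conjugate of `t` in `M` with centraliser of full size
  obtain ⟨u, huM, hu, hucard⟩ : ∃ u ∈ M, IsConj t u ∧
      Nat.card T ≤ Nat.card ↥((S : Subgroup G) ⊓ centralizer ({u} : Set G)) := by
    by_cases htM : t ∈ M
    · exact ⟨t, htM, IsConj.refl t,
        card_le_of_le fun x hx => ⟨hTS hx, mem_centralizer_singleton_iff.mpr (h.loc.comm x hx)⟩⟩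
    · obtain ⟨g, hg, hgc⟩ := JTTransfer62.exists_extremal hG S hMS
        (hidx t (hTS h.loc.t_mem) htM) h.loc.orderOf_t htM h.loc.pT h.loc.t_mem h.loc.comm
      exact ⟨_, hg, isConj_iff.mpr ⟨g⁻¹, by rw [inv_inv]⟩, hgc⟩
  set X := (S : Subgroup G) ⊓ centralizer ({u} : Set G) with hX
  obtain ⟨y₀, hy₀, hy₁⟩ : ∃ y ∈ X, y * y ≠ 1 := by
    by_contra hall
    push Not at hall
    obtain ⟨g, hg⟩ := isConj_iff.mp hu
    set P := X.map (MulAut.conj g⁻¹).toMonoidHom with hP
    obtain ⟨f, -, hf⟩ := h.loc.sylow P ((S.isPGroup'.to_le inf_le_left).map _) (by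
      rintro _ ⟨x, hx, rfl⟩
      have e := mem_centralizer_singleton_iff.mp hx.2
      simp only [MulEquiv.coe_toMonoidHom, MulAut.conj_apply, inv_inv]
      rw [show t = g⁻¹ * u * g by rw [← hg]; group]
      calc g⁻¹ * x * g * (g⁻¹ * u * g) = g⁻¹ * (x * u) * g := by group
        _ = g⁻¹ * (u * x) * g := by rw [e]
        _ = _ := by group)
    have hQ : P.map (MulAut.conj f).toMonoidHom = T := by
      refine eq_of_le_of_card_ge ?_ ?_
      · rintro _ ⟨x, hx, rfl⟩
        exact hf x hx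
      · rw [card_map_of_injective (f := (MulAut.conj f).toMonoidHom) (MulAut.conj f).injective, hP,
          card_map_of_injective (f := (MulAut.conj g⁻¹).toMonoidHom) (MulAut.conj g⁻¹).injective]
        exact hucard
    obtain ⟨_, ⟨x, hx, rfl⟩, hxc⟩ := (SetLike.ext_iff.mp hQ c).mpr (c_mem h)
    have hcc : c * c = 1 := by
      rw [← hxc, ← map_mul, ← map_mul, hall x hx, map_one, map_one]
    have h1 : orderOf c ∣ 2 := orderOf_dvd_of_pow_eq_one (by rw [sq]; exact hcc)
    rw [h.dih.ord] at h1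
    have := Nat.le_of_dvd two_pos h1
    have : 2 ^ 2 ≤ 2 ^ k := Nat.pow_le_pow_right (by norm_num) h.dih.two_le
    omega
  obtain ⟨Du, cu, bu, hd⟩ := dh_at hyp h S hu hucard hy₀ hy₁
  have hXcard : Nat.card X = Nat.card T := by rw [card_T' hd, card_T' h]
  have hzX : z ∈ X := ⟨hzS, mem_centralizer_singleton_iff.mpr (hzc u (hMS huM)).symm⟩
  have hwX : w ∈ X := ⟨hwS, mem_centralizer_singleton_iff.mpr (hMw u huM).symm⟩
  have huz : u * zz k cu = zz k cu * u := z_central hd hd.loc.t_mem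
  -- `w` is not central in `X`
  have hncen : ¬ ∀ y ∈ X, y * w = w * y := by
    intro hall
    have hzl : z = zz k cu ∨ z = u * zz k cu := by
      rcases center_T hd hzX (fun y hy => hzc y hy.1) with e | e | e | e
      exacts [absurd e hz1, Or.inl e, absurd (e ▸ hu) hnz, Or.inr e]
    have hwl : w = zz k cu ∨ w = u * zz k cu := by
      rcases center_T hd hwX hall with e | e | e | e
      exacts [absurd e hw1, Or.inl e, absurd (e ▸ hu) hnw, Or.inr e]
    rcases hzl with e | e <;> rcases hwl with e' | e'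
    · exact hwz (e'.trans e.symm)
    · apply hnwz
      rw [e', e, mul_assoc, z_sq hd, mul_one]; exact hu
    · apply hnwz
      rw [e', e, huz, ← mul_assoc, z_sq hd, one_mul]; exact hu
    · exact hwz (e'.trans e.symm)
  have hzk : z = zz k cu := by
    obtain ⟨y, hy, hyw⟩ : ∃ y ∈ X, y * w ≠ w * y := by
      by_contra hall
      push Not at hall
      exact hncen hall
    have h1 : y * w * y⁻¹ = w * z := (hwc y hy.1).resolve_left fun e => hyw (commute_of_conj e)
    have h2 : y * y * ((y⁻¹ * w) * (y⁻¹ * w)) = z := by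
      calc y * y * ((y⁻¹ * w) * (y⁻¹ * w)) = (y * w * y⁻¹) * w := by group
        _ = w * (z * w) := by rw [h1, mul_assoc]
        _ = z := by rw [← hzc w hwS, ← mul_assoc, hww, one_mul]
    obtain ⟨i, hi⟩ := sq_T hd hy
    obtain ⟨j, hj⟩ := sq_T hd (mul_mem (inv_mem hy) hwX)
    rw [hi, hj, ← zpow_add] at h2
    rcases cpow_sq_one hd (i := 2 * i + 2 * j) (by rw [h2, hzz]) with e | e
    · exact absurd (h2.symm.trans e) hz1
    · exact h2.symm.trans e
  have hk : k = 2 := by
    by_contra hne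
    exact hncen (four_central hd (by have := h.dih.two_le; omega) hwX hww
      fun y hy => hzk ▸ hwc y hy.1)
  subst hk
  rcases inv_T hd hwX hww with e | e | e | e | ⟨i, hi⟩ | ⟨i, hi⟩
  · exact absurd e hw1
  · exact absurd (e.trans hzk.symm) hwz
  · exact absurd (e ▸ hu) hnw
  · refine absurd (fun y hy => ?_) hncen
    rw [e, ← mul_assoc, hd.loc.comm y hy, mul_assoc, z_central hd hy, mul_assoc]
  · refine ⟨u, X, Du, cu, bu * cu ^ i, hu,
      ⟨hd.loc, ⟨hd.dih.two_le, hd.dih.ord, ⟨hd.dih.gen.c_mem, bc_mem hd i, ?_, bc_sq hd i, ?_, ?_⟩,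
        hd.dih.four⟩⟩, inf_le_left, ?_⟩
    · rintro ⟨j, hj⟩
      exact bc_ne_cpow hd i j hj.symm
    · have := bc_conj_c hd i 1
      rwa [zpow_one, zpow_neg, zpow_one] at this
    · intro x hx
      rcases mem_D hd hx with ⟨j, rfl⟩ | ⟨j, rfl⟩
      · exact Or.inl ⟨j, rfl⟩
      · refine Or.inr ⟨-i + j, ?_⟩
        change cu ^ (-i + j) = bu * cu ^ i * (bu * cu ^ j)
        rw [← mul_assoc, b_swap hd i, mul_assoc (cu ^ (-i)), hd.dih.gen.b_sq, mul_one, zpow_add]
    · rw [← hzk, ← hi]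
      intro s hs
      have hle : closure ({z, w} : Set G) ≤
          (closure ({z, w} : Set G)).comap (MulAut.conj s).toMonoidHom := by
        rw [closure_le]
        rintro x (rfl | rfl)
        · simp only [SetLike.mem_coe, mem_comap, MulEquiv.coe_toMonoidHom, MulAut.conj_apply,
            conj_of_commute (hzc s hs)]
          exact Subgroup.subset_closure (Or.inl rfl)
        · simp only [SetLike.mem_coe, mem_comap, MulEquiv.coe_toMonoidHom, MulAut.conj_apply]
          rcases hwc s hs with e | e <;> rw [e]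
          · exact Subgroup.subset_closure (Or.inr rfl)
          · exact mul_mem (Subgroup.subset_closure (Or.inr rfl)) (Subgroup.subset_closure (Or.inl rfl))
      exact fun v hv => hle hv
  · exfalso
    haveI : Group.IsNilpotent ↥(S : Subgroup G) := S.isPGroup'.isNilpotent
    have hlt : X.subgroupOf (S : Subgroup G) < ⊤ := by
      refine lt_top_iff_ne_top.mpr fun e => ?_
      have := card_le_of_le (subgroupOf_eq_top.mp e)
      rw [hXcard] at this
      omega
    obtain ⟨⟨s, hs⟩, hsN, hsX⟩ :=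
      SetLike.exists_of_lt (Group.normalizerCondition_of_isNilpotent _ hlt)
    have hsX' : s ∉ X := hsX
    have hconj : ∀ y ∈ X, s⁻¹ * y * s ∈ X := by
      intro y hy
      have h1 := (mem_normalizer_iff.mp (inv_mem hsN) ⟨y, hy.1⟩).mp hy
      simpa [mem_subgroupOf] using h1
    have hmem : s * u * s⁻¹ ∈ X := by
      have h1 := (mem_normalizer_iff.mp hsN ⟨u, hMS huM⟩).mp hd.loc.t_mem
      simpa [mem_subgroupOf] using h1
    have hcs : ∀ y ∈ X, y * (s * u * s⁻¹) = s * u * s⁻¹ * y := by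
      intro y hy
      calc y * (s * u * s⁻¹) = s * ((s⁻¹ * y * s) * u) * s⁻¹ := by group
        _ = s * (u * (s⁻¹ * y * s)) * s⁻¹ := by rw [hd.loc.comm _ (hconj y hy)]
        _ = _ := by group
    have hcu : IsConj t (s * u * s⁻¹) := hu.trans (isConj_iff.mpr ⟨s, rfl⟩)
    rcases center_T hd hmem hcs with e | e | e | e
    · have := hd.loc.orderOf_t
      rw [conj_eq_one_iff.mp e, orderOf_one] at this
      omega
    · rw [e, ← hzk] at hcu
      exact hnz hcu
    · exact hsX' ⟨hs, mem_centralizer_singleton_iff.mpr (commute_of_conj e)⟩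
    · rw [e] at hcu
      exact hnw (hi ▸ hcu.trans (isConj_tbc hd i))

end Cfsg.Agent.JTDihReduce62
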