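import Cfsg.Agent.Lib.JTSetup62
import Cfsg.Agent.Lib.JTTransfer62

/-!
# The group `⟨t⟩ × D` with `D` dihedral
-/

set_option autoImplicit false
set_option linter.unusedSectionVars false

namespace Cfsg.Agent.JTDihedral62

open Subgroup JTSetup62

variable {G : Type*} [Group G]

/-! ### General lemmas -/

theorem conj_inj {g x y : G} (h : g * x * g⁻¹ = g * y * g⁻¹) : x = y :=
  mul_left_cancel (mul_right_cancel h)

theorem conj_comp (a b x : G) : (a * b) * x * (a * b)⁻¹ = a * (b * x * b⁻¹) * a⁻¹ := by group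

theorem mul_self_eq_one {u : G} (h : orderOf u = 2) : u * u = 1 := by
  rw [← sq]; exact orderOf_dvd_iff_pow_eq_one.mp (dvd_of_eq h)

theorem commute_of_conj {g x : G} (h : g * x * g⁻¹ = x) : g * x = x * g :=
  mul_inv_eq_iff_eq_mul.mp h

theorem conj_of_commute {g x : G} (h : g * x = x * g) : g * x * g⁻¹ = x :=
  mul_inv_eq_iff_eq_mul.mpr h

/-- A maximal subgroup containing the squares and avoiding a given element. -/
theorem exists_index_two [Finite G] (S R : Subgroup G) (hR : R ≤ S)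
    (hsq : ∀ s ∈ S, s * s ∈ R) {x : G} (hxS : x ∈ S) (hx : x ∉ R) :
    ∃ M : Subgroup G, R ≤ M ∧ M ≤ S ∧ (M.subgroupOf S).index = 2 ∧ x ∉ M := by
  obtain ⟨M, hM, hmax⟩ := Set.Finite.exists_maximal
    (s := {K : Subgroup G | R ≤ K ∧ K ≤ S ∧ x ∉ K}) (Set.toFinite _) ⟨R, le_rfl, hR, hx⟩
  obtain ⟨hRM, hMS, hxM⟩ := hM
  refine ⟨M, hRM, hMS, ?_, hxM⟩
  have hsq' : ∀ s ∈ S, s * s ∈ M := fun s hs => hRM (hsq s hs)
  have hinv : ∀ {a : G}, a ∈ S → a⁻¹ * a⁻¹ ∈ M := fun ha => hsq' _ (inv_mem ha)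
  have hnorm : ∀ s ∈ S, ∀ m ∈ M, s * m * s⁻¹ ∈ M := by
    intro s hs m hm
    have hmS := hMS hm
    have : s * m * s⁻¹ = (s * m) * (s * m) * (m⁻¹ * (s⁻¹ * s⁻¹)) := by group
    rw [this]
    exact mul_mem (hsq' _ (mul_mem hs hmS)) (mul_mem (inv_mem hm) (hinv hs))
  have key : ∀ y ∈ S, y ∉ M → x * y ∈ M := by
    intro y hy hyM
    let K : Subgroup G :=
      { carrier := {w | w ∈ M ∨ w * y ∈ M}
        one_mem' := Or.inl (one_mem _)
        mul_mem' := by
          intro a b ha hb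
          have aux : ∀ {m : G}, m ∈ M → y * m * y⁻¹ ∈ M := fun hm => hnorm y hy _ hm
          rcases ha with ha | ha <;> rcases hb with hb | hb
          · exact Or.inl (mul_mem ha hb)
          · exact Or.inr (by rw [mul_assoc]; exact mul_mem ha hb)
          · right
            have : a * b * y = (a * y) * (y⁻¹ * b * y⁻¹⁻¹) := by group
            rw [this]
            exact mul_mem ha (hnorm _ (inv_mem hy) _ hb)
          · left
            have : a * b = (a * y) * (y⁻¹ * (b * y) * y⁻¹⁻¹) * (y⁻¹ * y⁻¹) := by group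
            rw [this]
            exact mul_mem (mul_mem ha (hnorm _ (inv_mem hy) _ hb)) (hinv hy)
        inv_mem' := by
          intro a ha
          rcases ha with ha | ha
          · exact Or.inl (inv_mem ha)
          · right
            have : a⁻¹ * y = y * (a * y)⁻¹ * y⁻¹ * (y * y) := by group
            rw [this]
            exact mul_mem (hnorm _ hy _ (inv_mem ha)) (hsq' _ hy) }
    have hKS : K ≤ S := by
      rintro w (hw | hw)
      · exact hMS hw
      · simpa using mul_mem (hMS hw) (inv_mem hy)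
    have hMK : M ≤ K := fun w hw => Or.inl hw
    by_contra hxy
    have hxK : x ∉ K := by rintro (h | h); exacts [hxM h, hxy h]
    have := hmax ⟨hRM.trans hMK, hKS, hxK⟩ hMK
    exact hyM (this (Or.inr (hsq' y hy) : y ∈ K))
  rw [Subgroup.index_eq_two_iff]
  refine ⟨⟨x, hxS⟩, fun ⟨y, hy⟩ => ?_⟩
  simp only [mem_subgroupOf, MulMemClass.mk_mul_mk]
  by_cases hyM : y ∈ M
  · refine Or.inr ⟨hyM, fun h => hxM ?_⟩
    simpa using mul_mem (inv_mem hyM) h
  · refine Or.inl ⟨?_, hyM⟩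
    have h := hnorm x⁻¹ (inv_mem hxS) _ (key y hy hyM)
    have : x⁻¹ * (x * y) * x⁻¹⁻¹ = y * x := by group
    rwa [this] at h

/-- Burnside's fusion lemma for central elements of a Sylow subgroup. -/
theorem exists_normalizer_conj [Finite G] {p : ℕ} [Fact p.Prime] (S : Sylow p G) {x y g : G}
    (hx : ∀ s ∈ (S : Subgroup G), s * x = x * s) (hy : ∀ s ∈ (S : Subgroup G), s * y = y * s)
    (hg : g * x * g⁻¹ = y) :
    ∃ n ∈ normalizer ((S : Subgroup G) : Set G), n * x * n⁻¹ = y := by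
  set C : Subgroup G := centralizer ({y} : Set G) with hC
  have h1 : (S : Subgroup G) ≤ C := fun s hs => mem_centralizer_singleton_iff.mpr (hy s hs)
  have h2 : ((g • S : Sylow p G) : Subgroup G) ≤ C := by
    intro s hs
    rw [Sylow.coe_subgroup_smul, mem_pointwise_smul_iff_inv_smul_mem] at hs
    have hs' : g⁻¹ * s * g ∈ (S : Subgroup G) := by simpa [MulAut.smul_def] using hs
    rw [mem_centralizer_singleton_iff, ← hg]
    calc s * (g * x * g⁻¹) = g * ((g⁻¹ * s * g) * x) * g⁻¹ := by group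
      _ = g * (x * (g⁻¹ * s * g)) * g⁻¹ := by rw [hx _ hs']
      _ = g * x * g⁻¹ * s := by group
  obtain ⟨c, hc⟩ := MulAction.exists_smul_eq ↥C ((g • S).subtype h2) (S.subtype h1)
  rw [Sylow.smul_subtype] at hc
  have hc' : ((c : G) * g) • S = S := by
    rw [mul_smul]; exact Sylow.subtype_injective hc
  refine ⟨(c : G) * g, Sylow.smul_eq_iff_mem_normalizer.1 hc', ?_⟩
  rw [conj_comp, hg]
  exact conj_of_commute (mem_centralizer_singleton_iff.mp c.2)

/-! ### Facts about `Loc` -/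

section LocFacts

variable [Finite G] {t : G} {T D : Subgroup G} (h : Loc t T D)
include h

theorem tt : t * t = 1 := mul_self_eq_one h.orderOf_t

theorem card_le {P : Subgroup G} (hP : IsPGroup 2 P) (hc : ∀ x ∈ P, x * t = t * x) :
    Nat.card P ≤ Nat.card T := by
  obtain ⟨g, -, hg⟩ := h.sylow P hP hc
  rw [← card_map_of_injective (K := P) (f := (MulAut.conj g).toMonoidHom) (MulAut.conj g).injective]
  refine card_le_of_le ?_
  rintro _ ⟨x, hx, rfl⟩
  exact hg x hx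

theorem card_le_conj {P : Subgroup G} (hP : IsPGroup 2 P) {u : G} (hu : IsConj t u)
    (hc : ∀ x ∈ P, x * u = u * x) : Nat.card P ≤ Nat.card T := by
  obtain ⟨g, hg⟩ := isConj_iff.mp hu
  rw [← card_map_of_injective (K := P) (f := (MulAut.conj g⁻¹).toMonoidHom)
    (MulAut.conj g⁻¹).injective]
  refine card_le h (hP.map _) ?_
  rintro _ ⟨x, hx, rfl⟩
  simp only [MulEquiv.coe_toMonoidHom, MulAut.conj_apply, inv_inv]
  have := hc x hx
  rw [← hg] at this
  calc g⁻¹ * x * g * t = g⁻¹ * (x * (g * t * g⁻¹)) * g := by group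
    _ = g⁻¹ * (g * t * g⁻¹ * x) * g := by rw [this]
    _ = t * (g⁻¹ * x * g) := by group

/-- An element centralised by a subgroup larger than `T` is not conjugate to `t`. -/
theorem not_conj {P : Subgroup G} (hP : IsPGroup 2 P) {u : G}
    (hc : ∀ x ∈ P, x * u = u * x) (hlt : Nat.card T < Nat.card P) : ¬ IsConj t u := fun hu =>
  absurd (card_le_conj h hP hu hc) (not_le.mpr hlt)

theorem card_T : Nat.card T = 2 * Nat.card D := by
  have hidx : (D.subgroupOf T).index = 2 := by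
    rw [Subgroup.index_eq_two_iff]
    refine ⟨⟨t, h.t_mem⟩, fun ⟨x, hx⟩ => ?_⟩
    simp only [mem_subgroupOf, MulMemClass.mk_mul_mk]
    have hcx := h.comm x hx
    by_cases hxD : x ∈ D
    · refine Or.inr ⟨hxD, fun hD => h.t_notMem ?_⟩
      simpa using mul_mem (inv_mem hxD) hD
    · refine Or.inl ⟨?_, hxD⟩
      rw [hcx]; exact (h.cover x hx).resolve_left hxD
  have := (D.subgroupOf T).card_mul_index
  rw [hidx, Nat.card_congr (subgroupOfEquivOfLe h.D_le).toEquiv] at this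
  omega

theorem t_conj {x : G} (hx : x ∈ T) : t * x * t⁻¹ = x := conj_of_commute (h.comm x hx).symm

theorem pD : IsPGroup 2 D := h.pT.to_le h.D_le

end LocFacts

/-! ### The dihedral case -/

/-- Local data of dihedral shape. -/
structure DH (t : G) (T D : Subgroup G) (k : ℕ) (c b : G) : Prop where
  loc : Loc t T D
  dih : Dih t D k c b

section DihFacts

variable [Finite G] {t : G} {T D : Subgroup G} {k : ℕ} {c b : G} (h : DH t T D k c b)

/-- The central involution of `D`. -/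
abbrev zz (k : ℕ) (c : G) : G := c ^ (2 ^ (k - 1))

include h

theorem cpow_iff (i j : ℤ) : c ^ i = c ^ j ↔ (2 : ℤ) ^ k ∣ i - j := by
  rw [zpow_eq_zpow_iff_modEq, Int.modEq_iff_dvd, h.dih.ord]
  push_cast
  exact dvd_sub_comm

theorem cpow_one_iff (i : ℤ) : c ^ i = 1 ↔ (2 : ℤ) ^ k ∣ i := by
  rw [← zpow_zero c, cpow_iff h, sub_zero]

theorem two_pow_k : (2 : ℤ) ^ k = 2 * 2 ^ (k - 1) := by
  conv_lhs => rw [show k = (k - 1) + 1 from by have := h.dih.two_le; omega]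
  rw [pow_succ]; ring

theorem z_eq : zz k c = c ^ ((2 : ℤ) ^ (k - 1)) := by
  rw [zz, ← zpow_natCast]; norm_num

theorem z_mem : zz k c ∈ D := pow_mem h.dih.gen.c_mem _

theorem z_ne_one : zz k c ≠ 1 := by
  intro e
  have := orderOf_dvd_of_pow_eq_one e
  rw [h.dih.ord, Nat.pow_dvd_pow_iff_le_right (by norm_num)] at this
  have := h.dih.two_le; omega

theorem z_sq : zz k c * zz k c = 1 := by
  rw [← pow_add, ← two_mul, ← pow_succ', show k - 1 + 1 = k from by have := h.dih.two_le; omega,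
    ← h.dih.ord, pow_orderOf_eq_one]

theorem orderOf_z : orderOf (zz k c) = 2 :=
  orderOf_eq_prime (by rw [sq]; exact z_sq h) (z_ne_one h)

theorem z_inv : (zz k c)⁻¹ = zz k c := inv_eq_of_mul_eq_one_right (z_sq h)

theorem b_conj (i : ℤ) : b * c ^ i * b⁻¹ = c ^ (-i) := by
  rw [← conj_zpow, h.dih.gen.conj, inv_zpow, zpow_neg]

theorem b_inv : b⁻¹ = b := inv_eq_of_mul_eq_one_right h.dih.gen.b_sq

theorem b_swap (i : ℤ) : b * c ^ i = c ^ (-i) * b := mul_inv_eq_iff_eq_mul.mp (b_conj h i)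

theorem bc_sq (i : ℤ) : b * c ^ i * (b * c ^ i) = 1 := by
  calc b * c ^ i * (b * c ^ i) = (b * c ^ i) * b * c ^ i := by group
    _ = c ^ (-i) * (b * b) * c ^ i := by rw [b_swap h i]; group
    _ = 1 := by rw [h.dih.gen.b_sq]; group

theorem bc_ne_one (i : ℤ) : b * c ^ i ≠ 1 := fun e =>
  h.dih.gen.b_notMem ⟨-i, by change c ^ (-i) = b; rw [eq_inv_of_mul_eq_one_left e, zpow_neg]⟩

theorem orderOf_bc (i : ℤ) : orderOf (b * c ^ i) = 2 :=
  orderOf_eq_prime (by rw [sq]; exact bc_sq h i) (bc_ne_one h i)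

theorem bc_mem (i : ℤ) : b * c ^ i ∈ D := mul_mem h.dih.gen.b_mem (zpow_mem h.dih.gen.c_mem i)

theorem bc_ne_cpow (i j : ℤ) : b * c ^ i ≠ c ^ j := fun e =>
  h.dih.gen.b_notMem ⟨j - i, by
    change c ^ (j - i) = b
    rw [zpow_sub, ← e, mul_inv_cancel_right]⟩

theorem mem_D {x : G} (hx : x ∈ D) : (∃ i : ℤ, x = c ^ i) ∨ ∃ i : ℤ, x = b * c ^ i := by
  rcases h.dih.gen.cover x hx with e | e
  · obtain ⟨i, rfl⟩ := e; exact Or.inl ⟨i, rfl⟩
  · obtain ⟨i, hi⟩ := e
    refine Or.inr ⟨i, ?_⟩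
    rw [show c ^ i = b * x from hi, ← mul_assoc, h.dih.gen.b_sq, one_mul]

theorem mem_T {x : G} (hx : x ∈ T) : (∃ i : ℤ, x = c ^ i) ∨ (∃ i : ℤ, x = b * c ^ i) ∨
    (∃ i : ℤ, x = t * c ^ i) ∨ ∃ i : ℤ, x = t * (b * c ^ i) := by
  rcases h.loc.cover x hx with e | e
  · rcases mem_D h e with e | e
    · exact Or.inl e
    · exact Or.inr (Or.inl e)
  · have hx' : x = t * (t * x) := by rw [← mul_assoc, tt h.loc, one_mul]
    rcases mem_D h e with ⟨i, e⟩ | ⟨i, e⟩
    · exact Or.inr (Or.inr (Or.inl ⟨i, by rw [hx', e]⟩))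
    · exact Or.inr (Or.inr (Or.inr ⟨i, by rw [hx', e]⟩))

theorem c_conj_bc (i j : ℤ) : c ^ j * (b * c ^ i) * (c ^ j)⁻¹ = b * c ^ (i - 2 * j) := by
  have h1 : c ^ j * b = b * c ^ (-j) := by rw [b_swap h (-j), neg_neg]
  rw [← mul_assoc, h1]
  group

theorem bc_conj_c (i j : ℤ) : (b * c ^ i) * c ^ j * (b * c ^ i)⁻¹ = c ^ (-j) := by
  calc (b * c ^ i) * c ^ j * (b * c ^ i)⁻¹ = b * c ^ j * b⁻¹ := by group
    _ = c ^ (-j) := b_conj h j

theorem card_D : Nat.card D = 2 ^ (k + 1) := by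
  have hle : zpowers c ≤ D := zpowers_le.mpr h.dih.gen.c_mem
  have hidx : ((zpowers c).subgroupOf D).index = 2 := by
    rw [Subgroup.index_eq_two_iff]
    refine ⟨⟨b, h.dih.gen.b_mem⟩, fun ⟨x, hx⟩ => ?_⟩
    simp only [mem_subgroupOf, MulMemClass.mk_mul_mk]
    rcases mem_D h hx with ⟨i, rfl⟩ | ⟨i, rfl⟩
    · refine Or.inr ⟨⟨i, rfl⟩, ?_⟩
      rintro ⟨j, hj⟩
      apply bc_ne_cpow h (-i) j
      change c ^ j = c ^ i * b at hj
      rw [hj, b_swap h (-i), neg_neg]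
    · refine Or.inl ⟨⟨-i, ?_⟩, fun ⟨j, hj⟩ => bc_ne_cpow h i j hj.symm⟩
      change c ^ (-i) = b * c ^ i * b
      rw [b_swap h i, mul_assoc, h.dih.gen.b_sq, mul_one]
  have := ((zpowers c).subgroupOf D).card_mul_index
  rw [hidx, Nat.card_congr (subgroupOfEquivOfLe hle).toEquiv, Nat.card_zpowers, h.dih.ord] at this
  rw [← this, pow_succ]

theorem card_T' : Nat.card T = 2 ^ (k + 2) := by
  rw [card_T h.loc, card_D h, pow_succ 2 (k + 1)]; ring

theorem sixteen_le : 16 ≤ Nat.card T := by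
  rw [card_T' h]
  calc 16 = 2 ^ 4 := by norm_num
    _ ≤ 2 ^ (k + 2) := Nat.pow_le_pow_right (by norm_num) (by have := h.dih.two_le; omega)

theorem c_mem : c ∈ T := h.loc.D_le h.dih.gen.c_mem

theorem b_mem : b ∈ T := h.loc.D_le h.dih.gen.b_mem

theorem z_central {x : G} (hx : x ∈ T) : x * zz k c = zz k c * x := by
  have hb : b * zz k c = zz k c * b := by
    have := b_swap h ((2 : ℤ) ^ (k - 1))
    rwa [zpow_neg, ← z_eq h, z_inv h] at this
  have hc : ∀ i : ℤ, c ^ i * zz k c = zz k c * c ^ i := fun i => by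
    rw [z_eq h, ← zpow_add, ← zpow_add, add_comm]
  have ht : t * zz k c = zz k c * t := (h.loc.comm _ (h.loc.D_le (z_mem h))).symm
  rcases mem_T h hx with ⟨i, rfl⟩ | ⟨i, rfl⟩ | ⟨i, rfl⟩ | ⟨i, rfl⟩
  · exact hc i
  · rw [mul_assoc, hc, ← mul_assoc, hb, mul_assoc]
  · rw [mul_assoc, hc, ← mul_assoc, ht, mul_assoc]
  · rw [mul_assoc, mul_assoc, hc, ← mul_assoc b, hb, mul_assoc, ← mul_assoc t, ht, mul_assoc]

theorem cpow_sq_one {i : ℤ} (e : c ^ i * c ^ i = 1) : c ^ i = 1 ∨ c ^ i = zz k c := by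
  rw [← zpow_add, cpow_one_iff h, two_pow_k h, ← two_mul,
    mul_dvd_mul_iff_left (by norm_num : (2 : ℤ) ≠ 0)] at e
  obtain ⟨j, hj⟩ := e
  rcases Int.even_or_odd' j with ⟨l, rfl | rfl⟩
  · left
    rw [cpow_one_iff h, two_pow_k h]
    exact ⟨l, by rw [hj]; ring⟩
  · right
    rw [z_eq h, cpow_iff h, two_pow_k h]
    exact ⟨l, by rw [hj]; ring⟩

theorem tx_sq {x : G} (hx : x ∈ T) : t * x * (t * x) = x * x := by
  calc t * x * (t * x) = t * (x * t) * x := by group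
    _ = (t * t) * (x * x) := by rw [h.loc.comm x hx]; group
    _ = x * x := by rw [tt h.loc, one_mul]

/-- The involutions of `T`. -/
theorem inv_T {x : G} (hx : x ∈ T) (e : x * x = 1) : x = 1 ∨ x = zz k c ∨ x = t ∨
    x = t * zz k c ∨ (∃ i : ℤ, x = b * c ^ i) ∨ ∃ i : ℤ, x = t * (b * c ^ i) := by
  rcases mem_T h hx with ⟨i, rfl⟩ | ⟨i, rfl⟩ | ⟨i, rfl⟩ | ⟨i, rfl⟩
  · rcases cpow_sq_one h e with e | e <;> simp [e]
  · exact Or.inr (Or.inr (Or.inr (Or.inr (Or.inl ⟨i, rfl⟩))))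
  · rw [tx_sq h (zpow_mem (c_mem h) i)] at e
    rcases cpow_sq_one h e with e | e <;> simp [e]
  · exact Or.inr (Or.inr (Or.inr (Or.inr (Or.inr ⟨i, rfl⟩))))

/-- The squares of `T` lie in `⟨c⟩`. -/
theorem sq_T {x : G} (hx : x ∈ T) : ∃ i : ℤ, x * x = c ^ (2 * i) := by
  rcases mem_T h hx with ⟨i, rfl⟩ | ⟨i, rfl⟩ | ⟨i, rfl⟩ | ⟨i, rfl⟩
  · exact ⟨i, by rw [← zpow_add, two_mul]⟩
  · exact ⟨0, by rw [bc_sq h]; simp⟩
  · exact ⟨i, by rw [tx_sq h (zpow_mem (c_mem h) i), ← zpow_add, two_mul]⟩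
  · exact ⟨0, by rw [tx_sq h (h.loc.D_le (bc_mem h i)), bc_sq h]; simp⟩

theorem pow_T {x : G} (hx : x ∈ T) : x ^ (2 ^ k) = 1 := by
  obtain ⟨i, hi⟩ := sq_T h hx
  have h2 : 2 ^ k = 2 * 2 ^ (k - 1) := by
    conv_lhs => rw [show k = (k - 1) + 1 from by have := h.dih.two_le; omega]
    rw [pow_succ']
  rw [h2, pow_mul, sq, hi, ← zpow_natCast, ← zpow_mul, cpow_one_iff h, two_pow_k h]
  exact ⟨i, by push_cast; ring⟩

theorem bc_conj_z (i : ℤ) :
    ∃ g : G, g * t * g⁻¹ = t ∧ g * zz k c * g⁻¹ = b * c ^ i :=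
  h.loc.inv_conj _ (z_mem h) _ (bc_mem h i) (orderOf_z h) (orderOf_bc h i)

theorem isConj_bc (i : ℤ) : IsConj (zz k c) (b * c ^ i) := by
  obtain ⟨g, -, hg⟩ := bc_conj_z h i
  exact isConj_iff.mpr ⟨g, hg⟩

theorem isConj_tbc (i : ℤ) : IsConj (t * zz k c) (t * (b * c ^ i)) := by
  obtain ⟨g, hgt, hg⟩ := bc_conj_z h i
  exact isConj_iff.mpr ⟨g, by rw [← conj_mul, hgt, hg]⟩

theorem not_bc_central (i : ℤ) : ¬ ∀ y ∈ T, y * (b * c ^ i) = b * c ^ i * y := by
  intro hall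
  have h1 := c_conj_bc h i 1
  rw [zpow_one, conj_of_commute (hall c (c_mem h))] at h1
  have h2 := mul_left_cancel h1
  rw [cpow_iff h, sub_sub_cancel, mul_one] at h2
  have h3 : ((2 : ℤ) ^ 2) ≤ 2 ^ k := pow_le_pow_right₀ (by norm_num) h.dih.two_le
  have := Int.le_of_dvd (by norm_num) h2
  omega

theorem center_T {x : G} (hx : x ∈ T) (hall : ∀ y ∈ T, y * x = x * y) :
    x = 1 ∨ x = zz k c ∨ x = t ∨ x = t * zz k c := by
  have hcz : ∀ i : ℤ, b * c ^ i = c ^ i * b → c ^ i = 1 ∨ c ^ i = zz k c := fun i e => by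
    apply cpow_sq_one h
    have := b_conj h i
    rw [conj_of_commute e, zpow_neg] at this
    exact eq_inv_iff_mul_eq_one.mp this
  rcases mem_T h hx with ⟨i, rfl⟩ | ⟨i, rfl⟩ | ⟨i, rfl⟩ | ⟨i, rfl⟩
  · rcases hcz i (hall b (b_mem h)) with e | e <;> simp [e]
  · exact absurd hall (not_bc_central h i)
  · have hb : b * (t * c ^ i) = t * c ^ i * b := hall b (b_mem h)
    have hb' : b * c ^ i = c ^ i * b := by
      rw [← mul_assoc, h.loc.comm b (b_mem h), mul_assoc, mul_assoc] at hb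
      exact mul_left_cancel hb
    rcases hcz i hb' with e | e <;> simp [e]
  · exfalso
    apply not_bc_central h i
    intro y hy
    have e := hall y hy
    rw [← mul_assoc, h.loc.comm y hy, mul_assoc, mul_assoc] at e
    exact mul_left_cancel e

/-- `z` is the only square of order 2 in `T`. -/
theorem sq_eq_z {x y : G} (hy : y ∈ T) (hxy : y * y = x) (hx : orderOf x = 2) : x = zz k c := by
  obtain ⟨i, hi⟩ := sq_T h hy
  rw [hxy] at hi
  subst hi
  rcases cpow_sq_one h (mul_self_eq_one hx) with e | e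
  · rw [e, orderOf_one] at hx; omega
  · exact e

theorem z_isSquare : ∃ y ∈ T, y * y = zz k c :=
  ⟨c ^ (2 ^ (k - 2)), pow_mem (c_mem h) _, by
    rw [← pow_add, ← two_mul, ← pow_succ',
      show k - 2 + 1 = k - 1 from by have := h.dih.two_le; omega]⟩

/-- For `D` of order at least 16 the only normal four-group of `T` is its centre. -/
theorem four_central (hk : 3 ≤ k) {w : G} (hw : w ∈ T) (hw2 : w * w = 1)
    (hwT : ∀ y ∈ T, y * w * y⁻¹ = w ∨ y * w * y⁻¹ = w * zz k c) :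
    ∀ y ∈ T, y * w = w * y := by
  have key : ∀ i : ℤ, b * c ^ (i - 2) ≠ b * c ^ i ∧ b * c ^ (i - 2) ≠ b * c ^ i * zz k c := by
    intro i
    refine ⟨fun e => ?_, fun e => ?_⟩
    · have h2 := mul_left_cancel e
      rw [cpow_iff h] at h2
      have h3 : ((2 : ℤ) ^ 2) ≤ 2 ^ k := pow_le_pow_right₀ (by norm_num) h.dih.two_le
      have := Int.le_of_dvd (by norm_num) (dvd_neg.mpr h2)
      omega
    · rw [mul_assoc, z_eq h, ← zpow_add] at e
      have h2 := mul_left_cancel e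
      rw [cpow_iff h, two_pow_k h] at h2
      have h3 : ((2 : ℤ) ^ 2) ≤ 2 ^ (k - 1) := pow_le_pow_right₀ (by norm_num) (by omega)
      obtain ⟨j, hj⟩ := h2
      have h4 : (2 : ℤ) ^ (k - 1) * (2 * j + 1) = -2 := by linarith
      have h5 : ((2 : ℤ) ^ (k - 1)) ∣ 2 := dvd_neg.mp ⟨2 * j + 1, h4.symm⟩
      have := Int.le_of_dvd (by norm_num) h5
      omega
  have hconj : ∀ i : ℤ, c * (b * c ^ i) * c⁻¹ = b * c ^ (i - 2) := fun i => by
    have := c_conj_bc h i 1; rwa [zpow_one, mul_one] at this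
  rcases inv_T h hw hw2 with rfl | rfl | rfl | rfl | ⟨i, rfl⟩ | ⟨i, rfl⟩
  · simp
  · exact fun y hy => z_central h hy
  · exact fun y hy => h.loc.comm y hy
  · intro y hy
    rw [← mul_assoc, h.loc.comm y hy, mul_assoc, z_central h hy, mul_assoc]
  · exfalso
    rcases hwT c (c_mem h) with e | e <;> rw [hconj] at e
    exacts [(key i).1 e, (key i).2 e]
  · exfalso
    have e' : c * (t * (b * c ^ i)) * c⁻¹ = t * (b * c ^ (i - 2)) := by
      rw [← conj_mul, hconj, conj_of_commute (h.loc.comm c (c_mem h))]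
    rcases hwT c (c_mem h) with e | e <;> rw [e'] at e
    · exact (key i).1 (mul_left_cancel e)
    · exact (key i).2 (mul_left_cancel (by rw [e, mul_assoc]))

end DihFacts

end Cfsg.Agent.JTDihedral62
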