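import Cfsg.Agent.Lib.JTSmall62

/-!
# `D` elementary abelian and `T` a Sylow subgroup forces `|D| = 4`
-/

set_option autoImplicit false
set_option linter.unusedSectionVars false

namespace Cfsg.Agent.JTElemFull62

open Subgroup JTSetup62 JTDihedral62 JTSmall62

variable {G : Type*} [Group G] [Finite G]

/-- The set of conjugates of `t` under the normaliser of a Sylow subgroup centralising `t` has odd
cardinality. -/
theorem odd_orbit (S : Sylow 2 G) {t : G} (htS : ∀ s ∈ (S : Subgroup G), s * t = t * s) :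
    Odd (Nat.card {x : G // ∃ h ∈ normalizer ((S : Subgroup G) : Set G), h * t * h⁻¹ = x}) := by
  haveI : Fact (Nat.Prime 2) := ⟨Nat.prime_two⟩
  set H := normalizer ((S : Subgroup G) : Set G) with hH
  set C := (centralizer ({t} : Set G)).subgroupOf H with hC
  let f : ↥H ⧸ C → {x : G // ∃ h ∈ H, h * t * h⁻¹ = x} := fun q =>
    Quotient.liftOn' q (fun y => ⟨(y : G) * t * (y : G)⁻¹, (y : G), y.2, rfl⟩) (by
      intro a b hab
      rw [QuotientGroup.leftRel_apply, hC, mem_subgroupOf, mem_centralizer_singleton_iff] at hab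
      apply Subtype.ext
      change (a : G) * t * (a : G)⁻¹ = (b : G) * t * (b : G)⁻¹
      push_cast at hab
      calc (a : G) * t * (a : G)⁻¹ = (a : G) * (t * ((a : G)⁻¹ * b)) * (b : G)⁻¹ := by group
        _ = (a : G) * ((a : G)⁻¹ * b * t) * (b : G)⁻¹ := by rw [hab]
        _ = _ := by group)
  have finj : Function.Injective f := by
    rintro ⟨a⟩ ⟨b⟩ hab
    have hab' : (a : G) * t * (a : G)⁻¹ = (b : G) * t * (b : G)⁻¹ := congrArg Subtype.val hab
    refine Quotient.sound' ?_
    rw [QuotientGroup.leftRel_apply, hC, mem_subgroupOf, mem_centralizer_singleton_iff]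
    push_cast
    calc (a : G)⁻¹ * b * t = (a : G)⁻¹ * ((b : G) * t * (b : G)⁻¹) * b := by group
      _ = (a : G)⁻¹ * ((a : G) * t * (a : G)⁻¹) * b := by rw [hab']
      _ = t * ((a : G)⁻¹ * b) := by group
  have fsurj : Function.Surjective f := by
    rintro ⟨x, y, hy, rfl⟩
    exact ⟨QuotientGroup.mk ⟨y, hy⟩, rfl⟩
  rw [← Nat.card_congr (Equiv.ofBijective f ⟨finj, fsurj⟩), ← Subgroup.index]
  have hle : (S : Subgroup G) ≤ H := le_normalizer
  have h1 : C.index ∣ (S : Subgroup G).relIndex H := by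
    refine Subgroup.index_dvd_of_le ?_
    intro x hx
    exact mem_centralizer_singleton_iff.mpr (htS _ hx)
  have h2 : (S : Subgroup G).relIndex H ∣ (S : Subgroup G).index := relIndex_dvd_index_of_le hle
  rw [Nat.odd_iff]
  have h3 : ¬ 2 ∣ C.index := fun hd => S.not_dvd_index (hd.trans (h1.trans h2))
  omega

/-- Outside any small finite set there is an element of `T`. -/
theorem exists_outside {T : Subgroup G} (s : Finset G) (hs : s.card < Nat.card T) :
    ∃ x ∈ T, x ∉ s := by
  by_contra hall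
  push Not at hall
  have : Nat.card T ≤ Nat.card {x // x ∈ s} :=
    Nat.card_le_card_of_injective (fun x => ⟨(x : G), hall x x.2⟩) fun a b e =>
      Subtype.ext (congrArg (fun w : {x // x ∈ s} => (w : G)) e)
  rw [Nat.card_eq_fintype_card (α := {x // x ∈ s}), Fintype.card_coe] at this
  omega

theorem key₁ {A B C a b c : Prop} (a1 : ¬(A ↔ a)) (a2 : ¬(B ↔ b)) (a3 : ¬(C ↔ c))
    (l : c ↔ (a ↔ b)) : ¬ (A ↔ (B ↔ C)) := by
  by_cases a <;> by_cases b <;> simp_all

theorem key₂ {A B C A' B' C' X Y Z : Prop} (e1 : X ↔ (A ↔ A')) (e2 : Y ↔ (B ↔ B'))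
    (e3 : Z ↔ (C ↔ C')) (q1 : ¬ (A ↔ (B ↔ C))) (q2 : ¬ (A' ↔ (B' ↔ C')))
    (q3 : ¬ (X ↔ (Y ↔ Z))) : False := by
  by_cases A <;> by_cases B <;> by_cases A' <;> by_cases B' <;> simp_all

set_option maxHeartbeats 400000 in
theorem elem_full [IsSimpleGroup G] (hG : ¬ IsMulCommutative G) {t : G} {T D : Subgroup G} {n : ℕ}
    {c : G} (hl : Loc t T D) (he : Elem t D n c) (S : Sylow 2 G) (hS : T = (S : Subgroup G)) :
    n = 2 := by
  classical
  haveI : Fact (Nat.Prime 2) := ⟨Nat.prime_two⟩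
  by_contra hne
  have hn : 3 ≤ n := by have := he.two_le; omega
  have ht1 : t ≠ 1 := fun e => by have := hl.orderOf_t; rw [e, orderOf_one] at this; omega
  have htt : t * t = 1 := tt hl
  have hsq : ∀ x ∈ T, x * x = 1 := by
    intro x hx
    rcases hl.cover x hx with hD | hD
    · exact he.sq x hD
    · have := he.sq _ hD
      rwa [show t * x * (t * x) = t * (x * t) * x by group, hl.comm x hx,
        show t * (t * x) * x = (t * t) * (x * x) by group, htt, one_mul] at this
  have hinv : ∀ x ∈ T, x⁻¹ = x := fun x hx => inv_eq_of_mul_eq_one_right (hsq x hx)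
  have hcomm : ∀ x ∈ T, ∀ y ∈ T, x * y = y * x := by
    intro x hx y hy
    rw [← hinv _ (mul_mem hx hy), mul_inv_rev, hinv x hx, hinv y hy]
  have hmemT : ∀ {g x : G}, g ∈ normalizer ((S : Subgroup G) : Set G) → x ∈ T → g * x * g⁻¹ ∈ T := by
    intro g x hg hx
    rw [hS] at hx ⊢
    exact (mem_normalizer_iff.mp hg x).mp hx
  have hmemT' : ∀ {g x : G}, g ∈ normalizer ((S : Subgroup G) : Set G) → x ∈ T →
      g⁻¹ * x * g ∈ T := fun hg hx => by
    simpa using hmemT (inv_mem hg) hx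
  have hcen : ∀ x ∈ T, ∀ s ∈ (S : Subgroup G), s * x = x * s := fun x hx s hs =>
    hcomm s (hS ▸ hs) x hx
  have hord : ∀ x ∈ T, x ≠ 1 → orderOf x = 2 := fun x hx h1 =>
    orderOf_eq_prime (by rw [sq]; exact hsq x hx) h1
  have hto : ∀ {g x : G}, g * t * g⁻¹ = x → x ≠ 1 := fun hg e => ht1 (conj_eq_one_iff.mp (hg.trans e))
  -- the orbit of `t`
  have hburn : ∀ x ∈ T, IsConj t x → ∃ g ∈ normalizer ((S : Subgroup G) : Set G), g * t * g⁻¹ = x := by
    intro x hx hconj
    obtain ⟨g, hg⟩ := isConj_iff.mp hconj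
    exact exists_normalizer_conj S (hcen t hl.t_mem) (hcen x hx) hg
  have hD : ∀ a ∈ D, a ≠ 1 → ∀ b ∈ D, b ≠ 1 →
      (IsConj t a → IsConj t b) ∧ (IsConj t (t * a) → IsConj t (t * b)) := by
    intro a ha a1 b hb b1
    obtain ⟨g, hgt, hg⟩ := hl.inv_conj a ha b hb (hord a (hl.D_le ha) a1) (hord b (hl.D_le hb) b1)
    exact ⟨fun e => e.trans (isConj_iff.mpr ⟨g, hg⟩),
      fun e => e.trans (isConj_iff.mpr ⟨g, by rw [← conj_mul, hgt, hg]⟩)⟩
  have hcardT : Nat.card T = 2 * 2 ^ n := by rw [card_T hl, he.card_eq]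
  have hall : ∀ x ∈ T, x ≠ 1 → IsConj t x := by
    intro x hx x1
    by_contra hno
    obtain ⟨a, ha, a1⟩ : ∃ a ∈ D, a ≠ 1 := by
      obtain ⟨a, ha, h⟩ := exists_outside (T := D) ({1} : Finset G) (by
        rw [Finset.card_singleton, he.card_eq]
        exact lt_of_lt_of_le (by norm_num : 1 < 2 ^ 1)
          (Nat.pow_le_pow_right (by norm_num) (by omega)))
      exact ⟨a, ha, by simpa using h⟩
    set O := {x : G // ∃ h ∈ normalizer ((S : Subgroup G) : Set G), h * t * h⁻¹ = x} with hO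
    have hodd : Odd (Nat.card O) := odd_orbit S (hcen t hl.t_mem)
    have heven : ∀ (P : G → Prop), (∀ y, P y ↔ (y ∈ T ∧ y ≠ 1 ∧ IsConj t y)) →
        ∀ e : D ≃ {y // P y}, False := by
      intro P hP e
      have e2 : O ≃ {y // P y} := Equiv.subtypeEquivRight fun y => by
        rw [hP]
        constructor
        · rintro ⟨g, hg, rfl⟩
          exact ⟨hmemT hg hl.t_mem, hto rfl, isConj_iff.mpr ⟨g, rfl⟩⟩
        · rintro ⟨hy, -, hyc⟩
          exact hburn y hy hyc
      rw [Nat.card_congr (e2.trans e.symm), he.card_eq, Nat.odd_pow_iff (by omega)] at hodd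
      exact absurd hodd (by decide)
    by_cases hA : IsConj t a <;> by_cases hB : IsConj t (t * a)
    · -- everything is conjugate to `t`
      apply hno
      rcases hl.cover x hx with hxD | hxD
      · exact (hD a ha a1 x hxD x1).1 hA
      · by_cases h1 : t * x = 1
        · rw [show x = t by rw [← inv_eq_of_mul_eq_one_right h1, hinv t hl.t_mem]]
        · have := (hD a ha a1 _ hxD h1).2 hB
          rwa [← mul_assoc, htt, one_mul] at this
    · -- the orbit is `{t} ∪ D#`
      refine heven (fun y => y ∈ T ∧ y ≠ 1 ∧ IsConj t y) (fun y => Iff.rfl) ?_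
      refine Equiv.ofBijective (fun d : D => if h : (d : G) = 1 then ⟨t, hl.t_mem, ht1, IsConj.refl t⟩
        else ⟨d, hl.D_le d.2, h, (hD a ha a1 d d.2 h).1 hA⟩) ⟨?_, ?_⟩
      · intro d d' hdd
        simp only at hdd
        split_ifs at hdd with h h' <;> have hv := congrArg Subtype.val hdd <;> simp only at hv
        · exact Subtype.ext (h.trans h'.symm)
        · exact absurd (hv ▸ d'.2) hl.t_notMem
        · exact absurd (hv ▸ d.2) hl.t_notMem
        · exact Subtype.ext hv
      · rintro ⟨y, hy, y1, hyc⟩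
        rcases hl.cover y hy with hyD | hyD
        · exact ⟨⟨y, hyD⟩, by simp [y1]⟩
        · refine ⟨1, ?_⟩
          have : t * y = 1 := by
            by_contra h1
            apply hB
            have := (hD _ hyD h1 a ha a1).2
            rw [← mul_assoc, htt, one_mul] at this
            exact this hyc
          have : y = t := by rw [← inv_eq_of_mul_eq_one_right this, hinv t hl.t_mem]
          simp [this]
    · -- the orbit is `t D`
      refine heven (fun y => y ∈ T ∧ y ≠ 1 ∧ IsConj t y) (fun y => Iff.rfl) ?_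
      refine Equiv.ofBijective (fun d : D => (⟨t * d, mul_mem hl.t_mem (hl.D_le d.2), ?_, ?_⟩ :
        {y : G // y ∈ T ∧ y ≠ 1 ∧ IsConj t y})) ⟨?_, ?_⟩
      · intro e
        exact hl.t_notMem (eq_inv_of_mul_eq_one_left e ▸ inv_mem d.2)
      · by_cases h : (d : G) = 1
        · rw [h, mul_one]
        · exact (hD a ha a1 d d.2 h).2 hB
      · intro d d' hdd
        exact Subtype.ext (mul_left_cancel (congrArg Subtype.val hdd))
      · rintro ⟨y, hy, y1, hyc⟩
        rcases hl.cover y hy with hyD | hyD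
        · exact absurd ((hD y hyD y1 a ha a1).1 hyc) hA
        · exact ⟨⟨t * y, hyD⟩, Subtype.ext (by simp [← mul_assoc, htt])⟩
    · -- `t` is isolated
      refine isolated_false hG (isolated_of_unique hl fun y hy hyc => ?_)
      have y1 : y ≠ 1 := by
        obtain ⟨g, hg⟩ := isConj_iff.mp hyc
        exact hto hg
      rcases hl.cover y hy with hyD | hyD
      · exact absurd ((hD y hyD y1 a ha a1).1 hyc) hA
      · by_contra hyt
        refine hB ((hD _ hyD (fun h1 => hyt ?_) a ha a1).2 (by rwa [← mul_assoc, htt, one_mul]))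
        rw [← inv_eq_of_mul_eq_one_right h1, hinv t hl.t_mem]
  choose g hgN hg using fun x : {x : G // x ∈ T ∧ x ≠ 1} => hburn x x.2.1 (hall x x.2.1 x.2.2)
  let L : {x : G // x ∈ T ∧ x ≠ 1} → G → Prop := fun x y => (g x)⁻¹ * y * g x ∈ D
  have hidx : ∀ u ∈ T, ∀ v ∈ T, (u * v ∈ D ↔ (u ∈ D ↔ v ∈ D)) := by
    intro u hu v hv
    by_cases hu' : u ∈ D
    · exact ⟨fun h => iff_of_true hu' (by simpa using mul_mem (inv_mem hu') h),
        fun h => mul_mem hu' (h.mp hu')⟩
    · by_cases hv' : v ∈ D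
      · exact ⟨fun h => absurd (by simpa using mul_mem h (inv_mem hv')) hu',
          fun h => absurd (h.mpr hv') hu'⟩
      · refine ⟨fun _ => iff_of_false hu' hv', fun _ => ?_⟩
        have h1 := mul_mem ((hl.cover u hu).resolve_left hu') ((hl.cover v hv).resolve_left hv')
        rwa [show t * u * (t * v) = t * (u * t) * v by group, hl.comm u hu,
          show t * (t * u) * v = t * t * (u * v) by group, htt, one_mul] at h1
  have hlin : ∀ x, ∀ u ∈ T, ∀ v ∈ T, (L x (u * v) ↔ (L x u ↔ L x v)) := by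
    intro x u hu v hv
    simp only [L]
    rw [show (g x)⁻¹ * (u * v) * g x = ((g x)⁻¹ * u * g x) * ((g x)⁻¹ * v * g x) by group]
    exact hidx _ (hmemT' (hgN x) hu) _ (hmemT' (hgN x) hv)
  have hcN : c ∈ normalizer ((S : Subgroup G) : Set G) := by
    refine JTPsl62.mem_normalizer_of_conj fun x hx => ?_
    rw [← hS] at hx ⊢
    rcases hl.cover x hx with hxD | hxD
    · exact hl.D_le (he.normal x hxD)
    · have h1 := hl.D_le (he.normal _ hxD)
      rw [← conj_mul, he.comm] at h1
      exact (mul_mem_cancel_left hl.t_mem).mp h1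
  have hasym : ∀ x y : {x : G // x ∈ T ∧ x ≠ 1}, (x : G) ≠ y → ¬ (L x y ↔ L y x) := by
    intro x y hxy hiff
    set u := (g x)⁻¹ * (y : G) * g x with hu
    set v := (g y)⁻¹ * (x : G) * g y with hv
    have huT : u ∈ T := hmemT' (hgN x) y.2.1
    have hvT : v ∈ T := hmemT' (hgN y) x.2.1
    have hu1 : u ≠ 1 := fun e => y.2.2 (by
      rw [show (y : G) = g x * u * (g x)⁻¹ by rw [hu]; group, e]; group)
    have hv1 : v ≠ 1 := fun e => x.2.2 (by
      rw [show (x : G) = g y * v * (g y)⁻¹ by rw [hv]; group, e]; group)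
    have hut : u ≠ t := fun e => hxy (by
      rw [show (y : G) = g x * u * (g x)⁻¹ by rw [hu]; group, e, hg x])
    have hvt : v ≠ t := fun e => hxy (by
      rw [show (x : G) = g y * v * (g y)⁻¹ by rw [hv]; group, e, hg y])
    have hkey : ∃ i : ℕ, c ^ i * u * (c ^ i)⁻¹ = v := by
      by_cases huD : u ∈ D
      · exact he.trans u huD v (hiff.mp huD) hu1 hv1
      · have hvD : v ∉ D := fun h => huD (hiff.mpr h)
        have h1 : ∀ {w : G}, w ∈ T → w ≠ t → t * w ≠ 1 := fun hw hwt e => hwt (by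
          rw [← inv_eq_of_mul_eq_one_right e, hinv t hl.t_mem])
        obtain ⟨i, hi⟩ := he.trans _ ((hl.cover u huT).resolve_left huD) _
          ((hl.cover v hvT).resolve_left hvD) (h1 huT hut) (h1 hvT hvt)
        refine ⟨i, ?_⟩
        rw [← conj_mul, conj_of_commute ((Commute.pow_left (commute_of_conj he.comm : Commute c t)
          i).eq)] at hi
        exact mul_left_cancel hi
    obtain ⟨i, hi⟩ := hkey
    set h := g y * c ^ i * (g x)⁻¹ with hh
    have hx' : h * (x : G) * h⁻¹ = y := by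
      rw [hh, conj_comp, conj_comp,
        show (g x)⁻¹ * (x : G) * ((g x)⁻¹)⁻¹ = t by rw [← hg x]; group,
        conj_of_commute ((Commute.pow_left (commute_of_conj he.comm : Commute c t) i).eq), hg y]
    have hy' : h * (y : G) * h⁻¹ = x := by
      rw [hh, conj_comp, conj_comp, inv_inv, ← hu, hi, hv]; group
    have hxx := hcomm _ x.2.1 _ y.2.1
    refine no_swap_in_normalizer S (t := (x : G)) (z := (x : G) * y) (n := h) ?_ ?_
      (hsq _ (mul_mem x.2.1 y.2.1)) (fun e => hxy ?_)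
      (mul_mem (mul_mem (hgN y) (pow_mem hcN i)) (inv_mem (hgN x))) (hcen _ x.2.1)
    · rw [← conj_mul, hx', hy', hxx]
    · rw [hx', ← mul_assoc, hsq _ x.2.1, one_mul]
    · rw [← inv_eq_of_mul_eq_one_right e, hinv _ x.2.1]
  -- a plane and two elements outside it
  have hbig : 16 ≤ Nat.card T := by
    rw [hcardT]
    calc 16 = 2 * 2 ^ 3 := by norm_num
      _ ≤ _ := Nat.mul_le_mul_left 2 (Nat.pow_le_pow_right (by norm_num) hn)
  obtain ⟨y₁, h1T, h11⟩ := exists_outside (T := T) ({1} : Finset G) (by simp; omega)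
  obtain ⟨y₂, h2T, h21⟩ := exists_outside (T := T) ({1, y₁} : Finset G) (by
    exact lt_of_le_of_lt Finset.card_le_two (by omega))
  simp only [Finset.mem_singleton] at h11
  simp only [Finset.mem_insert, Finset.mem_singleton, not_or] at h21
  set W : Finset G := {1, y₁, y₂, y₁ * y₂} with hW
  have hW4 : W.card ≤ 4 := Finset.card_le_four
  obtain ⟨x, hxT, hxW⟩ := exists_outside (T := T) W (by omega)
  obtain ⟨x', hx'T, hx'W⟩ := exists_outside (T := T) (W ∪ W.image (x * ·)) (by
    have := Finset.card_union_le W (W.image (x * ·))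
    have := Finset.card_image_le (s := W) (f := (x * ·))
    omega)
  rw [Finset.mem_union, not_or] at hx'W
  have hx3 : x * x' ∉ W := fun h => hx'W.2 (Finset.mem_image.mpr ⟨_, h, by
    rw [← mul_assoc, hsq x hxT, one_mul]⟩)
  have h31 : y₁ * y₂ ≠ 1 := fun e => h21.2 (by
    rw [← inv_eq_of_mul_eq_one_right e, hinv y₁ h1T])
  set p₁ : {x : G // x ∈ T ∧ x ≠ 1} := ⟨y₁, h1T, h11⟩ with hp₁
  set p₂ : {x : G // x ∈ T ∧ x ≠ 1} := ⟨y₂, h2T, h21.1⟩ with hp₂
  set p₃ : {x : G // x ∈ T ∧ x ≠ 1} := ⟨y₁ * y₂, mul_mem h1T h2T, h31⟩ with hp₃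
  have hP : ∀ z ∈ T, z ∉ W → ¬ (L p₁ z ↔ (L p₂ z ↔ L p₃ z)) := by
    intro z hz hzW
    simp only [hW, Finset.mem_insert, Finset.mem_singleton, not_or] at hzW
    obtain ⟨z1, z2, z3, z4⟩ := hzW
    have a1 := hasym p₁ ⟨z, hz, z1⟩ (Ne.symm z2)
    have a2 := hasym p₂ ⟨z, hz, z1⟩ (Ne.symm z3)
    have a3 := hasym p₃ ⟨z, hz, z1⟩ (Ne.symm z4)
    have l := hlin ⟨z, hz, z1⟩ y₁ h1T y₂ h2T
    exact key₁ a1 a2 a3 l
  have e1 := hlin p₁ x hxT x' hx'T
  have e2 := hlin p₂ x hxT x' hx'T
  have e3 := hlin p₃ x hxT x' hx'T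
  have q1 := hP x hxT hxW
  have q2 := hP x' hx'T hx'W.1
  have q3 := hP _ (mul_mem hxT hx'T) hx3
  exact key₂ e1 e2 e3 q1 q2 q3

end Cfsg.Agent.JTElemFull62
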