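import Mathlib
import Cfsg.Agent.Lib.SuzukiTypeA

/-!
# An equivariant alternating form on a transitive cyclic module is trivial
-/

set_option autoImplicit false

namespace Cfsg.Agent.JTField62

/-- A field version: an additive-in-both, alternating, homogeneous map vanishes. -/
theorem field_version {F : Type*} [Field F] [Finite F] [CharP F 2] (b : F → F → F)
    (hl : ∀ x y z, b (x + y) z = b x z + b y z) (hr : ∀ x y z, b x (y + z) = b x y + b x z)
    (halt : ∀ x, b x x = 0) (hs : ∀ l : F, l ≠ 0 → ∀ x y, b (l * x) (l * y) = l * b x y) :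
    ∀ x y, b x y = 0 := by
  have hz : ∀ z, b 0 z = 0 := fun z => by have h := hl 0 0 z; rw [add_zero] at h; simpa using h
  have hz' : ∀ x, b x 0 = 0 := fun x => by have h := hr x 0 0; rw [add_zero] at h; simpa using h
  have hsymm : ∀ x y, b x y = b y x := fun x y => by
    have h := halt (x + y)
    rw [hl, hr, hr, halt, halt, zero_add, add_zero] at h
    exact CharTwo.add_eq_zero.1 h
  set L : F → F := fun x => b x 1 with hL
  have hLadd : ∀ x y, L (x + y) = L x + L y := fun x y => hl x y 1
  have hL1 : L 1 = 0 := halt 1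
  have hL0 : L 0 = 0 := hz 1
  have hinv : ∀ x : F, x ≠ 0 → L x = x * L x⁻¹ := fun x hx => by
    simp only [hL]
    rw [← hs x hx x⁻¹ 1, mul_inv_cancel₀ hx, mul_one, hsymm 1 x]
  have hsq : ∀ x : F, L (x * x) = 0 := by
    intro x
    rcases eq_or_ne x 0 with rfl | hx
    · rw [mul_zero]; exact hL0
    rcases eq_or_ne x 1 with rfl | hx1
    · rw [mul_one]; exact hL1
    have hx' : x + 1 ≠ 0 := fun h => hx1 (CharTwo.add_eq_zero.1 h)
    have hy : x * x + x ≠ 0 := by
      rw [show x * x + x = x * (x + 1) by ring]; exact mul_ne_zero hx hx'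
    have e : (x * x + x)⁻¹ = x⁻¹ + (x + 1)⁻¹ := by
      apply inv_eq_of_mul_eq_one_right
      have h2 : (2 : F) = 0 := CharTwo.two_eq_zero
      field_simp
      linear_combination x * h2
    have h1 := hinv _ hy
    rw [e, hLadd (x * x) x, hLadd x⁻¹] at h1
    have e1 : L x⁻¹ = L x / x := by rw [hinv x hx]; field_simp
    have e2 : L (x + 1)⁻¹ = L x / (x + 1) := by
      have := hinv _ hx'
      rw [hLadd, hL1, add_zero] at this
      rw [eq_div_iff hx']
      linear_combination -this
    rw [e1, e2] at h1
    have h3 : (x * x + x) * (L x / x + L x / (x + 1)) = L x := by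
      have h2 : (2 : F) = 0 := CharTwo.two_eq_zero
      field_simp
      linear_combination (x * L x) * h2
    rw [h3] at h1
    simpa using h1
  have hzero : ∀ x, L x = 0 := by
    intro x
    haveI := Fact.mk Nat.prime_two
    obtain ⟨r, hr⟩ := (Finite.injective_iff_surjective.1
      (frobenius_inj F 2)) x
    rw [← hr, frobenius_def, pow_two]
    exact hsq r
  intro x y
  rcases eq_or_ne y 0 with rfl | hy
  · exact hz' x
  have := hs y hy (x / y) 1
  rw [mul_one, mul_div_cancel₀ x hy] at this
  rw [this]
  simpa [hL] using Or.inr (hzero (x / y))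

/-- An alternating equivariant bilinear map on a module with a transitive cyclic group is trivial. -/
theorem alternating_equivariant {V : Type*} [CommGroup V] [Finite V] {n : ℕ} (hn : 2 ≤ n)
    (hcard : Nat.card V = 2 ^ n) (hsq : ∀ x : V, x * x = 1) (c : MulAut V)
    (htrans : ∀ a b : V, a ≠ 1 → b ≠ 1 → ∃ i : ℕ, (c ^ i) a = b) (β : V → V → V)
    (hl : ∀ x y z, β (x * y) z = β x z * β y z) (hr : ∀ x y z, β x (y * z) = β x y * β x z)
    (halt : ∀ x, β x x = 1) (heq : ∀ x y, β (c x) (c y) = c (β x y)) : ∀ x y, β x y = 1 := by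
  classical
  haveI := Fact.mk Nat.prime_two
  haveI : Nontrivial V := by
    rw [← Finite.one_lt_card_iff_nontrivial, hcard]
    exact Nat.one_lt_two_pow (by omega)
  obtain ⟨v₀, hv₀⟩ := exists_ne (1 : V)
  let K := Subgroup.zpowers c
  let act : K →* AddMonoid.End (Additive V) :=
    { toFun := fun k => MonoidHom.toAdditive (k : MulAut V).toMonoidHom
      map_one' := rfl
      map_mul' := fun _ _ => rfl }
  have hK : ∀ k l : K, k * l = l * k := fun k l => by
    obtain ⟨_, i, rfl⟩ := k
    obtain ⟨_, j, rfl⟩ := l
    exact Subtype.ext ((Commute.refl c).zpow_zpow i j).eq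
  obtain ⟨e, -, hscal, -⟩ := SuzukiTypeA.field_model (V := Additive V) hK act (fun v w hv hw => by
      obtain ⟨i, hi⟩ := htrans v.toMul w.toMul
        (fun h => hv (Additive.toMul.injective h)) (fun h => hw (Additive.toMul.injective h))
      exact ⟨⟨c ^ i, Subgroup.pow_mem _ (Subgroup.mem_zpowers c) i⟩, Additive.toMul.injective hi⟩)
    (n := n) (by omega) hcard (v₀ := Additive.ofMul v₀) (fun h => hv₀ (by simpa using h))
  have hpow : ∀ (i : ℕ) (x y : V), β ((c ^ i) x) ((c ^ i) y) = (c ^ i) (β x y) := by
    intro i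
    induction i with
    | zero => simp
    | succ i ih =>
      intro x y
      simp only [pow_succ', MulAut.mul_apply]
      rw [heq, ih]
  have hk : ∀ (k : K) (x y : V), β ((k : MulAut V) x) ((k : MulAut V) y) = (k : MulAut V) (β x y) := by
    intro k x y
    obtain ⟨i, hi⟩ := (Submonoid.mem_powers_iff _ _).1
      ((isOfFinOrder_of_finite c).mem_powers_iff_mem_zpowers.2 k.2)
    rw [← hi]
    exact hpow i x y
  have hmain := field_version (F := GaloisField 2 n)
    (fun x y => e.symm (Additive.ofMul (β (e x).toMul (e y).toMul)))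
    (fun x y z => by simp only [map_add, toMul_add, hl, ofMul_mul])
    (fun x y z => by simp only [map_add, toMul_add, hr, ofMul_mul])
    (fun x => by simp [halt])
    (fun l hl0 x y => by
      obtain ⟨k, hk'⟩ := hscal l hl0
      apply e.injective
      rw [hk', hk', hk']
      simp only [AddEquiv.apply_symm_apply]
      exact congrArg Additive.ofMul (hk k _ _))
  intro x y
  have h := congrArg e (hmain (e.symm (Additive.ofMul x)) (e.symm (Additive.ofMul y)))
  simp only [AddEquiv.apply_symm_apply, map_zero] at h
  exact congrArg Additive.toMul h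

end Cfsg.Agent.JTField62
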