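import Cfsg.Agent.Lib.JTStep62
import Cfsg.Agent.Lib.JTField62

/-!
# Growing the chain
-/

set_option autoImplicit false
set_option linter.unusedSectionVars false

namespace Cfsg.Agent.JTGrow62

open Subgroup
open JTPsl62 (mem_normalizer_of_conj)
open JTDihedral62 (conj_inj conj_comp conj_of_commute commute_of_conj)
open JTChain62 JTStep62

variable {G : Type*} [Group G] [Finite G] {H V Q Q₁ : Subgroup G} {t c : G} {n m : ℕ}

variable (hb : Base H V t c n) (hl : Layer H V t Q Q₁ m)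

include hb hl

section Cover

variable (hout : ∀ g ∈ nor hb hl, g * t * g⁻¹ ∉ Q)

include hout

theorem phi_iff {a b : G} (ha : a ∈ nor hb hl) (hb' : b ∈ nor hb hl) :
    (cm t)^[m] (cm t a) = (cm t)^[m] (cm t b) ↔ cm t (b⁻¹ * a) ∈ Q₁ := by
  have hba : b⁻¹ * a ∈ nor hb hl := mul_mem (inv_mem hb') ha
  have e : cm t a = cm t b * (b * cm t (b⁻¹ * a) * b⁻¹) := by
    rw [← cm_mul, mul_inv_cancel_left]
  rw [phi_eq hb hl (cm_mem hb hl hout ha) (cm_mem hb hl hout hb'), e, inv_mul_cancel_left]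
  constructor
  · intro h
    have := nor_one hb hl (inv_mem hb') h
    rwa [show b⁻¹ * (b * cm t (b⁻¹ * a) * b⁻¹) * b⁻¹⁻¹ = cm t (b⁻¹ * a) by group] at this
  · exact nor_one hb hl hb'

/-- A Sylow 2-subgroup of a subgroup acting transitively on the coset of `t`. -/
theorem exists_cover {L : Subgroup G} (hL : L ≤ nor hb hl) (hPL : ext hb hl ≤ L)
    (htr : ∀ q ∈ Q, ∃ g ∈ L, q⁻¹ * cm t g ∈ Q₁) :
    ∃ R : Subgroup G, ext hb hl ≤ R ∧ R ≤ L ∧ IsPGroup 2 R ∧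
      Nat.card R = 2 ^ n * Nat.card ↥(ext hb hl) ∧
      (∀ R' : Subgroup G, R' ≤ L → IsPGroup 2 R' → R ≤ R' → R' = R) ∧
      (∀ q ∈ Q, ∃ r ∈ R, q⁻¹ * cm t r ∈ Q₁) ∧ (∀ r ∈ R, cm t r ∈ Q₁ → r ∈ ext hb hl) := by
  haveI : Fact (Nat.Prime 2) := ⟨Nat.prime_two⟩
  let Lt : Subgroup G :=
    { carrier := {g | g ∈ L ∧ cm t g ∈ Q₁}
      one_mem' := ⟨one_mem _, by rw [cm_one]; exact one_mem _⟩
      mul_mem' := fun {a b} ha hb' =>
        ⟨mul_mem ha.1 hb'.1, by rw [cm_mul]; exact mul_mem ha.2 (nor_one hb hl (hL ha.1) hb'.2)⟩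
      inv_mem' := fun {a} ha => ⟨inv_mem ha.1, by
        have h := cm_mul t a⁻¹ a
        rw [inv_mul_cancel, cm_one] at h
        rw [eq_inv_of_mul_eq_one_left h.symm]
        exact inv_mem (nor_one hb hl (inv_mem (hL ha.1)) ha.2)⟩ }
  have hPLt : ext hb hl ≤ Lt := fun p hp => ⟨hPL hp, comm_mem hb hl (t_mem_ext hb hl) hp⟩
  have hLtL : Lt ≤ L := fun g hg => hg.1
  set f : ↥L → ↥V := fun g =>
    ⟨(cm t)^[m] (cm t (g : G)), hl.maps _ (cm_mem hb hl hout (hL g.2))⟩ with hf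
  have hfeq : ∀ a b : ↥L, f a = f b ↔ b⁻¹ * a ∈ Lt.subgroupOf L := by
    intro a b
    rw [hf, Subtype.mk.injEq, phi_iff hb hl hout (hL a.2) (hL b.2), mem_subgroupOf]
    exact ⟨fun h => ⟨(b⁻¹ * a).2, h⟩, fun h => h.2⟩
  let fb : ↥L ⧸ Lt.subgroupOf L → ↥V := Quotient.lift f (fun a b hab => ((hfeq b a).mpr
    (QuotientGroup.leftRel_apply.mp hab)).symm)
  have hfb : Function.Bijective fb := by
    constructor
    · intro p q hpq
      induction p using Quotient.inductionOn with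
      | h a =>
        induction q using Quotient.inductionOn with
        | h b => exact (Quotient.sound (QuotientGroup.leftRel_apply.mpr ((hfeq a b).mp hpq))).symm
    · rintro ⟨v, hv⟩
      obtain ⟨q, hq, hqv⟩ := hl.onto v hv
      obtain ⟨g, hg, hgq⟩ := htr q hq
      refine ⟨QuotientGroup.mk ⟨g, hg⟩, Subtype.ext ?_⟩
      change (cm t)^[m] (cm t g) = v
      rw [← hqv, phi_eq hb hl (cm_mem hb hl hout (hL hg)) hq]
      exact hgq
  have hidx : (Lt.subgroupOf L).index = 2 ^ n := by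
    rw [Subgroup.index, Nat.card_eq_of_bijective fb hfb, hb.card_V]
  obtain ⟨S, hS⟩ := ((ext_pGroup hb hl).of_equiv (subgroupOfEquivOfLe hPL).symm).exists_le_sylow
  set R := (S : Subgroup ↥L).map L.subtype with hR
  have hPR : ext hb hl ≤ R := fun x hx => ⟨⟨x, hPL hx⟩, hS hx, rfl⟩
  have hRL : R ≤ L := map_subtype_le _
  have hRp : IsPGroup 2 R := S.isPGroup'.map _
  have hfix : ∀ r ∈ R, cm t r ∈ Q₁ → r ∈ ext hb hl := fun r hr h1 =>
    fix_pgroup hb hl (hRL.trans hL) hRp hPR hr h1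
  set P' := (ext hb hl).subgroupOf R with hP'
  let g : ↥R ⧸ P' → ↥V := Quotient.lift (fun r : ↥R => f ⟨r.1, hRL r.2⟩) (fun a b hab => by
    refine ((hfeq _ _).mpr ?_).symm
    exact mem_subgroupOf.mpr (hPLt (QuotientGroup.leftRel_apply.mp hab : a⁻¹ * b ∈ P')))
  have hg : Function.Injective g := by
    intro p q hpq
    induction p using Quotient.inductionOn with
    | h a =>
      induction q using Quotient.inductionOn with
      | h b =>
        refine (Quotient.sound (QuotientGroup.leftRel_apply.mpr ?_)).symm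
        have h1 := (hfeq ⟨a.1, hRL a.2⟩ ⟨b.1, hRL b.2⟩).mp hpq
        exact hfix _ (mul_mem (inv_mem b.2) a.2) h1.2
  have hle := Nat.card_le_card_of_injective g hg
  rw [← Subgroup.index, hb.card_V] at hle
  have hR1 : Nat.card R = Nat.card ↥(ext hb hl) * P'.index := by
    rw [← P'.card_mul_index, hP', Nat.card_congr (subgroupOfEquivOfLe hPR).toEquiv]
  have hdvd : 2 ^ n ∣ P'.index := by
    have h1 := (S : Subgroup ↥L).card_mul_index
    have h2 := (Lt.subgroupOf L).card_mul_index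
    rw [hidx, Nat.card_congr (subgroupOfEquivOfLe hLtL).toEquiv, ← h1] at h2
    obtain ⟨j, hj⟩ := card_dvd_of_le hPLt
    have h3 : Nat.card R = Nat.card ↥(S : Subgroup ↥L) :=
      card_map_of_injective (K := (S : Subgroup ↥L)) L.subtype_injective
    rw [← h3, hR1, hj] at h2
    have h4 : j * 2 ^ n = P'.index * (S : Subgroup ↥L).index := by
      apply Nat.eq_of_mul_eq_mul_left (Nat.card_pos (α := ↥(ext hb hl)))
      rw [← mul_assoc, h2, mul_assoc]
    exact ((Nat.Coprime.pow_left n (Nat.prime_two.coprime_iff_not_dvd.mpr S.not_dvd_index))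
      ).dvd_of_dvd_mul_right (Dvd.intro_left j h4)
  have hidxR : P'.index = 2 ^ n :=
    le_antisymm hle (Nat.le_of_dvd (Nat.pos_of_ne_zero P'.index_ne_zero_of_finite) hdvd)
  have hgb : Function.Bijective g := (Nat.bijective_iff_injective_and_card g).mpr
    ⟨hg, by rw [← Subgroup.index, hidxR, hb.card_V]⟩
  refine ⟨R, hPR, hRL, hRp, by rw [hR1, hidxR, mul_comm], ?_, ?_, hfix⟩
  · intro R' hR' hRp' hle'
    have h1 : R'.subgroupOf L = (S : Subgroup ↥L) :=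
      S.is_maximal' (hRp'.of_equiv (subgroupOfEquivOfLe hR').symm)
        (fun x hx => hle' ⟨x, hx, rfl⟩)
    refine le_antisymm (fun x hx => ⟨⟨x, hR' hx⟩, ?_, rfl⟩) hle'
    rw [SetLike.mem_coe, ← h1]; exact hx
  · intro q hq
    obtain ⟨p, hp⟩ := hgb.2 ⟨(cm t)^[m] q, hl.maps q hq⟩
    induction p using Quotient.inductionOn with
    | h r =>
      refine ⟨r.1, r.2, (phi_eq hb hl (cm_mem hb hl hout (hL (hRL r.2))) hq).mp ?_⟩
      exact congrArg Subtype.val hp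

end Cover

omit hl in
theorem c_fix_one {v : G} (hv : v ∈ V) (h : c * v * c⁻¹ = v) : v = 1 := by
  by_contra hv1
  have hi : ∀ i : ℕ, c ^ i * v * (c ^ i)⁻¹ = v := by
    intro i
    induction i with
    | zero => simp
    | succ i ih => rw [pow_succ, conj_comp, h, ih]
  have hsub : (V : Set G) ⊆ {1, v} := by
    intro x hx
    by_cases hx1 : x = 1
    · exact Or.inl hx1
    · obtain ⟨i, hxi⟩ := hb.trans v hv x hx hv1 hx1
      rw [hi i] at hxi
      exact Or.inr hxi.symm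
  have h1 : Nat.card V ≤ 2 := by
    refine (Nat.card_mono (Set.toFinite _) hsub).trans ?_
    rw [Nat.card_coe_set_eq]
    exact (Set.ncard_insert_le _ _).trans (by rw [Set.ncard_singleton])
  rw [hb.card_V] at h1
  have := Nat.pow_le_pow_right (show 0 < 2 by norm_num) hb.two_le
  omega

omit hl in
theorem c_surj {v : G} (hv : v ∈ V) : ∃ w ∈ V, c * w * c⁻¹ * w⁻¹ = v := by
  let f : ↥V → ↥V := fun w =>
    ⟨c * (w : G) * c⁻¹ * (w : G)⁻¹, mul_mem (hb.c_norm _ w.2) (inv_mem w.2)⟩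
  have hf : Function.Injective f := by
    intro a b hab
    have h : c * (a : G) * c⁻¹ * (a : G)⁻¹ = c * (b : G) * c⁻¹ * (b : G)⁻¹ :=
      congrArg Subtype.val hab
    have hm : (b : G)⁻¹ * a ∈ V := mul_mem (inv_mem b.2) a.2
    have h1 : c * ((b : G)⁻¹ * a) * c⁻¹ = (b : G)⁻¹ * a := by
      calc c * ((b : G)⁻¹ * a) * c⁻¹
          = (c * (b : G) * c⁻¹)⁻¹ * ((c * (a : G) * c⁻¹ * (a : G)⁻¹) * a) := by group
        _ = (c * (b : G) * c⁻¹)⁻¹ * ((c * (b : G) * c⁻¹ * (b : G)⁻¹) * a) := by rw [h]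
        _ = _ := by group
    exact Subtype.ext (inv_mul_eq_one.mp (c_fix_one hb hm h1)).symm
  obtain ⟨w, hw⟩ := (Finite.injective_iff_surjective.mp hf) ⟨v, hv⟩
  exact ⟨w, w.2, congrArg Subtype.val hw⟩

/-- In the translation case the chain grows by one layer. -/
theorem grow (nc : ∀ x ∈ Q, c * x * c⁻¹ ∈ Q) (hout : ∀ g ∈ nor hb hl, g * t * g⁻¹ ∉ Q)
    (htl : ∀ q ∈ Q, ∃ g ∈ nor hb hl, q⁻¹ * cm t g ∈ Q₁ ∧ ∀ x ∈ Q, x⁻¹ * (g * x * g⁻¹) ∈ Q₁) :
    ∃ (c' : G) (Qn : Subgroup G), Two H V t c' n Qn Q Q₁ m ∧ Nat.card Q < Nat.card Qn := by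
  classical
  haveI : Fact (Nat.Prime 2) := ⟨Nat.prime_two⟩
  have htr : ∀ q ∈ Q, ∃ g ∈ nor hb hl, q⁻¹ * cm t g ∈ Q₁ := fun q hq => by
    obtain ⟨g, hg, h1, -⟩ := htl q hq; exact ⟨g, hg, h1⟩
  have hnQ := fun {g x : G} (hg : g ∈ nor hb hl) (hx : x ∈ Q) =>
    nor_Q hb hl nc hout htr hg hx
  let L : Subgroup G :=
    { carrier := {g | g ∈ nor hb hl ∧ ∀ x ∈ Q, x⁻¹ * (g * x * g⁻¹) ∈ Q₁}
      one_mem' := ⟨one_mem _, fun x _ => by simp⟩
      mul_mem' := fun {a b} ha hb' => ⟨mul_mem ha.1 hb'.1, fun x hx => by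
        have e : x⁻¹ * (a * b * x * (a * b)⁻¹) = (x⁻¹ * (b * x * b⁻¹)) *
            ((b * x * b⁻¹)⁻¹ * (a * (b * x * b⁻¹) * a⁻¹)) := by group
        rw [e]; exact mul_mem (hb'.2 x hx) (ha.2 _ (hnQ hb'.1 hx))⟩
      inv_mem' := fun {a} ha => ⟨inv_mem ha.1, fun x hx => by
        have h := inv_mem (ha.2 _ (hnQ (inv_mem ha.1) hx))
        convert h using 1
        group⟩ }
  have hLn : L ≤ nor hb hl := fun g hg => hg.1
  have hPL : ext hb hl ≤ L := fun p hp => ⟨ext_le_nor hb hl hp, fun x hx => by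
    have := comm_mem hb hl (inv_mem (le_ext hb hl hx)) hp
    convert this using 1
    group⟩
  have hcN := c_mem_nor hb hl nc
  obtain ⟨R, hPR, hRL, hRp, hRcard, hRmax, hRtr, hRfix⟩ := exists_cover hb hl hout hLn hPL
    (fun q hq => by obtain ⟨g, hg, h1, h2⟩ := htl q hq; exact ⟨g, ⟨hg, h2⟩, h1⟩)
  have hcL : ∀ g ∈ L, c * g * c⁻¹ ∈ L := fun g hg =>
    ⟨mul_mem (mul_mem hcN hg.1) (inv_mem hcN), fun x hx => by
      have h := nor_one hb hl hcN (hg.2 _ (hnQ (inv_mem hcN) hx))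
      convert h using 1
      group⟩
  -- a translate of `c` normalising `R`
  obtain ⟨κ, hκL, hκ⟩ : ∃ κ ∈ L, ∀ r ∈ R, κ * (c * r * c⁻¹) * κ⁻¹ ∈ R := by
    set R' := R.map (MulAut.conj c).toMonoidHom with hR'
    have hR'L : R' ≤ L := by
      rintro _ ⟨r, hr, rfl⟩; exact hcL r (hRL hr)
    obtain ⟨S', hS'⟩ := ((hRp.map (MulAut.conj c).toMonoidHom).of_equiv
      (subgroupOfEquivOfLe hR'L).symm).exists_le_sylow
    let SR : Sylow 2 ↥L :=
      ⟨R.subgroupOf L, hRp.of_equiv (subgroupOfEquivOfLe hRL).symm, fun {U} hU hle => by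
        have h1 := hRmax (U.map L.subtype) (map_subtype_le _) (hU.map _)
          (fun x hx => ⟨⟨x, hRL hx⟩, hle hx, rfl⟩)
        refine le_antisymm (fun x hx => ?_) hle
        exact mem_subgroupOf.mpr (h1 ▸ ⟨x, hx, rfl⟩)⟩
    obtain ⟨κ, hκ⟩ := MulAction.exists_smul_eq ↥L S' SR
    refine ⟨κ, κ.2, fun r hr => ?_⟩
    have h1 : (⟨c * r * c⁻¹, hcL r (hRL hr)⟩ : ↥L) ∈ (S' : Subgroup ↥L) := hS' ⟨r, hr, rfl⟩
    have h2 : κ * (⟨c * r * c⁻¹, hcL r (hRL hr)⟩ : ↥L) * κ⁻¹ ∈ (SR : Subgroup ↥L) := by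
      rw [← hκ, Sylow.coe_subgroup_smul]
      exact ⟨_, h1, rfl⟩
    exact h2
  have hκc : κ * c ∈ nor hb hl := mul_mem hκL.1 hcN
  obtain ⟨r₀, hr₀, hr₀c⟩ := hRtr _ (cm_mem hb hl hout hκc)
  have hr₀N := hLn (hRL hr₀)
  have hfx : cm t (r₀⁻¹ * (κ * c)) ∈ Q₁ := (phi_iff hb hl hout hκc hr₀N).mp
    ((phi_eq hb hl (cm_mem hb hl hout hr₀N) (cm_mem hb hl hout hκc)).mpr hr₀c).symm
  obtain ⟨q₀, hq₀, hq₀t⟩ := fix_adjust hb hl hfx
  set c' := q₀⁻¹ * (r₀⁻¹ * (κ * c)) with hc'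
  have hq₀R : q₀ ∈ R := hPR (le_ext hb hl hq₀)
  have hkL : q₀⁻¹ * r₀⁻¹ * κ ∈ L :=
    mul_mem (mul_mem (inv_mem (hRL hq₀R)) (inv_mem (hRL hr₀))) hκL
  have hc'N : c' ∈ nor hb hl := mul_mem (inv_mem (hLn (hRL hq₀R))) (mul_mem (inv_mem hr₀N) hκc)
  have hc'R : ∀ r ∈ R, c' * r * c'⁻¹ ∈ R := fun r hr => by
    have h1 := mul_mem (mul_mem (inv_mem hq₀R) (inv_mem hr₀)) (mul_mem (hκ r hr)
      (mul_mem hr₀ hq₀R))
    convert h1 using 1
    rw [hc']; group
  have hc'Q : ∀ x ∈ Q, (cm t)^[m] (c' * x * c'⁻¹) = (cm t)^[m] (c * x * c⁻¹) := by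
    intro x hx
    refine (phi_eq hb hl (hnQ hc'N hx) (nc x hx)).mpr ?_
    have := hkL.2 _ (nc x hx)
    convert this using 1
    rw [hc']; group
  have hact : ∀ v ∈ V, c' * v * c'⁻¹ = c * v * c⁻¹ := by
    intro v hv
    obtain ⟨x, hx, rfl⟩ := hl.onto v hv
    rw [← iter_cm_conj hq₀t, ← iter_cm_conj hb.c_comm, hc'Q x hx]
  have hpow : ∀ i : ℕ, ∀ v ∈ V, c ^ i * v * (c ^ i)⁻¹ ∈ V ∧
      c' ^ i * v * (c' ^ i)⁻¹ = c ^ i * v * (c ^ i)⁻¹ := by
    intro i
    induction i with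
    | zero => intro v hv; simp [hv]
    | succ i ih =>
      intro v hv
      have h1 := ih _ (hb.c_norm v hv)
      rw [pow_succ c, pow_succ c', conj_comp, conj_comp, hact v hv]
      exact h1
  have hb' : Base H V t c' n :=
    { hb with
      c_mem := hc'N.1
      c_comm := hq₀t
      c_norm := fun v hv => by rw [hact v hv]; exact hb.c_norm v hv
      trans := fun a ha b hb'' ha1 hb1 => by
        obtain ⟨i, hi⟩ := hb.trans a ha b hb'' ha1 hb1
        exact ⟨i, by rw [(hpow i a ha).2]; exact hi⟩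
      norm_c := fun g hg hgt hgV => by
        obtain ⟨i, hi⟩ := hb.norm_c g hg hgt hgV
        refine ⟨i, fun x hx => ?_⟩
        have hx' : g⁻¹ * x * g ∈ V := by
          let φ : ↥V → ↥V := fun w => ⟨g * (w : G) * g⁻¹, hgV _ w.2⟩
          have hφ : Function.Injective φ := fun a b hab =>
            Subtype.ext (conj_inj (congrArg Subtype.val hab))
          obtain ⟨w, hw⟩ := (Finite.injective_iff_surjective.mp hφ) ⟨x, hx⟩
          have hwx : g * (w : G) * g⁻¹ = x := congrArg Subtype.val hw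
          rw [← hwx]
          convert w.2 using 1
          group
        rw [(hpow i x hx).2, ← hi x hx]
        calc g * c' * g⁻¹ * x * (g * c' * g⁻¹)⁻¹ = g * (c' * (g⁻¹ * x * g) * c'⁻¹) * g⁻¹ := by
              group
          _ = g * (c * (g⁻¹ * x * g) * c⁻¹) * g⁻¹ := by rw [hact _ hx']
          _ = _ := by group }
  -- `R / Q` is elementary abelian
  have hψ : ∀ a ∈ R, ∀ b ∈ R,
      (cm t)^[m] (cm t (a * b)) = (cm t)^[m] (cm t a) * (cm t)^[m] (cm t b) := by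
    intro a ha b hb''
    have hbN := cm_mem hb hl hout (hLn (hRL hb''))
    have haN := hLn (hRL ha)
    rw [cm_mul, hl.hom _ (cm_mem hb hl hout haN) _ (hnQ haN hbN)]
    congr 1
    exact (phi_eq hb hl (hnQ haN hbN) hbN).mpr ((hRL ha).2 _ hbN)
  have hPψ : ∀ p ∈ ext hb hl, (cm t)^[m] (cm t p) = 1 := fun p hp => by
    have := comm_mem hb hl (t_mem_ext hb hl) hp
    exact (hl.kern _ (hl.le_one this)).mpr this
  have hRψ : ∀ a ∈ R, ∀ b ∈ R, (cm t)^[m] (cm t a) = (cm t)^[m] (cm t b) →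
      b⁻¹ * a ∈ ext hb hl := fun a ha b hb'' h =>
    hRfix _ (mul_mem (inv_mem hb'') ha)
      ((phi_iff hb hl hout (hLn (hRL ha)) (hLn (hRL hb''))).mp h)
  have hsqR : ∀ r ∈ R, r * r ∈ Q := by
    intro r hr
    have hrN := hLn (hRL hr)
    have hm := cm_mem hb hl hout hrN
    have h2 : cm t (r * r) ∈ Q₁ := by
      have e : cm t (r * r) = (cm t r * cm t r) * ((cm t r)⁻¹ * (r * cm t r * r⁻¹)) := by
        rw [cm_mul]; group
      rw [e]; exact mul_mem (hl.sq _ hm) ((hRL hr).2 _ hm)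
    have hrr := hRfix _ (mul_mem hr hr) h2
    by_contra hnQ'
    have hq := out_mem hb hl hrr hnQ'
    set q := t * (r * r) with hqdef
    have htq : r * r = t * q := by rw [hqdef, ← mul_assoc, hb.t_sq, one_mul]
    have h3 : cm t r = q * (q⁻¹ * (r * q * r⁻¹))⁻¹ * q⁻¹ := by
      have e1 : r * (t * q) * r⁻¹ = t * q := by rw [← htq]; group
      have e2 : t * cm t r * (r * q * r⁻¹) = t * q := by
        rw [← conj_eq hb hl r, ← e1]; group
      have e3 : cm t r * (r * q * r⁻¹) = q := by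
        rw [mul_assoc] at e2; exact mul_left_cancel e2
      calc cm t r = (cm t r * (r * q * r⁻¹)) * (r * q * r⁻¹)⁻¹ := by group
        _ = q * (r * q * r⁻¹)⁻¹ := by rw [e3]
        _ = _ := by group
    have h4 : cm t r ∈ Q₁ := by
      rw [h3]; exact hl.n_one _ hq _ (inv_mem ((hRL hr).2 _ hq))
    exact hnQ' (hl.le_one (sq_mem hb hl (hRfix r hr h4)))
  have hQR : Q ≤ R := (le_ext hb hl).trans hPR
  haveI hnorm : (Q.subgroupOf R).Normal := ⟨fun x hx g => hnQ (hLn (hRL g.2)) hx⟩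
  have hcom : ∀ a b : ↥R ⧸ Q.subgroupOf R, a * b = b * a := by
    have hs : ∀ a : ↥R ⧸ Q.subgroupOf R, a * a = 1 := by
      intro a
      induction a using QuotientGroup.induction_on with
      | H a =>
        rw [← QuotientGroup.mk_mul, QuotientGroup.eq_one_iff]
        exact hsqR _ a.2
    have hi : ∀ a : ↥R ⧸ Q.subgroupOf R, a⁻¹ = a := fun a => inv_eq_of_mul_eq_one_right (hs a)
    intro a b
    rw [← hi (a * b), mul_inv_rev, hi, hi]
  letI : CommGroup (↥R ⧸ Q.subgroupOf R) :=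
    { (inferInstance : Group (↥R ⧸ Q.subgroupOf R)) with mul_comm := hcom }
  let mk' := QuotientGroup.mk' (Q.subgroupOf R)
  let cR : ↥R →* ↥R :=
    { toFun := fun r => ⟨c' * (r : G) * c'⁻¹, hc'R _ r.2⟩
      map_one' := Subtype.ext (by simp)
      map_mul' := fun a b => Subtype.ext (by simp [mul_assoc]) }
  let φ : ↥R →* ↥R ⧸ Q.subgroupOf R :=
    { toFun := fun r => mk' (cR r) * (mk' r)⁻¹
      map_one' := by simp
      map_mul' := fun a b => by
        rw [map_mul, map_mul, map_mul, mul_inv, mul_mul_mul_comm] }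
  set Qn : Subgroup G := (φ.range.comap mk').map R.subtype with hQn
  have hmem : ∀ {x : G} (hx : x ∈ R), x ∈ Qn ↔ mk' ⟨x, hx⟩ ∈ φ.range := by
    intro x hx
    constructor
    · rintro ⟨y, hy, e⟩
      rwa [show (⟨x, hx⟩ : ↥R) = y from Subtype.ext e.symm]
    · exact fun h => ⟨⟨x, hx⟩, h, rfl⟩
  have hQnR : Qn ≤ R := map_subtype_le _
  have hQQn : Q ≤ Qn := fun x hx => (hmem (hQR hx)).mpr (by
    have h : mk' ⟨x, hQR hx⟩ = 1 := (QuotientGroup.eq_one_iff _).mpr hx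
    rw [h]
    exact one_mem _)
  have htR : t ∈ R := hPR (t_mem_ext hb hl)
  have hc'Qn : ∀ x ∈ Qn, c' * x * c'⁻¹ ∈ Qn := by
    intro x hx
    obtain ⟨r, hr⟩ := (hmem (hQnR hx)).mp hx
    refine (hmem (hc'R x (hQnR hx))).mpr ⟨cR r, ?_⟩
    have e1 : mk' ⟨x, hQnR hx⟩ = mk' (cR r * r⁻¹) := by rw [map_mul, map_inv]; exact hr.symm
    have e3 := QuotientGroup.eq.mp e1
    rw [mem_subgroupOf] at e3
    change mk' (cR (cR r)) * (mk' (cR r))⁻¹ = mk' ⟨c' * x * c'⁻¹, _⟩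
    rw [← map_inv, ← map_mul]
    refine (QuotientGroup.eq.mpr ?_).symm
    rw [mem_subgroupOf]
    have := hnQ hc'N e3
    convert this using 1
    simp [cR, mul_assoc]
  have hnormQn : ∀ r ∈ R, ∀ x ∈ Qn, r * x * r⁻¹ ∈ Qn := by
    intro r hr x hx
    refine (hmem (mul_mem (mul_mem hr (hQnR hx)) (inv_mem hr))).mpr ?_
    rw [show (⟨r * x * r⁻¹, _⟩ : ↥R) = ⟨r, hr⟩ * ⟨x, hQnR hx⟩ * (⟨r, hr⟩ : ↥R)⁻¹ from rfl,
      map_mul, map_mul, map_inv, mul_inv_cancel_comm]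
    exact (hmem (hQnR hx)).mp hx
  have htQn : t ∉ Qn := by
    intro h
    obtain ⟨r, hr⟩ := (hmem htR).mp h
    have e1 : mk' ⟨t, htR⟩ = mk' (cR r * r⁻¹) := by rw [map_mul, map_inv]; exact hr.symm
    have e3 : t⁻¹ * (c' * (r : G) * c'⁻¹ * (r : G)⁻¹) ∈ Q :=
      (QuotientGroup.eq (s := Q.subgroupOf R) (a := ⟨t, htR⟩) (b := cR r * r⁻¹)).mp e1
    have hk : c' * (r : G) * c'⁻¹ * (r : G)⁻¹ ∈ ext hb hl := by
      have := mul_mem (t_mem_ext hb hl) (le_ext hb hl e3)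
      rwa [mul_inv_cancel_left] at this
    have h1 := hψ _ (hPR hk) _ r.2
    rw [inv_mul_cancel_right, hPψ _ hk, one_mul, cm_conj hq₀t, iter_cm_conj hq₀t] at h1
    have hv := hl.maps _ (cm_mem hb hl hout (hLn (hRL r.2)))
    rw [hact _ hv] at h1
    have h2 := c_fix_one hb hv h1
    have hrP := hRfix _ r.2 ((hl.kern _ (cm_mem hb hl hout (hLn (hRL r.2)))).mp h2)
    have hkQ : c' * (r : G) * c'⁻¹ * (r : G)⁻¹ ∈ Q := by
      rcases hrP with hq | hq
      · exact mul_mem (hnQ hc'N hq) (inv_mem hq)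
      · have := hl.nt _ (mul_mem (hnQ hc'N hq) (inv_mem hq))
        convert this using 1
        calc c' * (r : G) * c'⁻¹ * (r : G)⁻¹
            = (c' * t⁻¹ * c'⁻¹) * (c' * (t * r) * c'⁻¹) * (t * r)⁻¹ * t := by group
          _ = (c' * t * c'⁻¹) * (c' * (t * r) * c'⁻¹) * (t * r)⁻¹ * t⁻¹ := by rw [hb.t_inv]
          _ = _ := by rw [hq₀t]; group
    have h5 := mul_mem hkQ (inv_mem e3)
    rw [show ∀ k : G, k * (t⁻¹ * k)⁻¹ = t from fun k => by group] at h5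
    exact hl.t_notMem h5
  have hcases : ∀ r ∈ R, r ∈ Qn ∨ t * r ∈ Qn := by
    intro r hr
    have hv := hl.maps _ (cm_mem hb hl hout (hLn (hRL hr)))
    obtain ⟨w, hw, hwv⟩ := c_surj hb hv
    obtain ⟨y, hy, hyw⟩ := hl.onto w hw
    obtain ⟨r', hr', hr'y⟩ := hRtr y hy
    have hr'w : (cm t)^[m] (cm t r') = w :=
      ((phi_eq hb hl (cm_mem hb hl hout (hLn (hRL hr'))) hy).mpr hr'y).trans hyw
    set k := c' * r' * c'⁻¹ * r'⁻¹ with hk
    have hkR : k ∈ R := mul_mem (hc'R r' hr') (inv_mem hr')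
    have hkQn : k ∈ Qn := (hmem hkR).mpr ⟨⟨r', hr'⟩, by
      change mk' (cR ⟨r', hr'⟩) * (mk' ⟨r', hr'⟩)⁻¹ = _
      rw [← map_inv, ← map_mul]; rfl⟩
    have h1 := hψ k hkR r' hr'
    rw [show k * r' = c' * r' * c'⁻¹ by rw [hk]; group, cm_conj hq₀t, iter_cm_conj hq₀t, hr'w,
      hact w hw] at h1
    have h2 : (cm t)^[m] (cm t r) = (cm t)^[m] (cm t k) := by
      rw [← hwv, h1, mul_inv_cancel_right]
    rcases hRψ r hr k hkR h2 with hq | hq
    · left
      have := mul_mem hkQn (hQQn hq)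
      rwa [mul_inv_cancel_left] at this
    · right
      have := mul_mem (hnormQn t htR k hkQn) (hQQn hq)
      convert this using 1
      group
  have hQnP : ∀ x ∈ Qn, x ∈ ext hb hl → x ∈ Q := by
    intro x hx hxP
    by_contra hxQ
    have h := mul_mem (hQQn (out_mem hb hl hxP hxQ)) (inv_mem hx)
    rw [mul_inv_cancel_right] at h
    exact htQn h
  have hQntr : ∀ q ∈ Q, ∃ x ∈ Qn, q⁻¹ * cm t x ∈ Q₁ := by
    intro q hq
    obtain ⟨r, hr, hrq⟩ := hRtr q hq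
    rcases hcases r hr with h | h
    · exact ⟨r, h, hrq⟩
    · refine ⟨t * r, h, ?_⟩
      have hm := cm_mem hb hl hout (hLn (hRL hr))
      have e : q⁻¹ * cm t (t * r)
          = (q⁻¹ * cm t r) * ((cm t r)⁻¹ * (t * cm t r * t⁻¹)) := by
        rw [cm_mul, cm_eq_one.mpr (by group : t * t * t⁻¹ = t)]; group
      rw [e]
      exact mul_mem hrq ((hRL htR).2 _ hm)
  have hΦ : ∀ x : G, (cm t)^[m + 1] x = (cm t)^[m] (cm t x) := fun x =>
    Function.iterate_succ_apply _ _ _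
  have htop : Layer H V t Qn Q (m + 1) :=
    { le_one := hQQn
      leH := hQnR.trans (hRL.trans (hLn.trans inf_le_left))
      pQ := hRp.to_le hQnR
      V_le := hl.V_le.trans hQQn
      t_notMem := htQn
      nt := fun x hx => hnormQn t htR x hx
      n_one := fun x hx y hy => hnQ (hLn (hRL (hQnR hx))) hy
      sq := fun x hx => hsqR x (hQnR hx)
      cent := fun x hx e => hl.cent x (hQnP x hx (hRfix x (hQnR hx)
        (by rw [cm_eq_one.mpr e]; exact one_mem _))) e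
      fmem := fun x hx => cm_mem hb hl hout (hLn (hRL (hQnR hx)))
      surj := fun y hy => by
        obtain ⟨x, hx, hxy⟩ := hQntr y hy
        have h1 := nor_one hb hl (inv_mem (hLn (hRL (hQnR hx)))) (inv_mem hxy)
        obtain ⟨q, hq, hqy⟩ := hl.surj _ h1
        refine ⟨x * q, mul_mem hx (hQQn hq), ?_⟩
        rw [cm_mul, hqy]; group
      maps := fun x hx => by
        rw [hΦ]; exact hl.maps _ (cm_mem hb hl hout (hLn (hRL (hQnR hx))))
      hom := fun x hx y hy => by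
        rw [hΦ, hΦ, hΦ]; exact hψ x (hQnR hx) y (hQnR hy)
      kern := fun x hx => by
        rw [hΦ, hl.kern _ (cm_mem hb hl hout (hLn (hRL (hQnR hx))))]
        exact ⟨fun h => hQnP x hx (hRfix x (hQnR hx) h), fun h => hl.fmem x h⟩
      onto := fun v hv => by
        obtain ⟨q, hq, hqv⟩ := hl.onto v hv
        obtain ⟨x, hx, hxq⟩ := hQntr q hq
        refine ⟨x, hx, ?_⟩
        rw [hΦ, (phi_eq hb hl (cm_mem hb hl hout (hLn (hRL (hQnR hx)))) hq).mpr hxq, hqv] }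
  refine ⟨c', Qn, ⟨hb', htop, hl, hc'Qn, ?_⟩, ?_⟩
  rotate_left
  · rw [card_eq hb htop]
    have h4 : 2 ^ 2 ≤ 2 ^ n := Nat.pow_le_pow_right (by norm_num) hb.two_le
    have : 0 < Nat.card Q := Nat.card_pos
    nlinarith
  -- commutators fall into `Q₁`
  have hcomQ : ∀ x ∈ Qn, ∀ y ∈ Qn, x * y * x⁻¹ * y⁻¹ ∈ Q := by
    intro x hx y hy
    set a : ↥R := ⟨x, hQnR hx⟩ with hadef
    set b : ↥R := ⟨y, hQnR hy⟩ with hbdef
    set z : ↥R := a * b * a⁻¹ * b⁻¹ with hzdef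
    have e : mk' z = 1 := by
      rw [hzdef, map_mul, map_mul, map_mul, map_inv, map_inv, mul_inv_cancel_comm, mul_inv_cancel]
    exact mem_subgroupOf.mp ((QuotientGroup.eq_one_iff z).mp e)
  have hBl : ∀ x ∈ Qn, ∀ y ∈ Qn, ∀ z ∈ Qn, (cm t)^[m] (x * y * z * (x * y)⁻¹ * z⁻¹) =
      (cm t)^[m] (x * z * x⁻¹ * z⁻¹) * (cm t)^[m] (y * z * y⁻¹ * z⁻¹) := by
    intro x hx y hy z hz
    have hxN := hLn (hRL (hQnR hx))
    have hyz := hcomQ y hy z hz
    have hxz := hcomQ x hx z hz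
    rw [show x * y * z * (x * y)⁻¹ * z⁻¹
        = (x * (y * z * y⁻¹ * z⁻¹) * x⁻¹) * (x * z * x⁻¹ * z⁻¹) by group,
      hl.hom _ (hnQ hxN hyz) _ hxz,
      (phi_eq hb hl (hnQ hxN hyz) hyz).mpr ((hRL (hQnR hx)).2 _ hyz),
      hb.commV (hl.maps _ hyz) (hl.maps _ hxz)]
  have hBs : ∀ x ∈ Qn, ∀ y ∈ Qn, (cm t)^[m] (y * x * y⁻¹ * x⁻¹) =
      (cm t)^[m] (x * y * x⁻¹ * y⁻¹) := by
    intro x hx y hy
    have hxy := hcomQ x hx y hy
    have h1 : (cm t)^[m] (x * y * x⁻¹ * y⁻¹) * (cm t)^[m] (y * x * y⁻¹ * x⁻¹) = 1 := by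
      rw [← hl.hom _ hxy _ (hcomQ y hy x hx), hl.kern _ (mul_mem hxy (hcomQ y hy x hx))]
      rw [show x * y * x⁻¹ * y⁻¹ * (y * x * y⁻¹ * x⁻¹) = 1 by group]
      exact one_mem _
    rw [eq_inv_of_mul_eq_one_right h1]
    exact inv_eq_of_mul_eq_one_right (hb.sq _ (hl.maps _ hxy))
  have hBq : ∀ q ∈ Q, ∀ z ∈ Qn, (cm t)^[m] (q * z * q⁻¹ * z⁻¹) = 1 := by
    intro q hq z hz
    refine (hl.kern _ (hcomQ q (hQQn hq) z hz)).mpr ?_
    have := (hRL (hQnR hz)).2 _ (inv_mem hq)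
    convert this using 1
    group
  choose sec hsec hsecv using fun v : ↥V => htop.onto v.1 v.2
  have hdiff : ∀ x ∈ Qn, ∀ y ∈ Qn, (cm t)^[m + 1] x = (cm t)^[m + 1] y → y⁻¹ * x ∈ Q :=
    fun x hx y hy h => (phi_eq hb htop hx hy).mp h
  have hB2 : ∀ x ∈ Qn, ∀ x' ∈ Qn, ∀ z ∈ Qn, (cm t)^[m + 1] x = (cm t)^[m + 1] x' →
      (cm t)^[m] (x * z * x⁻¹ * z⁻¹) = (cm t)^[m] (x' * z * x'⁻¹ * z⁻¹) := by
    intro x hx x' hx' z hz h
    have hq := hdiff x hx x' hx' h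
    have h1 := hBl x' hx' _ (hQQn hq) z hz
    rw [mul_inv_cancel_left, hBq _ hq z hz, mul_one] at h1
    exact h1
  let β : ↥V → ↥V → ↥V := fun v w =>
    ⟨(cm t)^[m] (sec v * sec w * (sec v)⁻¹ * (sec w)⁻¹),
      hl.maps _ (hcomQ _ (hsec v) _ (hsec w))⟩
  have hβ : ∀ x (hx : x ∈ Qn) y (hy : y ∈ Qn), (β ⟨_, htop.maps x hx⟩ ⟨_, htop.maps y hy⟩ : G) =
      (cm t)^[m] (x * y * x⁻¹ * y⁻¹) := by
    intro x hx y hy
    simp only [β]
    rw [hB2 _ (hsec _) x hx _ (hsec _) (hsecv _), ← hBs _ hx _ (hsec _),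
      hB2 _ (hsec _) y hy x hx (hsecv _), hBs _ hx _ hy]
  haveI : Finite ↥V := inferInstance
  letI : CommGroup ↥V :=
    { (inferInstance : Group ↥V) with
      mul_comm := fun a b => Subtype.ext (hb.commV a.2 b.2) }
  let cV : MulAut ↥V := MulEquiv.ofBijective
    ({ toFun := fun v => ⟨c * (v : G) * c⁻¹, hb.c_norm _ v.2⟩
       map_one' := Subtype.ext (by simp)
       map_mul' := fun a b => Subtype.ext (by simp [mul_assoc]) } : ↥V →* ↥V)
    (Finite.injective_iff_bijective.mp fun a b h =>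
      Subtype.ext (conj_inj (congrArg Subtype.val h)))
  have hcVpow : ∀ i : ℕ, ∀ v : ↥V, (((cV ^ i) v : ↥V) : G) = c ^ i * (v : G) * (c ^ i)⁻¹ := by
    intro i
    induction i with
    | zero => intro v; simp
    | succ i ih =>
      intro v
      rw [pow_succ, MulAut.mul_apply, ih, pow_succ, conj_comp]
      rfl
  have hzero := JTField62.alternating_equivariant hb.two_le hb.card_V
    (fun v => Subtype.ext (hb.sq _ v.2)) cV (fun a b ha hb'' => by
      obtain ⟨i, hi⟩ := hb.trans _ a.2 _ b.2 (fun e => ha (Subtype.ext e))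
        (fun e => hb'' (Subtype.ext e))
      exact ⟨i, Subtype.ext (by rw [hcVpow]; exact hi)⟩) β
    (fun u v w => by
      obtain ⟨x, hx, hxu⟩ := htop.onto _ u.2
      obtain ⟨y, hy, hyv⟩ := htop.onto _ v.2
      obtain ⟨z, hz, hzw⟩ := htop.onto _ w.2
      have hxyuv : (cm t)^[m + 1] (x * y) = ((u * v : ↥V) : G) := by
        rw [htop.hom x hx y hy, hxu, hyv]; rfl
      have h1 := hβ (x * y) (mul_mem hx hy) z hz
      have h2 := hβ x hx z hz
      have h3 := hβ y hy z hz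
      simp only [hxyuv, hxu, hyv, hzw] at h1 h2 h3
      refine Subtype.ext ?_
      rw [coe_mul, h1, h2, h3]
      exact hBl x hx y hy z hz)
    (fun u v w => by
      obtain ⟨x, hx, hxu⟩ := htop.onto _ u.2
      obtain ⟨y, hy, hyv⟩ := htop.onto _ v.2
      obtain ⟨z, hz, hzw⟩ := htop.onto _ w.2
      have hyzvw : (cm t)^[m + 1] (y * z) = ((v * w : ↥V) : G) := by
        rw [htop.hom y hy z hz, hyv, hzw]; rfl
      have h1 := hβ x hx (y * z) (mul_mem hy hz)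
      have h2 := hβ x hx y hy
      have h3 := hβ x hx z hz
      simp only [hyzvw, hxu, hyv, hzw] at h1 h2 h3
      refine Subtype.ext ?_
      rw [coe_mul, h1, h2, h3, ← hBs _ hx _ (mul_mem hy hz), hBl y hy z hz x hx, hBs _ hx _ hy,
        hBs _ hx _ hz])
    (fun u => by
      refine Subtype.ext ((hl.kern _ (hcomQ _ (hsec u) _ (hsec u))).mpr ?_)
      simp)
    (fun u v => by
      obtain ⟨x, hx, hxu⟩ := htop.onto _ u.2
      obtain ⟨y, hy, hyv⟩ := htop.onto _ v.2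
      have hcu : ∀ (a : G) (w : ↥V), (cm t)^[m + 1] a = (w : G) →
          (cm t)^[m + 1] (c' * a * c'⁻¹) = ((cV w : ↥V) : G) := fun a w h => by
        rw [iter_cm_conj hq₀t, h, hact _ w.2]; rfl
      have h1 := hβ _ (hc'Qn x hx) _ (hc'Qn y hy)
      have h2 := hβ x hx y hy
      simp only [hcu x u hxu, hcu y v hyv] at h1
      simp only [hxu, hyv] at h2
      refine Subtype.ext ?_
      rw [h1]
      change _ = c * _ * c⁻¹
      rw [h2, ← hact _ (hl.maps _ (hcomQ x hx y hy)), ← iter_cm_conj hq₀t]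
      congr 1
      group)
  intro x hx y hy
  refine (hl.kern _ (hcomQ x hx y hy)).mp ?_
  rw [← hβ x hx y hy, hzero]
  rfl

/-- One step of the chain. -/
theorem step (nc : ∀ x ∈ Q, c * x * c⁻¹ ∈ Q) (hout : ∀ g ∈ nor hb hl, g * t * g⁻¹ ∉ Q) :
    (∀ R : Subgroup G, R ≤ H → IsPGroup 2 R → Q ≤ R → t ∈ R → Nat.card R ≤ 2 * Nat.card Q) ∨
    (∃ (c' : G) (Qn : Subgroup G), Two H V t c' n Qn Q Q₁ m ∧ Nat.card Q < Nat.card Qn) ∨
    (n = 3 ∧ ∃ R : Subgroup G, Three H V t Q Q₁ R) := by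
  by_cases hmov : ∀ g ∈ nor hb hl, cm t g ∈ Q₁
  · left
    intro R hR hRp hQR htR
    have hle : ext hb hl ≤ R := by
      rintro x (hx | hx)
      · exact hQR hx
      · have := mul_mem (inv_mem htR) (hQR hx)
        rwa [inv_mul_cancel_left] at this
    rw [max_of_fixed hb hl hmov R hR hRp hle, card_ext hb hl]
  · push Not at hmov
    obtain ⟨g₀, hg₀, h0⟩ := hmov
    have htr : ∀ q ∈ Q, ∃ g ∈ nor hb hl, q⁻¹ * cm t g ∈ Q₁ := fun q hq =>
      trans_of_moved hb hl nc hout hg₀ h0 hq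
    rcases dichotomy hb hl nc hout htr with htl | ⟨hn, hf⟩
    · exact Or.inr (Or.inl (grow hb hl nc hout htl))
    · refine Or.inr (Or.inr ⟨hn, ?_⟩)
      obtain ⟨R, hPR, hRL, hRp, hRcard, hRmax, hRtr, hRfix⟩ :=
        exists_cover hb hl hout le_rfl (ext_le_nor hb hl) htr
      exact ⟨R,
        { t_mem := hPR (t_mem_ext hb hl)
          le := (le_ext hb hl).trans hPR
          leH := hRL.trans inf_le_left
          pR := hRp
          card := by rw [hRcard, card_ext hb hl, hn]; ring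
          norm := fun r hr x hx => nor_Q hb hl nc hout htr (hRL hr) hx
          norm_one := fun r hr x hx => nor_one hb hl (hRL hr) hx
          norm_t := fun r hr => cm_mem hb hl hout (hRL hr)
          trans := hRtr
          faith := fun r hr h => hRfix r hr (hf r (hRL hr) h)
          fix := fun r hr h => hRfix r hr h
          max := fun R' hp hH hle hn' =>
            hRmax R' (fun r hr => mem_nor hb hl (hH hr) (hn' r hr)) hp hle }⟩

omit hl

/-- No conjugate of `t` under the normaliser lies in `Q`, for chains of length at least two. -/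
theorem two_out {Q₂ : Subgroup G} (h : Two H V t c n Q Q₁ Q₂ m) :
    ∀ g ∈ nor h.base h.top, g * t * g⁻¹ ∉ Q := by
  intro g hg hu
  set u := g * t * g⁻¹ with hudef
  set C := Q ⊓ centralizer ({u} : Set G) with hC
  have h1 := h.base.bound (C.map (MulAut.conj g⁻¹).toMonoidHom) (by
      rintro _ ⟨x, hx, rfl⟩
      change g⁻¹ * x * g⁻¹⁻¹ ∈ H
      exact mul_mem (mul_mem (inv_mem hg.1) (h.top.leH hx.1)) (inv_mem (inv_mem hg.1)))
    ((h.top.pQ.to_le inf_le_left).map _) (by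
      rintro _ ⟨x, hx, rfl⟩
      change g⁻¹ * x * g⁻¹⁻¹ * t = t * (g⁻¹ * x * g⁻¹⁻¹)
      have e : x * u = u * x := mem_centralizer_singleton_iff.mp hx.2
      calc g⁻¹ * x * g⁻¹⁻¹ * t = g⁻¹ * (x * u) * g := by rw [hudef]; group
        _ = g⁻¹ * (u * x) * g := by rw [e]
        _ = _ := by rw [hudef]; group)
  rw [card_map_of_injective (K := C) (f := (MulAut.conj g⁻¹).toMonoidHom)
    (MulAut.conj g⁻¹).injective] at h1
  have h2 := (h.big hu).trans h1
  have h3 := (Nat.pow_le_pow_iff_right (show 1 < 2 by norm_num)).mp h2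
  have := h.base.two_le
  omega

/-- The end of the chain. -/
theorem chain (hout : ∀ g ∈ nor hb hb.layer, g * t * g⁻¹ ∉ V)
    (hmore : ∃ R : Subgroup G, R ≤ H ∧ IsPGroup 2 R ∧ V ≤ R ∧ t ∈ R ∧
      2 * Nat.card V < Nat.card R) :
    (n = 3 ∧ ∃ R : Subgroup G, Three H V t V ⊥ R) ∨
    ∃ (c' : G) (Q Q₁ Q₂ : Subgroup G) (m : ℕ), Two H V t c' n Q Q₁ Q₂ m ∧
      ((∀ R : Subgroup G, R ≤ H → IsPGroup 2 R → Q ≤ R → t ∈ R → Nat.card R ≤ 2 * Nat.card Q) ∨
        (n = 3 ∧ ∃ R : Subgroup G, Three H V t Q Q₁ R)) := by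
  classical
  obtain ⟨R₀, hR₀, hR₀p, hVR₀, htR₀, hlt⟩ := hmore
  rcases step hb hb.layer hb.c_norm hout with h | ⟨c', Qn, h, -⟩ | h
  · exact absurd (h R₀ hR₀ hR₀p hVR₀ htR₀) (not_le.mpr hlt)
  · right
    obtain ⟨N, ⟨c'', Q, Q₁, Q₂, m, hN, rfl⟩, hmax⟩ := Set.Finite.exists_maximal
      (s := {N : ℕ | ∃ (c' : G) (Q Q₁ Q₂ : Subgroup G) (m : ℕ),
        Two H V t c' n Q Q₁ Q₂ m ∧ Nat.card Q = N})
      ((Set.finite_le_nat (Nat.card G)).subset (by
        rintro N ⟨_, Q, _, _, _, -, rfl⟩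
        exact Nat.le_of_dvd Nat.card_pos Q.card_subgroup_dvd_card))
      ⟨_, c', Qn, V, ⊥, 0, h, rfl⟩
    refine ⟨c'', Q, Q₁, Q₂, m, hN, ?_⟩
    rcases step hN.base hN.top hN.nc (two_out hN.base hN) with h | ⟨c₃, Q₃, h₃, hlt₃⟩ | h
    · exact Or.inl h
    · exact absurd (hmax ⟨c₃, Q₃, Q, Q₁, m + 1, h₃, rfl⟩ hlt₃.le) (not_le.mpr hlt₃)
    · exact Or.inr h
  · exact Or.inl h

end Cfsg.Agent.JTGrow62
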