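import Cfsg.Agent.Lib.JTFour62
import Cfsg.Agent.Lib.JTGrow62
import Cfsg.Agent.Lib.JTDihReduce62

/-!
# A dihedral centraliser part of order 8 and a normal four-group of `S`
-/

set_option autoImplicit false
set_option linter.unusedSectionVars false

namespace Cfsg.Agent.JTEndDih62

open Subgroup
open JTPsl62 (mem_normalizer_of_conj)
open JTSetup62 (Loc LocHyp)
open JTDihedral62
open JTChain62 JTStep62 JTGrow62 JTFour62

variable {G : Type*} [Group G] [Finite G] {t : G} {T D : Subgroup G} {c b : G}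

/-- The four-group `⟨z, b⟩` and an element of order 3 on it centralising `t`. -/
theorem exists_fourCyc (h : DH t T D 2 c b) :
    ∃ a : G, a * t * a⁻¹ = t ∧ FourCyc (closure ({zz 2 c, b} : Set G)) (zz 2 c) b a := by
  have hbb := h.dih.gen.b_sq
  have hcm : b * zz 2 c = zz 2 c * b := z_central h (b_mem h)
  have hb1 : b ≠ 1 := fun e => h.dih.gen.b_notMem (e ▸ one_mem _)
  have hne : zz 2 c ≠ b := fun e => h.dih.gen.b_notMem (e ▸ npow_mem_zpowers c _)
  have hzD : zz 2 c ∈ D := z_mem h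
  have hbD : b ∈ D := h.dih.gen.b_mem
  obtain ⟨a, hat, haz, hab⟩ := h.dih.four _ hzD b hbD (orderOf_z h)
    (orderOf_eq_prime (p := 2) (by rw [sq, hbb]) hb1) hcm.symm hne
  refine ⟨a, hat, ⟨fun x => ⟨fun hx => ?_, fun hx => ?_⟩, z_sq h, hbb, z_ne_one h, hb1, hne, hcm,
    haz, by rw [hab, hcm]⟩⟩
  · induction hx using closure_induction with
    | mem x hx =>
      rcases hx with rfl | rfl
      · exact Or.inr (Or.inl rfl)
      · exact Or.inr (Or.inr (Or.inl rfl))
    | one => exact Or.inl rfl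
    | mul x y _ _ ex ey =>
      have e1 : zz 2 c * b = b * zz 2 c := hcm.symm
      have hzz := z_sq h
      rcases ex with e | e | e | e <;> rcases ey with e' | e' | e' | e' <;> rw [e, e'] <;>
        simp [mul_assoc, hzz, hbb, e1, ← mul_assoc (zz 2 c) b, ← mul_assoc b b]
    | inv x _ ex =>
      rcases ex with rfl | rfl | rfl | rfl
      · simp
      · exact Or.inr (Or.inl (z_inv h))
      · exact Or.inr (Or.inr (Or.inl (b_inv h)))
      · refine Or.inr (Or.inr (Or.inr ?_))
        rw [mul_inv_rev, z_inv h, b_inv h]; exact hcm.symm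
  · rcases hx with rfl | rfl | rfl | rfl
    · exact one_mem _
    · exact subset_closure (Or.inl rfl)
    · exact subset_closure (Or.inr rfl)
    · exact mul_mem (subset_closure (Or.inr rfl)) (subset_closure (Or.inl rfl))

/-- The final contradiction. -/
theorem four_normal [IsSimpleGroup G] (hG : ¬ IsMulCommutative G) (h : DH t T D 2 c b)
    (S : Sylow 2 G) (hTS : T ≤ (S : Subgroup G))
    (hbig : 4 * Nat.card T ≤ Nat.card ↥(S : Subgroup G))
    (hn : ∀ s ∈ (S : Subgroup G), ∀ v ∈ closure ({zz 2 c, b} : Set G),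
      s * v * s⁻¹ ∈ closure ({zz 2 c, b} : Set G)) : False := by
  classical
  haveI : Fact (Nat.Prime 2) := ⟨Nat.prime_two⟩
  obtain ⟨a, hat, hV⟩ := exists_fourCyc h
  set V := closure ({zz 2 c, b} : Set G) with hVdef
  set z := zz 2 c with hzdef
  have hzV := JTFour62.z_mem hV
  have hbV := JTFour62.b_mem hV
  have hVD : V ≤ D := (closure_le _).mpr (by
    rintro x (rfl | rfl)
    exacts [JTDihedral62.z_mem h, h.dih.gen.b_mem])
  have htt := tt h.loc
  have hcardT : Nat.card T = 16 := by rw [card_T' h]; norm_num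
  have hcardV : Nat.card V = 4 := card_four hV
  have hcS : c ∈ (S : Subgroup G) := hTS (c_mem h)
  have hcb : c * b * c⁻¹ ≠ b := by
    intro e
    have h1 := c_conj_bc h 0 1
    rw [zpow_one, zpow_zero, mul_one, e] at h1
    have h2 : c ^ ((0 : ℤ) - 2 * 1) = 1 := by
      rwa [eq_comm, mul_eq_left] at h1
    rw [cpow_one_iff h] at h2
    norm_num at h2
  have hzfix : ∀ s ∈ (S : Subgroup G), s * z * s⁻¹ = z := by
    intro s hs
    have hcz : c * z * c⁻¹ = z := conj_of_commute (z_central h (c_mem h))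
    by_cases hsV : ∀ v ∈ V, s * v * s⁻¹ = v
    · exact hsV z hzV
    · have h1 := mul_cent hV S.isPGroup' hn hcS hs (fun e => hcb (e b hbV)) hsV z hzV
      rw [conj_comp] at h1
      exact conj_inj (h1.trans hcz.symm)
  have hzt : ¬ IsConj t z := by
    intro e
    have h1 := card_le_conj h.loc S.isPGroup' e (fun s hs => commute_of_conj (hzfix s hs))
    omega
  have hVt : ∀ v ∈ V, ¬ IsConj t v := by
    intro v hv e
    by_cases hv1 : v = 1
    · subst hv1
      obtain ⟨g, hg⟩ := isConj_iff.mp e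
      have := h.loc.orderOf_t
      rw [conj_eq_one_iff.mp hg, orderOf_one] at this
      omega
    · obtain ⟨i, hi⟩ := trans_four hV hv hzV hv1 (z_ne_one h)
      exact hzt (e.trans (isConj_iff.mpr ⟨_, hi⟩))
  have hbt : ∀ x ∈ V, t * x * t⁻¹ = x := fun x hx => t_conj h.loc (h.loc.D_le (hVD hx))
  set H := cycStab hV with hH
  have htH : t ∈ H := mem_cycStab_cent hV hbt
  have hb : Base H V t a 2 :=
    { two_le := le_rfl
      card_V := by rw [hcardV]; norm_num
      sq := fun x hx => sq_one hV hx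
      t_sq := htt
      t_notMem := fun e => h.loc.t_notMem (hVD e)
      t_mem := htH
      V_le := V_le_cycStab hV
      comm := hbt
      c_mem := a_mem_cycStab hV
      c_comm := hat
      c_norm := fun x hx => a_mem hV hx
      trans := fun x hx y hy hx1 hy1 => trans_four hV hx hy hx1 hy1
      norm_c := fun g hg _ hgV => by
        refine ⟨1, fun x hx => ?_⟩
        obtain ⟨i, hi⟩ := hg
        obtain ⟨w, hw, rfl⟩ : ∃ w ∈ V, g * w * g⁻¹ = x := by
          let φ : ↥V → ↥V := fun w => ⟨g * (w : G) * g⁻¹, hgV _ w.2⟩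
          obtain ⟨w, hw⟩ := ((Finite.injective_iff_surjective (f := φ)).mp fun p q e =>
            Subtype.ext (conj_inj (congrArg Subtype.val e))) ⟨x, hx⟩
          exact ⟨w, w.2, congrArg Subtype.val hw⟩
        rw [pow_one]
        calc g * a * g⁻¹ * (g * w * g⁻¹) * (g * a * g⁻¹)⁻¹ = g * (a * w * a⁻¹) * g⁻¹ := by group
          _ = a ^ i * (a * w * a⁻¹) * (a ^ i)⁻¹ := hi _ (a_mem hV hw)
          _ = a * (a ^ i * w * (a ^ i)⁻¹) * a⁻¹ := by
              rw [← conj_comp, ← conj_comp, ← pow_succ, ← pow_succ']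
          _ = _ := by rw [hi w hw]
      bound := fun P hPH hP hc => by
        have hcent : ∀ p ∈ P, ∀ v ∈ V, p * v * p⁻¹ = v := fun p hp => cent_of_two hV hP hPH hp
        have hVp : IsPGroup 2 V := (h.loc.pT).to_le (hVD.trans h.loc.D_le)
        have hPV : IsPGroup 2 (V ⊔ P : Subgroup G) :=
          IsPGroup.to_sup_of_normal_left' hVp hP (fun p hp => mem_normalizer_of_conj fun v hv => by
            rw [hcent p hp v hv]; exact hv)
        have hc' : ∀ x ∈ V ⊔ P, x * t = t * x := by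
          intro x hx
          have hle : V ⊔ P ≤ centralizer ({t} : Set G) := sup_le
            (fun v hv => mem_centralizer_singleton_iff.mpr (commute_of_conj (hbt v hv)).symm)
            (fun p hp => mem_centralizer_singleton_iff.mpr (hc p hp))
          exact mem_centralizer_singleton_iff.mp (hle hx)
        by_contra hlt
        push Not at hlt
        have h8 : 16 ≤ Nat.card P := by
          obtain ⟨j, hj⟩ := IsPGroup.iff_card.mp hP
          rw [hj] at hlt ⊢
          have := (Nat.pow_lt_pow_iff_right (show 1 < 2 by norm_num)).mp hlt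
          calc 16 = 2 ^ 4 := by norm_num
            _ ≤ _ := Nat.pow_le_pow_right (by norm_num) (by omega)
        obtain ⟨g, hgt, hgT⟩ := h.loc.sylow _ hPV hc'
        have himg : (V ⊔ P).map (MulAut.conj g).toMonoidHom = T := by
          refine eq_of_le_of_card_ge (by rintro _ ⟨x, hx, rfl⟩; exact hgT x hx) ?_
          rw [card_map_of_injective (K := V ⊔ P) (f := (MulAut.conj g).toMonoidHom)
            (MulAut.conj g).injective, hcardT]
          exact h8.trans (card_le_of_le le_sup_right)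
        have hcen : ∀ v ∈ V, ∀ y ∈ T, y * (g * v * g⁻¹) = g * v * g⁻¹ * y := by
          intro v hv y hy
          rw [← himg] at hy
          obtain ⟨x, hx, rfl⟩ := hy
          have hxv : x * v * x⁻¹ = v := by
            have hle : V ⊔ P ≤ centralizer ({v} : Set G) := sup_le
              (fun w hw => mem_centralizer_singleton_iff.mpr (commV hV hw hv))
              (fun p hp => mem_centralizer_singleton_iff.mpr (commute_of_conj (hcent p hp v hv)))
            exact conj_of_commute (mem_centralizer_singleton_iff.mp (hle hx))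
          change g * x * g⁻¹ * (g * v * g⁻¹) = g * v * g⁻¹ * (g * x * g⁻¹)
          rw [conj_mul, conj_mul, commute_of_conj hxv]
        have hfin : ({t, zz 2 c, t * zz 2 c} : Set G) ⊆ {x | ∃ v ∈ V, g * v * g⁻¹ = x} := by
          have hsub : {x | ∃ v ∈ V, g * v * g⁻¹ = x} ⊆ ({1, t, zz 2 c, t * zz 2 c} : Set G) := by
            rintro x ⟨v, hv, rfl⟩
            rcases center_T h (hgT v (mem_sup_left hv)) (hcen v hv) with e | e | e | e <;> simp [e]
          have hcard : Set.ncard {x | ∃ v ∈ V, g * v * g⁻¹ = x} = 4 := by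
            rw [show {x | ∃ v ∈ V, g * v * g⁻¹ = x} = (fun v => g * v * g⁻¹) '' (V : Set G) from
              rfl, Set.ncard_image_of_injective _ (fun p q e => conj_inj e), ← Nat.card_coe_set_eq]
            exact hcardV
          have h4 : Set.ncard ({1, t, zz 2 c, t * zz 2 c} : Set G) ≤ 4 := by
            refine (Set.ncard_insert_le _ _).trans ?_
            refine Nat.succ_le_succ ((Set.ncard_insert_le _ _).trans ?_)
            refine Nat.succ_le_succ ((Set.ncard_insert_le _ _).trans ?_)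
            rw [Set.ncard_singleton]
          rw [Set.eq_of_subset_of_ncard_le hsub (h4.trans hcard.ge) (Set.toFinite _)]
          exact Set.subset_insert _ _
        obtain ⟨v, hv, hvt⟩ := hfin (Or.inl rfl)
        rw [← hgt] at hvt
        exact h.loc.t_notMem (hVD (conj_inj hvt ▸ hv)) }
  have hout : ∀ g ∈ nor hb hb.layer, g * t * g⁻¹ ∉ V := fun g _ e =>
    hVt _ e (isConj_iff.mpr ⟨g, rfl⟩)
  -- `C_S(V)` has index at most 2
  set M₀ := (S : Subgroup G) ⊓ H with hM₀
  have hidx : Nat.card ↥(S : Subgroup G) ≤ 2 * Nat.card M₀ := by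
    have hcM : c ∉ M₀ := fun e => hcb (cent_of_fix hV e.2 (hzfix c hcS) b hbV)
    have hi : (M₀.subgroupOf (S : Subgroup G)).index = 2 := by
      rw [Subgroup.index_eq_two_iff]
      refine ⟨⟨c, hcS⟩, fun ⟨y, hy⟩ => ?_⟩
      simp only [mem_subgroupOf, MulMemClass.mk_mul_mk]
      by_cases hyM : y ∈ M₀
      · refine Or.inr ⟨hyM, fun e => hcM ?_⟩
        simpa using mul_mem (inv_mem hyM) e
      · refine Or.inl ⟨⟨mul_mem hy hcS, mem_cycStab_cent hV ?_⟩, hyM⟩
        exact mul_cent hV S.isPGroup' hn hy hcS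
          (fun e => hyM ⟨hy, mem_cycStab_cent hV e⟩) (fun e => hcb (e b hbV))
    have h1 := (M₀.subgroupOf (S : Subgroup G)).card_mul_index
    rw [hi, Nat.card_congr (subgroupOfEquivOfLe (inf_le_left : M₀ ≤ (S : Subgroup G))).toEquiv]
      at h1
    have e : Nat.card ↥((S : Subgroup G) ⊓ H) = Nat.card M₀ := rfl
    omega
  have hmore : ∃ R : Subgroup G, R ≤ H ∧ IsPGroup 2 R ∧ V ≤ R ∧ t ∈ R ∧
      2 * Nat.card V < Nat.card R :=
    ⟨M₀, inf_le_right, S.isPGroup'.to_le inf_le_left,
      le_inf ((hVD.trans h.loc.D_le).trans hTS) (V_le_cycStab hV), ⟨hTS h.loc.t_mem, htH⟩,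
      by omega⟩
  rcases chain hb hout hmore with ⟨hn3, -⟩ | ⟨a', Q, Q₁, Q₂, m, hQ, hend⟩
  · omega
  rcases hend with hmax | ⟨hn3, -⟩
  rotate_left
  · omega
  set P := JTChain62.ext hQ.base hQ.top with hP
  have hPH : P ≤ H := ext_le hQ.base hQ.top
  have hPp : IsPGroup 2 P := ext_pGroup hQ.base hQ.top
  have hPc : ∀ p ∈ P, ∀ v ∈ V, p * v * p⁻¹ = v := fun p hp => cent_of_two hV hPp hPH hp
  have hQP : Q ≤ P := le_ext hQ.base hQ.top
  have htP : t ∈ P := t_mem_ext hQ.base hQ.top
  have hPmax : ∀ R : Subgroup G, R ≤ H → IsPGroup 2 R → P ≤ R → R = P := fun R hR hRp hle =>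
    (eq_of_le_of_card_ge hle (by
      rw [card_ext hQ.base hQ.top]
      exact hmax R hR hRp (hQP.trans hle) (hle htP))).symm
  -- a Sylow subgroup normalising `V` and containing `P`
  set N := normalizer (V : Set G) with hN
  have hSN : (S : Subgroup G) ≤ N := fun s hs => mem_normalizer_of_conj (hn s hs)
  have hPN : P ≤ N := fun p hp => mem_normalizer_of_conj fun v hv => by rw [hPc p hp v hv]; exact hv
  obtain ⟨SN, hSNle⟩ := (hPp.of_equiv (subgroupOfEquivOfLe hPN).symm).exists_le_sylow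
  obtain ⟨κ, hκ⟩ := MulAction.exists_smul_eq ↥N (S.subtype hSN) SN
  set S' := (κ : G) • S with hS'
  have hmemS' : ∀ x : G, x ∈ (S' : Subgroup G) ↔ (κ : G)⁻¹ * x * κ ∈ (S : Subgroup G) := by
    intro x
    rw [hS', Sylow.coe_subgroup_smul, mem_pointwise_smul_iff_inv_smul_mem]
    simp [MulAut.smul_def]
  have hPS' : P ≤ (S' : Subgroup G) := by
    intro p hp
    have h1 : (⟨p, hPN hp⟩ : ↥N) ∈ (SN : Subgroup ↥N) := hSNle hp
    rw [← hκ, Sylow.coe_subgroup_smul, mem_pointwise_smul_iff_inv_smul_mem] at h1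
    rw [hmemS']
    simpa [MulAut.smul_def, mem_subgroupOf] using h1
  have hS'N : (S' : Subgroup G) ≤ N := by
    intro x hx
    have := mul_mem (mul_mem κ.2 (hSN ((hmemS' x).mp hx))) (inv_mem κ.2)
    convert this using 1
    group
  have hS'n : ∀ s ∈ (S' : Subgroup G), ∀ v ∈ V, s * v * s⁻¹ ∈ V := fun s hs v hv =>
    ((mem_normalizer_iff.mp (hS'N hs)) v).mp hv
  have hS'P : (S' : Subgroup G) ⊓ H = P :=
    hPmax _ inf_le_right (S'.isPGroup'.to_le inf_le_left) (le_inf hPS' hPH)
  obtain ⟨d', hd', hd'H⟩ : ∃ d ∈ (S' : Subgroup G), d ∉ H := by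
    refine ⟨(κ : G) * c * (κ : G)⁻¹, by rw [hmemS']; convert hcS using 1; group, fun e => ?_⟩
    have hκn : ∀ v ∈ V, (κ : G) * v * (κ : G)⁻¹ ∈ V := fun v hv =>
      ((mem_normalizer_iff.mp κ.2) v).mp hv
    have hfix : (κ : G) * c * (κ : G)⁻¹ * ((κ : G) * z * (κ : G)⁻¹) * ((κ : G) * c * (κ : G)⁻¹)⁻¹
        = (κ : G) * z * (κ : G)⁻¹ := by
      calc _ = (κ : G) * (c * z * c⁻¹) * (κ : G)⁻¹ := by group
        _ = _ := by rw [hzfix c hcS]
    obtain ⟨i, hi⟩ := e
    -- a power of `a` with a fixed point is trivial on `V`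
    have hcent : ∀ v ∈ V, (κ : G) * c * (κ : G)⁻¹ * v * ((κ : G) * c * (κ : G)⁻¹)⁻¹ = v := by
      have hw := hκn z hzV
      have hw1 : (κ : G) * z * (κ : G)⁻¹ ≠ 1 := fun e => z_ne_one h (conj_eq_one_iff.mp e)
      obtain ⟨j, hj⟩ := trans_four hV hzV hw (z_ne_one h) hw1
      rw [hi _ hw, ← hj, ← conj_comp, ← pow_add, add_comm, pow_add, conj_comp] at hfix
      have h3 := apow_triv hV (conj_inj hfix)
      intro v hv
      rw [hi v hv, apow_mod hV i hv, Nat.mod_eq_zero_of_dvd h3]
      simp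
    apply hcb
    have h1 := hcent _ (hκn b hbV)
    apply conj_inj (g := (κ : G))
    calc (κ : G) * (c * b * c⁻¹) * (κ : G)⁻¹
        = (κ : G) * c * (κ : G)⁻¹ * ((κ : G) * b * (κ : G)⁻¹) * ((κ : G) * c * (κ : G)⁻¹)⁻¹ := by
          group
      _ = _ := h1
  have hout2 : ∀ s ∈ (S' : Subgroup G), s ∉ P → ¬ ∀ v ∈ V, s * v * s⁻¹ = v := fun s hs hsP e =>
    hsP (hS'P ▸ (⟨hs, mem_cycStab_cent hV e⟩ : s ∈ (S' : Subgroup G) ⊓ H))
  have hd'P : d' ∉ P := fun e => hd'H (hPH e)
  have hS'idx : ∀ s ∈ (S' : Subgroup G), s ∉ P → ∀ w ∈ (S' : Subgroup G), w ∉ P → s * w ∈ P := by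
    intro s hs hsP w hw hwP
    rw [← hS'P]
    exact ⟨mul_mem hs hw, mem_cycStab_cent hV
      (mul_cent hV S'.isPGroup' hS'n hs hw (hout2 s hs hsP) (hout2 w hw hwP))⟩
  have hPnorm : ∀ s ∈ (S' : Subgroup G), ∀ p ∈ P, s * p * s⁻¹ ∈ P := by
    intro s hs p hp
    by_cases hsP : s ∈ P
    · exact mul_mem (mul_mem hsP hp) (inv_mem hsP)
    · refine hS'idx _ (mul_mem hs (hPS' hp)) (fun e => hsP ?_) _ (inv_mem hs)
        (fun e => hsP (by simpa using inv_mem e))
      simpa using mul_mem e (inv_mem hp)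
  -- the class of `t` modulo `Q₁` is stable in `H`
  have hout' := two_out hQ.base hQ
  have hfixH : ∀ g ∈ nor hQ.base hQ.top, cm t g ∈ Q₁ := by
    intro g hg
    by_contra h0
    obtain ⟨R, hPR, hRL, hRp, hRcard, -, -, -⟩ := exists_cover hQ.base hQ.top hout' le_rfl
      (ext_le_nor hQ.base hQ.top)
      (fun q hq => trans_of_moved hQ.base hQ.top hQ.nc hout' hg h0 hq)
    have := hPmax R (hRL.trans inf_le_left) hRp hPR
    rw [this] at hRcard
    have := Nat.card_pos (α := ↥P)
    rw [← hP] at hRcard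
    omega
  have hΦt : ∀ x ∈ Q, (cm t)^[m + 1] (t * x) = (cm t)^[m + 1] x := by
    intro x hx
    rw [Function.iterate_succ_apply, Function.iterate_succ_apply, cm_mul,
      cm_eq_one.mpr (by group : t * t * t⁻¹ = t), one_mul, iter_cm_conj (by group)]
    exact hQ.base.comm _ (hQ.below.maps _ (hQ.top.fmem x hx))
  -- the normaliser in `H` preserves `Q`
  have hcN := c_mem_nor hQ.base hQ.top hQ.nc
  have hkQ : ∀ k ∈ nor hQ.base hQ.top, k * t * k⁻¹ = t → (∀ v ∈ V, k * v * k⁻¹ = v) →
      ∀ x ∈ Q, k * x * k⁻¹ ∈ Q := by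
    intro k hk hkt hkV x hx
    have hpow : ∀ i : ℕ, k ^ i ∈ nor hQ.base hQ.top := fun i => pow_mem hk i
    obtain ⟨r, hr, hkr⟩ := odd_of_fix hQ.base hQ.top hQ.nc hout' hk (hfixH k hk)
    by_contra hnot
    -- `k` moves `x` into the other coset, and so does every odd power
    have step : ∀ y ∈ P, (cm t)^[m + 1] y = (cm t)^[m + 1] x →
        (cm t)^[m + 1] (k * y * k⁻¹) = (cm t)^[m + 1] x := by
      intro y hy e
      rw [iter_cm_conj hkt, e, hkV _ (hQ.top.maps x hx)]
    have hsame : ∀ y ∈ Q, (cm t)^[m + 1] y = (cm t)^[m + 1] x → k * y * k⁻¹ ∉ Q := by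
      intro y hy e hyQ
      have h1 : x⁻¹ * y ∈ Q₁ := (phi_eq hQ.base hQ.top hy hx).mp e
      have h2 := nor_one hQ.base hQ.top hk (inv_mem h1)
      apply hnot
      have := mul_mem hyQ (hQ.top.le_one h2)
      convert this using 1
      group
    have hkk : ∀ i : ℕ, k ^ (2 * i) * x * (k ^ (2 * i))⁻¹ ∈ Q ∧
        (cm t)^[m + 1] (k ^ (2 * i) * x * (k ^ (2 * i))⁻¹) = (cm t)^[m + 1] x := by
      intro i
      induction i with
      | zero => simp [hx]
      | succ i ih =>
        set y := k ^ (2 * i) * x * (k ^ (2 * i))⁻¹ with hy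
        have e2 : k ^ (2 * (i + 1)) * x * (k ^ (2 * (i + 1)))⁻¹ = k * (k * y * k⁻¹) * k⁻¹ := by
          rw [show 2 * (i + 1) = 1 + (1 + 2 * i) by ring, pow_add, pow_add, pow_one, conj_comp,
            conj_comp, ← hy]
        rw [e2]
        have hy1 := conj_ext hQ.base hQ.top hk (le_ext hQ.base hQ.top ih.1)
        have e := step y (hQP ih.1) ih.2
        have hy2 := out_mem hQ.base hQ.top hy1 (hsame y ih.1 ih.2)
        have e' := (hΦt _ hy2).trans rfl
        rw [show t * (t * (k * y * k⁻¹)) = k * y * k⁻¹ by rw [← mul_assoc, htt, one_mul], e] at e'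
        have h3 := hsame _ hy2 e'.symm
        have hzmem := out_mem hQ.base hQ.top
          (conj_ext hQ.base hQ.top hk (le_ext hQ.base hQ.top hy2)) h3
        have e3 : t * (k * (t * (k * y * k⁻¹)) * k⁻¹) = k * (k * y * k⁻¹) * k⁻¹ := by
          calc t * (k * (t * (k * y * k⁻¹)) * k⁻¹)
              = t * (k * t * k⁻¹) * (k * (k * y * k⁻¹) * k⁻¹) := by group
            _ = _ := by rw [hkt, htt, one_mul]
        rw [e3] at hzmem
        exact ⟨hzmem, step _ hy1 e⟩
    obtain ⟨q, rfl⟩ := hr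
    have h1 := hkk q
    have h2 : k ^ (2 * q + 1) * x * (k ^ (2 * q + 1))⁻¹ ∉ Q := by
      rw [pow_succ', conj_comp]; exact hsame _ h1.1 h1.2
    apply h2
    have := comm_mem hQ.base hQ.top hkr (le_ext hQ.base hQ.top hx)
    have := mul_mem (hQ.top.le_one this) hx
    convert this using 1
    group
  have hQinv : ∀ g ∈ nor hQ.base hQ.top, ∀ x ∈ Q, g * x * g⁻¹ ∈ Q := by
    intro g hg x hx
    obtain ⟨q, hq, hqt⟩ := fix_adjust hQ.base hQ.top (hfixH g hg)
    set g₀ := q⁻¹ * g with hg₀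
    have hg₀N : g₀ ∈ nor hQ.base hQ.top :=
      mul_mem (inv_mem (ext_le_nor hQ.base hQ.top (hQP hq))) hg
    have hgV : ∀ v ∈ V, g₀ * v * g₀⁻¹ ∈ V := by
      obtain ⟨i, hi⟩ := hg₀N.1
      exact fun v hv => by rw [hi v hv]; exact apow_mem hV i hv
    obtain ⟨j, hj⟩ := hQ.base.trans z hzV _ (hgV z hzV) (z_ne_one h)
      (fun e => z_ne_one h (conj_eq_one_iff.mp e))
    set k := (a' ^ j)⁻¹ * g₀ with hk
    have hkN : k ∈ nor hQ.base hQ.top := mul_mem (inv_mem (pow_mem hcN j)) hg₀N
    have hpt := conj_pow_fix hQ.base.c_comm j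
    have hkt : k * t * k⁻¹ = t := by
      rw [hk, conj_comp, hqt]
      conv_lhs => rw [← hpt]
      group
    have hkz : k * z * k⁻¹ = z := by
      rw [hk, conj_comp, ← hj]; group
    have h1 := hkQ k hkN hkt (cent_of_fix hV hkN.1 hkz) x hx
    have hpQ : ∀ i : ℕ, ∀ y ∈ Q, a' ^ i * y * (a' ^ i)⁻¹ ∈ Q := by
      intro i
      induction i with
      | zero => intro y hy; simpa
      | succ i ih => intro y hy; rw [pow_succ, conj_comp]; exact ih _ (hQ.nc y hy)
    have h2 := mul_mem (mul_mem hq (hpQ j _ h1)) (inv_mem hq)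
    convert h2 using 1
    rw [hk, hg₀]; group
  -- an element `d₁` outside `P` fixing `t`
  have houtQ : ∀ s ∈ (S' : Subgroup G), s * t * s⁻¹ ∉ Q := by
    intro s hs hu
    set u := s * t * s⁻¹ with hudef
    have h2 := hQ.base.bound ((Q ⊓ centralizer ({u} : Set G)).map (MulAut.conj s⁻¹).toMonoidHom) (by
        rintro _ ⟨x, hx, rfl⟩
        change s⁻¹ * x * s⁻¹⁻¹ ∈ H
        exact hPH (hPnorm _ (inv_mem hs) x (hQP hx.1)))
      ((hQ.top.pQ.to_le inf_le_left).map _) (by
        rintro _ ⟨x, hx, rfl⟩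
        change s⁻¹ * x * s⁻¹⁻¹ * t = t * (s⁻¹ * x * s⁻¹⁻¹)
        have e : x * u = u * x := mem_centralizer_singleton_iff.mp hx.2
        calc s⁻¹ * x * s⁻¹⁻¹ * t = s⁻¹ * (x * u) * s := by rw [hudef]; group
          _ = s⁻¹ * (u * x) * s := by rw [e]
          _ = _ := by rw [hudef]; group)
    rw [card_map_of_injective (K := Q ⊓ centralizer ({u} : Set G))
      (f := (MulAut.conj s⁻¹).toMonoidHom) (MulAut.conj s⁻¹).injective] at h2
    have h3 := (hQ.big hu).trans h2
    norm_num at h3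
  have hd't : cm t d' ∈ Q₁ := by
    by_contra h0
    have hm : cm t d' ∈ Q := by
      rw [cm_eq hQ.base hQ.top]
      exact out_mem hQ.base hQ.top (hPnorm d' hd' t htP) (houtQ d' hd')
    set v := (cm t)^[m + 1] (cm t d') with hv
    set g := d'⁻¹ * (a' * d' * a'⁻¹) with hg
    have hgN : g ∈ nor hQ.base hQ.top := by
      refine mem_nor hQ.base hQ.top ?_ fun x hx => ?_
      · -- `d'⁻¹ a' d'` is fixed-point-free on `V`, hence in `H`
        have hA : d'⁻¹ * a' * d' ∈ H := by
          refine fpf_mem hV (fun v hv => ?_) (fun v hv e => ?_)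
          · have h1 := hS'n d' hd' v hv
            have h2 := hS'n _ (inv_mem hd') _ (hQ.base.c_norm _ h1)
            convert h2 using 1
            group
          · have h1 := hS'n d' hd' v hv
            have h3 := c_fix_one hQ.base h1 (by
              calc a' * (d' * v * d'⁻¹) * a'⁻¹
                  = d' * (d'⁻¹ * a' * d' * v * (d'⁻¹ * a' * d')⁻¹) * d'⁻¹ := by group
                _ = _ := by rw [e])
            exact conj_eq_one_iff.mp h3
        rw [hg, show d'⁻¹ * (a' * d' * a'⁻¹) = d'⁻¹ * a' * d' * a'⁻¹ by group]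
        exact mul_mem hA (inv_mem hQ.base.c_mem)
      · have h1 := conj_ext hQ.base hQ.top (inv_mem hcN) hx
        have h2 := conj_ext hQ.base hQ.top hcN (hPnorm d' hd' _ h1)
        have h3 := hPnorm _ (inv_mem hd') _ h2
        convert h3 using 1
        rw [hg]; group
    have h1 : d' * cm t g * d'⁻¹ ∈ Q₁ := by
      obtain ⟨x, hx, hxe⟩ := hQ.top.surj _ (hfixH g hgN)
      rw [← hxe]
      have e : d' * cm t x * d'⁻¹ = (d' * t * d'⁻¹) * (d' * x * d'⁻¹) * (d' * t * d'⁻¹)⁻¹ *
          (d' * x * d'⁻¹)⁻¹ := by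
        unfold cm; group
      rw [e]
      exact comm_mem hQ.base hQ.top (hPnorm d' hd' t htP) (hPnorm d' hd' x (hQP hx))
    have h2 : (cm t d')⁻¹ * cm t (a' * d' * a'⁻¹) ∈ Q₁ := by
      rw [show a' * d' * a'⁻¹ = d' * g by rw [hg]; group, cm_mul, inv_mul_cancel_left]
      exact h1
    have hm' : a' * cm t d' * a'⁻¹ ∈ Q := hQ.nc _ hm
    rw [cm_conj hQ.base.c_comm] at h2
    have h3 := (phi_eq hQ.base hQ.top hm' hm).mpr h2
    rw [iter_cm_conj hQ.base.c_comm] at h3
    exact h0 ((hQ.top.kern _ hm).mp (c_fix_one hQ.base (hQ.top.maps _ hm) h3))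
  obtain ⟨q₀, hq₀, hq₀t⟩ := fix_adjust hQ.base hQ.top hd't
  set d₁ := q₀⁻¹ * d' with hd₁
  have hd₁S : d₁ ∈ (S' : Subgroup G) := mul_mem (inv_mem (hPS' (hQP hq₀))) hd'
  have hd₁P : d₁ ∉ P := fun e => hd'P (by simpa [hd₁] using mul_mem (hQP hq₀) e)
  -- an involution `d` outside `P`, conjugate to `z` and centralising `t`
  set U := (S' : Subgroup G) ⊓ centralizer ({t} : Set G) with hU
  have hUc : ∀ x ∈ U, x * t = t * x := fun x hx => mem_centralizer_singleton_iff.mp hx.2
  have hd₁U : d₁ ∈ U := ⟨hd₁S, mem_centralizer_singleton_iff.mpr (commute_of_conj hq₀t)⟩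
  have hU0 : JTChain62.ext hQ.base hQ.base.layer ≤ U := by
    rintro x (hx | hx)
    · exact ⟨hPS' (hQP (hQ.top.V_le hx)),
        mem_centralizer_singleton_iff.mpr (commute_of_conj (hbt x hx)).symm⟩
    · have h1 : t ∈ U := ⟨hPS' htP, mem_centralizer_singleton_iff.mpr rfl⟩
      have h2 : t * x ∈ U := ⟨hPS' (hQP (hQ.top.V_le hx)),
        mem_centralizer_singleton_iff.mpr (commute_of_conj (hbt _ hx)).symm⟩
      have := mul_mem (inv_mem h1) h2
      rwa [inv_mul_cancel_left] at this
  have hU16 : 16 ≤ Nat.card U := by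
    obtain ⟨j, hj⟩ := IsPGroup.iff_card.mp (S'.isPGroup'.to_le (inf_le_left : U ≤ _))
    have h1 := card_le_of_le hU0
    have h2 : Nat.card U ≠ Nat.card ↥(JTChain62.ext hQ.base hQ.base.layer) := fun e => by
      have h3 := eq_of_le_of_card_ge hU0 e.le
      have h4 : d₁ ∈ JTChain62.ext hQ.base hQ.base.layer := h3.symm ▸ hd₁U
      exact hd₁P (h4.imp (fun e => hQ.top.V_le e) (fun e => hQ.top.V_le e))
    rw [card_ext hQ.base hQ.base.layer, hcardV, hj] at h1 h2
    rw [hj]
    have h4 : 3 < j := by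
      rcases Nat.lt_or_ge 3 j with h | h
      · exact h
      · have h5 := Nat.pow_le_pow_right (show 0 < 2 by norm_num) h
        omega
    calc 16 = 2 ^ 4 := by norm_num
      _ ≤ _ := Nat.pow_le_pow_right (by norm_num) h4
  obtain ⟨g, hgt, hgT⟩ := h.loc.sylow U (S'.isPGroup'.to_le inf_le_left) hUc
  have himg : U.map (MulAut.conj g).toMonoidHom = T := by
    refine eq_of_le_of_card_ge (by rintro _ ⟨x, hx, rfl⟩; exact hgT x hx) ?_
    rw [card_map_of_injective (K := U) (f := (MulAut.conj g).toMonoidHom) (MulAut.conj g).injective,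
      hcardT]
    exact hU16
  have hpre : ∀ y ∈ T, g⁻¹ * y * g ∈ U := by
    intro y hy
    rw [← himg] at hy
    obtain ⟨x, hx, rfl⟩ := hy
    change g⁻¹ * (g * x * g⁻¹) * g ∈ U
    rw [show g⁻¹ * (g * x * g⁻¹) * g = x by group]
    exact hx
  obtain ⟨i, hdi⟩ : ∃ i : ℤ, g⁻¹ * (b * c ^ i) * g ∉ P := by
    by_contra hall
    push Not at hall
    apply hd₁P
    have hc' : g⁻¹ * c * g ∈ P := by
      have := mul_mem (hall 0) (hall 1)
      convert this using 1
      calc g⁻¹ * c * g = g⁻¹ * ((b * b) * c) * g := by rw [h.dih.gen.b_sq, one_mul]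
        _ = _ := by group
    have hD : ∀ y ∈ D, g⁻¹ * y * g ∈ P := by
      intro y hy
      rcases mem_D h hy with ⟨j, rfl⟩ | ⟨j, rfl⟩
      · have := zpow_mem hc' j
        convert this using 1
        rw [show g⁻¹ * c * g = g⁻¹ * c * g⁻¹⁻¹ by group, conj_zpow]; group
      · exact hall j
    have hg' : g⁻¹ * t * g = t := by
      conv_lhs => rw [← hgt]
      group
    have hy := hgT d₁ hd₁U
    rcases h.loc.cover _ hy with e | e
    · have := hD _ e
      convert this using 1
      group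
    · have := mul_mem htP (hD _ e)
      convert this using 1
      calc d₁ = t * t * d₁ := by rw [htt, one_mul]
        _ = t * (g⁻¹ * t * g) * d₁ := by rw [hg']
        _ = _ := by group
  set d := g⁻¹ * (b * c ^ i) * g with hd
  have hdS : d ∈ (S' : Subgroup G) := (hpre _ (h.loc.D_le (bc_mem h i))).1
  have hdt : d * t * d⁻¹ = t := conj_of_commute (hUc d (hpre _ (h.loc.D_le (bc_mem h i))))
  have hdd : d * d = 1 := by
    rw [hd, show g⁻¹ * (b * c ^ i) * g * (g⁻¹ * (b * c ^ i) * g)
      = g⁻¹ * ((b * c ^ i) * (b * c ^ i)) * g by group, bc_sq h]; simp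
  have hdt' : ¬ IsConj t d := fun e =>
    hzt (e.trans ((isConj_iff.mpr ⟨g, by rw [hd]; group⟩ : IsConj d (b * c ^ i)).trans
      (isConj_bc h i).symm))
  have hdinv : d⁻¹ = d := inv_eq_of_mul_eq_one_right hdd
  -- `d` normalises `Q`
  have hdQ : ∀ x ∈ Q, d * x * d⁻¹ ∈ Q := by
    intro x hx
    obtain ⟨w₀, hw₀, hw₀e⟩ := c_surj hQ.base (hQ.top.maps x hx)
    obtain ⟨w, hw, hww⟩ := hQ.top.onto w₀ hw₀
    have hcw : a' * w * a'⁻¹ * w⁻¹ ∈ Q := mul_mem (hQ.nc w hw) (inv_mem hw)
    have h1 : (a' * w * a'⁻¹ * w⁻¹)⁻¹ * x ∈ Q₁ := by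
      refine (phi_eq hQ.base hQ.top hx hcw).mp ?_
      have h2 := hQ.top.hom _ hcw w hw
      rw [inv_mul_cancel_right, iter_cm_conj hQ.base.c_comm, hww] at h2
      rw [← hw₀e, h2, mul_inv_cancel_right]
    have hd1 : d * ((a' * w * a'⁻¹ * w⁻¹)⁻¹ * x) * d⁻¹ ∈ Q₁ := by
      obtain ⟨y, hy, hye⟩ := hQ.top.surj _ h1
      rw [← hye, ← cm_conj hdt]
      exact comm_mem hQ.base hQ.top htP (hPnorm d hdS y (hQP hy))
    set g' := d * a' * d⁻¹ with hg'
    have hg'N : g' ∈ nor hQ.base hQ.top := by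
      refine mem_nor hQ.base hQ.top (fpf_mem hV (fun v hv => ?_) (fun v hv e => ?_)) fun y hy => ?_
      · have h1 := hS'n d hdS _ (hQ.base.c_norm _ (hS'n _ (inv_mem hdS) v hv))
        convert h1 using 1
        rw [hg']; group
      · have h1 := hS'n _ (inv_mem hdS) v hv
        have h3 := c_fix_one hQ.base h1 (by
          calc a' * (d⁻¹ * v * d⁻¹⁻¹) * a'⁻¹ = d⁻¹ * (g' * v * g'⁻¹) * d⁻¹⁻¹ := by
                rw [hg']; group
            _ = _ := by rw [e])
        exact conj_eq_one_iff.mp h3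
      · have h1 := hPnorm _ (inv_mem hdS) y hy
        have h2 := hPnorm d hdS _ (conj_ext hQ.base hQ.top hcN h1)
        convert h2 using 1
        rw [hg']; group
    set p := d * w * d⁻¹ with hp
    have hpP : p ∈ P := hPnorm d hdS w (hQP hw)
    have hg't : g' * t * g'⁻¹ = t := by
      rw [hg', conj_comp (d * a'), hdinv, show d * t * d⁻¹ = t from hdt, conj_comp,
        hQ.base.c_comm, hdt]
    have h3 : g' * p * g'⁻¹ * p⁻¹ ∈ Q := by
      rcases hpP with hpQ | hpQ
      · exact mul_mem (hQinv g' hg'N p hpQ) (inv_mem hpQ)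
      · have h4 := mul_mem (hQinv g' hg'N _ hpQ) (inv_mem hpQ)
        have h5 := hQ.top.nt _ h4
        convert h5 using 1
        calc g' * p * g'⁻¹ * p⁻¹
            = (g' * t⁻¹ * g'⁻¹) * (g' * (t * p) * g'⁻¹) * (t * p)⁻¹ * t := by group
          _ = (g' * t * g'⁻¹) * (g' * (t * p) * g'⁻¹) * (t * p)⁻¹ * t⁻¹ := by rw [hQ.base.t_inv]
          _ = _ := by rw [hg't]; group
    have := mul_mem h3 (hQ.top.le_one hd1)
    convert this using 1
    rw [hg', hp]; group
  -- the maximal subgroup `M = Q⟨d⟩`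
  let M : Subgroup G :=
    { carrier := {x | x ∈ Q ∨ d * x ∈ Q}
      one_mem' := Or.inl (one_mem _)
      mul_mem' := by
        intro x y hx hy
        rcases hx with hx | hx <;> rcases hy with hy | hy
        · exact Or.inl (mul_mem hx hy)
        · refine Or.inr ?_
          have e : d * (x * y) = (d * x * d⁻¹) * (d * y) := by group
          rw [e]; exact mul_mem (hdQ x hx) hy
        · exact Or.inr (by rw [← mul_assoc]; exact mul_mem hx hy)
        · refine Or.inl ?_
          have e : x * y = (d * (d * x) * d⁻¹) * (d * y) := by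
            calc x * y = (d * d) * x * y := by rw [hdd, one_mul]
              _ = _ := by group
          rw [e]; exact mul_mem (hdQ _ hx) hy
      inv_mem' := by
        intro x hx
        rcases hx with hx | hx
        · exact Or.inl (inv_mem hx)
        · refine Or.inr ?_
          have e : d * x⁻¹ = d * (d * x)⁻¹ * d⁻¹ := by
            calc d * x⁻¹ = d * x⁻¹ * (d * d⁻¹) := by group
              _ = d * x⁻¹ * (d⁻¹ * d⁻¹) := by rw [hdinv]
              _ = _ := by group
          rw [e]; exact hdQ _ (inv_mem hx) }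
  have hMmem : ∀ {x : G}, x ∈ M ↔ x ∈ Q ∨ d * x ∈ Q := Iff.rfl
  have hMS : M ≤ (S' : Subgroup G) := by
    intro x hx
    rcases hMmem.mp hx with hx | hx
    · exact hPS' (hQP hx)
    · have := mul_mem (inv_mem hdS) (hPS' (hQP hx))
      rwa [inv_mul_cancel_left] at this
  have htM : t ∉ M := by
    intro e
    rcases hMmem.mp e with e | e
    · exact hQ.top.t_notMem e
    · apply hdi
      have := mul_mem (hQP e) (inv_mem htP)
      rwa [mul_inv_cancel_right] at this
  have hcosets : ∀ x ∈ (S' : Subgroup G), x ∈ M ∨ t * x ∈ M := by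
    intro x hx
    by_cases hxP : x ∈ P
    · rcases hxP with e | e
      exacts [Or.inl (Or.inl e), Or.inr (Or.inl e)]
    · rcases hS'idx d hdS hdi x hx hxP with e | e
      · exact Or.inl (Or.inr e)
      · refine Or.inr (Or.inr ?_)
        convert e using 1
        calc d * (t * x) = (d * t * d⁻¹) * (d * x) := by group
          _ = _ := by rw [hdt]
  have hMidx : (M.subgroupOf (S' : Subgroup G)).index = 2 := by
    rw [Subgroup.index_eq_two_iff]
    refine ⟨⟨t, hPS' htP⟩, fun ⟨y, hy⟩ => ?_⟩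
    simp only [mem_subgroupOf, MulMemClass.mk_mul_mk]
    by_cases hyM : y ∈ M
    · refine Or.inr ⟨hyM, fun e => htM ?_⟩
      simpa using mul_mem (inv_mem hyM) e
    · refine Or.inl ⟨?_, hyM⟩
      rcases hcosets _ (inv_mem hy) with e | e
      · exact absurd (by simpa using inv_mem e) hyM
      · have := inv_mem e
        rwa [mul_inv_rev, inv_inv, hQ.base.t_inv] at this
  obtain ⟨r, hrM, hrcard⟩ := JTTransfer62.exists_extremal hG S' hMS hMidx h.loc.orderOf_t htM
    h.loc.pT h.loc.t_mem h.loc.comm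
  set u := r⁻¹ * t * r with hu
  have hconj : IsConj t u := isConj_iff.mpr ⟨r⁻¹, by rw [inv_inv]⟩
  set C := (S' : Subgroup G) ⊓ centralizer ({u} : Set G) with hC
  have hCc : ∀ x ∈ C, x * u = u * x := fun x hx => mem_centralizer_singleton_iff.mp hx.2
  have hC16 : Nat.card C = 16 := le_antisymm
    ((card_le_conj h.loc (S'.isPGroup'.to_le inf_le_left) hconj hCc).trans hcardT.le)
    (hcardT ▸ hrcard)
  rcases hMmem.mp hrM with huQ | huQ
  · -- `u ∈ Q`: then `V` is the centre of `C_{S'}(u)`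
    set CQ := Q ⊓ centralizer ({u} : Set G) with hCQ
    have h1 : CQ = C := eq_of_le_of_card_ge (inf_le_inf_right _ (hQP.trans hPS')) (by
      rw [hC16]
      have h2 := hQ.big huQ
      norm_num at h2
      exact h2)
    have hback : ∀ x : G, x * u = u * x → r * x * r⁻¹ * t = t * (r * x * r⁻¹) := fun x hx => by
      calc r * x * r⁻¹ * t = r * (x * u) * r⁻¹ := by rw [hu]; group
        _ = r * (u * x) * r⁻¹ := by rw [hx]
        _ = _ := by rw [hu]; group
    obtain ⟨w, hwt, hwT⟩ := h.loc.sylow (C.map (MulAut.conj r).toMonoidHom)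
      ((S'.isPGroup'.to_le inf_le_left).map _) (by
        rintro _ ⟨x, hx, rfl⟩; exact hback x (hCc x hx))
    have hwT' : ∀ x ∈ C, (w * r) * x * (w * r)⁻¹ ∈ T := fun x hx => by
      rw [conj_comp]; exact hwT _ ⟨x, hx, rfl⟩
    have himg' : C.map (MulAut.conj (w * r)).toMonoidHom = T :=
      eq_of_le_of_card_ge (by rintro _ ⟨x, hx, rfl⟩; exact hwT' x hx) (by
        rw [card_map_of_injective (K := C) (f := (MulAut.conj (w * r)).toMonoidHom)
          (MulAut.conj (w * r)).injective, hC16, hcardT])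
    have hVC : ∀ v ∈ V, v ∈ C := fun v hv => ⟨hPS' (hQP (hQ.top.V_le hv)),
      mem_centralizer_singleton_iff.mpr (commute_of_conj (hPc u (hQP huQ) v hv)).symm⟩
    have hcen : ∀ v ∈ V, ∀ y ∈ T, y * ((w * r) * v * (w * r)⁻¹) = (w * r) * v * (w * r)⁻¹ * y := by
      intro v hv y hy
      rw [← himg'] at hy
      obtain ⟨x, hx, rfl⟩ := hy
      rw [← h1] at hx
      change (w * r) * x * (w * r)⁻¹ * ((w * r) * v * (w * r)⁻¹) =
        (w * r) * v * (w * r)⁻¹ * ((w * r) * x * (w * r)⁻¹)
      rw [conj_mul, conj_mul, commute_of_conj (hPc x (hQP hx.1) v hv)]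
    set f := fun v => (w * r) * v * (w * r)⁻¹ with hf
    have hfu : f u = t := by
      calc f u = w * (r * u * r⁻¹) * w⁻¹ := by rw [hf]; group
        _ = w * t * w⁻¹ := by rw [hu]; group
        _ = t := hwt
    have hfin : ∀ v ∈ V, f v = 1 ∨ f v = zz 2 c ∨ f v = t ∨ f v = t * zz 2 c := fun v hv =>
      center_T h (hwT' v (hVC v hv)) (hcen v hv)
    have ht' : ∀ v ∈ V, f v ≠ t := fun v hv e =>
      hVt v hv (by rw [conj_inj (e.trans hfu.symm)]; exact hconj)
    have hmul : ∀ x y : G, f (x * y) = f x * f y := fun x y => by rw [hf]; group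
    have hone : ∀ v ∈ V, f v = 1 → v = 1 := fun v _ e => conj_eq_one_iff.mp e
    obtain ⟨n1, n2, n3⟩ := bz_ne hV
    rcases hfin z hzV with e | e | e | e
    · exact z_ne_one h (hone z hzV e)
    rotate_left
    · exact ht' z hzV e
    all_goals
      rcases hfin b hbV with e' | e' | e' | e'
      · exact hV.b_ne (hone b hbV e')
    · refine ht' (b * z) (mul_mem hbV hzV) ?_
      rw [hmul, e', e, ← mul_assoc, h.loc.comm _ (h.loc.D_le (JTDihedral62.z_mem h)), mul_assoc,
        z_sq h, mul_one]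
    · exact ht' b hbV e'
    · exact hV.ne (conj_inj (e.trans e'.symm))
    · exact hV.ne (conj_inj (e.trans e'.symm))
    · exact ht' b hbV e'
    · refine ht' (b * z) (mul_mem hbV hzV) ?_
      rw [hmul, e', e, mul_assoc, z_sq h, mul_one]
  · -- `u ∈ dQ`: the class of `u` exhausts the involutions of the coset
    have huS : u ∈ (S' : Subgroup G) := hMS hrM
    have huu : u * u = 1 := by
      rw [hu, show r⁻¹ * t * r * (r⁻¹ * t * r) = r⁻¹ * (t * t) * r by group, htt]; simp
    let I := {x : G // d * x ∈ Q ∧ x * x = 1}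
    have hsconj : ∀ s ∈ (S' : Subgroup G), d * (s * u * s⁻¹) ∈ Q := by
      intro s hs
      haveI := normal_of_index_eq_two hMidx
      have h1 : s * u * s⁻¹ ∈ M :=
        Subgroup.Normal.conj_mem (H := M.subgroupOf (S' : Subgroup G)) inferInstance
          ⟨u, huS⟩ hrM ⟨s, hs⟩
      refine (hMmem.mp h1).resolve_left fun e => ?_
      apply hdi
      have h2 := hPnorm s⁻¹ (inv_mem hs) _ (hQP e)
      rw [show s⁻¹ * (s * u * s⁻¹) * s⁻¹⁻¹ = u by group] at h2
      have := mul_mem (hQP huQ) (inv_mem h2)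
      rwa [mul_inv_cancel_right] at this
    let C' := C.subgroupOf (S' : Subgroup G)
    have hkey : ∀ p q : ↥(S' : Subgroup G), p⁻¹ * q ∈ C' ↔
        (p : G) * u * (p : G)⁻¹ = (q : G) * u * (q : G)⁻¹ := by
      intro p q
      rw [mem_subgroupOf, mem_inf, mem_centralizer_singleton_iff]
      simp only [coe_mul, coe_inv]
      constructor
      · rintro ⟨-, e⟩
        calc (p : G) * u * (p : G)⁻¹ = (p : G) * (u * ((p : G)⁻¹ * q)) * (q : G)⁻¹ := by group
          _ = (q : G) * u * (q : G)⁻¹ := by rw [← e]; group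
      · intro e
        refine ⟨mul_mem (inv_mem p.2) q.2, ?_⟩
        calc (p : G)⁻¹ * q * u = (p : G)⁻¹ * ((q : G) * u * (q : G)⁻¹) * q := by group
          _ = u * ((p : G)⁻¹ * q) := by rw [← e]; group
    let f : ↥(S' : Subgroup G) ⧸ C' → I := Quotient.lift
      (fun s : ↥(S' : Subgroup G) => ⟨(s : G) * u * (s : G)⁻¹, hsconj s s.2,
        by rw [conj_mul, huu]; simp⟩)
      (fun p q hpq => Subtype.ext ((hkey p q).mp (QuotientGroup.leftRel_apply.mp hpq)))
    have hf : Function.Injective f := by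
      intro p q hpq
      induction p using Quotient.inductionOn with
      | h p =>
        induction q using Quotient.inductionOn with
        | h q =>
          exact Quotient.sound
            (QuotientGroup.leftRel_apply.mpr ((hkey p q).mpr (congrArg Subtype.val hpq)))
    have hd1 : d * 1 ∉ Q := fun e => hdi (hQP (by simpa using e))
    let dI : I := ⟨d, by rw [hdd]; exact one_mem _, hdd⟩
    have hfd : ∀ p, f p ≠ dI := by
      intro p
      induction p using Quotient.inductionOn with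
      | h p =>
        intro e
        exact hdt' (hconj.trans (isConj_iff.mpr ⟨p, congrArg Subtype.val e⟩))
    have hlow : Nat.card (↥(S' : Subgroup G) ⧸ C') < Nat.card I := by
      haveI : Finite I := Subtype.finite
      haveI := Fintype.ofFinite I
      haveI := Fintype.ofFinite (↥(S' : Subgroup G) ⧸ C')
      rw [Nat.card_eq_fintype_card, Nat.card_eq_fintype_card]
      exact Fintype.card_lt_of_injective_of_notMem f hf (b := dI) fun ⟨p, hp⟩ => hfd p hp
    rw [← Subgroup.index] at hlow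
    have hS'card : Nat.card ↥(S' : Subgroup G) = 4 * Nat.card Q := by
      have h1 := (M.subgroupOf (S' : Subgroup G)).card_mul_index
      rw [hMidx, Nat.card_congr (subgroupOfEquivOfLe hMS).toEquiv] at h1
      have hQM : Q ≤ M := fun x hx => Or.inl hx
      have h2 : (Q.subgroupOf M).index = 2 := by
        rw [Subgroup.index_eq_two_iff]
        refine ⟨⟨d, Or.inr (by rw [hdd]; exact one_mem _)⟩, fun ⟨y, hy⟩ => ?_⟩
        simp only [mem_subgroupOf, MulMemClass.mk_mul_mk]
        by_cases hyQ : y ∈ Q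
        · refine Or.inr ⟨hyQ, fun e => hdi (hQP ?_)⟩
          simpa using mul_mem (inv_mem hyQ) e
        · refine Or.inl ⟨?_, hyQ⟩
          have h3 := hdQ _ ((hMmem.mp hy).resolve_left hyQ)
          rw [show d * (d * y) * d⁻¹ = (d * d) * (y * d⁻¹) by group, hdd, one_mul, hdinv] at h3
          exact h3
      have h3 := (Q.subgroupOf M).card_mul_index
      rw [h2, Nat.card_congr (subgroupOfEquivOfLe hQM).toEquiv] at h3
      omega
    have hCcard := C'.card_mul_index
    rw [Nat.card_congr (subgroupOfEquivOfLe (inf_le_left : C ≤ (S' : Subgroup G))).toEquiv, hC16,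
      hS'card, hQ.card_Q] at hCcard
    -- at most `4|Q₂|` involutions in the coset
    let Fd := {v : ↥V // d * (v : G) * d⁻¹ = v}
    have hFd : Nat.card Fd ≤ 2 := by
      let K : Subgroup ↥V := (centralizer ({d} : Set G)).subgroupOf V
      have hK : Nat.card Fd = Nat.card K := Nat.card_congr (Equiv.subtypeEquivRight fun v => by
        rw [mem_subgroupOf, mem_centralizer_singleton_iff]
        exact ⟨fun e => (commute_of_conj e).symm, fun e => conj_of_commute e.symm⟩)
      rw [hK]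
      have h1 : K.index ≠ 1 := fun e => hout2 d hdS hdi fun v hv => conj_of_commute (by
        have h2 : (⟨v, hv⟩ : ↥V) ∈ K := (Subgroup.index_eq_one.mp e) ▸ mem_top _
        exact (mem_centralizer_singleton_iff.mp h2).symm)
      have h2 := K.card_mul_index
      rw [hcardV] at h2
      have h3 : 2 ≤ K.index := by
        have := K.index_ne_zero_of_finite
        omega
      nlinarith
    have hinv : ∀ x : I, d * (d * x.1) * d⁻¹ = (d * x.1)⁻¹ := fun x => by
      rw [mul_inv_rev d x.1, inv_eq_of_mul_eq_one_right x.2.2, hdinv,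
        show d * (d * x.1) = x.1 by rw [← mul_assoc d d, hdd, one_mul]]
    let φ₁ : I → Fd := fun x => ⟨⟨(cm t)^[m + 1] (d * x.1), hQ.top.maps _ x.2.1⟩, by
      change d * (cm t)^[m + 1] (d * x.1) * d⁻¹ = _
      rw [← iter_cm_conj hdt, hinv x]
      refine (phi_eq hQ.base hQ.top (inv_mem x.2.1) x.2.1).mpr ?_
      rw [← mul_inv_rev]
      exact inv_mem (hQ.top.sq _ x.2.1)⟩
    let rep : Fd → G := fun v => if hv : ∃ x : I, φ₁ x = v then d * (hv.choose).1 else 1
    let rr : I → G := fun x => (rep (φ₁ x))⁻¹ * (d * x.1)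
    have hrep : ∀ x : I, ∃ x₀ : I, φ₁ x₀ = φ₁ x ∧ rep (φ₁ x) = d * x₀.1 := by
      intro x
      have hx : ∃ y : I, φ₁ y = φ₁ x := ⟨x, rfl⟩
      exact ⟨hx.choose, hx.choose_spec, dif_pos hx⟩
    have hr1 : ∀ x : I, rr x ∈ Q₁ := by
      intro x
      obtain ⟨x₀, h0, he⟩ := hrep x
      simp only [rr, he]
      refine (phi_eq hQ.base hQ.top x.2.1 x₀.2.1).mp ?_
      exact (congrArg Subtype.val (congrArg Subtype.val h0)).symm
    let φ₂ : I → Fd := fun x => ⟨⟨(cm t)^[m] (rr x), hQ.below.maps _ (hr1 x)⟩, by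
      change d * (cm t)^[m] (rr x) * d⁻¹ = _
      obtain ⟨x₀, h0, he⟩ := hrep x
      have hrv : rr x = (d * x₀.1)⁻¹ * (d * x.1) := by simp only [rr, he]
      have e1 : d * rr x * d⁻¹ = (d * x₀.1) * (rr x)⁻¹ * (d * x₀.1)⁻¹ := by
        rw [hrv]
        calc d * ((d * x₀.1)⁻¹ * (d * x.1)) * d⁻¹
            = (d * (d * x₀.1) * d⁻¹)⁻¹ * (d * (d * x.1) * d⁻¹) := by group
          _ = _ := by rw [hinv, hinv]; group
      have hmem : (d * x₀.1) * (rr x)⁻¹ * (d * x₀.1)⁻¹ ∈ Q₁ :=
        hQ.top.n_one _ x₀.2.1 _ (inv_mem (hr1 x))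
      rw [← iter_cm_conj hdt, e1]
      refine (phi_eq hQ.base hQ.below hmem (hr1 x)).mpr ?_
      have hc := hQ.comm _ x₀.2.1 _ (hQ.top.le_one (inv_mem (hr1 x)))
      have hs := inv_mem (hQ.below.sq _ (hr1 x))
      have hn2 := hQ.below.n_one _ (inv_mem (hr1 x)) _ hc
      have := mul_mem hn2 hs
      convert this using 1
      group⟩
    let rep2 : Fd × Fd → G := fun p =>
      if hp : ∃ x : I, (φ₁ x, φ₂ x) = p then rr hp.choose else 1
    have hs2 : ∀ x : I, (rep2 (φ₁ x, φ₂ x))⁻¹ * rr x ∈ Q₂ := by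
      intro x
      have hx : ∃ y : I, (φ₁ y, φ₂ y) = (φ₁ x, φ₂ x) := ⟨x, rfl⟩
      simp only [rep2, dif_pos hx]
      refine (phi_eq hQ.base hQ.below (hr1 x) (hr1 _)).mp ?_
      exact (congrArg Subtype.val (congrArg Subtype.val (congrArg Prod.snd hx.choose_spec))).symm
    let F : I → (Fd × Fd) × ↥Q₂ := fun x =>
      ((φ₁ x, φ₂ x), ⟨(rep2 (φ₁ x, φ₂ x))⁻¹ * rr x, hs2 x⟩)
    have hF : Function.Injective F := by
      intro x y e
      have e1 : (φ₁ x, φ₂ x) = (φ₁ y, φ₂ y) := congrArg Prod.fst e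
      have e2 := congrArg Subtype.val (congrArg Prod.snd e)
      simp only [F, e1] at e2
      have e3 := mul_left_cancel e2
      have e4 : φ₁ x = φ₁ y := congrArg Prod.fst e1
      simp only [rr, e4] at e3
      exact Subtype.ext (mul_left_cancel (mul_left_cancel e3))
    have hhigh := Nat.card_le_card_of_injective F hF
    rw [Nat.card_prod, Nat.card_prod] at hhigh
    have h6 := Nat.mul_le_mul_right (Nat.card ↥Q₂) (Nat.mul_le_mul hFd hFd)
    rw [show (2 : ℕ) ^ (2 * 2) = 16 from rfl] at hCcard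
    omega

end Cfsg.Agent.JTEndDih62
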