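import Cfsg.Agent.Lib.JTChain62
import Cfsg.Agent.Lib.JTTransfer62
import Mathlib.GroupTheory.Nilpotent

/-!
# The exceptional step of the chain: a Sylow subgroup of `GL(3,2)` above `Q⟨t⟩`
-/

set_option autoImplicit false
set_option linter.unusedSectionVars false
set_option linter.style.haveILetI false

namespace Cfsg.Agent.JTThree62

open Subgroup JTChain62
open JTDihedral62 (commute_of_conj conj_of_commute exists_index_two)

section Aut

variable {A : Type*} [Group A] [Finite A]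

private theorem orbit_card (hA : Nat.card A = 8) {B : Subgroup (MulAut A)} (hB : IsPGroup 2 B)
    (x : A) : Nat.card (MulAction.orbit B x) ∣ 4 := by
  haveI : Fact (Nat.Prime 2) := ⟨Nat.prime_two⟩
  obtain ⟨k, hk⟩ := hB.card_orbit x
  rw [hk]
  rcases Nat.lt_or_ge k 3 with h | h
  · exact Nat.pow_dvd_pow 2 (show k ≤ 2 by omega)
  exfalso
  have h1 : (MulAction.orbit B x).ncard ≤ 8 := by
    rw [← hA, ← Set.ncard_univ]; exact Set.ncard_le_ncard (Set.subset_univ _)
  have h2 : 8 ≤ (MulAction.orbit B x).ncard := by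
    rw [← Nat.card_coe_set_eq, hk]
    exact Nat.pow_le_pow_right (n := 2) (by norm_num) h
  have h3 : MulAction.orbit B x = Set.univ :=
    Set.eq_of_subset_of_ncard_le (Set.subset_univ _) (by rw [Set.ncard_univ, hA]; exact h2)
  obtain ⟨b, hb⟩ := (h3.symm ▸ Set.mem_univ (1 : A) : (1 : A) ∈ MulAction.orbit B x)
  have hx : x = 1 := by
    have := (b : MulAut A).injective (a₁ := x) (a₂ := 1)
    exact this (by rw [map_one]; exact hb)
  subst hx
  have h4 : (MulAction.orbit B (1 : A)) ⊆ {1} := by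
    rintro _ ⟨c, rfl⟩
    exact map_one (c : MulAut A)
  have := Set.ncard_le_ncard h4
  rw [Set.ncard_singleton] at this
  omega

private theorem pow_four (hA : Nat.card A = 8) {b : MulAut A} (hb : IsPGroup 2 (zpowers b)) :
    b ^ 4 = 1 := by
  refine MulEquiv.ext fun x => ?_
  have hd := orbit_card hA hb x
  rw [Nat.card_congr (MulAction.orbitEquivQuotientStabilizer (zpowers b) x)] at hd
  have hmem : (⟨b, mem_zpowers b⟩ : zpowers b) ^ 4 ∈ MulAction.stabilizer (zpowers b) x := by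
    obtain ⟨j, hj⟩ := hd
    rw [hj, pow_mul]
    exact pow_mem (Subgroup.pow_index_mem _ _) j
  exact hmem

/-- In a 2-group of automorphisms of order eight all elements of order four are `w` or `w⁻¹`. -/
private theorem four_unique (hA : Nat.card A = 8) {B : Subgroup (MulAut A)} (hB : Nat.card B = 8)
    {w g : MulAut A} (hw : w ∈ B) (hg : g ∈ B) (hw2 : w * w ≠ 1) (hg2 : g * g ≠ 1) :
    g = w ∨ g = w⁻¹ := by
  haveI : Fact (Nat.Prime 2) := ⟨Nat.prime_two⟩
  have hBp : IsPGroup 2 B := IsPGroup.iff_card.mpr ⟨3, hB⟩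
  have hw4 : w ^ 4 = 1 := pow_four hA (hBp.to_le (zpowers_le.mpr hw))
  have hord : orderOf w = 4 := by
    refine orderOf_eq_prime_pow (p := 2) (n := 1) ?_ (by simpa using hw4)
    simpa [sq] using hw2
  obtain ⟨x, hx⟩ : ∃ x, (w * w) x ≠ x := by
    by_contra hall
    push Not at hall
    exact hw2 (MulEquiv.ext hall)
  have hwx : w x ≠ x := fun e => hx (by rw [MulAut.mul_apply, e, e])
  have hcases : ∀ h ∈ zpowers w, h = 1 ∨ h = w ∨ h = w * w ∨ h = w⁻¹ := by
    intro h hh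
    obtain ⟨n, hn⟩ := mem_zpowers_iff.mp hh
    rw [← zpow_mod_orderOf, hord] at hn
    have h4 : n % ((4 : ℕ) : ℤ) = 0 ∨ n % ((4 : ℕ) : ℤ) = 1 ∨ n % ((4 : ℕ) : ℤ) = 2 ∨
        n % ((4 : ℕ) : ℤ) = 3 := by omega
    rcases h4 with e | e | e | e <;> rw [e] at hn
    · exact Or.inl (by rw [← hn, zpow_zero])
    · exact Or.inr (Or.inl (by rw [← hn, zpow_one]))
    · exact Or.inr (Or.inr (Or.inl (by rw [← hn, zpow_two])))
    · refine Or.inr (Or.inr (Or.inr (eq_inv_of_mul_eq_one_left ?_)))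
      rw [← hn, ← zpow_add_one, ← hw4]
      norm_num
  have hw1 : ∀ y, w⁻¹ (w y) = y := fun y => w.symm_apply_apply y
  have hw3x : w⁻¹ x ≠ x := fun e => hwx (by
    conv_lhs => rw [← e]
    exact w.apply_symm_apply x)
  have hzp : ∀ h ∈ zpowers w, h x = x → h = 1 := by
    intro h hh hfix
    rcases hcases h hh with rfl | rfl | rfl | rfl
    · rfl
    · exact absurd hfix hwx
    · exact absurd hfix hx
    · exact absurd hfix hw3x
  have hd := orbit_card hA hBp x
  rw [Nat.card_congr (MulAction.orbitEquivQuotientStabilizer B x), ← Subgroup.index] at hd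
  have hst := (MulAction.stabilizer B x).card_mul_index
  rw [hB] at hst
  have hidx : (MulAction.stabilizer B x).index ≤ 4 := Nat.le_of_dvd (by norm_num) hd
  haveI : Nontrivial (MulAction.stabilizer B x) := by
    rw [← Finite.one_lt_card_iff_nontrivial]
    by_contra hlt
    have := Nat.mul_le_mul (Nat.le_of_not_lt hlt) hidx
    omega
  obtain ⟨⟨⟨e, heB⟩, hex⟩, he1⟩ := exists_ne (1 : MulAction.stabilizer B x)
  have hex' : e x = x := hex
  have he1' : e ≠ 1 := fun h => he1 (Subtype.ext (Subtype.ext h))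
  have he : e ∉ zpowers w := fun h => he1' (hzp e h hex')
  have hwB : zpowers w ≤ B := zpowers_le.mpr hw
  have hidx2 : ((zpowers w).subgroupOf B).index = 2 := by
    have h := ((zpowers w).subgroupOf B).card_mul_index
    rw [hB, Nat.card_congr (subgroupOfEquivOfLe hwB).toEquiv, Nat.card_zpowers, hord] at h
    omega
  have this_normal := normal_of_index_eq_two hidx2
  have hee : e * e ∈ zpowers w := by
    have := Subgroup.sq_mem_of_index_two hidx2 (⟨e, heB⟩ : B)
    rw [mem_subgroupOf] at this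
    simpa [sq] using this
  have he2 : e * e = 1 := hzp _ hee (by rw [MulAut.mul_apply, hex', hex'])
  have heinv : e⁻¹ = e := inv_eq_of_mul_eq_one_right he2
  have hconj : e * w * e⁻¹ ∈ zpowers w := by
    have := this_normal.conj_mem (⟨w, hw⟩ : B) (by rw [mem_subgroupOf]; exact mem_zpowers w) ⟨e, heB⟩
    rw [mem_subgroupOf] at this
    exact this
  have hinv : e * w * e⁻¹ = w⁻¹ := by
    rcases hcases _ hconj with h | h | h | h
    · exact absurd (show w * w = 1 by rw [conj_eq_one_iff.mp h, one_mul]) hw2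
    · exfalso
      apply he1'
      have hc : ∀ y, e (w y) = w (e y) := fun y => by
        rw [← MulAut.mul_apply, ← MulAut.mul_apply, show e * w = w * e from commute_of_conj h]
      let F : Subgroup A :=
        { carrier := {a | e a = a}
          one_mem' := map_one e
          mul_mem' := fun {a b} ha hb => by
            change e (a * b) = a * b
            rw [map_mul, ha, hb]
          inv_mem' := fun {a} ha => by
            change e a⁻¹ = a⁻¹
            rw [map_inv, ha] }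
      have hF : ∀ y, y ∈ F → w y ∈ F := fun y hy => by
        change e (w y) = w y
        rw [hc, (hy : e y = y)]
      have h1 : x ∈ F := hex'
      have h2 := hF _ h1
      have h3 := hF _ h2
      have h4 := hF _ h3
      have hsub : ({1, x, w x, w (w x), w (w (w x))} : Set A) ⊆ F := by
        rintro y (rfl | rfl | rfl | rfl | rfl) <;> first | exact one_mem _ | assumption
      have hxne : x ≠ 1 := fun h => hx (by rw [h, map_one])
      have hfour : w (w (w (w x))) = x := by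
        have := congrArg (fun a : MulAut A => a x) hw4
        simpa [pow_succ, MulAut.mul_apply] using this
      have hne : ∀ y, y ≠ 1 → w y ≠ 1 := fun y hy h => hy (w.injective (h.trans (map_one w).symm))
      have n1 := hne _ hxne
      have n2 := hne _ n1
      have n3 := hne _ n2
      have d13 : x ≠ w (w x) := fun h => hx h.symm
      have d14 : x ≠ w (w (w x)) := fun h => hwx ((congrArg w h).trans hfour)
      have d23 : w x ≠ w (w x) := fun h => hwx (w.injective h).symm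
      have d24 : w x ≠ w (w (w x)) := fun h => d13 (w.injective h)
      have d34 : w (w x) ≠ w (w (w x)) := fun h => d23 (w.injective h)
      have h5 : ({1, x, w x, w (w x), w (w (w x))} : Set A).ncard = 5 := by
        rw [Set.ncard_insert_of_notMem (by simp [hxne.symm, n1.symm, n2.symm, n3.symm]),
          Set.ncard_insert_of_notMem (by simp [hwx.symm, d13, d14]),
          Set.ncard_insert_of_notMem (by simp [d23, d24]), Set.ncard_pair d34]
      have h6 : 5 ≤ Nat.card F := by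
        rw [← h5, show Nat.card F = (F : Set A).ncard from Nat.card_coe_set_eq _]
        exact Set.ncard_le_ncard hsub
      have h7 : Nat.card F ∣ 8 := hA ▸ F.card_subgroup_dvd_card
      have h8 : F = ⊤ := eq_top_of_card_eq F (by
        have := Nat.le_of_dvd (by norm_num) h7
        interval_cases hc : Nat.card F <;> first | exact hA.symm | norm_num at h7)
      exact MulEquiv.ext fun a => (h8.symm ▸ mem_top a : a ∈ F)
    · exfalso
      refine hw2 (?_ : w * w = 1)
      have h' : e * (w * w) * e⁻¹ = (w * w) * (w * w) := by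
        rw [show e * (w * w) * e⁻¹ = (e * w * e⁻¹) * (e * w * e⁻¹) by group, h]
      rw [show (w * w) * (w * w) = w ^ 4 by simp [pow_succ, mul_assoc], hw4] at h'
      exact conj_eq_one_iff.mp h'
    · exact h
  have hgz : g ∈ zpowers w := by
    by_contra hgn
    have hmul : g * e ∈ zpowers w := by
      have := (Subgroup.mul_mem_iff_of_index_two hidx2 (a := (⟨g, hg⟩ : B)) (b := ⟨e, heB⟩)).mpr
        (iff_of_false hgn he)
      rw [mem_subgroupOf] at this
      exact this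
    obtain ⟨n, hn⟩ := mem_zpowers_iff.mp hmul
    apply hg2
    have hge : g = w ^ n * e := by rw [hn, mul_assoc, he2, mul_one]
    have hn' : e * w ^ n * e⁻¹ = (w ^ n)⁻¹ := by rw [← conj_zpow, hinv, inv_zpow]
    rw [hge, show w ^ n * e * (w ^ n * e) = w ^ n * (e * w ^ n * e⁻¹) * (e * e) by group, hn', he2,
      mul_inv_cancel, mul_one]
  rcases hcases g hgz with rfl | rfl | rfl | rfl
  · exact absurd (one_mul 1) hg2
  · exact Or.inl rfl
  · exact absurd (show w * w * (w * w) = 1 by rw [← hw4]; simp [pow_succ, mul_assoc]) hg2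
  · exact Or.inr rfl

end Aut

variable {G : Type*} [Group G] [Finite G] {V Q Q₁ R : Subgroup G} {t c : G} {m : ℕ}

section Gen

variable (hb : Base ⊤ V t c 3) (hl : Layer ⊤ V t Q Q₁ m) (h3 : Three ⊤ V t Q Q₁ R)
include hb hl h3

theorem conj_bound {U : Subgroup G} (hU : IsPGroup 2 U) {u : G} (hu : IsConj t u)
    (hc : ∀ x ∈ U, x * u = u * x) : Nat.card U ≤ 16 := by
  obtain ⟨g, hg⟩ := isConj_iff.mp hu
  rw [← card_map_of_injective (K := U) (f := (MulAut.conj g⁻¹).toMonoidHom)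
    (MulAut.conj g⁻¹).injective]
  refine hb.bound _ le_top (hU.map _) ?_
  rintro _ ⟨x, hx, rfl⟩
  simp only [MulEquiv.coe_toMonoidHom, MulAut.conj_apply, inv_inv]
  have e : x * (g * t * g⁻¹) = (g * t * g⁻¹) * x := hg.symm ▸ hc x hx
  calc g⁻¹ * x * g * t = g⁻¹ * (x * (g * t * g⁻¹)) * g := by group
    _ = t * (g⁻¹ * x * g) := by rw [e]; group

theorem P_le : ext hb hl ≤ R := by
  rintro x (hx | hx)
  · exact h3.le hx
  · have := mul_mem (inv_mem h3.t_mem) (h3.le hx)
    rwa [inv_mul_cancel_left] at this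

theorem Q_conj {r x : G} (hr : r ∈ R) (hx : x ∈ Q) : r * x * r⁻¹ ∈ Q := h3.norm r hr x hx

theorem tQ_conj {r q : G} (hr : r ∈ R) (hq : q ∈ Q) : t * (r * (t * q) * r⁻¹) ∈ Q := by
  have e : t * (r * (t * q) * r⁻¹) = (t * t) * cm t r * (r * q * r⁻¹) := by
    calc t * (r * (t * q) * r⁻¹) = t * ((r * t * r⁻¹) * (r * q * r⁻¹)) := by group
      _ = _ := by rw [conj_t hb hl r]; group
  rw [e, hb.t_sq, one_mul]
  exact mul_mem (h3.norm_t r hr) (h3.norm r hr q hq)

theorem P_conj {r x : G} (hr : r ∈ R) (hx : x ∈ ext hb hl) : r * x * r⁻¹ ∈ ext hb hl := by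
  rcases hx with hx | hx
  · exact Or.inl (h3.norm r hr x hx)
  · refine Or.inr ?_
    have h := tQ_conj hb hl h3 hr hx
    rwa [← mul_assoc t t x, hb.t_sq, one_mul] at h

/-- `R` is transitive on the coset of `t`. -/
theorem class_tQ {q : G} (hq : q ∈ Q) : ∃ r ∈ R, r * t * r⁻¹ = t * q := by
  obtain ⟨r, hr, hrq⟩ := h3.trans q hq
  have hy : r⁻¹ * ((q⁻¹ * cm t r)⁻¹) * r⁻¹⁻¹ ∈ Q₁ := h3.norm_one _ (inv_mem hr) _ (inv_mem hrq)
  have hy' : r⁻¹ * ((cm t r)⁻¹ * q) * r ∈ Q₁ := by
    simpa [mul_assoc] using hy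
  obtain ⟨x, hx, hxt⟩ := exists_conj hb hl hy'
  refine ⟨r * x, mul_mem hr (h3.le hx), ?_⟩
  calc r * x * t * (r * x)⁻¹ = r * (x * t * x⁻¹) * r⁻¹ := by group
    _ = r * t * r⁻¹ * (r * (r⁻¹ * ((cm t r)⁻¹ * q) * r) * r⁻¹) := by rw [hxt]; group
    _ = t * q := by rw [conj_t hb hl r]; group

theorem no_fix {r q : G} (hr : r ∈ R) (hrP : r ∉ ext hb hl) (hq : q ∈ Q) :
    (t * q)⁻¹ * (r * (t * q) * r⁻¹) ∉ Q₁ := by
  intro hy
  obtain ⟨s, hs, hst⟩ := class_tQ hb hl h3 hq
  rw [← hst] at hy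
  have hy' := h3.norm_one _ (inv_mem hs) _ hy
  have e : cm t (s⁻¹ * r * s) = s⁻¹ * ((s * t * s⁻¹)⁻¹ * (r * (s * t * s⁻¹) * r⁻¹)) * s⁻¹⁻¹ := by
    refine mul_left_cancel (a := t) ?_
    rw [← conj_t hb hl]
    group
  rw [← e] at hy'
  have h := h3.fix _ (mul_mem (mul_mem (inv_mem hs) hr) hs) hy'
  have h' := P_conj hb hl h3 hs (show s⁻¹ * r * s ∈ ext hb hl from h)
  rw [show s * (s⁻¹ * r * s) * s⁻¹ = r by group] at h'
  exact hrP h'

theorem no_fix' {r a : G} (hr : r ∈ R) (hrP : r ∉ ext hb hl) (ha : t * a ∈ Q) :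
    r * a * r⁻¹ ≠ a := fun e => by
  refine no_fix hb hl h3 hr hrP ha ?_
  rw [← mul_assoc t t a, hb.t_sq, one_mul, e, inv_mul_cancel]
  exact one_mem _

/-- An involution outside `Q⟨t⟩` does not invert an involution in `tQ`. -/
theorem no_invol {r a : G} (hr : r ∈ R) (hrP : r ∉ ext hb hl) (ha : t * a ∈ Q)
    (h1 : r * r = 1) (h2 : r * a * (r * a) = 1) (h4 : a * a = 1) : False := by
  refine no_fix' hb hl h3 hr hrP ha ?_
  rw [inv_eq_of_mul_eq_one_right h1]
  calc r * a * r = r * a * (r * a) * a := by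
        calc r * a * r = r * a * r * (a * a) := by rw [h4, mul_one]
          _ = _ := by group
    _ = a := by rw [h2, one_mul]

theorem sq_Q {r : G} (hr : r ∈ R) (hrP : r ∉ ext hb hl) (h : r * r ∈ ext hb hl) : r * r ∈ Q := by
  rcases h with h | h
  · exact h
  · exact absurd (by group) (no_fix' hb hl h3 hr hrP h)

/-- A subgroup `K` above `Q` containing all squares of `R`. -/
theorem exists_square : ∃ w ∈ R, (w = 1 ∨ w * w ∉ ext hb hl) ∧
    w * w * (w * w) ∈ Q ∧ ∀ g ∈ R, g * g ∈ Q ∨ w * w * (g * g) ∈ Q := by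
  classical
  have hPsq : ∀ g ∈ ext hb hl, g * g ∈ Q := fun g hg => hl.le_one (sq_mem hb hl hg)
  by_cases hall : ∀ g ∈ R, g * g ∈ ext hb hl
  · refine ⟨1, one_mem _, Or.inl rfl, by simp, fun g hg => Or.inl ?_⟩
    by_cases hgP : g ∈ ext hb hl
    · exact hPsq g hgP
    · exact sq_Q hb hl h3 hg hgP (hall g hg)
  push Not at hall
  obtain ⟨w, hw, hwP⟩ := hall
  -- the automorphisms of `Q / Q₁`
  haveI hN : (Q₁.subgroupOf Q).Normal := ⟨fun a ha b => hl.n_one _ b.2 _ ha⟩
  let A := ↥Q ⧸ Q₁.subgroupOf Q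
  have hA : Nat.card A = 8 := by
    have h1 := (Q₁.subgroupOf Q).card_mul_index
    rw [Nat.card_congr (subgroupOfEquivOfLe hl.le_one).toEquiv, JTChain62.card_eq hb hl,
      mul_comm (2 ^ 3)] at h1
    exact Nat.eq_of_mul_eq_mul_left Nat.card_pos h1
  let conjQ : ↥R → ↥Q → ↥Q := fun r x => ⟨(r : G) * x * (r : G)⁻¹, h3.norm _ r.2 _ x.2⟩
  let σ : ↥R → A →* A := fun r => QuotientGroup.map _ _
    ({ toFun := conjQ r
       map_one' := Subtype.ext (by simp [conjQ])
       map_mul' := fun x y => Subtype.ext (by simp [conjQ, mul_assoc]) } : ↥Q →* ↥Q)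
    fun x hx => h3.norm_one _ r.2 _ hx
  have hσ : ∀ r x, σ r (QuotientGroup.mk x) = QuotientGroup.mk (conjQ r x) := fun r x => rfl
  have hσmul : ∀ r r' a, σ (r * r') a = σ r (σ r' a) := fun r r' a => by
    induction a using QuotientGroup.induction_on with
    | H x => rw [hσ, hσ, hσ]; exact congrArg _ (Subtype.ext (by simp [conjQ, mul_assoc]))
  have hσone : ∀ a, σ 1 a = a := fun a => by
    induction a using QuotientGroup.induction_on with
    | H x => rw [hσ]; exact congrArg _ (Subtype.ext (by simp [conjQ]))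
  let τ : ↥R → MulAut A := fun r =>
    { toFun := σ r
      invFun := σ r⁻¹
      left_inv := fun a => by rw [← hσmul, inv_mul_cancel, hσone]
      right_inv := fun a => by rw [← hσmul, mul_inv_cancel, hσone]
      map_mul' := (σ r).map_mul }
  let ρ : ↥R →* MulAut A :=
    { toFun := τ
      map_one' := MulEquiv.ext hσone
      map_mul' := fun r r' => MulEquiv.ext (hσmul r r') }
  have hker : ∀ r : ↥R, ρ r = 1 ↔ (r : G) ∈ ext hb hl := by
    intro r
    constructor
    · intro e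
      refine h3.faith _ r.2 fun x hx => ?_
      have h1 : σ r (QuotientGroup.mk ⟨x, hx⟩) = QuotientGroup.mk ⟨x, hx⟩ :=
        congrArg (fun b : MulAut A => b (QuotientGroup.mk ⟨x, hx⟩)) e
      rw [hσ] at h1
      have h2 := QuotientGroup.eq.mp h1.symm
      exact h2
    · intro hr
      refine MulEquiv.ext fun a => ?_
      induction a using QuotientGroup.induction_on with
      | H x =>
        show σ r (QuotientGroup.mk x) = QuotientGroup.mk x
        rw [hσ]
        refine QuotientGroup.eq.mpr ?_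
        rw [mem_subgroupOf]
        have h2 := comm_mem hb hl (inv_mem hr) (Or.inl x.2)
        have h4 := norm_one hb hl hr (inv_mem h2)
        simp only [conjQ, coe_mul, coe_inv]
        convert hl.n_one _ (inv_mem x.2) _ (inv_mem h4) using 1
        group
  have hB : Nat.card ρ.range = 8 := by
    rw [← Subgroup.index_ker]
    have hk : ρ.ker = (ext hb hl).subgroupOf R := by
      ext r; rw [MonoidHom.mem_ker, hker, mem_subgroupOf]
    have h1 := ρ.ker.card_mul_index
    rw [hk, Nat.card_congr (subgroupOfEquivOfLe (P_le hb hl h3)).toEquiv, card_ext hb hl, h3.card,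
      show 16 * Nat.card Q = 2 * Nat.card Q * 8 by ring] at h1
    rw [hk]
    exact Nat.eq_of_mul_eq_mul_left (Nat.mul_pos (by norm_num) Nat.card_pos) h1
  have hne : ∀ {g : G} (hg : g ∈ R), g * g ∉ ext hb hl → ρ ⟨g, hg⟩ * ρ ⟨g, hg⟩ ≠ 1 :=
    fun hg h e => h ((hker (⟨_, hg⟩ * ⟨_, hg⟩)).mp (by rw [map_mul]; exact e))
  have hw4 : w * w * (w * w) ∈ Q := by
    refine sq_Q hb hl h3 (mul_mem hw hw) hwP ((hker (⟨w, hw⟩ * ⟨w, hw⟩ * (⟨w, hw⟩ * ⟨w, hw⟩))).mp ?_)
    have h4 := pow_four hA (b := ρ ⟨w, hw⟩)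
      ((IsPGroup.iff_card.mpr ⟨3, hB⟩ : IsPGroup 2 ρ.range).to_le (zpowers_le.mpr ⟨_, rfl⟩))
    rw [map_mul, map_mul, ← h4]
    simp [pow_succ, mul_assoc]
  refine ⟨w, hw, Or.inr hwP, hw4, fun g hg => ?_⟩
  by_cases hgP : g ∈ ext hb hl
  · exact Or.inl (hPsq g hgP)
  by_cases hg2 : g * g ∈ ext hb hl
  · exact Or.inl (sq_Q hb hl h3 hg hgP hg2)
  right
  -- `g ∈ w^{±1} Q⟨t⟩`
  have key : ∀ {v : G}, v ∈ R → v⁻¹ * g ∈ ext hb hl → (v * v)⁻¹ * (g * g) ∈ Q := by
    intro v hv hp
    have e : (v * v)⁻¹ * (g * g) = (v⁻¹ * (v⁻¹ * g) * v) * (v⁻¹ * g) := by group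
    rw [e]
    rcases hp with hp | hp
    · exact mul_mem (by simpa using h3.norm _ (inv_mem hv) _ hp) hp
    · have h1 : t * (v⁻¹ * (v⁻¹ * g) * v) ∈ Q := by
        have := tQ_conj hb hl h3 (inv_mem hv) hp
        rwa [← mul_assoc t t, hb.t_sq, one_mul, inv_inv] at this
      have h2 := mul_mem (tq hb hl h1) hp
      rwa [show t * (t * (v⁻¹ * (v⁻¹ * g) * v)) * t * (t * (v⁻¹ * g)) =
        (t * t) * (v⁻¹ * (v⁻¹ * g) * v) * (t * t) * (v⁻¹ * g) by group, hb.t_sq, one_mul, mul_one]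
        at h2
  rcases four_unique hA hB ⟨⟨w, hw⟩, rfl⟩ ⟨⟨g, hg⟩, rfl⟩ (hne hw hwP) (hne hg hg2) with e | e
  · have h1 := key hw ((hker (⟨w, hw⟩⁻¹ * ⟨g, hg⟩)).mp (by rw [map_mul, map_inv, e, inv_mul_cancel]))
    have h2 := mul_mem hw4 h1
    rwa [show w * w * (w * w) * ((w * w)⁻¹ * (g * g)) = w * w * (g * g) by
      rw [mul_assoc (w * w) (w * w), mul_inv_cancel_left]] at h2
  · have h1 := key (inv_mem hw) ((hker (⟨w, hw⟩⁻¹⁻¹ * ⟨g, hg⟩)).mp (by
      rw [map_mul, map_inv, map_inv, e, inv_mul_cancel]))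
    rwa [show (w⁻¹ * w⁻¹)⁻¹ = w * w by rw [mul_inv_rev, inv_inv]] at h1

theorem exists_K : ∃ K : Subgroup G, ∃ w ∈ R, (w = 1 ∨ w * w ∉ ext hb hl) ∧ Q ≤ K ∧ K ≤ R ∧
    (∀ g ∈ R, g * g ∈ K) ∧ (∀ x, x ∈ K ↔ x ∈ Q ∨ w * w * x ∈ Q) ∧ w * w * (w * w) ∈ Q := by
  obtain ⟨w, hw, hwP, hw4, hsq⟩ := exists_square hb hl h3
  set z := w * w with hz
  have hzR : z ∈ R := mul_mem hw hw
  have hcz : ∀ {a}, a ∈ Q → z * a * z⁻¹ ∈ Q := fun ha => h3.norm z hzR _ ha
  have hcz' : ∀ {a}, a ∈ Q → z⁻¹ * a * z ∈ Q := fun ha => by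
    simpa using h3.norm _ (inv_mem hzR) _ ha
  refine ⟨{ carrier := {x | x ∈ Q ∨ z * x ∈ Q}
            one_mem' := Or.inl (one_mem _)
            mul_mem' := ?_
            inv_mem' := ?_ }, w, hw, hwP, fun x hx => Or.inl hx, ?_, hsq, fun x => Iff.rfl, hw4⟩
  · rintro a b (ha | ha) (hb' | hb')
    · exact Or.inl (mul_mem ha hb')
    · refine Or.inr ?_
      rw [show z * (a * b) = (z * a * z⁻¹) * (z * b) by group]
      exact mul_mem (hcz ha) hb'
    · exact Or.inr (by rw [← mul_assoc]; exact mul_mem ha hb')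
    · refine Or.inl ?_
      rw [show a * b = z⁻¹ * ((z * a) * (z * z)⁻¹) * z * (z * b) by group]
      exact mul_mem (hcz' (mul_mem ha (inv_mem hw4))) hb'
  · rintro a (ha | ha)
    · exact Or.inl (inv_mem ha)
    · refine Or.inr ?_
      rw [show z * a⁻¹ = z * (z * a)⁻¹ * z⁻¹ * (z * z) by group]
      exact mul_mem (hcz (inv_mem ha)) hw4
  · rintro x (hx | hx)
    · exact h3.le hx
    · have := mul_mem (inv_mem hzR) (h3.le hx)
      rwa [inv_mul_cancel_left] at this

omit hb hl h3 in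
theorem comm_K {K : Subgroup G} (hsq : ∀ g ∈ R, g * g ∈ K) {x y : G} (hx : x ∈ R) (hy : y ∈ R) :
    x * y * x⁻¹ * y⁻¹ ∈ K := by
  rw [show x * y * x⁻¹ * y⁻¹ =
    (x * y * (x * y)) * (y⁻¹ * x⁻¹ * y * (y⁻¹ * x⁻¹ * y)) * (y⁻¹ * y⁻¹) by group]
  exact mul_mem (mul_mem (hsq _ (mul_mem hx hy))
    (hsq _ (mul_mem (mul_mem (inv_mem hy) (inv_mem hx)) hy))) (hsq _ (inv_mem hy))

omit hb hl h3 in
theorem conj_K {K : Subgroup G} (hsq : ∀ g ∈ R, g * g ∈ K) (hKR : K ≤ R) {x y : G} (hx : x ∈ R)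
    (hy : y ∈ K) : x * y * x⁻¹ ∈ K := by
  have := mul_mem (comm_K hsq hx (hKR hy)) hy
  rwa [inv_mul_cancel_right] at this

theorem K_inter {K : Subgroup G} {w : G} (hw : w = 1 ∨ w * w ∉ ext hb hl)
    (hKiff : ∀ x, x ∈ K ↔ x ∈ Q ∨ w * w * x ∈ Q) {x : G} (hx : x ∈ ext hb hl) (hxK : x ∈ K) :
    x ∈ Q := by
  rcases (hKiff x).mp hxK with h | h
  · exact h
  · rcases hw with rfl | hw
    · simpa using h
    · refine absurd ?_ hw
      have := mul_mem (le_ext hb hl h) (inv_mem hx)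
      rwa [mul_inv_cancel_right] at this

omit hb hl h3 in
/-- The size of the class of `u` under `R`. -/
theorem orbit_eq (R : Subgroup G) (u : G) : {x | ∃ r ∈ R, r * u * r⁻¹ = x}.ncard *
    Nat.card ↥(R ⊓ centralizer ({u} : Set G)) = Nat.card R := by
  set C := (R ⊓ centralizer ({u} : Set G)).subgroupOf R with hC
  have key : ∀ a b : R, a⁻¹ * b ∈ C ↔ (a : G) * u * (a : G)⁻¹ = (b : G) * u * (b : G)⁻¹ := by
    intro a b
    rw [hC, mem_subgroupOf, mem_inf, mem_centralizer_singleton_iff]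
    simp only [coe_mul, coe_inv]
    constructor
    · rintro ⟨-, e⟩
      calc (a : G) * u * (a : G)⁻¹ = (a : G) * (u * ((a : G)⁻¹ * b)) * (b : G)⁻¹ := by group
        _ = (b : G) * u * (b : G)⁻¹ := by rw [← e]; group
    · intro e
      refine ⟨mul_mem (inv_mem a.2) b.2, ?_⟩
      calc (a : G)⁻¹ * b * u = (a : G)⁻¹ * ((b : G) * u * (b : G)⁻¹) * b := by group
        _ = u * ((a : G)⁻¹ * b) := by rw [← e]; group
  let f : ↥R ⧸ C → {x : G | ∃ r ∈ R, r * u * r⁻¹ = x} := Quotient.lift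
    (fun a : R => ⟨(a : G) * u * (a : G)⁻¹, a, a.2, rfl⟩)
    (fun a b hab => Subtype.ext ((key a b).mp (QuotientGroup.leftRel_apply.mp hab)))
  have hf : Function.Bijective f := by
    constructor
    · intro p q hpq
      induction p using Quotient.inductionOn with
      | h a =>
        induction q using Quotient.inductionOn with
        | h b =>
          exact Quotient.sound (QuotientGroup.leftRel_apply.mpr
            ((key a b).mpr (congrArg Subtype.val hpq)))
    · rintro ⟨x, r, hr, rfl⟩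
      exact ⟨Quotient.mk _ ⟨r, hr⟩, rfl⟩
  rw [← Nat.card_coe_set_eq, ← Nat.card_eq_of_bijective f hf, ← Subgroup.index, mul_comm,
    show Nat.card ↥(R ⊓ centralizer ({u} : Set G)) = Nat.card C from
      (Nat.card_congr (subgroupOfEquivOfLe inf_le_left).toEquiv).symm]
  exact C.card_mul_index

/-- The part of `Q` fixed by `u` modulo `Q₁`. -/
theorem exists_fix {u : G} (hu : u ∈ R) (huP : u ∉ ext hb hl) : ∃ F : Subgroup G, F ≤ Q ∧
    Q₁ ≤ F ∧ 2 * Nat.card F ≤ Nat.card Q ∧
    ∀ y, y ∈ F ↔ y ∈ Q ∧ y⁻¹ * (u * y * u⁻¹) ∈ Q₁ := by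
  let F : Subgroup G :=
    { carrier := {y | y ∈ Q ∧ y⁻¹ * (u * y * u⁻¹) ∈ Q₁}
      one_mem' := ⟨one_mem _, by simp⟩
      mul_mem' := by
        rintro a b ⟨ha, ha'⟩ ⟨hb', hb''⟩
        refine ⟨mul_mem ha hb', ?_⟩
        have h := hl.n_one _ (inv_mem hb') _ ha'
        rw [show (a * b)⁻¹ * (u * (a * b) * u⁻¹) =
          (b⁻¹ * (a⁻¹ * (u * a * u⁻¹)) * b⁻¹⁻¹) * (b⁻¹ * (u * b * u⁻¹)) by group]
        exact mul_mem h hb''
      inv_mem' := by
        rintro a ⟨ha, ha'⟩
        refine ⟨inv_mem ha, ?_⟩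
        rw [show a⁻¹⁻¹ * (u * a⁻¹ * u⁻¹) = a * (a⁻¹ * (u * a * u⁻¹))⁻¹ * a⁻¹ by group]
        exact hl.n_one _ ha _ (inv_mem ha') }
  refine ⟨F, fun y hy => hy.1, fun y hy => ⟨hl.le_one hy, ?_⟩, ?_, fun y => Iff.rfl⟩
  · exact mul_mem (inv_mem hy) (h3.norm_one u hu y hy)
  · have hne : ¬ Q ≤ F := fun h => huP (h3.faith u hu fun x hx => (h hx).2)
    have hle : F ≤ Q := fun y hy => hy.1
    have h1 := (F.subgroupOf Q).card_mul_index
    rw [Nat.card_congr (subgroupOfEquivOfLe hle).toEquiv] at h1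
    rw [← h1, mul_comm]
    refine Nat.mul_le_mul_left _ ?_
    rcases Nat.lt_or_ge (F.subgroupOf Q).index 2 with h | h
    · have h0 := (F.subgroupOf Q).index_ne_zero_of_finite
      exact absurd (subgroupOf_eq_top.mp (index_eq_one.mp (by omega))) hne
    · exact h

/-- Involutions in a coset of `Q` outside `Q⟨t⟩`. -/
theorem invol_coset {u a : G} (ha : u⁻¹ * a ∈ Q) (hu1 : u * u = 1) (ha1 : a * a = 1) :
    u * (u⁻¹ * a) * u⁻¹ = (u⁻¹ * a)⁻¹ ∧ (u⁻¹ * a)⁻¹ * (u * (u⁻¹ * a) * u⁻¹) ∈ Q₁ := by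
  have h1 : u * (u⁻¹ * a) * u⁻¹ = (u⁻¹ * a)⁻¹ := by
    rw [mul_inv_cancel_left, mul_inv_rev, inv_inv, inv_eq_of_mul_eq_one_right ha1,
      inv_eq_of_mul_eq_one_right hu1]
  refine ⟨h1, ?_⟩
  rw [h1]
  have := hl.sq _ (inv_mem ha)
  exact this

/-- A conjugate of `t` in `Q⟨t⟩` with a centraliser of order 16 lies in the coset of `t`. -/
theorem in_tQ (hbig : ∀ v ∈ Q, IsConj t v → ∃ U : Subgroup G, IsPGroup 2 U ∧
      (∀ x ∈ U, x * v = v * x) ∧ 16 < Nat.card U)
    {a : G} (ha : a ∈ ext hb hl) (hconj : IsConj t a) : t * a ∈ Q := by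
  refine ha.resolve_left fun haQ => ?_
  obtain ⟨U, hU, hUc, hlt⟩ := hbig a haQ hconj
  exact absurd (conj_bound hb hl h3 hU hconj hUc) (not_le.mpr hlt)

omit hb hl h3 in
theorem eq_of_self_normalizing {S₀ : Subgroup G} (hS : IsPGroup 2 S₀) {A : Subgroup G} (hA : A ≤ S₀)
    (h : ∀ x ∈ S₀, (∀ a ∈ A, x * a * x⁻¹ ∈ A) → x ∈ A) : A = S₀ := by
  by_contra hne
  haveI : Fact (Nat.Prime 2) := ⟨Nat.prime_two⟩
  haveI : Group.IsNilpotent S₀ := hS.isNilpotent
  have hlt : A.subgroupOf S₀ < ⊤ := lt_top_iff_ne_top.mpr fun e =>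
    hne (le_antisymm hA (subgroupOf_eq_top.mp e))
  obtain ⟨x, hx, hxA⟩ := SetLike.exists_of_lt (Group.normalizerCondition_of_isNilpotent _ hlt)
  refine hxA ?_
  rw [mem_subgroupOf]
  refine h _ x.2 fun a ha => ?_
  have := (mem_normalizer_iff.mp hx ⟨a, hA ha⟩).mp (by rw [mem_subgroupOf]; exact ha)
  rwa [mem_subgroupOf] at this

/-- A 2-group normalising `R` and preserving the coset of `t` is `R`. -/
theorem stab_tQ {R' : Subgroup G} (hR' : IsPGroup 2 R') (hle : R ≤ R') {g : G} (hg : g ∈ R')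
    (hgt : ∀ x, t * x ∈ Q → t * (g * x * g⁻¹) ∈ Q) : g ∈ R := by
  let W : Subgroup G :=
    { carrier := {h | h ∈ R' ∧ ∀ x, t * x ∈ Q → t * (h * x * h⁻¹) ∈ Q}
      one_mem' := ⟨one_mem _, fun x hx => by simpa using hx⟩
      mul_mem' := by
        rintro a b ⟨ha, ha'⟩ ⟨hb', hb''⟩
        refine ⟨mul_mem ha hb', fun x hx => ?_⟩
        rw [show a * b * x * (a * b)⁻¹ = a * (b * x * b⁻¹) * a⁻¹ by group]
        exact ha' _ (hb'' x hx)
      inv_mem' := by
        rintro a ⟨ha, ha'⟩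
        refine ⟨inv_mem ha, fun x hx => ?_⟩
        have hfin : Set.Finite {x : G | t * x ∈ Q} := Set.toFinite _
        have himg : (fun x => a * x * a⁻¹) '' {x : G | t * x ∈ Q} = {x : G | t * x ∈ Q} :=
          Set.eq_of_subset_of_ncard_le (by rintro _ ⟨y, hy, rfl⟩; exact ha' y hy)
            (by rw [Set.ncard_image_of_injective _ fun p q h => mul_left_cancel (mul_right_cancel h)])
            hfin
        obtain ⟨y, hy, e⟩ := (himg.symm ▸ hx : x ∈ (fun x => a * x * a⁻¹) '' {x : G | t * x ∈ Q})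
        rw [← e]
        simpa [mul_assoc] using hy }
  have hRW : R ≤ W := fun r hr => ⟨hle hr, fun x hx => by
    have := tQ_conj hb hl h3 hr hx
    rwa [← mul_assoc t t x, hb.t_sq, one_mul] at this⟩
  have e := h3.max W (hR'.to_le fun h hh => hh.1) le_top hRW (fun r hr x hx => ?_)
  · exact e ▸ (⟨hg, hgt⟩ : g ∈ W)
  · rcases hx with hx | hx
    · left
      have h1 := hr.2 (t * x) (by rwa [← mul_assoc, hb.t_sq, one_mul])
      have h2 := hr.2 t (by rw [hb.t_sq]; exact one_mem _)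
      have h3' := mul_mem (inv_mem h2) h1
      rwa [show (t * (r * t * r⁻¹))⁻¹ * (t * (r * (t * x) * r⁻¹)) = r * x * r⁻¹ by group] at h3'
    · exact Or.inr (hr.2 x hx)

theorem centralizer_big {a : G} (ha : t * a ∈ Q) :
    IsConj t a ∧ 16 ≤ Nat.card ↥(R ⊓ centralizer ({a} : Set G)) := by
  obtain ⟨r, hr, hra⟩ := class_tQ hb hl h3 ha
  have hra' : r * t * r⁻¹ = a := by rw [hra, ← mul_assoc, hb.t_sq, one_mul]
  refine ⟨isConj_iff.mpr ⟨r, hra'⟩, ?_⟩
  have hT : Nat.card ↥(ext hb hb.layer) = 16 := by rw [card_ext hb hb.layer, hb.card_V]; norm_num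
  rw [← hT, ← card_map_of_injective (K := ext hb hb.layer) (f := (MulAut.conj r).toMonoidHom)
    (MulAut.conj r).injective]
  refine card_le_of_le ?_
  rintro _ ⟨x, hx, rfl⟩
  simp only [MulEquiv.coe_toMonoidHom, MulAut.conj_apply]
  have hxR : x ∈ R := P_le hb hl h3 (hx.imp (fun e => hl.V_le e) (fun e => hl.V_le e))
  refine ⟨show r * x * r⁻¹ ∈ R from mul_mem (mul_mem hr hxR) (inv_mem hr),
    mem_centralizer_singleton_iff.mpr ?_⟩
  rw [← hra']
  have hxt : x * t = t * x := by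
    rcases hx with hx | hx
    · exact (commute_of_conj (hb.comm x hx)).symm
    · have := commute_of_conj (hb.comm _ hx)
      calc x * t = t⁻¹ * ((t * x) * t) := by group
        _ = t * x := by rw [← this]; group
  calc r * x * r⁻¹ * (r * t * r⁻¹) = r * (x * t) * r⁻¹ := by group
    _ = _ := by rw [hxt]; group

theorem finish [IsSimpleGroup G] (hG : ¬ IsMulCommutative G) {K : Subgroup G} {w : G} (hQK : Q ≤ K)
    (hKR : K ≤ R) (hsq : ∀ g ∈ R, g * g ∈ K) (hKiff : ∀ x, x ∈ K ↔ x ∈ Q ∨ w * w * x ∈ Q)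
    (hwP : w = 1 ∨ w * w ∉ ext hb hl)
    (hout : ∀ a ∈ R, IsConj t a → 16 ≤ Nat.card ↥(R ⊓ centralizer ({a} : Set G)) → t * a ∈ Q) :
    False := by
  haveI : Fact (Nat.Prime 2) := ⟨Nat.prime_two⟩
  -- `R` is a Sylow subgroup
  obtain ⟨S, hS⟩ := h3.pR.exists_le_sylow
  have htR := h3.t_mem
  have hext16 : ∀ a, t * a ∈ Q → IsConj t a ∧ 16 ≤ Nat.card ↥(R ⊓ centralizer ({a} : Set G)) :=
    fun a ha => centralizer_big hb hl h3 ha
  have hRS : R = (S : Subgroup G) := by
    refine eq_of_self_normalizing S.isPGroup' hS fun g hg hgR => ?_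
    refine stab_tQ hb hl h3 S.isPGroup' hS hg fun x hx => ?_
    obtain ⟨hc, hcard⟩ := hext16 x hx
    refine hout _ (hgR x (by
      have := mul_mem (inv_mem htR) (h3.le hx)
      rwa [inv_mul_cancel_left] at this)) (hc.trans (isConj_iff.mpr ⟨g, rfl⟩)) ?_
    refine hcard.trans ?_
    rw [← card_map_of_injective (K := R ⊓ centralizer ({x} : Set G))
      (f := (MulAut.conj g).toMonoidHom) (MulAut.conj g).injective]
    refine card_le_of_le ?_
    rintro _ ⟨y, ⟨hy, hyc⟩, rfl⟩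
    simp only [MulEquiv.coe_toMonoidHom, MulAut.conj_apply]
    refine ⟨hgR y hy, mem_centralizer_singleton_iff.mpr ?_⟩
    have hyx := mem_centralizer_singleton_iff.mp hyc
    calc g * y * g⁻¹ * (g * x * g⁻¹) = g * (y * x) * g⁻¹ := by group
      _ = _ := by rw [hyx]; group
  have htK : t ∉ K := fun hh => hl.t_notMem (K_inter hb hl h3 hwP hKiff (t_mem_ext hb hl) hh)
  obtain ⟨M, hKM, hMS, hidx, htM⟩ := exists_index_two (S : Subgroup G) K (hKR.trans hS)
    (fun s hs => hsq s (hRS ▸ hs)) (hS htR) htK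
  have hT16 : Nat.card ↥(ext hb hb.layer) = 16 := by rw [card_ext hb hb.layer, hb.card_V]; norm_num
  obtain ⟨g, hgM, hgC⟩ := JTTransfer62.exists_extremal hG S hMS hidx
    (orderOf_eq_prime (by rw [sq]; exact hb.t_sq) fun e => hb.t_notMem (by rw [e]; exact one_mem V)) htM
    (T := ext hb hb.layer) (ext_pGroup hb hb.layer) (t_mem_ext hb hb.layer) (fun x hx => by
      rcases hx with hx | hx
      · exact (commute_of_conj (hb.comm x hx)).symm
      · have := commute_of_conj (hb.comm _ hx)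
        calc x * t = t⁻¹ * ((t * x) * t) := by group
          _ = t * x := by rw [← this]; group)
  have h1 := hout (g⁻¹ * t * g) (hRS.symm ▸ hMS hgM) (isConj_iff.mpr ⟨g⁻¹, by group⟩) (by
    rw [← hT16, hRS]; exact hgC)
  refine htM ?_
  have h2 := mul_mem (hKM (hQK h1)) (inv_mem hgM)
  rwa [mul_inv_cancel_right] at h2

end Gen

theorem three_two [IsSimpleGroup G] (hG : ¬ IsMulCommutative G) {Q₂ : Subgroup G}
    (h : Two ⊤ V t c 3 Q Q₁ Q₂ m) (h3 : Three ⊤ V t Q Q₁ R) : False := by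
  classical
  haveI : Fact (Nat.Prime 2) := ⟨Nat.prime_two⟩
  have hb := h.base
  have hl := h.top
  have hl' := h.below
  have hbig : ∀ v ∈ Q, IsConj t v → ∃ U : Subgroup G, IsPGroup 2 U ∧
      (∀ x ∈ U, x * v = v * x) ∧ 16 < Nat.card U := fun v hv _ =>
    ⟨Q ⊓ centralizer ({v} : Set G), hl.pQ.to_le inf_le_left,
      fun x hx => mem_centralizer_singleton_iff.mp hx.2,
      lt_of_lt_of_le (show 16 < 2 ^ (2 * 3) by norm_num) (h.big hv)⟩
  obtain ⟨K, w, hw, hwP, hQK, hKR, hsq, hKiff, -⟩ := exists_K hb hl h3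
  set z := w * w with hz
  have hzR : z ∈ R := mul_mem hw hw
  -- no conjugate of `t` outside `Q⟨t⟩` has a centraliser of order 16
  have hout : ∀ a ∈ R, IsConj t a → 16 ≤ Nat.card ↥(R ⊓ centralizer ({a} : Set G)) →
      t * a ∈ Q := by
    intro u hu hconj h16
    by_cases huP : u ∈ ext hb hl
    · exact in_tQ hb hl h3 hbig huP hconj
    exfalso
    have hu1 : ∀ {x}, IsConj t x → x * x = 1 := fun {x} hx => by
      obtain ⟨g, rfl⟩ := isConj_iff.mp hx
      rw [show g * t * g⁻¹ * (g * t * g⁻¹) = g * (t * t) * g⁻¹ by group, hb.t_sq, mul_one,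
        mul_inv_cancel]
    set O := {x | ∃ r ∈ R, r * u * r⁻¹ = x} with hO
    have horb := orbit_eq R u
    rw [← hO, h3.card] at horb
    have hle16 := conj_bound hb hl h3 (h3.pR.to_le (inf_le_left (b := centralizer ({u} : Set G))))
      hconj fun x hx => mem_centralizer_singleton_iff.mp hx.2
    have hC16 : Nat.card ↥(R ⊓ centralizer ({u} : Set G)) = 16 := le_antisymm hle16 h16
    have hOcard : O.ncard = Nat.card Q := by rw [hC16] at horb; omega
    let I : G → Set G := fun a => {x | a⁻¹ * x ∈ Q ∧ x ∈ O}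
    have hOinv : ∀ x ∈ O, x * x = 1 ∧ x ∈ R ∧ x ∉ ext hb hl := by
      rintro _ ⟨r, hr, rfl⟩
      refine ⟨hu1 (hconj.trans (isConj_iff.mpr ⟨r, rfl⟩)), mul_mem (mul_mem hr hu) (inv_mem hr),
        fun hh => huP ?_⟩
      have h1 := P_conj hb hl h3 (inv_mem hr) hh
      rwa [show r⁻¹ * (r * u * r⁻¹) * r⁻¹⁻¹ = u by group] at h1
    have hsub : O ⊆ I u ∪ I (u * z⁻¹) := by
      rintro x hx
      obtain ⟨r, hr, rfl⟩ := id hx
      have h1 := conj_K hsq hKR (inv_mem hu) (comm_K hsq hr hu)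
      rcases (hKiff _).mp h1 with h2 | h2
      · refine Or.inl ⟨?_, hx⟩
        convert h2 using 1
        group
      · refine Or.inr ⟨?_, hx⟩
        convert h2 using 1
        group
    have hI : ∀ a, 2 * (I a).ncard ≤ Nat.card Q := by
      intro a
      rcases (I a).eq_empty_or_nonempty with he | ⟨b, hb1, hb2⟩
      · rw [he, Set.ncard_empty]; omega
      obtain ⟨hbb, hbR, hbP⟩ := hOinv b hb2
      obtain ⟨F, hFQ, hF1, hFcard, hFiff⟩ := exists_fix hb hl h3 hbR hbP
      refine le_trans (Nat.mul_le_mul_left 2 ?_) hFcard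
      rw [show Nat.card F = (F : Set G).ncard from Nat.card_coe_set_eq _]
      refine Set.ncard_le_ncard_of_injOn (fun x => b⁻¹ * x) ?_
        (fun x _ y _ e => mul_left_cancel e)
      rintro x ⟨hx1, hx2⟩
      have hq : b⁻¹ * x ∈ Q := by
        have := mul_mem (inv_mem hb1) hx1
        rwa [show (a⁻¹ * b)⁻¹ * (a⁻¹ * x) = b⁻¹ * x by group] at this
      exact (hFiff _).mpr ⟨hq, (invol_coset hb hl h3 hq hbb (hOinv x hx2).1).2⟩
    -- both cosets are full
    obtain ⟨F, hFQ, hF1, hFcard, hFiff⟩ := exists_fix hb hl h3 hu huP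
    have huI : u ∈ I u := ⟨by simp, 1, one_mem _, by simp⟩
    have hfull : (fun x => u⁻¹ * x) '' I u = (F : Set G) := by
      refine Set.eq_of_subset_of_ncard_le ?_ ?_
      · rintro _ ⟨x, ⟨hx1, hx2⟩, rfl⟩
        exact (hFiff _).mpr ⟨hx1, (invol_coset hb hl h3 hx1 (hu1 hconj) (hOinv x hx2).1).2⟩
      · rw [Set.ncard_image_of_injective _ (mul_right_injective _),
          show (F : Set G).ncard = Nat.card F from (Nat.card_coe_set_eq _).symm]
        have h1 := Set.ncard_le_ncard hsub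
        have h2 := Set.ncard_union_le (I u) (I (u * z⁻¹))
        have h4 := hI u
        have h5 := hI (u * z⁻¹)
        omega
    have hinv : ∀ y ∈ Q₁, u * y * u⁻¹ = y⁻¹ := by
      intro y hy
      obtain ⟨x, ⟨hx1, hx2⟩, rfl⟩ := (hfull.symm ▸ hF1 hy : y ∈ (fun x => u⁻¹ * x) '' I u)
      exact (invol_coset hb hl h3 hx1 (hu1 hconj) (hOinv x hx2).1).1
    refine huP (h3.faith u hu fun x hx => ?_)
    set x' := u * x * u⁻¹ with hx'
    have hx'Q : x' ∈ Q := h3.norm u hu x hx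
    have hq0 : t * (u * t * u⁻¹) ∈ Q := by
      have := tQ_conj hb hl h3 hu (one_mem Q)
      rwa [mul_one] at this
    set q0 := t * (u * t * u⁻¹) with hq0def
    set y := cm t x with hy
    have hy1 : y ∈ Q₁ := hl.fmem x hx
    have hcm : u * y * u⁻¹ = t * ((q0 * x' * q0⁻¹ * x'⁻¹)) * t⁻¹ * cm t x' := by
      have hut : u * t * u⁻¹ = t * q0 := by rw [hq0def, ← mul_assoc, hb.t_sq, one_mul]
      rw [hy, cm, show u * (t * x * t⁻¹ * x⁻¹) * u⁻¹ =
        (u * t * u⁻¹) * x' * (u * t * u⁻¹)⁻¹ * x'⁻¹ by rw [hx']; group, hut, cm]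
      group
    have htQ2 : ∀ a ∈ Q₂, t * a * t⁻¹ ∈ Q₂ := fun a ha => by
      have := mul_mem (hl'.fmem a (hl'.le_one ha)) ha
      rwa [show cm t a * a = t * a * t⁻¹ by unfold cm; group] at this
    have hk := htQ2 _ (h.comm q0 hq0 x' hx'Q)
    have hyx' : cm t x' = (t * (q0 * x' * q0⁻¹ * x'⁻¹) * t⁻¹)⁻¹ * y⁻¹ := by
      rw [← hinv y hy1, hcm]; group
    have h4 : y⁻¹ * cm t x' ∈ Q₂ := by
      have hyy := hl'.sq y⁻¹ (inv_mem hy1)
      have := hl'.n_one y⁻¹ (inv_mem hy1) _ (inv_mem hk)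
      have h5 := mul_mem this hyy
      convert h5 using 1
      rw [hyx']
      group
    have h6 := (phi_eq hb hl' (hl.fmem x' hx'Q) hy1).mpr h4
    exact (phi_eq hb hl hx'Q hx).mp (by
      rw [Function.iterate_succ_apply, Function.iterate_succ_apply]; exact h6)
  exact finish hb hl h3 hG hQK hKR hsq hKiff hwP hout

private theorem prod_card {A B L : Subgroup G} (hA : A ≤ L) (hB : B ≤ L) :
    Nat.card A * Nat.card B ≤ Nat.card L * Nat.card ↥(A ⊓ B) ∧
      (Nat.card A * Nat.card B = Nat.card L * Nat.card ↥(A ⊓ B) →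
        ∀ x ∈ L, ∃ a ∈ A, a⁻¹ * x ∈ B) := by
  let f : ↥A ⧸ B.subgroupOf A → ↥L ⧸ B.subgroupOf L := Quotient.map' (Subgroup.inclusion hA)
    fun a b h => by
      rw [QuotientGroup.leftRel_apply] at h ⊢
      exact h
  have hf : Function.Injective f := by
    intro p q hpq
    induction p using Quotient.inductionOn' with
    | h a =>
      induction q using Quotient.inductionOn' with
      | h b =>
        refine Quotient.sound' (QuotientGroup.leftRel_apply.mpr ?_)
        have h' : (Quotient.mk'' (Subgroup.inclusion hA a) : ↥L ⧸ B.subgroupOf L) =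
            Quotient.mk'' (Subgroup.inclusion hA b) := hpq
        have h'' := QuotientGroup.leftRel_apply.mp (Quotient.exact' h')
        exact h''
  have h1 := (B.subgroupOf A).card_mul_index
  have h2 := (B.subgroupOf L).card_mul_index
  rw [Nat.card_congr (subgroupOfEquivOfLe hB).toEquiv] at h2
  have h0 : Nat.card ↥(B.subgroupOf A) = Nat.card ↥(A ⊓ B) := by
    rw [← card_map_of_injective (K := B.subgroupOf A) A.subtype_injective, subgroupOf_map_subtype,
      inf_comm]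
  rw [h0] at h1
  have hle : (B.subgroupOf A).index ≤ (B.subgroupOf L).index := Nat.card_le_card_of_injective f hf
  refine ⟨?_, fun heq x hx => ?_⟩
  · rw [← h1, ← h2]
    calc _ = Nat.card ↥(A ⊓ B) * Nat.card B * (B.subgroupOf A).index := by ring
      _ ≤ Nat.card ↥(A ⊓ B) * Nat.card B * (B.subgroupOf L).index := Nat.mul_le_mul_left _ hle
      _ = _ := by ring
  · have he : (B.subgroupOf A).index = (B.subgroupOf L).index := by
      rw [← h1, ← h2] at heq
      refine Nat.eq_of_mul_eq_mul_left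
        (Nat.mul_pos (Nat.card_pos (α := ↥(A ⊓ B))) (Nat.card_pos (α := ↥B))) ?_
      linarith [heq]
    have hsurj := ((Nat.bijective_iff_injective_and_card f).mpr ⟨hf, he⟩).2
    obtain ⟨p, hp⟩ := hsurj (Quotient.mk'' ⟨x, hx⟩)
    induction p using Quotient.inductionOn' with
    | h a =>
      have h' : (Quotient.mk'' (Subgroup.inclusion hA a) : ↥L ⧸ B.subgroupOf L) =
          Quotient.mk'' ⟨x, hx⟩ := hp
      have h'' := QuotientGroup.leftRel_apply.mp (Quotient.exact' h')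
      exact ⟨a, a.2, h''⟩

omit [Finite G] in
private theorem comm_el {U : Subgroup G} (h : ∀ x ∈ U, x * x = 1) {x y : G} (hx : x ∈ U)
    (hy : y ∈ U) : x * y = y * x := by
  have h1 := h _ (mul_mem hx hy)
  rw [eq_inv_of_mul_eq_one_left h1, mul_inv_rev, inv_eq_of_mul_eq_one_right (h x hx),
    inv_eq_of_mul_eq_one_right (h y hy)]

theorem three_one [IsSimpleGroup G] (hG : ¬ IsMulCommutative G) (hb : Base ⊤ V t c 3)
    (h3 : Three ⊤ V t V ⊥ R)
    (hel : ∀ U : Subgroup G, IsPGroup 2 U → (∀ x ∈ U, x * t = t * x) → ∀ x ∈ U, x * x = 1) :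
    False := by
  classical
  haveI : Fact (Nat.Prime 2) := ⟨Nat.prime_two⟩
  have hl := hb.layer
  have hV8 : Nat.card V = 8 := by rw [hb.card_V]; norm_num
  have hR128 : Nat.card R = 128 := by rw [h3.card, hV8]
  have hVR : V ≤ R := h3.le
  have hext : ∀ {x}, x ∈ ext hb hl ↔ x ∈ V ∨ t * x ∈ V := fun {x} => mem_ext hb hl
  have hPsq : ∀ x ∈ ext hb hl, x * x = 1 := fun x hx => mem_bot.mp (sq_mem hb hl hx)
  have hconj1 : ∀ {x}, IsConj t x → x * x = 1 := fun {x} hx => by
    obtain ⟨g, rfl⟩ := isConj_iff.mp hx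
    rw [show g * t * g⁻¹ * (g * t * g⁻¹) = g * (t * t) * g⁻¹ by group, hb.t_sq, mul_one,
      mul_inv_cancel]
  have el : ∀ (U : Subgroup G) (a : G), IsPGroup 2 U → IsConj t a → (∀ x ∈ U, x * a = a * x) →
      ∀ x ∈ U, x * x = 1 := by
    intro U a hU ha hc x hx
    obtain ⟨g, hg⟩ := isConj_iff.mp ha
    have h1 := hel (U.map (MulAut.conj g⁻¹).toMonoidHom) (hU.map _) (by
      rintro _ ⟨y, hy, rfl⟩
      simp only [MulEquiv.coe_toMonoidHom, MulAut.conj_apply, inv_inv]
      have e : y * (g * t * g⁻¹) = (g * t * g⁻¹) * y := hg.symm ▸ hc y hy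
      calc g⁻¹ * y * g * t = g⁻¹ * (y * (g * t * g⁻¹)) * g := by group
        _ = t * (g⁻¹ * y * g) := by rw [e]; group) _ ⟨x, hx, rfl⟩
    simp only [MulEquiv.coe_toMonoidHom, MulAut.conj_apply, inv_inv] at h1
    calc x * x = g * (g⁻¹ * x * g * (g⁻¹ * x * g)) * g⁻¹ := by group
      _ = 1 := by rw [h1]; group
  let C : G → Subgroup G := fun a => R ⊓ centralizer ({a} : Set G)
  have hCmem : ∀ {a x}, x ∈ C a ↔ x ∈ R ∧ x * a = a * x := fun {a x} => by
    simp [C, mem_inf, mem_centralizer_singleton_iff]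
  have hbig : ∀ v ∈ V, IsConj t v → ∃ U : Subgroup G, IsPGroup 2 U ∧
      (∀ x ∈ U, x * v = v * x) ∧ 16 < Nat.card U := by
    intro v hv hconj
    refine ⟨C v, h3.pR.to_le inf_le_left, fun x hx => (hCmem.mp hx).2, ?_⟩
    have h1 := orbit_eq R v
    have h2 : {x | ∃ r ∈ R, r * v * r⁻¹ = x}.ncard ≤ ((V : Set G) \ {1}).ncard := by
      refine Set.ncard_le_ncard ?_
      rintro _ ⟨r, hr, rfl⟩
      refine ⟨h3.norm r hr v hv, fun e => ?_⟩
      rw [Set.mem_singleton_iff, conj_eq_one_iff] at e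
      subst e
      obtain ⟨g, hg⟩ := isConj_iff.mp hconj
      exact hb.t_notMem ((conj_eq_one_iff.mp hg).symm ▸ hv)
    rw [Set.ncard_sdiff_singleton_of_mem (one_mem V),
      show (V : Set G).ncard = 8 from (Nat.card_coe_set_eq _).symm.trans hV8] at h2
    rw [hR128] at h1
    by_contra hlt
    have h4 := Nat.mul_le_mul h2 (Nat.le_of_not_lt hlt)
    change _ * Nat.card ↥(C v) ≤ _ at h4
    change _ * Nat.card ↥(C v) = _ at h1
    omega
  obtain ⟨K, w, hw, hwP, hVK, hKR, hsq, hKiff, hz2⟩ := exists_K hb hl h3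
  set z := w * w with hz
  have hzR : z ∈ R := mul_mem hw hw
  have hzV : ∀ {x}, x ∈ V → z * x * z⁻¹ ∈ V := fun hx => h3.norm z hzR _ hx
  -- involutions in a coset of `V`
  have hcoset : ∀ b x : G, b * b = 1 → x * x = 1 → b⁻¹ * x ∈ V →
      b⁻¹ * x ∈ V ⊓ centralizer ({b} : Set G) := by
    intro b x hb1 hx1 hxV
    have h1 := (invol_coset hb hl h3 hxV hb1 hx1).1
    rw [inv_eq_of_mul_eq_one_right (hb.sq _ hxV)] at h1
    exact ⟨hxV, mem_centralizer_singleton_iff.mpr (commute_of_conj h1).symm⟩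
  have hfix : ∀ b ∈ R, b ∉ ext hb hl → Nat.card ↥(V ⊓ centralizer ({b} : Set G)) ≤ 4 := by
    intro b hbR hbP
    obtain ⟨F, -, -, hFcard, hFiff⟩ := exists_fix hb hl h3 hbR hbP
    refine le_trans (card_le_of_le fun y hy => ?_) (show Nat.card F ≤ 4 by omega)
    refine (hFiff y).mpr ⟨hy.1, ?_⟩
    rw [mem_bot, conj_of_commute (mem_centralizer_singleton_iff.mp hy.2).symm, inv_mul_cancel]
  -- an outer conjugate with a large centraliser
  have outer : ∀ u ∈ R, u ∉ ext hb hl → IsConj t u → 16 ≤ Nat.card ↥(C u) →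
      Nat.card ↥(C u) = 16 ∧ {x | ∃ r ∈ R, r * u * r⁻¹ = x}.ncard = 8 ∧
      (∀ x, (∃ r ∈ R, r * u * r⁻¹ = x) → x * x = 1 ∧ x ∉ ext hb hl ∧ u⁻¹ * x ∈ K) ∧
      Nat.card ↥(V ⊓ centralizer ({u} : Set G)) = 4 ∧ z ∉ ext hb hl ∧ z⁻¹ * u ∉ ext hb hl ∧
      (∀ y ∈ V ⊓ centralizer ({u} : Set G), z * y = y * z) ∧
      (∀ r ∈ R, (∀ y ∈ V ⊓ centralizer ({u} : Set G), r * y = y * r) →
        ∃ a ∈ C u, a⁻¹ * r ∈ ext hb hl) ∧
      (∃ b, b * b = 1 ∧ b ∈ R ∧ b ∉ ext hb hl ∧ z * (u⁻¹ * b) ∈ V) ∧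
      (∀ r ∈ R, ∀ s ∈ R, ¬ (∀ y ∈ V ⊓ centralizer ({u} : Set G), r * y = y * r) →
        ¬ (∀ y ∈ V ⊓ centralizer ({u} : Set G), s * y = y * s) →
        ∀ y ∈ V ⊓ centralizer ({u} : Set G), (r * s) * y = y * (r * s)) := by
    intro u hu huP hconj h16
    have hu1 := hconj1 hconj
    have hC16 : Nat.card ↥(C u) = 16 := le_antisymm (conj_bound hb hl h3
      (h3.pR.to_le inf_le_left) hconj fun x hx => (hCmem.mp hx).2) h16
    set O := {x | ∃ r ∈ R, r * u * r⁻¹ = x} with hO
    have horb := orbit_eq R u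
    rw [← hO, hR128] at horb
    change _ * Nat.card ↥(C u) = _ at horb
    rw [hC16] at horb
    have hO8 : O.ncard = 8 := by omega
    have hOinv : ∀ x ∈ O, x * x = 1 ∧ x ∉ ext hb hl ∧ u⁻¹ * x ∈ K := by
      rintro _ ⟨r, hr, rfl⟩
      refine ⟨hconj1 (hconj.trans (isConj_iff.mpr ⟨r, rfl⟩)), fun hh => huP ?_, ?_⟩
      · have h1 := P_conj hb hl h3 (inv_mem hr) hh
        rwa [show r⁻¹ * (r * u * r⁻¹) * r⁻¹⁻¹ = u by group] at h1
      · have h1 := conj_K hsq hKR (inv_mem hu) (comm_K hsq hr hu)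
        convert h1 using 1
        group
    set W := V ⊓ centralizer ({u} : Set G) with hW
    let I1 : Set G := {x | u⁻¹ * x ∈ V ∧ x ∈ O}
    let I2 : Set G := {x | z * (u⁻¹ * x) ∈ V ∧ x ∈ O}
    have hsub : O ⊆ I1 ∪ I2 := fun x hx =>
      ((hKiff _).mp (hOinv x hx).2.2).elim (fun h => Or.inl ⟨h, hx⟩) (fun h => Or.inr ⟨h, hx⟩)
    have hI1 : I1.ncard ≤ Nat.card W := by
      rw [show Nat.card W = (W : Set G).ncard from Nat.card_coe_set_eq _]
      exact Set.ncard_le_ncard_of_injOn (fun x => u⁻¹ * x)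
        (fun x hx => hcoset u x hu1 (hOinv x hx.2).1 hx.1) (fun x _ y _ e => mul_left_cancel e)
    have hW4 : Nat.card W ≤ 4 := hfix u hu huP
    have hI2 : I2.ncard ≤ 4 := by
      rcases I2.eq_empty_or_nonempty with he | ⟨b, hb1, hb2⟩
      · rw [he, Set.ncard_empty]; omega
      obtain ⟨r, hr, rfl⟩ := id hb2
      set b := r * u * r⁻¹
      refine le_trans ?_ (hfix b (mul_mem (mul_mem hr hu) (inv_mem hr)) (hOinv b hb2).2.1)
      rw [show Nat.card ↥(V ⊓ centralizer ({b} : Set G)) = _ from Nat.card_coe_set_eq _]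
      refine Set.ncard_le_ncard_of_injOn (fun x => b⁻¹ * x) (fun x hx => ?_)
        (fun x _ y _ e => mul_left_cancel e)
      refine hcoset b x (hOinv b hb2).1 (hOinv x hx.2).1 ?_
      have := mul_mem (inv_mem hb1) hx.1
      rwa [show (z * (u⁻¹ * b))⁻¹ * (z * (u⁻¹ * x)) = b⁻¹ * x by group] at this
    have h8 := Set.ncard_le_ncard hsub
    have h8' := Set.ncard_union_le I1 I2
    obtain ⟨b, hb1, hb2⟩ : I2.Nonempty := by
      rw [← Set.ncard_pos]; omega
    have hWeq : Nat.card W = 4 := by omega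
    have hbR : b ∈ R := by
      obtain ⟨r, hr, rfl⟩ := hb2
      exact mul_mem (mul_mem hr hu) (inv_mem hr)
    have hzP : z ∉ ext hb hl := by
      intro hzP
      rcases hwP with h1 | h1
      · have : I2 ⊆ I1 := fun x hx => ⟨by simpa [hz, h1] using hx.1, hx.2⟩
        have h2 : O ⊆ I1 := hsub.trans (Set.union_subset le_rfl this)
        have := Set.ncard_le_ncard h2
        omega
      · exact h1 hzP
    have hzu : z⁻¹ * u ∉ ext hb hl := by
      intro hh
      have h1 := P_conj hb hl h3 hzR hh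
      rw [show z * (z⁻¹ * u) * z⁻¹ = u * z⁻¹ by group] at h1
      refine (hOinv b hb2).2.1 ?_
      have h2 := mul_mem h1 (le_ext hb hl hb1)
      rwa [show u * z⁻¹ * (z * (u⁻¹ * b)) = b by group] at h2
    have hWidx : (W.subgroupOf V).index = 2 := by
      have h1 := (W.subgroupOf V).card_mul_index
      rw [Nat.card_congr (subgroupOfEquivOfLe inf_le_left).toEquiv, hWeq, hV8] at h1
      omega
    let L : Subgroup G := R ⊓ centralizer (W : Set G)
    have hL : ∀ {r}, r ∈ R → ((∀ y ∈ W, r * y = y * r) ↔ r ∈ L) := fun {r} hr =>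
      ⟨fun h => ⟨hr, mem_centralizer_iff.mpr fun y hy => (h y hy).symm⟩,
        fun h y hy => (mem_centralizer_iff.mp h.2 y hy).symm⟩
    have hel' : ∀ x ∈ C u, x * x = 1 :=
      el (C u) u (h3.pR.to_le inf_le_left) hconj fun x hx => (hCmem.mp hx).2
    have hWC : W ≤ C u := fun y hy => ⟨hVR hy.1, hy.2⟩
    have hCL : C u ≤ L := fun x hx =>
      ⟨hx.1, mem_centralizer_iff.mpr fun y hy => comm_el hel' (hWC hy) hx⟩
    have hPL : ext hb hl ≤ L := fun x hx =>
      ⟨P_le hb hl h3 hx, mem_centralizer_iff.mpr fun y hy => comm_el hPsq (le_ext hb hl hy.1) hx⟩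
    have hint : C u ⊓ ext hb hl ≤ W := by
      rintro x ⟨hx, hxP⟩
      rcases hext.mp hxP with h | h
      · exact ⟨h, hx.2⟩
      · exact absurd (conj_of_commute (hCmem.mp hx).2.symm) (no_fix' hb hl h3 hu huP h)
    have hP16 : Nat.card ↥(ext hb hl) = 16 := by rw [card_ext hb hl, hV8]
    have hcp := prod_card hCL hPL
    rw [hC16, hP16] at hcp
    have hint4 : Nat.card ↥(C u ⊓ ext hb hl) ≤ 4 := hWeq ▸ card_le_of_le hint
    have hL64 : 64 ≤ Nat.card L := by
      have h4 := Nat.mul_le_mul (le_refl (Nat.card L)) hint4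
      have := hcp.1
      omega
    have hLR : ¬ R ≤ L := by
      intro hh
      refine hzP (h3.faith z hzR fun x hx => ?_)
      have hwc : ∀ y ∈ W, w * y = y * w := (hL hw).mpr (hh hw)
      have hy : x⁻¹ * (w * x * w⁻¹) ∈ W := by
        by_cases hxW : x ∈ W
        · rw [conj_of_commute (hwc x hxW), inv_mul_cancel]; exact one_mem _
        · have hx' : w * x * w⁻¹ ∉ W := fun e => hxW (by
            have := hwc _ e
            rw [← mul_assoc, ← mul_assoc] at this
            have h2 : w * x * w⁻¹ = x := mul_left_cancel (a := w) (by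
              rw [← mul_assoc, ← mul_assoc, this]; group)
            exact h2 ▸ e)
          have := (Subgroup.mul_mem_iff_of_index_two hWidx (a := (⟨x⁻¹, inv_mem hx⟩ : V))
            (b := ⟨w * x * w⁻¹, h3.norm w hw x hx⟩)).mpr (iff_of_false
              (fun e => hxW (by simpa [mem_subgroupOf] using e))
              (fun e => hx' (by simpa [mem_subgroupOf] using e)))
          simpa [mem_subgroupOf] using this
      set y := x⁻¹ * (w * x * w⁻¹) with hydef
      have e1 : w * x * w⁻¹ = x * y := by rw [hydef, mul_inv_cancel_left]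
      rw [mem_bot, hz, show w * w * x * (w * w)⁻¹ = w * (w * x * w⁻¹) * w⁻¹ by group, e1,
        show w * (x * y) * w⁻¹ = (w * x * w⁻¹) * (w * y * w⁻¹) by group, e1,
        conj_of_commute (hwc y hy), mul_assoc x, hb.sq y hy.1, mul_one, inv_mul_cancel]
    have hLidx : (L.subgroupOf R).index = 2 := by
      have h1 := (L.subgroupOf R).card_mul_index
      rw [Nat.card_congr (subgroupOfEquivOfLe (show L ≤ R from inf_le_left)).toEquiv, hR128] at h1
      rcases Nat.lt_or_ge (L.subgroupOf R).index 2 with h | h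
      · have h0 := (L.subgroupOf R).index_ne_zero_of_finite
        exact absurd (subgroupOf_eq_top.mp (index_eq_one.mp (by omega))) hLR
      · have := Nat.mul_le_mul hL64 (le_refl (L.subgroupOf R).index)
        omega
    have hzL : z ∈ L := by
      have := Subgroup.sq_mem_of_index_two hLidx (⟨w, hw⟩ : R)
      rw [mem_subgroupOf] at this
      simpa [sq, hz] using this
    have hL' : Nat.card L = 64 := by
      have h1 := (L.subgroupOf R).card_mul_index
      rw [Nat.card_congr (subgroupOfEquivOfLe (show L ≤ R from inf_le_left)).toEquiv, hR128, hLidx] at h1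
      omega
    refine ⟨hC16, hO8, hOinv, hWeq, hzP, hzu, (hL hzR).mpr hzL, fun r hr h => ?_,
      ⟨b, (hOinv b hb2).1, hbR, (hOinv b hb2).2.1, hb1⟩, fun r hr s hs h1 h2 => ?_⟩
    · refine hcp.2 ?_ r ((hL hr).mp h)
      have := hcp.1
      rw [hL'] at this ⊢
      omega
    · rw [hL hr] at h1
      rw [hL hs] at h2
      rw [hL (mul_mem hr hs)]
      have := (Subgroup.mul_mem_iff_of_index_two hLidx (a := (⟨r, hr⟩ : R)) (b := ⟨s, hs⟩)).mpr
        (iff_of_false h1 h2)
      exact this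
  by_cases hno : ∀ a ∈ R, IsConj t a → 16 ≤ Nat.card ↥(C a) → t * a ∈ V
  · exact finish hb hl h3 hG hVK hKR hsq hKiff hwP hno
  push Not at hno
  obtain ⟨u, huR, hconj, hu16, hutV⟩ := hno
  have huP : u ∉ ext hb hl := fun hh => hutV (in_tQ hb hl h3 hbig hh hconj)
  obtain ⟨hC16, hO8, hO, hW4, hzP, hzu, hzW, hdec, ⟨b, hb1, hbR, hbP, hbz⟩, htwo⟩ :=
    outer u huR huP hconj hu16
  set W := V ⊓ centralizer ({u} : Set G) with hW
  have hu1 := hconj1 hconj
  have huinv : u⁻¹ = u := inv_eq_of_mul_eq_one_right hu1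
  have helC : ∀ x ∈ C u, x * x = 1 :=
    el (C u) u (h3.pR.to_le inf_le_left) hconj fun x hx => (hCmem.mp hx).2
  have hWC : W ≤ C u := fun y hy => ⟨hVR hy.1, hy.2⟩
  have huC : u ∈ C u := hCmem.mpr ⟨huR, rfl⟩
  -- an element of the centraliser of `u` in the coset of `z`
  obtain ⟨k, hkC, hkz⟩ := hdec z hzR hzW
  have hkzV : k⁻¹ * z ∈ V := by
    refine (hext.mp hkz).resolve_right fun ht => ?_
    have h1 : b⁻¹ * (u * k) = (z * (u⁻¹ * b))⁻¹ * (z * z) * (k⁻¹ * z)⁻¹ := by group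
    have h2 : t * (b⁻¹ * (u * k)) ∈ V := by
      rw [h1, ← mul_assoc]
      have hv : (z * (u⁻¹ * b))⁻¹ * (z * z) ∈ V := mul_mem (inv_mem hbz) hz2
      rw [inv_eq_of_mul_eq_one_right (hPsq _ hkz)]
      set v := (z * (u⁻¹ * b))⁻¹ * (z * z)
      rw [commute_of_conj (hb.comm v hv), mul_assoc]
      exact mul_mem hv ht
    refine no_invol hb hl h3 hbR hbP h2 hb1 ?_ (hPsq _ (Or.inr h2))
    rw [mul_inv_cancel_left]
    exact helC _ (mul_mem huC hkC)
  have hkR : k ∈ R := hkC.1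
  have hkP : k ∉ ext hb hl := fun hh => hzP (by
    have := mul_mem hh (le_ext hb hl hkzV)
    rwa [mul_inv_cancel_left] at this)
  have hk1 : k * k = 1 := helC k hkC
  have hkinv : k⁻¹ = k := inv_eq_of_mul_eq_one_right hk1
  have hzk : z * k⁻¹ ∈ V := by
    have := h3.norm k hkR _ hkzV
    rwa [show k * (k⁻¹ * z) * k⁻¹ = z * k⁻¹ by group] at this
  have hKk : ∀ x, x ∈ K ↔ x ∈ V ∨ k * x ∈ V := by
    intro x
    rw [hKiff]
    refine or_congr_right ⟨fun h => ?_, fun h => ?_⟩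
    · have h' := mul_mem (inv_mem hzk) h
      rwa [show (z * k⁻¹)⁻¹ * (z * x) = k * x by group] at h'
    · have h' := mul_mem hzk h
      rwa [show z * k⁻¹ * (k * x) = z * x by group] at h'
  have hkK : k ∈ K := (hKk k).mpr (Or.inr (by rw [hk1]; exact one_mem _))
  have huK : u ∉ K := by
    intro hh
    rcases (hKiff u).mp hh with h | h
    · exact huP (le_ext hb hl h)
    · refine hzu (le_ext hb hl ?_)
      have h' := mul_mem (inv_mem hz2) h
      rwa [show (z * z)⁻¹ * (z * u) = z⁻¹ * u by group] at h'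
  have hukP : u * k ∉ ext hb hl := fun hh => huK (by
    rcases hext.mp hh with h | h
    · have := mul_mem (hVK h) (inv_mem hkK)
      rwa [mul_inv_cancel_right] at this
    · exact absurd (conj_of_commute
        (comm_el helC huC (mul_mem huC hkC))) (no_fix' hb hl h3 huR huP h))
  have hWfix : ∀ y ∈ W, k * y = y * k := fun y hy => comm_el helC hkC (hWC hy)
  have hkfix : V ⊓ centralizer ({k} : Set G) = W := by
    refine (eq_of_le_of_card_ge ?_ ?_).symm
    · exact fun y hy => ⟨hy.1, mem_centralizer_singleton_iff.mpr (hWfix y hy).symm⟩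
    · rw [hW4]; exact hfix k hkR hkP
  have hukfix : V ⊓ centralizer ({u * k} : Set G) = W := by
    refine (eq_of_le_of_card_ge ?_ ?_).symm
    · exact fun y hy => ⟨hy.1, mem_centralizer_singleton_iff.mpr
        (comm_el helC (hWC hy) (mul_mem huC hkC))⟩
    · rw [hW4]; exact hfix _ (mul_mem huR hkR) hukP
  -- involutions of `K`
  have hKinv : ∀ x ∈ K, x * x = 1 → x ∈ V ∨ (x ∈ C u ∧ k * x ∈ W) := by
    intro x hx hx1
    refine ((hKk x).mp hx).imp_right fun h => ?_
    have hW' := hcoset k x hk1 hx1 (by rwa [hkinv])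
    rw [hkfix, hkinv] at hW'
    refine ⟨?_, hW'⟩
    have := mul_mem hkC (hWC hW')
    rwa [← mul_assoc, hk1, one_mul] at this
  set V' := K ⊓ C u with hV'
  have hWV' : W ≤ V' := fun y hy => ⟨hVK hy.1, hWC hy⟩
  have hV'VW : ∀ x ∈ V', x ∈ W ∨ k * x ∈ W := fun x hx =>
    ((hKk x).mp hx.1).imp (fun h => ⟨h, hx.2.2⟩) fun h => ⟨h, (mul_mem hkC hx.2).2⟩
  have hV'8 : (V' : Set G).ncard ≤ 8 := by
    have hsub : (V' : Set G) ⊆ (W : Set G) ∪ (fun y => k * y) '' (W : Set G) := by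
      intro x hx
      rcases hV'VW x hx with h | h
      · exact Or.inl h
      · exact Or.inr ⟨k * x, h, by simp [← mul_assoc, hk1]⟩
    refine (Set.ncard_le_ncard hsub).trans ((Set.ncard_union_le _ _).trans ?_)
    rw [Set.ncard_image_of_injective _ (mul_right_injective _),
      show (W : Set G).ncard = 4 from (Nat.card_coe_set_eq _).symm.trans hW4]
  -- the class of `u` is the coset `uV'`
  have hOV' : ∀ a, (∃ r ∈ R, r * u * r⁻¹ = a) ↔ u * a ∈ V' := by
    have hsub : {a | ∃ r ∈ R, r * u * r⁻¹ = a} ⊆ (fun y => u * y) '' (V' : Set G) := by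
      rintro a ha
      obtain ⟨ha1, haP, haK⟩ := hO a ha
      refine ⟨u⁻¹ * a, ⟨haK, ?_⟩, by group⟩
      rcases (hKk _).mp haK with h | h
      · exact hWC (hcoset u a hu1 ha1 h)
      · have hh : (u * k)⁻¹ * a ∈ V := by
          rwa [mul_inv_rev, hkinv, mul_assoc]
        have hW' := hcoset (u * k) a (helC _ (mul_mem huC hkC)) ha1 hh
        rw [hukfix] at hW'
        have := mul_mem hkC (hWC hW')
        rwa [show k * ((u * k)⁻¹ * a) = (k * k⁻¹) * (u⁻¹ * a) by group, mul_inv_cancel, one_mul]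
          at this
    have heq := Set.eq_of_subset_of_ncard_le hsub (by
      rw [Set.ncard_image_of_injective _ (mul_right_injective _), hO8]; exact hV'8)
    intro a
    refine (Set.ext_iff.mp heq a).trans ⟨?_, fun h => ⟨u * a, h, by simp [← mul_assoc, hu1]⟩⟩
    rintro ⟨y, hy, rfl⟩
    rwa [← mul_assoc, hu1, one_mul]
  have hCdec : ∀ x ∈ C u, x ∈ V' ∨ u * x ∈ V' := by
    have hsub : (V' : Set G) ∪ (fun y => u * y) '' (V' : Set G) ⊆ (C u : Set G) := by
      rintro x (hx | ⟨y, hy, rfl⟩)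
      · exact hx.2
      · exact mul_mem huC hy.2
    have hV'eq : (V' : Set G).ncard = 8 := by
      refine le_antisymm hV'8 ?_
      have hset : {a | ∃ r ∈ R, r * u * r⁻¹ = a} ⊆ (fun y => u * y) '' (V' : Set G) := fun a ha =>
        ⟨u * a, (hOV' a).mp ha, by simp [← mul_assoc, hu1]⟩
      have := Set.ncard_le_ncard hset
      rwa [hO8, Set.ncard_image_of_injective _ (mul_right_injective _)] at this
    have hdis : Disjoint (V' : Set G) ((fun y => u * y) '' (V' : Set G)) := by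
      rw [Set.disjoint_left]
      rintro x hx ⟨y, hy, rfl⟩
      refine huK ?_
      have := mul_mem (show u * y ∈ K from hx.1) (inv_mem (show y ∈ K from hy.1))
      rwa [mul_inv_cancel_right] at this
    have heq := Set.eq_of_subset_of_ncard_le hsub (by
      rw [Set.ncard_union_eq hdis, Set.ncard_image_of_injective _ (mul_right_injective _), hV'eq,
        show (C u : Set G).ncard = 16 from (Nat.card_coe_set_eq _).symm.trans hC16])
    intro x hx
    rcases (heq.symm ▸ hx : x ∈ (V' : Set G) ∪ (fun y => u * y) '' (V' : Set G)) with h | ⟨y, hy, rfl⟩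
    · exact Or.inl h
    · exact Or.inr (by rwa [← mul_assoc, hu1, one_mul])
  -- the two classes
  let E : G → Prop := fun a => t * a ∈ V ∨ u * a ∈ V'
  have hout' : ∀ {a}, u * a ∈ V' → a ∈ R ∧ a ∉ ext hb hl ∧ a ∈ C u := fun {a} ha => by
    obtain ⟨r, hr, rfl⟩ := (hOV' a).mpr ha
    refine ⟨mul_mem (mul_mem hr huR) (inv_mem hr), (hO _ ⟨r, hr, rfl⟩).2.1, ?_⟩
    have := mul_mem huC ha.2
    rwa [← mul_assoc, hu1, one_mul] at this
  have hER : ∀ {a}, E a → a ∈ R := fun {a} ha => ha.elim (fun h => P_le hb hl h3 (Or.inr h))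
    (fun h => (hout' h).1)
  have hEbig : ∀ a, E a → IsConj t a ∧ 16 ≤ Nat.card ↥(C a) := by
    rintro a (ha | ha)
    · exact centralizer_big hb hl h3 ha
    · obtain ⟨r, hr, hra⟩ := (hOV' a).mpr ha
      refine ⟨hconj.trans (isConj_iff.mpr ⟨r, hra⟩), hC16.ge.trans (card_le_of_le fun x hx => ?_)⟩
      exact hCmem.mpr ⟨hx.1, comm_el helC hx (hout' ha).2.2⟩
  -- members of the centraliser of the fixed subgroup
  have hshape : ∀ a ∈ R, a * a = 1 → (∀ y ∈ W, a * y = y * a) → a ∈ V ∨ t * a ∈ V ∨ a ∈ C u := by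
    intro a ha ha1 haW
    obtain ⟨a0, ha0, hp⟩ := hdec a ha haW
    by_cases ha0P : a0 ∈ ext hb hl
    · have := mul_mem ha0P hp
      rw [mul_inv_cancel_left] at this
      exact (hext.mp this).imp_right Or.inl
    right; right
    rcases hext.mp hp with h | h
    · have hfixe := hcoset a0 a (helC a0 ha0) ha1 h
      have hle : W ≤ V ⊓ centralizer ({a0} : Set G) := fun y hy =>
        ⟨hy.1, mem_centralizer_singleton_iff.mpr (comm_el helC (hWC hy) ha0)⟩
      rw [← eq_of_le_of_card_ge hle (by rw [hW4]; exact hfix a0 ha0.1 ha0P)] at hfixe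
      have := mul_mem ha0 (hWC hfixe)
      rwa [mul_inv_cancel_left] at this
    · exact (no_invol hb hl h3 ha0.1 ha0P h (helC a0 ha0) (by rwa [mul_inv_cancel_left])
        (hPsq _ hp)).elim
  have hclass : ∀ a ∈ R, IsConj t a → 16 ≤ Nat.card ↥(C a) → E a := by
    intro a ha hac h16
    by_cases haP : a ∈ ext hb hl
    · exact Or.inl (in_tQ hb hl h3 hbig haP hac)
    obtain ⟨-, hOa8, hOa, hWa4, -, -, hzWa, -, -, -⟩ := outer a ha haP hac h16
    have hWle : V ⊓ centralizer ({a} : Set G) ≤ V ⊓ centralizer ({k} : Set G) := by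
      intro y hy
      refine ⟨hy.1, mem_centralizer_singleton_iff.mpr ?_⟩
      have hyk : (k⁻¹ * z) * y = y * (k⁻¹ * z) := comm_el hb.sq hkzV hy.1
      calc y * k = (y * z) * (k⁻¹ * z)⁻¹ := by group
        _ = (z * y) * (k⁻¹ * z)⁻¹ := by rw [hzWa y hy]
        _ = k * ((k⁻¹ * z) * y) * (k⁻¹ * z)⁻¹ := by group
        _ = k * y := by rw [hyk]; group
    rw [hkfix] at hWle
    have hWa := eq_of_le_of_card_ge hWle (by rw [hWa4, hW4])
    rcases hshape a ha (hconj1 hac) (fun y hy => by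
        rw [← hWa] at hy; exact (mem_centralizer_singleton_iff.mp hy.2).symm) with h | h | h
    · exact absurd (le_ext hb hl h) haP
    · exact absurd (Or.inr h) haP
    rcases hCdec a h with h' | h'
    · exfalso
      -- an orbit inside `K` is too small
      have hsub : {x | ∃ r ∈ R, r * a * r⁻¹ = x} ⊆ (fun y => k * y) '' (W : Set G) := by
        rintro x hx
        obtain ⟨hx1, hxP, hxK⟩ := hOa x hx
        have hxK' : x ∈ K := by
          have := mul_mem h'.1 hxK
          rwa [mul_inv_cancel_left] at this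
        rcases hKinv x hxK' hx1 with h'' | ⟨-, h''⟩
        · exact absurd (le_ext hb hl h'') hxP
        · exact ⟨k * x, h'', by simp [← mul_assoc, hk1]⟩
      have := Set.ncard_le_ncard hsub
      rw [hOa8, Set.ncard_image_of_injective _ (mul_right_injective _),
        show (W : Set G).ncard = 4 from (Nat.card_coe_set_eq _).symm.trans hW4] at this
      omega
    · exact Or.inr h'
  have hcross : ∀ {a a' : G}, t * a ∈ V → u * a' ∈ V' → a' * a ≠ a * a' := fun {a a'} ha ha' e =>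
    no_fix' hb hl h3 (hout' ha').1 (hout' ha').2.1 ha (conj_of_commute e)
  have hcommP : ∀ {a a' : G}, t * a ∈ V → t * a' ∈ V → a * a' = a' * a := fun ha ha' =>
    comm_el hPsq (Or.inr ha) (Or.inr ha')
  have htE : t * t ∈ V := by rw [hb.t_sq]; exact one_mem _
  -- a map preserving the classes fixes or exchanges them
  have hperm : ∀ h : G, (∀ a, E a → E (h * a * h⁻¹)) →
      (∀ a, t * a ∈ V → t * (h * a * h⁻¹) ∈ V) ∨
      ((∀ a, t * a ∈ V → u * (h * a * h⁻¹) ∈ V') ∧ ∀ a, u * a ∈ V' → t * (h * a * h⁻¹) ∈ V) := by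
    intro h hh
    have hc : ∀ {a}, t * a ∈ V → h * t * h⁻¹ * (h * a * h⁻¹) = h * a * h⁻¹ * (h * t * h⁻¹) :=
      fun {a} ha => by
      calc h * t * h⁻¹ * (h * a * h⁻¹) = h * (t * a) * h⁻¹ := by group
        _ = h * (a * t) * h⁻¹ := by rw [hcommP htE ha]
        _ = _ := by group
    rcases hh t (Or.inl htE) with h1 | h1
    · exact Or.inl fun a ha => (hh a (Or.inl ha)).resolve_right fun h2 => hcross h1 h2 (hc ha).symm
    · refine Or.inr ⟨fun a ha => (hh a (Or.inl ha)).resolve_left fun h2 => hcross h2 h1 (hc ha),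
        fun a ha => (hh a (Or.inr ha)).resolve_right fun h2 => hcross htE ha ?_⟩
      have e := comm_el helC (hout' h1).2.2 (hout' h2).2.2
      refine mul_right_cancel (b := h⁻¹) (mul_left_cancel (a := h) ?_)
      calc h * (a * t * h⁻¹) = h * a * h⁻¹ * (h * t * h⁻¹) := by group
        _ = h * t * h⁻¹ * (h * a * h⁻¹) := e.symm
        _ = _ := by group
  obtain ⟨S, hS⟩ := h3.pR.exists_le_sylow
  set N := (S : Subgroup G) ⊓ normalizer (R : Set G) with hN
  have hNp : IsPGroup 2 N := S.isPGroup'.to_le inf_le_left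
  have hRN : R ≤ N := fun r hr => ⟨hS hr, le_normalizer hr⟩
  have hNnorm : ∀ h ∈ N, ∀ x ∈ R, h * x * h⁻¹ ∈ R := fun h hh x hx =>
    (mem_normalizer_iff.mp hh.2 x).mp hx
  have hNE : ∀ h ∈ N, ∀ a, E a → E (h * a * h⁻¹) := by
    intro h hh a ha
    obtain ⟨hac, h16⟩ := hEbig a ha
    refine hclass _ (hNnorm h hh a (hER ha)) (hac.trans (isConj_iff.mpr ⟨h, rfl⟩)) ?_
    refine h16.trans ?_
    rw [← card_map_of_injective (K := C a) (f := (MulAut.conj h).toMonoidHom)
      (MulAut.conj h).injective]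
    refine card_le_of_le ?_
    rintro _ ⟨y, hy, rfl⟩
    simp only [MulEquiv.coe_toMonoidHom, MulAut.conj_apply]
    refine hCmem.mpr ⟨hNnorm h hh y hy.1, ?_⟩
    have hyx := (hCmem.mp hy).2
    calc h * y * h⁻¹ * (h * a * h⁻¹) = h * (y * a) * h⁻¹ := by group
      _ = _ := by rw [hyx]; group
  have hswap : ∀ h ∈ N, h ∉ R → (∀ a, t * a ∈ V → u * (h * a * h⁻¹) ∈ V') ∧
      ∀ a, u * a ∈ V' → t * (h * a * h⁻¹) ∈ V := fun h hh hhR =>
    (hperm h (hNE h hh)).resolve_left fun h' =>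
      hhR (stab_tQ hb hl h3 hNp hRN hh fun x hx => h' x hx)
  have hpair : ∀ h ∈ N, ∀ h' ∈ N, h ∉ R → h' ∉ R → h * h' ∈ R := by
    intro h hh h' hh' hR1 hR2
    refine stab_tQ hb hl h3 hNp hRN (mul_mem hh hh') fun x hx => ?_
    rw [show h * h' * x * (h * h')⁻¹ = h * (h' * x * h'⁻¹) * h⁻¹ by group]
    exact (hswap h hh hR1).2 _ ((hswap h' hh' hR2).1 x hx)
  have hut : u * t ∈ R := mul_mem huR h3.t_mem
  have htK : t ∉ K := fun hh => hb.t_notMem (K_inter hb hl h3 hwP hKiff (t_mem_ext hb hl) hh)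
  have hT16 : Nat.card ↥(ext hb hl) = 16 := by rw [card_ext hb hl, hV8]
  have hTc : ∀ x ∈ ext hb hl, x * t = t * x := fun x hx => comm_el hPsq hx (t_mem_ext hb hl)
  have ht2 : orderOf t = 2 :=
    orderOf_eq_prime (by rw [sq]; exact hb.t_sq) fun e => hb.t_notMem (by rw [e]; exact one_mem V)
  -- the maximal subgroup contains no member of the two classes
  have hend : ∀ (T₀ : Sylow 2 G) (F : Subgroup G), K ≤ F → F ≤ (T₀ : Subgroup G) →
      (∀ s ∈ (T₀ : Subgroup G), s * s ∈ F) → t ∈ (T₀ : Subgroup G) → t ∉ F → u * t ∈ F →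
      (∀ a ∈ (T₀ : Subgroup G), IsConj t a →
        16 ≤ Nat.card ↥((T₀ : Subgroup G) ⊓ centralizer ({a} : Set G)) → E a) → False := by
    intro T₀ F hKF hF hFsq htT htF hutF hext'
    obtain ⟨M, hFM, hMS, hidx, htM⟩ := exists_index_two (T₀ : Subgroup G) F hF hFsq htT htF
    obtain ⟨g, hgM, hgC⟩ := JTTransfer62.exists_extremal hG T₀ hMS hidx ht2 htM
      (ext_pGroup hb hl) (t_mem_ext hb hl) hTc
    rw [hT16] at hgC
    rcases hext' _ (hMS hgM) (isConj_iff.mpr ⟨g⁻¹, by group⟩) hgC with h | h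
    · refine htM ?_
      have h2 := mul_mem (hFM (hKF (hVK h))) (inv_mem hgM)
      rwa [mul_inv_cancel_right] at h2
    · refine htM ?_
      have h2 := mul_mem (hFM (hKF h.1)) (inv_mem hgM)
      rw [mul_inv_cancel_right] at h2
      have h4 := mul_mem (inv_mem h2) (hFM hutF)
      rwa [inv_mul_cancel_left] at h4
  have hutK : u * t * (u * t) ∈ K := hsq _ hut
  by_cases hRS : R = (S : Subgroup G)
  · let F : Subgroup G :=
      { carrier := {x | x ∈ R ∧ (x ∈ K ∨ u * t * x ∈ K)}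
        one_mem' := ⟨one_mem _, Or.inl (one_mem _)⟩
        mul_mem' := by
          rintro a a' ⟨ha, ha'⟩ ⟨hb', hb''⟩
          refine ⟨mul_mem ha hb', ?_⟩
          rcases ha' with h1 | h1 <;> rcases hb'' with h2 | h2
          · exact Or.inl (mul_mem h1 h2)
          · refine Or.inr ?_
            rw [show u * t * (a * a') = (u * t * a * (u * t)⁻¹) * (u * t * a') by group]
            exact mul_mem (conj_K hsq hKR hut h1) h2
          · exact Or.inr (by rw [← mul_assoc]; exact mul_mem h1 h2)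
          · refine Or.inl ?_
            rw [show a * a' = (u * t)⁻¹ * ((u * t * a) * (u * t * (u * t))⁻¹) * (u * t)⁻¹⁻¹ *
              (u * t * a') by group]
            exact mul_mem (conj_K hsq hKR (inv_mem hut) (mul_mem h1 (inv_mem hutK))) h2
        inv_mem' := by
          rintro a ⟨ha, h1 | h1⟩
          · exact ⟨inv_mem ha, Or.inl (inv_mem h1)⟩
          · refine ⟨inv_mem ha, Or.inr ?_⟩
            rw [show u * t * a⁻¹ = (u * t * a) * (a⁻¹ * a⁻¹) by group]
            exact mul_mem h1 (hsq _ (inv_mem ha)) }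
    refine hend S F (fun x hx => ⟨hKR hx, Or.inl hx⟩) (fun x hx => hS hx.1)
      (fun s hs => ?_) (hS h3.t_mem) ?_ ⟨hut, Or.inr hutK⟩ fun a ha hac h16 => ?_
    · have hsR : s ∈ R := hRS ▸ hs
      exact ⟨mul_mem hsR hsR, Or.inl (hsq s hsR)⟩
    · rintro ⟨-, h | h⟩
      · exact htK h
      · rw [mul_assoc, hb.t_sq, mul_one] at h
        exact huK h
    · exact hclass a (hRS ▸ ha) hac (by rwa [show C a = (S : Subgroup G) ⊓
        centralizer ({a} : Set G) by simp only [C]; rw [← hRS]])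
  obtain ⟨g, hgN, hgR⟩ : ∃ g ∈ N, g ∉ R := by
    by_contra hall
    push Not at hall
    exact hRS (eq_of_self_normalizing S.isPGroup' hS fun x hx hxn =>
      hall x ⟨hx, mem_normalizer_iff_conj_image_eq.mpr (Set.eq_of_subset_of_ncard_le
        (Set.image_subset_iff.mpr fun a ha => hxn a ha)
        (le_of_eq (Set.ncard_image_of_injective _ (MulAut.conj x).injective).symm))⟩)
  -- elements outside `R` normalise `K`
  have hKconj : ∀ h ∈ N, ∀ x ∈ K, h * x * h⁻¹ ∈ K := by
    intro h hh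
    by_cases hhR : h ∈ R
    · exact fun x hx => conj_K hsq hKR hhR hx
    obtain ⟨hs1, hs2⟩ := hswap h hh hhR
    have hv : ∀ v ∈ V, h * v * h⁻¹ ∈ V' := by
      intro v hv
      have h1 := hs1 (t * v) (by rwa [← mul_assoc, hb.t_sq, one_mul])
      have h2 := hs1 t htE
      have h3' := mul_mem h2 h1
      have hcu : ∀ {A}, u * A ∈ V' → u * A = A * u := fun hA =>
        comm_el helC huC (hout' hA).2.2
      convert h3' using 1
      calc h * v * h⁻¹ = (h * t * h⁻¹) * (h * (t * v) * h⁻¹) := by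
            calc h * v * h⁻¹ = h * (t * t) * v * h⁻¹ := by rw [hb.t_sq]; group
              _ = _ := by group
        _ = (h * t * h⁻¹) * (u * u) * (h * (t * v) * h⁻¹) := by rw [hu1, mul_one]
        _ = ((h * t * h⁻¹) * u) * (u * (h * (t * v) * h⁻¹)) := by group
        _ = _ := by rw [← hcu h2]
    have hkc : h * k * h⁻¹ ∈ V := by
      have h1 := hs2 u (by rw [hu1]; exact one_mem _)
      have h2 := hs2 (u * k) (by rw [← mul_assoc, hu1, one_mul]; exact ⟨hkK, hkC⟩)
      have h3' := mul_mem h1 h2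
      convert h3' using 1
      have hc : t * (h * u * h⁻¹) = (h * u * h⁻¹) * t :=
        comm_el hPsq (t_mem_ext hb hl) (Or.inr h1)
      calc h * k * h⁻¹ = (h * u * h⁻¹) * (h * (u * k) * h⁻¹) := by
            calc h * k * h⁻¹ = h * (u * u) * k * h⁻¹ := by rw [hu1]; group
              _ = _ := by group
        _ = (h * u * h⁻¹) * (t * t) * (h * (u * k) * h⁻¹) := by rw [hb.t_sq, mul_one]
        _ = ((h * u * h⁻¹) * t) * (t * (h * (u * k) * h⁻¹)) := by group
        _ = _ := by rw [← hc]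
    intro x hx
    rcases (hKk x).mp hx with h1 | h1
    · exact (hv x h1).1
    · have := mul_mem (hVK hkc) (hv _ h1).1
      rwa [show h * k * h⁻¹ * (h * (k * x) * h⁻¹) = h * (k * k) * x * h⁻¹ by group, hk1,
        mul_one] at this
  have hVmap : ∀ h ∈ N, h ∉ R → ∀ x, x ∈ K → x * x = 1 → h * x * h⁻¹ = x → x ∈ W := by
    intro h hh hhR x hxK hx1 hfixx
    obtain ⟨hs1, hs2⟩ := hswap h hh hhR
    rcases hKinv x hxK hx1 with h1 | ⟨h1, -⟩
    · have h2 := hs1 (t * x) (by rwa [← mul_assoc, hb.t_sq, one_mul])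
      have h2' := hs1 t htE
      have h4 := mul_mem (hout' h2').2.2 (hout' h2).2.2
      rw [show h * t * h⁻¹ * (h * (t * x) * h⁻¹) = h * (t * t) * x * h⁻¹ by group, hb.t_sq, mul_one,
        hfixx] at h4
      exact ⟨h1, h4.2⟩
    · have h2 := hs2 (u * x) (by rw [← mul_assoc, hu1, one_mul]; exact ⟨hxK, h1⟩)
      have h2' := hs2 u (by rw [hu1]; exact one_mem _)
      have h4 := mul_mem (show h * u * h⁻¹ ∈ ext hb hl from Or.inr h2')
        (show h * (u * x) * h⁻¹ ∈ ext hb hl from Or.inr h2)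
      rw [show h * u * h⁻¹ * (h * (u * x) * h⁻¹) = h * (u * u) * x * h⁻¹ by group, hu1, mul_one,
        hfixx] at h4
      rcases hext.mp h4 with h5 | h5
      · exact ⟨h5, h1.2⟩
      · exact absurd (conj_of_commute (hCmem.mp h1).2.symm) (no_fix' hb hl h3 huR huP h5)
  -- no involution outside `R` centralises a group of order eight
  have hnoE : ∀ h ∈ N, h ∉ R → ∀ A : Subgroup G, A ≤ R → (∀ x ∈ A, x * x = 1) →
      (∀ x ∈ A, h * x * h⁻¹ = x) → Nat.card A ≤ 4 := by
    intro h hh hhR A hAR hA1 hAc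
    obtain ⟨hs1, hs2⟩ := hswap h hh hhR
    have hAW : ∀ x ∈ A, (∀ y ∈ W, x * y = y * x) → x ∈ W := by
      intro x hx hxW
      refine hVmap h hh hhR x ?_ (hA1 x hx) (hAc x hx)
      rcases hshape x (hAR hx) (hA1 x hx) hxW with h1 | h1 | h1
      · exact hVK h1
      · exfalso
        have h2 := hs1 x h1
        rw [hAc x hx] at h2
        exact (hout' h2).2.1 (Or.inr h1)
      · rcases hCdec x h1 with h2 | h2
        · exact h2.1
        · exfalso
          have h4 := hs2 x h2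
          rw [hAc x hx] at h4
          exact (hout' h2).2.1 (Or.inr h4)
    by_cases hall : ∀ x ∈ A, ∀ y ∈ W, x * y = y * x
    · exact hW4 ▸ card_le_of_le fun x hx => hAW x hx (hall x hx)
    push Not at hall
    obtain ⟨a, haA, y0, hy0, hay⟩ := hall
    have hWsub : Nat.card ↥(A ⊓ W) ≤ 2 := by
      have hlt : A ⊓ W < W := by
        refine lt_of_le_of_ne inf_le_right fun e => hay ?_
        rw [← e] at hy0
        exact comm_el hA1 haA hy0.1
      have hd := card_dvd_of_le hlt.le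
      rw [hW4] at hd
      have hne : Nat.card ↥(A ⊓ W) ≠ 4 := fun e =>
        hlt.ne (eq_of_le_of_card_ge hlt.le (by rw [e, hW4]))
      have := Nat.le_of_dvd (by norm_num) hd
      interval_cases hc : Nat.card ↥(A ⊓ W) <;> omega
    have hsub : (A : Set G) ⊆ ((A ⊓ W : Subgroup G) : Set G) ∪
        (fun y => a⁻¹ * y) '' ((A ⊓ W : Subgroup G) : Set G) := by
      intro x hx
      by_cases hxW : ∀ y ∈ W, x * y = y * x
      · exact Or.inl ⟨hx, hAW x hx hxW⟩
      · refine Or.inr ⟨a * x, ⟨mul_mem haA hx, hAW _ (mul_mem haA hx) (htwo a (hAR haA) x (hAR hx)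
          (fun h' => hay (h' y0 hy0)) hxW)⟩, by simp⟩
    have := (Set.ncard_le_ncard hsub).trans (Set.ncard_union_le _ _)
    rw [Set.ncard_image_of_injective _ (mul_right_injective _),
      show (A : Set G).ncard = Nat.card A from (Nat.card_coe_set_eq _).symm,
      show ((A ⊓ W : Subgroup G) : Set G).ncard = Nat.card ↥(A ⊓ W) from
        (Nat.card_coe_set_eq _).symm] at this
    omega
  -- members with a large centraliser in `N`
  have hNclass : ∀ a ∈ N, IsConj t a → 16 ≤ Nat.card ↥(N ⊓ centralizer ({a} : Set G)) → E a := by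
    intro a ha hac h16
    set D := N ⊓ centralizer ({a} : Set G) with hD
    have hDel : ∀ x ∈ D, x * x = 1 := el D a (hNp.to_le inf_le_left) hac
      fun x hx => mem_centralizer_singleton_iff.mp hx.2
    by_cases hDR : D ≤ R
    · have haR : a ∈ R := hDR ⟨ha, mem_centralizer_singleton_iff.mpr rfl⟩
      exact hclass a haR hac (h16.trans (card_le_of_le fun x hx => ⟨hDR hx, hx.2⟩))
    exfalso
    obtain ⟨h, hhD, hhR⟩ := SetLike.not_le_iff_exists.mp hDR
    have h4 := hnoE h hhD.1 hhR (D ⊓ R) inf_le_right (fun x hx => hDel x hx.1)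
      fun x hx => conj_of_commute (comm_el hDel hhD hx.1)
    have hsub : (D : Set G) ⊆ ((D ⊓ R : Subgroup G) : Set G) ∪
        (fun y => h⁻¹ * y) '' ((D ⊓ R : Subgroup G) : Set G) := by
      intro x hx
      by_cases hxR : x ∈ R
      · exact Or.inl ⟨hx, hxR⟩
      · exact Or.inr ⟨h * x, ⟨mul_mem hhD hx, hpair h hhD.1 x hx.1 hhR hxR⟩, by simp⟩
    have := (Set.ncard_le_ncard hsub).trans (Set.ncard_union_le _ _)
    rw [Set.ncard_image_of_injective _ (mul_right_injective _),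
      show (D : Set G).ncard = Nat.card D from (Nat.card_coe_set_eq _).symm,
      show ((D ⊓ R : Subgroup G) : Set G).ncard = Nat.card ↥(D ⊓ R) from
        (Nat.card_coe_set_eq _).symm] at this
    omega
  have hNS : N = (S : Subgroup G) := by
    refine eq_of_self_normalizing S.isPGroup' inf_le_left fun h hh hhn => ?_
    have hhE : ∀ a, E a → E (h * a * h⁻¹) := by
      intro a ha
      obtain ⟨hac, h16⟩ := hEbig a ha
      refine hNclass _ (hhn a (hRN (hER ha))) (hac.trans (isConj_iff.mpr ⟨h, rfl⟩)) ?_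
      refine h16.trans ?_
      rw [← card_map_of_injective (K := C a) (f := (MulAut.conj h).toMonoidHom)
        (MulAut.conj h).injective]
      refine card_le_of_le ?_
      rintro _ ⟨y, hy, rfl⟩
      simp only [MulEquiv.coe_toMonoidHom, MulAut.conj_apply]
      refine ⟨hhn y (hRN hy.1), mem_centralizer_singleton_iff.mpr ?_⟩
      have hyx := (hCmem.mp hy).2
      calc h * y * h⁻¹ * (h * a * h⁻¹) = h * (y * a) * h⁻¹ := by group
        _ = _ := by rw [hyx]; group
    rcases hperm h hhE with h' | ⟨h1, -⟩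
    · exact hRN (stab_tQ hb hl h3 S.isPGroup' hS hh fun x hx => h' x hx)
    · have := stab_tQ hb hl h3 S.isPGroup' hS (mul_mem hgN.1 hh) fun x hx => by
        rw [show g * h * x * (g * h)⁻¹ = g * (h * x * h⁻¹) * g⁻¹ by group]
        exact (hswap g hgN hgR).2 _ (h1 x hx)
      have h' := mul_mem (inv_mem hgN) (hRN this)
      rwa [inv_mul_cancel_left] at h'
  let F : Subgroup G :=
    { carrier := {r | r ∈ R ∧ g * r * g⁻¹ * r⁻¹ ∈ K}
      one_mem' := ⟨one_mem _, by simp⟩
      mul_mem' := by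
        rintro a a' ⟨ha, ha'⟩ ⟨hb', hb''⟩
        refine ⟨mul_mem ha hb', ?_⟩
        rw [show g * (a * a') * g⁻¹ * (a * a')⁻¹ =
          (g * a * g⁻¹ * a⁻¹) * (a * (g * a' * g⁻¹ * a'⁻¹) * a⁻¹) by group]
        exact mul_mem ha' (conj_K hsq hKR ha hb'')
      inv_mem' := by
        rintro a ⟨ha, ha'⟩
        refine ⟨inv_mem ha, ?_⟩
        rw [show g * a⁻¹ * g⁻¹ * a⁻¹⁻¹ = a⁻¹ * (g * a * g⁻¹ * a⁻¹)⁻¹ * a⁻¹⁻¹ by group]
        exact conj_K hsq hKR (inv_mem ha) (inv_mem ha') }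
  obtain ⟨hg1, hg2⟩ := hswap g hgN hgR
  refine hend S F (fun x hx => ⟨hKR hx, mul_mem (hKconj g hgN x hx) (inv_mem hx)⟩)
    (fun x hx => hS hx.1) (fun s hs => ?_) (hS h3.t_mem) ?_ ?_
    (fun a ha hac h16 => hNclass a (hNS ▸ ha) hac (by rw [hNS]; exact h16))
  · have hsN : s ∈ N := hNS ▸ hs
    by_cases hsR : s ∈ R
    · exact ⟨mul_mem hsR hsR, mul_mem (hKconj g hgN _ (hsq s hsR)) (inv_mem (hsq s hsR))⟩
    · have hss := hpair s hsN s hsN hsR hsR
      refine ⟨hss, ?_⟩
      have hr : s⁻¹ * g ∈ R := hpair _ (inv_mem hsN) g hgN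
        (fun e => hsR (by simpa using inv_mem e)) hgR
      rw [show g * (s * s) * g⁻¹ * (s * s)⁻¹ =
        s * ((s⁻¹ * g) * (s * s) * (s⁻¹ * g)⁻¹ * (s * s)⁻¹) * s⁻¹ by group]
      exact hKconj s hsN _ (comm_K hsq hr hss)
  · rintro ⟨-, h⟩
    have h1 := hg1 t htE
    have hBu : g * t * g⁻¹ * u ∈ K := by
      rw [← comm_el helC huC (hout' h1).2.2]; exact h1.1
    have h5 := mul_mem (inv_mem h) hBu
    rw [show (g * t * g⁻¹ * t⁻¹)⁻¹ * (g * t * g⁻¹ * u) = t * u by group] at h5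
    have h6 := conj_K hsq hKR h3.t_mem h5
    rw [show t * (t * u) * t⁻¹ = (t * t) * u * t⁻¹ by group, hb.t_sq, one_mul, hb.t_inv] at h6
    rcases (hKk _).mp h6 with hh | hh
    · have := mul_mem (le_ext hb hl hh) (t_mem_ext hb hl)
      rw [mul_assoc, hb.t_sq, mul_one] at this
      exact huP this
    · have := mul_mem (le_ext hb hl hh) (t_mem_ext hb hl)
      rw [← mul_assoc, mul_assoc, hb.t_sq, mul_one, ← comm_el helC huC hkC] at this
      exact hukP this
  · refine ⟨hut, ?_⟩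
    have h1 := hg1 t htE
    have h2 := hg2 u (by rw [hu1]; exact one_mem _)
    set A := g * u * g⁻¹
    set B := g * t * g⁻¹
    have hA : A ∈ R := hNnorm g hgN u huR
    have hB : B ∈ R := hNnorm g hgN t h3.t_mem
    rw [show g * (u * t) * g⁻¹ = A * B by simp only [A, B]; group, mul_inv_rev, huinv, hb.t_inv]
    have hAt : A * t ∈ K := by
      have := hVK (show A * t ∈ V by rw [← comm_el hPsq (t_mem_ext hb hl) (Or.inr h2)]; exact h2)
      exact this
    have hBu : B * u ∈ K := by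
      rw [← comm_el helC huC (hout' h1).2.2]; exact h1.1
    rw [show A * B * (t * u) = (A * t) * (t⁻¹ * B * t * B⁻¹) * (B * u) by group]
    refine mul_mem (mul_mem hAt ?_) hBu
    have := comm_K hsq (inv_mem h3.t_mem) hB
    rwa [inv_inv] at this

end Cfsg.Agent.JTThree62
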