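import Cfsg.Agent.Lib.JTGrow62
import Cfsg.Agent.Lib.JTThree62
import Cfsg.Agent.Lib.JTTransfer62

/-!
# An elementary centraliser Sylow subgroup which is not a Sylow subgroup of `G`
-/

set_option autoImplicit false
set_option linter.unusedSectionVars false

namespace Cfsg.Agent.JTEndElem62

open Subgroup
open JTSetup62 (Loc Elem)
open JTDihedral62 (conj_inj conj_comp conj_of_commute commute_of_conj card_le card_le_conj card_T)
open JTChain62 JTStep62 JTGrow62

variable {G : Type*} [Group G] [Finite G] {t c : G} {T D : Subgroup G} {n : ℕ}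

theorem toBase (hl : Loc t T D) (he : Elem t D n c) : Base ⊤ D t c n where
  two_le := he.two_le
  card_V := he.card_eq
  sq := he.sq
  t_sq := JTDihedral62.tt hl
  t_notMem := hl.t_notMem
  t_mem := mem_top _
  V_le := le_top
  comm := fun x hx => JTDihedral62.t_conj hl (hl.D_le hx)
  c_mem := mem_top _
  c_comm := he.comm
  c_norm := he.normal
  trans := he.trans
  norm_c := fun g _ hgt hgD => he.norm_c g hgt hgD
  bound := fun P _ hP hc => (card_le hl hP hc).trans (by rw [card_T hl, he.card_eq, pow_succ'])

theorem elem_big [IsSimpleGroup G] (hG : ¬ IsMulCommutative G) (hl : Loc t T D)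
    (he : Elem t D n c) (S : Sylow 2 G) (hTS : T ≤ (S : Subgroup G))
    (hlt : Nat.card T < Nat.card ↥(S : Subgroup G)) : False := by
  classical
  haveI : Fact (Nat.Prime 2) := ⟨Nat.prime_two⟩
  have hb := toBase hl he
  set N := nor hb hb.layer with hN
  have hT : ∀ {x : G}, x ∈ T → x ∈ JTChain62.ext hb hb.layer := fun hx => hl.cover _ hx
  have hT' : ∀ {x : G}, x ∈ JTChain62.ext hb hb.layer → x ∈ T := by
    intro x hx
    rcases hx with hx | hx
    · exact hl.D_le hx
    · have := mul_mem (inv_mem hl.t_mem) (hl.D_le hx)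
      rwa [inv_mul_cancel_left] at this
  have hcN : c ∈ N := c_mem_nor hb hb.layer hb.c_norm
  have hout : ∀ g ∈ N, g * t * g⁻¹ ∉ D := by
    intro g₀ hg₀ hD₀
    have hne : ∀ g : G, g * t * g⁻¹ ≠ 1 := fun g e => by
      have := hl.orderOf_t
      rw [conj_eq_one_iff.mp e, orderOf_one] at this
      omega
    have hci : ∀ i : ℕ, c ^ i * t * (c ^ i)⁻¹ = t := conj_pow_fix he.comm
    have hDall : ∀ x ∈ D, x ≠ 1 → ∃ g ∈ N, g * t * g⁻¹ = x := by
      intro x hx hx1
      obtain ⟨i, hi⟩ := he.trans _ hD₀ x hx (hne g₀) hx1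
      exact ⟨c ^ i * g₀, mul_mem (pow_mem hcN i) hg₀, by rw [conj_comp]; exact hi⟩
    by_cases hA : ∃ g ∈ N, g * t * g⁻¹ ≠ t ∧ t * (g * t * g⁻¹) ∈ D
    · -- every involution of `T` is a conjugate: the orbit is odd
      obtain ⟨g, hg, hgne, hgD⟩ := hA
      have hall : ∀ x ∈ T, x ≠ 1 → ∃ h ∈ N, h * t * h⁻¹ = x := by
        intro x hx hx1
        rcases hl.cover x hx with hx' | hx'
        · exact hDall x hx' hx1
        · by_cases hxt : x = t
          · exact ⟨1, one_mem _, by simp [hxt]⟩
          · have h1 : ∀ {y : G}, y ≠ t → t * y ≠ 1 := fun hy e => hy (by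
              rw [eq_inv_of_mul_eq_one_right e, hb.t_inv])
            obtain ⟨i, hi⟩ := he.trans _ hgD _ hx' (h1 hgne) (h1 hxt)
            refine ⟨c ^ i * g, mul_mem (pow_mem hcN i) hg, ?_⟩
            rw [← conj_mul, hci i] at hi
            rw [conj_comp]
            exact mul_left_cancel hi
      let Nt : Subgroup G := N ⊓ centralizer ({t} : Set G)
      have hNt : ∀ a b : ↥N, a⁻¹ * b ∈ Nt.subgroupOf N ↔
          (a : G) * t * (a : G)⁻¹ = (b : G) * t * (b : G)⁻¹ := by
        intro a b
        rw [mem_subgroupOf, mem_inf, mem_centralizer_singleton_iff]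
        simp only [coe_mul, coe_inv]
        constructor
        · rintro ⟨-, e⟩
          calc (a : G) * t * (a : G)⁻¹ = (a : G) * (t * ((a : G)⁻¹ * b)) * (b : G)⁻¹ := by group
            _ = (b : G) * t * (b : G)⁻¹ := by rw [← e]; group
        · intro e
          refine ⟨mul_mem (inv_mem a.2) b.2, ?_⟩
          calc (a : G)⁻¹ * b * t = (a : G)⁻¹ * ((b : G) * t * (b : G)⁻¹) * b := by group
            _ = t * ((a : G)⁻¹ * b) := by rw [← e]; group
      let f : ↥N ⧸ Nt.subgroupOf N → {x : ↥T // x ≠ 1} := Quotient.lift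
        (fun g : ↥N => ⟨⟨(g : G) * t * (g : G)⁻¹, hT' (conj_ext hb hb.layer g.2 (hT hl.t_mem))⟩,
          fun e => hne (g : G) (congrArg Subtype.val e)⟩)
        (fun a b hab => by
          have := (hNt a b).mp (QuotientGroup.leftRel_apply.mp hab)
          exact Subtype.ext (Subtype.ext this))
      have hf : Function.Bijective f := by
        constructor
        · intro p q hpq
          induction p using Quotient.inductionOn with
          | h a =>
            induction q using Quotient.inductionOn with
            | h b =>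
              exact Quotient.sound (QuotientGroup.leftRel_apply.mpr ((hNt a b).mpr
                (congrArg Subtype.val (congrArg Subtype.val hpq))))
        · rintro ⟨⟨x, hx⟩, hx1⟩
          obtain ⟨h, hh, hhx⟩ := hall x hx (fun e => hx1 (Subtype.ext e))
          exact ⟨QuotientGroup.mk ⟨h, hh⟩, Subtype.ext (Subtype.ext hhx)⟩
      have hidx : (Nt.subgroupOf N).index = Nat.card T - 1 := by
        rw [Subgroup.index, Nat.card_eq_of_bijective f hf]
        haveI := Fintype.ofFinite ↥T
        simp [Nat.card_eq_fintype_card]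
      -- a larger 2-group in `N`
      haveI := (S.isPGroup').isNilpotent
      have hlt' : T.subgroupOf (S : Subgroup G) < ⊤ := lt_top_iff_ne_top.mpr fun e => by
        have := card_le_of_le (subgroupOf_eq_top.mp e)
        omega
      obtain ⟨⟨s, hsS⟩, hsN, hsT⟩ :=
        SetLike.exists_of_lt (Group.normalizerCondition_of_isNilpotent _ hlt')
      have hsN' : s ∈ N := mem_nor hb hb.layer (mem_top _) fun x hx =>
        hT (((mem_normalizer_iff.mp hsN) ⟨x, hTS (hT' hx)⟩).mp (hT' hx))
      set R := (S : Subgroup G) ⊓ N with hR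
      have hPR : JTChain62.ext hb hb.layer ≤ R := fun x hx =>
        ⟨hTS (hT' hx), ext_le_nor hb hb.layer hx⟩
      have hTR : T ≤ R := fun x hx => hPR (hT hx)
      have hRT : Nat.card T < Nat.card R := by
        refine lt_of_le_of_ne (card_le_of_le hTR) fun e => hsT ?_
        have h := eq_of_le_of_card_ge hTR e.ge
        exact mem_subgroupOf.mpr (h.symm ▸ (show s ∈ R from ⟨hsS, hsN'⟩) : s ∈ T)
      have hRp : IsPGroup 2 R := S.isPGroup'.to_le inf_le_left
      have h1 : Nat.card R ∣ Nat.card N := card_dvd_of_le inf_le_right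
      obtain ⟨j, hj⟩ := IsPGroup.iff_card.mp hRp
      have h2 := (Nt.subgroupOf N).card_mul_index
      rw [hidx, Nat.card_congr (subgroupOfEquivOfLe (inf_le_left : Nt ≤ N)).toEquiv] at h2
      have hodd : ¬ 2 ∣ Nat.card T - 1 := by
        rw [card_T hl]; have := (Nat.card_pos : 0 < Nat.card D); omega
      have h3 : 2 ^ j ∣ Nat.card Nt := by
        rw [← hj]
        refine Nat.Coprime.dvd_of_dvd_mul_right ?_ (h2 ▸ h1)
        rw [hj]
        exact Nat.Coprime.pow_left j (Nat.prime_two.coprime_iff_not_dvd.mpr hodd)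
      obtain ⟨U, hU⟩ := Sylow.exists_subgroup_card_pow_prime 2 h3
      have hUp : IsPGroup 2 (U.map Nt.subtype) := (IsPGroup.iff_card.mpr ⟨j, hU⟩).map _
      have h4 := card_le hl hUp (fun x hx => by
        have := map_subtype_le _ hx
        exact mem_centralizer_singleton_iff.mp this.2)
      rw [card_map_of_injective (K := U) Nt.subtype_injective, hU, ← hj] at h4
      omega
    · -- `D` is invariant
      push Not at hA
      have hfix : ∀ g ∈ N, t * (g * t * g⁻¹) ∈ D → g * t * g⁻¹ = t := fun g hg h => by
        by_contra hne'; exact hA g hg hne' h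
      have hB : ∀ h ∈ N, ∀ a ∈ D, a ≠ 1 → t * (h * (t * a) * h⁻¹) ∈ D := by
        intro h hh a ha ha1
        have hmem : h * (t * a) * h⁻¹ ∈ T :=
          hT' (conj_ext hb hb.layer hh (hT (mul_mem hl.t_mem (hl.D_le ha))))
        refine (hl.cover _ hmem).resolve_left fun hD => ?_
        have hne1 : h * (t * a) * h⁻¹ ≠ 1 := fun e => by
          have h1 := conj_eq_one_iff.mp e
          exact hl.t_notMem (by rw [eq_inv_of_mul_eq_one_left h1]; exact inv_mem ha)
        obtain ⟨g, hg, hgx⟩ := hDall _ hD hne1
        have hgh : h⁻¹ * g * t * (h⁻¹ * g)⁻¹ = t * a := by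
          rw [conj_comp, hgx]; group
        have := hfix (h⁻¹ * g) (mul_mem (inv_mem hh) hg) (by
          rw [hgh, ← mul_assoc, hb.t_sq, one_mul]; exact ha)
        rw [hgh, mul_eq_left] at this
        exact ha1 this
      have hinv : ∀ h ∈ N, ∀ x ∈ D, h * x * h⁻¹ ∈ D := by
        intro h hh x hx
        by_cases hx1 : x = 1
        · subst hx1; simp
        obtain ⟨y, hy, hy1, hyx⟩ : ∃ y ∈ D, y ≠ 1 ∧ y ≠ x := by
          by_contra hno
          push Not at hno
          have hsub : (D : Set G) ⊆ {1, x} := fun y hy => by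
            by_cases hy1 : y = 1
            · exact Or.inl hy1
            · exact Or.inr (hno y hy hy1)
          have h1 : Nat.card D ≤ 2 := by
            refine (Nat.card_mono (Set.toFinite _) hsub).trans ?_
            rw [Nat.card_coe_set_eq]
            exact (Set.ncard_insert_le _ _).trans (by rw [Set.ncard_singleton])
          rw [he.card_eq] at h1
          have := Nat.pow_le_pow_right (show 0 < 2 by norm_num) he.two_le
          omega
        have hyx1 : y * x ≠ 1 := fun e => hyx (by
          rw [eq_inv_of_mul_eq_one_left e]; exact inv_eq_of_mul_eq_one_right (he.sq x hx))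
        have e : h * x * h⁻¹ = (t * (h * (t * y) * h⁻¹))⁻¹ * (t * (h * (t * (y * x)) * h⁻¹)) := by
          group
        rw [e]
        exact mul_mem (inv_mem (hB h hh y hy hy1)) (hB h hh _ (mul_mem hy hx) hyx1)
      have := hinv g₀⁻¹ (inv_mem hg₀) _ hD₀
      exact hl.t_notMem (by convert this using 1; group)
  have hmore : ∃ R : Subgroup G, R ≤ ⊤ ∧ IsPGroup 2 R ∧ D ≤ R ∧ t ∈ R ∧
      2 * Nat.card D < Nat.card R :=
    ⟨S, le_top, S.isPGroup', hl.D_le.trans hTS, hTS hl.t_mem, by rw [← card_T hl]; exact hlt⟩
  rcases chain hb hout hmore with ⟨hn, R, h3⟩ | ⟨c', Q, Q₁, Q₂, m, h, hend⟩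
  · subst hn
    refine JTThree62.three_one hG hb h3 fun P hP hc x hx => ?_
    obtain ⟨g, -, hg⟩ := hl.sylow P hP hc
    have hy := hg x hx
    have hsq : (g * x * g⁻¹) * (g * x * g⁻¹) = 1 := by
      rcases hl.cover _ hy with h | h
      · exact he.sq _ h
      · have h1 := he.sq _ h
        set y := g * x * g⁻¹ with hydef
        calc y * y = (t * t) * y * y := by rw [hb.t_sq, one_mul]
          _ = t * (t * y) * y := by group
          _ = t * (y * t) * y := by rw [hl.comm y hy]
          _ = t * y * (t * y) := by group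
          _ = 1 := h1
    rw [conj_mul, conj_eq_one_iff] at hsq
    exact hsq
  · rcases hend with hmax | ⟨hn, R, h3⟩
    · set P := JTChain62.ext h.base h.top with hP
      obtain ⟨S', hS'⟩ := (ext_pGroup h.base h.top).exists_le_sylow
      have h1 : (S' : Subgroup G) = P := (eq_of_le_of_card_ge hS' (by
        rw [card_ext h.base h.top]
        exact hmax S' le_top S'.isPGroup' ((le_ext h.base h.top).trans hS')
          (hS' (t_mem_ext h.base h.top)))).symm
      have hQS : Q ≤ (S' : Subgroup G) := (le_ext h.base h.top).trans hS'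
      have hidx : (Q.subgroupOf (S' : Subgroup G)).index = 2 := by
        have h2 := (Q.subgroupOf (S' : Subgroup G)).card_mul_index
        rw [Nat.card_congr (subgroupOfEquivOfLe hQS).toEquiv, h1, hP, card_ext h.base h.top,
          mul_comm 2] at h2
        rw [h1, hP]
        exact Nat.eq_of_mul_eq_mul_left Nat.card_pos h2
      obtain ⟨g, hgQ, -⟩ := JTTransfer62.exists_extremal hG S' hQS hidx hl.orderOf_t h.top.t_notMem
        hl.pT hl.t_mem hl.comm
      have h2 := h.big hgQ
      have h3 := card_le_conj hl (h.top.pQ.to_le inf_le_left)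
        (isConj_iff.mpr ⟨g⁻¹, by rw [inv_inv]⟩)
        (P := Q ⊓ centralizer ({g⁻¹ * t * g} : Set G))
        (fun x hx => mem_centralizer_singleton_iff.mp hx.2)
      rw [card_T hl, he.card_eq, ← pow_succ'] at h3
      have h4 := (Nat.pow_le_pow_iff_right (show 1 < 2 by norm_num)).mp (h2.trans h3)
      have := he.two_le
      omega
    · subst hn
      exact JTThree62.three_two hG h h3

end Cfsg.Agent.JTEndElem62
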