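import Cfsg.Agent.Lib.JTDihedral62
import Cfsg.Agent.Lib.ZStarTheorem
import Cfsg.Agent.Lib.TransferThompson

/-!
# `D` dihedral: the Sylow subgroup is at least four times `T`
-/

set_option autoImplicit false
set_option linter.unusedSectionVars false

namespace Cfsg.Agent.JTSmall62

open Subgroup JTSetup62 JTDihedral62

variable {G : Type*} [Group G] [Finite G]

theorem orderOf_conj_eq (g x : G) : orderOf (g * x * g⁻¹) = orderOf x :=
  (MulAut.conj g).orderOf_eq x

/-- An isolated involution in a simple group is impossible. -/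
theorem isolated_false [IsSimpleGroup G] (hG : ¬ IsMulCommutative G) {t : G}
    (hiso : IsIsolatedInvolution t) : False := by
  obtain ⟨N, hN, hodd, hc⟩ := ZStarTheorem.exists_odd_normal hiso
  rcases hN.eq_bot_or_eq_top with e | e
  · apply hG
    have htc : t ∈ center G := mem_center_iff.mpr fun g => by
      have h1 := hc g
      rw [e, mem_bot, mul_inv_eq_one, mul_inv_eq_iff_eq_mul] at h1
      exact h1.symm
    rcases (inferInstance : (center G).Normal).eq_bot_or_eq_top with e' | e'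
    · rw [e', mem_bot] at htc
      have h2 := hiso.1
      rw [htc, orderOf_one] at h2
      omega
    · exact ⟨⟨fun a b => mem_center_iff.mp (e' ▸ mem_top b) a⟩⟩
  · subst e
    rw [card_top] at hodd
    have h2 : 2 ∣ Nat.card G := hiso.1 ▸ orderOf_dvd_natCard t
    exact Nat.not_odd_iff_even.mpr (even_iff_two_dvd.mpr h2) hodd

/-- An involution whose only conjugate in its own centraliser part `T` is itself is isolated. -/
theorem isolated_of_unique {t : G} {T D : Subgroup G} (hl : Loc t T D)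
    (huniq : ∀ x ∈ T, IsConj t x → x = t) : IsIsolatedInvolution t := by
  refine ⟨hl.orderOf_t, fun g hcomm => ?_⟩
  set u := g * t * g⁻¹ with hu
  have hou : orderOf u = 2 := by rw [hu, orderOf_conj_eq]; exact hl.orderOf_t
  have hP : IsPGroup 2 (zpowers u) := IsPGroup.of_card (n := 1) (by rw [Nat.card_zpowers, hou, pow_one])
  obtain ⟨h, ht, hh⟩ := hl.sylow (zpowers u) hP (fun x hx => by
    obtain ⟨i, rfl⟩ := hx
    exact ((hcomm.zpow_right i).symm).eq)
  have h1 : h * u * h⁻¹ = t := huniq _ (hh u (mem_zpowers u))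
    (isConj_iff.mpr ⟨h * g, by rw [conj_comp]⟩)
  exact conj_inj (h1.trans ht.symm)

/-- A permutation by a normalising element of a Sylow subgroup of two central involutions. -/
theorem no_swap_in_normalizer (S : Sylow 2 G) {t z n : G}
    (hz : n * z * n⁻¹ = z) (hn : n * t * n⁻¹ = t * z)
    (hzz : z * z = 1) (hz1 : z ≠ 1) (hnS : n ∈ normalizer ((S : Subgroup G) : Set G))
    (htS : ∀ s ∈ (S : Subgroup G), s * t = t * s) : False := by
  haveI : Fact (Nat.Prime 2) := ⟨Nat.prime_two⟩
  obtain ⟨a, m, hm, hnm⟩ := Nat.exists_eq_pow_mul_and_not_dvd (orderOf_pos n).ne' 2 (by norm_num)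
  have hpow : ∀ i : ℕ, n ^ (2 * i) * t * (n ^ (2 * i))⁻¹ = t := by
    intro i
    induction i with
    | zero => simp
    | succ i ih =>
      rw [show 2 * (i + 1) = 2 * i + 1 + 1 by ring, pow_succ', conj_comp, pow_succ', conj_comp, ih,
        hn, ← conj_mul, hn, hz, mul_assoc, hzz, mul_one]
  obtain ⟨r, hr⟩ : ∃ r, m = 2 * r + 1 := ⟨m / 2, by omega⟩
  have hk : n ^ m * t * (n ^ m)⁻¹ = t * z := by rw [hr, pow_succ', conj_comp, hpow, hn]
  have hpg : IsPGroup 2 (zpowers (n ^ m)) := by
    apply IsPGroup.of_card_dvd_pow (n := a)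
    rw [Nat.card_zpowers, orderOf_dvd_iff_pow_eq_one, ← pow_mul, Nat.mul_comm, ← hnm]
    exact pow_orderOf_eq_one n
  have hle : n ^ m ∈ (S : Subgroup G) := by
    have := IsPGroup.to_sup_of_normal_left' S.isPGroup' hpg (zpowers_le.mpr (pow_mem hnS m))
    rw [← S.is_maximal' this le_sup_left]
    exact mem_sup_right (mem_zpowers _)
  rw [conj_of_commute (htS _ hle), left_eq_mul] at hk
  exact hz1 hk

/-- `T` is never a Sylow subgroup of `G` in the dihedral case. -/
theorem dih_full [IsSimpleGroup G] (hG : ¬ IsMulCommutative G) {t : G} {T D : Subgroup G} {k : ℕ}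
    {c b : G} (h : DH t T D k c b) (S : Sylow 2 G) (hS : T = (S : Subgroup G)) : False := by
  haveI : Fact (Nat.Prime 2) := ⟨Nat.prime_two⟩
  have hzc : ∀ s ∈ (S : Subgroup G), s * zz k c = zz k c * s := fun s hs =>
    z_central h (hS ▸ hs : s ∈ T)
  have htc : ∀ s ∈ (S : Subgroup G), s * t = t * s := fun s hs =>
    h.loc.comm s (hS ▸ hs : s ∈ T)
  have hzfix : ∀ n ∈ normalizer ((S : Subgroup G) : Set G), n * zz k c * n⁻¹ = zz k c := by
    intro n hn
    obtain ⟨y, hy, hyy⟩ := z_isSquare h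
    have hy' : n * y * n⁻¹ ∈ T := by rw [hS] at hy ⊢; exact (mem_normalizer_iff.mp hn y).mp hy
    refine sq_eq_z h hy' ?_ (by rw [orderOf_conj_eq]; exact orderOf_z h)
    rw [conj_mul, hyy]
  have h1 : ¬ IsConj t (zz k c) := by
    intro e
    obtain ⟨g, hg⟩ := isConj_iff.mp e
    obtain ⟨n, hn, hn'⟩ := exists_normalizer_conj S htc hzc hg
    exact h.loc.t_notMem ((conj_inj (hn'.trans (hzfix n hn).symm)).symm ▸ z_mem h)
  have h2 : ¬ IsConj t (t * zz k c) := by
    intro e
    obtain ⟨g, hg⟩ := isConj_iff.mp e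
    obtain ⟨n, hn, hn'⟩ := exists_normalizer_conj S htc (fun s hs => by
      rw [← mul_assoc, htc s hs, mul_assoc, hzc s hs, mul_assoc]) hg
    exact no_swap_in_normalizer S (hzfix n hn) hn' (z_sq h) (z_ne_one h) hn htc
  refine isolated_false hG (isolated_of_unique h.loc fun x hx hconj => ?_)
  have hox : orderOf x = 2 := by
    obtain ⟨g, hg⟩ := isConj_iff.mp hconj
    rw [← hg, orderOf_conj_eq]; exact h.loc.orderOf_t
  rcases inv_T h hx (mul_self_eq_one hox) with rfl | rfl | rfl | rfl | ⟨i, rfl⟩ | ⟨i, rfl⟩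
  · rw [orderOf_one] at hox; omega
  · exact absurd hconj h1
  · rfl
  · exact absurd hconj h2
  · exact absurd (hconj.trans (isConj_bc h i).symm) h1
  · exact absurd (hconj.trans (isConj_tbc h i).symm) h2

/-- Local data at a fully centralised conjugate. -/
theorem loc_at {t : G} {T D : Subgroup G} (hyp : LocHyp t) (hl : Loc t T D) (S : Sylow 2 G) {u : G}
    (hu : IsConj t u)
    (hcard : Nat.card T ≤ Nat.card ↥((S : Subgroup G) ⊓ centralizer ({u} : Set G))) :
    ∃ Du, Loc u ((S : Subgroup G) ⊓ centralizer ({u} : Set G)) Du := by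
  obtain ⟨g, hg⟩ := isConj_iff.mp hu
  have hmap := hyp.map (MulAut.conj g)
  rw [MulAut.conj_apply, hg] at hmap
  refine hmap _ (S.isPGroup'.to_le inf_le_left) (fun x hx => mem_centralizer_singleton_iff.mp hx.2)
    fun P hP hPc hle => (eq_of_le_of_card_ge hle ?_).symm
  exact (card_le_conj hl hP hu hPc).trans hcard

theorem dh_at {t : G} {T D : Subgroup G} {k : ℕ} {c b : G} (hyp : LocHyp t) (h : DH t T D k c b)
    (S : Sylow 2 G) {u : G} (hu : IsConj t u)
    (hcard : Nat.card T ≤ Nat.card ↥((S : Subgroup G) ⊓ centralizer ({u} : Set G)))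
    {y : G} (hy : y ∈ (S : Subgroup G) ⊓ centralizer ({u} : Set G)) (hy1 : y * y ≠ 1) :
    ∃ Du cu bu, DH u ((S : Subgroup G) ⊓ centralizer ({u} : Set G)) Du k cu bu := by
  obtain ⟨Du, hlu⟩ := loc_at hyp h.loc S hu hcard
  rcases hlu.shape with ⟨n, cu, e⟩ | ⟨k', cu, bu, e⟩
  · exfalso
    rcases hlu.cover y hy with hD | hD
    · exact hy1 (e.sq y hD)
    · apply hy1
      have := e.sq _ hD
      rwa [show u * y * (u * y) = u * (y * u) * y by group, hlu.comm y hy,
        show u * (u * y) * y = (u * u) * (y * y) by group, mul_self_eq_one hlu.orderOf_t,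
        one_mul] at this
  · have hd : DH u _ Du k' cu bu := ⟨hlu, e⟩
    have h1 : Nat.card ↥((S : Subgroup G) ⊓ centralizer ({u} : Set G)) = Nat.card T :=
      le_antisymm (card_le_conj h.loc (S.isPGroup'.to_le inf_le_left) hu
        fun x hx => mem_centralizer_singleton_iff.mp hx.2) hcard
    rw [card_T' hd, card_T' h] at h1
    have hk : k' = k := by have := Nat.pow_right_injective (le_refl 2) h1; omega
    exact ⟨Du, cu, bu, hk ▸ hd⟩

/-! ### `|S| = 2|T|` -/

section Small

variable {t : G} {T D : Subgroup G} {k : ℕ} {c b : G} (S : Sylow 2 G)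

/-- The standing hypotheses: `T` has index 2 in `S`. -/
structure Half (t : G) (T D : Subgroup G) (k : ℕ) (c b : G) : Prop where
  dh : DH t T D k c b
  le : T ≤ (S : Subgroup G)
  card : Nat.card ↥(S : Subgroup G) = 2 * Nat.card T
  cen : ∀ s ∈ (S : Subgroup G), s * t = t * s → s ∈ T

variable {S} (h : Half S t T D k c b)
include h

theorem idx : (T.subgroupOf (S : Subgroup G)).index = 2 := by
  have := (T.subgroupOf (S : Subgroup G)).card_mul_index
  rw [h.card, Nat.card_congr (subgroupOfEquivOfLe h.le).toEquiv, mul_comm 2] at this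
  exact Nat.eq_of_mul_eq_mul_left Nat.card_pos this

theorem conj_mem {s : G} (hs : s ∈ (S : Subgroup G)) {y : G} (hy : y ∈ T) : s * y * s⁻¹ ∈ T :=
  (normal_of_index_eq_two (idx h)).conj_mem ⟨y, h.le hy⟩ hy ⟨s, hs⟩

theorem mul_out {s y : G} (hs : s ∈ (S : Subgroup G)) (hy : y ∈ (S : Subgroup G)) :
    s * y ∈ T ↔ (s ∈ T ↔ y ∈ T) :=
  mul_mem_iff_of_index_two (idx h) (a := ⟨s, hs⟩) (b := ⟨y, hy⟩)

theorem z_fix {s : G} (hs : s ∈ (S : Subgroup G)) : s * zz k c * s⁻¹ = zz k c := by
  obtain ⟨y, hy, hyy⟩ := z_isSquare h.dh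
  exact sq_eq_z h.dh (conj_mem h hs hy) (by rw [conj_mul, hyy])
    (by rw [orderOf_conj_eq]; exact orderOf_z h.dh)

theorem t_move {s : G} (hs : s ∈ (S : Subgroup G)) (hsT : s ∉ T) :
    s * t * s⁻¹ = t * zz k c := by
  have hmem := conj_mem h hs h.dh.loc.t_mem
  have hcen : ∀ y ∈ T, y * (s * t * s⁻¹) = s * t * s⁻¹ * y := by
    intro y hy
    have h1 := conj_mem h (inv_mem hs) hy
    rw [inv_inv] at h1
    calc y * (s * t * s⁻¹) = s * ((s⁻¹ * y * s) * t) * s⁻¹ := by group
      _ = s * (t * (s⁻¹ * y * s)) * s⁻¹ := by rw [h.dh.loc.comm _ h1]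
      _ = s * t * s⁻¹ * y := by group
  rcases center_T h.dh hmem hcen with e | e | e | e
  · have := h.dh.loc.orderOf_t
    rw [conj_eq_one_iff.mp e, orderOf_one] at this
    omega
  · exact absurd (conj_inj (e.trans (z_fix h hs).symm) ▸ z_mem h.dh) h.dh.loc.t_notMem
  · exact absurd (h.cen s hs (commute_of_conj e)) hsT
  · exact e

theorem exists_out : ∃ s ∈ (S : Subgroup G), s ∉ T := by
  by_contra hall
  push Not at hall
  have h2 := h.card
  rw [show (S : Subgroup G) = T from le_antisymm hall h.le] at h2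
  have := Nat.card_pos (α := T)
  omega

theorem z_not_conj : ¬ IsConj t (zz k c) :=
  not_conj h.dh.loc S.isPGroup'
    (fun s hs => commute_of_conj (z_fix h hs)) (by
      rw [h.card]; have := Nat.card_pos (α := T); omega)

theorem conj_tz : IsConj t (t * zz k c) := by
  obtain ⟨s, hs, hsT⟩ := exists_out h
  exact isConj_iff.mpr ⟨s, t_move h hs hsT⟩

theorem conj_tbc (i : ℤ) : IsConj t (t * (b * c ^ i)) :=
  (conj_tz h).trans (isConj_tbc h.dh i)

theorem bc_not_conj (i : ℤ) : ¬ IsConj t (b * c ^ i) := fun e =>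
  z_not_conj h (e.trans (isConj_bc h.dh i).symm)

theorem D_norm_bc {s : G} (hs : s ∈ (S : Subgroup G)) (i : ℤ) :
    ∃ j : ℤ, s * (b * c ^ i) * s⁻¹ = b * c ^ j := by
  have hmem := conj_mem h hs (h.dh.loc.D_le (bc_mem h.dh i))
  have hsq : s * (b * c ^ i) * s⁻¹ * (s * (b * c ^ i) * s⁻¹) = 1 := by
    rw [conj_mul, bc_sq h.dh]; group
  have hc : IsConj (zz k c) (s * (b * c ^ i) * s⁻¹) :=
    (isConj_bc h.dh i).trans (isConj_iff.mpr ⟨s, rfl⟩)
  rcases inv_T h.dh hmem hsq with e | e | e | e | ⟨j, e⟩ | ⟨j, e⟩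
  · exact absurd (conj_eq_one_iff.mp e) (bc_ne_one h.dh i)
  · exfalso
    refine bc_ne_cpow h.dh i ((2 : ℤ) ^ (k - 1)) ?_
    rw [← z_eq h.dh]
    exact conj_inj (e.trans (z_fix h hs).symm)
  · rw [e] at hc; exact absurd hc.symm (z_not_conj h)
  · rw [e] at hc; exact absurd ((conj_tz h).trans hc.symm) (z_not_conj h)
  · exact ⟨j, e⟩
  · rw [e] at hc; exact absurd ((conj_tbc h j).trans hc.symm) (z_not_conj h)

theorem action {s : G} (hs : s ∈ (S : Subgroup G)) :
    ∃ l κ : ℤ, s * b * s⁻¹ = b * c ^ l ∧ Odd κ ∧ ∀ i : ℤ, s * c ^ i * s⁻¹ = c ^ (κ * i) := by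
  obtain ⟨l, hl⟩ := D_norm_bc h hs 0
  obtain ⟨l', hl'⟩ := D_norm_bc h hs 1
  rw [zpow_zero, mul_one] at hl
  rw [zpow_one] at hl'
  have hb2 := h.dh.dih.gen.b_sq
  have hcv : s * c * s⁻¹ = c ^ (l' - l) := by
    calc s * c * s⁻¹ = (s * b * s⁻¹)⁻¹ * (s * (b * c) * s⁻¹) := by group
      _ = (b * c ^ l)⁻¹ * (b * c ^ l') := by rw [hl, hl']
      _ = c ^ (l' - l) := by group
  refine ⟨l, l' - l, hl, ?_, fun i => by rw [← conj_zpow, hcv, ← zpow_mul]⟩
  rcases Int.even_or_odd (l' - l) with ⟨r, hr⟩ | ho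
  · exfalso
    have h0 : orderOf (c ^ (l' - l)) = 2 ^ k := by rw [← hcv, orderOf_conj_eq, h.dh.dih.ord]
    have h2k : 2 ^ k = 2 * 2 ^ (k - 1) := by
      conv_lhs => rw [show k = (k - 1) + 1 from by have := h.dh.dih.two_le; omega]
      rw [pow_succ']
    have hd : orderOf (c ^ (l' - l)) ∣ 2 ^ (k - 1) := by
      apply orderOf_dvd_of_pow_eq_one
      rw [← zpow_natCast, ← zpow_mul, cpow_one_iff h.dh, two_pow_k h.dh]
      exact ⟨r, by rw [hr]; push_cast; ring⟩
    rw [h0] at hd
    have := Nat.le_of_dvd (by positivity) hd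
    have : 0 < 2 ^ (k - 1) := by positivity
    omega
  · exact ho

/-- For `k = 2` no element outside `T` fixes a class of four-groups of `D`. -/
theorem no_fix_k2 (hk : k = 2) {s : G} (hs : s ∈ (S : Subgroup G)) (hsT : s ∉ T) (i : ℤ)
    (hfix : s * (b * c ^ i) * s⁻¹ = b * c ^ i ∨ s * (b * c ^ i) * s⁻¹ = b * c ^ i * zz k c) :
    False := by
  classical
  set e := b * c ^ i with he
  set z := zz k c with hz
  have hzz : z * z = 1 := z_sq h.dh
  have hee : e * e = 1 := bc_sq h.dh i
  have hze : z * e = e * z := (z_central h.dh (h.dh.loc.D_le (bc_mem h.dh i))).symm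
  set O : Set G := {t, t * z, t * e, t * (e * z)} with hO
  set H : Subgroup G := normalizer O with hH
  have hHmem : ∀ g : G, (∀ x ∈ O, g * x * g⁻¹ ∈ O) → g ∈ H := by
    intro g hg
    have hsurj : Function.Surjective (fun x : O => (⟨g * (x : G) * g⁻¹, hg x x.2⟩ : O)) :=
      Finite.surjective_of_injective fun a b e => Subtype.ext (conj_inj (congrArg Subtype.val e))
    intro x
    refine ⟨hg x, fun hx => ?_⟩
    obtain ⟨⟨y, hy⟩, hye⟩ := hsurj ⟨_, hx⟩
    exact (conj_inj (congrArg Subtype.val hye) : y = x) ▸ hy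
  have htw : ∀ {g w : G}, g * t * g⁻¹ = t → g * (t * w) * g⁻¹ = t * (g * w * g⁻¹) := fun hg => by
    rw [← conj_mul, hg]
  have hTH : T ≤ H := by
    intro y hy
    have hyt : y * t * y⁻¹ = t := conj_of_commute (h.dh.loc.comm y hy)
    have hyz : y * z * y⁻¹ = z := conj_of_commute (z_central h.dh hy)
    have cls : ∀ j : ℤ, b * c ^ (i + 2 * j) = e ∨ b * c ^ (i + 2 * j) = e * z := by
      intro j
      rw [he, hz, z_eq h.dh, mul_assoc, ← zpow_add, mul_right_inj, mul_right_inj, cpow_iff h.dh,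
        cpow_iff h.dh, hk]
      norm_num
      omega
    have hbb : ∀ j : ℤ, b * c ^ j * (b * c ^ i) * (b * c ^ j)⁻¹ = b * c ^ (2 * j - i) := fun j => by
      rw [conj_comp, c_conj_bc h.dh, ← conj_mul, b_conj h.dh, mul_inv_cancel_right, neg_sub]
    have hye : y * e * y⁻¹ = e ∨ y * e * y⁻¹ = e * z := by
      rcases mem_T h.dh hy with ⟨j, rfl⟩ | ⟨j, rfl⟩ | ⟨j, rfl⟩ | ⟨j, rfl⟩
      · rw [he, c_conj_bc h.dh, show i - 2 * j = i + 2 * (-j) by ring]
        exact cls _
      · rw [he, hbb, show 2 * j - i = i + 2 * (j - i) by ring]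
        exact cls _
      · rw [he, conj_comp, c_conj_bc h.dh, t_conj h.dh.loc (h.dh.loc.D_le (bc_mem h.dh _)),
          show i - 2 * j = i + 2 * (-j) by ring]
        exact cls _
      · rw [he, conj_comp, hbb, t_conj h.dh.loc (h.dh.loc.D_le (bc_mem h.dh _)),
          show 2 * j - i = i + 2 * (j - i) by ring]
        exact cls _
    refine hHmem y ?_
    rintro x (rfl | rfl | rfl | rfl)
    · rw [hyt]; simp [hO]
    · rw [htw hyt, hyz]; simp [hO]
    · rw [htw hyt]; rcases hye with e' | e' <;> simp [hO, e']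
    · rw [htw hyt, ← conj_mul, hyz]
      rcases hye with e' | e' <;> simp [hO, e', mul_assoc, hzz]
  have hsH : s ∈ H := by
    have h1 := t_move h hs hsT
    have h2 := z_fix h hs
    rw [← hz] at h1 h2
    refine hHmem s ?_
    rintro x (rfl | rfl | rfl | rfl)
    · rw [h1]; simp [hO]
    · rw [← conj_mul, h1, h2, mul_assoc, hzz, mul_one]; simp [hO]
    · rw [← conj_mul, h1]
      rcases hfix with e' | e' <;> rw [e', mul_assoc]
      · rw [hze]; simp [hO]
      · rw [← mul_assoc z, hze, mul_assoc e, hzz, mul_one]; simp [hO]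
    · rw [← conj_mul, ← conj_mul, h1, h2]
      rcases hfix with e' | e' <;> rw [e', mul_assoc]
      · rw [← mul_assoc z, hze, mul_assoc e, hzz, mul_one]; simp [hO]
      · rw [mul_assoc e z z, hzz, mul_one, hze]; simp [hO]
  have hzne : z ≠ e := by
    rw [hz, z_eq h.dh]; exact fun e' => bc_ne_cpow h.dh i _ e'.symm
  have hcomm : z * e = e * z := hze
  obtain ⟨g, hgt, hgz, hge⟩ := h.dh.dih.four z (z_mem h.dh) e (bc_mem h.dh i) (orderOf_z h.dh)
    (orderOf_bc h.dh i) hcomm hzne
  have hgH : g ∈ H := by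
    refine hHmem g ?_
    rintro x (rfl | rfl | rfl | rfl)
    · rw [hgt]; simp [hO]
    · rw [htw hgt, hgz]; simp [hO]
    · rw [htw hgt, hge, hze]; simp [hO]
    · rw [htw hgt, ← conj_mul, hge, hgz, mul_assoc, hee, mul_one]; simp [hO]
  -- the orbit of `t`
  let f : ↥H ⧸ ((centralizer ({t} : Set G)).subgroupOf H) → O := fun q =>
    Quotient.liftOn' q (fun y => ⟨(y : G) * t * (y : G)⁻¹, (y.2 t).mp (by simp [hO])⟩) (by
      intro a b hab
      rw [QuotientGroup.leftRel_apply, mem_subgroupOf, mem_centralizer_singleton_iff] at hab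
      apply Subtype.ext
      change (a : G) * t * (a : G)⁻¹ = (b : G) * t * (b : G)⁻¹
      push_cast at hab
      calc (a : G) * t * (a : G)⁻¹ = (a : G) * (t * ((a : G)⁻¹ * b)) * (b : G)⁻¹ := by group
        _ = (a : G) * ((a : G)⁻¹ * b * t) * (b : G)⁻¹ := by rw [hab]
        _ = _ := by group)
  have finj : Function.Injective f := by
    rintro ⟨a⟩ ⟨b⟩ hab
    have hab' : (a : G) * t * (a : G)⁻¹ = (b : G) * t * (b : G)⁻¹ := congrArg Subtype.val hab
    refine Quotient.sound' ?_
    rw [QuotientGroup.leftRel_apply, mem_subgroupOf, mem_centralizer_singleton_iff]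
    push_cast
    calc (a : G)⁻¹ * b * t = (a : G)⁻¹ * ((b : G) * t * (b : G)⁻¹) * b := by group
      _ = (a : G)⁻¹ * ((a : G) * t * (a : G)⁻¹) * b := by rw [hab']
      _ = t * ((a : G)⁻¹ * b) := by group
  have fsurj : Function.Surjective f := by
    have hmk : ∀ (y : G) (hy : y ∈ H), ∃ q, (f q : G) = y * t * y⁻¹ := fun y hy =>
      ⟨QuotientGroup.mk ⟨y, hy⟩, rfl⟩
    have hst : s * t * s⁻¹ = t * z := t_move h hs hsT
    rintro ⟨x, rfl | rfl | rfl | rfl⟩
    · obtain ⟨q, hq⟩ := hmk 1 (one_mem _)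
      exact ⟨q, Subtype.ext (by rw [hq]; group)⟩
    · obtain ⟨q, hq⟩ := hmk s hsH
      exact ⟨q, Subtype.ext (by rw [hq, hst])⟩
    · obtain ⟨q, hq⟩ := hmk (g * s) (mul_mem hgH hsH)
      exact ⟨q, Subtype.ext (by rw [hq, conj_comp, hst, htw hgt, hgz])⟩
    · obtain ⟨q, hq⟩ := hmk (g * g * s) (mul_mem (mul_mem hgH hgH) hsH)
      exact ⟨q, Subtype.ext (by rw [hq, conj_comp, hst, conj_comp, htw hgt, hgz, htw hgt, hge, hze])⟩
  have hcardO : Nat.card O = 4 := by
    have n1 : z ≠ 1 := z_ne_one h.dh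
    have n2 : e ≠ 1 := bc_ne_one h.dh i
    have n3 : e * z ≠ 1 := fun e' => hzne (by
      rw [← mul_one z, ← hee, ← mul_assoc, hze, e', one_mul])
    have n4 : z ≠ e * z := fun e' => n2 (right_eq_mul.mp e')
    have n5 : e ≠ e * z := fun e' => n1 (left_eq_mul.mp e')
    rw [hO, Nat.card_eq_card_toFinset]
    simp [Set.toFinset_insert, n1, n2, n3, n4, n5, hzne, n1.symm, n2.symm, n3.symm]
  have hidx : ((centralizer ({t} : Set G)).subgroupOf H).index = 4 := by
    rw [Subgroup.index, Nat.card_congr (Equiv.ofBijective f ⟨finj, fsurj⟩), hcardO]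
  have hdvd : 4 * Nat.card T ∣ Nat.card H := by
    rw [← ((centralizer ({t} : Set G)).subgroupOf H).card_mul_index, hidx, mul_comm]
    refine Nat.mul_dvd_mul_right ?_ 4
    rw [← Nat.card_congr (subgroupOfEquivOfLe hTH).toEquiv]
    apply card_dvd_of_le
    intro x hx
    rw [mem_subgroupOf, mem_centralizer_singleton_iff]
    exact h.dh.loc.comm _ hx
  have hG2 : 2 ^ (k + 4) ∣ Nat.card G := by
    refine dvd_trans (dvd_of_eq ?_) (hdvd.trans (card_subgroup_dvd_card H))
    rw [card_T' h.dh]; ring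
  haveI : Fact (Nat.Prime 2) := ⟨Nat.prime_two⟩
  have := S.pow_dvd_card_of_pow_dvd_card hG2
  rw [h.card, card_T' h.dh] at this
  have h' := Nat.le_of_dvd (by positivity) this
  have h'' : 2 ^ (k + 4) = 4 * 2 ^ (k + 2) := by ring
  have : 0 < 2 ^ (k + 2) := by positivity
  omega

/-- Conjugates of `t` inside `T` with large centraliser in `S`. -/
theorem ext_in_T {u : G} (hu : u ∈ T) (hconj : IsConj t u)
    (hcard : Nat.card T ≤ Nat.card ↥((S : Subgroup G) ⊓ centralizer ({u} : Set G))) :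
    u = t ∨ u = t * zz k c := by
  have hou : orderOf u = 2 := by
    obtain ⟨g, hg⟩ := isConj_iff.mp hconj
    rw [← hg, orderOf_conj_eq]; exact h.dh.loc.orderOf_t
  rcases inv_T h.dh hu (mul_self_eq_one hou) with rfl | rfl | rfl | rfl | ⟨i, rfl⟩ | ⟨i, rfl⟩
  · rw [orderOf_one] at hou; omega
  · exact absurd hconj (z_not_conj h)
  · exact Or.inl rfl
  · exact Or.inr rfl
  · exact absurd hconj (bc_not_conj h i)
  · exfalso
    set X := (S : Subgroup G) ⊓ centralizer ({t * (b * c ^ i)} : Set G) with hX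
    set L : Finset ℤ := {0, (2 : ℤ) ^ (k - 1)} with hL
    classical
    have hXT : Nat.card ↥(X ⊓ T : Subgroup G) ≤ 8 := by
      let W : Finset G := {1, zz k c, t, t * zz k c, b * c ^ i, b * c ^ i * zz k c,
        t * (b * c ^ i), t * (b * c ^ i) * zz k c}
      calc Nat.card ↥(X ⊓ T : Subgroup G) ≤ Nat.card {x // x ∈ W} := by
            refine Nat.card_le_card_of_injective (fun x => ⟨(x : G), ?_⟩)
              fun a b e => Subtype.ext (congrArg (fun w : {x // x ∈ W} => (w : G)) e)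
            obtain ⟨⟨-, hxc⟩, hxT⟩ := x.2
            have hxc' : (x : G) * (t * (b * c ^ i)) = t * (b * c ^ i) * (x : G) :=
              mem_centralizer_singleton_iff.mp hxc
            have hxbc : (x : G) * (b * c ^ i) = b * c ^ i * (x : G) := by
              rw [← mul_assoc, h.dh.loc.comm _ hxT, mul_assoc, mul_assoc] at hxc'
              exact mul_left_cancel hxc'
            have key : ∀ j : ℤ, c ^ j * (b * c ^ i) = b * c ^ i * c ^ j →
                c ^ j = 1 ∨ c ^ j = zz k c := fun j hj => by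
              apply cpow_sq_one h.dh
              have h1 := c_conj_bc h.dh i j
              rw [conj_of_commute hj, mul_right_inj, cpow_iff h.dh, sub_sub_cancel] at h1
              rw [← zpow_add, cpow_one_iff h.dh, ← two_mul]
              exact h1
            have key2 : ∀ j : ℤ, b * c ^ j * (b * c ^ i) = b * c ^ i * (b * c ^ j) →
                c ^ (j - i) = 1 ∨ c ^ (j - i) = zz k c := fun j hj => by
              apply key
              have e1 : c ^ (j - i) = (b * c ^ i)⁻¹ * (b * c ^ j) := by group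
              rw [e1]
              calc (b * c ^ i)⁻¹ * (b * c ^ j) * (b * c ^ i)
                  = (b * c ^ i)⁻¹ * (b * c ^ j * (b * c ^ i)) := by group
                _ = (b * c ^ i)⁻¹ * (b * c ^ i * (b * c ^ j)) := by rw [hj]
                _ = b * c ^ i * ((b * c ^ i)⁻¹ * (b * c ^ j)) := by group
            have hsplit : ∀ j : ℤ, c ^ j = c ^ i * c ^ (j - i) := fun j => by
              rw [← zpow_add, add_sub_cancel]
            have stript : ∀ y ∈ T, t * y * (b * c ^ i) = b * c ^ i * (t * y) →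
                y * (b * c ^ i) = b * c ^ i * y := fun y hy hh => by
              rw [← mul_assoc (b * c ^ i), h.dh.loc.comm _ (h.dh.loc.D_le (bc_mem h.dh i)),
                mul_assoc, mul_assoc] at hh
              exact mul_left_cancel hh
            rcases mem_T h.dh hxT with ⟨j, hj⟩ | ⟨j, hj⟩ | ⟨j, hj⟩ | ⟨j, hj⟩ <;>
              rw [hj] at hxbc ⊢
            · rcases key j hxbc with e | e <;> simp [W, e]
            · rcases key2 j hxbc with e | e <;> rw [hsplit j, e] <;> simp [W, mul_assoc]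
            · rcases key j (stript _ (zpow_mem (c_mem h.dh) j) hxbc) with e | e <;> simp [W, e]
            · rcases key2 j (stript _ (h.dh.loc.D_le (bc_mem h.dh j)) hxbc) with e | e <;>
                rw [hsplit j, e] <;> simp [W, mul_assoc]
        _ ≤ 8 := by
            rw [Nat.card_eq_fintype_card, Fintype.card_coe]
            simp only [W]
            iterate 7 refine (Finset.card_insert_le _ _).trans (Nat.succ_le_succ ?_)
            simp
    have hXS : X ≤ (S : Subgroup G) := inf_le_left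
    -- an element outside `T`
    have hk2 : k = 2 ∧ ∃ s ∈ X, s ∉ T := by
      have hX16 : 2 ^ (k + 2) ≤ Nat.card X := by rw [← card_T' h.dh]; exact hcard
      have h16 : 16 ≤ 2 ^ (k + 2) := by rw [← card_T' h.dh]; exact sixteen_le h.dh
      have hsub : Nat.card ↥((X ⊓ T).subgroupOf X) = Nat.card ↥(X ⊓ T : Subgroup G) :=
        Nat.card_congr (subgroupOfEquivOfLe inf_le_left).toEquiv
      have hcm := ((X ⊓ T).subgroupOf X).card_mul_index
      rw [hsub] at hcm
      have hi2 : ((X ⊓ T).subgroupOf X).index ≤ 2 := by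
        rw [inf_comm, inf_subgroupOf_right]
        have h0 : T.relIndex (S : Subgroup G) = 2 := idx h
        exact (Subgroup.relIndex_le_of_le_right hXS (by rw [h0]; norm_num)).trans_eq h0
      have hle : Nat.card X ≤ 8 * 2 := by
        rw [← hcm]; exact Nat.mul_le_mul hXT hi2
      refine ⟨?_, ?_⟩
      · have : 2 ^ (k + 2) ≤ 2 ^ 4 := by omega
        have := (Nat.pow_le_pow_iff_right (by norm_num : 1 < 2)).mp this
        have := h.dh.dih.two_le
        omega
      · by_contra hall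
        push Not at hall
        have : Nat.card X ≤ 8 := by
          refine le_trans ?_ hXT
          exact card_le_of_le fun x hx => ⟨hx, hall x hx⟩
        omega
    obtain ⟨hk, s, hsX, hsT⟩ := hk2
    have h1 : s * (t * (b * c ^ i)) * s⁻¹ = t * (b * c ^ i) :=
      conj_of_commute (mem_centralizer_singleton_iff.mp hsX.2)
    rw [← conj_mul, t_move h hsX.1 hsT, mul_assoc] at h1
    refine no_fix_k2 h hk hsX.1 hsT i (Or.inr ?_)
    have h2 := mul_left_cancel h1
    calc s * (b * c ^ i) * s⁻¹ = (zz k c)⁻¹ * (zz k c * (s * (b * c ^ i) * s⁻¹)) := by group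
      _ = zz k c * (b * c ^ i) := by rw [h2, z_inv h.dh]
      _ = b * c ^ i * zz k c := (z_central h.dh (h.dh.loc.D_le (bc_mem h.dh i))).symm

/-- A conjugate of `t` outside `T` with large centraliser fixes `b` and `c` up to `z`. -/
theorem ext_out {u : G} (hu : u ∈ (S : Subgroup G)) (huT : u ∉ T)
    (hcard : Nat.card T ≤ Nat.card ↥((S : Subgroup G) ⊓ centralizer ({u} : Set G))) :
    ∃ ε δ : ℕ, ε ≤ 1 ∧ δ ≤ 1 ∧ u * (t ^ ε * b) = t ^ ε * b * u ∧ u * (t ^ δ * c) = t ^ δ * c * u ∧
      u * b * u⁻¹ = b * zz k c ^ ε ∧ u * c * u⁻¹ = c * zz k c ^ δ := by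
  set X := (S : Subgroup G) ⊓ centralizer ({u} : Set G) with hX
  have hut : u * t * u⁻¹ = t * zz k c := t_move h hu huT
  have key : ∀ y ∈ T, y ∈ X ∨ t * y ∈ X := by
    intro y hy
    by_contra hno
    push Not at hno
    have htX : t ∉ X := fun ht => by
      have e := mem_centralizer_singleton_iff.mp ht.2
      rw [conj_of_commute e.symm, left_eq_mul] at hut
      exact z_ne_one h.dh hut
    have hi : ((X ⊓ T).subgroupOf T).index ≤ 2 := by
      have hsub : Nat.card ↥((X ⊓ T).subgroupOf T) = Nat.card ↥(X ⊓ T : Subgroup G) :=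
        Nat.card_congr (subgroupOfEquivOfLe inf_le_right).toEquiv
      have hsubX : Nat.card ↥((X ⊓ T).subgroupOf X) = Nat.card ↥(X ⊓ T : Subgroup G) :=
        Nat.card_congr (subgroupOfEquivOfLe inf_le_left).toEquiv
      have h1 := ((X ⊓ T).subgroupOf T).card_mul_index
      have h2 := ((X ⊓ T).subgroupOf X).card_mul_index
      rw [hsub] at h1
      rw [hsubX] at h2
      have hi2 : ((X ⊓ T).subgroupOf X).index ≤ 2 := by
        rw [inf_comm, inf_subgroupOf_right]
        have h0 : T.relIndex (S : Subgroup G) = 2 := idx h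
        exact (Subgroup.relIndex_le_of_le_right inf_le_left (by rw [h0]; norm_num)).trans_eq h0
      have h4 : Nat.card ↥(X ⊓ T : Subgroup G) * ((X ⊓ T).subgroupOf T).index ≤
          Nat.card ↥(X ⊓ T : Subgroup G) * 2 := by
        rw [h1]
        exact hcard.trans (h2 ▸ Nat.mul_le_mul_left _ hi2)
      exact Nat.le_of_mul_le_mul_left h4 Nat.card_pos
    have hpos : ((X ⊓ T).subgroupOf T).index ≠ 0 := index_ne_zero_of_finite
    have hne1 : ((X ⊓ T).subgroupOf T).index ≠ 1 := fun e => by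
      rw [index_eq_one] at e
      have : (⟨t, h.dh.loc.t_mem⟩ : T) ∈ (X ⊓ T).subgroupOf T := e ▸ mem_top _
      exact htX this.1
    have h2 : ((X ⊓ T).subgroupOf T).index = 2 := by omega
    have := (mul_mem_iff_of_index_two h2 (a := ⟨t, h.dh.loc.t_mem⟩) (b := ⟨y, hy⟩)).mpr
      (iff_of_false (fun e => htX e.1) (fun e => hno.1 e.1))
    exact hno.2 this.1
  have sh : ∀ y ∈ T, ∃ ε : ℕ, ε ≤ 1 ∧ u * (t ^ ε * y) = t ^ ε * y * u ∧
      u * y * u⁻¹ = y * zz k c ^ ε := by
    intro y hy
    rcases key y hy with e | e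
    · have e' : u * y = y * u := (mem_centralizer_singleton_iff.mp e.2).symm
      exact ⟨0, by norm_num, by simpa using e', by rw [pow_zero, mul_one, conj_of_commute e']⟩
    · have e' : u * (t * y) = t * y * u := (mem_centralizer_singleton_iff.mp e.2).symm
      refine ⟨1, le_rfl, by simpa using e', ?_⟩
      rw [pow_one]
      have h1 : u * (t * y) * u⁻¹ = t * y := conj_of_commute e'
      rw [← conj_mul, hut, mul_assoc] at h1
      calc u * y * u⁻¹ = (zz k c)⁻¹ * (zz k c * (u * y * u⁻¹)) := by group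
        _ = zz k c * y := by rw [mul_left_cancel h1, z_inv h.dh]
        _ = y * zz k c := (z_central h.dh hy).symm
  obtain ⟨ε, hε, e1, e2⟩ := sh b (b_mem h.dh)
  obtain ⟨δ, hδ, d1, d2⟩ := sh c (c_mem h.dh)
  exact ⟨ε, δ, hε, hδ, e1, d1, e2, d2⟩

end Small

end Cfsg.Agent.JTSmall62
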