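import Cfsg.Agent.Lib.JTChain62
import Cfsg.Agent.Lib.JTSmall62

/-!
# A four-group with an automorphism of order 3: the group `C(V)⟨a⟩`
-/

set_option autoImplicit false
set_option linter.unusedSectionVars false

namespace Cfsg.Agent.JTFour62

open Subgroup
open JTPsl62 (mem_normalizer_of_conj)
open JTSetup62 (Loc)
open JTDihedral62

variable {G : Type*} [Group G] [Finite G]

/-- `V = {1, z, b, b z}` and `a` permutes `z`, `b`, `b z` cyclically. -/
structure FourCyc (V : Subgroup G) (z b a : G) : Prop where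
  mem_iff : ∀ x : G, x ∈ V ↔ x = 1 ∨ x = z ∨ x = b ∨ x = b * z
  zz_one : z * z = 1
  bb_one : b * b = 1
  z_ne : z ≠ 1
  b_ne : b ≠ 1
  ne : z ≠ b
  comm : b * z = z * b
  az : a * z * a⁻¹ = b
  ab : a * b * a⁻¹ = b * z

variable {V : Subgroup G} {z b a : G} (hV : FourCyc V z b a)

include hV

theorem z_mem : z ∈ V := (hV.mem_iff z).mpr (Or.inr (Or.inl rfl))

theorem b_mem : b ∈ V := (hV.mem_iff b).mpr (Or.inr (Or.inr (Or.inl rfl)))

theorem bz_ne : b * z ≠ 1 ∧ b * z ≠ z ∧ b * z ≠ b := by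
  refine ⟨fun e => hV.ne ?_, fun e => hV.b_ne (mul_eq_right.mp e),
    fun e => hV.z_ne (mul_eq_left.mp e)⟩
  rw [eq_inv_of_mul_eq_one_left e, ← eq_inv_of_mul_eq_one_right hV.zz_one]

theorem abz : a * (b * z) * a⁻¹ = z := by
  rw [← conj_mul, hV.ab, hV.az, mul_assoc, ← hV.comm, ← mul_assoc, hV.bb_one, one_mul]

theorem sq_one {x : G} (hx : x ∈ V) : x * x = 1 := by
  rcases (hV.mem_iff x).mp hx with rfl | rfl | rfl | rfl
  · simp
  · exact hV.zz_one
  · exact hV.bb_one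
  · rw [mul_assoc, ← mul_assoc z, ← hV.comm, mul_assoc, hV.zz_one, mul_one, hV.bb_one]

theorem commV {x y : G} (hx : x ∈ V) (hy : y ∈ V) : x * y = y * x := by
  have hi : ∀ {w : G}, w ∈ V → w⁻¹ = w := fun hw => inv_eq_of_mul_eq_one_right (sq_one hV hw)
  rw [← hi (mul_mem hx hy), mul_inv_rev, hi hx, hi hy]

theorem card_four : Nat.card V = 4 := by
  classical
  have h : (V : Set G) = ↑({1, z, b, b * z} : Finset G) := by
    ext x; simp [hV.mem_iff]
  obtain ⟨h1, h2, h3⟩ := bz_ne hV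
  change Nat.card ↥(V : Set G) = 4
  rw [Nat.card_coe_set_eq, h, Set.ncard_coe_finset]
  rw [Finset.card_insert_of_notMem (by simp [hV.z_ne.symm, hV.b_ne.symm, h1.symm]),
    Finset.card_insert_of_notMem (by simp [hV.ne, h2.symm]),
    Finset.card_insert_of_notMem (by simp [h3.symm]), Finset.card_singleton]

theorem a_mem {x : G} (hx : x ∈ V) : a * x * a⁻¹ ∈ V := by
  rcases (hV.mem_iff x).mp hx with rfl | rfl | rfl | rfl
  · simp
  · rw [hV.az]; exact b_mem hV
  · rw [hV.ab]; exact mul_mem (b_mem hV) (z_mem hV)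
  · rw [abz hV]; exact z_mem hV

theorem apow_mem (i : ℕ) {x : G} (hx : x ∈ V) : a ^ i * x * (a ^ i)⁻¹ ∈ V := by
  induction i generalizing x with
  | zero => simpa
  | succ i ih => rw [pow_succ, conj_comp]; exact ih (a_mem hV hx)

theorem apow_three {x : G} (hx : x ∈ V) : a ^ 3 * x * (a ^ 3)⁻¹ = x := by
  rw [show a ^ 3 = a * (a * a) by rw [pow_succ', sq], conj_comp, conj_comp]
  rcases (hV.mem_iff x).mp hx with rfl | rfl | rfl | rfl
  · simp
  · rw [hV.az, hV.ab, abz hV]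
  · rw [hV.ab, abz hV, hV.az]
  · rw [abz hV, hV.az, hV.ab]

theorem apow_mod (i : ℕ) {x : G} (hx : x ∈ V) :
    a ^ i * x * (a ^ i)⁻¹ = a ^ (i % 3) * x * (a ^ (i % 3))⁻¹ := by
  conv_lhs => rw [← Nat.mod_add_div i 3, pow_add, conj_comp]
  congr 1
  congr 1
  induction i / 3 with
  | zero => simp
  | succ q ih => rw [Nat.mul_succ, pow_add, conj_comp, apow_three hV hx, ih]

theorem apow_triv {i : ℕ} (h : a ^ i * z * (a ^ i)⁻¹ = z) : 3 ∣ i := by
  rw [apow_mod hV i (z_mem hV)] at h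
  have : i % 3 < 3 := Nat.mod_lt _ (by norm_num)
  rcases (show i % 3 = 0 ∨ i % 3 = 1 ∨ i % 3 = 2 by omega) with e | e | e
  · omega
  · rw [e, pow_one, hV.az] at h; exact absurd h.symm hV.ne
  · rw [e, sq, conj_comp, hV.az, hV.ab] at h; exact absurd h (bz_ne hV).2.1

theorem trans_four {x y : G} (hx : x ∈ V) (hy : y ∈ V) (hx1 : x ≠ 1) (hy1 : y ≠ 1) :
    ∃ i : ℕ, a ^ i * x * (a ^ i)⁻¹ = y := by
  have hz : ∀ {w : G}, w ∈ V → w ≠ 1 → ∃ i : ℕ, a ^ i * z * (a ^ i)⁻¹ = w := by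
    intro w hw hw1
    rcases (hV.mem_iff w).mp hw with rfl | rfl | rfl | rfl
    · exact absurd rfl hw1
    · exact ⟨0, by simp⟩
    · exact ⟨1, by rw [pow_one, hV.az]⟩
    · exact ⟨2, by rw [sq, conj_comp, hV.az, hV.ab]⟩
  obtain ⟨i, hi⟩ := hz hx hx1
  obtain ⟨j, hj⟩ := hz hy hy1
  refine ⟨j + 2 * i, ?_⟩
  have h3 : a ^ (3 * i) * z * (a ^ (3 * i))⁻¹ = z := by
    rw [apow_mod hV _ (z_mem hV), Nat.mul_mod_right]; simp
  rw [← hi, ← conj_comp, ← pow_add, show j + 2 * i + i = j + 3 * i by ring, pow_add, conj_comp,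
    h3, hj]

/-- The group of elements acting on `V` as powers of `a`. -/
def cycStab : Subgroup G where
  carrier := {g | ∃ i : ℕ, ∀ v ∈ V, g * v * g⁻¹ = a ^ i * v * (a ^ i)⁻¹}
  one_mem' := ⟨0, fun v _ => by simp⟩
  mul_mem' := by
    rintro x y ⟨i, hi⟩ ⟨j, hj⟩
    exact ⟨i + j, fun v hv => by
      rw [conj_comp, hj v hv, hi _ (apow_mem hV j hv), pow_add, conj_comp]⟩
  inv_mem' := by
    rintro x ⟨i, hi⟩
    refine ⟨2 * i, fun v hv => ?_⟩
    set w := a ^ (2 * i) * v * (a ^ (2 * i))⁻¹ with hw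
    have h1 : x * w * x⁻¹ = v := by
      rw [hi w (apow_mem hV _ hv), hw, ← conj_comp, ← pow_add, apow_mod hV _ hv,
        show (i + 2 * i) % 3 = 0 by omega]
      simp
    rw [← h1]; group

theorem mem_cycStab_cent {g : G} (h : ∀ v ∈ V, g * v * g⁻¹ = v) : g ∈ cycStab hV :=
  ⟨0, fun v hv => by rw [h v hv]; simp⟩

theorem a_mem_cycStab : a ∈ cycStab hV := ⟨1, fun v _ => by simp⟩

theorem V_le_cycStab : V ≤ cycStab hV :=
  fun x hx => mem_cycStab_cent hV fun _ hv => conj_of_commute (commV hV hx hv)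

theorem cent_of_fix {g : G} (hg : g ∈ cycStab hV) (hgz : g * z * g⁻¹ = z) :
    ∀ v ∈ V, g * v * g⁻¹ = v := by
  obtain ⟨i, hi⟩ := hg
  rw [hi z (z_mem hV)] at hgz
  intro v hv
  rw [hi v hv, apow_mod hV i hv, Nat.mod_eq_zero_of_dvd (apow_triv hV hgz)]
  simp

/-- 2-subgroups of `C(V)⟨a⟩` centralise `V`. -/
theorem cent_of_two {P : Subgroup G} (hP : IsPGroup 2 P) (hle : P ≤ cycStab hV) {g : G}
    (hg : g ∈ P) : ∀ v ∈ V, g * v * g⁻¹ = v := by
  obtain ⟨i, hi⟩ := hle hg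
  obtain ⟨j, hj⟩ := hP ⟨g, hg⟩
  have hj' : g ^ (2 ^ j) = 1 := congrArg Subtype.val hj
  have hpow : ∀ r : ℕ, ∀ v ∈ V, g ^ r * v * (g ^ r)⁻¹ = a ^ (i * r) * v * (a ^ (i * r))⁻¹ := by
    intro r
    induction r with
    | zero => intro v _; simp
    | succ r ih =>
      intro v hv
      rw [pow_succ, conj_comp, hi v hv, ih _ (apow_mem hV i hv), ← conj_comp, ← pow_add,
        Nat.mul_succ]
  have h1 := hpow (2 ^ j) z (z_mem hV)
  rw [hj', one_mul, inv_one, mul_one] at h1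
  have h3 : 3 ∣ i := (Nat.Coprime.pow_right j (by norm_num : Nat.Coprime 3 2)).dvd_of_dvd_mul_right
    (apow_triv hV h1.symm)
  intro v hv
  rw [hi v hv, apow_mod hV i hv, Nat.mod_eq_zero_of_dvd h3]
  simp

/-- An element normalising `V` without fixed points lies in `C(V)⟨a⟩`. -/
theorem fpf_mem {g : G} (hn : ∀ v ∈ V, g * v * g⁻¹ ∈ V)
    (hf : ∀ v ∈ V, g * v * g⁻¹ = v → v = 1) : g ∈ cycStab hV := by
  have key : ∀ i : ℕ, g * z * g⁻¹ = a ^ i * z * (a ^ i)⁻¹ →
      g * b * g⁻¹ = a ^ i * b * (a ^ i)⁻¹ → g ∈ cycStab hV := by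
    intro i e1 e2
    refine ⟨i, fun v hv => ?_⟩
    rcases (hV.mem_iff v).mp hv with rfl | rfl | rfl | rfl
    · simp
    · exact e1
    · exact e2
    · rw [← conj_mul, e1, e2, conj_mul]
  have hz := hn z (z_mem hV)
  have hb := hn b (b_mem hV)
  have hmul : g * (b * z) * g⁻¹ = (g * b * g⁻¹) * (g * z * g⁻¹) := conj_mul.symm
  rcases (hV.mem_iff _).mp hz with e | e | e | e
  · exact absurd (conj_eq_one_iff.mp e) hV.z_ne
  · exact absurd (hf z (z_mem hV) e) hV.z_ne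
  · refine key 1 (by rw [pow_one, hV.az, e]) ?_
    rw [pow_one, hV.ab]
    rcases (hV.mem_iff _).mp hb with e' | e' | e' | e'
    · exact absurd (conj_eq_one_iff.mp e') hV.b_ne
    · exfalso
      rw [e, e', ← hV.comm] at hmul
      exact (bz_ne hV).1 (hf _ (mul_mem (b_mem hV) (z_mem hV)) hmul)
    · exact absurd (hf b (b_mem hV) e') hV.b_ne
    · exact e'
  · refine key 2 (by rw [sq, conj_comp, hV.az, hV.ab, e]) ?_
    rw [sq, conj_comp, hV.ab, abz hV]
    rcases (hV.mem_iff _).mp hb with e' | e' | e' | e'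
    · exact absurd (conj_eq_one_iff.mp e') hV.b_ne
    · exact e'
    · exact absurd (hf b (b_mem hV) e') hV.b_ne
    · exact absurd (conj_inj (e.trans e'.symm)) hV.ne

/-- A 2-group acting on `V` moves it through a group of order at most 2. -/
theorem mul_cent {U : Subgroup G} (hU : IsPGroup 2 U) (hn : ∀ u ∈ U, ∀ v ∈ V, u * v * u⁻¹ ∈ V)
    {u w : G} (hu : u ∈ U) (hw : w ∈ U) (hu1 : ¬ ∀ v ∈ V, u * v * u⁻¹ = v)
    (hw1 : ¬ ∀ v ∈ V, w * v * w⁻¹ = v) : ∀ v ∈ V, (u * w) * v * (u * w)⁻¹ = v := by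
  have hswap : ∀ x ∈ U, ¬ (∀ v ∈ V, x * v * x⁻¹ = v) →
      ∃ p ∈ V, p ≠ 1 ∧ x * p * x⁻¹ = p := by
    intro x hx hx1
    by_contra hno
    push Not at hno
    exact hx1 (cent_of_two hV (P := zpowers x) (hU.to_le (zpowers_le.mpr hx))
      (zpowers_le.mpr (fpf_mem hV (hn x hx) fun v hv e => by
        by_contra hv1; exact hno v hv hv1 e)) (mem_zpowers x))
  by_contra hnot
  have huw : u * w ∈ U := mul_mem hu hw
  obtain ⟨p, hp, hp1, hup⟩ := hswap u hu hu1
  obtain ⟨q, hq, hq1, hwq⟩ := hswap w hw hw1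
  obtain ⟨r, hr, hr1, huwr⟩ := hswap _ huw hnot
  have third : ∀ x ∈ V, x ≠ 1 → ∀ y ∈ V, y ≠ 1 → y ≠ x → ∀ v ∈ V,
      v = 1 ∨ v = x ∨ v = y ∨ v = x * y := by
    intro x hx hx1 y hy hy1 hyx v hv
    classical
    have hxy1 : x * y ≠ 1 := fun e => hyx (by
      rw [← inv_eq_of_mul_eq_one_right e]; exact inv_eq_of_mul_eq_one_right (sq_one hV hx))
    have hsub : ((({1, x, y, x * y} : Finset G)) : Set G) ⊆ (V : Set G) := by
      intro w hw
      simp only [Finset.coe_insert, Finset.coe_singleton, Set.mem_insert_iff,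
        Set.mem_singleton_iff] at hw
      rcases hw with rfl | rfl | rfl | rfl
      exacts [one_mem _, hx, hy, mul_mem hx hy]
    have hc : (({1, x, y, x * y} : Finset G)).card = 4 := by
      rw [Finset.card_insert_of_notMem (by simp [hx1.symm, hy1.symm, hxy1.symm]),
        Finset.card_insert_of_notMem (by simp [hyx.symm, hy1]),
        Finset.card_insert_of_notMem (by simp [hx1]), Finset.card_singleton]
    have heq := Set.eq_of_subset_of_ncard_le hsub (le_of_eq ((Nat.card_coe_set_eq (V : Set G)).symm.trans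
      ((card_four hV).trans (hc.symm.trans (Set.ncard_coe_finset _).symm)))) (Set.toFinite _)
    have hv' : v ∈ (({1, x, y, x * y} : Finset G) : Set G) := heq.symm ▸ hv
    simpa using hv'
  have fixall : ∀ g : G, ∀ x ∈ V, x ≠ 1 → ∀ y ∈ V, y ≠ 1 → y ≠ x → g * x * g⁻¹ = x →
      g * y * g⁻¹ = y → ∀ v ∈ V, g * v * g⁻¹ = v := by
    intro g x hx hx1 y hy hy1 hyx ex ey v hv
    rcases third x hx hx1 y hy hy1 hyx v hv with rfl | rfl | rfl | rfl
    · simp
    · exact ex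
    · exact ey
    · rw [← conj_mul, ex, ey]
  by_cases hpq : q = p
  · subst hpq
    have huwq : (u * w) * q * (u * w)⁻¹ = q := by rw [conj_comp, hwq, hup]
    by_cases hrq : r = q
    · -- all three fix the same point: `u` and `w` swap the two others
      subst hrq
      obtain ⟨s, hs, hs1, hsr⟩ : ∃ s ∈ V, s ≠ 1 ∧ s ≠ r := by
        by_cases e : z = r
        · exact ⟨b, b_mem hV, hV.b_ne, fun e' => hV.ne (e.trans e'.symm)⟩
        · exact ⟨z, z_mem hV, hV.z_ne, e⟩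
      have hmove : ∀ g ∈ U, ¬ (∀ v ∈ V, g * v * g⁻¹ = v) → g * r * g⁻¹ = r →
          g * s * g⁻¹ = r * s := by
        intro g hg hg1 egr
        rcases third r hr hr1 s hs hs1 hsr _ (hn g hg s hs) with e | e | e | e
        · exact absurd (conj_eq_one_iff.mp e) hs1
        · exact absurd (conj_inj (e.trans egr.symm)) hsr
        · exact absurd (fixall g r hr hr1 s hs hs1 hsr egr e) hg1
        · exact e
      apply hnot
      refine fixall _ r hr hr1 s hs hs1 hsr huwq ?_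
      rw [conj_comp, hmove w hw hw1 hwq, ← conj_mul, hup, hmove u hu hu1 hup, ← mul_assoc,
        sq_one hV hr, one_mul]
    · exact hnot (fixall _ q hq hq1 r hr hr1 hrq huwq huwr)
  · -- different fixed points give a fixed-point-free product
    have hsw : ∀ g ∈ U, ¬ (∀ v ∈ V, g * v * g⁻¹ = v) → ∀ x ∈ V, x ≠ 1 → g * x * g⁻¹ = x →
        ∀ y ∈ V, y ≠ 1 → y ≠ x → g * y * g⁻¹ = x * y := by
      intro g hg hg1 x hx hx1 ex y hy hy1 hyx
      rcases third x hx hx1 y hy hy1 hyx _ (hn g hg y hy) with e | e | e | e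
      · exact absurd (conj_eq_one_iff.mp e) hy1
      · exact absurd (conj_inj (e.trans ex.symm)) hyx
      · exact absurd (fixall g x hx hx1 y hy hy1 hyx ex e) hg1
      · exact e
    have e1 := hsw u hu hu1 p hp hp1 hup q hq hq1 hpq
    have e2 := hsw w hw hw1 q hq hq1 hwq p hp hp1 (Ne.symm hpq)
    have f1 : u * w * q * (u * w)⁻¹ = p * q := by rw [conj_comp, hwq, e1]
    have f2 : u * w * p * (u * w)⁻¹ = q := by
      rw [conj_comp, e2, ← conj_mul, e1, hup, commV hV hp hq, mul_assoc, sq_one hV hp, mul_one]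
    rcases third p hp hp1 q hq hq1 hpq r hr with rfl | rfl | rfl | rfl
    · exact hr1 rfl
    · exact hpq (huwr.symm.trans f2).symm
    · exact hp1 (mul_eq_right.mp (f1.symm.trans huwr))
    · rw [← conj_mul, f1, f2] at huwr
      exact hq1 (mul_eq_right.mp huwr)

end Cfsg.Agent.JTFour62
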