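import Cfsg.Prelude.Def_CaseTheorems
import Cfsg.Agent.Lib.HallCore
import Cfsg.Agent.Lib.JTPsl62

/-!
# An involution whose centraliser is essentially `Z₂ × PSL(2,q)`: two-local data
-/

set_option autoImplicit false
set_option linter.unusedSectionVars false

namespace Cfsg.Agent.JTSetup62

open Subgroup
open scoped Pointwise
open JTPsl62 (DihGen mem_normalizer_of_conj)

variable {G : Type*} [Group G]

/-- The elementary shape of `D`: a cyclic automizer transitive on `D \ {1}`. -/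
structure Elem (t : G) (D : Subgroup G) (n : ℕ) (c : G) : Prop where
  two_le : 2 ≤ n
  card_eq : Nat.card D = 2 ^ n
  sq : ∀ x ∈ D, x * x = 1
  comm : c * t * c⁻¹ = t
  normal : ∀ x ∈ D, c * x * c⁻¹ ∈ D
  trans : ∀ a ∈ D, ∀ b ∈ D, a ≠ 1 → b ≠ 1 → ∃ i : ℕ, c ^ i * a * (c ^ i)⁻¹ = b
  norm_c : ∀ g : G, g * t * g⁻¹ = t → (∀ x ∈ D, g * x * g⁻¹ ∈ D) →
    ∃ i : ℕ, ∀ x ∈ D, (g * c * g⁻¹) * x * (g * c * g⁻¹)⁻¹ = c ^ i * x * (c ^ i)⁻¹

/-- The dihedral shape of `D`, of order at least 8. -/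
structure Dih (t : G) (D : Subgroup G) (k : ℕ) (c b : G) : Prop where
  two_le : 2 ≤ k
  ord : orderOf c = 2 ^ k
  gen : DihGen D c b
  four : ∀ a₁ ∈ D, ∀ a₂ ∈ D, orderOf a₁ = 2 → orderOf a₂ = 2 → a₁ * a₂ = a₂ * a₁ → a₁ ≠ a₂ →
    ∃ h : G, h * t * h⁻¹ = t ∧ h * a₁ * h⁻¹ = a₂ ∧ h * a₂ * h⁻¹ = a₁ * a₂

/-- `T = ⟨t⟩ × D` is a Sylow 2-subgroup of the centraliser of `t`. -/
structure Loc (t : G) (T D : Subgroup G) : Prop where
  orderOf_t : orderOf t = 2
  pT : IsPGroup 2 T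
  comm : ∀ x ∈ T, x * t = t * x
  sylow : ∀ P : Subgroup G, IsPGroup 2 P → (∀ x ∈ P, x * t = t * x) →
    ∃ h : G, h * t * h⁻¹ = t ∧ ∀ x ∈ P, h * x * h⁻¹ ∈ T
  t_mem : t ∈ T
  t_notMem : t ∉ D
  D_le : D ≤ T
  cover : ∀ x ∈ T, x ∈ D ∨ t * x ∈ D
  inv_conj : ∀ a ∈ D, ∀ b ∈ D, orderOf a = 2 → orderOf b = 2 →
    ∃ h : G, h * t * h⁻¹ = t ∧ h * a * h⁻¹ = b
  shape : (∃ n c, Elem t D n c) ∨ ∃ k c b, Dih t D k c b

/-- Every Sylow 2-subgroup of the centraliser of `t` carries local data. -/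
def LocHyp (t : G) : Prop :=
  ∀ T : Subgroup G, IsPGroup 2 T → (∀ x ∈ T, x * t = t * x) →
    (∀ P : Subgroup G, IsPGroup 2 P → (∀ x ∈ P, x * t = t * x) → T ≤ P → P = T) →
    ∃ D, Loc t T D

/-! ### Transport -/

theorem Elem.map {t : G} {D : Subgroup G} {n : ℕ} {c : G} (h : Elem t D n c) (φ : G ≃* G) :
    Elem (φ t) (D.map φ.toMonoidHom) n (φ c) := by
  have hcj : ∀ g x : G, φ g * φ x * (φ g)⁻¹ = φ (g * x * g⁻¹) := fun g x => by
    rw [map_mul, map_mul, map_inv]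
  refine ⟨h.two_le, ?_, ?_, ?_, ?_, ?_, ?_⟩
  · rw [card_map_of_injective (f := φ.toMonoidHom) φ.injective, h.card_eq]
  · rintro _ ⟨x, hx, rfl⟩
    change φ x * φ x = 1
    rw [← map_mul, h.sq x hx, map_one]
  · rw [hcj, h.comm]
  · rintro _ ⟨x, hx, rfl⟩
    exact ⟨c * x * c⁻¹, h.normal x hx, by simp⟩
  · rintro _ ⟨a, ha, rfl⟩ _ ⟨b, hb, rfl⟩ ha1 hb1
    obtain ⟨i, hi⟩ := h.trans a ha b hb (fun e => ha1 (by simp [e])) (fun e => hb1 (by simp [e]))
    refine ⟨i, ?_⟩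
    change φ c ^ i * φ a * (φ c ^ i)⁻¹ = φ b
    rw [← map_pow, hcj, hi]
  · intro g hgt hg
    obtain ⟨g, rfl⟩ := φ.surjective g
    rw [hcj] at hgt
    obtain ⟨i, hi⟩ := h.norm_c g (φ.injective hgt) (fun x hx => by
      obtain ⟨y, hy, e⟩ := hg (φ x) ⟨x, hx, rfl⟩
      have e' : y = g * x * g⁻¹ := φ.injective (by rw [← hcj]; exact e)
      exact e' ▸ hy)
    refine ⟨i, ?_⟩
    rintro _ ⟨x, hx, rfl⟩
    change (φ g * φ c * (φ g)⁻¹) * φ x * (φ g * φ c * (φ g)⁻¹)⁻¹ = φ c ^ i * φ x * (φ c ^ i)⁻¹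
    rw [hcj, hcj, ← map_pow, hcj, hi x hx]

theorem Dih.map {t : G} {D : Subgroup G} {k : ℕ} {c b : G} (h : Dih t D k c b) (φ : G ≃* G) :
    Dih (φ t) (D.map φ.toMonoidHom) k (φ c) (φ b) := by
  have hcj : ∀ g x : G, φ g * φ x * (φ g)⁻¹ = φ (g * x * g⁻¹) := fun g x => by
    rw [map_mul, map_mul, map_inv]
  have hz : ∀ x, x ∈ zpowers c → φ x ∈ zpowers (φ c) := by
    rintro _ ⟨i, rfl⟩; exact ⟨i, (map_zpow φ c i).symm⟩
  refine ⟨h.two_le, by rw [MulEquiv.orderOf_eq]; exact h.ord, ?_, ?_⟩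
  · refine ⟨⟨c, h.gen.c_mem, rfl⟩, ⟨b, h.gen.b_mem, rfl⟩, ?_, ?_, ?_, ?_⟩
    · rintro ⟨i, hi⟩
      exact h.gen.b_notMem ⟨i, φ.injective (by rw [map_zpow]; exact hi)⟩
    · rw [← map_mul, h.gen.b_sq, map_one]
    · rw [hcj, h.gen.conj, map_inv]
    · rintro _ ⟨x, hx, rfl⟩
      rcases h.gen.cover x hx with e | e
      · exact Or.inl (hz x e)
      · refine Or.inr ?_
        change φ b * φ x ∈ _
        rw [← map_mul]
        exact hz _ e
  · rintro _ ⟨a, ha, rfl⟩ _ ⟨b', hb', rfl⟩ oa ob hab hne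
    simp only [MulEquiv.coe_toMonoidHom, MulEquiv.orderOf_eq] at oa ob hab hne
    obtain ⟨g, g1, g2, g3⟩ := h.four a ha b' hb' oa ob
      (φ.injective (by rw [map_mul, map_mul]; exact hab)) (fun e => hne (congrArg φ e))
    refine ⟨φ g, by rw [hcj, g1], ?_, ?_⟩
    · change φ g * φ a * (φ g)⁻¹ = φ b'
      rw [hcj, g2]
    · change φ g * φ b' * (φ g)⁻¹ = φ a * φ b'
      rw [hcj, g3, map_mul]

theorem Loc.map {t : G} {T D : Subgroup G} (h : Loc t T D) (φ : G ≃* G) :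
    Loc (φ t) (T.map φ.toMonoidHom) (D.map φ.toMonoidHom) := by
  have hcj : ∀ g x : G, φ g * φ x * (φ g)⁻¹ = φ (g * x * g⁻¹) := fun g x => by
    rw [map_mul, map_mul, map_inv]
  refine ⟨by rw [MulEquiv.orderOf_eq]; exact h.orderOf_t, h.pT.map _, ?_, ?_,
    ⟨t, h.t_mem, rfl⟩, ?_, map_mono h.D_le, ?_, ?_, ?_⟩
  · rintro _ ⟨x, hx, rfl⟩
    change φ x * φ t = φ t * φ x
    rw [← map_mul, h.comm x hx, map_mul]
  · intro P hP hcP
    obtain ⟨g, g1, g2⟩ := h.sylow (P.map φ.symm.toMonoidHom) (hP.map _) (by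
      rintro _ ⟨x, hx, rfl⟩
      apply φ.injective
      simp only [MulEquiv.coe_toMonoidHom, map_mul, MulEquiv.apply_symm_apply]
      exact hcP x hx)
    refine ⟨φ g, by rw [hcj, g1], fun x hx => ⟨_, g2 (φ.symm x) ⟨x, hx, rfl⟩, ?_⟩⟩
    change φ (g * φ.symm x * g⁻¹) = _
    rw [← hcj, φ.apply_symm_apply]
  · rintro ⟨x, hx, e⟩
    exact h.t_notMem (φ.injective e ▸ hx)
  · rintro _ ⟨x, hx, rfl⟩
    rcases h.cover x hx with e | e
    · exact Or.inl ⟨x, e, rfl⟩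
    · exact Or.inr ⟨t * x, e, by simp⟩
  · rintro _ ⟨a, ha, rfl⟩ _ ⟨b, hb, rfl⟩ oa ob
    simp only [MulEquiv.coe_toMonoidHom, MulEquiv.orderOf_eq] at oa ob
    obtain ⟨g, g1, g2⟩ := h.inv_conj a ha b hb oa ob
    refine ⟨φ g, by rw [hcj, g1], ?_⟩
    change φ g * φ a * (φ g)⁻¹ = φ b
    rw [hcj, g2]
  · rcases h.shape with ⟨n, c, e⟩ | ⟨k, c, b, e⟩
    · exact Or.inl ⟨n, φ c, e.map φ⟩
    · exact Or.inr ⟨k, φ c, φ b, e.map φ⟩

theorem LocHyp.map {t : G} (h : LocHyp t) (φ : G ≃* G) : LocHyp (φ t) := by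
  intro T hT hc hmax
  have hback : ∀ P : Subgroup G, (P.map φ.symm.toMonoidHom).map φ.toMonoidHom = P := fun P => by
    rw [Subgroup.map_map]; convert Subgroup.map_id P; ext; simp
  obtain ⟨D, hD⟩ := h (T.map φ.symm.toMonoidHom) (hT.map _) (by
      rintro _ ⟨x, hx, rfl⟩
      apply φ.injective
      simp only [MulEquiv.coe_toMonoidHom, map_mul, MulEquiv.apply_symm_apply]
      exact hc x hx) (fun P hP hcP hle => by
      have h1 := hmax (P.map φ.toMonoidHom) (hP.map _) (by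
        rintro _ ⟨x, hx, rfl⟩
        change φ x * φ t = φ t * φ x
        rw [← map_mul, hcP x hx, map_mul]) (by
        calc T = (T.map φ.symm.toMonoidHom).map φ.toMonoidHom := (hback T).symm
          _ ≤ _ := map_mono hle)
      rw [← h1, Subgroup.map_map]
      convert (Subgroup.map_id P).symm; ext; simp)
  refine ⟨D.map φ.toMonoidHom, ?_⟩
  have := hD.map φ
  rwa [hback] at this

/-! ### Lifting from a quotient by a normal subgroup of odd order -/

theorem eq_one_of_mem_odd [Finite G] {P O : Subgroup G} (hP : IsPGroup 2 P)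
    (hO : Odd (Nat.card O)) {x : G} (hx : x ∈ P) (hxO : x ∈ O) : x = 1 := by
  obtain ⟨j, hj⟩ := hP ⟨x, hx⟩
  have h1 : orderOf x ∣ 2 ^ j := orderOf_dvd_of_pow_eq_one (by simpa using congrArg Subtype.val hj)
  obtain ⟨i, -, hi⟩ := (Nat.dvd_prime_pow Nat.prime_two).mp h1
  have h2 : Odd (orderOf x) := hO.of_dvd_nat (orderOf_dvd_natCard O hxO)
  rcases Nat.eq_zero_or_pos i with rfl | hi0
  · simpa using hi
  · rw [hi] at h2
    exact absurd (Nat.even_pow.mpr ⟨even_two, hi0.ne'⟩) (Nat.not_even_iff_odd.mpr h2)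

theorem lift_map [Finite G] {O : Subgroup G} [O.Normal] (hO : Odd (Nat.card O)) {P Q : Subgroup G}
    (hP : IsPGroup 2 P) (hQ : IsPGroup 2 Q) (hcard : Nat.card P = Nat.card Q) (x : G)
    (h : ∀ p ∈ P, ∃ q ∈ Q, q⁻¹ * (x * p * x⁻¹) ∈ O) :
    ∃ o ∈ O, ∀ p ∈ P, (o * x) * p * (o * x)⁻¹ ∈ Q := by
  haveI : Fact (Nat.Prime 2) := ⟨Nat.prime_two⟩
  set H := Q ⊔ O with hH
  set P' := P.map (MulAut.conj x).toMonoidHom with hP'
  have hP'H : P' ≤ H := by
    rintro _ ⟨p, hp, rfl⟩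
    obtain ⟨q, hq, hqo⟩ := h p hp
    have : x * p * x⁻¹ = q * (q⁻¹ * (x * p * x⁻¹)) := by group
    change x * p * x⁻¹ ∈ H
    rw [this]
    exact mul_mem (mem_sup_left hq) (mem_sup_right hqo)
  have hcardH : Nat.card H ∣ Nat.card Q * Nat.card O := by
    have hset : ((H : Subgroup G) : Set G) = (Q : Set G) * (O : Set G) := mul_normal Q O
    have hdisj : Disjoint Q O := disjoint_def.mpr fun hx hxO => eq_one_of_mem_odd hQ hO hx hxO
    have : Nat.card H = Nat.card Q * Nat.card O := by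
      rw [← Nat.card_prod]
      refine (Nat.card_congr (Equiv.ofBijective
        (fun p : Q × O => (⟨(p.1 : G) * p.2, mul_mem (mem_sup_left p.1.2) (mem_sup_right p.2.2)⟩ :
          H)) ⟨?_, ?_⟩)).symm
      · intro a b e
        exact mul_injective_of_disjoint hdisj (congrArg Subtype.val e)
      · rintro ⟨y, hy⟩
        have hy' : y ∈ (Q : Set G) * (O : Set G) := hset ▸ hy
        obtain ⟨q, hq, o, ho, rfl⟩ := hy'
        exact ⟨(⟨q, hq⟩, ⟨o, ho⟩), rfl⟩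
    exact this ▸ dvd_rfl
  have hmax : ∀ R : Subgroup G, R ≤ H → IsPGroup 2 R → Nat.card R ≤ Nat.card Q := by
    intro R hR hRp
    obtain ⟨i, hi⟩ := hRp.exists_card_eq
    have h1 : Nat.card R ∣ Nat.card Q * Nat.card O := (card_dvd_of_le hR).trans hcardH
    rw [hi] at h1 ⊢
    exact Nat.le_of_dvd Nat.card_pos
      ((Nat.Coprime.pow_left i (Nat.coprime_two_left.mpr hO)).dvd_of_dvd_mul_right h1)
  obtain ⟨S₁, hS₁⟩ := ((hP.map (MulAut.conj x).toMonoidHom).of_equiv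
    (subgroupOfEquivOfLe hP'H).symm).exists_le_sylow
  obtain ⟨S₂, hS₂⟩ := (hQ.of_equiv
    (subgroupOfEquivOfLe (le_sup_left : Q ≤ H)).symm).exists_le_sylow
  have e1 : P'.subgroupOf H = (S₁ : Subgroup H) := by
    refine eq_of_le_of_card_ge hS₁ ?_
    rw [Nat.card_congr (subgroupOfEquivOfLe hP'H).toEquiv, hP',
      card_map_of_injective (f := (MulAut.conj x).toMonoidHom) (MulAut.conj x).injective, hcard,
      ← card_map_of_injective (K := (S₁ : Subgroup H)) H.subtype_injective]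
    exact hmax _ (map_subtype_le _) (S₁.isPGroup'.map _)
  have e2 : Q.subgroupOf H = (S₂ : Subgroup H) := by
    refine eq_of_le_of_card_ge hS₂ ?_
    rw [Nat.card_congr (subgroupOfEquivOfLe (le_sup_left : Q ≤ H)).toEquiv,
      ← card_map_of_injective (K := (S₂ : Subgroup H)) H.subtype_injective]
    exact hmax _ (map_subtype_le _) (S₂.isPGroup'.map _)
  obtain ⟨g, hg⟩ := MulAction.exists_smul_eq H S₁ S₂
  have hgH : (g : G) ∈ (Q : Set G) * (O : Set G) := by rw [← mul_normal Q O]; exact g.2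
  obtain ⟨q, hq, o, ho, hqo⟩ := hgH
  refine ⟨o, ho, fun p hp => ?_⟩
  have hx1 : x * p * x⁻¹ ∈ P' := ⟨p, hp, rfl⟩
  have h2 : g * (⟨_, hP'H hx1⟩ : H) * g⁻¹ ∈ (S₂ : Subgroup H) := by
    rw [← hg, Sylow.coe_subgroup_smul]
    refine ⟨⟨_, hP'H hx1⟩, ?_, rfl⟩
    rw [← e1]; exact hx1
  rw [← e2] at h2
  have h3 : (g : G) * (x * p * x⁻¹) * (g : G)⁻¹ ∈ Q := h2
  rw [← hqo] at h3
  have h4 := mul_mem (mul_mem (inv_mem hq) h3) hq
  convert h4 using 1
  group

/-! ### The data from the hypothesis of the theorem -/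

section Main

variable {F : Type*} [Field F] [Fintype F]

local notation "L₂" => Matrix.ProjectiveSpecialLinearGroup (Fin 2) F

theorem abelian_hom_trivial (hF : 3 < Fintype.card F) (ψ : L₂ →* Multiplicative (ZMod 2)) (l : L₂) :
    ψ l = 1 := by
  obtain ⟨a, ha, ha2⟩ := PSLSimple.exists_sq_ne_one (F := F) (by rw [Nat.card_eq_fintype_card]; omega)
  have h := PSLSimple.commutator_PSL_eq_top
    (PSLSimple.commutator_SL_fin_eq_top (F := F) le_rfl fun _ => ⟨a, ha, ha2⟩)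
  have := Abelianization.commutator_subset_ker ψ (h ▸ mem_top l)
  exact this

theorem center_trivial (hF : 3 < Fintype.card F) {l : L₂} (h : ∀ m : L₂, l * m = m * l) : l = 1 := by
  haveI := PSLSimple.isSimpleGroup_PSL_fin (F := F) (n := 2) le_rfl
    (fun _ => PSLSimple.exists_sq_ne_one (by rw [Nat.card_eq_fintype_card]; omega))
  rcases Subgroup.Normal.eq_bot_or_eq_top (H := center L₂) inferInstance with e | e
  · exact (mem_bot).mp (e ▸ mem_center_iff.mpr fun m => (h m).symm)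
  · exfalso
    haveI : Nontrivial L₂ := IsSimpleGroup.toNontrivial
    obtain ⟨a, ha⟩ := exists_ne (1 : L₂)
    have htop : commutator L₂ = ⊤ := PSLSimple.commutator_PSL_eq_top
      (PSLSimple.commutator_SL_fin_eq_top (F := F) le_rfl
        (fun _ => PSLSimple.exists_sq_ne_one (by rw [Nat.card_eq_fintype_card]; omega)))
    have hbot : commutator L₂ = ⊥ := (commutator_eq_bot_iff_center_eq_top L₂).mpr e
    exact ha (mem_bot.mp (hbot ▸ htop ▸ mem_top a))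

theorem z2 : ∀ ε : Multiplicative (ZMod 2), ε ≠ 1 →
    (∀ a : Multiplicative (ZMod 2), a = 1 ∨ a = ε) ∧ ε * ε = 1 := by decide

theorem locHyp [Finite G] (t : G) (ht : orderOf t = 2) (hF : 3 < Fintype.card F)
    (hL : Nonempty (↥(Subgroup.closure {x : (↥(Subgroup.centralizer ({t} : Set G)) ⧸
        Cfsg.oddCore ↥(Subgroup.centralizer ({t} : Set G))) | ∃ k : ℕ, orderOf x = 2 ^ k}) ≃*
      (Multiplicative (ZMod 2) × L₂))) : LocHyp t := by
  classical
  haveI : Fact (Nat.Prime 2) := ⟨Nat.prime_two⟩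
  obtain ⟨e⟩ := hL
  set C := centralizer ({t} : Set G) with hC
  set O := Cfsg.oddCore ↥C with hOdef
  haveI : O.Normal := HallCore.pPrimeCore_normal 2 ↥C
  have hOodd : Odd (Nat.card O) := Nat.coprime_two_right.1 (HallCore.coprime_card_pPrimeCore 2 ↥C)
  set π := QuotientGroup.mk' O with hπ
  set M := Subgroup.closure {x : ↥C ⧸ O | ∃ k : ℕ, orderOf x = 2 ^ k} with hM
  have htC : t ∈ C := mem_centralizer_singleton_iff.mpr rfl
  have memC : ∀ {x : G}, x ∈ C ↔ x * t = t * x := by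
    intro x; exact mem_centralizer_singleton_iff
  have conjC : ∀ {x : G}, x ∈ C → x * t * x⁻¹ = t := fun hx =>
    mul_inv_eq_iff_eq_mul.mpr (memC.mp hx)
  have pM : ∀ x : ↥C, (∃ j, orderOf x = 2 ^ j) → π x ∈ M := by
    rintro x ⟨j, hj⟩
    apply Subgroup.subset_closure
    obtain ⟨i, -, hi⟩ := (Nat.dvd_prime_pow Nat.prime_two).mp (hj ▸ orderOf_map_dvd π x)
    exact ⟨i, hi⟩
  have hMn : ∀ (g : ↥C ⧸ O) (y : ↥C ⧸ O), y ∈ M → g * y * g⁻¹ ∈ M := by
    intro g y hy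
    have : M.map (MulAut.conj g).toMonoidHom ≤ M := by
      rw [hM, MonoidHom.map_closure]
      apply Subgroup.closure_mono
      rintro _ ⟨x, ⟨k, hk⟩, rfl⟩
      exact ⟨k, by rw [← hk]; exact (MulAut.conj g).orderOf_eq x⟩
    exact this ⟨y, hy, rfl⟩
  set tC : ↥C := ⟨t, htC⟩ with htCdef
  have htC2 : orderOf tC = 2 := by rw [← Subgroup.orderOf_coe]; exact ht
  have htM : π tC ∈ M := pM tC ⟨1, by rw [htC2, pow_one]⟩
  have tcen : ∀ y : ↥C, tC * y = y * tC := fun y => Subtype.ext (memC.mp y.2).symm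
  obtain ⟨ε, l₀, hε⟩ : ∃ ε l₀, e ⟨π tC, htM⟩ = (ε, l₀) := ⟨_, _, rfl⟩
  have hl₀ : l₀ = 1 := by
    apply center_trivial hF
    intro m
    obtain ⟨⟨y, hy⟩, hym⟩ := e.surjective (1, m)
    obtain ⟨y, rfl⟩ := QuotientGroup.mk'_surjective O y
    have : (⟨π tC, htM⟩ : M) * ⟨π y, hy⟩ = ⟨π y, hy⟩ * ⟨π tC, htM⟩ :=
      Subtype.ext (by change π tC * π y = π y * π tC; rw [← map_mul, tcen, map_mul])
    have := congrArg e this
    rw [map_mul, map_mul, hε, hym] at this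
    exact congrArg Prod.snd this
  have hεne : ε ≠ 1 := by
    rintro rfl
    subst hl₀
    have h1 : (⟨π tC, htM⟩ : M) = 1 := e.injective (by rw [hε, map_one]; rfl)
    have h2 : tC ∈ O := (QuotientGroup.eq_one_iff tC).mp (congrArg Subtype.val h1)
    have h3 : IsPGroup 2 (zpowers tC) := IsPGroup.of_card (n := 1) (by rw [Nat.card_zpowers, htC2, pow_one])
    have h4 := eq_one_of_mem_odd h3 hOodd (mem_zpowers tC) h2
    rw [h4, orderOf_one] at htC2
    omega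
  obtain ⟨two, hεε⟩ := z2 ε hεne
  subst hl₀
  -- conjugation preserves the second factor
  have hL0 : ∀ (g : ↥C ⧸ O) (y : M), (e y).1 = 1 →
      (e ⟨g * y * g⁻¹, hMn g y y.2⟩).1 = 1 := by
    intro g y hy
    let ψ : L₂ →* Multiplicative (ZMod 2) :=
      { toFun := fun l => (e ⟨g * (e.symm (1, l)).1 * g⁻¹, hMn g _ (e.symm (1, l)).2⟩).1
        map_one' := by
          have h1 : e.symm (1, 1) = 1 := map_one e.symm
          rw [show (⟨g * (e.symm (1, 1)).1 * g⁻¹, hMn g _ (e.symm (1, 1)).2⟩ : M) = 1 from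
            Subtype.ext (by rw [h1]; simp), map_one]
          rfl
        map_mul' := fun a b => by
          rw [← Prod.fst_mul, ← map_mul]
          congr 2
          apply Subtype.ext
          have h1 : e.symm (1, a * b) = e.symm (1, a) * e.symm (1, b) := by
            rw [← map_mul]; simp
          simp [h1, mul_assoc] }
    have h := abelian_hom_trivial hF ψ (e y).2
    have h1 : e.symm (1, (e y).2) = y := by
      rw [e.symm_apply_eq]; exact Prod.ext hy.symm rfl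
    simpa [ψ, h1] using h
  intro T hT hTc hTmax
  have hTC : T ≤ C := fun x hx => memC.mpr (hTc x hx)
  set T' := T.subgroupOf C with hT'
  have hT'p : IsPGroup 2 T' := hT.of_equiv (subgroupOfEquivOfLe hTC).symm
  obtain ⟨S₀, hS₀⟩ := hT'p.exists_le_sylow
  have hS₀T : (S₀ : Subgroup ↥C) = T' := by
    have h1 : (S₀ : Subgroup ↥C).map C.subtype = T := by
      refine hTmax _ (S₀.isPGroup'.map _) ?_ ?_
      · rintro _ ⟨x, -, rfl⟩; exact memC.mp x.2
      · intro x hx; exact ⟨⟨x, hTC hx⟩, hS₀ hx, rfl⟩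
    calc (S₀ : Subgroup ↥C) = ((S₀ : Subgroup ↥C).map C.subtype).comap C.subtype :=
          (comap_map_eq_self_of_injective C.subtype_injective _).symm
      _ = T' := by rw [h1]; rfl
  have htT' : tC ∈ T' := by
    have h1 : T ⊔ zpowers t = T := by
      apply hTmax _ ?_ ?_ le_sup_left
      · refine IsPGroup.to_sup_of_normal_left' hT
          (IsPGroup.of_card (n := 1) (by rw [Nat.card_zpowers, ht, pow_one])) ?_
        rw [zpowers_le]
        refine mem_normalizer_iff.mpr fun x => ⟨fun hx => ?_, fun hx => ?_⟩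
        · have := hTc x hx
          rw [← this, mul_inv_cancel_right]; exact hx
        · have e1 := hTc _ hx
          have e2 : t * x * t⁻¹ = x :=
            calc t * x * t⁻¹ = t⁻¹ * (t * (t * x * t⁻¹)) := by group
              _ = t⁻¹ * (t * x * t⁻¹ * t) := by rw [← e1]
              _ = x := by group
          rwa [e2] at hx
      · intro x hx
        have : T ⊔ zpowers t ≤ C := sup_le hTC (zpowers_le.mpr htC)
        exact memC.mp (this hx)
    have : t ∈ T := h1 ▸ mem_sup_right (mem_zpowers t)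
    exact this
  have hTM : ∀ x ∈ T', π x ∈ M := fun x hx => by
    obtain ⟨j, hj⟩ := IsPGroup.iff_orderOf.mp hT'p ⟨x, hx⟩
    exact pM x ⟨j, (Subgroup.orderOf_coe (⟨x, hx⟩ : T')).trans hj⟩
  let ρ : T' →* Multiplicative (ZMod 2) × L₂ :=
    e.toMonoidHom.comp ((π.comp T'.subtype).codRestrict M (fun x => hTM x x.2))
  have hρinj : Function.Injective ρ := by
    rw [injective_iff_map_eq_one]
    intro x hx
    have h1 := e.injective (hx.trans (map_one e).symm)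
    have h2 : (x : ↥C) ∈ O := (QuotientGroup.eq_one_iff _).mp (congrArg Subtype.val h1)
    exact Subtype.ext (eq_one_of_mem_odd hT'p hOodd x.2 h2)
  have hρt : ρ ⟨tC, htT'⟩ = (ε, 1) := hε
  let D' : Subgroup ↥C := ((MonoidHom.fst _ _).comp ρ).ker.map T'.subtype
  have hD'mem : ∀ x : ↥C, x ∈ D' ↔ ∃ hx : x ∈ T', (ρ ⟨x, hx⟩).1 = 1 := by
    intro x
    constructor
    · rintro ⟨⟨y, hy⟩, h, rfl⟩; exact ⟨hy, h⟩
    · rintro ⟨hx, h⟩; exact ⟨⟨x, hx⟩, h, rfl⟩
  -- the image in `L` is a Sylow subgroup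
  let PL : Subgroup L₂ := ρ.range.map (MonoidHom.snd _ _)
  have hPLp : IsPGroup 2 PL := by
    have : IsPGroup 2 ρ.range := hT'p.of_surjective ρ.rangeRestrict ρ.rangeRestrict_surjective
    exact this.map _
  have hPLmem : ∀ l, l ∈ PL ↔ ∃ x : T', ρ x = (1, l) := by
    intro l
    constructor
    · rintro ⟨_, ⟨x, rfl⟩, rfl⟩
      rcases two (ρ x).1 with h | h
      · exact ⟨x, Prod.ext h rfl⟩
      · refine ⟨⟨tC, htT'⟩ * x, ?_⟩
        rw [map_mul, hρt]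
        refine Prod.ext ?_ (one_mul _)
        change ε * (ρ x).1 = 1
        rw [h, hεε]
    · rintro ⟨x, hx⟩
      exact ⟨_, ⟨x, rfl⟩, by rw [hx]; rfl⟩
  obtain ⟨Ps, hPs⟩ := hPLp.exists_le_sylow
  have hPsL : (Ps : Subgroup L₂) = PL := by
    refine le_antisymm ?_ hPs
    -- a 2-subgroup of `L` lifts to a 2-subgroup of `C`
    let E : L₂ →* ↥C ⧸ O := M.subtype.comp (e.symm.toMonoidHom.comp (MonoidHom.inr _ _))
    set PT := T'.map π with hPT
    have hPTp : IsPGroup 2 PT := hT'p.map π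
    have hPTsyl : ∀ R : Subgroup (↥C ⧸ O), IsPGroup 2 R → PT ≤ R → R = PT := fun R hR hle => by
      have h := (S₀.mapSurjective (QuotientGroup.mk'_surjective O)).is_maximal' hR (by
        change (S₀ : Subgroup ↥C).map π ≤ R
        rw [hS₀T]; exact hle)
      rw [h]
      change (S₀ : Subgroup ↥C).map π = PT
      rw [hS₀T]
    let R := (Ps : Subgroup L₂).map E ⊔ zpowers (π tC)
    have hRp : IsPGroup 2 R := by
      refine IsPGroup.to_sup_of_normal_left' (Ps.isPGroup'.map E)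
        (IsPGroup.of_card_dvd_pow (n := 1) ?_) ?_
      · rw [Nat.card_zpowers, pow_one, ← htC2]; exact orderOf_map_dvd π tC
      · rw [zpowers_le]
        refine mem_normalizer_of_conj fun y hy => ?_
        obtain ⟨y', rfl⟩ := QuotientGroup.mk'_surjective O y
        rw [← map_inv π, ← map_mul π, ← map_mul π, tcen y', mul_inv_cancel_right]
        exact hy
    have hle : PT ≤ R := by
      rintro _ ⟨x, hx, rfl⟩
      have hfac : ρ ⟨x, hx⟩ = ((ρ ⟨x, hx⟩).1, 1) * (1, (ρ ⟨x, hx⟩).2) := by simp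
      have h1 : π x = (e.symm ((ρ ⟨x, hx⟩).1, 1)).1 * E (ρ ⟨x, hx⟩).2 := by
        change π x = (e.symm ((ρ ⟨x, hx⟩).1, 1) * e.symm (1, (ρ ⟨x, hx⟩).2)).1
        rw [← map_mul, ← hfac]
        change π x = (e.symm (e ⟨π x, _⟩)).1
        rw [e.symm_apply_apply]
      rw [h1]
      refine mul_mem (mem_sup_right ?_)
        (mem_sup_left ⟨_, hPs ⟨_, ⟨⟨x, hx⟩, rfl⟩, rfl⟩, rfl⟩)
      rcases two (ρ ⟨x, hx⟩).1 with h | h <;> rw [h]
      · rw [show ((1 : Multiplicative (ZMod 2)), (1 : L₂)) = 1 from rfl, map_one]; exact one_mem _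
      · rw [← hε, e.symm_apply_apply]; exact mem_zpowers _
    have hR := hPTsyl R hRp hle
    intro l hl
    have : E l ∈ PT := hR ▸ mem_sup_left ⟨l, hl, rfl⟩
    obtain ⟨x, hx, hxe⟩ := this
    refine ⟨_, ⟨⟨x, hx⟩, rfl⟩, ?_⟩
    have h3 : (⟨π x, hTM x hx⟩ : M) = e.symm (1, l) := Subtype.ext hxe
    change (e ⟨π x, hTM x hx⟩).2 = l
    rw [h3, e.apply_symm_apply]
  -- lifting the action of an element of `L`
  have key : ∀ (P Q : Subgroup ↥C), P ≤ D' → Q ≤ D' → Nat.card P = Nat.card Q → ∀ l : L₂,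
      (∀ p, ∀ hp : p ∈ T', p ∈ P → ∃ q, ∃ hq : q ∈ T', q ∈ Q ∧
        l * (ρ ⟨p, hp⟩).2 * l⁻¹ = (ρ ⟨q, hq⟩).2) →
      ∃ g : ↥C, (∀ (h : π g ∈ M), e ⟨π g, h⟩ = (1, l)) ∧ π g ∈ M ∧ ∀ p ∈ P, g * p * g⁻¹ ∈ Q ∧
        ∀ (hp : p ∈ T') (hq : g * p * g⁻¹ ∈ T'), (ρ ⟨_, hq⟩).2 = l * (ρ ⟨p, hp⟩).2 * l⁻¹ := by
    intro P Q hP hQ hcard l hl
    obtain ⟨x, hx⟩ := QuotientGroup.mk'_surjective O (e.symm (1, l)).1
    have hPT : P ≤ T' := fun p hp => ((hD'mem p).mp (hP hp)).1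
    have hQT : Q ≤ T' := fun p hp => ((hD'mem p).mp (hQ hp)).1
    have hxM : π x ∈ M := hx ▸ (e.symm (1, l)).2
    have hex : e ⟨π x, hxM⟩ = (1, l) := by
      rw [show (⟨π x, hxM⟩ : M) = e.symm (1, l) from Subtype.ext hx, e.apply_symm_apply]
    have hconj : ∀ p, ∀ hp : p ∈ T', p ∈ P → ∀ hm : π (x * p * x⁻¹) ∈ M,
        e ⟨π (x * p * x⁻¹), hm⟩ = (1, l * (ρ ⟨p, hp⟩).2 * l⁻¹) := by
      intro p hp hpP hm
      have h1 : (⟨π (x * p * x⁻¹), hm⟩ : M) = ⟨π x, hxM⟩ * ⟨π p, hTM p hp⟩ * (⟨π x, hxM⟩)⁻¹ :=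
        Subtype.ext (by simp)
      rw [h1, map_mul, map_mul, map_inv, hex]
      obtain ⟨hp', hp1⟩ := (hD'mem p).mp (hP hpP)
      have hp1' : (e ⟨π p, hTM p hp⟩).1 = 1 := hp1
      refine Prod.ext ?_ rfl
      simp [hp1']
    obtain ⟨o, ho, hoP⟩ := lift_map hOodd (hT'p.to_le hPT) (hT'p.to_le hQT) hcard x (by
      intro p hp
      obtain ⟨q, hq, hqQ, hql⟩ := hl p (hPT hp) hp
      refine ⟨q, hqQ, (QuotientGroup.eq).mp ?_⟩
      have hm : π (x * p * x⁻¹) ∈ M := by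
        rw [map_mul, map_mul, map_inv]
        exact mul_mem (mul_mem hxM (hTM p (hPT hp))) (inv_mem hxM)
      have := hconj p (hPT hp) hp hm
      obtain ⟨hq', hq1⟩ := (hD'mem q).mp (hQ hqQ)
      have h2 : e ⟨π q, hTM q hq⟩ = e ⟨π (x * p * x⁻¹), hm⟩ := by
        rw [this, hql]; exact Prod.ext hq1 rfl
      exact congrArg Subtype.val (e.injective h2))
    have hox : π (o * x) = π x := by
      rw [map_mul, show π o = 1 from (QuotientGroup.eq_one_iff o).mpr ho, one_mul]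
    refine ⟨o * x, fun h => ?_, hox ▸ hxM, fun p hp => ⟨hoP p hp, fun hpT hq => ?_⟩⟩
    · rw [show (⟨π (o * x), h⟩ : M) = ⟨π x, hxM⟩ from Subtype.ext hox, hex]
    · have hm : π (x * p * x⁻¹) ∈ M := by
        rw [map_mul, map_mul, map_inv]
        exact mul_mem (mul_mem hxM (hTM p (hPT hp))) (inv_mem hxM)
      have h1 : (⟨π ((o * x) * p * (o * x)⁻¹), hTM _ hq⟩ : M) = ⟨π (x * p * x⁻¹), hm⟩ :=
        Subtype.ext (by
          change π ((o * x) * p * (o * x)⁻¹) = π (x * p * x⁻¹)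
          simp only [map_mul, map_inv] at hox ⊢
          rw [hox])
      change (e ⟨π ((o * x) * p * (o * x)⁻¹), hTM _ hq⟩).2 = _
      rw [h1, hconj p hpT hp hm]
  have ρ2inj : ∀ {x y : ↥C} (hx : x ∈ T') (hy : y ∈ T'), x ∈ D' → y ∈ D' →
      (ρ ⟨x, hx⟩).2 = (ρ ⟨y, hy⟩).2 → x = y := by
    intro x y hx hy hxD hyD h
    obtain ⟨_, h1⟩ := (hD'mem x).mp hxD
    obtain ⟨_, h2⟩ := (hD'mem y).mp hyD
    exact congrArg Subtype.val (hρinj (Prod.ext (h1.trans h2.symm) h))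
  let θ : D' →* L₂ := (MonoidHom.snd _ _).comp
    (ρ.comp (Subgroup.inclusion (fun x hx => ((hD'mem x).mp hx).1)))
  have hθ : Function.Injective θ := fun x y h =>
    Subtype.ext (ρ2inj _ _ x.2 y.2 h)
  have hθP : θ.range = (Ps : Subgroup L₂) := by
    rw [hPsL]
    ext l
    rw [hPLmem]
    constructor
    · rintro ⟨⟨x, hx⟩, rfl⟩
      obtain ⟨hx', h1⟩ := (hD'mem x).mp hx
      exact ⟨⟨x, hx'⟩, Prod.ext h1 rfl⟩
    · rintro ⟨⟨x, hx⟩, h⟩
      refine ⟨⟨x, (hD'mem x).mpr ⟨hx, by rw [h]⟩⟩, ?_⟩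
      change (ρ ⟨x, hx⟩).2 = l
      rw [h]
  have keyθ : ∀ (P Q : Subgroup D'), Nat.card P = Nat.card Q → ∀ l : L₂,
      (∀ p ∈ P, ∃ q ∈ Q, l * θ p * l⁻¹ = θ q) →
      ∃ g : ↥C, (∀ (h : π g ∈ M), e ⟨π g, h⟩ = (1, l)) ∧ π g ∈ M ∧
        ∀ p ∈ P, ∃ q ∈ Q, g * (p : ↥C) * g⁻¹ = q ∧ θ q = l * θ p * l⁻¹ := by
    intro P Q hcard l hl
    obtain ⟨g, g1, g1', g2⟩ := key (P.map D'.subtype) (Q.map D'.subtype) (map_subtype_le _)
      (map_subtype_le _) (by
        rw [card_map_of_injective D'.subtype_injective,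
          card_map_of_injective D'.subtype_injective, hcard]) l (by
        rintro _ hp ⟨p, hpP, rfl⟩
        obtain ⟨q, hq, hql⟩ := hl p hpP
        exact ⟨q, ((hD'mem q.1).mp q.2).1, ⟨q, hq, rfl⟩, hql⟩)
    refine ⟨g, g1, g1', fun p hp => ?_⟩
    obtain ⟨⟨q, hq, hqe⟩, hq2⟩ := g2 p ⟨p, hp, rfl⟩
    refine ⟨q, hq, hqe.symm, ?_⟩
    have hqT : g * (p : ↥C) * g⁻¹ ∈ T' := by
      rw [← show (q : ↥C) = _ from hqe]; exact ((hD'mem q.1).mp q.2).1
    refine Eq.trans ?_ (hq2 ((hD'mem p.1).mp p.2).1 hqT)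
    change (ρ ⟨(q : ↥C), _⟩).2 = _
    congr 3
  set D := D'.map C.subtype with hDdef
  have hinD : ∀ {x : G}, x ∈ D → ∃ y : D', ((y : ↥C) : G) = x := by
    rintro x ⟨y, hy, rfl⟩; exact ⟨⟨y, hy⟩, rfl⟩
  have hDy : ∀ y : D', ((y : ↥C) : G) ∈ D := fun y => ⟨y, y.2, rfl⟩
  have ordD : ∀ y : D', orderOf ((y : ↥C) : G) = orderOf (θ y) := fun y => by
    rw [Subgroup.orderOf_coe, Subgroup.orderOf_coe, orderOf_injective θ hθ]
  have hstd : (∀ a b : L₂, orderOf a = 2 → orderOf b = 2 → IsConj a b) ∧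
      ((∃ n c, 2 ≤ n ∧ Nat.card (Ps : Subgroup L₂) = 2 ^ n ∧
          (∀ x ∈ (Ps : Subgroup L₂), x * x = 1) ∧ JTPsl62.TorusAct (Ps : Subgroup L₂) c) ∨
        ∃ k c b, 2 ≤ k ∧ orderOf c = 2 ^ k ∧ DihGen (Ps : Subgroup L₂) c b ∧
          ∀ a₁ a₂ : L₂, orderOf a₁ = 2 → orderOf a₂ = 2 → a₁ * a₂ = a₂ * a₁ → a₁ ≠ a₂ →
            ∃ h : L₂, h * a₁ * h⁻¹ = a₂ ∧ h * a₂ * h⁻¹ = a₁ * a₂) := by
    rcases Nat.even_or_odd (Nat.card F) with hev | hodd
    · exact ⟨fun a b => JTPsl62.inv_conj_even hev, Or.inl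
        (JTPsl62.sylow_even hev (by rw [Nat.card_eq_fintype_card]; exact hF) Ps)⟩
    · have h2 := PSL2SylowTwo.two_ne_zero_of_odd hodd
      refine ⟨fun a b => JTPsl62.inv_conj_odd h2, ?_⟩
      obtain ⟨k, c, b, hk, hc, hg⟩ := JTPsl62.sylow_odd hodd Ps
      rcases eq_or_lt_of_le hk with rfl | hk2
      · obtain ⟨h1, h3, g, h4⟩ := JTPsl62.sylow_klein hodd Ps hg (by rw [hc, pow_one])
        exact Or.inl ⟨2, g, le_rfl, h1, h3, h4⟩
      · exact Or.inr ⟨k, c, b, hk2, hc, hg, fun a b => JTPsl62.four_odd h2⟩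
  obtain ⟨hconj, hsh⟩ := hstd
  refine ⟨D, ht, hT, hTc, ?_, htT', ?_, ?_, ?_, ?_, ?_⟩
  · intro P hP hPc
    have hPC : P ≤ C := fun x hx => memC.mpr (hPc x hx)
    obtain ⟨S₁, hS₁⟩ := (hP.of_equiv (subgroupOfEquivOfLe hPC).symm).exists_le_sylow
    obtain ⟨g, hg⟩ := MulAction.exists_smul_eq ↥C S₁ S₀
    refine ⟨(g : G), conjC g.2, fun x hx => ?_⟩
    have : g * ⟨x, hPC hx⟩ * g⁻¹ ∈ (S₀ : Subgroup ↥C) := by
      rw [← hg, Sylow.coe_subgroup_smul]; exact ⟨⟨x, hPC hx⟩, hS₁ hx, rfl⟩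
    rw [hS₀T] at this
    exact this
  · rintro ⟨y, hy, hyt⟩
    obtain ⟨hy', h1⟩ := (hD'mem y).mp hy
    have : y = tC := Subtype.ext hyt
    subst this
    rw [show ρ ⟨tC, hy'⟩ = (ε, 1) from hρt] at h1
    exact hεne h1
  · rintro _ ⟨y, hy, rfl⟩
    exact ((hD'mem y).mp hy).1
  · intro x hx
    rcases two (ρ ⟨⟨x, hTC hx⟩, hx⟩).1 with h | h
    · exact Or.inl ⟨⟨x, hTC hx⟩, (hD'mem _).mpr ⟨hx, h⟩, rfl⟩
    · refine Or.inr ⟨tC * ⟨x, hTC hx⟩, (hD'mem _).mpr ⟨mul_mem htT' hx, ?_⟩, rfl⟩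
      change (ρ (⟨tC, htT'⟩ * ⟨⟨x, hTC hx⟩, hx⟩)).1 = 1
      rw [map_mul, Prod.fst_mul, hρt, h, hεε]
  · intro a ha b hb oa ob
    obtain ⟨a, rfl⟩ := hinD ha
    obtain ⟨b, rfl⟩ := hinD hb
    rw [ordD] at oa ob
    obtain ⟨l, hl⟩ := isConj_iff.mp (hconj _ _ oa ob)
    obtain ⟨g, -, -, hg⟩ := keyθ (zpowers a) (zpowers b) (by
      rw [Nat.card_zpowers, Nat.card_zpowers, ← orderOf_injective θ hθ a,
        ← orderOf_injective θ hθ b, oa, ob]) l (by
      intro p hp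
      obtain ⟨i, rfl⟩ := mem_zpowers_iff.mp hp
      exact ⟨b ^ i, zpow_mem (mem_zpowers b) i, by rw [map_zpow, map_zpow, ← hl, conj_zpow]⟩)
    refine ⟨(g : G), conjC g.2, ?_⟩
    obtain ⟨q, -, hq, hq2⟩ := hg a (mem_zpowers a)
    have : q = b := hθ (hq2.trans hl)
    exact (congrArg Subtype.val hq).trans (by rw [this])
  · rcases hsh with ⟨n, c, hn, hcard, hsq, hT⟩ | ⟨k, c, b, hk, hc, hg, hfour⟩
    · left
      obtain ⟨g, g1, g1', g2⟩ := keyθ ⊤ ⊤ rfl c (by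
        intro p _
        obtain ⟨q, hq⟩ : c * θ p * c⁻¹ ∈ θ.range := by
          rw [hθP]; exact hT.normal _ (hθP ▸ ⟨p, rfl⟩)
        exact ⟨q, mem_top q, hq.symm⟩)
      have gact : ∀ y : D', ∃ q : D', (g : G) * ((y : ↥C) : G) * (g : G)⁻¹ = ((q : ↥C) : G) ∧
          θ q = c * θ y * c⁻¹ := fun y => by
        obtain ⟨q, -, hq, hq2⟩ := g2 y (mem_top y)
        exact ⟨q, congrArg Subtype.val hq, hq2⟩
      have gpow : ∀ (i : ℕ) (y : D'), ∃ q : D',
          (g : G) ^ i * ((y : ↥C) : G) * ((g : G) ^ i)⁻¹ = ((q : ↥C) : G) ∧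
          θ q = c ^ i * θ y * (c ^ i)⁻¹ := by
        intro i
        induction i with
        | zero => intro y; exact ⟨y, by simp, by simp⟩
        | succ i ih =>
          intro y
          obtain ⟨q, hq, hq'⟩ := ih y
          obtain ⟨r, hr, hr'⟩ := gact q
          refine ⟨r, ?_, ?_⟩
          · rw [← hr, ← hq, pow_succ']; group
          · rw [hr', hq', pow_succ']; group
      refine ⟨n, (g : G), hn, ?_, ?_, conjC g.2, ?_, ?_, ?_⟩
      · rw [hDdef, card_map_of_injective C.subtype_injective,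
          Nat.card_congr (MonoidHom.ofInjective hθ).toEquiv, hθP, hcard]
      · intro x hx
        obtain ⟨y, rfl⟩ := hinD hx
        have : y * y = 1 := hθ (by rw [map_mul, map_one]; exact hsq _ (hθP ▸ ⟨y, rfl⟩))
        exact congrArg (fun z : D' => ((z : ↥C) : G)) this
      · intro x hx
        obtain ⟨y, rfl⟩ := hinD hx
        obtain ⟨q, hq, -⟩ := gact y
        rw [hq]; exact hDy q
      · intro a ha b hb a1 b1
        obtain ⟨a, rfl⟩ := hinD ha
        obtain ⟨b, rfl⟩ := hinD hb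
        obtain ⟨i, hi⟩ := hT.trans _ (hθP ▸ ⟨a, rfl⟩ : θ a ∈ _) _ (hθP ▸ ⟨b, rfl⟩ : θ b ∈ _)
          (fun h => a1 (by rw [← map_one θ] at h; rw [hθ h]; rfl))
          (fun h => b1 (by rw [← map_one θ] at h; rw [hθ h]; rfl))
        obtain ⟨q, hq, hq2⟩ := gpow i a
        refine ⟨i, ?_⟩
        rw [hq, hθ (hq2.trans hi)]
      · intro h ht' hD
        have hhC : h ∈ C := memC.mpr (mul_inv_eq_iff_eq_mul.mp ht')
        set h' : ↥C := ⟨h, hhC⟩ with hh'
        obtain ⟨c', hc'M, hc'⟩ : ∃ c' : L₂, ∃ hm : π (h' * g * h'⁻¹) ∈ M,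
            e ⟨π (h' * g * h'⁻¹), hm⟩ = (1, c') := by
          have hm : π (h' * g * h'⁻¹) ∈ M := by
            rw [map_mul, map_mul, map_inv]; exact hMn _ _ g1'
          refine ⟨(e ⟨_, hm⟩).2, hm, Prod.ext ?_ rfl⟩
          have := hL0 (π h') ⟨π g, g1'⟩ (by rw [g1 g1'])
          convert this using 4
          simp
        have hD' : ∀ y : D', ∃ q : D', h' * (y : ↥C) * h'⁻¹ = q := fun y => by
          obtain ⟨q, hq⟩ := hinD (hD _ (hDy y))
          exact ⟨q, Subtype.ext hq.symm⟩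
        let φ : D' →* D' :=
          { toFun := fun y => ⟨h' * (y : ↥C) * h'⁻¹, (hD' y).choose_spec ▸ (hD' y).choose.2⟩
            map_one' := Subtype.ext (by simp)
            map_mul' := fun a b => Subtype.ext (by simp [mul_assoc]) }
        have hφ : Function.Surjective φ := Finite.surjective_of_injective fun a b hab =>
          Subtype.ext (mul_left_cancel (mul_right_cancel
            (congrArg Subtype.val hab : h' * (a : ↥C) * h'⁻¹ = h' * (b : ↥C) * h'⁻¹)))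
        have cnj : ∀ y : D', ∃ q : D', (h' * g * h'⁻¹) * (y : ↥C) * (h' * g * h'⁻¹)⁻¹ = q ∧
            θ q = c' * θ y * c'⁻¹ := by
          intro y
          obtain ⟨y₀, rfl⟩ := hφ y
          obtain ⟨q, -, hq, -⟩ := g2 y₀ (mem_top _)
          have hval : (h' * g * h'⁻¹) * (φ y₀ : ↥C) * (h' * g * h'⁻¹)⁻¹ = (φ q : ↥C) := by
            change (h' * g * h'⁻¹) * (h' * (y₀ : ↥C) * h'⁻¹) * (h' * g * h'⁻¹)⁻¹ =
              h' * (q : ↥C) * h'⁻¹
            rw [← hq]; group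
          refine ⟨φ q, hval, ?_⟩
          have hyT := ((hD'mem _).mp (φ y₀).2).1
          have hqT := ((hD'mem _).mp (φ q).2).1
          have h1 : (⟨π (φ q : ↥C), hTM _ hqT⟩ : M) =
              ⟨_, hc'M⟩ * ⟨π (φ y₀ : ↥C), hTM _ hyT⟩ * (⟨_, hc'M⟩)⁻¹ := Subtype.ext (by
            change π (φ q : ↥C) = π (h' * g * h'⁻¹) * π (φ y₀ : ↥C) * (π (h' * g * h'⁻¹))⁻¹
            rw [← hval]; simp only [map_mul, map_inv])
          change (e ⟨π (φ q : ↥C), hTM _ hqT⟩).2 = _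
          rw [h1, map_mul, map_mul, map_inv, hc']
          rfl
        obtain ⟨i, hi⟩ := hT.control c' (fun x hx => by
          rw [← hθP] at hx ⊢
          obtain ⟨y, rfl⟩ := hx
          obtain ⟨q, -, hq⟩ := cnj y
          exact ⟨q, hq⟩)
        refine ⟨i, fun x hx => ?_⟩
        obtain ⟨y, rfl⟩ := hinD hx
        obtain ⟨q, hq, hq2⟩ := cnj y
        obtain ⟨r, hr, hr2⟩ := gpow i y
        rw [hr]
        refine (congrArg Subtype.val hq).trans ?_
        rw [show q = r from hθ (by rw [hq2, hr2]; exact hi _ (hθP ▸ ⟨y, rfl⟩))]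
    · right
      obtain ⟨c₁, hc₁⟩ : c ∈ θ.range := hθP ▸ hg.c_mem
      obtain ⟨b₁, hb₁⟩ : b ∈ θ.range := hθP ▸ hg.b_mem
      refine ⟨k, ((c₁ : ↥C) : G), ((b₁ : ↥C) : G), hk, ?_, ⟨hDy c₁, hDy b₁, ?_, ?_, ?_, ?_⟩, ?_⟩
      · rw [ordD, hc₁, hc]
      · rintro ⟨i, hi⟩
        refine hg.b_notMem ⟨i, ?_⟩
        have : c₁ ^ i = b₁ := Subtype.ext (Subtype.ext (by simpa using hi))
        change c ^ i = b
        rw [← hc₁, ← hb₁, ← map_zpow, this]
      · have : b₁ * b₁ = 1 := hθ (by rw [map_mul, hb₁, map_one, hg.b_sq])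
        exact congrArg (fun z : D' => ((z : ↥C) : G)) this
      · have : b₁ * c₁ * b₁⁻¹ = c₁⁻¹ := hθ (by
          rw [map_mul, map_mul, map_inv, map_inv, hb₁, hc₁, hg.conj])
        exact congrArg (fun z : D' => ((z : ↥C) : G)) this
      · intro x hx
        obtain ⟨y, rfl⟩ := hinD hx
        rcases hg.cover (θ y) (hθP ▸ ⟨y, rfl⟩) with h | h
        · obtain ⟨i, hi⟩ := h
          have : c₁ ^ i = y := hθ (by rw [map_zpow, hc₁]; exact hi)
          exact Or.inl ⟨i, by rw [← this]; simp⟩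
        · obtain ⟨i, hi⟩ := h
          have : c₁ ^ i = b₁ * y := hθ (by rw [map_zpow, hc₁, map_mul, hb₁]; exact hi)
          refine Or.inr ⟨i, ?_⟩
          have h' := congrArg (fun z : D' => ((z : ↥C) : G)) this
          simpa using h'
      · intro a₁ ha₁ a₂ ha₂ o1 o2 hcom hne
        obtain ⟨a, rfl⟩ := hinD ha₁
        obtain ⟨b', rfl⟩ := hinD ha₂
        rw [ordD] at o1 o2
        have hcom' : a * b' = b' * a := Subtype.ext (Subtype.ext hcom)
        obtain ⟨l, hl1, hl2⟩ := hfour (θ a) (θ b') o1 o2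
          (by rw [← map_mul, ← map_mul, hcom']) (fun h => hne (by rw [hθ h]))
        obtain ⟨g, -, -, hg2⟩ := keyθ (closure {a, b'}) (closure {a, b'}) rfl l (by
          intro p hp
          have : θ.comp (closure {a, b'}).subtype = θ.comp (closure {a, b'}).subtype := rfl
          have hle : closure {a, b'} ≤
              ((closure {a, b'}).map θ).comap ((MulAut.conj l).toMonoidHom.comp θ) := by
            rw [closure_le]
            rintro x (rfl | rfl)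
            · exact ⟨b', Subgroup.subset_closure (Or.inr rfl), hl1.symm⟩
            · exact ⟨a * x, mul_mem (Subgroup.subset_closure (Or.inl rfl)) (Subgroup.subset_closure (Or.inr rfl)),
                by rw [map_mul]; exact hl2.symm⟩
          obtain ⟨q, hq, hqe⟩ := hle hp
          exact ⟨q, hq, hqe.symm⟩)
        refine ⟨(g : G), conjC g.2, ?_, ?_⟩
        · obtain ⟨q, -, hq, hq2⟩ := hg2 a (Subgroup.subset_closure (Or.inl rfl))
          exact (congrArg Subtype.val hq).trans (by rw [hθ (hq2.trans hl1)])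
        · obtain ⟨q, -, hq, hq2⟩ := hg2 b' (Subgroup.subset_closure (Or.inr rfl))
          exact (congrArg Subtype.val hq).trans (by
            rw [hθ (hq2.trans (hl2.trans (map_mul θ a b').symm))]; rfl)

end Main

end Cfsg.Agent.JTSetup62
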