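import Cfsg.Agent.Lib.JTSmall62

/-!
# `D` dihedral: `T` does not have index 2 in a Sylow subgroup
-/

set_option autoImplicit false
set_option linter.unusedSectionVars false

namespace Cfsg.Agent.JTSmallEnd62

open Subgroup JTSetup62 JTDihedral62 JTSmall62

variable {G : Type*} [Group G] [Finite G] {t : G} {T D : Subgroup G} {k : ℕ} {c b : G}

/-- `zpowers c ∪ x * zpowers c` as a subgroup. -/
def twoCosets (c x : G) (hn : ∀ i : ℤ, x * c ^ i * x⁻¹ ∈ zpowers c) (hx : x * x ∈ zpowers c) :
    Subgroup G where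
  carrier := {y | y ∈ zpowers c ∨ x⁻¹ * y ∈ zpowers c}
  one_mem' := Or.inl (one_mem _)
  mul_mem' := by
    intro a a' ha ha'
    have hn' : ∀ {y}, y ∈ zpowers c → x⁻¹ * y * x ∈ zpowers c := by
      intro y hy
      obtain ⟨i, hi⟩ := hy
      have h1 := hn i
      obtain ⟨j, hj⟩ := hx
      have e1 : x⁻¹ * y * x = (x * x)⁻¹ * (x * y * x⁻¹) * (x * x) := by group
      rw [e1]
      have hy' : x * y * x⁻¹ ∈ zpowers c := by rw [← hi]; exact h1
      exact mul_mem (mul_mem (inv_mem ⟨j, hj⟩) hy') ⟨j, hj⟩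
    rcases ha with ha | ha <;> rcases ha' with ha' | ha'
    · exact Or.inl (mul_mem ha ha')
    · right
      have : x⁻¹ * (a * a') = (x⁻¹ * a * x) * (x⁻¹ * a') := by group
      rw [this]; exact mul_mem (hn' ha) ha'
    · right
      rw [← mul_assoc]; exact mul_mem ha ha'
    · left
      have : a * a' = (x * (x⁻¹ * a) * x⁻¹) * (x * x) * (x⁻¹ * a') := by group
      rw [this]
      obtain ⟨i, hi⟩ := ha
      exact mul_mem (mul_mem (by rw [← hi]; exact hn i) hx) ha'
  inv_mem' := by
    intro a ha
    rcases ha with ha | ha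
    · exact Or.inl (inv_mem ha)
    · right
      have : x⁻¹ * a⁻¹ = (x * x)⁻¹ * (x * (x⁻¹ * a)⁻¹ * x⁻¹) := by group
      rw [this]
      obtain ⟨i, hi⟩ := inv_mem ha
      exact mul_mem (inv_mem hx) (by rw [← hi]; exact hn i)

theorem twoCosets_le {S : Subgroup G} {c x : G} {hn} {hx} (hc : c ∈ S) (hxS : x ∈ S) :
    twoCosets c x hn hx ≤ S := by
  rintro y (⟨i, rfl⟩ | ⟨i, hi⟩)
  · exact zpow_mem hc i
  · have : y = x * c ^ i := by rw [show c ^ i = x⁻¹ * y from hi, mul_inv_cancel_left]
    rw [this]; exact mul_mem hxS (zpow_mem hc i)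

/-- Types of the two noncentral involutions `e`, `w * e` at an outside conjugate `w` of `t`. -/
theorem types {S : Sylow 2 G} (hyp : LocHyp t) (h : Half S t T D k c b) (hk : 3 ≤ k) {w e : G}
    (hw : w ∈ (S : Subgroup G)) (hwT : w ∉ T) (hwconj : IsConj t w)
    (hcard : Nat.card T ≤ Nat.card ↥((S : Subgroup G) ⊓ centralizer ({w} : Set G)))
    (he : e ∈ T) (he2 : orderOf e = 2) (hez : e ≠ zz k c) (hwe : w * e = e * w) :
    (IsConj (zz k c) e ↔ ¬ IsConj (zz k c) (w * e)) := by
  obtain ⟨ε, δ, -, -, -, -, -, hc⟩ := ext_out h hw hwT hcard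
  set y := c ^ (2 ^ (k - 2)) with hy
  have hzeven : (zz k c) ^ (δ * 2 ^ (k - 2)) = 1 := by
    obtain ⟨r, hr⟩ : 2 ∣ 2 ^ (k - 2) := dvd_pow_self 2 (by omega)
    rw [hr, show δ * (2 * r) = 2 * (δ * r) by ring, pow_mul, sq, z_sq h.dh, one_pow]
  have hwy : w * y * w⁻¹ = y := by
    have hcomm : Commute c (zz k c ^ δ) :=
      ((Commute.refl c).pow_right (2 ^ (k - 1))).pow_right δ
    rw [hy, ← conj_pow, hc, hcomm.mul_pow, ← pow_mul, hzeven, mul_one]
  have hyy : y * y = zz k c := by
    rw [hy, ← pow_add, ← two_mul, ← pow_succ',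
      show k - 2 + 1 = k - 1 from by omega]
  have hyX : y ∈ (S : Subgroup G) ⊓ centralizer ({w} : Set G) :=
    ⟨h.le (pow_mem (c_mem h.dh) _), mem_centralizer_singleton_iff.mpr (commute_of_conj hwy).symm⟩
  obtain ⟨Dw, cw, bw, hd⟩ := dh_at hyp h.dh S hwconj hcard hyX (by rw [hyy]; exact z_ne_one h.dh)
  have hz' : zz k cw = zz k c := (sq_eq_z hd hyX hyy (orderOf_z h.dh)).symm
  have hwz : IsConj t (w * zz k c) := by
    refine hwconj.trans (isConj_iff.mpr ⟨t, ?_⟩)
    have hmove := t_move h hw hwT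
    have h1 : w * t = t * zz k c * w := mul_inv_eq_iff_eq_mul.mp hmove
    calc t * w * t⁻¹ = t * (w * t) := by
          rw [inv_eq_of_mul_eq_one_right (tt h.dh.loc), mul_assoc]
      _ = (t * t) * (zz k c * w) := by rw [h1]; group
      _ = w * zz k c := by
          rw [tt h.dh.loc, one_mul, commute_of_conj (z_fix h hw)]
  have hznot : ∀ {y : G}, IsConj (zz k c) y → ¬ IsConj t y := fun hy ht =>
    z_not_conj h (ht.trans hy.symm)
  have heX : e ∈ (S : Subgroup G) ⊓ centralizer ({w} : Set G) :=
    ⟨h.le he, mem_centralizer_singleton_iff.mpr hwe.symm⟩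
  rcases hd.loc.cover e heX with hD | hD
  · obtain ⟨g, hgw, hg⟩ := hd.loc.inv_conj _ (z_mem hd) e hD (orderOf_z hd) he2
    rw [hz'] at hg
    refine ⟨fun _ hcon => hznot hcon ?_, fun _ => isConj_iff.mpr ⟨g, hg⟩⟩
    exact hwz.trans (isConj_iff.mpr ⟨g, by rw [← conj_mul, hgw, hg]⟩)
  · have hw2 : w * w = 1 := mul_self_eq_one hd.loc.orderOf_t
    have h1 : w * e ≠ 1 := fun e' => by
      have hwi : e = w⁻¹ := eq_inv_of_mul_eq_one_right e'
      apply hwT
      rw [← inv_inv w, ← hwi]
      exact inv_mem he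
    have hor : orderOf (w * e) = 2 := orderOf_eq_prime (by
      rw [sq, show w * e * (w * e) = w * (e * w) * e by group, ← hwe,
        show w * (w * e) * e = (w * w) * (e * e) by group, hw2, mul_self_eq_one he2, one_mul]) h1
    obtain ⟨g, hgw, hg⟩ := hd.loc.inv_conj _ (z_mem hd) _ hD (orderOf_z hd) hor
    rw [hz'] at hg
    have he' : IsConj t e := hwz.trans (isConj_iff.mpr ⟨g, by
      rw [← conj_mul, hgw, hg, ← mul_assoc, hw2, one_mul]⟩)
    exact ⟨fun hcon => absurd he' (hznot hcon),
      fun hn => absurd (isConj_iff.mpr ⟨g, hg⟩) hn⟩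

/-- The Sylow subgroup is not twice as large as `T`. -/
theorem dih_small [IsSimpleGroup G] (hG : ¬ IsMulCommutative G) (hyp : LocHyp t) {S : Sylow 2 G}
    (h : Half S t T D k c b) : False := by
  classical
  haveI : Fact (Nat.Prime 2) := ⟨Nat.prime_two⟩
  have ht2 := h.dh.loc.orderOf_t
  have htS : t ∈ (S : Subgroup G) := h.le h.dh.loc.t_mem
  have hcS : c ∈ (S : Subgroup G) := h.le (c_mem h.dh)
  have htC : t ∉ zpowers c := fun e => h.dh.loc.t_notMem
    ((zpowers_le.mpr h.dh.dih.gen.c_mem) e)
  have hCsq : ∀ y ∈ T, y * y ∈ zpowers c := fun y hy => by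
    obtain ⟨i, hi⟩ := sq_T h.dh hy; rw [hi]; exact ⟨_, rfl⟩
  have zC : zz k c ∈ zpowers c := npow_mem_zpowers c _
  have finish : ∀ R : Subgroup G, R ≤ (S : Subgroup G) → (∀ s ∈ (S : Subgroup G), s * s ∈ R) →
      t ∉ R → zpowers c ≤ R →
      (∀ M : Subgroup G, R ≤ M → t ∉ M → ∀ u, u ∈ M → u ∈ (S : Subgroup G) → u ∉ T → IsConj t u →
        Nat.card T ≤ Nat.card ↥((S : Subgroup G) ⊓ centralizer ({u} : Set G)) → False) → False := by
    intro R hR hsq htR hCR hout
    obtain ⟨M, hRM, hMS, hidx, htM⟩ := exists_index_two _ R hR hsq htS htR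
    obtain ⟨g, hgM, hg⟩ := JTTransfer62.exists_extremal hG S hMS hidx ht2 htM h.dh.loc.pT
      h.dh.loc.t_mem h.dh.loc.comm
    have hconj : IsConj t (g⁻¹ * t * g) := isConj_iff.mpr ⟨g⁻¹, by rw [inv_inv]⟩
    by_cases huT : g⁻¹ * t * g ∈ T
    · rcases ext_in_T h huT hconj hg with e | e <;> rw [e] at hgM
      · exact htM hgM
      · apply htM
        have := mul_mem hgM (inv_mem (hRM (hCR zC)))
        rwa [mul_inv_cancel_right] at this
    · exact hout M hRM htM _ hgM (hMS hgM) huT hconj hg
  by_cases hB : ∃ u ∈ (S : Subgroup G), u ∉ T ∧ IsConj t u ∧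
      Nat.card T ≤ Nat.card ↥((S : Subgroup G) ⊓ centralizer ({u} : Set G))
  · obtain ⟨u, hu, huT, huconj, hucard⟩ := hB
    obtain ⟨ε, δ, hε, hδ, he, -, hub, huc⟩ := ext_out h hu huT hucard
    have hu2 : u * u = 1 := by
      obtain ⟨g, hg⟩ := isConj_iff.mp huconj
      exact mul_self_eq_one (by rw [← hg, orderOf_conj_eq]; exact ht2)
    have hui : u⁻¹ = u := inv_eq_of_mul_eq_one_right hu2
    have hk : 3 ≤ k := by
      by_contra hlt
      have hk2 : k = 2 := by have := h.dh.dih.two_le; omega
      refine no_fix_k2 h hk2 hu huT 0 ?_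
      rw [zpow_zero, mul_one]
      interval_cases ε
      · exact Or.inl (by simpa using hub)
      · exact Or.inr (by simpa using hub)
    have hut : u * t * u⁻¹ = t * zz k c := t_move h hu huT
    have hzu : u * zz k c * u⁻¹ = zz k c := z_fix h hu
    have huci : ∀ i : ℤ, u * c ^ i * u⁻¹ = c ^ i * (zz k c ^ δ) ^ i := fun i => by
      have hcomm : Commute c (zz k c ^ δ) :=
        ((Commute.refl c).pow_right (2 ^ (k - 1))).pow_right δ
      rw [← conj_zpow, huc, hcomm.mul_zpow]
    have hux : ∀ y ∈ T, ∃ a : ℤ, u * y * u⁻¹ = y * c ^ a := by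
      intro y hy
      have hzz : ∀ (n : ℕ) (i : ℤ), ∃ a : ℤ, (zz k c ^ n) ^ i = c ^ a := fun n i =>
        ⟨((2 ^ (k - 1) * n : ℕ) : ℤ) * i, by rw [← pow_mul, zpow_mul, zpow_natCast]⟩
      have hci : ∀ i : ℤ, ∃ a : ℤ, u * c ^ i * u⁻¹ = c ^ i * c ^ a := fun i => by
        obtain ⟨a, ha⟩ := hzz δ i; exact ⟨a, by rw [huci, ha]⟩
      rcases mem_T h.dh hy with ⟨i, rfl⟩ | ⟨i, rfl⟩ | ⟨i, rfl⟩ | ⟨i, rfl⟩
      · exact hci i
      · obtain ⟨a, ha⟩ := hci i
        obtain ⟨a', ha'⟩ := hzz ε 1
        rw [zpow_one] at ha'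
        refine ⟨a' + a, ?_⟩
        rw [← conj_mul, hub, ha, ha']; group
      · obtain ⟨a, ha⟩ := hci i
        refine ⟨(2 : ℤ) ^ (k - 1) + a, ?_⟩
        rw [← conj_mul, hut, ha, z_eq h.dh]; group
      · obtain ⟨a, ha⟩ := hci i
        obtain ⟨a', ha'⟩ := hzz ε 1
        rw [zpow_one] at ha'
        refine ⟨(-1) ^ 1 * 0 + ((2 : ℤ) ^ (k - 1) + (a' + a)), ?_⟩
        have hcb : u * (b * c ^ i) * u⁻¹ = b * c ^ i * c ^ (a' + a) := by
          rw [← conj_mul, hub, ha, ha']; group
        rw [← conj_mul, hut, hcb, mul_assoc t (zz k c), ← mul_assoc (zz k c),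
          ← z_central h.dh (h.dh.loc.D_le (bc_mem h.dh i)), z_eq h.dh]
        group
    set x := t * u with hx
    have hxn : ∀ i : ℤ, x * c ^ i * x⁻¹ ∈ zpowers c := fun i => by
      rw [hx, conj_comp, huci, ← conj_mul, t_conj h.dh.loc (zpow_mem (c_mem h.dh) i),
        t_conj h.dh.loc (zpow_mem (pow_mem (h.dh.loc.D_le (z_mem h.dh)) δ) i)]
      exact mul_mem ⟨i, rfl⟩ (zpow_mem (pow_mem zC δ) i)
    have hxx : x * x ∈ zpowers c := by
      have : x * x = zz k c := by
        calc x * x = t * (u * t * u) := by rw [hx]; group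
          _ = (t * t) * zz k c := by nth_rw 2 [← hui]; rw [hut]; group
          _ = zz k c := by rw [tt h.dh.loc, one_mul]
      rw [this]; exact zC
    refine finish (twoCosets c x hxn hxx) (twoCosets_le hcS (mul_mem htS hu)) ?_ ?_
      (fun y hy => Or.inl hy) ?_
    · intro s hs
      left
      by_cases hsT : s ∈ T
      · exact hCsq s hsT
      · set y := u * s with hy
        have hyT : y ∈ T := (mul_out h hu hs).mpr (iff_of_false huT hsT)
        obtain ⟨a, ha⟩ := hux y hyT
        have hs' : s = u * y := by rw [hy, ← mul_assoc, hu2, one_mul]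
        have : s * s = (y * c ^ a * y⁻¹) * (y * y) := by
          rw [hs', show u * y * (u * y) = (u * y * u) * y by group]
          nth_rw 2 [← hui]
          rw [ha]; group
        rw [this]
        refine mul_mem ?_ (hCsq y hyT)
        rcases mem_T h.dh hyT with ⟨i, e⟩ | ⟨i, e⟩ | ⟨i, e⟩ | ⟨i, e⟩ <;> rw [e]
        · exact ⟨a, by group⟩
        · rw [bc_conj_c h.dh]; exact ⟨-a, rfl⟩
        · rw [conj_comp, show c ^ i * c ^ a * (c ^ i)⁻¹ = c ^ a by group,
            t_conj h.dh.loc (zpow_mem (c_mem h.dh) a)]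
          exact ⟨a, rfl⟩
        · rw [conj_comp, bc_conj_c h.dh, t_conj h.dh.loc (zpow_mem (c_mem h.dh) _)]
          exact ⟨-a, rfl⟩
    · rintro (e | e)
      · exact htC e
      · apply huT
        have e' : x⁻¹ * t ∈ T := h.dh.loc.D_le ((zpowers_le.mpr h.dh.dih.gen.c_mem) e)
        rw [hx, mul_inv_rev, mul_assoc, inv_mul_cancel, mul_one, hui] at e'
        exact e'
    · intro M hRM htM v hvM hvS hvT hvconj hvcard
      obtain ⟨ε', δ', hε', -, hv1, -, hvb, hvc⟩ := ext_out h hvS hvT hvcard
      have hyT : u * v ∈ T := (mul_out h hu hvS).mpr (iff_of_false huT hvT)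
      have hvy : v = u * (u * v) := by rw [← mul_assoc, hu2, one_mul]
      have hxM : x ∈ M := hRM (Or.inr (by rw [inv_mul_cancel]; exact one_mem _))
      have hcM : ∀ i : ℤ, c ^ i ∈ M := fun i => hRM (Or.inl ⟨i, rfl⟩)
      have hflip : ∀ y : G, y * c * y⁻¹ = c⁻¹ → v = u * y → False := by
        intro y hy hv
        rw [hv, conj_comp, hy, ← conj_inv, huc] at hvc
        have hzzi : ∀ n : ℕ, (zz k c ^ n)⁻¹ = zz k c ^ n := fun n => by
          rw [← inv_pow, z_inv h.dh]
        have hcz : Commute c (zz k c) := (Commute.refl c).pow_right _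
        rw [mul_inv_rev, hzzi] at hvc
        have h2 : c ^ (2 : ℤ) = zz k c ^ δ * zz k c ^ δ' := by
          have hc1 : c⁻¹ * zz k c ^ δ = c * zz k c ^ δ' := by
            rw [(hcz.inv_left.pow_right δ).eq]; exact hvc
          calc c ^ (2 : ℤ) = c * (c * zz k c ^ δ') * (zz k c ^ δ')⁻¹ := by group
            _ = zz k c ^ δ * (zz k c ^ δ')⁻¹ := by rw [← hc1]; group
            _ = _ := by rw [hzzi]
        rw [← pow_add, ← pow_mul, ← zpow_natCast c, cpow_iff h.dh] at h2
        push_cast at h2
        rw [two_pow_k h.dh] at h2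
        obtain ⟨r, hr⟩ := h2
        obtain ⟨q, hq⟩ : ∃ q : ℤ, (2 : ℤ) ^ (k - 1) = 4 * q :=
          ⟨2 ^ (k - 3), by rw [show k - 1 = k - 3 + 2 by omega, pow_add]; ring⟩
        rw [hq] at hr
        have h4 : (4 : ℤ) ∣ 2 := ⟨2 * q * r + q * (δ + δ'), by linarith [hr]⟩
        norm_num at h4
      have hfl : ∀ i : ℤ, (b * c ^ i) * c * (b * c ^ i)⁻¹ = c⁻¹ := fun i => by
        have := bc_conj_c h.dh i 1; rwa [zpow_one, zpow_neg, zpow_one] at this
      rcases mem_T h.dh hyT with ⟨i, hi⟩ | ⟨i, hi⟩ | ⟨i, hi⟩ | ⟨i, hi⟩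
      · rw [hi] at hvy
        apply htM
        have huM : u ∈ M := by
          have := mul_mem hvM (inv_mem (hcM i))
          rwa [hvy, mul_inv_cancel_right] at this
        have := mul_mem hxM (inv_mem huM)
        rwa [hx, mul_inv_cancel_right] at this
      · exact hflip _ (hfl i) (hi ▸ hvy)
      · rw [hi] at hvy
        -- `v = u t c^i`
        have hv2 : v * v = 1 := by
          obtain ⟨g, hg⟩ := isConj_iff.mp hvconj
          exact mul_self_eq_one (by rw [← hg, orderOf_conj_eq]; exact ht2)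
        have hexp : v * v = zz k c * (zz k c ^ δ) ^ i * c ^ (2 * i) := by
          calc v * v = (u * t * u⁻¹) * (u * c ^ i * u⁻¹) * (u * u) * (t * c ^ i) := by
                rw [hvy]; group
            _ = t * (zz k c * (c ^ i * (zz k c ^ δ) ^ i)) * t⁻¹ * (t * t) * c ^ i := by
                rw [hut, huci, hu2]; group
            _ = zz k c * (c ^ i * (zz k c ^ δ) ^ i) * c ^ i := by
                rw [t_conj h.dh.loc (mul_mem (h.dh.loc.D_le (z_mem h.dh)) (mul_mem
                  (zpow_mem (c_mem h.dh) i)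
                  (zpow_mem (pow_mem (h.dh.loc.D_le (z_mem h.dh)) δ) i))), tt h.dh.loc, mul_one]
            _ = _ := by
                have hcz : Commute (c ^ i) ((zz k c ^ δ) ^ i) :=
                  (((Commute.refl c).pow_right (2 ^ (k - 1))).pow_right δ).zpow_zpow i i
                rw [hcz.eq, two_mul, zpow_add]; group
        rw [hexp] at hv2
        obtain ⟨i', rfl⟩ : ∃ i', i = 2 * i' := by
          rcases Int.even_or_odd' i with ⟨r, rfl | rfl⟩
          · exact ⟨r, rfl⟩
          · exfalso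
            rw [← pow_mul, ← zpow_natCast c, z_eq h.dh, ← zpow_mul, ← zpow_add, ← zpow_add,
              cpow_one_iff h.dh, two_pow_k h.dh] at hv2
            push_cast at hv2
            obtain ⟨a, ha⟩ := hv2
            obtain ⟨q, hq⟩ : ∃ q : ℤ, (2 : ℤ) ^ (k - 1) = 4 * q :=
              ⟨2 ^ (k - 3), by rw [show k - 1 = k - 3 + 2 by omega, pow_add]; ring⟩
            rw [hq] at ha
            have h4 : (4 : ℤ) ∣ 2 :=
              ⟨2 * q * a - q - q * δ * (2 * r + 1) - r, by linarith [ha]⟩
            norm_num at h4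
        have hzpar : ∀ r : ℤ, (zz k c ^ δ) ^ (2 * r) = 1 := fun r => by
          rw [zpow_mul, show ((zz k c ^ δ) ^ (2 : ℤ)) = 1 by
            rw [zpow_two, ← mul_pow_z h.dh δ], one_zpow]
        rw [hzpar, mul_one] at hv2
        have hc4 : c ^ (2 * (2 * i')) = zz k c := by
          rw [eq_inv_of_mul_eq_one_right hv2, z_inv h.dh]
        have hc4' : c ^ (-(2 * (2 * i'))) = zz k c := by rw [zpow_neg, hc4, z_inv h.dh]
        have hvb2 : v * b * v⁻¹ = b * zz k c ^ (ε + 1) := by
          have hcb : t * c ^ (2 * i') * b * (t * c ^ (2 * i'))⁻¹ = b * zz k c := by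
            have := c_conj_bc h.dh 0 (2 * i')
            rw [zpow_zero, mul_one, zero_sub, hc4'] at this
            rw [conj_comp, this,
              t_conj h.dh.loc (mul_mem (b_mem h.dh) (h.dh.loc.D_le (z_mem h.dh)))]
          rw [hvy, conj_comp, hcb, ← conj_mul, hub, hzu, pow_succ, mul_assoc]
        have hεε : ε' + ε = 1 := by
          rw [hvb] at hvb2
          have h1 := mul_left_cancel hvb2
          interval_cases ε <;> interval_cases ε'
          · exact absurd (by simpa using h1.symm) (z_ne_one h.dh)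
          · rfl
          · rfl
          · rw [pow_one, pow_two, z_sq h.dh] at h1
            exact absurd h1 (z_ne_one h.dh)
        have hbo : orderOf b = 2 := by simpa using orderOf_bc h.dh 0
        have hbz : b ≠ zz k c := fun e => bc_ne_cpow h.dh 0 ((2 : ℤ) ^ (k - 1))
          (by rw [zpow_zero, mul_one, ← z_eq h.dh]; exact e)
        have htbo : orderOf (t * b) = 2 := by
          refine orderOf_eq_prime (by rw [sq, tx_sq h.dh (b_mem h.dh), h.dh.dih.gen.b_sq]) ?_
          intro e
          refine h.dh.loc.t_notMem ?_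
          rw [eq_inv_of_mul_eq_one_left e]
          exact inv_mem h.dh.dih.gen.b_mem
        have htbz : t * b ≠ zz k c := fun e => h.dh.loc.t_notMem (by
          have : t = zz k c * b⁻¹ := by rw [← e]; group
          rw [this]; exact mul_mem (z_mem h.dh) (inv_mem h.dh.dih.gen.b_mem))
        have he2 : ∀ n ≤ 1, orderOf (t ^ n * b) = 2 ∧ t ^ n * b ≠ zz k c := fun n hn => by
          interval_cases n
          · simpa using And.intro hbo hbz
          · simpa using And.intro htbo htbz
        have hTe : ∀ n : ℕ, t ^ n * b ∈ T :=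
          fun n => mul_mem (pow_mem h.dh.loc.t_mem n) (b_mem h.dh)
        have tu := types hyp h hk hu huT huconj hucard (hTe ε) (he2 ε hε).1 (he2 ε hε).2 he
        have tv := types hyp h hk hvS hvT hvconj hvcard (hTe ε') (he2 ε' hε').1 (he2 ε' hε').2 hv1
        have hsame : IsConj (u * (t ^ ε * b)) (v * (t ^ ε' * b)) := by
          have hte : t * t ^ ε' = t ^ ε := by
            interval_cases ε
            · obtain rfl : ε' = 1 := by omega
              rw [pow_one, pow_zero, tt h.dh.loc]
            · obtain rfl : ε' = 0 := by omega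
              simp
          have hce : c ^ (2 * i') * (t ^ ε' * b) = t ^ ε' * b * c ^ (-(2 * i')) := by
            have hct : Commute (c ^ (2 * i')) (t ^ ε') :=
              Commute.pow_right (h.dh.loc.comm _ (zpow_mem (c_mem h.dh) _)) ε'
            rw [← mul_assoc, hct.eq, mul_assoc, mul_assoc, b_swap h.dh, neg_neg]
          have ev : v * (t ^ ε' * b) = u * (t ^ ε * b) * c ^ (-(2 * i')) := by
            calc v * (t ^ ε' * b) = u * t * (c ^ (2 * i') * (t ^ ε' * b)) := by rw [hvy]; group
              _ = u * (t * t ^ ε' * b) * c ^ (-(2 * i')) := by rw [hce]; group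
              _ = _ := by rw [hte]
          have hcu : c ^ i' * u * (c ^ i')⁻¹ = (zz k c ^ δ) ^ (-i') * u := by
            have e1 : u * c ^ (-i') * u⁻¹ = c ^ (-i') * (zz k c ^ δ) ^ (-i') := huci _
            calc c ^ i' * u * (c ^ i')⁻¹ = c ^ i' * (u * c ^ (-i') * u⁻¹) * u := by group
              _ = _ := by rw [e1]; group
          have hce2 : c ^ i' * (t ^ ε * b) * (c ^ i')⁻¹ = t ^ ε * b * c ^ (-(2 * i')) := by
            have := c_conj_bc h.dh 0 i'
            rw [zpow_zero, mul_one, zero_sub] at this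
            rw [← conj_mul, this, mul_assoc (t ^ ε)]
            congr 1
            exact conj_of_commute
              (Commute.pow_right (h.dh.loc.comm _ (zpow_mem (c_mem h.dh) i')) ε)
          have e3 : c ^ i' * (u * (t ^ ε * b)) * (c ^ i')⁻¹ =
              (zz k c ^ δ) ^ (-i') * (v * (t ^ ε' * b)) := by
            rw [← conj_mul, hcu, hce2, ev]; group
          have hzcase : (zz k c ^ δ) ^ (-i') = 1 ∨ (zz k c ^ δ) ^ (-i') = zz k c := by
            rcases Int.even_or_odd' (-i') with ⟨r, hr | hr⟩ <;> rw [hr]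
            · exact Or.inl (hzpar r)
            · rw [zpow_add, hzpar, one_mul, zpow_one]
              interval_cases δ
              · simp
              · simp
          rcases hzcase with e | e <;> rw [e] at e3
          · rw [one_mul] at e3
            exact isConj_iff.mpr ⟨_, e3⟩
          · refine (isConj_iff.mpr ⟨_, e3⟩).trans ?_
            refine IsConj.trans ?_ (IsConj.refl _)
            -- conjugate by `t` to remove `z`
            apply IsConj.symm
            refine isConj_iff.mpr ⟨t, ?_⟩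
            have hmv : t * v * t⁻¹ = zz k c * v := by
              have h1 : v * t = t * zz k c * v := mul_inv_eq_iff_eq_mul.mp (t_move h hvS hvT)
              calc t * v * t⁻¹ = t * (v * t) := by
                    rw [inv_eq_of_mul_eq_one_right (tt h.dh.loc), mul_assoc]
                _ = (t * t) * (zz k c * v) := by rw [h1]; group
                _ = _ := by rw [tt h.dh.loc, one_mul]
            rw [← conj_mul, hmv, t_conj h.dh.loc (hTe ε'), mul_assoc]
        have hbz' : IsConj (zz k c) b := by simpa using isConj_bc h.dh 0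
        have htb' : ¬ IsConj (zz k c) (t * b) := fun e => z_not_conj h
          ((by simpa using conj_tbc h 0 : IsConj t (t * b)).trans e.symm)
        interval_cases ε
        · obtain rfl : ε' = 1 := by omega
          rw [pow_zero, one_mul] at tu hsame
          rw [pow_one] at tv hsame
          have h1 := tu.mp hbz'
          have h2 : IsConj (zz k c) (v * (t * b)) := by
            by_contra h3; exact htb' (tv.mpr h3)
          exact h1 (h2.trans hsame.symm)
        · obtain rfl : ε' = 0 := by omega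
          rw [pow_zero, one_mul] at tv hsame
          rw [pow_one] at tu hsame
          have h1 := tv.mp hbz'
          have h2 : IsConj (zz k c) (u * (t * b)) := by
            by_contra h3; exact htb' (tu.mpr h3)
          exact h1 (h2.trans hsame)
      · refine hflip (t * (b * c ^ i)) ?_ (hi ▸ hvy)
        rw [conj_comp, hfl, t_conj h.dh.loc (inv_mem (c_mem h.dh))]
  · push Not at hB
    obtain ⟨s, hs, hsT, l, a, hsb, hsc⟩ : ∃ s ∈ (S : Subgroup G), s ∉ T ∧ ∃ l a : ℤ,
        s * b * s⁻¹ = b * c ^ l ∧ ∀ i : ℤ, s * c ^ i * s⁻¹ = c ^ ((4 * a + 1) * i) := by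
      obtain ⟨s, hs, hsT⟩ := exists_out h
      obtain ⟨l, κ, h1, hodd, h2⟩ := action h hs
      rcases Int.even_or_odd' ((κ - 1) / 2) with ⟨a, ha | ha⟩
      · exact ⟨s, hs, hsT, l, a, h1, fun i => by
          rw [h2, show κ = 4 * a + 1 by obtain ⟨r, hr⟩ := hodd; omega]⟩
      · refine ⟨s * b, mul_mem hs (h.le (b_mem h.dh)), fun e => hsT ?_, l, -a - 1, ?_, fun i => ?_⟩
        · simpa using mul_mem e (inv_mem (b_mem h.dh))
        · rw [conj_comp, mul_inv_cancel_right, h1]
        · rw [conj_comp, b_conj h.dh, h2]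
          congr 1
          obtain ⟨r, hr⟩ := hodd
          rw [show κ = 4 * a + 3 by omega]; ring
    set x := s * s with hx
    have hxT : x ∈ T := (mul_out h hs hs).mpr Iff.rfl
    have hxn : ∀ i : ℤ, x * c ^ i * x⁻¹ ∈ zpowers c := fun i => by
      rw [hx, conj_comp, hsc, hsc]; exact ⟨_, rfl⟩
    have hxx : x * x ∈ zpowers c := hCsq x hxT
    have hsS2 : ∀ y ∈ T, x⁻¹ * (s * y * (s * y)) ∈ zpowers c := by
      intro y hy
      obtain ⟨l₁, κ₁, hb1, -, hc1⟩ := action h (inv_mem hs)
      have ht1 := t_move h (inv_mem hs) (fun e => hsT (by simpa using inv_mem e))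
      rw [inv_inv] at hb1 ht1
      have hc1' : ∀ i : ℤ, s⁻¹ * c ^ i * s = c ^ (κ₁ * i) := fun i => by
        have := hc1 i; rwa [inv_inv] at this
      rw [hx, show (s * s)⁻¹ * (s * y * (s * y)) = (s⁻¹ * y * s) * y by group]
      have hsq : ∀ j i : ℤ, b * c ^ j * (b * c ^ i) = c ^ (i - j) := fun j i => by
        calc b * c ^ j * (b * c ^ i) = (b * c ^ j) * b * c ^ i := by group
          _ = c ^ (-j) * (b * b) * c ^ i := by rw [b_swap h.dh j]; group
          _ = _ := by rw [h.dh.dih.gen.b_sq, mul_one, ← zpow_add]; congr 1; ring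
      rcases mem_T h.dh hy with ⟨i, rfl⟩ | ⟨i, rfl⟩ | ⟨i, rfl⟩ | ⟨i, rfl⟩
      · rw [hc1', ← zpow_add]; exact ⟨_, rfl⟩
      · rw [show s⁻¹ * (b * c ^ i) * s = (s⁻¹ * b * s) * (s⁻¹ * c ^ i * s) by group, hb1, hc1',
          mul_assoc b, ← zpow_add, hsq]
        exact ⟨_, rfl⟩
      · rw [show s⁻¹ * (t * c ^ i) * s = (s⁻¹ * t * s) * (s⁻¹ * c ^ i * s) by group, ht1, hc1',
          z_eq h.dh, mul_assoc t, ← zpow_add,
          show t * c ^ ((2 : ℤ) ^ (k - 1) + κ₁ * i) * (t * c ^ i) =
            t * c ^ ((2 : ℤ) ^ (k - 1) + κ₁ * i) * t⁻¹ * (t * t) * c ^ i by group,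
          t_conj h.dh.loc (zpow_mem (c_mem h.dh) _), tt h.dh.loc, mul_one, ← zpow_add]
        exact ⟨_, rfl⟩
      · have e2 : s⁻¹ * (b * c ^ i) * s = b * c ^ (l₁ + κ₁ * i) := by
          rw [show s⁻¹ * (b * c ^ i) * s = (s⁻¹ * b * s) * (s⁻¹ * c ^ i * s) by group, hb1, hc1',
            mul_assoc b, ← zpow_add]
        have hzm : zz k c * (b * c ^ (l₁ + κ₁ * i)) ∈ T :=
          mul_mem (h.dh.loc.D_le (z_mem h.dh)) (h.dh.loc.D_le (bc_mem h.dh _))
        rw [show s⁻¹ * (t * (b * c ^ i)) * s = (s⁻¹ * t * s) * (s⁻¹ * (b * c ^ i) * s) by group,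
          ht1, e2, show t * zz k c * (b * c ^ (l₁ + κ₁ * i)) * (t * (b * c ^ i)) =
            t * (zz k c * (b * c ^ (l₁ + κ₁ * i))) * t⁻¹ * (t * t) * (b * c ^ i) by group,
          t_conj h.dh.loc hzm, tt h.dh.loc, mul_one, mul_assoc, hsq]
        exact mul_mem zC ⟨_, rfl⟩
    by_cases htR : x⁻¹ * t ∈ zpowers c
    · -- the exotic case
      obtain ⟨j₀, hj₀⟩ := htR
      obtain ⟨j, hj⟩ : ∃ j : ℤ, x = t * c ^ j := ⟨-j₀, by
        have : x = t * (c ^ j₀)⁻¹ := by
          rw [show c ^ j₀ = x⁻¹ * t from hj₀]; group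
        rw [this, zpow_neg]⟩
      set M := (2 : ℤ) ^ (k - 1) with hM
      have hst := t_move h hs hsT
      have e1 : 2 * M ∣ M + (4 * a + 1) * j - j := by
        rw [← two_pow_k h.dh, ← cpow_iff h.dh, zpow_add, ← z_eq h.dh]
        apply mul_left_cancel (a := t)
        have h1 : s * x * s⁻¹ = x := by rw [hx]; group
        rwa [hj, ← conj_mul, hst, hsc, mul_assoc] at h1
      have hcc : ∀ i : ℤ, x * c ^ i * x⁻¹ = c ^ i := fun i => by
        rw [hj, conj_comp, show c ^ j * c ^ i * (c ^ j)⁻¹ = c ^ i by group,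
          t_conj h.dh.loc (zpow_mem (c_mem h.dh) i)]
      have e3 : 2 * M ∣ (4 * a + 1) * (4 * a + 1) - 1 := by
        rw [← two_pow_k h.dh, ← cpow_iff h.dh, zpow_one]
        have h1 := hcc 1
        rwa [hx, conj_comp, hsc, hsc, mul_one, zpow_one] at h1
      have e2 : 2 * M ∣ l + (4 * a + 1) * l - (-(2 * j)) := by
        rw [← two_pow_k h.dh, ← cpow_iff h.dh]
        have h1 : x * b * x⁻¹ = b * c ^ (-(2 * j)) := by
          have := c_conj_bc h.dh 0 j
          rw [zpow_zero, mul_one, zero_sub] at this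
          rw [hj, conj_comp, this,
            t_conj h.dh.loc (mul_mem (b_mem h.dh) (zpow_mem (c_mem h.dh) _))]
        rw [hx, conj_comp, hsb, ← conj_mul, hsb, hsc, mul_assoc, ← zpow_add] at h1
        exact mul_left_cancel h1
      have hk3 : 3 ≤ k := by
        by_contra hlt
        have hk2 : k = 2 := by have := h.dh.dih.two_le; omega
        obtain ⟨r, hr⟩ := e1
        rw [hM, hk2] at hr
        have h4 : (4 : ℤ) ∣ 2 := ⟨r - a * j, by norm_num at hr; linarith⟩
        norm_num at h4
      obtain ⟨M', hM'⟩ : ∃ M', M = 2 * M' :=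
        ⟨2 ^ (k - 2), by rw [hM, show k - 1 = k - 2 + 1 by omega, pow_succ']⟩
      have hjodd : ¬ (2 : ℤ) ∣ j := by
        intro h2j
        obtain ⟨q, hq⟩ := e3
        have h3 : M ∣ 4 * a * (2 * a + 1) := ⟨q, by linarith⟩
        have hcop : IsCoprime M (2 * a + 1) := by
          rw [hM]
          exact IsCoprime.pow_left ⟨-a, 1, by ring⟩
        obtain ⟨a', ha'⟩ := hcop.dvd_of_dvd_mul_right h3
        obtain ⟨r, hr⟩ := e1
        obtain ⟨j', rfl⟩ := h2j
        have h5 : M * (1 + 2 * a' * j' - 2 * r) = 0 := by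
          have e4 : 4 * a * (2 * j') = M * a' * (2 * j') := by rw [ha']
          linarith
        have hMpos : (0 : ℤ) < M := by rw [hM]; positivity
        rcases mul_eq_zero.mp h5 with h6 | h6
        · omega
        · have : (2 : ℤ) ∣ 1 := ⟨r - a' * j', by linarith⟩
          norm_num at this
      have hnat : 2 ^ k = 2 * 2 ^ (k - 1) := by
        conv_lhs => rw [show k = (k - 1) + 1 by omega]
        rw [pow_succ']
      have hxM : x ^ (2 ^ (k - 1)) = zz k c := by
        have hct : Commute t (c ^ j) := (h.dh.loc.comm _ (zpow_mem (c_mem h.dh) j)).symm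
        obtain ⟨r, hr⟩ : 2 ∣ 2 ^ (k - 1) := dvd_pow_self 2 (by omega)
        rw [hj, hct.mul_pow, show t ^ (2 ^ (k - 1)) = 1 by
          rw [hr, pow_mul, sq, tt h.dh.loc, one_pow], one_mul, z_eq h.dh, ← zpow_natCast,
          ← zpow_mul, cpow_iff h.dh, two_pow_k h.dh]
        push_cast
        obtain ⟨q, hq⟩ : ∃ q, j = 2 * q + 1 :=
          ⟨j / 2, by have := Int.emod_two_eq_zero_or_one j; omega⟩
        exact ⟨q, by rw [hq]; ring⟩
      haveI hTn : (T.subgroupOf (S : Subgroup G)).Normal := normal_of_index_eq_two (idx h)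
      haveI : IsCyclic (↥(S : Subgroup G) ⧸ T.subgroupOf (S : Subgroup G)) :=
        isCyclic_of_prime_card (p := 2) (idx h)
      letI : CommGroup (↥(S : Subgroup G) ⧸ T.subgroupOf (S : Subgroup G)) := IsCyclic.commGroup
      let ϕ := QuotientGroup.mk' (T.subgroupOf (S : Subgroup G))
      have sq2 : ∀ z : ↥(S : Subgroup G) ⧸ T.subgroupOf (S : Subgroup G), z ^ 2 = 1 := fun z => by
        have hc : Nat.card (↥(S : Subgroup G) ⧸ T.subgroupOf (S : Subgroup G)) = 2 := idx h
        have h1 := orderOf_dvd_natCard z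
        rw [hc] at h1
        exact orderOf_dvd_iff_pow_eq_one.mp h1
      have hout : ∀ (y : G) (hy : y ∈ (S : Subgroup G)), y ∉ T →
          ϕ ⟨y, hy⟩ = ϕ ⟨s, hs⟩ := fun y hy hyT => by
        refine QuotientGroup.eq.mpr ?_
        rw [mem_subgroupOf]
        exact (mul_out h (inv_mem hy) hs).mpr (iff_of_false (fun e => hyT (by simpa using inv_mem e)) hsT)
      obtain ⟨e, he⟩ : ∃ e, orderOf s = 2 ^ e := by
        obtain ⟨e, he⟩ := IsPGroup.iff_orderOf.mp S.isPGroup' ⟨s, hs⟩
        exact ⟨e, (Subgroup.orderOf_coe (⟨s, hs⟩ : (S : Subgroup G))).trans he⟩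
      obtain ⟨n, hn, htr⟩ := TransferThompson.transfer_eq_pow_fixed (p := 2) ϕ he (ϕ ⟨s, hs⟩) (by
          intro g n hn hmem
          obtain ⟨r, rfl⟩ := hn
          rw [QuotientGroup.mk'_apply, QuotientGroup.eq_one_iff, mem_subgroupOf]
          by_contra hwT
          set w := g⁻¹ * s ^ (2 * r) * g with hw
          set v := s ^ (2 * r) with hv
          have hw2T : w * w ∈ T := (mul_out h hmem hmem).mpr Iff.rfl
          have hw2 : ∃ E : ℤ, w * w = t * c ^ E := by
            obtain ⟨E, hE⟩ := hsS2 (s⁻¹ * w)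
              ((mul_out h (inv_mem hs) hmem).mpr
                (iff_of_false (fun e => hsT (by simpa using inv_mem e)) hwT))
            refine ⟨j + E, ?_⟩
            rw [mul_inv_cancel_left] at hE
            rw [show w * w = x * (x⁻¹ * (w * w)) by group, ← show c ^ E = x⁻¹ * (w * w) from hE, hj,
              mul_assoc, ← zpow_add]
          obtain ⟨E, hE⟩ := hw2
          have hw4 : w ^ 4 = c ^ (2 * E) := by
            rw [show w ^ 4 = (w * w) * (w * w) by rw [show (4 : ℕ) = 2 * 2 from rfl, pow_mul, sq, sq], hE, tx_sq h.dh (zpow_mem (c_mem h.dh) E),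
              ← zpow_add, two_mul]
          have hw4ne : c ^ (2 * E) ≠ 1 := by
            intro e0
            rw [two_mul, zpow_add] at e0
            have hfix : w * (w * w) * w⁻¹ = w * w := by group
            rw [hE] at hfix
            have hmv := t_move h hmem hwT
            rcases cpow_sq_one h.dh e0 with e4 | e4 <;> rw [e4] at hfix
            · rw [mul_one, hmv, mul_eq_left] at hfix
              exact z_ne_one h.dh hfix
            · rw [← conj_mul, hmv, z_fix h hmem, mul_assoc, mul_right_inj, z_sq h.dh] at hfix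
              exact z_ne_one h.dh hfix.symm
          obtain ⟨f, hf⟩ : ∃ f : ℕ, (c ^ (2 * E)) ^ f = zz k c := by
            obtain ⟨m, -, hm⟩ := (Nat.dvd_prime_pow Nat.prime_two).mp
              ((orderOf_dvd_of_mem_zpowers (⟨2 * E, rfl⟩ : c ^ (2 * E) ∈ zpowers c)).trans
                (dvd_of_eq h.dh.dih.ord))
            have hm0 : m ≠ 0 := fun e => hw4ne (orderOf_eq_one_iff.mp (by rw [hm, e, pow_zero]))
            refine ⟨2 ^ (m - 1), ?_⟩
            have hne : (c ^ (2 * E)) ^ (2 ^ (m - 1)) ≠ 1 := by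
              intro e1
              have h1 := orderOf_dvd_of_pow_eq_one e1
              rw [hm, Nat.pow_dvd_pow_iff_le_right (by norm_num)] at h1
              omega
            rw [← zpow_natCast, ← zpow_mul] at hne ⊢
            refine (cpow_sq_one h.dh ?_).resolve_left hne
            rw [zpow_mul, zpow_natCast, ← pow_add, ← two_mul, ← pow_succ',
              show m - 1 + 1 = m by omega, ← hm, pow_orderOf_eq_one]
          have hzw : w ^ (4 * f) = zz k c := by rw [pow_mul, hw4, hf]
          have hgw : g * w * g⁻¹ = v := by rw [hw]; group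
          have hvT : v ∈ T := by
            rw [hv, pow_mul, sq]; exact pow_mem hxT r
          have hv2C : v * v ∈ zpowers c := hCsq v hvT
          have hinvC : ∀ y ∈ zpowers c, orderOf y = 2 → y = zz k c := by
            rintro y ⟨i, rfl⟩ hy
            rcases cpow_sq_one h.dh (mul_self_eq_one hy) with e4 | e4
            · rw [show (fun z : ℤ => c ^ z) i = c ^ i from rfl] at hy
              rw [e4, orderOf_one] at hy; omega
            · exact e4
          have hzg : g * zz k c * g⁻¹ = zz k c := by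
            refine hinvC _ ?_ (by rw [orderOf_conj_eq]; exact orderOf_z h.dh)
            rw [← hzw, ← conj_pow, hgw, show 4 * f = 2 * (2 * f) by ring, pow_mul, sq]
            exact pow_mem hv2C _
          have hzv : v ^ (4 * f) = zz k c := by rw [← hgw, conj_pow, hzw, hzg]
          set h0 := g * t * g⁻¹ with hh0
          have hwt : t * w * t⁻¹ = w * zz k c := by
            have h1 : w * t = t * zz k c * w := mul_inv_eq_iff_eq_mul.mp (t_move h hmem hwT)
            calc t * w * t⁻¹ = t * (w * t) := by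
                  rw [inv_eq_of_mul_eq_one_right (tt h.dh.loc), mul_assoc]
              _ = (t * t) * (zz k c * w) := by rw [h1]; group
              _ = w * zz k c := by rw [tt h.dh.loc, one_mul, commute_of_conj (z_fix h hmem)]
          have hh0v : h0 * v * h0⁻¹ = v * zz k c := by
            rw [hh0, ← hgw, show g * t * g⁻¹ * (g * w * g⁻¹) * (g * t * g⁻¹)⁻¹ =
              g * (t * w * t⁻¹) * g⁻¹ by group, hwt, ← conj_mul, hzg]
          set N := normalizer ((zpowers v : Subgroup G) : Set G) with hN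
          have hh0N : h0 ∈ N := by
            refine JTPsl62.mem_normalizer_of_conj fun y hy => ?_
            obtain ⟨i, rfl⟩ := hy
            change h0 * v ^ i * h0⁻¹ ∈ zpowers v
            rw [← conj_zpow, hh0v]
            exact zpow_mem (mul_mem (mem_zpowers v)
              (by rw [← hzv]; exact npow_mem_zpowers v _)) i
          have hsv : s * v * s⁻¹ = v := by rw [hv, ← conj_pow, mul_inv_cancel_right]
          have hTv : ∀ y ∈ T, y * v * y⁻¹ = v ∨ y * v * y⁻¹ = v⁻¹ := by
            intro y hy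
            have hct : Commute t (c ^ j) := (h.dh.loc.comm _ (zpow_mem (c_mem h.dh) j)).symm
            have hvv : v = t ^ r * c ^ (j * r) := by
              rw [hv, pow_mul, sq, ← hx, hj, hct.mul_pow, ← zpow_natCast (c ^ j), ← zpow_mul]
            have hCv : ∀ i : ℤ, c ^ i * v * (c ^ i)⁻¹ = v := fun i => by
              rw [hvv, ← conj_mul]
              congr 1
              · exact conj_of_commute
                  (Commute.pow_right (h.dh.loc.comm _ (zpow_mem (c_mem h.dh) i)) r).eq
              · group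
            have hBv : ∀ i : ℤ, b * c ^ i * v * (b * c ^ i)⁻¹ = v⁻¹ := fun i => by
              rw [conj_comp, hCv, hvv, ← conj_mul, b_conj h.dh,
                conj_of_commute (Commute.pow_right (h.dh.loc.comm _ (b_mem h.dh)) r).eq,
                mul_inv_rev, zpow_neg, inv_pow_t h.dh r]
              exact ((Commute.pow_right (h.dh.loc.comm _ (inv_mem
                (zpow_mem (c_mem h.dh) (j * r)))) r).eq).symm
            have ht : t * v * t⁻¹ = v := t_conj h.dh.loc hvT
            rcases mem_T h.dh hy with ⟨i, rfl⟩ | ⟨i, rfl⟩ | ⟨i, rfl⟩ | ⟨i, rfl⟩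
            · exact Or.inl (hCv i)
            · exact Or.inr (hBv i)
            · exact Or.inl (by rw [conj_comp, hCv, ht])
            · exact Or.inr (by rw [conj_comp, hBv, ← conj_inv, ht])
          have hSv : ∀ y ∈ (S : Subgroup G), y * v * y⁻¹ = v ∨ y * v * y⁻¹ = v⁻¹ := by
            intro y hy
            by_cases hyT : y ∈ T
            · exact hTv y hyT
            · have hy' : y = s * (s⁻¹ * y) := (mul_inv_cancel_left s y).symm
              have hyy : s⁻¹ * y ∈ T := (mul_out h (inv_mem hs) hy).mpr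
                (iff_of_false (fun e => hsT (by simpa using inv_mem e)) hyT)
              rcases hTv _ hyy with e4 | e4
              · exact Or.inl (by rw [hy', conj_comp, e4, hsv])
              · exact Or.inr (by rw [hy', conj_comp, e4, ← conj_inv, hsv])
          have hSN : (S : Subgroup G) ≤ N := by
            intro y hy
            refine JTPsl62.mem_normalizer_of_conj fun z hz => ?_
            obtain ⟨i, rfl⟩ := hz
            change y * v ^ i * y⁻¹ ∈ zpowers v
            rw [← conj_zpow]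
            rcases hSv y hy with e4 | e4 <;> rw [e4]
            · exact zpow_mem (mem_zpowers v) i
            · exact zpow_mem (inv_mem (mem_zpowers v)) i
          have hh0p : IsPGroup 2 ((zpowers h0).subgroupOf N) :=
            (IsPGroup.of_card (n := 1) (by
              rw [Nat.card_zpowers, hh0, orderOf_conj_eq, ht2, pow_one])).of_equiv
              (subgroupOfEquivOfLe (zpowers_le.mpr hh0N)).symm
          obtain ⟨P, hP⟩ := hh0p.exists_le_sylow
          obtain ⟨n0, hn0⟩ := MulAction.exists_smul_eq ↥N P (S.subtype hSN)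
          have hconj : n0 * (⟨h0, hh0N⟩ : ↥N) * n0⁻¹ ∈ ((S.subtype hSN : Sylow 2 ↥N) : Subgroup ↥N) := by
            rw [← hn0, Sylow.coe_subgroup_smul]
            exact ⟨⟨h0, hh0N⟩, hP (mem_subgroupOf.mpr (mem_zpowers h0)), rfl⟩
          have hconj' : (n0 : G) * h0 * (n0 : G)⁻¹ ∈ (S : Subgroup G) := hconj
          set v' := (n0 : G) * v * (n0 : G)⁻¹ with hv'
          have hv'mem : v' ∈ zpowers v :=
            (mem_normalizer_iff.mp n0.2 v).mp (mem_zpowers v)
          have hzn : (n0 : G) * zz k c * (n0 : G)⁻¹ = zz k c := by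
            refine hinvC _ ?_ (by rw [orderOf_conj_eq]; exact orderOf_z h.dh)
            obtain ⟨i, hi⟩ := hv'mem
            rw [← hzv, ← conj_pow, ← hv', show 4 * f = 2 * (2 * f) by ring, pow_mul, sq]
            refine pow_mem ?_ _
            rw [← show v ^ i = v' from hi]
            exact hCsq _ (zpow_mem hvT i)
          have hact : ((n0 : G) * h0 * (n0 : G)⁻¹) * v' * ((n0 : G) * h0 * (n0 : G)⁻¹)⁻¹ =
              v' * zz k c := by
            rw [hv', show (n0 : G) * h0 * (n0 : G)⁻¹ * ((n0 : G) * v * (n0 : G)⁻¹) *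
              ((n0 : G) * h0 * (n0 : G)⁻¹)⁻¹ = (n0 : G) * (h0 * v * h0⁻¹) * (n0 : G)⁻¹ by group,
              hh0v, ← conj_mul, hzn]
          obtain ⟨i, hi⟩ := hv'mem
          rcases hSv _ hconj' with e4 | e4
          · rw [← show v ^ i = v' from hi, ← conj_zpow, e4, left_eq_mul] at hact
            exact z_ne_one h.dh hact
          · rw [← show v ^ i = v' from hi, ← conj_zpow, e4] at hact
            have h4 : v' ^ 4 = 1 := by
              rw [show v ^ i = v' from hi, inv_zpow,
                show v ^ i = v' from hi] at hact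
              have h2 : zz k c = v'⁻¹ * v'⁻¹ := by
                calc zz k c = v'⁻¹ * (v' * zz k c) := (inv_mul_cancel_left _ _).symm
                  _ = _ := by rw [← hact]
              calc v' ^ 4 = (v'⁻¹ * v'⁻¹)⁻¹ * (v'⁻¹ * v'⁻¹)⁻¹ := by group
                _ = 1 := by rw [← h2, z_inv h.dh, z_sq h.dh]
            have hv4 : v ^ 4 = 1 := by
              rw [hv', conj_pow, conj_eq_one_iff] at h4; exact h4
            apply hw4ne
            rw [← hw4, ← conj_eq_one_iff (a := g), ← conj_pow, hgw, hv4])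
        (fun g hmem => by
          refine hout _ hmem fun hT' => ?_
          have h1 := pow_T h.dh hT'
          rw [show g⁻¹ * s * g = g⁻¹ * s * g⁻¹⁻¹ by rw [inv_inv], conj_pow, conj_eq_one_iff,
            hnat, pow_mul, sq, ← hx, hxM] at h1
          exact z_ne_one h.dh h1)
      have hodd : n % 2 = 1 := by
        have hi : ¬ 2 ∣ (S : Subgroup G).index := S.not_dvd_index
        have := hn
        unfold Nat.ModEq at this
        omega
      rw [JTTransfer62.hom_trivial hG] at htr
      obtain ⟨q, hq⟩ : ∃ q, n = 2 * q + 1 := ⟨n / 2, by omega⟩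
      rw [hq, pow_succ, pow_mul, sq2, one_pow, one_mul] at htr
      exact hsT (mem_subgroupOf.mp
        ((QuotientGroup.eq_one_iff (⟨s, hs⟩ : ↥(S : Subgroup G))).mp htr.symm))
    · refine finish (twoCosets c x hxn hxx) (twoCosets_le hcS (h.le hxT)) ?_ ?_
        (fun y hy => Or.inl hy) ?_
      · intro y hy
        by_cases hyT : y ∈ T
        · exact Or.inl (hCsq y hyT)
        · refine Or.inr ?_
          have hyy : s⁻¹ * y ∈ T := (mul_out h (inv_mem hs) hy).mpr
            (iff_of_false (fun e => hsT (by simpa using inv_mem e)) hyT)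
          have := hsS2 _ hyy
          rwa [mul_inv_cancel_left] at this
      · rintro (e | e)
        exacts [htC e, htR e]
      · intro M _ _ u _ huS huT huconj hucard
        exact absurd hucard (not_le.mpr (hB u huS huT huconj))
where
  mul_pow_z (hd : DH t T D k c b) (δ : ℕ) : (1 : G) = zz k c ^ δ * zz k c ^ δ := by
    rw [← (Commute.refl (zz k c)).mul_pow, z_sq hd, one_pow]
  inv_pow_t (hd : DH t T D k c b) (r : ℕ) : (t ^ r)⁻¹ = t ^ r := by
    rw [← inv_pow, inv_eq_of_mul_eq_one_right (tt hd.loc)]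

end Cfsg.Agent.JTSmallEnd62
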