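import Cfsg.Agent.Lib.JTChain62
import Cfsg.Agent.Lib.JTAffine62

/-!
# The normaliser of a layer `Q⟨t⟩` and its action on `Q⟨t⟩ / Q₁`
-/

set_option autoImplicit false
set_option linter.unusedSectionVars false

namespace Cfsg.Agent.JTStep62

open Subgroup
open JTPsl62 (mem_normalizer_of_conj)
open JTDihedral62 (conj_inj conj_comp conj_of_commute commute_of_conj)
open JTChain62

variable {G : Type*} [Group G] [Finite G] {H V Q Q₁ : Subgroup G} {t c : G} {n m : ℕ}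

theorem cm_mul (t x y : G) : cm t (x * y) = cm t x * (x * cm t y * x⁻¹) := by
  unfold cm; group

theorem conj_pow_fix {c t : G} (h : c * t * c⁻¹ = t) (i : ℕ) : c ^ i * t * (c ^ i)⁻¹ = t := by
  induction i with
  | zero => simp
  | succ i ih => rw [pow_succ, conj_comp, h, ih]

variable (hb : Base H V t c n) (hl : Layer H V t Q Q₁ m)

include hb hl

/-- The normaliser of `Q⟨t⟩` in `H`. -/
def nor : Subgroup G := H ⊓ normalizer ((ext hb hl : Subgroup G) : Set G)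

theorem conj_ext {g x : G} (hg : g ∈ nor hb hl) (hx : x ∈ ext hb hl) :
    g * x * g⁻¹ ∈ ext hb hl := ((mem_normalizer_iff.mp hg.2) x).mp hx

theorem mem_nor {g : G} (hg : g ∈ H) (h : ∀ x ∈ ext hb hl, g * x * g⁻¹ ∈ ext hb hl) :
    g ∈ nor hb hl := ⟨hg, mem_normalizer_of_conj h⟩

theorem ext_le_nor : ext hb hl ≤ nor hb hl := fun g hg =>
  mem_nor hb hl (ext_le hb hl hg) fun _ hx => mul_mem (mul_mem hg hx) (inv_mem hg)

theorem nor_one {g y : G} (hg : g ∈ nor hb hl) (hy : y ∈ Q₁) : g * y * g⁻¹ ∈ Q₁ := by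
  obtain ⟨x, hx, rfl⟩ := hl.surj y hy
  have e : g * cm t x * g⁻¹ = (g * t * g⁻¹) * (g * x * g⁻¹) * (g * t * g⁻¹)⁻¹ * (g * x * g⁻¹)⁻¹ := by
    unfold cm; group
  rw [e]
  exact comm_mem hb hl (conj_ext hb hl hg (t_mem_ext hb hl))
    (conj_ext hb hl hg (le_ext hb hl hx))

theorem cm_eq (g : G) : cm t g = t * (g * t * g⁻¹) := by
  unfold cm; rw [hb.t_inv]; group

theorem conj_eq (g : G) : g * t * g⁻¹ = t * cm t g := conj_t hb hl g

theorem c_mem_nor (nc : ∀ x ∈ Q, c * x * c⁻¹ ∈ Q) : c ∈ nor hb hl := by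
  refine mem_nor hb hl hb.c_mem fun x hx => ?_
  rcases hx with hx | hx
  · exact le_ext hb hl (nc x hx)
  · refine Or.inr ?_
    have e : t * (c * x * c⁻¹) = c * (t * x) * c⁻¹ := by
      calc t * (c * x * c⁻¹) = (c * t * c⁻¹) * (c * x * c⁻¹) := by rw [hb.c_comm]
        _ = _ := by group
    rw [e]; exact nc _ hx

theorem cm_mem (hout : ∀ g ∈ nor hb hl, g * t * g⁻¹ ∉ Q) {g : G} (hg : g ∈ nor hb hl) :
    cm t g ∈ Q := by
  rw [cm_eq hb hl]
  exact out_mem hb hl (conj_ext hb hl hg (t_mem_ext hb hl)) (hout g hg)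

theorem fix_adjust {g : G} (h1 : cm t g ∈ Q₁) :
    ∃ q ∈ Q, (q⁻¹ * g) * t * (q⁻¹ * g)⁻¹ = t := by
  obtain ⟨q, hq, hqt⟩ := exists_conj hb hl h1
  refine ⟨q, hq, ?_⟩
  rw [conj_comp, conj_eq hb hl g, ← hqt]; group

theorem fix_pgroup {U : Subgroup G} (hU : U ≤ nor hb hl) (hUp : IsPGroup 2 U)
    (hle : ext hb hl ≤ U) {g : G} (hg : g ∈ U) (h1 : cm t g ∈ Q₁) : g ∈ ext hb hl := by
  obtain ⟨q, hq, hqt⟩ := fix_adjust hb hl h1
  have := fix_two hb hl (hU.trans inf_le_left) hUp hle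
    (mul_mem (inv_mem (hle (le_ext hb hl hq))) hg) hqt
  have h2 := mul_mem (le_ext hb hl hq) this
  rwa [mul_inv_cancel_left] at h2

/-- If the class of `t` is stable, `Q⟨t⟩` is a Sylow 2-subgroup of `H`. -/
theorem max_of_fixed (h : ∀ g ∈ nor hb hl, cm t g ∈ Q₁) (R : Subgroup G) (hR : R ≤ H)
    (hRp : IsPGroup 2 R) (hle : ext hb hl ≤ R) : R = ext hb hl := by
  haveI : Fact (Nat.Prime 2) := ⟨Nat.prime_two⟩
  refine le_antisymm ?_ hle
  by_contra hnot
  haveI := hRp.isNilpotent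
  set P' := (ext hb hl).subgroupOf R with hP'
  have hlt : P' < ⊤ := by
    refine lt_top_iff_ne_top.mpr fun e => hnot ?_
    exact subgroupOf_eq_top.mp e
  have h2 := Group.normalizerCondition_of_isNilpotent P' hlt
  obtain ⟨⟨g, hgR⟩, hgN, hgP⟩ := SetLike.exists_of_lt h2
  have hg : g ∈ nor hb hl := by
    refine mem_nor hb hl (hR hgR) fun x hx => ?_
    exact ((mem_normalizer_iff.mp hgN) ⟨x, hle hx⟩).mp hx
  exact hgP (fix_pgroup hb hl inf_le_right (hRp.to_le inf_le_left)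
    (le_inf hle (ext_le_nor hb hl)) (show g ∈ R ⊓ nor hb hl from ⟨hgR, hg⟩) (h g hg))

section Full

variable (nc : ∀ x ∈ Q, c * x * c⁻¹ ∈ Q) (hout : ∀ g ∈ nor hb hl, g * t * g⁻¹ ∉ Q)

include nc hout

theorem trans_of_moved {g₀ : G} (hg₀ : g₀ ∈ nor hb hl) (h0 : cm t g₀ ∉ Q₁) {q : G} (hq : q ∈ Q) :
    ∃ g ∈ nor hb hl, q⁻¹ * cm t g ∈ Q₁ := by
  by_cases hq1 : q ∈ Q₁
  · exact ⟨1, one_mem _, by rw [cm_one, mul_one]; exact inv_mem hq1⟩
  have hm := cm_mem hb hl hout hg₀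
  obtain ⟨i, hi⟩ := hb.trans _ (hl.maps _ hm) _ (hl.maps _ hq) (fun e => h0 ((hl.kern _ hm).mp e))
    (fun e => hq1 ((hl.kern _ hq).mp e))
  have hci := pow_mem (c_mem_nor hb hl nc) i
  have hg : c ^ i * g₀ * (c ^ i)⁻¹ ∈ nor hb hl := mul_mem (mul_mem hci hg₀) (inv_mem hci)
  refine ⟨_, hg, (phi_eq hb hl (cm_mem hb hl hout hg) hq).mp ?_⟩
  rw [cm_conj (conj_pow_fix hb.c_comm i), iter_cm_conj (conj_pow_fix hb.c_comm i), hi]

variable (htr : ∀ q ∈ Q, ∃ g ∈ nor hb hl, q⁻¹ * cm t g ∈ Q₁)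

include htr

theorem nor_Q {g x : G} (hg : g ∈ nor hb hl) (hx : x ∈ Q) : g * x * g⁻¹ ∈ Q := by
  obtain ⟨g₂, hg₂, h2⟩ := htr x hx
  have e : g * x * g⁻¹
      = (cm t g)⁻¹ * cm t (g * g₂) * (g * (x⁻¹ * cm t g₂) * g⁻¹)⁻¹ := by
    rw [cm_mul]; group
  rw [e]
  exact mul_mem (mul_mem (inv_mem (cm_mem hb hl hout hg))
    (cm_mem hb hl hout (mul_mem hg hg₂))) (inv_mem (hl.le_one (nor_one hb hl hg h2)))

omit htr

/-- Elements fixing `t` modulo `Q₁` act on `Q / Q₁` with odd order. -/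
theorem odd_of_fix {g : G} (hg : g ∈ nor hb hl) (h1 : cm t g ∈ Q₁) :
    ∃ k : ℕ, Odd k ∧ g ^ k ∈ ext hb hl := by
  haveI : Fact (Nat.Prime 2) := ⟨Nat.prime_two⟩
  obtain ⟨a, k, hk, hgk⟩ := Nat.exists_eq_pow_mul_and_not_dvd (orderOf_pos g).ne' 2 (by norm_num)
  refine ⟨k, Nat.odd_iff.mpr (by omega), ?_⟩
  have hz : IsPGroup 2 (zpowers (g ^ k)) := by
    apply IsPGroup.of_card_dvd_pow (n := a)
    rw [Nat.card_zpowers, orderOf_dvd_iff_pow_eq_one, ← pow_mul, Nat.mul_comm, ← hgk]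
    exact pow_orderOf_eq_one g
  have hgn := pow_mem hg k
  have hU : IsPGroup 2 (ext hb hl ⊔ zpowers (g ^ k) : Subgroup G) :=
    IsPGroup.to_sup_of_normal_left' (ext_pGroup hb hl) hz
      (zpowers_le.mpr hgn.2)
  have hfix : ∀ i : ℕ, cm t (g ^ i) ∈ Q₁ := by
    intro i
    induction i with
    | zero => rw [pow_zero, cm_one]; exact one_mem _
    | succ i ih =>
      rw [pow_succ, cm_mul]
      exact mul_mem ih (nor_one hb hl (pow_mem hg i) h1)
  exact fix_pgroup hb hl (sup_le (ext_le_nor hb hl) (zpowers_le.mpr hgn)) hU le_sup_left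
    (mem_sup_right (mem_zpowers _)) (hfix k)

end Full

/-! ### The quotient -/

instance one_normal : (Q₁.subgroupOf (ext hb hl)).Normal :=
  ⟨fun x hx g => norm_one hb hl g.2 hx⟩

/-- `Q⟨t⟩ / Q₁`. -/
abbrev Bar : Type _ := ↥(ext hb hl) ⧸ Q₁.subgroupOf (ext hb hl)

/-- The quotient is abelian. -/
@[reducible] def barComm : CommGroup (Bar hb hl) :=
  { (inferInstance : Group (Bar hb hl)) with
    mul_comm := by
      intro a b
      induction a using QuotientGroup.induction_on with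
      | H a =>
        induction b using QuotientGroup.induction_on with
        | H b =>
          rw [← QuotientGroup.mk_mul, ← QuotientGroup.mk_mul, QuotientGroup.eq, mem_subgroupOf]
          simp only [coe_mul, coe_inv, mul_inv_rev]
          have := comm_mem hb hl (inv_mem b.2) (inv_mem a.2)
          simpa [mul_assoc] using this }

/-- Conjugation by an element of the normaliser, as an automorphism of `Q⟨t⟩`. -/
def conjP (g : nor hb hl) : MulAut ↥(ext hb hl) :=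
  (ext hb hl).normalizerMonoidHom ⟨g.1, g.2.2⟩

theorem conjP_apply (g : nor hb hl) (x : ↥(ext hb hl)) :
    (conjP hb hl g x : G) = g.1 * x * g.1⁻¹ := rfl

theorem conjP_map (g : nor hb hl) :
    (Q₁.subgroupOf (ext hb hl)).map (conjP hb hl g).toMonoidHom = Q₁.subgroupOf (ext hb hl) := by
  refine eq_of_le_of_card_ge ?_ (card_map_of_injective (conjP hb hl g).injective).ge
  rintro _ ⟨x, hx, rfl⟩
  exact nor_one hb hl g.2 hx

/-- The action of the normaliser on the quotient. -/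
def act : nor hb hl →* MulAut (Bar hb hl) where
  toFun g := QuotientGroup.congr _ _ (conjP hb hl g) (conjP_map hb hl g)
  map_one' := by
    ext x
    induction x using QuotientGroup.induction_on with
    | H x => exact congrArg QuotientGroup.mk (Subtype.ext (by simp [conjP_apply]))
  map_mul' g h := by
    ext x
    induction x using QuotientGroup.induction_on with
    | H x =>
      exact congrArg QuotientGroup.mk (Subtype.ext
        (by simp [conjP_apply, mul_assoc]))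

theorem act_mk (g : nor hb hl) (x : ↥(ext hb hl)) :
    act hb hl g (x : Bar hb hl) = ((conjP hb hl g x : ↥(ext hb hl)) : Bar hb hl) := rfl

theorem mk_eq {x y : ↥(ext hb hl)} :
    (x : Bar hb hl) = (y : Bar hb hl) ↔ (x : G)⁻¹ * y ∈ Q₁ := by
  rw [QuotientGroup.eq, mem_subgroupOf]; rfl

/-- The image of `Q` in the quotient. -/
def barQ : Subgroup (Bar hb hl) :=
  (Q.subgroupOf (ext hb hl)).map (QuotientGroup.mk' _)

theorem mem_barQ {x : ↥(ext hb hl)} : (x : Bar hb hl) ∈ barQ hb hl ↔ (x : G) ∈ Q := by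
  constructor
  · rintro ⟨y, hy, e⟩
    have e' : (y : G)⁻¹ * (x : G) ∈ Q₁ := (mk_eq hb hl).mp e
    have := mul_mem (mem_subgroupOf.mp hy) (hl.le_one e')
    rwa [mul_inv_cancel_left] at this
  · exact fun h => ⟨x, h, rfl⟩

theorem barQ_cases {b : Bar hb hl} (hbq : b ∈ barQ hb hl) :
    ∃ q : ↥(ext hb hl), (q : G) ∈ Q ∧ (q : Bar hb hl) = b := hbq

theorem card_barQ : Nat.card (barQ hb hl) = 2 ^ n := by
  let ψ : ↥(Q.subgroupOf (ext hb hl)) →* ↥V :=
    { toFun := fun x => ⟨(cm t)^[m] ((x : ↥(ext hb hl)) : G), hl.maps _ x.2⟩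
      map_one' := Subtype.ext ((hl.kern 1 (one_mem _)).mpr (one_mem _))
      map_mul' := fun x y => Subtype.ext (hl.hom _ x.2 _ y.2) }
  let f : ↥(Q.subgroupOf (ext hb hl)) →* Bar hb hl :=
    (QuotientGroup.mk' (Q₁.subgroupOf (ext hb hl))).comp (Q.subgroupOf (ext hb hl)).subtype
  have hker : ψ.ker = f.ker := by
    ext x
    rw [MonoidHom.mem_ker, MonoidHom.mem_ker]
    refine (Subtype.ext_iff.trans (hl.kern _ x.2)).trans ?_
    exact (QuotientGroup.eq_one_iff (N := Q₁.subgroupOf (ext hb hl)) (x : ↥(ext hb hl))).symm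
  have hsurj : Function.Surjective ψ := fun ⟨v, hv⟩ => by
    obtain ⟨x, hx, hxv⟩ := hl.onto v hv
    exact ⟨⟨⟨x, le_ext hb hl hx⟩, hx⟩, Subtype.ext hxv⟩
  have hrange : f.range = barQ hb hl := by
    simp [f, barQ, MonoidHom.range_comp]
  rw [← hrange, ← Subgroup.index_ker, ← hker, Subgroup.index_ker,
    MonoidHom.range_eq_top.mpr hsurj, Subgroup.card_top, hb.card_V]

/-- Either translations act transitively, or we are in the exceptional case `n = 3`. -/
theorem dichotomy (nc : ∀ x ∈ Q, c * x * c⁻¹ ∈ Q) (hout : ∀ g ∈ nor hb hl, g * t * g⁻¹ ∉ Q)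
    (htr : ∀ q ∈ Q, ∃ g ∈ nor hb hl, q⁻¹ * cm t g ∈ Q₁) :
    (∀ q ∈ Q, ∃ g ∈ nor hb hl, q⁻¹ * cm t g ∈ Q₁ ∧ ∀ x ∈ Q, x⁻¹ * (g * x * g⁻¹) ∈ Q₁) ∨
      (n = 3 ∧ ∀ g ∈ nor hb hl, (∀ x ∈ Q, x⁻¹ * (g * x * g⁻¹) ∈ Q₁) → cm t g ∈ Q₁) := by
  classical
  letI := barComm hb hl
  set tt : ↥(ext hb hl) := ⟨t, t_mem_ext hb hl⟩ with htt
  have hcN := c_mem_nor hb hl nc
  set cb := act hb hl ⟨c, hcN⟩ with hcb
  have hpow : ∀ i : ℕ, cb ^ i = act hb hl ⟨c ^ i, pow_mem hcN i⟩ := fun i => by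
    rw [hcb, ← map_pow]; rfl
  have hfixt : ∀ g : nor hb hl, act hb hl g (tt : Bar hb hl) = (tt : Bar hb hl) ↔ cm t g.1 ∈ Q₁ := by
    intro g
    rw [act_mk, mk_eq, conjP_apply, htt]
    have e : (g.1 * t * g.1⁻¹)⁻¹ * t = (cm t g.1)⁻¹ := by
      rw [conj_eq hb hl, mul_inv_rev, mul_assoc, hb.t_inv, hb.t_sq, mul_one]
    rw [e, inv_mem_iff]
  have hA : ∀ a ∈ (act hb hl).range, ∀ x ∈ barQ hb hl, a x ∈ barQ hb hl := by
    rintro _ ⟨g, rfl⟩ x hx
    obtain ⟨q, hq, rfl⟩ := barQ_cases hb hl hx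
    rw [act_mk, mem_barQ, conjP_apply]
    exact nor_Q hb hl nc hout htr g.2 hq
  have heq : ∀ {x y : ↥(ext hb hl)}, (x : G) ∈ Q → (y : G) ∈ Q →
      (cm t)^[m] (x : G) = (cm t)^[m] (y : G) → (x : Bar hb hl) = (y : Bar hb hl) := by
    intro x y hx hy e
    rw [mk_eq]
    exact (phi_eq hb hl hy hx).mp e.symm
  have key := JTAffine62.translations_or_three (act hb hl).range (t := (tt : Bar hb hl))
    (V := barQ hb hl) (n := n) (c := cb) hb.two_le (card_barQ hb hl) (fun x => by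
      induction x using QuotientGroup.induction_on with
      | H x =>
        rw [← QuotientGroup.mk_mul, QuotientGroup.eq_one_iff]
        exact sq_mem hb hl x.2) (fun h => hl.t_notMem ((mem_barQ hb hl).mp h))
    (fun x => by
      induction x using QuotientGroup.induction_on with
      | H x =>
        rw [← QuotientGroup.mk_mul, mem_barQ, mem_barQ]
        exact x.2) hA ⟨_, rfl⟩ (by
      rw [hcb, hfixt]
      rw [cm_eq_one.mpr]
      · exact one_mem _
      · calc t * c * t⁻¹ = (c * t * c⁻¹) * c * t⁻¹ := by rw [hb.c_comm]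
          _ = c := by group)
    (fun a ha b hb' ha1 hb1 => by
      obtain ⟨x, hx, rfl⟩ := barQ_cases hb hl ha
      obtain ⟨y, hy, rfl⟩ := barQ_cases hb hl hb'
      obtain ⟨i, hi⟩ := hb.trans _ (hl.maps _ hx) _ (hl.maps _ hy)
        (fun e => ha1 ((QuotientGroup.eq_one_iff x).mpr ((hl.kern _ hx).mp e)))
        (fun e => hb1 ((QuotientGroup.eq_one_iff y).mpr ((hl.kern _ hy).mp e)))
      refine ⟨i, ?_⟩
      rw [hpow, act_mk]
      have hcx := nor_Q hb hl nc hout htr (pow_mem hcN i) hx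
      refine heq (by rw [conjP_apply]; exact hcx) hy ?_
      rw [conjP_apply, iter_cm_conj (conj_pow_fix hb.c_comm i), hi])
    (by
      rintro _ ⟨⟨g, hg⟩, rfl⟩ hgt
      obtain ⟨q, hq, hqt⟩ := fix_adjust hb hl ((hfixt _).mp hgt)
      set g' := q⁻¹ * g with hg'
      have hg'N : g' ∈ nor hb hl :=
        mul_mem (inv_mem (ext_le_nor hb hl (le_ext hb hl hq))) hg
      have hact : act hb hl ⟨g, hg⟩ = act hb hl ⟨g', hg'N⟩ := by
        ext x
        induction x using QuotientGroup.induction_on with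
        | H x =>
          rw [act_mk, act_mk, mk_eq, conjP_apply, conjP_apply]
          change (g * (x : G) * g⁻¹)⁻¹ * ((q⁻¹ * g) * (x : G) * (q⁻¹ * g)⁻¹) ∈ Q₁
          have h1 := comm_mem hb hl (inv_mem (conj_ext hb hl hg x.2))
            (inv_mem (le_ext hb hl hq))
          convert h1 using 1
          group
      have hV : ∀ v ∈ V, g' * v * g'⁻¹ ∈ V := by
        intro v hv
        refine hl.cent _ (nor_Q hb hl nc hout htr hg'N (hl.V_le hv)) ?_
        calc t * (g' * v * g'⁻¹) * t⁻¹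
            = (g' * t * g'⁻¹) * (g' * v * g'⁻¹) * (g' * t * g'⁻¹)⁻¹ := by rw [hqt]
          _ = g' * (t * v * t⁻¹) * g'⁻¹ := by group
          _ = _ := by rw [hb.comm v hv]
      obtain ⟨i, hi⟩ := hb.norm_c g' hg'N.1 hqt hV
      refine ⟨i, fun x hx => ?_⟩
      obtain ⟨y, hy, rfl⟩ := barQ_cases hb hl hx
      have hgcg : g' * c * g'⁻¹ ∈ nor hb hl := mul_mem (mul_mem hg'N hcN) (inv_mem hg'N)
      rw [hpow, hact, ← map_inv, hcb, ← map_mul, ← map_mul, act_mk, act_mk]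
      refine heq (by rw [conjP_apply]; exact nor_Q hb hl nc hout htr hgcg hy)
        (by rw [conjP_apply]; exact nor_Q hb hl nc hout htr (pow_mem hcN i) hy) ?_
      rw [conjP_apply, conjP_apply]
      change (cm t)^[m] ((g' * c * g'⁻¹) * y * (g' * c * g'⁻¹)⁻¹) = _
      rw [iter_cm_conj (conj_pow_fix hb.c_comm i), iter_cm_conj (t := t) (g := g' * c * g'⁻¹),
        hi _ (hl.maps _ hy)]
      calc (g' * c * g'⁻¹) * t * (g' * c * g'⁻¹)⁻¹
          = g' * (c * (g'⁻¹ * (g' * t * g'⁻¹) * g') * c⁻¹) * g'⁻¹ := by rw [hqt]; group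
        _ = g' * (c * t * c⁻¹) * g'⁻¹ := by group
        _ = t := by rw [hb.c_comm, hqt])
    (by
      rintro _ ⟨⟨g, hg⟩, rfl⟩ hgt
      obtain ⟨k, hk, hgk⟩ := odd_of_fix hb hl nc hout hg ((hfixt _).mp hgt)
      refine hk.of_dvd_nat (orderOf_dvd_of_pow_eq_one ?_)
      rw [← map_pow]
      ext x
      induction x using QuotientGroup.induction_on with
      | H x =>
        rw [act_mk, MulAut.one_apply, mk_eq, conjP_apply]
        simp only [SubmonoidClass.coe_pow]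
        have h1 := comm_mem hb hl hgk (inv_mem x.2)
        convert h1 using 1
        group)
    (fun b hb' => by
      obtain ⟨q, hq, rfl⟩ := barQ_cases hb hl hb'
      obtain ⟨g, hg, hgq⟩ := htr q hq
      refine ⟨_, ⟨⟨g, hg⟩, rfl⟩, ?_⟩
      rw [act_mk, ← QuotientGroup.mk_mul, mk_eq, conjP_apply]
      change (g * t * g⁻¹)⁻¹ * (t * (q : G)) ∈ Q₁
      rw [conj_eq hb hl, mul_inv_rev, mul_assoc, inv_mul_cancel_left]
      have := inv_mem hgq
      rwa [mul_inv_rev, inv_inv] at this)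
  have htriv : ∀ g : nor hb hl, (∀ x ∈ Q, x⁻¹ * (g.1 * x * g.1⁻¹) ∈ Q₁) →
      ∀ y ∈ barQ hb hl, act hb hl g y = y := by
    intro g h y hy
    obtain ⟨x, hx, rfl⟩ := barQ_cases hb hl hy
    rw [act_mk, mk_eq, conjP_apply]
    have := inv_mem (h x hx)
    rwa [mul_inv_rev, inv_inv] at this
  rcases key with h | ⟨hn, -, hf⟩
  · left
    intro q hq
    obtain ⟨_, ⟨⟨g, hg⟩, rfl⟩, h1, h2⟩ :=
      h ((⟨q, le_ext hb hl hq⟩ : ↥(ext hb hl)) : Bar hb hl) ((mem_barQ hb hl).mpr hq)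
    refine ⟨g, hg, ?_, fun x hx => ?_⟩
    · rw [act_mk, ← QuotientGroup.mk_mul, mk_eq, conjP_apply] at h1
      change (g * t * g⁻¹)⁻¹ * (t * q) ∈ Q₁ at h1
      rw [conj_eq hb hl, mul_inv_rev, mul_assoc, inv_mul_cancel_left] at h1
      have := inv_mem h1
      rwa [mul_inv_rev, inv_inv] at this
    · have h3 := (h2 ((⟨x, le_ext hb hl hx⟩ : ↥(ext hb hl)) : Bar hb hl)
        ((mem_barQ hb hl).mpr hx)).symm
      rw [act_mk, mk_eq, conjP_apply] at h3
      exact h3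
  · right
    refine ⟨hn, fun g hg h => (hfixt ⟨g, hg⟩).mp ?_⟩
    rw [hf _ ⟨_, rfl⟩ (htriv ⟨g, hg⟩ h), MulAut.one_apply]

end Cfsg.Agent.JTStep62
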