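import Mathlib

/-!
Counting lemmas for Jordan's theorem in characteristic `p`: a finiteness lemma for sums of
reciprocals, and divisibility of the size of a conjugation-stable union of cosets of a central
subgroup all of whose elements have small centralisers modulo that subgroup.
-/

set_option autoImplicit false

universe u

namespace Cfsg.Agent.JordanCharP80Count

/-- If `L·(Σ 1/x − 1/g)` is an integer, with at most `k` terms none exceeding `g`, then `g` is
bounded or is one of the terms. -/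
theorem recip_bound : ∀ k L : ℕ, 0 < L → ∃ B : ℕ, ∀ (g : ℕ) (ns : List ℕ), 0 < g →
    (∀ x ∈ ns, 0 < x ∧ x ≤ g) → ns.length ≤ k →
    (∃ j : ℤ, (L : ℚ) * ((ns.map fun x : ℕ => (x : ℚ)⁻¹).sum - (g : ℚ)⁻¹) = j) →
    g ≤ B ∨ g ∈ ns := by
  intro k
  induction k with
  | zero =>
    intro L hL
    refine ⟨L, fun g ns hg _ hlen ⟨j, hj⟩ => Or.inl ?_⟩
    have hns : ns = [] := List.length_eq_zero_iff.1 (Nat.le_zero.1 hlen)
    subst hns
    simp only [List.map_nil, List.sum_nil, zero_sub] at hj
    have hgq : (0 : ℚ) < g := Nat.cast_pos.2 hg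
    have h0 : (j : ℚ) < 0 := by
      rw [← hj]; exact mul_neg_of_pos_of_neg (Nat.cast_pos.2 hL) (neg_neg_of_pos (inv_pos.2 hgq))
    have h1 : (j : ℚ) ≤ -1 := by
      have : j ≤ -1 := by have : j < 0 := by exact_mod_cast h0
                          omega
      exact_mod_cast this
    rw [← hj] at h1
    have h2 : (1 : ℚ) ≤ (L : ℚ) / g := by rw [div_eq_mul_inv]; linarith
    rw [le_div_iff₀ hgq, one_mul] at h2
    exact_mod_cast h2
  | succ k ih =>
    intro L hL
    set M := L * (k + 1) with hM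
    obtain ⟨B, hB⟩ := ih (L * M.factorial) (Nat.mul_pos hL (Nat.factorial_pos M))
    refine ⟨max B L, fun g ns hg hx hlen ⟨j, hj⟩ => ?_⟩
    have hgq : (0 : ℚ) < g := Nat.cast_pos.2 hg
    have hLq : (0 : ℚ) < L := Nat.cast_pos.2 hL
    set S := (ns.map fun x : ℕ => (x : ℚ)⁻¹).sum with hS
    have hS0 : 0 ≤ S := List.sum_nonneg (by intro a ha; obtain ⟨x, -, rfl⟩ := List.mem_map.1 ha; positivity)
    rcases lt_trichotomy j 0 with hj0 | hj0 | hj0
    · left
      have h1 : (j : ℚ) ≤ -1 := by
        have : j ≤ -1 := by omega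
        exact_mod_cast this
      rw [← hj] at h1
      have h3 : (L : ℚ) * S ≥ 0 := mul_nonneg hLq.le hS0
      have h2 : (1 : ℚ) ≤ (L : ℚ) / g := by rw [div_eq_mul_inv]; nlinarith
      rw [le_div_iff₀ hgq, one_mul] at h2
      exact le_max_of_le_right (by exact_mod_cast h2)
    · right
      have hSg : S = (g : ℚ)⁻¹ := by
        rw [hj0, Int.cast_zero, mul_eq_zero] at hj
        rcases hj with h | h
        · exact absurd h hLq.ne'
        · linarith
      match ns, hx, hS with
      | [], _, hS =>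
        simp only [List.map_nil, List.sum_nil] at hS
        exact absurd (hS ▸ hSg) (inv_ne_zero hgq.ne').symm
      | x :: xs, hx, hS =>
        simp only [List.map_cons, List.sum_cons] at hS
        have hxs : (0 : ℚ) ≤ (xs.map fun x : ℕ => (x : ℚ)⁻¹).sum :=
          List.sum_nonneg (by intro a ha; obtain ⟨y, -, rfl⟩ := List.mem_map.1 ha; positivity)
        obtain ⟨hx0, hxg⟩ := hx x List.mem_cons_self
        have hle : (x : ℚ)⁻¹ ≤ (g : ℚ)⁻¹ := by linarith
        have : g ≤ x := by
          have := (inv_le_inv₀ (Nat.cast_pos.2 hx0) hgq).1 hle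
          exact_mod_cast this
        rw [le_antisymm this hxg]
        exact List.mem_cons_self
    · have h1 : (1 : ℚ) ≤ (j : ℚ) := by exact_mod_cast (by omega : (1 : ℤ) ≤ j)
      rw [← hj] at h1
      have hS1 : (L : ℚ)⁻¹ < S := by
        have hg' : 0 < (g : ℚ)⁻¹ := inv_pos.2 hgq
        rw [inv_lt_iff_one_lt_mul₀' hLq]
        nlinarith
      obtain ⟨x, hxmem, hxM⟩ : ∃ x ∈ ns, x ≤ M := by
        by_contra hne
        push Not at hne
        have hle : S ≤ (ns.length : ℚ) * (M : ℚ)⁻¹ := by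
          have := List.sum_le_card_nsmul (ns.map fun x : ℕ => (x : ℚ)⁻¹) (M : ℚ)⁻¹ (by
            intro a ha
            obtain ⟨y, hy, rfl⟩ := List.mem_map.1 ha
            have hM0 : (0 : ℚ) < M := Nat.cast_pos.2 (Nat.mul_pos hL (Nat.succ_pos k))
            exact inv_anti₀ hM0 (by exact_mod_cast (hne y hy).le))
          simpa [hS, nsmul_eq_mul] using this
        have hlq : (ns.length : ℚ) ≤ (k + 1 : ℕ) := by exact_mod_cast hlen
        have hMk : ((k + 1 : ℕ) : ℚ) * (M : ℚ)⁻¹ = (L : ℚ)⁻¹ := by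
          have : ((k + 1 : ℕ) : ℚ) ≠ 0 := by exact_mod_cast (Nat.succ_ne_zero k)
          rw [hM]; push_cast at this ⊢; field_simp
        have : S ≤ (L : ℚ)⁻¹ := hle.trans ((mul_le_mul_of_nonneg_right hlq (by positivity)).trans hMk.le)
        linarith
      have hperm := List.perm_cons_erase hxmem
      have hsum : S = (x : ℚ)⁻¹ + ((ns.erase x).map fun y : ℕ => (y : ℚ)⁻¹).sum := by
        rw [hS, (hperm.map fun y : ℕ => (y : ℚ)⁻¹).sum_eq]; simp
      obtain ⟨c, hc⟩ : x ∣ M.factorial := Nat.dvd_factorial (hx x hxmem).1 hxM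
      rcases hB g (ns.erase x) hg (fun y hy => hx y (List.mem_of_mem_erase hy))
        (by have := List.length_erase_of_mem hxmem; omega)
        ⟨(M.factorial : ℤ) * j - (L : ℤ) * c, by
          have hx0 : (x : ℚ) ≠ 0 := Nat.cast_ne_zero.2 (hx x hxmem).1.ne'
          have hcq : (M.factorial : ℚ) * (x : ℚ)⁻¹ = c := by rw [hc]; push_cast; field_simp
          have key : ((ns.erase x).map fun y : ℕ => (y : ℚ)⁻¹).sum - (g : ℚ)⁻¹
              = (S - (g : ℚ)⁻¹) - (x : ℚ)⁻¹ := by rw [hsum]; ring
          rw [key]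
          push_cast
          rw [← hj, ← hcq]
          ring⟩ with h | h
      · exact Or.inl (le_max_of_le_left h)
      · exact Or.inr (List.mem_of_mem_erase h)

/-- A union of conjugacy classes with centralisers of order at most `K`. -/
theorem dvd_of_small {H : Type u} [Group H] [Finite H] (K : ℕ) (S : Set H)
    (hconj : ∀ x g : H, g ∈ S → x * g * x⁻¹ ∈ S)
    (hsmall : ∀ g ∈ S, Nat.card (Subgroup.centralizer ({g} : Set H)) ≤ K) :
    Nat.card H ∣ K.factorial * Nat.card S := by
  classical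
  haveI := Fintype.ofFinite H
  let F : Finset H := Finset.univ.filter (· ∈ S)
  have hF : Nat.card S = F.card := by
    rw [Nat.card_eq_fintype_card, Fintype.card_subtype]
  rw [hF, Finset.card_eq_sum_card_image (fun g : H => ConjClasses.mk g) F, Finset.mul_sum]
  refine Finset.dvd_sum fun c hc => ?_
  obtain ⟨g, hg, rfl⟩ := Finset.mem_image.1 hc
  have hgS : g ∈ S := (Finset.mem_filter.1 hg).2
  have hfil : (F.filter fun a => ConjClasses.mk a = ConjClasses.mk g).card
      = Nat.card (MulAction.orbit (ConjAct H) g) := by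
    rw [Nat.card_eq_fintype_card, ← Set.toFinset_card]
    congr 1
    ext a
    simp only [F, Finset.mem_filter, Finset.mem_univ, true_and, Set.mem_toFinset,
      ConjAct.mem_orbit_conjAct, ConjClasses.mk_eq_mk_iff_isConj]
    constructor
    · exact fun h => h.2
    · intro h
      refine ⟨?_, h⟩
      obtain ⟨x, hx⟩ := isConj_iff.1 h.symm
      exact hx ▸ hconj x g hgS
  rw [hfil]
  set st := MulAction.stabilizer (ConjAct H) g with hst
  have hprod : Nat.card (MulAction.orbit (ConjAct H) g) * Nat.card st = Nat.card H := by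
    rw [Nat.card_congr (MulAction.orbitEquivQuotientStabilizer (ConjAct H) g),
      ← Subgroup.card_eq_card_quotient_mul_card_subgroup]
    exact Nat.card_congr ConjAct.ofConjAct.toEquiv
  have hstK : Nat.card st ≤ K := by
    refine le_trans ?_ (hsmall g hgS)
    refine Nat.card_le_card_of_injective (fun x => ⟨ConjAct.ofConjAct x.1, ?_⟩) ?_
    · rw [Subgroup.mem_centralizer_singleton_iff]
      have h : x.1 • g = g := x.2
      rw [ConjAct.smul_def] at h
      exact mul_inv_eq_iff_eq_mul.1 h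
    · intro a b hab
      exact Subtype.ext (ConjAct.ofConjAct.injective (congrArg (fun t => t.1) hab))
  have hd : Nat.card st ∣ K.factorial := Nat.dvd_factorial Nat.card_pos hstK
  rw [← hprod, mul_comm K.factorial]
  exact Nat.mul_dvd_mul_left _ hd

/-- The same modulo a normal subgroup `Z`. -/
theorem dvd_of_small_mod {M : Type u} [Group M] [Finite M] (Z : Subgroup M) [Z.Normal] (K : ℕ)
    (S : Set M) (hconj : ∀ x g : M, g ∈ S → x * g * x⁻¹ ∈ S)
    (hZ : ∀ z ∈ Z, ∀ g ∈ S, g * z ∈ S)
    (hsmall : ∀ g ∈ S, Nat.card {x : M // x * g * x⁻¹ * g⁻¹ ∈ Z} ≤ K * Nat.card Z) :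
    Nat.card M ∣ K.factorial * Nat.card S := by
  have hpre : ∀ T : Set (M ⧸ Z), Nat.card (QuotientGroup.mk (s := Z) ⁻¹' T) = Nat.card Z * Nat.card T :=
    fun T => by
      rw [Nat.card_congr (QuotientGroup.preimageMkEquivSubgroupProdSet Z T), Nat.card_prod]
  set T : Set (M ⧸ Z) := QuotientGroup.mk '' S with hT
  have hS : QuotientGroup.mk (s := Z) ⁻¹' T = S := by
    ext a
    constructor
    · rintro ⟨b, hb, hba⟩
      have : b⁻¹ * a ∈ Z := QuotientGroup.eq.1 hba
      simpa [mul_assoc] using hZ _ this b hb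
    · exact fun ha => ⟨a, ha, rfl⟩
  have h1 : Nat.card (M ⧸ Z) ∣ K.factorial * Nat.card T := by
    refine dvd_of_small K T ?_ ?_
    · rintro x _ ⟨g, hg, rfl⟩
      obtain ⟨x, rfl⟩ := QuotientGroup.mk_surjective x
      exact ⟨x * g * x⁻¹, hconj x g hg, rfl⟩
    · rintro _ ⟨g, hg, rfl⟩
      have hpos : 0 < Nat.card Z := Nat.card_pos
      refine Nat.le_of_mul_le_mul_left ?_ hpos
      refine le_trans (le_of_eq (hpre ((Subgroup.centralizer {(g : M ⧸ Z)} : Subgroup (M ⧸ Z)) :
        Set (M ⧸ Z))).symm) ?_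
      rw [mul_comm _ K]
      refine le_trans (le_of_eq (Nat.card_congr (Equiv.subtypeEquivRight fun x => ?_))) (hsmall g hg)
      show ((x : M ⧸ Z) ∈ Subgroup.centralizer {(g : M ⧸ Z)}) ↔ _
      rw [Subgroup.mem_centralizer_singleton_iff, ← QuotientGroup.eq_one_iff]
      simp only [QuotientGroup.mk_mul, QuotientGroup.mk_inv]
      rw [mul_inv_eq_one, mul_inv_eq_iff_eq_mul]
  have hcardM : Nat.card M = Nat.card Z * Nat.card (M ⧸ Z) := by
    rw [Subgroup.card_eq_card_quotient_mul_card_subgroup Z, mul_comm]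
  have h2 : Nat.card S = Nat.card Z * Nat.card T := by rw [← hpre T, hS]
  rw [hcardM, h2, ← mul_left_comm]
  exact Nat.mul_dvd_mul_left _ h1

end Cfsg.Agent.JordanCharP80Count
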