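import Mathlib

/-!
Linear algebra for Jordan's theorem in characteristic `p`: abelian groups of order prime to `p`
are diagonalisable, which bounds their exponent-`E` parts and their sets of conjugate elements;
also the scalar subgroup and the subgroup of elements commuting modulo scalars with a given one.
-/

set_option autoImplicit false

universe u v w

namespace Cfsg.Agent.JordanCharP80Diag

open Module

variable {F : Type w} [Field F] {V : Type v} [AddCommGroup V] [Module F V] [FiniteDimensional F V]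

/-- The eigenvalues of an endomorphism lie in a set of size at most the dimension. -/
theorem exists_spectrum (f : Module.End F V) :
    ∃ R : Set F, R.Finite ∧ Nat.card R ≤ finrank F V ∧ ∀ (b : F) (v : V), v ≠ 0 → f v = b • v → b ∈ R := by
  classical
  have h := f.eigenspaces_iSupIndep
  haveI : Fintype {b : F // f.eigenspace b ≠ ⊥} := h.fintypeNeBotOfFiniteDimensional
  refine ⟨{b | f.eigenspace b ≠ ⊥},
    Set.finite_coe_iff.1 (inferInstanceAs (Finite {b : F // f.eigenspace b ≠ ⊥})), ?_,
    fun b v hv hfv hb => hv ?_⟩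
  · exact le_trans (le_of_eq (Nat.card_eq_fintype_card (α := {b : F // f.eigenspace b ≠ ⊥})))
      h.subtype_ne_bot_le_finrank
  · have hm : v ∈ f.eigenspace b := Module.End.mem_eigenspace_iff.2 hfv
    rwa [hb, Submodule.mem_bot] at hm

variable {G : Type u} [Group G] [Finite G] (ρ : G →* Module.End F V)

theorem semisimple_of_coprime (p : ℕ) [CharP F p] [Fact p.Prime] {a : G} (ha : ¬ p ∣ orderOf a) :
    (ρ a).IsSemisimple := by
  refine Module.End.isSemisimple_of_squarefree_aeval_eq_zero
    (p := (Polynomial.X ^ orderOf a - 1 : Polynomial F)) ?_ ?_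
  · refine ((Polynomial.X_pow_sub_one_separable_iff).2 ?_).squarefree
    rwa [Ne, CharP.cast_eq_zero_iff F p]
  · rw [map_sub, map_pow, Polynomial.aeval_X, map_one, ← map_pow, pow_orderOf_eq_one, map_one, sub_self]

theorem exists_eigen_family [IsAlgClosed F] (p : ℕ) [CharP F p] [Fact p.Prime]
    (hρ : Function.Injective ρ) (hcomm : ∀ x y : G, x * y = y * x) (hp : ¬ p ∣ Nat.card G) :
    ∃ (ι : Type (max u w)) (_ : Finite ι) (d : G → ι → F), Nat.card ι ≤ finrank F V ∧
      (∀ a b, d (a * b) = d a * d b) ∧ Function.Injective d ∧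
      ∀ a i, ∃ v : V, v ≠ 0 ∧ ρ a v = d a i • v := by
  classical
  let W : (G → F) → Submodule F V := fun χ => ⨅ a, (ρ a).maxGenEigenspace (χ a)
  have hc : ∀ a b : G, Commute (ρ a) (ρ b) := fun a b => by
    show ρ a * ρ b = ρ b * ρ a
    rw [← map_mul, ← map_mul, hcomm]
  have hind : iSupIndep W := Module.End.independent_iInf_maxGenEigenspace_of_forall_mapsTo _
    (fun i j φ => Module.End.mapsTo_maxGenEigenspace_of_comm (hc j i) φ)
  have htop : ⨆ χ, W χ = ⊤ :=
    Module.End.iSup_iInf_maxGenEigenspace_eq_top_of_iSup_maxGenEigenspace_eq_top_of_commute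
      (fun a => ρ a) (fun a b _ => hc a b) (fun a => Module.End.iSup_maxGenEigenspace_eq_top _)
  have hW : ∀ χ, ∀ v ∈ W χ, ∀ a, ρ a v = χ a • v := by
    intro χ v hv a
    have h1 := (Submodule.mem_iInf _).1 hv a
    rw [(Module.End.isFinitelySemisimple_iff_isSemisimple.2 (semisimple_of_coprime ρ p (a := a)
      (fun h => hp (h.trans (orderOf_dvd_natCard a))))).maxGenEigenspace_eq_eigenspace] at h1
    exact Module.End.mem_eigenspace_iff.1 h1
  haveI : Fintype {χ : G → F // W χ ≠ ⊥} := hind.fintypeNeBotOfFiniteDimensional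
  have hvec : ∀ i : {χ : G → F // W χ ≠ ⊥}, ∀ a, ∃ v : V, v ≠ 0 ∧ ρ a v = i.1 a • v := by
    intro i a
    obtain ⟨v, hv, hv0⟩ := Submodule.exists_mem_ne_zero_of_ne_bot i.2
    exact ⟨v, hv0, hW _ v hv a⟩
  refine ⟨{χ : G → F // W χ ≠ ⊥}, inferInstance, fun a i => i.1 a, ?_, ?_, ?_, fun a i => hvec i a⟩
  · rw [Nat.card_eq_fintype_card]; exact hind.subtype_ne_bot_le_finrank
  · intro a b
    funext i
    obtain ⟨v, hv, hv0⟩ := Submodule.exists_mem_ne_zero_of_ne_bot i.2
    have h1 := hW _ v hv (a * b)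
    rw [map_mul, Module.End.mul_apply, hW _ v hv b, map_smul, hW _ v hv a, smul_smul, mul_comm] at h1
    exact (smul_left_injective F hv0 h1).symm
  · intro a b hab
    refine hρ (LinearMap.ext fun v => ?_)
    have hv : v ∈ ⨆ χ, W χ := htop ▸ Submodule.mem_top
    induction hv using Submodule.iSup_induction' with
    | mem χ x hx =>
      rcases eq_or_ne (W χ) ⊥ with h | h
      · rw [h, Submodule.mem_bot] at hx; simp [hx]
      · have h' : χ a = χ b := congrFun hab ⟨χ, h⟩
        rw [hW χ x hx a, hW χ x hx b, h']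
    | zero => simp
    | add x y _ _ ihx ihy => simp [ihx, ihy]

/-- An abelian `p'`-subgroup whose `E`-th powers lie in `T` has order at most `E^n |T|`. -/
theorem card_le_pow_mul [IsAlgClosed F] (p : ℕ) [CharP F p] [Fact p.Prime]
    (hρ : Function.Injective ρ) (A : Subgroup G) (hcomm : ∀ x ∈ A, ∀ y ∈ A, x * y = y * x)
    (hp : ¬ p ∣ Nat.card A) (E : ℕ) (hE : 0 < E) (T : Subgroup G) (hT : ∀ a ∈ A, a ^ E ∈ T) :
    Nat.card A ≤ E ^ finrank F V * Nat.card T := by
  classical
  obtain ⟨ι, _, d, hι, hmul, hinj, -⟩ := exists_eigen_family (ρ.comp A.subtype) p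
    (hρ.comp A.subtype_injective) (fun x y => Subtype.ext (hcomm x x.2 y y.2)) hp
  let f : A →* A := MonoidHom.mk' (fun a => a ^ E)
    fun a b => (Commute.mul_pow (Subtype.ext (hcomm a a.2 b b.2)) E)
  have hd1 : ∀ i, d 1 i = 1 ∨ d 1 i = 0 := fun i => by
    have h := congrFun (hmul 1 1) i
    rw [one_mul, Pi.mul_apply] at h
    rcases eq_or_ne (d 1 i) 0 with h0 | h0
    · exact Or.inr h0
    · exact Or.inl (mul_left_cancel₀ h0 (by rw [mul_one]; exact h.symm))
  have hpow : ∀ (a : A) (k : ℕ) i, d (a ^ (k + 1)) i = d a i ^ (k + 1) := by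
    intro a k i
    induction k with
    | zero => simp
    | succ k ih => rw [pow_succ, hmul, Pi.mul_apply, ih, ← pow_succ]
  let R : Set F := {b | b ^ E = 1}
  have hRfin : R.Finite := by
    refine Set.Finite.subset (Polynomial.nthRoots E (1 : F)).toFinset.finite_toSet fun b hb => ?_
    simpa [R, Polynomial.mem_nthRoots hE] using hb
  have hR : Nat.card R ≤ E := by
    rw [Nat.card_coe_set_eq]
    calc R.ncard ≤ ((Polynomial.nthRoots E (1 : F)).toFinset : Set F).ncard :=
          Set.ncard_le_ncard (fun b hb => by simpa [R, Polynomial.mem_nthRoots hE] using hb)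
            (Finset.finite_toSet _)
      _ ≤ E := by
          rw [Set.ncard_coe_finset]
          exact (Multiset.toFinset_card_le _).trans (Polynomial.card_nthRoots E 1)
  haveI := hRfin.to_subtype
  have hdne : ∀ (a : A) i, d 1 i = 0 → d a i = 0 := fun a i h => by
    have h' := congrFun (hmul a 1) i
    rwa [mul_one, Pi.mul_apply, h, mul_zero] at h'
  have hmem : ∀ (a : f.ker) i, (if d 1 i = 0 then (1 : F) else d a.1 i) ∈ R := by
    intro a i
    split_ifs with h
    · exact one_pow E
    · have ha : (a.1 : A) ^ E = 1 := a.2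
      obtain ⟨k, hk⟩ : ∃ k, E = k + 1 := ⟨E - 1, by omega⟩
      show d a.1 i ^ E = 1
      rw [hk, ← hpow, ← hk, ha]
      exact (hd1 i).resolve_right h
  have hker : Nat.card f.ker ≤ E ^ finrank F V := by
    refine le_trans (Nat.card_le_card_of_injective
      (fun a : f.ker => fun i => (⟨_, hmem a i⟩ : R)) ?_) ?_
    · intro a b hab
      refine Subtype.ext (hinj (funext fun i => ?_))
      have h : (if d 1 i = 0 then (1 : F) else d a.1 i) = (if d 1 i = 0 then (1 : F) else d b.1 i) :=
        congrArg Subtype.val (congrFun hab i)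
      split_ifs at h with h1
      · rw [hdne _ _ h1, hdne _ _ h1]
      · exact h
    · rw [Nat.card_fun]
      calc Nat.card R ^ Nat.card ι ≤ E ^ Nat.card ι := Nat.pow_le_pow_left hR _
        _ ≤ E ^ finrank F V := Nat.pow_le_pow_right hE hι
  have hrange : Nat.card f.range ≤ Nat.card T := by
    refine Nat.card_le_card_of_injective (fun x => (⟨(x.1 : G), ?_⟩ : T)) ?_
    · obtain ⟨a, ha⟩ := x.2
      rw [← ha]
      exact hT a a.2
    · intro x y hxy
      exact Subtype.ext (Subtype.ext (congrArg (fun t : T => t.1) hxy))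
  rw [← f.ker.card_mul_index, Subgroup.index_ker]
  exact Nat.mul_le_mul hker hrange

/-- An abelian `p'`-subgroup contains at most `n^n` conjugates of a given element. -/
theorem card_conj_le [IsAlgClosed F] (p : ℕ) [CharP F p] [Fact p.Prime]
    (hρ : Function.Injective ρ) (A : Subgroup G) (hcomm : ∀ x ∈ A, ∀ y ∈ A, x * y = y * x)
    (hp : ¬ p ∣ Nat.card A) (r : G) :
    Nat.card {y : A // IsConj r (y : G)} ≤ finrank F V ^ finrank F V := by
  classical
  obtain ⟨ι, _, d, hι, hmul, hinj, heig⟩ := exists_eigen_family (ρ.comp A.subtype) p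
    (hρ.comp A.subtype_injective) (fun x y => Subtype.ext (hcomm x x.2 y y.2)) hp
  obtain ⟨R, hRfin, hR, hRmem⟩ := exists_spectrum (ρ r)
  haveI := hRfin.to_subtype
  have hmem : ∀ (y : {y : A // IsConj r (y : G)}) i, d y.1 i ∈ R := by
    intro y i
    obtain ⟨v, hv0, hv⟩ := heig y.1 i
    obtain ⟨x, hx⟩ := isConj_iff.1 y.2
    have hinv : ρ x (ρ x⁻¹ v) = v := by
      rw [← Module.End.mul_apply, ← map_mul, mul_inv_cancel, map_one, Module.End.one_apply]
    refine hRmem _ (ρ x⁻¹ v) (fun h => hv0 (by rw [← hinv, h, map_zero])) ?_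
    rw [← map_smul, ← hv]
    show ρ r (ρ x⁻¹ v) = ρ x⁻¹ (ρ (y.1 : G) v)
    rw [← Module.End.mul_apply, ← map_mul, ← Module.End.mul_apply, ← map_mul, ← hx]
    simp [mul_assoc]
  refine le_trans (Nat.card_le_card_of_injective
    (fun y : {y : A // IsConj r (y : G)} => fun i => (⟨_, hmem y i⟩ : R)) ?_) ?_
  · intro a b hab
    exact Subtype.ext (hinj (funext fun i => congrArg Subtype.val (congrFun hab i)))
  · rw [Nat.card_fun]
    rcases Nat.eq_zero_or_pos (finrank F V) with h | h
    · rw [h] at hι ⊢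
      simp [Nat.le_zero.1 hι]
    · exact (Nat.pow_le_pow_left hR _).trans (Nat.pow_le_pow_right h hι)

/-- The elements acting as scalars. -/
def scal : Subgroup G where
  carrier := {g | ∃ c : F, ρ g = c • 1}
  one_mem' := ⟨1, by simp⟩
  mul_mem' := by
    rintro a b ⟨c, hc⟩ ⟨c', hc'⟩
    exact ⟨c * c', by rw [map_mul, hc, hc', smul_mul_smul_comm, one_mul]⟩
  inv_mem' := by
    rintro a ⟨c, hc⟩
    refine ⟨c ^ (orderOf a - 1), ?_⟩
    have h : a⁻¹ = a ^ (orderOf a - 1) := by
      rw [inv_eq_iff_mul_eq_one, ← pow_succ',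
        Nat.sub_add_cancel (orderOf_pos a), pow_orderOf_eq_one]
    rw [h, map_pow, hc, smul_pow, one_pow]

theorem mem_scal {g : G} : g ∈ scal ρ ↔ ∃ c : F, ρ g = c • 1 := Iff.rfl

theorem scal_comm (hρ : Function.Injective ρ) {z : G} (hz : z ∈ scal ρ) (g : G) : z * g = g * z := by
  obtain ⟨c, hc⟩ := hz
  exact hρ (by simp [hc])

theorem scal_normal (hρ : Function.Injective ρ) : (scal ρ).Normal :=
  ⟨fun z hz g => by rw [← scal_comm ρ hρ hz g, mul_inv_cancel_right]; exact hz⟩

/-- Elements of the scalar subgroup have order prime to the characteristic. -/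
theorem not_dvd_orderOf_scal (p : ℕ) [CharP F p] [hp : Fact p.Prime] (hρ : Function.Injective ρ)
    {z : G} (hz : z ∈ scal ρ) : ¬ p ∣ orderOf z := by
  obtain ⟨c, hc⟩ := hz
  rintro ⟨k, hk⟩
  have h1 : ((c ^ k) ^ p) • (1 : Module.End F V) = 1 := by
    rw [← pow_mul, mul_comm, ← hk]
    calc c ^ orderOf z • (1 : Module.End F V) = (c • 1) ^ orderOf z := by rw [smul_pow, one_pow]
      _ = 1 := by rw [← hc, ← map_pow, pow_orderOf_eq_one, map_one]
  have hk1 : z ^ k = 1 := by
    refine hρ ?_
    rcases subsingleton_or_nontrivial V with hV | hV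
    · exact Subsingleton.elim _ _
    · have h2 : (c ^ k) ^ p = 1 := by
        obtain ⟨v, hv⟩ := exists_ne (0 : V)
        have h3 := LinearMap.congr_fun h1 v
        simp only [LinearMap.smul_apply, Module.End.one_apply] at h3
        exact smul_left_injective F hv (by simp only [one_smul]; exact h3)
      have h4 : c ^ k = 1 := by
        refine frobenius_inj F p ?_
        simp [frobenius_def, h2]
      rw [map_pow, hc, smul_pow, one_pow, h4, one_smul, map_one]
  have hkpos : 0 < k := by
    rcases Nat.eq_zero_or_pos k with h | h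
    · rw [h, mul_zero] at hk; exact absurd hk (orderOf_pos z).ne'
    · exact h
  have := Nat.le_of_dvd hkpos (orderOf_dvd_of_pow_eq_one hk1)
  rw [hk] at this
  have := Nat.mul_le_mul_right k hp.out.two_le
  omega

/-- At most `n` cosets of the centraliser consist of elements commuting with `g` modulo scalars. -/
theorem card_comm_mod_le [IsAlgClosed F] [Nontrivial V] (hρ : Function.Injective ρ) (g : G) :
    Nat.card {x : G // x * g * x⁻¹ * g⁻¹ ∈ scal ρ} ≤
      finrank F V * Nat.card (Subgroup.centralizer ({g} : Set G)) := by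
  classical
  obtain ⟨R, hRfin, hR, hRmem⟩ := exists_spectrum (ρ g)
  haveI := hRfin.to_subtype
  obtain ⟨a, ha⟩ := Module.End.exists_eigenvalue (ρ g)
  obtain ⟨v, hv⟩ := ha.exists_hasEigenvector
  have hgv : ρ g v = a • v := hv.apply_eq_smul
  have hv0 : v ≠ 0 := hv.2
  have hcv : ∀ (x : {x : G // x * g * x⁻¹ * g⁻¹ ∈ scal ρ}),
      ρ (x.1 * g * x.1⁻¹) = x.2.choose • ρ g := by
    intro x
    have h := x.2.choose_spec
    calc ρ (x.1 * g * x.1⁻¹) = ρ (x.1 * g * x.1⁻¹ * g⁻¹) * ρ g := by rw [← map_mul, inv_mul_cancel_right]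
      _ = (x.2.choose • 1) * ρ g := congrArg (· * ρ g) h
      _ = _ := smul_one_mul _ _
  have hmem : ∀ x : {x : G // x * g * x⁻¹ * g⁻¹ ∈ scal ρ}, x.2.choose * a ∈ R := by
    intro x
    have hinv : ρ x.1 (ρ x.1⁻¹ v) = v := by
      rw [← Module.End.mul_apply, ← map_mul, mul_inv_cancel, map_one, Module.End.one_apply]
    refine hRmem _ (ρ x.1⁻¹ v) (fun h => hv0 (by rw [← hinv, h, map_zero])) ?_
    have h1 : ρ (x.1 * g * x.1⁻¹) v = (x.2.choose * a) • v := by
      rw [hcv x, LinearMap.smul_apply, hgv, smul_smul]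
    generalize x.2.choose * a = c at h1 ⊢
    have h2 := congrArg (ρ x.1⁻¹) h1
    rw [map_smul, ← Module.End.mul_apply, ← map_mul, mul_assoc x.1, inv_mul_cancel_left, map_mul,
      Module.End.mul_apply] at h2
    exact h2
  have ha0 : a ≠ 0 := by
    intro h
    rw [h, zero_smul] at hgv
    refine hv0 ?_
    have := congrArg (ρ g⁻¹) hgv
    rwa [← Module.End.mul_apply, ← map_mul, inv_mul_cancel, map_one, Module.End.one_apply, map_zero]
      at this
  let C := Subgroup.centralizer ({g} : Set G)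
  have key : ∀ x y : {x : G // x * g * x⁻¹ * g⁻¹ ∈ scal ρ},
      x.2.choose * a = y.2.choose * a → y.1⁻¹ * x.1 ∈ C := by
    intro x y h
    have heq : x.1 * g * x.1⁻¹ = y.1 * g * y.1⁻¹ :=
      hρ (by rw [hcv x, hcv y, mul_right_cancel₀ ha0 h])
    rw [Subgroup.mem_centralizer_singleton_iff]
    calc y.1⁻¹ * x.1 * g = y.1⁻¹ * (x.1 * g * x.1⁻¹) * x.1 := by group
      _ = y.1⁻¹ * (y.1 * g * y.1⁻¹) * x.1 := by rw [heq]
      _ = g * (y.1⁻¹ * x.1) := by group
  let φ : {x : G // x * g * x⁻¹ * g⁻¹ ∈ scal ρ} → R := fun x => ⟨_, hmem x⟩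
  let rep : R → G := fun b => if h : ∃ x, φ x = b then h.choose.1 else 1
  have hrep : ∀ x, (rep (φ x))⁻¹ * x.1 ∈ C := by
    intro x
    have h : ∃ y, φ y = φ x := ⟨x, rfl⟩
    simp only [rep, dif_pos h]
    exact key x _ (congrArg Subtype.val h.choose_spec).symm
  calc Nat.card {x : G // x * g * x⁻¹ * g⁻¹ ∈ scal ρ}
      ≤ Nat.card (R × C) :=
        Nat.card_le_card_of_injective (fun x => (φ x, (⟨_, hrep x⟩ : C))) (by
          intro x y hxy
          simp only [Prod.mk.injEq, Subtype.mk.injEq] at hxy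
          obtain ⟨h1, h2⟩ := hxy
          rw [h1] at h2
          exact Subtype.ext (mul_left_cancel h2))
    _ ≤ _ := by rw [Nat.card_prod]; exact Nat.mul_le_mul_right _ hR

end Cfsg.Agent.JordanCharP80Diag
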