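import Mathlib
import Cfsg.Agent.Lib.JordanCharP80Diag

/-!
The reducible step of Jordan's theorem in characteristic `p`: the centraliser of a non-scalar
element has an abelian `p'`-subgroup of bounded index if smaller dimensions do.
-/

set_option autoImplicit false

universe u v w

namespace Cfsg.Agent.JordanCharP80Red

open Module
open Cfsg.Agent.JordanCharP80Diag

/-- A subgroup generated by commuting elements of order prime to `p`. -/
theorem closure_pprime {G : Type u} [Group G] [Finite G] (p : ℕ) [hp : Fact p.Prime] (S : Set G)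
    (hc : ∀ x ∈ S, ∀ y ∈ S, x * y = y * x) (hS : ∀ x ∈ S, ¬ p ∣ orderOf x) :
    (∀ x ∈ Subgroup.closure S, ∀ y ∈ Subgroup.closure S, x * y = y * x) ∧
      ¬ p ∣ Nat.card (Subgroup.closure S) := by
  have h1 : ∀ x ∈ Subgroup.closure S, ∀ y ∈ Subgroup.closure S, x * y = y * x := by
    intro x hx y hy
    have hle : Subgroup.closure S ≤ Subgroup.centralizer S := by
      rw [Subgroup.closure_le]
      intro a ha b hb
      exact hc b hb a ha
    have hle2 : Subgroup.closure S ≤ Subgroup.centralizer (Subgroup.closure S : Set G) := by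
      rw [Subgroup.closure_le]
      intro a ha b hb
      exact (hle hb a ha).symm
    exact hle2 hy x hx
  refine ⟨h1, fun h => ?_⟩
  obtain ⟨x, hx⟩ := exists_prime_orderOf_dvd_card' p h
  have key : ∀ y ∈ Subgroup.closure S, ¬ p ∣ orderOf y := by
    intro y hy
    induction hy using Subgroup.closure_induction with
    | mem a ha => exact hS a ha
    | one => rw [orderOf_one]; exact hp.out.not_dvd_one
    | mul a b hA hB iha ihb =>
      intro hd
      have := (hd.trans (Commute.orderOf_mul_dvd_lcm (h1 a hA b hB : Commute a b))).trans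
        (Nat.lcm_dvd_mul (orderOf a) (orderOf b))
      rcases hp.out.dvd_mul.1 this with h | h
      · exact iha h
      · exact ihb h
    | inv a _ iha => rwa [orderOf_inv]
  refine key x.1 x.2 ?_
  rw [Subgroup.orderOf_coe, hx]

theorem exponent_le {G : Type u} [Group G] [Finite G] (p m k : ℕ) [hp : Fact p.Prime]
    (hm : ¬ p ^ (m + 1) ∣ Nat.card G) (h : p ^ k ∣ Nat.card G) : p ^ k ≤ p ^ m := by
  refine Nat.pow_le_pow_right hp.out.pos ?_
  by_contra hk
  exact hm ((Nat.pow_dvd_pow p (by omega)).trans h)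

/-- The `p^m`-th power of an element has order prime to `p`. -/
theorem not_dvd_orderOf_pow {G : Type u} [Group G] [Finite G] (p m : ℕ) [hp : Fact p.Prime]
    (hm : ¬ p ^ (m + 1) ∣ Nat.card G) (x : G) {e : ℕ} (he : p ^ m ∣ e) :
    ¬ p ∣ orderOf (x ^ e) := by
  intro h
  obtain ⟨c, rfl⟩ := he
  have h1 : p ∣ orderOf (x ^ p ^ m) := by
    rw [pow_mul] at h
    exact h.trans (orderOf_pow_dvd c)
  have h2 : p ^ m ∣ orderOf x := by
    by_contra hnd
    have hg : orderOf (x ^ p ^ m) = orderOf x / Nat.gcd (orderOf x) (p ^ m) := orderOf_pow x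
    obtain ⟨i, hi, hgi⟩ := (Nat.dvd_prime_pow hp.out).1 (Nat.gcd_dvd_right (orderOf x) (p ^ m))
    rw [hg, hgi] at h1
    have h3 : p * p ^ i ∣ orderOf x := by
      have h4 : p ^ i ∣ orderOf x := hgi ▸ Nat.gcd_dvd_left _ _
      exact (Nat.dvd_div_iff_mul_dvd h4).1 h1 |> fun h => by rwa [mul_comm] at h
    rw [← pow_succ'] at h3
    rcases Nat.lt_or_ge i m with hlt | hge
    · have := Nat.dvd_gcd h3 (Nat.pow_dvd_pow p hlt)
      rw [hgi] at this
      have := (Nat.pow_dvd_pow_iff_le_right hp.out.one_lt).1 this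
      omega
    · exact hnd ((Nat.pow_dvd_pow p hge).trans (hgi ▸ Nat.gcd_dvd_left _ _))
  have h3 : orderOf (x ^ p ^ m) = orderOf x / p ^ m := orderOf_pow_of_dvd (pow_ne_zero _ hp.out.ne_zero) h2
  rw [h3] at h1
  refine hm (Nat.dvd_trans ?_ (orderOf_dvd_natCard x))
  rw [pow_succ]
  exact (Nat.dvd_div_iff_mul_dvd h2).1 h1

/-- A bound for an abelian `p'`-subgroup in each dimension `≤ n`. -/
def Good (F : Type w) [Field F] (p m n h : ℕ) : Prop :=
  ∀ (G : Type u) [Group G] [Finite G] (V : Type v) [AddCommGroup V] [Module F V]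
    [FiniteDimensional F V] (ρ : G →* Module.End F V), Function.Injective ρ → finrank F V ≤ n →
    ¬ p ^ (m + 1) ∣ Nat.card G →
    ∃ A : Subgroup G, (∀ x ∈ A, ∀ y ∈ A, x * y = y * x) ∧ ¬ p ∣ Nat.card A ∧ A.index ≤ h

set_option maxHeartbeats 1000000

variable {F : Type w} [Field F] [IsAlgClosed F] (p m : ℕ) [CharP F p] [hp : Fact p.Prime]

omit [IsAlgClosed F] [CharP F p] hp in
theorem good_quotient (n h : ℕ) (hn : Good.{u, v, w} F p m n h) {C : Type u} [Group C] [Finite C]
    {W : Type v} [AddCommGroup W] [Module F W] [FiniteDimensional F W] (r : C →* Module.End F W)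
    (hW : finrank F W ≤ n) (hq : ¬ p ^ (m + 1) ∣ Nat.card C) :
    ∃ B : Subgroup C, B.index ≤ h ∧ ∀ x ∈ B, ∀ y ∈ B, x * y * x⁻¹ * y⁻¹ ∈ r.ker := by
  have hinj : Function.Injective (QuotientGroup.lift r.ker r le_rfl) := by
    refine (injective_iff_map_eq_one _).2 fun q => ?_
    induction q using QuotientGroup.induction_on with
    | _ x => exact fun hx => (QuotientGroup.eq_one_iff x).2 hx
  obtain ⟨A, hAc, -, hAi⟩ := hn (C ⧸ r.ker) W (QuotientGroup.lift r.ker r le_rfl)
    hinj hW
    (fun hd => hq (hd.trans (Subgroup.card_quotient_dvd_card r.ker)))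
  refine ⟨A.comap (QuotientGroup.mk' r.ker), ?_, fun x hx y hy => ?_⟩
  · rwa [Subgroup.index_comap_of_surjective _ (QuotientGroup.mk'_surjective _)]
  · rw [← QuotientGroup.eq_one_iff]
    simp only [QuotientGroup.mk_mul, QuotientGroup.mk_inv]
    rw [mul_inv_eq_one, mul_inv_eq_iff_eq_mul]
    exact hAc _ hx _ hy

theorem centralizer_bound (n h : ℕ) (hn : Good.{u, v, w} F p m n h) {G : Type u} [Group G] [Finite G]
    {V : Type v} [AddCommGroup V] [Module F V] [FiniteDimensional F V] (ρ : G →* Module.End F V)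
    (hρ : Function.Injective ρ) (hV : finrank F V ≤ n + 1) (hm : ¬ p ^ (m + 1) ∣ Nat.card G)
    (g : G) (hg : g ∉ scal ρ) :
    ∃ A : Subgroup G, A ≤ Subgroup.centralizer ({g} : Set G) ∧
      (∀ x ∈ A, ∀ y ∈ A, x * y = y * x) ∧ ¬ p ∣ Nat.card A ∧
      Nat.card (Subgroup.centralizer ({g} : Set G)) ≤ h * h * (p ^ m).factorial * p ^ m * Nat.card A ∧
      ∀ x ∈ Subgroup.centralizer ({g} : Set G),
        x ^ ((h * h * (p ^ m).factorial * p ^ m).factorial * p ^ m) ∈ A := by
  classical
  set C := Subgroup.centralizer ({g} : Set G) with hC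
  haveI : Nontrivial V := by
    rcases subsingleton_or_nontrivial V with h | h
    · exact absurd ⟨0, Subsingleton.elim _ _⟩ hg
    · exact h
  obtain ⟨a, ha⟩ := Module.End.exists_eigenvalue (ρ g)
  set W := (ρ g).eigenspace a with hWdef
  have hW0 : W ≠ ⊥ := ha
  have hW1 : W ≠ ⊤ := fun hW => hg ⟨a, LinearMap.ext fun v => by
    have : v ∈ W := hW ▸ Submodule.mem_top
    simpa using Module.End.mem_eigenspace_iff.1 this⟩
  have hmaps : ∀ x : C, ∀ v ∈ W, ρ (x : G) v ∈ W := by
    intro x v hv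
    rw [hWdef, Module.End.mem_eigenspace_iff] at hv ⊢
    have hx : (x : G) * g = g * x := Subgroup.mem_centralizer_singleton_iff.1 x.2
    rw [← Module.End.mul_apply, ← map_mul, ← hx, map_mul, Module.End.mul_apply, hv, map_smul]
  obtain ⟨ρ1, hρ1⟩ : ∃ r : C →* Module.End F W, ∀ x v, ((r x v : W) : V) = ρ (x : G) (v : V) :=
    ⟨{ toFun := fun x => (ρ (x : G)).restrict (hmaps x)
       map_one' := by ext v; simp
       map_mul' := fun x y => by ext v; simp }, fun x v => rfl⟩
  obtain ⟨ρ2, hρ2⟩ : ∃ r : C →* Module.End F (V ⧸ W), ∀ (x : C) (v : V),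
      r x (Submodule.Quotient.mk v) = Submodule.Quotient.mk (ρ (x : G) v) :=
    ⟨{ toFun := fun x => W.mapQ W (ρ (x : G)) (hmaps x)
       map_one' := by ext v; simp
       map_mul' := fun x y => by ext v; simp }, fun x v => rfl⟩
  have hcardC : Nat.card C ∣ Nat.card G := Subgroup.card_subgroup_dvd_card C
  have hd1 : finrank F W ≤ n := by
    have := Submodule.finrank_lt hW1; omega
  have hd2 : finrank F (V ⧸ W) ≤ n := by
    have h1 := W.finrank_quotient_add_finrank
    have : 0 < finrank F W := Submodule.one_le_finrank_iff.2 hW0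
    omega
  obtain ⟨B1, hB1i, hB1⟩ := good_quotient p m n h hn ρ1 hd1 (fun hd => hm (hd.trans hcardC))
  obtain ⟨B2, hB2i, hB2⟩ := good_quotient p m n h hn ρ2 hd2 (fun hd => hm (hd.trans hcardC))
  set U := ρ1.ker ⊓ ρ2.ker with hU
  have hUpow : ∀ x ∈ U, x ^ p = 1 := by
    intro x hx
    obtain ⟨h1, h2⟩ := Subgroup.mem_inf.1 hx
    have hD : ∀ v : V, (ρ (x : G) - 1) ((ρ (x : G) - 1) v) = 0 := by
      intro v
      have hv : (ρ (x : G) - 1) v ∈ W := by
        rw [LinearMap.sub_apply, Module.End.one_apply, ← Submodule.Quotient.eq]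
        have := LinearMap.congr_fun (MonoidHom.mem_ker.1 h2) (Submodule.Quotient.mk v)
        simpa [hρ2] using this
      have h3 := congrArg Subtype.val (LinearMap.congr_fun (MonoidHom.mem_ker.1 h1) ⟨_, hv⟩)
      have h4 : ρ (x : G) ((ρ (x : G) - 1) v) = (ρ (x : G) - 1) v := (hρ1 _ _).symm.trans h3
      rw [LinearMap.sub_apply, Module.End.one_apply, h4, sub_self]
    have hsq : (ρ (x : G) - 1) ^ 2 = 0 := by
      rw [pow_two]; exact LinearMap.ext hD
    haveI : CharP (Module.End F V) p :=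
      charP_of_injective_algebraMap (FaithfulSMul.algebraMap_injective F (Module.End F V)) p
    have hpw : (ρ (x : G) - 1) ^ p = 0 := pow_eq_zero_of_le hp.out.two_le hsq
    rw [sub_pow_char_of_commute p (Commute.one_right (ρ (x : G))), one_pow, sub_eq_zero,
      ← map_pow, ← map_one ρ] at hpw
    exact Subtype.ext (by simpa using hρ hpw)
  have hUcard : Nat.card U ≤ p ^ m := by
    have hU' : IsPGroup p U := fun x => ⟨1, Subtype.ext (by simpa using hUpow x.1 x.2)⟩
    obtain ⟨k, hk⟩ := IsPGroup.iff_card.1 hU'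
    rw [hk]
    exact exponent_le p m k hm (hk ▸ (Subgroup.card_subgroup_dvd_card U).trans hcardC)
  let cj : C →* Equiv.Perm U :=
    { toFun := fun x => (MulAut.conjNormal (H := U) x).toEquiv
      map_one' := by ext; simp
      map_mul' := fun x y => by ext; simp }
  set B := B1 ⊓ B2 ⊓ cj.ker with hB
  have hBi : B.index ≤ h * h * (p ^ m).factorial := by
    refine le_trans Subgroup.index_inf_le (Nat.mul_le_mul ?_ ?_)
    · exact le_trans Subgroup.index_inf_le (Nat.mul_le_mul hB1i hB2i)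
    · rw [Subgroup.index_ker]
      refine le_trans (Nat.card_le_card_of_injective _ Subtype.val_injective) ?_
      rw [Nat.card_perm]
      exact Nat.factorial_le hUcard
  set S : Set B := {x | ¬ p ∣ orderOf x} with hS
  have hcommS : ∀ x ∈ S, ∀ y ∈ S, x * y = y * x := by
    intro x _ y hy
    obtain ⟨⟨hx1, hx2⟩, hx3⟩ := (Subgroup.mem_inf.1 x.2).imp_left Subgroup.mem_inf.1
    obtain ⟨⟨hy1, hy2⟩, hy3⟩ := (Subgroup.mem_inf.1 y.2).imp_left Subgroup.mem_inf.1
    set c := (x : C) * y * (x : C)⁻¹ * (y : C)⁻¹ with hc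
    have hcU : c ∈ U := by
      exact Subgroup.mem_inf.2 ⟨hB1 _ hx1 _ hy1, hB2 _ hx2 _ hy2⟩
    have hcy : Commute c (y : C) := by
      have h3 := congrArg Subtype.val (Equiv.ext_iff.1 (MonoidHom.mem_ker.1 hy3) ⟨c, hcU⟩)
      simp [cj] at h3
      exact (mul_inv_eq_iff_eq_mul.1 h3).symm
    have h1 : c ^ orderOf (y : C) = 1 := by
      have e1 : c * (y : C) = (x : C) * y * (x : C)⁻¹ := by rw [hc, inv_mul_cancel_right]
      have e2 : (c * (y : C)) ^ orderOf (y : C) = 1 := by
        rw [e1, conj_pow, pow_orderOf_eq_one]; group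
      rwa [hcy.mul_pow, pow_orderOf_eq_one, mul_one] at e2
    have hyo : ¬ p ∣ orderOf (y : C) := by rw [Subgroup.orderOf_coe]; exact hy
    have h2 : c = 1 := by
      refine orderOf_eq_one_iff.1 (Nat.eq_one_of_dvd_coprimes ((hp.out.coprime_iff_not_dvd).2 hyo)
        (orderOf_dvd_of_pow_eq_one (hUpow c hcU)) (orderOf_dvd_of_pow_eq_one h1))
    apply Subtype.ext
    rw [hc, mul_inv_eq_one, mul_inv_eq_iff_eq_mul] at h2
    exact h2
  obtain ⟨hAc, hAp⟩ := closure_pprime p S hcommS (fun x hx => hx)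
  set A := Subgroup.closure S with hA
  haveI : A.Normal := ⟨fun a ha x => by
    induction ha using Subgroup.closure_induction with
    | mem b hb =>
      refine Subgroup.subset_closure ?_
      show ¬ p ∣ orderOf (x * b * x⁻¹)
      rw [← MulAut.conj_apply, MulEquiv.orderOf_eq]
      exact hb
    | one => simp
    | mul b c _ _ hb hc => simpa [mul_assoc] using mul_mem hb hc
    | inv b _ hb => simpa [mul_assoc] using inv_mem hb⟩
  have hBG : Nat.card B ∣ Nat.card G := (Subgroup.card_subgroup_dvd_card B).trans hcardC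
  have hAi : A.index ≤ p ^ m := by
    have hQ : IsPGroup p (B ⧸ A) := by
      intro q
      obtain ⟨x, rfl⟩ := QuotientGroup.mk_surjective q
      refine ⟨m, ?_⟩
      rw [← QuotientGroup.mk_pow, QuotientGroup.eq_one_iff]
      exact Subgroup.subset_closure (not_dvd_orderOf_pow p m (fun h => hm (h.trans hBG)) x dvd_rfl)
    obtain ⟨k, hk⟩ := IsPGroup.iff_card.1 hQ
    rw [Subgroup.index_eq_card, hk]
    exact exponent_le p m k hm (hk ▸ (Subgroup.card_quotient_dvd_card A).trans hBG)
  set A' : Subgroup C := A.map B.subtype with hA'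
  have hA'i : A'.index ≤ h * h * (p ^ m).factorial * p ^ m := by
    rw [hA', Subgroup.index_map, B.ker_subtype, sup_bot_eq, Subgroup.range_subtype, mul_comm]
    exact Nat.mul_le_mul hBi hAi
  refine ⟨A'.map C.subtype, Subgroup.map_subtype_le A', ?_, ?_, ?_, ?_⟩
  · rintro _ ⟨x, ⟨x', hx', rfl⟩, rfl⟩ _ ⟨y, ⟨y', hy', rfl⟩, rfl⟩
    exact congrArg (fun t : B => ((t : C) : G)) (hAc x' hx' y' hy')
  · rw [Subgroup.card_map_of_injective C.subtype_injective, hA',
      Subgroup.card_map_of_injective B.subtype_injective]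
    exact hAp
  · rw [Subgroup.card_map_of_injective C.subtype_injective, ← A'.card_mul_index, mul_comm]
    exact Nat.mul_le_mul_right _ hA'i
  · intro x hx
    obtain ⟨j, hj0, hj, hxj⟩ := A'.exists_pow_mem_of_index_ne_zero
      (Subgroup.index_ne_zero_of_finite) (⟨x, hx⟩ : C)
    obtain ⟨c, hc⟩ := (Nat.dvd_factorial hj0 (hj.trans hA'i)).trans (dvd_mul_right _ (p ^ m))
    rw [hc, pow_mul]
    exact pow_mem (Subgroup.mem_map_of_mem C.subtype hxj) c

end Cfsg.Agent.JordanCharP80Red
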