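import Mathlib
import Cfsg.Agent.Lib.JordanCharP80Diag
import Cfsg.Agent.Lib.JordanCharP80Red
import Cfsg.Agent.Lib.JordanCharP80Count

/-!
Stable semisimple elements and their commutation classes, for Jordan's theorem in
characteristic `p`. If for every non-scalar `g` the `e`-th powers of the centraliser of `g` lie in
an abelian `p'`-group, commutation is an equivalence relation on stable elements.
-/

set_option autoImplicit false

universe u v w

namespace Cfsg.Agent.JordanCharP80Classes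

open Module
open Cfsg.Agent.JordanCharP80Diag Cfsg.Agent.JordanCharP80Red

variable {F : Type w} [Field F] {V : Type v} [AddCommGroup V] [Module F V] [FiniteDimensional F V]
  {G : Type u} [Group G] [Finite G] (ρ : G →* Module.End F V)

/-- The standing hypotheses: `ρ` is faithful of dimension at most `n`, the Sylow `p`-subgroups have
order at most `p^m`, and centralisers of non-scalar elements are abelian-by-bounded. -/
structure Hyp (p m n h e : ℕ) : Prop where
  inj : Function.Injective ρ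
  dim : finrank F V ≤ n
  sylow : ¬ p ^ (m + 1) ∣ Nat.card G
  epos : 0 < e
  edvd : p ^ m ∣ e
  cent : ∀ g, g ∉ scal ρ → ∃ A : Subgroup G, A ≤ Subgroup.centralizer ({g} : Set G) ∧
    (∀ x ∈ A, ∀ y ∈ A, x * y = y * x) ∧ ¬ p ∣ Nat.card A ∧
    Nat.card (Subgroup.centralizer ({g} : Set G)) ≤ h * Nat.card A ∧
    ∀ x ∈ Subgroup.centralizer ({g} : Set G), x ^ e ∈ A

/-- Stable non-scalar elements of order prime to `p`. -/
def R (p e : ℕ) : Set G :=
  {r | r ∉ scal ρ ∧ ¬ p ∣ orderOf r ∧ ∀ x, Commute x (r ^ e) → Commute x r}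

/-- The commutation class of a stable element. -/
def cls (p e : ℕ) (r : G) : Set G := {s | s ∈ R ρ p e ∧ Commute r s}

/-- The stabiliser of a class. -/
def N (p e : ℕ) (r : G) : Subgroup G where
  carrier := {x | ∀ s, s ∈ cls ρ p e r ↔ x * s * x⁻¹ ∈ cls ρ p e r}
  one_mem' := by simp
  mul_mem' := by
    intro a b ha hb s
    rw [hb s, ha (b * s * b⁻¹)]
    simp [mul_assoc]
  inv_mem' := by
    intro a ha s
    rw [ha (a⁻¹ * s * a⁻¹⁻¹)]
    simp [mul_assoc]

/-- The elements attached to a class. -/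
def X (p e : ℕ) (r : G) : Set G := {g | g ∉ scal ρ ∧ ∃ s ∈ cls ρ p e r, Commute g s}

/-- The abelian subgroup generated by a class and the scalars. -/
def T (p e : ℕ) (r : G) : Subgroup G := Subgroup.closure (cls ρ p e r ∪ (scal ρ : Set G))

theorem commute_conj {a b : G} (x : G) (h : Commute a b) :
    Commute (x * a * x⁻¹) (x * b * x⁻¹) := by
  show x * a * x⁻¹ * (x * b * x⁻¹) = x * b * x⁻¹ * (x * a * x⁻¹)
  have h' : a * b = b * a := h
  calc x * a * x⁻¹ * (x * b * x⁻¹) = x * (a * b) * x⁻¹ := by group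
    _ = x * (b * a) * x⁻¹ := by rw [h']
    _ = _ := by group

theorem scal_conj {x a : G} (hρ : Function.Injective ρ) :
    x * a * x⁻¹ ∈ scal ρ ↔ a ∈ scal ρ := by
  constructor
  · intro h
    have h' := (scal_normal ρ hρ).conj_mem _ h x⁻¹
    simpa [mul_assoc] using h'
  · exact fun h => (scal_normal ρ hρ).conj_mem _ h x

variable {ρ} {p m n h e : ℕ}

theorem conj_R (H : Hyp ρ p m n h e) {r : G} (hr : r ∈ R ρ p e) (x : G) :
    x * r * x⁻¹ ∈ R ρ p e := by
  obtain ⟨h1, h2, h3⟩ := hr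
  refine ⟨fun hx => h1 ((scal_conj ρ H.inj).1 hx), ?_, fun y hy => ?_⟩
  · rwa [← MulAut.conj_apply, MulEquiv.orderOf_eq]
  · rw [conj_pow] at hy
    have := h3 (x⁻¹ * y * x) (by simpa [mul_assoc] using commute_conj x⁻¹ hy)
    simpa [mul_assoc] using commute_conj x this

/-- Two stable elements commuting with one non-scalar element commute. -/
theorem comm_trans (H : Hyp ρ p m n h e) {q r g : G} (hq : q ∈ R ρ p e) (hr : r ∈ R ρ p e)
    (hg : g ∉ scal ρ) (hqg : Commute q g) (hrg : Commute r g) : Commute q r := by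
  obtain ⟨A, -, hAc, -, -, hAe⟩ := H.cent g hg
  have h1 : q ^ e ∈ A := hAe q (Subgroup.mem_centralizer_singleton_iff.2 hqg)
  have h2 : r ^ e ∈ A := hAe r (Subgroup.mem_centralizer_singleton_iff.2 hrg)
  have h3 : Commute (r ^ e) q := hq.2.2 _ (hAc _ h2 _ h1)
  exact hr.2.2 q h3.symm

theorem self_mem_cls {r : G} (hr : r ∈ R ρ p e) : r ∈ cls ρ p e r := ⟨hr, Commute.refl r⟩

theorem cls_comm (H : Hyp ρ p m n h e) {r s t : G} (hr : r ∈ R ρ p e) (hs : s ∈ cls ρ p e r)
    (ht : t ∈ cls ρ p e r) : Commute s t :=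
  comm_trans H hs.1 ht.1 hr.1 hs.2.symm ht.2.symm

theorem cls_eq (H : Hyp ρ p m n h e) {r s : G} (hr : r ∈ R ρ p e) (hs : s ∈ cls ρ p e r) :
    cls ρ p e s = cls ρ p e r := by
  ext t
  refine ⟨fun ht => ⟨ht.1, comm_trans H hr ht.1 hs.1.1 hs.2 ht.2.symm⟩,
    fun ht => ⟨ht.1, cls_comm H hr hs ht⟩⟩

theorem mem_cls_of_commute (H : Hyp ρ p m n h e) {r s t g : G} (hr : r ∈ R ρ p e)
    (hs : s ∈ cls ρ p e r) (ht : t ∈ R ρ p e) (hg : g ∉ scal ρ) (hsg : Commute g s)
    (htg : Commute g t) : t ∈ cls ρ p e r := by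
  rw [← cls_eq H hr hs]
  exact ⟨ht, comm_trans H hs.1 ht hg hsg.symm htg.symm⟩

/-- Criterion for stabilising a class. -/
theorem mem_N_of (H : Hyp ρ p m n h e) {r s : G} (hr : r ∈ R ρ p e) (hs : s ∈ cls ρ p e r) {x : G}
    (hx : x * s * x⁻¹ ∈ cls ρ p e r) : x ∈ N ρ p e r := by
  intro t
  constructor
  · intro ht
    rw [← cls_eq H hr hx]
    exact ⟨conj_R H ht.1 x, commute_conj x (cls_comm H hr hs ht)⟩
  · intro ht
    have h1 : Commute (x * s * x⁻¹) (x * t * x⁻¹) := cls_comm H hr hx ht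
    have h2 : Commute s t := by simpa [mul_assoc] using commute_conj x⁻¹ h1
    have h3 : t ∈ R ρ p e := by simpa [mul_assoc] using conj_R H ht.1 x⁻¹
    rw [← cls_eq H hr hs]
    exact ⟨h3, h2⟩

theorem X_subset_N (H : Hyp ρ p m n h e) {r g : G} (hr : r ∈ R ρ p e) (hg : g ∈ X ρ p e r) :
    g ∈ N ρ p e r := by
  obtain ⟨-, s, hs, hgs⟩ := hg
  refine mem_N_of H hr hs ?_
  rw [hgs.eq, mul_inv_cancel_right]
  exact hs

theorem scal_le_N (H : Hyp ρ p m n h e) {r : G} (hr : r ∈ R ρ p e) : scal ρ ≤ N ρ p e r := fun z hz => by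
  refine mem_N_of H hr (self_mem_cls hr) ?_
  rw [scal_comm ρ H.inj hz, mul_inv_cancel_right]
  exact self_mem_cls hr

theorem T_pprime [CharP F p] [Fact p.Prime] (H : Hyp ρ p m n h e) {r : G} (hr : r ∈ R ρ p e) :
    (∀ x ∈ T ρ p e r, ∀ y ∈ T ρ p e r, x * y = y * x) ∧ ¬ p ∣ Nat.card (T ρ p e r) := by
  refine closure_pprime p _ ?_ ?_
  · rintro x (hx | hx) y (hy | hy)
    · exact cls_comm H hr hx hy
    · exact (scal_comm ρ H.inj hy x).symm
    · exact scal_comm ρ H.inj hx y
    · exact scal_comm ρ H.inj hx y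
  · rintro x (hx | hx)
    · exact hx.1.2.1
    · exact not_dvd_orderOf_scal ρ p H.inj hx

theorem mem_T_self {r : G} (hr : r ∈ R ρ p e) : r ∈ T ρ p e r :=
  Subgroup.subset_closure (Or.inl (self_mem_cls hr))

theorem scal_le_T (r : G) : scal ρ ≤ T ρ p e r := fun _ hz => Subgroup.subset_closure (Or.inr hz)

theorem T_le_N [CharP F p] [Fact p.Prime] (H : Hyp ρ p m n h e) {r : G} (hr : r ∈ R ρ p e) :
    T ρ p e r ≤ N ρ p e r := fun t ht => by
  refine mem_N_of H hr (self_mem_cls hr) ?_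
  rw [(T_pprime H hr).1 t ht r (mem_T_self hr), mul_inv_cancel_right]
  exact self_mem_cls hr

theorem X_conj (H : Hyp ρ p m n h e) {r g u : G} (hu : u ∈ N ρ p e r)
    (hg : g ∈ X ρ p e r) : u * g * u⁻¹ ∈ X ρ p e r := by
  obtain ⟨h1, s, hs, hgs⟩ := hg
  exact ⟨fun hc => h1 ((scal_conj ρ H.inj).1 hc), u * s * u⁻¹, (hu s).1 hs, commute_conj u hgs⟩

/-- The commutant of an element, as a linear subspace. -/
noncomputable def commutant (a : G) : Submodule F (Module.End F V) :=
  LinearMap.ker (LinearMap.mulLeft F (ρ a) - LinearMap.mulRight F (ρ a))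

theorem mem_commutant {a : G} {f : Module.End F V} : f ∈ commutant (ρ := ρ) a ↔ ρ a * f = f * ρ a := by
  simp [commutant, sub_eq_zero]

/-- Every element has, after at most `n^2 + 1` steps, a stable power, unless a bounded power is
scalar. -/
theorem stab [Fact p.Prime] (H : Hyp ρ p m n h e) (x : G) :
    x ^ e ^ (n * n + 2) ∈ scal ρ ∨
      ∃ k j, x ^ k ∈ R ρ p e ∧ x ^ e ^ (n * n + 2) = (x ^ k) ^ j := by
  set d : ℕ → ℕ := fun i => finrank F (commutant (ρ := ρ) (x ^ e ^ (i + 1))) with hd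
  have hmono : ∀ i, commutant (ρ := ρ) (x ^ e ^ (i + 1)) ≤ commutant (ρ := ρ) (x ^ e ^ (i + 1 + 1)) := by
    intro i f hf
    rw [mem_commutant] at hf ⊢
    rw [pow_succ e (i + 1), pow_mul, map_pow]
    exact Commute.pow_left hf e
  have hbound : ∀ i, d i ≤ n * n := fun i =>
    ((commutant (ρ := ρ) (x ^ e ^ (i + 1))).finrank_le).trans (by
      rw [Module.finrank_linearMap]; exact Nat.mul_le_mul H.dim H.dim)
  obtain ⟨i, hi, hie⟩ : ∃ i ≤ n * n, d i = d (i + 1) := by
    by_contra hne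
    push Not at hne
    have hgrow : ∀ i ≤ n * n + 1, i ≤ d i := by
      intro i hi
      induction i with
      | zero => omega
      | succ i ih =>
        have h1 : d i ≤ d (i + 1) := Submodule.finrank_mono (hmono i)
        have h2 := hne i (by omega)
        have h3 := ih (by omega)
        omega
    have h1 := hgrow (n * n + 1) le_rfl
    have h2 := hbound (n * n + 1)
    omega
  set y := x ^ e ^ (i + 1) with hy
  have hpow : x ^ e ^ (n * n + 2) = y ^ e ^ (n * n + 2 - (i + 1)) := by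
    rw [hy, ← pow_mul, ← pow_add, Nat.add_sub_cancel' (by omega)]
  by_cases hys : y ∈ scal ρ
  · exact Or.inl (hpow ▸ pow_mem hys _)
  · refine Or.inr ⟨e ^ (i + 1), e ^ (n * n + 2 - (i + 1)), ⟨hys, ?_, fun z hz => ?_⟩, hpow⟩
    · rw [pow_succ e i, pow_mul]
      exact not_dvd_orderOf_pow p m H.sylow _ H.edvd
    · have heq : commutant (ρ := ρ) y = commutant (ρ := ρ) (y ^ e) := by
        have h' := Submodule.eq_of_le_of_finrank_eq (hmono i) hie
        rwa [pow_succ e (i + 1), pow_mul] at h'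
      have hz' : ρ z ∈ commutant (ρ := ρ) (y ^ e) := by
        rw [mem_commutant, ← map_mul, ← map_mul, hz.eq]
      rw [← heq, mem_commutant, ← map_mul, ← map_mul] at hz'
      exact (H.inj hz').symm

/-- An abelian `p'`-group commuting with `g`, in which no stable element commuting with `g` has
its powers outside `S`, is small modulo `S`. -/
theorem card_le_of_stab [IsAlgClosed F] [CharP F p] [Fact p.Prime] (H : Hyp ρ p m n h e)
    (A : Subgroup G) (hc : ∀ x ∈ A, ∀ y ∈ A, x * y = y * x) (hp : ¬ p ∣ Nat.card A) (S : Subgroup G)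
    (hzS : scal ρ ≤ S) (hS : ∀ a ∈ A, a ∈ R ρ p e → a ∈ S) :
    Nat.card A ≤ (e ^ (n * n + 2)) ^ n * Nat.card S := by
  have hpos : 0 < e ^ (n * n + 2) := pow_pos H.epos _
  refine le_trans (card_le_pow_mul ρ p H.inj A hc hp _ hpos S fun a ha => ?_) ?_
  · rcases stab H a with h1 | ⟨k, j, hk, hj⟩
    · exact hzS h1
    · rw [hj]; exact pow_mem (hS _ (pow_mem ha k) hk) j
  · exact Nat.mul_le_mul_right _ (Nat.pow_le_pow_right hpos H.dim)

end Cfsg.Agent.JordanCharP80Classes
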