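import Mathlib
import Cfsg.Agent.Lib.JordanCharP80Classes

/-!
The class equation in Jordan's theorem in characteristic `p`: if centralisers of non-scalar
elements are abelian-by-bounded then the group is bounded modulo scalars or has one commutation
class, hence an abelian subgroup of bounded index.
-/

set_option autoImplicit false

universe u v w

namespace Cfsg.Agent.JordanCharP80Bound

open Module
open Cfsg.Agent.JordanCharP80Diag Cfsg.Agent.JordanCharP80Classes

/-- The index bound for the normaliser of a class over its torus. -/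
def Wb (n h e : ℕ) : ℕ := n ^ n * (h * (e ^ (n * n + 2)) ^ n)

/-- The centraliser bound for elements attached to no class. -/
def Kb (n h e : ℕ) : ℕ := n * (Wb n h e * (e ^ (n * n + 2)) ^ n)

/-- Counting through a map whose fibres lie in cosets of a subgroup. -/
theorem card_le_mul {α : Type*} {β : Type*} [Finite α] [Finite β] {G : Type*} [Group G] [Finite G]
    (f : α → β) (v : α → G) (C : Subgroup G) (hC : ∀ x y, f x = f y → (v y)⁻¹ * v x ∈ C)
    (hinj : ∀ x y, f x = f y → v x = v y → x = y) : Nat.card α ≤ Nat.card β * Nat.card C := by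
  classical
  let rep : β → G := fun b => if hb : ∃ x, f x = b then v hb.choose else 1
  have hrep : ∀ x, (rep (f x))⁻¹ * v x ∈ C := by
    intro x
    have hb : ∃ y, f y = f x := ⟨x, rfl⟩
    simp only [rep, dif_pos hb]
    exact hC x _ hb.choose_spec.symm
  rw [← Nat.card_prod]
  refine Nat.card_le_card_of_injective (fun x => (f x, (⟨_, hrep x⟩ : C))) ?_
  intro x y hxy
  simp only [Prod.mk.injEq, Subtype.mk.injEq] at hxy
  obtain ⟨h1, h2⟩ := hxy
  rw [h1] at h2
  exact hinj x y h1 (mul_left_cancel h2)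

theorem pow_self_le {a b : ℕ} (hab : a ≤ b) : a ^ a ≤ b ^ b := by
  rcases Nat.eq_zero_or_pos a with rfl | ha
  · rcases Nat.eq_zero_or_pos b with rfl | hb
    · exact le_rfl
    · simpa using Nat.one_le_pow b b hb
  · exact (Nat.pow_le_pow_left hab a).trans (Nat.pow_le_pow_right (ha.trans_le hab) hab)

variable {F : Type w} [Field F] [IsAlgClosed F] {V : Type v} [AddCommGroup V] [Module F V]
  [FiniteDimensional F V] {G : Type u} [Group G] [Finite G] {ρ : G →* Module.End F V}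
  {p m n h e : ℕ} [CharP F p] [Fact p.Prime]

theorem nontrivial_of_not_scal {g : G} (hg : g ∉ scal ρ) : Nontrivial V := by
  rcases subsingleton_or_nontrivial V with hV | hV
  · exact absurd ⟨0, Subsingleton.elim _ _⟩ hg
  · exact hV

theorem card_N_le (H : Hyp ρ p m n h e) {r : G} (hr : r ∈ R ρ p e) :
    Nat.card (N ρ p e r) ≤ Wb n h e * Nat.card (T ρ p e r) := by
  obtain ⟨hTc, hTp⟩ := T_pprime H hr
  obtain ⟨A, hAC, hAc, hAp, hAcard, -⟩ := H.cent r hr.1
  have hA : Nat.card A ≤ (e ^ (n * n + 2)) ^ n * Nat.card (T ρ p e r) := by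
    refine card_le_of_stab H A hAc hAp _ (scal_le_T r) fun a ha haR => ?_
    exact Subgroup.subset_closure (Or.inl ⟨haR, (Subgroup.mem_centralizer_singleton_iff.1 (hAC ha)).symm⟩)
  have hconj : ∀ x : N ρ p e r, ((x : G) * r * (x : G)⁻¹) ∈ T ρ p e r := fun x =>
    Subgroup.subset_closure (Or.inl ((x.2 r).1 (self_mem_cls hr)))
  have h1 : Nat.card (N ρ p e r) ≤ Nat.card {y : T ρ p e r // IsConj r (y : G)} *
      Nat.card (Subgroup.centralizer ({r} : Set G)) := by
    refine card_le_mul (fun x => (⟨⟨_, hconj x⟩, isConj_iff.2 ⟨(x : G), rfl⟩⟩ : {y : T ρ p e r // IsConj r (y : G)})) (fun x => (x : G)) _ ?_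
      fun x y _ hv => Subtype.ext hv
    intro x y hxy
    have h2 : (x : G) * r * (x : G)⁻¹ = (y : G) * r * (y : G)⁻¹ :=
      congrArg (fun t : {y : T ρ p e r // IsConj r (y : G)} => ((t.1 : G))) hxy
    rw [Subgroup.mem_centralizer_singleton_iff]
    calc (y : G)⁻¹ * x * r = (y : G)⁻¹ * (x * r * (x : G)⁻¹) * x := by group
      _ = (y : G)⁻¹ * ((y : G) * r * (y : G)⁻¹) * x := by rw [h2]
      _ = r * ((y : G)⁻¹ * x) := by group
  refine h1.trans ?_
  calc _ ≤ n ^ n * (h * ((e ^ (n * n + 2)) ^ n * Nat.card (T ρ p e r))) :=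
        Nat.mul_le_mul ((card_conj_le ρ p H.inj _ hTc hTp r).trans (pow_self_le H.dim))
          (hAcard.trans (Nat.mul_le_mul_left h hA))
    _ = _ := by rw [Wb]; ring

theorem scal_lt_T {r : G} (hr : r ∈ R ρ p e) : 2 * Nat.card (scal ρ) ≤ Nat.card (T ρ p e r) := by
  have hle : scal ρ ≤ T ρ p e r := scal_le_T r
  obtain ⟨k, hk⟩ := Subgroup.card_dvd_of_le hle
  have hne : k ≠ 1 := fun h1 => by
    rw [h1, mul_one] at hk
    exact hr.1 ((Subgroup.eq_of_le_of_card_ge hle hk.le).symm ▸ mem_T_self hr)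
  have : k ≠ 0 := fun h0 => by
    rw [h0, mul_zero] at hk; exact Nat.card_pos.ne' hk
  rw [hk, mul_comm 2]
  exact Nat.mul_le_mul_left _ (by omega)

theorem card_T_le_X (H : Hyp ρ p m n h e) {r : G} (hr : r ∈ R ρ p e) :
    Nat.card (T ρ p e r) ≤ 2 * Nat.card (X ρ p e r) := by
  have h1 : (((T ρ p e r : Set G) \ (scal ρ : Set G))).ncard ≤ (X ρ p e r).ncard := by
    refine Set.ncard_le_ncard (fun t ht => ⟨ht.2, r, self_mem_cls hr, ?_⟩) (Set.toFinite _)
    exact (T_pprime H hr).1 t ht.1 r (mem_T_self hr)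
  rw [Set.ncard_sdiff (scal_le_T r)] at h1
  have h2 := scal_lt_T hr
  simp only [← Nat.card_coe_set_eq, SetLike.coe_sort_coe] at h1
  omega

/-- Non-scalar elements commuting with no stable element. -/
def S0 (ρ : G →* Module.End F V) (p e : ℕ) : Set G :=
  {g | g ∉ scal ρ ∧ ∀ s ∈ R ρ p e, ¬ Commute g s}

theorem S0_dvd (H : Hyp ρ p m n h e) :
    Nat.card G ∣ (Kb n h e).factorial * Nat.card (S0 ρ p e) := by
  haveI := scal_normal ρ H.inj
  refine JordanCharP80Count.dvd_of_small_mod (scal ρ) _ _ ?_ ?_ ?_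
  · intro x g hg
    refine ⟨fun hc => hg.1 ((scal_conj ρ H.inj).1 hc), fun s hs hc => ?_⟩
    refine hg.2 _ (conj_R H hs x⁻¹) ?_
    simpa [mul_assoc] using commute_conj x⁻¹ hc
  · intro z hz g hg
    refine ⟨fun hc => hg.1 (by simpa using mul_mem hc (inv_mem hz)), fun s hs hc => ?_⟩
    refine hg.2 s hs ?_
    simpa using hc.mul_left (scal_comm ρ H.inj (inv_mem hz) s : Commute z⁻¹ s)
  · intro g hg
    haveI := nontrivial_of_not_scal hg.1
    obtain ⟨A, hAC, hAc, hAp, hAcard, -⟩ := H.cent g hg.1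
    have hA : Nat.card A ≤ (e ^ (n * n + 2)) ^ n * Nat.card (scal ρ) := by
      refine card_le_of_stab H A hAc hAp _ le_rfl fun a ha haR => ?_
      exact absurd (Subgroup.mem_centralizer_singleton_iff.1 (hAC ha) : Commute a g).symm (hg.2 a haR)
    refine (card_comm_mod_le ρ H.inj g).trans ?_
    calc _ ≤ n * (h * ((e ^ (n * n + 2)) ^ n * Nat.card (scal ρ))) :=
          Nat.mul_le_mul H.dim (hAcard.trans (Nat.mul_le_mul_left h hA))
      _ ≤ _ := by
        rcases Nat.eq_zero_or_pos n with hn | hn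
        · simp [hn]
        · rw [Kb, Wb]
          have h1 : 1 ≤ n ^ n := Nat.one_le_pow _ _ hn
          have h2 : 1 ≤ (e ^ (n * n + 2)) ^ n := Nat.one_le_pow _ _ (pow_pos H.epos _)
          calc n * (h * ((e ^ (n * n + 2)) ^ n * Nat.card (scal ρ)))
              = n * (1 * (h * 1) * (e ^ (n * n + 2)) ^ n) * Nat.card (scal ρ) := by ring
            _ ≤ _ := Nat.mul_le_mul_right _ (Nat.mul_le_mul_left _ (Nat.mul_le_mul_right _
                (Nat.mul_le_mul h1 (Nat.mul_le_mul_left _ h2))))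

/-- Non-scalar elements of the stabiliser of a class that are not attached to it. -/
def Sr (ρ : G →* Module.End F V) (p e : ℕ) (r : G) : Set G :=
  {g | g ∈ N ρ p e r ∧ g ∉ scal ρ ∧ g ∉ X ρ p e r}

theorem card_centralizer_N_le (H : Hyp ρ p m n h e) {r g : G} (hr : r ∈ R ρ p e)
    (hg : g ∈ Sr ρ p e r) :
    Nat.card ↥(N ρ p e r ⊓ Subgroup.centralizer ({g} : Set G)) ≤
      Wb n h e * ((e ^ (n * n + 2)) ^ n * Nat.card (scal ρ)) := by
  set C := N ρ p e r ⊓ Subgroup.centralizer ({g} : Set G) with hC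
  obtain ⟨hTc, hTp⟩ := T_pprime H hr
  have hCT : Nat.card ↥(C ⊓ T ρ p e r) ≤ (e ^ (n * n + 2)) ^ n * Nat.card (scal ρ) := by
    refine card_le_of_stab H _ (fun x hx y hy => hTc x (Subgroup.mem_inf.1 hx).2 y (Subgroup.mem_inf.1 hy).2)
      (fun hd => hTp (hd.trans (Subgroup.card_dvd_of_le inf_le_right))) _ le_rfl fun a ha haR => ?_
    refine absurd ⟨hg.2.1, a, ⟨haR, ?_⟩, ?_⟩ hg.2.2
    · exact (hTc a (Subgroup.mem_inf.1 ha).2 r (mem_T_self hr) : Commute a r).symm
    · exact (Subgroup.mem_centralizer_singleton_iff.1 (Subgroup.mem_inf.1 (Subgroup.mem_inf.1 ha).1).2 : Commute a g).symm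
  have h1 : Nat.card (C × T ρ p e r) ≤ Nat.card (N ρ p e r) * Nat.card ↥(C ⊓ T ρ p e r) := by
    refine card_le_mul (fun x => (⟨(x.1 : G) * (x.2 : G),
      mul_mem (Subgroup.mem_inf.1 x.1.2).1 (T_le_N H hr x.2.2)⟩ : N ρ p e r)) (fun x => (x.1 : G)) _ ?_ ?_
    · intro x y hxy
      have h2 : (x.1 : G) * x.2 = y.1 * y.2 := congrArg (fun t : N ρ p e r => (t : G)) hxy
      refine Subgroup.mem_inf.2 ⟨mul_mem (inv_mem y.1.2) x.1.2, ?_⟩
      have h3 : (y.1 : G)⁻¹ * x.1 = y.2 * (x.2 : G)⁻¹ := by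
        rw [eq_mul_inv_iff_mul_eq, mul_assoc, h2, inv_mul_cancel_left]
      rw [h3]
      exact mul_mem y.2.2 (inv_mem x.2.2)
    · intro x y hxy hv
      have h2 : (x.1 : G) * x.2 = y.1 * y.2 := congrArg (fun t : N ρ p e r => (t : G)) hxy
      rw [hv] at h2
      exact Prod.ext (Subtype.ext hv) (Subtype.ext (mul_left_cancel h2))
  rw [Nat.card_prod] at h1
  refine Nat.le_of_mul_le_mul_right (c := Nat.card (T ρ p e r)) ?_ Nat.card_pos
  refine h1.trans (le_trans (Nat.mul_le_mul (card_N_le H hr) hCT) (le_of_eq ?_))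
  ring

theorem Sr_dvd (H : Hyp ρ p m n h e) {r : G} (hr : r ∈ R ρ p e) :
    Nat.card (N ρ p e r) ∣ (Kb n h e).factorial * Nat.card (Sr ρ p e r) := by
  set M := N ρ p e r with hM
  set ρ' : M →* Module.End F V := ρ.comp M.subtype with hρ'
  have hinj : Function.Injective ρ' := H.inj.comp M.subtype_injective
  haveI := scal_normal ρ' hinj
  have hZ : Nat.card (scal ρ') = Nat.card (scal ρ) :=
    Nat.card_congr
      { toFun := fun x => ⟨x.1.1, x.2⟩
        invFun := fun x => ⟨⟨x.1, scal_le_N H hr x.2⟩, x.2⟩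
        left_inv := fun x => rfl
        right_inv := fun x => rfl }
  have hS : Nat.card (Sr ρ p e r) = Nat.card {x : M // (x : G) ∈ Sr ρ p e r} :=
    Nat.card_congr
      { toFun := fun x => ⟨⟨x.1, x.2.1⟩, x.2⟩
        invFun := fun x => ⟨x.1.1, x.2⟩
        left_inv := fun x => rfl
        right_inv := fun x => rfl }
  rw [hS]
  refine JordanCharP80Count.dvd_of_small_mod (scal ρ') _ {x : M | (x : G) ∈ Sr ρ p e r} ?_ ?_ ?_
  · intro u g hg
    refine ⟨(u * g * u⁻¹).2, fun hc => hg.2.1 ((scal_conj ρ H.inj).1 hc), fun hc => hg.2.2 ?_⟩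
    simpa [mul_assoc] using X_conj H (inv_mem u.2) hc
  · intro z hz g hg
    have hz' : (z : G) ∈ scal ρ := hz
    refine ⟨(g * z).2, fun hc => hg.2.1 (by simpa using mul_mem hc (inv_mem hz')), fun hc => hg.2.2 ?_⟩
    obtain ⟨-, s, hs, hgs⟩ := hc
    refine ⟨hg.2.1, s, hs, ?_⟩
    simpa using hgs.mul_left (scal_comm ρ H.inj (inv_mem hz') s : Commute (z : G)⁻¹ s)
  · intro g hg
    haveI := nontrivial_of_not_scal hg.2.1
    refine (card_comm_mod_le ρ' hinj g).trans ?_
    have hcard : Nat.card (Subgroup.centralizer ({g} : Set M)) ≤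
        Nat.card ↥(M ⊓ Subgroup.centralizer ({(g : G)} : Set G)) := by
      refine Nat.card_le_card_of_injective (fun x => ⟨(x.1 : G), Subgroup.mem_inf.2 ⟨x.1.2, ?_⟩⟩) ?_
      · exact Subgroup.mem_centralizer_singleton_iff.2
          (congrArg Subtype.val (Subgroup.mem_centralizer_singleton_iff.1 x.2))
      · intro x y hxy
        exact Subtype.ext (Subtype.ext (congrArg (fun t => t.1) hxy))
    calc _ ≤ n * (Wb n h e * ((e ^ (n * n + 2)) ^ n * Nat.card (scal ρ))) :=
          Nat.mul_le_mul H.dim (hcard.trans (card_centralizer_N_le H hr hg))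
      _ = _ := by rw [Kb, hZ]; ring

/-- The conjugates of the elements attached to a class. -/
def Orb (ρ : G →* Module.End F V) (p e : ℕ) (r : G) : Set G :=
  {g | ∃ x : G, x⁻¹ * g * x ∈ X ρ p e r}

theorem card_orb (H : Hyp ρ p m n h e) {r : G} (hr : r ∈ R ρ p e) :
    Nat.card (Orb ρ p e r) * Nat.card (N ρ p e r) = Nat.card G * Nat.card (X ρ p e r) := by
  rw [← Nat.card_prod, ← Nat.card_prod]
  have hmem : ∀ y : G × X ρ p e r, y.1 * y.2 * y.1⁻¹ ∈ Orb ρ p e r := fun y =>
    ⟨y.1, by rw [show y.1⁻¹ * (y.1 * (y.2 : G) * y.1⁻¹) * y.1 = (y.2 : G) by group]; exact y.2.2⟩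
  have hN : ∀ (u : G) {y : G}, y ∈ X ρ p e r → u * y * u⁻¹ ∈ X ρ p e r → u ∈ N ρ p e r := by
    rintro u y ⟨hy, s, hs, hys⟩ ⟨huy, s', hs', hus'⟩
    exact mem_N_of H hr hs (mem_cls_of_commute H hr hs' (conj_R H hs.1 u) huy hus' (commute_conj u hys))
  refine (Nat.card_eq_of_bijective (fun y : G × X ρ p e r => ((⟨_, hmem y⟩ : Orb ρ p e r),
    (⟨(Exists.choose (hmem y))⁻¹ * y.1, ?_⟩ : N ρ p e r))) ⟨?_, ?_⟩).symm
  · refine hN _ y.2.2 ?_
    have h0 := (hmem y).choose_spec
    rwa [show (hmem y).choose⁻¹ * y.1 * (y.2 : G) * ((hmem y).choose⁻¹ * y.1)⁻¹ =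
      (hmem y).choose⁻¹ * (y.1 * (y.2 : G) * y.1⁻¹) * (hmem y).choose by group]
  · intro a b hab
    obtain ⟨h1, h2⟩ := Prod.mk.injEq _ _ _ _ ▸ hab
    have e1 : a.1 * (a.2 : G) * a.1⁻¹ = b.1 * (b.2 : G) * b.1⁻¹ :=
      congrArg (fun t : Orb ρ p e r => (t : G)) h1
    have e2 : (hmem a).choose⁻¹ * a.1 = (hmem b).choose⁻¹ * b.1 :=
      congrArg (fun t : N ρ p e r => (t : G)) h2
    have e3 : (hmem a).choose = (hmem b).choose :=
      congrArg (fun t : Orb ρ p e r => t.2.choose) h1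
    rw [e3] at e2
    have e4 := mul_left_cancel e2
    rw [e4] at e1
    exact Prod.ext e4 (Subtype.ext (mul_left_cancel (mul_right_cancel e1)))
  · rintro ⟨o, u⟩
    have h0 := o.2.choose_spec
    have hy : (u : G)⁻¹ * (o.2.choose⁻¹ * (o : G) * o.2.choose) * ((u : G)⁻¹)⁻¹ ∈ X ρ p e r :=
      X_conj H (inv_mem u.2) h0
    have he : o.2.choose * (u : G) * ((u : G)⁻¹ * (o.2.choose⁻¹ * (o : G) * o.2.choose) * ((u : G)⁻¹)⁻¹) *
        (o.2.choose * (u : G))⁻¹ = o := by group
    refine ⟨(o.2.choose * u, ⟨_, hy⟩), ?_⟩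
    have ho : (⟨_, hmem (o.2.choose * u, ⟨_, hy⟩)⟩ : Orb ρ p e r) = o := Subtype.ext he
    refine Prod.ext ho (Subtype.ext ?_)
    have e3 : (hmem (o.2.choose * (u : G), ⟨_, hy⟩)).choose = o.2.choose :=
      congrArg (fun t : Orb ρ p e r => t.2.choose) ho
    show (hmem (o.2.choose * (u : G), ⟨_, hy⟩)).choose⁻¹ * (o.2.choose * u) = u
    rw [e3, inv_mul_cancel_left]

/-- The class equation, orbit by orbit. -/
theorem orbit_list (H : Hyp ρ p m n h e) : ∀ (k : ℕ) (U : Set G), Nat.card U ≤ k →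
    (∀ g ∈ U, g ∉ scal ρ ∧ ∃ s ∈ R ρ p e, Commute g s) →
    (∀ x g, g ∈ U → x * g * x⁻¹ ∈ U) →
    (∀ g ∈ U, ∀ r ∈ R ρ p e, g ∈ X ρ p e r → X ρ p e r ⊆ U) →
    ∃ ns : List ℕ, ns.length * Nat.card G ≤ 2 * Wb n h e * Nat.card U ∧
      (∀ x ∈ ns, 0 < x ∧ x ≤ (scal ρ).index ∧
        (x = (scal ρ).index → ∃ r ∈ R ρ p e, N ρ p e r = ⊤)) ∧
      ∃ j : ℤ, ((Kb n h e).factorial : ℚ) * ((Nat.card U : ℚ) / Nat.card G +
        (ns.map fun x : ℕ => (x : ℚ)⁻¹).sum) = j := by
  intro k
  induction k with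
  | zero =>
    intro U hU _ _ _
    refine ⟨[], by simp, by simp, 0, ?_⟩
    simp [Nat.le_zero.1 hU]
  | succ k ih =>
    intro U hU hbig hconj hsat
    rcases U.eq_empty_or_nonempty with rfl | ⟨g, hg⟩
    · exact ⟨[], by simp, by simp, 0, by simp⟩
    obtain ⟨hgs, r, hr, hgr⟩ := hbig g hg
    have hgX : g ∈ X ρ p e r := ⟨hgs, r, self_mem_cls hr, hgr⟩
    have hXU := hsat g hg r hr hgX
    have hOU : Orb ρ p e r ⊆ U := by
      rintro o ⟨x, hx⟩
      have := hconj x _ (hXU hx)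
      rwa [show x * (x⁻¹ * o * x) * x⁻¹ = o by group] at this
    have hgO : g ∈ Orb ρ p e r := ⟨1, by simpa using hgX⟩
    have hsplit : Nat.card ↥(U \ Orb ρ p e r) + Nat.card (Orb ρ p e r) = Nat.card U := by
      simp only [Nat.card_coe_set_eq]
      exact Set.ncard_sdiff_add_ncard_of_subset hOU (Set.toFinite _)
    have hOpos : 0 < Nat.card (Orb ρ p e r) := by
      haveI : Nonempty (Orb ρ p e r) := ⟨⟨g, hgO⟩⟩
      exact Nat.card_pos
    obtain ⟨ns, hlen, hns, j, hj⟩ := ih (U \ Orb ρ p e r) (by omega) (fun a ha => hbig a ha.1)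
      (fun x a ha => ⟨hconj x a ha.1, by
        rintro ⟨y, hy⟩
        exact ha.2 ⟨x⁻¹ * y, by
          rwa [show (x⁻¹ * y)⁻¹ * a * (x⁻¹ * y) = y⁻¹ * (x * a * x⁻¹) * y by group]⟩⟩)
      (by
        intro a ha s hs hax b hb
        refine ⟨hsat a ha.1 s hs hax hb, ?_⟩
        rintro ⟨y, -, t', ht', hyt'⟩
        obtain ⟨hbs, t, ht, hbt⟩ := hb
        obtain ⟨has, s', hs', has'⟩ := hax
        have c1 : Commute (y⁻¹ * b * y) (y⁻¹ * t * y) := by simpa using commute_conj y⁻¹ hbt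
        have hb' : y⁻¹ * b * y ∉ scal ρ := fun hc => hbs (by
          have := (scal_normal ρ H.inj).conj_mem _ hc y; simpa [mul_assoc] using this)
        have ht1 : y⁻¹ * t * y ∈ R ρ p e := by simpa using conj_R H ht.1 y⁻¹
        have ht2 := mem_cls_of_commute H hr ht' ht1 hb' hyt' c1
        have hs1 : y⁻¹ * s' * y ∈ R ρ p e := by simpa using conj_R H hs'.1 y⁻¹
        have c2 : Commute (y⁻¹ * t * y) (y⁻¹ * s' * y) := by
          simpa using commute_conj y⁻¹ (cls_comm H hs ht hs')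
        have hs2 : y⁻¹ * s' * y ∈ cls ρ p e r := by
          rw [← cls_eq H hr ht2]; exact ⟨hs1, c2⟩
        refine ha.2 ⟨y, fun hc => has (by
          have := (scal_normal ρ H.inj).conj_mem _ hc y; simpa [mul_assoc] using this),
          y⁻¹ * s' * y, hs2, by simpa using commute_conj y⁻¹ has'⟩)
    obtain ⟨x, hx⟩ := Subgroup.card_dvd_of_le (scal_le_N H hr)
    have hxpos : 0 < x := by
      rcases Nat.eq_zero_or_pos x with h0 | h0
      · rw [h0, mul_zero] at hx; exact absurd hx Nat.card_pos.ne'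
      · exact h0
    have hidx : Nat.card (scal ρ) * (scal ρ).index = Nat.card G := (scal ρ).card_mul_index
    refine ⟨x :: ns, ?_, ?_, ?_⟩
    · have h1 : Nat.card G ≤ 2 * Wb n h e * Nat.card (Orb ρ p e r) := by
        refine Nat.le_of_mul_le_mul_right (c := Nat.card (N ρ p e r)) ?_ Nat.card_pos
        calc Nat.card G * Nat.card (N ρ p e r)
            ≤ Nat.card G * (Wb n h e * (2 * Nat.card (X ρ p e r))) :=
              Nat.mul_le_mul_left _ ((card_N_le H hr).trans (Nat.mul_le_mul_left _ (card_T_le_X H hr)))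
          _ = 2 * Wb n h e * (Nat.card G * Nat.card (X ρ p e r)) := by ring
          _ = _ := by rw [← card_orb H hr]; ring
      rw [List.length_cons, add_mul, one_mul, ← hsplit, mul_add]
      exact Nat.add_le_add hlen h1
    · intro y hy
      rcases List.mem_cons.1 hy with rfl | hy
      · refine ⟨hxpos, ?_, fun hye => ⟨r, hr, ?_⟩⟩
        · refine Nat.le_of_mul_le_mul_left (c := Nat.card (scal ρ)) ?_ Nat.card_pos
          rw [← hx, hidx]
          exact Subgroup.card_le_card_group _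
        · refine Subgroup.eq_top_of_card_eq _ ?_
          rw [hx, hye, hidx]
      · exact hns y hy
    · obtain ⟨c, hc⟩ := Sr_dvd H hr
      refine ⟨j + ((Kb n h e).factorial : ℤ) - c, ?_⟩
      have hNset : Nat.card (N ρ p e r) =
          Nat.card (scal ρ) + (Nat.card (X ρ p e r) + Nat.card (Sr ρ p e r)) := by
        rw [show Nat.card (N ρ p e r) = (N ρ p e r : Set G).ncard from Nat.card_coe_set_eq _,
          show Nat.card (scal ρ) = (scal ρ : Set G).ncard from Nat.card_coe_set_eq _,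
          Nat.card_coe_set_eq, Nat.card_coe_set_eq, ← Set.ncard_union_eq, ← Set.ncard_union_eq]
        · congr 1
          ext a
          simp only [Set.mem_union, SetLike.mem_coe]
          constructor
          · intro ha
            by_cases h1 : a ∈ scal ρ
            · exact Or.inl h1
            · by_cases h2 : a ∈ X ρ p e r
              · exact Or.inr (Or.inl h2)
              · exact Or.inr (Or.inr ⟨ha, h1, h2⟩)
          · rintro (ha | ha | ha)
            · exact scal_le_N H hr ha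
            · exact X_subset_N H hr ha
            · exact ha.1
        · rw [Set.disjoint_left]
          rintro a ha (h2 | h2)
          · exact h2.1 ha
          · exact h2.2.1 ha
        all_goals try exact Set.toFinite _
        rw [Set.disjoint_left]
        exact fun a ha h2 => h2.2.2 ha
      have hGpos : (Nat.card G : ℚ) ≠ 0 := Nat.cast_ne_zero.2 Nat.card_pos.ne'
      have hNpos : (Nat.card (N ρ p e r) : ℚ) ≠ 0 := Nat.cast_ne_zero.2 Nat.card_pos.ne'
      have hzpos : (Nat.card (scal ρ) : ℚ) ≠ 0 := Nat.cast_ne_zero.2 Nat.card_pos.ne'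
      have q1 : (Nat.card (Orb ρ p e r) : ℚ) / Nat.card G =
          (Nat.card (X ρ p e r) : ℚ) / Nat.card (N ρ p e r) := by
        rw [div_eq_div_iff hGpos hNpos]
        exact_mod_cast (card_orb H hr).trans (mul_comm _ _)
      have q2 : (x : ℚ)⁻¹ = (Nat.card (scal ρ) : ℚ) / Nat.card (N ρ p e r) := by
        rw [hx]; push_cast; field_simp
      have q3 : ((Kb n h e).factorial : ℚ) * ((Nat.card (Sr ρ p e r) : ℚ) / Nat.card (N ρ p e r)) = c := by
        rw [mul_div_assoc', div_eq_iff hNpos]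
        exact_mod_cast hc.trans (mul_comm _ _)
      have q4 : (Nat.card (N ρ p e r) : ℚ) = (Nat.card (scal ρ) : ℚ) +
          ((Nat.card (X ρ p e r) : ℚ) + (Nat.card (Sr ρ p e r) : ℚ)) := by exact_mod_cast hNset
      have q5 : (Nat.card (scal ρ) : ℚ) / Nat.card (N ρ p e r) +
          (Nat.card (X ρ p e r) : ℚ) / Nat.card (N ρ p e r) +
          (Nat.card (Sr ρ p e r) : ℚ) / Nat.card (N ρ p e r) = 1 := by
        rw [← add_div, ← add_div, div_eq_one_iff_eq hNpos, q4]; ring
      rw [List.map_cons, List.sum_cons, ← hsplit]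
      push_cast
      rw [← hj, ← q3, add_div, q1, q2]
      linear_combination ((Kb n h e).factorial : ℚ) * q5

/-- Either the group is bounded modulo scalars or it has an abelian `p'`-subgroup of bounded
index. -/
theorem main_bound (p m n h e : ℕ) [Fact p.Prime] : ∃ B : ℕ, ∀ {F : Type w} [Field F] [IsAlgClosed F]
    [CharP F p] {G : Type u} [Group G] [Finite G] {V : Type v}
    [AddCommGroup V] [Module F V] [FiniteDimensional F V] {ρ : G →* Module.End F V},
    Hyp ρ p m n h e →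
    ∃ A : Subgroup G, (∀ x ∈ A, ∀ y ∈ A, x * y = y * x) ∧ ¬ p ∣ Nat.card A ∧ A.index ≤ B := by
  obtain ⟨B, hB⟩ := JordanCharP80Count.recip_bound (2 * Wb n h e) (Kb n h e).factorial
    (Nat.factorial_pos _)
  refine ⟨max B (Wb n h e), fun {F} _ _ _ {G} _ _ {V} _ _ _ {ρ} H => ?_⟩
  set Ub : Set G := {g | g ∉ scal ρ ∧ ∃ s ∈ R ρ p e, Commute g s} with hUb
  obtain ⟨ns, hlen, hns, j, hj⟩ := orbit_list H (Nat.card Ub) Ub le_rfl (fun g hg => hg)
    (fun x g hg => ⟨fun hc => hg.1 ((scal_conj ρ H.inj).1 hc), by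
      obtain ⟨s, hs, hgs⟩ := hg.2
      exact ⟨x * s * x⁻¹, conj_R H hs x, commute_conj x hgs⟩⟩)
    (fun g _ r hr _ a ha => ⟨ha.1, by
      obtain ⟨s, hs, has⟩ := ha.2
      exact ⟨s, hs.1, has⟩⟩)
  obtain ⟨c, hc⟩ := S0_dvd H
  have hG : Nat.card G = Nat.card (scal ρ) + (Nat.card Ub + Nat.card (S0 ρ p e)) := by
    rw [show Nat.card (scal ρ) = (scal ρ : Set G).ncard from Nat.card_coe_set_eq _,
      Nat.card_coe_set_eq, Nat.card_coe_set_eq, ← Set.ncard_union_eq, ← Set.ncard_union_eq,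
      ← Set.ncard_univ]
    · congr 1
      ext a
      simp only [Set.mem_univ, true_iff, Set.mem_union, SetLike.mem_coe]
      by_cases h1 : a ∈ scal ρ
      · exact Or.inl h1
      · by_cases h2 : ∃ s ∈ R ρ p e, Commute a s
        · exact Or.inr (Or.inl ⟨h1, h2⟩)
        · exact Or.inr (Or.inr ⟨h1, fun s hs hcs => h2 ⟨s, hs, hcs⟩⟩)
    · rw [Set.disjoint_left]
      rintro a ha (h2 | h2)
      · exact h2.1 ha
      · exact h2.1 ha
    all_goals try exact Set.toFinite _
    rw [Set.disjoint_left]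
    rintro a ⟨-, s, hs, has⟩ h2
    exact h2.2 s hs has
  have hidx : Nat.card (scal ρ) * (scal ρ).index = Nat.card G := (scal ρ).card_mul_index
  have hlen' : ns.length ≤ 2 * Wb n h e := by
    refine Nat.le_of_mul_le_mul_right (c := Nat.card G) ?_ Nat.card_pos
    exact hlen.trans (Nat.mul_le_mul_left _ (by omega))
  have hipos : 0 < (scal ρ).index := Nat.pos_of_ne_zero Subgroup.index_ne_zero_of_finite
  rcases hB (scal ρ).index ns hipos (fun x hx => ⟨(hns x hx).1, (hns x hx).2.1⟩) hlen'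
    ⟨j + c - ((Kb n h e).factorial : ℤ), by
      have hGpos : (Nat.card G : ℚ) ≠ 0 := Nat.cast_ne_zero.2 Nat.card_pos.ne'
      have q2 : ((scal ρ).index : ℚ)⁻¹ = (Nat.card (scal ρ) : ℚ) / Nat.card G := by
        have hz : (Nat.card (scal ρ) : ℚ) ≠ 0 := Nat.cast_ne_zero.2 Nat.card_pos.ne'
        have hi : ((scal ρ).index : ℚ) ≠ 0 := Nat.cast_ne_zero.2 hipos.ne'
        rw [← hidx]; push_cast; field_simp
      have q3 : ((Kb n h e).factorial : ℚ) * ((Nat.card (S0 ρ p e) : ℚ) / Nat.card G) = c := by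
        rw [mul_div_assoc', div_eq_iff hGpos]
        exact_mod_cast hc.trans (mul_comm _ _)
      have q5 : (Nat.card (scal ρ) : ℚ) / Nat.card G + (Nat.card Ub : ℚ) / Nat.card G +
          (Nat.card (S0 ρ p e) : ℚ) / Nat.card G = 1 := by
        rw [← add_div, ← add_div, div_eq_one_iff_eq hGpos]
        exact_mod_cast (by omega : _ = Nat.card G)
      push_cast
      rw [← hj, ← q3, q2]
      linear_combination (-((Kb n h e).factorial : ℚ)) * q5⟩ with hsmall | hmem
  · refine ⟨scal ρ, fun x hx y _ => scal_comm ρ H.inj hx y, fun hd => ?_, le_max_of_le_left hsmall⟩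
    obtain ⟨x, hx⟩ := exists_prime_orderOf_dvd_card' p hd
    refine not_dvd_orderOf_scal ρ p H.inj x.2 ?_
    rw [Subgroup.orderOf_coe, hx]
  · obtain ⟨r, hr, hN⟩ := (hns _ hmem).2.2 rfl
    obtain ⟨hTc, hTp⟩ := T_pprime H hr
    refine ⟨T ρ p e r, hTc, hTp, le_max_of_le_right ?_⟩
    refine Nat.le_of_mul_le_mul_left (c := Nat.card (T ρ p e r)) ?_ Nat.card_pos
    rw [(T ρ p e r).card_mul_index, mul_comm]
    have := card_N_le H hr
    rwa [hN, Subgroup.card_top] at this

end Cfsg.Agent.JordanCharP80Bound
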