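import Cfsg.Agent.Lib.JordanDivisionFiniteTools

/-!
A finite special Jordan division algebra is a field: an additive subgroup `J` of a finite ring,
containing `1`, closed under `a b a`, all of whose nonzero elements are units, is commutative and
closed under multiplication.
-/

set_option autoImplicit false

namespace Cfsg.Agent.JordanDivisionFinite

variable {R : Type*} [Ring R] [Finite R]

/-- The hypotheses on `J`. -/
structure JDiv (J : AddSubgroup R) : Prop where
  one_mem : (1 : R) ∈ J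
  sandwich : ∀ a ∈ J, ∀ b ∈ J, a * b * a ∈ J
  unit : ∀ a ∈ J, a ≠ 0 → IsUnit a

namespace JDiv

variable {J : AddSubgroup R} (h : JDiv J)
include h

theorem natCast_mem (n : ℕ) : (n : R) ∈ J := by
  rw [← nsmul_one]; exact J.nsmul_mem h.one_mem n

theorem polar {a b g : R} (ha : a ∈ J) (hb : b ∈ J) (hg : g ∈ J) : a * g * b + b * g * a ∈ J := by
  have e : a * g * b + b * g * a = (a + b) * g * (a + b) - a * g * a - b * g * b := by noncomm_ring
  rw [e]
  exact J.sub_mem (J.sub_mem (h.sandwich _ (J.add_mem ha hb) _ hg) (h.sandwich _ ha _ hg))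
    (h.sandwich _ hb _ hg)

theorem pow_mem {a : R} (ha : a ∈ J) (n : ℕ) : a ^ n ∈ J := by
  induction n using Nat.strong_induction_on with
  | _ n ih =>
    rcases n with _ | _ | n
    · rw [pow_zero]; exact h.one_mem
    · rwa [pow_one]
    · have e : a ^ (n + 1 + 1) = a * a ^ n * a := by rw [← pow_succ', ← pow_succ]
      rw [e]
      exact h.sandwich _ ha _ (ih n (by omega))

theorem exists_char [Nontrivial R] : ∃ p : ℕ, p.Prime ∧ (p : R) = 0 := by
  obtain ⟨p, hp⟩ := CharP.exists R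
  refine ⟨p, ?_, CharP.cast_eq_zero R p⟩
  rcases Nat.eq_zero_or_pos p with h0 | hpos
  · subst h0
    haveI := CharP.charP_to_charZero R
    exact absurd (Nat.cast_injective (R := R)) (not_injective_infinite_finite _)
  by_contra hnp
  rcases Nat.lt_or_ge p 2 with hp2 | hp2
  · exact CharP.char_ne_one R p (by omega)
  obtain ⟨a, b, ha2, hb2, hab⟩ : ∃ a b, 2 ≤ a ∧ 2 ≤ b ∧ a * b = p := by
    obtain ⟨a, ha, ha2, hap⟩ := Nat.exists_dvd_of_not_prime2 hp2 hnp
    obtain ⟨b, hb⟩ := ha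
    refine ⟨a, b, ha2, ?_, hb.symm⟩
    by_contra hb1
    interval_cases b <;> omega
  have hne : ∀ c, 0 < c → c < p → (c : R) ≠ 0 := fun c hc hcp hz =>
    absurd (Nat.le_of_dvd hc ((CharP.cast_eq_zero_iff R p c).mp hz)) (not_le.mpr hcp)
  have hua := h.unit _ (h.natCast_mem a) (hne a (by omega) (by nlinarith))
  have hub := h.unit _ (h.natCast_mem b) (hne b (by omega) (by nlinarith))
  have := hua.mul hub
  rw [← Nat.cast_mul, hab, CharP.cast_eq_zero R p] at this
  exact not_isUnit_zero this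

end JDiv

/-! ### A maximal field inside `J` and its projections -/

variable (p : ℕ) [Fact p.Prime] (K : Type*) [Field K] [Finite K] [Algebra (ZMod p) K]

/-- A maximal field inside `J`. -/
structure MaxField (J : AddSubgroup R) (ι : K →+* R) : Prop where
  jd : JDiv J
  mem : ∀ k, ι k ∈ J
  maximal : ∀ f ∈ J, (∀ k, f * ι k = ι k * f) → ∃ k, ι k = f

variable {p K} (ι : K →+* R)

/-- `g` is `ψ`-semilinear. -/
def IsH (ψ : K ≃ₐ[ZMod p] K) (g : R) : Prop := ∀ k, g * ι k = ι (ψ k) * g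

variable {ι}

omit [Finite R] [Finite K] in
theorem IsH.mul {ψ ψ' : K ≃ₐ[ZMod p] K} {g g' : R} (hg : IsH ι ψ g) (hg' : IsH ι ψ' g') :
    IsH ι (ψ * ψ') (g * g') := fun k => by
  rw [mul_assoc, hg', ← mul_assoc, hg, mul_assoc]; rfl

omit [Finite R] [Finite K] in
theorem IsH.one : IsH ι (1 : K ≃ₐ[ZMod p] K) (1 : R) := fun k => by simp

omit [Finite R] [Finite K] in
theorem IsH.pow {ψ : K ≃ₐ[ZMod p] K} {g : R} (hg : IsH ι ψ g) (n : ℕ) : IsH ι (ψ ^ n) (g ^ n) := by
  induction n with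
  | zero => rw [pow_zero, pow_zero]; exact IsH.one
  | succ n ih => rw [pow_succ, pow_succ]; exact ih.mul hg

omit [Finite R] [Finite K] in
theorem IsH.smul {ψ : K ≃ₐ[ZMod p] K} {g : R} (hg : IsH ι ψ g) (k : K) : IsH ι ψ (ι k * g) :=
  fun l => by rw [mul_assoc, hg, ← mul_assoc, ← mul_assoc, ← map_mul, ← map_mul, mul_comm k]

omit [Finite R] [Finite K] in
theorem IsH.const (k : K) : IsH ι (1 : K ≃ₐ[ZMod p] K) (ι k) := fun l => by
  rw [AlgEquiv.one_apply, ← map_mul, ← map_mul, mul_comm]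

variable (p K)

/-- A basis over the prime field. -/
noncomputable def bas : Module.Basis (Fin (Module.finrank (ZMod p) K)) (ZMod p) K :=
  Module.finBasis (ZMod p) K

/-- Its trace dual. -/
noncomputable def dbas : Module.Basis (Fin (Module.finrank (ZMod p) K)) (ZMod p) K :=
  (Algebra.traceForm (ZMod p) K).dualBasis (traceForm_nondegenerate (ZMod p) K) (bas p K)

variable {p K}

theorem trace_dbas (i j : Fin (Module.finrank (ZMod p) K)) :
    Algebra.trace (ZMod p) K (dbas p K i * bas p K j) = if j = i then 1 else 0 := by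
  rw [← Algebra.traceForm_apply]
  exact LinearMap.BilinForm.apply_dualBasis_left _ _ _ _

theorem sum_bas (x : K) :
    ∑ i, Algebra.trace (ZMod p) K (dbas p K i * x) • bas p K i = x := by
  conv_rhs => rw [← (bas p K).sum_repr x]
  refine Finset.sum_congr rfl fun i _ => ?_
  congr 1
  conv_lhs => rw [← (bas p K).sum_repr x, Finset.mul_sum]
  simp only [map_sum, mul_smul_comm, map_smul, trace_dbas, smul_eq_mul, mul_ite, mul_one, mul_zero,
    Finset.sum_ite_eq', Finset.mem_univ, if_true]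

theorem sum_dbas (x : K) :
    ∑ i, Algebra.trace (ZMod p) K (x * bas p K i) • dbas p K i = x := by
  conv_rhs => rw [← (dbas p K).sum_repr x]
  refine Finset.sum_congr rfl fun i _ => ?_
  congr 1
  conv_lhs => rw [← (dbas p K).sum_repr x, Finset.sum_mul]
  simp only [map_sum, smul_mul_assoc, map_smul, trace_dbas, smul_eq_mul, mul_ite, mul_one, mul_zero,
    Finset.sum_ite_eq, Finset.mem_univ, if_true]

omit [Finite R] in
theorem ι_smul (z : ZMod p) (k : K) : ι (z • k) = (z.val : R) * ι k := by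
  rw [Algebra.smul_def, map_mul]
  congr 1
  conv_lhs => rw [← ZMod.natCast_zmod_val z, map_natCast, map_natCast]

variable (ι)

/-- The projection onto the `φ`-semilinear elements. -/
noncomputable def proj (φ : K ≃ₐ[ZMod p] K) (f : R) : R :=
  ∑ t, ι (φ (dbas p K t)) * f * ι (bas p K t)

omit [Finite R] in
theorem proj_add (φ : K ≃ₐ[ZMod p] K) (f g : R) : proj ι φ (f + g) = proj ι φ f + proj ι φ g := by
  simp only [proj, mul_add, add_mul, Finset.sum_add_distrib]

omit [Finite R] in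
theorem proj_zero (φ : K ≃ₐ[ZMod p] K) : proj ι φ 0 = 0 := by simp [proj]

omit [Finite R] in
theorem proj_neg (φ : K ≃ₐ[ZMod p] K) (f : R) : proj ι φ (-f) = -proj ι φ f := by
  simp only [proj, mul_neg, neg_mul, Finset.sum_neg_distrib]

omit [Finite R] in
theorem proj_isH (φ : K ≃ₐ[ZMod p] K) (f : R) : IsH ι φ (proj ι φ f) := by
  intro l
  have e1 : ∀ t, ι (φ (dbas p K t)) * f * ι (bas p K t) * ι l =
      ∑ i, ι (φ (Algebra.trace (ZMod p) K (dbas p K i * (bas p K t * l)) • dbas p K t)) * f *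
        ι (bas p K i) := by
    intro t
    rw [mul_assoc, ← map_mul]
    conv_lhs => rw [← sum_bas (p := p) (bas p K t * l), map_sum, Finset.mul_sum]
    refine Finset.sum_congr rfl fun i _ => ?_
    rw [map_smul φ, ι_smul, ι_smul]
    have hc := fun z : R => (Nat.cast_commute (Algebra.trace (ZMod p) K (dbas p K i * (bas p K t * l))).val z).eq
    rw [← mul_assoc, ← hc (ι (φ (dbas p K t)) * f)]
    simp only [mul_assoc]
  rw [proj, Finset.sum_mul, Finset.sum_congr rfl fun t _ => e1 t, Finset.sum_comm, Finset.mul_sum]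
  refine Finset.sum_congr rfl fun i _ => ?_
  rw [← Finset.sum_mul, ← Finset.sum_mul, ← map_sum, ← map_sum]
  have : ∑ t, Algebra.trace (ZMod p) K (dbas p K i * (bas p K t * l)) • dbas p K t = l * dbas p K i := by
    conv_rhs => rw [← sum_dbas (p := p) (l * dbas p K i)]
    refine Finset.sum_congr rfl fun t _ => ?_
    congr 2
    ring
  rw [this, map_mul, map_mul]
  simp only [mul_assoc]

theorem sum_proj (f : R) : ∑ φ : K ≃ₐ[ZMod p] K, proj ι φ f = f := by
  simp only [proj]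
  rw [Finset.sum_comm]
  have e : ∀ t, ∑ φ : K ≃ₐ[ZMod p] K, ι (φ (dbas p K t)) * f * ι (bas p K t) =
      f * ι (Algebra.trace (ZMod p) K (dbas p K t) • bas p K t) := by
    intro t
    rw [← Finset.sum_mul, ← Finset.sum_mul, ← map_sum, ← trace_eq_sum_automorphisms, ι_smul,
      Algebra.algebraMap_eq_smul_one, ι_smul, map_one, mul_one,
      (Nat.cast_commute _ f).eq, mul_assoc]
  rw [Finset.sum_congr rfl fun t _ => e t, ← Finset.mul_sum, ← map_sum]
  have : ∑ t, Algebra.trace (ZMod p) K (dbas p K t) • bas p K t = 1 := by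
    conv_rhs => rw [← sum_bas (p := p) (1 : K)]
    simp
  rw [this, map_one, mul_one]

variable {ι}

omit [Finite K] [Finite R] [Fact p.Prime] [Algebra (ZMod p) K] in
theorem ι_cancel {k : K} (hk : k ≠ 0) {x : R} (hx : ι k * x = 0) : x = 0 :=
  ((IsUnit.mk0 k hk).map ι).mul_right_eq_zero.mp hx

theorem proj_of_ne {φ ψ : K ≃ₐ[ZMod p] K} {g : R} (hg : IsH ι ψ g) (hne : φ ≠ ψ) :
    proj ι φ g = 0 := by
  have hψ : IsH ι ψ (proj ι φ g) := by
    intro l
    simp only [proj, Finset.sum_mul, Finset.mul_sum]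
    refine Finset.sum_congr rfl fun t _ => ?_
    rw [mul_assoc (ι (φ _) * g), ← map_mul, mul_comm (bas p K t) l, map_mul, mul_assoc (ι (φ _)),
      ← mul_assoc g, hg, mul_assoc, ← mul_assoc (ι (φ _)), ← map_mul, mul_comm (φ _), map_mul]
    simp only [mul_assoc]
  obtain ⟨l, hl⟩ : ∃ l, φ l ≠ ψ l := by
    by_contra hno
    push Not at hno
    exact hne (AlgEquiv.ext hno)
  refine ι_cancel (ι := ι) (sub_ne_zero.mpr hl) (x := proj ι φ g) ?_
  rw [map_sub, sub_mul, ← proj_isH ι φ g, ← hψ l, sub_self]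

theorem proj_self {ψ : K ≃ₐ[ZMod p] K} {g : R} (hg : IsH ι ψ g) : proj ι ψ g = g := by
  conv_rhs => rw [← sum_proj ι (p := p) g]
  exact (Finset.sum_eq_single ψ (fun φ _ hne => proj_of_ne hg hne)
    (fun h => absurd (Finset.mem_univ ψ) h)).symm

/-! ### Symmetrised projections stay inside `J` -/

namespace MaxField

variable {J : AddSubgroup R} (h : MaxField K J ι)
include h

omit [Fact p.Prime] [Algebra (ZMod p) K] [Finite K] in
theorem symm_sum {α : Type*} (s : Finset α) (C : α → α → ℕ) (hC : ∀ a b, C a b = C b a)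
    {X : α → R} (hX : ∀ a, X a ∈ J) {f : R} (hf : f ∈ J) :
    ∑ a ∈ s, ∑ b ∈ s, C a b • (X b * f * X a) ∈ J := by
  classical
  induction s using Finset.induction_on with
  | empty => simp
  | insert c s hc ih =>
    simp only [Finset.sum_insert hc, Finset.sum_add_distrib]
    have h1 : ∑ b ∈ s, C c b • (X b * f * X c) + ∑ a ∈ s, C a c • (X c * f * X a) ∈ J := by
      rw [← Finset.sum_add_distrib]
      refine J.sum_mem fun b _ => ?_
      rw [hC b c, ← nsmul_add]
      exact J.nsmul_mem (h.jd.polar (hX b) (hX c) hf) _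
    have h2 : C c c • (X c * f * X c) ∈ J := J.nsmul_mem (h.jd.sandwich _ (hX c) _ hf) _
    convert J.add_mem (J.add_mem h2 h1) ih using 1
    abel

theorem proj_eq_sum (φ : K ≃ₐ[ZMod p] K) (f : R) :
    proj ι φ f = ∑ t, ∑ i, (Algebra.trace (ZMod p) K (dbas p K i * φ (dbas p K t))).val •
      (ι (bas p K i) * f * ι (bas p K t)) := by
  refine Finset.sum_congr rfl fun t _ => ?_
  conv_lhs => rw [← sum_bas (p := p) (φ (dbas p K t)), map_sum, Finset.sum_mul, Finset.sum_mul]
  refine Finset.sum_congr rfl fun i _ => ?_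
  rw [ι_smul, nsmul_eq_mul]
  simp only [mul_assoc]

omit h in
omit [Finite R] in
theorem coef_symm (φ : K ≃ₐ[ZMod p] K) (t i : Fin (Module.finrank (ZMod p) K)) :
    Algebra.trace (ZMod p) K (dbas p K i * φ⁻¹ (dbas p K t)) =
      Algebra.trace (ZMod p) K (dbas p K t * φ (dbas p K i)) := by
  rw [← Algebra.trace_eq_of_algEquiv φ (dbas p K i * φ⁻¹ (dbas p K t)), map_mul]
  congr 1
  rw [mul_comm]
  congr 1
  exact φ.apply_symm_apply _

theorem pair_mem {φ : K ≃ₐ[ZMod p] K} {f : R} (hf : f ∈ J) :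
    proj ι φ f + proj ι φ⁻¹ f ∈ J := by
  rw [h.proj_eq_sum, h.proj_eq_sum, ← Finset.sum_add_distrib]
  simp only [← Finset.sum_add_distrib, ← add_nsmul]
  refine h.symm_sum Finset.univ _ (fun t i => ?_) (fun i => h.mem (bas p K i)) hf
  rw [coef_symm φ t i, coef_symm φ i t, add_comm]

theorem self_mem {φ : K ≃ₐ[ZMod p] K} (hφ : φ⁻¹ = φ) {f : R} (hf : f ∈ J) : proj ι φ f ∈ J := by
  rw [h.proj_eq_sum]
  refine h.symm_sum Finset.univ _ (fun t i => ?_) (fun i => h.mem (bas p K i)) hf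
  show _ = (Algebra.trace (ZMod p) K (dbas p K t * φ (dbas p K i))).val
  rw [← coef_symm φ t i, hφ]

theorem comm_mem_range {f : R} (hf : f ∈ J) (hH : IsH ι (1 : K ≃ₐ[ZMod p] K) f) :
    ∃ k, ι k = f := h.maximal f hf fun k => by simpa using hH k

theorem proj_one_range {f : R} (hf : f ∈ J) :
    ∃ k, ι k = proj ι (1 : K ≃ₐ[ZMod p] K) f :=
  h.comm_mem_range (h.self_mem inv_one hf) (proj_isH ι _ _)

theorem smul_zero_cancel {g : R} (hg : g ∈ J) (hg0 : g ≠ 0) {x : R} (hx : g * x = 0) : x = 0 :=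
  (h.jd.unit g hg hg0).mul_right_eq_zero.mp hx

end MaxField

/-! ### Twists -/

section Twist

omit [Finite R] [Finite K] in
theorem ringEquiv_pow (φ : K ≃ₐ[ZMod p] K) (n : ℕ) (x : K) :
    (φ.toRingEquiv ^ n) x = (φ ^ n) x := by
  induction n generalizing x with
  | zero => rfl
  | succ n ih => rw [pow_succ, pow_succ, RingAut.mul_apply, AlgEquiv.mul_apply, ih]; rfl

omit [Finite R] [Finite K] in
theorem ringEquiv_order (φ : K ≃ₐ[ZMod p] K) :
    φ.toRingEquiv ^ orderOf φ = 1 ∧ ∀ i < orderOf φ, φ.toRingEquiv ^ i = 1 → i = 0 := by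
  refine ⟨RingEquiv.ext fun x => by rw [ringEquiv_pow, pow_orderOf_eq_one]; rfl, fun i hi h1 => ?_⟩
  by_contra h0
  refine Nat.not_le.mpr hi (Nat.le_of_dvd (Nat.pos_of_ne_zero h0) (orderOf_dvd_of_pow_eq_one ?_))
  exact AlgEquiv.ext fun x => by rw [← ringEquiv_pow, h1]; rfl

/-- The fixed field of `φ`. -/
noncomputable def fixF (φ : K ≃ₐ[ZMod p] K) : IntermediateField (ZMod p) K :=
  IntermediateField.fixedField (Subgroup.zpowers φ)

omit [Finite R] in
theorem mem_fixF {φ : K ≃ₐ[ZMod p] K} {x : K} : x ∈ fixF φ ↔ φ x = x := by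
  rw [fixF, IntermediateField.mem_fixedField_iff]
  refine ⟨fun h => h φ (Subgroup.mem_zpowers φ), fun hx ψ hψ => ?_⟩
  have : φ ∈ MulAction.stabilizer (K ≃ₐ[ZMod p] K) x := hx
  exact (Subgroup.zpowers_le.mpr this) hψ

omit [Finite R] in
theorem finrank_fixF (φ : K ≃ₐ[ZMod p] K) : Module.finrank (fixF φ) K = orderOf φ := by
  rw [fixF, IntermediateField.finrank_fixedField_eq_card, Nat.card_zpowers]

/-- `φ` over its fixed field. -/
noncomputable def algF (φ : K ≃ₐ[ZMod p] K) : K ≃ₐ[fixF φ] K :=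
  AlgEquiv.ofRingEquiv (f := φ.toRingEquiv) fun x => mem_fixF.mp x.2

omit [Finite R] in
theorem deg_nrm (φ : K ≃ₐ[ZMod p] K) {σ : Type*} {f : (σ → fixF φ) → K} (hf : Deg 1 f) (n : ℕ) :
    Deg (n : ℤ) (fun x => nrm φ.toRingEquiv n (f x)) := by
  induction n with
  | zero => exact (Deg.const (le_refl (0 : ℤ)) (1 : K)).congr fun x => rfl
  | succ n ih =>
    refine ((Deg.map ih (algF φ)).mul hf).mono ?_ |>.congr fun x => rfl
    push_cast; rfl

omit [Finite R] in
theorem deg_lin (φ : K ≃ₐ[ZMod p] K) {σ : Type*} (g : Fin (Module.finrank (fixF φ) K) → σ) :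
    Deg 1 (fun x : σ → fixF φ => ∑ i, x (g i) • Module.finBasis (fixF φ) K i) :=
  Deg.sum _ fun i _ => ((Deg.coord (g i)).constMul (Module.finBasis (fixF φ) K i)).congr fun x => by
    rw [Algebra.smul_def, mul_comm]

omit [Finite R] in
/-- The twisted norm is surjective onto the fixed field. -/
theorem exists_nrm (φ : K ≃ₐ[ZMod p] K) {μ : K} (hμ : φ μ = μ) (hμ0 : μ ≠ 0) :
    ∃ β : K, β ≠ 0 ∧ nrm φ.toRingEquiv (orderOf φ) β * μ = 1 := by
  set m := orderOf φ with hmdef
  have hm : 0 < m := orderOf_pos φ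
  have hφm := (ringEquiv_order φ).1
  let F := fixF φ
  let b := Module.finBasis F K
  let aFun : (Option (Fin (Module.finrank F K)) → F) → K := fun x => ∑ i, x (some i) • b i
  let sFun : (Option (Fin (Module.finrank F K)) → F) → K := fun x => algebraMap F K (x none)
  have hg : Deg (m : ℤ) (fun x => nrm φ.toRingEquiv m (aFun x) * μ + -1 * nrm φ.toRingEquiv m (sFun x)) := by
    refine Deg.add ?_ (Deg.constMul (deg_nrm φ (Deg.coord none) m) (-1))
    exact ((deg_nrm φ (deg_lin φ some) m).constMul μ).congr fun x => mul_comm _ _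
  obtain ⟨x, hx0, hx⟩ := exists_zero hg
    (by rw [Fintype.card_option, Fintype.card_fin, finrank_fixF]; push_cast; omega) (by positivity)
    (fun x => ⟨⟨nrm φ.toRingEquiv m (aFun x) * μ + -1 * nrm φ.toRingEquiv m (sFun x), mem_fixF.mpr (by
      rw [map_add, map_mul, map_mul, hμ, map_neg, map_one]
      have hn : ∀ y, φ (nrm φ.toRingEquiv m y) = nrm φ.toRingEquiv m y := nrm_fixed _ hφm
      rw [hn, hn])⟩, rfl⟩)
    (by simp [aFun, sFun, nrm_zero_arg _ hm.ne'])
  have hs : sFun x ≠ 0 := by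
    intro hs
    rw [hs, nrm_zero_arg _ hm.ne', mul_zero, add_zero] at hx
    rcases mul_eq_zero.mp hx with hx | hx
    · refine hx0 (funext fun i => ?_)
      have ha : aFun x = 0 := by
        by_contra ha
        exact nrm_ne_zero _ m ha hx
      cases i with
      | none => exact (algebraMap F K).injective (hs.trans (map_zero _).symm)
      | some i => exact Fintype.linearIndependent_iff.mp b.linearIndependent (fun i => x (some i)) ha i
    · exact hμ0 hx
  have hns := nrm_ne_zero φ.toRingEquiv m hs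
  refine ⟨aFun x * (sFun x)⁻¹, mul_ne_zero ?_ (inv_ne_zero hs), ?_⟩
  · intro ha
    rw [ha, nrm_zero_arg _ hm.ne', zero_mul, zero_add] at hx
    simp [hns] at hx
  · have e : nrm φ.toRingEquiv m (sFun x)⁻¹ = (nrm φ.toRingEquiv m (sFun x))⁻¹ := by
      refine eq_inv_of_mul_eq_one_left ?_
      rw [← nrm_mul, inv_mul_cancel₀ hs, nrm_fixed_arg _ (map_one _), one_pow]
    rw [nrm_mul, e]
    field_simp
    linear_combination hx

omit [Finite R] [Finite K] in
theorem twist_pow {φ : K ≃ₐ[ZMod p] K} {A : R} (hA : IsH ι φ A) (a : K) (n : ℕ) :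
    (ι a * A) ^ n = ι (nrm φ.toRingEquiv n a) * A ^ n := by
  induction n with
  | zero => simp
  | succ n ih =>
    rw [pow_succ', ih, pow_succ', nrm_succ, map_mul]
    rw [mul_assoc, ← mul_assoc A, hA]
    have : ι a * ι (φ (nrm φ.toRingEquiv n a)) = ι (φ.toRingEquiv (nrm φ.toRingEquiv n a)) * ι a := by
      rw [← map_mul, ← map_mul, mul_comm]; rfl
    rw [← mul_assoc, ← mul_assoc, this]
    simp only [mul_assoc]

end Twist

/-! ### The impossible configurations -/

namespace MaxField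

variable {J : AddSubgroup R} (h : MaxField K J ι)
include h

/-- An involutory twist cannot occur. -/
theorem no_involution {φ : K ≃ₐ[ZMod p] K} (hφ : φ⁻¹ = φ) (hne : φ ≠ 1) {A : R}
    (hA : IsH ι φ A) (hAJ : A ∈ J) (hA0 : A ≠ 0) : False := by
  have hord : orderOf φ = 2 := orderOf_eq_prime (by rw [pow_two]; nth_rw 1 [← hφ]; exact inv_mul_cancel φ) hne
  have hAA : IsH ι (1 : K ≃ₐ[ZMod p] K) (A * A) := by
    have := hA.mul hA
    rwa [show φ * φ = 1 by nth_rw 1 [← hφ]; exact inv_mul_cancel φ] at this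
  have hAAJ : A * A ∈ J := by
    have := h.jd.sandwich _ hAJ _ h.jd.one_mem
    rwa [mul_one] at this
  obtain ⟨μ, hμ⟩ := h.comm_mem_range hAAJ hAA
  have hAu := h.jd.unit A hAJ hA0
  have hμ0 : μ ≠ 0 := by
    intro h0
    rw [h0, map_zero] at hμ
    exact hA0 (hAu.mul_right_eq_zero.mp hμ.symm)
  have hfix : φ μ = μ := by
    by_contra hne'
    refine hA0 (ι_cancel (ι := ι) (sub_ne_zero.mpr hne') (x := A) ?_)
    rw [map_sub, sub_mul, ← hA, hμ, mul_assoc, sub_self]
  haveI : Nontrivial R := ⟨⟨A, 0, hA0⟩⟩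
  obtain ⟨β, hβ0, hβ⟩ := exists_nrm φ hfix hμ0
  obtain ⟨hφm, hmin⟩ := ringEquiv_order φ
  obtain ⟨t, hS0, hS⟩ := exists_fixed ι φ.toRingEquiv (orderOf_pos φ) hφm hmin
    (Θ := ι β * A) (W := (1 : R)) (fun k => by
      rw [mul_assoc, hA, ← mul_assoc, ← mul_assoc, ← map_mul, ← map_mul, mul_comm β]; rfl)
    (by
      rw [mul_one, twist_pow hA, hord, pow_two A, ← hμ, ← map_mul, ← hord, hβ, map_one])
    one_ne_zero
  set S := ∑ i ∈ Finset.range (orderOf φ), (ι β * A) ^ i * (ι t * 1)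
  have hv : ι β⁻¹ - A ∈ J := J.sub_mem (h.mem _) hAJ
  have hv0 : ι β⁻¹ - A ≠ 0 := by
    intro h0
    rw [sub_eq_zero] at h0
    have h1 := proj_of_ne (IsH.const (p := p) (ι := ι) β⁻¹) hne
    rw [h0, proj_self hA] at h1
    exact hA0 h1
  refine hS0 (h.smul_zero_cancel hv hv0 ?_)
  have hAS : A * S = ι β⁻¹ * S := by
    conv_rhs => rw [← hS]
    rw [← mul_assoc, ← mul_assoc, ← map_mul, inv_mul_cancel₀ hβ0, map_one, one_mul]
  rw [sub_mul, hAS, sub_self]

/-- The setting of a twist of order at least three. -/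
structure Twist (ι : K →+* R) (J : AddSubgroup R) (φ : K ≃ₐ[ZMod p] K) (A B : R) : Prop where
  three : φ * φ ≠ 1
  hA : IsH ι φ A
  hB : IsH ι φ⁻¹ B
  A0 : A ≠ 0
  mem : ∀ a : K, ι a * A + ι (φ⁻¹ a) * B ∈ J

omit h in
omit [Finite R] in
/-- A field generated by `b φ(b)`. -/
theorem span_eq_top (φ : K ≃ₐ[ZMod p] K) (h3 : φ * φ ≠ 1) (S : AddSubgroup K)
    (hS : ∀ b, b * φ b ∈ S) : ∀ a, a ∈ S := by
  let Q : Submonoid K :=
    { carrier := Set.range fun b : K => b * φ b
      one_mem' := ⟨1, by simp⟩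
      mul_mem' := by
        rintro _ _ ⟨b, rfl⟩ ⟨c, rfl⟩
        exact ⟨b * c, by simp [map_mul]; ring⟩ }
  have hE : ∀ x ∈ Subring.closure (Q : Set K), x ∈ S := by
    intro x hx
    rw [Subring.mem_closure_iff, Submonoid.closure_eq] at hx
    exact (AddSubgroup.closure_le S).mpr (by rintro _ ⟨b, rfl⟩; exact hS b) hx
  set E := Subring.closure (Q : Set K) with hEdef
  haveI : IsDomain E := inferInstance
  have hinv : ∀ x ∈ E, x⁻¹ ∈ E := by
    intro x hx
    by_cases hx0 : x = 0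
    · simp [hx0, E.zero_mem]
    have hfield : IsField E := Finite.isDomain_to_isField E
    obtain ⟨y, hy⟩ := hfield.mul_inv_cancel (a := ⟨x, hx⟩) (fun h => hx0 (congrArg Subtype.val h))
    have hy' : x * (y : K) = 1 := congrArg Subtype.val hy
    rw [inv_eq_of_mul_eq_one_right hy']
    exact y.2
  have hP : ∀ b, b * φ b ∈ E := fun b => Subring.subset_closure ⟨b, rfl⟩
  have hT : ∀ b, b + φ b ∈ E := by
    intro b
    have e : b + φ b = (b + 1) * φ (b + 1) - b * φ b - 1 := by rw [map_add, map_one]; ring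
    rw [e]
    exact E.sub_mem (E.sub_mem (hP _) (hP b)) E.one_mem
  intro a
  refine hE a ?_
  by_contra ha
  obtain ⟨b, hb⟩ : ∃ b, φ (φ b) ≠ b := by
    by_contra hno
    push Not at hno
    exact h3 (AlgEquiv.ext fun x => hno x)
  apply hb
  -- a root `b` and its partner `φ b` of a quadratic over `E`; `a` outside `E`
  have key : ∀ b, b ∉ E → φ (φ b) = b := by
    intro b hbE
    have h1 : φ b + φ (φ b) ∈ E := hT _
    have h2 : φ b * φ (φ b) ∈ E := hP _
    have hs := hT b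
    have hq := hP b
    -- `φ b` is a root of both quadratics
    have e : φ b * ((φ b + φ (φ b)) - (b + φ b)) = φ b * φ (φ b) - b * φ b := by ring
    by_cases hd : (φ b + φ (φ b)) - (b + φ b) = 0
    · linear_combination hd
    · exfalso
      have hφb : φ b ∈ E := by
        have : φ b = (φ b * φ (φ b) - b * φ b) * ((φ b + φ (φ b)) - (b + φ b))⁻¹ := by
          rw [← e, mul_assoc, mul_inv_cancel₀ hd, mul_one]
        rw [this]
        exact E.mul_mem (E.sub_mem h2 hq) (hinv _ (E.sub_mem h1 hs))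
      exact hbE (by simpa using E.sub_mem hs hφb)
  by_cases hbE : b ∈ E
  · have h1 := key (b + a) fun h => ha (by simpa using E.sub_mem h hbE)
    rw [map_add, map_add, key a ha] at h1
    exact add_right_cancel h1
  · exact key b hbE

theorem exists_twist {f : R} (hf : f ∈ J) {φ : K ≃ₐ[ZMod p] K} (h3 : φ * φ ≠ 1)
    (hA : proj ι φ f ≠ 0) : Twist ι J φ (proj ι φ f) (proj ι φ⁻¹ f) := by
  refine ⟨h3, proj_isH ι _ _, proj_isH ι _ _, hA, ?_⟩
  set A := proj ι φ f
  set B := proj ι φ⁻¹ f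
  let S : AddSubgroup K :=
    { carrier := {a | ι a * A + ι (φ⁻¹ a) * B ∈ J}
      zero_mem' := by simp
      add_mem' := fun {a b} (ha : _ ∈ J) (hb : _ ∈ J) => by
        show _ ∈ J
        convert J.add_mem ha hb using 1
        simp only [map_add, add_mul]; abel
      neg_mem' := fun {a} (ha : _ ∈ J) => by
        show _ ∈ J
        convert J.neg_mem ha using 1
        simp only [map_neg, neg_mul]; abel }
  refine span_eq_top φ h3 S fun b => ?_
  show _ ∈ J
  have e1 : ι b * A * ι b = ι (b * φ b) * A := by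
    rw [mul_assoc, proj_isH ι φ f b, ← mul_assoc, ← map_mul]
  have e2 : ι b * B * ι b = ι (φ⁻¹ (b * φ b)) * B := by
    rw [mul_assoc, proj_isH ι φ⁻¹ f b, ← mul_assoc, ← map_mul, map_mul φ⁻¹]
    congr 2
    rw [mul_comm]
    congr 1
    exact (φ.symm_apply_apply b).symm
  rw [← e1, ← e2, ← add_mul, ← mul_add]
  exact h.jd.sandwich _ (h.mem b) _ (h.pair_mem hf)

variable {φ : K ≃ₐ[ZMod p] K} {A B : R}

theorem Twist.AB_mem_range (T : Twist ι J φ A B) :
    ∃ u v : K, ι u = A * B ∧ ι v = B * A ∧ u = φ v := by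
  have hsq : ∀ a : K, ∃ k, ι k = ι (a * a) * (A * B) + ι (φ⁻¹ a * φ⁻¹ a) * (B * A) := by
    intro a
    set M := ι a * A + ι (φ⁻¹ a) * B
    have hMM : M * M ∈ J := by
      have := h.jd.sandwich _ (T.mem a) _ h.jd.one_mem
      rwa [mul_one] at this
    obtain ⟨k, hk⟩ := h.proj_one_range (p := p) hMM
    refine ⟨k, hk.trans ?_⟩
    have hX : IsH ι φ (ι a * A) := T.hA.smul a
    have hY : IsH ι φ⁻¹ (ι (φ⁻¹ a) * B) := T.hB.smul _
    have e : M * M = ι a * A * (ι a * A) + ι a * A * (ι (φ⁻¹ a) * B) +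
        (ι (φ⁻¹ a) * B * (ι a * A) + ι (φ⁻¹ a) * B * (ι (φ⁻¹ a) * B)) := by
      show (_ + _) * (_ + _) = _
      rw [add_mul, mul_add, mul_add]
    have h11 : (1 : K ≃ₐ[ZMod p] K) ≠ φ * φ := fun h1 => T.three h1.symm
    have h22 : (1 : K ≃ₐ[ZMod p] K) ≠ φ⁻¹ * φ⁻¹ := by
      intro h1
      exact T.three (inv_injective (by rw [mul_inv_rev, inv_one]; exact h1.symm))
    rw [e, proj_add, proj_add, proj_add, proj_of_ne (hX.mul hX) h11,
      proj_of_ne (hY.mul hY) h22, zero_add, add_zero,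
      proj_self (show IsH ι 1 _ by simpa using hX.mul hY),
      proj_self (show IsH ι 1 _ by simpa using hY.mul hX)]
    congr 1
    · rw [mul_assoc, ← mul_assoc A, T.hA, map_mul, show φ (φ⁻¹ a) = a from φ.apply_symm_apply a]
      simp only [mul_assoc]
    · rw [mul_assoc, ← mul_assoc B, T.hB, map_mul]
      simp only [mul_assoc]
  obtain ⟨s, hs⟩ := hsq 1
  simp only [map_one, mul_one, one_mul] at hs
  obtain ⟨a, ha⟩ : ∃ a, a * a - φ⁻¹ a * φ⁻¹ a ≠ 0 := by
    by_contra hno
    push Not at hno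
    refine T.three (AlgEquiv.ext fun x => ?_)
    show φ (φ x) = x
    have h0 := hno (φ x)
    rw [show φ⁻¹ (φ x) = x from φ.symm_apply_apply x] at h0
    have hmul : (φ x - x) * (φ x + x) = 0 := by linear_combination h0
    rcases mul_eq_zero.mp hmul with h1 | h1
    · rw [sub_eq_zero] at h1
      rw [h1, h1]
    · rw [eq_neg_of_add_eq_zero_left h1, map_neg, eq_neg_of_add_eq_zero_left h1, neg_neg]
  obtain ⟨k, hk⟩ := hsq a
  set d := a * a - φ⁻¹ a * φ⁻¹ a
  have hu : ι ((k - φ⁻¹ a * φ⁻¹ a * s) * d⁻¹) = A * B := by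
    rw [mul_comm (k - _), map_mul, map_sub, map_mul _ (φ⁻¹ a * φ⁻¹ a), hk, hs, mul_add,
      add_sub_add_right_eq_sub, ← sub_mul, ← map_sub, ← mul_assoc, ← map_mul,
      show d⁻¹ * (a * a - φ⁻¹ a * φ⁻¹ a) = 1 from inv_mul_cancel₀ ha, map_one, one_mul]
  set u := (k - φ⁻¹ a * φ⁻¹ a * s) * d⁻¹
  refine ⟨u, s - u, hu, by rw [map_sub, hs, hu]; abel, ?_⟩
  by_contra hne
  refine T.A0 (ι_cancel (ι := ι) (sub_ne_zero.mpr hne) (x := A) ?_)
  rw [map_sub, sub_mul, ← T.hA (s - u), map_sub, hs, hu, add_sub_cancel_left, mul_assoc, sub_self]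

/-- Elements of lower twist degree. -/
def low (ι : K →+* R) (A B : R) (n : ℕ) : AddSubgroup R :=
  AddSubgroup.closure {x | ∃ (k : K) (t : ℕ), t < n ∧ (x = ι k * A ^ t ∨ x = ι k * B ^ t)}

theorem Twist.pow_sub_mem (T : Twist ι J φ A B) {u v : K} (hu : ι u = A * B) (hv : ι v = B * A) :
    ∀ j, 1 ≤ j → (A + B) ^ j - A ^ j - B ^ j ∈ low ι A B j := by
  have gen : ∀ {n : ℕ} (k : K) (t : ℕ), t < n → ι k * A ^ t ∈ low ι A B n ∧ ι k * B ^ t ∈ low ι A B n :=
    fun k t ht => ⟨AddSubgroup.subset_closure ⟨k, t, ht, Or.inl rfl⟩,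
      AddSubgroup.subset_closure ⟨k, t, ht, Or.inr rfl⟩⟩
  intro j hj
  induction j, hj using Nat.le_induction with
  | base => simp [low]
  | succ j hj ih =>
    have hstep : ∀ x ∈ low ι A B j, (A + B) * x ∈ low ι A B (j + 1) := by
      intro x hx
      refine AddSubgroup.closure_induction (p := fun x _ => (A + B) * x ∈ low ι A B (j + 1)) ?_
        (by simp) (fun x y _ _ hx hy => by rw [mul_add]; exact add_mem hx hy)
        (fun x _ hx => by rw [mul_neg]; exact neg_mem hx) hx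
      rintro x ⟨k, t, ht, hx⟩
      have eA : ∀ y : R, A * (ι k * y) = ι (φ k) * (A * y) := fun y => by
        rw [← mul_assoc, T.hA, mul_assoc]
      have eB : ∀ y : R, B * (ι k * y) = ι (φ⁻¹ k) * (B * y) := fun y => by
        rw [← mul_assoc, T.hB, mul_assoc]
      rcases hx with rfl | rfl
      · rw [add_mul, eA, eB, ← pow_succ']
        refine add_mem (gen _ (t + 1) (by omega)).1 ?_
        rcases t with _ | t
        · rw [pow_zero, mul_one]
          simpa using (gen (φ⁻¹ k) 1 (by omega)).2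
        · rw [pow_succ', ← mul_assoc B, ← hv, ← mul_assoc, ← map_mul]
          exact (gen _ t (by omega)).1
      · rw [add_mul, eA, eB, ← pow_succ']
        refine add_mem ?_ (gen _ (t + 1) (by omega)).2
        rcases t with _ | t
        · rw [pow_zero, mul_one]
          simpa using (gen (φ k) 1 (by omega)).1
        · rw [pow_succ', ← mul_assoc A, ← hu, ← mul_assoc, ← map_mul]
          exact (gen _ t (by omega)).2
    have e : (A + B) ^ (j + 1) - A ^ (j + 1) - B ^ (j + 1) =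
        (A + B) * ((A + B) ^ j - A ^ j - B ^ j) + (A * B ^ j + B * A ^ j) := by
      rw [pow_succ', pow_succ' A, pow_succ' B]; noncomm_ring
    rw [e]
    refine add_mem (hstep _ ih) (add_mem ?_ ?_)
    · obtain ⟨i, rfl⟩ := Nat.exists_eq_succ_of_ne_zero (show j ≠ 0 by omega)
      rw [pow_succ', ← mul_assoc, ← hu]
      exact (gen _ i (by omega)).2
    · obtain ⟨i, rfl⟩ := Nat.exists_eq_succ_of_ne_zero (show j ≠ 0 by omega)
      rw [pow_succ', ← mul_assoc, ← hv]
      exact (gen _ i (by omega)).1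

theorem Twist.sum_pow (T : Twist ι J φ A B) {u v : K} (hu : ι u = A * B) (hv : ι v = B * A) :
    ∃ τ : K, ι τ = A ^ orderOf φ + B ^ orderOf φ := by
  set m := orderOf φ with hm
  have hm0 : 0 < m := orderOf_pos φ
  have hM : A + B ∈ J := by simpa using T.mem 1
  obtain ⟨k, hk⟩ := h.proj_one_range (p := p) (h.jd.pow_mem hM m)
  have hlow : ∀ x ∈ low ι A B m, ∃ k, ι k = proj ι (1 : K ≃ₐ[ZMod p] K) x := by
    intro x hx
    refine AddSubgroup.closure_induction (p := fun x _ => ∃ k, ι k = proj ι (1 : K ≃ₐ[ZMod p] K) x) ?_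
      ⟨0, by rw [map_zero, proj_zero]⟩
      (fun x y _ _ ⟨a, ha⟩ ⟨b, hb⟩ => ⟨a + b, by rw [map_add, proj_add, ha, hb]⟩)
      (fun x _ ⟨a, ha⟩ => ⟨-a, by rw [map_neg, proj_neg, ha]⟩) hx
    rintro x ⟨c, t, ht, hx⟩
    rcases Nat.eq_zero_or_pos t with rfl | htpos
    · refine ⟨c, ?_⟩
      have : x = ι c := by rcases hx with rfl | rfl <;> simp
      rw [this, proj_self (IsH.const c)]
    · refine ⟨0, ?_⟩
      rw [map_zero]
      have hne : φ ^ t ≠ 1 := pow_ne_one_of_lt_orderOf htpos.ne' ht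
      rcases hx with rfl | rfl
      · exact (proj_of_ne ((T.hA.pow t).smul c) (Ne.symm hne)).symm
      · refine (proj_of_ne ((T.hB.pow t).smul c) (Ne.symm ?_)).symm
        rw [inv_pow]
        exact inv_ne_one.mpr hne
  obtain ⟨l, hl⟩ := hlow _ (T.pow_sub_mem h hu hv m hm0)
  refine ⟨k - l, ?_⟩
  have e : (A + B) ^ m = ((A + B) ^ m - A ^ m - B ^ m) + (A ^ m + B ^ m) := by abel
  have hAm : IsH ι (1 : K ≃ₐ[ZMod p] K) (A ^ m) := by
    have := T.hA.pow m
    rwa [pow_orderOf_eq_one] at this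
  have hBm : IsH ι (1 : K ≃ₐ[ZMod p] K) (B ^ m) := by
    have := T.hB.pow m
    rwa [inv_pow, pow_orderOf_eq_one, inv_one] at this
  rw [map_sub, hk, hl, e, proj_add, proj_add, proj_self hAm, proj_self hBm]
  abel

theorem Twist.tau_fixed (T : Twist ι J φ A B) {u v τ : K} (hu : ι u = A * B) (hv : ι v = B * A)
    (huv : u = φ v) (hτ : ι τ = A ^ orderOf φ + B ^ orderOf φ) : φ τ = τ := by
  obtain ⟨i, hi⟩ := Nat.exists_eq_succ_of_ne_zero (orderOf_pos φ).ne'
  have hφinv : φ⁻¹ ^ i = φ := by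
    rw [inv_pow, inv_eq_iff_mul_eq_one, ← pow_succ, ← Nat.succ_eq_add_one, ← hi, pow_orderOf_eq_one]
  have e : A * B ^ orderOf φ = B ^ orderOf φ * A := by
    rw [hi]
    conv_lhs => rw [pow_succ', ← mul_assoc, ← hu]
    conv_rhs => rw [pow_succ, mul_assoc, ← hv, T.hB.pow i, hφinv, ← huv]
  by_contra hne
  refine T.A0 (ι_cancel (ι := ι) (sub_ne_zero.mpr hne) (x := A) ?_)
  rw [map_sub, sub_mul, ← T.hA τ, hτ, mul_add, add_mul, e, ← pow_succ', ← pow_succ, sub_self]

/-- The degenerate twist cannot occur. -/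
theorem Twist.u_ne_zero (T : Twist ι J φ A B) {u v τ : K} (hu : ι u = A * B) (hv : ι v = B * A)
    (huv : u = φ v) (hτ : ι τ = A ^ orderOf φ + B ^ orderOf φ) : u ≠ 0 := by
  intro hu0
  have hv0 : v = 0 := by
    rw [hu0] at huv
    exact φ.injective (by rw [map_zero, ← huv])
  have hAB : A * B = 0 := by rw [← hu, hu0, map_zero]
  have hBA : B * A = 0 := by rw [← hv, hv0, map_zero]
  obtain ⟨m', hm'⟩ := Nat.exists_eq_succ_of_ne_zero (orderOf_pos φ).ne'
  set m := orderOf φ with hm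
  have hMJ : A + B ∈ J := by simpa using T.mem 1
  have hne1 : φ ≠ φ⁻¹ := fun h' => T.three (by nth_rw 1 [h']; exact inv_mul_cancel φ)
  have hM0 : A + B ≠ 0 := by
    intro h0
    have h1 : A = -B := eq_neg_of_add_eq_zero_left h0
    have := proj_of_ne T.hB hne1
    rw [← neg_neg B, ← h1, proj_neg, proj_self T.hA, neg_eq_zero] at this
    exact T.A0 this
  have hMpow : ∀ i, (A + B) ^ (i + 1) = A ^ (i + 1) + B ^ (i + 1) := by
    intro i
    induction i with
    | zero => simp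
    | succ i ih =>
      rw [pow_succ', ih, add_mul, mul_add, mul_add, pow_succ' A (i + 1), pow_succ' B (i + 1),
        pow_succ' B i, pow_succ' A i, ← mul_assoc A B, hAB, ← mul_assoc B A, hBA]
      simp
  have hBmA : B ^ m * A = 0 := by rw [hm', pow_succ, mul_assoc, hBA, mul_zero]
  have hτA : A ^ m * A = ι τ * A := by rw [hτ, add_mul, hBmA, add_zero]
  have hτ0 : τ ≠ 0 := by
    intro h0
    have hpow : (A + B) ^ m = 0 := by
      have e := hMpow m'
      rw [← Nat.succ_eq_add_one, ← hm'] at e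
      rw [e, ← hτ, h0, map_zero]
    have := (h.jd.unit _ hMJ hM0).pow m
    rw [hpow] at this
    haveI hnt : Nontrivial R := ⟨⟨A, 0, T.A0⟩⟩
    exact not_isUnit_zero this
  have hfix := T.tau_fixed h hu hv huv hτ
  obtain ⟨β, hβ0, hβ⟩ := exists_nrm φ hfix hτ0
  obtain ⟨hφm, hmin⟩ := ringEquiv_order φ
  have hΘ : ∀ k, ι β * A * ι k = ι (φ.toRingEquiv k) * (ι β * A) := fun k => by
    rw [mul_assoc, T.hA, ← mul_assoc, ← mul_assoc, ← map_mul, ← map_mul, mul_comm β]; rfl
  obtain ⟨t, hS0, hS⟩ := exists_fixed ι φ.toRingEquiv (orderOf_pos φ) hφm hmin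
    (Θ := ι β * A) (W := A) hΘ
    (by rw [twist_pow T.hA, mul_assoc, hτA, ← mul_assoc, ← map_mul, hβ, map_one, one_mul]) T.A0
  set S := ∑ i ∈ Finset.range (orderOf φ), (ι β * A) ^ i * (ι t * A) with hSdef
  have hBS : B * S = 0 := by
    rw [hSdef, Finset.mul_sum]
    refine Finset.sum_eq_zero fun i _ => ?_
    rcases i with _ | i
    · rw [pow_zero, one_mul, ← mul_assoc, T.hB, mul_assoc, hBA, mul_zero]
    · rw [pow_succ', mul_assoc (ι β * A), mul_assoc (ι β) A, ← mul_assoc B, T.hB, mul_assoc,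
        ← mul_assoc B A, hBA, zero_mul, mul_zero]
  have hvJ : ι β⁻¹ - (A + B) ∈ J := J.sub_mem (h.mem _) hMJ
  have hv0' : ι β⁻¹ - (A + B) ≠ 0 := by
    intro h0
    rw [sub_eq_zero] at h0
    have hne : φ ≠ 1 := fun h1 => T.three (by rw [h1, mul_one])
    have h1 := proj_of_ne (IsH.const (p := p) (ι := ι) β⁻¹) hne
    rw [h0, proj_add, proj_self T.hA, proj_of_ne T.hB hne1, add_zero] at h1
    exact T.A0 h1
  refine hS0 (h.smul_zero_cancel hvJ hv0' ?_)
  have hAS : A * S = ι β⁻¹ * S := by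
    conv_rhs => rw [← hS]
    rw [← mul_assoc, ← mul_assoc, ← map_mul, inv_mul_cancel₀ hβ0, map_one, one_mul]
  rw [sub_mul, add_mul, hAS, hBS, add_zero, sub_self]

end MaxField

end Cfsg.Agent.JordanDivisionFinite
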