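import Mathlib

/-!
Tools for finite special Jordan division algebras: twisted norms, companion cocycles, fixed vectors
of semilinear maps, and zeros of forms with more variables than degree.
-/

set_option autoImplicit false

namespace Cfsg.Agent.JordanDivisionFinite

/-! ### Twisted norms -/

section Norm

variable {K : Type*} [Field K] (φ : K ≃+* K)

/-- `x φ(x) ⋯ φ^{j-1}(x)`. -/
def nrm : ℕ → K → K
  | 0, _ => 1
  | j + 1, x => φ (nrm j x) * x

@[simp] theorem nrm_zero (x : K) : nrm φ 0 x = 1 := rfl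

theorem nrm_succ (j : ℕ) (x : K) : nrm φ (j + 1) x = φ (nrm φ j x) * x := rfl

theorem nrm_succ' (j : ℕ) (x : K) : nrm φ (j + 1) x = (φ ^ j) x * nrm φ j x := by
  induction j with
  | zero => simp [nrm]
  | succ j ih =>
    rw [nrm_succ φ (j + 1)]
    nth_rw 1 [ih]
    rw [map_mul, ← RingAut.mul_apply, ← pow_succ', nrm_succ φ j]
    ring

theorem nrm_mul (j : ℕ) (x y : K) : nrm φ j (x * y) = nrm φ j x * nrm φ j y := by
  induction j with
  | zero => simp
  | succ j ih => rw [nrm_succ, nrm_succ, nrm_succ, ih, map_mul]; ring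

theorem nrm_ne_zero (j : ℕ) {x : K} (hx : x ≠ 0) : nrm φ j x ≠ 0 := by
  induction j with
  | zero => simp
  | succ j ih =>
    rw [nrm_succ]
    exact mul_ne_zero (fun h => ih (φ.map_eq_zero_iff.mp h)) hx

theorem nrm_zero_arg {j : ℕ} (hj : j ≠ 0) : nrm φ j (0 : K) = 0 := by
  obtain ⟨j, rfl⟩ := Nat.exists_eq_succ_of_ne_zero hj
  rw [nrm_succ, mul_zero]

theorem nrm_map (j : ℕ) (x : K) : nrm φ j (φ x) = φ (nrm φ j x) := by
  induction j with
  | zero => simp
  | succ j ih => rw [nrm_succ, nrm_succ, ih, map_mul]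

theorem nrm_fixed_arg {x : K} (hx : φ x = x) (j : ℕ) : nrm φ j x = x ^ j := by
  induction j with
  | zero => simp
  | succ j ih => rw [nrm_succ, ih, map_pow, hx, pow_succ]

theorem nrm_fixed {m : ℕ} (hm : φ ^ m = 1) (x : K) : φ (nrm φ m x) = nrm φ m x := by
  by_cases hx : x = 0
  · subst hx
    rcases m with _ | m
    · simp
    · rw [nrm_zero_arg φ (Nat.succ_ne_zero m), map_zero]
  · have h := nrm_succ' φ m x
    rw [nrm_succ, hm, RingAut.one_apply, mul_comm x] at h
    exact mul_right_cancel₀ hx h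

end Norm

/-! ### Companion cocycles -/

section Cocycle

variable {K : Type*} [Field K] (φ : K ≃+* K)

/-- `φ^{j-1}(C) ⋯ φ(C) C`. -/
def cocycle : ℕ → Matrix (Fin 2) (Fin 2) K → Matrix (Fin 2) (Fin 2) K
  | 0, _ => 1
  | j + 1, C => (cocycle j C).map φ * C

theorem map_mulφ (ψ : K ≃+* K) (A B : Matrix (Fin 2) (Fin 2) K) :
    (A * B).map ψ = A.map ψ * B.map ψ := Matrix.map_mul

theorem cocycle_succ' (j : ℕ) (C : Matrix (Fin 2) (Fin 2) K) :
    cocycle φ (j + 1) C = C.map (φ ^ j : K ≃+* K) * cocycle φ j C := by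
  induction j with
  | zero =>
    simp [cocycle, Matrix.map_one]
  | succ j ih =>
    show (cocycle φ (j + 1) C).map φ * C = _
    rw [ih, map_mulφ, Matrix.mul_assoc]
    congr 1
    rw [Matrix.map_map, pow_succ']
    rfl

theorem cocycle_det (j : ℕ) (C : Matrix (Fin 2) (Fin 2) K) :
    (cocycle φ j C).det = nrm φ j C.det := by
  induction j with
  | zero => simp [cocycle]
  | succ j ih =>
    show ((cocycle φ j C).map φ * C).det = _
    rw [Matrix.det_mul, nrm_succ, ← ih]
    congr 1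
    exact (RingHom.map_det φ.toRingHom _).symm

theorem cocycle_trace_fixed {m : ℕ} (hm : φ ^ m = 1) {C : Matrix (Fin 2) (Fin 2) K}
    (hC : C.det ≠ 0) : φ (cocycle φ m C).trace = (cocycle φ m C).trace := by
  have h := cocycle_succ' φ m C
  rw [show cocycle φ (m + 1) C = (cocycle φ m C).map φ * C from rfl, hm] at h
  have hC1 : C.map ((1 : K ≃+* K) : K → K) = C := by ext i k; rfl
  rw [hC1] at h
  have hu : IsUnit C.det := isUnit_iff_ne_zero.mpr hC
  have h2 : (cocycle φ m C).map φ = C * cocycle φ m C * C⁻¹ := by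
    rw [← h, Matrix.mul_nonsing_inv_cancel_right _ _ hu]
  have h3 : φ (cocycle φ m C).trace = ((cocycle φ m C).map φ).trace := by
    simp [Matrix.trace, Matrix.diag]
  rw [h3, h2, Matrix.trace_mul_comm, ← Matrix.mul_assoc, Matrix.nonsing_inv_mul _ hu, Matrix.one_mul]

theorem cocycle_upper {j : ℕ} (hj : 0 < j) (x : K) :
    (cocycle φ j !![0, 1; 0, x]).trace = nrm φ j x := by
  have h : ∀ j : ℕ, (cocycle φ (j + 1) !![0, 1; 0, x]) 0 0 = 0 ∧
      (cocycle φ (j + 1) !![0, 1; 0, x]) 1 0 = 0 ∧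
      (cocycle φ (j + 1) !![0, 1; 0, x]) 1 1 = nrm φ (j + 1) x := by
    intro j
    induction j with
    | zero => simp [cocycle, Matrix.map_one, nrm]
    | succ j ih =>
      obtain ⟨h00, h10, h11⟩ := ih
      have e : ∀ i k, cocycle φ (j + 1 + 1) !![0, 1; 0, x] i k =
          φ (cocycle φ (j + 1) !![0, 1; 0, x] i 0) * (!![0, 1; 0, x] : Matrix (Fin 2) (Fin 2) K) 0 k +
          φ (cocycle φ (j + 1) !![0, 1; 0, x] i 1) * (!![0, 1; 0, x] : Matrix (Fin 2) (Fin 2) K) 1 k := by
        intro i k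
        show ((cocycle φ (j + 1) (!![0, 1; 0, x] : Matrix (Fin 2) (Fin 2) K)).map φ *
          (!![0, 1; 0, x] : Matrix (Fin 2) (Fin 2) K) : Matrix (Fin 2) (Fin 2) K) i k = _
        rw [Matrix.mul_apply, Fin.sum_univ_two]
        rfl
      refine ⟨?_, ?_, ?_⟩ <;> rw [e] <;> simp [h00, h10, h11, nrm_succ φ (j + 1)]
  obtain ⟨j, rfl⟩ := Nat.exists_eq_succ_of_ne_zero hj.ne'
  obtain ⟨h00, -, h11⟩ := h j
  rw [Matrix.trace_fin_two, h00, h11, zero_add]

end Cocycle

/-! ### Fixed vectors of semilinear maps -/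

section Fixed

variable {K : Type*} [Field K] {R : Type*} [Ring R]

theorem pow_smul_comm (ι : K →+* R) (φ : K ≃+* K) {Θ : R} (hΘ : ∀ t, Θ * ι t = ι (φ t) * Θ)
    (i : ℕ) : ∀ t, Θ ^ i * ι t = ι ((φ ^ i) t) * Θ ^ i := by
  induction i with
  | zero => intro t; simp
  | succ i ih =>
    intro t
    rw [pow_succ, mul_assoc, hΘ, ← mul_assoc, ih, mul_assoc, ← pow_succ]
    congr 2

theorem exists_fixed (ι : K →+* R) (φ : K ≃+* K) {m : ℕ} (hm : 0 < m) (hφm : φ ^ m = 1)
    (hord : ∀ i < m, φ ^ i = 1 → i = 0)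
    {Θ W : R} (hΘ : ∀ t, Θ * ι t = ι (φ t) * Θ) (hW : Θ ^ m * W = W) (hW0 : W ≠ 0) :
    ∃ t : K, (∑ i ∈ Finset.range m, Θ ^ i * (ι t * W)) ≠ 0 ∧
      Θ * (∑ i ∈ Finset.range m, Θ ^ i * (ι t * W)) = ∑ i ∈ Finset.range m, Θ ^ i * (ι t * W) := by
  have hrot : ∀ t : K, Θ * (∑ i ∈ Finset.range m, Θ ^ i * (ι t * W)) =
      ∑ i ∈ Finset.range m, Θ ^ i * (ι t * W) := by
    intro t
    have h1 := Finset.sum_range_succ' (fun i => Θ ^ i * (ι t * W)) m
    have h2 := Finset.sum_range_succ (fun i => Θ ^ i * (ι t * W)) m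
    have h3 : Θ ^ m * (ι t * W) = ι t * W := by
      rw [← mul_assoc, pow_smul_comm ι φ hΘ m, hφm, RingAut.one_apply, mul_assoc, hW]
    rw [h2, h3, pow_zero, one_mul] at h1
    rw [Finset.mul_sum]
    refine (Finset.sum_congr rfl fun i _ => ?_).trans (add_right_cancel h1).symm
    rw [← mul_assoc, ← pow_succ']
  by_contra hne
  push Not at hne
  have hzero : ∀ t : K, ∑ i ∈ Finset.range m, Θ ^ i * (ι t * W) = 0 := by
    intro t
    by_contra h
    exact hne t h (hrot t)
  letI : Module K R := Module.compHom R ι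
  have hsmul : ∀ (k : K) (x : R), k • x = ι k * x := fun _ _ => rfl
  refine hW0 ((Module.forall_dual_apply_eq_zero_iff K W).mp fun ℓ => ?_)
  let f : Fin m → (K →* K) := fun i => ((φ ^ (i : ℕ) : K ≃+* K) : K →+* K).toMonoidHom
  have hf : Function.Injective f := by
    intro i i' h
    have h' : (φ ^ (i : ℕ) : K ≃+* K) = φ ^ (i' : ℕ) := RingEquiv.ext fun x => DFunLike.congr_fun h x
    apply Fin.ext
    rcases le_total (i : ℕ) (i' : ℕ) with hle | hle
    · have : φ ^ ((i' : ℕ) - i) = 1 := by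
        rw [pow_sub _ hle, h', mul_inv_cancel]
      have := hord _ (lt_of_le_of_lt (Nat.sub_le _ _) i'.2) this
      omega
    · have : φ ^ ((i : ℕ) - i') = 1 := by
        rw [pow_sub _ hle, h', mul_inv_cancel]
      have := hord _ (lt_of_le_of_lt (Nat.sub_le _ _) i.2) this
      omega
  have hli := (linearIndependent_monoidHom K K).comp f hf
  have hsum : ∀ t : K, ∑ i : Fin m, ℓ (Θ ^ (i : ℕ) * W) * (φ ^ (i : ℕ)) t = 0 := by
    intro t
    have h := congrArg ℓ (hzero t)
    rw [map_sum, map_zero, Finset.sum_range] at h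
    rw [← h]
    refine Finset.sum_congr rfl fun i _ => ?_
    rw [← mul_assoc, pow_smul_comm ι φ hΘ i, mul_assoc, ← hsmul, map_smul, smul_eq_mul, mul_comm]
  have h0 := Fintype.linearIndependent_iff.mp hli (fun i => ℓ (Θ ^ (i : ℕ) * W)) (by
    funext t
    simp only [Finset.sum_apply, Pi.smul_apply, Function.comp_apply, smul_eq_mul, Pi.zero_apply]
    exact hsum t) ⟨0, hm⟩
  simpa using h0

end Fixed

/-! ### Forms with more variables than degree -/

section Forms

variable {F K σ : Type*} [Field F] [Field K] [Algebra F K]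

/-- `f` is given by a polynomial of total degree at most `d` (or is zero). -/
def Deg (d : ℤ) (f : (σ → F) → K) : Prop :=
  (∀ x, f x = 0) ∨ ∃ P : MvPolynomial σ K, (P.totalDegree : ℤ) ≤ d ∧
    ∀ x, MvPolynomial.eval (fun i => algebraMap F K (x i)) P = f x

theorem Deg.zero (d : ℤ) : Deg d (fun _ : σ → F => (0 : K)) := Or.inl fun _ => rfl

theorem Deg.const {d : ℤ} (hd : 0 ≤ d) (k : K) : Deg d (fun _ : σ → F => k) :=
  Or.inr ⟨MvPolynomial.C k, by simpa using hd, fun x => by simp⟩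

theorem Deg.coord (i : σ) : Deg 1 (fun x : σ → F => algebraMap F K (x i)) :=
  Or.inr ⟨MvPolynomial.X i, by simp, fun x => by simp⟩

theorem Deg.congr {d : ℤ} {f g : (σ → F) → K} (hf : Deg d f) (h : ∀ x, f x = g x) : Deg d g := by
  rcases hf with hf | ⟨P, hP, hfP⟩
  · exact Or.inl fun x => (h x).symm.trans (hf x)
  · exact Or.inr ⟨P, hP, fun x => (hfP x).trans (h x)⟩

theorem Deg.mono {d d' : ℤ} {f : (σ → F) → K} (hf : Deg d f) (h : d ≤ d') : Deg d' f := by
  rcases hf with hf | ⟨P, hP, hfP⟩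
  · exact Or.inl hf
  · exact Or.inr ⟨P, hP.trans h, hfP⟩

theorem Deg.add {d : ℤ} {f g : (σ → F) → K} (hf : Deg d f) (hg : Deg d g) :
    Deg d (fun x => f x + g x) := by
  rcases hf with hf | ⟨P, hP, hfP⟩
  · exact hg.congr fun x => by rw [hf x, zero_add]
  rcases hg with hg | ⟨Q, hQ, hgQ⟩
  · exact Deg.congr (Or.inr ⟨P, hP, hfP⟩) fun x => by rw [hg x, add_zero]
  refine Or.inr ⟨P + Q, ?_, fun x => by rw [map_add, hfP, hgQ]⟩
  refine le_trans (Int.ofNat_le.mpr (MvPolynomial.totalDegree_add P Q)) ?_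
  rw [Nat.cast_max]
  exact max_le hP hQ

theorem Deg.mul {d e : ℤ} {f g : (σ → F) → K} (hf : Deg d f) (hg : Deg e g) :
    Deg (d + e) (fun x => f x * g x) := by
  rcases hf with hf | ⟨P, hP, hfP⟩
  · exact (Deg.zero (d + e)).congr fun x => by rw [hf x, zero_mul]
  rcases hg with hg | ⟨Q, hQ, hgQ⟩
  · exact (Deg.zero (d + e)).congr fun x => by rw [hg x, mul_zero]
  refine Or.inr ⟨P * Q, ?_, fun x => by rw [map_mul, hfP, hgQ]⟩
  refine le_trans (Int.ofNat_le.mpr (MvPolynomial.totalDegree_mul P Q)) ?_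
  push_cast
  linarith

theorem Deg.constMul {d : ℤ} {f : (σ → F) → K} (hf : Deg d f) (k : K) :
    Deg d (fun x => k * f x) := by
  have h := (Deg.const (σ := σ) (F := F) (le_refl (0 : ℤ)) k).mul hf
  rwa [zero_add] at h

theorem Deg.sum {ι : Type*} (s : Finset ι) {d : ℤ} {f : ι → (σ → F) → K}
    (hf : ∀ i ∈ s, Deg d (f i)) : Deg d (fun x => ∑ i ∈ s, f i x) := by
  classical
  induction s using Finset.induction_on with
  | empty => exact (Deg.zero d).congr fun x => by simp
  | insert a s ha ih =>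
    exact ((hf a (Finset.mem_insert_self a s)).add
      (ih fun i hi => hf i (Finset.mem_insert_of_mem hi))).congr fun x => by simp [Finset.sum_insert ha]

theorem Deg.map {d : ℤ} {f : (σ → F) → K} (hf : Deg d f) (ψ : K ≃ₐ[F] K) :
    Deg d (fun x => ψ (f x)) := by
  rcases hf with hf | ⟨P, hP, hfP⟩
  · exact Or.inl fun x => by show ψ (f x) = 0; rw [hf x, map_zero]
  refine Or.inr ⟨P.map (ψ : K →+* K), ?_, fun x => ?_⟩
  · rw [MvPolynomial.totalDegree]
    refine le_trans (Int.ofNat_le.mpr ?_) hP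
    rw [MvPolynomial.totalDegree]
    exact Finset.sup_mono (MvPolynomial.support_map_subset _ _)
  · show MvPolynomial.eval (fun i => algebraMap F K (x i)) (P.map (ψ : K →+* K)) = ψ (f x)
    rw [MvPolynomial.eval_map, ← hfP x]
    simp only [MvPolynomial.eval_eq, MvPolynomial.eval₂_eq, map_sum, map_mul, map_prod, map_pow,
      AlgEquiv.commutes]
    rfl

/-- A form with values in the base field, of degree below the number of variables, has a nontrivial
zero. -/
theorem exists_zero [Finite F] [Fintype σ] {d : ℤ} {g : (σ → F) → K} (hg : Deg d g)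
    (hd : d < Fintype.card σ) (hd0 : 0 ≤ d) (hval : ∀ x, ∃ r : F, algebraMap F K r = g x)
    (h0 : g 0 = 0) : ∃ x : σ → F, x ≠ 0 ∧ g x = 0 := by
  classical
  haveI : Fintype F := Fintype.ofFinite F
  have hpos : 0 < Fintype.card σ := by omega
  rcases hg with hg | ⟨P, hP, hgP⟩
  · obtain ⟨i⟩ := Fintype.card_pos_iff.mp hpos
    exact ⟨fun _ => 1, fun h => one_ne_zero (congrFun h i), hg _⟩
  obtain ⟨L, hL⟩ := LinearMap.exists_leftInverse_of_injective (Algebra.linearMap F K)
    (LinearMap.ker_eq_bot.mpr (FaithfulSMul.algebraMap_injective F K))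
  have hL' : ∀ r : F, L (algebraMap F K r) = r := fun r => LinearMap.congr_fun hL r
  let P' : MvPolynomial σ F := ∑ s ∈ P.support, MvPolynomial.monomial s (L (P.coeff s))
  have heval : ∀ x : σ → F, MvPolynomial.eval x P' = L (g x) := by
    intro x
    rw [← hgP x, MvPolynomial.eval_eq (fun i => algebraMap F K (x i)) P, map_sum, map_sum]
    refine Finset.sum_congr rfl fun s _ => ?_
    rw [MvPolynomial.eval_monomial, Finsupp.prod]
    have : P.coeff s * ∏ i ∈ s.support, algebraMap F K (x i) ^ s i =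
        (∏ i ∈ s.support, x i ^ s i) • P.coeff s := by
      rw [Algebra.smul_def, map_prod, mul_comm]
      simp only [map_pow]
    rw [this, map_smul, smul_eq_mul, mul_comm]
  have hdeg : P'.totalDegree < Fintype.card σ := by
    refine lt_of_le_of_lt ?_ (show P.totalDegree < Fintype.card σ by omega)
    refine (MvPolynomial.totalDegree_finset_sum _ _).trans (Finset.sup_le fun s hs => ?_)
    refine (MvPolynomial.totalDegree_monomial_le s _).trans ?_
    exact Finset.le_sup (f := fun s : σ →₀ ℕ => s.sum fun _ e => e) hs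
  obtain ⟨p, hp⟩ := CharP.exists F
  haveI := hp
  haveI : Fact p.Prime := ⟨CharP.char_is_prime F p⟩
  have hdvd := char_dvd_card_solutions (K := F) p hdeg
  have h0' : MvPolynomial.eval (0 : σ → F) P' = 0 := by rw [heval, h0, map_zero]
  have hcard : 1 < Fintype.card {x : σ → F // MvPolynomial.eval x P' = 0} := by
    have hpos : 0 < Fintype.card {x : σ → F // MvPolynomial.eval x P' = 0} :=
      Fintype.card_pos_iff.mpr ⟨⟨0, h0'⟩⟩
    exact lt_of_lt_of_le (Fact.out : p.Prime).one_lt (Nat.le_of_dvd hpos hdvd)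
  obtain ⟨⟨x, hx⟩, hne⟩ := Fintype.exists_ne_of_one_lt_card hcard ⟨0, h0'⟩
  refine ⟨x, fun h => hne (Subtype.ext h), ?_⟩
  obtain ⟨r, hr⟩ := hval x
  rw [heval, ← hr, hL'] at hx
  rw [← hr, hx, map_zero]

end Forms

end Cfsg.Agent.JordanDivisionFinite
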