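import Mathlib

/-!
A nilpotent endomorphism splits off its longest cyclic subspace: decomposition into Jordan blocks,
in the form "every sub-multiset of the partition is the dimension of a complemented invariant
subspace".
-/

set_option autoImplicit false

namespace Cfsg.Agent.JordanSplit84

open Module

universe u v

variable {F : Type u} [Field F]

/-- Splitting off a longest cyclic subspace. -/
theorem exists_split {V : Type v} [AddCommGroup V] [Module F V] [FiniteDimensional F V]
    (N : Module.End F V) {k : ℕ} (hN : N ^ (k + 1) = 0) {v : V} (hv : (N ^ k) v ≠ 0) :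
    ∃ S C : Submodule F V, IsCompl S C ∧ S.map N ≤ S ∧ C.map N ≤ C ∧ finrank F ↥S = k + 1 := by
  classical
  obtain ⟨φ, hφ⟩ : ∃ φ : Module.Dual F V, φ ((N ^ k) v) ≠ 0 := by
    by_contra h
    push Not at h
    exact hv ((Module.forall_dual_apply_eq_zero_iff F _).1 h)
  set f : Fin (k + 1) → V := fun i => (N ^ (i : ℕ)) v with hf
  set Φ : V →ₗ[F] (Fin (k + 1) → F) := LinearMap.pi fun j : Fin (k + 1) => φ ∘ₗ (N ^ (j : ℕ)) with hΦ
  have hzero : ∀ j, k < j → N ^ j = 0 := fun j hj => pow_eq_zero_of_le hj hN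
  have key : ∀ a : Fin (k + 1) → F, Φ (∑ i, a i • f i) = 0 → ∀ i, a i = 0 := by
    intro a ha
    suffices ∀ m, ∀ i : Fin (k + 1), (i : ℕ) < m → a i = 0 from fun i => this _ i (Nat.lt_succ_self _)
    intro m
    induction m with
    | zero => exact fun i hi => absurd hi (Nat.not_lt_zero _)
    | succ m ih =>
      intro i hi
      rcases Nat.lt_succ_iff_lt_or_eq.1 hi with h | h
      · exact ih i h
      have h1 := congrFun ha ⟨k - m, by omega⟩
      simp only [hΦ, hf, LinearMap.pi_apply, LinearMap.comp_apply, map_sum, map_smul,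
        Pi.zero_apply, smul_eq_mul] at h1
      rw [Finset.sum_eq_single i] at h1
      · rw [← Module.End.mul_apply, ← pow_add, h, Nat.sub_add_cancel (by omega)] at h1
        exact (mul_eq_zero.1 h1).resolve_right hφ
      · intro l _ hl
        have hl' : (l : ℕ) ≠ m := fun e => hl (Fin.ext (e.trans h.symm))
        rcases Nat.lt_or_gt_of_ne hl' with h2 | h2
        · rw [ih l h2, zero_mul]
        · rw [← Module.End.mul_apply, ← pow_add, hzero _ (by omega)]
          simp
      · intro hni; exact absurd (Finset.mem_univ i) hni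
  have hli : LinearIndependent F f :=
    Fintype.linearIndependent_iff.2 fun a ha => key a (by rw [ha, map_zero])
  refine ⟨Submodule.span F (Set.range f), LinearMap.ker Φ, ?_, ?_, ?_, ?_⟩
  · have hdisj : Disjoint (Submodule.span F (Set.range f)) (LinearMap.ker Φ) := by
      rw [Submodule.disjoint_def]
      intro x hx hx'
      obtain ⟨a, rfl⟩ := (Submodule.mem_span_range_iff_exists_fun F).1 hx
      exact Finset.sum_eq_zero fun i _ => by rw [key a hx' i, zero_smul]
    refine ⟨hdisj, codisjoint_iff.2 (Submodule.eq_top_of_finrank_eq ?_)⟩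
    have h1 := Submodule.finrank_sup_add_finrank_inf_eq (Submodule.span F (Set.range f)) (LinearMap.ker Φ)
    rw [hdisj.eq_bot, finrank_bot, finrank_span_eq_card hli, Fintype.card_fin] at h1
    have h2 := LinearMap.finrank_range_add_finrank_ker Φ
    have h3 : finrank F ↥(LinearMap.range Φ) ≤ k + 1 := by
      refine (Submodule.finrank_le _).trans ?_
      rw [Module.finrank_fin_fun]
    have h4 := Submodule.finrank_le (Submodule.span F (Set.range f) ⊔ LinearMap.ker Φ)
    omega
  · rw [Submodule.map_span, Submodule.span_le]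
    rintro _ ⟨_, ⟨i, rfl⟩, rfl⟩
    simp only [hf, SetLike.mem_coe]
    rw [← Module.End.mul_apply, ← pow_succ']
    rcases Nat.lt_or_ge (i : ℕ) k with h | h
    · exact Submodule.subset_span ⟨⟨i + 1, by omega⟩, rfl⟩
    · rw [hzero _ (by omega)]; simp
  · rintro _ ⟨x, hx, rfl⟩
    rw [SetLike.mem_coe, LinearMap.mem_ker] at hx
    rw [LinearMap.mem_ker]
    funext j
    simp only [hΦ, LinearMap.pi_apply, LinearMap.comp_apply, Pi.zero_apply]
    rw [← Module.End.mul_apply, ← pow_succ]
    rcases Nat.lt_or_ge (j : ℕ) k with h | h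
    · exact congrFun hx ⟨j + 1, by omega⟩
    · rw [hzero _ (by omega)]; simp
  · rw [finrank_span_eq_card hli, Fintype.card_fin]

theorem exists_partition (p : ℕ) : ∀ (d : ℕ) {V : Type v} [AddCommGroup V] [Module F V]
    [FiniteDimensional F V] (N : Module.End F V), finrank F V = d → N ^ p = 0 →
    ∃ μ : Multiset ℕ, (∀ a ∈ μ, 0 < a ∧ a ≤ p) ∧ μ.sum = d ∧ ∀ ν ≤ μ, ∃ U W : Submodule F V,
      IsCompl U W ∧ U.map N ≤ U ∧ W.map N ≤ W ∧ finrank F ↥U = ν.sum := by
  classical
  intro d
  induction d using Nat.strong_induction_on with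
  | _ d ih =>
    intro V _ _ _ N hd hN
    rcases Nat.eq_zero_or_pos d with rfl | hd0
    · refine ⟨0, by simp, by simp, fun ν hν => ⟨⊥, ⊤, isCompl_bot_top, by simp, le_top, ?_⟩⟩
      rw [Multiset.le_zero.1 hν]; simp
    have hnt : Nontrivial V := Module.nontrivial_of_finrank_pos (R := F) (by omega)
    have h0 : N ^ 0 ≠ 0 := by rw [pow_zero]; exact one_ne_zero
    have hex : ∃ j, N ^ j = 0 := ⟨p, hN⟩
    have hfind := Nat.find_spec hex
    have hjpos : 0 < Nat.find hex := Nat.pos_of_ne_zero fun e => h0 (e ▸ hfind)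
    obtain ⟨k, hk⟩ : ∃ k, Nat.find hex = k + 1 := ⟨_, (Nat.sub_add_cancel hjpos).symm⟩
    have hkp : k + 1 ≤ p := hk ▸ Nat.find_min' hex hN
    have hNk : N ^ k ≠ 0 := Nat.find_min hex (by omega)
    obtain ⟨v, hv⟩ : ∃ v, (N ^ k) v ≠ 0 := by
      by_contra h
      push Not at h
      exact hNk (LinearMap.ext h)
    obtain ⟨S, C, hSC, hS, hC, hSd⟩ := exists_split N (k := k) (hk ▸ hfind) hv
    have hdim := Submodule.finrank_add_eq_of_isCompl hSC
    have hC' : ∀ x ∈ C, N x ∈ C := fun x hx => hC ⟨x, hx, rfl⟩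
    obtain ⟨μ, hμ, hμs, hμν⟩ := ih (finrank F ↥C) (by omega) (N.restrict hC') rfl (by
      refine LinearMap.ext fun x => Subtype.ext ?_
      rw [Module.End.pow_restrict]
      simp [hN])
    refine ⟨(k + 1) ::ₘ μ, ?_, ?_, ?_⟩
    · simp only [Multiset.mem_cons, forall_eq_or_imp]
      exact ⟨⟨Nat.succ_pos _, hkp⟩, hμ⟩
    · rw [Multiset.sum_cons, hμs]; omega
    intro ν hν
    have lift : ∀ A : Submodule F ↥C, A.map (N.restrict hC') ≤ A →
        (A.map C.subtype).map N ≤ A.map C.subtype := by
      rintro A hA _ ⟨_, ⟨x, hx, rfl⟩, rfl⟩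
      exact ⟨N.restrict hC' x, hA ⟨x, hx, rfl⟩, rfl⟩
    have combine : ∀ (U W : Submodule F ↥C), IsCompl U W →
        IsCompl (S ⊔ U.map C.subtype) (W.map C.subtype) ∧
        IsCompl (U.map C.subtype) (S ⊔ W.map C.subtype) := by
      intro U W h
      have hsup : U.map C.subtype ⊔ W.map C.subtype = C := by
        rw [← Submodule.map_sup, h.sup_eq_top, Submodule.map_subtype_top]
      have hd' : Disjoint (U.map C.subtype) (W.map C.subtype) := by
        rw [disjoint_iff, ← Submodule.map_inf _ C.injective_subtype, h.disjoint.eq_bot, Submodule.map_bot]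
      refine ⟨⟨?_, ?_⟩, ⟨?_, ?_⟩⟩
      · refine hd'.disjoint_sup_left_of_disjoint_sup_right ?_
        rw [hsup]; exact hSC.disjoint
      · rw [codisjoint_iff, sup_assoc, hsup, hSC.sup_eq_top]
      · refine Disjoint.symm (hd'.symm.disjoint_sup_left_of_disjoint_sup_right ?_)
        rw [sup_comm, hsup]; exact hSC.disjoint
      · rw [codisjoint_iff, ← sup_assoc, sup_comm (U.map C.subtype), sup_assoc, hsup, hSC.sup_eq_top]
    by_cases hmem : k + 1 ∈ ν
    · obtain ⟨ν', rfl⟩ := Multiset.exists_cons_of_mem hmem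
      obtain ⟨U, W, hUW, hU, hW, hUd⟩ := hμν ν' ((Multiset.cons_le_cons_iff _).1 hν)
      refine ⟨S ⊔ U.map C.subtype, W.map C.subtype, (combine U W hUW).1, ?_, lift W hW, ?_⟩
      · rw [Submodule.map_sup]; exact sup_le_sup hS (lift U hU)
      · have h1 := Submodule.finrank_sup_add_finrank_inf_eq S (U.map C.subtype)
        rw [(hSC.disjoint.mono_right (Submodule.map_subtype_le _ _)).eq_bot, finrank_bot,
          Submodule.finrank_map_subtype_eq, hSd, hUd] at h1
        rw [Multiset.sum_cons]; omega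
    · obtain ⟨U, W, hUW, hU, hW, hUd⟩ := hμν ν ((Multiset.le_cons_of_notMem hmem).1 hν)
      refine ⟨U.map C.subtype, S ⊔ W.map C.subtype, (combine U W hUW).2, lift U hU, ?_, ?_⟩
      · rw [Submodule.map_sup]; exact sup_le_sup hS (lift W hW)
      · rw [Submodule.finrank_map_subtype_eq, hUd]

end Cfsg.Agent.JordanSplit84
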