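import Cfsg.Agent.Lib.JordanSpreadAux23

/-!
A set of endomorphisms of a finite elementary abelian 2-group that contains `1`, is closed under sums
and under `x, y ↦ x * y * x`, and has all its nonzero members injective, is commutative. (The spread
set of a plane with two transitive groups of shears is a field.)
-/

set_option autoImplicit false

namespace Cfsg.Agent.JordanSpread23

open Finset
open scoped Classical

universe u v

section Eigen

variable {V : Type u} [AddCommGroup V] [CharP (AddMonoid.End V) 2] {L : Type v} [Field L] [Fintype L] [CharP L 2]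

/-- an eigenvector of a semilinear map whose power is scalar on the image of `M` -/
theorem exists_eigen (ι : L →+* AddMonoid.End V) {τ μ : L ≃+* L} {X M : AddMonoid.End V} (hX : Semi ι τ X)
    (hM : Semi ι μ M) (hM0 : M ≠ 0) {κ : L} (hκ0 : κ ≠ 0) (hκ : τ κ = κ)
    (hz : X ^ orderOf τ * M = ι κ * M) :
    ∃ (w : V) (t : L), w ≠ 0 ∧ t ≠ 0 ∧ X w = ι t w ∧
      ∀ W : AddMonoid.End V, (∀ i, W * (X ^ i * M) = 0) → (∀ c, ∃ d, W * ι c = ι d * W) → W w = 0 := by
  obtain ⟨t, ht, hN⟩ := exists_norm τ hκ0 hκ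
  set r := orderOf τ
  set T := ι t⁻¹ * X
  have hTpow : ∀ i, T ^ i = ι (∏ k ∈ range i, (τ ^ k) t⁻¹) * X ^ i := fun i => by
    induction i with
    | zero => simp
    | succ i ih =>
      rw [pow_succ, ih, Finset.prod_range_succ, map_mul]
      calc ι (∏ k ∈ range i, (τ ^ k) t⁻¹) * X ^ i * (ι t⁻¹ * X)
          = ι (∏ k ∈ range i, (τ ^ k) t⁻¹) * (X ^ i * ι t⁻¹) * X := by noncomm_ring
        _ = _ := by rw [hX.pow i, pow_succ]; noncomm_ring
  have hTr : T ^ r * M = M := by
    rw [hTpow, mul_assoc, hz, ← mul_assoc, ← map_mul]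
    simp only [map_inv₀, Finset.prod_inv_distrib, hN, inv_mul_cancel₀ hκ0, map_one, one_mul]
  set O := ∑ i ∈ range r, T ^ i * M
  have hTO : T * O = O := by
    have hr : 0 < r := orderOf_pos τ
    obtain ⟨m, hm⟩ : ∃ m, r = m + 1 := ⟨r - 1, by omega⟩
    simp only [O, Finset.mul_sum, ← mul_assoc, ← pow_succ']
    rw [hm, Finset.sum_range_succ, Finset.sum_range_succ' (fun i => T ^ i * M), ← hm, hTr, pow_zero, one_mul]
  have hO : O ≠ 0 := fun h => hM0 <| by
    have hT : Semi ι τ T := hX.smul _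
    have := congrArg (proj ι μ) h
    rw [map_sum, map_zero, Finset.sum_eq_single 0] at this
    · rwa [pow_zero, one_mul, proj_semi ι hM] at this
    · intro i hi h0
      refine proj_semi_ne ι ((hT.pow i).mul hM) fun e => h0 ?_
      refine pow_injOn_Iio_orderOf (Finset.mem_range.mp hi) (Set.mem_Iio.mpr (orderOf_pos τ)) ?_
      simpa using e.symm
    · intro h0; exact absurd (Finset.mem_range.mpr (orderOf_pos τ)) h0
  obtain ⟨u, hu⟩ : ∃ u, O u ≠ 0 := by
    by_contra hcon
    push Not at hcon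
    exact hO (AddMonoidHom.ext hcon)
  refine ⟨O u, t, hu, ht, ?_, fun W hW hWc => ?_⟩
  · have e : X * O = ι t * O := by
      conv_rhs => rw [← hTO]
      rw [← mul_assoc, ← mul_assoc, ← map_mul, mul_inv_cancel₀ ht, map_one, one_mul]
    exact DFunLike.congr_fun e u
  · have e : W * O = 0 := by
      rw [Finset.mul_sum]
      refine Finset.sum_eq_zero fun i _ => ?_
      obtain ⟨d, hd⟩ := hWc (∏ k ∈ range i, (τ ^ k) t⁻¹)
      rw [hTpow, mul_assoc, ← mul_assoc W, hd, mul_assoc, hW, mul_zero]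
    exact DFunLike.congr_fun e u

end Eigen

variable {V : Type u} [AddCommGroup V]

/-- closed under sums and `x y x`, with invertible nonzero members -/
structure IsJ (J : Set (AddMonoid.End V)) : Prop where
  one : 1 ∈ J
  add : ∀ x ∈ J, ∀ y ∈ J, x + y ∈ J
  aba : ∀ x ∈ J, ∀ y ∈ J, x * y * x ∈ J
  inj : ∀ x ∈ J, x ≠ 0 → Function.Injective x

variable [CharP (AddMonoid.End V) 2]

theorem IsJ.zero {J : Set (AddMonoid.End V)} (h : IsJ J) : (0 : AddMonoid.End V) ∈ J := by
  simpa [CharTwo.add_self_eq_zero] using h.add 1 h.one 1 h.one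

theorem IsJ.sq {J : Set (AddMonoid.End V)} (h : IsJ J) {x : AddMonoid.End V} (hx : x ∈ J) : x * x ∈ J := by
  simpa using h.aba x hx 1 h.one

theorem IsJ.pow {J : Set (AddMonoid.End V)} (h : IsJ J) {x : AddMonoid.End V} (hx : x ∈ J) :
    ∀ n : ℕ, x ^ n ∈ J
  | 0 => by simpa using h.one
  | 1 => by simpa using hx
  | n + 2 => by rw [pow_succ, pow_succ']; exact h.aba x hx _ (h.pow hx n)

theorem IsJ.eq_zero {J : Set (AddMonoid.End V)} (h : IsJ J) {x : AddMonoid.End V} (hx : x ∈ J) {w : V}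
    (hw : w ≠ 0) (hxw : x w = 0) : x = 0 := by
  by_contra h0
  exact hw (h.inj x hx h0 (hxw.trans (map_zero x).symm))

variable [Finite V]

/-- a commutative subring with injective nonzero members is a field -/
theorem exists_field (S : Subring (AddMonoid.End V)) (hc : ∀ x ∈ S, ∀ y ∈ S, x * y = y * x)
    (hi : ∀ x ∈ S, x ≠ 0 → Function.Injective x) :
    ∃ (L : Type u) (_ : Field L) (_ : Fintype L) (_ : CharP L 2) (ι : L →+* AddMonoid.End V),
      Function.Injective ι ∧ ∀ x, x ∈ S ↔ ∃ l, ι l = x := by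
  haveI : Finite (AddMonoid.End V) := Finite.of_injective (fun f : AddMonoid.End V => (f : V → V)) DFunLike.coe_injective
  haveI : Nontrivial (AddMonoid.End V) := CharP.nontrivial_of_char_ne_one (v := 2) (by decide)
  letI iC : CommRing S := { S.toRing with mul_comm := fun x y => Subtype.ext (hc x.1 x.2 y.1 y.2) }
  haveI : NoZeroDivisors S := ⟨fun {x y} h => by
    by_cases hx : x = 0
    · exact Or.inl hx
    refine Or.inr (Subtype.ext (AddMonoidHom.ext fun v => hi x x.2 (fun e => hx (Subtype.ext e)) ?_))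
    show ((x : AddMonoid.End V) * (y : AddMonoid.End V)) v = (x : AddMonoid.End V) 0
    rw [show (x : AddMonoid.End V) * y = 0 from congrArg Subtype.val h, map_zero]
    rfl⟩
  haveI : Nontrivial S := ⟨⟨0, 1, fun e => zero_ne_one (congrArg Subtype.val e)⟩⟩
  haveI : IsDomain S := NoZeroDivisors.to_isDomain S
  letI : Fintype S := Fintype.ofFinite S
  letI : Field S := Fintype.fieldOfDomain S
  exact ⟨S, inferInstance, inferInstance, RingHom.charP S.subtype S.subtype_injective 2, S.subtype,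
    S.subtype_injective, fun x => ⟨fun hx => ⟨⟨x, hx⟩, rfl⟩, fun h => by obtain ⟨l, hl⟩ := h; rw [← hl]; exact l.2⟩⟩

section Core

variable {L : Type u} [Field L] [Fintype L] [CharP L 2]

/-- the sum of the parts weighted by `f` -/
noncomputable def Ev (ι : L →+* AddMonoid.End V) (f : (L ≃+* L) → L) (x : AddMonoid.End V) : AddMonoid.End V :=
  ∑ σ, ι (f σ) * proj ι σ x

omit [Finite V] in
theorem proj_Ev (ι : L →+* AddMonoid.End V) (f : (L ≃+* L) → L) (x : AddMonoid.End V) (τ : L ≃+* L) :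
    proj ι τ (Ev ι f x) = ι (f τ) * proj ι τ x := by
  rw [Ev, map_sum, Finset.sum_eq_single τ]
  · exact proj_semi ι ((proj_semi' ι τ x).smul _)
  · exact fun σ _ hne => proj_semi_ne ι ((proj_semi' ι σ x).smul _) hne.symm
  · exact fun h => absurd (Finset.mem_univ _) h

/-- the functions generated by `σ ↦ b + σ b` and `σ ↦ b * σ b` -/
noncomputable def genE (L : Type u) [Field L] : Subring ((L ≃+* L) → L) :=
  Subring.closure ((Set.range fun b : L => fun σ : L ≃+* L => b + σ b) ∪ Set.range fun b : L => fun σ : L ≃+* L => b * σ b)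

theorem sum_mem {f : L} : (fun σ : L ≃+* L => f + σ f) ∈ genE L := Subring.subset_closure (Or.inl ⟨f, rfl⟩)

theorem prod_mem {f : L} : (fun σ : L ≃+* L => f * σ f) ∈ genE L := Subring.subset_closure (Or.inr ⟨f, rfl⟩)

theorem genE_symm {f : (L ≃+* L) → L} (hf : f ∈ genE L) (σ : L ≃+* L) : f σ⁻¹ = σ⁻¹ (f σ) := by
  induction hf using Subring.closure_induction with
  | mem g hg =>
    rcases hg with ⟨b, rfl⟩ | ⟨b, rfl⟩
    · show b + σ⁻¹ b = σ⁻¹ (b + σ b)
      rw [map_add, show σ⁻¹ (σ b) = b from σ.symm_apply_apply b, add_comm]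
    · show b * σ⁻¹ b = σ⁻¹ (b * σ b)
      rw [map_mul, show σ⁻¹ (σ b) = b from σ.symm_apply_apply b, mul_comm]
  | zero => simp
  | one => simp
  | add a b _ _ ha hb => simp [ha, hb]
  | neg a _ ha => simp [ha]
  | mul a b _ _ ha hb => simp [ha, hb]

theorem dichotomy {γ δ : L →+ L} (h : ∀ b, γ b = b ∨ γ b = δ b) : (∀ b, γ b = b) ∨ ∀ b, γ b = δ b := by
  by_contra hcon
  push Not at hcon
  obtain ⟨⟨b, hb⟩, c, hc⟩ := hcon
  have hb' := (h b).resolve_left hb
  have hc' := (h c).resolve_right hc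
  rcases h (b + c) with e | e <;> rw [map_add, hb', hc'] at e
  · exact hb (hb'.trans (add_right_cancel e))
  · rw [map_add] at e; exact hc (hc'.trans (add_left_cancel e))

theorem root_pair {γb s b σb : L} (h : γb ^ 2 + s * γb + b * σb = 0) (hs : s = b + σb) : γb = b ∨ γb = σb := by
  subst hs
  have : (γb - b) * (γb - σb) = 0 := by
    simp only [CharTwo.sub_eq_add]
    linear_combination h
  rcases mul_eq_zero.mp this with e | e
  · exact Or.inl (sub_eq_zero.mp e)
  · exact Or.inr (sub_eq_zero.mp e)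

theorem self_root (b : L) (σ : L ≃+* L) : b ^ 2 + (b + σ b) * b + b * σ b = 0 := by
  calc b ^ 2 + (b + σ b) * b + b * σ b = (b * b + b * b) + (b * σ b + b * σ b) := by ring
    _ = 0 := by simp [CharTwo.add_self_eq_zero]

theorem genE_top {σ : L ≃+* L} (hσ : σ = 1 ∨ σ ^ 2 ≠ 1) (c : L) : ∃ f ∈ genE L, f σ = c := by
  set F := (genE L).map (Pi.evalRingHom (fun _ => L) σ)
  suffices h : ∀ c, c ∈ F by obtain ⟨f, hf, e⟩ := h c; exact ⟨f, hf, e⟩
  intro c
  rcases hσ with rfl | h2
  · obtain ⟨b, rfl⟩ := ((Finite.injective_iff_surjective (f := fun x : L => x * x)).mp fun x y e => by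
      rcases mul_self_eq_mul_self_iff.mp e with e | e
      · exact e
      · rwa [CharTwo.neg_eq] at e) c
    exact ⟨_, prod_mem (f := b), rfl⟩
  · have hsum : ∀ b, b + σ b ∈ F := fun b => ⟨_, sum_mem (f := b), rfl⟩
    have hprod : ∀ b, b * σ b ∈ F := fun b => ⟨_, prod_mem (f := b), rfl⟩
    obtain ⟨n, -, hn⟩ := FiniteField.card L 2
    have hdvd : Nat.card F ∣ Nat.card L := AddSubgroup.card_addSubgroup_dvd_card F.toAddSubgroup
    rw [Nat.card_eq_fintype_card (α := L), hn] at hdvd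
    obtain ⟨k, -, hk⟩ := (Nat.dvd_prime_pow Nat.prime_two).mp hdvd
    have hfix : ∀ x ∈ F, x ^ (2 ^ k) = x := fun x hx => by
      letI : Fintype F := Fintype.ofFinite F
      letI : Field F := Fintype.fieldOfDomain F
      have h := FiniteField.pow_card (⟨x, hx⟩ : F)
      rw [← Nat.card_eq_fintype_card, hk] at h
      simpa using congrArg Subtype.val h
    let τ0 : L →+* L := iterateFrobenius L 2 k
    have hτ0 : ∀ x, τ0 x = x ^ (2 ^ k) := fun x => iterateFrobenius_def 2 k x
    have hroot : ∀ b, τ0 b = b ∨ τ0 b = σ b := fun b => by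
      have e := congrArg τ0 (self_root b σ)
      rw [map_add, map_add, map_mul, map_pow, map_zero, hτ0 (b + σ b), hfix _ (hsum b), hτ0 (b * σ b),
        hfix _ (hprod b)] at e
      exact root_pair e rfl
    rcases dichotomy (γ := τ0.toAddMonoidHom) (δ := (σ : L →+* L).toAddMonoidHom) hroot with h | h
    · suffices (F : Set L) = Set.univ by rw [← SetLike.mem_coe, this]; trivial
      refine Set.eq_of_subset_of_ncard_le (Set.subset_univ _) ?_
      rw [Set.ncard_univ]
      have hcard : Nat.card L ≤ 2 ^ k := by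
        by_cases hk0 : k = 0
        · exfalso
          subst hk0
          have h1 : Nontrivial F := ⟨⟨0, 1, fun e => zero_ne_one (congrArg Subtype.val e)⟩⟩
          have := Finite.one_lt_card (α := F)
          omega
        have hne := FiniteField.X_pow_card_pow_sub_X_ne_zero L hk0 (Nat.lt_succ_self 1)
        have hsub : (Finset.univ : Finset L) ⊆ ((Polynomial.X ^ (2 ^ k) - Polynomial.X : Polynomial L)).roots.toFinset :=
          fun x _ => by
            rw [Multiset.mem_toFinset, Polynomial.mem_roots hne]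
            have := h x
            simp only [RingHom.toAddMonoidHom_eq_coe, AddMonoidHom.coe_coe, hτ0] at this
            simp [this]
        calc Nat.card L = (Finset.univ : Finset L).card := by rw [Nat.card_eq_fintype_card, Finset.card_univ]
          _ ≤ _ := Finset.card_le_card hsub
          _ ≤ _ := Multiset.toFinset_card_le _
          _ ≤ _ := Polynomial.card_roots' _
          _ = 2 ^ k := FiniteField.X_pow_card_pow_sub_X_natDegree_eq L hk0 (Nat.lt_succ_self 1)
      calc Nat.card L ≤ 2 ^ k := hcard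
        _ = Nat.card F := hk.symm
        _ = (F : Set L).ncard := (Nat.card_coe_set_eq _)
    · exfalso
      refine h2 (RingEquiv.ext fun b => ?_)
      have hb' := h (b * σ b)
      simp only [RingHom.toAddMonoidHom_eq_coe, AddMonoidHom.coe_coe] at hb'
      rw [hτ0, hfix _ (hprod b), show ((σ : L →+* L)) (b * σ b) = σ b * σ (σ b) by simp, mul_comm] at hb'
      rw [pow_two, RingAut.mul_apply, RingAut.one_apply]
      by_cases hb : σ b = 0
      · rw [hb, map_zero]; exact ((map_eq_zero σ).mp hb).symm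
      · exact (mul_left_cancel₀ hb hb').symm

theorem genE_sep {σ τ : L ≃+* L} (hσ : σ = 1 ∨ σ ^ 2 ≠ 1) (h1 : τ ≠ σ) (h2 : τ ≠ σ⁻¹) :
    ∃ f ∈ genE L, f σ ≠ 0 ∧ f τ = 0 := by
  by_contra hcon
  push Not at hcon
  let eτ : genE L →+* L := (Pi.evalRingHom (fun _ => L) τ).comp (genE L).subtype
  let eσ : genE L →+* L := (Pi.evalRingHom (fun _ => L) σ).comp (genE L).subtype
  have hker : RingHom.ker eτ ≤ RingHom.ker eσ := fun f hf => by
    rw [RingHom.mem_ker] at hf ⊢
    by_contra hne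
    exact hcon f.1 f.2 hne hf
  have hsurjσ : Function.Surjective eσ := fun c => by
    obtain ⟨f, hf, e⟩ := genE_top hσ c; exact ⟨⟨f, hf⟩, e⟩
  have hsurjτ : Function.Surjective eτ := by
    have hinj : ∀ f g, eτ f = eτ g → eσ f = eσ g := fun f g e => by
      rw [← sub_eq_zero, ← map_sub]
      exact hker (by rw [RingHom.mem_ker, map_sub, e, sub_self])
    choose g hg using fun c => hsurjσ c
    have : Function.Injective fun c => eτ (g c) := fun c d e => by
      have := hinj _ _ e; rwa [hg, hg] at this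
    intro c
    obtain ⟨d, hd⟩ := Finite.injective_iff_surjective.mp this c
    exact ⟨g d, hd⟩
  let γ : L →+* L := eτ.liftOfSurjective hsurjτ ⟨eσ, hker⟩
  have hγ : ∀ f : genE L, γ (eτ f) = eσ f := fun f =>
    RingHom.liftOfRightInverse_comp_apply eτ _ (Function.rightInverse_surjInv hsurjτ) ⟨eσ, hker⟩ f
  have hs : ∀ b, γ (b + τ b) = b + σ b := fun b => hγ ⟨_, sum_mem (f := b)⟩
  have hp : ∀ b, γ (b * τ b) = b * σ b := fun b => hγ ⟨_, prod_mem (f := b)⟩
  have hroot : ∀ b, γ b = b ∨ γ b = σ b := fun b => by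
    have e := congrArg γ (self_root b τ)
    rw [map_add, map_add, map_mul, map_pow, map_zero, hs, hp] at e
    exact root_pair e rfl
  rcases dichotomy (γ := γ.toAddMonoidHom) (δ := (σ : L →+* L).toAddMonoidHom) hroot with h | h
  · refine h1 (RingEquiv.ext fun b => ?_)
    have e := hs b
    rw [show γ (b + τ b) = b + τ b from h _] at e
    exact add_left_cancel e
  · refine h2 (eq_inv_of_mul_eq_one_right (RingEquiv.ext fun b => ?_))
    have e := hs b
    rw [show γ (b + τ b) = σ (b + τ b) from h _, map_add, add_comm] at e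
    rw [RingAut.mul_apply, RingAut.one_apply]
    exact add_right_cancel e

theorem genE_indicator {σ : L ≃+* L} (hσ : σ = 1 ∨ σ ^ 2 ≠ 1) (c : L) :
    ∃ f ∈ genE L, f σ = c ∧ f σ⁻¹ = σ⁻¹ c ∧ ∀ τ, τ ≠ σ → τ ≠ σ⁻¹ → f τ = 0 := by
  choose f hf hfσ hfτ using fun τ : {τ : L ≃+* L // τ ≠ σ ∧ τ ≠ σ⁻¹} => genE_sep hσ τ.2.1 τ.2.2
  obtain ⟨g, hg, hgσ⟩ := genE_top hσ c
  set e := g * ∏ τ, f τ ^ (Fintype.card L - 1)
  have he : e ∈ genE L := Subring.mul_mem _ hg (Subring.prod_mem _ fun τ _ => Subring.pow_mem _ (hf τ) _)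
  have hσe : e σ = c := by
    simp only [e, Pi.mul_apply, Finset.prod_apply, Pi.pow_apply]
    rw [Finset.prod_eq_one fun τ _ => FiniteField.pow_card_sub_one_eq_one _ (hfσ τ), mul_one, hgσ]
  refine ⟨e, he, hσe, by rw [genE_symm he, hσe], fun τ h1 h2 => ?_⟩
  simp only [e, Pi.mul_apply, Finset.prod_apply, Pi.pow_apply]
  rw [Finset.prod_eq_zero (Finset.mem_univ ⟨τ, h1, h2⟩), mul_zero]
  rw [hfτ]
  exact zero_pow (Nat.sub_ne_zero_of_lt Fintype.one_lt_card)

variable {J : Set (AddMonoid.End V)} {ι : L →+* AddMonoid.End V}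

omit [Finite V] in
theorem Ev_mem (hJ : IsJ J) (hιJ : ∀ l, ι l ∈ J) {f : (L ≃+* L) → L} (hf : f ∈ genE L) :
    ∀ x ∈ J, Ev ι f x ∈ J := by
  induction hf using Subring.closure_induction with
  | mem g hg =>
    intro x hx
    have hr : ∀ b, x * ι b = ∑ σ, ι (σ b) * proj ι σ x := fun b => by
      conv_lhs => rw [← sum_proj ι x, Finset.sum_mul]
      exact Finset.sum_congr rfl fun σ _ => proj_semi' ι σ x b
    rcases hg with ⟨b, rfl⟩ | ⟨b, rfl⟩
    · have e : Ev ι (fun σ => b + σ b) x = ι b * x + x * ι b := by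
        simp only [Ev, map_add, add_mul, Finset.sum_add_distrib, ← hr]
        rw [← Finset.mul_sum, sum_proj]
      rw [e]
      have h := hJ.add _ (hJ.add _ (hJ.sq (hJ.add _ (hιJ b) _ hx)) _ (hJ.sq (hιJ b))) _ (hJ.sq hx)
      convert h using 1
      calc ι b * x + x * ι b
          = ι b * x + x * ι b + (ι b * ι b + ι b * ι b) + (x * x + x * x) := by
            simp [CharTwo.add_self_eq_zero]
        _ = _ := by noncomm_ring
    · have e : Ev ι (fun σ => b * σ b) x = ι b * x * ι b := by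
        simp only [Ev, map_mul, mul_assoc, ← Finset.mul_sum, ← hr]
      rw [e]; exact hJ.aba _ (hιJ b) _ hx
  | zero => intro x _; simpa [Ev] using hJ.zero
  | one => intro x hx; simpa [Ev, sum_proj] using hx
  | add a b _ _ ha hb =>
    intro x hx
    simpa [Ev, add_mul, Finset.sum_add_distrib] using hJ.add _ (ha x hx) _ (hb x hx)
  | neg a _ ha => intro x hx; simpa [Ev, CharTwo.neg_eq] using ha x hx
  | mul a b _ _ ha hb =>
    intro x hx
    have := ha _ (hb x hx)
    rw [Ev] at this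
    simp only [proj_Ev] at this
    simpa [Ev, mul_assoc] using this

/-- the pure pair of parts, rescaled -/
theorem pair_mem (hJ : IsJ J) (hιJ : ∀ l, ι l ∈ J) {σ : L ≃+* L} (h2 : σ ^ 2 ≠ 1) {x : AddMonoid.End V} (hx : x ∈ J)
    (c : L) : ι c * proj ι σ x + ι (σ⁻¹ c) * proj ι σ⁻¹ x ∈ J := by
  obtain ⟨f, hf, h, h', h0⟩ := genE_indicator (Or.inr h2) c
  have hne : σ ≠ σ⁻¹ := fun e => h2 (by rw [pow_two]; nth_rw 2 [e]; exact mul_inv_cancel σ)
  convert Ev_mem hJ hιJ hf x hx using 1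
  rw [Ev, Finset.sum_eq_add_of_mem σ σ⁻¹ (Finset.mem_univ _) (Finset.mem_univ _) hne, h, h']
  intro τ _ ⟨h1, h2⟩
  simp [h0 τ h1 h2]

theorem linear_mem (hJ : IsJ J) (hιJ : ∀ l, ι l ∈ J) {x : AddMonoid.End V} (hx : x ∈ J) : proj ι 1 x ∈ J := by
  obtain ⟨f, hf, h, -, h0⟩ := genE_indicator (σ := (1 : L ≃+* L)) (Or.inl rfl) 1
  convert Ev_mem hJ hιJ hf x hx using 1
  rw [Ev, Finset.sum_eq_single 1, h, map_one, one_mul]
  · exact fun τ _ hτ => by simp [h0 τ hτ (by simpa using hτ)]
  · exact fun h => absurd (Finset.mem_univ _) h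

omit [Finite V] in
theorem coe_injective (ι : L →+* AddMonoid.End V) : Function.Injective ι := by
  haveI : Nontrivial (AddMonoid.End V) := CharP.nontrivial_of_char_ne_one (v := 2) (by decide)
  exact ι.injective

omit [Finite V] in
theorem coe_cancel {X : AddMonoid.End V} (hX : X ≠ 0) {c d : L} (h : ι c * X = ι d * X) : c = d :=
  sub_eq_zero.mp (eq_zero_of_coe_mul ι (by rw [map_sub, sub_mul, h, sub_self]) hX)

theorem invol_eq_zero (hJ : IsJ J) (hK : ∀ x ∈ J, Semi ι 1 x → ∃ l, ι l = x) (hιJ : ∀ l, ι l ∈ J)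
    {σ : L ≃+* L} (h1 : σ ≠ 1) (h2 : σ ^ 2 = 1) {Y : AddMonoid.End V} (hY : Y ∈ J) (hs : Semi ι σ Y) : Y = 0 := by
  by_contra h0
  have hlin : Semi ι 1 (Y * Y) := by
    have := hs.mul hs; rwa [← pow_two, h2] at this
  obtain ⟨c, hc⟩ := hK _ (hJ.sq hY) hlin
  have hσc : σ c = c := coe_cancel h0 (by rw [← hs, hc, mul_assoc])
  obtain ⟨e, he⟩ := ((Finite.injective_iff_surjective (f := fun x : L => x * x)).mp fun x y e => by
    rcases mul_self_eq_mul_self_iff.mp e with e | e
    · exact e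
    · rwa [CharTwo.neg_eq] at e) c
  simp only at he
  have hσe : σ e = e := by
    have : σ e * σ e = e * e := by rw [← map_mul, he, hσc]
    rcases mul_self_eq_mul_self_iff.mp this with e' | e'
    · exact e'
    · rwa [CharTwo.neg_eq] at e'
  have hsq : (Y + ι e) * (Y + ι e) = 0 := by
    calc (Y + ι e) * (Y + ι e) = Y * Y + ι (e * e) + (Y * ι e + ι e * Y) := by rw [map_mul]; noncomm_ring
      _ = 0 := by rw [hs, hσe, CharTwo.add_self_eq_zero, he, hc, CharTwo.add_self_eq_zero, add_zero]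
  have hz : Y + ι e = 0 := by
    by_contra hne
    have hi := hJ.inj _ (hJ.add _ hY _ (hιJ e)) hne
    refine hne (AddMonoidHom.ext fun v => hi ?_)
    show ((Y + ι e) * (Y + ι e)) v = (Y + ι e) 0
    rw [hsq, map_zero]
    rfl
  have : Y = ι e := CharTwo.add_eq_zero.mp hz
  refine h0 ?_
  rw [← proj_semi ι hs, this, proj_semi_ne ι (semi_coe ι e) h1]

theorem aut_cyclic : IsCyclic (L ≃+* L) := by
  letI : Algebra (ZMod 2) L := ZMod.algebra L 2
  let φ : (L ≃+* L) →* (L ≃ₐ[ZMod 2] L) :=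
    { toFun := fun σ => AlgEquiv.ofRingEquiv (f := σ) fun x => by
        have : (σ.toRingHom.comp (algebraMap (ZMod 2) L)) = algebraMap (ZMod 2) L := Subsingleton.elim _ _
        exact DFunLike.congr_fun this x
      map_one' := AlgEquiv.ext fun x => rfl
      map_mul' := fun σ τ => AlgEquiv.ext fun x => rfl }
  exact isCyclic_of_injective φ fun σ τ h => RingEquiv.ext fun x => DFunLike.congr_fun h x

/-- no noncommuting element over the field -/
theorem core (hJ : IsJ J) (hιJ : ∀ l, ι l ∈ J) (hK : ∀ x ∈ J, Semi ι 1 x → ∃ l, ι l = x)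
    (hC : ∀ b, (∃ x ∈ J, x * ι b ≠ ι b * x) → ∀ x ∈ J, x * ι b = ι b * x → Semi ι 1 x)
    {χ : AddMonoid.End V} (hχ : χ ∈ J) : Semi ι 1 χ := by
  classical
  by_contra hns
  -- a part with `σ ^ 2 ≠ 1`
  obtain ⟨σ, h2, hX0⟩ : ∃ σ : L ≃+* L, σ ^ 2 ≠ 1 ∧ proj ι σ χ ≠ 0 := by
    by_contra hcon
    push Not at hcon
    have h1m := linear_mem hJ hιJ hχ
    haveI : IsCyclic (L ≃+* L) := aut_cyclic
    apply hns
    have hsum := sum_proj ι χ
    by_cases hinv : ∃ σ : L ≃+* L, σ ≠ 1 ∧ σ ^ 2 = 1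
    · obtain ⟨σ, hσ1, hσ2⟩ := hinv
      have huniq : ∀ τ : L ≃+* L, τ ^ 2 = 1 → τ = 1 ∨ τ = σ := fun τ hτ => by
        by_contra hc
        push Not at hc
        have hcard := IsCyclic.card_pow_eq_one_le (α := L ≃+* L) (n := 2) (by omega)
        have hs : ({1, σ, τ} : Finset (L ≃+* L)) ⊆ Finset.univ.filter fun a => a ^ 2 = 1 := by
          intro x hx
          simp only [Finset.mem_insert, Finset.mem_singleton] at hx
          rcases hx with rfl | rfl | rfl <;> simp [hσ2, hτ]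
        have := (Finset.card_le_card hs).trans hcard
        rw [Finset.card_insert_of_notMem (by simp [hσ1.symm, hc.1.symm]),
          Finset.card_insert_of_notMem (by simp [hc.2.symm]), Finset.card_singleton] at this
        omega
      rw [Finset.sum_eq_add_of_mem 1 σ (Finset.mem_univ _) (Finset.mem_univ _) hσ1.symm] at hsum
      · have hy : proj ι σ χ ∈ J := by
          have := hJ.add _ h1m _ hχ
          nth_rw 2 [← hsum] at this
          rwa [← add_assoc, CharTwo.add_self_eq_zero, zero_add] at this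
        rw [invol_eq_zero hJ hK hιJ hσ1 hσ2 hy (proj_semi' ι σ χ), add_zero] at hsum
        rw [← hsum]; exact proj_semi' ι 1 χ
      · intro τ _ ⟨hτ1, hτσ⟩
        by_cases hτ : τ ^ 2 = 1
        · exact absurd (huniq τ hτ) (by simp [hτ1, hτσ])
        · exact hcon τ hτ
    · push Not at hinv
      rw [Finset.sum_eq_single 1 (fun τ _ hτ => hcon τ (hinv τ hτ)) (fun h => absurd (Finset.mem_univ _) h)] at hsum
      rw [← hsum]; exact proj_semi' ι 1 χ
  have h1 : σ ≠ 1 := fun e => h2 (by rw [e, one_pow])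
  set X := proj ι σ χ
  set Z := proj ι σ⁻¹ χ
  have hsX : Semi ι σ X := proj_semi' ι σ χ
  have hsZ : Semi ι σ⁻¹ Z := proj_semi' ι σ⁻¹ χ
  have hfam : ∀ c, ι c * X + ι (σ⁻¹ c) * Z ∈ J := pair_mem hJ hιJ h2 hχ
  set Y := X + Z with hY
  have hYJ : Y ∈ J := by simpa using hfam 1
  have hσne : σ ≠ σ⁻¹ := fun e => h2 (by rw [pow_two]; nth_rw 2 [e]; exact mul_inv_cancel σ)
  have hprojY : proj ι σ Y = X := by
    rw [hY, map_add, proj_semi ι hsX, proj_semi_ne ι hsZ hσne, add_zero]
  -- the linear part of squares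
  have hXZ : Semi ι 1 (X * Z) := by simpa using hsX.mul hsZ
  have hZX : Semi ι 1 (Z * X) := by simpa using hsZ.mul hsX
  have hXX : Semi ι (σ ^ 2) (X * X) := by simpa [pow_two] using hsX.mul hsX
  have hZZ : Semi ι ((σ⁻¹) ^ 2) (Z * Z) := by simpa [pow_two] using hsZ.mul hsZ
  have h2' : (σ⁻¹) ^ 2 ≠ 1 := by rwa [inv_pow, Ne, inv_eq_one]
  have hquad : ∀ d, ∃ l, ι l = ι d * (X * Z) + ι (σ⁻¹ d) * (Z * X) := fun d => by
    obtain ⟨c, rfl⟩ := ((Finite.injective_iff_surjective (f := fun x : L => x * x)).mp fun x y e => by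
      rcases mul_self_eq_mul_self_iff.mp e with e | e
      · exact e
      · rwa [CharTwo.neg_eq] at e) d
    refine hK _ ?_ ((hXZ.smul _).add (hZX.smul _))
    convert linear_mem hJ hιJ (hJ.sq (hfam c)) using 1
    have hexp : (ι c * X + ι (σ⁻¹ c) * Z) * (ι c * X + ι (σ⁻¹ c) * Z) =
        ι (c * σ c) * (X * X) + ι (c * σ (σ⁻¹ c)) * (X * Z) +
          ι (σ⁻¹ c * σ⁻¹ c) * (Z * X) + ι (σ⁻¹ c * σ⁻¹ (σ⁻¹ c)) * (Z * Z) := by
      calc _ = ι c * (X * ι c) * X + ι c * (X * ι (σ⁻¹ c)) * Z + ι (σ⁻¹ c) * (Z * ι c) * X +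
          ι (σ⁻¹ c) * (Z * ι (σ⁻¹ c)) * Z := by noncomm_ring
        _ = _ := by rw [hsX, hsX, hsZ, hsZ]; simp only [map_mul]; noncomm_ring
    rw [hexp, map_add, map_add, map_add, proj_semi_ne ι (hXX.smul _) h2.symm,
      proj_semi ι (hXZ.smul _), proj_semi ι (hZX.smul _), proj_semi_ne ι (hZZ.smul _) h2'.symm,
      zero_add, add_zero, show σ (σ⁻¹ c) = c from σ.apply_symm_apply c]
    simp only [map_mul]
  obtain ⟨α, hα⟩ : ∃ l, ι l = X * Z := by
    obtain ⟨d, hd⟩ : ∃ d, σ⁻¹ d ≠ d := by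
      by_contra hcon
      push Not at hcon
      exact h1 (inv_eq_one.mp (RingEquiv.ext hcon))
    obtain ⟨l, hl⟩ := hquad d
    obtain ⟨l', hl'⟩ := hquad 1
    have hdd : d + σ⁻¹ d ≠ 0 := fun e => hd (CharTwo.add_eq_zero.mp e).symm
    refine ⟨(d + σ⁻¹ d)⁻¹ * (l + σ⁻¹ d * l'), ?_⟩
    have e : ι (l + σ⁻¹ d * l') = ι (d + σ⁻¹ d) * (X * Z) := by
      rw [map_add, map_mul, hl, hl']
      simp only [map_one, one_mul, map_add]
      calc _ = ι d * (X * Z) + ι (σ⁻¹ d) * (X * Z) + (ι (σ⁻¹ d) * (Z * X) + ι (σ⁻¹ d) * (Z * X)) := by noncomm_ring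
        _ = _ := by rw [CharTwo.add_self_eq_zero, add_zero]; noncomm_ring
    rw [map_mul, e, ← mul_assoc, ← map_mul, inv_mul_cancel₀ hdd, map_one, one_mul]
  obtain ⟨β, hβ⟩ : ∃ l, ι l = Z * X := by
    obtain ⟨l', hl'⟩ := hquad 1
    refine ⟨l' + α, ?_⟩
    rw [map_add, hl', hα]
    simp only [map_one, one_mul]
    rw [add_comm (X * Z), add_assoc, CharTwo.add_self_eq_zero, add_zero]
  have hαβ : α = σ β := coe_cancel hX0 (by rw [← hsX, hβ, hα, mul_assoc])
  set r := orderOf σ
  have hr : 3 ≤ r := by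
    have h0 : 0 < r := orderOf_pos σ
    by_contra hlt
    rcases (show r = 1 ∨ r = 2 by omega) with h | h
    · exact h1 (orderOf_eq_one_iff.mp (show orderOf σ = 1 from h))
    · exact h2 (by
        have e : orderOf σ = 2 := h
        rw [← e]; exact pow_orderOf_eq_one σ)
  -- powers
  have hXpow := hsX.pow
  have hZpow := hsZ.pow
  have hXZs : ∀ n, ∃ p, X * Z ^ (n + 1) = ι p * Z ^ n := fun n => ⟨α, by rw [pow_succ', ← mul_assoc, hα]⟩
  let A : ℕ → AddSubgroup (AddMonoid.End V) := fun n =>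
    AddSubgroup.closure {x | ∃ b, ∃ i ≤ n, x = ι b * X ^ i ∨ x = ι b * Z ^ i}
  have hAmem : ∀ n b i, i ≤ n → ι b * X ^ i ∈ A n ∧ ι b * Z ^ i ∈ A n := fun n b i hi =>
    ⟨AddSubgroup.subset_closure ⟨b, i, hi, Or.inl rfl⟩, AddSubgroup.subset_closure ⟨b, i, hi, Or.inr rfl⟩⟩
  have hYA : ∀ n, ∀ x ∈ A n, Y * x ∈ A (n + 1) := fun n x hx => by
    induction hx using AddSubgroup.closure_induction with
    | zero => rw [mul_zero]; exact zero_mem _
    | add a b _ _ ha hb => rw [mul_add]; exact add_mem ha hb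
    | neg a _ ha => rw [mul_neg]; exact neg_mem ha
    | mem g hg =>
      obtain ⟨b, i, hi, rfl | rfl⟩ := hg
      · rw [hY, add_mul, ← mul_assoc, ← mul_assoc, hsX, hsZ, mul_assoc, mul_assoc]
        refine add_mem (pow_succ' X i ▸ (hAmem _ _ _ (by omega)).1) ?_
        rcases i with _ | i
        · rw [pow_zero, mul_one]
          simpa using (hAmem (n + 1) (σ⁻¹ b) 1 (by omega)).2
        · rw [pow_succ', ← mul_assoc Z, ← hβ, ← mul_assoc, ← map_mul]
          exact (hAmem _ _ _ (by omega)).1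
      · rw [hY, add_mul, ← mul_assoc, ← mul_assoc, hsX, hsZ, mul_assoc, mul_assoc]
        refine add_mem ?_ (pow_succ' Z i ▸ (hAmem _ _ _ (by omega)).2)
        rcases i with _ | i
        · rw [pow_zero, mul_one]
          simpa using (hAmem (n + 1) (σ b) 1 (by omega)).1
        · rw [pow_succ', ← mul_assoc X, ← hα, ← mul_assoc, ← map_mul]
          exact (hAmem _ _ _ (by omega)).2
  have hYpow : ∀ n, Y ^ (n + 2) - (X ^ (n + 2) + Z ^ (n + 2)) ∈ A n := fun n => by
    induction n with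
    | zero =>
      have e : Y ^ (0 + 2) - (X ^ (0 + 2) + Z ^ (0 + 2)) = ι (α + β) * X ^ 0 := by
        rw [pow_zero, mul_one, map_add, hα, hβ, hY]; noncomm_ring
      rw [e]; exact (hAmem 0 _ 0 le_rfl).1
    | succ n ih =>
      have e : Y ^ (n + 1 + 2) - (X ^ (n + 1 + 2) + Z ^ (n + 1 + 2)) =
          Y * (Y ^ (n + 2) - (X ^ (n + 2) + Z ^ (n + 2))) + ι α * Z ^ (n + 1) + ι β * X ^ (n + 1) := by
        rw [show n + 1 + 2 = (n + 2) + 1 from rfl, pow_succ' Y, pow_succ' X, pow_succ' Z, hα, hβ,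
          show n + 2 = (n + 1) + 1 from rfl, pow_succ' X (n + 1), pow_succ' Z (n + 1), hY]
        noncomm_ring
      rw [e]
      exact add_mem (add_mem (hYA n _ ih) (hAmem _ _ _ le_rfl).2) (hAmem _ _ _ le_rfl).1
  have hsigr : σ ^ r = 1 := pow_orderOf_eq_one σ
  have hsXr : Semi ι 1 (X ^ r) := hsigr ▸ hXpow r
  have hsZr : Semi ι 1 (Z ^ r) := by have := hZpow r; rwa [inv_pow, hsigr, inv_one] at this
  obtain ⟨κ, hκ⟩ : ∃ l, ι l = X ^ r + Z ^ r := by
    have hA : ∀ x ∈ A (r - 2), ∃ l, ι l = proj ι 1 x := fun x hx => by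
      induction hx using AddSubgroup.closure_induction with
      | zero => exact ⟨0, by simp⟩
      | add a b _ _ ha hb =>
        obtain ⟨l, hl⟩ := ha; obtain ⟨m, hm⟩ := hb; exact ⟨l + m, by rw [map_add, map_add, hl, hm]⟩
      | neg a _ ha => obtain ⟨l, hl⟩ := ha; exact ⟨-l, by rw [map_neg, map_neg, hl]⟩
      | mem g hg =>
        obtain ⟨b, i, hi, hg⟩ := hg
        by_cases h0 : i = 0
        · subst h0
          refine ⟨b, ?_⟩
          rcases hg with rfl | rfl <;> rw [pow_zero, mul_one, proj_semi ι (semi_coe ι b)]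
        · have hne : σ ^ i ≠ 1 := pow_ne_one_of_lt_orderOf h0 (by omega)
          refine ⟨0, ?_⟩
          rcases hg with rfl | rfl
          · rw [proj_semi_ne ι ((hXpow i).smul b) hne.symm, map_zero]
          · rw [proj_semi_ne ι ((hZpow i).smul b) (by rw [inv_pow]; exact fun e => hne (inv_eq_one.mp e.symm)), map_zero]
    have hm := hYpow (r - 2)
    rw [show r - 2 + 2 = r by omega] at hm
    obtain ⟨l, hl⟩ := hA _ hm
    obtain ⟨l', hl'⟩ := hK _ (linear_mem hJ hιJ (hJ.pow hYJ r)) (proj_semi' ι 1 _)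
    refine ⟨l' - l, ?_⟩
    rw [map_sub, hl, hl', map_sub, sub_sub_cancel, map_add, proj_semi ι hsXr, proj_semi ι hsZr]
  have hκσ : σ κ = κ := coe_cancel hX0 (by
    rw [← hsX, hκ, mul_add, add_mul, ← pow_succ', ← pow_succ]
    congr 1
    obtain ⟨m, hm⟩ : ∃ m, r = m + 1 := ⟨r - 1, by omega⟩
    have hm' : (σ⁻¹) ^ m = σ := by
      rw [inv_pow]
      refine inv_eq_of_mul_eq_one_left ?_
      rw [← pow_succ', ← hm, hsigr]
    rw [hm, pow_succ' Z, ← mul_assoc, ← hα, ← pow_succ', pow_succ, mul_assoc, ← hβ, hZpow m, hm', ← hαβ])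
  have hnil : ∀ n, ∃ p, ι p = X ^ n * Z ^ n := fun n => by
    induction n with
    | zero => exact ⟨1, by simp⟩
    | succ n ih =>
      obtain ⟨p, hp⟩ := ih
      refine ⟨σ p * α, ?_⟩
      rw [pow_succ' X, pow_succ Z, mul_assoc X, ← mul_assoc (X ^ n), ← hp, ← mul_assoc X, hsX, mul_assoc,
        ← hα, ← map_mul]
  -- an eigenvector for both kills an element of `J`
  have final : ∀ (w : V) (b : L), w ≠ 0 → (ι b + Y) w = 0 → False := fun w b hw h0 => hX0 (by
    have := hJ.eq_zero (hJ.add _ (hιJ b) _ hYJ) hw h0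
    have := congrArg (proj ι σ) this
    rwa [map_add, proj_semi_ne ι (semi_coe ι b) h1, zero_add, map_zero, hprojY] at this)
  by_cases hα0 : α = 0
  · have hβ0 : β = 0 := (map_eq_zero σ).mp (hαβ ▸ hα0)
    have hZX0 : Z * X = 0 := by rw [← hβ, hβ0, map_zero]
    have hXr : X ^ r * X = ι κ * X := by
      rw [hκ, add_mul]
      obtain ⟨m, hm⟩ : ∃ m, r = m + 1 := ⟨r - 1, by omega⟩
      rw [hm, pow_succ Z, mul_assoc (Z ^ m), hZX0, mul_zero, add_zero]
    by_cases hκ0 : κ = 0
    · have hex : ∃ n, X ^ (n + 1) = 0 := ⟨r, by rw [pow_succ, hXr, hκ0, map_zero, zero_mul]⟩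
      obtain ⟨n, hn, hn'⟩ : ∃ n, X ^ (n + 1) = 0 ∧ X ^ n ≠ 0 ∧ 1 ≤ n := by
        refine ⟨Nat.find hex, Nat.find_spec hex, ?_⟩
        have h0 : Nat.find hex ≠ 0 := fun e => hX0 (by have := Nat.find_spec hex; rwa [e, pow_one] at this)
        refine ⟨fun e => ?_, Nat.one_le_iff_ne_zero.mpr h0⟩
        exact Nat.find_min hex (show Nat.find hex - 1 < Nat.find hex by omega) (by rwa [Nat.sub_add_cancel (by omega)])
      obtain ⟨u, hu⟩ : ∃ u, (X ^ n) u ≠ 0 := by
        by_contra hcon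
        push Not at hcon
        exact hn'.1 (AddMonoidHom.ext hcon)
      refine final ((X ^ n) u) 0 hu ?_
      obtain ⟨m, rfl⟩ : ∃ m, n = m + 1 := ⟨n - 1, by omega⟩
      have e : (ι 0 + Y) * X ^ (m + 1) = 0 := by
        rw [map_zero, zero_add, hY, add_mul, ← pow_succ', hn, zero_add, pow_succ', ← mul_assoc, hZX0, zero_mul]
      exact DFunLike.congr_fun e u
    · obtain ⟨w, t, hw, -, hXw, hker⟩ := exists_eigen ι hsX hsX hX0 hκ0 hκσ hXr
      have hZw : Z w = 0 := hker Z (fun i => by rw [← pow_succ, pow_succ', ← mul_assoc, hZX0, zero_mul])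
        (fun c => ⟨_, hsZ c⟩)
      refine final w t hw ?_
      show ι t w + (X w + Z w) = 0
      rw [hXw, hZw, add_zero]
      exact (DFunLike.congr_fun (CharTwo.add_self_eq_zero (ι t)) w : _)
  -- `X` is injective
  have hβ0 : β ≠ 0 := fun e => hα0 (by rw [hαβ, e, map_zero])
  have hZXu : ι β⁻¹ * (Z * X) = 1 := by rw [← hβ, ← map_mul, inv_mul_cancel₀ hβ0, map_one]
  have hXinj : ∀ W : AddMonoid.End V, X * W = 0 → W = 0 := fun W h => by
    have e : ι β⁻¹ * (Z * X) * W = 0 := by rw [mul_assoc, mul_assoc, h, mul_zero, mul_zero]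
    rwa [hZXu, one_mul] at e
  have hsurj : Function.Surjective X := Finite.injective_iff_surjective.mp fun a b e => by
    have := congrArg (ι β⁻¹ * Z : AddMonoid.End V) e
    have h' : ∀ v, (ι β⁻¹ * Z) (X v) = v := fun v => by
      have := DFunLike.congr_fun hZXu v
      exact this
    rwa [h', h'] at this
  obtain ⟨π0, hπ0⟩ := hnil r
  set z := X ^ r with hz
  have hzq : z * z + ι κ * z + ι π0 = 0 := by
    have e : ι π0 = z * z + ι κ * z := by
      rw [hπ0]
      have : Z ^ r = ι κ + z := by rw [hκ, add_comm, ← add_assoc, CharTwo.add_self_eq_zero, zero_add]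
      rw [this, mul_add, hsXr, RingAut.one_apply, add_comm]
    rw [e, CharTwo.add_self_eq_zero]
  have hzX : z * X = X * z := by rw [hz, ← pow_succ, ← pow_succ']
  have hzM : ∀ {M : AddMonoid.End V}, z * M = 0 → M = 0 := fun {M} h => by
    have : ∀ n, X ^ n * M = 0 → M = 0 := fun n => by
      induction n with
      | zero => simp
      | succ n ih => intro h; rw [pow_succ', mul_assoc] at h; exact ih (hXinj _ h)
    exact this r h
  have eig : ∀ (M : AddMonoid.End V) (ρ : L), M ≠ 0 → Semi ι 1 M → σ ρ = ρ → z * M = ι ρ * M → False := by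
    intro M ρ hM hsM hσρ hzρ
    have hρ0 : ρ ≠ 0 := fun e => hM (hzM (by rw [hzρ, e, map_zero, zero_mul]))
    obtain ⟨w, t, hw, ht, hXw, -⟩ := exists_eigen ι hsX hsM hM hρ0 hσρ hzρ
    set s := (σ⁻¹ t)⁻¹ * β
    have hst : σ⁻¹ t ≠ 0 := (map_ne_zero _).mpr ht
    have hZw : Z w = ι s w := by
      have e : (Z * X) w = (ι (σ⁻¹ t) * Z) w := by
        rw [← hsZ]; show Z (X w) = Z (ι t w); rw [hXw]
      rw [← hβ] at e
      have e' := congrArg (ι (σ⁻¹ t)⁻¹) e
      have h1 : ι (σ⁻¹ t)⁻¹ (ι β w) = ι s w := by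
        show (ι (σ⁻¹ t)⁻¹ * ι β) w = _
        rw [← map_mul]
      have h2 : ι (σ⁻¹ t)⁻¹ ((ι (σ⁻¹ t) * Z) w) = Z w := by
        show (ι (σ⁻¹ t)⁻¹ * (ι (σ⁻¹ t) * Z)) w = _
        rw [← mul_assoc, ← map_mul, inv_mul_cancel₀ hst, map_one, one_mul]
      rw [h1, h2] at e'
      exact e'.symm
    refine final w (t + s) hw ?_
    show ι (t + s) w + (X w + Z w) = 0
    rw [hXw, hZw, show ι t w + ι s w = ι (t + s) w by rw [map_add]; rfl]
    exact (DFunLike.congr_fun (CharTwo.add_self_eq_zero (ι (t + s))) w : _)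
  have hsz : Semi ι 1 z := hsXr
  have of_coe : ∀ ρ, ι ρ = z → False := fun ρ hρ => eig 1 ρ
    (haveI : Nontrivial (AddMonoid.End V) := CharP.nontrivial_of_char_ne_one (v := 2) (by decide); one_ne_zero)
    (semi_one ι) (coe_cancel hX0 (by rw [← hsX, hρ, hzX])) (by rw [hρ])
  have hXX0 : X * X ≠ 0 := fun e => hX0 (hXinj _ e)
  -- `X² + Z²` lies in `J`
  have hlinY : proj ι 1 (Y * Y) = ι (α + β) := by
    rw [hY, show (X + Z) * (X + Z) = X * X + (X * Z + Z * X) + Z * Z by noncomm_ring, map_add, map_add,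
      proj_semi_ne ι hXX h2.symm, proj_semi_ne ι hZZ h2'.symm, ← hα, ← hβ, ← map_add,
      proj_semi ι (semi_coe ι _)]
    simp
  have hW : X * X + Z * Z ∈ J := by
    convert hJ.add _ (hJ.sq hYJ) _ (hιJ (α + β)) using 1
    rw [hY, map_add, hα, hβ]
    calc X * X + Z * Z = X * X + Z * Z + (X * Z + X * Z) + (Z * X + Z * X) := by
          simp [CharTwo.add_self_eq_zero]
      _ = _ := by noncomm_ring
  by_cases h4 : σ ^ 4 = 1
  · have hinv2 : (σ⁻¹) ^ 2 = σ ^ 2 := by
      rw [inv_pow]; exact inv_eq_of_mul_eq_one_left (by rw [← pow_add]; exact h4)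
    have hW0 := invol_eq_zero hJ hK hιJ h2 (by rw [← pow_mul]; exact h4) hW (hXX.add (hinv2 ▸ hZZ))
    have hX2 : X * X = Z * Z := CharTwo.add_eq_zero.mp hW0
    have hr4 : r = 4 := by
      have : r ∣ 4 := orderOf_dvd_of_pow_eq_one h4
      have hle := Nat.le_of_dvd (by omega) this
      interval_cases r
      · omega
      · rfl
    obtain ⟨p, hp⟩ := hnil 2
    refine of_coe p ?_
    rw [hp, hz, hr4, pow_two, pow_two, ← hX2]
    noncomm_ring
  have hfix : ∀ b, σ (σ b) = b → σ b = b := fun b hb => by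
    by_contra hne
    have hnc : ∃ x ∈ J, x * ι b ≠ ι b * x := by
      refine ⟨Y, hYJ, fun e => hne ?_⟩
      have := congrArg (proj ι σ) e
      rw [hY, add_mul, hsX, hsZ, mul_add, map_add, map_add, proj_semi ι (hsX.smul _),
        proj_semi_ne ι (hsZ.smul _) hσne, proj_semi ι (hsX.smul _), proj_semi_ne ι (hsZ.smul _) hσne,
        add_zero, add_zero] at this
      exact coe_cancel hX0 this
    have hb' : σ⁻¹ (σ⁻¹ b) = b := by
      conv_lhs => rw [← hb]
      simp
    have hcom : (X * X + Z * Z) * ι b = ι b * (X * X + Z * Z) := by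
      rw [add_mul, mul_add, hXX, hZZ, pow_two, pow_two, RingAut.mul_apply, RingAut.mul_apply, hb, hb']
    have := congrArg (proj ι (σ ^ 2)) (rfl : X * X + Z * Z = X * X + Z * Z)
    have hs1 := hC b hnc _ hW hcom
    have h4' : σ ^ 2 ≠ (σ⁻¹) ^ 2 := fun e => h4 (by
      rw [show σ ^ 4 = σ ^ 2 * σ ^ 2 by rw [← pow_add]]; nth_rw 2 [e]; rw [inv_pow, mul_inv_cancel])
    refine hXX0 ?_
    calc X * X = proj ι (σ ^ 2) (X * X + Z * Z) := by
          rw [map_add, proj_semi ι hXX, proj_semi_ne ι hZZ h4', add_zero]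
      _ = 0 := proj_semi_ne ι hs1 h2
  by_cases hroot : ∃ ρ, ρ * ρ + κ * ρ + π0 = 0
  · obtain ⟨ρ, hρ⟩ := hroot
    have hπσ : σ π0 = π0 := coe_cancel hX0 (by
      have e : ι π0 = z * z + ι κ * z := by
        rw [← CharTwo.add_eq_zero, ← hzq]; abel
      rw [← hsX, e, mul_add, add_mul]
      congr 1
      · rw [← mul_assoc, ← hzX, mul_assoc, ← hzX, mul_assoc]
      · rw [← mul_assoc, hsX, hκσ, mul_assoc, ← hzX, mul_assoc])
    have hσρ : σ ρ = ρ := by
      have h' : σ ρ * σ ρ + κ * σ ρ + π0 = 0 := by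
        have := congrArg σ hρ; rwa [map_add, map_add, map_mul, map_mul, map_zero, hκσ, hπσ] at this
      have : (σ ρ - ρ) * (σ ρ - (ρ + κ)) = 0 := by
        simp only [CharTwo.sub_eq_add]
        linear_combination h' + hρ + (ρ * σ ρ - π0) * (CharTwo.two_eq_zero (R := L))
      rcases mul_eq_zero.mp this with e | e
      · exact sub_eq_zero.mp e
      · have e' := sub_eq_zero.mp e
        refine hfix ρ ?_
        rw [e', map_add, hκσ, e', add_assoc, CharTwo.add_self_eq_zero, add_zero]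
    have hsum : ι (ρ * ρ) + ι (κ * ρ) + ι π0 = 0 := by rw [← map_add, ← map_add, hρ, map_zero]
    by_cases hzρ : z = ι ρ
    · exact of_coe ρ hzρ.symm
    · refine eig (z + ι ρ) (ρ + κ) (fun e => hzρ (CharTwo.add_eq_zero.mp e)) (hsz.add (semi_coe ι ρ))
        (by rw [map_add, hσρ, hκσ]) ?_
      rw [← CharTwo.add_eq_zero]
      calc z * (z + ι ρ) + ι (ρ + κ) * (z + ι ρ)
          = (z * z + ι κ * z) + ι (ρ * ρ) + ι (κ * ρ) + (z * ι ρ + ι ρ * z) := by
            simp only [map_add, map_mul]; noncomm_ring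
        _ = (z * z + ι κ * z + ι π0) + (ι (ρ * ρ) + ι (κ * ρ) + ι π0) + (ι π0 + ι π0 + (ι π0 + ι π0)) := by
            rw [hsz, RingAut.one_apply, CharTwo.add_self_eq_zero, CharTwo.add_self_eq_zero, add_zero]
            calc _ = z * z + ι κ * z + ι (ρ * ρ) + ι (κ * ρ) + (ι π0 + ι π0) := by
                  rw [CharTwo.add_self_eq_zero]; abel
              _ = _ := by abel
        _ = 0 := by rw [hzq, hsum]; simp [CharTwo.add_self_eq_zero]
  -- the quadratic extension
  push Not at hroot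
  have hzb : ∀ b, z * ι b = ι b * z := fun b => hsz b
  have hzz : z * z = ι κ * z + ι π0 := CharTwo.add_eq_zero.mp (by rw [← add_assoc]; exact hzq)
  let S : Subring (AddMonoid.End V) :=
    { carrier := {x | ∃ b c, x = ι b + ι c * z}
      zero_mem' := ⟨0, 0, by simp⟩
      one_mem' := ⟨1, 0, by simp⟩
      add_mem' := by rintro _ _ ⟨b, c, rfl⟩ ⟨b', c', rfl⟩; exact ⟨b + b', c + c', by simp only [map_add, add_mul]; abel⟩
      neg_mem' := by rintro _ ⟨b, c, rfl⟩; exact ⟨-b, -c, by simp only [map_neg, neg_mul]; abel⟩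
      mul_mem' := by
        rintro _ _ ⟨b, c, rfl⟩ ⟨b', c', rfl⟩
        refine ⟨b * b' + c * c' * π0, b * c' + c * b' + c * c' * κ, ?_⟩
        calc (ι b + ι c * z) * (ι b' + ι c' * z)
            = ι b * ι b' + ι b * ι c' * z + ι c * (z * ι b') + ι c * (z * ι c') * z := by noncomm_ring
          _ = ι b * ι b' + ι b * ι c' * z + ι c * (ι b' * z) + ι c * ι c' * (z * z) := by
              rw [hzb, hzb]; noncomm_ring
          _ = _ := by rw [hzz]; simp only [map_add, map_mul]; noncomm_ring }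
  have hSmem : ∀ b c, ι b + ι c * z ∈ S := fun b c => ⟨b, c, rfl⟩
  obtain ⟨L', _, _, _, ι', hι', hS⟩ := exists_field S (by
      rintro _ ⟨b, c, rfl⟩ _ ⟨b', c', rfl⟩
      calc (ι b + ι c * z) * (ι b' + ι c' * z)
          = ι b * ι b' + ι b * ι c' * z + ι c * (z * ι b') + ι c * (z * ι c') * z := by noncomm_ring
        _ = ι (b' * b) + ι (c' * b) * z + ι (b' * c) * z + ι (c' * c) * (z * z) := by
            rw [hzb, hzb, mul_comm b', mul_comm c' b, mul_comm b' c, mul_comm c']; simp only [map_mul]; noncomm_ring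
        _ = ι b' * ι b + ι b' * ι c * z + ι c' * (z * ι b) + ι c' * (z * ι c) * z := by
            rw [hzb, hzb]; simp only [map_mul]; noncomm_ring
        _ = _ := by noncomm_ring)
    (by
      rintro _ ⟨b, c, rfl⟩ hne
      have hmul : (ι (b + c * κ) + ι c * z) * (ι b + ι c * z) = ι (b * b + b * c * κ + c * c * π0) := by
        calc _ = ι (b + c * κ) * ι b + ι (b + c * κ) * ι c * z + ι c * (z * ι b) + ι c * (z * ι c) * z := by
              noncomm_ring
          _ = ι ((b + c * κ) * b) + ι ((b + c * κ) * c) * z + ι (c * b) * z + ι (c * c) * (z * z) := by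
              rw [hzb, hzb]; simp only [map_mul]; noncomm_ring
          _ = ι ((b + c * κ) * b + c * c * π0) + ι ((b + c * κ) * c + c * b + c * c * κ) * z := by
              rw [hzz]; simp only [map_mul, map_add]; noncomm_ring
          _ = _ := by
              rw [show (b + c * κ) * c + c * b + c * c * κ = (b * c + b * c) + (c * c * κ + c * c * κ) by ring,
                CharTwo.add_self_eq_zero, CharTwo.add_self_eq_zero, add_zero, map_zero, zero_mul, add_zero]
              congr 1; ring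
      have hn : b * b + b * c * κ + c * c * π0 ≠ 0 := by
        intro e
        by_cases hc : c = 0
        · subst hc
          have hb : b = 0 := by simpa using e
          exact hne (by simp [hb])
        · refine hroot (b / c) ?_
          field_simp
          linear_combination e
      intro u v huv
      have := congrArg (ι (b * b + b * c * κ + c * c * π0)⁻¹ * (ι (b + c * κ) + ι c * z) : AddMonoid.End V) huv
      have hid : ι (b * b + b * c * κ + c * c * π0)⁻¹ * (ι (b + c * κ) + ι c * z) * (ι b + ι c * z) = 1 := by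
        rw [mul_assoc, hmul, ← map_mul, inv_mul_cancel₀ hn, map_one]
      have h' : ∀ v, (ι (b * b + b * c * κ + c * c * π0)⁻¹ * (ι (b + c * κ) + ι c * z)) ((ι b + ι c * z) v) = v :=
        fun v => DFunLike.congr_fun hid v
      rwa [h', h'] at this)
  have hcan : ∀ {l m : L'}, ι' l * X = ι' m * X → l = m := fun {l m} h => hι' (AddMonoidHom.ext fun v => by
    obtain ⟨u, rfl⟩ := hsurj v; exact DFunLike.congr_fun h u)
  have hex : ∀ l : L', ∃ m : L', X * ι' l = ι' m * X := fun l => by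
    obtain ⟨b, c, hbc⟩ := (hS _).mpr ⟨l, rfl⟩
    obtain ⟨m, hm⟩ := (hS _).mp (hSmem (σ b) (σ c))
    refine ⟨m, ?_⟩
    rw [hm, hbc, mul_add, add_mul, hsX, ← mul_assoc, hsX, mul_assoc, ← hzX, mul_assoc]
  choose T hT using hex
  let Th : L' →+* L' :=
    { toFun := T
      map_one' := hcan (by rw [← hT, map_one, mul_one, one_mul])
      map_zero' := hcan (by rw [← hT, map_zero, mul_zero, zero_mul])
      map_mul' := fun l m => hcan (by
        rw [← hT, map_mul, map_mul, ← mul_assoc, hT, mul_assoc, hT, mul_assoc])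
      map_add' := fun l m => hcan (by rw [← hT, map_add, map_add, mul_add, add_mul, hT, hT]) }
  let τ : L' ≃+* L' := RingEquiv.ofBijective Th (Finite.injective_iff_bijective.mp Th.injective)
  have hsX' : Semi ι' τ X := hT
  obtain ⟨zl, hzl⟩ := (hS z).mp ⟨0, 1, by simp⟩
  have hcoe : ∀ b, ∃ l : L', ι' l = ι b := fun b => (hS _).mp ⟨b, 0, by simp⟩
  have hord : orderOf τ = r := by
    refine Nat.dvd_antisymm (orderOf_dvd_of_pow_eq_one (RingEquiv.ext fun l => ?_)) ?_
    · refine hι' ?_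
      obtain ⟨b, c, hbc⟩ := (hS _).mpr ⟨l, rfl⟩
      have e1 := hsX'.pow r l
      have e2 : z * ι' l = ι' l * z := by
        rw [hbc, mul_add, add_mul, hzb, ← mul_assoc, hzb]
      have e3 : (ι' ((τ ^ r) l) - ι' l) * z = 0 := by rw [sub_mul, ← e1, ← hz, e2, sub_self]
      show ι' ((τ ^ r) l) = ι' l
      refine sub_eq_zero.mp (AddMonoidHom.ext fun v => ?_)
      have hsn : ∀ n, Function.Surjective (X ^ n : AddMonoid.End V) := fun n => by
        induction n with
        | zero => exact fun v => ⟨v, rfl⟩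
        | succ n ih =>
          intro v
          obtain ⟨u, rfl⟩ := ih v
          obtain ⟨u', rfl⟩ := hsurj u
          exact ⟨u', by rw [pow_succ]; rfl⟩
      obtain ⟨u, rfl⟩ := hsn r v
      exact DFunLike.congr_fun e3 u
    · refine orderOf_dvd_of_pow_eq_one (RingEquiv.ext fun b => ?_)
      obtain ⟨l, hl⟩ := hcoe b
      have hXn : X ^ orderOf τ ≠ 0 := by
        have : ∀ n, X ^ n ≠ 0 := fun n => by
          induction n with
          | zero =>
            haveI : Nontrivial (AddMonoid.End V) := CharP.nontrivial_of_char_ne_one (v := 2) (by decide)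
            simp
          | succ n ih => rw [pow_succ']; exact fun e => ih (hXinj _ e)
        exact this _
      refine coe_cancel (ι := ι) hXn ?_
      rw [← hXpow (orderOf τ), RingAut.one_apply, ← hl, hsX'.pow (orderOf τ), pow_orderOf_eq_one, RingAut.one_apply]
  have hzl0 : zl ≠ 0 := fun e => by
    rw [e, map_zero] at hzl
    haveI : Nontrivial (AddMonoid.End V) := CharP.nontrivial_of_char_ne_one (v := 2) (by decide)
    exact one_ne_zero (hzM (M := 1) (by rw [← hzl, zero_mul]))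
  obtain ⟨w, t, hw, ht, hXw, -⟩ := exists_eigen ι' hsX' (semi_one ι')
    (haveI : Nontrivial (AddMonoid.End V) := CharP.nontrivial_of_char_ne_one (v := 2) (by decide); one_ne_zero)
    hzl0 (hcan (by rw [← hsX', hzl, hzX])) (by rw [mul_one, mul_one, hord, hzl])
  obtain ⟨αl, hαl⟩ := hcoe α
  have hsZ' : Semi ι' τ⁻¹ Z := fun l => sub_eq_zero.mp (hXinj _ (by
    rw [mul_sub, ← mul_assoc, ← mul_assoc, ← hα, ← hαl, hsX',
      show τ (τ⁻¹ l) = l from τ.apply_symm_apply l, mul_assoc, ← hα, ← hαl, ← map_mul, ← map_mul, mul_comm, sub_self]))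
  obtain ⟨βl, hβl⟩ := hcoe β
  set s := (τ⁻¹ t)⁻¹ * βl
  have hst : τ⁻¹ t ≠ 0 := (map_ne_zero _).mpr ht
  have hZw : Z w = ι' s w := by
    have e : (Z * X) w = (ι' (τ⁻¹ t) * Z) w := by
      rw [← hsZ']; show Z (X w) = Z (ι' t w); rw [hXw]
    rw [← hβ, ← hβl] at e
    have e' := congrArg (ι' (τ⁻¹ t)⁻¹) e
    have h1 : ι' (τ⁻¹ t)⁻¹ (ι' βl w) = ι' s w := by
      show (ι' (τ⁻¹ t)⁻¹ * ι' βl) w = _
      rw [← map_mul]
    have h2 : ι' (τ⁻¹ t)⁻¹ ((ι' (τ⁻¹ t) * Z) w) = Z w := by
      show (ι' (τ⁻¹ t)⁻¹ * (ι' (τ⁻¹ t) * Z)) w = _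
      rw [← mul_assoc, ← map_mul, inv_mul_cancel₀ hst, map_one, one_mul]
    rw [h1, h2] at e'
    exact e'.symm
  have h22 : (σ ^ 2) ^ 2 ≠ 1 := by rw [← pow_mul]; exact h4
  have h4' : σ ^ 2 ≠ (σ⁻¹) ^ 2 := fun e => h4 (by
    rw [show σ ^ 4 = σ ^ 2 * σ ^ 2 by rw [← pow_add]]; nth_rw 2 [e]; rw [inv_pow, mul_inv_cancel])
  let D : L → AddMonoid.End V := fun d => ι d * (X * X) + ι ((σ ^ 2)⁻¹ d) * (Z * Z)
  have hD : ∀ d, D d ∈ J := fun d => by
    have := pair_mem hJ hιJ h22 hW d
    rwa [map_add, map_add, proj_semi ι hXX, proj_semi_ne ι hZZ h4', add_zero,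
      show ((σ ^ 2)⁻¹ : L ≃+* L) = (σ⁻¹) ^ 2 from (inv_pow σ 2).symm, proj_semi ι hZZ,
      proj_semi_ne ι hXX h4'.symm, zero_add, inv_pow] at this
  choose e he using hcoe
  let E : L × L × L → AddMonoid.End V := fun q => ι q.1 + (ι q.2.1 * X + ι (σ⁻¹ q.2.1) * Z) + D q.2.2
  let Φ : L × L × L → L' := fun q => e q.1 + (e q.2.1 * t + e (σ⁻¹ q.2.1) * s) +
    (e q.2.2 * (τ t * t) + e ((σ ^ 2)⁻¹ q.2.2) * (τ⁻¹ s * s))
  have hEΦ : ∀ q, E q w = ι' (Φ q) w := fun q => by
    have x2 : (X * X) w = ι' (τ t * t) w := by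
      show X (X w) = _
      rw [hXw]; show (X * ι' t) w = _
      rw [hsX' t, map_mul ι']; show ι' (τ t) (X w) = ι' (τ t) (ι' t w); rw [hXw]
    have z2 : (Z * Z) w = ι' (τ⁻¹ s * s) w := by
      show Z (Z w) = _
      rw [hZw]; show (Z * ι' s) w = _
      rw [hsZ' s, map_mul ι']; show ι' (τ⁻¹ s) (Z w) = ι' (τ⁻¹ s) (ι' s w); rw [hZw]
    simp only [E, D, Φ, map_add, map_mul, he]
    show ι q.1 w + (ι q.2.1 (X w) + ι (σ⁻¹ q.2.1) (Z w)) +
      (ι q.2.2 ((X * X) w) + ι ((σ ^ 2)⁻¹ q.2.2) ((Z * Z) w)) = _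
    rw [hXw, hZw, x2, z2]
    simp only [map_mul]
    rfl
  have hcard : Nat.card L' ≤ Nat.card L * Nat.card L := by
    rw [← Nat.card_prod]
    choose g hg using fun p : L × L => (hS _).mp (hSmem p.1 p.2)
    exact Nat.card_le_card_of_surjective g fun l => by
      obtain ⟨b, c, hbc⟩ := (hS _).mpr ⟨l, rfl⟩
      exact ⟨(b, c), hι' (by rw [hg, hbc])⟩
  have hnotinj : ¬ Function.Injective Φ := fun hinj => by
    have := (Nat.card_le_card_of_injective Φ hinj).trans hcard
    rw [Nat.card_prod, Nat.card_prod, ← mul_assoc] at this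
    have h2 : 1 < Nat.card L := Finite.one_lt_card
    exact absurd this (not_le.mpr (lt_mul_of_one_lt_right (by positivity) h2))
  obtain ⟨q, q', hqq, hne⟩ := Function.not_injective_iff.mp hnotinj
  have hEadd : E (q + q') = E q + E q' := by
    simp only [E, D, Prod.fst_add, Prod.snd_add, map_add, add_mul]; abel
  have hEJ : ∀ q, E q ∈ J := fun q => hJ.add _ (hJ.add _ (hιJ _) _ (hfam _)) _ (hD _)
  have hE0 : E (q + q') = 0 := hJ.eq_zero (hEJ _) hw (by
    rw [hEadd]; show E q w + E q' w = 0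
    rw [hEΦ, hEΦ, hqq]
    exact (DFunLike.congr_fun (CharTwo.add_self_eq_zero (ι' (Φ q'))) w : _))
  have hzero : ∀ p : L × L × L, E p = 0 → p = 0 := by
    rintro ⟨b, c, d⟩ hp
    simp only [E, D] at hp
    have hb : b = 0 := by
      have := congrArg (proj ι 1) hp
      rw [map_add, map_add, map_add, map_add, map_zero, proj_semi ι (semi_coe ι b), proj_semi_ne ι (hsX.smul _) h1.symm,
        proj_semi_ne ι (hsZ.smul _) (fun e => h1 (inv_eq_one.mp e.symm)), proj_semi_ne ι (hXX.smul _) h2.symm,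
        proj_semi_ne ι (hZZ.smul _) h2'.symm] at this
      simp only [add_zero] at this
      exact coe_injective ι (this.trans (map_zero ι).symm)
    subst hb
    have hd : d = 0 := by
      by_cases h3 : σ ^ 3 = 1
      · by_contra hd
        have hs2 : (σ⁻¹) ^ 2 = σ := by
          rw [inv_pow]; exact inv_eq_of_mul_eq_one_left (by rw [← pow_succ']; exact h3)
        have := congrArg (proj ι σ) hp
        rw [map_add, map_add, map_add, map_add, map_zero, map_zero, proj_semi ι (hsX.smul c),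
          proj_semi_ne ι (hsZ.smul _) hσne, proj_semi_ne ι (hXX.smul _) (fun e => h1 (by
            nth_rw 1 [pow_two] at e; exact (mul_eq_left.mp e.symm))),
          proj_semi ι (hs2 ▸ hZZ.smul _)] at this
        simp only [add_zero, zero_add] at this
        set d' := (σ ^ 2)⁻¹ d
        have hd' : d' ≠ 0 := (map_ne_zero _).mpr hd
        have hZ2 : Z * Z = ι (d'⁻¹ * c) * X := by
          rw [map_mul, mul_assoc, CharTwo.add_eq_zero.mp this, ← mul_assoc, ← map_mul ι, inv_mul_cancel₀ hd', map_one, one_mul]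
        have hr3 : r = 3 := by
          have := Nat.le_of_dvd (by omega) (orderOf_dvd_of_pow_eq_one h3); omega
        obtain ⟨p, hp2⟩ := hnil 2
        rw [pow_two, pow_two, hZ2, ← mul_assoc, hXX, mul_assoc,
          show X * X * X = z by rw [hz, hr3]; noncomm_ring] at hp2
        have hne : (σ ^ 2) (d'⁻¹ * c) ≠ 0 := fun e => by
          rw [e, map_zero, zero_mul] at hp2
          have h0 : Z * Z = 0 := by
            have : d'⁻¹ * c = 0 := (map_eq_zero _).mp e
            rw [hZ2, this, map_zero, zero_mul]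
          have : X * (X * (Z * Z)) = 0 := by rw [h0, mul_zero, mul_zero]
          rw [← mul_assoc X X, show X * X * (Z * Z) = X * (X * Z) * Z by noncomm_ring, ← hα, hsX, mul_assoc, ← hα,
            ← map_mul] at this
          have := coe_injective ι (this.trans (map_zero ι).symm)
          simp [hα0] at this
        exact of_coe (((σ ^ 2) (d'⁻¹ * c))⁻¹ * p)
          (by rw [map_mul, hp2, ← mul_assoc, ← map_mul, inv_mul_cancel₀ hne, map_one, one_mul])
      · have := congrArg (proj ι (σ ^ 2)) hp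
        rw [map_add, map_add, map_add, map_add, map_zero, map_zero,
          proj_semi_ne ι (hsX.smul _) (fun e => h1 (by nth_rw 1 [pow_two] at e; exact mul_eq_left.mp e)),
          proj_semi_ne ι (hsZ.smul _) (fun e => h3 (by rw [pow_succ, e, inv_mul_cancel])),
          proj_semi ι (hXX.smul _), proj_semi_ne ι (hZZ.smul _) h4'] at this
        simp only [add_zero, zero_add] at this
        exact eq_zero_of_coe_mul ι this hXX0
    subst hd
    have := congrArg (proj ι σ) hp
    simp only [map_zero, zero_mul, map_add, add_zero, zero_add, proj_semi ι (hsX.smul c),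
      proj_semi_ne ι (hsZ.smul (σ⁻¹ c)) hσne] at this
    simp [eq_zero_of_coe_mul ι this hX0]
  exact hne (by
    have h := hzero _ hE0
    calc q = q + (q' + q') := by
          rw [show q' + q' = 0 from Prod.ext (CharTwo.add_self_eq_zero _) (Prod.ext (CharTwo.add_self_eq_zero _) (CharTwo.add_self_eq_zero _)), add_zero]
      _ = q' := by rw [← add_assoc, h, zero_add])

end Core

/-- the set is commutative -/
theorem IsJ.comm : ∀ (n : ℕ) {J : Set (AddMonoid.End V)}, IsJ J → J.ncard = n → ∀ x ∈ J, ∀ y ∈ J, x * y = y * x := by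
  intro n
  induction n using Nat.strong_induction_on with
  | _ n ih =>
    intro J hJ hn a ha χ hχ
    by_contra hne
    haveI : Finite (AddMonoid.End V) := Finite.of_injective (fun f : AddMonoid.End V => (f : V → V)) DFunLike.coe_injective
    let C : AddMonoid.End V → Set (AddMonoid.End V) := fun b => {x | x ∈ J ∧ x * b = b * x}
    have hCJ : ∀ b ∈ J, IsJ (C b) := fun b _ =>
      ⟨⟨hJ.one, by simp⟩, fun x hx y hy => ⟨hJ.add x hx.1 y hy.1, by rw [add_mul, mul_add, hx.2, hy.2]⟩,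
        fun x hx y hy => ⟨hJ.aba x hx.1 y hy.1, by
          rw [mul_assoc, hx.2, ← mul_assoc, mul_assoc x y, hy.2, ← mul_assoc, hx.2, mul_assoc, mul_assoc, mul_assoc]⟩,
        fun x hx => hJ.inj x hx.1⟩
    have hCc : ∀ b ∈ J, (∃ x ∈ J, x * b ≠ b * x) → ∀ x ∈ C b, ∀ y ∈ C b, x * y = y * x := fun b hb ⟨x, hx, hxb⟩ => by
      refine ih _ ?_ (hCJ b hb) rfl
      rw [← hn]
      exact Set.ncard_lt_ncard ⟨fun y hy => hy.1, fun h => hxb (h hx).2⟩ (Set.toFinite J)
    have hnc : ∃ x ∈ J, x * a ≠ a * x := ⟨χ, hχ, Ne.symm hne⟩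
    have hc := hCc a ha hnc
    have hKJ := hCJ a ha
    have hsurj : ∀ y ∈ C a, ∃ u ∈ C a, u * u = y := fun y hy => by
      have hmaps : Set.MapsTo (fun u : AddMonoid.End V => u * u) (C a) (C a) := fun u hu => hKJ.sq hu
      have hinj : Set.InjOn (fun u : AddMonoid.End V => u * u) (C a) := fun u hu v hv e => by
        refine CharTwo.add_eq_zero.mp ?_
        by_contra h0
        have hi := hKJ.inj _ (hKJ.add u hu v hv) h0
        have hsq : (u + v) * (u + v) = 0 := by
          simp only at e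
          calc (u + v) * (u + v) = (u * u + v * v) + (u * v + v * u) := by noncomm_ring
            _ = 0 := by rw [e, hc v hv u hu, CharTwo.add_self_eq_zero, CharTwo.add_self_eq_zero, add_zero]
        refine h0 (AddMonoidHom.ext fun w => hi ?_)
        show ((u + v) * (u + v)) w = (u + v) 0
        rw [hsq, map_zero]
        rfl
      exact (((Set.toFinite (C a)).injOn_iff_bijOn_of_mapsTo hmaps).mp hinj).surjOn hy
    let S : Subring (AddMonoid.End V) :=
      { carrier := C a
        zero_mem' := hKJ.zero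
        one_mem' := hKJ.one
        add_mem' := fun {x y} hx hy => hKJ.add x hx y hy
        neg_mem' := fun {x} hx => by rw [CharTwo.neg_eq]; exact hx
        mul_mem' := fun {x y} hx hy => by
          obtain ⟨u, hu, rfl⟩ := hsurj y hy
          rw [← mul_assoc, hc x hx u hu]
          exact hKJ.aba u hu x hx }
    obtain ⟨L, _, _, _, ι, -, hS⟩ := exists_field S hc fun x hx => hJ.inj x hx.1
    have hιC : ∀ l, ι l ∈ C a := fun l => (hS _).mpr ⟨l, rfl⟩
    obtain ⟨al, hal⟩ := (hS a).mp ⟨ha, rfl⟩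
    have hsemi := core (ι := ι) hJ (fun l => (hιC l).1)
      (fun x hx hsx => (hS x).mp ⟨hx, by rw [← hal]; exact hsx al⟩)
      (fun b hb x hx hxb l => hCc (ι b) (hιC b).1 hb x ⟨hx, hxb⟩ (ι l)
        ⟨(hιC l).1, by rw [← map_mul, ← map_mul, mul_comm]⟩) hχ
    exact hne (by rw [← hal]; exact (hsemi al).symm)

end Cfsg.Agent.JordanSpread23
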