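import Mathlib

/-!
Finite fields inside a ring of characteristic two: decomposition of a ring element into semilinear
parts, and the norm of a field automorphism.
-/

set_option autoImplicit false

namespace Cfsg.Agent.JordanSpread23

open Finset

variable {R : Type*} [Ring R] {L : Type*} [Field L] [Fintype L]

noncomputable instance autFintype : Fintype (L ≃+* L) :=
  haveI : Finite (L ≃+* L) := Finite.of_injective _ DFunLike.coe_injective
  Fintype.ofFinite _

open scoped Classical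

/-- `Y` is semilinear with automorphism `τ` -/
def Semi (ι : L →+* R) (τ : L ≃+* L) (Y : R) : Prop := ∀ b, Y * ι b = ι (τ b) * Y

theorem Semi.mul {ι : L →+* R} {τ μ : L ≃+* L} {Y W : R} (hY : Semi ι τ Y) (hW : Semi ι μ W) :
    Semi ι (τ * μ) (Y * W) := fun b => by
  rw [mul_assoc, hW, ← mul_assoc, hY, mul_assoc]; rfl

theorem semi_one (ι : L →+* R) : Semi ι 1 1 := fun b => by simp [RingAut.one_apply]

theorem semi_coe (ι : L →+* R) (c : L) : Semi ι 1 (ι c) := fun b => by
  rw [RingAut.one_apply, ← map_mul, ← map_mul, mul_comm]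

theorem Semi.smul {ι : L →+* R} {τ : L ≃+* L} {Y : R} (hY : Semi ι τ Y) (c : L) : Semi ι τ (ι c * Y) := by
  simpa using (semi_coe ι c).mul hY

theorem Semi.pow {ι : L →+* R} {τ : L ≃+* L} {Y : R} (hY : Semi ι τ Y) : ∀ n : ℕ, Semi ι (τ ^ n) (Y ^ n)
  | 0 => by rw [pow_zero, pow_zero]; exact semi_one ι
  | n + 1 => by rw [pow_succ τ, pow_succ Y]; exact (hY.pow n).mul hY

theorem Semi.zero (ι : L →+* R) (τ : L ≃+* L) : Semi ι τ 0 := fun b => by simp

theorem Semi.add {ι : L →+* R} {τ : L ≃+* L} {Y W : R} (hY : Semi ι τ Y) (hW : Semi ι τ W) :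
    Semi ι τ (Y + W) := fun b => by rw [add_mul, hY, hW, mul_add]

theorem Semi.inv {ι : L →+* R} {τ : L ≃+* L} {u : Rˣ} (hu : Semi ι τ u) : Semi ι τ⁻¹ (↑u⁻¹ : R) := fun b => by
  have := hu (τ⁻¹ b)
  rw [show τ (τ⁻¹ b) = b from τ.apply_symm_apply b] at this
  rw [Units.inv_mul_eq_iff_eq_mul, ← mul_assoc, this, mul_assoc, Units.mul_inv, mul_one]

theorem eq_zero_of_coe_mul (ι : L →+* R) {c : L} {Y : R} (h : ι c * Y = 0) (hY : Y ≠ 0) : c = 0 := by
  by_contra hc
  refine hY ?_
  calc Y = ι c⁻¹ * (ι c * Y) := by rw [← mul_assoc, ← map_mul, inv_mul_cancel₀ hc, map_one, one_mul]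
    _ = 0 := by rw [h, mul_zero]

/-- the `τ`-semilinear part -/
noncomputable def proj (ι : L →+* R) (τ : L ≃+* L) : R →+ R :=
  ∑ a : Lˣ, (AddMonoidHom.mulLeft (ι (τ (↑a⁻¹ : L)))).comp (AddMonoidHom.mulRight (ι (a : L)))

theorem proj_apply (ι : L →+* R) (τ : L ≃+* L) (χ : R) :
    proj ι τ χ = ∑ a : Lˣ, ι (τ (↑a⁻¹ : L)) * (χ * ι (a : L)) := by
  simp [proj, AddMonoidHom.finsetSum_apply]

variable [CharP R 2] [CharP L 2]

omit [CharP R 2] in
theorem card_units_odd : Odd (Fintype.card Lˣ) := by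
  classical
  obtain ⟨n, -, hn⟩ := FiniteField.card L 2
  rw [Fintype.card_units, hn, Nat.odd_iff]
  have : Even (2 ^ (n : ℕ)) := Nat.even_pow.mpr ⟨even_two, n.ne_zero⟩
  have hpos : 0 < 2 ^ (n : ℕ) := by positivity
  obtain ⟨m, hm⟩ := this
  omega

omit [CharP R 2] in
theorem cast_card_units : ((Fintype.card Lˣ : ℕ) : L) = 1 := by
  obtain ⟨m, hm⟩ := card_units_odd (L := L)
  rw [hm, Nat.cast_add, Nat.cast_mul, Nat.cast_ofNat, CharTwo.two_eq_zero]; simp

omit [CharP R 2] in
theorem proj_semi (ι : L →+* R) {τ : L ≃+* L} {Y : R} (hY : Semi ι τ Y) : proj ι τ Y = Y := by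
  rw [proj_apply]
  have e : ∀ a : Lˣ, ι (τ (↑a⁻¹ : L)) * (Y * ι (a : L)) = Y := fun a => by
    rw [hY, ← mul_assoc, ← map_mul, ← map_mul, Units.inv_mul, map_one, map_one, one_mul]
  rw [Finset.sum_congr rfl fun a _ => e a, Finset.sum_const, Finset.card_univ,
    nsmul_eq_mul, ← map_natCast ι, cast_card_units, map_one, one_mul]

omit [CharP R 2] [CharP L 2] in
theorem proj_semi_ne (ι : L →+* R) {τ μ : L ≃+* L} {Y : R} (hY : Semi ι μ Y) (hne : τ ≠ μ) :
    proj ι τ Y = 0 := by
  classical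
  rw [proj_apply]
  have e : ∀ a : Lˣ, ι (τ (↑a⁻¹ : L)) * (Y * ι (a : L)) = ι (τ (↑a⁻¹ : L) * μ a) * Y := fun a => by
    rw [hY, ← mul_assoc, ← map_mul]
  rw [Finset.sum_congr rfl fun a _ => e a, ← Finset.sum_mul, ← map_sum]
  let χ : Lˣ →* L :=
    { toFun := fun a => τ (↑a⁻¹ : L) * μ a
      map_one' := by simp
      map_mul' := fun a b => by simp only [mul_inv_rev, Units.val_mul, map_mul]; ring }
  have hχ : χ ≠ 1 := fun h => hne <| RingEquiv.ext fun b => by
    by_cases hb : b = 0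
    · simp [hb]
    · have := DFunLike.congr_fun h (Units.mk0 b hb)
      simp only [χ, MonoidHom.coe_mk, OneHom.coe_mk, MonoidHom.one_apply, Units.val_mk0,
        Units.val_inv_eq_inv_val, map_inv₀] at this
      exact (inv_mul_eq_one₀ ((map_ne_zero τ).mpr hb)).mp this
  rw [show (∑ a : Lˣ, τ (↑a⁻¹ : L) * μ a) = ∑ a, χ a from rfl, sum_hom_units_eq_zero χ hχ, map_zero, zero_mul]

theorem sum_proj (ι : L →+* R) (χ : R) : ∑ τ : L ≃+* L, proj ι τ χ = χ := by
  classical
  set N := Fintype.card Lˣ with hN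
  let P : ℕ → R := fun i => ∑ a : Lˣ, ι ((↑a⁻¹ : L) ^ (i + 1)) * (χ * ι (a : L))
  have hP : ∀ i (b : L), P i * ι b = ι (b ^ (i + 1)) * P i := fun i b => by
    by_cases hb : b = 0
    · simp [hb]
    · simp only [P, Finset.sum_mul, Finset.mul_sum]
      refine Fintype.sum_equiv (Equiv.mulRight (Units.mk0 b hb)) _ _ fun a => ?_
      simp only [Equiv.coe_mulRight, mul_inv_rev, Units.val_mul, Units.val_mk0, Units.val_inv_eq_inv_val]
      rw [← mul_assoc (ι (b ^ (i + 1))), ← map_mul ι (b ^ (i + 1)), ← mul_pow, mul_inv_cancel_left₀ hb, map_mul ι (a : L) b,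
        mul_assoc (ι _), mul_assoc]
  have hsum : ∑ i ∈ range N, P i = χ := by
    simp only [P]
    rw [Finset.sum_comm]
    have e : ∀ a : Lˣ, ∑ i ∈ range N, ι ((↑a⁻¹ : L) ^ (i + 1)) * (χ * ι (a : L)) =
        if a = 1 then χ else 0 := fun a => by
      rw [← Finset.sum_mul, ← map_sum]
      split_ifs with ha
      · subst ha
        simp only [inv_one, Units.val_one, one_pow, Finset.sum_const, Finset.card_range, nsmul_eq_mul, mul_one,
          map_one]
        rw [cast_card_units, map_one, one_mul]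
      · have hz : (∑ i ∈ range N, (↑a⁻¹ : L) ^ (i + 1)) = 0 := by
          have h1 : (↑a⁻¹ : L) ≠ 1 := fun e => ha (inv_eq_one.mp (Units.val_eq_one.mp e))
          have h2 : (↑a⁻¹ : L) ^ N = 1 := by rw [← Units.val_pow_eq_pow_val, hN, pow_card_eq_one, Units.val_one]
          simp only [pow_succ', ← Finset.mul_sum, geom_sum_eq h1, h2, sub_self, zero_div, mul_zero]
        rw [hz, map_zero, zero_mul]
    rw [Finset.sum_congr rfl fun a _ => e a, Finset.sum_ite_eq', if_pos (Finset.mem_univ _)]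
  have hall : ∀ i, ∑ τ : L ≃+* L, proj ι τ (P i) = P i := fun i => by
    by_cases h0 : P i = 0
    · simp [h0]
    have hadd : ∀ b c : L, (b + c) ^ (i + 1) = b ^ (i + 1) + c ^ (i + 1) := fun b c => by
      have e := hP i (b + c)
      rw [map_add, mul_add, hP, hP, ← add_mul, ← map_add] at e
      have h' : ι ((b + c) ^ (i + 1) - (b ^ (i + 1) + c ^ (i + 1))) * P i = 0 := by
        rw [map_sub, sub_mul, e, sub_self]
      exact sub_eq_zero.mp (eq_zero_of_coe_mul ι h' h0)
    let φ : L →+* L :=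
      { toFun := fun b => b ^ (i + 1)
        map_one' := one_pow _
        map_mul' := fun b c => mul_pow b c _
        map_zero' := zero_pow (Nat.succ_ne_zero i)
        map_add' := hadd }
    let μ : L ≃+* L := RingEquiv.ofBijective φ (Finite.injective_iff_bijective.mp φ.injective)
    have hμ : Semi ι μ (P i) := fun b => hP i b
    rw [Finset.sum_eq_single μ (fun τ _ hne => proj_semi_ne ι hμ hne) (fun h => absurd (Finset.mem_univ _) h),
      proj_semi ι hμ]
  conv_lhs => rw [← hsum]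
  simp only [map_sum]
  rw [Finset.sum_comm, Finset.sum_congr rfl fun i _ => hall i, hsum]

omit [CharP R 2] [CharP L 2] in
theorem proj_semi' (ι : L →+* R) (τ : L ≃+* L) (χ : R) : Semi ι τ (proj ι τ χ) := fun b => by
  by_cases hb : b = 0
  · simp [hb]
  · simp only [proj_apply, Finset.sum_mul, Finset.mul_sum]
    refine Fintype.sum_equiv (Equiv.mulRight (Units.mk0 b hb)) _ _ fun a => ?_
    simp only [Equiv.coe_mulRight, mul_inv_rev, Units.val_mul, Units.val_mk0, Units.val_inv_eq_inv_val, map_mul]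
    rw [← mul_assoc (ι (τ b)), ← mul_assoc (ι (τ b)), ← map_mul ι, ← map_mul τ, mul_inv_cancel₀ hb, map_one,
      map_one, one_mul, mul_assoc, mul_assoc]

omit [CharP R 2] [CharP L 2] in
/-- every fixed element is the norm of some element -/
theorem exists_norm (τ : L ≃+* L) {κ : L} (h0 : κ ≠ 0) (hκ : τ κ = κ) :
    ∃ t : L, t ≠ 0 ∧ ∏ i ∈ range (orderOf τ), (τ ^ i) t = κ := by
  classical
  set n := orderOf τ
  have hn : 0 < n := orderOf_pos τ
  let T : Lˣ →* Lˣ := Units.map τ.toMonoidHom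
  let Nm : Lˣ →* Lˣ := ∏ i ∈ range n, Units.map (τ ^ i).toMonoidHom
  let δ : Lˣ →* Lˣ :=
    { toFun := fun a => T a * a⁻¹
      map_one' := by simp
      map_mul' := fun a b => by rw [map_mul, mul_inv]; exact mul_mul_mul_comm _ _ _ _ }
  have hval : ∀ a : Lˣ, (Nm a : L) = ∏ i ∈ range n, (τ ^ i) (a : L) := fun a => by
    simp [Nm, MonoidHom.finset_prod_apply, Units.coe_prod]
  have hcyc : ∀ c : L, τ (∏ i ∈ range n, (τ ^ i) c) = ∏ i ∈ range n, (τ ^ i) c := fun c => by
    have e : ∀ i, τ ((τ ^ i) c) = (τ ^ (i + 1)) c := fun i => by rw [pow_succ']; rfl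
    rw [map_prod, Finset.prod_congr rfl fun i _ => e i]
    obtain ⟨m, hm⟩ : ∃ m, n = m + 1 := ⟨n - 1, by omega⟩
    rw [hm, Finset.prod_range_succ, Finset.prod_range_succ' (fun i => (τ ^ i) c), ← hm, pow_orderOf_eq_one]
    simp
  let Fx : Subgroup Lˣ := δ.ker
  have hFx : ∀ a, a ∈ Fx ↔ τ (a : L) = a := fun a => by
    show δ a = 1 ↔ _
    rw [show δ a = T a * a⁻¹ from rfl, mul_inv_eq_one, Units.ext_iff]
    rfl
  have hle : Nm.range ≤ Fx := by
    rintro _ ⟨a, rfl⟩; rw [hFx, hval]; exact hcyc _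
  have hker : Nm.ker ≤ δ.range := by
    intro a ha
    have h1 : ∏ i ∈ range n, (τ ^ i) (a : L) = 1 := by rw [← hval, show Nm a = 1 from ha, Units.val_one]
    let m : ℕ → L := fun j => ∏ i ∈ range j, (τ ^ i) (a : L)
    have hm : ∀ j, (a : L) * τ (m j) = m (j + 1) := fun j => by
      simp only [m, map_prod, Finset.prod_range_succ' (fun i => (τ ^ i) (a : L))]
      rw [mul_comm]
      congr 1
      exact Finset.prod_congr rfl fun i _ => by rw [pow_succ']; rfl
    obtain ⟨u, hu⟩ : ∃ u : L, ∑ j ∈ range n, m j * (τ ^ j) u ≠ 0 := by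
      by_contra hcon
      push Not at hcon
      have hlin := linearIndependent_monoidHom L L
      let g : Fin n → (L →* L) := fun j => (τ ^ (j : ℕ)).toMonoidHom
      have hg : Function.Injective g := fun j k hjk => Fin.ext (pow_injOn_Iio_orderOf j.2 k.2
        (RingEquiv.ext fun b => DFunLike.congr_fun hjk b))
      have := Fintype.linearIndependent_iff.mp (hlin.comp g hg) (fun j => m j) (funext fun b => by
        rw [Pi.zero_apply, Finset.sum_apply, ← hcon b, ← Fin.sum_univ_eq_sum_range (fun j => m j * (τ ^ j) b) n]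
        rfl) ⟨0, hn⟩
      simp [m] at this
    set s := ∑ j ∈ range n, m j * (τ ^ j) u
    have hs : (a : L) * τ s = s := by
      simp only [s, map_sum, map_mul, Finset.mul_sum, ← mul_assoc, hm]
      obtain ⟨k, hk⟩ : ∃ k, n = k + 1 := ⟨n - 1, by omega⟩
      rw [hk, Finset.sum_range_succ, Finset.sum_range_succ' (fun j => m j * (τ ^ j) u)]
      congr 1
      · exact Finset.sum_congr rfl fun i _ => by rw [pow_succ']; rfl
      · rw [← hk, show m n = 1 from h1, show m 0 = 1 from rfl]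
        congr 1
        rw [show τ ((τ ^ k) u) = (τ ^ (k + 1)) u by rw [pow_succ']; rfl, ← hk, pow_orderOf_eq_one, pow_zero]
    refine ⟨(Units.mk0 s hu)⁻¹, Units.ext ?_⟩
    have hts : τ s ≠ 0 := (map_ne_zero τ).mpr hu
    show τ (↑((Units.mk0 s hu)⁻¹) : L) * ↑(((Units.mk0 s hu)⁻¹)⁻¹) = (a : L)
    rw [inv_inv, Units.val_inv_eq_inv_val, Units.val_mk0, map_inv₀]
    field_simp
    linear_combination -hs
  have c1 : Nat.card δ.ker * Nat.card δ.range = Nat.card Lˣ := by
    rw [← Subgroup.index_ker, mul_comm, Subgroup.index_mul_card]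
  have c2 : Nat.card Nm.ker * Nat.card Nm.range = Nat.card Lˣ := by
    rw [← Subgroup.index_ker, mul_comm, Subgroup.index_mul_card]
  have c3 : Nat.card Fx ≤ Nat.card Nm.range := by
    have h : Nat.card Nm.ker ≤ Nat.card δ.range := Nat.card_le_card_of_injective _ (Subgroup.inclusion_injective hker)
    have hpos : 0 < Nat.card Nm.ker := Nat.card_pos
    refine Nat.le_of_mul_le_mul_left ?_ hpos
    calc Nat.card Nm.ker * Nat.card Fx ≤ Nat.card δ.range * Nat.card Fx := Nat.mul_le_mul_right _ h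
      _ = Nat.card Nm.ker * Nat.card Nm.range := by rw [c2, ← c1, mul_comm]
  have heq : Nm.range = Fx := Subgroup.eq_of_le_of_card_ge hle c3
  obtain ⟨b, hb⟩ := (heq ▸ (hFx (Units.mk0 κ h0)).mpr hκ : Units.mk0 κ h0 ∈ Nm.range)
  exact ⟨b, b.ne_zero, by rw [← hval, hb]; rfl⟩

end Cfsg.Agent.JordanSpread23
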