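import Mathlib
import Cfsg.Agent.S1187
import Cfsg.Agent.S2904

/-!
# A spread set closed under `(a,b) ↦ aba` is a field

`A` is an additive subgroup of `End V` (`V` an elementary abelian 2-group) of size `|V|`, containing
`1`, all nonzero members bijective, closed under `aba`. Then `A` is the subring generated by one
element, hence a field.
-/

set_option autoImplicit false
set_option linter.all false

namespace Cfsg.Agent.JordanSpreadField32

variable {V : Type*} [AddCommGroup V]

/-- The hypotheses on `A`. -/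
structure Spread (A : AddSubgroup (AddMonoid.End V)) : Prop where
  two : ∀ v : V, v + v = 0
  one_mem : (1 : AddMonoid.End V) ∈ A
  bij : ∀ a ∈ A, a ≠ 0 → Function.Bijective a
  card : Nat.card ↥A = Nat.card V
  jordan : ∀ a ∈ A, ∀ b ∈ A, a * b * a ∈ A

/-- The subring generated by one endomorphism. -/
abbrev K (a : AddMonoid.End V) : Subring (AddMonoid.End V) := Subring.closure {a}

variable {A : AddSubgroup (AddMonoid.End V)}

namespace Spread

variable (h : Spread A)
include h

theorem add_self (x : AddMonoid.End V) : x + x = 0 := DFunLike.ext _ _ fun v => h.two (x v)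

theorem eq_of_add {x y : AddMonoid.End V} (e : x + y = 0) : x = y := by
  have h1 := congrArg (· + y) e
  simpa [add_assoc, h.add_self y] using h1

theorem cancel {a x : AddMonoid.End V} (ha : a ∈ A) (ha0 : a ≠ 0) (e : a * x = 0) : x = 0 := by
  refine DFunLike.ext _ _ fun v => (h.bij a ha ha0).1 ?_
  show (a * x) v = a ((0 : AddMonoid.End V) v)
  rw [e]
  exact (map_zero a).symm

theorem pow_mem {a : AddMonoid.End V} (ha : a ∈ A) (k : ℕ) : a ^ k ∈ A := by
  induction k using Nat.twoStepInduction with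
  | zero => simpa using h.one_mem
  | one => simpa using ha
  | more k ih _ =>
    have := h.jordan a ha _ ih
    rwa [← pow_succ', ← pow_succ] at this

theorem K_le {a x : AddMonoid.End V} (ha : a ∈ A) (hx : x ∈ K a) : x ∈ A := by
  rw [Subring.mem_closure_iff] at hx
  refine (AddSubgroup.closure_le A).mpr ?_ hx
  intro y hy
  obtain ⟨k, rfl⟩ := Submonoid.mem_closure_singleton.mp hy
  exact h.pow_mem ha k

theorem K_comm {a x y : AddMonoid.End V} (hx : x ∈ K a) (hy : y ∈ K a) : x * y = y * x := by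
  have h1 : K a ≤ Subring.centralizer ({a} : Set (AddMonoid.End V)) := by
    refine Subring.closure_le.mpr ?_
    rintro _ rfl
    exact Subring.mem_centralizer_iff.mpr fun g hg => by rw [Set.mem_singleton_iff.mp hg]
  have h2 : K a ≤ Subring.centralizer (K a : Set (AddMonoid.End V)) := by
    refine Subring.closure_le.mpr ?_
    rintro _ rfl
    refine Subring.mem_centralizer_iff.mpr fun g hg => ?_
    exact (Subring.mem_centralizer_iff.mp (h1 hg) _ rfl).symm
  exact Subring.mem_centralizer_iff.mp (h2 hy) x hx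

variable [Finite V]

theorem exists_inv {a : AddMonoid.End V} (ha : a ∈ A) (ha0 : a ≠ 0) :
    ∃ b ∈ K a, a * b = 1 ∧ b * a = 1 := by
  have haK : a ∈ K a := Subring.subset_closure rfl
  have hinj : Function.Injective (fun y : ↥(K a) => (⟨a * y, mul_mem haK y.2⟩ : ↥(K a))) := by
    intro x y e
    have e' : a * ((x : AddMonoid.End V) + y) = 0 := by
      rw [mul_add, show a * (x : AddMonoid.End V) = a * y from congrArg Subtype.val e]
      exact h.add_self _
    exact Subtype.ext (h.eq_of_add (h.cancel ha ha0 e'))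
  haveI : Finite (AddMonoid.End V) := Finite.of_injective _ DFunLike.coe_injective
  obtain ⟨y, hy⟩ := (Finite.injective_iff_surjective.mp hinj) 1
  have hy' : a * (y : AddMonoid.End V) = 1 := congrArg Subtype.val hy
  exact ⟨y, y.2, hy', by rw [h.K_comm y.2 haK, hy']⟩

theorem sq_eq {a x y : AddMonoid.End V} (ha : a ∈ A) (hx : x ∈ K a) (hy : y ∈ K a)
    (e : x * x = y * y) : x = y := by
  refine h.eq_of_add ?_
  by_contra hne
  refine hne (h.cancel (h.K_le ha (add_mem hx hy)) hne ?_)
  rw [add_mul, mul_add, mul_add, h.K_comm hy hx, e]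
  rw [show y * y + x * y + (x * y + y * y) = (y * y + y * y) + (x * y + x * y) by abel,
    h.add_self, h.add_self, add_zero]

theorem exists_sqrt {a : AddMonoid.End V} (ha : a ∈ A) {x : AddMonoid.End V} (hx : x ∈ K a) :
    ∃ y ∈ K a, y * y = x := by
  haveI : Finite (AddMonoid.End V) := Finite.of_injective _ DFunLike.coe_injective
  have hinj : Function.Injective (fun y : ↥(K a) => (⟨y * y, mul_mem y.2 y.2⟩ : ↥(K a))) :=
    fun p q e => Subtype.ext (h.sq_eq ha p.2 q.2 (congrArg Subtype.val e))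
  obtain ⟨y, hy⟩ := (Finite.injective_iff_surjective.mp hinj) ⟨x, hx⟩
  exact ⟨y, y.2, congrArg Subtype.val hy⟩

theorem one_ne_zero [Nontrivial V] : (1 : AddMonoid.End V) ≠ 0 := by
  obtain ⟨v, hv⟩ := exists_ne (0 : V)
  exact fun e => hv (DFunLike.congr_fun e v)

theorem domain [Nontrivial V] {a : AddMonoid.End V} (ha : a ∈ A) : IsDomain ↥(K a) := by
  haveI : Nontrivial ↥(K a) := ⟨⟨1, 0, fun e => h.one_ne_zero (congrArg Subtype.val e)⟩⟩
  haveI : NoZeroDivisors ↥(K a) := ⟨fun {x y} e => by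
    by_cases hx : (x : AddMonoid.End V) = 0
    · exact Or.inl (Subtype.ext hx)
    · exact Or.inr (Subtype.ext (h.cancel (h.K_le ha x.2) hx (congrArg Subtype.val e)))⟩
  exact NoZeroDivisors.to_isDomain _

/-- `|K a| = 2^d` with `d ∣ n`, and `a^(2^d - 1) = 1`. -/
theorem degree [Nontrivial V] {n : ℕ} (hn : Nat.card V = 2 ^ n) {a : AddMonoid.End V} (ha : a ∈ A) :
    ∃ d, 0 < d ∧ d ∣ n ∧ Nat.card ↥(K a) = 2 ^ d ∧ (a ≠ 0 → a ^ (2 ^ d - 1) = 1) := by
  haveI : Finite (AddMonoid.End V) := Finite.of_injective _ DFunLike.coe_injective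
  letI : CommRing ↥(K a) :=
    { (inferInstance : Ring ↥(K a)) with
      mul_comm := fun x y => Subtype.ext (h.K_comm x.2 y.2) }
  haveI : IsDomain ↥(K a) := h.domain ha
  letI : Field ↥(K a) := (Finite.isField_of_domain ↥(K a)).toField
  letI : Module ↥(K a) V := Module.compHom V (K a).subtype
  haveI : Fintype ↥(K a) := Fintype.ofFinite _
  have hV : Nat.card V = Nat.card ↥(K a) ^ Module.finrank ↥(K a) V :=
    Module.natCard_eq_pow_finrank
  have hm : Module.finrank ↥(K a) V ≠ 0 := by
    intro e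
    rw [e, pow_zero] at hV
    exact absurd hV (Finite.one_lt_card).ne'
  obtain ⟨d, -, hd⟩ := (Nat.dvd_prime_pow Nat.prime_two).mp
    (show Nat.card ↥(K a) ∣ 2 ^ n from hn ▸ hV ▸ dvd_pow_self _ hm)
  have hd0 : 0 < d := by
    rcases Nat.eq_zero_or_pos d with e | e
    · rw [e, pow_zero] at hd; exact absurd hd (Finite.one_lt_card).ne'
    · exact e
  refine ⟨d, hd0, ⟨Module.finrank ↥(K a) V, ?_⟩, hd, fun ha0 => ?_⟩
  · rw [hd, ← pow_mul, hn] at hV
    exact Nat.pow_right_injective le_rfl hV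
  · have hne : (⟨a, Subring.subset_closure rfl⟩ : ↥(K a)) ≠ 0 :=
      fun e => ha0 (congrArg Subtype.val e)
    have h1 := FiniteField.pow_card_sub_one_eq_one _ hne
    rw [← Nat.card_eq_fintype_card, hd] at h1
    simpa using congrArg Subtype.val h1

theorem full {a : AddMonoid.End V} (ha : a ∈ A) (hc : Nat.card ↥(K a) = Nat.card V) :
    ∀ x, x ∈ A ↔ x ∈ K a := by
  haveI : Finite (AddMonoid.End V) := Finite.of_injective _ DFunLike.coe_injective
  have e : ((K a : Subring _) : Set (AddMonoid.End V)) = (A : Set (AddMonoid.End V)) :=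
    Set.eq_of_subset_of_ncard_le (fun x hx => h.K_le ha hx)
      (by rw [Set.ncard, Set.ncard]; exact le_of_eq (h.card.trans hc.symm)) (Set.toFinite _)
  exact fun x => (Set.ext_iff.mp e x).symm

/-- The involutions `(u, v) ↦ (a v, a⁻¹ u)`. -/
def S (A : AddSubgroup (AddMonoid.End V)) : Set (Equiv.Perm (V × V)) :=
  {σ | ∃ a b : AddMonoid.End V, a ∈ A ∧ b ∈ A ∧ a * b = 1 ∧ b * a = 1 ∧
    ∀ p : V × V, σ p = (a p.2, b p.1)}

theorem S_conj {σ τ : Equiv.Perm (V × V)} (hσ : σ ∈ S A) (hτ : τ ∈ S A) : σ * τ * σ ∈ S A := by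
  obtain ⟨a, b, ha, hb, hab, hba, hs⟩ := hσ
  obtain ⟨c, d, hc, hd, hcd, hdc, ht⟩ := hτ
  refine ⟨a * d * a, b * c * b, h.jordan a ha d hd, h.jordan b hb c hc, ?_, ?_, fun p => ?_⟩
  · calc a * d * a * (b * c * b) = a * d * (a * b) * (c * b) := by simp only [mul_assoc]
      _ = a * (d * c) * b := by rw [hab, mul_one]; simp only [mul_assoc]
      _ = 1 := by rw [hdc, mul_one, hab]
  · calc b * c * b * (a * d * a) = b * c * (b * a) * (d * a) := by simp only [mul_assoc]
      _ = b * (c * d) * a := by rw [hba, mul_one]; simp only [mul_assoc]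
      _ = 1 := by rw [hcd, mul_one, hba]
  · rw [Equiv.Perm.mul_apply, Equiv.Perm.mul_apply, hs p, ht, hs]
    rfl

theorem S_inv {σ : Equiv.Perm (V × V)} (hσ : σ ∈ S A) : σ⁻¹ = σ := by
  obtain ⟨a, b, -, -, hab, hba, hs⟩ := hσ
  refine inv_eq_of_mul_eq_one_right (Equiv.ext fun p => ?_)
  rw [Equiv.Perm.mul_apply, hs, hs, Equiv.Perm.one_apply]
  show ((a * b) p.1, (b * a) p.2) = p
  rw [hab, hba]; rfl

theorem exists_S {a : AddMonoid.End V} (ha : a ∈ A) (ha0 : a ≠ 0) :
    ∃ σ ∈ S A, ∀ p : V × V, (σ p).1 = a p.2 := by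
  obtain ⟨b, hb, hab, hba⟩ := h.exists_inv ha ha0
  let σ : Equiv.Perm (V × V) :=
    { toFun := fun p => (a p.2, b p.1)
      invFun := fun p => (a p.2, b p.1)
      left_inv := fun p => by
        show ((a * b) p.1, (b * a) p.2) = p
        rw [hab, hba]; rfl
      right_inv := fun p => by
        show ((a * b) p.1, (b * a) p.2) = p
        rw [hab, hba]; rfl }
  exact ⟨σ, ⟨a, b, ha, h.K_le ha hb, hab, hba, fun p => rfl⟩, fun p => rfl⟩

theorem first_inj {a a' : AddMonoid.End V} {σ : Equiv.Perm (V × V)}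
    (e : ∀ p : V × V, (σ p).1 = a p.2) (e' : ∀ p : V × V, (σ p).1 = a' p.2) : a = a' :=
  DFunLike.ext _ _ fun v => (e (0, v)).symm.trans (e' (0, v))

omit [Finite V] in
theorem S_ext {σ τ : Equiv.Perm (V × V)} (hσ : σ ∈ S A) (hτ : τ ∈ S A)
    (e : ∀ p : V × V, (σ p).1 = (τ p).1) : σ = τ := by
  obtain ⟨a, b, -, -, hab, hba, hs⟩ := hσ
  obtain ⟨c, d, -, -, hcd, hdc, ht⟩ := hτ
  have hac : a = c := DFunLike.ext _ _ fun v => by simpa [hs, ht] using e (0, v)
  subst hac
  have hbd : b = d := by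
    calc b = b * (a * d) := by rw [hcd, mul_one]
      _ = d := by rw [← mul_assoc, hba, one_mul]
  subst hbd
  exact Equiv.ext fun p => (hs p).trans (ht p).symm

theorem cube {a : AddMonoid.End V} (ha : a ∈ A) (h3 : a ^ 3 = 1) (ha1 : a ≠ 1) :
    a * a = a + 1 := by
  refine h.eq_of_add ?_
  refine h.cancel (add_mem ha h.one_mem) (fun e => ha1 (h.eq_of_add e)) ?_
  have e3 : a * (a * a) = 1 := by simpa [pow_succ, mul_assoc] using h3
  simp only [mul_add, add_mul, one_mul, mul_one, e3]
  rw [show 1 + a * a + ((a * a) + a + (a + 1)) = (1 + 1) + (a * a + a * a) + (a + a) by abel,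
    ]
  simp [h.add_self]

/-- Two elements of order three commute. -/
theorem cube_unique {a b : AddMonoid.End V} (ha : a ∈ A) (hb : b ∈ A) (ha2 : a * a = a + 1)
    (hb2 : b * b = b + 1) : b = a ∨ b = a * a := by
  set s := a + b with hs
  have hsA : s ∈ A := add_mem ha hb
  set j := a * b + b * a with hj
  have hss : s * s = s + j := by
    rw [hs, mul_add, add_mul, add_mul, ha2, hb2, hj]
    rw [show a + 1 + b * a + (a * b + (b + 1)) = (a + b + (a * b + b * a)) + (1 + 1) by abel,
      h.add_self, add_zero]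
  have hjs : j = s * s + s := by
    rw [hss, show s + j + s = j + (s + s) by abel, h.add_self, add_zero]
  have hDs : a * s + s * a = j := by
    rw [hs, mul_add, add_mul, hj, show a * a + a * b + (a * a + b * a) =
      (a * a + a * a) + (a * b + b * a) by abel, h.add_self, zero_add]
  have hsK : s ∈ K s := Subring.subset_closure rfl
  have hD : ∀ x ∈ K s, a * x + x * a ∈ K s := by
    intro x hx
    induction hx using Subring.closure_induction with
    | mem y hy =>
      rw [Set.mem_singleton_iff.mp hy, hDs, hjs]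
      exact add_mem (mul_mem hsK hsK) hsK
    | zero => simp
    | one => rw [mul_one, one_mul, h.add_self]; exact zero_mem _
    | add y z _ _ hy hz =>
      rw [show a * (y + z) + (y + z) * a = (a * y + y * a) + (a * z + z * a) by
        rw [mul_add, add_mul]; abel]
      exact add_mem hy hz
    | neg y _ hy =>
      rw [show a * -y + -y * a = -(a * y + y * a) by rw [mul_neg, neg_mul]; abel]
      exact neg_mem hy
    | mul y z hy' hz' hy hz =>
      have : a * (y * z) + y * z * a = (a * y + y * a) * z + y * (a * z + z * a) := by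
        rw [add_mul, mul_add, show a * y * z + y * a * z + (y * (a * z) + y * (z * a)) =
          a * (y * z) + y * z * a + (y * (a * z) + y * (a * z)) by
            simp only [mul_assoc]; abel, h.add_self, add_zero]
      rw [this]
      exact add_mem (mul_mem hy hz') (mul_mem hy' hz)
  obtain ⟨y, hy, hys⟩ := h.exists_sqrt hsA hsK
  have hj0 : j = 0 := by
    rw [← hDs, ← hys]
    have : a * (y * y) + y * y * a = (a * y + y * a) * y + y * (a * y + y * a) := by
      rw [add_mul, mul_add, show a * y * y + y * a * y + (y * (a * y) + y * (y * a)) =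
        a * (y * y) + y * y * a + (y * (a * y) + y * (a * y)) by
          simp only [mul_assoc]; abel, h.add_self, add_zero]
    rw [this, h.K_comm (hD y hy) hy, h.add_self]
  by_cases hs0 : s = 0
  · exact Or.inl (h.eq_of_add hs0).symm
  right
  have h1 : s * (s + 1) = 0 := by rw [mul_add, mul_one, ← hjs, hj0]
  have h2 := h.cancel hsA hs0 h1
  have h3 : a + b = 1 := h.eq_of_add h2
  rw [ha2, ← h3]
  rw [show a + (a + b) = (a + a) + b by abel, h.add_self, zero_add]

/-- Many elements of `r`-power order. -/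
theorem many_r [Nontrivial V] {r : ℕ} (hr : r.Prime) {e : ℕ} (he : r ^ e ∣ Nat.card V - 1) :
    r ^ e ≤ Set.ncard {a : AddMonoid.End V | a ∈ A ∧ ∃ k, a ^ r ^ k = 1} := by
  classical
  haveI : Fact r.Prime := ⟨hr⟩
  haveI : Finite (AddMonoid.End V) := Finite.of_injective _ DFunLike.coe_injective
  have h10 : (1 : AddMonoid.End V) ≠ 0 := h.one_ne_zero
  obtain ⟨z, hzS, hz⟩ := h.exists_S h.one_mem h10
  have hz' : ∀ p : V × V, z p = (p.2, p.1) := by
    obtain ⟨a, b, ha, hb, hab, hba, hs⟩ := hzS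
    have ha1 : a = 1 := DFunLike.ext _ _ fun v => by simpa [hs] using hz (0, v)
    subst ha1
    rw [one_mul] at hab
    subst hab
    intro p; rw [hs]; rfl
  let E : Subgroup (Equiv.Perm (V × V)) := Subgroup.closure (S A)
  let zE : ↥E := ⟨z, Subgroup.subset_closure hzS⟩
  have hconj : ∀ g : Equiv.Perm (V × V), g ∈ E → ∀ σ ∈ S A, g * σ * g⁻¹ ∈ S A := by
    intro g hg
    induction hg using Subgroup.closure_induction_left with
    | one => intro σ hσ; simpa using hσ
    | mul_left x hx y _ ih =>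
      intro σ hσ
      have := h.S_conj hx (ih σ hσ)
      rw [mul_inv_rev, h.S_inv hx]
      simpa [mul_assoc] using this
    | inv_mul_cancel x hx y _ ih =>
      intro σ hσ
      have := h.S_conj hx (ih σ hσ)
      rw [mul_inv_rev, inv_inv, h.S_inv hx]
      simpa [mul_assoc] using this
  have hzz : z * z = 1 := Equiv.ext fun p => by simp [hz']
  have hiso : Cfsg.IsIsolatedInvolution zE := by
    refine ⟨orderOf_eq_prime (Subtype.ext (by rw [pow_two]; exact hzz)) fun e => ?_, ?_⟩
    · obtain ⟨v, hv⟩ := exists_ne (0 : V)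
      have := DFunLike.congr_fun (congrArg Subtype.val e) (v, 0)
      simp [zE, hz'] at this
      exact hv this.2
    · intro g hg
      obtain ⟨a, b, ha, hb, hab, hba, hs⟩ := hconj g g.2 z hzS
      have hc : z * ((g : Equiv.Perm (V × V)) * z * (g : Equiv.Perm (V × V))⁻¹) =
          ((g : Equiv.Perm (V × V)) * z * (g : Equiv.Perm (V × V))⁻¹) * z :=
        congrArg Subtype.val hg.eq
      have hab' : b = a := DFunLike.ext _ _ fun v => by
        generalize (g : Equiv.Perm (V × V)) * z * (g : Equiv.Perm (V × V))⁻¹ = σ at hc hs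
        have := DFunLike.congr_fun hc (v, 0)
        rw [Equiv.Perm.mul_apply, Equiv.Perm.mul_apply, hs, hz', hz', hs] at this
        simpa using congrArg Prod.fst this
      subst hab'
      have ha1 : b = 1 := by
        refine h.eq_of_add ?_
        by_contra hne
        refine hne (h.cancel (add_mem ha h.one_mem) hne ?_)
        rw [add_mul, mul_add, hab, one_mul, mul_one, add_comm (1 : AddMonoid.End V) b]
        exact h.add_self _
      subst ha1
      apply Subtype.ext
      refine Equiv.ext fun p => ?_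
      rw [show ((g * zE * g⁻¹ : ↥E) : Equiv.Perm (V × V)) p = ((1 : AddMonoid.End V) p.2,
        (1 : AddMonoid.End V) p.1) from hs p, hz']
      rfl
  obtain ⟨R, -, hzR⟩ := S1187.exists_invariant_ge (p := r) hiso (Q := ⊥) IsPGroup.of_bot
    (by rw [Subgroup.mem_normalizer_iff]; intro x; simp)
  -- the conjugates of `z`
  let C : Subgroup ↥E := Subgroup.centralizer {zE}
  let f : ↥E → Equiv.Perm (V × V) := fun g => (g : Equiv.Perm (V × V)) * z * (g : Equiv.Perm (V × V))⁻¹
  have hfib : ∀ g g' : ↥E, g⁻¹ * g' ∈ C ↔ f g = f g' := by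
    intro g g'
    rw [Subgroup.mem_centralizer_singleton_iff, ← Subtype.coe_inj]
    simp only [Subgroup.coe_mul, Subgroup.coe_inv, f, zE]
    set u := (g : Equiv.Perm (V × V))
    set u' := (g' : Equiv.Perm (V × V))
    constructor
    · intro e
      calc u * z * u⁻¹ = u * (z * (u⁻¹ * u')) * u'⁻¹ := by group
        _ = u * ((u⁻¹ * u') * z) * u'⁻¹ := by rw [e]
        _ = u' * z * u'⁻¹ := by group
    · intro e
      calc u⁻¹ * u' * z = u⁻¹ * (u' * z * u'⁻¹) * u' := by group
        _ = u⁻¹ * (u * z * u⁻¹) * u' := by rw [e]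
        _ = z * (u⁻¹ * u') := by group
  have hfS : ∀ g : ↥E, f g ∈ S A := fun g => hconj g g.2 z hzS
  have hsurj : ∀ σ ∈ S A, ∃ g : ↥E, f g = σ := by
    intro σ hσ
    have hσ' := hσ
    obtain ⟨a, b, ha, hb, hab, hba, hs⟩ := hσ
    have ha0 : a ≠ 0 := fun e => h10 (by rw [← hab, e, zero_mul])
    obtain ⟨c, hcK, hcc⟩ := h.exists_sqrt ha (x := a) (Subring.subset_closure rfl)
    have hc0 : c ≠ 0 := fun e => ha0 (by rw [← hcc, e, zero_mul])
    obtain ⟨τ, hτS, hτ⟩ := h.exists_S (h.K_le ha hcK) hc0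
    refine ⟨⟨τ, Subgroup.subset_closure hτS⟩, ?_⟩
    show τ * z * τ⁻¹ = σ
    rw [h.S_inv hτS]
    refine h.S_ext (h.S_conj hτS hzS) hσ' fun p => ?_
    obtain ⟨c', d', -, -, -, -, ht⟩ := hτS
    have hc' : c' = c := DFunLike.ext _ _ fun v => by simpa [ht] using hτ (0, v)
    rw [Equiv.Perm.mul_apply, Equiv.Perm.mul_apply, ht, ht, hz', hs, hc', ← hcc]
    rfl
  have hN : C.index = Nat.card V - 1 := by
    let F : ↥E ⧸ C → ↥(S A) := fun q => Quotient.liftOn' q (fun g => ⟨f g, hfS g⟩)
      (fun g g' e => Subtype.ext ((hfib g g').mp (QuotientGroup.leftRel_apply.mp e)))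
    have hF : Function.Bijective F := by
      constructor
      · intro q q'
        induction q using QuotientGroup.induction_on with
        | H g =>
        induction q' using QuotientGroup.induction_on with
        | H g' =>
        intro e
        exact QuotientGroup.eq.mpr ((hfib g g').mpr (congrArg Subtype.val e))
      · rintro ⟨σ, hσ⟩
        obtain ⟨g, hg⟩ := hsurj σ hσ
        exact ⟨QuotientGroup.mk g, Subtype.ext hg⟩
    rw [Subgroup.index_eq_card, Nat.card_eq_of_bijective F hF, ← h.card]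
    have hbS : ∀ σ : ↥(S A), ∃ a : AddMonoid.End V, (a ∈ A ∧ a ≠ 0) ∧
        ∀ p : V × V, ((σ : Equiv.Perm (V × V)) p).1 = a p.2 := by
      rintro ⟨σ, a, b, ha, hb, hab, hba, hs⟩
      exact ⟨a, ⟨ha, fun e => h10 (by rw [← hab, e, zero_mul])⟩, fun p => by rw [hs]⟩
    choose co hco hco' using hbS
    have h1 : Function.Bijective (fun σ : ↥(S A) =>
        (⟨co σ, hco σ⟩ : ↥((A : Set (AddMonoid.End V)) \ {0}))) := by
      constructor
      · intro σ τ e
        have e' : co σ = co τ := congrArg Subtype.val e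
        exact Subtype.ext (h.S_ext σ.2 τ.2 fun p => by rw [hco', hco', e'])
      · rintro ⟨a, ha, ha0⟩
        obtain ⟨σ, hσ, hs⟩ := h.exists_S ha ha0
        exact ⟨⟨σ, hσ⟩, Subtype.ext (h.first_inj (hco' ⟨σ, hσ⟩) hs)⟩
    rw [Nat.card_eq_of_bijective _ h1, Nat.card_coe_set_eq,
      Set.ncard_diff_singleton_of_mem (show (0 : AddMonoid.End V) ∈ (A : Set _) from zero_mem A)]
    rfl
  set D : Subgroup ↥(R : Subgroup ↥E) := C.subgroupOf (R : Subgroup ↥E) with hD
  obtain ⟨j, hj⟩ := IsPGroup.iff_card.mp (R.isPGroup'.to_subgroup D)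
  have hDC : r ^ j ∣ Nat.card ↥C := by
    rw [← hj, hD, ← Subgroup.card_map_of_injective (R : Subgroup ↥E).subtype_injective,
      Subgroup.subgroupOf_map_subtype]
    exact Subgroup.card_dvd_of_le inf_le_left
  have hge : r ^ e ≤ D.index := by
    have h1 : r ^ (j + e) ∣ Nat.card ↥(R : Subgroup ↥E) := by
      refine R.pow_dvd_card_of_pow_dvd_card ?_
      rw [← Subgroup.card_mul_index C, hN, pow_add]
      exact mul_dvd_mul hDC he
    rw [← Subgroup.card_mul_index D, hj, pow_add] at h1
    refine Nat.le_of_dvd (Nat.pos_of_ne_zero Subgroup.index_ne_zero_of_finite) ?_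
    exact (Nat.mul_dvd_mul_iff_left (pow_pos hr.pos j)).mp h1
  have hT : ∀ x : ↥(R : Subgroup ↥E), ∃ a : AddMonoid.End V,
      (a ∈ A ∧ ∃ k, a ^ r ^ k = 1) ∧ ∀ p : V × V, (f x p).1 = a p.2 := by
    intro x
    obtain ⟨a, b, ha, hb, hab, hba, hs⟩ := hfS x
    refine ⟨a, ⟨ha, ?_⟩, fun p => by rw [hs]⟩
    have hyR : (x : ↥E) * zE * (x : ↥E)⁻¹ * zE⁻¹ ∈ (R : Subgroup ↥E) := by
      have h1 := (Subgroup.mem_normalizer_iff.mp hzR ((x : ↥E)⁻¹)).mp (inv_mem x.2)
      rw [show (x : ↥E) * zE * (x : ↥E)⁻¹ * zE⁻¹ = (x : ↥E) * (zE * (x : ↥E)⁻¹ * zE⁻¹) by group]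
      exact mul_mem x.2 h1
    obtain ⟨k, hk⟩ := R.isPGroup' ⟨_, hyR⟩
    refine ⟨k, ?_⟩
    have hk' := congrArg (fun u : ↥(R : Subgroup ↥E) => ((u : ↥E) : Equiv.Perm (V × V))) hk
    simp only [SubgroupClass.coe_pow, OneMemClass.coe_one, Subgroup.coe_mul, Subgroup.coe_inv, zE]
      at hk'
    have hzi : z⁻¹ = z := inv_eq_of_mul_eq_one_right hzz
    have hpow : ∀ m : ℕ, ∀ p : V × V, ((f x * z) ^ m) p = ((a ^ m) p.1, (b ^ m) p.2) := by
      intro m
      induction m with
      | zero => intro p; simp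
      | succ m ih =>
        intro p
        rw [pow_succ, Equiv.Perm.mul_apply, ih, Equiv.Perm.mul_apply, hs, hz', pow_succ, pow_succ]
        rfl
    refine DFunLike.ext _ _ fun v => ?_
    have h2 := hpow (r ^ k) (v, 0)
    rw [hzi] at hk'
    rw [show f x * z = ((x : ↥E) : Equiv.Perm (V × V)) * z * ((x : ↥E) : Equiv.Perm (V × V))⁻¹ * z
      from rfl, hk'] at h2
    simpa using (congrArg Prod.fst h2).symm
  choose co hco hco' using hT
  let G' : ↥(R : Subgroup ↥E) ⧸ D →
      ↥{a : AddMonoid.End V | a ∈ A ∧ ∃ k, a ^ r ^ k = 1} :=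
    fun q => ⟨co q.out, hco q.out⟩
  have hG : Function.Injective G' := by
    intro q q' e
    have e' : co q.out = co q'.out := congrArg Subtype.val e
    have h1 : f q.out = f q'.out :=
      h.S_ext (hfS _) (hfS _) fun p => by rw [hco', hco', e']
    rw [← QuotientGroup.out_eq' q, ← QuotientGroup.out_eq' q']
    refine QuotientGroup.eq.mpr ?_
    exact (hfib _ _).mpr h1
  refine hge.trans ?_
  rw [Subgroup.index_eq_card, ← Nat.card_coe_set_eq]
  exact Nat.card_le_card_of_injective G' hG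

/-- The spread set is generated, as a ring, by one of its members. -/
theorem exists_generator [Nontrivial V] {n : ℕ} (hn : Nat.card V = 2 ^ n) :
    ∃ a ∈ A, ∀ x, x ∈ A ↔ x ∈ K a := by
  classical
  haveI : Finite (AddMonoid.End V) := Finite.of_injective _ DFunLike.coe_injective
  have h10 : (1 : AddMonoid.End V) ≠ 0 := h.one_ne_zero
  have hn0 : n ≠ 0 := by
    rintro rfl
    rw [pow_zero] at hn
    exact absurd hn (Finite.one_lt_card (α := V)).ne'
  suffices hk : ∃ a ∈ A, Nat.card ↥(K a) = Nat.card V by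
    obtain ⟨a, ha, e⟩ := hk
    exact ⟨a, ha, h.full ha e⟩
  by_contra hcon
  push Not at hcon
  have key : ∀ a ∈ A, ∀ r k : ℕ, r.Prime → a ^ r ^ k = 1 → a = 1 ∨
      ∃ d, 0 < d ∧ d < n ∧ d ∣ n ∧ r ∣ 2 ^ d - 1 ∧ a ^ (2 ^ d - 1) = 1 := by
    intro a ha r k hr hk
    obtain ⟨d, hd0, hdn, hcard, hpow⟩ := h.degree hn ha
    have ha0 : a ≠ 0 := by
      rintro rfl
      rw [zero_pow (pow_ne_zero _ hr.ne_zero)] at hk
      exact h10 hk.symm
    have hlt : d < n := by
      refine lt_of_le_of_ne (Nat.le_of_dvd (Nat.pos_of_ne_zero hn0) hdn) ?_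
      rintro rfl
      exact hcon a ha (hcard.trans hn.symm)
    by_cases hdvd : r ∣ 2 ^ d - 1
    · exact Or.inr ⟨d, hd0, hlt, hdn, hdvd, hpow ha0⟩
    · left
      have h1 : a ^ Nat.gcd (r ^ k) (2 ^ d - 1) = 1 := pow_gcd_eq_one.mpr ⟨hk, hpow ha0⟩
      rwa [(hr.coprime_iff_not_dvd.mpr hdvd).pow_left k, pow_one] at h1
  rcases Nat.lt_or_ge n 2 with hn2 | hn2
  · obtain ⟨d, hd0, hdn, hcard, -⟩ := h.degree hn h.one_mem
    obtain rfl : n = 1 := by omega
    obtain rfl := Nat.dvd_one.mp hdn
    exact hcon 1 h.one_mem (hcard.trans hn.symm)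
  by_cases h6 : n = 6
  · subst h6
    have h9 := h.many_r Nat.prime_three (e := 2) (by rw [hn]; norm_num)
    have hsub : ∀ a : AddMonoid.End V, a ∈ A → ∀ k, a ^ 3 ^ k = 1 → a = 1 ∨ a * a = a + 1 := by
      intro a ha k hk
      by_cases ha1 : a = 1
      · exact Or.inl ha1
      refine Or.inr (h.cube ha ?_ ha1)
      rcases key a ha 3 k Nat.prime_three hk with e | ⟨d, hd0, hd6, hd, h3, hp⟩
      · exact absurd e ha1
      interval_cases d <;> revert h3 hd hp <;> norm_num
    by_cases hex : ∃ a ∈ A, a * a = a + 1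
    · obtain ⟨a0, ha0, ha02⟩ := hex
      have hle : Set.ncard {a : AddMonoid.End V | a ∈ A ∧ ∃ k, a ^ 3 ^ k = 1} ≤
          Set.ncard ({1, a0, a0 * a0} : Set (AddMonoid.End V)) := by
        refine Set.ncard_le_ncard ?_ (Set.toFinite _)
        rintro a ⟨ha, k, hk⟩
        rcases hsub a ha k hk with e | e
        · simp [e]
        · rcases h.cube_unique ha0 ha ha02 e with e' | e' <;> simp [e']
      have h3 : Set.ncard ({1, a0, a0 * a0} : Set (AddMonoid.End V)) ≤ 3 := by
        refine (Set.ncard_insert_le _ _).trans (Nat.succ_le_succ ?_)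
        refine (Set.ncard_insert_le _ _).trans (Nat.succ_le_succ ?_)
        rw [Set.ncard_singleton]
      omega
    · have hle : Set.ncard {a : AddMonoid.End V | a ∈ A ∧ ∃ k, a ^ 3 ^ k = 1} ≤
          Set.ncard ({1} : Set (AddMonoid.End V)) := by
        refine Set.ncard_le_ncard ?_ (Set.toFinite _)
        rintro a ⟨ha, k, hk⟩
        rcases hsub a ha k hk with e | e
        · simp [e]
        · exact absurd ⟨a, ha, e⟩ hex
      rw [Set.ncard_singleton] at hle
      omega
  · obtain ⟨r, hr, hrdvd, hprim⟩ := S2904.result 2 n (by norm_num) hn2 (fun e => h6 e.2) (by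
      rintro ⟨-, m, hm⟩
      rcases m with _ | _ | m
      · norm_num at hm
      · norm_num at hm
      · have : 4 ≤ 2 ^ (m + 1 + 1) := by
          calc 4 = 2 ^ 2 := rfl
            _ ≤ _ := Nat.pow_le_pow_right (by norm_num) (by omega)
        omega)
    have hm := h.many_r hr (e := 1) (by rw [hn, pow_one]; exact hrdvd)
    rw [pow_one] at hm
    obtain ⟨a, ⟨ha, k, hk⟩, ha1⟩ := Set.exists_ne_of_one_lt_ncard
      (lt_of_lt_of_le hr.one_lt hm) (1 : AddMonoid.End V)
    rcases key a ha r k hr hk with e | ⟨d, hd0, hdlt, -, hdvd, -⟩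
    · exact ha1 e
    · exact hprim d hd0 hdlt hdvd

end Spread

end Cfsg.Agent.JordanSpreadField32
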