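import Mathlib
import Cfsg.Agent.Lib.JordanTypeBasic

/-!
Every nilpotent matrix is similar to a block shift; similarity is decided by the block counts.
-/

set_option autoImplicit false

open Polynomial Matrix

namespace Cfsg.Agent.JordanType

variable {F : Type*} [Field F]

theorem eq_sum_coeff_mod (k : ℕ) (r : F[X]) :
    (Ideal.Quotient.mk (Ideal.span {(X : F[X]) ^ k}) r) =
      Ideal.Quotient.mk (Ideal.span {(X : F[X]) ^ k}) (∑ i : Fin k, C (r.coeff i) * X ^ (i : ℕ)) := by
  rw [Ideal.Quotient.eq, Ideal.mem_span_singleton, X_pow_dvd_iff]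
  intro m hm
  rw [coeff_sub, finsetSum_coeff, Finset.sum_eq_single ⟨m, hm⟩]
  · simp
  · intro i _ hi
    rw [coeff_C_mul_X_pow, if_neg]
    exact fun h => hi (Fin.ext h.symm)
  · simp

/-- The structure theorem for nilpotent matrices. -/
theorem exists_type {n : Type*} [Fintype n] [DecidableEq n] (N : Matrix n n F) (hN : IsNilpotent N) :
    ∃ (t : ℕ) (d : Fin t → ℕ) (e : Ix d ≃ n), IsConj (Matrix.reindex e e (sh d F 1)) N := by
  classical
  obtain ⟨k, hk⟩ := hN
  set T : Module.End F (n → F) := Matrix.toLin' N with hT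
  have hX : ∀ (i : ℕ) (v : n → F), (X : F[X]) ^ i • Module.AEval'.of T v = Module.AEval'.of T ((N ^ i) *ᵥ v) := by
    intro i v
    rw [Module.AEval'.X_pow_smul_of, hT, ← Matrix.toLin'_pow]
    rfl
  have htors : Module.IsTorsion' (Module.AEval' T) (Submonoid.powers (X : F[X])) :=
    (Submodule.isTorsion'_powers_iff _).2 fun x => ⟨k, by
      obtain ⟨v, rfl⟩ := (Module.AEval'.of T).surjective x
      rw [hX, hk, Matrix.zero_mulVec, map_zero]⟩
  haveI : Module.Finite F[X] (Module.AEval' T) := inferInstance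
  obtain ⟨t, d, ⟨E⟩⟩ := Module.torsion_by_prime_power_decomposition (R := F[X]) Polynomial.irreducible_X htors
  let gen : Fin t → n → F := fun a =>
    (Module.AEval'.of T).symm (E.symm (DirectSum.lof F[X] (Fin t) (fun a => F[X] ⧸ F[X] ∙ X ^ d a) a (Submodule.Quotient.mk 1)))
  have hgen : ∀ a, E (Module.AEval'.of T (gen a)) =
      DirectSum.lof F[X] (Fin t) (fun a => F[X] ⧸ F[X] ∙ X ^ d a) a (Submodule.Quotient.mk 1) := fun a => by
    simp only [gen, LinearEquiv.apply_symm_apply]
  let Ψ : (Ix d → F) →ₗ[F] (n → F) := Fintype.linearCombination F fun p : Ix d => (N ^ (p.2 : ℕ)) *ᵥ gen p.1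
  have hΨ : ∀ c b, E (Module.AEval'.of T (Ψ c)) b =
      (Submodule.Quotient.mk (∑ i : Fin (d b), C (c ⟨b, i⟩) * X ^ (i : ℕ)) : F[X] ⧸ F[X] ∙ X ^ d b) := by
    intro c b
    have h1 : Module.AEval'.of T (Ψ c) =
        ∑ a, (∑ i : Fin (d a), C (c ⟨a, i⟩) * X ^ (i : ℕ)) • Module.AEval'.of T (gen a) := by
      simp only [Ψ, Fintype.linearCombination_apply, map_sum, map_smul, Finset.sum_smul]
      rw [Fintype.sum_sigma]
      refine Finset.sum_congr rfl fun a _ => Finset.sum_congr rfl fun i _ => ?_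
      rw [mul_smul, hX, ← Polynomial.algebraMap_eq, algebraMap_smul]
    rw [h1]
    simp only [map_sum, map_smul, hgen]
    rw [DFinsupp.finset_sum_apply, Finset.sum_eq_single b]
    · rw [DirectSum.smul_apply, DirectSum.lof_apply, ← Submodule.Quotient.mk_smul, Finset.sum_congr rfl fun i _ => rfl,
        smul_eq_mul, mul_one]
    · intro a _ ha
      rw [DirectSum.smul_apply, DirectSum.lof_eq_of, DirectSum.of_eq_of_ne _ _ _ (Ne.symm ha), smul_zero]
    · simp
  have hinj : Function.Injective Ψ := by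
    rw [← LinearMap.ker_eq_bot, Submodule.eq_bot_iff]
    intro c hc
    rw [LinearMap.mem_ker] at hc
    funext p
    obtain ⟨b, i⟩ := p
    have h := hΨ c b
    rw [hc, map_zero, map_zero, DirectSum.zero_apply, eq_comm, Submodule.Quotient.mk_eq_zero,
      Submodule.mem_span_singleton] at h
    obtain ⟨r, hr⟩ := h
    have h' := congrArg (fun f : F[X] => f.coeff i) hr.symm
    rw [finsetSum_coeff, smul_eq_mul, coeff_mul_X_pow', if_neg (not_le.2 i.2)] at h'
    rw [Finset.sum_eq_single i] at h'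
    · simpa using h'
    · intro j _ hj
      rw [coeff_C_mul_X_pow, if_neg]
      exact fun h => hj (Fin.ext h.symm)
    · simp
  have hsurj : Function.Surjective Ψ := by
    intro v
    choose r hr using fun b => Submodule.Quotient.mk_surjective _ (E (Module.AEval'.of T v) b)
    refine ⟨fun p => (r p.1).coeff p.2, ?_⟩
    apply (Module.AEval'.of T).injective
    apply E.injective
    refine DFinsupp.ext fun b => ?_
    refine (hΨ _ b).trans ((Eq.symm ?_).trans (hr b))
    exact eq_sum_coeff_mod (d b) (r b)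
  let Φ := LinearEquiv.ofBijective Ψ ⟨hinj, hsurj⟩
  have hcard : Fintype.card (Ix d) = Fintype.card n := by
    have := LinearEquiv.finrank_eq Φ
    rwa [Module.finrank_fintype_fun_eq_card, Module.finrank_fintype_fun_eq_card] at this
  let e : Ix d ≃ n := Fintype.equivOfCardEq hcard
  have hstep : ∀ c : Ix d → F, Ψ (sh d F 1 *ᵥ c) = N *ᵥ Ψ c := by
    intro c
    apply (Module.AEval'.of T).injective
    apply E.injective
    refine DFinsupp.ext fun b => ?_
    refine (hΨ _ b).trans ?_
    have h1 : E (Module.AEval'.of T (N *ᵥ Ψ c)) b = (X : F[X]) • E (Module.AEval'.of T (Ψ c)) b := by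
      rw [← DirectSum.smul_apply, ← map_smul]
      congr 2
      simpa using (hX 1 (Ψ c)).symm
    rw [h1, hΨ, ← Submodule.Quotient.mk_smul]
    refine (Submodule.Quotient.eq _).2 (Ideal.mem_span_singleton.2 ?_)
    rw [X_pow_dvd_iff]
    intro m hm
    have hsum : ∀ f : Fin (d b) → F, (∑ i : Fin (d b), C (f i) * X ^ (i : ℕ)).coeff m = f ⟨m, hm⟩ := by
      intro f
      rw [finsetSum_coeff, Finset.sum_eq_single ⟨m, hm⟩]
      · simp
      · intro i _ hi
        rw [coeff_C_mul_X_pow, if_neg]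
        exact fun h => hi (Fin.ext h.symm)
      · simp
    have hmv : ∀ (j : Fin (d b)), (sh d F 1 *ᵥ c) ⟨b, j⟩ =
        if h : 1 ≤ (j : ℕ) then c ⟨b, ⟨j - 1, by omega⟩⟩ else 0 := by
      intro j
      rw [Matrix.mulVec, dotProduct]
      split_ifs with h
      · rw [Finset.sum_eq_single (⟨b, ⟨j - 1, by omega⟩⟩ : Ix d)]
        · simp [sh, Nat.sub_add_cancel h]
        · rintro ⟨a, i⟩ - hne
          simp only [sh, Matrix.of_apply]
          rw [if_neg, zero_mul]
          rintro ⟨rfl, h'⟩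
          exact hne (congrArg (Sigma.mk b) (Fin.ext (by simp only; omega)))
        · simp
      · refine Finset.sum_eq_zero fun p _ => ?_
        simp only [sh, Matrix.of_apply]
        rw [if_neg, zero_mul]
        rintro ⟨-, h'⟩
        omega
    rw [coeff_sub, hsum, hmv, smul_eq_mul]
    rcases m with _ | m
    · simp [coeff_X_mul_zero]
    · have hm' : m < d b := Nat.lt_of_succ_lt hm
      rw [coeff_X_mul, dif_pos (Nat.succ_le_succ (Nat.zero_le m)), finsetSum_coeff, Finset.sum_eq_single ⟨m, hm'⟩]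
      · simp
      · intro i _ hi
        rw [coeff_C_mul_X_pow, if_neg]
        exact fun h => hi (Fin.ext h.symm)
      · simp
  let P : Matrix n n F := LinearMap.toMatrix' (Ψ ∘ₗ (LinearMap.funLeft F F e))
  have hPv : ∀ v, P *ᵥ v = Ψ (v ∘ e) := fun v => by
    rw [← Matrix.toLin'_apply, Matrix.toLin'_toMatrix']; rfl
  have hP : IsUnit P := by
    rw [← Matrix.mulVec_injective_iff_isUnit]
    intro u v h
    rw [hPv, hPv] at h
    have := hinj h
    funext i
    simpa using congrFun this (e.symm i)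
  refine ⟨t, d, e, hP.unit, ?_⟩
  show P * Matrix.reindex e e (sh d F 1) = N * P
  apply Matrix.toLin'.injective
  refine LinearMap.ext fun v => ?_
  simp only [Matrix.toLin'_apply, ← Matrix.mulVec_mulVec, hPv]
  rw [← hstep]
  congr 1
  rw [Matrix.reindex_apply]
  simp [Matrix.submatrix_mulVec_equiv, Function.comp_assoc]

/-- Similar block shifts from equal counts. -/
theorem exists_equiv {t t' : ℕ} (d : Fin t → ℕ) (d' : Fin t' → ℕ)
    (h : ∀ j, 0 < j → (Finset.univ.filter fun a => d a = j).card = (Finset.univ.filter fun a => d' a = j).card) :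
    ∃ f : Ix d ≃ Ix d', Matrix.reindex f f (sh d F 1) = sh d' F 1 := by
  classical
  have hfib : ∀ j : ℕ, Nonempty ({a : {a // 0 < d a} // d a.1 = j} ≃ {a : {a // 0 < d' a} // d' a.1 = j}) := by
    intro j
    refine ⟨Fintype.equivOfCardEq ?_⟩
    rcases Nat.eq_zero_or_pos j with rfl | hj
    · haveI : IsEmpty {a : {a // 0 < d a} // d a.1 = 0} := ⟨fun a => by have := a.1.2; have := a.2; omega⟩
      haveI : IsEmpty {a : {a // 0 < d' a} // d' a.1 = 0} := ⟨fun a => by have := a.1.2; have := a.2; omega⟩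
      simp
    · rw [Fintype.card_congr (Equiv.subtypeSubtypeEquivSubtype fun {a} (ha : d a = j) => ha ▸ hj),
        Fintype.card_congr (Equiv.subtypeSubtypeEquivSubtype fun {a} (ha : d' a = j) => ha ▸ hj),
        Fintype.card_subtype, Fintype.card_subtype, h j hj]
  let g : {a // 0 < d a} ≃ {a // 0 < d' a} := Equiv.ofFiberEquiv fun j => (hfib j).some
  have hg : ∀ a, d' (g a).1 = d a.1 := fun a =>
    Equiv.ofFiberEquiv_map (f := fun a : {a // 0 < d a} => d a.1) (g := fun a : {a // 0 < d' a} => d' a.1) _ a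
  let toF : Ix d → Ix d' := fun p => ⟨(g ⟨p.1, Nat.zero_lt_of_lt p.2.2⟩).1, Fin.cast (hg _).symm p.2⟩
  have hext : ∀ {t : ℕ} {d : Fin t → ℕ} (p q : Ix d), p.1 = q.1 → (p.2 : ℕ) = q.2 → p = q := by
    rintro t d ⟨a, i⟩ ⟨b, j⟩ rfl h2
    exact congrArg (Sigma.mk a) (Fin.ext h2)
  have hbij : Function.Bijective toF := by
    constructor
    · intro p q hpq
      have h1 := congrArg Sigma.fst hpq
      have h2 := congrArg (fun r : Ix d' => (r.2 : ℕ)) hpq
      exact hext _ _ (congrArg Subtype.val (g.injective (Subtype.ext h1))) h2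
    · rintro ⟨b, j⟩
      let a := g.symm ⟨b, Nat.zero_lt_of_lt j.2⟩
      have ha : g a = ⟨b, Nat.zero_lt_of_lt j.2⟩ := g.apply_symm_apply _
      have hd : d a.1 = d' b := by rw [← hg a, ha]
      refine ⟨⟨a.1, Fin.cast hd.symm j⟩, hext _ _ ?_ rfl⟩
      simp only [toF]
      rw [Subtype.coe_eta, ha]
  refine ⟨Equiv.ofBijective toF hbij, ?_⟩
  ext p q
  obtain ⟨p, rfl⟩ := (Equiv.ofBijective toF hbij).surjective p
  obtain ⟨q, rfl⟩ := (Equiv.ofBijective toF hbij).surjective q
  rw [Matrix.reindex_apply, Matrix.submatrix_apply, Equiv.symm_apply_apply, Equiv.symm_apply_apply]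
  simp only [sh, Matrix.of_apply, Equiv.ofBijective_apply, toF, Fin.val_cast]
  have : ((g ⟨p.1, Nat.zero_lt_of_lt p.2.2⟩).1 = (g ⟨q.1, Nat.zero_lt_of_lt q.2.2⟩).1) ↔ p.1 = q.1 := by
    rw [← Subtype.ext_iff, g.apply_eq_iff_eq, Subtype.mk.injEq]
  simp only [this]

theorem count_eq_of_rk {t t' : ℕ} (d : Fin t → ℕ) (d' : Fin t' → ℕ) (h : ∀ k, rk d k = rk d' k) (j : ℕ) (hj : 0 < j) :
    (Finset.univ.filter fun a => d a = j).card = (Finset.univ.filter fun a => d' a = j).card := by
  obtain ⟨j, rfl⟩ := Nat.exists_eq_add_of_le' hj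
  have h1 := rk_step d j
  have h2 := rk_step d' j
  rw [h, h, h] at h1
  simp only [Nat.succ_eq_add_one, zero_add] at *
  omega

end Cfsg.Agent.JordanType
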