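import Mathlib
import Cfsg.Agent.Lib.JordanTypeExists

/-!
Unipotent classes of `GL n F` correspond to the partitions of `n`.
-/

set_option autoImplicit false

open Matrix

namespace Cfsg.Agent.JordanType

variable {F : Type*} [Field F] {n : ℕ}

/-- permutation matrices conjugate a matrix to its reindexing -/
theorem isConj_reindex {m : Type*} [Fintype m] [DecidableEq m] (π : m ≃ m) (A : Matrix m m F) :
    IsConj A (Matrix.reindex π π A) := by
  let P : Matrix m m F := Matrix.of fun i j => if i = π j then 1 else 0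
  let Q : Matrix m m F := Matrix.of fun i j => if π i = j then 1 else 0
  have h1 : P * Q = 1 := by
    ext i j
    rw [Matrix.mul_apply, Finset.sum_eq_single (π.symm i)]
    · simp [P, Q, Matrix.one_apply]
    · intro k _ hk
      simp only [P, Matrix.of_apply]
      rw [if_neg, zero_mul]
      rintro rfl; simp at hk
    · simp
  refine ⟨⟨P, Q, h1, mul_eq_one_comm.1 h1⟩, ?_⟩
  show P * A = Matrix.reindex π π A * P
  ext i j
  rw [Matrix.mul_apply, Matrix.mul_apply, Finset.sum_eq_single (π.symm i), Finset.sum_eq_single (π j)]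
  · simp [P]
  · intro k _ hk; simp [P, hk]
  · simp
  · intro k _ hk
    simp only [P, Matrix.of_apply]
    rw [if_neg, zero_mul]
    rintro rfl; simp at hk
  · simp

/-- part sizes of a partition -/
noncomputable def parts (μ : Nat.Partition n) : Fin μ.parts.toList.length → ℕ := fun i => μ.parts.toList.get i

theorem parts_map (μ : Nat.Partition n) : (Finset.univ.val.map (parts μ)) = μ.parts := by
  rw [Fin.univ_val_map]
  show (↑(List.ofFn fun i => μ.parts.toList.get i) : Multiset ℕ) = _
  rw [List.ofFn_get, Multiset.coe_toList]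

theorem count_parts {t : ℕ} (d : Fin t → ℕ) (j : ℕ) :
    (Finset.univ.filter fun a => d a = j).card = (Finset.univ.val.map d).count j := by
  rw [Multiset.count_map, Finset.card_def, Finset.filter_val]
  simp only [eq_comm]

theorem sum_parts (μ : Nat.Partition n) : Fintype.card (Ix (parts μ)) = n := by
  rw [Fintype.card_sigma]
  simp only [Fintype.card_fin]
  show (Finset.univ.val.map (parts μ)).sum = n
  rw [parts_map, μ.parts_sum]

/-- placing the blocks -/
noncomputable def place (μ : Nat.Partition n) : Ix (parts μ) ≃ Fin n :=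
  Fintype.equivOfCardEq (by rw [sum_parts, Fintype.card_fin])

/-- the nilpotent part of the representative -/
noncomputable def nilMat (F : Type*) [Field F] (μ : Nat.Partition n) : Matrix (Fin n) (Fin n) F :=
  Matrix.reindex (place μ) (place μ) (sh (parts μ) F 1)

theorem nilMat_pow (μ : Nat.Partition n) (k : ℕ) :
    nilMat F μ ^ k = Matrix.reindex (place μ) (place μ) (sh (parts μ) F k) := by
  rw [← sh_pow, nilMat, ← Matrix.coe_reindexAlgEquiv F F]
  exact (map_pow _ _ _).symm

theorem isNilpotent_nilMat (μ : Nat.Partition n) : IsNilpotent (nilMat F μ) := by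
  refine ⟨n + 1, ?_⟩
  rw [nilMat_pow]
  ext i j
  simp only [Matrix.reindex_apply, Matrix.submatrix_apply, sh, Matrix.of_apply, Matrix.zero_apply]
  rw [if_neg]
  rintro ⟨-, h⟩
  have := ((place μ).symm i).2.2
  have hle : parts μ ((place μ).symm i).1 ≤ n := by
    have hs := sum_parts μ
    rw [Fintype.card_sigma] at hs
    simp only [Fintype.card_fin] at hs
    exact le_of_le_of_eq (Finset.single_le_sum (fun a _ => Nat.zero_le _) (Finset.mem_univ _)) hs
  omega

/-- the representative -/
noncomputable def repr (F : Type*) [Field F] (μ : Nat.Partition n) : GL (Fin n) F :=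
  (isNilpotent_nilMat μ).isUnit_one_add.unit

theorem repr_sub_one (μ : Nat.Partition n) : (repr F μ : Matrix (Fin n) (Fin n) F) - 1 = nilMat F μ := by
  simp [repr]

theorem rank_pow (μ : Nat.Partition n) (k : ℕ) :
    (((repr F μ : Matrix (Fin n) (Fin n) F) - 1) ^ k).rank = rk (parts μ) k := by
  rw [repr_sub_one, nilMat_pow, Matrix.rank_reindex, rank_sh]

theorem isConj_sub_one {g h : GL (Fin n) F} :
    IsConj g h ↔ IsConj ((g : Matrix (Fin n) (Fin n) F) - 1) ((h : Matrix (Fin n) (Fin n) F) - 1) := by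
  constructor
  · rintro ⟨c, hc⟩
    refine ⟨c.val, ?_⟩
    have h' : SemiconjBy ((c.val : GL (Fin n) F) : Matrix (Fin n) (Fin n) F) g h := congrArg Units.val hc
    exact h'.sub_right (SemiconjBy.one_right _)
  · rintro ⟨c, hc⟩
    have h' := hc.add_right (SemiconjBy.one_right (c : Matrix (Fin n) (Fin n) F))
    rw [sub_add_cancel, sub_add_cancel] at h'
    exact ⟨toUnits c, Units.ext h'⟩

theorem repr_injective {μ ν : Nat.Partition n} (h : IsConj (repr F μ) (repr F ν)) : μ = ν := by
  have hrk : ∀ k, rk (parts μ) k = rk (parts ν) k := by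
    intro k
    obtain ⟨c, hc⟩ := isConj_sub_one.1 h
    rw [← rank_pow (F := F), ← rank_pow (F := F)]
    have hU : IsUnit (c : Matrix (Fin n) (Fin n) F).det := (Matrix.isUnit_iff_isUnit_det _).1 c.isUnit
    rw [← Matrix.rank_mul_eq_right_of_isUnit_det (c : Matrix (Fin n) (Fin n) F) _ hU, (hc.pow_right k).eq,
      Matrix.rank_mul_eq_left_of_isUnit_det _ _ hU]
  apply Nat.Partition.ext
  ext j
  rcases Nat.eq_zero_or_pos j with rfl | hj
  · rw [Multiset.count_eq_zero.2 fun h0 => (μ.parts_pos h0).ne' rfl, Multiset.count_eq_zero.2 fun h0 => (ν.parts_pos h0).ne' rfl]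
  · rw [← parts_map μ, ← parts_map ν, ← count_parts, ← count_parts, count_eq_of_rk _ _ hrk j hj]

theorem exists_repr (g : GL (Fin n) F) (hg : IsNilpotent ((g : Matrix (Fin n) (Fin n) F) - 1)) :
    ∃ μ : Nat.Partition n, IsConj (repr F μ) g := by
  classical
  obtain ⟨t, d, e, he⟩ := exists_type _ hg
  have hsum : (Finset.univ.val.map d).sum = n := by
    have := Fintype.card_congr e
    rw [Fintype.card_sigma, Fintype.card_fin] at this
    simp only [Fintype.card_fin] at this
    exact this
  let μ := Nat.Partition.ofSums n (Finset.univ.val.map d) hsum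
  refine ⟨μ, isConj_sub_one.2 ?_⟩
  obtain ⟨f, hf⟩ := exists_equiv (F := F) (parts μ) d fun j hj => by
    rw [count_parts, count_parts, parts_map, Nat.Partition.count_ofSums_of_ne_zero hsum hj.ne']
  rw [repr_sub_one, nilMat]
  refine IsConj.trans ?_ he
  have := isConj_reindex (((place μ).symm.trans f).trans e) (Matrix.reindex (place μ) (place μ) (sh (parts μ) F 1))
  convert! this using 1
  rw [← hf]
  ext i j
  simp

/-- unipotent classes ≃ partitions, with a side condition -/
theorem card_classes (P : GL (Fin n) F → Prop) (Q : Nat.Partition n → Prop)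
    (hPconj : ∀ g h, IsConj g h → P g → P h) (hP : ∀ g, P g → IsNilpotent ((g : Matrix (Fin n) (Fin n) F) - 1))
    (hPQ : ∀ μ, P (repr F μ) ↔ Q μ) :
    Nat.card {C : ConjClasses (GL (Fin n) F) // ∃ g, P g ∧ ConjClasses.mk g = C} = Nat.card {μ // Q μ} := by
  refine (Nat.card_eq_of_bijective (fun μ : {μ // Q μ} =>
    (⟨ConjClasses.mk (repr F μ.1), repr F μ.1, (hPQ _).2 μ.2, rfl⟩ :
      {C : ConjClasses (GL (Fin n) F) // ∃ g, P g ∧ ConjClasses.mk g = C})) ⟨?_, ?_⟩).symm
  · intro μ ν h
    exact Subtype.ext (repr_injective (ConjClasses.mk_eq_mk_iff_isConj.1 (congrArg Subtype.val h)))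
  · rintro ⟨_, g, hg, rfl⟩
    obtain ⟨μ, hμ⟩ := exists_repr g (hP g hg)
    exact ⟨⟨μ, (hPQ μ).1 (hPconj _ _ hμ.symm hg)⟩, Subtype.ext (ConjClasses.mk_eq_mk_iff_isConj.2 hμ)⟩

theorem pow_char_pow_eq (p : ℕ) [Fact p.Prime] [CharP F p] (A : Matrix (Fin n) (Fin n) F) (k : ℕ) :
    (A - 1) ^ p ^ k = A ^ p ^ k - 1 := by
  have h : (Polynomial.X - 1 : Polynomial F) ^ p ^ k = Polynomial.X ^ p ^ k - 1 ^ p ^ k := sub_pow_char_pow _ _ _
  simpa using congrArg (Polynomial.aeval A) h

theorem pow_eq_one_iff (p : ℕ) [Fact p.Prime] [CharP F p] (g : GL (Fin n) F) (k : ℕ) :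
    g ^ p ^ k = 1 ↔ ((g : Matrix (Fin n) (Fin n) F) - 1) ^ p ^ k = 0 := by
  rw [pow_char_pow_eq, sub_eq_zero, Units.ext_iff, Units.val_pow_eq_pow_val, Units.val_one]

theorem isNilpotent_iff_pow_prime (p : ℕ) [Fact p.Prime] [CharP F p] (g : GL (Fin n) F) :
    (∃ k, orderOf g = p ^ k) ↔ IsNilpotent ((g : Matrix (Fin n) (Fin n) F) - 1) := by
  constructor
  · rintro ⟨k, hk⟩
    exact ⟨p ^ k, (pow_eq_one_iff p g k).1 (hk ▸ pow_orderOf_eq_one g)⟩
  · rintro ⟨m, hm⟩
    have hle : m ≤ p ^ m := (Nat.lt_pow_self (Fact.out : p.Prime).one_lt).le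
    have h1 : g ^ p ^ m = 1 := (pow_eq_one_iff p g m).2 (pow_eq_zero_of_le hle hm)
    obtain ⟨k, -, hk⟩ := (Nat.dvd_prime_pow Fact.out).1 (orderOf_dvd_of_pow_eq_one h1)
    exact ⟨k, hk⟩

end Cfsg.Agent.JordanType
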