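import Mathlib

/-!
Lower bounds for the number of conjugacy classes: monotonicity of `|G| / k(G)` under subgroups and
products, classes inside abelian normal subgroups, classes over a central subgroup.
-/

set_option autoImplicit false

namespace Cfsg.Agent.KGBound86

open scoped commutatorElement

/-- `|G| / k(G) ≤ b / a`, without denominators. -/
def RB (G : Type*) [Group G] (a b : ℕ) : Prop := a * Nat.card G ≤ b * Nat.card (ConjClasses G)

/-- Number of commuting pairs with coordinates in two sets. -/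
abbrev PairsIn {G : Type*} [Group G] (U V : G → Prop) : Type _ :=
  {p : G × G // U p.1 ∧ V p.2 ∧ Commute p.1 p.2}

theorem pairs_coset_snd {G : Type*} [Group G] [Finite G] (H : Subgroup G) (U V : G → Prop)
    (hV : ∀ x y, V x → V y → x⁻¹ * y ∈ H) :
    Nat.card (PairsIn U V) ≤ Nat.card (PairsIn U (· ∈ H)) := by
  classical
  let b : G → G := fun a => if h : ∃ x, V x ∧ Commute a x then h.choose else 1
  have hb : ∀ a x, V x → Commute a x → V (b a) ∧ Commute a (b a) := by
    intro a x hx hc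
    have h : ∃ x, V x ∧ Commute a x := ⟨x, hx, hc⟩
    simp only [b, dif_pos h]
    exact h.choose_spec
  refine Nat.card_le_card_of_injective
    (fun p => ⟨(p.1.1, (b p.1.1)⁻¹ * p.1.2), p.2.1,
      hV _ _ (hb _ _ p.2.2.1 p.2.2.2).1 p.2.2.1,
      ((hb _ _ p.2.2.1 p.2.2.2).2.inv_right).mul_right p.2.2.2⟩) ?_
  rintro ⟨⟨a, x⟩, hp⟩ ⟨⟨a', x'⟩, hq⟩ h
  simp only [Subtype.mk.injEq, Prod.mk.injEq] at h ⊢
  obtain ⟨rfl, h⟩ := h
  exact ⟨rfl, mul_left_cancel h⟩

theorem pairs_swap {G : Type*} [Group G] (U V : G → Prop) :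
    Nat.card (PairsIn U V) = Nat.card (PairsIn V U) :=
  Nat.card_congr
    { toFun := fun p => ⟨p.1.swap, p.2.2.1, p.2.1, p.2.2.2.symm⟩
      invFun := fun p => ⟨p.1.swap, p.2.2.1, p.2.1, p.2.2.2.symm⟩
      left_inv := fun p => by simp
      right_inv := fun p => by simp }

theorem pairs_coset_le {G : Type*} [Group G] [Finite G] (H : Subgroup G) (U V : G → Prop)
    (hU : ∀ x y, U x → U y → x⁻¹ * y ∈ H) (hV : ∀ x y, V x → V y → x⁻¹ * y ∈ H) :
    Nat.card (PairsIn U V) ≤ Nat.card (ConjClasses H) * Nat.card H := by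
  refine (pairs_coset_snd H U V hV).trans ?_
  rw [pairs_swap]
  refine (pairs_coset_snd H _ U hU).trans ?_
  rw [← card_comm_eq_card_conjClasses_mul_card H]
  refine Nat.card_le_card_of_injective
    (fun p => ⟨(⟨p.1.1, p.2.1⟩, ⟨p.1.2, p.2.2.1⟩), Subtype.ext p.2.2.2⟩) ?_
  intro p q h
  exact Subtype.ext (congrArg (fun r => ((r.1.1 : G), (r.1.2 : G))) h)

theorem card_le_mul_of_fibre {A B : Type*} [Finite A] [Finite B] (f : A → B) (k : ℕ)
    (h : ∀ b, Nat.card {a // f a = b} ≤ k) : Nat.card A ≤ Nat.card B * k := by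
  classical
  haveI := Fintype.ofFinite B
  rw [← Nat.card_congr (Equiv.sigmaFiberEquiv f), Nat.card_sigma]
  refine (Finset.sum_le_sum (fun b _ => h b)).trans ?_
  simp [Nat.card_eq_fintype_card]

/-- `k(G) ≤ [G:H] k(H)`. -/
theorem k_le_index_mul {G : Type*} [Group G] [Finite G] (H : Subgroup G) :
    Nat.card (ConjClasses G) ≤ H.index * Nat.card (ConjClasses H) := by
  have key : Nat.card (ConjClasses G) * Nat.card G
      ≤ Nat.card ((G ⧸ H) × (G ⧸ H)) * (Nat.card (ConjClasses H) * Nat.card H) := by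
    rw [← card_comm_eq_card_conjClasses_mul_card G]
    refine card_le_mul_of_fibre
      (fun p => ((p.1.1 : G ⧸ H), (p.1.2 : G ⧸ H))) _ fun b => ?_
    refine le_trans ?_ (pairs_coset_le H (fun x => (x : G ⧸ H) = b.1)
      (fun x => (x : G ⧸ H) = b.2)
      (fun x y hx hy => QuotientGroup.eq.1 (hx.trans hy.symm))
      (fun x y hx hy => QuotientGroup.eq.1 (hx.trans hy.symm)))
    refine Nat.card_le_card_of_injective
      (fun p => ⟨p.1.1, congrArg Prod.fst p.2, congrArg Prod.snd p.2, p.1.2⟩) ?_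
    rintro ⟨⟨a, ha⟩, hp⟩ ⟨⟨a', ha'⟩, hq⟩ h
    simpa using h
  rw [Nat.card_prod, ← H.card_mul_index, ← Subgroup.index] at key
  have hH : 0 < Nat.card H * H.index := by
    rw [H.card_mul_index]; exact Nat.card_pos
  refine Nat.le_of_mul_le_mul_right ?_ hH
  refine key.trans (le_of_eq ?_)
  ring

theorem k_congr {G M : Type*} [Group G] [Group M] (e : G ≃* M) :
    Nat.card (ConjClasses G) = Nat.card (ConjClasses M) :=
  Nat.card_congr <| Equiv.ofBijective (ConjClasses.map e.toMonoidHom)
    ⟨Function.LeftInverse.injective (g := ConjClasses.map e.symm.toMonoidHom) (by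
        intro x
        obtain ⟨a, rfl⟩ := ConjClasses.mk_surjective x
        exact congrArg ConjClasses.mk (e.symm_apply_apply a)),
      ConjClasses.map_surjective e.surjective⟩

theorem k_pos (G : Type*) [Group G] [Finite G] : 0 < Nat.card (ConjClasses G) := Nat.card_pos

theorem k_comm {G : Type*} [Group G] (h : ∀ x y : G, x * y = y * x) :
    Nat.card (ConjClasses G) = Nat.card G := by
  refine (Nat.card_congr (Equiv.ofBijective ConjClasses.mk ⟨fun a b hab => ?_,
    ConjClasses.mk_surjective⟩)).symm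
  obtain ⟨c, hc⟩ := isConj_iff.1 (ConjClasses.mk_eq_mk_iff_isConj.1 hab)
  rw [← hc, h c a, mul_inv_cancel_right]

namespace RB

theorem mono {G : Type*} [Group G] {a b b' : ℕ} (h : RB G a b) (hb : b ≤ b') : RB G a b' :=
  h.trans (Nat.mul_le_mul_right _ hb)

theorem scale {G : Type*} [Group G] {a b : ℕ} (h : RB G a b) (c : ℕ) : RB G (c * a) (c * b) := by
  unfold RB
  rw [mul_assoc, mul_assoc]
  exact Nat.mul_le_mul_left c h

theorem of_comm {G : Type*} [Group G] (h : ∀ x y : G, x * y = y * x) (a : ℕ) : RB G a a := by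
  unfold RB; rw [k_comm h]

theorem of_subgroup {G : Type*} [Group G] [Finite G] (H : Subgroup G) {a b : ℕ} (h : RB G a b) :
    RB H a b := by
  refine Nat.le_of_mul_le_mul_right ?_ (Nat.pos_of_ne_zero (Subgroup.index_ne_zero_of_finite (H := H)))
  calc a * Nat.card H * H.index = a * Nat.card G := by rw [mul_assoc, H.card_mul_index]
    _ ≤ b * Nat.card (ConjClasses G) := h
    _ ≤ b * (H.index * Nat.card (ConjClasses H)) := Nat.mul_le_mul_left _ (k_le_index_mul H)
    _ = b * Nat.card (ConjClasses H) * H.index := by ring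

theorem congr {G M : Type*} [Group G] [Group M] (e : G ≃* M) {a b : ℕ} (h : RB M a b) :
    RB G a b := by
  unfold RB; rwa [k_congr e, Nat.card_congr e.toEquiv]

theorem of_injective {G M : Type*} [Group G] [Group M] [Finite M] (f : G →* M)
    (hf : Function.Injective f) {a b : ℕ} (h : RB M a b) : RB G a b :=
  (h.of_subgroup f.range).congr (MonoidHom.ofInjective hf)

theorem of_index {G : Type*} [Group G] [Finite G] (B : Subgroup G) {a b : ℕ} (h : RB B a b) :
    RB G a (b * B.index ^ 2) := by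
  have h1 := B.commProb_subgroup_le
  rw [commProb_def', commProb_def'] at h1
  have hB : (0 : ℚ) < Nat.card B := Nat.cast_pos.2 Nat.card_pos
  have hG : (0 : ℚ) < Nat.card G := Nat.cast_pos.2 Nat.card_pos
  have h2 : (Nat.card (ConjClasses B) * Nat.card G : ℚ)
      ≤ Nat.card (ConjClasses G) * Nat.card B * (B.index : ℚ) ^ 2 := by
    have h3 := mul_le_mul_of_nonneg_right h1 (le_of_lt (mul_pos hB hG))
    calc (Nat.card (ConjClasses B) * Nat.card G : ℚ)
        = Nat.card (ConjClasses B) / Nat.card B * (Nat.card B * Nat.card G) := by field_simp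
      _ ≤ Nat.card (ConjClasses G) / Nat.card G * (B.index : ℚ) ^ 2 * (Nat.card B * Nat.card G) := h3
      _ = _ := by field_simp
  have h4 : Nat.card (ConjClasses B) * Nat.card G
      ≤ Nat.card (ConjClasses G) * Nat.card B * B.index ^ 2 := by exact_mod_cast h2
  refine Nat.le_of_mul_le_mul_right ?_ (Nat.card_pos (α := B))
  calc a * Nat.card G * Nat.card B = a * Nat.card B * Nat.card G := by ring
    _ ≤ b * Nat.card (ConjClasses B) * Nat.card G := Nat.mul_le_mul_right _ h
    _ = b * (Nat.card (ConjClasses B) * Nat.card G) := by ring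
    _ ≤ b * (Nat.card (ConjClasses G) * Nat.card B * B.index ^ 2) := Nat.mul_le_mul_left _ h4
    _ = _ := by ring

theorem pi {ι : Type*} [Fintype ι] {M : ι → Type*} [∀ i, Group (M i)] [∀ i, Finite (M i)]
    {a b : ℕ} (h : ∀ i, RB (M i) a b) : RB (∀ i, M i) (a ^ Fintype.card ι) (b ^ Fintype.card ι) := by
  have h1 : Nat.card (ConjClasses (∀ i, M i)) = ∏ i, Nat.card (ConjClasses (M i)) := by
    have e := commProb_pi M
    rw [commProb_def'] at e
    simp only [commProb_def', Finset.prod_div_distrib, ← Nat.cast_prod, ← Nat.card_pi] at e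
    rw [div_left_inj' (Nat.cast_ne_zero.2 Nat.card_pos.ne'), Nat.cast_inj] at e
    rw [e, Nat.card_pi]
  unfold RB
  rw [h1, Nat.card_pi, ← Finset.card_univ, ← Finset.prod_const, ← Finset.prod_const,
    ← Finset.prod_mul_distrib, ← Finset.prod_mul_distrib]
  exact Finset.prod_le_prod' fun i _ => h i

end RB

/-- Classes over a normal subgroup. -/
theorem k_quot_lt {G : Type*} [Group G] [Finite G] (N : Subgroup G) [N.Normal] (hN : N ≠ ⊥) :
    Nat.card (ConjClasses (G ⧸ N)) + 1 ≤ Nat.card (ConjClasses G) := by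
  haveI := Fintype.ofFinite (ConjClasses G)
  haveI := Fintype.ofFinite (ConjClasses (G ⧸ N))
  obtain ⟨x, hx, hx1⟩ := N.bot_or_exists_ne_one.resolve_left hN
  have hs : Function.Surjective (ConjClasses.map (QuotientGroup.mk' N)) :=
    ConjClasses.map_surjective (QuotientGroup.mk'_surjective N)
  simp only [Nat.card_eq_fintype_card]
  refine Fintype.card_lt_of_surjective_not_injective _ hs fun hinj => hx1 ?_
  have : ConjClasses.mk x = ConjClasses.mk (1 : G) := hinj (by
    show ConjClasses.mk (QuotientGroup.mk' N x) = ConjClasses.mk (QuotientGroup.mk' N 1)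
    rw [map_one, QuotientGroup.mk'_apply, (QuotientGroup.eq_one_iff x).2 hx])
  exact isConj_one_left.1 (ConjClasses.mk_eq_mk_iff_isConj.1 this)

/-- The classes inside an abelian normal subgroup `A` are orbits of `G ⧸ A`. -/
theorem k_abelian_normal {G : Type*} [Group G] [Finite G] (A : Subgroup G) [A.Normal]
    (hA : ∀ x ∈ A, ∀ y ∈ A, x * y = y * x) :
    ∃ r, Nat.card (ConjClasses (G ⧸ A)) + r ≤ Nat.card (ConjClasses G) ∧
      Nat.card A ≤ r * A.index + 1 ∧ (A ≠ ⊥ → 1 ≤ r) := by
  classical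
  haveI := Fintype.ofFinite (ConjClasses G)
  haveI := Fintype.ofFinite (ConjClasses (G ⧸ A))
  haveI := Fintype.ofFinite A
  let π := ConjClasses.map (QuotientGroup.mk' A)
  have hs : Function.Surjective π := ConjClasses.map_surjective (QuotientGroup.mk'_surjective A)
  let S : Finset (ConjClasses G) :=
    Finset.univ.filter fun c => c ≠ ConjClasses.mk 1 ∧ π c = π (ConjClasses.mk 1)
  let T : Finset (ConjClasses G) := Finset.univ.filter fun c => c ∉ S
  have hmem : ∀ a : A, (a : G) ≠ 1 → ConjClasses.mk (a : G) ∈ S := fun a ha => by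
    refine Finset.mem_filter.2 ⟨Finset.mem_univ _,
      fun h => ha (isConj_one_left.1 (ConjClasses.mk_eq_mk_iff_isConj.1 h)), ?_⟩
    show ConjClasses.mk (QuotientGroup.mk' A a) = ConjClasses.mk (QuotientGroup.mk' A 1)
    rw [map_one, QuotientGroup.mk'_apply, (QuotientGroup.eq_one_iff _).2 a.2]
  refine ⟨S.card, ?_, ?_, ?_⟩
  · have hT : Fintype.card (ConjClasses (G ⧸ A)) ≤ T.card := by
      rw [← Finset.card_univ]
      refine Finset.card_le_card_of_surjOn π fun d _ => ?_
      obtain ⟨c, rfl⟩ := hs d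
      by_cases h : c ∈ S
      · refine ⟨ConjClasses.mk 1, Finset.mem_coe.2 (Finset.mem_filter.2 ⟨Finset.mem_univ _,
          fun h1 => (Finset.mem_filter.1 h1).2.1 rfl⟩), (Finset.mem_filter.1 h).2.2.symm⟩
      · exact ⟨c, Finset.mem_coe.2 (Finset.mem_filter.2 ⟨Finset.mem_univ _, h⟩), rfl⟩
    have hTS : S.card + T.card = Fintype.card (ConjClasses G) := by
      rw [← Finset.card_univ, ← Finset.card_filter_add_card_filter_not (s := Finset.univ) (· ∈ S)]
      congr 1
      congr 1
      ext c; simp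
    simp only [Nat.card_eq_fintype_card]
    omega
  · let U : Finset A := Finset.univ.filter fun a : A => (a : G) ≠ 1
    have hU : Fintype.card A = U.card + 1 := by
      have h1 : U = Finset.univ.erase 1 := by ext a; simp [U]
      rw [h1, Finset.card_erase_of_mem (Finset.mem_univ _), Finset.card_univ]
      have := Fintype.card_pos (α := A)
      omega
    rw [Nat.card_eq_fintype_card, hU, Nat.add_le_add_iff_right, mul_comm]
    refine Finset.card_le_mul_card_image_of_maps_to (f := fun a : A => ConjClasses.mk (a : G))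
      (fun a ha => hmem a (Finset.mem_filter.1 ha).2) _ fun c _ => ?_
    by_cases he : ∃ a₀ : A, a₀ ∈ U ∧ ConjClasses.mk (a₀ : G) = c
    · obtain ⟨a₀, -, ha₀⟩ := he
      haveI := Fintype.ofFinite (G ⧸ A)
      let f : G ⧸ A → A := fun q => ⟨q.out * a₀ * q.out⁻¹, ‹A.Normal›.conj_mem _ a₀.2 _⟩
      calc (U.filter fun a : A => ConjClasses.mk (a : G) = c).card
          ≤ (Finset.univ.image f).card := ?_
        _ ≤ Fintype.card (G ⧸ A) := Finset.card_image_le.trans (le_of_eq Finset.card_univ)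
        _ = A.index := by rw [← Nat.card_eq_fintype_card, ← Subgroup.index_eq_card]
      refine Finset.card_le_card fun a ha => ?_
      obtain ⟨g, hg⟩ := isConj_iff.1 (ConjClasses.mk_eq_mk_iff_isConj.1
        (ha₀.trans (Finset.mem_filter.1 ha).2.symm))
      refine Finset.mem_image.2 ⟨(g : G ⧸ A), Finset.mem_univ _, Subtype.ext ?_⟩
      obtain ⟨b, hb⟩ := QuotientGroup.mk_out_eq_mul A g
      show (g : G ⧸ A).out * a₀ * (g : G ⧸ A).out⁻¹ = a
      rw [hb, mul_inv_rev, ← hg]
      calc g * b * a₀ * ((b : G)⁻¹ * g⁻¹) = g * ((b : G) * a₀) * (b : G)⁻¹ * g⁻¹ := by group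
        _ = g * (a₀ * b) * (b : G)⁻¹ * g⁻¹ := by rw [hA _ b.2 _ a₀.2]
        _ = _ := by group
    · rw [Finset.card_eq_zero.2 (Finset.filter_eq_empty_iff.2 fun a ha h => he ⟨a, ha, h⟩)]
      exact Nat.zero_le _
  · intro hne
    obtain ⟨x, hx, hx1⟩ := A.bot_or_exists_ne_one.resolve_left hne
    exact Finset.card_pos.2 ⟨_, hmem ⟨x, hx⟩ hx1⟩

/-- The constants `c` of a subgroup `A` with `g * c` conjugate to `g`. -/
def commSet {G : Type*} [Group G] (A : Subgroup G) (g : G) : Set G :=
  {c | c ∈ A ∧ ∃ h : G, h * g * h⁻¹ = g * c}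

/-- Classes over each class modulo a central subgroup. -/
theorem central_fibre {G : Type*} [Group G] [Finite G] (A : Subgroup G) [A.Normal]
    (hcen : A ≤ Subgroup.center G) {d : ℕ} (q : ConjClasses (G ⧸ A))
    (hd : ∀ g : G, ConjClasses.mk (g : G ⧸ A) = q → (commSet A g).ncard ≤ d) :
    Nat.card A ≤ d * Nat.card {c : ConjClasses G // ConjClasses.map (QuotientGroup.mk' A) c = q} := by
  classical
  obtain ⟨gq, rfl⟩ := ConjClasses.mk_surjective q
  obtain ⟨g, rfl⟩ := QuotientGroup.mk_surjective gq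
  let f : A → {c : ConjClasses G // ConjClasses.map (QuotientGroup.mk' A) c
      = ConjClasses.mk (g : G ⧸ A)} := fun a => ⟨ConjClasses.mk (g * a), by
    show ConjClasses.mk (QuotientGroup.mk' A (g * a)) = _
    rw [map_mul, QuotientGroup.mk'_apply, QuotientGroup.mk'_apply,
      (QuotientGroup.eq_one_iff (a : G)).2 a.2, mul_one]⟩
  rw [mul_comm]
  refine card_le_mul_of_fibre f d fun b => ?_
  rcases isEmpty_or_nonempty {a // f a = b} with he | ⟨⟨a₀, ha₀⟩⟩
  · simp
  refine le_trans ?_ (hd g rfl)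
  rw [← Nat.card_coe_set_eq]
  have hmem : ∀ a : {a // f a = b}, ((a₀ : G)⁻¹ * (a.1 : G)) ∈ commSet A g := by
    rintro ⟨a, ha⟩
    refine ⟨mul_mem (inv_mem a₀.2) a.2, ?_⟩
    have h1 : ConjClasses.mk (g * (a₀ : G)) = ConjClasses.mk (g * (a : G)) :=
      congrArg Subtype.val (ha₀.trans ha.symm)
    obtain ⟨h, hh⟩ := isConj_iff.1 (ConjClasses.mk_eq_mk_iff_isConj.1 h1)
    refine ⟨h, ?_⟩
    have hc := Subgroup.mem_center_iff.1 (hcen a₀.2) h⁻¹
    calc h * g * h⁻¹ = h * (g * a₀) * ((a₀ : G)⁻¹ * h⁻¹) := by group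
      _ = h * (g * a₀) * (h⁻¹ * (a₀ : G)⁻¹) := by
          rw [Subgroup.mem_center_iff.1 (hcen (inv_mem a₀.2)) h⁻¹]
      _ = h * (g * a₀) * h⁻¹ * (a₀ : G)⁻¹ := by group
      _ = g * (a : G) * (a₀ : G)⁻¹ := by rw [hh]
      _ = g * ((a : G) * (a₀ : G)⁻¹) := by group
      _ = _ := by rw [Subgroup.mem_center_iff.1 (hcen (inv_mem a₀.2)) (a : G)]
  refine Nat.card_le_card_of_injective (fun a => (⟨_, hmem a⟩ : commSet A g)) fun x y h => ?_
  exact Subtype.ext (Subtype.ext (mul_left_cancel (congrArg Subtype.val h)))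

/-- Summing the fibres. -/
theorem k_eq_sum_fibres {G : Type*} [Group G] [Finite G] (A : Subgroup G) [A.Normal]
    [Fintype (ConjClasses (G ⧸ A))] :
    Nat.card (ConjClasses G) = ∑ q : ConjClasses (G ⧸ A),
      Nat.card {c : ConjClasses G // ConjClasses.map (QuotientGroup.mk' A) c = q} := by
  rw [← Nat.card_sigma]
  exact (Nat.card_congr (Equiv.sigmaFiberEquiv _)).symm

theorem commSet_one {G : Type*} [Group G] (A : Subgroup G) (g : G) (hg : g ∈ A)
    (hcen : A ≤ Subgroup.center G) : commSet A g = {1} := by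
  ext c
  constructor
  · rintro ⟨-, h, hh⟩
    rw [Subgroup.mem_center_iff.1 (hcen hg) h, mul_inv_cancel_right] at hh
    exact left_eq_mul.1 hh
  · rintro rfl
    exact ⟨one_mem A, 1, by group⟩

/-- With at most `d` commutators in a central subgroup `A`, many classes. -/
theorem k_central {G : Type*} [Group G] [Finite G] (A : Subgroup G) [A.Normal]
    (hcen : A ≤ Subgroup.center G) {d : ℕ} (hd : ∀ g : G, (commSet A g).ncard ≤ d) :
    Nat.card A * (d + Nat.card (ConjClasses (G ⧸ A)) - 1) ≤ d * Nat.card (ConjClasses G) := by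
  classical
  haveI := Fintype.ofFinite (ConjClasses (G ⧸ A))
  set o : ConjClasses (G ⧸ A) := ConjClasses.mk 1
  have h1 : Nat.card A ≤ 1 * Nat.card {c : ConjClasses G //
      ConjClasses.map (QuotientGroup.mk' A) c = o} := central_fibre A hcen o fun g hg => by
    rw [commSet_one A g ((QuotientGroup.eq_one_iff g).1
      (isConj_one_left.1 (ConjClasses.mk_eq_mk_iff_isConj.1 hg))) hcen, Set.ncard_singleton]
  rw [k_eq_sum_fibres A, ← Finset.add_sum_erase _ _ (Finset.mem_univ o), mul_add, Finset.mul_sum]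
  have h2 : (Finset.univ.erase o).card • Nat.card A ≤ ∑ q ∈ Finset.univ.erase o,
      d * Nat.card {c : ConjClasses G // ConjClasses.map (QuotientGroup.mk' A) c = q} :=
    Finset.card_nsmul_le_sum _ _ _ fun q _ => central_fibre A hcen q fun g _ => hd g
  rw [smul_eq_mul, Finset.card_erase_of_mem (Finset.mem_univ o), Finset.card_univ,
    ← Nat.card_eq_fintype_card] at h2
  have h3 : Nat.card A * d ≤ d * Nat.card {c : ConjClasses G //
      ConjClasses.map (QuotientGroup.mk' A) c = o} := by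
    rw [mul_comm]; exact Nat.mul_le_mul_left d (by simpa using h1)
  have hk : 1 ≤ Nat.card (ConjClasses (G ⧸ A)) := Nat.card_pos
  refine le_trans (le_of_eq ?_) (Nat.add_le_add h3 h2)
  rw [Nat.add_sub_assoc hk, mul_add, mul_comm (Nat.card (ConjClasses (G ⧸ A)) - 1)]

/-- A central subgroup gives as many classes as elements. -/
theorem card_central_le_k {G : Type*} [Group G] [Finite G] (A : Subgroup G)
    (hcen : A ≤ Subgroup.center G) : Nat.card A ≤ Nat.card (ConjClasses G) := by
  refine Nat.card_le_card_of_injective (fun a : A => ConjClasses.mk (a : G)) fun a b h => ?_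
  obtain ⟨c, hc⟩ := isConj_iff.1 (ConjClasses.mk_eq_mk_iff_isConj.1 h)
  rw [Subgroup.mem_center_iff.1 (hcen a.2) c, mul_inv_cancel_right] at hc
  exact Subtype.ext hc

end Cfsg.Agent.KGBound86
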