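import Mathlib

/-!
A solvable permutation group of degree `m` has order at most `3 ^ (m - 1)`.
-/

set_option autoImplicit false

namespace Cfsg.Agent.KGBound86

open MulAction

theorem two_mul_sq_le : ∀ L : ℕ, 5 ≤ L → 2 * (L + 1) ^ 2 + 3 ≤ 3 * 2 ^ L := by
  intro L hL
  induction L, hL using Nat.le_induction with
  | base => norm_num
  | succ n hn ih =>
    have : 2 * (n + 1 + 1) ^ 2 ≤ 2 * (2 * (n + 1) ^ 2) := by nlinarith
    rw [pow_succ 2 n]
    nlinarith

theorem desc_le {m a : ℕ} (ha : 2 ^ a ≤ m) : m.descFactorial (a + 1) ≤ 3 ^ (m - 1) := by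
  by_cases hm : m < 32
  · have h : ∀ m < 32, ∀ a < 5, 2 ^ a ≤ m → m.descFactorial (a + 1) ≤ 3 ^ (m - 1) := by
      decide +kernel
    refine h m hm a ?_ ha
    by_contra h5
    have : 2 ^ 5 ≤ 2 ^ a := Nat.pow_le_pow_right (by norm_num) (by omega)
    omega
  push Not at hm
  set L := Nat.log 2 m with hL
  have hL5 : 5 ≤ L := Nat.le_log_of_pow_le (by norm_num) (by omega)
  have haL : a ≤ L := Nat.le_log_of_pow_le (by norm_num) ha
  have h1 : 2 ^ L ≤ m := Nat.pow_log_le_self 2 (by omega)
  have h2 : m ≤ 2 ^ (L + 1) := (Nat.lt_pow_succ_log_self (by norm_num) m).le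
  refine (Nat.descFactorial_le_pow m (a + 1)).trans ?_
  rw [← Nat.pow_le_pow_iff_left (n := 2) (by norm_num)]
  calc (m ^ (a + 1)) ^ 2 ≤ ((2 ^ (L + 1)) ^ (L + 1)) ^ 2 := by
        refine Nat.pow_le_pow_left ((Nat.pow_le_pow_left h2 _).trans ?_) _
        exact Nat.pow_le_pow_right (Nat.two_pow_pos _) (by omega)
    _ = 2 ^ (2 * (L + 1) ^ 2) := by rw [← pow_mul, ← pow_mul]; congr 1; ring
    _ ≤ 2 ^ (3 * (m - 1)) := Nat.pow_le_pow_right (by norm_num) (by
        have := two_mul_sq_le L hL5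
        omega)
    _ = (2 ^ 3) ^ (m - 1) := by rw [pow_mul]
    _ ≤ (3 ^ 2) ^ (m - 1) := Nat.pow_le_pow_left (by norm_num) _
    _ = _ := by rw [← pow_mul, ← pow_mul, mul_comm]

/-- A generating sequence without repetitions. -/
theorem exists_gens {N : Type*} [Group N] [Finite N] :
    ∃ (a : ℕ) (v : Fin a → N), 2 ^ a ≤ Nat.card N ∧ Function.Injective v ∧ (∀ i, v i ≠ 1) ∧
      Subgroup.closure (Set.range v) = ⊤ := by
  classical
  have key : ∀ j : ℕ, ∃ (a : ℕ) (v : Fin a → N), 2 ^ a ≤ Nat.card (Subgroup.closure (Set.range v)) ∧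
      Function.Injective v ∧ (∀ i, v i ≠ 1) ∧ (j ≤ a ∨ Subgroup.closure (Set.range v) = ⊤) := by
    intro j
    induction j with
    | zero => exact ⟨0, Fin.elim0, by simpa using Nat.card_pos (α := Subgroup.closure _),
        fun i => i.elim0, fun i => i.elim0, Or.inl le_rfl⟩
    | succ j ih =>
      obtain ⟨a, v, hc, hinj, hne, h⟩ := ih
      by_cases htop : Subgroup.closure (Set.range v) = ⊤
      · exact ⟨a, v, hc, hinj, hne, Or.inr htop⟩
      obtain ⟨x, -, hx⟩ := SetLike.exists_of_lt (lt_top_iff_ne_top.2 htop)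
      refine ⟨a + 1, Fin.snoc v x, ?_, ?_, ?_, Or.inl (by have := h.resolve_right htop; omega)⟩
      · set K := Subgroup.closure (Set.range v)
        set K' := Subgroup.closure (Set.range (Fin.snoc v x : Fin (a + 1) → N))
        have hle : K ≤ K' := Subgroup.closure_mono (by
          rintro _ ⟨i, rfl⟩; exact ⟨i.castSucc, Fin.snoc_castSucc _ _ _⟩)
        have hlt : K < K' := lt_of_le_of_ne hle fun e => hx (e ▸ Subgroup.subset_closure
          ⟨Fin.last a, Fin.snoc_last _ _⟩)
        obtain ⟨c, hc'⟩ := Subgroup.card_dvd_of_le hle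
        have hc2 : 2 ≤ c := by
          rcases c with _ | _ | c
          · simp [Nat.card_pos.ne'] at hc'
          · exact absurd (Subgroup.eq_of_le_of_card_ge hle (by simp [hc'])) hlt.ne
          · omega
        rw [pow_succ, hc']
        exact Nat.mul_le_mul hc hc2
      · rw [Fin.snoc_injective_iff]
        exact ⟨hinj, fun hr => hx (Subgroup.subset_closure hr)⟩
      · intro i
        induction i using Fin.lastCases with
        | last => rw [Fin.snoc_last]; exact fun e => hx (e ▸ one_mem _)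
        | cast i => rw [Fin.snoc_castSucc]; exact hne i
  obtain ⟨a, v, hc, hinj, hne, h⟩ := key (Nat.card N)
  refine ⟨a, v, hc.trans (Subgroup.card_le_card_group _), hinj, hne, h.resolve_left fun hle => ?_⟩
  have h1 := hc.trans (Subgroup.card_le_card_group _)
  have h2 := Nat.lt_two_pow_self (n := Nat.card N)
  have h3 : 2 ^ Nat.card N ≤ 2 ^ a := Nat.pow_le_pow_right (by norm_num) hle
  omega

universe u

/-- The bound at a given degree. -/
def PermBound (m : ℕ) : Prop :=
  ∀ (G : Type u) (Ω : Type u) [Group G] [Finite G] [Group.IsSolvable G] [Finite Ω] [MulAction G Ω]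
    [FaithfulSMul G Ω], Nat.card Ω = m → Nat.card G ≤ 3 ^ (m - 1)

/-- An invariant partition with smaller parts. -/
theorem of_blocks {m : ℕ} (IH : ∀ n < m, PermBound.{u} n) {G : Type u} {Ω : Type u} [Group G]
    [Finite G] [Group.IsSolvable G] [Finite Ω] [MulAction G Ω] [FaithfulSMul G Ω]
    (hm : Nat.card Ω = m) {Q : Type u} [Finite Q] [MulAction G Q] (φ : Ω → Q)
    (hφ : ∀ (g : G) x, φ (g • x) = g • φ x) (hsurj : Function.Surjective φ)
    (hQ : 1 < Nat.card Q) (hQm : Nat.card Q < m) : Nat.card G ≤ 3 ^ (m - 1) := by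
  classical
  haveI := Fintype.ofFinite Q
  let f : G →* Equiv.Perm Q := MulAction.toPermHom G Q
  haveI : Group.IsSolvable f.range := Group.isSolvable_of_surjective f.rangeRestrict_surjective
  have h1 : Nat.card f.range ≤ 3 ^ (Nat.card Q - 1) := IH _ hQm f.range Q rfl
  let F : Q → Type u := fun q => {x : Ω // φ x = q}
  have hker : ∀ (g : f.ker) (q : Q) (x : F q), φ ((g : G) • x.1) = q := fun g q x => by
    rw [hφ, x.2]; exact Equiv.ext_iff.1 g.2 q
  letI : ∀ q, MulAction f.ker (F q) := fun q =>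
    { smul := fun g x => ⟨(g : G) • x.1, hker g q x⟩
      one_smul := fun x => Subtype.ext (one_smul G x.1)
      mul_smul := fun g h x => Subtype.ext (mul_smul (g : G) h x.1) }
  let g : ∀ q, f.ker →* Equiv.Perm (F q) := fun q => MulAction.toPermHom f.ker (F q)
  have hcardsum : ∑ q, Nat.card (F q) = m := by
    rw [← Nat.card_sigma, Nat.card_congr (Equiv.sigmaFiberEquiv φ), hm]
  have hpos : ∀ q, 1 ≤ Nat.card (F q) := fun q => by
    obtain ⟨x, hx⟩ := hsurj q
    haveI : Nonempty (F q) := ⟨⟨x, hx⟩⟩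
    exact Nat.card_pos
  have h2 : ∀ q, Nat.card (g q).range ≤ 3 ^ (Nat.card (F q) - 1) := fun q => by
    haveI : Group.IsSolvable (g q).range :=
      Group.isSolvable_of_surjective (g q).rangeRestrict_surjective
    refine IH _ ?_ _ (F q) rfl
    obtain ⟨q', hq'⟩ : ∃ q', q' ≠ q := by
      by_contra hall
      push Not at hall
      have : Subsingleton Q := ⟨fun a b => by rw [hall a, hall b]⟩
      have := (Finite.card_le_one_iff_subsingleton (α := Q)).2 this
      omega
    rw [← hcardsum, ← Finset.add_sum_erase _ _ (Finset.mem_univ q)]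
    have := Finset.single_le_sum (f := fun q => Nat.card (F q)) (fun i _ => Nat.zero_le _)
      (Finset.mem_erase.2 ⟨hq', Finset.mem_univ q'⟩)
    have := hpos q'
    omega
  have hinj : Function.Injective fun (x : f.ker) => fun q => (g q).rangeRestrict x := by
    intro x y h
    refine Subtype.ext (eq_of_smul_eq_smul (α := Ω) fun w => ?_)
    have h' := congrArg Subtype.val (congrFun h (φ w))
    exact congrArg Subtype.val (Equiv.ext_iff.1 h' ⟨w, rfl⟩)
  have h3 : Nat.card f.ker ≤ 3 ^ (m - Nat.card Q) := by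
    refine (Nat.card_le_card_of_injective _ hinj).trans ?_
    rw [Nat.card_pi]
    refine (Finset.prod_le_prod' fun q _ => h2 q).trans ?_
    rw [Finset.prod_pow_eq_pow_sum]
    refine Nat.pow_le_pow_right (by norm_num) (le_of_eq ?_)
    rw [Finset.sum_tsub_distrib _ fun q _ => hpos q, hcardsum, Finset.sum_const, Finset.card_univ,
      smul_eq_mul, mul_one, Nat.card_eq_fintype_card]
  rw [← f.ker.card_mul_index, Subgroup.index_ker]
  calc Nat.card f.ker * Nat.card f.range ≤ 3 ^ (m - Nat.card Q) * 3 ^ (Nat.card Q - 1) :=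
        Nat.mul_le_mul h3 h1
    _ = _ := by rw [← pow_add]; congr 1; omega

theorem exists_abelian_normal (G : Type*) [Group G] [Group.IsSolvable G] [Nontrivial G] :
    ∃ N : Subgroup G, N.Normal ∧ N ≠ ⊥ ∧ ∀ a ∈ N, ∀ b ∈ N, a * b = b * a := by
  classical
  obtain ⟨d, hd⟩ := (Group.isSolvable_def G).1 inferInstance
  have hex : ∃ d, derivedSeries G d = ⊥ := ⟨d, hd⟩
  have h0 : Nat.find hex ≠ 0 := fun h => by
    have := Nat.find_spec hex
    rw [h, derivedSeries_zero] at this
    exact top_ne_bot this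
  obtain ⟨e, he⟩ := Nat.exists_eq_succ_of_ne_zero h0
  refine ⟨derivedSeries G e, derivedSeries_normal G e, Nat.find_min hex (by omega),
    fun a ha b hb => ?_⟩
  have h1 := Nat.find_spec hex
  rw [he, derivedSeries_succ] at h1
  have h2 := Subgroup.commutator_mem_commutator ha hb
  rw [h1, Subgroup.mem_bot] at h2
  exact commutatorElement_eq_one_iff_mul_comm.1 h2

theorem permBound : ∀ m, PermBound.{u} m := by
  intro m
  induction m using Nat.strong_induction_on with
  | _ m IH =>
  intro G Ω _ _ _ _ _ _ hm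
  classical
  by_cases hG : Subsingleton G
  · rw [Nat.card_of_subsingleton (1 : G)]
    exact Nat.one_le_pow _ _ (by norm_num)
  haveI : Nontrivial G := not_subsingleton_iff_nontrivial.1 hG
  obtain ⟨o⟩ : Nonempty Ω := by
    by_contra he
    exact hG ⟨fun a b => eq_of_smul_eq_smul (α := Ω) fun x => absurd ⟨x⟩ he⟩
  have htwo : 2 ≤ m := by
    by_contra h
    have : Subsingleton Ω := Finite.card_le_one_iff_subsingleton.1 (by omega)
    exact hG ⟨fun a b => eq_of_smul_eq_smul (α := Ω) fun x => Subsingleton.elim _ _⟩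
  by_cases htr : ∀ x : Ω, ∃ g : G, g • o = x
  swap
  · -- intransitive
    push Not at htr
    obtain ⟨x₀, hx₀⟩ := htr
    letI : MulAction G (ULift.{u} Bool) :=
      { smul := fun _ b => b, one_smul := fun _ => rfl, mul_smul := fun _ _ _ => rfl }
    let φ : Ω → ULift.{u} Bool := fun x => ⟨decide (∃ g : G, g • o = x)⟩
    have hφ : ∀ (g : G) x, φ (g • x) = g • φ x := fun g x => by
      show ULift.up (decide (∃ h : G, h • o = g • x)) = ULift.up (decide (∃ h : G, h • o = x))
      congr 1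
      refine decide_eq_decide.2 ⟨fun ⟨h, hh⟩ => ⟨g⁻¹ * h, ?_⟩, fun ⟨h, hh⟩ => ⟨g * h, ?_⟩⟩
      · rw [mul_smul, hh, inv_smul_smul]
      · rw [mul_smul, hh]
    have hsurj : Function.Surjective φ := by
      rintro ⟨b⟩
      cases b
      · exact ⟨x₀, congrArg ULift.up (decide_eq_false fun ⟨g, hg⟩ => hx₀ g hg)⟩
      · exact ⟨o, congrArg ULift.up (decide_eq_true ⟨1, one_smul G o⟩)⟩
    rcases Nat.lt_or_ge 2 m with h3 | h3
    · exact of_blocks IH hm φ hφ hsurj (by simp) (by simpa using h3)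
    · -- two fixed points
      exfalso
      obtain rfl : m = 2 := le_antisymm h3 htwo
      have hbij : Function.Bijective φ :=
        (Nat.bijective_iff_surjective_and_card φ).2 ⟨hsurj, by simp [hm]⟩
      exact hG ⟨fun a b => eq_of_smul_eq_smul (α := Ω) fun x => hbij.1 ((hφ a x).trans (hφ b x).symm)⟩
  set S := stabilizer G o with hS
  have hStop : S ≠ ⊤ := fun h => by
    have : Subsingleton Ω := ⟨fun x y => by
      obtain ⟨g, rfl⟩ := htr x
      obtain ⟨g', rfl⟩ := htr y
      rw [show g • o = o from mem_stabilizer_iff.1 (h ▸ Subgroup.mem_top g : g ∈ S),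
        show g' • o = o from mem_stabilizer_iff.1 (h ▸ Subgroup.mem_top g' : g' ∈ S)]⟩
    have := (Finite.card_le_one_iff_subsingleton (α := Ω)).2 this
    omega
  obtain ⟨M, hM, hSM⟩ := (eq_top_or_exists_le_coatom S).resolve_left hStop
  by_cases hMS : S < M
  · -- imprimitive
    choose t ht using htr
    let φ₀ : Ω → G ⧸ M := fun x => (t x : G ⧸ M)
    have hφ₀ : ∀ (g : G) x, φ₀ (g • x) = g • φ₀ x := fun g x => by
      show (t (g • x) : G ⧸ M) = ((g * t x : G) : G ⧸ M)
      refine QuotientGroup.eq.2 (hSM (mem_stabilizer_iff.2 ?_))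
      rw [mul_smul, mul_smul, ht, inv_smul_eq_iff, ht]
    have hindex : S.index = m := by
      haveI : IsPretransitive G Ω := ⟨fun x y => ⟨t y * (t x)⁻¹, by
        rw [mul_smul, inv_smul_eq_iff.2 (ht x).symm, ht]⟩⟩
      rw [hS, MulAction.index_stabilizer_of_transitive, hm]
    have hMi : 1 < Nat.card (G ⧸ M) ∧ Nat.card (G ⧸ M) < m := by
      rw [← Subgroup.index_eq_card]
      refine ⟨?_, ?_⟩
      · have h1 := Subgroup.index_ne_zero_of_finite (H := M)
        have h2 : M.index ≠ 1 := fun h => hM.1 (Subgroup.index_eq_one.1 h)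
        omega
      · rw [← hindex]
        have := Subgroup.index_strictAnti hMS
        exact this
    refine of_blocks IH hm φ₀ hφ₀ ?_ hMi.1 hMi.2
    intro q
    obtain ⟨g, rfl⟩ := QuotientGroup.mk_surjective q
    refine ⟨g • o, QuotientGroup.eq.2 (hSM (mem_stabilizer_iff.2 ?_))⟩
    rw [mul_smul, inv_smul_eq_iff.2]
    exact (ht (g • o)).symm
  -- primitive
  have hMeq : S = M := eq_of_le_of_not_lt hSM hMS
  obtain ⟨N, hNn, hN1, hNab⟩ := exists_abelian_normal G
  haveI := hNn
  have hNS : ¬ N ≤ S := fun h => hN1 ((Subgroup.eq_bot_iff_forall N).2 fun n hn =>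
    eq_of_smul_eq_smul (α := Ω) fun x => by
      obtain ⟨g, rfl⟩ := htr x
      have := mem_stabilizer_iff.1 (h (hNn.conj_mem n hn g⁻¹))
      rw [inv_inv, mul_smul, mul_smul, inv_smul_eq_iff] at this
      rw [this, one_smul])
  have hNtop : N ⊔ S = ⊤ := hM.2 _ (by rw [← hMeq]; exact right_lt_sup.2 hNS)
  have hNtr : ∀ x : Ω, ∃ n : N, (n : G) • o = x := fun x => by
    obtain ⟨g, rfl⟩ := htr x
    obtain ⟨n, hn, s, hs, rfl⟩ :=
      Subgroup.mem_sup_of_normal_left.1 (hNtop ▸ Subgroup.mem_top g : g ∈ N ⊔ S)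
    exact ⟨⟨n, hn⟩, by rw [mul_smul, mem_stabilizer_iff.1 hs]⟩
  have hreg : ∀ n ∈ N, ∀ n' ∈ N, n • o = n' • o → n = n' := fun n hn n' hn' h =>
    eq_of_smul_eq_smul (α := Ω) fun x => by
      obtain ⟨y, rfl⟩ := hNtr x
      rw [← mul_smul, ← mul_smul, hNab n hn _ y.2, hNab n' hn' _ y.2, mul_smul, mul_smul, h]
  have hNm : Nat.card N = m := by
    rw [← hm]
    exact Nat.card_congr (Equiv.ofBijective (fun n : N => (n : G) • o)
      ⟨fun a b h => Subtype.ext (hreg _ a.2 _ b.2 h), hNtr⟩)
  obtain ⟨a, v, hva, hvinj, hv1, hvtop⟩ := exists_gens (N := N)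
  let pts : Fin (a + 1) ↪ Ω :=
    ⟨Fin.cons o (fun i => (v i : G) • o), Fin.cons_injective_iff.2 ⟨fun ⟨i, hi⟩ =>
      hv1 i (Subtype.ext (hreg _ (v i).2 1 (one_mem N) (by rw [one_smul]; exact hi))),
      fun i j h => hvinj (Subtype.ext (hreg _ (v i).2 _ (v j).2 h))⟩⟩
  let F : G → (Fin (a + 1) ↪ Ω) := fun g => pts.trans (MulAction.toPerm g).toEmbedding
  have hF : Function.Injective F := by
    intro g g' h
    have hh : ∀ i, g • pts i = g' • pts i := fun i => DFunLike.congr_fun h i
    set c := g'⁻¹ * g with hc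
    have hfix : ∀ i, c • pts i = pts i := fun i => by
      rw [hc, mul_smul, hh, inv_smul_smul]
    have hco : c • o = o := hfix 0
    have hcv : ∀ i, (v i : G) * c = c * v i := fun i => by
      have h1 : c • (v i : G) • o = (v i : G) • o := by simpa [pts] using hfix i.succ
      have h2 : (c * v i * c⁻¹) • o = (v i : G) • o := by
        rw [mul_smul, mul_smul, show c⁻¹ • o = o from inv_smul_eq_iff.2 hco.symm, h1]
      have h3 := hreg _ (hNn.conj_mem _ (v i).2 c) _ (v i).2 h2
      exact (mul_inv_eq_iff_eq_mul.1 h3).symm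
    have hall : ∀ n : N, (n : G) * c = c * n := by
      intro n
      have hn : n ∈ Subgroup.closure (Set.range v) := hvtop ▸ Subgroup.mem_top n
      induction hn using Subgroup.closure_induction with
      | mem x hx => obtain ⟨i, rfl⟩ := hx; exact hcv i
      | one => simp
      | mul x y _ _ hx hy => rw [Subgroup.coe_mul, mul_assoc, hy, ← mul_assoc, hx, mul_assoc]
      | inv x _ hx =>
        rw [Subgroup.coe_inv, inv_mul_eq_iff_eq_mul, ← mul_assoc, hx, mul_inv_cancel_right]
    have hc1 : c = 1 := eq_of_smul_eq_smul (α := Ω) fun x => by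
      obtain ⟨n, rfl⟩ := hNtr x
      rw [one_smul, ← mul_smul, ← hall n, mul_smul, hco]
    rw [hc, inv_mul_eq_one] at hc1
    exact hc1.symm
  have h1 := Nat.card_le_card_of_injective F hF
  haveI := Fintype.ofFinite Ω
  rw [Nat.card_eq_fintype_card (α := Fin (a + 1) ↪ Ω), Fintype.card_embedding_eq, Fintype.card_fin,
    ← Nat.card_eq_fintype_card, hm] at h1
  exact h1.trans (desc_le (hNm ▸ hva))

/-- A solvable permutation group of degree `m` has order at most `3 ^ (m - 1)`. -/
theorem card_solvable_perm_le {G : Type u} {Ω : Type u} [Group G] [Finite G] [Group.IsSolvable G]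
    [Finite Ω] [MulAction G Ω] [FaithfulSMul G Ω] : Nat.card G ≤ 3 ^ (Nat.card Ω - 1) :=
  permBound _ G Ω rfl

end Cfsg.Agent.KGBound86
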