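/-
Distinguishing subsets for solvable permutation groups of odd order, by induction along blocks; the
primitive case uses a base of size two of the point stabiliser on the regular normal subgroup.
-/
import Mathlib

set_option autoImplicit false

namespace Cfsg.Agent.OddBase75

open MulAction

universe v

/-- Complete reducibility of an action by additive automorphisms. -/
def CR (G V : Type*) [Group G] [AddCommGroup V] [DistribMulAction G V] : Prop :=
  ∀ U : AddSubgroup V, (∀ g : G, ∀ x ∈ U, g • x ∈ U) →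
    ∃ W : AddSubgroup V, (∀ g : G, ∀ x ∈ W, g • x ∈ W) ∧ U ⊓ W = ⊥ ∧ U ⊔ W = ⊤

/-- Two vectors whose common stabiliser acts trivially. -/
def BaseTwo (G V : Type*) [Group G] [AddCommGroup V] [DistribMulAction G V] : Prop :=
  ∃ a b : V, ∀ g : G, g • a = a → g • b = b → ∀ x : V, g • x = x

/-- The induction hypothesis below order `n`. -/
def Small (n : ℕ) : Prop :=
  ∀ (W : Type v) [AddCommGroup W] [Finite W], Nat.card W < n →
    ∀ (H : Type v) [Group H] [Finite H] [Group.IsSolvable H] [DistribMulAction H W],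
      Odd (Nat.card H) → CR H W → BaseTwo H W

theorem smul_eq_of_sq {G X : Type*} [Group G] [MulAction G X] (hodd : Odd (Nat.card G)) {g : G}
    {x : X} (h : g • g • x = x) : g • x = x := by
  obtain ⟨k, hk⟩ := hodd
  have hg : g = (g ^ 2) ^ (k + 1) := by
    rw [← pow_mul, show 2 * (k + 1) = (2 * k + 1) + 1 by ring, pow_succ, ← hk, pow_card_eq_one',
      one_mul]
  have hfix : g ^ 2 ∈ stabilizer G x := by rw [mem_stabilizer_iff, pow_two, mul_smul, h]
  rw [hg]
  exact pow_mem hfix (k + 1)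

theorem odd_card_of_dvd {m n : ℕ} (h : m ∣ n) (hn : Odd n) : Odd m := Odd.of_dvd_nat hn h

theorem eq_one_of_sq_eq_one {G : Type*} [Group G] (hodd : Odd (Nat.card G)) {g : G}
    (h : g * g = 1) : g = 1 := by
  have h1 : g • (1 : G) = 1 := smul_eq_of_sq hodd (by simpa [smul_eq_mul] using h)
  simpa using h1

/-- A regular abelian normal subgroup gives a distinguishing set. -/
theorem exists_set_primitive {n : ℕ} (hs : Small.{v} n) {G Ω : Type v} [Group G] [Finite G]
    [Group.IsSolvable G] [Finite Ω] [MulAction G Ω] [FaithfulSMul G Ω] (hodd : Odd (Nat.card G))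
    (hΩ : Nat.card Ω < n) (htr : ∀ a b : Ω, ∃ g : G, g • a = b) (o : Ω)
    (hmax : ∀ M : Subgroup G, stabilizer G o ≤ M → M = stabilizer G o ∨ M = ⊤) :
    ∃ S : Set Ω, ∀ g : G, (∀ i : Ω, g • i ∈ S ↔ i ∈ S) → ∀ i : Ω, g • i = i := by
  classical
  by_cases hG : ∀ g : G, g = 1
  · exact ⟨∅, fun g _ i => by rw [hG g, one_smul]⟩
  push Not at hG
  -- an abelian normal subgroup
  obtain ⟨N, hNn, hN1, hNab⟩ : ∃ N : Subgroup G, N.Normal ∧ N ≠ ⊥ ∧ ∀ a ∈ N, ∀ b ∈ N, a * b = b * a := by
    obtain ⟨d, hd⟩ := (Group.isSolvable_def G).1 inferInstance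
    have hex : ∃ d, derivedSeries G d = ⊥ := ⟨d, hd⟩
    obtain ⟨g, hg⟩ := hG
    have h0 : Nat.find hex ≠ 0 := fun h => by
      have := Nat.find_spec hex
      rw [h, derivedSeries_zero] at this
      exact hg (by simpa [this] using Subgroup.mem_top g)
    obtain ⟨m, hm⟩ := Nat.exists_eq_succ_of_ne_zero h0
    refine ⟨derivedSeries G m, derivedSeries_normal G m, Nat.find_min hex (by omega), ?_⟩
    intro a ha b hb
    have := Nat.find_spec hex
    rw [hm, derivedSeries_succ, Subgroup.commutator_eq_bot_iff_le_centralizer] at this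
    exact (Subgroup.mem_centralizer_iff.1 (this ha) b hb).symm
  haveI := hNn
  have hnfix : ∀ U : Subgroup G, U.Normal → U ≤ stabilizer G o → U = ⊥ := by
    intro U hU hle
    refine (Subgroup.eq_bot_iff_forall U).2 fun u hu => ?_
    refine eq_of_smul_eq_smul (α := Ω) fun i => ?_
    obtain ⟨g, rfl⟩ := htr o i
    have h1 : g⁻¹ * u * g ∈ stabilizer G o := hle (hU.conj_mem' u hu g)
    rw [mem_stabilizer_iff, mul_smul, mul_smul, inv_smul_eq_iff] at h1
    rw [h1, one_smul]
  have htrN : ∀ i, ∃ x ∈ N, x • o = i := by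
    intro i
    have htop : stabilizer G o ⊔ N = ⊤ := by
      rcases hmax _ le_sup_left with h | h
      · exact absurd (hnfix N hNn (h ▸ le_sup_right)) hN1
      · exact h
    obtain ⟨g, rfl⟩ := htr o i
    have hg : g ∈ N ⊔ stabilizer G o := by rw [sup_comm, htop]; exact Subgroup.mem_top _
    obtain ⟨x, hx, s, hs', rfl⟩ := Subgroup.mem_sup_of_normal_left.1 hg
    exact ⟨x, hx, by rw [mul_smul, mem_stabilizer_iff.1 hs']⟩
  have hreg : ∀ x ∈ N, x • o = o → x = 1 := by
    intro x hx hxo
    refine eq_of_smul_eq_smul (α := Ω) fun i => ?_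
    obtain ⟨y, hy, rfl⟩ := htrN i
    rw [one_smul, ← mul_smul, hNab x hx y hy, mul_smul, hxo]
  have hinj : ∀ x ∈ N, ∀ y ∈ N, x • o = y • o → x = y := by
    intro x hx y hy h
    have := hreg (y⁻¹ * x) (mul_mem (inv_mem hy) hx) (by rw [mul_smul, h, inv_smul_smul])
    exact (inv_mul_eq_one.1 this).symm
  letI : CommGroup N :=
    { (inferInstance : Group N) with mul_comm := fun a b => Subtype.ext (hNab a a.2 b b.2) }
  let act : DistribMulAction (stabilizer G o) (Additive N) :=
    { smul := fun s x => Additive.ofMul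
        ⟨(s : G) * ((Additive.toMul x : N) : G) * (s : G)⁻¹,
          hNn.conj_mem _ (Additive.toMul x : N).2 _⟩
      one_smul := fun x => Additive.toMul.injective (Subtype.ext (by
        show ((1 : stabilizer G o) : G) * _ * ((1 : stabilizer G o) : G)⁻¹ = _
        simp))
      mul_smul := fun s t x => Additive.toMul.injective (Subtype.ext (by
        show ((s * t : stabilizer G o) : G) * _ * ((s * t : stabilizer G o) : G)⁻¹ =
          (s : G) * ((t : G) * _ * (t : G)⁻¹) * (s : G)⁻¹
        simp [mul_assoc]))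
      smul_zero := fun s => Additive.toMul.injective (Subtype.ext (by
        show (s : G) * ((1 : N) : G) * (s : G)⁻¹ = ((1 : N) : G)
        simp))
      smul_add := fun s x y => Additive.toMul.injective (Subtype.ext (by
        show (s : G) * ((Additive.toMul x * Additive.toMul y : N) : G) * (s : G)⁻¹ =
          ((s : G) * ((Additive.toMul x : N) : G) * (s : G)⁻¹) *
            ((s : G) * ((Additive.toMul y : N) : G) * (s : G)⁻¹)
        simp [mul_assoc])) }
  letI := act
  have hconj : ∀ (s : stabilizer G o) (x : G), x ∈ N →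
      ((s : G) * x * (s : G)⁻¹) • o = (s : G) • (x • o) := by
    intro s x _
    rw [mul_smul, mul_smul, inv_smul_eq_iff.2 (mem_stabilizer_iff.1 s.2).symm]
  have hcr : CR (stabilizer G o) (Additive N) := by
    intro U hU
    by_cases hU0 : U = ⊥
    · exact ⟨⊤, fun _ _ _ => trivial, by rw [hU0, bot_inf_eq], by rw [sup_top_eq]⟩
    refine ⟨⊥, fun s x hx => ?_, by rw [inf_bot_eq], ?_⟩
    · rw [AddSubgroup.mem_bot] at hx ⊢
      rw [hx, smul_zero]
    rw [sup_bot_eq, eq_top_iff]
    let U' : Subgroup G := (AddSubgroup.toSubgroup' U).map N.subtype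
    have hU'n : U'.Normal := by
      refine ⟨fun u hu g => ?_⟩
      obtain ⟨⟨u, huN⟩, huU, rfl⟩ := hu
      obtain ⟨x, hx, hxo⟩ := htrN (g • o)
      have hs : x⁻¹ * g ∈ stabilizer G o := by
        rw [mem_stabilizer_iff, mul_smul, ← hxo, inv_smul_smul]
      have h1 : Additive.ofMul (⟨(x⁻¹ * g) * u * (x⁻¹ * g)⁻¹, hNn.conj_mem u huN _⟩ : N) ∈ U :=
        hU ⟨_, hs⟩ (Additive.ofMul ⟨u, huN⟩) huU
      refine ⟨⟨g * u * g⁻¹, hNn.conj_mem u huN g⟩, ?_, rfl⟩
      have e : (⟨g * u * g⁻¹, hNn.conj_mem u huN g⟩ : N) =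
          ⟨(x⁻¹ * g) * u * (x⁻¹ * g)⁻¹, hNn.conj_mem u huN _⟩ := Subtype.ext (by
        show g * u * g⁻¹ = (x⁻¹ * g) * u * (x⁻¹ * g)⁻¹
        have := hNab x hx (g * u * g⁻¹) (hNn.conj_mem u huN g)
        calc g * u * g⁻¹ = x⁻¹ * (x * (g * u * g⁻¹)) := by group
          _ = x⁻¹ * ((g * u * g⁻¹) * x) := by rw [this]
          _ = _ := by group)
      show Additive.ofMul (⟨g * u * g⁻¹, _⟩ : N) ∈ U
      rw [e]
      exact h1
    have hU'N : U' ≤ N := Subgroup.map_subtype_le _
    have hne : ¬ U' ≤ stabilizer G o := by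
      intro h
      apply hU0
      refine (AddSubgroup.eq_bot_iff_forall U).2 fun a ha => ?_
      have hmem : ((Additive.toMul a : N) : G) ∈ U' := ⟨Additive.toMul a, ha, rfl⟩
      rw [hnfix U' hU'n h, Subgroup.mem_bot] at hmem
      exact Additive.toMul.injective (Subtype.ext hmem)
    intro a _
    have htop : stabilizer G o ⊔ U' = ⊤ :=
      (hmax _ le_sup_left).resolve_left fun h => hne (h ▸ le_sup_right)
    haveI := hU'n
    have hg : ((Additive.toMul a : N) : G) ∈ U' ⊔ stabilizer G o := by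
      rw [sup_comm, htop]; exact Subgroup.mem_top _
    obtain ⟨u, hu, s, hs', hus⟩ := Subgroup.mem_sup_of_normal_left.1 hg
    have hs1 : s = 1 := by
      refine hreg s ?_ (mem_stabilizer_iff.1 hs')
      rw [show s = u⁻¹ * ((Additive.toMul a : N) : G) by rw [← hus, inv_mul_cancel_left]]
      exact mul_mem (inv_mem (hU'N hu)) (Additive.toMul a : N).2
    rw [hs1, mul_one] at hus
    obtain ⟨b, hb, hbu⟩ := hu
    have : b = Additive.toMul a := Subtype.ext (hbu.trans hus)
    rw [this] at hb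
    exact hb
  have hcardN : Nat.card (Additive N) = Nat.card Ω := by
    refine (Nat.card_congr Additive.toMul).trans (Nat.card_eq_of_bijective (fun x : N => (x : G) • o) ⟨?_, ?_⟩)
    · exact fun x y h => Subtype.ext (hinj x x.2 y y.2 h)
    · intro i
      obtain ⟨x, hx, h⟩ := htrN i
      exact ⟨⟨x, hx⟩, h⟩
  obtain ⟨a, b, hab⟩ := hs (Additive N) (hcardN ▸ hΩ) (stabilizer G o)
    (odd_card_of_dvd (Subgroup.card_subgroup_dvd_card _) hodd) hcr
  set v : G := ((Additive.toMul a : N) : G)
  set w : G := ((Additive.toMul b : N) : G)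
  have hv : v ∈ N := (Additive.toMul a : N).2
  have hw : w ∈ N := (Additive.toMul b : N).2
  have hkey : ∀ g : G, g • o = o → g • (v • o) = v • o → g • (w • o) = w • o → g = 1 := by
    intro g hgo hgv hgw
    let s : stabilizer G o := ⟨g, hgo⟩
    have hfix : ∀ x ∈ N, g • (x • o) = x • o → g * x * g⁻¹ = x := fun x hx h =>
      hinj _ (hNn.conj_mem x hx g) x hx (by rw [← h]; exact hconj s x hx)
    have h1 : ∀ x ∈ N, g * x * g⁻¹ = x := by
      intro x hx
      have := hab s (Additive.toMul.injective (Subtype.ext (hfix v hv hgv)))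
        (Additive.toMul.injective (Subtype.ext (hfix w hw hgw))) (Additive.ofMul ⟨x, hx⟩)
      exact congrArg Subtype.val (congrArg Additive.toMul this)
    refine eq_of_smul_eq_smul (α := Ω) fun i => ?_
    obtain ⟨x, hx, rfl⟩ := htrN i
    rw [one_smul, ← hconj s x hx, h1 x hx]
  -- one vector suffices
  have hone : ∀ u ∈ N, (∀ g : G, g • o = o → g • (u • o) = u • o → g = 1) →
      ∃ S : Set Ω, ∀ g : G, (∀ i : Ω, g • i ∈ S ↔ i ∈ S) → ∀ i : Ω, g • i = i := by
    intro u _ hu
    refine ⟨{o, u • o}, fun g hg i => ?_⟩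
    have h1 : g • o = o ∧ g • u • o = u • o := by
      have a1 := (hg o).2 (by simp)
      have a2 := (hg (u • o)).2 (by simp)
      simp only [Set.mem_insert_iff, Set.mem_singleton_iff] at a1 a2
      have ho : g • o = o := by
        rcases a1 with h | h
        · exact h
        rcases a2 with h' | h'
        · exact smul_eq_of_sq hodd (by rw [h, h'])
        · have e : u • o = o := MulAction.injective g (h'.trans h.symm)
          exact h.trans e
      refine ⟨ho, ?_⟩
      rcases a2 with h' | h'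
      · have e : u • o = o := MulAction.injective g (h'.trans ho.symm)
        conv_rhs => rw [e]
        exact h'
      · exact h'
    rw [hu g h1.1 h1.2, one_smul]
  by_cases hvw : v = w
  · exact hone v hv fun g h1 h2 => hkey g h1 h2 (hvw ▸ h2)
  by_cases hv1 : v = 1
  · exact hone w hw fun g h1 h2 => hkey g h1 (by rw [hv1, one_smul, h1]) h2
  by_cases hw1 : w = 1
  · exact hone v hv fun g h1 h2 => hkey g h1 h2 (by rw [hw1, one_smul, h1])
  by_cases hinv : v * w = 1
  · refine hone v hv fun g h1 h2 => hkey g h1 h2 ?_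
    let s : stabilizer G o := ⟨g, h1⟩
    have hwe : w = v⁻¹ := (eq_inv_of_mul_eq_one_right hinv)
    have e1 : g * v * g⁻¹ = v := hinj _ (hNn.conj_mem v hv g) v hv (by
      conv_rhs => rw [← h2]
      exact hconj s v hv)
    rw [← hconj s w hw, hwe]
    congr 1
    show g * v⁻¹ * g⁻¹ = v⁻¹
    rw [← inv_inj, inv_inv]
    calc (g * v⁻¹ * g⁻¹)⁻¹ = g * v * g⁻¹ := by group
      _ = v := e1
  -- four points with a canonical pairing
  set T : Finset G := {1, v * w, v, w} with hT
  refine ⟨{i | ∃ x ∈ T, x • o = i}, fun g hg i => ?_⟩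
  have hTN : ∀ x ∈ T, x ∈ N := by
    intro x hx
    simp only [hT, Finset.mem_insert, Finset.mem_singleton] at hx
    rcases hx with rfl | rfl | rfl | rfl
    · exact one_mem N
    · exact mul_mem hv hw
    · exact hv
    · exact hw
  obtain ⟨m, hm, hmo⟩ := htrN (g • o)
  have hs0 : m⁻¹ * g ∈ stabilizer G o := by
    rw [mem_stabilizer_iff, mul_smul, ← hmo, inv_smul_smul]
  let φ : G → G := fun x => (m⁻¹ * g) * x * (m⁻¹ * g)⁻¹
  have hφ : ∀ x ∈ N, φ x * m ∈ N ∧ (φ x * m) • o = g • (x • o) := by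
    intro x hx
    refine ⟨mul_mem (hNn.conj_mem x hx _) hm, ?_⟩
    rw [hNab _ (hNn.conj_mem x hx _) m hm, mul_smul]
    show m • ((m⁻¹ * g) * x * (m⁻¹ * g)⁻¹) • o = _
    rw [hconj ⟨_, hs0⟩ x hx]
    show m • (m⁻¹ * g) • x • o = _
    rw [mul_smul m⁻¹ g, smul_inv_smul]
  have hφm : ∀ x y, φ (x * y) = φ x * φ y := fun x y => by simp only [φ]; group
  have hmapT : ∀ x ∈ T, φ x * m ∈ T := by
    intro x hx
    obtain ⟨y, hy, hye⟩ := (hg (x • o)).2 ⟨x, hx, rfl⟩
    rw [← hinj y (hTN y hy) _ (hφ x (hTN x hx)).1 (hye.trans (hφ x (hTN x hx)).2.symm)]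
    exact hy
  have himg : T.image (fun x => φ x * m) = T := by
    refine Finset.eq_of_subset_of_card_le ?_ ?_
    · intro y hy
      obtain ⟨x, hx, rfl⟩ := Finset.mem_image.1 hy
      exact hmapT x hx
    · rw [Finset.card_image_of_injective]
      intro x y h
      simpa [φ] using h
  -- products in `N`
  let jj : G → G := fun x => (v * w) * x⁻¹
  have hprod : (φ (v * w) * m) * m * φ 1 = v * w := by
    let π : Finset G → N := fun s => ∏ x ∈ s, if h : x ∈ N then (⟨x, h⟩ : N) else 1
    have hval : ∀ s : Finset G, ∀ f : G → G, Set.InjOn f s →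
        π (s.image f) = ∏ x ∈ s, if h : f x ∈ N then (⟨f x, h⟩ : N) else 1 := fun s f hf =>
      Finset.prod_image hf
    have hd1 : (1 : G) ∉ ({v * w, v, w} : Finset G) := by
      simp only [Finset.mem_insert, Finset.mem_singleton, not_or]
      exact ⟨Ne.symm hinv, Ne.symm hv1, Ne.symm hw1⟩
    have hd2 : v * w ∉ ({v, w} : Finset G) := by
      simp only [Finset.mem_insert, Finset.mem_singleton, not_or]
      exact ⟨fun h => hw1 (mul_eq_left.1 h), fun h => hv1 (mul_eq_right.1 h)⟩
    have hd3 : v ∉ ({w} : Finset G) := by simpa using hvw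
    have h0 : ((π T : N) : G) = (v * w) * (v * w) := by
      show ((∏ x ∈ T, if h : x ∈ N then (⟨x, h⟩ : N) else 1 : N) : G) = _
      rw [hT, Finset.prod_insert hd1, Finset.prod_insert hd2, Finset.prod_insert hd3,
        Finset.prod_singleton, dif_pos (one_mem N), dif_pos (mul_mem hv hw), dif_pos hv, dif_pos hw]
      simp [mul_assoc]
    have h1 : ((π T : N) : G) = ((φ 1 * m) * (φ (v * w) * m)) * ((φ v * m) * (φ w * m)) := by
      rw [← himg, hval T _ (fun x _ y _ h => by simpa [φ] using h), hT, Finset.prod_insert hd1,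
        Finset.prod_insert hd2, Finset.prod_insert hd3, Finset.prod_singleton,
        dif_pos (hφ 1 (one_mem N)).1, dif_pos (hφ _ (mul_mem hv hw)).1, dif_pos (hφ v hv).1,
        dif_pos (hφ w hw).1]
      simp [mul_assoc]
    set P := φ (v * w) * m * m with hP
    have hPN : P ∈ N := mul_mem (hφ _ (mul_mem hv hw)).1 hm
    have hφ1 : φ 1 = 1 := by simp [φ]
    have e1 : (φ 1 * m) * (φ (v * w) * m) = P := by
      rw [hφ1, one_mul, hNab m hm _ (hφ _ (mul_mem hv hw)).1]
    have e2 : (φ v * m) * (φ w * m) = P := by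
      rw [hP, hφm, mul_assoc (φ v), ← mul_assoc m, hNab m hm _ (hNn.conj_mem w hw _)]
      group
      simp [φ, mul_assoc]
    rw [h1, e1, e2] at h0
    have h2 : (⟨P, hPN⟩ : N) * ⟨v * w, mul_mem hv hw⟩⁻¹ = 1 := by
      refine eq_one_of_sq_eq_one (odd_card_of_dvd (Subgroup.card_subgroup_dvd_card _) hodd) ?_
      rw [mul_mul_mul_comm, ← mul_inv, mul_inv_eq_one]
      exact Subtype.ext h0
    rw [hφ1, mul_one]
    exact congrArg Subtype.val (mul_inv_eq_one.1 h2)
  have hjφ : ∀ x ∈ T, φ (jj x) * m = jj (φ x * m) := by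
    intro x hx
    show φ (v * w * x⁻¹) * m = v * w * (φ x * m)⁻¹
    have hφ1 : φ 1 = 1 := by simp [φ]
    rw [hφ1, mul_one] at hprod
    conv_rhs => rw [← hprod]
    have hc1 : φ x⁻¹ * m = m * φ x⁻¹ := hNab _ (hNn.conj_mem _ (inv_mem (hTN x hx)) _) m hm
    have e : (φ x)⁻¹ = φ x⁻¹ := by simp only [φ]; group
    rw [mul_inv_rev, e, hφm, mul_assoc, hc1]
    group
  have hmemj : ∀ x ∈ T, jj x ∈ T := by
    intro x hx
    simp only [hT, Finset.mem_insert, Finset.mem_singleton, jj] at hx ⊢
    rcases hx with rfl | rfl | rfl | rfl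
    · right; left; simp
    · left; simp
    · right; right; right
      rw [hNab v hv w hw, mul_inv_cancel_right]
    · right; right; left; rw [mul_inv_cancel_right]
  -- two pairs
  have hpairs : ∀ x ∈ T, ∀ y ∈ T, ∀ z ∈ T, y ≠ x → y ≠ jj x → z = x ∨ z = jj x ∨ z = y ∨ z = jj y := by
    intro x hx y hy z hz
    simp only [hT, Finset.mem_insert, Finset.mem_singleton] at hx hy hz
    have j1 : jj 1 = v * w := by simp [jj]
    have j2 : jj (v * w) = 1 := by simp [jj]
    have j3 : jj v = w := by simp only [jj]; rw [hNab v hv w hw, mul_inv_cancel_right]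
    have j4 : jj w = v := by simp only [jj]; rw [mul_inv_cancel_right]
    rcases hx with rfl | rfl | rfl | rfl <;> rcases hy with rfl | rfl | rfl | rfl <;>
      rcases hz with rfl | rfl | rfl | rfl <;> simp [j1, j2, j3, j4]
  let F : G → G := fun x => φ x * m
  have hFinj : Function.Injective F := fun x y h => by simpa [F, φ] using h
  have hsq : ∀ x ∈ T, F (F x) = x ∨ F (F x) = jj x := by
    intro x hx
    by_cases h1 : F x = x
    · left; rw [h1, h1]
    by_cases h2 : F x = jj x
    · left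
      rw [h2]
      show φ (jj x) * m = x
      rw [hjφ x hx]
      show jj (F x) = x
      rw [h2]
      show (v * w) * ((v * w) * x⁻¹)⁻¹ = x
      rw [mul_inv_rev, inv_inv, ← mul_assoc, hNab (v * w) (mul_mem hv hw) x (hTN x hx),
        mul_inv_cancel_right]
    rcases hpairs x hx (F x) (hmapT x hx) (F (F x)) (hmapT _ (hmapT x hx)) h1 h2 with h | h | h | h
    · exact Or.inl h
    · exact Or.inr h
    · exact absurd (hFinj h) h1
    · refine absurd (hFinj (h.trans (hjφ x hx).symm)) h2
  have hFsmul : ∀ x ∈ T, g • (x • o) = F x • o := fun x hx => ((hφ x (hTN x hx)).2).symm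
  have hfix : ∀ x ∈ T, g • (x • o) = x • o := by
    intro x hx
    refine smul_eq_of_sq hodd ?_
    rw [hFsmul x hx, hFsmul _ (hmapT x hx)]
    rcases hsq x hx with h | h
    · rw [h]
    · have hj : F (F (jj x)) = jj (jj x) := by
        show φ (φ (jj x) * m) * m = _
        rw [hjφ x hx, hjφ _ (hmapT x hx)]
        show jj (F (F x)) = _
        rw [h]
      have hh : jj (jj x) = x := by
        show (v * w) * ((v * w) * x⁻¹)⁻¹ = x
        rw [mul_inv_rev, inv_inv, ← mul_assoc, hNab (v * w) (mul_mem hv hw) x (hTN x hx), mul_inv_cancel_right]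
      rw [hh] at hj
      have h4 : g • g • g • g • (x • o) = x • o := by
        rw [hFsmul x hx, hFsmul _ (hmapT x hx), h, hFsmul _ (hmemj x hx),
          hFsmul _ (hmapT _ (hmemj x hx)), hj]
      have h5 : (g * g) • (x • o) = x • o :=
        smul_eq_of_sq hodd (by rw [mul_smul, mul_smul]; exact h4)
      rw [mul_smul, hFsmul x hx, hFsmul _ (hmapT x hx)] at h5
      exact h5
  have hgo : g • o = o := by
    have := hfix 1 (by simp [hT])
    simpa using this
  rw [hkey g hgo (hfix v (by simp [hT])) (hfix w (by simp [hT])), one_smul]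

/-- Solvable permutation groups of odd order have a distinguishing set. -/
theorem exists_set {n : ℕ} (hs : Small.{v} n) :
    ∀ (k : ℕ) (G Ω : Type v) [Group G] [Finite G] [Group.IsSolvable G] [Finite Ω] [MulAction G Ω],
      Odd (Nat.card G) → Nat.card Ω = k → k < n →
      ∃ S : Set Ω, ∀ g : G, (∀ i : Ω, g • i ∈ S ↔ i ∈ S) → ∀ i : Ω, g • i = i := by
  intro k
  induction k using Nat.strong_induction_on with
  | _ k ih =>
  intro G Ω _ _ _ _ _ hodd hk hkn
  classical
  rcases isEmpty_or_nonempty Ω with h | h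
  · exact ⟨∅, fun g _ i => isEmptyElim i⟩
  obtain ⟨o⟩ := h
  by_cases htr : ∀ a b : Ω, ∃ g : G, g • a = b
  · by_cases hmax : ∀ M : Subgroup G, stabilizer G o ≤ M → M = stabilizer G o ∨ M = ⊤
    · -- pass to the image
      let π := MulAction.toPermHom G Ω
      haveI : Group.IsSolvable π.range := Group.isSolvable_of_surjective π.rangeRestrict_surjective
      obtain ⟨S, hS⟩ := exists_set_primitive hs (G := π.range) (Ω := Ω)
        (odd_card_of_dvd (Subgroup.card_range_dvd π) hodd) (hk ▸ hkn)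
        (fun a b => by
          obtain ⟨g, hg⟩ := htr a b
          exact ⟨π.rangeRestrict g, hg⟩) o (fun M hM => by
          have hle : stabilizer G o ≤ M.comap π.rangeRestrict := fun g hg => hM hg
          rcases hmax _ hle with h | h
          · left
            refine le_antisymm (fun x hx => ?_) hM
            obtain ⟨g, rfl⟩ := π.rangeRestrict_surjective x
            have : g ∈ M.comap π.rangeRestrict := hx
            rw [h] at this
            exact this
          · right
            refine eq_top_iff.2 fun x _ => ?_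
            obtain ⟨g, rfl⟩ := π.rangeRestrict_surjective x
            have : g ∈ M.comap π.rangeRestrict := h ▸ Subgroup.mem_top g
            exact this)
      exact ⟨S, fun g hg i => hS (π.rangeRestrict g) hg i⟩
    push Not at hmax
    obtain ⟨M, hM, hMne, hMtop⟩ := hmax
    obtain ⟨rep, hrep⟩ : ∃ rep : Ω → G, ∀ i, rep i • o = i :=
      ⟨fun i => (htr o i).choose, fun i => (htr o i).choose_spec⟩
    let f : Ω → G ⧸ M := fun i => (rep i : G ⧸ M)
    have hf : ∀ (g : G) i, f (g • i) = g • f i := by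
      intro g i
      show ((rep (g • i) : G) : G ⧸ M) = ((g * rep i : G) : G ⧸ M)
      rw [QuotientGroup.eq]
      refine hM (mem_stabilizer_iff.2 ?_)
      rw [mul_smul, mul_smul, hrep, inv_smul_eq_iff, hrep]
    let B := orbit M o
    have hfB : ∀ i, f i = ((1 : G) : G ⧸ M) ↔ i ∈ B := by
      intro i
      rw [QuotientGroup.eq, mul_one, inv_mem_iff]
      constructor
      · intro h
        exact ⟨⟨rep i, h⟩, hrep i⟩
      · rintro ⟨m, rfl⟩
        have : (m : G)⁻¹ * rep (m • o) ∈ stabilizer G o := by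
          rw [mem_stabilizer_iff, mul_smul, hrep, inv_smul_eq_iff]; rfl
        simpa using mul_mem m.2 (hM this)
    have hidx : M.index * Nat.card B = k := by
      have e1 : Nat.card B = (stabilizer M o).index := by
        rw [Subgroup.index_eq_card]
        exact Nat.card_congr (orbitEquivQuotientStabilizer M o)
      have e2 : stabilizer M o = (stabilizer G o).subgroupOf M := by
        ext m; rfl
      have e3 : (stabilizer G o).index = k := by
        rw [← hk, Subgroup.index_eq_card, ← Nat.card_congr (orbitEquivQuotientStabilizer G o)]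
        exact Nat.card_congr (Equiv.subtypeUnivEquiv fun i => htr o i)
      rw [e1, e2, mul_comm, ← e3]
      exact Subgroup.relIndex_mul_index hM
    have h1lt : 1 < M.index := Subgroup.one_lt_index_of_ne_top hMtop
    have hBlt : 1 < Nat.card B := by
      haveI : Nontrivial B := by
        obtain ⟨m, hm, hmo⟩ := SetLike.exists_of_lt (lt_of_le_of_ne hM (Ne.symm hMne))
        refine ⟨⟨o, mem_orbit_self o⟩, ⟨m • o, ⟨⟨m, hm⟩, rfl⟩⟩, fun h => hmo ?_⟩
        exact mem_stabilizer_iff.2 (congrArg Subtype.val h).symm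
      exact Finite.one_lt_card
    have hoddB : Odd (Nat.card B) := by
      rw [Nat.card_congr (orbitEquivQuotientStabilizer M o), ← Subgroup.index_eq_card]
      exact odd_card_of_dvd ((Subgroup.index_dvd_card _).trans (Subgroup.card_subgroup_dvd_card M)) hodd
    obtain ⟨S1, hS1⟩ := ih (Nat.card B) (by rw [← hidx]; exact lt_mul_left (by omega) h1lt) M B
      (odd_card_of_dvd (Subgroup.card_subgroup_dvd_card _) hodd) rfl
      (lt_of_le_of_lt (by rw [← hidx]; exact Nat.le_mul_of_pos_left _ (by omega)) hkn)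
    obtain ⟨S0, hS0⟩ := ih M.index (by rw [← hidx]; exact lt_mul_right (by omega) hBlt) G (G ⧸ M)
      hodd (Subgroup.index_eq_card M).symm
      (lt_of_le_of_lt (by rw [← hidx]; exact Nat.le_mul_of_pos_right _ (by omega)) hkn)
    have hfib : ∀ i, (f i).out⁻¹ • i ∈ B := by
      intro i
      rw [← hfB, hf, inv_smul_eq_iff]
      conv_lhs => rw [← QuotientGroup.out_eq' (f i)]
      show (((f i).out : G) : G ⧸ M) = (((f i).out * 1 : G) : G ⧸ M)
      rw [mul_one]
    let S : Set Ω := {i | (⟨_, hfib i⟩ : B) ∈ S1 ↔ f i ∈ S0}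
    refine ⟨S, fun g hg => ?_⟩
    -- the element of `M` moving the fibre
    have hm : ∀ c : G ⧸ M, (g • c).out⁻¹ * (g * c.out) ∈ M := by
      intro c
      rw [← QuotientGroup.eq, QuotientGroup.out_eq']
      conv_lhs => rw [← QuotientGroup.out_eq' c]
      rfl
    have hkey : ∀ i, ((⟨_, hfib i⟩ : B) ∈ S1 ↔ f i ∈ S0) ↔
        ((⟨_, hm (f i)⟩ : M) • (⟨_, hfib i⟩ : B) ∈ S1 ↔ g • f i ∈ S0) := by
      intro i
      have e : (⟨_, hm (f i)⟩ : M) • (⟨_, hfib i⟩ : B) = ⟨_, hfib (g • i)⟩ := by
        apply Subtype.ext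
        show ((g • f i).out⁻¹ * (g * (f i).out)) • ((f i).out⁻¹ • i) = (f (g • i)).out⁻¹ • g • i
        rw [hf, ← mul_smul, ← mul_smul]
        congr 1
        group
      rw [e, ← hf]
      exact (hg i).symm
    have hfibre : ∀ (c : G ⧸ M) (x : B), ∃ i, f i = c ∧ (⟨_, hfib i⟩ : B) = x := by
      intro c x
      have h1 : f (c.out • (x : Ω)) = c := by
        rw [hf, (hfB _).2 x.2]
        conv_rhs => rw [← QuotientGroup.out_eq' c]
        show ((c.out * 1 : G) : G ⧸ M) = _
        rw [mul_one]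
      refine ⟨_, h1, Subtype.ext ?_⟩
      show (f (c.out • (x : Ω))).out⁻¹ • c.out • (x : Ω) = x
      rw [h1, inv_smul_smul]
    have hc0 : ∀ c : G ⧸ M, (g • c ∈ S0 ↔ c ∈ S0) ∧
        ∀ x : B, ((⟨_, hm c⟩ : M) • x ∈ S1 ↔ x ∈ S1) := by
      intro c
      have hall : ∀ x : B, ((x ∈ S1 ↔ c ∈ S0) ↔ ((⟨_, hm c⟩ : M) • x ∈ S1 ↔ g • c ∈ S0)) := by
        intro x
        obtain ⟨i, hi, hix⟩ := hfibre c x
        subst hi
        subst hix
        exact hkey i
      by_cases hiff : g • c ∈ S0 ↔ c ∈ S0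
      · refine ⟨hiff, fun x => ?_⟩
        have := hall x
        tauto
      exfalso
      have hswap : ∀ x : B, (⟨_, hm c⟩ : M) • x ∈ S1 ↔ x ∉ S1 := fun x => by
        have := hall x
        tauto
      have e1 : Nat.card {x : B // x ∈ S1} = Nat.card {x : B // x ∉ S1} :=
        (Nat.card_congr ((MulAction.toPerm (⟨_, hm c⟩ : M)).subtypeEquiv
          (fun x => (hswap x).symm))).symm
      have e2 := Nat.card_congr (Equiv.sumCompl (fun x : B => x ∈ S1))
      rw [Nat.card_sum, ← e1] at e2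
      exact (Nat.not_odd_iff_even.2 ⟨_, rfl⟩) (e2 ▸ hoddB)
    have hc : ∀ c, g • c = c := hS0 g fun c => (hc0 c).1
    intro i
    have h1 := hS1 _ (hc0 (f i)).2 ⟨_, hfib i⟩
    have h2 := congrArg (fun x : B => (f i).out • (x : Ω)) h1
    change (f i).out • ((g • f i).out⁻¹ * (g * (f i).out)) • ((f i).out⁻¹ • i) =
      (f i).out • (f i).out⁻¹ • i at h2
    rw [hc, smul_inv_smul, ← mul_smul, ← mul_smul] at h2
    conv_rhs => rw [← h2]
    congr 1
    group
  -- intransitive
  push Not at htr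
  obtain ⟨a, b, hab⟩ := htr
  let O := orbit G a
  letI actC : MulAction G (Oᶜ : Set Ω) :=
    { smul := fun g i => ⟨g • (i : Ω), fun h => i.2 (by
        have := mem_orbit_of_mem_orbit g⁻¹ h
        rwa [inv_smul_smul] at this)⟩
      one_smul := fun i => Subtype.ext (one_smul G (i : Ω))
      mul_smul := fun g h i => Subtype.ext (mul_smul g h (i : Ω)) }
  have hsum : Nat.card O + Nat.card (Oᶜ : Set Ω) = k := by
    rw [← hk, ← Nat.card_sum]
    exact Nat.card_congr (Equiv.Set.sumCompl O)
  have hO : 0 < Nat.card O := by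
    haveI : Nonempty O := ⟨⟨a, mem_orbit_self a⟩⟩
    exact Nat.card_pos
  have hOc : 0 < Nat.card (Oᶜ : Set Ω) := by
    haveI : Nonempty (Oᶜ : Set Ω) := ⟨⟨b, fun ⟨g, hg⟩ => hab g hg⟩⟩
    exact Nat.card_pos
  obtain ⟨S1, h1⟩ := ih (Nat.card O) (by omega) G O hodd rfl (by omega)
  obtain ⟨S2, h2⟩ := ih (Nat.card (Oᶜ : Set Ω)) (by omega) G (Oᶜ : Set Ω) hodd rfl (by omega)
  refine ⟨Subtype.val '' S1 ∪ Subtype.val '' S2, fun g hg i => ?_⟩
  have hmemO : ∀ x : O, (x : Ω) ∈ Subtype.val '' S1 ∪ Subtype.val '' S2 ↔ x ∈ S1 := fun x => by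
    constructor
    · rintro (⟨y, hy, he⟩ | ⟨y, -, he⟩)
      · rwa [← Subtype.ext he]
      · exact absurd (he ▸ x.2) y.2
    · exact fun h => Or.inl ⟨x, h, rfl⟩
  have hmemC : ∀ x : (Oᶜ : Set Ω), (x : Ω) ∈ Subtype.val '' S1 ∪ Subtype.val '' S2 ↔ x ∈ S2 :=
    fun x => by
    constructor
    · rintro (⟨y, -, he⟩ | ⟨y, hy, he⟩)
      · exact absurd (he ▸ y.2) x.2
      · rwa [← Subtype.ext he]
    · exact fun h => Or.inr ⟨x, h, rfl⟩
  by_cases hi : i ∈ O
  · exact congrArg Subtype.val (h1 g (fun x => by rw [← hmemO, ← hmemO]; exact hg x) ⟨i, hi⟩)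
  · exact congrArg Subtype.val (h2 g (fun x => by rw [← hmemC, ← hmemC]; exact hg x) ⟨i, hi⟩)

end Cfsg.Agent.OddBase75
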