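/-
Bases of size two: reducible and imprimitive actions of solvable groups of odd order.
-/
import Mathlib
import Cfsg.Agent.Lib.OddBasePerm75

set_option autoImplicit false

namespace Cfsg.Agent.OddBase75

open MulAction

universe v

variable {G V : Type v} [Group G] [Finite G] [Group.IsSolvable G] [AddCommGroup V] [Finite V]
  [DistribMulAction G V]

/-- The action on an invariant subgroup. -/
abbrev subAct {H X : Type*} [Group H] [AddCommGroup X] [DistribMulAction H X] (U : AddSubgroup X)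
    (hU : ∀ g : H, ∀ x ∈ U, g • x ∈ U) : DistribMulAction H U where
  smul g x := ⟨g • (x : X), hU g x x.2⟩
  one_smul x := Subtype.ext (one_smul H (x : X))
  mul_smul g h x := Subtype.ext (mul_smul g h (x : X))
  smul_zero g := Subtype.ext (smul_zero g)
  smul_add g x y := Subtype.ext (smul_add g (x : X) (y : X))

theorem cr_sub {H X : Type*} [Group H] [AddCommGroup X] [DistribMulAction H X] (h : CR H X)
    (U : AddSubgroup X) (hU : ∀ g : H, ∀ x ∈ U, g • x ∈ U) :
    letI := subAct U hU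
    CR H U := by
  letI := subAct U hU
  intro U' hU'
  obtain ⟨W, hW, hd, hs⟩ := h (U'.map U.subtype) (fun g x hx => by
    obtain ⟨y, hy, rfl⟩ := hx
    exact ⟨g • y, hU' g y hy, rfl⟩)
  refine ⟨W.comap U.subtype, fun g x hx => hW g _ hx, ?_, ?_⟩
  · refine (AddSubgroup.eq_bot_iff_forall _).2 fun x hx => ?_
    have : (x : X) ∈ U'.map U.subtype ⊓ W := ⟨⟨x, hx.1, rfl⟩, hx.2⟩
    rw [hd, AddSubgroup.mem_bot] at this
    exact Subtype.ext this
  · refine eq_top_iff.2 fun x _ => ?_
    have : (x : X) ∈ U'.map U.subtype ⊔ W := hs ▸ AddSubgroup.mem_top _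
    obtain ⟨a, ⟨a', ha', rfl⟩, b, hb, hab⟩ := AddSubgroup.mem_sup.1 this
    have hb' : b ∈ U := by
      rw [show b = (x : X) - U.subtype a' by rw [← hab, add_sub_cancel_left]]
      exact sub_mem x.2 a'.2
    rw [show x = a' + ⟨b, hb'⟩ from Subtype.ext hab.symm]
    exact add_mem (AddSubgroup.mem_sup_left ha') (AddSubgroup.mem_sup_right hb)

theorem card_lt_of_ne_top {X : Type*} [AddGroup X] [Finite X] {U : AddSubgroup X} (h : U ≠ ⊤) :
    Nat.card U < Nat.card X :=
  lt_of_le_of_ne (Nat.le_of_dvd Nat.card_pos (AddSubgroup.card_addSubgroup_dvd_card U))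
    fun e => h ((AddSubgroup.card_eq_iff_eq_top U).1 e)

/-- A proper nonzero invariant subgroup. -/
theorem baseTwo_reducible (hs : Small.{v} (Nat.card V)) (hodd : Odd (Nat.card G)) (hcr : CR G V)
    {U : AddSubgroup V} (hU : ∀ g : G, ∀ x ∈ U, g • x ∈ U) (h0 : U ≠ ⊥) (h1 : U ≠ ⊤) :
    BaseTwo G V := by
  obtain ⟨W, hW, hd, hsup⟩ := hcr U hU
  have hW1 : W ≠ ⊤ := fun h => h0 (by rw [h, inf_top_eq] at hd; exact hd)
  obtain ⟨a, b, hab⟩ := by
    letI := subAct U hU
    exact hs U (card_lt_of_ne_top h1) G hodd (cr_sub hcr U hU)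
  obtain ⟨c, d, hcd⟩ := by
    letI := subAct W hW
    exact hs W (card_lt_of_ne_top hW1) G hodd (cr_sub hcr W hW)
  refine ⟨(a : V) + c, (b : V) + d, fun g hg1 hg2 x => ?_⟩
  have key : ∀ (u : U) (w : W), g • ((u : V) + w) = (u : V) + w →
      g • (u : V) = u ∧ g • (w : V) = w := by
    intro u w h
    rw [smul_add] at h
    have e : g • (u : V) - u = w - g • (w : V) := sub_eq_sub_iff_add_eq_add.2 (h.trans (add_comm _ _))
    have h2 : g • (u : V) - u ∈ U ⊓ W :=
      AddSubgroup.mem_inf.2 ⟨sub_mem (hU g u u.2) u.2, by rw [e]; exact sub_mem w.2 (hW g w w.2)⟩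
    rw [hd, AddSubgroup.mem_bot] at h2
    exact ⟨sub_eq_zero.1 h2, (sub_eq_zero.1 (e ▸ h2)).symm⟩
  obtain ⟨ha, hc⟩ := key a c hg1
  obtain ⟨hb, hd'⟩ := key b d hg2
  have hx : x ∈ U ⊔ W := hsup ▸ AddSubgroup.mem_top x
  obtain ⟨y, hy, z, hz, rfl⟩ := AddSubgroup.mem_sup.1 hx
  rw [smul_add]
  congr 1
  · exact congrArg Subtype.val (hab g (Subtype.ext ha) (Subtype.ext hb) ⟨y, hy⟩)
  · exact congrArg Subtype.val (hcd g (Subtype.ext hc) (Subtype.ext hd') ⟨z, hz⟩)

/-- Irreducibility. -/
def Irred (G V : Type*) [Group G] [AddCommGroup V] [DistribMulAction G V] : Prop :=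
  ∀ U : AddSubgroup V, (∀ g : G, ∀ x ∈ U, g • x ∈ U) → U = ⊥ ∨ U = ⊤

theorem Irred.cr {H X : Type*} [Group H] [AddCommGroup X] [DistribMulAction H X] (h : Irred H X) :
    CR H X := by
  intro U hU
  rcases h U hU with rfl | rfl
  · exact ⟨⊤, fun _ _ _ => trivial, by rw [bot_inf_eq], by rw [sup_top_eq]⟩
  · refine ⟨⊥, fun g x hx => ?_, by rw [inf_bot_eq], by rw [sup_bot_eq]⟩
    rw [AddSubgroup.mem_bot] at hx ⊢
    rw [hx, smul_zero]

variable {Ω : Type v} [Finite Ω] [MulAction G Ω]

/-- A system of imprimitivity given by orthogonal projections. -/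
theorem baseTwo_imprimitive (hs : Small.{v} (Nat.card V)) (hodd : Odd (Nat.card G))
    (hirr : Irred G V) (π : Ω → (V →+ V)) (hidem : ∀ i x, π i (π i x) = π i x)
    (horth : ∀ i j, i ≠ j → ∀ x, π i (π j x) = 0)
    (hsum : ∀ x, ∃ s : Finset Ω, (∀ i, i ∈ s) ∧ x = ∑ i ∈ s, π i x)
    (hcomp : ∀ (g : G) i x, g • π i x = π (g • i) (g • x))
    (htr : ∀ i j : Ω, ∃ g : G, g • i = j) (hne : ∀ i, ∃ x, π i x ≠ 0)
    (h2 : ∃ i j : Ω, i ≠ j) : BaseTwo G V := by
  classical
  obtain ⟨o, o', hoo'⟩ := h2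
  haveI : Fintype Ω := Fintype.ofFinite Ω
  have hsum' : ∀ x, x = ∑ i, π i x := by
    intro x
    obtain ⟨s, hmem, h⟩ := hsum x
    rwa [Finset.eq_univ_iff_forall.2 hmem] at h
  let W : AddSubgroup V := (π o).range
  have hWfix : ∀ x ∈ W, π o x = x := by
    rintro x ⟨y, rfl⟩
    exact hidem o y
  let H := stabilizer G o
  have hWinv : ∀ h : H, ∀ x ∈ W, h • x ∈ W := by
    rintro h x ⟨y, rfl⟩
    refine ⟨(h : G) • y, ?_⟩
    show π o ((h : G) • y) = (h : G) • π o y
    rw [hcomp, mem_stabilizer_iff.1 h.2]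
  letI := subAct W hWinv
  have hcrW : CR H W := by
    refine Irred.cr fun U hU => ?_
    by_cases hU0 : U = ⊥
    · exact Or.inl hU0
    refine Or.inr (eq_top_iff.2 fun w _ => ?_)
    let gen : Set V := {z | ∃ (g : G) (u : W), u ∈ U ∧ z = g • (u : V)}
    have hinv : ∀ g : G, ∀ x ∈ AddSubgroup.closure gen, g • x ∈ AddSubgroup.closure gen := by
      intro g x hx
      induction hx using AddSubgroup.closure_induction with
      | mem x hx =>
        obtain ⟨g', u, hu, rfl⟩ := hx
        exact AddSubgroup.subset_closure ⟨g * g', u, hu, (mul_smul g g' _).symm⟩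
      | zero => rw [smul_zero]; exact zero_mem _
      | add x y _ _ hx hy => rw [smul_add]; exact add_mem hx hy
      | neg x _ hx => rw [smul_neg]; exact neg_mem hx
    have htop : AddSubgroup.closure gen = ⊤ := by
      refine (hirr _ hinv).resolve_left fun h => hU0 ?_
      refine (AddSubgroup.eq_bot_iff_forall U).2 fun u hu => Subtype.ext ?_
      have : (u : V) ∈ AddSubgroup.closure gen :=
        AddSubgroup.subset_closure ⟨1, u, hu, (one_smul G _).symm⟩
      rwa [h, AddSubgroup.mem_bot] at this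
    have hproj : ∀ x ∈ AddSubgroup.closure gen, ∃ u ∈ U, (u : V) = π o x := by
      intro x hx
      induction hx using AddSubgroup.closure_induction with
      | mem x hx =>
        obtain ⟨g, u, hu, rfl⟩ := hx
        by_cases hg : g • o = o
        · refine ⟨(⟨g, hg⟩ : H) • u, hU _ u hu, ?_⟩
          exact (hWfix _ (hWinv ⟨g, hg⟩ u u.2)).symm
        · refine ⟨0, zero_mem U, ?_⟩
          conv_rhs => rw [← hWfix u u.2, hcomp, horth o (g • o) (fun h => hg h.symm)]
          rfl
      | zero => exact ⟨0, zero_mem U, by rw [map_zero]; rfl⟩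
      | add x y _ _ hx hy =>
        obtain ⟨a, ha, ha'⟩ := hx
        obtain ⟨b, hb, hb'⟩ := hy
        exact ⟨a + b, add_mem ha hb, by rw [map_add, ← ha', ← hb']; rfl⟩
      | neg x _ hx =>
        obtain ⟨a, ha, ha'⟩ := hx
        exact ⟨-a, neg_mem ha, by rw [map_neg, ← ha']; rfl⟩
    obtain ⟨u, hu, hue⟩ := hproj w (htop ▸ AddSubgroup.mem_top _)
    rw [hWfix w w.2] at hue
    rwa [← Subtype.ext hue]
  have hWlt : Nat.card W < Nat.card V := by
    refine card_lt_of_ne_top fun h => ?_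
    obtain ⟨x, hx⟩ := hne o'
    apply hx
    have h1 : π o' x ∈ W := h ▸ AddSubgroup.mem_top _
    rw [← hWfix _ h1, horth o o' hoo']
  have hoddH : Odd (Nat.card H) := odd_card_of_dvd (Subgroup.card_subgroup_dvd_card H) hodd
  obtain ⟨a₀, b₀, hab₀⟩ := hs W hWlt H hoddH hcrW
  obtain ⟨a, b, hne_ab, hab⟩ : ∃ a b : W, a ≠ b ∧
      ∀ h : H, h • a = a → h • b = b → ∀ x : W, h • x = x := by
    by_cases h : a₀ = b₀
    · by_cases ha : a₀ = 0
      · obtain ⟨x, hx⟩ := hne o
        refine ⟨⟨π o x, x, rfl⟩, 0, fun e => hx (congrArg Subtype.val e), fun h' _ _ => ?_⟩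
        exact hab₀ h' (by rw [ha, smul_zero]) (by rw [← h, ha, smul_zero])
      · exact ⟨a₀, 0, ha, fun h' h1 _ => hab₀ h' h1 (h ▸ h1)⟩
    · exact ⟨a₀, b₀, h, hab₀⟩
  have hswap : ∀ h : H, ¬ (h • a = b ∧ h • b = a) := by
    rintro h ⟨h1, h2⟩
    exact hne_ab ((smul_eq_of_sq hoddH (x := a) (by rw [h1, h2])).symm.trans h1)
  -- the blocks
  have hΩ : Nat.card Ω < Nat.card V := by
    choose x hx using hne
    have hinj : Function.Injective fun S : Finset Ω => ∑ i ∈ S, π i (x i) := by
      intro S T hST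
      ext i
      have h1 : ∀ S : Finset Ω, π i (∑ j ∈ S, π j (x j)) = if i ∈ S then π i (x i) else 0 := by
        intro S
        rw [map_sum]
        split_ifs with h
        · rw [Finset.sum_eq_single i (fun j _ hj => horth i j (Ne.symm hj) _)
            (fun h' => absurd h h'), hidem]
        · exact Finset.sum_eq_zero fun j hj => horth i j (fun e => h (e ▸ hj)) _
      have h2 := congrArg (π i) hST
      simp only [h1] at h2
      by_cases hS : i ∈ S <;> by_cases hT : i ∈ T <;> simp only [hS, hT, if_true, if_false] at h2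
      · exact iff_of_true hS hT
      · exact absurd h2 (hx i)
      · exact absurd h2.symm (hx i)
      · exact iff_of_false hS hT
    have h1 := Nat.card_le_card_of_injective _ hinj
    rw [Nat.card_eq_fintype_card, Fintype.card_finset, ← Nat.card_eq_fintype_card] at h1
    exact lt_of_lt_of_le Nat.lt_two_pow_self h1
  obtain ⟨S, hS⟩ := exists_set hs (Nat.card Ω) G Ω hodd rfl hΩ
  choose t ht using fun i => htr o i
  let c : W → W → Ω → V := fun p q i => if i ∈ S then t i • (p : V) else t i • (q : V)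
  have hc : ∀ p q i j, π j (c p q i) = if j = i then c p q i else 0 := by
    intro p q i j
    have e : ∀ r : W, π j (t i • (r : V)) = if j = i then t i • (r : V) else 0 := by
      intro r
      conv_lhs => rw [← hWfix r r.2, hcomp, ht]
      split_ifs with h
      · rw [h, hidem]
        conv_rhs => rw [← hWfix r r.2, hcomp, ht]
      · exact horth j i h _
    by_cases h : i ∈ S <;> simp only [c, h, if_true, if_false, e]
  refine ⟨∑ i, c a b i, ∑ i, c b a i, fun g hga hgb x => ?_⟩
  have hcoord : ∀ p q i, g • (∑ k, c p q k) = ∑ k, c p q k → g • c p q i = c p q (g • i) := by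
    intro p q i h
    have h1 : ∀ j, π j (∑ k, c p q k) = c p q j := by
      intro j
      rw [map_sum]
      simp only [hc, Finset.sum_ite_eq, Finset.mem_univ, if_true]
    have h2 := congrArg (π (g • i)) h
    rw [h1, ← hcomp, h1] at h2
    exact h2
  let m : Ω → H := fun i => ⟨(t (g • i))⁻¹ * g * t i, by
    rw [mem_stabilizer_iff, mul_smul, mul_smul, ht, inv_smul_eq_iff, ht]⟩
  have hm : ∀ p q i, g • (∑ k, c p q k) = ∑ k, c p q k →
      m i • (if i ∈ S then p else q) = (if g • i ∈ S then p else q) := by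
    intro p q i h
    have h1 := hcoord p q i h
    apply Subtype.ext
    show ((t (g • i))⁻¹ * g * t i) • ((if i ∈ S then p else q : W) : V) = _
    rw [mul_smul, mul_smul, inv_smul_eq_iff]
    by_cases hi : i ∈ S <;> by_cases hgi : g • i ∈ S <;>
      simp only [c, hi, hgi, if_true, if_false] at h1 ⊢ <;> exact h1
  have hSfix : ∀ i, g • i ∈ S ↔ i ∈ S := by
    intro i
    by_contra hc'
    have e1 := hm a b i hga
    have e2 := hm b a i hgb
    by_cases hi : i ∈ S <;> by_cases hgi : g • i ∈ S <;>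
      simp only [hi, hgi, if_true, if_false] at e1 e2
    · exact hc' (iff_of_true hgi hi)
    · exact hswap _ ⟨e1, e2⟩
    · exact hswap _ ⟨e2, e1⟩
    · exact hc' (iff_of_false hgi hi)
  have hfix : ∀ i, g • i = i := hS g hSfix
  have hmt : ∀ i, ∀ w : W, m i • w = w := by
    intro i
    have e1 := hm a b i hga
    have e2 := hm b a i hgb
    by_cases hi : i ∈ S
    · simp only [hi, (hSfix i).2 hi, if_true] at e1 e2
      exact hab _ e1 e2
    · have hgi : g • i ∉ S := fun h => hi ((hSfix i).1 h)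
      simp only [hi, hgi, if_false] at e1 e2
      exact hab _ e2 e1
  rw [hsum' x, Finset.smul_sum]
  refine Finset.sum_congr rfl fun i _ => ?_
  obtain ⟨w, hw⟩ : ∃ w : W, π i x = t i • (w : V) := by
    refine ⟨⟨π o ((t i)⁻¹ • x), _, rfl⟩, ?_⟩
    show π i x = t i • π o ((t i)⁻¹ • x)
    rw [hcomp, ht, smul_inv_smul]
  rw [hw]
  have h1 := congrArg Subtype.val (hmt i w)
  change ((t (g • i))⁻¹ * g * t i) • (w : V) = w at h1
  rw [mul_smul, mul_smul, inv_smul_eq_iff, hfix i] at h1
  exact h1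

end Cfsg.Agent.OddBase75
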