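/-
The ring generated by an abelian normal subgroup of an irreducible linear group: either it yields a
system of imprimitivity or it is a field.
-/
import Mathlib
import Cfsg.Agent.Lib.OddBaseReduce75

set_option autoImplicit false

namespace Cfsg.Agent.OddBase75

open MulAction

universe v

section Monoid

/-- Some positive power of an element of a finite monoid is idempotent. -/
theorem exists_pow_idem {M : Type*} [Monoid M] [Finite M] (r : M) :
    ∃ n : ℕ, 0 < n ∧ r ^ n * r ^ n = r ^ n := by
  obtain ⟨i, j, hne, hij⟩ := Finite.exists_ne_map_eq_of_infinite fun k : ℕ => r ^ k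
  wlog hlt : i < j generalizing i j
  · exact this j i hne.symm hij.symm (by omega)
  obtain ⟨k, rfl⟩ : ∃ k, j = i + k := ⟨j - i, by omega⟩
  have hper : ∀ l m, i ≤ m → r ^ (m + l * k) = r ^ m := by
    intro l
    induction l with
    | zero => simp
    | succ l ih =>
      intro m hm
      obtain ⟨c, rfl⟩ : ∃ c, m = i + c := ⟨m - i, by omega⟩
      rw [show i + c + (l + 1) * k = (i + k) + (c + l * k) by ring, pow_add, ← hij, ← pow_add,
        show i + (c + l * k) = i + c + l * k by ring, ih _ (by omega)]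
  have hk : 1 ≤ k := by omega
  refine ⟨(i + 1) * k, Nat.mul_pos (by omega) hk, ?_⟩
  rw [← pow_add]
  exact hper (i + 1) _ (by nlinarith)

end Monoid

variable {G V : Type v} [Group G] [AddCommGroup V] [DistribMulAction G V]

/-- The endomorphism given by a group element. -/
def rho : G →* AddMonoid.End V := DistribMulAction.toAddMonoidEnd G V

@[simp] theorem rho_apply (g : G) (x : V) : rho g x = g • x := rfl

theorem end_mul_apply (a b : AddMonoid.End V) (x : V) : (a * b) x = a (b x) := rfl

/-- Conjugation on endomorphisms. -/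
def cj (g : G) : AddMonoid.End V →+* AddMonoid.End V where
  toFun r := rho g * r * rho g⁻¹
  map_one' := by rw [mul_one, ← map_mul, mul_inv_cancel, map_one]
  map_mul' r s := by
    symm
    calc rho g * r * rho g⁻¹ * (rho g * s * rho g⁻¹)
        = rho g * r * (rho g⁻¹ * rho g) * s * rho g⁻¹ := by simp only [mul_assoc]
      _ = rho g * (r * s) * rho g⁻¹ := by
          rw [← map_mul, inv_mul_cancel, map_one, mul_one, mul_assoc (rho g) r s]
  map_zero' := by simp
  map_add' r s := by simp [mul_add, add_mul]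

theorem cj_apply (g : G) (r : AddMonoid.End V) (x : V) : cj g r x = g • r (g⁻¹ • x) := rfl

theorem cj_one (r : AddMonoid.End V) : cj (1 : G) r = r := by
  show rho (1 : G) * r * rho (1 : G)⁻¹ = r
  simp

theorem cj_mul (g h : G) (r : AddMonoid.End V) : cj (g * h) r = cj g (cj h r) := by
  show rho (g * h) * r * rho (g * h)⁻¹ = rho g * (rho h * r * rho h⁻¹) * rho g⁻¹
  rw [mul_inv_rev, map_mul, map_mul]
  simp only [mul_assoc]

theorem smul_end (g : G) (r : AddMonoid.End V) (x : V) : g • r x = cj g r (g • x) := by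
  rw [cj_apply, inv_smul_smul]

/-- The ring generated by a subgroup. -/
def ringOf (A : Subgroup G) : Subring (AddMonoid.End V) :=
  Subring.closure {r | ∃ a ∈ A, r = rho a}

theorem rho_mem {A : Subgroup G} {a : G} (ha : a ∈ A) : (rho a : AddMonoid.End V) ∈ ringOf A :=
  Subring.subset_closure ⟨a, ha, rfl⟩

theorem ringOf_comm {A : Subgroup G} (hab : ∀ a ∈ A, ∀ b ∈ A, a * b = b * a)
    {r s : AddMonoid.End V} (hr : r ∈ ringOf A) (hs : s ∈ ringOf A) : r * s = s * r := by
  set S : Set (AddMonoid.End V) := {r | ∃ a ∈ A, r = rho a}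
  have h1 : ringOf A ≤ Subring.centralizer S := by
    refine Subring.closure_le.2 ?_
    rintro _ ⟨a, ha, rfl⟩
    refine Subring.mem_centralizer_iff.2 ?_
    rintro _ ⟨b, hb, rfl⟩
    rw [← map_mul, ← map_mul, hab b hb a ha]
  have h2 : ringOf A ≤ Subring.centralizer ((ringOf (V := V) A : Subring (AddMonoid.End V)) : Set (AddMonoid.End V)) := by
    refine Subring.closure_le.2 ?_
    intro x hx
    refine Subring.mem_centralizer_iff.2 fun y hy => ?_
    exact (Subring.mem_centralizer_iff.1 (h1 hy) x hx).symm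
  exact (Subring.mem_centralizer_iff.1 (h2 hr) s hs).symm

theorem cj_mem {A : Subgroup G} [A.Normal] (g : G) {r : AddMonoid.End V} (hr : r ∈ ringOf A) :
    cj g r ∈ ringOf A := by
  have : ringOf (V := V) A ≤ (ringOf A).comap (cj g) := by
    refine Subring.closure_le.2 ?_
    rintro _ ⟨a, ha, rfl⟩
    show cj g (rho a) ∈ ringOf A
    have e : cj g (rho a : AddMonoid.End V) = rho (g * a * g⁻¹) := by
      show rho g * rho a * rho g⁻¹ = _
      rw [← map_mul, ← map_mul]
    rw [e]
    exact rho_mem (Subgroup.Normal.conj_mem inferInstance a ha g)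
  exact this hr

theorem cj_eq_self {A : Subgroup G} {g : G} (hg : ∀ a ∈ A, g * a = a * g) {r : AddMonoid.End V}
    (hr : r ∈ ringOf A) : cj g r = r := by
  have : ringOf (V := V) A ≤ RingHom.eqLocus (cj g) (RingHom.id _) := by
    refine Subring.closure_le.2 ?_
    rintro _ ⟨a, ha, rfl⟩
    show cj g (rho a) = rho a
    show rho g * rho a * rho g⁻¹ = _
    rw [← map_mul, ← map_mul, hg a ha, mul_inv_cancel_right]
  exact this hr

variable [Finite G] [Finite V]

theorem finite_end : Finite (AddMonoid.End V) :=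
  Finite.of_injective (fun f : AddMonoid.End V => (f : V → V)) DFunLike.coe_injective

/-- Only trivial idempotents. -/
def NoIdem (A : Subgroup G) : Prop :=
  ∀ e : AddMonoid.End V, e ∈ ringOf A → e * e = e → e = 0 ∨ e = 1

/-- A proper idempotent gives a system of imprimitivity. -/
theorem baseTwo_of_idem [Group.IsSolvable G] (hs : Small.{v} (Nat.card V))
    (hodd : Odd (Nat.card G)) (hirr : Irred G V) (A : Subgroup G) [A.Normal]
    (hab : ∀ a ∈ A, ∀ b ∈ A, a * b = b * a) (h : ¬ NoIdem (V := V) A) : BaseTwo G V := by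
  classical
  haveI : Finite (AddMonoid.End V) := finite_end
  simp only [NoIdem, not_forall, not_or, exists_prop] at h
  obtain ⟨e₁, he₁R, he₁, he₁0, he₁1⟩ := h
  let P : AddMonoid.End V → Prop := fun e => e ∈ ringOf A ∧ e * e = e ∧ e ≠ 0 ∧ e ≠ 1
  obtain ⟨e, ⟨heR, he, he0, he1⟩, hmin⟩ := Set.exists_min_image {e | P e}
    (fun e => Nat.card (Set.range e)) (Set.toFinite _) ⟨e₁, he₁R, he₁, he₁0, he₁1⟩
  have hprim : ∀ f ∈ ringOf A, f * f = f → f * e = 0 ∨ f * e = e := by
    intro f hfR hf
    by_cases h0 : f * e = 0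
    · exact Or.inl h0
    refine Or.inr ?_
    have hc := ringOf_comm hab hfR heR
    have hid : f * e * (f * e) = f * e := by
      calc f * e * (f * e) = f * (e * f) * e := by simp only [mul_assoc]
        _ = f * (f * e) * e := by rw [hc]
        _ = (f * f) * (e * e) := by simp only [mul_assoc]
        _ = f * e := by rw [hf, he]
    have hne1 : f * e ≠ 1 := fun h1 => he1 (by
      calc e = (f * e) * e := by rw [h1, one_mul]
        _ = f * e := by rw [mul_assoc, he]
        _ = 1 := h1)
    have hle := hmin (f * e) ⟨mul_mem hfR heR, hid, h0, hne1⟩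
    have hsub : Set.range (f * e) ⊆ Set.range e := by
      rintro _ ⟨x, rfl⟩
      exact ⟨f x, by rw [← end_mul_apply, hc]⟩
    have heq : Set.range (f * e) = Set.range e :=
      Set.eq_of_subset_of_ncard_le hsub (by simpa [Nat.card_coe_set_eq] using hle) (Set.toFinite _)
    refine AddMonoidHom.ext fun x => ?_
    obtain ⟨y, hy⟩ : e x ∈ Set.range (f * e) := heq ▸ ⟨x, rfl⟩
    have h1 := congrArg f hy
    rw [← end_mul_apply, ← end_mul_apply, ← mul_assoc, hf] at h1
    exact h1.symm.trans hy
  let Ω := {f : AddMonoid.End V // ∃ g : G, cj g e = f}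
  letI : MulAction G Ω :=
    { smul := fun g f => ⟨cj g f.1, by
        obtain ⟨h, hh⟩ := f.2
        exact ⟨g * h, by rw [cj_mul, hh]⟩⟩
      one_smul := fun f => Subtype.ext (cj_one f.1)
      mul_smul := fun g h f => Subtype.ext (cj_mul g h f.1) }
  have hΩR : ∀ f : Ω, f.1 ∈ ringOf A := fun f => by
    obtain ⟨g, hg⟩ := f.2
    exact hg ▸ cj_mem g heR
  have hΩi : ∀ f : Ω, f.1 * f.1 = f.1 := fun f => by
    obtain ⟨g, hg⟩ := f.2
    rw [← hg, ← map_mul, he]
  have hΩ0 : ∀ f : Ω, f.1 ≠ 0 := fun f h0 => by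
    obtain ⟨g, hg⟩ := f.2
    apply he0
    have := congrArg (cj g⁻¹) (hg.trans h0)
    rwa [← cj_mul, inv_mul_cancel, cj_one, map_zero] at this
  have hprimΩ : ∀ (f : Ω), ∀ r ∈ ringOf A, r * r = r → r * f.1 = 0 ∨ r * f.1 = f.1 := by
    intro f r hr hri
    obtain ⟨g, hg⟩ := f.2
    have h1 : ∀ s : AddMonoid.End V, cj g (cj g⁻¹ s) = s := fun s => by
      rw [← cj_mul, mul_inv_cancel, cj_one]
    rcases hprim (cj g⁻¹ r) (cj_mem _ hr) (by rw [← map_mul, hri]) with h | h
    · left
      have := congrArg (cj g) h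
      rwa [map_mul, h1, map_zero, hg] at this
    · right
      have := congrArg (cj g) h
      rwa [map_mul, h1, hg] at this
  have horth : ∀ f f' : Ω, f ≠ f' → f.1 * f'.1 = 0 := by
    intro f f' hne
    rcases hprimΩ f' f.1 (hΩR f) (hΩi f) with h | h
    · exact h
    rcases hprimΩ f f'.1 (hΩR f') (hΩi f') with h' | h'
    · rw [ringOf_comm hab (hΩR f) (hΩR f'), h']
    · exact absurd (Subtype.ext (by rw [← h, ringOf_comm hab (hΩR f) (hΩR f'), h'])) hne
  haveI : Fintype Ω := Fintype.ofFinite Ω
  set s : AddMonoid.End V := ∑ f : Ω, f.1 with hsdef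
  have hsR : s ∈ ringOf A := Subring.sum_mem _ fun f _ => hΩR f
  have hfs : ∀ f : Ω, f.1 * s = f.1 := fun f => by
    rw [hsdef, Finset.mul_sum, Finset.sum_eq_single f (fun f' _ h => horth f f' h.symm)
      (fun h => absurd (Finset.mem_univ f) h), hΩi]
  have hss : s * s = s := by
    conv_lhs => rw [hsdef, Finset.sum_mul]
    rw [hsdef]
    exact Finset.sum_congr rfl fun f _ => hfs f
  have hcjs : ∀ g : G, cj g s = s := fun g => by
    rw [hsdef, map_sum]
    exact Fintype.sum_equiv (MulAction.toPerm g) _ _ fun f => rfl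
  have hs1 : s = 1 := by
    rcases hirr s.range (fun g x hx => by
      obtain ⟨y, rfl⟩ := hx
      refine ⟨g • y, ?_⟩
      show s (g • y) = g • s y
      rw [smul_end, hcjs]) with h | h
    · exfalso
      apply hΩ0 ⟨e, 1, cj_one e⟩
      have hs0 : s = 0 := AddMonoidHom.ext fun x => by
        have : s x ∈ s.range := ⟨x, rfl⟩
        rwa [h, AddSubgroup.mem_bot] at this
      rw [← hfs ⟨e, 1, cj_one e⟩, hs0, mul_zero]
    · refine AddMonoidHom.ext fun x => ?_
      obtain ⟨y, hy⟩ : x ∈ s.range := h ▸ AddSubgroup.mem_top x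
      show s x = x
      rw [← hy]
      exact DFunLike.congr_fun hss y
  refine baseTwo_imprimitive hs hodd hirr (Ω := Ω) (fun f => f.1) (fun f x => ?_) (fun f f' h x => ?_)
    (fun x => ?_) (fun g f x => smul_end g f.1 x) ?_ (fun f => ?_) ?_
  · exact DFunLike.congr_fun (hΩi f) x
  · exact DFunLike.congr_fun (horth f f' h) x
  · refine ⟨Finset.univ, Finset.mem_univ, ?_⟩
    conv_lhs => rw [show x = s x by rw [hs1]; rfl]
    exact AddMonoidHom.finsetSum_apply _ _ _
  · rintro ⟨_, g, rfl⟩ ⟨_, h, rfl⟩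
    refine ⟨h * g⁻¹, Subtype.ext ?_⟩
    show cj (h * g⁻¹) (cj g e) = cj h e
    rw [← cj_mul, inv_mul_cancel_right]
  · by_contra hall
    push Not at hall
    exact hΩ0 f (AddMonoidHom.ext hall)
  · by_contra hall
    push Not at hall
    apply he1
    let o : Ω := ⟨e, 1, cj_one e⟩
    have : s = e := by
      rw [hsdef, Finset.sum_eq_single o (fun f _ hf => absurd (hall f o) hf)
        (fun h => absurd (Finset.mem_univ o) h)]
    rw [← this, hs1]

/-- Without proper idempotents the ring is a field. -/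
theorem exists_inverse [Nontrivial V] (hirr : Irred G V) (A : Subgroup G) [A.Normal]
    (hab : ∀ a ∈ A, ∀ b ∈ A, a * b = b * a) (h : NoIdem (V := V) A)
    {r : AddMonoid.End V} (hr : r ∈ ringOf A) (hr0 : r ≠ 0) : ∃ s ∈ ringOf A, r * s = 1 := by
  classical
  haveI : Finite (AddMonoid.End V) := finite_end
  have hred : ∀ x ∈ ringOf (V := V) A, IsNilpotent x → x = 0 := by
    let N : Set (AddMonoid.End V) := {x | x ∈ ringOf A ∧ IsNilpotent x}
    have hkill : ∀ S : Finset (AddMonoid.End V), (∀ x ∈ S, x ∈ N) →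
        ∃ v : V, v ≠ 0 ∧ ∀ x ∈ S, x v = 0 := by
      intro S
      induction S using Finset.induction with
      | empty =>
        intro _
        obtain ⟨v, hv⟩ := exists_ne (0 : V)
        exact ⟨v, hv, by simp⟩
      | insert a S _ ih =>
        intro hS
        obtain ⟨v, hv0, hv⟩ := ih fun x hx => hS x (Finset.mem_insert_of_mem hx)
        obtain ⟨haR, m, hm⟩ := hS a (Finset.mem_insert_self a S)
        have hex : ∃ j, (a ^ j) v = 0 := ⟨m, by rw [hm]; rfl⟩
        have h0 : Nat.find hex ≠ 0 := fun h => hv0 (by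
          have := Nat.find_spec hex
          rw [h, pow_zero] at this
          exact this)
        obtain ⟨j, hj⟩ := Nat.exists_eq_succ_of_ne_zero h0
        refine ⟨(a ^ j) v, Nat.find_min hex (by omega), fun x hx => ?_⟩
        rcases Finset.mem_insert.1 hx with rfl | hx'
        · rw [← end_mul_apply, ← pow_succ']
          have := Nat.find_spec hex
          rw [hj] at this
          exact this
        · rw [← end_mul_apply, ringOf_comm hab (hS x hx).1 (pow_mem haR j), end_mul_apply, hv x hx',
            map_zero]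
    obtain ⟨v, hv0, hv⟩ := hkill (Set.toFinite N).toFinset (fun x hx => (Set.toFinite N).mem_toFinset.1 hx)
    let U : AddSubgroup V :=
      { carrier := {z | ∀ x ∈ N, x z = 0}
        zero_mem' := fun x _ => map_zero x
        add_mem' := fun {a b} ha hb x hx => by rw [map_add, ha x hx, hb x hx, add_zero]
        neg_mem' := fun {a} ha x hx => by rw [map_neg, ha x hx, neg_zero] }
    have hU : ∀ g : G, ∀ z ∈ U, g • z ∈ U := by
      intro g z hz x hx
      have h1 : cj g⁻¹ x ∈ N := ⟨cj_mem _ hx.1, hx.2.map (cj g⁻¹)⟩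
      have h2 := hz _ h1
      rw [cj_apply, inv_inv, inv_smul_eq_iff, smul_zero] at h2
      exact h2
    have hvU : v ∈ U := fun x hx => hv x ((Set.toFinite N).mem_toFinset.2 hx)
    intro x hx hxn
    have htop : U = ⊤ := (hirr U hU).resolve_left fun e => hv0 (by rwa [e, AddSubgroup.mem_bot] at hvU)
    refine AddMonoidHom.ext fun z => ?_
    exact (htop ▸ AddSubgroup.mem_top z : z ∈ U) x ⟨hx, hxn⟩
  obtain ⟨k, hk, hkk⟩ := exists_pow_idem r
  rcases h (r ^ k) (pow_mem hr k) hkk with h0 | h1
  · exact absurd (hred r hr ⟨k, h0⟩) hr0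
  · obtain ⟨j, rfl⟩ : ∃ j, k = j + 1 := ⟨k - 1, by omega⟩
    exact ⟨r ^ j, pow_mem hr j, by rw [← pow_succ', h1]⟩

end Cfsg.Agent.OddBase75
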