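import Mathlib
import Cfsg.Agent.Lib.OddBaseField75
import Cfsg.Agent.Lib.KGBound86Basic
import Cfsg.Agent.Lib.KGBound86Perm

/-!
Systems of imprimitivity of irreducible solvable linear groups and the resulting bounds.
-/

set_option autoImplicit false

namespace Cfsg.Agent.KGBound86

open MulAction
open Cfsg.Agent.OddBase75

universe v

variable {G V : Type v} [Group G] [Finite G] [AddCommGroup V] [Finite V] [DistribMulAction G V]

/-- A system of imprimitivity. -/
structure Blocks (G V : Type v) [Group G] [AddCommGroup V] [DistribMulAction G V] (Ω : Type v)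
    [MulAction G Ω] where
  π : Ω → (V →+ V)
  idem : ∀ i x, π i (π i x) = π i x
  orth : ∀ i j, i ≠ j → ∀ x, π i (π j x) = 0
  total : ∀ x, ∃ s : Finset Ω, (∀ i, i ∈ s) ∧ x = ∑ i ∈ s, π i x
  comp : ∀ (g : G) i x, g • π i x = π (g • i) (g • x)
  trans : ∀ i j : Ω, ∃ g : G, g • i = j
  ne : ∀ i, ∃ x, π i x ≠ 0

/-- A proper idempotent gives blocks. -/
theorem exists_blocks (hirr : Irred G V) (A : Subgroup G) [A.Normal]
    (hab : ∀ a ∈ A, ∀ b ∈ A, a * b = b * a) (h : ¬ NoIdem (V := V) A) :
    ∃ (Ω : Type v) (_ : MulAction G Ω) (_ : Finite Ω) (_ : Blocks G V Ω), 1 < Nat.card Ω := by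
  classical
  haveI : Finite (AddMonoid.End V) := finite_end
  simp only [NoIdem, not_forall, not_or, exists_prop] at h
  obtain ⟨e₁, he₁R, he₁, he₁0, he₁1⟩ := h
  let P : AddMonoid.End V → Prop := fun e => e ∈ ringOf A ∧ e * e = e ∧ e ≠ 0 ∧ e ≠ 1
  obtain ⟨e, ⟨heR, he, he0, he1⟩, hmin⟩ := Set.exists_min_image {e | P e}
    (fun e => Nat.card (Set.range e)) (Set.toFinite _) ⟨e₁, he₁R, he₁, he₁0, he₁1⟩
  have hprim : ∀ f ∈ ringOf A, f * f = f → f * e = 0 ∨ f * e = e := by
    intro f hfR hf
    by_cases h0 : f * e = 0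
    · exact Or.inl h0
    refine Or.inr ?_
    have hc := ringOf_comm hab hfR heR
    have hid : f * e * (f * e) = f * e := by
      calc f * e * (f * e) = f * (e * f) * e := by simp only [mul_assoc]
        _ = f * (f * e) * e := by rw [hc]
        _ = (f * f) * (e * e) := by simp only [mul_assoc]
        _ = f * e := by rw [hf, he]
    have hne1 : f * e ≠ 1 := fun h1 => he1 (by
      calc e = (f * e) * e := by rw [h1, one_mul]
        _ = f * e := by rw [mul_assoc, he]
        _ = 1 := h1)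
    have hle := hmin (f * e) ⟨mul_mem hfR heR, hid, h0, hne1⟩
    have hsub : Set.range (f * e) ⊆ Set.range e := by
      rintro _ ⟨x, rfl⟩
      exact ⟨f x, by rw [← end_mul_apply, hc]⟩
    have heq : Set.range (f * e) = Set.range e :=
      Set.eq_of_subset_of_ncard_le hsub (by simpa [Nat.card_coe_set_eq] using hle) (Set.toFinite _)
    refine AddMonoidHom.ext fun x => ?_
    obtain ⟨y, hy⟩ : e x ∈ Set.range (f * e) := heq ▸ ⟨x, rfl⟩
    have h1 := congrArg f hy
    rw [← end_mul_apply, ← end_mul_apply, ← mul_assoc, hf] at h1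
    exact h1.symm.trans hy
  let Ω := {f : AddMonoid.End V // ∃ g : G, cj g e = f}
  letI : MulAction G Ω :=
    { smul := fun g f => ⟨cj g f.1, by
        obtain ⟨h, hh⟩ := f.2
        exact ⟨g * h, by rw [cj_mul, hh]⟩⟩
      one_smul := fun f => Subtype.ext (cj_one f.1)
      mul_smul := fun g h f => Subtype.ext (cj_mul g h f.1) }
  have hΩR : ∀ f : Ω, f.1 ∈ ringOf A := fun f => by
    obtain ⟨g, hg⟩ := f.2
    exact hg ▸ cj_mem g heR
  have hΩi : ∀ f : Ω, f.1 * f.1 = f.1 := fun f => by
    obtain ⟨g, hg⟩ := f.2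
    rw [← hg, ← map_mul, he]
  have hΩ0 : ∀ f : Ω, f.1 ≠ 0 := fun f h0 => by
    obtain ⟨g, hg⟩ := f.2
    apply he0
    have := congrArg (cj g⁻¹) (hg.trans h0)
    rwa [← cj_mul, inv_mul_cancel, cj_one, map_zero] at this
  have hprimΩ : ∀ (f : Ω), ∀ r ∈ ringOf A, r * r = r → r * f.1 = 0 ∨ r * f.1 = f.1 := by
    intro f r hr hri
    obtain ⟨g, hg⟩ := f.2
    have h1 : ∀ s : AddMonoid.End V, cj g (cj g⁻¹ s) = s := fun s => by
      rw [← cj_mul, mul_inv_cancel, cj_one]
    rcases hprim (cj g⁻¹ r) (cj_mem _ hr) (by rw [← map_mul, hri]) with h | h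
    · left
      have := congrArg (cj g) h
      rwa [map_mul, h1, map_zero, hg] at this
    · right
      have := congrArg (cj g) h
      rwa [map_mul, h1, hg] at this
  have horth : ∀ f f' : Ω, f ≠ f' → f.1 * f'.1 = 0 := by
    intro f f' hne
    rcases hprimΩ f' f.1 (hΩR f) (hΩi f) with h | h
    · exact h
    rcases hprimΩ f f'.1 (hΩR f') (hΩi f') with h' | h'
    · rw [ringOf_comm hab (hΩR f) (hΩR f'), h']
    · exact absurd (Subtype.ext (by rw [← h, ringOf_comm hab (hΩR f) (hΩR f'), h'])) hne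
  haveI : Fintype Ω := Fintype.ofFinite Ω
  set s : AddMonoid.End V := ∑ f : Ω, f.1 with hsdef
  have hsR : s ∈ ringOf A := Subring.sum_mem _ fun f _ => hΩR f
  have hfs : ∀ f : Ω, f.1 * s = f.1 := fun f => by
    rw [hsdef, Finset.mul_sum, Finset.sum_eq_single f (fun f' _ h => horth f f' h.symm)
      (fun h => absurd (Finset.mem_univ f) h), hΩi]
  have hss : s * s = s := by
    conv_lhs => rw [hsdef, Finset.sum_mul]
    rw [hsdef]
    exact Finset.sum_congr rfl fun f _ => hfs f
  have hcjs : ∀ g : G, cj g s = s := fun g => by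
    rw [hsdef, map_sum]
    exact Fintype.sum_equiv (MulAction.toPerm g) _ _ fun f => rfl
  have hs1 : s = 1 := by
    rcases hirr s.range (fun g x hx => by
      obtain ⟨y, rfl⟩ := hx
      refine ⟨g • y, ?_⟩
      show s (g • y) = g • s y
      rw [smul_end, hcjs]) with h | h
    · exfalso
      apply hΩ0 ⟨e, 1, cj_one e⟩
      have hs0 : s = 0 := AddMonoidHom.ext fun x => by
        have : s x ∈ s.range := ⟨x, rfl⟩
        rwa [h, AddSubgroup.mem_bot] at this
      rw [← hfs ⟨e, 1, cj_one e⟩, hs0, mul_zero]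
    · refine AddMonoidHom.ext fun x => ?_
      obtain ⟨y, hy⟩ : x ∈ s.range := h ▸ AddSubgroup.mem_top x
      show s x = x
      rw [← hy]
      exact DFunLike.congr_fun hss y
  refine ⟨Ω, inferInstance, inferInstance, ⟨fun f => f.1, fun f x => ?_, fun f f' h x => ?_,
    fun x => ?_, fun g f x => smul_end g f.1 x, ?_, fun f => ?_⟩, ?_⟩
  · exact DFunLike.congr_fun (hΩi f) x
  · exact DFunLike.congr_fun (horth f f' h) x
  · refine ⟨Finset.univ, Finset.mem_univ, ?_⟩
    conv_lhs => rw [show x = s x by rw [hs1]; rfl]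
    exact AddMonoidHom.finsetSum_apply _ _ _
  · rintro ⟨_, g, rfl⟩ ⟨_, h, rfl⟩
    refine ⟨h * g⁻¹, Subtype.ext ?_⟩
    show cj (h * g⁻¹) (cj g e) = cj h e
    rw [← cj_mul, inv_mul_cancel_right]
  · by_contra hall
    push Not at hall
    exact hΩ0 f (AddMonoidHom.ext hall)
  · by_contra hall
    push Not at hall
    apply he1
    let o : Ω := ⟨e, 1, cj_one e⟩
    haveI := Finite.card_le_one_iff_subsingleton.1 hall
    have : s = e := by
      rw [hsdef, Finset.sum_eq_single o (fun f _ hf => absurd (Subsingleton.elim f o) hf)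
        (fun h => absurd (Finset.mem_univ o) h)]
    rw [← this, hs1]

namespace Blocks

variable {Ω : Type v} [MulAction G Ω] (B : Blocks G V Ω)

/-- A block. -/
abbrev blk (i : Ω) : AddSubgroup V := (B.π i).range

theorem mem_blk {i : Ω} {x : V} (hx : x ∈ B.blk i) : B.π i x = x := by
  obtain ⟨y, rfl⟩ := hx
  exact B.idem i y

theorem smul_mem {i : Ω} (h : stabilizer G i) {x : V} (hx : x ∈ B.blk i) :
    (h : G) • x ∈ B.blk i := by
  obtain ⟨y, rfl⟩ := hx
  exact ⟨(h : G) • y, by rw [B.comp, mem_stabilizer_iff.1 h.2]⟩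

/-- The stabiliser of a block acting on it, as endomorphisms. -/
def actEnd (i : Ω) : stabilizer G i →* AddMonoid.End (B.blk i) where
  toFun h :=
    { toFun := fun x => ⟨(h : G) • x.1, B.smul_mem h x.2⟩
      map_zero' := Subtype.ext (smul_zero (h : G))
      map_add' := fun x y => Subtype.ext (smul_add (h : G) x.1 y.1) }
  map_one' := AddMonoidHom.ext fun x => Subtype.ext (one_smul G x.1)
  map_mul' g h := AddMonoidHom.ext fun x => Subtype.ext (mul_smul (g : G) (h : G) x.1)

/-- The stabiliser of a block acting on it. -/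
def act (i : Ω) : stabilizer G i →* (AddMonoid.End (B.blk i))ˣ := (B.actEnd i).toHomUnits

theorem act_smul (i : Ω) (h : stabilizer G i) (x : B.blk i) :
    ((B.act i h • x : B.blk i) : V) = (h : G) • (x : V) := rfl

theorem blk_irred (hirr : Irred G V) (o : Ω) : Irred (B.act o).range (B.blk o) := by
  classical
  intro U hU
  by_cases hU0 : U = ⊥
  · exact Or.inl hU0
  refine Or.inr (eq_top_iff.2 fun w _ => ?_)
  let gen : Set V := {z | ∃ (g : G) (u : B.blk o), u ∈ U ∧ z = g • (u : V)}
  have hinv : ∀ g : G, ∀ x ∈ AddSubgroup.closure gen, g • x ∈ AddSubgroup.closure gen := by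
    intro g x hx
    induction hx using AddSubgroup.closure_induction with
    | mem x hx =>
      obtain ⟨g', u, hu, rfl⟩ := hx
      exact AddSubgroup.subset_closure ⟨g * g', u, hu, (mul_smul g g' _).symm⟩
    | zero => rw [smul_zero]; exact zero_mem _
    | add x y _ _ hx hy => rw [smul_add]; exact add_mem hx hy
    | neg x _ hx => rw [smul_neg]; exact neg_mem hx
  have htop : AddSubgroup.closure gen = ⊤ := by
    refine (hirr _ hinv).resolve_left fun h => hU0 ?_
    refine (AddSubgroup.eq_bot_iff_forall U).2 fun u hu => Subtype.ext ?_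
    have : (u : V) ∈ AddSubgroup.closure gen :=
      AddSubgroup.subset_closure ⟨1, u, hu, (one_smul G _).symm⟩
    rwa [h, AddSubgroup.mem_bot] at this
  have hproj : ∀ x ∈ AddSubgroup.closure gen, ∃ u ∈ U, (u : V) = B.π o x := by
    intro x hx
    induction hx using AddSubgroup.closure_induction with
    | mem x hx =>
      obtain ⟨g, u, hu, rfl⟩ := hx
      by_cases hg : g • o = o
      · exact ⟨_, hU ⟨B.act o ⟨g, hg⟩, ⟨_, rfl⟩⟩ u hu, (B.mem_blk (B.smul_mem ⟨g, hg⟩ u.2)).symm⟩
      · refine ⟨0, zero_mem U, ?_⟩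
        conv_rhs => rw [← B.mem_blk u.2, B.comp, B.orth o (g • o) (fun h => hg h.symm)]
        rfl
    | zero => exact ⟨0, zero_mem U, by rw [map_zero]; rfl⟩
    | add x y _ _ hx hy =>
      obtain ⟨a, ha, ha'⟩ := hx
      obtain ⟨b, hb, hb'⟩ := hy
      exact ⟨a + b, add_mem ha hb, by rw [map_add, ← ha', ← hb']; rfl⟩
    | neg x _ hx =>
      obtain ⟨a, ha, ha'⟩ := hx
      exact ⟨-a, neg_mem ha, by rw [map_neg, ← ha']; rfl⟩
  obtain ⟨u, hu, hue⟩ := hproj w (htop ▸ AddSubgroup.mem_top _)
  rw [B.mem_blk w.2] at hue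
  rwa [← Subtype.ext hue]

theorem card_blk (i j : Ω) : Nat.card (B.blk i) = Nat.card (B.blk j) := by
  obtain ⟨g, rfl⟩ := B.trans i j
  refine Nat.card_congr
    { toFun := fun x => ⟨g • x.1, g • x.1, by
        conv_rhs => rw [← B.mem_blk x.2]
        exact (B.comp g i x.1).symm⟩
      invFun := fun x => ⟨g⁻¹ • x.1, g⁻¹ • x.1, by
        have h := B.comp g i (g⁻¹ • x.1)
        rw [smul_inv_smul, B.mem_blk x.2] at h
        exact eq_inv_smul_iff.2 h⟩
      left_inv := fun x => Subtype.ext (inv_smul_smul g x.1)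
      right_inv := fun x => Subtype.ext (smul_inv_smul g x.1) }

theorem card_V [Fintype Ω] : Nat.card V = ∏ i, Nat.card (B.blk i) := by
  classical
  have hsum : ∀ x, x = ∑ i, B.π i x := by
    intro x
    obtain ⟨s, hmem, h⟩ := B.total x
    rwa [Finset.eq_univ_iff_forall.2 hmem] at h
  rw [← Nat.card_pi]
  refine Nat.card_congr
    { toFun := fun x i => ⟨B.π i x, x, rfl⟩
      invFun := fun f => ∑ i, (f i : V)
      left_inv := fun x => (hsum x).symm
      right_inv := fun f => funext fun i => Subtype.ext ?_ }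
  show B.π i (∑ j, (f j : V)) = f i
  rw [map_sum, Finset.sum_eq_single i (fun j _ hj => ?_) (fun h => absurd (Finset.mem_univ i) h),
    B.mem_blk (f i).2]
  rw [← B.mem_blk (f j).2, B.orth i j (Ne.symm hj)]

end Blocks

/-- The two bounds coming from blocks. -/
theorem blocks_bound [Group.IsSolvable G] [FaithfulSMul G V] (hirr : Irred G V) {Ω : Type v}
    [MulAction G Ω] [Finite Ω] (B : Blocks G V Ω) (hΩ : 1 < Nat.card Ω) :
    ∃ k d t : ℕ, 2 ≤ k ∧ 1 < d ∧ Nat.card V = d ^ k ∧ 0 < t ∧ t ≤ 3 ^ (k - 1) ∧ t ≤ k.factorial ∧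
      (∀ a b : ℕ, (∀ (H W : Type v) [Group H] [Finite H] [Group.IsSolvable H] [AddCommGroup W]
          [Finite W] [DistribMulAction H W] [FaithfulSMul H W], Irred H W → Nat.card W = d →
          RB H a b) → RB G (a ^ k) (b ^ k * t ^ 2)) ∧
      (∀ U : ℕ, (∀ (H W : Type v) [Group H] [Finite H] [Group.IsSolvable H] [AddCommGroup W]
          [Finite W] [DistribMulAction H W] [FaithfulSMul H W], Irred H W → Nat.card W = d →
          Nat.card H ≤ U) → Nat.card G ≤ t * U ^ k) := by
  classical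
  haveI := Fintype.ofFinite Ω
  obtain ⟨o⟩ : Nonempty Ω := Finite.card_pos_iff.1 (by omega)
  let f : G →* Equiv.Perm Ω := MulAction.toPermHom G Ω
  haveI : Group.IsSolvable f.range := Group.isSolvable_of_surjective f.rangeRestrict_surjective
  have hsum : ∀ x, x = ∑ i, B.π i x := by
    intro x
    obtain ⟨s, hmem, h⟩ := B.total x
    rwa [Finset.eq_univ_iff_forall.2 hmem] at h
  have hker : ∀ (g : f.ker) (i : Ω), (g : G) ∈ stabilizer G i := fun g i =>
    mem_stabilizer_iff.2 (Equiv.ext_iff.1 g.2 i)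
  let Φ : f.ker →* ∀ i, (B.act i).range :=
    Pi.monoidHom fun i => (B.act i).rangeRestrict.comp
      { toFun := fun g : f.ker => ⟨(g : G), hker g i⟩
        map_one' := rfl
        map_mul' := fun _ _ => rfl }
  have hΦ : Function.Injective Φ := by
    refine (injective_iff_map_eq_one Φ).2 fun g hg => Subtype.ext (eq_of_smul_eq_smul (α := V) fun x => ?_)
    show (g : G) • x = (1 : G) • x
    rw [one_smul]
    conv_lhs => rw [hsum x, Finset.smul_sum]
    conv_rhs => rw [hsum x]
    refine Finset.sum_congr rfl fun i _ => ?_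
    have h1 := congrArg Subtype.val (congrFun hg i)
    have h2 := congrArg (fun u : (AddMonoid.End (B.blk i))ˣ =>
      ((u • (⟨B.π i x, x, rfl⟩ : B.blk i) : B.blk i) : V)) h1
    exact h2.trans (congrArg Subtype.val (one_smul _ (⟨B.π i x, x, rfl⟩ : B.blk i)))
  haveI : ∀ i, Group.IsSolvable (B.act i).range := fun i =>
    Group.isSolvable_of_surjective (B.act i).rangeRestrict_surjective
  haveI : ∀ i, Finite (B.act i).range := fun i =>
    Finite.of_surjective _ (B.act i).rangeRestrict_surjective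
  haveI : ∀ i, FaithfulSMul (B.act i).range (B.blk i) := fun i =>
    ⟨fun {g h} hgh => Subtype.ext (Units.ext (AddMonoidHom.ext hgh))⟩
  have hcard : ∀ i, Nat.card (B.blk i) = Nat.card (B.blk o) := fun i => B.card_blk i o
  refine ⟨Nat.card Ω, Nat.card (B.blk o), f.ker.index, hΩ, ?_, ?_,
    Nat.pos_of_ne_zero Subgroup.index_ne_zero_of_finite, ?_, ?_, fun a b h => ?_, fun U h => ?_⟩
  · obtain ⟨x, hx⟩ := B.ne o
    exact Finite.one_lt_card_iff_nontrivial.2
      ⟨⟨0, zero_mem _⟩, ⟨_, x, rfl⟩, fun e => hx (congrArg Subtype.val e).symm⟩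
  · rw [B.card_V, Finset.prod_congr rfl (fun i _ => hcard i), Finset.prod_const, Finset.card_univ,
      Nat.card_eq_fintype_card (α := Ω)]
  · rw [Subgroup.index_ker]
    exact card_solvable_perm_le
  · rw [Subgroup.index_ker]
    refine (Subgroup.card_le_card_group _).trans (le_of_eq ?_)
    rw [Nat.card_perm]
  · have h1 := RB.pi (M := fun i => (B.act i).range) (a := a) (b := b)
      fun i => h _ (B.blk i) (B.blk_irred hirr i) (hcard i)
    rw [← Nat.card_eq_fintype_card] at h1
    exact (h1.of_injective Φ hΦ).of_index f.ker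
  · rw [← f.ker.card_mul_index, mul_comm]
    refine Nat.mul_le_mul_left _ ((Nat.card_le_card_of_injective Φ hΦ).trans ?_)
    rw [Nat.card_pi, Nat.card_eq_fintype_card (α := Ω), ← Finset.card_univ, ← Finset.prod_const]
    exact Finset.prod_le_prod' fun i _ => h _ (B.blk i) (B.blk_irred hirr i) (hcard i)

end Cfsg.Agent.KGBound86
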