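/-
Auxiliary facts: alternating pairings of finite abelian groups, dimensions of eigenspaces, and an
inequality for multisets of fixed point numbers.
-/
import Mathlib

set_option autoImplicit false

namespace Cfsg.Agent.OddBase75Alg

/-- A finite monoid has at most as many homomorphisms into a field as elements. -/
theorem card_hom_le {M K : Type*} [Monoid M] [Finite M] [Field K] :
    Nat.card (M →* K) ≤ Nat.card M := by
  haveI : Fintype M := Fintype.ofFinite M
  have h : LinearIndependent K (fun f : M →* K => (f : M → K)) := linearIndependent_monoidHom M K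
  haveI : Finite (M →* K) := h.finite
  haveI : Fintype (M →* K) := Fintype.ofFinite _
  have h2 := h.fintype_card_le_finrank
  rw [Module.finrank_pi] at h2
  rwa [Nat.card_eq_fintype_card, Nat.card_eq_fintype_card]

theorem card_unitsHom_le {M K : Type*} [Monoid M] [Finite M] [Field K] :
    Finite (M →* Kˣ) ∧ Nat.card (M →* Kˣ) ≤ Nat.card M := by
  haveI : Fintype M := Fintype.ofFinite M
  haveI : Finite (M →* K) := (linearIndependent_monoidHom M K).finite
  have hinj : Function.Injective fun f : M →* Kˣ => (Units.coeHom K).comp f := fun f g h =>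
    MonoidHom.ext fun x => Units.ext (DFunLike.congr_fun h x)
  haveI := Finite.of_injective _ hinj
  exact ⟨this, (Nat.card_le_card_of_injective _ hinj).trans card_hom_le⟩

section Pairing

universe u

variable {D : Type*} [CommGroup D] [Finite D] [IsCyclic D]

theorem antisymm {M : Type*} [CommGroup M] (b : M →* (M →* D)) (halt : ∀ x, b x x = 1) (x y : M) :
    b y x = (b x y)⁻¹ := by
  have := halt (x * y)
  rw [map_mul b, MonoidHom.mul_apply, map_mul (b x), map_mul (b y), halt, halt, one_mul,
    mul_one] at this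
  exact eq_inv_of_mul_eq_one_right this

theorem card_square : ∀ (n : ℕ) (M : Type u) [CommGroup M] [Finite M] (b : M →* (M →* D)),
    Nat.card M = n → (∀ x, b x x = 1) → (∀ x, b x = 1 → x = 1) → ∃ e, n = e * e := by
  intro n
  induction n using Nat.strong_induction_on with
  | _ n ih =>
  intro M _ _ b hn halt hnd
  by_cases hM : Nat.card M = 1
  · exact ⟨1, by omega⟩
  haveI : Nontrivial M := Finite.one_lt_card_iff_nontrivial.1 (by
    have := Nat.card_pos (α := M); omega)
  obtain ⟨x, hx⟩ := Monoid.exists_orderOf_eq_exponent (Monoid.ExponentExists.of_finite (G := M))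
  set k := Monoid.exponent M with hk
  have hk1 : 1 < k := by
    obtain ⟨z, hz⟩ := exists_ne (1 : M)
    have : 0 < k := Monoid.exponent_pos.2 Monoid.ExponentExists.of_finite
    rcases Nat.lt_or_ge 1 k with h | h
    · exact h
    exfalso
    apply hz
    have hk1 : k = 1 := by omega
    have := Monoid.pow_exponent_eq_one z
    rwa [← hk, hk1, pow_one] at this
  obtain ⟨ω, hω, hωo⟩ : ∃ ω ∈ (b x).range, orderOf ω = k := by
    obtain ⟨w, hw⟩ := Monoid.exists_orderOf_eq_exponent
      (Monoid.ExponentExists.of_finite (G := (b x).range))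
    refine ⟨w, w.2, ?_⟩
    rw [Subgroup.orderOf_coe, hw]
    refine Nat.dvd_antisymm ?_ ?_
    · refine Monoid.exponent_dvd_of_forall_pow_eq_one fun z => Subtype.ext ?_
      obtain ⟨y, hy⟩ := z.2
      rw [Subgroup.coe_pow, ← hy, ← map_pow, hk, Monoid.pow_exponent_eq_one, map_one]
      rfl
    · rw [← hx]
      refine orderOf_dvd_of_pow_eq_one (hnd _ (MonoidHom.ext fun y => ?_))
      rw [map_pow, MonoidHom.pow_apply, MonoidHom.one_apply]
      exact congrArg Subtype.val (Monoid.pow_exponent_eq_one (⟨b x y, y, rfl⟩ : (b x).range))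
  obtain ⟨y, hy⟩ := hω
  let ψ : M →* D × D := (b x).prod (b y)
  have hrange : ψ.range = (Subgroup.zpowers ω).prod (Subgroup.zpowers ω) := by
    refine le_antisymm ?_ ?_
    · rintro _ ⟨z, rfl⟩
      have hmem : ∀ c : M, b c z ∈ Subgroup.zpowers ω := by
        intro c
        haveI : Finite D := inferInstance
        have h1 : (b c z) ^ k = 1 := by rw [← map_pow, hk, Monoid.pow_exponent_eq_one, map_one]
        classical
        haveI : Fintype D := Fintype.ofFinite D
        have hS : {a : D | a ^ k = 1}.ncard ≤ k := by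
          rw [Set.ncard_eq_toFinset_card', Set.toFinset_ofPred]
          exact IsCyclic.card_pow_eq_one_le (by omega)
        have hsub : (Subgroup.zpowers ω : Set D) ⊆ {a : D | a ^ k = 1} := by
          rintro _ ⟨i, rfl⟩
          show (ω ^ i) ^ k = 1
          rw [← zpow_natCast, ← zpow_mul, mul_comm, zpow_mul, zpow_natCast, ← hωo,
            pow_orderOf_eq_one, one_zpow]
        have heq := Set.eq_of_subset_of_ncard_le hsub (by
          rw [← Nat.card_coe_set_eq (Subgroup.zpowers ω : Set D)]
          exact hS.trans (hωo ▸ Nat.card_zpowers ω).ge) (Set.toFinite _)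
        have hzm : b c z ∈ {a : D | a ^ k = 1} := h1
        rw [← heq] at hzm
        exact hzm
      exact Subgroup.mem_prod.2 ⟨hmem x, hmem y⟩
    · rintro ⟨s, t⟩ hst
      obtain ⟨⟨i, rfl⟩, ⟨j, rfl⟩⟩ := Subgroup.mem_prod.1 hst
      refine ⟨y ^ i * (x ^ j)⁻¹, Prod.ext ?_ ?_⟩
      · show b x _ = ω ^ i
        rw [map_mul, map_inv, map_zpow, map_zpow, hy, halt, one_zpow, inv_one, mul_one]
      · show b y _ = ω ^ j
        rw [map_mul, map_inv, map_zpow, map_zpow, halt, antisymm b halt x y, hy, one_zpow, one_mul,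
          inv_zpow, inv_inv]
  have hidx : ψ.ker.index = k * k := by
    rw [Subgroup.index_ker, hrange, ← hωo, ← Nat.card_zpowers]
    exact (Nat.card_congr (Subgroup.prodEquiv _ _).toEquiv).trans (Nat.card_prod _ _)
  let b' : ψ.ker →* (ψ.ker →* D) :=
    { toFun := fun z => (b z).comp ψ.ker.subtype
      map_one' := by ext; simp
      map_mul' := fun z z' => by ext; simp }
  have hnd' : ∀ z : ψ.ker, b' z = 1 → z = 1 := by
    intro z hz
    refine Subtype.ext (hnd _ (MonoidHom.ext fun u => ?_))
    have hu : ψ u ∈ ψ.range := ⟨u, rfl⟩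
    rw [hrange, Subgroup.mem_prod] at hu
    obtain ⟨⟨i, hi⟩, ⟨j, hj⟩⟩ := hu
    have hi' : ω ^ i = b x u := hi
    have hj' : ω ^ j = b y u := hj
    set u' := u * (y ^ i)⁻¹ * x ^ j with hu'
    have hu'k : u' ∈ ψ.ker := by
      rw [MonoidHom.mem_ker]
      refine Prod.ext ?_ ?_
      · show b x u' = 1
        rw [hu', map_mul, map_mul, map_inv, map_zpow, map_zpow, hy, halt, one_zpow, mul_one, hi',
          mul_inv_cancel]
      · show b y u' = 1
        rw [hu', map_mul, map_mul, map_inv, map_zpow, map_zpow, halt, antisymm b halt x y, hy,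
          one_zpow, inv_one, mul_one, inv_zpow, hj', mul_inv_cancel]
    have h1 : b (z : M) u' = 1 := DFunLike.congr_fun hz ⟨u', hu'k⟩
    have hzk : b x (z : M) = 1 ∧ b y (z : M) = 1 :=
      ⟨congrArg Prod.fst (z.2 : ψ z = 1), congrArg Prod.snd (z.2 : ψ z = 1)⟩
    have hzx : b (z : M) x = 1 := by rw [antisymm b halt x (z : M), hzk.1, inv_one]
    have hzy : b (z : M) y = 1 := by rw [antisymm b halt y (z : M), hzk.2, inv_one]
    rw [hu', map_mul, map_mul, map_inv, map_zpow, map_zpow, hzx, hzy, one_zpow, one_zpow, inv_one,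
      mul_one, mul_one] at h1
    rw [h1]
    rfl
  have hc := ψ.ker.card_mul_index
  rw [hidx, hn] at hc
  have hlt : Nat.card ψ.ker < n := by
    rw [← hc]
    exact lt_mul_of_one_lt_right Nat.card_pos (by nlinarith)
  obtain ⟨e, he⟩ := ih _ hlt ψ.ker b' rfl (fun z => halt z) hnd'
  exact ⟨e * k, by rw [← hc, he]; ring⟩

end Pairing

section Bins

theorem bins_multiset (k B N : ℕ) (hB : 1 ≤ B) (h : (k = 2 ∧ N * N ≤ B * B * B) ∨ (k = 3 ∧ N ≤ B * B)) :
    ∀ (n : ℕ) (s : Multiset ℕ), Multiset.card s = n → (∀ c ∈ s, 1 ≤ c ∧ c ≤ B) → s.prod ≤ N →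
      (s.map fun c => c * c - 1).sum ≤ k * (B * B - 1) := by
  intro n
  induction n using Nat.strong_induction_on with
  | _ n ih =>
  intro s hs hbd hprod
  by_cases hm : ∃ a ∈ s, ∃ b ∈ s.erase a, a * b ≤ B
  · obtain ⟨a, ha, b, hb, hab⟩ := hm
    obtain ⟨t, rfl⟩ : ∃ t, s = a ::ₘ b ::ₘ t :=
      ⟨(s.erase a).erase b, by rw [Multiset.cons_erase hb, Multiset.cons_erase ha]⟩
    have ha1 := (hbd a (by simp)).1
    have hb1 := (hbd b (by simp)).1
    have h1 := ih (Multiset.card ((a * b) ::ₘ t)) (by simp at hs ⊢; omega) _ rfl (fun c hc => by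
      rcases Multiset.mem_cons.1 hc with rfl | hc
      · exact ⟨by nlinarith, hab⟩
      · exact hbd c (by simp [hc])) (by simpa [mul_assoc] using hprod)
    simp only [Multiset.map_cons, Multiset.sum_cons] at h1 ⊢
    have key : a * a - 1 + (b * b - 1) ≤ a * b * (a * b) - 1 := by
      obtain ⟨i, hi⟩ : ∃ i, a * a = i + 1 := ⟨a * a - 1, (Nat.sub_add_cancel (by nlinarith)).symm⟩
      obtain ⟨j, hj⟩ : ∃ j, b * b = j + 1 := ⟨b * b - 1, (Nat.sub_add_cancel (by nlinarith)).symm⟩
      rw [hi, hj, show a * b * (a * b) = (a * a) * (b * b) by ring, hi, hj,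
        show (i + 1) * (j + 1) = i * j + i + j + 1 by ring]
      simp only [Nat.add_sub_cancel]
      omega
    omega
  push Not at hm
  by_cases hcard : Multiset.card s ≤ k
  · calc (s.map fun c => c * c - 1).sum
        ≤ Multiset.card (s.map fun c => c * c - 1) • (B * B - 1) := by
          refine Multiset.sum_le_card_nsmul _ _ fun x hx => ?_
          obtain ⟨c, hc, rfl⟩ := Multiset.mem_map.1 hx
          exact Nat.sub_le_sub_right (Nat.mul_self_le_mul_self (hbd c hc).2) 1
      _ ≤ k * (B * B - 1) := by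
          rw [Multiset.card_map, smul_eq_mul]
          exact Nat.mul_le_mul_right _ hcard
  exfalso
  have hpull : ∀ t : Multiset ℕ, 0 < Multiset.card t → ∃ a t', t = a ::ₘ t' := fun t ht => by
    obtain ⟨a, ha⟩ := Multiset.card_pos_iff_exists_mem.1 ht
    exact ⟨a, t.erase a, (Multiset.cons_erase ha).symm⟩
  have hk2 : 2 ≤ k := by rcases h with ⟨rfl, -⟩ | ⟨rfl, -⟩ <;> omega
  obtain ⟨a, s1, rfl⟩ := hpull s (by omega)
  obtain ⟨b, s2, rfl⟩ := hpull s1 (by simp at hcard ⊢; omega)
  obtain ⟨c, s3, rfl⟩ := hpull s2 (by simp at hcard ⊢; omega)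
  have hab := hm a (by simp) b (by simp)
  have hac := hm a (by simp) c (by simp)
  have hbc := hm b (by simp) c (by
    by_cases e : b = a
    · subst e; simp
    · rw [Multiset.erase_cons_tail _ (Ne.symm e), Multiset.erase_cons_head]; simp)
  simp only [Multiset.prod_cons] at hprod
  have hs3 : 1 ≤ s3.prod := by
    refine Multiset.one_le_prod_of_one_le fun x hx => (hbd x (by simp [hx])).1
  rcases h with ⟨-, hN⟩ | ⟨rfl, hN⟩
  · have h1 : a * b * c ≤ N := le_trans (by nlinarith [Nat.zero_le (a * b * c)]) hprod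
    have h2 : B * B * B < (a * b * c) * (a * b * c) := by
      have := Nat.mul_lt_mul'' (Nat.mul_lt_mul'' hab hac) hbc
      calc B * B * B < a * b * (a * c) * (b * c) := this
        _ = (a * b * c) * (a * b * c) := by ring
    have h3 := Nat.mul_self_le_mul_self h1
    omega
  · obtain ⟨d, s4, rfl⟩ := hpull s3 (by simp at hcard ⊢; omega)
    have hcd : B < c * d := by
      by_cases e1 : c = a
      · subst e1; exact hm c (by simp) d (by simp)
      refine hm c (by simp) d ?_
      rw [Multiset.erase_cons_tail _ (Ne.symm e1)]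
      by_cases e2 : c = b
      · subst e2; simp
      rw [Multiset.erase_cons_tail _ (Ne.symm e2), Multiset.erase_cons_head]; simp
    simp only [Multiset.prod_cons] at hprod
    have hs4 : 1 ≤ s4.prod := by
      refine Multiset.one_le_prod_of_one_le fun x hx => (hbd x (by simp [hx])).1
    have h1 : a * b * (c * d) ≤ N := le_trans (by
      calc a * b * (c * d) = a * (b * (c * (d * 1))) := by ring
        _ ≤ a * (b * (c * (d * s4.prod))) := by gcongr) hprod
    have h2 := Nat.mul_lt_mul'' hab hcd
    omega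

theorem bins {ι : Type*} (s : Finset ι) (f : ι → ℕ) (k B N : ℕ) (hB : 1 ≤ B)
    (h : (k = 2 ∧ N * N ≤ B * B * B) ∨ (k = 3 ∧ N ≤ B * B)) (hf : ∀ i ∈ s, 1 ≤ f i ∧ f i ≤ B)
    (hp : ∏ i ∈ s, f i ≤ N) : ∑ i ∈ s, (f i * f i - 1) ≤ k * (B * B - 1) := by
  have := bins_multiset k B N hB h _ (s.val.map f) rfl (fun c hc => by
    obtain ⟨i, hi, rfl⟩ := Multiset.mem_map.1 hc
    exact hf i hi) (by simpa using hp)
  simpa [Multiset.map_map, Function.comp_def] using this

end Bins

section Eigen

open Module

theorem sum_finrank_eigenspace_le {K V : Type*} [Field K] [AddCommGroup V] [Module K V]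
    [FiniteDimensional K V] (T : Module.End K V) (s : Finset K) :
    ∑ μ ∈ s, finrank K (T.eigenspace μ) ≤ finrank K V := by
  classical
  refine le_trans ?_ (Submodule.finrank_le (⨆ μ ∈ s, T.eigenspace μ))
  induction s using Finset.induction with
  | empty => simp
  | insert a t ha ih =>
    have hd : Disjoint (T.eigenspace a) (⨆ μ ∈ t, T.eigenspace μ) :=
      (Module.End.eigenspaces_iSupIndep T).disjoint_biSup (y := (t : Set K)) (by simpa using ha)
    rw [Finset.sum_insert ha, Finset.iSup_insert]
    have h := Submodule.finrank_sup_add_finrank_inf_eq (T.eigenspace a) (⨆ μ ∈ t, T.eigenspace μ)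
    rw [hd.eq_bot, finrank_bot, add_zero] at h
    omega

end Eigen

end Cfsg.Agent.OddBase75Alg
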