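import Mathlib
import Cfsg.Agent.Lib.OddBaseAlg75
import Cfsg.Agent.Lib.KGBound86Basic

/-!
The order of a group of automorphisms of an abelian group of square-free exponent preserving a
nondegenerate alternating pairing.
-/

set_option autoImplicit false

namespace Cfsg.Agent.KGBound86

universe u v

/-- Bound for the order of the isometry group of a section of order `e ^ 2`. -/
def spBound (e : ℕ) : ℕ :=
  if e < 16 then [1, 1, 6, 24, 720, 120, 144, 336, 1451520, 51840, 720, 1320, 17280, 2184, 2016,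
    2880].getD e 0
  else 11 ^ (e - 2) / e ^ 2

theorem pow_six_le : ∀ e : ℕ, 16 ≤ e → e ^ 6 * 1451520 ≤ 11 ^ (e - 2) := by
  intro e he
  induction e, he using Nat.le_induction with
  | base => norm_num
  | succ n hn ih =>
    have h1 : (n + 1) ^ 6 ≤ 11 * n ^ 6 := by
      have h2 : 5 * (n + 1) ≤ 6 * n := by omega
      have h3 := Nat.pow_le_pow_left h2 6
      rw [mul_pow, mul_pow] at h3
      have h4 : 5 ^ 6 * (n + 1) ^ 6 ≤ 5 ^ 6 * (11 * n ^ 6) := h3.trans (by
        rw [← mul_assoc]; exact Nat.mul_le_mul_right _ (by norm_num))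
      exact Nat.le_of_mul_le_mul_left h4 (by norm_num)
    rw [show n + 1 - 2 = (n - 2) + 1 by omega, pow_succ]
    calc (n + 1) ^ 6 * 1451520 ≤ 11 * n ^ 6 * 1451520 := Nat.mul_le_mul_right _ h1
      _ = 11 * (n ^ 6 * 1451520) := by ring
      _ ≤ 11 * 11 ^ (n - 2) := Nat.mul_le_mul_left _ ih
      _ = _ := by ring

theorem eleven_le : ∀ e : ℕ, 9 ≤ e → e ^ 2 * spBound e ≤ 11 ^ (e - 2) := by
  intro e he
  by_cases h : e < 16
  · interval_cases e <;> decide
  · rw [spBound, if_neg h]
    exact Nat.mul_div_le _ _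

/-- The recursion satisfied by the bound. -/
theorem spBound_step {e r v : ℕ} (hr : r.Prime) (hv : 1 ≤ v) (hdvd : r ^ v ∣ e) (he : 0 < e) :
    (r ^ (2 * v) - 1) * (r ^ (2 * v) / r) * spBound (e / r) ≤ spBound e := by
  have hre : r ^ v ≤ e := Nat.le_of_dvd he hdvd
  have hr2 := hr.two_le
  by_cases h16 : e < 16
  · have hvr : r ≤ r ^ v := Nat.le_self_pow (by omega) r
    have hv4 : v < 4 := by
      by_contra h4
      have h5 : 2 ^ 4 ≤ 2 ^ v := Nat.pow_le_pow_right (by norm_num) (by omega)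
      have h6 : 2 ^ v ≤ r ^ v := Nat.pow_le_pow_left hr2 v
      omega
    have hlist : r ∈ [2, 3, 5, 7, 11, 13] := by
      have : r < 16 := by omega
      interval_cases r <;> first | decide | (exfalso; norm_num at hr)
    have key : ∀ e < 16, ∀ r ∈ [2, 3, 5, 7, 11, 13], ∀ v < 4, 1 ≤ v → 0 < e → r ^ v ∣ e →
        (r ^ (2 * v) - 1) * (r ^ (2 * v) / r) * spBound (e / r) ≤ spBound e := by
      decide +kernel
    exact key e h16 r hlist v hv4 hv he hdvd
  push Not at h16
  have hsq : r ^ (2 * v) ≤ e ^ 2 := by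
    rw [mul_comm, pow_mul]; exact Nat.pow_le_pow_left hre 2
  have h4 : (r ^ (2 * v) - 1) * (r ^ (2 * v) / r) ≤ e ^ 4 := by
    calc _ ≤ e ^ 2 * e ^ 2 := Nat.mul_le_mul (by omega) ((Nat.div_le_self _ _).trans hsq)
      _ = _ := by ring
  have hr' : r ∣ e := (dvd_pow_self r (by omega)).trans hdvd
  have hlt : e / r * 2 ≤ e := by
    calc e / r * 2 ≤ e / r * r := Nat.mul_le_mul_left _ hr2
      _ = e := Nat.div_mul_cancel hr'
  have hpos : 0 < e / r := Nat.div_pos (Nat.le_of_dvd he hr') hr.pos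
  refine (Nat.mul_le_mul_right _ h4).trans ?_
  rw [show spBound e = 11 ^ (e - 2) / e ^ 2 from if_neg (by omega),
    Nat.le_div_iff_mul_le (by positivity)]
  by_cases hs : e / r < 16
  · have hb : spBound (e / r) ≤ 1451520 := by
      generalize e / r = d at hs
      interval_cases d <;> decide
    calc e ^ 4 * spBound (e / r) * e ^ 2 = e ^ 6 * spBound (e / r) := by ring
      _ ≤ e ^ 6 * 1451520 := Nat.mul_le_mul_left _ hb
      _ ≤ _ := pow_six_le e h16
  · rw [show spBound (e / r) = 11 ^ (e / r - 2) / (e / r) ^ 2 from if_neg hs]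
    calc e ^ 4 * (11 ^ (e / r - 2) / (e / r) ^ 2) * e ^ 2
        ≤ e ^ 4 * 11 ^ (e / r - 2) * e ^ 2 :=
          Nat.mul_le_mul_right _ (Nat.mul_le_mul_left _ (Nat.div_le_self _ _))
      _ = e ^ 6 * 11 ^ (e / r - 2) := by ring
      _ ≤ 11 ^ (e / 2) * 11 ^ (e / r - 2) := Nat.mul_le_mul_right _ ?_
      _ = 11 ^ (e / 2 + (e / r - 2)) := by rw [pow_add]
      _ ≤ _ := Nat.pow_le_pow_right (by norm_num) (by omega)
    have key : ∀ d, 16 ≤ d → (2 * d + 1) ^ 6 ≤ 11 ^ d := by
      intro d hd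
      induction d, hd using Nat.le_induction with
      | base => norm_num
      | succ n hn ih =>
        have h2 : 5 * (2 * (n + 1) + 1) ≤ 6 * (2 * n + 1) := by omega
        have h3 := Nat.pow_le_pow_left h2 6
        rw [mul_pow, mul_pow] at h3
        have h5 : 5 ^ 6 * (2 * (n + 1) + 1) ^ 6 ≤ 5 ^ 6 * (11 * (2 * n + 1) ^ 6) := h3.trans (by
          rw [← mul_assoc]; exact Nat.mul_le_mul_right _ (by norm_num))
        refine (Nat.le_of_mul_le_mul_left h5 (by norm_num)).trans ?_
        rw [pow_succ 11 n, mul_comm]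
        exact Nat.mul_le_mul_right _ ih
    exact (Nat.pow_le_pow_left (show e ≤ 2 * (e / 2) + 1 by omega) 6).trans
      (key (e / 2) (by omega))

section Isometry

variable {D : Type*} [CommGroup D] [Finite D] [IsCyclic D]

theorem card_isometry_gen (F : ℕ → ℕ) (hF₁ : ∀ e < 2, 1 ≤ F e)
    (hF : ∀ e, 2 ≤ e → (e.minFac ^ (2 * e.factorization e.minFac) - 1) *
      (e.minFac ^ (2 * e.factorization e.minFac) / e.minFac) * F (e / e.minFac) ≤ F e) :
    ∀ (e : ℕ) (M : Type u) [CommGroup M] [Finite M] (b : M →* (M →* D))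
    (R : Type v) [Group R] [Finite R] [MulDistribMulAction R M],
    Nat.card M = e * e → (∀ x, b x x = 1) → (∀ x, b x = 1 → x = 1) →
    (∀ (r : ℕ) (x : M), r.Prime → x ^ (r * r) = 1 → x ^ r = 1) →
    (∀ g : R, (∀ m : M, g • m = m) → g = 1) → (∀ (g : R) m m', b (g • m) (g • m') = b m m') →
    Nat.card R ≤ F e := by
  intro e
  induction e using Nat.strong_induction_on with
  | _ e ih =>
  intro M _ _ b R _ _ _ hM halt hnd hsf hfaith hpres
  classical
  rcases Nat.lt_or_ge e 2 with he1 | he1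
  · have : Subsingleton M := Finite.card_le_one_iff_subsingleton.1 (by nlinarith)
    have hR : Subsingleton R := ⟨fun g h => by
      rw [hfaith g fun m => Subsingleton.elim _ _, hfaith h fun m => Subsingleton.elim _ _]⟩
    rw [Nat.card_of_subsingleton (1 : R)]
    exact hF₁ e he1
  set r := e.minFac with hrdef
  have hr : r.Prime := Nat.minFac_prime (by omega)
  haveI := Fact.mk hr
  have hre : r ∣ e := Nat.minFac_dvd e
  set v := e.factorization r with hvdef
  have hv1 : 1 ≤ v := hr.factorization_pos_of_dvd (by omega) hre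
  -- the `r`-part
  let Mr : Subgroup M := (powMonoidHom r : M →* M).ker
  have hMr : ∀ x : M, x ∈ Mr ↔ x ^ r = 1 := fun x => MonoidHom.mem_ker
  have hrpow : ∀ (j : ℕ) (x : M), x ^ r ^ j = 1 → x ^ r = 1 := by
    intro j
    induction j with
    | zero => intro x hx; rw [pow_zero, pow_one] at hx; rw [hx, one_pow]
    | succ j ihj =>
      intro x hx
      rw [pow_succ', pow_mul] at hx
      refine hsf r x hr ?_
      rw [pow_mul]
      exact ihj _ hx
  have hcardMr : Nat.card Mr = r ^ (2 * v) := by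
    obtain ⟨P⟩ : Nonempty (Sylow r M) := inferInstance
    have hp : IsPGroup r Mr := fun x => ⟨1, Subtype.ext (by
      rw [pow_one, Subgroup.coe_pow]; exact (hMr _).1 x.2)⟩
    have hle : (P : Subgroup M) ≤ Mr := fun x hx => by
      obtain ⟨j, hj⟩ := P.isPGroup' ⟨x, hx⟩
      exact (hMr x).2 (hrpow j x (congrArg Subtype.val hj))
    rw [P.is_maximal' hp hle, P.card_eq_multiplicity, hM, Nat.factorization_mul (by omega) (by omega),
      Finsupp.add_apply, ← two_mul]
  obtain ⟨x, hx1, hx⟩ : ∃ x : M, x ≠ 1 ∧ x ∈ Mr := by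
    have : Mr ≠ ⊥ := by
      intro h
      rw [h, Subgroup.card_bot] at hcardMr
      have : 2 ^ 1 ≤ r ^ (2 * v) :=
        (Nat.pow_le_pow_left hr.two_le 1).trans (Nat.pow_le_pow_right hr.pos (by omega))
      omega
    obtain ⟨x, hx, hx1⟩ := Mr.bot_or_exists_ne_one.resolve_left this
    exact ⟨x, hx1, hx⟩
  have hbx : ∀ c z : M, c ^ r = 1 → (b c z) ^ r = 1 := fun c z hc => by
    rw [← MonoidHom.pow_apply, ← map_pow, hc, map_one, MonoidHom.one_apply]
  obtain ⟨z, hz⟩ : ∃ z, b x z ≠ 1 := by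
    by_contra hall
    push Not at hall
    exact hx1 (hnd x (MonoidHom.ext hall))
  set s := ordCompl[r] (Nat.card M) with hsdef
  set y := z ^ s with hydef
  have hy : y ∈ Mr := (hMr y).2 (hrpow ((Nat.card M).factorization r) y (by
    rw [hydef, ← pow_mul, mul_comm, Nat.ordProj_mul_ordCompl_eq_self, pow_card_eq_one']))
  set ω := b x y with hωdef
  have hω1 : ω ≠ 1 := by
    intro h
    rw [hωdef, hydef, map_pow] at h
    have h2 := hbx x z ((hMr x).1 hx)
    have hcop : Nat.Coprime r s := Nat.coprime_ordCompl hr Nat.card_pos.ne'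
    refine hz ?_
    have h3 := pow_gcd_eq_one.2 ⟨h2, h⟩
    rwa [hcop, pow_one] at h3
  have hωr : orderOf ω = r := orderOf_eq_prime (hbx x y ((hMr x).1 hx)) hω1
  -- orbit of the pair
  let T := {p : Mr × Mr // b (p.1 : M) (p.2 : M) = ω}
  have hT : Nat.card T ≤ (r ^ (2 * v) - 1) * (r ^ (2 * v) / r) := by
    let f : T → {a : Mr // a ≠ 1} := fun p => ⟨p.1.1, fun h => hω1 (by
      rw [← p.2, h, Subgroup.coe_one, map_one, MonoidHom.one_apply])⟩
    refine (card_le_mul_of_fibre f (r ^ (2 * v) / r) fun a => ?_).trans (le_of_eq ?_)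
    · let φ : Mr →* D := (b (a.1 : M)).comp Mr.subtype
      rcases isEmpty_or_nonempty {p : T // f p = a} with he | ⟨⟨p₀, hp₀⟩⟩
      · simp
      have hω : ω ∈ φ.range := ⟨p₀.1.2, by
        have h1 := p₀.2
        rwa [show p₀.1.1 = a.1 from congrArg Subtype.val hp₀] at h1⟩
      have hdvd : r ∣ φ.ker.index := by
        rw [Subgroup.index_ker, ← hωr, ← Nat.card_zpowers]
        exact Subgroup.card_dvd_of_le (Subgroup.zpowers_le.2 hω)
      have h1 : Nat.card φ.ker ≤ r ^ (2 * v) / r := by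
        rw [Nat.le_div_iff_mul_le hr.pos, ← hcardMr, ← φ.ker.card_mul_index]
        exact Nat.mul_le_mul_left _ (Nat.le_of_dvd (Nat.pos_of_ne_zero Subgroup.index_ne_zero_of_finite) hdvd)
      refine le_trans ?_ h1
      have hfib : ∀ p : {p : T // f p = a}, φ p.1.1.2 = ω := fun p => by
        have h1 := p.1.2
        rwa [show p.1.1.1 = a.1 from congrArg Subtype.val p.2] at h1
      refine Nat.card_le_card_of_injective (fun p => (⟨p₀.1.2⁻¹ * p.1.1.2, by
        rw [MonoidHom.mem_ker, map_mul, map_inv, hfib p, hfib ⟨p₀, hp₀⟩, inv_mul_cancel]⟩ : φ.ker))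
        fun p q h => ?_
      refine Subtype.ext (Subtype.ext (Prod.ext ?_ (mul_left_cancel (congrArg Subtype.val h))))
      rw [show p.1.1.1 = a.1 from congrArg Subtype.val p.2,
        show q.1.1.1 = a.1 from congrArg Subtype.val q.2]
    · haveI := Fintype.ofFinite Mr
      rw [Nat.card_eq_fintype_card (α := {a : Mr // a ≠ 1}), Fintype.card_subtype_compl,
        Fintype.card_subtype_eq, ← Nat.card_eq_fintype_card, hcardMr]
  have hmem : ∀ (g : R) (a : M), a ∈ Mr → g • a ∈ Mr := fun g a ha => by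
    rw [hMr, ← smul_pow', (hMr a).1 ha, smul_one]
  have horb : (MulAction.stabilizer R ((x, y) : M × M)).index ≤ Nat.card T := by
    rw [MulAction.index_stabilizer, ← Nat.card_coe_set_eq]
    refine Nat.card_le_card_of_injective (fun q => (⟨(⟨q.1.1, ?_⟩, ⟨q.1.2, ?_⟩), ?_⟩ : T))
      fun p q h => ?_
    · obtain ⟨g, hg⟩ := q.2
      rw [← hg]; exact hmem g x hx
    · obtain ⟨g, hg⟩ := q.2
      rw [← hg]; exact hmem g y hy
    · obtain ⟨g, hg⟩ := q.2
      show b q.1.1 q.1.2 = ω
      rw [← hg]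
      exact hpres g x y
    · exact Subtype.ext (Prod.ext (congrArg (fun t : T => (t.1.1 : M)) h)
        (congrArg (fun t : T => (t.1.2 : M)) h))
  -- the orthogonal complement
  let ψ : M →* D × D := (b x).prod (b y)
  have hk : ∀ c : M, c ∈ Mr → ∀ u, b c u ∈ Subgroup.zpowers ω := by
    intro c hc u
    haveI : Fintype D := Fintype.ofFinite D
    have hS : {a : D | a ^ r = 1}.ncard ≤ r := by
      rw [Set.ncard_eq_toFinset_card', Set.toFinset_ofPred]
      exact IsCyclic.card_pow_eq_one_le hr.pos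
    have hsub : (Subgroup.zpowers ω : Set D) ⊆ {a : D | a ^ r = 1} := by
      rintro _ ⟨i, rfl⟩
      show (ω ^ i) ^ r = 1
      rw [← zpow_natCast, ← zpow_mul, mul_comm, zpow_mul, zpow_natCast, ← hωr, pow_orderOf_eq_one,
        one_zpow]
    have heq := Set.eq_of_subset_of_ncard_le hsub (by
      rw [← Nat.card_coe_set_eq (Subgroup.zpowers ω : Set D)]
      exact hS.trans (hωr ▸ Nat.card_zpowers ω).ge) (Set.toFinite _)
    have hzm : b c u ∈ {a : D | a ^ r = 1} := hbx c u ((hMr c).1 hc)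
    rw [← heq] at hzm
    exact hzm
  have hanti := OddBase75Alg.antisymm b halt
  have hrange : ψ.range = (Subgroup.zpowers ω).prod (Subgroup.zpowers ω) := by
    refine le_antisymm ?_ ?_
    · rintro _ ⟨u, rfl⟩
      exact Subgroup.mem_prod.2 ⟨hk x hx u, hk y hy u⟩
    · rintro ⟨p, q⟩ hpq
      obtain ⟨⟨i, rfl⟩, ⟨j, rfl⟩⟩ := Subgroup.mem_prod.1 hpq
      refine ⟨y ^ i * (x ^ j)⁻¹, Prod.ext ?_ ?_⟩
      · show b x _ = ω ^ i
        rw [map_mul, map_inv, map_zpow, map_zpow, ← hωdef, halt, one_zpow, inv_one, mul_one]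
      · show b y _ = ω ^ j
        rw [map_mul, map_inv, map_zpow, map_zpow, halt, hanti x y, ← hωdef, one_zpow, one_mul,
          inv_zpow, inv_inv]
  have hidx : ψ.ker.index = r * r := by
    rw [Subgroup.index_ker, hrange, ← hωr, ← Nat.card_zpowers]
    exact (Nat.card_congr (Subgroup.prodEquiv _ _).toEquiv).trans (Nat.card_prod _ _)
  have hdecomp : ∀ u : M, ∃ i j : ℤ, u * (y ^ i)⁻¹ * x ^ j ∈ ψ.ker := by
    intro u
    have hu : ψ u ∈ ψ.range := ⟨u, rfl⟩
    rw [hrange, Subgroup.mem_prod] at hu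
    obtain ⟨⟨i, hi⟩, ⟨j, hj⟩⟩ := hu
    have hi' : ω ^ i = b x u := hi
    have hj' : ω ^ j = b y u := hj
    refine ⟨i, j, MonoidHom.mem_ker.2 (Prod.ext ?_ ?_)⟩
    · show b x _ = 1
      rw [map_mul, map_mul, map_inv, map_zpow, map_zpow, ← hωdef, halt, one_zpow, mul_one, hi',
        mul_inv_cancel]
    · show b y _ = 1
      rw [map_mul, map_mul, map_inv, map_zpow, map_zpow, halt, hanti x y, ← hωdef, one_zpow,
        inv_one, mul_one, inv_zpow, hj', mul_inv_cancel]
  let b' : ψ.ker →* (ψ.ker →* D) :=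
    { toFun := fun c => (b c).comp ψ.ker.subtype
      map_one' := by ext; simp
      map_mul' := fun c c' => by ext; simp }
  have hnd' : ∀ c : ψ.ker, b' c = 1 → c = 1 := by
    intro c hc
    refine Subtype.ext (hnd _ (MonoidHom.ext fun u => ?_))
    obtain ⟨i, j, hu⟩ := hdecomp u
    have h1 : b (c : M) (u * (y ^ i)⁻¹ * x ^ j) = 1 := DFunLike.congr_fun hc ⟨_, hu⟩
    have hzk : b x (c : M) = 1 ∧ b y (c : M) = 1 :=
      ⟨congrArg Prod.fst (c.2 : ψ c = 1), congrArg Prod.snd (c.2 : ψ c = 1)⟩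
    have hcx : b (c : M) x = 1 := by rw [hanti x (c : M), hzk.1, inv_one]
    have hcy : b (c : M) y = 1 := by rw [hanti y (c : M), hzk.2, inv_one]
    rw [map_mul, map_mul, map_inv, map_zpow, map_zpow, hcx, hcy, one_zpow, one_zpow, inv_one,
      mul_one, mul_one] at h1
    rw [h1]
    rfl
  set S := MulAction.stabilizer R ((x, y) : M × M) with hSdef
  have hSx : ∀ g : S, (g : R) • x = x ∧ (g : R) • y = y := fun g =>
    ⟨congrArg Prod.fst (g.2 : (g : R) • (x, y) = (x, y)),
      congrArg Prod.snd (g.2 : (g : R) • (x, y) = (x, y))⟩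
  have hker : ∀ (g : S) (c : ψ.ker), (g : R) • (c : M) ∈ ψ.ker := fun g c => by
    have hc : b x c = 1 ∧ b y c = 1 :=
      ⟨congrArg Prod.fst (c.2 : ψ c = 1), congrArg Prod.snd (c.2 : ψ c = 1)⟩
    refine MonoidHom.mem_ker.2 (Prod.ext ?_ ?_)
    · show b x ((g : R) • (c : M)) = 1
      rw [← (hSx g).1, hpres, hc.1]
    · show b y ((g : R) • (c : M)) = 1
      rw [← (hSx g).2, hpres, hc.2]
  letI : MulDistribMulAction S ψ.ker :=
    { smul := fun g c => ⟨(g : R) • (c : M), hker g c⟩
      one_smul := fun c => Subtype.ext (one_smul R (c : M))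
      mul_smul := fun g h c => Subtype.ext (mul_smul (g : R) (h : R) (c : M))
      smul_mul := fun g c d => Subtype.ext (smul_mul' (g : R) (c : M) (d : M))
      smul_one := fun g => Subtype.ext (smul_one (g : R)) }
  have hcard : Nat.card ψ.ker = e / r * (e / r) := by
    have h := ψ.ker.card_mul_index
    rw [hidx, hM] at h
    obtain ⟨c, hc⟩ := hre
    rw [hc, Nat.mul_div_cancel_left _ hr.pos]
    rw [hc] at h
    exact Nat.eq_of_mul_eq_mul_right (Nat.mul_pos hr.pos hr.pos) (h.trans (by ring))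
  have hS := ih (e / r) (Nat.div_lt_self (by omega) hr.one_lt) ψ.ker b' S hcard
    (fun c => halt c) hnd'
    (fun q c hq hc => Subtype.ext (hsf q c hq (congrArg Subtype.val hc)))
    (fun g hg => Subtype.ext (hfaith g fun u => by
      obtain ⟨i, j, hu⟩ := hdecomp u
      have h1 : (g : R) • (u * (y ^ i)⁻¹ * x ^ j) = u * (y ^ i)⁻¹ * x ^ j :=
        congrArg Subtype.val (hg ⟨_, hu⟩)
      have hp : ∀ (c : M) (k : ℤ), (g : R) • c = c → (g : R) • c ^ k = c ^ k := fun c k hc => by
        rw [show (g : R) • c ^ k = MulDistribMulAction.toMonoidHom M (g : R) (c ^ k) from rfl,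
          map_zpow]
        exact congrArg (· ^ k) hc
      rw [smul_mul', smul_mul', smul_inv', hp _ _ (hSx g).1, hp _ _ (hSx g).2] at h1
      exact mul_right_cancel (mul_right_cancel h1)))
    (fun g c c' => hpres (g : R) (c : M) (c' : M))
  calc Nat.card R = Nat.card S * S.index := S.card_mul_index.symm
    _ ≤ F (e / r) * ((r ^ (2 * v) - 1) * (r ^ (2 * v) / r)) :=
        Nat.mul_le_mul hS (horb.trans hT)
    _ ≤ F e := by
        rw [mul_comm]; exact hF e he1

theorem card_isometry_le (e : ℕ) (M : Type u) [CommGroup M] [Finite M] (b : M →* (M →* D))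
    (R : Type v) [Group R] [Finite R] [MulDistribMulAction R M] (hM : Nat.card M = e * e)
    (halt : ∀ x, b x x = 1) (hnd : ∀ x, b x = 1 → x = 1)
    (hsf : ∀ (r : ℕ) (x : M), r.Prime → x ^ (r * r) = 1 → x ^ r = 1)
    (hfaith : ∀ g : R, (∀ m : M, g • m = m) → g = 1)
    (hpres : ∀ (g : R) m m', b (g • m) (g • m') = b m m') : Nat.card R ≤ spBound e :=
  card_isometry_gen spBound (fun e he => by interval_cases e <;> decide)
    (fun e he => spBound_step (Nat.minFac_prime (by omega))
      ((Nat.minFac_prime (by omega)).factorization_pos_of_dvd (by omega) (Nat.minFac_dvd e))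
      (Nat.ordProj_dvd e _) (by omega))
    e M b R hM halt hnd hsf hfaith hpres

end Isometry

end Cfsg.Agent.KGBound86
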