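/-
The section `E / A` of a primitive solvable linear group, `A` a maximal abelian normal subgroup: it
carries a nondegenerate alternating pairing into the multiplicative group of the field spanned by `A`.
-/
import Mathlib
import Cfsg.Agent.Lib.OddBaseField75
import Cfsg.Agent.Lib.OddBaseAlg75

set_option autoImplicit false

namespace Cfsg.Agent.OddBase75

open MulAction
open scoped commutatorElement

universe v

/-- A maximal abelian normal subgroup spanning a field. -/
structure Prim (G V : Type v) [Group G] [AddCommGroup V] [DistribMulAction G V] where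
  A : Subgroup G
  normal : A.Normal
  ab : ∀ a ∈ A, ∀ b ∈ A, a * b = b * a
  hmax : ∀ B : Subgroup G, B.Normal → A ≤ B → (∀ a ∈ B, ∀ b ∈ B, a * b = b * a) → B = A
  inv : ∀ r ∈ ringOf (V := V) A, r ≠ 0 → ∃ s ∈ ringOf A, r * s = 1

namespace Prim

variable {G V : Type v} [Group G] [AddCommGroup V] [DistribMulAction G V] [Nontrivial V]
  (P : Prim G V)

instance : P.A.Normal := P.normal

/-- The field spanned by `A`. -/
abbrev K : Type v := ↥(ringOf (V := V) P.A)

instance [Finite V] : Finite P.K :=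
  haveI : Finite (AddMonoid.End V) := finite_end
  Finite.of_injective Subtype.val Subtype.val_injective

theorem isField : IsField P.K where
  exists_pair_ne := ⟨0, 1, fun h => by
    obtain ⟨x, hx⟩ := exists_ne (0 : V)
    exact hx (DFunLike.congr_fun (congrArg Subtype.val h) x).symm⟩
  mul_comm a b := Subtype.ext (ringOf_comm P.ab a.2 b.2)
  mul_inv_cancel {a} ha := by
    obtain ⟨s, hs, h⟩ := P.inv a a.2 (fun h => ha (Subtype.ext h))
    exact ⟨⟨s, hs⟩, Subtype.ext h⟩

noncomputable instance : Field P.K := P.isField.toField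

/-- The centraliser of `A`. -/
abbrev C : Subgroup G := Subgroup.centralizer (P.A : Set G)

theorem mem_C {g : G} : g ∈ P.C ↔ ∀ a ∈ P.A, g * a = a * g := by
  rw [Subgroup.mem_centralizer_iff]
  exact ⟨fun h a ha => (h a ha).symm, fun h a ha => (h a ha).symm⟩

theorem A_le_C : P.A ≤ P.C := fun _ ha => P.mem_C.2 fun b hb => P.ab _ ha b hb

theorem C_smul {g : G} (hg : g ∈ P.C) (r : P.K) (x : V) : g • (r • x) = r • (g • x) := by
  show g • (r : AddMonoid.End V) x = (r : AddMonoid.End V) (g • x)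
  rw [smul_end, cj_eq_self (P.mem_C.1 hg) r.2]

/-- An element of `C` as a linear map. -/
noncomputable def op (g : P.C) : Module.End P.K V where
  toFun x := (g : G) • x
  map_add' := smul_add _
  map_smul' r x := P.C_smul g.2 r x

@[simp] theorem op_apply (g : P.C) (x : V) : P.op g x = (g : G) • x := rfl

theorem rhoMem (a : P.A) : (rho (a : G) : AddMonoid.End V) ∈ ringOf P.A := rho_mem a.2

/-- The scalars of `A`. -/
noncomputable def scHom : P.A →* P.K where
  toFun a := ⟨rho (a : G), P.rhoMem a⟩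
  map_one' := Subtype.ext (map_one rho)
  map_mul' a b := Subtype.ext (map_mul rho (a : G) (b : G))

/-- The scalars of `A`, as units. -/
noncomputable def sc : P.A →* P.Kˣ := P.scHom.toHomUnits

theorem sc_smul (a : P.A) (x : V) : ((P.sc a : P.Kˣ) : P.K) • x = (a : G) • x := rfl

theorem sc_injective [FaithfulSMul G V] : Function.Injective P.sc := fun a b h => by
  refine Subtype.ext (eq_of_smul_eq_smul (α := V) fun x => ?_)
  rw [← P.sc_smul, ← P.sc_smul, h]

theorem fixed_eq_one [FaithfulSMul G V] {a : G} (ha : a ∈ P.A) {x : V} (hx : x ≠ 0)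
    (h : a • x = x) : a = 1 := by
  have h1 : (((P.sc ⟨a, ha⟩ : P.Kˣ) : P.K) - 1) • x = 0 := by
    rw [sub_smul, P.sc_smul, one_smul]
    exact sub_eq_zero.2 h
  have h2 := sub_eq_zero.1 ((smul_eq_zero.1 h1).resolve_right hx)
  have h3 : P.sc ⟨a, ha⟩ = P.sc 1 := by rw [map_one]; exact Units.ext h2
  exact congrArg Subtype.val (P.sc_injective h3)

theorem exists_moved [FaithfulSMul G V] {g : G} (hg : g ∉ P.C) :
    ∃ r : P.K, cj g (r : AddMonoid.End V) ≠ r := by
  by_contra hall
  push Not at hall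
  refine hg (P.mem_C.2 fun a ha => eq_of_smul_eq_smul (α := V) fun x => ?_)
  rw [mul_smul, mul_smul]
  have h := smul_end g (rho a : AddMonoid.End V) x
  rw [hall ⟨_, P.rhoMem ⟨a, ha⟩⟩] at h
  exact h

end Prim

/-- A normal subgroup `E` with abelian, nondegenerate quotient over `A`. -/
structure Symp {G V : Type v} [Group G] [AddCommGroup V] [DistribMulAction G V] (P : Prim G V) where
  E : Subgroup G
  normal : E.Normal
  le : P.A ≤ E
  le_C : E ≤ Subgroup.centralizer (P.A : Set G)
  comm_mem : ∀ x ∈ E, ∀ y ∈ E, ⁅x, y⁆ ∈ P.A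
  nd : ∀ x ∈ Subgroup.centralizer (P.A : Set G), (∀ y ∈ E, x * y = y * x) → x ∈ P.A

theorem exists_symp {G V : Type v} [Group G] [Finite G] [Group.IsSolvable G] [AddCommGroup V]
    [DistribMulAction G V] (P : Prim G V) : Nonempty (Symp P) := by
  classical
  haveI := P.normal
  let Ok : Subgroup G → Prop := fun E => E.Normal ∧ P.A ≤ E ∧
    E ≤ Subgroup.centralizer (P.A : Set G) ∧ (∀ x ∈ E, ∀ y ∈ E, ⁅x, y⁆ ∈ P.A) ∧
    (∀ x ∈ E, (∀ y ∈ E, x * y = y * x) → x ∈ P.A)
  have hA : Ok P.A := ⟨P.normal, le_rfl,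
    fun a ha => Subgroup.mem_centralizer_iff.2 fun b hb => (P.ab a ha b hb).symm,
    fun x hx y hy => by
      rw [commutatorElement_eq_one_iff_mul_comm.2 (P.ab x hx y hy)]; exact one_mem _,
    fun x hx _ => hx⟩
  obtain ⟨E, ⟨hEn, hAE, hEC, hcomm, hndE⟩, hmax⟩ := Set.exists_max_image {E | Ok E}
    (fun E : Subgroup G => Nat.card E) (Set.toFinite _) ⟨P.A, hA⟩
  refine ⟨⟨E, hEn, hAE, hEC, hcomm, ?_⟩⟩
  haveI := hEn
  haveI : (Subgroup.centralizer (P.A : Set G)).Normal := inferInstance
  let D : Subgroup G := Subgroup.centralizer (P.A : Set G) ⊓ Subgroup.centralizer (E : Set G)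
  suffices hD : D ≤ P.A by
    exact fun x hx hxy => hD ⟨hx, Subgroup.mem_centralizer_iff.2 fun y hy => (hxy y hy).symm⟩
  by_contra hD
  have hAD : P.A ≤ D := fun a ha => ⟨Subgroup.mem_centralizer_iff.2 fun b hb => (P.ab a ha b hb).symm,
    Subgroup.mem_centralizer_iff.2 fun y hy => (Subgroup.mem_centralizer_iff.1 (hEC hy) a ha).symm⟩
  haveI : D.Normal := inferInstance
  have hex : ∃ m, D ⊓ derivedSeries G m ≤ P.A := by
    obtain ⟨d, hd⟩ := (Group.isSolvable_def G).1 inferInstance
    exact ⟨d, by rw [hd, inf_bot_eq]; exact bot_le⟩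
  have h0 : Nat.find hex ≠ 0 := fun h => hD (by
    have := Nat.find_spec hex
    rwa [h, derivedSeries_zero, inf_top_eq] at this)
  obtain ⟨m, hm⟩ := Nat.exists_eq_succ_of_ne_zero h0
  have hnot := Nat.find_min hex (m := m) (by omega)
  have hsucc : D ⊓ derivedSeries G (m + 1) ≤ P.A := by
    have := Nat.find_spec hex
    rwa [hm] at this
  haveI : (derivedSeries G m).Normal := derivedSeries_normal G m
  let T : Subgroup G := (D ⊓ derivedSeries G m) ⊔ P.A
  haveI : (D ⊓ derivedSeries G m).Normal := inferInstance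
  haveI hTn : T.Normal := Subgroup.sup_normal _ _
  have hTD : T ≤ D := sup_le inf_le_left hAD
  have hAT : P.A ≤ T := le_sup_right
  have hcent : ∀ a ∈ P.A, ∀ x ∈ D, a * x = x * a := fun a ha x hx =>
    Subgroup.mem_centralizer_iff.1 hx.1 a ha
  have hTc : ∀ x ∈ T, ∀ y ∈ T, ⁅x, y⁆ ∈ P.A := by
    intro x hx y hy
    obtain ⟨u, hu, a, ha, rfl⟩ := Subgroup.mem_sup_of_normal_right.1 hx
    obtain ⟨w, hw, b, hb, rfl⟩ := Subgroup.mem_sup_of_normal_right.1 hy
    have e1 : ⁅u * a, w * b⁆ = ⁅u, w⁆ := by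
      have c1 := hcent a ha u hu.1
      have c2 := hcent a ha (w * b) (mul_mem hw.1 (hAD hb))
      have c3 := hcent b hb u hu.1
      rw [commutatorElement_def, commutatorElement_def]
      calc u * a * (w * b) * (u * a)⁻¹ * (w * b)⁻¹
          = u * (a * (w * b)) * a⁻¹ * u⁻¹ * (w * b)⁻¹ := by group
        _ = u * ((w * b) * a) * a⁻¹ * u⁻¹ * (w * b)⁻¹ := by rw [c2]
        _ = u * w * (b * u⁻¹) * b⁻¹ * w⁻¹ := by group
        _ = u * w * (u⁻¹ * b) * b⁻¹ * w⁻¹ := by rw [hcent b hb u⁻¹ (inv_mem hu.1)]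
        _ = u * w * u⁻¹ * w⁻¹ := by group
    rw [e1]
    refine hsucc (Subgroup.mem_inf.2 ⟨?_, ?_⟩)
    · exact mul_mem (mul_mem (mul_mem hu.1 hw.1) (inv_mem hu.1)) (inv_mem hw.1)
    · rw [derivedSeries_succ]
      exact Subgroup.commutator_mem_commutator hu.2 hw.2
  have hTZ : ∀ t ∈ T, (∀ t' ∈ T, t * t' = t' * t) → t ∈ P.A := by
    let Z : Subgroup G := T ⊓ Subgroup.centralizer (T : Set G)
    haveI : Z.Normal := inferInstance
    intro t ht htt
    have hZ := P.hmax Z inferInstance (fun a ha => ⟨hAT ha,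
      Subgroup.mem_centralizer_iff.2 fun y hy => (hcent a ha y (hTD hy)).symm⟩)
      (fun a ha b hb => (Subgroup.mem_centralizer_iff.1 ha.2 b hb.1).symm)
    rw [← hZ]
    exact ⟨ht, Subgroup.mem_centralizer_iff.2 fun y hy => (htt y hy).symm⟩
  haveI hE'n : (E ⊔ T).Normal := Subgroup.sup_normal _ _
  have hET : ∀ e ∈ E, ∀ t ∈ T, e * t = t * e := fun e he t ht =>
    Subgroup.mem_centralizer_iff.1 (hTD ht).2 e he
  have hOk : Ok (E ⊔ T) := by
    refine ⟨hE'n, hAE.trans le_sup_left, sup_le hEC (hTD.trans inf_le_left), ?_, ?_⟩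
    · intro x hx y hy
      obtain ⟨e, he, t, ht, rfl⟩ := Subgroup.mem_sup_of_normal_right.1 hx
      obtain ⟨e', he', t', ht', rfl⟩ := Subgroup.mem_sup_of_normal_right.1 hy
      have e1 : ⁅e * t, e' * t'⁆ = ⁅e, e'⁆ * ⁅t, t'⁆ := by
        rw [commutatorElement_def, commutatorElement_def, commutatorElement_def]
        calc e * t * (e' * t') * (e * t)⁻¹ * (e' * t')⁻¹
            = e * (t * e') * t' * t⁻¹ * e⁻¹ * t'⁻¹ * e'⁻¹ := by group
          _ = e * (e' * t) * t' * t⁻¹ * e⁻¹ * t'⁻¹ * e'⁻¹ := by rw [hET e' he' t ht]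
          _ = e * e' * (t * t' * t⁻¹ * e⁻¹) * t'⁻¹ * e'⁻¹ := by group
          _ = e * e' * (e⁻¹ * (t * t' * t⁻¹)) * t'⁻¹ * e'⁻¹ := by
              rw [hET e⁻¹ (inv_mem he) (t * t' * t⁻¹) (mul_mem (mul_mem ht ht') (inv_mem ht))]
          _ = e * e' * e⁻¹ * (t * t' * t⁻¹ * t'⁻¹ * e'⁻¹) := by group
          _ = e * e' * e⁻¹ * (e'⁻¹ * (t * t' * t⁻¹ * t'⁻¹)) := by
              rw [hET e'⁻¹ (inv_mem he') (t * t' * t⁻¹ * t'⁻¹)
                (mul_mem (mul_mem (mul_mem ht ht') (inv_mem ht)) (inv_mem ht'))]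
          _ = _ := by group
      rw [e1]
      exact mul_mem (hcomm e he e' he') (hTc t ht t' ht')
    · intro x hx hxy
      obtain ⟨e, he, t, ht, rfl⟩ := Subgroup.mem_sup_of_normal_right.1 hx
      have hte : e ∈ P.A := hndE e he fun y hy => by
        have := hxy y (Subgroup.mem_sup_left hy)
        rw [mul_assoc, ← hET y hy t ht, ← mul_assoc, ← mul_assoc] at this
        exact mul_right_cancel this
      refine mul_mem hte (hTZ t ht fun t' ht' => ?_)
      have := hxy t' (Subgroup.mem_sup_right ht')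
      rw [mul_assoc, ← mul_assoc t', ← hET e he t' ht', mul_assoc e t'] at this
      exact mul_left_cancel this
  have hle : T ≤ E := by
    have h1 := hmax (E ⊔ T) hOk
    exact le_sup_right.trans (Subgroup.eq_of_le_of_card_ge le_sup_left h1).ge
  apply hnot
  intro x hx
  exact hndE x (hle (Subgroup.mem_sup_left hx)) fun y hy =>
    (Subgroup.mem_centralizer_iff.1 hx.1.2 y hy).symm

namespace Symp

variable {G V : Type v} [Group G] [AddCommGroup V] [DistribMulAction G V]
  {P : Prim G V} (S : Symp P)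

instance : S.E.Normal := S.normal

/-- The section. -/
abbrev M : Type v := S.E ⧸ P.A.subgroupOf S.E

theorem mk_eq_one {x : S.E} : ((x : S.M) = 1) ↔ (x : G) ∈ P.A := by
  rw [QuotientGroup.eq_one_iff, Subgroup.mem_subgroupOf]

instance : CommGroup S.M :=
  { (inferInstance : Group S.M) with
    mul_comm := fun a b => by
      induction a using QuotientGroup.induction_on with
      | H x =>
      induction b using QuotientGroup.induction_on with
      | H y =>
      refine QuotientGroup.eq.2 (Subgroup.mem_subgroupOf.2 ?_)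
      have h : ((x * y)⁻¹ * (y * x) : S.E) = ⁅y⁻¹, x⁻¹⁆ := by rw [commutatorElement_def]; group
      rw [h]
      exact S.comm_mem _ (inv_mem y.2) _ (inv_mem x.2) }

theorem comm_A {x a : G} (hx : x ∈ S.E) (ha : a ∈ P.A) : a * x = x * a :=
  Subgroup.mem_centralizer_iff.1 (S.le_C hx) a ha

theorem bracket_left {x y z : G} (hx : x ∈ S.E) (hy : y ∈ S.E) (hz : z ∈ S.E) :
    ⁅x * y, z⁆ = ⁅x, z⁆ * ⁅y, z⁆ := by
  have h := S.comm_A hx (S.comm_mem y hy z hz)
  rw [show ⁅x * y, z⁆ = x * ⁅y, z⁆ * (x⁻¹ * ⁅x, z⁆) by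
    simp only [commutatorElement_def]; group, ← h, ← mul_assoc, mul_inv_cancel_right,
    P.ab _ (S.comm_mem y hy z hz) _ (S.comm_mem x hx z hz)]

theorem bracket_right {x y z : G} (hx : x ∈ S.E) (hy : y ∈ S.E) (hz : z ∈ S.E) :
    ⁅x, y * z⁆ = ⁅x, y⁆ * ⁅x, z⁆ := by
  have h := S.comm_A hy (S.comm_mem x hx z hz)
  rw [show ⁅x, y * z⁆ = ⁅x, y⁆ * (y * ⁅x, z⁆ * y⁻¹) by simp only [commutatorElement_def]; group,
    ← h, mul_inv_cancel_right]

variable [Nontrivial V]

/-- The pairing on `E`. -/
noncomputable def pairE : S.E →* (S.E →* P.Kˣ) :=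
  MonoidHom.mk' (fun x => MonoidHom.mk' (fun y => P.sc ⟨_, S.comm_mem x x.2 y y.2⟩) fun y z => by
      rw [← map_mul]
      exact congrArg P.sc (Subtype.ext (S.bracket_right x.2 y.2 z.2)))
    fun x y => MonoidHom.ext fun z => by
      show P.sc _ = P.sc _ * P.sc _
      rw [← map_mul]
      exact congrArg P.sc (Subtype.ext (S.bracket_left x.2 y.2 z.2))

theorem pairE_right (x : S.E) : P.A.subgroupOf S.E ≤ (S.pairE x).ker := by
  intro y hy
  rw [MonoidHom.mem_ker]
  show P.sc _ = 1
  convert map_one P.sc using 2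
  exact Subtype.ext (commutatorElement_eq_one_iff_mul_comm.2 (S.comm_A x.2 hy).symm)

/-- The pairing, half descended. -/
noncomputable def pairHalf : S.E →* (S.M →* P.Kˣ) :=
  MonoidHom.mk' (fun x => QuotientGroup.lift _ (S.pairE x) (S.pairE_right x)) fun x y =>
    MonoidHom.ext fun m => QuotientGroup.induction_on m fun z => by
      show S.pairE (x * y) z = S.pairE x z * S.pairE y z
      rw [map_mul, MonoidHom.mul_apply]

/-- The pairing. -/
noncomputable def pair : S.M →* (S.M →* P.Kˣ) :=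
  QuotientGroup.lift _ S.pairHalf fun x hx => MonoidHom.ext fun m =>
    QuotientGroup.induction_on m fun z => by
      show P.sc _ = 1
      convert map_one P.sc using 2
      exact Subtype.ext (commutatorElement_eq_one_iff_mul_comm.2 (S.comm_A z.2 hx))

theorem pair_mk (x y : S.E) :
    S.pair (x : S.M) (y : S.M) = P.sc ⟨_, S.comm_mem x x.2 y y.2⟩ := rfl

theorem pair_self (m : S.M) : S.pair m m = 1 := by
  induction m using QuotientGroup.induction_on with
  | H x =>
  rw [S.pair_mk]
  convert map_one P.sc using 2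
  exact Subtype.ext (commutatorElement_self _)

variable [FaithfulSMul G V]

theorem bracket_eq_one_of_pair {x y : S.E} (h : S.pair (x : S.M) (y : S.M) = 1) :
    (x : G) * y = y * x := by
  rw [← map_one P.sc, S.pair_mk] at h
  exact commutatorElement_eq_one_iff_mul_comm.1 (congrArg Subtype.val (P.sc_injective h))

theorem pair_nd (m : S.M) (h : S.pair m = 1) : m = 1 := by
  induction m using QuotientGroup.induction_on with
  | H x =>
  rw [S.mk_eq_one]
  exact S.nd x (S.le_C x.2) fun y hy =>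
    S.bracket_eq_one_of_pair (x := x) (y := ⟨y, hy⟩) (DFunLike.congr_fun h _)

variable [Finite G] [Finite V]

/-- Elements centralising `E ⧸ A` lie in `E`. -/
theorem mem_E_of_central {x : G} (hx : x ∈ P.C) (h : ∀ y ∈ S.E, ⁅x, y⁆ ∈ P.A) : x ∈ S.E := by
  let φE : S.E →* P.Kˣ := MonoidHom.mk' (fun y => P.sc ⟨_, h y y.2⟩) fun y z => by
    rw [← map_mul]
    refine congrArg P.sc (Subtype.ext ?_)
    show ⁅x, (y : G) * z⁆ = ⁅x, (y : G)⁆ * ⁅x, (z : G)⁆
    rw [show ⁅x, (y : G) * z⁆ = ⁅x, (y : G)⁆ * ((y : G) * ⁅x, (z : G)⁆ * (y : G)⁻¹) by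
      simp only [commutatorElement_def]; group, ← S.comm_A y.2 (h z z.2), mul_inv_cancel_right]
  let φ : S.M →* P.Kˣ := QuotientGroup.lift _ φE fun a ha => by
    show P.sc _ = 1
    convert map_one P.sc using 2
    exact Subtype.ext (commutatorElement_eq_one_iff_mul_comm.2 ((P.mem_C.1 hx) _ ha))
  obtain ⟨hfin, hle⟩ := OddBase75Alg.card_unitsHom_le (M := S.M) (K := P.K)
  have hinj : Function.Injective S.pair :=
    (injective_iff_map_eq_one _).2 fun m hm => S.pair_nd m hm
  have hsurj : Function.Surjective S.pair :=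
    ((Nat.bijective_iff_injective_and_card S.pair).2 ⟨hinj,
      le_antisymm (Nat.card_le_card_of_injective _ hinj) hle⟩).2
  obtain ⟨m, hm⟩ := hsurj φ
  obtain ⟨z, rfl⟩ := QuotientGroup.mk_surjective m
  have key : (z : G)⁻¹ * x ∈ P.A := by
    refine S.nd _ (mul_mem (inv_mem (S.le_C z.2)) hx) fun y hy => ?_
    have e := DFunLike.congr_fun hm ((⟨y, hy⟩ : S.E) : S.M)
    rw [S.pair_mk] at e
    have e' : ⁅(z : G), y⁆ = ⁅x, y⁆ := congrArg Subtype.val (P.sc_injective e)
    rw [← commutatorElement_eq_one_iff_mul_comm]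
    calc ⁅(z : G)⁻¹ * x, y⁆ = (z : G)⁻¹ * (⁅x, y⁆ * (⁅(z : G), y⁆)⁻¹) * z := by
          simp only [commutatorElement_def]; group
      _ = 1 := by rw [e', mul_inv_cancel, mul_one, inv_mul_cancel]
  have := mul_mem z.2 (S.le key)
  rwa [mul_inv_cancel_left] at this

/-- Conjugation on the section. -/
def actHom (g : G) : S.M →* S.M :=
  QuotientGroup.map _ _ ((MulAut.conjNormal g : MulAut S.E).toMonoidHom) fun x hx => by
    rw [Subgroup.mem_comap, Subgroup.mem_subgroupOf]
    show ((MulAut.conjNormal g x : S.E) : G) ∈ P.A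
    rw [MulAut.conjNormal_apply]
    exact P.normal.conj_mem _ hx g

theorem actHom_mk (g : G) (x : S.E) : S.actHom g (x : S.M) = (MulAut.conjNormal g x : S.E) := rfl

instance smulM : MulDistribMulAction G S.M where
  smul g m := S.actHom g m
  one_smul m := by
    show S.actHom 1 m = m
    induction m using QuotientGroup.induction_on with
    | H x => rw [actHom_mk, map_one, MulAut.one_apply]
  mul_smul g h m := by
    show S.actHom (g * h) m = S.actHom g (S.actHom h m)
    induction m using QuotientGroup.induction_on with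
    | H x => rw [actHom_mk, map_mul, MulAut.mul_apply, actHom_mk, actHom_mk]
  smul_mul g a b := map_mul (S.actHom g) a b
  smul_one g := map_one (S.actHom g)

instance distribM : DistribMulAction G (Additive S.M) where
  smul g x := Additive.ofMul (g • Additive.toMul x)
  one_smul x := congrArg Additive.ofMul (one_smul G (Additive.toMul x))
  mul_smul g h x := congrArg Additive.ofMul (mul_smul g h (Additive.toMul x))
  smul_zero g := congrArg Additive.ofMul (smul_one g)
  smul_add g x y := congrArg Additive.ofMul (smul_mul' g (Additive.toMul x) (Additive.toMul y))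

theorem smul_mk (g : G) (x : S.E) : g • (x : S.M) = ((MulAut.conjNormal g x : S.E) : S.M) := rfl

theorem mem_E_iff {c : G} (hc : c ∈ P.C) : c ∈ S.E ↔ ∀ m : S.M, c • m = m := by
  constructor
  · intro hcE m
    induction m using QuotientGroup.induction_on with
    | H y =>
    rw [S.smul_mk]
    have : (MulAut.conjNormal c y : S.E) = ⟨c, hcE⟩ * y * (⟨c, hcE⟩ : S.E)⁻¹ :=
      Subtype.ext (MulAut.conjNormal_apply c y)
    rw [this, QuotientGroup.mk_mul, QuotientGroup.mk_mul, QuotientGroup.mk_inv]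
    exact mul_inv_cancel_comm _ _
  · intro h
    refine S.mem_E_of_central hc fun y hy => ?_
    have h1 := h ((⟨y, hy⟩ : S.E) : S.M)
    rw [S.smul_mk, QuotientGroup.eq, Subgroup.mem_subgroupOf] at h1
    have h2 : (MulAut.conjNormal c (⟨y, hy⟩ : S.E) : G) = c * y * c⁻¹ := MulAut.conjNormal_apply c _
    rw [Subgroup.coe_mul, Subgroup.coe_inv, h2] at h1
    have h3 := P.normal.conj_mem _ h1 (c * y * c⁻¹)
    have h4 := inv_mem h3
    rw [commutatorElement_def]
    convert h4 using 1
    group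

theorem pair_smul {c : G} (hc : c ∈ P.C) (m m' : S.M) : S.pair (c • m) (c • m') = S.pair m m' := by
  induction m using QuotientGroup.induction_on with
  | H x =>
  induction m' using QuotientGroup.induction_on with
  | H y =>
  rw [S.smul_mk, S.smul_mk, S.pair_mk, S.pair_mk]
  refine congrArg P.sc (Subtype.ext ?_)
  show ⁅((MulAut.conjNormal c x : S.E) : G), ((MulAut.conjNormal c y : S.E) : G)⁆ = ⁅(x : G), (y : G)⁆
  rw [MulAut.conjNormal_apply, MulAut.conjNormal_apply, ← MulAut.conj_apply, ← MulAut.conj_apply,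
    ← map_commutatorElement, MulAut.conj_apply, (P.mem_C.1 hc) _ (S.comm_mem x x.2 y y.2),
    mul_inv_cancel_right]

theorem cr : CR G (Additive S.M) := by
  intro U hU
  let U' : Subgroup S.M := AddSubgroup.toSubgroup' U
  let W' : Subgroup S.M :=
    { carrier := {m | ∀ u ∈ U', S.pair m u = 1}
      one_mem' := fun u _ => by rw [map_one, MonoidHom.one_apply]
      mul_mem' := fun {a b} ha hb u hu => by rw [map_mul, MonoidHom.mul_apply, ha u hu, hb u hu, one_mul]
      inv_mem' := fun {a} ha u hu => by rw [map_inv, MonoidHom.inv_apply, ha u hu, inv_one] }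
  have hUinv : ∀ g : G, ∀ u ∈ U', g • u ∈ U' := fun g u hu => hU g (Additive.ofMul u) hu
  let π := QuotientGroup.mk' (P.A.subgroupOf S.E)
  have hnorm : ∀ X : Subgroup S.M, (∀ g : G, ∀ u ∈ X, g • u ∈ X) →
      ((X.comap π).map S.E.subtype).Normal := fun X hX => ⟨fun z hz g => by
    obtain ⟨x, hx, rfl⟩ := hz
    refine ⟨MulAut.conjNormal g x, ?_, MulAut.conjNormal_apply g x⟩
    exact hX g _ hx⟩
  have hpair0 : ∀ (x y : S.E), S.pair (x : S.M) (y : S.M) = 1 ↔ (x : G) * y = y * x := fun x y =>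
    ⟨S.bracket_eq_one_of_pair, fun h => by
      rw [S.pair_mk]
      convert map_one P.sc using 2
      exact Subtype.ext (commutatorElement_eq_one_iff_mul_comm.2 h)⟩
  have hWinv : ∀ g : G, ∀ m ∈ W', g • m ∈ W' := by
    intro g m hm u hu
    have h2 := hUinv g⁻¹ u hu
    have hu' : u = g • (g⁻¹ • u) := (smul_inv_smul g u).symm
    rw [hu']
    have h3 := hm _ h2
    revert h3
    generalize g⁻¹ • u = u₀
    induction m using QuotientGroup.induction_on with
    | H x =>
    induction u₀ using QuotientGroup.induction_on with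
    | H y =>
    rw [S.smul_mk, S.smul_mk, hpair0, hpair0]
    intro h
    rw [MulAut.conjNormal_apply, MulAut.conjNormal_apply]
    calc g * x * g⁻¹ * (g * y * g⁻¹) = g * ((x : G) * y) * g⁻¹ := by group
      _ = g * ((y : G) * x) * g⁻¹ := by rw [h]
      _ = _ := by group
  have hd : U' ⊓ W' = ⊥ := by
    set X := U' ⊓ W'
    have hXn := hnorm X fun g u hu => ⟨hUinv g u hu.1, hWinv g u hu.2⟩
    have hAX : P.A ≤ (X.comap π).map S.E.subtype := fun a ha => ⟨⟨a, S.le ha⟩, by
      show π ⟨a, S.le ha⟩ ∈ X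
      rw [show π ⟨a, S.le ha⟩ = 1 from S.mk_eq_one.2 ha]
      exact one_mem X, rfl⟩
    have hXab : ∀ a ∈ (X.comap π).map S.E.subtype, ∀ b ∈ (X.comap π).map S.E.subtype,
        a * b = b * a := by
      rintro _ ⟨x, hx, rfl⟩ _ ⟨y, hy, rfl⟩
      exact (hpair0 x y).1 ((hx : (x : S.M) ∈ X).2 _ (hy : (y : S.M) ∈ X).1)
    have hXA := P.hmax _ hXn hAX hXab
    refine (Subgroup.eq_bot_iff_forall X).2 fun m hm => ?_
    obtain ⟨x, rfl⟩ := QuotientGroup.mk_surjective m
    exact S.mk_eq_one.2 (hXA ▸ ⟨x, hm, rfl⟩)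
  refine ⟨Subgroup.toAddSubgroup W', fun g x hx => hWinv g _ hx, ?_, ?_⟩
  · refine (AddSubgroup.eq_bot_iff_forall _).2 fun x hx => ?_
    have hx' : Additive.toMul x ∈ U' ⊓ W' := ⟨hx.1, hx.2⟩
    rw [hd, Subgroup.mem_bot] at hx'
    exact Additive.toMul.injective hx'
  · let ψ : S.M →* (U' →* P.Kˣ) :=
      MonoidHom.mk' (fun m => (S.pair m).comp U'.subtype) fun a b => by ext; simp
    have hker : ψ.ker = W' := by
      ext m
      rw [MonoidHom.mem_ker, MonoidHom.ext_iff]
      exact ⟨fun h u hu => h ⟨u, hu⟩, fun h u => h u u.2⟩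
    obtain ⟨hfin, hle⟩ := OddBase75Alg.card_unitsHom_le (M := U') (K := P.K)
    have h1 : Nat.card S.M ≤ Nat.card U' * Nat.card W' := by
      rw [← ψ.ker.card_mul_index, hker, mul_comm (Nat.card U')]
      refine Nat.mul_le_mul_left _ ?_
      rw [← hker, Subgroup.index_ker]
      exact le_trans (Nat.card_le_card_of_injective _ Subtype.val_injective) hle
    have h2 : U' ⊔ W' = ⊤ := by
      refine Subgroup.eq_top_of_le_card _ ?_
      have hinj : Function.Injective fun p : U' × W' =>
          (⟨(p.1 : S.M) * p.2, Subgroup.mul_mem_sup p.1.2 p.2.2⟩ : ↥(U' ⊔ W')) := fun p q h =>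
        Subgroup.mul_injective_of_disjoint (disjoint_iff.2 hd) (congrArg Subtype.val h)
      have h3 := Nat.card_le_card_of_injective _ hinj
      rw [Nat.card_prod] at h3
      exact h1.trans h3
    refine eq_top_iff.2 fun x _ => ?_
    have hx : Additive.toMul x ∈ U' ⊔ W' := h2 ▸ Subgroup.mem_top _
    obtain ⟨u, hu, w, hw, huw⟩ := Subgroup.mem_sup.1 hx
    rw [show x = Additive.ofMul u + Additive.ofMul w from
      Additive.toMul.injective huw.symm]
    exact add_mem (AddSubgroup.mem_sup_left hu) (AddSubgroup.mem_sup_right hw)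

theorem card_dvd (r : ℕ) (hr : r.Prime) (h : r ∣ Nat.card S.M) : r ∣ Nat.card P.Kˣ := by
  haveI := Fact.mk hr
  obtain ⟨m, hm⟩ := exists_prime_orderOf_dvd_card' r h
  obtain ⟨z, hz⟩ : ∃ z, S.pair m z ≠ 1 := by
    by_contra hall
    push Not at hall
    have : m = 1 := S.pair_nd m (MonoidHom.ext hall)
    rw [this, orderOf_one] at hm
    exact hr.one_lt.ne hm
  have h1 : orderOf (S.pair m z) = r := by
    refine orderOf_eq_prime ?_ hz
    rw [← MonoidHom.pow_apply, ← map_pow, ← hm, pow_orderOf_eq_one, map_one, MonoidHom.one_apply]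
  exact h1 ▸ orderOf_dvd_natCard _

/-- The section has square order. -/
theorem exists_sq : ∃ e, Nat.card S.M = e * e :=
  OddBase75Alg.card_square _ S.M S.pair rfl S.pair_self S.pair_nd

/-- The square root of the order of the section is at most the dimension. -/
theorem card_le_finrank_sq : Nat.card S.M ≤ Module.finrank P.K V * Module.finrank P.K V := by
  classical
  haveI : Fintype S.M := Fintype.ofFinite _
  let T : S.M → Module.End P.K V := fun m => P.op ⟨(m.out : G), S.le_C m.out.2⟩
  have hkey : ∀ (m : S.M) (y : S.E) (x : V),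
      (y : G) • T m x = ((S.pair (y : S.M) m : P.Kˣ) : P.K) • T m ((y : G) • x) := by
    intro m y x
    have hp : S.pair (y : S.M) m = P.sc ⟨_, S.comm_mem y y.2 m.out m.out.2⟩ := by
      conv_lhs => rw [← QuotientGroup.out_eq' m]
      rw [S.pair_mk]
    rw [hp, P.sc_smul]
    show (y : G) • (m.out : G) • x = ⁅(y : G), (m.out : G)⁆ • (m.out : G) • (y : G) • x
    rw [← mul_smul, ← mul_smul, ← mul_smul, commutatorElement_def]
    congr 1
    group
  have hli : LinearIndependent P.K T := by
    rw [Fintype.linearIndependent_iff]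
    intro c hc m
    have hχ : LinearIndependent P.K (fun m : S.M =>
        ((fun y : S.E => ((S.pair (y : S.M) m : P.Kˣ) : P.K)) : S.E → P.K)) := by
      let χ : S.M → (S.E →* P.K) := fun m => (Units.coeHom P.K).comp
        (MonoidHom.mk' (fun y : S.E => S.pair (y : S.M) m) fun a b => by
          rw [QuotientGroup.mk_mul, map_mul, MonoidHom.mul_apply])
      have hinj : Function.Injective χ := by
        intro a b hab
        refine (inv_mul_eq_one).1 (S.pair_nd _ (MonoidHom.ext fun z => ?_))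
        have h1 : ∀ y : S.M, S.pair y a = S.pair y b := fun y => by
          obtain ⟨y, rfl⟩ := QuotientGroup.mk_surjective y
          exact Units.ext (DFunLike.congr_fun hab y)
        rw [OddBase75Alg.antisymm S.pair S.pair_self z, map_mul, map_inv, h1, inv_mul_cancel,
          inv_one, MonoidHom.one_apply]
      exact (linearIndependent_monoidHom S.E P.K).comp χ hinj
    obtain ⟨x, hx⟩ := exists_ne (0 : V)
    have hz : ∀ f : Module.Dual P.K V, c m * f (T m x) = 0 := by
      intro f
      refine Fintype.linearIndependent_iff.1 hχ (fun m => c m * f (T m x)) ?_ m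
      funext y
      have h1 := congrArg (fun R : Module.End P.K V => R ((y : G)⁻¹ • x)) hc
      simp only [LinearMap.sum_apply, LinearMap.smul_apply, LinearMap.zero_apply] at h1
      have h2 := congrArg (fun z : V => f ((y : G) • z)) h1
      simp only [Finset.smul_sum, smul_zero, map_zero, P.C_smul (S.le_C y.2), hkey, map_sum,
        map_smul, smul_eq_mul, smul_inv_smul] at h2
      simp only [Finset.sum_apply, Pi.smul_apply, smul_eq_mul, Pi.zero_apply]
      rw [← h2]
      exact Finset.sum_congr rfl fun i _ => by ring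
    have h0 : T m x ≠ 0 := fun h => hx (by
      rw [P.op_apply] at h
      exact (smul_eq_zero_iff_eq _).1 h)
    by_contra hcm
    exact h0 ((Module.forall_dual_apply_eq_zero_iff P.K _).1 fun f =>
      (mul_eq_zero.1 (hz f)).resolve_left hcm)
  have h := hli.fintype_card_le_finrank
  rw [Module.finrank_linearMap] at h
  rwa [Nat.card_eq_fintype_card]

/-- Counting pairs on the section. -/
theorem relIndex_le [Group.IsSolvable G] (hodd : Odd (Nat.card G))
    (hs : Small.{v} (Nat.card V)) (hlt : Nat.card S.M < Nat.card V) (hM : 1 < Nat.card S.M) :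
    S.E.relIndex P.C * 4 ≤ Nat.card S.M * Nat.card S.M := by
  haveI : Nontrivial S.M := Finite.one_lt_card_iff_nontrivial.1 hM
  obtain ⟨a₀, b₀, hab₀⟩ := hs (Additive S.M) (by rwa [Nat.card_congr Additive.toMul]) G hodd S.cr
  have hfix : ∀ g : G, g • Additive.toMul a₀ = Additive.toMul a₀ →
      g • Additive.toMul b₀ = Additive.toMul b₀ → ∀ m : S.M, g • m = m := fun g h1 h2 m =>
    hab₀ g h1 h2 (Additive.ofMul m)
  obtain ⟨a, b, ha, hb, hab⟩ : ∃ a b : S.M, a ≠ 1 ∧ b ≠ 1 ∧
      ∀ g : G, g • a = a → g • b = b → ∀ m : S.M, g • m = m := by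
    by_cases ha : Additive.toMul a₀ = 1
    · by_cases hb : Additive.toMul b₀ = 1
      · obtain ⟨u, hu⟩ := exists_ne (1 : S.M)
        exact ⟨u, u, hu, hu, fun g _ _ => hfix g (by rw [ha, smul_one]) (by rw [hb, smul_one])⟩
      · exact ⟨_, _, hb, hb, fun g h _ => hfix g (by rw [ha, smul_one]) h⟩
    · by_cases hb : Additive.toMul b₀ = 1
      · exact ⟨_, _, ha, ha, fun g h _ => hfix g h (by rw [hb, smul_one])⟩
      · exact ⟨_, _, ha, hb, hfix⟩
  let φ : Bool → S.M → S.M := fun s z => if s then z else z⁻¹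
  have hφinj : ∀ s, Function.Injective (φ s) := fun s => by
    cases s
    · exact fun x y h => inv_injective h
    · exact fun x y h => h
  have hsign : ∀ (g : G) (s : Bool) (z : S.M), g • φ s z = φ s (g • z) := fun g s z => by
    cases s
    · exact smul_inv' g z
    · rfl
  let Q := P.C ⧸ S.E.subgroupOf P.C
  let f : Q × (Bool × Bool) → S.M × S.M := fun q =>
    (φ q.2.1 ((q.1.out : G) • a), φ q.2.2 ((q.1.out : G) • b))
  have hinj : Function.Injective f := by
    rintro ⟨q, s₁, t₁⟩ ⟨q', s₂, t₂⟩ h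
    simp only [f, Prod.mk.injEq] at h
    obtain ⟨h1, h2⟩ := h
    set g : G := (q'.out : G)⁻¹ * (q.out : G)
    have hga : φ s₁ (g • a) = φ s₂ a := by
      rw [← hsign, mul_smul, hsign (q.out : G), h1, hsign, inv_smul_smul]
    have hgb : φ t₁ (g • b) = φ t₂ b := by
      rw [← hsign, mul_smul, hsign (q.out : G), h2, hsign, inv_smul_smul]
    have hsq : ∀ (s t : Bool) (z : S.M), φ s (g • z) = φ t z → g • g • z = z := by
      intro s t z hz
      cases s <;> cases t <;> simp only [φ, Bool.false_eq_true, if_false, if_true] at hz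
      · rw [inv_injective hz, inv_injective hz]
      · rw [inv_eq_iff_eq_inv.1 hz, smul_inv', inv_eq_iff_eq_inv.1 hz, inv_inv]
      · rw [hz, smul_inv', hz, inv_inv]
      · rw [hz, hz]
    have hga' : g • a = a := smul_eq_of_sq hodd (hsq _ _ a hga)
    have hgb' : g • b = b := smul_eq_of_sq hodd (hsq _ _ b hgb)
    have hgC : g ∈ P.C := mul_mem (inv_mem q'.out.2) q.out.2
    have hgE : g ∈ S.E := (S.mem_E_iff hgC).2 (hab g hga' hgb')
    have hqq : q = q' := by
      rw [← QuotientGroup.out_eq' q, ← QuotientGroup.out_eq' q']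
      refine (QuotientGroup.eq.2 (Subgroup.mem_subgroupOf.2 ?_)).symm
      exact hgE
    subst hqq
    rw [hga'] at hga
    rw [hgb'] at hgb
    have hne : ∀ z : S.M, z ≠ 1 → z ≠ z⁻¹ := by
      intro z hz h
      apply hz
      have hoddM : Odd (Nat.card S.M) := odd_card_of_dvd
        ((Subgroup.card_quotient_dvd_card _).trans (Subgroup.card_subgroup_dvd_card _)) hodd
      refine eq_one_of_sq_eq_one hoddM ?_
      nth_rw 1 [h]
      exact inv_mul_cancel z
    have hinjs : ∀ (s t : Bool) (z : S.M), z ≠ 1 → φ s z = φ t z → s = t := by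
      intro s t z hz h
      cases s <;> cases t <;> simp only [φ, Bool.false_eq_true, if_false, if_true] at h ⊢
      · exact absurd h.symm (hne z hz)
      · exact absurd h (hne z hz)
    rw [hinjs _ _ a ha hga, hinjs _ _ b hb hgb]
  have h := Nat.card_le_card_of_injective f hinj
  rw [Nat.card_prod, Nat.card_prod, Nat.card_prod, Nat.card_eq_fintype_card (α := Bool),
    Fintype.card_bool] at h
  exact h

end Symp

end Cfsg.Agent.OddBase75
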