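/-
Sharp bounds for the linear automizer of the section `E / A` when it has order `r ^ 2` or `3 ^ 4`.
-/
import Mathlib
import Cfsg.Agent.Lib.OddBaseSymp75
import Cfsg.Agent.Lib.HallSolvable
import Cfsg.Agent.Lib.ComponentsCores
import Cfsg.Agent.Lib.ComponentsFitting

set_option autoImplicit false
set_option maxHeartbeats 400000

namespace Cfsg.Agent.OddBase75

open MulAction Cfsg

universe v

theorem mulAut_pow_apply {M : Type*} [Mul M] (x : MulAut M) (n : ℕ) (z : M) :
    (x ^ n) z = (⇑x)^[n] z := by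
  induction n generalizing z with
  | zero => rfl
  | succ n ih =>
    rw [pow_succ, MulAut.mul_apply, ih, Function.iterate_succ_apply]

/-- An automorphism of odd order of a set of at most eight pairs `q, q⁻¹` has cube fixing it. -/
theorem cube_fix {Q : Type*} [CommGroup Q] [Finite Q] (y : MulAut Q) (hy : Odd (orderOf y))
    (hQ : Odd (Nat.card Q)) (P : Subgroup Q) (hP : Nat.card P ≤ 9) (hPy : ∀ q ∈ P, y q ∈ P)
    {q : Q} (hq : q ∈ P) : (y ^ 3) q = q := by
  classical
  by_cases hq1 : q = 1
  · rw [hq1, map_one]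
  set l := Function.minimalPeriod (⇑y) q
  have hper : Function.IsPeriodicPt (⇑y) (orderOf y) q := by
    show (⇑y)^[orderOf y] q = q
    rw [← mulAut_pow_apply, pow_orderOf_eq_one, MulAut.one_apply]
  have hl : Odd l := odd_card_of_dvd hper.minimalPeriod_dvd hy
  have hmem : ∀ i : ℕ, (⇑y)^[i] q ∈ P ∧ (⇑y)^[i] q ≠ 1 := by
    intro i
    induction i with
    | zero => exact ⟨hq, hq1⟩
    | succ i ih =>
      rw [Function.iterate_succ_apply']
      exact ⟨hPy _ ih.1, fun h => ih.2 (y.injective (h.trans (map_one y).symm))⟩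
  have hno : ∀ i j : ℕ, (⇑y)^[i] q ≠ ((⇑y)^[j] q)⁻¹ := by
    intro i j h
    have hfix : y ^ orderOf y = 1 := pow_orderOf_eq_one y
    -- then some power of `y` inverts a nontrivial element
    have hinv : ∀ (n : ℕ) (w : Q), ((y ^ n) w)⁻¹ = (y ^ n) w⁻¹ := fun n w => (map_inv _ w).symm
    have h' : (y ^ i) q = ((y ^ j) q)⁻¹ := by rw [mulAut_pow_apply, mulAut_pow_apply]; exact h
    set z := (y ^ i)⁻¹ * y ^ j
    have hz1 : z q = q⁻¹ := by
      rw [MulAut.mul_apply]
      have h2 : (y ^ j) q = (y ^ i) q⁻¹ := by rw [map_inv, h', inv_inv]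
      rw [h2, MulAut.inv_apply_self]
    have hzo : Odd (orderOf z) := by
      refine odd_card_of_dvd ?_ hy
      rw [← Nat.card_zpowers y]
      exact Subgroup.orderOf_dvd_natCard _ (mul_mem (inv_mem (pow_mem (Subgroup.mem_zpowers y) i))
        (pow_mem (Subgroup.mem_zpowers y) j))
    obtain ⟨k, hk⟩ := hzo
    have hz2 : ∀ m : ℕ, (z ^ (2 * m)) q = q := by
      intro m
      induction m with
      | zero => rfl
      | succ m ih =>
        rw [show 2 * (m + 1) = 2 + 2 * m by ring, pow_add, MulAut.mul_apply, ih, pow_two,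
          MulAut.mul_apply, hz1, map_inv, hz1, inv_inv]
    have h3 : (z ^ (2 * k + 1)) q = q⁻¹ := by
      rw [pow_succ', MulAut.mul_apply, hz2, hz1]
    rw [← hk, pow_orderOf_eq_one, MulAut.one_apply] at h3
    refine hq1 (eq_one_of_sq_eq_one hQ ?_)
    nth_rw 1 [h3]
    exact inv_mul_cancel q
  let f : Fin l × Bool → {w : P // w ≠ 1} := fun p =>
    if p.2 then ⟨⟨(⇑y)^[p.1.1] q, (hmem _).1⟩, fun h => (hmem _).2 (congrArg Subtype.val h)⟩
    else ⟨⟨((⇑y)^[p.1.1] q)⁻¹, inv_mem (hmem _).1⟩, fun h => (hmem _).2 (inv_eq_one.1 (congrArg Subtype.val h))⟩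
  have hinj : Function.Injective f := by
    have hio := Function.iterate_injOn_Iio_minimalPeriod (f := ⇑y) (x := q)
    rintro ⟨i, s⟩ ⟨j, t⟩ h
    cases s <;> cases t <;>
      simp only [f, Bool.false_eq_true, if_false, if_true, Subtype.mk.injEq] at h
    · rw [Fin.ext (hio i.2 j.2 (inv_injective h))]
    · exact absurd h.symm (hno _ _)
    · exact absurd h (hno _ _)
    · rw [Fin.ext (hio i.2 j.2 h)]
  have h1 := Nat.card_le_card_of_injective f hinj
  haveI : Fintype P := Fintype.ofFinite P
  have h2 : Nat.card {w : P // w ≠ 1} = Nat.card P - 1 := by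
    rw [Nat.card_eq_fintype_card, Nat.card_eq_fintype_card, Fintype.card_subtype_compl,
      Fintype.card_subtype_eq]
  rw [Nat.card_prod, Nat.card_eq_fintype_card (α := Bool), Fintype.card_bool, Nat.card_fin, h2] at h1
  have hl3 : l ∣ 3 := by
    obtain ⟨c, hc⟩ := hl
    have : l ≤ 4 := by omega
    have hl' : l = 1 ∨ l = 3 := by omega
    rcases hl' with h | h <;> rw [h]
    exact one_dvd 3
  rw [mulAut_pow_apply]
  exact Function.isPeriodicPt_iff_minimalPeriod_dvd.2 hl3

/-- A symplectic automorphism of odd order fixing a nonzero vector is an `r`-element. -/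
theorem pow_eq_one_of_fixed {M D : Type*} [CommGroup M] [Finite M] [CommGroup D]
    (b : M →* (M →* D)) (halt : ∀ z, b z z = 1) (hnd : ∀ z, b z = 1 → z = 1) {r k : ℕ}
    [hr : Fact r.Prime] (hM : Nat.card M = r ^ k) (hexp : ∀ z : M, z ^ r = 1)
    (hcase : k = 2 ∨ (r = 3 ∧ k = 4)) (hodd : Odd (Nat.card M)) (x : MulAut M)
    (hx : Odd (orderOf x)) (hpres : ∀ z w, b (x z) (x w) = b z w) {v : M} (hv : v ≠ 1)
    (hxv : x v = v) : x ^ (r * r) = 1 := by
  have hxv' : ∀ n : ℕ, (x ^ n) v = v := by
    intro n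
    induction n with
    | zero => rfl
    | succ n ih => rw [pow_succ, MulAut.mul_apply, hxv, ih]
  set Pp := (b v).ker with hPp
  set L := Subgroup.zpowers v
  have hvord : orderOf v = r := orderOf_eq_prime (hexp v) hv
  have hLc : Nat.card L = r := by rw [Nat.card_zpowers, hvord]
  have hLP : L ≤ Pp := Subgroup.zpowers_le.2 (halt v)
  have hPtop : Pp ≠ ⊤ := by
    intro h
    exact hv (hnd v (MonoidHom.ext fun z => (h ▸ Subgroup.mem_top z : z ∈ Pp)))
  obtain ⟨i, hik, hPi⟩ := (Nat.dvd_prime_pow hr.out).1 (hM ▸ Subgroup.card_subgroup_dvd_card Pp)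
  have hik' : i < k := by
    rcases lt_or_eq_of_le hik with h | rfl
    · exact h
    · exact absurd ((Subgroup.card_eq_iff_eq_top Pp).1 (hPi.trans hM.symm)) hPtop
  have hTmem : ∀ z, x z * z⁻¹ ∈ Pp := by
    intro z
    rw [MonoidHom.mem_ker, map_mul, map_inv]
    conv_lhs => arg 1; rw [← hxv, hpres]
    exact mul_inv_cancel _
  have hPx : ∀ z ∈ Pp, x z ∈ Pp := by
    intro z hz
    rw [MonoidHom.mem_ker, ← hxv, hpres]
    exact hz
  rcases hcase with rfl | ⟨rfl, rfl⟩
  · -- order `r ^ 2`
    have hPL : Pp = L := (Subgroup.eq_of_le_of_card_ge hLP (by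
      rw [hLc, hPi]
      calc r ^ i ≤ r ^ 1 := Nat.pow_le_pow_right hr.out.pos (by omega)
        _ = r := pow_one r)).symm
    have hxr : x ^ r = 1 := by
      refine MulEquiv.ext fun z => ?_
      obtain ⟨j, hj⟩ := Subgroup.mem_zpowers_iff.1 (hPL ▸ hTmem z)
      set T := x z * z⁻¹ with hT
      have hxT : x T = T := by rw [← hj, map_zpow, hxv]
      have hit : ∀ n : ℕ, (x ^ n) z = T ^ n * z := by
        intro n
        induction n with
        | zero => simp
        | succ n ih =>
          rw [pow_succ', MulAut.mul_apply, ih, map_mul, map_pow, hxT, pow_succ T, mul_assoc, hT,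
            inv_mul_cancel_right]
      rw [hit, hexp, one_mul, MulAut.one_apply]
    rw [pow_mul, hxr, one_pow]
  · -- order `81`
    let π := QuotientGroup.mk' L
    have hπ : Function.Surjective π := QuotientGroup.mk'_surjective L
    let y : MulAut (M ⧸ L) := QuotientGroup.congr L L x (by
      rw [MonoidHom.map_zpowers]
      show Subgroup.zpowers (x v) = L
      rw [hxv])
    have hy : ∀ z, y (π z) = π (x z) := fun z => rfl
    have hyn : ∀ (n : ℕ) z, (y ^ n) (π z) = π ((x ^ n) z) := by
      intro n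
      induction n with
      | zero => intro z; rfl
      | succ n ih => intro z; rw [pow_succ, pow_succ, MulAut.mul_apply, MulAut.mul_apply, hy, ih]
    have hyo : Odd (orderOf y) := odd_card_of_dvd (orderOf_dvd_of_pow_eq_one (MulEquiv.ext fun q => by
      obtain ⟨z, rfl⟩ := hπ q
      rw [hyn, pow_orderOf_eq_one]; rfl)) hx
    have hcardQ : Nat.card (Pp.map π) ≤ 9 := by
      have h1 : Nat.card (Pp.map π) * 3 = Nat.card Pp := by
        rw [← HallSolvable.relIndex_eq_card_map, mul_comm, ← hLc, ← Subgroup.relIndex_bot_left,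
          ← Subgroup.relIndex_bot_left Pp]
        exact Subgroup.relIndex_mul_relIndex _ _ _ bot_le hLP
      have h2 : (3 : ℕ) ^ i ≤ 3 ^ 3 := Nat.pow_le_pow_right (by norm_num) (by omega)
      omega
    set h := x ^ 3
    have hh : ∀ z ∈ Pp, h z * z⁻¹ ∈ L := by
      intro z hz
      have h3 := cube_fix y hyo (odd_card_of_dvd (Subgroup.card_quotient_dvd_card _) hodd)
        (Pp.map π) hcardQ (fun q hq => by
          obtain ⟨w, hw, rfl⟩ := hq
          exact ⟨x w, hPx w hw, (hy w).symm⟩) ⟨z, hz, rfl⟩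
      rw [hyn] at h3
      rw [← QuotientGroup.eq_one_iff]
      show π (h z * z⁻¹) = 1
      rw [map_mul, map_inv, h3, mul_inv_cancel]
    refine MulEquiv.ext fun z => ?_
    rw [show 3 * 3 = 3 * 3 from rfl, pow_mul, MulAut.one_apply]
    set T := h z * z⁻¹ with hT
    have hTP : T ∈ Pp := by
      have hpresh : ∀ n : ℕ, (x ^ n) z * z⁻¹ ∈ Pp := by
        intro n
        induction n with
        | zero => simp
        | succ n ih =>
          rw [pow_succ', MulAut.mul_apply,
            show x ((x ^ n) z) * z⁻¹ = (x ((x ^ n) z) * ((x ^ n) z)⁻¹) * ((x ^ n) z * z⁻¹) by group]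
          exact mul_mem (hTmem _) ih
      exact hpresh 3
    set U := h T * T⁻¹ with hU
    obtain ⟨j, hj⟩ := Subgroup.mem_zpowers_iff.1 (hh T hTP)
    have hhU : h U = U := by
      rw [hU, ← hj, map_zpow]
      rw [show h v = v from hxv' 3]
    have e1 : h z = T * z := by rw [hT, inv_mul_cancel_right]
    have e2 : h T = U * T := by rw [hU, inv_mul_cancel_right]
    show (h ^ 3) z = z
    rw [pow_succ, pow_two, MulAut.mul_apply, MulAut.mul_apply]
    simp only [e1, e2, hhU, map_mul]
    have hU3 := hexp U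
    have hT3 := hexp T
    rw [pow_succ, pow_two] at hU3 hT3
    calc _ = (U * U * U) * (T * T * T) * z := by simp only [mul_comm, mul_left_comm, mul_assoc]
      _ = z := by rw [hU3, hT3, one_mul, one_mul]

namespace Symp

variable {G V : Type v} [Group G] [Finite G] [Group.IsSolvable G] [AddCommGroup V] [Finite V]
  [Nontrivial V] [DistribMulAction G V] [FaithfulSMul G V] {P : Prim G V} (S : Symp P)

theorem exp_eq {r k : ℕ} [hr : Fact r.Prime] (hM : Nat.card S.M = r ^ k) (z : S.M) : z ^ r = 1 := by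
  let pw : S.M →* S.M := powMonoidHom r
  let U : AddSubgroup (Additive S.M) := Subgroup.toAddSubgroup pw.range
  have hU : ∀ g : G, ∀ x ∈ U, g • x ∈ U := by
    intro g x hx
    obtain ⟨y, hy⟩ := hx
    refine ⟨g • y, ?_⟩
    show (g • y) ^ r = g • Additive.toMul x
    rw [← hy]
    exact (smul_pow' g y r).symm
  obtain ⟨W, hW, hd, hs⟩ := S.cr U hU
  have hW1 : ∀ w ∈ W, (Additive.toMul w) ^ r = 1 := by
    intro w hw
    have h1 : r • w ∈ U ⊓ W := AddSubgroup.mem_inf.2 ⟨⟨Additive.toMul w, rfl⟩, nsmul_mem hw r⟩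
    rw [hd, AddSubgroup.mem_bot] at h1
    exact congrArg Additive.toMul h1
  have hpp : ∀ u : S.M, u ^ r = u ^ r ∧ ∃ t : S.M, u ^ r = (t ^ r) ^ r := by
    intro u
    refine ⟨rfl, ?_⟩
    have hu : Additive.ofMul u ∈ U ⊔ W := hs ▸ AddSubgroup.mem_top _
    obtain ⟨a, ⟨t, ht⟩, w, hw, haw⟩ := AddSubgroup.mem_sup.1 hu
    refine ⟨t, ?_⟩
    have e : u = Additive.toMul a * Additive.toMul w := (congrArg Additive.toMul haw).symm
    rw [e, mul_pow, hW1 w hw, mul_one, ← ht]
    rfl
  have hit : ∀ n : ℕ, ∀ u : S.M, ∃ t : S.M, u ^ r = (t ^ (r ^ n)) ^ r := by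
    intro n
    induction n with
    | zero => exact fun u => ⟨u, by rw [pow_zero, pow_one]⟩
    | succ n ih =>
      intro u
      obtain ⟨t, ht⟩ := ih u
      obtain ⟨t', ht'⟩ := (hpp t).2
      refine ⟨t', ?_⟩
      rw [ht, ← pow_mul, mul_comm, pow_mul, ht', ← pow_mul, ← pow_mul, ← pow_mul]
      congr 1
      ring
  obtain ⟨t, ht⟩ := hit k z
  rw [ht, ← hM, pow_card_eq_one', one_pow]

theorem relIndex_small {r k d : ℕ} [hr : Fact r.Prime] (hodd : Odd (Nat.card G))
    (hM : Nat.card S.M = r ^ k) (hcase : k = 2 ∨ (r = 3 ∧ k = 4)) (hd : d.Prime) (hd' : d ≤ 6)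
    (hdiv : ∀ m, Odd m → m ∣ r ^ k - 1 → m = 1 ∨ m = d) :
    S.E.relIndex P.C = 1 ∨ (S.E.relIndex P.C = d ∧ d ∣ r ^ k - 1) := by
  classical
  have hexp := S.exp_eq hM
  have hoddM : Odd (Nat.card S.M) := odd_card_of_dvd
    ((Subgroup.card_quotient_dvd_card _).trans (Subgroup.card_subgroup_dvd_card _)) hodd
  let ρ : G →* MulAut S.M := MulDistribMulAction.toMulAut G S.M
  let R := ρ.range
  haveI : (Subgroup.centralizer (P.A : Set G)).Normal := inferInstance
  let X : Subgroup R := P.C.map ρ.rangeRestrict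
  haveI hXn : X.Normal := Subgroup.Normal.map inferInstance _ ρ.rangeRestrict_surjective
  have hXc : Nat.card X = S.E.relIndex P.C := by
    show Nat.card (P.C.map ρ.rangeRestrict) = S.E.relIndex P.C
    rw [← Subgroup.relIndex_bot_left, ← Subgroup.relIndex_comap, MonoidHom.comap_bot]
    rw [← Subgroup.inf_relIndex_right ρ.rangeRestrict.ker, ← Subgroup.inf_relIndex_right S.E]
    congr 1
    ext c
    simp only [Subgroup.mem_inf, MonoidHom.mem_ker]
    constructor
    · rintro ⟨h, hc⟩
      refine ⟨(S.mem_E_iff hc).2 fun m => ?_, hc⟩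
      exact DFunLike.congr_fun (congrArg Subtype.val h) m
    · rintro ⟨h, hc⟩
      exact ⟨Subtype.ext (MulEquiv.ext fun m => (S.mem_E_iff hc).1 h m), hc⟩
  have hRodd : Odd (Nat.card R) := odd_card_of_dvd (Subgroup.card_range_dvd ρ) hodd
  have hXodd : Odd (Nat.card X) := odd_card_of_dvd (Subgroup.card_subgroup_dvd_card X) hRodd
  haveI : Group.IsSolvable R := Group.isSolvable_of_surjective ρ.rangeRestrict_surjective
  haveI : Group.IsSolvable X := inferInstance
  let F := fittingSubgroup X
  obtain ⟨Q⟩ : Nonempty (Sylow r F) := inferInstance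
  haveI hQn : (Q : Subgroup F).Normal := inferInstance
  have hQmem : ∀ f : F, (∃ j, f ^ r ^ j = 1) ↔ f ∈ (Q : Subgroup F) := by
    intro f
    constructor
    · rintro ⟨j, hj⟩
      have hp : IsPGroup r (Subgroup.zpowers f) := by
        rintro ⟨z, i, rfl⟩
        refine ⟨j, Subtype.ext ?_⟩
        show (f ^ i) ^ r ^ j = 1
        rw [← zpow_natCast, ← zpow_mul, mul_comm, zpow_mul, zpow_natCast, hj, one_zpow]
      obtain ⟨T, hT⟩ := hp.exists_le_sylow
      haveI : Unique (Sylow r F) := Sylow.unique_of_normal Q hQn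
      rw [Subsingleton.elim T Q] at hT
      exact hT (Subgroup.mem_zpowers f)
    · intro hf
      obtain ⟨j, hj⟩ := Q.2 ⟨f, hf⟩
      exact ⟨j, congrArg Subtype.val hj⟩
  -- the fixed points of `Q`
  let fixQ : AddSubgroup (Additive S.M) :=
    { carrier := {m | ∀ f : F, f ∈ (Q : Subgroup F) →
        (((f : X) : R) : MulAut S.M) (Additive.toMul m) = Additive.toMul m}
      zero_mem' := fun f _ => map_one _
      add_mem' := fun {a b} ha hb f hf => by
        show (((f : X) : R) : MulAut S.M) (Additive.toMul a * Additive.toMul b) = _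
        rw [map_mul, ha f hf, hb f hf]; rfl
      neg_mem' := fun {a} ha f hf => by
        show (((f : X) : R) : MulAut S.M) (Additive.toMul a)⁻¹ = _
        rw [map_inv, ha f hf]; rfl }
  have hfixinv : ∀ g : G, ∀ m ∈ fixQ, g • m ∈ fixQ := by
    intro g m hm f hf
    let γ : R := ρ.rangeRestrict g
    let α : MulAut X := MulAut.conjNormal γ⁻¹
    have hchar : F.map α.toMonoidHom = F :=
      Subgroup.characteristic_iff_map_eq.1 inferInstance α
    have hf' : α (f : X) ∈ F := by
      exact hchar.le ⟨(f : X), f.2, rfl⟩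
    obtain ⟨j, hj⟩ := (hQmem f).2 hf
    have h1 : (⟨α (f : X), hf'⟩ : F) ∈ (Q : Subgroup F) := (hQmem _).1 ⟨j, Subtype.ext (by
      show (α (f : X)) ^ r ^ j = 1
      rw [← map_pow, show (f : X) ^ r ^ j = ((f ^ r ^ j : F) : X) from rfl, hj, Subgroup.coe_one,
        map_one])⟩
    have h2 := hm _ h1
    have h3 : ((α (f : X) : X) : R) = γ⁻¹ * (f : X) * γ := by
      rw [MulAut.conjNormal_apply, inv_inv]
    rw [h3] at h2
    change (ρ g)⁻¹ ((((f : X) : R) : MulAut S.M) (ρ g (Additive.toMul m))) = Additive.toMul m at h2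
    show (((f : X) : R) : MulAut S.M) (ρ g (Additive.toMul m)) = ρ g (Additive.toMul m)
    have h4 := congrArg (ρ g) h2
    rwa [MulAut.apply_inv_self] at h4
  have hQ1 : (Q : Subgroup F) = ⊥ := by
    obtain ⟨W, hW, hd0, hs⟩ := S.cr fixQ hfixinv
    have hW0 : W = ⊥ := by
      by_contra hW0
      let W' : Subgroup S.M := AddSubgroup.toSubgroup' W
      letI : MulAction Q W' :=
        { smul := fun q w => ⟨((((q : F) : X) : R) : MulAut S.M) w, by
            obtain ⟨g, hg⟩ := (((q : F) : X) : R).2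
            have := hW g (Additive.ofMul (w : S.M)) w.2
            rw [← hg]
            exact this⟩
          one_smul := fun w => Subtype.ext rfl
          mul_smul := fun q q' w => Subtype.ext rfl }
      have hdvd : r ∣ Nat.card W' := by
        obtain ⟨i, -, hi⟩ := (Nat.dvd_prime_pow hr.out).1 (hM ▸ Subgroup.card_subgroup_dvd_card W')
        rcases Nat.eq_zero_or_pos i with rfl | hi0
        · exfalso
          apply hW0
          refine (AddSubgroup.eq_bot_iff_forall W).2 fun w hw => ?_
          rw [pow_zero] at hi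
          have := (Nat.card_eq_one_iff_unique.1 hi).1.elim (⟨Additive.toMul w, hw⟩ : W') 1
          exact congrArg (fun z : W' => Additive.ofMul (z : S.M)) this
        · rw [hi]
          exact dvd_pow_self r hi0.ne'
      obtain ⟨w, hw, hw1⟩ := Q.2.exists_fixed_point_of_prime_dvd_card_of_fixed_point W' hdvd
        (a := (1 : W')) (fun q => Subtype.ext (map_one _))
      apply hw1
      have hmem : Additive.ofMul (w : S.M) ∈ fixQ ⊓ W := AddSubgroup.mem_inf.2
        ⟨fun f hf => congrArg Subtype.val (hw ⟨f, hf⟩), w.2⟩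
      rw [hd0, AddSubgroup.mem_bot] at hmem
      exact (Subtype.ext (congrArg Additive.toMul hmem)).symm
    rw [hW0, sup_bot_eq] at hs
    refine (Subgroup.eq_bot_iff_forall _).2 fun f hf => ?_
    refine Subtype.ext (Subtype.ext (Subtype.ext (MulEquiv.ext fun m => ?_)))
    exact (hs ▸ AddSubgroup.mem_top (Additive.ofMul m) : Additive.ofMul m ∈ fixQ) f hf
  -- semiregularity
  let Ω := {m : S.M // m ≠ 1}
  letI : MulAction F Ω :=
    { smul := fun f m => ⟨(((f : X) : R) : MulAut S.M) m,
        fun h => m.2 ((((f : X) : R) : MulAut S.M).injective (h.trans (map_one _).symm))⟩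
      one_smul := fun m => Subtype.ext rfl
      mul_smul := fun f f' m => Subtype.ext rfl }
  have hfree : ∀ m : Ω, stabilizer F m = ⊥ := by
    intro m
    refine (Subgroup.eq_bot_iff_forall _).2 fun f hf => ?_
    set x : MulAut S.M := (((f : X) : R) : MulAut S.M)
    have hxo : Odd (orderOf x) := by
      rw [show x = (((f : X) : R) : MulAut S.M) from rfl, Subgroup.orderOf_coe, Subgroup.orderOf_coe]
      exact odd_card_of_dvd (orderOf_dvd_natCard _) hXodd
    have hpres : ∀ z w, S.pair (x z) (x w) = S.pair z w := by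
      obtain ⟨c, hc, hce⟩ := (f : X).2
      intro z w
      have e : x = ρ c := (congrArg Subtype.val hce).symm
      rw [e]
      exact S.pair_smul hc z w
    have h1 := pow_eq_one_of_fixed S.pair S.pair_self S.pair_nd hM hexp hcase hoddM x hxo hpres m.2
      (congrArg Subtype.val (hf : f • m = m))
    have h2 : f ∈ (Q : Subgroup F) := (hQmem f).1 ⟨2, by
      refine Subtype.ext (Subtype.ext (Subtype.ext ?_))
      rw [pow_two r]
      exact h1⟩
    rwa [hQ1, Subgroup.mem_bot] at h2
  have hFdvd : Nat.card F ∣ r ^ k - 1 := by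
    have h1 := Nat.card_congr (MulAction.selfEquivOrbitsQuotientProd hfree)
    haveI : Fintype S.M := Fintype.ofFinite _
    have h2 : Nat.card Ω = r ^ k - 1 := by
      rw [← hM, Nat.card_eq_fintype_card, Nat.card_eq_fintype_card, Fintype.card_subtype_compl,
        Fintype.card_subtype_eq]
    rw [← h2, h1, Nat.card_prod]
    exact dvd_mul_left _ _
  have hFodd : Odd (Nat.card F) := odd_card_of_dvd (Subgroup.card_subgroup_dvd_card _) hXodd
  haveI hFn : F.Normal := inferInstance
  have hle := HallSolvable.centralizer_fitting_le (G := X)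
  rw [← hXc]
  rcases hdiv _ hFodd hFdvd with h1 | h1
  · left
    have hF1 : F = ⊥ := Subgroup.card_eq_one.1 h1
    have htop : (⊤ : Subgroup X) ≤ F := fun z _ => hle (Subgroup.mem_centralizer_iff.2 fun f hf => by
      have hf' : f ∈ (⊥ : Subgroup X) := hF1 ▸ hf
      rw [Subgroup.mem_bot] at hf'
      rw [hf', one_mul, mul_one])
    rw [← Subgroup.card_top, top_le_iff.1 htop |>.symm]
    exact h1
  · right
    refine ⟨?_, h1 ▸ hFdvd⟩
    haveI := Fact.mk hd
    haveI : IsCyclic F := isCyclic_of_prime_card h1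
    let φ : X →* MulAut F := MulAut.conjNormal
    have hφ : φ = 1 := by
      refine MonoidHom.ext fun z => ?_
      have ho : Odd (orderOf (φ z)) :=
        odd_card_of_dvd ((orderOf_map_dvd φ z).trans (orderOf_dvd_natCard z)) hXodd
      have hc : orderOf (φ z) ∣ d - 1 := by
        refine (orderOf_dvd_natCard _).trans (dvd_of_eq ?_)
        rw [IsCyclic.card_mulAut, h1, Nat.totient_prime hd]
      have : orderOf (φ z) = 1 := by
        have hd6 : d = 2 ∨ d = 3 ∨ d = 5 := by
          have h2 := hd.two_le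
          have h4 : d ≠ 4 := fun h => by subst h; norm_num at hd
          have h6 : d ≠ 6 := fun h => by subst h; norm_num at hd
          omega
        obtain ⟨c, hc'⟩ := ho
        rcases hd6 with h | h | h <;>
          (subst h
           have := Nat.le_of_dvd (by norm_num) hc
           rcases (show orderOf (φ z) = 1 ∨ orderOf (φ z) = 3 by omega) with e | e
           · exact e
           · rw [e] at hc; norm_num at hc)
      rw [orderOf_eq_one_iff.1 this]; rfl
    have htop : (⊤ : Subgroup X) ≤ F := fun z _ => hle (Subgroup.mem_centralizer_iff.2 fun f hf => by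
      have h2 := congrArg (fun σ : MulAut F => ((σ ⟨f, hf⟩ : F) : X)) (DFunLike.congr_fun hφ z)
      simp only [φ, MulAut.conjNormal_apply, MonoidHom.one_apply, MulAut.one_apply] at h2
      rw [mul_inv_eq_iff_eq_mul] at h2
      exact h2.symm)
    rw [← Subgroup.card_top, top_le_iff.1 htop |>.symm]
    exact h1

end Symp

end Cfsg.Agent.OddBase75
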