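/-
Counting fixed pairs in a primitive linear group, coset by coset of a maximal abelian normal subgroup.
-/
import Mathlib
import Cfsg.Agent.Lib.OddBaseSmall75

set_option autoImplicit false

namespace Cfsg.Agent.OddBase75

open MulAction Module
open scoped commutatorElement

universe v

/-- The number of fixed vectors. -/
noncomputable def nfix {G V : Type*} [SMul G V] (g : G) : ℕ := Nat.card {x : V // g • x = x}

namespace Prim

variable {G V : Type v} [Group G] [Finite G] [AddCommGroup V] [Finite V] [Nontrivial V]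
  [DistribMulAction G V] [FaithfulSMul G V] (P : Prim G V)

theorem card_V : Nat.card V = Nat.card P.K ^ finrank P.K V := Module.natCard_eq_pow_finrank

include P in
theorem one_le_nfix (g : G) : 1 ≤ nfix (V := V) g := by
  haveI : Nonempty {x : V // g • x = x} := ⟨⟨0, smul_zero g⟩⟩
  exact Nat.card_pos

/-- The twist of the field by a group element. -/
noncomputable def sig (g : G) : P.K →+* P.K :=
  RingHom.codRestrict ((cj g).comp (ringOf (V := V) P.A).subtype) (ringOf (V := V) P.A)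
    fun r => cj_mem g r.2

theorem smul_twist (g : G) (r : P.K) (x : V) : g • r • x = P.sig g r • g • x := smul_end g r.1 x

theorem sig_mul (g h : G) (r : P.K) : P.sig (g * h) r = P.sig g (P.sig h r) :=
  Subtype.ext (cj_mul g h _)

theorem sig_one (r : P.K) : P.sig 1 r = r := Subtype.ext (cj_one _)

theorem exists_sig_ne {g : G} (hg : g ∉ P.C) : ∃ r : P.K, P.sig g r ≠ r := by
  obtain ⟨r, hr⟩ := P.exists_moved hg
  exact ⟨r, fun h => hr (congrArg Subtype.val h)⟩

theorem sig_sq_ne (hodd : Odd (Nat.card G)) {g : G} {r : P.K} (hr : P.sig g r ≠ r) :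
    P.sig g (P.sig g r) ≠ r := by
  letI : MulAction G P.K :=
    { smul := fun g r => P.sig g r
      one_smul := P.sig_one
      mul_smul := P.sig_mul }
  exact fun h => hr (smul_eq_of_sq hodd h)

/-- A semilinear map fixes at most a cube root of all vectors. -/
theorem nfix_cube (hodd : Odd (Nat.card G)) {g : G} (hg : g ∉ P.C) :
    nfix (V := V) g ^ 3 ≤ Nat.card V := by
  obtain ⟨θ, h1⟩ := P.exists_sig_ne hg
  have h2 := P.sig_sq_ne hodd h1
  set a := P.sig g θ
  set b := P.sig g a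
  let F := {x : V // g • x = x}
  let f : F × F × F → V := fun p => (p.1 : V) + θ • (p.2.1 : V) + (θ * θ) • (p.2.2 : V)
  have hinj : Function.Injective f := by
    rintro ⟨u0, u1, u2⟩ ⟨v0, v1, v2⟩ h
    have hz : ((u0 : V) - v0) + θ • ((u1 : V) - v1) + (θ * θ) • ((u2 : V) - v2) = 0 := by
      have h' : (u0 : V) + θ • (u1 : V) + (θ * θ) • (u2 : V) =
          (v0 : V) + θ • (v1 : V) + (θ * θ) • (v2 : V) := h
      rw [smul_sub, smul_sub]
      calc _ = ((u0 : V) + θ • (u1 : V) + (θ * θ) • (u2 : V)) -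
            ((v0 : V) + θ • (v1 : V) + (θ * θ) • (v2 : V)) := by abel
        _ = 0 := sub_eq_zero.2 h'
    have hfix : ∀ x y : F, g • ((x : V) - y) = (x : V) - y := fun x y => by
      rw [smul_sub, x.2, y.2]
    set w0 := (u0 : V) - v0 with hw0
    set w1 := (u1 : V) - v1 with hw1
    set w2 := (u2 : V) - v2 with hw2
    have g0 : g • w0 = w0 := hfix u0 v0
    have g1 : g • w1 = w1 := hfix u1 v1
    have g2 : g • w2 = w2 := hfix u2 v2
    have hz' : w0 + a • w1 + (a * a) • w2 = 0 := by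
      have := congrArg (g • ·) hz
      simpa only [smul_add, P.smul_twist, map_mul, g0, g1, g2, smul_zero] using this
    have e1 : w1 + (θ + a) • w2 = 0 := by
      have h3 : (θ - a) • (w1 + (θ + a) • w2) = 0 := by
        rw [smul_add, smul_smul, show (θ - a) * (θ + a) = θ * θ - a * a by ring, sub_smul, sub_smul]
        calc θ • w1 - a • w1 + ((θ * θ) • w2 - (a * a) • w2)
            = (w0 + θ • w1 + (θ * θ) • w2) - (w0 + a • w1 + (a * a) • w2) := by abel
          _ = 0 := by rw [hz, hz', sub_zero]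
      exact (smul_eq_zero.1 h3).resolve_left (sub_ne_zero.2 h1.symm)
    have e1' : w1 + (a + b) • w2 = 0 := by
      have := congrArg (g • ·) e1
      simpa only [smul_add, P.smul_twist, map_add, g1, g2, smul_zero] using this
    have e2 : w2 = 0 := by
      have h4 : ((θ + a) - (a + b)) • w2 = 0 := by
        rw [sub_smul]
        calc (θ + a) • w2 - (a + b) • w2 = (w1 + (θ + a) • w2) - (w1 + (a + b) • w2) := by abel
          _ = 0 := by rw [e1, e1', sub_zero]
      refine (smul_eq_zero.1 h4).resolve_left ?_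
      rw [show θ + a - (a + b) = θ - b by ring]
      exact sub_ne_zero.2 h2.symm
    have e1z : w1 = 0 := by rwa [e2, smul_zero, add_zero] at e1
    have e0 : w0 = 0 := by rwa [e2, e1z, smul_zero, smul_zero, add_zero, add_zero] at hz
    rw [hw0, sub_eq_zero] at e0
    rw [hw1, sub_eq_zero] at e1z
    rw [hw2, sub_eq_zero] at e2
    rw [Subtype.ext e0, Subtype.ext e1z, Subtype.ext e2]
  have h := Nat.card_le_card_of_injective f hinj
  rw [Nat.card_prod, Nat.card_prod] at h
  show Nat.card F ^ 3 ≤ _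
  calc Nat.card F ^ 3 = Nat.card F * (Nat.card F * Nat.card F) := by ring
    _ ≤ _ := h

/-- The fixed space of a linear element. -/
noncomputable def fixK (g : P.C) : Submodule P.K V := LinearMap.ker (P.op g - 1)

theorem mem_fixK {g : P.C} {x : V} : x ∈ P.fixK g ↔ (g : G) • x = x := by
  rw [fixK, LinearMap.mem_ker, LinearMap.sub_apply, Module.End.one_apply, sub_eq_zero]
  rfl

theorem nfix_eq (g : P.C) : nfix (V := V) (g : G) = Nat.card P.K ^ finrank P.K (P.fixK g) := by
  rw [← Module.natCard_eq_pow_finrank]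
  exact Nat.card_congr (Equiv.subtypeEquivRight fun x => P.mem_fixK.symm)

theorem two_mul_finrank_fix {g y : G} (hg : g ∈ P.C) (hy : y ∈ P.C) :
    2 * finrank P.K (P.fixK ⟨g, hg⟩) ≤ finrank P.K V +
      finrank P.K (P.fixK ⟨⁅g, y⁆, mul_mem (mul_mem (mul_mem hg hy) (inv_mem hg)) (inv_mem hy)⟩) := by
  let U := P.fixK ⟨g, hg⟩
  let e : V ≃ₗ[P.K] V := LinearEquiv.ofLinear (P.op ⟨y, hy⟩) (P.op ⟨y⁻¹, inv_mem hy⟩)
    (LinearMap.ext fun x => smul_inv_smul y x) (LinearMap.ext fun x => inv_smul_smul y x)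
  have h1 := Submodule.finrank_sup_add_finrank_inf_eq U (U.map (e : V →ₗ[P.K] V))
  rw [LinearEquiv.finrank_map_eq e U] at h1
  have h2 : finrank P.K ↥(U ⊔ U.map (e : V →ₗ[P.K] V)) ≤ finrank P.K V := Submodule.finrank_le _
  have h3 : U ⊓ U.map (e : V →ₗ[P.K] V) ≤
      P.fixK ⟨⁅g, y⁆, mul_mem (mul_mem (mul_mem hg hy) (inv_mem hg)) (inv_mem hy)⟩ := by
    intro x hx
    rw [P.mem_fixK]
    obtain ⟨z, hz, rfl⟩ := hx.2
    have hgx : g • (y • z) = y • z := P.mem_fixK.1 hx.1
    have hgz : g • z = z := P.mem_fixK.1 hz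
    show ⁅g, y⁆ • (y • z) = y • z
    rw [commutatorElement_def, mul_smul, inv_smul_smul, mul_smul, inv_smul_eq_iff.2 hgz.symm,
      mul_smul, hgx]
  have h4 := Submodule.finrank_mono h3
  have hU : finrank P.K ↥(P.fixK ⟨g, hg⟩) = finrank P.K U := rfl
  omega

theorem finrank_fix_A {g : G} (hg : g ∈ P.A) (h1 : g ≠ 1) :
    finrank P.K (P.fixK ⟨g, P.A_le_C hg⟩) = 0 := by
  have : P.fixK ⟨g, P.A_le_C hg⟩ = ⊥ := by
    refine (Submodule.eq_bot_iff _).2 fun x hx => ?_
    by_contra hx0
    exact h1 (P.fixed_eq_one hg hx0 (P.mem_fixK.1 hx))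
  rw [this, finrank_bot]

end Prim

namespace Symp

variable {G V : Type v} [Group G] [Finite G] [AddCommGroup V] [Finite V] [Nontrivial V]
  [DistribMulAction G V] [FaithfulSMul G V] {P : Prim G V} (S : Symp P)

theorem finrank_fix_E {g : G} (hg : g ∈ S.E) (hgA : g ∉ P.A) :
    2 * finrank P.K (P.fixK ⟨g, S.le_C hg⟩) ≤ finrank P.K V := by
  obtain ⟨y, hy, hne⟩ : ∃ y ∈ S.E, g * y ≠ y * g := by
    by_contra hall
    push Not at hall
    exact hgA (S.nd g (S.le_C hg) hall)
  have h := P.two_mul_finrank_fix (S.le_C hg) (S.le_C hy)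
  rwa [P.finrank_fix_A (S.comm_mem g hg y hy)
    (fun h' => hne (commutatorElement_eq_one_iff_mul_comm.1 h')), add_zero] at h

include S in
theorem finrank_fix_C {g : G} (hg : g ∈ P.C) (hgA : g ∉ P.A) :
    4 * finrank P.K (P.fixK ⟨g, hg⟩) ≤ 3 * finrank P.K V := by
  by_cases hgE : g ∈ S.E
  · have := S.finrank_fix_E hgE hgA
    omega
  obtain ⟨y, hy, hne⟩ : ∃ y ∈ S.E, ⁅g, y⁆ ∉ P.A := by
    by_contra hall
    push Not at hall
    exact hgE (S.mem_E_of_central hg hall)
  have hE : ⁅g, y⁆ ∈ S.E := mul_mem (S.normal.conj_mem y hy g) (inv_mem hy)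
  have h := P.two_mul_finrank_fix hg (S.le_C hy)
  have h2 : 2 * finrank P.K (P.fixK ⟨⁅g, y⁆, S.le_C hE⟩) ≤ finrank P.K V := S.finrank_fix_E hE hne
  omega

end Symp

namespace Prim

variable {G V : Type v} [Group G] [Finite G] [AddCommGroup V] [Finite V] [Nontrivial V]
  [DistribMulAction G V] [FaithfulSMul G V] (P : Prim G V)

/-- Fixed vectors of distinct elements of one coset are distinct. -/
theorem sum_disjoint {c : G ⧸ P.A} (s : Finset G) (hs : ∀ g ∈ s, (g : G ⧸ P.A) = c) (F : ℕ)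
    (hF : ∀ g ∈ s, nfix (V := V) g ≤ F) :
    ∑ g ∈ s, (nfix (V := V) g * nfix (V := V) g - 1) ≤ (F + 1) * (Nat.card V - 1) := by
  classical
  have h1 : ∑ g ∈ s, (nfix (V := V) g - 1) ≤ Nat.card V - 1 := by
    haveI : Fintype V := Fintype.ofFinite V
    have hc : ∀ g : G, nfix (V := V) g - 1 =
        (Finset.univ.filter fun x : V => g • x = x ∧ x ≠ 0).card := by
      intro g
      rw [nfix, Nat.card_eq_fintype_card, Fintype.card_subtype,
        ← Finset.card_erase_of_mem (a := (0 : V)) (by simp)]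
      congr 1
      ext x
      simp [and_comm]
    simp only [hc]
    rw [← Finset.card_biUnion]
    · refine le_trans (Finset.card_le_card (t := Finset.univ.erase (0 : V)) fun x hx => ?_) ?_
      · obtain ⟨g, -, hg⟩ := Finset.mem_biUnion.1 hx
        exact Finset.mem_erase.2 ⟨(Finset.mem_filter.1 hg).2.2, Finset.mem_univ x⟩
      · rw [Finset.card_erase_of_mem (Finset.mem_univ _), Finset.card_univ, Nat.card_eq_fintype_card]
    · intro g hg g' hg' hne
      rw [Function.onFun, Finset.disjoint_left]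
      intro x hx hx'
      simp only [Finset.mem_filter, Finset.mem_univ, true_and] at hx hx'
      have hmem : g⁻¹ * g' ∈ P.A := QuotientGroup.eq.1 ((hs g hg).trans (hs g' hg').symm)
      have h2 : (g⁻¹ * g') • x = x := by rw [mul_smul, hx'.1, inv_smul_eq_iff, hx.1]
      exact hne (inv_mul_eq_one.1 (P.fixed_eq_one hmem hx.2 h2))
  calc ∑ g ∈ s, (nfix (V := V) g * nfix (V := V) g - 1)
      ≤ ∑ g ∈ s, (F + 1) * (nfix (V := V) g - 1) := by
        refine Finset.sum_le_sum fun g hg => ?_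
        have h1 := hF g hg
        have h2 := P.one_le_nfix g
        obtain ⟨t, ht⟩ : ∃ t, nfix (V := V) g = t + 1 := ⟨nfix (V := V) g - 1, by omega⟩
        rw [ht, show (t + 1) * (t + 1) = (t + 2) * t + 1 by ring, Nat.add_sub_cancel,
          Nat.add_sub_cancel]
        exact Nat.mul_le_mul_right _ (by omega)
    _ ≤ _ := by
        rw [← Finset.mul_sum]
        exact Nat.mul_le_mul_left _ h1

/-- A coset inside `C`. -/
theorem sum_linear {c : G ⧸ P.A} (s : Finset G) (hs : ∀ g ∈ s, (g : G ⧸ P.A) = c)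
    (hC : ∀ g ∈ s, g ∈ P.C) (k d : ℕ)
    (hk : (k = 2 ∧ 2 * finrank P.K V ≤ 3 * d) ∨ (k = 3 ∧ finrank P.K V ≤ 2 * d))
    (hd : ∀ g (hg : g ∈ s), finrank P.K (P.fixK ⟨g, hC g hg⟩) ≤ d) :
    ∑ g ∈ s, (nfix (V := V) g * nfix (V := V) g - 1) ≤
      k * (Nat.card P.K ^ d * Nat.card P.K ^ d - 1) := by
  classical
  set q := Nat.card P.K
  have hq : 0 < q := Nat.card_pos
  rcases s.eq_empty_or_nonempty with rfl | ⟨g₀, hg₀⟩
  · simp
  set n := finrank P.K V
  set T := P.op ⟨g₀, hC g₀ hg₀⟩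
  refine OddBase75Alg.bins s _ k (q ^ d) (Nat.card V) (Nat.one_le_pow _ _ hq) ?_ (fun g hg => ?_) ?_
  · rw [P.card_V, ← pow_add, ← pow_add, ← pow_add]
    rcases hk with ⟨h, h'⟩ | ⟨h, h'⟩
    · exact Or.inl ⟨h, Nat.pow_le_pow_right hq (by omega)⟩
    · exact Or.inr ⟨h, Nat.pow_le_pow_right hq (by omega)⟩
  · refine ⟨P.one_le_nfix g, ?_⟩
    rw [show nfix (V := V) g = q ^ finrank P.K (P.fixK ⟨g, hC g hg⟩) from P.nfix_eq ⟨g, hC g hg⟩]
    exact Nat.pow_le_pow_right hq (hd g hg)
  · -- eigenspaces of `g₀`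
    have hmem : ∀ g ∈ s, g⁻¹ * g₀ ∈ P.A := fun g hg =>
      QuotientGroup.eq.1 ((hs g hg).trans (hs g₀ hg₀).symm)
    let μ : G → P.K := fun g => if h : g⁻¹ * g₀ ∈ P.A then (P.sc ⟨_, h⟩ : P.Kˣ) else 0
    have hfix : ∀ g (hg : g ∈ s), P.fixK ⟨g, hC g hg⟩ = T.eigenspace (μ g) := by
      intro g hg
      ext x
      rw [P.mem_fixK, Module.End.mem_eigenspace_iff]
      show g • x = x ↔ g₀ • x = μ g • x
      simp only [μ, dif_pos (hmem g hg)]
      rw [P.sc_smul]
      show g • x = x ↔ g₀ • x = (g⁻¹ * g₀) • x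
      have hcomm : g⁻¹ * g₀ = g₀ * g⁻¹ := by
        have h3 := P.mem_C.1 (hC g hg) _ (hmem g hg)
        rw [mul_inv_cancel_left] at h3
        calc g⁻¹ * g₀ = (g⁻¹ * g₀ * g) * g⁻¹ := by group
          _ = g₀ * g⁻¹ := by rw [← h3]
      rw [hcomm, mul_smul, smul_left_cancel_iff, eq_inv_smul_iff]
    have hinj : Set.InjOn μ s := by
      intro g hg g' hg' h
      simp only [μ, dif_pos (hmem g hg), dif_pos (hmem g' hg')] at h
      have h2 := congrArg Subtype.val (P.sc_injective (Units.ext h))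
      exact inv_injective (mul_right_cancel h2)
    calc ∏ g ∈ s, nfix (V := V) g = ∏ g ∈ s, q ^ finrank P.K (T.eigenspace (μ g)) := by
          refine Finset.prod_congr rfl fun g hg => ?_
          rw [← hfix g hg]
          exact P.nfix_eq ⟨g, hC g hg⟩
      _ = q ^ ∑ ν ∈ s.image μ, finrank P.K (T.eigenspace ν) := by
          rw [Finset.prod_pow_eq_pow_sum, Finset.sum_image hinj]
      _ ≤ Nat.card V := by
          rw [P.card_V]
          exact Nat.pow_le_pow_right hq (OddBase75Alg.sum_finrank_eigenspace_le T _)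

/-- The covering inequality. -/
theorem cover (hbase : ∀ a b : V, ∃ g : G, g ≠ 1 ∧ g • a = a ∧ g • b = b) (Bl Bs : ℕ)
    (hl : ∀ (c : G ⧸ P.A) (s : Finset G), (∀ g ∈ s, (g : G ⧸ P.A) = c) → (∀ g ∈ s, g ∈ P.C) →
      (∀ g ∈ s, g ∉ P.A) → ∑ g ∈ s, (nfix (V := V) g * nfix (V := V) g - 1) ≤ Bl)
    (hsm : ∀ (c : G ⧸ P.A) (s : Finset G), (∀ g ∈ s, (g : G ⧸ P.A) = c) → (∀ g ∈ s, g ∉ P.C) →
      ∑ g ∈ s, (nfix (V := V) g * nfix (V := V) g - 1) ≤ Bs) :
    Nat.card V * Nat.card V - 1 ≤
      (P.A.relIndex P.C - 1) * Bl + (P.A.index - P.A.relIndex P.C) * Bs := by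
  classical
  haveI : Fintype G := Fintype.ofFinite G
  haveI : Fintype V := Fintype.ofFinite V
  haveI : Fintype (G ⧸ P.A) := Fintype.ofFinite _
  set s := Finset.univ.filter fun g : G => g ∉ P.A
  -- all nonzero pairs are covered
  let fx : G → Finset (V × V) := fun g =>
    (Finset.univ.filter fun p : V × V => g • p.1 = p.1 ∧ g • p.2 = p.2).erase 0
  have hfx : ∀ g, (fx g).card = nfix (V := V) g * nfix (V := V) g - 1 := by
    intro g
    rw [Finset.card_erase_of_mem (by simp), nfix, ← Nat.card_prod, ← Fintype.card_subtype,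
      ← Nat.card_eq_fintype_card]
    congr 1
    exact Nat.card_congr
      { toFun := fun p => (⟨p.1.1, p.2.1⟩, ⟨p.1.2, p.2.2⟩)
        invFun := fun p => ⟨(p.1.1, p.2.1), p.1.2, p.2.2⟩
        left_inv := fun p => rfl
        right_inv := fun p => rfl }
  have hcov : (Finset.univ.erase (0 : V × V)) ⊆ s.biUnion fx := by
    intro p hp
    obtain ⟨g, hg1, hga, hgb⟩ := hbase p.1 p.2
    refine Finset.mem_biUnion.2 ⟨g, Finset.mem_filter.2 ⟨Finset.mem_univ _, fun hA => ?_⟩, ?_⟩
    · have hp' := (Finset.mem_erase.1 hp).1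
      by_cases h1 : p.1 = 0
      · exact hg1 (P.fixed_eq_one hA (fun h2 => hp' (Prod.ext h1 h2)) hgb)
      · exact hg1 (P.fixed_eq_one hA h1 hga)
    · exact Finset.mem_erase.2 ⟨(Finset.mem_erase.1 hp).1, by simp [hga, hgb]⟩
  have h1 : Nat.card V * Nat.card V - 1 ≤
      ∑ g ∈ s, (nfix (V := V) g * nfix (V := V) g - 1) := by
    refine le_trans ?_ ((Finset.card_le_card hcov).trans (Finset.card_biUnion_le.trans_eq
      (Finset.sum_congr rfl fun g _ => hfx g)))
    rw [Finset.card_erase_of_mem (Finset.mem_univ _), Finset.card_univ, Fintype.card_prod,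
      Nat.card_eq_fintype_card]
  refine h1.trans ?_
  rw [← Finset.sum_fiberwise s (fun g : G => (g : G ⧸ P.A))]
  set Cb := Finset.univ.filter fun c : G ⧸ P.A => c ∈ P.C.map (QuotientGroup.mk' P.A)
  have hCb : Cb.card = P.A.relIndex P.C := by
    rw [HallSolvable.relIndex_eq_card_map, Nat.card_eq_fintype_card, Fintype.card_subtype]
  have hmemCb : ∀ g : G, ((g : G ⧸ P.A) ∈ Cb ↔ g ∈ P.C) := by
    intro g
    simp only [Cb, Finset.mem_filter, Finset.mem_univ, true_and]
    constructor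
    · rintro ⟨c, hc, hcg⟩
      rw [show g = c * (c⁻¹ * g) by rw [mul_inv_cancel_left]]
      exact mul_mem hc (P.A_le_C (QuotientGroup.eq.1 hcg))
    · exact fun h => ⟨g, h, rfl⟩
  have h1Cb : (1 : G ⧸ P.A) ∈ Cb := by
    rw [← QuotientGroup.mk_one, hmemCb]
    exact one_mem _
  calc ∑ c : G ⧸ P.A, ∑ g ∈ s.filter (fun g : G => (g : G ⧸ P.A) = c),
        (nfix (V := V) g * nfix (V := V) g - 1)
      ≤ ∑ c : G ⧸ P.A, (if c = 1 then 0 else if c ∈ Cb then Bl else Bs) := by
        refine Finset.sum_le_sum fun c _ => ?_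
        have hin : ∀ g ∈ s.filter (fun g : G => (g : G ⧸ P.A) = c), (g : G ⧸ P.A) = c ∧ g ∉ P.A :=
          fun g hg => ⟨(Finset.mem_filter.1 hg).2,
            (Finset.mem_filter.1 (Finset.mem_filter.1 hg).1).2⟩
        split_ifs with hc1 hcC
        · rw [Finset.sum_eq_zero]
          intro g hg
          exact absurd ((QuotientGroup.eq_one_iff g).1 ((hin g hg).1.trans hc1)) (hin g hg).2
        · refine hl c _ (fun g hg => (hin g hg).1) (fun g hg => ?_) (fun g hg => (hin g hg).2)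
          rw [← hmemCb, (hin g hg).1]; exact hcC
        · refine hsm c _ (fun g hg => (hin g hg).1) (fun g hg hgC => hcC ?_)
          rw [← (hin g hg).1, hmemCb]; exact hgC
    _ = (Cb.card - 1) * Bl + (Fintype.card (G ⧸ P.A) - Cb.card) * Bs := by
        rw [← Finset.sum_compl_add_sum Cb]
        have e1 : ∀ c ∈ Cbᶜ, (if c = 1 then 0 else if c ∈ Cb then Bl else Bs) = Bs := fun c hc => by
          rw [Finset.mem_compl] at hc
          rw [if_neg (fun h => hc (by rw [h]; exact h1Cb)), if_neg hc]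
        have e2 : ∑ c ∈ Cb, (if c = 1 then 0 else if c ∈ Cb then Bl else Bs) =
            (Cb.card - 1) * Bl := by
          rw [← Finset.sum_erase_add _ _ h1Cb, if_pos rfl, add_zero,
            Finset.sum_congr rfl (fun c hc => by
              rw [if_neg (Finset.mem_erase.1 hc).1, if_pos (Finset.mem_erase.1 hc).2]),
            Finset.sum_const, Finset.card_erase_of_mem h1Cb, smul_eq_mul]
        rw [Finset.sum_congr rfl e1, e2, Finset.sum_const, Finset.card_compl, smul_eq_mul, add_comm]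
    _ = _ := by rw [hCb, Subgroup.index_eq_card, Nat.card_eq_fintype_card]

/-- The semilinear part is bounded by the logarithm of the field. -/
theorem two_pow_index_le : 2 ^ P.C.index ≤ Nat.card P.K := by
  classical
  obtain ⟨p, hp⟩ := CharP.exists P.K
  haveI : Fact p.Prime := ⟨(CharP.char_is_prime_or_zero P.K p).resolve_right fun h => by
    subst h
    haveI : CharZero P.K := CharP.charP_to_charZero P.K
    exact not_finite P.K⟩
  letI := ZMod.algebra P.K p
  let σ : G ⧸ P.C → (P.K →ₐ[ZMod p] P.K) := fun c =>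
    { P.sig c.out with commutes' := fun r => DFunLike.congr_fun (Subsingleton.elim
        ((P.sig c.out).comp (algebraMap (ZMod p) P.K)) (algebraMap (ZMod p) P.K)) r }
  have hinj : Function.Injective σ := by
    intro c c' h
    rw [← QuotientGroup.out_eq' c, ← QuotientGroup.out_eq' c', QuotientGroup.eq]
    by_contra hne
    obtain ⟨r, hr⟩ := P.exists_sig_ne hne
    apply hr
    have h1 : P.sig c.out r = P.sig c'.out r := DFunLike.congr_fun h r
    rw [P.sig_mul, ← h1, ← P.sig_mul, inv_mul_cancel, P.sig_one]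
  have h1 := Nat.card_le_card_of_injective σ hinj
  rw [← Subgroup.index_eq_card, Nat.card_eq_fintype_card] at h1
  have h2 : P.C.index ≤ finrank (ZMod p) P.K := h1.trans AlgHom.card_le
  rw [Module.natCard_eq_pow_finrank (K := ZMod p) (V := P.K), Nat.card_zmod]
  exact (Nat.pow_le_pow_left (Fact.out : p.Prime).two_le _).trans
    (Nat.pow_le_pow_right (Fact.out : p.Prime).pos h2)

end Prim

end Cfsg.Agent.OddBase75
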