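import Mathlib
import Cfsg.Agent.Lib.OddBaseSymp75
import Cfsg.Agent.Lib.OddBaseCount75
import Cfsg.Agent.Lib.KGBound86Basic
import Cfsg.Agent.Lib.KGBound86Block
import Cfsg.Agent.Lib.KGBound86Sympl

/-!
Orders and class numbers of primitive solvable linear groups in terms of the field spanned by a maximal
abelian normal subgroup and the symplectic section over it.
-/

set_option autoImplicit false

namespace Cfsg.Agent.KGBound86

open Module
open Cfsg.Agent.OddBase75
open scoped commutatorElement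

universe v

variable {G V : Type v} [Group G] [Finite G] [AddCommGroup V] [Finite V] [DistribMulAction G V]

/-- Either blocks or a field. -/
theorem blocks_or_prim [Nontrivial V] (hirr : Irred G V) :
    (∃ (Ω : Type v) (_ : MulAction G Ω) (_ : Finite Ω) (_ : Blocks G V Ω), 1 < Nat.card Ω) ∨
      Nonempty (Prim G V) := by
  classical
  obtain ⟨A, ⟨hAn, hab⟩, hmax⟩ := Set.exists_max_image
    {A : Subgroup G | A.Normal ∧ ∀ a ∈ A, ∀ b ∈ A, a * b = b * a} (fun A : Subgroup G => Nat.card A)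
    (Set.toFinite _) ⟨⊥, inferInstance, fun a ha b hb => by
      rw [Subgroup.mem_bot.1 ha, Subgroup.mem_bot.1 hb]⟩
  haveI := hAn
  by_cases h : NoIdem (V := V) A
  · refine Or.inr ⟨⟨A, hAn, hab, fun B hB hAB hBab => ?_, fun r hr hr0 => ?_⟩⟩
    · exact (Subgroup.eq_of_le_of_card_ge hAB (hmax B ⟨hB, hBab⟩)).symm
    · exact exists_inverse hirr A hab h hr hr0
  · exact Or.inl (exists_blocks hirr A hab h)

section Prim

variable [Nontrivial V] [FaithfulSMul G V] (P : Prim G V)

/-- The dimension over the field. -/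
noncomputable abbrev dimK : ℕ := finrank P.K V

theorem dimK_pos : 0 < dimK P := finrank_pos

theorem field_data {p n : ℕ} (hp : p.Prime) (hV : Nat.card V = p ^ n) :
    ∃ f, Nat.card P.K = p ^ f ∧ n = f * dimK P ∧ 1 ≤ f ∧ P.C.index ≤ f := by
  classical
  have hK := P.card_V
  rw [hV] at hK
  obtain ⟨f, -, hf⟩ := (Nat.dvd_prime_pow hp).1 (hK ▸ dvd_pow_self (Nat.card P.K) (dimK_pos P).ne')
  rw [hf, ← pow_mul] at hK
  have hf1 : 1 ≤ f := by
    by_contra h0
    have : 1 < Nat.card P.K := Finite.one_lt_card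
    rw [hf, show f = 0 by omega, pow_zero] at this
    omega
  refine ⟨f, hf, Nat.pow_right_injective hp.two_le hK, hf1, ?_⟩
  obtain ⟨q, hq⟩ := CharP.exists P.K
  haveI : Fact q.Prime := ⟨(CharP.char_is_prime_or_zero P.K q).resolve_right fun h => by
    subst h
    haveI : CharZero P.K := CharP.charP_to_charZero P.K
    exact not_finite P.K⟩
  letI := ZMod.algebra P.K q
  let σ : G ⧸ P.C → (P.K →ₐ[ZMod q] P.K) := fun c =>
    { P.sig c.out with commutes' := fun r => DFunLike.congr_fun (Subsingleton.elim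
        ((P.sig c.out).comp (algebraMap (ZMod q) P.K)) (algebraMap (ZMod q) P.K)) r }
  have hinj : Function.Injective σ := by
    intro c c' h
    rw [← QuotientGroup.out_eq' c, ← QuotientGroup.out_eq' c', QuotientGroup.eq]
    by_contra hne
    obtain ⟨r, hr⟩ := P.exists_sig_ne hne
    apply hr
    have h1 : P.sig c.out r = P.sig c'.out r := DFunLike.congr_fun h r
    rw [P.sig_mul, ← h1, ← P.sig_mul, inv_mul_cancel, P.sig_one]
  have h1 := Nat.card_le_card_of_injective σ hinj
  rw [← Subgroup.index_eq_card, Nat.card_eq_fintype_card] at h1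
  have h2 : P.C.index ≤ finrank (ZMod q) P.K := h1.trans AlgHom.card_le
  have h3 := Module.natCard_eq_pow_finrank (K := ZMod q) (V := P.K)
  rw [Nat.card_zmod, hf] at h3
  have hd : 0 < finrank (ZMod q) P.K := finrank_pos
  have hqp : p = q := by
    refine (Nat.prime_dvd_prime_iff_eq hp Fact.out).1 (hp.dvd_of_dvd_pow (n := finrank (ZMod q) P.K) ?_)
    rw [← h3]
    exact dvd_pow_self p (by omega)
  subst hqp
  rwa [Nat.pow_right_injective hp.two_le h3]

theorem card_A_dvd {p f : ℕ} (hK : Nat.card P.K = p ^ f) : Nat.card P.A ∣ p ^ f - 1 := by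
  have h := Subgroup.card_dvd_of_injective P.sc P.sc_injective
  rwa [Nat.card_units, hK] at h

theorem A_central : P.A.subgroupOf P.C ≤ Subgroup.center P.C := fun a ha =>
  Subgroup.mem_center_iff.2 fun g => Subtype.ext (P.mem_C.1 g.2 _ ha)

theorem card_A_sub : Nat.card (P.A.subgroupOf P.C) = Nat.card P.A :=
  Nat.card_congr (Subgroup.subgroupOfEquivOfLe P.A_le_C).toEquiv

theorem op_mul (g h : P.C) : P.op (g * h) = P.op g * P.op h :=
  LinearMap.ext fun x => mul_smul (g : G) (h : G) x

/-- Commutators in `A` are roots of unity of order dividing the dimension. -/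
theorem commSet_le (g : P.C) : (commSet (P.A.subgroupOf P.C) g).ncard ≤ dimK P := by
  classical
  have hdet : ∀ c ∈ commSet (P.A.subgroupOf P.C) g, ∀ hc : (c : G) ∈ P.A,
      (P.sc ⟨(c : G), hc⟩) ^ dimK P = 1 := by
    rintro c ⟨-, h, hh⟩ hc
    have e1 := congrArg (fun x => LinearMap.det (P.op x)) hh
    simp only [op_mul, map_mul] at e1
    have hop1 : P.op (1 : P.C) = 1 := LinearMap.ext fun x => one_smul G x
    have hu : LinearMap.det (P.op h) * LinearMap.det (P.op h⁻¹) = 1 := by
      rw [← map_mul, ← op_mul, mul_inv_cancel, hop1, map_one]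
    have hg0 : LinearMap.det (P.op g) ≠ 0 := by
      intro h0
      have : LinearMap.det (P.op g) * LinearMap.det (P.op g⁻¹) = 1 := by
        rw [← map_mul, ← op_mul, mul_inv_cancel, hop1, map_one]
      rw [h0, zero_mul] at this
      exact zero_ne_one this
    have hc' : P.op c = ((P.sc ⟨(c : G), hc⟩ : P.Kˣ) : P.K) • (1 : Module.End P.K V) :=
      LinearMap.ext fun x => (P.sc_smul ⟨(c : G), hc⟩ x).symm
    rw [hc', LinearMap.det_smul, map_one, mul_one, mul_right_comm, hu, one_mul] at e1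
    refine Units.ext ?_
    rw [Units.val_pow_eq_pow_val, Units.val_one]
    exact (mul_right_eq_self₀.1 e1.symm).resolve_right hg0
  haveI : Fintype P.Kˣ := Fintype.ofFinite _
  refine le_trans ?_ (IsCyclic.card_pow_eq_one_le (α := P.Kˣ) (dimK_pos P))
  rw [← Nat.card_coe_set_eq, ← Nat.card_eq_finsetCard]
  refine Nat.card_le_card_of_injective (fun c => ⟨P.sc ⟨(c.1 : G), c.2.1⟩, Finset.mem_filter.2
    ⟨Finset.mem_univ _, hdet c.1 c.2 c.2.1⟩⟩) fun c d h => ?_
  have := congrArg Subtype.val (P.sc_injective (congrArg Subtype.val h))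
  exact Subtype.ext (Subtype.ext this)

theorem k_C_ge :
    Nat.card P.A * (dimK P + Nat.card (ConjClasses (P.C ⧸ P.A.subgroupOf P.C)) - 1)
      ≤ dimK P * Nat.card (ConjClasses P.C) := by
  rw [← card_A_sub P]
  exact k_central _ (A_central P) (commSet_le P)

theorem card_A_le_k : Nat.card P.A ≤ Nat.card (ConjClasses P.C) := by
  rw [← card_A_sub P]
  exact card_central_le_k _ (A_central P)

variable {P} (S : Symp P)

/-- `C` acting on the section. -/
noncomputable def secHom : P.C →* MulAut S.M :=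
  (MulDistribMulAction.toMulAut G S.M).comp P.C.subtype

theorem secHom_apply (c : P.C) (m : S.M) : secHom S c m = (c : G) • m := rfl

theorem ker_secHom : (secHom S).ker = S.E.subgroupOf P.C := by
  ext c
  rw [MonoidHom.mem_ker, Subgroup.mem_subgroupOf, S.mem_E_iff c.2]
  exact ⟨fun h m => MulEquiv.ext_iff.1 h m, fun h => MulEquiv.ext h⟩

theorem card_C : Nat.card P.C = Nat.card P.A * Nat.card S.M * Nat.card (secHom S).range := by
  rw [← (secHom S).ker.card_mul_index, Subgroup.index_ker]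
  congr 1
  rw [ker_secHom, Nat.card_congr (Subgroup.subgroupOfEquivOfLe (show S.E ≤ P.C from S.le_C)).toEquiv,
    Subgroup.card_eq_card_quotient_mul_card_subgroup (P.A.subgroupOf S.E), mul_comm,
    Nat.card_congr (Subgroup.subgroupOfEquivOfLe S.le).toEquiv]

theorem card_quot_C : Nat.card (P.C ⧸ P.A.subgroupOf P.C) =
    Nat.card S.M * Nat.card (secHom S).range := by
  have h := Subgroup.card_eq_card_quotient_mul_card_subgroup (P.A.subgroupOf P.C)
  rw [card_C S, card_A_sub P] at h
  refine Nat.eq_of_mul_eq_mul_right (Nat.card_pos (α := P.A)) ?_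
  rw [← h]
  ring

theorem k_quot_C (hM : 1 < Nat.card S.M) : Nat.card (ConjClasses (secHom S).range) + 1
    ≤ Nat.card (ConjClasses (P.C ⧸ P.A.subgroupOf P.C)) := by
  let ψ : P.C ⧸ P.A.subgroupOf P.C →* (secHom S).range :=
    QuotientGroup.lift _ (secHom S).rangeRestrict fun a ha => by
      rw [MonoidHom.mem_ker, ← MonoidHom.mem_ker, MonoidHom.ker_rangeRestrict, ker_secHom]
      exact S.le ha
  have hψ : Function.Surjective ψ :=
    QuotientGroup.lift_surjective_of_surjective _ _ (secHom S).rangeRestrict_surjective _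
  have hne : ψ.ker ≠ ⊥ := by
    haveI := Finite.one_lt_card_iff_nontrivial.1 hM
    obtain ⟨m, hm⟩ := exists_ne (1 : S.M)
    obtain ⟨x, rfl⟩ := QuotientGroup.mk_surjective m
    intro h
    have hmem : ((⟨(x : G), S.le_C x.2⟩ : P.C) : P.C ⧸ P.A.subgroupOf P.C) ∈ ψ.ker := by
      show (secHom S).rangeRestrict ⟨(x : G), S.le_C x.2⟩ = 1
      rw [← MonoidHom.mem_ker, MonoidHom.ker_rangeRestrict, ker_secHom]
      exact x.2
    rw [h, Subgroup.mem_bot, QuotientGroup.eq_one_iff] at hmem
    exact hm (S.mk_eq_one.2 hmem)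
  rw [k_congr (QuotientGroup.quotientKerEquivOfSurjective ψ hψ).symm]
  exact k_quot_lt ψ.ker hne

theorem sq_free (r : ℕ) (x : S.M) (hr : r.Prime) (hx : x ^ (r * r) = 1) : x ^ r = 1 := by
  let Us : Subgroup S.M := (powMonoidHom r : S.M →* S.M).range
  obtain ⟨W, hW, hd, hsup⟩ := S.cr (Subgroup.toAddSubgroup Us) (fun g y hy => by
    obtain ⟨t, ht⟩ := hy
    exact ⟨g • t, by
      show (g • t) ^ r = g • Additive.toMul y
      rw [← smul_pow', ← ht]; rfl⟩)
  have hstep : ∀ y : S.M, ∃ u ∈ Us, y ^ r = u ^ r := by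
    intro y
    obtain ⟨u, hu, w, hw, huw⟩ := AddSubgroup.mem_sup.1
      (hsup ▸ AddSubgroup.mem_top (Additive.ofMul y) : Additive.ofMul y ∈ _ ⊔ W)
    refine ⟨Additive.toMul u, hu, ?_⟩
    have h1 : r • w ∈ Subgroup.toAddSubgroup Us ⊓ W := ⟨⟨Additive.toMul w, rfl⟩, nsmul_mem hw r⟩
    rw [hd, AddSubgroup.mem_bot] at h1
    have h2 : r • Additive.ofMul y = r • u := by rw [← huw, smul_add, h1, add_zero]
    exact h2
  let ρ : Us → Us := fun u => ⟨(u : S.M) ^ r, (u : S.M), rfl⟩
  have hsurj : Function.Surjective ρ := by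
    rintro ⟨_, y, rfl⟩
    obtain ⟨u, hu, h⟩ := hstep y
    exact ⟨⟨u, hu⟩, Subtype.ext h.symm⟩
  have hinj := Finite.injective_iff_surjective.2 hsurj
  have h1 : ρ ⟨x ^ r, x, rfl⟩ = ρ ⟨1, one_mem _⟩ := Subtype.ext (by
    show (x ^ r) ^ r = 1 ^ r
    rw [one_pow, ← pow_mul, hx])
  exact congrArg Subtype.val (hinj h1)

theorem section_data [Group.IsSolvable G] : ∃ e, Nat.card S.M = e * e ∧ 1 ≤ e ∧ e ≤ dimK P ∧
    Nat.card (secHom S).range ≤ spBound e ∧
    ∀ r : ℕ, r.Prime → r ∣ e → r ∣ Nat.card P.K - 1 := by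
  obtain ⟨e, he⟩ := S.exists_sq
  refine ⟨e, he, Nat.pos_of_ne_zero fun h => by simp [h, Nat.card_pos.ne'] at he, ?_, ?_,
    fun r hr hre => ?_⟩
  · exact Nat.mul_self_le_mul_self_iff.1 (he ▸ S.card_le_finrank_sq)
  · haveI : Finite P.Kˣ := inferInstance
    refine card_isometry_le e S.M S.pair (secHom S).range he S.pair_self S.pair_nd
      (fun r x hr hx => sq_free S r x hr hx) (fun g hg => Subtype.ext (MulEquiv.ext fun m => hg m))
      fun g m m' => ?_
    obtain ⟨c, hc⟩ := g.2
    show S.pair ((g : MulAut S.M) m) ((g : MulAut S.M) m') = _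
    rw [← hc]
    exact S.pair_smul c.2 m m'
  · have h := S.card_dvd r hr (he ▸ hre.mul_right e)
    rwa [Nat.card_units] at h

end Prim

end Cfsg.Agent.KGBound86
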