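import Mathlib
import Cfsg.Agent.Lib.KGBound86Prim

/-!
Orders of solvable completely reducible linear groups over the field with two elements in dimension at
most six.
-/

set_option autoImplicit false

namespace Cfsg.Agent.KGBound86

open Cfsg.Agent.OddBase75

universe v

/-- The bound. -/
def ordTwo (n : ℕ) : ℕ := [1, 1, 6, 21, 72, 155, 1296].getD n 0

/-- The group induced on a module. -/
noncomputable def actHom (H W : Type v) [Group H] [AddCommGroup W] [DistribMulAction H W] :
    H →* (AddMonoid.End W)ˣ := (DistribMulAction.toAddMonoidEnd H W).toHomUnits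

theorem actHom_smul {H W : Type v} [Group H] [AddCommGroup W] [DistribMulAction H W] (h : H) (x : W) :
    actHom H W h • x = h • x := rfl

theorem cr_range {H W : Type v} [Group H] [AddCommGroup W] [DistribMulAction H W] (h : CR H W) :
    CR (actHom H W).range W := by
  intro U hU
  obtain ⟨W', hW', h1, h2⟩ := h U fun g x hx => hU ⟨_, g, rfl⟩ x hx
  refine ⟨W', fun g x hx => ?_, h1, h2⟩
  obtain ⟨c, hc⟩ := g.2
  show (g : (AddMonoid.End W)ˣ) • x ∈ W'
  rw [← hc]
  exact hW' c x hx

theorem faithful_range {H W : Type v} [Group H] [AddCommGroup W] [DistribMulAction H W] :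
    FaithfulSMul (actHom H W).range W :=
  ⟨fun {_ _} hgh => Subtype.ext (Units.ext (AddMonoidHom.ext hgh))⟩

theorem table_red : ∀ a < 7, ∀ b < 7, a + b ≤ 6 → ordTwo a * ordTwo b ≤ ordTwo (a + b) := by
  decide +kernel

theorem table_blocks : ∀ k < 7, ∀ w < 4, 2 ≤ k → 1 ≤ w → w * k ≤ 6 →
    k.factorial * ordTwo w ^ k ≤ ordTwo (w * k) := by decide +kernel

theorem table_prim_fin : ∀ f w e : Fin 7, (3 ≤ f.1 * w.1 ∧ f.1 * w.1 ≤ 6 ∧ e.1 ≤ w.1 ∧
    (2 ∣ e.1 → 2 ∣ 2 ^ f.1 - 1) ∧ (3 ∣ e.1 → 3 ∣ 2 ^ f.1 - 1) ∧ (5 ∣ e.1 → 5 ∣ 2 ^ f.1 - 1)) →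
    f.1 * ((2 ^ f.1 - 1) * (e.1 * e.1) * spBound e.1) ≤ ordTwo (f.1 * w.1) := by decide +kernel

theorem table_prim (f : ℕ) (hf : f < 7) (w : ℕ) (hw : w < 7) (e : ℕ) (he : e < 7)
    (h : 3 ≤ f * w ∧ f * w ≤ 6 ∧ e ≤ w ∧ (2 ∣ e → 2 ∣ 2 ^ f - 1) ∧ (3 ∣ e → 3 ∣ 2 ^ f - 1) ∧
      (5 ∣ e → 5 ∣ 2 ^ f - 1)) :
    f * ((2 ^ f - 1) * (e * e) * spBound e) ≤ ordTwo (f * w) :=
  table_prim_fin ⟨f, hf⟩ ⟨w, hw⟩ ⟨e, he⟩ h

/-- The bound in a given dimension. -/
def OrdBound (n : ℕ) : Prop :=
  ∀ (H W : Type v) [Group H] [Finite H] [Group.IsSolvable H] [AddCommGroup W] [Finite W]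
    [DistribMulAction H W] [FaithfulSMul H W], CR H W → Nat.card W = 2 ^ n → Nat.card H ≤ ordTwo n

theorem range_bound {n : ℕ} (hn : OrdBound.{v} n) {H W : Type v} [Group H] [Finite H]
    [Group.IsSolvable H] [AddCommGroup W] [Finite W] [DistribMulAction H W] (hcr : CR H W)
    (hW : Nat.card W = 2 ^ n) : Nat.card (actHom H W).range ≤ ordTwo n := by
  haveI : Group.IsSolvable (actHom H W).range :=
    Group.isSolvable_of_surjective (actHom H W).rangeRestrict_surjective
  haveI : Finite (actHom H W).range := Finite.of_surjective _ (actHom H W).rangeRestrict_surjective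
  haveI := faithful_range (H := H) (W := W)
  exact hn _ W (cr_range hcr) hW

theorem ordBound : ∀ n, n ≤ 6 → OrdBound.{v} n := by
  intro n
  induction n using Nat.strong_induction_on with
  | _ n IH =>
  intro hn6 H W _ _ _ _ _ _ _ hcr hW
  classical
  by_cases hn3 : n < 3
  · let S := {x : W // x ≠ 0}
    let f : H → Equiv.Perm S := fun h =>
      { toFun := fun x => ⟨h • x.1, fun e => x.2 ((smul_eq_zero_iff_eq h).1 e)⟩
        invFun := fun x => ⟨h⁻¹ • x.1, fun e => x.2 ((smul_eq_zero_iff_eq h⁻¹).1 e)⟩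
        left_inv := fun x => Subtype.ext (inv_smul_smul h x.1)
        right_inv := fun x => Subtype.ext (smul_inv_smul h x.1) }
    have hf : Function.Injective f := fun g h e => eq_of_smul_eq_smul (α := W) fun x => by
      by_cases hx : x = 0
      · rw [hx, smul_zero, smul_zero]
      · exact congrArg Subtype.val (Equiv.ext_iff.1 e ⟨x, hx⟩)
    haveI := Fintype.ofFinite W
    refine (Nat.card_le_card_of_injective f hf).trans ?_
    rw [Nat.card_perm, Nat.card_eq_fintype_card (α := S), Fintype.card_subtype_compl,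
      Fintype.card_subtype_eq, ← Nat.card_eq_fintype_card, hW]
    interval_cases n <;> decide
  haveI : Nontrivial W := Finite.one_lt_card_iff_nontrivial.1 (by
    rw [hW]; exact Nat.one_lt_two_pow (by omega))
  by_cases hirr : Irred H W
  swap
  · simp only [Irred, not_forall, not_or, exists_prop] at hirr
    obtain ⟨U, hU, hU0, hU1⟩ := hirr
    obtain ⟨U', hU', hd, hs⟩ := hcr U hU
    letI i1 := subAct U hU
    letI i2 := subAct U' hU'
    have hprod : Nat.card W = Nat.card U * Nat.card U' := by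
      rw [← Nat.card_prod]
      refine (Nat.card_congr (Equiv.ofBijective (fun p : U × U' => (p.1 : W) + p.2) ⟨?_, ?_⟩)).symm
      · exact AddSubgroup.add_injective_of_disjoint (disjoint_iff.2 hd)
      · intro x
        obtain ⟨a, ha, b, hb, hab⟩ := AddSubgroup.mem_sup.1 (hs ▸ AddSubgroup.mem_top x : x ∈ U ⊔ U')
        exact ⟨(⟨a, ha⟩, ⟨b, hb⟩), hab⟩
    rw [hW] at hprod
    obtain ⟨a, -, ha⟩ := (Nat.dvd_prime_pow Nat.prime_two).1 ⟨_, hprod⟩
    obtain ⟨b, -, hb⟩ := (Nat.dvd_prime_pow Nat.prime_two).1 ⟨_, hprod.trans (mul_comm _ _)⟩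
    have hab : n = a + b := Nat.pow_right_injective le_rfl (by
      show 2 ^ n = 2 ^ (a + b)
      rw [pow_add, ← ha, ← hb]; exact hprod)
    have ha1 : 1 ≤ a := by
      by_contra h
      exact hU0 (AddSubgroup.eq_bot_of_card_eq U (by rw [ha, show a = 0 by omega, pow_zero]))
    have hb1 : 1 ≤ b := by
      by_contra h
      refine hU1 (AddSubgroup.eq_top_of_card_eq U ?_)
      rw [hW, hab, show b = 0 by omega, add_zero, ha]
    have h1 := range_bound (IH a (by omega) (by omega)) (cr_sub hcr U hU) ha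
    have h2 := range_bound (IH b (by omega) (by omega)) (cr_sub hcr U' hU') hb
    have hinj : Function.Injective fun h : H =>
        ((actHom H U).rangeRestrict h, (actHom H U').rangeRestrict h) := by
      intro g h e
      refine eq_of_smul_eq_smul (α := W) fun x => ?_
      obtain ⟨u, hu, w, hw, rfl⟩ := AddSubgroup.mem_sup.1 (hs ▸ AddSubgroup.mem_top x : x ∈ U ⊔ U')
      have e1 : g • (⟨u, hu⟩ : U) = h • (⟨u, hu⟩ : U) := by
        have t : (actHom H U) g = (actHom H U) h := congrArg (fun p => p.1.1) e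
        exact congrArg (fun v : (AddMonoid.End U)ˣ => v • (⟨u, hu⟩ : U)) t
      have e2 : g • (⟨w, hw⟩ : U') = h • (⟨w, hw⟩ : U') := by
        have t : (actHom H U') g = (actHom H U') h := congrArg (fun p => p.2.1) e
        exact congrArg (fun v : (AddMonoid.End U')ˣ => v • (⟨w, hw⟩ : U')) t
      rw [smul_add, smul_add]
      exact congrArg₂ (· + ·) (congrArg Subtype.val e1) (congrArg Subtype.val e2)
    haveI : Finite (actHom H U).range := Finite.of_surjective _ (actHom H U).rangeRestrict_surjective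
    haveI : Finite (actHom H U').range :=
      Finite.of_surjective _ (actHom H U').rangeRestrict_surjective
    refine (Nat.card_le_card_of_injective _ hinj).trans ?_
    rw [Nat.card_prod]
    refine (Nat.mul_le_mul h1 h2).trans ?_
    rw [hab]
    exact table_red a (by omega) b (by omega) (by omega)
  rcases blocks_or_prim hirr with ⟨Ω, _, _, B, hΩ⟩ | ⟨⟨P⟩⟩
  · obtain ⟨k, d, t, hk, hd, hV, -, -, ht, -, hord⟩ := blocks_bound hirr B hΩ
    rw [hW] at hV
    obtain ⟨w, -, rfl⟩ := (Nat.dvd_prime_pow Nat.prime_two).1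
      (hV ▸ dvd_pow_self d (show k ≠ 0 by omega))
    rw [← pow_mul] at hV
    have hn := Nat.pow_right_injective le_rfl hV
    have hw : 1 ≤ w := by
      rcases Nat.eq_zero_or_pos w with rfl | h
      · simp at hd
      · exact h
    have hk6 : k ≤ 6 := by nlinarith
    have hw3 : w ≤ 3 := by nlinarith
    refine (hord (ordTwo w) fun H' W' _ _ _ _ _ _ _ hirr' hW' =>
      IH w (by nlinarith) (by omega) H' W' hirr'.cr hW').trans ?_
    refine (Nat.mul_le_mul_right _ ht).trans ?_
    rw [hn]
    exact table_blocks k (by omega) w (by omega) hk hw (by omega)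
  · obtain ⟨S⟩ := exists_symp P
    obtain ⟨f, hf, hn, hf1, hl⟩ := field_data P Nat.prime_two hW
    obtain ⟨e, he, he1, hew, hm, hprimes⟩ := section_data S
    have hz : Nat.card P.A ≤ 2 ^ f - 1 := Nat.le_of_dvd (by
      have := Nat.one_lt_two_pow (show f ≠ 0 by omega); omega) (card_A_dvd P hf)
    have hH : Nat.card H ≤ f * ((2 ^ f - 1) * (e * e) * spBound e) := by
      rw [← P.C.card_mul_index, mul_comm, card_C S, he]
      exact Nat.mul_le_mul hl (Nat.mul_le_mul (Nat.mul_le_mul hz le_rfl) hm)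
    refine hH.trans ?_
    rw [hn]
    have hw := dimK_pos P
    refine table_prim f (by nlinarith) _ (by nlinarith) e (by nlinarith) ⟨(by omega), (by omega), hew,
      ?_, ?_, ?_⟩ <;> intro hre <;> have := hprimes _ (by norm_num) hre <;> rwa [hf] at this

/-- The section group is small when the section has order at most `2 ^ 6`. -/
theorem section_small {G V : Type v} [Group G] [Finite G] [Group.IsSolvable G] [AddCommGroup V]
    [Finite V] [DistribMulAction G V] [FaithfulSMul G V] [Nontrivial V] {P : Prim G V} (S : Symp P)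
    {j : ℕ} (hj : j ≤ 6) (hM : Nat.card S.M = 2 ^ j) :
    Nat.card (secHom S).range ≤ ordTwo j := by
  refine le_trans ?_ (range_bound (ordBound j hj) S.cr (by rwa [Nat.card_congr Additive.toMul]))
  rw [← Subgroup.index_ker, ← Subgroup.index_ker]
  have h : (secHom S).ker = (actHom G (Additive S.M)).ker.subgroupOf P.C := by
    ext c
    rw [MonoidHom.mem_ker, Subgroup.mem_subgroupOf, MonoidHom.mem_ker]
    constructor
    · intro h
      refine Units.ext (AddMonoidHom.ext fun x => ?_)
      exact congrArg Additive.ofMul (MulEquiv.ext_iff.1 h (Additive.toMul x))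
    · intro h
      refine MulEquiv.ext fun m => ?_
      exact congrArg Additive.toMul
        (congrArg (fun u : (AddMonoid.End (Additive S.M))ˣ => u • Additive.ofMul m) h)
  rw [h]
  exact Nat.le_of_dvd (Nat.pos_of_ne_zero Subgroup.index_ne_zero_of_finite)
    (Subgroup.relIndex_dvd_index_of_normal _ _)

end Cfsg.Agent.KGBound86
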