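import Mathlib
import Cfsg.Agent.Lib.KGBound86CR

/-!
Orders of solvable completely reducible groups of automorphisms of finite abelian groups:
`(3 |H|) ^ 2 ≤ |W| ^ 5`, with a sharper table over the field with three elements in dimension at most
four.
-/

set_option autoImplicit false
set_option linter.style.haveILetI false

namespace Cfsg.Agent.KBSolv75

open Cfsg.Agent.OddBase75 Cfsg.Agent.KGBound86

universe v

/-- The table for three elements. -/
def ordThree (n : ℕ) : ℕ := [1, 2, 48, 96, 4608].getD n 0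

theorem three_red : ∀ a < 5, ∀ b < 5, a + b ≤ 4 → ordThree a * ordThree b ≤ ordThree (a + b) := by
  decide +kernel

theorem three_blocks : ∀ k < 5, ∀ w < 3, 2 ≤ k → 1 ≤ w → w * k ≤ 4 →
    k.factorial * ordThree w ^ k ≤ ordThree (w * k) := by decide +kernel

theorem three_prim_fin : ∀ f w e : Fin 5, (1 ≤ f.1 * w.1 ∧ f.1 * w.1 ≤ 4 ∧ e.1 ≤ w.1 ∧ 1 ≤ e.1 ∧
    (2 ∣ e.1 → 2 ∣ 3 ^ f.1 - 1) ∧ (3 ∣ e.1 → 3 ∣ 3 ^ f.1 - 1)) →
    f.1 * ((3 ^ f.1 - 1) * (e.1 * e.1) * (if e.1 = 4 then 72 else spBound e.1))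
      ≤ ordThree (f.1 * w.1) := by decide +kernel

theorem three_prim (f w e R : ℕ) (hf : f < 5) (hw : w < 5) (he : e < 5)
    (h : 1 ≤ f * w ∧ f * w ≤ 4 ∧ e ≤ w ∧ 1 ≤ e ∧ (2 ∣ e → 2 ∣ 3 ^ f - 1) ∧ (3 ∣ e → 3 ∣ 3 ^ f - 1))
    (hR : R ≤ spBound e) (hR4 : e = 4 → R ≤ 72) :
    f * ((3 ^ f - 1) * (e * e) * R) ≤ ordThree (f * w) := by
  refine le_trans ?_ (three_prim_fin ⟨f, hf⟩ ⟨w, hw⟩ ⟨e, he⟩ h)
  refine Nat.mul_le_mul_left _ (Nat.mul_le_mul_left _ ?_)
  show R ≤ if e = 4 then 72 else spBound e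
  split_ifs with h4
  · exact hR4 h4
  · exact hR

theorem pow_fourteen_le : ∀ e : ℕ, 5 ≤ e → e ^ 14 ≤ 3 ^ (5 * e - 4) := by
  intro e he
  induction e, he using Nat.le_induction with
  | base => norm_num
  | succ n hn ih =>
    have h1 : (n + 1) ^ 14 ≤ 243 * n ^ 14 := by
      have h2 : 5 * (n + 1) ≤ 6 * n := by omega
      have h3 := Nat.pow_le_pow_left h2 14
      rw [mul_pow, mul_pow] at h3
      have h4 : 5 ^ 14 * (n + 1) ^ 14 ≤ 5 ^ 14 * (243 * n ^ 14) := h3.trans (by
        rw [← mul_assoc]; exact Nat.mul_le_mul_right _ (by norm_num))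
      exact Nat.le_of_mul_le_mul_left h4 (by norm_num)
    calc (n + 1) ^ 14 ≤ 243 * n ^ 14 := h1
      _ ≤ 3 ^ 5 * 3 ^ (5 * n - 4) := Nat.mul_le_mul (by norm_num) ih
      _ = _ := by rw [← pow_add]; congr 1; omega

/-- The arithmetic of the primitive case. -/
theorem prim_arith {Q f w e R : ℕ} (hQ : 2 ≤ Q) (hf : 2 * f ≤ Q) (hew : e ≤ w) (he : 1 ≤ e)
    (h2 : 2 ∣ e → 3 ≤ Q) (h3 : 3 ∣ e → 4 ≤ Q) (hbig : 2 ≤ e → 3 ≤ Q) (hR1 : e = 1 → R ≤ 1)
    (hR2 : e = 2 → R ≤ 6) (hR3 : e = 3 → R ≤ 24) (hR4 : e = 4 → R ≤ 72)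
    (hR : 5 ≤ e → (3 * R) ^ 2 ≤ (e * e) ^ 5) :
    (3 * (f * ((Q - 1) * (e * e) * R))) ^ 2 ≤ (Q ^ w) ^ 5 := by
  refine le_trans ?_ (Nat.pow_le_pow_left (Nat.pow_le_pow_right (by omega) hew) 5)
  have key : ∀ c : ℕ, R ≤ c → (3 * (e * e) * c) ^ 2 * Q ^ 4 ≤ 4 * Q ^ (5 * e) →
      (3 * (f * ((Q - 1) * (e * e) * R))) ^ 2 ≤ (Q ^ e) ^ 5 := by
    intro c hc h
    rw [← pow_mul, mul_comm e 5]
    have h1 : 2 * (3 * (f * ((Q - 1) * (e * e) * R))) ≤ 3 * (e * e) * c * Q ^ 2 := by
      calc 2 * (3 * (f * ((Q - 1) * (e * e) * R))) = 3 * ((2 * f) * ((Q - 1) * (e * e) * R)) := by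
            ring
        _ ≤ 3 * (Q * (Q * (e * e) * c)) := by
            gcongr
            exact Nat.sub_le _ _
        _ = _ := by ring
    have h2' := Nat.pow_le_pow_left h1 2
    have h3' : 4 * (3 * (f * ((Q - 1) * (e * e) * R))) ^ 2 ≤ 4 * Q ^ (5 * e) :=
      le_trans (le_of_eq (by ring)) (h2'.trans (le_trans (le_of_eq (by ring)) h))
    omega
  by_cases he1 : e = 1
  · subst he1
    by_cases hQ2 : Q = 2
    · subst hQ2
      have hf1 : f ≤ 1 := by omega
      have := hR1 rfl
      calc (3 * (f * ((2 - 1) * (1 * 1) * R))) ^ 2 ≤ (3 * (1 * ((2 - 1) * (1 * 1) * 1))) ^ 2 := by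
            gcongr
        _ ≤ _ := by norm_num
    refine key 1 (hR1 rfl) ?_
    have h9 : 3 ≤ Q := by omega
    calc (3 * (1 * 1) * 1) ^ 2 * Q ^ 4 = 3 * 3 * Q ^ 4 := by norm_num
      _ ≤ 4 * Q * Q ^ 4 := Nat.mul_le_mul_right _ (by omega)
      _ = _ := by ring
  by_cases he2 : e = 2
  · subst he2
    have hR' := hR2 rfl
    have := h2 (by norm_num)
    by_cases hQ3 : Q = 3
    · subst hQ3
      have hf1 : f ≤ 1 := by omega
      calc (3 * (f * ((3 - 1) * (2 * 2) * R))) ^ 2 ≤ (3 * (1 * ((3 - 1) * (2 * 2) * 6))) ^ 2 := by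
            gcongr
        _ ≤ _ := by norm_num
    refine key 6 hR' ?_
    have h4 : 4 ^ 6 ≤ Q ^ 6 := Nat.pow_le_pow_left (by omega) 6
    calc (3 * (2 * 2) * 6) ^ 2 * Q ^ 4 ≤ 4 * Q ^ 6 * Q ^ 4 := Nat.mul_le_mul_right _ (by omega)
      _ = _ := by ring
  by_cases he3 : e = 3
  · subst he3
    refine key 24 (hR3 rfl) ?_
    have h4 : 4 ^ 11 ≤ Q ^ 11 := Nat.pow_le_pow_left (h3 dvd_rfl) 11
    calc (3 * (3 * 3) * 24) ^ 2 * Q ^ 4 ≤ 4 * Q ^ 11 * Q ^ 4 := Nat.mul_le_mul_right _ (by omega)
      _ = _ := by ring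
  by_cases he4 : e = 4
  · subst he4
    refine key 72 (hR4 rfl) ?_
    have h4 : 3 ^ 16 ≤ Q ^ 16 := Nat.pow_le_pow_left (hbig (by omega)) 16
    calc (3 * (4 * 4) * 72) ^ 2 * Q ^ 4 ≤ 4 * Q ^ 16 * Q ^ 4 := Nat.mul_le_mul_right _ (by omega)
      _ = _ := by ring
  · refine key R le_rfl ?_
    have h5 : 5 ≤ e := by omega
    have h4 : 3 ^ (5 * e - 4) ≤ Q ^ (5 * e - 4) := Nat.pow_le_pow_left (hbig (by omega)) _
    have hR5 := hR h5
    calc (3 * (e * e) * R) ^ 2 * Q ^ 4 = (e * e) ^ 2 * (3 * R) ^ 2 * Q ^ 4 := by ring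
      _ ≤ (e * e) ^ 2 * (e * e) ^ 5 * Q ^ 4 := by gcongr
      _ = e ^ 14 * Q ^ 4 := by ring
      _ ≤ 4 * (Q ^ (5 * e - 4) * Q ^ 4) := by
          have := Nat.mul_le_mul_right (Q ^ 4) ((pow_fourteen_le e h5).trans h4)
          omega
      _ = _ := by rw [← pow_add]; congr 2; omega

/-- The bound. -/
def OrdBd (N : ℕ) : Prop :=
  ∀ (H W : Type v) [Group H] [Finite H] [Group.IsSolvable H] [AddCommGroup W] [Finite W]
    [DistribMulAction H W] [FaithfulSMul H W], CR H W → Nat.card W = N →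
    (3 * Nat.card H) ^ 2 ≤ 9 * N ^ 5 ∧ (1 < N → (3 * Nat.card H) ^ 2 ≤ N ^ 5) ∧
      ∀ n, n ≤ 4 → N = 3 ^ n → Nat.card H ≤ ordThree n

theorem ordBd : ∀ N, OrdBd.{v} N := by
  intro N
  induction N using Nat.strong_induction_on with
  | _ N IH =>
  intro H W _ _ _ _ _ _ _ hcr hN
  classical
  by_cases h1 : N ≤ 1
  · have : Subsingleton W := Finite.card_le_one_iff_subsingleton.1 (by omega)
    have hH : Subsingleton H := ⟨fun g h => eq_of_smul_eq_smul (α := W) fun x => Subsingleton.elim _ _⟩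
    rw [Nat.card_of_subsingleton (1 : H)]
    have hN1 : N = 1 := by
      have := Nat.card_pos (α := W); omega
    subst hN1
    refine ⟨by norm_num, by omega, fun n _ hn => ?_⟩
    rw [Nat.pow_right_injective (le_refl 2 |>.trans (by norm_num)) (hn.symm.trans (pow_zero 3).symm)]
    decide
  suffices h : (3 * Nat.card H) ^ 2 ≤ N ^ 5 ∧ ∀ n, n ≤ 4 → N = 3 ^ n → Nat.card H ≤ ordThree n from
    ⟨h.1.trans (Nat.le_mul_of_pos_left _ (by norm_num)), fun _ => h.1, h.2⟩
  haveI : Nontrivial W := Finite.one_lt_card_iff_nontrivial.1 (by omega)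
  by_cases hirr : Irred H W
  swap
  · simp only [Irred, not_forall, not_or, exists_prop] at hirr
    obtain ⟨U, hU, hU0, hU1⟩ := hirr
    obtain ⟨U', hU', hd, hs⟩ := hcr U hU
    letI i1 := subAct U hU
    letI i2 := subAct U' hU'
    have hprod : Nat.card W = Nat.card U * Nat.card U' := by
      rw [← Nat.card_prod]
      refine (Nat.card_congr (Equiv.ofBijective (fun p : U × U' => (p.1 : W) + p.2) ⟨?_, ?_⟩)).symm
      · exact AddSubgroup.add_injective_of_disjoint (disjoint_iff.2 hd)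
      · intro x
        obtain ⟨a, ha, b, hb, hab⟩ := AddSubgroup.mem_sup.1 (hs ▸ AddSubgroup.mem_top x : x ∈ U ⊔ U')
        exact ⟨(⟨a, ha⟩, ⟨b, hb⟩), hab⟩
    rw [hN] at hprod
    have ha1 : 1 < Nat.card U := (AddSubgroup.one_lt_card_iff_ne_bot U).2 hU0
    have hb1 : 1 < Nat.card U' := (AddSubgroup.one_lt_card_iff_ne_bot U').2 fun e => hU1 (by
      rwa [e, sup_bot_eq] at hs)
    haveI : Group.IsSolvable (actHom H U).range :=
      Group.isSolvable_of_surjective (actHom H U).rangeRestrict_surjective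
    haveI : Group.IsSolvable (actHom H U').range :=
      Group.isSolvable_of_surjective (actHom H U').rangeRestrict_surjective
    haveI : Finite (actHom H U).range := Finite.of_surjective _ (actHom H U).rangeRestrict_surjective
    haveI : Finite (actHom H U').range :=
      Finite.of_surjective _ (actHom H U').rangeRestrict_surjective
    haveI := faithful_range (H := H) (W := U)
    haveI := faithful_range (H := H) (W := U')
    obtain ⟨-, hA, hA'⟩ := IH (Nat.card U) (by nlinarith) (actHom H U).range U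
      (cr_range (cr_sub hcr U hU)) rfl
    obtain ⟨-, hB, hB'⟩ := IH (Nat.card U') (by nlinarith) (actHom H U').range U'
      (cr_range (cr_sub hcr U' hU')) rfl
    have hinj : Function.Injective fun h : H =>
        ((actHom H U).rangeRestrict h, (actHom H U').rangeRestrict h) := by
      intro g h e
      refine eq_of_smul_eq_smul (α := W) fun x => ?_
      obtain ⟨u, hu, w, hw, rfl⟩ := AddSubgroup.mem_sup.1 (hs ▸ AddSubgroup.mem_top x : x ∈ U ⊔ U')
      have e1 : g • (⟨u, hu⟩ : U) = h • (⟨u, hu⟩ : U) := by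
        have t : (actHom H U) g = (actHom H U) h := congrArg (fun p => p.1.1) e
        exact congrArg (fun v : (AddMonoid.End U)ˣ => v • (⟨u, hu⟩ : U)) t
      have e2 : g • (⟨w, hw⟩ : U') = h • (⟨w, hw⟩ : U') := by
        have t : (actHom H U') g = (actHom H U') h := congrArg (fun p => p.2.1) e
        exact congrArg (fun v : (AddMonoid.End U')ˣ => v • (⟨w, hw⟩ : U')) t
      rw [smul_add, smul_add]
      exact congrArg₂ (· + ·) (congrArg Subtype.val e1) (congrArg Subtype.val e2)
    have hle := Nat.card_le_card_of_injective _ hinj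
    rw [Nat.card_prod] at hle
    refine ⟨?_, fun n hn4 hn => ?_⟩
    · have h := Nat.mul_le_mul (hA ha1) (hB hb1)
      rw [← mul_pow, ← mul_pow, ← hprod] at h
      refine le_trans (Nat.pow_le_pow_left ?_ 2) h
      calc 3 * Nat.card H ≤ 3 * (Nat.card (actHom H U).range * Nat.card (actHom H U').range) :=
            Nat.mul_le_mul_left _ hle
        _ ≤ 3 * 3 * (Nat.card (actHom H U).range * Nat.card (actHom H U').range) :=
            Nat.mul_le_mul_right _ (by norm_num)
        _ = _ := by ring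
    · obtain ⟨a, -, ha⟩ := (Nat.dvd_prime_pow Nat.prime_three).1 (hn ▸ ⟨_, hprod⟩ : Nat.card U ∣ 3 ^ n)
      obtain ⟨b, -, hb⟩ := (Nat.dvd_prime_pow Nat.prime_three).1
        (hn ▸ ⟨_, hprod.trans (mul_comm _ _)⟩ : Nat.card U' ∣ 3 ^ n)
      have hab : n = a + b := Nat.pow_right_injective (by norm_num : 2 ≤ 3) (by
        show 3 ^ n = 3 ^ (a + b)
        rw [pow_add, ← ha, ← hb, ← hn]; exact hprod)
      refine hle.trans ((Nat.mul_le_mul (hA' a (by omega) ha) (hB' b (by omega) hb)).trans ?_)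
      rw [hab]
      exact three_red a (by omega) b (by omega) (by omega)
  -- irreducible, so of prime power order
  obtain ⟨p, hp, hpd⟩ := Nat.exists_prime_and_dvd (show Nat.card W ≠ 1 by omega)
  haveI := Fact.mk hp
  obtain ⟨w₀, hw₀⟩ := exists_prime_addOrderOf_dvd_card' p hpd
  let T : AddSubgroup W := (nsmulAddMonoidHom p : W →+ W).ker
  have hT : ∀ x : W, p • x = 0 := by
    have := (hirr T fun g x hx => by
      show p • (g • x) = 0
      rw [← smul_comm g p x, show p • x = 0 from hx, smul_zero]).resolve_left fun e => by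
      have hm : w₀ ∈ T := by
        show p • w₀ = 0
        rw [← hw₀]; exact addOrderOf_nsmul_eq_zero w₀
      rw [e, AddSubgroup.mem_bot] at hm
      rw [hm, addOrderOf_zero] at hw₀
      exact hp.one_lt.ne hw₀
    intro x
    exact (this ▸ AddSubgroup.mem_top x : x ∈ T)
  have hpg : IsPGroup p (Multiplicative W) := fun x => ⟨1, by
    rw [pow_one]; exact congrArg Multiplicative.ofAdd (hT x.toAdd)⟩
  obtain ⟨n, hn⟩ := IsPGroup.iff_card.1 hpg
  have hn : Nat.card W = p ^ n := hn
  rcases blocks_or_prim hirr with ⟨Ω, _, _, B, hΩ⟩ | ⟨⟨P⟩⟩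
  · obtain ⟨k, d, t, hk, hd, hV, -, ht3, htf, -, hord⟩ := blocks_bound hirr B hΩ
    rw [hN] at hV
    have hdN : d < N := by
      rw [hV]
      exact lt_self_pow₀ hd (by omega)
    refine ⟨?_, fun m hm4 hm => ?_⟩
    · have h := hord (Nat.sqrt (d ^ 5) / 3) fun H' W' _ _ _ _ _ _ _ hirr' hW' => by
        refine (Nat.le_div_iff_mul_le (by norm_num)).2 (Nat.le_sqrt'.2 ?_)
        rw [mul_comm]
        exact (IH d hdN H' W' hirr'.cr hW').2.1 hd
      set U := Nat.sqrt (d ^ 5) / 3
      have hU : (3 * U) ^ 2 ≤ d ^ 5 := by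
        refine le_trans (Nat.pow_le_pow_left (Nat.mul_div_le _ 3) 2) (Nat.sqrt_le' _)
      have h2 : 3 * Nat.card H ≤ (3 * U) ^ k := by
        calc 3 * Nat.card H ≤ 3 * (3 ^ (k - 1) * U ^ k) :=
              Nat.mul_le_mul_left _ (h.trans (Nat.mul_le_mul_right _ ht3))
          _ = _ := by
            obtain ⟨j, rfl⟩ : ∃ j, k = j + 1 := ⟨k - 1, by omega⟩
            rw [Nat.add_sub_cancel]; ring
      calc (3 * Nat.card H) ^ 2 ≤ ((3 * U) ^ k) ^ 2 := Nat.pow_le_pow_left h2 2
        _ = ((3 * U) ^ 2) ^ k := by rw [← pow_mul, ← pow_mul, mul_comm k 2]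
        _ ≤ (d ^ 5) ^ k := Nat.pow_le_pow_left hU k
        _ = N ^ 5 := by rw [hV, ← pow_mul, ← pow_mul, mul_comm 5 k]
    · subst hm
      obtain ⟨w, -, rfl⟩ := (Nat.dvd_prime_pow Nat.prime_three).1
        (hV ▸ dvd_pow_self d (show k ≠ 0 by omega) : d ∣ 3 ^ m)
      rw [← pow_mul] at hV
      have hm' := Nat.pow_right_injective (by norm_num : 2 ≤ 3) hV
      have hw : 1 ≤ w := by
        rcases Nat.eq_zero_or_pos w with rfl | h
        · simp at hd
        · exact h
      have hk4 : k ≤ 4 := by nlinarith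
      have hw2 : w ≤ 2 := by nlinarith
      refine (hord (ordThree w) fun H' W' _ _ _ _ _ _ _ hirr' hW' =>
        (IH _ hdN H' W' hirr'.cr hW').2.2 w (by omega) rfl).trans ?_
      refine (Nat.mul_le_mul_right _ htf).trans ?_
      rw [hm']
      exact three_blocks k (by omega) w (by omega) hk hw (by omega)
  · obtain ⟨S⟩ := exists_symp P
    obtain ⟨f, hf, hnf, hf1, hl⟩ := field_data P hp hn
    obtain ⟨e, he, he1, hew, hm, hprimes⟩ := section_data S
    rw [hf] at hprimes
    have hQ2 : 2 ≤ p ^ f := le_trans hp.two_le (Nat.le_self_pow (by omega) p)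
    have hp2 : ∀ r, r.Prime → r ∣ e → r + 1 ≤ p ^ f := fun r hr hre => by
      have := Nat.le_of_dvd (by omega) (hprimes r hr hre)
      omega
    have hQ3 : 2 ≤ e → 3 ≤ p ^ f := fun h => by
      obtain ⟨r, hr, hre⟩ := Nat.exists_prime_and_dvd (show e ≠ 1 by omega)
      have := hp2 r hr hre
      have := hr.two_le
      omega
    have hz : Nat.card P.A ≤ p ^ f - 1 := Nat.le_of_dvd (by omega) (card_A_dvd P hf)
    have hH : Nat.card H ≤ f * ((p ^ f - 1) * (e * e) * Nat.card (secHom S).range) := by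
      rw [← P.C.card_mul_index, mul_comm, card_C S, he]
      exact Nat.mul_le_mul hl (Nat.mul_le_mul_right _ (Nat.mul_le_mul_right _ hz))
    have hMN : e * e < N := by
      rcases Nat.lt_or_ge e 2 with h | h
      · obtain rfl : e = 1 := by omega
        omega
      · have h3 := hQ3 h
        rw [← hN, hn, hnf, pow_mul]
        calc e * e ≤ dimK P * dimK P := Nat.mul_le_mul hew hew
          _ < (p ^ f) ^ dimK P := by
              refine lt_of_lt_of_le ?_ (Nat.pow_le_pow_left h3 _)
              have : ∀ m : ℕ, m * m < 3 ^ m := fun m => by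
                induction m with
                | zero => norm_num
                | succ j ih =>
                  rcases Nat.lt_or_ge j 2 with hj | hj
                  · interval_cases j <;> norm_num
                  · rw [pow_succ]; nlinarith
              exact this _
    haveI : Group.IsSolvable (actHom H (Additive S.M)).range :=
      Group.isSolvable_of_surjective (actHom H (Additive S.M)).rangeRestrict_surjective
    haveI : Finite (actHom H (Additive S.M)).range :=
      Finite.of_surjective _ (actHom H (Additive S.M)).rangeRestrict_surjective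
    haveI := faithful_range (H := H) (W := Additive S.M)
    have hIH := IH (e * e) hMN (actHom H (Additive S.M)).range (Additive S.M) (cr_range S.cr)
      (by rw [Nat.card_congr Additive.toMul, he])
    have hsub : Nat.card (secHom S).range ≤ Nat.card (actHom H (Additive S.M)).range := by
      rw [← Subgroup.index_ker, ← Subgroup.index_ker]
      have h : (secHom S).ker = (actHom H (Additive S.M)).ker.subgroupOf P.C := by
        ext c
        rw [MonoidHom.mem_ker, Subgroup.mem_subgroupOf, MonoidHom.mem_ker]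
        constructor
        · intro h
          refine Units.ext (AddMonoidHom.ext fun x => ?_)
          exact congrArg Additive.ofMul (MulEquiv.ext_iff.1 h (Additive.toMul x))
        · intro h
          refine MulEquiv.ext fun m => ?_
          exact congrArg Additive.toMul
            (congrArg (fun u : (AddMonoid.End (Additive S.M))ˣ => u • Additive.ofMul m) h)
      rw [h]
      exact Nat.le_of_dvd (Nat.pos_of_ne_zero Subgroup.index_ne_zero_of_finite)
        (Subgroup.relIndex_dvd_index_of_normal _ _)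
    have hR1 : e = 1 → Nat.card (secHom S).range ≤ 1 := fun h => by
      subst h; exact hm.trans (by decide)
    have hR4 : e = 4 → Nat.card (secHom S).range ≤ 72 := fun h => by
      subst h
      exact (section_small S (j := 4) (by norm_num) (by rw [he]; norm_num)).trans (by decide)
    refine ⟨?_, fun m hm4 hmN => ?_⟩
    · calc (3 * Nat.card H) ^ 2
          ≤ (3 * (f * ((p ^ f - 1) * (e * e) * Nat.card (secHom S).range))) ^ 2 :=
            Nat.pow_le_pow_left (Nat.mul_le_mul_left _ hH) 2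
        _ ≤ ((p ^ f) ^ dimK P) ^ 5 := by
            refine prim_arith hQ2 ?_ hew he1 (fun h => by have := hp2 2 Nat.prime_two h; omega)
              (fun h => by have := hp2 3 Nat.prime_three h; omega) hQ3 hR1
              (fun h => by subst h; exact hm.trans (by decide))
              (fun h => by subst h; exact hm.trans (by decide)) hR4 ?_
            · calc 2 * f ≤ 2 ^ f := by
                    obtain ⟨g, rfl⟩ : ∃ g, f = g + 1 := ⟨f - 1, by omega⟩
                    rw [pow_succ]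
                    have := Nat.lt_two_pow_self (n := g)
                    omega
                _ ≤ p ^ f := Nat.pow_le_pow_left hp.two_le f
            · exact fun h => (Nat.pow_le_pow_left (Nat.mul_le_mul_left _ hsub) 2).trans
                (hIH.2.1 (by nlinarith))
        _ = N ^ 5 := by rw [← pow_mul p f, ← hnf, ← hn, hN]
    · have hp3 : p = 3 := by
        refine (Nat.prime_dvd_prime_iff_eq hp Nat.prime_three).1 (hp.dvd_of_dvd_pow (n := m) ?_)
        rw [← hmN, ← hN]; exact hpd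
      subst hp3
      have hnm : n = m := Nat.pow_right_injective (by norm_num : 2 ≤ 3) (hn.symm.trans (hN.trans hmN))
      subst hnm
      have hw := dimK_pos P
      refine hH.trans ?_
      rw [hnf]
      have hf4 : f ≤ 4 := le_trans (Nat.le_mul_of_pos_right f hw) (hnf ▸ hm4)
      have hw4 : dimK P ≤ 4 := le_trans (Nat.le_mul_of_pos_left _ hf1) (hnf ▸ hm4)
      exact three_prim f (dimK P) e _ (Nat.lt_succ_of_le hf4) (Nat.lt_succ_of_le hw4)
        (Nat.lt_succ_of_le (hew.trans hw4))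
        ⟨le_trans hf1 (Nat.le_mul_of_pos_right f hw), hnf ▸ hm4, hew, he1,
          hprimes 2 Nat.prime_two, hprimes 3 Nat.prime_three⟩ hm hR4

end Cfsg.Agent.KBSolv75
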