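import Mathlib
import Cfsg.Agent.Lib.KBSolv75Order
import Cfsg.Agent.S4200
import Cfsg.Agent.S4201

/-!
Class numbers of the symplectic sections of primitive solvable linear groups.
-/

set_option autoImplicit false
set_option linter.style.haveILetI false

namespace Cfsg.Agent.KBSolv75

open Cfsg.Agent.OddBase75 Cfsg.Agent.KGBound86

universe v

/-- If all but `z` elements have centralisers of order at most `c`, then `k < z + c` as soon as there
is such an element. -/
theorem k_le_of_centralizers {R : Type*} [Group R] [Finite R] (Z : Set R) {z c : ℕ} (h1 : (1 : R) ∈ Z)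
    (hz : Z.ncard ≤ z) (hc1 : 1 ≤ c) (hc : ∀ g ∉ Z, Nat.card {h : R // Commute g h} ≤ c) :
    Nat.card (ConjClasses R) + 1 ≤ z + c := by
  classical
  haveI := Fintype.ofFinite R
  have hz1 : 1 ≤ Z.ncard := (Set.ncard_pos).2 ⟨1, h1⟩
  have hk := Cfsg.Agent.S4200.card_classes_mul R
  have hle : ∀ x : R, Nat.card {h : R // Commute x h} ≤ if x ∈ Z then Nat.card R else c := fun x => by
    split_ifs with h
    · exact Nat.card_le_card_of_injective _ Subtype.val_injective
    · exact hc x h
  have h2 := hk.trans_le (Finset.sum_le_sum fun x _ => hle x)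
  rw [Finset.sum_ite, Finset.sum_const, Finset.sum_const, smul_eq_mul, smul_eq_mul] at h2
  have hcard : (Finset.univ.filter fun x : R => x ∈ Z).card = Z.ncard := by
    rw [← Set.ncard_coe_finset, Finset.coe_filter]
    simp
  have hlt : (Finset.univ.filter fun x : R => ¬ x ∈ Z).card < Nat.card R := by
    rw [Nat.card_eq_fintype_card]
    refine Finset.card_lt_card (Finset.filter_ssubset.2 ⟨1, Finset.mem_univ _, not_not.2 h1⟩)
  rw [hcard] at h2
  by_contra h
  push Not at h
  have hR : 0 < Nat.card R := Nat.card_pos
  nlinarith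

/-- A group acting faithfully on a group of order `r ^ 2` and exponent `r` has few classes. -/
theorem k_prime_sq {R M : Type*} [Group R] [Finite R] [AddCommGroup M] [Finite M]
    [DistribMulAction R M] [FaithfulSMul R M] {r : ℕ} (hr : r.Prime) (hM : Nat.card M = r * r)
    (hexp : ∀ x : M, r • x = 0) : Nat.card (ConjClasses R) + 3 ≤ r * r + r := by
  classical
  haveI := Fact.mk hr
  have hord : ∀ {x : M}, x ≠ 0 → Nat.card (AddSubgroup.zmultiples x) = r := fun {x} hx => by
    rw [Nat.card_zmultiples]
    exact (hr.eq_one_or_self_of_dvd _ (addOrderOf_dvd_of_nsmul_eq_zero (hexp x))).resolve_left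
      fun h => hx (AddMonoid.addOrderOf_eq_one_iff.1 h)
  have hsub : ∀ (U : AddSubgroup M), r < Nat.card U → U = ⊤ := fun U hU => by
    obtain ⟨i, hi2, hi⟩ := (Nat.dvd_prime_pow hr).1
      (show Nat.card U ∣ r ^ 2 from (sq r).symm ▸ hM ▸ U.card_addSubgroup_dvd_card)
    refine AddSubgroup.eq_top_of_card_eq U ?_
    rw [hM, hi]
    interval_cases i
    · rw [pow_zero] at hi; have := hr.two_le; omega
    · rw [pow_one] at hi; omega
    · ring
  have hindep : ∀ {x y : M}, y ∉ AddSubgroup.zmultiples x → x ≠ 0 →
      AddSubgroup.zmultiples x ⊔ AddSubgroup.zmultiples y = ⊤ := fun {x y} hy hx => by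
    refine hsub _ ?_
    rw [← hord hx]
    refine lt_of_le_of_ne (Nat.card_le_card_of_injective _
      (AddSubgroup.inclusion_injective le_sup_left)) fun h => hy ?_
    rw [AddSubgroup.eq_of_le_of_card_ge (le_sup_left :
      AddSubgroup.zmultiples x ≤ AddSubgroup.zmultiples x ⊔ AddSubgroup.zmultiples y) h.ge]
    exact AddSubgroup.mem_sup_right (AddSubgroup.mem_zmultiples y)
  have hext : ∀ {x y : M}, AddSubgroup.zmultiples x ⊔ AddSubgroup.zmultiples y = ⊤ → ∀ g h : R,
      g • x = h • x → g • y = h • y → g = h := fun {x y} htop g h h1 h2 => by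
    refine eq_of_smul_eq_smul (α := M) fun z => ?_
    obtain ⟨a, ha, b, hb, rfl⟩ := AddSubgroup.mem_sup.1 (htop ▸ AddSubgroup.mem_top z)
    obtain ⟨i, rfl⟩ := AddSubgroup.mem_zmultiples_iff.1 ha
    obtain ⟨j, rfl⟩ := AddSubgroup.mem_zmultiples_iff.1 hb
    rw [smul_add, smul_add, smul_comm g i x, smul_comm h i x, smul_comm g j y, smul_comm h j y, h1, h2]
  let Z : Set R := {g | ∀ z : M, g • z ∈ AddSubgroup.zmultiples z}
  haveI : Nontrivial M := Finite.one_lt_card_iff_nontrivial.1 (hM ▸ Nat.one_lt_mul_iff.2
    ⟨hr.pos, hr.pos, Or.inl hr.one_lt⟩)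
  obtain ⟨x, hx⟩ := exists_ne (0 : M)
  have hzcard : Nat.card {z : M // z ≠ 0} + 1 = r * r := by
    haveI := Fintype.ofFinite M
    rw [Nat.card_eq_fintype_card, Fintype.card_subtype_compl, Fintype.card_subtype_eq,
      Nat.sub_add_cancel Fintype.card_pos, ← Nat.card_eq_fintype_card, hM]
  have hZ : Z.ncard + 1 ≤ r := by
    -- the value at `x` determines a scalar
    have hinj : Function.Injective fun g : Z =>
        (⟨⟨g.1 • x, g.2 x⟩, fun h => hx ((smul_eq_zero_iff_eq g.1).1 (congrArg Subtype.val h))⟩ :
          {u : AddSubgroup.zmultiples x // u ≠ 0}) := by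
      intro g g' h
      have hgx : g.1 • x = g'.1 • x := congrArg (fun u => (u.1 : M)) h
      obtain ⟨y, hy⟩ : ∃ y : M, y ∉ AddSubgroup.zmultiples x := by
        by_contra hall
        push Not at hall
        have htop : AddSubgroup.zmultiples x = ⊤ := eq_top_iff.2 fun z _ => hall z
        have := hord hx
        rw [htop, AddSubgroup.card_top, hM] at this
        have := hr.two_le
        nlinarith
      refine Subtype.ext (hext (hindep hy hx) _ _ hgx ?_)
      obtain ⟨i, hi⟩ := AddSubgroup.mem_zmultiples_iff.1 (g.2 y)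
      obtain ⟨i', hi'⟩ := AddSubgroup.mem_zmultiples_iff.1 (g'.2 y)
      obtain ⟨l, hl⟩ := AddSubgroup.mem_zmultiples_iff.1 (g.2 (x + y))
      obtain ⟨l', hl'⟩ := AddSubgroup.mem_zmultiples_iff.1 (g'.2 (x + y))
      rw [smul_add, smul_add, ← hi, hgx] at hl
      rw [smul_add, smul_add, ← hi'] at hl'
      have e : (i - i' - l + l') • y = (l - l') • x := by
        have h3 : (l • x + l • y) - (l' • x + l' • y) = i • y - i' • y := by rw [hl, hl']; abel
        simp only [sub_zsmul, add_zsmul]
        rw [← sub_eq_zero] at h3 ⊢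
        rw [← neg_eq_zero, ← h3]
        abel
      have hr0 : ∀ k : ℤ, k • y ∈ AddSubgroup.zmultiples x → (r : ℤ) ∣ k := by
        intro k hk
        by_contra hdvd
        apply hy
        have hcop : Int.gcd k r = 1 := by
          rw [Int.gcd_comm]
          exact (hr.coprime_iff_not_dvd.2 fun hd => hdvd (Int.natCast_dvd.2 hd))
        have hb := Int.gcd_eq_gcd_ab k r
        rw [hcop] at hb
        have : y = Int.gcdA k r • (k • y) := by
          conv_lhs => rw [← one_zsmul y, show (1 : ℤ) = ((1 : ℕ) : ℤ) from rfl, hb, add_zsmul,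
            mul_comm k, mul_zsmul, mul_comm (r : ℤ), mul_zsmul, natCast_zsmul y r, hexp, smul_zero,
            add_zero]
        rw [this]
        exact AddSubgroup.zsmul_mem _ hk _
      have hz : ∀ k : ℤ, (r : ℤ) ∣ k → ∀ w : M, k • w = 0 := fun k ⟨c, hc⟩ w => by
        rw [hc, mul_comm, mul_zsmul, natCast_zsmul w r, hexp, smul_zero]
      have h4 := hr0 _ (e ▸ AddSubgroup.zsmul_mem _ (AddSubgroup.mem_zmultiples x) _)
      have h5 : (r : ℤ) ∣ l - l' := by
        by_contra h5
        have h6 : (l - l') • x = 0 := by rw [← e, hz _ h4]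
        exact h5 ((hord hx ▸ Nat.card_zmultiples x) ▸ addOrderOf_dvd_iff_zsmul_eq_zero.2 h6)
      rw [← hi, ← hi', ← sub_eq_zero, ← sub_smul]
      exact hz _ (by have := dvd_add h4 h5; rwa [show i - i' - l + l' + (l - l') = i - i' by ring] at this) y
    have h := Nat.card_le_card_of_injective _ hinj
    haveI := Fintype.ofFinite (AddSubgroup.zmultiples x)
    rw [Nat.card_coe_set_eq, Nat.card_eq_fintype_card, Fintype.card_subtype_compl,
      Fintype.card_subtype_eq, ← Nat.card_eq_fintype_card, hord hx] at h
    have := hr.two_le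
    omega
  have hC : ∀ g ∉ Z, Nat.card {h : R // Commute g h} ≤ r * r - 1 := by
    intro g hg
    simp only [Z, Set.mem_ofPred_eq, not_forall] at hg
    obtain ⟨z, hz⟩ := hg
    have hz0 : z ≠ 0 := fun h => hz (by rw [h, smul_zero]; exact zero_mem _)
    have hinj : Function.Injective fun h : {h : R // Commute g h} =>
        (⟨h.1 • z, fun e => hz0 ((smul_eq_zero_iff_eq h.1).1 e)⟩ : {u : M // u ≠ 0}) := by
      intro a b e
      have e1 : a.1 • z = b.1 • z := congrArg Subtype.val e
      exact Subtype.ext (hext (hindep hz hz0) _ _ e1 (by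
        rw [← mul_smul, ← mul_smul, ← a.2.eq, ← b.2.eq, mul_smul, mul_smul, e1]))
    have := Nat.card_le_card_of_injective _ hinj
    omega
  have h := k_le_of_centralizers Z (fun z => by rw [one_smul]; exact AddSubgroup.mem_zmultiples z)
    le_rfl (by have := hr.two_le; nlinarith [Nat.sub_add_cancel (show 1 ≤ r * r by nlinarith)]) hC
  have := hr.two_le
  have : 1 ≤ r * r := by nlinarith
  omega

/-- A solvable completely reducible group on a space of order sixteen. -/
theorem k_sixteen {H W : Type v} [Group H] [Finite H] [Group.IsSolvable H] [AddCommGroup W] [Finite W]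
    [DistribMulAction H W] [FaithfulSMul H W] (hcr : CR H W) (hW : Nat.card W = 16)
    (h2 : ∀ x : W, 2 • x = 0) :
    Nat.card (ConjClasses H) ≤ 27 := by
  classical
  have hk : Nat.card (ConjClasses H) ≤ Nat.card H := Nat.card_le_card_of_surjective _ ConjClasses.mk_surjective
  haveI : Nontrivial W := Finite.one_lt_card_iff_nontrivial.1 (by omega)
  haveI : Fact (Nat.Prime 2) := ⟨Nat.prime_two⟩
  -- two invariant halves
  have halves : ∀ (K : Subgroup H) (U U' : AddSubgroup W), U ⊔ U' = ⊤ → Nat.card U = 4 →
      Nat.card U' = 4 → (∀ g : K, ∀ x ∈ U, g • x ∈ U) → (∀ g : K, ∀ x ∈ U', g • x ∈ U') →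
      Nat.card (ConjClasses K) ≤ 9 := by
    intro K U U' hs hU4 hU4' hU hU'
    letI i1 := subAct U hU
    letI i2 := subAct U' hU'
    haveI : Finite (actHom K U).range := Finite.of_surjective _ (actHom K U).rangeRestrict_surjective
    haveI := faithful_range (H := K) (W := U)
    have hA := k_prime_sq (R := (actHom K U).range) (M := U) Nat.prime_two hU4
      fun x => Subtype.ext (h2 x.1)
    haveI : FaithfulSMul (actHom K U).ker U' := ⟨fun {a b} hab => Subtype.ext (Subtype.ext
      (eq_of_smul_eq_smul (α := W) fun x => by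
        obtain ⟨u, hu, w, hw, rfl⟩ := AddSubgroup.mem_sup.1 (hs ▸ AddSubgroup.mem_top x : x ∈ U ⊔ U')
        have e1 : ∀ c : (actHom K U).ker, ((c : K) : H) • u = u := fun c =>
          congrArg Subtype.val (congrArg (fun z : (AddMonoid.End U)ˣ => z • (⟨u, hu⟩ : U))
            (MonoidHom.mem_ker.1 c.2))
        rw [smul_add, smul_add, e1, e1]
        exact congrArg (u + ·) (congrArg Subtype.val (hab ⟨w, hw⟩))))⟩
    have hB := k_prime_sq (R := (actHom K U).ker) (M := U') Nat.prime_two hU4'
      fun x => Subtype.ext (h2 x.1)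
    refine (Cfsg.Agent.S4201.result (actHom K U).ker).trans ?_
    rw [k_congr (QuotientGroup.quotientKerEquivRange (actHom K U))]
    calc _ ≤ 3 * 3 := Nat.mul_le_mul (by omega) (by omega)
      _ = 9 := by norm_num
  by_cases hirr : Irred H W
  swap
  · simp only [Irred, not_forall, not_or, exists_prop] at hirr
    obtain ⟨U, hU, hU0, hU1⟩ := hirr
    obtain ⟨U', hU', hd, hs⟩ := hcr U hU
    letI i1 := subAct U hU
    letI i2 := subAct U' hU'
    have hprod : Nat.card W = Nat.card U * Nat.card U' := by
      rw [← Nat.card_prod]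
      refine (Nat.card_congr (Equiv.ofBijective (fun p : U × U' => (p.1 : W) + p.2) ⟨?_, ?_⟩)).symm
      · exact AddSubgroup.add_injective_of_disjoint (disjoint_iff.2 hd)
      · intro x
        obtain ⟨a, ha, b, hb, hab⟩ := AddSubgroup.mem_sup.1 (hs ▸ AddSubgroup.mem_top x : x ∈ U ⊔ U')
        exact ⟨(⟨a, ha⟩, ⟨b, hb⟩), hab⟩
    rw [hW] at hprod
    have ha1 : 1 < Nat.card U := (AddSubgroup.one_lt_card_iff_ne_bot U).2 hU0
    have hb1 : 1 < Nat.card U' := (AddSubgroup.one_lt_card_iff_ne_bot U').2 fun e => hU1 (by
      rwa [e, sup_bot_eq] at hs)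
    obtain ⟨a, -, ha⟩ := (Nat.dvd_prime_pow Nat.prime_two).1 (⟨_, hprod⟩ : Nat.card U ∣ 2 ^ 4)
    obtain ⟨b, -, hb⟩ := (Nat.dvd_prime_pow Nat.prime_two).1
      (⟨_, hprod.trans (mul_comm _ _)⟩ : Nat.card U' ∣ 2 ^ 4)
    have hab : 4 = a + b := Nat.pow_right_injective le_rfl (by
      show 2 ^ 4 = 2 ^ (a + b)
      rw [pow_add, ← ha, ← hb]; exact hprod)
    by_cases ha2 : a = 2
    · have hb2 : b = 2 := by omega
      rw [ha2] at ha; rw [hb2] at hb
      have h := halves ⊤ U U' hs ha hb (fun g => hU g) (fun g => hU' g)
      rw [k_congr Subgroup.topEquiv] at h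
      omega
    · have h1 := range_bound (ordBound a (by omega)) (cr_sub hcr U hU) ha
      have h2 := range_bound (ordBound b (by omega)) (cr_sub hcr U' hU') hb
      have hinj : Function.Injective fun h : H =>
          ((actHom H U).rangeRestrict h, (actHom H U').rangeRestrict h) := by
        intro g h e
        refine eq_of_smul_eq_smul (α := W) fun x => ?_
        obtain ⟨u, hu, w, hw, rfl⟩ := AddSubgroup.mem_sup.1 (hs ▸ AddSubgroup.mem_top x : x ∈ U ⊔ U')
        have e1 : g • (⟨u, hu⟩ : U) = h • (⟨u, hu⟩ : U) := by
          have t : (actHom H U) g = (actHom H U) h := congrArg (fun p => p.1.1) e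
          exact congrArg (fun v : (AddMonoid.End U)ˣ => v • (⟨u, hu⟩ : U)) t
        have e2 : g • (⟨w, hw⟩ : U') = h • (⟨w, hw⟩ : U') := by
          have t : (actHom H U') g = (actHom H U') h := congrArg (fun p => p.2.1) e
          exact congrArg (fun v : (AddMonoid.End U')ˣ => v • (⟨w, hw⟩ : U')) t
        rw [smul_add, smul_add]
        exact congrArg₂ (· + ·) (congrArg Subtype.val e1) (congrArg Subtype.val e2)
      haveI : Finite (actHom H U).range := Finite.of_surjective _ (actHom H U).rangeRestrict_surjective
      haveI : Finite (actHom H U').range :=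
        Finite.of_surjective _ (actHom H U').rangeRestrict_surjective
      have h3 := Nat.card_le_card_of_injective _ hinj
      rw [Nat.card_prod] at h3
      have ha1' : a ≠ 0 := by rintro rfl; omega
      have hb1' : b ≠ 0 := by rintro rfl; omega
      refine hk.trans (h3.trans ((Nat.mul_le_mul h1 h2).trans ?_))
      have hA : a = 1 ∨ a = 3 := by omega
      rcases hA with rfl | rfl
      · obtain rfl : b = 3 := by omega
        decide
      · obtain rfl : b = 1 := by omega
        decide
  rcases blocks_or_prim hirr with ⟨Ω, _, _, B, hΩ⟩ | ⟨⟨P⟩⟩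
  · haveI := Fintype.ofFinite Ω
    rw [Nat.card_eq_fintype_card] at hΩ
    obtain ⟨o⟩ : Nonempty Ω := Fintype.card_pos_iff.1 (by omega)
    have hprod := B.card_V
    rw [hW, Finset.prod_congr rfl (fun i _ => B.card_blk i o), Finset.prod_const, Finset.card_univ]
      at hprod
    have hne : 1 < Nat.card (B.blk o) := by
      obtain ⟨x, hx⟩ := B.ne o
      exact Finite.one_lt_card_iff_nontrivial.2
        ⟨⟨0, zero_mem _⟩, ⟨_, x, rfl⟩, fun e => hx (congrArg Subtype.val e).symm⟩
    have hsum : ∀ x, x = ∑ i, B.π i x := by
      intro x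
      obtain ⟨s, hmem, h⟩ := B.total x
      rwa [Finset.eq_univ_iff_forall.2 hmem] at h
    obtain ⟨j, -, hj⟩ := (Nat.dvd_prime_pow Nat.prime_two).1
      (show Nat.card (B.blk o) ∣ 2 ^ 4 from ⟨Nat.card (B.blk o) ^ (Fintype.card Ω - 1), by
        rw [← pow_succ', Nat.sub_add_cancel (by omega)]; exact hprod⟩)
    rw [hj] at hprod hne
    rw [← pow_mul] at hprod
    have h4 : 4 = j * Fintype.card Ω := Nat.pow_right_injective le_rfl (show 2 ^ 4 = _ from hprod)
    have hj0 : j ≠ 0 := by rintro rfl; simp at hne
    have hj2 : j ≤ 2 := by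
      by_contra h
      have : 3 * 2 ≤ j * Fintype.card Ω := Nat.mul_le_mul (by omega) hΩ
      omega
    obtain rfl | rfl : j = 1 ∨ j = 2 := by omega
    · -- four blocks of order two: the group permutes them faithfully
      have hinj : Function.Injective (MulAction.toPermHom H Ω) := by
        refine (injective_iff_map_eq_one _).2 fun g hg => eq_of_smul_eq_smul (α := W) fun x => ?_
        rw [one_smul]
        conv_lhs => rw [hsum x, Finset.smul_sum]
        conv_rhs => rw [hsum x]
        refine Finset.sum_congr rfl fun i _ => ?_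
        have hgi : g ∈ MulAction.stabilizer H i := MulAction.mem_stabilizer_iff.2 (Equiv.ext_iff.1 hg i)
        by_cases hx : B.π i x = 0
        · rw [hx, smul_zero]
        · have h1 : g • B.π i x ∈ B.blk i := B.smul_mem ⟨g, hgi⟩ ⟨x, rfl⟩
          have hcard2 : Nat.card (B.blk i) = 2 := by rw [B.card_blk i o, hj]; rfl
          obtain ⟨a, b, -, hab⟩ := Nat.card_eq_two_iff.1 hcard2
          have hall : ∀ u v w : B.blk i, u ≠ v → w = u ∨ w = v := by
            intro u v w huv
            have hm : ∀ t : B.blk i, t = a ∨ t = b := fun t => by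
              have ht : t ∈ ({a, b} : Set (B.blk i)) := hab ▸ Set.mem_univ t
              simpa using ht
            rcases hm u with rfl | rfl <;> rcases hm v with rfl | rfl <;> rcases hm w with rfl | rfl <;>
              first | exact absurd rfl huv | exact Or.inl rfl | exact Or.inr rfl
          rcases hall 0 ⟨B.π i x, x, rfl⟩ ⟨g • B.π i x, h1⟩
              (fun e => hx (congrArg Subtype.val e).symm) with e | e
          · exact absurd ((smul_eq_zero_iff_eq g).1 (congrArg Subtype.val e)) hx
          · exact congrArg Subtype.val e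
      refine hk.trans ((Nat.card_le_card_of_injective _ hinj).trans ?_)
      rw [Nat.card_perm, Nat.card_eq_fintype_card, show Fintype.card Ω = 4 by omega]
      decide
    · -- two blocks of order four
      have hcardΩ : Fintype.card Ω = 2 := by omega
      obtain ⟨o', ho'⟩ := Fintype.exists_ne_of_one_lt_card hΩ o
      have huniv : ∀ i : Ω, i = o ∨ i = o' := by
        intro i
        by_contra h
        push Not at h
        have := Finset.card_le_univ ({i, o, o'} : Finset Ω)
        rw [hcardΩ, Finset.card_insert_of_notMem (by simp [h]),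
          Finset.card_insert_of_notMem (by simp [ho'.symm]), Finset.card_singleton] at this
        omega
      have hstab : ∀ g : MulAction.stabilizer H o, (g : H) • o' = o' := fun g =>
        (huniv ((g : H) • o')).resolve_left fun h =>
          ho' (MulAction.injective (g : H) (h.trans g.2.symm))
      have h := halves (MulAction.stabilizer H o) (B.blk o) (B.blk o') ?_ (by rw [hj]; rfl)
        (by rw [B.card_blk o' o, hj]; rfl) (fun g x hx => B.smul_mem g hx)
        (fun g x hx => B.smul_mem (i := o') ⟨(g : H), hstab g⟩ hx)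
      · have hidx : (MulAction.stabilizer H o).index ≤ 2 := by
          rw [MulAction.index_stabilizer, ← hcardΩ, ← Nat.card_eq_fintype_card]
          exact (Nat.card_coe_set_eq _).symm.trans_le
            (Nat.card_le_card_of_injective _ Subtype.val_injective)
        calc Nat.card (ConjClasses H)
            ≤ (MulAction.stabilizer H o).index * Nat.card (ConjClasses (MulAction.stabilizer H o)) :=
              (Cfsg.Agent.S4200.result _).2.1
          _ ≤ 2 * 9 := Nat.mul_le_mul hidx h
          _ ≤ 27 := by norm_num
      · refine eq_top_iff.2 fun x _ => ?_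
        rw [hsum x]
        refine AddSubgroup.sum_mem _ fun i _ => ?_
        rcases huniv i with rfl | rfl
        · exact AddSubgroup.mem_sup_left ⟨x, rfl⟩
        · exact AddSubgroup.mem_sup_right ⟨x, rfl⟩
  · obtain ⟨S⟩ := exists_symp P
    obtain ⟨f, hf, hnf, hf1, hl⟩ := field_data P (p := 2) (n := 4) Nat.prime_two hW
    obtain ⟨e, he, he1, hew, hm, hprimes⟩ := section_data S
    rw [hf] at hprimes
    have hw := dimK_pos P
    have hf4 : f ≤ 4 := le_trans (Nat.le_mul_of_pos_right f hw) hnf.ge
    have hA : Nat.card P.A ≤ 2 ^ f - 1 := Nat.le_of_dvd (by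
      have := Nat.one_lt_two_pow (show f ≠ 0 by omega); omega) (card_A_dvd P hf)
    have hf124 : f = 1 ∨ f = 2 ∨ f = 4 := by
      have hdvd : f ∣ 4 := ⟨_, hnf⟩
      interval_cases f <;> omega
    have he2 : e = 1 := by
      by_contra hne
      obtain ⟨r, hr, hre⟩ := Nat.exists_prime_and_dvd hne
      have hr1 := hprimes r hr hre
      have hr2 := hr.two_le
      rcases hf124 with rfl | rfl | rfl
      · simp at hr1; omega
      · have hle := Nat.le_of_dvd (by norm_num) hr1
        obtain rfl | rfl : r = 2 ∨ r = 3 := by omega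
        · norm_num at hr1
        · have := Nat.le_of_dvd (by omega) hre
          omega
      · have := Nat.le_of_dvd (by omega) hre
        omega
    subst he2
    have hC : Nat.card P.C ≤ 2 ^ f - 1 := by
      rw [card_C S, he]
      calc Nat.card P.A * (1 * 1) * Nat.card (secHom S).range ≤ (2 ^ f - 1) * (1 * 1) * 1 := by
            gcongr
            exact hm.trans (by decide)
        _ = _ := by ring
    have hHf : Nat.card H ≤ f * (2 ^ f - 1) := by
      rw [← P.C.card_mul_index, mul_comm]
      exact Nat.mul_le_mul hl hC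
    rcases hf124 with rfl | rfl | rfl
    · exact hk.trans (hHf.trans (by norm_num))
    · exact hk.trans (hHf.trans (by norm_num))
    -- semilinear group of a field of order sixteen
    have hAC : P.C = P.A := (Subgroup.eq_of_le_of_card_ge P.A_le_C (by
      rw [card_C S, he]
      calc Nat.card P.A * (1 * 1) * Nat.card (secHom S).range ≤ Nat.card P.A * (1 * 1) * 1 :=
            Nat.mul_le_mul_left _ (hm.trans (by decide))
        _ = _ := by ring)).symm
    have hcent : ∀ g : H, g ∉ (P.A : Set H) → Nat.card {h : H // Commute g h} ≤ 12 := by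
      intro g hg
      let F : Subgroup H := Subgroup.centralizer ({g} : Set H)
      have e1 : Nat.card {h : H // Commute g h} = Nat.card F :=
        Nat.card_congr (Equiv.subtypeEquivRight fun z => by
          rw [Subgroup.mem_centralizer_singleton_iff]; exact ⟨fun h => h.symm, fun h => h.symm⟩)
      have hgC : g ∉ P.C := by rw [hAC]; exact hg
      obtain ⟨r, hr⟩ := Prim.exists_moved P hgC
      -- the fixed field
      let Kg : Subfield P.K :=
        { carrier := {c | cj g (c : AddMonoid.End W) = c}
          mul_mem' := fun {a b} ha hb => by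
            show cj g ((a : AddMonoid.End W) * (b : AddMonoid.End W)) = (a : AddMonoid.End W) * (b : AddMonoid.End W)
            rw [map_mul, ha, hb]
          one_mem' := map_one (cj g)
          add_mem' := fun {a b} ha hb => by
            show cj g ((a : AddMonoid.End W) + (b : AddMonoid.End W)) = (a : AddMonoid.End W) + (b : AddMonoid.End W)
            rw [map_add, ha, hb]
          zero_mem' := map_zero (cj g)
          neg_mem' := fun {a} ha => by
            show cj g (-(a : AddMonoid.End W)) = -(a : AddMonoid.End W)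
            rw [map_neg, ha]
          inv_mem' := fun a ha => by
            by_cases h0 : a = 0
            · rw [h0, inv_zero]; exact map_zero (cj g)
            · have h1 : ((a : AddMonoid.End W) * ((a⁻¹ : P.K) : AddMonoid.End W)) = 1 :=
                congrArg Subtype.val (mul_inv_cancel₀ h0)
              have h1' : (((a⁻¹ : P.K) : AddMonoid.End W) * a) = 1 :=
                congrArg Subtype.val (inv_mul_cancel₀ h0)
              have h2 := congrArg (cj g) h1
              rw [map_mul, show cj g (a : AddMonoid.End W) = a from ha, map_one] at h2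
              calc cj g ((a⁻¹ : P.K) : AddMonoid.End W)
                  = (((a⁻¹ : P.K) : AddMonoid.End W) * a) * cj g ((a⁻¹ : P.K) : AddMonoid.End W) := by
                    rw [h1', one_mul]
                _ = _ := by rw [mul_assoc, h2, mul_one] }
      have hKg : Nat.card Kg ≤ 4 := by
        have h16 := Module.natCard_eq_pow_finrank (K := Kg) (V := P.K)
        rw [hf] at h16
        have hd : 1 ≤ Module.finrank Kg P.K := Module.finrank_pos
        by_contra h5
        by_cases hd1 : Module.finrank Kg P.K = 1
        · rw [hd1, pow_one] at h16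
          have : Function.Bijective (Subtype.val : Kg → P.K) :=
            (Nat.bijective_iff_injective_and_card _).2 ⟨Subtype.val_injective, by rw [← h16, hf]⟩
          obtain ⟨c, hc⟩ := this.2 r
          exact hr (hc ▸ c.2)
        · have := Nat.pow_le_pow_left (show 5 ≤ Nat.card Kg by omega) 2
          have := Nat.pow_le_pow_right (show 0 < Nat.card Kg by omega)
            (show 2 ≤ Module.finrank Kg P.K by omega)
          norm_num at *
          omega
      have hFA : Nat.card (F ⊓ P.A : Subgroup H) ≤ 3 := by
        have hmem : ∀ a : (F ⊓ P.A : Subgroup H), ((P.sc ⟨a, a.2.2⟩ : P.Kˣ) : P.K) ∈ Kg := by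
          intro a
          show cj g (rho (a : H)) = rho (a : H)
          refine AddMonoidHom.ext fun x => ?_
          show g • (a : H) • g⁻¹ • x = (a : H) • x
          rw [← mul_smul, ← mul_smul, ← Subgroup.mem_centralizer_singleton_iff.1 a.2.1,
            mul_assoc, mul_inv_cancel, mul_one]
        haveI := Fintype.ofFinite Kg
        have hinj : Function.Injective fun a : (F ⊓ P.A : Subgroup H) =>
            (⟨⟨_, hmem a⟩, fun h => (P.sc ⟨a, a.2.2⟩).ne_zero (congrArg Subtype.val h)⟩ :
              {u : Kg // u ≠ 0}) := fun a b h =>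
          Subtype.ext (congrArg (fun z : P.A => (z : H)) (P.sc_injective (Units.ext (congrArg (fun u => (u.1 : P.K)) h))))
        have := Nat.card_le_card_of_injective _ hinj
        rw [Nat.card_eq_fintype_card (α := {u : Kg // u ≠ 0}), Fintype.card_subtype_compl,
          Fintype.card_subtype_eq, ← Nat.card_eq_fintype_card] at this
        omega
      have hidx : P.A.relIndex F ≤ 4 := by
        rw [← hAC]
        exact (Nat.le_of_dvd (Nat.pos_of_ne_zero Subgroup.index_ne_zero_of_finite) (Subgroup.relIndex_dvd_index_of_normal _ _)).trans hl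
      have e2 : Nat.card F = Nat.card (P.A.subgroupOf F) * P.A.relIndex F :=
        (Subgroup.card_mul_index _).symm
      have e3 : Nat.card (P.A.subgroupOf F) ≤ 3 := by
        refine le_trans ?_ hFA
        refine Nat.card_le_card_of_injective (fun x => ⟨x.1.1, x.1.2, x.2⟩) fun a b h => ?_
        exact Subtype.ext (Subtype.ext (congrArg (fun z => (z.1 : H)) h))
      rw [e1, e2]
      exact Nat.mul_le_mul e3 hidx
    have h := k_le_of_centralizers (P.A : Set H) (one_mem _)
      ((Nat.card_coe_set_eq _).symm.trans_le hA) (by norm_num) hcent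
    norm_num at h
    omega

/-- The class number of the section group. -/
theorem section_k {G V : Type v} [Group G] [Finite G] [Group.IsSolvable G] [AddCommGroup V]
    [Finite V] [DistribMulAction G V] [FaithfulSMul G V] [Nontrivial V] {P : Prim G V} (S : Symp P)
    {f : ℕ} (hf1 : 1 ≤ f) (hl : P.C.index ≤ f) :
    3 * f * Nat.card (ConjClasses (secHom S).range) ≤ 3 ^ (f * dimK P) := by
  classical
  obtain ⟨e, he, he1, hew, hm, -⟩ := section_data S
  have hw0 := dimK_pos P
  have hlin : f * 3 ^ dimK P ≤ 3 ^ (f * dimK P) := by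
    obtain ⟨g, rfl⟩ : ∃ g, f = g + 1 := ⟨f - 1, by omega⟩
    have h1 : g + 1 ≤ 3 ^ (g * dimK P) := (Nat.lt_pow_self (show 1 < 3 by norm_num)).trans_le
      (Nat.pow_le_pow_right (by norm_num) (Nat.le_mul_of_pos_right g hw0))
    rw [Nat.add_mul g 1 (dimK P), one_mul, pow_add]
    exact Nat.mul_le_mul_right _ h1
  have fin : 3 * Nat.card (ConjClasses (secHom S).range) ≤ 3 ^ e →
      3 * f * Nat.card (ConjClasses (secHom S).range) ≤ 3 ^ (f * dimK P) := fun h => by
    refine le_trans ?_ hlin
    calc 3 * f * Nat.card (ConjClasses (secHom S).range)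
        = f * (3 * Nat.card (ConjClasses (secHom S).range)) := by ring
      _ ≤ _ := Nat.mul_le_mul_left _ (h.trans (Nat.pow_le_pow_right (by norm_num) hew))
  have hkR : Nat.card (ConjClasses (secHom S).range) ≤ Nat.card (secHom S).range :=
    Nat.card_le_card_of_surjective _ ConjClasses.mk_surjective
  have hsq : ∀ {r : ℕ}, r.Prime → Nat.card S.M = r * r → ∀ x : Additive S.M, r • x = 0 := by
    intro r hr hM x
    have h : (Additive.toMul x) ^ (r * r) = 1 := by rw [← hM]; exact pow_card_eq_one'
    exact sq_free S r _ hr h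
  letI : DistribMulAction (secHom S).range (Additive S.M) :=
    { smul := fun g x => Additive.ofMul ((g : MulAut S.M) (Additive.toMul x))
      one_smul := fun x => rfl
      mul_smul := fun g h x => rfl
      smul_zero := fun g => congrArg Additive.ofMul (map_one (g : MulAut S.M))
      smul_add := fun g x y =>
        congrArg Additive.ofMul (map_mul (g : MulAut S.M) (Additive.toMul x) (Additive.toMul y)) }
  haveI : FaithfulSMul (secHom S).range (Additive S.M) := ⟨fun {a b} h => Subtype.ext
    (MulEquiv.ext fun m => congrArg Additive.toMul (h (Additive.ofMul m)))⟩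
  by_cases h235 : e = 2 ∨ e = 3 ∨ e = 5
  · have hr : e.Prime := by rcases h235 with rfl | rfl | rfl <;> norm_num
    have h := k_prime_sq (R := (secHom S).range) (M := Additive S.M) hr
      (by rw [Nat.card_congr Additive.toMul, he]) (hsq hr he)
    apply fin
    rcases h235 with rfl | rfl | rfl <;> norm_num at h ⊢ <;> omega
  by_cases he4 : e = 4
  · subst he4
    by_cases hf2 : 2 ≤ f
    · have h72 : Nat.card (secHom S).range ≤ 72 :=
        (section_small S (j := 4) (by norm_num) (by rw [he]; norm_num)).trans (by decide)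
      have h216 : ∀ i : ℕ, 216 * (i + 2) ≤ 3 ^ (4 * (i + 2)) := by
        intro i
        induction i with
        | zero => norm_num
        | succ j ih =>
          rw [show 4 * (j + 1 + 2) = 4 * (j + 2) + 4 by ring, pow_add]
          omega
      calc 3 * f * Nat.card (ConjClasses (secHom S).range) ≤ 3 * f * 72 :=
            Nat.mul_le_mul_left _ (hkR.trans h72)
        _ = 216 * (f - 2 + 2) := by rw [Nat.sub_add_cancel hf2]; ring
        _ ≤ 3 ^ (4 * (f - 2 + 2)) := h216 _
        _ ≤ _ := Nat.pow_le_pow_right (by norm_num) (by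
            rw [Nat.sub_add_cancel hf2, mul_comm]; exact Nat.mul_le_mul_left _ hew)
    have hC : ∀ g : G, g ∈ P.C := fun g => by
      have h1 : P.C.index = 1 := by
        have := Nat.pos_of_ne_zero (Subgroup.index_ne_zero_of_finite (H := P.C))
        omega
      rw [Subgroup.index_eq_one.1 h1]; exact Subgroup.mem_top g
    haveI : Group.IsSolvable (secHom S).range :=
      Group.isSolvable_of_surjective (secHom S).rangeRestrict_surjective
    have hcr : CR (secHom S).range (Additive S.M) := by
      intro U hU
      obtain ⟨U', hU', hd, hs⟩ := S.cr U fun g x hx => hU ⟨_, ⟨g, hC g⟩, rfl⟩ x hx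
      refine ⟨U', ?_, hd, hs⟩
      rintro ⟨_, c, rfl⟩ x hx
      exact hU' c x hx
    have h2 : ∀ x : Additive S.M, 2 • x = 0 := by
      intro x
      have h16 : (Additive.toMul x) ^ 16 = 1 := by
        rw [show (16 : ℕ) = Nat.card S.M by rw [he]]; exact pow_card_eq_one'
      have h8 := sq_free S 2 (Additive.toMul x ^ 4) Nat.prime_two (by rw [← pow_mul]; exact h16)
      rw [← pow_mul] at h8
      have h4 := sq_free S 2 (Additive.toMul x ^ 2) Nat.prime_two (by rw [← pow_mul]; exact h8)
      rw [← pow_mul] at h4
      exact sq_free S 2 (Additive.toMul x) Nat.prime_two h4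
    apply fin
    have := k_sixteen (H := (secHom S).range) hcr (by rw [Nat.card_congr Additive.toMul, he]) h2
    norm_num
    omega
  apply fin
  by_cases he8 : e = 8
  · subst he8
    have h : Nat.card (secHom S).range ≤ 1296 :=
      (section_small S (j := 6) (by norm_num) (by rw [he]; norm_num)).trans (by decide)
    norm_num
    omega
  by_cases hsmall : e ≤ 15 ∧ e ≠ 9
  · have h : 3 * spBound e ≤ 3 ^ e := by
      obtain ⟨h15, h9⟩ := hsmall
      push Not at h235
      interval_cases e <;> first | omega | decide
    omega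
  -- the order bound
  haveI : Group.IsSolvable (actHom G (Additive S.M)).range :=
    Group.isSolvable_of_surjective (actHom G (Additive S.M)).rangeRestrict_surjective
  haveI : Finite (actHom G (Additive S.M)).range :=
    Finite.of_surjective _ (actHom G (Additive S.M)).rangeRestrict_surjective
  haveI := faithful_range (H := G) (W := Additive S.M)
  obtain ⟨-, hIH, h3⟩ := ordBd (e * e) (actHom G (Additive S.M)).range (Additive S.M) (cr_range S.cr)
    (by rw [Nat.card_congr Additive.toMul, he])
  have hsub : Nat.card (secHom S).range ≤ Nat.card (actHom G (Additive S.M)).range := by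
    rw [← Subgroup.index_ker, ← Subgroup.index_ker]
    have h : (secHom S).ker = (actHom G (Additive S.M)).ker.subgroupOf P.C := by
      ext c
      rw [MonoidHom.mem_ker, Subgroup.mem_subgroupOf, MonoidHom.mem_ker]
      constructor
      · intro h
        refine Units.ext (AddMonoidHom.ext fun x => ?_)
        exact congrArg Additive.ofMul (MulEquiv.ext_iff.1 h (Additive.toMul x))
      · intro h
        refine MulEquiv.ext fun m => ?_
        exact congrArg Additive.toMul
          (congrArg (fun u : (AddMonoid.End (Additive S.M))ˣ => u • Additive.ofMul m) h)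
    rw [h]
    exact Nat.le_of_dvd (Nat.pos_of_ne_zero Subgroup.index_ne_zero_of_finite)
      (Subgroup.relIndex_dvd_index_of_normal _ _)
  by_cases he9 : e = 9
  · subst he9
    have h := hsub.trans ((h3 4 le_rfl (by norm_num)).trans (show ordThree 4 ≤ 4608 by decide))
    norm_num
    omega
  have he16 : 16 ≤ e := by omega
  have hbig : ∀ m : ℕ, 13 ≤ m → m ^ 5 ≤ 3 ^ m := by
    intro m hm
    induction m, hm using Nat.le_induction with
    | base => norm_num
    | succ n hn ih =>
      have h1 : (n + 1) ^ 5 ≤ 3 * n ^ 5 := by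
        have h2 : 13 * (n + 1) ≤ 14 * n := by omega
        have h3 := Nat.pow_le_pow_left h2 5
        rw [mul_pow, mul_pow] at h3
        omega
      rw [pow_succ 3 n]
      omega
  have hR := (Nat.pow_le_pow_left (Nat.mul_le_mul_left 3 hsub) 2).trans (hIH (by nlinarith))
  rw [show (e * e) ^ 5 = (e ^ 5) ^ 2 by ring] at hR
  have := (Nat.pow_le_pow_iff_left (by norm_num : 2 ≠ 0)).1 hR
  have := hbig e (by omega)
  omega

end Cfsg.Agent.KBSolv75
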