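import Mathlib
import Cfsg.Prelude.Def_Characters
import Cfsg.Agent.Lib.CharBasicDecomp
import Cfsg.Agent.Lib.CoprimeAction

/-! Knörr's generalised character for a coprime abelian group acting on an elementary abelian group. -/

set_option autoImplicit false

open Cfsg Subgroup Cfsg.Agent.CharBasic Cfsg.Agent.CharBasicDecomp
open scoped ComplexConjugate

namespace Cfsg.Agent.KnorrKGV

universe u

variable {X : Type u} [Group X]

theorem card_sup_of_commute {H K : Subgroup X} (hc : ∀ h ∈ H, ∀ k ∈ K, h * k = k * h)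
    (hd : H ⊓ K = ⊥) : Nat.card ↥(H ⊔ K) = Nat.card H * Nat.card K := by
  have comm : ∀ (h : H) (k : K), Commute (H.subtype h) (K.subtype k) :=
    fun h k => hc h h.2 k k.2
  let f := MonoidHom.noncommCoprod H.subtype K.subtype comm
  have hinj : Function.Injective f := by
    rw [injective_iff_map_eq_one]
    rintro ⟨h, k⟩ he
    have he' : (h : X) * k = 1 := he
    have hh : (h : X) ∈ H ⊓ K := ⟨h.2, by rw [eq_inv_of_mul_eq_one_left he']; exact K.inv_mem k.2⟩
    rw [hd, mem_bot] at hh
    rw [hh, one_mul] at he'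
    exact Prod.ext (Subtype.ext hh) (Subtype.ext he')
  have hr : f.range = H ⊔ K := by
    simp only [f, MonoidHom.noncommCoprod_range, Subgroup.range_subtype]
  rw [← hr, ← Nat.card_prod]
  exact (Nat.card_congr (MonoidHom.ofInjective hinj).toEquiv).symm

theorem exists_disjoint_complement {p : ℕ} [Fact p.Prime] [Finite X] {V U : Subgroup X}
    (hc : ∀ a ∈ V, ∀ b ∈ V, a * b = b * a) (he : ∀ a ∈ V, a ^ p = 1) (hU : U ≤ V) :
    ∃ W : Subgroup X, W ≤ V ∧ U ⊓ W = ⊥ ∧ U ⊔ W = V := by
  obtain ⟨W, ⟨hWV, hUW⟩, hmax⟩ := (Set.toFinite {W : Subgroup X | W ≤ V ∧ U ⊓ W = ⊥}).exists_maximal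
    ⟨⊥, bot_le, inf_bot_eq U⟩
  refine ⟨W, hWV, hUW, le_antisymm (sup_le hU hWV) fun x hx => ?_⟩
  by_contra hxn
  have hlt : ¬ (W ⊔ zpowers x ≤ W) := fun h =>
    hxn (mem_sup_right (h (mem_sup_right (mem_zpowers x))))
  have hne : U ⊓ (W ⊔ zpowers x) ≠ ⊥ := fun h =>
    hlt (hmax (y := W ⊔ zpowers x) ⟨sup_le hWV (zpowers_le.2 hx), h⟩ le_sup_left)
  obtain ⟨y, hy, hy1⟩ : ∃ y ∈ U ⊓ (W ⊔ zpowers x), y ≠ 1 := by
    by_contra! h
    exact hne ((eq_bot_iff_forall _).2 h)
  have hn : zpowers x ≤ normalizer (W : Set X) := by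
    refine (?_ : zpowers x ≤ centralizer (W : Set X)).trans (centralizer_le_normalizer _)
    rw [zpowers_le, mem_centralizer_iff]
    exact fun w hw => hc w (hWV hw) x hx
  have hy2 : y ∈ ((W ⊔ zpowers x : Subgroup X) : Set X) := hy.2
  rw [coe_mul_of_right_le_normalizer_left W (zpowers x) hn] at hy2
  obtain ⟨w, hw, z, hz, hwz⟩ := Set.mem_mul.1 hy2
  obtain ⟨i, rfl⟩ := mem_zpowers_iff.1 hz
  have hzi : x ^ i ∈ U ⊔ W := by
    rw [← inv_mul_cancel_left w (x ^ i), hwz]
    exact mul_mem (mem_sup_right (W.inv_mem hw)) (mem_sup_left hy.1)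
  by_cases hi : (p : ℤ) ∣ i
  · obtain ⟨j, rfl⟩ := hi
    rw [zpow_mul, zpow_natCast, he x hx, one_zpow, mul_one] at hwz
    exact hy1 (mem_bot.1 (hUW ▸ (⟨hy.1, hwz ▸ hw⟩ : y ∈ U ⊓ W)))
  · obtain ⟨s, t, hst⟩ : IsCoprime (p : ℤ) i :=
      (Nat.prime_iff_prime_int.1 (Fact.out : p.Prime)).coprime_iff_not_dvd.2 hi
    apply hxn
    have : x = (x ^ i) ^ t := by
      conv_lhs => rw [← zpow_one x, ← hst, zpow_add, mul_comm s, zpow_mul, zpow_natCast, he x hx,
        one_zpow, one_mul]
      rw [← zpow_mul, mul_comm]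
    rw [this]
    exact zpow_mem hzi t

/-- There is a generalised character on `C_p × A` with the modulus of the Weil character. -/
def Good (p : ℕ) [Fact p.Prime] (A U : Subgroup X) : Prop :=
  ∃ F : Multiplicative (ZMod p) × A → ℂ, IsGeneralizedCharacter _ F ∧
    (∀ t a, t ≠ 1 → ‖F (t, a)‖ ^ 2 * (Nat.card ↥(U ⊓ centralizer ({(a : X)} : Set X)) : ℝ)
      = Nat.card U) ∧
    ∃ f : ℤ, ¬ (p : ℤ) ∣ f ∧ F (1, 1) = f ∧
      ∀ a : A, ¬ U ≤ centralizer ({(a : X)} : Set X) → F (1, a) = 0

theorem good_bot (p : ℕ) [Fact p.Prime] (A : Subgroup X) : Good p A ⊥ := by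
  refine ⟨fun _ => 1, isGeneralizedCharacter_of_isCharacter isCharacter_one, fun t a _ => ?_,
    1, fun h => (Nat.prime_iff_prime_int.1 (Fact.out : p.Prime)).not_unit (isUnit_of_dvd_one h),
    by simp, fun a h => absurd bot_le h⟩
  simp

theorem good_sup {p : ℕ} [Fact p.Prime] [Finite X] {A U W : Subgroup X}
    (hc : ∀ u ∈ U, ∀ w ∈ W, u * w = w * u) (hd : U ⊓ W = ⊥)
    (hU : A ≤ normalizer (U : Set X)) (hW : A ≤ normalizer (W : Set X))
    (gU : Good p A U) (gW : Good p A W) : Good p A (U ⊔ W) := by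
  obtain ⟨F, hF, hFn, f, hf, hf1, hf0⟩ := gU
  obtain ⟨E, hE, hEn, e, he, he1, he0⟩ := gW
  refine ⟨F * E, isGeneralizedCharacter_mul hF hE, fun t a ht => ?_, f * e, ?_, ?_, fun a ha => ?_⟩
  · set c : Subgroup X := centralizer ({(a : X)} : Set X) with hcdef
    have hsplit : (U ⊔ W) ⊓ c = (U ⊓ c) ⊔ (W ⊓ c) := by
      refine le_antisymm (fun x hx => ?_)
        (sup_le (inf_le_inf_right _ le_sup_left) (inf_le_inf_right _ le_sup_right))
      have hn : W ≤ normalizer (U : Set X) :=
        ((le_centralizer_iff.1 fun u hu =>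
          mem_centralizer_iff.2 fun w hw => (hc u hu w hw).symm)).trans (centralizer_le_normalizer _)
      have hx1 : x ∈ ((U ⊔ W : Subgroup X) : Set X) := hx.1
      rw [coe_mul_of_right_le_normalizer_left U W hn] at hx1
      obtain ⟨u, hu, w, hw, rfl⟩ := Set.mem_mul.1 hx1
      have hca : (a : X) * (u * w) = u * w * a := mem_centralizer_singleton_iff.1 hx.2 |>.symm
      have hu' : (a : X) * u * (a : X)⁻¹ ∈ U := (mem_normalizer_iff.1 (hU a.2) u).1 hu
      have hw' : (a : X) * w * (a : X)⁻¹ ∈ W := (mem_normalizer_iff.1 (hW a.2) w).1 hw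
      have hprod : ((a : X) * u * (a : X)⁻¹) * ((a : X) * w * (a : X)⁻¹) = u * w := by
        calc _ = (a : X) * (u * w) * (a : X)⁻¹ := by group
          _ = u * w := by rw [hca]; group
      set u' := (a : X) * u * (a : X)⁻¹ with hu'def
      set w' := (a : X) * w * (a : X)⁻¹ with hw'def
      have h1 : u⁻¹ * u' ∈ U ⊓ W := by
        refine ⟨U.mul_mem (U.inv_mem hu) hu', ?_⟩
        have : u⁻¹ * u' = w * w'⁻¹ := by
          rw [eq_mul_inv_iff_mul_eq, mul_assoc, hprod]; group
        exact this ▸ W.mul_mem hw (W.inv_mem hw')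
      rw [hd, mem_bot, inv_mul_eq_one] at h1
      have h2 : w = w' := by
        rw [← h1] at hprod; exact (mul_left_cancel hprod).symm
      exact mul_mem (mem_sup_left ⟨hu, mem_centralizer_singleton_iff.2
          (mul_inv_eq_iff_eq_mul.1 h1.symm).symm⟩)
        (mem_sup_right ⟨hw, mem_centralizer_singleton_iff.2
          (mul_inv_eq_iff_eq_mul.1 h2.symm).symm⟩)
    rw [hsplit, card_sup_of_commute (H := U ⊓ c) (K := W ⊓ c) (fun u hu w hw => hc u hu.1 w hw.1)
        (le_bot_iff.1 (le_of_le_of_eq (inf_le_inf inf_le_left inf_le_left) hd)),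
      card_sup_of_commute hc hd,
      Pi.mul_apply, norm_mul, mul_pow, Nat.cast_mul, Nat.cast_mul, ← hFn t a ht, ← hEn t a ht]
    ring
  · exact fun h => ((Nat.prime_iff_prime_int.1 (Fact.out : p.Prime)).dvd_mul.1 h).elim hf he
  · simp [hf1, he1]
  · rw [Pi.mul_apply]
    by_cases h : U ≤ centralizer ({(a : X)} : Set X)
    · rw [he0 a fun h' => ha (sup_le h h'), mul_zero]
    · rw [hf0 a h, zero_mul]

theorem good_minimal {p : ℕ} [Fact p.Prime] [Finite X] {A W : Subgroup X}
    (hA : ∀ a ∈ A, ∀ b ∈ A, a * b = b * a)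
    (hc : ∀ a ∈ W, ∀ b ∈ W, a * b = b * a) (he : ∀ a ∈ W, a ^ p = 1)
    (hN : A ≤ normalizer (W : Set X)) (hW : W ≠ ⊥)
    (hmin : ∀ K ≤ W, A ≤ normalizer (K : Set X) → K ≠ ⊥ → K = W) : Good p A W := by
  classical
  letI : CommGroup W :=
    { (inferInstance : Group W) with mul_comm := fun x y => Subtype.ext (hc x x.2 y y.2) }
  let act : A → AddMonoid.End (Additive W) := fun a =>
    MonoidHom.toAdditive (MonoidHom.mk' (fun w : W => (⟨(a : X) * w * (a : X)⁻¹,
      (mem_normalizer_iff.1 (hN a.2) w).1 w.2⟩ : W)) fun x y => Subtype.ext (by simp [mul_assoc]))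
  have act_apply : ∀ (a : A) (w : Additive W),
      ((Additive.toMul (act a w) : W) : X) = (a : X) * (Additive.toMul w : W) * (a : X)⁻¹ :=
    fun a w => rfl
  have act_mul : ∀ a b : A, act (a * b) = act a * act b := fun a b => by
    refine AddMonoidHom.ext fun w => Additive.toMul.injective (Subtype.ext ?_)
    show ((Additive.toMul (act (a * b) w) : W) : X) = ((Additive.toMul (act a (act b w)) : W) : X)
    rw [act_apply, act_apply, act_apply]
    simp [mul_assoc]
  have act_one : act 1 = 1 := by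
    refine AddMonoidHom.ext fun w => Additive.toMul.injective (Subtype.ext ?_)
    show ((1 : A) : X) * ((Additive.toMul w : W) : X) * ((1 : A) : X)⁻¹ = ((Additive.toMul w : W) : X)
    simp
  let R : Subring (AddMonoid.End (Additive W)) := Subring.closure (Set.range act)
  have hcen : R ≤ Subring.centralizer (Set.range act) := by
    refine Subring.closure_le.2 ?_
    rintro _ ⟨a, rfl⟩
    rw [SetLike.mem_coe, Subring.mem_centralizer_iff]
    rintro _ ⟨b, rfl⟩
    rw [← act_mul, ← act_mul]
    exact congrArg act (Subtype.ext (hA b b.2 a a.2))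
  have hcomm : ∀ r s : R, r * s = s * r := by
    intro r s
    have : R ≤ Subring.centralizer (R : Set (AddMonoid.End (Additive W))) := by
      refine Subring.closure_le.2 ?_
      rintro _ ⟨a, rfl⟩
      rw [SetLike.mem_coe, Subring.mem_centralizer_iff]
      exact fun x hx => (Subring.mem_centralizer_iff.1 (hcen hx) _ ⟨a, rfl⟩).symm
    exact Subtype.ext (Subring.mem_centralizer_iff.1 (this s.2) _ r.2)
  let toX : Additive W →+ Additive X := MonoidHom.toAdditive W.subtype
  have hinv : ∀ K : AddSubgroup (Additive W), (∀ a, ∀ w ∈ K, act a w ∈ K) → K ≠ ⊥ → K = ⊤ := by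
    intro K hK hKne
    let L : Subgroup W := AddSubgroup.toSubgroup' K
    have hLmem : ∀ w : W, w ∈ L ↔ Additive.ofMul w ∈ K := fun w => Iff.rfl
    let M : Subgroup X := L.map W.subtype
    have hM : M = W := by
      refine hmin M (map_subtype_le L) (CoprimeAction.le_normalizer_of_conj_mem ?_) fun h => hKne ?_
      · rintro a ha _ ⟨w, hw, rfl⟩
        exact ⟨_, (hLmem _).2 (hK ⟨a, ha⟩ _ ((hLmem w).1 hw)), rfl⟩
      · rw [AddSubgroup.eq_bot_iff_forall]
        intro x hx
        have : ((Additive.toMul x : W) : X) ∈ M := ⟨Additive.toMul x, hx, rfl⟩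
        rw [h, mem_bot, OneMemClass.coe_eq_one] at this
        exact this
    rw [AddSubgroup.eq_top_iff']
    intro x
    have h1 : ((Additive.toMul x : W) : X) ∈ M := hM.symm ▸ (Additive.toMul x : W).2
    obtain ⟨w, hw, hw'⟩ := h1
    have : w = Additive.toMul x := Subtype.ext hw'
    subst this
    exact hw
  have hinj : ∀ r : R, r ≠ 0 → Function.Injective (r : AddMonoid.End (Additive W)) := by
    intro r hr
    rw [injective_iff_map_eq_zero]
    intro x hx
    by_contra hx0
    have hK := hinv (AddMonoidHom.ker (r : AddMonoid.End (Additive W))) (fun a w hw => by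
      have h1 := congrArg (fun f => f w) (Subring.mem_centralizer_iff.1 (hcen r.2) _ ⟨a, rfl⟩)
      refine (AddMonoidHom.mem_ker).2 (h1.symm.trans ?_)
      show act a ((r : AddMonoid.End (Additive W)) w) = 0
      exact (congrArg (act a) hw).trans (map_zero (act a))) (fun h => hx0 (by
        have : x ∈ AddMonoidHom.ker (r : AddMonoid.End (Additive W)) := hx
        rwa [h, AddSubgroup.mem_bot] at this))
    exact hr (Subtype.ext (AddMonoidHom.ext fun w => by
      have : w ∈ AddMonoidHom.ker (r : AddMonoid.End (Additive W)) := hK ▸ AddSubgroup.mem_top w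
      exact this))
  letI : CommRing R := { R.toRing with mul_comm := hcomm }
  obtain ⟨w0, hw0, hw01⟩ : ∃ y ∈ W, y ≠ 1 := by
    by_contra! h
    exact hW ((eq_bot_iff_forall _).2 h)
  let m0 : Additive W := Additive.ofMul (⟨w0, hw0⟩ : W)
  have hm0 : m0 ≠ 0 := fun h => hw01 (congrArg (fun z : Additive W => ((Additive.toMul z : W) : X)) h)
  haveI : Nontrivial R := ⟨⟨0, 1, fun h => hm0 (by
    have := congrArg (fun f : R => (f : AddMonoid.End (Additive W)) m0) h
    exact this.symm)⟩⟩
  haveI : NoZeroDivisors R := ⟨fun {r s} h => by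
    by_contra hn
    push Not at hn
    refine hn.2 (Subtype.ext (AddMonoidHom.ext fun w => hinj r hn.1 ?_))
    have := congrArg (fun f : R => (f : AddMonoid.End (Additive W)) w) h
    exact this.trans (map_zero (r : AddMonoid.End (Additive W))).symm⟩
  haveI : IsDomain R := NoZeroDivisors.to_isDomain R
  haveI : Finite (AddMonoid.End (Additive W)) := Finite.of_injective _ DFunLike.coe_injective
  haveI : Finite R := Subtype.finite
  letI : Field R := (Finite.isField_of_domain R).toField
  haveI : Fintype R := Fintype.ofFinite R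
  -- the order of the field
  let ev : R →+ Additive W :=
    { toFun := fun r => (r : AddMonoid.End (Additive W)) m0, map_zero' := rfl,
      map_add' := fun _ _ => rfl }
  have hcard : Nat.card R = Nat.card W := by
    have h1 : Function.Injective ev := by
      rw [injective_iff_map_eq_zero]
      intro r hr
      by_contra hr0
      exact hm0 (hinj r hr0 (hr.trans (map_zero (r : AddMonoid.End (Additive W))).symm))
    have h2 : ev.range = ⊤ := by
      refine hinv _ ?_ fun h => ?_
      · rintro a _ ⟨r, rfl⟩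
        exact ⟨⟨act a, Subring.subset_closure ⟨a, rfl⟩⟩ * r, rfl⟩
      · have : m0 ∈ ev.range := ⟨1, rfl⟩
        rw [h, AddSubgroup.mem_bot] at this
        exact hm0 this
    exact (Nat.card_congr (Equiv.ofBijective ev ⟨h1, AddMonoidHom.range_eq_top.1 h2⟩)).trans
      (Nat.card_congr Additive.toMul)
  have hp0 : (p : R) = 0 := by
    refine Subtype.ext (AddMonoidHom.ext fun w => Additive.toMul.injective ?_)
    show Additive.toMul ((((p : R) : AddMonoid.End (Additive W))) w) = 1
    rw [SubringClass.coe_natCast, AddMonoid.End.natCast_apply, toMul_nsmul]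
    exact Subtype.ext (by simpa using he _ (Additive.toMul w : W).2)
  haveI : CharP R p := (CharP.charP_iff_prime_eq_zero (Fact.out : p.Prime)).2 hp0
  let toR : A →* R :=
    { toFun := fun a => ⟨act a, Subring.subset_closure ⟨a, rfl⟩⟩,
      map_one' := Subtype.ext act_one, map_mul' := fun a b => Subtype.ext (act_mul a b) }
  let u : A →* Rˣ := toR.toHomUnits
  let dual : Rˣ ≃* (Rˣ →* ℂˣ) :=
    ((CommGroup.monoidHom_mulEquiv_of_hasEnoughRootsOfUnity Rˣ ℂ).some).symm
  let χ : A → MulChar R ℂ := fun a => MulChar.ofUnitHom (dual (u a))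
  have hχ1 : ∀ a : A, χ a = 1 ↔ W ≤ centralizer ({(a : X)} : Set X) := by
    intro a
    have h1 : χ a = 1 ↔ u a = 1 := by
      rw [show (1 : MulChar R ℂ) = MulChar.ofUnitHom 1 from by
        ext x; simp]
      exact ⟨fun h => dual.injective (by
        rw [map_one]; exact MulChar.equivToUnitHom.symm.injective h), fun h => by simp [χ, h]⟩
    rw [h1]
    constructor
    · intro h w hw
      have h2 := congrArg (fun r : Rˣ => ((r : R) : AddMonoid.End (Additive W))
        (Additive.ofMul (⟨w, hw⟩ : W))) h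
      have h3 := congrArg (fun z : Additive W => ((Additive.toMul z : W) : X)) h2
      exact mem_centralizer_singleton_iff.2 (mul_inv_eq_iff_eq_mul.1 h3).symm
    · intro h
      refine Units.ext (Subtype.ext (AddMonoidHom.ext fun w => Additive.toMul.injective
        (Subtype.ext ?_)))
      show (a : X) * (Additive.toMul w : W) * (a : X)⁻¹ = _
      rw [← mem_centralizer_singleton_iff.1 (h (Additive.toMul w : W).2), mul_inv_cancel_right]
      rfl
  have hfix : ∀ a : A, χ a ≠ 1 → W ⊓ centralizer ({(a : X)} : Set X) = ⊥ := by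
    intro a ha
    rw [eq_bot_iff_forall]
    intro w hw
    by_contra hw1
    have hne : toR a - 1 ≠ 0 := by
      rw [sub_ne_zero]
      intro h
      refine ha ((hχ1 a).2 fun x hx => ?_)
      have h3 := congrArg (fun r : R => ((Additive.toMul ((r : AddMonoid.End (Additive W))
        (Additive.ofMul (⟨x, hx⟩ : W))) : W) : X)) h
      exact mem_centralizer_singleton_iff.2 (mul_inv_eq_iff_eq_mul.1 h3).symm
    refine hw1 (congrArg (fun z : Additive W => ((Additive.toMul z : W) : X))
      (hinj _ hne (a₁ := Additive.ofMul (⟨w, hw.1⟩ : W)) (a₂ := 0) ?_))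
    rw [map_zero]
    show act a _ - _ = 0
    rw [sub_eq_zero]
    exact Additive.toMul.injective (Subtype.ext (by
      rw [act_apply]
      show (a : X) * w * (a : X)⁻¹ = w
      rw [← mem_centralizer_singleton_iff.1 hw.2, mul_inv_cancel_right]))
  -- the character
  obtain ⟨ψ, hψ⟩ : ∃ ψ : AddChar R ℂ, ψ.IsPrimitive :=
    ⟨_, AddChar.FiniteField.primitiveChar_to_Complex_isPrimitive R⟩
  let cast' : ZMod p →+ R := (ZMod.castHom dvd_rfl R).toAddMonoidHom
  let lin : Rˣ → (Multiplicative (ZMod p) × A →* ℂ) := fun x =>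
    { toFun := fun z => ψ (cast' (Multiplicative.toAdd z.1) * x) * χ z.2 x
      map_one' := by
        simp [χ]
      map_mul' := fun y z => by
        simp only [Prod.fst_mul, Prod.snd_mul, toAdd_mul, map_add, add_mul, AddChar.map_add_eq_mul,
          χ, map_mul, MulChar.ofUnitHom_coe, MonoidHom.mul_apply, Units.val_mul]
        ring }
  let F : Multiplicative (ZMod p) × A → ℂ := fun z => - ∑ x : Rˣ, lin x z
  have hsum : ∀ (c : R) (χ : MulChar R ℂ),
      ∑ x : Rˣ, ψ (c * x) * χ x = gaussSum χ (ψ.mulShift c) := by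
    intro c χ
    rw [gaussSum, ← Finset.sum_erase Finset.univ (a := (0 : R)) (by simp [MulChar.map_zero])]
    refine Finset.sum_nbij (fun x : Rˣ => (x : R)) (fun x _ => by simp [x.ne_zero])
      (fun x _ y _ h => Units.ext h)
      (fun y hy => ⟨Units.mk0 y (Finset.mem_erase.1 hy).1, Finset.mem_univ _, rfl⟩) fun x _ => ?_
    rw [AddChar.mulShift_apply, mul_comm]
  have hFval : ∀ t a, F (t, a) = - gaussSum (χ a) (ψ.mulShift (cast' (Multiplicative.toAdd t))) :=
    fun t a => by rw [← hsum]; rfl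
  refine ⟨F, ?_, fun t a ht => ?_, 1 - (Nat.card W : ℤ), ?_, ?_, fun a ha => ?_⟩
  · refine isGeneralizedCharacter_neg (θ := fun z => ∑ x : Rˣ, lin x z) ?_
    refine isGeneralizedCharacter_of_isCharacter ?_
    have := isCharacter_sum (G := Multiplicative (ZMod p) × A) Finset.univ
      (fun (x : Rˣ) (z : Multiplicative (ZMod p) × A) => ((lin x).toHomUnits z : ℂ))
      fun x _ => isCharacter_linear _
    convert this using 1
    ext z
    simp
  · set c := cast' (Multiplicative.toAdd t) with hcdef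
    have hc0 : c ≠ 0 := fun h => ht (Multiplicative.toAdd.injective
      ((RingHom.injective (ZMod.castHom dvd_rfl R)) (h.trans (map_zero _).symm)))
    have hψc : ψ.mulShift c ≠ 1 := hψ hc0
    rw [hFval, norm_neg]
    by_cases ha : χ a = 1
    · rw [inf_eq_left.2 ((hχ1 a).1 ha), ha]
      have h1 : gaussSum (1 : MulChar R ℂ) (ψ.mulShift c) = -1 := by
        have h2 := AddChar.sum_eq_zero_of_ne_one hψc
        rw [← Finset.add_sum_erase _ _ (Finset.mem_univ (0 : R)), AddChar.map_zero_eq_one] at h2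
        rw [gaussSum, ← Finset.sum_erase Finset.univ (a := (0 : R)) (by simp [MulChar.map_zero])]
        refine Eq.trans (Finset.sum_congr rfl fun x hx => ?_) (eq_neg_of_add_eq_zero_right h2)
        rw [MulChar.one_apply (Ne.isUnit (Finset.mem_erase.1 hx).1), one_mul]
      rw [h1]
      simp
    · rw [hfix a ha, card_bot, Nat.cast_one, mul_one, ← hcard, Nat.card_eq_fintype_card,
        ← Complex.ofReal_inj, Complex.ofReal_pow, ← Complex.mul_conj']
      have hg := gaussSum_mul_gaussSum_eq_card ha (AddChar.IsPrimitive.of_ne_one hψc)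
      have hconj : conj (gaussSum (χ a) (ψ.mulShift c)) =
          gaussSum (χ a)⁻¹ (ψ.mulShift c)⁻¹ := by
        simp only [gaussSum, map_sum, map_mul]
        refine Finset.sum_congr rfl fun x _ => ?_
        rw [AddChar.inv_apply, AddChar.map_neg_eq_conj, ← MulChar.star_apply']
        rfl
      rw [hconj, hg]
      push_cast
      rfl
  · intro h
    have hpW : (p : ℤ) ∣ (Nat.card W : ℤ) := by
      haveI : Nontrivial W := (nontrivial_iff_ne_bot W).2 hW
      obtain ⟨n, hn⟩ := IsPGroup.iff_card.1 (fun x : W => ⟨1, Subtype.ext (by simpa using he x x.2)⟩ :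
        IsPGroup p W)
      refine Int.natCast_dvd_natCast.2 (hn ▸ dvd_pow_self p fun h0 => ?_)
      have h1 := Finite.one_lt_card (α := W)
      rw [hn, h0, pow_zero] at h1
      exact lt_irrefl 1 h1
    have := dvd_add h hpW
    rw [sub_add_cancel] at this
    exact (Nat.prime_iff_prime_int.1 (Fact.out : p.Prime)).not_unit (isUnit_of_dvd_one this)
  · rw [hFval, show cast' (Multiplicative.toAdd (1 : Multiplicative (ZMod p))) = 0 from map_zero _,
      AddChar.mulShift_zero, (hχ1 1).2 (fun w _ => mem_centralizer_singleton_iff.2 (by simp))]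
    simp only [gaussSum, AddChar.one_apply, mul_one]
    rw [MulChar.sum_one_eq_card_units, Fintype.card_units, ← hcard, Nat.card_eq_fintype_card,
      Nat.cast_sub Fintype.card_pos]
    push_cast
    ring
  · rw [hFval, show cast' (Multiplicative.toAdd (1 : Multiplicative (ZMod p))) = 0 from map_zero _,
      AddChar.mulShift_zero]
    simp only [gaussSum, AddChar.one_apply, mul_one]
    rw [MulChar.sum_eq_zero_of_ne_one (fun h => ha ((hχ1 a).1 h)), neg_zero]

theorem good_of_abelian {p : ℕ} [Fact p.Prime] [Finite X] {A V : Subgroup X}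
    (hA : ∀ a ∈ A, ∀ b ∈ A, a * b = b * a)
    (hc : ∀ a ∈ V, ∀ b ∈ V, a * b = b * a) (he : ∀ a ∈ V, a ^ p = 1)
    (hcop : ¬ p ∣ Nat.card A) (hN : A ≤ normalizer (V : Set X)) : Good p A V := by
  induction hn : Nat.card V using Nat.strong_induction_on generalizing V with
  | _ n IH =>
    by_cases hV : V = ⊥
    · exact hV ▸ good_bot p A
    obtain ⟨W, ⟨hWV, hWN, hW⟩, hmin⟩ := (Set.toFinite
      {W : Subgroup X | W ≤ V ∧ A ≤ normalizer (W : Set X) ∧ W ≠ ⊥}).exists_minimal ⟨V, le_rfl, hN, hV⟩
    have hmin' : ∀ K ≤ W, A ≤ normalizer (K : Set X) → K ≠ ⊥ → K = W := fun K hK hKN hK1 =>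
      le_antisymm hK (hmin (y := K) ⟨hK.trans hWV, hKN, hK1⟩ hK)
    have gW : Good p A W := good_minimal hA (fun a ha b hb => hc a (hWV ha) b (hWV hb))
      (fun a ha => he a (hWV ha)) hWN hW hmin'
    obtain ⟨U₀, hU₀, hd₀, hs₀⟩ := exists_disjoint_complement hc he hWV
    haveI : IsMulCommutative V := ⟨⟨fun x y => Subtype.ext (hc x x.2 y y.2)⟩⟩
    have hcop' : (Nat.card A).Coprime (Nat.card W) := by
      obtain ⟨k, hk⟩ := IsPGroup.iff_card.1
        (fun x : W => ⟨1, Subtype.ext (by simpa using he x (hWV x.2))⟩ : IsPGroup p W)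
      rw [hk]
      exact (((Fact.out : p.Prime).coprime_iff_not_dvd.2 hcop).symm).pow_right k
    obtain ⟨U, hUV, hUN, hd, hs⟩ :=
      CoprimeAction.exists_invariant_complement hN hcop' hWV hWN hU₀ hd₀ hs₀
    have hlt : Nat.card U < n := by
      have hWU : ∀ h ∈ W, ∀ k ∈ U, h * k = k * h := fun h hh k hk => hc h (hWV hh) k (hUV hk)
      rw [← hn, ← hs, card_sup_of_commute hWU hd]
      exact lt_mul_of_one_lt_left Nat.card_pos ((one_lt_card_iff_ne_bot W).2 hW)
    have gU : Good p A U := IH _ hlt (fun a ha b hb => hc a (hUV ha) b (hUV hb))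
      (fun a ha => he a (hUV ha)) hUN rfl
    exact hs ▸ good_sup (fun u hu w hw => hc u (hWV hu) w (hUV hw)) hd hWN hUN gW gU

end Cfsg.Agent.KnorrKGV
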